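/-
Isomorphism invariance of the predicates on the list of known simple groups, and of the lists `C_p`, `T_p`.
-/
import Mathlib
import Cfsg.Prelude.Def_SevenCases

set_option autoImplicit false

namespace Cfsg.Agent.Lib.KnownIso

open Cfsg

universe u v

variable {G : Type u} {H : Type v} [Group G] [Group H]

theorem isPrimeCyclic_congr (e : G ≃* H) (h : IsPrimeCyclic H) : IsPrimeCyclic G := by
  unfold IsPrimeCyclic at *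
  rwa [Nat.card_congr e.toEquiv]

theorem isAlternating_congr (e : G ≃* H) : IsAlternating H → IsAlternating G :=
  fun ⟨n, h, ⟨f⟩⟩ => ⟨n, h, ⟨e.trans f⟩⟩

theorem isPSL_congr (e : G ≃* H) : IsPSL H → IsPSL G :=
  fun ⟨F, a, b, n, h1, h2, ⟨f⟩⟩ => ⟨F, a, b, n, h1, h2, ⟨e.trans f⟩⟩

theorem isPSp_congr (e : G ≃* H) : IsPSp H → IsPSp G :=
  fun ⟨F, a, b, n, h1, h2, ⟨f⟩⟩ => ⟨F, a, b, n, h1, h2, ⟨e.trans f⟩⟩

theorem isPSU_congr (e : G ≃* H) : IsPSU H → IsPSU G :=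
  fun ⟨F, a, b, n, q, h0, h1, h2, ⟨f⟩⟩ => ⟨F, a, b, n, q, h0, h1, h2, ⟨e.trans f⟩⟩

theorem isPOmegaOdd_congr (e : G ≃* H) : IsPOmegaOdd H → IsPOmegaOdd G :=
  fun ⟨F, a, b, n, h1, h2, ⟨f⟩⟩ => ⟨F, a, b, n, h1, h2, ⟨e.trans f⟩⟩

theorem isPOmegaPlus_congr (e : G ≃* H) : IsPOmegaPlus H → IsPOmegaPlus G :=
  fun ⟨F, a, b, n, h1, ⟨f⟩⟩ => ⟨F, a, b, n, h1, ⟨e.trans f⟩⟩

theorem isPOmegaMinus_congr (e : G ≃* H) : IsPOmegaMinus H → IsPOmegaMinus G :=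
  fun ⟨F, a, b, n, x, y, h1, h2, ⟨f⟩⟩ => ⟨F, a, b, n, x, y, h1, h2, ⟨e.trans f⟩⟩

theorem isoChevG2_congr (e : G ≃* H) : Lie.IsoChevG2 H → Lie.IsoChevG2 G :=
  fun ⟨F, a, b, h, ⟨f⟩⟩ => ⟨F, a, b, h, ⟨e.trans f⟩⟩

theorem isGroupOver_congr (D : Lie.ChevalleyDatum) (e : G ≃* H) : D.IsGroupOver H → D.IsGroupOver G :=
  fun ⟨F, a, b, ⟨f⟩⟩ => ⟨F, a, b, ⟨e.trans f⟩⟩

theorem iso2E6_congr (e : G ≃* H) : Lie.Iso2E6 H → Lie.Iso2E6 G :=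
  fun ⟨F, a, b, q, h1, h2, ⟨f⟩⟩ => ⟨F, a, b, q, h1, h2, ⟨e.trans f⟩⟩

theorem iso3D4_congr (e : G ≃* H) : Lie.Iso3D4 H → Lie.Iso3D4 G :=
  fun ⟨F, a, b, q, h1, h2, ⟨f⟩⟩ => ⟨F, a, b, q, h1, h2, ⟨e.trans f⟩⟩

theorem isoSuzuki_congr (e : G ≃* H) : Lie.IsoSuzuki H → Lie.IsoSuzuki G :=
  fun ⟨F, a, b, q, h1, h2, ⟨f⟩⟩ => ⟨F, a, b, q, h1, h2, ⟨e.trans f⟩⟩

theorem isoRee_congr (e : G ≃* H) : Lie.IsoRee H → Lie.IsoRee G :=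
  fun ⟨F, a, b, q, h1, h2, ⟨f⟩⟩ => ⟨F, a, b, q, h1, h2, ⟨e.trans f⟩⟩

theorem iso2F4_congr (e : G ≃* H) : Lie.Iso2F4 H → Lie.Iso2F4 G :=
  fun ⟨F, a, b, q, h1, h2, ⟨f⟩⟩ => ⟨F, a, b, q, h1, h2, ⟨e.trans f⟩⟩

theorem isoTits_congr (e : G ≃* H) : Lie.IsoTits H → Lie.IsoTits G :=
  fun ⟨f⟩ => ⟨e.trans f⟩

theorem isoSpor_J3_congr (e : G ≃* H) : Spor.IsoJ3 H → Spor.IsoJ3 G :=
  fun ⟨F, a, b, w, h1, h2, ⟨f⟩⟩ => ⟨F, a, b, w, h1, h2, ⟨e.trans f⟩⟩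

theorem isExceptionalLieType_congr (e : G ≃* H) : IsExceptionalLieType H → IsExceptionalLieType G := by
  unfold IsExceptionalLieType Lie.IsoF4 Lie.IsoChevE6 Lie.IsoE7 Lie.IsoE8
  rintro (h | h | h | h | h | h | h | h | h | h | h)
  · exact Or.inl (isoChevG2_congr e h)
  · exact Or.inr (Or.inl (isGroupOver_congr _ e h))
  · exact Or.inr (Or.inr (Or.inl (isGroupOver_congr _ e h)))
  · exact Or.inr (Or.inr (Or.inr (Or.inl (isGroupOver_congr _ e h))))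
  · exact Or.inr (Or.inr (Or.inr (Or.inr (Or.inl (isGroupOver_congr _ e h)))))
  · exact Or.inr (Or.inr (Or.inr (Or.inr (Or.inr (Or.inl (iso2E6_congr e h))))))
  · exact Or.inr (Or.inr (Or.inr (Or.inr (Or.inr (Or.inr (Or.inl (iso3D4_congr e h)))))))
  · exact Or.inr (Or.inr (Or.inr (Or.inr (Or.inr (Or.inr (Or.inr (Or.inl (isoSuzuki_congr e h))))))))
  · exact Or.inr (Or.inr (Or.inr (Or.inr (Or.inr (Or.inr (Or.inr (Or.inr (Or.inl (isoRee_congr e h)))))))))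
  · exact Or.inr (Or.inr (Or.inr (Or.inr (Or.inr (Or.inr (Or.inr (Or.inr (Or.inr (Or.inl (iso2F4_congr e h))))))))))
  · exact Or.inr (Or.inr (Or.inr (Or.inr (Or.inr (Or.inr (Or.inr (Or.inr (Or.inr (Or.inr (isoTits_congr e h))))))))))

theorem isoSpor_M11_congr (e : G ≃* H) : Spor.IsoM11 H → Spor.IsoM11 G :=
  fun ⟨f⟩ => ⟨e.trans f⟩

theorem isoSpor_M12_congr (e : G ≃* H) : Spor.IsoM12 H → Spor.IsoM12 G :=
  fun ⟨f⟩ => ⟨e.trans f⟩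

theorem isoSpor_M22_congr (e : G ≃* H) : Spor.IsoM22 H → Spor.IsoM22 G :=
  fun ⟨f⟩ => ⟨e.trans f⟩

theorem isoSpor_M23_congr (e : G ≃* H) : Spor.IsoM23 H → Spor.IsoM23 G :=
  fun ⟨f⟩ => ⟨e.trans f⟩

theorem isoSpor_M24_congr (e : G ≃* H) : Spor.IsoM24 H → Spor.IsoM24 G :=
  fun ⟨f⟩ => ⟨e.trans f⟩

theorem isoSpor_J1_congr (e : G ≃* H) : Spor.IsoJ1 H → Spor.IsoJ1 G :=
  fun ⟨f⟩ => ⟨e.trans f⟩

theorem isoSpor_J2_congr (e : G ≃* H) : Spor.IsoJ2 H → Spor.IsoJ2 G :=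
  fun ⟨f⟩ => ⟨e.trans f⟩

theorem isoSpor_J4_congr (e : G ≃* H) : Spor.IsoJ4 H → Spor.IsoJ4 G :=
  fun ⟨f⟩ => ⟨e.trans f⟩

theorem isoSpor_Co1_congr (e : G ≃* H) : Spor.IsoCo1 H → Spor.IsoCo1 G :=
  fun ⟨f⟩ => ⟨e.trans f⟩

theorem isoSpor_Co2_congr (e : G ≃* H) : Spor.IsoCo2 H → Spor.IsoCo2 G :=
  fun ⟨f⟩ => ⟨e.trans f⟩

theorem isoSpor_Co3_congr (e : G ≃* H) : Spor.IsoCo3 H → Spor.IsoCo3 G :=
  fun ⟨f⟩ => ⟨e.trans f⟩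

theorem isoSpor_McL_congr (e : G ≃* H) : Spor.IsoMcL H → Spor.IsoMcL G :=
  fun ⟨f⟩ => ⟨e.trans f⟩

theorem isoSpor_HS_congr (e : G ≃* H) : Spor.IsoHS H → Spor.IsoHS G :=
  fun ⟨f⟩ => ⟨e.trans f⟩

theorem isoSpor_Suz_congr (e : G ≃* H) : Spor.IsoSuz H → Spor.IsoSuz G :=
  fun ⟨f⟩ => ⟨e.trans f⟩

theorem isoSpor_He_congr (e : G ≃* H) : Spor.IsoHe H → Spor.IsoHe G :=
  fun ⟨f⟩ => ⟨e.trans f⟩

theorem isoSpor_Ru_congr (e : G ≃* H) : Spor.IsoRu H → Spor.IsoRu G :=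
  fun ⟨f⟩ => ⟨e.trans f⟩

theorem isoSpor_ON_congr (e : G ≃* H) : Spor.IsoON H → Spor.IsoON G :=
  fun ⟨f⟩ => ⟨e.trans f⟩

theorem isoSpor_Ly_congr (e : G ≃* H) : Spor.IsoLy H → Spor.IsoLy G :=
  fun ⟨f⟩ => ⟨e.trans f⟩

theorem isoSpor_Fi22_congr (e : G ≃* H) : Spor.IsoFi22 H → Spor.IsoFi22 G :=
  fun ⟨f⟩ => ⟨e.trans f⟩

theorem isoSpor_Fi23_congr (e : G ≃* H) : Spor.IsoFi23 H → Spor.IsoFi23 G :=
  fun ⟨f⟩ => ⟨e.trans f⟩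

theorem isoSpor_Fi24p_congr (e : G ≃* H) : Spor.IsoFi24' H → Spor.IsoFi24' G :=
  fun ⟨f⟩ => ⟨e.trans f⟩

theorem isoSpor_HN_congr (e : G ≃* H) : Spor.IsoHN H → Spor.IsoHN G :=
  fun ⟨f⟩ => ⟨e.trans f⟩

theorem isoSpor_Th_congr (e : G ≃* H) : Spor.IsoTh H → Spor.IsoTh G :=
  fun ⟨f⟩ => ⟨e.trans f⟩

theorem isoSpor_B_congr (e : G ≃* H) : Spor.IsoB H → Spor.IsoB G :=
  fun ⟨f⟩ => ⟨e.trans f⟩

theorem isoSpor_M_congr (e : G ≃* H) : Spor.IsoM H → Spor.IsoM G :=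
  fun ⟨f⟩ => ⟨e.trans f⟩

theorem isSporadicGroup_congr (e : G ≃* H) : IsSporadicGroup H → IsSporadicGroup G := by
  unfold IsSporadicGroup
  rintro (h | h | h | h | h | h | h | h | h | h | h | h | h | h | h | h | h | h | h | h | h | h | h | h | h | h)
  · exact Or.inl (isoSpor_M11_congr e h)
  · exact Or.inr (Or.inl (isoSpor_M12_congr e h))
  · exact Or.inr (Or.inr (Or.inl (isoSpor_M22_congr e h)))
  · exact Or.inr (Or.inr (Or.inr (Or.inl (isoSpor_M23_congr e h))))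
  · exact Or.inr (Or.inr (Or.inr (Or.inr (Or.inl (isoSpor_M24_congr e h)))))
  · exact Or.inr (Or.inr (Or.inr (Or.inr (Or.inr (Or.inl (isoSpor_J1_congr e h))))))
  · exact Or.inr (Or.inr (Or.inr (Or.inr (Or.inr (Or.inr (Or.inl (isoSpor_J2_congr e h)))))))
  · exact Or.inr (Or.inr (Or.inr (Or.inr (Or.inr (Or.inr (Or.inr (Or.inl (isoSpor_J3_congr e h))))))))
  · exact Or.inr (Or.inr (Or.inr (Or.inr (Or.inr (Or.inr (Or.inr (Or.inr (Or.inl (isoSpor_J4_congr e h)))))))))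
  · exact Or.inr (Or.inr (Or.inr (Or.inr (Or.inr (Or.inr (Or.inr (Or.inr (Or.inr (Or.inl (isoSpor_Co1_congr e h))))))))))
  · exact Or.inr (Or.inr (Or.inr (Or.inr (Or.inr (Or.inr (Or.inr (Or.inr (Or.inr (Or.inr (Or.inl (isoSpor_Co2_congr e h)))))))))))
  · exact Or.inr (Or.inr (Or.inr (Or.inr (Or.inr (Or.inr (Or.inr (Or.inr (Or.inr (Or.inr (Or.inr (Or.inl (isoSpor_Co3_congr e h))))))))))))
  · exact Or.inr (Or.inr (Or.inr (Or.inr (Or.inr (Or.inr (Or.inr (Or.inr (Or.inr (Or.inr (Or.inr (Or.inr (Or.inl (isoSpor_McL_congr e h)))))))))))))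
  · exact Or.inr (Or.inr (Or.inr (Or.inr (Or.inr (Or.inr (Or.inr (Or.inr (Or.inr (Or.inr (Or.inr (Or.inr (Or.inr (Or.inl (isoSpor_HS_congr e h))))))))))))))
  · exact Or.inr (Or.inr (Or.inr (Or.inr (Or.inr (Or.inr (Or.inr (Or.inr (Or.inr (Or.inr (Or.inr (Or.inr (Or.inr (Or.inr (Or.inl (isoSpor_Suz_congr e h)))))))))))))))
  · exact Or.inr (Or.inr (Or.inr (Or.inr (Or.inr (Or.inr (Or.inr (Or.inr (Or.inr (Or.inr (Or.inr (Or.inr (Or.inr (Or.inr (Or.inr (Or.inl (isoSpor_He_congr e h))))))))))))))))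
  · exact Or.inr (Or.inr (Or.inr (Or.inr (Or.inr (Or.inr (Or.inr (Or.inr (Or.inr (Or.inr (Or.inr (Or.inr (Or.inr (Or.inr (Or.inr (Or.inr (Or.inl (isoSpor_Ru_congr e h)))))))))))))))))
  · exact Or.inr (Or.inr (Or.inr (Or.inr (Or.inr (Or.inr (Or.inr (Or.inr (Or.inr (Or.inr (Or.inr (Or.inr (Or.inr (Or.inr (Or.inr (Or.inr (Or.inr (Or.inl (isoSpor_ON_congr e h))))))))))))))))))
  · exact Or.inr (Or.inr (Or.inr (Or.inr (Or.inr (Or.inr (Or.inr (Or.inr (Or.inr (Or.inr (Or.inr (Or.inr (Or.inr (Or.inr (Or.inr (Or.inr (Or.inr (Or.inr (Or.inl (isoSpor_Ly_congr e h)))))))))))))))))))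
  · exact Or.inr (Or.inr (Or.inr (Or.inr (Or.inr (Or.inr (Or.inr (Or.inr (Or.inr (Or.inr (Or.inr (Or.inr (Or.inr (Or.inr (Or.inr (Or.inr (Or.inr (Or.inr (Or.inr (Or.inl (isoSpor_Fi22_congr e h))))))))))))))))))))
  · exact Or.inr (Or.inr (Or.inr (Or.inr (Or.inr (Or.inr (Or.inr (Or.inr (Or.inr (Or.inr (Or.inr (Or.inr (Or.inr (Or.inr (Or.inr (Or.inr (Or.inr (Or.inr (Or.inr (Or.inr (Or.inl (isoSpor_Fi23_congr e h)))))))))))))))))))))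
  · exact Or.inr (Or.inr (Or.inr (Or.inr (Or.inr (Or.inr (Or.inr (Or.inr (Or.inr (Or.inr (Or.inr (Or.inr (Or.inr (Or.inr (Or.inr (Or.inr (Or.inr (Or.inr (Or.inr (Or.inr (Or.inr (Or.inl (isoSpor_Fi24p_congr e h))))))))))))))))))))))
  · exact Or.inr (Or.inr (Or.inr (Or.inr (Or.inr (Or.inr (Or.inr (Or.inr (Or.inr (Or.inr (Or.inr (Or.inr (Or.inr (Or.inr (Or.inr (Or.inr (Or.inr (Or.inr (Or.inr (Or.inr (Or.inr (Or.inr (Or.inl (isoSpor_HN_congr e h)))))))))))))))))))))))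
  · exact Or.inr (Or.inr (Or.inr (Or.inr (Or.inr (Or.inr (Or.inr (Or.inr (Or.inr (Or.inr (Or.inr (Or.inr (Or.inr (Or.inr (Or.inr (Or.inr (Or.inr (Or.inr (Or.inr (Or.inr (Or.inr (Or.inr (Or.inr (Or.inl (isoSpor_Th_congr e h))))))))))))))))))))))))
  · exact Or.inr (Or.inr (Or.inr (Or.inr (Or.inr (Or.inr (Or.inr (Or.inr (Or.inr (Or.inr (Or.inr (Or.inr (Or.inr (Or.inr (Or.inr (Or.inr (Or.inr (Or.inr (Or.inr (Or.inr (Or.inr (Or.inr (Or.inr (Or.inr (Or.inl (isoSpor_B_congr e h)))))))))))))))))))))))))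
  · exact Or.inr (Or.inr (Or.inr (Or.inr (Or.inr (Or.inr (Or.inr (Or.inr (Or.inr (Or.inr (Or.inr (Or.inr (Or.inr (Or.inr (Or.inr (Or.inr (Or.inr (Or.inr (Or.inr (Or.inr (Or.inr (Or.inr (Or.inr (Or.inr (Or.inr (isoSpor_M_congr e h)))))))))))))))))))))))))

theorem isKnownSimple_congr (e : G ≃* H) : IsKnownSimple' H → IsKnownSimple' G := by
  unfold IsKnownSimple'
  rintro (h | h | h | h | h | h | h | h | h | h)
  · exact Or.inl (isPrimeCyclic_congr e h)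
  · exact Or.inr (Or.inl (isAlternating_congr e h))
  · exact Or.inr (Or.inr (Or.inl (isPSL_congr e h)))
  · exact Or.inr (Or.inr (Or.inr (Or.inl (isPSp_congr e h))))
  · exact Or.inr (Or.inr (Or.inr (Or.inr (Or.inl (isPSU_congr e h)))))
  · exact Or.inr (Or.inr (Or.inr (Or.inr (Or.inr (Or.inl (isPOmegaOdd_congr e h))))))
  · exact Or.inr (Or.inr (Or.inr (Or.inr (Or.inr (Or.inr (Or.inl (isPOmegaPlus_congr e h)))))))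
  · exact Or.inr (Or.inr (Or.inr (Or.inr (Or.inr (Or.inr (Or.inr (Or.inl (isPOmegaMinus_congr e h))))))))
  · exact Or.inr (Or.inr (Or.inr (Or.inr (Or.inr (Or.inr (Or.inr (Or.inr (Or.inl (isExceptionalLieType_congr e h)))))))))
  · exact Or.inr (Or.inr (Or.inr (Or.inr (Or.inr (Or.inr (Or.inr (Or.inr (Or.inr (isSporadicGroup_congr e h)))))))))

end Cfsg.Agent.Lib.KnownIso
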