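import Mathlib
import Cfsg.Agent.Lib.FrobCompl
import Cfsg.Agent.Lib.PComplement
import Cfsg.Agent.Lib.Kegel

/-!
# Groups with cyclic or quaternion Sylow subgroups, at most one subgroup of order three, and no
subgroup of index two

Such a group of even order is soluble of order divisible by `9` and has a non-commutative
`2`-subgroup.
-/

set_option autoImplicit false
set_option linter.unusedSectionVars false
set_option linter.style.haveILetI false

namespace Cfsg.Agent.Lib.SharpIdx

universe u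

open QuaternionGroup

section Aut

/-- An automorphism of odd order of a cyclic `2`-group is trivial. -/
lemma aut_cyclic {U : Type*} [Group U] [Finite U] [IsCyclic U] (hU : IsPGroup 2 U) (α : MulAut U)
    {k : ℕ} (hk : Odd k) (hα : α ^ k = 1) : α = 1 := by
  obtain ⟨m, hm⟩ := IsPGroup.iff_card.mp hU
  have h1 : Nat.card (MulAut U) = Nat.totient (2 ^ m) := by rw [IsCyclic.card_mulAut, hm]
  have h2 : orderOf α ∣ Nat.card (MulAut U) := orderOf_dvd_natCard α
  have h3 : orderOf α ∣ k := orderOf_dvd_of_pow_eq_one hα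
  have h4 : ∃ j, Nat.totient (2 ^ m) = 2 ^ j := by
    rcases Nat.eq_zero_or_pos m with rfl | hm0
    · exact ⟨0, by simp⟩
    · obtain ⟨t, rfl⟩ : ∃ t, m = t + 1 := ⟨m - 1, by omega⟩
      refine ⟨t, ?_⟩
      rw [Nat.totient_prime_pow_succ Nat.prime_two]
      simp
  obtain ⟨j, hj⟩ := h4
  rw [h1, hj] at h2
  have h5 : Nat.Coprime (2 ^ j) k := Nat.Coprime.pow_left _ (Nat.coprime_two_left.mpr hk)
  have h6 : orderOf α = 1 := Nat.eq_one_of_dvd_coprimes h5 h2 h3
  exact orderOf_eq_one_iff.mp h6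

/-- The explicit form of a homomorphism out of a small quaternion group. -/
def ev {m : ℕ} [NeZero m] (A X : QuaternionGroup m) : QuaternionGroup m → QuaternionGroup m
  | a i => A ^ i.val
  | xa i => X * A ^ i.val

lemma ev_eq {m : ℕ} [NeZero m] (α : MulAut (QuaternionGroup m)) (y : QuaternionGroup m) :
    α y = ev (α (a 1)) (α (xa 0)) y := by
  cases y with
  | a i =>
    have : (a i : QuaternionGroup m) = (a 1) ^ i.val := by
      rw [a_one_pow, ZMod.natCast_zmod_val]
    show α (a i) = (α (a 1)) ^ i.val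
    rw [← map_pow, ← this]
  | xa i =>
    have : (xa i : QuaternionGroup m) = xa 0 * (a 1) ^ i.val := by
      rw [a_one_pow, ZMod.natCast_zmod_val, xa_mul_a, zero_add]
    show α (xa i) = α (xa 0) * (α (a 1)) ^ i.val
    rw [← map_pow, ← map_mul, ← this]

lemma iter_pow {G : Type*} [Group G] (α : MulAut G) (n : ℕ) (y : G) : (α ^ n) y = (⇑α)^[n] y := by
  induction n generalizing y with
  | zero => simp
  | succ n ih =>
    rw [pow_succ, Function.iterate_succ_apply]
    exact ih _

theorem check2 : ∀ A X : QuaternionGroup 2,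
    (∀ y z, ev A X (y * z) = ev A X y * ev A X z) → (∀ y z, ev A X y = ev A X z → y = z) →
      ∀ y, (ev A X)^[12] y = y := by
  decide +kernel

theorem check1 : ∀ A X : QuaternionGroup 1,
    (∀ y z, ev A X (y * z) = ev A X y * ev A X z) → (∀ y z, ev A X y = ev A X z → y = z) →
      ∀ y, (ev A X)^[12] y = y := by
  decide +kernel

lemma aut_two (α : MulAut (QuaternionGroup 2)) : α ^ 12 = 1 := by
  ext y
  rw [iter_pow, MulAut.one_apply]
  have h : (⇑α) = ev (α (a 1)) (α (xa 0)) := funext (ev_eq α)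
  have h2 := check2 (α (a 1)) (α (xa 0)) (fun y z => by rw [← h, map_mul])
    (fun y z hyz => by rw [← h] at hyz; exact α.injective hyz) y
  rw [← h] at h2
  exact h2

lemma aut_one (α : MulAut (QuaternionGroup 1)) : α ^ 12 = 1 := by
  ext y
  rw [iter_pow, MulAut.one_apply]
  have h : (⇑α) = ev (α (a 1)) (α (xa 0)) := funext (ev_eq α)
  have h2 := check1 (α (a 1)) (α (xa 0)) (fun y z => by rw [← h, map_mul])
    (fun y z hyz => by rw [← h] at hyz; exact α.injective hyz) y
  rw [← h] at h2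
  exact h2

/-- Odd order and dividing `12`. -/
lemma cube_of_twelve {G : Type*} [Group G] (x : G) (h12 : x ^ 12 = 1) {k : ℕ} (hk : Odd k)
    (hx : x ^ k = 1) : x ^ 3 = 1 := by
  have h1 : orderOf x ∣ 12 := orderOf_dvd_of_pow_eq_one h12
  have h2 : orderOf x ∣ k := orderOf_dvd_of_pow_eq_one hx
  have h3 : orderOf x ∣ Nat.gcd 12 k := Nat.dvd_gcd h1 h2
  have h4 : Nat.gcd 12 k ∣ 3 := by
    have h5 : Nat.Coprime 4 k := Nat.Coprime.pow_left 2 (Nat.coprime_two_left.mpr hk)
    have h6 : Nat.gcd (4 * 3) k ∣ 3 := by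
      exact (Nat.Coprime.gcd_mul_left_cancel 3 h5) ▸ Nat.gcd_dvd_left 3 k
    exact h6
  exact orderOf_dvd_iff_pow_eq_one.mp (h3.trans h4)

/-- An automorphism of odd order of a large generalised quaternion group is trivial. -/
lemma aut_large {n m : ℕ} (hm : m = 2 ^ n) (hn : 2 ≤ n) [NeZero m] (α : MulAut (QuaternionGroup m))
    {k : ℕ} (hk : Odd k) (hα : α ^ k = 1) : α = 1 := by
  classical
  have hm8 : 4 ≤ m := by
    rw [hm]
    calc 4 = 2 ^ 2 := by norm_num
      _ ≤ 2 ^ n := Nat.pow_le_pow_right (by norm_num) hn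
  -- `a 1` is moved inside the cyclic part
  have hord : orderOf (α (a 1)) = 2 * m := by
    rw [MulEquiv.orderOf_eq, orderOf_a_one]
  have hα1 : ∃ e : ZMod (2 * m), α (a 1) = a e := by
    cases h : α (a 1) with
    | a e => exact ⟨e, rfl⟩
    | xa i =>
      rw [h, orderOf_xa] at hord
      omega
  let M : Subgroup (QuaternionGroup m) := Subgroup.zpowers (a 1)
  have hmemM : ∀ i : ZMod (2 * m), (a i : QuaternionGroup m) ∈ M := by
    intro i
    have : (a i : QuaternionGroup m) = (a 1) ^ i.val := by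
      rw [a_one_pow, ZMod.natCast_zmod_val]
    rw [this]
    exact Subgroup.pow_mem _ (Subgroup.mem_zpowers _) _
  have hMα : ∀ x ∈ M, α x ∈ M := by
    rintro x ⟨t, rfl⟩
    obtain ⟨e, he⟩ := hα1
    simp only [map_zpow, he]
    exact Subgroup.zpow_mem _ (hmemM e) _
  let β : MulAut M := Cfsg.Agent.Lib.Kegel.restr α M hMα
  have hβk : β ^ k = 1 := by
    ext x
    have h1 := Cfsg.Agent.Lib.Kegel.coe_restr_pow α M hMα k x
    rw [h1, hα]
    rfl
  have hMp : IsPGroup 2 M := by
    apply IsPGroup.of_card (n := n + 1)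
    rw [Nat.card_zpowers, orderOf_a_one, pow_succ, mul_comm, hm]
  have hβ1 : β = 1 := aut_cyclic hMp β hk hβk
  have hfixM : ∀ x ∈ M, α x = x := by
    intro x hx
    have h1 := congrArg (fun f : MulAut M => ((f ⟨x, hx⟩ : M) : QuaternionGroup m)) hβ1
    exact h1
  have hαa : ∀ i : ZMod (2 * m), α (a i) = a i := fun i => hfixM _ (hmemM i)
  -- `xa 0`
  have hαx : ∃ j : ZMod (2 * m), α (xa 0) = xa j := by
    cases h : α (xa 0) with
    | a e =>
      exfalso
      have h2 : α (xa 0) = α (a e) := by rw [h, hαa]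
      have h3 := α.injective h2
      cases h3
    | xa j => exact ⟨j, rfl⟩
  obtain ⟨j, hj⟩ := hαx
  have hαxa : ∀ i : ZMod (2 * m), α (xa i) = xa (j + i) := by
    intro i
    have h1 : (xa i : QuaternionGroup m) = xa 0 * a i := by rw [xa_mul_a, zero_add]
    rw [h1, map_mul, hj, hαa, xa_mul_a]
  have hiter : ∀ t : ℕ, (α ^ t) (xa 0) = xa ((t : ZMod (2 * m)) * j) := by
    intro t
    induction t with
    | zero => simp
    | succ t ih =>
      rw [pow_succ']
      show α ((α ^ t) (xa 0)) = _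
      rw [ih, hαxa]
      congr 1
      push_cast
      ring
  have hkj : (k : ZMod (2 * m)) * j = 0 := by
    have h1 := hiter k
    rw [hα] at h1
    have h2 : (xa 0 : QuaternionGroup m) = xa ((k : ZMod (2 * m)) * j) := h1
    exact (xa.inj h2).symm
  have hunit : IsUnit (k : ZMod (2 * m)) := by
    rw [ZMod.isUnit_iff_coprime]
    have : 2 * m = 2 ^ (n + 1) := by rw [hm, pow_succ]; ring
    rw [this]
    exact Nat.Coprime.pow_right _ (Nat.coprime_two_right.mpr hk)
  have hj0 : j = 0 := by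
    have := hunit.mul_left_cancel (a := (k : ZMod (2 * m))) (b := j) (c := 0) (by rw [hkj, mul_zero])
    exact this
  ext y
  cases y with
  | a i => rw [hαa]; rfl
  | xa i => rw [hαxa, hj0, zero_add]; rfl

/-- An automorphism of odd order of a generalised quaternion group has order dividing `3`. -/
lemma aut_quat (n : ℕ) [NeZero (2 ^ n)] (α : MulAut (QuaternionGroup (2 ^ n))) {k : ℕ} (hk : Odd k)
    (hα : α ^ k = 1) : α ^ 3 = 1 := by
  rcases n with _ | _ | n
  · exact cube_of_twelve α (aut_one α) hk hα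
  · exact cube_of_twelve α (aut_two α) hk hα
  · rw [aut_large rfl (by omega : 2 ≤ n + 1 + 1) α hk hα, one_pow]

end Aut

section Index

variable {H : Type u} [Group H] [Finite H]

/-- A surjection onto a non-trivial `2`-group gives a subgroup of index `2`. -/
lemma exists_index_two_of_surj {I : Type*} [Group I] [Finite I] [Nontrivial I] (hI : IsPGroup 2 I)
    (f : H →* I) (hf : Function.Surjective f) : ∃ N : Subgroup H, N.index = 2 := by
  obtain ⟨m, hm⟩ := IsPGroup.iff_card.mp hI
  have hm0 : m ≠ 0 := by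
    rintro rfl
    have := Finite.one_lt_card (α := I)
    rw [hm] at this
    simp at this
  obtain ⟨t, rfl⟩ : ∃ t, m = t + 1 := ⟨m - 1, by omega⟩
  obtain ⟨K, hK⟩ := Sylow.exists_subgroup_card_pow_prime (G := I) 2 (n := t)
    (by rw [hm]; exact pow_dvd_pow _ (by omega))
  refine ⟨K.comap f, ?_⟩
  rw [Subgroup.index_comap_of_surjective K hf]
  have h1 := K.card_mul_index
  rw [hK, hm, pow_succ] at h1
  have h2 : 0 < 2 ^ t := by positivity
  exact (Nat.eq_of_mul_eq_mul_left h2 h1).symm ▸ rfl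

/-- A homomorphism with commutative image, non-trivial on a `2`-element, gives a subgroup of index
`2`. -/
lemma exists_index_two_of_comm {Q : Type*} [Group Q] (f : H →* Q)
    (hcomm : ∀ x y : H, f x * f y = f y * f x) {u : H} {j : ℕ} (hu : u ^ 2 ^ j = 1) (hfu : f u ≠ 1) :
    ∃ N : Subgroup H, N.index = 2 := by
  classical
  -- the odd part of the exponent
  obtain ⟨e, c, hc, he⟩ := Nat.exists_eq_two_pow_mul_odd (n := Nat.card H) Nat.card_pos.ne'
  -- the map `x ↦ (f x)^c`
  let g : H →* Q :=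
    { toFun := fun x => f x ^ c
      map_one' := by simp
      map_mul' := fun x y => by
        rw [map_mul, (show Commute (f x) (f y) from hcomm x y).mul_pow] }
  have hg : ∀ x, g x = f x ^ c := fun _ => rfl
  let I : Subgroup Q := g.range
  have hIp : IsPGroup 2 I := by
    intro x
    obtain ⟨_, ⟨y, rfl⟩⟩ := x
    refine ⟨e, ?_⟩
    apply Subtype.ext
    show (g y) ^ 2 ^ e = 1
    rw [hg, ← pow_mul, ← map_pow, mul_comm, ← he, pow_card_eq_one', map_one]
  have hgu : g u ≠ 1 := by
    intro h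
    rw [hg] at h
    have h2 : f u ^ 2 ^ j = 1 := by rw [← map_pow, hu, map_one]
    have h3 : orderOf (f u) ∣ c := orderOf_dvd_of_pow_eq_one h
    have h4 : orderOf (f u) ∣ 2 ^ j := orderOf_dvd_of_pow_eq_one h2
    have h5 : Nat.Coprime (2 ^ j) c := Nat.Coprime.pow_left _ (Nat.coprime_two_left.mpr hc)
    exact hfu (orderOf_eq_one_iff.mp (Nat.eq_one_of_dvd_coprimes h5 h4 h3))
  haveI : Finite I := by
    have : Finite g.range := by
      exact Set.finite_range g |>.to_subtype
    exact this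
  haveI : Nontrivial I := ⟨⟨⟨g u, ⟨u, rfl⟩⟩, 1, fun h => hgu (congrArg Subtype.val h)⟩⟩
  exact exists_index_two_of_surj hIp g.rangeRestrict g.rangeRestrict_surjective

/-- The condition on the `p`-subgroups of a Frobenius complement. -/
def QC (H : Type u) [Group H] : Prop :=
  ∀ (A : Subgroup H) (q : ℕ) [Fact q.Prime], IsPGroup q A →
    IsCyclic A ∨ (q = 2 ∧ ∃ n : ℕ, Nonempty (A ≃* QuaternionGroup (2 ^ n)))

lemma QC.subgroup (hQ : QC H) (L : Subgroup H) : QC L := by
  intro A q _ hA
  have hA' : IsPGroup q (A.map L.subtype) := hA.map _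
  let e : A ≃* A.map L.subtype := A.equivMapOfInjective L.subtype L.subtype_injective
  rcases hQ _ q hA' with h | ⟨h1, n, ⟨e2⟩⟩
  · left
    exact isCyclic_of_surjective e.symm e.symm.surjective
  · right
    exact ⟨h1, n, ⟨e.trans e2⟩⟩

/-- The conjugation action on a normalised subgroup. -/
lemma conj_aut (U : Subgroup H) {g : H} (hg : g ∈ Subgroup.normalizer (U : Set H)) :
    ∀ x ∈ U, MulAut.conj g x ∈ U := by
  intro x hx
  rw [Subgroup.mem_normalizer_iff] at hg
  exact (hg x).1 hx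

/-- An element of odd order normalising a `2`-subgroup acts on it with order dividing `3`. -/
theorem cube_mem_centralizer (hQ : QC H) (U : Subgroup H) (hU : IsPGroup 2 U) {g : H}
    (hg : g ∈ Subgroup.normalizer (U : Set H)) (hodd : Odd (orderOf g)) :
    g ^ 3 ∈ Subgroup.centralizer (U : Set H) := by
  classical
  have hcU := conj_aut U hg
  let α : MulAut U := Cfsg.Agent.Lib.Kegel.restr (MulAut.conj g) U hcU
  have hαp : ∀ (i : ℕ) (x : U), (((α ^ i) x : U) : H) = g ^ i * x * (g ^ i)⁻¹ := by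
    intro i x
    have h1 := Cfsg.Agent.Lib.Kegel.coe_restr_pow (MulAut.conj g) U hcU i x
    rw [h1, ← map_pow, MulAut.conj_apply]
  have hαk : α ^ orderOf g = 1 := by
    ext x
    rw [hαp, pow_orderOf_eq_one]
    simp
  have hα3 : α ^ 3 = 1 := by
    rcases hQ U 2 hU with h | ⟨-, n, ⟨e⟩⟩
    · rw [aut_cyclic hU α hodd hαk, one_pow]
    · let β : MulAut (QuaternionGroup (2 ^ n)) := MulAut.congr e α
      have hβk : β ^ orderOf g = 1 := by
        rw [← map_pow, hαk, map_one]
      have hβ3 := aut_quat n β hodd hβk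
      have h5 : MulAut.congr e (α ^ 3) = 1 := by
        rw [map_pow]
        exact hβ3
      exact (map_eq_one_iff (MulAut.congr e) (MulAut.congr e).injective).mp h5
  rw [Subgroup.mem_centralizer_iff]
  intro x hx
  have h1 := hαp 3 ⟨x, hx⟩
  rw [hα3] at h1
  have h2 : x = g ^ 3 * x * (g ^ 3)⁻¹ := h1
  calc x * g ^ 3 = (g ^ 3 * x * (g ^ 3)⁻¹) * g ^ 3 := by rw [← h2]
    _ = g ^ 3 * x := by group

/-- Odd order prime to `3`: centralises. -/
theorem mem_centralizer_of_coprime_three (hQ : QC H) (U : Subgroup H) (hU : IsPGroup 2 U) {g : H}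
    (hg : g ∈ Subgroup.normalizer (U : Set H)) (hodd : Odd (orderOf g)) (h3 : ¬ 3 ∣ orderOf g) :
    g ∈ Subgroup.centralizer (U : Set H) := by
  have h1 := cube_mem_centralizer hQ U hU hg hodd
  have hc : Nat.Coprime (orderOf g) 3 := by
    rw [Nat.coprime_comm]
    exact (Nat.Prime.coprime_iff_not_dvd Nat.prime_three).mpr h3
  have h2 : g ∈ Subgroup.zpowers (g ^ 3) := by
    rw [Subgroup.mem_zpowers_iff]
    obtain ⟨c, hc⟩ := exists_pow_eq_self_of_coprime hc.symm
    exact ⟨c, by rw [zpow_natCast]; exact hc⟩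
  exact (Subgroup.zpowers_le.mpr h1) h2

/-- A commutative subgroup is cyclic. -/
lemma cyclic_of_comm (hQ : QC H) (U : Subgroup H) (hU : IsPGroup 2 U)
    (hc : ∀ x ∈ U, ∀ y ∈ U, x * y = y * x) : IsCyclic U := by
  rcases hQ U 2 hU with h | ⟨-, n, ⟨e⟩⟩
  · exact h
  · rcases n with _ | n
    · have hc1 : IsCyclic (QuaternionGroup (2 ^ 0)) := by
        apply isCyclic_of_orderOf_eq_card (xa 0)
        rw [orderOf_xa, Nat.card_eq_fintype_card, QuaternionGroup.card]
        norm_num
      exact isCyclic_of_surjective e.symm e.symm.surjective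
    · exfalso
      have h1 := hc (e.symm (a 1)) (e.symm (a 1)).2 (e.symm (xa 0)) (e.symm (xa 0)).2
      have h2 : e.symm (a 1) * e.symm (xa 0) = e.symm (xa 0) * e.symm (a 1) := Subtype.ext h1
      rw [← map_mul, ← map_mul] at h2
      have h3 := e.symm.injective h2
      rw [a_mul_xa, xa_mul_a] at h3
      have h4 := xa.inj h3
      have h5 : (2 : ZMod (2 * 2 ^ (n + 1))) = 0 := by
        have : (0 : ZMod (2 * 2 ^ (n + 1))) - 1 = 0 + 1 := h4
        have h6 : (2 : ZMod (2 * 2 ^ (n + 1))) = (0 + 1) - (0 - 1) := by ring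
        rw [h6, this]; ring
      have h7 : (2 * 2 ^ (n + 1)) ∣ 2 := by
        have := (ZMod.natCast_eq_zero_iff 2 (2 * 2 ^ (n + 1))).mp (by exact_mod_cast h5)
        exact this
      have h8 := Nat.le_of_dvd (by norm_num) h7
      have h9 : 1 ≤ 2 ^ n := Nat.one_le_two_pow
      rw [pow_succ] at h8
      omega

/-- The centraliser of a cyclic `2`-group contains the odd order elements of its normaliser. -/
theorem mem_centralizer_of_cyclic (U : Subgroup H) (hU : IsPGroup 2 U) [IsCyclic U] {g : H}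
    (hg : g ∈ Subgroup.normalizer (U : Set H)) (hodd : Odd (orderOf g)) :
    g ∈ Subgroup.centralizer (U : Set H) := by
  have hcU := conj_aut U hg
  let α : MulAut U := Cfsg.Agent.Lib.Kegel.restr (MulAut.conj g) U hcU
  have hαp : ∀ (i : ℕ) (x : U), (((α ^ i) x : U) : H) = g ^ i * x * (g ^ i)⁻¹ := by
    intro i x
    have h1 := Cfsg.Agent.Lib.Kegel.coe_restr_pow (MulAut.conj g) U hcU i x
    rw [h1, ← map_pow, MulAut.conj_apply]
  have hαk : α ^ orderOf g = 1 := by
    ext x
    rw [hαp, pow_orderOf_eq_one]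
    simp
  have hα1 := aut_cyclic hU α hodd hαk
  rw [Subgroup.mem_centralizer_iff]
  intro x hx
  have h1 := hαp 1 ⟨x, hx⟩
  rw [pow_one, pow_one, hα1] at h1
  have h2 : x = g * x * g⁻¹ := h1
  calc x * g = (g * x * g⁻¹) * g := by rw [← h2]
    _ = g * x := by group

/-- The main theorem of this file. -/
theorem main_abstract (hQ : QC H) (h2 : 2 ∣ Nat.card H)
    (h3 : ∀ A B : Subgroup H, Nat.card A = 3 → Nat.card B = 3 → A = B)
    (hno : ∀ N : Subgroup H, N.index ≠ 2) :
    9 ∣ Nat.card H ∧ Group.IsSolvable H ∧ ∃ U : Subgroup H, IsPGroup 2 U ∧ ∃ x ∈ U, ∃ y ∈ U, x * y ≠ y * x := by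
  classical
  haveI hf2 : Fact (Nat.Prime 2) := ⟨Nat.prime_two⟩
  haveI hf3 : Fact (Nat.Prime 3) := ⟨Nat.prime_three⟩
  -- no normal `2`-complement
  have hnpc : ¬ Cfsg.HasNormalPComplement 2 H := by
    rintro ⟨P, N, hN, hc⟩
    haveI := hN
    have hcard : N.index = Nat.card P := hc.symm.index_eq_card
    have hP1 : (P : Subgroup H) ≠ ⊥ := P.ne_bot_of_dvd_card h2
    have hI : IsPGroup 2 (H ⧸ N) := by
      obtain ⟨m, hm⟩ := IsPGroup.iff_card.mp P.isPGroup'
      apply IsPGroup.of_card (n := m)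
      rw [← Subgroup.index_eq_card, hcard, hm]
    haveI : Nontrivial (H ⧸ N) := by
      rw [← Finite.one_lt_card_iff_nontrivial, ← Subgroup.index_eq_card, hcard]
      have h4 : Nat.card P ≠ 1 := by
        intro h
        exact hP1 (Subgroup.card_eq_one.mp h)
      have h5 : 0 < Nat.card P := Nat.card_pos
      omega
    obtain ⟨M, hM⟩ := exists_index_two_of_surj hI (QuotientGroup.mk' N) (QuotientGroup.mk'_surjective N)
    exact hno M hM
  rw [Cfsg.Agent.Lib.PComplement.hasNormalPComplement_iff_forall] at hnpc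
  push Not at hnpc
  obtain ⟨U, hU, g, hg, hgc, hgC⟩ := hnpc
  have hodd : Odd (orderOf g) := Nat.coprime_two_right.mp hgc
  -- `U` is not commutative
  have hUnc : ∃ x ∈ U, ∃ y ∈ U, x * y ≠ y * x := by
    by_contra hcon
    push Not at hcon
    haveI := cyclic_of_comm hQ U hU hcon
    exact hgC (mem_centralizer_of_cyclic U hU hg hodd)
  -- the `3`-part
  obtain ⟨s, m, hm3, ho⟩ := Nat.exists_eq_pow_mul_and_not_dvd (n := orderOf g)
    (orderOf_pos g).ne' 3 (by norm_num)
  have hm0 : m ≠ 0 := by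
    rintro rfl
    simp at hm3
  have hmd : m ∣ orderOf g := ⟨3 ^ s, by rw [ho]; ring⟩
  set y := g ^ m with hy
  have hyord : orderOf y = 3 ^ s := by
    rw [hy, orderOf_pow_of_dvd hm0 hmd, ho]
    exact Nat.mul_div_cancel _ (Nat.pos_of_ne_zero hm0)
  have hyN : y ∈ Subgroup.normalizer (U : Set H) := Subgroup.pow_mem _ hg _
  have hyC : y ∉ Subgroup.centralizer (U : Set H) := by
    intro hyC
    apply hgC
    have h1 := cube_mem_centralizer hQ U hU hg hodd
    have hcop : Nat.Coprime m 3 := by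
      rw [Nat.coprime_comm]
      exact (Nat.Prime.coprime_iff_not_dvd Nat.prime_three).mpr hm3
    have h4 : g = (g ^ m) ^ (Nat.gcdA m 3) * (g ^ 3) ^ (Nat.gcdB m 3) := by
      have h5 : ((Nat.gcd m 3 : ℕ) : ℤ) = m * Nat.gcdA m 3 + 3 * Nat.gcdB m 3 := Nat.gcd_eq_gcd_ab m 3
      rw [hcop] at h5
      have h5' : (1 : ℤ) = (m : ℤ) * Nat.gcdA m 3 + ((3 : ℕ) : ℤ) * Nat.gcdB m 3 := by
        exact_mod_cast h5
      calc g = g ^ (1 : ℤ) := (zpow_one g).symm
        _ = g ^ ((m : ℤ) * Nat.gcdA m 3 + ((3 : ℕ) : ℤ) * Nat.gcdB m 3) := by rw [← h5']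
        _ = _ := by rw [zpow_add, zpow_mul, zpow_mul, zpow_natCast, zpow_natCast]
    rw [h4]
    exact Subgroup.mul_mem _ (Subgroup.zpow_mem _ hyC _) (Subgroup.zpow_mem _ h1 _)
  have hs0 : s ≠ 0 := by
    rintro rfl
    rw [pow_zero, orderOf_eq_one_iff] at hyord
    apply hyC
    rw [hyord]
    exact Subgroup.one_mem _
  -- case of order `3`
  have hs1 : s ≠ 1 := by
    rintro rfl
    rw [pow_one] at hyord
    apply hyC
    rw [Subgroup.mem_centralizer_iff]
    intro u hu
    have huU : u ∈ U := hu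
    have h4 : Nat.card (Subgroup.zpowers (u * y * u⁻¹)) = 3 := by
      rw [Nat.card_zpowers, ← MulAut.conj_apply, MulEquiv.orderOf_eq, hyord]
    have h5 : Nat.card (Subgroup.zpowers y) = 3 := by
      rw [Nat.card_zpowers, hyord]
    have h6 := h3 _ _ h4 h5
    have h7 : u * y * u⁻¹ ∈ Subgroup.zpowers y := by
      rw [← h6]; exact Subgroup.mem_zpowers _
    have hc1 : (u * y * u⁻¹) * y⁻¹ ∈ Subgroup.zpowers y :=
      Subgroup.mul_mem _ h7 (Subgroup.inv_mem _ (Subgroup.mem_zpowers _))
    have hc2 : (u * y * u⁻¹) * y⁻¹ ∈ U := by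
      have h8 : y * u⁻¹ * y⁻¹ ∈ U := conj_aut U hyN _ (U.inv_mem huU)
      have h9 : (u * y * u⁻¹) * y⁻¹ = u * (y * u⁻¹ * y⁻¹) := by group
      rw [h9]
      exact U.mul_mem huU h8
    have hc3 : ((u * y * u⁻¹) * y⁻¹) ^ 3 = 1 := by
      obtain ⟨t, ht⟩ := hc1
      rw [← ht, ← zpow_natCast, ← zpow_mul, mul_comm, zpow_mul, zpow_natCast]
      rw [← hyord, pow_orderOf_eq_one, one_zpow]
    have hc4 : (u * y * u⁻¹) * y⁻¹ = 1 := by
      obtain ⟨j, hj⟩ := (IsPGroup.iff_orderOf.mp hU) ⟨_, hc2⟩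
      have hj' : ((u * y * u⁻¹) * y⁻¹) ^ 2 ^ j = 1 := by
        have := orderOf_submonoid (⟨_, hc2⟩ : U)
        have h10 := pow_orderOf_eq_one (⟨_, hc2⟩ : U)
        rw [hj] at h10
        exact congrArg Subtype.val h10
      have h11 : orderOf ((u * y * u⁻¹) * y⁻¹) ∣ 3 := orderOf_dvd_of_pow_eq_one hc3
      have h12 : orderOf ((u * y * u⁻¹) * y⁻¹) ∣ 2 ^ j := orderOf_dvd_of_pow_eq_one hj'
      have h13 : Nat.Coprime (2 ^ j) 3 := Nat.Coprime.pow_left _ (by norm_num)
      exact orderOf_eq_one_iff.mp (Nat.eq_one_of_dvd_coprimes h13 h12 h11)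
    rw [mul_inv_eq_one] at hc4
    calc u * y = (u * y * u⁻¹) * u := by group
      _ = y * u := by rw [hc4]
  have hs2 : 2 ≤ s := by omega
  refine ⟨?_, ?_, U, hU, hUnc⟩
  · -- `9 ∣ |H|`
    calc 9 = 3 ^ 2 := by norm_num
      _ ∣ 3 ^ s := pow_dvd_pow _ hs2
      _ = orderOf y := hyord.symm
      _ ∣ Nat.card H := orderOf_dvd_natCard y
  -- solubility
  have h3d : 3 ∣ orderOf y := by rw [hyord]; exact dvd_pow_self _ hs0
  set θ := y ^ (orderOf y / 3) with hθ
  have hθord : orderOf θ = 3 := orderOf_pow_orderOf_div (orderOf_pos y).ne' h3d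
  -- `θ` is unique
  have huniq : ∀ t : H, orderOf t = 3 → t ∈ Subgroup.zpowers θ := by
    intro t ht
    have h4 : Nat.card (Subgroup.zpowers t) = 3 := by rw [Nat.card_zpowers, ht]
    have h5 : Nat.card (Subgroup.zpowers θ) = 3 := by rw [Nat.card_zpowers, hθord]
    rw [← h3 _ _ h4 h5]
    exact Subgroup.mem_zpowers _
  have hθ1 : θ ≠ 1 := by
    intro h
    rw [h, orderOf_one] at hθord
    omega
  have hθinv : θ⁻¹ ≠ θ := by
    intro h
    have h4 : θ ^ 2 = 1 := by
      rw [pow_two]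
      nth_rewrite 1 [← h]
      exact inv_mul_cancel θ
    have h5 := orderOf_dvd_of_pow_eq_one h4
    rw [hθord] at h5
    omega
  have hzp3 : ∀ t ∈ Subgroup.zpowers θ, t = 1 ∨ t = θ ∨ t = θ⁻¹ := by
    intro t ht
    rw [Subgroup.mem_zpowers_iff] at ht
    obtain ⟨c, rfl⟩ := ht
    have h4 : θ ^ c = θ ^ (c % 3) := by
      rw [← zpow_mod_orderOf, hθord]
      rfl
    have h5 : 0 ≤ c % 3 := Int.emod_nonneg _ (by norm_num)
    have h6 : c % 3 < 3 := Int.emod_lt_of_pos _ (by norm_num)
    have h7 : θ ^ 3 = 1 := by rw [← hθord]; exact pow_orderOf_eq_one θ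
    have h8 : θ ^ 2 = θ⁻¹ := by
      rw [eq_inv_iff_mul_eq_one, ← pow_succ]
      exact h7
    obtain h9 | h9 | h9 : c % 3 = 0 ∨ c % 3 = 1 ∨ c % 3 = 2 := by omega
    · left; rw [h4, h9]; simp
    · right; left; rw [h4, h9]; simp
    · right; right; rw [h4, h9]; exact_mod_cast h8
  have hconj : ∀ g' : H, g' * θ * g'⁻¹ = θ ∨ g' * θ * g'⁻¹ = θ⁻¹ := by
    intro g'
    have h4 : orderOf (g' * θ * g'⁻¹) = 3 := by
      rw [← MulAut.conj_apply, MulEquiv.orderOf_eq, hθord]
    rcases hzp3 _ (huniq _ h4) with h5 | h5 | h5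
    · exfalso
      rw [h5, orderOf_one] at h4
      omega
    · exact Or.inl h5
    · exact Or.inr h5
  have hcentral : ∀ g' : H, g' * θ * g'⁻¹ = θ := by
    by_contra hcon
    push Not at hcon
    obtain ⟨g₀, hg₀⟩ := hcon
    have hg₀' : g₀ * θ * g₀⁻¹ = θ⁻¹ := (hconj g₀).resolve_left hg₀
    apply hno (Subgroup.centralizer ({θ} : Set H))
    rw [Subgroup.index_eq_two_iff]
    refine ⟨g₀, fun b => ?_⟩
    have hmem : ∀ b : H, b ∈ Subgroup.centralizer ({θ} : Set H) ↔ b * θ * b⁻¹ = θ := by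
      intro b
      rw [Subgroup.mem_centralizer_singleton_iff]
      constructor
      · intro h
        rw [h, mul_inv_cancel_right]
      · intro h
        calc b * θ = (b * θ * b⁻¹) * b := by group
          _ = θ * b := by rw [h]
    rw [hmem, hmem]
    have hmul : b * g₀ * θ * (b * g₀)⁻¹ = b * (g₀ * θ * g₀⁻¹) * b⁻¹ := by group
    rw [hmul, hg₀']
    have hinv : b * θ⁻¹ * b⁻¹ = (b * θ * b⁻¹)⁻¹ := by group
    rw [hinv]
    rcases hconj b with h | h
    · rw [h]
      exact Or.inr ⟨rfl, hθinv⟩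
    · rw [h, inv_inv]
      exact Or.inl ⟨rfl, hθinv⟩
  -- the Sylow `3`-subgroup
  have hyp : IsPGroup 3 (Subgroup.zpowers y) := by
    apply IsPGroup.of_card (n := s)
    rw [Nat.card_zpowers, hyord]
  obtain ⟨Z, hZ⟩ := hyp.exists_le_sylow
  have hZc : IsCyclic (Z : Subgroup H) := by
    rcases hQ (Z : Subgroup H) 3 Z.isPGroup' with h | ⟨h, -⟩
    · exact h
    · omega
  have hZcomm : ∀ x ∈ (Z : Subgroup H), ∀ x' ∈ (Z : Subgroup H), x * x' = x' * x := by
    intro x hx x' hx'
    have := (IsCyclic.commGroup (α := (Z : Subgroup H))).mul_comm ⟨x, hx⟩ ⟨x', hx'⟩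
    exact congrArg Subtype.val this
  have hP : Subgroup.normalizer ((Z : Subgroup H) : Set H) ≤ Subgroup.centralizer ((Z : Subgroup H) : Set H) := by
    intro g' hg'
    -- split off the `3`-part of the order
    obtain ⟨u, w, hw3, hog⟩ := Nat.exists_eq_pow_mul_and_not_dvd (n := orderOf g')
      (orderOf_pos g').ne' 3 (by norm_num)
    have hw0 : w ≠ 0 := by
      rintro rfl
      simp at hw3
    have hcZ := conj_aut (Z : Subgroup H) hg'
    let β : MulAut (Z : Subgroup H) := Cfsg.Agent.Lib.Kegel.restr (MulAut.conj g') _ hcZ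
    have hβp : ∀ (i : ℕ) (x : (Z : Subgroup H)),
        (((β ^ i) x : (Z : Subgroup H)) : H) = g' ^ i * x * (g' ^ i)⁻¹ := by
      intro i x
      have h1 := Cfsg.Agent.Lib.Kegel.coe_restr_pow (MulAut.conj g') _ hcZ i x
      rw [h1, ← map_pow, MulAut.conj_apply]
    have hgw : g' ^ w ∈ (Z : Subgroup H) := by
      have hpw : IsPGroup 3 (Subgroup.zpowers (g' ^ w)) := by
        apply IsPGroup.of_card (n := u)
        rw [Nat.card_zpowers, orderOf_pow_of_dvd hw0 ⟨3 ^ u, by rw [hog]; ring⟩, hog]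
        exact Nat.mul_div_cancel _ (Nat.pos_of_ne_zero hw0)
      have h4 := hpw.inf_normalizer_sylow Z
      have h5 : g' ^ w ∈ Subgroup.zpowers (g' ^ w) ⊓ Subgroup.normalizer (Z : Set H) :=
        ⟨Subgroup.mem_zpowers _, Subgroup.pow_mem _ hg' _⟩
      rw [h4] at h5
      exact h5.2
    have hβw : β ^ w = 1 := by
      ext x
      rw [hβp]
      have h6 := hZcomm _ hgw _ x.2
      rw [h6, mul_inv_cancel_right]
      rfl
    obtain ⟨k, hk⟩ := IsPGroup.iff_card.mp Z.isPGroup'
    have hβ2 : β ^ 2 = 1 := by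
      have h6 : orderOf β ∣ Nat.card (MulAut (Z : Subgroup H)) := orderOf_dvd_natCard β
      haveI := hZc
      rw [IsCyclic.card_mulAut, hk] at h6
      have h7 : orderOf β ∣ w := orderOf_dvd_of_pow_eq_one hβw
      rcases k with _ | k
      · simp only [pow_zero, Nat.totient_one, Nat.dvd_one] at h6
        rw [orderOf_eq_one_iff] at h6
        rw [h6, one_pow]
      · rw [Nat.totient_prime_pow_succ Nat.prime_three] at h6
        have hcop : Nat.Coprime w (3 ^ k) :=
          Nat.Coprime.pow_right _ ((Nat.Prime.coprime_iff_not_dvd Nat.prime_three).mpr hw3).symm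
        have h9 : orderOf β ∣ 2 := Nat.Coprime.dvd_of_dvd_mul_left (hcop.coprime_dvd_left h7) h6
        exact orderOf_dvd_iff_pow_eq_one.mp h9
    have hβfix : ∀ x : (Z : Subgroup H), β x = x := by
      intro x
      by_contra hne
      set v : (Z : Subgroup H) := x * (β x)⁻¹ with hv
      have hv1 : v ≠ 1 := by
        intro h
        apply hne
        rw [hv, mul_inv_eq_one] at h
        exact h.symm
      have hββ : β (β x) = x := by
        have h1 := congrArg (fun f : MulAut (Z : Subgroup H) => f x) hβ2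
        simpa [pow_two] using h1
      have hβv : β v = v⁻¹ := by
        rw [hv, map_mul, map_inv, hββ, mul_inv_rev, inv_inv]
      obtain ⟨i, hi⟩ := (IsPGroup.iff_orderOf.mp Z.isPGroup') v
      have hi0 : i ≠ 0 := by
        rintro rfl
        rw [pow_zero, orderOf_eq_one_iff] at hi
        exact hv1 hi
      obtain ⟨i', rfl⟩ : ∃ i', i = i' + 1 := ⟨i - 1, by omega⟩
      set v' : (Z : Subgroup H) := v ^ 3 ^ i' with hv'
      have hv'ord : orderOf v' = 3 := by
        rw [hv', orderOf_pow_of_dvd (by positivity) ⟨3, by rw [hi]; ring⟩, hi, pow_succ]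
        exact Nat.mul_div_cancel_left _ (by positivity)
      have hv'H : orderOf (v' : H) = 3 := by
        rw [Subgroup.orderOf_coe]
        exact hv'ord
      have h10 : β v' = v'⁻¹ := by rw [hv', map_pow, hβv, inv_pow]
      have h11 : β v' = v' := by
        apply Subtype.ext
        obtain ⟨c, hc⟩ := huniq _ hv'H
        show g' * (v' : H) * g'⁻¹ = v'
        rw [← hc]
        show g' * θ ^ c * g'⁻¹ = θ ^ c
        have h12 : g' * θ ^ c * g'⁻¹ = (g' * θ * g'⁻¹) ^ c := by
          rw [← MulAut.conj_apply, map_zpow, MulAut.conj_apply]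
        rw [h12, hcentral]
      rw [h11] at h10
      have h12 : v' ^ 2 = 1 := by
        rw [pow_two]
        nth_rewrite 1 [h10]
        exact inv_mul_cancel _
      have h13 := orderOf_dvd_of_pow_eq_one h12
      rw [hv'ord] at h13
      omega
    rw [Subgroup.mem_centralizer_iff]
    intro x hx
    have h1 : ((β ⟨x, hx⟩ : (Z : Subgroup H)) : H) = x := congrArg Subtype.val (hβfix ⟨x, hx⟩)
    have h2 : g' * x * g'⁻¹ = x := h1
    calc x * g' = (g' * x * g'⁻¹) * g' := by rw [h2]
      _ = g' * x := by group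
  -- the normal `3`-complement
  set L : Subgroup H := (MonoidHom.transferSylow Z hP).ker with hL
  have hLc : Subgroup.IsComplement' L (Z : Subgroup H) :=
    MonoidHom.ker_transferSylow_isComplement' Z hP
  have hL3 : ¬ 3 ∣ Nat.card L := MonoidHom.not_dvd_card_ker_transferSylow Z hP
  haveI hLnorm : L.Normal := MonoidHom.normal_ker _
  have hLN : Cfsg.HasNormalPComplement 2 L := by
    rw [Cfsg.Agent.Lib.PComplement.hasNormalPComplement_iff_forall]
    intro U' hU' g' hg' hcop
    refine mem_centralizer_of_coprime_three (hQ.subgroup L) U' hU' hg'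
      (Nat.coprime_two_right.mp hcop) ?_
    intro h
    exact hL3 (h.trans (orderOf_dvd_natCard g'))
  obtain ⟨P₂, N₀, hN₀, hc₀⟩ := hLN
  haveI := hN₀
  -- the odd part is a Z-group
  have hN₀odd : ¬ 2 ∣ Nat.card N₀ := by
    have h4 := P₂.not_dvd_index
    rwa [hc₀.index_eq_card] at h4
  have hN₀3 : ¬ 3 ∣ Nat.card N₀ := by
    intro h
    apply hL3
    exact h.trans (Subgroup.card_subgroup_dvd_card N₀)
  haveI hZG : IsZGroup N₀ := by
    refine ⟨fun t ht P => ?_⟩
    haveI : Fact t.Prime := ⟨ht⟩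
    have hPt : IsPGroup t (((P : Subgroup N₀).map N₀.subtype).map L.subtype) :=
      (P.isPGroup'.map _).map _
    let e1 : (P : Subgroup N₀) ≃* (P : Subgroup N₀).map N₀.subtype :=
      (P : Subgroup N₀).equivMapOfInjective N₀.subtype N₀.subtype_injective
    let e2 : (P : Subgroup N₀).map N₀.subtype ≃* ((P : Subgroup N₀).map N₀.subtype).map L.subtype :=
      ((P : Subgroup N₀).map N₀.subtype).equivMapOfInjective L.subtype L.subtype_injective
    let e := e1.trans e2
    rcases hQ _ t hPt with h | ⟨ht2, -⟩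
    · exact isCyclic_of_surjective e.symm e.symm.surjective
    · subst ht2
      -- `P` is trivial
      have h5 : Nat.card (P : Subgroup N₀) = 1 := by
        obtain ⟨n, hn⟩ := IsPGroup.iff_card.mp P.isPGroup'
        rw [hn]
        rcases n with _ | n
        · simp
        · exfalso
          apply hN₀odd
          calc 2 ∣ 2 ^ (n + 1) := dvd_pow_self _ (by omega)
            _ = Nat.card (P : Subgroup N₀) := hn.symm
            _ ∣ Nat.card N₀ := Subgroup.card_subgroup_dvd_card _
      haveI : Subsingleton (P : Subgroup N₀) := (Nat.card_eq_one_iff_unique.mp h5).1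
      infer_instance
  -- assemble
  haveI : Group.IsSolvable N₀ := inferInstance
  haveI hq1 : Group.IsSolvable (L ⧸ N₀) := by
    have hp : IsPGroup 2 (L ⧸ N₀) := by
      obtain ⟨n, hn⟩ := IsPGroup.iff_card.mp P₂.isPGroup'
      apply IsPGroup.of_card (n := n)
      rw [← Subgroup.index_eq_card, hc₀.symm.index_eq_card, hn]
    haveI : Finite (L ⧸ N₀) := inferInstance
    haveI : Group.IsNilpotent (L ⧸ N₀) := hp.isNilpotent
    infer_instance
  haveI hq2 : Group.IsSolvable L :=
    Group.isSolvable_of_ker_le_range N₀.subtype (QuotientGroup.mk' N₀) (by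
      rw [QuotientGroup.ker_mk', Subgroup.range_subtype])
  haveI hq3 : Group.IsSolvable (H ⧸ L) := by
    have hp : IsPGroup 3 (H ⧸ L) := by
      obtain ⟨n, hn⟩ := IsPGroup.iff_card.mp Z.isPGroup'
      apply IsPGroup.of_card (n := n)
      rw [← Subgroup.index_eq_card, hLc.symm.index_eq_card, hn]
    haveI : Finite (H ⧸ L) := inferInstance
    haveI : Group.IsNilpotent (H ⧸ L) := hp.isNilpotent
    infer_instance
  exact Group.isSolvable_of_ker_le_range L.subtype (QuotientGroup.mk' L) (by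
    rw [QuotientGroup.ker_mk', Subgroup.range_subtype])

end Index

end Cfsg.Agent.Lib.SharpIdx
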