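import Mathlib

/-!
# Maps from generalised quaternion groups.
-/

set_option autoImplicit false
set_option linter.unusedSectionVars false

namespace Cfsg.Agent.Lib.QuatHom

variable {G : Type*} [Group G] {n : ℕ}

section lift

variable (A W : G)

/-- Exponent function. -/
def P (i : ZMod (2 * n)) : G := A ^ i.val

variable [NeZero n]

local instance : NeZero (2 * n) := ⟨by have := NeZero.ne n; omega⟩

variable {A W}
variable (hA : A ^ (2 * n) = 1)

include hA

theorem pow_mod_eq (m : ℕ) : A ^ (m % (2 * n)) = A ^ m := by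
  conv_rhs => rw [← Nat.div_add_mod m (2 * n), pow_add, pow_mul, hA, one_pow, one_mul]

theorem P_add (i j : ZMod (2 * n)) : P (n := n) A (i + j) = P A i * P A j := by
  unfold P
  rw [ZMod.val_add, pow_mod_eq hA, pow_add]

theorem P_zero : P (n := n) A 0 = 1 := by
  unfold P
  rw [ZMod.val_zero, pow_zero]

theorem P_neg (i : ZMod (2 * n)) : P (n := n) A (-i) = (P A i)⁻¹ := by
  apply eq_inv_of_mul_eq_one_left
  rw [← P_add hA, neg_add_cancel, P_zero hA]

theorem P_sub (i j : ZMod (2 * n)) : P (n := n) A (i - j) = P A i * (P A j)⁻¹ := by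
  rw [sub_eq_add_neg, P_add hA, P_neg hA]

theorem P_natCast_self : P (n := n) A (n : ZMod (2 * n)) = A ^ n := by
  unfold P
  rw [ZMod.val_natCast, pow_mod_eq hA]

omit hA in
theorem conj_P (hc : W * A * W⁻¹ = A⁻¹) (i : ZMod (2 * n)) :
    P (n := n) A i * W = W * (P A i)⁻¹ := by
  unfold P
  have h : W * A ^ i.val * W⁻¹ = (A ^ i.val)⁻¹ := by
    rw [← conj_pow, hc, inv_pow]
  have h2 := congrArg (fun x => x⁻¹) h
  simp only [mul_inv_rev, inv_inv] at h2
  rw [← mul_assoc] at h2
  exact (mul_inv_eq_iff_eq_mul.1 h2).symm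

variable (hW : W * W = A ^ n) (hc : W * A * W⁻¹ = A⁻¹)

/-- The map to `G`. -/
def liftFun (A W : G) : QuaternionGroup n → G
  | .a i => P A i
  | .xa i => W * P A i

include hW hc

/-- The morphism determined by `A` and `W`. -/
def lift : QuaternionGroup n →* G where
  toFun := liftFun A W
  map_one' := by
    rw [QuaternionGroup.one_def]
    exact P_zero hA
  map_mul' := by
    rintro (i | i) (j | j)
    · rw [QuaternionGroup.a_mul_a]
      exact P_add hA i j
    · rw [QuaternionGroup.a_mul_xa]
      change W * P A (j - i) = P A i * (W * P A j)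
      have hcomm : Commute (P (n := n) A i)⁻¹ (P A j) := ((Commute.refl A).pow_pow _ _).inv_left
      rw [← mul_assoc, conj_P hc, P_sub hA, mul_assoc, hcomm.eq]
    · rw [QuaternionGroup.xa_mul_a]
      change W * P A (i + j) = (W * P A i) * P A j
      rw [P_add hA, mul_assoc]
    · rw [QuaternionGroup.xa_mul_xa]
      change P A ((n : ZMod (2 * n)) + j - i) = (W * P A i) * (W * P A j)
      rw [P_sub hA, P_add hA, P_natCast_self hA]
      have : (W * P A i) * (W * P A j) = W * (P A i * W) * P A j := by group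
      have hcomm : Commute (P (n := n) A i)⁻¹ (P A j) := ((Commute.refl A).pow_pow _ _).inv_left
      rw [this, conj_P hc, ← hW, mul_assoc (W * W), mul_assoc W, mul_assoc W, mul_assoc W, hcomm.eq]

theorem lift_injective (h2 : A ^ 2 ≠ 1) (ho : orderOf A = 2 * n) :
    Function.Injective (lift hA hW hc) := by
  rw [injective_iff_map_eq_one]
  rintro (i | i) hi
  · have h1 : A ^ i.val = 1 := hi
    have h3 : 2 * n ∣ i.val := by
      have := orderOf_dvd_of_pow_eq_one h1
      rwa [ho] at this
    have h4 : i.val < 2 * n := ZMod.val_lt i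
    have h5 : i.val = 0 := Nat.eq_zero_of_dvd_of_lt h3 h4
    rw [QuaternionGroup.one_def]
    congr 1
    exact (ZMod.val_eq_zero i).1 h5
  · exfalso
    have h1 : W * P A i = 1 := hi
    have h3 : W = (P A i)⁻¹ := eq_inv_of_mul_eq_one_left h1
    apply h2
    have h4 : W * A * W⁻¹ = A := by
      rw [h3]
      unfold P
      have : (A ^ i.val)⁻¹ * A * ((A ^ i.val)⁻¹)⁻¹ = A := by
        rw [inv_inv, mul_assoc, ← pow_succ', pow_succ]
        group
      exact this
    rw [hc] at h4
    rw [sq]
    nth_rw 1 [← h4]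
    exact inv_mul_cancel A

end lift

/-- A group with elements satisfying the relations of the generalised quaternion group has a
subgroup of order `4 n` isomorphic to it. -/
theorem exists_subgroup_quaternion [NeZero n] (A W : G) (h2 : A ^ 2 ≠ 1) (ho : orderOf A = 2 * n)
    (hW : W * W = A ^ n) (hc : W * A * W⁻¹ = A⁻¹) :
    ∃ H : Subgroup G, Nat.card H = 4 * n ∧ Nonempty (H ≃* QuaternionGroup n) := by
  have hA : A ^ (2 * n) = 1 := by rw [← ho, pow_orderOf_eq_one]
  have hinj := lift_injective hA hW hc h2 ho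
  let e : QuaternionGroup n ≃* (lift hA hW hc).range := MonoidHom.ofInjective hinj
  refine ⟨(lift hA hW hc).range, ?_, ⟨e.symm⟩⟩
  rw [← Nat.card_congr e.toEquiv, Nat.card_eq_fintype_card, QuaternionGroup.card]

end Cfsg.Agent.Lib.QuatHom
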