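import Mathlib

/-!
# Linear groups regular on the non-zero vectors

`H` is a subgroup of `GL(V)`, `V` a finite vector space over `ZMod p`, regular on the non-zero
vectors.  We prove the basic dichotomy: for a normal subgroup `N` of `H`, either `N` is irreducible
on `V`, or the algebra generated by `N` is a field (and so `N` is abelian); also a normal abelian
subgroup always generates a field.
-/

set_option autoImplicit false

namespace Cfsg.Agent.Lib.RegLin

variable {p : ℕ} [Fact p.Prime] {V : Type*} [AddCommGroup V] [Module (ZMod p) V]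

/-- Regular on non-zero vectors. -/
def Reg (H : Subgroup (V ≃ₗ[ZMod p] V)) : Prop :=
  ∀ v w : V, v ≠ 0 → w ≠ 0 → ∃! h : H, (h : V ≃ₗ[ZMod p] V) v = w

/-- Invariance of a subspace under a subgroup of `H`. -/
def Inv {H : Subgroup (V ≃ₗ[ZMod p] V)} (A : Subgroup H) (W : Submodule (ZMod p) V) : Prop :=
  ∀ a ∈ A, ∀ v ∈ W, ((a : H) : V ≃ₗ[ZMod p] V) v ∈ W

/-- Minimal invariant subspaces. -/
structure IsMin {H : Subgroup (V ≃ₗ[ZMod p] V)} (A : Subgroup H) (W : Submodule (ZMod p) V) :
    Prop where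
  ne : W ≠ ⊥
  inv : Inv A W
  min : ∀ W' : Submodule (ZMod p) V, W' ≤ W → Inv A W' → W' = ⊥ ∨ W' = W

variable {H : Subgroup (V ≃ₗ[ZMod p] V)}

theorem Reg.fpf (hreg : Reg H) (h : H) {v : V} (hv : v ≠ 0)
    (hf : (h : V ≃ₗ[ZMod p] V) v = v) : h = 1 :=
  (hreg v v hv hv).unique hf (by simp)

theorem coe_mul_apply (x y : H) (v : V) :
    ((x * y : H) : V ≃ₗ[ZMod p] V) v = (x : V ≃ₗ[ZMod p] V) ((y : V ≃ₗ[ZMod p] V) v) := rfl

theorem coe_inv_apply (x : H) (v : V) :
    ((x⁻¹ : H) : V ≃ₗ[ZMod p] V) ((x : V ≃ₗ[ZMod p] V) v) = v := by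
  rw [← coe_mul_apply, inv_mul_cancel]
  rfl

theorem coe_apply_inv (x : H) (v : V) :
    (x : V ≃ₗ[ZMod p] V) (((x⁻¹ : H) : V ≃ₗ[ZMod p] V) v) = v := by
  rw [← coe_mul_apply, mul_inv_cancel]
  rfl

theorem ext_of_apply {x y : H} (h : ∀ v, (x : V ≃ₗ[ZMod p] V) v = (y : V ≃ₗ[ZMod p] V) v) : x = y :=
  Subtype.ext (LinearEquiv.ext h)

theorem inv_inf {A : Subgroup H} {W₁ W₂ : Submodule (ZMod p) V} (h1 : Inv A W₁) (h2 : Inv A W₂) :
    Inv A (W₁ ⊓ W₂) := fun a ha v hv => ⟨h1 a ha v hv.1, h2 a ha v hv.2⟩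

theorem inv_sup {A : Subgroup H} {W₁ W₂ : Submodule (ZMod p) V} (h1 : Inv A W₁) (h2 : Inv A W₂) :
    Inv A (W₁ ⊔ W₂) := by
  intro a ha v hv
  obtain ⟨x, hx, y, hy, rfl⟩ := Submodule.mem_sup.mp hv
  rw [map_add]
  exact Submodule.add_mem_sup (h1 a ha x hx) (h2 a ha y hy)

variable [Finite V]

instance finite_submodule : Finite (Submodule (ZMod p) V) :=
  Finite.of_injective (fun W => (W : Set V)) SetLike.coe_injective

theorem exists_isMin (A : Subgroup H) (W₀ : Submodule (ZMod p) V) (h0 : W₀ ≠ ⊥) (hI : Inv A W₀) :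
    ∃ W, W ≤ W₀ ∧ IsMin A W := by
  have wf : WellFounded ((· < ·) : Submodule (ZMod p) V → Submodule (ZMod p) V → Prop) :=
    wellFounded_lt
  obtain ⟨W, hW, hmin⟩ := wf.has_min {W | W ≠ ⊥ ∧ Inv A W ∧ W ≤ W₀} ⟨W₀, h0, hI, le_rfl⟩
  refine ⟨W, hW.2.2, hW.1, hW.2.1, fun W' hle hI' => ?_⟩
  by_contra hcon
  push Not at hcon
  exact hmin W' ⟨hcon.1, hI', hle.trans hW.2.2⟩ (lt_of_le_of_ne hle hcon.2)

/-- The translate of a subspace. -/
def tr (h : H) (W : Submodule (ZMod p) V) : Submodule (ZMod p) V :=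
  W.map ((h : V ≃ₗ[ZMod p] V) : V →ₗ[ZMod p] V)

omit [Finite V] in
theorem mem_tr {h : H} {W : Submodule (ZMod p) V} {v : V} :
    v ∈ tr h W ↔ ∃ w ∈ W, (h : V ≃ₗ[ZMod p] V) w = v := by
  unfold tr
  rw [Submodule.mem_map]
  rfl

omit [Finite V] in
theorem apply_mem_tr (h : H) {W : Submodule (ZMod p) V} {w : V} (hw : w ∈ W) :
    (h : V ≃ₗ[ZMod p] V) w ∈ tr h W := mem_tr.mpr ⟨w, hw, rfl⟩

omit [Finite V] in
theorem tr_tr_inv (h : H) (W : Submodule (ZMod p) V) : tr h (tr h⁻¹ W) = W := by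
  ext v
  simp only [mem_tr]
  constructor
  · rintro ⟨w, ⟨u, hu, rfl⟩, rfl⟩
    rwa [coe_apply_inv]
  · intro hv
    exact ⟨_, ⟨v, hv, rfl⟩, coe_apply_inv h v⟩

omit [Finite V] in
theorem inv_tr {N : Subgroup H} (hN : N.Normal) (h : H) {W : Submodule (ZMod p) V} (hW : Inv N W) :
    Inv N (tr h W) := by
  intro n hn v hv
  obtain ⟨w, hw, rfl⟩ := mem_tr.mp hv
  have h1 : h⁻¹ * n * h⁻¹⁻¹ ∈ N := hN.conj_mem n hn h⁻¹
  rw [inv_inv] at h1
  have h2 := hW _ h1 w hw
  refine mem_tr.mpr ⟨_, h2, ?_⟩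
  rw [← coe_mul_apply, ← coe_mul_apply]
  congr 2
  group

omit [Finite V] in
theorem tr_eq_bot {h : H} {W : Submodule (ZMod p) V} (h0 : tr h W = ⊥) : W = ⊥ := by
  rw [Submodule.eq_bot_iff] at h0 ⊢
  intro x hx
  have := h0 _ (apply_mem_tr h hx)
  simpa using this

omit [Finite V] in
theorem tr_bot (h : H) : tr h (⊥ : Submodule (ZMod p) V) = ⊥ := by
  simp [tr]

omit [Finite V] in
theorem IsMin.tr {N : Subgroup H} (hN : N.Normal) (h : H) {W : Submodule (ZMod p) V}
    (hW : IsMin N W) : IsMin N (tr h W) := by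
  refine ⟨fun h0 => hW.ne (tr_eq_bot h0), inv_tr hN h hW.inv, ?_⟩
  intro W' hle hI
  have h1 : RegLin.tr h⁻¹ W' ≤ W := by
    intro x hx
    obtain ⟨w, hw, rfl⟩ := mem_tr.mp hx
    obtain ⟨u, hu, rfl⟩ := mem_tr.mp (hle hw)
    rwa [coe_inv_apply]
  rcases hW.min _ h1 (inv_tr hN h⁻¹ hI) with h2 | h2
  · left
    rw [← tr_tr_inv h W', h2, tr_bot]
  · right
    rw [← tr_tr_inv h W', h2]

/-- Every non-zero vector lies in a minimal invariant subspace. -/
theorem Reg.exists_isMin_mem (hreg : Reg H) {N : Subgroup H} (hN : N.Normal) {v : V} (hv : v ≠ 0) :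
    ∃ W, IsMin N W ∧ v ∈ W := by
  have htop : (⊤ : Submodule (ZMod p) V) ≠ ⊥ := by
    intro h
    exact hv ((Submodule.eq_bot_iff _).mp h v trivial)
  obtain ⟨W, -, hW⟩ := exists_isMin N ⊤ htop (fun _ _ _ _ => trivial)
  obtain ⟨w, hw, hw0⟩ := Submodule.exists_mem_ne_zero_of_ne_bot hW.ne
  obtain ⟨h, hh, -⟩ := hreg w v hw0 hv
  refine ⟨tr h W, hW.tr hN h, ?_⟩
  rw [← hh]
  exact apply_mem_tr h hw

omit [Finite V] in
theorem IsMin.inf_eq_bot {N : Subgroup H} {W₁ W₂ : Submodule (ZMod p) V} (h1 : IsMin N W₁)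
    (h2 : IsMin N W₂) (hne : W₁ ≠ W₂) : W₁ ⊓ W₂ = ⊥ := by
  rcases h1.min _ inf_le_left (inv_inf h1.inv h2.inv) with h | h
  · exact h
  · exfalso
    have hle : W₁ ≤ W₂ := h ▸ inf_le_right
    rcases h2.min _ hle h1.inv with h3 | h3
    · exact h1.ne h3
    · exact hne h3

/-- The endomorphism given by an element of `H`. -/
def toEnd (h : H) : Module.End (ZMod p) V := ((h : V ≃ₗ[ZMod p] V) : V →ₗ[ZMod p] V)

omit [Finite V] in
theorem toEnd_apply (h : H) (v : V) : toEnd h v = (h : V ≃ₗ[ZMod p] V) v := rfl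

omit [Finite V] in
theorem toEnd_mul (x y : H) : toEnd (x * y) = toEnd x * toEnd y := rfl

omit [Finite V] in
theorem toEnd_one : toEnd (1 : H) = 1 := rfl

/-- The subalgebra generated by a subgroup of `H`. -/
def adj (A : Subgroup H) : Subalgebra (ZMod p) (Module.End (ZMod p) V) :=
  Algebra.adjoin (ZMod p) (Set.range fun a : A => toEnd (a : H))

omit [Finite V] in
theorem toEnd_mem_adj {A : Subgroup H} {a : H} (ha : a ∈ A) : toEnd a ∈ adj A :=
  Algebra.subset_adjoin ⟨⟨a, ha⟩, rfl⟩

omit [Finite V] in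
theorem adj_apply_mem {A : Subgroup H} {W : Submodule (ZMod p) V} (hW : Inv A W)
    {x : Module.End (ZMod p) V} (hx : x ∈ adj A) {v : V} (hv : v ∈ W) : x v ∈ W := by
  unfold adj at hx
  induction hx using Algebra.adjoin_induction generalizing v with
  | mem x hx =>
    obtain ⟨a, rfl⟩ := hx
    exact hW a a.2 v hv
  | algebraMap r => simpa [Module.algebraMap_end_apply] using W.smul_mem r hv
  | add x y _ _ ihx ihy => exact W.add_mem (ihx hv) (ihy hv)
  | mul x y _ _ ihx ihy => exact ihx (ihy hv)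

/-- The main computation: an element of the algebra killing a vector in one minimal subspace
kills a vector in any other minimal subspace. -/
theorem Reg.aux (hreg : Reg H) {N : Subgroup H} (hN : N.Normal)
    {W₁ W₂ : Submodule (ZMod p) V} (h1 : IsMin N W₁) (h2 : IsMin N W₂) (hne : W₁ ≠ W₂)
    {x : Module.End (ZMod p) V} (hx : x ∈ adj N) {u₁ u₂ : V} (hu₁ : u₁ ∈ W₁) (hu₂ : u₂ ∈ W₂)
    (hu₁0 : u₁ ≠ 0) (hx1 : x u₁ = 0) : x u₂ = 0 := by
  have hinf := h1.inf_eq_bot h2 hne
  have hu₁2 : u₁ ∉ W₂ := by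
    intro h
    have : u₁ ∈ W₁ ⊓ W₂ := ⟨hu₁, h⟩
    rw [hinf] at this
    exact hu₁0 (by simpa using this)
  have hsum : u₁ + u₂ ≠ 0 := by
    intro h
    apply hu₁2
    rw [eq_neg_of_add_eq_zero_left h]
    exact W₂.neg_mem hu₂
  obtain ⟨W₃, h3, hmem⟩ := hreg.exists_isMin_mem hN hsum
  have hne3 : W₃ ≠ W₂ := by
    intro h
    rw [h] at hmem
    apply hu₁2
    have := W₂.sub_mem hmem hu₂
    simpa using this
  have hinf3 := h3.inf_eq_bot h2 hne3
  have h4 : x u₂ ∈ W₃ ⊓ W₂ := by
    refine ⟨?_, adj_apply_mem h2.inv hx hu₂⟩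
    have := adj_apply_mem h3.inv hx hmem
    rwa [map_add, hx1, zero_add] at this
  rw [hinf3] at h4
  simpa using h4

/-- If there are two distinct minimal invariant subspaces, an element of the algebra with a
non-zero kernel vanishes. -/
theorem Reg.eq_zero_of_two_min (hreg : Reg H) {N : Subgroup H} (hN : N.Normal)
    {W₁ W₂ : Submodule (ZMod p) V} (h1 : IsMin N W₁) (h2 : IsMin N W₂) (hne : W₁ ≠ W₂)
    {x : Module.End (ZMod p) V} (hx : x ∈ adj N) {u : V} (hu : u ≠ 0) (hxu : x u = 0) : x = 0 := by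
  obtain ⟨W, hW, huW⟩ := hreg.exists_isMin_mem hN hu
  have key : ∀ W' (_ : IsMin N W'), W' ≠ W → ∀ u' ∈ W', x u' = 0 := by
    intro W' hW' hne' u' hu'
    exact hreg.aux hN hW hW' hne'.symm hx huW hu' hu hxu
  apply LinearMap.ext
  intro v
  rw [LinearMap.zero_apply]
  by_cases hv : v = 0
  · rw [hv, map_zero]
  obtain ⟨W', hW', hvW'⟩ := hreg.exists_isMin_mem hN hv
  by_cases hW'W : W' = W
  · -- go through another minimal subspace
    obtain ⟨W'', hW'', hne''⟩ : ∃ W'', IsMin N W'' ∧ W'' ≠ W := by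
      by_cases h : W₁ = W
      · exact ⟨W₂, h2, fun h' => hne (h.trans h'.symm)⟩
      · exact ⟨W₁, h1, h⟩
    obtain ⟨u', hu', hu'0⟩ := Submodule.exists_mem_ne_zero_of_ne_bot hW''.ne
    have h3 := key W'' hW'' hne'' u' hu'
    have hne3 : W'' ≠ W' := by rw [hW'W]; exact hne''
    exact hreg.aux hN hW'' hW' hne3 hx hu' hvW' hu'0 h3
  · exact key W' hW' hW'W v hvW'

instance finite_end : Finite (Module.End (ZMod p) V) :=
  Finite.of_injective (fun f : Module.End (ZMod p) V => (f : V → V)) DFunLike.coe_injective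

instance finite_equiv : Finite (V ≃ₗ[ZMod p] V) :=
  Finite.of_injective (fun f : V ≃ₗ[ZMod p] V => (f : V → V)) DFunLike.coe_injective

/-- Criterion: if every non-zero element of the subalgebra is injective, then it's a domain, hence
commutative. -/
theorem comm_of_inj (hV : Nontrivial V) (S : Subalgebra (ZMod p) (Module.End (ZMod p) V))
    (hS : ∀ x ∈ S, ∀ u : V, u ≠ 0 → x u = 0 → x = 0) {a b : Module.End (ZMod p) V}
    (ha : a ∈ S) (hb : b ∈ S) : a * b = b * a := by
  have : NoZeroDivisors S := by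
    constructor
    intro x y hxy
    by_cases hy : y = 0
    · exact Or.inr hy
    · left
      have hy' : (y : Module.End (ZMod p) V) ≠ 0 := fun h => hy (Subtype.ext h)
      obtain ⟨v, hv⟩ : ∃ v, (y : Module.End (ZMod p) V) v ≠ 0 := by
        by_contra hcon
        push Not at hcon
        exact hy' (LinearMap.ext hcon)
      apply Subtype.ext
      refine hS x x.2 _ hv ?_
      have := congrArg (fun z : S => (z : Module.End (ZMod p) V) v) hxy
      simpa using this
  have : Nontrivial S := by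
    refine ⟨⟨0, 1, ?_⟩⟩
    intro h
    obtain ⟨v, hv⟩ := exists_ne (0 : V)
    have := congrArg (fun z : S => (z : Module.End (ZMod p) V) v) h
    simp at this
    exact hv this.symm
  have : IsDomain S := NoZeroDivisors.to_isDomain S
  have : Finite S := inferInstance
  have hf := Finite.isDomain_to_isField S
  have := hf.mul_comm ⟨a, ha⟩ ⟨b, hb⟩
  exact congrArg Subtype.val this

/-- Two distinct minimal subspaces force `N` to be abelian. -/
theorem Reg.comm_of_two_min (hreg : Reg H) {N : Subgroup H} (hN : N.Normal)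
    {W₁ W₂ : Submodule (ZMod p) V} (h1 : IsMin N W₁) (h2 : IsMin N W₂) (hne : W₁ ≠ W₂)
    {a b : H} (ha : a ∈ N) (hb : b ∈ N) : a * b = b * a := by
  have hV : Nontrivial V := by
    obtain ⟨u, _, hu⟩ := Submodule.exists_mem_ne_zero_of_ne_bot h1.ne
    exact ⟨⟨u, 0, hu⟩⟩
  have := comm_of_inj hV (adj N)
    (fun x hx u hu hxu => hreg.eq_zero_of_two_min hN h1 h2 hne hx hu hxu)
    (toEnd_mem_adj ha) (toEnd_mem_adj hb)
  apply ext_of_apply
  intro v
  exact congrArg (fun f : Module.End (ZMod p) V => f v) this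

/-- A non-abelian normal subgroup is irreducible. -/
theorem Reg.irreducible_of_not_comm (hreg : Reg H) {N : Subgroup H} (hN : N.Normal)
    (hna : ¬ IsMulCommutative N) (W : Submodule (ZMod p) V) (hW : Inv N W) : W = ⊥ ∨ W = ⊤ := by
  by_contra hcon
  push Not at hcon
  obtain ⟨W₁, hle, h1⟩ := exists_isMin N W hcon.1 hW
  obtain ⟨v, hv⟩ : ∃ v, v ∉ W := by
    by_contra hall
    push Not at hall
    exact hcon.2 (Submodule.eq_top_iff'.mpr hall)
  have hv0 : v ≠ 0 := fun h => hv (h ▸ W.zero_mem)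
  obtain ⟨W₂, h2, hvW₂⟩ := hreg.exists_isMin_mem hN hv0
  have hne : W₁ ≠ W₂ := by
    rintro rfl
    exact hv (hle hvW₂)
  apply hna
  refine ⟨⟨fun a b => Subtype.ext (hreg.comm_of_two_min hN h1 h2 hne a.2 b.2)⟩⟩

/-- Elements of the algebra generated by an abelian subgroup commute with the subgroup. -/
theorem adj_commute {A : Subgroup H} (hA : IsMulCommutative A) {x : Module.End (ZMod p) V}
    (hx : x ∈ adj A) {a : H} (ha : a ∈ A) : x * toEnd a = toEnd a * x := by
  unfold adj at hx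
  induction hx using Algebra.adjoin_induction with
  | mem x hx =>
    obtain ⟨b, rfl⟩ := hx
    rw [← toEnd_mul, ← toEnd_mul]
    have : (b : H) * a = a * b := by
      have := hA.is_comm.comm b ⟨a, ha⟩
      exact congrArg Subtype.val this
    rw [this]
  | algebraMap r =>
    exact Algebra.commutes r (toEnd a)
  | add x y _ _ ihx ihy => rw [add_mul, mul_add, ihx, ihy]
  | mul x y _ _ ihx ihy => rw [mul_assoc, ihy, ← mul_assoc, ihx, mul_assoc]

/-- In the abelian case, an element of the algebra with a kernel vanishes. -/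
theorem Reg.eq_zero_of_comm (hreg : Reg H) {A : Subgroup H} (hN : A.Normal)
    (hA : IsMulCommutative A) {x : Module.End (ZMod p) V} (hx : x ∈ adj A) {u : V} (hu : u ≠ 0)
    (hxu : x u = 0) : x = 0 := by
  obtain ⟨W, hW, huW⟩ := hreg.exists_isMin_mem hN hu
  have hker : Inv A (LinearMap.ker x) := by
    intro a ha v hv
    rw [LinearMap.mem_ker] at hv ⊢
    have := congrArg (fun f : Module.End (ZMod p) V => f v) (adj_commute hA hx ha)
    simp only [Module.End.mul_apply, toEnd_apply] at this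
    rw [this, hv, map_zero]
  have hle : W ≤ LinearMap.ker x := by
    rcases hW.min _ inf_le_left (inv_inf hW.inv hker) with h | h
    · exfalso
      have : u ∈ W ⊓ LinearMap.ker x := ⟨huW, hxu⟩
      rw [h] at this
      exact hu (by simpa using this)
    · exact h ▸ inf_le_right
  apply LinearMap.ext
  intro v
  rw [LinearMap.zero_apply]
  by_cases hv : v = 0
  · rw [hv, map_zero]
  obtain ⟨W', hW', hvW'⟩ := hreg.exists_isMin_mem hN hv
  by_cases hW'W : W' = W
  · rw [hW'W] at hvW'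
    exact hle hvW'
  · exact hreg.aux hN hW hW' (Ne.symm hW'W) hx huW hvW' hu hxu

theorem toEnd_injective : Function.Injective (toEnd : H → Module.End (ZMod p) V) := by
  intro x y h
  apply ext_of_apply
  intro v
  exact congrArg (fun f : Module.End (ZMod p) V => f v) h

/-- The field structure pieces on `adj A`. -/
theorem Reg.adj_isField (hreg : Reg H) (hV : Nontrivial V) {A : Subgroup H} (hN : A.Normal)
    (hA : IsMulCommutative A) : ∃ _ : IsDomain (adj A), IsField (adj A) := by
  have : NoZeroDivisors (adj A) := by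
    constructor
    intro x y hxy
    by_cases hy : y = 0
    · exact Or.inr hy
    · left
      have hy' : (y : Module.End (ZMod p) V) ≠ 0 := fun h => hy (Subtype.ext h)
      obtain ⟨v, hv⟩ : ∃ v, (y : Module.End (ZMod p) V) v ≠ 0 := by
        by_contra hcon
        push Not at hcon
        exact hy' (LinearMap.ext hcon)
      apply Subtype.ext
      refine hreg.eq_zero_of_comm hN hA x.2 hv ?_
      have := congrArg (fun z : adj A => (z : Module.End (ZMod p) V) v) hxy
      simpa using this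
  have : Nontrivial (adj A) := by
    refine ⟨⟨0, 1, ?_⟩⟩
    intro h
    obtain ⟨v, hv⟩ := exists_ne (0 : V)
    have := congrArg (fun z : adj A => (z : Module.End (ZMod p) V) v) h
    simp at this
    exact hv this.symm
  have hd : IsDomain (adj A) := NoZeroDivisors.to_isDomain _
  exact ⟨hd, Finite.isDomain_to_isField _⟩

/-- The map from `A` to the units. -/
def toAdj (A : Subgroup H) : A →* adj A where
  toFun a := ⟨toEnd (a : H), toEnd_mem_adj a.2⟩
  map_one' := rfl
  map_mul' _ _ := rfl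

theorem toAdj_injective (A : Subgroup H) : Function.Injective (toAdj A) := by
  intro x y h
  apply Subtype.ext
  apply toEnd_injective
  exact congrArg Subtype.val h

/-- A normal abelian subgroup is cyclic. -/
theorem Reg.isCyclic (hreg : Reg H) (hV : Nontrivial V) {A : Subgroup H} (hN : A.Normal)
    (hA : IsMulCommutative A) : IsCyclic A := by
  obtain ⟨hd, hf⟩ := hreg.adj_isField hV hN hA
  let _ : CommRing (adj A) := { (inferInstance : Ring (adj A)) with mul_comm := hf.mul_comm }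
  have : IsDomain (adj A) := hd
  exact isCyclic_of_injective_ringHom (toAdj A) (toAdj_injective A)

/-- `A` embeds in the multiplicative group of `adj A`. -/
theorem Reg.card_dvd (hreg : Reg H) (hV : Nontrivial V) {A : Subgroup H} (hN : A.Normal)
    (hA : IsMulCommutative A) : Nat.card A ∣ Nat.card (adj A) - 1 := by
  obtain ⟨hd, hf⟩ := hreg.adj_isField hV hN hA
  let _ : Field (adj A) := hf.toField
  rw [← Nat.card_units]
  apply Subgroup.card_dvd_of_injective (MonoidHom.toHomUnits (toAdj A))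
  intro x y h
  apply toAdj_injective
  have := congrArg Units.val h
  simpa using this

/-- For a non-zero vector, the evaluation map is a bijection from `adj A` to a minimal subspace. -/
theorem Reg.card_adj_eq (hreg : Reg H) {A : Subgroup H} (hN : A.Normal)
    (hA : IsMulCommutative A) {W : Submodule (ZMod p) V} (hW : IsMin A W) :
    Nat.card (adj A) = Nat.card W := by
  obtain ⟨v, hv, hv0⟩ := Submodule.exists_mem_ne_zero_of_ne_bot hW.ne
  let f : adj A → W := fun x => ⟨(x : Module.End (ZMod p) V) v, adj_apply_mem hW.inv x.2 hv⟩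
  apply Nat.card_eq_of_bijective f
  constructor
  · intro x y hxy
    have h1 : ((x : Module.End (ZMod p) V) - y) v = 0 := by
      rw [LinearMap.sub_apply, sub_eq_zero]
      exact congrArg Subtype.val hxy
    have h2 := hreg.eq_zero_of_comm hN hA ((adj A).sub_mem x.2 y.2) hv0 h1
    exact Subtype.ext (sub_eq_zero.mp h2)
  · -- the image is an invariant subspace
    let U : Submodule (ZMod p) V :=
      Submodule.map (LinearMap.applyₗ v) (Subalgebra.toSubmodule (adj A))
    have hU : ∀ u, u ∈ U ↔ ∃ x ∈ adj A, (x : Module.End (ZMod p) V) v = u := by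
      intro u
      simp [U, Submodule.mem_map]
    have hUW : U ≤ W := by
      intro u hu
      obtain ⟨x, hx, rfl⟩ := (hU u).mp hu
      exact adj_apply_mem hW.inv hx hv
    have hUinv : Inv A U := by
      intro a ha u hu
      obtain ⟨x, hx, rfl⟩ := (hU u).mp hu
      exact (hU _).mpr ⟨toEnd a * x, (adj A).mul_mem (toEnd_mem_adj ha) hx, rfl⟩
    have hvU : v ∈ U := (hU v).mpr ⟨1, (adj A).one_mem, rfl⟩
    rcases hW.min U hUW hUinv with h | h
    · exfalso
      rw [h] at hvU
      exact hv0 (by simpa using hvU)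
    · rintro ⟨w, hw⟩
      rw [← h] at hw
      obtain ⟨x, hx, rfl⟩ := (hU w).mp hw
      exact ⟨⟨x, hx⟩, rfl⟩

/-- A polynomial over `ZMod p` has few roots in a commutative domain. -/
theorem card_roots_le_aux {R : Type*} [CommRing R] [IsDomain R] [Algebra (ZMod p) R]
    (f : Polynomial (ZMod p)) (hf : f ≠ 0) (S : Finset R)
    (hS : ∀ b ∈ S, Polynomial.aeval b f = 0) : S.card ≤ f.natDegree := by
  classical
  have hinj : Function.Injective (algebraMap (ZMod p) R) := (algebraMap (ZMod p) R).injective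
  have hf' : f.map (algebraMap (ZMod p) R) ≠ 0 := (Polynomial.map_ne_zero_iff hinj).mpr hf
  have hsub : S ⊆ (f.aroots R).toFinset := by
    intro b hb
    rw [Multiset.mem_toFinset, Polynomial.mem_aroots']
    exact ⟨hf', hS b hb⟩
  calc S.card ≤ (f.aroots R).toFinset.card := Finset.card_le_card hsub
    _ ≤ Multiset.card (f.aroots R) := Multiset.toFinset_card_le _
    _ ≤ (f.map _).natDegree := Polynomial.card_roots' _
    _ ≤ f.natDegree := Polynomial.natDegree_map_le

/-- Conjugation in `End V` matches conjugation in `H`. -/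
theorem toEnd_conj (h a : H) :
    toEnd (h * a * h⁻¹) = ((h : V ≃ₗ[ZMod p] V).conjAlgEquiv (ZMod p)) (toEnd a) := by
  rfl

/-- The conjugates of an element of a normal abelian subgroup are at most `[adj A : 𝔽_p]`. -/
theorem Reg.card_conj_le (hreg : Reg H) (hV : Nontrivial V) {A : Subgroup H} (hN : A.Normal)
    (hA : IsMulCommutative A) {a : H} (ha : a ∈ A) (S : Finset H)
    (hS : ∀ b ∈ S, ∃ h : H, b = h * a * h⁻¹) : S.card ≤ Module.finrank (ZMod p) (adj A) := by
  classical
  obtain ⟨hd, hf⟩ := hreg.adj_isField hV hN hA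
  have hint : IsIntegral (ZMod p) (toEnd a : Module.End (ZMod p) V) :=
    Algebra.IsIntegral.isIntegral _
  let f := minpoly (ZMod p) (toEnd a : Module.End (ZMod p) V)
  have hf0 : f ≠ 0 := minpoly.ne_zero hint
  have hdeg : f.natDegree ≤ Module.finrank (ZMod p) (adj A) := by
    have h1 : f = minpoly (ZMod p) (⟨toEnd a, toEnd_mem_adj ha⟩ : adj A) :=
      minpoly.algHom_eq (adj A).val Subtype.val_injective ⟨toEnd a, toEnd_mem_adj ha⟩
    rw [h1]
    exact minpoly.natDegree_le _
  refine le_trans ?_ hdeg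
  have hSA : ∀ b ∈ S, toEnd b ∈ adj A := by
    intro b hb
    obtain ⟨h, rfl⟩ := hS b hb
    exact toEnd_mem_adj (hN.conj_mem a ha h)
  let T : Finset (adj A) := S.attach.image fun b => ⟨toEnd b.1, hSA b.1 b.2⟩
  have hT : T.card = S.card := by
    rw [Finset.card_image_of_injective, Finset.card_attach]
    intro x y hxy
    apply Subtype.ext
    apply toEnd_injective
    exact congrArg Subtype.val hxy
  rw [← hT]
  let cr : CommRing (adj A) := { (inferInstance : Ring (adj A)) with mul_comm := hf.mul_comm }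
  have hd' : @IsDomain (adj A) (cr.toCommSemiring.toSemiring) := hd
  refine @card_roots_le_aux p _ (adj A) cr hd' (inferInstance) f hf0 T ?_
  intro b hb
  obtain ⟨⟨b', hb'⟩, -, rfl⟩ := Finset.mem_image.mp hb
  apply Subtype.val_injective
  have h0 : Polynomial.aeval (toEnd a : Module.End (ZMod p) V) f = 0 := minpoly.aeval _ _
  obtain ⟨h, rfl⟩ := hS b' hb'
  have h2 := Polynomial.aeval_algHom_apply
    (((h : V ≃ₗ[ZMod p] V).conjAlgEquiv (ZMod p)) : Module.End (ZMod p) V →ₐ[ZMod p] Module.End (ZMod p) V)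
    (toEnd a) f
  have h3 := Polynomial.aeval_algHom_apply (adj A).val
    (⟨toEnd (h * a * h⁻¹), hSA _ hb'⟩ : adj A) f
  rw [h0, map_zero] at h2
  refine Eq.trans h3.symm ?_
  exact h2

theorem Reg.card_add_one (hreg : Reg H) (hV : Nontrivial V) : Nat.card H + 1 = Nat.card V := by
  classical
  obtain ⟨v₀, hv₀⟩ := exists_ne (0 : V)
  let f : H → {v : V // v ≠ 0} := fun h => ⟨(h : V ≃ₗ[ZMod p] V) v₀, by
    intro h0
    exact hv₀ (by simpa using h0)⟩
  have hf : Function.Bijective f := by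
    constructor
    · intro x y hxy
      have h1 : (x : V ≃ₗ[ZMod p] V) v₀ = (y : V ≃ₗ[ZMod p] V) v₀ := congrArg Subtype.val hxy
      have hy0 : (y : V ≃ₗ[ZMod p] V) v₀ ≠ 0 := (f y).2
      exact (hreg v₀ _ hv₀ hy0).unique h1 rfl
    · rintro ⟨w, hw⟩
      obtain ⟨h, hh, -⟩ := hreg v₀ w hv₀ hw
      exact ⟨h, Subtype.ext hh⟩
  rw [Nat.card_eq_of_bijective f hf]
  have := Fintype.ofFinite V
  rw [Nat.card_eq_fintype_card, Nat.card_eq_fintype_card, Fintype.card_subtype_compl]
  have : 0 < Fintype.card V := Fintype.card_pos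
  simp
  omega

/-- Two distinct minimal subspaces: the square bound. -/
theorem IsMin.card_mul_le {N : Subgroup H} {W₁ W₂ : Submodule (ZMod p) V} (h1 : IsMin N W₁)
    (h2 : IsMin N W₂) (hne : W₁ ≠ W₂) : Nat.card W₁ * Nat.card W₂ ≤ Nat.card V := by
  rw [← Nat.card_prod]
  apply Nat.card_le_card_of_injective (fun x : W₁ × W₂ => (x.1 : V) + (x.2 : V))
  rintro ⟨⟨a, ha⟩, ⟨b, hb⟩⟩ ⟨⟨c, hc⟩, ⟨d, hd⟩⟩ h
  simp only at h
  have hinf := h1.inf_eq_bot h2 hne
  have h3 : a - c = d - b := by
    rw [sub_eq_sub_iff_add_eq_add, h, add_comm]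
  have hmem : a - c ∈ W₁ ⊓ W₂ := ⟨W₁.sub_mem ha hc, h3 ▸ W₂.sub_mem hd hb⟩
  rw [hinf] at hmem
  have h4 : a - c = 0 := by simpa using hmem
  have h5 : a = c := sub_eq_zero.mp h4
  have h6 : d = b := by
    rw [h4] at h3
    exact (sub_eq_zero.mp h3.symm)
  subst h5
  subst h6
  rfl

/-- The main theorem behind S0685: a normal abelian self-centralizing subgroup must be irreducible. -/
theorem Reg.not_self_centralizing (hreg : Reg H) {A : Subgroup H} (hN : A.Normal)
    (hA : IsMulCommutative A) (hC : ∀ x : H, (∀ a ∈ A, x * a = a * x) → x ∈ A)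
    {W : Submodule (ZMod p) V} (hW : IsMin A W) (hWtop : W ≠ ⊤) : False := by
  classical
  have hV : Nontrivial V := by
    obtain ⟨u, _, hu⟩ := Submodule.exists_mem_ne_zero_of_ne_bot hW.ne
    exact ⟨⟨u, 0, hu⟩⟩
  have := Fintype.ofFinite H
  have hcyc := hreg.isCyclic hV hN hA
  obtain ⟨g, hg⟩ := hcyc.exists_generator
  -- the second minimal subspace
  obtain ⟨u, hu⟩ : ∃ u, u ∉ W := by
    by_contra hall
    push Not at hall
    exact hWtop (Submodule.eq_top_iff'.mpr hall)
  have hu0 : u ≠ 0 := fun h => hu (h ▸ W.zero_mem)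
  obtain ⟨W', hW', huW'⟩ := hreg.exists_isMin_mem hN hu0
  have hne : W ≠ W' := by
    rintro rfl
    exact hu huW'
  have hq1 : Nat.card (adj A) = Nat.card W := hreg.card_adj_eq hN hA hW
  have hq2 : Nat.card (adj A) = Nat.card W' := hreg.card_adj_eq hN hA hW'
  have hsq := hW.card_mul_le hW' hne
  rw [← hq1, ← hq2] at hsq
  set q := Nat.card (adj A) with hq
  set k := Module.finrank (ZMod p) (adj A) with hk
  have hqk : q = p ^ k := by
    rw [hq, Module.natCard_eq_pow_finrank (K := ZMod p), Nat.card_zmod]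
  -- the conjugates
  let S : Finset H := Finset.univ.image fun h : H => h * (g : H) * h⁻¹
  have hS : S.card ≤ k := hreg.card_conj_le hV hN hA g.2 S (by
    intro b hb
    obtain ⟨h, -, rfl⟩ := Finset.mem_image.mp hb
    exact ⟨h, rfl⟩)
  have hfib : (Finset.univ : Finset H).card ≤ Nat.card A * S.card := by
    apply Finset.card_le_mul_card_image
    intro b hb
    obtain ⟨h₀, -, rfl⟩ := Finset.mem_image.mp hb
    rw [Nat.card_eq_fintype_card (α := A), ← Fintype.card_coe]
    refine Fintype.card_le_of_injective (fun x => ⟨h₀⁻¹ * x.1, ?_⟩) ?_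
    · have hx := (Finset.mem_filter.mp x.2).2
      apply hC
      intro a ha
      have hga : ∃ n : ℤ, a = ((g : H)) ^ n := by
        obtain ⟨n, hn⟩ := Subgroup.mem_zpowers_iff.mp (hg ⟨a, ha⟩)
        refine ⟨n, ?_⟩
        have := congrArg Subtype.val hn
        simpa using this.symm
      have hcomm : h₀⁻¹ * x.1 * g = g * (h₀⁻¹ * x.1) := by
        have h1 : x.1 * g = h₀ * g * h₀⁻¹ * x.1 := by
          calc x.1 * g = (x.1 * g * x.1⁻¹) * x.1 := by group
            _ = _ := by rw [hx]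
        calc h₀⁻¹ * x.1 * g = h₀⁻¹ * (x.1 * g) := by group
          _ = h₀⁻¹ * (h₀ * g * h₀⁻¹ * x.1) := by rw [h1]
          _ = g * (h₀⁻¹ * x.1) := by group
      obtain ⟨n, rfl⟩ := hga
      exact ((Commute.zpow_right hcomm n))
    · intro x y hxy
      have := congrArg Subtype.val hxy
      simp only [mul_right_inj] at this
      exact Subtype.ext this
  have hfib' : Nat.card H ≤ Nat.card A * k := by
    rw [Nat.card_eq_fintype_card, ← Finset.card_univ]
    exact hfib.trans (Nat.mul_le_mul_left _ hS)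
  have hcard := hreg.card_add_one hV
  have hqW : 2 ≤ q := by
    rw [hq1]
    have hnt : Nontrivial W := by
      obtain ⟨v, hv, hv0⟩ := Submodule.exists_mem_ne_zero_of_ne_bot hW.ne
      exact ⟨⟨⟨v, hv⟩, 0, fun h => hv0 (congrArg Subtype.val h)⟩⟩
    exact Finite.one_lt_card
  have hAd := hreg.card_dvd hV hN hA
  have hAq : Nat.card A ≤ q - 1 := Nat.le_of_dvd (by omega) hAd
  have hkq : k < q := by
    rw [hqk]
    exact Nat.lt_pow_self (Fact.out : p.Prime).one_lt
  obtain ⟨r, hr⟩ : ∃ r, q = r + 1 := ⟨q - 1, by omega⟩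
  rw [hr] at hAq hsq hkq hqW
  simp only [Nat.add_sub_cancel] at hAq
  have h1 : Nat.card A * k ≤ r * r := Nat.mul_le_mul hAq (by omega)
  nlinarith

/-- Schur: the centralizer in `H` of an irreducible subgroup is abelian. -/
theorem centralizer_comm_of_irreducible {N : Subgroup H} (hV : Nontrivial V)
    (hirr : ∀ W : Submodule (ZMod p) V, Inv N W → W = ⊥ ∨ W = ⊤) {x y : H}
    (hx : ∀ n ∈ N, x * n = n * x) (hy : ∀ n ∈ N, y * n = n * y) : x * y = y * x := by
  let S : Subalgebra (ZMod p) (Module.End (ZMod p) V) :=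
    Subalgebra.centralizer (ZMod p) (Set.range fun n : N => toEnd (n : H))
  have hmem : ∀ c : H, (∀ n ∈ N, c * n = n * c) → toEnd c ∈ S := by
    intro c hc
    rw [Subalgebra.mem_centralizer_iff]
    rintro _ ⟨n, rfl⟩
    simp only
    rw [← toEnd_mul, ← toEnd_mul, hc n n.2]
  have := comm_of_inj hV S (by
    intro z hz u hu hzu
    have hker : Inv N (LinearMap.ker z) := by
      intro a ha v hv
      rw [LinearMap.mem_ker] at hv ⊢
      have h1 := (Subalgebra.mem_centralizer_iff (ZMod p)).mp hz (toEnd a) ⟨⟨a, ha⟩, rfl⟩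
      have h2 := congrArg (fun f : Module.End (ZMod p) V => f v) h1
      simp only [Module.End.mul_apply, toEnd_apply] at h2
      rw [← h2, hv, map_zero]
    rcases hirr _ hker with h | h
    · exfalso
      have : u ∈ LinearMap.ker z := hzu
      rw [h] at this
      exact hu (by simpa using this)
    · exact LinearMap.ker_eq_top.mp h) (hmem x hx) (hmem y hy)
  apply ext_of_apply
  intro v
  exact congrArg (fun f : Module.End (ZMod p) V => f v) this

end Cfsg.Agent.Lib.RegLin
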