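import Mathlib
import Cfsg.Agent.Lib.RegLin
import Cfsg.Agent.Lib.UniqueSub
import Cfsg.Agent.Lib.FpfGeneral

/-!
# Linear groups regular on the non-zero vectors, part 2

Arbitrary abelian subgroups are cyclic; `p`-subgroups are cyclic or generalized quaternion;
the minimal non-abelian normal subgroups in the centralizer of a maximal normal abelian subgroup
with proper derived subgroup are quaternion of order 8.
-/

set_option autoImplicit false

namespace Cfsg.Agent.Lib.RegLin

variable {p : ℕ} [Fact p.Prime] {V : Type*} [AddCommGroup V] [Module (ZMod p) V]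
variable {H : Subgroup (V ≃ₗ[ZMod p] V)}
variable [Finite V]

/-- Two elements of the algebra generated by an abelian subgroup commute. -/
theorem adj_comm {B : Subgroup H} (hB : IsMulCommutative B) (x y : adj B) : x * y = y * x := by
  apply Subtype.ext
  obtain ⟨x, hx⟩ := x
  obtain ⟨y, hy⟩ := y
  show x * y = y * x
  unfold adj at hy
  induction hy using Algebra.adjoin_induction with
  | mem y hy =>
    obtain ⟨b, rfl⟩ := hy
    exact adj_commute hB hx b.2
  | algebraMap r => exact (Algebra.commutes r x).symm
  | add u v _ _ ihu ihv => rw [mul_add, add_mul, ihu, ihv]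
  | mul u v _ _ ihu ihv => rw [← mul_assoc, ihu, mul_assoc, ihv, mul_assoc]

/-- An arbitrary abelian subgroup of `H` is cyclic. -/
theorem Reg.isCyclic_of_comm (hreg : Reg H) (hV : Nontrivial V) {B : Subgroup H}
    (hB : IsMulCommutative B) : IsCyclic B := by
  classical
  have htop : (⊤ : Submodule (ZMod p) V) ≠ ⊥ := by
    obtain ⟨u, hu⟩ := exists_ne (0 : V)
    intro h
    exact hu ((Submodule.eq_bot_iff _).mp h u trivial)
  obtain ⟨W, -, hW⟩ := exists_isMin B ⊤ htop (fun _ _ _ _ => trivial)
  let cr : CommRing (adj B) := { (inferInstance : Ring (adj B)) with mul_comm := adj_comm hB }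
  let I : Ideal (adj B) :=
    { carrier := {x | ∀ v ∈ W, (x : Module.End (ZMod p) V) v = 0}
      add_mem' := by
        intro a b ha hb v hv
        have h1 := ha v hv
        have h2 := hb v hv
        show ((a : Module.End (ZMod p) V) + b) v = 0
        rw [LinearMap.add_apply, h1, h2, add_zero]
      zero_mem' := fun v _ => rfl
      smul_mem' := by
        intro c x hx v hv
        show (c : Module.End (ZMod p) V) ((x : Module.End (ZMod p) V) v) = 0
        rw [hx v hv, map_zero] }
  have hImem : ∀ x : adj B, x ∈ I ↔ ∀ v ∈ W, (x : Module.End (ZMod p) V) v = 0 := fun _ => Iff.rfl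
  obtain ⟨v₀, hv₀, hv₀0⟩ := Submodule.exists_mem_ne_zero_of_ne_bot hW.ne
  have hI : I.IsPrime := by
    rw [Ideal.isPrime_iff]
    constructor
    · intro h
      have : (1 : adj B) ∈ I := by rw [h]; trivial
      exact hv₀0 (((hImem _).mp this) v₀ hv₀)
    · intro x y hxy
      by_cases hy : y ∈ I
      · exact Or.inr hy
      · left
        rw [hImem] at hy ⊢
        push Not at hy
        obtain ⟨v, hv, hyv⟩ := hy
        -- the image of `W` under `y` is `W`
        let U : Submodule (ZMod p) V := W.map (y : Module.End (ZMod p) V)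
        have hUW : U ≤ W := by
          rintro _ ⟨w, hw, rfl⟩
          exact adj_apply_mem hW.inv y.2 hw
        have hUinv : Inv B U := by
          rintro a ha _ ⟨w, hw, rfl⟩
          refine ⟨_, hW.inv a ha w hw, ?_⟩
          have := congrArg (fun f : Module.End (ZMod p) V => f w) (adj_commute hB y.2 ha)
          exact this
        rcases hW.min U hUW hUinv with h | h
        · exfalso
          have : (y : Module.End (ZMod p) V) v ∈ U := ⟨v, hv, rfl⟩
          rw [h] at this
          exact hyv (by simpa using this)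
        · intro w hw
          rw [← h] at hw
          obtain ⟨w', hw', rfl⟩ := hw
          exact ((hImem _).mp hxy) w' hw'
  let f : B →* (adj B ⧸ I) := (Ideal.Quotient.mk I).toMonoidHom.comp (toAdj B)
  have hf : Function.Injective f := by
    intro a b hab
    have h1 : toAdj B a - toAdj B b ∈ I := Ideal.Quotient.eq.mp hab
    have h2 := ((hImem _).mp h1) v₀ hv₀
    have h3 : toEnd (a : H) v₀ = toEnd (b : H) v₀ := by
      have h4 : (toEnd (a : H) - toEnd (b : H)) v₀ = 0 := h2
      rw [LinearMap.sub_apply, sub_eq_zero] at h4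
      exact h4
    have h5 : ((b : H)⁻¹ * (a : H)) = 1 := by
      apply hreg.fpf _ hv₀0
      rw [coe_mul_apply]
      have : ((a : H) : V ≃ₗ[ZMod p] V) v₀ = ((b : H) : V ≃ₗ[ZMod p] V) v₀ := h3
      rw [this, coe_inv_apply]
    apply Subtype.ext
    exact (inv_mul_eq_one.mp h5).symm
  have : IsDomain (adj B ⧸ I) := Ideal.Quotient.isDomain I
  exact isCyclic_of_injective_ringHom f hf

/-- A `q`-subgroup is cyclic or generalized quaternion. -/
theorem Reg.cyclic_or_quaternion (hreg : Reg H) (hV : Nontrivial V) {q : ℕ} [Fact q.Prime]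
    (X : Subgroup H) (hX : IsPGroup q X) :
    IsCyclic X ∨ (q = 2 ∧ ∃ n : ℕ, Nonempty (X ≃* QuaternionGroup (2 ^ n))) := by
  apply Cfsg.Agent.Lib.UniqueSub.main q hX
  apply Cfsg.Agent.Lib.FpfGeneral.unique_of_forall_cyclic hX
  intro E hE
  have hc : IsMulCommutative E :=
    IsPGroup.isMulCommutative_of_card_eq_prime_sq (p := q) (by rw [hE, sq])
  have hmap : IsMulCommutative (E.map X.subtype) := by
    refine ⟨⟨?_⟩⟩
    rintro ⟨_, a, ha, rfl⟩ ⟨_, b, hb, rfl⟩
    apply Subtype.ext
    have := hc.is_comm.comm ⟨a, ha⟩ ⟨b, hb⟩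
    exact congrArg (fun z : E => ((z : X) : H)) this
  have := hreg.isCyclic_of_comm hV hmap
  let e : E ≃* E.map X.subtype := E.equivMapOfInjective X.subtype X.subtype_injective
  exact isCyclic_of_surjective e.symm e.symm.surjective

/-- A normal abelian subgroup centralizing a maximal normal abelian subgroup `A` lies in `A`. -/
theorem le_of_comm {A M : Subgroup H} (hAn : A.Normal) (hAc : IsMulCommutative A)
    (hAmax : ∀ B : Subgroup H, B.Normal → IsMulCommutative B → A ≤ B → B = A)
    (hMn : M.Normal) (hMc : IsMulCommutative M) (hMA : M ≤ Subgroup.centralizer (A : Set H)) :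
    M ≤ A := by
  have hcomm : IsMulCommutative ↥(M ⊔ A) := by
    refine ⟨⟨?_⟩⟩
    rintro ⟨x, hx⟩ ⟨y, hy⟩
    apply Subtype.ext
    have hx' : x ∈ ((M ⊔ A : Subgroup H) : Set H) := hx
    have hy' : y ∈ ((M ⊔ A : Subgroup H) : Set H) := hy
    rw [Subgroup.normal_mul] at hx' hy'
    obtain ⟨m, hm, a, ha, rfl⟩ := Set.mem_mul.mp hx'
    obtain ⟨m', hm', a', ha', rfl⟩ := Set.mem_mul.mp hy'
    have h1 : m * m' = m' * m := congrArg Subtype.val (hMc.is_comm.comm ⟨m, hm⟩ ⟨m', hm'⟩)
    have h2 : a * a' = a' * a := congrArg Subtype.val (hAc.is_comm.comm ⟨a, ha⟩ ⟨a', ha'⟩)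
    have h3 : a * m' = m' * a := Subgroup.mem_centralizer_iff.mp (hMA hm') a ha
    have h4 : a' * m = m * a' := Subgroup.mem_centralizer_iff.mp (hMA hm) a' ha'
    show m * a * (m' * a') = m' * a' * (m * a)
    calc m * a * (m' * a') = m * (a * m') * a' := by group
      _ = m * m' * (a * a') := by rw [h3]; group
      _ = m' * m * (a' * a) := by rw [h1, h2]
      _ = m' * (m * a') * a := by group
      _ = m' * a' * (m * a) := by rw [← h4]; group
  have h := hAmax (M ⊔ A) inferInstance hcomm le_sup_right
  exact le_sup_left.trans h.le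

/-- A minimal non-abelian normal subgroup centralizing a maximal normal abelian subgroup,
with a proper derived subgroup, is quaternion of order 8. -/
theorem Reg.quaternion_of_derived_ne (hreg : Reg H) (hV : Nontrivial V) {A N : Subgroup H}
    (hAn : A.Normal) (hAc : IsMulCommutative A)
    (hAmax : ∀ B : Subgroup H, B.Normal → IsMulCommutative B → A ≤ B → B = A)
    (hNn : N.Normal) (hNle : N ≤ Subgroup.centralizer (A : Set H)) (hNna : ¬ IsMulCommutative N)
    (hNmin : ∀ M : Subgroup H, M.Normal → M ≤ N → ¬ IsMulCommutative M → M = N)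
    (hd : ⁅N, N⁆ ≠ N) : Nonempty (N ≃* QuaternionGroup 2) := by
  classical
  -- proper `H`-normal subgroups of `N` commute with `N`
  have hcentral : ∀ M : Subgroup H, M.Normal → M ≤ N → M ≠ N → ∀ x ∈ M, ∀ y ∈ N, x * y = y * x := by
    intro M hMn hMN hne x hx y hy
    have hMc : IsMulCommutative M := by
      by_contra hcon
      exact hne (hNmin M hMn hMN hcon)
    have hMA := le_of_comm hAn hAc hAmax hMn hMc (hMN.trans hNle)
    exact Subgroup.mem_centralizer_iff.mp (hNle hy) x (hMA hx)
  have hN'n : (⁅N, N⁆ : Subgroup H).Normal := inferInstance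
  have hN'le : (⁅N, N⁆ : Subgroup H) ≤ N := Subgroup.commutator_le_left N N
  have hnil : Group.IsNilpotent N := by
    rw [Subgroup.nilpotent_iff_lowerCentralSeries]
    refine ⟨2, ?_⟩
    rw [eq_bot_iff]
    show ⁅⁅(⊤ : Subgroup N), ⊤⁆, ⊤⁆ ≤ ⊥
    rw [Subgroup.commutator_le]
    intro c hc g _
    have hc' : (c : H) ∈ (⁅N, N⁆ : Subgroup H) := by
      have h1 : (c : H) ∈ (⁅(⊤ : Subgroup N), ⊤⁆ : Subgroup N).map N.subtype := ⟨c, hc, rfl⟩
      have e1 : (⊤ : Subgroup N).map N.subtype = N := by simp [← MonoidHom.range_eq_map]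
      rwa [Subgroup.map_commutator, e1] at h1
    have h2 := hcentral _ hN'n hN'le hd c hc' g g.2
    rw [Subgroup.mem_bot, commutatorElement_eq_one_iff_mul_comm]
    exact Subtype.ext h2
  -- `N` is a `q`-group
  obtain ⟨q, hq, hqN⟩ : ∃ q : ℕ, q.Prime ∧ IsPGroup q N := by
    by_contra hcon
    push Not at hcon
    apply hNna
    have hall : ∀ (q : ℕ) (_ : Fact q.Prime) (P : Sylow q N), (P : Subgroup N) ≤ Subgroup.center N := by
      intro q hq P
      have hPn : (P : Subgroup N).Normal := inferInstance
      have hPc : (P : Subgroup N).Characteristic := Sylow.characteristic_of_normal P hPn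
      have hMn : ((P : Subgroup N).map N.subtype).Normal := inferInstance
      have hMle : (P : Subgroup N).map N.subtype ≤ N := Subgroup.map_subtype_le _
      have hne : (P : Subgroup N).map N.subtype ≠ N := by
        intro h
        apply hcon q hq.out
        have htop : (P : Subgroup N) = ⊤ := by
          rw [eq_top_iff]
          intro x _
          have hx : (x : H) ∈ (P : Subgroup N).map N.subtype := by rw [h]; exact x.2
          obtain ⟨y, hy, hxy⟩ := hx
          have : y = x := Subtype.ext hxy
          rwa [← this]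
        intro g
        have hg : g ∈ (P : Subgroup N) := by rw [htop]; trivial
        obtain ⟨k, hk⟩ := P.isPGroup' ⟨g, hg⟩
        exact ⟨k, congrArg Subtype.val hk⟩
      intro x hx
      rw [Subgroup.mem_center_iff]
      intro g
      apply Subtype.ext
      exact (hcentral _ hMn hMle hne x ⟨x, hx, rfl⟩ g g.2).symm
    have hdvd : Nat.card N ∣ Nat.card (Subgroup.center N) := by
      rw [Nat.dvd_iff_prime_pow_dvd_dvd]
      intro r k hr hrk
      have : Fact r.Prime := ⟨hr⟩
      let P : Sylow r N := default
      have h1 := Sylow.pow_dvd_card_of_pow_dvd_card P hrk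
      exact h1.trans (Subgroup.card_dvd_of_le (hall r this P))
    have hc : Subgroup.center N = ⊤ := by
      apply Subgroup.eq_top_of_card_eq
      exact Nat.dvd_antisymm (Subgroup.card_subgroup_dvd_card _) hdvd
    refine ⟨⟨fun a b => ?_⟩⟩
    have : a ∈ Subgroup.center N := by rw [hc]; trivial
    exact (Subgroup.mem_center_iff.mp this b).symm
  have : Fact q.Prime := ⟨hq⟩
  rcases hreg.cyclic_or_quaternion hV N hqN with hcyc | ⟨rfl, n, ⟨e⟩⟩
  · exfalso
    apply hNna
    exact ⟨⟨fun a b => (@mul_comm _ hcyc.commGroup.toCommMagma a b)⟩⟩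
  -- order at most 8
  have hnzero : NeZero (2 ^ n) := ⟨by positivity⟩
  rcases n with _ | _ | n
  · exfalso
    apply hNna
    have h1 : IsCyclic (QuaternionGroup (2 ^ 0)) := by
      simpa using QuaternionGroup.quaternionGroup_one_isCyclic
    have h2 : IsCyclic N := isCyclic_of_surjective e.symm e.symm.surjective
    exact ⟨⟨fun a b => (@mul_comm _ h2.commGroup.toCommMagma a b)⟩⟩
  · exact ⟨e⟩
  · exfalso
    set m := 2 ^ (n + 1 + 1) with hm
    have hm4 : 4 ≤ m := by
      rw [hm, pow_succ, pow_succ]
      have : 1 ≤ 2 ^ n := Nat.one_le_two_pow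
      omega
    let α : N := e.symm (QuaternionGroup.a 1)
    have hαo : orderOf α = 2 * m := by
      rw [MulEquiv.orderOf_eq]
      exact QuaternionGroup.orderOf_a_one
    let M : Subgroup H := Subgroup.zpowers (α : H)
    have hαH : orderOf (α : H) = 2 * m := by
      rw [Subgroup.orderOf_coe]
      exact hαo
    have hMle : M ≤ N := by
      rw [Subgroup.zpowers_le]
      exact α.2
    have hMn : M.Normal := by
      constructor
      intro x hx g
      obtain ⟨k, rfl⟩ := Subgroup.mem_zpowers_iff.mp hx
      rw [← conj_zpow]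
      apply Subgroup.zpow_mem
      -- `g α g⁻¹` has the large order
      let β : N := ⟨g * (α : H) * g⁻¹, hNn.conj_mem _ α.2 g⟩
      have hβ : orderOf β = 2 * m := by
        rw [← Subgroup.orderOf_coe, ← hαH]
        exact (MulEquiv.orderOf_eq (MulAut.conj g) (α : H))
      have hβ2 : orderOf (e β) = 2 * m := by rw [MulEquiv.orderOf_eq]; exact hβ
      obtain ⟨j, hj⟩ : ∃ j : ZMod (2 * m), e β = QuaternionGroup.a j := by
        cases hh : e β with
        | a j => exact ⟨j, rfl⟩
        | xa j =>
          exfalso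
          rw [hh, QuaternionGroup.orderOf_xa] at hβ2
          omega
      have h1 : β = α ^ j.val := by
        apply e.injective
        rw [hj, map_pow]
        simp only [α, MulEquiv.apply_symm_apply]
        rw [QuaternionGroup.a_one_pow]
        simp
      have h2 := congrArg Subtype.val h1
      show g * (α : H) * g⁻¹ ∈ M
      have h3 : g * (α : H) * g⁻¹ = (α : H) ^ j.val := by
        simpa [β] using h2
      rw [h3]
      exact Subgroup.npow_mem_zpowers _ _
    have hMne : M ≠ N := by
      intro h
      have hc : IsCyclic M := inferInstance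
      have hcN : IsCyclic N := by
        rw [h] at hc
        exact hc
      apply hNna
      exact ⟨⟨fun a b => (@mul_comm _ hcN.commGroup.toCommMagma a b)⟩⟩
    -- `α` is central in `N`, contradiction
    let γ : N := e.symm (QuaternionGroup.xa 0)
    have hcomm := hcentral M hMn hMle hMne α (Subgroup.mem_zpowers _) γ γ.2
    have h1 : α * γ = γ * α := Subtype.ext hcomm
    have h2 := congrArg e h1
    simp only [map_mul, α, γ, MulEquiv.apply_symm_apply] at h2
    rw [QuaternionGroup.a_mul_xa, QuaternionGroup.xa_mul_a] at h2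
    have h3 : (0 - 1 : ZMod (2 * m)) = 0 + 1 := QuaternionGroup.xa.inj h2
    have h4 : (2 : ZMod (2 * m)) = 0 := by
      have : (2 : ZMod (2 * m)) = (0 + 1) - (0 - 1) := by ring
      rw [this, h3, sub_self]
    have h5 : (2 * m) ∣ 2 := by
      rw [← ZMod.natCast_eq_zero_iff]
      exact_mod_cast h4
    have := Nat.le_of_dvd (by norm_num) h5
    omega

end Cfsg.Agent.Lib.RegLin
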