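import Mathlib
import Cfsg.Agent.Lib.RegLin2
import Cfsg.Agent.Lib.QuatHom

/-!
# Linear groups regular on the non-zero vectors, part 3

The automorphism group of the quaternion group of order 8 has order 24; a regular linear group with
an irreducible normal quaternion subgroup of order 8 acts on a plane.
-/

set_option autoImplicit false

namespace Cfsg.Agent.Lib.RegLin

open Cfsg.Agent.Lib

theorem zmod3_no_sqrt : ∀ c : ZMod 3, c * c + 1 ≠ 0 := by decide

section AutQ8

/-- The pairs of generators of the quaternion group of order 8. -/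
def IsGenPair (x : QuaternionGroup 2 × QuaternionGroup 2) : Prop :=
  x.1 ^ 4 = 1 ∧ x.1 ^ 2 ≠ 1 ∧ x.2 * x.2 = x.1 ^ 2 ∧ x.2 * x.1 * x.2⁻¹ = x.1⁻¹

instance : DecidablePred IsGenPair := fun x => by
  unfold IsGenPair
  infer_instance

theorem card_genPair : Nat.card {x // IsGenPair x} = 24 := by
  rw [Nat.card_eq_fintype_card, Fintype.card_subtype]
  decide +kernel

/-- Every element of `Q8` is a word in the generators. -/
theorem q8_word (q : QuaternionGroup 2) :
    (∃ k : ℕ, q = QuaternionGroup.a 1 ^ k) ∨ (∃ k : ℕ, q = QuaternionGroup.xa 0 * QuaternionGroup.a 1 ^ k) := by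
  cases q with
  | a i =>
    left
    refine ⟨i.val, ?_⟩
    rw [QuaternionGroup.a_one_pow]
    simp
  | xa i =>
    right
    refine ⟨i.val, ?_⟩
    rw [QuaternionGroup.a_one_pow, QuaternionGroup.xa_mul_a]
    simp

theorem card_mulAut_q8 : Nat.card (MulAut (QuaternionGroup 2)) = 24 := by
  classical
  rw [← card_genPair]
  have hpair : ∀ φ : MulAut (QuaternionGroup 2),
      IsGenPair (φ (QuaternionGroup.a 1), φ (QuaternionGroup.xa 0)) := by
    intro φ
    have h1 : (QuaternionGroup.a 1 : QuaternionGroup 2) ^ 4 = 1 := by decide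
    have h2 : (QuaternionGroup.a 1 : QuaternionGroup 2) ^ 2 ≠ 1 := by decide
    have h3 : (QuaternionGroup.xa 0 : QuaternionGroup 2) * QuaternionGroup.xa 0 =
        QuaternionGroup.a 1 ^ 2 := by decide
    have h4 : (QuaternionGroup.xa 0 : QuaternionGroup 2) * QuaternionGroup.a 1 *
        (QuaternionGroup.xa 0)⁻¹ = (QuaternionGroup.a 1)⁻¹ := by decide
    refine ⟨?_, ?_, ?_, ?_⟩
    · simp only
      rw [← map_pow, h1, map_one]
    · simp only
      rw [← map_pow]
      intro h
      exact h2 (φ.injective (by rw [h, map_one]))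
    · simp only
      rw [← map_mul, h3, map_pow]
    · simp only
      rw [← map_inv φ, ← map_inv φ, ← map_mul, ← map_mul, h4]
  refine Nat.card_eq_of_bijective
    (fun φ => ⟨(φ (QuaternionGroup.a 1), φ (QuaternionGroup.xa 0)), hpair φ⟩) ⟨?_, ?_⟩
  · intro φ ψ h
    have h1 : φ (QuaternionGroup.a 1) = ψ (QuaternionGroup.a 1) :=
      congrArg (fun x => x.1.1) h
    have h2 : φ (QuaternionGroup.xa 0) = ψ (QuaternionGroup.xa 0) :=
      congrArg (fun x => x.1.2) h
    ext q
    rcases q8_word q with ⟨k, rfl⟩ | ⟨k, rfl⟩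
    · rw [map_pow, map_pow, h1]
    · rw [map_mul, map_mul, map_pow, map_pow, h1, h2]
  · rintro ⟨⟨u, w⟩, hu4, hu2, hw, hc⟩
    simp only at hu4 hu2 hw hc
    have hA : u ^ (2 * 2) = 1 := hu4
    have ho : orderOf u = 2 * 2 := by
      have : orderOf u = 2 ^ (1 + 1) :=
        orderOf_eq_prime_pow (p := 2) (by simpa using hu2) (by simpa using hu4)
      simpa using this
    let f := QuatHom.lift (n := 2) hA hw hc
    have hinj : Function.Injective f := QuatHom.lift_injective hA hw hc hu2 ho
    have hbij : Function.Bijective f := Finite.injective_iff_bijective.mp hinj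
    let φ : MulAut (QuaternionGroup 2) := MulEquiv.ofBijective f hbij
    refine ⟨φ, ?_⟩
    apply Subtype.ext
    have h1 : f (QuaternionGroup.a 1) = u := by
      show QuatHom.P u (1 : ZMod (2 * 2)) = u
      unfold QuatHom.P
      have : (1 : ZMod (2 * 2)).val = 1 := rfl
      rw [this, pow_one]
    have h2 : f (QuaternionGroup.xa 0) = w := by
      show w * QuatHom.P u (0 : ZMod (2 * 2)) = w
      unfold QuatHom.P
      have : (0 : ZMod (2 * 2)).val = 0 := rfl
      rw [this, pow_zero, mul_one]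
    exact Prod.ext h1 h2

end AutQ8

section Plane

variable {p : ℕ} [Fact p.Prime] {V : Type*} [AddCommGroup V] [Module (ZMod p) V] [Finite V]
variable {H : Subgroup (V ≃ₗ[ZMod p] V)}

/-- An involution acts as `-1`. -/
theorem Reg.involution_neg (hreg : Reg H) {z : H} (hz : z * z = 1) (hz1 : z ≠ 1) (v : V) :
    (z : V ≃ₗ[ZMod p] V) v = -v := by
  by_contra hcon
  have h0 : v + (z : V ≃ₗ[ZMod p] V) v ≠ 0 := by
    intro h
    exact hcon (eq_neg_of_add_eq_zero_right h)
  apply hz1
  apply hreg.fpf z h0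
  have h1 : (z : V ≃ₗ[ZMod p] V) ((z : V ≃ₗ[ZMod p] V) v) = v := by
    rw [← coe_mul_apply, hz]
    rfl
  rw [map_add, h1, add_comm]

/-- The characteristic is odd if there is an involution. -/
theorem Reg.two_ne_zero (hreg : Reg H) (hV : Nontrivial V) {z : H} (hz : z * z = 1) (hz1 : z ≠ 1) :
    (2 : ZMod p) ≠ 0 := by
  intro h
  obtain ⟨v, hv⟩ := exists_ne (0 : V)
  apply hz1
  apply hreg.fpf z hv
  rw [hreg.involution_neg hz hz1]
  have h2 : v + v = 0 := by rw [← two_smul (ZMod p) v, h, zero_smul]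
  exact neg_eq_of_add_eq_zero_left h2

/-- The plane spanned by an eigenvector of `a i + b j`. -/
theorem Reg.exists_plane (hreg : Reg H) (hV : Nontrivial V) {i j : H} (hz1 : i * i ≠ 1)
    (hz2 : (i * i) * (i * i) = 1) (hjj : j * j = i * i) (hji : j * i * j⁻¹ = i⁻¹) :
    ∃ y : V, y ≠ 0 ∧
      (∀ v ∈ Submodule.span (ZMod p) {y, (i : V ≃ₗ[ZMod p] V) ((j : V ≃ₗ[ZMod p] V) y)},
        (i : V ≃ₗ[ZMod p] V) v ∈ Submodule.span (ZMod p) {y, (i : V ≃ₗ[ZMod p] V) ((j : V ≃ₗ[ZMod p] V) y)}) ∧
      (∀ v ∈ Submodule.span (ZMod p) {y, (i : V ≃ₗ[ZMod p] V) ((j : V ≃ₗ[ZMod p] V) y)},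
        (j : V ≃ₗ[ZMod p] V) v ∈ Submodule.span (ZMod p) {y, (i : V ≃ₗ[ZMod p] V) ((j : V ≃ₗ[ZMod p] V) y)}) ∧
      Module.finrank (ZMod p) (Submodule.span (ZMod p) {y, (i : V ≃ₗ[ZMod p] V) ((j : V ≃ₗ[ZMod p] V) y)}) = 2 := by
  have h2 := hreg.two_ne_zero hV hz2 hz1
  set I : V ≃ₗ[ZMod p] V := (i : V ≃ₗ[ZMod p] V) with hI
  set J : V ≃ₗ[ZMod p] V := (j : V ≃ₗ[ZMod p] V) with hJ
  have hII : ∀ v, I (I v) = -v := by
    intro v
    rw [hI, ← coe_mul_apply]
    exact hreg.involution_neg hz2 hz1 v
  have hJJ : ∀ v, J (J v) = -v := by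
    intro v
    rw [hJ, ← coe_mul_apply, hjj]
    exact hreg.involution_neg hz2 hz1 v
  have hJI : ∀ v, J (I v) = -I (J v) := by
    intro v
    have h1 : j * i = i⁻¹ * j := by rw [← hji]; group
    have h3 : J (I v) = ((i⁻¹ : H) : V ≃ₗ[ZMod p] V) (J v) := by
      rw [hJ, hI, ← coe_mul_apply, h1, coe_mul_apply]
    rw [h3]
    apply I.injective
    rw [hI, coe_apply_inv, map_neg, ← hI, hII, neg_neg]
  -- the auxiliary map
  have hIK : ∀ v, I (I (J v)) = -J v := fun v => hII _
  have hJK : ∀ v, J (I (J v)) = I v := by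
    intro v
    rw [hJI, hJJ, map_neg, neg_neg]
  have hKI : ∀ v, I (J (I v)) = J v := by
    intro v
    rw [hJI, map_neg, hII, neg_neg]
  have hKJ : ∀ v, I (J (J v)) = -I v := by
    intro v
    rw [hJJ, map_neg]
  obtain ⟨a, b, hab⟩ := ZMod.sq_add_sq p (-1 : ZMod p)
  have hab' : ∀ x : V, (a ^ 2 + b ^ 2) • x = -x := by
    intro x
    rw [hab, neg_one_smul]
  -- existence of a vector `x` with `(1 + U) x ≠ 0`
  obtain ⟨x, hx⟩ : ∃ x : V, x + a • I x + b • J x ≠ 0 := by
    by_contra hcon
    push Not at hcon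
    obtain ⟨w, hw⟩ := exists_ne (0 : V)
    have h1 := hcon w
    have h3 := hcon (I (J w))
    rw [hIK, hJK] at h3
    have h4 := congrArg (fun u => I (J u)) h1
    simp only [map_add, map_smul, hKI, hKJ, map_zero] at h4
    have h5 : (2 : ZMod p) • I (J w) = 0 := by
      rw [two_smul]
      calc I (J w) + I (J w) = (I (J w) + a • -J w + b • I w) + (I (J w) + a • J w + b • -I w) := by
            module
        _ = 0 := by rw [h3, h4, add_zero]
    have h6 : I (J w) = 0 := by
      rcases smul_eq_zero.mp h5 with h | h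
      · exact absurd h h2
      · exact h
    have h7 : J w = 0 := by
      have := hIK w
      rw [h6, map_zero] at this
      exact neg_eq_zero.mp this.symm
    have h8 : w = 0 := by
      have := hJJ w
      rw [h7, map_zero] at this
      exact neg_eq_zero.mp this.symm
    exact hw h8
  obtain ⟨y, hy⟩ : ∃ y, y = x + a • I x + b • J x := ⟨_, rfl⟩
  rw [← hy] at hx
  -- `y` is an eigenvector
  have hUy : a • I y + b • J y = y := by
    rw [hy]
    simp only [map_add, map_smul, hII, hJJ, hJI]
    have := hab' x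
    calc _ = a • I x + b • J x - (a ^ 2 + b ^ 2) • x := by module
      _ = _ := by rw [this]; module
  have hIy : I y = (-a) • y + b • I (J y) := by
    have := congrArg I hUy
    simp only [map_add, map_smul, hII] at this
    exact this.symm.trans (by module)
  have hJy : J y = (-b) • y + (-a) • I (J y) := by
    have := congrArg J hUy
    simp only [map_add, map_smul, hJI, hJJ] at this
    exact this.symm.trans (by module)
  have hKy : I (J y) ≠ 0 := by
    intro h
    have h7 : J y = 0 := by
      have := hIK y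
      rw [h, map_zero] at this
      exact neg_eq_zero.mp this.symm
    have h8 : y = 0 := by
      have := hJJ y
      rw [h7, map_zero] at this
      exact neg_eq_zero.mp this.symm
    exact hx h8
  have hmemy : y ∈ Submodule.span (ZMod p) {y, I (J y)} :=
    Submodule.subset_span (Set.mem_insert _ _)
  have hmemK : I (J y) ∈ Submodule.span (ZMod p) {y, I (J y)} :=
    Submodule.subset_span (Set.mem_insert_of_mem _ rfl)
  have hmemIy : I y ∈ Submodule.span (ZMod p) {y, I (J y)} := by
    rw [hIy]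
    exact Submodule.add_mem _ (Submodule.smul_mem _ _ hmemy) (Submodule.smul_mem _ _ hmemK)
  have hmemJy : J y ∈ Submodule.span (ZMod p) {y, I (J y)} := by
    have := Submodule.add_mem _ (Submodule.smul_mem _ (-b) hmemy) (Submodule.smul_mem _ (-a) hmemK)
    rwa [← hJy] at this
  refine ⟨y, hx, ?_, ?_, ?_⟩
  · intro v hv
    obtain ⟨s, t, rfl⟩ := Submodule.mem_span_pair.mp hv
    rw [map_add, map_smul, map_smul, hIK]
    exact Submodule.add_mem _ (Submodule.smul_mem _ _ hmemIy)
      (Submodule.smul_mem _ _ (Submodule.neg_mem _ hmemJy))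
  · intro v hv
    obtain ⟨s, t, rfl⟩ := Submodule.mem_span_pair.mp hv
    rw [map_add, map_smul, map_smul, hJK]
    exact Submodule.add_mem _ (Submodule.smul_mem _ _ hmemJy)
      (Submodule.smul_mem _ _ hmemIy)
  · -- linear independence
    have hind : LinearIndependent (ZMod p) ![y, I (J y)] := by
      rw [LinearIndependent.pair_iff]
      intro s t hst
      have h1 := congrArg (fun u => a • I u + b • J u) hst
      simp only [map_add, map_smul, map_zero, smul_zero, add_zero, hIK, hJK] at h1
      have h3 : s • y + (-t) • I (J y) = 0 := by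
        have e1 : a • (s • I y + t • -J y) + b • (s • J y + t • I y)
            = s • (a • I y + b • J y) + t • ((-a) • J y + b • I y) := by module
        have e2 : (-a) • J y + b • I y = - I (J y) := by
          have e3 : (-a) • J y + b • I y =
              (-a) • ((-b) • y + (-a) • I (J y)) + b • ((-a) • y + b • I (J y)) := by
            congr 1
            · exact congrArg _ hJy
            · exact congrArg _ hIy
          rw [e3, ← hab' (I (J y))]
          module
        rw [e1, hUy, e2] at h1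
        rw [← h1]
        module
      have h4 : (2 * s) • y = 0 := by
        calc (2 * s) • y = (s • y + t • I (J y)) + (s • y + (-t) • I (J y)) := by module
          _ = 0 := by rw [hst, h3, add_zero]
      have hs : s = 0 := by
        rcases smul_eq_zero.mp h4 with h | h
        · exact (mul_eq_zero.mp h).resolve_left h2
        · exact absurd h hx
      refine ⟨hs, ?_⟩
      rw [hs, zero_smul, zero_add] at hst
      rcases smul_eq_zero.mp hst with h | h
      · exact h
      · exact absurd h hKy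
    have := finrank_span_eq_card hind
    rw [Fintype.card_fin] at this
    have hrange : Set.range ![y, I (J y)] = {y, I (J y)} := by
      simp [Matrix.range_cons, Set.pair_comm]
    rwa [hrange] at this

/-- The relations transported to `H`. -/
theorem q8_relations {N : Subgroup H} (e : N ≃* QuaternionGroup 2) :
    let f : QuaternionGroup 2 →* H := N.subtype.comp e.symm.toMonoidHom
    let i := f (QuaternionGroup.a 1)
    let j := f (QuaternionGroup.xa 0)
    i * i ≠ 1 ∧ (i * i) * (i * i) = 1 ∧ j * j = i * i ∧ j * i * j⁻¹ = i⁻¹ := by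
  intro f i j
  have hf : Function.Injective f := by
    intro x y h
    apply e.symm.injective
    exact Subtype.ext h
  have h1 : (QuaternionGroup.a 1 : QuaternionGroup 2) * QuaternionGroup.a 1 ≠ 1 := by decide
  have h2 : ((QuaternionGroup.a 1 : QuaternionGroup 2) * QuaternionGroup.a 1) *
      (QuaternionGroup.a 1 * QuaternionGroup.a 1) = 1 := by decide
  have h3 : (QuaternionGroup.xa 0 : QuaternionGroup 2) * QuaternionGroup.xa 0 =
      QuaternionGroup.a 1 * QuaternionGroup.a 1 := by decide
  have h4 : (QuaternionGroup.xa 0 : QuaternionGroup 2) * QuaternionGroup.a 1 *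
      (QuaternionGroup.xa 0)⁻¹ = (QuaternionGroup.a 1)⁻¹ := by decide
  refine ⟨?_, ?_, ?_, ?_⟩
  · intro h
    apply h1
    apply hf
    rw [map_mul, map_one]
    exact h
  · simpa only [map_mul, map_one] using congrArg f h2
  · simpa only [map_mul] using congrArg f h3
  · simpa only [map_mul, map_inv] using congrArg f h4

/-- An irreducible normal quaternion subgroup of order 8: `V` is a plane. -/
theorem Reg.finrank_eq_two_of_q8 (hreg : Reg H) (hV : Nontrivial V) {N : Subgroup H}
    (hirr : ∀ W : Submodule (ZMod p) V, Inv N W → W = ⊥ ∨ W = ⊤) (e : N ≃* QuaternionGroup 2) :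
    Module.finrank (ZMod p) V = 2 := by
  obtain ⟨hz1, hz2, hjj, hji⟩ := q8_relations e
  set f : QuaternionGroup 2 →* H := N.subtype.comp e.symm.toMonoidHom with hf
  set i := f (QuaternionGroup.a 1) with hi
  set j := f (QuaternionGroup.xa 0) with hj
  obtain ⟨y, hy, hIW, hJW, hdim⟩ := hreg.exists_plane hV hz1 hz2 hjj hji
  set W := Submodule.span (ZMod p) {y, (i : V ≃ₗ[ZMod p] V) ((j : V ≃ₗ[ZMod p] V) y)} with hW
  have hpow : ∀ (k : ℕ), ∀ v ∈ W, ((i ^ k : H) : V ≃ₗ[ZMod p] V) v ∈ W := by
    intro k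
    induction k with
    | zero => intro v hv; simpa using hv
    | succ k ih =>
      intro v hv
      rw [pow_succ, coe_mul_apply]
      exact ih _ (hIW v hv)
  have hinv : Inv N W := by
    intro n hn v hv
    have hn' : n = f (e ⟨n, hn⟩) := by simp [hf]
    rcases q8_word (e ⟨n, hn⟩) with ⟨k, hk⟩ | ⟨k, hk⟩
    · rw [hn', hk, map_pow]
      exact hpow k v hv
    · rw [hn', hk, map_mul, map_pow, coe_mul_apply]
      exact hJW _ (hpow k v hv)
  have hWne : W ≠ ⊥ := by
    intro h
    have : y ∈ W := Submodule.subset_span (Set.mem_insert _ _)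
    rw [h] at this
    exact hy (by simpa using this)
  have htop : W = ⊤ := (hirr W hinv).resolve_left hWne
  rw [htop, finrank_top] at hdim
  exact hdim

/-- Arithmetic. -/
theorem prime_cases {p : ℕ} (hp : p.Prime) (h : p + 1 ∣ 24) :
    p = 2 ∨ p = 3 ∨ p = 5 ∨ p = 7 ∨ p = 11 ∨ p = 23 := by
  have hle : p + 1 ≤ 24 := Nat.le_of_dvd (by norm_num) h
  have hp' : p ≤ 23 := by omega
  interval_cases p <;> simp_all (config := { decide := true })

/-- Arithmetic. -/
theorem arith_dvd {p a m c : ℕ} (hp : 0 < p) (ha : 0 < a) (h1 : a * m + 1 = p ^ 2)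
    (h2 : p - 1 = a * c) : p + 1 ∣ m := by
  obtain ⟨r, rfl⟩ : ∃ r, p = r + 1 := ⟨p - 1, by omega⟩
  simp only [Nat.add_sub_cancel] at h2
  refine ⟨c, ?_⟩
  apply Nat.eq_of_mul_eq_mul_left ha
  have h3 : a * m = r * (r + 1 + 1) := by
    have : (r + 1) ^ 2 = r * (r + 1 + 1) + 1 := by ring
    omega
  rw [h3, h2]
  ring

/-- The case `p = 3` does not occur. -/
theorem Reg.not_three (hreg : Reg H) (hV : Nontrivial V)
    (hI : ∀ A : Subgroup H, A.Normal → IsCyclic A →
      ∃ W : Submodule (ZMod p) V, W ≠ ⊥ ∧ W ≠ ⊤ ∧ Inv A W)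
    {N : Subgroup H} (e : N ≃* QuaternionGroup 2) (hp : p = 3)
    (hdim : Module.finrank (ZMod p) V = 2) : False := by
  subst hp
  have hcardV : Nat.card V = 9 := by
    rw [Module.natCard_eq_pow_finrank (K := ZMod 3), hdim, Nat.card_zmod]
    norm_num
  have hH8 : Nat.card H = 8 := by
    have := hreg.card_add_one hV
    omega
  obtain ⟨hz1, hz2, hjj, hji⟩ := q8_relations e
  set f : QuaternionGroup 2 →* H := N.subtype.comp e.symm.toMonoidHom with hf
  have hfinj : Function.Injective f := by
    intro x y h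
    apply e.symm.injective
    exact Subtype.ext h
  set i := f (QuaternionGroup.a 1) with hi
  have hord : orderOf i = 4 := by
    rw [hi, orderOf_injective f hfinj]
    exact QuaternionGroup.orderOf_a_one
  let B : Subgroup H := Subgroup.zpowers i
  have hBcard : Nat.card B = 4 := by
    rw [Nat.card_zpowers, hord]
  have hBi : B.index = 2 := by
    have := B.card_mul_index
    rw [hBcard, hH8] at this
    omega
  have hBn : B.Normal := Subgroup.normal_of_index_eq_two hBi
  obtain ⟨W, hW0, hWt, hWinv⟩ := hI B hBn inferInstance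
  have h1 : Module.finrank (ZMod 3) W < 2 := by
    rw [← hdim]
    exact Submodule.finrank_lt hWt
  have h2 : 1 ≤ Module.finrank (ZMod 3) W := Submodule.one_le_finrank_iff.mpr hW0
  have h3 : Module.finrank (ZMod 3) W = 1 := by omega
  obtain ⟨w, hw, hw0⟩ := Submodule.exists_mem_ne_zero_of_ne_bot hW0
  have hw' : (⟨w, hw⟩ : W) ≠ 0 := fun h => hw0 (congrArg Subtype.val h)
  have h4 := (finrank_eq_one_iff_of_nonzero' (⟨w, hw⟩ : W) hw').mp h3
  obtain ⟨c, hc⟩ := h4 ⟨(i : V ≃ₗ[ZMod 3] V) w, hWinv i (Subgroup.mem_zpowers i) w hw⟩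
  have hc' : c • w = (i : V ≃ₗ[ZMod 3] V) w := congrArg Subtype.val hc
  have h5 : (i : V ≃ₗ[ZMod 3] V) ((i : V ≃ₗ[ZMod 3] V) w) = -w := by
    rw [← coe_mul_apply]
    exact hreg.involution_neg hz2 hz1 w
  rw [← hc', map_smul, ← hc', smul_smul] at h5
  have h6 : (c * c + 1) • w = 0 := by
    rw [add_smul, h5, one_smul, neg_add_cancel]
  have h7 : c * c + 1 = 0 := (smul_eq_zero.mp h6).resolve_right hw0
  exact zmod3_no_sqrt c h7

/-- The degrees in the quaternion case. -/
theorem Reg.card_cases_of_q8 (hreg : Reg H) (hV : Nontrivial V)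
    (hI : ∀ A : Subgroup H, A.Normal → IsCyclic A →
      ∃ W : Submodule (ZMod p) V, W ≠ ⊥ ∧ W ≠ ⊤ ∧ Inv A W)
    {A N : Subgroup H} (hAn : A.Normal) (hAc : IsMulCommutative A)
    (hAmax : ∀ B : Subgroup H, B.Normal → IsMulCommutative B → A ≤ B → B = A)
    (hNn : N.Normal) (hNle : N ≤ Subgroup.centralizer (A : Set H)) (hNna : ¬ IsMulCommutative N)
    (e : N ≃* QuaternionGroup 2) :
    Nat.card V = 25 ∨ Nat.card V = 49 ∨ Nat.card V = 121 ∨ Nat.card V = 529 := by
  classical
  have hirr := hreg.irreducible_of_not_comm hNn hNna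
  have hdim := hreg.finrank_eq_two_of_q8 hV hirr e
  have hcardV : Nat.card V = p ^ 2 := by
    rw [Module.natCard_eq_pow_finrank (K := ZMod p), hdim, Nat.card_zmod]
  have hp : p.Prime := Fact.out
  have hcyc := hreg.isCyclic hV hAn hAc
  obtain ⟨W₀, hW₀, hW₀t, hinv⟩ := hI A hAn hcyc
  obtain ⟨W, hle, hW⟩ := exists_isMin A W₀ hW₀ hinv
  have hWt : W ≠ ⊤ := by
    intro h
    apply hW₀t
    rw [h] at hle
    exact top_le_iff.mp hle
  have h1 : Module.finrank (ZMod p) W < 2 := by
    rw [← hdim]
    exact Submodule.finrank_lt hWt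
  have h2 : 1 ≤ Module.finrank (ZMod p) W := Submodule.one_le_finrank_iff.mpr hW.ne
  have h3 : Module.finrank (ZMod p) W = 1 := by omega
  have hcW : Nat.card W = p := by
    rw [Module.natCard_eq_pow_finrank (K := ZMod p), h3, Nat.card_zmod, pow_one]
  have hAdvd : Nat.card A ∣ p - 1 := by
    have := hreg.card_dvd hV hAn hAc
    rwa [hreg.card_adj_eq hAn hAc hW, hcW] at this
  have hAC : A ≤ Subgroup.centralizer (N : Set H) := by
    intro a ha
    rw [Subgroup.mem_centralizer_iff]
    intro n hn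
    exact (Subgroup.mem_centralizer_iff.mp (hNle hn)) a ha |>.symm
  have hc : IsMulCommutative (Subgroup.centralizer (N : Set H)) := by
    refine ⟨⟨fun x y => Subtype.ext ?_⟩⟩
    refine centralizer_comm_of_irreducible hV hirr (fun n hn => ?_) (fun n hn => ?_)
    · exact (Subgroup.mem_centralizer_iff.mp x.2 n hn).symm
    · exact (Subgroup.mem_centralizer_iff.mp y.2 n hn).symm
  have hCN : Subgroup.centralizer (N : Set H) = A := hAmax _ inferInstance hc hAC
  have := hNn
  let ρ : H →* MulAut N := MulAut.conjNormal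
  have hker : ρ.ker = A := by
    rw [← hCN]
    ext x
    rw [MonoidHom.mem_ker, Subgroup.mem_centralizer_iff]
    constructor
    · intro h n hn
      have h4 := congrArg (fun φ : MulAut N => ((φ ⟨n, hn⟩ : N) : H)) h
      simp only [ρ, MulAut.conjNormal_apply, MulAut.one_apply] at h4
      exact (mul_inv_eq_iff_eq_mul.mp h4).symm
    · intro h
      ext n
      simp only [ρ, MulAut.conjNormal_apply, MulAut.one_apply]
      rw [(h n n.2).symm]
      group
  have hm : Nat.card ρ.range ∣ 24 := by
    rw [← card_mulAut_q8, ← Nat.card_congr (MulAut.congr e).toEquiv]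
    exact Subgroup.card_subgroup_dvd_card _
  have hH : Nat.card A * Nat.card ρ.range = Nat.card H := by
    rw [← hker, ← Subgroup.index_ker, Subgroup.card_mul_index]
  have hHV := hreg.card_add_one hV
  obtain ⟨c, hcc⟩ := hAdvd
  have hdvd : p + 1 ∣ 24 := by
    refine Dvd.dvd.trans ?_ hm
    refine arith_dvd hp.pos Nat.card_pos (m := Nat.card ρ.range) ?_ hcc
    rw [hH, hHV, hcardV]

  have hp3 : p ≠ 3 := fun h => hreg.not_three hV hI e h hdim
  have hp2 : p ≠ 2 := by
    obtain ⟨hz1, hz2, -, -⟩ := q8_relations e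
    have h4 := hreg.two_ne_zero hV hz2 hz1
    intro h
    subst h
    exact h4 rfl
  rcases prime_cases hp hdvd with h | h | h | h | h | h
  · exact absurd h hp2
  · exact absurd h hp3
  · left; rw [hcardV, h]; norm_num
  · right; left; rw [hcardV, h]; norm_num
  · right; right; left; rw [hcardV, h]; norm_num
  · right; right; right; rw [hcardV, h]; norm_num

/-- A maximal normal abelian subgroup exists. -/
theorem exists_max_normal_abelian (H : Subgroup (V ≃ₗ[ZMod p] V)) :
    ∃ A : Subgroup H, A.Normal ∧ IsMulCommutative A ∧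
      ∀ B : Subgroup H, B.Normal → IsMulCommutative B → A ≤ B → B = A := by
  have : Finite (Subgroup H) := Finite.of_injective (fun K => (K : Set H)) SetLike.coe_injective
  have wf : WellFounded ((· > ·) : Subgroup H → Subgroup H → Prop) := wellFounded_gt
  obtain ⟨A, hA, hmax⟩ := wf.has_min {B : Subgroup H | B.Normal ∧ IsMulCommutative B}
    ⟨⊥, inferInstance, ⟨⟨fun a b => by
      have h1 : a = 1 := Subsingleton.elim _ _
      rw [h1, one_mul, mul_one]⟩⟩⟩
  refine ⟨A, hA.1, hA.2, fun B hBn hBc hAB => ?_⟩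
  by_contra hne
  exact hmax B ⟨hBn, hBc⟩ (lt_of_le_of_ne hAB (Ne.symm hne))

/-- A minimal non-abelian normal subgroup in the centralizer exists. -/
theorem exists_min_nonabelian {H : Subgroup (V ≃ₗ[ZMod p] V)} (C : Subgroup H) (hCn : C.Normal)
    (hCna : ¬ IsMulCommutative C) :
    ∃ N : Subgroup H, N.Normal ∧ N ≤ C ∧ ¬ IsMulCommutative N ∧
      ∀ M : Subgroup H, M.Normal → M ≤ N → ¬ IsMulCommutative M → M = N := by
  have : Finite (Subgroup H) := Finite.of_injective (fun K => (K : Set H)) SetLike.coe_injective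
  have wf : WellFounded ((· < ·) : Subgroup H → Subgroup H → Prop) := wellFounded_lt
  obtain ⟨N, hN, hmin⟩ := wf.has_min {M : Subgroup H | M.Normal ∧ M ≤ C ∧ ¬ IsMulCommutative M}
    ⟨C, hCn, le_rfl, hCna⟩
  refine ⟨N, hN.1, hN.2.1, hN.2.2, fun M hMn hMN hMna => ?_⟩
  by_contra hne
  exact hmin M ⟨hMn, hMN.trans hN.2.1, hMna⟩ (lt_of_le_of_ne hMN hne)

/-- The centralizer of a maximal normal abelian subgroup is not abelian. -/
theorem Reg.centralizer_not_comm (hreg : Reg H) (hV : Nontrivial V)
    (hI : ∀ A : Subgroup H, A.Normal → IsCyclic A →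
      ∃ W : Submodule (ZMod p) V, W ≠ ⊥ ∧ W ≠ ⊤ ∧ Inv A W)
    {A : Subgroup H} (hAn : A.Normal) (hAc : IsMulCommutative A)
    (hAmax : ∀ B : Subgroup H, B.Normal → IsMulCommutative B → A ≤ B → B = A) :
    ¬ IsMulCommutative (Subgroup.centralizer (A : Set H)) := by
  have hcyc : IsCyclic A := hreg.isCyclic hV hAn hAc
  obtain ⟨W₀, hW₀, hW₀t, hinv⟩ := hI A hAn hcyc
  obtain ⟨W, hle, hW⟩ := exists_isMin A W₀ hW₀ hinv
  have hWt : W ≠ ⊤ := by
    intro h
    apply hW₀t
    rw [h] at hle
    exact top_le_iff.mp hle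
  have hAC : A ≤ Subgroup.centralizer (A : Set H) := by
    intro a ha
    rw [Subgroup.mem_centralizer_iff]
    intro b hb
    exact congrArg Subtype.val (hAc.is_comm.comm ⟨b, hb⟩ ⟨a, ha⟩)
  intro hc
  have hCA : Subgroup.centralizer (A : Set H) = A := hAmax _ inferInstance hc hAC
  refine hreg.not_self_centralizing hAn hAc (fun x hx => ?_) hW hWt
  rw [← hCA, Subgroup.mem_centralizer_iff]
  intro a ha
  exact (hx a ha).symm

end Plane

end Cfsg.Agent.Lib.RegLin
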