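import Mathlib
import Cfsg.Agent.Lib.SharpIdx
import Cfsg.Agent.S0688

/-!
# Linear groups regular on the non-zero vectors, with even order and at most one subgroup of order
three, have a subgroup of index two
-/

set_option autoImplicit false
set_option linter.unusedSectionVars false
set_option linter.style.haveILetI false

namespace Cfsg.Agent.Lib.SharpLin

open Cfsg.Agent.Lib.SharpIdx

universe u

variable {p : ℕ} [hp : Fact p.Prime] {V : Type u} [AddCommGroup V] [Module (ZMod p) V] [Finite V]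

/-- Two linear maps commuting with an irreducible commutative family of linear maps commute. -/
theorem comm_of_irreducible (A : Set (V ≃ₗ[ZMod p] V)) (hAc : ∀ a ∈ A, ∀ b ∈ A, a * b = b * a)
    (hA : ∀ W : Submodule (ZMod p) V, W ≠ ⊥ → (∀ a ∈ A, ∀ v ∈ W, a v ∈ W) → W = ⊤)
    (g g' : V ≃ₗ[ZMod p] V) (hg : ∀ a ∈ A, a * g = g * a) (hg' : ∀ a ∈ A, a * g' = g' * a)
    (v₀ : V) (hv₀ : v₀ ≠ 0) : g * g' = g' * g := by
  classical
  let S : Set (Module.End (ZMod p) V) := (fun a : V ≃ₗ[ZMod p] V => (a : V →ₗ[ZMod p] V)) '' A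
  let R : Subalgebra (ZMod p) (Module.End (ZMod p) V) := Algebra.adjoin (ZMod p) S
  have hSc : ∀ s ∈ S, ∀ t ∈ S, Commute s t := by
    rintro _ ⟨a, ha, rfl⟩ _ ⟨b, hb, rfl⟩
    show (a : V →ₗ[ZMod p] V) * (b : V →ₗ[ZMod p] V) = (b : V →ₗ[ZMod p] V) * (a : V →ₗ[ZMod p] V)
    have h := hAc a ha b hb
    ext v
    exact LinearEquiv.congr_fun h v
  have hcomm : ∀ x : Module.End (ZMod p) V, (∀ s ∈ S, Commute s x) → ∀ r ∈ R, Commute r x := by
    intro x hx r hr
    have h1 : R ≤ Subalgebra.centralizer (ZMod p) {x} := by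
      apply Algebra.adjoin_le
      intro s hs
      rw [SetLike.mem_coe, Subalgebra.mem_centralizer_iff]
      intro y hy
      rw [Set.mem_singleton_iff] at hy
      rw [hy]
      exact (hx s hs).symm
    have h2 := h1 hr
    rw [Subalgebra.mem_centralizer_iff] at h2
    exact (h2 x rfl).symm
  have hRc : ∀ r ∈ R, ∀ r' ∈ R, Commute r r' := by
    intro r hr r' hr'
    apply hcomm r' _ r hr
    intro s hs
    exact (hcomm s (fun t ht => hSc t ht s hs) r' hr').symm
  -- the span of the orbit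
  let W : Submodule (ZMod p) V :=
    (Subalgebra.toSubmodule R).map (LinearMap.applyₗ v₀ : Module.End (ZMod p) V →ₗ[ZMod p] V)
  have hmem : ∀ v, v ∈ W ↔ ∃ r ∈ R, r v₀ = v := by
    intro v
    constructor
    · rintro ⟨r, hr, rfl⟩
      exact ⟨r, hr, rfl⟩
    · rintro ⟨r, hr, rfl⟩
      exact ⟨r, hr, rfl⟩
  have hW1 : W ≠ ⊥ := by
    intro h
    have h1 : v₀ ∈ W := (hmem _).2 ⟨1, R.one_mem, rfl⟩
    rw [h, Submodule.mem_bot] at h1
    exact hv₀ h1
  have hWinv : ∀ a ∈ A, ∀ v ∈ W, a v ∈ W := by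
    intro a ha v hv
    obtain ⟨r, hr, rfl⟩ := (hmem v).1 hv
    have hal : (a : V →ₗ[ZMod p] V) ∈ R := Algebra.subset_adjoin ⟨a, ha, rfl⟩
    exact (hmem _).2 ⟨(a : V →ₗ[ZMod p] V) * r, R.mul_mem hal hr, rfl⟩
  have hWt := hA W hW1 hWinv
  have hall : ∀ v, ∃ r ∈ R, r v₀ = v := fun v => (hmem v).1 (by rw [hWt]; exact Submodule.mem_top)
  -- commuting on `v₀`
  have hgc : ∀ g : V ≃ₗ[ZMod p] V, (∀ a ∈ A, a * g = g * a) → ∀ r ∈ R, ∀ v, r (g v) = g (r v) := by
    intro g hg r hr v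
    have h1 : Commute r (g : V →ₗ[ZMod p] V) := by
      apply hcomm _ _ r hr
      rintro _ ⟨a, ha, rfl⟩
      show (a : V →ₗ[ZMod p] V) * (g : V →ₗ[ZMod p] V) = (g : V →ₗ[ZMod p] V) * (a : V →ₗ[ZMod p] V)
      ext v
      exact LinearEquiv.congr_fun (hg a ha) v
    exact LinearMap.congr_fun h1 v
  obtain ⟨r, hr, hrv⟩ := hall (g v₀)
  obtain ⟨r', hr', hrv'⟩ := hall (g' v₀)
  have hkey : ∀ v, g (g' v) = g' (g v) := by
    intro v
    -- the kernel of the commutator
    let C : Submodule (ZMod p) V :=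
      LinearMap.ker ((g : V →ₗ[ZMod p] V) * (g' : V →ₗ[ZMod p] V) -
        (g' : V →ₗ[ZMod p] V) * (g : V →ₗ[ZMod p] V))
    have hCmem : ∀ x, x ∈ C ↔ g (g' x) = g' (g x) := by
      intro x
      rw [LinearMap.mem_ker, LinearMap.sub_apply, sub_eq_zero]
      rfl
    have hC0 : v₀ ∈ C := by
      rw [hCmem]
      have h1 : g (g' v₀) = r' (r v₀) := by
        rw [← hrv', ← hgc g hg r' hr', hrv]
      have h2 : g' (g v₀) = r (r' v₀) := by
        rw [← hrv, ← hgc g' hg' r hr, hrv']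
      rw [h1, h2]
      exact LinearMap.congr_fun (hRc r' hr' r hr) v₀
    have hC1 : C ≠ ⊥ := by
      intro h
      rw [h, Submodule.mem_bot] at hC0
      exact hv₀ hC0
    have hCt := hA C hC1 (by
      intro a ha x hx
      rw [hCmem] at hx ⊢
      have h1 : ∀ (g : V ≃ₗ[ZMod p] V), (∀ a ∈ A, a * g = g * a) → ∀ y, g (a y) = a (g y) := by
        intro g hg y
        exact (LinearEquiv.congr_fun (hg a ha) y).symm
      rw [h1 g' hg', h1 g hg, hx, ← h1 g' hg', ← h1 g hg, h1 g hg, h1 g' hg'])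
    exact (hCmem v).1 (by rw [hCt]; exact Submodule.mem_top)
  ext v
  exact hkey v

/-- The main theorem. -/
theorem linear_index_two [Nontrivial V] (H : Subgroup (V ≃ₗ[ZMod p] V))
    (hreg : ∀ v w : V, v ≠ 0 → w ≠ 0 → ∃! h : H, (h : V ≃ₗ[ZMod p] V) v = w)
    (h2 : 2 ∣ Nat.card H)
    (h3 : ∀ A B : Subgroup H, Nat.card A = 3 → Nat.card B = 3 → A = B) :
    ∃ N : Subgroup H, N.index = 2 := by
  classical
  by_contra hno
  push Not at hno
  haveI hfin : Finite (V ≃ₗ[ZMod p] V) :=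
    Finite.of_injective (fun f : V ≃ₗ[ZMod p] V => (f : V → V))
      (fun f g h => by ext v; exact congrFun h v)
  obtain ⟨v₀, hv₀⟩ := exists_ne (0 : V)
  -- the action
  let φ : H →* MulAut (Multiplicative V) :=
    { toFun := fun h => AddEquiv.toMultiplicative ((h : V ≃ₗ[ZMod p] V).toAddEquiv)
      map_one' := rfl
      map_mul' := fun _ _ => rfl }
  have hfpf : Cfsg.Agent.Lib.FpfNorm.IsFpf φ := by
    intro a ha v hv
    by_contra hv1
    have hv1' : Multiplicative.toAdd v ≠ 0 := hv1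
    have hfix : ((a : H) : V ≃ₗ[ZMod p] V) (Multiplicative.toAdd v) = Multiplicative.toAdd v := hv
    obtain ⟨h, -, huniq⟩ := hreg _ _ hv1' hv1'
    have h4 := huniq a hfix
    have h5 := huniq 1 rfl
    exact ha (h4.trans h5.symm)
  have hQ : QC H := by
    intro A q _ hA
    exact Cfsg.Agent.Lib.FrobCompl.cyclic_or_quaternion_of_fpf hA (φ := φ.comp A.subtype)
      (hfpf.comp _ A.subtype_injective)
  obtain ⟨h9, hsolv, U, hU, x, hx, y, hy, hxy⟩ := main_abstract hQ h2 h3 hno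
  have hI : ∀ A : Subgroup H, A.Normal → IsCyclic A → ∃ W : Submodule (ZMod p) V, W ≠ ⊥ ∧ W ≠ ⊤ ∧
      ∀ a ∈ A, ∀ v ∈ W, ((a : H) : V ≃ₗ[ZMod p] V) v ∈ W := by
    intro A hAn hAc
    by_contra hcon
    push Not at hcon
    have hA' : ∀ W : Submodule (ZMod p) V, W ≠ ⊥ →
        (∀ a ∈ (fun a : H => (a : V ≃ₗ[ZMod p] V)) '' (A : Set H), ∀ v ∈ W, a v ∈ W) → W = ⊤ := by
      intro W hW1 hW2
      by_contra hW3
      obtain ⟨a, ha, v, hv, hav⟩ := hcon W hW1 hW3
      exact hav (hW2 _ ⟨a, ha, rfl⟩ v hv)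
    have hcyc : ∀ a ∈ A, ∀ b ∈ A, a * b = b * a := by
      intro a ha b hb
      have := (IsCyclic.commGroup (α := A)).mul_comm ⟨a, ha⟩ ⟨b, hb⟩
      exact congrArg Subtype.val this
    -- `U` is not in the centraliser
    have hcomm : ∀ g g' : H, (∀ a ∈ A, a * g = g * a) → (∀ a ∈ A, a * g' = g' * a) → g * g' = g' * g := by
      intro g g' hg hg'
      apply Subtype.ext
      refine comm_of_irreducible _ ?_ hA' (g : V ≃ₗ[ZMod p] V) (g' : V ≃ₗ[ZMod p] V) ?_ ?_ v₀ hv₀
      · rintro _ ⟨a, ha, rfl⟩ _ ⟨b, hb, rfl⟩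
        exact congrArg Subtype.val (hcyc a ha b hb)
      · rintro _ ⟨a, ha, rfl⟩
        exact congrArg Subtype.val (hg a ha)
      · rintro _ ⟨a, ha, rfl⟩
        exact congrArg Subtype.val (hg' a ha)
    obtain ⟨u, huU, hu⟩ : ∃ u ∈ U, ¬ ∀ a ∈ A, a * u = u * a := by
      by_contra hcon2
      push Not at hcon2
      exact hxy (hcomm x y (hcon2 x hx) (hcon2 y hy))
    -- the action on `A`
    let ψ : H →* MulAut A := MulAut.conjNormal
    have hψc : ∀ s t : H, ψ s * ψ t = ψ t * ψ s := by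
      intro s t
      have h5 := (IsCyclic.mulAutMulEquiv A).injective
      apply h5
      rw [map_mul, map_mul, mul_comm]
    obtain ⟨j, hj⟩ := (IsPGroup.iff_orderOf.mp hU) ⟨u, huU⟩
    have huj : u ^ 2 ^ j = 1 := by
      have h10 := pow_orderOf_eq_one (⟨u, huU⟩ : U)
      rw [hj] at h10
      exact congrArg Subtype.val h10
    have hψu : ψ u ≠ 1 := by
      intro h
      apply hu
      intro a ha
      have h6 := congrArg (fun f : MulAut A => ((f ⟨a, ha⟩ : A) : H)) h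
      have h7 : u * a * u⁻¹ = a := h6
      calc a * u = (u * a * u⁻¹) * u := by rw [h7]
        _ = u * a := by group
    obtain ⟨N, hN⟩ := exists_index_two_of_comm ψ hψc huj hψu
    exact hno N hN
  have hcases := Cfsg.Agent.S0688.result H hreg hI hsolv
  -- the order of `H`
  have hcard : Nat.card H + 1 = Nat.card V := by
    have h1 : Nat.card H = Nat.card {v : V // v ≠ 0} := by
      refine Nat.card_congr (Equiv.ofBijective
        (fun h : H => (⟨(h : V ≃ₗ[ZMod p] V) v₀, ?_⟩ : {v : V // v ≠ 0})) ⟨?_, ?_⟩)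
      · intro h0
        exact hv₀ (by simpa using h0)
      · intro h h' hh
        obtain ⟨t, -, huniq⟩ := hreg v₀ ((h : V ≃ₗ[ZMod p] V) v₀) hv₀
          (fun h0 => hv₀ (by simpa using h0))
        have h6 : (h' : V ≃ₗ[ZMod p] V) v₀ = (h : V ≃ₗ[ZMod p] V) v₀ :=
          (congrArg Subtype.val hh).symm
        exact (huniq h rfl).trans (huniq h' h6).symm
      · rintro ⟨w, hw⟩
        obtain ⟨t, ht, -⟩ := hreg v₀ w hv₀ hw
        exact ⟨t, Subtype.ext ht⟩
    rw [h1]
    haveI : Fintype V := Fintype.ofFinite V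
    rw [Nat.card_eq_fintype_card, Nat.card_eq_fintype_card, Fintype.card_subtype_compl,
      Fintype.card_subtype_eq]
    have : 1 ≤ Fintype.card V := Fintype.card_pos
    omega
  rcases hcases with h | h | h | h <;> rw [h] at hcard <;> omega

end Cfsg.Agent.Lib.SharpLin
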