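import Mathlib
import Cfsg.Agent.Lib.Singer
import Cfsg.Agent.Lib.Kegel
import Cfsg.Agent.Lib.FrobCompl
import Cfsg.Agent.Lib.ZassCore

/-!
# Doubly transitive groups with a regular normal subgroup in which no non-identity element fixes
three points

The degree is `2^p`, `p` a prime.
-/

set_option autoImplicit false
set_option linter.unusedSectionVars false
set_option linter.style.haveILetI false

namespace Cfsg.Agent.Lib.ZassReg

open MulAction

section FieldLemma

variable {F : Type*} [Field F] [Fintype F] [CharP F 2]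

lemma exists_frob (τ : F ≃+* F) : ∃ j : ℕ, ∀ x, τ x = x ^ 2 ^ j := by
  classical
  let _ : Algebra (ZMod 2) F := ZMod.algebra F 2
  let τ' : F ≃ₐ[ZMod 2] F := AlgEquiv.ofRingEquiv (f := τ) (by
    intro r
    obtain rfl | rfl : r = 0 ∨ r = 1 := by revert r; decide
    · rw [map_zero, map_zero]
    · rw [map_one, map_one])
  obtain ⟨n, hn⟩ := (FiniteField.bijective_frobeniusAlgEquivOfAlgebraic_pow (ZMod 2) F).2 τ'
  refine ⟨n.1, fun x => ?_⟩
  have h1 : τ x = τ' x := rfl
  rw [h1, ← hn]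
  have h2 : ∀ m : ℕ, ∀ y : F, (FiniteField.frobeniusAlgEquivOfAlgebraic (ZMod 2) F ^ m) y = y ^ 2 ^ m := by
    intro m
    induction m with
    | zero => intro y; simp
    | succ m ih =>
      intro y
      rw [pow_succ]
      show (FiniteField.frobeniusAlgEquivOfAlgebraic (ZMod 2) F ^ m) (FiniteField.frobeniusAlgEquivOfAlgebraic (ZMod 2) F y) = _
      rw [ih]
      have : FiniteField.frobeniusAlgEquivOfAlgebraic (ZMod 2) F y = y ^ 2 := by
        simp [FiniteField.frobeniusAlgEquivOfAlgebraic, ZMod.card]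
      rw [this, ← pow_mul, pow_succ 2 m, mul_comm 2]
  exact h2 _ x

lemma pow_iter {x : F} {n : ℕ} (h : x ^ 2 ^ n = x) (m : ℕ) : x ^ 2 ^ (n * m) = x := by
  induction m with
  | zero => simp
  | succ m ih =>
    rw [mul_add, mul_one, pow_add, mul_comm (2 ^ (n * m)), pow_mul, h, ih]

lemma exists_sub_elt {k n : ℕ} (hF : Fintype.card F = 2 ^ k) (hk : k ≠ 0) (hn : n ∣ k) (hn2 : 2 ≤ n) :
    ∃ x : F, x ≠ 0 ∧ x ≠ 1 ∧ x ^ 2 ^ n = x := by
  classical
  obtain ⟨g, hg⟩ := IsCyclic.exists_generator (α := Fˣ)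
  have hord : orderOf g = 2 ^ k - 1 := by
    rw [orderOf_eq_card_of_forall_mem_zpowers hg, Nat.card_eq_fintype_card, Fintype.card_units, hF]
  have hd : 2 ^ n - 1 ∣ 2 ^ k - 1 := by
    have := Nat.pow_sub_one_gcd_pow_sub_one 2 n k
    rw [Nat.gcd_eq_left hn] at this
    rw [← this]
    exact Nat.gcd_dvd_right _ _
  obtain ⟨d, hd'⟩ := hd
  have h4 : 4 ≤ 2 ^ n := by
    calc 4 = 2 ^ 2 := by norm_num
      _ ≤ 2 ^ n := Nat.pow_le_pow_right (by norm_num) hn2
  have hkpos : 0 < 2 ^ k - 1 := by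
    have : 2 ^ 1 ≤ 2 ^ k := Nat.pow_le_pow_right (by norm_num) (Nat.pos_of_ne_zero hk)
    omega
  have hd0 : d ≠ 0 := by
    rintro rfl
    simp at hd'
    omega
  have hordx : orderOf (g ^ d) = 2 ^ n - 1 := by
    rw [orderOf_pow_of_dvd hd0 ⟨2 ^ n - 1, by rw [hord, hd']; ring⟩, hord, hd']
    exact Nat.mul_div_cancel _ (Nat.pos_of_ne_zero hd0)
  refine ⟨((g ^ d : Fˣ) : F), Units.ne_zero _, ?_, ?_⟩
  · intro h
    have h1 : g ^ d = 1 := Units.ext h
    rw [h1, orderOf_one] at hordx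
    omega
  · have h5 : (g ^ d) ^ (2 ^ n - 1) = 1 := by
      rw [← hordx]; exact pow_orderOf_eq_one _
    have h6 : (g ^ d) ^ 2 ^ n = g ^ d := by
      have h7 : 2 ^ n = (2 ^ n - 1) + 1 := by omega
      conv_lhs => rw [h7, pow_succ, h5, one_mul]
    have := congrArg Units.val h6
    push_cast at this
    exact this

/-- The key property of field automorphisms. -/
theorem prime_of_aut {k : ℕ} (hF : Fintype.card F = 2 ^ k) (τ : F ≃+* F) (hτ : τ ≠ 1)
    (hfix : ∀ n : ℕ, τ ^ n ≠ 1 → ∀ y, (τ ^ n) y = y → y = 0 ∨ y = 1) : k.Prime := by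
  classical
  have hk0 : k ≠ 0 := by
    rintro rfl
    have := Fintype.one_lt_card (α := F)
    omega
  obtain ⟨j, hj⟩ := exists_frob τ
  have hpowτ : ∀ n : ℕ, ∀ y, (τ ^ n) y = y ^ 2 ^ (j * n) := by
    intro n
    induction n with
    | zero => intro y; simp
    | succ n ih =>
      intro y
      rw [pow_succ]
      show (τ ^ n) (τ y) = _
      rw [ih, hj, ← pow_mul, ← pow_add]
      congr 2
      ring
  have hj0 : j ≠ 0 := by
    rintro rfl
    apply hτ
    ext x
    rw [hj]
    simp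
  have hk1 : k ≠ 1 := by
    rintro rfl
    apply hτ
    ext x
    rw [hj]
    have h1 : x ^ 2 ^ 1 = x := by
      rw [← hF]; exact FiniteField.pow_card x
    have := pow_iter h1 j
    rw [one_mul] at this
    exact this
  by_contra hnp
  obtain ⟨u, hu, hu2, huk⟩ := Nat.exists_dvd_of_not_prime2 (by omega : 2 ≤ k) hnp
  -- `gcd j k = 1`
  have hg : Nat.gcd j k = 1 := by
    by_contra hne
    have hg0 : Nat.gcd j k ≠ 0 := by
      intro h
      exact hk0 (Nat.eq_zero_of_gcd_eq_zero_right h)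
    obtain ⟨x, hx0, hx1, hx⟩ := exists_sub_elt hF hk0 (Nat.gcd_dvd_right j k)
      (by omega : 2 ≤ Nat.gcd j k)
    obtain ⟨m, hm⟩ := Nat.gcd_dvd_left j k
    have h1 := pow_iter hx m
    rw [← hm, ← hj] at h1
    have h2 := hfix 1 (by simpa using hτ) x (by simpa using h1)
    rcases h2 with h2 | h2
    · exact hx0 h2
    · exact hx1 h2
  by_cases hu1 : τ ^ u = 1
  · -- `τ^u = 1`
    obtain ⟨g, hgg⟩ := IsCyclic.exists_generator (α := Fˣ)
    have hord : orderOf g = 2 ^ k - 1 := by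
      rw [orderOf_eq_card_of_forall_mem_zpowers hgg, Nat.card_eq_fintype_card, Fintype.card_units, hF]
    have h1 : (g : F) ^ 2 ^ (j * u) = g := by
      rw [← hpowτ, hu1]
      rfl
    have h2 : g ^ 2 ^ (j * u) = g := by
      apply Units.ext
      push_cast
      exact h1
    have h3 : g ^ (2 ^ (j * u) - 1) = 1 := by
      have h4 : 1 ≤ 2 ^ (j * u) := Nat.one_le_two_pow
      have h5 : g ^ (2 ^ (j * u) - 1) * g = g := by
        rw [← pow_succ, Nat.sub_add_cancel h4, h2]
      exact mul_eq_right.mp h5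
    have h6 := orderOf_dvd_of_pow_eq_one h3
    rw [hord] at h6
    have h7 := Nat.pow_sub_one_gcd_pow_sub_one 2 k (j * u)
    rw [Nat.gcd_eq_left h6] at h7
    have h8 : Nat.gcd k (j * u) = k := by
      have hlt : 0 < Nat.gcd k (j * u) := Nat.gcd_pos_of_pos_left _ (Nat.pos_of_ne_zero hk0)
      have h9 : 2 ^ k = 2 ^ Nat.gcd k (j * u) := by
        have h10 : 1 ≤ 2 ^ k := Nat.one_le_two_pow
        have h11 : 1 ≤ 2 ^ Nat.gcd k (j * u) := Nat.one_le_two_pow
        omega
      exact (Nat.pow_right_injective (le_refl 2) h9).symm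
    have h12 : k ∣ j * u := by
      rw [← h8]; exact Nat.gcd_dvd_right _ _
    have h13 : k ∣ u := (Nat.Coprime.dvd_of_dvd_mul_left (by rw [Nat.coprime_comm]; exact hg) h12)
    have := Nat.le_of_dvd (by omega) h13
    omega
  · obtain ⟨x, hx0, hx1, hx⟩ := exists_sub_elt hF hk0 hu hu2
    have h1 := pow_iter hx j
    have h2 := hfix u hu1 x (by rw [hpowτ, mul_comm]; exact h1)
    rcases h2 with h2 | h2
    · exact hx0 h2
    · exact hx1 h2

end FieldLemma

section Abstract

/-- The abstract form of the last step. -/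
theorem abstract_prime {N K : Type*} [CommGroup N] [Finite N] [CommGroup K] (ρ : K →* MulAut N)
    {x₀ : N} (hx₀ : x₀ ≠ 1)
    (hreg : ∀ x y : N, x ≠ 1 → y ≠ 1 → ∃! r : K, ρ r x = y)
    (σ : MulAut N) (hσ : σ ≠ 1) (hσx : σ x₀ = x₀)
    (hnorm : ∀ r : K, ∃ r' : K, ∀ v : N, σ (ρ r v) = ρ r' (σ v))
    (hfix : ∀ n : ℕ, σ ^ n ≠ 1 → ∀ v : N, (σ ^ n) v = v → v = 1 ∨ v = x₀)
    {k : ℕ} (hk : Nat.card N = 2 ^ k) : k.Prime := by
  classical
  have hk0 : k ≠ 0 := by
    rintro rfl
    have : Nontrivial N := ⟨⟨x₀, 1, hx₀⟩⟩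
    have := Finite.one_lt_card (α := N)
    omega
  let F := GaloisField 2 k
  haveI : Fact (Nat.Prime 2) := ⟨Nat.prime_two⟩
  haveI : Fintype F := Fintype.ofFinite (GaloisField 2 k)
  have hcardF : Fintype.card F = 2 ^ k := by
    rw [← Nat.card_eq_fintype_card]
    exact GaloisField.card 2 k hk0
  let V := Additive N
  letI act : DistribMulAction K V :=
    { smul := fun r v => Additive.ofMul (ρ r v.toMul)
      one_smul := fun v => by
        show Additive.ofMul (ρ 1 v.toMul) = v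
        rw [map_one]; rfl
      mul_smul := fun r s v => by
        show Additive.ofMul (ρ (r * s) v.toMul) = Additive.ofMul (ρ r (ρ s v.toMul))
        rw [map_mul]; rfl
      smul_zero := fun r => by
        show Additive.ofMul (ρ r 1) = 0
        rw [map_one]; rfl
      smul_add := fun r v w => by
        show Additive.ofMul (ρ r (v.toMul * w.toMul)) = _
        rw [map_mul]; rfl }
  have hsm : ∀ (r : K) (v : V), r • v = Additive.ofMul (ρ r v.toMul) := fun _ _ => rfl
  have hreg' : ∀ x y : V, x ≠ 0 → y ≠ 0 → ∃! a : K, a • x = y := by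
    intro x y hx hy
    obtain ⟨r, hr, hu⟩ := hreg x.toMul y.toMul hx hy
    exact ⟨r, congrArg Additive.ofMul hr, fun s hs => hu s (congrArg Additive.toMul hs)⟩
  have hv₀ : (Additive.ofMul x₀ : V) ≠ 0 := hx₀
  have hcV : Fintype.card F = Nat.card V := by
    rw [hcardF, ← hk]; rfl
  obtain ⟨ι, χ, hι, hχ⟩ := Cfsg.Agent.Lib.Singer.singer_coords _ hv₀ hreg' F hcV
  set c₀ := ι (Additive.ofMul x₀) with hc₀
  have hc₀ne : c₀ ≠ 0 := by
    intro h
    exact hv₀ (ι.injective (h.trans (map_zero ι).symm))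
  -- normalised coordinates
  let e : V ≃+ F := ι.trans
    { toFun := fun y => c₀⁻¹ * y
      invFun := fun y => c₀ * y
      left_inv := fun y => by
        show c₀ * (c₀⁻¹ * y) = y
        rw [← mul_assoc, mul_inv_cancel₀ hc₀ne, one_mul]
      right_inv := fun y => by
        show c₀⁻¹ * (c₀ * y) = y
        rw [← mul_assoc, inv_mul_cancel₀ hc₀ne, one_mul]
      map_add' := fun y z => mul_add _ _ _ }
  have he : ∀ v, e v = c₀⁻¹ * ι v := fun _ => rfl
  have he1 : e (Additive.ofMul x₀) = 1 := by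
    rw [he, ← hc₀]; exact inv_mul_cancel₀ hc₀ne
  have heχ : ∀ (r : K) (v : V), e (r • v) = χ r * e v := by
    intro r v
    rw [he, he, hι]
    ring
  -- the maps
  let tt : MulAut N → (F → F) := fun s y => e (Additive.ofMul (s (e.symm y).toMul))
  have htt : ∀ s y, tt s y = e (Additive.ofMul (s (e.symm y).toMul)) := fun _ _ => rfl
  have hsymm : ∀ v, e.symm (e v) = v := e.symm_apply_apply
  have httmul : ∀ (s t : MulAut N) y, tt (s * t) y = tt s (tt t y) := by
    intro s t y
    simp only [htt, hsymm]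
    rfl
  have htt1 : ∀ y, tt 1 y = y := by
    intro y
    simp only [htt]
    show e (e.symm y) = y
    exact e.apply_symm_apply y
  have hσmul : ∀ y z : F, tt σ (y * z) = tt σ y * tt σ z := by
    intro y z
    by_cases hy : y = 0
    · subst hy
      simp only [zero_mul, htt, map_zero]
      show e (Additive.ofMul (σ 1)) = _
      rw [map_one]
      show e 0 = _
      simp
    · obtain ⟨r, hr⟩ := hχ.2 (Units.mk0 y hy)
      have hr' : (χ r : F) = y := by rw [hr]; rfl
      obtain ⟨r', hr2⟩ := hnorm r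
      have key : ∀ w : F, tt σ ((χ r : F) * w) = χ r' * tt σ w := by
        intro w
        have h1 : (χ r : F) * w = e (r • e.symm w) := by
          rw [heχ, e.apply_symm_apply]
        rw [h1, htt, hsymm, htt, ← heχ, hsm]
        show e (Additive.ofMul (σ (ρ r (e.symm w).toMul))) = _
        rw [hr2]
        rfl
      have h1 : tt σ 1 = 1 := by
        rw [htt]
        have h2 : e.symm 1 = Additive.ofMul x₀ := by
          rw [← he1, hsymm]
        rw [h2]
        show e (Additive.ofMul (σ x₀)) = 1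
        rw [hσx, he1]
      have h3 : tt σ y = χ r' := by
        have := key 1
        rw [mul_one, h1, mul_one, hr'] at this
        exact this
      rw [h3, ← hr', key]
  have hσadd : ∀ y z : F, tt σ (y + z) = tt σ y + tt σ z := by
    intro y z
    have h1 : e.symm (y + z) = e.symm y + e.symm z := map_add e.symm y z
    rw [htt, htt, htt, h1, ← map_add e]
    congr 1
    show Additive.ofMul (σ ((e.symm y).toMul * (e.symm z).toMul)) =
      Additive.ofMul (σ (e.symm y).toMul * σ (e.symm z).toMul)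
    rw [map_mul]
  have hσinv : Function.LeftInverse (tt σ⁻¹) (tt σ) := by
    intro y
    rw [← httmul, inv_mul_cancel, htt1]
  have hσinv' : Function.RightInverse (tt σ⁻¹) (tt σ) := by
    intro y
    rw [← httmul, mul_inv_cancel, htt1]
  let T : F ≃+* F :=
    { toFun := tt σ
      invFun := tt σ⁻¹
      left_inv := hσinv
      right_inv := hσinv'
      map_mul' := hσmul
      map_add' := hσadd }
  have hT : ∀ y, T y = tt σ y := fun _ => rfl
  have hTpow : ∀ (n : ℕ) y, (T ^ n) y = tt (σ ^ n) y := by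
    intro n
    induction n with
    | zero =>
      intro y
      simp [htt1]
    | succ n ih =>
      intro y
      rw [pow_succ, pow_succ, httmul, ← hT, ← ih]
      rfl
  have hF2 : CharP F 2 := inferInstance
  refine prime_of_aut hcardF T ?_ ?_
  · intro h
    apply hσ
    ext v
    have h1 := congrArg (fun f : F ≃+* F => f (e (Additive.ofMul v))) h
    simp only [hT, htt, hsymm] at h1
    have h2 := e.injective h1
    exact congrArg Additive.toMul h2
  · intro n hn y hy
    have hσn : σ ^ n ≠ 1 := by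
      intro h
      apply hn
      ext w
      rw [hTpow, h, htt1]
      rfl
    rw [hTpow, htt] at hy
    have h1 : e (Additive.ofMul ((σ ^ n) (e.symm y).toMul)) = e (e.symm y) := by
      rw [hy, e.apply_symm_apply]
    have h2 := e.injective h1
    rcases hfix n hσn _ (congrArg Additive.toMul h2) with h3 | h3
    · left
      have h4 : e.symm y = 0 := h3
      rw [← e.apply_symm_apply y, h4, map_zero]
    · right
      have h4 : e.symm y = Additive.ofMul x₀ := h3
      rw [← e.apply_symm_apply y, h4, he1]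

/-- The version for groups that are commutative by hypothesis. -/
theorem abstract_prime' {N K : Type*} [Group N] [Finite N] [Group K]
    (hNc : ∀ x y : N, x * y = y * x) (hKc : ∀ x y : K, x * y = y * x) (ρ : K →* MulAut N)
    {x₀ : N} (hx₀ : x₀ ≠ 1)
    (hreg : ∀ x y : N, x ≠ 1 → y ≠ 1 → ∃! r : K, ρ r x = y)
    (σ : MulAut N) (hσ : σ ≠ 1) (hσx : σ x₀ = x₀)
    (hnorm : ∀ r : K, ∃ r' : K, ∀ v : N, σ (ρ r v) = ρ r' (σ v))
    (hfix : ∀ n : ℕ, σ ^ n ≠ 1 → ∀ v : N, (σ ^ n) v = v → v = 1 ∨ v = x₀)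
    {k : ℕ} (hk : Nat.card N = 2 ^ k) : k.Prime := by
  letI iN : CommGroup N := { ‹Group N› with mul_comm := hNc }
  letI iK : CommGroup K := { ‹Group K› with mul_comm := hKc }
  exact abstract_prime ρ hx₀ hreg σ hσ hσx hnorm hfix hk

end Abstract

section Sylow

universe u v

/-- A `q`-subgroup of odd order acting fixed-point-freely on an abelian group is cyclic. -/
lemma cyclic_of_fpf_odd {A : Type u} {V : Type v} [Group A] [Finite A] [Group V] [Finite V] [Nontrivial V]
    (hV : ∀ x y : V, x * y = y * x) {q : ℕ} [Fact q.Prime] (hA : IsPGroup q A)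
    (hodd : q = 2 → Nat.card A = 1) (φ : A →* MulAut V)
    (h : Cfsg.Agent.Lib.FpfNorm.IsFpf φ) : IsCyclic A := by
  letI iV : CommGroup V := { ‹Group V› with mul_comm := hV }
  rcases Cfsg.Agent.Lib.FrobCompl.cyclic_or_quaternion_of_fpf hA (φ := φ) h with h1 | ⟨h1, -⟩
  · exact h1
  · have := hodd h1
    have : Subsingleton A := (Nat.card_eq_one_iff_unique.mp this).1
    exact isCyclic_of_subsingleton

end Sylow

section Pre

variable {G Ω : Type*} [Group G] [MulAction G Ω] [Finite Ω] [FaithfulSMul G Ω]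

theorem exists_kernel'
    (h2 : ∀ {a b c d : Ω}, a ≠ b → c ≠ d → ∃ g : G, g • a = c ∧ g • b = d)
    (h3 : ∀ g : G, ∀ a b c : Ω, a ≠ b → b ≠ c → a ≠ c → g • a = a → g • b = b → g • c = c → g = 1)
    (hfix : ∃ g : G, g ≠ 1 ∧ ∃ a b : Ω, a ≠ b ∧ g • a = a ∧ g • b = b) (a : Ω) :
    ∃ K : Subgroup G, Cfsg.Agent.Lib.ZassCore.IsKernelAt G a K := by
  classical
  have : Finite G :=
    Finite.of_injective (MulAction.toPerm : G → Equiv.Perm Ω) (MulAction.toPerm_injective)
  let A := stabilizer G a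
  let X := {c : Ω // c ≠ a}
  let _ : MulAction A X :=
    { smul := fun g c => ⟨(g : G) • c.1, fun h => c.2 (by
          have h2 : (g : G) • c.1 = (g : G) • a := by rw [h]; exact (mem_stabilizer_iff.mp g.2).symm
          exact smul_left_cancel _ h2)⟩
      one_smul := fun c => Subtype.ext (one_smul G c.1)
      mul_smul := fun g h c => Subtype.ext (mul_smul (g : G) (h : G) c.1) }
  have hsmul : ∀ (g : A) (c : X), ((g • c : X) : Ω) = (g : G) • (c : Ω) := fun _ _ => rfl
  have : IsPretransitive A X := by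
    constructor
    intro c d
    obtain ⟨g, hg1, hg2⟩ := h2 (Ne.symm c.2) (Ne.symm d.2)
    exact ⟨⟨g, hg1⟩, Subtype.ext hg2⟩
  obtain ⟨g, hg, a', b', hab, ha', hb'⟩ := hfix
  obtain ⟨c', hc'⟩ : ∃ c : Ω, g • c ≠ (1 : G) • c := by
    by_contra hcon
    push Not at hcon
    exact hg (eq_of_smul_eq_smul hcon)
  rw [one_smul] at hc'
  have hca : c' ≠ a' := fun h => hc' (by rw [h, ha'])
  have hcb : c' ≠ b' := fun h => hc' (by rw [h, hb'])
  -- two points different from `a`
  obtain ⟨x₀, y₀, hx₀, hy₀, hxy⟩ : ∃ x y : Ω, x ≠ a ∧ y ≠ a ∧ x ≠ y := by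
    by_cases h1 : a' = a
    · exact ⟨b', c', h1 ▸ Ne.symm hab, h1 ▸ hca, Ne.symm hcb⟩
    · by_cases h2 : b' = a
      · exact ⟨a', c', h1, h2 ▸ hcb, Ne.symm hca⟩
      · exact ⟨a', b', h1, h2, hab⟩
  have hfree : ∀ g : A, ∀ x y : X, g ≠ 1 → g • x = x → g • y = y → x = y := by
    intro g x y hg hx hy
    by_contra hne
    have hxy' : (x : Ω) ≠ y := fun h => hne (Subtype.ext h)
    have hx' : (g : G) • (x : Ω) = x := congrArg Subtype.val hx
    have hy' : (g : G) • (y : Ω) = y := congrArg Subtype.val hy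
    exact hg (Subtype.ext (h3 _ _ _ _ hxy' y.2 x.2 hx' hy'
      (mem_stabilizer_iff.mp g.2)))
  have hne : stabilizer A (⟨x₀, hx₀⟩ : X) ≠ ⊥ := by
    obtain ⟨t, ht1, ht2⟩ := h2 hab (Ne.symm hx₀)
    have hu : t * g * t⁻¹ ≠ 1 := by
      intro h3
      apply hg
      have : g = t⁻¹ * (t * g * t⁻¹) * t := by group
      rw [this, h3]; simp
    have hua : (t * g * t⁻¹) • a = a := by rw [← ht1]; simp [mul_smul, ha']
    have hux : (t * g * t⁻¹) • x₀ = x₀ := by rw [← ht2]; simp [mul_smul, hb']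
    intro hbot
    have : (⟨t * g * t⁻¹, hua⟩ : A) ∈ stabilizer A (⟨x₀, hx₀⟩ : X) :=
      mem_stabilizer_iff.mpr (Subtype.ext hux)
    rw [hbot, Subgroup.mem_bot] at this
    exact hu (congrArg Subtype.val this)
  obtain ⟨R, hR1, hR2, hR3⟩ := Cfsg.Agent.Lib.ZassCore.exists_regular_kernel hfree (⟨x₀, hx₀⟩ : X) ⟨y₀, hy₀⟩
    (fun h => hxy (congrArg Subtype.val h)) hne
  refine ⟨R.map A.subtype, ?_, ?_, ?_, ?_⟩
  · rintro k ⟨r, -, rfl⟩
    exact r.2
  · rintro g hg k ⟨r, hr, rfl⟩
    refine ⟨⟨g, hg⟩ * r * ⟨g, hg⟩⁻¹, hR1.conj_mem r hr _, ?_⟩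
    simp
  · intro g hg
    constructor
    · rintro ⟨r, hr, rfl⟩
      rcases (hR2 r).1 hr with h | h
      · left; simp [h]
      · right
        intro c hc hrc
        exact h ⟨c, hc⟩ (Subtype.ext hrc)
    · intro h
      refine ⟨⟨g, hg⟩, (hR2 _).2 ?_, rfl⟩
      rcases h with h | h
      · left; exact Subtype.ext h
      · right
        intro x hx
        exact h x.1 x.2 (congrArg Subtype.val hx)
  · intro c d hc hd
    obtain ⟨r, hr1, hr2⟩ := hR3 ⟨c, hc⟩ ⟨d, hd⟩
    refine ⟨(r : A), ⟨⟨r, r.2, rfl⟩, congrArg Subtype.val hr1⟩, ?_⟩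
    rintro k ⟨⟨s, hs, rfl⟩, hk⟩
    have : (⟨s, hs⟩ : R) = r := hr2 _ (Subtype.ext hk)
    exact congrArg (fun t : R => ((t : A) : G)) this

end Pre

section Main

/-- The theorem. -/
theorem main {G Ω : Type*} [Group G] [MulAction G Ω] [Fintype Ω] [FaithfulSMul G Ω]
    (h2 : MulAction.IsMultiplyPretransitive G Ω 2)
    (h3 : ∀ g : G, ∀ a b c : Ω, a ≠ b → b ≠ c → a ≠ c → g • a = a → g • b = b → g • c = c → g = 1)
    (hfix : ∃ g : G, g ≠ 1 ∧ ∃ a b : Ω, a ≠ b ∧ g • a = a ∧ g • b = b)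
    (N : Subgroup G) [hNn : N.Normal] (hNt : MulAction.IsPretransitive N Ω)
    (hNr : ∀ a : Ω, MulAction.stabilizer N a = ⊥) :
    ∃ p : ℕ, p.Prime ∧ Fintype.card Ω = 2 ^ p := by
  classical
  have hfinG : Finite G :=
    Finite.of_injective (MulAction.toPerm : G → Equiv.Perm Ω) (MulAction.toPerm_injective)
  obtain ⟨g₀, hg₀, a, b, hab, hg₀a, hg₀b⟩ := hfix
  have hba : b ≠ a := Ne.symm hab
  obtain ⟨K, hK⟩ := exists_kernel' (G := G) (Ω := Ω) (fun {x y c d} hxy hcd => (is_two_pretransitive_iff.mp h2) hxy hcd) h3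
    ⟨g₀, hg₀, a, b, hab, hg₀a, hg₀b⟩ a
  -- regularity of `N`
  have hNstab : ∀ n ∈ N, n • a = a → n = 1 := by
    intro n hn hna
    have h1 : (⟨n, hn⟩ : N) ∈ MulAction.stabilizer N a := mem_stabilizer_iff.mpr hna
    rw [hNr a, Subgroup.mem_bot] at h1
    exact congrArg Subtype.val h1
  have hNinj : ∀ m ∈ N, ∀ n ∈ N, m • a = n • a → m = n := by
    intro m hm n hn hmn
    have h1 : (n⁻¹ * m) • a = a := by rw [mul_smul, hmn, inv_smul_smul]
    have h2 := hNstab _ (N.mul_mem (N.inv_mem hn) hm) h1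
    exact (inv_mul_eq_one.mp h2).symm
  have hNsurj : ∀ c : Ω, ∃ n ∈ N, n • a = c := by
    intro c
    obtain ⟨n, hn⟩ := hNt.exists_smul_eq a c
    exact ⟨n, n.2, hn⟩
  have hcardN : Nat.card N = Fintype.card Ω := by
    rw [← Nat.card_eq_fintype_card]
    refine Nat.card_congr (Equiv.ofBijective (fun n : N => (n : G) • a) ⟨?_, ?_⟩)
    · intro m n hmn
      exact Subtype.ext (hNinj m m.2 n n.2 hmn)
    · intro c
      obtain ⟨n, hn, hnc⟩ := hNsurj c
      exact ⟨⟨n, hn⟩, hnc⟩
  -- the conjugation formula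
  have hconj : ∀ g : G, g • a = a → ∀ n : G, (g * n * g⁻¹) • a = g • (n • a) := by
    intro g hg n
    rw [mul_smul, mul_smul]
    congr 2
    exact inv_smul_eq_iff.mpr hg.symm
  have hcent : ∀ g : G, g • a = a → (∀ n ∈ N, g * n * g⁻¹ = n) → g = 1 := by
    intro g hg hn
    apply eq_of_smul_eq_smul (α := Ω)
    intro c
    obtain ⟨n, hnN, rfl⟩ := hNsurj c
    rw [one_smul, ← hconj g hg, hn n hnN]
  -- transitivity on `N`
  have hNa : ∀ x ∈ N, x ≠ 1 → x • a ≠ a := fun x hx hx1 h => hx1 (hNstab x hx h)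
  have hreg : ∀ x ∈ N, ∀ y ∈ N, x ≠ 1 → y ≠ 1 → ∃! r : G, r ∈ K ∧ r * x * r⁻¹ = y := by
    intro x hx y hy hx1 hy1
    obtain ⟨r, ⟨hr, hr1⟩, hr2⟩ := hK.reg (x • a) (y • a) (hNa x hx hx1) (hNa y hy hy1)
    refine ⟨r, ⟨hr, ?_⟩, ?_⟩
    · apply hNinj _ (hNn.conj_mem x hx r) _ hy
      rw [hconj r (hK.le r hr), hr1]
    · rintro s ⟨hs, hs1⟩
      apply hr2
      refine ⟨hs, ?_⟩
      rw [← hs1, hconj s (hK.le s hs)]
  -- `x₀`
  obtain ⟨x₀, hx₀N, hx₀⟩ := hNsurj b
  have hx₀1 : x₀ ≠ 1 := by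
    rintro rfl
    rw [one_smul] at hx₀
    exact hab hx₀
  have hNnt : Nontrivial N := ⟨⟨⟨x₀, hx₀N⟩, 1, fun h => hx₀1 (congrArg Subtype.val h)⟩⟩
  -- a prime
  obtain ⟨p, hp, hpd⟩ := Nat.exists_prime_and_dvd (Finite.one_lt_card (α := N)).ne'
  have hpf : Fact p.Prime := ⟨hp⟩
  obtain ⟨x₁, hx₁⟩ := exists_prime_orderOf_dvd_card' (G := N) p hpd
  have hx₁1 : (x₁ : G) ≠ 1 := by
    intro h
    have : x₁ = 1 := Subtype.ext h
    rw [this, orderOf_one] at hx₁
    exact hp.one_lt.ne hx₁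
  have hord : ∀ y : N, y ≠ 1 → orderOf y = p := by
    intro y hy
    have hy1 : (y : G) ≠ 1 := fun h => hy (Subtype.ext h)
    obtain ⟨r, ⟨-, hr⟩, -⟩ := hreg x₁ x₁.2 y y.2 hx₁1 hy1
    rw [← Subgroup.orderOf_coe, ← hr, ← MulAut.conj_apply, MulEquiv.orderOf_eq, Subgroup.orderOf_coe, hx₁]
  have hpN : IsPGroup p N := by
    intro y
    by_cases hy : y = 1
    · exact ⟨0, by simp [hy]⟩
    · refine ⟨1, ?_⟩
      rw [pow_one, ← hord y hy]
      exact pow_orderOf_eq_one y
  -- commutative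
  have hNc : ∀ x y : N, x * y = y * x := by
    haveI := hpN.center_nontrivial
    obtain ⟨z, hz⟩ := exists_ne (1 : Subgroup.center N)
    have hz1 : ((z : N) : G) ≠ 1 := by
      intro h
      exact hz (Subtype.ext (Subtype.ext h))
    have hcen : ∀ x : N, x ≠ 1 → ∀ y : N, x * y = y * x := by
      intro x hx y
      have hx1 : (x : G) ≠ 1 := fun h => hx (Subtype.ext h)
      obtain ⟨r, ⟨-, hr⟩, -⟩ := hreg (z : N) (z : N).2 x x.2 hz1 hx1
      have hy' : r⁻¹ * (y : G) * r ∈ N := by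
        have := hNn.conj_mem y y.2 r⁻¹
        simpa using this
      have h1 := (Subgroup.mem_center_iff.mp z.2) ⟨_, hy'⟩
      have h2 : (r⁻¹ * (y : G) * r) * ((z : N) : G) = ((z : N) : G) * (r⁻¹ * (y : G) * r) := by
        exact congrArg Subtype.val h1
      apply Subtype.ext
      show (x : G) * y = y * x
      rw [← hr]
      have h3 : r * ((z : N) : G) * r⁻¹ * (y : G) = r * (((z : N) : G) * (r⁻¹ * (y : G) * r)) * r⁻¹ := by group
      have h4 : (y : G) * (r * ((z : N) : G) * r⁻¹) = r * ((r⁻¹ * (y : G) * r) * ((z : N) : G)) * r⁻¹ := by group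
      rw [h3, h4, h2]
    intro x y
    by_cases hx : x = 1
    · simp [hx]
    · exact hcen x hx y
  obtain ⟨k, hk⟩ := IsPGroup.iff_card.mp hpN
  have hK1 : Nat.card K + 1 = Nat.card N := by
    rw [hcardN, ← Nat.card_eq_fintype_card]
    exact hK.card_add_one hba
  -- `p = 2`
  have hp2 : p = 2 := by
    by_contra hp2
    have hodd : Odd (Nat.card N) := by rw [hk]; exact (hp.odd_of_ne_two hp2).pow
    have heven : 2 ∣ Nat.card K := by
      obtain ⟨m, hm⟩ := hodd
      exact ⟨m, by omega⟩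
    obtain ⟨z, hz⟩ := exists_prime_orderOf_dvd_card' (G := K) 2 heven
    have hz1 : (z : G) ≠ 1 := by
      intro h
      have : z = 1 := Subtype.ext h
      rw [this, orderOf_one] at hz
      omega
    have hzz : (z : G) * z = 1 := by
      have := pow_orderOf_eq_one z
      rw [hz, pow_two] at this
      exact congrArg Subtype.val this
    have hinv : ∀ t ∈ K, t ≠ 1 → t * t = 1 → ∀ x ∈ N, t * x * t⁻¹ = x⁻¹ := by
      intro t ht ht1 htt
      apply Cfsg.Agent.Lib.ZassCore.inv_of_fpf N t htt (fun x hx => hNn.conj_mem x hx t)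
      intro x hx hxt
      by_contra hx1
      have : t • (x • a) = x • a := by rw [← hconj t (hK.le t ht), hxt]
      exact ht1 (hK.eq_one_of_fix ht (hNa x hx hx1) this)
    -- `z` commutes with `g₀`
    have hzcomm : g₀ * (z : G) * g₀⁻¹ = z := by
      set t := g₀ * (z : G) * g₀⁻¹ with ht
      have htK : t ∈ K := hK.normal g₀ hg₀a z z.2
      have ht1 : t ≠ 1 := by
        intro h
        apply hz1
        have : (z : G) = g₀⁻¹ * t * g₀ := by rw [ht]; group
        rw [this, h]; simp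
      have htt : t * t = 1 := by
        have : t * t = g₀ * ((z : G) * z) * g₀⁻¹ := by rw [ht]; group
        rw [this, hzz]; simp
      have hzinv : (z : G)⁻¹ = z := inv_eq_of_mul_eq_one_left hzz
      have hu : (z : G)⁻¹ * t = 1 := by
        apply hcent
        · rw [mul_smul, hK.le t htK]
          exact inv_smul_eq_iff.mpr (hK.le z z.2).symm
        · intro n hn
          have h1 := hinv t htK ht1 htt n hn
          have h2 := hinv z z.2 hz1 hzz n hn
          have h3 : (z : G)⁻¹ * t * n * ((z : G)⁻¹ * t)⁻¹ = (z : G)⁻¹ * (t * n * t⁻¹) * z := by group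
          rw [h3, h1, hzinv]
          have h4 : (z : G) * n⁻¹ * z = ((z : G) * n * (z : G)⁻¹)⁻¹ := by
            rw [mul_inv_rev, mul_inv_rev, inv_inv, hzinv, mul_assoc]
          rw [h4, h2, inv_inv]
      exact (inv_mul_eq_one.mp hu).symm
    have hfz : g₀ • ((z : G) • b) = (z : G) • b := by
      have h1 : g₀ • ((z : G) • b) = (g₀ * (z : G) * g₀⁻¹) • (g₀ • b) := by
        rw [mul_smul, mul_smul, inv_smul_smul]
      rw [h1, hzcomm, hg₀b]
    have hzb : (z : G) • b ≠ b := fun h => hz1 (hK.eq_one_of_fix z.2 hba h)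
    have hza : a ≠ (z : G) • b := by
      intro h
      have : (z : G) • b = (z : G) • a := by rw [← h, hK.le z z.2]
      exact hab (smul_left_cancel _ this).symm
    exact hg₀ (h3 g₀ a b _ hab (Ne.symm hzb) hza hg₀a hg₀b hfz)
  subst hp2
  -- `K` has odd order
  have hKodd : ¬ 2 ∣ Nat.card K := by
    intro h
    have hk0 : k ≠ 0 := by
      rintro rfl
      have : 1 < Nat.card N := Finite.one_lt_card
      omega
    have h1 : 2 ∣ Nat.card N := by rw [hk]; exact dvd_pow_self 2 hk0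
    have h2 : Nat.card K ≠ 0 := Nat.card_pos.ne'
    omega
  -- an element of prime order
  obtain ⟨r, hr, hrd⟩ := Nat.exists_prime_and_dvd (n := orderOf g₀)
    (by rw [Ne, orderOf_eq_one_iff]; exact hg₀)
  set h₁ := g₀ ^ (orderOf g₀ / r) with hh₁
  have hh₁ord : orderOf h₁ = r := orderOf_pow_orderOf_div (orderOf_pos g₀).ne' hrd
  have hpowfix : ∀ n : ℕ, (g₀ ^ n) • a = a ∧ (g₀ ^ n) • b = b := by
    intro n
    induction n with
    | zero => simp
    | succ n ih =>
      rw [pow_succ, mul_smul, mul_smul, hg₀a, hg₀b]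
      exact ih
  have hh₁a : h₁ • a = a := (hpowfix _).1
  have hh₁b : h₁ • b = b := (hpowfix _).2
  have hh₁1 : h₁ ≠ 1 := by
    intro h
    rw [h, orderOf_one] at hh₁ord
    exact hr.one_lt.ne hh₁ord
  -- the fixed-point-free automorphism of `K`
  have hfpfK : ∀ u : G, u ≠ 1 → u • a = a → u • b = b → ∀ x ∈ K, u * x * u⁻¹ = x → x = 1 := by
    intro u hu hua hub x hx hxu
    by_contra hx1
    have h1 : u • (x • b) = x • b := by
      have h1 : u • (x • b) = (u * x * u⁻¹) • (u • b) := by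
        rw [mul_smul, mul_smul, inv_smul_smul]
      rw [h1, hxu, hub]
    have hxb : x • b ≠ b := fun h => hx1 (hK.eq_one_of_fix hx hba h)
    have hxa : a ≠ x • b := by
      intro h
      have : x • b = x • a := by rw [← h, hK.le x hx]
      exact hab (smul_left_cancel _ this).symm
    exact hu (h3 u a b _ hab (Ne.symm hxb) hxa hua hub h1)
  have hαK : ∀ x ∈ K, MulAut.conj h₁ x ∈ K := fun x hx => hK.normal h₁ hh₁a x hx
  let α : MulAut K := Cfsg.Agent.Lib.Kegel.restr (MulAut.conj h₁) K hαK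
  have hKnil : Group.IsNilpotent K := by
    apply Cfsg.Agent.Lib.Kegel.nilpotent_of_fpf α ?_ hr
    · ext x
      have h1 := Cfsg.Agent.Lib.Kegel.coe_restr_pow (MulAut.conj h₁) K hαK r x
      rw [h1, ← map_pow, ← hh₁ord, pow_orderOf_eq_one, map_one]
      rfl
    · intro x hx
      apply Subtype.ext
      exact hfpfK h₁ hh₁1 hh₁a hh₁b x x.2 (congrArg Subtype.val hx)
  -- `K` acts without fixed points on `N`
  have hKN : ∀ u ∈ K, u ≠ 1 → ∀ v ∈ N, u * v * u⁻¹ = v → v = 1 := by
    intro u hu hu1 v hv huv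
    by_contra hv1
    have : u • (v • a) = v • a := by rw [← hconj u (hK.le u hu), huv]
    exact hu1 (hK.eq_one_of_fix hu (hNa v hv hv1) this)
  have hKz : IsZGroup K := by
    refine ⟨fun q hq P => ?_⟩
    haveI : Fact q.Prime := ⟨hq⟩
    refine cyclic_of_fpf_odd (V := N) hNc P.isPGroup' ?_
      ((MulAut.conjNormal : G →* MulAut N).comp (K.subtype.comp (P : Subgroup K).subtype)) ?_
    · rintro rfl
      obtain ⟨m, hm⟩ := IsPGroup.iff_card.mp P.isPGroup'
      rcases Nat.eq_zero_or_pos m with rfl | hmpos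
      · rw [hm, pow_zero]
      · exfalso
        apply hKodd
        have h1 : Nat.card P ∣ Nat.card K := Subgroup.card_subgroup_dvd_card _
        rw [hm] at h1
        exact (dvd_pow_self 2 hmpos.ne').trans h1
    · intro u hu v hv
      apply Subtype.ext
      refine hKN ((u : K) : G) (u : K).2 ?_ v v.2 (congrArg Subtype.val hv)
      intro h
      exact hu (Subtype.ext (Subtype.ext h))
  have hKcyc : IsCyclic K := inferInstance
  have hKc : ∀ x y : K, x * y = y * x := fun x y => (IsCyclic.commGroup (α := K)).mul_comm x y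
  have hkprime : k.Prime := by
    refine abstract_prime' (N := N) (K := K) hNc hKc
      ((MulAut.conjNormal : G →* MulAut N).comp K.subtype) (x₀ := ⟨x₀, hx₀N⟩)
      (fun h => hx₀1 (congrArg Subtype.val h)) ?_ (MulAut.conjNormal g₀) ?_ ?_ ?_ ?_ hk
    · intro x y hx hy
      have hx1 : (x : G) ≠ 1 := fun h => hx (Subtype.ext h)
      have hy1 : (y : G) ≠ 1 := fun h => hy (Subtype.ext h)
      obtain ⟨t, ⟨ht, ht1⟩, ht2⟩ := hreg x x.2 y y.2 hx1 hy1
      refine ⟨⟨t, ht⟩, Subtype.ext ht1, ?_⟩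
      rintro ⟨s, hs⟩ hs1
      apply Subtype.ext
      exact ht2 s ⟨hs, congrArg Subtype.val hs1⟩
    · intro h
      apply hg₀
      apply hcent g₀ hg₀a
      intro n hn
      have := congrArg (fun f : MulAut N => ((f ⟨n, hn⟩ : N) : G)) h
      exact this
    · apply Subtype.ext
      show g₀ * x₀ * g₀⁻¹ = x₀
      apply hNinj _ (hNn.conj_mem x₀ hx₀N g₀) _ hx₀N
      rw [hconj g₀ hg₀a, hx₀, hg₀b]
    · intro t
      refine ⟨⟨g₀ * (t : G) * g₀⁻¹, hK.normal g₀ hg₀a t t.2⟩, fun v => ?_⟩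
      apply Subtype.ext
      show g₀ * ((t : G) * (v : G) * (t : G)⁻¹) * g₀⁻¹ =
        (g₀ * (t : G) * g₀⁻¹) * (g₀ * (v : G) * g₀⁻¹) * (g₀ * (t : G) * g₀⁻¹)⁻¹
      group
    · intro n hn v hv
      have hpowσ : ∀ w : N, (((MulAut.conjNormal g₀ ^ n : MulAut N) w : N) : G) = g₀ ^ n * w * (g₀ ^ n)⁻¹ := by
        intro w
        rw [← map_pow, MulAut.conjNormal_apply]
      have hgn : g₀ ^ n ≠ 1 := by
        intro h
        apply hn
        rw [← map_pow, h, map_one]
      have h1 := hpowσ v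
      rw [hv] at h1
      have hfx : (g₀ ^ n) • ((v : G) • a) = (v : G) • a := by
        rw [← hconj _ (hpowfix n).1, ← h1]
      by_cases hva : (v : G) • a = a
      · left
        exact Subtype.ext (hNstab v v.2 hva)
      · by_cases hvb : (v : G) • a = b
        · right
          apply Subtype.ext
          exact hNinj v v.2 x₀ hx₀N (by rw [hvb, hx₀])
        · exact absurd (h3 _ a b _ hab (Ne.symm hvb) (Ne.symm hva) (hpowfix n).1 (hpowfix n).2 hfx) hgn
  exact ⟨k, hkprime, by rw [← hcardN, hk]⟩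

end Main

end Cfsg.Agent.Lib.ZassReg
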