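import Mathlib
import Cfsg.Agent.Lib.SharpLin
import Cfsg.Agent.Lib.ZassReg

/-!
# Sharply triply transitive groups of even degree: the index two subgroup
-/

set_option autoImplicit false
set_option linter.unusedSectionVars false
set_option linter.style.haveILetI false

namespace Cfsg.Agent.Lib.SharpWrap

open Cfsg.Agent.Lib.SharpIdx Cfsg.Agent.Lib.ZassCore

universe u v

/-- The linear map given by an automorphism. -/
def linOf {A : Type u} [CommGroup A] {p : ℕ} [Module (ZMod p) (Additive A)] (f : MulAut A) :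
    Additive A ≃ₗ[ZMod p] Additive A where
  toFun := fun y => Additive.ofMul (f (Additive.toMul y))
  invFun := fun y => Additive.ofMul (f.symm (Additive.toMul y))
  left_inv := fun y => by simp
  right_inv := fun y => by simp
  map_add' := fun y y' => by
    apply Additive.toMul.injective
    simp
  map_smul' := fun c y =>
    ZMod.map_smul (MonoidHom.toAdditive f.toMonoidHom) c y

lemma linOf_apply {A : Type u} [CommGroup A] {p : ℕ} [Module (ZMod p) (Additive A)] (f : MulAut A)
    (y : Additive A) : linOf (p := p) f y = Additive.ofMul (f (Additive.toMul y)) := rfl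

/-- The homomorphism to the linear group. -/
def linHom {A : Type u} {H : Type v} [CommGroup A] [Group H] {p : ℕ} [Module (ZMod p) (Additive A)]
    (φ : H →* MulAut A) : H →* (Additive A ≃ₗ[ZMod p] Additive A) :=
  MonoidHom.mk' (fun h => linOf (φ h)) (by
    intro h h'
    refine LinearEquiv.ext fun y => ?_
    rw [LinearEquiv.mul_apply, linOf_apply, linOf_apply, linOf_apply, map_mul]
    rfl)

lemma linHom_apply {A : Type u} {H : Type v} [CommGroup A] [Group H] {p : ℕ}
    [Module (ZMod p) (Additive A)] (φ : H →* MulAut A) (h : H) (y : Additive A) :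
    linHom (p := p) φ h y = Additive.ofMul (φ h (Additive.toMul y)) := rfl

/-- Abstract form, with the module structure given. -/
theorem index_two_aux {A : Type u} {H : Type v} [CommGroup A] [Finite A] [Nontrivial A]
    [Group H] {p : ℕ} [hpf : Fact p.Prime] [Module (ZMod p) (Additive A)]
    (φ : H →* MulAut A) (hreg : ∀ x y : A, x ≠ 1 → y ≠ 1 → ∃! h : H, φ h x = y)
    (h2 : 2 ∣ Nat.card H) (h3 : ∀ X Y : Subgroup H, Nat.card X = 3 → Nat.card Y = 3 → X = Y) :
    ∃ N : Subgroup H, N.index = 2 := by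
  classical
  obtain ⟨x, hx1⟩ := exists_ne (1 : A)
  let ρ : H →* (Additive A ≃ₗ[ZMod p] Additive A) := linHom φ
  have hρ : ∀ (h : H) (y : Additive A), Additive.toMul (ρ h y) = φ h (Additive.toMul y) :=
    fun _ _ => rfl
  have hinj : Function.Injective ρ := by
    intro h h' hh
    have h1 : φ h x = φ h' x := by
      have h4 := congrArg (fun f : Additive A ≃ₗ[ZMod p] Additive A => f (Additive.ofMul x)) hh
      exact congrArg Additive.toMul h4
    obtain ⟨t', -, ht'⟩ := hreg x (φ h x) hx1 (by
      intro h5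
      apply hx1
      exact (map_eq_one_iff (φ h) (φ h).injective).mp h5)
    exact (ht' h rfl).trans (ht' h' h1.symm).symm
  let e : H ≃* ρ.range := MonoidHom.ofInjective hinj
  have he : ∀ (h : H) (y : Additive A), ((e h : Additive A ≃ₗ[ZMod p] Additive A) y) = ρ h y :=
    fun _ _ => rfl
  haveI : Nontrivial (Additive A) := inferInstanceAs (Nontrivial A)
  haveI : Finite (Additive A) := inferInstanceAs (Finite A)
  obtain ⟨N', hN'⟩ := Cfsg.Agent.Lib.SharpLin.linear_index_two (p := p) (V := Additive A) ρ.range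
    (by
      intro y z hy hz
      obtain ⟨h, hh, hu⟩ := hreg (Additive.toMul y) (Additive.toMul z) hy hz
      refine ⟨e h, Additive.toMul.injective hh, ?_⟩
      intro t ht
      obtain ⟨t', rfl⟩ := e.surjective t
      have h4 : φ t' (Additive.toMul y) = Additive.toMul z := congrArg Additive.toMul ht
      rw [hu t' h4])
    (by rw [← Nat.card_congr e.toEquiv]; exact h2)
    (by
      intro X Y hX hY
      have h4 : X.map e.symm.toMonoidHom = Y.map e.symm.toMonoidHom := by
        apply h3
        · rw [Subgroup.card_map_of_injective e.symm.injective, hX]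
        · rw [Subgroup.card_map_of_injective e.symm.injective, hY]
      exact Subgroup.map_injective e.symm.injective h4)
  refine ⟨N'.comap e.toMonoidHom, ?_⟩
  exact (Subgroup.index_comap_of_surjective N' (f := e.toMonoidHom) e.surjective).trans hN'

/-- Abstract form: a group acting regularly by automorphisms on the non-identity elements of a
commutative group. -/
theorem index_two_of_regular {A : Type u} {H : Type v} [CommGroup A] [Finite A] [Nontrivial A]
    [Group H] (φ : H →* MulAut A) (hreg : ∀ x y : A, x ≠ 1 → y ≠ 1 → ∃! h : H, φ h x = y)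
    (h2 : 2 ∣ Nat.card H) (h3 : ∀ X Y : Subgroup H, Nat.card X = 3 → Nat.card Y = 3 → X = Y) :
    ∃ N : Subgroup H, N.index = 2 := by
  classical
  obtain ⟨p, hp, hpd⟩ := Nat.exists_prime_and_dvd (n := Nat.card A) Finite.one_lt_card.ne'
  haveI hpf : Fact p.Prime := ⟨hp⟩
  obtain ⟨x, hx⟩ := exists_prime_orderOf_dvd_card' p hpd
  have hx1 : x ≠ 1 := by
    intro h
    rw [h, orderOf_one] at hx
    exact hp.one_lt.ne hx
  have hexp : ∀ y : A, y ^ p = 1 := by
    intro y
    by_cases hy : y = 1
    · simp [hy]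
    obtain ⟨h, hh, -⟩ := hreg x y hx1 hy
    rw [← hh, ← map_pow, ← hx, pow_orderOf_eq_one, map_one]
  letI : Module (ZMod p) (Additive A) := AddCommGroup.zmodModule (n := p) (fun y => by
    apply Additive.toMul.injective
    rw [toMul_nsmul]
    exact hexp _)
  exact index_two_aux (p := p) φ hreg h2 h3

/-- The sign homomorphism of an index two subgroup. -/
noncomputable def sgn {S : Type*} [Group S] (M : Subgroup S) (hM : M.index = 2) : S →* ℤˣ := by
  classical
  exact
  { toFun := fun s => if s ∈ M then 1 else -1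
    map_one' := by simp
    map_mul' := fun a b => by
      have h := Subgroup.mul_mem_iff_of_index_two hM (a := a) (b := b)
      by_cases ha : a ∈ M <;> by_cases hb : b ∈ M <;> simp [ha, hb, h] }

theorem sgn_of_mem {S : Type*} [Group S] (M : Subgroup S) (hM : M.index = 2) {s : S} (hs : s ∈ M) :
    sgn M hM s = 1 := by
  simp [sgn, hs]

theorem sgn_of_not_mem {S : Type*} [Group S] (M : Subgroup S) (hM : M.index = 2) {s : S}
    (hs : s ∉ M) : sgn M hM s = -1 := by
  simp [sgn, hs]

/-- A subgroup of index two, and an involutory automorphism: there is an invariant one. -/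
theorem exists_invariant_index_two {H : Type*} [Group H] (σ : MulAut H) (hσ : ∀ x, σ (σ x) = x)
    (N : Subgroup H) (hN : N.index = 2) : ∃ N' : Subgroup H, N'.index = 2 ∧ ∀ n ∈ N', σ n ∈ N' := by
  classical
  let f := sgn N hN
  have hfmem : ∀ x, f x = 1 ↔ x ∈ N := by
    intro x
    constructor
    · intro h
      by_contra hx
      rw [show f x = -1 from sgn_of_not_mem N hN hx] at h
      exact absurd h (by decide)
    · exact sgn_of_mem N hN
  have hfs : ∀ u : ℤˣ, u * u = 1 := by
    intro u
    rcases Int.units_eq_one_or u with h | h <;> rw [h] <;> decide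
  let F : H →* ℤˣ :=
    { toFun := fun x => f x * f (σ x)
      map_one' := by simp
      map_mul' := by
        intro x y
        rw [map_mul, map_mul, map_mul]
        exact mul_mul_mul_comm _ _ _ _ }
  have hF : ∀ x, F x = f x * f (σ x) := fun _ => rfl
  by_cases hcase : ∀ x, F x = 1
  · refine ⟨N, hN, ?_⟩
    intro n hn
    rw [← hfmem] at hn ⊢
    have h1 := hcase n
    rw [hF, hn, one_mul] at h1
    exact h1
  · push Not at hcase
    obtain ⟨x, hx⟩ := hcase
    have hx' : F x = -1 := (Int.units_eq_one_or _).resolve_left hx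
    refine ⟨F.ker, ?_, ?_⟩
    · rw [Subgroup.index_eq_two_iff]
      refine ⟨x, fun b => ?_⟩
      rw [MonoidHom.mem_ker, MonoidHom.mem_ker, map_mul, hx']
      rcases Int.units_eq_one_or (F b) with h | h
      · rw [h]
        exact Or.inr ⟨rfl, by decide⟩
      · rw [h]
        exact Or.inl ⟨by decide, by decide⟩
    · intro n hn
      rw [MonoidHom.mem_ker] at hn ⊢
      rw [hF, hσ, mul_comm]
      exact hn

section Sharp

variable {G : Type u} {Ω : Type v} [Group G] [MulAction G Ω]

/-- Sharp triple transitivity in elementary form. -/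
structure Sharp3 (G : Type u) (Ω : Type v) [Group G] [MulAction G Ω] : Prop where
  trans : ∀ {a b c a' b' c' : Ω}, a ≠ b → a ≠ c → b ≠ c → a' ≠ b' → a' ≠ c' → b' ≠ c' →
    ∃ g : G, g • a = a' ∧ g • b = b' ∧ g • c = c'
  uniq : ∀ (g : G) (a b c : Ω), a ≠ b → b ≠ c → a ≠ c → g • a = a → g • b = b → g • c = c → g = 1

variable [Finite Ω]

lemma exists_third (h : 3 ≤ Nat.card Ω) (a b : Ω) : ∃ c : Ω, c ≠ a ∧ c ≠ b := by
  classical
  by_contra hcon
  push Not at hcon
  haveI : Fintype Ω := Fintype.ofFinite Ω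
  have h1 : (Finset.univ : Finset Ω) ⊆ {a, b} := by
    intro c _
    by_cases hc : c = a
    · simp [hc]
    · simp [hcon c hc]
  have h2 := Finset.card_le_card h1
  rw [Finset.card_univ, ← Nat.card_eq_fintype_card] at h2
  have h3 : ({a, b} : Finset Ω).card ≤ 2 := Finset.card_le_two
  omega

lemma Sharp3.two_trans (hS : Sharp3 G Ω) (h : 3 ≤ Nat.card Ω) {a b c d : Ω} (hab : a ≠ b)
    (hcd : c ≠ d) : ∃ g : G, g • a = c ∧ g • b = d := by
  obtain ⟨e, he1, he2⟩ := exists_third h a b
  obtain ⟨f, hf1, hf2⟩ := exists_third h c d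
  obtain ⟨g, h1, h2, -⟩ := hS.trans hab (Ne.symm he1) (Ne.symm he2) hcd (Ne.symm hf1) (Ne.symm hf2)
  exact ⟨g, h1, h2⟩

/-- The existence of the subgroup of index two. -/
theorem exists_index_two [FaithfulSMul G Ω] (hS : Sharp3 G Ω) (heven : Even (Nat.card Ω)) (h6 : 6 ≤ Nat.card Ω)
    {a b : Ω} (hab : a ≠ b)
    (h3 : ∀ A B : Subgroup G, A ≤ MulAction.stabilizer G a ⊓ MulAction.stabilizer G b →
      B ≤ MulAction.stabilizer G a ⊓ MulAction.stabilizer G b → Nat.card A = 3 → Nat.card B = 3 →
      A = B) :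
    ∃ N : Subgroup ↥(MulAction.stabilizer G a ⊓ MulAction.stabilizer G b), N.index = 2 := by
  classical
  haveI hGf : Finite G :=
    Finite.of_injective (MulAction.toPerm : G → Equiv.Perm Ω) (MulAction.toPerm_injective)
  have h3' : 3 ≤ Nat.card Ω := by omega
  have hmemH : ∀ g : G, g ∈ MulAction.stabilizer G a ⊓ MulAction.stabilizer G b ↔ g • a = a ∧ g • b = b := by
    intro g
    rw [Subgroup.mem_inf, MulAction.mem_stabilizer_iff, MulAction.mem_stabilizer_iff]
  set H : Subgroup G := MulAction.stabilizer G a ⊓ MulAction.stabilizer G b with hH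
  -- the kernel
  obtain ⟨c₀, hc₀a, hc₀b⟩ := exists_third h3' a b
  obtain ⟨K, hK⟩ : ∃ K : Subgroup G, IsKernelAt G a K := by
    refine Cfsg.Agent.Lib.ZassReg.exists_kernel' (fun h h' => hS.two_trans h3' h h') hS.uniq ?_ a
    obtain ⟨d₀, hd₀⟩ : ∃ d : Ω, d ≠ a ∧ d ≠ b ∧ d ≠ c₀ := by
      classical
      by_contra hcon
      push Not at hcon
      haveI : Fintype Ω := Fintype.ofFinite Ω
      have h1 : (Finset.univ : Finset Ω) ⊆ {a, b, c₀} := by
        intro c _
        by_cases hc : c = a
        · simp [hc]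
        · by_cases hc2 : c = b
          · simp [hc2]
          · simp [hcon c hc hc2]
      have h2 := Finset.card_le_card h1
      rw [Finset.card_univ, ← Nat.card_eq_fintype_card] at h2
      have h4 : ({a, b, c₀} : Finset Ω).card ≤ 3 := Finset.card_le_three
      omega
    obtain ⟨g, hg1, hg2, hg3⟩ := hS.trans hab (Ne.symm hc₀a) (Ne.symm hc₀b) hab (Ne.symm hd₀.1)
      (Ne.symm hd₀.2.1)
    refine ⟨g, ?_, a, b, hab, hg1, hg2⟩
    rintro rfl
    rw [one_smul] at hg3
    exact hd₀.2.2 hg3.symm
  have hba : b ≠ a := Ne.symm hab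
  have hKc : Nat.card K + 1 = Nat.card Ω := hK.card_add_one hba
  -- `H` acts regularly on the points other than `a`, `b`
  have hHc : Nat.card H + 2 = Nat.card Ω := by
    have h1 : Nat.card H = Nat.card {c : Ω // c ≠ a ∧ c ≠ b} := by
      refine Nat.card_congr (Equiv.ofBijective
        (fun h : H => (⟨(h : G) • c₀, ?_, ?_⟩ : {c : Ω // c ≠ a ∧ c ≠ b})) ⟨?_, ?_⟩)
      · intro h5
        apply hc₀a
        have h6 : (h : G) • c₀ = (h : G) • a := by rw [h5, ((hmemH _).1 h.2).1]
        exact smul_left_cancel _ h6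
      · intro h5
        apply hc₀b
        have h6 : (h : G) • c₀ = (h : G) • b := by rw [h5, ((hmemH _).1 h.2).2]
        exact smul_left_cancel _ h6
      · intro h h' hh
        have h5 : (h : G) • c₀ = (h' : G) • c₀ := congrArg Subtype.val hh
        have h6 : ((h' : G)⁻¹ * h) • c₀ = c₀ := by rw [mul_smul, h5, inv_smul_smul]
        have h7 : ((h' : G)⁻¹ * h) • a = a := by
          rw [mul_smul, ((hmemH _).1 h.2).1, inv_smul_eq_iff, ((hmemH _).1 h'.2).1]
        have h8 : ((h' : G)⁻¹ * h) • b = b := by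
          rw [mul_smul, ((hmemH _).1 h.2).2, inv_smul_eq_iff, ((hmemH _).1 h'.2).2]
        have h9 := hS.uniq _ a b c₀ hab (Ne.symm hc₀b) (Ne.symm hc₀a) h7 h8 h6
        exact Subtype.ext (inv_mul_eq_one.mp h9).symm
      · rintro ⟨d, hd1, hd2⟩
        obtain ⟨g, hg1, hg2, hg3⟩ := hS.trans hab (Ne.symm hc₀a) (Ne.symm hc₀b) hab (Ne.symm hd1)
          (Ne.symm hd2)
        exact ⟨⟨g, (hmemH g).2 ⟨hg1, hg2⟩⟩, Subtype.ext hg3⟩
    rw [h1]
    haveI : Fintype Ω := Fintype.ofFinite Ω
    have h2 : Fintype.card {c : Ω // c ≠ a ∧ c ≠ b} + 2 = Fintype.card Ω := by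
      have h4 : Fintype.card {c : Ω // c ≠ a ∧ c ≠ b} = ((Finset.univ.erase a).erase b).card := by
        rw [Fintype.card_subtype]
        congr 1
        ext c
        simp [and_comm]
      rw [h4, Finset.card_erase_of_mem (by simp [hba]), Finset.card_erase_of_mem (by simp),
        Finset.card_univ]
      have : 2 ≤ Fintype.card Ω := by rw [← Nat.card_eq_fintype_card]; omega
      omega
    rw [Nat.card_eq_fintype_card, Nat.card_eq_fintype_card]
    exact h2
  have hH2 : 2 ∣ Nat.card H := by
    obtain ⟨t, ht⟩ := heven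
    omega
  have hKodd : ¬ 2 ∣ Nat.card K := by
    obtain ⟨t, ht⟩ := heven
    omega
  -- the involution
  haveI : Fact (Nat.Prime 2) := ⟨Nat.prime_two⟩
  obtain ⟨z, hz⟩ := exists_prime_orderOf_dvd_card' (G := H) 2 hH2
  have hz1 : (z : G) ≠ 1 := by
    intro h
    have h5 : z = 1 := Subtype.ext h
    rw [h5, orderOf_one] at hz
    omega
  have hzz : (z : G) * z = 1 := by
    have h5 := pow_orderOf_eq_one z
    rw [hz, pow_two] at h5
    exact congrArg Subtype.val h5
  have hza : (z : G) • a = a := ((hmemH _).1 z.2).1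
  have hzb : (z : G) • b = b := ((hmemH _).1 z.2).2
  -- points moved by the kernel
  have hkb : ∀ k ∈ K, k ≠ 1 → k • b ≠ a ∧ k • b ≠ b := by
    intro k hk hk1
    constructor
    · intro h5
      apply hba
      have h6 : k • b = k • a := by rw [h5, hK.le k hk]
      exact smul_left_cancel _ h6
    · intro h5
      exact hk1 (hK.eq_one_of_fix hk hba h5)
  have hzinv : ∀ k ∈ K, (z : G) * k * (z : G)⁻¹ = k⁻¹ := by
    apply Cfsg.Agent.Lib.ZassCore.inv_of_fpf K (z : G) hzz (hK.normal _ hza)
    intro k hk hkz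
    by_contra hk1
    obtain ⟨h5, h6⟩ := hkb k hk hk1
    have h7 : (z : G) • (k • b) = k • b := by
      rw [← mul_smul]
      have h8 : (z : G) * k = k * z := by
        calc (z : G) * k = ((z : G) * k * (z : G)⁻¹) * z := by group
          _ = k * z := by rw [hkz]
      rw [h8, mul_smul, hzb]
    exact hz1 (hS.uniq _ a b (k • b) hab (Ne.symm h6) (Ne.symm h5) hza hzb h7)
  have hKcomm : ∀ k ∈ K, ∀ l ∈ K, k * l = l * k := by
    intro k hk l hl
    have h5 := hzinv _ (K.mul_mem hk hl)
    have h6 : (z : G) * (k * l) * (z : G)⁻¹ = ((z : G) * k * (z : G)⁻¹) * ((z : G) * l * (z : G)⁻¹) := by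
      group
    rw [h6, hzinv k hk, hzinv l hl, mul_inv_rev] at h5
    have h7 := congrArg (fun x => x⁻¹) h5
    simp only [mul_inv_rev, inv_inv] at h7
    exact h7.symm
  letI iK : CommGroup K :=
    { (inferInstance : Group K) with
      mul_comm := fun x y => Subtype.ext (hKcomm _ x.2 _ y.2) }
  haveI : Nontrivial K := by
    rw [← Finite.one_lt_card_iff_nontrivial]
    omega
  -- the action of `H` on `K`
  have hHnorm : ∀ h : H, ∀ k ∈ K, MulAut.conj (h : G) k ∈ K := fun h k hk =>
    hK.normal _ ((hmemH _).1 h.2).1 k hk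
  let φ : H →* MulAut K :=
    { toFun := fun h => Cfsg.Agent.Lib.Kegel.restr (MulAut.conj (h : G)) K (hHnorm h)
      map_one' := by
        ext x
        show (1 : G) * (x : G) * (1 : G)⁻¹ = x
        simp
      map_mul' := by
        intro h h'
        ext x
        show ((h : G) * h') * (x : G) * ((h : G) * h')⁻¹ = (h : G) * ((h' : G) * x * (h' : G)⁻¹) * (h : G)⁻¹
        group }
  have hφ : ∀ (h : H) (x : K), ((φ h x : K) : G) = (h : G) * x * (h : G)⁻¹ := fun _ _ => rfl
  have hreg : ∀ x y : K, x ≠ 1 → y ≠ 1 → ∃! h : H, φ h x = y := by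
    intro x y hx hy
    have hx' : (x : G) ≠ 1 := fun h => hx (Subtype.ext h)
    have hy' : (y : G) ≠ 1 := fun h => hy (Subtype.ext h)
    obtain ⟨hx1, hx2⟩ := hkb x x.2 hx'
    obtain ⟨hy1, hy2⟩ := hkb y y.2 hy'
    obtain ⟨g, hg1, hg2, hg3⟩ := hS.trans (a := a) (b := b) (c := (x : G) • b) (a' := a) (b' := b)
      (c' := (y : G) • b) hab (Ne.symm hx1) (Ne.symm hx2) hab (Ne.symm hy1) (Ne.symm hy2)
    have hgmem : g ∈ H := (hmemH g).2 ⟨hg1, hg2⟩
    refine ⟨⟨g, hgmem⟩, ?_, ?_⟩
    · apply Subtype.ext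
      rw [hφ]
      obtain ⟨k, -, hk⟩ := hK.reg b ((y : G) • b) hba hy1
      have h5 : g * x * g⁻¹ ∈ K := hK.normal g hg1 _ x.2
      have h6 : (g * x * g⁻¹) • b = (y : G) • b := by
        rw [mul_smul, mul_smul, inv_smul_eq_iff.mpr hg2.symm, hg3]
      exact (hk _ ⟨h5, h6⟩).trans (hk _ ⟨y.2, rfl⟩).symm
    · intro h hh
      apply Subtype.ext
      have h5 : (h : G) * x * (h : G)⁻¹ = y := by
        rw [← hφ, hh]
      have h6 : (h : G) • ((x : G) • b) = (y : G) • b := by
        rw [← h5, mul_smul, mul_smul, inv_smul_eq_iff.mpr ((hmemH _).1 h.2).2.symm]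
      have h7 : (g⁻¹ * h) • a = a := by
        rw [mul_smul, ((hmemH _).1 h.2).1, inv_smul_eq_iff, hg1]
      have h8 : (g⁻¹ * h) • b = b := by
        rw [mul_smul, ((hmemH _).1 h.2).2, inv_smul_eq_iff, hg2]
      have h9 : (g⁻¹ * h) • ((x : G) • b) = (x : G) • b := by
        rw [mul_smul, h6, inv_smul_eq_iff, hg3]
      have h10 := hS.uniq _ a b _ hab (Ne.symm hx2) (Ne.symm hx1) h7 h8 h9
      exact (inv_mul_eq_one.mp h10).symm
  apply index_two_of_regular φ hreg hH2
  intro X Y hX hY
  have h5 : X.map H.subtype = Y.map H.subtype := by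
    apply h3
    · exact Subgroup.map_subtype_le X
    · exact Subgroup.map_subtype_le Y
    · rw [Subgroup.card_map_of_injective H.subtype_injective, hX]
    · rw [Subgroup.card_map_of_injective H.subtype_injective, hY]
  exact Subgroup.map_injective H.subtype_injective h5

end Sharp

end Cfsg.Agent.Lib.SharpWrap
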