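import Mathlib
import Cfsg.Agent.Lib.SharpWrap
import Cfsg.Agent.S0728

/-!
# A sharply triply transitive group of even degree at least six is not simple
-/

set_option autoImplicit false
set_option linter.unusedSectionVars false
set_option linter.style.haveILetI false

namespace Cfsg.Agent.Lib.SharpClosure

open Cfsg.Agent.Lib.ZassCore Cfsg.Agent.Lib.SharpWrap

universe u v

variable {G : Type u} {Ω : Type v} [Group G] [MulAction G Ω] [Finite Ω]

/-- The statement on subgroups of order three, for an abstract faithful action. -/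
theorem unique_three [FaithfulSMul G Ω] (hS : Sharp3 G Ω) (heven : Even (Nat.card Ω))
    (h6 : 6 ≤ Nat.card Ω) {a b : Ω} (hab : a ≠ b) (A B : Subgroup G)
    (hA : A ≤ MulAction.stabilizer G a ⊓ MulAction.stabilizer G b)
    (hB : B ≤ MulAction.stabilizer G a ⊓ MulAction.stabilizer G b)
    (hA3 : Nat.card A = 3) (hB3 : Nat.card B = 3) : A = B := by
  classical
  haveI : Fintype Ω := Fintype.ofFinite Ω
  let f : G →* Equiv.Perm Ω := MulAction.toPermHom G Ω
  have hf : Function.Injective f := MulAction.toPerm_injective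
  let G' : Subgroup (Equiv.Perm Ω) := f.range
  let e : G ≃* G' := MonoidHom.ofInjective hf
  have he : ∀ (g : G) (x : Ω), (e g) • x = g • x := fun _ _ => rfl
  have hsurj : ∀ g' : G', ∃ g : G, e g = g' := e.surjective
  have h3' : MulAction.IsMultiplyPretransitive G' Ω 3 := by
    refine ⟨fun x y => ?_⟩
    have hinj : ∀ x : Fin 3 ↪ Ω, x 0 ≠ x 1 ∧ x 0 ≠ x 2 ∧ x 1 ≠ x 2 := by
      intro x
      refine ⟨fun h => ?_, fun h => ?_, fun h => ?_⟩ <;> exact absurd (x.injective h) (by decide)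
    obtain ⟨h1, h2, h3⟩ := hinj x
    obtain ⟨h4, h5, h6'⟩ := hinj y
    obtain ⟨g, hg1, hg2, hg3⟩ := hS.trans h1 h2 h3 h4 h5 h6'
    refine ⟨e g, ?_⟩
    ext i
    fin_cases i
    · exact hg1
    · exact hg2
    · exact hg3
  have hsharp : ∀ x : Fin 3 ↪ Ω, MulAction.stabilizer G' x = ⊥ := by
    intro x
    rw [eq_bot_iff]
    intro g' hg'
    obtain ⟨g, rfl⟩ := hsurj g'
    rw [MulAction.mem_stabilizer_iff] at hg'
    have h0 : ∀ i, g • x i = x i := fun i => by
      have := congrArg (fun f : Fin 3 ↪ Ω => f i) hg'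
      exact this
    have hg1 : g = 1 := hS.uniq g (x 0) (x 1) (x 2)
      (fun h => absurd (x.injective h) (by decide))
      (fun h => absurd (x.injective h) (by decide))
      (fun h => absurd (x.injective h) (by decide)) (h0 0) (h0 1) (h0 2)
    rw [hg1, map_one]
    exact Subgroup.one_mem _
  have hle : ∀ X : Subgroup G, X ≤ MulAction.stabilizer G a ⊓ MulAction.stabilizer G b →
      X.map e.toMonoidHom ≤ MulAction.stabilizer G' a ⊓ MulAction.stabilizer G' b := by
    rintro X hX _ ⟨x, hx, rfl⟩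
    have h1 := hX hx
    rw [Subgroup.mem_inf, MulAction.mem_stabilizer_iff, MulAction.mem_stabilizer_iff] at h1 ⊢
    exact h1
  have hkey := Cfsg.Agent.S0728.result (α := Ω) (by rwa [← Nat.card_eq_fintype_card])
    (by rwa [← Nat.card_eq_fintype_card]) G' h3' hsharp hab (A.map e.toMonoidHom)
    (B.map e.toMonoidHom) (hle A hA) (hle B hB)
    (by rw [Subgroup.card_map_of_injective (show Function.Injective e.toMonoidHom from e.injective), hA3])
    (by rw [Subgroup.card_map_of_injective (show Function.Injective e.toMonoidHom from e.injective), hB3])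
  exact Subgroup.map_injective e.injective hkey

/-- The kernel and the involution. -/
theorem exists_setup [FaithfulSMul G Ω] (hS : Sharp3 G Ω) (heven : Even (Nat.card Ω))
    (h6 : 6 ≤ Nat.card Ω) {a b : Ω} (hab : a ≠ b) :
    ∃ K : Subgroup G, IsKernelAt G a K ∧ (∃ k ∈ K, k ≠ 1) ∧
      (∃ z : G, z ≠ 1 ∧ z * z = 1 ∧ z • a = a ∧ z • b = b) ∧
      (∀ z : G, z ≠ 1 → z * z = 1 → z • a = a → z • b = b → ∀ k ∈ K, z * k * z⁻¹ = k⁻¹) := by
  classical
  haveI hGf : Finite G :=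
    Finite.of_injective (MulAction.toPerm : G → Equiv.Perm Ω) (MulAction.toPerm_injective)
  have h3' : 3 ≤ Nat.card Ω := by omega
  have hmemH : ∀ g : G, g ∈ MulAction.stabilizer G a ⊓ MulAction.stabilizer G b ↔ g • a = a ∧ g • b = b := by
    intro g
    rw [Subgroup.mem_inf, MulAction.mem_stabilizer_iff, MulAction.mem_stabilizer_iff]
  set H : Subgroup G := MulAction.stabilizer G a ⊓ MulAction.stabilizer G b with hH
  obtain ⟨c₀, hc₀a, hc₀b⟩ := exists_third h3' a b
  obtain ⟨K, hK⟩ : ∃ K : Subgroup G, IsKernelAt G a K := by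
    refine Cfsg.Agent.Lib.ZassReg.exists_kernel' (fun h h' => hS.two_trans h3' h h') hS.uniq ?_ a
    obtain ⟨d₀, hd₀⟩ : ∃ d : Ω, d ≠ a ∧ d ≠ b ∧ d ≠ c₀ := by
      classical
      by_contra hcon
      push Not at hcon
      haveI : Fintype Ω := Fintype.ofFinite Ω
      have h1 : (Finset.univ : Finset Ω) ⊆ {a, b, c₀} := by
        intro c _
        by_cases hc : c = a
        · simp [hc]
        · by_cases hc2 : c = b
          · simp [hc2]
          · simp [hcon c hc hc2]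
      have h2 := Finset.card_le_card h1
      rw [Finset.card_univ, ← Nat.card_eq_fintype_card] at h2
      have h4 : ({a, b, c₀} : Finset Ω).card ≤ 3 := Finset.card_le_three
      omega
    obtain ⟨g, hg1, hg2, hg3⟩ := hS.trans hab (Ne.symm hc₀a) (Ne.symm hc₀b) hab (Ne.symm hd₀.1)
      (Ne.symm hd₀.2.1)
    refine ⟨g, ?_, a, b, hab, hg1, hg2⟩
    rintro rfl
    rw [one_smul] at hg3
    exact hd₀.2.2 hg3.symm
  have hba : b ≠ a := Ne.symm hab
  have hKc : Nat.card K + 1 = Nat.card Ω := hK.card_add_one hba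
  have hHc : Nat.card H + 2 = Nat.card Ω := by
    have h1 : Nat.card H = Nat.card {c : Ω // c ≠ a ∧ c ≠ b} := by
      refine Nat.card_congr (Equiv.ofBijective
        (fun h : H => (⟨(h : G) • c₀, ?_, ?_⟩ : {c : Ω // c ≠ a ∧ c ≠ b})) ⟨?_, ?_⟩)
      · intro h5
        apply hc₀a
        have h6 : (h : G) • c₀ = (h : G) • a := by rw [h5, ((hmemH _).1 h.2).1]
        exact smul_left_cancel _ h6
      · intro h5
        apply hc₀b
        have h6 : (h : G) • c₀ = (h : G) • b := by rw [h5, ((hmemH _).1 h.2).2]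
        exact smul_left_cancel _ h6
      · intro h h' hh
        have h5 : (h : G) • c₀ = (h' : G) • c₀ := congrArg Subtype.val hh
        have h6 : ((h' : G)⁻¹ * h) • c₀ = c₀ := by rw [mul_smul, h5, inv_smul_smul]
        have h7 : ((h' : G)⁻¹ * h) • a = a := by
          rw [mul_smul, ((hmemH _).1 h.2).1, inv_smul_eq_iff, ((hmemH _).1 h'.2).1]
        have h8 : ((h' : G)⁻¹ * h) • b = b := by
          rw [mul_smul, ((hmemH _).1 h.2).2, inv_smul_eq_iff, ((hmemH _).1 h'.2).2]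
        have h9 := hS.uniq _ a b c₀ hab (Ne.symm hc₀b) (Ne.symm hc₀a) h7 h8 h6
        exact Subtype.ext (inv_mul_eq_one.mp h9).symm
      · rintro ⟨d, hd1, hd2⟩
        obtain ⟨g, hg1, hg2, hg3⟩ := hS.trans hab (Ne.symm hc₀a) (Ne.symm hc₀b) hab (Ne.symm hd1)
          (Ne.symm hd2)
        exact ⟨⟨g, (hmemH g).2 ⟨hg1, hg2⟩⟩, Subtype.ext hg3⟩
    rw [h1]
    haveI : Fintype Ω := Fintype.ofFinite Ω
    have h2 : Fintype.card {c : Ω // c ≠ a ∧ c ≠ b} + 2 = Fintype.card Ω := by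
      have h4 : Fintype.card {c : Ω // c ≠ a ∧ c ≠ b} = ((Finset.univ.erase a).erase b).card := by
        rw [Fintype.card_subtype]
        congr 1
        ext c
        simp [and_comm]
      rw [h4, Finset.card_erase_of_mem (by simp [hba]), Finset.card_erase_of_mem (by simp),
        Finset.card_univ]
      have : 2 ≤ Fintype.card Ω := by rw [← Nat.card_eq_fintype_card]; omega
      omega
    rw [Nat.card_eq_fintype_card, Nat.card_eq_fintype_card]
    exact h2
  have hH2 : 2 ∣ Nat.card H := by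
    obtain ⟨t, ht⟩ := heven
    omega
  haveI : Fact (Nat.Prime 2) := ⟨Nat.prime_two⟩
  obtain ⟨z, hz⟩ := exists_prime_orderOf_dvd_card' (G := H) 2 hH2
  have hz1 : (z : G) ≠ 1 := by
    intro h
    have h5 : z = 1 := Subtype.ext h
    rw [h5, orderOf_one] at hz
    omega
  have hzz : (z : G) * z = 1 := by
    have h5 := pow_orderOf_eq_one z
    rw [hz, pow_two] at h5
    exact congrArg Subtype.val h5
  have hkb : ∀ k ∈ K, k ≠ 1 → k • b ≠ a ∧ k • b ≠ b := by
    intro k hk hk1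
    constructor
    · intro h5
      apply hba
      have h6 : k • b = k • a := by rw [h5, hK.le k hk]
      exact smul_left_cancel _ h6
    · intro h5
      exact hk1 (hK.eq_one_of_fix hk hba h5)
  refine ⟨K, hK, ?_, ⟨z, hz1, hzz, ((hmemH _).1 z.2).1, ((hmemH _).1 z.2).2⟩, ?_⟩
  · have : Nontrivial K := by
      rw [← Finite.one_lt_card_iff_nontrivial]
      omega
    obtain ⟨k, hk⟩ := exists_ne (1 : K)
    exact ⟨k, k.2, fun h => hk (Subtype.ext h)⟩
  · intro z hz1 hzz hza hzb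
    apply Cfsg.Agent.Lib.ZassCore.inv_of_fpf K z hzz (hK.normal _ hza)
    intro k hk hkz
    by_contra hk1
    obtain ⟨h5, h6⟩ := hkb k hk hk1
    have h7 : z • (k • b) = k • b := by
      rw [← mul_smul]
      have h8 : z * k = k * z := by
        calc z * k = (z * k * z⁻¹) * z := by group
          _ = k * z := by rw [hkz]
      rw [h8, mul_smul, hzb]
    exact hz1 (hS.uniq _ a b (k • b) hab (Ne.symm h6) (Ne.symm h5) hza hzb h7)

/-- The main theorem. -/
theorem false_of_simple [IsSimpleGroup G] [FaithfulSMul G Ω] (hS : Sharp3 G Ω)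
    (heven : Even (Nat.card Ω)) (h6 : 6 ≤ Nat.card Ω) : False := by
  classical
  haveI hGf : Finite G :=
    Finite.of_injective (MulAction.toPerm : G → Equiv.Perm Ω) (MulAction.toPerm_injective)
  have h3' : 3 ≤ Nat.card Ω := by omega
  obtain ⟨a⟩ : Nonempty Ω := (Nat.card_pos_iff.mp (by omega)).1
  obtain ⟨b, hb, -⟩ := exists_third h3' a a
  have hab : a ≠ b := Ne.symm hb
  have hba : b ≠ a := hb
  obtain ⟨e, hea, heb⟩ := exists_third h3' a b
  obtain ⟨K, hK, ⟨k₀, hk₀, hk₀1⟩, ⟨z, hz1, hzz, hza, hzb⟩, hinvol⟩ := exists_setup hS heven h6 hab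
  have hzinv : z⁻¹ = z := inv_eq_of_mul_eq_one_left hzz
  have hzK := hinvol z hz1 hzz hza hzb
  have hkb : ∀ k ∈ K, k ≠ 1 → k • b ≠ a ∧ k • b ≠ b := by
    intro k hk hk1
    constructor
    · intro h5
      apply hba
      have h6 : k • b = k • a := by rw [h5, hK.le k hk]
      exact smul_left_cancel _ h6
    · intro h5
      exact hk1 (hK.eq_one_of_fix hk hba h5)
  -- uniqueness of the involution
  have huinv : ∀ z' : G, z' ≠ 1 → z' * z' = 1 → z' • a = a → z' • b = b → z' = z := by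
    intro z' h1 h2 h3 h4
    have hz'K := hinvol z' h1 h2 h3 h4
    obtain ⟨h5, h7⟩ := hkb k₀ hk₀ hk₀1
    have h8 : (z * z') * k₀ = k₀ * (z * z') := by
      have h9 : z * z' * k₀ * (z * z')⁻¹ = z * (z' * k₀ * z'⁻¹) * z⁻¹ := by group
      have h10 : z * z' * k₀ * (z * z')⁻¹ = k₀ := by
        rw [h9, hz'K k₀ hk₀, ← inv_inj]
        have h11 : (z * k₀⁻¹ * z⁻¹)⁻¹ = z * k₀ * z⁻¹ := by group
        rw [h11, hzK k₀ hk₀]
      calc (z * z') * k₀ = (z * z' * k₀ * (z * z')⁻¹) * (z * z') := by group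
        _ = k₀ * (z * z') := by rw [h10]
    have h9 : (z * z') • (k₀ • b) = k₀ • b := by
      rw [← mul_smul, h8, mul_smul, mul_smul, h4, hzb]
    have h10 := hS.uniq (z * z') a b (k₀ • b) hab (Ne.symm h7) (Ne.symm h5)
      (by rw [mul_smul, h3, hza]) (by rw [mul_smul, h4, hzb]) h9
    have h11 : z' = z⁻¹ := eq_inv_of_mul_eq_one_right h10
    rw [h11, hzinv]
  -- `z` is central in the stabiliser
  have hzc : ∀ h : G, h • a = a → h • b = b → h * z = z * h := by
    intro h h1 h2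
    have h3 : h * z * h⁻¹ = z := by
      apply huinv
      · intro h4
        apply hz1
        have h5 : z = h⁻¹ * (h * z * h⁻¹) * h := by group
        rw [h5, h4]
        simp
      · calc h * z * h⁻¹ * (h * z * h⁻¹) = h * (z * z) * h⁻¹ := by group
          _ = 1 := by rw [hzz]; simp
      · rw [mul_smul, mul_smul, inv_smul_eq_iff.mpr h1.symm, hza, h1]
      · rw [mul_smul, mul_smul, inv_smul_eq_iff.mpr h2.symm, hzb, h2]
    calc h * z = (h * z * h⁻¹) * h := by group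
      _ = z * h := by rw [h3]
  -- the element `τ`
  have hze : z • e ≠ a ∧ z • e ≠ b := by
    constructor
    · intro h
      apply hea
      have : z • e = z • a := by rw [h, hza]
      exact smul_left_cancel _ this
    · intro h
      apply heb
      have : z • e = z • b := by rw [h, hzb]
      exact smul_left_cancel _ this
  obtain ⟨τ, hτa, hτb, hτe⟩ := hS.trans (a := a) (b := b) (c := e) (a' := b) (b' := a) (c' := z • e)
    hab (Ne.symm hea) (Ne.symm heb) hba (Ne.symm hze.2) (Ne.symm hze.1)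
  have hτia : τ⁻¹ • a = b := inv_smul_eq_iff.mpr hτb.symm
  have hτib : τ⁻¹ • b = a := inv_smul_eq_iff.mpr hτa.symm
  have hτz : τ * z = z * τ := by
    have h3 : τ * z * τ⁻¹ = z := by
      apply huinv
      · intro h4
        apply hz1
        have h5 : z = τ⁻¹ * (τ * z * τ⁻¹) * τ := by group
        rw [h5, h4]
        simp
      · calc τ * z * τ⁻¹ * (τ * z * τ⁻¹) = τ * (z * z) * τ⁻¹ := by group
          _ = 1 := by rw [hzz]; simp
      · rw [mul_smul, mul_smul, hτia, hzb, hτb]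
      · rw [mul_smul, mul_smul, hτib, hza, hτa]
    calc τ * z = (τ * z * τ⁻¹) * τ := by group
      _ = z * τ := by rw [h3]
  have hττ : τ * τ = 1 := by
    apply hS.uniq (τ * τ) a b e hab (Ne.symm heb) (Ne.symm hea)
    · rw [mul_smul, hτa, hτb]
    · rw [mul_smul, hτb, hτa]
    · rw [mul_smul, hτe, ← mul_smul, hτz, mul_smul, hτe, ← mul_smul, hzz, one_smul]
  have hτinv : τ⁻¹ = τ := inv_eq_of_mul_eq_one_left hττ
  -- the subgroup of index two
  set H : Subgroup G := MulAction.stabilizer G a ⊓ MulAction.stabilizer G b with hH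
  have hmemH : ∀ g : G, g ∈ H ↔ g • a = a ∧ g • b = b := by
    intro g
    rw [hH, Subgroup.mem_inf, MulAction.mem_stabilizer_iff, MulAction.mem_stabilizer_iff]
  obtain ⟨N₀, hN₀⟩ := exists_index_two hS heven h6 hab
    (fun A B hA hB hA3 hB3 => unique_three hS heven h6 hab A B hA hB hA3 hB3)
  have hsH : ∀ h ∈ H, MulAut.conj τ h ∈ H := by
    intro h hh
    rw [hmemH] at hh ⊢
    rw [MulAut.conj_apply]
    constructor
    · rw [mul_smul, mul_smul, hτia, hh.2, hτb]
    · rw [mul_smul, mul_smul, hτib, hh.1, hτa]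
  let σ : MulAut H := Cfsg.Agent.Lib.Kegel.restr (MulAut.conj τ) H hsH
  have hσ : ∀ x : H, ((σ x : H) : G) = τ * x * τ⁻¹ := fun _ => rfl
  have hσσ : ∀ x, σ (σ x) = x := by
    intro x
    apply Subtype.ext
    rw [hσ, hσ, hτinv]
    calc τ * (τ * (x : G) * τ) * τ = (τ * τ) * x * (τ * τ) := by group
      _ = x := by rw [hττ]; simp
  obtain ⟨N', hN', hinv⟩ := exists_invariant_index_two σ hσσ N₀ hN₀
  haveI hN'n : N'.Normal := Subgroup.normal_of_index_eq_two hN'
  let N : Subgroup G := N'.map H.subtype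
  have hNmem : ∀ x : G, x ∈ N ↔ ∃ hx : x ∈ H, (⟨x, hx⟩ : H) ∈ N' := by
    intro x
    constructor
    · rintro ⟨y, hy, rfl⟩
      exact ⟨y.2, hy⟩
    · rintro ⟨hx, hy⟩
      exact ⟨_, hy, rfl⟩
  have hNH : ∀ n ∈ N, n • a = a ∧ n • b = b := by
    intro n hn
    obtain ⟨hx, -⟩ := (hNmem n).1 hn
    exact (hmemH n).1 hx
  have hNnorm : ∀ h : G, h • a = a → h • b = b → ∀ n ∈ N, h * n * h⁻¹ ∈ N := by
    intro h h1 h2 n hn
    obtain ⟨hx, hy⟩ := (hNmem n).1 hn
    have hhH : h ∈ H := (hmemH h).2 ⟨h1, h2⟩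
    have h3 := hN'n.conj_mem _ hy ⟨h, hhH⟩
    exact ⟨_, h3, rfl⟩
  have hNσ : ∀ n ∈ N, τ * n * τ⁻¹ ∈ N := by
    intro n hn
    obtain ⟨hx, hy⟩ := (hNmem n).1 hn
    exact ⟨_, hinv _ hy, rfl⟩
  have hNσ' : ∀ n ∈ N, τ⁻¹ * n * τ ∈ N := by
    intro n hn
    have := hNσ n hn
    rw [hτinv] at this ⊢
    exact this
  have hφ : ∀ h : G, h • a = a → h • b = b → τ * h * τ⁻¹ * h⁻¹ ∈ N := by
    intro h h1 h2
    have hhH : h ∈ H := (hmemH h).2 ⟨h1, h2⟩
    have h3 : σ ⟨h, hhH⟩ * (⟨h, hhH⟩ : H)⁻¹ ∈ N' := by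
      rw [Subgroup.mul_mem_iff_of_index_two hN', inv_mem_iff]
      constructor
      · intro h4
        have h5 := hinv _ h4
        rwa [hσσ] at h5
      · exact hinv _
    exact ⟨_, h3, rfl⟩
  obtain ⟨h₀, hh₀, hh₀N⟩ : ∃ h₀ : G, (h₀ • a = a ∧ h₀ • b = b) ∧ h₀ ∉ N := by
    have h1 : N' ≠ ⊤ := by
      rintro rfl
      rw [Subgroup.index_top] at hN'
      omega
    obtain ⟨x, hx⟩ : ∃ x, x ∉ N' := by
      by_contra hcon
      push Not at hcon
      exact h1 (eq_top_iff.mpr fun x _ => hcon x)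
    refine ⟨x, (hmemH _).1 x.2, ?_⟩
    intro hxN
    obtain ⟨hy1, hy⟩ := (hNmem _).1 hxN
    exact hx hy
  -- the inversion on points
  have hinvpt : ∀ l ∈ K, l⁻¹ • b = z • (l • b) := by
    intro l hl
    rw [← hzK l hl, mul_smul, mul_smul, inv_smul_eq_iff.mpr hzb.symm]
  -- the relation
  have hR : ∀ k ∈ K, k ≠ 1 → ∃ k' ∈ K, ∃ n ∈ N, τ * k * τ⁻¹ = k' * n * τ * k' := by
    intro k hk hk1
    obtain ⟨hx1, hx2⟩ := hkb k hk hk1
    have hτx : τ • (k • b) ≠ a := by
      intro h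
      apply hx2
      have h1 : k • b = τ⁻¹ • a := eq_inv_smul_iff.mpr h
      rw [h1, hτia]
    obtain ⟨k', ⟨hk', hk'b⟩, -⟩ := hK.reg b (τ • (k • b)) hba hτx
    have hk'a : k' • a = a := hK.le k' hk'
    have hk'ia : k'⁻¹ • a = a := inv_smul_eq_iff.mpr hk'a.symm
    have hka : k • a = a := hK.le k hk
    have hzτ : ∀ x : Ω, z • (τ • x) = τ • (z • x) := by
      intro x
      rw [← mul_smul, ← mul_smul, hτz]
    -- the element `t`
    set t : G := k'⁻¹ * (τ * k * τ⁻¹) * k'⁻¹ with ht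
    have hk'ib : k'⁻¹ • b = z • (τ • (k • b)) := by rw [hinvpt k' hk', hk'b]
    have hta : t • a = b := by
      rw [ht, mul_smul, mul_smul, mul_smul, mul_smul, hk'ia, hτia, ← hk'b, inv_smul_smul]
    have htb : t • b = a := by
      rw [ht, mul_smul, mul_smul, mul_smul, mul_smul, hk'ib, hzτ]
      rw [inv_smul_smul, ← hinvpt k hk, smul_inv_smul, hτb, hk'ia]
    set g : G := t * τ⁻¹ with hg
    have hga : g • a = a := by rw [hg, mul_smul, hτia, htb]
    have hgb : g • b = b := by rw [hg, mul_smul, hτib, hta]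
    have htg : t = g * τ := by rw [hg]; group
    have hgx : g • (k • b) = z • (τ • (k • b)) := by
      have h1 : τ⁻¹ • (k • b) = k' • b := by rw [hτinv, hk'b]
      rw [hg, mul_smul, h1, ht, mul_smul, mul_smul, mul_smul, mul_smul, inv_smul_smul, hτib, hka,
        hτa, hk'ib]
    -- the element of the stabiliser
    obtain ⟨h, hha, hhb, hhe⟩ := hS.trans (a := a) (b := b) (c := e) (a' := a) (b' := b)
      (c' := k • b) hab (Ne.symm hea) (Ne.symm heb) hab (Ne.symm hx1) (Ne.symm hx2)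
    have hgh : g * h = τ * h * τ⁻¹ := by
      have h1 : (τ * h * τ⁻¹)⁻¹ * (g * h) = 1 := by
        have hσa : (τ * h * τ⁻¹) • a = a := by
          rw [mul_smul, mul_smul, hτia, hhb, hτb]
        have hσb : (τ * h * τ⁻¹) • b = b := by
          rw [mul_smul, mul_smul, hτib, hha, hτa]
        have hσe : (τ * h * τ⁻¹) • e = g • (h • e) := by
          have h2 : τ⁻¹ • e = z • e := by rw [hτinv, hτe]
          have h3 : h • (z • e) = z • (h • e) := by
            rw [← mul_smul, ← mul_smul, hzc h hha hhb]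
          rw [mul_smul, mul_smul, h2, h3, hhe, hgx, hzτ]
        apply hS.uniq _ a b e hab (Ne.symm heb) (Ne.symm hea)
        · rw [mul_smul, mul_smul, hha, hga, inv_smul_eq_iff, hσa]
        · rw [mul_smul, mul_smul, hhb, hgb, inv_smul_eq_iff, hσb]
        · rw [mul_smul, mul_smul, inv_smul_eq_iff, hσe]
      exact (inv_mul_eq_one.mp h1).symm
    have hgN : g ∈ N := by
      have h1 : g = τ * h * τ⁻¹ * h⁻¹ := by
        rw [← hgh]
        group
      rw [h1]
      exact hφ h hha hhb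
    refine ⟨k', hk', g, hgN, ?_⟩
    calc τ * k * τ⁻¹ = k' * t * k' := by rw [ht]; group
      _ = k' * (g * τ) * k' := by rw [htg]
      _ = k' * g * τ * k' := by group
  -- the set
  let P : G → Prop := fun x =>
    (∃ k ∈ K, ∃ n ∈ N, x = k * n) ∨ (∃ k ∈ K, ∃ n ∈ N, ∃ k' ∈ K, x = k * n * τ * k')
  have hP1 : P 1 := Or.inl ⟨1, K.one_mem, 1, N.one_mem, by simp⟩
  have hKnorm : ∀ n ∈ N, ∀ k ∈ K, n * k * n⁻¹ ∈ K := fun n hn => hK.normal n (hNH n hn).1
  have hKnorm' : ∀ n ∈ N, ∀ k ∈ K, n⁻¹ * k * n ∈ K := by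
    intro n hn k hk
    have := hKnorm n⁻¹ (N.inv_mem hn) k hk
    rwa [inv_inv] at this
  have hPK : ∀ k₀ ∈ K, ∀ x, P x → P (k₀ * x) := by
    rintro k₀ hk₀' x (⟨k, hk, n, hn, rfl⟩ | ⟨k, hk, n, hn, k', hk', rfl⟩)
    · exact Or.inl ⟨k₀ * k, K.mul_mem hk₀' hk, n, hn, by group⟩
    · exact Or.inr ⟨k₀ * k, K.mul_mem hk₀' hk, n, hn, k', hk', by group⟩
  have hPN : ∀ n₀ ∈ N, ∀ x, P x → P (n₀ * x) := by
    rintro n₀ hn₀ x (⟨k, hk, n, hn, rfl⟩ | ⟨k, hk, n, hn, k', hk', rfl⟩)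
    · exact Or.inl ⟨n₀ * k * n₀⁻¹, hKnorm n₀ hn₀ k hk, n₀ * n, N.mul_mem hn₀ hn, by group⟩
    · exact Or.inr ⟨n₀ * k * n₀⁻¹, hKnorm n₀ hn₀ k hk, n₀ * n, N.mul_mem hn₀ hn, k', hk', by group⟩
  have hPconj : ∀ k ∈ K, P (τ * k * τ⁻¹) := by
    intro k hk
    by_cases hk1 : k = 1
    · rw [hk1]
      simpa using hP1
    · obtain ⟨k', hk', n, hn, h⟩ := hR k hk hk1
      exact Or.inr ⟨k', hk', n, hn, k', hk', h⟩
  have hPτ : ∀ x, P x → P (τ * x) := by
    rintro x (⟨k, hk, n, hn, rfl⟩ | ⟨k, hk, n, hn, k', hk', rfl⟩)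
    · by_cases hk1 : k = 1
      · refine Or.inr ⟨1, K.one_mem, τ * n * τ⁻¹, hNσ n hn, 1, K.one_mem, ?_⟩
        rw [hk1]
        group
      · obtain ⟨k₁, hk₁, n₁, hn₁, h⟩ := hR k hk hk1
        have hn' := hNσ' n hn
        have hk₂ : (τ⁻¹ * n * τ)⁻¹ * k₁ * (τ⁻¹ * n * τ) ∈ K := hKnorm' _ hn' k₁ hk₁
        have hid : τ * (k * n) = k₁ * ((n₁ * n) * (τ * ((τ⁻¹ * n * τ)⁻¹ * k₁ * (τ⁻¹ * n * τ)) * τ⁻¹)) := by
          have e1 : τ * (k * n) = (τ * k * τ⁻¹) * τ * n := by group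
          have e2 : k₁ * ((n₁ * n) * (τ * ((τ⁻¹ * n * τ)⁻¹ * k₁ * (τ⁻¹ * n * τ)) * τ⁻¹)) =
              k₁ * n₁ * τ * k₁ * τ⁻¹ * n := by group
          rw [e1, h, e2, hτinv]
        rw [hid]
        exact hPK k₁ hk₁ _ (hPN _ (N.mul_mem hn₁ hn) _ (hPconj _ hk₂))
    · by_cases hk1 : k = 1
      · have hn' := hNσ n hn
        have hid : τ * (k * n * τ * k') = (τ * n * τ⁻¹) * k' := by
          rw [hk1, hτinv]
          group
        rw [hid]
        have h1 : P k' := Or.inl ⟨k', hk', 1, N.one_mem, by simp⟩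
        exact hPN _ hn' _ h1
      · obtain ⟨k₁, hk₁, n₁, hn₁, h⟩ := hR k hk hk1
        have hn' := hNσ' n hn
        have hk₂ : (τ⁻¹ * n * τ)⁻¹ * k₁ * (τ⁻¹ * n * τ) * k' ∈ K :=
          K.mul_mem (hKnorm' _ hn' k₁ hk₁) hk'
        refine Or.inr ⟨k₁, hk₁, n₁ * n, N.mul_mem hn₁ hn, _, hk₂, ?_⟩
        have e1 : τ * (k * n * τ * k') = (τ * k * τ⁻¹) * τ * n * τ * k' := by group
        have e2 : k₁ * (n₁ * n) * τ * ((τ⁻¹ * n * τ)⁻¹ * k₁ * (τ⁻¹ * n * τ) * k') =
            k₁ * n₁ * τ * k₁ * τ⁻¹ * n * τ * k' := by group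
        rw [e1, h, e2, hτinv]
  -- the subgroup
  let S : Set G := (K : Set G) ∪ (N : Set G) ∪ {τ}
  let L : Subgroup G := Subgroup.closure S
  have hKL : ∀ k ∈ K, k ∈ L := fun k hk =>
    Subgroup.subset_closure (Or.inl (Or.inl hk))
  have hNL : ∀ n ∈ N, n ∈ L := fun n hn =>
    Subgroup.subset_closure (Or.inl (Or.inr hn))
  have hτL : τ ∈ L := Subgroup.subset_closure (Or.inr rfl)
  have hLP : ∀ y ∈ L, P y := by
    intro y hy
    induction hy using Subgroup.closure_induction_left with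
    | one => exact hP1
    | mul_left x hx y hy ih =>
      rcases hx with (hx | hx) | hx
      · exact hPK x hx y ih
      · exact hPN x hx y ih
      · rw [hx]
        exact hPτ y ih
    | inv_mul_cancel x hx y hy ih =>
      rcases hx with (hx | hx) | hx
      · exact hPK x⁻¹ (K.inv_mem hx) y ih
      · exact hPN x⁻¹ (N.inv_mem hx) y ih
      · rw [hx, hτinv]
        exact hPτ y ih
  -- `H` normalises `L`
  have hLH : ∀ h : G, h • a = a → h • b = b → ∀ l ∈ L, h * l * h⁻¹ ∈ L := by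
    intro h h1 h2 l hl
    induction hl using Subgroup.closure_induction with
    | mem x hx =>
      rcases hx with (hx | hx) | hx
      · exact hKL _ (hK.normal h h1 x hx)
      · exact hNL _ (hNnorm h h1 h2 x hx)
      · rw [hx]
        have h3 : h * τ * h⁻¹ = (h * (τ * h⁻¹ * τ⁻¹ * h) * h⁻¹) * τ := by group
        rw [h3]
        have h4 : τ * h⁻¹ * τ⁻¹ * h = τ * h⁻¹ * τ⁻¹ * (h⁻¹)⁻¹ := by rw [inv_inv]
        have hia : h⁻¹ • a = a := inv_smul_eq_iff.mpr h1.symm
        have hib : h⁻¹ • b = b := inv_smul_eq_iff.mpr h2.symm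
        refine L.mul_mem (hNL _ (hNnorm h h1 h2 _ ?_)) hτL
        rw [h4]
        exact hφ h⁻¹ hia hib
    | one => simp [L.one_mem]
    | mul x y hx hy ihx ihy =>
      have h3 : h * (x * y) * h⁻¹ = (h * x * h⁻¹) * (h * y * h⁻¹) := by group
      rw [h3]
      exact L.mul_mem ihx ihy
    | inv x hx ih =>
      have h3 : h * x⁻¹ * h⁻¹ = (h * x * h⁻¹)⁻¹ := by group
      rw [h3]
      exact L.inv_mem ih
  have hLa : ∀ y : G, y • a = a → ∀ l ∈ L, y * l * y⁻¹ ∈ L := by
    intro y hy l hl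
    obtain ⟨k, hk, h1, h2⟩ := hK.exists_decomp hba hy
    have h3 : y * l * y⁻¹ = k * ((k⁻¹ * y) * l * (k⁻¹ * y)⁻¹) * k⁻¹ := by group
    rw [h3]
    exact L.mul_mem (L.mul_mem (hKL k hk) (hLH _ h1 h2 l hl)) (L.inv_mem (hKL k hk))
  haveI hLnorm : L.Normal := by
    constructor
    intro l hl g
    by_cases hg : g • a = a
    · exact hLa g hg l hl
    · obtain ⟨k, ⟨hk, hk1⟩, -⟩ := hK.reg b (g • a) hba hg
      have hy : (τ⁻¹ * k⁻¹ * g) • a = a := by
        rw [mul_smul, mul_smul, ← hk1, inv_smul_smul, hτib]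
      have h3 : g * l * g⁻¹ = (k * τ) * ((τ⁻¹ * k⁻¹ * g) * l * (τ⁻¹ * k⁻¹ * g)⁻¹) * (k * τ)⁻¹ := by
        group
      rw [h3]
      have hkτ : k * τ ∈ L := L.mul_mem (hKL k hk) hτL
      exact L.mul_mem (L.mul_mem hkτ (hLa _ hy l hl)) (L.inv_mem hkτ)
  rcases IsSimpleGroup.eq_bot_or_eq_top_of_normal L hLnorm with h | h
  · have h1 := hKL k₀ hk₀
    rw [h, Subgroup.mem_bot] at h1
    exact hk₀1 h1
  · have h1 : h₀ ∈ L := by rw [h]; exact Subgroup.mem_top _
    rcases hLP h₀ h1 with ⟨k, hk, n, hn, h2⟩ | ⟨k, hk, n, hn, k', hk', h2⟩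
    · apply hh₀N
      have h3 : k • b = b := by
        have h4 : h₀ • b = b := hh₀.2
        rw [h2, mul_smul, (hNH n hn).2] at h4
        exact h4
      have h4 := hK.eq_one_of_fix hk hba h3
      rw [h2, h4, one_mul]
      exact hn
    · have h3 : h₀ • a = k • b := by
        rw [h2, mul_smul, mul_smul, mul_smul, hK.le k' hk', hτa, (hNH n hn).2]
      rw [hh₀.1] at h3
      by_cases hk1 : k = 1
      · rw [hk1, one_smul] at h3
        exact hab h3
      · exact (hkb k hk hk1).1 h3.symm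

end Cfsg.Agent.Lib.SharpClosure
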