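import Mathlib

set_option autoImplicit false

/-!
# Tools for groups of small order

Sylow counting, the embedding theorem, Burnside transfer consequences, etc.
-/

namespace Cfsg.Agent.Lib.SmallGroups

open Subgroup

variable {G : Type*} [Group G]

theorem isMulCommutative_of_injective_units {f : G →* ℤˣ} (hf : Function.Injective f) :
    IsMulCommutative G := by
  refine ⟨⟨fun a b => hf ?_⟩⟩
  rw [map_mul, map_mul, mul_comm]

theorem toPermHom_injective_of_simple [IsSimpleGroup G] (H : Subgroup G) (hH : H ≠ ⊤) :
    Function.Injective (MulAction.toPermHom G (G ⧸ H)) := by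
  rw [injective_iff_map_eq_one]
  have hk : (MulAction.toPermHom G (G ⧸ H)).ker = H.normalCore := (Subgroup.normalCore_eq_ker H).symm
  have hker : H.normalCore = ⊥ := by
    rcases (inferInstance : H.normalCore.Normal).eq_bot_or_eq_top with h | h
    · exact h
    · exfalso
      apply hH
      rw [eq_top_iff, ← h]
      exact Subgroup.normalCore_le H
  intro g hg
  have : g ∈ (MulAction.toPermHom G (G ⧸ H)).ker := hg
  rw [hk, hker] at this
  simpa using this

/-- The embedding theorem: a non-abelian simple group with a proper subgroup of index `n` embeds into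
the alternating group of degree `n`. -/
theorem exists_embedding_alternating [IsSimpleGroup G] [Finite G] (hG : ¬ IsMulCommutative G) (H : Subgroup G) (hH : H ≠ ⊤) :
    ∃ f : G →* ↥(alternatingGroup (Fin H.index)), Function.Injective f := by
  have e : (G ⧸ H) ≃ Fin H.index := Finite.equivFin (G ⧸ H)
  let φ : G →* Equiv.Perm (Fin H.index) :=
    (Equiv.permCongrHom e).toMonoidHom.comp (MulAction.toPermHom G (G ⧸ H))
  have hφ : Function.Injective φ := by
    intro a b hab
    apply toPermHom_injective_of_simple H hH
    exact (Equiv.permCongrHom e).injective hab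
  let s : G →* ℤˣ := Equiv.Perm.sign.comp φ
  have hs : s.ker = ⊤ := by
    rcases (inferInstance : s.ker.Normal).eq_bot_or_eq_top with h | h
    · exfalso
      apply hG
      exact isMulCommutative_of_injective_units (f := s) ((MonoidHom.ker_eq_bot_iff s).1 h)
    · exact h
  refine ⟨φ.codRestrict (alternatingGroup (Fin H.index)) ?_, ?_⟩
  · intro g
    have : g ∈ s.ker := by rw [hs]; trivial
    exact this
  · intro a b hab
    apply hφ
    exact congrArg Subtype.val hab

/-- Order bound from the embedding theorem: `2 * |G|` divides `n!`. -/
theorem two_mul_card_dvd_factorial_index [IsSimpleGroup G] [Finite G] (hG : ¬ IsMulCommutative G) (H : Subgroup G) (hH : H ≠ ⊤) :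
    2 * Nat.card G ∣ (H.index).factorial := by
  obtain ⟨f, hf⟩ := exists_embedding_alternating hG H hH
  have h1 : Nat.card G ∣ Nat.card (alternatingGroup (Fin H.index)) := by
    have := Subgroup.card_dvd_of_injective f hf
    exact this
  have hidx : 2 ≤ H.index := by
    have h0 : H.index ≠ 0 := Subgroup.index_ne_zero_of_finite
    have h1 : H.index ≠ 1 := by
      intro h
      exact hH (Subgroup.index_eq_one.1 h)
    omega
  have h2 : 2 * Nat.card (alternatingGroup (Fin H.index)) = (H.index).factorial := by
    have : Nontrivial (Fin H.index) := Fin.nontrivial_iff_two_le.2 hidx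
    have := two_mul_card_alternatingGroup (α := Fin H.index)
    simpa [Fintype.card_perm, Nat.card_eq_fintype_card] using this
  rw [← h2]
  exact Nat.mul_dvd_mul_left 2 h1

end Cfsg.Agent.Lib.SmallGroups
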