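import Mathlib
import Cfsg.Agent.Lib.SmallGroups

set_option autoImplicit false

/-!
# Sylow tools for simple groups of small order
-/

namespace Cfsg.Agent.Lib.SmallGroups2

open Subgroup

variable {G : Type*} [Group G]

/-- A simple `p`-group is commutative. -/
theorem isMulCommutative_of_isPGroup [IsSimpleGroup G] [Finite G] {p : ℕ} [Fact p.Prime] (h : IsPGroup p G) :
    IsMulCommutative G := by
  have hnt : Nontrivial (center G) := h.center_nontrivial
  rcases (inferInstance : (center G).Normal).eq_bot_or_eq_top with hb | ht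
  · exfalso
    rw [hb] at hnt
    exact not_subsingleton_iff_nontrivial.2 hnt inferInstance
  · refine ⟨⟨fun a b => ?_⟩⟩
    have : a ∈ center G := by rw [ht]; trivial
    exact (this.comm b).eq

/-- The order of a Sylow subgroup from a factorization of the group order. -/
theorem sylow_card_of_card_eq [Finite G] {p a m : ℕ} [Fact p.Prime] (h : Nat.card G = p ^ a * m) (hm : ¬ p ∣ m)
    (P : Sylow p G) : Nat.card P = p ^ a := by
  have hp : p.Prime := Fact.out
  rw [P.card_eq_multiplicity, h]
  have hm0 : m ≠ 0 := by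
    rintro rfl
    exact hm (dvd_zero p)
  rw [Nat.factorization_mul (pow_ne_zero a hp.ne_zero) hm0]
  simp [hp.factorization_self, Nat.factorization_eq_zero_of_not_dvd hm]

theorem sylow_index_of_card_eq [Finite G] {p a m : ℕ} [Fact p.Prime] (h : Nat.card G = p ^ a * m) (hm : ¬ p ∣ m)
    (P : Sylow p G) : (P : Subgroup G).index = m := by
  have hp : p.Prime := Fact.out
  have h1 := Subgroup.card_mul_index (P : Subgroup G)
  rw [sylow_card_of_card_eq h hm P, h] at h1
  exact Nat.eq_of_mul_eq_mul_left (pow_pos hp.pos a) h1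

/-- The number of Sylow subgroups divides the cofactor and is `1` modulo `p`. -/
theorem card_sylow_dvd [Finite G] {p a m : ℕ} [Fact p.Prime] (h : Nat.card G = p ^ a * m) (hm : ¬ p ∣ m) :
    Nat.card (Sylow p G) ∣ m := by
  obtain ⟨P⟩ := (inferInstance : Nonempty (Sylow p G))
  have := P.card_dvd_index
  rwa [sylow_index_of_card_eq h hm P] at this

theorem card_sylow_mod [Finite G] {p : ℕ} [Fact p.Prime] : Nat.card (Sylow p G) % p = 1 % p :=
  card_sylow_modEq_one p G

/-- Membership form, ready for `decide`. -/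
theorem card_sylow_mem_filter [Finite G] {p a m : ℕ} [Fact p.Prime] (h : Nat.card G = p ^ a * m) (hm : ¬ p ∣ m)
    (hm0 : m ≠ 0) : Nat.card (Sylow p G) ∈ (Nat.divisors m).filter (fun n => n % p = 1 % p) := by
  rw [Finset.mem_filter, Nat.mem_divisors]
  exact ⟨⟨card_sylow_dvd h hm, hm0⟩, card_sylow_mod⟩

/-- `|N(P)| * n_p = |G|`. -/
theorem card_normalizer_mul_card_sylow [Finite G] {p : ℕ} [Fact p.Prime] (P : Sylow p G) :
    Nat.card (normalizer ((P : Subgroup G) : Set G)) * Nat.card (Sylow p G) = Nat.card G := by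
  rw [Sylow.card_eq_index_normalizer P]
  exact Subgroup.card_mul_index _

/-- **Burnside**: in a non-abelian simple group, the normalizer of a nontrivial Sylow subgroup does not
centralize it. -/
theorem not_normalizer_le_centralizer [Finite G] [IsSimpleGroup G] (hG : ¬ IsMulCommutative G) {p : ℕ} [Fact p.Prime]
    (hp : p ∣ Nat.card G) (P : Sylow p G) :
    ¬ normalizer ((P : Subgroup G) : Set G) ≤ centralizer ((P : Subgroup G) : Set G) := by
  intro hle
  have hc := MonoidHom.ker_transferSylow_isComplement' P hle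
  rcases (inferInstance : (MonoidHom.transferSylow P hle).ker.Normal).eq_bot_or_eq_top with hb | ht
  · rw [hb] at hc
    have hP : (P : Subgroup G) = ⊤ := Subgroup.isComplement'_bot_left.1 hc
    apply hG
    refine isMulCommutative_of_isPGroup (p := p) ?_
    intro g
    obtain ⟨k, hk⟩ := P.isPGroup' ⟨g, by rw [hP]; trivial⟩
    exact ⟨k, by simpa using congrArg Subtype.val hk⟩
  · rw [ht] at hc
    have hP : (P : Subgroup G) = ⊥ := Subgroup.isComplement'_top_left.1 hc
    exact P.ne_bot_of_dvd_card hp hP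

/-- A non-abelian simple group has no normal nontrivial Sylow subgroup. -/
theorem sylow_not_normal [Finite G] [IsSimpleGroup G] (hG : ¬ IsMulCommutative G) {p : ℕ} [Fact p.Prime]
    (hp : p ∣ Nat.card G) (P : Sylow p G) : ¬ (P : Subgroup G).Normal := by
  intro hn
  rcases hn.eq_bot_or_eq_top with hb | ht
  · exact P.ne_bot_of_dvd_card hp hb
  · apply hG
    refine isMulCommutative_of_isPGroup (p := p) ?_
    intro g
    obtain ⟨k, hk⟩ := P.isPGroup' ⟨g, by rw [ht]; trivial⟩
    exact ⟨k, by simpa using congrArg Subtype.val hk⟩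

/-- The normalizer of a nontrivial Sylow subgroup of a non-abelian simple group is proper. -/
theorem normalizer_sylow_ne_top [Finite G] [IsSimpleGroup G] (hG : ¬ IsMulCommutative G) {p : ℕ} [Fact p.Prime]
    (hp : p ∣ Nat.card G) (P : Sylow p G) : normalizer ((P : Subgroup G) : Set G) ≠ ⊤ := by
  intro h
  exact sylow_not_normal hG hp P (Subgroup.normalizer_eq_top_iff.1 h)

theorem card_sylow_ne_one [Finite G] [IsSimpleGroup G] (hG : ¬ IsMulCommutative G) {p : ℕ} [Fact p.Prime]
    (hp : p ∣ Nat.card G) : Nat.card (Sylow p G) ≠ 1 := by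
  intro h
  obtain ⟨P⟩ := (inferInstance : Nonempty (Sylow p G))
  have hs : Subsingleton (Sylow p G) := (Nat.card_eq_one_iff_unique.1 h).1
  exact sylow_not_normal hG hp P (Sylow.normal_of_subsingleton P)

/-- Embedding theorem in numeric form for the number of Sylow subgroups. -/
theorem two_mul_card_dvd_factorial_card_sylow [Finite G] [IsSimpleGroup G] (hG : ¬ IsMulCommutative G) {p : ℕ}
    [Fact p.Prime] (hp : p ∣ Nat.card G) :
    2 * Nat.card G ∣ (Nat.card (Sylow p G)).factorial := by
  obtain ⟨P⟩ := (inferInstance : Nonempty (Sylow p G))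
  have := Cfsg.Agent.Lib.SmallGroups.two_mul_card_dvd_factorial_index hG _ (normalizer_sylow_ne_top hG hp P)
  have hidx : Nat.card (Sylow p G) = (normalizer ((P : Subgroup G) : Set G)).index := Sylow.card_eq_index_normalizer P
  rw [hidx]
  exact this

/-- `N(H)/C(H)` embeds in `Aut(H)`. -/
theorem relIndex_centralizer_normalizer_dvd (H : Subgroup G) [Finite G] :
    (centralizer (H : Set G)).relIndex (normalizer (H : Set G)) ∣ Nat.card (MulAut H) := by
  have key := Subgroup.card_dvd_of_injective _ (QuotientGroup.kerLift_injective H.normalizerMonoidHom)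
  rwa [normalizerMonoidHom_ker, ← index, ← relIndex] at key

/-- A cyclic subgroup is centralized by its normalizer if the order of the normalizer is coprime to
the order of the automorphism group. -/
theorem normalizer_le_centralizer_of_coprime [Finite G] (H : Subgroup G) [IsCyclic H]
    (h : (Nat.card (normalizer (H : Set G))).Coprime (Nat.totient (Nat.card H))) :
    normalizer (H : Set G) ≤ centralizer (H : Set G) := by
  have h1 := relIndex_centralizer_normalizer_dvd H
  rw [IsCyclic.card_mulAut] at h1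
  have h2 : (centralizer (H : Set G)).relIndex (normalizer (H : Set G)) ∣ Nat.card (normalizer (H : Set G)) :=
    Subgroup.relIndex_dvd_card _ _
  exact Subgroup.relIndex_eq_one.1 (Nat.eq_one_of_dvd_coprimes h h2 h1)

/-- A group of prime order `p` Sylow: the centralizer has index dividing `p - 1` in the normalizer. -/
theorem relIndex_dvd_of_prime_card [Finite G] {p : ℕ} [Fact p.Prime] (P : Sylow p G)
    (hP : Nat.card (P : Subgroup G) = p) :
    (centralizer ((P : Subgroup G) : Set G)).relIndex (normalizer ((P : Subgroup G) : Set G)) ∣ p - 1 := by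
  have hc : IsCyclic (P : Subgroup G) := isCyclic_of_prime_card hP
  have h1 := relIndex_centralizer_normalizer_dvd (P : Subgroup G)
  rw [IsCyclic.card_mulAut, hP, Nat.totient_prime (Fact.out : p.Prime)] at h1
  exact h1

/-- In a simple non-abelian group, with `|G| = p * m`, `p ∤ m`, we have `|N(P)| = p * s` with
`1 < s`, `s ∣ p - 1`, `s ∣ m`, `n_p * s = m`, when the centralizer of `P` is `P`. We only record the cofactor
data: `s` is the index of `C(P)` in `N(P)`. -/
theorem exists_relIndex_of_card_eq [Finite G] [IsSimpleGroup G] (hG : ¬ IsMulCommutative G) {p m : ℕ} [Fact p.Prime]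
    (h : Nat.card G = p * m) (hm : ¬ p ∣ m) (P : Sylow p G) :
    ∃ s, 1 < s ∧ s ∣ p - 1 ∧ s ∣ Nat.card (normalizer ((P : Subgroup G) : Set G)) ∧
      (centralizer ((P : Subgroup G) : Set G)).relIndex (normalizer ((P : Subgroup G) : Set G)) = s := by
  have hp : p.Prime := Fact.out
  have h' : Nat.card G = p ^ 1 * m := by rw [h, pow_one]
  have hP : Nat.card (P : Subgroup G) = p := by rw [sylow_card_of_card_eq h' hm P, pow_one]
  refine ⟨_, ?_, relIndex_dvd_of_prime_card P hP, Subgroup.relIndex_dvd_card _ _, rfl⟩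
  have h0 : (centralizer ((P : Subgroup G) : Set G)).relIndex (normalizer ((P : Subgroup G) : Set G)) ≠ 0 :=
    Subgroup.index_ne_zero_of_finite
  have h1 : (centralizer ((P : Subgroup G) : Set G)).relIndex (normalizer ((P : Subgroup G) : Set G)) ≠ 1 := by
    intro h1
    exact not_normalizer_le_centralizer hG ⟨m, h⟩ P (Subgroup.relIndex_eq_one.1 h1)
  omega


/-- A commutative simple group has prime order. -/
theorem card_prime_of_isMulCommutative [Finite G] [IsSimpleGroup G] (h : IsMulCommutative G) : (Nat.card G).Prime := by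
  letI : CommGroup G := { (inferInstance : Group G) with mul_comm := fun a b => h.is_comm.comm a b }
  exact CommGroup.is_simple_iff_prime_card.1 inferInstance

theorem not_isMulCommutative_of_not_prime [Finite G] [IsSimpleGroup G] (h : ¬ (Nat.card G).Prime) : ¬ IsMulCommutative G :=
  fun hc => h (card_prime_of_isMulCommutative hc)

/-- Candidates for the number of Sylow `p`-subgroups when `|G| = p * m`. -/
def sylowCandidates (p m : ℕ) : Finset ℕ :=
  (Nat.divisors m).filter (fun n => n % p = 1 % p ∧ n ≠ 1 ∧ Nat.gcd (m / n) (p - 1) ≠ 1)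

theorem card_sylow_mem_candidates [Finite G] [IsSimpleGroup G] (hG : ¬ IsMulCommutative G) {p m : ℕ} [Fact p.Prime]
    (h : Nat.card G = p * m) (hm : ¬ p ∣ m) : Nat.card (Sylow p G) ∈ sylowCandidates p m := by
  have hp : p.Prime := Fact.out
  have h' : Nat.card G = p ^ 1 * m := by rw [h, pow_one]
  have hm0 : m ≠ 0 := by
    rintro rfl
    exact hm (dvd_zero p)
  have hpd : p ∣ Nat.card G := ⟨m, h⟩
  rw [sylowCandidates, Finset.mem_filter, Nat.mem_divisors]
  refine ⟨⟨card_sylow_dvd h' hm, hm0⟩, card_sylow_mod, card_sylow_ne_one hG hpd, ?_⟩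
  obtain ⟨P⟩ := (inferInstance : Nonempty (Sylow p G))
  obtain ⟨s, hs1, hs2, hs3, hs4⟩ := exists_relIndex_of_card_eq hG h hm P
  have hN := card_normalizer_mul_card_sylow P
  rw [h] at hN
  -- |N(P)| = p * c with m = c * n
  have hPN : Nat.card (P : Subgroup G) ∣ Nat.card (normalizer ((P : Subgroup G) : Set G)) := by
    exact Subgroup.card_dvd_of_le (Subgroup.le_normalizer)
  have hcP : Nat.card (P : Subgroup G) = p := by rw [sylow_card_of_card_eq h' hm P, pow_one]
  rw [hcP] at hPN
  obtain ⟨c, hc⟩ := hPN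
  have hcm : c * Nat.card (Sylow p G) = m := by
    rw [hc, mul_assoc] at hN
    exact Nat.eq_of_mul_eq_mul_left hp.pos hN
  have hn0 : 0 < Nat.card (Sylow p G) := Nat.card_pos
  have hdiv : m / Nat.card (Sylow p G) = c := by
    rw [← hcm]
    exact Nat.mul_div_cancel _ hn0
  rw [hdiv]
  -- s divides c because s is coprime to p and divides p * c
  have hsp : Nat.Coprime s p := by
    have hle : s ≤ p - 1 := Nat.le_of_dvd (Nat.sub_pos_of_lt hp.one_lt) hs2
    have hlt : s < p := by have := hp.two_le; omega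
    exact Nat.Coprime.symm ((Nat.Prime.coprime_iff_not_dvd hp).2 (Nat.not_dvd_of_pos_of_lt (by omega) hlt))
  have hsc : s ∣ c := by
    rw [hc] at hs3
    exact hsp.dvd_of_dvd_mul_left hs3
  intro hg
  have : s ∣ Nat.gcd c (p - 1) := Nat.dvd_gcd hsc hs2
  rw [hg, Nat.dvd_one] at this
  omega

/-- Exclusion of an order by the Burnside test at a prime dividing the order exactly once. -/
theorem card_ne_of_candidates_empty [Finite G] [IsSimpleGroup G] {p m : ℕ} [Fact p.Prime]
    (hnp : ¬ (p * m).Prime) (hm : ¬ p ∣ m) (hc : sylowCandidates p m = ∅) : Nat.card G ≠ p * m := by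
  intro h
  have hG : ¬ IsMulCommutative G := not_isMulCommutative_of_not_prime (by rwa [h])
  have := card_sylow_mem_candidates hG h hm
  rw [hc] at this
  simp at this


theorem mem_smul_sylow_iff {p : ℕ} {P : Sylow p G} {c u : G} : u ∈ ((c • P : Sylow p G) : Subgroup G) ↔ c⁻¹ * u * c ∈ (P : Subgroup G) := by
  rw [Sylow.coe_subgroup_smul, Subgroup.mem_pointwise_smul_iff_inv_smul_mem]
  have : (MulAut.conj c)⁻¹ • u = c⁻¹ * u * c := by
    simp [MulAut.smul_def, MulAut.inv_def]
  rw [this]

/-- A normal subgroup containing a Sylow subgroup contains all of them. -/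
theorem sylow_le_of_normal [Finite G] {p : ℕ} [Fact p.Prime] {K : Subgroup G} [K.Normal] {P Q : Sylow p G}
    (h : (P : Subgroup G) ≤ K) : (Q : Subgroup G) ≤ K := by
  obtain ⟨c, rfl⟩ := MulAction.exists_smul_eq G P Q
  intro u hu
  have h1 := h (mem_smul_sylow_iff.1 hu)
  have h2 := (inferInstance : K.Normal).conj_mem _ h1 c
  have h3 : c * (c⁻¹ * u * c) * c⁻¹ = u := by group
  rwa [h3] at h2

/-- If a Sylow `p`-subgroup `Q` normalizes the Sylow `p`-subgroup `P`, then `Q = P`. -/
theorem sylow_eq_of_le_normalizer [Finite G] {p : ℕ} [Fact p.Prime] {P Q : Sylow p G}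
    (h : (Q : Subgroup G) ≤ normalizer ((P : Subgroup G) : Set G)) : Q = P := by
  have h1 := Q.isPGroup'.inf_normalizer_sylow P
  have h2 : (Q : Subgroup G) ⊓ normalizer ((P : Subgroup G) : Set G) = Q := inf_eq_left.2 h
  have h3 : (Q : Subgroup G) ≤ P := by
    have h4 : (Q : Subgroup G) ⊓ (P : Subgroup G) = Q := by
      rw [← h1]; exact h2
    exact inf_eq_left.1 h4
  exact Sylow.ext (Q.is_maximal' P.isPGroup' h3).symm


/-- A nontrivial element of a subgroup of prime order generates it. -/
theorem zpowers_eq_of_mem_of_ne_one [Finite G] {H : Subgroup G} {p : ℕ} (hp : p.Prime) (hH : Nat.card H = p) {u : G}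
    (hu : u ∈ H) (hne : u ≠ 1) : Subgroup.zpowers u = H := by
  have hle : Subgroup.zpowers u ≤ H := by
    rw [Subgroup.zpowers_le]; exact hu
  apply Subgroup.eq_of_le_of_card_ge hle
  rw [hH, Nat.card_zpowers]
  have hd : orderOf u ∣ p := by
    have := Subgroup.orderOf_dvd_natCard H hu
    rwa [hH] at this
  rcases (Nat.dvd_prime hp).1 hd with h5 | h5
  · exact absurd (orderOf_eq_one_iff.1 h5) hne
  · omega

theorem orderOf_eq_of_mem_of_ne_one [Finite G] {H : Subgroup G} {p : ℕ} (hp : p.Prime) (hH : Nat.card H = p) {u : G}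
    (hu : u ∈ H) (hne : u ≠ 1) : orderOf u = p := by
  have h := zpowers_eq_of_mem_of_ne_one hp hH hu hne
  rw [← hH, ← h, Nat.card_zpowers]

/-- A `p`-element lies in a Sylow subgroup. -/
theorem exists_sylow_mem_of_orderOf [Finite G] {p : ℕ} [Fact p.Prime] {g : G} (hg : orderOf g = p) :
    ∃ Q : Sylow p G, g ∈ (Q : Subgroup G) := by
  have hpg : IsPGroup p (Subgroup.zpowers g) := by
    rw [IsPGroup.iff_card, Nat.card_zpowers, hg]
    exact ⟨1, by simp⟩
  obtain ⟨Q, hQ⟩ := hpg.exists_le_sylow
  exact ⟨Q, hQ (Subgroup.mem_zpowers g)⟩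

/-- Distinct Sylow subgroups of prime order intersect trivially. -/
theorem sylow_eq_of_mem_of_ne_one [Finite G] {p : ℕ} [Fact p.Prime] {Q Q' : Sylow p G}
    (hQ : Nat.card (Q : Subgroup G) = p) (hQ' : Nat.card (Q' : Subgroup G) = p) {u : G}
    (hu : u ∈ (Q : Subgroup G)) (hu' : u ∈ (Q' : Subgroup G)) (hne : u ≠ 1) : Q = Q' := by
  have hp : p.Prime := Fact.out
  apply Sylow.ext
  rw [← zpowers_eq_of_mem_of_ne_one hp hQ hu hne, zpowers_eq_of_mem_of_ne_one hp hQ' hu' hne]

/-- Count of elements of prime order when the Sylow subgroups have prime order. -/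
theorem card_orderOf_eq_prime [Finite G] {p : ℕ} [Fact p.Prime] (hP : ∀ P : Sylow p G, Nat.card (P : Subgroup G) = p) :
    Nat.card {g : G // orderOf g = p} = Nat.card (Sylow p G) * (p - 1) := by
  classical
  have hp : p.Prime := Fact.out
  haveI : Fintype (Sylow p G) := Fintype.ofFinite _
  let f : (Σ Q : Sylow p G, {g : (Q : Subgroup G) // g ≠ 1}) → {g : G // orderOf g = p} :=
    fun a => ⟨a.2.1.1, orderOf_eq_of_mem_of_ne_one hp (hP a.1) a.2.1.2 (fun h => a.2.2 (Subtype.ext h))⟩
  have hf : Function.Bijective f := by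
    constructor
    · rintro ⟨Q, ⟨g, hg⟩⟩ ⟨Q', ⟨g', hg'⟩⟩ hff
      have h1 : g.1 = g'.1 := congrArg Subtype.val hff
      have h2 : g.1 ≠ 1 := fun h => hg (Subtype.ext h)
      have h3 : Q = Q' := sylow_eq_of_mem_of_ne_one (hP Q) (hP Q') g.2 (h1 ▸ g'.2) h2
      subst h3
      have h4 : g = g' := Subtype.ext h1
      subst h4
      rfl
    · rintro ⟨g, hg⟩
      obtain ⟨Q, hQ⟩ := exists_sylow_mem_of_orderOf hg
      have hne : g ≠ 1 := by
        rintro rfl
        rw [orderOf_one] at hg
        exact hp.one_lt.ne hg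
      exact ⟨⟨Q, ⟨⟨g, hQ⟩, fun h => hne (congrArg Subtype.val h)⟩⟩, rfl⟩
  rw [← Nat.card_congr (Equiv.ofBijective f hf), Nat.card_sigma]
  have : ∀ Q : Sylow p G, Nat.card {g : (Q : Subgroup G) // g ≠ 1} = p - 1 := by
    intro Q
    haveI : Fintype (Q : Subgroup G) := Fintype.ofFinite _
    have h3 : Fintype.card {x : (Q : Subgroup G) // x ≠ 1} = Fintype.card (Q : Subgroup G) - 1 :=
      Set.card_ne_eq (1 : (Q : Subgroup G))
    rw [Nat.card_eq_fintype_card, h3, ← Nat.card_eq_fintype_card, hP Q]
  simp_rw [this]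
  rw [Finset.sum_const, Finset.card_univ, smul_eq_mul, Nat.card_eq_fintype_card]

end Cfsg.Agent.Lib.SmallGroups2
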