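import Mathlib
import Cfsg.Agent.Lib.SmallGroups2
import Cfsg.Agent.S0985

set_option autoImplicit false

/-!
# More tools for simple groups of small order: sign tests, fixed points, tame intersections
-/

namespace Cfsg.Agent.Lib.SmallGroups3

open Subgroup Cfsg.Agent.Lib.SmallGroups2

variable {G : Type*} [Group G]

theorem smul_eq_iff' {p : ℕ} {P : Sylow p G} {g : G} :
    g • P = P ↔ g ∈ normalizer ((P : Subgroup G) : Set G) :=
  Sylow.smul_eq_iff_mem_normalizer

/-- A `p`-element normalizing a Sylow subgroup lies in it. -/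
theorem mem_of_orderOf_of_mem_normalizer [Finite G] {p : ℕ} [Fact p.Prime] (R : Sylow p G) {y : G}
    (hy : orderOf y = p) (hn : y ∈ normalizer ((R : Subgroup G) : Set G)) : y ∈ (R : Subgroup G) := by
  have hpg : IsPGroup p (zpowers y) := by
    rw [IsPGroup.iff_card, Nat.card_zpowers, hy]
    exact ⟨1, by simp⟩
  have h5 := hpg.inf_normalizer_sylow R
  have h6 : y ∈ zpowers y ⊓ (R : Subgroup G) := by
    rw [← h5]
    exact ⟨mem_zpowers y, hn⟩
  exact h6.2

/-- `y` normalizes `u • R` iff `u⁻¹ y u` normalizes `R`. -/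
theorem conj_mem_normalizer_iff {p : ℕ} (P : Sylow p G) (y g : G) :
    g⁻¹ * y * g ∈ normalizer ((P : Subgroup G) : Set G) ↔
      y ∈ normalizer (((g • P : Sylow p G) : Subgroup G) : Set G) := by
  rw [← smul_eq_iff', ← smul_eq_iff', smul_smul]
  constructor
  · intro h
    have := congrArg (fun Q : Sylow p G => g • Q) h
    simp only [smul_smul] at this
    have h2 : g * (g⁻¹ * y * g) = y * g := by group
    rwa [h2] at this
  · intro h
    have h2 : g⁻¹ * y * g = g⁻¹ * (y * g) := by group
    rw [h2, ← smul_smul, h, smul_smul, inv_mul_cancel, one_smul]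

/-- In a non-abelian simple group every element acts on a finite set by an even permutation. -/
theorem sign_toPermHom_eq_one [IsSimpleGroup G] (hG : ¬ IsMulCommutative G) {X : Type*} [Fintype X] [DecidableEq X]
    [MulAction G X] (g : G) : Equiv.Perm.sign (MulAction.toPermHom G X g) = 1 := by
  let s : G →* ℤˣ := Equiv.Perm.sign.comp (MulAction.toPermHom G X)
  have hs : s.ker = ⊤ := by
    rcases (inferInstance : s.ker.Normal).eq_bot_or_eq_top with h | h
    · exfalso
      apply hG
      exact Cfsg.Agent.Lib.SmallGroups.isMulCommutative_of_injective_units (f := s) ((MonoidHom.ker_eq_bot_iff s).1 h)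
    · exact h
  have : g ∈ s.ker := by rw [hs]; trivial
  exact this

/-- A permutation of order dividing two that is even moves a number of points divisible by four. -/
theorem four_dvd_card_support {X : Type*} [Fintype X] [DecidableEq X] (σ : Equiv.Perm X) (h : σ ^ 2 = 1)
    (hs : Equiv.Perm.sign σ = 1) : 4 ∣ σ.support.card := by
  by_cases h1 : σ = 1
  · subst h1; simp
  have ho : orderOf σ = 2 := orderOf_eq_prime h h1
  obtain ⟨n, hn⟩ := Equiv.Perm.cycleType_prime_order (σ := σ) (by rw [ho]; exact Nat.prime_two)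
  rw [ho] at hn
  have hsum : σ.support.card = (n + 1) * 2 := by
    rw [← Equiv.Perm.sum_cycleType, hn, Multiset.sum_replicate, smul_eq_mul]
  rw [Equiv.Perm.sign_of_cycleType, hn, Multiset.sum_replicate, Multiset.card_replicate, smul_eq_mul] at hs
  rw [hsum]
  -- parity of n + 1
  have heven : Even ((n + 1) * 2 + (n + 1)) := by
    by_contra hodd
    rw [Nat.not_even_iff_odd] at hodd
    rw [hodd.neg_one_pow] at hs
    exact absurd hs (by decide)
  have : (n + 1) % 2 = 0 := by
    rcases heven with ⟨k, hk⟩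
    omega
  omega

theorem card_support_add_card_fixedBy {X : Type*} [Fintype X] [DecidableEq X] [MulAction G X] (t : G) :
    (MulAction.toPermHom G X t).support.card + Nat.card (MulAction.fixedBy X t) = Fintype.card X := by
  classical
  have h1 : Nat.card (MulAction.fixedBy X t) = (Finset.univ.filter (fun x : X => t • x = x)).card := by
    rw [Nat.card_eq_fintype_card, Fintype.card_subtype]
    rfl
  have h2 : (MulAction.toPermHom G X t).support = Finset.univ.filter (fun x : X => ¬ t • x = x) := by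
    ext x
    simp [Equiv.Perm.mem_support]
  rw [h1, h2, add_comm]
  exact Finset.card_filter_add_card_filter_not _

/-- The sign test: an involution of a non-abelian simple group acting on a finite set `X` moves a
number of points divisible by `4`. -/
theorem card_modEq_fixedBy_four [Finite G] [IsSimpleGroup G] (hG : ¬ IsMulCommutative G) {X : Type*} [Finite X]
    [MulAction G X] (t : G) (ht : t ^ 2 = 1) : Nat.card X ≡ Nat.card (MulAction.fixedBy X t) [MOD 4] := by
  classical
  haveI : Fintype X := Fintype.ofFinite X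
  have hsq : (MulAction.toPermHom G X t) ^ 2 = 1 := by
    rw [← map_pow, ht, map_one]
  have h4 := four_dvd_card_support _ hsq (sign_toPermHom_eq_one hG t)
  have h5 := card_support_add_card_fixedBy (G := G) (X := X) t
  rw [Nat.card_eq_fintype_card (α := X), ← h5]
  obtain ⟨k, hk⟩ := h4
  rw [hk]
  unfold Nat.ModEq
  omega

/-- Fixed points of an element of the normalizer not centralizing a Sylow subgroup of prime order
inject into the orbits of that Sylow subgroup. -/
theorem card_fixedBy_sylow_le [Finite G] {p : ℕ} [Fact p.Prime] (P : Sylow p G) (hP : Nat.card (P : Subgroup G) = p)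
    {x : G} (hxN : x ∈ normalizer ((P : Subgroup G) : Set G)) (hxC : x ∉ centralizer ((P : Subgroup G) : Set G)) :
    Nat.card (MulAction.fixedBy (Sylow p G) x) ≤
      Nat.card (MulAction.orbitRel.Quotient ↥(P : Subgroup G) (Sylow p G)) := by
  classical
  have hp : p.Prime := Fact.out
  have hPall : ∀ Q : Sylow p G, Nat.card (Q : Subgroup G) = p := fun Q =>
    (Nat.card_congr (Sylow.equiv Q P).toEquiv).trans hP
  set N := normalizer ((P : Subgroup G) : Set G) with hN
  let f : MulAction.fixedBy (Sylow p G) x → MulAction.orbitRel.Quotient ↥(P : Subgroup G) (Sylow p G) :=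
    fun q => Quotient.mk'' q.1
  apply Nat.card_le_card_of_injective f
  rintro ⟨R₁, hR₁⟩ ⟨R, hR⟩ hff
  apply Subtype.ext
  show R₁ = R
  have hrel : R₁ ∈ MulAction.orbit ↥(P : Subgroup G) R := by
    have : (MulAction.orbitRel ↥(P : Subgroup G) (Sylow p G)) R₁ R := Quotient.exact' hff
    exact MulAction.orbitRel_apply.1 this
  obtain ⟨u, hu⟩ := hrel
  have hu' : (u : G) • R = R₁ := hu
  subst hu'
  by_cases hu1 : (u : G) = 1
  · rw [hu1, one_smul]
  by_cases hRP : R = P
  · subst hRP
    exact smul_eq_iff'.2 (le_normalizer u.2)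
  exfalso
  apply hxC
  have hx2 : x ∈ normalizer ((R : Subgroup G) : Set G) := smul_eq_iff'.1 hR
  have hx1 : x ∈ normalizer ((((u : G) • R : Sylow p G) : Subgroup G) : Set G) := smul_eq_iff'.1 hR₁
  have hcomm : (x⁻¹ * (u : G)⁻¹ * x) * (u : G) = 1 := by
    have hinP : (x⁻¹ * (u : G)⁻¹ * x) * (u : G) ∈ (P : Subgroup G) := by
      refine Subgroup.mul_mem _ ?_ u.2
      have hxinv : x⁻¹ ∈ N := N.inv_mem hxN
      have := (mem_normalizer_iff.1 hxinv (u : G)⁻¹).1 (Subgroup.inv_mem _ u.2)
      simpa using this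
    have hinN : (x⁻¹ * (u : G)⁻¹ * x) * (u : G) ∈ normalizer ((R : Subgroup G) : Set G) := by
      have h2 : x⁻¹ * ((u : G)⁻¹ * x * (u : G)) ∈ normalizer ((R : Subgroup G) : Set G) := by
        refine Subgroup.mul_mem _ (Subgroup.inv_mem _ hx2) ?_
        exact (conj_mem_normalizer_iff R x (u : G)).2 hx1
      have h5 : (x⁻¹ * (u : G)⁻¹ * x) * (u : G) = x⁻¹ * ((u : G)⁻¹ * x * (u : G)) := by group
      rw [h5]; exact h2
    by_contra hne
    have horder : orderOf ((x⁻¹ * (u : G)⁻¹ * x) * (u : G)) = p :=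
      orderOf_eq_of_mem_of_ne_one hp hP hinP hne
    have h6 := mem_of_orderOf_of_mem_normalizer R horder hinN
    exact hRP (sylow_eq_of_mem_of_ne_one (hPall _) hP h6 hinP hne)
  have hxu : x * (u : G) = (u : G) * x := by
    have h8 : x * (u : G) = (u : G) * x * (x⁻¹ * (u : G)⁻¹ * x * (u : G)) := by group
    rw [h8, hcomm, mul_one]
  have hgen := zpowers_eq_of_mem_of_ne_one hp hP u.2 hu1
  rw [mem_centralizer_iff]
  intro h hh
  rw [← hgen] at hh
  obtain ⟨k, rfl⟩ := mem_zpowers_iff.1 hh
  exact ((Commute.zpow_left (show Commute (u : G) x from hxu.symm) k)).eq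

/-- When a Sylow subgroup has prime order `p`, the number of its orbits on the Sylow subgroups is
`1 + (n_p - 1) / p`. -/
theorem card_orbits_sylow [Finite G] {p : ℕ} [Fact p.Prime] (P : Sylow p G) (hP : Nat.card (P : Subgroup G) = p) :
    (Nat.card (MulAction.orbitRel.Quotient ↥(P : Subgroup G) (Sylow p G)) - 1) * p + 1 = Nat.card (Sylow p G) := by
  classical
  have hp : p.Prime := Fact.out
  have hPall : ∀ Q : Sylow p G, Nat.card (Q : Subgroup G) = p := fun Q =>
    (Nat.card_congr (Sylow.equiv Q P).toEquiv).trans hP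
  haveI : Fintype (MulAction.orbitRel.Quotient ↥(P : Subgroup G) (Sylow p G)) := Fintype.ofFinite _
  have e := MulAction.selfEquivSigmaOrbits ↥(P : Subgroup G) (Sylow p G)
  have h1 : Nat.card (Sylow p G) = ∑ ω : MulAction.orbitRel.Quotient ↥(P : Subgroup G) (Sylow p G),
      Nat.card (MulAction.orbit ↥(P : Subgroup G) (Quotient.out ω)) := by
    rw [Nat.card_congr e, Nat.card_sigma]
  let ω₀ : MulAction.orbitRel.Quotient ↥(P : Subgroup G) (Sylow p G) := Quotient.mk'' P
  have hfix : ∀ u : ↥(P : Subgroup G), u • P = P := by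
    intro u
    exact smul_eq_iff'.2 (le_normalizer u.2)
  have hout : Quotient.out ω₀ = P := by
    have h2 : Quotient.out ω₀ ∈ MulAction.orbit ↥(P : Subgroup G) P :=
      MulAction.orbitRel_apply.1 (Quotient.mk_out (s := MulAction.orbitRel ↥(P : Subgroup G) (Sylow p G)) P)
    obtain ⟨g, hg⟩ := h2
    rw [← hg]
    exact hfix g
  have hω₀ : Nat.card (MulAction.orbit ↥(P : Subgroup G) (Quotient.out ω₀)) = 1 := by
    rw [hout]
    have : MulAction.orbit ↥(P : Subgroup G) P = {P} := by
      ext y
      constructor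
      · rintro ⟨g, rfl⟩
        exact hfix g
      · intro hy
        rw [Set.mem_singleton_iff.1 hy]
        exact MulAction.mem_orbit_self _
    rw [this]
    simp
  have hω : ∀ ω ∈ Finset.univ.erase ω₀, Nat.card (MulAction.orbit ↥(P : Subgroup G) (Quotient.out ω)) = p := by
    intro ω hω
    have hne : ω ≠ ω₀ := (Finset.mem_erase.1 hω).1
    have hne2 : Quotient.out ω ≠ P := by
      intro hx
      apply hne
      rw [← Quotient.out_eq' ω, hx]
    set R := Quotient.out ω with hRdef
    have hst : MulAction.stabilizer ↥(P : Subgroup G) R = ⊥ := by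
      rw [eq_bot_iff]
      intro u hu
      rw [Subgroup.mem_bot]
      by_contra hu1
      have hu1' : (u : G) ≠ 1 := fun h => hu1 (Subtype.ext h)
      have hu2 : (u : G) • R = R := hu
      have hu3 := smul_eq_iff'.1 hu2
      have ho := orderOf_eq_of_mem_of_ne_one hp hP u.2 hu1'
      have hu4 := mem_of_orderOf_of_mem_normalizer R ho hu3
      exact hne2 (sylow_eq_of_mem_of_ne_one (hPall _) hP hu4 u.2 hu1')
    have h3 := Subgroup.card_mul_index (MulAction.stabilizer ↥(P : Subgroup G) R)
    rw [MulAction.index_stabilizer, hst, Subgroup.card_bot, one_mul, hP] at h3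
    exact h3
  rw [h1, ← Finset.add_sum_erase _ _ (Finset.mem_univ ω₀), hω₀, Finset.sum_congr rfl hω, Finset.sum_const,
    Finset.card_erase_of_mem (Finset.mem_univ ω₀), Finset.card_univ, smul_eq_mul, Nat.card_eq_fintype_card]
  ring

/-- Combined form: number of fixed points bounded through the count of Sylow subgroups. -/
theorem card_fixedBy_sylow_mul_le [Finite G] {p : ℕ} [Fact p.Prime] (P : Sylow p G) (hP : Nat.card (P : Subgroup G) = p)
    {x : G} (hxN : x ∈ normalizer ((P : Subgroup G) : Set G)) (hxC : x ∉ centralizer ((P : Subgroup G) : Set G)) :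
    (Nat.card (MulAction.fixedBy (Sylow p G) x) - 1) * p + 1 ≤ Nat.card (Sylow p G) := by
  have h1 := card_fixedBy_sylow_le P hP hxN hxC
  have h2 := card_orbits_sylow P hP
  rw [← h2]
  have : (Nat.card (MulAction.fixedBy (Sylow p G) x) - 1) * p ≤
      (Nat.card (MulAction.orbitRel.Quotient ↥(P : Subgroup G) (Sylow p G)) - 1) * p :=
    Nat.mul_le_mul_right p (Nat.sub_le_sub_right h1 1)
  omega

theorem one_le_card_fixedBy_sylow [Finite G] {p : ℕ} (P : Sylow p G)
    {x : G} (hxN : x ∈ normalizer ((P : Subgroup G) : Set G)) :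
    1 ≤ Nat.card (MulAction.fixedBy (Sylow p G) x) := by
  have : Nonempty (MulAction.fixedBy (Sylow p G) x) := ⟨⟨P, smul_eq_iff'.2 hxN⟩⟩
  exact Nat.card_pos

/-- Exclusion test with the sign of an involution normalizing a Sylow subgroup of prime order. -/
theorem sign_test [Finite G] [IsSimpleGroup G] (hG : ¬ IsMulCommutative G) {p : ℕ} [Fact p.Prime] (P : Sylow p G)
    (hP : Nat.card (P : Subgroup G) = p) {t : G} (ht : t ^ 2 = 1)
    (hxN : t ∈ normalizer ((P : Subgroup G) : Set G)) (hxC : t ∉ centralizer ((P : Subgroup G) : Set G)) :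
    ∃ f, f ≤ (Nat.card (Sylow p G) - 1) / p + 1 ∧ 1 ≤ f ∧ Nat.card (Sylow p G) ≡ f [MOD 4] := by
  refine ⟨Nat.card (MulAction.fixedBy (Sylow p G) t), ?_, one_le_card_fixedBy_sylow P hxN,
    card_modEq_fixedBy_four hG t ht⟩
  have hp : p.Prime := Fact.out
  have h1 := card_fixedBy_sylow_mul_le P hP hxN hxC
  have h2 : (Nat.card (MulAction.fixedBy (Sylow p G) t) - 1) * p ≤ Nat.card (Sylow p G) - 1 := by omega
  have h3 : Nat.card (MulAction.fixedBy (Sylow p G) t) - 1 ≤ (Nat.card (Sylow p G) - 1) / p :=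
    (Nat.le_div_iff_mul_le hp.pos).2 h2
  omega

/-- If `|N(P)| = 2 * p` in a simple non-abelian group with `|P| = p`, there is an involution in
`N(P)` not centralizing `P`. -/
theorem exists_involution_of_card_normalizer [Finite G] [IsSimpleGroup G] (hG : ¬ IsMulCommutative G) {p : ℕ} [Fact p.Prime]
    (hp2 : p ≠ 2) (P : Sylow p G) (hP : Nat.card (P : Subgroup G) = p)
    (hN : Nat.card (normalizer ((P : Subgroup G) : Set G)) = 2 * p) :
    ∃ t : G, t ^ 2 = 1 ∧ t ∈ normalizer ((P : Subgroup G) : Set G) ∧ t ∉ centralizer ((P : Subgroup G) : Set G) := by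
  have hp : p.Prime := Fact.out
  haveI : Fact (Nat.Prime 2) := ⟨Nat.prime_two⟩
  obtain ⟨t', ht'⟩ := exists_prime_orderOf_dvd_card' (G := ↥(normalizer ((P : Subgroup G) : Set G))) 2 (by rw [hN]; exact Dvd.intro p rfl)
  have ht : orderOf (t' : G) = 2 := by rw [Subgroup.orderOf_coe]; exact ht'
  refine ⟨t', by rw [← ht]; exact pow_orderOf_eq_one _, t'.2, ?_⟩
  intro htC
  have hpd : p ∣ Nat.card G := by
    rw [← hP]; exact Subgroup.card_subgroup_dvd_card _
  apply not_normalizer_le_centralizer hG hpd P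
  -- the subgroup C(P) ⊓ N(P) has order divisible by 2 and p, so is all of N(P)
  have hcomm : ∀ a ∈ (P : Subgroup G), ∀ b ∈ (P : Subgroup G), a * b = b * a := by
    have hc : IsCyclic (P : Subgroup G) := isCyclic_of_prime_card hP
    intro a ha b hb
    have := hc.isMulCommutative.is_comm.comm (⟨a, ha⟩ : (P : Subgroup G)) ⟨b, hb⟩
    exact congrArg Subtype.val this
  set C := centralizer ((P : Subgroup G) : Set G) ⊓ normalizer ((P : Subgroup G) : Set G) with hC
  have hPC : (P : Subgroup G) ≤ C := by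
    intro a ha
    refine Subgroup.mem_inf.2 ⟨?_, le_normalizer ha⟩
    rw [mem_centralizer_iff]
    intro b hb
    exact hcomm b hb a ha
  have h1 : p ∣ Nat.card C := by
    rw [← hP]; exact Subgroup.card_dvd_of_le hPC
  have h2 : 2 ∣ Nat.card C := by
    have hmem : (t' : G) ∈ C := Subgroup.mem_inf.2 ⟨htC, t'.2⟩
    have := Subgroup.orderOf_dvd_natCard C hmem
    rwa [ht] at this
  have h3 : 2 * p ∣ Nat.card C := Nat.Coprime.mul_dvd_of_dvd_of_dvd
    ((Nat.coprime_primes Nat.prime_two hp).2 (Ne.symm hp2)) h2 h1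
  have hCle : C ≤ normalizer ((P : Subgroup G) : Set G) := inf_le_right
  have hCeq : C = normalizer ((P : Subgroup G) : Set G) := by
    apply Subgroup.eq_of_le_of_card_ge hCle
    rw [hN]
    exact Nat.le_of_dvd Nat.card_pos h3
  intro a ha
  rw [← hCeq] at ha
  exact (Subgroup.mem_inf.1 ha).1

/-- If `M` contains two distinct Sylow subgroups then its index has a restricted form. -/
theorem index_data_of_two_sylow [Finite G] {p a m : ℕ} [Fact p.Prime] (h : Nat.card G = p ^ a * m) (hm : ¬ p ∣ m)
    (M : Subgroup G) (P R : Sylow p G) (hne : P ≠ R) (hP : (P : Subgroup G) ≤ M) (hR : (R : Subgroup G) ≤ M) :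
    ∃ c n', M.index * c = m ∧ n' ∣ c ∧ n' % p = 1 % p ∧ n' ≠ 1 := by
  have hp : p.Prime := Fact.out
  have hpa : Nat.card (P : Subgroup G) = p ^ a := sylow_card_of_card_eq h hm P
  have hd : p ^ a ∣ Nat.card M := by
    rw [← hpa]; exact Subgroup.card_dvd_of_le hP
  obtain ⟨c, hc⟩ := hd
  have h1 := Subgroup.card_mul_index M
  rw [hc, h] at h1
  have hic : M.index * c = m := by
    have : p ^ a * (c * M.index) = p ^ a * m := by rw [← h1]; ring
    have := Nat.eq_of_mul_eq_mul_left (pow_pos hp.pos a) this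
    rw [← this]; ring
  have hpc : ¬ p ∣ c := fun hdvd => hm (hic ▸ Dvd.dvd.mul_left hdvd _)
  refine ⟨c, Nat.card (Sylow p M), hic, card_sylow_dvd hc hpc, card_sylow_mod, ?_⟩
  intro h1'
  have hs : Subsingleton (Sylow p M) := (Nat.card_eq_one_iff_unique.1 h1').1
  have : P.subtype hP = R.subtype hR := Subsingleton.elim _ _
  exact hne (Sylow.subtype_injective this)

/-- Candidates for the index of a subgroup containing two distinct Sylow subgroups, in a non-abelian simple group. -/
def tameCandidates (g p m : ℕ) : Finset ℕ :=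
  (Nat.divisors m).filter (fun i => i ≠ 1 ∧ (2 * g) ∣ i.factorial ∧
    ((Nat.divisors (m / i)).filter (fun n => n % p = 1 % p ∧ n ≠ 1)).Nonempty)

theorem index_mem_tameCandidates [Finite G] [IsSimpleGroup G] (hG : ¬ IsMulCommutative G) {p a m : ℕ} [Fact p.Prime]
    (h : Nat.card G = p ^ a * m) (hm : ¬ p ∣ m) (M : Subgroup G) (hM : M ≠ ⊤)
    (P R : Sylow p G) (hne : P ≠ R) (hP : (P : Subgroup G) ≤ M) (hR : (R : Subgroup G) ≤ M) :
    M.index ∈ tameCandidates (Nat.card G) p m := by
  obtain ⟨c, n', hic, hn', hmod, hn1⟩ := index_data_of_two_sylow h hm M P R hne hP hR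
  have hm0 : m ≠ 0 := by
    rintro rfl
    exact hm (dvd_zero p)
  rw [tameCandidates, Finset.mem_filter, Nat.mem_divisors]
  have hi0 : M.index ≠ 0 := Subgroup.index_ne_zero_of_finite
  refine ⟨⟨⟨c, hic.symm⟩, hm0⟩, fun h1 => hM (Subgroup.index_eq_one.1 h1),
    Cfsg.Agent.Lib.SmallGroups.two_mul_card_dvd_factorial_index hG M hM, ⟨n', ?_⟩⟩
  rw [Finset.mem_filter, Nat.mem_divisors]
  have hdiv : m / M.index = c := by
    rw [← hic]
    exact Nat.mul_div_cancel_left _ (Nat.pos_of_ne_zero hi0)
  rw [hdiv]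
  refine ⟨⟨hn', ?_⟩, hmod, hn1⟩
  rintro rfl
  simp at hic
  exact hm0 hic.symm

/-- Intersections of Sylow subgroups with abelian Sylow: both lie in the normalizer. -/
theorem le_normalizer_inf_of_comm {P R : Subgroup G} (hP : IsMulCommutative P) :
    P ≤ normalizer ((P ⊓ R : Subgroup G) : Set G) := by
  intro x hx
  rw [mem_normalizer_iff]
  intro y
  constructor
  · rintro ⟨hy1, hy2⟩
    have h1 : x * y * x⁻¹ = y := by
      have := hP.is_comm.comm (⟨x, hx⟩ : P) ⟨y, hy1⟩
      have h2 : x * y = y * x := congrArg Subtype.val this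
      rw [h2, mul_assoc, mul_inv_cancel, mul_one]
    rw [h1]
    exact ⟨hy1, hy2⟩
  · rintro ⟨hy1, hy2⟩
    have hy : y ∈ P := by
      have h3 := P.mul_mem (P.mul_mem (P.inv_mem hx) hy1) hx
      have h4 : x⁻¹ * (x * y * x⁻¹) * x = y := by group
      rwa [h4] at h3
    have h1 : x * y * x⁻¹ = y := by
      have := hP.is_comm.comm (⟨x, hx⟩ : P) ⟨y, hy⟩
      have h2 : x * y = y * x := congrArg Subtype.val this
      rw [h2, mul_assoc, mul_inv_cancel, mul_one]
    rw [h1] at hy2
    exact ⟨hy, hy2⟩

/-- Test for orders `p^2 * m`: a group of such an order where the number of Sylow subgroups is not `1` mod `p^2`. -/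
theorem sylow_square_test [Finite G] [IsSimpleGroup G] (hG : ¬ IsMulCommutative G) {p m : ℕ} [Fact p.Prime]
    (h : Nat.card G = p ^ 2 * m) (hm : ¬ p ∣ m) (hn : ¬ Nat.card (Sylow p G) ≡ 1 [MOD p ^ 2]) :
    (tameCandidates (Nat.card G) p m).Nonempty := by
  have hp : p.Prime := Fact.out
  obtain ⟨P, R, hne, hidx⟩ := Cfsg.Agent.S0985.result p 2 hn
  have hcP : Nat.card (P : Subgroup G) = p ^ 2 := sylow_card_of_card_eq h hm P
  have hcR : Nat.card (R : Subgroup G) = p ^ 2 := sylow_card_of_card_eq h hm R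
  have hPc : IsMulCommutative (P : Subgroup G) := by
    haveI : Fact p.Prime := ⟨hp⟩
    letI := IsPGroup.commGroupOfCardEqPrimeSq hcP
    exact ⟨⟨mul_comm⟩⟩
  have hRc : IsMulCommutative (R : Subgroup G) := by
    haveI : Fact p.Prime := ⟨hp⟩
    letI := IsPGroup.commGroupOfCardEqPrimeSq hcR
    exact ⟨⟨mul_comm⟩⟩
  set D := (P : Subgroup G) ⊓ (R : Subgroup G) with hD
  have hPle : (P : Subgroup G) ≤ normalizer ((D : Subgroup G) : Set G) := le_normalizer_inf_of_comm hPc
  have hRle : (R : Subgroup G) ≤ normalizer ((D : Subgroup G) : Set G) := by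
    have : D = (R : Subgroup G) ⊓ (P : Subgroup G) := inf_comm _ _
    rw [this]
    exact le_normalizer_inf_of_comm hRc
  -- D is nontrivial
  have hDne : D ≠ ⊥ := by
    intro hb
    have hs : (R : Subgroup G).subgroupOf (P : Subgroup G) = ⊥ := by
      rw [Subgroup.subgroupOf_eq_bot, disjoint_iff]
      rw [inf_comm]; exact hb
    rw [hs, Subgroup.index_bot, hcP] at hidx
    have hpp : p ≤ p ^ 2 := Nat.le_self_pow (by norm_num) p
    have : p ^ (2 - 1) = p := by norm_num
    rw [this] at hidx
    have hpos : p * p ≤ p := by nlinarith [hp.two_le]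
    nlinarith [hp.two_le]
  have hpd : p ∣ Nat.card G := by
    rw [h]; exact Dvd.dvd.mul_right (dvd_pow_self p (by norm_num)) m
  have hM : normalizer ((D : Subgroup G) : Set G) ≠ ⊤ := by
    intro htop
    have hnorm : D.Normal := normalizer_eq_top_iff.1 htop
    rcases hnorm.eq_bot_or_eq_top with hb | ht
    · exact hDne hb
    · apply sylow_not_normal hG hpd P
      have : (P : Subgroup G) = ⊤ := by
        rw [eq_top_iff, ← ht]
        exact inf_le_left
      rw [this]
      exact Subgroup.normal_top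
  exact ⟨_, index_mem_tameCandidates hG h hm _ hM P R hne hPle hRle⟩

end Cfsg.Agent.Lib.SmallGroups3
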