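import Mathlib
import Cfsg.Agent.Lib.SmallGroups3

set_option autoImplicit false

/-!
# Conjugacy class sizes
-/

namespace Cfsg.Agent.Lib.SmallGroups4

open Subgroup Cfsg.Agent.Lib.SmallGroups2 Cfsg.Agent.Lib.SmallGroups3

variable {G : Type*} [Group G]

/-- Orbit-stabilizer for conjugacy classes. -/
theorem card_isConj_mul_card_centralizer [Finite G] (g : G) :
    Nat.card {x : G // IsConj g x} * Nat.card (centralizer ({g} : Set G)) = Nat.card G := by
  classical
  have h1 := Subgroup.card_mul_index (MulAction.stabilizer (ConjAct G) g)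
  have h2 : Nat.card (MulAction.stabilizer (ConjAct G) g) = Nat.card (centralizer ({g} : Set G)) := by
    refine Nat.card_congr ⟨fun x => ⟨ConjAct.ofConjAct x.1, ?_⟩, fun x => ⟨ConjAct.toConjAct x.1, ?_⟩, ?_, ?_⟩
    · rw [mem_centralizer_singleton_iff]
      have h3 : x.1 • g = g := x.2
      rw [ConjAct.smul_def] at h3
      have h4 : ConjAct.ofConjAct x.1 * g * (ConjAct.ofConjAct x.1)⁻¹ * ConjAct.ofConjAct x.1 = g * ConjAct.ofConjAct x.1 := by
        rw [h3]
      rw [← h4]
      group
    · rw [MulAction.mem_stabilizer_iff, ConjAct.smul_def]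
      have h3 := mem_centralizer_singleton_iff.1 x.2
      simp only [ConjAct.ofConjAct_toConjAct]
      rw [h3]
      group
    · intro x; rfl
    · intro x; rfl
  have h3 : (MulAction.stabilizer (ConjAct G) g).index = Nat.card {x : G // IsConj g x} := by
    rw [MulAction.index_stabilizer]
    have : MulAction.orbit (ConjAct G) g = {x : G | IsConj g x} := by
      ext x
      rw [MulAction.mem_orbit_iff, Set.mem_ofPred_eq, isConj_iff]
      constructor
      · rintro ⟨c, rfl⟩
        exact ⟨ConjAct.ofConjAct c, by rw [ConjAct.smul_def]⟩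
      · rintro ⟨c, rfl⟩
        exact ⟨ConjAct.toConjAct c, by rw [ConjAct.smul_def]; simp⟩
    rw [this]
    rfl
  rw [h2, h3] at h1
  rw [mul_comm, h1]
  exact Nat.card_congr ConjAct.toConjAct.toEquiv.symm

/-- The centralizers of conjugate elements have the same order. -/
theorem card_centralizer_conj [Finite G] (y c : G) :
    Nat.card (centralizer ({c * y * c⁻¹} : Set G)) = Nat.card (centralizer ({y} : Set G)) := by
  refine Nat.card_congr ⟨fun x => ⟨c⁻¹ * x.1 * c, ?_⟩, fun x => ⟨c * x.1 * c⁻¹, ?_⟩, ?_, ?_⟩
  · rw [mem_centralizer_singleton_iff]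
    have h := mem_centralizer_singleton_iff.1 x.2
    have : c⁻¹ * x.1 * c * y * (c⁻¹ * x.1 * c)⁻¹ = c⁻¹ * (x.1 * (c * y * c⁻¹) * (x.1)⁻¹) * c := by group
    have h2 : x.1 * (c * y * c⁻¹) * (x.1)⁻¹ = c * y * c⁻¹ := by rw [h]; group
    have h3 : c⁻¹ * x.1 * c * y = (c⁻¹ * x.1 * c * y * (c⁻¹ * x.1 * c)⁻¹) * (c⁻¹ * x.1 * c) := by group
    rw [h3, this, h2]
    group
  · rw [mem_centralizer_singleton_iff]
    have h := mem_centralizer_singleton_iff.1 x.2
    have h3 : c * x.1 * c⁻¹ * (c * y * c⁻¹) = c * (x.1 * y) * c⁻¹ := by group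
    rw [h3, h]
    group
  · intro x
    apply Subtype.ext
    simp only
    group
  · intro x
    apply Subtype.ext
    simp only
    group

theorem card_isConj_conj (y c : G) :
    Nat.card {x : G // IsConj (c * y * c⁻¹) x} = Nat.card {x : G // IsConj y x} := by
  refine Nat.card_congr (Equiv.subtypeEquivRight fun x => ?_)
  have : IsConj y (c * y * c⁻¹) := isConj_iff.2 ⟨c, rfl⟩
  constructor
  · intro h; exact this.trans h
  · intro h; exact this.symm.trans h


/-- Element counts by order add up to at most the group order. -/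
theorem sum_card_orderOf_le [Finite G] (s : Finset ℕ) :
    ∑ a ∈ s, Nat.card {g : G // orderOf g = a} ≤ Nat.card G := by
  classical
  haveI : Fintype G := Fintype.ofFinite G
  have h1 : ∀ a ∈ s, Nat.card {g : G // orderOf g = a} = (Finset.univ.filter (fun g : G => orderOf g = a)).card := by
    intro a _
    rw [Nat.card_eq_fintype_card, Fintype.card_subtype]
  rw [Finset.sum_congr rfl h1, Nat.card_eq_fintype_card, ← Finset.card_univ]
  calc ∑ a ∈ s, (Finset.univ.filter (fun g : G => orderOf g = a)).card
      = (s.biUnion (fun a => Finset.univ.filter (fun g : G => orderOf g = a))).card := by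
        rw [Finset.card_biUnion]
        intro a _ b _ hab
        rw [Function.onFun, Finset.disjoint_filter]
        intro g _ h1 h2
        exact hab (h1.symm.trans h2)
    _ ≤ _ := Finset.card_le_card (Finset.subset_univ _)

theorem card_orderOf_one [Finite G] : Nat.card {g : G // orderOf g = 1} = 1 := by
  have : Unique {g : G // orderOf g = 1} :=
    { default := ⟨1, orderOf_one⟩
      uniq := fun a => Subtype.ext (orderOf_eq_one_iff.1 a.2) }
  exact Nat.card_unique

/-- An element of order coprime to `q - 1` centralizes a normal subgroup of prime order `q`. -/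
theorem mem_centralizer_of_normal_prime_card [Finite G] {q : ℕ} (hq : q.Prime) (Q : Subgroup G) [hn : Q.Normal]
    (hQ : Nat.card Q = q) {x : G} (hx : (orderOf x).Coprime (q - 1)) :
    x ∈ centralizer (Q : Set G) := by
  have hc : IsCyclic Q := isCyclic_of_prime_card (p := q) (hp := ⟨hq⟩) hQ
  have h1 := relIndex_centralizer_normalizer_dvd Q
  rw [IsCyclic.card_mulAut, hQ, Nat.totient_prime hq, normalizer_eq_top, relIndex_top_right] at h1
  have h2 : x ^ (centralizer (Q : Set G)).index ∈ centralizer (Q : Set G) := Subgroup.pow_index_mem _ x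
  have hco : (orderOf x).Coprime (centralizer (Q : Set G)).index := Nat.Coprime.coprime_dvd_right h1 hx
  -- x is a power of x ^ index
  by_cases ho : orderOf x = 1
  · rw [orderOf_eq_one_iff.1 ho]; exact Subgroup.one_mem _
  have ho1 : 1 < orderOf x := by
    have := orderOf_pos x
    omega
  obtain ⟨m, -, hm⟩ := Nat.exists_mul_mod_eq_one_of_coprime hco.symm ho1
  have h4 : x = (x ^ (centralizer (Q : Set G)).index) ^ m := by
    rw [← pow_mul]
    rw [← pow_mod_orderOf x, hm, pow_one]
  rw [h4]
  exact Subgroup.pow_mem _ h2 _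

end Cfsg.Agent.Lib.SmallGroups4
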