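import Mathlib
import Cfsg.Agent.Lib.SmallGroups4

set_option autoImplicit false

/-!
# Fixed point congruence for an element of prime order acting on a subgroup by conjugation
-/

namespace Cfsg.Agent.Lib.SmallGroups5

open Subgroup Cfsg.Agent.Lib.SmallGroups2 Cfsg.Agent.Lib.SmallGroups3 Cfsg.Agent.Lib.SmallGroups4

variable {G : Type*} [Group G]

/-- An element of prime order `t` acting on a subgroup: the order is congruent modulo `t` to the number
of fixed points. -/
theorem card_modEq_card_inf_centralizer [Finite G] {t : ℕ} [Fact t.Prime] (P : Subgroup G) {x : G}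
    (hxN : x ∈ normalizer (P : Set G)) (ho : orderOf x = t) :
    Nat.card P ≡ Nat.card ↥(P ⊓ centralizer ({x} : Set G)) [MOD t] := by
  classical
  haveI : Fintype P := Fintype.ofFinite P
  let f : Function.End ↥P := fun u => ⟨x * u.1 * x⁻¹, (mem_normalizer_iff.1 hxN u.1).1 u.2⟩
  have hpow : ∀ n : ℕ, ∀ u : ↥P, ((f ^ n) u).1 = x ^ n * u.1 * (x ^ n)⁻¹ := by
    intro n
    induction n with
    | zero =>
      intro u
      have : (f ^ 0) u = u := rfl
      rw [this]
      simp
    | succ n ih =>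
      intro u
      rw [pow_succ']
      show (f ((f ^ n) u)).1 = _
      show x * ((f ^ n) u).1 * x⁻¹ = _
      rw [ih u]
      group
  have hf : f ^ (t ^ 1) = 1 := by
    funext u
    apply Subtype.ext
    rw [pow_one, hpow t u, ← ho, pow_orderOf_eq_one]
    simp
    rfl
  have h := Equiv.Perm.card_fixedPoints_modEq hf
  rw [Nat.card_eq_fintype_card]
  refine h.trans ?_
  rw [← Nat.card_eq_fintype_card]
  have : Nat.card (Function.fixedPoints f) = Nat.card ↥(P ⊓ centralizer ({x} : Set G)) := by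
    refine Nat.card_congr ⟨fun u => ⟨u.1.1, ?_⟩, fun u => ⟨⟨u.1, (mem_inf.1 u.2).1⟩, ?_⟩, ?_, ?_⟩
    · refine mem_inf.2 ⟨u.1.2, ?_⟩
      rw [mem_centralizer_singleton_iff]
      have h1 : x * u.1.1 * x⁻¹ = u.1.1 := congrArg Subtype.val u.2
      have h2 : x * u.1.1 = u.1.1 * x := by
        calc x * u.1.1 = (x * u.1.1 * x⁻¹) * x := by group
          _ = u.1.1 * x := by rw [h1]
      exact h2.symm
    · apply Subtype.ext
      have h3 := mem_centralizer_singleton_iff.1 (mem_inf.1 u.2).2
      show x * u.1 * x⁻¹ = u.1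
      rw [← h3]
      group
    · intro u; rfl
    · intro u; rfl
  rw [this]

/-- An automorphism of prime order `t > p` of a group of order `p ^ 2` in the normalizer that does not centralize
forces `t = p + 1`. -/
theorem eq_succ_of_acts_on_sq [Finite G] {p t : ℕ} [Fact t.Prime] (hp : p.Prime) (P : Subgroup G)
    (hP : Nat.card P = p ^ 2) {x : G} (hxN : x ∈ normalizer (P : Set G)) (hxC : x ∉ centralizer (P : Set G))
    (ho : orderOf x = t) (hpt : p < t) : t = p + 1 := by
  have ht : t.Prime := Fact.out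
  have h1 := card_modEq_card_inf_centralizer P hxN ho
  rw [hP] at h1
  have hdvd : Nat.card ↥(P ⊓ centralizer ({x} : Set G)) ∣ p ^ 2 := by
    rw [← hP]
    exact Subgroup.card_dvd_of_le inf_le_left
  obtain ⟨i, hi, hc⟩ := (Nat.dvd_prime_pow hp).1 hdvd
  rw [hc] at h1
  have hp2 := hp.two_le
  have hi2 : i = 0 ∨ i = 1 ∨ i = 2 := by omega
  rcases hi2 with rfl | rfl | rfl
  · -- t divides p^2 - 1
    have h2 : t ∣ p ^ 2 - p ^ 0 := (Nat.modEq_iff_dvd' (by rw [pow_zero]; exact Nat.one_le_pow _ _ hp.pos)).1 h1.symm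
    rw [pow_zero] at h2
    have h3 : p ^ 2 - 1 = (p - 1) * (p + 1) := by
      obtain ⟨k, rfl⟩ : ∃ k, p = k + 1 := ⟨p - 1, by omega⟩
      simp
      ring_nf
      omega
    rw [h3] at h2
    rcases (Nat.Prime.dvd_mul ht).1 h2 with h4 | h4
    · have := Nat.le_of_dvd (by omega) h4
      omega
    · have := Nat.le_of_dvd (by omega) h4
      omega
  · -- t divides p^2 - p
    have h2 : t ∣ p ^ 2 - p ^ 1 := (Nat.modEq_iff_dvd' (Nat.pow_le_pow_right hp.pos (by norm_num))).1 h1.symm
    have h3 : p ^ 2 - p ^ 1 = p * (p - 1) := by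
      obtain ⟨k, rfl⟩ : ∃ k, p = k + 1 := ⟨p - 1, by omega⟩
      simp
      ring_nf
      omega
    rw [h3] at h2
    rcases (Nat.Prime.dvd_mul ht).1 h2 with h4 | h4
    · have := Nat.le_of_dvd (by omega) h4
      omega
    · have := Nat.le_of_dvd (by omega) h4
      omega
  · exfalso
    apply hxC
    have h5 : ↥(P ⊓ centralizer ({x} : Set G)) = ↥(P ⊓ centralizer ({x} : Set G)) := rfl
    have h6 : P ⊓ centralizer ({x} : Set G) = P := by
      apply Subgroup.eq_of_le_of_card_ge inf_le_left
      rw [hP, hc]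
    rw [mem_centralizer_iff]
    intro h hh
    rw [← h6] at hh
    exact mem_centralizer_singleton_iff.1 (mem_inf.1 hh).2

end Cfsg.Agent.Lib.SmallGroups5
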