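import Mathlib
import Cfsg.Agent.Lib.SmallGroups
import Cfsg.Agent.Lib.SmallGroups2
import Cfsg.Agent.Lib.SmallGroups3
import Cfsg.Agent.Lib.SmallGroups4
import Cfsg.Agent.Lib.SmallGroups5
import Cfsg.Agent.Lib.DihedralIso

set_option autoImplicit false

namespace Cfsg.Agent.Lib.Small168

open Subgroup
open Cfsg.Agent.Lib.SmallGroups Cfsg.Agent.Lib.SmallGroups2 Cfsg.Agent.Lib.SmallGroups3
open Cfsg.Agent.Lib.SmallGroups4 Cfsg.Agent.Lib.SmallGroups5

variable {G : Type*} [Group G] [Finite G]

/-! ### General lemmas -/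

/-- If `|P| = p`, `|N(P)| = p k` with `k` prime, in a nonabelian simple group, then `C(P) = P`. -/
theorem centralizer_sylow_eq [IsSimpleGroup G] (hG : ¬ IsMulCommutative G) {p k : ℕ} [Fact p.Prime] (hk : k.Prime)
    (P : Sylow p G) (hP : Nat.card (P : Subgroup G) = p)
    (hN : Nat.card (normalizer ((P : Subgroup G) : Set G)) = p * k) :
    centralizer ((P : Subgroup G) : Set G) = P := by
  have hp : p.Prime := Fact.out
  have hCN : centralizer ((P : Subgroup G) : Set G) ≤ normalizer ((P : Subgroup G) : Set G) :=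
    Subgroup.centralizer_le_normalizer _
  have hcomm : IsMulCommutative (P : Subgroup G) := by
    have : Fact (Nat.card (P : Subgroup G)).Prime := ⟨by rw [hP]; exact hp⟩
    have : IsCyclic (P : Subgroup G) := isCyclic_of_prime_card rfl
    exact ⟨⟨fun a b => by
      have := IsCyclic.commGroup (α := (P : Subgroup G))
      exact mul_comm' a b⟩⟩
  have hPC : (P : Subgroup G) ≤ centralizer ((P : Subgroup G) : Set G) := by
    intro u hu
    rw [mem_centralizer_iff]
    intro v hv
    have := hcomm.is_comm.comm ⟨v, hv⟩ ⟨u, hu⟩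
    exact congrArg Subtype.val this
  have h1 : Nat.card (P : Subgroup G) ∣ Nat.card (centralizer ((P : Subgroup G) : Set G)) :=
    Subgroup.card_dvd_of_le hPC
  have h2 : Nat.card (centralizer ((P : Subgroup G) : Set G)) ∣ Nat.card (normalizer ((P : Subgroup G) : Set G)) :=
    Subgroup.card_dvd_of_le hCN
  rw [hP] at h1
  rw [hN] at h2
  obtain ⟨d, hd⟩ := h1
  rw [hd] at h2
  have hdk : d ∣ k := Nat.dvd_of_mul_dvd_mul_left hp.pos h2
  rcases (Nat.dvd_prime hk).1 hdk with rfl | rfl
  · symm
    apply Subgroup.eq_of_le_of_card_ge hPC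
    rw [hd, hP, mul_one]
  · exfalso
    apply not_normalizer_le_centralizer hG (p := p) ?_ P
    · have : centralizer ((P : Subgroup G) : Set G) = normalizer ((P : Subgroup G) : Set G) :=
        Subgroup.eq_of_le_of_card_ge hCN (by rw [hd, hN])
      rw [this]
    · have : Nat.card (P : Subgroup G) ∣ Nat.card G := Subgroup.card_subgroup_dvd_card _
      rwa [hP] at this

/-- An element of prime order `p` generating a self-centralizing subgroup. -/
theorem centralizer_singleton_eq {p : ℕ} [Fact p.Prime]
    (hP : ∀ P : Sylow p G, Nat.card (P : Subgroup G) = p)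
    (hC : ∀ P : Sylow p G, centralizer ((P : Subgroup G) : Set G) = P) {x : G} (hx : orderOf x = p) :
    centralizer ({x} : Set G) = zpowers x := by
  have hp : p.Prime := Fact.out
  obtain ⟨Q, hQ⟩ := exists_sylow_mem_of_orderOf hx
  have hne : x ≠ 1 := by
    intro h1; rw [h1, orderOf_one] at hx; exact hp.one_lt.ne hx
  have hz : zpowers x = (Q : Subgroup G) := zpowers_eq_of_mem_of_ne_one hp (hP Q) hQ hne
  rw [hz, ← hC Q]
  ext y
  rw [mem_centralizer_singleton_iff, mem_centralizer_iff]
  constructor
  · intro hy v hv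
    have hv' : v ∈ zpowers x := by rw [hz]; exact hv
    obtain ⟨k, rfl⟩ := Subgroup.mem_zpowers_iff.1 hv'
    have hc : Commute y x := hy
    exact (hc.zpow_right k).symm.eq
  · intro hy
    exact (hy x hQ).symm

/-- Elements acting trivially on Sylow subgroups are trivial, in a nonabelian simple group. -/
theorem eq_one_of_forall_smul_sylow [IsSimpleGroup G] (hG : ¬ IsMulCommutative G) {p : ℕ} [Fact p.Prime]
    (hp : p ∣ Nat.card G) {y : G} (hy : ∀ Q : Sylow p G, y • Q = Q) : y = 1 := by
  let φ : G →* Equiv.Perm (Sylow p G) := MulAction.toPermHom G (Sylow p G)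
  have hyk : y ∈ φ.ker := by
    rw [MonoidHom.mem_ker]
    ext1 Q
    exact hy Q
  rcases (inferInstance : φ.ker.Normal).eq_bot_or_eq_top with h | h
  · rw [h] at hyk
    exact hyk
  · exfalso
    obtain ⟨P⟩ := (inferInstance : Nonempty (Sylow p G))
    apply normalizer_sylow_ne_top hG hp P
    rw [eq_top_iff]
    intro g _
    have : g ∈ φ.ker := by rw [h]; trivial
    have h2 : φ g = 1 := this
    have h3 : g • P = P := congrArg (fun e : Equiv.Perm (Sylow p G) => e P) h2
    exact Sylow.smul_eq_iff_mem_normalizer.1 h3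

/-- If `y` centralizes `P`, a Sylow subgroup, the number of Sylow subgroups fixed by `y` is `1` mod `p`. -/
theorem card_fixedBy_modEq_one {p : ℕ} [Fact p.Prime] (P : Sylow p G) {y : G}
    (hy : y ∈ centralizer ((P : Subgroup G) : Set G)) :
    Nat.card (MulAction.fixedBy (Sylow p G) y) ≡ 1 [MOD p] := by
  classical
  have hyN : y ∈ normalizer ((P : Subgroup G) : Set G) := Subgroup.centralizer_le_normalizer _ hy
  let A : SubMulAction ↥(P : Subgroup G) (Sylow p G) :=
    { carrier := MulAction.fixedBy (Sylow p G) y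
      smul_mem' := by
        intro c Q hQ
        have hQ' : y • Q = Q := hQ
        change y • (c • Q) = c • Q
        have hcy : y * (c : G) = (c : G) * y := ((mem_centralizer_iff.1 hy) c c.2).symm
        have hcc : c • Q = (c : G) • Q := rfl
        rw [hcc, smul_smul, hcy, ← smul_smul, hQ'] }
  have hpg : IsPGroup p ↥(P : Subgroup G) := P.isPGroup'
  have h1 := hpg.card_modEq_card_fixedPoints (α := A)
  have h2 : Nat.card (MulAction.fixedPoints ↥(P : Subgroup G) A) = 1 := by
    rw [Nat.card_eq_one_iff_unique]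
    refine ⟨⟨?_⟩, ⟨⟨⟨P, ?_⟩, ?_⟩⟩⟩
    · rintro ⟨⟨Q, hQ⟩, hQf⟩ ⟨⟨R, hR⟩, hRf⟩
      have key : ∀ S : A, S ∈ MulAction.fixedPoints ↥(P : Subgroup G) A → (S : Sylow p G) = P := by
        intro S hS
        symm
        apply sylow_eq_of_le_normalizer
        intro u hu
        have := hS ⟨u, hu⟩
        have h3 : (⟨u, hu⟩ : ↥(P : Subgroup G)) • (S : Sylow p G) = S := congrArg Subtype.val this
        exact Sylow.smul_eq_iff_mem_normalizer.1 h3
      have hQP := key ⟨Q, hQ⟩ hQf
      have hRP := key ⟨R, hR⟩ hRf
      apply Subtype.ext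
      apply Subtype.ext
      exact hQP.trans hRP.symm
    · exact Sylow.smul_eq_iff_mem_normalizer.2 hyN
    · intro u
      apply Subtype.ext
      exact Sylow.smul_eq_iff_mem_normalizer.2 (Subgroup.le_normalizer u.2)
  rw [h2] at h1
  exact h1


omit [Finite G] in
theorem card_mul_relIndex {H K : Subgroup G} (hHK : H ≤ K) : Nat.card H * H.relIndex K = Nat.card K := by
  have := Subgroup.card_mul_index (H.subgroupOf K)
  rwa [Nat.card_congr (subgroupOfEquivOfLe hHK).toEquiv] at this

omit [Finite G] in
/-- A subgroup of index two is normalized. -/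
theorem le_normalizer_of_two_mul {K H : Subgroup G} (hle : K ≤ H) (hc : Nat.card H = 2 * Nat.card K)
    (hK : Nat.card K ≠ 0) : H ≤ normalizer (K : Set G) := by
  have h1 := card_mul_relIndex hle
  have h2 : K.relIndex H = 2 := by
    rw [hc, mul_comm] at h1
    exact Nat.eq_of_mul_eq_mul_right (Nat.pos_of_ne_zero hK) h1
  have h3 : (K.subgroupOf H).index = 2 := h2
  have h4 : (K.subgroupOf H).Normal := Subgroup.normal_of_index_eq_two h3
  exact (Subgroup.normal_subgroupOf_iff_le_normalizer hle).1 h4

omit [Finite G] in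
/-- In a cyclic group of order four normalized by `w`, conjugation by `w` fixes the square. -/
theorem conj_sq_of_normalizes {c w : G} (ho : orderOf c = 4) (hw : w ∈ normalizer ((zpowers c : Subgroup G) : Set G)) :
    w * c ^ 2 * w⁻¹ = c ^ 2 := by
  have hmem : w * c * w⁻¹ ∈ zpowers c := (mem_normalizer_iff.1 hw c).1 (Subgroup.mem_zpowers c)
  obtain ⟨k, hk⟩ := Subgroup.mem_zpowers_iff.1 hmem
  have hc4 : c ^ 4 = 1 := by rw [← ho]; exact pow_orderOf_eq_one c
  have hsq : w * c ^ 2 * w⁻¹ = (c ^ k) ^ 2 := by rw [hk, conj_pow]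
  rw [hsq]
  have hc2 : c ^ 2 ≠ 1 := by
    intro h2
    have := orderOf_le_of_pow_eq_one (by norm_num) h2
    omega
  have h4 : c ^ (4 : ℤ) = 1 := by exact_mod_cast hc4
  rcases Int.even_or_odd' k with ⟨j, rfl | rfl⟩
  · exfalso
    apply hc2
    have h1 : (c ^ ((2 : ℤ) * j)) ^ 2 = 1 := by
      have : (c ^ ((2 : ℤ) * j)) ^ 2 = (c ^ (4 : ℤ)) ^ j := by group
      rw [this, h4, one_zpow]
    rw [h1] at hsq
    have h6 : c ^ 2 = w⁻¹ * (w * c ^ 2 * w⁻¹) * w := by group
    rw [h6, hsq]
    group
  · have h1 : (c ^ ((2 : ℤ) * j + 1)) ^ 2 = (c ^ (4 : ℤ)) ^ j * c ^ 2 := by group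
    rw [h1, h4, one_zpow, one_mul]

omit [Finite G] in
theorem orderOf_eq_of_isConj {x y : G} (hc : IsConj x y) : orderOf x = orderOf y := by
  obtain ⟨c, rfl⟩ := isConj_iff.1 hc
  exact (orderOf_injective (MulAut.conj c).toMonoidHom (MulAut.conj c).injective x).symm

/-! ### Simple groups of order 168 -/

section S168

instance fact7 : Fact (Nat.Prime 7) := ⟨by norm_num⟩

variable [IsSimpleGroup G] (h : Nat.card G = 168)
include h

theorem nonab : ¬ IsMulCommutative G := not_isMulCommutative_of_not_prime (by rw [h]; norm_num)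

theorem card_sylow7 : Nat.card (Sylow 7 G) = 8 := by
  have hm := card_sylow_mem_candidates (nonab h) (p := 7) (m := 24) (by rw [h]) (by norm_num)
  have hc : sylowCandidates 7 24 = {8} := by decide +kernel
  rw [hc] at hm
  simpa using hm

theorem card_P7 (P : Sylow 7 G) : Nat.card (P : Subgroup G) = 7 := by
  rw [sylow_card_of_card_eq (a := 1) (m := 24) (by rw [h]; norm_num) (by norm_num) P]; norm_num

theorem card_N7 (P : Sylow 7 G) : Nat.card (normalizer ((P : Subgroup G) : Set G)) = 21 := by
  have hN := card_normalizer_mul_card_sylow P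
  rw [card_sylow7 h, h] at hN
  omega

theorem cent7 (P : Sylow 7 G) : centralizer ((P : Subgroup G) : Set G) = P :=
  centralizer_sylow_eq (nonab h) (k := 3) (by norm_num) P (card_P7 h P) (by rw [card_N7 h P])

theorem centralizer_of_order7 {x : G} (hx : orderOf x = 7) : centralizer ({x} : Set G) = zpowers x :=
  centralizer_singleton_eq (card_P7 h) (cent7 h) hx

theorem card_P3 (P : Sylow 3 G) : Nat.card (P : Subgroup G) = 3 := by
  rw [sylow_card_of_card_eq (a := 1) (m := 56) (by rw [h]; norm_num) (by norm_num) P]; norm_num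

theorem card_sylow3 : Nat.card (Sylow 3 G) = 28 := by
  have hG := nonab h
  have hm := card_sylow_mem_candidates hG (p := 3) (m := 56) (by rw [h]) (by norm_num)
  have hc : sylowCandidates 3 56 = {4, 7, 28} := by decide +kernel
  rw [hc] at hm
  simp only [Finset.mem_insert, Finset.mem_singleton] at hm
  have hpd : 3 ∣ Nat.card G := by rw [h]; norm_num
  have hemb := two_mul_card_dvd_factorial_card_sylow hG hpd
  rcases hm with h4 | h7 | h28
  · rw [h4, h] at hemb; exact absurd hemb (by decide)
  · exfalso
    obtain ⟨P⟩ : Nonempty (Sylow 3 G) := inferInstance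
    have hN := card_normalizer_mul_card_sylow P
    rw [h7, h] at hN
    have hrel := relIndex_dvd_of_prime_card P (card_P3 h P)
    have hcm := card_mul_relIndex (Subgroup.centralizer_le_normalizer ((P : Subgroup G) : Set G))
    have h2C : 2 ∣ Nat.card (centralizer ((P : Subgroup G) : Set G)) := by
      have hi : (centralizer ((P : Subgroup G) : Set G)).relIndex (normalizer ((P : Subgroup G) : Set G)) = 1 ∨
          (centralizer ((P : Subgroup G) : Set G)).relIndex (normalizer ((P : Subgroup G) : Set G)) = 2 :=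
        (Nat.dvd_prime Nat.prime_two).1 hrel
      rcases hi with hi | hi <;> rw [hi] at hcm <;> omega
    obtain ⟨y, hy⟩ := exists_prime_orderOf_dvd_card' (G := ↥(centralizer ((P : Subgroup G) : Set G))) 2 h2C
    have hy' : orderOf (y : G) = 2 := by rw [Subgroup.orderOf_coe]; exact hy
    have hsq : (y : G) ^ 2 = 1 := by rw [← hy']; exact pow_orderOf_eq_one _
    have h1 := card_fixedBy_modEq_one P y.2
    have h2 := card_modEq_fixedBy_four hG (X := Sylow 3 G) (y : G) hsq
    rw [h7] at h2
    have h3 : Nat.card (MulAction.fixedBy (Sylow 3 G) (y : G)) ≤ 7 := by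
      rw [← h7]
      exact Finite.card_subtype_le _
    have h4 : Nat.card (MulAction.fixedBy (Sylow 3 G) (y : G)) = 7 := by
      unfold Nat.ModEq at h1 h2
      omega
    have hall : ∀ Q : Sylow 3 G, (y : G) • Q = Q := by
      have : (MulAction.fixedBy (Sylow 3 G) (y : G)) = Set.univ := by
        apply Set.eq_of_subset_of_ncard_le (Set.subset_univ _)
        · rw [Set.ncard_univ, h7]
          exact h4.ge
      intro Q
      have hQ : Q ∈ MulAction.fixedBy (Sylow 3 G) (y : G) := by rw [this]; trivial
      exact hQ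
    have := eq_one_of_forall_smul_sylow hG hpd hall
    rw [this, orderOf_one] at hy'
    omega
  · exact h28

theorem card_N3 (P : Sylow 3 G) : Nat.card (normalizer ((P : Subgroup G) : Set G)) = 6 := by
  have hN := card_normalizer_mul_card_sylow P
  rw [card_sylow3 h, h] at hN
  omega

theorem cent3 (P : Sylow 3 G) : centralizer ((P : Subgroup G) : Set G) = P :=
  centralizer_sylow_eq (nonab h) (k := 2) Nat.prime_two P (card_P3 h P) (by rw [card_N3 h P])

theorem centralizer_of_order3 {x : G} (hx : orderOf x = 3) : centralizer ({x} : Set G) = zpowers x :=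
  centralizer_singleton_eq (card_P3 h) (cent3 h) hx

theorem card_T (T : Sylow 2 G) : Nat.card (T : Subgroup G) = 8 := by
  rw [sylow_card_of_card_eq (a := 3) (m := 21) (by rw [h]; norm_num) (by norm_num) T]; norm_num

theorem card_sylow2 : Nat.card (Sylow 2 G) = 21 := by
  have hG := nonab h
  have hm := card_sylow_mem_filter (p := 2) (a := 3) (m := 21) (G := G) (by rw [h]; norm_num) (by norm_num) (by norm_num)
  have hc : (Nat.divisors 21).filter (fun n => n % 2 = 1 % 2) = {1, 3, 7, 21} := by decide +kernel
  rw [hc] at hm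
  simp only [Finset.mem_insert, Finset.mem_singleton] at hm
  have hpd : 2 ∣ Nat.card G := by rw [h]; norm_num
  have hemb := two_mul_card_dvd_factorial_card_sylow hG hpd
  rcases hm with h1 | h3 | h7 | h21
  · exact absurd h1 (card_sylow_ne_one hG hpd)
  · rw [h3, h] at hemb; exact absurd hemb (by decide)
  · exfalso
    obtain ⟨T⟩ : Nonempty (Sylow 2 G) := inferInstance
    have hN := card_normalizer_mul_card_sylow T
    rw [h7, h] at hN
    obtain ⟨x, hx⟩ := exists_prime_orderOf_dvd_card' (G := ↥(normalizer ((T : Subgroup G) : Set G))) 3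
      (by rw [show Nat.card (normalizer ((T : Subgroup G) : Set G)) = 24 by omega]; norm_num)
    have hx' : orderOf (x : G) = 3 := by rw [Subgroup.orderOf_coe]; exact hx
    have h1 := card_modEq_card_inf_centralizer (t := 3) (T : Subgroup G) x.2 hx'
    rw [card_T h T] at h1
    have hinf : (T : Subgroup G) ⊓ centralizer ({(x : G)} : Set G) = ⊥ := by
      rw [centralizer_of_order3 h hx']
      apply disjoint_iff.1
      apply Subgroup.disjoint_of_coprime_natCard
      rw [card_T h T, Nat.card_zpowers, hx']
      norm_num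
    rw [hinf] at h1
    simp [Nat.ModEq] at h1
  · exact h21

theorem normalizer_T (T : Sylow 2 G) : normalizer ((T : Subgroup G) : Set G) = T := by
  have hN := card_normalizer_mul_card_sylow T
  rw [card_sylow2 h, h] at hN
  symm
  apply Subgroup.eq_of_le_of_card_ge Subgroup.le_normalizer
  rw [card_T h T]
  omega

theorem T_not_comm (T : Sylow 2 G) : ¬ IsMulCommutative (T : Subgroup G) := by
  intro hc
  have hpd : 2 ∣ Nat.card G := by rw [h]; norm_num
  apply not_normalizer_le_centralizer (nonab h) hpd T
  rw [normalizer_T h T]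
  intro u hu
  rw [mem_centralizer_iff]
  intro v hv
  exact congrArg Subtype.val (hc.is_comm.comm ⟨v, hv⟩ ⟨u, hu⟩)

/-- The order of elements is as small as it could be. -/
theorem orderOf_cases (g : G) : orderOf g = 1 ∨ orderOf g = 2 ∨ orderOf g = 3 ∨ orderOf g = 4 ∨ orderOf g = 7 := by
  have hd : orderOf g ∣ 168 := by rw [← h]; exact orderOf_dvd_natCard g
  have hpos := orderOf_pos g
  by_cases h7 : 7 ∣ orderOf g
  · have ho : orderOf (g ^ (orderOf g / 7)) = 7 := orderOf_pow_orderOf_div hpos.ne' h7
    have hc : centralizer ({g ^ (orderOf g / 7)} : Set G) = zpowers (g ^ (orderOf g / 7)) :=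
      centralizer_of_order7 h ho
    have hg : g ∈ centralizer ({g ^ (orderOf g / 7)} : Set G) := by
      rw [mem_centralizer_singleton_iff]
      exact ((Commute.refl g).pow_right _).eq
    rw [hc] at hg
    have hd2 : orderOf g ∣ Nat.card (zpowers (g ^ (orderOf g / 7))) := Subgroup.orderOf_dvd_natCard _ hg
    rw [Nat.card_zpowers, ho] at hd2
    have := Nat.le_of_dvd (by norm_num) hd2
    have := Nat.le_of_dvd hpos h7
    omega
  by_cases h3 : 3 ∣ orderOf g
  · have ho : orderOf (g ^ (orderOf g / 3)) = 3 := orderOf_pow_orderOf_div hpos.ne' h3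
    have hc : centralizer ({g ^ (orderOf g / 3)} : Set G) = zpowers (g ^ (orderOf g / 3)) :=
      centralizer_of_order3 h ho
    have hg : g ∈ centralizer ({g ^ (orderOf g / 3)} : Set G) := by
      rw [mem_centralizer_singleton_iff]
      exact ((Commute.refl g).pow_right _).eq
    rw [hc] at hg
    have hd2 : orderOf g ∣ Nat.card (zpowers (g ^ (orderOf g / 3))) := Subgroup.orderOf_dvd_natCard _ hg
    rw [Nat.card_zpowers, ho] at hd2
    have := Nat.le_of_dvd (by norm_num) hd2
    have := Nat.le_of_dvd hpos h3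
    omega
  -- a 2-element
  have hd8 : orderOf g ∣ 8 := by
    have hcop : Nat.Coprime (orderOf g) 21 := by
      have h37 : Nat.Coprime (orderOf g) 3 := ((Nat.Prime.coprime_iff_not_dvd (by norm_num)).2 h3).symm
      have h77 : Nat.Coprime (orderOf g) 7 := ((Nat.Prime.coprime_iff_not_dvd (by norm_num)).2 h7).symm
      exact Nat.Coprime.mul_right h37 h77
    exact hcop.dvd_of_dvd_mul_right (by simpa using hd)
  have hne8 : orderOf g ≠ 8 := by
    intro h8
    have hpg : IsPGroup 2 (zpowers g) := by
      rw [IsPGroup.iff_card, Nat.card_zpowers, h8]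
      exact ⟨3, by norm_num⟩
    obtain ⟨T, hT⟩ := hpg.exists_le_sylow
    have heq : zpowers g = (T : Subgroup G) := by
      apply Subgroup.eq_of_le_of_card_ge hT
      rw [card_T h T, Nat.card_zpowers, h8]
    apply T_not_comm h T
    rw [← heq]
    exact ⟨⟨fun a b => by
      obtain ⟨i, hi⟩ := Subgroup.mem_zpowers_iff.1 a.2
      obtain ⟨j, hj⟩ := Subgroup.mem_zpowers_iff.1 b.2
      apply Subtype.ext
      simp only [Subgroup.coe_mul]
      rw [← hi, ← hj]
      exact (Commute.refl g).zpow_zpow i j⟩⟩
  have hle := Nat.le_of_dvd (by norm_num) hd8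
  interval_cases hv : orderOf g <;> omega


theorem card_order7 : Nat.card {g : G // orderOf g = 7} = 48 := by
  rw [card_orderOf_eq_prime (card_P7 h), card_sylow7 h]

theorem card_order3 : Nat.card {g : G // orderOf g = 3} = 56 := by
  rw [card_orderOf_eq_prime (card_P3 h), card_sylow3 h]

/-- The centralizer of a nontrivial 2-element has order dividing 8. -/
theorem card_centralizer_dvd {z : G} (hz : z ≠ 1) (hz8 : orderOf z ∣ 8) :
    Nat.card (centralizer ({z} : Set G)) ∣ 8 := by
  have hd : Nat.card (centralizer ({z} : Set G)) ∣ 168 := by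
    rw [← h]; exact Subgroup.card_subgroup_dvd_card _
  have key : ∀ q : ℕ, (q = 3 ∨ q = 7) → ¬ q ∣ Nat.card (centralizer ({z} : Set G)) := by
    intro q hq hdq
    have hqp : q.Prime := by rcases hq with rfl | rfl <;> norm_num
    have : Fact q.Prime := ⟨hqp⟩
    obtain ⟨x, hx⟩ := exists_prime_orderOf_dvd_card' (G := ↥(centralizer ({z} : Set G))) q hdq
    have hx' : orderOf (x : G) = q := by rw [Subgroup.orderOf_coe]; exact hx
    have hc : centralizer ({(x : G)} : Set G) = zpowers (x : G) := by
      rcases hq with rfl | rfl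
      · exact centralizer_of_order3 h hx'
      · exact centralizer_of_order7 h hx'
    have hzc : z ∈ centralizer ({(x : G)} : Set G) := by
      rw [mem_centralizer_singleton_iff]
      exact (mem_centralizer_singleton_iff.1 x.2).symm
    rw [hc] at hzc
    have hd2 : orderOf z ∣ Nat.card (zpowers (x : G)) := Subgroup.orderOf_dvd_natCard _ hzc
    rw [Nat.card_zpowers, hx'] at hd2
    have hcop : Nat.Coprime q 8 := by rcases hq with rfl | rfl <;> norm_num
    have h1 : orderOf z = 1 := Nat.eq_one_of_dvd_coprimes hcop hd2 hz8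
    exact hz (orderOf_eq_one_iff.1 h1)
  have h3 := key 3 (Or.inl rfl)
  have h7 := key 7 (Or.inr rfl)
  have hcop : Nat.Coprime (Nat.card (centralizer ({z} : Set G))) 21 := by
    have h37 : Nat.Coprime (Nat.card (centralizer ({z} : Set G))) 3 :=
      ((Nat.Prime.coprime_iff_not_dvd (by norm_num)).2 h3).symm
    have h77 : Nat.Coprime (Nat.card (centralizer ({z} : Set G))) 7 :=
      ((Nat.Prime.coprime_iff_not_dvd (by norm_num)).2 h7).symm
    exact Nat.Coprime.mul_right h37 h77
  exact hcop.dvd_of_dvd_mul_right (by simpa using hd)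

/-- The centralizer of a nontrivial central element of a Sylow 2-subgroup is that subgroup. -/
theorem centralizer_of_central (T : Sylow 2 G) {z : G} (hzT : z ∈ (T : Subgroup G)) (hz : z ≠ 1)
    (hc : ∀ t ∈ (T : Subgroup G), t * z = z * t) : centralizer ({z} : Set G) = T := by
  have hz8 : orderOf z ∣ 8 := by
    have := Subgroup.orderOf_dvd_natCard (T : Subgroup G) hzT
    rwa [card_T h T] at this
  have hle : (T : Subgroup G) ≤ centralizer ({z} : Set G) := by
    intro t ht
    rw [mem_centralizer_singleton_iff]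
    exact hc t ht
  symm
  apply Subgroup.eq_of_le_of_card_ge hle
  rw [card_T h T]
  exact Nat.le_of_dvd (by norm_num) (card_centralizer_dvd h hz hz8)

/-- Every Sylow 2-subgroup has an element of order 4. -/
theorem exists_order4 (T : Sylow 2 G) : ∃ a ∈ (T : Subgroup G), orderOf a = 4 := by
  by_contra hno
  push Not at hno
  apply T_not_comm h T
  have hsq : ∀ x : ↥(T : Subgroup G), x * x = 1 := by
    intro x
    have hd : orderOf (x : G) ∣ 8 := by
      have := Subgroup.orderOf_dvd_natCard (T : Subgroup G) x.2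
      rwa [card_T h T] at this
    have hne := hno x x.2
    have hx2 : (x : G) ^ 2 = 1 := by
      rcases orderOf_cases h (x : G) with h1 | h1 | h1 | h1 | h1
      · rw [orderOf_eq_one_iff.1 h1, one_pow]
      · have := pow_orderOf_eq_one (x : G)
        rwa [h1] at this
      · rw [h1] at hd; exact absurd hd (by decide)
      · exact absurd h1 hne
      · rw [h1] at hd; exact absurd hd (by decide)
    apply Subtype.ext
    rw [Subgroup.coe_mul, Subgroup.coe_one, ← pow_two]
    exact hx2
  exact ⟨⟨fun a b => by
    have h1 : (a * b) * (a * b) = 1 := hsq _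
    have h2 := hsq a
    have h3 := hsq b
    calc a * b = (a * b) * ((b * a) * (b * a)) := by rw [hsq (b * a), mul_one]
      _ = a * (b * b) * a * (b * a) := by group
      _ = (a * a) * (b * a) := by rw [h3, mul_one]
      _ = b * a := by rw [h2, one_mul]⟩⟩

/-- The square of an order 4 element of a Sylow 2-subgroup is central, with centralizer that subgroup. -/
theorem centralizer_sq (T : Sylow 2 G) {a : G} (ha : a ∈ (T : Subgroup G)) (ho : orderOf a = 4) :
    centralizer ({a ^ 2} : Set G) = T := by
  have hle : zpowers a ≤ (T : Subgroup G) := by rw [Subgroup.zpowers_le]; exact ha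
  have hN : (T : Subgroup G) ≤ normalizer ((zpowers a : Subgroup G) : Set G) :=
    le_normalizer_of_two_mul hle (by rw [card_T h T, Nat.card_zpowers, ho]) (by rw [Nat.card_zpowers, ho]; norm_num)
  apply centralizer_of_central h T (Subgroup.pow_mem _ ha 2)
  · intro h2
    have := orderOf_le_of_pow_eq_one (by norm_num) h2
    omega
  · intro t ht
    have := conj_sq_of_normalizes ho (hN ht)
    calc t * a ^ 2 = (t * a ^ 2 * t⁻¹) * t := by group
      _ = a ^ 2 * t := by rw [this]

/-- Order 4 elements are self-centralizing. -/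
theorem centralizer_of_order4' (T : Sylow 2 G) {a : G} (ha : a ∈ (T : Subgroup G)) (ho : orderOf a = 4) :
    centralizer ({a} : Set G) = zpowers a := by
  have hle : zpowers a ≤ (T : Subgroup G) := by rw [Subgroup.zpowers_le]; exact ha
  have hN : (T : Subgroup G) ≤ normalizer ((zpowers a : Subgroup G) : Set G) :=
    le_normalizer_of_two_mul hle (by rw [card_T h T, Nat.card_zpowers, ho]) (by rw [Nat.card_zpowers, ho]; norm_num)
  have hCT : centralizer ({a} : Set G) ≤ T := by
    rw [← centralizer_sq h T ha ho]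
    intro y hy
    rw [mem_centralizer_singleton_iff] at hy ⊢
    have hc : Commute y a := hy
    exact (hc.pow_right 2).eq
  have hzC : zpowers a ≤ centralizer ({a} : Set G) := by
    rw [Subgroup.zpowers_le, mem_centralizer_singleton_iff]
  have hd : Nat.card (centralizer ({a} : Set G)) ∣ 8 := by
    have := Subgroup.card_dvd_of_le hCT
    rwa [card_T h T] at this
  have hd4 : 4 ∣ Nat.card (centralizer ({a} : Set G)) := by
    have := Subgroup.card_dvd_of_le hzC
    rwa [Nat.card_zpowers, ho] at this
  have hcases : Nat.card (centralizer ({a} : Set G)) = 4 ∨ Nat.card (centralizer ({a} : Set G)) = 8 := by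
    have hle8 := Nat.le_of_dvd (by norm_num) hd
    obtain ⟨k, hk⟩ := hd4
    have : k = 1 ∨ k = 2 := by
      rcases k with _ | _ | _ | k
      · rw [hk] at hd; revert hd; simp
      · left; rfl
      · right; rfl
      · omega
    rcases this with rfl | rfl <;> omega
  rcases hcases with h4 | h8
  · symm
    apply Subgroup.eq_of_le_of_card_ge hzC
    rw [h4, Nat.card_zpowers, ho]
  · exfalso
    have hTC : (T : Subgroup G) ≤ centralizer ({a} : Set G) := by
      have : centralizer ({a} : Set G) = T := Subgroup.eq_of_le_of_card_ge hCT (by rw [card_T h T, h8])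
      rw [this]
    apply T_not_comm h T
    -- `T` has a central subgroup with cyclic quotient
    let a' : ↥(T : Subgroup G) := ⟨a, ha⟩
    have ho' : orderOf a' = 4 := by rw [← Subgroup.orderOf_coe]; exact ho
    have hidx : (zpowers a').index = 2 := by
      have h1 := Subgroup.card_mul_index (zpowers a')
      rw [Nat.card_zpowers, ho', card_T h T] at h1
      omega
    have hnorm : (zpowers a').Normal := Subgroup.normal_of_index_eq_two hidx
    have : Fact (Nat.Prime (Nat.card (↥(T : Subgroup G) ⧸ zpowers a'))) := by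
      have : Nat.card (↥(T : Subgroup G) ⧸ zpowers a') = 2 := hidx
      rw [this]; exact ⟨Nat.prime_two⟩
    have : IsCyclic (↥(T : Subgroup G) ⧸ zpowers a') := isCyclic_of_prime_card rfl
    have hker : (QuotientGroup.mk' (zpowers a')).ker ≤ Subgroup.center ↥(T : Subgroup G) := by
      rw [QuotientGroup.ker_mk']
      rw [Subgroup.zpowers_le, Subgroup.mem_center_iff]
      intro t
      apply Subtype.ext
      simp only [Subgroup.coe_mul]
      exact mem_centralizer_singleton_iff.1 (hTC t.2)
    exact MonoidHom.isMulCommutative_of_isCyclic_of_ker_le_center _ hker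


theorem orderOf_sq_of_order4 {a : G} (ho : orderOf a = 4) : orderOf (a ^ 2) = 2 := by
  rw [orderOf_pow, ho]; norm_num

theorem two_counts : Nat.card {g : G // orderOf g = 2} = 21 ∧ Nat.card {g : G // orderOf g = 4} = 42 := by
  obtain ⟨T⟩ : Nonempty (Sylow 2 G) := inferInstance
  obtain ⟨a, ha, ho⟩ := exists_order4 h T
  have hc2 : Nat.card {x : G // IsConj (a ^ 2) x} = 21 := by
    have := card_isConj_mul_card_centralizer (a ^ 2)
    rw [centralizer_sq h T ha ho, card_T h T, h] at this
    omega
  have hc4 : Nat.card {x : G // IsConj a x} = 42 := by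
    have := card_isConj_mul_card_centralizer a
    rw [centralizer_of_order4' h T ha ho, Nat.card_zpowers, ho, h] at this
    omega
  have h1 : 21 ≤ Nat.card {g : G // orderOf g = 2} := by
    rw [← hc2]
    apply Nat.card_le_card_of_injective (fun x : {x : G // IsConj (a ^ 2) x} =>
      (⟨x.1, by rw [← orderOf_eq_of_isConj x.2]; exact orderOf_sq_of_order4 h ho⟩ : {g : G // orderOf g = 2}))
    intro x y hxy
    exact Subtype.ext (congrArg (fun z : {g : G // orderOf g = 2} => z.1) hxy)
  have h2 : 42 ≤ Nat.card {g : G // orderOf g = 4} := by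
    rw [← hc4]
    apply Nat.card_le_card_of_injective (fun x : {x : G // IsConj a x} =>
      (⟨x.1, by rw [← orderOf_eq_of_isConj x.2]; exact ho⟩ : {g : G // orderOf g = 4}))
    intro x y hxy
    exact Subtype.ext (congrArg (fun z : {g : G // orderOf g = 4} => z.1) hxy)
  have hs := sum_card_orderOf_le (G := G) ({1, 2, 3, 4, 7} : Finset ℕ)
  rw [Finset.sum_insert (by decide), Finset.sum_insert (by decide), Finset.sum_insert (by decide),
    Finset.sum_insert (by decide), Finset.sum_singleton, card_orderOf_one, card_order3 h, card_order7 h, h] at hs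
  omega

theorem card_order2 : Nat.card {g : G // orderOf g = 2} = 21 := (two_counts h).1

theorem card_order4 : Nat.card {g : G // orderOf g = 4} = 42 := (two_counts h).2

theorem isConj_sq_of_order2 (T : Sylow 2 G) {a : G} (ha : a ∈ (T : Subgroup G)) (ho : orderOf a = 4) {s : G}
    (hs : orderOf s = 2) : IsConj (a ^ 2) s := by
  have hc2 : Nat.card {x : G // IsConj (a ^ 2) x} = 21 := by
    have := card_isConj_mul_card_centralizer (a ^ 2)
    rw [centralizer_sq h T ha ho, card_T h T, h] at this
    omega
  let f : {x : G // IsConj (a ^ 2) x} → {g : G // orderOf g = 2} := fun x =>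
    ⟨x.1, by rw [← orderOf_eq_of_isConj x.2]; exact orderOf_sq_of_order4 h ho⟩
  have hf : Function.Injective f := by
    intro x y hxy
    exact Subtype.ext (congrArg (fun z : {g : G // orderOf g = 2} => z.1) hxy)
  have hb := hf.bijective_of_nat_card_le (by rw [hc2, card_order2 h])
  obtain ⟨x, hx⟩ := hb.2 ⟨s, hs⟩
  have : x.1 = s := congrArg (fun z : {g : G // orderOf g = 2} => z.1) hx
  rw [← this]
  exact x.2

theorem isConj_of_order4 (T : Sylow 2 G) {a : G} (ha : a ∈ (T : Subgroup G)) (ho : orderOf a = 4) {s : G}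
    (hs : orderOf s = 4) : IsConj a s := by
  have hc4 : Nat.card {x : G // IsConj a x} = 42 := by
    have := card_isConj_mul_card_centralizer a
    rw [centralizer_of_order4' h T ha ho, Nat.card_zpowers, ho, h] at this
    omega
  let f : {x : G // IsConj a x} → {g : G // orderOf g = 4} := fun x =>
    ⟨x.1, by rw [← orderOf_eq_of_isConj x.2]; exact ho⟩
  have hf : Function.Injective f := by
    intro x y hxy
    exact Subtype.ext (congrArg (fun z : {g : G // orderOf g = 4} => z.1) hxy)
  have hb := hf.bijective_of_nat_card_le (by rw [hc4, card_order4 h])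
  obtain ⟨x, hx⟩ := hb.2 ⟨s, hs⟩
  have : x.1 = s := congrArg (fun z : {g : G // orderOf g = 4} => z.1) hx
  rw [← this]
  exact x.2

theorem conj_order2 {s t : G} (hs : orderOf s = 2) (ht : orderOf t = 2) : IsConj s t := by
  obtain ⟨T⟩ : Nonempty (Sylow 2 G) := inferInstance
  obtain ⟨a, ha, ho⟩ := exists_order4 h T
  exact (isConj_sq_of_order2 h T ha ho hs).symm.trans (isConj_sq_of_order2 h T ha ho ht)

theorem conj_order4 {s t : G} (hs : orderOf s = 4) (ht : orderOf t = 4) : IsConj s t := by
  obtain ⟨T⟩ : Nonempty (Sylow 2 G) := inferInstance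
  obtain ⟨a, ha, ho⟩ := exists_order4 h T
  exact (isConj_of_order4 h T ha ho hs).symm.trans (isConj_of_order4 h T ha ho ht)

theorem card_centralizer_order2 {x : G} (hx : orderOf x = 2) : Nat.card (centralizer ({x} : Set G)) = 8 := by
  obtain ⟨T⟩ : Nonempty (Sylow 2 G) := inferInstance
  obtain ⟨a, ha, ho⟩ := exists_order4 h T
  obtain ⟨c, rfl⟩ := isConj_iff.1 (isConj_sq_of_order2 h T ha ho hx)
  rw [card_centralizer_conj, centralizer_sq h T ha ho, card_T h T]

omit [IsSimpleGroup G] in
/-- A subgroup of order 8 is a Sylow 2-subgroup. -/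
theorem exists_sylow2_eq {K : Subgroup G} (hK : Nat.card K = 8) : ∃ T : Sylow 2 G, (T : Subgroup G) = K := by
  have hpg : IsPGroup 2 K := by
    rw [IsPGroup.iff_card, hK]
    exact ⟨3, by norm_num⟩
  obtain ⟨T, hT⟩ := hpg.exists_le_sylow
  refine ⟨T, ?_⟩
  symm
  apply Subgroup.eq_of_le_of_card_ge hT
  rw [hK, sylow_card_of_card_eq (a := 3) (m := 21) (by rw [h]; norm_num) (by norm_num) T]
  norm_num

theorem exists_sylow_centralizer {x : G} (hx : orderOf x = 2) :
    ∃ T : Sylow 2 G, (T : Subgroup G) = centralizer ({x} : Set G) :=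
  exists_sylow2_eq h (card_centralizer_order2 h hx)

/-- An involution is determined by its centralizer. -/
theorem eq_of_centralizer_eq {x y : G} (hx : orderOf x = 2) (hy : orderOf y = 2)
    (hxy : centralizer ({x} : Set G) = centralizer ({y} : Set G)) : x = y := by
  let f : {g : G // orderOf g = 2} → Sylow 2 G := fun g => (exists_sylow_centralizer h g.2).choose
  have hf : ∀ g : {g : G // orderOf g = 2}, ((f g : Sylow 2 G) : Subgroup G) = centralizer ({g.1} : Set G) :=
    fun g => (exists_sylow_centralizer h g.2).choose_spec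
  have hsurj : Function.Surjective f := by
    intro T
    obtain ⟨a, ha, ho⟩ := exists_order4 h T
    refine ⟨⟨a ^ 2, orderOf_sq_of_order4 h ho⟩, ?_⟩
    apply Sylow.ext
    rw [hf]
    exact centralizer_sq h T ha ho
  have hb := hsurj.bijective_of_nat_card_le (by rw [card_order2 h, card_sylow2 h])
  have hinj := hb.1
  have : f ⟨x, hx⟩ = f ⟨y, hy⟩ := by
    apply Sylow.ext
    rw [hf, hf]
    exact hxy
  exact congrArg Subtype.val (hinj this)

/-- All order 4 elements of a Sylow 2-subgroup lie in one cyclic subgroup. -/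
theorem mem_zpowers_of_order4 (T : Sylow 2 G) {a b : G} (ha : a ∈ (T : Subgroup G)) (ho : orderOf a = 4)
    (hb : b ∈ (T : Subgroup G)) (hob : orderOf b = 4) : b ∈ zpowers a := by
  have hsq : a ^ 2 = b ^ 2 := by
    apply eq_of_centralizer_eq h (orderOf_sq_of_order4 h ho) (orderOf_sq_of_order4 h hob)
    rw [centralizer_sq h T ha ho, centralizer_sq h T hb hob]
  obtain ⟨g, rfl⟩ := isConj_iff.1 (conj_order4 h ho hob)
  have hgT : g ∈ (T : Subgroup G) := by
    rw [← centralizer_sq h T ha ho, mem_centralizer_singleton_iff]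
    have h1 : g * a ^ 2 * g⁻¹ = a ^ 2 := by
      rw [conj_pow] at hsq
      exact hsq.symm
    calc g * a ^ 2 = (g * a ^ 2 * g⁻¹) * g := by group
      _ = a ^ 2 * g := by rw [h1]
  have hle : zpowers a ≤ (T : Subgroup G) := by rw [Subgroup.zpowers_le]; exact ha
  have hN : (T : Subgroup G) ≤ normalizer ((zpowers a : Subgroup G) : Set G) :=
    le_normalizer_of_two_mul hle (by rw [card_T h T, Nat.card_zpowers, ho]) (by rw [Nat.card_zpowers, ho]; norm_num)
  exact (mem_normalizer_iff.1 (hN hgT) a).1 (Subgroup.mem_zpowers a)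

/-- A Sylow 2-subgroup is dihedral of order 8. -/
theorem T_dihedral (T : Sylow 2 G) : Nonempty (↥(T : Subgroup G) ≃* DihedralGroup 4) := by
  classical
  obtain ⟨a, ha, ho⟩ := exists_order4 h T
  have hle : zpowers a ≤ (T : Subgroup G) := by rw [Subgroup.zpowers_le]; exact ha
  have hN : (T : Subgroup G) ≤ normalizer ((zpowers a : Subgroup G) : Set G) :=
    le_normalizer_of_two_mul hle (by rw [card_T h T, Nat.card_zpowers, ho]) (by rw [Nat.card_zpowers, ho]; norm_num)
  -- an element outside the cyclic subgroup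
  obtain ⟨b, hbT, hbz⟩ : ∃ b ∈ (T : Subgroup G), b ∉ zpowers a := by
    by_contra hno
    push Not at hno
    have : (T : Subgroup G) ≤ zpowers a := hno
    have h1 := Nat.card_le_card_of_injective _ (Subgroup.inclusion_injective this)
    rw [card_T h T, Nat.card_zpowers, ho] at h1
    omega
  have hbne : b ≠ 1 := by
    rintro rfl
    exact hbz (Subgroup.one_mem _)
  have hob : orderOf b = 2 := by
    have hd : orderOf b ∣ 8 := by
      have := Subgroup.orderOf_dvd_natCard (T : Subgroup G) hbT
      rwa [card_T h T] at this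
    rcases orderOf_cases h b with h1 | h1 | h1 | h1 | h1
    · exact absurd (orderOf_eq_one_iff.1 h1) hbne
    · exact h1
    · rw [h1] at hd; exact absurd hd (by decide)
    · exact absurd (mem_zpowers_of_order4 h T ha ho hbT h1) hbz
    · rw [h1] at hd; exact absurd hd (by decide)
  have hbb : b * b = 1 := by
    rw [← pow_two]
    have := pow_orderOf_eq_one b
    rwa [hob] at this
  have hbinv : b⁻¹ = b := by
    rw [inv_eq_iff_mul_eq_one]
    exact hbb
  have hmem : b * a * b⁻¹ ∈ zpowers a := (mem_normalizer_iff.1 (hN hbT) a).1 (Subgroup.mem_zpowers a)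
  have ha4 : a ^ 4 = 1 := by
    have := pow_orderOf_eq_one a
    rwa [ho] at this
  have hconj : b * a * b⁻¹ = a⁻¹ := by
    have hmem' := (mem_zpowers_iff_mem_range_orderOf (x := a) (y := b * a * b⁻¹)).1 hmem
    rw [ho] at hmem'
    have ha2 : a ^ 2 ≠ 1 := by
      intro h2
      have := orderOf_le_of_pow_eq_one (by norm_num) h2
      omega
    have hainv : a⁻¹ = a ^ 3 := by
      rw [inv_eq_iff_mul_eq_one, ← pow_succ']
      exact ha4
    simp only [Finset.mem_image, Finset.mem_range] at hmem'
    obtain ⟨i, hi, hei⟩ := hmem'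
    interval_cases i
    · exfalso
      simp only [pow_zero] at hei
      have : a = b⁻¹ * (b * a * b⁻¹) * b := by group
      rw [← hei] at this
      have h1 : a = 1 := by rw [this]; group
      rw [h1] at ho
      simp at ho
    · exfalso
      simp only [pow_one] at hei
      apply hbz
      rw [← centralizer_of_order4' h T ha ho, mem_centralizer_singleton_iff]
      calc b * a = (b * a * b⁻¹) * b := by group
        _ = a * b := by rw [← hei]
    · exfalso
      apply ha2
      have h1 : (b * a * b⁻¹) ^ 2 = 1 := by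
        rw [← hei, ← pow_mul]
        exact ha4
      rw [conj_pow] at h1
      have : a ^ 2 = b⁻¹ * (b * a ^ 2 * b⁻¹) * b := by group
      rw [this, h1]
      group
    · rw [← hei, hainv]
  let a' : ↥(T : Subgroup G) := ⟨a, ha⟩
  let b' : ↥(T : Subgroup G) := ⟨b, hbT⟩
  apply Cfsg.Agent.Lib.DihedralIso.nonempty_dihedral_of_card (n := 4) a' b'
  · apply Subtype.ext
    simpa [a'] using ha4
  · apply Subtype.ext
    simpa [b'] using hbb
  · apply Subtype.ext
    have : b * a * b = a⁻¹ := by
      rw [← hconj, hbinv]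
    simpa [a', b'] using this
  · rw [← Subgroup.orderOf_coe]; exact ho
  · intro k hk
    apply hbz
    have : a ^ k = b := congrArg Subtype.val hk
    rw [← this]
    exact Subgroup.pow_mem _ (Subgroup.mem_zpowers a) k
  · exact card_T h T


theorem conj_order3 {s t : G} (hs : orderOf s = 3) (ht : orderOf t = 3) : IsConj s t := by
  have hcs : ∀ {s : G}, orderOf s = 3 → ∀ t : G, orderOf t = 3 → IsConj s t := by
    intro s hs t ht
    have hc : Nat.card {x : G // IsConj s x} = 56 := by
      have := card_isConj_mul_card_centralizer s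
      rw [centralizer_of_order3 h hs, Nat.card_zpowers, hs, h] at this
      omega
    let f : {x : G // IsConj s x} → {g : G // orderOf g = 3} := fun x =>
      ⟨x.1, by rw [← orderOf_eq_of_isConj x.2]; exact hs⟩
    have hf : Function.Injective f := by
      intro x y hxy
      exact Subtype.ext (congrArg (fun z : {g : G // orderOf g = 3} => z.1) hxy)
    have hb := hf.bijective_of_nat_card_le (by rw [hc, card_order3 h])
    obtain ⟨x, hx⟩ := hb.2 ⟨t, ht⟩
    have : x.1 = t := congrArg (fun z : {g : G // orderOf g = 3} => z.1) hx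
    rw [← this]
    exact x.2
  exact hcs hs t ht

theorem card_class_order7 {x : G} (hx : orderOf x = 7) : Nat.card {g : G // IsConj x g} = 24 := by
  have := card_isConj_mul_card_centralizer x
  rw [centralizer_of_order7 h hx, Nat.card_zpowers, hx, h] at this
  omega

theorem not_isConj_inv_order7 {x : G} (hx : orderOf x = 7) : ¬ IsConj x x⁻¹ := by
  intro hc
  obtain ⟨g, hg⟩ := isConj_iff.1 hc
  obtain ⟨Q, hQ⟩ := exists_sylow_mem_of_orderOf hx
  have hne : x ≠ 1 := by
    intro h1; rw [h1, orderOf_one] at hx; omega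
  have hz : zpowers x = (Q : Subgroup G) := zpowers_eq_of_mem_of_ne_one (by norm_num) (card_P7 h Q) hQ hne
  have hgN : g ∈ normalizer ((Q : Subgroup G) : Set G) := by
    rw [← hz, mem_normalizer_iff]
    intro y
    constructor
    · intro hy
      obtain ⟨k, rfl⟩ := Subgroup.mem_zpowers_iff.1 hy
      rw [← conj_zpow, hg]
      exact Subgroup.zpow_mem _ (Subgroup.inv_mem _ (Subgroup.mem_zpowers x)) k
    · intro hy
      obtain ⟨k, hk⟩ := Subgroup.mem_zpowers_iff.1 hy
      have hgy : y = g⁻¹ * x ^ k * g := by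
        rw [hk]; group
      rw [hgy]
      have h1 : g⁻¹ * x * g = x⁻¹ := by
        have h3 : x = g⁻¹ * (g * x * g⁻¹) * g := by group
        rw [hg] at h3
        calc g⁻¹ * x * g = (g⁻¹ * x⁻¹ * g)⁻¹ := by group
          _ = x⁻¹ := by rw [← h3]
      have h2 : g⁻¹ * x ^ k * g = (g⁻¹ * x * g) ^ k := by
        have := conj_zpow (a := g⁻¹) (b := x) (i := k)
        simpa using this.symm
      rw [h2, h1]
      exact Subgroup.zpow_mem _ (Subgroup.inv_mem _ (Subgroup.mem_zpowers x)) k
  have hd : orderOf g ∣ 21 := by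
    have := Subgroup.orderOf_dvd_natCard _ hgN
    rwa [card_N7 h Q] at this
  have hg21 : g ^ 21 = 1 := orderOf_dvd_iff_pow_eq_one.1 hd
  have hg2 : Commute (g ^ 2) x := by
    have h1 : g ^ 2 * x * (g ^ 2)⁻¹ = x := by
      have : g ^ 2 * x * (g ^ 2)⁻¹ = g * (g * x * g⁻¹) * g⁻¹ := by rw [pow_two]; group
      rw [this, hg]
      have h3 : g * x⁻¹ * g⁻¹ = (g * x * g⁻¹)⁻¹ := by group
      rw [h3, hg, inv_inv]
    calc g ^ 2 * x = (g ^ 2 * x * (g ^ 2)⁻¹) * g ^ 2 := by group
      _ = x * g ^ 2 := by rw [h1]
  have hgc : Commute g x := by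
    have : g = (g ^ 2) ^ 11 := by
      rw [← pow_mul]
      calc g = g ^ 21 * g := by rw [hg21, one_mul]
        _ = g ^ (2 * 11) := by rw [← pow_succ]
    rw [this]
    exact hg2.pow_left 11
  have h5 : g * x * g⁻¹ = x := by
    rw [hgc.eq]; group
  rw [h5] at hg
  have h6 : x ^ 2 = 1 := by
    rw [pow_two]
    nth_rewrite 1 [hg]
    group
  have := orderOf_le_of_pow_eq_one (by norm_num) h6
  omega

end S168

end Cfsg.Agent.Lib.Small168
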