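import Mathlib
import Cfsg.Agent.Lib.SmallGroups2
import Cfsg.Agent.Lib.Small168

/-!
# Local data at a prime with Sylow subgroups of prime order

For a finite group `G` whose Sylow `p`-subgroups have order `p`: the centralizer order `p * e`, the
number of elements whose order is divisible by `p`, and commuting primes.
-/

set_option autoImplicit false
set_option linter.unusedSectionVars false
set_option linter.style.haveILetI false

namespace Cfsg.Agent.Lib.J1Ord

open Subgroup Cfsg.Agent.Lib.SmallGroups2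

variable {G : Type*} [Group G] [Finite G]

theorem card_sub_add_compl {α : Type*} [Finite α] (q : α → Prop) :
    Nat.card {x // q x} + Nat.card {x // ¬ q x} = Nat.card α := by
  classical
  haveI : Fintype α := Fintype.ofFinite α
  rw [Nat.card_eq_fintype_card, Nat.card_eq_fintype_card, Nat.card_eq_fintype_card,
    Fintype.card_subtype_compl]
  have : Fintype.card {x // q x} ≤ Fintype.card α := Fintype.card_subtype_le q
  omega

/-- conjugate subgroups have centralizers of equal order -/
theorem card_centralizer_smul (g : G) (P : Subgroup G) :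
    Nat.card (centralizer ((P.map (MulAut.conj g).toMonoidHom : Subgroup G) : Set G)) =
      Nat.card (centralizer ((P : Subgroup G) : Set G)) := by
  apply Nat.card_congr
  refine ⟨fun c => ⟨g⁻¹ * c.1 * g, ?_⟩, fun c => ⟨g * c.1 * g⁻¹, ?_⟩, ?_, ?_⟩
  · rw [Subgroup.mem_centralizer_iff]
    intro x hx
    have h := (Subgroup.mem_centralizer_iff.1 c.2) (g * x * g⁻¹) ⟨x, hx, rfl⟩
    have h2 : c.1 * (g * x * g⁻¹) = (g * x * g⁻¹) * c.1 := h.symm
    calc x * (g⁻¹ * c.1 * g) = g⁻¹ * ((g * x * g⁻¹) * c.1) * g := by group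
      _ = g⁻¹ * (c.1 * (g * x * g⁻¹)) * g := by rw [h2]
      _ = (g⁻¹ * c.1 * g) * x := by group
  · rw [Subgroup.mem_centralizer_iff]
    rintro y ⟨x, hx, rfl⟩
    have h := (Subgroup.mem_centralizer_iff.1 c.2) x hx
    show (g * x * g⁻¹) * (g * c.1 * g⁻¹) = (g * c.1 * g⁻¹) * (g * x * g⁻¹)
    calc (g * x * g⁻¹) * (g * c.1 * g⁻¹) = g * (x * c.1) * g⁻¹ := by group
      _ = g * (c.1 * x) * g⁻¹ := by rw [h]
      _ = (g * c.1 * g⁻¹) * (g * x * g⁻¹) := by group
  · intro c; apply Subtype.ext; show g * (g⁻¹ * c.1 * g) * g⁻¹ = c.1; group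
  · intro c; apply Subtype.ext; show g⁻¹ * (g * c.1 * g⁻¹) * g = c.1; group

section
variable {p : ℕ} [hp : Fact p.Prime]

theorem card_centralizer_sylow (P Q : Sylow p G) :
    Nat.card (centralizer ((Q : Subgroup G) : Set G)) =
      Nat.card (centralizer ((P : Subgroup G) : Set G)) := by
  obtain ⟨g, rfl⟩ := MulAction.exists_smul_eq G P Q
  have : ((g • P : Sylow p G) : Subgroup G) = (P : Subgroup G).map (MulAut.conj g).toMonoidHom := by
    rw [Sylow.coe_subgroup_smul]
    rfl
  rw [this]
  exact card_centralizer_smul g _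

theorem card_normalizer_sylow (P Q : Sylow p G) :
    Nat.card (normalizer ((Q : Subgroup G) : Set G)) =
      Nat.card (normalizer ((P : Subgroup G) : Set G)) := by
  have h1 := card_normalizer_mul_card_sylow P
  have h2 := card_normalizer_mul_card_sylow Q
  have hpos : 0 < Nat.card (Sylow p G) := Nat.card_pos
  exact Nat.eq_of_mul_eq_mul_right hpos (h2.trans h1.symm)

/-- the cofactor of `p` in the order of the centralizer of a Sylow subgroup -/
noncomputable def eP (p : ℕ) [Fact p.Prime] (G : Type*) [Group G] [Finite G] : ℕ :=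
  Nat.card (centralizer (((Classical.arbitrary (Sylow p G) : Sylow p G) : Subgroup G) : Set G)) / p

/-- the order of the automizer of a Sylow subgroup -/
noncomputable def aP (p : ℕ) [Fact p.Prime] (G : Type*) [Group G] [Finite G] : ℕ :=
  (centralizer (((Classical.arbitrary (Sylow p G) : Sylow p G) : Subgroup G) : Set G)).relIndex
    (normalizer (((Classical.arbitrary (Sylow p G) : Sylow p G) : Subgroup G) : Set G))

theorem comm_of_mem_sylow (hP : ∀ P : Sylow p G, Nat.card (P : Subgroup G) = p) (Q : Sylow p G)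
    {x y : G} (hx : x ∈ (Q : Subgroup G)) (hy : y ∈ (Q : Subgroup G)) : x * y = y * x := by
  by_cases hx1 : x = 1
  · simp [hx1]
  have h := zpowers_eq_of_mem_of_ne_one hp.out (hP Q) hx hx1
  rw [← h] at hy
  obtain ⟨k, rfl⟩ := Subgroup.mem_zpowers_iff.1 hy
  exact (Commute.zpow_right (Commute.refl x) k).eq

theorem sylow_le_centralizer (hP : ∀ P : Sylow p G, Nat.card (P : Subgroup G) = p) (Q : Sylow p G) :
    (Q : Subgroup G) ≤ centralizer ((Q : Subgroup G) : Set G) := by
  intro x hx
  rw [Subgroup.mem_centralizer_iff]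
  intro y hy
  exact comm_of_mem_sylow hP Q hy hx

theorem card_cent_eq (hP : ∀ P : Sylow p G, Nat.card (P : Subgroup G) = p) (Q : Sylow p G) :
    Nat.card (centralizer ((Q : Subgroup G) : Set G)) = p * eP p G := by
  have h1 := card_centralizer_sylow (Classical.arbitrary (Sylow p G)) Q
  rw [h1, eP]
  have h2 : p ∣ Nat.card (centralizer (((Classical.arbitrary (Sylow p G) : Sylow p G) : Subgroup G) : Set G)) := by
    have := Subgroup.card_dvd_of_le (sylow_le_centralizer hP (Classical.arbitrary (Sylow p G)))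
    rwa [hP] at this
  exact (Nat.mul_div_cancel' h2).symm

theorem card_eq_mul_relIndex {H K : Subgroup G} (h : H ≤ K) :
    Nat.card K = Nat.card H * H.relIndex K := by
  have h1 := Subgroup.card_mul_index (H.subgroupOf K)
  rw [Nat.card_congr (Subgroup.subgroupOfEquivOfLe h).toEquiv] at h1
  exact h1.symm

theorem card_norm_eq (hP : ∀ P : Sylow p G, Nat.card (P : Subgroup G) = p) (Q : Sylow p G) :
    Nat.card (normalizer ((Q : Subgroup G) : Set G)) = p * aP p G * eP p G := by
  have h1 := card_normalizer_sylow (Classical.arbitrary (Sylow p G)) Q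
  rw [h1]
  have h2 := card_cent_eq hP (Classical.arbitrary (Sylow p G))
  have hle : centralizer (((Classical.arbitrary (Sylow p G) : Sylow p G) : Subgroup G) : Set G) ≤
      normalizer (((Classical.arbitrary (Sylow p G) : Sylow p G) : Subgroup G) : Set G) :=
    Subgroup.centralizer_le_normalizer _
  rw [card_eq_mul_relIndex hle, h2, aP]
  ring

theorem card_eq_data (hP : ∀ P : Sylow p G, Nat.card (P : Subgroup G) = p) :
    Nat.card G = p * Nat.card (Sylow p G) * aP p G * eP p G := by
  have h0 := card_normalizer_mul_card_sylow (Classical.arbitrary (Sylow p G))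
  rw [card_norm_eq hP] at h0
  rw [← h0]
  ring

theorem aP_dvd (hP : ∀ P : Sylow p G, Nat.card (P : Subgroup G) = p) : aP p G ∣ p - 1 := by
  have h := relIndex_centralizer_normalizer_dvd
    ((Classical.arbitrary (Sylow p G) : Sylow p G) : Subgroup G)
  haveI : IsCyclic ((Classical.arbitrary (Sylow p G) : Sylow p G) : Subgroup G) :=
    isCyclic_of_prime_card (hP _)
  rw [IsCyclic.card_mulAut, hP, Nat.totient_prime hp.out] at h
  exact h

theorem aP_ne_one [IsSimpleGroup G] (hG : ¬ IsMulCommutative G)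
    (hpd : p ∣ Nat.card G) : aP p G ≠ 1 := by
  intro h
  apply not_normalizer_le_centralizer hG hpd (Classical.arbitrary (Sylow p G))
  exact Subgroup.relIndex_eq_one.1 h

theorem not_dvd_eP (hP : ∀ P : Sylow p G, Nat.card (P : Subgroup G) = p)
    (hsq : ¬ p ^ 2 ∣ Nat.card G) : ¬ p ∣ eP p G := by
  intro h
  apply hsq
  have h1 := Subgroup.card_subgroup_dvd_card (centralizer (((Classical.arbitrary (Sylow p G) : Sylow p G) : Subgroup G) : Set G))
  rw [card_cent_eq hP] at h1
  exact dvd_trans (by rw [pow_two]; exact mul_dvd_mul_left p h) h1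

/-- An element of order `p` commuting with a Sylow subgroup of order `p` lies in it. -/
theorem mem_of_comm (hP : ∀ P : Sylow p G, Nat.card (P : Subgroup G) = p) {Q : Sylow p G} {h : G}
    (ho : orderOf h = p) (hc : ∀ x ∈ (Q : Subgroup G), h * x = x * h) : h ∈ (Q : Subgroup G) := by
  have hpp : p.Prime := hp.out
  obtain ⟨Q', hQ'⟩ := exists_sylow_mem_of_orderOf ho
  have hne : h ≠ 1 := by
    rintro rfl
    rw [orderOf_one] at ho
    exact hpp.one_lt.ne ho
  have hz := zpowers_eq_of_mem_of_ne_one hpp (hP Q') hQ' hne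
  have hle : (Q : Subgroup G) ≤ normalizer ((Q' : Subgroup G) : Set G) := by
    intro x hx
    rw [Subgroup.mem_normalizer_iff]
    intro y
    have hxh : Commute x h := (hc x hx).symm
    constructor
    · intro hy
      have hy' : y ∈ zpowers h := by rw [hz]; exact hy
      obtain ⟨k, rfl⟩ := Subgroup.mem_zpowers_iff.1 hy'
      rw [(hxh.zpow_right k).eq, mul_inv_cancel_right]
      exact hy
    · intro hy
      have hy' : x * y * x⁻¹ ∈ zpowers h := by rw [hz]; exact hy
      obtain ⟨k, hk⟩ := Subgroup.mem_zpowers_iff.1 hy'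
      have h5 : y = h ^ k := by
        have h6 : x * y = h ^ k * x := by rw [hk]; group
        have h7 : x * y = x * h ^ k := by rw [h6, (hxh.zpow_right k).eq]
        exact mul_left_cancel h7
      rw [h5, ← hz]
      exact Subgroup.zpow_mem_zpowers h k
  have h2 : (Q : Subgroup G) ≤ Q' :=
    le_trans (le_inf le_rfl hle) (le_trans (Q.isPGroup'.inf_normalizer_sylow Q').le inf_le_right)
  have h3 : (Q : Subgroup G) = Q' := Subgroup.eq_of_le_of_card_ge h2 (by rw [hP Q, hP Q'])
  rw [h3]
  exact hQ'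

theorem card_W_le (hP : ∀ P : Sylow p G, Nat.card (P : Subgroup G) = p)
    (hsq : ¬ p ^ 2 ∣ Nat.card G) (Q : Sylow p G) :
    Nat.card {g : G // g ∈ centralizer ((Q : Subgroup G) : Set G) ∧ g ^ eP p G = 1} ≤ eP p G := by
  classical
  have hpp : p.Prime := hp.out
  have hcop : Nat.Coprime p (eP p G) := (Nat.Prime.coprime_iff_not_dvd hpp).2 (not_dvd_eP hP hsq)
  let f : {g : G // g ∈ centralizer ((Q : Subgroup G) : Set G) ∧ g ^ eP p G = 1} × (Q : Subgroup G) →
      centralizer ((Q : Subgroup G) : Set G) :=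
    fun a => ⟨a.1.1 * a.2.1, (centralizer ((Q : Subgroup G) : Set G)).mul_mem a.1.2.1
      (sylow_le_centralizer hP Q a.2.2)⟩
  have hf : Function.Injective f := by
    rintro ⟨⟨w, hw, hw1⟩, ⟨x, hx⟩⟩ ⟨⟨w', hw', hw1'⟩, ⟨x', hx'⟩⟩ h
    have h1 : w * x = w' * x' := congrArg Subtype.val h
    set y : G := x' * x⁻¹ with hy
    have hyQ : y ∈ (Q : Subgroup G) := (Q : Subgroup G).mul_mem hx' ((Q : Subgroup G).inv_mem hx)
    have h2 : w = w' * y := by
      rw [hy, ← mul_assoc, ← h1]; group
    have hcomm : Commute w' y := by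
      have := (Subgroup.mem_centralizer_iff.1 hw') y hyQ
      exact this.symm
    have h3 : y ^ eP p G = 1 := by
      have h4 : w ^ eP p G = w' ^ eP p G * y ^ eP p G := by
        rw [h2, hcomm.mul_pow]
      rw [hw1, hw1', one_mul] at h4
      exact h4.symm
    have h5 : y = 1 := by
      have h6 : orderOf y ∣ p := by
        have := Subgroup.orderOf_dvd_natCard (Q : Subgroup G) hyQ
        rwa [hP Q] at this
      have h7 : orderOf y ∣ eP p G := orderOf_dvd_of_pow_eq_one h3
      have h8 : orderOf y = 1 := Nat.eq_one_of_dvd_coprimes hcop h6 h7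
      exact orderOf_eq_one_iff.1 h8
    have hxx : x' = x := by
      rw [hy] at h5
      exact (mul_inv_eq_one.1 h5)
    have hww : w = w' := by rw [h2, h5, mul_one]
    subst hxx hww
    rfl
  have h1 := Nat.card_le_card_of_injective f hf
  rw [Nat.card_prod, hP Q, card_cent_eq hP Q, mul_comm] at h1
  exact Nat.le_of_mul_le_mul_left h1 hpp.pos

theorem card_Y_ge (hP : ∀ P : Sylow p G, Nat.card (P : Subgroup G) = p)
    (hsq : ¬ p ^ 2 ∣ Nat.card G) (Q : Sylow p G) :
    (p - 1) * eP p G ≤
      Nat.card {g : G // g ∈ centralizer ((Q : Subgroup G) : Set G) ∧ g ^ eP p G ≠ 1} := by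
  classical
  have h1 := card_W_le hP hsq Q
  have h2 := card_sub_add_compl (α := centralizer ((Q : Subgroup G) : Set G))
    (fun g => (g : G) ^ eP p G = 1)
  rw [card_cent_eq hP Q] at h2
  have e1 : Nat.card {x : centralizer ((Q : Subgroup G) : Set G) // (x : G) ^ eP p G = 1} =
      Nat.card {g : G // g ∈ centralizer ((Q : Subgroup G) : Set G) ∧ g ^ eP p G = 1} := by
    apply Nat.card_congr
    exact ⟨fun a => ⟨a.1.1, a.1.2, a.2⟩, fun a => ⟨⟨a.1, a.2.1⟩, a.2.2⟩, fun _ => rfl, fun _ => rfl⟩
  have e2 : Nat.card {x : centralizer ((Q : Subgroup G) : Set G) // ¬ (x : G) ^ eP p G = 1} =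
      Nat.card {g : G // g ∈ centralizer ((Q : Subgroup G) : Set G) ∧ g ^ eP p G ≠ 1} := by
    apply Nat.card_congr
    exact ⟨fun a => ⟨a.1.1, a.1.2, a.2⟩, fun a => ⟨⟨a.1, a.2.1⟩, a.2.2⟩, fun _ => rfl, fun _ => rfl⟩
  rw [e1, e2] at h2
  have h3 : (p - 1) * eP p G + eP p G = p * eP p G := by
    rw [← Nat.succ_mul]
    congr 1
    have := (hp.out).pos
    omega
  omega

theorem dvd_orderOf_of_Y (hP : ∀ P : Sylow p G, Nat.card (P : Subgroup G) = p) {Q : Sylow p G} {g : G}
    (hg : g ∈ centralizer ((Q : Subgroup G) : Set G)) (hg1 : g ^ eP p G ≠ 1) : p ∣ orderOf g := by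
  have hpp : p.Prime := hp.out
  by_contra hn
  apply hg1
  apply orderOf_dvd_iff_pow_eq_one.1
  have h1 := Subgroup.orderOf_dvd_natCard _ hg
  rw [card_cent_eq hP Q] at h1
  have hc : Nat.Coprime (orderOf g) p := ((Nat.Prime.coprime_iff_not_dvd hpp).2 hn).symm
  exact hc.dvd_of_dvd_mul_left h1

/-- elements of order divisible by `p` are in the centralizer of at most one Sylow subgroup -/
theorem sylow_unique_of_dvd (hP : ∀ P : Sylow p G, Nat.card (P : Subgroup G) = p) {Q Q' : Sylow p G} {g : G}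
    (hg : g ∈ centralizer ((Q : Subgroup G) : Set G)) (hg' : g ∈ centralizer ((Q' : Subgroup G) : Set G))
    (hd : p ∣ orderOf g) : Q = Q' := by
  have hpp : p.Prime := hp.out
  have h0 : orderOf g ≠ 0 := (orderOf_pos g).ne'
  set h := g ^ (orderOf g / p) with hh
  have ho : orderOf h = p := orderOf_pow_orderOf_div h0 hd
  have hne : h ≠ 1 := by
    intro h1
    rw [h1, orderOf_one] at ho
    exact hpp.one_lt.ne ho
  have hcomm : ∀ {R : Sylow p G}, g ∈ centralizer ((R : Subgroup G) : Set G) → h ∈ (R : Subgroup G) := by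
    intro R hR
    apply mem_of_comm hP ho
    intro x hx
    have h1 : x * g = g * x := (Subgroup.mem_centralizer_iff.1 hR) x hx
    have h2 : Commute x g := h1
    exact ((h2.pow_right _).eq).symm
  exact sylow_eq_of_mem_of_ne_one (hP Q) (hP Q') (hcomm hg) (hcomm hg') hne

theorem card_Xdiv_ge (hP : ∀ P : Sylow p G, Nat.card (P : Subgroup G) = p)
    (hsq : ¬ p ^ 2 ∣ Nat.card G) :
    Nat.card (Sylow p G) * (p - 1) * eP p G ≤ Nat.card {g : G // p ∣ orderOf g} := by
  classical
  haveI : Fintype (Sylow p G) := Fintype.ofFinite _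
  let f : (Σ Q : Sylow p G, {g : G // g ∈ centralizer ((Q : Subgroup G) : Set G) ∧ g ^ eP p G ≠ 1}) →
      {g : G // p ∣ orderOf g} :=
    fun a => ⟨a.2.1, dvd_orderOf_of_Y hP a.2.2.1 a.2.2.2⟩
  have hf : Function.Injective f := by
    rintro ⟨Q, ⟨g, hg, hg1⟩⟩ ⟨Q', ⟨g', hg', hg1'⟩⟩ h
    have h1 : g = g' := congrArg Subtype.val h
    subst h1
    have h2 : Q = Q' := sylow_unique_of_dvd hP hg hg' (dvd_orderOf_of_Y hP hg hg1)
    subst h2
    rfl
  have h1 := Nat.card_le_card_of_injective f hf
  rw [Nat.card_sigma] at h1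
  refine le_trans ?_ h1
  have h2 : ∑ _Q : Sylow p G, (p - 1) * eP p G ≤ ∑ Q : Sylow p G,
      Nat.card {g : G // g ∈ centralizer ((Q : Subgroup G) : Set G) ∧ g ^ eP p G ≠ 1} :=
    Finset.sum_le_sum (fun Q _ => card_Y_ge hP hsq Q)
  refine le_trans (le_of_eq ?_) h2
  rw [Finset.sum_const, Finset.card_univ, smul_eq_mul, Nat.card_eq_fintype_card]
  ring

/-- a common order divisor forces a commuting prime -/
theorem dvd_eP_of_orderOf (hP : ∀ P : Sylow p G, Nat.card (P : Subgroup G) = p) {r : ℕ}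
    (hr : r.Prime) (hrp : r ≠ p) {g : G} (hd : p ∣ orderOf g) (hd' : r ∣ orderOf g) : r ∣ eP p G := by
  have hpp : p.Prime := hp.out
  have h0 : orderOf g ≠ 0 := (orderOf_pos g).ne'
  set h := g ^ (orderOf g / p) with hh
  have ho : orderOf h = p := orderOf_pow_orderOf_div h0 hd
  have hne : h ≠ 1 := by
    intro h1
    rw [h1, orderOf_one] at ho
    exact hpp.one_lt.ne ho
  obtain ⟨Q, hQ⟩ := exists_sylow_mem_of_orderOf ho
  have hz := zpowers_eq_of_mem_of_ne_one hpp (hP Q) hQ hne
  have hg : g ∈ centralizer ((Q : Subgroup G) : Set G) := by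
    rw [Subgroup.mem_centralizer_iff]
    intro x hx
    rw [SetLike.mem_coe, ← hz] at hx
    obtain ⟨k, rfl⟩ := Subgroup.mem_zpowers_iff.1 hx
    have h1 : Commute g h := (Commute.refl g).pow_right _
    exact (h1.zpow_right k).eq.symm
  have h1 := Subgroup.orderOf_dvd_natCard _ hg
  rw [card_cent_eq hP Q] at h1
  have h2 := dvd_trans hd' h1
  rcases (Nat.Prime.dvd_mul hr).1 h2 with h3 | h3
  · exact absurd ((Nat.prime_dvd_prime_iff_eq hr hpp).1 h3) hrp
  · exact h3

/-- a commuting prime gives an element of order divisible by both primes -/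
theorem exists_of_dvd_eP (hP : ∀ P : Sylow p G, Nat.card (P : Subgroup G) = p) {r : ℕ}
    (hr : r.Prime) (hrp : r ≠ p) (hd : r ∣ eP p G) : ∃ g : G, p ∣ orderOf g ∧ r ∣ orderOf g := by
  have hpp : p.Prime := hp.out
  haveI : Fact r.Prime := ⟨hr⟩
  obtain ⟨Q⟩ := (inferInstance : Nonempty (Sylow p G))
  have h1 : r ∣ Nat.card (centralizer ((Q : Subgroup G) : Set G)) := by
    rw [card_cent_eq hP Q]
    exact Dvd.dvd.mul_left hd p
  obtain ⟨y, hy⟩ := exists_prime_orderOf_dvd_card' (G := centralizer ((Q : Subgroup G) : Set G)) r h1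
  have h2 : p ∣ Nat.card (Q : Subgroup G) := by rw [hP Q]
  obtain ⟨x, hx⟩ := exists_prime_orderOf_dvd_card' (G := (Q : Subgroup G)) p h2
  have hcomm : Commute (x : G) (y : G) := by
    have := (Subgroup.mem_centralizer_iff.1 y.2) x x.2
    exact this
  have ho1 : orderOf (x : G) = p := by rw [Subgroup.orderOf_coe]; exact hx
  have ho2 : orderOf (y : G) = r := by rw [Subgroup.orderOf_coe]; exact hy
  refine ⟨x * y, ?_, ?_⟩
  · rw [hcomm.orderOf_mul_eq_mul_orderOf_of_coprime (by
      rw [ho1, ho2]; exact (Nat.coprime_primes hpp hr).2 hrp.symm), ho1]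
    exact Dvd.intro _ rfl
  · rw [hcomm.orderOf_mul_eq_mul_orderOf_of_coprime (by
      rw [ho1, ho2]; exact (Nat.coprime_primes hpp hr).2 hrp.symm), ho2]
    exact Dvd.intro_left _ rfl

/-- The number of Sylow subgroups is large compared with any prime dividing the centralizer cofactor. -/
theorem prime_mul_add_one_le [IsSimpleGroup G] (hG : ¬ IsMulCommutative G)
    (hP : ∀ P : Sylow p G, Nat.card (P : Subgroup G) = p) (hpd : p ∣ Nat.card G) {l : ℕ}
    (hl : l.Prime) (hlp : l ≠ p) (hd : l ∣ eP p G) : p * l + 1 ≤ Nat.card (Sylow p G) := by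
  classical
  have hpp : p.Prime := hp.out
  haveI : Fact l.Prime := ⟨hl⟩
  obtain ⟨P⟩ := (inferInstance : Nonempty (Sylow p G))
  have h1 : l ∣ Nat.card (centralizer ((P : Subgroup G) : Set G)) := by
    rw [card_cent_eq hP P]
    exact Dvd.dvd.mul_left hd p
  obtain ⟨y', hy'⟩ := exists_prime_orderOf_dvd_card' (G := centralizer ((P : Subgroup G) : Set G)) l h1
  set y : G := y'.1 with hyy
  have hyo : orderOf y = l := by rw [hyy, Subgroup.orderOf_coe]; exact hy'
  have hyc : ∀ x ∈ (P : Subgroup G), x * y = y * x := fun x hx =>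
    (Subgroup.mem_centralizer_iff.1 y'.2) x hx
  have hy1 : y ≠ 1 := by
    intro h
    rw [h, orderOf_one] at hyo
    exact hl.one_lt.ne hyo
  -- some Sylow is moved by `y`
  have hex : ∃ Q : Sylow p G, y • Q ≠ Q := by
    by_contra hn
    push Not at hn
    exact hy1 (Cfsg.Agent.Lib.Small168.eq_one_of_forall_smul_sylow hG hpd hn)
  obtain ⟨Q, hQ⟩ := hex
  -- elements of `P` and `y` fix `P`
  have hfixP : ∀ g : G, (∀ x ∈ (P : Subgroup G), x * g = g * x) → g • P = P := by
    intro g hg
    apply Sylow.smul_eq_iff_mem_normalizer.2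
    apply Subgroup.centralizer_le_normalizer
    rw [Subgroup.mem_centralizer_iff]
    intro x hx
    exact hg x hx
  have hyP : y • P = P := hfixP y hyc
  have hQP : Q ≠ P := by
    rintro rfl
    exact hQ hyP
  have hPc : ∀ x ∈ (P : Subgroup G), ∀ k : ℕ, (x * y ^ k) • P = P := by
    intro x hx k
    apply hfixP
    intro u hu
    have h2 : Commute u y := hyc u hu
    have h3 : Commute u x := comm_of_mem_sylow hP P hu hx
    exact (h3.mul_right (h2.pow_right k)).eq
  let f : ↥(P : Subgroup G) × Fin l → {R : Sylow p G // R ≠ P} :=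
    fun a => ⟨(a.1.1 * y ^ (a.2 : ℕ)) • Q, by
      intro h
      apply hQP
      have h2 := hPc a.1.1 a.1.2 a.2
      exact smul_left_cancel _ (h.trans h2.symm)⟩
  have hf : Function.Injective f := by
    rintro ⟨⟨x, hx⟩, i⟩ ⟨⟨x', hx'⟩, j⟩ h
    have h0 : (x * y ^ (i : ℕ)) • Q = (x' * y ^ (j : ℕ)) • Q := congrArg Subtype.val h
    set z : G := x'⁻¹ * x with hz
    have hzP : z ∈ (P : Subgroup G) := (P : Subgroup G).mul_mem ((P : Subgroup G).inv_mem hx') hx
    have hzy : Commute z y := hyc z hzP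
    set m : ℤ := (i : ℕ) - (j : ℕ) with hm
    have hw : (x' * y ^ (j : ℕ))⁻¹ * (x * y ^ (i : ℕ)) = z * y ^ m := by
      have e1 : (x' * y ^ (j : ℕ))⁻¹ * (x * y ^ (i : ℕ)) = (y ^ (j : ℕ))⁻¹ * z * y ^ (i : ℕ) := by
        rw [hz]; group
      have e2 : (y ^ (j : ℕ))⁻¹ * z = z * (y ^ (j : ℕ))⁻¹ := ((hzy.pow_right _).inv_right).eq.symm
      rw [e1, e2, hm, zpow_sub, mul_assoc]
      rw [zpow_natCast, zpow_natCast]
      have e3 : Commute ((y ^ (j : ℕ))⁻¹) (y ^ (i : ℕ)) := ((Commute.refl y).pow_pow _ _).inv_left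
      rw [e3.eq]
    have hst : z * y ^ m ∈ MulAction.stabilizer G Q := by
      rw [MulAction.mem_stabilizer_iff, ← hw, mul_smul, h0, inv_smul_smul]
    have hzp : z ^ p = 1 := by
      have := Subgroup.orderOf_dvd_natCard (P : Subgroup G) hzP
      rw [hP P] at this
      exact orderOf_dvd_iff_pow_eq_one.1 this
    have hYst : (y ^ m) ^ p ∈ MulAction.stabilizer G Q := by
      have h2 := Subgroup.pow_mem _ hst p
      rw [(hzy.zpow_right m).mul_pow, hzp, one_mul] at h2
      exact h2
    have hlm : (l : ℤ) ∣ m := by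
      by_contra hn
      have hY1 : (y ^ m) ^ p ≠ 1 := by
        intro hY
        apply hn
        rw [← zpow_natCast, ← zpow_mul] at hY
        have h3 := orderOf_dvd_iff_zpow_eq_one.2 hY
        rw [hyo] at h3
        have hcop : IsCoprime (l : ℤ) (p : ℤ) :=
          Nat.isCoprime_iff_coprime.2 ((Nat.coprime_primes hl hpp).2 hlp)
        exact hcop.dvd_of_dvd_mul_right h3
      have hmem : (y ^ m) ^ p ∈ zpowers y := by
        apply Subgroup.pow_mem
        exact Subgroup.zpow_mem_zpowers y m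
      have hzc : Nat.card (zpowers y) = l := by rw [Nat.card_zpowers, hyo]
      have h4 := zpowers_eq_of_mem_of_ne_one hl hzc hmem hY1
      have h5 : y ∈ zpowers ((y ^ m) ^ p) := by rw [h4]; exact Subgroup.mem_zpowers y
      have h6 : zpowers ((y ^ m) ^ p) ≤ MulAction.stabilizer G Q := Subgroup.zpowers_le.2 hYst
      exact hQ (h6 h5)
    have hm0 : m = 0 := by
      apply Int.eq_zero_of_abs_lt_dvd hlm
      have hi := i.2
      have hj := j.2
      rw [hm, abs_lt]
      constructor <;> omega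
    have hij : (i : ℕ) = (j : ℕ) := by
      have : ((i : ℕ) : ℤ) = (j : ℕ) := by omega
      exact_mod_cast this
    have hz1 : z = 1 := by
      rw [hm0, zpow_zero, mul_one] at hst
      by_contra hz1
      have h5 : z ∈ normalizer ((Q : Subgroup G) : Set G) :=
        Sylow.smul_eq_iff_mem_normalizer.1 (MulAction.mem_stabilizer_iff.1 hst)
      have h6 : z ∈ (P : Subgroup G) ⊓ (Q : Subgroup G) := by
        have := P.isPGroup'.inf_normalizer_sylow Q
        exact this.le (Subgroup.mem_inf.2 ⟨hzP, h5⟩)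
      exact hQP ((sylow_eq_of_mem_of_ne_one (hP P) (hP Q) (Subgroup.mem_inf.1 h6).1
        (Subgroup.mem_inf.1 h6).2 hz1).symm)
    have hxx : x = x' := by
      have : x'⁻¹ * x = 1 := hz1
      have h7 : x' = x := (inv_mul_eq_one.1 this)
      exact h7.symm
    subst hxx
    have hii : i = j := Fin.ext hij
    subst hii
    rfl
  have h2 := Nat.card_le_card_of_injective f hf
  rw [Nat.card_prod, hP P, Nat.card_eq_fintype_card (α := Fin l), Fintype.card_fin] at h2
  have h3 := card_sub_add_compl (α := Sylow p G) (fun R => R = P)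
  have h4 : Nat.card {R : Sylow p G // R = P} = 1 := by
    haveI : Unique {R : Sylow p G // R = P} := Unique.subtypeEq P
    exact Nat.card_unique
  have h5 : Nat.card {R : Sylow p G // ¬ R = P} = Nat.card {R : Sylow p G // R ≠ P} := rfl
  omega

end

end Cfsg.Agent.Lib.J1Ord
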