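import Mathlib
import Cfsg.Agent.Lib.J1Ord1

/-!
# Numeric configurations for a simple group of order dividing 175560
-/

set_option autoImplicit false
set_option linter.unusedSectionVars false
set_option linter.style.haveILetI false
set_option linter.unusedVariables false

namespace Cfsg.Agent.Lib.J1Ord

open Subgroup Cfsg.Agent.Lib.SmallGroups2

/-- the divisors of `175560` -/
def dvs : List ℕ := [1, 2, 3, 4, 5, 6, 7, 8, 10, 11, 12, 14, 15, 19, 20, 21, 22, 24, 28, 30, 33, 35, 38, 40, 42, 44, 55, 56, 57, 60, 66, 70, 76, 77, 84, 88, 95, 105, 110, 114, 120, 132, 133, 140, 152, 154, 165, 168, 190, 209, 210, 220, 228, 231, 264, 266, 280, 285, 308, 330, 380, 385, 399, 418, 420, 440, 456, 462, 532, 570, 616, 627, 660, 665, 760, 770, 798, 836, 840, 924, 1045, 1064, 1140, 1155, 1254, 1320, 1330, 1463, 1540, 1596, 1672, 1848, 1995, 2090, 2280, 2310, 2508, 2660, 2926, 3080, 3135, 3192, 3990, 4180, 4389, 4620, 5016, 5320, 5852, 6270, 7315, 7980, 8360, 8778, 9240, 11704, 12540, 14630, 15960, 17556, 21945, 25080,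 29260, 35112, 43890, 58520, 87780, 175560]

theorem dvs_check : (List.range 420).all (fun x => x == 0 || 175560 % x != 0 ||
    (dvs.contains x && dvs.contains (175560 / x))) = true := by decide +kernel

theorem mem_dvs {x : ℕ} (hx : x ∣ 175560) : x ∈ dvs := by
  obtain ⟨y, hy⟩ := hx
  have hx0 : 0 < x := by
    rcases Nat.eq_zero_or_pos x with h | h
    · subst h; simp at hy
    · exact h
  have hy0 : 0 < y := by
    rcases Nat.eq_zero_or_pos y with h | h
    · subst h; simp at hy
    · exact h
  have hc := List.all_eq_true.1 dvs_check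
  by_cases hxs : x < 420
  · have h1 := hc x (List.mem_range.2 hxs)
    simp only [Bool.or_eq_true, beq_iff_eq, bne_iff_ne, Bool.and_eq_true, List.contains_iff_mem] at h1
    rcases h1 with (h1 | h1) | h1
    · omega
    · exact absurd (by rw [hy]; exact Nat.mul_mod_right x y) h1
    · exact h1.1
  · have hys : y < 420 := by
      by_contra hn
      have : 420 * 420 ≤ x * y := Nat.mul_le_mul (by omega) (by omega)
      omega
    have h1 := hc y (List.mem_range.2 hys)
    simp only [Bool.or_eq_true, beq_iff_eq, bne_iff_ne, Bool.and_eq_true, List.contains_iff_mem] at h1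
    rcases h1 with (h1 | h1) | h1
    · omega
    · exact absurd (by rw [hy]; exact Nat.mul_mod_left x y) h1
    · have h2 := h1.2
      have h3 : 175560 / y = x := by rw [hy]; exact Nat.mul_div_cancel x hy0
      rwa [h3] at h2

/-- admissible data `(n, a, e)` at the prime `p`: `n` Sylow subgroups, automizer order `a`, centralizer order
`p * e` -/
def cfgOK (d p n a e : ℕ) : Bool :=
  (p * n * a * e == d) && (n % p == 1) && (decide (19 ≤ n)) && ((p - 1) % a == 0) && (decide (2 ≤ a)) &&
    (p != 19 || [2, 3, 5, 7, 11].all (fun l => e % l != 0 || decide (19 * l + 1 ≤ n)))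

/-- candidates for the automizer order -/
def aLst : List ℕ := [2, 3, 4, 5, 6, 9, 10, 18]

/-- the list of admissible data -/
def opts (d p : ℕ) : List (ℕ × ℕ × ℕ) :=
  if d % p != 0 then [(0, 1, 1)] else
  (dvs.flatMap fun n => aLst.map fun a => (n, a, d / (p * n * a))).filter
    fun o => cfgOK d p o.1 o.2.1 o.2.2

theorem mem_opts {d p n a e : ℕ} (hdp : d % p = 0) (hd : d ∣ 175560) (hp : 0 < p) (hn : n ∣ 175560)
    (ha : a ∈ aLst) (hok : cfgOK d p n a e = true) : (n, a, e) ∈ opts d p := by
  have h0 : p * n * a * e = d := by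
    have h1 := hok
    simp only [cfgOK, Bool.and_eq_true, beq_iff_eq] at h1
    exact h1.1.1.1.1.1
  have hd0 : 0 < d := Nat.pos_of_dvd_of_pos hd (by norm_num)
  have hn0 : 0 < n := Nat.pos_of_dvd_of_pos hn (by norm_num)
  have ha0 : 0 < a := by
    rcases Nat.eq_zero_or_pos a with h | h
    · subst h; simp at h0; omega
    · exact h
  rw [opts, if_neg (by simp [hdp]), List.mem_filter]
  refine ⟨?_, hok⟩
  rw [List.mem_flatMap]
  refine ⟨n, mem_dvs hn, ?_⟩
  rw [List.mem_map]
  refine ⟨a, ha, ?_⟩
  have : d / (p * n * a) = e := by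
    rw [← h0]
    exact Nat.mul_div_cancel_left e (by positivity)
  rw [this]

/-- the contribution of the prime `p` to the count of elements -/
def term (b : Bool) (p : ℕ) (o : ℕ × ℕ × ℕ) : ℕ :=
  if b then o.1 * (p - 1) * o.2.2 else o.1 * (p - 1)

/-- the independence condition on a pair of primes -/
def indepP (bp br : Bool) (r : ℕ) (op : ℕ × ℕ × ℕ) : Bool :=
  !(bp && br) || (op.2.2 % r != 0)

/-- violation of the counting bound for one selection of primes -/
def viol (d : ℕ) (o3 o5 o7 o11 o19 : ℕ × ℕ × ℕ) (b3 b5 b7 b11 b19 : Bool) : Bool :=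
  indepP b3 b5 5 o3 && indepP b3 b7 7 o3 && indepP b3 b11 11 o3 && indepP b3 b19 19 o3 &&
  indepP b5 b7 7 o5 && indepP b5 b11 11 o5 && indepP b5 b19 19 o5 &&
  indepP b7 b11 11 o7 && indepP b7 b19 19 o7 &&
  indepP b11 b19 19 o11 &&
  decide (d < term b3 3 o3 + term b5 5 o5 + term b7 7 o7 + term b11 11 o11 + term b19 19 o19 + 1)

/-- cross condition for a pair of primes -/
def crossP (p r : ℕ) (op or' : ℕ × ℕ × ℕ) : Bool :=
  (op.2.2 % r == 0) == (or'.2.2 % p == 0)

/-- impossible configuration -/
def bad (d : ℕ) (o3 o5 o7 o11 o19 : ℕ × ℕ × ℕ) : Bool :=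
  !(crossP 3 5 o3 o5 && crossP 3 7 o3 o7 && crossP 3 11 o3 o11 && crossP 3 19 o3 o19 &&
    crossP 5 7 o5 o7 && crossP 5 11 o5 o11 && crossP 5 19 o5 o19 &&
    crossP 7 11 o7 o11 && crossP 7 19 o7 o19 && crossP 11 19 o11 o19) ||
  [true, false].any fun b3 => [true, false].any fun b5 => [true, false].any fun b7 =>
    [true, false].any fun b11 => [true, false].any fun b19 =>
      viol d o3 o5 o7 o11 o19 b3 b5 b7 b11 b19

/-- all configurations are impossible -/
def chk (d : ℕ) : Bool :=
  (opts d 19).all fun o19 => (opts d 3).all fun o3 => (opts d 5).all fun o5 =>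
    (opts d 7).all fun o7 => (opts d 11).all fun o11 => bad d o3 o5 o7 o11 o19

end Cfsg.Agent.Lib.J1Ord
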