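import Mathlib
import Cfsg.Agent.Lib.J1Ord2

/-!
# From a simple group to a numeric configuration
-/

set_option autoImplicit false
set_option linter.unusedSectionVars false
set_option linter.style.haveILetI false
set_option linter.unusedVariables false

namespace Cfsg.Agent.Lib.J1Ord

open Subgroup Cfsg.Agent.Lib.SmallGroups2

variable {G : Type*} [Group G] [Finite G]

instance factP5 : Fact (Nat.Prime 5) := ⟨by norm_num⟩
instance factP7 : Fact (Nat.Prime 7) := ⟨by norm_num⟩
instance factP11 : Fact (Nat.Prime 11) := ⟨by norm_num⟩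
instance factP19 : Fact (Nat.Prime 19) := ⟨by norm_num⟩

/-- the element count and commuting data at the prime `p` -/
structure Good (G : Type*) [Group G] [Finite G] (p : ℕ) (o : ℕ × ℕ × ℕ) : Prop where
  mem : o ∈ opts (Nat.card G) p
  x1 : o.1 * (p - 1) ≤ Nat.card {g : G // orderOf g = p}
  xd : o.1 * (p - 1) * o.2.2 ≤ Nat.card {g : G // p ∣ orderOf g}
  hc : ∀ r : ℕ, r.Prime → r ≠ p → ∀ g : G, p ∣ orderOf g → r ∣ orderOf g → r ∣ o.2.2
  hc' : ∀ r : ℕ, r.Prime → r ≠ p → r ∣ o.2.2 → ∃ g : G, p ∣ orderOf g ∧ r ∣ orderOf g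

theorem sylow_card_prime {p : ℕ} [hp : Fact p.Prime] (hpd : p ∣ Nat.card G)
    (hsq : ¬ p ^ 2 ∣ Nat.card G) (P : Sylow p G) : Nat.card (P : Subgroup G) = p := by
  obtain ⟨m, hm⟩ := hpd
  have hm' : ¬ p ∣ m := by
    intro h
    apply hsq
    rw [hm, pow_two]
    exact mul_dvd_mul_left p h
  have h := sylow_card_of_card_eq (a := 1) (m := m) (by rw [pow_one]; exact hm) hm' P
  rwa [pow_one] at h

theorem mem_aLst {a p : ℕ} (hpl : p ∈ [3, 5, 7, 11, 19]) (ha : a ∣ p - 1) (h2 : 2 ≤ a) : a ∈ aLst := by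
  simp only [List.mem_cons, List.not_mem_nil, or_false] at hpl
  rcases hpl with rfl | rfl | rfl | rfl | rfl
  all_goals
    have hle := Nat.le_of_dvd (by norm_num) ha
    norm_num at ha hle
    interval_cases a <;> first | decide | (exfalso; revert ha; decide)

/-- the real data, when `p` divides the group order -/
theorem exists_good [IsSimpleGroup G] (hG : ¬ IsMulCommutative G) {p : ℕ} [hp : Fact p.Prime]
    (hpl : p ∈ [3, 5, 7, 11, 19]) (hd : Nat.card G ∣ 175560) (h19 : 19 ∣ Nat.card G) :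
    ∃ o : ℕ × ℕ × ℕ, Good G p o ∧
      (p ∣ Nat.card G → o = (Nat.card (Sylow p G), aP p G, eP p G)) := by
  have hpp : p.Prime := hp.out
  by_cases hpd : p ∣ Nat.card G
  · have hsq : ¬ p ^ 2 ∣ Nat.card G := by
      intro h
      have h1 := dvd_trans h hd
      simp only [List.mem_cons, List.not_mem_nil, or_false] at hpl
      rcases hpl with rfl | rfl | rfl | rfl | rfl <;> omega
    have hP : ∀ P : Sylow p G, Nat.card (P : Subgroup G) = p := sylow_card_prime hpd hsq
    refine ⟨(Nat.card (Sylow p G), aP p G, eP p G), ⟨?_, ?_, ?_, ?_, ?_⟩, fun _ => rfl⟩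
    · have hcard := card_eq_data hP
      have hnd : Nat.card (Sylow p G) ∣ 175560 := by
        apply dvd_trans _ hd
        rw [hcard]
        exact Dvd.dvd.mul_right (Dvd.dvd.mul_right (Dvd.intro_left p rfl) _) _
      have ha2 : 2 ≤ aP p G := by
        have h1 := aP_ne_one hG hpd
        have h2 : aP p G ≠ 0 := by
          intro h0
          have := aP_dvd hP
          rw [h0] at this
          have h3 : p - 1 = 0 := Nat.eq_zero_of_zero_dvd this
          have := hpp.two_le
          omega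
        omega
      have had := aP_dvd hP
      have hn19 : 19 ≤ Nat.card (Sylow p G) := by
        by_contra hn
        have h1 := two_mul_card_dvd_factorial_card_sylow hG hpd
        have h2 : 19 ∣ (Nat.card (Sylow p G)).factorial :=
          dvd_trans (dvd_trans h19 (Dvd.intro_left 2 rfl)) h1
        rw [Nat.Prime.dvd_factorial (by norm_num)] at h2
        omega
      apply mem_opts (Nat.mod_eq_zero_of_dvd hpd) hd hpp.pos hnd
      · exact mem_aLst hpl had ha2
      · simp only [cfgOK, Bool.and_eq_true, beq_iff_eq, decide_eq_true_eq, Bool.or_eq_true,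
          bne_iff_ne, List.all_eq_true]
        refine ⟨⟨⟨⟨⟨hcard.symm, ?_⟩, hn19⟩, Nat.mod_eq_zero_of_dvd had⟩, ha2⟩, ?_⟩
        · have h1 := card_sylow_mod (G := G) (p := p)
          rw [h1]
          exact Nat.mod_eq_of_lt hpp.one_lt
        · by_cases hp19 : p = 19
          · right
            subst hp19
            intro l hl
            by_cases hle : eP 19 G % l = 0
            · right
              have hlp : l.Prime := by
                simp only [List.mem_cons, List.not_mem_nil, or_false] at hl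
                rcases hl with rfl | rfl | rfl | rfl | rfl <;> norm_num
              have hl19 : l ≠ 19 := by
                simp only [List.mem_cons, List.not_mem_nil, or_false] at hl
                rcases hl with rfl | rfl | rfl | rfl | rfl <;> norm_num
              exact prime_mul_add_one_le hG hP hpd hlp hl19 (Nat.dvd_of_mod_eq_zero hle)
            · left
              exact hle
          · left
            exact hp19
    · exact le_of_eq (card_orderOf_eq_prime hP).symm
    · exact card_Xdiv_ge hP hsq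
    · intro r hr hrp g h1 h2
      exact dvd_eP_of_orderOf hP hr hrp h1 h2
    · intro r hr hrp h
      exact exists_of_dvd_eP hP hr hrp h
  · refine ⟨(0, 1, 1), ⟨?_, ?_, ?_, ?_, ?_⟩, fun h => absurd h hpd⟩
    · rw [opts, if_pos]
      · simp
      · have : Nat.card G % p ≠ 0 := fun h => hpd (Nat.dvd_of_mod_eq_zero h)
        simpa using this
    · simp
    · simp
    · intro r hr hrp g h1 h2
      exact absurd (dvd_trans h1 (orderOf_dvd_natCard g)) hpd
    · intro r hr hrp h
      have : r ∣ 1 := h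
      exact absurd (Nat.dvd_one.1 this) hr.one_lt.ne'

theorem card_or_le {α : Type*} [Finite α] (q q' : α → Prop) (h : ∀ x, q x → q' x → False) :
    Nat.card {x // q x} + Nat.card {x // q' x} ≤ Nat.card {x // q x ∨ q' x} := by
  classical
  let f : {x // q x} ⊕ {x // q' x} → {x // q x ∨ q' x} :=
    fun a => match a with
    | Sum.inl a => ⟨a.1, Or.inl a.2⟩
    | Sum.inr a => ⟨a.1, Or.inr a.2⟩
  have hf : Function.Injective f := by
    rintro (⟨a, ha⟩ | ⟨a, ha⟩) (⟨b, hb⟩ | ⟨b, hb⟩) hab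
    · have : a = b := congrArg Subtype.val hab
      subst this; rfl
    · have : a = b := congrArg Subtype.val hab
      subst this; exact (h a ha hb).elim
    · have : a = b := congrArg Subtype.val hab
      subst this; exact (h a hb ha).elim
    · have : a = b := congrArg Subtype.val hab
      subst this; rfl
  have h1 := Nat.card_le_card_of_injective f hf
  rwa [Nat.card_sum] at h1

/-- five pairwise disjoint sets of nonidentity elements -/
theorem five_le (q1 q2 q3 q4 q5 : G → Prop) (h1 : ¬ q1 1) (h2 : ¬ q2 1) (h3 : ¬ q3 1) (h4 : ¬ q4 1)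
    (h5 : ¬ q5 1)
    (h12 : ∀ g, q1 g → q2 g → False) (h13 : ∀ g, q1 g → q3 g → False) (h14 : ∀ g, q1 g → q4 g → False)
    (h15 : ∀ g, q1 g → q5 g → False) (h23 : ∀ g, q2 g → q3 g → False) (h24 : ∀ g, q2 g → q4 g → False)
    (h25 : ∀ g, q2 g → q5 g → False) (h34 : ∀ g, q3 g → q4 g → False) (h35 : ∀ g, q3 g → q5 g → False)
    (h45 : ∀ g, q4 g → q5 g → False) :
    Nat.card {g // q1 g} + Nat.card {g // q2 g} + Nat.card {g // q3 g} + Nat.card {g // q4 g} +
      Nat.card {g // q5 g} + 1 ≤ Nat.card G := by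
  have a1 := card_or_le q1 q2 h12
  have a2 := card_or_le (fun g => q1 g ∨ q2 g) q3 (by
    rintro g (h | h) h'
    · exact h13 g h h'
    · exact h23 g h h')
  have a3 := card_or_le (fun g => (q1 g ∨ q2 g) ∨ q3 g) q4 (by
    rintro g ((h | h) | h) h'
    · exact h14 g h h'
    · exact h24 g h h'
    · exact h34 g h h')
  have a4 := card_or_le (fun g => ((q1 g ∨ q2 g) ∨ q3 g) ∨ q4 g) q5 (by
    rintro g (((h | h) | h) | h) h'
    · exact h15 g h h'
    · exact h25 g h h'
    · exact h35 g h h'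
    · exact h45 g h h')
  have a5 := card_sub_add_compl (α := G) (fun g => ((((q1 g ∨ q2 g) ∨ q3 g) ∨ q4 g) ∨ q5 g))
  have a6 : 1 ≤ Nat.card {g : G // ¬ ((((q1 g ∨ q2 g) ∨ q3 g) ∨ q4 g) ∨ q5 g)} := by
    haveI : Nonempty {g : G // ¬ ((((q1 g ∨ q2 g) ∨ q3 g) ∨ q4 g) ∨ q5 g)} :=
      ⟨⟨1, by tauto⟩⟩
    exact Nat.card_pos
  omega

theorem natCard_le_of_imp {α : Type*} [Finite α] {q q' : α → Prop} (h : ∀ x, q x → q' x) :
    Nat.card {x // q x} ≤ Nat.card {x // q' x} :=
  Nat.card_le_card_of_injective (fun a => ⟨a.1, h a.1 a.2⟩)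
    (fun a b hab => Subtype.ext (Subtype.mk.inj hab))

/-- the predicate of a selected prime -/
def selP (b : Bool) (p : ℕ) (g : G) : Prop := if b then p ∣ orderOf g else orderOf g = p

theorem term_le {p : ℕ} {o : ℕ × ℕ × ℕ} (h : Good G p o) (b : Bool) :
    term b p o ≤ Nat.card {g : G // selP b p g} := by
  cases b
  · simpa [term, selP] using h.x1
  · simpa [term, selP] using h.xd

theorem not_selP_one {p : ℕ} (hp : p.Prime) (b : Bool) : ¬ selP b p (1 : G) := by
  cases b
  · simp [selP, orderOf_one, hp.one_lt.ne]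
  · simp [selP, orderOf_one, hp.one_lt.ne']

theorem selP_disj {p r : ℕ} (hp : p.Prime) (hr : r.Prime) (hpr : p ≠ r) {o : ℕ × ℕ × ℕ}
    (h : Good G p o) {bp br : Bool} (hi : indepP bp br r o = true) (g : G) :
    selP bp p g → selP br r g → False := by
  intro h1 h2
  cases bp <;> cases br <;> simp only [selP, if_true, if_false, Bool.false_eq_true] at h1 h2
  · exact hpr (h1.symm.trans h2)
  · rw [h1] at h2
    exact hpr ((Nat.prime_dvd_prime_iff_eq hr hp).1 h2).symm
  · rw [h2] at h1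
    exact hpr ((Nat.prime_dvd_prime_iff_eq hp hr).1 h1)
  · have h3 := h.hc r hr hpr.symm g h1 h2
    simp only [indepP, Bool.not_true, Bool.and_true, Bool.false_or, bne_iff_ne] at hi
    exact hi (Nat.mod_eq_zero_of_dvd h3)

theorem crossP_true {p r : ℕ} (hp : p.Prime) (hr : r.Prime) (hpr : p ≠ r) {o o' : ℕ × ℕ × ℕ}
    (h : Good G p o) (h' : Good G r o') : crossP p r o o' = true := by
  simp only [crossP, beq_iff_eq, beq_eq_beq]
  constructor
  · intro h1
    obtain ⟨g, h2, h3⟩ := h.hc' r hr hpr.symm (Nat.dvd_of_mod_eq_zero h1)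
    exact Nat.mod_eq_zero_of_dvd (h'.hc p hp hpr g h3 h2)
  · intro h1
    obtain ⟨g, h2, h3⟩ := h'.hc' p hp hpr (Nat.dvd_of_mod_eq_zero h1)
    exact Nat.mod_eq_zero_of_dvd (h.hc r hr hpr.symm g h3 h2)

theorem not_viol {o3 o5 o7 o11 o19 : ℕ × ℕ × ℕ} (h3 : Good G 3 o3) (h5 : Good G 5 o5) (h7 : Good G 7 o7)
    (h11 : Good G 11 o11) (h19 : Good G 19 o19) (b3 b5 b7 b11 b19 : Bool) :
    viol (Nat.card G) o3 o5 o7 o11 o19 b3 b5 b7 b11 b19 = false := by
  by_contra hv
  rw [Bool.not_eq_false] at hv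
  simp only [viol, Bool.and_eq_true, decide_eq_true_eq] at hv
  obtain ⟨⟨⟨⟨⟨⟨⟨⟨⟨⟨i35, i37⟩, i311⟩, i319⟩, i57⟩, i511⟩, i519⟩, i711⟩, i719⟩, i1119⟩, hlt⟩ := hv
  have p3 : Nat.Prime 3 := by norm_num
  have p5 : Nat.Prime 5 := by norm_num
  have p7 : Nat.Prime 7 := by norm_num
  have p11 : Nat.Prime 11 := by norm_num
  have p19 : Nat.Prime 19 := by norm_num
  have key := five_le (G := G) (selP b3 3) (selP b5 5) (selP b7 7) (selP b11 11) (selP b19 19)
    (not_selP_one p3 b3) (not_selP_one p5 b5) (not_selP_one p7 b7) (not_selP_one p11 b11)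
    (not_selP_one p19 b19)
    (selP_disj p3 p5 (by norm_num) h3 i35) (selP_disj p3 p7 (by norm_num) h3 i37)
    (selP_disj p3 p11 (by norm_num) h3 i311) (selP_disj p3 p19 (by norm_num) h3 i319)
    (selP_disj p5 p7 (by norm_num) h5 i57) (selP_disj p5 p11 (by norm_num) h5 i511)
    (selP_disj p5 p19 (by norm_num) h5 i519) (selP_disj p7 p11 (by norm_num) h7 i711)
    (selP_disj p7 p19 (by norm_num) h7 i719) (selP_disj p11 p19 (by norm_num) h11 i1119)
  have t3 := term_le h3 b3
  have t5 := term_le h5 b5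
  have t7 := term_le h7 b7
  have t11 := term_le h11 b11
  have t19 := term_le h19 b19
  omega

theorem not_bad {o3 o5 o7 o11 o19 : ℕ × ℕ × ℕ} (h3 : Good G 3 o3) (h5 : Good G 5 o5) (h7 : Good G 7 o7)
    (h11 : Good G 11 o11) (h19 : Good G 19 o19) : bad (Nat.card G) o3 o5 o7 o11 o19 = false := by
  have p3 : Nat.Prime 3 := by norm_num
  have p5 : Nat.Prime 5 := by norm_num
  have p7 : Nat.Prime 7 := by norm_num
  have p11 : Nat.Prime 11 := by norm_num
  have p19 : Nat.Prime 19 := by norm_num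
  rw [bad]
  rw [crossP_true p3 p5 (by norm_num) h3 h5, crossP_true p3 p7 (by norm_num) h3 h7,
    crossP_true p3 p11 (by norm_num) h3 h11, crossP_true p3 p19 (by norm_num) h3 h19,
    crossP_true p5 p7 (by norm_num) h5 h7, crossP_true p5 p11 (by norm_num) h5 h11,
    crossP_true p5 p19 (by norm_num) h5 h19, crossP_true p7 p11 (by norm_num) h7 h11,
    crossP_true p7 p19 (by norm_num) h7 h19, crossP_true p11 p19 (by norm_num) h11 h19]
  simp only [not_viol h3 h5 h7 h11 h19]
  simp

/-- the configuration of a simple group -/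
theorem exists_cfg [IsSimpleGroup G] (hG : ¬ IsMulCommutative G)
    (hd : Nat.card G ∣ 175560) (h19 : 19 ∣ Nat.card G) :
    ∃ o3 o5 o7 o11 o19 : ℕ × ℕ × ℕ, o3 ∈ opts (Nat.card G) 3 ∧ o5 ∈ opts (Nat.card G) 5 ∧
      o7 ∈ opts (Nat.card G) 7 ∧ o11 ∈ opts (Nat.card G) 11 ∧ o19 ∈ opts (Nat.card G) 19 ∧
      bad (Nat.card G) o3 o5 o7 o11 o19 = false ∧
      (3 ∣ Nat.card G → o3 = (Nat.card (Sylow 3 G), aP 3 G, eP 3 G)) ∧
      (5 ∣ Nat.card G → o5 = (Nat.card (Sylow 5 G), aP 5 G, eP 5 G)) ∧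
      (19 ∣ Nat.card G → o19 = (Nat.card (Sylow 19 G), aP 19 G, eP 19 G)) := by
  obtain ⟨o3, g3, r3⟩ := exists_good (p := 3) hG (by simp) hd h19
  obtain ⟨o5, g5, r5⟩ := exists_good (p := 5) hG (by simp) hd h19
  obtain ⟨o7, g7, r7⟩ := exists_good (p := 7) hG (by simp) hd h19
  obtain ⟨o11, g11, r11⟩ := exists_good (p := 11) hG (by simp) hd h19
  obtain ⟨o19, g19, r19⟩ := exists_good (p := 19) hG (by simp) hd h19
  exact ⟨o3, o5, o7, o11, o19, g3.mem, g5.mem, g7.mem, g11.mem, g19.mem, not_bad g3 g5 g7 g11 g19,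
    r3, r5, r19⟩

theorem chk_false [IsSimpleGroup G] (hG : ¬ IsMulCommutative G)
    (hd : Nat.card G ∣ 175560) (h19 : 19 ∣ Nat.card G) (hc : chk (Nat.card G) = true) : False := by
  obtain ⟨o3, o5, o7, o11, o19, m3, m5, m7, m11, m19, hb, -, -, -⟩ := exists_cfg hG hd h19
  rw [chk, List.all_eq_true] at hc
  have h1 := List.all_eq_true.1 (hc o19 m19) o3 m3
  have h2 := List.all_eq_true.1 h1 o5 m5
  have h3 := List.all_eq_true.1 h2 o7 m7
  have h4 := List.all_eq_true.1 h3 o11 m11
  rw [hb] at h4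
  exact absurd h4 (by simp)

/-- the main numeric check -/
theorem chk_all : ([19, 57, 76, 95, 133, 152, 209, 228, 285, 380, 399, 456, 532, 627, 665, 836, 1045, 1064,
    1140, 1463, 1596, 1672, 1995, 2508, 2660, 3135, 3192, 4180, 4389, 5016, 5320, 5852, 7315, 7980, 8360,
    11704, 12540, 15960, 17556, 21945, 25080, 29260, 35112, 58520, 87780] : List ℕ).all chk = true := by
  decide +kernel

theorem chk_760 : ∀ o19 ∈ opts 760 19, ∀ o3 ∈ opts 760 3, ∀ o5 ∈ opts 760 5, ∀ o7 ∈ opts 760 7,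
    ∀ o11 ∈ opts 760 11, bad 760 o3 o5 o7 o11 o19 = true ∨ (o19 = (20, 2, 1) ∧ o5 = (76, 2, 1)) := by
  decide +kernel

theorem chk_2280 : ∀ o19 ∈ opts 2280 19, ∀ o3 ∈ opts 2280 3, ∀ o5 ∈ opts 2280 5, ∀ o7 ∈ opts 2280 7,
    ∀ o11 ∈ opts 2280 11, bad 2280 o3 o5 o7 o11 o19 = true ∨
      (o19 = (20, 6, 1) ∧ o5 = (76, 2, 3) ∧ (o3 = (19, 2, 20) ∨ o3 = (76, 2, 5))) := by
  decide +kernel

end Cfsg.Agent.Lib.J1Ord
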