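import Mathlib
import Cfsg.Agent.Lib.J1Ord3

/-!
# The orders 760 and 2280, and the final exclusion of orders dividing 175560
-/

set_option autoImplicit false
set_option linter.unusedSectionVars false
set_option linter.style.haveILetI false
set_option linter.unusedVariables false

namespace Cfsg.Agent.Lib.J1Ord

open Subgroup Cfsg.Agent.Lib.SmallGroups2

variable {G : Type*} [Group G] [Finite G]

theorem card_orbit_conj (Y : Subgroup G) (z : G) :
    Nat.card {x : G // ∃ g ∈ Y, g * z * g⁻¹ = x} * Nat.card ↥(Y ⊓ centralizer ({z} : Set G)) =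
      Nat.card Y := by
  classical
  letI act : MulAction Y G := MulAction.compHom G ((MulAut.conj : G →* MulAut G).comp Y.subtype)
  have hsmul : ∀ (y : Y) (g : G), y • g = y.1 * g * y.1⁻¹ := fun y g => rfl
  haveI : Fintype Y := Fintype.ofFinite _
  haveI : Fintype (MulAction.orbit Y z) := Fintype.ofFinite _
  haveI : Fintype (MulAction.stabilizer Y z) := Fintype.ofFinite _
  have h := MulAction.card_orbit_mul_card_stabilizer_eq_card_group Y z
  rw [← Nat.card_eq_fintype_card, ← Nat.card_eq_fintype_card, ← Nat.card_eq_fintype_card] at h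
  have e1 : Nat.card {x : G // ∃ g ∈ Y, g * z * g⁻¹ = x} = Nat.card (MulAction.orbit Y z) := by
    apply Nat.card_congr
    refine ⟨fun a => ⟨a.1, ?_⟩, fun a => ⟨a.1, ?_⟩, fun _ => rfl, fun _ => rfl⟩
    · obtain ⟨g, hg, hx⟩ := a.2
      exact ⟨⟨g, hg⟩, hx⟩
    · obtain ⟨y, hy⟩ := a.2
      exact ⟨y.1, y.2, hy⟩
  have e2 : Nat.card ↥(Y ⊓ centralizer ({z} : Set G)) = Nat.card (MulAction.stabilizer Y z) := by
    apply Nat.card_congr
    refine ⟨fun a => ⟨⟨a.1, (Subgroup.mem_inf.1 a.2).1⟩, ?_⟩,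
      fun a => ⟨a.1.1, Subgroup.mem_inf.2 ⟨a.1.2, ?_⟩⟩, fun _ => rfl, fun _ => rfl⟩
    · rw [MulAction.mem_stabilizer_iff, hsmul]
      have h2 := (Subgroup.mem_centralizer_iff.1 (Subgroup.mem_inf.1 a.2).2) z rfl
      show a.1 * z * a.1⁻¹ = z
      rw [← h2]; group
    · rw [Subgroup.mem_centralizer_iff]
      intro y hy
      have hy' : y = z := hy
      subst hy'
      have h2 := MulAction.mem_stabilizer_iff.1 a.2
      rw [hsmul] at h2
      have h3 : a.1.1 * y = y * a.1.1 := mul_inv_eq_iff_eq_mul.1 h2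
      exact h3.symm
  rw [e1, e2, h]

theorem card_cent_conj (g z : G) :
    Nat.card (centralizer ({g * z * g⁻¹} : Set G)) = Nat.card (centralizer ({z} : Set G)) := by
  apply Nat.card_congr
  refine ⟨fun c => ⟨g⁻¹ * c.1 * g, ?_⟩, fun c => ⟨g * c.1 * g⁻¹, ?_⟩, ?_, ?_⟩
  · rw [Subgroup.mem_centralizer_iff]
    rintro y rfl
    have h := (Subgroup.mem_centralizer_iff.1 c.2) (g * y * g⁻¹) rfl
    have h2 : c.1 * (g * y * g⁻¹) = (g * y * g⁻¹) * c.1 := h.symm
    calc y * (g⁻¹ * c.1 * g) = g⁻¹ * ((g * y * g⁻¹) * c.1) * g := by group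
      _ = g⁻¹ * (c.1 * (g * y * g⁻¹)) * g := by rw [h2]
      _ = (g⁻¹ * c.1 * g) * y := by group
  · rw [Subgroup.mem_centralizer_iff]
    rintro y rfl
    have h := (Subgroup.mem_centralizer_iff.1 c.2) z rfl
    show (g * z * g⁻¹) * (g * c.1 * g⁻¹) = (g * c.1 * g⁻¹) * (g * z * g⁻¹)
    calc (g * z * g⁻¹) * (g * c.1 * g⁻¹) = g * (z * c.1) * g⁻¹ := by group
      _ = g * (c.1 * z) * g⁻¹ := by rw [h]
      _ = (g * c.1 * g⁻¹) * (g * z * g⁻¹) := by group
  · intro c; apply Subtype.ext; show g * (g⁻¹ * c.1 * g) * g⁻¹ = c.1; group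
  · intro c; apply Subtype.ext; show g⁻¹ * (g * c.1 * g⁻¹) * g = c.1; group

theorem exists_central_involution (T : Subgroup G) (hT : IsPGroup 2 T) (hne : T ≠ ⊥) :
    ∃ z ∈ T, orderOf z = 2 ∧ ∀ t ∈ T, t * z = z * t := by
  haveI : Nontrivial T := (Subgroup.nontrivial_iff_ne_bot T).2 hne
  haveI := hT.center_nontrivial
  have h2 : 2 ∣ Nat.card (center T) := by
    obtain ⟨k, hk⟩ := IsPGroup.iff_card.1 (hT.to_subgroup (center T))
    rw [hk]
    have h1 : 1 < Nat.card (center T) := Finite.one_lt_card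
    rw [hk] at h1
    have hk0 : k ≠ 0 := by
      rintro rfl
      simp at h1
    exact dvd_pow_self 2 hk0
  obtain ⟨z, hz⟩ := exists_prime_orderOf_dvd_card' (G := center T) 2 h2
  refine ⟨z.1.1, z.1.2, ?_, ?_⟩
  · rw [← hz, Subgroup.orderOf_coe, Subgroup.orderOf_coe]
  · intro t ht
    have h3 := (Subgroup.mem_center_iff.1 z.2) ⟨t, ht⟩
    exact (congrArg Subtype.val h3)

theorem orderOf_conj' (g z : G) : orderOf (g * z * g⁻¹) = orderOf z := by
  have := MulEquiv.orderOf_eq (MulAut.conj g) z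
  simpa using this

theorem comm_of_sq_eq_one (T : Subgroup G) (h : ∀ x ∈ T, x * x = 1) {a b : G} (ha : a ∈ T) (hb : b ∈ T) :
    a * b = b * a := by
  have h1 := h _ (T.mul_mem ha hb)
  have h2 := h a ha
  have h3 := h b hb
  calc a * b = a * b * (b * a * (b * a)) := by rw [h _ (T.mul_mem hb ha), mul_one]
    _ = a * (b * b) * a * (b * a) := by group
    _ = a * a * (b * a) := by rw [h3]; group
    _ = b * a := by rw [h2, one_mul]

/-- Simple groups of order 760 do not exist. -/
theorem not_760 [IsSimpleGroup G] (hG : ¬ IsMulCommutative G) (hc : Nat.card G = 760) : False := by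
  obtain ⟨o3, o5, o7, o11, o19, m3, m5, m7, m11, m19, hb, -, r5, r19⟩ :=
    exists_cfg hG (by rw [hc]; norm_num) (by rw [hc]; norm_num)
  rw [hc] at m3 m5 m7 m11 m19 hb
  have h0 := chk_760 o19 m19 o3 m3 o5 m5 o7 m7 o11 m11
  rw [hb] at h0
  obtain ⟨h19e, h5e⟩ := h0.resolve_left (by simp)
  have r19' := r19 (by rw [hc]; norm_num)
  have r5' := r5 (by rw [hc]; norm_num)
  rw [h19e] at r19'
  rw [h5e] at r5'
  simp only [Prod.mk.injEq] at r19' r5'
  obtain ⟨n19, a19, e19⟩ := r19'
  obtain ⟨n5, a5, e5⟩ := r5'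
  have hP19 : ∀ P : Sylow 19 G, Nat.card (P : Subgroup G) = 19 :=
    sylow_card_prime (by rw [hc]; norm_num) (by rw [hc]; norm_num)
  have hP5 : ∀ P : Sylow 5 G, Nat.card (P : Subgroup G) = 5 :=
    sylow_card_prime (by rw [hc]; norm_num) (by rw [hc]; norm_num)
  have c19 : Nat.card {g : G // orderOf g = 19} = 360 := by
    rw [card_orderOf_eq_prime hP19, ← n19]
  have c5 : Nat.card {g : G // orderOf g = 5} = 304 := by
    rw [card_orderOf_eq_prime hP5, ← n5]
  -- no commuting with involutions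
  have no19 : ∀ g : G, 19 ∣ orderOf g → 2 ∣ orderOf g → False := by
    intro g h1 h2
    have h3 := dvd_eP_of_orderOf hP19 Nat.prime_two (by norm_num) h1 h2
    rw [← e19] at h3
    omega
  have no5 : ∀ g : G, 5 ∣ orderOf g → 2 ∣ orderOf g → False := by
    intro g h1 h2
    have h3 := dvd_eP_of_orderOf hP5 Nat.prime_two (by norm_num) h1 h2
    rw [← e5] at h3
    omega
  -- a Sylow 2-subgroup
  obtain ⟨T⟩ := (inferInstance : Nonempty (Sylow 2 G))
  have hT8 : Nat.card (T : Subgroup G) = 8 := by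
    have := sylow_card_of_card_eq (p := 2) (a := 3) (m := 95) (by rw [hc]; norm_num) (by norm_num) T
    simpa using this
  have hTne : (T : Subgroup G) ≠ ⊥ := by
    intro h
    rw [h] at hT8
    simp at hT8
  obtain ⟨z, hzT, hzo, hzc⟩ := exists_central_involution (T : Subgroup G) T.isPGroup' hTne
  -- the centralizer of z
  have hcent : ∀ {r : ℕ} [Fact r.Prime], r ≠ 2 → (∀ g : G, r ∣ orderOf g → 2 ∣ orderOf g → False) →
      ¬ r ∣ Nat.card (centralizer ({z} : Set G)) := by
    intro r _ hr2 hno hd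
    obtain ⟨y, hy⟩ := exists_prime_orderOf_dvd_card' (G := centralizer ({z} : Set G)) r hd
    have hcomm : Commute (y : G) z := (Subgroup.mem_centralizer_iff.1 y.2 z rfl).symm
    have hyo : orderOf (y : G) = r := by rw [Subgroup.orderOf_coe]; exact hy
    have hrp : r.Prime := Fact.out
    have hcop : (orderOf (y : G)).Coprime (orderOf z) := by
      rw [hyo, hzo]
      exact (Nat.coprime_primes hrp Nat.prime_two).2 hr2
    apply hno ((y : G) * z)
    · rw [hcomm.orderOf_mul_eq_mul_orderOf_of_coprime hcop, hyo]; exact Dvd.intro _ rfl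
    · rw [hcomm.orderOf_mul_eq_mul_orderOf_of_coprime hcop, hzo]; exact Dvd.intro_left _ rfl
  have hC8 : Nat.card (centralizer ({z} : Set G)) = 8 := by
    have h19n := hcent (r := 19) (by norm_num) no19
    have h5n := hcent (r := 5) (by norm_num) no5
    have hd1 : Nat.card (centralizer ({z} : Set G)) ∣ 760 := by
      rw [← hc]; exact Subgroup.card_subgroup_dvd_card _
    have hTle : (T : Subgroup G) ≤ centralizer ({z} : Set G) := by
      intro t ht
      rw [Subgroup.mem_centralizer_iff]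
      rintro y rfl
      exact (hzc t ht).symm
    have hd2 : 8 ∣ Nat.card (centralizer ({z} : Set G)) := by
      rw [← hT8]; exact Subgroup.card_dvd_of_le hTle
    have hmem : Nat.card (centralizer ({z} : Set G)) ∈ Nat.divisors 760 := by
      rw [Nat.mem_divisors]; exact ⟨hd1, by norm_num⟩
    have hdiv : Nat.divisors 760 = {1, 2, 4, 5, 8, 10, 19, 20, 38, 40, 76, 95, 152, 190, 380, 760} := by
      decide +kernel
    rw [hdiv] at hmem
    simp only [Finset.mem_insert, Finset.mem_singleton] at hmem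
    rcases hmem with h | h | h | h | h | h | h | h | h | h | h | h | h | h | h | h <;>
      rw [h] at h19n h5n hd2 ⊢ <;> first | rfl | (exfalso; revert hd2; decide) | (exfalso; revert h19n; decide) | (exfalso; revert h5n; decide)
  have hTC : (T : Subgroup G) = centralizer ({z} : Set G) := by
    apply Subgroup.eq_of_le_of_card_ge
    · intro t ht
      rw [Subgroup.mem_centralizer_iff]
      rintro y rfl
      exact (hzc t ht).symm
    · rw [hC8, hT8]
  -- the class of z
  have hK : Nat.card {x : G // ∃ g ∈ (⊤ : Subgroup G), g * z * g⁻¹ = x} = 95 := by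
    have h1 := card_orbit_conj (⊤ : Subgroup G) z
    rw [top_inf_eq, hC8] at h1
    have h2 : Nat.card (⊤ : Subgroup G) = 760 := by rw [Subgroup.card_top, hc]
    rw [h2] at h1
    omega
  -- every nonidentity element of T is conjugate to z
  have hTK : ∀ x ∈ (T : Subgroup G), x ≠ 1 → ∃ g : G, g * z * g⁻¹ = x := by
    intro x hx hx1
    by_contra hn
    push Not at hn
    have hxo : orderOf x ∣ 8 := by
      have := Subgroup.orderOf_dvd_natCard (T : Subgroup G) hx
      rwa [hT8] at this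
    have hfive := five_le (G := G) (fun g => orderOf g = 19) (fun g => orderOf g = 5)
      (fun g => ∃ a ∈ (⊤ : Subgroup G), a * z * a⁻¹ = g) (fun g => g = x) (fun _ => False)
      (by simp) (by simp)
      (by
        rintro ⟨a, -, ha⟩
        have h1 : a * z * a⁻¹ * (a⁻¹)⁻¹ * z⁻¹ * a⁻¹ = 1 := by group
        have h2 : a * z * a⁻¹ = 1 := ha
        have : z = 1 := by
          have h3 : a⁻¹ * (a * z * a⁻¹) * a = z := by group
          rw [← h3, h2]; group
        rw [this, orderOf_one] at hzo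
        omega)
      hx1.symm (by simp)
      (by intro g h1 h2; omega)
      (by
        rintro g h1 ⟨a, -, ha⟩
        rw [← ha, orderOf_conj', hzo] at h1
        omega)
      (by
        intro g h1 h2
        rw [h2] at h1
        rw [h1] at hxo
        omega)
      (by simp)
      (by
        rintro g h1 ⟨a, -, ha⟩
        rw [← ha, orderOf_conj', hzo] at h1
        omega)
      (by
        intro g h1 h2
        rw [h2] at h1
        rw [h1] at hxo
        omega)
      (by simp)
      (by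
        rintro g ⟨a, -, ha⟩ h2
        exact hn a (ha.trans h2))
      (by simp)
      (by simp)
    have hx1c : Nat.card {g : G // g = x} = 1 := by
      haveI : Unique {g : G // g = x} := Unique.subtypeEq x
      exact Nat.card_unique
    have hfc : Nat.card {g : G // False} = 0 := by
      haveI : IsEmpty {g : G // False} := ⟨fun a => a.2⟩
      exact Nat.card_of_isEmpty
    rw [hc, c19, c5, hK, hx1c, hfc] at hfive
    omega
  have hsq : ∀ x ∈ (T : Subgroup G), x * x = 1 := by
    intro x hx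
    by_cases hx1 : x = 1
    · simp [hx1]
    obtain ⟨g, hg⟩ := hTK x hx hx1
    rw [← pow_two, ← orderOf_dvd_iff_pow_eq_one, ← hg, orderOf_conj', hzo]
  have hcomm : ∀ a ∈ (T : Subgroup G), ∀ b ∈ (T : Subgroup G), a * b = b * a := fun a ha b hb =>
    comm_of_sq_eq_one (T : Subgroup G) hsq ha hb
  -- conjugating elements normalize T
  have hnorm : ∀ x ∈ (T : Subgroup G), ∀ g : G, g * z * g⁻¹ = x →
      g ∈ normalizer ((T : Subgroup G) : Set G) := by
    intro x hx g hg
    have hcx : Nat.card (centralizer ({x} : Set G)) = 8 := by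
      rw [← hg, card_cent_conj, hC8]
    have hT1 : (T : Subgroup G) ≤ centralizer ({x} : Set G) := by
      intro t ht
      rw [Subgroup.mem_centralizer_iff]
      intro y hy
      rw [Set.mem_singleton_iff.1 hy]
      exact hcomm _ hx _ ht
    have hT2 : (T : Subgroup G).map (MulAut.conj g).toMonoidHom ≤ centralizer ({x} : Set G) := by
      rintro _ ⟨t, ht, rfl⟩
      rw [Subgroup.mem_centralizer_iff]
      intro y hy
      rw [Set.mem_singleton_iff.1 hy]
      show x * (g * t * g⁻¹) = (g * t * g⁻¹) * x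
      rw [← hg]
      have h3 : t * z = z * t := hzc t ht
      calc g * z * g⁻¹ * (g * t * g⁻¹) = g * (z * t) * g⁻¹ := by group
        _ = g * (t * z) * g⁻¹ := by rw [h3]
        _ = g * t * g⁻¹ * (g * z * g⁻¹) := by group
    have hT3 : (T : Subgroup G) = centralizer ({x} : Set G) :=
      Subgroup.eq_of_le_of_card_ge hT1 (by rw [hcx, hT8])
    have hcm : Nat.card ((T : Subgroup G).map (MulAut.conj g).toMonoidHom) = 8 := by
      rw [Subgroup.card_map_of_injective (MulAut.conj g).injective, hT8]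
    have hT4 : (T : Subgroup G).map (MulAut.conj g).toMonoidHom = centralizer ({x} : Set G) :=
      Subgroup.eq_of_le_of_card_ge hT2 (by rw [hcx, hcm])
    rw [Subgroup.mem_normalizer_iff]
    intro h
    constructor
    · intro hh
      have : g * h * g⁻¹ ∈ (T : Subgroup G).map (MulAut.conj g).toMonoidHom := ⟨h, hh, rfl⟩
      rw [hT4, ← hT3] at this
      exact this
    · intro hh
      rw [hT3, ← hT4] at hh
      obtain ⟨t, ht, hte⟩ := hh
      have h5 : g * t * g⁻¹ = g * h * g⁻¹ := hte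
      have h6 : t = h := by
        have := mul_right_cancel h5
        exact mul_left_cancel this
      rw [← h6]
      exact ht
  -- 7 divides the order of the normalizer
  have h7 := card_orbit_conj (normalizer ((T : Subgroup G) : Set G)) z
  have hzn : z ≠ 1 := by
    rintro rfl
    rw [orderOf_one] at hzo
    omega
  have horb : Nat.card {x : G // ∃ g ∈ normalizer ((T : Subgroup G) : Set G), g * z * g⁻¹ = x} = 7 := by
    have h8 : Nat.card {x : (T : Subgroup G) // x ≠ 1} = 7 := by
      classical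
      haveI : Fintype (T : Subgroup G) := Fintype.ofFinite _
      have h3 : Fintype.card {x : (T : Subgroup G) // x ≠ 1} = Fintype.card (T : Subgroup G) - 1 :=
        Set.card_ne_eq (1 : (T : Subgroup G))
      rw [Nat.card_eq_fintype_card, h3, ← Nat.card_eq_fintype_card, hT8]
    rw [← h8]
    apply Nat.card_congr
    refine ⟨fun a => ⟨⟨a.1, ?_⟩, ?_⟩, fun a => ⟨a.1.1, ?_⟩, fun _ => rfl, fun _ => rfl⟩
    · obtain ⟨g, hg, hx⟩ := a.2
      rw [← hx]
      exact (Subgroup.mem_normalizer_iff.1 hg z).1 hzT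
    · obtain ⟨g, hg, hx⟩ := a.2
      intro h
      have h9 : a.1 = 1 := congrArg Subtype.val h
      rw [h9] at hx
      apply hzn
      have h3 : g⁻¹ * (g * z * g⁻¹) * g = z := by group
      rw [← h3, hx]; group
    · have hne1 : a.1.1 ≠ 1 := fun h => a.2 (Subtype.ext h)
      obtain ⟨g, hg⟩ := hTK a.1.1 a.1.2 hne1
      exact ⟨g, hnorm a.1.1 a.1.2 g hg, hg⟩
  rw [horb] at h7
  have h9 : 7 ∣ Nat.card (normalizer ((T : Subgroup G) : Set G)) := Dvd.intro _ h7
  have h10 : Nat.card (normalizer ((T : Subgroup G) : Set G)) ∣ 760 := by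
    rw [← hc]; exact Subgroup.card_subgroup_dvd_card _
  have h11 := dvd_trans h9 h10
  omega

theorem conj_pow_of_norm {p0 g : G} (hg : g ∈ normalizer ((zpowers p0 : Subgroup G) : Set G)) :
    ∃ k : ℤ, g * p0 * g⁻¹ = p0 ^ k := by
  have h := (Subgroup.mem_normalizer_iff.1 hg p0).1 (Subgroup.mem_zpowers p0)
  obtain ⟨k, hk⟩ := Subgroup.mem_zpowers_iff.1 h
  exact ⟨k, hk.symm⟩

theorem comm_norm {p0 g h : G} (hg : g ∈ normalizer ((zpowers p0 : Subgroup G) : Set G))
    (hh : h ∈ normalizer ((zpowers p0 : Subgroup G) : Set G)) {y : G} (hy : y ∈ zpowers p0) :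
    (g * h) * y * (g * h)⁻¹ = (h * g) * y * (h * g)⁻¹ := by
  obtain ⟨a, ha⟩ := conj_pow_of_norm hg
  obtain ⟨b, hb⟩ := conj_pow_of_norm hh
  obtain ⟨t, rfl⟩ := Subgroup.mem_zpowers_iff.1 hy
  have e1 : (g * h) * p0 * (g * h)⁻¹ = p0 ^ (a * b) := by
    calc (g * h) * p0 * (g * h)⁻¹ = g * (h * p0 * h⁻¹) * g⁻¹ := by group
      _ = g * p0 ^ b * g⁻¹ := by rw [hb]
      _ = (g * p0 * g⁻¹) ^ b := by rw [conj_zpow]
      _ = p0 ^ (a * b) := by rw [ha, zpow_mul]
  have e2 : (h * g) * p0 * (h * g)⁻¹ = p0 ^ (a * b) := by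
    calc (h * g) * p0 * (h * g)⁻¹ = h * (g * p0 * g⁻¹) * h⁻¹ := by group
      _ = h * p0 ^ a * h⁻¹ := by rw [ha]
      _ = (h * p0 * h⁻¹) ^ a := by rw [conj_zpow]
      _ = p0 ^ (a * b) := by rw [hb, ← zpow_mul, mul_comm]
  rw [← conj_zpow, ← conj_zpow, e1, e2]

theorem comm_mem_centralizer {p0 g h : G} (hg : g ∈ normalizer ((zpowers p0 : Subgroup G) : Set G))
    (hh : h ∈ normalizer ((zpowers p0 : Subgroup G) : Set G)) :
    g * h * g⁻¹ * h⁻¹ ∈ centralizer ((zpowers p0 : Subgroup G) : Set G) := by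
  rw [Subgroup.mem_centralizer_iff]
  intro y hy
  have hn : h * g ∈ normalizer ((zpowers p0 : Subgroup G) : Set G) :=
    Subgroup.mul_mem _ hh hg
  have hq : (h * g)⁻¹ * y * (h * g) ∈ zpowers p0 := by
    have h1 := (Subgroup.mem_normalizer_iff.1 (Subgroup.inv_mem _ hn) y).1 hy
    simpa using h1
  have h1 := comm_norm hg hh hq
  have h2 : (h * g) * ((h * g)⁻¹ * y * (h * g)) * (h * g)⁻¹ = y := by group
  rw [h2] at h1
  have h3 : g * h * g⁻¹ * h⁻¹ * y * (g * h * g⁻¹ * h⁻¹)⁻¹ = y := by
    calc g * h * g⁻¹ * h⁻¹ * y * (g * h * g⁻¹ * h⁻¹)⁻¹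
        = (g * h) * ((h * g)⁻¹ * y * (h * g)) * (g * h)⁻¹ := by group
      _ = y := h1
  have h4 : g * h * g⁻¹ * h⁻¹ * y = y * (g * h * g⁻¹ * h⁻¹) := mul_inv_eq_iff_eq_mul.1 h3
  exact h4.symm

/-- A `p`-element normalizing a Sylow subgroup lies in it. -/
theorem mem_of_mem_normalizer {p : ℕ} [Fact p.Prime] (Q : Sylow p G) {y : G}
    (hy : orderOf y = p) (hn : y ∈ normalizer ((Q : Subgroup G) : Set G)) : y ∈ (Q : Subgroup G) := by
  have hp : IsPGroup p (zpowers y) := by
    rw [IsPGroup.iff_card, Nat.card_zpowers, hy]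
    exact ⟨1, by simp⟩
  have h1 := hp.inf_normalizer_sylow Q
  have h2 : y ∈ zpowers y ⊓ normalizer ((Q : Subgroup G) : Set G) :=
    Subgroup.mem_inf.2 ⟨Subgroup.mem_zpowers y, hn⟩
  have h3 : y ∈ zpowers y ⊓ (Q : Subgroup G) := h1.le h2
  exact (Subgroup.mem_inf.1 h3).2

theorem mem_norm_zpowers_of_conj_mem {y b : G} (h : b * y * b⁻¹ ∈ zpowers y) :
    b ∈ normalizer ((zpowers y : Subgroup G) : Set G) := by
  have h1 : (zpowers y).map (MulAut.conj b).toMonoidHom ≤ zpowers y := by
    rw [MonoidHom.map_zpowers, Subgroup.zpowers_le]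
    exact h
  have h2 : (zpowers y).map (MulAut.conj b).toMonoidHom = zpowers y :=
    Subgroup.eq_of_le_of_card_ge h1
      (by rw [Subgroup.card_map_of_injective (MulAut.conj b).injective])
  rw [Subgroup.mem_normalizer_iff]
  intro u
  constructor
  · intro hu
    have : b * u * b⁻¹ ∈ (zpowers y).map (MulAut.conj b).toMonoidHom := ⟨u, hu, rfl⟩
    rw [h2] at this
    exact this
  · intro hu
    have hu' : b * u * b⁻¹ ∈ zpowers y := hu
    rw [← h2] at hu'
    obtain ⟨t, ht, hte⟩ := hu'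
    have h5 : b * t * b⁻¹ = b * u * b⁻¹ := hte
    have h6 : t = u := mul_left_cancel (mul_right_cancel h5)
    rw [← h6]
    exact ht

/-- Simple groups of order 2280 do not exist. -/
theorem not_2280 [IsSimpleGroup G] (hG : ¬ IsMulCommutative G) (hc : Nat.card G = 2280) : False := by
  obtain ⟨o3, o5, o7, o11, o19, m3, m5, m7, m11, m19, hb, r3, r5, r19⟩ :=
    exists_cfg hG (by rw [hc]; norm_num) (by rw [hc]; norm_num)
  rw [hc] at m3 m5 m7 m11 m19 hb
  have h0 := chk_2280 o19 m19 o3 m3 o5 m5 o7 m7 o11 m11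
  rw [hb] at h0
  obtain ⟨h19e, h5e, h3e⟩ := h0.resolve_left (by simp)
  have r19' := r19 (by rw [hc]; norm_num)
  have r5' := r5 (by rw [hc]; norm_num)
  have r3' := r3 (by rw [hc]; norm_num)
  rw [h19e] at r19'
  rw [h5e] at r5'
  simp only [Prod.mk.injEq] at r19' r5'
  obtain ⟨n19, a19, e19⟩ := r19'
  obtain ⟨n5, a5, e5⟩ := r5'
  have hP19 : ∀ P : Sylow 19 G, Nat.card (P : Subgroup G) = 19 :=
    sylow_card_prime (by rw [hc]; norm_num) (by rw [hc]; norm_num)
  have hP5 : ∀ P : Sylow 5 G, Nat.card (P : Subgroup G) = 5 :=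
    sylow_card_prime (by rw [hc]; norm_num) (by rw [hc]; norm_num)
  have hP3 : ∀ P : Sylow 3 G, Nat.card (P : Subgroup G) = 3 :=
    sylow_card_prime (by rw [hc]; norm_num) (by rw [hc]; norm_num)
  obtain ⟨P⟩ := (inferInstance : Nonempty (Sylow 19 G))
  have hN : Nat.card (normalizer ((P : Subgroup G) : Set G)) = 114 := by
    rw [card_norm_eq hP19 P, ← a19, ← e19]
  have hCP : (P : Subgroup G) = centralizer ((P : Subgroup G) : Set G) :=
    Subgroup.eq_of_le_of_card_ge (sylow_le_centralizer hP19 P)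
      (by rw [card_cent_eq hP19 P, ← e19, hP19 P])
  -- an element of order 3 in the normalizer
  obtain ⟨x', hx'⟩ := exists_prime_orderOf_dvd_card' (G := normalizer ((P : Subgroup G) : Set G)) 3
    (by rw [hN]; norm_num)
  set x : G := x'.1 with hxdef
  have hxo : orderOf x = 3 := by rw [hxdef, Subgroup.orderOf_coe]; exact hx'
  have hxN : x ∈ normalizer ((P : Subgroup G) : Set G) := x'.2
  -- a generator of P
  obtain ⟨p0', hp0'⟩ := exists_prime_orderOf_dvd_card' (G := (P : Subgroup G)) 19 (by rw [hP19 P])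
  set p0 : G := p0'.1 with hp0def
  have hp0o : orderOf p0 = 19 := by rw [hp0def, Subgroup.orderOf_coe]; exact hp0'
  have hp0P : p0 ∈ (P : Subgroup G) := p0'.2
  have hp01 : p0 ≠ 1 := by
    intro h
    rw [h, orderOf_one] at hp0o
    omega
  have hzP : zpowers p0 = (P : Subgroup G) := zpowers_eq_of_mem_of_ne_one (by norm_num) (hP19 P) hp0P hp01
  -- the orbit of x is small
  have horb : Nat.card {u : G // ∃ g ∈ normalizer ((P : Subgroup G) : Set G), g * x * g⁻¹ = u} ≤ 19 := by
    refine le_trans ?_ (le_of_eq (hP19 P))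
    let f : {u : G // ∃ g ∈ normalizer ((P : Subgroup G) : Set G), g * x * g⁻¹ = u} → (P : Subgroup G) :=
      fun a => ⟨a.1 * x⁻¹, by
        obtain ⟨g, hg, hu⟩ := a.2
        rw [← hu, hCP, ← hzP]
        apply comm_mem_centralizer
        · rw [hzP]; exact hg
        · rw [hzP]; exact hxN⟩
    apply Nat.card_le_card_of_injective f
    intro a b hab
    have h1 : a.1 * x⁻¹ = b.1 * x⁻¹ := congrArg Subtype.val hab
    exact Subtype.ext (mul_right_cancel h1)
  have hst := card_orbit_conj (normalizer ((P : Subgroup G) : Set G)) x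
  rw [hN] at hst
  set A : Subgroup G := normalizer ((P : Subgroup G) : Set G) ⊓ centralizer ({x} : Set G) with hA
  have hA6 : 6 ≤ Nat.card A := by
    by_contra hn
    push Not at hn
    have : Nat.card {u : G // ∃ g ∈ normalizer ((P : Subgroup G) : Set G), g * x * g⁻¹ = u} * Nat.card A
        ≤ 19 * 5 := Nat.mul_le_mul horb (by omega)
    omega
  have hAd : Nat.card A ∣ 114 := Dvd.intro_left _ hst
  have hA19 : ¬ 19 ∣ Nat.card A := by
    intro hd
    obtain ⟨y', hy'⟩ := exists_prime_orderOf_dvd_card' (G := A) 19 hd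
    have hyo : orderOf (y' : G) = 19 := by rw [Subgroup.orderOf_coe]; exact hy'
    have hyN : (y' : G) ∈ normalizer ((P : Subgroup G) : Set G) := (Subgroup.mem_inf.1 y'.2).1
    have hyC : (y' : G) ∈ centralizer ({x} : Set G) := (Subgroup.mem_inf.1 y'.2).2
    have hyP := mem_of_mem_normalizer P hyo hyN
    have hy1 : (y' : G) ≠ 1 := by
      intro h
      rw [h, orderOf_one] at hyo
      omega
    have hzy := zpowers_eq_of_mem_of_ne_one (by norm_num) (hP19 P) hyP hy1
    have hxc : x ∈ centralizer ((P : Subgroup G) : Set G) := by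
      rw [Subgroup.mem_centralizer_iff]
      intro u hu
      have hu' : u ∈ zpowers (y' : G) := by rw [hzy]; exact hu
      obtain ⟨k, rfl⟩ := Subgroup.mem_zpowers_iff.1 hu'
      have h1 : Commute (y' : G) x := (Subgroup.mem_centralizer_iff.1 hyC x rfl).symm
      exact (h1.zpow_left k).eq
    rw [← hCP] at hxc
    have := Subgroup.orderOf_dvd_natCard (P : Subgroup G) hxc
    rw [hxo, hP19 P] at this
    omega
  have hA2 : 2 ∣ Nat.card A := by
    have hmem : Nat.card A ∈ Nat.divisors 114 := by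
      rw [Nat.mem_divisors]; exact ⟨hAd, by norm_num⟩
    have hdiv : Nat.divisors 114 = {1, 2, 3, 6, 19, 38, 57, 114} := by decide +kernel
    rw [hdiv] at hmem
    simp only [Finset.mem_insert, Finset.mem_singleton] at hmem
    rcases hmem with h | h | h | h | h | h | h | h <;> rw [h] at hA6 hA19 ⊢ <;> omega
  obtain ⟨z', hz'⟩ := exists_prime_orderOf_dvd_card' (G := A) 2 hA2
  have hzo : orderOf (z' : G) = 2 := by rw [Subgroup.orderOf_coe]; exact hz'
  have hzC : (z' : G) ∈ centralizer ({x} : Set G) := (Subgroup.mem_inf.1 z'.2).2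
  have hcomm : Commute x (z' : G) := Subgroup.mem_centralizer_iff.1 hzC x rfl
  have hcop : (orderOf x).Coprime (orderOf (z' : G)) := by rw [hxo, hzo]; norm_num
  have hmulo : orderOf (x * z') = 6 := by
    rw [hcomm.orderOf_mul_eq_mul_orderOf_of_coprime hcop, hxo, hzo]
  have he3 : 2 ∣ eP 3 G := dvd_eP_of_orderOf hP3 Nat.prime_two (by norm_num)
    (g := x * z') (by rw [hmulo]; norm_num) (by rw [hmulo]; norm_num)
  have he20 : eP 3 G = 20 := by
    rcases h3e with h | h
    · rw [h] at r3'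
      simp only [Prod.mk.injEq] at r3'
      exact r3'.2.2.symm
    · rw [h] at r3'
      simp only [Prod.mk.injEq] at r3'
      rw [← r3'.2.2] at he3
      omega
  -- the centralizer of the Sylow 3-subgroup containing x
  obtain ⟨Q3, hxQ3⟩ := exists_sylow_mem_of_orderOf hxo
  have hx1 : x ≠ 1 := by
    intro h
    rw [h, orderOf_one] at hxo
    omega
  have hzQ3 : zpowers x = (Q3 : Subgroup G) := zpowers_eq_of_mem_of_ne_one (by norm_num) (hP3 Q3) hxQ3 hx1
  set X : Subgroup G := centralizer ((Q3 : Subgroup G) : Set G) with hX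
  have hX60 : Nat.card X = 60 := by rw [hX, card_cent_eq hP3 Q3, he20]
  have hxX : x ∈ X := sylow_le_centralizer hP3 Q3 hxQ3
  obtain ⟨y', hy'⟩ := exists_prime_orderOf_dvd_card' (G := X) 5 (by rw [hX60]; norm_num)
  have hyo : orderOf (y' : G) = 5 := by rw [Subgroup.orderOf_coe]; exact hy'
  have hy1 : y' ≠ 1 := by
    intro h
    rw [h, orderOf_one] at hy'
    omega
  obtain ⟨R, hyR⟩ := exists_sylow_mem_of_orderOf hy'
  have hR5 : Nat.card (R : Subgroup X) = 5 := by
    have := sylow_card_of_card_eq (p := 5) (a := 1) (m := 12) (by rw [hX60]; norm_num) (by norm_num) R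
    simpa using this
  have hzR : zpowers y' = (R : Subgroup X) := zpowers_eq_of_mem_of_ne_one (by norm_num) hR5 hyR hy1
  have hst2 := card_normalizer_mul_card_sylow R
  rw [hX60] at hst2
  set B : Subgroup X := normalizer ((R : Subgroup X) : Set X) with hB
  have hmod := card_sylow_mod (G := X) (p := 5)
  have hB5 : 5 ∣ Nat.card B := by
    rw [← hR5]
    exact Subgroup.card_dvd_of_le Subgroup.le_normalizer
  have hxy : Commute x (y' : G) := by
    have h1 := (Subgroup.mem_centralizer_iff.1 y'.2) x hxQ3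
    exact h1
  have hxB : (⟨x, hxX⟩ : X) ∈ B := by
    rw [hB, Subgroup.mem_normalizer_iff]
    intro u
    constructor
    · intro hu
      have hu' : u ∈ zpowers y' := by rw [hzR]; exact hu
      obtain ⟨k, rfl⟩ := Subgroup.mem_zpowers_iff.1 hu'
      have hc1 : Commute (⟨x, hxX⟩ : X) y' := Subtype.ext hxy.eq
      rw [(hc1.zpow_right k).eq, mul_inv_cancel_right]
      exact hu
    · intro hu
      have hu' : (⟨x, hxX⟩ : X) * u * (⟨x, hxX⟩ : X)⁻¹ ∈ zpowers y' := by rw [hzR]; exact hu
      obtain ⟨k, hk⟩ := Subgroup.mem_zpowers_iff.1 hu'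
      have hc1 : Commute (⟨x, hxX⟩ : X) y' := Subtype.ext hxy.eq
      have h6 : (⟨x, hxX⟩ : X) * u = y' ^ k * (⟨x, hxX⟩ : X) := by rw [hk]; group
      have h7 : (⟨x, hxX⟩ : X) * u = (⟨x, hxX⟩ : X) * y' ^ k := by rw [h6, (hc1.zpow_right k).eq]
      have h8 : u = y' ^ k := mul_left_cancel h7
      rw [h8, ← hzR]
      exact Subgroup.zpow_mem_zpowers y' k
  have hB3 : 3 ∣ Nat.card B := by
    have h1 := Subgroup.orderOf_dvd_natCard B hxB
    have h2 : orderOf (⟨x, hxX⟩ : X) = 3 := by
      rw [← Subgroup.orderOf_coe]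
      exact hxo
    rwa [h2] at h1
  -- the normalizer of the Sylow 5-subgroup
  obtain ⟨Q5, hyQ5⟩ := exists_sylow_mem_of_orderOf hyo
  have hy1' : (y' : G) ≠ 1 := fun h => hy1 (Subtype.ext h)
  have hzQ5 : zpowers (y' : G) = (Q5 : Subgroup G) :=
    zpowers_eq_of_mem_of_ne_one (by norm_num) (hP5 Q5) hyQ5 hy1'
  have hN5 : Nat.card (normalizer ((Q5 : Subgroup G) : Set G)) = 30 := by
    rw [card_norm_eq hP5 Q5, ← a5, ← e5]
  have hle : B.map X.subtype ≤ normalizer ((Q5 : Subgroup G) : Set G) := by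
    rintro _ ⟨b, hb', rfl⟩
    rw [← hzQ5]
    apply mem_norm_zpowers_of_conj_mem
    have h1 := (Subgroup.mem_normalizer_iff.1 hb' y').1 hyR
    rw [← hzR] at h1
    obtain ⟨k, hk⟩ := Subgroup.mem_zpowers_iff.1 h1
    have h2 : (b : G) * (y' : G) * (b : G)⁻¹ = (y' : G) ^ k := by
      have := congrArg Subtype.val hk
      simpa using this.symm
    show (b : G) * (y' : G) * (b : G)⁻¹ ∈ zpowers (y' : G)
    rw [h2]
    exact Subgroup.zpow_mem_zpowers _ k
  have hB30 : Nat.card B ∣ 30 := by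
    have h1 := Subgroup.card_dvd_of_le hle
    rwa [hN5, Subgroup.card_map_of_injective X.subtype_injective] at h1
  have hBm : Nat.card B ∈ Nat.divisors 30 := by
    rw [Nat.mem_divisors]; exact ⟨hB30, by norm_num⟩
  have hdiv : Nat.divisors 30 = {1, 2, 3, 5, 6, 10, 15, 30} := by decide +kernel
  rw [hdiv] at hBm
  simp only [Finset.mem_insert, Finset.mem_singleton] at hBm
  rcases hBm with h | h | h | h | h | h | h | h <;> rw [h] at hB5 hB3 hst2 <;> omega

/-- The final exclusion. -/
theorem kill [IsSimpleGroup G] (hG : ¬ IsMulCommutative G) (hd : Nat.card G ∣ 175560)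
    (h19 : 19 ∣ Nat.card G) (hne : Nat.card G ≠ 175560) : False := by
  by_cases h4 : Nat.card G % 4 = 2
  · have h2 : 2 ∣ Nat.card G := by omega
    have hsq : ¬ 2 ^ 2 ∣ Nat.card G := by omega
    have hP : ∀ P : Sylow 2 G, Nat.card (P : Subgroup G) = 2 := sylow_card_prime h2 hsq
    have h1 := aP_dvd hP
    apply aP_ne_one hG h2 (p := 2)
    exact Nat.dvd_one.1 h1
  by_cases h760 : Nat.card G = 760
  · exact not_760 hG h760
  by_cases h2280 : Nat.card G = 2280
  · exact not_2280 hG h2280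
  have hmem := mem_dvs hd
  have hlist : ∀ x ∈ dvs, x % 19 ≠ 0 ∨ x = 175560 ∨ x % 4 = 2 ∨ x = 760 ∨ x = 2280 ∨
      x ∈ ([19, 57, 76, 95, 133, 152, 209, 228, 285, 380, 399, 456, 532, 627, 665, 836, 1045, 1064,
    1140, 1463, 1596, 1672, 1995, 2508, 2660, 3135, 3192, 4180, 4389, 5016, 5320, 5852, 7315, 7980, 8360,
    11704, 12540, 15960, 17556, 21945, 25080, 29260, 35112, 58520, 87780] : List ℕ) := by
    decide +kernel
  rcases hlist _ hmem with h | h | h | h | h | h
  · exact h (Nat.mod_eq_zero_of_dvd h19)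
  · exact hne h
  · exact h4 h
  · exact h760 h
  · exact h2280 h
  · exact chk_false hG hd h19 (List.all_eq_true.1 chk_all _ h)

end Cfsg.Agent.Lib.J1Ord
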