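import Mathlib
import Cfsg.Agent.Lib.J1Ord4

/-!
# Elementary facts on subgroups of order eight
-/

set_option autoImplicit false
set_option linter.style.haveILetI false
set_option linter.unusedSectionVars false
set_option linter.unusedVariables false

namespace Cfsg.Agent.Lib.A7Ord

open Subgroup

variable {G : Type*} [Group G] [Finite G]

theorem mem_zpowers_four {f y : G} (hf : orderOf f = 4) (hy : y ∈ zpowers f) :
    y = 1 ∨ y = f ∨ y = f ^ 2 ∨ y = f⁻¹ := by
  have h1 : y ∈ Submonoid.powers f := (mem_powers_iff_mem_zpowers).2 hy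
  obtain ⟨n, rfl⟩ := Submonoid.mem_powers_iff _ _ |>.1 h1
  have h2 : f ^ n = f ^ (n % orderOf f) := (pow_mod_orderOf f n).symm
  have h3 : f ^ 4 = 1 := by rw [← hf]; exact pow_orderOf_eq_one f
  have hinv : f⁻¹ = f ^ 3 := by
    apply inv_eq_of_mul_eq_one_right
    rw [← h3]; group
  rw [h2, hf]
  have h4 : n % 4 < 4 := Nat.mod_lt _ (by norm_num)
  interval_cases h : n % 4
  · left; simp
  · right; left; simp
  · right; right; left; rfl
  · right; right; right; exact hinv.symm

theorem sq_ne_one_of_four {f : G} (hf : orderOf f = 4) : f ^ 2 ≠ 1 := by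
  intro h
  have := orderOf_dvd_of_pow_eq_one h
  rw [hf] at this
  omega

theorem inv_ne_of_four {f : G} (hf : orderOf f = 4) : f ≠ f⁻¹ := by
  intro h
  apply sq_ne_one_of_four hf
  rw [pow_two]
  nth_rw 1 [h]
  simp

theorem eq_sq_of_mem_zpowers {f y : G} (hf : orderOf f = 4) (hy : y ∈ zpowers f) (hy2 : y ^ 2 = 1)
    (hy1 : y ≠ 1) : y = f ^ 2 := by
  rcases mem_zpowers_four hf hy with h | h | h | h
  · exact absurd h hy1
  · subst h; exact absurd hy2 (sq_ne_one_of_four hf)
  · exact h
  · subst h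
    exfalso
    apply sq_ne_one_of_four hf
    have : (f⁻¹) ^ 2 = (f ^ 2)⁻¹ := by group
    rw [this] at hy2
    exact inv_eq_one.1 hy2

theorem eq_of_mem_zpowers_order_four {f y : G} (hf : orderOf f = 4) (hy : y ∈ zpowers f)
    (hy4 : orderOf y = 4) : y = f ∨ y = f⁻¹ := by
  rcases mem_zpowers_four hf hy with h | h | h | h
  · subst h; rw [orderOf_one] at hy4; omega
  · exact Or.inl h
  · subst h
    exfalso
    have h3 : f ^ 4 = 1 := by rw [← hf]; exact pow_orderOf_eq_one f
    have : (f ^ 2) ^ 2 = 1 := by rw [← pow_mul]; exact h3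
    have h5 := orderOf_dvd_of_pow_eq_one this
    rw [hy4] at h5
    omega
  · exact Or.inr h

/-- conjugation preserves a subgroup of index two in a subgroup -/
theorem conj_mem_of_two_mul {S M : Subgroup G} (hMS : M ≤ S) (hc : Nat.card S = 2 * Nat.card M)
    {x m : G} (hx : x ∈ S) (hm : m ∈ M) : x * m * x⁻¹ ∈ M := by
  set H := M.subgroupOf S with hH
  have h1 : Nat.card H = Nat.card M := Nat.card_congr (subgroupOfEquivOfLe hMS).toEquiv
  have h2 : H.index = 2 := by
    have h3 := Subgroup.card_mul_index H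
    rw [h1, hc] at h3
    have hpos : 0 < Nat.card M := Nat.card_pos
    nlinarith
  have hn := Subgroup.normal_of_index_eq_two h2
  have h4 : (⟨m, hMS hm⟩ : S) ∈ H := Subgroup.mem_subgroupOf.2 hm
  have h5 := hn.conj_mem _ h4 ⟨x, hx⟩
  exact Subgroup.mem_subgroupOf.1 h5

/-- the product of two elements outside a subgroup of index two lies in it -/
theorem mul_mem_of_two_mul {S M : Subgroup G} (hMS : M ≤ S) (hc : Nat.card S = 2 * Nat.card M)
    {x y : G} (hx : x ∈ S) (hy : y ∈ S) (hxM : x ∉ M) (hyM : y ∉ M) : x * y ∈ M := by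
  set H := M.subgroupOf S with hH
  have h1 : Nat.card H = Nat.card M := Nat.card_congr (subgroupOfEquivOfLe hMS).toEquiv
  have h2 : H.index = 2 := by
    have h3 := Subgroup.card_mul_index H
    rw [h1, hc] at h3
    have hpos : 0 < Nat.card M := Nat.card_pos
    nlinarith
  have h5 := (Subgroup.mul_mem_iff_of_index_two h2 (a := (⟨x, hx⟩ : S)) (b := ⟨y, hy⟩)).2 (by
    constructor
    · intro h; exact absurd (Subgroup.mem_subgroupOf.1 h) hxM
    · intro h; exact absurd (Subgroup.mem_subgroupOf.1 h) hyM)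
  exact Subgroup.mem_subgroupOf.1 h5

theorem orderOf_mem_eight {S : Subgroup G} (hS : Nat.card S = 8) {x : G} (hx : x ∈ S) :
    orderOf x = 1 ∨ orderOf x = 2 ∨ orderOf x = 4 ∨ orderOf x = 8 := by
  have h1 := Subgroup.orderOf_dvd_natCard S hx
  rw [hS] at h1
  have : orderOf x ∈ Nat.divisors 8 := Nat.mem_divisors.2 ⟨h1, by norm_num⟩
  have h8 : Nat.divisors 8 = {1, 2, 4, 8} := by decide +kernel
  rw [h8] at this
  simpa using this

theorem zpowers_eq_of_order_eight {S : Subgroup G} (hS : Nat.card S = 8) {x : G} (hx : x ∈ S)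
    (ho : orderOf x = 8) : zpowers x = S := by
  apply Subgroup.eq_of_le_of_card_ge
  · rw [Subgroup.zpowers_le]; exact hx
  · rw [hS, Nat.card_zpowers, ho]

/-- A noncommutative subgroup of order eight has an element of order four. -/
theorem exists_order_four {S : Subgroup G} (hS : Nat.card S = 8)
    (hna : ∃ a ∈ S, ∃ b ∈ S, a * b ≠ b * a) : ∃ f ∈ S, orderOf f = 4 := by
  obtain ⟨a, ha, b, hb, hab⟩ := hna
  by_contra hno
  push Not at hno
  have h8 : ∀ x ∈ S, orderOf x ≠ 8 := by
    intro x hx ho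
    have hz := zpowers_eq_of_order_eight hS hx ho
    rw [← hz] at ha hb
    obtain ⟨k, rfl⟩ := Subgroup.mem_zpowers_iff.1 ha
    obtain ⟨l, rfl⟩ := Subgroup.mem_zpowers_iff.1 hb
    exact hab ((Commute.refl x).zpow_zpow k l).eq
  have hsq : ∀ x ∈ S, x * x = 1 := by
    intro x hx
    rcases orderOf_mem_eight hS hx with h | h | h | h
    · rw [orderOf_eq_one_iff.1 h]; simp
    · rw [← pow_two, ← h]; exact pow_orderOf_eq_one x
    · exact absurd h (hno x hx)
    · exact absurd h (h8 x hx)
  exact hab (Cfsg.Agent.Lib.J1Ord.comm_of_sq_eq_one S hsq ha hb)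

/-- The square of an element of order four in a subgroup of order eight is central when the
cyclic subgroup has index two. -/
theorem sq_central_of_order_four {S : Subgroup G} (hS : Nat.card S = 8) {f : G} (hf : f ∈ S)
    (ho : orderOf f = 4) : ∀ x ∈ S, x * f ^ 2 = f ^ 2 * x := by
  intro x hx
  have hMS : zpowers f ≤ S := by rw [Subgroup.zpowers_le]; exact hf
  have hc : Nat.card S = 2 * Nat.card (zpowers f) := by rw [hS, Nat.card_zpowers, ho]
  have h1 := conj_mem_of_two_mul hMS hc hx (mem_zpowers f)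
  have h2 : orderOf (x * f * x⁻¹) = 4 := by rw [Cfsg.Agent.Lib.J1Ord.orderOf_conj', ho]
  have h3 : x * f ^ 2 * x⁻¹ = f ^ 2 := by
    have e : x * f ^ 2 * x⁻¹ = (x * f * x⁻¹) ^ 2 := (conj_pow).symm
    rw [e]
    rcases eq_of_mem_zpowers_order_four ho h1 h2 with h | h
    · rw [h]
    · rw [h]
      have h4 : f ^ 4 = 1 := by rw [← ho]; exact pow_orderOf_eq_one f
      have : (f⁻¹) ^ 2 = (f ^ 2)⁻¹ := by group
      rw [this]
      apply inv_eq_of_mul_eq_one_right
      rw [← pow_add]
      exact h4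
  calc x * f ^ 2 = (x * f ^ 2 * x⁻¹) * x := by group
    _ = f ^ 2 * x := by rw [h3]

/-- A subgroup with given four elements. -/
theorem exists_subgroup_four {a b : G} (ha : a * a = 1) (hb : b * b = 1) (hab : a * b = b * a)
    (ha1 : a ≠ 1) (hb1 : b ≠ 1) (hne : a ≠ b) :
    ∃ M : Subgroup G, Nat.card M = 4 ∧ ∀ x, x ∈ M ↔ x = 1 ∨ x = a ∨ x = b ∨ x = a * b := by
  classical
  have e1 : b * a = a * b := hab.symm
  have e2 : a * (a * b) = b := by rw [← mul_assoc, ha, one_mul]
  have e3 : b * (a * b) = a := by rw [← mul_assoc, e1, mul_assoc, hb, mul_one]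
  have e4 : a * b * a = b := by rw [hab, mul_assoc, ha, mul_one]
  have e5 : a * b * b = a := by rw [mul_assoc, hb, mul_one]
  have e6 : a * b * (a * b) = 1 := by rw [mul_assoc, e3, ha]
  let M : Subgroup G :=
    { carrier := {x | x = 1 ∨ x = a ∨ x = b ∨ x = a * b}
      mul_mem' := by
        rintro x y (rfl | rfl | rfl | rfl) (rfl | rfl | rfl | rfl) <;>
          simp [ha, hb, e1, e2, e3, e4, e5, e6]
      one_mem' := Or.inl rfl
      inv_mem' := by
        have i1 : a⁻¹ = a := inv_eq_of_mul_eq_one_left ha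
        have i2 : b⁻¹ = b := inv_eq_of_mul_eq_one_left hb
        have i3 : (a * b)⁻¹ = a * b := inv_eq_of_mul_eq_one_left e6
        rintro x (rfl | rfl | rfl | rfl)
        · simp
        · simp only [Set.mem_ofPred_eq, i1]; tauto
        · simp only [Set.mem_ofPred_eq, i2]; tauto
        · simp only [Set.mem_ofPred_eq, i3]; tauto }
  refine ⟨M, ?_, fun x => Iff.rfl⟩
  have hM : (M : Set G) = (({1, a, b, a * b} : Finset G) : Set G) := by
    ext x
    simp only [Finset.coe_insert, Finset.coe_singleton, Set.mem_insert_iff, Set.mem_singleton_iff]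
    exact Iff.rfl
  have h1 : Nat.card M = Nat.card (M : Set G) := rfl
  rw [h1, hM, Nat.card_eq_card_toFinset]
  simp only [Finset.toFinset_coe]
  have hab1 : a * b ≠ 1 := by
    intro h
    apply hne
    calc a = a * (b * b) := by rw [hb, mul_one]
      _ = (a * b) * b := by group
      _ = b := by rw [h, one_mul]
  have hab2 : a * b ≠ a := by
    intro h; exact hb1 (mul_left_cancel (a := a) (by rw [h, mul_one]))
  have hab3 : a * b ≠ b := by
    intro h; exact ha1 (mul_right_cancel (b := b) (by rw [h, one_mul]))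
  rw [Finset.card_insert_of_notMem, Finset.card_insert_of_notMem, Finset.card_insert_of_notMem,
    Finset.card_singleton]
  · simp [hab3.symm]
  · simp [hne, hab2.symm]
  · simp [ha1.symm, hb1.symm, hab1.symm]

theorem exists_mem_notMem_finset {S : Subgroup G} (L : Finset G) (h : L.card < Nat.card S) :
    ∃ x ∈ S, x ∉ L := by
  classical
  by_contra hno
  push Not at hno
  have h1 : Nat.card S ≤ L.card := by
    have hi : Function.Injective (fun x : S => (⟨x.1, hno x.1 x.2⟩ : L)) := by
      intro x y hxy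
      apply Subtype.ext
      exact congrArg (fun z : L => (z : G)) hxy
    have := Nat.card_le_card_of_injective _ hi
    simpa using this
  omega

/-- A central involution of a subgroup of order eight is a square, or lies outside a subgroup of
order four. -/
theorem sq_or_four {S : Subgroup G} (hS : Nat.card S = 8) {w : G} (hwS : w ∈ S) (hw2 : w ^ 2 = 1)
    (hw1 : w ≠ 1) :
    (∃ f ∈ S, orderOf f = 4 ∧ f ^ 2 = w) ∨ ∃ M : Subgroup G, M ≤ S ∧ Nat.card M = 4 ∧ w ∉ M := by
  classical
  by_cases ha : ∃ f ∈ S, orderOf f = 4 ∧ f ^ 2 = w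
  · exact Or.inl ha
  right
  push Not at ha
  have hww : w * w = 1 := by rw [← pow_two]; exact hw2
  by_cases h4 : ∃ x ∈ S, orderOf x = 4
  · obtain ⟨x, hx, ho⟩ := h4
    refine ⟨zpowers x, by rw [Subgroup.zpowers_le]; exact hx, by rw [Nat.card_zpowers, ho], ?_⟩
    intro hm
    exact ha x hx ho (eq_sq_of_mem_zpowers ho hm hw2 hw1).symm
  push Not at h4
  by_cases h8 : ∃ x ∈ S, orderOf x = 8
  · obtain ⟨x, hx, ho⟩ := h8
    exfalso
    -- the square of the generator has order four
    have h5 : orderOf (x ^ 2) = 4 := by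
      rw [orderOf_pow, ho]; rfl
    exact h4 (x ^ 2) (S.pow_mem hx 2) h5
  push Not at h8
  have hsq : ∀ x ∈ S, x * x = 1 := by
    intro x hx
    rcases orderOf_mem_eight hS hx with h | h | h | h
    · rw [orderOf_eq_one_iff.1 h]; simp
    · rw [← pow_two, ← h]; exact pow_orderOf_eq_one x
    · exact absurd h (h4 x hx)
    · exact absurd h (h8 x hx)
  obtain ⟨a, haS, haL⟩ := exists_mem_notMem_finset (S := S) {1, w} (by
    rw [hS]; exact lt_of_le_of_lt (Finset.card_le_two) (by norm_num))
  have ha1 : a ≠ 1 := fun h => haL (by simp [h])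
  have haw : a ≠ w := fun h => haL (by simp [h])
  obtain ⟨b, hbS, hbL⟩ := exists_mem_notMem_finset (S := S) {1, a, w, a * w} (by
    rw [hS]; exact lt_of_le_of_lt (Finset.card_le_four) (by norm_num))
  have hb1 : b ≠ 1 := fun h => hbL (by simp [h])
  have hba : a ≠ b := fun h => hbL (by simp [h])
  have hbw : b ≠ w := fun h => hbL (by simp [h])
  have hbaw : b ≠ a * w := fun h => hbL (by simp [h])
  have hcomm := Cfsg.Agent.Lib.J1Ord.comm_of_sq_eq_one S hsq haS hbS
  obtain ⟨M, hMc, hMm⟩ := exists_subgroup_four (hsq a haS) (hsq b hbS) hcomm ha1 hb1 hba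
  refine ⟨M, ?_, hMc, ?_⟩
  · intro x hx
    rcases (hMm x).1 hx with rfl | rfl | rfl | rfl
    · exact S.one_mem
    · exact haS
    · exact hbS
    · exact S.mul_mem haS hbS
  · intro hw
    rcases (hMm w).1 hw with h | h | h | h
    · exact hw1 h
    · exact haw h.symm
    · exact hbw h.symm
    · apply hbaw
      have h1 : a * w = a * (a * b) := by rw [← h]
      rw [h1, ← mul_assoc, hsq a haS, one_mul]

/-- In the dihedral case there are exactly two elements of order four. -/
theorem eq_of_order_four_dihedral {S : Subgroup G} (hS : Nat.card S = 8) {f r : G} (hf : f ∈ S)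
    (ho : orderOf f = 4) (hr : r ∈ S) (hr2 : r ^ 2 = 1) (hr1 : r ≠ 1) (hrf : r ≠ f ^ 2)
    (hna : ∃ a ∈ S, ∃ b ∈ S, a * b ≠ b * a) {x : G} (hx : x ∈ S) (hxo : orderOf x = 4) :
    x = f ∨ x = f⁻¹ := by
  have hMS : zpowers f ≤ S := by rw [Subgroup.zpowers_le]; exact hf
  have hc : Nat.card S = 2 * Nat.card (zpowers f) := by rw [hS, Nat.card_zpowers, ho]
  have hrM : r ∉ zpowers f := fun h => hrf (eq_sq_of_mem_zpowers ho h hr2 hr1)
  have hrinv : r⁻¹ = r := by
    apply inv_eq_of_mul_eq_one_left
    rw [← pow_two, hr2]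
  have h1 := conj_mem_of_two_mul hMS hc hr (mem_zpowers f)
  have h2 : orderOf (r * f * r⁻¹) = 4 := by rw [Cfsg.Agent.Lib.J1Ord.orderOf_conj', ho]
  -- the decomposition of elements of `S`
  have hdec : ∀ y ∈ S, y ∈ zpowers f ∨ r * y ∈ zpowers f := by
    intro y hy
    by_cases h : y ∈ zpowers f
    · exact Or.inl h
    · exact Or.inr (mul_mem_of_two_mul hMS hc hr hy hrM h)
  rcases eq_of_mem_zpowers_order_four ho h1 h2 with h3 | h3
  · -- `r` commutes with `f`: then `S` is commutative
    exfalso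
    obtain ⟨a, ha, b, hb, hab⟩ := hna
    have hrf' : Commute r f := by
      show r * f = f * r
      calc r * f = (r * f * r⁻¹) * r := by group
        _ = f * r := by rw [h3]
    have hrz : ∀ z ∈ zpowers f, Commute r z := by
      intro z hz
      obtain ⟨k, rfl⟩ := Subgroup.mem_zpowers_iff.1 hz
      exact hrf'.zpow_right k
    have hzz : ∀ z ∈ zpowers f, ∀ z' ∈ zpowers f, Commute z z' := by
      intro z hz z' hz'
      obtain ⟨k, rfl⟩ := Subgroup.mem_zpowers_iff.1 hz
      obtain ⟨l, rfl⟩ := Subgroup.mem_zpowers_iff.1 hz'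
      exact (Commute.refl f).zpow_zpow k l
    have hform : ∀ y ∈ S, ∃ z ∈ zpowers f, y = z ∨ y = r * z := by
      intro y hy
      rcases hdec y hy with h | h
      · exact ⟨y, h, Or.inl rfl⟩
      · refine ⟨r * y, h, Or.inr ?_⟩
        rw [← mul_assoc, ← pow_two, hr2, one_mul]
    apply hab
    obtain ⟨z, hz, hza⟩ := hform a ha
    obtain ⟨z', hz', hzb⟩ := hform b hb
    have c1 := hzz z hz z' hz'
    have c2 := hrz z hz
    have c3 := hrz z' hz'
    have c4 : Commute r r := Commute.refl r
    rcases hza with rfl | rfl <;> rcases hzb with rfl | rfl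
    · exact c1.eq
    · exact (c2.symm.mul_right c1).eq
    · exact (c3.mul_left c1).eq
    · exact (Commute.mul_left (c4.mul_right c3) (c2.symm.mul_right c1)).eq
  · -- `r` inverts `f`
    have hin : ∀ z ∈ zpowers f, r * z * r⁻¹ = z⁻¹ := by
      intro z hz
      obtain ⟨k, rfl⟩ := Subgroup.mem_zpowers_iff.1 hz
      have : r * f ^ k * r⁻¹ = (r * f * r⁻¹) ^ k := by
        rw [conj_zpow]
      rw [this, h3]
      simp
    rcases hdec x hx with h | h
    · exact eq_of_mem_zpowers_order_four ho h hxo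
    · exfalso
      -- `x = r * z`
      obtain ⟨z, hz, hxz⟩ : ∃ z ∈ zpowers f, x = r * z :=
        ⟨r * x, h, by rw [← mul_assoc, ← pow_two, hr2, one_mul]⟩
      have h6 : x * x = 1 := by
        have e : (r * z) * (r * z) = (r * z * r⁻¹) * z := by rw [hrinv]; group
        rw [hxz, e, hin z hz]
        group
      have h7 : x ^ 2 = 1 := by rw [pow_two]; exact h6
      have := orderOf_dvd_of_pow_eq_one h7
      rw [hxo] at this
      omega

end Cfsg.Agent.Lib.A7Ord
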