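import Mathlib
import Cfsg.Agent.Lib.CharBasic
import Cfsg.Agent.Lib.CharLattice
import Cfsg.Agent.Lib.GenChar
import Cfsg.Agent.Lib.CharInd
import Cfsg.Agent.Lib.CharIntegrality
import Cfsg.Agent.Lib.SmallGroups2
import Cfsg.Agent.Lib.Small168

/-!
# Self-centralizing subgroups of prime order: the exceptional characters

`P` of prime order `p` with `C(w) = P` for `1 ≠ w ∈ P`, `|N(P)| = p s`.  The generalized characters
`Θ_f = Ind_P^G (f - 1)`, `f` a nontrivial linear character of `P`, satisfy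
`⟨Θ_f, Θ_g⟩ = s + δ(f ~ g)`.  When there are at least `s + 2` classes of `f` they form a "sunflower".
-/

set_option autoImplicit false
set_option linter.style.haveILetI false
set_option linter.unusedSectionVars false

namespace Cfsg.Agent.Lib.DefectOne

open Cfsg Cfsg.Agent.Lib.CharBasic Subgroup
open scoped ComplexConjugate

/-- The pair lemma with signs: orientation by positive weights. -/
theorem exists_oriented_pair {I : Type*} [Fintype I] [DecidableEq I] (d : I → ℤ) (x : I → ℤ) (hx : ∀ i, 0 < x i)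
    (hn : ∑ i, d i * d i = 2) (h0 : ∑ i, x i * d i = 0) :
    ∃ a b, a ≠ b ∧ d a = 1 ∧ d b = -1 ∧ ∀ k, k ≠ a → k ≠ b → d k = 0 := by
  have hn' : ∑ i, d i ^ 2 = 2 := by simpa [pow_two] using hn
  obtain ⟨a, b, hab, ha, hb, hrest⟩ := Cfsg.Agent.Lib.CharLattice.exists_pair_of_sum_sq_eq_two d hn'
  have hsum : ∑ i, x i * d i = x a * d a + x b * d b := by
    apply Fintype.sum_eq_add a b hab
    intro k hk
    rw [hrest k hk.1 hk.2, mul_zero]
  rw [hsum] at h0
  have hxa := hx a
  have hxb := hx b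
  have ha' : d a = 1 ∨ d a = -1 := by
    have : (d a - 1) * (d a + 1) = 0 := by ring_nf; linarith
    rcases mul_eq_zero.1 this with h | h
    · left; linarith
    · right; linarith
  have hb' : d b = 1 ∨ d b = -1 := by
    have : (d b - 1) * (d b + 1) = 0 := by ring_nf; linarith
    rcases mul_eq_zero.1 this with h | h
    · left; linarith
    · right; linarith
  rcases ha' with ha1 | ha1 <;> rcases hb' with hb1 | hb1 <;> rw [ha1, hb1] at h0
  · exfalso; linarith
  · exact ⟨a, b, hab, ha1, hb1, hrest⟩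
  · exact ⟨b, a, hab.symm, hb1, ha1, fun k h1 h2 => hrest k h2 h1⟩
  · exfalso; linarith

/-- **Sunflower lemma.**  A family of integer vectors with `u_j · u_k = s + δ_{jk}`, equal weighted sums, and common
coordinate `-1`, and at least `s + 2` members, has the form `w + σ e_{e j}`. -/
theorem sunflower {I J : Type*} [Fintype I] [DecidableEq I] [Fintype J] [DecidableEq J] (s : ℕ) (hs : 1 ≤ s)
    (u : J → I → ℤ) (x : I → ℤ) (hx : ∀ i, 0 < x i) (i₀ : I) (hi₀ : ∀ j, u j i₀ = -1)
    (hu : ∀ j k, ∑ i, u j i * u k i = (s : ℤ) + if j = k then 1 else 0)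
    (hd : ∀ j k, ∑ i, x i * u j i = ∑ i, x i * u k i)
    (ht : s + 2 ≤ Fintype.card J) :
    ∃ (w : I → ℤ) (e : J → I) (σ : ℤ), (σ = 1 ∨ σ = -1) ∧ Function.Injective e ∧ (∀ j, w (e j) = 0) ∧
      ∀ j i, u j i = w i + σ * (if i = e j then 1 else 0) := by
  classical
  have hcard : 0 < Fintype.card J := by omega
  obtain ⟨j₀⟩ : Nonempty J := Fintype.card_pos_iff.1 hcard
  -- the differences
  let d : J → I → ℤ := fun j i => u j i - u j₀ i
  have hdd : ∀ j k, j ≠ j₀ → k ≠ j₀ → ∑ i, d j i * d k i = (if j = k then 2 else 1) := by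
    intro j k hj hk
    have h1 : ∑ i, d j i * d k i = ∑ i, u j i * u k i - ∑ i, u j i * u j₀ i - ∑ i, u j₀ i * u k i + ∑ i, u j₀ i * u j₀ i := by
      rw [← Finset.sum_sub_distrib, ← Finset.sum_sub_distrib, ← Finset.sum_add_distrib]
      refine Finset.sum_congr rfl fun i _ => ?_
      simp only [d]; ring
    rw [h1, hu, hu, hu, hu]
    simp only [if_neg hj, if_neg (Ne.symm hk), if_true]
    by_cases hjk : j = k
    · simp only [if_pos hjk]; ring
    · simp only [if_neg hjk]; ring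
  have hd0 : ∀ j, ∑ i, x i * d j i = 0 := by
    intro j
    have h1 : ∑ i, x i * d j i = ∑ i, x i * u j i - ∑ i, x i * u j₀ i := by
      rw [← Finset.sum_sub_distrib]
      refine Finset.sum_congr rfl fun i _ => ?_
      simp only [d]; ring
    rw [h1, hd j j₀, sub_self]
  have hpair : ∀ j, j ≠ j₀ → ∃ a b, a ≠ b ∧ d j a = 1 ∧ d j b = -1 ∧ ∀ k, k ≠ a → k ≠ b → d j k = 0 := by
    intro j hj
    apply exists_oriented_pair (d j) x hx _ (hd0 j)
    rw [hdd j j hj hj, if_pos rfl]
  have : Nonempty I := ⟨i₀⟩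
  choose! α β hαβ hα hβ hz using hpair
  -- inner product formula
  have hip : ∀ j k, j ≠ j₀ → k ≠ j₀ → j ≠ k → d k (α j) - d k (β j) = 1 := by
    intro j k hj hk hjk
    have h1 := hdd j k hj hk
    rw [if_neg hjk] at h1
    have h2 : ∑ i, d j i * d k i = d j (α j) * d k (α j) + d j (β j) * d k (β j) := by
      apply Fintype.sum_eq_add _ _ (hαβ j hj)
      intro i hi
      rw [hz j hj i hi.1 hi.2, zero_mul]
    rw [h2, hα j hj, hβ j hj] at h1
    linarith
  have hval : ∀ k, k ≠ j₀ → ∀ i, d k i = 1 ∨ d k i = -1 ∨ d k i = 0 := by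
    intro k hk i
    by_cases h1 : i = α k
    · left; rw [h1]; exact hα k hk
    · by_cases h2 : i = β k
      · right; left; rw [h2]; exact hβ k hk
      · right; right; exact hz k hk i h1 h2
  -- value 1 only at α, value -1 only at β
  have huα : ∀ k, k ≠ j₀ → ∀ i, d k i = 1 → i = α k := by
    intro k hk i hi
    by_contra h1
    by_cases h2 : i = β k
    · rw [h2, hβ k hk] at hi; omega
    · rw [hz k hk i h1 h2] at hi; omega
  have huβ : ∀ k, k ≠ j₀ → ∀ i, d k i = -1 → i = β k := by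
    intro k hk i hi
    by_contra h2
    by_cases h1 : i = α k
    · rw [h1, hα k hk] at hi; omega
    · rw [hz k hk i h1 h2] at hi; omega
  -- dichotomy for pairs
  have hxor : ∀ j k, j ≠ j₀ → k ≠ j₀ → j ≠ k → (α j = α k ∧ β j ≠ β k) ∨ (β j = β k ∧ α j ≠ α k) := by
    intro j k hj hk hjk
    have h1 := hip j k hj hk hjk
    rcases hval k hk (α j) with h2 | h2 | h2 <;> rcases hval k hk (β j) with h3 | h3 | h3 <;> rw [h2, h3] at h1 <;>
      first
        | omega
        | (left
           refine ⟨huα k hk _ h2, ?_⟩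
           intro h4
           have := hβ k hk
           rw [← h4, h3] at this
           omega)
        | (right
           refine ⟨huβ k hk _ h3, ?_⟩
           intro h4
           have := hα k hk
           rw [← h4, h2] at this
           omega)
  -- two elements other than `j₀`
  have hcard2 : 1 < (Finset.univ.erase j₀ : Finset J).card := by
    rw [Finset.card_erase_of_mem (Finset.mem_univ _), Finset.card_univ]
    omega
  obtain ⟨j₁, hj₁, j₂, hj₂, hj₁₂⟩ := Finset.one_lt_card.1 hcard2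
  have hj₁' : j₁ ≠ j₀ := Finset.ne_of_mem_erase hj₁
  have hj₂' : j₂ ≠ j₀ := Finset.ne_of_mem_erase hj₂
  -- the star
  obtain ⟨σ', c, g, hσ', hdform, hgc, hginj⟩ : ∃ (σ' : ℤ) (c : I) (g : J → I), (σ' = 1 ∨ σ' = -1) ∧
      (∀ j, j ≠ j₀ → ∀ i, d j i = σ' * ((if i = c then 1 else 0) - (if i = g j then 1 else 0))) ∧
      (∀ j, j ≠ j₀ → g j ≠ c) ∧ (∀ j k, j ≠ j₀ → k ≠ j₀ → g j = g k → j = k) := by
    rcases hxor j₁ j₂ hj₁' hj₂' hj₁₂ with ⟨h1, h2⟩ | ⟨h1, h2⟩
    · have hall : ∀ k, k ≠ j₀ → α k = α j₁ := by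
        intro k hk
        by_cases hk1 : k = j₁
        · rw [hk1]
        by_cases hk2 : k = j₂
        · rw [hk2, h1]
        rcases hxor k j₁ hk hj₁' hk1 with ⟨h3, _⟩ | ⟨h3, _⟩
        · exact h3
        rcases hxor k j₂ hk hj₂' hk2 with ⟨h4, _⟩ | ⟨h4, _⟩
        · rw [h4, h1]
        · exact absurd (h3.symm.trans h4) h2
      refine ⟨1, α j₁, β, Or.inl rfl, ?_, ?_, ?_⟩
      · intro j hj i
        have hne : α j₁ ≠ β j := by
          rw [← hall j hj]
          exact hαβ j hj
        by_cases hi1 : i = α j₁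
        · rw [hi1, if_pos rfl, if_neg hne, ← hall j hj, hα j hj]
          ring
        · by_cases hi2 : i = β j
          · rw [hi2, if_neg (Ne.symm hne), if_pos rfl, hβ j hj]
            ring
          · rw [if_neg hi1, if_neg hi2, hz j hj i (by rwa [hall j hj]) hi2]
            ring
      · intro j hj
        rw [← hall j hj]
        exact (hαβ j hj).symm
      · intro j k hj hk hjk
        by_contra hne
        rcases hxor j k hj hk hne with ⟨_, h4⟩ | ⟨_, h4⟩
        · exact h4 hjk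
        · exact h4 ((hall j hj).trans (hall k hk).symm)
    · have hall : ∀ k, k ≠ j₀ → β k = β j₁ := by
        intro k hk
        by_cases hk1 : k = j₁
        · rw [hk1]
        by_cases hk2 : k = j₂
        · rw [hk2, h1]
        rcases hxor k j₁ hk hj₁' hk1 with ⟨h3, _⟩ | ⟨h3, _⟩
        · rcases hxor k j₂ hk hj₂' hk2 with ⟨h4, _⟩ | ⟨h4, _⟩
          · exact absurd (h3.symm.trans h4) h2
          · rw [h4, h1]
        · exact h3
      refine ⟨-1, β j₁, α, Or.inr rfl, ?_, ?_, ?_⟩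
      · intro j hj i
        have hne : β j₁ ≠ α j := by
          rw [← hall j hj]
          exact (hαβ j hj).symm
        by_cases hi1 : i = β j₁
        · rw [hi1, if_pos rfl, if_neg hne, ← hall j hj, hβ j hj]
          ring
        · by_cases hi2 : i = α j
          · rw [hi2, if_neg (Ne.symm hne), if_pos rfl, hα j hj]
            ring
          · rw [if_neg hi1, if_neg hi2, hz j hj i hi2 (by rwa [hall j hj])]
            ring
      · intro j hj
        rw [← hall j hj]
        exact (hαβ j hj)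
      · intro j k hj hk hjk
        by_contra hne
        rcases hxor j k hj hk hne with ⟨_, h4⟩ | ⟨_, h4⟩
        · exact h4 ((hall j hj).trans (hall k hk).symm)
        · exact h4 hjk
  have hσ2 : σ' * σ' = 1 := by rcases hσ' with rfl | rfl <;> norm_num
  -- pairing with `u j₀`
  have hpairing : ∀ j, j ≠ j₀ → σ' * (u j₀ c - u j₀ (g j)) = -1 := by
    intro j hj
    have h1 : ∑ i, d j i * u j₀ i = -1 := by
      have h2 : ∑ i, d j i * u j₀ i = ∑ i, u j i * u j₀ i - ∑ i, u j₀ i * u j₀ i := by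
        rw [← Finset.sum_sub_distrib]
        refine Finset.sum_congr rfl fun i _ => ?_
        simp only [d]; ring
      rw [h2, hu, hu, if_neg hj, if_pos rfl]
      ring
    have h3 : ∑ i, d j i * u j₀ i = σ' * (u j₀ c - u j₀ (g j)) := by
      have h4 : ∀ i, d j i * u j₀ i = σ' * ((if i = c then u j₀ i else 0) - (if i = g j then u j₀ i else 0)) := by
        intro i
        rw [hdform j hj i]
        split_ifs <;> ring
      simp_rw [h4]
      rw [← Finset.mul_sum, Finset.sum_sub_distrib, Finset.sum_ite_eq', Finset.sum_ite_eq']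
      simp
    rw [← h3, h1]
  have hk0 : σ' * u j₀ c = -1 := by
    by_contra hne
    have hgval : ∀ j, j ≠ j₀ → 1 ≤ u j₀ (g j) * u j₀ (g j) := by
      intro j hj
      have h1 := hpairing j hj
      have hne0 : u j₀ (g j) ≠ 0 := by
        intro h0
        rw [h0, sub_zero] at h1
        exact hne h1
      have := mul_self_pos.2 hne0
      omega
    let T : Finset I := (Finset.univ.erase j₀).image g
    have hTcard : T.card = Fintype.card J - 1 := by
      rw [Finset.card_image_of_injOn, Finset.card_erase_of_mem (Finset.mem_univ _), Finset.card_univ]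
      intro a ha b hb hab
      exact hginj a b (Finset.ne_of_mem_erase ha) (Finset.ne_of_mem_erase hb) hab
    have hi₀T : i₀ ∉ T := by
      intro hmem
      obtain ⟨j, hj, hji⟩ := Finset.mem_image.1 hmem
      have hj' : j ≠ j₀ := Finset.ne_of_mem_erase hj
      have h1 : d j i₀ = 0 := by
        simp only [d]
        rw [hi₀, hi₀]
        ring
      rw [hdform j hj' i₀, ← hji, if_neg (hgc j hj'), if_pos rfl] at h1
      rcases hσ' with rfl | rfl <;> norm_num at h1
    have hsum : ∑ i, u j₀ i * u j₀ i = (s : ℤ) + 1 := by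
      rw [hu, if_pos rfl]
    have hle : ∑ i ∈ insert i₀ T, u j₀ i * u j₀ i ≤ ∑ i, u j₀ i * u j₀ i :=
      Finset.sum_le_univ_sum_of_nonneg (fun i => mul_self_nonneg _)
    rw [Finset.sum_insert hi₀T, hi₀] at hle
    have hT : (T.card : ℤ) ≤ ∑ i ∈ T, u j₀ i * u j₀ i := by
      have : ∑ i ∈ T, (1 : ℤ) ≤ ∑ i ∈ T, u j₀ i * u j₀ i := by
        apply Finset.sum_le_sum
        intro i hi
        obtain ⟨j, hj, rfl⟩ := Finset.mem_image.1 hi
        exact hgval j (Finset.ne_of_mem_erase hj)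
      simpa using this
    rw [hsum] at hle
    rw [hTcard] at hT
    have h3 : 1 ≤ Fintype.card J := by omega
    have h4 : ((Fintype.card J - 1 : ℕ) : ℤ) = (Fintype.card J : ℤ) - 1 := by
      rw [Nat.cast_sub h3]; simp
    rw [h4] at hT
    have h5 : ((s + 2 : ℕ) : ℤ) ≤ (Fintype.card J : ℤ) := by exact_mod_cast ht
    push_cast at h5
    linarith
  have hg0 : ∀ j, j ≠ j₀ → u j₀ (g j) = 0 := by
    intro j hj
    have h1 := hpairing j hj
    have h2 : σ' * u j₀ (g j) = 0 := by linarith [mul_sub σ' (u j₀ c) (u j₀ (g j))]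
    rcases mul_eq_zero.1 h2 with h3 | h3
    · rcases hσ' with rfl | rfl <;> omega
    · exact h3
  have hcval : u j₀ c = -σ' := by
    have : σ' * (σ' * u j₀ c) = σ' * (-1) := by rw [hk0]
    rw [← mul_assoc, hσ2, one_mul] at this
    linarith
  refine ⟨fun i => u j₀ i + σ' * (if i = c then 1 else 0), fun j => if j = j₀ then c else g j, -σ', ?_, ?_, ?_, ?_⟩
  · rcases hσ' with rfl | rfl <;> simp
  · intro a b hab
    by_cases ha : a = j₀ <;> by_cases hb : b = j₀
    · rw [ha, hb]
    · simp only [ha, hb, if_true, if_false] at hab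
      exact absurd hab.symm (hgc b hb)
    · simp only [ha, hb, if_true, if_false] at hab
      exact absurd hab (hgc a ha)
    · simp only [ha, hb, if_false] at hab
      exact hginj a b ha hb hab
  · intro j
    by_cases hj : j = j₀
    · simp only [hj, if_true]
      rw [hcval]; ring
    · simp only [hj, if_false]
      rw [hg0 j hj, if_neg (hgc j hj)]; ring
  · intro j i
    by_cases hj : j = j₀
    · subst hj
      simp only [if_true]
      ring
    · simp only [hj, if_false]
      have h1 := hdform j hj i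
      simp only [d] at h1
      have h2 : u j i = u j₀ i + σ' * ((if i = c then 1 else 0) - (if i = g j then 1 else 0)) := by linarith
      rw [h2]
      ring


section General

/-- Summing an invariant function over a set on which all orbits have the same size. -/
theorem sum_eq_card_mul_sum_out {H Ω : Type*} [Group H] [MulAction H Ω] [Fintype Ω]
    [Fintype (MulAction.orbitRel.Quotient H Ω)] (s : ℕ) (hs : ∀ a : Ω, Nat.card (MulAction.orbit H a) = s)
    (F : Ω → ℤ) (hF : ∀ (x : H) (a : Ω), F (x • a) = F a) :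
    ∑ a, F a = s * ∑ j : MulAction.orbitRel.Quotient H Ω, F (Quotient.out j) := by
  classical
  let π : Ω → MulAction.orbitRel.Quotient H Ω := fun a => Quotient.mk _ a
  have h1 := Finset.sum_fiberwise (Finset.univ : Finset Ω) π F
  rw [← h1, Finset.mul_sum]
  refine Finset.sum_congr rfl fun j _ => ?_
  have hfib : ∀ a : Ω, π a = j ↔ a ∈ MulAction.orbit H (Quotient.out j) := by
    intro a
    have h2 : π a = j ↔ π a = π (Quotient.out j) := by
      have : π (Quotient.out j) = j := Quotient.out_eq j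
      rw [this]
    rw [h2]
    exact Quotient.eq
  have hval : ∀ a ∈ Finset.univ.filter (fun a => π a = j), F a = F (Quotient.out j) := by
    intro a ha
    have h3 := (hfib a).1 (Finset.mem_filter.1 ha).2
    obtain ⟨x, rfl⟩ := h3
    exact hF x _
  rw [Finset.sum_congr rfl hval, Finset.sum_const, nsmul_eq_mul]
  congr 1
  have hc : (Finset.univ.filter (fun a => π a = j)).card = Nat.card (MulAction.orbit H (Quotient.out j)) := by
    have h4 : Nat.card {a // π a = j} = (Finset.univ.filter (fun a => π a = j)).card := by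
      rw [Nat.card_eq_fintype_card, Fintype.card_subtype]
    rw [← h4]
    exact Nat.card_congr (Equiv.subtypeEquivRight hfib)
  rw [hc, hs]

end General

section Setup

variable {G : Type*} [Group G]

/-- Conjugation by an element of the normalizer, as an endomorphism of `P`. -/
def cj (P : Subgroup G) (x : normalizer (P : Set G)) : ↥P →* ↥P where
  toFun w := ⟨(x : G)⁻¹ * w * x, by
    have h1 := (mem_normalizer_iff.1 (Subgroup.inv_mem _ x.2) w).1 w.2
    simpa using h1⟩
  map_one' := by ext; simp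
  map_mul' a b := by
    ext
    simp only [Subgroup.coe_mul]
    group

@[simp] theorem cj_coe (P : Subgroup G) (x : normalizer (P : Set G)) (w : ↥P) :
    ((cj P x w : ↥P) : G) = (x : G)⁻¹ * w * x := rfl

/-- The action of the normalizer on the characters of `P`. -/
instance dualAction (P : Subgroup G) : MulAction ↥(normalizer (P : Set G)) (↥P →* ℂˣ) where
  smul x f := f.comp (cj P x)
  one_smul f := by
    ext w
    change ((f (cj P 1 w) : ℂˣ) : ℂ) = _
    congr 2
    ext
    simp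
  mul_smul x y f := by
    ext w
    change ((f (cj P (x * y) w) : ℂˣ) : ℂ) = ((f (cj P y (cj P x w)) : ℂˣ) : ℂ)
    congr 2
    ext
    simp only [cj_coe, Subgroup.coe_mul]
    group

theorem smul_apply (P : Subgroup G) (x : normalizer (P : Set G)) (f : ↥P →* ℂˣ) (w : ↥P) :
    (x • f) w = f (cj P x w) := rfl

theorem smul_ne_one (P : Subgroup G) (x : normalizer (P : Set G)) {f : ↥P →* ℂˣ} (hf : f ≠ 1) : x • f ≠ 1 := by
  intro h
  apply hf
  have h2 : x⁻¹ • (x • f) = f := inv_smul_smul x f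
  rw [← h2, h]
  ext w
  rfl

/-- The nontrivial characters. -/
abbrev NT (P : Subgroup G) : Type _ := {f : ↥P →* ℂˣ // f ≠ 1}

instance ntAction (P : Subgroup G) : MulAction ↥(normalizer (P : Set G)) (NT P) where
  smul x f := ⟨x • f.1, smul_ne_one P x f.2⟩
  one_smul f := Subtype.ext (one_smul _ f.1)
  mul_smul x y f := Subtype.ext (mul_smul x y f.1)

theorem ntAction_coe (P : Subgroup G) (x : normalizer (P : Set G)) (f : NT P) : ((x • f : NT P) : ↥P →* ℂˣ) = x • f.1 := rfl

/-- The function on `P` of a character. -/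
def chi {P : Subgroup G} (f : ↥P →* ℂˣ) : ↥P → ℂ := fun w => ((f w : ℂˣ) : ℂ)

/-- `f - 1`. -/
def alpha {P : Subgroup G} (f : ↥P →* ℂˣ) : ↥P → ℂ := chi f - chi 1

theorem alpha_one {P : Subgroup G} (f : ↥P →* ℂˣ) : alpha f 1 = 0 := by
  simp [alpha, chi]

theorem alpha_smul (P : Subgroup G) (x : normalizer (P : Set G)) (f : ↥P →* ℂˣ) (w : ↥P) :
    alpha (x • f) w = alpha f (cj P x w) := by
  simp [alpha, chi, smul_apply]

theorem chi_injective {P : Subgroup G} {f g : ↥P →* ℂˣ} (h : chi f = chi g) : f = g := by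
  ext w
  exact congrFun h w

theorem isIrr_chi {P : Subgroup G} (f : ↥P →* ℂˣ) : IsIrrCharacter ↥P (chi f) := isIrrCharacter_of_hom f

end Setup

/-- The hypotheses on `P`. -/
structure Hyp {G : Type*} [Group G] (P : Subgroup G) (p : ℕ) : Prop where
  prime : p.Prime
  card : Nat.card P = p
  cent : ∀ w ∈ P, w ≠ 1 → centralizer ({w} : Set G) = P

section Main

variable {G : Type*} [Group G] [Fintype G] {P : Subgroup G} {p : ℕ} (H : Hyp P p)
include H

theorem Hyp.zpowers_eq {w : G} (hw : w ∈ P) (hne : w ≠ 1) : zpowers w = P :=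
  Cfsg.Agent.Lib.SmallGroups2.zpowers_eq_of_mem_of_ne_one H.prime H.card hw hne

theorem Hyp.commute {u v : G} (hu : u ∈ P) (hv : v ∈ P) : u * v = v * u := by
  by_cases h1 : u = 1
  · rw [h1]; simp
  · have := H.cent u hu h1
    have h2 : v ∈ centralizer ({u} : Set G) := by rw [this]; exact hv
    exact (mem_centralizer_singleton_iff.1 h2).symm

/-- A conjugate of a nontrivial element of `P` in `P` comes from the normalizer. -/
theorem Hyp.mem_normalizer {w x : G} (hw : w ∈ P) (hne : w ≠ 1) (hx : x⁻¹ * w * x ∈ P) :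
    x ∈ normalizer (P : Set G) := by
  have hne' : x⁻¹ * w * x ≠ 1 := by
    intro h1
    apply hne
    have : w = x * (x⁻¹ * w * x) * x⁻¹ := by group
    rw [this, h1]
    group
  have hz := H.zpowers_eq hw hne
  have hz' := H.zpowers_eq hx hne'
  have hxinv : x⁻¹ ∈ normalizer (P : Set G) := by
    rw [mem_normalizer_iff]
    intro h
    constructor
    · intro hh
      rw [← hz] at hh
      obtain ⟨k, rfl⟩ := Subgroup.mem_zpowers_iff.1 hh
      have : x⁻¹ * w ^ k * x⁻¹⁻¹ = (x⁻¹ * w * x) ^ k := by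
        have := conj_zpow (a := x⁻¹) (b := w) (i := k)
        simpa using this.symm
      rw [this]
      exact Subgroup.zpow_mem _ hx k
    · intro hh
      rw [inv_inv, ← hz'] at hh
      obtain ⟨k, hk⟩ := Subgroup.mem_zpowers_iff.1 hh
      have h3 : h = x * (x⁻¹ * w * x) ^ k * x⁻¹ := by
        rw [hk]; group
      have h4 : x * (x⁻¹ * w * x) ^ k * x⁻¹ = w ^ k := by
        have := conj_zpow (a := x) (b := x⁻¹ * w * x) (i := k)
        rw [← this]
        group
      rw [h3, h4]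
      exact Subgroup.zpow_mem _ hw k
  simpa using Subgroup.inv_mem _ hxinv

/-- Values on `P` of a function induced from `P`, vanishing at the identity. -/
theorem indFun_coe [Fintype (normalizer (P : Set G))] (β : ↥P → ℂ) (hβ : β 1 = 0) (w : ↥P) :
    indFun P β (w : G) = (Nat.card P : ℂ)⁻¹ * ∑ x : normalizer (P : Set G), β (cj P x w) := by
  classical
  by_cases hw : w = 1
  · subst hw
    unfold indFun
    congr 1
    have h1 : ∀ x : G, extendByZero P β (x⁻¹ * ((1 : ↥P) : G) * x) = 0 := by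
      intro x
      have h2 : x⁻¹ * ((1 : ↥P) : G) * x = ((1 : ↥P) : G) := by simp
      rw [h2]
      rw [Cfsg.Agent.Lib.CharInd.extendByZero_coe, hβ]
    simp_rw [h1]
    simp only [Finset.sum_const_zero, map_one, hβ]
  · have hw' : (w : G) ≠ 1 := fun h => hw (Subtype.ext h)
    unfold indFun
    congr 1
    rw [← Fintype.sum_subtype_add_sum_subtype (fun x : G => x ∈ normalizer (P : Set G))]
    have h2 : ∑ x : {x : G // ¬ x ∈ normalizer (P : Set G)}, extendByZero P β ((x : G)⁻¹ * (w : G) * x) = 0 := by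
      apply Finset.sum_eq_zero
      intro x _
      apply Cfsg.Agent.Lib.CharInd.extendByZero_of_not_mem
      intro h3
      exact x.2 (H.mem_normalizer w.2 hw' h3)
    rw [h2, add_zero]
    refine Finset.sum_congr (by ext; simp) fun x _ => ?_
    have h3 : (x : G)⁻¹ * (w : G) * x = ((cj P x w : ↥P) : G) := rfl
    rw [h3, Cfsg.Agent.Lib.CharInd.extendByZero_coe]

/-! ### The dual group of `P` -/

theorem Hyp.finite_dual : Finite (↥P →* ℂˣ) := by
  haveI : Fact p.Prime := ⟨H.prime⟩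
  haveI : IsCyclic P := isCyclic_of_prime_card H.card
  letI : CommGroup P := IsCyclic.commGroup
  exact inferInstance

theorem Hyp.card_dual : Nat.card (↥P →* ℂˣ) = p := by
  haveI : Fact p.Prime := ⟨H.prime⟩
  haveI : IsCyclic P := isCyclic_of_prime_card H.card
  letI : CommGroup P := IsCyclic.commGroup
  have := CommGroup.card_monoidHom_of_hasEnoughRootsOfUnity (↥P) ℂ
  rwa [H.card] at this

theorem Hyp.exists_ne_one {w : ↥P} (hw : w ≠ 1) : ∃ f : ↥P →* ℂˣ, f w ≠ 1 := by
  haveI : Fact p.Prime := ⟨H.prime⟩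
  haveI : IsCyclic P := isCyclic_of_prime_card H.card
  letI : CommGroup P := IsCyclic.commGroup
  exact CommGroup.exists_apply_ne_one_of_hasEnoughRootsOfUnity (↥P) ℂ hw

theorem Hyp.sum_dual [Fintype (↥P →* ℂˣ)] {w : ↥P} (hw : w ≠ 1) : ∑ f : ↥P →* ℂˣ, chi f w = 0 := by
  obtain ⟨φ, hφ⟩ := H.exists_ne_one hw
  have h1 : ∑ f : ↥P →* ℂˣ, chi f w = ∑ f : ↥P →* ℂˣ, chi (φ * f) w :=
    (Fintype.sum_equiv (Equiv.mulLeft φ) _ _ (fun f => rfl)).symm
  have h2 : ∀ f : ↥P →* ℂˣ, chi (φ * f) w = ((φ w : ℂˣ) : ℂ) * chi f w := by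
    intro f
    simp [chi]
  simp_rw [h2, ← Finset.mul_sum] at h1
  have h3 : (1 - ((φ w : ℂˣ) : ℂ)) * ∑ f : ↥P →* ℂˣ, chi f w = 0 := by
    rw [sub_mul, one_mul, ← h1, sub_self]
  rcases mul_eq_zero.1 h3 with h4 | h4
  · exfalso
    apply hφ
    apply Units.ext
    simpa using (sub_eq_zero.1 h4).symm
  · exact h4

theorem Hyp.sum_dual_one [Fintype (↥P →* ℂˣ)] : ∑ f : ↥P →* ℂˣ, chi f 1 = p := by
  have h1 : ∀ f : ↥P →* ℂˣ, chi f 1 = 1 := by intro f; simp [chi]
  simp_rw [h1]
  rw [Finset.sum_const, Finset.card_univ, ← Nat.card_eq_fintype_card, H.card_dual]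
  simp

/-- A nontrivial character of `P` is nontrivial at all nontrivial elements. -/
theorem Hyp.apply_ne_one {f : ↥P →* ℂˣ} (hf : f ≠ 1) {w : ↥P} (hw : w ≠ 1) : f w ≠ 1 := by
  intro h1
  apply hf
  have hw' : (w : G) ≠ 1 := fun h => hw (Subtype.ext h)
  have hz := H.zpowers_eq w.2 hw'
  ext v
  have hv : (v : G) ∈ zpowers (w : G) := by rw [hz]; exact v.2
  obtain ⟨k, hk⟩ := Subgroup.mem_zpowers_iff.1 hv
  have hv' : v = w ^ k := by
    apply Subtype.ext
    rw [← hk]
    simp
  rw [hv', map_zpow, h1]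
  simp

theorem Hyp.stabilizer_eq {g : ↥P →* ℂˣ} (hg : g ≠ 1) :
    MulAction.stabilizer ↥(normalizer (P : Set G)) g = P.subgroupOf (normalizer (P : Set G)) := by
  ext x
  rw [MulAction.mem_stabilizer_iff, Subgroup.mem_subgroupOf]
  constructor
  · intro hx
    obtain ⟨w, hw⟩ : ∃ w : ↥P, w ≠ 1 := by
      have : Nontrivial ↥P := by
        rw [← Finite.one_lt_card_iff_nontrivial, H.card]
        exact H.prime.one_lt
      exact exists_ne 1
    have h1 : g (cj P x w) = g w := by
      rw [← smul_apply, hx]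
    have h2 : cj P x w = w := by
      by_contra hne
      have h3 : (cj P x w) * w⁻¹ ≠ 1 := by
        intro h4
        exact hne (mul_inv_eq_one.1 h4)
      apply H.apply_ne_one hg h3
      rw [map_mul, h1, map_inv, mul_inv_cancel]
    have hw' : (w : G) ≠ 1 := fun h => hw (Subtype.ext h)
    have h3 : (x : G)⁻¹ * w * x = w := congrArg Subtype.val h2
    have h4 : (x : G) ∈ centralizer ({(w : G)} : Set G) := by
      rw [mem_centralizer_singleton_iff]
      calc (x : G) * w = x * ((x : G)⁻¹ * w * x) := by rw [h3]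
        _ = w * x := by group
    rwa [H.cent w w.2 hw'] at h4
  · intro hx
    ext w
    rw [smul_apply]
    congr 2
    apply Subtype.ext
    rw [cj_coe]
    have h5 := H.commute w.2 hx
    calc (x : G)⁻¹ * w * x = (x : G)⁻¹ * (w * x) := by group
      _ = (x : G)⁻¹ * (x * w) := by rw [h5]
      _ = w := by group

theorem Hyp.card_stabilizer {g : ↥P →* ℂˣ} (hg : g ≠ 1) :
    Nat.card (MulAction.stabilizer ↥(normalizer (P : Set G)) g) = p := by
  rw [H.stabilizer_eq hg, Nat.card_congr (subgroupOfEquivOfLe Subgroup.le_normalizer).toEquiv, H.card]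

theorem Hyp.card_orbit {s : ℕ} (hN : Nat.card (normalizer (P : Set G)) = p * s) (a : NT P) :
    Nat.card (MulAction.orbit ↥(normalizer (P : Set G)) a) = s := by
  have h1 := Nat.card_congr (MulAction.orbitProdStabilizerEquivGroup ↥(normalizer (P : Set G)) a)
  rw [Nat.card_prod, hN] at h1
  have h2 : Nat.card (MulAction.stabilizer ↥(normalizer (P : Set G)) a) = p := by
    rw [← H.card_stabilizer a.2]
    apply Nat.card_congr
    apply Equiv.subtypeEquivRight
    intro x
    rw [MulAction.mem_stabilizer_iff, MulAction.mem_stabilizer_iff]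
    exact Subtype.ext_iff
  rw [h2, mul_comm] at h1
  exact Nat.eq_of_mul_eq_mul_left H.prime.pos h1

/-- Counting the elements moving `g` to `f`. -/
theorem Hyp.card_transporter {g : ↥P →* ℂˣ} (hg : g ≠ 1) (f : ↥P →* ℂˣ)
    [Decidable (∃ x : normalizer (P : Set G), x • g = f)] :
    Nat.card {x : normalizer (P : Set G) // x • g = f} = if ∃ x : normalizer (P : Set G), x • g = f then p else 0 := by
  classical
  split_ifs with h
  · obtain ⟨x₀, rfl⟩ := h
    rw [← H.card_stabilizer hg]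
    refine Nat.card_congr ⟨fun x => ⟨x₀⁻¹ * x.1, ?_⟩, fun y => ⟨x₀ * y.1, ?_⟩, ?_, ?_⟩
    · rw [MulAction.mem_stabilizer_iff, mul_smul, x.2, inv_smul_smul]
    · have := MulAction.mem_stabilizer_iff.1 y.2
      rw [mul_smul, this]
    · intro x
      apply Subtype.ext
      simp
    · intro y
      apply Subtype.ext
      simp
  · haveI : IsEmpty {x : normalizer (P : Set G) // x • g = f} := ⟨fun x => h ⟨x.1, x.2⟩⟩
    simp

/-! ### The exceptional generalized characters -/

/-- `Θ_f = Ind_P^G (f - 1)`. -/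
noncomputable def theta (P : Subgroup G) (f : ↥P →* ℂˣ) : G → ℂ := indFun P (alpha f)

omit H in
theorem theta_isGen (f : ↥P →* ℂˣ) : IsGeneralizedCharacter G (theta P f) := by
  unfold theta alpha
  rw [Cfsg.Agent.Lib.CharInd.indFun_sub]
  exact ⟨_, _, Cfsg.Agent.Lib.CharInd.indFun_isCharacter P (IsIrrCharacter.isCharacter (isIrr_chi f)),
    Cfsg.Agent.Lib.CharInd.indFun_isCharacter P (IsIrrCharacter.isCharacter (isIrr_chi 1)), rfl⟩

omit H in
theorem theta_isClass (f : ↥P →* ℂˣ) : IsClassFunction G (theta P f) :=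
  Cfsg.Agent.Lib.CharInd.indFun_isClassFunction P _

omit H in
theorem classInner_chi [Fintype ↥P] (f g : ↥P →* ℂˣ) [Decidable (f = g)] :
    classInner (chi f) (chi g) = if f = g then 1 else 0 := by
  split_ifs with h
  · rw [h]
    exact classInner_irr_self (isIrr_chi g)
  · exact classInner_irr_ne (isIrr_chi f) (isIrr_chi g) (fun e => h (chi_injective e))

omit H in
theorem classInner_alpha [Fintype ↥P] {f g : ↥P →* ℂˣ} (hf : f ≠ 1) (hg : g ≠ 1) [Decidable (f = g)] :
    classInner (alpha f) (alpha g) = (if f = g then 1 else 0) + 1 := by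
  classical
  unfold alpha
  rw [classInner_sub_left, classInner_sub_right, classInner_sub_right, classInner_chi, classInner_chi,
    classInner_chi, classInner_chi, if_neg hf, if_neg hg.symm, if_pos rfl]
  simp

theorem inner_theta {s : ℕ} (hN : Nat.card (normalizer (P : Set G)) = p * s) {f g : ↥P →* ℂˣ} (hf : f ≠ 1) (hg : g ≠ 1)
    [Decidable (∃ x : normalizer (P : Set G), x • g = f)] :
    classInner (theta P f) (theta P g) = (s : ℂ) + if ∃ x : normalizer (P : Set G), x • g = f then 1 else 0 := by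
  classical
  haveI : Fintype ↥P := Fintype.ofFinite _
  haveI : Fintype (normalizer (P : Set G)) := Fintype.ofFinite _
  have hp0 : (p : ℂ) ≠ 0 := by exact_mod_cast H.prime.ne_zero
  unfold theta
  rw [Cfsg.Agent.Lib.CharInd.frobenius P (alpha f) (Cfsg.Agent.Lib.CharInd.indFun_isClassFunction P (alpha g))]
  have h1 : (fun h : ↥P => indFun P (alpha g) (h : G)) =
      ∑ x : normalizer (P : Set G), ((p : ℂ)⁻¹) • alpha (x • g) := by
    funext h
    rw [indFun_coe H _ (alpha_one g), H.card, Finset.sum_apply]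
    simp only [Pi.smul_apply, smul_eq_mul, alpha_smul]
    rw [Finset.mul_sum]
  rw [h1, classInner_sum_right]
  have h2 : ∀ x : normalizer (P : Set G), classInner (alpha f) (((p : ℂ)⁻¹) • alpha (x • g)) =
      (p : ℂ)⁻¹ * ((if f = x • g then 1 else 0) + 1) := by
    intro x
    rw [classInner_smul_right, classInner_alpha hf (smul_ne_one P x hg)]
    simp
  simp_rw [h2]
  rw [← Finset.mul_sum, Finset.sum_add_distrib, Finset.sum_const, Finset.card_univ, ← Nat.card_eq_fintype_card, hN]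
  have h3 : ∑ x : normalizer (P : Set G), (if f = x • g then (1 : ℂ) else 0) =
      (Nat.card {x : normalizer (P : Set G) // x • g = f} : ℂ) := by
    rw [Finset.sum_boole, Nat.card_eq_fintype_card, Fintype.card_subtype]
    congr 2
    ext x
    simp [eq_comm]
  rw [h3, H.card_transporter hg f]
  split_ifs with hex
  · simp only [nsmul_eq_mul, Nat.cast_mul, mul_one]
    field_simp
    ring
  · simp only [nsmul_eq_mul, Nat.cast_mul, mul_one, Nat.cast_zero, zero_add, add_zero]
    field_simp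

theorem theta_smul {s : ℕ} (hN : Nat.card (normalizer (P : Set G)) = p * s) (x : normalizer (P : Set G))
    {g : ↥P →* ℂˣ} (hg : g ≠ 1) : theta P (x • g) = theta P g := by
  classical
  have hx : x • g ≠ 1 := smul_ne_one P x hg
  apply sub_eq_zero.1
  apply classInner_self_eq_zero
  rw [classInner_sub_left, classInner_sub_right, classInner_sub_right,
    inner_theta H hN hx hx, inner_theta H hN hx hg, inner_theta H hN hg hx, inner_theta H hN hg hg,
    if_pos ⟨1, one_smul _ _⟩, if_pos ⟨x, rfl⟩, if_pos ⟨x⁻¹, inv_smul_smul x g⟩, if_pos ⟨1, one_smul _ _⟩]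
  ring

theorem theta_one (f : ↥P →* ℂˣ) : theta P f 1 = 0 := by
  classical
  haveI : Fintype (normalizer (P : Set G)) := Fintype.ofFinite _
  have h1 := indFun_coe H (alpha f) (alpha_one f) 1
  have h2 : ∀ x : normalizer (P : Set G), alpha f (cj P x 1) = 0 := by
    intro x
    rw [map_one, alpha_one]
  simp_rw [h2] at h1
  simpa [theta] using h1

omit H in
/-- Parseval for class functions. -/
theorem parseval {θ θ' : G → ℂ} (hθ' : IsClassFunction G θ') :
    classInner θ θ' = ∑ χ : IrrCharacter G, conj (classInner θ' (χ : G → ℂ)) * classInner θ (χ : G → ℂ) := by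
  conv_lhs => rw [classFunction_eq_sum hθ']
  rw [classInner_sum_right]
  refine Finset.sum_congr rfl fun χ _ => ?_
  rw [classInner_smul_right]

omit H in
theorem eval_eq_sum {θ : G → ℂ} (hθ : IsClassFunction G θ) (g : G) :
    θ g = ∑ χ : IrrCharacter G, classInner θ (χ : G → ℂ) * (χ : G → ℂ) g := by
  conv_lhs => rw [classFunction_eq_sum hθ]
  rw [Finset.sum_apply]
  rfl

omit H in
/-- The trivial irreducible character. -/
noncomputable def oneIrr (G : Type*) [Group G] : IrrCharacter G := ⟨fun _ => 1, isIrrCharacter_one⟩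

omit H in
/-- The inner product with an irreducible character, through restriction to `P`. -/
theorem classInner_theta [Fintype ↥P] (f : ↥P →* ℂˣ) {ψ : G → ℂ} (hψ : IsClassFunction G ψ) :
    classInner (theta P f) ψ = classInner (chi f) (fun w : ↥P => ψ w) - classInner (chi (1 : ↥P →* ℂˣ)) (fun w : ↥P => ψ w) := by
  unfold theta alpha
  rw [Cfsg.Agent.Lib.CharInd.frobenius P _ hψ, classInner_sub_left]

/-- Column orthogonality. -/
theorem sum_classInner_chi [Fintype ↥P] [Fintype (↥P →* ℂˣ)] (ψ : ↥P → ℂ) :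
    ∑ f : ↥P →* ℂˣ, classInner (chi f) ψ = conj (ψ 1) := by
  classical
  have hp0 : (p : ℂ) ≠ 0 := by exact_mod_cast H.prime.ne_zero
  unfold classInner
  rw [← Finset.mul_sum]
  have h1 : ∑ f : ↥P →* ℂˣ, ∑ g : ↥P, chi f g * conj (ψ g) = ∑ g : ↥P, (∑ f : ↥P →* ℂˣ, chi f g) * conj (ψ g) := by
    rw [Finset.sum_comm]
    refine Finset.sum_congr rfl fun g _ => ?_
    rw [Finset.sum_mul]
  rw [h1, Finset.sum_eq_single (1 : ↥P)]
  · rw [H.sum_dual_one, H.card]
    field_simp
  · intro b _ hb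
    rw [H.sum_dual hb, zero_mul]
  · intro h; exact absurd (Finset.mem_univ _) h

/-- **The main theorem on exceptional characters.** -/
theorem exists_sunflower {s : ℕ} (hs : 1 ≤ s) (hN : Nat.card (normalizer (P : Set G)) = p * s)
    (ht : (s + 2) * s ≤ p - 1) :
    ∃ (w : IrrCharacter G → ℤ) (σ : ℤ) (B : IrrCharacter G) (d : IrrCharacter G → ℕ),
      (∀ i, 0 < d i ∧ (i : G → ℂ) 1 = d i) ∧ (σ = 1 ∨ σ = -1) ∧ w B = 0 ∧
      ∑ i, w i ^ 2 = s ∧ w (oneIrr G) = -1 ∧ ∑ i, (d i : ℤ) * w i + σ * d B = 0 ∧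
      (∀ i, w i ≠ 0 → (d i : ℤ) ≡ - w i [ZMOD p]) ∧ (d B : ℤ) ≡ s * σ [ZMOD p] := by
  classical
  haveI : Fintype ↥P := Fintype.ofFinite _
  haveI : Fintype (normalizer (P : Set G)) := Fintype.ofFinite _
  haveI : Finite (↥P →* ℂˣ) := H.finite_dual
  haveI : Fintype (↥P →* ℂˣ) := Fintype.ofFinite _
  haveI : Fintype (MulAction.orbitRel.Quotient ↥(normalizer (P : Set G)) (NT P)) := Fintype.ofFinite _
  have hp0 : (p : ℂ) ≠ 0 := by exact_mod_cast H.prime.ne_zero
  have hm : ∀ (f : ↥P →* ℂˣ) (i : IrrCharacter G), ∃ n : ℤ, classInner (theta P f) (i : G → ℂ) = n :=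
    fun f i => Cfsg.Agent.Lib.GenChar.classInner_gen_irr (theta_isGen f) i.2
  choose m hm using hm
  have hdeg : ∀ i : IrrCharacter G, ∃ n : ℕ, 0 < n ∧ (i : G → ℂ) 1 = n :=
    fun i => Cfsg.Agent.Lib.CharLattice.exists_degree_pos i.2
  choose d hdpos hd using hdeg
  -- orbit data
  let J := MulAction.orbitRel.Quotient ↥(normalizer (P : Set G)) (NT P)
  let r : J → NT P := fun j => Quotient.out j
  have hsum : ∀ F : NT P → ℤ, (∀ (x : normalizer (P : Set G)) (a : NT P), F (x • a) = F a) →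
      ∑ a, F a = s * ∑ j : J, F (r j) := fun F hF =>
    sum_eq_card_mul_sum_out s (H.card_orbit hN) F hF
  have hcardNT : (Fintype.card (NT P) : ℤ) = p - 1 := by
    have h1 : Fintype.card (NT P) = Fintype.card (↥P →* ℂˣ) - 1 := by
      rw [Fintype.card_subtype_compl, Fintype.card_subtype_eq]
    rw [h1, ← Nat.card_eq_fintype_card, H.card_dual, Nat.cast_sub H.prime.one_lt.le]
    simp
  have hJ : (s : ℤ) * Fintype.card J = p - 1 := by
    have h1 := hsum (fun _ => 1) (fun _ _ => rfl)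
    simp only [Finset.sum_const, Finset.card_univ, nsmul_eq_mul, mul_one] at h1
    rw [← hcardNT, h1]
  have htJ : s + 2 ≤ Fintype.card J := by
    have h1 : (s : ℤ) * Fintype.card J = ((p - 1 : ℕ) : ℤ) := by
      rw [hJ, Nat.cast_sub H.prime.one_lt.le]; simp
    have h2 : s * Fintype.card J = p - 1 := by exact_mod_cast h1
    rw [← h2] at ht
    rw [mul_comm s] at ht
    exact Nat.le_of_mul_le_mul_right ht hs
  -- `u`
  let u : J → IrrCharacter G → ℤ := fun j i => m (r j).1 i
  have hinner : ∀ j k : J, ∑ i, u j i * u k i = (s : ℤ) + if j = k then 1 else 0 := by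
    intro j k
    have h1 := inner_theta H hN (r j).2 (r k).2
    rw [parseval (theta_isClass _)] at h1
    have h2 : (∃ x : normalizer (P : Set G), x • (r k).1 = (r j).1) ↔ j = k := by
      constructor
      · rintro ⟨x, hx⟩
        have h3 : x • (r k) = r j := Subtype.ext hx
        have h4 : (Quotient.mk _ (r j) : J) = Quotient.mk _ (r k) := by
          apply Quotient.sound
          exact ⟨x, h3⟩
        have h5 : ∀ l : J, (Quotient.mk _ (r l) : J) = l := fun l => Quotient.out_eq l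
        rw [h5, h5] at h4
        exact h4
      · rintro rfl
        exact ⟨1, one_smul _ _⟩
    simp only [h2] at h1
    have h3 : ∀ i : IrrCharacter G, conj (classInner (theta P (r k).1) (i : G → ℂ)) * classInner (theta P (r j).1) (i : G → ℂ) =
        ((u j i * u k i : ℤ) : ℂ) := by
      intro i
      rw [hm, hm]
      simp only [u, Int.cast_mul, map_intCast]
      ring
    simp_rw [h3] at h1
    rw [← Int.cast_sum] at h1
    have h4 : ((∑ i, u j i * u k i : ℤ) : ℂ) = (((s : ℤ) + if j = k then 1 else 0 : ℤ) : ℂ) := by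
      rw [h1]
      split_ifs <;> simp
    exact_mod_cast h4
  have hi₀ : ∀ j, u j (oneIrr G) = -1 := by
    intro j
    have h1 := hm (r j).1 (oneIrr G)
    rw [classInner_theta (r j).1 (isClassFunction_of_isCharacter (IsIrrCharacter.isCharacter (oneIrr G).2))] at h1
    have h2 : (fun w : ↥P => ((oneIrr G : IrrCharacter G) : G → ℂ) (w : G)) = chi (1 : ↥P →* ℂˣ) := by
      funext w
      simp [oneIrr, chi]
    rw [h2, classInner_chi, classInner_chi, if_neg (r j).2, if_pos rfl] at h1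
    have h3 : ((m (r j).1 (oneIrr G) : ℤ) : ℂ) = ((-1 : ℤ) : ℂ) := by
      rw [← h1]; simp
    exact_mod_cast h3
  have hzero : ∀ f : ↥P →* ℂˣ, ∑ i, (d i : ℤ) * m f i = 0 := by
    intro f
    have h1 := eval_eq_sum (theta_isClass (P := P) f) 1
    rw [theta_one H f] at h1
    have h2 : ∀ i : IrrCharacter G, classInner (theta P f) (i : G → ℂ) * (i : G → ℂ) 1 = (((d i : ℤ) * m f i : ℤ) : ℂ) := by
      intro i
      rw [hm, hd]
      push_cast
      ring
    simp_rw [h2] at h1
    rw [← Int.cast_sum] at h1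
    exact_mod_cast h1.symm
  obtain ⟨w, e, σ, hσ, hinj, hwe, hform⟩ := sunflower s hs u (fun i => (d i : ℤ))
    (fun i => by exact_mod_cast hdpos i) (oneIrr G) hi₀ hinner
    (fun j k => by rw [hzero, hzero]) htJ
  -- the degree formula
  have hdegf : ∀ i : IrrCharacter G, ∃ n : ℤ, (d i : ℤ) = p * n + s * ∑ j, u j i := by
    intro i
    have hrestr : IsCharacter ↥P (fun v : ↥P => (i : G → ℂ) v) :=
      isCharacter_restrict P (IsIrrCharacter.isCharacter i.2)
    have hn : ∀ f : ↥P →* ℂˣ, ∃ n : ℕ, classInner (chi f) (fun v : ↥P => (i : G → ℂ) v) = n := by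
      intro f
      obtain ⟨n, hn⟩ := classInner_char_irr hrestr (isIrr_chi f)
      refine ⟨n, ?_⟩
      rw [← classInner_conj_symm, hn]
      simp
    choose n hn using hn
    have hmn : ∀ f : ↥P →* ℂˣ, m f i = (n f : ℤ) - n 1 := by
      intro f
      have h1 := hm f i
      rw [classInner_theta f (isClassFunction_of_isCharacter (IsIrrCharacter.isCharacter i.2)), hn, hn] at h1
      have h2 : ((m f i : ℤ) : ℂ) = (((n f : ℤ) - n 1 : ℤ) : ℂ) := by
        rw [← h1]; simp
      exact_mod_cast h2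
    have htot : ∑ f : ↥P →* ℂˣ, (n f : ℤ) = d i := by
      have h1 := sum_classInner_chi H (fun v : ↥P => (i : G → ℂ) v)
      simp_rw [hn] at h1
      have h2 : (i : G → ℂ) ((1 : ↥P) : G) = d i := by
        rw [Subgroup.coe_one, hd]
      rw [h2] at h1
      simp only [map_natCast] at h1
      have h3 : ((∑ f : ↥P →* ℂˣ, (n f : ℤ) : ℤ) : ℂ) = ((d i : ℤ) : ℂ) := by
        push_cast
        exact h1
      exact_mod_cast h3
    have hsplit : ∑ f : ↥P →* ℂˣ, (n f : ℤ) = ∑ a : NT P, (n a.1 : ℤ) + n 1 := by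
      rw [← Fintype.sum_subtype_add_sum_subtype (fun f : ↥P →* ℂˣ => f ≠ 1)]
      congr 1
      have : Unique {f : ↥P →* ℂˣ // ¬ f ≠ 1} :=
        { default := ⟨1, by simp⟩
          uniq := fun a => Subtype.ext (by simpa using a.2) }
      rw [Fintype.sum_unique]
      have h5 : (((default : {f : ↥P →* ℂˣ // ¬ f ≠ 1}) : {f : ↥P →* ℂˣ // ¬ f ≠ 1}) : ↥P →* ℂˣ) = 1 := by
        simpa using (default : {f : ↥P →* ℂˣ // ¬ f ≠ 1}).2
      rw [h5]
    have hinv : ∀ (x : normalizer (P : Set G)) (a : NT P), m ((x • a : NT P)).1 i = m a.1 i := by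
      intro x a
      have h1 := hm ((x • a : NT P)).1 i
      rw [ntAction_coe, theta_smul H hN x a.2, hm] at h1
      exact_mod_cast h1.symm
    have hsumm := hsum (fun a => m a.1 i) hinv
    refine ⟨n 1, ?_⟩
    have h4 : ∑ a : NT P, (n a.1 : ℤ) = ∑ a : NT P, m a.1 i + (Fintype.card (NT P) : ℤ) * n 1 := by
      have : ∀ a : NT P, (n a.1 : ℤ) = m a.1 i + n 1 := by
        intro a
        rw [hmn]; ring
      simp_rw [this]
      rw [Finset.sum_add_distrib, Finset.sum_const, Finset.card_univ, nsmul_eq_mul]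
    rw [← htot, hsplit, h4, hcardNT, hsumm]
    ring
  -- conclusions
  have hJne : Nonempty J := by
    apply Fintype.card_pos_iff.1
    omega
  obtain ⟨j₁⟩ := hJne
  have hcong : ∀ i : IrrCharacter G, (d i : ℤ) ≡ s * ∑ j, u j i [ZMOD p] := by
    intro i
    obtain ⟨n, hn⟩ := hdegf i
    rw [hn]
    simp [Int.ModEq]
  refine ⟨w, σ, e j₁, d, fun i => ⟨hdpos i, hd i⟩, hσ, hwe j₁, ?_, ?_, ?_, ?_, ?_⟩
  · -- the norm of `w`
    have hσ2 : σ * σ = 1 := by rcases hσ with rfl | rfl <;> norm_num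
    have h1 := hinner j₁ j₁
    rw [if_pos rfl] at h1
    have h2 : ∀ i, u j₁ i * u j₁ i = w i ^ 2 + ((if i = e j₁ then 2 * σ * w i else 0) + (if i = e j₁ then 1 else 0)) := by
      intro i
      rw [hform j₁ i]
      by_cases h3 : i = e j₁
      · simp only [if_pos h3]
        rw [h3, hwe j₁]
        nlinarith
      · simp only [if_neg h3]
        ring
    simp_rw [h2] at h1
    rw [Finset.sum_add_distrib, Finset.sum_add_distrib, Finset.sum_ite_eq', Finset.sum_ite_eq'] at h1
    simp only [Finset.mem_univ, if_true, hwe j₁] at h1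
    linarith
  · -- the value at the trivial character
    have hex : ∃ j, e j ≠ oneIrr G := by
      by_contra hall
      push Not at hall
      have hsub : Subsingleton J := ⟨fun a b => hinj ((hall a).trans (hall b).symm)⟩
      have := Fintype.card_le_one_iff_subsingleton.2 hsub
      omega
    obtain ⟨j, hj⟩ := hex
    have h1 := hi₀ j
    rw [hform j, if_neg (Ne.symm hj)] at h1
    linarith
  · -- the degree equation
    have h1 := hzero (r j₁).1
    have h2 : ∀ i, (d i : ℤ) * m (r j₁).1 i = (d i : ℤ) * w i + σ * (if i = e j₁ then (d i : ℤ) else 0) := by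
      intro i
      have h3 := hform j₁ i
      simp only [u] at h3
      rw [h3]
      split_ifs <;> ring
    simp_rw [h2] at h1
    rw [Finset.sum_add_distrib, ← Finset.mul_sum, Finset.sum_ite_eq'] at h1
    simpa using h1
  · -- congruence on the support
    intro i hi
    have hne : ∀ j, i ≠ e j := by
      rintro j rfl
      exact hi (hwe j)
    have h1 : ∑ j, u j i = Fintype.card J * w i := by
      have h2 : ∀ j, u j i = w i := by
        intro j
        rw [hform j, if_neg (hne j)]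
        ring
      simp_rw [h2]
      rw [Finset.sum_const, Finset.card_univ, nsmul_eq_mul]
    have h3 := hcong i
    rw [h1] at h3
    have h4 : (s : ℤ) * (Fintype.card J * w i) = (p - 1) * w i := by
      rw [← mul_assoc, hJ]
    rw [h4] at h3
    refine h3.trans ?_
    have : ((p : ℤ) - 1) * w i = - w i + p * w i := by ring
    rw [this]
    simp [Int.ModEq]
  · -- congruence at `B`
    have h1 : ∑ j, u j (e j₁) = σ := by
      have h2 : ∀ j, u j (e j₁) = if j = j₁ then σ else 0 := by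
        intro j
        rw [hform j, hwe j₁]
        by_cases h3 : j = j₁
        · rw [if_pos h3, if_pos (by rw [h3])]; ring
        · rw [if_neg h3, if_neg (fun h4 => h3 (hinj h4).symm)]; ring
      simp_rw [h2]
      rw [Finset.sum_ite_eq']
      simp
    have h3 := hcong (e j₁)
    rw [h1] at h3
    exact h3

end Main

section Simple

variable {G : Type*} [Group G] [Fintype G]

/-- Degrees divide the group order. -/
theorem degree_dvd (i : IrrCharacter G) {d : ℕ} (hd : (i : G → ℂ) 1 = d) : d ∣ Nat.card G := by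
  obtain ⟨χ, n, ρ, hρ, hχ⟩ := i
  have h1 : Module.finrank ℂ (Fin n → ℂ) ∣ Nat.card G := Cfsg.Agent.Lib.CharIntegrality.finrank_dvd_card ρ hρ
  have h2 : (χ : G → ℂ) 1 = Module.finrank ℂ (Fin n → ℂ) := by
    rw [← hχ]
    exact Representation.char_one ρ
  have h3 : d = Module.finrank ℂ (Fin n → ℂ) := by
    have h4 : (d : ℂ) = (Module.finrank ℂ (Fin n → ℂ) : ℂ) := by rw [← hd, ← h2]
    exact_mod_cast h4
  rw [h3]
  exact h1

/-- In a nonabelian simple group only the trivial character has degree one. -/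
theorem degree_ne_one [IsSimpleGroup G] (hG : ¬ IsMulCommutative G) {i : IrrCharacter G} (hi : i ≠ oneIrr G)
    {d : ℕ} (hd : (i : G → ℂ) 1 = d) : d ≠ 1 := by
  rintro rfl
  obtain ⟨f, hf⟩ := exists_hom_of_degree_one (IsIrrCharacter.isCharacter i.2) (by simpa using hd)
  rcases (inferInstance : f.ker.Normal).eq_bot_or_eq_top with h | h
  · apply hG
    have hinj : Function.Injective f := (MonoidHom.ker_eq_bot_iff f).1 h
    exact ⟨⟨fun a b => hinj (by rw [map_mul, map_mul, mul_comm])⟩⟩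
  · apply hi
    apply Subtype.ext
    funext g
    have hg : g ∈ f.ker := by rw [h]; trivial
    have h1 : f g = 1 := hg
    rw [hf]
    simp [oneIrr, h1]

/-- Integer vectors of norm two containing a given unit coordinate. -/
theorem exists_one_of_sum_sq_eq_two {ι : Type*} [Fintype ι] [DecidableEq ι] (a : ι → ℤ) (i₀ : ι) (h0 : a i₀ ^ 2 = 1)
    (h : ∑ i, a i ^ 2 = 2) : ∃ i₁, i₁ ≠ i₀ ∧ a i₁ ^ 2 = 1 ∧ ∀ k, k ≠ i₀ → k ≠ i₁ → a k = 0 := by
  obtain ⟨i, j, hij, hi, hj, hrest⟩ := Cfsg.Agent.Lib.CharLattice.exists_pair_of_sum_sq_eq_two a h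
  by_cases h1 : i = i₀
  · subst h1
    exact ⟨j, hij.symm, hj, fun k h2 h3 => hrest k h2 h3⟩
  · by_cases h2 : j = i₀
    · subst h2
      exact ⟨i, hij, hi, fun k h2 h3 => hrest k h3 h2⟩
    · exfalso
      have := hrest i₀ (Ne.symm h1) (Ne.symm h2)
      rw [this] at h0
      norm_num at h0

theorem exists_two_of_sum_sq_eq_three {ι : Type*} [Fintype ι] [DecidableEq ι] (a : ι → ℤ) (i₀ : ι) (h0 : a i₀ ^ 2 = 1)
    (h : ∑ i, a i ^ 2 = 3) : ∃ i₁ i₂, i₁ ≠ i₀ ∧ i₂ ≠ i₀ ∧ i₁ ≠ i₂ ∧ a i₁ ^ 2 = 1 ∧ a i₂ ^ 2 = 1 ∧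
      ∀ k, k ≠ i₀ → k ≠ i₁ → k ≠ i₂ → a k = 0 := by
  let a' : ι → ℤ := Function.update a i₀ 0
  have h1 : ∑ i, a' i ^ 2 = 2 := by
    have h2 : ∑ i, a i ^ 2 = a i₀ ^ 2 + ∑ i ∈ Finset.univ.erase i₀, a i ^ 2 :=
      (Finset.add_sum_erase _ _ (Finset.mem_univ i₀)).symm
    have h3 : ∑ i, a' i ^ 2 = a' i₀ ^ 2 + ∑ i ∈ Finset.univ.erase i₀, a' i ^ 2 :=
      (Finset.add_sum_erase _ _ (Finset.mem_univ i₀)).symm
    have h4 : ∑ i ∈ Finset.univ.erase i₀, a' i ^ 2 = ∑ i ∈ Finset.univ.erase i₀, a i ^ 2 := by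
      refine Finset.sum_congr rfl fun i hi => ?_
      simp [a', Function.update_of_ne (Finset.ne_of_mem_erase hi)]
    rw [h3, h4]
    simp only [a', Function.update_self]
    rw [h2, h0] at h
    omega
  obtain ⟨i, j, hij, hi, hj, hrest⟩ := Cfsg.Agent.Lib.CharLattice.exists_pair_of_sum_sq_eq_two a' h1
  have hi0 : i ≠ i₀ := by
    rintro rfl
    simp [a'] at hi
  have hj0 : j ≠ i₀ := by
    rintro rfl
    simp [a'] at hj
  refine ⟨i, j, hi0, hj0, hij, ?_, ?_, ?_⟩
  · simpa [a', Function.update_of_ne hi0] using hi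
  · simpa [a', Function.update_of_ne hj0] using hj
  · intro k hk hki hkj
    have := hrest k hki hkj
    simpa [a', Function.update_of_ne hk] using this

theorem sq_one_cases {a : ℤ} (h : a ^ 2 = 1) : a = 1 ∨ a = -1 := by
  have : (a - 1) * (a + 1) = 0 := by ring_nf; linarith
  rcases mul_eq_zero.1 this with h1 | h1
  · left; linarith
  · right; linarith

/-- A divisor of `p m` not divisible by `p` divides `m`. -/
theorem dvd_of_modEq {p m x : ℕ} (hp : p.Prime) (hx : x ∣ p * m) {c : ℤ} (hc : (x : ℤ) ≡ c [ZMOD p])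
    (hc0 : ¬ (p : ℤ) ∣ c) : x ∣ m := by
  have hcop : Nat.Coprime x p := by
    apply Nat.Coprime.symm
    apply (Nat.Prime.coprime_iff_not_dvd hp).2
    intro hd
    apply hc0
    have h1 : (p : ℤ) ∣ (x : ℤ) := by exact_mod_cast hd
    exact (Int.ModEq.dvd_iff hc).1 h1 |> fun h => h
  exact hcop.dvd_of_dvd_mul_left hx

/-- Numerical consequence for `s = 2`. -/
theorem data_s2 [IsSimpleGroup G] (hG : ¬ IsMulCommutative G) {P : Subgroup G} {p m : ℕ} (H : Hyp P p)
    (hcard : Nat.card G = p * m) (hN : Nat.card (normalizer (P : Set G)) = p * 2) (ht : 8 ≤ p - 1) :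
    ∃ (x₁ x₀ : ℕ) (w₁ σ : ℤ), (w₁ = 1 ∨ w₁ = -1) ∧ (σ = 1 ∨ σ = -1) ∧ 2 ≤ x₁ ∧ 2 ≤ x₀ ∧ x₁ ∣ m ∧ x₀ ∣ m ∧
      -1 + w₁ * x₁ + σ * x₀ = 0 ∧ (x₁ : ℤ) ≡ - w₁ [ZMOD p] ∧ (x₀ : ℤ) ≡ 2 * σ [ZMOD p] := by
  classical
  obtain ⟨w, σ, B, d, hd, hσ, hwB, hnorm, hone, heq, hcongr, hcB⟩ := exists_sunflower H (s := 2) (by norm_num) hN (by omega)
  have hone2 : w (oneIrr G) ^ 2 = 1 := by rw [hone]; norm_num
  obtain ⟨i₁, hi₁, hw1, hrest⟩ := exists_one_of_sum_sq_eq_two w (oneIrr G) hone2 (by simpa using hnorm)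
  have hBne : B ≠ oneIrr G := by
    intro h
    rw [h, hone] at hwB
    norm_num at hwB
  have hd1 : d (oneIrr G) = 1 := by
    have h1 := (hd (oneIrr G)).2
    have h2 : ((d (oneIrr G) : ℕ) : ℂ) = 1 := by rw [← h1]; rfl
    exact_mod_cast h2
  have hge : ∀ i, i ≠ oneIrr G → 2 ≤ d i := by
    intro i hi
    have h1 := (hd i).1
    have h2 := degree_ne_one hG hi (hd i).2
    omega
  have hw1' : w i₁ = 1 ∨ w i₁ = -1 := sq_one_cases hw1
  have hp1 : 2 < p := by omega
  have hnd : ∀ c : ℤ, (c = 1 ∨ c = -1 ∨ c = 2 ∨ c = -2) → ¬ (p : ℤ) ∣ c := by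
    intro c hc hdvd
    have h1 : (p : ℤ) ≤ |c| := Int.le_of_dvd (by rcases hc with rfl | rfl | rfl | rfl <;> norm_num) (by rwa [dvd_abs])
    rcases hc with rfl | rfl | rfl | rfl <;> norm_num at h1 <;> omega
  have hcong1 := hcongr i₁ (by rcases hw1' with h | h <;> rw [h] <;> norm_num)
  refine ⟨d i₁, d B, w i₁, σ, hw1', hσ, hge _ hi₁, hge _ hBne, ?_, ?_, ?_, hcong1, by simpa using hcB⟩
  · apply dvd_of_modEq H.prime (by rw [← hcard]; exact degree_dvd i₁ (hd i₁).2) hcong1
    apply hnd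
    rcases hw1' with h | h <;> rw [h] <;> simp
  · apply dvd_of_modEq H.prime (by rw [← hcard]; exact degree_dvd B (hd B).2) hcB
    apply hnd
    rcases hσ with h | h <;> rw [h] <;> simp
  · have hsum : ∑ i, (d i : ℤ) * w i = (d (oneIrr G) : ℤ) * w (oneIrr G) + (d i₁ : ℤ) * w i₁ := by
      apply Fintype.sum_eq_add _ _ (Ne.symm hi₁)
      intro k hk
      rw [hrest k hk.1 hk.2, mul_zero]
    rw [hsum, hd1, hone] at heq
    push_cast at heq
    linarith

/-- Numerical consequence for `s = 3`. -/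
theorem data_s3 [IsSimpleGroup G] (hG : ¬ IsMulCommutative G) {P : Subgroup G} {p m : ℕ} (H : Hyp P p)
    (hcard : Nat.card G = p * m) (hN : Nat.card (normalizer (P : Set G)) = p * 3) (ht : 15 ≤ p - 1) :
    ∃ (x₁ x₂ x₀ : ℕ) (w₁ w₂ σ : ℤ), (w₁ = 1 ∨ w₁ = -1) ∧ (w₂ = 1 ∨ w₂ = -1) ∧ (σ = 1 ∨ σ = -1) ∧ 2 ≤ x₁ ∧ 2 ≤ x₂ ∧ 2 ≤ x₀ ∧
      x₁ ∣ m ∧ x₂ ∣ m ∧ x₀ ∣ m ∧
      -1 + w₁ * x₁ + w₂ * x₂ + σ * x₀ = 0 ∧ (x₁ : ℤ) ≡ - w₁ [ZMOD p] ∧ (x₂ : ℤ) ≡ - w₂ [ZMOD p] ∧
      (x₀ : ℤ) ≡ 3 * σ [ZMOD p] := by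
  classical
  obtain ⟨w, σ, B, d, hd, hσ, hwB, hnorm, hone, heq, hcongr, hcB⟩ := exists_sunflower H (s := 3) (by norm_num) hN (by omega)
  have hone2 : w (oneIrr G) ^ 2 = 1 := by rw [hone]; norm_num
  obtain ⟨i₁, i₂, hi₁, hi₂, hi₁₂, hw1, hw2, hrest⟩ := exists_two_of_sum_sq_eq_three w (oneIrr G) hone2 (by simpa using hnorm)
  have hBne : B ≠ oneIrr G := by
    intro h
    rw [h, hone] at hwB
    norm_num at hwB
  have hd1 : d (oneIrr G) = 1 := by
    have h1 := (hd (oneIrr G)).2
    have h2 : ((d (oneIrr G) : ℕ) : ℂ) = 1 := by rw [← h1]; rfl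
    exact_mod_cast h2
  have hge : ∀ i, i ≠ oneIrr G → 2 ≤ d i := by
    intro i hi
    have h1 := (hd i).1
    have h2 := degree_ne_one hG hi (hd i).2
    omega
  have hw1' : w i₁ = 1 ∨ w i₁ = -1 := sq_one_cases hw1
  have hw2' : w i₂ = 1 ∨ w i₂ = -1 := sq_one_cases hw2
  have hp1 : 3 < p := by omega
  have hnd : ∀ c : ℤ, (c = 1 ∨ c = -1 ∨ c = 3 ∨ c = -3) → ¬ (p : ℤ) ∣ c := by
    intro c hc hdvd
    have h1 : (p : ℤ) ≤ |c| := Int.le_of_dvd (by rcases hc with rfl | rfl | rfl | rfl <;> norm_num) (by rwa [dvd_abs])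
    rcases hc with rfl | rfl | rfl | rfl <;> norm_num at h1 <;> omega
  have hcong1 := hcongr i₁ (by rcases hw1' with h | h <;> rw [h] <;> norm_num)
  have hcong2 := hcongr i₂ (by rcases hw2' with h | h <;> rw [h] <;> norm_num)
  refine ⟨d i₁, d i₂, d B, w i₁, w i₂, σ, hw1', hw2', hσ, hge _ hi₁, hge _ hi₂, hge _ hBne, ?_, ?_, ?_, ?_, hcong1, hcong2,
    by simpa using hcB⟩
  · apply dvd_of_modEq H.prime (by rw [← hcard]; exact degree_dvd i₁ (hd i₁).2) hcong1
    apply hnd
    rcases hw1' with h | h <;> rw [h] <;> simp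
  · apply dvd_of_modEq H.prime (by rw [← hcard]; exact degree_dvd i₂ (hd i₂).2) hcong2
    apply hnd
    rcases hw2' with h | h <;> rw [h] <;> simp
  · apply dvd_of_modEq H.prime (by rw [← hcard]; exact degree_dvd B (hd B).2) hcB
    apply hnd
    rcases hσ with h | h <;> rw [h] <;> simp
  · have hsum : ∑ i, (d i : ℤ) * w i = (d (oneIrr G) : ℤ) * w (oneIrr G) + (d i₁ : ℤ) * w i₁ + (d i₂ : ℤ) * w i₂ := by
      have hsub : ({oneIrr G, i₁, i₂} : Finset (IrrCharacter G)) ⊆ Finset.univ := Finset.subset_univ _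
      rw [← Finset.sum_subset hsub]
      · rw [Finset.sum_insert (by simp [hi₁.symm, hi₂.symm]), Finset.sum_insert (by simp [hi₁₂]), Finset.sum_singleton]
        ring
      · intro k _ hk
        simp only [Finset.mem_insert, Finset.mem_singleton, not_or] at hk
        rw [hrest k hk.1 hk.2.1 hk.2.2, mul_zero]
    rw [hsum, hd1, hone] at heq
    push_cast at heq
    linarith

end Simple

/-- Sylow subgroups of prime order with normalizer of order `p k`, `k` prime, satisfy the hypotheses. -/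
theorem hyp_of_sylow {G : Type*} [Group G] [Finite G] [IsSimpleGroup G] (hG : ¬ IsMulCommutative G) {p m k : ℕ}
    [Fact p.Prime] (hk : k.Prime) (h : Nat.card G = p * m) (hm : ¬ p ∣ m) (hn : Nat.card (Sylow p G) * k = m)
    (P : Sylow p G) : Hyp (P : Subgroup G) p ∧ Nat.card (normalizer ((P : Subgroup G) : Set G)) = p * k := by
  have hp : p.Prime := Fact.out
  have h' : Nat.card G = p ^ 1 * m := by rw [h, pow_one]
  have hcard : ∀ Q : Sylow p G, Nat.card (Q : Subgroup G) = p := fun Q => by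
    rw [Cfsg.Agent.Lib.SmallGroups2.sylow_card_of_card_eq h' hm Q, pow_one]
  have hN : ∀ Q : Sylow p G, Nat.card (normalizer ((Q : Subgroup G) : Set G)) = p * k := by
    intro Q
    have h1 := Cfsg.Agent.Lib.SmallGroups2.card_normalizer_mul_card_sylow Q
    rw [h, ← hn] at h1
    have hpos : 0 < Nat.card (Sylow p G) := Nat.card_pos
    have h2 : Nat.card (normalizer ((Q : Subgroup G) : Set G)) * Nat.card (Sylow p G) =
        (p * k) * Nat.card (Sylow p G) := by
      rw [h1]; ring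
    exact Nat.eq_of_mul_eq_mul_right hpos h2
  have hC : ∀ Q : Sylow p G, centralizer ((Q : Subgroup G) : Set G) = Q := fun Q =>
    Cfsg.Agent.Lib.Small168.centralizer_sylow_eq hG hk Q (hcard Q) (hN Q)
  refine ⟨⟨hp, hcard P, ?_⟩, hN P⟩
  intro w hw hne
  have ho : orderOf w = p := Cfsg.Agent.Lib.SmallGroups2.orderOf_eq_of_mem_of_ne_one hp (hcard P) hw hne
  rw [Cfsg.Agent.Lib.Small168.centralizer_singleton_eq hcard hC ho]
  exact Cfsg.Agent.Lib.SmallGroups2.zpowers_eq_of_mem_of_ne_one hp (hcard P) hw hne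

/-- Exclusion of an order by the numerical test for `s = 2`. -/
theorem not_card_s2 {G : Type*} [Group G] [Finite G] [IsSimpleGroup G] {p m : ℕ} [Fact p.Prime]
    (hnp : ¬ (p * m).Prime) (hm : ¬ p ∣ m) (hm0 : m ≠ 0) (h8 : 8 ≤ p - 1)
    (hc : Cfsg.Agent.Lib.SmallGroups2.sylowCandidates p m = {m / 2}) (h2m : 2 ∣ m)
    (hnum : ∀ x₁ ∈ Nat.divisors m, ∀ x₀ ∈ Nat.divisors m, ∀ w₁ ∈ ({1, -1} : Finset ℤ), ∀ σ ∈ ({1, -1} : Finset ℤ),
      2 ≤ x₁ → 2 ≤ x₀ → -1 + w₁ * x₁ + σ * x₀ = 0 → (x₁ : ℤ) % p = (- w₁) % p → (x₀ : ℤ) % p = (2 * σ) % p → False) :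
    Nat.card G ≠ p * m := by
  intro h
  haveI := Fintype.ofFinite G
  have hG : ¬ IsMulCommutative G :=
    Cfsg.Agent.Lib.SmallGroups2.not_isMulCommutative_of_not_prime (by rwa [h])
  have hmem := Cfsg.Agent.Lib.SmallGroups2.card_sylow_mem_candidates hG h hm
  rw [hc, Finset.mem_singleton] at hmem
  obtain ⟨P⟩ : Nonempty (Sylow p G) := inferInstance
  obtain ⟨H, hN⟩ := hyp_of_sylow hG Nat.prime_two h hm (by rw [hmem]; exact Nat.div_mul_cancel h2m) P
  obtain ⟨x₁, x₀, w₁, σ, hw₁, hσ, h1, h0, d1, d0, heq, c1, c0⟩ := data_s2 hG H h hN h8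
  refine hnum x₁ (Nat.mem_divisors.2 ⟨d1, hm0⟩) x₀ (Nat.mem_divisors.2 ⟨d0, hm0⟩) w₁ ?_ σ ?_ h1 h0 heq c1 c0
  · simpa using hw₁
  · simpa using hσ

/-- Exclusion of an order by the numerical test for `s = 3`. -/
theorem not_card_s3 {G : Type*} [Group G] [Finite G] [IsSimpleGroup G] {p m : ℕ} [Fact p.Prime]
    (hnp : ¬ (p * m).Prime) (hm : ¬ p ∣ m) (hm0 : m ≠ 0) (h15 : 15 ≤ p - 1)
    (hc : Cfsg.Agent.Lib.SmallGroups2.sylowCandidates p m = {m / 3}) (h3m : 3 ∣ m)
    (hnum : ∀ x₁ ∈ Nat.divisors m, ∀ x₂ ∈ Nat.divisors m, ∀ x₀ ∈ Nat.divisors m, ∀ w₁ ∈ ({1, -1} : Finset ℤ),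
      ∀ w₂ ∈ ({1, -1} : Finset ℤ), ∀ σ ∈ ({1, -1} : Finset ℤ),
      2 ≤ x₁ → 2 ≤ x₂ → 2 ≤ x₀ → -1 + w₁ * x₁ + w₂ * x₂ + σ * x₀ = 0 → (x₁ : ℤ) % p = (- w₁) % p →
      (x₂ : ℤ) % p = (- w₂) % p → (x₀ : ℤ) % p = (3 * σ) % p → False) :
    Nat.card G ≠ p * m := by
  intro h
  haveI := Fintype.ofFinite G
  have hG : ¬ IsMulCommutative G :=
    Cfsg.Agent.Lib.SmallGroups2.not_isMulCommutative_of_not_prime (by rwa [h])
  have hmem := Cfsg.Agent.Lib.SmallGroups2.card_sylow_mem_candidates hG h hm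
  rw [hc, Finset.mem_singleton] at hmem
  obtain ⟨P⟩ : Nonempty (Sylow p G) := inferInstance
  obtain ⟨H, hN⟩ := hyp_of_sylow hG Nat.prime_three h hm (by rw [hmem]; exact Nat.div_mul_cancel h3m) P
  obtain ⟨x₁, x₂, x₀, w₁, w₂, σ, hw₁, hw₂, hσ, h1, h2, h0, d1, d2, d0, heq, c1, c2, c0⟩ := data_s3 hG H h hN h15
  refine hnum x₁ (Nat.mem_divisors.2 ⟨d1, hm0⟩) x₂ (Nat.mem_divisors.2 ⟨d2, hm0⟩) x₀ (Nat.mem_divisors.2 ⟨d0, hm0⟩)
    w₁ ?_ w₂ ?_ σ ?_ h1 h2 h0 heq c1 c2 c0
  · simpa using hw₁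
  · simpa using hw₂
  · simpa using hσ

end Cfsg.Agent.Lib.DefectOne
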