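import Mathlib
import Cfsg.Agent.Lib.SmallGroups2
import Cfsg.Agent.Lib.Small168

/-!
# Two-local analysis at a Sylow subgroup of prime order

If `P` has prime order and `S` is a Sylow `q`-subgroup of `N(P)` that is not Sylow in `G`, and `S ∩ C(P)` is big,
then some `d ≠ 1` centralizes `S`, `P` and another conjugate of `P`.
-/

set_option autoImplicit false

namespace Cfsg.Agent.Lib.TwoLocal

open Subgroup Cfsg.Agent.Lib.SmallGroups2 Cfsg.Agent.Lib.Small168

variable {G : Type*} [Group G] [Finite G]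

/-- A proper subgroup of a `q`-group is properly normalized. -/
theorem exists_mem_normalizer_of_lt {q : ℕ} [Fact q.Prime] {S T : Subgroup G} (hT : IsPGroup q T) (hST : S < T) :
    ∃ g ∈ T, g ∉ S ∧ g ∈ normalizer (S : Set G) := by
  have : Group.IsNilpotent T := hT.isNilpotent
  have hlt : S.subgroupOf T < ⊤ := by
    obtain ⟨t, ht, htS⟩ := SetLike.exists_of_lt hST
    refine lt_top_iff_ne_top.2 ?_
    intro h
    apply htS
    have : (⟨t, ht⟩ : T) ∈ S.subgroupOf T := by rw [h]; trivial
    exact Subgroup.mem_subgroupOf.1 this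
  have h := Group.normalizerCondition_of_isNilpotent (G := T) _ hlt
  obtain ⟨⟨g, hg⟩, hgN, hgS⟩ := SetLike.exists_of_lt h
  refine ⟨g, hg, fun hgS' => hgS (Subgroup.mem_subgroupOf.2 hgS'), ?_⟩
  rw [mem_normalizer_iff]
  intro s
  rw [mem_normalizer_iff] at hgN
  constructor
  · intro hs
    have hsT : s ∈ T := hST.le hs
    have := (hgN ⟨s, hsT⟩).1 (Subgroup.mem_subgroupOf.2 hs)
    exact Subgroup.mem_subgroupOf.1 this
  · intro hs
    have hsT : s ∈ T := by
      have h1 : g * s * g⁻¹ ∈ T := hST.le hs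
      have h2 : g⁻¹ * (g * s * g⁻¹) * g ∈ T := T.mul_mem (T.mul_mem (T.inv_mem hg) h1) hg
      have h3 : g⁻¹ * (g * s * g⁻¹) * g = s := by group
      rwa [h3] at h2
    have := (hgN ⟨s, hsT⟩).2 (Subgroup.mem_subgroupOf.2 hs)
    exact Subgroup.mem_subgroupOf.1 this

/-- **Two-local lemma.** -/
theorem exists_central_pair {q : ℕ} [Fact q.Prime] (P S T : Subgroup G) (hT : IsPGroup q T) (hST : S < T)
    (hSN : S ≤ normalizer (P : Set G))
    (hmax : ∀ K : Subgroup G, IsPGroup q K → S ≤ K → K ≤ normalizer (P : Set G) → K = S)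
    (hX : Nat.card S < Nat.card ↥(S ⊓ centralizer (P : Set G)) ^ 2) :
    ∃ d g : G, d ≠ 1 ∧ g ∉ normalizer (P : Set G) ∧ d ∈ centralizer (P : Set G) ∧ d ∈ centralizer (S : Set G) ∧
      g⁻¹ * d * g ∈ centralizer (P : Set G) := by
  classical
  obtain ⟨g, hgT, hgS, hgN⟩ := exists_mem_normalizer_of_lt hT hST
  have hgP : g ∉ normalizer (P : Set G) := by
    intro hg
    have hK := hmax (S ⊔ zpowers g) (hT.to_le (sup_le hST.le (by
      rw [zpowers_le]; exact hgT))) le_sup_left (sup_le hSN (by rw [zpowers_le]; exact hg))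
    apply hgS
    rw [← hK]
    exact (le_sup_right : zpowers g ≤ S ⊔ zpowers g) (mem_zpowers g)
  set X : Subgroup G := S ⊓ centralizer (P : Set G) with hXdef
  -- conjugation by `g` and `g⁻¹` preserves `S`
  have hconj : ∀ s ∈ S, g * s * g⁻¹ ∈ S := fun s hs => (mem_normalizer_iff.1 hgN s).1 hs
  have hconj' : ∀ s ∈ S, g⁻¹ * s * g ∈ S := by
    intro s hs
    have := (mem_normalizer_iff.1 hgN (g⁻¹ * s * g)).2 (by
      have h3 : g * (g⁻¹ * s * g) * g⁻¹ = s := by group
      rwa [h3])
    exact this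
  -- the intersection
  let W : Subgroup G :=
    { carrier := {u | u ∈ X ∧ g⁻¹ * u * g ∈ X}
      mul_mem' := by
        rintro a b ⟨ha, ha'⟩ ⟨hb, hb'⟩
        refine ⟨X.mul_mem ha hb, ?_⟩
        have h3 : g⁻¹ * (a * b) * g = (g⁻¹ * a * g) * (g⁻¹ * b * g) := by group
        rw [h3]
        exact X.mul_mem ha' hb'
      one_mem' := by
        refine ⟨X.one_mem, ?_⟩
        have h3 : g⁻¹ * 1 * g = 1 := by group
        rw [h3]
        exact X.one_mem
      inv_mem' := by
        rintro a ⟨ha, ha'⟩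
        refine ⟨X.inv_mem ha, ?_⟩
        have h3 : g⁻¹ * a⁻¹ * g = (g⁻¹ * a * g)⁻¹ := by group
        rw [h3]
        exact X.inv_mem ha' }
  have hWS : W ≤ S := fun u hu => hu.1.1
  -- nontrivial
  have hWne : ∃ u ∈ W, u ≠ 1 := by
    by_contra hno
    push Not at hno
    let f : ↥X × ↥X → ↥S := fun a => ⟨a.1.1 * (g * a.2.1 * g⁻¹), S.mul_mem a.1.2.1 (hconj _ a.2.2.1)⟩
    have hf : Function.Injective f := by
      rintro ⟨a, b⟩ ⟨a', b'⟩ h
      have h1 : a.1 * (g * b.1 * g⁻¹) = a'.1 * (g * b'.1 * g⁻¹) := congrArg Subtype.val h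
      have h2 : a'.1⁻¹ * a.1 = (g * b'.1 * g⁻¹) * (g * b.1 * g⁻¹)⁻¹ := by
        calc a'.1⁻¹ * a.1 = a'.1⁻¹ * (a.1 * (g * b.1 * g⁻¹)) * (g * b.1 * g⁻¹)⁻¹ := by group
          _ = a'.1⁻¹ * (a'.1 * (g * b'.1 * g⁻¹)) * (g * b.1 * g⁻¹)⁻¹ := by rw [h1]
          _ = _ := by group
      have hmem : a'.1⁻¹ * a.1 ∈ W := by
        refine ⟨X.mul_mem (X.inv_mem a'.2) a.2, ?_⟩
        rw [h2]
        have h3 : g⁻¹ * ((g * b'.1 * g⁻¹) * (g * b.1 * g⁻¹)⁻¹) * g = b'.1 * b.1⁻¹ := by group
        rw [h3]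
        exact X.mul_mem b'.2 (X.inv_mem b.2)
      have h4 := hno _ hmem
      have h5 : a.1 = a'.1 := by
        rw [inv_mul_eq_one] at h4
        exact h4.symm
      have h6 : b.1 = b'.1 := by
        rw [h5] at h1
        have h7 := mul_left_cancel h1
        have h8 := mul_right_cancel h7
        exact mul_left_cancel h8
      exact Prod.ext (Subtype.ext h5) (Subtype.ext h6)
    have hle := Nat.card_le_card_of_injective f hf
    rw [Nat.card_prod, ← pow_two] at hle
    omega
  -- `W` is `S`-invariant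
  have hinv : ∀ s ∈ S, ∀ u ∈ W, s * u * s⁻¹ ∈ W := by
    have hXinv : ∀ s ∈ S, ∀ u ∈ X, s * u * s⁻¹ ∈ X := by
      intro s hs u hu
      refine Subgroup.mem_inf.2 ⟨S.mul_mem (S.mul_mem hs hu.1) (S.inv_mem hs), ?_⟩
      rw [mem_centralizer_iff]
      intro w hw
      have h1 := (mem_normalizer_iff.1 (hSN hs) (s⁻¹ * w * s)).2 (by
        have h3 : s * (s⁻¹ * w * s) * s⁻¹ = w := by group
        rw [h3]; exact hw)
      have h2 := (mem_centralizer_iff.1 hu.2) _ h1
      calc w * (s * u * s⁻¹) = s * ((s⁻¹ * w * s) * u) * s⁻¹ := by group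
        _ = s * (u * (s⁻¹ * w * s)) * s⁻¹ := by rw [h2]
        _ = _ := by group
    intro s hs u hu
    refine ⟨hXinv s hs u hu.1, ?_⟩
    have h3 : g⁻¹ * (s * u * s⁻¹) * g = (g⁻¹ * s * g) * (g⁻¹ * u * g) * (g⁻¹ * s * g)⁻¹ := by group
    rw [h3]
    exact hXinv _ (hconj' s hs) _ hu.2
  -- the action
  let act : MulAction ↥S ↥W :=
    { smul := fun s u => ⟨s.1 * u.1 * s.1⁻¹, hinv s.1 s.2 u.1 u.2⟩
      one_smul := by
        intro u
        apply Subtype.ext
        change (1 : G) * u.1 * (1 : G)⁻¹ = u.1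
        group
      mul_smul := by
        intro a b u
        apply Subtype.ext
        change (a.1 * b.1) * u.1 * (a.1 * b.1)⁻¹ = a.1 * (b.1 * u.1 * b.1⁻¹) * a.1⁻¹
        group }
  have hSp : IsPGroup q S := hT.to_le hST.le
  have hWp : IsPGroup q W := hSp.to_le hWS
  have hqW : q ∣ Nat.card W := by
    obtain ⟨n, hn⟩ := IsPGroup.iff_card.1 hWp
    obtain ⟨u, hu, hne⟩ := hWne
    have hn0 : n ≠ 0 := by
      rintro rfl
      rw [pow_zero] at hn
      have hsub := (Nat.card_eq_one_iff_unique.1 hn).1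
      have := hsub.elim (⟨u, hu⟩ : W) ⟨1, W.one_mem⟩
      exact hne (congrArg Subtype.val this)
    rw [hn]
    exact dvd_pow_self q hn0
  have hfix1 : (1 : W) ∈ MulAction.fixedPoints ↥S ↥W := by
    intro s
    apply Subtype.ext
    change s.1 * (1 : G) * s.1⁻¹ = 1
    group
  obtain ⟨b, hb, hne⟩ := hSp.exists_fixed_point_of_prime_dvd_card_of_fixed_point ↥W hqW hfix1
  refine ⟨b.1, g, ?_, hgP, b.2.1.2, ?_, b.2.2.2⟩
  · intro h
    exact hne (Subtype.ext h.symm)
  · rw [mem_centralizer_iff]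
    intro s hs
    have h1 : (⟨s, hs⟩ : S) • b = b := hb ⟨s, hs⟩
    have h2 : s * b.1 * s⁻¹ = b.1 := congrArg Subtype.val h1
    rw [mul_inv_eq_iff_eq_mul] at h2
    exact h2

/-- A subgroup of prime order of a subgroup `K` is Sylow in `K` when `p^2` does not divide `|G|`. -/
theorem exists_sylow_of_card_prime {p : ℕ} [Fact p.Prime] {K : Subgroup G} (U : Subgroup K) (hU : Nat.card U = p)
    (hG : ¬ p ^ 2 ∣ Nat.card G) : ∃ Q : Sylow p K, (Q : Subgroup K) = U := by
  have hp : p.Prime := Fact.out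
  have hUp : IsPGroup p U := IsPGroup.of_card (n := 1) (by rw [hU, pow_one])
  obtain ⟨Q, hQ⟩ := hUp.exists_le_sylow
  refine ⟨Q, ?_⟩
  obtain ⟨k, hk⟩ := IsPGroup.iff_card.1 Q.isPGroup'
  have h1 : Nat.card (Q : Subgroup K) ∣ Nat.card G := by
    have h2 : Nat.card (Q : Subgroup K) ∣ Nat.card K := Subgroup.card_subgroup_dvd_card _
    exact h2.trans (Subgroup.card_subgroup_dvd_card _)
  have hk1 : k ≤ 1 := by
    by_contra hc
    apply hG
    have h3 : p ^ 2 ∣ p ^ k := pow_dvd_pow p (by omega)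
    rw [← hk] at h3
    exact h3.trans h1
  have hle : Nat.card U ≤ Nat.card (Q : Subgroup K) := Subgroup.card_le_of_le hQ
  have hk2 : k = 1 := by
    rcases Nat.lt_or_ge k 1 with h | h
    · have : k = 0 := by omega
      subst this
      rw [hk, hU, pow_zero] at hle
      have := hp.two_le
      omega
    · omega
  rw [hk2, pow_one] at hk
  exact (Subgroup.eq_of_le_of_card_ge hQ (by rw [hk, hU])).symm

/-- Numerical consequences for the centralizer of `d`. -/
theorem sylow_count_centralizer [IsSimpleGroup G] (hG : ¬ IsMulCommutative G) {p : ℕ} [Fact p.Prime]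
    (hp2 : ¬ p ^ 2 ∣ Nat.card G) (hpG : p ∣ Nat.card G) (P : Sylow p G) (hP : Nat.card (P : Subgroup G) = p)
    (S : Subgroup G) (hSc : (Nat.card S).Coprime p) (hSN : S ≤ normalizer ((P : Subgroup G) : Set G))
    {d g : G} (hd : d ≠ 1) (hg : g ∉ normalizer ((P : Subgroup G) : Set G))
    (hdP : d ∈ centralizer ((P : Subgroup G) : Set G)) (hdS : d ∈ centralizer (S : Set G))
    (hdg : g⁻¹ * d * g ∈ centralizer ((P : Subgroup G) : Set G)) :
    ∃ n : ℕ, n % p = 1 ∧ n ≠ 1 ∧ n ≠ Nat.card (Sylow p G) ∧ n * (p * Nat.card S) ∣ Nat.card G := by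
  classical
  have hpp : p.Prime := Fact.out
  set C : Subgroup G := centralizer ({d} : Set G) with hC
  have memC : ∀ {x : G}, x ∈ C ↔ x * d = d * x := by
    intro x
    rw [hC, mem_centralizer_singleton_iff]
  have hPC : (P : Subgroup G) ≤ C := by
    intro x hx
    rw [memC]
    exact (mem_centralizer_iff.1 hdP) x hx
  have hSC : S ≤ C := by
    intro x hx
    rw [memC]
    exact (mem_centralizer_iff.1 hdS) x hx
  let P₁ : Subgroup C := (P : Subgroup G).subgroupOf C
  have hP₁ : Nat.card P₁ = p := by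
    rw [← hP]
    exact Nat.card_congr (subgroupOfEquivOfLe hPC).toEquiv
  obtain ⟨Q₁, hQ₁⟩ := exists_sylow_of_card_prime (K := C) P₁ hP₁ hp2
  -- the second conjugate
  let P₂' : Subgroup G := (P : Subgroup G).map (MulAut.conj g).toMonoidHom
  have hP₂'mem : ∀ {x : G}, x ∈ P₂' ↔ g⁻¹ * x * g ∈ (P : Subgroup G) := by
    intro x
    constructor
    · rintro ⟨y, hy, rfl⟩
      have : g⁻¹ * ((MulAut.conj g).toMonoidHom y) * g = y := by
        simp [MulAut.conj_apply]
        group
      rw [this]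
      exact hy
    · intro hx
      refine ⟨g⁻¹ * x * g, hx, ?_⟩
      simp [MulAut.conj_apply]
      group
  have hP₂'C : P₂' ≤ C := by
    intro x hx
    rw [memC]
    have h1 : (g⁻¹ * d * g) * (g⁻¹ * x * g) = (g⁻¹ * x * g) * (g⁻¹ * d * g) :=
      ((mem_centralizer_iff.1 hdg) _ (hP₂'mem.1 hx)).symm
    have h2 : g⁻¹ * (d * x) * g = g⁻¹ * (x * d) * g := by
      calc g⁻¹ * (d * x) * g = (g⁻¹ * d * g) * (g⁻¹ * x * g) := by group
        _ = (g⁻¹ * x * g) * (g⁻¹ * d * g) := h1
        _ = _ := by group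
    have h3 := mul_right_cancel h2
    exact (mul_left_cancel h3).symm
  let P₂ : Subgroup C := P₂'.subgroupOf C
  have hP₂'card : Nat.card P₂' = p := by
    rw [← hP]
    exact Nat.card_congr ((P : Subgroup G).equivMapOfInjective _ (MulAut.conj g).injective).symm.toEquiv
  have hP₂ : Nat.card P₂ = p := by
    rw [← hP₂'card]
    exact Nat.card_congr (subgroupOfEquivOfLe hP₂'C).toEquiv
  obtain ⟨Q₂, hQ₂⟩ := exists_sylow_of_card_prime (K := C) P₂ hP₂ hp2
  have hcardC : ∀ Q : Sylow p C, Nat.card (Q : Subgroup C) = p := by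
    intro Q
    rw [Sylow.card_eq_multiplicity Q, ← Sylow.card_eq_multiplicity Q₁, hQ₁, hP₁]
  have hcardG : ∀ R : Sylow p G, Nat.card (R : Subgroup G) = p := by
    intro R
    rw [Sylow.card_eq_multiplicity R, ← Sylow.card_eq_multiplicity P, hP]
  refine ⟨Nat.card (Sylow p C), ?_, ?_, ?_, ?_⟩
  · rw [card_sylow_mod, Nat.mod_eq_of_lt hpp.one_lt]
  · intro h1
    have hsub := (Nat.card_eq_one_iff_unique.1 h1).1
    have hQ : Q₁ = Q₂ := hsub.elim _ _
    have hP₁₂ : P₁ = P₂ := by rw [← hQ₁, ← hQ₂, hQ]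
    have hPP : (P : Subgroup G) = P₂' := by
      ext x
      constructor
      · intro hx
        have h2 : (⟨x, hPC hx⟩ : C) ∈ P₁ := Subgroup.mem_subgroupOf.2 hx
        rw [hP₁₂] at h2
        exact Subgroup.mem_subgroupOf.1 h2
      · intro hx
        have h2 : (⟨x, hP₂'C hx⟩ : C) ∈ P₂ := Subgroup.mem_subgroupOf.2 hx
        rw [← hP₁₂] at h2
        exact Subgroup.mem_subgroupOf.1 h2
    apply hg
    rw [mem_normalizer_iff]
    intro h
    constructor
    · intro hh
      change _ ∈ (P : Subgroup G)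
      rw [hPP, hP₂'mem]
      have h3 : g⁻¹ * (g * h * g⁻¹) * g = h := by group
      rw [h3]
      exact hh
    · intro hh
      have hh' : g * h * g⁻¹ ∈ (P : Subgroup G) := hh
      rw [hPP, hP₂'mem] at hh'
      have h3 : g⁻¹ * (g * h * g⁻¹) * g = h := by group
      rw [h3] at hh'
      exact hh'
  · intro hcard
    have hex : ∀ Q : Sylow p C, ∃ R : Sylow p G, ((Q : Subgroup C).map C.subtype) ≤ (R : Subgroup G) := by
      intro Q
      have h1 : IsPGroup p ((Q : Subgroup C).map C.subtype) := Q.isPGroup'.map _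
      exact h1.exists_le_sylow
    choose Φ hΦ using hex
    have hmapcard : ∀ Q : Sylow p C, Nat.card ((Q : Subgroup C).map C.subtype) = p := by
      intro Q
      exact (Nat.card_congr ((Q : Subgroup C).equivMapOfInjective _ C.subtype_injective).symm.toEquiv).trans (hcardC Q)
    have hΦeq : ∀ Q : Sylow p C, ((Q : Subgroup C).map C.subtype) = (Φ Q : Subgroup G) := by
      intro Q
      apply Subgroup.eq_of_le_of_card_ge (hΦ Q)
      rw [hmapcard Q, hcardG]
    have hinj : Function.Injective Φ := by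
      intro Q Q' h
      have h1 := hΦeq Q
      rw [h, ← hΦeq Q'] at h1
      have h2 : (Q : Subgroup C) = (Q' : Subgroup C) :=
        (Subgroup.map_injective C.subtype_injective h1)
      exact Sylow.ext h2
    have hbij := hinj.bijective_of_nat_card_le (le_of_eq hcard.symm)
    apply hd
    apply eq_one_of_forall_smul_sylow hG hpG
    intro R
    obtain ⟨Q, rfl⟩ := hbij.2 R
    refine Sylow.smul_eq_iff_mem_normalizer.2 (mem_normalizer_iff.2 ?_)
    have hle : ∀ x ∈ (Φ Q : Subgroup G), x * d = d * x := by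
      intro x hx
      rw [← hΦeq Q] at hx
      obtain ⟨y, _, rfl⟩ := hx
      exact memC.1 y.2
    intro h
    constructor
    · intro hh
      have h1 := hle h hh
      have h2 : d * h * d⁻¹ = h := by rw [← h1]; group
      change d * h * d⁻¹ ∈ (Φ Q : Subgroup G)
      rw [h2]
      exact hh
    · intro hh
      have hh' : d * h * d⁻¹ ∈ (Φ Q : Subgroup G) := hh
      have h1 := hle _ hh'
      have h2 : d * h * d⁻¹ = h := by
        have h3 : (d * h * d⁻¹) * d = d * h := by group
        rw [h3] at h1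
        exact (mul_left_cancel h1).symm
      rw [h2] at hh'
      exact hh'
  · have h1 := card_normalizer_mul_card_sylow Q₁
    have h2 : p ∣ Nat.card (normalizer ((Q₁ : Subgroup C) : Set C)) := by
      have := Subgroup.card_dvd_of_le (Subgroup.le_normalizer (H := (Q₁ : Subgroup C)))
      have h9 : Nat.card (Q₁ : Subgroup C) = p := by rw [hQ₁]; exact hP₁
      rwa [h9] at this
    have h3 : Nat.card S ∣ Nat.card (normalizer ((Q₁ : Subgroup C) : Set C)) := by
      have hle : S.subgroupOf C ≤ normalizer ((Q₁ : Subgroup C) : Set C) := by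
        intro s hs
        rw [mem_normalizer_iff]
        intro x
        have hs' : s.1 ∈ S := Subgroup.mem_subgroupOf.1 hs
        rw [hQ₁]
        have := (mem_normalizer_iff.1 (hSN hs') x.1)
        constructor
        · intro hx
          exact Subgroup.mem_subgroupOf.2 (this.1 (Subgroup.mem_subgroupOf.1 hx))
        · intro hx
          exact Subgroup.mem_subgroupOf.2 (this.2 (Subgroup.mem_subgroupOf.1 hx))
      have h4 := Subgroup.card_dvd_of_le hle
      have h5 : Nat.card (S.subgroupOf C) = Nat.card S := Nat.card_congr (subgroupOfEquivOfLe hSC).toEquiv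
      rwa [h5] at h4
    have h4 : p * Nat.card S ∣ Nat.card (normalizer ((Q₁ : Subgroup C) : Set C)) :=
      Nat.Coprime.mul_dvd_of_dvd_of_dvd hSc.symm h2 h3
    have h5 : Nat.card (Sylow p C) * (p * Nat.card S) ∣ Nat.card C := by
      rw [← h1, mul_comm]
      exact Nat.mul_dvd_mul_right h4 _
    exact h5.trans (Subgroup.card_subgroup_dvd_card C)

/-- The two-local numerical test. -/
theorem two_local_test [IsSimpleGroup G] (hG : ¬ IsMulCommutative G) {p q m : ℕ} [Fact p.Prime] [Fact q.Prime]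
    (hpq : p ≠ q) (h : Nat.card G = p * m) (hm : ¬ p ∣ m) (P : Sylow p G) (a : ℕ)
    (hqa : q ^ a ∣ Nat.card (normalizer ((P : Subgroup G) : Set G)))
    (hqa' : ¬ q ^ (a + 1) ∣ Nat.card (normalizer ((P : Subgroup G) : Set G)))
    (hqG : q ^ (a + 1) ∣ Nat.card G)
    (hbd : ∀ j, j ∣ p - 1 → j ∣ q ^ a → j * j < q ^ a) :
    ∃ n : ℕ, n % p = 1 ∧ n ≠ 1 ∧ n ≠ Nat.card (Sylow p G) ∧ n * (p * q ^ a) ∣ Nat.card G := by
  classical
  have hpp : p.Prime := Fact.out
  have hqq : q.Prime := Fact.out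
  have hm0 : m ≠ 0 := by
    rintro rfl
    exact hm (dvd_zero p)
  have h' : Nat.card G = p ^ 1 * m := by rw [h, pow_one]
  have hP : Nat.card (P : Subgroup G) = p := by rw [sylow_card_of_card_eq h' hm P, pow_one]
  have hp2 : ¬ p ^ 2 ∣ Nat.card G := by
    rw [h, pow_two]
    intro hd
    exact hm (Nat.dvd_of_mul_dvd_mul_left hpp.pos hd)
  have hpG : p ∣ Nat.card G := ⟨m, h⟩
  set N : Subgroup G := normalizer ((P : Subgroup G) : Set G) with hN
  -- a Sylow subgroup of the normalizer
  obtain ⟨S₁⟩ : Nonempty (Sylow q N) := inferInstance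
  have hS₁ : Nat.card (S₁ : Subgroup N) = q ^ a := by
    rw [Sylow.card_eq_multiplicity S₁]
    have hN0 : Nat.card N ≠ 0 := Nat.card_pos.ne'
    congr 1
    have h1 : a ≤ (Nat.card N).factorization q := (hqq.pow_dvd_iff_le_factorization hN0).1 hqa
    have h2 : ¬ (a + 1 ≤ (Nat.card N).factorization q) := fun h3 =>
      hqa' ((hqq.pow_dvd_iff_le_factorization hN0).2 h3)
    omega
  let S : Subgroup G := (S₁ : Subgroup N).map N.subtype
  have hScard : Nat.card S = q ^ a := by
    rw [← hS₁]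
    exact Nat.card_congr ((S₁ : Subgroup N).equivMapOfInjective _ N.subtype_injective).symm.toEquiv
  have hSp : IsPGroup q S := S₁.isPGroup'.map _
  have hSN : S ≤ N := by
    rintro x ⟨y, _, rfl⟩
    exact y.2
  obtain ⟨T, hST⟩ := hSp.exists_le_sylow
  have hTcard : q ^ (a + 1) ∣ Nat.card (T : Subgroup G) := by
    rw [Sylow.card_eq_multiplicity T]
    exact (hqq.pow_dvd_iff_dvd_ordProj (Nat.card_pos.ne')).1 hqG
  have hlt : S < (T : Subgroup G) := by
    refine lt_of_le_of_ne hST ?_
    intro he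
    rw [← he, hScard] at hTcard
    have := Nat.pow_dvd_pow_iff_le_right hqq.one_lt |>.1 hTcard
    omega
  -- maximality
  have hmax : ∀ K : Subgroup G, IsPGroup q K → S ≤ K → K ≤ N → K = S := by
    intro K hK hSK hKN
    have h1 : IsPGroup q (K.subgroupOf N) := by
      intro x
      obtain ⟨n, hn⟩ := hK ⟨x.1.1, Subgroup.mem_subgroupOf.1 x.2⟩
      refine ⟨n, ?_⟩
      apply Subtype.ext
      apply Subtype.ext
      have h9 := congrArg Subtype.val hn
      simpa using h9
    have h2 : (S₁ : Subgroup N) ≤ K.subgroupOf N := by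
      intro x hx
      apply Subgroup.mem_subgroupOf.2
      exact hSK ⟨x, hx, rfl⟩
    have h3 := S₁.is_maximal' h1 h2
    apply le_antisymm _ hSK
    intro x hx
    have h4 : (⟨x, hKN hx⟩ : N) ∈ K.subgroupOf N := Subgroup.mem_subgroupOf.2 hx
    rw [h3] at h4
    exact ⟨_, h4, rfl⟩
  -- the size of `X`
  have hX : Nat.card S < Nat.card ↥(S ⊓ centralizer ((P : Subgroup G) : Set G)) ^ 2 := by
    set X : Subgroup G := S ⊓ centralizer ((P : Subgroup G) : Set G) with hXdef
    have hcc := card_mul_relIndex (inf_le_left : X ≤ S)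
    -- `[S : X]` divides `p - 1`
    have hj : X.relIndex S ∣ p - 1 := by
      let φ : S →* MulAut (P : Subgroup G) :=
        ((P : Subgroup G).normalizerMonoidHom).comp (Subgroup.inclusion hSN)
      have hker : φ.ker = X.subgroupOf S := by
        ext x
        rw [MonoidHom.mem_ker, Subgroup.mem_subgroupOf]
        have h1 : φ x = 1 ↔ (Subgroup.inclusion hSN x) ∈ ((P : Subgroup G).normalizerMonoidHom).ker := by
          rw [MonoidHom.mem_ker]; rfl
        rw [h1, normalizerMonoidHom_ker, Subgroup.mem_subgroupOf]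
        constructor
        · intro hx
          exact Subgroup.mem_inf.2 ⟨x.2, hx⟩
        · intro hx
          exact (Subgroup.mem_inf.1 hx).2
      have h2 : X.relIndex S = Nat.card φ.range := by
        rw [Subgroup.relIndex, ← hker, Subgroup.index_ker]
      have hc : IsCyclic (P : Subgroup G) := isCyclic_of_prime_card hP
      have h3 : Nat.card (MulAut (P : Subgroup G)) = p - 1 := by
        rw [IsCyclic.card_mulAut, hP, Nat.totient_prime hpp]
      rw [h2, ← h3]
      exact Subgroup.card_subgroup_dvd_card _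
    have hjS : X.relIndex S ∣ q ^ a := by
      rw [← hScard, ← hcc]
      exact dvd_mul_left _ _
    have h1 := hbd _ hj hjS
    rw [← hScard] at h1
    rw [← hcc] at h1 ⊢
    have hX0 : 0 < Nat.card X := Nat.card_pos
    have hj0 : 0 < X.relIndex S := Nat.pos_of_ne_zero Subgroup.index_ne_zero_of_finite
    have h2 : X.relIndex S < Nat.card X := by
      by_contra hc
      push Not at hc
      have : Nat.card X * X.relIndex S ≤ X.relIndex S * X.relIndex S := Nat.mul_le_mul_right _ hc
      exact absurd h1 (not_lt.2 this)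
    rw [pow_two]
    exact Nat.mul_lt_mul_of_pos_left h2 hX0
  obtain ⟨d, g, hd, hg, hdP, hdS, hdg⟩ := exists_central_pair (q := q) (P : Subgroup G) S T T.isPGroup' hlt hSN hmax hX
  have hSc : (Nat.card S).Coprime p := by
    rw [hScard]
    exact Nat.Coprime.pow_left _ ((Nat.coprime_primes hqq hpp).2 hpq.symm)
  have := sylow_count_centralizer hG hp2 hpG P hP S hSc hSN hd hg hdP hdS hdg
  rwa [hScard] at this

/-- Elements of the centralizer of a Sylow subgroup of prime order, of a given prime order. -/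
theorem exists_commuting {p q k : ℕ} [Fact p.Prime] [Fact q.Prime] (P : Sylow p G) (hP : Nat.card (P : Subgroup G) = p)
    (hk : Nat.card (normalizer ((P : Subgroup G) : Set G)) = p * k)
    (hq : ∀ e, e ∣ p - 1 → e ∣ k → q ∣ k / e) :
    ∃ c ∈ centralizer ((P : Subgroup G) : Set G), orderOf c = q := by
  have hpp : p.Prime := Fact.out
  have hqq : q.Prime := Fact.out
  have h1 := relIndex_dvd_of_prime_card P hP
  have h2 := card_mul_relIndex (Subgroup.centralizer_le_normalizer ((P : Subgroup G) : Set G))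
  set e := (centralizer ((P : Subgroup G) : Set G)).relIndex (normalizer ((P : Subgroup G) : Set G)) with he
  have hep : Nat.Coprime e p := by
    have hle : e ≤ p - 1 := Nat.le_of_dvd (Nat.sub_pos_of_lt hpp.one_lt) h1
    have hlt : e < p := by have := hpp.two_le; omega
    have he0 : 0 < e := Nat.pos_of_ne_zero Subgroup.index_ne_zero_of_finite
    exact Nat.Coprime.symm ((Nat.Prime.coprime_iff_not_dvd hpp).2 (Nat.not_dvd_of_pos_of_lt he0 hlt))
  have hek : e ∣ k := by
    have : e ∣ p * k := by rw [← hk, ← h2]; exact dvd_mul_left _ _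
    exact hep.dvd_of_dvd_mul_left this
  obtain ⟨k', rfl⟩ := hek
  have he0 : 0 < e := Nat.pos_of_ne_zero Subgroup.index_ne_zero_of_finite
  have hC : Nat.card (centralizer ((P : Subgroup G) : Set G)) = p * k' := by
    rw [hk] at h2
    have : Nat.card (centralizer ((P : Subgroup G) : Set G)) * e = (p * k') * e := by rw [h2]; ring
    exact Nat.eq_of_mul_eq_mul_right he0 this
  have hqk' := hq e h1 (dvd_mul_right _ _)
  rw [Nat.mul_div_cancel_left _ he0] at hqk'
  haveI : Fact q.Prime := ⟨hqq⟩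
  obtain ⟨c, hc⟩ := exists_prime_orderOf_dvd_card' (G := centralizer ((P : Subgroup G) : Set G)) q (by
    rw [hC]; exact hqk'.trans (dvd_mul_left _ _))
  refine ⟨c.1, c.2, ?_⟩
  rw [← hc]
  exact Subgroup.orderOf_coe c

/-- Facts on the number of fixed points of an element of prime order commuting with a Sylow subgroup of order `p`. -/
theorem fixedBy_facts [IsSimpleGroup G] (hG : ¬ IsMulCommutative G) {p q : ℕ} [Fact p.Prime] [Fact q.Prime]
    (hpG : p ∣ Nat.card G) (P : Sylow p G) {c : G} (hc : c ∈ centralizer ((P : Subgroup G) : Set G)) (ho : orderOf c = q) :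
    Nat.card (MulAction.fixedBy (Sylow p G) c) % p = 1 ∧
    Nat.card (MulAction.fixedBy (Sylow p G) c) % q = Nat.card (Sylow p G) % q ∧
    (q = 2 → Nat.card (MulAction.fixedBy (Sylow p G) c) % 4 = Nat.card (Sylow p G) % 4) ∧
    Nat.card (MulAction.fixedBy (Sylow p G) c) < Nat.card (Sylow p G) := by
  have hpp : p.Prime := Fact.out
  have hqq : q.Prime := Fact.out
  refine ⟨?_, ?_, ?_, ?_⟩
  · have := card_fixedBy_modEq_one P hc
    rw [Nat.ModEq, Nat.mod_eq_of_lt hpp.one_lt] at this
    exact this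
  · have hz : IsPGroup q (zpowers c) := by
      apply IsPGroup.of_card (n := 1)
      rw [Nat.card_zpowers, ho, pow_one]
    have h1 := hz.card_modEq_card_fixedPoints (Sylow p G)
    have h2 : MulAction.fixedPoints (zpowers c) (Sylow p G) = MulAction.fixedBy (Sylow p G) c := by
      ext Q
      rw [MulAction.mem_fixedPoints, MulAction.mem_fixedBy]
      constructor
      · intro h
        exact h ⟨c, mem_zpowers c⟩
      · rintro h ⟨x, hx⟩
        obtain ⟨k, rfl⟩ := Subgroup.mem_zpowers_iff.1 hx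
        have h3 : ∀ k : ℤ, c ^ k • Q = Q := by
          intro k
          have : c ∈ MulAction.stabilizer G Q := h
          exact (MulAction.stabilizer G Q).zpow_mem this k
        exact h3 k
    rw [h2] at h1
    exact h1.symm
  · intro hq2
    have hc2 : c ^ 2 = 1 := by rw [← hq2, ← ho]; exact pow_orderOf_eq_one c
    exact (Cfsg.Agent.Lib.SmallGroups3.card_modEq_fixedBy_four hG (X := Sylow p G) c hc2).symm
  · have hle : Nat.card (MulAction.fixedBy (Sylow p G) c) ≤ Nat.card (Sylow p G) := by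
      exact Nat.card_le_card_of_injective (fun x => x.1) Subtype.val_injective
    refine lt_of_le_of_ne hle ?_
    intro he
    have hc1 : c = 1 := by
      apply eq_one_of_forall_smul_sylow hG hpG
      intro Q
      have hbij : Function.Bijective (fun x : MulAction.fixedBy (Sylow p G) c => x.1) :=
        (Subtype.val_injective).bijective_of_nat_card_le (le_of_eq he.symm)
      obtain ⟨x, rfl⟩ := hbij.2 Q
      exact x.2
    rw [hc1, orderOf_one] at ho
    exact hqq.one_lt.ne ho

/-- The commuting element test. -/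
theorem comm_test [IsSimpleGroup G] (hG : ¬ IsMulCommutative G) {p q m k n : ℕ} [Fact p.Prime] [Fact q.Prime]
    (h : Nat.card G = p * m) (hm : ¬ p ∣ m) (hn : Nat.card (Sylow p G) = n) (hnk : n * k = m)
    (he : ∀ e, e ∣ p - 1 → e ∣ k → q ∣ k / e)
    (hnum : ∀ f < n, f % p = 1 → f % q = n % q → (q = 2 → f % 4 = n % 4) → False) : False := by
  have hpp : p.Prime := Fact.out
  have h' : Nat.card G = p ^ 1 * m := by rw [h, pow_one]
  obtain ⟨P⟩ : Nonempty (Sylow p G) := inferInstance
  have hP : Nat.card (P : Subgroup G) = p := by rw [sylow_card_of_card_eq h' hm P, pow_one]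
  have hN : Nat.card (normalizer ((P : Subgroup G) : Set G)) = p * k := by
    have h1 := card_normalizer_mul_card_sylow P
    rw [h, hn, ← hnk] at h1
    have hn0 : 0 < n := by rw [← hn]; exact Nat.card_pos
    have h2 : Nat.card (normalizer ((P : Subgroup G) : Set G)) * n = (p * k) * n := by rw [h1]; ring
    exact Nat.eq_of_mul_eq_mul_right hn0 h2
  obtain ⟨c, hc, ho⟩ := exists_commuting P hP hN he
  obtain ⟨h1, h2, h3, h4⟩ := fixedBy_facts hG ⟨m, h⟩ P hc ho
  rw [hn] at h2 h3 h4
  exact hnum _ h4 h1 h2 h3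

/-- The commuting element test, decidable form. -/
theorem comm_exclude [IsSimpleGroup G] (hG : ¬ IsMulCommutative G) {p q m k n : ℕ} [Fact p.Prime] [Fact q.Prime]
    (h : Nat.card G = p * m) (hm : ¬ p ∣ m) (hn : Nat.card (Sylow p G) = n) (hnk : n * k = m)
    (he : ∀ e ∈ Nat.divisors (p - 1), e ∣ k → q ∣ k / e)
    (hnum : ∀ f ∈ Finset.range n, f % p = 1 → f % q = n % q → (q = 2 → f % 4 = n % 4) → False) : False := by
  have hpp : p.Prime := Fact.out
  refine comm_test hG h hm hn hnk ?_ (fun f hf => hnum f (Finset.mem_range.2 hf))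
  intro e he1 he2
  exact he e (Nat.mem_divisors.2 ⟨he1, by have := hpp.two_le; omega⟩) he2

/-- The two-local test, decidable form. -/
theorem two_local_exclude [IsSimpleGroup G] (hG : ¬ IsMulCommutative G) {p q m n k : ℕ} [Fact p.Prime] [Fact q.Prime]
    (hpq : p ≠ q) (h : Nat.card G = p * m) (hm : ¬ p ∣ m) (hn : Nat.card (Sylow p G) = n) (hnk : n * k = m) (a D : ℕ)
    (hqa : q ^ a ∣ p * k) (hqa' : ¬ q ^ (a + 1) ∣ p * k) (hqG : q ^ (a + 1) ∣ p * m)
    (hbd : ∀ j ∈ Nat.divisors (p - 1), j ∣ q ^ a → j * j < q ^ a)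
    (hD : p * m = D * (p * q ^ a)) (hD0 : D ≠ 0)
    (hnum : ∀ n' ∈ Nat.divisors D, n' % p = 1 → n' ≠ 1 → n' ≠ n → False) : False := by
  have hpp : p.Prime := Fact.out
  have hqq : q.Prime := Fact.out
  obtain ⟨P⟩ : Nonempty (Sylow p G) := inferInstance
  have hN : Nat.card (normalizer ((P : Subgroup G) : Set G)) = p * k := by
    have h1 := card_normalizer_mul_card_sylow P
    rw [h, hn, ← hnk] at h1
    have hn0 : 0 < n := by rw [← hn]; exact Nat.card_pos
    have h2 : Nat.card (normalizer ((P : Subgroup G) : Set G)) * n = (p * k) * n := by rw [h1]; ring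
    exact Nat.eq_of_mul_eq_mul_right hn0 h2
  obtain ⟨n', h1, h2, h3, h4⟩ := two_local_test hG hpq h hm P a (by rw [hN]; exact hqa) (by rw [hN]; exact hqa')
    (by rw [h]; exact hqG) (fun j hj1 hj2 => hbd j (Nat.mem_divisors.2 ⟨hj1, by have := hpp.two_le; omega⟩) hj2)
  rw [hn] at h3
  rw [h, hD] at h4
  have hpos : 0 < p * q ^ a := Nat.mul_pos hpp.pos (pow_pos hqq.pos a)
  have h5 : n' ∣ D := Nat.dvd_of_mul_dvd_mul_right hpos h4
  exact hnum n' (Nat.mem_divisors.2 ⟨h5, hD0⟩) h1 h2 h3

end Cfsg.Agent.Lib.TwoLocal
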