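import Mathlib
import Cfsg.Agent.Lib.DefectOne
import Cfsg.Agent.Lib.CharAvg
import Cfsg.Agent.Lib.CharValues
import Cfsg.Agent.Lib.BurnsidePQ
import Cfsg.Agent.Lib.TwoLocal

/-!
# Self-centralizing subgroups of prime order, continued

General form of the star lemma (at least two classes), the full lattice data, the case `s = 2`, and the class sum
formula for involutions.
-/

set_option autoImplicit false
set_option linter.style.haveILetI false
set_option linter.unusedSectionVars false

namespace Cfsg.Agent.Lib.DefectTwo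

open Cfsg Cfsg.Agent.Lib.CharBasic Cfsg.Agent.Lib.DefectOne Subgroup
open scoped ComplexConjugate

/-- **Star lemma.**  A family of at least two integer vectors with `u_j · u_k = s + δ_{jk}`, equal weighted sums, and
common coordinate `-1` has the form `w + σ e_{e j}`, where `σ w (e j)` does not depend on `j`. -/
theorem star {I J : Type*} [Fintype I] [DecidableEq I] [Fintype J] [DecidableEq J] (s : ℕ)
    (u : J → I → ℤ) (x : I → ℤ) (hx : ∀ i, 0 < x i) (i₀ : I) (hi₀ : ∀ j, u j i₀ = -1)
    (hu : ∀ j k, ∑ i, u j i * u k i = (s : ℤ) + if j = k then 1 else 0)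
    (hd : ∀ j k, ∑ i, x i * u j i = ∑ i, x i * u k i)
    (ht : 2 ≤ Fintype.card J) :
    ∃ (w : I → ℤ) (e : J → I) (σ a : ℤ), (σ = 1 ∨ σ = -1) ∧ Function.Injective e ∧ (∀ j, w (e j) = σ * a) ∧
      ∀ j i, u j i = w i + σ * (if i = e j then 1 else 0) := by
  classical
  have hcard : 0 < Fintype.card J := by omega
  obtain ⟨j₀⟩ : Nonempty J := Fintype.card_pos_iff.1 hcard
  -- the differences
  let d : J → I → ℤ := fun j i => u j i - u j₀ i
  have hdd : ∀ j k, j ≠ j₀ → k ≠ j₀ → ∑ i, d j i * d k i = (if j = k then 2 else 1) := by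
    intro j k hj hk
    have h1 : ∑ i, d j i * d k i = ∑ i, u j i * u k i - ∑ i, u j i * u j₀ i - ∑ i, u j₀ i * u k i + ∑ i, u j₀ i * u j₀ i := by
      rw [← Finset.sum_sub_distrib, ← Finset.sum_sub_distrib, ← Finset.sum_add_distrib]
      refine Finset.sum_congr rfl fun i _ => ?_
      simp only [d]; ring
    rw [h1, hu, hu, hu, hu]
    simp only [if_neg hj, if_neg (Ne.symm hk), if_true]
    by_cases hjk : j = k
    · simp only [if_pos hjk]; ring
    · simp only [if_neg hjk]; ring
  have hd0 : ∀ j, ∑ i, x i * d j i = 0 := by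
    intro j
    have h1 : ∑ i, x i * d j i = ∑ i, x i * u j i - ∑ i, x i * u j₀ i := by
      rw [← Finset.sum_sub_distrib]
      refine Finset.sum_congr rfl fun i _ => ?_
      simp only [d]; ring
    rw [h1, hd j j₀, sub_self]
  have hpair : ∀ j, j ≠ j₀ → ∃ a b, a ≠ b ∧ d j a = 1 ∧ d j b = -1 ∧ ∀ k, k ≠ a → k ≠ b → d j k = 0 := by
    intro j hj
    apply exists_oriented_pair (d j) x hx _ (hd0 j)
    rw [hdd j j hj hj, if_pos rfl]
  have : Nonempty I := ⟨i₀⟩
  choose! α β hαβ hα hβ hz using hpair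
  -- inner product formula
  have hip : ∀ j k, j ≠ j₀ → k ≠ j₀ → j ≠ k → d k (α j) - d k (β j) = 1 := by
    intro j k hj hk hjk
    have h1 := hdd j k hj hk
    rw [if_neg hjk] at h1
    have h2 : ∑ i, d j i * d k i = d j (α j) * d k (α j) + d j (β j) * d k (β j) := by
      apply Fintype.sum_eq_add _ _ (hαβ j hj)
      intro i hi
      rw [hz j hj i hi.1 hi.2, zero_mul]
    rw [h2, hα j hj, hβ j hj] at h1
    linarith
  have hval : ∀ k, k ≠ j₀ → ∀ i, d k i = 1 ∨ d k i = -1 ∨ d k i = 0 := by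
    intro k hk i
    by_cases h1 : i = α k
    · left; rw [h1]; exact hα k hk
    · by_cases h2 : i = β k
      · right; left; rw [h2]; exact hβ k hk
      · right; right; exact hz k hk i h1 h2
  -- value 1 only at α, value -1 only at β
  have huα : ∀ k, k ≠ j₀ → ∀ i, d k i = 1 → i = α k := by
    intro k hk i hi
    by_contra h1
    by_cases h2 : i = β k
    · rw [h2, hβ k hk] at hi; omega
    · rw [hz k hk i h1 h2] at hi; omega
  have huβ : ∀ k, k ≠ j₀ → ∀ i, d k i = -1 → i = β k := by
    intro k hk i hi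
    by_contra h2
    by_cases h1 : i = α k
    · rw [h1, hα k hk] at hi; omega
    · rw [hz k hk i h1 h2] at hi; omega
  -- dichotomy for pairs
  have hxor : ∀ j k, j ≠ j₀ → k ≠ j₀ → j ≠ k → (α j = α k ∧ β j ≠ β k) ∨ (β j = β k ∧ α j ≠ α k) := by
    intro j k hj hk hjk
    have h1 := hip j k hj hk hjk
    rcases hval k hk (α j) with h2 | h2 | h2 <;> rcases hval k hk (β j) with h3 | h3 | h3 <;> rw [h2, h3] at h1 <;>
      first
        | omega
        | (left
           refine ⟨huα k hk _ h2, ?_⟩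
           intro h4
           have := hβ k hk
           rw [← h4, h3] at this
           omega)
        | (right
           refine ⟨huβ k hk _ h3, ?_⟩
           intro h4
           have := hα k hk
           rw [← h4, h2] at this
           omega)
  have hstar : ∃ (σ' : ℤ) (c : I) (g : J → I), (σ' = 1 ∨ σ' = -1) ∧
      (∀ j, j ≠ j₀ → ∀ i, d j i = σ' * ((if i = c then 1 else 0) - (if i = g j then 1 else 0))) ∧
      (∀ j, j ≠ j₀ → g j ≠ c) ∧ (∀ j k, j ≠ j₀ → k ≠ j₀ → g j = g k → j = k) := by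
    by_cases h3 : 3 ≤ Fintype.card J
    · have hcard2 : 1 < (Finset.univ.erase j₀ : Finset J).card := by
        rw [Finset.card_erase_of_mem (Finset.mem_univ _), Finset.card_univ]
        omega
      obtain ⟨j₁, hj₁, j₂, hj₂, hj₁₂⟩ := Finset.one_lt_card.1 hcard2
      have hj₁' : j₁ ≠ j₀ := Finset.ne_of_mem_erase hj₁
      have hj₂' : j₂ ≠ j₀ := Finset.ne_of_mem_erase hj₂
      rcases hxor j₁ j₂ hj₁' hj₂' hj₁₂ with ⟨h1, h2⟩ | ⟨h1, h2⟩
      · have hall : ∀ k, k ≠ j₀ → α k = α j₁ := by
          intro k hk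
          by_cases hk1 : k = j₁
          · rw [hk1]
          by_cases hk2 : k = j₂
          · rw [hk2, h1]
          rcases hxor k j₁ hk hj₁' hk1 with ⟨h3, _⟩ | ⟨h3, _⟩
          · exact h3
          rcases hxor k j₂ hk hj₂' hk2 with ⟨h4, _⟩ | ⟨h4, _⟩
          · rw [h4, h1]
          · exact absurd (h3.symm.trans h4) h2
        refine ⟨1, α j₁, β, Or.inl rfl, ?_, ?_, ?_⟩
        · intro j hj i
          have hne : α j₁ ≠ β j := by
            rw [← hall j hj]
            exact hαβ j hj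
          by_cases hi1 : i = α j₁
          · rw [hi1, if_pos rfl, if_neg hne, ← hall j hj, hα j hj]
            ring
          · by_cases hi2 : i = β j
            · rw [hi2, if_neg (Ne.symm hne), if_pos rfl, hβ j hj]
              ring
            · rw [if_neg hi1, if_neg hi2, hz j hj i (by rwa [hall j hj]) hi2]
              ring
        · intro j hj
          rw [← hall j hj]
          exact (hαβ j hj).symm
        · intro j k hj hk hjk
          by_contra hne
          rcases hxor j k hj hk hne with ⟨_, h4⟩ | ⟨_, h4⟩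
          · exact h4 hjk
          · exact h4 ((hall j hj).trans (hall k hk).symm)
      · have hall : ∀ k, k ≠ j₀ → β k = β j₁ := by
          intro k hk
          by_cases hk1 : k = j₁
          · rw [hk1]
          by_cases hk2 : k = j₂
          · rw [hk2, h1]
          rcases hxor k j₁ hk hj₁' hk1 with ⟨h3, _⟩ | ⟨h3, _⟩
          · rcases hxor k j₂ hk hj₂' hk2 with ⟨h4, _⟩ | ⟨h4, _⟩
            · exact absurd (h3.symm.trans h4) h2
            · rw [h4, h1]
          · exact h3
        refine ⟨-1, β j₁, α, Or.inr rfl, ?_, ?_, ?_⟩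
        · intro j hj i
          have hne : β j₁ ≠ α j := by
            rw [← hall j hj]
            exact (hαβ j hj).symm
          by_cases hi1 : i = β j₁
          · rw [hi1, if_pos rfl, if_neg hne, ← hall j hj, hβ j hj]
            ring
          · by_cases hi2 : i = α j
            · rw [hi2, if_neg (Ne.symm hne), if_pos rfl, hα j hj]
              ring
            · rw [if_neg hi1, if_neg hi2, hz j hj i hi2 (by rwa [hall j hj])]
              ring
        · intro j hj
          rw [← hall j hj]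
          exact (hαβ j hj)
        · intro j k hj hk hjk
          by_contra hne
          rcases hxor j k hj hk hne with ⟨_, h4⟩ | ⟨_, h4⟩
          · exact h4 ((hall j hj).trans (hall k hk).symm)
          · exact h4 hjk
    · have hc2 : Fintype.card J = 2 := by omega
      have h1lt : 1 < Fintype.card J := by omega
      obtain ⟨j₁, hj₁⟩ := Fintype.exists_ne_of_one_lt_card h1lt j₀
      have honly : ∀ k, k ≠ j₀ → k = j₁ := by
        intro k hk
        by_contra hne
        have h4 : ({j₀, j₁, k} : Finset J).card = 3 := by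
          rw [Finset.card_insert_of_notMem (by simp [hj₁.symm, hk.symm]), Finset.card_insert_of_notMem (by simp [Ne.symm hne]), Finset.card_singleton]
        have h5 := Finset.card_le_univ ({j₀, j₁, k} : Finset J)
        omega
      refine ⟨1, α j₁, β, Or.inl rfl, ?_, ?_, ?_⟩
      · intro j hj i
        obtain rfl := honly j hj
        have hne : α j ≠ β j := hαβ j hj
        by_cases hi1 : i = α j
        · rw [hi1, if_pos rfl, if_neg hne, hα j hj]
          ring
        · by_cases hi2 : i = β j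
          · rw [hi2, if_neg (Ne.symm hne), if_pos rfl, hβ j hj]
            ring
          · rw [if_neg hi1, if_neg hi2, hz j hj i hi1 hi2]
            ring
      · intro j hj
        obtain rfl := honly j hj
        exact (hαβ j hj).symm
      · intro j k hj hk _
        rw [honly j hj, honly k hk]
  obtain ⟨σ', c, g, hσ', hdform, hgc, hginj⟩ := hstar
  have hσ2 : σ' * σ' = 1 := by rcases hσ' with rfl | rfl <;> norm_num
  -- pairing with `u j₀`
  have hpairing : ∀ j, j ≠ j₀ → σ' * (u j₀ c - u j₀ (g j)) = -1 := by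
    intro j hj
    have h1 : ∑ i, d j i * u j₀ i = -1 := by
      have h2 : ∑ i, d j i * u j₀ i = ∑ i, u j i * u j₀ i - ∑ i, u j₀ i * u j₀ i := by
        rw [← Finset.sum_sub_distrib]
        refine Finset.sum_congr rfl fun i _ => ?_
        simp only [d]; ring
      rw [h2, hu, hu, if_neg hj, if_pos rfl]
      ring
    have h3 : ∑ i, d j i * u j₀ i = σ' * (u j₀ c - u j₀ (g j)) := by
      have h4 : ∀ i, d j i * u j₀ i = σ' * ((if i = c then u j₀ i else 0) - (if i = g j then u j₀ i else 0)) := by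
        intro i
        rw [hdform j hj i]
        split_ifs <;> ring
      simp_rw [h4]
      rw [← Finset.mul_sum, Finset.sum_sub_distrib, Finset.sum_ite_eq', Finset.sum_ite_eq']
      simp
    rw [← h3, h1]
  refine ⟨fun i => u j₀ i + σ' * (if i = c then 1 else 0), fun j => if j = j₀ then c else g j, -σ', -(σ' * u j₀ c + 1), ?_, ?_, ?_, ?_⟩
  · rcases hσ' with rfl | rfl <;> simp
  · intro a b hab
    by_cases ha : a = j₀ <;> by_cases hb : b = j₀
    · rw [ha, hb]
    · simp only [ha, hb, if_true, if_false] at hab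
      exact absurd hab.symm (hgc b hb)
    · simp only [ha, hb, if_true, if_false] at hab
      exact absurd hab (hgc a ha)
    · simp only [ha, hb, if_false] at hab
      exact hginj a b ha hb hab
  · intro j
    by_cases hj : j = j₀
    · simp only [hj, if_true]
      have : -σ' * -(σ' * u j₀ c + 1) = (σ' * σ') * u j₀ c + σ' := by ring
      rw [this, hσ2]; ring
    · simp only [hj, if_false]
      rw [if_neg (hgc j hj)]
      have h1 := hpairing j hj
      have h2 : σ' * u j₀ (g j) = σ' * u j₀ c + 1 := by linarith [mul_sub σ' (u j₀ c) (u j₀ (g j))]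
      have h3 : -σ' * -(σ' * u j₀ c + 1) = σ' * (σ' * u j₀ (g j)) := by rw [h2]; ring
      rw [h3, ← mul_assoc, hσ2]; ring
  · intro j i
    by_cases hj : j = j₀
    · subst hj
      simp only [if_true]
      ring
    · simp only [hj, if_false]
      have h1 := hdform j hj i
      simp only [d] at h1
      have h2 : u j i = u j₀ i + σ' * ((if i = c then 1 else 0) - (if i = g j then 1 else 0)) := by linarith
      rw [h2]
      ring


/-- Consequences of the star form: the norm of `w` and the coordinate at `i₀`. -/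
theorem star_facts {I J : Type*} [Fintype I] [DecidableEq I] [Fintype J] [DecidableEq J] (s : ℕ)
    (u : J → I → ℤ) (i₀ : I) (hi₀ : ∀ j, u j i₀ = -1)
    (hu : ∀ j k, ∑ i, u j i * u k i = (s : ℤ) + if j = k then 1 else 0)
    (ht : 2 ≤ Fintype.card J) (w : I → ℤ) (e : J → I) (σ a : ℤ) (hσ : σ = 1 ∨ σ = -1) (he : Function.Injective e)
    (hwe : ∀ j, w (e j) = σ * a) (hform : ∀ j i, u j i = w i + σ * (if i = e j then 1 else 0)) :
    (∀ j, e j ≠ i₀) ∧ w i₀ = -1 ∧ ∑ i, w i * w i = (s : ℤ) - 2 * a ∧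
      1 + (Fintype.card J : ℤ) * (a * a) ≤ ∑ i, w i * w i := by
  classical
  have hσ2 : σ * σ = 1 := by rcases hσ with rfl | rfl <;> norm_num
  have hσ0 : σ ≠ 0 := by rcases hσ with rfl | rfl <;> norm_num
  have h1lt : 1 < Fintype.card J := by omega
  have hne : ∀ j, e j ≠ i₀ := by
    intro j hj
    obtain ⟨k, hk⟩ := Fintype.exists_ne_of_one_lt_card h1lt j
    have h1 := hform k i₀
    rw [hi₀, if_neg (by rw [← hj]; exact fun h => hk (he h).symm)] at h1
    have h2 := hform j i₀
    rw [hi₀, if_pos hj.symm] at h2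
    apply hσ0
    linarith
  obtain ⟨j₀⟩ : Nonempty J := Fintype.card_pos_iff.1 (by omega)
  have hwi : w i₀ = -1 := by
    have h1 := hform j₀ i₀
    rw [hi₀, if_neg (Ne.symm (hne j₀))] at h1
    linarith
  have hnorm : ∑ i, w i * w i = (s : ℤ) - 2 * a := by
    have h1 := hu j₀ j₀
    rw [if_pos rfl] at h1
    have h2 : ∀ i, u j₀ i * u j₀ i = w i * w i + ((if i = e j₀ then 2 * σ * w i else 0) + (if i = e j₀ then 1 else 0)) := by
      intro i
      rw [hform j₀ i]
      by_cases h3 : i = e j₀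
      · simp only [if_pos h3]
        nlinarith [hσ2]
      · simp only [if_neg h3]
        ring
    simp_rw [h2] at h1
    rw [Finset.sum_add_distrib, Finset.sum_add_distrib, Finset.sum_ite_eq', Finset.sum_ite_eq'] at h1
    simp only [Finset.mem_univ, if_true, hwe j₀] at h1
    have h3 : 2 * σ * (σ * a) = 2 * a := by
      calc 2 * σ * (σ * a) = 2 * (σ * σ) * a := by ring
        _ = 2 * a := by rw [hσ2]; ring
    rw [h3] at h1
    linarith
  refine ⟨hne, hwi, hnorm, ?_⟩
  have hi₀T : i₀ ∉ (Finset.univ : Finset J).image e := by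
    intro hmem
    obtain ⟨j, _, hj⟩ := Finset.mem_image.1 hmem
    exact hne j hj
  have hle : ∑ i ∈ insert i₀ ((Finset.univ : Finset J).image e), w i * w i ≤ ∑ i, w i * w i :=
    Finset.sum_le_univ_sum_of_nonneg (fun i => mul_self_nonneg _)
  rw [Finset.sum_insert hi₀T, hwi, Finset.sum_image (fun a _ b _ h => he h)] at hle
  have h5 : ∀ j, w (e j) * w (e j) = a * a := by
    intro j
    rw [hwe]
    calc σ * a * (σ * a) = (σ * σ) * (a * a) := by ring
      _ = a * a := by rw [hσ2]; ring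
  simp only [h5, Finset.sum_const, Finset.card_univ, nsmul_eq_mul] at hle
  linarith

/-- **The sunflower for `s = 2`**, with at least two classes. -/
theorem sunflower_two {I J : Type*} [Fintype I] [DecidableEq I] [Fintype J] [DecidableEq J]
    (u : J → I → ℤ) (x : I → ℤ) (hx : ∀ i, 0 < x i) (i₀ : I) (hx₀ : x i₀ = 1) (hi₀ : ∀ j, u j i₀ = -1)
    (hu : ∀ j k, ∑ i, u j i * u k i = ((2 : ℕ) : ℤ) + if j = k then 1 else 0)
    (hd : ∀ j, ∑ i, x i * u j i = 0)
    (ht : 2 ≤ Fintype.card J) :
    ∃ (w : I → ℤ) (e : J → I) (σ : ℤ), (σ = 1 ∨ σ = -1) ∧ Function.Injective e ∧ (∀ j, w (e j) = 0) ∧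
      ∀ j i, u j i = w i + σ * (if i = e j then 1 else 0) := by
  classical
  obtain ⟨w, e, σ, a, hσ, he, hwe, hform⟩ := star 2 u x hx i₀ hi₀ hu (fun j k => by rw [hd, hd]) ht
  obtain ⟨hne, hwi, hnorm, hlow⟩ := star_facts 2 u i₀ hi₀ hu ht w e σ a hσ he hwe hform
  have hσ2 : σ * σ = 1 := by rcases hσ with rfl | rfl <;> norm_num
  have ht' : (2 : ℤ) ≤ Fintype.card J := by exact_mod_cast ht
  push_cast at hnorm
  rw [hnorm] at hlow
  have haa : 0 ≤ a * a := mul_self_nonneg a
  have ha : a = 0 ∨ a = -1 := by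
    by_contra hcon
    push Not at hcon
    rcases lt_trichotomy a 0 with h | h | h
    · have h1 : a ≤ -2 := by omega
      nlinarith
    · exact hcon.1 h
    · nlinarith
  rcases ha with rfl | rfl
  · exact ⟨w, e, σ, hσ, he, fun j => by rw [hwe]; ring, hform⟩
  · have hwe' : ∀ j, w (e j) = -σ := fun j => by rw [hwe]; ring
    have ht3 : (Fintype.card J : ℤ) ≤ 3 := by nlinarith
    have hcases : Fintype.card J = 2 ∨ Fintype.card J = 3 := by
      have : Fintype.card J ≤ 3 := by exact_mod_cast ht3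
      omega
    rcases hcases with h2 | h3
    · -- two classes: swap
      obtain ⟨j₁⟩ : Nonempty J := Fintype.card_pos_iff.1 (by omega)
      obtain ⟨j₂, hj⟩ := Fintype.exists_ne_of_one_lt_card (by omega : 1 < Fintype.card J) j₁
      have hmem : ∀ k, k = j₁ ∨ k = j₂ := by
        intro k
        by_contra hc
        push Not at hc
        have h4 : ({j₁, j₂, k} : Finset J).card = 3 := by
          rw [Finset.card_insert_of_notMem (by simp [hj.symm, hc.1.symm]), Finset.card_insert_of_notMem (by simp [hc.2.symm]),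
            Finset.card_singleton]
        have h5 := Finset.card_le_univ ({j₁, j₂, k} : Finset J)
        omega
      have hee : e j₁ ≠ e j₂ := fun h => hj (he h).symm
      refine ⟨fun i => w i + σ * ((if i = e j₁ then 1 else 0) + (if i = e j₂ then 1 else 0)),
        fun k => if k = j₁ then e j₂ else e j₁, -σ, ?_, ?_, ?_, ?_⟩
      · rcases hσ with rfl | rfl <;> simp
      · intro a b hab
        rcases hmem a with rfl | rfl <;> rcases hmem b with rfl | rfl
        · rfl
        · simp only [if_true, if_neg hj] at hab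
          exact absurd hab hee.symm
        · simp only [if_true, if_neg hj] at hab
          exact absurd hab hee
        · rfl
      · intro k
        rcases hmem k with rfl | rfl
        · simp only [if_true, if_neg hee.symm, hwe']
          ring
        · simp only [if_neg hj, if_true, if_neg hee, hwe']
          ring
      · intro k i
        rcases hmem k with rfl | rfl
        · simp only [if_true]
          rw [hform]
          ring
        · simp only [if_neg hj]
          rw [hform]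
          ring
    · -- three classes: parity
      have hlow' := hlow
      rw [h3] at hlow'
      have hT : ∀ k, k ∉ insert i₀ ((Finset.univ : Finset J).image e) → w k = 0 := by
        intro k hk
        by_contra hk0
        have hk1 : 1 ≤ w k * w k := by
          have := mul_self_pos.2 hk0
          omega
        have hi₀T : i₀ ∉ (Finset.univ : Finset J).image e := by
          intro hmem
          obtain ⟨j, _, hj⟩ := Finset.mem_image.1 hmem
          exact hne j hj
        have hle : ∑ i ∈ insert k (insert i₀ ((Finset.univ : Finset J).image e)), w i * w i ≤ ∑ i, w i * w i :=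
          Finset.sum_le_univ_sum_of_nonneg (fun i => mul_self_nonneg _)
        rw [Finset.sum_insert hk, Finset.sum_insert hi₀T, hwi, Finset.sum_image (fun a _ b _ h => he h), hnorm] at hle
        have h5 : ∀ j, w (e j) * w (e j) = 1 := by
          intro j
          rw [hwe']
          linarith
        simp only [h5, Finset.sum_const, Finset.card_univ, nsmul_eq_mul, h3] at hle
        norm_num at hle
        omega
      have hi₀T : i₀ ∉ (Finset.univ : Finset J).image e := by
        intro hmem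
        obtain ⟨j, _, hj⟩ := Finset.mem_image.1 hmem
        exact hne j hj
      have hxw : ∑ i, x i * w i = -1 - σ * ∑ k, x (e k) := by
        rw [← Finset.sum_subset (Finset.subset_univ (insert i₀ ((Finset.univ : Finset J).image e)))
          (fun k _ hk => by rw [hT k hk, mul_zero])]
        rw [Finset.sum_insert hi₀T, hwi, hx₀, Finset.sum_image (fun a _ b _ h => he h), Finset.mul_sum]
        simp only [hwe']
        rw [sub_eq_add_neg, ← Finset.sum_neg_distrib]
        congr 1
        · exact Finset.sum_congr rfl fun k _ => by ring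
      have hj : ∀ j, σ * x (e j) = 1 + σ * ∑ k, x (e k) := by
        intro j
        have h1 := hd j
        have h2 : ∀ i, x i * u j i = x i * w i + σ * (if i = e j then x i else 0) := by
          intro i
          rw [hform]
          split_ifs <;> ring
        simp_rw [h2] at h1
        rw [Finset.sum_add_distrib, hxw, ← Finset.mul_sum, Finset.sum_ite_eq'] at h1
        simp only [Finset.mem_univ, if_true] at h1
        linarith
      exfalso
      have hsum : σ * ∑ k, x (e k) = ∑ _k : J, (1 + σ * ∑ k, x (e k)) := by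
        conv_lhs => rw [Finset.mul_sum]
        exact Finset.sum_congr rfl fun k _ => hj k
      rw [Finset.sum_const, Finset.card_univ, h3] at hsum
      simp only [nsmul_eq_mul] at hsum
      push_cast at hsum
      omega

section Lattice

universe v

variable {G : Type v} [Group G] [Fintype G] {P : Subgroup G} {p : ℕ} (H : Hyp P p)
include H

/-- **The lattice data** for a self-centralizing subgroup of prime order. -/
theorem lattice_data {s : ℕ} (hs : 1 ≤ s) (hN : Nat.card (normalizer (P : Set G)) = p * s) :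
    ∃ (J : Type v) (_ : Fintype J) (_ : DecidableEq J) (r : J → (↥P →* ℂˣ)) (u : J → IrrCharacter G → ℤ)
      (d : IrrCharacter G → ℕ),
      (∀ j, r j ≠ 1) ∧ (∀ j (i : IrrCharacter G), classInner (theta P (r j)) (i : G → ℂ) = u j i) ∧
      (∀ i, 0 < d i ∧ (i : G → ℂ) 1 = d i) ∧ ((s : ℤ) * Fintype.card J = p - 1) ∧
      (∀ j k, ∑ i, u j i * u k i = (s : ℤ) + if j = k then 1 else 0) ∧
      (∀ j, u j (oneIrr G) = -1) ∧ (∀ j, ∑ i, (d i : ℤ) * u j i = 0) ∧
      (∀ i, (d i : ℤ) ≡ s * ∑ j, u j i [ZMOD p]) := by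
  classical
  haveI : Fintype ↥P := Fintype.ofFinite _
  haveI : Fintype (normalizer (P : Set G)) := Fintype.ofFinite _
  haveI : Finite (↥P →* ℂˣ) := H.finite_dual
  haveI : Fintype (↥P →* ℂˣ) := Fintype.ofFinite _
  haveI : Fintype (MulAction.orbitRel.Quotient ↥(normalizer (P : Set G)) (NT P)) := Fintype.ofFinite _
  have hp0 : (p : ℂ) ≠ 0 := by exact_mod_cast H.prime.ne_zero
  have hm : ∀ (f : ↥P →* ℂˣ) (i : IrrCharacter G), ∃ n : ℤ, classInner (theta P f) (i : G → ℂ) = n :=
    fun f i => Cfsg.Agent.Lib.GenChar.classInner_gen_irr (theta_isGen f) i.2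
  choose m hm using hm
  have hdeg : ∀ i : IrrCharacter G, ∃ n : ℕ, 0 < n ∧ (i : G → ℂ) 1 = n :=
    fun i => Cfsg.Agent.Lib.CharLattice.exists_degree_pos i.2
  choose d hdpos hd using hdeg
  -- orbit data
  let J := MulAction.orbitRel.Quotient ↥(normalizer (P : Set G)) (NT P)
  let r : J → NT P := fun j => Quotient.out j
  have hsum : ∀ F : NT P → ℤ, (∀ (x : normalizer (P : Set G)) (a : NT P), F (x • a) = F a) →
      ∑ a, F a = s * ∑ j : J, F (r j) := fun F hF =>
    sum_eq_card_mul_sum_out s (H.card_orbit hN) F hF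
  have hcardNT : (Fintype.card (NT P) : ℤ) = p - 1 := by
    have h1 : Fintype.card (NT P) = Fintype.card (↥P →* ℂˣ) - 1 := by
      rw [Fintype.card_subtype_compl, Fintype.card_subtype_eq]
    rw [h1, ← Nat.card_eq_fintype_card, H.card_dual, Nat.cast_sub H.prime.one_lt.le]
    simp
  have hJ : (s : ℤ) * Fintype.card J = p - 1 := by
    have h1 := hsum (fun _ => 1) (fun _ _ => rfl)
    simp only [Finset.sum_const, Finset.card_univ, nsmul_eq_mul, mul_one] at h1
    rw [← hcardNT, h1]
  -- `u`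
  let u : J → IrrCharacter G → ℤ := fun j i => m (r j).1 i
  have hinner : ∀ j k : J, ∑ i, u j i * u k i = (s : ℤ) + if j = k then 1 else 0 := by
    intro j k
    have h1 := inner_theta H hN (r j).2 (r k).2
    rw [parseval (theta_isClass _)] at h1
    have h2 : (∃ x : normalizer (P : Set G), x • (r k).1 = (r j).1) ↔ j = k := by
      constructor
      · rintro ⟨x, hx⟩
        have h3 : x • (r k) = r j := Subtype.ext hx
        have h4 : (Quotient.mk _ (r j) : J) = Quotient.mk _ (r k) := by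
          apply Quotient.sound
          exact ⟨x, h3⟩
        have h5 : ∀ l : J, (Quotient.mk _ (r l) : J) = l := fun l => Quotient.out_eq l
        rw [h5, h5] at h4
        exact h4
      · rintro rfl
        exact ⟨1, one_smul _ _⟩
    simp only [h2] at h1
    have h3 : ∀ i : IrrCharacter G, conj (classInner (theta P (r k).1) (i : G → ℂ)) * classInner (theta P (r j).1) (i : G → ℂ) =
        ((u j i * u k i : ℤ) : ℂ) := by
      intro i
      rw [hm, hm]
      simp only [u, Int.cast_mul, map_intCast]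
      ring
    simp_rw [h3] at h1
    rw [← Int.cast_sum] at h1
    have h4 : ((∑ i, u j i * u k i : ℤ) : ℂ) = (((s : ℤ) + if j = k then 1 else 0 : ℤ) : ℂ) := by
      rw [h1]
      split_ifs <;> simp
    exact_mod_cast h4
  have hi₀ : ∀ j, u j (oneIrr G) = -1 := by
    intro j
    have h1 := hm (r j).1 (oneIrr G)
    rw [classInner_theta (r j).1 (isClassFunction_of_isCharacter (IsIrrCharacter.isCharacter (oneIrr G).2))] at h1
    have h2 : (fun w : ↥P => ((oneIrr G : IrrCharacter G) : G → ℂ) (w : G)) = chi (1 : ↥P →* ℂˣ) := by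
      funext w
      simp [oneIrr, chi]
    rw [h2, classInner_chi, classInner_chi, if_neg (r j).2, if_pos rfl] at h1
    have h3 : ((m (r j).1 (oneIrr G) : ℤ) : ℂ) = ((-1 : ℤ) : ℂ) := by
      rw [← h1]; simp
    exact_mod_cast h3
  have hzero : ∀ f : ↥P →* ℂˣ, ∑ i, (d i : ℤ) * m f i = 0 := by
    intro f
    have h1 := eval_eq_sum (theta_isClass (P := P) f) 1
    rw [theta_one H f] at h1
    have h2 : ∀ i : IrrCharacter G, classInner (theta P f) (i : G → ℂ) * (i : G → ℂ) 1 = (((d i : ℤ) * m f i : ℤ) : ℂ) := by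
      intro i
      rw [hm, hd]
      push_cast
      ring
    simp_rw [h2] at h1
    rw [← Int.cast_sum] at h1
    exact_mod_cast h1.symm
  -- the degree formula
  have hdegf : ∀ i : IrrCharacter G, ∃ n : ℤ, (d i : ℤ) = p * n + s * ∑ j, u j i := by
    intro i
    have hrestr : IsCharacter ↥P (fun v : ↥P => (i : G → ℂ) v) :=
      isCharacter_restrict P (IsIrrCharacter.isCharacter i.2)
    have hn : ∀ f : ↥P →* ℂˣ, ∃ n : ℕ, classInner (chi f) (fun v : ↥P => (i : G → ℂ) v) = n := by
      intro f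
      obtain ⟨n, hn⟩ := classInner_char_irr hrestr (isIrr_chi f)
      refine ⟨n, ?_⟩
      rw [← classInner_conj_symm, hn]
      simp
    choose n hn using hn
    have hmn : ∀ f : ↥P →* ℂˣ, m f i = (n f : ℤ) - n 1 := by
      intro f
      have h1 := hm f i
      rw [classInner_theta f (isClassFunction_of_isCharacter (IsIrrCharacter.isCharacter i.2)), hn, hn] at h1
      have h2 : ((m f i : ℤ) : ℂ) = (((n f : ℤ) - n 1 : ℤ) : ℂ) := by
        rw [← h1]; simp
      exact_mod_cast h2
    have htot : ∑ f : ↥P →* ℂˣ, (n f : ℤ) = d i := by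
      have h1 := sum_classInner_chi H (fun v : ↥P => (i : G → ℂ) v)
      simp_rw [hn] at h1
      have h2 : (i : G → ℂ) ((1 : ↥P) : G) = d i := by
        rw [Subgroup.coe_one, hd]
      rw [h2] at h1
      simp only [map_natCast] at h1
      have h3 : ((∑ f : ↥P →* ℂˣ, (n f : ℤ) : ℤ) : ℂ) = ((d i : ℤ) : ℂ) := by
        push_cast
        exact h1
      exact_mod_cast h3
    have hsplit : ∑ f : ↥P →* ℂˣ, (n f : ℤ) = ∑ a : NT P, (n a.1 : ℤ) + n 1 := by
      rw [← Fintype.sum_subtype_add_sum_subtype (fun f : ↥P →* ℂˣ => f ≠ 1)]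
      congr 1
      have : Unique {f : ↥P →* ℂˣ // ¬ f ≠ 1} :=
        { default := ⟨1, by simp⟩
          uniq := fun a => Subtype.ext (by simpa using a.2) }
      rw [Fintype.sum_unique]
      have h5 : (((default : {f : ↥P →* ℂˣ // ¬ f ≠ 1}) : {f : ↥P →* ℂˣ // ¬ f ≠ 1}) : ↥P →* ℂˣ) = 1 := by
        simpa using (default : {f : ↥P →* ℂˣ // ¬ f ≠ 1}).2
      rw [h5]
    have hinv : ∀ (x : normalizer (P : Set G)) (a : NT P), m ((x • a : NT P)).1 i = m a.1 i := by
      intro x a
      have h1 := hm ((x • a : NT P)).1 i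
      rw [ntAction_coe, theta_smul H hN x a.2, hm] at h1
      exact_mod_cast h1.symm
    have hsumm := hsum (fun a => m a.1 i) hinv
    refine ⟨n 1, ?_⟩
    have h4 : ∑ a : NT P, (n a.1 : ℤ) = ∑ a : NT P, m a.1 i + (Fintype.card (NT P) : ℤ) * n 1 := by
      have : ∀ a : NT P, (n a.1 : ℤ) = m a.1 i + n 1 := by
        intro a
        rw [hmn]; ring
      simp_rw [this]
      rw [Finset.sum_add_distrib, Finset.sum_const, Finset.card_univ, nsmul_eq_mul]
    rw [← htot, hsplit, h4, hcardNT, hsumm]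
    ring
  have hcong : ∀ i : IrrCharacter G, (d i : ℤ) ≡ s * ∑ j, u j i [ZMOD p] := by
    intro i
    obtain ⟨n, hn⟩ := hdegf i
    rw [hn]
    simp [Int.ModEq]
  refine ⟨J, inferInstance, inferInstance, fun j => (r j).1, u, d, fun j => (r j).2, fun j i => hm (r j).1 i,
    fun i => ⟨hdpos i, hd i⟩, hJ, hinner, hi₀, fun j => hzero (r j).1, hcong⟩

/-- **Data for `s = 2`.** -/
theorem exists_data_two (hN : Nat.card (normalizer (P : Set G)) = p * 2) (hp5 : 5 ≤ p) :
    ∃ (f : ↥P →* ℂˣ) (i₁ B : IrrCharacter G) (w₁ σ : ℤ) (x₁ x₀ : ℕ), f ≠ 1 ∧ (w₁ = 1 ∨ w₁ = -1) ∧ (σ = 1 ∨ σ = -1) ∧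
      i₁ ≠ oneIrr G ∧ B ≠ oneIrr G ∧ 0 < x₁ ∧ 0 < x₀ ∧ (i₁ : G → ℂ) 1 = x₁ ∧ (B : G → ℂ) 1 = x₀ ∧
      (∀ g, theta P f g = -1 + (w₁ : ℂ) * (i₁ : G → ℂ) g + (σ : ℂ) * (B : G → ℂ) g) ∧
      -1 + w₁ * x₁ + σ * x₀ = 0 ∧ (x₁ : ℤ) ≡ - w₁ [ZMOD p] ∧ (x₀ : ℤ) ≡ 2 * σ [ZMOD p] := by
  classical
  obtain ⟨J, _, _, r, u, d, hr, hm, hd, hJ, hu, hone, hzero, hcong⟩ := lattice_data H (s := 2) (by norm_num) hN
  have hd1 : d (oneIrr G) = 1 := by
    have h1 := (hd (oneIrr G)).2
    have h2 : ((d (oneIrr G) : ℕ) : ℂ) = 1 := by rw [← h1]; rfl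
    exact_mod_cast h2
  have hcardJ : 2 ≤ Fintype.card J := by
    have hp5' : (5 : ℤ) ≤ p := by exact_mod_cast hp5
    have : (2 : ℤ) ≤ Fintype.card J := by
      push_cast at hJ
      omega
    exact_mod_cast this
  obtain ⟨w, e, σ, hσ, hinj, hwe, hform⟩ := sunflower_two u (fun i => (d i : ℤ))
    (fun i => by exact_mod_cast (hd i).1) (oneIrr G) (by rw [hd1]; rfl) hone (by exact_mod_cast hu) hzero hcardJ
  have hfacts := star_facts 2 u (oneIrr G) hone (by exact_mod_cast hu) hcardJ w e σ 0 hσ hinj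
    (fun j => by rw [hwe]; ring) hform
  obtain ⟨hne, hwi, hnorm, -⟩ := hfacts
  have hnorm2 : ∑ i, w i ^ 2 = 2 := by
    have : ∑ i, w i ^ 2 = ∑ i, w i * w i := Finset.sum_congr rfl fun i _ => pow_two _
    rw [this, hnorm]
    norm_num
  have hone2 : w (oneIrr G) ^ 2 = 1 := by rw [hwi]; norm_num
  obtain ⟨i₁, hi₁, hw1, hrest⟩ := exists_one_of_sum_sq_eq_two w (oneIrr G) hone2 hnorm2
  have hw1' : w i₁ = 1 ∨ w i₁ = -1 := sq_one_cases hw1
  obtain ⟨j₁⟩ : Nonempty J := Fintype.card_pos_iff.1 (by omega)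
  have hσ2 : σ * σ = 1 := by rcases hσ with rfl | rfl <;> norm_num
  have hBone : e j₁ ≠ oneIrr G := hne j₁
  refine ⟨r j₁, i₁, e j₁, w i₁, σ, d i₁, d (e j₁), hr j₁, hw1', hσ, hi₁, hBone, (hd _).1, (hd _).1, (hd _).2, (hd _).2, ?_, ?_, ?_, ?_⟩
  · intro g
    rw [eval_eq_sum (theta_isClass _) g]
    simp_rw [hm, hform]
    have h1 : ∀ i : IrrCharacter G, ((w i + σ * (if i = e j₁ then 1 else 0) : ℤ) : ℂ) * (i : G → ℂ) g =
        ((w i : ℤ) : ℂ) * (i : G → ℂ) g + (σ : ℂ) * (if i = e j₁ then (i : G → ℂ) g else 0) := by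
      intro i
      split_ifs <;> push_cast <;> ring
    simp_rw [h1]
    rw [Finset.sum_add_distrib, ← Finset.mul_sum, Finset.sum_ite_eq']
    simp only [Finset.mem_univ, if_true]
    have h2 : ∑ i : IrrCharacter G, ((w i : ℤ) : ℂ) * (i : G → ℂ) g =
        ((w (oneIrr G) : ℤ) : ℂ) * (oneIrr G : G → ℂ) g + ((w i₁ : ℤ) : ℂ) * (i₁ : G → ℂ) g := by
      apply Fintype.sum_eq_add _ _ (Ne.symm hi₁)
      intro k hk
      rw [hrest k hk.1 hk.2]
      simp
    rw [h2, hwi]
    have h3 : (oneIrr G : G → ℂ) g = 1 := rfl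
    rw [h3]
    push_cast
    ring
  · have h1 := hzero j₁
    simp_rw [hform] at h1
    have h2 : ∀ i : IrrCharacter G, (d i : ℤ) * (w i + σ * (if i = e j₁ then 1 else 0)) =
        (d i : ℤ) * w i + σ * (if i = e j₁ then (d i : ℤ) else 0) := by
      intro i
      split_ifs <;> ring
    simp_rw [h2] at h1
    rw [Finset.sum_add_distrib, ← Finset.mul_sum, Finset.sum_ite_eq'] at h1
    simp only [Finset.mem_univ, if_true] at h1
    have h3 : ∑ i : IrrCharacter G, (d i : ℤ) * w i = (d (oneIrr G) : ℤ) * w (oneIrr G) + (d i₁ : ℤ) * w i₁ := by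
      apply Fintype.sum_eq_add _ _ (Ne.symm hi₁)
      intro k hk
      rw [hrest k hk.1 hk.2, mul_zero]
    rw [h3, hd1, hwi] at h1
    push_cast at h1
    linarith
  · -- congruence for `i₁`
    have hne' : ∀ j, i₁ ≠ e j := by
      rintro j rfl
      rw [hwe j] at hw1
      norm_num at hw1
    have h1 : ∑ j, u j i₁ = Fintype.card J * w i₁ := by
      have h2 : ∀ j, u j i₁ = w i₁ := by
        intro j
        rw [hform j, if_neg (hne' j)]
        ring
      simp_rw [h2]
      rw [Finset.sum_const, Finset.card_univ, nsmul_eq_mul]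
    have h3 := hcong i₁
    rw [h1] at h3
    have h4 : ((2 : ℕ) : ℤ) * (Fintype.card J * w i₁) = (p - 1) * w i₁ := by
      rw [← mul_assoc, hJ]
    rw [h4] at h3
    refine h3.trans ?_
    have : ((p : ℤ) - 1) * w i₁ = - w i₁ + p * w i₁ := by ring
    rw [this]
    simp [Int.ModEq]
  · -- congruence for `B`
    have h1 : ∑ j, u j (e j₁) = σ := by
      have h2 : ∀ j, u j (e j₁) = if j = j₁ then σ else 0 := by
        intro j
        rw [hform j, hwe j₁]
        by_cases h3 : j = j₁
        · rw [if_pos h3, if_pos (by rw [h3])]; ring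
        · rw [if_neg h3, if_neg (fun h4 => h3 (hinj h4).symm)]; ring
      simp_rw [h2]
      rw [Finset.sum_ite_eq']
      simp
    have h3 := hcong (e j₁)
    rw [h1] at h3
    exact_mod_cast h3

/-- An involution in the normalizer of `P` inverts `P`. -/
theorem hyp_inverts (hp2 : p ≠ 2) {y : G} (hy : y ∈ normalizer (P : Set G)) (hy2 : y ^ 2 = 1) (hy1 : y ≠ 1) {u : G}
    (hu : u ∈ P) : y * u * y⁻¹ = u⁻¹ := by
  by_cases hu1 : u = 1
  · subst hu1; simp
  have hz := H.zpowers_eq hu hu1
  have ho : orderOf u = p := Cfsg.Agent.Lib.SmallGroups2.orderOf_eq_of_mem_of_ne_one H.prime H.card hu hu1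
  have hyinv : y⁻¹ = y := by
    rw [inv_eq_iff_mul_eq_one, ← pow_two, hy2]
  have h1 : y * u * y⁻¹ ∈ P := (mem_normalizer_iff.1 hy u).1 hu
  rw [← hz] at h1
  obtain ⟨k, hk⟩ := Subgroup.mem_zpowers_iff.1 h1
  -- applying twice
  have h2 : u ^ (k * k) = u := by
    have h3 : y * (u ^ k) * y⁻¹ = u := by
      rw [hk]
      rw [hyinv]
      have : y * (y * u * y) * y = (y * y) * u * (y * y) := by group
      rw [this, ← pow_two, hy2]
      group
    have h4 : y * (u ^ k) * y⁻¹ = (y * u * y⁻¹) ^ k := by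
      rw [conj_zpow]
    rw [h4, ← hk, ← zpow_mul] at h3
    exact h3
  have h5 : (p : ℤ) ∣ k * k - 1 := by
    have h6 : u ^ (k * k - 1) = 1 := by
      rw [zpow_sub, h2, zpow_one, mul_inv_cancel]
    rw [← ho]
    exact orderOf_dvd_iff_zpow_eq_one.2 h6
  have hpZ : Prime (p : ℤ) := Nat.prime_iff_prime_int.1 H.prime
  have h7 : (p : ℤ) ∣ (k - 1) * (k + 1) := by
    have : (k - 1) * (k + 1) = k * k - 1 := by ring
    rwa [this]
  rcases hpZ.dvd_or_dvd h7 with h8 | h8
  · -- `y` centralizes `u`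
    exfalso
    have h9 : u ^ k = u := by
      have h10 : u ^ (k - 1) = 1 := by
        rw [← ho] at h8
        exact orderOf_dvd_iff_zpow_eq_one.1 h8
      rw [zpow_sub, zpow_one, mul_inv_eq_one] at h10
      exact h10
    rw [h9] at hk
    have hc : y ∈ centralizer ({u} : Set G) := by
      rw [mem_centralizer_singleton_iff]
      rw [eq_mul_inv_iff_mul_eq] at hk
      exact hk.symm
    rw [H.cent u hu hu1] at hc
    have ho2 : orderOf y = p := Cfsg.Agent.Lib.SmallGroups2.orderOf_eq_of_mem_of_ne_one H.prime H.card hc hy1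
    have h11 : orderOf y ∣ 2 := orderOf_dvd_of_pow_eq_one hy2
    rw [ho2] at h11
    have h12 := (Nat.prime_dvd_prime_iff_eq H.prime Nat.prime_two).1 h11
    exact hp2 h12
  · have h9 : u ^ k = u⁻¹ := by
      have h10 : u ^ (k + 1) = 1 := by
        rw [← ho] at h8
        exact orderOf_dvd_iff_zpow_eq_one.1 h8
      rw [zpow_add, zpow_one] at h10
      exact eq_inv_of_mul_eq_one_left h10
    rw [← hk, h9]

/-- For an involution `y` in `N(P)`, and `u ∈ P`, `y u` is conjugate to `y`. -/
theorem hyp_isConj_mul (hp2 : p ≠ 2) {y : G} (hy : y ∈ normalizer (P : Set G)) (hy2 : y ^ 2 = 1) (hy1 : y ≠ 1) {u : G}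
    (hu : u ∈ P) : IsConj y (y * u) := by
  have hodd : Odd p := H.prime.odd_of_ne_two hp2
  obtain ⟨k, hk⟩ := hodd
  have hu0 : u ^ p = 1 := by
    by_cases hu1 : u = 1
    · subst hu1; simp
    · rw [← Cfsg.Agent.Lib.SmallGroups2.orderOf_eq_of_mem_of_ne_one H.prime H.card hu hu1]
      exact pow_orderOf_eq_one u
  let v : G := u ^ k
  have hv : v ∈ P := P.pow_mem hu k
  have hvv : v * v = u⁻¹ := by
    rw [eq_inv_iff_mul_eq_one, ← pow_add, ← pow_succ]
    have : k + k + 1 = p := by omega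
    rw [this, hu0]
  have h1 : y * v⁻¹ * y⁻¹ = v := by
    have h2 := hyp_inverts H hp2 hy hy2 hy1 (P.inv_mem hv)
    rw [h2, inv_inv]
  have h2 := hyp_inverts H hp2 hy hy2 hy1 hu
  rw [isConj_iff]
  refine ⟨v, ?_⟩
  have h3 : v * y * v⁻¹ = v * (y * v⁻¹ * y⁻¹) * y := by group
  rw [h3, h1, hvv]
  have h4 : y * u = (y * u * y⁻¹) * y := by group
  rw [h4, h2]

omit H in
open scoped Classical in
/-- The number of elements conjugating `z` to a given conjugate is the order of the centralizer. -/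
theorem card_filter_conj (z w : G) (hw : IsConj z w) :
    (Finset.univ.filter fun b : G => b * z * b⁻¹ = w).card = Nat.card (centralizer ({z} : Set G)) := by
  classical
  obtain ⟨b₀, hb₀⟩ := isConj_iff.1 hw
  rw [Nat.card_eq_fintype_card, ← Fintype.card_subtype]
  symm
  refine Fintype.card_congr ⟨fun c => ⟨b₀ * c.1, ?_⟩, fun b => ⟨b₀⁻¹ * b.1, ?_⟩, ?_, ?_⟩
  · have hc : c.1 * z = z * c.1 := (mem_centralizer_singleton_iff.1 c.2)
    rw [← hb₀]
    calc b₀ * c.1 * z * (b₀ * c.1)⁻¹ = b₀ * (c.1 * z) * c.1⁻¹ * b₀⁻¹ := by group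
      _ = b₀ * (z * c.1) * c.1⁻¹ * b₀⁻¹ := by rw [hc]
      _ = _ := by group
  · rw [mem_centralizer_singleton_iff]
    have hb : b.1 * z * b.1⁻¹ = b₀ * z * b₀⁻¹ := by rw [b.2, hb₀]
    have : (b₀⁻¹ * b.1) * z * (b₀⁻¹ * b.1)⁻¹ = z := by
      calc (b₀⁻¹ * b.1) * z * (b₀⁻¹ * b.1)⁻¹ = b₀⁻¹ * (b.1 * z * b.1⁻¹) * b₀ := by group
        _ = b₀⁻¹ * (b₀ * z * b₀⁻¹) * b₀ := by rw [hb]
        _ = z := by group
    rw [mul_inv_eq_iff_eq_mul] at this
    exact this
  · intro c
    apply Subtype.ext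
    simp
  · intro b
    apply Subtype.ext
    simp

open scoped Classical in
/-- The inner sum in the class sum formula. -/
theorem sum_extend (hp2 : p ≠ 2) (f : ↥P →* ℂˣ) (hf : f ≠ 1) (z y : G) (hy2 : y ^ 2 = 1) (hy1 : y ≠ 1) (hz2 : z ^ 2 = 1)
    (hyz : IsConj z y) :
    ∑ b : G, Cfsg.extendByZero P (alpha f) (y * (b * z * b⁻¹)) =
      if y ∈ normalizer (P : Set G) then - (Nat.card (centralizer ({z} : Set G)) : ℂ) * p else 0 := by
  classical
  haveI : Fintype ↥P := Fintype.ofFinite _
  split_ifs with hyN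
  · -- expand the extension by zero
    have hexp : ∀ g : G, Cfsg.extendByZero P (alpha f) g = ∑ u : ↥P, if g = (u : G) then alpha f u else 0 := by
      intro g
      by_cases hg : g ∈ P
      · rw [Cfsg.Agent.Lib.CharInd.extendByZero_of_mem P _ hg]
        rw [Finset.sum_eq_single (⟨g, hg⟩ : ↥P)]
        · simp
        · intro b _ hb
          rw [if_neg]
          intro h
          exact hb (Subtype.ext h.symm)
        · intro h
          exact absurd (Finset.mem_univ _) h
      · rw [Cfsg.Agent.Lib.CharInd.extendByZero_of_not_mem P _ hg]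
        symm
        apply Finset.sum_eq_zero
        intro u _
        rw [if_neg]
        rintro rfl
        exact hg u.2
    simp_rw [hexp]
    rw [Finset.sum_comm]
    have h1 : ∀ u : ↥P, ∑ b : G, (if y * (b * z * b⁻¹) = (u : G) then alpha f u else 0) =
        (Nat.card (centralizer ({z} : Set G)) : ℂ) * alpha f u := by
      intro u
      rw [← Finset.sum_filter, Finset.sum_const, nsmul_eq_mul]
      congr 1
      have hcong : (Finset.univ.filter fun b : G => y * (b * z * b⁻¹) = (u : G)) =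
          (Finset.univ.filter fun b : G => b * z * b⁻¹ = y * (u : G)) := by
        ext b
        simp only [Finset.mem_filter, Finset.mem_univ, true_and]
        have hyinv : y * y = 1 := by rw [← pow_two, hy2]
        constructor
        · intro h
          rw [← h, ← mul_assoc, hyinv, one_mul]
        · intro h
          rw [h, ← mul_assoc, hyinv, one_mul]
      rw [hcong, card_filter_conj z _ (hyz.trans (hyp_isConj_mul H hp2 hyN hy2 hy1 u.2))]
    simp_rw [h1]
    rw [← Finset.mul_sum]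
    have h2 : ∑ u : ↥P, alpha f u = - (p : ℂ) := by
      have h3 := classInner_chi f 1
      rw [if_neg hf] at h3
      unfold classInner at h3
      have hp0 : (Nat.card ↥P : ℂ)⁻¹ ≠ 0 := by
        rw [H.card]
        have : (p : ℂ) ≠ 0 := by exact_mod_cast H.prime.ne_zero
        exact inv_ne_zero this
      have h4 : ∑ u : ↥P, chi f u * conj (chi (1 : ↥P →* ℂˣ) u) = 0 := by
        rcases mul_eq_zero.1 h3 with h5 | h5
        · exact absurd h5 hp0
        · exact h5
      have h5 : ∀ u : ↥P, conj (chi (1 : ↥P →* ℂˣ) u) = 1 := by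
        intro u
        simp [chi]
      simp_rw [h5, mul_one] at h4
      unfold alpha
      simp only [Pi.sub_apply]
      rw [Finset.sum_sub_distrib, h4]
      have h6 : ∀ u : ↥P, chi (1 : ↥P →* ℂˣ) u = 1 := by
        intro u
        simp [chi]
      simp_rw [h6]
      rw [Finset.sum_const, Finset.card_univ, ← Nat.card_eq_fintype_card, H.card]
      simp
    rw [h2]
    ring
  · apply Finset.sum_eq_zero
    intro b _
    by_cases hmem : y * (b * z * b⁻¹) ∈ P
    · by_cases hone : y * (b * z * b⁻¹) = 1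
      · rw [hone]
        have := alpha_one f
        rw [← Subgroup.coe_one (H := P)] 
        rw [Cfsg.Agent.Lib.CharInd.extendByZero_coe, this]
      · exfalso
        apply hyN
        have hw2 : (b * z * b⁻¹) * (b * z * b⁻¹) = 1 := by
          have : (b * z * b⁻¹) * (b * z * b⁻¹) = b * (z * z) * b⁻¹ := by group
          rw [this, ← pow_two, hz2]
          group
        have hyy : y * y = 1 := by rw [← pow_two, hy2]
        apply H.mem_normalizer hmem hone
        have : y⁻¹ * (y * (b * z * b⁻¹)) * y = (y * (b * z * b⁻¹))⁻¹ := by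
          have hyi : y⁻¹ = y := by rw [inv_eq_iff_mul_eq_one, hyy]
          rw [hyi, ← mul_assoc, hyy, one_mul, mul_inv_rev, hyi]
          have hwi : (b * z * b⁻¹)⁻¹ = b * z * b⁻¹ := by rw [inv_eq_iff_mul_eq_one, hw2]
          rw [hwi]
        rw [this]
        exact P.inv_mem hmem
    · exact Cfsg.Agent.Lib.CharInd.extendByZero_of_not_mem P _ hmem

open scoped Classical in
/-- **The class sum formula** for `Θ_f` and an involution `z`. -/
theorem sum_theta_conj (hp2 : p ≠ 2) (f : ↥P →* ℂˣ) (hf : f ≠ 1) (z : G) (hz2 : z ^ 2 = 1) (hz1 : z ≠ 1) :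
    ∑ b : G, theta P f (z * (b * z * b⁻¹)) =
      - (Nat.card (centralizer ({z} : Set G)) : ℂ) *
        ((Finset.univ.filter fun x : G => x * z * x⁻¹ ∈ normalizer (P : Set G)).card : ℂ) := by
  classical
  have hp0 : (p : ℂ) ≠ 0 := by exact_mod_cast H.prime.ne_zero
  unfold theta Cfsg.indFun
  rw [H.card, ← Finset.mul_sum]
  rw [Finset.sum_comm]
  have h1 : ∀ x : G, ∑ b : G, Cfsg.extendByZero P (alpha f) (x⁻¹ * (z * (b * z * b⁻¹)) * x) =
      if x⁻¹ * z * x⁻¹⁻¹ ∈ normalizer (P : Set G) then - (Nat.card (centralizer ({z} : Set G)) : ℂ) * p else 0 := by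
    intro x
    have hy2 : (x⁻¹ * z * x⁻¹⁻¹) ^ 2 = 1 := by
      rw [conj_pow, hz2]
      group
    have hy1 : x⁻¹ * z * x⁻¹⁻¹ ≠ 1 := by
      intro h
      apply hz1
      have : z = x * (x⁻¹ * z * x⁻¹⁻¹) * x⁻¹ := by group
      rw [this, h]
      group
    have hyz : IsConj z (x⁻¹ * z * x⁻¹⁻¹) := isConj_iff.2 ⟨x⁻¹, rfl⟩
    rw [← sum_extend H hp2 f hf z _ hy2 hy1 hz2 hyz]
    refine Fintype.sum_equiv (Equiv.mulLeft x⁻¹) _ _ ?_
    intro b
    congr 1
    simp only [Equiv.coe_mulLeft]
    group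
  simp_rw [h1]
  have h2 : ∑ x : G, (if x⁻¹ * z * x⁻¹⁻¹ ∈ normalizer (P : Set G) then - (Nat.card (centralizer ({z} : Set G)) : ℂ) * p else 0) =
      ∑ x : G, (if x * z * x⁻¹ ∈ normalizer (P : Set G) then - (Nat.card (centralizer ({z} : Set G)) : ℂ) * p else 0) :=
    Fintype.sum_equiv (Equiv.inv G) _ _ (fun x => rfl)
  rw [h2, ← Finset.sum_filter, Finset.sum_const, nsmul_eq_mul]
  field_simp

open scoped Classical in
/-- The number of elements conjugating `z` into `N(P)` is zero or at least `|C(z)|`. -/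
theorem card_filter_conj_mem (S : Set G) (z : G) :
    (Finset.univ.filter fun x : G => x * z * x⁻¹ ∈ S).card = 0 ∨
      Nat.card (centralizer ({z} : Set G)) ≤ (Finset.univ.filter fun x : G => x * z * x⁻¹ ∈ S).card := by
  by_cases h : (Finset.univ.filter fun x : G => x * z * x⁻¹ ∈ S).card = 0
  · exact Or.inl h
  · right
    obtain ⟨x₀, hx₀⟩ := Finset.card_pos.1 (Nat.pos_of_ne_zero h)
    have hx₀' : x₀ * z * x₀⁻¹ ∈ S := (Finset.mem_filter.1 hx₀).2
    rw [← card_filter_conj z (x₀ * z * x₀⁻¹) (isConj_iff.2 ⟨x₀, rfl⟩)]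
    apply Finset.card_le_card
    intro b hb
    have hb' := (Finset.mem_filter.1 hb).2
    exact Finset.mem_filter.2 ⟨Finset.mem_univ _, by rw [hb']; exact hx₀'⟩

end Lattice

section Invol

universe v

variable {G : Type v} [Group G]

/-- Values of irreducible characters at involutions in a simple group. -/
theorem invol_value [Fintype G] [IsSimpleGroup G] (hG : ¬ IsMulCommutative G) (i : IrrCharacter G) (hi : i ≠ oneIrr G)
    {d : ℕ} (hd : (i : G → ℂ) 1 = d) {z : G} (hz2 : z ^ 2 = 1) (hz1 : z ≠ 1) :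
    ∃ y : ℤ, (i : G → ℂ) z = y ∧ |y| < d ∧ d ∣ (centralizer ({z} : Set G)).index * y.natAbs := by
  classical
  obtain ⟨_, n, ρ, hρ, rfl⟩ := i
  have hfr : Module.finrank ℂ (Fin n → ℂ) = n := by simp
  have hnd : n = d := by
    have h1 : ρ.character 1 = n := by
      have := Representation.char_one ρ
      rw [hfr] at this
      exact this
    have h2 : ((n : ℕ) : ℂ) = d := by
      rw [← h1]
      exact hd
    exact_mod_cast h2
  subst hnd
  have hne : ρ.character ≠ fun _ => 1 := by
    intro h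
    apply hi
    apply Subtype.ext
    exact h
  have hker := Cfsg.Agent.Lib.BurnsidePQ.ker_eq_bot_of_simple ρ hρ hne
  obtain ⟨b, μ, h1, -, h3, h4⟩ := Cfsg.Agent.Lib.CharValues.exists_eigenbasis_rep ρ z
  have hμ : ∀ i, μ i = 1 ∨ μ i = -1 := by
    intro i
    have h5 : ρ z (ρ z (b i)) = b i := by
      rw [← Module.End.mul_apply, ← map_mul, ← pow_two, hz2, map_one, Module.End.one_apply]
    rw [h1, map_smul, h1, smul_smul] at h5
    have h6 : (μ i * μ i - 1) • b i = 0 := by rw [sub_smul, h5, one_smul, sub_self]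
    have h7 := (smul_eq_zero.1 h6).resolve_right (b.ne_zero i)
    have h8 : (μ i - 1) * (μ i + 1) = 0 := by linear_combination h7
    rcases mul_eq_zero.1 h8 with h9 | h9
    · left; linear_combination h9
    · right; linear_combination h9
  let ε : Fin (Module.finrank ℂ (Fin n → ℂ)) → ℤ := fun i => if μ i = 1 then 1 else -1
  have hε : ∀ i, μ i = (ε i : ℂ) := by
    intro i
    simp only [ε]
    rcases hμ i with h | h
    · rw [if_pos h, h]; simp
    · have : μ i ≠ 1 := by
        rw [h]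
        intro h5
        have := congrArg Complex.re h5
        norm_num at this
      rw [if_neg this, h]; simp
  let y : ℤ := ∑ i, ε i
  have hy : ρ.character z = (y : ℂ) := by
    rw [h4]
    simp only [y]
    push_cast
    exact Finset.sum_congr rfl fun i _ => hε i
  have hyle : |y| ≤ n := by
    have h5 : |y| ≤ ∑ i, |ε i| := Finset.abs_sum_le_sum_abs _ _
    have h6 : ∀ i, |ε i| = 1 := by
      intro i
      simp only [ε]
      split_ifs <;> simp
    simp only [h6, Finset.sum_const, Finset.card_univ, Fintype.card_fin, nsmul_eq_mul, mul_one] at h5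
    rw [hfr] at h5
    exact h5
  have hylt : |y| ≠ n := by
    intro heq
    have h5 : ‖ρ.character z‖ = (Module.finrank ℂ (Fin n → ℂ) : ℝ) := by
      rw [hy, hfr, Complex.norm_intCast]
      have : ((|y| : ℤ) : ℝ) = |(y : ℝ)| := by push_cast; rfl
      rw [← this, heq]
      simp
    obtain ⟨ω, hω⟩ := (Cfsg.Agent.Lib.CharValues.norm_character_eq_iff ρ z).1 h5
    have hcentral : ∀ g : G, g * z * g⁻¹ = z := by
      intro g
      have h6 : ρ (g * z * g⁻¹ * z⁻¹) = 1 := by
        have h7 : ρ (g * z * g⁻¹) = ρ z := by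
          rw [map_mul, map_mul, hω]
          apply LinearMap.ext
          intro v
          simp only [Module.End.mul_apply, LinearMap.smul_apply, LinearMap.id_apply, map_smul]
          rw [← Module.End.mul_apply, ← map_mul, mul_inv_cancel, map_one, Module.End.one_apply]
        rw [map_mul, h7, ← map_mul, mul_inv_cancel, map_one]
      have h8 : g * z * g⁻¹ * z⁻¹ ∈ MonoidHom.ker ρ := h6
      rw [hker, Subgroup.mem_bot, mul_inv_eq_one] at h8
      exact h8
    have hzc : z ∈ Subgroup.center G := by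
      rw [Subgroup.mem_center_iff]
      intro g
      have := hcentral g
      rw [mul_inv_eq_iff_eq_mul] at this
      exact this
    rcases (inferInstance : (Subgroup.center G).Normal).eq_bot_or_eq_top with h | h
    · rw [h, Subgroup.mem_bot] at hzc
      exact hz1 hzc
    · apply hG
      exact ⟨⟨fun a b => by
        have : a ∈ Subgroup.center G := by rw [h]; trivial
        exact (Subgroup.mem_center_iff.1 this b).symm⟩⟩
  refine ⟨y, hy, lt_of_le_of_ne hyle hylt, ?_⟩
  have hint := Cfsg.Agent.Lib.CharIntegrality.isIntegral_index_mul_character_div ρ hρ z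
  rw [hy, hfr] at hint
  have hn0 : n ≠ 0 := by
    have hV := ((Cfsg.Agent.Lib.CharBasic.isIrreducible_iff ρ).1 hρ).1
    rintro rfl
    obtain ⟨a, b, hab⟩ := exists_pair_ne (Fin 0 → ℂ)
    exact hab (Subsingleton.elim _ _)
  apply Cfsg.Agent.Lib.CharIntegrality.dvd_of_isIntegral_div hn0
  rcases le_total 0 y with h5 | h5
  · have h7 : ((y.natAbs : ℕ) : ℂ) = (y : ℂ) := by
      rw [← Int.cast_natCast, Int.natAbs_of_nonneg h5]
    have h6 : (((centralizer ({z} : Set G)).index * y.natAbs : ℕ) : ℂ) / (n : ℂ) =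
        ((centralizer ({z} : Set G)).index : ℂ) * (y : ℂ) / (n : ℂ) := by
      push_cast
      rw [h7]
    rw [h6]
    exact hint
  · have h7 : ((y.natAbs : ℕ) : ℂ) = - (y : ℂ) := by
      rw [← Int.cast_natCast, Int.ofNat_natAbs_of_nonpos h5, Int.cast_neg]
    have h6 : (((centralizer ({z} : Set G)).index * y.natAbs : ℕ) : ℂ) / (n : ℂ) =
        - (((centralizer ({z} : Set G)).index : ℂ) * (y : ℂ) / (n : ℂ)) := by
      push_cast
      rw [h7]
      ring
    rw [h6]
    exact hint.neg

/-- A nontrivial Sylow `2`-subgroup contains a central involution. -/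
theorem exists_central_involution [Finite G] (T : Sylow 2 G) (hT : 2 ∣ Nat.card (T : Subgroup G)) :
    ∃ z : G, z ^ 2 = 1 ∧ z ≠ 1 ∧ (T : Subgroup G) ≤ centralizer ({z} : Set G) := by
  haveI : Fact (Nat.Prime 2) := ⟨Nat.prime_two⟩
  have hp : IsPGroup 2 (T : Subgroup G) := T.isPGroup'
  have hnt : Nontrivial (T : Subgroup G) := by
    apply Finite.one_lt_card_iff_nontrivial.1
    have h0 : 0 < Nat.card (T : Subgroup G) := Nat.card_pos
    have := Nat.le_of_dvd h0 hT
    omega
  have hc := hp.center_nontrivial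
  have h2 : 2 ∣ Nat.card (Subgroup.center (T : Subgroup G)) := by
    obtain ⟨k, hk⟩ := IsPGroup.iff_card.1 (hp.to_subgroup (Subgroup.center (T : Subgroup G)))
    rw [hk]
    have hk0 : k ≠ 0 := by
      rintro rfl
      have := Finite.one_lt_card_iff_nontrivial.2 hc
      rw [hk, pow_zero] at this
      omega
    exact dvd_pow_self 2 hk0
  obtain ⟨z, hz⟩ := exists_prime_orderOf_dvd_card' 2 h2
  have hz' : orderOf ((z : (T : Subgroup G)) : G) = 2 := by
    rw [Subgroup.orderOf_coe, Subgroup.orderOf_coe]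
    exact hz
  refine ⟨((z : (T : Subgroup G)) : G), ?_, ?_, ?_⟩
  · have := pow_orderOf_eq_one ((z : (T : Subgroup G)) : G)
    rwa [hz'] at this
  · intro h
    rw [h, orderOf_one] at hz'
    omega
  · intro x hx
    rw [mem_centralizer_singleton_iff]
    have := Subgroup.mem_center_iff.1 z.2 ⟨x, hx⟩
    exact congrArg Subtype.val this

/-- `Θ_f` vanishes on involutions when `p` is odd. -/
theorem theta_invol [Fintype G] {P : Subgroup G} {p : ℕ} (H : Hyp P p) (hp2 : p ≠ 2) (f : ↥P →* ℂˣ) {z : G} (hz2 : z ^ 2 = 1)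
    (hz1 : z ≠ 1) : theta P f z = 0 := by
  unfold theta Cfsg.indFun
  have h1 : ∑ x : G, Cfsg.extendByZero P (alpha f) (x⁻¹ * z * x) = 0 := by
    apply Finset.sum_eq_zero
    intro x _
    apply Cfsg.Agent.Lib.CharInd.extendByZero_of_not_mem
    intro hmem
    have hne : x⁻¹ * z * x ≠ 1 := by
      intro h
      apply hz1
      have : z = x * (x⁻¹ * z * x) * x⁻¹ := by group
      rw [this, h]
      group
    have ho := Cfsg.Agent.Lib.SmallGroups2.orderOf_eq_of_mem_of_ne_one H.prime H.card hmem hne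
    have h2 : (x⁻¹ * z * x) ^ 2 = 1 := by
      have : x⁻¹ * z * x = x⁻¹ * z * x⁻¹⁻¹ := by group
      rw [this, conj_pow, hz2]
      group
    have h3 := orderOf_dvd_of_pow_eq_one h2
    rw [ho] at h3
    exact hp2 ((Nat.prime_dvd_prime_iff_eq H.prime Nat.prime_two).1 h3)
  rw [h1, mul_zero]

/-- **Central involutions and the case `s = 2`.** -/
theorem s2_central_data [Finite G] [IsSimpleGroup G] (hG : ¬ IsMulCommutative G) {p m : ℕ} [Fact p.Prime]
    (h : Nat.card G = p * m) (hm : ¬ p ∣ m) (hp5 : 5 ≤ p) (hn : Nat.card (Sylow p G) * 2 = m) (T : Sylow 2 G)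
    (hT : 2 ∣ Nat.card (T : Subgroup G)) :
    ∃ (x₁ x₀ c idx A : ℕ) (w₁ σ y₁ y₀ : ℤ), (w₁ = 1 ∨ w₁ = -1) ∧ (σ = 1 ∨ σ = -1) ∧ 2 ≤ x₁ ∧ 2 ≤ x₀ ∧ x₁ ∣ m ∧ x₀ ∣ m ∧
      -1 + w₁ * x₁ + σ * x₀ = 0 ∧ (x₁ : ℤ) ≡ - w₁ [ZMOD p] ∧ (x₀ : ℤ) ≡ 2 * σ [ZMOD p] ∧
      c * idx = Nat.card G ∧ Nat.card (T : Subgroup G) ∣ c ∧ x₁ ∣ idx * y₁.natAbs ∧ x₀ ∣ idx * y₀.natAbs ∧
      |y₁| < x₁ ∧ |y₀| < x₀ ∧ -1 + w₁ * y₁ + σ * y₀ = 0 ∧ (A = 0 ∨ c ≤ A) ∧
      (c : ℤ) * A * x₁ * x₀ = (Nat.card G : ℤ) * (x₁ * x₀ - w₁ * y₁ ^ 2 * x₀ - σ * y₀ ^ 2 * x₁) := by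
  classical
  haveI := Fintype.ofFinite G
  have hpp : p.Prime := Fact.out
  have hp2 : p ≠ 2 := by omega
  obtain ⟨P⟩ : Nonempty (Sylow p G) := inferInstance
  obtain ⟨H, hN⟩ := hyp_of_sylow hG Nat.prime_two h hm hn P
  obtain ⟨f, i₁, B, w₁, σ, x₁, x₀, hf, hw₁, hσ, hi₁, hB, hx₁, hx₀, hd₁, hd₀, hθ, heq, hc₁, hc₀⟩ := exists_data_two H hN hp5
  obtain ⟨z, hz2, hz1, hTz⟩ := exists_central_involution T hT
  obtain ⟨y₁, hy₁, hlt₁, hdvd₁⟩ := invol_value hG i₁ hi₁ hd₁ hz2 hz1
  obtain ⟨y₀, hy₀, hlt₀, hdvd₀⟩ := invol_value hG B hB hd₀ hz2 hz1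
  have hne₁ := degree_ne_one hG hi₁ hd₁
  have hne₀ := degree_ne_one hG hB hd₀
  have hnd : ∀ c : ℤ, (c = 1 ∨ c = -1 ∨ c = 2 ∨ c = -2) → ¬ (p : ℤ) ∣ c := by
    intro c hc hdvd
    have h1 : (p : ℤ) ≤ |c| := Int.le_of_dvd (by rcases hc with rfl | rfl | rfl | rfl <;> norm_num) (by rwa [dvd_abs])
    rcases hc with rfl | rfl | rfl | rfl <;> norm_num at h1 <;> omega
  have hθz : (-1 : ℂ) + (w₁ : ℂ) * (y₁ : ℂ) + (σ : ℂ) * (y₀ : ℂ) = 0 := by
    have := theta_invol H hp2 f hz2 hz1
    rw [hθ, hy₁, hy₀] at this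
    exact this
  have hθz' : -1 + w₁ * y₁ + σ * y₀ = 0 := by exact_mod_cast hθz
  -- the class sum formula
  have hsum := sum_theta_conj H hp2 f hf z hz2 hz1
  set A := (Finset.univ.filter fun x : G => x * z * x⁻¹ ∈ normalizer (P : Set G)).card with hA
  set c := Nat.card (centralizer ({z} : Set G)) with hc
  simp_rw [hθ] at hsum
  rw [Finset.sum_add_distrib, Finset.sum_add_distrib, ← Finset.mul_sum, ← Finset.mul_sum] at hsum
  have hav₁ := Cfsg.Agent.Lib.CharAvg.irr_avg i₁.2 z z
  have hav₀ := Cfsg.Agent.Lib.CharAvg.irr_avg B.2 z z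
  rw [hd₁, hy₁] at hav₁
  rw [hd₀, hy₀] at hav₀
  simp only [Finset.sum_const, Finset.card_univ, nsmul_eq_mul, mul_neg, mul_one] at hsum
  rw [← Nat.card_eq_fintype_card] at hsum
  have hx₁C : (x₁ : ℂ) ≠ 0 := by exact_mod_cast hx₁.ne'
  have hx₀C : (x₀ : ℂ) ≠ 0 := by exact_mod_cast hx₀.ne'
  have hmaster : ((c : ℤ) * A * x₁ * x₀ : ℂ) =
      ((Nat.card G : ℤ) * (x₁ * x₀ - w₁ * y₁ ^ 2 * x₀ - σ * y₀ ^ 2 * x₁) : ℂ) := by
    push_cast
    have e₁ := congrArg (fun t : ℂ => t * (x₀ : ℂ) * (w₁ : ℂ)) hav₁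
    have e₀ := congrArg (fun t : ℂ => t * (x₁ : ℂ) * (σ : ℂ)) hav₀
    have e₂ := congrArg (fun t : ℂ => t * (x₁ : ℂ) * (x₀ : ℂ)) hsum
    beta_reduce at e₁ e₀ e₂
    linear_combination e₂ - e₁ - e₀
  refine ⟨x₁, x₀, c, (centralizer ({z} : Set G)).index, A, w₁, σ, y₁, y₀, hw₁, hσ, by omega, by omega, ?_, ?_, heq, hc₁, hc₀,
    ?_, ?_, hdvd₁, hdvd₀, hlt₁, hlt₀, hθz', ?_, ?_⟩
  · apply dvd_of_modEq hpp (by rw [← h]; exact degree_dvd i₁ hd₁) hc₁
    apply hnd
    rcases hw₁ with h1 | h1 <;> rw [h1] <;> simp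
  · apply dvd_of_modEq hpp (by rw [← h]; exact degree_dvd B hd₀) hc₀
    apply hnd
    rcases hσ with h1 | h1 <;> rw [h1] <;> simp
  · exact Subgroup.card_mul_index _
  · exact Subgroup.card_dvd_of_le hTz
  · exact card_filter_conj_mem H _ z
  · exact_mod_cast hmaster

end Invol

end Cfsg.Agent.Lib.DefectTwo
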