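import Mathlib
import Cfsg.Agent.Lib.SmallGroups
import Cfsg.Agent.Lib.SmallGroups2
import Cfsg.Agent.Lib.SmallGroups3
import Cfsg.Agent.Lib.Small168
import Cfsg.Agent.Lib.TwoLocal
import Cfsg.Agent.Lib.BurnsidePQ

/-!
# Centralizers of elements commuting with a Sylow subgroup of prime order

`centralizer_data`: if `d ≠ 1` centralizes `P` of order `p`, then `|C(d)| = n * |C(d) ∩ N(P)|` with `n ≡ 1 mod p`,
`n < n_p(G)`, `n = 1` forces `C(d) ≤ N(P)`, and if the order of `d` is coprime to `p - 1`, `n` is the number of Sylow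
`p`-subgroups fixed by `d`.
-/

set_option autoImplicit false

namespace Cfsg.Agent.Lib.TwoLocal2

open Subgroup Cfsg.Agent.Lib.SmallGroups2 Cfsg.Agent.Lib.Small168 Cfsg.Agent.Lib.TwoLocal

variable {G : Type*} [Group G] [Finite G]

/-- The generalized centralizer data. -/
theorem centralizer_data [IsSimpleGroup G] (hG : ¬ IsMulCommutative G) {p : ℕ} [Fact p.Prime]
    (hp2 : ¬ p ^ 2 ∣ Nat.card G) (hpG : p ∣ Nat.card G) (P : Sylow p G) (hP : Nat.card (P : Subgroup G) = p)
    {d : G} (hd : d ≠ 1) (hdP : d ∈ centralizer ((P : Subgroup G) : Set G)) :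
    ∃ n : ℕ, n % p = 1 ∧ n < Nat.card (Sylow p G) ∧
      Nat.card (centralizer ({d} : Set G)) =
        n * Nat.card ↥(centralizer ({d} : Set G) ⊓ normalizer ((P : Subgroup G) : Set G)) ∧
      (n = 1 → centralizer ({d} : Set G) ≤ normalizer ((P : Subgroup G) : Set G)) ∧
      (∀ g, g ∉ normalizer ((P : Subgroup G) : Set G) → g⁻¹ * d * g ∈ centralizer ((P : Subgroup G) : Set G) → n ≠ 1) ∧
      ((orderOf d).Coprime (p - 1) → n = Nat.card (MulAction.fixedBy (Sylow p G) d)) := by
  classical
  have hpp : p.Prime := Fact.out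
  set C : Subgroup G := centralizer ({d} : Set G) with hC
  have memC : ∀ {x : G}, x ∈ C ↔ x * d = d * x := by
    intro x
    rw [hC, mem_centralizer_singleton_iff]
  have hPC : (P : Subgroup G) ≤ C := by
    intro x hx
    rw [memC]
    exact (mem_centralizer_iff.1 hdP) x hx
  let P₁ : Subgroup C := (P : Subgroup G).subgroupOf C
  have hP₁ : Nat.card P₁ = p := by
    rw [← hP]
    exact Nat.card_congr (subgroupOfEquivOfLe hPC).toEquiv
  obtain ⟨Q₁, hQ₁⟩ := exists_sylow_of_card_prime (K := C) P₁ hP₁ hp2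
  have hcardC : ∀ Q : Sylow p C, Nat.card (Q : Subgroup C) = p := by
    intro Q
    rw [Sylow.card_eq_multiplicity Q, ← Sylow.card_eq_multiplicity Q₁, hQ₁, hP₁]
  have hcardG : ∀ R : Sylow p G, Nat.card (R : Subgroup G) = p := by
    intro R
    rw [Sylow.card_eq_multiplicity R, ← Sylow.card_eq_multiplicity P, hP]
  have hex : ∀ Q : Sylow p C, ∃ R : Sylow p G, ((Q : Subgroup C).map C.subtype) ≤ (R : Subgroup G) := by
    intro Q
    have h1 : IsPGroup p ((Q : Subgroup C).map C.subtype) := Q.isPGroup'.map _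
    exact h1.exists_le_sylow
  choose Φ hΦ using hex
  have hmapcard : ∀ Q : Sylow p C, Nat.card ((Q : Subgroup C).map C.subtype) = p := by
    intro Q
    exact (Nat.card_congr ((Q : Subgroup C).equivMapOfInjective _ C.subtype_injective).symm.toEquiv).trans (hcardC Q)
  have hΦeq : ∀ Q : Sylow p C, ((Q : Subgroup C).map C.subtype) = (Φ Q : Subgroup G) := by
    intro Q
    apply Subgroup.eq_of_le_of_card_ge (hΦ Q)
    rw [hmapcard Q, hcardG]
  have hinj : Function.Injective Φ := by
    intro Q Q' h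
    have h1 := hΦeq Q
    rw [h, ← hΦeq Q'] at h1
    have h2 : (Q : Subgroup C) = (Q' : Subgroup C) :=
      (Subgroup.map_injective C.subtype_injective h1)
    exact Sylow.ext h2
  have hΦfix : ∀ Q : Sylow p C, d • Φ Q = Φ Q := by
    intro Q
    refine Sylow.smul_eq_iff_mem_normalizer.2 (mem_normalizer_iff.2 ?_)
    have hle : ∀ x ∈ (Φ Q : Subgroup G), x * d = d * x := by
      intro x hx
      rw [← hΦeq Q] at hx
      obtain ⟨y, _, rfl⟩ := hx
      exact memC.1 y.2
    intro h
    constructor
    · intro hh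
      have h1 := hle h hh
      have h2 : d * h * d⁻¹ = h := by rw [← h1]; group
      change d * h * d⁻¹ ∈ (Φ Q : Subgroup G)
      rw [h2]
      exact hh
    · intro hh
      have hh' : d * h * d⁻¹ ∈ (Φ Q : Subgroup G) := hh
      have h1 := hle _ hh'
      have h2 : d * h * d⁻¹ = h := by
        have h3 : (d * h * d⁻¹) * d = d * h := by group
        rw [h3] at h1
        exact (mul_left_cancel h1).symm
      rw [h2] at hh'
      exact hh'
  -- the normalizer of `Q₁` in `C`
  have hNcard : Nat.card (normalizer ((Q₁ : Subgroup C) : Set C)) =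
      Nat.card ↥(C ⊓ normalizer ((P : Subgroup G) : Set G)) := by
    have h1 : normalizer ((Q₁ : Subgroup C) : Set C) = (normalizer ((P : Subgroup G) : Set G)).subgroupOf C := by
      ext x
      rw [mem_normalizer_iff, Subgroup.mem_subgroupOf, mem_normalizer_iff]
      rw [hQ₁]
      constructor
      · intro h y
        constructor
        · intro hy
          have hyC := hPC hy
          have := (h ⟨y, hyC⟩).1 (Subgroup.mem_subgroupOf.2 hy)
          exact Subgroup.mem_subgroupOf.1 this
        · intro hy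
          have hyC : y ∈ C := by
            have h2 := hPC hy
            have h3 : y = x.1⁻¹ * (x.1 * y * x.1⁻¹) * x.1 := by group
            rw [h3]
            exact C.mul_mem (C.mul_mem (C.inv_mem x.2) h2) x.2
          have := (h ⟨y, hyC⟩).2 (Subgroup.mem_subgroupOf.2 hy)
          exact Subgroup.mem_subgroupOf.1 this
      · intro h y
        constructor
        · intro hy
          exact Subgroup.mem_subgroupOf.2 ((h y.1).1 (Subgroup.mem_subgroupOf.1 hy))
        · intro hy
          exact Subgroup.mem_subgroupOf.2 ((h y.1).2 (Subgroup.mem_subgroupOf.1 hy))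
    rw [h1]
    have h2 : (normalizer ((P : Subgroup G) : Set G)).subgroupOf C =
        (C ⊓ normalizer ((P : Subgroup G) : Set G)).subgroupOf C := by
      ext x
      simp [Subgroup.mem_subgroupOf]
    rw [h2]
    exact Nat.card_congr (subgroupOfEquivOfLe inf_le_left).toEquiv
  have hcount := card_normalizer_mul_card_sylow Q₁
  rw [hNcard] at hcount
  refine ⟨Nat.card (Sylow p C), ?_, ?_, ?_, ?_, ?_, ?_⟩
  · rw [card_sylow_mod, Nat.mod_eq_of_lt hpp.one_lt]
  · have hle : Nat.card (Sylow p C) ≤ Nat.card (Sylow p G) := Nat.card_le_card_of_injective Φ hinj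
    refine lt_of_le_of_ne hle ?_
    intro hcard
    have hbij := hinj.bijective_of_nat_card_le (le_of_eq hcard.symm)
    apply hd
    apply eq_one_of_forall_smul_sylow hG hpG
    intro R
    obtain ⟨Q, rfl⟩ := hbij.2 R
    exact hΦfix Q
  · rw [← hcount, mul_comm]
  · intro h1
    have hsub := (Nat.card_eq_one_iff_unique.1 h1).1
    intro x hx
    have hx1 : (⟨x, hx⟩ : C) • Q₁ = Q₁ := hsub.elim _ _
    have hx2 : (⟨x, hx⟩ : C) ∈ normalizer ((Q₁ : Subgroup C) : Set C) := Sylow.smul_eq_iff_mem_normalizer.1 hx1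
    rw [mem_normalizer_iff] at hx2 ⊢
    rw [hQ₁] at hx2
    intro y
    constructor
    · intro hy
      have hyC := hPC hy
      have := (hx2 ⟨y, hyC⟩).1 (Subgroup.mem_subgroupOf.2 hy)
      exact Subgroup.mem_subgroupOf.1 this
    · intro hy
      have hyC : y ∈ C := by
        have h2 := hPC hy
        have h3 : y = x⁻¹ * (x * y * x⁻¹) * x := by group
        rw [h3]
        exact C.mul_mem (C.mul_mem (C.inv_mem hx) h2) hx
      have := (hx2 ⟨y, hyC⟩).2 (Subgroup.mem_subgroupOf.2 hy)
      exact Subgroup.mem_subgroupOf.1 this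
  · intro g hg hdg h1
    let P₂' : Subgroup G := (P : Subgroup G).map (MulAut.conj g).toMonoidHom
    have hP₂'mem : ∀ {x : G}, x ∈ P₂' ↔ g⁻¹ * x * g ∈ (P : Subgroup G) := by
      intro x
      constructor
      · rintro ⟨y, hy, rfl⟩
        have : g⁻¹ * ((MulAut.conj g).toMonoidHom y) * g = y := by
          simp [MulAut.conj_apply]
          group
        rw [this]
        exact hy
      · intro hx
        refine ⟨g⁻¹ * x * g, hx, ?_⟩
        simp [MulAut.conj_apply]
        group
    have hP₂'C : P₂' ≤ C := by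
      intro x hx
      rw [memC]
      have h1 : (g⁻¹ * d * g) * (g⁻¹ * x * g) = (g⁻¹ * x * g) * (g⁻¹ * d * g) :=
        ((mem_centralizer_iff.1 hdg) _ (hP₂'mem.1 hx)).symm
      have h2 : g⁻¹ * (d * x) * g = g⁻¹ * (x * d) * g := by
        calc g⁻¹ * (d * x) * g = (g⁻¹ * d * g) * (g⁻¹ * x * g) := by group
          _ = (g⁻¹ * x * g) * (g⁻¹ * d * g) := h1
          _ = _ := by group
      have h3 := mul_right_cancel h2
      exact (mul_left_cancel h3).symm
    let P₂ : Subgroup C := P₂'.subgroupOf C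
    have hP₂'card : Nat.card P₂' = p := by
      rw [← hP]
      exact Nat.card_congr ((P : Subgroup G).equivMapOfInjective _ (MulAut.conj g).injective).symm.toEquiv
    have hP₂ : Nat.card P₂ = p := by
      rw [← hP₂'card]
      exact Nat.card_congr (subgroupOfEquivOfLe hP₂'C).toEquiv
    obtain ⟨Q₂, hQ₂⟩ := exists_sylow_of_card_prime (K := C) P₂ hP₂ hp2
    have hsub := (Nat.card_eq_one_iff_unique.1 h1).1
    have hQ : Q₁ = Q₂ := hsub.elim _ _
    have hP₁₂ : P₁ = P₂ := by rw [← hQ₁, ← hQ₂, hQ]
    have hPP : (P : Subgroup G) = P₂' := by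
      ext x
      constructor
      · intro hx
        have h2 : (⟨x, hPC hx⟩ : C) ∈ P₁ := Subgroup.mem_subgroupOf.2 hx
        rw [hP₁₂] at h2
        exact Subgroup.mem_subgroupOf.1 h2
      · intro hx
        have h2 : (⟨x, hP₂'C hx⟩ : C) ∈ P₂ := Subgroup.mem_subgroupOf.2 hx
        rw [← hP₁₂] at h2
        exact Subgroup.mem_subgroupOf.1 h2
    apply hg
    rw [mem_normalizer_iff]
    intro h
    constructor
    · intro hh
      change _ ∈ (P : Subgroup G)
      rw [hPP, hP₂'mem]
      have h3 : g⁻¹ * (g * h * g⁻¹) * g = h := by group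
      rw [h3]
      exact hh
    · intro hh
      have hh' : g * h * g⁻¹ ∈ (P : Subgroup G) := hh
      rw [hPP, hP₂'mem] at hh'
      have h3 : g⁻¹ * (g * h * g⁻¹) * g = h := by group
      rw [h3] at hh'
      exact hh'
  · intro hco
    let Ψ : Sylow p C → MulAction.fixedBy (Sylow p G) d := fun Q => ⟨Φ Q, hΦfix Q⟩
    have hΨ : Function.Bijective Ψ := by
      constructor
      · intro Q Q' h
        exact hinj (congrArg Subtype.val h)
      · rintro ⟨R, hR⟩
        have hRn : d ∈ normalizer ((R : Subgroup G) : Set G) := Sylow.smul_eq_iff_mem_normalizer.1 hR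
        -- `d` acts trivially on `R`
        have hRC : (R : Subgroup G) ≤ C := by
          let φ := ((R : Subgroup G).normalizerMonoidHom)
          let dd : normalizer ((R : Subgroup G) : Set G) := ⟨d, hRn⟩
          have hord : orderOf (φ dd) ∣ orderOf d := by
            have h1 : orderOf (φ dd) ∣ orderOf dd := orderOf_map_dvd φ dd
            have h2 : orderOf dd = orderOf d := Subgroup.orderOf_mk d hRn
            rwa [h2] at h1
          have hcycR : IsCyclic (R : Subgroup G) := isCyclic_of_prime_card (hcardG R)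
          have hordA : orderOf (φ dd) ∣ p - 1 := by
            have h1 := orderOf_dvd_natCard (φ dd)
            rwa [IsCyclic.card_mulAut, hcardG, Nat.totient_prime hpp] at h1
          have h1 : orderOf (φ dd) = 1 := Nat.eq_one_of_dvd_coprimes hco hord hordA
          have h2 : φ dd = 1 := orderOf_eq_one_iff.1 h1
          have h3 : dd ∈ φ.ker := h2
          rw [normalizerMonoidHom_ker, Subgroup.mem_subgroupOf] at h3
          intro x hx
          rw [memC]
          exact (mem_centralizer_iff.1 h3) x hx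
        have hU : Nat.card ((R : Subgroup G).subgroupOf C) = p := by
          exact (Nat.card_congr (subgroupOfEquivOfLe hRC).toEquiv).trans (hcardG R)
        obtain ⟨Q, hQ⟩ := exists_sylow_of_card_prime (K := C) _ hU hp2
        refine ⟨Q, Subtype.ext ?_⟩
        apply Sylow.ext
        change (Φ Q : Subgroup G) = (R : Subgroup G)
        rw [← hΦeq Q, hQ]
        simpa using hRC
    exact Nat.card_congr (Equiv.ofBijective Ψ hΨ)

/-- A nontrivial element is not central. -/
theorem centralizer_singleton_ne_top [IsSimpleGroup G] (hG : ¬ IsMulCommutative G) {d : G} (hd : d ≠ 1) :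
    centralizer ({d} : Set G) ≠ ⊤ := by
  intro h
  have hdc : d ∈ center G := by
    rw [mem_center_iff]
    intro g
    have : g ∈ centralizer ({d} : Set G) := by rw [h]; trivial
    exact mem_centralizer_singleton_iff.1 this
  rcases (inferInstance : IsSimpleGroup G).eq_bot_or_eq_top_of_normal (center G) inferInstance with hb | ht
  · rw [hb] at hdc
    exact hd hdc
  · apply hG
    exact ⟨⟨fun a b => (mem_center_iff.1 (by rw [ht]; trivial : b ∈ center G) a)⟩⟩

/-- The index of a centralizer is not a prime power. -/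
theorem index_ne_prime_pow [IsSimpleGroup G] (hG : ¬ IsMulCommutative G) {d : G} (hd : d ≠ 1) {r k : ℕ} (hr : r.Prime) :
    (centralizer ({d} : Set G)).index ≠ r ^ k := by
  intro h
  have h1 := Cfsg.Agent.Lib.BurnsidePQ.prime_card_of_class_prime_pow r k hr d hd h
  apply hG
  haveI : IsCyclic G := isCyclic_of_prime_card (p := Nat.card G) (hp := ⟨h1⟩) rfl
  exact ⟨⟨fun a b => (IsCyclic.commGroup.mul_comm a b)⟩⟩

/-- The index of a centralizer gives an embedding in the alternating group. -/
theorem index_embed [IsSimpleGroup G] (hG : ¬ IsMulCommutative G) {d : G} (hd : d ≠ 1) :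
    2 * Nat.card G ∣ ((centralizer ({d} : Set G)).index).factorial :=
  Cfsg.Agent.Lib.SmallGroups.two_mul_card_dvd_factorial_index hG _ (centralizer_singleton_ne_top hG hd)

/-- Elements of a subgroup of order `q²` : the centralizer contains the subgroup. -/
theorem le_centralizer_of_sq {q : ℕ} [Fact q.Prime] (R : Subgroup G) (hR : Nat.card R = q ^ 2) {c : G}
    (hc : c ∈ R) : R ≤ centralizer ({c} : Set G) := by
  have hcomm : ∀ a b : R, a * b = b * a := by
    have := IsPGroup.isMulCommutative_of_card_eq_prime_sq (G := R) hR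
    exact fun a b => mul_comm' a b
  intro x hx
  rw [mem_centralizer_singleton_iff]
  have := hcomm ⟨x, hx⟩ ⟨c, hc⟩
  exact congrArg Subtype.val this

/-- A general fixed point congruence. -/
theorem card_fixedBy_modEq_inter {X : Type*} [MulAction G X] [Finite X] {p : ℕ} [Fact p.Prime] (P : Subgroup G)
    (hP : IsPGroup p P) {y : G} (hy : y ∈ centralizer (P : Set G)) :
    Nat.card (MulAction.fixedBy X y) ≡ Nat.card {x : X // y • x = x ∧ ∀ g ∈ P, g • x = x} [MOD p] := by
  classical
  let A : SubMulAction ↥P X :=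
    { carrier := MulAction.fixedBy X y
      smul_mem' := by
        intro c Q hQ
        have hQ' : y • Q = Q := hQ
        change y • (c • Q) = c • Q
        have hcy : y * (c : G) = (c : G) * y := ((mem_centralizer_iff.1 hy) c c.2).symm
        have hcc : c • Q = (c : G) • Q := rfl
        rw [hcc, smul_smul, hcy, ← smul_smul, hQ'] }
  have h1 := hP.card_modEq_card_fixedPoints (α := A)
  have h2 : Nat.card (MulAction.fixedPoints ↥P A) = Nat.card {x : X // y • x = x ∧ ∀ g ∈ P, g • x = x} := by
    apply Nat.card_congr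
    refine ⟨fun a => ⟨a.1.1, a.1.2, fun g hg => ?_⟩, fun a => ⟨⟨a.1, a.2.1⟩, fun g => ?_⟩, ?_, ?_⟩
    · have := a.2 ⟨g, hg⟩
      exact congrArg Subtype.val this
    · apply Subtype.ext
      exact a.2.2 g.1 g.2
    · intro a; rfl
    · intro a; rfl
  rw [h2] at h1
  exact h1

/-- A subgroup of the given prime power order in a subgroup. -/
theorem exists_subgroup_le_card (N : Subgroup G) {q a : ℕ} [Fact q.Prime] (h : q ^ a ∣ Nat.card N) :
    ∃ S : Subgroup G, S ≤ N ∧ Nat.card S = q ^ a := by
  have hq : q.Prime := Fact.out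
  obtain ⟨K, hK⟩ := Sylow.exists_subgroup_card_pow_prime (G := N) q h
  refine ⟨K.map N.subtype, ?_, ?_⟩
  · rintro x ⟨y, _, rfl⟩
    exact y.2
  · rw [← hK]
    exact Nat.card_congr (K.equivMapOfInjective _ N.subtype_injective).symm.toEquiv

/-- An element of `S` commuting with `P`, of order `q`. -/
theorem exists_commuting_in {p q a : ℕ} [Fact p.Prime] [Fact q.Prime] (P : Sylow p G) (hP : Nat.card (P : Subgroup G) = p)
    (S : Subgroup G) (hSN : S ≤ normalizer ((P : Subgroup G) : Set G)) (hS : Nat.card S = q ^ a)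
    (hj : ∀ j, j ∣ p - 1 → j ∣ q ^ a → j < q ^ a) :
    ∃ c ∈ S, c ∈ centralizer ((P : Subgroup G) : Set G) ∧ orderOf c = q := by
  classical
  have hpp : p.Prime := Fact.out
  have hqq : q.Prime := Fact.out
  set X : Subgroup G := S ⊓ centralizer ((P : Subgroup G) : Set G) with hXdef
  have hcc : Nat.card X * X.relIndex S = Nat.card S := card_mul_relIndex (inf_le_left : X ≤ S)
  have hrel : X.relIndex S ∣ p - 1 := by
    let φ : S →* MulAut (P : Subgroup G) :=
      ((P : Subgroup G).normalizerMonoidHom).comp (Subgroup.inclusion hSN)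
    have hker : φ.ker = X.subgroupOf S := by
      ext x
      rw [MonoidHom.mem_ker, Subgroup.mem_subgroupOf]
      have h1 : φ x = 1 ↔ (Subgroup.inclusion hSN x) ∈ ((P : Subgroup G).normalizerMonoidHom).ker := by
        rw [MonoidHom.mem_ker]; rfl
      rw [h1, normalizerMonoidHom_ker, Subgroup.mem_subgroupOf]
      constructor
      · intro hx
        exact Subgroup.mem_inf.2 ⟨x.2, hx⟩
      · intro hx
        exact (Subgroup.mem_inf.1 hx).2
    have h2 : X.relIndex S = Nat.card φ.range := by
      rw [Subgroup.relIndex, ← hker, Subgroup.index_ker]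
    have hc : IsCyclic (P : Subgroup G) := isCyclic_of_prime_card hP
    have h3 : Nat.card (MulAut (P : Subgroup G)) = p - 1 := by
      rw [IsCyclic.card_mulAut, hP, Nat.totient_prime hpp]
    rw [h2, ← h3]
    exact Subgroup.card_subgroup_dvd_card _
  have hrS : X.relIndex S ∣ q ^ a := by
    rw [← hS, ← hcc]
    exact dvd_mul_left _ _
  have hlt := hj _ hrel hrS
  have hXS : Nat.card X ∣ q ^ a := by
    rw [← hS, ← hcc]
    exact dvd_mul_right _ _
  obtain ⟨b, _, hb⟩ := (Nat.dvd_prime_pow hqq).1 hXS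
  have hb0 : b ≠ 0 := by
    rintro rfl
    rw [pow_zero] at hb
    rw [hb, one_mul, hS] at hcc
    omega
  have hqX : q ∣ Nat.card X := by
    rw [hb]
    exact dvd_pow_self q hb0
  obtain ⟨c, hc⟩ := exists_prime_orderOf_dvd_card' (G := X) q hqX
  refine ⟨c.1, c.2.1, c.2.2, ?_⟩
  rw [← hc]
  exact Subgroup.orderOf_coe c

/-- Trivial action on the coset space of a proper subgroup of a simple group. -/
theorem eq_one_of_forall_smul_quotient [IsSimpleGroup G] (H : Subgroup G) (hH : H ≠ ⊤) {c : G}
    (hc : ∀ x : G ⧸ H, c • x = x) : c = 1 := by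
  let φ : G →* Equiv.Perm (G ⧸ H) := MulAction.toPermHom G (G ⧸ H)
  rcases (inferInstance : IsSimpleGroup G).eq_bot_or_eq_top_of_normal φ.ker φ.normal_ker with hb | ht
  · have : c ∈ φ.ker := by
      rw [MonoidHom.mem_ker]
      exact Equiv.ext hc
    rw [hb] at this
    exact this
  · exfalso
    apply hH
    rw [eq_top_iff]
    intro g _
    have hg : g ∈ φ.ker := by rw [ht]; trivial
    have h1 : φ g = 1 := hg
    have h2 : g • ((1 : G) : G ⧸ H) = ((1 : G) : G ⧸ H) := congrArg (fun e : Equiv.Perm (G ⧸ H) => e ((1 : G) : G ⧸ H)) h1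
    have h3 : ((g * 1 : G) : G ⧸ H) = ((1 : G) : G ⧸ H) := h2
    rw [mul_one, eq_comm, QuotientGroup.eq] at h3
    simpa using h3

/-- A finite subgroup is normalized by anything conjugating it into itself. -/
theorem mem_normalizer_of_conj_le {P : Subgroup G} {x : G} (h : ∀ y ∈ P, x * y * x⁻¹ ∈ P) :
    x ∈ normalizer (P : Set G) := by
  have hle : P.map (MulAut.conj x).toMonoidHom ≤ P := by
    rintro _ ⟨y, hy, rfl⟩
    exact h y hy
  have heq : P.map (MulAut.conj x).toMonoidHom = P := by
    apply Subgroup.eq_of_le_of_card_ge hle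
    exact le_of_eq (Nat.card_congr (P.equivMapOfInjective _ (MulAut.conj x).injective).toEquiv)
  rw [mem_normalizer_iff]
  intro y
  constructor
  · exact h y
  · intro hy
    rw [← heq] at hy
    obtain ⟨z, hz, hzy⟩ := hy
    have : z = y := by
      have h1 : x * z * x⁻¹ = x * y * x⁻¹ := hzy
      have h2 := mul_right_cancel h1
      exact mul_left_cancel h2
    rwa [← this]

/-- The fixed points of a Sylow subgroup of prime order on `G / H` when `N(P) ≤ H`. -/
theorem fixed_point_unique {p : ℕ} [Fact p.Prime] (hp2 : ¬ p ^ 2 ∣ Nat.card G) (P : Sylow p G)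
    (hP : Nat.card (P : Subgroup G) = p) (H : Subgroup G) (hNH : normalizer ((P : Subgroup G) : Set G) ≤ H)
    (x : G ⧸ H) (hx : ∀ g ∈ (P : Subgroup G), g • x = x) : x = ((1 : G) : G ⧸ H) := by
  classical
  obtain ⟨g, rfl⟩ := QuotientGroup.mk_surjective x
  have hPH : (P : Subgroup G) ≤ H := (Subgroup.le_normalizer).trans hNH
  have hle : ∀ y ∈ (P : Subgroup G), g⁻¹ * y * g ∈ H := by
    intro y hy
    have h1 := hx y hy
    have h2 : ((y * g : G) : G ⧸ H) = ((g : G) : G ⧸ H) := h1
    rw [QuotientGroup.eq] at h2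
    have h3 : (y * g)⁻¹ * g = g⁻¹ * y⁻¹ * g := by group
    rw [h3] at h2
    have h4 : g⁻¹ * y * g = (g⁻¹ * y⁻¹ * g)⁻¹ := by group
    rw [h4]
    exact H.inv_mem h2
  -- two Sylow subgroups of `H`
  let U₁ : Subgroup H := (P : Subgroup G).subgroupOf H
  have hU₁ : Nat.card U₁ = p := (Nat.card_congr (subgroupOfEquivOfLe hPH).toEquiv).trans hP
  obtain ⟨Q₁, hQ₁⟩ := exists_sylow_of_card_prime (K := H) U₁ hU₁ hp2
  let P' : Subgroup G := (P : Subgroup G).map (MulAut.conj g⁻¹).toMonoidHom
  have hP'mem : ∀ {y : G}, y ∈ P' ↔ g * y * g⁻¹ ∈ (P : Subgroup G) := by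
    intro y
    constructor
    · rintro ⟨z, hz, rfl⟩
      have : g * ((MulAut.conj g⁻¹).toMonoidHom z) * g⁻¹ = z := by
        simp [MulAut.conj_apply]
        group
      rw [this]
      exact hz
    · intro hy
      refine ⟨g * y * g⁻¹, hy, ?_⟩
      simp [MulAut.conj_apply]
      group
  have hP'H : P' ≤ H := by
    intro y hy
    have h1 := hle _ (hP'mem.1 hy)
    have h2 : g⁻¹ * (g * y * g⁻¹) * g = y := by group
    rwa [h2] at h1
  let U₂ : Subgroup H := P'.subgroupOf H
  have hP'card : Nat.card P' = p := by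
    rw [← hP]
    exact Nat.card_congr ((P : Subgroup G).equivMapOfInjective _ (MulAut.conj g⁻¹).injective).symm.toEquiv
  have hU₂ : Nat.card U₂ = p := (Nat.card_congr (subgroupOfEquivOfLe hP'H).toEquiv).trans hP'card
  obtain ⟨Q₂, hQ₂⟩ := exists_sylow_of_card_prime (K := H) U₂ hU₂ hp2
  obtain ⟨h, hh⟩ := MulAction.exists_smul_eq H Q₁ Q₂
  -- `g * h` normalizes `P`
  have hmem : ∀ y ∈ (P : Subgroup G), g * (h.1 * y * h.1⁻¹) * g⁻¹ ∈ (P : Subgroup G) := by
    intro y hy
    have hyH : y ∈ H := hPH hy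
    have h1 : (⟨y, hyH⟩ : H) ∈ (Q₁ : Subgroup H) := by
      rw [hQ₁]
      exact Subgroup.mem_subgroupOf.2 hy
    have h2 : h * (⟨y, hyH⟩ : H) * h⁻¹ ∈ (Q₂ : Subgroup H) := by
      rw [← hh, Sylow.coe_subgroup_smul]
      exact Subgroup.smul_mem_pointwise_smul _ (MulAut.conj h) _ h1
    rw [hQ₂] at h2
    have h3 := Subgroup.mem_subgroupOf.1 h2
    exact hP'mem.1 h3
  have hgh : g * h.1 ∈ normalizer ((P : Subgroup G) : Set G) := by
    apply mem_normalizer_of_conj_le
    intro y hy
    have h1 := hmem y hy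
    have h2 : g * h.1 * y * (g * h.1)⁻¹ = g * (h.1 * y * h.1⁻¹) * g⁻¹ := by group
    rw [h2]
    exact h1
  have hgH : g ∈ H := by
    have h1 := hNH hgh
    have h2 : g = (g * h.1) * h.1⁻¹ := by group
    rw [h2]
    exact H.mul_mem h1 (H.inv_mem h.2)
  rw [eq_comm, QuotientGroup.eq]
  simpa using hgH

/-- Generic congruences for an element of prime order. -/
theorem card_fixedBy_modEq_prime {X : Type*} [MulAction G X] [Finite X] {q : ℕ} [Fact q.Prime] {c : G} (ho : orderOf c = q) :
    Nat.card X ≡ Nat.card (MulAction.fixedBy X c) [MOD q] := by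
  have hz : IsPGroup q (zpowers c) := by
    apply IsPGroup.of_card (n := 1)
    rw [Nat.card_zpowers, ho, pow_one]
  have h1 := hz.card_modEq_card_fixedPoints X
  have h2 : MulAction.fixedPoints (zpowers c) X = MulAction.fixedBy X c := by
    ext Q
    rw [MulAction.mem_fixedPoints, MulAction.mem_fixedBy]
    constructor
    · intro h
      exact h ⟨c, mem_zpowers c⟩
    · rintro h ⟨x, hx⟩
      obtain ⟨k, rfl⟩ := Subgroup.mem_zpowers_iff.1 hx
      have h3 : ∀ k : ℤ, c ^ k • Q = Q := by
        intro k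
        have : c ∈ MulAction.stabilizer G Q := h
        exact (MulAction.stabilizer G Q).zpow_mem this k
      exact h3 k
  rw [h2] at h1
  exact h1

/-- **The index test.** -/
theorem index_fix_test [IsSimpleGroup G] (hG : ¬ IsMulCommutative G) {p q : ℕ} [Fact p.Prime] [Fact q.Prime]
    (hp2 : ¬ p ^ 2 ∣ Nat.card G) (P : Sylow p G) (hP : Nat.card (P : Subgroup G) = p) (H : Subgroup G) (hH : H ≠ ⊤)
    (hNH : normalizer ((P : Subgroup G) : Set G) ≤ H) {c : G} (hc : c ∈ centralizer ((P : Subgroup G) : Set G))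
    (ho : orderOf c = q) :
    ∃ f < H.index, f % p = 1 ∧ f % q = H.index % q ∧ (q = 2 → f % 4 = H.index % 4) := by
  classical
  have hpp : p.Prime := Fact.out
  have hqq : q.Prime := Fact.out
  have hcard : Nat.card (G ⧸ H) = H.index := rfl
  refine ⟨Nat.card (MulAction.fixedBy (G ⧸ H) c), ?_, ?_, ?_, ?_⟩
  · have hle : Nat.card (MulAction.fixedBy (G ⧸ H) c) ≤ H.index :=
      Nat.card_le_card_of_injective (fun x => x.1) Subtype.val_injective
    refine lt_of_le_of_ne hle ?_
    intro he
    have hbij : Function.Bijective (fun x : MulAction.fixedBy (G ⧸ H) c => x.1) :=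
      (Subtype.val_injective).bijective_of_nat_card_le (le_of_eq (by rw [he]; rfl))
    have hc1 : c = 1 := by
      apply eq_one_of_forall_smul_quotient H hH
      intro x
      obtain ⟨y, rfl⟩ := hbij.2 x
      exact y.2
    rw [hc1, orderOf_one] at ho
    exact hqq.one_lt.ne ho
  · have h1 := card_fixedBy_modEq_inter (X := G ⧸ H) (P : Subgroup G) P.isPGroup' hc
    have h2 : Nat.card {x : G ⧸ H // c • x = x ∧ ∀ g ∈ (P : Subgroup G), g • x = x} = 1 := by
      rw [Nat.card_eq_one_iff_unique]
      refine ⟨⟨?_⟩, ⟨⟨((1 : G) : G ⧸ H), ?_, ?_⟩⟩⟩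
      · rintro ⟨x, hx, hx'⟩ ⟨y, hy, hy'⟩
        apply Subtype.ext
        exact (fixed_point_unique hp2 P hP H hNH x hx').trans (fixed_point_unique hp2 P hP H hNH y hy').symm
      · have hcH : c ∈ H := hNH (Subgroup.centralizer_le_normalizer _ hc)
        change ((c * 1 : G) : G ⧸ H) = ((1 : G) : G ⧸ H)
        rw [mul_one, eq_comm, QuotientGroup.eq]
        simpa using hcH
      · intro g hg
        have hgH : g ∈ H := hNH (Subgroup.le_normalizer hg)
        change ((g * 1 : G) : G ⧸ H) = ((1 : G) : G ⧸ H)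
        rw [mul_one, eq_comm, QuotientGroup.eq]
        simpa using hgH
    rw [h2] at h1
    rw [h1, Nat.mod_eq_of_lt hpp.one_lt]
  · have := card_fixedBy_modEq_prime (X := G ⧸ H) ho
    rw [hcard] at this
    exact this.symm
  · intro hq2
    have hc2 : c ^ 2 = 1 := by rw [← hq2, ← ho]; exact pow_orderOf_eq_one c
    exact (Cfsg.Agent.Lib.SmallGroups3.card_modEq_fixedBy_four hG (X := G ⧸ H) c hc2).symm

/-- **Two-local pair.** -/
theorem two_local_pair {p q m : ℕ} [Fact p.Prime] [Fact q.Prime]
    (h : Nat.card G = p * m) (hm : ¬ p ∣ m) (P : Sylow p G) (a : ℕ)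
    (hqa : q ^ a ∣ Nat.card (normalizer ((P : Subgroup G) : Set G)))
    (hqa' : ¬ q ^ (a + 1) ∣ Nat.card (normalizer ((P : Subgroup G) : Set G)))
    (hqG : q ^ (a + 1) ∣ Nat.card G)
    (hbd : ∀ j, j ∣ p - 1 → j ∣ q ^ a → j * j < q ^ a) :
    ∃ (S : Subgroup G) (d g : G), Nat.card S = q ^ a ∧ S ≤ normalizer ((P : Subgroup G) : Set G) ∧ d ≠ 1 ∧
      d ∈ centralizer ((P : Subgroup G) : Set G) ∧ d ∈ centralizer (S : Set G) ∧
      g ∉ normalizer ((P : Subgroup G) : Set G) ∧ g⁻¹ * d * g ∈ centralizer ((P : Subgroup G) : Set G) := by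
  classical
  have hpp : p.Prime := Fact.out
  have hqq : q.Prime := Fact.out
  have hm0 : m ≠ 0 := by
    rintro rfl
    exact hm (dvd_zero p)
  have h' : Nat.card G = p ^ 1 * m := by rw [h, pow_one]
  have hP : Nat.card (P : Subgroup G) = p := by rw [sylow_card_of_card_eq h' hm P, pow_one]
  set N : Subgroup G := normalizer ((P : Subgroup G) : Set G) with hN
  -- a Sylow subgroup of the normalizer
  obtain ⟨S₁⟩ : Nonempty (Sylow q N) := inferInstance
  have hS₁ : Nat.card (S₁ : Subgroup N) = q ^ a := by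
    rw [Sylow.card_eq_multiplicity S₁]
    have hN0 : Nat.card N ≠ 0 := Nat.card_pos.ne'
    congr 1
    have h1 : a ≤ (Nat.card N).factorization q := (hqq.pow_dvd_iff_le_factorization hN0).1 hqa
    have h2 : ¬ (a + 1 ≤ (Nat.card N).factorization q) := fun h3 =>
      hqa' ((hqq.pow_dvd_iff_le_factorization hN0).2 h3)
    omega
  let S : Subgroup G := (S₁ : Subgroup N).map N.subtype
  have hScard : Nat.card S = q ^ a := by
    rw [← hS₁]
    exact Nat.card_congr ((S₁ : Subgroup N).equivMapOfInjective _ N.subtype_injective).symm.toEquiv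
  have hSp : IsPGroup q S := S₁.isPGroup'.map _
  have hSN : S ≤ N := by
    rintro x ⟨y, _, rfl⟩
    exact y.2
  obtain ⟨T, hST⟩ := hSp.exists_le_sylow
  have hTcard : q ^ (a + 1) ∣ Nat.card (T : Subgroup G) := by
    rw [Sylow.card_eq_multiplicity T]
    exact (hqq.pow_dvd_iff_dvd_ordProj (Nat.card_pos.ne')).1 hqG
  have hlt : S < (T : Subgroup G) := by
    refine lt_of_le_of_ne hST ?_
    intro he
    rw [← he, hScard] at hTcard
    have := Nat.pow_dvd_pow_iff_le_right hqq.one_lt |>.1 hTcard
    omega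
  -- maximality
  have hmax : ∀ K : Subgroup G, IsPGroup q K → S ≤ K → K ≤ N → K = S := by
    intro K hK hSK hKN
    have h1 : IsPGroup q (K.subgroupOf N) := by
      intro x
      obtain ⟨n, hn⟩ := hK ⟨x.1.1, Subgroup.mem_subgroupOf.1 x.2⟩
      refine ⟨n, ?_⟩
      apply Subtype.ext
      apply Subtype.ext
      have h9 := congrArg Subtype.val hn
      simpa using h9
    have h2 : (S₁ : Subgroup N) ≤ K.subgroupOf N := by
      intro x hx
      apply Subgroup.mem_subgroupOf.2
      exact hSK ⟨x, hx, rfl⟩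
    have h3 := S₁.is_maximal' h1 h2
    apply le_antisymm _ hSK
    intro x hx
    have h4 : (⟨x, hKN hx⟩ : N) ∈ K.subgroupOf N := Subgroup.mem_subgroupOf.2 hx
    rw [h3] at h4
    exact ⟨_, h4, rfl⟩
  -- the size of `X`
  have hX : Nat.card S < Nat.card ↥(S ⊓ centralizer ((P : Subgroup G) : Set G)) ^ 2 := by
    set X : Subgroup G := S ⊓ centralizer ((P : Subgroup G) : Set G) with hXdef
    have hcc : Nat.card X * X.relIndex S = Nat.card S := card_mul_relIndex (inf_le_left : X ≤ S)
    -- `[S : X]` divides `p - 1`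
    have hj : X.relIndex S ∣ p - 1 := by
      let φ : S →* MulAut (P : Subgroup G) :=
        ((P : Subgroup G).normalizerMonoidHom).comp (Subgroup.inclusion hSN)
      have hker : φ.ker = X.subgroupOf S := by
        ext x
        rw [MonoidHom.mem_ker, Subgroup.mem_subgroupOf]
        have h1 : φ x = 1 ↔ (Subgroup.inclusion hSN x) ∈ ((P : Subgroup G).normalizerMonoidHom).ker := by
          rw [MonoidHom.mem_ker]; rfl
        rw [h1, normalizerMonoidHom_ker, Subgroup.mem_subgroupOf]
        constructor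
        · intro hx
          exact Subgroup.mem_inf.2 ⟨x.2, hx⟩
        · intro hx
          exact (Subgroup.mem_inf.1 hx).2
      have h2 : X.relIndex S = Nat.card φ.range := by
        rw [Subgroup.relIndex, ← hker, Subgroup.index_ker]
      have hc : IsCyclic (P : Subgroup G) := isCyclic_of_prime_card hP
      have h3 : Nat.card (MulAut (P : Subgroup G)) = p - 1 := by
        rw [IsCyclic.card_mulAut, hP, Nat.totient_prime hpp]
      rw [h2, ← h3]
      exact Subgroup.card_subgroup_dvd_card _
    have hjS : X.relIndex S ∣ q ^ a := by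
      rw [← hScard, ← hcc]
      exact dvd_mul_left _ _
    have h1 := hbd _ hj hjS
    rw [← hScard] at h1
    rw [← hcc] at h1 ⊢
    have hX0 : 0 < Nat.card X := Nat.card_pos
    have hj0 : 0 < X.relIndex S := Nat.pos_of_ne_zero Subgroup.index_ne_zero_of_finite
    have h2 : X.relIndex S < Nat.card X := by
      by_contra hc
      push Not at hc
      have : Nat.card X * X.relIndex S ≤ X.relIndex S * X.relIndex S := Nat.mul_le_mul_right _ hc
      exact absurd h1 (not_lt.2 this)
    rw [pow_two]
    exact Nat.mul_lt_mul_of_pos_left h2 hX0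
  obtain ⟨d, g, hd, hg, hdP, hdS, hdg⟩ := exists_central_pair (q := q) (P : Subgroup G) S T T.isPGroup' hlt hSN hmax hX
  exact ⟨S, d, g, hScard, hSN, hd, hdP, hdS, hg, hdg⟩

/-- Data in the two-local situation with the information on the index. -/
theorem two_local_index [IsSimpleGroup G] (hG : ¬ IsMulCommutative G) {p q m : ℕ} [Fact p.Prime] [Fact q.Prime]
    (hpq : p ≠ q) (h : Nat.card G = p * m) (hm : ¬ p ∣ m) (P : Sylow p G) (a : ℕ)
    (hqa : q ^ a ∣ Nat.card (normalizer ((P : Subgroup G) : Set G)))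
    (hqa' : ¬ q ^ (a + 1) ∣ Nat.card (normalizer ((P : Subgroup G) : Set G)))
    (hqG : q ^ (a + 1) ∣ Nat.card G)
    (hbd : ∀ j, j ∣ p - 1 → j ∣ q ^ a → j * j < q ^ a) :
    ∃ (n u i : ℕ) (d : G), n % p = 1 ∧ n ≠ 1 ∧ n < Nat.card (Sylow p G) ∧ u ∣ Nat.card (normalizer ((P : Subgroup G) : Set G)) ∧
      p * q ^ a ∣ u ∧ n * u * i = Nat.card G ∧ (∀ r k, r.Prime → i ≠ r ^ k) ∧ 2 * Nat.card G ∣ i.factorial ∧
      d ≠ 1 ∧ d ∈ centralizer ((P : Subgroup G) : Set G) ∧ (centralizer ({d} : Set G)).index = i ∧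
      Nat.card (centralizer ({d} : Set G)) = n * u := by
  have hpp : p.Prime := Fact.out
  have hqq : q.Prime := Fact.out
  have hp2 : ¬ p ^ 2 ∣ Nat.card G := by
    rw [h, pow_two]
    intro hd
    exact hm (Nat.dvd_of_mul_dvd_mul_left hpp.pos hd)
  have h' : Nat.card G = p ^ 1 * m := by rw [h, pow_one]
  have hP : Nat.card (P : Subgroup G) = p := by rw [sylow_card_of_card_eq h' hm P, pow_one]
  obtain ⟨S, d, g, hS, hSN, hd, hdP, hdS, hg, hdg⟩ := two_local_pair h hm P a hqa hqa' hqG hbd
  obtain ⟨n, h1, h2, h3, -, h5, -⟩ := centralizer_data hG hp2 ⟨m, h⟩ P hP hd hdP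
  refine ⟨n, _, (centralizer ({d} : Set G)).index, d, h1, h5 g hg hdg, h2, Subgroup.card_dvd_of_le inf_le_right, ?_, ?_,
    fun r k hr => index_ne_prime_pow hG hd hr, index_embed hG hd, hd, hdP, rfl, h3⟩
  · have hSC : S ≤ centralizer ({d} : Set G) := by
      intro x hx
      rw [mem_centralizer_singleton_iff]
      exact (mem_centralizer_iff.1 hdS x hx)
    have hPC : (P : Subgroup G) ≤ centralizer ({d} : Set G) := by
      intro x hx
      rw [mem_centralizer_singleton_iff]
      exact (mem_centralizer_iff.1 hdP x hx)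
    have h6 : q ^ a ∣ Nat.card ↥(centralizer ({d} : Set G) ⊓ normalizer ((P : Subgroup G) : Set G)) := by
      rw [← hS]
      exact Subgroup.card_dvd_of_le (le_inf hSC hSN)
    have h7 : p ∣ Nat.card ↥(centralizer ({d} : Set G) ⊓ normalizer ((P : Subgroup G) : Set G)) := by
      have := Subgroup.card_dvd_of_le (le_inf hPC Subgroup.le_normalizer :
        (P : Subgroup G) ≤ centralizer ({d} : Set G) ⊓ normalizer ((P : Subgroup G) : Set G))
      rwa [hP] at this
    exact Nat.Coprime.mul_dvd_of_dvd_of_dvd (Nat.Coprime.pow_right _ ((Nat.coprime_primes hpp hqq).2 hpq)) h7 h6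
  · rw [← h3]
    exact Subgroup.card_mul_index _

end Cfsg.Agent.Lib.TwoLocal2
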