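import Mathlib
import Cfsg.Agent.Lib.SmallGroups
import Cfsg.Agent.Lib.SmallGroups2
import Cfsg.Agent.Lib.SmallGroups3
import Cfsg.Agent.Lib.Small168
import Cfsg.Agent.Lib.TwoLocal
import Cfsg.Agent.Lib.TwoLocal2
import Cfsg.Agent.Lib.BurnsidePQ
import Cfsg.Agent.Lib.DefectTwo

/-!
# Involutions in the normalizer of a Sylow subgroup of prime order

* `card_fixedBy_mul_normalizer`: `f * |N(P)| = a * |C(t)|`, where `f` is the number of Sylow subgroups fixed by `t` and
  `a` the number of conjugates of `t` in `N(P)`.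
* `card_sq_eq_one_centralizer_le`, `card_sq_eq_one_normalizer_le`: bounds for the number of involutions of `N(P)`.
* `two_local_pair_e`: the two-local lemma with the actual index `[N(P) : C(P)]`.
-/

set_option autoImplicit false

namespace Cfsg.Agent.Lib.TwoLocal3

open Subgroup Cfsg.Agent.Lib.SmallGroups2 Cfsg.Agent.Lib.Small168 Cfsg.Agent.Lib.TwoLocal Cfsg.Agent.Lib.TwoLocal2

variable {G : Type*} [Group G] [Finite G]

open scoped Classical in
/-- **The fixed point formula.** -/
theorem card_fixedBy_mul_normalizer {p : ℕ} [Fact p.Prime] (P : Sylow p G) (t : G) :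
    Nat.card (MulAction.fixedBy (Sylow p G) t) * Nat.card (normalizer ((P : Subgroup G) : Set G)) =
      Nat.card {w : G // IsConj t w ∧ w ∈ normalizer ((P : Subgroup G) : Set G)} * Nat.card (centralizer ({t} : Set G)) := by
  haveI := Fintype.ofFinite G
  haveI : Fintype (Sylow p G) := Fintype.ofFinite _
  set N := normalizer ((P : Subgroup G) : Set G) with hN
  -- the set of `b` with `b t b⁻¹ ∈ N`
  let S : Finset G := Finset.univ.filter fun b : G => b * t * b⁻¹ ∈ N
  -- first count
  have h1 : S.card = Nat.card {w : G // IsConj t w ∧ w ∈ N} * Nat.card (centralizer ({t} : Set G)) := by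
    let W : Finset G := Finset.univ.filter fun w : G => IsConj t w ∧ w ∈ N
    have hW : Nat.card {w : G // IsConj t w ∧ w ∈ N} = W.card := by
      rw [Nat.card_eq_fintype_card, Fintype.card_subtype]
    rw [hW]
    have hmaps : ∀ b ∈ S, b * t * b⁻¹ ∈ W := by
      intro b hb
      refine Finset.mem_filter.2 ⟨Finset.mem_univ _, isConj_iff.2 ⟨b, rfl⟩, (Finset.mem_filter.1 hb).2⟩
    rw [Finset.card_eq_sum_card_fiberwise hmaps]
    rw [Finset.sum_const_nat (m := Nat.card (centralizer ({t} : Set G)))]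
    intro w hw
    have hw' := Finset.mem_filter.1 hw
    have h2 := Cfsg.Agent.Lib.DefectTwo.card_filter_conj t w hw'.2.1
    rw [← h2]
    congr 1
    ext b
    simp only [S, Finset.mem_filter, Finset.mem_univ, true_and]
    constructor
    · rintro ⟨_, h⟩
      exact h
    · intro h
      refine ⟨?_, h⟩
      rw [h]
      exact hw'.2.2
  -- second count
  have h2 : S.card = Nat.card (MulAction.fixedBy (Sylow p G) t) * Nat.card N := by
    let F : Finset (Sylow p G) := Finset.univ.filter fun Q => t • Q = Q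
    have hF : Nat.card (MulAction.fixedBy (Sylow p G) t) = F.card := by
      rw [Nat.card_eq_fintype_card]
      exact Fintype.card_of_subtype _ (by intro Q; simp [F, MulAction.mem_fixedBy])
    rw [hF]
    have hfix : ∀ b : G, b * t * b⁻¹ ∈ N ↔ t • (b⁻¹ • P) = b⁻¹ • P := by
      intro b
      constructor
      · intro h
        have h' : (b * t * b⁻¹) • P = P := Sylow.smul_eq_iff_mem_normalizer.2 h
        have h3 := congrArg (fun Q : Sylow p G => b⁻¹ • Q) h'
        simp only [smul_smul] at h3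
        have h4 : b⁻¹ * (b * t * b⁻¹) = t * b⁻¹ := by group
        rw [h4] at h3
        rw [smul_smul]
        exact h3
      · intro h
        apply Sylow.smul_eq_iff_mem_normalizer.1
        have h3 := congrArg (fun Q : Sylow p G => b • Q) h
        simp only [smul_smul] at h3
        have h4 : b * (t * b⁻¹) = b * t * b⁻¹ := by group
        rw [h4] at h3
        simpa using h3
    have hmaps : ∀ b ∈ S, b⁻¹ • P ∈ F := by
      intro b hb
      exact Finset.mem_filter.2 ⟨Finset.mem_univ _, (hfix b).1 (Finset.mem_filter.1 hb).2⟩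
    rw [Finset.card_eq_sum_card_fiberwise hmaps]
    rw [Finset.sum_const_nat (m := Nat.card N)]
    intro Q hQ
    obtain ⟨g, hg⟩ := MulAction.exists_smul_eq G P Q
    -- the fibre over `Q` is the coset of `N`
    have hfib : (S.filter fun b => b⁻¹ • P = Q) = Finset.univ.filter fun b : G => b⁻¹ • P = Q := by
      ext b
      simp only [Finset.mem_filter, Finset.mem_univ, true_and, S]
      constructor
      · rintro ⟨_, h⟩
        exact h
      · intro h
        refine ⟨?_, h⟩
        rw [hfix, h]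
        exact (Finset.mem_filter.1 hQ).2
    rw [hfib, Nat.card_eq_fintype_card, ← Fintype.card_subtype]
    refine Fintype.card_congr ⟨fun b => ⟨b.1 * g, ?_⟩, fun c => ⟨c.1 * g⁻¹, ?_⟩, ?_, ?_⟩
    · have hb : b.1⁻¹ • P = g • P := by rw [hg]; exact b.2
      have h3 : (g⁻¹ * b.1⁻¹) • P = P := by
        rw [← smul_smul, hb, smul_smul]
        simp
      have h4 : g⁻¹ * b.1⁻¹ ∈ N := Sylow.smul_eq_iff_mem_normalizer.1 h3
      have h5 : b.1 * g = (g⁻¹ * b.1⁻¹)⁻¹ := by group
      rw [h5]
      exact N.inv_mem h4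
    · have h3 : c.1⁻¹ • P = P := Sylow.smul_eq_iff_mem_normalizer.2 (N.inv_mem c.2)
      have h5 : (c.1 * g⁻¹)⁻¹ = g * c.1⁻¹ := by group
      change (c.1 * g⁻¹)⁻¹ • P = Q
      rw [h5, ← smul_smul, h3, hg]
    · intro b
      apply Subtype.ext
      simp
    · intro c
      apply Subtype.ext
      simp
  rw [← h1, h2]

/-- An involution normalizing but not centralizing a subgroup of odd prime order inverts it. -/
theorem inverts_of_mem_normalizer {p : ℕ} (hp : p.Prime) (hp2 : p ≠ 2) {P : Subgroup G} (hP : Nat.card P = p) {y : G}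
    (hy : y ∈ normalizer (P : Set G)) (hy2 : y ^ 2 = 1) (hyC : y ∉ centralizer (P : Set G)) {u : G} (hu : u ∈ P) :
    y * u * y⁻¹ = u⁻¹ := by
  by_cases hu1 : u = 1
  · subst hu1; simp
  have hz := zpowers_eq_of_mem_of_ne_one hp hP hu hu1
  have ho : orderOf u = p := orderOf_eq_of_mem_of_ne_one hp hP hu hu1
  have hyinv : y⁻¹ = y := by
    rw [inv_eq_iff_mul_eq_one, ← pow_two, hy2]
  have h1 : y * u * y⁻¹ ∈ P := (mem_normalizer_iff.1 hy u).1 hu
  rw [← hz] at h1
  obtain ⟨k, hk⟩ := Subgroup.mem_zpowers_iff.1 h1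
  -- applying twice
  have h2 : u ^ (k * k) = u := by
    have h3 : y * (u ^ k) * y⁻¹ = u := by
      rw [hk]
      rw [hyinv]
      have : y * (y * u * y) * y = (y * y) * u * (y * y) := by group
      rw [this, ← pow_two, hy2]
      group
    have h4 : y * (u ^ k) * y⁻¹ = (y * u * y⁻¹) ^ k := by
      rw [conj_zpow]
    rw [h4, ← hk, ← zpow_mul] at h3
    exact h3
  have h5 : (p : ℤ) ∣ k * k - 1 := by
    have h6 : u ^ (k * k - 1) = 1 := by
      rw [zpow_sub, h2, zpow_one, mul_inv_cancel]
    rw [← ho]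
    exact orderOf_dvd_iff_zpow_eq_one.2 h6
  have hpZ : Prime (p : ℤ) := Nat.prime_iff_prime_int.1 hp
  have h7 : (p : ℤ) ∣ (k - 1) * (k + 1) := by
    have : (k - 1) * (k + 1) = k * k - 1 := by ring
    rwa [this]
  rcases hpZ.dvd_or_dvd h7 with h8 | h8
  · exfalso
    apply hyC
    have h9 : u ^ k = u := by
      have h10 : u ^ (k - 1) = 1 := by
        rw [← ho] at h8
        exact orderOf_dvd_iff_zpow_eq_one.1 h8
      rw [zpow_sub_one] at h10
      rw [mul_inv_eq_one] at h10
      exact h10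
    rw [mem_centralizer_iff]
    intro w hw
    rw [← hz] at hw
    obtain ⟨j, rfl⟩ := Subgroup.mem_zpowers_iff.1 hw
    have h11 : y * u * y⁻¹ = u := by rw [← hk, h9]
    have h12 : y * u ^ j * y⁻¹ = u ^ j := by
      have h14 := conj_zpow (a := y) (b := u) (i := j)
      rw [h11] at h14
      exact h14.symm
    have h13 : y * u ^ j = u ^ j * y := by
      have h14 : y * u ^ j = (y * u ^ j * y⁻¹) * y := by group
      rw [h14, h12]
    exact h13.symm
  · have h9 : u ^ (k + 1) = 1 := by
      rw [← ho] at h8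
      exact orderOf_dvd_iff_zpow_eq_one.1 h8
    rw [zpow_add_one] at h9
    rw [← hk]
    exact eq_inv_of_mul_eq_one_left h9

open scoped Classical in
/-- The solutions of `x² = 1` in `C(P)`. -/
theorem card_sq_eq_one_centralizer_le {p : ℕ} (hp : p.Prime) (hp2 : p ≠ 2) {P : Subgroup G} (hP : Nat.card P = p)
    (hPC : P ≤ centralizer (P : Set G)) :
    Nat.card {x : G // x ∈ centralizer (P : Set G) ∧ x ^ 2 = 1} * p ≤ Nat.card (centralizer (P : Set G)) := by
  have hinj : Function.Injective (fun a : {x : G // x ∈ centralizer (P : Set G) ∧ x ^ 2 = 1} × P =>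
      (⟨a.1.1 * a.2.1, (centralizer (P : Set G)).mul_mem a.1.2.1 (hPC a.2.2)⟩ : centralizer (P : Set G))) := by
    rintro ⟨⟨x, hx, hx2⟩, ⟨g, hg⟩⟩ ⟨⟨x', hx', hx2'⟩, ⟨g', hg'⟩⟩ h
    have h1 : x * g = x' * g' := congrArg Subtype.val h
    -- `h = x'⁻¹ x = g' g⁻¹ ∈ P`
    have h2 : x = x' * (g' * g⁻¹) := by
      calc x = x * g * g⁻¹ := by group
        _ = x' * g' * g⁻¹ := by rw [h1]
        _ = _ := by group
    have hm : g' * g⁻¹ ∈ P := P.mul_mem hg' (P.inv_mem hg)
    have hcomm : x' * (g' * g⁻¹) = (g' * g⁻¹) * x' := (mem_centralizer_iff.1 hx' _ hm).symm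
    have h3 : (g' * g⁻¹) ^ 2 = 1 := by
      have h4 : x ^ 2 = x' ^ 2 * (g' * g⁻¹) ^ 2 := by
        rw [h2, pow_two, pow_two, pow_two]
        calc x' * (g' * g⁻¹) * (x' * (g' * g⁻¹)) = x' * ((g' * g⁻¹) * x') * (g' * g⁻¹) := by group
          _ = x' * (x' * (g' * g⁻¹)) * (g' * g⁻¹) := by rw [hcomm]
          _ = _ := by group
      rw [hx2, hx2', one_mul] at h4
      exact h4.symm
    have h4 : g' * g⁻¹ = 1 := by
      by_contra hne
      have ho := orderOf_eq_of_mem_of_ne_one hp hP hm hne
      have h5 := orderOf_dvd_of_pow_eq_one h3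
      rw [ho] at h5
      exact hp2 ((Nat.prime_dvd_prime_iff_eq hp Nat.prime_two).1 h5)
    have h5 : x = x' := by rw [h2, h4, mul_one]
    have h6 : g' = g := by
      rw [mul_inv_eq_one] at h4
      exact h4
    subst h5 h6
    rfl
  have hle := Nat.card_le_card_of_injective _ hinj
  rw [Nat.card_prod, hP] at hle
  exact hle

open scoped Classical in
/-- The solutions of `x² = 1` in `N(P)`. -/
theorem card_sq_eq_one_normalizer_le {p : ℕ} (hp : p.Prime) (hp2 : p ≠ 2) {P : Subgroup G} (hP : Nat.card P = p) :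
    Nat.card {x : G // x ∈ normalizer (P : Set G) ∧ x ^ 2 = 1} ≤
      Nat.card {x : G // x ∈ centralizer (P : Set G) ∧ x ^ 2 = 1} + Nat.card (centralizer (P : Set G)) := by
  haveI := Fintype.ofFinite G
  by_cases hex : ∃ x₀, x₀ ∈ normalizer (P : Set G) ∧ x₀ ^ 2 = 1 ∧ x₀ ∉ centralizer (P : Set G)
  · obtain ⟨x₀, h1, h2, h3⟩ := hex
    have hx₀inv : x₀⁻¹ = x₀ := by
      rw [inv_eq_iff_mul_eq_one, ← pow_two, h2]
    have hcent : ∀ a : G, a ∈ normalizer (P : Set G) → a ^ 2 = 1 → a ∉ centralizer (P : Set G) →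
        x₀⁻¹ * a ∈ centralizer (P : Set G) := by
      intro a ha ha2 haC
      rw [mem_centralizer_iff]
      intro u hu
      have h4 := inverts_of_mem_normalizer hp hp2 hP ha ha2 haC hu
      have h5 := inverts_of_mem_normalizer hp hp2 hP h1 h2 h3 (P.inv_mem hu)
      rw [inv_inv] at h5
      have h6 : (x₀⁻¹ * a) * u * (x₀⁻¹ * a)⁻¹ = u := by
        calc (x₀⁻¹ * a) * u * (x₀⁻¹ * a)⁻¹ = x₀⁻¹ * (a * u * a⁻¹) * x₀ := by group
          _ = x₀ * u⁻¹ * x₀⁻¹ := by rw [h4, hx₀inv]
          _ = u := h5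
      have h7 : (x₀⁻¹ * a) * u = u * (x₀⁻¹ * a) := by
        have h8 : (x₀⁻¹ * a) * u = ((x₀⁻¹ * a) * u * (x₀⁻¹ * a)⁻¹) * (x₀⁻¹ * a) := by group
        rw [h8, h6]
      exact h7.symm
    let f : {x : G // x ∈ normalizer (P : Set G) ∧ x ^ 2 = 1} →
        {x : G // x ∈ centralizer (P : Set G) ∧ x ^ 2 = 1} ⊕ centralizer (P : Set G) := fun a =>
      if ha : a.1 ∈ centralizer (P : Set G) then Sum.inl ⟨a.1, ha, a.2.2⟩
      else Sum.inr ⟨x₀⁻¹ * a.1, hcent a.1 a.2.1 a.2.2 ha⟩
    have hf : Function.Injective f := by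
      intro a b hab
      by_cases ha : a.1 ∈ centralizer (P : Set G) <;> by_cases hb : b.1 ∈ centralizer (P : Set G)
      · simp only [f, ha, hb, dif_pos] at hab
        have := congrArg (fun z => match z with
          | Sum.inl w => w.1
          | Sum.inr w => w.1) hab
        exact Subtype.ext this
      · simp only [f, ha, hb, dif_pos, dif_neg, not_false_eq_true] at hab
        exact absurd hab (by simp)
      · simp only [f, ha, hb, dif_pos, dif_neg, not_false_eq_true] at hab
        exact absurd hab (by simp)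
      · simp only [f, ha, hb, dif_neg, not_false_eq_true] at hab
        have h9 : x₀⁻¹ * a.1 = x₀⁻¹ * b.1 := by
          have := congrArg (fun z => match z with
            | Sum.inl w => w.1
            | Sum.inr w => w.1) hab
          exact this
        exact Subtype.ext (mul_left_cancel h9)
    have := Nat.card_le_card_of_injective f hf
    rwa [Nat.card_sum] at this
  · push Not at hex
    have hinj : Function.Injective (fun a : {x : G // x ∈ normalizer (P : Set G) ∧ x ^ 2 = 1} =>
        (⟨a.1, hex a.1 a.2.1 a.2.2, a.2.2⟩ : {x : G // x ∈ centralizer (P : Set G) ∧ x ^ 2 = 1})) := by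
      intro a b hab
      have h9 := congrArg Subtype.val hab
      exact Subtype.ext h9
    have := Nat.card_le_card_of_injective _ hinj
    omega

/-- **Two-local pair.** -/
theorem two_local_pair_e {p q m : ℕ} [Fact p.Prime] [Fact q.Prime]
    (h : Nat.card G = p * m) (hm : ¬ p ∣ m) (P : Sylow p G) (a : ℕ)
    (hqa : q ^ a ∣ Nat.card (normalizer ((P : Subgroup G) : Set G)))
    (hqa' : ¬ q ^ (a + 1) ∣ Nat.card (normalizer ((P : Subgroup G) : Set G)))
    (hqG : q ^ (a + 1) ∣ Nat.card G)
    (hbd : ∀ j, j ∣ (centralizer ((P : Subgroup G) : Set G)).relIndex (normalizer ((P : Subgroup G) : Set G)) → j ∣ q ^ a → j * j < q ^ a) :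
    ∃ (S : Subgroup G) (d g : G), Nat.card S = q ^ a ∧ S ≤ normalizer ((P : Subgroup G) : Set G) ∧ d ≠ 1 ∧
      d ∈ centralizer ((P : Subgroup G) : Set G) ∧ d ∈ centralizer (S : Set G) ∧
      g ∉ normalizer ((P : Subgroup G) : Set G) ∧ g⁻¹ * d * g ∈ centralizer ((P : Subgroup G) : Set G) := by
  classical
  have hpp : p.Prime := Fact.out
  have hqq : q.Prime := Fact.out
  have hm0 : m ≠ 0 := by
    rintro rfl
    exact hm (dvd_zero p)
  have h' : Nat.card G = p ^ 1 * m := by rw [h, pow_one]
  have hP : Nat.card (P : Subgroup G) = p := by rw [sylow_card_of_card_eq h' hm P, pow_one]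
  set N : Subgroup G := normalizer ((P : Subgroup G) : Set G) with hN
  -- a Sylow subgroup of the normalizer
  obtain ⟨S₁⟩ : Nonempty (Sylow q N) := inferInstance
  have hS₁ : Nat.card (S₁ : Subgroup N) = q ^ a := by
    rw [Sylow.card_eq_multiplicity S₁]
    have hN0 : Nat.card N ≠ 0 := Nat.card_pos.ne'
    congr 1
    have h1 : a ≤ (Nat.card N).factorization q := (hqq.pow_dvd_iff_le_factorization hN0).1 hqa
    have h2 : ¬ (a + 1 ≤ (Nat.card N).factorization q) := fun h3 =>
      hqa' ((hqq.pow_dvd_iff_le_factorization hN0).2 h3)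
    omega
  let S : Subgroup G := (S₁ : Subgroup N).map N.subtype
  have hScard : Nat.card S = q ^ a := by
    rw [← hS₁]
    exact Nat.card_congr ((S₁ : Subgroup N).equivMapOfInjective _ N.subtype_injective).symm.toEquiv
  have hSp : IsPGroup q S := S₁.isPGroup'.map _
  have hSN : S ≤ N := by
    rintro x ⟨y, _, rfl⟩
    exact y.2
  obtain ⟨T, hST⟩ := hSp.exists_le_sylow
  have hTcard : q ^ (a + 1) ∣ Nat.card (T : Subgroup G) := by
    rw [Sylow.card_eq_multiplicity T]
    exact (hqq.pow_dvd_iff_dvd_ordProj (Nat.card_pos.ne')).1 hqG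
  have hlt : S < (T : Subgroup G) := by
    refine lt_of_le_of_ne hST ?_
    intro he
    rw [← he, hScard] at hTcard
    have := Nat.pow_dvd_pow_iff_le_right hqq.one_lt |>.1 hTcard
    omega
  -- maximality
  have hmax : ∀ K : Subgroup G, IsPGroup q K → S ≤ K → K ≤ N → K = S := by
    intro K hK hSK hKN
    have h1 : IsPGroup q (K.subgroupOf N) := by
      intro x
      obtain ⟨n, hn⟩ := hK ⟨x.1.1, Subgroup.mem_subgroupOf.1 x.2⟩
      refine ⟨n, ?_⟩
      apply Subtype.ext
      apply Subtype.ext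
      have h9 := congrArg Subtype.val hn
      simpa using h9
    have h2 : (S₁ : Subgroup N) ≤ K.subgroupOf N := by
      intro x hx
      apply Subgroup.mem_subgroupOf.2
      exact hSK ⟨x, hx, rfl⟩
    have h3 := S₁.is_maximal' h1 h2
    apply le_antisymm _ hSK
    intro x hx
    have h4 : (⟨x, hKN hx⟩ : N) ∈ K.subgroupOf N := Subgroup.mem_subgroupOf.2 hx
    rw [h3] at h4
    exact ⟨_, h4, rfl⟩
  -- the size of `X`
  have hX : Nat.card S < Nat.card ↥(S ⊓ centralizer ((P : Subgroup G) : Set G)) ^ 2 := by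
    set X : Subgroup G := S ⊓ centralizer ((P : Subgroup G) : Set G) with hXdef
    have hcc : Nat.card X * X.relIndex S = Nat.card S := card_mul_relIndex (inf_le_left : X ≤ S)
    -- `[S : X]` divides `p - 1`
    have hj : X.relIndex S ∣ (centralizer ((P : Subgroup G) : Set G)).relIndex N := by
      let φN : N →* MulAut (P : Subgroup G) := (P : Subgroup G).normalizerMonoidHom
      let φ : S →* MulAut (P : Subgroup G) := φN.comp (Subgroup.inclusion hSN)
      have hker : φ.ker = X.subgroupOf S := by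
        ext x
        rw [MonoidHom.mem_ker, Subgroup.mem_subgroupOf]
        have h1 : φ x = 1 ↔ (Subgroup.inclusion hSN x) ∈ φN.ker := by
          rw [MonoidHom.mem_ker]; rfl
        rw [h1, normalizerMonoidHom_ker, Subgroup.mem_subgroupOf]
        constructor
        · intro hx
          exact Subgroup.mem_inf.2 ⟨x.2, hx⟩
        · intro hx
          exact (Subgroup.mem_inf.1 hx).2
      have h2 : X.relIndex S = Nat.card φ.range := by
        rw [Subgroup.relIndex, ← hker, Subgroup.index_ker]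
      have h3 : (centralizer ((P : Subgroup G) : Set G)).relIndex N = Nat.card φN.range := by
        rw [Subgroup.relIndex, ← normalizerMonoidHom_ker, Subgroup.index_ker]
      rw [h2, h3]
      apply Subgroup.card_dvd_of_le
      rintro _ ⟨x, rfl⟩
      exact ⟨Subgroup.inclusion hSN x, rfl⟩
    have hjS : X.relIndex S ∣ q ^ a := by
      rw [← hScard, ← hcc]
      exact dvd_mul_left _ _
    have h1 := hbd _ hj hjS
    rw [← hScard] at h1
    rw [← hcc] at h1 ⊢
    have hX0 : 0 < Nat.card X := Nat.card_pos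
    have hj0 : 0 < X.relIndex S := Nat.pos_of_ne_zero Subgroup.index_ne_zero_of_finite
    have h2 : X.relIndex S < Nat.card X := by
      by_contra hc
      push Not at hc
      have : Nat.card X * X.relIndex S ≤ X.relIndex S * X.relIndex S := Nat.mul_le_mul_right _ hc
      exact absurd h1 (not_lt.2 this)
    rw [pow_two]
    exact Nat.mul_lt_mul_of_pos_left h2 hX0
  obtain ⟨d, g, hd, hg, hdP, hdS, hdg⟩ := exists_central_pair (q := q) (P : Subgroup G) S T T.isPGroup' hlt hSN hmax hX
  exact ⟨S, d, g, hScard, hSN, hd, hdP, hdS, hg, hdg⟩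

/-- Data in the two-local situation with the information on the index. -/
theorem two_local_index_e [IsSimpleGroup G] (hG : ¬ IsMulCommutative G) {p q m : ℕ} [Fact p.Prime] [Fact q.Prime]
    (hpq : p ≠ q) (h : Nat.card G = p * m) (hm : ¬ p ∣ m) (P : Sylow p G) (a : ℕ)
    (hqa : q ^ a ∣ Nat.card (normalizer ((P : Subgroup G) : Set G)))
    (hqa' : ¬ q ^ (a + 1) ∣ Nat.card (normalizer ((P : Subgroup G) : Set G)))
    (hqG : q ^ (a + 1) ∣ Nat.card G)
    (hbd : ∀ j, j ∣ (centralizer ((P : Subgroup G) : Set G)).relIndex (normalizer ((P : Subgroup G) : Set G)) → j ∣ q ^ a → j * j < q ^ a) :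
    ∃ (n u i : ℕ) (d : G), n % p = 1 ∧ n ≠ 1 ∧ n < Nat.card (Sylow p G) ∧ u ∣ Nat.card (normalizer ((P : Subgroup G) : Set G)) ∧
      p * q ^ a ∣ u ∧ n * u * i = Nat.card G ∧ (∀ r k, r.Prime → i ≠ r ^ k) ∧ 2 * Nat.card G ∣ i.factorial ∧
      d ≠ 1 ∧ d ∈ centralizer ((P : Subgroup G) : Set G) ∧ (centralizer ({d} : Set G)).index = i ∧
      Nat.card (centralizer ({d} : Set G)) = n * u := by
  have hpp : p.Prime := Fact.out
  have hqq : q.Prime := Fact.out
  have hp2 : ¬ p ^ 2 ∣ Nat.card G := by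
    rw [h, pow_two]
    intro hd
    exact hm (Nat.dvd_of_mul_dvd_mul_left hpp.pos hd)
  have h' : Nat.card G = p ^ 1 * m := by rw [h, pow_one]
  have hP : Nat.card (P : Subgroup G) = p := by rw [sylow_card_of_card_eq h' hm P, pow_one]
  obtain ⟨S, d, g, hS, hSN, hd, hdP, hdS, hg, hdg⟩ := two_local_pair_e h hm P a hqa hqa' hqG hbd
  obtain ⟨n, h1, h2, h3, -, h5, -⟩ := centralizer_data hG hp2 ⟨m, h⟩ P hP hd hdP
  refine ⟨n, _, (centralizer ({d} : Set G)).index, d, h1, h5 g hg hdg, h2, Subgroup.card_dvd_of_le inf_le_right, ?_, ?_,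
    fun r k hr => index_ne_prime_pow hG hd hr, index_embed hG hd, hd, hdP, rfl, h3⟩
  · have hSC : S ≤ centralizer ({d} : Set G) := by
      intro x hx
      rw [mem_centralizer_singleton_iff]
      exact (mem_centralizer_iff.1 hdS x hx)
    have hPC : (P : Subgroup G) ≤ centralizer ({d} : Set G) := by
      intro x hx
      rw [mem_centralizer_singleton_iff]
      exact (mem_centralizer_iff.1 hdP x hx)
    have h6 : q ^ a ∣ Nat.card ↥(centralizer ({d} : Set G) ⊓ normalizer ((P : Subgroup G) : Set G)) := by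
      rw [← hS]
      exact Subgroup.card_dvd_of_le (le_inf hSC hSN)
    have h7 : p ∣ Nat.card ↥(centralizer ({d} : Set G) ⊓ normalizer ((P : Subgroup G) : Set G)) := by
      have := Subgroup.card_dvd_of_le (le_inf hPC Subgroup.le_normalizer :
        (P : Subgroup G) ≤ centralizer ({d} : Set G) ⊓ normalizer ((P : Subgroup G) : Set G))
      rwa [hP] at this
    exact Nat.Coprime.mul_dvd_of_dvd_of_dvd (Nat.Coprime.pow_right _ ((Nat.coprime_primes hpp hqq).2 hpq)) h7 h6
  · rw [← h3]
    exact Subgroup.card_mul_index _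

open scoped Classical in
/-- The conjugates of an involution in `N(P)`. -/
theorem card_conj_normalizer_le {p : ℕ} (hp : p.Prime) (hp2 : p ≠ 2) {P : Subgroup G} (hP : Nat.card P = p)
    {t : G} (ht : t ^ 2 = 1) :
    Nat.card {w : G // IsConj t w ∧ w ∈ normalizer (P : Set G)} ≤
      Nat.card {x : G // x ∈ centralizer (P : Set G) ∧ x ^ 2 = 1} + Nat.card (centralizer (P : Set G)) := by
  refine le_trans ?_ (card_sq_eq_one_normalizer_le hp hp2 hP)
  refine Nat.card_le_card_of_injective (fun a => ⟨a.1, a.2.2, ?_⟩) ?_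
  · obtain ⟨c, hc⟩ := isConj_iff.1 a.2.1
    rw [← hc, conj_pow, ht]
    group
  · intro a b hab
    have h9 := congrArg Subtype.val hab
    exact Subtype.ext h9

open scoped Classical in
/-- If `|C(P)| = 2 * p`, an involution of `C(P)` is the only one. -/
theorem eq_of_sq_eq_one_of_card_centralizer {p : ℕ} (hp : p.Prime) (hp2 : p ≠ 2) {P : Subgroup G} (hP : Nat.card P = p)
    (hPC : P ≤ centralizer (P : Set G)) (hC : Nat.card (centralizer (P : Set G)) = 2 * p) {t y : G}
    (ht : t ∈ centralizer (P : Set G)) (ht2 : t ^ 2 = 1) (ht1 : t ≠ 1)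
    (hy : y ∈ centralizer (P : Set G)) (hy2 : y ^ 2 = 1) (hy1 : y ≠ 1) : y = t := by
  by_contra hne
  have h1 := card_sq_eq_one_centralizer_le hp hp2 hP hPC
  rw [hC] at h1
  have h2 : Nat.card {x : G // x ∈ centralizer (P : Set G) ∧ x ^ 2 = 1} ≤ 2 := by
    have := hp.pos
    nlinarith
  let f : Fin 3 → {x : G // x ∈ centralizer (P : Set G) ∧ x ^ 2 = 1} :=
    ![⟨1, Subgroup.one_mem _, by simp⟩, ⟨t, ht, ht2⟩, ⟨y, hy, hy2⟩]
  have hf : Function.Injective f := by
    intro a b hab
    have hab' := congrArg Subtype.val hab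
    fin_cases a <;> fin_cases b <;> first
      | rfl
      | (exfalso; simp [f] at hab'; first | exact ht1 hab'.symm | exact hy1 hab'.symm | exact hne hab'.symm | exact ht1 hab' | exact hy1 hab' | exact hne hab')
  have h3 := Nat.card_le_card_of_injective f hf
  rw [Nat.card_fin] at h3
  omega

/-- A subgroup of prime order centralizes itself. -/
theorem le_centralizer_of_card_prime {p : ℕ} (hp : p.Prime) {P : Subgroup G} (hP : Nat.card P = p) :
    P ≤ centralizer (P : Set G) := by
  haveI : Fact p.Prime := ⟨hp⟩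
  have hc : IsCyclic P := isCyclic_of_prime_card hP
  intro x hx
  rw [mem_centralizer_iff]
  intro y hy
  have h1 : (⟨y, hy⟩ : P) * ⟨x, hx⟩ = ⟨x, hx⟩ * ⟨y, hy⟩ := hc.commGroup.mul_comm _ _
  exact congrArg Subtype.val h1

end Cfsg.Agent.Lib.TwoLocal3
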