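import Mathlib
import Cfsg.Agent.Lib.SmallGroups2
import Cfsg.Agent.Lib.SmallGroups3
import Cfsg.Agent.Lib.SylowNum

set_option autoImplicit false
set_option linter.unusedSectionVars false
set_option linter.style.haveILetI false

/-!
# Counting `p`-singular elements when a Sylow `p`-subgroup has prime order

If a Sylow `p`-subgroup `Q` of a finite group `G` has order `p`, and `f = |N(Q) : C(Q)|`, then
at least `|G| (p - 1) / (p f)` elements of `G` have order divisible by `p`.
The proof is elementary: no transfer is used.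
-/

namespace Cfsg.Agent.Lib.SingularCount

open Subgroup

variable {G : Type*} [Group G] [Finite G] {p : ℕ} [hp : Fact p.Prime]

/-- The elements of `C(Q)` of order divisible by `p`. -/
def sing (Q : Sylow p G) : Set G :=
  {g | g ∈ centralizer ((Q : Subgroup G) : Set G) ∧ p ∣ orderOf g}

/-- The elements of `C(Q)` of order prime to `p`. -/
def reg (Q : Sylow p G) : Set G :=
  {g | g ∈ centralizer ((Q : Subgroup G) : Set G) ∧ ¬ p ∣ orderOf g}

theorem card_all (Q Q' : Sylow p G) (hQ : Nat.card (Q : Subgroup G) = p) :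
    Nat.card (Q' : Subgroup G) = p :=
  (Nat.card_congr (Sylow.equiv Q' Q).toEquiv).trans hQ

theorem le_centralizer_self (Q : Sylow p G) (hQ : Nat.card (Q : Subgroup G) = p) :
    (Q : Subgroup G) ≤ centralizer ((Q : Subgroup G) : Set G) := by
  haveI hc : IsCyclic (Q : Subgroup G) := isCyclic_of_prime_card hQ
  intro a ha
  rw [mem_centralizer_iff]
  intro b hb
  have := (IsCyclic.commGroup (α := (Q : Subgroup G))).mul_comm ⟨b, hb⟩ ⟨a, ha⟩
  exact congrArg Subtype.val this

/-- `p * |reg Q| ≤ |C(Q)|`. -/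
theorem mul_card_reg_le (Q : Sylow p G) (hQ : Nat.card (Q : Subgroup G) = p) :
    p * (reg Q).ncard ≤ Nat.card (centralizer ((Q : Subgroup G) : Set G)) := by
  classical
  have hpp : p.Prime := hp.out
  set C := centralizer ((Q : Subgroup G) : Set G) with hC
  have hQC : (Q : Subgroup G) ≤ C := le_centralizer_self Q hQ
  obtain ⟨n, hn⟩ : p ∣ Nat.card C := by
    have := Subgroup.card_dvd_of_le hQC
    rwa [hQ] at this
  have hpn : ¬ p ∣ n := by
    rintro ⟨m, hm⟩
    have h1 : p ^ 2 ∣ Nat.card G := by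
      have h2 : Nat.card C ∣ Nat.card G := Subgroup.card_subgroup_dvd_card C
      rw [hn, hm] at h2
      exact Dvd.dvd.trans ⟨m, by ring⟩ h2
    have h2 := Sylow.pow_dvd_card_of_pow_dvd_card Q h1
    rw [hQ] at h2
    have h3 := Nat.le_of_dvd hpp.pos h2
    have h4 := hpp.two_le
    nlinarith
  have hcop : p.Coprime n := (Nat.Prime.coprime_iff_not_dvd hpp).mpr hpn
  have hregpow : ∀ g ∈ reg Q, g ^ n = 1 := by
    rintro g ⟨hgC, hgp⟩
    have h1 : orderOf g ∣ p * n := by
      rw [← hn]; exact Subgroup.orderOf_dvd_natCard C hgC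
    have h2 : (orderOf g).Coprime p := ((Nat.Prime.coprime_iff_not_dvd hpp).mpr hgp).symm
    exact orderOf_dvd_iff_pow_eq_one.mp (h2.dvd_of_dvd_mul_left h1)
  let f : ↥(Q : Subgroup G) × reg Q → C :=
    fun x => ⟨(x.1 : G) * (x.2 : G), C.mul_mem (hQC x.1.2) x.2.2.1⟩
  have hf : Function.Injective f := by
    rintro ⟨u₁, g₁⟩ ⟨u₂, g₂⟩ h
    have h0 : (u₁ : G) * (g₁ : G) = (u₂ : G) * (g₂ : G) := congrArg Subtype.val h
    have hc : ∀ (u : (Q : Subgroup G)) (g : reg Q), Commute (u : G) (g : G) := by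
      intro u g
      exact (mem_centralizer_iff.mp g.2.1) u u.2
    have h1 : (u₁ : G) ^ n = (u₂ : G) ^ n := by
      have h2 : ((u₁ : G) * (g₁ : G)) ^ n = ((u₂ : G) * (g₂ : G)) ^ n := by rw [h0]
      rw [(hc u₁ g₁).mul_pow, (hc u₂ g₂).mul_pow, hregpow g₁ g₁.2, hregpow g₂ g₂.2, mul_one, mul_one]
        at h2
      exact h2
    have hcu : Commute ((u₂ : G)⁻¹) (u₁ : G) := by
      have : Commute (u₂ : G) (u₁ : G) := (mem_centralizer_iff.mp (hQC u₁.2)) u₂ u₂.2
      exact this.inv_left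
    have h3 : ((u₂ : G)⁻¹ * (u₁ : G)) ^ n = 1 := by
      rw [hcu.mul_pow, h1, inv_pow, inv_mul_cancel]
    have h4 : (u₂ : G)⁻¹ * (u₁ : G) ∈ (Q : Subgroup G) :=
      (Q : Subgroup G).mul_mem ((Q : Subgroup G).inv_mem u₂.2) u₁.2
    have h5 : orderOf ((u₂ : G)⁻¹ * (u₁ : G)) ∣ p := by
      have := Subgroup.orderOf_dvd_natCard (Q : Subgroup G) h4
      rwa [hQ] at this
    have h6 : orderOf ((u₂ : G)⁻¹ * (u₁ : G)) ∣ n := orderOf_dvd_of_pow_eq_one h3
    have h7 : orderOf ((u₂ : G)⁻¹ * (u₁ : G)) = 1 := Nat.eq_one_of_dvd_coprimes hcop h5 h6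
    have h8 : (u₂ : G)⁻¹ * (u₁ : G) = 1 := orderOf_eq_one_iff.mp h7
    have h9 : (u₁ : G) = (u₂ : G) := by
      rw [inv_mul_eq_one] at h8
      exact h8.symm
    have h10 : u₁ = u₂ := Subtype.ext h9
    subst h10
    have h11 : (g₁ : G) = (g₂ : G) := mul_left_cancel h0
    have h12 : g₁ = g₂ := Subtype.ext h11
    subst h12
    rfl
  have h1 := Nat.card_le_card_of_injective f hf
  rw [Nat.card_prod, hQ, Nat.card_coe_set_eq] at h1
  exact h1

theorem ncard_sing_add_ncard_reg (Q : Sylow p G) :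
    (sing Q).ncard + (reg Q).ncard = Nat.card (centralizer ((Q : Subgroup G) : Set G)) := by
  have hdisj : Disjoint (sing Q) (reg Q) := by
    rw [Set.disjoint_left]
    rintro g ⟨-, h1⟩ ⟨-, h2⟩
    exact h2 h1
  have hun : sing Q ∪ reg Q = ((centralizer ((Q : Subgroup G) : Set G) : Subgroup G) : Set G) := by
    ext g
    constructor
    · rintro (h | h)
      · exact h.1
      · exact h.1
    · intro h
      by_cases h2 : p ∣ orderOf g
      · exact Or.inl ⟨h, h2⟩
      · exact Or.inr ⟨h, h2⟩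
  rw [← Set.ncard_union_eq hdisj (Set.toFinite _) (Set.toFinite _), hun]
  exact (Nat.card_coe_set_eq _).symm

/-- `(p - 1) |C(Q)| ≤ p |sing Q|`. -/
theorem pred_mul_card_le (Q : Sylow p G) (hQ : Nat.card (Q : Subgroup G) = p) :
    (p - 1) * Nat.card (centralizer ((Q : Subgroup G) : Set G)) ≤ p * (sing Q).ncard := by
  have h1 := mul_card_reg_le Q hQ
  have h2 := ncard_sing_add_ncard_reg Q
  have hpp : 1 ≤ p := hp.out.one_lt.le
  obtain ⟨q, rfl⟩ : ∃ q, p = q + 1 := ⟨p - 1, by omega⟩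
  simp only [Nat.add_sub_cancel]
  nlinarith

theorem orderOf_conj' (h g : G) : orderOf (h * g * h⁻¹) = orderOf g := by
  have := orderOf_injective (MulAut.conj h).toMonoidHom (MulAut.conj h).injective g
  simpa [MulAut.conj_apply] using this

theorem mem_centralizer_smul_iff (Q : Sylow p G) (h g : G) :
    h * g * h⁻¹ ∈ centralizer (((h • Q : Sylow p G) : Subgroup G) : Set G) ↔
      g ∈ centralizer ((Q : Subgroup G) : Set G) := by
  rw [mem_centralizer_iff, mem_centralizer_iff]
  constructor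
  · intro H u hu
    have h1 : h * u * h⁻¹ ∈ (((h • Q : Sylow p G) : Subgroup G) : Set G) := by
      rw [SetLike.mem_coe, Cfsg.Agent.Lib.SmallGroups2.mem_smul_sylow_iff]
      have e : h⁻¹ * (h * u * h⁻¹) * h = u := by group
      rw [e]; exact hu
    have h2 := H _ h1
    have e1 : h * u * h⁻¹ * (h * g * h⁻¹) = h * (u * g) * h⁻¹ := by group
    have e2 : h * g * h⁻¹ * (h * u * h⁻¹) = h * (g * u) * h⁻¹ := by group
    rw [e1, e2] at h2
    exact mul_left_cancel (mul_right_cancel h2)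
  · intro H u hu
    have h1 : h⁻¹ * u * h ∈ (Q : Subgroup G) :=
      Cfsg.Agent.Lib.SmallGroups2.mem_smul_sylow_iff.mp hu
    have h2 := H _ h1
    have e1 : u * (h * g * h⁻¹) = h * ((h⁻¹ * u * h) * g) * h⁻¹ := by group
    have e2 : h * g * h⁻¹ * u = h * (g * (h⁻¹ * u * h)) * h⁻¹ := by group
    rw [e1, e2, h2]

theorem ncard_sing_smul (h : G) (Q : Sylow p G) : (sing (h • Q)).ncard = (sing Q).ncard := by
  have e : sing (h • Q) = (fun g => h * g * h⁻¹) '' sing Q := by
    ext x
    constructor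
    · rintro ⟨h1, h2⟩
      refine ⟨h⁻¹ * x * h, ⟨?_, ?_⟩, by group⟩
      · rw [← mem_centralizer_smul_iff Q h]
        have e2 : h * (h⁻¹ * x * h) * h⁻¹ = x := by group
        rwa [e2]
      · have e2 : orderOf (h⁻¹ * x * h) = orderOf x := by
          have := orderOf_conj' h⁻¹ x
          simpa using this
        rwa [e2]
    · rintro ⟨g, ⟨h1, h2⟩, rfl⟩
      refine ⟨(mem_centralizer_smul_iff Q h g).mpr h1, ?_⟩
      rwa [orderOf_conj']
  rw [e]
  apply Set.ncard_image_of_injective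
  intro a b hab
  simpa using hab

theorem ncard_sing_eq (Q Q' : Sylow p G) : (sing Q').ncard = (sing Q).ncard := by
  obtain ⟨h, rfl⟩ := MulAction.exists_smul_eq G Q Q'
  exact ncard_sing_smul h Q

/-- The power of `g` of order `p`, if `p ∣ orderOf g`. -/
theorem exists_pow_orderOf_eq {g : G} (hg : p ∣ orderOf g) :
    ∃ m : ℕ, orderOf (g ^ m) = p :=
  ⟨orderOf g / p, orderOf_pow_orderOf_div (orderOf_pos g).ne' hg⟩

/-- An element of order `p` in the normalizer of a Sylow `p`-subgroup lies in it; in particular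
an element of order divisible by `p` in `C(Q)` has a power of order `p` in `Q`. -/
theorem exists_pow_mem_of_mem_sing {Q : Sylow p G} {g : G} (hg : g ∈ sing Q) :
    ∃ m : ℕ, orderOf (g ^ m) = p ∧ g ^ m ∈ (Q : Subgroup G) := by
  obtain ⟨m, hm⟩ := exists_pow_orderOf_eq (p := p) hg.2
  refine ⟨m, hm, ?_⟩
  apply Cfsg.Agent.Lib.SmallGroups3.mem_of_orderOf_of_mem_normalizer Q hm
  exact centralizer_le_normalizer _ (pow_mem hg.1 m)

theorem sing_disjoint (Q₀ : Sylow p G) (hQ : Nat.card (Q₀ : Subgroup G) = p) {Q Q' : Sylow p G}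
    (hne : Q ≠ Q') : Disjoint (sing Q) (sing Q') := by
  rw [Set.disjoint_left]
  intro g hg hg'
  obtain ⟨m, hm⟩ := exists_pow_orderOf_eq (p := p) hg.2
  have hn : ∀ R : Sylow p G, g ∈ sing R → g ^ m ∈ (R : Subgroup G) := by
    intro R hR
    apply Cfsg.Agent.Lib.SmallGroups3.mem_of_orderOf_of_mem_normalizer R hm
    exact centralizer_le_normalizer _ (pow_mem hR.1 m)
  have hne1 : g ^ m ≠ 1 := by
    intro h
    rw [h, orderOf_one] at hm
    exact hp.out.one_lt.ne hm
  exact hne (Cfsg.Agent.Lib.SmallGroups2.sylow_eq_of_mem_of_ne_one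
    (card_all Q₀ Q hQ) (card_all Q₀ Q' hQ) (hn Q hg) (hn Q' hg') hne1)

/-- `n_p |sing Q| ≤ #{g : p ∣ o(g)}`. -/
theorem card_sylow_mul_ncard_sing_le (Q : Sylow p G) (hQ : Nat.card (Q : Subgroup G) = p) :
    Nat.card (Sylow p G) * (sing Q).ncard ≤ ({g : G | p ∣ orderOf g} : Set G).ncard := by
  classical
  haveI : Fintype (Sylow p G) := Fintype.ofFinite _
  haveI : Fintype G := Fintype.ofFinite _
  have hdisj : ∀ x ∈ (Finset.univ : Finset (Sylow p G)), ∀ y ∈ (Finset.univ : Finset (Sylow p G)),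
      x ≠ y → Disjoint (sing x).toFinset (sing y).toFinset := by
    intro x _ y _ hxy
    rw [Set.disjoint_toFinset]
    exact sing_disjoint Q hQ hxy
  have hcard := Finset.card_biUnion hdisj
  have hsub : (Finset.univ : Finset (Sylow p G)).biUnion (fun x => (sing x).toFinset) ⊆
      ({g : G | p ∣ orderOf g} : Set G).toFinset := by
    intro y hy
    obtain ⟨x, -, hyx⟩ := Finset.mem_biUnion.mp hy
    rw [Set.mem_toFinset] at hyx ⊢
    exact hyx.2
  have h1 := Finset.card_le_card hsub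
  rw [hcard] at h1
  have h2 : ∀ x ∈ (Finset.univ : Finset (Sylow p G)), (sing x).toFinset.card = (sing Q).ncard := by
    intro x _
    rw [← ncard_sing_eq Q x, Set.ncard_eq_toFinset_card']
  rw [Finset.sum_congr rfl h2, Finset.sum_const, smul_eq_mul, ← Set.ncard_eq_toFinset_card',
    Finset.card_univ, ← Nat.card_eq_fintype_card] at h1
  exact h1

/-- The count of `p`-singular elements: `(p - 1) |G| ≤ p f #{g : p ∣ o(g)}`, where
`f = |N(Q) : C(Q)|` and `Q` is a Sylow `p`-subgroup of order `p`. -/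
theorem pred_mul_card_le_singular (Q : Sylow p G) (hQ : Nat.card (Q : Subgroup G) = p) :
    (p - 1) * Nat.card G ≤
      p * (centralizer ((Q : Subgroup G) : Set G)).relIndex (normalizer ((Q : Subgroup G) : Set G)) *
        ({g : G | p ∣ orderOf g} : Set G).ncard := by
  set C := centralizer ((Q : Subgroup G) : Set G) with hC
  set N := normalizer ((Q : Subgroup G) : Set G) with hN
  set f := C.relIndex N with hf
  have h1 := Cfsg.Agent.Lib.SmallGroups2.card_normalizer_mul_card_sylow Q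
  have h2 := Cfsg.Agent.Lib.SylowNum.card_mul_relIndex C N (centralizer_le_normalizer _)
  have h3 := pred_mul_card_le Q hQ
  have h4 := card_sylow_mul_ncard_sing_le Q hQ
  rw [← h1]
  change (p - 1) * (Nat.card N * Nat.card (Sylow p G)) ≤ _
  rw [← h2]
  calc (p - 1) * (Nat.card C * f * Nat.card (Sylow p G))
      = ((p - 1) * Nat.card C) * (f * Nat.card (Sylow p G)) := by ring
    _ ≤ (p * (sing Q).ncard) * (f * Nat.card (Sylow p G)) := Nat.mul_le_mul_right _ h3
    _ = p * f * (Nat.card (Sylow p G) * (sing Q).ncard) := by ring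
    _ ≤ p * f * ({g : G | p ∣ orderOf g} : Set G).ncard := Nat.mul_le_mul_left _ h4

/-- An element of order divisible by `p` centralizes some Sylow `p`-subgroup, when these have
order `p`. -/
theorem exists_sylow_mem_centralizer (Q₀ : Sylow p G) (hQ : Nat.card (Q₀ : Subgroup G) = p) {g : G}
    (hg : p ∣ orderOf g) : ∃ Q : Sylow p G, g ∈ centralizer ((Q : Subgroup G) : Set G) := by
  obtain ⟨m, hm⟩ := exists_pow_orderOf_eq (p := p) hg
  obtain ⟨Q, hQm⟩ := Cfsg.Agent.Lib.SmallGroups2.exists_sylow_mem_of_orderOf hm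
  refine ⟨Q, ?_⟩
  have hne1 : g ^ m ≠ 1 := by
    intro h
    rw [h, orderOf_one] at hm
    exact hp.out.one_lt.ne hm
  have h1 := Cfsg.Agent.Lib.SmallGroups2.zpowers_eq_of_mem_of_ne_one hp.out (card_all Q₀ Q hQ) hQm hne1
  rw [mem_centralizer_iff]
  intro u hu
  have hu' : u ∈ Subgroup.zpowers (g ^ m) := by rw [h1]; exact hu
  obtain ⟨k, rfl⟩ := Subgroup.mem_zpowers_iff.mp hu'
  have : Commute ((g ^ m) ^ k) g := ((Commute.refl g).pow_left m).zpow_left k
  exact this

end Cfsg.Agent.Lib.SingularCount
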