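import Mathlib
import Cfsg.Agent.Lib.J1Ord4
import Cfsg.Agent.Lib.TwoLocal3
import Cfsg.Agent.Lib.SmallGroups3
import Cfsg.Agent.S1010

/-!
# Simple groups of order 2520: the primes seven and five
-/

set_option autoImplicit false
set_option linter.style.haveILetI false
set_option linter.unusedSectionVars false
set_option linter.unusedVariables false

namespace Cfsg.Agent.Lib.A7Ord

open Subgroup Cfsg.Agent.Lib.SmallGroups2 Cfsg.Agent.Lib.SmallGroups3 Cfsg.Agent.Lib.J1Ord
open Cfsg.Agent.Lib.TwoLocal Cfsg.Agent.Lib.TwoLocal2 Cfsg.Agent.Lib.TwoLocal3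

variable {G : Type*} [Group G] [Finite G]

theorem not_comm [IsSimpleGroup G] (hc : Nat.card G = 2520) : ¬ IsMulCommutative G :=
  not_isMulCommutative_of_not_prime (by rw [hc]; norm_num)

theorem le_index [IsSimpleGroup G] (hc : Nat.card G = 2520) (H : Subgroup G) (hH : H ≠ ⊤) :
    7 ≤ H.index := by
  by_contra hlt
  have h1 : H.index ≤ 6 := by omega
  have h2 := Cfsg.Agent.Lib.SmallGroups.two_mul_card_dvd_factorial_index (not_comm hc) H hH
  rw [hc] at h2
  have h3 : H.index.factorial ≤ 720 := by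
    have := Nat.factorial_le h1
    simpa [Nat.factorial] using this
  have := Nat.le_of_dvd (Nat.factorial_pos _) h2
  omega

theorem card_le_of_ne_top [IsSimpleGroup G] (hc : Nat.card G = 2520) (H : Subgroup G) (hH : H ≠ ⊤) :
    Nat.card H ≤ 360 := by
  have h1 := le_index hc H hH
  have h2 := Subgroup.card_mul_index H
  rw [hc] at h2
  by_contra h3
  have : 361 * 7 ≤ Nat.card H * H.index := Nat.mul_le_mul (by omega) h1
  omega

/-- **Thompson transfer**: an involution is conjugate into every subgroup of order four. -/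
theorem exists_conj_mem_of_card_four [IsSimpleGroup G] (hc : Nat.card G = 2520) (M : Subgroup G)
    (hM : Nat.card M = 4) {r : G} (hr : r ^ 2 = 1) : ∃ g : G, g⁻¹ * r * g ∈ M := by
  by_contra hno
  push Not at hno
  have h1 := card_modEq_fixedBy_four (not_comm hc) (X := G ⧸ M) r hr
  have h2 : IsEmpty (MulAction.fixedBy (G ⧸ M) r) := by
    refine ⟨fun x => ?_⟩
    obtain ⟨x, hx⟩ := x
    obtain ⟨g, rfl⟩ := QuotientGroup.mk_surjective x
    have h3 : ((r * g : G) : G ⧸ M) = (g : G ⧸ M) := hx
    rw [QuotientGroup.eq] at h3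
    apply hno g
    have h4 : g⁻¹ * r * g = ((r * g)⁻¹ * g)⁻¹ := by group
    rw [h4]
    exact M.inv_mem h3
  have h7 : Nat.card (MulAction.fixedBy (G ⧸ M) r) = 0 := Nat.card_of_isEmpty
  rw [h7] at h1
  have h5 : Nat.card (G ⧸ M) = 630 := by
    have h6 := Subgroup.card_mul_index M
    rw [hc, hM] at h6
    have : M.index = 630 := by omega
    exact this
  rw [h5] at h1
  revert h1
  decide

theorem hP7 (hc : Nat.card G = 2520) [Fact (Nat.Prime 7)] (P : Sylow 7 G) : Nat.card (P : Subgroup G) = 7 := by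
  have := sylow_card_of_card_eq (G := G) (p := 7) (a := 1) (m := 360) (by rw [hc]; norm_num) (by norm_num) P
  simpa using this

theorem hP5 (hc : Nat.card G = 2520) [Fact (Nat.Prime 5)] (P : Sylow 5 G) : Nat.card (P : Subgroup G) = 5 := by
  have := sylow_card_of_card_eq (G := G) (p := 5) (a := 1) (m := 504) (by rw [hc]; norm_num) (by norm_num) P
  simpa using this

theorem hsq7 (hc : Nat.card G = 2520) : ¬ 7 ^ 2 ∣ Nat.card G := by rw [hc]; norm_num
theorem hsq5 (hc : Nat.card G = 2520) : ¬ 5 ^ 2 ∣ Nat.card G := by rw [hc]; norm_num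

theorem fixedBy_sylow_one_of_five [IsSimpleGroup G] (hc : Nat.card G = 2520) [Fact (Nat.Prime 7)]
    [Fact (Nat.Prime 5)] (hn : Nat.card (Sylow 7 G) = 36) (P : Sylow 7 G) {x : G}
    (hx : x ∈ centralizer ((P : Subgroup G) : Set G)) (ho : orderOf x = 5) :
    Nat.card (MulAction.fixedBy (Sylow 7 G) x) = 1 := by
  obtain ⟨h1, h2, -, h4⟩ := fixedBy_facts (not_comm hc) (p := 7) (q := 5)
    (by rw [hc]; norm_num) P hx ho
  rw [hn] at h2 h4
  omega

theorem not_n7_36 [IsSimpleGroup G] (hc : Nat.card G = 2520) [Fact (Nat.Prime 7)]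
    (hn : Nat.card (Sylow 7 G) = 36) (he : eP 7 G = 5) (ha : aP 7 G = 2) : False := by
  classical
  haveI : Fact (Nat.Prime 5) := ⟨by norm_num⟩
  haveI : Fact (Nat.Prime 2) := ⟨Nat.prime_two⟩
  have hP := hP7 (G := G) hc
  have hG := not_comm (G := G) hc
  obtain ⟨P⟩ := (inferInstance : Nonempty (Sylow 7 G))
  set Z := centralizer ((P : Subgroup G) : Set G) with hZdef
  have hZ : Nat.card Z = 35 := by rw [hZdef, card_cent_eq hP P, he]
  have hN : Nat.card (normalizer ((P : Subgroup G) : Set G)) = 70 := by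
    rw [card_norm_eq hP P, ha, he]
  have hzP : ∀ z ∈ Z, z • P = P := fun z hz =>
    smul_eq_iff'.2 (Subgroup.centralizer_le_normalizer _ hz)
  have hfree : ∀ z ∈ Z, ∀ Q : Sylow 7 G, Q ≠ P → z • Q = Q → z = 1 := by
    intro z hz Q hQ hzQ
    by_contra hz1
    have hod : orderOf z ∣ 35 := by
      rw [← hZ]; exact Subgroup.orderOf_dvd_natCard Z hz
    obtain ⟨l, hlp, hld⟩ := Nat.exists_prime_and_dvd (n := orderOf z) (by
      intro h; exact hz1 (orderOf_eq_one_iff.1 h))
    have hl : l = 5 ∨ l = 7 := by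
      have h35 : l ∣ 5 * 7 := hld.trans hod
      rcases (Nat.Prime.dvd_mul hlp).1 h35 with h | h
      · exact Or.inl ((Nat.prime_dvd_prime_iff_eq hlp (by norm_num)).1 h)
      · exact Or.inr ((Nat.prime_dvd_prime_iff_eq hlp (by norm_num)).1 h)
    have ho : orderOf (z ^ (orderOf z / l)) = l :=
      orderOf_pow_orderOf_div (orderOf_pos z).ne' hld
    have hxZ : z ^ (orderOf z / l) ∈ Z := Z.pow_mem hz _
    have hxQ : z ^ (orderOf z / l) • Q = Q := by
      have : z ∈ MulAction.stabilizer G Q := hzQ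
      exact (MulAction.stabilizer G Q).pow_mem this _
    rcases hl with rfl | rfl
    · have h1 := fixedBy_sylow_one_of_five hc hn P hxZ ho
      have hsub := (Nat.card_eq_one_iff_unique.1 h1).1
      have h2 : (⟨P, hzP _ hxZ⟩ : MulAction.fixedBy (Sylow 7 G) (z ^ (orderOf z / 5))) = ⟨Q, hxQ⟩ :=
        Subsingleton.elim _ _
      exact hQ (congrArg Subtype.val h2).symm
    · have h1 : z ^ (orderOf z / 7) ∈ (P : Subgroup G) := mem_of_comm hP ho (fun y hy =>
        ((Subgroup.mem_centralizer_iff.1 hxZ) y hy).symm)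
      have h2 : z ^ (orderOf z / 7) ∈ (Q : Subgroup G) :=
        mem_of_orderOf_of_mem_normalizer Q ho (smul_eq_iff'.1 hxQ)
      have hne : z ^ (orderOf z / 7) ≠ 1 := by
        intro h0
        rw [h0, orderOf_one] at ho
        omega
      exact hQ (sylow_eq_of_mem_of_ne_one (hP Q) (hP P) h2 h1 hne)
  obtain ⟨u', hu'⟩ := exists_prime_orderOf_dvd_card' (G := ↥(normalizer ((P : Subgroup G) : Set G))) 2
    (by rw [hN]; norm_num)
  set u : G := u'.1 with huu
  have huo : orderOf u = 2 := by rw [huu, Subgroup.orderOf_coe]; exact hu'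
  have hu2 : u ^ 2 = 1 := by rw [← huo]; exact pow_orderOf_eq_one u
  have huN : u ∈ normalizer ((P : Subgroup G) : Set G) := u'.2
  have huZ : u ∉ Z := by
    intro h
    have := Subgroup.orderOf_dvd_natCard Z h
    rw [huo, hZ] at this
    omega
  have hf4 := card_modEq_fixedBy_four hG (X := Sylow 7 G) u hu2
  rw [hn] at hf4
  have huP : u • P = P := smul_eq_iff'.2 huN
  have hf1 : 1 ≤ Nat.card (MulAction.fixedBy (Sylow 7 G) u) :=
    one_le_card_fixedBy_sylow P huN
  have hf2 : 1 < Nat.card (MulAction.fixedBy (Sylow 7 G) u) := by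
    unfold Nat.ModEq at hf4
    omega
  -- a second fixed point
  obtain ⟨Q, hQu, hQP⟩ : ∃ Q : Sylow 7 G, u • Q = Q ∧ Q ≠ P := by
    haveI : Finite (MulAction.fixedBy (Sylow 7 G) u) := inferInstance
    have := Finite.one_lt_card_iff_nontrivial.1 hf2
    obtain ⟨a, b, hab⟩ := exists_pair_ne (MulAction.fixedBy (Sylow 7 G) u)
    by_cases ha : a.1 = P
    · refine ⟨b.1, b.2, ?_⟩
      intro hb
      exact hab (Subtype.ext (ha.trans hb.symm))
    · exact ⟨a.1, a.2, ha⟩
  -- transitivity of `Z`
  have htrans : ∀ R : Sylow 7 G, R ≠ P → ∃ z ∈ Z, z • Q = R := by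
    let f : Z → {R : Sylow 7 G // R ≠ P} := fun z => ⟨z.1 • Q, by
      intro h
      apply hQP
      have h1 := hzP z.1 z.2
      exact smul_left_cancel _ (h.trans h1.symm)⟩
    have hfi : Function.Injective f := by
      intro a b hab
      have h1 : a.1 • Q = b.1 • Q := congrArg Subtype.val hab
      have h2 : (b.1⁻¹ * a.1) • Q = Q := by
        rw [mul_smul, h1, ← mul_smul, inv_mul_cancel, one_smul]
      have h3 := hfree _ (Z.mul_mem (Z.inv_mem b.2) a.2) Q hQP h2
      apply Subtype.ext
      exact (inv_mul_eq_one.1 h3).symm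
    have hcard : Nat.card {R : Sylow 7 G // R ≠ P} = 35 := by
      have h1 := card_sub_add_compl (α := Sylow 7 G) (fun R => R = P)
      have h2 : Nat.card {x : Sylow 7 G // x = P} = 1 := Nat.card_unique
      rw [h2, hn] at h1
      have : Nat.card {x : Sylow 7 G // ¬ x = P} = 35 := by omega
      exact this
    have hfb : Function.Bijective f := hfi.bijective_of_nat_card_le (by rw [hcard, hZ])
    intro R hR
    obtain ⟨z, hz⟩ := hfb.2 ⟨R, hR⟩
    exact ⟨z.1, z.2, congrArg Subtype.val hz⟩
  have hZnorm : ∀ z ∈ Z, u * z * u⁻¹ ∈ Z := by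
    intro z hz
    rw [hZdef, Subgroup.mem_centralizer_iff]
    intro y hy
    have h1 : u⁻¹ * y * u ∈ (P : Subgroup G) := by
      have h2 := (Subgroup.mem_normalizer_iff.1 (Subgroup.inv_mem _ huN) y).1 hy
      simpa using h2
    have h3 := (Subgroup.mem_centralizer_iff.1 hz) _ h1
    calc y * (u * z * u⁻¹) = u * ((u⁻¹ * y * u) * z) * u⁻¹ := by group
      _ = u * (z * (u⁻¹ * y * u)) * u⁻¹ := by rw [h3]
      _ = (u * z * u⁻¹) * y := by group
  -- the bijection
  set W : Subgroup G := Z ⊓ centralizer ({u} : Set G) with hW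
  have hWm : ∀ {z : G}, z ∈ W ↔ z ∈ Z ∧ u * z * u⁻¹ = z := by
    intro z
    rw [hW, Subgroup.mem_inf, Subgroup.mem_centralizer_singleton_iff]
    constructor
    · rintro ⟨h1, h2⟩
      exact ⟨h1, by rw [← h2]; group⟩
    · rintro ⟨h1, h2⟩
      refine ⟨h1, ?_⟩
      calc z * u = (u * z * u⁻¹) * u := by rw [h2]
        _ = u * z := by group
  let F : Option W → MulAction.fixedBy (Sylow 7 G) u := fun o =>
    match o with
    | none => ⟨P, huP⟩
    | some w => ⟨w.1 • Q, by
        show u • (w.1 • Q) = w.1 • Q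
        have h1 := (hWm.1 w.2).2
        rw [smul_smul]
        have h2 : u * w.1 = w.1 * u := by
          calc u * w.1 = (u * w.1 * u⁻¹) * u := by group
            _ = w.1 * u := by rw [h1]
        rw [h2, mul_smul, hQu]⟩
  have hFb : Function.Bijective F := by
    constructor
    · have hne : ∀ w : W, w.1 • Q ≠ P := by
        intro w h
        apply hQP
        have h1 := hzP w.1 (hWm.1 w.2).1
        exact smul_left_cancel _ (h.trans h1.symm)
      rintro (_ | a) (_ | b) hab
      · rfl
      · exact absurd (congrArg Subtype.val hab).symm (hne b)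
      · exact absurd (congrArg Subtype.val hab) (hne a)
      · have h1 : a.1 • Q = b.1 • Q := congrArg Subtype.val hab
        have h2 : (b.1⁻¹ * a.1) • Q = Q := by
          rw [mul_smul, h1, ← mul_smul, inv_mul_cancel, one_smul]
        have h3 := hfree _ (Z.mul_mem (Z.inv_mem (hWm.1 b.2).1) (hWm.1 a.2).1) Q hQP h2
        congr 1
        apply Subtype.ext
        exact (inv_mul_eq_one.1 h3).symm
    · rintro ⟨R, hR⟩
      by_cases hRP : R = P
      · exact ⟨none, Subtype.ext hRP.symm⟩
      · obtain ⟨z, hz, rfl⟩ := htrans R hRP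
        have hR' : u • (z • Q) = z • Q := hR
        have hk : (z⁻¹ * (u * z * u⁻¹)) • Q = Q := by
          have h1 : u⁻¹ • Q = Q := by
            conv_lhs => rw [← hQu]
            rw [inv_smul_smul]
          rw [mul_smul, mul_smul, h1, mul_smul, hR', inv_smul_smul]
        have hk1 := hfree _ (Z.mul_mem (Z.inv_mem hz) (hZnorm z hz)) Q hQP hk
        have hcz : u * z * u⁻¹ = z := (inv_mul_eq_one.1 hk1).symm
        exact ⟨some ⟨z, hWm.2 ⟨hz, hcz⟩⟩, Subtype.ext rfl⟩
  have hcardF : Nat.card W + 1 = Nat.card (MulAction.fixedBy (Sylow 7 G) u) := by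
    rw [← Nat.card_congr (Equiv.ofBijective F hFb), Finite.card_option]
  have hWd : Nat.card W ∣ 35 := by
    rw [← hZ]
    exact Subgroup.card_dvd_of_le inf_le_left
  have hW7 : ¬ 7 ∣ Nat.card W := by
    intro h7
    obtain ⟨x', hx'⟩ := exists_prime_orderOf_dvd_card' (G := W) 7 h7
    have hxo : orderOf (x' : G) = 7 := by rw [Subgroup.orderOf_coe]; exact hx'
    have hxZ := (hWm.1 x'.2).1
    have hxc := (hWm.1 x'.2).2
    have h1 : (x' : G) ∈ (P : Subgroup G) := mem_of_comm hP hxo (fun y hy =>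
      ((Subgroup.mem_centralizer_iff.1 hxZ) y hy).symm)
    have hne : (x' : G) ≠ 1 := by
      intro h0
      rw [h0, orderOf_one] at hxo
      omega
    have hz := zpowers_eq_of_mem_of_ne_one (by norm_num) (hP P) h1 hne
    apply huZ
    rw [hZdef, Subgroup.mem_centralizer_iff]
    intro y hy
    rw [SetLike.mem_coe, ← hz] at hy
    obtain ⟨k, rfl⟩ := Subgroup.mem_zpowers_iff.1 hy
    have h2 : Commute u (x' : G) := by
      show u * x' = x' * u
      calc u * (x' : G) = (u * x' * u⁻¹) * u := by group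
        _ = x' * u := by rw [hxc]
    exact (h2.zpow_right k).eq.symm
  have hWc : Nat.card W = 1 ∨ Nat.card W = 5 := by
    have : Nat.card W ∈ Nat.divisors 35 := Nat.mem_divisors.2 ⟨hWd, by norm_num⟩
    have h35 : Nat.divisors 35 = {1, 5, 7, 35} := by decide +kernel
    rw [h35] at this
    simp only [Finset.mem_insert, Finset.mem_singleton] at this
    rcases this with h | h | h | h
    · exact Or.inl h
    · exact Or.inr h
    · exact absurd (by rw [h]) hW7
    · exact absurd (by rw [h]; norm_num) hW7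
  unfold Nat.ModEq at hf4
  omega

end Cfsg.Agent.Lib.A7Ord
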