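import Mathlib
import Cfsg.Agent.Lib.A7Ord1
import Cfsg.Agent.Lib.A7Eight

/-!
# Simple groups of order 2520: local data at seven and five
-/

set_option autoImplicit false
set_option linter.style.haveILetI false
set_option linter.unusedSectionVars false
set_option linter.unusedVariables false

namespace Cfsg.Agent.Lib.A7Ord

open Subgroup Cfsg.Agent.Lib.SmallGroups2 Cfsg.Agent.Lib.SmallGroups3 Cfsg.Agent.Lib.J1Ord
open Cfsg.Agent.Lib.TwoLocal Cfsg.Agent.Lib.TwoLocal2 Cfsg.Agent.Lib.TwoLocal3

variable {G : Type*} [Group G] [Finite G]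

theorem a_mem_six {a : ℕ} (h : a ∣ 7 - 1) (h1 : a ≠ 1) : a = 2 ∨ a = 3 ∨ a = 6 := by
  have : a ∈ Nat.divisors 6 := Nat.mem_divisors.2 ⟨h, by norm_num⟩
  have h6 : Nat.divisors 6 = {1, 2, 3, 6} := by decide +kernel
  rw [h6] at this
  simp only [Finset.mem_insert, Finset.mem_singleton] at this
  omega

theorem a_mem_four {a : ℕ} (h : a ∣ 5 - 1) (h1 : a ≠ 1) : a = 2 ∨ a = 4 := by
  have : a ∈ Nat.divisors 4 := Nat.mem_divisors.2 ⟨h, by norm_num⟩
  have h6 : Nat.divisors 4 = {1, 2, 4} := by decide +kernel
  rw [h6] at this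
  simp only [Finset.mem_insert, Finset.mem_singleton] at this
  omega

theorem n7_data [IsSimpleGroup G] (hc : Nat.card G = 2520) [Fact (Nat.Prime 7)] :
    Nat.card (Sylow 7 G) = 120 ∧ aP 7 G = 3 ∧ eP 7 G = 1 := by
  haveI : Fact (Nat.Prime 5) := ⟨by norm_num⟩
  haveI : Fact (Nat.Prime 2) := ⟨Nat.prime_two⟩
  have hP := hP7 (G := G) hc
  have hG := not_comm (G := G) hc
  have hpd : 7 ∣ Nat.card G := by rw [hc]; norm_num
  have hd := card_eq_data hP
  have hdv := aP_dvd hP
  have hne := aP_ne_one (p := 7) hG hpd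
  have ha := a_mem_six hdv hne
  rw [hc] at hd
  have hm := card_sylow_mem_filter (G := G) (p := 7) (a := 1) (m := 360)
    (by rw [hc]; norm_num) (by norm_num) (by norm_num)
  have hfil : (Nat.divisors 360).filter (fun n => n % 7 = 1 % 7) = {1, 8, 15, 36, 120} := by
    decide +kernel
  rw [hfil] at hm
  simp only [Finset.mem_insert, Finset.mem_singleton] at hm
  rcases hm with hn | hn | hn | hn | hn
  · exact absurd hn (card_sylow_ne_one hG hpd)
  · exfalso
    rw [hn] at hd
    have he : eP 7 G = 15 := by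
      rcases ha with h | h | h <;> rw [h] at hd <;> omega
    have := prime_mul_add_one_le hG hP hpd (l := 5) (by norm_num) (by norm_num) (by rw [he]; norm_num)
    rw [hn] at this
    omega
  · exfalso
    exact comm_test (G := G) (p := 7) (q := 2) (m := 360) (n := 15) (k := 24) hG
      (by rw [hc]) (by norm_num) hn (by norm_num)
      (by
        intro e h1 h2
        have : e ∈ Nat.divisors 6 := Nat.mem_divisors.2 ⟨h1, by norm_num⟩
        have h6 : Nat.divisors 6 = {1, 2, 3, 6} := by decide +kernel
        rw [h6] at this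
        simp only [Finset.mem_insert, Finset.mem_singleton] at this
        rcases this with rfl | rfl | rfl | rfl <;> norm_num)
      (by decide)
  · exfalso
    rw [hn] at hd
    have ha2 : aP 7 G = 2 := by
      rcases ha with h | h | h
      · exact h
      · rw [h] at hd; omega
      · rw [h] at hd; omega
    have he : eP 7 G = 5 := by
      rw [ha2] at hd; omega
    exact not_n7_36 hc hn he ha2
  · rw [hn] at hd
    have ha3 : aP 7 G = 3 := by
      rcases ha with h | h | h
      · rw [h] at hd; omega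
      · exact h
      · rw [h] at hd; omega
    refine ⟨hn, ha3, ?_⟩
    rw [ha3] at hd
    omega

/-- No element of prime order other than `7` commutes with an element of order `7`. -/
theorem comm7_false [IsSimpleGroup G] (hc : Nat.card G = 2520) {a b : G} (ha : orderOf a = 7)
    (hb : (orderOf b).Prime) (hb7 : orderOf b ≠ 7) (hab : Commute a b) : False := by
  haveI : Fact (Nat.Prime 7) := ⟨by norm_num⟩
  have hP := hP7 (G := G) hc
  have hco : Nat.Coprime (orderOf a) (orderOf b) := by
    rw [ha]
    exact (Nat.coprime_primes (by norm_num) hb).2 (Ne.symm hb7)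
  have h1 : orderOf (a * b) = orderOf a * orderOf b := hab.orderOf_mul_eq_mul_orderOf_of_coprime hco
  have h2 := dvd_eP_of_orderOf hP hb hb7 (g := a * b) (by rw [h1, ha]; exact Dvd.intro _ rfl)
    (by rw [h1]; exact Dvd.intro_left _ rfl)
  rw [(n7_data hc).2.2] at h2
  exact hb.one_lt.ne' (Nat.dvd_one.1 h2)

theorem n5_data [IsSimpleGroup G] (hc : Nat.card G = 2520) [Fact (Nat.Prime 5)] :
    Nat.card (Sylow 5 G) = 126 ∧ ((aP 5 G = 2 ∧ eP 5 G = 2) ∨ (aP 5 G = 4 ∧ eP 5 G = 1)) := by
  haveI : Fact (Nat.Prime 7) := ⟨by norm_num⟩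
  have hP := hP5 (G := G) hc
  have hG := not_comm (G := G) hc
  have hpd : 5 ∣ Nat.card G := by rw [hc]; norm_num
  have hd := card_eq_data hP
  have hdv := aP_dvd hP
  have hne := aP_ne_one (p := 5) hG hpd
  have ha := a_mem_four hdv hne
  rw [hc] at hd
  have hm := card_sylow_mem_filter (G := G) (p := 5) (a := 1) (m := 504)
    (by rw [hc]; norm_num) (by norm_num) (by norm_num)
  have hfil : (Nat.divisors 504).filter (fun n => n % 5 = 1 % 5) = {1, 6, 21, 36, 56, 126} := by
    decide +kernel
  rw [hfil] at hm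
  simp only [Finset.mem_insert, Finset.mem_singleton] at hm
  rcases hm with hn | hn | hn | hn | hn | hn
  · exact absurd hn (card_sylow_ne_one hG hpd)
  · exfalso
    have h1 := two_mul_card_dvd_factorial_card_sylow (p := 5) hG hpd
    rw [hn, hc] at h1
    revert h1
    decide
  · exact absurd hn (Cfsg.Agent.S1010.result (G := G))
  · exfalso
    rw [hn] at hd
    have he : eP 5 G = 7 := by
      rcases ha with h | h <;> rw [h] at hd <;> omega
    obtain ⟨g, h1, h2⟩ := exists_of_dvd_eP hP (r := 7) (by norm_num) (by norm_num) (by rw [he])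
    have h3 := dvd_eP_of_orderOf (hP7 (G := G) hc) (r := 5) (by norm_num) (by norm_num) h2 h1
    rw [(n7_data hc).2.2] at h3
    omega
  · exfalso
    rw [hn] at hd
    rcases ha with h | h <;> rw [h] at hd <;> omega
  · rw [hn] at hd
    refine ⟨hn, ?_⟩
    rcases ha with h | h
    · left
      rw [h] at hd
      exact ⟨h, by omega⟩
    · right
      rw [h] at hd
      exact ⟨h, by omega⟩

end Cfsg.Agent.Lib.A7Ord
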