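import Mathlib
import Cfsg.Agent.Lib.A7Ord2

/-!
# Simple groups of order 2520: no elements of order ten
-/

set_option autoImplicit false
set_option linter.style.haveILetI false
set_option linter.unusedSectionVars false
set_option linter.unusedVariables false

namespace Cfsg.Agent.Lib.A7Ord

open Subgroup Cfsg.Agent.Lib.SmallGroups2 Cfsg.Agent.Lib.SmallGroups3 Cfsg.Agent.Lib.J1Ord
open Cfsg.Agent.Lib.TwoLocal Cfsg.Agent.Lib.TwoLocal2 Cfsg.Agent.Lib.TwoLocal3

variable {G : Type*} [Group G] [Finite G]

theorem card_dvd_of_free {H Y : Type*} [Group H] [Finite H] [Finite Y] [MulAction H Y]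
    (hfree : ∀ (h : H) (y : Y), h • y = y → h = 1) : Nat.card H ∣ Nat.card Y := by
  classical
  haveI : Fintype H := Fintype.ofFinite _
  haveI : Fintype Y := Fintype.ofFinite _
  haveI : Fintype (MulAction.orbitRel.Quotient H Y) := Fintype.ofFinite _
  have e := MulAction.selfEquivSigmaOrbits H Y
  rw [Nat.card_congr e, Nat.card_sigma]
  apply Finset.dvd_sum
  intro ω _
  haveI : Fintype (MulAction.orbit H ω.out) := Fintype.ofFinite _
  haveI : Fintype (MulAction.stabilizer H ω.out) := Fintype.ofFinite _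
  have h1 := MulAction.card_orbit_mul_card_stabilizer_eq_card_group H ω.out
  have h2 : Nat.card (MulAction.stabilizer H ω.out) = 1 := by
    rw [Nat.card_eq_one_iff_unique]
    refine ⟨⟨?_⟩, ⟨1, Subgroup.one_mem _⟩⟩
    rintro ⟨a, ha⟩ ⟨b, hb⟩
    apply Subtype.ext
    exact (hfree a _ ha).trans (hfree b _ hb).symm
  rw [← Nat.card_eq_fintype_card, ← Nat.card_eq_fintype_card, ← Nat.card_eq_fintype_card, h2,
    mul_one] at h1
  exact dvd_of_eq h1.symm

theorem conj_mem_centralizer_of_mem_normalizer {P : Subgroup G} {h z : G}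
    (hh : h ∈ normalizer (P : Set G)) (hz : z ∈ centralizer (P : Set G)) :
    h * z * h⁻¹ ∈ centralizer (P : Set G) := by
  rw [Subgroup.mem_centralizer_iff]
  intro y hy
  have h1 : h⁻¹ * y * h ∈ P := by
    have h2 := (Subgroup.mem_normalizer_iff.1 (Subgroup.inv_mem _ hh) y).1 hy
    simpa using h2
  have h3 := (Subgroup.mem_centralizer_iff.1 hz) _ h1
  calc y * (h * z * h⁻¹) = h * ((h⁻¹ * y * h) * z) * h⁻¹ := by group
    _ = h * (z * (h⁻¹ * y * h)) * h⁻¹ := by rw [h3]
    _ = (h * z * h⁻¹) * y := by group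

theorem not_e5_two_small [IsSimpleGroup G] (hc : Nat.card G = 2520) {w : G} (hw2 : w ^ 2 = 1)
    (hw1 : w ≠ 1) (hcw : Nat.card (centralizer ({w} : Set G)) = 20) : False := by
  haveI : Fact (Nat.Prime 2) := ⟨Nat.prime_two⟩
  have hwo : orderOf w = 2 := orderOf_eq_prime hw2 hw1
  have hz : IsPGroup 2 (zpowers w) := by
    rw [IsPGroup.iff_card, Nat.card_zpowers, hwo]
    exact ⟨1, by simp⟩
  obtain ⟨Q, hQ⟩ := hz.exists_le_sylow
  have hS : Nat.card (Q : Subgroup G) = 8 := by
    have := sylow_card_of_card_eq (G := G) (p := 2) (a := 3) (m := 315) (by rw [hc]; norm_num)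
      (by norm_num) Q
    simpa using this
  have hwQ : w ∈ (Q : Subgroup G) := hQ (mem_zpowers w)
  have hna : ∃ a ∈ (Q : Subgroup G), ∃ b ∈ (Q : Subgroup G), a * b ≠ b * a := by
    by_contra hno
    push Not at hno
    have hle : (Q : Subgroup G) ≤ centralizer ({w} : Set G) := by
      intro x hx
      rw [Subgroup.mem_centralizer_singleton_iff]
      exact hno x hx w hwQ
    have := Subgroup.card_dvd_of_le hle
    rw [hS, hcw] at this
    omega
  obtain ⟨f, hf, ho⟩ := exists_order_four hS hna
  have hcen := sq_central_of_order_four hS hf ho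
  obtain ⟨g, hg⟩ := exists_conj_mem_of_card_four hc (zpowers f) (by rw [Nat.card_zpowers, ho]) hw2
  have hg1 : g⁻¹ * w * g = f ^ 2 := by
    apply eq_sq_of_mem_zpowers ho hg
    · have : (g⁻¹ * w * g) ^ 2 = g⁻¹ * w ^ 2 * g := by
        have h0 := (conj_pow (a := g⁻¹) (b := w) (i := 2))
        simpa using h0
      rw [this, hw2]
      group
    · intro h
      apply hw1
      have : w = g * (g⁻¹ * w * g) * g⁻¹ := by group
      rw [this, h]
      group
  have hcc : Nat.card (centralizer ({f ^ 2} : Set G)) = 20 := by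
    have h1 := card_cent_conj g⁻¹ w
    rw [inv_inv, hg1, hcw] at h1
    exact h1
  have hle : (Q : Subgroup G) ≤ centralizer ({f ^ 2} : Set G) := by
    intro x hx
    rw [Subgroup.mem_centralizer_singleton_iff]
    exact hcen x hx
  have := Subgroup.card_dvd_of_le hle
  rw [hS, hcc] at this
  omega

theorem not_e5_two_big [IsSimpleGroup G] (hc : Nat.card G = 2520) [Fact (Nat.Prime 5)] (P : Sylow 5 G)
    {w : G} (hw2 : w ^ 2 = 1) (hw1 : w ≠ 1) (hwC : w ∈ centralizer ((P : Subgroup G) : Set G))
    (hNw : normalizer ((P : Subgroup G) : Set G) ≤ centralizer ({w} : Set G))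
    (hcw : Nat.card (centralizer ({w} : Set G)) = 120) : False := by
  classical
  haveI : Fact (Nat.Prime 2) := ⟨Nat.prime_two⟩
  have hG := not_comm (G := G) hc
  have hwo : orderOf w = 2 := orderOf_eq_prime hw2 hw1
  set X := centralizer ({w} : Set G) with hX
  have hXne : X ≠ ⊤ := centralizer_singleton_ne_top hG hw1
  have hindex : X.index = 21 := by
    have h6 := Subgroup.card_mul_index X
    rw [hc, hcw] at h6
    omega
  have hcardQ : Nat.card (G ⧸ X) = 21 := hindex
  have hwX : w ∈ X := by
    rw [hX, Subgroup.mem_centralizer_singleton_iff]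
  set base : G ⧸ X := ((1 : G) : G ⧸ X) with hbase
  -- the number of fixed points
  have hf4 := card_modEq_fixedBy_four hG (X := G ⧸ X) w hw2
  rw [hcardQ] at hf4
  have hf5 := card_fixedBy_modEq_inter (X := G ⧸ X) (P : Subgroup G) P.isPGroup' hwC
  have hmemfix : ∀ g : G, g⁻¹ * w * g ∈ X → w • (g : G ⧸ X) = (g : G ⧸ X) := by
    intro g hg
    show ((w * g : G) : G ⧸ X) = (g : G ⧸ X)
    rw [QuotientGroup.eq]
    have hinv : w⁻¹ = w := inv_eq_of_mul_eq_one_left (by rw [← pow_two, hw2])
    have : (w * g)⁻¹ * g = (g⁻¹ * w * g)⁻¹ := by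
      rw [mul_inv_rev, hinv, mul_inv_rev, mul_inv_rev, hinv, inv_inv]
      group
    rw [this]
    exact X.inv_mem hg
  have hone : Nat.card {x : G ⧸ X // w • x = x ∧ ∀ g ∈ (P : Subgroup G), g • x = x} = 1 := by
    rw [Nat.card_eq_one_iff_unique]
    refine ⟨⟨?_⟩, ⟨base, ?_, ?_⟩⟩
    · rintro ⟨a, -, ha⟩ ⟨b, -, hb⟩
      apply Subtype.ext
      exact (fixed_point_unique (hsq5 hc) P (hP5 hc P) X hNw a ha).trans
        (fixed_point_unique (hsq5 hc) P (hP5 hc P) X hNw b hb).symm
    · have h0 := hmemfix 1 (by simpa using hwX)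
      exact h0
    · intro g hg
      have hgX : g ∈ X := hNw (Subgroup.le_normalizer hg)
      show ((g * 1 : G) : G ⧸ X) = ((1 : G) : G ⧸ X)
      rw [QuotientGroup.eq]
      simpa using hgX
  rw [hone] at hf5
  have hflt : Nat.card (MulAction.fixedBy (G ⧸ X) w) < 21 := by
    have hle : Nat.card (MulAction.fixedBy (G ⧸ X) w) ≤ Nat.card (G ⧸ X) :=
      Nat.card_le_card_of_injective (fun x => x.1) Subtype.val_injective
    rw [hcardQ] at hle
    refine lt_of_le_of_ne hle ?_
    intro he
    have hbij : Function.Bijective (fun x : MulAction.fixedBy (G ⧸ X) w => x.1) :=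
      (Subtype.val_injective).bijective_of_nat_card_le (le_of_eq (by rw [he, hcardQ]))
    apply hw1
    apply eq_one_of_forall_smul_quotient X hXne
    intro x
    obtain ⟨y, rfl⟩ := hbij.2 x
    exact y.2
  have hf1 : Nat.card (MulAction.fixedBy (G ⧸ X) w) = 1 := by
    unfold Nat.ModEq at hf4 hf5
    omega
  have huniq : ∀ x : G ⧸ X, w • x = x → x = base := by
    intro x hx
    have hsub := (Nat.card_eq_one_iff_unique.1 hf1).1
    have hb : w • base = base := hmemfix 1 (by simpa using hwX)
    have h2 : (⟨x, hx⟩ : MulAction.fixedBy (G ⧸ X) w) = ⟨base, hb⟩ := Subsingleton.elim _ _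
    exact congrArg Subtype.val h2
  have hA : ∀ g : G, g⁻¹ * w * g ∈ X → g⁻¹ * w * g = w := by
    intro g hg
    have h1 := huniq _ (hmemfix g hg)
    have h2 : g ∈ X := by
      have : ((g : G) : G ⧸ X) = ((1 : G) : G ⧸ X) := h1
      rw [eq_comm, QuotientGroup.eq] at this
      simpa using this
    have h3 := Subgroup.mem_centralizer_singleton_iff.1 h2
    rw [mul_assoc, ← h3]
    group
  -- a Sylow subgroup of the centralizer
  have hz : IsPGroup 2 ((zpowers w).subgroupOf X) := by
    apply IsPGroup.comap_of_injective (H := zpowers w) _ X.subtype X.subtype_injective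
    rw [IsPGroup.iff_card, Nat.card_zpowers, hwo]
    exact ⟨1, by simp⟩
  obtain ⟨Q', hQ'⟩ := hz.exists_le_sylow
  have hQ'c : Nat.card (Q' : Subgroup X) = 8 := by
    have := sylow_card_of_card_eq (G := X) (p := 2) (a := 3) (m := 15) (by rw [hcw]; norm_num)
      (by norm_num) Q'
    simpa using this
  set S : Subgroup G := (Q' : Subgroup X).map X.subtype with hSdef
  have hS : Nat.card S = 8 := by
    rw [hSdef, Subgroup.card_map_of_injective X.subtype_injective, hQ'c]
  have hSX : S ≤ X := by
    rintro _ ⟨x, -, rfl⟩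
    exact x.2
  have hwS : w ∈ S := by
    refine ⟨⟨w, hwX⟩, hQ' ?_, rfl⟩
    rw [Subgroup.mem_subgroupOf]
    exact mem_zpowers w
  have hnotconj : ∀ (M : Subgroup G), M ≤ S → Nat.card M = 4 → w ∉ M → False := by
    intro M hMS hM hwM
    obtain ⟨g, hg⟩ := exists_conj_mem_of_card_four hc M hM hw2
    have := hA g (hSX (hMS hg))
    rw [this] at hg
    exact hwM hg
  rcases sq_or_four hS hwS hw2 hw1 with ⟨f, hf, ho, hfw⟩ | ⟨M, hMS, hM, hwM⟩
  · by_cases hr : ∃ r ∈ S, r ^ 2 = 1 ∧ r ≠ 1 ∧ r ≠ w
    · obtain ⟨r, hrS, hr2, hr1, hrw⟩ := hr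
      obtain ⟨g, hg⟩ := exists_conj_mem_of_card_four hc (zpowers f) (by rw [Nat.card_zpowers, ho]) hr2
      have hg1 : g⁻¹ * r * g = f ^ 2 := by
        apply eq_sq_of_mem_zpowers ho hg
        · have h0 := (conj_pow (a := g⁻¹) (b := r) (i := 2))
          have : (g⁻¹ * r * g) ^ 2 = g⁻¹ * r ^ 2 * g := by simpa using h0
          rw [this, hr2]
          group
        · intro h
          apply hr1
          have : r = g * (g⁻¹ * r * g) * g⁻¹ := by group
          rw [this, h]
          group
      rw [hfw] at hg1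
      have hr' : g * w * g⁻¹ = r := by
        rw [← hg1]; group
      have h1 := hA g⁻¹ (by rw [inv_inv, hr']; exact hSX hrS)
      rw [inv_inv, hr'] at h1
      exact hrw h1
    · push Not at hr
      -- `S` has a unique involution: it acts freely on the remaining points
      let A : SubMulAction ↥S (G ⧸ X) :=
        { carrier := {x | x ≠ base}
          smul_mem' := by
            intro c x hx h
            apply hx
            have hcb : (c : G) • base = base := by
              show (((c : G) * 1 : G) : G ⧸ X) = ((1 : G) : G ⧸ X)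
              rw [QuotientGroup.eq]
              simpa using hSX c.2
            have h1 : (c : G) • x = base := h
            rw [← hcb] at h1
            exact smul_left_cancel _ h1 }
      have hfree : ∀ (c : ↥S) (y : A), c • y = y → c = 1 := by
        rintro ⟨c, hcS⟩ ⟨y, hy⟩ h
        by_contra hc1
        have hc1' : c ≠ 1 := fun h => hc1 (Subtype.ext h)
        have hcy : c • y = y := congrArg Subtype.val h
        -- a power of `c` is an involution
        obtain ⟨l, hl⟩ : ∃ l : ℕ, (c ^ l) ^ 2 = 1 ∧ c ^ l ≠ 1 := by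
          rcases orderOf_mem_eight hS hcS with h1 | h1 | h1 | h1
          · exact absurd (orderOf_eq_one_iff.1 h1) hc1'
          · refine ⟨1, ?_, by simpa using hc1'⟩
            rw [pow_one, ← h1]; exact pow_orderOf_eq_one c
          · refine ⟨2, ?_, sq_ne_one_of_four h1⟩
            rw [← pow_mul, show 2 * 2 = orderOf c by omega]; exact pow_orderOf_eq_one c
          · refine ⟨4, ?_, ?_⟩
            · rw [← pow_mul, show 4 * 2 = orderOf c by omega]; exact pow_orderOf_eq_one c
            · intro h4
              have := orderOf_dvd_of_pow_eq_one h4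
              rw [h1] at this
              omega
        have hlw : c ^ l = w := hr (c ^ l) (S.pow_mem hcS l) hl.1 hl.2
        have hfixy : w • y = y := by
          rw [← hlw]
          have : c ∈ MulAction.stabilizer G y := hcy
          exact (MulAction.stabilizer G y).pow_mem this l
        exact hy (huniq y hfixy)
      have hdvd := card_dvd_of_free hfree
      have hAc : Nat.card A = 20 := by
        have h1 := card_sub_add_compl (α := G ⧸ X) (fun R => R = base)
        have h2 : Nat.card {x : G ⧸ X // x = base} = 1 := Nat.card_unique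
        rw [h2, hcardQ] at h1
        have h3 : Nat.card {x : G ⧸ X // ¬ x = base} = 20 := by omega
        exact h3
      rw [hAc, hS] at hdvd
      omega
  · exact hnotconj M hMS hM hwM

theorem not_e5_two [IsSimpleGroup G] (hc : Nat.card G = 2520) [Fact (Nat.Prime 5)]
    (ha : aP 5 G = 2) (he : eP 5 G = 2) : False := by
  classical
  haveI : Fact (Nat.Prime 2) := ⟨Nat.prime_two⟩
  obtain ⟨P⟩ : Nonempty (Sylow 5 G) := inferInstance
  have hG := not_comm (G := G) hc
  have hP := hP5 (G := G) hc
  have hpd : 5 ∣ Nat.card G := by rw [hc]; norm_num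
  have hCc : Nat.card (centralizer ((P : Subgroup G) : Set G)) = 2 * 5 := by
    rw [card_cent_eq hP P, he]
  have hNc : Nat.card (normalizer ((P : Subgroup G) : Set G)) = 20 := by
    rw [card_norm_eq hP P, he, ha]
  obtain ⟨wC, hwC⟩ := exists_prime_orderOf_dvd_card' (G := centralizer ((P : Subgroup G) : Set G)) 2
    (by rw [hCc]; norm_num)
  have hw2 : (wC : G) ^ 2 = 1 := by
    have := pow_orderOf_eq_one wC
    rw [hwC] at this
    exact_mod_cast this
  have hw1 : (wC : G) ≠ 1 := by
    intro h
    have h1 : wC = 1 := Subtype.ext h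
    rw [h1, orderOf_one] at hwC
    omega
  have hNw : normalizer ((P : Subgroup G) : Set G) ≤ centralizer ({(wC : G)} : Set G) := by
    intro h hh
    rw [Subgroup.mem_centralizer_singleton_iff]
    have h1 := conj_mem_centralizer_of_mem_normalizer hh wC.2
    have h2 : h * (wC : G) * h⁻¹ = (wC : G) :=
      eq_of_sq_eq_one_of_card_centralizer (p := 5) (by norm_num) (by norm_num) (hP P)
        (sylow_le_centralizer hP P) hCc wC.2 hw2 hw1 h1
        (by
          have h0 := (conj_pow (a := h) (b := (wC : G)) (i := 2))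
          rw [h0, hw2]
          group)
        (by
          intro h3
          apply hw1
          have : (wC : G) = h⁻¹ * (h * (wC : G) * h⁻¹) * h := by group
          rw [this, h3]
          group)
    calc h * (wC : G) = (h * (wC : G) * h⁻¹) * h := by group
      _ = (wC : G) * h := by rw [h2]
  obtain ⟨n, hn5, hnlt, hcard, -, -, -⟩ := centralizer_data hG (hsq5 hc) hpd P (hP P) hw1 wC.2
  have hinf : centralizer ({(wC : G)} : Set G) ⊓ normalizer ((P : Subgroup G) : Set G) =
      normalizer ((P : Subgroup G) : Set G) := inf_eq_right.2 hNw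
  rw [hinf, hNc] at hcard
  have hdvd : Nat.card (centralizer ({(wC : G)} : Set G)) ∣ 2520 := by
    rw [← hc]; exact Subgroup.card_subgroup_dvd_card _
  rw [hcard, show 2520 = 126 * 20 by norm_num] at hdvd
  have hn126 : n ∣ 126 := Nat.dvd_of_mul_dvd_mul_right (by norm_num) hdvd
  have hle := card_le_of_ne_top hc _ (centralizer_singleton_ne_top hG hw1)
  have hnm : n ∈ Nat.divisors 126 := Nat.mem_divisors.2 ⟨hn126, by norm_num⟩
  have hdiv : Nat.divisors 126 = {1, 2, 3, 6, 7, 9, 14, 18, 21, 42, 63, 126} := by decide +kernel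
  rw [hdiv] at hnm
  simp only [Finset.mem_insert, Finset.mem_singleton] at hnm
  rw [hcard] at hle
  rcases hnm with h | h | h | h | h | h | h | h | h | h | h | h <;> rw [h] at hn5 hle hcard
  · exact not_e5_two_small hc hw2 hw1 hcard
  all_goals try omega
  · exact not_e5_two_big hc P hw2 hw1 wC.2 hNw hcard

theorem e5_data [IsSimpleGroup G] (hc : Nat.card G = 2520) [Fact (Nat.Prime 5)] :
    Nat.card (Sylow 5 G) = 126 ∧ aP 5 G = 4 ∧ eP 5 G = 1 := by
  obtain ⟨h1, h2⟩ := n5_data (G := G) hc
  rcases h2 with ⟨h2, h3⟩ | ⟨h2, h3⟩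
  · exact (not_e5_two hc h2 h3).elim
  · exact ⟨h1, h2, h3⟩

theorem comm5_false [IsSimpleGroup G] (hc : Nat.card G = 2520) [Fact (Nat.Prime 5)] {a b : G}
    (ha : orderOf a = 5) (hb : (orderOf b).Prime) (hb7 : orderOf b ≠ 5) (hab : Commute a b) :
    False := by
  have hP := hP5 (G := G) hc
  have hco : (orderOf a).Coprime (orderOf b) := by
    rw [ha]
    exact (Nat.coprime_primes (by norm_num) hb).2 (Ne.symm hb7)
  have h1 : orderOf (a * b) = orderOf a * orderOf b := hab.orderOf_mul_eq_mul_orderOf_of_coprime hco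
  have h2 := dvd_eP_of_orderOf hP hb hb7 (g := a * b) (by rw [h1, ha]; exact Dvd.intro _ rfl)
    (by rw [h1]; exact Dvd.intro_left _ rfl)
  rw [(e5_data hc).2.2] at h2
  exact hb.one_lt.ne' (Nat.dvd_one.1 h2)

end Cfsg.Agent.Lib.A7Ord
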