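import Mathlib
import Cfsg.Agent.Lib.A7Ord3
import Cfsg.Agent.S1019

/-!
# Simple groups of order 2520: the element of order four
-/

set_option autoImplicit false
set_option linter.style.haveILetI false
set_option linter.unusedSectionVars false
set_option linter.unusedVariables false

namespace Cfsg.Agent.Lib.A7Ord

open Subgroup Cfsg.Agent.Lib.SmallGroups2 Cfsg.Agent.Lib.SmallGroups3 Cfsg.Agent.Lib.J1Ord
open Cfsg.Agent.Lib.TwoLocal Cfsg.Agent.Lib.TwoLocal2 Cfsg.Agent.Lib.TwoLocal3

variable {G : Type*} [Group G] [Finite G]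

theorem conj_iter {h s : G} {m : ℕ} (hs : h * s * h⁻¹ = s ^ m) (k : ℕ) :
    h ^ k * s * (h ^ k)⁻¹ = s ^ (m ^ k) := by
  induction k with
  | zero => simp
  | succ k ih =>
    calc h ^ (k + 1) * s * (h ^ (k + 1))⁻¹ = h * (h ^ k * s * (h ^ k)⁻¹) * h⁻¹ := by
          rw [pow_succ']; group
      _ = h * s ^ (m ^ k) * h⁻¹ := by rw [ih]
      _ = (h * s * h⁻¹) ^ (m ^ k) := by rw [conj_pow]
      _ = s ^ (m ^ (k + 1)) := by rw [hs, ← pow_mul, pow_succ']

theorem not_five_dvd_cent [IsSimpleGroup G] (hc : Nat.card G = 2520) {x : G}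
    (hx : (orderOf x).Prime) (hx5 : orderOf x ≠ 5) :
    ¬ 5 ∣ Nat.card (centralizer ({x} : Set G)) := by
  intro h
  haveI : Fact (Nat.Prime 5) := ⟨by norm_num⟩
  obtain ⟨a, ha⟩ := exists_prime_orderOf_dvd_card' (G := centralizer ({x} : Set G)) 5 h
  have ha' : orderOf (a : G) = 5 := by rw [Subgroup.orderOf_coe]; exact ha
  have hcomm : Commute (a : G) x := Subgroup.mem_centralizer_singleton_iff.1 a.2
  exact comm5_false hc ha' hx hx5 hcomm

theorem not_seven_dvd_cent [IsSimpleGroup G] (hc : Nat.card G = 2520) {x : G}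
    (hx : (orderOf x).Prime) (hx5 : orderOf x ≠ 7) :
    ¬ 7 ∣ Nat.card (centralizer ({x} : Set G)) := by
  intro h
  haveI : Fact (Nat.Prime 7) := ⟨by norm_num⟩
  obtain ⟨a, ha⟩ := exists_prime_orderOf_dvd_card' (G := centralizer ({x} : Set G)) 7 h
  have ha' : orderOf (a : G) = 7 := by rw [Subgroup.orderOf_coe]; exact ha
  have hcomm : Commute (a : G) x := Subgroup.mem_centralizer_singleton_iff.1 a.2
  exact comm7_false hc ha' hx hx5 hcomm

theorem card_cent_dvd_72 [IsSimpleGroup G] (hc : Nat.card G = 2520) {x : G}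
    (hx : orderOf x = 2 ∨ orderOf x = 3) : Nat.card (centralizer ({x} : Set G)) ∣ 72 := by
  have hp : (orderOf x).Prime := by
    rcases hx with h | h <;> rw [h] <;> norm_num
  have h5 := not_five_dvd_cent hc hp (by rcases hx with h | h <;> rw [h] <;> norm_num)
  have h7 := not_seven_dvd_cent hc hp (by rcases hx with h | h <;> rw [h] <;> norm_num)
  have hd : Nat.card (centralizer ({x} : Set G)) ∣ 72 * 35 := by
    rw [show 72 * 35 = 2520 by norm_num, ← hc]
    exact Subgroup.card_subgroup_dvd_card _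
  have hco : Nat.Coprime (Nat.card (centralizer ({x} : Set G))) 35 := by
    rw [show 35 = 5 * 7 by norm_num]
    apply Nat.Coprime.mul_right
    · exact ((Nat.Prime.coprime_iff_not_dvd (by norm_num)).2 h5).symm
    · exact ((Nat.Prime.coprime_iff_not_dvd (by norm_num)).2 h7).symm
  exact hco.dvd_of_dvd_mul_right hd

/-- The number of non-trivial elements of a Sylow `5`-subgroup. -/
theorem card_nontrivial_five (hc : Nat.card G = 2520) [Fact (Nat.Prime 5)] (P : Sylow 5 G) :
    Nat.card {x : G // x ∈ (P : Subgroup G) ∧ x ≠ 1} = 4 := by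
  have h1 := card_sub_add_compl (α := (P : Subgroup G)) (fun x => x = 1)
  have h2 : Nat.card {x : (P : Subgroup G) // x = 1} = 1 := Nat.card_unique
  rw [h2, hP5 hc P] at h1
  have h3 : Nat.card {x : G // x ∈ (P : Subgroup G) ∧ x ≠ 1} =
      Nat.card {x : (P : Subgroup G) // ¬ x = 1} := by
    apply Nat.card_congr
    refine ⟨fun x => ⟨⟨x.1, x.2.1⟩, fun h => x.2.2 (congrArg Subtype.val h)⟩,
      fun x => ⟨x.1.1, x.1.2, fun h => x.2 (Subtype.ext h)⟩, ?_, ?_⟩
    · intro x; rfl
    · intro x; rfl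
  omega

theorem exists_phi_aux [IsSimpleGroup G] (hc : Nat.card G = 2520) [Fact (Nat.Prime 5)]
    (P : Sylow 5 G) {s : G} (hs : s ∈ (P : Subgroup G)) (hs1 : s ≠ 1) :
    ∃ φ ∈ normalizer ((P : Subgroup G) : Set G), φ ^ 4 = 1 ∧ φ * s * φ⁻¹ = s ^ 2 := by
  classical
  have hP := hP5 (G := G) hc
  have hd := e5_data (G := G) hc
  set N := normalizer ((P : Subgroup G) : Set G) with hNdef
  have hN : Nat.card N = 20 := by
    rw [hNdef, card_norm_eq hP P, hd.2.1, hd.2.2]
  have hC : Nat.card (centralizer ((P : Subgroup G) : Set G)) = 5 := by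
    rw [card_cent_eq hP P, hd.2.2]
  have hCeq : centralizer ((P : Subgroup G) : Set G) = (P : Subgroup G) := by
    symm
    apply Subgroup.eq_of_le_of_card_ge (sylow_le_centralizer hP P)
    rw [hC, hP P]
  have hz : zpowers s = (P : Subgroup G) :=
    zpowers_eq_of_mem_of_ne_one (by norm_num) (hP P) hs hs1
  have hI : Nat.card ↥(N ⊓ centralizer ({s} : Set G)) = 5 := by
    have : N ⊓ centralizer ({s} : Set G) = (P : Subgroup G) := by
      apply le_antisymm
      · intro x hx
        have hx2 := (Subgroup.mem_inf.1 hx).2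
        have hxs : x * s = s * x := Subgroup.mem_centralizer_singleton_iff.1 hx2
        rw [← hCeq, Subgroup.mem_centralizer_iff]
        intro y hy
        have hy' : y ∈ zpowers s := by rw [hz]; exact hy
        obtain ⟨k, rfl⟩ := Subgroup.mem_zpowers_iff.1 hy'
        exact ((Commute.refl s).zpow_left k |>.symm.symm |> fun _ => (show Commute x s from hxs).zpow_right k).symm.eq
      · intro x hx
        refine Subgroup.mem_inf.2 ⟨Subgroup.le_normalizer hx, ?_⟩
        rw [Subgroup.mem_centralizer_singleton_iff]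
        exact comm_of_mem_sylow hP P hx hs
    rw [this, hP P]
  have h1 := card_orbit_conj N s
  rw [hI, hN] at h1
  have horb : Nat.card {x : G // ∃ g ∈ N, g * s * g⁻¹ = x} = 4 := by omega
  let f : {x : G // ∃ g ∈ N, g * s * g⁻¹ = x} → {x : G // x ∈ (P : Subgroup G) ∧ x ≠ 1} :=
    fun x => ⟨x.1, by
      obtain ⟨g, hg, h⟩ := x.2
      rw [← h]
      refine ⟨(Subgroup.mem_normalizer_iff.1 hg s).1 hs, ?_⟩
      intro h0
      apply hs1
      have : s = g⁻¹ * (g * s * g⁻¹) * g := by group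
      rw [this, h0]
      group⟩
  have hfinj : Function.Injective f := by
    intro a b hab
    exact Subtype.ext (congrArg (fun z => z.1) hab)
  have hfbij := hfinj.bijective_of_nat_card_le (by
    rw [horb, card_nontrivial_five hc P])
  have hs5 : s ^ 5 = 1 := by
    have ho := orderOf_eq_of_mem_of_ne_one (by norm_num) (hP P) hs hs1
    rw [← ho]
    exact pow_orderOf_eq_one s
  have hs2 : s ^ 2 ≠ 1 := by
    intro h
    have ho := orderOf_eq_of_mem_of_ne_one (by norm_num) (hP P) hs hs1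
    have := orderOf_dvd_of_pow_eq_one h
    rw [ho] at this
    omega
  obtain ⟨⟨x, g, hg, hgx⟩, hx⟩ := hfbij.2 ⟨s ^ 2, (P : Subgroup G).pow_mem hs 2, hs2⟩
  have hx' : x = s ^ 2 := congrArg Subtype.val hx
  rw [hx'] at hgx
  refine ⟨g ^ 5, N.pow_mem hg 5, ?_, ?_⟩
  · rw [← pow_mul]
    have : ((⟨g, hg⟩ : N) ^ 20 : N) = 1 := by
      rw [← hN]; exact pow_card_eq_one'
    have h2 : g ^ 20 = 1 := by
      have := congrArg (fun z : N => (z : G)) this
      simpa using this
    exact h2
  · rw [conj_iter hgx 5]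
    calc s ^ 2 ^ 5 = (s ^ 5) ^ 6 * s ^ 2 := by
          rw [← pow_mul, ← pow_add]
          norm_num
      _ = s ^ 2 := by rw [hs5]; simp

/-- An element of order four acting on a Sylow `5`-subgroup by squaring. -/
theorem exists_phi [IsSimpleGroup G] (hc : Nat.card G = 2520) [Fact (Nat.Prime 5)]
    (P : Sylow 5 G) :
    ∃ φ ∈ normalizer ((P : Subgroup G) : Set G), orderOf φ = 4 ∧
      ∀ r ∈ (P : Subgroup G), φ * r * φ⁻¹ = r ^ 2 := by
  classical
  haveI : Fact (Nat.Prime 2) := ⟨Nat.prime_two⟩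
  have hP := hP5 (G := G) hc
  obtain ⟨s, hs, hs1⟩ : ∃ s ∈ (P : Subgroup G), s ≠ 1 := by
    by_contra hno
    push Not at hno
    have : (P : Subgroup G) = ⊥ := by
      rw [Subgroup.eq_bot_iff_forall]
      exact hno
    have h1 := hP P
    rw [this] at h1
    simp at h1
  obtain ⟨φ, hφ, h4, hconj⟩ := exists_phi_aux hc P hs hs1
  have ho := orderOf_eq_of_mem_of_ne_one (by norm_num) (hP P) hs hs1
  have hz : zpowers s = (P : Subgroup G) :=
    zpowers_eq_of_mem_of_ne_one (by norm_num) (hP P) hs hs1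
  refine ⟨φ, hφ, ?_, ?_⟩
  · have : orderOf φ = 2 ^ (1 + 1) := by
      apply orderOf_eq_prime_pow
      · intro h
        have h2 := conj_iter hconj 2
        rw [show φ ^ 2 = 1 by simpa using h] at h2
        simp only [one_mul, inv_one, mul_one] at h2
        have h3 : s ^ 3 = 1 := by
          have h4' : s * s ^ 3 = s * 1 := by
            rw [mul_one]
            calc s * s ^ 3 = s ^ (2 ^ 2) := by rw [← pow_succ']; norm_num
              _ = s := h2.symm
          exact mul_left_cancel h4'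
        have := orderOf_dvd_of_pow_eq_one h3
        rw [ho] at this
        omega
      · simpa using h4
    simpa using this
  · intro r hr
    have hr' : r ∈ zpowers s := by rw [hz]; exact hr
    obtain ⟨k, rfl⟩ := Subgroup.mem_zpowers_iff.1 hr'
    rw [← conj_zpow, hconj, ← zpow_natCast s 2, ← zpow_natCast (s ^ k) 2, ← zpow_mul, ← zpow_mul,
      mul_comm]

/-- The square of `φ` inverts the Sylow subgroup. -/
theorem sq_phi_inverts (hc : Nat.card G = 2520) [Fact (Nat.Prime 5)] (P : Sylow 5 G) {φ : G}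
    (hφ : ∀ r ∈ (P : Subgroup G), φ * r * φ⁻¹ = r ^ 2) {r : G} (hr : r ∈ (P : Subgroup G)) :
    φ ^ 2 * r * (φ ^ 2)⁻¹ = r⁻¹ := by
  have h5 : r ^ 5 = 1 := by
    have := pow_card_eq_one' (x := (⟨r, hr⟩ : (P : Subgroup G)))
    rw [hP5 hc P] at this
    have h2 := congrArg (fun z : (P : Subgroup G) => (z : G)) this
    simpa using h2
  rw [conj_iter (hφ r hr) 2]
  rw [eq_inv_iff_mul_eq_one]
  rw [← pow_succ]
  exact h5

/-- All involutions are conjugate. -/
theorem invol_conj [IsSimpleGroup G] (hc : Nat.card G = 2520) {φ : G} (ho : orderOf φ = 4) {u : G}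
    (hu2 : u ^ 2 = 1) (hu1 : u ≠ 1) : ∃ g : G, g * φ ^ 2 * g⁻¹ = u := by
  obtain ⟨g, hg⟩ := exists_conj_mem_of_card_four hc (zpowers φ) (by rw [Nat.card_zpowers, ho]) hu2
  have h1 : g⁻¹ * u * g = φ ^ 2 := by
    apply eq_sq_of_mem_zpowers ho hg
    · have h0 := (conj_pow (a := g⁻¹) (b := u) (i := 2))
      have : (g⁻¹ * u * g) ^ 2 = g⁻¹ * u ^ 2 * g := by simpa using h0
      rw [this, hu2]
      group
    · intro h
      apply hu1
      have : u = g * (g⁻¹ * u * g) * g⁻¹ := by group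
      rw [this, h]
      group
  refine ⟨g, ?_⟩
  rw [← h1]
  group

theorem exists_order_four_global [IsSimpleGroup G] (hc : Nat.card G = 2520) :
    ∃ φ : G, orderOf φ = 4 := by
  haveI : Fact (Nat.Prime 5) := ⟨by norm_num⟩
  obtain ⟨P⟩ : Nonempty (Sylow 5 G) := inferInstance
  obtain ⟨φ, -, ho, -⟩ := exists_phi hc P
  exact ⟨φ, ho⟩

/-- Any two involutions are conjugate. -/
theorem invol_conj' [IsSimpleGroup G] (hc : Nat.card G = 2520) {u v : G}
    (hu2 : u ^ 2 = 1) (hu1 : u ≠ 1) (hv2 : v ^ 2 = 1) (hv1 : v ≠ 1) : ∃ g : G, g * u * g⁻¹ = v := by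
  obtain ⟨φ, ho⟩ := exists_order_four_global (G := G) hc
  obtain ⟨a, ha⟩ := invol_conj hc ho hu2 hu1
  obtain ⟨b, hb⟩ := invol_conj hc ho hv2 hv1
  refine ⟨b * a⁻¹, ?_⟩
  rw [← ha, ← hb]
  group

theorem orderOf_invol {u : G} (hu2 : u ^ 2 = 1) (hu1 : u ≠ 1) : orderOf u = 2 :=
  orderOf_eq_prime hu2 hu1

/-- The centralizer of an involution has order `8`, `24` or `72`. -/
theorem card_cent_invol_cases [IsSimpleGroup G] (hc : Nat.card G = 2520) {u : G}
    (hu2 : u ^ 2 = 1) (hu1 : u ≠ 1) :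
    Nat.card (centralizer ({u} : Set G)) = 8 ∨ Nat.card (centralizer ({u} : Set G)) = 24 ∨
      Nat.card (centralizer ({u} : Set G)) = 72 := by
  haveI : Fact (Nat.Prime 2) := ⟨Nat.prime_two⟩
  obtain ⟨φ, ho⟩ := exists_order_four_global (G := G) hc
  obtain ⟨g, hg⟩ := invol_conj hc ho hu2 hu1
  have hd := card_cent_dvd_72 hc (x := u) (Or.inl (orderOf_invol hu2 hu1))
  have h8 : 8 ∣ Nat.card (centralizer ({u} : Set G)) := by
    have hz : IsPGroup 2 (zpowers φ) := by
      rw [IsPGroup.iff_card, Nat.card_zpowers, ho]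
      exact ⟨2, by norm_num⟩
    obtain ⟨Q, hQ⟩ := hz.exists_le_sylow
    have hS : Nat.card (Q : Subgroup G) = 8 := by
      have := sylow_card_of_card_eq (G := G) (p := 2) (a := 3) (m := 315) (by rw [hc]; norm_num)
        (by norm_num) Q
      simpa using this
    have hf : φ ∈ (Q : Subgroup G) := hQ (mem_zpowers φ)
    have hcen := sq_central_of_order_four hS hf ho
    have hle : (Q : Subgroup G) ≤ centralizer ({φ ^ 2} : Set G) := by
      intro x hx
      rw [Subgroup.mem_centralizer_singleton_iff]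
      exact hcen x hx
    have h2 := Subgroup.card_dvd_of_le hle
    rw [hS] at h2
    have h3 := card_cent_conj g (φ ^ 2)
    rw [hg] at h3
    rw [h3]
    exact h2
  obtain ⟨k, hk⟩ := h8
  rw [hk] at hd ⊢
  have hk9 : k ∣ 9 := Nat.dvd_of_mul_dvd_mul_left (by norm_num : 0 < 8) hd
  have hk' : k ∈ Nat.divisors 9 := Nat.mem_divisors.2 ⟨hk9, by norm_num⟩
  have hdiv : Nat.divisors 9 = {1, 3, 9} := by decide +kernel
  rw [hdiv] at hk'
  simp only [Finset.mem_insert, Finset.mem_singleton] at hk'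
  omega

end Cfsg.Agent.Lib.A7Ord
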