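import Mathlib
import Cfsg.Agent.Lib.A7Ord4

/-!
# Simple groups of order 2520: centralizers of involutions are not too small
-/

set_option autoImplicit false
set_option linter.style.haveILetI false
set_option linter.unusedSectionVars false
set_option linter.unusedVariables false

namespace Cfsg.Agent.Lib.A7Ord

open Subgroup Cfsg.Agent.Lib.SmallGroups2 Cfsg.Agent.Lib.SmallGroups3 Cfsg.Agent.Lib.J1Ord
open Cfsg.Agent.Lib.TwoLocal Cfsg.Agent.Lib.TwoLocal2 Cfsg.Agent.Lib.TwoLocal3

variable {G : Type*} [Group G] [Finite G]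

/-- An even permutation of order dividing four all of whose cycles have length one or four moves a
number of points divisible by eight. -/
theorem eight_dvd_card_support {X : Type*} [Fintype X] [DecidableEq X] (σ : Equiv.Perm X)
    (h4 : σ ^ 4 = 1) (h2 : ∀ x, σ (σ x) = x → σ x = x) (hs : Equiv.Perm.sign σ = 1) :
    8 ∣ σ.support.card := by
  have hall : ∀ n ∈ σ.cycleType, n = 4 := by
    intro n hn
    have hd : n ∣ 4 := by
      have h3 := Equiv.Perm.dvd_of_mem_cycleType hn
      exact h3.trans (orderOf_dvd_of_pow_eq_one h4)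
    have h2le := Equiv.Perm.two_le_of_mem_cycleType hn
    have hne : n ≠ 2 := by
      rintro rfl
      obtain ⟨c, τ, hσ, hdis, hcyc, hcard⟩ := Equiv.Perm.mem_cycleType_iff.1 hn
      have hsw := Equiv.Perm.card_support_eq_two.1 hcard
      obtain ⟨a, b, hab, rfl⟩ := hsw
      have hτa : τ a = a := by
        rcases hdis a with h | h
        · simp [Equiv.swap_apply_left, hab.symm] at h
        · exact h
      have hτb : τ b = b := by
        rcases hdis b with h | h
        · simp [Equiv.swap_apply_right, hab] at h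
        · exact h
      have h5 : σ a = b := by
        rw [hσ, Equiv.Perm.mul_apply, hτa, Equiv.swap_apply_left]
      have h6 : σ b = a := by
        rw [hσ, Equiv.Perm.mul_apply, hτb, Equiv.swap_apply_right]
      have h7 := h2 a (by rw [h5, h6])
      rw [h5] at h7
      exact hab h7.symm
    have hm : n ∈ Nat.divisors 4 := Nat.mem_divisors.2 ⟨hd, by norm_num⟩
    have hdiv : Nat.divisors 4 = {1, 2, 4} := by decide +kernel
    rw [hdiv] at hm
    simp only [Finset.mem_insert, Finset.mem_singleton] at hm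
    omega
  have hrep : σ.cycleType = Multiset.replicate (Multiset.card σ.cycleType) 4 :=
    Multiset.eq_replicate_card.2 hall
  set k := Multiset.card σ.cycleType with hk
  have hsum : σ.support.card = 4 * k := by
    rw [← Equiv.Perm.sum_cycleType, hrep, Multiset.sum_replicate, smul_eq_mul, mul_comm]
  have hsign := Equiv.Perm.sign_of_cycleType σ
  rw [hs, Equiv.Perm.sum_cycleType, hsum] at hsign
  have hpar : Even (4 * k + Multiset.card σ.cycleType) := by
    by_contra hodd
    rw [Nat.not_even_iff_odd] at hodd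
    rw [hodd.neg_one_pow] at hsign
    exact absurd hsign (by decide)
  rw [← hk] at hpar
  have h8 : Even k := by
    rcases hpar with ⟨m, hm⟩
    exact ⟨m - 2 * k, by omega⟩
  rcases h8 with ⟨m, hm⟩
  rw [hsum, hm]
  exact ⟨m, by ring⟩

theorem card_class_mul_cent (x : G) :
    Nat.card {g : G // IsConj x g} * Nat.card (centralizer ({x} : Set G)) = Nat.card G := by
  have h := card_orbit_conj (⊤ : Subgroup G) x
  rw [top_inf_eq, Nat.card_congr (Subgroup.topEquiv (G := G)).toEquiv] at h
  rw [← h]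
  congr 1
  apply Nat.card_congr
  refine ⟨fun y => ⟨y.1, ?_⟩, fun y => ⟨y.1, ?_⟩, ?_, ?_⟩
  · obtain ⟨c, hc⟩ := isConj_iff.1 y.2
    exact ⟨c, Subgroup.mem_top c, hc⟩
  · obtain ⟨c, -, hc⟩ := y.2
    exact isConj_iff.2 ⟨c, hc⟩
  · intro y; rfl
  · intro y; rfl

/-- The centralizer of an involution cannot have order eight. -/
theorem not_card_cent_eight [IsSimpleGroup G] (hc : Nat.card G = 2520) {φ : G} (ho : orderOf φ = 4)
    (hcc : Nat.card (centralizer ({φ ^ 2} : Set G)) = 8) : False := by
  classical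
  have hG := not_comm (G := G) hc
  set H : Subgroup G := zpowers φ with hH
  have hHc : Nat.card H = 4 := by rw [hH, Nat.card_zpowers, ho]
  have hindex : H.index = 630 := by
    have h6 := Subgroup.card_mul_index H
    rw [hc, hHc] at h6
    omega
  haveI : Fintype (G ⧸ H) := Fintype.ofFinite _
  have hXc : Fintype.card (G ⧸ H) = 630 := by
    rw [← Nat.card_eq_fintype_card]
    exact hindex
  have ht : φ ^ 2 ∈ H := H.pow_mem (mem_zpowers φ) 2
  have h1 := Cfsg.Agent.S1019.result H (φ ^ 2) ht
  have h2 := card_class_mul_cent (φ ^ 2)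
  rw [hcc, hc] at h2
  have h3 : Nat.card {g : G // IsConj (φ ^ 2) g} = 315 := by omega
  have h4 : Nat.card {g : G // IsConj (φ ^ 2) g ∧ g ∈ H} = 1 := by
    rw [Nat.card_eq_one_iff_unique]
    refine ⟨⟨?_⟩, ⟨⟨φ ^ 2, IsConj.refl _, ht⟩⟩⟩
    have huniq : ∀ a : {g : G // IsConj (φ ^ 2) g ∧ g ∈ H}, a.1 = φ ^ 2 := by
      rintro ⟨a, ha, haH⟩
      obtain ⟨c, hca⟩ := isConj_iff.1 ha
      apply eq_sq_of_mem_zpowers ho haH
      · rw [← hca, conj_pow, ← pow_mul]
        rw [show 2 * 2 = 4 by norm_num, show φ ^ 4 = 1 by rw [← ho]; exact pow_orderOf_eq_one φ]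
        group
      · rw [← hca]
        intro h0
        apply sq_ne_one_of_four ho
        have : φ ^ 2 = c⁻¹ * (c * φ ^ 2 * c⁻¹) * c := by group
        rw [this, h0]
        group
    intro a b
    exact Subtype.ext ((huniq a).trans (huniq b).symm)
  rw [h3, h4, hindex] at h1
  have hfix : Nat.card (MulAction.fixedBy (G ⧸ H) (φ ^ 2)) = 2 := by omega
  set base : G ⧸ H := ((1 : G) : G ⧸ H) with hbase
  have hbφ : φ • base = base := by
    show ((φ * 1 : G) : G ⧸ H) = ((1 : G) : G ⧸ H)
    rw [eq_comm, QuotientGroup.eq]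
    have h0 : (1 : G)⁻¹ * (φ * 1) = φ := by group
    rw [h0]
    exact mem_zpowers φ
  have hbt : (φ ^ 2) • base = base := by
    rw [pow_two, mul_smul, hbφ, hbφ]
  have huq := (Nat.card_eq_two_iff' (⟨base, hbt⟩ : MulAction.fixedBy (G ⧸ H) (φ ^ 2))).1 hfix
  have hfix2 : ∀ x : G ⧸ H, (φ ^ 2) • x = x → φ • x = x := by
    intro x hx
    by_cases hxb : x = base
    · rw [hxb]; exact hbφ
    · have hφx : (φ ^ 2) • (φ • x) = φ • x := by
        rw [smul_smul, show φ ^ 2 * φ = φ * φ ^ 2 by rw [pow_two, mul_assoc], mul_smul, hx]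
      have hne : φ • x ≠ base := by
        intro h
        apply hxb
        rw [← hbφ] at h
        exact smul_left_cancel _ h
      have := huq.unique (y₁ := (⟨x, hx⟩ : MulAction.fixedBy (G ⧸ H) (φ ^ 2)))
        (y₂ := (⟨φ • x, hφx⟩ : MulAction.fixedBy (G ⧸ H) (φ ^ 2)))
        (fun h => hxb (congrArg Subtype.val h))
        (fun h => hne (congrArg Subtype.val h))
      exact (congrArg Subtype.val this).symm
  set σ := MulAction.toPermHom G (G ⧸ H) φ with hσ
  have hσ4 : σ ^ 4 = 1 := by
    rw [hσ, ← map_pow, show φ ^ 4 = 1 by rw [← ho]; exact pow_orderOf_eq_one φ, map_one]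
  have hσ2 : ∀ x, σ (σ x) = x → σ x = x := by
    intro x hx
    apply hfix2
    rw [pow_two, mul_smul]
    exact hx
  have h8 := eight_dvd_card_support σ hσ4 hσ2 (sign_toPermHom_eq_one hG φ)
  have h9 := card_support_add_card_fixedBy (G := G) (X := G ⧸ H) φ
  have h10 : Nat.card (MulAction.fixedBy (G ⧸ H) φ) = 2 := by
    rw [← hfix]
    apply Nat.card_congr
    refine ⟨fun x => ⟨x.1, ?_⟩, fun x => ⟨x.1, hfix2 x.1 x.2⟩, fun x => rfl, fun x => rfl⟩
    show (φ ^ 2) • x.1 = x.1
    rw [pow_two, mul_smul]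
    have hx : φ • x.1 = x.1 := x.2
    rw [hx, hx]
  rw [h10, hXc] at h9
  rw [← hσ] at h9
  have h11 : σ.support.card = 628 := by omega
  rw [h11] at h8
  omega

end Cfsg.Agent.Lib.A7Ord
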