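import Mathlib
import Cfsg.Agent.Lib.SharpWrap

/-!
# A sharply triply transitive group on four points is not simple
-/

set_option autoImplicit false
set_option linter.unusedSectionVars false
set_option linter.style.haveILetI false

namespace Cfsg.Agent.Lib.ZassEven

open Cfsg.Agent.Lib.SharpWrap

universe u v

variable {G : Type u} {Ω : Type v} [Group G] [MulAction G Ω] [Finite Ω]

theorem false_of_four [IsSimpleGroup G] [FaithfulSMul G Ω] (hS : Sharp3 G Ω)
    (h4 : Nat.card Ω = 4) : False := by
  classical
  haveI : Fintype Ω := Fintype.ofFinite Ω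
  have hc4 : Fintype.card Ω = 4 := by rwa [← Nat.card_eq_fintype_card]
  -- four points
  obtain ⟨a⟩ : Nonempty Ω := (Nat.card_pos_iff.mp (by omega)).1
  obtain ⟨b, hb, -⟩ := exists_third (by omega) a a
  obtain ⟨c, hca, hcb⟩ := exists_third (by omega) a b
  obtain ⟨d, hda, hdb, hdc⟩ : ∃ d : Ω, d ≠ a ∧ d ≠ b ∧ d ≠ c := by
    by_contra hcon
    push Not at hcon
    have h1 : (Finset.univ : Finset Ω) ⊆ {a, b, c} := by
      intro x _
      by_cases hx : x = a
      · simp [hx]
      · by_cases hx2 : x = b
        · simp [hx2]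
        · simp [hcon x hx hx2]
    have h2 := Finset.card_le_card h1
    rw [Finset.card_univ, hc4] at h2
    have h5 : ({a, b, c} : Finset Ω).card ≤ 3 := Finset.card_le_three
    omega
  have hab : a ≠ b := Ne.symm hb
  have hall : ∀ x : Ω, x = a ∨ x = b ∨ x = c ∨ x = d := by
    by_contra hcon
    push Not at hcon
    obtain ⟨x, hxa, hxb, hxc, hxd⟩ := hcon
    have h1 : ({x, a, b, c, d} : Finset Ω) ⊆ Finset.univ := Finset.subset_univ _
    have h2 := Finset.card_le_card h1
    rw [Finset.card_univ, hc4] at h2
    have h3 : ({x, a, b, c, d} : Finset Ω).card = 5 := by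
      rw [Finset.card_insert_of_notMem, Finset.card_insert_of_notMem, Finset.card_insert_of_notMem,
        Finset.card_insert_of_notMem, Finset.card_singleton]
      · simp [hcb.symm, hca.symm] <;> tauto
      · simp [hdb.symm, hcb.symm] <;> tauto
      · simp [hab, hca.symm, hda.symm] <;> tauto
      · simp [hxa, hxb, hxc, hxd]
    omega
  -- the transposition
  obtain ⟨t, hta, htb, htc⟩ := hS.trans (a := a) (b := b) (c := c) (a' := b) (b' := a) (c' := c) hab
    (Ne.symm hca) (Ne.symm hcb) hb (Ne.symm hcb) (Ne.symm hca)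
  have htd : t • d = d := by
    rcases hall (t • d) with h | h | h | h
    · exfalso
      have : t • d = t • b := by rw [h, htb]
      exact hdb (smul_left_cancel _ this)
    · exfalso
      have : t • d = t • a := by rw [h, hta]
      exact hda (smul_left_cancel _ this)
    · exfalso
      have : t • d = t • c := by rw [h, htc]
      exact hdc (smul_left_cancel _ this)
    · exact h
  have htperm : MulAction.toPermHom G Ω t = Equiv.swap a b := by
    ext x
    rcases hall x with rfl | rfl | rfl | rfl
    · rw [Equiv.swap_apply_left]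
      exact hta
    · rw [Equiv.swap_apply_right]
      exact htb
    · rw [Equiv.swap_apply_of_ne_of_ne hca hcb]
      exact htc
    · rw [Equiv.swap_apply_of_ne_of_ne hda hdb]
      exact htd
  -- the sign
  let s : G →* ℤˣ := Equiv.Perm.sign.comp (MulAction.toPermHom G Ω)
  have hst : s t = -1 := by
    show Equiv.Perm.sign (MulAction.toPermHom G Ω t) = -1
    rw [htperm, Equiv.Perm.sign_swap hab]
  have hker : s.ker ≠ ⊤ := by
    intro h
    have h1 : t ∈ s.ker := by rw [h]; exact Subgroup.mem_top _
    rw [MonoidHom.mem_ker, hst] at h1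
    exact absurd h1 (by decide)
  have hinj : s.ker = ⊥ :=
    (IsSimpleGroup.eq_bot_or_eq_top_of_normal s.ker (MonoidHom.normal_ker s)).resolve_right hker
  -- but three elements fix `a` and `b` or not
  have hinj' : Function.Injective s := (MonoidHom.ker_eq_bot_iff s).mp hinj
  obtain ⟨g₁, hg₁⟩ : ∃ g : G, g • a = a ∧ g • b = b ∧ g • c = d :=
    hS.trans hab (Ne.symm hca) (Ne.symm hcb) hab (Ne.symm hda) (Ne.symm hdb)
  have hg₁1 : g₁ ≠ 1 := by
    rintro rfl
    have := hg₁.2.2
    rw [one_smul] at this
    exact hdc this.symm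
  have hs1 : s g₁ = -1 := by
    rcases Int.units_eq_one_or (s g₁) with h | h
    · exact absurd (hinj' (h.trans (map_one s).symm)) hg₁1
    · exact h
  -- `g₁ t` and so on
  have h5 : s (g₁ * t) = 1 := by
    rw [map_mul, hs1, hst]
    decide
  have h6 : g₁ * t = 1 := hinj' (h5.trans (map_one s).symm)
  have h7 : (g₁ * t) • c = d := by rw [mul_smul, htc]; exact hg₁.2.2
  rw [h6, one_smul] at h7
  exact hdc h7.symm

end Cfsg.Agent.Lib.ZassEven
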