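import Mathlib
import Cfsg.Agent.Lib.PSL2Sub

/-!
# Recognition of `PSL(2,p)` from its 2-transitive action on the Sylow `p`-subgroups

Möbius action of `SL(2, K)` on `OnePoint K`; the kernel; a criterion for a permutation group to be the image.
-/

set_option autoImplicit false
set_option linter.style.haveILetI false
set_option linter.unusedSectionVars false

namespace Cfsg.Agent.Lib.PSL2Rec

open Matrix OnePoint

section Moebius

variable {K : Type*} [Field K] [DecidableEq K]

/-- The Möbius action of `SL(2,K)`. -/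
noncomputable def rho : SpecialLinearGroup (Fin 2) K →* Equiv.Perm (OnePoint K) :=
  (MulAction.toPermHom (GL (Fin 2) K) (OnePoint K)).comp SpecialLinearGroup.toGL

theorem rho_infty (g : SpecialLinearGroup (Fin 2) K) :
    rho g (∞ : OnePoint K) = if (g : Matrix (Fin 2) (Fin 2) K) 1 0 = 0 then ∞
      else (((g : Matrix (Fin 2) (Fin 2) K) 0 0 / (g : Matrix (Fin 2) (Fin 2) K) 1 0 : K) : OnePoint K) :=
  smul_infty_eq_ite (SpecialLinearGroup.toGL g)

theorem rho_coe (g : SpecialLinearGroup (Fin 2) K) (k : K) :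
    rho g (k : OnePoint K) = if (g : Matrix (Fin 2) (Fin 2) K) 1 0 * k + (g : Matrix (Fin 2) (Fin 2) K) 1 1 = 0 then ∞
      else ((((g : Matrix (Fin 2) (Fin 2) K) 0 0 * k + (g : Matrix (Fin 2) (Fin 2) K) 0 1) /
        ((g : Matrix (Fin 2) (Fin 2) K) 1 0 * k + (g : Matrix (Fin 2) (Fin 2) K) 1 1) : K) : OnePoint K) :=
  smul_some_eq_ite (g := SpecialLinearGroup.toGL g) (k := k)

/-- Upper unitriangular. -/
def matT (b : K) : SpecialLinearGroup (Fin 2) K :=
  ⟨!![1, b; 0, 1], by simp [det_fin_two]⟩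

/-- Diagonal. -/
def matD (a : K) (ha : a ≠ 0) : SpecialLinearGroup (Fin 2) K :=
  ⟨!![a, 0; 0, a⁻¹], by simp [det_fin_two, ha]⟩

/-- The Weyl element. -/
def matS : SpecialLinearGroup (Fin 2) K :=
  ⟨!![0, -1; 1, 0], by simp [det_fin_two]⟩

theorem rho_T_infty (b : K) : rho (matT b) (∞ : OnePoint K) = ∞ := by
  rw [rho_infty]; simp [matT]

theorem rho_T_coe (b z : K) : rho (matT b) (z : OnePoint K) = ((z + b : K) : OnePoint K) := by
  rw [rho_coe]; simp [matT]

theorem rho_D_infty (a : K) (ha : a ≠ 0) : rho (matD a ha) (∞ : OnePoint K) = ∞ := by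
  rw [rho_infty]; simp [matD]

theorem rho_D_coe (a : K) (ha : a ≠ 0) (z : K) :
    rho (matD a ha) (z : OnePoint K) = ((a ^ 2 * z : K) : OnePoint K) := by
  rw [rho_coe]
  simp [matD, ha]
  field_simp

theorem rho_S_infty : rho (matS) (∞ : OnePoint K) = ((0 : K) : OnePoint K) := by
  rw [rho_infty]; simp [matS]

theorem rho_S_zero : rho (matS) ((0 : K) : OnePoint K) = ∞ := by
  rw [rho_coe]; simp [matS]

theorem rho_S_coe (z : K) (hz : z ≠ 0) : rho (matS) (z : OnePoint K) = ((-z⁻¹ : K) : OnePoint K) := by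
  rw [rho_coe]; simp [matS, hz, div_eq_mul_inv]

theorem center_eq_ker : Subgroup.center (SpecialLinearGroup (Fin 2) K) = (rho (K := K)).ker := by
  ext g
  rw [Matrix.SpecialLinearGroup.mem_center_iff, MonoidHom.mem_ker]
  constructor
  · rintro ⟨r, hr, hg⟩
    have hr0 : r ≠ 0 := by
      rintro rfl
      simp at hr
    have h00 : (g : Matrix (Fin 2) (Fin 2) K) 0 0 = r := by rw [← hg]; simp
    have h11 : (g : Matrix (Fin 2) (Fin 2) K) 1 1 = r := by rw [← hg]; simp
    have h01 : (g : Matrix (Fin 2) (Fin 2) K) 0 1 = 0 := by rw [← hg]; simp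
    have h10 : (g : Matrix (Fin 2) (Fin 2) K) 1 0 = 0 := by rw [← hg]; simp
    ext w
    induction w using OnePoint.rec with
    | infty => rw [rho_infty]; simp [h10]
    | coe z =>
      rw [rho_coe, h00, h11, h01, h10]
      simp [hr0]
  · intro h
    have h1 := congrArg (fun σ : Equiv.Perm (OnePoint K) => σ (∞ : OnePoint K)) h
    have h2 := congrArg (fun σ : Equiv.Perm (OnePoint K) => σ ((0 : K) : OnePoint K)) h
    have h3 := congrArg (fun σ : Equiv.Perm (OnePoint K) => σ ((1 : K) : OnePoint K)) h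
    simp only [Equiv.Perm.coe_one, id_eq] at h1 h2 h3
    rw [rho_infty] at h1
    have h10 : (g : Matrix (Fin 2) (Fin 2) K) 1 0 = 0 := by
      by_contra hne
      rw [if_neg hne] at h1
      exact OnePoint.coe_ne_infty _ h1
    rw [rho_coe, h10] at h2 h3
    simp only [zero_mul, zero_add] at h2 h3
    have hdet := g.2
    rw [det_fin_two, h10] at hdet
    simp only [mul_zero, sub_zero] at hdet
    have h11 : (g : Matrix (Fin 2) (Fin 2) K) 1 1 ≠ 0 := by
      intro h0
      rw [h0] at hdet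
      simp at hdet
    rw [if_neg h11] at h2 h3
    have h2' := OnePoint.coe_eq_coe.mp h2
    have h3' := OnePoint.coe_eq_coe.mp h3
    simp only [mul_zero, zero_add] at h2'
    have h01 : (g : Matrix (Fin 2) (Fin 2) K) 0 1 = 0 := by
      rcases div_eq_zero_iff.mp h2' with h | h
      · exact h
      · exact absurd h h11
    rw [h01] at h3'
    simp only [mul_one, add_zero] at h3'
    have h00 : (g : Matrix (Fin 2) (Fin 2) K) 0 0 = (g : Matrix (Fin 2) (Fin 2) K) 1 1 :=
      (div_eq_one_iff_eq h11).mp h3'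
    refine ⟨(g : Matrix (Fin 2) (Fin 2) K) 1 1, ?_, ?_⟩
    · simp only [Fintype.card_fin]
      rw [pow_two]
      rw [h00] at hdet
      exact hdet
    · ext i j
      fin_cases i <;> fin_cases j <;> simp [h00, h01, h10]

/-- `PSL(2,K)` is isomorphic to the image of the Möbius action. -/
noncomputable def pslEquivRange :
    ProjectiveSpecialLinearGroup (Fin 2) K ≃* (rho (K := K)).range :=
  (QuotientGroup.quotientMulEquivOfEq center_eq_ker).trans (QuotientGroup.quotientKerEquivRange rho)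

/-- A subgroup that is transitive and contains a point stabilizer is everything. -/
theorem eq_of_transitive {Ω : Type*} {W H : Subgroup (Equiv.Perm Ω)} (hWH : W ≤ H) (o : Ω)
    (htr : ∀ w : Ω, ∃ g ∈ W, g o = w) (hstab : ∀ h ∈ H, h o = o → h ∈ W) : W = H := by
  apply le_antisymm hWH
  intro h hh
  obtain ⟨g, hg, hgo⟩ := htr (h o)
  have h1 : g⁻¹ * h ∈ W := by
    apply hstab _ (H.mul_mem (H.inv_mem (hWH hg)) hh)
    rw [Equiv.Perm.mul_apply, Equiv.Perm.inv_eq_iff_eq, hgo]
  have h2 : h = g * (g⁻¹ * h) := by group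
  rw [h2]
  exact W.mul_mem hg h1

/-- Criterion for a permutation group to be the image of `SL(2,K)`. -/
theorem eq_range_rho (H : Subgroup (Equiv.Perm (OnePoint K)))
    (hT : ∀ b : K, rho (matT b) ∈ H) (hD : ∀ (a : K) (ha : a ≠ 0), rho (matD a ha) ∈ H) (hS : rho (matS (K := K)) ∈ H)
    (hb : ∀ h ∈ H, h (∞ : OnePoint K) = ∞ → h ∈ (rho (K := K)).range) : H = (rho (K := K)).range := by
  have htr : ∀ w : OnePoint K, ∃ g ∈ H ⊓ (rho (K := K)).range, g (∞ : OnePoint K) = w := by
    intro w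
    induction w using OnePoint.rec with
    | infty => exact ⟨1, Subgroup.one_mem _, rfl⟩
    | coe z =>
      refine ⟨rho (matT z) * rho matS, ⟨H.mul_mem (hT z) hS, ⟨_, map_mul _ _ _⟩⟩, ?_⟩
      rw [Equiv.Perm.mul_apply, rho_S_infty, rho_T_coe, zero_add]
  have h1 : H ⊓ (rho (K := K)).range = H := by
    apply eq_of_transitive inf_le_left ∞ htr
    intro h hh hi
    exact ⟨hh, hb h hh hi⟩
  have h2 : H ⊓ (rho (K := K)).range = (rho (K := K)).range := by
    apply eq_of_transitive inf_le_right ∞ htr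
    rintro _ ⟨g, rfl⟩ hi
    refine ⟨?_, ⟨g, rfl⟩⟩
    rw [rho_infty] at hi
    have h10 : (g : Matrix (Fin 2) (Fin 2) K) 1 0 = 0 := by
      by_contra hne
      rw [if_neg hne] at hi
      exact OnePoint.coe_ne_infty _ hi
    have hdet := g.2
    rw [det_fin_two, h10] at hdet
    simp only [mul_zero, sub_zero] at hdet
    have h00 : (g : Matrix (Fin 2) (Fin 2) K) 0 0 ≠ 0 := by
      intro h0
      rw [h0] at hdet
      simp at hdet
    have h11 : (g : Matrix (Fin 2) (Fin 2) K) 1 1 = ((g : Matrix (Fin 2) (Fin 2) K) 0 0)⁻¹ :=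
      eq_inv_of_mul_eq_one_right hdet
    have hgeq : g = matT ((g : Matrix (Fin 2) (Fin 2) K) 0 1 * (g : Matrix (Fin 2) (Fin 2) K) 0 0) * matD _ h00 := by
      apply Subtype.ext
      show (g : Matrix (Fin 2) (Fin 2) K) = !![1, (g : Matrix (Fin 2) (Fin 2) K) 0 1 * (g : Matrix (Fin 2) (Fin 2) K) 0 0; 0, 1] *
        !![(g : Matrix (Fin 2) (Fin 2) K) 0 0, 0; 0, ((g : Matrix (Fin 2) (Fin 2) K) 0 0)⁻¹]
      ext i j
      fin_cases i <;> fin_cases j <;> simp [h10, h11, Matrix.mul_apply, Fin.sum_univ_two, h00]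
    rw [hgeq, map_mul]
    exact H.mul_mem (hT _) (hD _ _)
  exact h1.symm.trans h2

end Moebius

end Cfsg.Agent.Lib.PSL2Rec
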