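import Mathlib
import Cfsg.Agent.Lib.PSL2Rec
import Cfsg.Agent.Lib.SmallGroups3

/-!
# Labelling the Sylow `p`-subgroups by the projective line
-/

set_option autoImplicit false
set_option linter.style.haveILetI false
set_option linter.unusedSectionVars false

namespace Cfsg.Agent.Lib.PSL2Rec

open OnePoint Cfsg.Agent.Lib.SmallGroups2 Cfsg.Agent.Lib.SmallGroups3

variable {G : Type*} [Group G] [Finite G] {p : ℕ} [hp : Fact p.Prime]

/-- Multiplications, as permutations of the projective line. -/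
def mu (K : Type*) [Field K] : Kˣ →* Equiv.Perm (OnePoint K) where
  toFun u := Equiv.optionCongr (Units.mulLeft u)
  map_one' := by
    apply Equiv.ext
    intro w
    cases w with
    | none => rfl
    | some z =>
      show (Option.some ((1 : Kˣ) * z) : Option K) = Option.some z
      simp
  map_mul' a b := by
    apply Equiv.ext
    intro w
    cases w with
    | none => rfl
    | some z =>
      show (Option.some ((a * b : Kˣ) * z) : Option K) = Option.some (a * (b * z))
      rw [Units.val_mul, mul_assoc]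

theorem mu_infty {K : Type*} [Field K] (u : Kˣ) : mu K u (∞ : OnePoint K) = ∞ := rfl

theorem mu_coe {K : Type*} [Field K] (u : Kˣ) (z : K) : mu K u (z : OnePoint K) = ((u * z : K) : OnePoint K) := rfl

/-- Labelling data. -/
structure Lbl (G : Type*) [Group G] (p : ℕ) [Fact p.Prime] where
  P : Sylow p G
  x : G
  z : Sylow p G
  hxP : x ∈ (P : Subgroup G)
  hxo : orderOf x = p
  hz : z ≠ P
  hcard : ∀ Q : Sylow p G, Nat.card (Q : Subgroup G) = p
  hn : Nat.card (Sylow p G) = p + 1

namespace Lbl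

variable (L : Lbl G p)

/-- Labels of the points other than `P`. -/
def lam (i : ZMod p) : Sylow p G := L.x ^ i.val • L.z

theorem x_ne_one : L.x ≠ 1 := by
  intro h
  have := L.hxo
  rw [h, orderOf_one] at this
  exact hp.out.one_lt.ne this

/-- An element of order `p` fixes a unique point. -/
theorem eq_of_smul_eq (L : Lbl G p) {y : G} {Q R : Sylow p G} (hy : y ∈ (Q : Subgroup G)) (hy1 : y ≠ 1) (h : y • R = R) : R = Q := by
  have ho : orderOf y = p := orderOf_eq_of_mem_of_ne_one hp.out (L.hcard Q) hy hy1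
  have hn : y ∈ Subgroup.normalizer ((R : Subgroup G) : Set G) := Sylow.smul_eq_iff_mem_normalizer.mp h
  have hyR := mem_of_orderOf_of_mem_normalizer R ho hn
  exact sylow_eq_of_mem_of_ne_one (L.hcard R) (L.hcard Q) hyR hy hy1

theorem smul_P_of_mem {y : G} (hy : y ∈ (L.P : Subgroup G)) : y • L.P = L.P :=
  Sylow.smul_eq_iff_mem_normalizer.mpr (Subgroup.le_normalizer hy)

theorem pow_smul_P (n : ℕ) : L.x ^ n • L.P = L.P :=
  L.smul_P_of_mem (Subgroup.pow_mem _ L.hxP n)

theorem pow_smul_z (n : ℕ) : L.x ^ n • L.z = L.lam (n : ZMod p) := by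
  unfold lam
  have h : L.x ^ n = L.x ^ (n % p) := by
    rw [← pow_mod_orderOf, L.hxo]
  rw [ZMod.val_natCast, h]

theorem lam_ne_P (i : ZMod p) : L.lam i ≠ L.P := by
  intro h
  have h1 := congrArg (fun Q : Sylow p G => (L.x ^ i.val)⁻¹ • Q) h
  simp only [lam, inv_smul_smul] at h1
  apply L.hz
  rw [h1, ← inv_pow, inv_pow]
  exact inv_smul_eq_iff.mpr (L.pow_smul_P _).symm

theorem lam_inj : Function.Injective L.lam := by
  have key : ∀ i j : ZMod p, i.val ≤ j.val → L.lam i = L.lam j → i = j := by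
    intro i j hij h
    by_contra hne
    have hlt : i.val < j.val := lt_of_le_of_ne hij (fun h => hne (ZMod.val_injective p h))
    have h1 : L.x ^ (j.val - i.val) • L.z = L.z := by
      have h2 : L.x ^ j.val = L.x ^ i.val * L.x ^ (j.val - i.val) := by
        rw [← pow_add]; congr 1; omega
      have h3 : L.x ^ i.val • L.z = L.x ^ i.val • (L.x ^ (j.val - i.val) • L.z) := by
        rw [smul_smul, ← h2]
        exact h
      exact (smul_left_cancel _ h3).symm
    have hy : L.x ^ (j.val - i.val) ≠ 1 := by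
      apply pow_ne_one_of_lt_orderOf (by omega)
      rw [L.hxo]
      have := ZMod.val_lt j
      omega
    exact L.hz (L.eq_of_smul_eq (Subgroup.pow_mem _ L.hxP _) hy h1)
  intro i j h
  rcases le_total i.val j.val with hij | hij
  · exact key i j hij h
  · exact (key j i hij h.symm).symm

/-- The labelling map. -/
def e (w : OnePoint (ZMod p)) : Sylow p G := w.elim L.P L.lam

@[simp] theorem e_infty : L.e ∞ = L.P := rfl

@[simp] theorem e_coe (i : ZMod p) : L.e (i : OnePoint (ZMod p)) = L.lam i := rfl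

theorem e_bij : Function.Bijective L.e := by
  have hinj : Function.Injective L.e := by
    intro a b h
    induction a using OnePoint.rec with
    | infty =>
      induction b using OnePoint.rec with
      | infty => rfl
      | coe j => exact absurd h.symm (L.lam_ne_P j)
    | coe i =>
      induction b using OnePoint.rec with
      | infty => exact absurd h (L.lam_ne_P i)
      | coe j => rw [L.lam_inj h]
  have hc : Nat.card (OnePoint (ZMod p)) = Nat.card (Sylow p G) := by
    have : Nat.card (OnePoint (ZMod p)) = Nat.card (Option (ZMod p)) := rfl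
    rw [this, Finite.card_option, Nat.card_zmod, L.hn]
  exact (Nat.bijective_iff_injective_and_card _).mpr ⟨hinj, hc⟩

/-- The labelling bijection. -/
noncomputable def eq : OnePoint (ZMod p) ≃ Sylow p G := Equiv.ofBijective L.e L.e_bij

/-- The action transported to the projective line. -/
noncomputable def phi : G →* Equiv.Perm (OnePoint (ZMod p)) :=
  (Equiv.permCongrHom L.eq.symm).toMonoidHom.comp (MulAction.toPermHom G (Sylow p G))

theorem phi_apply (g : G) (w : OnePoint (ZMod p)) : L.phi g w = L.eq.symm (g • L.e w) := rfl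

theorem phi_eq_iff (g : G) (w w' : OnePoint (ZMod p)) : L.phi g w = w' ↔ g • L.e w = L.e w' := by
  rw [phi_apply, Equiv.symm_apply_eq]
  rfl

theorem phi_injective [IsSimpleGroup G] (hna : ¬ IsMulCommutative G) : Function.Injective L.phi := by
  have hpd : p ∣ Nat.card G := by
    have := Subgroup.card_subgroup_dvd_card (L.P : Subgroup G)
    rwa [L.hcard] at this
  have h1 : Function.Injective (MulAction.toPermHom G (Sylow p G)) := by
    rw [injective_iff_map_eq_one]
    intro g hg
    have hker : (MulAction.toPermHom G (Sylow p G)).ker = ⊥ := by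
      rcases (inferInstance : (MulAction.toPermHom G (Sylow p G)).ker.Normal).eq_bot_or_eq_top with h | h
      · exact h
      · exfalso
        apply normalizer_sylow_ne_top hna hpd L.P
        rw [eq_top_iff]
        intro y _
        have hy : y ∈ (MulAction.toPermHom G (Sylow p G)).ker := by rw [h]; trivial
        apply Sylow.smul_eq_iff_mem_normalizer.mp
        have := congrArg (fun σ : Equiv.Perm (Sylow p G) => σ L.P) (MonoidHom.mem_ker.mp hy)
        exact this
    have : g ∈ (MulAction.toPermHom G (Sylow p G)).ker := hg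
    rw [hker] at this
    exact Subgroup.mem_bot.mp this
  intro a b hab
  exact h1 ((Equiv.permCongrHom L.eq.symm).injective hab)

theorem phi_pow_infty (n : ℕ) : L.phi (L.x ^ n) ∞ = ∞ := by
  rw [phi_eq_iff]
  exact L.pow_smul_P n

theorem phi_pow_coe (n : ℕ) (i : ZMod p) : L.phi (L.x ^ n) (i : OnePoint (ZMod p)) = ((i + n : ZMod p) : OnePoint (ZMod p)) := by
  rw [phi_eq_iff]
  simp only [e_coe, lam]
  rw [smul_smul, ← pow_add, pow_smul_z]
  congr 1
  push_cast
  rw [ZMod.natCast_zmod_val, add_comm]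

/-- Translations come from `P`. -/
theorem phi_tau (b : ZMod p) : L.phi (L.x ^ b.val) = rho (matT b) := by
  apply Equiv.ext
  intro w
  induction w using OnePoint.rec with
  | infty => rw [phi_pow_infty, rho_T_infty]
  | coe i => rw [phi_pow_coe, rho_T_coe, ZMod.natCast_zmod_val]

/-- Elements fixing `∞` are affine. -/
theorem affine_of_fix (g : G) (hg : L.phi g ∞ = ∞) :
    ∃ (b : ZMod p) (u : (ZMod p)ˣ), L.phi g = rho (matT b) * mu (ZMod p) u := by
  have hgP : g • L.P = L.P := (L.phi_eq_iff g ∞ ∞).mp hg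
  have hgn : g ∈ Subgroup.normalizer ((L.P : Subgroup G) : Set G) := Sylow.smul_eq_iff_mem_normalizer.mp hgP
  have hconj : g * L.x * g⁻¹ ∈ (L.P : Subgroup G) := (Subgroup.mem_normalizer_iff.mp hgn L.x).mp L.hxP
  have hne : g * L.x * g⁻¹ ≠ 1 := by
    intro h
    apply L.x_ne_one
    have : g * L.x = g := by
      calc g * L.x = g * L.x * g⁻¹ * g := by group
        _ = g := by rw [h, one_mul]
    simpa using this
  have hzp : Subgroup.zpowers L.x = (L.P : Subgroup G) :=
    zpowers_eq_of_mem_of_ne_one hp.out (L.hcard L.P) L.hxP L.x_ne_one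
  rw [← hzp] at hconj
  have hpow : ∃ n : ℕ, L.x ^ n = g * L.x * g⁻¹ := by
    have hfin : IsOfFinOrder L.x := isOfFinOrder_of_finite _
    exact (hfin.mem_powers_iff_mem_zpowers).mpr hconj
  obtain ⟨n, hn⟩ := hpow
  -- the image of the base point
  obtain ⟨w, hw⟩ := L.e_bij.2 (g • L.z)
  have hb : ∃ b : ZMod p, L.e (b : OnePoint (ZMod p)) = g • L.z := by
    induction w using OnePoint.rec with
    | infty =>
      exfalso
      rw [e_infty] at hw
      apply L.hz
      have h2 : g • L.z = g • L.P := by rw [← hw, hgP]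
      exact smul_left_cancel _ h2
    | coe b => exact ⟨b, hw⟩
  obtain ⟨b, hb⟩ := hb
  have hu0 : (n : ZMod p) ≠ 0 := by
    intro h0
    rw [ZMod.natCast_eq_zero_iff] at h0
    apply hne
    rw [← hn, ← L.hxo] at *
    exact orderOf_dvd_iff_pow_eq_one.mp h0
  let u : (ZMod p)ˣ := Units.mk0 _ hu0
  refine ⟨b, u, ?_⟩
  apply Equiv.ext
  intro w
  induction w using OnePoint.rec with
  | infty => rw [hg, Equiv.Perm.mul_apply, mu_infty, rho_T_infty]
  | coe i =>
    rw [Equiv.Perm.mul_apply, mu_coe, rho_T_coe, phi_eq_iff]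
    simp only [e_coe]
    have hconjpow : g * L.x ^ i.val * g⁻¹ = L.x ^ (n * i.val) := by
      rw [pow_mul, hn, conj_pow]
    have h1 : g • L.lam i = (g * L.x ^ i.val * g⁻¹) • (g • L.z) := by
      simp only [lam, smul_smul]
      congr 1
      group
    rw [h1, hconjpow, ← hb, e_coe]
    simp only [lam]
    rw [smul_smul, ← pow_add, pow_smul_z]
    congr 1
    push_cast
    rw [ZMod.natCast_zmod_val, ZMod.natCast_zmod_val]
    rfl

/-- The multipliers realized in the group. -/
noncomputable def I : Subgroup (ZMod p)ˣ := L.phi.range.comap (mu (ZMod p))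

theorem mem_I_iff (u : (ZMod p)ˣ) : u ∈ L.I ↔ ∃ g, L.phi g = mu (ZMod p) u := Iff.rfl

theorem tau_mem (b : ZMod p) : rho (matT b) ∈ L.phi.range := ⟨_, L.phi_tau b⟩

theorem affine_mem (g : G) (hg : L.phi g ∞ = ∞) :
    ∃ (b : ZMod p) (u : (ZMod p)ˣ), u ∈ L.I ∧ L.phi g = rho (matT b) * mu (ZMod p) u := by
  obtain ⟨b, u, h⟩ := L.affine_of_fix g hg
  refine ⟨b, u, ?_, h⟩
  have h1 : mu (ZMod p) u = (rho (matT b))⁻¹ * L.phi g := by rw [h]; group
  show mu (ZMod p) u ∈ L.phi.range
  rw [h1]
  exact Subgroup.mul_mem _ (Subgroup.inv_mem _ (L.tau_mem b)) ⟨g, rfl⟩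

theorem affine_rigid {b b' : ZMod p} {u u' : (ZMod p)ˣ}
    (h : rho (matT b) * mu (ZMod p) u = rho (matT b') * mu (ZMod p) u') : b = b' ∧ u = u' := by
  have h0 := congrArg (fun σ : Equiv.Perm (OnePoint (ZMod p)) => σ ((0 : ZMod p) : OnePoint (ZMod p))) h
  have h1 := congrArg (fun σ : Equiv.Perm (OnePoint (ZMod p)) => σ ((1 : ZMod p) : OnePoint (ZMod p))) h
  simp only [Equiv.Perm.mul_apply, mu_coe, rho_T_coe, OnePoint.coe_eq_coe, mul_zero, zero_add, mul_one] at h0 h1
  subst h0
  refine ⟨rfl, ?_⟩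
  apply Units.ext
  exact add_right_cancel h1

theorem card_normalizer [IsSimpleGroup G] (hna : ¬ IsMulCommutative G) :
    Nat.card (Subgroup.normalizer ((L.P : Subgroup G) : Set G)) = p * Nat.card L.I := by
  classical
  have hfix : ∀ g : Subgroup.normalizer ((L.P : Subgroup G) : Set G), L.phi (g : G) ∞ = ∞ := by
    intro g
    rw [phi_eq_iff]
    exact Sylow.smul_eq_iff_mem_normalizer.mpr g.2
  have hch := fun g : Subgroup.normalizer ((L.P : Subgroup G) : Set G) => L.affine_mem (g : G) (hfix g)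
  choose b u hu hg using hch
  let F : Subgroup.normalizer ((L.P : Subgroup G) : Set G) → ZMod p × L.I := fun g => (b g, ⟨u g, hu g⟩)
  have hF : Function.Bijective F := by
    constructor
    · intro g g' h
      have h1 : b g = b g' := congrArg Prod.fst h
      have h2 : u g = u g' := congrArg (fun w => ((Prod.snd w : L.I) : (ZMod p)ˣ)) h
      apply Subtype.ext
      apply L.phi_injective hna
      rw [hg g, hg g', h1, h2]
    · rintro ⟨c, ⟨v, hv⟩⟩
      obtain ⟨g₁, hg₁⟩ := hv
      have hgg : L.phi (L.x ^ c.val * g₁) = rho (matT c) * mu (ZMod p) v := by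
        rw [map_mul, L.phi_tau, hg₁]
      have hn : L.x ^ c.val * g₁ ∈ Subgroup.normalizer ((L.P : Subgroup G) : Set G) := by
        apply Sylow.smul_eq_iff_mem_normalizer.mp
        apply (L.phi_eq_iff _ ∞ ∞).mp
        rw [hgg, Equiv.Perm.mul_apply, mu_infty, rho_T_infty]
      refine ⟨⟨_, hn⟩, ?_⟩
      have h3 := hg ⟨_, hn⟩
      rw [hgg] at h3
      obtain ⟨e1, e2⟩ := affine_rigid h3
      show (b ⟨_, hn⟩, (⟨u ⟨_, hn⟩, hu ⟨_, hn⟩⟩ : L.I)) = (c, ⟨v, _⟩)
      rw [Prod.mk.injEq]
      exact ⟨e1.symm, Subtype.ext e2.symm⟩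
  rw [Nat.card_congr (Equiv.ofBijective F hF), Nat.card_prod, Nat.card_zmod]

theorem two_mul_card_I [IsSimpleGroup G] (hna : ¬ IsMulCommutative G) (hG : 2 * Nat.card G = p * (p ^ 2 - 1)) :
    2 * Nat.card L.I = p - 1 := by
  have h1 := card_normalizer_mul_card_sylow L.P
  rw [L.card_normalizer hna, L.hn] at h1
  obtain ⟨q, rfl⟩ : ∃ q, p = q + 1 := ⟨p - 1, (Nat.sub_add_cancel hp.out.one_le).symm⟩
  have h2 : (q + 1) ^ 2 - 1 = q * (q + 1 + 1) := by
    have : (q + 1) ^ 2 = q * (q + 1 + 1) + 1 := by ring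
    omega
  rw [h2, ← h1] at hG
  have hpos : 0 < (q + 1) * (q + 1 + 1) := by positivity
  simp only [Nat.add_sub_cancel]
  apply Nat.eq_of_mul_eq_mul_left hpos
  calc (q + 1) * (q + 1 + 1) * (2 * Nat.card L.I) = 2 * ((q + 1) * Nat.card L.I * (q + 1 + 1)) := by ring
    _ = (q + 1) * (q * (q + 1 + 1)) := hG
    _ = (q + 1) * (q + 1 + 1) * q := by ring

theorem index_I [IsSimpleGroup G] (hna : ¬ IsMulCommutative G) (hG : 2 * Nat.card G = p * (p ^ 2 - 1)) :
    L.I.index = 2 := by
  have h1 := L.two_mul_card_I hna hG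
  have h2 := Subgroup.card_mul_index L.I
  rw [Nat.card_eq_fintype_card (α := (ZMod p)ˣ), ZMod.card_units] at h2
  have hpos : 0 < Nat.card L.I := Nat.card_pos
  rw [← h1, mul_comm 2] at h2
  exact Nat.eq_of_mul_eq_mul_left hpos h2

theorem sq_mem_I [IsSimpleGroup G] (hna : ¬ IsMulCommutative G) (hG : 2 * Nat.card G = p * (p ^ 2 - 1)) (a : (ZMod p)ˣ) :
    a ^ 2 ∈ L.I :=
  Subgroup.sq_mem_of_index_two (L.index_I hna hG) a

theorem pow_half_of_mem_I [IsSimpleGroup G] (hna : ¬ IsMulCommutative G) (hG : 2 * Nat.card G = p * (p ^ 2 - 1)) (hp2 : p ≠ 2)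
    {u : (ZMod p)ˣ} (hu : u ∈ L.I) : u ^ (p / 2) = 1 := by
  have h1 := L.two_mul_card_I hna hG
  have hodd : p % 2 = 1 := by
    rcases hp.out.eq_two_or_odd with h | h
    · exact absurd h hp2
    · exact h
  have h2 : Nat.card L.I = p / 2 := by omega
  have h3 := pow_card_eq_one' (G := L.I) (x := ⟨u, hu⟩)
  rw [h2] at h3
  simpa using congrArg Subtype.val h3

theorem mem_I_sq [IsSimpleGroup G] (hna : ¬ IsMulCommutative G) (hG : 2 * Nat.card G = p * (p ^ 2 - 1)) (hp2 : p ≠ 2)
    {u : (ZMod p)ˣ} (hu : u ∈ L.I) : ∃ y : (ZMod p)ˣ, y ^ 2 = u :=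
  (ZMod.euler_criterion_units p u).mpr (L.pow_half_of_mem_I hna hG hp2 hu)

theorem rho_D_eq_mu (a : (ZMod p)ˣ) : rho (matD (a : ZMod p) a.ne_zero) = mu (ZMod p) (a ^ 2) := by
  apply Equiv.ext
  intro w
  induction w using OnePoint.rec with
  | infty => rw [rho_D_infty, mu_infty]
  | coe z => rw [rho_D_coe, mu_coe]; simp

theorem stab_mem_range [IsSimpleGroup G] (hna : ¬ IsMulCommutative G) (hG : 2 * Nat.card G = p * (p ^ 2 - 1)) (hp2 : p ≠ 2)
    (h : Equiv.Perm (OnePoint (ZMod p))) (hh : h ∈ L.phi.range) (hi : h ∞ = ∞) : h ∈ (rho (K := ZMod p)).range := by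
  obtain ⟨g, rfl⟩ := hh
  obtain ⟨b, u, hu, hg⟩ := L.affine_mem g hi
  obtain ⟨y, rfl⟩ := L.mem_I_sq hna hG hp2 hu
  rw [hg, ← rho_D_eq_mu]
  exact Subgroup.mul_mem _ ⟨_, rfl⟩ ⟨_, rfl⟩

/-- If the Weyl element occurs, then the image of `G` is the image of `SL(2,p)`. -/
theorem range_eq [IsSimpleGroup G] (hna : ¬ IsMulCommutative G) (hG : 2 * Nat.card G = p * (p ^ 2 - 1)) (hp2 : p ≠ 2)
    (hS : rho (matS (K := ZMod p)) ∈ L.phi.range) : L.phi.range = (rho (K := ZMod p)).range := by
  apply eq_range_rho _ L.tau_mem _ hS (L.stab_mem_range hna hG hp2)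
  intro a ha
  have := L.sq_mem_I hna hG (Units.mk0 a ha)
  have h2 : rho (matD a ha) = mu (ZMod p) ((Units.mk0 a ha) ^ 2) := rho_D_eq_mu (Units.mk0 a ha)
  rw [h2]
  exact this

/-- The abstract isomorphism. -/
theorem nonempty_equiv [IsSimpleGroup G] (hna : ¬ IsMulCommutative G) (hG : 2 * Nat.card G = p * (p ^ 2 - 1)) (hp2 : p ≠ 2)
    (hS : rho (matS (K := ZMod p)) ∈ L.phi.range) :
    Nonempty (G ≃* Matrix.ProjectiveSpecialLinearGroup (Fin 2) (ZMod p)) := by
  have h := L.range_eq hna hG hp2 hS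
  exact ⟨(MonoidHom.ofInjective (L.phi_injective hna)).trans
    ((MulEquiv.subgroupCongr h).trans pslEquivRange.symm)⟩

end Lbl

end Cfsg.Agent.Lib.PSL2Rec
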