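import Mathlib
import Cfsg.Agent.Lib.PSL2Rec2

/-!
# Recognition of `PSL(2,p)`: the Weyl element

A finite check determines the element swapping `0` and `∞`.
-/

set_option autoImplicit false
set_option linter.style.haveILetI false
set_option linter.unusedSectionVars false

namespace Cfsg.Agent.Lib.PSL2Rec

open OnePoint Cfsg.Agent.Lib.SmallGroups2 Cfsg.Agent.Lib

variable {p : ℕ}

/-- The candidate function. -/
def tbl (dl : ZMod p → Bool × ℕ) (k' a b i : ZMod p) : ZMod p :=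
  (if (dl i).1 then b else a) * k' ^ (dl i).2

/-- The finite check. -/
def Chk (p : ℕ) (dl : ZMod p → Bool × ℕ) (excl : ZMod p) : Prop :=
  ∀ k' a b m : ZMod p, k' ≠ 0 → k' ≠ excl → k' ^ (p / 2) = 1 → a ≠ 0 → b ≠ 0 → m ^ (p / 2) = 1 →
    (∀ z : ZMod p, z ≠ 0 → z ≠ -1 →
      tbl dl k' a b (z + 1) = a + tbl dl k' a b (m * (tbl dl k' a b z - tbl dl k' a b (-1)))) →
    ∃ c : ZMod p, c ^ (p / 2) = 1 ∧ ∀ i : ZMod p, i ≠ 0 → tbl dl k' a b i * i = -c

variable [hp : Fact p.Prime]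

theorem rho_T_zero : rho (matT (0 : ZMod p)) = 1 := by
  apply Equiv.ext
  intro w
  induction w using OnePoint.rec with
  | infty => rw [rho_T_infty]; rfl
  | coe z => rw [rho_T_coe, add_zero]; rfl

theorem weyl_mem (hp2 : p ≠ 2) (H : Subgroup (Equiv.Perm (OnePoint (ZMod p))))
    (hτ : ∀ b : ZMod p, rho (matT b) ∈ H)
    (haff : ∀ h ∈ H, h (∞ : OnePoint (ZMod p)) = ∞ →
      ∃ (b : ZMod p) (u : (ZMod p)ˣ), mu (ZMod p) u ∈ H ∧ h = rho (matT b) * mu (ZMod p) u)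
    (hpow : ∀ u : (ZMod p)ˣ, mu (ZMod p) u ∈ H → u ^ (p / 2) = 1)
    (hsq : ∀ a : (ZMod p)ˣ, mu (ZMod p) (a ^ 2) ∈ H)
    (T : Equiv.Perm (OnePoint (ZMod p))) (hTH : T ∈ H)
    (hT1 : T (∞ : OnePoint (ZMod p)) = ((0 : ZMod p) : OnePoint (ZMod p)))
    (hT0 : T ((0 : ZMod p) : OnePoint (ZMod p)) = ∞)
    (n excl : ZMod p) (a₀ : (ZMod p)ˣ) (hn0 : n ≠ 0) (dl : ZMod p → Bool × ℕ)
    (hdl : ∀ i : ZMod p, i ≠ 0 → i = (if (dl i).1 then n else 1) * ((a₀ ^ 2 : (ZMod p)ˣ) : ZMod p) ^ (dl i).2)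
    (hchk : Chk p dl excl)
    (hexcl : ∀ k' : (ZMod p)ˣ, (k' : ZMod p) = excl → T * mu (ZMod p) (a₀ ^ 2) = mu (ZMod p) k' * T → False) :
    rho (matS (K := ZMod p)) ∈ H := by
  have hTinv1 : T⁻¹ (∞ : OnePoint (ZMod p)) = ((0 : ZMod p) : OnePoint (ZMod p)) := by
    rw [Equiv.Perm.inv_eq_iff_eq, hT0]
  have hTinv0 : T⁻¹ ((0 : ZMod p) : OnePoint (ZMod p)) = ∞ := by
    rw [Equiv.Perm.inv_eq_iff_eq, hT1]
  have hne : ∀ i : ZMod p, i ≠ 0 → T (i : OnePoint (ZMod p)) ≠ ∞ := by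
    intro i hi h
    have h2 : T (i : OnePoint (ZMod p)) = T ((0 : ZMod p) : OnePoint (ZMod p)) := by rw [h, hT0]
    exact hi (OnePoint.coe_eq_coe.mp (T.injective h2))
  have hex : ∀ i : ZMod p, ∃ v : ZMod p, i ≠ 0 → T (i : OnePoint (ZMod p)) = (v : OnePoint (ZMod p)) := by
    intro i
    by_cases hi : i = 0
    · exact ⟨0, fun h => absurd hi h⟩
    · obtain ⟨v, hv⟩ := OnePoint.ne_infty_iff_exists.mp (hne i hi)
      exact ⟨v, fun _ => hv.symm⟩
  choose f hf using hex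
  have hf0 : ∀ i : ZMod p, i ≠ 0 → f i ≠ 0 := by
    intro i hi h0
    have h1 := hf i hi
    rw [h0, ← hT1] at h1
    exact OnePoint.coe_ne_infty _ (T.injective h1)
  have hfinj : ∀ i j : ZMod p, i ≠ 0 → j ≠ 0 → f i = f j → i = j := by
    intro i j hi hj h
    have h1 : T (i : OnePoint (ZMod p)) = T (j : OnePoint (ZMod p)) := by rw [hf i hi, hf j hj, h]
    exact OnePoint.coe_eq_coe.mp (T.injective h1)
  have hfinv : ∀ i : ZMod p, i ≠ 0 → T⁻¹ ((f i : ZMod p) : OnePoint (ZMod p)) = (i : OnePoint (ZMod p)) := by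
    intro i hi
    rw [Equiv.Perm.inv_eq_iff_eq, hf i hi]
  -- the conjugate of the generator of the torus
  obtain ⟨k', hk'H, hk'⟩ : ∃ k' : (ZMod p)ˣ, mu (ZMod p) k' ∈ H ∧ T * mu (ZMod p) (a₀ ^ 2) = mu (ZMod p) k' * T := by
    have hh : T * mu (ZMod p) (a₀ ^ 2) * T⁻¹ ∈ H := H.mul_mem (H.mul_mem hTH (hsq a₀)) (H.inv_mem hTH)
    have h1 : (T * mu (ZMod p) (a₀ ^ 2) * T⁻¹) (∞ : OnePoint (ZMod p)) = ∞ := by
      simp only [Equiv.Perm.mul_apply]
      rw [hTinv1, mu_coe, mul_zero, hT0]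
    obtain ⟨b, u, hu, he⟩ := haff _ hh h1
    have h2 : (T * mu (ZMod p) (a₀ ^ 2) * T⁻¹) ((0 : ZMod p) : OnePoint (ZMod p)) = ((0 : ZMod p) : OnePoint (ZMod p)) := by
      simp only [Equiv.Perm.mul_apply]
      rw [hTinv0, mu_infty, hT1]
    rw [he, Equiv.Perm.mul_apply, mu_coe, mul_zero, rho_T_coe, zero_add] at h2
    have hb : b = 0 := OnePoint.coe_eq_coe.mp h2
    subst hb
    rw [rho_T_zero, one_mul] at he
    refine ⟨u, hu, ?_⟩
    rw [← he]
    group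
  have hk'ne : (k' : ZMod p) ≠ excl := fun h => hexcl k' h hk'
  set k : ZMod p := ((a₀ ^ 2 : (ZMod p)ˣ) : ZMod p) with hk
  have hk0 : k ≠ 0 := Units.ne_zero _
  have hfk : ∀ i : ZMod p, i ≠ 0 → f (k * i) = k' * f i := by
    intro i hi
    have h1 := congrArg (fun σ : Equiv.Perm (OnePoint (ZMod p)) => σ (i : OnePoint (ZMod p))) hk'
    simp only [Equiv.Perm.mul_apply] at h1
    rw [mu_coe, hf _ (mul_ne_zero hk0 hi), hf i hi, mu_coe] at h1
    exact OnePoint.coe_eq_coe.mp h1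
  have hfpow : ∀ (j : ℕ) (s : ZMod p), s ≠ 0 → f (s * k ^ j) = (k' : ZMod p) ^ j * f s := by
    intro j s hs
    induction j with
    | zero => simp
    | succ j ih =>
      have h1 : s * k ^ (j + 1) = k * (s * k ^ j) := by ring
      rw [h1, hfk _ (mul_ne_zero hs (pow_ne_zero _ hk0)), ih]
      ring
  have hone : (1 : ZMod p) ≠ 0 := one_ne_zero
  have hftbl : ∀ i : ZMod p, i ≠ 0 → f i = tbl dl k' (f 1) (f n) i := by
    intro i hi
    have h1 := hdl i hi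
    unfold tbl
    by_cases hd : (dl i).1 = true
    · rw [if_pos hd] at h1 ⊢
      rw [mul_comm, ← hfpow _ _ hn0, ← h1]
    · rw [if_neg hd] at h1 ⊢
      rw [mul_comm, ← hfpow _ _ hone, ← h1]
  -- the Bruhat relation
  have hm1 : (-1 : ZMod p) ≠ 0 := neg_ne_zero.mpr one_ne_zero
  obtain ⟨m, hmH, hm⟩ : ∃ m : (ZMod p)ˣ, mu (ZMod p) m ∈ H ∧ ∀ z : ZMod p, z ≠ 0 → z ≠ -1 →
      f (z + 1) = f 1 + f (m * (f z - f (-1))) := by
    have hh : T⁻¹ * rho (matT (-f 1)) * T * rho (matT 1) * T⁻¹ * rho (matT (f (-1))) ∈ H :=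
      H.mul_mem (H.mul_mem (H.mul_mem (H.mul_mem (H.mul_mem (H.inv_mem hTH) (hτ _)) hTH) (hτ _)) (H.inv_mem hTH)) (hτ _)
    have h1 : (T⁻¹ * rho (matT (-f 1)) * T * rho (matT 1) * T⁻¹ * rho (matT (f (-1))) : Equiv.Perm (OnePoint (ZMod p))) (∞ : OnePoint (ZMod p)) = ∞ := by
      simp only [Equiv.Perm.mul_apply]
      rw [rho_T_infty, hTinv1, rho_T_coe, zero_add, hf 1 hone, rho_T_coe, add_neg_cancel, hTinv0]
    obtain ⟨b, u, hu, he⟩ := haff _ hh h1
    have h2 : (T⁻¹ * rho (matT (-f 1)) * T * rho (matT 1) * T⁻¹ * rho (matT (f (-1))) : Equiv.Perm (OnePoint (ZMod p))) ((0 : ZMod p) : OnePoint (ZMod p)) = ((0 : ZMod p) : OnePoint (ZMod p)) := by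
      simp only [Equiv.Perm.mul_apply]
      rw [rho_T_coe, zero_add, hfinv _ hm1, rho_T_coe, neg_add_cancel, hT0, rho_T_infty, hTinv1]
    rw [he, Equiv.Perm.mul_apply, mu_coe, mul_zero, rho_T_coe, zero_add] at h2
    have hb : b = 0 := OnePoint.coe_eq_coe.mp h2
    subst hb
    rw [rho_T_zero, one_mul] at he
    refine ⟨u, hu, ?_⟩
    intro z hz0 hz1
    have hz2 : z + 1 ≠ 0 := by
      intro h
      exact hz1 (eq_neg_of_add_eq_zero_left h)
    have hd : f z - f (-1) ≠ 0 := by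
      intro h
      exact hz1 (hfinj _ _ hz0 hm1 (sub_eq_zero.mp h))
    have hd' : (u : ZMod p) * (f z - f (-1)) ≠ 0 := mul_ne_zero (Units.ne_zero _) hd
    have h3 := congrArg (fun σ : Equiv.Perm (OnePoint (ZMod p)) => σ ((f z - f (-1) : ZMod p) : OnePoint (ZMod p))) he
    simp only [Equiv.Perm.mul_apply] at h3
    rw [rho_T_coe, sub_add_cancel, hfinv z hz0, rho_T_coe, hf _ hz2, rho_T_coe, mu_coe, Equiv.Perm.inv_eq_iff_eq,
      hf _ hd'] at h3
    have h4 := OnePoint.coe_eq_coe.mp h3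
    rw [← h4]
    ring
  have hpodd : 0 < p / 2 := by
    have := hp.out.two_le
    omega
  have hrel : ∀ z : ZMod p, z ≠ 0 → z ≠ -1 →
      tbl dl k' (f 1) (f n) (z + 1) = f 1 +
        tbl dl k' (f 1) (f n) (m * (tbl dl k' (f 1) (f n) z - tbl dl k' (f 1) (f n) (-1))) := by
    intro z hz0 hz1
    have hz2 : z + 1 ≠ 0 := by
      intro h
      exact hz1 (eq_neg_of_add_eq_zero_left h)
    have hd : f z - f (-1) ≠ 0 := by
      intro h
      exact hz1 (hfinj _ _ hz0 hm1 (sub_eq_zero.mp h))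
    have hd' : (m : ZMod p) * (f z - f (-1)) ≠ 0 := mul_ne_zero (Units.ne_zero _) hd
    rw [← hftbl _ hz0, ← hftbl _ hm1, ← hftbl _ hz2, ← hftbl _ hd']
    exact hm z hz0 hz1
  obtain ⟨c, hc, hci⟩ := hchk k' (f 1) (f n) m (Units.ne_zero _) hk'ne
    (by rw [← Units.val_pow_eq_pow_val, hpow k' hk'H, Units.val_one]) (hf0 _ hone) (hf0 _ hn0)
    (by rw [← Units.val_pow_eq_pow_val, hpow m hmH, Units.val_one]) hrel
  have hc0 : c ≠ 0 := by
    rintro rfl
    rw [zero_pow hpodd.ne'] at hc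
    exact zero_ne_one hc
  obtain ⟨y, hy⟩ := (ZMod.euler_criterion_units p (Units.mk0 c hc0)).mpr (by
    apply Units.ext
    simpa using hc)
  have hyc : ((y : ZMod p)) ^ 2 = c := by
    have := congrArg Units.val hy
    simpa using this
  have hfinal : mu (ZMod p) (y⁻¹ ^ 2) * T = rho (matS (K := ZMod p)) := by
    apply Equiv.ext
    intro w
    induction w using OnePoint.rec with
    | infty =>
      rw [Equiv.Perm.mul_apply, hT1, mu_coe, mul_zero, rho_S_infty]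
    | coe i =>
      by_cases hi : i = 0
      · subst hi
        rw [Equiv.Perm.mul_apply, hT0, mu_infty, rho_S_zero]
      · rw [Equiv.Perm.mul_apply, hf i hi, mu_coe, rho_S_coe i hi]
        congr 1
        have h5 := hci i hi
        rw [← hftbl i hi, ← hyc] at h5
        have hy0 : (y : ZMod p) ≠ 0 := Units.ne_zero _
        push_cast
        field_simp
        linear_combination h5
  rw [← hfinal]
  exact H.mul_mem (hsq _) hTH

/-- `PSL(2,-)` is functorial for ring isomorphisms of fields. -/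
theorem psl_congr {K F : Type*} [Field K] [Field F] (φ : K ≃+* F) :
    Nonempty (Matrix.ProjectiveSpecialLinearGroup (Fin 2) K ≃* Matrix.ProjectiveSpecialLinearGroup (Fin 2) F) := by
  classical
  refine ⟨MonoidHom.toMulEquiv (PSL2Sub.pslMap φ.toRingHom) (PSL2Sub.pslMap φ.symm.toRingHom) ?_ ?_⟩
  · apply MonoidHom.ext
    intro x
    obtain ⟨g, rfl⟩ := QuotientGroup.mk_surjective x
    show PSL2Sub.pslMap φ.symm.toRingHom (PSL2Sub.pslMap φ.toRingHom (g : Matrix.ProjectiveSpecialLinearGroup (Fin 2) K)) = _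
    rw [PSL2Sub.pslMap_mk, PSL2Sub.pslMap_mk]
    congr 1
    ext i j
    exact φ.symm_apply_apply _
  · apply MonoidHom.ext
    intro x
    obtain ⟨g, rfl⟩ := QuotientGroup.mk_surjective x
    show PSL2Sub.pslMap φ.toRingHom (PSL2Sub.pslMap φ.symm.toRingHom (g : Matrix.ProjectiveSpecialLinearGroup (Fin 2) F)) = _
    rw [PSL2Sub.pslMap_mk, PSL2Sub.pslMap_mk]
    congr 1
    ext i j
    exact φ.apply_symm_apply _

namespace Lbl

variable {G : Type*} [Group G] [Finite G] (L : Lbl G p)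

theorem exists_t : ∃ t : G, L.phi t (∞ : OnePoint (ZMod p)) = ((0 : ZMod p) : OnePoint (ZMod p)) ∧
    L.phi t ((0 : ZMod p) : OnePoint (ZMod p)) = ∞ := by
  obtain ⟨g, hg⟩ := MulAction.exists_smul_eq G (L.e ((0 : ZMod p) : OnePoint (ZMod p))) (L.e ∞)
  have hg0 : L.phi g ((0 : ZMod p) : OnePoint (ZMod p)) = ∞ := (L.phi_eq_iff _ _ _).mpr hg
  have hne : L.phi g (∞ : OnePoint (ZMod p)) ≠ ∞ := by
    intro h
    have h2 : L.phi g (∞ : OnePoint (ZMod p)) = L.phi g ((0 : ZMod p) : OnePoint (ZMod p)) := by rw [h, hg0]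
    exact OnePoint.infty_ne_coe _ ((L.phi g).injective h2)
  obtain ⟨j, hj⟩ := OnePoint.ne_infty_iff_exists.mp hne
  refine ⟨L.x ^ (-j).val * g, ?_, ?_⟩
  · rw [map_mul, Equiv.Perm.mul_apply, ← hj, L.phi_tau, rho_T_coe, add_neg_cancel]
  · rw [map_mul, Equiv.Perm.mul_apply, hg0, L.phi_tau, rho_T_infty]

end Lbl

/-- **Recognition of `PSL(2,p)`** from the finite check. -/
theorem recognize {G : Type*} [Group G] [Finite G] [IsSimpleGroup G] (hna : ¬ IsMulCommutative G)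
    (hp2 : p ≠ 2) (hG : 2 * Nat.card G = p * (p ^ 2 - 1)) (hn : Nat.card (Sylow p G) = p + 1)
    (n excl : ZMod p) (a₀ : (ZMod p)ˣ) (hn0 : n ≠ 0) (dl : ZMod p → Bool × ℕ)
    (hdl : ∀ i : ZMod p, i ≠ 0 → i = (if (dl i).1 then n else 1) * ((a₀ ^ 2 : (ZMod p)ˣ) : ZMod p) ^ (dl i).2)
    (hchk : Chk p dl excl)
    (hexcl : ∀ (L : Lbl G p) (t : G), L.phi t (∞ : OnePoint (ZMod p)) = ((0 : ZMod p) : OnePoint (ZMod p)) →
      L.phi t ((0 : ZMod p) : OnePoint (ZMod p)) = ∞ → ∀ k' : (ZMod p)ˣ, (k' : ZMod p) = excl →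
      L.phi t * mu (ZMod p) (a₀ ^ 2) = mu (ZMod p) k' * L.phi t → False)
    {F : Type*} [Field F] [Fintype F] (hF : Fintype.card F = p) :
    Nonempty (G ≃* Matrix.ProjectiveSpecialLinearGroup (Fin 2) F) := by
  classical
  have hpp : p.Prime := hp.out
  -- the Sylow subgroups have order `p`
  have hcardQ : ∀ Q : Sylow p G, Nat.card (Q : Subgroup G) = p := by
    intro Q
    have hodd : p % 2 = 1 := by
      rcases hpp.eq_two_or_odd with h | h
      · exact absurd h hp2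
      · exact h
    obtain ⟨m, hm⟩ : ∃ m, p ^ 2 - 1 = 2 * m := by
      have h1 : (p ^ 2 - 1) % 2 = 0 := by
        have h2 : p ^ 2 % 2 = 1 := by
          rw [pow_two, Nat.mul_mod, hodd]
        have h3 : 1 ≤ p ^ 2 := Nat.one_le_pow _ _ hpp.pos
        omega
      exact ⟨(p ^ 2 - 1) / 2, by omega⟩
    have hG' : Nat.card G = p ^ 1 * m := by
      rw [hm] at hG
      rw [pow_one]
      have h4 : 2 * Nat.card G = 2 * (p * m) := by rw [hG]; ring
      exact Nat.eq_of_mul_eq_mul_left (by norm_num) h4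
    have hpm : ¬ p ∣ m := by
      intro hd
      have h5 : p ∣ p ^ 2 - 1 := by
        rw [hm]
        exact Dvd.dvd.mul_left hd 2
      have h6 : p ∣ p ^ 2 := dvd_pow_self p (by norm_num)
      have h7 : 1 ≤ p ^ 2 := Nat.one_le_pow _ _ hpp.pos
      have h8 : p ∣ 1 := by
        have := (Nat.dvd_sub h6 h5)
        rwa [Nat.sub_sub_self h7] at this
      exact hpp.one_lt.ne' (Nat.dvd_one.mp h8)
    have := sylow_card_of_card_eq hG' hpm Q
    simpa using this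
  obtain ⟨P⟩ := (inferInstance : Nonempty (Sylow p G))
  obtain ⟨x₀, hx₀⟩ := exists_prime_orderOf_dvd_card' (G := (P : Subgroup G)) p (by rw [hcardQ P])
  have hnt : Nontrivial (Sylow p G) := by
    rw [← Finite.one_lt_card_iff_nontrivial, hn]
    have := hpp.pos
    omega
  obtain ⟨z, hz⟩ := exists_ne P
  let L : Lbl G p :=
    { P := P, x := x₀, z := z, hxP := x₀.2, hxo := by rwa [Subgroup.orderOf_coe], hz := hz, hcard := hcardQ, hn := hn }
  obtain ⟨t, ht1, ht0⟩ := L.exists_t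
  have hS : rho (matS (K := ZMod p)) ∈ L.phi.range := by
    refine weyl_mem hp2 L.phi.range L.tau_mem ?_ ?_ ?_ (L.phi t) ⟨t, rfl⟩ ht1 ht0 n excl a₀ hn0 dl hdl hchk (hexcl L t ht1 ht0)
    · rintro _ ⟨g, rfl⟩ hi
      obtain ⟨b, u, hu, he⟩ := L.affine_mem g hi
      exact ⟨b, u, hu, he⟩
    · intro u hu
      exact L.pow_half_of_mem_I hna hG hp2 hu
    · intro a
      exact L.sq_mem_I hna hG a
  obtain ⟨e₁⟩ := L.nonempty_equiv hna hG hp2 hS
  obtain ⟨e₂⟩ := psl_congr (ZMod.ringEquivOfPrime F hpp hF)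
  exact ⟨e₁.trans e₂⟩

end Cfsg.Agent.Lib.PSL2Rec
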