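import Mathlib

/-!
# Finite groups with a self-centralizing element of prime order

Throughout `x : G` has prime order `p` and `C_G(x) = ⟨x⟩`.
-/

set_option autoImplicit false
set_option linter.style.haveILetI false

namespace Cfsg.Agent.Lib.SelfCent

open Subgroup
open scoped commutatorElement

universe u v

/-- The hypothesis bundle. -/
structure Hyp {G : Type u} [Group G] (p : ℕ) (x : G) : Prop where
  hp : p.Prime
  hx : orderOf x = p
  hC : centralizer ({x} : Set G) = zpowers x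

/-- A free action: the order of the group divides the size of the set. -/
theorem card_dvd_of_free {S : Type u} {X : Type v} [Group S] [MulAction S X] [Finite S] [Finite X]
    (hfree : ∀ x : X, ∀ s : S, s • x = x → s = 1) : Nat.card S ∣ Nat.card X := by
  classical
  haveI := Fintype.ofFinite (MulAction.orbitRel.Quotient S X)
  let e := MulAction.selfEquivSigmaOrbits S X
  rw [Nat.card_congr e, Nat.card_sigma]
  apply Finset.dvd_sum
  intro ω _
  have hstab : MulAction.stabilizer S (ω.out : X) = ⊥ := by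
    rw [eq_bot_iff]
    intro s hs
    exact hfree _ s hs
  have hc := MulAction.index_stabilizer S (ω.out : X)
  rw [hstab, Subgroup.index_bot] at hc
  rw [hc, Nat.card_coe_set_eq]

variable {G : Type u} [Group G] [Finite G] {p : ℕ} {x : G}

namespace Hyp

theorem card_zpowers (h : Hyp p x) : Nat.card (zpowers x) = p := by
  rw [Nat.card_zpowers, h.hx]

theorem x_ne_one (h : Hyp p x) : x ≠ 1 := by
  intro h1
  have := h.hx
  rw [h1, orderOf_one] at this
  exact h.hp.one_lt.ne this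

theorem mem_zpowers_of_commute (h : Hyp p x) {g : G} (hg : g * x = x * g) : g ∈ zpowers x := by
  rw [← h.hC]
  rw [mem_centralizer_iff]
  intro y hy
  rw [Set.mem_singleton_iff.mp hy]
  exact hg.symm

theorem commute_of_mem {g y : G} (hg : g ∈ zpowers y) : g * y = y * g := by
  obtain ⟨k, rfl⟩ := hg
  exact (Commute.refl y).zpow_left k

/-- A non-identity element of `⟨x⟩` generates `⟨x⟩`. -/
theorem zpowers_eq_of_mem (h : Hyp p x) {g : G} (hg : g ∈ zpowers x) (hg1 : g ≠ 1) :
    zpowers g = zpowers x := by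
  have hle : zpowers g ≤ zpowers x := by
    rwa [zpowers_le]
  have hcard : Nat.card (zpowers x) = p := h.card_zpowers
  have hdvd : Nat.card (zpowers g) ∣ Nat.card (zpowers x) := Subgroup.card_dvd_of_le hle
  rw [hcard] at hdvd
  rcases (Nat.dvd_prime h.hp).mp hdvd with h1 | h2
  · exfalso
    rw [Nat.card_zpowers, orderOf_eq_one_iff] at h1
    exact hg1 h1
  · apply Subgroup.eq_of_le_of_card_ge hle
    rw [hcard, h2]

theorem x_mem_zpowers_of_mem (h : Hyp p x) {g : G} (hg : g ∈ zpowers x) (hg1 : g ≠ 1) :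
    x ∈ zpowers g := by
  rw [h.zpowers_eq_of_mem hg hg1]; exact mem_zpowers x

theorem isPGroup_zpowers (h : Hyp p x) : IsPGroup p (zpowers x) := by
  haveI : Fact p.Prime := ⟨h.hp⟩
  apply IsPGroup.of_card (n := 1)
  rw [h.card_zpowers, pow_one]

/-- Transport of the hypothesis along conjugation. -/
theorem conj (h : Hyp p x) (y : G) : Hyp p (y * x * y⁻¹) := by
  refine ⟨h.hp, ?_, ?_⟩
  · have := (MulAut.conj y).orderOf_eq x
    rw [MulAut.conj_apply] at this
    rw [this]; exact h.hx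
  · ext g
    rw [mem_centralizer_singleton_iff, mem_zpowers_iff]
    constructor
    · intro hg
      have h1 : y⁻¹ * g * y ∈ zpowers x := by
        apply h.mem_zpowers_of_commute
        have : g * (y * x * y⁻¹) = (y * x * y⁻¹) * g := by
          exact hg
        calc y⁻¹ * g * y * x = y⁻¹ * (g * (y * x * y⁻¹)) * y := by group
          _ = y⁻¹ * ((y * x * y⁻¹) * g) * y := by rw [this]
          _ = x * (y⁻¹ * g * y) := by group
      obtain ⟨k, hk⟩ := mem_zpowers_iff.mp h1
      refine ⟨k, ?_⟩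
      rw [conj_zpow, hk]
      group
    · rintro ⟨k, rfl⟩
      exact (Commute.refl _).zpow_left k

/-- Any generator of `⟨x⟩` also satisfies the hypothesis. -/
theorem of_mem (h : Hyp p x) {g : G} (hg : g ∈ zpowers x) (hg1 : g ≠ 1) : Hyp p g := by
  have hz := h.zpowers_eq_of_mem hg hg1
  refine ⟨h.hp, ?_, ?_⟩
  · rw [← Nat.card_zpowers, hz, h.card_zpowers]
  · rw [hz, ← h.hC]
    ext y
    rw [mem_centralizer_singleton_iff, mem_centralizer_singleton_iff]
    constructor
    · intro hy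
      have : x ∈ zpowers g := by rw [hz]; exact mem_zpowers x
      obtain ⟨k, rfl⟩ := mem_zpowers_iff.mp this
      exact (Commute.zpow_right (show Commute y g from hy) k)
    · intro hy
      obtain ⟨k, rfl⟩ := mem_zpowers_iff.mp hg
      exact (Commute.zpow_right (show Commute y x from hy) k)

/-- `⟨x⟩` is a Sylow subgroup: any `p`-subgroup containing `x` equals `⟨x⟩`. -/
theorem eq_zpowers_of_le (h : Hyp p x) {Q : Subgroup G} (hQ : IsPGroup p Q)
    (hle : zpowers x ≤ Q) : Q = zpowers x := by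
  haveI : Fact p.Prime := ⟨h.hp⟩
  apply le_antisymm _ hle
  have hxQ : x ∈ Q := hle (mem_zpowers x)
  haveI : Nontrivial Q := by
    refine ⟨⟨⟨x, hxQ⟩, 1, ?_⟩⟩
    intro h1
    exact h.x_ne_one (congrArg Subtype.val h1)
  haveI := hQ.center_nontrivial
  obtain ⟨⟨z, hz⟩, hz1⟩ := exists_ne (1 : Subgroup.center Q)
  have hzcomm : ∀ g : Q, g * z = z * g := fun g => (Subgroup.mem_center_iff.mp hz g)
  have hzx : (z : G) * x = x * z := by
    have := hzcomm ⟨x, hxQ⟩
    exact (congrArg Subtype.val this).symm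
  have hzmem : (z : G) ∈ zpowers x := h.mem_zpowers_of_commute hzx
  have hz1' : (z : G) ≠ 1 := by
    intro h1
    apply hz1
    ext
    exact h1
  have hxz : x ∈ zpowers (z : G) := h.x_mem_zpowers_of_mem hzmem hz1'
  intro g hg
  apply h.mem_zpowers_of_commute
  have hgz : (z : G) * g = g * z := by
    have := hzcomm ⟨g, hg⟩
    exact (congrArg Subtype.val this).symm
  have hc : Commute g (z : G) := hgz.symm
  obtain ⟨k, rfl⟩ := mem_zpowers_iff.mp hxz
  exact (hc.zpow_right k)

/-- The Sylow subgroup `⟨x⟩`. -/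
theorem exists_sylow (h : Hyp p x) : ∃ Q : Sylow p G, (Q : Subgroup G) = zpowers x := by
  haveI : Fact p.Prime := ⟨h.hp⟩
  obtain ⟨Q, hQ⟩ := h.isPGroup_zpowers.exists_le_sylow
  exact ⟨Q, h.eq_zpowers_of_le Q.2 hQ⟩

theorem not_dvd_index (h : Hyp p x) : ¬ p ∣ (zpowers x).index := by
  haveI : Fact p.Prime := ⟨h.hp⟩
  obtain ⟨Q, hQ⟩ := h.exists_sylow
  rw [← hQ]
  exact Q.not_dvd_index

/-- Any `p`-subgroup lies in a conjugate of `⟨x⟩`. -/
theorem exists_conj_le (h : Hyp p x) {H : Subgroup G} (hH : IsPGroup p H) :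
    ∃ y : G, ∀ g ∈ H, y * g * y⁻¹ ∈ zpowers x := by
  haveI : Fact p.Prime := ⟨h.hp⟩
  obtain ⟨Q, hQ⟩ := hH.exists_le_sylow
  obtain ⟨Q0, hQ0⟩ := h.exists_sylow
  obtain ⟨y, hy⟩ := MulAction.exists_smul_eq G Q Q0
  refine ⟨y, fun g hg => ?_⟩
  rw [← hQ0, ← hy, Sylow.coe_subgroup_smul]
  rw [Subgroup.mem_pointwise_smul_iff_inv_smul_mem]
  simpa [MulAut.smul_def, MulAut.conj_apply, mul_assoc] using hQ hg

/-- An element of order `p` is conjugate into `⟨x⟩`. -/
theorem exists_conj_mem (h : Hyp p x) {g : G} (hg : orderOf g = p) :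
    ∃ y : G, y * g * y⁻¹ ∈ zpowers x := by
  haveI : Fact p.Prime := ⟨h.hp⟩
  have hP : IsPGroup p (zpowers g) := by
    apply IsPGroup.of_card (n := 1)
    rw [Nat.card_zpowers, hg, pow_one]
  obtain ⟨y, hy⟩ := h.exists_conj_le hP
  exact ⟨y, hy g (mem_zpowers g)⟩

/-- A subgroup of order `p` is generated by an element of order `p` (namely any nontrivial one). -/
theorem exists_generator_of_card (hp : p.Prime) {H : Subgroup G} (hH : Nat.card H = p) :
    ∃ g : G, H = zpowers g ∧ orderOf g = p := by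
  haveI : Fact p.Prime := ⟨hp⟩
  haveI : Nontrivial H := by
    apply Finite.one_lt_card_iff_nontrivial.mp
    rw [hH]; exact hp.one_lt
  obtain ⟨⟨g, hg⟩, hg1⟩ := exists_ne (1 : H)
  have hg1' : g ≠ 1 := fun e => hg1 (by ext; exact e)
  have hle : zpowers g ≤ H := by rwa [zpowers_le]
  have hdvd := Subgroup.card_dvd_of_le hle
  rw [hH] at hdvd
  have h2 : Nat.card (zpowers g) = p := by
    rcases (Nat.dvd_prime hp).mp hdvd with h1 | h2
    · exfalso
      rw [Nat.card_zpowers, orderOf_eq_one_iff] at h1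
      exact hg1' h1
    · exact h2
  refine ⟨g, ?_, ?_⟩
  · symm
    apply Subgroup.eq_of_le_of_card_ge hle
    rw [hH, h2]
  · rwa [Nat.card_zpowers] at h2

/-- A subgroup of order `p` contains a conjugate of `x`; it is `⟨y⁻¹ x y⟩`. -/
theorem exists_conj_eq (h : Hyp p x) {H : Subgroup G} (hH : Nat.card H = p) :
    ∃ y : G, H = zpowers (y * x * y⁻¹) := by
  obtain ⟨g, rfl, hg⟩ := exists_generator_of_card h.hp hH
  obtain ⟨y, hy⟩ := h.exists_conj_mem hg
  have hne : y * g * y⁻¹ ≠ 1 := by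
    intro e
    have h1 : g = 1 := by
      have := congrArg (fun t => y⁻¹ * t * y) e
      simpa [mul_assoc] using this
    rw [h1, orderOf_one] at hg
    exact h.hp.one_lt.ne hg
  have hz := h.zpowers_eq_of_mem hy hne
  refine ⟨y⁻¹, ?_⟩
  have h2 : zpowers g = (zpowers (y * g * y⁻¹)).map (MulAut.conj y⁻¹).toMonoidHom := by
    rw [MonoidHom.map_zpowers]
    congr 1
    simp [MulAut.conj_apply, mul_assoc]
  rw [h2, hz, MonoidHom.map_zpowers]
  simp [MulAut.conj_apply]

/-- If `S` is normal with order divisible by `p`, it contains `⟨x⟩`. -/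
theorem zpowers_le_of_dvd (h : Hyp p x) {S : Subgroup G} [hS : S.Normal] (hd : p ∣ Nat.card S) :
    zpowers x ≤ S := by
  haveI : Fact p.Prime := ⟨h.hp⟩
  obtain ⟨⟨g, hgS⟩, hg⟩ := exists_prime_orderOf_dvd_card' p hd
  have hg' : orderOf g = p := by
    rw [← hg]
    exact (Subgroup.orderOf_mk g hgS).symm
  obtain ⟨y, hy⟩ := h.exists_conj_mem hg'
  have hne : y * g * y⁻¹ ≠ 1 := by
    intro e
    have h1 : g = 1 := by
      have := congrArg (fun t => y⁻¹ * t * y) e
      simpa [mul_assoc] using this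
    rw [h1, orderOf_one] at hg'
    exact h.hp.one_lt.ne hg'
  have hmem : y * g * y⁻¹ ∈ S := hS.conj_mem g hgS y
  rw [← h.zpowers_eq_of_mem hy hne, zpowers_le]
  exact hmem

theorem comm_mem_aux (h : Hyp p x) {a b : G} (ha : a ∈ normalizer (zpowers x : Set G))
    (hb : b ∈ normalizer (zpowers x : Set G)) : (b * a)⁻¹ * (a * b) ∈ zpowers x := by
  have hax : a * x * a⁻¹ ∈ zpowers x := (mem_normalizer_iff.mp ha x).mp (mem_zpowers x)
  have hbx : b * x * b⁻¹ ∈ zpowers x := (mem_normalizer_iff.mp hb x).mp (mem_zpowers x)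
  obtain ⟨i, hi⟩ := mem_zpowers_iff.mp hax
  obtain ⟨j, hj⟩ := mem_zpowers_iff.mp hbx
  have h1 : a * (b * x * b⁻¹) * a⁻¹ = b * (a * x * a⁻¹) * b⁻¹ := by
    rw [← hi, ← hj]
    have e1 : a * x ^ j * a⁻¹ = (x ^ i) ^ j := by rw [hi, conj_zpow]
    have e2 : b * x ^ i * b⁻¹ = (x ^ j) ^ i := by rw [hj, conj_zpow]
    rw [e1, e2, ← zpow_mul, ← zpow_mul, mul_comm]
  apply h.mem_zpowers_of_commute
  have h2 : (a * b) * x * (a * b)⁻¹ = (b * a) * x * (b * a)⁻¹ := by
    calc (a * b) * x * (a * b)⁻¹ = a * (b * x * b⁻¹) * a⁻¹ := by group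
      _ = b * (a * x * a⁻¹) * b⁻¹ := h1
      _ = (b * a) * x * (b * a)⁻¹ := by group
  calc (b * a)⁻¹ * (a * b) * x = (b * a)⁻¹ * ((a * b) * x * (a * b)⁻¹) * (a * b) := by group
    _ = (b * a)⁻¹ * ((b * a) * x * (b * a)⁻¹) * (a * b) := by rw [h2]
    _ = x * ((b * a)⁻¹ * (a * b)) := by group

/-- The normalizer of `⟨x⟩` is abelian modulo `⟨x⟩`. -/
theorem comm_mem (h : Hyp p x) {a b : G} (ha : a ∈ normalizer (zpowers x : Set G))
    (hb : b ∈ normalizer (zpowers x : Set G)) : a * b * a⁻¹ * b⁻¹ ∈ zpowers x := by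
  have := h.comm_mem_aux (inv_mem ha) (inv_mem hb)
  have e : (b⁻¹ * a⁻¹)⁻¹ * (a⁻¹ * b⁻¹) = a * b * a⁻¹ * b⁻¹ := by group
  rwa [e] at this

/-- Frattini's argument for a normal subgroup containing `⟨x⟩`. -/
theorem normalizer_sup (h : Hyp p x) {S : Subgroup G} [hS : S.Normal] (hle : zpowers x ≤ S) :
    normalizer (zpowers x : Set G) ⊔ S = ⊤ := by
  haveI : Fact p.Prime := ⟨h.hp⟩
  obtain ⟨Q, hQ⟩ := h.exists_sylow
  have := Sylow.normalizer_sup_eq_top' (N := S) Q (by rw [hQ]; exact hle)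
  have hQ' : (Q : Set G) = (zpowers x : Set G) := by rw [← hQ]; rfl
  rw [hQ'] at this
  exact this

/-- (a) A normal subgroup containing `⟨x⟩` contains the commutator subgroup. -/
theorem commutator_le_of_le (h : Hyp p x) {S : Subgroup G} [hS : S.Normal] (hle : zpowers x ≤ S) :
    commutator G ≤ S := by
  have hsup := h.normalizer_sup hle
  have hall : ∀ g : G, ∃ n ∈ normalizer (zpowers x : Set G), ∃ s ∈ S, g = n * s := by
    intro g
    have : g ∈ ((normalizer (zpowers x : Set G) ⊔ S : Subgroup G) : Set G) := by rw [hsup]; trivial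
    rw [Subgroup.mul_normal] at this
    obtain ⟨n, hn, s, hs, e⟩ := Set.mem_mul.mp this
    exact ⟨n, hn, s, hs, e.symm⟩
  rw [_root_.commutator_def, Subgroup.commutator_le]
  intro g _ g' _
  obtain ⟨n, hn, s, hs, rfl⟩ := hall g
  obtain ⟨n', hn', s', hs', rfl⟩ := hall g'
  have h1 : n * n' * n⁻¹ * n'⁻¹ ∈ S := hle (h.comm_mem hn hn')
  have hmk : (QuotientGroup.mk (⁅n * s, n' * s'⁆) : G ⧸ S) = 1 := by
    have e1 : (QuotientGroup.mk s : G ⧸ S) = 1 := (QuotientGroup.eq_one_iff s).mpr hs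
    have e2 : (QuotientGroup.mk s' : G ⧸ S) = 1 := (QuotientGroup.eq_one_iff s').mpr hs'
    have e3 : (QuotientGroup.mk (n * n' * n⁻¹ * n'⁻¹) : G ⧸ S) = 1 :=
      (QuotientGroup.eq_one_iff _).mpr h1
    simp only [commutatorElement_def, QuotientGroup.mk_mul, QuotientGroup.mk_inv, e1, e2, mul_one]
    simpa only [QuotientGroup.mk_mul, QuotientGroup.mk_inv] using e3
  exact (QuotientGroup.eq_one_iff _).mp hmk

/-- (a) A normal subgroup of order divisible by `p` contains the commutator subgroup. -/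
theorem commutator_le_of_dvd (h : Hyp p x) {S : Subgroup G} [hS : S.Normal] (hd : p ∣ Nat.card S) :
    commutator G ≤ S :=
  h.commutator_le_of_le (h.zpowers_le_of_dvd hd)

/-- A subgroup of order prime to `p` meets `⟨x⟩` trivially. -/
theorem eq_one_of_mem (h : Hyp p x) {S : Subgroup G} (hd : ¬ p ∣ Nat.card S) {g : G} (hgS : g ∈ S)
    (hg : g ∈ zpowers x) : g = 1 := by
  by_contra hg1
  apply hd
  have hle : zpowers x ≤ S := by
    rw [← h.zpowers_eq_of_mem hg hg1, zpowers_le]
    exact hgS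
  rw [← h.card_zpowers]
  exact Subgroup.card_dvd_of_le hle

/-- `x` acts without fixed points on a normal subgroup of order prime to `p`:
the commutator map is injective on `S`. -/
theorem comm_inj (h : Hyp p x) {S : Subgroup G} (hd : ¬ p ∣ Nat.card S) {s s' : G}
    (hs : s ∈ S) (hs' : s' ∈ S) (e : s * x * s⁻¹ = s' * x * s'⁻¹) : s = s' := by
  have h1 : s'⁻¹ * s ∈ zpowers x := by
    apply h.mem_zpowers_of_commute
    calc s'⁻¹ * s * x = s'⁻¹ * (s * x * s⁻¹) * s := by group
      _ = s'⁻¹ * (s' * x * s'⁻¹) * s := by rw [e]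
      _ = x * (s'⁻¹ * s) := by group
  have h2 := h.eq_one_of_mem hd (S.mul_mem (S.inv_mem hs') hs) h1
  exact (inv_mul_eq_one.mp h2).symm

/-- The commutator map is surjective onto `S`. -/
theorem comm_surj (h : Hyp p x) {S : Subgroup G} [hS : S.Normal] (hd : ¬ p ∣ Nat.card S) {y : G}
    (hy : y ∈ S) : ∃ s ∈ S, y = s * x * s⁻¹ * x⁻¹ := by
  classical
  let f : S → S := fun s => ⟨s.1 * x * s.1⁻¹ * x⁻¹, by
    have h1 : x * s.1⁻¹ * x⁻¹ ∈ S := hS.conj_mem _ (S.inv_mem s.2) x
    have : s.1 * x * s.1⁻¹ * x⁻¹ = s.1 * (x * s.1⁻¹ * x⁻¹) := by group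
    rw [this]
    exact S.mul_mem s.2 h1⟩
  have hinj : Function.Injective f := by
    intro a b hab
    have h1 : a.1 * x * a.1⁻¹ * x⁻¹ = b.1 * x * b.1⁻¹ * x⁻¹ := congrArg Subtype.val hab
    have h2 : a.1 * x * a.1⁻¹ = b.1 * x * b.1⁻¹ := mul_right_cancel h1
    exact Subtype.ext (h.comm_inj hd a.2 b.2 h2)
  have hsurj := Finite.surjective_of_injective hinj
  obtain ⟨s, hs⟩ := hsurj ⟨y, hy⟩
  exact ⟨s.1, s.2, (congrArg Subtype.val hs).symm⟩

/-- A normal subgroup of order prime to `p` lies in the commutator subgroup. -/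
theorem le_commutator_of_not_dvd (h : Hyp p x) {S : Subgroup G} [hS : S.Normal]
    (hd : ¬ p ∣ Nat.card S) : S ≤ commutator G := by
  intro y hy
  obtain ⟨s, _, rfl⟩ := h.comm_surj hd hy
  rw [_root_.commutator_def]
  apply Subgroup.commutator_mem_commutator (Subgroup.mem_top s) (Subgroup.mem_top x)

/-- More precisely `S = [S, x]`: it lies in any subgroup containing `x` and `S`'s commutators:
if `T` is a normal subgroup of a subgroup... -/
theorem le_commutator_sub (h : Hyp p x) {S : Subgroup G} [hS : S.Normal]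
    (hd : ¬ p ∣ Nat.card S) {A B : Subgroup G} (hA : S ≤ A) (hB : x ∈ B) : S ≤ ⁅A, B⁆ := by
  intro y hy
  obtain ⟨s, hs, rfl⟩ := h.comm_surj hd hy
  exact Subgroup.commutator_mem_commutator (hA hs) hB

/-- `|S| ≡ 1 mod p` for `S` normal of order prime to `p`. -/
theorem card_mod (h : Hyp p x) {S : Subgroup G} [hS : S.Normal] (hd : ¬ p ∣ Nat.card S) :
    Nat.card S % p = 1 := by
  haveI : Fact p.Prime := ⟨h.hp⟩
  letI : MulAction (zpowers x) S :=
    MulAction.compHom S ((MulAut.conjNormal : G →* MulAut S).comp (zpowers x).subtype)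
  have hm := h.isPGroup_zpowers.card_modEq_card_fixedPoints S
  have hfix : Nat.card (MulAction.fixedPoints (zpowers x) S) = 1 := by
    rw [Nat.card_eq_one_iff_unique]
    refine ⟨⟨?_⟩, ⟨⟨1, ?_⟩⟩⟩
    · rintro ⟨a, ha⟩ ⟨b, hb⟩
      have key : ∀ a : S, a ∈ MulAction.fixedPoints (zpowers x) S → (a : G) = 1 := by
        intro a ha
        have h1 := ha ⟨x, mem_zpowers x⟩
        have h2 : x * (a : G) * x⁻¹ = a := congrArg Subtype.val h1
        apply h.eq_one_of_mem hd a.2
        apply h.mem_zpowers_of_commute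
        exact (eq_mul_inv_iff_mul_eq.mp h2.symm)
      apply Subtype.ext
      apply Subtype.ext
      rw [key a ha, key b hb]
    · intro g
      change (MulAut.conjNormal (g : G) : MulAut S) 1 = 1
      exact map_one _
  rw [hfix] at hm
  have := hm
  rw [Nat.ModEq, Nat.mod_eq_of_lt h.hp.one_lt] at this
  exact this

/-- Conjugation action of a subgroup on the subgroups of order `p`. -/
@[reducible] def subgroupConjAction (S : Subgroup G) (p : ℕ) :
    MulAction S {H : Subgroup G // Nat.card H = p} where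
  smul s H := ⟨H.1.map (MulAut.conj (s : G)).toMonoidHom,
    (Nat.card_congr (Subgroup.equivMapOfInjective _ _ (MulAut.conj (s : G)).injective).toEquiv.symm).trans H.2⟩
  one_smul H := by
    apply Subtype.ext
    change H.1.map (MulAut.conj ((1 : S) : G)).toMonoidHom = H.1
    ext g
    simp
  mul_smul a b H := by
    apply Subtype.ext
    change H.1.map (MulAut.conj ((a * b : S) : G)).toMonoidHom =
      (H.1.map (MulAut.conj (b : G)).toMonoidHom).map (MulAut.conj (a : G)).toMonoidHom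
    rw [Subgroup.map_map]
    congr 1
    ext g
    simp [mul_assoc]

/-- `|S|` divides the number of subgroups of order `p`. -/
theorem card_dvd_subgroups (h : Hyp p x) {S : Subgroup G} [hS : S.Normal] (hd : ¬ p ∣ Nat.card S) :
    Nat.card S ∣ Nat.card {H : Subgroup G // Nat.card H = p} := by
  letI := subgroupConjAction S p
  apply card_dvd_of_free
  intro H s hsH
  obtain ⟨y, hy⟩ := h.exists_conj_eq H.2
  have hY : Hyp p (y * x * y⁻¹) := h.conj y
  set z := y * x * y⁻¹ with hz
  have hmap : H.1.map (MulAut.conj (s : G)).toMonoidHom = H.1 := congrArg Subtype.val hsH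
  -- `s` normalizes `⟨z⟩`
  have h1 : (s : G) * z * (s : G)⁻¹ ∈ zpowers z := by
    rw [← hy, ← hmap]
    exact ⟨z, by rw [hy]; exact mem_zpowers z, by simp⟩
  -- the commutator lies in `S ∩ ⟨z⟩`
  have h2 : (s : G) * z * (s : G)⁻¹ * z⁻¹ ∈ zpowers z :=
    (zpowers z).mul_mem h1 (inv_mem (mem_zpowers z))
  have h3 : (s : G) * z * (s : G)⁻¹ * z⁻¹ ∈ S := by
    have : z * (s : G)⁻¹ * z⁻¹ ∈ S := hS.conj_mem _ (S.inv_mem s.2) z
    have e : (s : G) * z * (s : G)⁻¹ * z⁻¹ = (s : G) * (z * (s : G)⁻¹ * z⁻¹) := by group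
    rw [e]
    exact S.mul_mem s.2 this
  have h4 := hY.eq_one_of_mem hd h3 h2
  have h5 : (s : G) * z = z * s := by
    have : (s : G) * z * (s : G)⁻¹ = z := by
      exact mul_inv_eq_one.mp h4
    exact (eq_mul_inv_iff_mul_eq.mp this.symm).symm
  have h6 : (s : G) ∈ zpowers z := hY.mem_zpowers_of_commute h5
  have h7 := hY.eq_one_of_mem hd s.2 h6
  exact Subtype.ext h7

/-- The image of `x` modulo `S` has order `p`. -/
theorem orderOf_mk (h : Hyp p x) {S : Subgroup G} [hS : S.Normal] (hd : ¬ p ∣ Nat.card S) :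
    orderOf (QuotientGroup.mk x : G ⧸ S) = p := by
  haveI : Fact p.Prime := ⟨h.hp⟩
  apply orderOf_eq_prime
  · rw [← QuotientGroup.mk_pow, ← h.hx, pow_orderOf_eq_one]
    rfl
  · intro e
    have h1 : x ∈ S := (QuotientGroup.eq_one_iff x).mp e
    exact h.x_ne_one (h.eq_one_of_mem hd h1 (mem_zpowers x))

/-- The image of `x` modulo `S` is again self-centralizing. -/
theorem centralizer_mk (h : Hyp p x) {S : Subgroup G} [hS : S.Normal] (hd : ¬ p ∣ Nat.card S) :
    centralizer ({(QuotientGroup.mk x : G ⧸ S)} : Set (G ⧸ S)) =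
      zpowers (QuotientGroup.mk x : G ⧸ S) := by
  ext q
  obtain ⟨g, rfl⟩ := QuotientGroup.mk_surjective q
  rw [mem_centralizer_singleton_iff]
  constructor
  · intro hg
    have e : (QuotientGroup.mk (g * x * g⁻¹ * x⁻¹) : G ⧸ S) = 1 := by
      simp only [QuotientGroup.mk_mul, QuotientGroup.mk_inv]
      rw [hg]
      group
    have h1 : g * x * g⁻¹ * x⁻¹ ∈ S := (QuotientGroup.eq_one_iff _).mp e
    obtain ⟨s, hs, e2⟩ := h.comm_surj hd h1
    have e3 : g * x * g⁻¹ = s * x * s⁻¹ := mul_right_cancel e2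
    have h2 : s⁻¹ * g ∈ zpowers x := by
      apply h.mem_zpowers_of_commute
      calc s⁻¹ * g * x = s⁻¹ * (g * x * g⁻¹) * g := by group
        _ = s⁻¹ * (s * x * s⁻¹) * g := by rw [e3]
        _ = x * (s⁻¹ * g) := by group
    obtain ⟨k, hk⟩ := mem_zpowers_iff.mp h2
    rw [mem_zpowers_iff]
    refine ⟨k, ?_⟩
    have e4 : g = s * x ^ k := by rw [hk]; group
    rw [e4, QuotientGroup.mk_mul, (QuotientGroup.eq_one_iff s).mpr hs, one_mul,
      QuotientGroup.mk_zpow]
  · intro hg
    obtain ⟨k, hk⟩ := mem_zpowers_iff.mp hg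
    rw [← hk]
    exact ((Commute.refl _).zpow_left k)

end Hyp

end Cfsg.Agent.Lib.SelfCent
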