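import Mathlib
import Cfsg.Prelude.Def_Characters
import Cfsg.Agent.Lib.CharBasic
import Cfsg.Agent.Lib.CharInd

/-!
# Restrictions of the irreducible characters to an abelian T.I. subgroup

`A` is a finite abelian group embedded by `ι` in the finite group `G`, normalised by a subgroup `N`
acting on it by conjugation; the non-identity elements of `A` only fuse in `N`.
The multiplicity of a linear character `ψ` of `A` in the restriction of an irreducible character.
-/

set_option autoImplicit false
set_option linter.unusedSectionVars false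

namespace Cfsg.Agent.Lib.ZassAbU19

open Cfsg Cfsg.Agent.Lib.CharBasic Cfsg.Agent.Lib.CharInd
open scoped ComplexConjugate

universe u v

variable {G : Type u} [Group G] [Fintype G] {A : Type v} [AddCommGroup A] [Fintype A]
  [DecidableEq A]

/-- The multiplicity of `ψ` in the restriction of `χ`. -/
noncomputable def ww (ι : A → G) (χ : G → ℂ) (ψ : AddChar A ℂ) : ℂ :=
  (Fintype.card A : ℂ)⁻¹ * ∑ a : A, χ (ι a) * conj (ψ a)

/-- Orthogonality of the characters of `A`. -/
theorem sum_conj_mul (ψ φ : AddChar A ℂ) :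
    ∑ a : A, conj (ψ a) * φ a = if ψ = φ then (Fintype.card A : ℂ) else 0 := by
  classical
  have h := AddChar.sum_eq_ite (φ - ψ)
  have h2 : ∀ a, (φ - ψ) a = conj (ψ a) * φ a := by
    intro a
    rw [AddChar.sub_apply', ← AddChar.inv_apply_eq_conj, div_eq_mul_inv, mul_comm]
  simp only [h2] at h
  rw [h]
  by_cases hh : ψ = φ
  · simp [hh]
  · have : φ - ψ ≠ 0 := fun h0 => hh (sub_eq_zero.1 h0).symm
    simp [hh, this]

variable (ι : A → G) (hι : ∀ a b, ι (a + b) = ι a * ι b)

include hι in
theorem iota_zero : ι 0 = 1 := by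
  have := hι 0 0
  rw [add_zero] at this
  exact (mul_eq_left.1 this.symm)

/-- `ι` as a homomorphism. -/
def iotaHom (ι : A → G) (hι : ∀ a b, ι (a + b) = ι a * ι b) : Multiplicative A →* G where
  toFun a := ι (Multiplicative.toAdd a)
  map_one' := iota_zero ι hι
  map_mul' _ _ := hι _ _

include hι in
/-- The coefficient is a natural number. -/
theorem ww_nat {χ : G → ℂ} (hχ : IsCharacter G χ) (ψ : AddChar A ℂ) :
    ∃ m : ℕ, ww ι χ ψ = m := by
  classical
  let f := iotaHom ι hι
  have h1 : IsCharacter (Multiplicative A) (fun a => χ (f a)) := isCharacter_comp f hχ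
  let g : Multiplicative A →* ℂˣ := MonoidHom.toHomUnits ψ.toMonoidHom
  have h2 : IsCharacter (Multiplicative A) (fun a => ((g a : ℂˣ) : ℂ)) :=
    IsIrrCharacter.isCharacter (isIrrCharacter_of_hom g)
  obtain ⟨m, hm⟩ := classInner_char_char h1 h2
  refine ⟨m, ?_⟩
  rw [← hm]
  unfold classInner ww
  congr 1
  · have : Nat.card (Multiplicative A) = Fintype.card A :=
      (Nat.card_congr Multiplicative.toAdd).trans Nat.card_eq_fintype_card
    rw [this]
  · refine Fintype.sum_equiv Multiplicative.ofAdd _ _ (fun a => ?_)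
    rfl

/-- Fourier inversion. -/
theorem sum_ww_mul (χ : G → ℂ) (a : A) : ∑ ψ : AddChar A ℂ, ww ι χ ψ * ψ a = χ (ι a) := by
  classical
  have hn : (Fintype.card A : ℂ) ≠ 0 := by
    exact_mod_cast Fintype.card_ne_zero
  have h1 : ∀ ψ : AddChar A ℂ, ww ι χ ψ * ψ a =
      (Fintype.card A : ℂ)⁻¹ * ∑ b : A, χ (ι b) * ψ (a - b) := by
    intro ψ
    unfold ww
    rw [mul_assoc, Finset.sum_mul]
    congr 1
    refine Finset.sum_congr rfl fun b _ => ?_
    rw [sub_eq_add_neg, AddChar.map_add_eq_mul, AddChar.map_neg_eq_conj]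
    ring
  simp only [h1]
  rw [← Finset.mul_sum, Finset.sum_comm]
  have h2 : ∀ b : A, ∑ ψ : AddChar A ℂ, χ (ι b) * ψ (a - b) =
      if b = a then (Fintype.card A : ℂ) * χ (ι b) else 0 := by
    intro b
    rw [← Finset.mul_sum, AddChar.sum_apply_eq_ite]
    by_cases h : b = a
    · simp [h, mul_comm]
    · have : a - b ≠ 0 := fun h0 => h (sub_eq_zero.1 h0).symm
      simp [h, this]
  simp only [h2, Finset.sum_ite_eq', Finset.mem_univ, if_true]
  field_simp

section action

variable (N : Subgroup G) [DistribMulAction N A]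

/-- The action of `N` on the characters of `A`. -/
noncomputable def tw (x : N) (ψ : AddChar A ℂ) : AddChar A ℂ :=
  ψ.compAddMonoidHom (DistribSMul.toAddMonoidHom A x⁻¹)

theorem tw_apply (x : N) (ψ : AddChar A ℂ) (a : A) : tw N x ψ a = ψ (x⁻¹ • a) := rfl

theorem tw_mul (x y : N) (ψ : AddChar A ℂ) : tw N (x * y) ψ = tw N x (tw N y ψ) := by
  ext a
  simp only [tw_apply, mul_inv_rev, mul_smul]

theorem tw_one (ψ : AddChar A ℂ) : tw N 1 ψ = ψ := by
  ext a
  simp only [tw_apply, inv_one, one_smul]

theorem tw_inv_tw (x : N) (ψ : AddChar A ℂ) : tw N x⁻¹ (tw N x ψ) = ψ := by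
  rw [← tw_mul, inv_mul_cancel, tw_one]

theorem tw_tw_inv (x : N) (ψ : AddChar A ℂ) : tw N x (tw N x⁻¹ ψ) = ψ := by
  rw [← tw_mul, mul_inv_cancel, tw_one]

theorem tw_ne_zero (x : N) {ψ : AddChar A ℂ} (hψ : ψ ≠ 0) : tw N x ψ ≠ 0 := by
  intro h
  apply hψ
  rw [← tw_inv_tw N x ψ, h]
  ext a
  simp [tw_apply]

/-- The data of an abelian T.I. subgroup. -/
structure TIData (ι : A → G) : Prop where
  add : ∀ a b, ι (a + b) = ι a * ι b
  inj : Function.Injective ι
  act : ∀ (x : N) (a : A), ι (x • a) = x * ι a * x⁻¹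
  mem : ∀ a, ι a ∈ N
  ti : ∀ (a a' : A) (g : G), a ≠ 0 → g * ι a * g⁻¹ = ι a' → g ∈ N
  stab : ∀ (x : N) (a : A), a ≠ 0 → x • a = a → ∃ b, (x : G) = ι b

variable {N} {ι : A → G} (D : TIData N ι)

namespace TIData

include D

theorem zero : ι 0 = 1 := iota_zero ι D.add

theorem comm (a b : A) : ι a * ι b = ι b * ι a := by
  rw [← D.add, ← D.add, add_comm]

theorem mk_smul (b a : A) : (⟨ι b, D.mem b⟩ : N) • a = a := by
  apply D.inj
  rw [D.act]
  show ι b * ι a * (ι b)⁻¹ = ι a
  rw [D.comm b a, mul_assoc, mul_inv_cancel, mul_one]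

theorem mk_injective : Function.Injective (fun b : A => (⟨ι b, D.mem b⟩ : N)) := by
  intro b c h
  exact D.inj (congrArg Subtype.val h)

theorem tw_mk (b : A) (ψ : AddChar A ℂ) : tw N (⟨ι b, D.mem b⟩ : N) ψ = ψ := by
  ext a
  rw [tw_apply]
  congr 1
  rw [inv_smul_eq_iff, D.mk_smul]

/-- The stabiliser of a non-trivial character. -/
theorem stab_char (x : N) {ψ : AddChar A ℂ} (hψ : ψ ≠ 0) (hx : tw N x ψ = ψ) :
    ∃ b, (x : G) = ι b := by
  classical
  by_contra hcon
  push Not at hcon
  have hfree : ∀ a : A, a ≠ 0 → x⁻¹ • a ≠ a := by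
    intro a ha h
    have h2 : x • a = a := by
      conv_lhs => rw [← h]
      simp
    obtain ⟨b, hb⟩ := D.stab x a ha h2
    exact hcon b hb
  let φ : A →+ A := (DistribSMul.toAddMonoidHom A x⁻¹) - AddMonoidHom.id A
  have hinj : Function.Injective φ := by
    rw [injective_iff_map_eq_zero]
    intro a ha
    by_contra ha0
    apply hfree a ha0
    exact sub_eq_zero.1 ha
  have hsurj : Function.Surjective φ := Finite.surjective_of_injective hinj
  apply hψ
  ext a
  obtain ⟨c, rfl⟩ := hsurj a
  have h3 : φ c = x⁻¹ • c - c := rfl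
  have h4 : ψ (φ c) = 1 := by
    rw [h3, sub_eq_add_neg, AddChar.map_add_eq_mul, ← tw_apply N, hx, AddChar.map_neg_eq_inv]
    exact mul_inv_cancel₀ ((ψ.val_isUnit c).ne_zero)
  rw [h4]
  rfl

end TIData

end action

section counting

variable {N : Subgroup G} [DistribMulAction N A] {ι : A → G} (D : TIData N ι) [Fintype N]
  [DecidableEq N]

namespace TIData

include D

open Finset

theorem card_fib_A (a a' : A) (ha : a ≠ 0) :
    (univ.filter (fun x : N => x • a = a')).card =
      if ∃ x : N, x • a = a' then Fintype.card A else 0 := by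
  classical
  split_ifs with h
  · obtain ⟨x₀, hx₀⟩ := h
    have h1 : univ.filter (fun x : N => x • a = a') =
        univ.image (fun b : A => x₀ * (⟨ι b, D.mem b⟩ : N)) := by
      ext x
      simp only [mem_filter, mem_univ, true_and, mem_image]
      constructor
      · intro hx
        have h2 : (x₀⁻¹ * x) • a = a := by
          rw [mul_smul, hx, ← hx₀, inv_smul_smul]
        obtain ⟨b, hb⟩ := D.stab _ a ha h2
        refine ⟨b, ?_⟩
        have h3 : (⟨ι b, D.mem b⟩ : N) = x₀⁻¹ * x := Subtype.ext hb.symm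
        rw [h3]
        group
      · rintro ⟨b, rfl⟩
        rw [mul_smul, D.mk_smul, hx₀]
    rw [h1, card_image_of_injective, card_univ]
    intro b c hbc
    exact D.mk_injective (mul_left_cancel hbc)
  · rw [card_eq_zero, filter_eq_empty_iff]
    intro x _ hx
    exact h ⟨x, hx⟩

theorem card_fib_tw (ψ ψ' : AddChar A ℂ) (hψ : ψ' ≠ 0) :
    (univ.filter (fun x : N => tw N x ψ' = ψ)).card =
      if ∃ x : N, tw N x ψ' = ψ then Fintype.card A else 0 := by
  classical
  split_ifs with h
  · obtain ⟨x₀, hx₀⟩ := h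
    have h1 : univ.filter (fun x : N => tw N x ψ' = ψ) =
        univ.image (fun b : A => x₀ * (⟨ι b, D.mem b⟩ : N)) := by
      ext x
      simp only [mem_filter, mem_univ, true_and, mem_image]
      constructor
      · intro hx
        have h2 : tw N (x₀⁻¹ * x) ψ' = ψ' := by
          rw [tw_mul, hx, ← hx₀, tw_inv_tw]
        obtain ⟨b, hb⟩ := D.stab_char _ hψ h2
        refine ⟨b, ?_⟩
        have h3 : (⟨ι b, D.mem b⟩ : N) = x₀⁻¹ * x := Subtype.ext hb.symm
        rw [h3]
        group
      · rintro ⟨b, rfl⟩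
        rw [tw_mul, D.tw_mk, hx₀]
    rw [h1, card_image_of_injective, card_univ]
    intro b c hbc
    exact D.mk_injective (mul_left_cancel hbc)
  · rw [card_eq_zero, filter_eq_empty_iff]
    intro x _ hx
    exact h ⟨x, hx⟩

theorem card_centralizer (a : A) (ha : a ≠ 0) :
    Nat.card (Subgroup.centralizer ({ι a} : Set G)) = Fintype.card A := by
  classical
  have h1 : Function.Bijective (fun b : A => (⟨ι b, by
      rw [Subgroup.mem_centralizer_singleton_iff]
      exact D.comm b a⟩ : Subgroup.centralizer ({ι a} : Set G))) := by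
    constructor
    · intro b c hbc
      exact D.inj (congrArg Subtype.val hbc)
    · rintro ⟨g, hg⟩
      rw [Subgroup.mem_centralizer_singleton_iff] at hg
      have h2 : g * ι a * g⁻¹ = ι a := by
        rw [hg, mul_assoc, mul_inv_cancel, mul_one]
      have hgN := D.ti a a g ha h2
      have h3 : (⟨g, hgN⟩ : N) • a = a := by
        apply D.inj
        rw [D.act]
        exact h2
      obtain ⟨b, hb⟩ := D.stab _ a ha h3
      exact ⟨b, Subtype.ext hb.symm⟩
  rw [← Nat.card_eq_of_bijective _ h1, Nat.card_eq_fintype_card]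

theorem sum_irr_iota (a a' : A) :
    ∑ χ : IrrCharacter G, (χ : G → ℂ) (ι a) * conj ((χ : G → ℂ) (ι a')) =
      ((univ.filter (fun x : N => x • a = a')).card : ℂ) +
        if a = 0 ∧ a' = 0 then ((Nat.card G : ℂ) - (Fintype.card N : ℂ)) else 0 := by
  classical
  rw [sum_irr_mul_conj]
  by_cases ha : a = 0
  · subst ha
    by_cases ha' : a' = 0
    · subst ha'
      have h1 : univ.filter (fun x : N => x • (0 : A) = 0) = univ := by
        ext x
        simp
      rw [h1, card_univ, if_pos (⟨rfl, rfl⟩ : (0 : A) = 0 ∧ (0 : A) = 0)]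
      rw [if_pos (IsConj.refl _), D.zero]
      have : Subgroup.centralizer ({(1 : G)} : Set G) = ⊤ := by
        ext x
        simp [Subgroup.mem_centralizer_iff]
      rw [this, Nat.card_congr (Subgroup.topEquiv.toEquiv)]
      ring
    · have h1 : univ.filter (fun x : N => x • (0 : A) = a') = ∅ := by
        ext x
        simp only [smul_zero, mem_filter, mem_univ, true_and, notMem_empty, iff_false]
        exact fun h => ha' h.symm
      have h2 : ¬ IsConj (ι 0) (ι a') := by
        rw [D.zero, isConj_one_right]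
        intro h
        apply ha'
        apply D.inj
        rw [h, D.zero]
      have h3 : ¬ ((0 : A) = 0 ∧ a' = 0) := fun h => ha' h.2
      rw [h1, card_empty, if_neg h3, if_neg h2]
      simp
  · have h0 : ¬ (a = 0 ∧ a' = 0) := fun h => ha h.1
    rw [if_neg h0, add_zero, D.card_fib_A a a' ha]
    by_cases hc : ∃ x : N, x • a = a'
    · have h2 : IsConj (ι a) (ι a') := by
        obtain ⟨x, rfl⟩ := hc
        rw [isConj_iff]
        exact ⟨x, (D.act x a).symm⟩
      have ha' : a' ≠ 0 := by
        obtain ⟨x, rfl⟩ := hc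
        intro h
        exact ha ((smul_eq_zero_iff_eq x).1 h)
      rw [if_pos h2, if_pos hc, D.card_centralizer a' ha']
    · have h2 : ¬ IsConj (ι a) (ι a') := by
        intro h
        rw [isConj_iff] at h
        obtain ⟨g, hg⟩ := h
        have hgN := D.ti a a' g ha hg
        refine hc ⟨⟨g, hgN⟩, ?_⟩
        apply D.inj
        rw [D.act]
        exact hg
      rw [if_neg h2, if_neg hc]
      simp

variable (hN : Nat.card G = (Fintype.card A + 1) * Fintype.card N)
  {d : ℕ} (hd : Fintype.card N = Fintype.card A * d)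

include hN hd

/-- The inner product of two coefficient vectors. -/
theorem sum_ww_conj (ψ ψ' : AddChar A ℂ) (hψ' : ψ' ≠ 0) :
    ∑ χ : IrrCharacter G, ww ι (χ : G → ℂ) ψ * conj (ww ι (χ : G → ℂ) ψ') =
      (d : ℂ) + if ∃ x : N, tw N x ψ' = ψ then 1 else 0 := by
  classical
  have hn : (Fintype.card A : ℂ) ≠ 0 := by
    exact_mod_cast Fintype.card_ne_zero
  set n : ℂ := (Fintype.card A : ℂ) with hn'
  have h1 : ∀ χ : IrrCharacter G, ww ι (χ : G → ℂ) ψ * conj (ww ι (χ : G → ℂ) ψ') =
      (n⁻¹ * n⁻¹) * ∑ a : A, ∑ a' : A, (conj (ψ a) * ψ' a') *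
        ((χ : G → ℂ) (ι a) * conj ((χ : G → ℂ) (ι a'))) := by
    intro χ
    unfold ww
    rw [map_mul, map_sum, map_inv₀, Complex.conj_natCast, mul_mul_mul_comm, Finset.sum_mul_sum]
    congr 1
    refine Finset.sum_congr rfl fun a _ => Finset.sum_congr rfl fun a' _ => ?_
    rw [map_mul, Complex.conj_conj]
    ring
  simp only [h1]
  rw [← Finset.mul_sum]
  have h2 : ∑ χ : IrrCharacter G, ∑ a : A, ∑ a' : A, (conj (ψ a) * ψ' a') *
        ((χ : G → ℂ) (ι a) * conj ((χ : G → ℂ) (ι a'))) =
      ∑ a : A, ∑ a' : A, (conj (ψ a) * ψ' a') *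
        (((univ.filter (fun x : N => x • a = a')).card : ℂ) +
        if a = 0 ∧ a' = 0 then ((Nat.card G : ℂ) - (Fintype.card N : ℂ)) else 0) := by
    rw [Finset.sum_comm]
    refine Finset.sum_congr rfl fun a _ => ?_
    rw [Finset.sum_comm]
    refine Finset.sum_congr rfl fun a' _ => ?_
    rw [← Finset.mul_sum, D.sum_irr_iota]
  rw [h2]
  have h3 : ∀ a : A, ∑ a' : A, (conj (ψ a) * ψ' a') *
        (((univ.filter (fun x : N => x • a = a')).card : ℂ) +
        if a = 0 ∧ a' = 0 then ((Nat.card G : ℂ) - (Fintype.card N : ℂ)) else 0) =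
      (∑ x : N, conj (ψ a) * ψ' (x • a)) +
        if a = 0 then ((Nat.card G : ℂ) - (Fintype.card N : ℂ)) else 0 := by
    intro a
    simp only [mul_add, Finset.sum_add_distrib]
    congr 1
    · have h4 : ∀ a' : A, (conj (ψ a) * ψ' a') * ((univ.filter (fun x : N => x • a = a')).card : ℂ) =
          ∑ x : N, if x • a = a' then conj (ψ a) * ψ' a' else 0 := by
        intro a'
        rw [Finset.sum_ite, Finset.sum_const_zero, add_zero, Finset.sum_const, nsmul_eq_mul, mul_comm]
      simp only [h4]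
      rw [Finset.sum_comm]
      refine Finset.sum_congr rfl fun x _ => ?_
      rw [Finset.sum_ite_eq]
      simp
    · by_cases ha : a = 0
      · subst ha
        rw [Finset.sum_eq_single 0]
        · simp
        · intro b _ hb
          simp [hb]
        · simp
      · simp [ha]
  simp only [h3]
  rw [Finset.sum_add_distrib, Finset.sum_comm, Finset.sum_ite_eq' univ (0 : A)]
  have h5 : ∀ x : N, ∑ a : A, conj (ψ a) * ψ' (x • a) =
      if tw N x⁻¹ ψ' = ψ then n else 0 := by
    intro x
    have h6 := sum_conj_mul ψ (tw N x⁻¹ ψ')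
    simp only [tw_apply, inv_inv] at h6
    rw [h6]
    by_cases h : tw N x⁻¹ ψ' = ψ
    · rw [if_pos h.symm, if_pos h]
    · rw [if_neg (fun h' => h h'.symm), if_neg h]
  simp only [h5]
  rw [Finset.sum_ite, Finset.sum_const_zero, add_zero, Finset.sum_const, nsmul_eq_mul]
  have h7 : (univ.filter (fun x : N => tw N x⁻¹ ψ' = ψ)).card =
      (univ.filter (fun x : N => tw N x ψ' = ψ)).card := by
    refine Finset.card_bij (fun x _ => x⁻¹) ?_ ?_ ?_
    · intro x hx
      simpa using hx
    · intro x _ y _ h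
      exact inv_injective h
    · intro x hx
      exact ⟨x⁻¹, by simpa using hx, inv_inv x⟩
  rw [h7, D.card_fib_tw ψ ψ' hψ']
  simp only [mem_univ, if_true]
  have h8 : (Nat.card G : ℂ) - (Fintype.card N : ℂ) = n * n * d := by
    rw [hN, hd]
    push_cast
    rw [hn']
    ring
  rw [h8]
  by_cases hc : ∃ x : N, tw N x ψ' = ψ
  · simp only [hc, if_true]
    field_simp
    ring
  · simp only [hc, if_false]
    field_simp
    simp

/-- The degree of the coefficient vector. -/
theorem sum_ww_deg (ψ : AddChar A ℂ) :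
    ∑ χ : IrrCharacter G, ww ι (χ : G → ℂ) ψ * conj ((χ : G → ℂ) 1) =
      ((Fintype.card A + 1) * d : ℕ) := by
  classical
  have hn : (Fintype.card A : ℂ) ≠ 0 := by
    exact_mod_cast Fintype.card_ne_zero
  unfold ww
  have h1 : ∀ χ : IrrCharacter G, (Fintype.card A : ℂ)⁻¹ * (∑ a : A, (χ : G → ℂ) (ι a) * conj (ψ a)) *
      conj ((χ : G → ℂ) 1) = (Fintype.card A : ℂ)⁻¹ * ∑ a : A, conj (ψ a) *
        ((χ : G → ℂ) (ι a) * conj ((χ : G → ℂ) (ι 0))) := by
    intro χ
    rw [D.zero, mul_assoc, Finset.sum_mul]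
    congr 1
    refine Finset.sum_congr rfl fun a _ => ?_
    ring
  simp only [h1]
  rw [← Finset.mul_sum, Finset.sum_comm]
  simp only [← Finset.mul_sum, D.sum_irr_iota]
  rw [Finset.sum_eq_single 0]
  · have h2 : univ.filter (fun x : N => x • (0 : A) = 0) = univ := by
      ext x
      simp
    rw [h2, card_univ, if_pos (⟨rfl, trivial⟩ : (0 : A) = 0 ∧ True), AddChar.map_zero_eq_one, hN, hd]
    simp only [map_one, one_mul]
    push_cast
    field_simp
    ring
  · intro b _ hb
    have h3 : univ.filter (fun x : N => x • b = (0 : A)) = ∅ := by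
      ext x
      simp only [mem_filter, mem_univ, true_and, notMem_empty, iff_false]
      intro h
      exact hb ((smul_eq_zero_iff_eq x).1 h)
    have h4 : ¬ (b = 0 ∧ True) := fun h => hb h.1
    rw [h3, card_empty, if_neg h4]
    simp
  · simp

end TIData

end counting

end Cfsg.Agent.Lib.ZassAbU19
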