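import Mathlib
import Cfsg.Agent.Lib.ZassAbU19
import Cfsg.Agent.Lib.CharKernel

/-!
# The bound on the number of irreducible characters from an abelian T.I. subgroup
-/

set_option autoImplicit false
set_option linter.unusedSectionVars false

namespace Cfsg.Agent.Lib.ZassAbV19

open Cfsg Cfsg.Agent.Lib.CharBasic Cfsg.Agent.Lib.CharInd Cfsg.Agent.Lib.CharKernel
  Cfsg.Agent.Lib.ZassAbU19 Finset
open scoped ComplexConjugate

universe u v

variable {G : Type u} [Group G] [Fintype G] {A : Type v} [AddCommGroup A] [Fintype A]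
  [DecidableEq A] {N : Subgroup G} [DistribMulAction N A] {ι : A → G} (D : TIData N ι) [Fintype N]
  [DecidableEq N]

/-- The multiplicity as a natural number. -/
noncomputable def mm (D : TIData N ι) (χ : IrrCharacter G) (ψ : AddChar A ℂ) : ℕ :=
  (ww_nat ι D.add (IsIrrCharacter.isCharacter χ.2) ψ).choose

theorem mm_spec (χ : IrrCharacter G) (ψ : AddChar A ℂ) :
    ww ι (χ : G → ℂ) ψ = (mm D χ ψ : ℂ) :=
  (ww_nat ι D.add (IsIrrCharacter.isCharacter χ.2) ψ).choose_spec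

/-- The multiplicity is constant on orbits. -/
theorem mm_tw (χ : IrrCharacter G) (x : N) (ψ : AddChar A ℂ) : mm D χ (tw N x ψ) = mm D χ ψ := by
  have h : ww ι (χ : G → ℂ) (tw N x ψ) = ww ι (χ : G → ℂ) ψ := by
    unfold ww
    congr 1
    refine Fintype.sum_equiv (MulAction.toPerm x⁻¹) _ _ fun a => ?_
    simp only [tw_apply, MulAction.toPerm_apply]
    congr 1
    have h1 := D.act x⁻¹ a
    rw [h1]
    exact isClassFunction_of_isCharacter (IsIrrCharacter.isCharacter χ.2) _ _ |>.symm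
  have h2 := mm_spec D χ (tw N x ψ)
  rw [h, mm_spec D χ ψ] at h2
  exact_mod_cast h2.symm

variable (hN : Nat.card G = (Fintype.card A + 1) * Fintype.card N)
  {d : ℕ} (hd : Fintype.card N = Fintype.card A * d)

include hN hd

theorem sum_mm_mul (ψ ψ' : AddChar A ℂ) (hψ' : ψ' ≠ 0) :
    ∑ χ : IrrCharacter G, mm D χ ψ * mm D χ ψ' = d + if ∃ x : N, tw N x ψ' = ψ then 1 else 0 := by
  have h := D.sum_ww_conj hN hd ψ ψ' hψ'
  simp only [mm_spec D, Complex.conj_natCast] at h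
  have h2 : ((∑ χ : IrrCharacter G, mm D χ ψ * mm D χ ψ' : ℕ) : ℂ) =
      ((d + if ∃ x : N, tw N x ψ' = ψ then 1 else 0 : ℕ) : ℂ) := by
    push_cast
    rw [h]
  exact_mod_cast h2

theorem sum_mm_deg (ψ : AddChar A ℂ) :
    ∑ χ : IrrCharacter G, mm D χ ψ * charDegree (χ : G → ℂ) = (Fintype.card A + 1) * d := by
  have h := D.sum_ww_deg hN hd ψ
  have h1 : ∀ χ : IrrCharacter G, (χ : G → ℂ) 1 = (charDegree (χ : G → ℂ) : ℂ) := fun χ =>
    one_eq_charDegree (IsIrrCharacter.isCharacter χ.2)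
  simp only [mm_spec D, h1, Complex.conj_natCast] at h
  exact_mod_cast h

omit hN hd in
include D in
/-- Orbit sizes. -/
theorem card_orb (hd0 : Fintype.card N = Fintype.card A * d) (ψ : AddChar A ℂ) (hψ : ψ ≠ 0) :
    (univ.image (fun x : N => tw N x ψ)).card = d := by
  classical
  have h1 := Finset.card_eq_sum_card_image (fun x : N => tw N x ψ) (univ : Finset N)
  have h2 : ∀ b ∈ univ.image (fun x : N => tw N x ψ),
      (univ.filter (fun x : N => tw N x ψ = b)).card = Fintype.card A := by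
    intro b hb
    rw [D.card_fib_tw b ψ hψ, if_pos]
    obtain ⟨x, _, hx⟩ := mem_image.1 hb
    exact ⟨x, hx⟩
  rw [Finset.sum_congr rfl h2, sum_const, smul_eq_mul, card_univ, hd0, mul_comm] at h1
  exact (Nat.eq_of_mul_eq_mul_right Fintype.card_pos h1).symm

theorem card_supp_le (ψ : AddChar A ℂ) (hψ : ψ ≠ 0) :
    (univ.filter (fun χ : IrrCharacter G => mm D χ ψ ≠ 0)).card ≤ d + 1 := by
  classical
  have h1 := sum_mm_mul D hN hd ψ ψ hψ
  rw [if_pos ⟨1, tw_one N ψ⟩] at h1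
  rw [← h1, card_filter]
  refine sum_le_sum fun χ _ => ?_
  split_ifs with h
  · exact Nat.mul_self_le_mul_self (Nat.pos_of_ne_zero h)
  · exact Nat.zero_le _

/-- Two non-conjugate characters differ in at most one constituent. -/
theorem eq_of_new (ψ ψ' : AddChar A ℂ) (hψ : ψ ≠ 0) (hψ' : ψ' ≠ 0)
    (hrel : ¬ ∃ x : N, tw N x ψ = ψ') {χ₁ χ₂ : IrrCharacter G}
    (h1 : mm D χ₁ ψ = 0) (h1' : mm D χ₁ ψ' ≠ 0) (h2 : mm D χ₂ ψ = 0) (h2' : mm D χ₂ ψ' ≠ 0) :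
    χ₁ = χ₂ := by
  classical
  by_contra hne
  set g : IrrCharacter G → ℤ := fun χ => (mm D χ ψ' : ℤ) - (mm D χ ψ : ℤ) with hg
  have h3 := sum_mm_mul D hN hd ψ ψ hψ
  rw [if_pos ⟨1, tw_one N ψ⟩] at h3
  have h4 := sum_mm_mul D hN hd ψ' ψ' hψ'
  rw [if_pos ⟨1, tw_one N ψ'⟩] at h4
  have h5 := sum_mm_mul D hN hd ψ' ψ hψ
  rw [if_neg hrel] at h5
  have h6 : ∑ χ, g χ * g χ = 2 := by
    have : ∀ χ, g χ * g χ = ((mm D χ ψ' * mm D χ ψ' : ℕ) : ℤ) + ((mm D χ ψ * mm D χ ψ : ℕ) : ℤ) -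
        2 * ((mm D χ ψ' * mm D χ ψ : ℕ) : ℤ) := by
      intro χ
      simp only [hg]
      push_cast
      ring
    simp only [this, sum_sub_distrib, sum_add_distrib, ← mul_sum, ← Nat.cast_sum, h3, h4, h5]
    push_cast
    ring
  have h7 : ∑ χ, g χ * (charDegree (χ : G → ℂ) : ℤ) = 0 := by
    have h8 := sum_mm_deg D hN hd ψ
    have h9 := sum_mm_deg D hN hd ψ'
    simp only [hg, sub_mul, sum_sub_distrib]
    have e1 : ∑ χ : IrrCharacter G, (mm D χ ψ' : ℤ) * (charDegree (χ : G → ℂ) : ℤ) =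
        (((Fintype.card A + 1) * d : ℕ) : ℤ) := by
      rw [← h9]
      push_cast
      rfl
    have e2 : ∑ χ : IrrCharacter G, (mm D χ ψ : ℤ) * (charDegree (χ : G → ℂ) : ℤ) =
        (((Fintype.card A + 1) * d : ℕ) : ℤ) := by
      rw [← h8]
      push_cast
      rfl
    rw [e1, e2, sub_self]
  have hg1 : 1 ≤ g χ₁ := by
    simp only [hg, h1]
    have : 1 ≤ mm D χ₁ ψ' := Nat.pos_of_ne_zero h1'
    push_cast
    omega
  have hg2 : 1 ≤ g χ₂ := by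
    simp only [hg, h2]
    have : 1 ≤ mm D χ₂ ψ' := Nat.pos_of_ne_zero h2'
    push_cast
    omega
  have hs := Finset.add_sum_erase univ (fun χ => g χ * g χ) (mem_univ χ₁)
  have hs2 := Finset.add_sum_erase (univ.erase χ₁) (fun χ => g χ * g χ)
    (mem_erase.2 ⟨Ne.symm hne, mem_univ χ₂⟩)
  have hnn : 0 ≤ ∑ χ ∈ (univ.erase χ₁).erase χ₂, g χ * g χ :=
    sum_nonneg fun χ _ => mul_self_nonneg _
  have hg1' : g χ₁ = 1 := by nlinarith
  have hg2' : g χ₂ = 1 := by nlinarith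
  have hrest : ∑ χ ∈ (univ.erase χ₁).erase χ₂, g χ * g χ = 0 := by
    rw [hg1'] at hs
    rw [hg2'] at hs2
    linarith
  have hz : ∀ χ ∈ (univ.erase χ₁).erase χ₂, g χ = 0 := by
    intro χ hχ
    have := (sum_eq_zero_iff_of_nonneg (fun χ _ => mul_self_nonneg (g χ))).1 hrest χ hχ
    exact mul_self_eq_zero.1 this
  have ht := Finset.add_sum_erase univ (fun χ => g χ * (charDegree (χ : G → ℂ) : ℤ)) (mem_univ χ₁)
  have ht2 := Finset.add_sum_erase (univ.erase χ₁) (fun χ => g χ * (charDegree (χ : G → ℂ) : ℤ))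
    (mem_erase.2 ⟨Ne.symm hne, mem_univ χ₂⟩)
  have hr : ∑ χ ∈ (univ.erase χ₁).erase χ₂, g χ * (charDegree (χ : G → ℂ) : ℤ) = 0 :=
    sum_eq_zero fun χ hχ => by rw [hz χ hχ, zero_mul]
  rw [hr, add_zero, hg2', one_mul] at ht2
  rw [← ht2, hg1', one_mul, h7] at ht
  have hd1 : (0 : ℤ) < charDegree (χ₁ : G → ℂ) := by exact_mod_cast charDegree_pos χ₁.2
  have hd2 : (0 : ℤ) < charDegree (χ₂ : G → ℂ) := by exact_mod_cast charDegree_pos χ₂.2
  omega

omit hN hd in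
/-- The trivial character. -/
noncomputable def triv (G : Type u) [Group G] : IrrCharacter G := ⟨fun _ => 1, isIrrCharacter_one⟩

omit hN hd in
include D in
theorem mm_triv (ψ : AddChar A ℂ) (hψ : ψ ≠ 0) : mm D (triv G) ψ = 0 := by
  classical
  have h := mm_spec D (triv G) ψ
  have h2 : ww ι ((triv G : IrrCharacter G) : G → ℂ) ψ = 0 := by
    unfold ww
    have h3 := sum_conj_mul ψ (0 : AddChar A ℂ)
    rw [if_neg hψ] at h3
    have h4 : ∑ a : A, ((triv G : IrrCharacter G) : G → ℂ) (ι a) * conj (ψ a) = 0 := by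
      rw [← h3]
      refine Finset.sum_congr rfl fun a _ => ?_
      show (1 : ℂ) * conj (ψ a) = conj (ψ a) * (0 : AddChar A ℂ) a
      rw [AddChar.zero_apply]
      ring
    rw [h4, mul_zero]
  rw [h2] at h
  exact_mod_cast h.symm

omit hN hd in
include D in
theorem exists_supp (χ : IrrCharacter G) (hχ : ∃ a, (χ : G → ℂ) (ι a) ≠ (χ : G → ℂ) 1) :
    ∃ ψ : AddChar A ℂ, ψ ≠ 0 ∧ mm D χ ψ ≠ 0 := by
  classical
  by_contra hcon
  push Not at hcon
  obtain ⟨a, ha⟩ := hχ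
  apply ha
  have h1 : ∀ b : A, (χ : G → ℂ) (ι b) = ww ι (χ : G → ℂ) 0 := by
    intro b
    rw [← sum_ww_mul ι (χ : G → ℂ) b, Finset.sum_eq_single 0]
    · simp
    · intro ψ _ hψ
      rw [mm_spec D, hcon ψ hψ]
      simp
    · simp
  rw [h1 a, ← h1 0, D.zero]

/-- The main disjointness and counting statement. -/
theorem card_aux (hker : ∀ χ : IrrCharacter G, χ ≠ triv G → ∃ a, (χ : G → ℂ) (ι a) ≠ (χ : G → ℂ) 1)
    (ψ₀ : AddChar A ℂ) (hψ₀ : ψ₀ ≠ 0) :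
    ∃ (𝒩 : Finset (IrrCharacter G)) (S : IrrCharacter G → Finset (AddChar A ℂ)),
      (∀ χ, χ ∈ 𝒩 ↔ χ ≠ triv G ∧ mm D χ ψ₀ = 0) ∧
      (∀ χ ψ, ψ ∈ S χ ↔ ψ ≠ 0 ∧ mm D χ ψ ≠ 0) ∧
      (∀ χ ∈ 𝒩, d ≤ (S χ).card) ∧
      (Fintype.card (IrrCharacter G) ≤ d + 2 + 𝒩.card) ∧
      ((𝒩.biUnion S).card = ∑ χ ∈ 𝒩, (S χ).card) ∧
      (Disjoint (𝒩.biUnion S) (univ.image (fun x : N => tw N x ψ₀))) ∧
      ((𝒩.biUnion S) ∪ (univ.image (fun x : N => tw N x ψ₀)) ⊆ univ.erase 0) := by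
  classical
  set 𝒩 : Finset (IrrCharacter G) := univ.filter (fun χ => χ ≠ triv G ∧ mm D χ ψ₀ = 0) with h𝒩
  set S : IrrCharacter G → Finset (AddChar A ℂ) :=
    fun χ => univ.filter (fun ψ => ψ ≠ 0 ∧ mm D χ ψ ≠ 0) with hS
  have h𝒩' : ∀ χ, χ ∈ 𝒩 ↔ χ ≠ triv G ∧ mm D χ ψ₀ = 0 := by
    intro χ
    simp [h𝒩]
  have hS' : ∀ χ ψ, ψ ∈ S χ ↔ ψ ≠ 0 ∧ mm D χ ψ ≠ 0 := by
    intro χ ψ
    simp [hS]
  refine ⟨𝒩, S, h𝒩', hS', ?_, ?_, ?_, ?_, ?_⟩
  · intro χ hχ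
    obtain ⟨h1, _⟩ := (h𝒩' χ).1 hχ
    obtain ⟨ψ, hψ, hψ2⟩ := exists_supp D χ (hker χ h1)
    rw [← card_orb D hd ψ hψ]
    refine card_le_card ?_
    intro ψ' hψ'
    obtain ⟨x, _, rfl⟩ := mem_image.1 hψ'
    rw [hS']
    exact ⟨tw_ne_zero N x hψ, by rw [mm_tw]; exact hψ2⟩
  · have h1 : (univ : Finset (IrrCharacter G)) ⊆
        (univ.filter (fun χ : IrrCharacter G => mm D χ ψ₀ ≠ 0)) ∪ ({triv G} ∪ 𝒩) := by
      intro χ _
      simp only [mem_union, mem_filter, mem_univ, true_and, mem_singleton, h𝒩']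
      tauto
    have h2 := card_le_card h1
    rw [card_univ] at h2
    have h3 := card_union_le (univ.filter (fun χ : IrrCharacter G => mm D χ ψ₀ ≠ 0))
      ({triv G} ∪ 𝒩)
    have h4 := card_union_le ({triv G} : Finset (IrrCharacter G)) 𝒩
    have h5 := card_supp_le D hN hd ψ₀ hψ₀
    rw [card_singleton] at h4
    omega
  · rw [card_biUnion]
    intro χ₁ hχ₁ χ₂ hχ₂ hne
    show Disjoint (S χ₁) (S χ₂)
    rw [Finset.disjoint_left]
    intro ψ h1 h2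
    obtain ⟨hψ, h1'⟩ := (hS' _ _).1 h1
    obtain ⟨_, h2'⟩ := (hS' _ _).1 h2
    have hrel : ¬ ∃ x : N, tw N x ψ₀ = ψ := by
      rintro ⟨x, rfl⟩
      rw [mm_tw] at h1'
      exact h1' ((h𝒩' _).1 hχ₁).2
    exact hne (eq_of_new D hN hd ψ₀ ψ hψ₀ hψ hrel ((h𝒩' _).1 hχ₁).2 h1' ((h𝒩' _).1 hχ₂).2 h2')
  · rw [Finset.disjoint_left]
    intro ψ h1 h2
    obtain ⟨χ, hχ, h3⟩ := mem_biUnion.1 h1
    obtain ⟨x, _, rfl⟩ := mem_image.1 h2
    have h4 := ((hS' _ _).1 h3).2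
    rw [mm_tw] at h4
    exact h4 ((h𝒩' _).1 hχ).2
  · intro ψ h1
    rw [mem_union] at h1
    rw [mem_erase]
    refine ⟨?_, mem_univ _⟩
    rcases h1 with h1 | h1
    · obtain ⟨χ, hχ, h3⟩ := mem_biUnion.1 h1
      exact ((hS' _ _).1 h3).1
    · obtain ⟨x, _, rfl⟩ := mem_image.1 h1
      exact tw_ne_zero N x hψ₀

include D in
/-- **Upper bound** for the number of irreducible characters. -/
theorem card_irr_le (hker : ∀ χ : IrrCharacter G, χ ≠ triv G → ∃ a, (χ : G → ℂ) (ι a) ≠ (χ : G → ℂ) 1)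
    (ψ₀ : AddChar A ℂ) (hψ₀ : ψ₀ ≠ 0) :
    d * Fintype.card (IrrCharacter G) + 1 ≤ d * (d + 1) + Fintype.card A := by
  classical
  obtain ⟨𝒩, S, h𝒩, hS, h1, h2, h3, h4, h5⟩ := card_aux D hN hd hker ψ₀ hψ₀
  have h6 := card_le_card h5
  rw [card_union_of_disjoint h4, h3, card_orb D hd ψ₀ hψ₀, card_erase_of_mem (mem_univ _),
    card_univ, AddChar.card_eq] at h6
  have h7 : 𝒩.card * d ≤ ∑ χ ∈ 𝒩, (S χ).card := by
    simpa using Finset.card_nsmul_le_sum 𝒩 (fun χ => (S χ).card) d h1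
  have h8 : 0 < Fintype.card A := Fintype.card_pos
  have h9 : d * Fintype.card (IrrCharacter G) ≤ d * (d + 2 + 𝒩.card) := Nat.mul_le_mul_left _ h2
  have h6' : ∑ χ ∈ 𝒩, (S χ).card + d + 1 ≤ Fintype.card A := by omega
  nlinarith

/-- **Tight case.** If the bound is attained then, for unrelated `ψ₀, ψ₁`, some nontrivial
irreducible character has exactly the orbit of `ψ₁` as its nonprincipal constituents. -/
theorem exists_tight (hker : ∀ χ : IrrCharacter G, χ ≠ triv G → ∃ a, (χ : G → ℂ) (ι a) ≠ (χ : G → ℂ) 1)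
    (hd0 : 0 < d) (ψ₀ ψ₁ : AddChar A ℂ) (hψ₀ : ψ₀ ≠ 0) (hψ₁ : ψ₁ ≠ 0)
    (hrel : ¬ ∃ x : N, tw N x ψ₀ = ψ₁)
    (htight : d * (d + 1) + Fintype.card A ≤ d * Fintype.card (IrrCharacter G) + 1) :
    ∃ χ : IrrCharacter G, χ ≠ triv G ∧ mm D χ ψ₀ = 0 ∧
      ∀ ψ : AddChar A ℂ, ψ ≠ 0 → (mm D χ ψ ≠ 0 ↔ ∃ x : N, tw N x ψ₁ = ψ) := by
  classical
  obtain ⟨𝒩, S, h𝒩, hS, h1, h2, h3, h4, h5⟩ := card_aux D hN hd hker ψ₀ hψ₀
  have h6 := card_le_card h5
  rw [card_union_of_disjoint h4, h3, card_orb D hd ψ₀ hψ₀, card_erase_of_mem (mem_univ _),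
    card_univ, AddChar.card_eq] at h6
  have h7 : 𝒩.card * d ≤ ∑ χ ∈ 𝒩, (S χ).card := by
    simpa using Finset.card_nsmul_le_sum 𝒩 (fun χ => (S χ).card) d h1
  have h8 : 0 < Fintype.card A := Fintype.card_pos
  have h9 : d * Fintype.card (IrrCharacter G) ≤ d * (d + 2 + 𝒩.card) := Nat.mul_le_mul_left _ h2
  -- `n ≤ d |𝒩| + d + 1`
  have h10 : Fintype.card A ≤ 𝒩.card * d + d + 1 := by
    have h10' : d * (d + 1) + Fintype.card A ≤ d * (d + 2 + 𝒩.card) + 1 := by omega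
    nlinarith
  -- orbit of ψ₁ sits in the union
  have h11 : ψ₁ ∈ 𝒩.biUnion S := by
    by_contra hcon
    have hd1 : Disjoint ((𝒩.biUnion S) ∪ (univ.image (fun x : N => tw N x ψ₀)))
        (univ.image (fun x : N => tw N x ψ₁)) := by
      rw [Finset.disjoint_left]
      intro ψ hψ hψ2
      obtain ⟨x, _, rfl⟩ := mem_image.1 hψ2
      rw [mem_union] at hψ
      rcases hψ with hψ | hψ
      · apply hcon
        obtain ⟨χ, hχ, h3'⟩ := mem_biUnion.1 hψ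
        refine mem_biUnion.2 ⟨χ, hχ, ?_⟩
        rw [hS] at h3' ⊢
        exact ⟨hψ₁, by rw [mm_tw] at h3'; exact h3'.2⟩
      · obtain ⟨y, _, hy⟩ := mem_image.1 hψ
        apply hrel
        refine ⟨x⁻¹ * y, ?_⟩
        rw [tw_mul, hy, tw_inv_tw]
    have h12 : ((𝒩.biUnion S) ∪ (univ.image (fun x : N => tw N x ψ₀))) ∪
        (univ.image (fun x : N => tw N x ψ₁)) ⊆ univ.erase 0 := by
      intro ψ hψ
      rw [mem_union] at hψ
      rcases hψ with hψ | hψ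
      · exact h5 hψ
      · obtain ⟨x, _, rfl⟩ := mem_image.1 hψ
        exact mem_erase.2 ⟨tw_ne_zero N x hψ₁, mem_univ _⟩
    have h13 := card_le_card h12
    rw [card_union_of_disjoint hd1, card_union_of_disjoint h4, h3, card_orb D hd ψ₀ hψ₀,
      card_orb D hd ψ₁ hψ₁, card_erase_of_mem (mem_univ _), card_univ, AddChar.card_eq] at h13
    omega
  obtain ⟨χ, hχ, hχ1⟩ := mem_biUnion.1 h11
  obtain ⟨hχ2, hχ3⟩ := (h𝒩 χ).1 hχ
  refine ⟨χ, hχ2, hχ3, ?_⟩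
  -- each `S χ` has exactly `d` elements
  have h14 : (S χ).card ≤ d := by
    have h15 : (S χ).card + ∑ c ∈ 𝒩.erase χ, (S c).card = ∑ c ∈ 𝒩, (S c).card :=
      Finset.add_sum_erase 𝒩 (fun χ => (S χ).card) hχ
    have h16 : (𝒩.erase χ).card * d ≤ ∑ χ ∈ 𝒩.erase χ, (S χ).card := by
      simpa using Finset.card_nsmul_le_sum (𝒩.erase χ) (fun χ => (S χ).card) d
        (fun c hc => h1 c (mem_of_mem_erase hc))
    have h17 : (𝒩.erase χ).card + 1 = 𝒩.card := card_erase_add_one hχ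
    have h18 : ∑ χ ∈ 𝒩, (S χ).card + d + 1 ≤ Fintype.card A := by omega
    have h19 : 𝒩.card * d = (𝒩.erase χ).card * d + d := by rw [← h17]; ring
    omega
  have h20 : (univ.image (fun x : N => tw N x ψ₁)) = S χ := by
    refine Finset.eq_of_subset_of_card_le ?_ ?_
    · intro ψ hψ
      obtain ⟨x, _, rfl⟩ := mem_image.1 hψ
      rw [hS]
      refine ⟨tw_ne_zero N x hψ₁, ?_⟩
      rw [mm_tw]
      exact ((hS _ _).1 hχ1).2
    · rw [card_orb D hd ψ₁ hψ₁]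
      exact h14
  intro ψ hψ
  constructor
  · intro h21
    have h22 : ψ ∈ S χ := (hS _ _).2 ⟨hψ, h21⟩
    rw [← h20] at h22
    obtain ⟨x, _, hx⟩ := mem_image.1 h22
    exact ⟨x, hx⟩
  · rintro ⟨x, rfl⟩
    rw [mm_tw]
    exact ((hS _ _).1 hχ1).2

end Cfsg.Agent.Lib.ZassAbV19
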