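import Mathlib

/-!
# An automorphism of an odd order Z-group inverting its Sylow subgroups modulo inner automorphisms

If `τ` is an automorphism of a finite Z-group of odd order such that for each prime `r` dividing the
index of the commutator subgroup and each Sylow `r`-subgroup `R`, the composition of `τ` with an inner
automorphism inverts `R`, then the group is abelian and `τ` is the inversion.
-/

set_option autoImplicit false

namespace Cfsg.Agent.Lib.ZGroupInv

variable {A : Type*} [Group A] [Finite A] [IsZGroup A]

/-- Automorphisms of a cyclic group commute. -/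
theorem mulAut_comm {C : Type*} [Group C] [Finite C] [hC : IsCyclic C] (x y : MulAut C) :
    x * y = y * x := by
  let e := IsCyclic.mulAutMulEquiv C
  apply e.injective
  rw [map_mul, map_mul, mul_comm]

theorem main (hodd : Odd (Nat.card A)) (τ : A ≃* A)
    (hR : ∀ r : ℕ, r.Prime → r ∣ (commutator A).index → ∀ R : Subgroup A, IsPGroup r R →
      ¬ r ∣ R.index → ∃ c : A, ∀ y ∈ R, τ (c * y * c⁻¹) = y⁻¹) :
    (∀ x y : A, x * y = y * x) ∧ ∀ y, τ y = y⁻¹ := by
  classical
  let π : A →* Abelianization A := Abelianization.of
  let θ : A →* Abelianization A := (π.comp τ.toMonoidHom) * π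
  have hθ : ∀ h, θ h = π (τ h) * π h := fun h => rfl
  have hCD : commutator A ≤ θ.ker := Abelianization.commutator_subset_ker θ
  have hker : π.ker = commutator A := Abelianization.ker_of A
  have hconj : ∀ (c y : A), π (c * y * c⁻¹) = π y := by
    intro c y
    rw [map_mul, map_mul, map_inv, mul_comm (π c), mul_assoc, mul_inv_cancel, mul_one]
  have hRD : ∀ r : ℕ, r.Prime → r ∣ (commutator A).index → ∀ R : Subgroup A, IsPGroup r R →
      ¬ r ∣ R.index → R ≤ θ.ker := by
    intro r hr hrC R hRp hRi y hy
    obtain ⟨c, hc⟩ := hR r hr hrC R hRp hRi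
    rw [MonoidHom.mem_ker]
    have h1 : θ (c * y * c⁻¹) = θ y := by
      rw [map_mul, map_mul, map_inv, mul_comm (θ c), mul_assoc, mul_inv_cancel, mul_one]
    rw [← h1, hθ, hc y hy, hconj, map_inv, inv_mul_cancel]
  have hDtop : θ.ker = ⊤ := by
    rw [← Subgroup.index_eq_one]
    by_contra hne
    obtain ⟨l, hl, hlD⟩ := Nat.exists_prime_and_dvd hne
    by_cases hlC : l ∣ (commutator A).index
    · have : Fact l.Prime := ⟨hl⟩
      let R : Sylow l A := default
      have hle := hRD l hl hlC R R.2 R.not_dvd_index
      exact R.not_dvd_index (hlD.trans (Subgroup.index_dvd_of_le hle))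
    · exact hlC (hlD.trans (Subgroup.index_dvd_of_le hCD))
  -- `τ h * h` lies in the commutator subgroup
  have hmem : ∀ h, τ h * h ∈ commutator A := by
    intro h
    rw [← hker, MonoidHom.mem_ker, map_mul]
    have : h ∈ θ.ker := by rw [hDtop]; trivial
    rw [MonoidHom.mem_ker, hθ] at this
    exact this
  -- the commutator subgroup is cyclic
  have hcyc : IsCyclic (commutator A) := IsZGroup.isCyclic_commutator A
  have hCn : (commutator A).Normal := inferInstance
  have hτC : ∀ c, c ∈ commutator A → τ c ∈ commutator A := by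
    intro c hc
    have : c ∈ (π.comp τ.toMonoidHom).ker := Abelianization.commutator_subset_ker _ hc
    rw [MonoidHom.mem_ker] at this
    rw [← hker, MonoidHom.mem_ker]
    exact this
  have hτC' : ∀ c, c ∈ commutator A → τ.symm c ∈ commutator A := by
    intro c hc
    have : c ∈ (π.comp τ.symm.toMonoidHom).ker := Abelianization.commutator_subset_ker _ hc
    rw [MonoidHom.mem_ker] at this
    rw [← hker, MonoidHom.mem_ker]
    exact this
  let τC : MulAut (commutator A) :=
    { toFun := fun c => ⟨τ c, hτC c c.2⟩
      invFun := fun c => ⟨τ.symm c, hτC' c c.2⟩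
      left_inv := fun c => by apply Subtype.ext; simp
      right_inv := fun c => by apply Subtype.ext; simp
      map_mul' := fun c d => by apply Subtype.ext; simp }
  let conjC : A → MulAut (commutator A) := fun h =>
    { toFun := fun c => ⟨h * c * h⁻¹, hCn.conj_mem c c.2 h⟩
      invFun := fun c => ⟨h⁻¹ * c * h, by
        have := hCn.conj_mem c c.2 h⁻¹
        rwa [inv_inv] at this⟩
      left_inv := fun c => by apply Subtype.ext; simp [mul_assoc]
      right_inv := fun c => by apply Subtype.ext; simp [mul_assoc]
      map_mul' := fun c d => by apply Subtype.ext; simp [mul_assoc] }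
  have hcommC : ∀ c d : commutator A, (c : A) * d = d * c := by
    obtain ⟨g, hg⟩ := hcyc.exists_generator
    intro c d
    obtain ⟨i, hi⟩ := Subgroup.mem_zpowers_iff.mp (hg c)
    obtain ⟨j, hj⟩ := Subgroup.mem_zpowers_iff.mp (hg d)
    rw [← hi, ← hj]
    simp only [Subgroup.coe_zpow]
    exact (Commute.refl _).zpow_zpow _ _
  -- squares centralise the commutator subgroup
  have hsq : ∀ (h : A) (c : commutator A), h * h * c = c * (h * h) := by
    intro h c
    -- write `c = τ d`
    set d : commutator A := τC.symm c with hd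
    have hτd : τ (d : A) = c := by
      have : τC d = c := by rw [hd]; simp
      exact congrArg Subtype.val this
    have h1 : (τC * conjC h) d = (conjC h * τC) d := by
      rw [mulAut_comm]
    have h2 : τ (h * d * h⁻¹) = h * τ d * h⁻¹ := congrArg Subtype.val h1
    rw [map_mul, map_mul, map_inv, hτd] at h2
    -- `τ h = w * h⁻¹`
    set w : commutator A := ⟨τ h * h, hmem h⟩ with hw
    have hτh : τ h = w * h⁻¹ := by simp [hw]
    rw [hτh, mul_inv_rev, inv_inv] at h2
    have hx : h⁻¹ * c * h ∈ commutator A := by
      have := hCn.conj_mem c c.2 h⁻¹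
      rwa [inv_inv] at this
    have h3 : (w : A) * (h⁻¹ * c * h) * (w : A)⁻¹ = h⁻¹ * c * h := by
      have e : (w : A) * (h⁻¹ * c * h) = (h⁻¹ * c * h) * w := hcommC w ⟨_, hx⟩
      rw [e, mul_assoc, mul_inv_cancel, mul_one]
    have h4 : h⁻¹ * c * h = h * c * h⁻¹ := by
      rw [← h3, ← h2]; group
    calc h * h * c = (h * (h * c * h⁻¹) * h⁻¹) * (h * h) := by group
      _ = (h * (h⁻¹ * c * h) * h⁻¹) * (h * h) := by rw [h4]
      _ = c * (h * h) := by group
  -- so does everything, by oddness
  have hcen : ∀ (h : A) (c : commutator A), h * c = c * h := by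
    intro h c
    obtain ⟨m, hm⟩ := hodd
    have h1 : h ^ (2 * (m + 1)) = h := by
      have h2 : h ^ Nat.card A = 1 := pow_card_eq_one'
      have : 2 * (m + 1) = Nat.card A + 1 := by omega
      rw [this, pow_succ, h2, one_mul]
    have h3 : h = (h * h) ^ (m + 1) := by
      rw [← pow_two, ← pow_mul, h1]
    rw [h3]
    have h4 : Commute (h * h) (c : A) := hsq h c
    exact (h4.pow_left _)
  have hle : π.ker ≤ Subgroup.center A := by
    rw [hker]
    intro c hc
    rw [Subgroup.mem_center_iff]
    intro h
    exact hcen h ⟨c, hc⟩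
  have hcomm : ∀ x y : A, x * y = y * x :=
    (MonoidHom.isMulCommutative_of_isCyclic_of_ker_le_center π hle).is_comm.comm
  refine ⟨hcomm, ?_⟩
  intro y
  have h1 : τ y * y ∈ commutator A := hmem y
  have h2 : commutator A = ⊥ := by
    rw [commutator_def, Subgroup.commutator_eq_bot_iff_le_centralizer]
    intro x _
    rw [Subgroup.mem_centralizer_iff]
    intro z _
    exact hcomm z x
  rw [h2, Subgroup.mem_bot] at h1
  exact eq_inv_of_mul_eq_one_left h1

end Cfsg.Agent.Lib.ZGroupInv
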