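import Mathlib
import Cfsg.Agent.Lib.ZassCore
import Cfsg.Agent.Lib.FrobCount

/-!
# Zassenhaus groups whose two-point stabiliser is large

If `|Ω| - 2 ≤ 2 |G_{ab}|`, the kernel of a point stabiliser is elementary abelian.
-/

set_option autoImplicit false

namespace Cfsg.Agent.Lib.ZassP

open Cfsg MulAction Cfsg.Agent.Lib.ZassCore

variable {G Ω : Type*} [Group G] [MulAction G Ω]

/-- A normal regular subgroup of a point stabiliser is its kernel. -/
theorem isKernelAt_of_regular [Fintype Ω] [Finite G] (hZ : IsZassenhausGroup G Ω) (a : Ω)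
    (F : Subgroup G) (hFle : F ≤ stabilizer G a) (hFn : (F.subgroupOf (stabilizer G a)).Normal)
    (hreg : ∀ y z : Ω, y ≠ a → z ≠ a → ∃! u : F, (u : G) • y = z) : IsKernelAt G a F := by
  classical
  have hfix : ∀ u ∈ F, u ≠ 1 → ∀ c : Ω, u • c = c → c = a := by
    intro u hu hu1 c hc
    by_contra hca
    have h1 := (hreg c c hca hca).unique (y₁ := ⟨u, hu⟩) (y₂ := 1) hc (one_smul _ _)
    exact hu1 (congrArg Subtype.val h1)
  obtain ⟨g, -, a', b', c', hab, -, -, hc'⟩ := Cfsg.Agent.Lib.Zassenhaus.exists_three hZ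
  obtain ⟨b, hb⟩ : ∃ y : Ω, y ≠ a := by
    by_cases h : a' = a
    · exact ⟨b', fun h2 => hab (h.trans h2.symm)⟩
    · exact ⟨a', h⟩
  have hcard : Nat.card F + 1 = Fintype.card Ω := by
    have h1 : Nat.card F = Nat.card {c : Ω // c ≠ a} := by
      refine Nat.card_congr (Equiv.ofBijective
        (fun k : F => (⟨(k : G) • b, ?_⟩ : {c : Ω // c ≠ a})) ⟨?_, ?_⟩)
      · intro h
        apply hb
        have : (k : G) • b = (k : G) • a := by rw [h, mem_stabilizer_iff.mp (hFle k.2)]
        exact smul_left_cancel _ this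
      · intro k l hkl
        have h2 : (k : G) • b = (l : G) • b := congrArg Subtype.val hkl
        exact (hreg b ((l : G) • b) hb (by
          intro h
          apply hb
          have : (l : G) • b = (l : G) • a := by rw [h, mem_stabilizer_iff.mp (hFle l.2)]
          exact smul_left_cancel _ this)).unique h2 rfl
      · intro c
        obtain ⟨k, hk, -⟩ := hreg b c hb c.2
        exact ⟨k, Subtype.ext hk⟩
    rw [h1, Nat.card_eq_fintype_card, Fintype.card_subtype_compl, Fintype.card_subtype_eq]
    have : 1 ≤ Fintype.card Ω := Fintype.card_pos_iff.mpr ⟨a⟩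
    omega
  refine ⟨fun k hk => mem_stabilizer_iff.mp (hFle hk), ?_, ?_, ?_⟩
  · intro g hg k hk
    have h1 := hFn.conj_mem (⟨k, hFle hk⟩ : stabilizer G a) (by
      rw [Subgroup.mem_subgroupOf]; exact hk) ⟨g, hg⟩
    rw [Subgroup.mem_subgroupOf] at h1
    simpa using h1
  · intro g hg
    constructor
    · intro hgF
      by_cases hg1 : g = 1
      · exact Or.inl hg1
      · right
        intro c hc hgc
        exact hc (hfix g hgF hg1 c hgc)
    · rintro (h | h)
      · rw [h]; exact F.one_mem
      · exact Cfsg.Agent.Lib.Zassenhaus.mem_kernel_of_fix_only hZ a F hFle hcard hfix hg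
          (fun c hgc => by
            by_contra hca
            exact h c hca hgc)
  · intro c d hc hd
    obtain ⟨u, hu, hu2⟩ := hreg c d hc hd
    refine ⟨u, ⟨u.2, hu⟩, ?_⟩
    rintro y ⟨hy, hyc⟩
    exact congrArg Subtype.val (hu2 ⟨y, hy⟩ hyc)

section Large

variable [Fintype Ω] (hZ : IsZassenhausGroup G Ω) {a b : Ω} (hab : a ≠ b) {K : Subgroup G}
  (hK : IsKernelAt G a K)

include hZ hab hK

/-- The two-point stabiliser acts freely on the kernel. -/
theorem eq_one_of_commute {h x : G} (ha : h • a = a) (hb : h • b = b) (hx : x ∈ K) (hx1 : x ≠ 1)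
    (hc : h * x = x * h) : h = 1 := by
  have hxb : x • b ≠ b := fun h2 => hx1 (hK.eq_one_of_fix hx hab.symm h2)
  have hxa : x • b ≠ a := by
    intro h2
    apply hab.symm
    have : x • b = x • a := by rw [h2, hK.le x hx]
    exact smul_left_cancel _ this
  have h3 : h • (x • b) = x • b := by rw [← mul_smul, hc, mul_smul, hb]
  exact hZ.2.2.1 h a b (x • b) hab (Ne.symm hxb) (Ne.symm hxa) ha hb h3

/-- Orbits of the two-point stabiliser on the kernel have full length. -/
theorem card_lt_of_invariant (X : Subgroup G) (hXK : X ≤ K)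
    (hXinv : ∀ h : G, h • a = a → h • b = b → ∀ x ∈ X, h * x * h⁻¹ ∈ X) (hX : X ≠ ⊥) :
    Nat.card ↥(stabilizer G a ⊓ stabilizer G b) + 1 ≤ Nat.card X := by
  classical
  have := finite_of_zass hZ
  obtain ⟨x, hx⟩ := (Subgroup.ne_bot_iff_exists_ne_one (H := X)).1 hX
  have hx1 : (x : G) ≠ 1 := fun h => hx (Subtype.ext h)
  let f : ↥(stabilizer G a ⊓ stabilizer G b) → X := fun h =>
    ⟨h * x * (h : G)⁻¹, hXinv h h.2.1 h.2.2 x x.2⟩
  have hf : Function.Injective f := by
    intro h l hhl
    have h1 : (h : G) * x * (h : G)⁻¹ = l * x * (l : G)⁻¹ := congrArg Subtype.val hhl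
    have h2 : ((l : G)⁻¹ * h) * x = x * ((l : G)⁻¹ * h) := by
      calc ((l : G)⁻¹ * h) * x = (l : G)⁻¹ * ((h : G) * x * (h : G)⁻¹) * h := by group
        _ = (l : G)⁻¹ * (l * x * (l : G)⁻¹) * h := by rw [h1]
        _ = x * ((l : G)⁻¹ * h) := by group
    have h3 := eq_one_of_commute hZ hab hK (h := (l : G)⁻¹ * h)
      (by rw [mul_smul, h.2.1]; exact inv_smul_eq_iff.mpr l.2.1.symm)
      (by rw [mul_smul, h.2.2]; exact inv_smul_eq_iff.mpr l.2.2.symm) (hXK x.2) hx1 h2
    exact Subtype.ext (inv_mul_eq_one.mp h3).symm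
  have hne : ∀ h, f h ≠ 1 := by
    intro h h1
    have h2 : (h : G) * x * (h : G)⁻¹ = 1 := congrArg Subtype.val h1
    apply hx1
    have : (x : G) = (h : G)⁻¹ * ((h : G) * x * (h : G)⁻¹) * h := by group
    rw [this, h2]; simp
  let f' : Option ↥(stabilizer G a ⊓ stabilizer G b) → X := fun o => match o with
    | none => 1
    | some h => f h
  have hf' : Function.Injective f' := by
    rintro (_ | h) (_ | l) hhl
    · rfl
    · exact absurd hhl.symm (hne l)
    · exact absurd hhl (hne h)
    · exact congrArg some (hf hhl)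
  have h2 := Nat.card_le_card_of_injective f' hf'
  rwa [Finite.card_option] at h2

variable (hd : Fintype.card Ω - 2 ≤ 2 * Nat.card ↥(stabilizer G a ⊓ stabilizer G b))

include hd

/-- The kernel has no proper non-trivial subgroup invariant under the two-point stabiliser. -/
theorem invariant_eq (X : Subgroup G) (hXK : X ≤ K)
    (hXinv : ∀ h : G, h • a = a → h • b = b → ∀ x ∈ X, h * x * h⁻¹ ∈ X) (hX : X ≠ ⊥) : X = K := by
  classical
  have := finite_of_zass hZ
  have h1 := card_lt_of_invariant hZ hab hK X hXK hXinv hX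
  have hKc := hK.card_add_one hab.symm
  rw [Nat.card_eq_fintype_card (α := Ω)] at hKc
  -- index
  have h2 : Nat.card X * (X.subgroupOf K).index = Nat.card K := by
    have := (X.subgroupOf K).card_mul_index
    rwa [Nat.card_congr (Subgroup.subgroupOfEquivOfLe hXK).toEquiv] at this
  by_contra hne
  have h3 : (X.subgroupOf K).index ≠ 1 := by
    intro h
    rw [Subgroup.index_eq_one, Subgroup.subgroupOf_eq_top] at h
    exact hne (le_antisymm hXK h)
  have h4 : (X.subgroupOf K).index ≠ 0 := Subgroup.index_ne_zero_of_finite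
  have h5 : 2 ≤ (X.subgroupOf K).index := by omega
  have h6 : Nat.card X * 2 ≤ Nat.card K := by
    rw [← h2]; exact Nat.mul_le_mul_left _ h5
  omega

/-- The kernel is a `p`-group. -/
theorem exists_prime_pow : ∃ p f : ℕ, p.Prime ∧ Nat.card K = p ^ f := by
  classical
  have := finite_of_zass hZ
  have hKc := hK.card_add_one hab.symm
  rw [Nat.card_eq_fintype_card (α := Ω)] at hKc
  have h3 : 3 ≤ Fintype.card Ω := Cfsg.Agent.Lib.Zassenhaus.three_le_card hZ
  have h1K : Nat.card K ≠ 1 := by omega
  set p := (Nat.card K).minFac with hp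
  have hpp : p.Prime := Nat.minFac_prime h1K
  have hpK : p ∣ Nat.card K := Nat.minFac_dvd _
  refine ⟨p, _, hpp, Nat.eq_prime_pow_of_unique_prime_dvd Nat.card_pos.ne' ?_⟩
  intro q hq hqK
  by_contra hqp
  -- elements of order `p` and `q`
  have : Fact p.Prime := ⟨hpp⟩
  have : Fact q.Prime := ⟨hq⟩
  obtain ⟨x, hx⟩ := exists_prime_orderOf_dvd_card' p hpK
  obtain ⟨y, hy⟩ := exists_prime_orderOf_dvd_card' q hqK
  have hx' : orderOf (x : G) = p := by rw [Subgroup.orderOf_coe]; exact hx
  have hy' : orderOf (y : G) = q := by rw [Subgroup.orderOf_coe]; exact hy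
  have hx1 : (x : G) ≠ 1 := by
    intro h; rw [h, orderOf_one] at hx'; exact hpp.one_lt.ne hx'
  have hy1 : (y : G) ≠ 1 := by
    intro h; rw [h, orderOf_one] at hy'; exact hq.one_lt.ne hy'
  -- the two orbits
  let H := stabilizer G a ⊓ stabilizer G b
  let f : H → K := fun h => ⟨h * x * (h : G)⁻¹, hK.normal h h.2.1 x x.2⟩
  let g : H → K := fun h => ⟨h * y * (h : G)⁻¹, hK.normal h h.2.1 y y.2⟩
  have hcomm : ∀ (l h : H) (z : G), z ∈ K → z ≠ 1 →
      (h : G) * z * (h : G)⁻¹ = l * z * (l : G)⁻¹ → h = l := by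
    intro l h z hz hz1 h1
    have h2 : ((l : G)⁻¹ * h) * z = z * ((l : G)⁻¹ * h) := by
      calc ((l : G)⁻¹ * h) * z = (l : G)⁻¹ * ((h : G) * z * (h : G)⁻¹) * h := by group
        _ = (l : G)⁻¹ * (l * z * (l : G)⁻¹) * h := by rw [h1]
        _ = z * ((l : G)⁻¹ * h) := by group
    have h3 := eq_one_of_commute hZ hab hK (h := (l : G)⁻¹ * h)
      (by rw [mul_smul, h.2.1]; exact inv_smul_eq_iff.mpr l.2.1.symm)
      (by rw [mul_smul, h.2.2]; exact inv_smul_eq_iff.mpr l.2.2.symm) hz hz1 h2
    exact Subtype.ext (inv_mul_eq_one.mp h3).symm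
  have hf : Function.Injective f := fun h l hhl =>
    hcomm l h x x.2 hx1 (congrArg Subtype.val hhl)
  have hg : Function.Injective g := fun h l hhl =>
    hcomm l h y y.2 hy1 (congrArg Subtype.val hhl)
  have horder : ∀ (h z : G), orderOf (h * z * h⁻¹) = orderOf z := fun h z =>
    (SemiconjBy.orderOf_eq (a := h) (x := z) (y := h * z * h⁻¹) (by simp [SemiconjBy])).symm
  have hford : ∀ h, orderOf ((f h : K) : G) = p := fun h => by
    show orderOf ((h : G) * x * (h : G)⁻¹) = p
    rw [horder, hx']
  have hgord : ∀ h, orderOf ((g h : K) : G) = q := fun h => by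
    show orderOf ((h : G) * y * (h : G)⁻¹) = q
    rw [horder, hy']
  -- `K \ {1}` is the union of the two orbits
  let _ : Fintype K := Fintype.ofFinite K
  let e : H ⊕ H → {u : K // u ≠ 1} := Sum.elim (fun h => ⟨f h, fun h1 => by
      have := hford h
      rw [h1] at this
      simp only [Subgroup.coe_one, orderOf_one] at this
      exact hpp.one_lt.ne this⟩) (fun h => ⟨g h, fun h1 => by
      have := hgord h
      rw [h1] at this
      simp only [Subgroup.coe_one, orderOf_one] at this
      exact hq.one_lt.ne this⟩)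
  have he : Function.Injective e := by
    rintro (h | h) (l | l) hhl
    · exact congrArg Sum.inl (hf (congrArg Subtype.val hhl))
    · exfalso
      have h1 : f h = g l := congrArg Subtype.val hhl
      have h2 := hford h
      rw [h1, hgord l] at h2
      exact hqp h2
    · exfalso
      have h1 : g h = f l := congrArg Subtype.val hhl
      have h2 := hgord h
      rw [h1, hford l] at h2
      exact hqp h2.symm
    · exact congrArg Sum.inr (hg (congrArg Subtype.val hhl))
  have hcard1 : Nat.card {u : K // u ≠ 1} + 1 = Nat.card K := by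
    rw [Nat.card_eq_fintype_card, Nat.card_eq_fintype_card, Fintype.card_subtype_compl,
      Fintype.card_subtype_eq]
    have : 1 ≤ Fintype.card K := Fintype.card_pos
    omega
  have hcard2 : Nat.card (H ⊕ H) = Nat.card H + Nat.card H := Nat.card_sum
  have hd' : Nat.card K - 1 ≤ 2 * Nat.card H := by
    have h1 : Nat.card K - 1 = Fintype.card Ω - 2 := by omega
    rw [h1]; exact hd
  have hle : Nat.card {u : K // u ≠ 1} ≤ Nat.card (H ⊕ H) := by omega
  have hbij : Function.Bijective e := he.bijective_of_nat_card_le hle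
  have hle2 : Nat.card (H ⊕ H) ≤ Nat.card {u : K // u ≠ 1} :=
    Nat.card_le_card_of_injective e he
  have hKn : Nat.card K = 2 * Nat.card H + 1 := by omega
  -- the solutions of `u ^ p = 1`
  have hsol : Nat.card {u : K // u ^ p = 1} = Nat.card H + 1 := by
    have h1 : Nat.card {u : K // u ^ p = 1} = Nat.card (Option H) := by
      symm
      refine Nat.card_congr (Equiv.ofBijective
        (fun o : Option H => match o with
          | none => ⟨1, one_pow _⟩
          | some h => ⟨f h, by
              have := hford h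
              apply Subtype.ext
              show ((f h : K) : G) ^ p = 1
              rw [← this]
              exact pow_orderOf_eq_one _⟩) ⟨?_, ?_⟩)
      · rintro (_ | h) (_ | l) hhl
        · rfl
        · exfalso
          have h1 : (1 : K) = f l := congrArg Subtype.val hhl
          have h2 := hford l
          rw [← h1] at h2
          simp only [Subgroup.coe_one, orderOf_one] at h2
          exact hpp.one_lt.ne h2
        · exfalso
          have h1 : f h = (1 : K) := congrArg Subtype.val hhl
          have h2 := hford h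
          rw [h1] at h2
          simp only [Subgroup.coe_one, orderOf_one] at h2
          exact hpp.one_lt.ne h2
        · exact congrArg some (hf (congrArg Subtype.val hhl))
      · rintro ⟨u, hu⟩
        by_cases hu1 : u = 1
        · exact ⟨none, Subtype.ext hu1.symm⟩
        obtain ⟨o, ho⟩ := hbij.2 ⟨u, hu1⟩
        rcases o with h | h
        · have h9 : f h = u := congrArg Subtype.val ho
          exact ⟨some h, Subtype.ext h9⟩
        · exfalso
          have h1 : g h = u := congrArg Subtype.val ho
          have h2 := hgord h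
          rw [h1] at h2
          have h3 : orderOf (u : G) ∣ p := by
            apply orderOf_dvd_of_pow_eq_one
            have := congrArg Subtype.val hu
            simpa using this
          rw [h2] at h3
          exact hqp ((Nat.prime_dvd_prime_iff_eq hq hpp).mp h3)
    rw [h1, Finite.card_option]
  have h5 : p ∣ Nat.card H + 1 := by
    rw [← hsol]
    exact Cfsg.Agent.Lib.FrobCount.frobenius_dvd_card_pow_eq_one K p hpK
  have h6 : p ∣ 2 * Nat.card H + 1 := by rw [← hKn]; exact hpK
  have h7 : p ∣ 1 := by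
    have h8 : p ∣ 2 * (Nat.card H + 1) := Dvd.dvd.mul_left h5 2
    have h9 : 2 * (Nat.card H + 1) = (2 * Nat.card H + 1) + 1 := by ring
    rw [h9] at h8
    exact (Nat.dvd_add_right h6).mp h8
  exact hpp.one_lt.ne' (Nat.dvd_one.mp h7)

/-- The kernel is abelian of prime exponent. -/
theorem elementary : (∀ x ∈ K, ∀ y ∈ K, x * y = y * x) ∧ ∃ p f : ℕ, p.Prime ∧ (∀ u ∈ K, u ^ p = 1) ∧
    Nat.card K = p ^ f := by
  classical
  have := finite_of_zass hZ
  obtain ⟨p, f, hp, hcard⟩ := exists_prime_pow hZ hab hK hd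
  have : Fact p.Prime := ⟨hp⟩
  have hP : IsPGroup p K := IsPGroup.of_card hcard
  have hKc := hK.card_add_one hab.symm
  rw [Nat.card_eq_fintype_card (α := Ω)] at hKc
  have h3 : 3 ≤ Fintype.card Ω := Cfsg.Agent.Lib.Zassenhaus.three_le_card hZ
  have hnt : Nontrivial K := by
    apply (Finite.one_lt_card_iff_nontrivial).mp
    omega
  have := hP.center_nontrivial
  obtain ⟨z, hz⟩ := exists_ne (1 : Subgroup.center K)
  have hz1 : ((z : K) : G) ≠ 1 := fun h => hz (Subtype.ext (Subtype.ext h))
  -- the centre
  let Z : Subgroup G := K ⊓ Subgroup.centralizer (K : Set G)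
  have hZK : Z = K := by
    refine invariant_eq hZ hab hK hd Z inf_le_left ?_ ?_
    · rintro h hha hhb x ⟨hx, hx2⟩
      refine ⟨hK.normal h hha x hx, Subgroup.mem_centralizer_iff.mpr ?_⟩
      replace hx2 := Subgroup.mem_centralizer_iff.mp hx2
      intro y hy
      have hy' : h⁻¹ * y * h ∈ K := by
        have := hK.normal h⁻¹ (inv_smul_eq_iff.mpr hha.symm) y hy
        rwa [inv_inv] at this
      have h4 := hx2 _ hy'
      calc y * (h * x * h⁻¹) = h * ((h⁻¹ * y * h) * x) * h⁻¹ := by group
        _ = h * (x * (h⁻¹ * y * h)) * h⁻¹ := by rw [h4]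
        _ = h * x * h⁻¹ * y := by group
    · intro hbot
      apply hz1
      have : ((z : K) : G) ∈ Z := by
        refine ⟨(z : K).2, Subgroup.mem_centralizer_iff.mpr ?_⟩
        intro y hy
        have := (Subgroup.mem_center_iff.mp z.2) ⟨y, hy⟩
        exact congrArg Subtype.val this
      rw [hbot] at this
      exact Subgroup.mem_bot.mp this
  have hcomm : ∀ x ∈ K, ∀ y ∈ K, x * y = y * x := by
    intro x hx y hy
    have hy' : y ∈ Z := by rw [hZK]; exact hy
    have := Subgroup.mem_centralizer_iff.mp hy'.2 x hx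
    exact this
  refine ⟨hcomm, p, f, hp, ?_, hcard⟩
  -- the elements of order `p`
  let X : Subgroup G :=
    { carrier := {u | u ∈ K ∧ u ^ p = 1}
      mul_mem' := by
        rintro x y ⟨hx, hx2⟩ ⟨hy, hy2⟩
        refine ⟨K.mul_mem hx hy, ?_⟩
        have : Commute x y := hcomm x hx y hy
        rw [this.mul_pow, hx2, hy2, one_mul]
      one_mem' := ⟨K.one_mem, one_pow _⟩
      inv_mem' := by
        rintro x ⟨hx, hx2⟩
        exact ⟨K.inv_mem hx, by rw [inv_pow, hx2, inv_one]⟩ }
  have hXK : X = K := by
    refine invariant_eq hZ hab hK hd X (fun u hu => hu.1) ?_ ?_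
    · rintro h hha hhb x ⟨hx, hx2⟩
      refine ⟨hK.normal h hha x hx, ?_⟩
      rw [conj_pow, hx2]; simp
    · have hpK : p ∣ Nat.card K := by
        rw [hcard]
        apply dvd_pow_self
        rintro rfl
        simp only [pow_zero] at hcard
        omega
      obtain ⟨x, hx⟩ := exists_prime_orderOf_dvd_card' p hpK
      have hx' : orderOf (x : G) = p := by rw [Subgroup.orderOf_coe]; exact hx
      intro hbot
      have : (x : G) ∈ X := ⟨x.2, by rw [← hx']; exact pow_orderOf_eq_one _⟩
      rw [hbot] at this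
      have h1 := Subgroup.mem_bot.mp this
      rw [h1, orderOf_one] at hx'
      exact hp.one_lt.ne hx'
  intro u hu
  have : u ∈ X := by rw [hXK]; exact hu
  exact this.2

end Large

end Cfsg.Agent.Lib.ZassP
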