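import Mathlib
import Cfsg.Agent.Lib.ZassP
import Cfsg.Agent.Lib.ZGroupInv
import Cfsg.Agent.Lib.FrobCompl

/-!
# The two-point stabiliser of a Zassenhaus group

`card_group`: the order of the group. `isCyclic_of_isPGroup`: odd `p`-subgroups of the two-point
stabiliser are cyclic. `odd_main`: if the two-point stabiliser has odd order and the group has no
normal `q`-complements, it is cyclic and inverted by each element interchanging the two points.
-/

set_option autoImplicit false

namespace Cfsg.Agent.Lib.ZassH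

open Cfsg MulAction Cfsg.Agent.Lib.ZassCore Cfsg.Agent.Lib.FpfNorm
open scoped commutatorElement

variable {G Ω : Type*} [Group G] [MulAction G Ω]

/-- A cyclic group of odd prime power order: an element normalising it with square centralising it
centralises or inverts it. -/
theorem centralizes_or_inverts (C : Subgroup G) [hC : IsCyclic C] {r : ℕ} (hr : r.Prime) (hr2 : r ≠ 2)
    (hCr : IsPGroup r C) [Finite C] (x : G) (hx : ∀ y ∈ C, x * y * x⁻¹ ∈ C)
    (hxx : ∀ y ∈ C, x * x * y * (x * x)⁻¹ = y) :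
    (∀ y ∈ C, x * y * x⁻¹ = y) ∨ (∀ y ∈ C, x * y * x⁻¹ = y⁻¹) := by
  classical
  have : Fact r.Prime := ⟨hr⟩
  obtain ⟨g, hg⟩ := hC.exists_generator
  obtain ⟨k, hk⟩ := Subgroup.mem_zpowers_iff.mp (hg ⟨x * g * x⁻¹, hx g g.2⟩)
  have hk' : (g : G) ^ k = x * g * x⁻¹ := by
    have := congrArg Subtype.val hk
    simpa using this
  have hconjz : ∀ (t : ℤ), x * ((g : G) ^ t) * x⁻¹ = (g : G) ^ (k * t) := by
    intro t
    rw [zpow_mul, hk', ← conj_zpow]
  have h1 : (g : G) ^ (k * k) = g := by
    have := hxx g g.2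
    have h2 : x * x * (g : G) * (x * x)⁻¹ = x * (x * g * x⁻¹) * x⁻¹ := by group
    rw [h2, ← hk', hconjz] at this
    exact this
  have h2 : (orderOf (g : G) : ℤ) ∣ k * k - 1 := by
    rw [orderOf_dvd_iff_zpow_eq_one, zpow_sub, zpow_one, h1, mul_inv_cancel]
  obtain ⟨m, hm⟩ := (IsPGroup.iff_orderOf.mp hCr) g
  have hm' : orderOf (g : G) = r ^ m := by rw [Subgroup.orderOf_coe]; exact hm
  rw [hm'] at h2
  have hfac : k * k - 1 = (k - 1) * (k + 1) := by ring
  rw [hfac] at h2
  have hrI : Prime (r : ℤ) := Nat.prime_iff_prime_int.mp hr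
  by_cases hdvd : (r : ℤ) ∣ k + 1
  · -- then `r ∤ k - 1`
    have hnd : ¬ (r : ℤ) ∣ k - 1 := by
      intro h
      have h3 : (r : ℤ) ∣ 2 := by
        have := dvd_sub hdvd h
        have e : (k + 1) - (k - 1) = 2 := by ring
        rwa [e] at this
      have h4 : r ∣ 2 := by exact_mod_cast h3
      exact hr2 ((Nat.prime_dvd_prime_iff_eq hr Nat.prime_two).mp h4)
    have hco : IsCoprime ((r : ℤ) ^ m) (k - 1) :=
      IsCoprime.pow_left ((Irreducible.coprime_iff_not_dvd hrI.irreducible).mpr hnd)
    have h3 : ((r : ℤ) ^ m) ∣ k + 1 := by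
      apply hco.dvd_of_dvd_mul_left
      exact_mod_cast h2
    right
    have hgk : (g : G) ^ k = (g : G)⁻¹ := by
      have : (g : G) ^ (k + 1) = 1 := by
        rw [← orderOf_dvd_iff_zpow_eq_one, hm']
        exact_mod_cast h3
      rw [zpow_add, zpow_one] at this
      exact eq_inv_of_mul_eq_one_left this
    intro y hy
    obtain ⟨t, ht⟩ := Subgroup.mem_zpowers_iff.mp (hg ⟨y, hy⟩)
    have ht' : (g : G) ^ t = y := by
      have := congrArg Subtype.val ht
      simpa using this
    rw [← ht', hconjz, zpow_mul, hgk, inv_zpow]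
  · have hco : IsCoprime ((r : ℤ) ^ m) (k + 1) :=
      IsCoprime.pow_left ((Irreducible.coprime_iff_not_dvd hrI.irreducible).mpr hdvd)
    have h3 : ((r : ℤ) ^ m) ∣ k - 1 := by
      apply hco.dvd_of_dvd_mul_right
      exact_mod_cast h2
    left
    have hgk : (g : G) ^ k = (g : G) := by
      have : (g : G) ^ (k - 1) = 1 := by
        rw [← orderOf_dvd_iff_zpow_eq_one, hm']
        exact_mod_cast h3
      rw [zpow_sub, zpow_one] at this
      exact mul_inv_eq_one.mp this
    intro y hy
    obtain ⟨t, ht⟩ := Subgroup.mem_zpowers_iff.mp (hg ⟨y, hy⟩)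
    have ht' : (g : G) ^ t = y := by
      have := congrArg Subtype.val ht
      simpa using this
    rw [← ht', hconjz, zpow_mul, hgk]

section Main

variable [Fintype Ω] (hZ : IsZassenhausGroup G Ω) {a b : Ω} (hab : a ≠ b)

include hZ

/-- The order of a Zassenhaus group. -/
theorem card_group (hab : a ≠ b) : Nat.card G =
    Fintype.card Ω * (Fintype.card Ω - 1) * Nat.card ↥(stabilizer G a ⊓ stabilizer G b) := by
  classical
  have := finite_of_zass hZ
  -- action on pairs
  have hstab : stabilizer G (a, b) = stabilizer G a ⊓ stabilizer G b := by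
    ext g
    simp [mem_stabilizer_iff, Subgroup.mem_inf, Prod.ext_iff]
  have horb : orbit G (a, b) = {p : Ω × Ω | p.1 ≠ p.2} := by
    ext ⟨c, d⟩
    constructor
    · rintro ⟨g, hg⟩
      simp only [Prod.smul_mk, Prod.mk.injEq] at hg
      show c ≠ d
      rw [← hg.1, ← hg.2]
      exact fun h => hab (smul_left_cancel _ h)
    · intro hcd
      obtain ⟨g, h1, h2⟩ := Cfsg.Agent.Lib.Zassenhaus.two_trans hZ hab hcd
      exact ⟨g, by simp [h1, h2]⟩
  have h1 := (stabilizer G (a, b)).card_mul_index
  rw [index_stabilizer, horb, hstab] at h1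
  have h2 : Set.ncard {p : Ω × Ω | p.1 ≠ p.2} = Fintype.card Ω * (Fintype.card Ω - 1) := by
    have : {p : Ω × Ω | p.1 ≠ p.2} = ((Finset.univ : Finset Ω).offDiag : Set (Ω × Ω)) := by
      ext p; simp
    rw [this, Set.ncard_coe_finset, Finset.offDiag_card, Finset.card_univ, Nat.mul_sub, mul_one]
  rw [h2] at h1
  rw [← h1, mul_comm]

/-- Primes dividing the order of the two-point stabiliser divide `|Ω| - 2`. -/
theorem prime_dvd_sub_two (hab : a ≠ b) {q : ℕ} (hq : q.Prime)
    (hqd : q ∣ Nat.card ↥(stabilizer G a ⊓ stabilizer G b)) : q ∣ Fintype.card Ω - 2 := by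
  classical
  have := finite_of_zass hZ
  have : Fact q.Prime := ⟨hq⟩
  obtain ⟨x, hx⟩ := exists_prime_orderOf_dvd_card' q hqd
  have hx' : orderOf (x : G) = q := by rw [Subgroup.orderOf_coe]; exact hx
  have hx1 : (x : G) ≠ 1 := by
    intro h
    rw [h, orderOf_one] at hx'
    exact hq.one_lt.ne hx'
  have hxq : (x : G) ^ q = 1 := by rw [← hx']; exact pow_orderOf_eq_one _
  let σ : Equiv.Perm Ω := MulAction.toPerm (x : G)
  have hσ : σ ^ q ^ 1 = 1 := by
    rw [pow_one]
    ext c
    have h1 : ∀ n : ℕ, (σ ^ n) c = ((x : G) ^ n) • c := by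
      intro n
      induction n with
      | zero => simp
      | succ n ih =>
        rw [pow_succ', pow_succ', mul_smul, Equiv.Perm.mul_apply, ih]
        rfl
    rw [h1, hxq, one_smul]
    rfl
  have hmod := Equiv.Perm.card_compl_support_modEq hσ
  have hsupp : σ.supportᶜ = {a, b} := by
    ext c
    simp only [Finset.mem_compl, Equiv.Perm.mem_support, not_not, Finset.mem_insert,
      Finset.mem_singleton]
    constructor
    · intro hc
      exact Cfsg.Agent.Lib.Zassenhaus.eq_or_eq_of_fix hZ hab hx1 x.2.1 x.2.2 hc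
    · rintro (rfl | rfl)
      · exact x.2.1
      · exact x.2.2
  rw [hsupp, Finset.card_pair hab] at hmod
  have h3 : 3 ≤ Fintype.card Ω := Cfsg.Agent.Lib.Zassenhaus.three_le_card hZ
  exact (Nat.modEq_iff_dvd' (by omega)).mp hmod

/-- An odd prime dividing the two-point stabiliser does not divide the degree and its predecessor. -/
theorem not_dvd_degree (hab : a ≠ b) {q : ℕ} (hq : q.Prime) (hq2 : q ≠ 2)
    (hqd : q ∣ Nat.card ↥(stabilizer G a ⊓ stabilizer G b)) :
    ¬ q ∣ Fintype.card Ω * (Fintype.card Ω - 1) := by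
  have h := prime_dvd_sub_two hZ hab hq hqd
  have h3 : 3 ≤ Fintype.card Ω := Cfsg.Agent.Lib.Zassenhaus.three_le_card hZ
  intro hdvd
  rcases (Nat.Prime.dvd_mul hq).mp hdvd with h1 | h1
  · have h4 : q ∣ 2 := by
      have e : Fintype.card Ω = (Fintype.card Ω - 2) + 2 := by omega
      rw [e] at h1
      exact (Nat.dvd_add_right h).mp h1
    exact hq2 ((Nat.prime_dvd_prime_iff_eq hq Nat.prime_two).mp h4)
  · have h4 : q ∣ 1 := by
      have e : Fintype.card Ω - 1 = (Fintype.card Ω - 2) + 1 := by omega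
      rw [e] at h1
      exact (Nat.dvd_add_right h).mp h1
    exact hq.one_lt.ne' (Nat.dvd_one.mp h4)

/-- Elements normalising a non-trivial subgroup of the two-point stabiliser fix or interchange the
two points. -/
theorem fix_or_swap (hab : a ≠ b) {x r : G} (hr : r ≠ 1) (hra : r • a = a) (hrb : r • b = b)
    (hxa : (x⁻¹ * r * x) • a = a) (hxb : (x⁻¹ * r * x) • b = b) :
    (x • a = a ∧ x • b = b) ∨ (x • a = b ∧ x • b = a) := by
  have h1 : r • (x • a) = x • a := by
    have := congrArg (fun c => x • c) hxa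
    simpa [mul_smul] using this
  have h2 : r • (x • b) = x • b := by
    have := congrArg (fun c => x • c) hxb
    simpa [mul_smul] using this
  have hne : x • a ≠ x • b := fun h => hab (smul_left_cancel _ h)
  rcases Cfsg.Agent.Lib.Zassenhaus.eq_or_eq_of_fix hZ hab hr hra hrb h1 with h3 | h3 <;>
  rcases Cfsg.Agent.Lib.Zassenhaus.eq_or_eq_of_fix hZ hab hr hra hrb h2 with h4 | h4
  · exact absurd (h3.trans h4.symm) hne
  · exact Or.inl ⟨h3, h4⟩
  · exact Or.inr ⟨h3, h4⟩
  · exact absurd (h3.trans h4.symm) hne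

/-- A `p`-subgroup of the two-point stabiliser is cyclic or a generalised quaternion group. -/
theorem cyclic_or_quaternion (hab : a ≠ b) {p : ℕ} (hp : p.Prime) (B : Subgroup G)
    (hBH : B ≤ stabilizer G a ⊓ stabilizer G b) (hBp : IsPGroup p B) :
    IsCyclic B ∨ (p = 2 ∧ ∃ n : ℕ, Nonempty (B ≃* QuaternionGroup (2 ^ n))) := by
  classical
  have := finite_of_zass hZ
  have : Fact p.Prime := ⟨hp⟩
  obtain ⟨K, hK⟩ := exists_kernel hZ a
  have hKne : K ≠ ⊥ := by
    intro hbot
    have hc := hK.card_add_one hab.symm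
    have h3 := Cfsg.Agent.Lib.Zassenhaus.three_le_card hZ
    rw [hbot, Nat.card_eq_fintype_card (α := Ω)] at hc
    simp at hc
    omega
  have hBK : B ≤ Subgroup.normalizer (K : Set G) := by
    intro x hx
    apply Cfsg.Agent.Lib.Subnormal.mem_normalizer_of_conj_mem
    intro k hk
    exact hK.normal x (hBH hx).1 k hk
  have hcomm : ∀ x ∈ B, x ≠ 1 → K ⊓ Subgroup.centralizer {x} = ⊥ := by
    intro x hx hx1
    rw [eq_bot_iff]
    rintro k ⟨hk, hk2⟩
    rw [Subgroup.mem_bot]
    by_contra hk1
    apply hx1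
    refine Cfsg.Agent.Lib.ZassP.eq_one_of_commute hZ hab hK (hBH hx).1 (hBH hx).2 hk hk1 ?_
    have := Subgroup.mem_centralizer_singleton_iff.mp hk2
    exact this.symm
  have hcop := Cfsg.Agent.Lib.FrobCompl.coprime_of_fpf K B hBK hcomm
  have hsolv : Group.IsSolvable B := by
    have := hBp.isNilpotent
    infer_instance
  obtain ⟨V, hVne, hVK, hVc, hBV⟩ := Cfsg.Agent.Lib.FrobCompl.exists_abelian_of_fpf K B hKne hBK hcop
    (Or.inl hsolv)
  have hVcomm : ∀ x ∈ B, x ≠ 1 → V ⊓ Subgroup.centralizer {x} = ⊥ := by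
    intro x hx hx1
    rw [eq_bot_iff, ← hcomm x hx hx1]
    exact inf_le_inf_right _ hVK
  have hfpf := conjHom_fpf B V hBV hVcomm
  let _ : CommGroup V := { (inferInstance : Group V) with mul_comm := hVc.is_comm.comm }
  have : Nontrivial V := (Subgroup.nontrivial_iff_ne_bot V).mpr hVne
  exact Cfsg.Agent.Lib.FrobCompl.cyclic_or_quaternion_of_fpf hBp hfpf

/-- The two-point stabiliser of odd order is a Z-group. -/
theorem isZGroup (hab : a ≠ b) (hodd : Odd (Nat.card ↥(stabilizer G a ⊓ stabilizer G b))) :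
    IsZGroup ↥(stabilizer G a ⊓ stabilizer G b) := by
  classical
  have := finite_of_zass hZ
  set H := stabilizer G a ⊓ stabilizer G b with hH
  refine ⟨fun p hp P => ?_⟩
  have : Fact p.Prime := ⟨hp⟩
  by_cases hp2 : p = 2
  · -- a Sylow 2-subgroup is trivial
    subst hp2
    have h1 : Nat.card P ∣ Nat.card H := Subgroup.card_subgroup_dvd_card _
    obtain ⟨k, hk⟩ := IsPGroup.iff_card.mp P.2
    have hk0 : k = 0 := by
      by_contra hk0
      have h2 : 2 ∣ Nat.card H := (dvd_pow_self 2 hk0).trans (hk ▸ h1)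
      exact (Nat.not_even_iff_odd.mpr hodd) (even_iff_two_dvd.mpr h2)
    rw [hk0, pow_zero] at hk
    have := (Nat.card_eq_one_iff_unique.mp hk).1
    exact isCyclic_of_subsingleton
  · let B := (P : Subgroup H).map H.subtype
    have hB : IsCyclic B := by
      rcases cyclic_or_quaternion hZ hab hp B (Subgroup.map_subtype_le _)
        (P.2.map H.subtype) with h | h
      · exact h
      · exact absurd h.1 hp2
    exact isCyclic_of_surjective _ (Subgroup.equivMapOfInjective (P : Subgroup H) H.subtype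
      H.subtype_injective).symm.surjective

/-- The main theorem on two-point stabilisers of odd order. -/
theorem odd_main_aux (hab : a ≠ b) (hodd : Odd (Nat.card ↥(stabilizer G a ⊓ stabilizer G b)))
    (hnil : ∀ q : ℕ, q.Prime → q ∣ Nat.card ↥(stabilizer G a ⊓ stabilizer G b) →
      ¬ ∃ N : Subgroup G, N.Normal ∧ N.index = q ^ (Nat.card G).factorization q)
    (s₀ : G) (hs₀a : s₀ • a = b) (hs₀b : s₀ • b = a) :
    (∀ x ∈ stabilizer G a ⊓ stabilizer G b, ∀ y ∈ stabilizer G a ⊓ stabilizer G b, x * y = y * x) ∧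
      ∀ h ∈ stabilizer G a ⊓ stabilizer G b, s₀ * h * s₀⁻¹ = h⁻¹ := by
  classical
  have := finite_of_zass hZ
  have hZg := isZGroup hZ hab hodd
  set H := stabilizer G a ⊓ stabilizer G b with hH
  have hHmem : ∀ y : G, y ∈ H ↔ y • a = a ∧ y • b = b := fun y => Iff.rfl
  have hs₀inva : s₀⁻¹ • a = b := inv_smul_eq_iff.mpr hs₀b.symm
  have hs₀invb : s₀⁻¹ • b = a := inv_smul_eq_iff.mpr hs₀a.symm
  -- the automorphism
  let τ : H ≃* H :=
    { toFun := fun h => ⟨s₀ * h * s₀⁻¹, (hHmem _).2
        ⟨by rw [mul_smul, mul_smul, hs₀inva, h.2.2, hs₀b], by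
            rw [mul_smul, mul_smul, hs₀invb, h.2.1, hs₀a]⟩⟩
      invFun := fun h => ⟨s₀⁻¹ * h * s₀, (hHmem _).2
        ⟨by rw [mul_smul, mul_smul, hs₀a, h.2.2, hs₀invb], by
            rw [mul_smul, mul_smul, hs₀b, h.2.1, hs₀inva]⟩⟩
      left_inv := fun h => by apply Subtype.ext; simp [mul_assoc]
      right_inv := fun h => by apply Subtype.ext; simp [mul_assoc]
      map_mul' := fun h l => by apply Subtype.ext; simp [mul_assoc] }
  have hτ : ∀ h : H, ((τ h : H) : G) = s₀ * h * s₀⁻¹ := fun _ => rfl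
  have key := Cfsg.Agent.Lib.ZGroupInv.main hodd τ (by
    intro r hr hrC R hRp hRi
    have : Fact r.Prime := ⟨hr⟩
    have hcop := IsZGroup.coprime_commutator_index (G := H)
    have hrnd : ¬ r ∣ Nat.card (commutator H) := by
      intro h
      have := Nat.dvd_gcd h hrC
      rw [Nat.Coprime.gcd_eq_one hcop] at this
      exact hr.one_lt.ne' (Nat.dvd_one.mp this)
    have hrd : r ∣ Nat.card H := hrC.trans (Subgroup.index_dvd_card _)
    have hr2 : r ≠ 2 := by
      rintro rfl
      exact (Nat.not_even_iff_odd.mpr hodd) (even_iff_two_dvd.mpr hrd)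
    have hRc : IsCyclic R := hRp.isCyclic_of_isZGroup
    let R' : Subgroup G := R.map H.subtype
    have hRH : R' ≤ H := Subgroup.map_subtype_le _
    have hR'c : IsCyclic R' := isCyclic_of_surjective _
      (Subgroup.equivMapOfInjective R H.subtype H.subtype_injective).surjective
    have hR'p : IsPGroup r R' := hRp.map H.subtype
    have hcardR' : Nat.card R' = Nat.card R :=
      (Nat.card_congr (Subgroup.equivMapOfInjective R H.subtype H.subtype_injective).toEquiv).symm
    -- `R` is Sylow in `H`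
    let PH : Sylow r H := hRp.toSylow hRi
    have hcardR : Nat.card R = r ^ (Nat.card H).factorization r := by
      have := PH.card_eq_multiplicity
      rwa [hRp.toSylow_coe hRi] at this
    -- hence in `G`
    have hfac : (Nat.card G).factorization r = (Nat.card H).factorization r := by
      rw [card_group hZ hab, Nat.factorization_mul (by
        have h3 := Cfsg.Agent.Lib.Zassenhaus.three_le_card hZ
        exact mul_ne_zero (by omega) (by omega)) Nat.card_pos.ne']
      simp only [Finsupp.add_apply]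
      rw [Nat.factorization_eq_zero_of_not_dvd (not_dvd_degree hZ hab hr hr2 hrd), zero_add]
    have hcardG : Nat.card R' = r ^ (Nat.card G).factorization r := by
      rw [hcardR', hcardR, hfac]
    let P : Sylow r G := Sylow.ofCard R' hcardG
    have hPcoe : (P : Subgroup G) = R' := Sylow.coe_ofCard _ _
    -- the element outside the centraliser
    have hnc : ¬ Subgroup.normalizer (R' : Set G) ≤ Subgroup.centralizer (R' : Set G) := by
      intro hle
      have hP : Subgroup.normalizer ((P : Subgroup G) : Set G) ≤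
          Subgroup.centralizer ((P : Subgroup G) : Set G) := by
        rw [hPcoe]; exact hle
      apply hnil r hr hrd
      refine ⟨(MonoidHom.transferSylow P hP).ker, inferInstance, ?_⟩
      rw [(MonoidHom.ker_transferSylow_isComplement' P hP).symm.index_eq_card, hPcoe, hcardG]
    obtain ⟨x, hxN, hxC⟩ := Set.not_subset.mp hnc
    have hxN' := Subgroup.mem_normalizer_iff.mp hxN
    have hxR : ∀ y ∈ R', x * y * x⁻¹ ∈ R' := fun y hy => (hxN' y).mp hy
    have hxRi : ∀ y ∈ R', x⁻¹ * y * x ∈ R' := by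
      intro y hy
      have := (Subgroup.mem_normalizer_iff.mp (Subgroup.inv_mem _ hxN)) y
      have h2 := this.mp hy
      simpa using h2
    -- `R'` is non-trivial
    obtain ⟨y₀, hy₀, hy₀1⟩ : ∃ y ∈ R', y ≠ 1 := by
      have hpos : (Nat.card H).factorization r ≠ 0 := by
        intro h0
        have := Nat.factorization_eq_zero_iff (Nat.card H) r
        rcases this.mp h0 with h1 | h1 | h1
        · exact h1 hr
        · exact h1 hrd
        · exact Nat.card_pos.ne' h1
      have h1 : r ∣ Nat.card R' := by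
        rw [hcardR', hcardR]; exact dvd_pow_self r hpos
      obtain ⟨y, hy⟩ := exists_prime_orderOf_dvd_card' r h1
      refine ⟨y, y.2, ?_⟩
      intro h
      have : y = 1 := Subtype.ext h
      rw [this, orderOf_one] at hy
      exact hr.one_lt.ne hy
    -- elements of `H` normalising `R'` centralise it
    have hcentH : ∀ u ∈ H, (∀ y ∈ R', u * y * u⁻¹ ∈ R') → ∀ y ∈ R', u * y * u⁻¹ = y := by
      intro u hu huR y hy
      obtain ⟨y', hy', rfl⟩ := hy
      set u' : H := ⟨u, hu⟩ with hu'
      have h1 : ⁅u', y'⁆ ∈ commutator H := by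
        rw [commutator_def]
        exact Subgroup.commutator_mem_commutator trivial trivial
      have h2 : ⁅u', y'⁆ ∈ R := by
        have h3 : (u' : G) * y' * (u' : G)⁻¹ ∈ R' := huR _ ⟨y', hy', rfl⟩
        obtain ⟨w, hw, hw2⟩ := h3
        have h4 : u' * y' * u'⁻¹ = w := Subtype.ext hw2.symm
        have h5 : ⁅u', y'⁆ = w * y'⁻¹ := by
          rw [commutatorElement_def, h4]
        rw [h5]
        exact R.mul_mem hw (R.inv_mem hy')
      have h3 : ⁅u', y'⁆ = 1 := by
        obtain ⟨k, hk⟩ := hRp ⟨_, h2⟩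
        have hk' : ⁅u', y'⁆ ^ r ^ k = 1 := congrArg Subtype.val hk
        have h4 : orderOf ⁅u', y'⁆ ∣ Nat.card (commutator H) := by
          have := orderOf_dvd_natCard (⟨_, h1⟩ : commutator H)
          rwa [Subgroup.orderOf_mk] at this
        have h5 : orderOf ⁅u', y'⁆ ∣ r ^ k := orderOf_dvd_of_pow_eq_one hk'
        have h6 : Nat.Coprime (r ^ k) (Nat.card (commutator H)) :=
          Nat.Coprime.pow_left _ ((Nat.Prime.coprime_iff_not_dvd hr).mpr hrnd)
        have h7 := Nat.dvd_gcd h5 h4
        rw [Nat.Coprime.gcd_eq_one h6, Nat.dvd_one, orderOf_eq_one_iff] at h7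
        exact h7
      have h4 := commutatorElement_eq_one_iff_mul_comm.mp h3
      have h5 : u * (y' : G) = y' * u := congrArg Subtype.val h4
      show u * (y' : G) * u⁻¹ = y'
      rw [h5]; group
    have hx_swap : x • a = b ∧ x • b = a := by
      rcases fix_or_swap hZ hab hy₀1 (hRH hy₀).1 (hRH hy₀).2 (hRH (hxRi y₀ hy₀)).1
        (hRH (hxRi y₀ hy₀)).2 with h | h
      · exfalso
        apply hxC
        rw [SetLike.mem_coe, Subgroup.mem_centralizer_iff]
        intro y hy
        have := hcentH x h hxR y hy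
        calc y * x = (x * y * x⁻¹) * x := by rw [this]
          _ = x * y := by group
      · exact h
    have hxxH : x * x ∈ H := (hHmem _).2
      ⟨by rw [mul_smul, hx_swap.1, hx_swap.2], by rw [mul_smul, hx_swap.2, hx_swap.1]⟩
    have hinv : ∀ y ∈ R', x * y * x⁻¹ = y⁻¹ := by
      have hxx : ∀ y ∈ R', x * x * y * (x * x)⁻¹ = y := by
        refine hcentH _ hxxH ?_
        intro y hy
        have : x * x * y * (x * x)⁻¹ = x * (x * y * x⁻¹) * x⁻¹ := by group
        rw [this]
        exact hxR _ (hxR y hy)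
      rcases centralizes_or_inverts R' hr hr2 hR'p x hxR hxx with h | h
      · exfalso
        apply hxC
        rw [SetLike.mem_coe, Subgroup.mem_centralizer_iff]
        intro y hy
        have := h y hy
        calc y * x = (x * y * x⁻¹) * x := by rw [this]
          _ = x * y := by group
      · exact h
    refine ⟨⟨s₀⁻¹ * x, (hHmem _).2 ⟨by rw [mul_smul, hx_swap.1, hs₀invb], by
      rw [mul_smul, hx_swap.2, hs₀inva]⟩⟩, ?_⟩
    intro y hy
    apply Subtype.ext
    rw [hτ]
    have h2 := hinv y ⟨y, hy, rfl⟩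
    simp only [Subgroup.coe_mul, Subgroup.coe_inv] at h2 ⊢
    rw [← h2]
    group)
  refine ⟨?_, ?_⟩
  · intro x hx y hy
    exact congrArg Subtype.val (key.1 ⟨x, hx⟩ ⟨y, hy⟩)
  · intro h hh
    have := key.2 ⟨h, hh⟩
    exact congrArg Subtype.val this

theorem odd_main (hab : a ≠ b) (hodd : Odd (Nat.card ↥(stabilizer G a ⊓ stabilizer G b)))
    (hnil : ∀ q : ℕ, q.Prime → q ∣ Nat.card ↥(stabilizer G a ⊓ stabilizer G b) →
      ¬ ∃ N : Subgroup G, N.Normal ∧ N.index = q ^ (Nat.card G).factorization q) :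
    IsCyclic ↥(stabilizer G a ⊓ stabilizer G b) ∧
      ∀ s : G, s • a = b → s • b = a → ∀ h ∈ stabilizer G a ⊓ stabilizer G b, s * h * s⁻¹ = h⁻¹ := by
  classical
  have := finite_of_zass hZ
  constructor
  · obtain ⟨s₀, hs₀a, hs₀b⟩ := Cfsg.Agent.Lib.Zassenhaus.two_trans hZ hab (Ne.symm hab)
    have hcomm := (odd_main_aux hZ hab hodd hnil s₀ hs₀a hs₀b).1
    have hZg := isZGroup hZ hab hodd
    let _ : CommGroup ↥(stabilizer G a ⊓ stabilizer G b) :=
      { (inferInstance : Group ↥(stabilizer G a ⊓ stabilizer G b)) with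
        mul_comm := fun x y => Subtype.ext (hcomm x x.2 y y.2) }
    infer_instance
  · intro s h1 h2
    exact (odd_main_aux hZ hab hodd hnil s h1 h2).2

/-- The two-point stabiliser of odd order is self-centralising, under the same hypotheses. -/
theorem centralizer_eq (hab : a ≠ b) (hodd : Odd (Nat.card ↥(stabilizer G a ⊓ stabilizer G b)))
    (hnil : ∀ q : ℕ, q.Prime → q ∣ Nat.card ↥(stabilizer G a ⊓ stabilizer G b) →
      ¬ ∃ N : Subgroup G, N.Normal ∧ N.index = q ^ (Nat.card G).factorization q) :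
    Subgroup.centralizer ((stabilizer G a ⊓ stabilizer G b : Subgroup G) : Set G) =
      stabilizer G a ⊓ stabilizer G b := by
  classical
  have := finite_of_zass hZ
  obtain ⟨hcyc, hinv⟩ := odd_main hZ hab hodd hnil
  apply le_antisymm
  · intro x hx
    rw [Subgroup.mem_centralizer_iff] at hx
    obtain ⟨r, hr, hra, hrb⟩ := Cfsg.Agent.Lib.Zassenhaus.exists_ne_one_fix hZ hab
    have hrH : r ∈ stabilizer G a ⊓ stabilizer G b := ⟨hra, hrb⟩
    have hxr : x * r = r * x := (hx r hrH).symm
    have h1 : x⁻¹ * r * x = r := by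
      rw [mul_assoc, ← hxr, ← mul_assoc, inv_mul_cancel, one_mul]
    rcases fix_or_swap hZ hab hr hra hrb (by rw [h1]; exact hra) (by rw [h1]; exact hrb) with h | h
    · exact ⟨h.1, h.2⟩
    · exfalso
      have h2 := hinv x h.1 h.2 r hrH
      have h3 : x * r * x⁻¹ = r := by rw [hxr]; group
      rw [h3] at h2
      -- `r` is an element of order two in a group of odd order
      have h4 : r * r = 1 := by
        nth_rw 1 [h2]
        exact inv_mul_cancel r
      have h5 : orderOf (⟨r, hrH⟩ : ↥(stabilizer G a ⊓ stabilizer G b)) = 2 := by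
        apply orderOf_eq_prime
        · apply Subtype.ext
          simpa [pow_two] using h4
        · intro h6
          exact hr (congrArg Subtype.val h6)
      have h6 := orderOf_dvd_natCard (⟨r, hrH⟩ : ↥(stabilizer G a ⊓ stabilizer G b))
      rw [h5] at h6
      exact (Nat.not_even_iff_odd.mpr hodd) (even_iff_two_dvd.mpr h6)
  · intro x hx
    rw [Subgroup.mem_centralizer_iff]
    intro y hy
    obtain ⟨g, hg⟩ := hcyc.exists_generator
    obtain ⟨i, hi⟩ := Subgroup.mem_zpowers_iff.mp (hg ⟨x, hx⟩)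
    obtain ⟨j, hj⟩ := Subgroup.mem_zpowers_iff.mp (hg ⟨y, hy⟩)
    have hi' : (g : G) ^ i = x := by
      have := congrArg Subtype.val hi
      simpa using this
    have hj' : (g : G) ^ j = y := by
      have := congrArg Subtype.val hj
      simpa using this
    rw [← hi', ← hj']
    exact (Commute.refl _).zpow_zpow _ _

/-- In a simple group no normal complements exist. -/
theorem hnil_of_simple [IsSimpleGroup G] (hab : a ≠ b)
    (hodd : Odd (Nat.card ↥(stabilizer G a ⊓ stabilizer G b))) (q : ℕ) (hq : q.Prime)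
    (hqd : q ∣ Nat.card ↥(stabilizer G a ⊓ stabilizer G b)) :
    ¬ ∃ N : Subgroup G, N.Normal ∧ N.index = q ^ (Nat.card G).factorization q := by
  classical
  have := finite_of_zass hZ
  rintro ⟨N, hN, hidx⟩
  have hq2 : q ≠ 2 := by
    rintro rfl
    exact (Nat.not_even_iff_odd.mpr hodd) (even_iff_two_dvd.mpr hqd)
  have hG := card_group hZ hab
  have h3 := Cfsg.Agent.Lib.Zassenhaus.three_le_card hZ
  have hGpos : Nat.card G ≠ 0 := Nat.card_pos.ne'
  have hqG : q ∣ Nat.card G := by
    rw [hG]; exact Dvd.dvd.mul_left hqd _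
  have hfac : (Nat.card G).factorization q ≠ 0 := by
    intro h0
    rcases (Nat.factorization_eq_zero_iff _ _).mp h0 with h1 | h1 | h1
    · exact h1 hq
    · exact h1 hqG
    · exact hGpos h1
  rcases IsSimpleGroup.eq_bot_or_eq_top_of_normal N hN with h | h
  · -- `G` would be a `q`-group
    rw [h, Subgroup.index_bot] at hidx
    have h1 := not_dvd_degree hZ hab hq hq2 hqd
    have h2 : Fintype.card Ω * (Fintype.card Ω - 1) ∣ Nat.card G := by
      rw [hG]; exact Dvd.intro _ rfl
    rw [hidx] at h2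
    obtain ⟨k, -, hk⟩ := (Nat.dvd_prime_pow hq).mp h2
    have hk0 : k ≠ 0 := by
      intro h0
      rw [h0, pow_zero] at hk
      have : 3 * 2 ≤ Fintype.card Ω * (Fintype.card Ω - 1) := Nat.mul_le_mul h3 (by omega)
      omega
    apply h1
    rw [hk]
    exact dvd_pow_self q hk0
  · rw [h, Subgroup.index_top] at hidx
    have : q ^ (Nat.card G).factorization q ≠ 1 := by
      intro h1
      rw [Nat.pow_eq_one] at h1
      rcases h1 with h1 | h1
      · exact hq.one_lt.ne' h1
      · exact hfac h1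
    exact this hidx.symm

end Main

end Cfsg.Agent.Lib.ZassH
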