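import Mathlib
import Cfsg.Agent.Lib.ZassH
import Cfsg.Agent.S0740

/-!
# Involutions of Zassenhaus groups with two-point stabilisers of odd order inverted by the swaps
-/

set_option autoImplicit false

namespace Cfsg.Agent.Lib.ZassInv

open Cfsg MulAction Cfsg.Agent.Lib.ZassCore Cfsg.Agent.Lib.ZassH

variable {G Ω : Type*} [Group G] [MulAction G Ω] [Fintype Ω] (hZ : IsZassenhausGroup G Ω)

include hZ

theorem card_stab_eq {a b c d : Ω} (hab : a ≠ b) (hcd : c ≠ d) :
    Nat.card ↥(stabilizer G a ⊓ stabilizer G b) = Nat.card ↥(stabilizer G c ⊓ stabilizer G d) := by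
  have h1 := card_group hZ hab
  have h2 := card_group hZ hcd
  have h3 := Cfsg.Agent.Lib.Zassenhaus.three_le_card hZ
  have hpos : 0 < Fintype.card Ω * (Fintype.card Ω - 1) := Nat.mul_pos (by omega) (by omega)
  exact Nat.eq_of_mul_eq_mul_left hpos (h1.symm.trans h2)

/-- The hypothesis that the two-point stabilisers have odd order and are inverted by the elements
interchanging the two points. -/
structure OddInv (G : Type*) (Ω : Type*) [Group G] [MulAction G Ω] : Prop where
  odd : ∀ c d : Ω, c ≠ d → Odd (Nat.card ↥(stabilizer G c ⊓ stabilizer G d))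
  inv : ∀ c d : Ω, c ≠ d → ∀ s : G, s • c = d → s • d = c →
    ∀ h ∈ stabilizer G c ⊓ stabilizer G d, s * h * s⁻¹ = h⁻¹

/-- Simple Zassenhaus groups with odd two-point stabilisers satisfy the hypothesis. -/
theorem oddInv_of_simple [IsSimpleGroup G] {a b : Ω} (hab : a ≠ b)
    (hodd : Odd (Nat.card ↥(stabilizer G a ⊓ stabilizer G b))) : OddInv G Ω := by
  have hodd' : ∀ c d : Ω, c ≠ d → Odd (Nat.card ↥(stabilizer G c ⊓ stabilizer G d)) := by
    intro c d hcd
    rw [← card_stab_eq hZ hab hcd]
    exact hodd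
  refine ⟨hodd', ?_⟩
  intro c d hcd
  exact (odd_main hZ hcd (hodd' c d hcd) (hnil_of_simple hZ hcd (hodd' c d hcd))).2

/-- In a group of odd order, an element with square one is trivial. -/
theorem eq_one_of_mul_self {H : Subgroup G} (hH : Odd (Nat.card H)) {x : G} (hx : x ∈ H)
    (h2 : x * x = 1) : x = 1 := by
  by_contra hx1
  have h5 : orderOf (⟨x, hx⟩ : H) = 2 := by
    apply orderOf_eq_prime
    · apply Subtype.ext
      simpa [pow_two] using h2
    · intro h6
      exact hx1 (congrArg Subtype.val h6)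
  have h6 : orderOf (⟨x, hx⟩ : H) ∣ Nat.card H := by
    have := finite_of_zass hZ
    exact orderOf_dvd_natCard _
  rw [h5] at h6
  exact (Nat.not_even_iff_odd.mpr hH) (even_iff_two_dvd.mpr h6)

variable (hI : OddInv G Ω)

include hI

/-- All elements interchanging two points are involutions. -/
theorem swap_mul_self {c d : Ω} (hcd : c ≠ d) {s : G} (hc : s • c = d) (hd : s • d = c) :
    s * s = 1 := by
  have h1 : s * s ∈ stabilizer G c ⊓ stabilizer G d :=
    Subgroup.mem_inf.mpr ⟨mem_stabilizer_iff.mpr (by rw [mul_smul, hc, hd]),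
      mem_stabilizer_iff.mpr (by rw [mul_smul, hd, hc])⟩
  have h2 := hI.inv c d hcd s hc hd _ h1
  have h3 : s * (s * s) * s⁻¹ = s * s := by group
  rw [h3] at h2
  have h4 : (s * s) * (s * s) = 1 := by
    nth_rw 1 [h2]
    exact inv_mul_cancel _
  exact eq_one_of_mul_self hZ (hI.odd c d hcd) h1 h4

/-- Two elements interchanging two points are conjugate under the stabiliser. -/
theorem conj_of_swap {c d : Ω} (hcd : c ≠ d) {s s' : G} (hc : s • c = d) (hd : s • d = c)
    (hc' : s' • c = d) (hd' : s' • d = c) :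
    ∃ u ∈ stabilizer G c ⊓ stabilizer G d, u * s * u⁻¹ = s' := by
  classical
  have := finite_of_zass hZ
  have hsi : s⁻¹ = s := inv_eq_of_mul_eq_one_left (swap_mul_self hZ hI hcd hc hd)
  let S := stabilizer G c ⊓ stabilizer G d
  have hS : ∀ y : G, y ∈ S ↔ y • c = c ∧ y • d = d := fun y => Iff.rfl
  let f : S → S := fun u => ⟨(u : G) * (s * (u : G)⁻¹ * s⁻¹), by
    have h1 := hI.inv c d hcd s hc hd _ (S.inv_mem u.2)
    rw [h1, inv_inv]
    exact S.mul_mem u.2 u.2⟩
  have hf : Function.Injective f := by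
    intro u w huw
    have h1 : (u : G) * (s * (u : G)⁻¹ * s⁻¹) = w * (s * (w : G)⁻¹ * s⁻¹) :=
      congrArg Subtype.val huw
    rw [hI.inv c d hcd s hc hd _ (S.inv_mem u.2), hI.inv c d hcd s hc hd _ (S.inv_mem w.2),
      inv_inv, inv_inv] at h1
    -- `w⁻¹ u` has square one, using commutativity through inversion
    set x := (w : G)⁻¹ * u with hx
    have hxS : x ∈ S := S.mul_mem (S.inv_mem w.2) u.2
    have hcomm : ∀ p ∈ S, ∀ q ∈ S, p * q = q * p := by
      intro p hp q hq
      have h2 := hI.inv c d hcd s hc hd _ (S.mul_mem hp hq)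
      have h3 : s * (p * q) * s⁻¹ = (s * p * s⁻¹) * (s * q * s⁻¹) := by group
      rw [h3, hI.inv c d hcd s hc hd _ hp, hI.inv c d hcd s hc hd _ hq, mul_inv_rev] at h2
      have h4 := congrArg (fun y => y⁻¹) h2
      simpa using h4.symm
    have h2 : x * x = 1 := by
      have h3 : (u : G) * u = w * w := h1
      rw [hx]
      calc (w : G)⁻¹ * u * ((w : G)⁻¹ * u) = (w : G)⁻¹ * ((u : G) * (w : G)⁻¹) * u := by group
        _ = (w : G)⁻¹ * ((w : G)⁻¹ * u) * u := by rw [hcomm u u.2 _ (S.inv_mem w.2)]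
        _ = (w : G)⁻¹ * (w : G)⁻¹ * ((u : G) * u) := by group
        _ = 1 := by rw [h3]; group
    have h3 := eq_one_of_mul_self hZ (hI.odd c d hcd) hxS h2
    exact Subtype.ext (inv_mul_eq_one.mp h3).symm
  have hfs : Function.Surjective f := Finite.injective_iff_surjective.mp hf
  have hmem : s' * s⁻¹ ∈ S := (hS _).2
    ⟨by rw [mul_smul, inv_smul_eq_iff.mpr hd.symm, hd'], by
      rw [mul_smul, inv_smul_eq_iff.mpr hc.symm, hc']⟩
  obtain ⟨u, hu⟩ := hfs ⟨_, hmem⟩
  have hu' : (u : G) * (s * (u : G)⁻¹ * s⁻¹) = s' * s⁻¹ := congrArg Subtype.val hu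
  refine ⟨u, u.2, ?_⟩
  have := congrArg (fun y => y * s) hu'
  simp only [inv_mul_cancel_right] at this
  rw [← this]
  group

/-- All involutions are conjugate. -/
theorem all_conj {x y : G} (hx : orderOf x = 2) (hy : orderOf y = 2) : IsConj x y := by
  classical
  have hx2 : x * x = 1 := by rw [← pow_two, ← hx]; exact pow_orderOf_eq_one _
  have hy2 : y * y = 1 := by rw [← pow_two, ← hy]; exact pow_orderOf_eq_one _
  have := hZ.1
  have hne : ∀ t : G, orderOf t = 2 → ∃ c : Ω, t • c ≠ c := by
    intro t ht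
    by_contra hcon
    push Not at hcon
    have h1 : t = 1 := eq_of_smul_eq_smul (α := Ω) (fun c => by rw [hcon c, one_smul])
    rw [h1, orderOf_one] at ht
    omega
  obtain ⟨c, hc⟩ := hne x hx
  obtain ⟨d, hd⟩ := hne y hy
  obtain ⟨g, hg1, hg2⟩ := Cfsg.Agent.Lib.Zassenhaus.two_trans hZ (Ne.symm hc) (Ne.symm hd)
  have hcd : d ≠ y • d := Ne.symm hd
  -- conjugate `x` to swap `d, y • d`
  have h1 : (g * x * g⁻¹) • d = y • d := by
    rw [mul_smul, mul_smul, inv_smul_eq_iff.mpr hg1.symm, hg2]
  have h2 : (g * x * g⁻¹) • (y • d) = d := by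
    rw [mul_smul, mul_smul, inv_smul_eq_iff.mpr hg2.symm, ← mul_smul x x, hx2, one_smul, hg1]
  have h3 : y • (y • d) = d := by rw [← mul_smul, hy2, one_smul]
  obtain ⟨u, -, hu⟩ := conj_of_swap hZ hI hcd h1 h2 rfl h3
  rw [isConj_iff]
  exact ⟨u * g, by rw [← hu]; group⟩

/-- The number of fixed points of an involution. -/
theorem fix_card (t : G) (ht : orderOf t = 2) :
    (Odd (Fintype.card Ω) → Nat.card (fixedBy Ω t) = 1) ∧
      (Even (Fintype.card Ω) → Nat.card (fixedBy Ω t) = 0) := by
  classical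
  have hne : t ≠ 1 := by
    intro h; rw [h, orderOf_one] at ht; omega
  have h1 := Cfsg.Agent.S0740.fix_card_le_two hZ.2.2.1 t hne
  have h2 := Cfsg.Agent.S0740.fix_parity (Ω := Ω) t ht
  constructor
  · intro h
    have h3 := Nat.odd_iff.1 h
    omega
  · intro h
    have h3 := Nat.even_iff.1 h
    by_contra h0
    have h4 : Nat.card (fixedBy Ω t) = 2 := by omega
    -- two fixed points
    have h5 : Set.ncard (fixedBy Ω t) = 2 := by rw [← Nat.card_coe_set_eq]; exact h4
    obtain ⟨c, d, hcd, hs⟩ := Set.ncard_eq_two.mp h5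
    have hc : t • c = c := by
      have : c ∈ fixedBy Ω t := by rw [hs]; simp
      exact this
    have hd : t • d = d := by
      have : d ∈ fixedBy Ω t := by rw [hs]; simp
      exact this
    have h6 : t * t = 1 := by rw [← pow_two, ← ht]; exact pow_orderOf_eq_one _
    exact hne (eq_one_of_mul_self hZ (hI.odd c d hcd)
      (Subgroup.mem_inf.mpr ⟨mem_stabilizer_iff.mpr hc, mem_stabilizer_iff.mpr hd⟩) h6)

/-- Double counting: the number of involutions. -/
theorem card_involutions_mul (f : ℕ) (hf : ∀ t : G, orderOf t = 2 → Nat.card (fixedBy Ω t) = f)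
    {a b : Ω} (hab : a ≠ b) :
    Nat.card {x : G // orderOf x = 2} * (Fintype.card Ω - f) =
      Fintype.card Ω * (Fintype.card Ω - 1) * Nat.card ↥(stabilizer G a ⊓ stabilizer G b) := by
  classical
  have := finite_of_zass hZ
  let _ := Fintype.ofFinite G
  set T : Finset G := Finset.univ.filter (fun t : G => orderOf t = 2) with hT
  set P : Finset (Ω × Ω) := (Finset.univ : Finset Ω).offDiag with hP
  have hTc : Nat.card {x : G // orderOf x = 2} = T.card := by
    rw [Nat.card_eq_fintype_card, Fintype.card_subtype]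
  have hPc : P.card = Fintype.card Ω * (Fintype.card Ω - 1) := by
    rw [hP, Finset.offDiag_card, Finset.card_univ, Nat.mul_sub, mul_one]
  have hdc := Finset.sum_card_bipartiteAbove_eq_sum_card_bipartiteBelow (s := T) (t := P)
    (fun (t : G) (p : Ω × Ω) => t • p.1 = p.2)
  -- first count
  have h1 : ∀ t ∈ T, (Finset.bipartiteAbove (fun (t : G) (p : Ω × Ω) => t • p.1 = p.2) P t).card
      = Fintype.card Ω - f := by
    intro t ht
    have ht' : orderOf t = 2 := (Finset.mem_filter.mp ht).2
    have hfix := hf t ht'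
    -- the moved points
    have h2 : (Finset.bipartiteAbove (fun (t : G) (p : Ω × Ω) => t • p.1 = p.2) P t).card
        = (Finset.univ.filter (fun c : Ω => t • c ≠ c)).card := by
      symm
      refine Finset.card_bij (fun c _ => (c, t • c)) ?_ ?_ ?_
      · intro c hc
        have hc' : t • c ≠ c := (Finset.mem_filter.mp hc).2
        simp only [Finset.bipartiteAbove, Finset.mem_filter, hP, Finset.mem_offDiag,
          Finset.mem_univ, true_and]
        exact ⟨Ne.symm hc', trivial⟩
      · intro c _ d _ h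
        exact (Prod.ext_iff.mp h).1
      · rintro ⟨c, d⟩ hp
        simp only [Finset.bipartiteAbove, Finset.mem_filter, hP, Finset.mem_offDiag,
          Finset.mem_univ, true_and] at hp
        refine ⟨c, ?_, ?_⟩
        · simp only [Finset.mem_filter, Finset.mem_univ, true_and]
          rw [hp.2]
          exact Ne.symm hp.1
        · rw [hp.2]
    rw [h2, Finset.filter_not, Finset.card_sdiff_of_subset (Finset.filter_subset _ _),
      Finset.card_univ]
    congr 1
    rw [← hfix, Nat.card_eq_fintype_card, ← Set.toFinset_card]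
    congr 1
    ext c
    simp [mem_fixedBy]
  -- second count
  have h2 : ∀ p ∈ P, (Finset.bipartiteBelow (fun (t : G) (p : Ω × Ω) => t • p.1 = p.2) T p).card
      = Nat.card ↥(stabilizer G a ⊓ stabilizer G b) := by
    rintro ⟨c, d⟩ hp
    have hcd : c ≠ d := by
      simpa only [hP, Finset.mem_offDiag, Finset.mem_univ, true_and] using hp
    rw [card_stab_eq hZ hab hcd]
    obtain ⟨s₀, hs₀c, hs₀d⟩ := Cfsg.Agent.Lib.Zassenhaus.two_trans hZ hcd (Ne.symm hcd)
    rw [Nat.card_eq_fintype_card, ← Finset.card_univ]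
    symm
    refine Finset.card_bij (fun h _ => s₀ * (h : G)) ?_ ?_ ?_
    · intro h _
      have hc : (s₀ * (h : G)) • c = d := by rw [mul_smul, h.2.1, hs₀c]
      have hd : (s₀ * (h : G)) • d = c := by rw [mul_smul, h.2.2, hs₀d]
      simp only [Finset.bipartiteBelow, Finset.mem_filter, hT, Finset.mem_univ, true_and]
      refine ⟨?_, hc⟩
      apply orderOf_eq_prime
      · rw [pow_two]
        exact swap_mul_self hZ hI hcd hc hd
      · intro h1
        rw [h1, one_smul] at hc
        exact hcd hc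
    · intro h _ l _ hl
      exact Subtype.ext (mul_left_cancel hl)
    · intro t ht
      simp only [Finset.bipartiteBelow, Finset.mem_filter, hT, Finset.mem_univ, true_and] at ht
      obtain ⟨ht1, ht2⟩ := ht
      have ht3 : t * t = 1 := by rw [← pow_two, ← ht1]; exact pow_orderOf_eq_one _
      have ht4 : t • d = c := by rw [← ht2, ← mul_smul, ht3, one_smul]
      refine ⟨⟨s₀⁻¹ * t, Subgroup.mem_inf.mpr ⟨mem_stabilizer_iff.mpr ?_,
        mem_stabilizer_iff.mpr ?_⟩⟩, Finset.mem_univ _, ?_⟩
      · rw [mul_smul, ht2]; exact inv_smul_eq_iff.mpr hs₀c.symm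
      · rw [mul_smul, ht4]; exact inv_smul_eq_iff.mpr hs₀d.symm
      · simp
  rw [Finset.sum_congr rfl h1, Finset.sum_congr rfl h2, Finset.sum_const, Finset.sum_const,
    smul_eq_mul, smul_eq_mul, ← hTc, hPc] at hdc
  exact hdc

end Cfsg.Agent.Lib.ZassInv
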