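import Mathlib
import Cfsg.Agent.Lib.ZassInv
import Cfsg.Agent.Lib.CharInd

/-!
# Zassenhaus groups: products of involutions in the kernel, counting fixed-point-free elements
-/

set_option autoImplicit false

namespace Cfsg.Agent.Lib.ZassInv2

open Cfsg MulAction Cfsg.Agent.Lib.ZassCore Cfsg.Agent.Lib.ZassH Cfsg.Agent.Lib.ZassInv

variable {G Ω : Type*} [Group G] [MulAction G Ω] [Fintype Ω] (hZ : IsZassenhausGroup G Ω)

include hZ

/-- The data of the kernel in the form used in many statements. -/
theorem isKernelAt_of_fix (a : Ω) (H : Subgroup G) (hHa : H ≤ stabilizer G a)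
    (hHcard : Nat.card H + 1 = Fintype.card Ω)
    (hHfix : ∀ u ∈ H, u ≠ 1 → ∀ c : Ω, u • c = c → c = a) : IsKernelAt G a H := by
  classical
  have := finite_of_zass hZ
  have hmem : ∀ g : G, g • a = a → (g ∈ H ↔ g = 1 ∨ ∀ c, c ≠ a → g • c ≠ c) := by
    intro g hg
    constructor
    · intro hgH
      by_cases hg1 : g = 1
      · exact Or.inl hg1
      · exact Or.inr (fun c hc hgc => hc (hHfix g hgH hg1 c hgc))
    · rintro (h | h)
      · rw [h]; exact H.one_mem
      · exact Cfsg.Agent.Lib.Zassenhaus.mem_kernel_of_fix_only hZ a H hHa hHcard hHfix hg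
          (fun c hgc => by
            by_contra hca
            exact h c hca hgc)
  refine ⟨fun k hk => mem_stabilizer_iff.mp (hHa hk), ?_, hmem, ?_⟩
  · intro g hg k hk
    have hk' : k • a = a := mem_stabilizer_iff.mp (hHa hk)
    have h1 : (g * k * g⁻¹) • a = a := by
      rw [mul_smul, mul_smul, inv_smul_eq_iff.mpr hg.symm, hk', hg]
    rw [hmem _ h1]
    by_cases hk1 : k = 1
    · left; simp [hk1]
    right
    intro c hc hgc
    rw [mul_smul, mul_smul] at hgc
    have h2 : k • (g⁻¹ • c) = g⁻¹ • c := (smul_eq_iff_eq_inv_smul g).mp hgc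
    have h3 := hHfix k hk hk1 _ h2
    apply hc
    rw [← smul_inv_smul g c, h3, hg]
  · intro c d hc hd
    let f : H → {x : Ω // x ≠ a} := fun k => ⟨(k : G) • c, by
      intro h
      apply hc
      have h1 : (k : G) • c = (k : G) • a := by rw [h, mem_stabilizer_iff.mp (hHa k.2)]
      exact smul_left_cancel _ h1⟩
    have hf : Function.Injective f := by
      intro k l hkl
      have h2 : (k : G) • c = (l : G) • c := congrArg Subtype.val hkl
      have h3 : ((l : G)⁻¹ * k) • c = c := by rw [mul_smul, h2, inv_smul_smul]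
      by_contra hne
      have h4 : (l : G)⁻¹ * k ≠ 1 := by
        intro h5
        exact hne (Subtype.ext (inv_mul_eq_one.mp h5).symm)
      exact hc (hHfix _ (H.mul_mem (H.inv_mem l.2) k.2) h4 c h3)
    have hcard : Nat.card {x : Ω // x ≠ a} = Nat.card H := by
      rw [Nat.card_eq_fintype_card (α := {x : Ω // x ≠ a}), Fintype.card_subtype_compl,
        Fintype.card_subtype_eq]
      omega
    have hb := hf.bijective_of_nat_card_le hcard.le
    obtain ⟨k, hk⟩ := hb.2 ⟨d, hd⟩
    refine ⟨k, ⟨k.2, congrArg Subtype.val hk⟩, ?_⟩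
    rintro y ⟨hy, hyc⟩
    have : f ⟨y, hy⟩ = f k := Subtype.ext (hyc.trans (congrArg Subtype.val hk).symm)
    exact congrArg Subtype.val (hf this)

variable (hI : OddInv G Ω)

include hI

/-- In the odd case, the number of involutions fixing a given point is the order of the two-point
stabiliser. -/
theorem card_inv_at (hodd : Odd (Fintype.card Ω)) {a b : Ω} (hab : a ≠ b) :
    Nat.card {t : G // orderOf t = 2 ∧ t • a = a} = Nat.card ↥(stabilizer G a ⊓ stabilizer G b) := by
  classical
  have := finite_of_zass hZ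
  let _ := Fintype.ofFinite G
  have hf : ∀ t : G, orderOf t = 2 → Nat.card (fixedBy Ω t) = 1 := fun t ht =>
    (fix_card hZ hI t ht).1 hodd
  have h1 := card_involutions_mul hZ hI 1 hf hab
  have h3 := Cfsg.Agent.Lib.Zassenhaus.three_le_card hZ
  have h2 : Nat.card {x : G // orderOf x = 2} =
      Fintype.card Ω * Nat.card ↥(stabilizer G a ⊓ stabilizer G b) := by
    have hpos : 0 < Fintype.card Ω - 1 := by omega
    apply Nat.eq_of_mul_eq_mul_right hpos
    rw [h1]; ring
  -- count pairs
  set T : Finset G := Finset.univ.filter (fun t : G => orderOf t = 2) with hT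
  have hTc : Nat.card {x : G // orderOf x = 2} = T.card := by
    rw [Nat.card_eq_fintype_card, Fintype.card_subtype]
  have hdc := Finset.sum_card_bipartiteAbove_eq_sum_card_bipartiteBelow (s := T)
    (t := (Finset.univ : Finset Ω)) (fun (t : G) (c : Ω) => t • c = c)
  have h4 : ∀ t ∈ T, (Finset.bipartiteAbove (fun (t : G) (c : Ω) => t • c = c) Finset.univ t).card
      = 1 := by
    intro t ht
    have ht' : orderOf t = 2 := (Finset.mem_filter.mp ht).2
    rw [← hf t ht', Nat.card_eq_fintype_card, ← Set.toFinset_card]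
    congr 1
    ext c
    simp [Finset.bipartiteAbove, mem_fixedBy]
  have hconj : ∀ c : Ω, (Finset.bipartiteBelow (fun (t : G) (c : Ω) => t • c = c) T c).card =
      Nat.card {t : G // orderOf t = 2 ∧ t • a = a} := by
    intro c
    rw [Nat.card_eq_fintype_card, Fintype.card_subtype]
    obtain ⟨g, hg⟩ : ∃ g : G, g • a = c := by
      by_cases hca : c = a
      · exact ⟨1, by simp [hca]⟩
      · obtain ⟨g, h5, -⟩ := Cfsg.Agent.Lib.Zassenhaus.two_trans hZ hab (c := c)
          (d := a) hca
        exact ⟨g, h5⟩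
    symm
    refine Finset.card_bij (fun t _ => g * t * g⁻¹) ?_ ?_ ?_
    · intro t ht
      simp only [Finset.mem_filter, Finset.mem_univ, true_and] at ht
      simp only [Finset.bipartiteBelow, Finset.mem_filter, hT, Finset.mem_univ, true_and]
      refine ⟨?_, ?_⟩
      · rw [Cfsg.Agent.S0740.cj_order]; exact ht.1
      · rw [mul_smul, mul_smul, inv_smul_eq_iff.mpr hg.symm, ht.2, hg]
    · intro t _ s _ hts
      simpa using hts
    · intro s hs
      simp only [Finset.bipartiteBelow, Finset.mem_filter, hT, Finset.mem_univ, true_and] at hs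
      refine ⟨g⁻¹ * s * g, ?_, by group⟩
      simp only [Finset.mem_filter, Finset.mem_univ, true_and]
      refine ⟨?_, ?_⟩
      · have := Cfsg.Agent.S0740.cj_order g⁻¹ s
        rw [inv_inv] at this
        rw [this]; exact hs.1
      · rw [mul_smul, mul_smul, hg, hs.2]; exact inv_smul_eq_iff.mpr hg.symm
  rw [Finset.sum_congr rfl h4, Finset.sum_congr rfl (fun c _ => hconj c), Finset.sum_const,
    Finset.sum_const, smul_eq_mul, smul_eq_mul, Finset.card_univ, mul_one, ← hTc, h2] at hdc
  have hpos : 0 < Fintype.card Ω := by omega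
  exact (Nat.eq_of_mul_eq_mul_left hpos hdc).symm

/-- Two involutions with a common fixed point commute, and a product of two involutions in the
kernel is an involution. -/
theorem orderOf_prod {a b : Ω} (hab : a ≠ b) {K : Subgroup G} (hK : IsKernelAt G a K) {u x y : G}
    (hu : u ∈ K) (hu1 : u ≠ 1) (hx : orderOf x = 2) (hy : orderOf y = 2) (hxy : x * y = u) :
    orderOf u = 2 := by
  classical
  have := finite_of_zass hZ
  have hx2 : x * x = 1 := by rw [← pow_two, ← hx]; exact pow_orderOf_eq_one _
  have hy2 : y * y = 1 := by rw [← pow_two, ← hy]; exact pow_orderOf_eq_one _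
  have hxi : x⁻¹ = x := inv_eq_of_mul_eq_one_left hx2
  have hyi : y⁻¹ = y := inv_eq_of_mul_eq_one_left hy2
  -- `x` and `y` fix `a`
  have hfix : ∀ t : G, t * t = 1 → t * u * t⁻¹ = u⁻¹ → t • a = a := by
    intro t ht2 htu
    have h1 : u • (t • a) = t • a := by
      have h2 : u * t = t * u⁻¹ := by
        have h3 : t * u⁻¹ * t⁻¹ = u := by
          have : t * u⁻¹ * t⁻¹ = (t * u * t⁻¹)⁻¹ := by group
          rw [this, htu, inv_inv]
        calc u * t = (t * u⁻¹ * t⁻¹) * t := by rw [h3]
          _ = t * u⁻¹ := by group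
      rw [← mul_smul, h2, mul_smul]
      congr 1
      exact inv_smul_eq_iff.mpr (hK.le u hu).symm
    exact hK.fixed_eq hu hu1 h1
  have hxu : x * u * x⁻¹ = u⁻¹ := by
    rw [← hxy, hxi, mul_inv_rev, hxi, hyi]
    calc x * (x * y) * x = (x * x) * y * x := by group
      _ = y * x := by rw [hx2, one_mul]
  have hyu : y * u * y⁻¹ = u⁻¹ := by
    rw [← hxy, hyi, mul_inv_rev, hxi, hyi]
    calc y * (x * y) * y = y * x * (y * y) := by group
      _ = y * x := by rw [hy2, mul_one]
  have hxa := hfix x hx2 hxu
  have hya := hfix y hy2 hyu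
  -- the degree is odd
  have hN : Odd (Fintype.card Ω) := by
    by_contra hN
    rw [Nat.not_odd_iff_even] at hN
    have h1 := (fix_card hZ hI x hx).2 hN
    rw [Nat.card_eq_zero] at h1
    rcases h1 with h1 | h1
    · exact h1.false ⟨a, hxa⟩
    · exact (Set.not_infinite.mpr (Set.toFinite _)) (Set.infinite_coe_iff.mp h1)
  -- unique fixed points
  have huniq : ∀ t : G, orderOf t = 2 → t • a = a → ∀ c, t • c = c → c = a := by
    intro t ht hta c htc
    have h1 := (fix_card hZ hI t ht).1 hN
    have hs := (Nat.card_eq_one_iff_unique.mp h1).1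
    exact congrArg Subtype.val (hs.elim (⟨c, htc⟩ : fixedBy Ω t) ⟨a, hta⟩)
  have hcent : ∀ t : G, orderOf t = 2 → t • a = a → ∀ k ∈ K, k * t = t * k := by
    intro t ht hta k hk
    have ht2 : t * t = 1 := by rw [← pow_two, ← ht]; exact pow_orderOf_eq_one _
    have htb : t • b ≠ b := fun h => hab (huniq t ht hta b h).symm
    have hta' : t • b ≠ a := by
      intro h
      apply hab
      have : t • b = t • a := by rw [h, hta]
      exact (smul_left_cancel _ this).symm
    -- the two-point stabiliser acts regularly on the involutions at `a`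
    let H := stabilizer G a ⊓ stabilizer G b
    let f : H → {s : G // orderOf s = 2 ∧ s • a = a} := fun h => ⟨h * t * (h : G)⁻¹, by
      rw [Cfsg.Agent.S0740.cj_order]
      refine ⟨ht, ?_⟩
      rw [mul_smul, mul_smul, inv_smul_eq_iff.mpr h.2.1.symm, hta]
      exact h.2.1⟩
    have hfi : Function.Injective f := by
      intro h l hhl
      have h1 : (h : G) * t * (h : G)⁻¹ = l * t * (l : G)⁻¹ := congrArg Subtype.val hhl
      have h2 : ((l : G)⁻¹ * h) * t = t * ((l : G)⁻¹ * h) := by
        calc ((l : G)⁻¹ * h) * t = (l : G)⁻¹ * ((h : G) * t * (h : G)⁻¹) * h := by group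
          _ = (l : G)⁻¹ * (l * t * (l : G)⁻¹) * h := by rw [h1]
          _ = t * ((l : G)⁻¹ * h) := by group
      set c := (l : G)⁻¹ * h with hc
      have hca : c • a = a := by rw [hc, mul_smul, h.2.1]; exact inv_smul_eq_iff.mpr l.2.1.symm
      have hcb : c • b = b := by rw [hc, mul_smul, h.2.2]; exact inv_smul_eq_iff.mpr l.2.2.symm
      have hctb : c • (t • b) = t • b := by rw [← mul_smul, h2, mul_smul, hcb]
      have hc1 := hZ.2.2.1 c a b (t • b) hab (Ne.symm htb) (Ne.symm hta') hca hcb hctb
      exact Subtype.ext (inv_mul_eq_one.mp hc1).symm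
    have hcardeq := card_inv_at hZ hI hN hab
    have hfb := hfi.bijective_of_nat_card_le hcardeq.le
    have hkt : k * t * k⁻¹ ∈ {s : G | orderOf s = 2 ∧ s • a = a} := by
      refine ⟨?_, ?_⟩
      · rw [Cfsg.Agent.S0740.cj_order]; exact ht
      · rw [mul_smul, mul_smul, inv_smul_eq_iff.mpr (hK.le k hk).symm, hta, hK.le k hk]
    obtain ⟨h, hh⟩ := hfb.2 ⟨_, hkt⟩
    have hh' : (h : G) * t * (h : G)⁻¹ = k * t * k⁻¹ := congrArg Subtype.val hh
    -- `c = h⁻¹ k` centralises `t`
    have hc2 : ((h : G)⁻¹ * k) * t = t * ((h : G)⁻¹ * k) := by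
      calc ((h : G)⁻¹ * k) * t = (h : G)⁻¹ * (k * t * k⁻¹) * k := by group
        _ = (h : G)⁻¹ * ((h : G) * t * (h : G)⁻¹) * k := by rw [hh']
        _ = t * ((h : G)⁻¹ * k) := by group
    set c := (h : G)⁻¹ * k with hc
    have hca : c • a = a := by
      rw [hc, mul_smul, hK.le k hk]; exact inv_smul_eq_iff.mpr h.2.1.symm
    have hcK : c ∈ K := by
      rw [hK.mem_iff c hca]
      by_cases hc1 : c = 1
      · exact Or.inl hc1
      right
      intro y' hy' hcy'
      have h1 : c • (t • y') = t • y' := by rw [← mul_smul, hc2, mul_smul, hcy']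
      have h2 : t • y' ≠ y' := fun h2 => hy' (huniq t ht hta y' h2)
      have h3 : t • y' ≠ a := by
        intro h3
        apply hy'
        have : t • y' = t • a := by rw [h3, hta]
        exact smul_left_cancel _ this
      exact hc1 (hZ.2.2.1 c a y' (t • y') (Ne.symm hy') (Ne.symm h2) (Ne.symm h3) hca hcy' h1)
    have hhK : (h : G) ∈ K := by
      have e : (h : G) = k * c⁻¹ := by rw [hc]; group
      rw [e]
      exact K.mul_mem hk (K.inv_mem hcK)
    have hh1 : (h : G) = 1 := hK.eq_one_of_fix hhK hab.symm h.2.2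
    rw [hh1, inv_one, one_mul] at hc
    rw [hc] at hc2
    exact hc2
  -- both involutions lie in the kernel
  have hmemK : ∀ t : G, orderOf t = 2 → t • a = a → t ∈ K := by
    intro t ht hta
    rw [hK.mem_iff t hta]
    right
    intro c hc htc
    exact hc (huniq t ht hta c htc)
  have hcomm : x * y = y * x := hcent y hy hya x (hmemK x hx hxa)
  apply orderOf_eq_prime
  · rw [pow_two, ← hxy]
    calc x * y * (x * y) = x * (y * x) * y := by group
      _ = x * (x * y) * y := by rw [← hcomm]
      _ = (x * x) * (y * y) := by group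
      _ = 1 := by rw [hx2, hy2, one_mul]
  · exact hu1

end Cfsg.Agent.Lib.ZassInv2
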