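import Mathlib
import Cfsg.Agent.Lib.ZassInv2
import Cfsg.Agent.Lib.CharInd

/-!
# Counting fixed-point-free elements in a Zassenhaus group
-/

set_option autoImplicit false

namespace Cfsg.Agent.Lib.ZassCount

open Cfsg MulAction Cfsg.Agent.Lib.ZassCore Cfsg.Agent.Lib.ZassH

variable {G Ω : Type*} [Group G] [MulAction G Ω] [Fintype Ω] (hZ : IsZassenhausGroup G Ω)

include hZ

/-- The order of a point stabiliser. -/
theorem card_stabilizer {a b : Ω} (hab : a ≠ b) :
    Nat.card (stabilizer G a) =
      (Fintype.card Ω - 1) * Nat.card ↥(stabilizer G a ⊓ stabilizer G b) := by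
  classical
  have := finite_of_zass hZ
  have h1 := (stabilizer G a).card_mul_index
  have horb : orbit G a = Set.univ := by
    ext c
    simp only [Set.mem_univ, iff_true]
    by_cases hca : c = a
    · exact ⟨1, by simp [hca]⟩
    · obtain ⟨g, h5, -⟩ := Cfsg.Agent.Lib.Zassenhaus.two_trans hZ hab (c := c) (d := a) hca
      exact ⟨g, h5⟩
  rw [index_stabilizer, horb, Set.ncard_univ, Nat.card_eq_fintype_card (α := Ω),
    card_group hZ hab] at h1
  have h3 := Cfsg.Agent.Lib.Zassenhaus.three_le_card hZ
  have hpos : 0 < Fintype.card Ω := by omega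
  apply Nat.eq_of_mul_eq_mul_right hpos
  rw [h1]; ring

/-- The number of elements without fixed points. -/
theorem two_mul_card_fpf {a b : Ω} (hab : a ≠ b) :
    2 * Nat.card {g : G // ∀ c : Ω, g • c ≠ c} + (Fintype.card Ω - 1) * (Fintype.card Ω - 2) =
      Nat.card G := by
  classical
  have := finite_of_zass hZ
  let _ := Fintype.ofFinite G
  set N := Fintype.card Ω with hN
  have h3 : 3 ≤ N := Cfsg.Agent.Lib.Zassenhaus.three_le_card hZ
  set e := Nat.card ↥(stabilizer G a ⊓ stabilizer G b) with he
  have hG : Nat.card G = N * (N - 1) * e := card_group hZ hab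
  let F : G → ℕ := fun g => (Finset.univ.filter (fun c : Ω => g • c = c)).card
  -- the stabilisers
  have hcardA : ∀ c : Ω, (Finset.univ.filter (fun g : G => g • c = c)).card = (N - 1) * e := by
    intro c
    have hc : ∃ d : Ω, c ≠ d := by
      by_cases h : c = a
      · exact ⟨b, h ▸ hab⟩
      · exact ⟨a, h⟩
    obtain ⟨d, hd⟩ := hc
    have h1 := card_stabilizer hZ hd
    rw [← Cfsg.Agent.Lib.ZassInv.card_stab_eq hZ hab hd] at h1
    rw [← he] at h1
    rw [← h1, Nat.card_eq_fintype_card, ← Fintype.card_subtype]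
    apply Fintype.card_congr
    exact Equiv.subtypeEquivRight (fun g => by simp [mem_stabilizer_iff])
  have hcard2 : ∀ c d : Ω, c ≠ d →
      (Finset.univ.filter (fun g : G => g • c = c ∧ g • d = d)).card = e := by
    intro c d hcd
    rw [he, Cfsg.Agent.Lib.ZassInv.card_stab_eq hZ hab hcd, Nat.card_eq_fintype_card,
      ← Fintype.card_subtype]
    apply Fintype.card_congr
    exact Equiv.subtypeEquivRight (fun g => by simp [mem_stabilizer_iff, Subgroup.mem_inf])
  -- sum of the fixed points
  have hsum1 : ∑ g : G, F g = N * ((N - 1) * e) := by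
    have := Finset.sum_card_bipartiteAbove_eq_sum_card_bipartiteBelow (s := (Finset.univ : Finset G))
      (t := (Finset.univ : Finset Ω)) (fun (g : G) (c : Ω) => g • c = c)
    simp only [Finset.bipartiteAbove, Finset.bipartiteBelow] at this
    rw [show ∑ g : G, F g = _ from this, Finset.sum_congr rfl (fun c _ => hcardA c),
      Finset.sum_const, Finset.card_univ, smul_eq_mul]
  -- sum of the squares
  have hsum2 : ∑ g : G, F g * F g = 2 * (N * ((N - 1) * e)) := by
    have hF2 : ∀ g : G, F g * F g =
        ((Finset.univ : Finset (Ω × Ω)).filter (fun p => g • p.1 = p.1 ∧ g • p.2 = p.2)).card := by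
      intro g
      rw [← Finset.card_product]
      congr 1
      ext ⟨c, d⟩
      simp
    have := Finset.sum_card_bipartiteAbove_eq_sum_card_bipartiteBelow (s := (Finset.univ : Finset G))
      (t := (Finset.univ : Finset (Ω × Ω))) (fun (g : G) (p : Ω × Ω) => g • p.1 = p.1 ∧ g • p.2 = p.2)
    simp only [Finset.bipartiteAbove, Finset.bipartiteBelow] at this
    rw [Finset.sum_congr rfl (fun g _ => hF2 g), this, Fintype.sum_prod_type]
    have h1 : ∀ c : Ω, ∑ d : Ω,
        (Finset.univ.filter (fun g : G => g • (c, d).1 = (c, d).1 ∧ g • (c, d).2 = (c, d).2)).card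
        = 2 * ((N - 1) * e) := by
      intro c
      rw [← Finset.add_sum_erase _ _ (Finset.mem_univ c)]
      have h2 : (Finset.univ.filter (fun g : G => g • (c, c).1 = (c, c).1 ∧ g • (c, c).2 = (c, c).2)).card
          = (N - 1) * e := by
        rw [← hcardA c]
        congr 1
        ext g
        simp
      rw [h2, Finset.sum_congr rfl (fun d hd => hcard2 c d (Ne.symm (Finset.ne_of_mem_erase hd))),
        Finset.sum_const, smul_eq_mul, Finset.card_erase_of_mem (Finset.mem_univ c),
        Finset.card_univ]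
      ring
    rw [Finset.sum_congr rfl (fun c _ => h1 c), Finset.sum_const, smul_eq_mul, Finset.card_univ]
    ring
  -- pointwise identity
  have hpt : ∀ g : G, ((F g : ℤ) * F g + 2) =
      3 * (F g : ℤ) + 2 * (if ∀ c : Ω, g • c ≠ c then 1 else 0) +
        (if g = 1 then ((N : ℤ) - 1) * ((N : ℤ) - 2) else 0) := by
    intro g
    by_cases hg : g = 1
    · subst hg
      have hF : F 1 = N := by
        simp [F, hN, Finset.card_univ]
      have hne : ¬ ∀ c : Ω, (1 : G) • c ≠ c := by
        push Not
        exact ⟨a, by simp⟩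
      rw [hF, if_neg hne, if_pos rfl]
      ring
    · have hle : F g ≤ 2 := by
        by_contra hlt
        push Not at hlt
        obtain ⟨c, hc, d, hd, e', he', hcd, hce, hde⟩ := Finset.two_lt_card.mp hlt
        simp only [Finset.mem_filter, Finset.mem_univ, true_and] at hc hd he'
        exact hg (hZ.2.2.1 g c d e' hcd hde hce hc hd he')
      have hzero : (∀ c : Ω, g • c ≠ c) ↔ F g = 0 := by
        simp only [F, Finset.card_eq_zero, Finset.filter_eq_empty_iff, Finset.mem_univ, true_implies]
      simp only [hg, if_false, hzero]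
      have : F g = 0 ∨ F g = 1 ∨ F g = 2 := by omega
      rcases this with h | h | h <;> simp [h]
  have hsum := Finset.sum_congr (rfl : (Finset.univ : Finset G) = Finset.univ) (fun g _ => hpt g)
  rw [Finset.sum_add_distrib, Finset.sum_add_distrib, Finset.sum_add_distrib, ← Finset.mul_sum,
    ← Finset.mul_sum, Finset.sum_const, Finset.sum_ite_eq' ] at hsum
  simp only [Finset.mem_univ, if_true, Finset.card_univ, nsmul_eq_mul] at hsum
  have e1 : ∑ g : G, (F g : ℤ) * F g = ((∑ g : G, F g * F g : ℕ) : ℤ) := by push_cast; rfl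
  have e2 : ∑ g : G, (F g : ℤ) = ((∑ g : G, F g : ℕ) : ℤ) := by push_cast; rfl
  have e3 : ∑ g : G, (if ∀ c : Ω, g • c ≠ c then (1 : ℤ) else 0) =
      (Nat.card {g : G // ∀ c : Ω, g • c ≠ c} : ℤ) := by
    rw [Finset.sum_boole, Nat.card_eq_fintype_card, Fintype.card_subtype]
  rw [e1, e2, e3, hsum1, hsum2] at hsum
  have hM : Fintype.card G = N * ((N - 1) * e) := by
    rw [← Nat.card_eq_fintype_card, hG, mul_assoc]
  rw [hM] at hsum
  have hsub1 : ((N - 1 : ℕ) : ℤ) = (N : ℤ) - 1 := by
    push_cast [Nat.cast_sub (show 1 ≤ N by omega)]; ring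
  have hsub2 : ((N - 2 : ℕ) : ℤ) = (N : ℤ) - 2 := by
    push_cast [Nat.cast_sub (show 2 ≤ N by omega)]; ring
  have : ((2 * Nat.card {g : G // ∀ c : Ω, g • c ≠ c} + (N - 1) * (N - 2) : ℕ) : ℤ) =
      (Nat.card G : ℤ) := by
    rw [hG, mul_assoc]
    push_cast
    push_cast at hsum
    rw [hsub1] at hsum
    rw [hsub1, hsub2]
    linarith
  exact_mod_cast this

/-- If the two-point stabiliser has more than two elements, not all elements without fixed points are
conjugate. -/
theorem exists_not_conj {a b : Ω} (hab : a ≠ b)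
    (h3e : 3 ≤ Nat.card ↥(stabilizer G a ⊓ stabilizer G b)) :
    ∃ x y : G, (∀ c : Ω, x • c ≠ c) ∧ (∀ c : Ω, y • c ≠ c) ∧ ¬ IsConj x y := by
  classical
  have := finite_of_zass hZ
  have hcount := two_mul_card_fpf hZ hab
  have hG := card_group hZ hab
  set N := Fintype.card Ω with hN
  set e := Nat.card ↥(stabilizer G a ⊓ stabilizer G b) with he
  have h3 : 3 ≤ N := Cfsg.Agent.Lib.Zassenhaus.three_le_card hZ
  set n₀ := Nat.card {g : G // ∀ c : Ω, g • c ≠ c} with hn₀
  have hN1 : (N - 1) * (N - 2) < N * (N - 1) := by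
    rw [mul_comm N]
    exact Nat.mul_lt_mul_of_pos_left (by omega) (by omega)
  have hA : 3 * (N * (N - 1)) ≤ Nat.card G := by
    rw [hG, mul_comm 3]
    exact Nat.mul_le_mul_left _ h3e
  have hpos : 0 < n₀ := by
    by_contra h0
    have : n₀ = 0 := by omega
    rw [this] at hcount
    omega
  obtain ⟨x⟩ : Nonempty {g : G // ∀ c : Ω, g • c ≠ c} := by
    apply (Nat.card_pos_iff.mp hpos).1
  by_contra hcon
  push Not at hcon
  have hclass : Nat.card {y : G // IsConj x.1 y} = n₀ := by
    rw [hn₀]
    apply Nat.card_congr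
    refine Equiv.subtypeEquivRight (fun y => ⟨?_, ?_⟩)
    · intro hy c hc
      obtain ⟨t, rfl⟩ := isConj_iff.mp hy
      apply x.2 (t⁻¹ • c)
      rw [mul_smul, mul_smul] at hc
      exact (smul_eq_iff_eq_inv_smul t).mp hc
    · intro hy
      by_contra hnc
      obtain ⟨c, hc⟩ : ∃ c, y • c = c := by
        by_contra hall
        push Not at hall
        exact hnc (by
          have := hcon x.1 y x.2 hall
          exact this)
      exact hy c hc
  letI := Fintype.ofFinite G
  have hmul := Cfsg.Agent.Lib.CharInd.card_conj_mul_card_centralizer x.1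
  rw [hclass] at hmul
  set c := Nat.card (Subgroup.centralizer ({x.1} : Set G)) with hc
  rcases Nat.lt_or_ge c 3 with hlt | hge
  · have h1 : n₀ * c ≤ n₀ * 2 := Nat.mul_le_mul_left _ (by omega)
    have h2 : 0 < (N - 1) * (N - 2) := Nat.mul_pos (by omega) (by omega)
    omega
  · have h1 : n₀ * 3 ≤ n₀ * c := Nat.mul_le_mul_left _ hge
    omega

end Cfsg.Agent.Lib.ZassCount
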