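import Mathlib
import Cfsg.Agent.Lib.ZassAbV19
import Cfsg.Agent.Lib.ZassCore
import Cfsg.Agent.Lib.ZassCount

/-!
# Consequences of the bound for an abelian T.I. subgroup, and the data of a Zassenhaus group
-/

set_option autoImplicit false
set_option linter.unusedSectionVars false

namespace Cfsg.Agent.Lib.ZassAbL19

open Cfsg Cfsg.Agent.Lib.CharBasic Cfsg.Agent.Lib.CharInd Cfsg.Agent.Lib.CharKernel
  Cfsg.Agent.Lib.ZassAbU19 Cfsg.Agent.Lib.ZassAbV19 Finset
open scoped ComplexConjugate

universe u v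

section Simple

variable {G : Type u} [Group G] [Fintype G]

/-- A nontrivial irreducible character of a simple group is faithful. -/
theorem char_ne_of_simple [IsSimpleGroup G] (χ : IrrCharacter G) (hχ : χ ≠ triv G) {g : G}
    (hg : g ≠ 1) : (χ : G → ℂ) g ≠ (χ : G → ℂ) 1 := by
  classical
  intro h
  have h1 : charKer (IsIrrCharacter.isCharacter χ.2) = ⊤ := by
    rcases IsSimpleGroup.eq_bot_or_eq_top_of_normal
      (charKer (IsIrrCharacter.isCharacter χ.2)) inferInstance with h2 | h2
    · exfalso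
      have h3 : g ∈ charKer (IsIrrCharacter.isCharacter χ.2) := h
      rw [h2, Subgroup.mem_bot] at h3
      exact hg h3
    · exact h2
  have h2 : ∀ x : G, (χ : G → ℂ) x = (χ : G → ℂ) 1 := by
    intro x
    have h3 : x ∈ charKer (IsIrrCharacter.isCharacter χ.2) := by rw [h1]; trivial
    exact h3
  have hne : (χ : G → ℂ) ≠ fun _ => 1 := by
    intro h3
    exact hχ (Subtype.ext h3)
  have h3 := classInner_irr_ne χ.2 isIrrCharacter_one hne
  rw [classInner] at h3
  have h4 : ∑ x : G, (χ : G → ℂ) x * conj ((fun _ => (1 : ℂ)) x) =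
      (Fintype.card G : ℂ) * (χ : G → ℂ) 1 := by
    simp only [map_one, mul_one, h2 ]
    simp
  rw [h4] at h3
  have h5 : (Nat.card G : ℂ) ≠ 0 := by
    exact_mod_cast Nat.card_pos.ne'
  have h6 : (χ : G → ℂ) 1 ≠ 0 := by
    rw [one_eq_charDegree (IsIrrCharacter.isCharacter χ.2)]
    exact_mod_cast charDegree_pos χ.2 |>.ne'
  have h7 : (Fintype.card G : ℂ) ≠ 0 := by
    exact_mod_cast Fintype.card_ne_zero
  simp_all

end Simple

section Abstract

variable {G : Type u} [Group G] [Fintype G] {A : Type v} [AddCommGroup A] [Fintype A]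
  [DecidableEq A] {N : Subgroup G} [DistribMulAction N A] {ι : A → G} (D : TIData N ι) [Fintype N]
  [DecidableEq N]

include D in
/-- Orbit sizes on `A`. -/
theorem card_orb_A {d : ℕ} (hd : Fintype.card N = Fintype.card A * d) (a : A) (ha : a ≠ 0) :
    (univ.image (fun x : N => x • a)).card = d := by
  classical
  have h1 := Finset.card_eq_sum_card_image (fun x : N => x • a) (univ : Finset N)
  have h2 : ∀ b ∈ univ.image (fun x : N => x • a),
      (univ.filter (fun x : N => x • a = b)).card = Fintype.card A := by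
    intro b hb
    rw [D.card_fib_A a b ha, if_pos]
    obtain ⟨x, _, hx⟩ := mem_image.1 hb
    exact ⟨x, hx⟩
  rw [Finset.sum_congr rfl h2, sum_const, smul_eq_mul, card_univ, hd, mul_comm] at h1
  exact (Nat.eq_of_mul_eq_mul_right Fintype.card_pos h1).symm

include D in
/-- The classes of nonidentity elements of `ι A`. -/
theorem classes_lower [DecidableEq (ConjClasses G)] {d : ℕ}
    (hd : Fintype.card N = Fintype.card A * d) :
    Fintype.card A ≤ d * ((univ.erase (0 : A)).image (fun a => ConjClasses.mk (ι a))).card + 1 := by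
  classical
  have h1 : (univ.erase (0 : A)).card ≤
      d * ((univ.erase (0 : A)).image (fun a => ConjClasses.mk (ι a))).card := by
    refine Finset.card_le_mul_card_image _ d ?_
    intro C hC
    obtain ⟨a, ha, rfl⟩ := mem_image.1 hC
    have ha0 : a ≠ 0 := (mem_erase.1 ha).1
    rw [← card_orb_A D hd a ha0]
    refine card_le_card ?_
    intro a' ha'
    rw [mem_filter] at ha'
    have h2 : IsConj (ι a) (ι a') := (ConjClasses.mk_eq_mk_iff_isConj.mp ha'.2.symm)
    rw [isConj_iff] at h2
    obtain ⟨g, hg⟩ := h2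
    have hgN := D.ti a a' g ha0 hg
    refine mem_image.2 ⟨⟨g, hgN⟩, mem_univ _, ?_⟩
    apply D.inj
    rw [D.act]
    exact hg
  rw [card_erase_of_mem (mem_univ _), card_univ] at h1
  omega

variable (hN : Nat.card G = (Fintype.card A + 1) * Fintype.card N)
  {d : ℕ} (hd : Fintype.card N = Fintype.card A * d)

include D hN hd in
/-- There is no proper nontrivial `N`-stable subgroup of `A` when the bound is attained. -/
theorem no_stable (hker : ∀ χ : IrrCharacter G, χ ≠ triv G → ∀ a, a ≠ 0 → (χ : G → ℂ) (ι a) ≠ (χ : G → ℂ) 1)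
    (hd0 : 0 < d) (E : AddSubgroup A) (hEN : ∀ x : N, ∀ t ∈ E, x • t ∈ E) (hE : E ≠ ⊤)
    (hE0 : ∃ t ∈ E, t ≠ 0) (hlt : d + 1 < Fintype.card A)
    (htight : d * (d + 1) + Fintype.card A ≤ d * Fintype.card (IrrCharacter G) + 1) : False := by
  classical
  -- a nontrivial character trivial on `E`
  have hQ : Nontrivial (A ⧸ E) := QuotientAddGroup.nontrivial_iff.2 hE
  obtain ⟨ψ', hψ'⟩ : ∃ ψ' : AddChar (A ⧸ E) ℂ, ψ' ≠ 0 := by
    have : Finite (A ⧸ E) := inferInstance
    haveI := Fintype.ofFinite (A ⧸ E)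
    have h1 : Fintype.card (AddChar (A ⧸ E) ℂ) = Fintype.card (A ⧸ E) := AddChar.card_eq
    have h2 : 1 < Fintype.card (AddChar (A ⧸ E) ℂ) := by
      rw [h1]; exact Fintype.one_lt_card
    obtain ⟨x, hx⟩ := Fintype.exists_ne_of_one_lt_card h2 (0 : AddChar (A ⧸ E) ℂ)
    exact ⟨x, hx⟩
  set ψ₁ : AddChar A ℂ := ψ'.compAddMonoidHom (QuotientAddGroup.mk' E) with hψ₁
  have hψ₁0 : ψ₁ ≠ 0 := by
    intro h
    apply hψ'
    ext q
    obtain ⟨c, rfl⟩ := QuotientAddGroup.mk'_surjective E q
    have h2 := congrArg (fun f : AddChar A ℂ => f c) h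
    simpa [hψ₁] using h2
  have hψ₁E : ∀ t ∈ E, ψ₁ t = 1 := by
    intro t ht
    have h1 : (QuotientAddGroup.mk' E) t = 0 := (QuotientAddGroup.eq_zero_iff t).2 ht
    show ψ' ((QuotientAddGroup.mk' E) t) = 1
    rw [h1, AddChar.map_zero_eq_one]
  -- an unrelated character
  obtain ⟨ψ₀, hψ₀, hrel⟩ : ∃ ψ₀ : AddChar A ℂ, ψ₀ ≠ 0 ∧ ¬ ∃ x : N, tw N x ψ₀ = ψ₁ := by
    by_contra hcon
    push Not at hcon
    have h1 : (univ.erase (0 : AddChar A ℂ)) ⊆ univ.image (fun x : N => tw N x ψ₁) := by
      intro ψ hψ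
      obtain ⟨x, hx⟩ := hcon ψ (mem_erase.1 hψ).1
      refine mem_image.2 ⟨x⁻¹, mem_univ _, ?_⟩
      rw [← hx, tw_inv_tw]
    have h2 := card_le_card h1
    rw [card_orb D hd ψ₁ hψ₁0, card_erase_of_mem (mem_univ _), card_univ, AddChar.card_eq] at h2
    omega
  have hker' : ∀ χ : IrrCharacter G, χ ≠ triv G → ∃ a, (χ : G → ℂ) (ι a) ≠ (χ : G → ℂ) 1 := by
    intro χ hχ
    obtain ⟨t, _, ht⟩ := hE0
    exact ⟨t, hker χ hχ t ht⟩
  obtain ⟨χ, hχ, -, hχ2⟩ := exists_tight D hN hd hker' hd0 ψ₀ ψ₁ hψ₀ hψ₁0 hrel htight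
  obtain ⟨t, htE, ht0⟩ := hE0
  apply hker χ hχ t ht0
  have h1 : ∀ b ∈ E, (χ : G → ℂ) (ι b) = ∑ ψ : AddChar A ℂ, ww ι (χ : G → ℂ) ψ := by
    intro b hb
    rw [← sum_ww_mul ι (χ : G → ℂ) b]
    refine sum_congr rfl fun ψ _ => ?_
    by_cases hψ : ψ = 0
    · subst hψ
      simp
    by_cases hm : mm D χ ψ = 0
    · rw [mm_spec D, hm]
      simp
    · obtain ⟨x, rfl⟩ := (hχ2 ψ hψ).1 hm
      rw [tw_apply, hψ₁E _ (hEN x⁻¹ b hb), mul_one]
  rw [h1 t htE, ← h1 0 E.zero_mem, D.zero]

end Abstract

section Zass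

open MulAction Cfsg.Agent.Lib.ZassCore

variable {G : Type u} {Ω : Type v} [Group G] [MulAction G Ω] {a : Ω} {F : Subgroup G}

/-- The commutative group structure of an abelian subgroup. -/
@[reducible] def commF (hc : ∀ x ∈ F, ∀ y ∈ F, x * y = y * x) : CommGroup F :=
  { (inferInstance : Group F) with mul_comm := fun x y => Subtype.ext (hc x x.2 y y.2) }

/-- The conjugation action of the point stabiliser on the kernel. -/
@[reducible] def actF (hF : IsKernelAt G a F) (hc : ∀ x ∈ F, ∀ y ∈ F, x * y = y * x) :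
    letI := commF hc
    DistribMulAction (stabilizer G a) (Additive F) :=
  letI := commF hc
  { smul := fun x t => Additive.ofMul
      (⟨(x : G) * ((Additive.toMul t : F) : G) * (x : G)⁻¹, hF.normal x x.2 _ (Additive.toMul t).2⟩ : F)
    one_smul := fun t => by
      apply Additive.toMul.injective
      apply Subtype.ext
      show (1 : G) * ((Additive.toMul t : F) : G) * (1 : G)⁻¹ = _
      simp
    mul_smul := fun x y t => by
      apply Additive.toMul.injective
      apply Subtype.ext
      show ((x : G) * y) * ((Additive.toMul t : F) : G) * ((x : G) * y)⁻¹ =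
        (x : G) * ((y : G) * ((Additive.toMul t : F) : G) * (y : G)⁻¹) * (x : G)⁻¹
      group
    smul_zero := fun x => by
      apply Additive.toMul.injective
      apply Subtype.ext
      show (x : G) * (1 : G) * (x : G)⁻¹ = 1
      simp
    smul_add := fun x t t' => by
      apply Additive.toMul.injective
      apply Subtype.ext
      show (x : G) * (((Additive.toMul t : F) : G) * ((Additive.toMul t' : F) : G)) * (x : G)⁻¹ =
        ((x : G) * ((Additive.toMul t : F) : G) * (x : G)⁻¹) *
          ((x : G) * ((Additive.toMul t' : F) : G) * (x : G)⁻¹)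
      group }

theorem tiData [Fintype Ω] (hZ : IsZassenhausGroup G Ω) {b : Ω} (hb : b ≠ a) (hF : IsKernelAt G a F)
    (hc : ∀ x ∈ F, ∀ y ∈ F, x * y = y * x) :
    letI := commF hc
    letI := actF hF hc
    TIData (stabilizer G a) (fun t : Additive F => ((Additive.toMul t : F) : G)) := by
  letI := commF hc
  letI := actF hF hc
  refine ⟨fun _ _ => rfl, ?_, fun _ _ => rfl, fun t => hF.le _ (Additive.toMul t).2, ?_, ?_⟩
  · intro t t' h
    exact Additive.toMul.injective (Subtype.ext h)
  · intro t t' g ht hg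
    have h1 : ((Additive.toMul t : F) : G) ≠ 1 := by
      intro h
      apply ht
      apply Additive.toMul.injective
      exact Subtype.ext h
    have h2 : (g * ((Additive.toMul t : F) : G) * g⁻¹) • a = a := by
      rw [hg]
      exact hF.le _ (Additive.toMul t').2
    rw [mul_smul, mul_smul] at h2
    have h3 := hF.fixed_eq (Additive.toMul t).2 h1 ((smul_eq_iff_eq_inv_smul g).mp h2)
    rw [mem_stabilizer_iff]
    have h4 : g⁻¹ • a = a := h3
    rw [inv_smul_eq_iff] at h4
    exact h4.symm
  · intro x t ht hx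
    have h1 : ((Additive.toMul t : F) : G) ≠ 1 := by
      intro h
      apply ht
      apply Additive.toMul.injective
      exact Subtype.ext h
    set u : G := ((Additive.toMul t : F) : G) with hu
    have huF : u ∈ F := (Additive.toMul t).2
    have hxu : (x : G) * u * (x : G)⁻¹ = u := by
      have := congrArg (fun t : Additive F => ((Additive.toMul t : F) : G)) hx
      exact this
    have hcomm : (x : G) * u = u * x := by
      calc (x : G) * u = (x : G) * u * (x : G)⁻¹ * x := by group
        _ = u * x := by rw [hxu]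
    obtain ⟨k, hk, hk1, hk2⟩ := hF.exists_decomp hb (g := (x : G)) x.2
    set y := k⁻¹ * (x : G) with hy
    have hyu : y * u = u * y := by
      rw [hy, mul_assoc, hcomm, ← mul_assoc, ← mul_assoc]
      congr 1
      have := hc _ (F.inv_mem hk) u huF
      exact this
    have hy3 : y • (u • b) = u • b := by
      rw [← mul_smul, hyu, mul_smul, hk2]
    have h2 : u • b ≠ b := fun h => hb (hF.fixed_eq huF h1 h)
    have h3 : u • b ≠ a := by
      intro h
      apply hb
      have h4 : u • b = u • a := by rw [h, hF.le u huF]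
      exact smul_left_cancel _ h4
    have hy1 : y = 1 := Cfsg.Agent.Lib.Zassenhaus.eq_one_of_three hZ (Ne.symm hb) h2.symm h3.symm hk1 hk2 hy3
    refine ⟨Additive.ofMul ⟨k, hk⟩, ?_⟩
    show (x : G) = k
    rw [hy] at hy1
    exact (inv_mul_eq_one.mp hy1).symm

section main

variable [Fintype Ω] (hZ : IsZassenhausGroup G Ω) {b : Ω} (hb : b ≠ a) (hF : IsKernelAt G a F)
  (hc : ∀ x ∈ F, ∀ y ∈ F, x * y = y * x)

include hZ hb hF

theorem card_F_add_one : Nat.card F + 1 = Fintype.card Ω := by
  have := hF.card_add_one hb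
  rwa [Nat.card_eq_fintype_card (α := Ω)] at this

theorem card_stab_F :
    Nat.card (stabilizer G a) = Nat.card F * Nat.card ↥(stabilizer G a ⊓ stabilizer G b) := by
  rw [Cfsg.Agent.Lib.ZassCount.card_stabilizer hZ (Ne.symm hb)]
  have := card_F_add_one hZ hb hF
  congr 1
  omega

theorem card_G_F :
    Nat.card G = (Nat.card F + 1) * Nat.card (stabilizer G a) := by
  rw [card_stab_F hZ hb hF, Cfsg.Agent.Lib.ZassH.card_group hZ (Ne.symm hb)]
  have := card_F_add_one hZ hb hF
  rw [← this, Nat.add_sub_cancel, mul_assoc]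

include hc

/-- The two basic estimates for a simple Zassenhaus group with abelian kernel. -/
theorem card_classes_le [IsSimpleGroup G] :
    Nat.card ↥(stabilizer G a ⊓ stabilizer G b) * Nat.card (ConjClasses G) + 1 ≤
      Nat.card ↥(stabilizer G a ⊓ stabilizer G b) * (Nat.card ↥(stabilizer G a ⊓ stabilizer G b) + 1) +
        Nat.card F := by
  classical
  have := finite_of_zass hZ
  letI := Fintype.ofFinite G
  letI := commF hc
  letI := actF hF hc
  letI : Fintype (stabilizer G a) := Fintype.ofFinite _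
  letI : Fintype (Additive F) := Fintype.ofFinite _
  have D := tiData hZ hb hF hc
  have hcA : Fintype.card (Additive F) = Nat.card F := by
    rw [← Nat.card_eq_fintype_card]
    rfl
  have hN : Nat.card G = (Fintype.card (Additive F) + 1) * Fintype.card (stabilizer G a) := by
    rw [hcA, ← Nat.card_eq_fintype_card]
    exact card_G_F hZ hb hF
  have hd : Fintype.card (stabilizer G a) = Fintype.card (Additive F) *
      Nat.card ↥(stabilizer G a ⊓ stabilizer G b) := by
    rw [hcA, ← Nat.card_eq_fintype_card]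
    exact card_stab_F hZ hb hF
  have hn1 : 1 < Nat.card F := by
    have h3 := Cfsg.Agent.Lib.Zassenhaus.three_le_card hZ
    have := card_F_add_one hZ hb hF
    omega
  obtain ⟨ψ₀, hψ₀⟩ : ∃ ψ₀ : AddChar (Additive F) ℂ, ψ₀ ≠ 0 := by
    have h2 : 1 < Fintype.card (AddChar (Additive F) ℂ) := by
      rw [AddChar.card_eq, hcA]; exact hn1
    obtain ⟨x, hx⟩ := Fintype.exists_ne_of_one_lt_card h2 (0 : AddChar (Additive F) ℂ)
    exact ⟨x, hx⟩
  have hker : ∀ χ : IrrCharacter G, χ ≠ triv G →
      ∃ t : Additive F, (χ : G → ℂ) ((Additive.toMul t : F) : G) ≠ (χ : G → ℂ) 1 := by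
    intro χ hχ
    have h1 : 1 < Fintype.card (Additive F) := by rw [hcA]; exact hn1
    obtain ⟨t, ht⟩ := Fintype.exists_ne_of_one_lt_card h1 (0 : Additive F)
    refine ⟨t, char_ne_of_simple χ hχ ?_⟩
    intro h
    apply ht
    apply Additive.toMul.injective
    exact Subtype.ext h
  have h := card_irr_le D hN hd hker ψ₀ hψ₀
  rw [hcA, ← Nat.card_eq_fintype_card, card_irr_eq_card_conjClasses] at h
  exact h

/-- The classes of non-identity elements of the kernel. -/
theorem card_F_le_classes (S : Finset (ConjClasses G))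
    (hS : ∀ g ∈ F, g ≠ 1 → ConjClasses.mk g ∈ S) :
    Nat.card F ≤ Nat.card ↥(stabilizer G a ⊓ stabilizer G b) * S.card + 1 := by
  classical
  have := finite_of_zass hZ
  letI := Fintype.ofFinite G
  letI := commF hc
  letI := actF hF hc
  letI : Fintype (stabilizer G a) := Fintype.ofFinite _
  letI : Fintype (Additive F) := Fintype.ofFinite _
  have D := tiData hZ hb hF hc
  have hcA : Fintype.card (Additive F) = Nat.card F := by
    rw [← Nat.card_eq_fintype_card]
    rfl
  have hd : Fintype.card (stabilizer G a) = Fintype.card (Additive F) *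
      Nat.card ↥(stabilizer G a ⊓ stabilizer G b) := by
    rw [hcA, ← Nat.card_eq_fintype_card]
    exact card_stab_F hZ hb hF
  have h := classes_lower D hd
  rw [hcA] at h
  refine h.trans (Nat.add_le_add_right (Nat.mul_le_mul_left _ (card_le_card ?_)) _)
  intro C hC
  obtain ⟨t, ht, rfl⟩ := mem_image.1 hC
  refine hS _ (Additive.toMul t).2 ?_
  intro h2
  apply (mem_erase.1 ht).1
  apply Additive.toMul.injective
  exact Subtype.ext h2

/-- A proper nontrivial subgroup of the kernel, normalised by the point stabiliser, cannot exist in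
the tight case. -/
theorem no_stable_zass [IsSimpleGroup G] (E : Subgroup G) (hEF : E ≤ F)
    (hEN : ∀ x : G, x • a = a → ∀ t ∈ E, x * t * x⁻¹ ∈ E) (hE : E ≠ F) (hE1 : E ≠ ⊥)
    (hd0 : 0 < Nat.card ↥(stabilizer G a ⊓ stabilizer G b))
    (hlt : Nat.card ↥(stabilizer G a ⊓ stabilizer G b) + 1 < Nat.card F)
    (htight : Nat.card ↥(stabilizer G a ⊓ stabilizer G b) *
      (Nat.card ↥(stabilizer G a ⊓ stabilizer G b) + 1) + Nat.card F ≤
        Nat.card ↥(stabilizer G a ⊓ stabilizer G b) * Nat.card (ConjClasses G) + 1) : False := by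
  classical
  have := finite_of_zass hZ
  letI := Fintype.ofFinite G
  letI := commF hc
  letI := actF hF hc
  letI : Fintype (stabilizer G a) := Fintype.ofFinite _
  letI : Fintype (Additive F) := Fintype.ofFinite _
  have D := tiData hZ hb hF hc
  have hcA : Fintype.card (Additive F) = Nat.card F := by
    rw [← Nat.card_eq_fintype_card]
    rfl
  have hN : Nat.card G = (Fintype.card (Additive F) + 1) * Fintype.card (stabilizer G a) := by
    rw [hcA, ← Nat.card_eq_fintype_card]
    exact card_G_F hZ hb hF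
  have hd : Fintype.card (stabilizer G a) = Fintype.card (Additive F) *
      Nat.card ↥(stabilizer G a ⊓ stabilizer G b) := by
    rw [hcA, ← Nat.card_eq_fintype_card]
    exact card_stab_F hZ hb hF
  have hker : ∀ χ : IrrCharacter G, χ ≠ triv G → ∀ t : Additive F, t ≠ 0 →
      (χ : G → ℂ) ((Additive.toMul t : F) : G) ≠ (χ : G → ℂ) 1 := by
    intro χ hχ t ht
    refine char_ne_of_simple χ hχ ?_
    intro h
    apply ht
    apply Additive.toMul.injective
    exact Subtype.ext h
  let E' : AddSubgroup (Additive F) :=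
    { carrier := {t | ((Additive.toMul t : F) : G) ∈ E}
      add_mem' := fun {t t'} ht ht' => E.mul_mem ht ht'
      zero_mem' := E.one_mem
      neg_mem' := fun {t} ht => E.inv_mem ht }
  have hE'N : ∀ x : stabilizer G a, ∀ t ∈ E', x • t ∈ E' := by
    intro x t ht
    exact hEN x x.2 _ ht
  have hE'ne : E' ≠ ⊤ := by
    intro h
    apply hE
    apply le_antisymm hEF
    intro u hu
    have h1 : Additive.ofMul (⟨u, hu⟩ : F) ∈ E' := by rw [h]; trivial
    exact h1
  have hE'0 : ∃ t ∈ E', t ≠ 0 := by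
    obtain ⟨x, hx⟩ := (Subgroup.ne_bot_iff_exists_ne_one (H := E)).1 hE1
    refine ⟨Additive.ofMul (⟨x, hEF x.2⟩ : F), x.2, ?_⟩
    intro h
    apply hx
    have := congrArg (fun t : Additive F => ((Additive.toMul t : F) : G)) h
    exact Subtype.ext this
  have htight' : Nat.card ↥(stabilizer G a ⊓ stabilizer G b) *
      (Nat.card ↥(stabilizer G a ⊓ stabilizer G b) + 1) + Fintype.card (Additive F) ≤
        Nat.card ↥(stabilizer G a ⊓ stabilizer G b) * Fintype.card (IrrCharacter G) + 1 := by
    rw [hcA, ← Nat.card_eq_fintype_card, card_irr_eq_card_conjClasses]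
    exact htight
  exact no_stable D hN hd hker hd0 E' hE'N hE'ne hE'0 (by rw [hcA]; exact hlt) htight'

end main

end Zass

end Cfsg.Agent.Lib.ZassAbL19
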