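import Mathlib
import Cfsg.Agent.Lib.CharInd

/-!
# Counting products of two involutions by conjugacy classes

If `g` is a product of two involutions, the number of ways of writing it so is at most the order of
its centraliser: hence the pairs of involutions with product in a given class number at most `|G|`.
-/

set_option autoImplicit false

namespace Cfsg.Agent.Lib.ZassClasses9

variable {G : Type*} [Group G] [Finite G]

/-- The number of ways of writing `g` as a product of two involutions is at most `|C_G(g)|`. -/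
theorem card_prod_le (g : G) :
    Nat.card {p : G × G // orderOf p.1 = 2 ∧ orderOf p.2 = 2 ∧ p.1 * p.2 = g} ≤
      Nat.card (Subgroup.centralizer ({g} : Set G)) := by
  classical
  by_cases hne : Nonempty {p : G × G // orderOf p.1 = 2 ∧ orderOf p.2 = 2 ∧ p.1 * p.2 = g}
  · obtain ⟨⟨⟨x₀, y₀⟩, hx₀, hy₀, hg₀⟩⟩ := hne
    simp only at hx₀ hy₀ hg₀
    have inv2 : ∀ t : G, orderOf t = 2 → t * t = 1 := fun t ht => by
      rw [← pow_two, ← ht]; exact pow_orderOf_eq_one _
    have hmem : ∀ p : {p : G × G // orderOf p.1 = 2 ∧ orderOf p.2 = 2 ∧ p.1 * p.2 = g},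
        (p.1.1 * x₀) ∈ Subgroup.centralizer ({g} : Set G) := by
      rintro ⟨⟨x, y⟩, hx, hy, hg⟩
      simp only at hx hy hg
      rw [Subgroup.mem_centralizer_singleton_iff]
      have hxx := inv2 x hx
      have hyy := inv2 y hy
      have hxx₀ := inv2 x₀ hx₀
      have hyy₀ := inv2 y₀ hy₀
      -- `x₀ g x₀ = g⁻¹ = x g x`
      have h1 : x₀ * g * x₀ = y₀ * x₀ := by
        rw [← hg₀, ← mul_assoc, hxx₀, one_mul]
      have h2 : x * g * x = y * x := by
        rw [← hg, ← mul_assoc, hxx, one_mul]
      have h3 : (y₀ * x₀) * g = 1 := by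
        rw [← hg₀]
        calc y₀ * x₀ * (x₀ * y₀) = y₀ * (x₀ * x₀) * y₀ := by group
          _ = 1 := by rw [hxx₀, mul_one, hyy₀]
      have h4 : (y * x) * g = 1 := by
        rw [← hg]
        calc y * x * (x * y) = y * (x * x) * y := by group
          _ = 1 := by rw [hxx, mul_one, hyy]
      have h5 : x₀ * g * x₀ = x * g * x := by
        rw [h1, h2]
        have : y₀ * x₀ = g⁻¹ := eq_inv_of_mul_eq_one_left h3
        rw [this]
        exact (eq_inv_of_mul_eq_one_left h4).symm
      calc x * x₀ * g = x * (x₀ * g * x₀) * x₀ := by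
            rw [mul_assoc x (x₀ * g * x₀), mul_assoc (x₀ * g), hxx₀, mul_one, mul_assoc]
        _ = x * (x * g * x) * x₀ := by rw [h5]
        _ = (x * x) * g * (x * x₀) := by group
        _ = g * (x * x₀) := by rw [hxx, one_mul]
    refine Nat.card_le_card_of_injective
      (fun p => (⟨p.1.1 * x₀, hmem p⟩ : Subgroup.centralizer ({g} : Set G))) ?_
    rintro ⟨⟨x, y⟩, hx, hy, hg⟩ ⟨⟨x', y'⟩, hx', hy', hg'⟩ h
    simp only [Subtype.mk.injEq] at h hg hg'
    have h1 : x = x' := mul_right_cancel h
    subst h1
    have h2 : y = y' := mul_left_cancel (hg.trans hg'.symm)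
    subst h2
    rfl
  · rw [not_nonempty_iff] at hne
    rw [Nat.card_of_isEmpty]
    exact Nat.zero_le _

open Finset in
/-- The pairs of involutions whose product lies in a given conjugacy class number at most `|G|`. -/
theorem card_fibre_le [Fintype G] [DecidableEq G] (C : ConjClasses G) :
    ((univ : Finset (G × G)).filter (fun p => orderOf p.1 = 2 ∧ orderOf p.2 = 2 ∧
      ConjClasses.mk (p.1 * p.2) = C)).card ≤ Fintype.card G := by
  classical
  obtain ⟨g₀, rfl⟩ := ConjClasses.exists_rep C
  set cl : Finset G := univ.filter (fun g => IsConj g₀ g) with hcl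
  have hclc : cl.card = Nat.card {x : G // IsConj g₀ x} := by
    rw [Nat.card_eq_fintype_card, Fintype.card_subtype]
  have hsub : (univ : Finset (G × G)).filter (fun p => orderOf p.1 = 2 ∧ orderOf p.2 = 2 ∧
      ConjClasses.mk (p.1 * p.2) = ConjClasses.mk g₀) ⊆
      cl.biUnion (fun g => univ.filter (fun p : G × G => orderOf p.1 = 2 ∧ orderOf p.2 = 2 ∧
        p.1 * p.2 = g)) := by
    intro p hp
    simp only [mem_filter, mem_univ, true_and] at hp
    rw [mem_biUnion]
    refine ⟨p.1 * p.2, ?_, by simp [hp.1, hp.2.1]⟩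
    simp only [hcl, mem_filter, mem_univ, true_and]
    exact (ConjClasses.mk_eq_mk_iff_isConj.mp hp.2.2).symm
  refine (card_le_card hsub).trans (card_biUnion_le.trans ?_)
  have hbd : ∀ g ∈ cl, (univ.filter (fun p : G × G => orderOf p.1 = 2 ∧ orderOf p.2 = 2 ∧
      p.1 * p.2 = g)).card ≤ Nat.card (Subgroup.centralizer ({g₀} : Set G)) := by
    intro g hg
    simp only [hcl, mem_filter, mem_univ, true_and] at hg
    have h1 := card_prod_le g
    rw [Nat.card_eq_fintype_card (α := {p : G × G // _}), Fintype.card_subtype] at h1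
    refine h1.trans (le_of_eq ?_)
    have h2 := Cfsg.Agent.Lib.CharInd.card_conj_mul_card_centralizer g
    have h3 := Cfsg.Agent.Lib.CharInd.card_conj_mul_card_centralizer g₀
    have h4 : Nat.card {x : G // IsConj g x} = Nat.card {x : G // IsConj g₀ x} := by
      apply Nat.card_congr
      refine Equiv.subtypeEquivRight (fun x => ⟨fun h => hg.trans h, fun h => hg.symm.trans h⟩)
    rw [h4] at h2
    have hpos : 0 < Nat.card {x : G // IsConj g₀ x} := by
      have : Nonempty {x : G // IsConj g₀ x} := ⟨⟨g₀, IsConj.refl _⟩⟩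
      exact Nat.card_pos
    exact Nat.eq_of_mul_eq_mul_left hpos (h2.trans h3.symm)
  calc ∑ g ∈ cl, (univ.filter (fun p : G × G => orderOf p.1 = 2 ∧ orderOf p.2 = 2 ∧
        p.1 * p.2 = g)).card
      ≤ ∑ _g ∈ cl, Nat.card (Subgroup.centralizer ({g₀} : Set G)) := sum_le_sum hbd
    _ = Fintype.card G := by
      rw [sum_const, smul_eq_mul, hclc, Cfsg.Agent.Lib.CharInd.card_conj_mul_card_centralizer,
        Nat.card_eq_fintype_card]

open Finset in
/-- The pairs of involutions whose product lies in a given set `S` of conjugacy classes number at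
most `|S| |G|`. -/
theorem card_pairs_le [Fintype G] [DecidableEq G] (S : Finset (ConjClasses G)) :
    ((univ : Finset (G × G)).filter (fun p => orderOf p.1 = 2 ∧ orderOf p.2 = 2 ∧
      ConjClasses.mk (p.1 * p.2) ∈ S)).card ≤ Fintype.card G * S.card := by
  classical
  refine card_le_mul_card_image_of_maps_to (f := fun p : G × G => ConjClasses.mk (p.1 * p.2))
    ?_ _ ?_
  · intro p hp
    have hp' : orderOf p.1 = 2 ∧ orderOf p.2 = 2 ∧ ConjClasses.mk (p.1 * p.2) ∈ S := by
      simpa using hp
    exact hp'.2.2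
  · intro C _
    refine (card_le_card ?_).trans (card_fibre_le C)
    intro p hp
    simp only [mem_filter, mem_univ, true_and] at hp ⊢
    exact ⟨hp.1.1, hp.1.2.1, hp.2⟩

end Cfsg.Agent.Lib.ZassClasses9
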