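import Mathlib
import Cfsg.Agent.Lib.ZassAbL19
import Cfsg.Agent.Lib.ZassClasses9
import Cfsg.Agent.Lib.ZassInv2
import Cfsg.Agent.Lib.DicksonStruct
import Cfsg.Agent.Lib.SelfCent
import Cfsg.Agent.S0884

/-!
# Simple Zassenhaus groups with abelian kernel have large two-point stabilisers
-/

set_option autoImplicit false
set_option linter.unusedSectionVars false
set_option linter.style.haveILetI false

namespace Cfsg.Agent.Lib.ZassAbT19

open Cfsg MulAction Cfsg.Agent.Lib.ZassCore Cfsg.Agent.Lib.ZassAbL19 Finset

universe u v

section ThreeQuarters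

variable {R : Type*} [Group R] [Finite R]

/-- A subgroup of more than half of the order is everything. -/
theorem eq_top_of_large (K : Subgroup R) (h : Nat.card R < 2 * Nat.card K) : K = ⊤ := by
  by_contra hne
  have h1 := K.card_mul_index
  have h2 : K.index ≠ 1 := fun h3 => hne (Subgroup.index_eq_one.mp h3)
  have h3 : K.index ≠ 0 := Subgroup.index_ne_zero_of_finite
  have h4 : 2 ≤ K.index := by omega
  have h5 : Nat.card K * 2 ≤ Nat.card K * K.index := Nat.mul_le_mul_left _ h4
  omega

/-- If more than three quarters of the elements have square one, all of them have. -/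
theorem sq_eq_one_of_many (h : 3 * Nat.card R < 4 * Nat.card {x : R // x * x = 1}) :
    ∀ x : R, x * x = 1 := by
  classical
  haveI := Fintype.ofFinite R
  set S : Finset R := univ.filter (fun x => x * x = 1) with hS
  have hSc : Nat.card {x : R // x * x = 1} = S.card := by
    rw [Nat.card_eq_fintype_card, Fintype.card_subtype]
  have hRc : Nat.card R = (univ : Finset R).card := by
    rw [Nat.card_eq_fintype_card, card_univ]
  rw [hSc, hRc] at h
  have hmem : ∀ x : R, x ∈ S ↔ x * x = 1 := by
    intro x
    simp [hS]
  -- every `x ∈ S` is central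
  have hcen : ∀ x ∈ S, x ∈ Subgroup.center R := by
    intro x hx
    have hxx := (hmem x).1 hx
    have hC : Subgroup.centralizer ({x} : Set R) = ⊤ := by
      apply eq_top_of_large
      rw [hRc]
      set A : Finset R := S.filter (fun y => x * y ∈ S) with hA
      have h1 : S.card ≤ A.card + ((univ : Finset R).card - S.card) := by
        have h2 : A.card + (S.filter (fun y => ¬ x * y ∈ S)).card = S.card :=
          Finset.card_filter_add_card_filter_not (s := S) (fun y => x * y ∈ S)
        have h3 : (S.filter (fun y => ¬ x * y ∈ S)).card ≤ (univ \ S).card := by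
          refine Finset.card_le_card_of_injOn (fun y => x * y) ?_ ?_
          · intro y hy
            have hy' := (mem_filter.1 (mem_coe.1 hy)).2
            simp [hy']
          · intro y _ y' _ hyy'
            exact mul_left_cancel hyy'
        rw [Finset.card_sdiff_of_subset (subset_univ _)] at h3
        omega
      have h2 : A.card ≤ Nat.card (Subgroup.centralizer ({x} : Set R)) := by
        rw [Nat.card_eq_fintype_card, ← card_univ]
        refine Finset.card_le_card_of_injOn (fun y => if hy : y ∈ A then
          (⟨y, ?_⟩ : Subgroup.centralizer ({x} : Set R)) else 1) (fun _ _ => mem_univ _) ?_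
        · rw [Subgroup.mem_centralizer_singleton_iff]
          have hy' := mem_filter.1 hy
          have hyy := (hmem y).1 hy'.1
          have hxy := (hmem _).1 hy'.2
          calc y * x = y * x * (x * y * (x * y)) := by rw [hxy, mul_one]
            _ = y * (x * x) * y * x * y := by group
            _ = x * y := by rw [hxx, mul_one, hyy, one_mul]
        · intro y hy y' hy' hyy'
          simp only [mem_coe] at hy hy'
          simp only [dif_pos hy, dif_pos hy'] at hyy'
          exact congrArg Subtype.val hyy'
      have h3 : S.card ≤ (univ : Finset R).card := card_le_card (subset_univ _)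
      omega
    rw [Subgroup.mem_center_iff]
    intro y
    have h1 : y ∈ Subgroup.centralizer ({x} : Set R) := by rw [hC]; trivial
    rw [Subgroup.mem_centralizer_singleton_iff] at h1
    exact h1
  have hZ : Subgroup.center R = ⊤ := by
    apply eq_top_of_large
    rw [hRc]
    have h1 : S.card ≤ Nat.card (Subgroup.center R) := by
      rw [Nat.card_eq_fintype_card, ← card_univ]
      refine Finset.card_le_card_of_injOn (fun y => if hy : y ∈ S then
          (⟨y, hcen y hy⟩ : Subgroup.center R) else 1) (fun _ _ => mem_univ _) ?_
      intro y hy y' hy' hyy'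
      simp only [mem_coe] at hy hy'
      simp only [dif_pos hy, dif_pos hy'] at hyy'
      exact congrArg Subtype.val hyy'
    omega
  have hcomm : ∀ x y : R, x * y = y * x := by
    intro x y
    have h1 : x ∈ Subgroup.center R := by rw [hZ]; trivial
    exact ((Subgroup.mem_center_iff.1 h1) y).symm
  let K : Subgroup R :=
    { carrier := {x | x * x = 1}
      mul_mem' := fun {x y} hx hy => by
        show x * y * (x * y) = 1
        calc x * y * (x * y) = x * (y * x) * y := by group
          _ = x * (x * y) * y := by rw [hcomm y x]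
          _ = (x * x) * (y * y) := by group
          _ = 1 := by rw [show x * x = 1 from hx, show y * y = 1 from hy, one_mul]
      one_mem' := by simp
      inv_mem' := fun {x} hx => by
        show x⁻¹ * x⁻¹ = 1
        rw [← mul_inv_rev, show x * x = 1 from hx, inv_one] }
  have hK : K = ⊤ := by
    apply eq_top_of_large
    rw [hRc]
    have h1 : Nat.card K = S.card := by
      rw [← hSc]
      rfl
    omega
  intro x
  have h1 : x ∈ K := by rw [hK]; trivial
  exact h1

end ThreeQuarters

section Counts

variable {G : Type u} {Ω : Type v} [Group G] [MulAction G Ω] [Fintype Ω] {a b : Ω} {F : Subgroup G}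
  (hZ : IsZassenhausGroup G Ω) (hab : a ≠ b) (hF : IsKernelAt G a F)
  (hc : ∀ x ∈ F, ∀ y ∈ F, x * y = y * x)

include hZ hab hF

/-- The two-point stabiliser order divides `|F| - 1`. -/
theorem card_dvd_sub_one :
    Nat.card ↥(stabilizer G a ⊓ stabilizer G b) ∣ Nat.card F - 1 := by
  have := finite_of_zass hZ
  apply Cfsg.Agent.Lib.DicksonStruct.card_dvd_of_conj_free
  · intro z hz x
    have hza : z • a = a := hz.1
    constructor
    · intro hx
      exact hF.normal z hza x hx
    · intro hx
      have h1 := hF.normal z⁻¹ (by rw [inv_smul_eq_iff]; exact hza.symm) _ hx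
      simpa [mul_assoc] using h1
  · intro z hz x hx hx1 hzx
    have hza : z • a = a := hz.1
    have hzb : z • b = b := hz.2
    have h1 : x • b ≠ b := fun h => hab (hF.fixed_eq hx hx1 h).symm
    have h2 : x • b ≠ a := by
      intro h
      apply hab
      have h4 : x • b = x • a := by rw [h, hF.le x hx]
      exact (smul_left_cancel _ h4).symm
    have h3 : z • (x • b) = x • b := by
      have : z * x = x * z := by
        calc z * x = z * x * z⁻¹ * z := by group
          _ = x * z := by rw [hzx]
      rw [← mul_smul, this, mul_smul, hzb]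
    exact Cfsg.Agent.Lib.Zassenhaus.eq_one_of_three hZ hab h1.symm h2.symm hza hzb h3

include hc

/-- The class count for a simple group. -/
theorem class_count [IsSimpleGroup G]
    (hodd : Odd (Nat.card ↥(stabilizer G a ⊓ stabilizer G b)))
    (hlt : 2 * Nat.card ↥(stabilizer G a ⊓ stabilizer G b) < Nat.card F - 1) :
    Nat.card ↥(stabilizer G a ⊓ stabilizer G b) *
        (Nat.card ↥(stabilizer G a ⊓ stabilizer G b) + 1) + Nat.card F ≤
      Nat.card ↥(stabilizer G a ⊓ stabilizer G b) * Nat.card (ConjClasses G) + 1 ∧
    Nat.card {C : ConjClasses G // ∀ g : G, ConjClasses.mk g = C → g ∉ F} =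
      Nat.card ↥(stabilizer G a ⊓ stabilizer G b) := by
  classical
  have := finite_of_zass hZ
  letI : Fintype (ConjClasses G) := Fintype.ofFinite _
  set e := Nat.card ↥(stabilizer G a ⊓ stabilizer G b) with he
  have hn := card_F_add_one hZ (Ne.symm hab) hF
  have hS := Cfsg.Agent.S0884.result hZ hab (Nat.card F) e hn.symm rfl hodd hlt F
    (fun k hk => mem_stabilizer_iff.mpr (hF.le k hk)) hn
    (fun u hu hu1 c hc => hF.fixed_eq hu hu1 hc)
  set S : Finset (ConjClasses G) :=
    univ.filter (fun C => ∀ g : G, ConjClasses.mk g = C → g ∉ F) with hSdef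
  have hSc : Nat.card {C : ConjClasses G // ∀ g : G, ConjClasses.mk g = C → g ∉ F} = S.card := by
    rw [Nat.card_eq_fintype_card, Fintype.card_subtype]
  rw [hSc] at hS ⊢
  set C₁ : Finset (ConjClasses G) :=
    univ.filter (fun C => C ≠ ConjClasses.mk 1 ∧ ∃ g ∈ F, ConjClasses.mk g = C) with hC₁
  have hL := card_F_le_classes hZ (Ne.symm hab) hF hc C₁ (by
    intro g hg hg1
    rw [hC₁, mem_filter]
    refine ⟨mem_univ _, ?_, g, hg, rfl⟩
    intro h
    have h2 : IsConj (1 : G) g := (ConjClasses.mk_eq_mk_iff_isConj.mp h.symm)
    rw [isConj_one_right] at h2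
    exact hg1 h2)
  have hU := card_classes_le hZ (Ne.symm hab) hF hc
  rw [← he] at hL hU
  have hk : 1 + C₁.card + S.card ≤ Nat.card (ConjClasses G) := by
    rw [Nat.card_eq_fintype_card, ← card_univ]
    have hd1 : Disjoint C₁ S := by
      rw [Finset.disjoint_left]
      intro C h1 h2
      obtain ⟨-, g, hg, rfl⟩ := (mem_filter.1 h1).2
      exact (mem_filter.1 h2).2 g rfl hg
    have hd2 : Disjoint ({ConjClasses.mk (1 : G)} : Finset (ConjClasses G)) (C₁ ∪ S) := by
      rw [Finset.disjoint_singleton_left, mem_union]
      rintro (h | h)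
      · exact (mem_filter.1 h).2.1 rfl
      · exact (mem_filter.1 h).2 1 rfl F.one_mem
    have h3 := card_le_card (subset_univ (({ConjClasses.mk (1 : G)} : Finset (ConjClasses G)) ∪ (C₁ ∪ S)))
    rw [card_union_of_disjoint hd2, card_union_of_disjoint hd1, card_singleton] at h3
    omega
  have he0 : 0 < e := hodd.pos
  have hk2 : e * (1 + C₁.card + S.card) ≤ e * Nat.card (ConjClasses G) := Nat.mul_le_mul_left _ hk
  have hk3 : e * (1 + C₁.card + S.card) = e + e * C₁.card + e * S.card := by ring
  have hee : e * e ≤ e * S.card := Nat.mul_le_mul_left _ hS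
  constructor
  · nlinarith
  · apply le_antisymm _ hS
    have h5 : e * S.card ≤ e * e := by nlinarith
    exact Nat.le_of_mul_le_mul_left h5 he0

/-- The case of an odd number of points. -/
theorem even_case [IsSimpleGroup G] (hodd : Odd (Nat.card ↥(stabilizer G a ⊓ stabilizer G b)))
    (hlt : 2 * Nat.card ↥(stabilizer G a ⊓ stabilizer G b) < Nat.card F - 1)
    (heven : Even (Nat.card F)) : False := by
  classical
  have := finite_of_zass hZ
  letI := Fintype.ofFinite G
  set e := Nat.card ↥(stabilizer G a ⊓ stabilizer G b) with he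
  have hI := Cfsg.Agent.Lib.ZassInv.oddInv_of_simple hZ hab hodd
  have hn := card_F_add_one hZ (Ne.symm hab) hF
  have hOdd : Odd (Fintype.card Ω) := by rw [← hn]; exact heven.add_one
  have hinv := Cfsg.Agent.Lib.ZassInv2.card_inv_at hZ hI hOdd hab
  rw [← he] at hinv
  -- the subgroup of elements of square one
  let E : Subgroup G :=
    { carrier := {x | x ∈ F ∧ x * x = 1}
      mul_mem' := fun {x y} hx hy => ⟨F.mul_mem hx.1 hy.1, by
        calc x * y * (x * y) = x * (y * x) * y := by group
          _ = x * (x * y) * y := by rw [hc y hy.1 x hx.1]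
          _ = (x * x) * (y * y) := by group
          _ = 1 := by rw [hx.2, hy.2, one_mul]⟩
      one_mem' := ⟨F.one_mem, by simp⟩
      inv_mem' := fun {x} hx => ⟨F.inv_mem hx.1, by
        rw [← mul_inv_rev, hx.2, inv_one]⟩ }
  have hEF : E ≤ F := fun x hx => hx.1
  have hEN : ∀ x : G, x • a = a → ∀ t ∈ E, x * t * x⁻¹ ∈ E := by
    intro x hx t ht
    refine ⟨hF.normal x hx t ht.1, ?_⟩
    have := ht.2
    calc x * t * x⁻¹ * (x * t * x⁻¹) = x * (t * t) * x⁻¹ := by group
      _ = 1 := by rw [this]; group
  have h2e : 2 ≤ Nat.card F := by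
    have h3 := Cfsg.Agent.Lib.Zassenhaus.three_le_card hZ
    omega
  have hE : E ≠ F := by
    intro h
    -- all non-identity elements of `F` are involutions fixing `a`
    have h1 : Nat.card F ≤ e + 1 := by
      rw [← hinv]
      have h3 : Nat.card F = (univ : Finset F).card := by
        rw [Nat.card_eq_fintype_card, card_univ]
      have h4 : Nat.card {t : G // orderOf t = 2 ∧ t • a = a} =
          (univ.filter (fun t : G => orderOf t = 2 ∧ t • a = a)).card := by
        rw [Nat.card_eq_fintype_card, Fintype.card_subtype]
      rw [h3, h4, ← Finset.card_insert_of_notMem (a := (1 : G))]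
      · refine Finset.card_le_card_of_injOn (fun x => (x : G)) ?_ (fun x _ y _ hxy => Subtype.ext hxy)
        intro x _
        by_cases hx : (x : G) = 1
        · simp [hx]
        · have hxE : (x : G) ∈ E := by rw [h]; exact x.2
          have h5 : orderOf (x : G) = 2 := by
            apply orderOf_eq_prime
            · rw [pow_two]; exact hxE.2
            · exact hx
          have h6 : (x : G) • a = a := hF.le _ x.2
          simp [h5, h6]
      · simp
    omega
  have hE1 : E ≠ ⊥ := by
    have : Fact (Nat.Prime 2) := ⟨Nat.prime_two⟩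
    obtain ⟨t, ht⟩ := exists_prime_orderOf_dvd_card' (G := F) 2 (even_iff_two_dvd.1 heven)
    intro h
    have h1 : (t : G) ∈ E := ⟨t.2, by
      rw [← pow_two, ← Subgroup.coe_pow]
      have := pow_orderOf_eq_one t
      rw [ht] at this
      rw [this]
      rfl⟩
    rw [h, Subgroup.mem_bot] at h1
    have h2 : t = 1 := Subtype.ext h1
    rw [h2, orderOf_one] at ht
    omega
  have hT := (class_count hZ hab hF hc hodd hlt).1
  have hlt' : e + 1 < Nat.card F := by
    have := hodd.pos
    omega
  exact no_stable_zass hZ (Ne.symm hab) hF hc E hEF hEN hE hE1 hodd.pos hlt' hT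

end Counts

end Cfsg.Agent.Lib.ZassAbT19
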