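import Mathlib
import Cfsg.Agent.Lib.ZassAbT19

/-!
# Simple Zassenhaus groups with abelian kernel of odd order
-/

set_option autoImplicit false
set_option linter.unusedSectionVars false
set_option linter.style.haveILetI false

namespace Cfsg.Agent.Lib.ZassAbO19

open Cfsg MulAction Cfsg.Agent.Lib.ZassCore Cfsg.Agent.Lib.ZassAbL19 Cfsg.Agent.Lib.ZassAbT19 Finset

universe u v

section GroupCount

variable {G : Type*} [Group G] [Fintype G] [DecidableEq G]

/-- The involutions centralising `t`. -/
noncomputable def invIn (t : G) : Finset G := univ.filter (fun x => orderOf x = 2 ∧ x * t = t * x)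

theorem mem_invIn {t x : G} : x ∈ invIn t ↔ orderOf x = 2 ∧ x * t = t * x := by
  simp [invIn]

theorem card_invIn_conj (g t : G) : (invIn (g * t * g⁻¹)).card = (invIn t).card := by
  refine Finset.card_bij (fun x _ => g⁻¹ * x * g) ?_ ?_ ?_
  · intro x hx
    rw [mem_invIn] at hx ⊢
    refine ⟨?_, ?_⟩
    · have := Cfsg.Agent.S0740.cj_order g⁻¹ x
      rw [inv_inv] at this
      rw [this]; exact hx.1
    · have h := hx.2
      calc g⁻¹ * x * g * t = g⁻¹ * (x * (g * t * g⁻¹)) * g := by group
        _ = g⁻¹ * ((g * t * g⁻¹) * x) * g := by rw [h]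
        _ = t * (g⁻¹ * x * g) := by group
  · intro x _ y _ hxy
    simpa using hxy
  · intro y hy
    rw [mem_invIn] at hy
    refine ⟨g * y * g⁻¹, ?_, by group⟩
    rw [mem_invIn]
    refine ⟨?_, ?_⟩
    · rw [Cfsg.Agent.S0740.cj_order]; exact hy.1
    · have h := hy.2
      calc g * y * g⁻¹ * (g * t * g⁻¹) = g * (y * t) * g⁻¹ := by group
        _ = g * (t * y) * g⁻¹ := by rw [h]
        _ = g * t * g⁻¹ * (g * y * g⁻¹) := by group

/-- Counting pairs of involutions. -/
theorem pair_count (S : Finset (ConjClasses G)) (t : G) (ht : orderOf t = 2)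
    (hconj : ∀ x y : G, orderOf x = 2 → orderOf y = 2 → IsConj x y)
    (hS : ∀ x y : G, orderOf x = 2 → orderOf y = 2 → x ≠ y → ConjClasses.mk (x * y) ∈ S)
    (hmem : ConjClasses.mk t ∈ S) :
    (univ.filter (fun x : G => orderOf x = 2)).offDiag.card ≤
      ((invIn t).card - 1) * (univ.filter (fun x : G => orderOf x = 2)).card +
        Fintype.card G * (S.card - 1) := by
  classical
  set T : Finset G := univ.filter (fun x : G => orderOf x = 2) with hT
  have hTmem : ∀ x, x ∈ T ↔ orderOf x = 2 := by
    intro x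
    simp [hT]
  have inv2 : ∀ x : G, orderOf x = 2 → x * x = 1 := fun x hx => by
    rw [← pow_two, ← hx]; exact pow_orderOf_eq_one _
  have hne1 : ∀ x : G, orderOf x = 2 → x ≠ 1 := by
    intro x hx h
    rw [h, orderOf_one] at hx
    omega
  set P := T.offDiag with hP
  have hPmem : ∀ p : G × G, p ∈ P ↔ orderOf p.1 = 2 ∧ orderOf p.2 = 2 ∧ p.1 ≠ p.2 := by
    intro p
    rw [hP, mem_offDiag, hTmem, hTmem]
  have h1 : P.card = (P.filter (fun p => ConjClasses.mk (p.1 * p.2) = ConjClasses.mk t)).card +
      (P.filter (fun p => ¬ ConjClasses.mk (p.1 * p.2) = ConjClasses.mk t)).card :=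
    (Finset.card_filter_add_card_filter_not _).symm
  have h2 : (P.filter (fun p => ¬ ConjClasses.mk (p.1 * p.2) = ConjClasses.mk t)).card ≤
      Fintype.card G * (S.card - 1) := by
    rw [← card_erase_of_mem hmem]
    refine le_trans (card_le_card ?_) (Cfsg.Agent.Lib.ZassClasses9.card_pairs_le (S.erase (ConjClasses.mk t)))
    intro p hp
    rw [mem_filter] at hp ⊢
    obtain ⟨hp1, hp2⟩ := hp
    obtain ⟨h3, h4, h5⟩ := (hPmem p).1 hp1
    exact ⟨mem_univ _, h3, h4, mem_erase.2 ⟨hp2, hS _ _ h3 h4 h5⟩⟩
  have h3 : (P.filter (fun p => ConjClasses.mk (p.1 * p.2) = ConjClasses.mk t)).card ≤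
      ((invIn t).card - 1) * T.card := by
    refine Finset.card_le_mul_card_image_of_maps_to (f := fun p => p.1 * p.2) ?_ _ ?_
    · intro p hp
      rw [mem_filter] at hp
      have h4 : IsConj t (p.1 * p.2) := (ConjClasses.mk_eq_mk_iff_isConj.mp hp.2.symm)
      rw [hTmem]
      obtain ⟨g, hg⟩ := isConj_iff.1 h4
      rw [← hg, Cfsg.Agent.S0740.cj_order]
      exact ht
    · intro z hz
      rw [hTmem] at hz
      obtain ⟨g, hg⟩ := isConj_iff.1 (hconj t z ht hz)
      rw [← card_invIn_conj g t, hg, ← card_erase_of_mem (a := z)]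
      · refine Finset.card_le_card_of_injOn Prod.fst ?_ ?_
        · intro p hp
          have hp' := mem_filter.1 (mem_coe.1 hp)
          obtain ⟨hp1, hp2⟩ := hp'
          have hp3 := (mem_filter.1 hp1).1
          obtain ⟨h4, h5, h6⟩ := (hPmem p).1 hp3
          have h7 : p.1 * p.2 = z := hp2
          rw [mem_coe, mem_erase, mem_invIn]
          refine ⟨?_, h4, ?_⟩
          · intro h8
            apply hne1 _ h5
            have h9 : p.1 * p.2 = p.1 * 1 := by rw [h7, mul_one]; exact h8.symm
            exact mul_left_cancel h9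
          · have h8 := inv2 _ h4
            have h9 := inv2 _ h5
            have h10 := inv2 z hz
            rw [← h7] at h10 ⊢
            have e1 : p.1 * p.2 * p.1 = p.2 := by
              calc p.1 * p.2 * p.1 = p.1 * p.2 * p.1 * (p.2 * p.2) := by rw [h9, mul_one]
                _ = (p.1 * p.2 * (p.1 * p.2)) * p.2 := by group
                _ = p.2 := by rw [h10, one_mul]
            rw [← mul_assoc, h8, one_mul, e1]
        · intro p hp q hq hpq
          have hp2 : p.1 * p.2 = z := (mem_filter.1 (mem_coe.1 hp)).2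
          have hq2 : q.1 * q.2 = z := (mem_filter.1 (mem_coe.1 hq)).2
          refine Prod.ext hpq ?_
          have h4 : p.1 * p.2 = q.1 * q.2 := hp2.trans hq2.symm
          rw [show p.1 = q.1 from hpq] at h4
          exact mul_left_cancel h4
      · rw [mem_invIn]
        exact ⟨hz, rfl⟩
  omega

end GroupCount

section OddCase

variable {G : Type u} {Ω : Type v} [Group G] [MulAction G Ω] [Fintype Ω] {a b : Ω} {F : Subgroup G}
  (hZ : IsZassenhausGroup G Ω) (hab : a ≠ b) (hF : IsKernelAt G a F)
  (hc : ∀ x ∈ F, ∀ y ∈ F, x * y = y * x)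

include hZ hab hF hc

/-- The case of an even number of points. -/
theorem odd_case [IsSimpleGroup G]
    (hodd : Odd (Nat.card ↥(stabilizer G a ⊓ stabilizer G b)))
    (hlt : 2 * Nat.card ↥(stabilizer G a ⊓ stabilizer G b) < Nat.card F - 1)
    (hh : Odd (Nat.card F)) : False := by
  classical
  have := finite_of_zass hZ
  letI := Fintype.ofFinite G
  have hS := (class_count hZ hab hF hc hodd hlt).2
  set e := Nat.card ↥(stabilizer G a ⊓ stabilizer G b) with he
  have hI := Cfsg.Agent.Lib.ZassInv.oddInv_of_simple hZ hab hodd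
  have hn : Nat.card F + 1 = Fintype.card Ω := card_F_add_one hZ hab.symm hF
  have hdvd : e ∣ Nat.card F - 1 := card_dvd_sub_one hZ hab hF
  set h := Nat.card F with hh'
  have hEven : Even (Fintype.card Ω) := by rw [← hn]; exact hh.add_one
  obtain ⟨hconj, hTcard⟩ := Cfsg.Agent.S0882.result hZ hab h e hn.symm rfl hodd hlt
  rw [if_neg (Nat.not_even_iff_odd.2 hh)] at hTcard
  have hGc : Nat.card G = (h + 1) * h * e := by
    rw [Cfsg.Agent.Lib.ZassH.card_group hZ hab, ← hn]
    simp [he]
  have hfpf : ∀ x : G, orderOf x = 2 → ∀ c : Ω, x • c ≠ c := by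
    intro x hx c hc'
    have h1 := (Cfsg.Agent.Lib.ZassInv.fix_card hZ hI x hx).2 hEven
    have : IsEmpty (fixedBy Ω x) := by
      rw [Nat.card_eq_zero] at h1
      rcases h1 with h1 | h1
      · exact h1
      · exact absurd (Finite.of_fintype _) (by simpa using h1)
    exact this.false ⟨c, hc'⟩
  have inv2 : ∀ x : G, orderOf x = 2 → x * x = 1 := fun x hx => by
    rw [← pow_two, ← hx]; exact pow_orderOf_eq_one _
  have hne1 : ∀ x : G, orderOf x = 2 → x ≠ 1 := by
    intro x hx h1
    rw [h1, orderOf_one] at hx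
    omega
  have hord2 : ∀ x : G, x * x = 1 → x ≠ 1 → orderOf x = 2 := by
    intro x hx hx1
    apply orderOf_eq_prime
    · rw [pow_two]; exact hx
    · exact hx1
  set S : Finset (ConjClasses G) :=
    @Finset.filter _ (fun C => ∀ g : G, ConjClasses.mk g = C → g ∉ F) (Classical.decPred _)
      (@Finset.univ _ (Fintype.ofFinite _)) with hSdef
  have hSmem : ∀ C, C ∈ S ↔ ∀ g : G, ConjClasses.mk g = C → g ∉ F := by
    intro C
    simp [hSdef]
  have hSc : S.card = e := by
    rw [← hS]
    have : Nat.card {C : ConjClasses G // ∀ g : G, ConjClasses.mk g = C → g ∉ F} = Nat.card S := by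
      apply Nat.card_congr
      exact Equiv.subtypeEquivRight (fun C => (hSmem C).symm)
    rw [this, Nat.card_eq_fintype_card, Fintype.card_coe]
  -- products of two involutions avoid the classes of the kernel
  have hbad : ∀ x y : G, orderOf x = 2 → orderOf y = 2 → x ≠ y → ConjClasses.mk (x * y) ∈ S := by
    intro x y hx hy hxy
    rw [hSmem]
    intro g hg hgF
    have hcj : IsConj (x * y) g := (ConjClasses.mk_eq_mk_iff_isConj.mp hg).symm
    obtain ⟨t, ht⟩ := isConj_iff.1 hcj
    have hxx := inv2 x hx
    have hyy := inv2 y hy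
    have hg1 : g ≠ 1 := by
      intro h1
      rw [h1] at ht
      have h2 : x * y = 1 := by
        have : t * (x * y) = t := by
          have := congrArg (· * t) ht
          simpa using this
        simpa using this
      apply hxy
      have h3 : x * y = x * x := by rw [h2, hxx]
      exact (mul_left_cancel h3).symm
    set u := x * y with hu
    set c := t⁻¹ • a with hc'
    have hga := hF.le g hgF
    have huc : u • c = c := by
      have : u = t⁻¹ * g * t := by rw [← ht]; group
      rw [this, hc', mul_smul, mul_smul, smul_inv_smul, hga]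
    have huniq : ∀ c' : Ω, u • c' = c' → c' = c := by
      intro c' hc''
      have h2 : g • (t • c') = t • c' := by
        rw [← ht, mul_smul, mul_smul, inv_smul_smul, hc'']
      have h3 := hF.fixed_eq hgF hg1 h2
      rw [hc', ← h3, inv_smul_smul]
    have hyx : y * x = u⁻¹ := by
      apply eq_inv_of_mul_eq_one_left
      rw [hu]
      calc y * x * (x * y) = y * (x * x) * y := by group
        _ = 1 := by rw [hxx, mul_one, hyy]
    have h5 : u • (x • c) = x • c := by
      have h6 : u⁻¹ • c = c := by rw [inv_smul_eq_iff]; exact huc.symm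
      calc u • (x • c) = (x * y * x) • c := by rw [hu, ← mul_smul]
        _ = (x * (y * x)) • c := by rw [mul_assoc]
        _ = x • ((y * x) • c) := mul_smul _ _ _
        _ = x • c := by rw [hyx, h6]
    exact hfpf x hx c (huniq _ h5)
  have hSinv : ∀ t : G, orderOf t = 2 → ConjClasses.mk t ∈ S := by
    intro t ht
    rw [hSmem]
    intro g hg hgF
    have hcj : IsConj t g := (ConjClasses.mk_eq_mk_iff_isConj.mp hg).symm
    obtain ⟨s, hs⟩ := isConj_iff.1 hcj
    have h1 : orderOf g = 2 := by rw [← hs, Cfsg.Agent.S0740.cj_order]; exact ht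
    exact hfpf g h1 a (hF.le g hgF)
  -- arithmetic
  have he0 : 0 < e := hodd.pos
  have h3le : 3 ≤ Fintype.card Ω := Cfsg.Agent.Lib.Zassenhaus.three_le_card hZ
  have hh0 : 0 < h := by omega
  have h4e : 4 * e ≤ h - 1 := by
    obtain ⟨r, hr⟩ := hdvd
    have hev : Even (h - 1) := by
      obtain ⟨k, hk⟩ := hh
      rw [hk]
      simp
    rw [hr, Nat.even_mul] at hev
    rcases hev with hev | hev
    · exact absurd hev (Nat.not_even_iff_odd.2 hodd)
    · obtain ⟨s, rfl⟩ := hev
      rw [hr] at hlt ⊢
      have hs : 2 ≤ s := by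
        by_contra hs
        have hs' : s ≤ 1 := by omega
        have : e * (s + s) ≤ e * 2 := Nat.mul_le_mul_left _ (by omega)
        omega
      have : e * (2 + 2) ≤ e * (s + s) := Nat.mul_le_mul_left _ (by omega)
      omega
  set T : Finset G := univ.filter (fun x : G => orderOf x = 2) with hT
  have hTc : T.card = e * h := by
    rw [← hTcard, Nat.card_eq_fintype_card, Fintype.card_subtype]
  have hTmem : ∀ x, x ∈ T ↔ orderOf x = 2 := by
    intro x
    simp [hT]
  have hGf : Fintype.card G = (h + 1) * h * e := by rw [← Nat.card_eq_fintype_card]; exact hGc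
  -- the number of involutions in a centraliser
  have hj : ∀ t : G, orderOf t = 2 → h + 1 ≤ (invIn t).card + e := by
    intro t ht
    have hp := pair_count (G := G) S t ht hconj hbad (hSinv t ht)
    rw [Finset.offDiag_card, ← hT, hTc, hSc, hGf] at hp
    have hj0 : 1 ≤ (invIn t).card := by
      apply Finset.card_pos.2
      exact ⟨t, mem_invIn.2 ⟨ht, rfl⟩⟩
    obtain ⟨j', hj'⟩ : ∃ j', (invIn t).card = j' + 1 := ⟨(invIn t).card - 1, by omega⟩
    obtain ⟨e', he'⟩ : ∃ e', e = e' + 1 := ⟨e - 1, by omega⟩
    rw [hj'] at hp ⊢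
    rw [he'] at hp ⊢
    simp only [Nat.add_sub_cancel] at hp
    have hpos : 0 < (e' + 1) * h := by positivity
    have h2 : (e' + 1) * h * ((e' + 1) * h) ≤
        (e' + 1) * h * (j' + 1 + (h + 1) * e') := by
      have h3 : (e' + 1) * h ≤ (e' + 1) * h * ((e' + 1) * h) := Nat.le_mul_of_pos_right _ hpos
      have h4 : (e' + 1) * h * (j' + 1 + (h + 1) * e') =
          j' * ((e' + 1) * h) + (h + 1) * h * (e' + 1) * e' + (e' + 1) * h := by ring
      omega
    have h3 := Nat.le_of_mul_le_mul_left h2 hpos
    nlinarith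
  -- the centraliser of an involution
  have hCcard : ∀ t : G, orderOf t = 2 → Nat.card (Subgroup.centralizer ({t} : Set G)) = h + 1 := by
    intro t ht
    have h1 := Cfsg.Agent.Lib.CharInd.card_conj_mul_card_centralizer t
    have h2 : Nat.card {x : G // IsConj t x} = e * h := by
      rw [← hTcard]
      apply Nat.card_congr
      refine Equiv.subtypeEquivRight (fun x => ⟨fun h3 => ?_, fun h3 => hconj t x ht h3⟩)
      obtain ⟨s, hs⟩ := isConj_iff.1 h3
      rw [← hs, Cfsg.Agent.S0740.cj_order]
      exact ht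
    rw [h2, hGc] at h1
    have hpos : 0 < e * h := by positivity
    have h3 : e * h * Nat.card (Subgroup.centralizer ({t} : Set G)) = e * h * (h + 1) := by
      rw [h1]; ring
    exact Nat.eq_of_mul_eq_mul_left hpos h3
  have hexp : ∀ t : G, orderOf t = 2 → ∀ x : G, x * t = t * x → x * x = 1 := by
    intro t ht x hx
    have h1 : ∀ y : Subgroup.centralizer ({t} : Set G), y * y = 1 := by
      apply sq_eq_one_of_many
      rw [hCcard t ht]
      have h2 : (invIn t).card + 1 ≤ Nat.card {y : Subgroup.centralizer ({t} : Set G) // y * y = 1} := by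
        rw [Nat.card_eq_fintype_card, Fintype.card_subtype]
        rw [← Finset.card_insert_of_notMem (a := (1 : G))]
        · refine le_trans (Finset.card_le_card ?_) (Finset.card_image_le
            (s := univ.filter (fun y : Subgroup.centralizer ({t} : Set G) => y * y = 1))
            (f := Subtype.val))
          intro y hy
          rw [mem_image]
          have hy' : y ∈ Subgroup.centralizer ({t} : Set G) ∧ y * y = 1 := by
            rcases mem_insert.1 hy with rfl | hy2
            · simp [Subgroup.one_mem]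
            · obtain ⟨h5, h6⟩ := mem_invIn.1 hy2
              exact ⟨Subgroup.mem_centralizer_singleton_iff.2 h6, inv2 y h5⟩
          refine ⟨⟨y, hy'.1⟩, ?_, rfl⟩
          rw [mem_filter]
          exact ⟨mem_univ _, Subtype.ext hy'.2⟩
        · intro h5
          have := (mem_invIn.1 h5).1
          rw [orderOf_one] at this
          omega
      have h3 := hj t ht
      omega
    have h2 := h1 ⟨x, Subgroup.mem_centralizer_singleton_iff.2 hx⟩
    exact congrArg Subtype.val h2
  obtain ⟨t₀, ht₀⟩ : ∃ t : G, orderOf t = 2 := by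
    have h1 : 0 < T.card := by rw [hTc]; positivity
    obtain ⟨t, ht⟩ := Finset.card_pos.1 h1
    exact ⟨t, (hTmem t).1 ht⟩
  by_cases he1 : e = 1
  · -- the involutions commute, and the centraliser of one of them is normal
    have hcomm : ∀ x y : G, orderOf x = 2 → orderOf y = 2 → x * y = y * x := by
      intro x y hx hy
      have h1 := hj y hy
      have h2 : T ⊆ invIn y := by
        apply Finset.eq_of_subset_of_card_le ?_ ?_ |>.symm.subset
        · intro z hz
          exact (hTmem z).2 (mem_invIn.1 hz).1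
        · rw [hTc, he1]
          omega
      exact (mem_invIn.1 (h2 ((hTmem x).2 hx))).2
    let M : Subgroup G := Subgroup.centralizer ({t₀} : Set G)
    have hMn : M.Normal := by
      constructor
      intro x hx g
      have hx' : x * t₀ = t₀ * x := Subgroup.mem_centralizer_singleton_iff.1 hx
      rw [Subgroup.mem_centralizer_singleton_iff]
      by_cases hx1 : x = 1
      · simp [hx1]
      have hxo := hord2 x (hexp t₀ ht₀ x hx') hx1
      exact hcomm _ _ (by rw [Cfsg.Agent.S0740.cj_order]; exact hxo) ht₀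
    rcases IsSimpleGroup.eq_bot_or_eq_top_of_normal M hMn with h1 | h1
    · have h2 : t₀ ∈ M := Subgroup.mem_centralizer_singleton_iff.2 rfl
      rw [h1, Subgroup.mem_bot] at h2
      exact hne1 _ ht₀ h2
    · have h2 := hCcard t₀ ht₀
      have h3 : Nat.card M = Nat.card G := by rw [h1]; exact Subgroup.card_top
      rw [show Nat.card M = h + 1 from h2, hGc, he1, mul_one] at h3
      have h4 : h = 1 := by
        have : (h + 1) * 1 = (h + 1) * h := by omega
        exact (Nat.eq_of_mul_eq_mul_left (by omega) this).symm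
      omega
  · -- an element without fixed points of larger order
    have he3 : 2 ≤ e := by omega
    obtain ⟨y, hyfp, hyy⟩ : ∃ y : G, (∀ c : Ω, y • c ≠ c) ∧ y * y ≠ 1 := by
      by_contra hcon
      push Not at hcon
      have h1 := Cfsg.Agent.Lib.ZassCount.two_mul_card_fpf hZ hab
      rw [hGc, ← hn] at h1
      have h2 : Nat.card {g : G // ∀ c : Ω, g • c ≠ c} ≤ T.card := by
        rw [Nat.card_eq_fintype_card, Fintype.card_subtype]
        apply Finset.card_le_card
        intro g hg
        have hg' : ∀ c : Ω, g • c ≠ c := (mem_filter.1 hg).2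
        rw [hTmem]
        apply hord2 g (hcon g hg')
        intro h5
        exact hg' a (by rw [h5, one_smul])
      rw [hTc] at h2
      simp only [Nat.add_sub_cancel, Nat.add_succ_sub_one] at h1
      have h5 : h + 1 - 2 = h - 1 := by omega
      rw [h5] at h1
      obtain ⟨h', hh''⟩ : ∃ h', h = h' + 1 := ⟨h - 1, by omega⟩
      rw [hh''] at h1 h2
      simp only [Nat.add_sub_cancel] at h1
      have h6 : (h' + 1) * ((h' + 1 + 1) * e) ≤ (h' + 1) * (2 * e + h') := by nlinarith
      have h7 := Nat.le_of_mul_le_mul_left h6 (by omega)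
      have h8 : h' * e ≤ h' * 1 := by nlinarith
      have h9 : 0 < h' := by
        have := h4e
        rw [hh''] at this
        simp only [Nat.add_sub_cancel] at this
        omega
      have h10 := Nat.le_of_mul_le_mul_left h8 h9
      omega
    -- commuting elements have no fixed points
    have hfree : ∀ z : G, z ≠ 1 → z * y = y * z → ∀ c : Ω, z • c ≠ c := by
      intro z hz hzy c hzc
      have h1 : z • (y • c) = y • c := by rw [← mul_smul, hzy, mul_smul, hzc]
      have h2 : z • (y • (y • c)) = y • (y • c) := by rw [← mul_smul, hzy, mul_smul, h1]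
      have h3 : c ≠ y • c := (hyfp c).symm
      have h4 : y • c ≠ y • (y • c) := (hyfp _).symm
      by_cases h5 : c = y • (y • c)
      · exact hyy (Cfsg.Agent.Lib.ZassInv.swap_mul_self hZ hI h3 rfl h5.symm)
      · exact hz (Cfsg.Agent.Lib.Zassenhaus.eq_one_of_three hZ h3 h4 h5 hzc h1 h2)
    -- the order of `y` divides the degree, a power of `2`
    have hpow : ∃ k, Nat.card (Subgroup.centralizer ({t₀} : Set G)) = 2 ^ k := by
      have hp : IsPGroup 2 (Subgroup.centralizer ({t₀} : Set G)) := by
        intro g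
        refine ⟨1, ?_⟩
        apply Subtype.ext
        have h1 := hexp t₀ ht₀ g (Subgroup.mem_centralizer_singleton_iff.1 g.2)
        simpa [pow_two] using h1
      exact IsPGroup.iff_card.1 hp
    obtain ⟨k, hk⟩ := hpow
    rw [hCcard t₀ ht₀] at hk
    have hdvdy : orderOf y ∣ 2 ^ k := by
      rw [← hk, hn, ← Nat.card_eq_fintype_card, ← Nat.card_zpowers]
      apply Cfsg.Agent.Lib.SelfCent.card_dvd_of_free
      intro c s hs
      by_contra hs1
      have hs2 : (s : G) ≠ 1 := fun h1 => hs1 (Subtype.ext h1)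
      have hs3 : (s : G) * y = y * s := by
        obtain ⟨k, hk⟩ := s.2
        rw [← hk]
        exact ((Commute.refl y).zpow_left k).eq
      exact hfree s hs2 hs3 c hs
    obtain ⟨m, -, hm⟩ := (Nat.dvd_prime_pow Nat.prime_two).1 hdvdy
    have hy1 : y ≠ 1 := by
      intro h1
      apply hyy
      rw [h1, one_mul]
    have hm0 : m ≠ 0 := by
      intro h1
      rw [h1, pow_zero, orderOf_eq_one_iff] at hm
      exact hy1 hm
    have h2d : 2 ∣ orderOf y := by
      rw [hm]
      exact dvd_pow_self 2 hm0
    have hofy : orderOf y ≠ 0 := by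
      rw [hm]
      positivity
    have hw : orderOf (y ^ (orderOf y / 2)) = 2 := orderOf_pow_orderOf_div hofy h2d
    exact hyy (hexp _ hw y ((Commute.refl y).pow_right _).eq)

end OddCase

/-- **Theorem**: for a simple Zassenhaus group with abelian kernel and two-point stabiliser of odd
order `d`, the kernel has at most `2 d + 1` elements. -/
theorem le_two_mul_of_simple {G : Type u} {Ω : Type v} [Group G] [MulAction G Ω] [Fintype Ω] {a b : Ω}
    {F : Subgroup G} (hZ : IsZassenhausGroup G Ω) (hab : a ≠ b) (hF : IsKernelAt G a F)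
    (hc : ∀ x ∈ F, ∀ y ∈ F, x * y = y * x) [IsSimpleGroup G]
    (hodd : Odd (Nat.card ↥(stabilizer G a ⊓ stabilizer G b))) :
    Nat.card F - 1 ≤ 2 * Nat.card ↥(stabilizer G a ⊓ stabilizer G b) := by
  by_contra hcon
  push Not at hcon
  rcases Nat.even_or_odd (Nat.card F) with h | h
  · exact even_case hZ hab hF hc hodd hcon h
  · exact odd_case hZ hab hF hc hodd hcon h

section Induction

variable {Ω : Type v} [Fintype Ω] {a b : Ω}

/-- The kernel of a normal subgroup. -/
theorem isKernelAt_subgroupOf {G : Type u} [Group G] [MulAction G Ω] {F : Subgroup G}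
    (hF : IsKernelAt G a F) (M : Subgroup G) (hFM : F ≤ M) : IsKernelAt M a (F.subgroupOf M) := by
  refine ⟨?_, ?_, ?_, ?_⟩
  · intro k hk
    exact hF.le k hk
  · intro g hg k hk
    rw [Subgroup.mem_subgroupOf] at hk ⊢
    exact hF.normal g hg k hk
  · intro g hg
    rw [Subgroup.mem_subgroupOf, hF.mem_iff g hg]
    refine or_congr ?_ Iff.rfl
    exact ⟨fun h => Subtype.ext h, fun h => congrArg Subtype.val h⟩
  · intro c d hc hd
    obtain ⟨k, ⟨hk, hk1⟩, hk2⟩ := hF.reg c d hc hd
    refine ⟨⟨k, hFM hk⟩, ⟨hk, hk1⟩, ?_⟩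
    rintro ⟨y, hy⟩ ⟨hy1, hy2⟩
    exact Subtype.ext (hk2 y ⟨hy1, hy2⟩)

theorem card_inf_dvd {G : Type u} [Group G] [Finite G] [MulAction G Ω] (M : Subgroup G) :
    Nat.card ↥(stabilizer M a ⊓ stabilizer M b) ∣ Nat.card ↥(stabilizer G a ⊓ stabilizer G b) := by
  have h1 : (stabilizer M a ⊓ stabilizer M b).map M.subtype ≤ stabilizer G a ⊓ stabilizer G b := by
    rintro _ ⟨x, hx, rfl⟩
    exact ⟨hx.1, hx.2⟩
  have h2 := Subgroup.card_dvd_of_le h1
  rwa [Subgroup.card_map_of_injective M.subtype_injective] at h2

theorem le_two_mul_aux (k : ℕ) : ∀ (G : Type u) [Group G] [MulAction G Ω] (F : Subgroup G),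
    Nat.card G = k → IsZassenhausGroup G Ω → a ≠ b → IsKernelAt G a F →
    (∀ x ∈ F, ∀ y ∈ F, x * y = y * x) → Odd (Nat.card ↥(stabilizer G a ⊓ stabilizer G b)) →
    Nat.card F - 1 ≤ 2 * Nat.card ↥(stabilizer G a ⊓ stabilizer G b) := by
  induction k using Nat.strong_induction_on with
  | _ k ih =>
    intro G _ _ F hk hZ hab hF hc hodd
    have := finite_of_zass hZ
    by_cases hs : ∃ M : Subgroup G, M.Normal ∧ M ≠ ⊥ ∧ M ≠ ⊤
    · obtain ⟨M, hMn, hM1, hMt⟩ := hs
      have hlt : Nat.card M < k := by
        rw [← hk]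
        have h1 : ¬ Nat.card G < 2 * Nat.card M := fun h => hMt (eq_top_of_large M h)
        have h2 : 0 < Nat.card M := Nat.card_pos
        omega
      have hZM := normal_isZassenhaus hZ M hM1
      have hFM := kernel_le hZ hF M hM1
      have hF' := isKernelAt_subgroupOf hF M hFM
      have hc' : ∀ x ∈ F.subgroupOf M, ∀ y ∈ F.subgroupOf M, x * y = y * x := by
        intro x hx y hy
        exact Subtype.ext (hc _ hx _ hy)
      have hdvd : Nat.card ↥(stabilizer M a ⊓ stabilizer M b) ∣
          Nat.card ↥(stabilizer G a ⊓ stabilizer G b) := card_inf_dvd M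
      have hodd' : Odd (Nat.card ↥(stabilizer M a ⊓ stabilizer M b)) := Odd.of_dvd_nat hodd hdvd
      have h1 := ih _ hlt M (F.subgroupOf M) rfl hZM hab hF' hc' hodd'
      have h2 : Nat.card (F.subgroupOf M) = Nat.card F :=
        Nat.card_congr (Subgroup.subgroupOfEquivOfLe hFM).toEquiv
      rw [h2] at h1
      have h3 := Nat.le_of_dvd hodd.pos hdvd
      omega
    · push Not at hs
      have hnt : Nontrivial G := by
        obtain ⟨g, hg, -⟩ := hZ.2.2.2.1
        exact ⟨⟨g, 1, hg⟩⟩
      have hsimple : IsSimpleGroup G := by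
        refine ⟨?_⟩
        intro M hM
        by_cases h : M = ⊥
        · exact Or.inl h
        · exact Or.inr (hs M hM h)
      exact le_two_mul_of_simple hZ hab hF hc hodd

/-- **Theorem**: for a Zassenhaus group with abelian kernel and two-point stabiliser of odd
order `d`, the kernel has at most `2 d + 1` elements. -/
theorem le_two_mul {G : Type u} [Group G] [MulAction G Ω] {F : Subgroup G}
    (hZ : IsZassenhausGroup G Ω) (hab : a ≠ b) (hF : IsKernelAt G a F)
    (hc : ∀ x ∈ F, ∀ y ∈ F, x * y = y * x)
    (hodd : Odd (Nat.card ↥(stabilizer G a ⊓ stabilizer G b))) :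
    Nat.card F - 1 ≤ 2 * Nat.card ↥(stabilizer G a ⊓ stabilizer G b) :=
  le_two_mul_aux _ G F rfl hZ hab hF hc hodd

end Induction

end Cfsg.Agent.Lib.ZassAbO19
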