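import Mathlib
import Cfsg.Agent.Lib.ZassAbO19

/-!
# A field from an irreducible commutative group of automorphisms of a finite abelian group
-/

set_option autoImplicit false
set_option linter.unusedSectionVars false
set_option linter.style.haveILetI false

namespace Cfsg.Agent.Lib.ZassAbF19

open Cfsg MulAction Cfsg.Agent.Lib.ZassCore Cfsg.Agent.Lib.ZassAbL19

universe u v

section FieldConstruction

variable {A : Type u} [AddCommGroup A] [Finite A] {H : Type v} [Group H]
  (ρ : H →* AddMonoid.End A)

/-- The ring generated by a group of automorphisms. -/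
def ringOf : Subring (AddMonoid.End A) := Subring.closure (Set.range ρ)

variable (hcomm : ∀ h h', ρ h * ρ h' = ρ h' * ρ h)
  (hirr : ∀ W : AddSubgroup A, (∀ h, ∀ x ∈ W, ρ h x ∈ W) → W = ⊥ ∨ W = ⊤)

include hcomm in
theorem comm_rho (r : AddMonoid.End A) (hr : r ∈ ringOf ρ) (h : H) : r * ρ h = ρ h * r := by
  have h1 : ringOf ρ ≤ Subring.centralizer (Set.range ρ) := by
    rw [ringOf, Subring.closure_le]
    rintro _ ⟨h', rfl⟩
    rw [SetLike.mem_coe, Subring.mem_centralizer_iff]
    rintro _ ⟨h'', rfl⟩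
    exact hcomm _ _
  have h2 := h1 hr
  rw [Subring.mem_centralizer_iff] at h2
  exact (h2 _ ⟨h, rfl⟩).symm

include hcomm in
theorem comm_ring_of (r r' : AddMonoid.End A) (hr : r ∈ ringOf ρ) (hr' : r' ∈ ringOf ρ) :
    r * r' = r' * r := by
  have h1 : ringOf ρ ≤ Subring.centralizer (ringOf ρ : Set (AddMonoid.End A)) := by
    conv_lhs => rw [ringOf]
    rw [Subring.closure_le]
    rintro _ ⟨h', rfl⟩
    rw [SetLike.mem_coe, Subring.mem_centralizer_iff]
    intro r₁ hr₁
    exact comm_rho ρ hcomm r₁ hr₁ h'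
  have h2 := h1 hr
  rw [Subring.mem_centralizer_iff] at h2
  exact (h2 _ hr').symm

include hcomm hirr in
theorem injective_of_ne_zero (r : AddMonoid.End A) (hr : r ∈ ringOf ρ) (hr0 : r ≠ 0) :
    Function.Injective r := by
  rw [injective_iff_map_eq_zero]
  have hW := hirr (AddMonoidHom.ker r) (by
    intro h x hx
    have hx' : r x = 0 := hx
    show r (ρ h x) = 0
    have h1 := congrArg (fun f : AddMonoid.End A => f x) (comm_rho ρ hcomm r hr h)
    have h2 : r (ρ h x) = ρ h (r x) := h1
    rw [h2, hx', map_zero])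
  rcases hW with hW | hW
  · intro x hx
    have : x ∈ AddMonoidHom.ker r := hx
    rw [hW] at this
    exact this
  · exfalso
    apply hr0
    ext x
    have : x ∈ AddMonoidHom.ker r := by rw [hW]; trivial
    exact this

include hcomm hirr in
/-- The ring generated is a field. -/
theorem isField_ringOf [Nontrivial A] : IsField (ringOf ρ) := by
  have : Finite (AddMonoid.End A) := Finite.of_injective (fun f : AddMonoid.End A => (f : A → A))
    (fun f g h => by ext x; exact congrFun h x)
  refine ⟨?_, ?_, ?_⟩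
  · refine ⟨0, 1, ?_⟩
    intro h
    have h1 : (0 : AddMonoid.End A) = 1 := congrArg Subtype.val h
    obtain ⟨x, hx⟩ := exists_ne (0 : A)
    have h2 := congrArg (fun f : AddMonoid.End A => f x) h1
    exact hx h2.symm
  · intro r r'
    exact Subtype.ext (comm_ring_of ρ hcomm r r' r.2 r'.2)
  · intro r hr
    have hr0 : (r : AddMonoid.End A) ≠ 0 := fun h => hr (Subtype.ext h)
    have hinj := injective_of_ne_zero ρ hcomm hirr r r.2 hr0
    have hinj2 : Function.Injective (fun r' : ringOf ρ => r * r') := by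
      intro r₁ r₂ h
      apply Subtype.ext
      ext x
      have h1 := congrArg (fun t : ringOf ρ => (t : AddMonoid.End A) x) h
      exact hinj h1
    obtain ⟨r', hr'⟩ := (Finite.injective_iff_surjective.1 hinj2) 1
    exact ⟨r', hr'⟩

include hcomm hirr in
/-- Evaluation at a nonzero vector is bijective. -/
theorem ev_bijective (e₀ : A) (he₀ : e₀ ≠ 0) :
    Function.Bijective (fun r : ringOf ρ => (r : AddMonoid.End A) e₀) := by
  constructor
  · intro r r' h
    by_contra hne
    have h1 : (r : AddMonoid.End A) - r' ≠ 0 := by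
      intro h2
      exact hne (Subtype.ext (sub_eq_zero.1 h2))
    have h2 := injective_of_ne_zero ρ hcomm hirr _ (Subring.sub_mem _ r.2 r'.2) h1
    apply he₀
    apply h2
    rw [map_zero]
    show (r : AddMonoid.End A) e₀ - (r' : AddMonoid.End A) e₀ = 0
    exact sub_eq_zero.2 h
  · let W : AddSubgroup A :=
      { carrier := {x | ∃ r ∈ ringOf ρ, r e₀ = x}
        add_mem' := by
          rintro _ _ ⟨r, hr, rfl⟩ ⟨r', hr', rfl⟩
          exact ⟨r + r', Subring.add_mem _ hr hr', rfl⟩
        zero_mem' := ⟨0, Subring.zero_mem _, rfl⟩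
        neg_mem' := by
          rintro _ ⟨r, hr, rfl⟩
          exact ⟨-r, Subring.neg_mem _ hr, rfl⟩ }
    have hW := hirr W (by
      rintro h _ ⟨r, hr, rfl⟩
      exact ⟨ρ h * r, Subring.mul_mem _ (Subring.subset_closure ⟨h, rfl⟩) hr, rfl⟩)
    rcases hW with hW | hW
    · exfalso
      have h1 : e₀ ∈ W := ⟨1, Subring.one_mem _, rfl⟩
      rw [hW] at h1
      exact he₀ h1
    · intro x
      have h1 : x ∈ W := by rw [hW]; trivial
      obtain ⟨r, hr, rfl⟩ := h1
      exact ⟨⟨r, hr⟩, rfl⟩

include hcomm hirr in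
/-- The field, abstractly. -/
theorem exists_field [Nontrivial A] (e₀ : A) (he₀ : e₀ ≠ 0) (hρ : Function.Injective ρ) :
    ∃ (K : Type u) (_ : Field K) (_ : Finite K) (ev : K → A) (φ : H →* Kˣ),
      Function.Bijective ev ∧ (∀ x y, ev (x + y) = ev x + ev y) ∧
      (∀ h x, ev ((φ h : K) * x) = ρ h (ev x)) ∧ Function.Injective φ := by
  classical
  have : Finite (AddMonoid.End A) := Finite.of_injective (fun f : AddMonoid.End A => (f : A → A))
    (fun f g h => by ext x; exact congrFun h x)
  letI : Field (ringOf ρ) := (isField_ringOf ρ hcomm hirr).toField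
  let φ₀ : H →* ringOf ρ :=
    { toFun := fun h => ⟨ρ h, Subring.subset_closure ⟨h, rfl⟩⟩
      map_one' := Subtype.ext (map_one ρ)
      map_mul' := fun x y => Subtype.ext (map_mul ρ x y) }
  refine ⟨ringOf ρ, inferInstance, inferInstance, fun r => (r : AddMonoid.End A) e₀,
    φ₀.toHomUnits, ev_bijective ρ hcomm hirr e₀ he₀, fun _ _ => rfl, fun _ _ => rfl, ?_⟩
  intro h h' hh
  apply hρ
  have h1 := congrArg (fun u : (ringOf ρ)ˣ => ((u : ringOf ρ) : AddMonoid.End A)) hh
  exact h1

end FieldConstruction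

end Cfsg.Agent.Lib.ZassAbF19
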