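import Mathlib
import Cfsg.Agent.Lib.ZassAbF19
import Cfsg.Agent.Lib.PSL2Rec

/-!
# Coordinates on a Zassenhaus group with abelian kernel and two-point stabiliser of order `(n-1)/2`
-/

set_option autoImplicit false
set_option linter.unusedSectionVars false
set_option linter.style.haveILetI false

namespace Cfsg.Agent.Lib.ZassAbC19

open Cfsg MulAction Cfsg.Agent.Lib.ZassCore Cfsg.Agent.Lib.ZassAbL19 Matrix OnePoint

universe u v w

section FieldLemmas

variable {K : Type*} [Field K]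

/-- The set of nonzero squares, abstractly. -/
structure SqData (S : Set K) : Prop where
  one : (1 : K) ∈ S
  mul : ∀ x ∈ S, ∀ y ∈ S, x * y ∈ S
  inv : ∀ x ∈ S, x⁻¹ ∈ S
  ne : ∀ x ∈ S, x ≠ 0
  two : ∀ x y, x ≠ 0 → y ≠ 0 → x ∉ S → y ∉ S → x * y ∈ S

variable {S : Set K} (D : SqData S)

include D

theorem odd_lemma (hm1 : (-1 : K) ∉ S) (f : K → K) (hf0 : ∀ z, z ≠ 0 → f z ≠ 0)
    (hff : ∀ z, z ≠ 0 → f (f z) = z) (hfu : ∀ u ∈ S, ∀ z, z ≠ 0 → f (u * z) = u⁻¹ * f z)
    (hfix : ∀ z, z ≠ 0 → f z ≠ z) (hsq : ∀ u ∈ S, ∃ v ∈ S, v * v = u) :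
    ∃ θ, -θ ∈ S ∧ ∀ z, z ≠ 0 → f z = θ / z := by
  set c := f 1 with hc
  have hc0 : c ≠ 0 := hf0 1 one_ne_zero
  have hcS : c ∉ S := by
    intro h
    obtain ⟨v, hv, hvv⟩ := hsq c h
    have hv0 := D.ne v hv
    apply hfix v hv0
    have h1 := hfu v hv 1 one_ne_zero
    rw [mul_one, ← hc, ← hvv] at h1
    rw [h1]
    field_simp
  have hmc : -c ∈ S := by
    have h1 := D.two (-1) c (by simp) hc0 hm1 hcS
    simpa using h1
  refine ⟨c, hmc, ?_⟩
  intro z hz
  by_cases hzS : z ∈ S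
  · have h1 := hfu z hzS 1 one_ne_zero
    rw [mul_one, ← hc] at h1
    rw [h1]
    field_simp
  · have hci : c⁻¹ ∉ S := by
      intro h
      apply hcS
      have := D.inv _ h
      rwa [inv_inv] at this
    have hu := D.two z c⁻¹ hz (inv_ne_zero hc0) hzS hci
    have h1 := hfu _ hu c hc0
    have h2 : z * c⁻¹ * c = z := by field_simp
    rw [h2, hc, hff 1 one_ne_zero, ← hc] at h1
    rw [h1]
    field_simp

theorem even_lemma (hm1 : (-1 : K) ∈ S) (f : K → K)
    (hfu : ∀ u ∈ S, ∀ z, z ≠ 0 → f (u * z) = u⁻¹ * f z)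
    (hk : ∀ x, x ≠ 0 → ∃ k ∈ S, f x + k * x = 0 ∧ ∀ Y, Y ≠ 0 → x + Y ≠ 0 → f x + f Y ≠ 0 →
      f (x + Y) = f x + k * f (f x + f Y))
    (hadd : ∃ x ∈ S, ∃ y ∈ S, x + y ≠ 0 ∧ x + y ∉ S) :
    ∃ θ, -θ ∈ S ∧ ∀ z, z ≠ 0 → f z = θ / z := by
  set c := f 1 with hc
  have hmc : -c ∈ S := by
    obtain ⟨k, hk1, hk2, -⟩ := hk 1 one_ne_zero
    rw [mul_one, ← hc] at hk2
    have : k = -c := by linear_combination hk2
    rwa [← this]
  have hc0 : c ≠ 0 := by
    intro h
    have := D.ne _ hmc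
    rw [h, neg_zero] at this
    exact this rfl
  have hcS : c ∈ S := by
    have := D.mul _ hm1 _ hmc
    simpa using this
  have hfS : ∀ z ∈ S, f z = c / z := by
    intro z hzS
    have hz := D.ne z hzS
    have h1 := hfu z hzS 1 one_ne_zero
    rw [mul_one, ← hc] at h1
    rw [h1]
    field_simp
  have hU : ∀ x ∈ S, ∀ y ∈ S, x + y ≠ 0 → f (x + y) = c / (x + y) := by
    intro x hx y hy hne
    have hx0 := D.ne x hx
    have hy0 := D.ne y hy
    obtain ⟨k, hk1, hk2, hk3⟩ := hk x hx0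
    rw [hfS x hx] at hk2
    have hk' : k = -(c / x) / x := by
      field_simp
      field_simp at hk2
      linear_combination hk2
    set h₀ := c * (x * y)⁻¹ with hh₀
    have hh₀S : h₀ ∈ S := D.mul _ hcS _ (D.inv _ (D.mul _ hx _ hy))
    have hh₀0 := D.ne _ hh₀S
    have hw : f x + f y = h₀ * (x + y) := by
      rw [hfS x hx, hfS y hy, hh₀]
      field_simp
      ring
    have hw0 : f x + f y ≠ 0 := by
      rw [hw]
      exact mul_ne_zero hh₀0 hne
    have h1 := hk3 y hy0 hne hw0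
    rw [hw, hfu h₀ hh₀S _ hne, hfS x hx] at h1
    set Fu := f (x + y) with hFu
    have e1 : k * (h₀⁻¹ * Fu) = -(y / x) * Fu := by
      rw [hk', hh₀]
      field_simp
    rw [e1] at h1
    rw [eq_div_iff hne]
    have e2 : Fu * x = c - y * Fu := by
      calc Fu * x = (c / x + -(y / x) * Fu) * x := by rw [← h1]
        _ = c - y * Fu := by field_simp; ring
    linear_combination e2
  obtain ⟨x₀, hx₀, y₀, hy₀, hne, hβ⟩ := hadd
  refine ⟨c, hmc, ?_⟩
  intro z hz
  by_cases hzS : z ∈ S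
  · exact hfS z hzS
  · set β := x₀ + y₀ with hβdef
    have hβi : β⁻¹ ∉ S := by
      intro h
      apply hβ
      have := D.inv _ h
      rwa [inv_inv] at this
    have hu := D.two z β⁻¹ hz (inv_ne_zero hne) hzS hβi
    have h1 := hfu _ hu β hne
    have h2 : z * β⁻¹ * β = z := by field_simp
    have h3 : f β = c / β := hU x₀ hx₀ y₀ hy₀ hne
    rw [h2, h3] at h1
    rw [h1]
    field_simp

end FieldLemmas

section Coordinates

variable {G : Type u} {Ω : Type v} {K : Type w} [Group G] [MulAction G Ω] [Field K] {a b : Ω}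
  {F : Subgroup G}

/-- The coordinates. -/
structure Coord (a b : Ω) (F : Subgroup G) (K : Type w) [Field K] where
  ε : K → G
  add : ∀ x y, ε (x + y) = ε x * ε y
  mem : ∀ x, ε x ∈ F
  surj : ∀ t ∈ F, ∃ x, ε x = t
  inj : Function.Injective ε
  φ : ↥(stabilizer G a ⊓ stabilizer G b) →* Kˣ
  conj : ∀ (h : ↥(stabilizer G a ⊓ stabilizer G b)) (x : K),
    (h : G) * ε x * (h : G)⁻¹ = ε ((φ h : K) * x)
  φ_inj : Function.Injective φ

namespace Coord

variable (C : Coord a b F K)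

/-- The point with a given coordinate. -/
def pt (b : Ω) (C : Coord a b F K) (z : K) : Ω := C.ε z • b

theorem eps_zero : C.ε 0 = 1 := by
  have h := C.add 0 0
  rw [add_zero] at h
  exact (mul_eq_left.mp h.symm)

theorem eps_neg (x : K) : C.ε (-x) = (C.ε x)⁻¹ := by
  have h := C.add x (-x)
  rw [add_neg_cancel, eps_zero] at h
  exact (inv_eq_of_mul_eq_one_right h.symm).symm

variable (hF : IsKernelAt G a F) (hab : a ≠ b)

include hF hab

theorem eps_a (x : K) : C.ε x • a = a := hF.le _ (C.mem x)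

theorem pt_ne (z : K) : C.pt b z ≠ a := by
  intro h
  apply hab
  have h1 : C.ε z • b = C.ε z • a := by
    rw [eps_a C hF hab]
    exact h
  exact (smul_left_cancel _ h1).symm

theorem pt_zero : C.pt b 0 = b := by
  rw [pt, C.eps_zero, one_smul]

theorem pt_inj {z w : K} (h : C.pt b z = C.pt b w) : z = w := by
  have h1 : C.ε (z - w) • b = b := by
    have h2 : z - w = -w + z := by ring
    rw [h2, C.add, C.eps_neg, mul_smul, inv_smul_eq_iff]
    exact h
  have h2 := hF.eq_one_of_fix (C.mem _) hab.symm h1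
  have h3 : C.ε (z - w) = C.ε 0 := by rw [h2, C.eps_zero]
  have h4 := C.inj h3
  exact sub_eq_zero.1 h4

theorem exists_pt {c : Ω} (hc : c ≠ a) : ∃ z, C.pt b z = c := by
  obtain ⟨k, ⟨hk, hk1⟩, -⟩ := hF.reg b c hab.symm hc
  obtain ⟨z, rfl⟩ := C.surj k hk
  exact ⟨z, hk1⟩

theorem eps_pt (y z : K) : C.ε y • C.pt b z = C.pt b (z + y) := by
  rw [pt, pt, add_comm, C.add, mul_smul]

theorem stab_pt (h : ↥(stabilizer G a ⊓ stabilizer G b)) (z : K) :
    (h : G) • C.pt b z = C.pt b ((C.φ h : K) * z) := by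
  have h1 : (h : G) • b = b := h.2.2
  rw [pt, pt, ← C.conj, mul_smul, mul_smul, inv_smul_eq_iff.mpr h1.symm]

/-- The parametrisation of the points. -/
noncomputable def kappa : OnePoint K ≃ Ω :=
  Equiv.ofBijective (fun p => OnePoint.elim p a (C.pt b)) (by
    constructor
    · intro p q h
      induction p using OnePoint.rec with
      | infty =>
        induction q using OnePoint.rec with
        | infty => rfl
        | coe w =>
          exact absurd h.symm (C.pt_ne hF hab w)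
      | coe z =>
        induction q using OnePoint.rec with
        | infty =>
          exact absurd h (C.pt_ne hF hab z)
        | coe w =>
          exact congrArg _ (C.pt_inj hF hab h)
    · intro c
      by_cases hc : c = a
      · exact ⟨∞, hc.symm⟩
      · obtain ⟨z, hz⟩ := C.exists_pt hF hab hc
        exact ⟨(z : OnePoint K), hz⟩)

theorem kappa_infty : C.kappa hF hab ∞ = a := rfl

theorem kappa_coe (z : K) : C.kappa hF hab (z : OnePoint K) = C.pt b z := rfl

/-- The permutation representation on the projective line. -/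
noncomputable def Phi : G →* Equiv.Perm (OnePoint K) :=
  ((C.kappa hF hab).symm.permCongrHom.toMonoidHom).comp (MulAction.toPermHom G Ω)

theorem Phi_eq (g : G) (π : Equiv.Perm (OnePoint K))
    (h : ∀ p, g • C.kappa hF hab p = C.kappa hF hab (π p)) : C.Phi hF hab g = π := by
  ext p
  show (C.kappa hF hab).symm (g • (C.kappa hF hab).symm.symm p) = π p
  rw [Equiv.symm_symm, h, Equiv.symm_apply_apply]

theorem Phi_injective [FaithfulSMul G Ω] : Function.Injective (C.Phi hF hab) := by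
  intro g g' h
  apply MulAction.toPerm_injective (β := Ω)
  exact (Equiv.permCongrHom (C.kappa hF hab).symm).injective h

/-- The main recognition theorem. -/
theorem psl_of_data [FaithfulSMul G Ω] [DecidableEq K]
    (hT1 : ∀ u : K, u ≠ 0 → ∃ h : ↥(stabilizer G a ⊓ stabilizer G b), (C.φ h : K) = u ^ 2)
    (hT2 : ∀ h : ↥(stabilizer G a ⊓ stabilizer G b), ∃ u : K, ∃ _ : u ≠ 0, (C.φ h : K) = u ^ 2)
    (w : G) (hw1 : w • a = b) (hw2 : w • b = a) (hw3 : ∀ z, z ≠ 0 → w • C.pt b z = C.pt b (-z⁻¹)) :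
    Nonempty (G ≃* ProjectiveSpecialLinearGroup (Fin 2) K) := by
  classical
  have hPhi_T : ∀ y : K, C.Phi hF hab (C.ε y) = Cfsg.Agent.Lib.PSL2Rec.rho (Cfsg.Agent.Lib.PSL2Rec.matT y) := by
    intro y
    apply Phi_eq
    intro p
    induction p using OnePoint.rec with
    | infty =>
      rw [Cfsg.Agent.Lib.PSL2Rec.rho_T_infty, kappa_infty]
      exact C.eps_a hF hab y
    | coe z =>
      rw [Cfsg.Agent.Lib.PSL2Rec.rho_T_coe, kappa_coe, kappa_coe]
      exact C.eps_pt hF hab y z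
  have hPhi_D : ∀ (h : ↥(stabilizer G a ⊓ stabilizer G b)) (u : K) (hu : u ≠ 0), (C.φ h : K) = u ^ 2 →
      C.Phi hF hab (h : G) = Cfsg.Agent.Lib.PSL2Rec.rho (Cfsg.Agent.Lib.PSL2Rec.matD u hu) := by
    intro h u hu hh
    apply Phi_eq
    intro p
    induction p using OnePoint.rec with
    | infty =>
      rw [Cfsg.Agent.Lib.PSL2Rec.rho_D_infty, kappa_infty]
      exact h.2.1
    | coe z =>
      rw [Cfsg.Agent.Lib.PSL2Rec.rho_D_coe, kappa_coe, kappa_coe, ← hh]
      exact C.stab_pt hF hab h z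
  have hPhi_S : C.Phi hF hab w = Cfsg.Agent.Lib.PSL2Rec.rho (Cfsg.Agent.Lib.PSL2Rec.matS (K := K)) := by
    apply Phi_eq
    intro p
    induction p using OnePoint.rec with
    | infty =>
      rw [Cfsg.Agent.Lib.PSL2Rec.rho_S_infty, kappa_infty, kappa_coe, C.pt_zero hF hab]
      exact hw1
    | coe z =>
      by_cases hz : z = 0
      · subst hz
        rw [Cfsg.Agent.Lib.PSL2Rec.rho_S_zero, kappa_infty, kappa_coe, C.pt_zero hF hab]
        exact hw2
      · rw [Cfsg.Agent.Lib.PSL2Rec.rho_S_coe z hz, kappa_coe, kappa_coe]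
        exact hw3 z hz
  have hrange : (C.Phi hF hab).range = (Cfsg.Agent.Lib.PSL2Rec.rho (K := K)).range := by
    apply Cfsg.Agent.Lib.PSL2Rec.eq_range_rho
    · intro y
      exact ⟨C.ε y, hPhi_T y⟩
    · intro u hu
      obtain ⟨h, hh⟩ := hT1 u hu
      exact ⟨(h : G), hPhi_D h u hu hh⟩
    · exact ⟨w, hPhi_S⟩
    · rintro _ ⟨g, rfl⟩ hg
      have hga : g • a = a := by
        have h1 : (C.kappa hF hab).symm (g • (C.kappa hF hab).symm.symm (∞ : OnePoint K)) = ∞ := hg
        rw [Equiv.symm_symm, Equiv.symm_apply_eq, kappa_infty] at h1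
        exact h1
      obtain ⟨k, hk, hk1, hk2⟩ := hF.exists_decomp hab.symm hga
      obtain ⟨c, rfl⟩ := C.surj k hk
      let y : ↥(stabilizer G a ⊓ stabilizer G b) := ⟨(C.ε c)⁻¹ * g, hk1, hk2⟩
      obtain ⟨u, hu, huy⟩ := hT2 y
      refine ⟨Cfsg.Agent.Lib.PSL2Rec.matT c * Cfsg.Agent.Lib.PSL2Rec.matD u hu, ?_⟩
      rw [map_mul, ← hPhi_T, ← hPhi_D y u hu huy, ← map_mul]
      congr 1
      show C.ε c * ((C.ε c)⁻¹ * g) = g
      group
  have e1 : G ≃* (C.Phi hF hab).range := MonoidHom.ofInjective (C.Phi_injective hF hab)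
  have e2 : (C.Phi hF hab).range ≃* (Cfsg.Agent.Lib.PSL2Rec.rho (K := K)).range :=
    MulEquiv.subgroupCongr hrange
  exact ⟨e1.trans (e2.trans Cfsg.Agent.Lib.PSL2Rec.pslEquivRange.symm)⟩

end Coord

end Coordinates

end Cfsg.Agent.Lib.ZassAbC19
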