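import Mathlib
import Cfsg.Agent.Lib.ZassAbC19
import Cfsg.Agent.Lib.PSL2Rec3
import Cfsg.Agent.Lib.DicksonStruct
import Cfsg.Agent.Lib.ZassAbT19

/-!
# Zassenhaus groups with abelian kernel and `2 d + 1 = n` are `PSL(2, n)`
-/

set_option autoImplicit false
set_option linter.unusedSectionVars false
set_option linter.style.haveILetI false

namespace Cfsg.Agent.Lib.ZassAbD19

open Cfsg MulAction Cfsg.Agent.Lib.ZassCore Cfsg.Agent.Lib.ZassAbL19 Cfsg.Agent.Lib.ZassAbC19 Matrix OnePoint

universe u v w

section Main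

variable {G : Type u} {Ω : Type v} {K : Type w} [Group G] [MulAction G Ω] [Field K] {a b : Ω}
  {F : Subgroup G}

theorem psl_of_coord [Fintype Ω] [Finite K] (hZ : IsZassenhausGroup G Ω) (hab : a ≠ b)
    (hF : IsKernelAt G a F) (C : Coord a b F K)
    (h2d : 2 * Nat.card ↥(stabilizer G a ⊓ stabilizer G b) + 1 = Nat.card F)
    (hs2 : ∀ s : G, s • a = b → s • b = a → s * s = 1) :
    Nonempty (G ≃* ProjectiveSpecialLinearGroup (Fin 2) K) := by
  classical
  have := finite_of_zass hZ
  haveI := Fintype.ofFinite K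
  haveI hfaith := hZ.1
  set d := Nat.card ↥(stabilizer G a ⊓ stabilizer G b) with hd
  have hd0 : 0 < d := Nat.card_pos
  have hcardKF : Nat.card K = Nat.card F := by
    refine Nat.card_congr (Equiv.ofBijective (fun x => (⟨C.ε x, C.mem x⟩ : F)) ⟨?_, ?_⟩)
    · intro x y h
      exact C.inj (congrArg Subtype.val h)
    · rintro ⟨t, ht⟩
      obtain ⟨x, rfl⟩ := C.surj t ht
      exact ⟨x, rfl⟩
  have hcardK : Fintype.card K = 2 * d + 1 := by
    rw [← Nat.card_eq_fintype_card, hcardKF, h2d]
  have hchar : ringChar K ≠ 2 := by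
    intro h
    have h1 := FiniteField.even_card_iff_char_two.1 h
    omega
  have hm1ne : (-1 : K) ≠ 1 := Ring.neg_one_ne_one_of_char_ne_two hchar
  set S : Set K := {x | ∃ h, (C.φ h : K) = x} with hS
  have hSmem : ∀ h, (C.φ h : K) ∈ S := fun h => ⟨h, rfl⟩
  -- index two
  have hindex : C.φ.range.index = 2 := by
    have h1 := C.φ.range.card_mul_index
    have h2 : Nat.card C.φ.range = d := by
      rw [hd]
      exact (Nat.card_congr (MonoidHom.ofInjective C.φ_inj).toEquiv).symm
    have h3 : Nat.card Kˣ = 2 * d := by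
      rw [Nat.card_eq_fintype_card, Fintype.card_units, hcardK]
      simp
    rw [h2, h3] at h1
    have h4 : d * C.φ.range.index = d * 2 := by rw [h1]; ring
    exact Nat.eq_of_mul_eq_mul_left hd0 h4
  have D : SqData S := by
    refine ⟨⟨1, by simp⟩, ?_, ?_, ?_, ?_⟩
    · rintro _ ⟨h, rfl⟩ _ ⟨h', rfl⟩
      exact ⟨h * h', by simp⟩
    · rintro _ ⟨h, rfl⟩
      exact ⟨h⁻¹, by simp⟩
    · rintro _ ⟨h, rfl⟩
      exact Units.ne_zero _
    · intro x y hx hy hxS hyS
      have hx' : Units.mk0 x hx ∉ C.φ.range := by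
        rintro ⟨h, hh⟩
        exact hxS ⟨h, by rw [hh]; rfl⟩
      have hy' : Units.mk0 y hy ∉ C.φ.range := by
        rintro ⟨h, hh⟩
        exact hyS ⟨h, by rw [hh]; rfl⟩
      have h1 := (Subgroup.mul_mem_iff_of_index_two hindex).2 (iff_of_false hx' hy')
      obtain ⟨h, hh⟩ := h1
      exact ⟨h, by rw [hh]; rfl⟩
  have hT1 : ∀ u : K, u ≠ 0 → ∃ h : ↥(stabilizer G a ⊓ stabilizer G b), (C.φ h : K) = u ^ 2 := by
    intro u hu
    have h1 : u * u ∈ S := by
      by_cases h2 : u ∈ S
      · exact D.mul _ h2 _ h2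
      · exact D.two _ _ hu hu h2 h2
    obtain ⟨h, hh⟩ := h1
    exact ⟨h, by rw [hh, pow_two]⟩
  have hT2 : ∀ h : ↥(stabilizer G a ⊓ stabilizer G b), ∃ u : K, ∃ _ : u ≠ 0, (C.φ h : K) = u ^ 2 := by
    intro h
    have h1 : IsSquare (C.φ h : K) := by
      rw [FiniteField.isSquare_iff hchar (Units.ne_zero _)]
      have h2 : Fintype.card K / 2 = d := by omega
      rw [h2, ← Units.val_pow_eq_pow_val, ← map_pow, hd, pow_card_eq_one']
      simp
    obtain ⟨u, hu⟩ := h1
    have hu0 : u ≠ 0 := by
      rintro rfl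
      exact Units.ne_zero (C.φ h) (by rw [hu, mul_zero])
    exact ⟨u, hu0, by rw [hu, pow_two]⟩
  -- the swap
  obtain ⟨s, hsa, hsb⟩ := Cfsg.Agent.S0740.swap_exists hZ.2.1 hab
  have hss := hs2 s hsa hsb
  have hsi : s⁻¹ = s := inv_eq_of_mul_eq_one_left hss
  have hinv : ∀ h : ↥(stabilizer G a ⊓ stabilizer G b), s * (h : G) = (h : G)⁻¹ * s := by
    intro h
    have h1 := hs2 (s * h) (by rw [mul_smul, show (h : G) • a = a from h.2.1, hsa])
      (by rw [mul_smul, show (h : G) • b = b from h.2.2, hsb])
    rw [eq_inv_mul_iff_mul_eq]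
    calc (h : G) * (s * h) = s * s * ((h : G) * (s * h)) := by rw [hss, one_mul]
      _ = s * (s * h * (s * h)) := by group
      _ = s := by rw [h1, mul_one]
  have hbne := hab
  have heps_a : ∀ y : K, C.ε y • a = a := C.eps_a hF hab
  have heps : ∀ y z : K, C.ε y • C.pt b z = C.pt b (z + y) := C.eps_pt hF hab
  have hstab : ∀ (h : ↥(stabilizer G a ⊓ stabilizer G b)) (z : K),
      (h : G) • C.pt b z = C.pt b ((C.φ h : K) * z) := C.stab_pt hF hab
  have hpt0 : C.pt b 0 = b := C.pt_zero hF hab
  have hpt_inj : ∀ {z w : K}, C.pt b z = C.pt b w → z = w := fun h => C.pt_inj hF hab h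
  -- the map induced by the swap
  have hex : ∀ z : K, z ≠ 0 → ∃ w : K, w ≠ 0 ∧ s • C.pt b z = C.pt b w := by
    intro z hz
    have hpt_ne := C.pt_ne hF hab
    have h1 : s • C.pt b z ≠ b := by
      intro h
      have h2 : s • C.pt b z = s • a := by rw [h, hsa]
      exact hpt_ne z (smul_left_cancel _ h2)
    have h2 : s • C.pt b z ≠ a := by
      intro h
      have h3 : s • C.pt b z = s • b := by rw [h, hsb]
      have h4 := smul_left_cancel _ h3
      have h5 : C.pt b z = C.pt b 0 := h4.trans hpt0.symm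
      exact hz (hpt_inj h5)
    obtain ⟨w, hw⟩ := C.exists_pt hF hab h2
    refine ⟨w, ?_, hw.symm⟩
    rintro rfl
    exact h1 (hw.symm.trans hpt0)
  choose! f hf0 hfact using hex
  have hff : ∀ z, z ≠ 0 → f (f z) = z := by
    intro z hz
    apply hpt_inj
    rw [← hfact _ (hf0 z hz), ← hfact z hz, ← mul_smul, hss, one_smul]
  have hfu : ∀ u ∈ S, ∀ z, z ≠ 0 → f (u * z) = u⁻¹ * f z := by
    rintro _ ⟨h, rfl⟩ z hz
    have hu0 : ((C.φ h : K)) * z ≠ 0 := mul_ne_zero (Units.ne_zero _) hz
    apply hpt_inj
    rw [← hfact _ hu0, ← hstab, ← mul_smul, hinv, mul_smul, hfact z hz]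
    have h1 := hstab h⁻¹ (f z)
    simpa only [map_inv, Units.val_inv_eq_inv_val, InvMemClass.coe_inv] using h1
  obtain ⟨θ, hθ, hfθ⟩ : ∃ θ, -θ ∈ S ∧ ∀ z, z ≠ 0 → f z = θ / z := by
    rcases Nat.even_or_odd d with hev | hodd
    · -- even order
      have hm1 : (-1 : K) ∈ S := by
        have : Fact (Nat.Prime 2) := ⟨Nat.prime_two⟩
        obtain ⟨j, hj⟩ := exists_prime_orderOf_dvd_card' (G := ↥(stabilizer G a ⊓ stabilizer G b)) 2
          (even_iff_two_dvd.1 hev)
        refine ⟨j, ?_⟩
        have hj2 : j * j = 1 := by rw [← pow_two, ← hj]; exact pow_orderOf_eq_one _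
        have hj1 : j ≠ 1 := by
          intro h
          rw [h, orderOf_one] at hj
          omega
        have h1 : (C.φ j : K) * (C.φ j : K) = 1 := by
          rw [← Units.val_mul, ← map_mul, hj2, map_one, Units.val_one]
        rcases mul_self_eq_one_iff.1 h1 with h2 | h2
        · exfalso
          apply hj1
          apply C.φ_inj
          rw [map_one]
          exact Units.ext h2
        · exact h2
      have hfneg : ∀ z, z ≠ 0 → f (-z) = -f z := by
        intro z hz
        have h1 := hfu (-1) hm1 z hz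
        simpa using h1
      refine even_lemma D hm1 f hfu ?_ ?_
      · intro x hx
        set α := f x with hα
        have hα0 : α ≠ 0 := hf0 x hx
        set g := C.ε (-α) * s * C.ε x * s * C.ε (-α) * s with hg
        have hga : g • a = a := by
          calc g • a = C.ε (-α) • s • C.ε x • s • C.ε (-α) • (s • a) := by
                simp only [hg, mul_smul]
            _ = C.ε (-α) • s • C.ε x • s • C.pt b (-α) := by rw [hsa]; rfl
            _ = C.ε (-α) • s • C.ε x • C.pt b (-x) := by
                rw [hfact _ (neg_ne_zero.2 hα0), hfneg α hα0, hff x hx]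
            _ = C.ε (-α) • s • C.pt b 0 := by rw [heps, neg_add_cancel]
            _ = a := by rw [hpt0, hsb, heps_a]
        have hgb : g • b = b := by
          calc g • b = C.ε (-α) • s • C.ε x • s • C.ε (-α) • (s • b) := by
                simp only [hg, mul_smul]
            _ = C.ε (-α) • s • C.ε x • b := by rw [hsb, heps_a, hsa]
            _ = C.ε (-α) • s • C.pt b x := rfl
            _ = C.ε (-α) • C.pt b α := by rw [hfact x hx]
            _ = C.pt b 0 := by rw [heps, add_neg_cancel]
            _ = b := hpt0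
        let k₀ : ↥(stabilizer G a ⊓ stabilizer G b) := ⟨g, hga, hgb⟩
        have hk₀ : ∀ z, g • C.pt b z = C.pt b ((C.φ k₀ : K) * z) := fun z => hstab k₀ z
        have hR : s * C.ε x * s = C.ε α * g * s * C.ε α := by
          have h1 : C.ε α * g * s * C.ε α = s * C.ε x * s * (C.ε α)⁻¹ * (s * s) * C.ε α := by
            simp only [hg, C.eps_neg]
            group
          rw [h1, hss]
          group
        refine ⟨(C.φ k₀ : K), ⟨k₀, rfl⟩, ?_, ?_⟩
        · have h1 : (s * C.ε x * s) • b = b := by
            rw [mul_smul, mul_smul, hsb, heps_a, hsa]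
          rw [hR] at h1
          have h2 : (C.ε α * g * s * C.ε α) • b = C.pt b ((C.φ k₀ : K) * x + α) := by
            calc (C.ε α * g * s * C.ε α) • b = C.ε α • g • s • C.pt b α := by
                  simp only [mul_smul]; rfl
              _ = C.ε α • g • C.pt b x := by rw [hfact α hα0, hff x hx]
              _ = C.pt b ((C.φ k₀ : K) * x + α) := by rw [hk₀, heps]
          rw [h2] at h1
          have h3 : (C.φ k₀ : K) * x + α = 0 := hpt_inj (h1.trans hpt0.symm)
          linear_combination h3
        · intro Y hY hne hne2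
          have hfY := hf0 Y hY
          have h1 : (s * C.ε x * s) • C.pt b (f Y) = C.pt b (f (x + Y)) := by
            rw [mul_smul, mul_smul, hfact _ hfY, hff Y hY, heps, add_comm Y x, hfact _ hne]
          have h2 : (C.ε α * g * s * C.ε α) • C.pt b (f Y) =
              C.pt b ((C.φ k₀ : K) * f (f Y + α) + α) := by
            have hne3 : f Y + α ≠ 0 := by rwa [add_comm]
            calc (C.ε α * g * s * C.ε α) • C.pt b (f Y) = C.ε α • g • s • (C.ε α • C.pt b (f Y)) := by
                  simp only [mul_smul]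
              _ = C.ε α • g • C.pt b (f (f Y + α)) := by rw [heps, hfact _ hne3]
              _ = C.pt b ((C.φ k₀ : K) * f (f Y + α) + α) := by rw [hk₀, heps]
          rw [hR, h2] at h1
          have h3 := hpt_inj h1
          rw [← h3, add_comm (f Y) α]
          ring
      · by_contra hcon
        push Not at hcon
        let W : AddSubgroup K :=
          { carrier := {x | x = 0 ∨ x ∈ S}
            add_mem' := by
              rintro x y (rfl | hx) (rfl | hy)
              · left; simp
              · right; simpa using hy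
              · right; simpa using hx
              · by_cases h : x + y = 0
                · exact Or.inl h
                · exact Or.inr (hcon x hx y hy h)
            zero_mem' := Or.inl rfl
            neg_mem' := by
              rintro x (rfl | hx)
              · left; simp
              · right
                have := D.mul _ hm1 _ hx
                simpa using this }
        have hW : Nat.card W = d + 1 := by
          have h1 : Function.Bijective (fun o : Option ↥(stabilizer G a ⊓ stabilizer G b) =>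
              (match o with
                | Option.none => (⟨0, Or.inl rfl⟩ : W)
                | Option.some h => ⟨(C.φ h : K), Or.inr (hSmem h)⟩)) := by
            constructor
            · intro o o' h
              have h' := congrArg (fun t : W => (t : K)) h
              rcases o with _ | o <;> rcases o' with _ | o'
              · rfl
              · exact absurd h'.symm (Units.ne_zero _)
              · exact absurd h' (Units.ne_zero _)
              · exact congrArg Option.some (C.φ_inj (Units.ext h'))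
            · rintro ⟨x, (rfl | ⟨h, rfl⟩)⟩
              · exact ⟨Option.none, rfl⟩
              · exact ⟨Option.some h, rfl⟩
          rw [← Nat.card_eq_of_bijective _ h1, Finite.card_option]
        have h1 : Nat.card W ∣ Nat.card K := AddSubgroup.card_addSubgroup_dvd_card W
        rw [hW, Nat.card_eq_fintype_card, hcardK] at h1
        have h2 : d + 1 ∣ 2 * (d + 1) - (2 * d + 1) := Nat.dvd_sub (Dvd.intro_left 2 rfl) h1
        have h3 : 2 * (d + 1) - (2 * d + 1) = 1 := by omega
        rw [h3, Nat.dvd_one] at h2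
        omega
    · -- odd order
      have hm1 : (-1 : K) ∉ S := by
        rintro ⟨h, hh⟩
        have h1 : C.φ (h * h) = 1 := by
          apply Units.ext
          rw [map_mul, Units.val_mul, hh]
          simp
        have h2 : h * h = 1 := C.φ_inj (h1.trans (map_one _).symm)
        have h3 : (h : G) = 1 :=
          Cfsg.Agent.Lib.ZassInv.eq_one_of_mul_self hZ hodd h.2 (congrArg Subtype.val h2)
        have h4 : h = 1 := Subtype.ext h3
        rw [h4, map_one, Units.val_one] at hh
        exact hm1ne hh.symm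
      have hsq : ∀ u ∈ S, ∃ v ∈ S, v * v = u := by
        rintro _ ⟨h, rfl⟩
        refine ⟨_, hSmem (h ^ ((d + 1) / 2)), ?_⟩
        rw [← Units.val_mul, ← map_mul, ← pow_add]
        have h1 : (d + 1) / 2 + (d + 1) / 2 = d + 1 := by
          obtain ⟨k, hk⟩ := hodd
          omega
        rw [h1, pow_succ, hd, pow_card_eq_one', one_mul]
      have hfix : ∀ z, z ≠ 0 → f z ≠ z := by
        intro z hz hfz
        have hs1 : s ≠ 1 := by
          rintro rfl
          rw [one_smul] at hsa
          exact hab hsa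
        have hso : orderOf s = 2 := by
          apply orderOf_eq_prime
          · rw [pow_two]; exact hss
          · exact hs1
        have h1 := Cfsg.Agent.S0740.fix_parity (Ω := Ω) s hso
        have h2 := Cfsg.Agent.S0740.fix_card_le_two hZ.2.2.1 s hs1
        have hn : Fintype.card Ω = 2 * d + 2 := by
          have := card_F_add_one hZ hab.symm hF
          omega
        have hfixz : C.pt b z ∈ fixedBy Ω s := by
          show s • C.pt b z = C.pt b z
          rw [hfact z hz, hfz]
        have h3 : 0 < Nat.card (fixedBy Ω s) := Nat.card_pos_iff.2 ⟨⟨_, hfixz⟩, inferInstance⟩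
        have h4 : Nat.card (fixedBy Ω s) = 2 := by
          rw [hn] at h1
          omega
        have h5 : Set.ncard (fixedBy Ω s) = 2 := by rw [← Nat.card_coe_set_eq]; exact h4
        obtain ⟨c, e, hce, hset⟩ := Set.ncard_eq_two.mp h5
        have hc : s • c = c := by
          have : c ∈ fixedBy Ω s := by rw [hset]; simp
          exact this
        have he : s • e = e := by
          have : e ∈ fixedBy Ω s := by rw [hset]; simp
          exact this
        have hoddce : Odd (Nat.card ↥(stabilizer G c ⊓ stabilizer G e)) := by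
          rw [← Cfsg.Agent.Lib.ZassInv.card_stab_eq hZ hab hce]
          exact hodd
        exact hs1 (Cfsg.Agent.Lib.ZassInv.eq_one_of_mul_self hZ hoddce
          (Subgroup.mem_inf.mpr ⟨mem_stabilizer_iff.mpr hc, mem_stabilizer_iff.mpr he⟩) hss)
      exact odd_lemma D hm1 f hf0 hff hfu hfix hsq
  -- the Weyl element
  have hθ0 : -θ ≠ 0 := D.ne _ hθ
  have hθ1 : θ ≠ 0 := fun h => hθ0 (by rw [h, neg_zero])
  obtain ⟨h₁, hh₁⟩ := D.inv _ hθ
  refine C.psl_of_data hF hab hT1 hT2 (h₁ * s) ?_ ?_ ?_
  · rw [mul_smul, hsa]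
    exact h₁.2.2
  · rw [mul_smul, hsb]
    exact h₁.2.1
  · intro z hz
    rw [mul_smul, hfact z hz, hstab, hfθ z hz, hh₁]
    congr 1
    field_simp

end Main

theorem field_transport (K' : Type) (K : Type w) [Field K] (e : K' ≃ K) :
    ∃ _ : Field K', Nonempty (K ≃+* K') := by
  letI : Field K' := e.field
  exact ⟨inferInstance, ⟨e.ringEquiv.symm⟩⟩

theorem exists_type0 (K : Type w) [Field K] [Finite K] :
    ∃ (K' : Type) (_ : Field K') (_ : Fintype K'), Fintype.card K' = Nat.card K ∧
      Nonempty (K ≃+* K') := by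
  obtain ⟨F, hF⟩ := field_transport (Fin (Nat.card K)) K (Finite.equivFin K).symm
  exact ⟨Fin (Nat.card K), F, inferInstance, by simp, hF⟩

section Assembly

variable {G : Type u} {Ω : Type v} [Group G] [MulAction G Ω] [Fintype Ω] {a b : Ω} {F : Subgroup G}
  (hZ : IsZassenhausGroup G Ω) (hab : a ≠ b) (hF : IsKernelAt G a F)

include hZ hab hF

/-- The two-point stabiliser acts freely on the kernel. -/
theorem free_conj (z : G) (hza : z • a = a) (hzb : z • b = b) (x : G) (hx : x ∈ F) (hx1 : x ≠ 1)
    (hzx : z * x * z⁻¹ = x) : z = 1 := by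
  have h1 : x • b ≠ b := fun h => hab (hF.fixed_eq hx hx1 h).symm
  have h2 : x • b ≠ a := by
    intro h
    apply hab
    have h4 : x • b = x • a := by rw [h, hF.le x hx]
    exact (smul_left_cancel _ h4).symm
  have h3 : z • (x • b) = x • b := by
    have : z * x = x * z := by
      calc z * x = z * x * z⁻¹ * z := by group
        _ = x * z := by rw [hzx]
    rw [← mul_smul, this, mul_smul, hzb]
  exact Cfsg.Agent.Lib.Zassenhaus.eq_one_of_three hZ hab h1.symm h2.symm hza hzb h3

/-- Subgroups of the kernel invariant under the two-point stabiliser are trivial. -/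
theorem irr_sub (h2d : 2 * Nat.card ↥(stabilizer G a ⊓ stabilizer G b) + 1 = Nat.card F)
    (W : Subgroup G) (hW : W ≤ F)
    (hst : ∀ z ∈ stabilizer G a ⊓ stabilizer G b, ∀ x ∈ W, z * x * z⁻¹ ∈ W) : W = ⊥ ∨ W = F := by
  have := finite_of_zass hZ
  set d := Nat.card ↥(stabilizer G a ⊓ stabilizer G b) with hd
  have hd0 : 0 < d := Nat.card_pos
  have hdvd1 : d ∣ Nat.card W - 1 := by
    apply Cfsg.Agent.Lib.DicksonStruct.card_dvd_of_conj_free
    · intro z hz x
      constructor
      · intro hx
        exact hst z hz x hx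
      · intro hx
        have h1 := hst z⁻¹ (Subgroup.inv_mem _ hz) _ hx
        simpa [mul_assoc] using h1
    · intro z hz x hx hx1 hzx
      exact free_conj hZ hab hF z hz.1 hz.2 x (hW hx) hx1 hzx
  have hdvd2 : Nat.card W ∣ Nat.card F := Subgroup.card_dvd_of_le hW
  have hw0 : 0 < Nat.card W := Nat.card_pos
  have hn0 : 0 < Nat.card F := Nat.card_pos
  have hle := Nat.le_of_dvd hn0 hdvd2
  obtain ⟨m, hm⟩ := hdvd1
  have hm2 : m ≤ 2 := by
    by_contra hm3
    have : d * 3 ≤ d * m := Nat.mul_le_mul_left _ (by omega)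
    omega
  have hcases : m = 0 ∨ m = 1 ∨ m = 2 := by omega
  rcases hcases with rfl | rfl | rfl
  · left
    apply Subgroup.eq_bot_of_card_eq
    omega
  · exfalso
    have h1 : Nat.card W = d + 1 := by omega
    rw [h1, ← h2d] at hdvd2
    have h2 : d + 1 ∣ 2 * (d + 1) - (2 * d + 1) := Nat.dvd_sub (Dvd.intro_left 2 rfl) hdvd2
    have h3 : 2 * (d + 1) - (2 * d + 1) = 1 := by omega
    rw [h3, Nat.dvd_one] at h2
    omega
  · right
    apply Subgroup.eq_of_le_of_card_ge hW
    omega

/-- **Main theorem**: the recognition of `PSL(2, n)`. -/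
theorem psl_of_hyp (hc : ∀ x ∈ F, ∀ y ∈ F, x * y = y * x)
    (h2d : 2 * Nat.card ↥(stabilizer G a ⊓ stabilizer G b) + 1 = Nat.card F)
    (hs2 : ∀ s : G, s • a = b → s • b = a → s * s = 1) :
    ∃ (K : Type) (_ : Field K) (_ : Fintype K), Fintype.card K = Nat.card F ∧
      Nonempty (G ≃* ProjectiveSpecialLinearGroup (Fin 2) K) := by
  classical
  have := finite_of_zass hZ
  letI := commF hc
  letI := actF hF hc
  let ρ : ↥(stabilizer G a ⊓ stabilizer G b) →* AddMonoid.End (Additive F) :=
    (DistribMulAction.toAddMonoidEnd (stabilizer G a) (Additive F)).comp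
      (Subgroup.inclusion inf_le_left)
  have hρ : ∀ (h : ↥(stabilizer G a ⊓ stabilizer G b)) (t : Additive F),
      ((Additive.toMul (ρ h t) : F) : G) = (h : G) * ((Additive.toMul t : F) : G) * (h : G)⁻¹ :=
    fun _ _ => rfl
  set d := Nat.card ↥(stabilizer G a ⊓ stabilizer G b) with hd
  have hd0 : 0 < d := Nat.card_pos
  obtain ⟨s, hsa, hsb⟩ := Cfsg.Agent.S0740.swap_exists hZ.2.1 hab
  have hss := hs2 s hsa hsb
  have hsi : s⁻¹ = s := inv_eq_of_mul_eq_one_left hss
  have hinv : ∀ h : ↥(stabilizer G a ⊓ stabilizer G b), s * (h : G) * s = (h : G)⁻¹ := by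
    intro h
    have h1 := hs2 (s * h) (by rw [mul_smul, show (h : G) • a = a from h.2.1, hsa])
      (by rw [mul_smul, show (h : G) • b = b from h.2.2, hsb])
    rw [eq_inv_iff_mul_eq_one]
    calc s * (h : G) * s * h = (s * h) * (s * h) := by group
      _ = 1 := h1
  have hcommH : ∀ h h' : ↥(stabilizer G a ⊓ stabilizer G b), h * h' = h' * h := by
    intro h h'
    apply Subtype.ext
    have h1 := hinv (h * h')
    have h2 : s * ((h * h' : ↥(stabilizer G a ⊓ stabilizer G b)) : G) * s =
        (s * (h : G) * s) * (s * (h' : G) * s) := by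
      show s * ((h : G) * h') * s = _
      calc s * ((h : G) * h') * s = s * h * 1 * h' * s := by group
        _ = s * h * (s * s) * h' * s := by rw [hss]
        _ = _ := by group
    rw [h2, hinv, hinv] at h1
    have h3 : ((h * h' : ↥(stabilizer G a ⊓ stabilizer G b)) : G)⁻¹ = (h' : G)⁻¹ * (h : G)⁻¹ :=
      _root_.mul_inv_rev _ _
    rw [h3] at h1
    have h4 := congrArg (fun y => y⁻¹) h1
    simp only [_root_.mul_inv_rev, inv_inv] at h4
    exact h4.symm
  have hcomm : ∀ h h', ρ h * ρ h' = ρ h' * ρ h := by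
    intro h h'
    rw [← map_mul, ← map_mul, hcommH]
  have hirr : ∀ W : AddSubgroup (Additive F), (∀ h, ∀ x ∈ W, ρ h x ∈ W) → W = ⊥ ∨ W = ⊤ := by
    intro W hW
    let W' : Subgroup G :=
      { carrier := {g | ∃ t ∈ W, ((Additive.toMul t : F) : G) = g}
        mul_mem' := by
          rintro _ _ ⟨t, ht, rfl⟩ ⟨t', ht', rfl⟩
          exact ⟨t + t', W.add_mem ht ht', rfl⟩
        one_mem' := ⟨0, W.zero_mem, rfl⟩
        inv_mem' := by
          rintro _ ⟨t, ht, rfl⟩
          exact ⟨-t, W.neg_mem ht, rfl⟩ }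
    have hW'F : W' ≤ F := by
      rintro _ ⟨t, -, rfl⟩
      exact (Additive.toMul t).2
    have hst : ∀ z ∈ stabilizer G a ⊓ stabilizer G b, ∀ x ∈ W', z * x * z⁻¹ ∈ W' := by
      rintro z hz _ ⟨t, ht, rfl⟩
      exact ⟨ρ ⟨z, hz⟩ t, hW _ t ht, rfl⟩
    rcases irr_sub hZ hab hF h2d W' hW'F hst with h | h
    · left
      rw [eq_bot_iff]
      intro t ht
      have h1 : ((Additive.toMul t : F) : G) ∈ W' := ⟨t, ht, rfl⟩
      rw [h, Subgroup.mem_bot] at h1
      show t = 0
      apply Additive.toMul.injective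
      exact Subtype.ext h1
    · right
      rw [eq_top_iff]
      intro t _
      have h1 : ((Additive.toMul t : F) : G) ∈ W' := by rw [h]; exact (Additive.toMul t).2
      obtain ⟨t', ht', hh⟩ := h1
      have h2 : t' = t := by
        apply Additive.toMul.injective
        exact Subtype.ext hh
      rwa [← h2]
  have hcardF : 1 < Nat.card F := by omega
  obtain ⟨t₀, ht₀⟩ : ∃ t₀ : F, t₀ ≠ 1 := by
    have : Nontrivial F := (Finite.one_lt_card_iff_nontrivial).1 hcardF
    exact exists_ne 1
  have hNA : Nontrivial (Additive F) := by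
    have : Nontrivial F := ⟨⟨t₀, 1, ht₀⟩⟩
    infer_instance
  have he₀ : Additive.ofMul t₀ ≠ 0 := by
    intro h
    apply ht₀
    exact Additive.ofMul.injective h
  have hρinj : Function.Injective ρ := by
    intro h h' hh
    have h1 := congrArg (fun f : AddMonoid.End (Additive F) => f (Additive.ofMul t₀)) hh
    have h2 : (h : G) * (t₀ : G) * (h : G)⁻¹ = (h' : G) * (t₀ : G) * (h' : G)⁻¹ :=
      congrArg (fun t : Additive F => ((Additive.toMul t : F) : G)) h1
    have h3 : ((h' : G)⁻¹ * h) = 1 := by
      apply free_conj hZ hab hF _ (Subgroup.mul_mem _ (Subgroup.inv_mem _ h'.2.1) h.2.1)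
        (Subgroup.mul_mem _ (Subgroup.inv_mem _ h'.2.2) h.2.2) (t₀ : G) t₀.2
        (fun h4 => ht₀ (Subtype.ext h4))
      calc (h' : G)⁻¹ * h * t₀ * ((h' : G)⁻¹ * h)⁻¹ =
            (h' : G)⁻¹ * ((h : G) * t₀ * (h : G)⁻¹) * h' := by group
        _ = (h' : G)⁻¹ * ((h' : G) * t₀ * (h' : G)⁻¹) * h' := by rw [h2]
        _ = t₀ := by group
    apply Subtype.ext
    exact (inv_mul_eq_one.mp h3).symm
  obtain ⟨K, _, _, ev, φ, hev, hadd, hconj, hφ⟩ :=
    Cfsg.Agent.Lib.ZassAbF19.exists_field ρ hcomm hirr (Additive.ofMul t₀) he₀ hρinj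
  let C : Coord a b F K :=
    { ε := fun x => ((Additive.toMul (ev x) : F) : G)
      add := fun x y => by
        show ((Additive.toMul (ev (x + y)) : F) : G) = _
        rw [hadd]
        rfl
      mem := fun x => (Additive.toMul (ev x)).2
      surj := fun t ht => by
        obtain ⟨x, hx⟩ := hev.2 (Additive.ofMul ⟨t, ht⟩)
        refine ⟨x, ?_⟩
        show ((Additive.toMul (ev x) : F) : G) = t
        rw [hx]
        rfl
      inj := fun x y h => by
        apply hev.1
        apply Additive.toMul.injective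
        exact Subtype.ext h
      φ := φ
      conj := fun h x => by
        show (h : G) * ((Additive.toMul (ev x) : F) : G) * (h : G)⁻¹ =
          ((Additive.toMul (ev ((φ h : K) * x)) : F) : G)
        rw [hconj]
        rfl
      φ_inj := hφ }
  obtain ⟨e⟩ := psl_of_coord hZ hab hF C h2d hs2
  obtain ⟨K', FK', FtK', hcK', ⟨r⟩⟩ := exists_type0 K
  obtain ⟨e2⟩ := Cfsg.Agent.Lib.PSL2Rec.psl_congr r
  refine ⟨K', FK', FtK', ?_, ⟨e.trans e2⟩⟩
  rw [hcK']
  exact Nat.card_congr (Equiv.ofBijective (fun x => (⟨C.ε x, C.mem x⟩ : F)) ⟨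
    fun x y h => C.inj (congrArg Subtype.val h),
    by
      rintro ⟨t, ht⟩
      obtain ⟨x, rfl⟩ := C.surj t ht
      exact ⟨x, rfl⟩⟩)

end Assembly

end Cfsg.Agent.Lib.ZassAbD19
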