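import Mathlib
import Cfsg.Agent.S0344
import Cfsg.Agent.S0254
import Cfsg.Agent.Lib.SmallGroups
import Cfsg.Agent.Lib.SmallGroups2
import Cfsg.Agent.Lib.ClassicalSmall

/-!
# Simple groups of order 360
-/

set_option autoImplicit false
set_option linter.style.haveILetI false
set_option linter.unusedSectionVars false

open scoped Pointwise

namespace Cfsg.Agent.Lib.Order360

open Cfsg.Agent.Lib.SmallGroups2 Subgroup

variable {G : Type*} [Group G] [Finite G]

theorem comm_of_card9 (P : Subgroup G) (h : Nat.card P = 9) {a b : G} (ha : a ∈ P) (hb : b ∈ P) :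
    a * b = b * a := by
  haveI : Fact (Nat.Prime 3) := ⟨by norm_num⟩
  have hc : ∀ x y : P, x * y = y * x :=
    IsPGroup.commutative_of_card_eq_prime_sq (p := 3) (by rw [h]; norm_num)
  have := hc ⟨a, ha⟩ ⟨b, hb⟩
  exact congrArg (fun z : P => (z : G)) this

theorem six_le_index {k : ℕ} (h : 720 ∣ k.factorial) : 6 ≤ k := by
  by_contra hcon
  have hk : k ≤ 5 := by omega
  have hle : k.factorial ≤ 120 := Nat.factorial_le hk
  have hpos := Nat.factorial_pos k
  have := Nat.le_of_dvd hpos h
  omega

section order36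

variable {Y : Type*} [Group Y] [Finite Y]

/-- A group of order 36 with more than one Sylow `3`-subgroup has a normal subgroup of order 4. -/
theorem exists_normal_four (hY : Nat.card Y = 36) (hn : Nat.card (Sylow 3 Y) ≠ 1) :
    ∃ K : Subgroup Y, K.Normal ∧ Nat.card K = 4 := by
  haveI : Fact (Nat.Prime 3) := ⟨by norm_num⟩
  have hm := card_sylow_mem_filter (G := Y) (p := 3) (a := 2) (m := 4) (by rw [hY]; norm_num) (by norm_num)
    (by norm_num)
  have h4 : Nat.card (Sylow 3 Y) = 4 := by
    have h7 : (Nat.divisors 4).filter (fun n => n % 3 = 1 % 3) = {1, 4} := by decide +kernel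
    rw [h7] at hm
    simp only [Finset.mem_insert, Finset.mem_singleton] at hm
    exact hm.resolve_left hn
  obtain ⟨P⟩ := (inferInstance : Nonempty (Sylow 3 Y))
  have hP : Nat.card (P : Subgroup Y) = 9 := by
    have := sylow_card_of_card_eq (G := Y) (p := 3) (a := 2) (m := 4) (by rw [hY]; norm_num) (by norm_num) P
    simpa using this
  have hNc := card_normalizer_mul_card_sylow P
  rw [h4, hY] at hNc
  have hNeq : normalizer ((P : Subgroup Y) : Set Y) = (P : Subgroup Y) :=
    (Subgroup.eq_of_le_of_card_ge Subgroup.le_normalizer (by rw [hP]; omega)).symm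
  have hle : normalizer ((P : Subgroup Y) : Set Y) ≤ centralizer ((P : Subgroup Y) : Set Y) := by
    rw [hNeq]
    intro y hy
    rw [Subgroup.mem_centralizer_iff]
    intro z hz
    exact comm_of_card9 _ hP hz hy
  have hc := MonoidHom.ker_transferSylow_isComplement' P hle
  refine ⟨(MonoidHom.transferSylow P hle).ker, inferInstance, ?_⟩
  have h1 := hc.card_mul_card
  rw [hP, hY] at h1
  omega

end order36

section main

variable [hS : IsSimpleGroup G] (hG : Nat.card G = 360)

include hG

theorem not_comm : ¬ IsMulCommutative G :=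
  Cfsg.Agent.Lib.SmallGroups2.not_isMulCommutative_of_not_prime (by rw [hG]; norm_num)

theorem card_P (P : Sylow 3 G) : Nat.card (P : Subgroup G) = 9 := by
  haveI : Fact (Nat.Prime 3) := ⟨by norm_num⟩
  have := sylow_card_of_card_eq (G := G) (p := 3) (a := 2) (m := 40) (by rw [hG]; norm_num) (by norm_num) P
  simpa using this

theorem card_sylow3 : Nat.card (Sylow 3 G) = 10 := by
  haveI : Fact (Nat.Prime 3) := ⟨by norm_num⟩
  have hcomm := not_comm (G := G) hG
  have hm := card_sylow_mem_filter (G := G) (p := 3) (a := 2) (m := 40) (by rw [hG]; norm_num) (by norm_num)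
    (by norm_num)
  have h7 : (Nat.divisors 40).filter (fun n => n % 3 = 1 % 3) = {1, 4, 10, 40} := by decide +kernel
  rw [h7] at hm
  simp only [Finset.mem_insert, Finset.mem_singleton] at hm
  have h3 : 3 ∣ Nat.card G := by rw [hG]; norm_num
  have hne1 := card_sylow_ne_one hcomm h3
  rcases hm with h | h | h | h
  · exact absurd h hne1
  · exfalso
    have := two_mul_card_dvd_factorial_card_sylow hcomm h3
    rw [h, hG] at this
    revert this
    decide
  · exact h
  · exfalso
    obtain ⟨P⟩ := (inferInstance : Nonempty (Sylow 3 G))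
    have hP := card_P hG P
    have hNc := card_normalizer_mul_card_sylow P
    rw [h, hG] at hNc
    have hNeq : normalizer ((P : Subgroup G) : Set G) = (P : Subgroup G) :=
      (Subgroup.eq_of_le_of_card_ge Subgroup.le_normalizer (by rw [hP]; omega)).symm
    apply not_normalizer_le_centralizer hcomm h3 P
    rw [hNeq]
    intro y hy
    rw [Subgroup.mem_centralizer_iff]
    intro z hz
    exact comm_of_card9 _ hP hz hy

theorem card_N (P : Sylow 3 G) : Nat.card (normalizer ((P : Subgroup G) : Set G)) = 36 := by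
  haveI : Fact (Nat.Prime 3) := ⟨by norm_num⟩
  have hNc := card_normalizer_mul_card_sylow P
  rw [card_sylow3 hG, hG] at hNc
  omega

theorem card_le_60 (H : Subgroup G) (hH : H ≠ ⊤) : Nat.card H ≤ 60 := by
  have h1 := Cfsg.Agent.Lib.SmallGroups.two_mul_card_dvd_factorial_index (not_comm (G := G) hG) H hH
  rw [hG] at h1
  have h2 := six_le_index h1
  have h3 := H.card_mul_index
  rw [hG] at h3
  by_contra hcon
  have : 61 * 6 ≤ Nat.card H * H.index := Nat.mul_le_mul (by omega) h2
  omega

/-- Two different Sylow `3`-subgroups intersect trivially. -/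
theorem ti (P Q : Sylow 3 G) (hne : P ≠ Q) {x : G} (hxP : x ∈ (P : Subgroup G)) (hxQ : x ∈ (Q : Subgroup G)) :
    x = 1 := by
  classical
  haveI : Fact (Nat.Prime 3) := ⟨by norm_num⟩
  haveI : Fact (Nat.Prime 2) := ⟨by norm_num⟩
  by_contra hx
  have hPc := card_P hG P
  have hQc := card_P hG Q
  set X : Subgroup G := centralizer ({x} : Set G) with hX
  have hPX : (P : Subgroup G) ≤ X := fun y hy => mem_centralizer_singleton_iff.2 (comm_of_card9 _ hPc hy hxP)
  have hQX : (Q : Subgroup G) ≤ X := fun y hy => mem_centralizer_singleton_iff.2 (comm_of_card9 _ hQc hy hxQ)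
  have hXtop : X ≠ ⊤ := by
    intro htop
    have hxc : x ∈ Subgroup.center G := by
      rw [Subgroup.mem_center_iff]
      intro g
      have : g ∈ X := by rw [htop]; trivial
      exact mem_centralizer_singleton_iff.1 this
    rcases (inferInstance : (Subgroup.center G).Normal).eq_bot_or_eq_top with hb | ht
    · rw [hb, Subgroup.mem_bot] at hxc
      exact hx hxc
    · apply not_comm (G := G) hG
      refine ⟨⟨fun a b => ?_⟩⟩
      have ha : a ∈ Subgroup.center G := by rw [ht]; trivial
      exact (Subgroup.mem_center_iff.1 ha b).symm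
  have hXle := card_le_60 hG X hXtop
  have h9 : 9 ∣ Nat.card X := by
    rw [← hPc]; exact Subgroup.card_dvd_of_le hPX
  have hXd : Nat.card X ∣ 360 := by
    rw [← hG]; exact Subgroup.card_subgroup_dvd_card X
  -- two Sylow subgroups in `X`
  have hPsub : Nat.card (P.subtype hPX : Subgroup X) = 9 := by
    rw [Sylow.coe_subtype, ← hPc]
    exact Nat.card_congr (Subgroup.subgroupOfEquivOfLe hPX).toEquiv
  have hn1 : Nat.card (Sylow 3 X) ≠ 1 := by
    intro h1
    have hs : Subsingleton (Sylow 3 X) := (Nat.card_eq_one_iff_unique.1 h1).1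
    apply hne
    exact Sylow.subtype_injective (hP := hPX) (hQ := hQX) (Subsingleton.elim _ _)
  have hXc : Nat.card X = 36 := by
    obtain ⟨m, hm⟩ := h9
    obtain ⟨e, he⟩ := hXd
    rw [hm] at hXle he
    have hm7 : m ≤ 6 := by omega
    have hm0 : m ≠ 0 := by
      rintro rfl
      omega
    have hmne : m ≠ 3 ∧ m ≠ 6 := by
      constructor <;> (rintro rfl; omega)
    have hfil : ∀ m' : ℕ, Nat.card X = 3 ^ 2 * m' → ¬ 3 ∣ m' → m' ≠ 0 → Nat.card (Sylow 3 X) ∈
        (Nat.divisors m').filter (fun n => n % 3 = 1 % 3) := fun m' h1 h2 h3 =>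
      card_sylow_mem_filter (G := X) (p := 3) (a := 2) (m := m') h1 h2 h3
    have hm3 : ¬ 3 ∣ m := by
      intro h3
      rcases (show m = 3 ∨ m = 6 by omega) with rfl | rfl <;> simp at hmne
    have h10 := hfil m (by rw [hm]; norm_num) hm3 hm0
    interval_cases m
    · exact absurd rfl hm0
    · exfalso
      have h7 : (Nat.divisors 1).filter (fun n => n % 3 = 1 % 3) = {1} := by decide +kernel
      rw [h7, Finset.mem_singleton] at h10
      exact hn1 h10
    · exfalso
      have h7 : (Nat.divisors 2).filter (fun n => n % 3 = 1 % 3) = {1} := by decide +kernel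
      rw [h7, Finset.mem_singleton] at h10
      exact hn1 h10
    · simp at hmne
    · omega
    · exfalso
      have h7 : (Nat.divisors 5).filter (fun n => n % 3 = 1 % 3) = {1} := by decide +kernel
      rw [h7, Finset.mem_singleton] at h10
      exact hn1 h10
    · simp at hmne
  obtain ⟨K, hKn, hKc⟩ := exists_normal_four hXc hn1
  set K' : Subgroup G := K.map X.subtype with hK'
  have hK'c : Nat.card K' = 4 := by
    rw [hK', Subgroup.card_map_of_injective X.subtype_injective, hKc]
  have hK'p : IsPGroup 2 K' := by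
    rw [IsPGroup.iff_card]
    exact ⟨2, by rw [hK'c]; norm_num⟩
  obtain ⟨S, hS'⟩ := hK'p.exists_le_sylow
  have hSc : Nat.card (S : Subgroup G) = 8 := by
    have := sylow_card_of_card_eq (G := G) (p := 2) (a := 3) (m := 45) (by rw [hG]; norm_num) (by norm_num) S
    simpa using this
  have hXN : X ≤ normalizer (K' : Set G) := by
    haveI : (K'.subgroupOf X).Normal := by
      have : K'.subgroupOf X = K := Subgroup.comap_map_eq_self_of_injective X.subtype_injective K
      rw [this]
      exact hKn
    have hK'X : K' ≤ X := by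
      rintro _ ⟨y, -, rfl⟩
      exact y.2
    exact Subgroup.le_normalizer_of_normal_subgroupOf hK'X
  have hSN : (S : Subgroup G) ≤ normalizer (K' : Set G) := by
    haveI : (K'.subgroupOf (S : Subgroup G)).Normal := by
      apply Subgroup.normal_of_index_eq_two
      have h1 := Subgroup.card_mul_index (K'.subgroupOf (S : Subgroup G))
      have h2 : Nat.card (K'.subgroupOf (S : Subgroup G)) = 4 := by
        rw [← hK'c]
        exact Nat.card_congr (Subgroup.subgroupOfEquivOfLe hS').toEquiv
      rw [h2, hSc] at h1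
      omega
    exact Subgroup.le_normalizer_of_normal_subgroupOf hS'
  have hNtop : normalizer (K' : Set G) ≠ ⊤ := by
    intro htop
    have hnorm : K'.Normal := Subgroup.normalizer_eq_top_iff.1 htop
    rcases hnorm.eq_bot_or_eq_top with hb | ht
    · rw [hb, Subgroup.card_bot] at hK'c
      omega
    · rw [ht, Subgroup.card_top, hG] at hK'c
      omega
  have hNle := card_le_60 hG _ hNtop
  have h8 : 8 ∣ Nat.card (normalizer (K' : Set G)) := by
    rw [← hSc]; exact Subgroup.card_dvd_of_le hSN
  have h36 : 36 ∣ Nat.card (normalizer (K' : Set G)) := by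
    rw [← hXc]; exact Subgroup.card_dvd_of_le hXN
  have hpos : 0 < Nat.card (normalizer (K' : Set G)) := Nat.card_pos
  have h72 : 72 ∣ Nat.card (normalizer (K' : Set G)) := by
    have := Nat.lcm_dvd h8 h36
    have e : Nat.lcm 8 36 = 72 := by norm_num
    rwa [e] at this
  have := Nat.le_of_dvd hpos h72
  omega

theorem stab_trivial (P Q : Sylow 3 G) (hne : P ≠ Q) {x : G} (hx : x ∈ (P : Subgroup G)) (hQ : x • Q = Q) :
    x = 1 := by
  haveI : Fact (Nat.Prime 3) := ⟨by norm_num⟩
  have h1 : x ∈ normalizer ((Q : Subgroup G) : Set G) := Sylow.smul_eq_iff_mem_normalizer.1 hQ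
  have h2 : x ∈ (P : Subgroup G) ⊓ normalizer ((Q : Subgroup G) : Set G) := ⟨hx, h1⟩
  have h3 := IsPGroup.inf_normalizer_sylow P.isPGroup' Q
  have h4 : x ∈ (P : Subgroup G) ⊓ (Q : Subgroup G) := by
    rw [← h3]; exact h2
  exact ti hG P Q hne h4.1 h4.2

theorem smul_self_of_mem (P : Sylow 3 G) {x : G} (hx : x ∈ (P : Subgroup G)) : x • P = P := by
  haveI : Fact (Nat.Prime 3) := ⟨by norm_num⟩
  exact Sylow.smul_eq_iff_mem_normalizer.2 (Subgroup.le_normalizer hx)

theorem card_ne (P : Sylow 3 G) : Nat.card {R : Sylow 3 G // R ≠ P} = 9 := by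
  classical
  haveI : Fintype (Sylow 3 G) := Fintype.ofFinite _
  have h := card_sylow3 hG
  rw [Nat.card_eq_fintype_card] at h
  rw [Nat.card_eq_fintype_card, Fintype.card_subtype_compl, Fintype.card_subtype_eq, h]

theorem exists_move (P Q R : Sylow 3 G) (hQ : Q ≠ P) (hR : R ≠ P) : ∃ x ∈ (P : Subgroup G), x • Q = R := by
  haveI : Fact (Nat.Prime 3) := ⟨by norm_num⟩
  let f : ↥(P : Subgroup G) → {R : Sylow 3 G // R ≠ P} := fun x => ⟨x.1 • Q, by
    intro h
    apply hQ
    have h1 := congrArg (fun S : Sylow 3 G => x.1⁻¹ • S) h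
    simp only [inv_smul_smul] at h1
    rw [h1]
    exact smul_self_of_mem hG P (P.1.inv_mem x.2)⟩
  have hf : Function.Injective f := by
    intro x y hxy
    have h1 : x.1 • Q = y.1 • Q := congrArg Subtype.val hxy
    have h2 : (y.1⁻¹ * x.1) • Q = Q := by
      rw [mul_smul, h1, inv_smul_smul]
    have h3 := stab_trivial hG P Q hQ.symm (P.1.mul_mem (P.1.inv_mem y.2) x.2) h2
    apply Subtype.ext
    exact (inv_mul_eq_one.1 h3).symm
  have hb := hf.bijective_of_nat_card_le (by rw [card_ne hG, card_P hG])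
  obtain ⟨x, hx⟩ := hb.2 ⟨R, hR⟩
  exact ⟨x.1, x.2, congrArg Subtype.val hx⟩

theorem two_trans {a b c d : Sylow 3 G} (hab : a ≠ b) (hcd : c ≠ d) : ∃ g : G, g • a = c ∧ g • b = d := by
  haveI : Fact (Nat.Prime 3) := ⟨by norm_num⟩
  obtain ⟨g₁, h1⟩ := MulAction.exists_smul_eq G a c
  have h2 : g₁ • b ≠ c := by
    intro h
    apply hab
    apply MulAction.injective g₁
    show g₁ • a = g₁ • b
    rw [h1, h]
  obtain ⟨x, hx, h3⟩ := exists_move hG c (g₁ • b) d h2 hcd.symm
  refine ⟨x * g₁, ?_, ?_⟩
  · rw [mul_smul, h1]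
    exact smul_self_of_mem hG c hx
  · rw [mul_smul, h3]

theorem faithful : FaithfulSMul G (Sylow 3 G) := by
  haveI : Fact (Nat.Prime 3) := ⟨by norm_num⟩
  have hk : (MulAction.toPermHom G (Sylow 3 G)).ker = ⊥ := by
    rcases (inferInstance : (MulAction.toPermHom G (Sylow 3 G)).ker.Normal).eq_bot_or_eq_top with hb | ht
    · exact hb
    · exfalso
      obtain ⟨P⟩ := (inferInstance : Nonempty (Sylow 3 G))
      apply normalizer_sylow_ne_top (not_comm (G := G) hG) (by rw [hG]; norm_num : 3 ∣ Nat.card G) P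
      rw [eq_top_iff]
      intro g _
      have h1 : g ∈ (MulAction.toPermHom G (Sylow 3 G)).ker := by rw [ht]; trivial
      have h2 : (MulAction.toPermHom G (Sylow 3 G)) g = 1 := h1
      have h3 : g • P = P := by
        have := congrArg (fun f : Equiv.Perm (Sylow 3 G) => f P) h2
        simpa using this
      exact Sylow.smul_eq_iff_mem_normalizer.1 h3
  refine ⟨fun {g h} H => ?_⟩
  have h1 : (MulAction.toPermHom G (Sylow 3 G)) g = (MulAction.toPermHom G (Sylow 3 G)) h := by
    exact Equiv.ext fun P => by simpa using H P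
  exact (MonoidHom.ker_eq_bot_iff _).1 hk h1

theorem card_stab {a b : Sylow 3 G} (hab : a ≠ b) :
    Nat.card ↥(MulAction.stabilizer G a ⊓ MulAction.stabilizer G b) = 4 := by
  haveI : Fact (Nat.Prime 3) := ⟨by norm_num⟩
  set D : Subgroup G := MulAction.stabilizer G a ⊓ MulAction.stabilizer G b with hD
  set A : Subgroup G := normalizer ((a : Subgroup G) : Set G) with hA
  have hAc : Nat.card A = 36 := card_N hG a
  let φ : Prod ↥(a : Subgroup G) ↥D → A := fun p => ⟨p.1.1 * p.2.1, by
    apply Subgroup.mul_mem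
    · exact Subgroup.le_normalizer p.1.2
    · exact Sylow.smul_eq_iff_mem_normalizer.1 p.2.2.1⟩
  have hφ : Function.Bijective φ := by
    constructor
    · rintro ⟨x, c⟩ ⟨x', c'⟩ h
      have h1 : x.1 * c.1 = x'.1 * c'.1 := congrArg Subtype.val h
      have h2 : x'.1⁻¹ * x.1 = c'.1 * c.1⁻¹ := by
        calc x'.1⁻¹ * x.1 = x'.1⁻¹ * (x.1 * c.1) * c.1⁻¹ := by group
          _ = x'.1⁻¹ * (x'.1 * c'.1) * c.1⁻¹ := by rw [h1]
          _ = c'.1 * c.1⁻¹ := by group
      have h3 : (x'.1⁻¹ * x.1) • b = b := by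
        rw [h2, mul_smul]
        have e1 : c.1⁻¹ • b = b := by
          have : c.1⁻¹ ∈ MulAction.stabilizer G b := Subgroup.inv_mem _ c.2.2
          exact this
        rw [e1]
        exact c'.2.2
      have h4 := stab_trivial hG a b hab (a.1.mul_mem (a.1.inv_mem x'.2) x.2) h3
      have h5 : x'.1 = x.1 := (inv_mul_eq_one.1 h4)
      have h6 : c'.1 = c.1 := by
        rw [h5] at h1
        exact (mul_left_cancel h1).symm
      have e1 : x = x' := Subtype.ext h5.symm
      have e2 : c = c' := Subtype.ext h6.symm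
      rw [e1, e2]
    · rintro ⟨y, hy⟩
      have hy' : y • a = a := Sylow.smul_eq_iff_mem_normalizer.2 hy
      have h1 : y • b ≠ a := by
        intro h
        apply hab
        apply MulAction.injective y
        show y • a = y • b
        rw [hy', h]
      obtain ⟨x, hx, h2⟩ := exists_move hG a b (y • b) hab.symm h1
      refine ⟨⟨⟨x, hx⟩, ⟨x⁻¹ * y, ?_, ?_⟩⟩, ?_⟩
      · show (x⁻¹ * y) • a = a
        rw [mul_smul, hy']
        exact smul_self_of_mem hG a (a.1.inv_mem hx)
      · show (x⁻¹ * y) • b = b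
        rw [mul_smul, ← h2, inv_smul_smul]
      · apply Subtype.ext
        show x * (x⁻¹ * y) = y
        group
  have h1 := Nat.card_congr (Equiv.ofBijective φ hφ)
  rw [Nat.card_prod, card_P hG, hAc] at h1
  omega

/-- A permutation of order at most two moving six points is odd. -/
theorem sign_neg {α : Type*} [Fintype α] [DecidableEq α] (f : Equiv.Perm α) (h2 : f ^ 2 = 1)
    (h6 : f.support.card = 6) : Equiv.Perm.sign f = -1 := by
  have hall : ∀ n ∈ f.cycleType, n = 2 := by
    intro n hn
    have h1 := Equiv.Perm.dvd_of_mem_cycleType hn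
    have h3 : orderOf f ∣ 2 := orderOf_dvd_of_pow_eq_one h2
    have h4 := Equiv.Perm.two_le_of_mem_cycleType hn
    have h5 := Nat.le_of_dvd (by norm_num) (h1.trans h3)
    omega
  have hsum : f.cycleType.sum = 6 := by rw [Equiv.Perm.sum_cycleType, h6]
  have hrep := Multiset.eq_replicate_card.2 hall
  have hcard : Multiset.card f.cycleType = 3 := by
    rw [hrep, Multiset.sum_replicate] at hsum
    simp only [Multiset.card_replicate, smul_eq_mul] at hsum ⊢
    omega
  rw [Equiv.Perm.sign_of_cycleType, hsum, hcard]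
  rfl

/-- No involution fixes three points. -/
theorem no_inv_fix3 {t : G} (ht : t ^ 2 = 1) (ht1 : t ≠ 1) {a b c : Sylow 3 G} (hab : a ≠ b) (hbc : b ≠ c)
    (hac : a ≠ c) (hta : t • a = a) (htb : t • b = b) (htc : t • c = c) : False := by
  classical
  haveI : Fact (Nat.Prime 3) := ⟨by norm_num⟩
  haveI : Fintype (Sylow 3 G) := Fintype.ofFinite _
  haveI := faithful (G := G) hG
  set D : Subgroup G := (a : Subgroup G) ⊓ centralizer ({t} : Set G) with hD
  have hconj : ∀ x ∈ (a : Subgroup G), t * x * t⁻¹ ∈ (a : Subgroup G) := by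
    intro x hx
    have h1 : t ∈ normalizer ((a : Subgroup G) : Set G) := Sylow.smul_eq_iff_mem_normalizer.1 hta
    exact (Subgroup.mem_normalizer_iff.1 h1 x).1 hx
  have hfix : ∀ x ∈ (a : Subgroup G), t • (x • b) = (t * x * t⁻¹) • b := by
    intro x hx
    have : t * x * t⁻¹ = t * x * t⁻¹ := rfl
    calc t • (x • b) = (t * x) • b := (mul_smul _ _ _).symm
      _ = (t * x * t⁻¹) • (t • b) := by rw [← mul_smul]; group
      _ = (t * x * t⁻¹) • b := by rw [htb]
  have hinj : ∀ x ∈ (a : Subgroup G), ∀ y ∈ (a : Subgroup G), x • b = y • b → x = y := by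
    intro x hx y hy h
    have h2 : (y⁻¹ * x) • b = b := by rw [mul_smul, h, inv_smul_smul]
    have h3 := stab_trivial hG a b hab (a.1.mul_mem (a.1.inv_mem hy) hx) h2
    exact (inv_mul_eq_one.1 h3).symm
  -- the fixed points
  have hcardF : Nat.card {R : Sylow 3 G // R ≠ a ∧ t • R = R} = Nat.card D := by
    symm
    refine Nat.card_congr (Equiv.ofBijective (fun x : D => ⟨x.1 • b, ?_, ?_⟩) ⟨?_, ?_⟩)
    · intro h
      have h1 : x.1 • b = a := h
      apply hab
      have h2 := congrArg (fun S : Sylow 3 G => x.1⁻¹ • S) h1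
      simp only [inv_smul_smul] at h2
      rw [h2]
      exact (smul_self_of_mem hG a (a.1.inv_mem x.2.1)).symm
    · rw [hfix _ x.2.1]
      have h1 : x.1 * t = t * x.1 := mem_centralizer_singleton_iff.1 x.2.2
      have h2 : t * x.1 * t⁻¹ = x.1 := by rw [← h1]; group
      rw [h2]
    · intro x y h
      have h1 : x.1 • b = y.1 • b := congrArg Subtype.val h
      exact Subtype.ext (hinj _ x.2.1 _ y.2.1 h1)
    · rintro ⟨R, hR, hRt⟩
      obtain ⟨x, hx, hxR⟩ := exists_move hG a b R hab.symm hR
      have h1 : (t * x * t⁻¹) • b = x • b := by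
        rw [← hfix x hx, hxR, hRt]
      have h2 := hinj _ (hconj x hx) _ hx h1
      refine ⟨⟨x, hx, mem_centralizer_singleton_iff.2 ?_⟩, Subtype.ext hxR⟩
      calc x * t = (t * x * t⁻¹) * t := by rw [h2]
        _ = t * x := by group
  have hDd : Nat.card D ∣ 9 := by
    rw [← card_P hG a]
    exact Subgroup.card_dvd_of_le inf_le_left
  -- `D` is nontrivial
  have hD1 : Nat.card D ≠ 1 := by
    rw [← hcardF]
    intro h1
    have hs := (Nat.card_eq_one_iff_unique.1 h1).1
    have e : (⟨b, hab.symm, htb⟩ : {R : Sylow 3 G // R ≠ a ∧ t • R = R}) = ⟨c, hac.symm, htc⟩ := Subsingleton.elim _ _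
    exact hbc (congrArg Subtype.val e)
  have hfilter : (Finset.univ.filter (fun R : Sylow 3 G => t • R = R)).card = Nat.card D + 1 := by
    have h1 : Finset.univ.filter (fun R : Sylow 3 G => t • R = R) =
        insert a (Finset.univ.filter (fun R : Sylow 3 G => R ≠ a ∧ t • R = R)) := by
      ext R
      simp only [Finset.mem_filter, Finset.mem_univ, true_and, Finset.mem_insert]
      constructor
      · intro h
        by_cases hRa : R = a
        · exact Or.inl hRa
        · exact Or.inr ⟨hRa, h⟩
      · rintro (rfl | h)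
        · exact hta
        · exact h.2
    rw [h1, Finset.card_insert_of_notMem (by simp), ← hcardF, Nat.card_eq_fintype_card,
      Fintype.card_subtype]
  have hcard10 : Fintype.card (Sylow 3 G) = 10 := by
    rw [← Nat.card_eq_fintype_card]; exact card_sylow3 hG
  let f : Equiv.Perm (Sylow 3 G) := MulAction.toPerm t
  have hsupp : f.support.card + (Nat.card D + 1) = 10 := by
    rw [← hfilter, ← hcard10, ← Finset.card_univ]
    have h1 : f.support = Finset.univ.filter (fun R : Sylow 3 G => ¬ t • R = R) := by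
      ext R
      simp [f, Equiv.Perm.mem_support]
    rw [h1, add_comm]
    exact Finset.card_filter_add_card_filter_not _
  have hD3 : Nat.card D = 3 := by
    have h6 : Nat.card D ∈ Nat.divisors 9 := Nat.mem_divisors.2 ⟨hDd, by norm_num⟩
    have h7 : Nat.divisors 9 = {1, 3, 9} := by decide +kernel
    rw [h7] at h6
    simp only [Finset.mem_insert, Finset.mem_singleton] at h6
    rcases h6 with h | h | h
    · exact absurd h hD1
    · exact h
    · exfalso
      have h0 : f.support.card = 0 := by omega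
      have h1 : f = 1 := Equiv.Perm.support_eq_empty_iff.1 (Finset.card_eq_zero.1 h0)
      apply ht1
      apply FaithfulSMul.eq_of_smul_eq_smul (α := Sylow 3 G)
      intro R
      have := congrArg (fun p : Equiv.Perm (Sylow 3 G) => p R) h1
      simpa [f] using this
  have hs6 : f.support.card = 6 := by omega
  have hf2 : f ^ 2 = 1 := by
    show (MulAction.toPermHom G (Sylow 3 G) t) ^ 2 = 1
    rw [← map_pow, ht, map_one]
  have hsign := sign_neg hG f hf2 hs6
  -- the sign homomorphism is trivial
  let ψ : G →* ℤˣ := Equiv.Perm.sign.comp (MulAction.toPermHom G (Sylow 3 G))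
  have hψt : ψ t = -1 := hsign
  rcases (inferInstance : ψ.ker.Normal).eq_bot_or_eq_top with hb | ht'
  · have hinjψ := (MonoidHom.ker_eq_bot_iff _).1 hb
    have := Nat.card_le_card_of_injective ψ hinjψ
    rw [hG] at this
    have h2 : Nat.card ℤˣ = 2 := by
      rw [Nat.card_eq_fintype_card, Fintype.card_units_int]
    omega
  · have h1 : t ∈ ψ.ker := by rw [ht']; trivial
    have h2 : ψ t = 1 := h1
    rw [hψt] at h2
    exact absurd h2 (by decide)

theorem stab_power {g : G} {a b : Sylow 3 G} (hab : a ≠ b) (hg : g ∈ MulAction.stabilizer G a ⊓ MulAction.stabilizer G b)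
    (hg1 : g ≠ 1) : ∃ t : G, t ^ 2 = 1 ∧ t ≠ 1 ∧ ∃ k : ℕ, t = g ^ k := by
  have h4 : g ^ 4 = 1 := by
    have h1 := orderOf_dvd_natCard (⟨g, hg⟩ : ↥(MulAction.stabilizer G a ⊓ MulAction.stabilizer G b))
    rw [card_stab hG hab, Subgroup.orderOf_mk] at h1
    exact orderOf_dvd_iff_pow_eq_one.1 h1
  by_cases h2 : g ^ 2 = 1
  · exact ⟨g, h2, hg1, 1, (pow_one g).symm⟩
  · refine ⟨g ^ 2, ?_, h2, 2, rfl⟩
    rw [← pow_mul]
    exact h4

theorem isZassenhaus : Cfsg.IsZassenhausGroup G (Sylow 3 G) := by
  haveI : Fact (Nat.Prime 3) := ⟨by norm_num⟩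
  refine ⟨faithful hG, MulAction.is_two_pretransitive_iff.2 (fun hab hcd => two_trans hG hab hcd), ?_, ?_, ?_⟩
  · intro g a b c hab hbc hac hga hgb hgc
    by_contra hg1
    obtain ⟨t, ht, ht1, k, rfl⟩ := stab_power hG hab
      (show g ∈ MulAction.stabilizer G a ⊓ MulAction.stabilizer G b from ⟨hga, hgb⟩) hg1
    have hpow : ∀ R : Sylow 3 G, g • R = R → (g ^ k) • R = R := by
      intro R hR
      have : g ∈ MulAction.stabilizer G R := hR
      exact Subgroup.pow_mem _ this k
    exact no_inv_fix3 hG ht ht1 hab hbc hac (hpow _ hga) (hpow _ hgb) (hpow _ hgc)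
  · obtain ⟨a⟩ := (inferInstance : Nonempty (Sylow 3 G))
    have h9 : 1 < Nat.card (Sylow 3 G) := by rw [card_sylow3 hG]; norm_num
    haveI := Finite.one_lt_card_iff_nontrivial.1 h9
    obtain ⟨b, hb⟩ := exists_ne a
    have h4 := card_stab hG hb.symm
    have h1 : (1 : ℕ) < Nat.card ↥(MulAction.stabilizer G a ⊓ MulAction.stabilizer G b) := by
      rw [h4]; norm_num
    haveI := Finite.one_lt_card_iff_nontrivial.1 h1
    obtain ⟨⟨g, hg⟩, hne⟩ := exists_ne (1 : ↥(MulAction.stabilizer G a ⊓ MulAction.stabilizer G b))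
    exact ⟨g, fun h => hne (Subtype.ext h), a, b, hb.symm, hg.1, hg.2⟩
  · intro N hN htr
    obtain ⟨a⟩ := (inferInstance : Nonempty (Sylow 3 G))
    refine ⟨a, ?_⟩
    have hNtop : N = ⊤ := by
      rcases hN.eq_bot_or_eq_top with hb | ht
      · exfalso
        subst hb
        have h9 : 1 < Nat.card (Sylow 3 G) := by rw [card_sylow3 hG]; norm_num
        haveI := Finite.one_lt_card_iff_nontrivial.1 h9
        obtain ⟨b, hb⟩ := exists_ne a
        obtain ⟨⟨g, hg⟩, hgb⟩ := htr.exists_smul_eq a b
        rw [Subgroup.mem_bot] at hg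
        subst hg
        apply hb
        simpa using hgb.symm
      · exact ht
    subst hNtop
    have h1 : (1 : ℕ) < Nat.card (a : Subgroup G) := by rw [card_P hG]; norm_num
    haveI := Finite.one_lt_card_iff_nontrivial.1 h1
    obtain ⟨⟨x, hx⟩, hne⟩ := exists_ne (1 : (a : Subgroup G))
    intro hbot
    have h2 : (⟨x, trivial⟩ : (⊤ : Subgroup G)) ∈ MulAction.stabilizer (⊤ : Subgroup G) a :=
      smul_self_of_mem hG a hx
    rw [hbot, Subgroup.mem_bot] at h2
    apply hne
    apply Subtype.ext
    exact congrArg (fun z : (⊤ : Subgroup G) => (z : G)) h2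

/-- **A simple group of order 360 is `A₆`.** -/
theorem iso_A6 : Nonempty (G ≃* alternatingGroup (Fin 6)) := by
  haveI : Fact (Nat.Prime 3) := ⟨by norm_num⟩
  obtain ⟨a⟩ := (inferInstance : Nonempty (Sylow 3 G))
  have h9 : 1 < Nat.card (Sylow 3 G) := by rw [card_sylow3 hG]; norm_num
  haveI := Finite.one_lt_card_iff_nontrivial.1 h9
  obtain ⟨b, hb⟩ := exists_ne a
  have h4 := card_stab hG hb.symm
  obtain ⟨F, _, _, h3F, ⟨e⟩⟩ := Cfsg.Agent.S0344.result (isZassenhaus hG) hb.symm (by
    rw [h4]; decide)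
  have hcard : Nat.card (Matrix.ProjectiveSpecialLinearGroup (Fin 2) F) = 360 := by
    rw [← Nat.card_congr e.toEquiv, hG]
  have h1 := Cfsg.Agent.Lib.ClassicalSmall.card_PSL2 (F := F)
  rw [hcard] at h1
  have hq : Fintype.card F = 9 := by
    generalize Fintype.card F = q at h1 h3F
    have hq2 : q ≤ 9 := by
      by_contra hcon
      have hge : 10 ≤ q := by omega
      have hg : Nat.gcd 2 (q - 1) ≤ 2 := Nat.le_of_dvd (by norm_num) (Nat.gcd_dvd_left _ _)
      have h5 : (q + 1) * q * (q - 1) ≥ 11 * 10 * 9 := by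
        apply Nat.mul_le_mul (Nat.mul_le_mul (by omega) hge) (by omega)
      have h6 : Nat.gcd 2 (q - 1) * 360 ≤ 2 * 360 := Nat.mul_le_mul_right _ hg
      omega
    interval_cases q <;> simp_all <;> omega
  obtain ⟨e2⟩ := Cfsg.Agent.S0254.result hq
  exact ⟨e.trans e2⟩

end main

end Cfsg.Agent.Lib.Order360
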