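import Mathlib
import Cfsg.Agent.Lib.A7Ord5
import Cfsg.Agent.Lib.Order360

/-!
# Simple groups of order 2520: the prime three
-/

set_option autoImplicit false
set_option linter.style.haveILetI false
set_option linter.unusedSectionVars false
set_option linter.unusedVariables false

namespace Cfsg.Agent.Lib.A7Ord

open Subgroup Cfsg.Agent.Lib.SmallGroups2 Cfsg.Agent.Lib.SmallGroups3 Cfsg.Agent.Lib.J1Ord
open Cfsg.Agent.Lib.TwoLocal Cfsg.Agent.Lib.TwoLocal2 Cfsg.Agent.Lib.TwoLocal3

variable {G : Type*} [Group G] [Finite G]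

/-- Sylow's theorem in a subgroup, as a statement about subgroups of `G`. -/
theorem count_sylow {p a m : ℕ} [Fact p.Prime] (X P : Subgroup G) (hPX : P ≤ X)
    (hP : Nat.card P = p ^ a) (hX : Nat.card X = p ^ a * m) (hm : ¬ p ∣ m) :
    ∃ n, n % p = 1 % p ∧ Nat.card X = n * Nat.card ↥(X ⊓ normalizer (P : Set G)) := by
  classical
  set Q : Subgroup X := P.subgroupOf X with hQ
  have hQc : Nat.card Q = p ^ a := by
    rw [hQ, Nat.card_congr (Subgroup.subgroupOfEquivOfLe hPX).toEquiv, hP]
  have hpg : IsPGroup p Q := IsPGroup.of_card hQc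
  obtain ⟨R, hR⟩ := hpg.exists_le_sylow
  have hRc : Nat.card (R : Subgroup X) = p ^ a := sylow_card_of_card_eq hX hm R
  have hQR : Q = R := Subgroup.eq_of_le_of_card_ge hR (by rw [hRc, hQc])
  have h1 := card_normalizer_mul_card_sylow R
  refine ⟨Nat.card (Sylow p X), card_sylow_modEq_one p X, ?_⟩
  rw [← h1, mul_comm]
  congr 1
  apply Nat.card_congr
  rw [← hQR]
  refine ⟨fun x => ⟨x.1.1, x.1.2, ?_⟩, fun x => ⟨⟨x.1, (Subgroup.mem_inf.1 x.2).1⟩, ?_⟩, ?_, ?_⟩
  · apply mem_normalizer_of_conj_le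
    intro y hy
    have hy' : (⟨y, hPX hy⟩ : X) ∈ Q := by
      rw [hQ, Subgroup.mem_subgroupOf]
      exact hy
    have h2 := (Subgroup.mem_normalizer_iff.1 x.2 _).1 hy'
    exact Subgroup.mem_subgroupOf.1 h2
  · rw [Subgroup.mem_normalizer_iff]
    intro h
    rw [hQ, Subgroup.mem_subgroupOf, Subgroup.mem_subgroupOf]
    exact Subgroup.mem_normalizer_iff.1 (Subgroup.mem_inf.1 x.2).2 h.1
  · intro x; rfl
  · intro x; rfl

theorem eq_one_of_coprime_pows {x : G} {a b : ℕ} (ha : x ^ a = 1) (hb : x ^ b = 1)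
    (hab : Nat.Coprime a b) : x = 1 := by
  have := pow_gcd_eq_one.2 ⟨ha, hb⟩
  rw [hab] at this
  simpa using this

theorem hQ3 (hc : Nat.card G = 2520) [Fact (Nat.Prime 3)] (Q : Sylow 3 G) :
    Nat.card (Q : Subgroup G) = 9 := by
  have := sylow_card_of_card_eq (G := G) (p := 3) (a := 2) (m := 280) (by rw [hc]; norm_num)
    (by norm_num) Q
  simpa using this

theorem Qcomm (hc : Nat.card G = 2520) [Fact (Nat.Prime 3)] (Q : Sylow 3 G) {x y : G}
    (hx : x ∈ (Q : Subgroup G)) (hy : y ∈ (Q : Subgroup G)) : x * y = y * x :=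
  Cfsg.Agent.Lib.Order360.comm_of_card9 _ (hQ3 hc Q) hx hy

theorem Q_pow_nine (hc : Nat.card G = 2520) [Fact (Nat.Prime 3)] (Q : Sylow 3 G) {x : G}
    (hx : x ∈ (Q : Subgroup G)) : x ^ 9 = 1 := by
  have := pow_card_eq_one' (x := (⟨x, hx⟩ : (Q : Subgroup G)))
  rw [hQ3 hc Q] at this
  have h2 := congrArg (fun z : (Q : Subgroup G) => (z : G)) this
  simpa using h2

theorem Q_le_cent (hc : Nat.card G = 2520) [Fact (Nat.Prime 3)] (Q : Sylow 3 G) :
    (Q : Subgroup G) ≤ centralizer ((Q : Subgroup G) : Set G) := by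
  intro x hx
  rw [Subgroup.mem_centralizer_iff]
  intro y hy
  exact Qcomm hc Q hy hx

theorem exists_fixed_of_mem_normalizer (hc : Nat.card G = 2520) [Fact (Nat.Prime 3)]
    (Q : Sylow 3 G) {a : G} (ha : a ∈ normalizer ((Q : Subgroup G) : Set G)) {q : ℕ}
    [Fact q.Prime] (hq : ¬ 9 ≡ 1 [MOD q]) (hao : a ^ q = 1) :
    ∃ x ∈ (Q : Subgroup G), x ≠ 1 ∧ a * x * a⁻¹ = x := by
  classical
  by_contra hno
  push Not at hno
  have hmem : ∀ k : ℕ, ∀ x ∈ (Q : Subgroup G), a ^ k * x * (a ^ k)⁻¹ ∈ (Q : Subgroup G) := by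
    intro k x hx
    exact (Subgroup.mem_normalizer_iff.1 ((normalizer ((Q : Subgroup G) : Set G)).pow_mem ha k) x).1 hx
  let f : Function.End ↥(Q : Subgroup G) := fun x => ⟨a * x.1 * a⁻¹, (Subgroup.mem_normalizer_iff.1 ha x.1).1 x.2⟩
  have hfk : ∀ (k : ℕ) (x : ↥(Q : Subgroup G)), ((f ^ k) x).1 = a ^ k * x.1 * (a ^ k)⁻¹ := by
    intro k
    induction k with
    | zero =>
      intro x
      simp only [pow_zero, one_mul, inv_one, mul_one]
      rfl
    | succ k ih =>
      intro x
      have h0 : (f ^ (k + 1)) x = f ((f ^ k) x) := by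
        rw [pow_succ']
        rfl
      rw [h0]
      show a * ((f ^ k) x).1 * a⁻¹ = _
      rw [ih, pow_succ']
      group
  have hf : f ^ q ^ 1 = 1 := by
    funext x
    apply Subtype.ext
    rw [pow_one, hfk, hao]
    simp only [one_mul, inv_one, mul_one]
    rfl
  haveI : Fintype ↥(Q : Subgroup G) := Fintype.ofFinite _
  have hm := Equiv.Perm.card_fixedPoints_modEq hf
  have h9 : Fintype.card ↥(Q : Subgroup G) = 9 := by
    rw [← Nat.card_eq_fintype_card, hQ3 hc Q]
  have h1 : Fintype.card ↑(Function.fixedPoints f) = 1 := by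
    rw [Fintype.card_eq_one_iff]
    refine ⟨⟨1, ?_⟩, ?_⟩
    · apply Subtype.ext
      show a * ((1 : ↥(Q : Subgroup G)) : G) * a⁻¹ = ((1 : ↥(Q : Subgroup G)) : G)
      simp
    · rintro ⟨x, hx⟩
      apply Subtype.ext
      apply Subtype.ext
      by_contra hne
      exact hno x.1 x.2 hne (congrArg Subtype.val hx)
  rw [h9, h1] at hm
  exact hq hm

theorem not_dvd_of_normalizer (hc : Nat.card G = 2520) [IsSimpleGroup G] [Fact (Nat.Prime 3)]
    (Q : Sylow 3 G) : ¬ 5 ∣ Nat.card (normalizer ((Q : Subgroup G) : Set G)) ∧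
      ¬ 7 ∣ Nat.card (normalizer ((Q : Subgroup G) : Set G)) := by
  haveI h5 : Fact (Nat.Prime 5) := ⟨by norm_num⟩
  haveI h7 : Fact (Nat.Prime 7) := ⟨by norm_num⟩
  have key : ∀ x ∈ (Q : Subgroup G), x ≠ 1 → ∃ b : G, orderOf b = 3 ∧ ∀ a : G, a * x * a⁻¹ = x → Commute a b := by
    intro x hx hx1
    have h9 : orderOf x ∣ 9 := orderOf_dvd_of_pow_eq_one (Q_pow_nine hc Q hx)
    have hne : orderOf x ≠ 1 := fun h => hx1 (orderOf_eq_one_iff.1 h)
    have hm : orderOf x ∈ Nat.divisors 9 := Nat.mem_divisors.2 ⟨h9, by norm_num⟩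
    have hdiv : Nat.divisors 9 = {1, 3, 9} := by decide +kernel
    rw [hdiv] at hm
    simp only [Finset.mem_insert, Finset.mem_singleton] at hm
    have h3 : 3 ∣ orderOf x := by
      rcases hm with h | h | h
      · exact absurd h hne
      · rw [h]
      · rw [h]; norm_num
    refine ⟨x ^ (orderOf x / 3), orderOf_pow_orderOf_div (orderOf_pos x).ne' h3, ?_⟩
    intro a ha
    have hcomm : Commute a x := by
      show a * x = x * a
      calc a * x = (a * x * a⁻¹) * a := by group
        _ = x * a := by rw [ha]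
    exact hcomm.pow_right _
  constructor
  · intro h
    obtain ⟨a, ha⟩ := exists_prime_orderOf_dvd_card' (G := normalizer ((Q : Subgroup G) : Set G)) 5 h
    have ha' : orderOf (a : G) = 5 := by rw [Subgroup.orderOf_coe]; exact ha
    obtain ⟨x, hx, hx1, hax⟩ := exists_fixed_of_mem_normalizer hc Q a.2 (q := 5)
      (by decide) (by rw [← ha']; exact pow_orderOf_eq_one _)
    obtain ⟨b, hb, hcomm⟩ := key x hx hx1
    exact comm5_false hc ha' (by rw [hb]; norm_num) (by rw [hb]; norm_num) (hcomm _ hax)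
  · intro h
    obtain ⟨a, ha⟩ := exists_prime_orderOf_dvd_card' (G := normalizer ((Q : Subgroup G) : Set G)) 7 h
    have ha' : orderOf (a : G) = 7 := by rw [Subgroup.orderOf_coe]; exact ha
    obtain ⟨x, hx, hx1, hax⟩ := exists_fixed_of_mem_normalizer hc Q a.2 (q := 7)
      (by decide) (by rw [← ha']; exact pow_orderOf_eq_one _)
    obtain ⟨b, hb, hcomm⟩ := key x hx hx1
    exact comm7_false hc ha' (by rw [hb]; norm_num) (by rw [hb]; norm_num) (hcomm _ hax)

theorem card_norm_three [IsSimpleGroup G] (hc : Nat.card G = 2520) [Fact (Nat.Prime 3)]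
    (Q : Sylow 3 G) : Nat.card (normalizer ((Q : Subgroup G) : Set G)) = 36 := by
  have hG := not_comm (G := G) hc
  have hpd : 3 ∣ Nat.card G := by rw [hc]; norm_num
  have hm := card_sylow_mem_filter (G := G) (p := 3) (a := 2) (m := 280)
    (by rw [hc]; norm_num) (by norm_num) (by norm_num)
  have hfil : (Nat.divisors 280).filter (fun n => n % 3 = 1 % 3) = {1, 4, 7, 10, 28, 40, 70, 280} := by
    decide +kernel
  rw [hfil] at hm
  simp only [Finset.mem_insert, Finset.mem_singleton] at hm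
  have h1 := card_normalizer_mul_card_sylow Q
  rw [hc] at h1
  obtain ⟨h5, h7⟩ := not_dvd_of_normalizer hc Q
  rcases hm with hn | hn | hn | hn | hn | hn | hn | hn
  · exact absurd hn (card_sylow_ne_one hG hpd)
  all_goals rw [hn] at h1
  · exact absurd (show 5 ∣ _ by rw [show Nat.card (normalizer ((Q : Subgroup G) : Set G)) = 630 by omega]; norm_num) h5
  · exact absurd (show 5 ∣ _ by rw [show Nat.card (normalizer ((Q : Subgroup G) : Set G)) = 360 by omega]; norm_num) h5
  · exact absurd (show 7 ∣ _ by rw [show Nat.card (normalizer ((Q : Subgroup G) : Set G)) = 252 by omega]; norm_num) h7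
  · exact absurd (show 5 ∣ _ by rw [show Nat.card (normalizer ((Q : Subgroup G) : Set G)) = 90 by omega]; norm_num) h5
  · exact absurd (show 7 ∣ _ by rw [show Nat.card (normalizer ((Q : Subgroup G) : Set G)) = 63 by omega]; norm_num) h7
  · omega
  · exfalso
    have h9 : Nat.card (normalizer ((Q : Subgroup G) : Set G)) = 9 := by omega
    have heq : (Q : Subgroup G) = normalizer ((Q : Subgroup G) : Set G) :=
      Subgroup.eq_of_le_of_card_ge Subgroup.le_normalizer (by rw [h9, hQ3 hc Q])
    apply not_normalizer_le_centralizer hG hpd Q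
    rw [← heq]
    exact Q_le_cent hc Q

theorem card_cent_three_dvd [IsSimpleGroup G] (hc : Nat.card G = 2520) [Fact (Nat.Prime 3)]
    (Q : Sylow 3 G) :
    Nat.card (centralizer ((Q : Subgroup G) : Set G)) = 9 ∨
      Nat.card (centralizer ((Q : Subgroup G) : Set G)) = 18 := by
  have hG := not_comm (G := G) hc
  have hpd : 3 ∣ Nat.card G := by rw [hc]; norm_num
  have hN := card_norm_three hc Q
  have hle : centralizer ((Q : Subgroup G) : Set G) ≤ normalizer ((Q : Subgroup G) : Set G) :=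
    Subgroup.centralizer_le_normalizer _
  have h1 := Subgroup.card_dvd_of_le hle
  have h2 := Subgroup.card_dvd_of_le (Q_le_cent hc Q)
  rw [hN] at h1
  rw [hQ3 hc Q] at h2
  obtain ⟨k, hk⟩ := h2
  rw [hk] at h1
  have hk4 : k ∣ 4 := Nat.dvd_of_mul_dvd_mul_left (by norm_num : 0 < 9) h1
  have hm : k ∈ Nat.divisors 4 := Nat.mem_divisors.2 ⟨hk4, by norm_num⟩
  have hdiv : Nat.divisors 4 = {1, 2, 4} := by decide +kernel
  rw [hdiv] at hm
  simp only [Finset.mem_insert, Finset.mem_singleton] at hm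
  rcases hm with h | h | h
  · left; rw [hk, h]
  · right; rw [hk, h]
  · exfalso
    apply not_normalizer_le_centralizer hG hpd Q
    have : centralizer ((Q : Subgroup G) : Set G) = normalizer ((Q : Subgroup G) : Set G) :=
      Subgroup.eq_of_le_of_card_ge hle (by rw [hN, hk, h])
    rw [this]

theorem card_cent_three [IsSimpleGroup G] (hc : Nat.card G = 2520) [Fact (Nat.Prime 3)]
    (Q : Sylow 3 G) : Nat.card (centralizer ((Q : Subgroup G) : Set G)) = 9 := by
  classical
  haveI : Fact (Nat.Prime 2) := ⟨Nat.prime_two⟩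
  rcases card_cent_three_dvd hc Q with h | h18
  · exact h
  exfalso
  set C := centralizer ((Q : Subgroup G) : Set G) with hC
  have hN := card_norm_three hc Q
  obtain ⟨u', hu'⟩ := exists_prime_orderOf_dvd_card' (G := C) 2 (by rw [h18]; norm_num)
  have hu2 : (u' : G) ^ 2 = 1 := by
    have := pow_orderOf_eq_one u'
    rw [hu'] at this
    exact_mod_cast this
  have hu1 : (u' : G) ≠ 1 := by
    intro h
    have h1 : u' = 1 := Subtype.ext h
    rw [h1, orderOf_one] at hu'
    omega
  have hQC := Q_le_cent hc Q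
  have hindex : ((Q : Subgroup G).subgroupOf C).index = 2 := by
    have h6 := Subgroup.card_mul_index ((Q : Subgroup G).subgroupOf C)
    rw [Nat.card_congr (Subgroup.subgroupOfEquivOfLe hQC).toEquiv, hQ3 hc Q, h18] at h6
    omega
  have hnotQ : ∀ v : C, (v : G) ^ 2 = 1 → (v : G) ≠ 1 → v ∉ (Q : Subgroup G).subgroupOf C := by
    intro v hv2 hv1 hv
    rw [Subgroup.mem_subgroupOf] at hv
    exact hv1 (eq_one_of_coprime_pows hv2 (Q_pow_nine hc Q hv) (by norm_num))
  have huniq : ∀ v : C, (v : G) ^ 2 = 1 → (v : G) ≠ 1 → (v : G) = u' := by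
    intro v hv2 hv1
    have hmul : u' * v ∈ (Q : Subgroup G).subgroupOf C := by
      rw [Subgroup.mul_mem_iff_of_index_two hindex]
      exact iff_of_false (hnotQ u' hu2 hu1) (hnotQ v hv2 hv1)
    rw [Subgroup.mem_subgroupOf] at hmul
    have hp : ((u' * v : C) : G) = (u' : G) * v := rfl
    rw [hp] at hmul
    set p : G := (u' : G) * v with hpdef
    have hcomm : (u' : G) * p = p * u' := by
      exact ((Subgroup.mem_centralizer_iff.1 u'.2) p hmul).symm
    have hu'inv : (u' : G)⁻¹ = u' := inv_eq_of_mul_eq_one_left (by rw [← pow_two, hu2])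
    have hv' : (v : G) = (u' : G) * p := by
      rw [hpdef, ← mul_assoc, ← pow_two, hu2, one_mul]
    have hp2 : p ^ 2 = 1 := by
      rw [hv'] at hv2
      rw [(show Commute (u' : G) p from hcomm).mul_pow, hu2, one_mul] at hv2
      exact hv2
    have hp1 : p = 1 := eq_one_of_coprime_pows hp2 (Q_pow_nine hc Q hmul) (by norm_num)
    rw [hv', hp1, mul_one]
  have hNu : normalizer ((Q : Subgroup G) : Set G) ≤ centralizer ({(u' : G)} : Set G) := by
    intro g hg
    rw [Subgroup.mem_centralizer_singleton_iff]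
    have h1 := conj_mem_centralizer_of_mem_normalizer hg u'.2
    have h2 := huniq ⟨g * (u' : G) * g⁻¹, h1⟩
      (by
        have h0 := (conj_pow (a := g) (b := (u' : G)) (i := 2))
        show (g * (u' : G) * g⁻¹) ^ 2 = 1
        rw [h0, hu2]
        group)
      (by
        show g * (u' : G) * g⁻¹ ≠ 1
        intro h3
        apply hu1
        have : (u' : G) = g⁻¹ * (g * (u' : G) * g⁻¹) * g := by group
        rw [this, h3]
        group)
    have h2' : g * (u' : G) * g⁻¹ = u' := h2
    calc g * (u' : G) = (g * (u' : G) * g⁻¹) * g := by group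
      _ = (u' : G) * g := by rw [h2']
  have hQu : (Q : Subgroup G) ≤ centralizer ({(u' : G)} : Set G) :=
    Subgroup.le_normalizer.trans hNu
  have hcc := card_cent_invol_cases hc hu2 hu1
  have hdv := Subgroup.card_dvd_of_le hNu
  rw [hN] at hdv
  have h72 : Nat.card (centralizer ({(u' : G)} : Set G)) = 72 := by
    rcases hcc with h | h | h <;> rw [h] at hdv ⊢ <;> omega
  obtain ⟨n, hn, hcard⟩ := count_sylow (p := 3) (a := 2) (m := 8)
    (centralizer ({(u' : G)} : Set G)) (Q : Subgroup G) hQu (by rw [hQ3 hc Q]; norm_num)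
    (by rw [h72]; norm_num) (by norm_num)
  have hinf : centralizer ({(u' : G)} : Set G) ⊓ normalizer ((Q : Subgroup G) : Set G) =
      normalizer ((Q : Subgroup G) : Set G) := inf_eq_right.2 hNu
  rw [hinf, hN, h72] at hcard
  have h2 : n = 2 := by omega
  rw [h2] at hn
  omega

/-- The centralizer of an involution has order `24`. -/
theorem card_cent_invol [IsSimpleGroup G] (hc : Nat.card G = 2520) {u : G}
    (hu2 : u ^ 2 = 1) (hu1 : u ≠ 1) : Nat.card (centralizer ({u} : Set G)) = 24 := by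
  haveI : Fact (Nat.Prime 3) := ⟨by norm_num⟩
  rcases card_cent_invol_cases hc hu2 hu1 with h | h | h
  · exfalso
    obtain ⟨φ, ho⟩ := exists_order_four_global (G := G) hc
    obtain ⟨g, hg⟩ := invol_conj hc ho hu2 hu1
    have h3 := card_cent_conj g (φ ^ 2)
    rw [hg, h] at h3
    exact not_card_cent_eight hc ho h3.symm
  · exact h
  · exfalso
    obtain ⟨S, hS, hSc⟩ := exists_subgroup_le_card (centralizer ({u} : Set G)) (q := 3) (a := 2)
      (by rw [h]; norm_num)
    have hpg : IsPGroup 3 S := IsPGroup.of_card hSc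
    obtain ⟨Q, hQ⟩ := hpg.exists_le_sylow
    have hSQ : S = (Q : Subgroup G) :=
      Subgroup.eq_of_le_of_card_ge hQ (by rw [hQ3 hc Q, hSc]; norm_num)
    have hC : u ∈ centralizer ((Q : Subgroup G) : Set G) := by
      rw [Subgroup.mem_centralizer_iff]
      intro x hx
      have hx' : x ∈ S := by rw [hSQ]; exact hx
      exact Subgroup.mem_centralizer_singleton_iff.1 (hS hx')
    have hCeq : (Q : Subgroup G) = centralizer ((Q : Subgroup G) : Set G) :=
      Subgroup.eq_of_le_of_card_ge (Q_le_cent hc Q) (by rw [card_cent_three hc Q, hQ3 hc Q])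
    rw [← hCeq] at hC
    exact hu1 (eq_one_of_coprime_pows hu2 (Q_pow_nine hc Q hC) (by norm_num))

theorem Q_cent_eq [IsSimpleGroup G] (hc : Nat.card G = 2520) [Fact (Nat.Prime 3)] (Q : Sylow 3 G) :
    centralizer ((Q : Subgroup G) : Set G) = (Q : Subgroup G) :=
  (Subgroup.eq_of_le_of_card_ge (Q_le_cent hc Q) (by rw [card_cent_three hc Q, hQ3 hc Q])).symm

/-- Sylow `3`-subgroups have exponent three. -/
theorem Q_exp [IsSimpleGroup G] (hc : Nat.card G = 2520) [Fact (Nat.Prime 3)] (Q : Sylow 3 G) {e : G}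
    (he : e ∈ (Q : Subgroup G)) : e ^ 3 = 1 := by
  by_contra hne
  have h9 : orderOf e = 3 ^ (1 + 1) := by
    apply orderOf_eq_prime_pow
    · simpa using hne
    · simpa using Q_pow_nine hc Q he
  have hzQ : zpowers e = (Q : Subgroup G) := by
    apply Subgroup.eq_of_le_of_card_ge (Subgroup.zpowers_le.2 he)
    rw [Nat.card_zpowers, hQ3 hc Q, h9]
    norm_num
  haveI : IsCyclic (Q : Subgroup G) := by
    rw [← hzQ]
    infer_instance
  have h := relIndex_centralizer_normalizer_dvd (Q : Subgroup G)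
  rw [IsCyclic.card_mulAut, hQ3 hc Q] at h
  have hle : centralizer ((Q : Subgroup G) : Set G) ≤ normalizer ((Q : Subgroup G) : Set G) :=
    Subgroup.centralizer_le_normalizer _
  have h4 := card_eq_mul_relIndex hle
  rw [card_norm_three hc Q, card_cent_three hc Q] at h4
  have h5 : (centralizer ((Q : Subgroup G) : Set G)).relIndex
      (normalizer ((Q : Subgroup G) : Set G)) = 4 := by omega
  rw [h5] at h
  revert h
  decide

end Cfsg.Agent.Lib.A7Ord
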