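import Mathlib
import Cfsg.Agent.Lib.A7Ord6

/-!
# Simple groups of order 2520: involutions normalizing a Sylow `3`-subgroup invert it
-/

set_option autoImplicit false
set_option linter.style.haveILetI false
set_option linter.unusedSectionVars false
set_option linter.unusedVariables false

namespace Cfsg.Agent.Lib.A7Ord

open Subgroup Cfsg.Agent.Lib.SmallGroups2 Cfsg.Agent.Lib.SmallGroups3 Cfsg.Agent.Lib.J1Ord
open Cfsg.Agent.Lib.TwoLocal Cfsg.Agent.Lib.TwoLocal2 Cfsg.Agent.Lib.TwoLocal3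

variable {G : Type*} [Group G] [Finite G]

theorem mem_zpowers_three {f y : G} (hf : orderOf f = 3) (hy : y ∈ zpowers f) :
    y = 1 ∨ y = f ∨ y = f⁻¹ := by
  have h1 : y ∈ Submonoid.powers f := (mem_powers_iff_mem_zpowers).2 hy
  obtain ⟨n, rfl⟩ := Submonoid.mem_powers_iff _ _ |>.1 h1
  have h2 : f ^ n = f ^ (n % orderOf f) := (pow_mod_orderOf f n).symm
  rw [h2, hf]
  have h3 : f ^ 3 = 1 := by rw [← hf]; exact pow_orderOf_eq_one f
  have hlt : n % 3 < 3 := Nat.mod_lt _ (by norm_num)
  interval_cases (n % 3)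
  · simp
  · simp
  · right; right
    rw [eq_inv_iff_mul_eq_one, ← pow_succ]
    exact h3

theorem comm_of_card4 (P : Subgroup G) (h : Nat.card P = 4) {a b : G} (ha : a ∈ P) (hb : b ∈ P) :
    a * b = b * a := by
  haveI : Fact (Nat.Prime 2) := ⟨Nat.prime_two⟩
  have hc : ∀ x y : P, x * y = y * x :=
    fun x y => (IsPGroup.isMulCommutative_of_card_eq_prime_sq (p := 2) (by rw [h]; norm_num)).is_comm.comm x y
  have := hc ⟨a, ha⟩ ⟨b, hb⟩
  exact congrArg (fun z : P => (z : G)) this

theorem centralizer_zpowers_eq (e : G) :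
    centralizer ((zpowers e : Subgroup G) : Set G) = centralizer ({e} : Set G) := by
  ext x
  rw [Subgroup.mem_centralizer_iff, Subgroup.mem_centralizer_singleton_iff]
  constructor
  · intro h
    exact (h e (mem_zpowers e)).symm
  · rintro h y hy
    obtain ⟨k, rfl⟩ := Subgroup.mem_zpowers_iff.1 hy
    exact ((show Commute x e from h).zpow_right k).symm.eq

theorem centralizer_le_normalizer_zpowers (e : G) :
    centralizer ({e} : Set G) ≤ normalizer ((zpowers e : Subgroup G) : Set G) := by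
  rw [← centralizer_zpowers_eq]
  exact Subgroup.centralizer_le_normalizer _

theorem relIndex_three_dvd {e : G} (he : orderOf e = 3) :
    (centralizer ({e} : Set G)).relIndex (normalizer ((zpowers e : Subgroup G) : Set G)) ∣ 2 := by
  have h := relIndex_centralizer_normalizer_dvd (zpowers e)
  rw [centralizer_zpowers_eq, IsCyclic.card_mulAut, Nat.card_zpowers, he] at h
  have h2 : Nat.totient 3 = 2 := by decide
  rwa [h2] at h

theorem mem_normalizer_of_conj_mem {e z : G} (h : z * e * z⁻¹ ∈ zpowers e) :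
    z ∈ normalizer ((zpowers e : Subgroup G) : Set G) := by
  apply mem_normalizer_of_conj_le
  intro y hy
  obtain ⟨k, rfl⟩ := Subgroup.mem_zpowers_iff.1 hy
  rw [← conj_zpow]
  exact Subgroup.zpow_mem _ h k

theorem conj_mem_of_mem_normalizer {e z : G} (hz : z ∈ normalizer ((zpowers e : Subgroup G) : Set G)) :
    z * e * z⁻¹ ∈ zpowers e :=
  (Subgroup.mem_normalizer_iff.1 hz e).1 (mem_zpowers e)

/-- If an element outside the centralizer normalizes `⟨e⟩`, then the normalizer is twice as big. -/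
theorem card_norm_zpowers_eq {e z : G} (he : orderOf e = 3)
    (hz : z ∈ normalizer ((zpowers e : Subgroup G) : Set G)) (hzC : z ∉ centralizer ({e} : Set G)) :
    Nat.card (normalizer ((zpowers e : Subgroup G) : Set G)) =
      2 * Nat.card (centralizer ({e} : Set G)) := by
  have h1 := relIndex_three_dvd he
  have hle := centralizer_le_normalizer_zpowers e
  have h2 := card_eq_mul_relIndex hle
  have h3 : (centralizer ({e} : Set G)).relIndex (normalizer ((zpowers e : Subgroup G) : Set G)) ≠ 1 := by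
    intro h
    rw [Subgroup.relIndex_eq_one] at h
    exact hzC (h hz)
  have h4 : (centralizer ({e} : Set G)).relIndex (normalizer ((zpowers e : Subgroup G) : Set G)) = 2 := by
    rcases (Nat.dvd_prime Nat.prime_two).1 h1 with h | h
    · exact absurd h h3
    · exact h
  rw [h2, h4, mul_comm]

/-- A subgroup of order four of the normalizer of a Sylow `3`-subgroup, containing a given
involution. -/
theorem exists_four_containing [IsSimpleGroup G] (hc : Nat.card G = 2520) [Fact (Nat.Prime 3)]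
    (Q : Sylow 3 G) {τ : G} (hτN : τ ∈ normalizer ((Q : Subgroup G) : Set G)) (hτ2 : τ ^ 2 = 1)
    (hτ1 : τ ≠ 1) :
    ∃ T : Subgroup G, T ≤ normalizer ((Q : Subgroup G) : Set G) ∧ Nat.card T = 4 ∧ τ ∈ T := by
  haveI : Fact (Nat.Prime 2) := ⟨Nat.prime_two⟩
  set Y := normalizer ((Q : Subgroup G) : Set G) with hY
  have hYc : Nat.card Y = 36 := card_norm_three hc Q
  have ho : orderOf (⟨τ, hτN⟩ : Y) = 2 := by
    rw [Subgroup.orderOf_mk]
    exact orderOf_eq_prime hτ2 hτ1
  have hz : IsPGroup 2 (zpowers (⟨τ, hτN⟩ : Y)) := by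
    rw [IsPGroup.iff_card, Nat.card_zpowers, ho]
    exact ⟨1, by simp⟩
  obtain ⟨R, hR⟩ := hz.exists_le_sylow
  have hRc : Nat.card (R : Subgroup Y) = 2 ^ 2 :=
    sylow_card_of_card_eq (a := 2) (m := 9) (by rw [hYc]; norm_num) (by norm_num) R
  refine ⟨(R : Subgroup Y).map Y.subtype, ?_, ?_, ?_⟩
  · rintro _ ⟨y, -, rfl⟩
    exact y.2
  · rw [Subgroup.card_map_of_injective Y.subtype_injective, hRc]
    norm_num
  · exact ⟨⟨τ, hτN⟩, hR (mem_zpowers _), rfl⟩

/-- A subgroup of prime index `3` in a group of order nine. -/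
theorem card_three_of_lt (Q F : Subgroup G) (hQ : Nat.card Q = 9) (hFQ : F ≤ Q) (hne : F ≠ Q)
    (h3 : 3 ∣ Nat.card F) : Nat.card F = 3 := by
  have h1 := Subgroup.card_dvd_of_le hFQ
  rw [hQ] at h1
  have hm : Nat.card F ∈ Nat.divisors 9 := Nat.mem_divisors.2 ⟨h1, by norm_num⟩
  have hdiv : Nat.divisors 9 = {1, 3, 9} := by decide +kernel
  rw [hdiv] at hm
  simp only [Finset.mem_insert, Finset.mem_singleton] at hm
  rcases hm with h | h | h
  · rw [h] at h3; omega
  · exact h
  · exfalso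
    exact hne (Subgroup.eq_of_le_of_card_ge hFQ (by rw [hQ, h]))

theorem three_dvd_card_of_mem {F : Subgroup G} {e : G} (he : orderOf e = 3) (heF : e ∈ F) :
    3 ∣ Nat.card F := by
  have := Subgroup.card_dvd_of_le (Subgroup.zpowers_le.2 heF)
  rwa [Nat.card_zpowers, he] at this

theorem two_dvd_card_of_mem {F : Subgroup G} {e : G} (he : orderOf e = 2) (heF : e ∈ F) :
    2 ∣ Nat.card F := by
  have := Subgroup.card_dvd_of_le (Subgroup.zpowers_le.2 heF)
  rwa [Nat.card_zpowers, he] at this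

/-- No involution normalizing a Sylow `3`-subgroup fixes a non-trivial element of it. -/
theorem not_fixed [IsSimpleGroup G] (hc : Nat.card G = 2520) [Fact (Nat.Prime 3)]
    (Q : Sylow 3 G) {τ : G} (hτN : τ ∈ normalizer ((Q : Subgroup G) : Set G)) (hτ2 : τ ^ 2 = 1)
    (hτ1 : τ ≠ 1) {e : G} (he : e ∈ (Q : Subgroup G)) (he1 : e ≠ 1) (heτ : τ * e * τ⁻¹ = e) :
    False := by
  classical
  haveI : Fact (Nat.Prime 2) := ⟨Nat.prime_two⟩
  have hQc := hQ3 hc Q
  have hNc := card_norm_three hc Q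
  have hCeq := Q_cent_eq hc Q
  have hτinv : τ⁻¹ = τ := inv_eq_of_mul_eq_one_left (by rw [← pow_two, hτ2])
  have hτo : orderOf τ = 2 := orderOf_eq_prime hτ2 hτ1
  have heo : orderOf e = 3 := orderOf_eq_prime (Q_exp hc Q he) he1
  have hconjQ : ∀ {a g : G}, a ∈ normalizer ((Q : Subgroup G) : Set G) → g ∈ (Q : Subgroup G) →
      a * g * a⁻¹ ∈ (Q : Subgroup G) := fun ha hg => (Subgroup.mem_normalizer_iff.1 ha _).1 hg
  -- an element inverted by `τ`
  obtain ⟨b, hb, hb1, hbτ⟩ : ∃ b ∈ (Q : Subgroup G), b ≠ 1 ∧ τ * b * τ⁻¹ = b⁻¹ := by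
    have hτC : τ ∉ centralizer ((Q : Subgroup G) : Set G) := by
      rw [hCeq]
      intro h
      exact hτ1 (eq_one_of_coprime_pows hτ2 (Q_pow_nine hc Q h) (by norm_num))
    rw [Subgroup.mem_centralizer_iff] at hτC
    push Not at hτC
    obtain ⟨g, hg, hgτ⟩ := hτC
    have hg' : g ∈ (Q : Subgroup G) := hg
    have hσg := hconjQ hτN hg'
    refine ⟨g * (τ * g * τ⁻¹)⁻¹, Subgroup.mul_mem _ hg' (Subgroup.inv_mem _ hσg), ?_, ?_⟩
    · intro h
      rw [mul_inv_eq_one] at h
      apply hgτ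
      calc g * τ = (τ * g * τ⁻¹) * τ := by rw [← h]
        _ = τ * g := by group
    · have h1 : τ * (g * (τ * g * τ⁻¹)⁻¹) * τ⁻¹ = (τ * g * τ⁻¹) * g⁻¹ := by
        have hh : τ⁻¹ * (τ * g * τ⁻¹)⁻¹ * τ = g⁻¹ := by
          rw [hτinv]
          calc τ * (τ * g * τ)⁻¹ * τ = τ * (τ⁻¹ * g⁻¹ * τ⁻¹) * τ := by group
            _ = g⁻¹ := by group
        calc τ * (g * (τ * g * τ⁻¹)⁻¹) * τ⁻¹ = (τ * g * τ⁻¹) * (τ * (τ * g * τ⁻¹)⁻¹ * τ⁻¹) := by group
          _ = (τ * g * τ⁻¹) * g⁻¹ := by
              congr 1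
              rw [hτinv] at hh ⊢
              exact hh
      rw [h1, mul_inv_rev, inv_inv]
  have hbo : orderOf b = 3 := orderOf_eq_prime (Q_exp hc Q hb) hb1
  have hbne : b⁻¹ ≠ b := by
    intro h
    rw [inv_eq_iff_mul_eq_one, ← pow_two] at h
    exact hb1 (eq_one_of_coprime_pows h (Q_exp hc Q hb) (by norm_num))
  have hene : e⁻¹ ≠ e := by
    intro h
    rw [inv_eq_iff_mul_eq_one, ← pow_two] at h
    exact he1 (eq_one_of_coprime_pows h (Q_exp hc Q he) (by norm_num))
  -- the fixed subgroup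
  set F : Subgroup G := (Q : Subgroup G) ⊓ centralizer ({τ} : Set G) with hF
  have heF : e ∈ F := by
    refine Subgroup.mem_inf.2 ⟨he, ?_⟩
    rw [Subgroup.mem_centralizer_singleton_iff]
    calc e * τ = (τ * e * τ⁻¹) * τ := by rw [heτ]
      _ = τ * e := by group
  have hbF : b ∉ F := by
    intro h
    have h2 := Subgroup.mem_centralizer_singleton_iff.1 (Subgroup.mem_inf.1 h).2
    apply hbne
    rw [← hbτ, ← h2]
    group
  have hFc : Nat.card F = 3 :=
    card_three_of_lt _ _ hQc inf_le_left (fun h => hbF (by rw [h]; exact hb))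
      (three_dvd_card_of_mem heo heF)
  have hFz : zpowers e = F :=
    Subgroup.eq_of_le_of_card_ge (Subgroup.zpowers_le.2 heF) (by rw [hFc, Nat.card_zpowers, heo])
  -- the inverted subgroup
  let M : Subgroup G :=
    { carrier := {g | g ∈ (Q : Subgroup G) ∧ τ * g * τ⁻¹ = g⁻¹}
      mul_mem' := by
        rintro x y ⟨hx, hx'⟩ ⟨hy, hy'⟩
        refine ⟨Subgroup.mul_mem _ hx hy, ?_⟩
        calc τ * (x * y) * τ⁻¹ = (τ * x * τ⁻¹) * (τ * y * τ⁻¹) := by group
          _ = x⁻¹ * y⁻¹ := by rw [hx', hy']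
          _ = (y * x)⁻¹ := by group
          _ = (x * y)⁻¹ := by rw [Qcomm hc Q hy hx]
      one_mem' := by
        refine ⟨Subgroup.one_mem _, ?_⟩
        group
      inv_mem' := by
        rintro x ⟨hx, hx'⟩
        refine ⟨Subgroup.inv_mem _ hx, ?_⟩
        calc τ * x⁻¹ * τ⁻¹ = (τ * x * τ⁻¹)⁻¹ := by group
          _ = x⁻¹⁻¹ := by rw [hx'] }
  have hbM : b ∈ M := ⟨hb, hbτ⟩
  have heM : e ∉ M := by
    rintro ⟨-, h⟩
    rw [heτ] at h
    exact hene h.symm
  have hMc : Nat.card M = 3 :=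
    card_three_of_lt _ _ hQc (fun x hx => hx.1) (fun h => heM (by rw [h]; exact he))
      (three_dvd_card_of_mem hbo hbM)
  have hMz : zpowers b = M :=
    Subgroup.eq_of_le_of_card_ge (Subgroup.zpowers_le.2 hbM) (by rw [hMc, Nat.card_zpowers, hbo])
  -- generators
  have hgen : zpowers e ⊔ zpowers b = (Q : Subgroup G) := by
    apply Subgroup.eq_of_le_of_card_ge
    · exact sup_le (Subgroup.zpowers_le.2 he) (Subgroup.zpowers_le.2 hb)
    · rw [hQc]
      have h1 : zpowers e ⊔ zpowers b ≤ (Q : Subgroup G) :=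
        sup_le (Subgroup.zpowers_le.2 he) (Subgroup.zpowers_le.2 hb)
      by_contra hlt
      have h2 := card_three_of_lt _ _ hQc h1 (fun h => by rw [h, hQc] at hlt; omega)
        (three_dvd_card_of_mem heo (Subgroup.mem_sup_left (mem_zpowers e)))
      have h3 : zpowers e = zpowers e ⊔ zpowers b :=
        Subgroup.eq_of_le_of_card_ge le_sup_left (by rw [h2, Nat.card_zpowers, heo])
      apply hbF
      rw [← hFz, h3]
      exact Subgroup.mem_sup_right (mem_zpowers b)
  have hcenQ : ∀ g : G, g * e * g⁻¹ = e → g * b * g⁻¹ = b → g ∈ (Q : Subgroup G) := by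
    intro g h1 h2
    rw [← hCeq, Subgroup.mem_centralizer_iff]
    have hle : zpowers e ⊔ zpowers b ≤ centralizer ({g} : Set G) := by
      apply sup_le
      · rw [Subgroup.zpowers_le, Subgroup.mem_centralizer_singleton_iff]
        calc e * g = (g * e * g⁻¹) * g := by rw [h1]
          _ = g * e := by group
      · rw [Subgroup.zpowers_le, Subgroup.mem_centralizer_singleton_iff]
        calc b * g = (g * b * g⁻¹) * g := by rw [h2]
          _ = g * b := by group
    intro y hy
    have hy' : y ∈ zpowers e ⊔ zpowers b := by rw [hgen]; exact hy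
    exact Subgroup.mem_centralizer_singleton_iff.1 (hle hy')
  -- the subgroup of order four
  obtain ⟨T, hTN, hTc, hτT⟩ := exists_four_containing hc Q hτN hτ2 hτ1
  have hT4 : ∀ x ∈ T, x ^ 4 = 1 := by
    intro x hx
    have := pow_card_eq_one' (x := (⟨x, hx⟩ : T))
    rw [hTc] at this
    have h2 := congrArg (fun z : T => (z : G)) this
    simpa using h2
  obtain ⟨x, hxT, hx1, hxτ⟩ : ∃ x ∈ T, x ≠ 1 ∧ x ≠ τ := by
    by_contra hno
    push Not at hno
    have hle : Nat.card T ≤ 2 := by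
      have : (T : Set G) ⊆ ({1, τ} : Set G) := by
        intro x hx
        by_cases h : x = 1
        · left; exact h
        · right; exact hno x hx h
      have h2 : Nat.card T = (T : Set G).ncard := rfl
      rw [h2]
      refine (Set.ncard_le_ncard this (Set.toFinite _)).trans ?_
      exact Set.ncard_insert_le _ _ |>.trans (by simp)
    omega
  have hcommT : ∀ z ∈ T, z * τ = τ * z := fun z hz => comm_of_card4 T hTc hz hτT
  have hze : ∀ z ∈ T, z * e * z⁻¹ = e ∨ z * e * z⁻¹ = e⁻¹ := by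
    intro z hz
    have h1 : z * e * z⁻¹ ∈ F := by
      refine Subgroup.mem_inf.2 ⟨hconjQ (hTN hz) he, ?_⟩
      rw [Subgroup.mem_centralizer_singleton_iff]
      have h2 : Commute e τ := Subgroup.mem_centralizer_singleton_iff.1 (Subgroup.mem_inf.1 heF).2
      have h3 : Commute z τ := hcommT z hz
      exact ((h3.mul_left h2).mul_left h3.inv_left).eq
    rw [← hFz] at h1
    rcases mem_zpowers_three heo h1 with h | h | h
    · exfalso
      apply he1
      have : e = z⁻¹ * (z * e * z⁻¹) * z := by group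
      rw [this, h]
      group
    · exact Or.inl h
    · exact Or.inr h
  have hzb : ∀ z ∈ T, z * b * z⁻¹ = b ∨ z * b * z⁻¹ = b⁻¹ := by
    intro z hz
    have h1 : z * b * z⁻¹ ∈ M := by
      refine ⟨hconjQ (hTN hz) hb, ?_⟩
      have h3 : τ * z = z * τ := (hcommT z hz).symm
      calc τ * (z * b * z⁻¹) * τ⁻¹ = (τ * z) * b * (τ * z)⁻¹ := by group
        _ = (z * τ) * b * (z * τ)⁻¹ := by rw [h3]
        _ = z * (τ * b * τ⁻¹) * z⁻¹ := by group
        _ = z * b⁻¹ * z⁻¹ := by rw [hbτ]
        _ = (z * b * z⁻¹)⁻¹ := by group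
    rw [← hMz] at h1
    rcases mem_zpowers_three hbo h1 with h | h | h
    · exfalso
      apply hb1
      have : b = z⁻¹ * (z * b * z⁻¹) * z := by group
      rw [this, h]
      group
    · exact Or.inl h
    · exact Or.inr h
  obtain ⟨z, hzT, hzinv⟩ : ∃ z ∈ T, z * e * z⁻¹ = e⁻¹ := by
    rcases hze x hxT with h | h
    · exfalso
      rcases hzb x hxT with h' | h'
      · have hxQ := hcenQ x h h'
        exact hx1 (eq_one_of_coprime_pows (hT4 x hxT) (Q_pow_nine hc Q hxQ) (by norm_num))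
      · have hxτT : x * τ ∈ T := T.mul_mem hxT hτT
        have h1 : (x * τ) * e * (x * τ)⁻¹ = e := by
          calc (x * τ) * e * (x * τ)⁻¹ = x * (τ * e * τ⁻¹) * x⁻¹ := by group
            _ = e := by rw [heτ, h]
        have h2 : (x * τ) * b * (x * τ)⁻¹ = b := by
          calc (x * τ) * b * (x * τ)⁻¹ = x * (τ * b * τ⁻¹) * x⁻¹ := by group
            _ = x * b⁻¹ * x⁻¹ := by rw [hbτ]
            _ = (x * b * x⁻¹)⁻¹ := by group
            _ = b := by rw [h', inv_inv]
        have hQ := hcenQ _ h1 h2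
        have h3 := eq_one_of_coprime_pows (hT4 _ hxτT) (Q_pow_nine hc Q hQ) (by norm_num)
        apply hxτ
        rw [← hτinv]
        exact eq_inv_of_mul_eq_one_left h3
    · exact ⟨x, hxT, h⟩
  have hzN := hTN hzT
  have hzC : z ∉ centralizer ({e} : Set G) := by
    intro h
    have h1 : z * e = e * z := Subgroup.mem_centralizer_singleton_iff.1 h
    apply hene
    rw [← hzinv, h1]
    group
  set X := centralizer ({e} : Set G) with hX
  have heX : e ∈ X := by
    rw [hX, Subgroup.mem_centralizer_singleton_iff]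
  have hQX : (Q : Subgroup G) ≤ X := fun y hy =>
    Subgroup.mem_centralizer_singleton_iff.2 (Qcomm hc Q hy he)
  have hτX : τ ∈ X := by
    have h2 : e * τ = τ * e := Subgroup.mem_centralizer_singleton_iff.1 (Subgroup.mem_inf.1 heF).2
    exact Subgroup.mem_centralizer_singleton_iff.2 h2.symm
  set C₀ := X ⊓ normalizer ((Q : Subgroup G) : Set G) with hC₀
  have hC0 : Nat.card C₀ = 18 := by
    have h9 : 9 ∣ Nat.card C₀ := by
      rw [← hQc]
      exact Subgroup.card_dvd_of_le (le_inf hQX Subgroup.le_normalizer)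
    have h2 : 2 ∣ Nat.card C₀ := two_dvd_card_of_mem hτo (Subgroup.mem_inf.2 ⟨hτX, hτN⟩)
    have h18 : 9 * 2 ∣ Nat.card C₀ := Nat.Coprime.mul_dvd_of_dvd_of_dvd (by norm_num) h9 h2
    have h36 : Nat.card C₀ ∣ 36 := by
      rw [← hNc]
      exact Subgroup.card_dvd_of_le inf_le_right
    have hne : Nat.card C₀ ≠ 36 := by
      intro h
      have heq : C₀ = normalizer ((Q : Subgroup G) : Set G) :=
        Subgroup.eq_of_le_of_card_ge inf_le_right (by rw [hNc, h])
      apply hzC
      rw [← heq] at hzN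
      exact (Subgroup.mem_inf.1 hzN).1
    obtain ⟨k, hk⟩ := h18
    rw [hk] at h36 hne ⊢
    have hk2 : k ∣ 2 := Nat.dvd_of_mul_dvd_mul_left (by norm_num : 0 < 9 * 2) h36
    rcases (Nat.dvd_prime Nat.prime_two).1 hk2 with h | h
    · rw [h]
    · rw [h] at hne
      exact absurd rfl hne
  have hXd := card_cent_dvd_72 hc (x := e) (Or.inr heo)
  have h9X : 9 ∣ Nat.card X := by
    rw [← hQc]
    exact Subgroup.card_dvd_of_le hQX
  obtain ⟨m, hm⟩ := h9X
  have hm8 : m ∣ 8 := by
    rw [hm] at hXd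
    exact Nat.dvd_of_mul_dvd_mul_left (by norm_num : 0 < 9) hXd
  have h3m : ¬ 3 ∣ m := fun h => by
    have := h.trans hm8
    omega
  obtain ⟨n, hn, hcard⟩ := count_sylow (p := 3) (a := 2) (m := m) X (Q : Subgroup G) hQX
    (by rw [hQc]; norm_num) (by rw [hm]; norm_num) h3m
  rw [hC0] at hcard
  have hn4 : n ∣ 4 := by
    have : n * 18 ∣ 4 * 18 := by
      rw [← hcard]
      exact hXd
    exact Nat.dvd_of_mul_dvd_mul_right (by norm_num) this
  have hnm : n ∈ Nat.divisors 4 := Nat.mem_divisors.2 ⟨hn4, by norm_num⟩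
  have hdiv4 : Nat.divisors 4 = {1, 2, 4} := by decide +kernel
  rw [hdiv4] at hnm
  simp only [Finset.mem_insert, Finset.mem_singleton] at hnm
  have hzNP : z ∈ normalizer ((zpowers e : Subgroup G) : Set G) :=
    mem_normalizer_of_conj_mem (by rw [hzinv]; exact Subgroup.inv_mem _ (mem_zpowers e))
  have hXc : Nat.card X = 18 := by
    rcases hnm with h | h | h
    · rw [hcard, h]
    · rw [h] at hn
      omega
    · exfalso
      have h72 : Nat.card X = 72 := by rw [hcard, h]
      have h144 := card_norm_zpowers_eq heo hzNP hzC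
      rw [← hX, h72] at h144
      have h3 := Subgroup.card_subgroup_dvd_card (normalizer ((zpowers e : Subgroup G) : Set G))
      rw [h144, hc] at h3
      omega
  set U := centralizer ({τ} : Set G) with hU
  have hUc : Nat.card U = 24 := card_cent_invol hc hτ2 hτ1
  have heU : e ∈ U := Subgroup.mem_inf.1 heF |>.2
  have hτU : τ ∈ U := by
    rw [hU, Subgroup.mem_centralizer_singleton_iff]
  have hzU : z ∈ U := by
    rw [hU, Subgroup.mem_centralizer_singleton_iff]
    exact hcommT z hzT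
  have hPU : zpowers e ≤ U := Subgroup.zpowers_le.2 heU
  obtain ⟨n', hn', hcard'⟩ := count_sylow (p := 3) (a := 1) (m := 8) U (zpowers e) hPU
    (by rw [Nat.card_zpowers, heo]; norm_num) (by rw [hUc]; norm_num) (by norm_num)
  have hbU : b ∉ U := by
    intro h
    have h2 : b * τ = τ * b := Subgroup.mem_centralizer_singleton_iff.1 h
    apply hbne
    rw [← hbτ, ← h2]
    group
  have hUX : Nat.card ↥(U ⊓ X) = 6 := by
    have h3 := three_dvd_card_of_mem heo (Subgroup.mem_inf.2 ⟨heU, heX⟩)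
    have h2 := two_dvd_card_of_mem hτo (Subgroup.mem_inf.2 ⟨hτU, hτX⟩)
    have h6 : 3 * 2 ∣ Nat.card ↥(U ⊓ X) := Nat.Coprime.mul_dvd_of_dvd_of_dvd (by norm_num) h3 h2
    have h18 : Nat.card ↥(U ⊓ X) ∣ 18 := by
      rw [← hXc]
      exact Subgroup.card_dvd_of_le inf_le_right
    have hne : Nat.card ↥(U ⊓ X) ≠ 18 := by
      intro h
      have heq : U ⊓ X = X := Subgroup.eq_of_le_of_card_ge inf_le_right (by rw [hXc, h])
      apply hbU
      have hbX : b ∈ X := hQX hb
      rw [← heq] at hbX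
      exact (Subgroup.mem_inf.1 hbX).1
    obtain ⟨k, hk⟩ := h6
    rw [hk] at h18 hne ⊢
    have hk2 : k ∣ 3 := Nat.dvd_of_mul_dvd_mul_left (by norm_num : 0 < 3 * 2) h18
    rcases (Nat.dvd_prime Nat.prime_three).1 hk2 with h | h
    · rw [h]
    · rw [h] at hne
      exact absurd rfl hne
  have hn'24 : n' ∣ 24 := by
    rw [hUc] at hcard'
    rw [hcard']
    exact Dvd.intro _ rfl
  have hn'm : n' ∈ Nat.divisors 24 := Nat.mem_divisors.2 ⟨hn'24, by norm_num⟩
  have hfil : (Nat.divisors 24).filter (fun n => n % 3 = 1 % 3) = {1, 4} := by decide +kernel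
  have hn'f : n' ∈ (Nat.divisors 24).filter (fun n => n % 3 = 1 % 3) :=
    Finset.mem_filter.2 ⟨hn'm, hn'⟩
  rw [hfil] at hn'f
  simp only [Finset.mem_insert, Finset.mem_singleton] at hn'f
  have hXNP : X ≤ normalizer ((zpowers e : Subgroup G) : Set G) :=
    centralizer_le_normalizer_zpowers e
  rcases hn'f with h | h
  · rw [h, hUc, one_mul] at hcard'
    have hle : U ≤ normalizer ((zpowers e : Subgroup G) : Set G) := by
      have heq : U ⊓ normalizer ((zpowers e : Subgroup G) : Set G) = U :=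
        Subgroup.eq_of_le_of_card_ge inf_le_left (by rw [hUc, ← hcard'])
      exact inf_eq_left.1 heq
    have h4 := card_orbit_conj U e
    rw [hUX, hUc] at h4
    have horb : Nat.card {x : G // ∃ g ∈ U, g * e * g⁻¹ = x} = 4 := by omega
    have hmem : ∀ x : {x : G // ∃ g ∈ U, g * e * g⁻¹ = x}, x.1 = e ∨ x.1 = e⁻¹ := by
      rintro ⟨x, g, hg, rfl⟩
      have h5 := conj_mem_of_mem_normalizer (hle hg)
      rcases mem_zpowers_three heo h5 with h | h | h
      · exfalso
        apply he1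
        have : e = g⁻¹ * (g * e * g⁻¹) * g := by group
        rw [this, h]
        group
      · exact Or.inl h
      · exact Or.inr h
    have hinj : Function.Injective (fun x : {x : G // ∃ g ∈ U, g * e * g⁻¹ = x} => decide (x.1 = e)) := by
      intro a b hab
      apply Subtype.ext
      simp only [decide_eq_decide] at hab
      rcases hmem a with h1 | h1 <;> rcases hmem b with h2 | h2
      · rw [h1, h2]
      · have := hab.1 h1
        rw [this, h1]
      · have := hab.2 h2
        rw [this, h2]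
      · rw [h1, h2]
    have := Nat.card_le_card_of_injective _ hinj
    rw [horb, Nat.card_eq_fintype_card, Fintype.card_bool] at this
    omega
  · rw [h, hUc] at hcard'
    have h6 : Nat.card ↥(U ⊓ normalizer ((zpowers e : Subgroup G) : Set G)) = 6 := by omega
    have heq : U ⊓ X = U ⊓ normalizer ((zpowers e : Subgroup G) : Set G) :=
      Subgroup.eq_of_le_of_card_ge (inf_le_inf_left _ hXNP) (by rw [hUX, h6])
    have hz' : z ∈ U ⊓ normalizer ((zpowers e : Subgroup G) : Set G) :=
      Subgroup.mem_inf.2 ⟨hzU, hzNP⟩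
    rw [← heq] at hz'
    exact hzC (Subgroup.mem_inf.1 hz').2

/-- Every involution normalizing a Sylow `3`-subgroup inverts it. -/
theorem inverts [IsSimpleGroup G] (hc : Nat.card G = 2520) [Fact (Nat.Prime 3)]
    (Q : Sylow 3 G) {τ : G} (hτN : τ ∈ normalizer ((Q : Subgroup G) : Set G)) (hτ2 : τ ^ 2 = 1)
    (hτ1 : τ ≠ 1) {e : G} (he : e ∈ (Q : Subgroup G)) : τ * e * τ⁻¹ = e⁻¹ := by
  by_contra hne
  have hτinv : τ⁻¹ = τ := inv_eq_of_mul_eq_one_left (by rw [← pow_two, hτ2])
  have hσe : τ * e * τ⁻¹ ∈ (Q : Subgroup G) := (Subgroup.mem_normalizer_iff.1 hτN _).1 he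
  refine not_fixed hc Q hτN hτ2 hτ1 (e := e * (τ * e * τ⁻¹)) (Subgroup.mul_mem _ he hσe) ?_ ?_
  · intro h
    apply hne
    exact (eq_inv_of_mul_eq_one_right h)
  · calc τ * (e * (τ * e * τ⁻¹)) * τ⁻¹ = (τ * e * τ⁻¹) * (τ * τ * e * τ⁻¹ * τ⁻¹) := by group
      _ = (τ * e * τ⁻¹) * e := by
          rw [← pow_two, hτ2, hτinv]
          congr 1
          calc 1 * e * τ * τ = 1 * e * τ ^ 2 := by rw [pow_two]; group
            _ = e := by rw [hτ2]; group
      _ = e * (τ * e * τ⁻¹) := Qcomm hc Q hσe he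

end Cfsg.Agent.Lib.A7Ord
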