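import Mathlib
import Cfsg.Agent.Lib.A7Ord7

/-!
# Simple groups of order 2520: the centralizers of elements of order three
-/

set_option autoImplicit false
set_option linter.style.haveILetI false
set_option linter.unusedSectionVars false
set_option linter.unusedVariables false

namespace Cfsg.Agent.Lib.A7Ord

open Subgroup Cfsg.Agent.Lib.SmallGroups2 Cfsg.Agent.Lib.SmallGroups3 Cfsg.Agent.Lib.J1Ord
open Cfsg.Agent.Lib.TwoLocal Cfsg.Agent.Lib.TwoLocal2 Cfsg.Agent.Lib.TwoLocal3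

variable {G : Type*} [Group G] [Finite G]

theorem exists_invol_norm [IsSimpleGroup G] (hc : Nat.card G = 2520) [Fact (Nat.Prime 3)]
    (Q : Sylow 3 G) : ∃ τ ∈ normalizer ((Q : Subgroup G) : Set G), τ ^ 2 = 1 ∧ τ ≠ 1 := by
  haveI : Fact (Nat.Prime 2) := ⟨Nat.prime_two⟩
  obtain ⟨u', hu'⟩ := exists_prime_orderOf_dvd_card' (G := normalizer ((Q : Subgroup G) : Set G)) 2
    (by rw [card_norm_three hc Q]; norm_num)
  refine ⟨u', u'.2, ?_, ?_⟩
  · have := pow_orderOf_eq_one u'
    rw [hu'] at this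
    exact_mod_cast this
  · intro h
    have h1 : u' = 1 := Subtype.ext h
    rw [h1, orderOf_one] at hu'
    omega

/-- The normalizer of a Sylow `3`-subgroup has an element of order four. -/
theorem exists_f [IsSimpleGroup G] (hc : Nat.card G = 2520) [Fact (Nat.Prime 3)]
    (Q : Sylow 3 G) : ∃ f ∈ normalizer ((Q : Subgroup G) : Set G), orderOf f = 4 := by
  classical
  haveI : Fact (Nat.Prime 2) := ⟨Nat.prime_two⟩
  obtain ⟨τ, hτN, hτ2, hτ1⟩ := exists_invol_norm hc Q
  obtain ⟨T, hTN, hTc, hτT⟩ := exists_four_containing hc Q hτN hτ2 hτ1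
  have hτinv : τ⁻¹ = τ := inv_eq_of_mul_eq_one_left (by rw [← pow_two, hτ2])
  have hT4 : ∀ x ∈ T, x ^ 4 = 1 := by
    intro x hx
    have := pow_card_eq_one' (x := (⟨x, hx⟩ : T))
    rw [hTc] at this
    have h2 := congrArg (fun z : T => (z : G)) this
    simpa using h2
  obtain ⟨x, hxT, hx1, hxτ⟩ : ∃ x ∈ T, x ≠ 1 ∧ x ≠ τ := by
    by_contra hno
    push Not at hno
    have hle : Nat.card T ≤ 2 := by
      have : (T : Set G) ⊆ ({1, τ} : Set G) := by
        intro x hx
        by_cases h : x = 1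
        · left; exact h
        · right; exact hno x hx h
      have h2 : Nat.card T = (T : Set G).ncard := rfl
      rw [h2]
      refine (Set.ncard_le_ncard this (Set.toFinite _)).trans ?_
      exact Set.ncard_insert_le _ _ |>.trans (by simp)
    omega
  refine ⟨x, hTN hxT, ?_⟩
  have : orderOf x = 2 ^ (1 + 1) := by
    apply orderOf_eq_prime_pow
    · intro hx2
      simp only [pow_one] at hx2
      have hxinv : x⁻¹ = x := inv_eq_of_mul_eq_one_left (by rw [← pow_two, hx2])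
      have hxτQ : x * τ ∈ centralizer ((Q : Subgroup G) : Set G) := by
        rw [Subgroup.mem_centralizer_iff]
        intro y hy
        have h1 := inverts hc Q hτN hτ2 hτ1 hy
        have h2 := inverts hc Q (hTN hxT) hx2 hx1 (e := y⁻¹) (Subgroup.inv_mem _ hy)
        rw [inv_inv] at h2
        calc y * (x * τ) = ((x * y⁻¹ * x⁻¹) * x) * τ := by rw [h2]; group
          _ = x * y⁻¹ * τ := by group
          _ = x * (τ * (τ⁻¹ * y⁻¹ * τ)) := by group
          _ = x * (τ * (τ * y⁻¹ * τ⁻¹)) := by rw [hτinv]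
          _ = x * (τ * (τ * y * τ⁻¹)⁻¹) := by group
          _ = x * (τ * y) := by rw [h1, inv_inv]
          _ = x * τ * y := by group
      rw [Q_cent_eq hc Q] at hxτQ
      have h3 := eq_one_of_coprime_pows (hT4 _ (T.mul_mem hxT hτT)) (Q_pow_nine hc Q hxτQ)
        (by norm_num)
      apply hxτ
      rw [← hτinv]
      exact eq_inv_of_mul_eq_one_left h3
    · simpa using hT4 x hxT
  simpa using this

theorem inf_norm_eq [IsSimpleGroup G] (hc : Nat.card G = 2520) [Fact (Nat.Prime 3)]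
    (Q : Sylow 3 G) {e : G} (he : e ∈ (Q : Subgroup G)) (he1 : e ≠ 1) :
    centralizer ({e} : Set G) ⊓ normalizer ((Q : Subgroup G) : Set G) = (Q : Subgroup G) := by
  haveI : Fact (Nat.Prime 2) := ⟨Nat.prime_two⟩
  have hQX : (Q : Subgroup G) ≤ centralizer ({e} : Set G) := fun y hy =>
    Subgroup.mem_centralizer_singleton_iff.2 (Qcomm hc Q hy he)
  symm
  apply Subgroup.eq_of_le_of_card_ge (le_inf hQX Subgroup.le_normalizer)
  rw [hQ3 hc Q]
  have h9 : 9 ∣ Nat.card ↥(centralizer ({e} : Set G) ⊓ normalizer ((Q : Subgroup G) : Set G)) := by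
    rw [← hQ3 hc Q]
    exact Subgroup.card_dvd_of_le (le_inf hQX Subgroup.le_normalizer)
  have h36 : Nat.card ↥(centralizer ({e} : Set G) ⊓ normalizer ((Q : Subgroup G) : Set G)) ∣ 36 := by
    rw [← card_norm_three hc Q]
    exact Subgroup.card_dvd_of_le inf_le_right
  have hodd : ¬ 2 ∣ Nat.card ↥(centralizer ({e} : Set G) ⊓ normalizer ((Q : Subgroup G) : Set G)) := by
    intro h2
    obtain ⟨u', hu'⟩ := exists_prime_orderOf_dvd_card' 2 h2
    have hu2 : (u' : G) ^ 2 = 1 := by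
      have := pow_orderOf_eq_one u'
      rw [hu'] at this
      exact_mod_cast this
    have hu1 : (u' : G) ≠ 1 := by
      intro h
      have h1 : u' = 1 := Subtype.ext h
      rw [h1, orderOf_one] at hu'
      omega
    have h3 := inverts hc Q (Subgroup.mem_inf.1 u'.2).2 hu2 hu1 he
    have h4 : (u' : G) * e = e * u' := Subgroup.mem_centralizer_singleton_iff.1 (Subgroup.mem_inf.1 u'.2).1
    rw [h4] at h3
    simp only [mul_assoc, mul_inv_cancel, mul_one] at h3
    rw [eq_inv_iff_mul_eq_one, ← pow_two] at h3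
    exact he1 (eq_one_of_coprime_pows h3 (Q_exp hc Q he) (by norm_num))
  obtain ⟨k, hk⟩ := h9
  rw [hk] at h36 hodd
  have hk4 : k ∣ 4 := Nat.dvd_of_mul_dvd_mul_left (by norm_num : 0 < 9) h36
  have hm : k ∈ Nat.divisors 4 := Nat.mem_divisors.2 ⟨hk4, by norm_num⟩
  have hdiv : Nat.divisors 4 = {1, 2, 4} := by decide +kernel
  rw [hdiv] at hm
  simp only [Finset.mem_insert, Finset.mem_singleton] at hm
  rcases hm with h | h | h
  · rw [hk, h]
  · rw [h] at hodd; omega
  · rw [h] at hodd; omega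

theorem card_cent_e [IsSimpleGroup G] (hc : Nat.card G = 2520) [Fact (Nat.Prime 3)]
    (Q : Sylow 3 G) {e : G} (he : e ∈ (Q : Subgroup G)) (he1 : e ≠ 1) :
    Nat.card (centralizer ({e} : Set G)) = 9 ∨ Nat.card (centralizer ({e} : Set G)) = 36 := by
  have heo : orderOf e = 3 := orderOf_eq_prime (Q_exp hc Q he) he1
  have hQX : (Q : Subgroup G) ≤ centralizer ({e} : Set G) := fun y hy =>
    Subgroup.mem_centralizer_singleton_iff.2 (Qcomm hc Q hy he)
  have hXd := card_cent_dvd_72 hc (x := e) (Or.inr heo)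
  have h9X : 9 ∣ Nat.card (centralizer ({e} : Set G)) := by
    rw [← hQ3 hc Q]
    exact Subgroup.card_dvd_of_le hQX
  obtain ⟨m, hm⟩ := h9X
  have hm8 : m ∣ 8 := by
    rw [hm] at hXd
    exact Nat.dvd_of_mul_dvd_mul_left (by norm_num : 0 < 9) hXd
  have h3m : ¬ 3 ∣ m := fun h => by
    have := h.trans hm8
    omega
  obtain ⟨n, hn, hcard⟩ := count_sylow (p := 3) (a := 2) (m := m) (centralizer ({e} : Set G))
    (Q : Subgroup G) hQX (by rw [hQ3 hc Q]; norm_num) (by rw [hm]; norm_num) h3m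
  rw [inf_norm_eq hc Q he he1, hQ3 hc Q] at hcard
  have hn8 : n ∣ 8 := by
    have : n * 9 ∣ 8 * 9 := by
      rw [← hcard]
      exact hXd
    exact Nat.dvd_of_mul_dvd_mul_right (by norm_num) this
  have hnm : n ∈ Nat.divisors 8 := Nat.mem_divisors.2 ⟨hn8, by norm_num⟩
  have hfil : (Nat.divisors 8).filter (fun n => n % 3 = 1 % 3) = {1, 4} := by decide +kernel
  have hnf : n ∈ (Nat.divisors 8).filter (fun n => n % 3 = 1 % 3) :=
    Finset.mem_filter.2 ⟨hnm, hn⟩
  rw [hfil] at hnf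
  simp only [Finset.mem_insert, Finset.mem_singleton] at hnf
  rcases hnf with h | h
  · left; rw [hcard, h]
  · right; rw [hcard, h]

/-- When the centralizer is even it has order `36`. -/
theorem card_cent_e_even [IsSimpleGroup G] (hc : Nat.card G = 2520) [Fact (Nat.Prime 3)]
    {e u : G} (heo : orderOf e = 3) (hu2 : u ^ 2 = 1) (hu1 : u ≠ 1) (hue : u * e = e * u) :
    Nat.card (centralizer ({e} : Set G)) = 36 := by
  obtain ⟨Q, he⟩ := exists_sylow_mem_of_orderOf heo
  have he1 : e ≠ 1 := by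
    rintro rfl
    rw [orderOf_one] at heo
    omega
  have huo : orderOf u = 2 := orderOf_eq_prime hu2 hu1
  rcases card_cent_e hc Q he he1 with h | h
  · exfalso
    have h2 := two_dvd_card_of_mem huo (F := centralizer ({e} : Set G))
      (Subgroup.mem_centralizer_singleton_iff.2 hue)
    rw [h] at h2
    omega
  · exact h

/-- A general version of the statement that `p'`-elements lie in a normal subgroup of small
index. -/
theorem mem_of_pow_of_normal (A X : Subgroup G) (hAX : A ≤ X)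
    (hA : ∀ g ∈ X, ∀ a ∈ A, g * a * g⁻¹ ∈ A) {w : G} (hw : w ∈ X) {k m : ℕ} (hk : w ^ k = 1)
    (hm : Nat.card X = Nat.card A * m) (hco : Nat.Coprime k m) : w ∈ A := by
  set A' : Subgroup X := A.subgroupOf X with hA'
  haveI hnorm : A'.Normal := by
    constructor
    intro n hn g
    rw [hA', Subgroup.mem_subgroupOf] at hn ⊢
    exact hA g.1 g.2 n.1 hn
  have hAc : Nat.card A' = Nat.card A := Nat.card_congr (Subgroup.subgroupOfEquivOfLe hAX).toEquiv
  have hq : Nat.card (X ⧸ A') = m := by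
    have h1 := Subgroup.card_mul_index A'
    rw [hAc, hm] at h1
    exact Nat.eq_of_mul_eq_mul_left Nat.card_pos h1
  have h2 : ((⟨w, hw⟩ : X) : X ⧸ A') ^ m = 1 := by
    rw [← hq]
    exact pow_card_eq_one'
  have h3 : ((⟨w, hw⟩ : X) : X ⧸ A') ^ k = 1 := by
    rw [← QuotientGroup.mk_pow]
    have : (⟨w, hw⟩ : X) ^ k = 1 := Subtype.ext (by simpa using hk)
    rw [this]
    rfl
  have h4 := eq_one_of_coprime_pows h3 h2 hco
  have h5 := (QuotientGroup.eq_one_iff _).1 h4
  exact Subgroup.mem_subgroupOf.1 h5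

theorem card_nontrivial (P : Subgroup G) : Nat.card {x : G // x ∈ P ∧ x ≠ 1} + 1 = Nat.card P := by
  have h1 := card_sub_add_compl (α := P) (fun x => x = 1)
  have h2 : Nat.card {x : P // x = 1} = 1 := Nat.card_unique
  rw [h2] at h1
  have h3 : Nat.card {x : G // x ∈ P ∧ x ≠ 1} = Nat.card {x : P // ¬ x = 1} := by
    apply Nat.card_congr
    refine ⟨fun x => ⟨⟨x.1, x.2.1⟩, fun h => x.2.2 (congrArg Subtype.val h)⟩,
      fun x => ⟨x.1.1, x.1.2, fun h => x.2 (Subtype.ext h)⟩, ?_, ?_⟩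
    · intro x; rfl
    · intro x; rfl
  omega

/-- The structure of the centralizer of an element of order three with even centralizer. -/
theorem exists_K [IsSimpleGroup G] (hc : Nat.card G = 2520) [Fact (Nat.Prime 3)]
    (Q : Sylow 3 G) {e : G} (he : e ∈ (Q : Subgroup G)) (he1 : e ≠ 1)
    (hcard : Nat.card (centralizer ({e} : Set G)) = 36) :
    ∃ K : Subgroup G, K ≤ centralizer ({e} : Set G) ∧ Nat.card K = 4 ∧
      (∀ g ∈ centralizer ({e} : Set G), ∀ k ∈ K, g * k * g⁻¹ ∈ K) ∧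
      (∀ w ∈ centralizer ({e} : Set G), w ^ 4 = 1 → w ∈ K) ∧
      (∀ a ∈ centralizer ({e} : Set G), ∀ b ∈ centralizer ({e} : Set G), a * b * a⁻¹ * b⁻¹ ∈ K) ∧
      (∀ c ∈ centralizer ({e} : Set G), ∃ p ∈ (Q : Subgroup G), ∃ k ∈ K, c = p * k) ∧
      (∀ k ∈ K, k ^ 2 = 1) := by
  classical
  set Z := centralizer ({e} : Set G) with hZ
  have hQX : (Q : Subgroup G) ≤ Z := fun y hy =>
    Subgroup.mem_centralizer_singleton_iff.2 (Qcomm hc Q hy he)
  have hinf := inf_norm_eq hc Q he he1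
  rw [← hZ] at hinf
  have hQ'c : Nat.card ((Q : Subgroup G).subgroupOf Z) = 9 := by
    rw [Nat.card_congr (Subgroup.subgroupOfEquivOfLe hQX).toEquiv, hQ3 hc Q]
  have hn : Nat.card (Sylow 3 Z) ≠ 1 := by
    intro h1
    have hpg : IsPGroup 3 ((Q : Subgroup G).subgroupOf Z) := IsPGroup.of_card (n := 2) (by rw [hQ'c]; norm_num)
    obtain ⟨R, hR⟩ := hpg.exists_le_sylow
    have hRc : Nat.card (R : Subgroup Z) = 3 ^ 2 :=
      sylow_card_of_card_eq (a := 2) (m := 4) (by rw [hcard]; norm_num) (by norm_num) R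
    have hQR : (Q : Subgroup G).subgroupOf Z = R :=
      Subgroup.eq_of_le_of_card_ge hR (by rw [hRc, hQ'c]; norm_num)
    haveI : Subsingleton (Sylow 3 Z) := (Nat.card_eq_one_iff_unique.1 h1).1
    have hnorm : (R : Subgroup Z).Normal := Sylow.normal_of_subsingleton R
    have hle : Z ≤ normalizer ((Q : Subgroup G) : Set G) := by
      intro g hg
      apply mem_normalizer_of_conj_le
      intro y hy
      have h3 : (⟨y, hQX hy⟩ : Z) ∈ (R : Subgroup Z) := by
        rw [← hQR, Subgroup.mem_subgroupOf]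
        exact hy
      have h4 := hnorm.conj_mem _ h3 ⟨g, hg⟩
      rw [← hQR, Subgroup.mem_subgroupOf] at h4
      exact h4
    rw [inf_eq_left.2 hle] at hinf
    rw [hinf, hQ3 hc Q] at hcard
    omega
  obtain ⟨K', hK'n, hK'c⟩ := Cfsg.Agent.Lib.Order360.exists_normal_four (Y := Z) hcard hn
  set K : Subgroup G := K'.map Z.subtype with hK
  have hKc : Nat.card K = 4 := by
    rw [hK, Subgroup.card_map_of_injective Z.subtype_injective, hK'c]
  have hKZ : K ≤ Z := by
    rintro _ ⟨x, -, rfl⟩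
    exact x.2
  have hmemK : ∀ {x : G} (hx : x ∈ Z), x ∈ K ↔ (⟨x, hx⟩ : Z) ∈ K' := by
    intro x hx
    constructor
    · rintro ⟨y, hy, rfl⟩
      exact hy
    · intro h
      exact ⟨⟨x, hx⟩, h, rfl⟩
  have hnormal : ∀ g ∈ Z, ∀ k ∈ K, g * k * g⁻¹ ∈ K := by
    intro g hg k hk
    rw [hmemK (Z.mul_mem (Z.mul_mem hg (hKZ hk)) (Z.inv_mem hg))]
    exact hK'n.conj_mem _ ((hmemK (hKZ hk)).1 hk) ⟨g, hg⟩
  have hpow : ∀ w ∈ Z, w ^ 4 = 1 → w ∈ K := by
    intro w hw hw4
    exact mem_of_pow_of_normal K Z hKZ hnormal hw hw4 (m := 9) (by rw [hcard, hKc]) (by norm_num)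
  have hq9 : Nat.card (Z ⧸ K') = 9 := by
    have h1 := Subgroup.card_mul_index K'
    rw [hK'c, hcard] at h1
    have h2 : K'.index = 9 := by omega
    exact h2
  have hcomm : ∀ a ∈ Z, ∀ b ∈ Z, a * b * a⁻¹ * b⁻¹ ∈ K := by
    intro a ha b hb
    have hq : ∀ x y : Z ⧸ K', x * y = y * x :=
      fun x y => (IsPGroup.isMulCommutative_of_card_eq_prime_sq (p := 3)
        (by rw [hq9]; norm_num)).is_comm.comm x y
    have ha' : a⁻¹ ∈ Z := Z.inv_mem ha
    have hb' : b⁻¹ ∈ Z := Z.inv_mem hb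
    have h1 := hq ((⟨b⁻¹, hb'⟩ : Z) : Z ⧸ K') ((⟨a⁻¹, ha'⟩ : Z) : Z ⧸ K')
    rw [← QuotientGroup.mk_mul, ← QuotientGroup.mk_mul, QuotientGroup.eq] at h1
    have h2 : a * b * a⁻¹ * b⁻¹ = Z.subtype (((⟨b⁻¹, hb'⟩ : Z) * (⟨a⁻¹, ha'⟩ : Z))⁻¹ *
        ((⟨a⁻¹, ha'⟩ : Z) * (⟨b⁻¹, hb'⟩ : Z))) := by
      simp only [map_mul, map_inv, Subgroup.subtype_apply]
      group
    rw [h2]
    exact ⟨_, h1, rfl⟩
  have hdecomp : ∀ c ∈ Z, ∃ p ∈ (Q : Subgroup G), ∃ k ∈ K, c = p * k := by
    have htop : (Q : Subgroup G).subgroupOf Z ⊔ K' = ⊤ := by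
      apply Subgroup.eq_top_of_card_eq
      have h9 : 9 ∣ Nat.card ↥((Q : Subgroup G).subgroupOf Z ⊔ K') := by
        rw [← hQ'c]
        exact Subgroup.card_dvd_of_le le_sup_left
      have h4 : 4 ∣ Nat.card ↥((Q : Subgroup G).subgroupOf Z ⊔ K') := by
        rw [← hK'c]
        exact Subgroup.card_dvd_of_le le_sup_right
      have h36 : 9 * 4 ∣ Nat.card ↥((Q : Subgroup G).subgroupOf Z ⊔ K') :=
        Nat.Coprime.mul_dvd_of_dvd_of_dvd (by norm_num) h9 h4
      have hd : Nat.card ↥((Q : Subgroup G).subgroupOf Z ⊔ K') ∣ 36 := by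
        rw [← hcard]
        exact Subgroup.card_subgroup_dvd_card _
      rw [hcard]
      exact Nat.dvd_antisymm hd h36
    intro c hc'
    have hmem : (⟨c, hc'⟩ : Z) ∈ (Q : Subgroup G).subgroupOf Z ⊔ K' := by
      rw [htop]
      trivial
    obtain ⟨p, hp, k, hk, hpk⟩ := Subgroup.mem_sup_of_normal_right.1 hmem
    refine ⟨p.1, Subgroup.mem_subgroupOf.1 hp, k.1, ⟨k, hk, rfl⟩, ?_⟩
    exact (congrArg Subtype.val hpk).symm
  have hsq : ∀ k ∈ K, k ^ 2 = 1 := by
    intro k hk
    by_contra hk2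
    have hk4 : k ^ 4 = 1 := by
      have := pow_card_eq_one' (x := (⟨k, hk⟩ : K))
      rw [hKc] at this
      have h2 := congrArg (fun z : K => (z : G)) this
      simpa using h2
    haveI : Fact (Nat.Prime 2) := ⟨Nat.prime_two⟩
    have ho : orderOf k = 4 := by
      have : orderOf k = 2 ^ (1 + 1) := by
        apply orderOf_eq_prime_pow
        · simpa using hk2
        · simpa using hk4
      simpa using this
    have hKz : zpowers k = K :=
      Subgroup.eq_of_le_of_card_ge (Subgroup.zpowers_le.2 hk) (by rw [hKc, Nat.card_zpowers, ho])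
    have hcommQ : k ∈ centralizer ((Q : Subgroup G) : Set G) := by
      rw [Subgroup.mem_centralizer_iff]
      intro p hp
      have hp' : p ∈ (Q : Subgroup G) := hp
      have h1 : p * k * p⁻¹ ∈ K := hnormal p (hQX hp') k hk
      have h2 : orderOf (p * k * p⁻¹) = 4 := by rw [orderOf_conj', ho]
      rw [← hKz] at h1
      rcases eq_of_mem_zpowers_order_four ho h1 h2 with h | h
      · calc p * k = (p * k * p⁻¹) * p := by group
          _ = k * p := by rw [h]
      · exfalso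
        have h3 : p ^ 3 = 1 := Q_exp hc Q hp'
        have h4 : p * k * p⁻¹ = k ^ 3 := by
          rw [h, inv_eq_of_mul_eq_one_right]
          rw [← pow_succ', hk4]
        have h5 := conj_iter h4 3
        rw [h3] at h5
        simp only [one_mul, inv_one, mul_one] at h5
        have h6 : k ^ 3 ^ 3 = (k ^ 4) ^ 6 * k ^ 3 := by
          rw [← pow_mul, ← pow_add]
          norm_num
        rw [h6, hk4] at h5
        simp only [one_pow, one_mul] at h5
        apply hk2
        have h7 : k * k ^ 2 = k * 1 := by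
          rw [mul_one, ← pow_succ']
          exact h5.symm
        exact mul_left_cancel h7
    rw [Q_cent_eq hc Q] at hcommQ
    apply hk2
    rw [eq_one_of_coprime_pows hk4 (Q_pow_nine hc Q hcommQ) (by norm_num)]
    simp
  exact ⟨K, hKZ, hKc, hnormal, hpow, hcomm, hdecomp, hsq⟩

theorem conj_mem_cent_of_invert {e g c : G} (hg : g * e * g⁻¹ = e⁻¹)
    (hc : c ∈ centralizer ({e} : Set G)) : g * c * g⁻¹ ∈ centralizer ({e} : Set G) := by
  rw [Subgroup.mem_centralizer_singleton_iff]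
  have h1 : c * e = e * c := Subgroup.mem_centralizer_singleton_iff.1 hc
  have h2 : e = g * e⁻¹ * g⁻¹ := by
    rw [eq_comm]
    calc g * e⁻¹ * g⁻¹ = (g * e * g⁻¹)⁻¹ := by group
      _ = e := by rw [hg, inv_inv]
  have h3 : c * e⁻¹ = e⁻¹ * c := by
    have := (show Commute c e from h1).inv_right
    exact this.eq
  calc g * c * g⁻¹ * e = g * c * g⁻¹ * (g * e⁻¹ * g⁻¹) := by rw [← h2]
    _ = g * (c * e⁻¹) * g⁻¹ := by group
    _ = g * (e⁻¹ * c) * g⁻¹ := by rw [h3]
    _ = (g * e⁻¹ * g⁻¹) * (g * c * g⁻¹) := by group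
    _ = e * (g * c * g⁻¹) := by rw [← h2]

/-- The key relation. -/
theorem key_relation [IsSimpleGroup G] (hc : Nat.card G = 2520) [Fact (Nat.Prime 3)]
    (Q : Sylow 3 G) {e : G} (he : e ∈ (Q : Subgroup G)) (he1 : e ≠ 1)
    (hcard : Nat.card (centralizer ({e} : Set G)) = 36) {x c : G} (hx : x * e * x⁻¹ = e⁻¹)
    (hcc : c ∈ centralizer ({e} : Set G)) : (c * (x * c * x⁻¹)) ^ 2 = 1 := by
  obtain ⟨K, hKZ, hKc, hnormal, hpow, hcomm, hdecomp, hsq⟩ := exists_K hc Q he he1 hcard
  obtain ⟨τ, hτN, hτ2, hτ1⟩ := exists_invol_norm hc Q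
  have hτe := inverts hc Q hτN hτ2 hτ1 he
  apply hsq
  set Z := centralizer ({e} : Set G) with hZ
  have hτinv : τ⁻¹ = τ := inv_eq_of_mul_eq_one_left (by rw [← pow_two, hτ2])
  set z := x * τ⁻¹ with hz
  have hzZ : z ∈ Z := by
    rw [hZ, Subgroup.mem_centralizer_singleton_iff]
    have h1 : τ⁻¹ * e * τ = e⁻¹ := by
      rw [hτinv]
      nth_rw 2 [← hτinv]
      exact hτe
    have h2 : x * e⁻¹ * x⁻¹ = e := by
      calc x * e⁻¹ * x⁻¹ = (x * e * x⁻¹)⁻¹ := by group
        _ = e := by rw [hx, inv_inv]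
    have h3 : z * e * z⁻¹ = e := by
      calc z * e * z⁻¹ = x * (τ⁻¹ * e * τ) * x⁻¹ := by rw [hz]; group
        _ = e := by rw [h1, h2]
    calc z * e = (z * e * z⁻¹) * z := by group
      _ = e * z := by rw [h3]
  have hτQ : ∀ p ∈ (Q : Subgroup G), τ * p * τ⁻¹ = p⁻¹ := fun p hp => inverts hc Q hτN hτ2 hτ1 hp
  have hQX : (Q : Subgroup G) ≤ Z := fun y hy =>
    Subgroup.mem_centralizer_singleton_iff.2 (Qcomm hc Q hy he)
  obtain ⟨p, hp, k, hk, hck⟩ := hdecomp c hcc
  have hc₁ : τ * c * τ⁻¹ ∈ Z := conj_mem_cent_of_invert hτe hcc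
  have hk₁Z : τ * k * τ⁻¹ ∈ Z := conj_mem_cent_of_invert hτe (hKZ hk)
  have hk₁ : τ * k * τ⁻¹ ∈ K := by
    apply hpow _ hk₁Z
    rw [conj_pow]
    have : k ^ 4 = 1 := by
      rw [show 4 = 2 * 2 by norm_num, pow_mul, hsq k hk, one_pow]
    rw [this]
    group
  have hcc₁ : c * (τ * c * τ⁻¹) ∈ K := by
    have h1 : c * (τ * c * τ⁻¹) = (p * k * p⁻¹) * (τ * k * τ⁻¹) := by
      rw [hck]
      calc p * k * (τ * (p * k) * τ⁻¹) = p * k * ((τ * p * τ⁻¹) * (τ * k * τ⁻¹)) := by group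
        _ = p * k * (p⁻¹ * (τ * k * τ⁻¹)) := by rw [hτQ p hp]
        _ = (p * k * p⁻¹) * (τ * k * τ⁻¹) := by group
    rw [h1]
    exact K.mul_mem (hnormal p (hQX hp) k hk) hk₁
  have hcomm' := hcomm (τ * c * τ⁻¹)⁻¹ (Z.inv_mem hc₁) z hzZ
  have h5 : c * (x * c * x⁻¹) =
      (c * (τ * c * τ⁻¹)) * ((τ * c * τ⁻¹)⁻¹ * z * (τ * c * τ⁻¹)⁻¹⁻¹ * z⁻¹) := by
    have hxz : x = z * τ := by rw [hz]; group
    rw [hxz]
    group
  rw [h5]
  exact K.mul_mem hcc₁ hcomm'

/-- The subgroup generated by an element of order three in the centralizer of an involution is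
normal there. -/
theorem cent_le_norm_zpowers [IsSimpleGroup G] (hc : Nat.card G = 2520) [Fact (Nat.Prime 3)]
    {u y : G} (hu2 : u ^ 2 = 1) (hu1 : u ≠ 1) (hy : orderOf y = 3) (huy : u * y = y * u) :
    centralizer ({u} : Set G) ≤ normalizer ((zpowers y : Subgroup G) : Set G) := by
  classical
  obtain ⟨Q, hyQ⟩ := exists_sylow_mem_of_orderOf hy
  have hy1 : y ≠ 1 := by
    rintro rfl
    rw [orderOf_one] at hy
    omega
  have hcard := card_cent_e_even hc hy hu2 hu1 huy
  obtain ⟨K, hKZ, hKc, hnormal, hpow, hcomm, hdecomp, hsq⟩ := exists_K hc Q hyQ hy1 hcard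
  have huZ : u ∈ centralizer ({y} : Set G) := Subgroup.mem_centralizer_singleton_iff.2 huy
  have huK : u ∈ K := by
    apply hpow u huZ
    rw [show 4 = 2 * 2 by norm_num, pow_mul, hu2, one_pow]
  have h1 := card_orbit_conj (centralizer ({y} : Set G)) u
  rw [hcard] at h1
  have hK3 : Nat.card {x : G // x ∈ K ∧ x ≠ 1} = 3 := by
    have := card_nontrivial K
    omega
  let f : {x : G // ∃ g ∈ centralizer ({y} : Set G), g * u * g⁻¹ = x} → {x : G // x ∈ K ∧ x ≠ 1} :=
    fun x => ⟨x.1, by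
      obtain ⟨g, hg, h⟩ := x.2
      rw [← h]
      refine ⟨hnormal g hg u huK, ?_⟩
      intro h0
      apply hu1
      have : u = g⁻¹ * (g * u * g⁻¹) * g := by group
      rw [this, h0]
      group⟩
  have hfinj : Function.Injective f := by
    intro a b hab
    exact Subtype.ext (congrArg (fun z => z.1) hab)
  have hle := Nat.card_le_card_of_injective f hfinj
  rw [hK3] at hle
  have h12 : 12 ≤ Nat.card ↥(centralizer ({y} : Set G) ⊓ centralizer ({u} : Set G)) := by
    by_contra hlt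
    push Not at hlt
    have : Nat.card {x : G // ∃ g ∈ centralizer ({y} : Set G), g * u * g⁻¹ = x} *
        Nat.card ↥(centralizer ({y} : Set G) ⊓ centralizer ({u} : Set G)) ≤ 3 * 11 :=
      Nat.mul_le_mul hle (by omega)
    omega
  have hU := card_cent_invol hc hu2 hu1
  have hyU : y ∈ centralizer ({u} : Set G) := Subgroup.mem_centralizer_singleton_iff.2 huy.symm
  obtain ⟨n, hn, hcard'⟩ := count_sylow (p := 3) (a := 1) (m := 8) (centralizer ({u} : Set G))
    (zpowers y) (Subgroup.zpowers_le.2 hyU)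
    (by rw [Nat.card_zpowers, hy]; norm_num) (by rw [hU]; norm_num) (by norm_num)
  have hle2 : centralizer ({y} : Set G) ⊓ centralizer ({u} : Set G) ≤
      centralizer ({u} : Set G) ⊓ normalizer ((zpowers y : Subgroup G) : Set G) := by
    intro x hx
    exact Subgroup.mem_inf.2 ⟨(Subgroup.mem_inf.1 hx).2,
      centralizer_le_normalizer_zpowers y (Subgroup.mem_inf.1 hx).1⟩
  have hle3 := Subgroup.card_le_of_le hle2
  rw [hU] at hcard'
  have hd : n ∣ 24 := by
    rw [hcard']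
    exact Dvd.intro _ rfl
  have hnm : n ∈ Nat.divisors 24 := Nat.mem_divisors.2 ⟨hd, by norm_num⟩
  have hfil : (Nat.divisors 24).filter (fun n => n % 3 = 1 % 3) = {1, 4} := by decide +kernel
  have hnf : n ∈ (Nat.divisors 24).filter (fun n => n % 3 = 1 % 3) :=
    Finset.mem_filter.2 ⟨hnm, hn⟩
  rw [hfil] at hnf
  simp only [Finset.mem_insert, Finset.mem_singleton] at hnf
  rcases hnf with h | h
  · rw [h, one_mul] at hcard'
    have heq : centralizer ({u} : Set G) ⊓ normalizer ((zpowers y : Subgroup G) : Set G) =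
        centralizer ({u} : Set G) :=
      Subgroup.eq_of_le_of_card_ge inf_le_left (by rw [hU, ← hcard'])
    exact inf_eq_left.1 heq
  · rw [h] at hcard'
    omega

/-- Elements of order three in the centralizer of an involution generate the same subgroup. -/
theorem mem_zpowers_of_cent [IsSimpleGroup G] (hc : Nat.card G = 2520) [Fact (Nat.Prime 3)]
    {u y w : G} (hu2 : u ^ 2 = 1) (hu1 : u ≠ 1) (hy : orderOf y = 3) (huy : u * y = y * u)
    (huw : u * w = w * u) (hw : w ^ 3 = 1) : w ∈ zpowers y := by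
  have hle := cent_le_norm_zpowers hc hu2 hu1 hy huy
  have hU := card_cent_invol hc hu2 hu1
  have hyU : y ∈ centralizer ({u} : Set G) := Subgroup.mem_centralizer_singleton_iff.2 huy.symm
  refine mem_of_pow_of_normal (zpowers y) (centralizer ({u} : Set G)) (Subgroup.zpowers_le.2 hyU) ?_
    (Subgroup.mem_centralizer_singleton_iff.2 huw.symm) hw (m := 8) (by
      rw [hU, Nat.card_zpowers, hy]) (by norm_num)
  intro g hg a ha
  exact (Subgroup.mem_normalizer_iff.1 (hle hg) a).1 ha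

end Cfsg.Agent.Lib.A7Ord
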