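import Mathlib
import Cfsg.Agent.Lib.A7Ord8
import Cfsg.Agent.Lib.SylowConjLemmas

/-!
# Simple groups of order 2520: the action on thirty-five points
-/

set_option autoImplicit false
set_option linter.style.haveILetI false
set_option linter.unusedSectionVars false
set_option linter.unusedVariables false

namespace Cfsg.Agent.Lib.A7Ord

open Subgroup Cfsg.Agent.Lib.SmallGroups2 Cfsg.Agent.Lib.SmallGroups3 Cfsg.Agent.Lib.J1Ord
open Cfsg.Agent.Lib.TwoLocal Cfsg.Agent.Lib.TwoLocal2 Cfsg.Agent.Lib.TwoLocal3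

variable {G : Type*} [Group G] [Finite G]

/-- An involution cannot centralize a Klein four-group not containing it. -/
theorem not_cent_K [IsSimpleGroup G] (hc : Nat.card G = 2520) (K : Subgroup G) (hKc : Nat.card K = 4)
    (hsq : ∀ k ∈ K, k ^ 2 = 1) {τ : G} (hτ2 : τ ^ 2 = 1) (hτK : τ ∉ K)
    (hcomm : ∀ k ∈ K, τ * k = k * τ) : False := by
  haveI : Fact (Nat.Prime 2) := ⟨Nat.prime_two⟩
  have hτinv : τ⁻¹ = τ := inv_eq_of_mul_eq_one_left (by rw [← pow_two, hτ2])
  have hττ : τ * τ = 1 := by rw [← pow_two, hτ2]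
  let M : Subgroup G :=
    { carrier := {g | g ∈ K ∨ τ * g ∈ K}
      mul_mem' := by
        rintro a b (ha | ha) (hb | hb)
        · exact Or.inl (K.mul_mem ha hb)
        · right
          have h1 : τ * (a * b) = a * (τ * b) := by
            rw [← mul_assoc, hcomm a ha, mul_assoc]
          rw [h1]
          exact K.mul_mem ha hb
        · right
          rw [← mul_assoc]
          exact K.mul_mem ha hb
        · left
          have h1 : a * b = (τ * a) * (τ * b) := by
            calc a * b = (τ * (τ * a)) * b := by rw [← mul_assoc, hττ, one_mul]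
              _ = (τ * (τ * a)) * (τ * (τ * b)) := by rw [← mul_assoc τ τ b, hττ, one_mul]
              _ = τ * ((τ * a) * τ) * (τ * b) := by group
              _ = τ * (τ * (τ * a)) * (τ * b) := by rw [← hcomm (τ * a) ha]
              _ = (τ * τ) * ((τ * a) * (τ * b)) := by group
              _ = (τ * a) * (τ * b) := by rw [hττ, one_mul]
          rw [h1]
          exact K.mul_mem ha hb
      one_mem' := Or.inl K.one_mem
      inv_mem' := by
        rintro a (ha | ha)
        · exact Or.inl (K.inv_mem ha)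
        · right
          have h2 := hcomm (τ * a)⁻¹ (K.inv_mem ha)
          rw [mul_inv_rev, hτinv] at h2
          have h3 : τ * a⁻¹ = (τ * a)⁻¹ := by
            calc τ * a⁻¹ = (τ * (a⁻¹ * τ)) * τ := by
                  rw [mul_assoc, mul_assoc, hττ, mul_one]
              _ = (a⁻¹ * τ * τ) * τ := by rw [h2]
              _ = a⁻¹ * τ := by rw [mul_assoc a⁻¹, hττ, mul_one]
              _ = (τ * a)⁻¹ := by rw [mul_inv_rev, hτinv]
          rw [h3]
          exact K.inv_mem ha }
  have hMsq : ∀ x ∈ M, x ^ 2 = 1 := by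
    rintro x (hx | hx)
    · exact hsq x hx
    · have h1 : x = τ * (τ * x) := by rw [← mul_assoc, hττ, one_mul]
      rw [h1, pow_two]
      calc τ * (τ * x) * (τ * (τ * x)) = τ * ((τ * x) * τ) * (τ * x) := by group
        _ = τ * (τ * (τ * x)) * (τ * x) := by rw [← hcomm (τ * x) hx]
        _ = (τ * τ) * (τ * x) ^ 2 := by rw [pow_two]; group
        _ = 1 := by rw [hττ, hsq _ hx, one_mul]
  have hpM : IsPGroup 2 M := by
    intro x
    refine ⟨1, ?_⟩
    apply Subtype.ext
    simpa using hMsq x.1 x.2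
  obtain ⟨S, hS⟩ := hpM.exists_le_sylow
  have hSc : Nat.card (S : Subgroup G) = 8 := by
    have := sylow_card_of_card_eq (G := G) (p := 2) (a := 3) (m := 315) (by rw [hc]; norm_num)
      (by norm_num) S
    simpa using this
  have hKM : K ≤ M := fun k hk => Or.inl hk
  have hτM : τ ∈ M := Or.inr (by rw [hττ]; exact K.one_mem)
  have hMc : Nat.card M = 8 := by
    have h4 : 4 ∣ Nat.card M := by
      rw [← hKc]
      exact Subgroup.card_dvd_of_le hKM
    have h8 : Nat.card M ∣ 8 := by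
      rw [← hSc]
      exact Subgroup.card_dvd_of_le hS
    have hne : Nat.card M ≠ 4 := by
      intro h
      have heq : K = M := Subgroup.eq_of_le_of_card_ge hKM (by rw [h, hKc])
      rw [← heq] at hτM
      exact hτK hτM
    obtain ⟨k, hk⟩ := h4
    rw [hk] at h8 hne ⊢
    have hk2 : k ∣ 2 := Nat.dvd_of_mul_dvd_mul_left (by norm_num : 0 < 4) h8
    rcases (Nat.dvd_prime Nat.prime_two).1 hk2 with h | h
    · rw [h] at hne
      exact absurd rfl hne
    · rw [h]
  have hMS : M = S := Subgroup.eq_of_le_of_card_ge hS (by rw [hSc, hMc])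
  obtain ⟨φ, ho⟩ := exists_order_four_global (G := G) hc
  have hz : IsPGroup 2 (zpowers φ) := by
    rw [IsPGroup.iff_card, Nat.card_zpowers, ho]
    exact ⟨2, by norm_num⟩
  obtain ⟨k, -, hk⟩ := Cfsg.Agent.Lib.SylowConjLemmas.exists_conj_mem_of_le S ⊤ le_top (zpowers φ)
    hz le_top
  have h1 := hk φ (mem_zpowers φ)
  rw [← hMS] at h1
  have h2 := hMsq _ h1
  rw [conj_pow] at h2
  apply sq_ne_one_of_four ho
  have h3 : φ ^ 2 = k⁻¹ * (k * φ ^ 2 * k⁻¹) * k := by group
  rw [h3, h2]
  group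

/-- The number of fixed points of an involution on the conjugates of `⟨y⟩`. -/
theorem card_fix_ge [IsSimpleGroup G] (hc : Nat.card G = 2520) [Fact (Nat.Prime 3)]
    (Q : Sylow 3 G) {y : G} (hyQ : y ∈ (Q : Subgroup G)) (hy1 : y ≠ 1)
    (hcard : Nat.card (centralizer ({y} : Set G)) = 36) {t : G} (ht2 : t ^ 2 = 1) (ht1 : t ≠ 1)
    (htH : t ∈ normalizer ((zpowers y : Subgroup G) : Set G)) :
    7 ≤ Nat.card (MulAction.fixedBy (G ⧸ normalizer ((zpowers y : Subgroup G) : Set G)) t) := by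
  classical
  have hyo : orderOf y = 3 := orderOf_eq_prime (Q_exp hc Q hyQ) hy1
  obtain ⟨K, hKZ, hKc, hnormal, hpow, hcomm, hdecomp, hsq⟩ := exists_K hc Q hyQ hy1 hcard
  obtain ⟨τ, hτN, hτ2, hτ1⟩ := exists_invol_norm hc Q
  have hτy : τ * y * τ⁻¹ = y⁻¹ := inverts hc Q hτN hτ2 hτ1 hyQ
  have hyne : y⁻¹ ≠ y := by
    intro h
    rw [inv_eq_iff_mul_eq_one, ← pow_two] at h
    exact hy1 (eq_one_of_coprime_pows h (Q_exp hc Q hyQ) (by norm_num))
  set Z := centralizer ({y} : Set G) with hZ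
  set H := normalizer ((zpowers y : Subgroup G) : Set G) with hH
  have hτH : τ ∈ H := mem_normalizer_of_conj_mem (by rw [hτy]; exact Subgroup.inv_mem _ (mem_zpowers y))
  have hτZ : τ ∉ Z := by
    intro h
    have h1 : τ * y = y * τ := Subgroup.mem_centralizer_singleton_iff.1 h
    apply hyne
    rw [← hτy, h1]
    group
  have hHc : Nat.card H = 72 := by
    rw [hH, card_norm_zpowers_eq hyo hτH hτZ, ← hZ, hcard]
  have hHindex : H.index = 35 := by
    have h6 := Subgroup.card_mul_index H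
    rw [hc, hHc] at h6
    omega
  have hZH : Z ≤ H := centralizer_le_normalizer_zpowers y
  have hcl := card_class_mul_cent t
  rw [card_cent_invol hc ht2 ht1, hc] at hcl
  have hcl' : Nat.card {g : G // IsConj t g} = 105 := by omega
  have hS := Cfsg.Agent.S1019.result H t htH
  rw [hcl', hHindex] at hS
  suffices hW : 21 ≤ Nat.card {g : G // IsConj t g ∧ g ∈ H} by omega
  have hinf : Nat.card ↥(Z ⊓ centralizer ({τ} : Set G)) ≤ 2 := by
    have hle : Z ⊓ centralizer ({τ} : Set G) ≤ K ⊓ centralizer ({τ} : Set G) := by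
      intro c hcm
      obtain ⟨hcZ, hcτ⟩ := Subgroup.mem_inf.1 hcm
      refine Subgroup.mem_inf.2 ⟨?_, hcτ⟩
      apply hpow c hcZ
      have h1 := key_relation hc Q hyQ hy1 hcard hτy hcZ
      have h2 : c * τ = τ * c := Subgroup.mem_centralizer_singleton_iff.1 hcτ
      have h3 : τ * c * τ⁻¹ = c := by
        rw [← h2]
        group
      rw [h3] at h1
      have h4 : c ^ 4 = (c * c) ^ 2 := by rw [← pow_two, ← pow_mul]
      rw [h4]
      exact h1
    have hne : K ⊓ centralizer ({τ} : Set G) ≠ K := by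
      intro h
      refine not_cent_K hc K hKc hsq hτ2 (fun h' => hτZ (hKZ h')) ?_
      intro k hk
      rw [← h] at hk
      have h2 := Subgroup.mem_centralizer_singleton_iff.1 (Subgroup.mem_inf.1 hk).2
      exact h2.symm
    have h1 : Nat.card ↥(K ⊓ centralizer ({τ} : Set G)) ∣ 4 := by
      rw [← hKc]
      exact Subgroup.card_dvd_of_le inf_le_left
    have h2 : Nat.card ↥(K ⊓ centralizer ({τ} : Set G)) ≠ 4 := by
      intro h
      apply hne
      exact Subgroup.eq_of_le_of_card_ge inf_le_left (by rw [h, hKc])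
    have h3 := Subgroup.card_le_of_le hle
    have hm : Nat.card ↥(K ⊓ centralizer ({τ} : Set G)) ∈ Nat.divisors 4 :=
      Nat.mem_divisors.2 ⟨h1, by norm_num⟩
    have hdiv : Nat.divisors 4 = {1, 2, 4} := by decide +kernel
    rw [hdiv] at hm
    simp only [Finset.mem_insert, Finset.mem_singleton] at hm
    omega
  have hA : 18 ≤ Nat.card {x : G // ∃ g ∈ Z, g * τ * g⁻¹ = x} := by
    have h1 := card_orbit_conj Z τ
    rw [hcard] at h1
    by_contra hlt
    push Not at hlt
    have : Nat.card {x : G // ∃ g ∈ Z, g * τ * g⁻¹ = x} *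
        Nat.card ↥(Z ⊓ centralizer ({τ} : Set G)) ≤ 17 * 2 :=
      Nat.mul_le_mul (by omega) hinf
    omega
  have hB : Nat.card {x : G // x ∈ K ∧ x ≠ 1} = 3 := by
    have := card_nontrivial K
    omega
  have hτinv : τ⁻¹ = τ := inv_eq_of_mul_eq_one_left (by rw [← pow_two, hτ2])
  let F : {x : G // ∃ g ∈ Z, g * τ * g⁻¹ = x} ⊕ {x : G // x ∈ K ∧ x ≠ 1} →
      {g : G // IsConj t g ∧ g ∈ H} :=
    Sum.elim
      (fun a => ⟨a.1, by
        obtain ⟨g, hg, h⟩ := a.2
        have ha2 : a.1 ^ 2 = 1 := by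
          rw [← h, conj_pow, hτ2]
          group
        have ha1 : a.1 ≠ 1 := by
          rw [← h]
          intro h0
          apply hτ1
          have : τ = g⁻¹ * (g * τ * g⁻¹) * g := by group
          rw [this, h0]
          group
        obtain ⟨c, hc'⟩ := invol_conj' hc ht2 ht1 ha2 ha1
        refine ⟨isConj_iff.2 ⟨c, hc'⟩, ?_⟩
        rw [← h]
        exact H.mul_mem (H.mul_mem (hZH hg) hτH) (H.inv_mem (hZH hg))⟩)
      (fun b => ⟨b.1, by
        obtain ⟨c, hc'⟩ := invol_conj' hc ht2 ht1 (hsq b.1 b.2.1) b.2.2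
        exact ⟨isConj_iff.2 ⟨c, hc'⟩, hZH (hKZ b.2.1)⟩⟩)
  have hFinj : Function.Injective F := by
    rintro (a | a) (b | b) hab
    · have h1 : a.1 = b.1 := congrArg (fun z : {g : G // IsConj t g ∧ g ∈ H} => z.1) hab
      rw [Subtype.ext h1]
    · exfalso
      have h1 : a.1 = b.1 := congrArg (fun z : {g : G // IsConj t g ∧ g ∈ H} => z.1) hab
      have h2 : a.1 ∈ Z := by
        rw [h1]
        exact hKZ b.2.1
      obtain ⟨g, hg, h⟩ := a.2
      apply hτZ
      rw [← h] at h2
      have h3 : τ = g⁻¹ * (g * τ * g⁻¹) * g := by group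
      rw [h3]
      exact Z.mul_mem (Z.mul_mem (Z.inv_mem hg) h2) hg
    · exfalso
      have h1 : a.1 = b.1 := congrArg (fun z : {g : G // IsConj t g ∧ g ∈ H} => z.1) hab
      have h2 : b.1 ∈ Z := by
        rw [← h1]
        exact hKZ a.2.1
      obtain ⟨g, hg, h⟩ := b.2
      apply hτZ
      rw [← h] at h2
      have h3 : τ = g⁻¹ * (g * τ * g⁻¹) * g := by group
      rw [h3]
      exact Z.mul_mem (Z.mul_mem (Z.inv_mem hg) h2) hg
    · have h1 : a.1 = b.1 := congrArg (fun z : {g : G // IsConj t g ∧ g ∈ H} => z.1) hab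
      rw [Subtype.ext h1]
  have hle := Nat.card_le_card_of_injective F hFinj
  rw [Nat.card_sum, hB] at hle
  omega

/-- Every point of the action on thirty-five points is moved by `t` like by an element of the Sylow
`5`-subgroup. -/
theorem exists_rep [IsSimpleGroup G] (hc : Nat.card G = 2520) [Fact (Nat.Prime 5)] (P : Sylow 5 G)
    (H : Subgroup G) (hH : Nat.card H = 72) {t : G} (ht2 : t ^ 2 = 1)
    (htP : ∀ r ∈ (P : Subgroup G), t * r * t⁻¹ = r⁻¹)
    (hfix : 7 ≤ Nat.card (MulAction.fixedBy (G ⧸ H) t)) (b : G ⧸ H) :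
    ∃ h ∈ (P : Subgroup G), t • b = h • b := by
  classical
  have hindex : H.index = 35 := by
    have h6 := Subgroup.card_mul_index H
    rw [hc, hH] at h6
    omega
  have hcardY : Nat.card (G ⧸ H) = 35 := hindex
  have hP := hP5 (G := G) hc
  have hr5 : ∀ r ∈ (P : Subgroup G), r ^ 5 = 1 := by
    intro r hr
    have := pow_card_eq_one' (x := (⟨r, hr⟩ : (P : Subgroup G)))
    rw [hP P] at this
    have h2 := congrArg (fun z : (P : Subgroup G) => (z : G)) this
    simpa using h2
  have hfree : ∀ r ∈ (P : Subgroup G), ∀ x : G ⧸ H, r • x = x → r = 1 := by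
    intro r hr x hx
    obtain ⟨g, rfl⟩ := QuotientGroup.mk_surjective x
    by_contra hr1
    have h1 : ((r * g : G) : G ⧸ H) = (g : G ⧸ H) := hx
    rw [QuotientGroup.eq] at h1
    have ho : orderOf r = 5 := orderOf_eq_prime (hr5 r hr) hr1
    have h2 : (r * g)⁻¹ * g = g⁻¹ * r⁻¹ * g⁻¹⁻¹ := by group
    rw [h2] at h1
    have h3 := Subgroup.orderOf_dvd_natCard H h1
    rw [orderOf_conj', orderOf_inv, ho, hH] at h3
    omega
  let Ψ : ↥(P : Subgroup G) × MulAction.fixedBy (G ⧸ H) t → G ⧸ H := fun p => (p.1 : G) • p.2.1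
  have htfix : ∀ a : MulAction.fixedBy (G ⧸ H) t, t • a.1 = a.1 := fun a => a.2
  have hconj : ∀ r ∈ (P : Subgroup G), ∀ a : MulAction.fixedBy (G ⧸ H) t,
      t • (r • a.1) = r⁻¹ • a.1 := by
    intro r hr a
    calc t • (r • a.1) = (t * r) • a.1 := by rw [mul_smul]
      _ = ((t * r * t⁻¹) * t) • a.1 := by rw [inv_mul_cancel_right]
      _ = (t * r * t⁻¹) • (t • a.1) := by rw [mul_smul]
      _ = r⁻¹ • a.1 := by rw [htfix a, htP r hr]
  have hinj : Function.Injective Ψ := by
    rintro ⟨h₁, a₁⟩ ⟨h₂, a₂⟩ heq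
    have heq' : (h₁ : G) • a₁.1 = (h₂ : G) • a₂.1 := heq
    set r : G := (h₂ : G)⁻¹ * h₁ with hr
    have hrP : r ∈ (P : Subgroup G) := Subgroup.mul_mem _ (Subgroup.inv_mem _ h₂.2) h₁.2
    have h1 : r • a₁.1 = a₂.1 := by
      rw [hr, mul_smul, heq', ← mul_smul, inv_mul_cancel, one_smul]
    have h2 : r⁻¹ • a₁.1 = a₂.1 := by
      rw [← hconj r hrP a₁, h1]
      exact htfix a₂
    have h3 : (r * r) • a₁.1 = a₁.1 := by
      rw [mul_smul, h1, ← h2, ← mul_smul, mul_inv_cancel, one_smul]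
    have h4 := hfree (r * r) (Subgroup.mul_mem _ hrP hrP) _ h3
    have h5 : r = 1 := eq_one_of_coprime_pows (a := 2) (b := 5) (by rw [pow_two]; exact h4)
      (hr5 r hrP) (by norm_num)
    have h6 : (h₁ : G) = h₂ := by
      rw [hr, inv_mul_eq_one] at h5
      exact h5.symm
    have h7 : a₁.1 = a₂.1 := by
      rw [← h1, h5, one_smul]
    rw [Subtype.ext h6, Subtype.ext h7]
  have hbij := hinj.bijective_of_nat_card_le (by
    rw [Nat.card_prod, hP P, hcardY]
    omega)
  obtain ⟨⟨h, a⟩, hha⟩ := hbij.2 b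
  have hha' : (h : G) • a.1 = b := hha
  refine ⟨(h : G)⁻¹ * (h : G)⁻¹, Subgroup.mul_mem _ (Subgroup.inv_mem _ h.2) (Subgroup.inv_mem _ h.2), ?_⟩
  rw [← hha', hconj h h.2 a, smul_smul]
  congr 1
  group

end Cfsg.Agent.Lib.A7Ord
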