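import Mathlib
import Cfsg.Agent.Lib.SmallGroups
import Cfsg.Agent.Lib.SmallGroups2

/-!
# A presentation of the alternating group of degree seven

Five elements `y i` of order dividing three with `(y i * y j) ^ 2 = 1` for `i ≠ j` generate a group
of order at most `2520`, and the group presented by these relations is the alternating group.
-/

set_option autoImplicit false
set_option linter.style.haveILetI false
set_option linter.unusedSectionVars false

namespace Cfsg.Agent.Lib.A7Ord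

open Subgroup

section chain

variable {X : Type*} [Group X]

theorem rel_ca {a c : X} (h : (a * c) ^ 2 = 1) : c * a = a⁻¹ * c⁻¹ := by
  have h1 : a * (c * a * c) = 1 := by
    rw [← h, sq]; group
  have h2 : c * a * c = a⁻¹ := eq_inv_of_mul_eq_one_right h1
  rw [← h2]; group

theorem rel_ac {a c : X} (h : (a * c) ^ 2 = 1) : a * c = c⁻¹ * a⁻¹ := by
  have h1 : (a * c) * (a * c) = 1 := by
    rw [← h, sq]
  have h2 : a * c = (a * c)⁻¹ := eq_inv_of_mul_eq_one_left h1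
  rw [h2]; group

theorem inv_eq_sq {a : X} (h : a ^ 3 = 1) : a⁻¹ = a * a := by
  have h1 : a * (a * a) = 1 := by rw [← h, pow_three]
  exact inv_eq_of_mul_eq_one_right h1

theorem rel_R2 {a c : X} (ha : a ^ 3 = 1) (hc : c ^ 3 = 1) (hac : (a * c) ^ 2 = 1) :
    (c * a⁻¹) * c = a⁻¹ * (c * a⁻¹) := by
  have h1 := rel_ca hac
  have h2 := rel_ac hac
  have h3 : c⁻¹ * c⁻¹ = c := by
    rw [inv_eq_sq hc]
    have : c * c * (c * c) = c ^ 3 * c := by rw [pow_three]; group
    rw [this, hc, one_mul]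
  calc (c * a⁻¹) * c = c * (a * a) * c := by rw [inv_eq_sq ha]
    _ = (c * a) * (a * c) := by group
    _ = (a⁻¹ * c⁻¹) * (c⁻¹ * a⁻¹) := by rw [h1, h2]
    _ = a⁻¹ * (c⁻¹ * c⁻¹) * a⁻¹ := by group
    _ = a⁻¹ * (c * a⁻¹) := by rw [h3]; group

theorem rel_R4 {b c : X} (hb : b ^ 3 = 1) (hbc : (b * c) ^ 2 = 1) :
    c⁻¹ * b = b * (c * b⁻¹) := by
  have h2 := rel_ac hbc
  have h3 : b⁻¹ * b⁻¹ = b := by
    rw [inv_eq_sq hb]
    have : b * b * (b * b) = b ^ 3 * b := by rw [pow_three]; group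
    rw [this, hb, one_mul]
  calc c⁻¹ * b = c⁻¹ * (b⁻¹ * b⁻¹) := by rw [h3]
    _ = (c⁻¹ * b⁻¹) * b⁻¹ := by group
    _ = (b * c) * b⁻¹ := by rw [h2]
    _ = b * (c * b⁻¹) := by group

theorem rel_R6 {a b c : X} (ha : a ^ 3 = 1) (hac : (a * c) ^ 2 = 1) (hbc : (b * c) ^ 2 = 1)
    (hab : (a * b) ^ 2 = 1) : (c * a⁻¹) * b = (a⁻¹ * b) * (c * a⁻¹) := by
  have h1 := rel_ca hac
  have h2 := rel_ca hbc
  have h3 : b * a = a⁻¹ * b⁻¹ := rel_ca hab
  have h4 : a⁻¹ * a⁻¹ = a := by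
    rw [inv_eq_sq ha]
    have : a * a * (a * a) = a ^ 3 * a := by rw [pow_three]; group
    rw [this, ha, one_mul]
  -- `a⁻¹ * b * a = a * b⁻¹`
  have h5 : a⁻¹ * b * a = a * b⁻¹ := by
    calc a⁻¹ * b * a = a⁻¹ * (b * a) := by group
      _ = a⁻¹ * (a⁻¹ * b⁻¹) := by rw [h3]
      _ = (a⁻¹ * a⁻¹) * b⁻¹ := by group
      _ = a * b⁻¹ := by rw [h4]
  have h6 : b⁻¹ * c⁻¹ = c * b := h2.symm
  have h7 : c * (a⁻¹ * b * a) * c⁻¹ = a⁻¹ * b := by
    rw [h5]
    calc c * (a * b⁻¹) * c⁻¹ = (c * a) * (b⁻¹ * c⁻¹) := by group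
      _ = (a⁻¹ * c⁻¹) * (c * b) := by rw [h1, h6]
      _ = a⁻¹ * b := by group
  calc (c * a⁻¹) * b = (c * (a⁻¹ * b * a) * c⁻¹) * (c * a⁻¹) := by group
    _ = (a⁻¹ * b) * (c * a⁻¹) := by rw [h7]

open Classical in
theorem closure_step (S : Finset X) (c : X) (hc : c ^ 3 = 1) (hS3 : ∀ a ∈ S, a ^ 3 = 1)
    (hSc : ∀ a ∈ S, (a * c) ^ 2 = 1) (hSS : ∀ a ∈ S, ∀ b ∈ S, a ≠ b → (a * b) ^ 2 = 1)
    [Finite (closure (S : Set X))] :
    Finite (closure ((insert c S : Finset X) : Set X)) ∧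
      Nat.card (closure ((insert c S : Finset X) : Set X)) ≤
        (3 + S.card) * Nat.card (closure (S : Set X)) := by
  set H := closure (S : Set X) with hH
  have hSH : ∀ a ∈ S, a ∈ H := fun a ha => subset_closure ha
  -- the finite set of representatives
  let R : Finset X := insert 1 (insert c (insert c⁻¹ (S.image fun a => c * a⁻¹)))
  have hR : R.card ≤ 3 + S.card := by
    have h1 : R.card ≤ (insert c (insert c⁻¹ (S.image fun a => c * a⁻¹))).card + 1 :=
      Finset.card_insert_le _ _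
    have h2 : (insert c (insert c⁻¹ (S.image fun a => c * a⁻¹))).card ≤
        (insert c⁻¹ (S.image fun a => c * a⁻¹)).card + 1 := Finset.card_insert_le _ _
    have h3 : (insert c⁻¹ (S.image fun a => c * a⁻¹)).card ≤ (S.image fun a => c * a⁻¹).card + 1 :=
      Finset.card_insert_le _ _
    have h4 : (S.image fun a => c * a⁻¹).card ≤ S.card := Finset.card_image_le
    omega
  -- the step
  have hstep : ∀ x y : X, (∃ h ∈ H, ∃ r ∈ R, x = h * r) → (y = c ∨ y ∈ S) →
      ∃ h ∈ H, ∃ r ∈ R, x * y = h * r := by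
    rintro x y ⟨h, hh, r, hr, rfl⟩ hy
    have hr' : r = 1 ∨ r = c ∨ r = c⁻¹ ∨ ∃ a ∈ S, r = c * a⁻¹ := by
      simp only [R, Finset.mem_insert, Finset.mem_image] at hr
      rcases hr with h1 | h1 | h1 | ⟨a, ha, h1⟩
      · exact Or.inl h1
      · exact Or.inr (Or.inl h1)
      · exact Or.inr (Or.inr (Or.inl h1))
      · exact Or.inr (Or.inr (Or.inr ⟨a, ha, h1.symm⟩))
    have m1 : (1 : X) ∈ R := by simp [R]
    have m2 : c ∈ R := by simp [R]
    have m3 : c⁻¹ ∈ R := by simp [R]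
    have m4 : ∀ a ∈ S, c * a⁻¹ ∈ R := fun a ha => by
      simp only [R, Finset.mem_insert, Finset.mem_image]
      exact Or.inr (Or.inr (Or.inr ⟨a, ha, rfl⟩))
    rcases hy with hy | hy
    · -- right multiplication by `c`
      rw [hy]
      rcases hr' with hr' | hr' | hr' | ⟨a, ha, hr'⟩ <;> rw [hr']
      · exact ⟨h, hh, c, m2, by group⟩
      · refine ⟨h, hh, c⁻¹, m3, ?_⟩
        rw [inv_eq_sq hc]; group
      · exact ⟨h, hh, 1, m1, by group⟩
      · refine ⟨h * a⁻¹, H.mul_mem hh (H.inv_mem (hSH a ha)), c * a⁻¹, m4 a ha, ?_⟩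
        rw [mul_assoc h, rel_R2 (hS3 a ha) hc (hSc a ha)]; group
    · rcases hr' with hr' | hr' | hr' | ⟨a, ha, hr'⟩ <;> rw [hr']
      · exact ⟨h * y, H.mul_mem hh (hSH y hy), 1, m1, by group⟩
      · refine ⟨h * y⁻¹, H.mul_mem hh (H.inv_mem (hSH y hy)), c⁻¹, m3, ?_⟩
        have := rel_ca (hSc y hy)
        rw [mul_assoc h, this]; group
      · refine ⟨h * y, H.mul_mem hh (hSH y hy), c * y⁻¹, m4 y hy, ?_⟩
        rw [mul_assoc h, rel_R4 (hS3 y hy) (hSc y hy)]; group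
      · by_cases hay : a = y
        · subst hay
          exact ⟨h, hh, c, m2, by group⟩
        · refine ⟨h * (a⁻¹ * y), H.mul_mem hh (H.mul_mem (H.inv_mem (hSH a ha)) (hSH y hy)),
            c * a⁻¹, m4 a ha, ?_⟩
          rw [mul_assoc h, rel_R6 (hS3 a ha) (hSc a ha) (hSc y hy) (hSS a ha y hy hay)]; group
  have hgen3 : ∀ y : X, (y = c ∨ y ∈ S) → y ^ 3 = 1 := by
    rintro y (hy | hy)
    · rw [hy]; exact hc
    · exact hS3 y hy
  have hcl : ∀ x ∈ closure ((insert c S : Finset X) : Set X), ∃ h ∈ H, ∃ r ∈ R, x = h * r := by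
    intro x hx
    induction hx using Subgroup.closure_induction_right with
    | one => exact ⟨1, H.one_mem, 1, by simp [R], by group⟩
    | mul_right x hx y hy ih =>
      have hy' : y = c ∨ y ∈ S := by
        simpa using hy
      exact hstep x y ih hy'
    | mul_inv_cancel x hx y hy ih =>
      have hy' : y = c ∨ y ∈ S := by
        simpa using hy
      have h1 := hstep x y ih hy'
      have h2 := hstep (x * y) y h1 hy'
      have h3 : x * y⁻¹ = x * y * y := by
        rw [inv_eq_sq (hgen3 y hy')]; group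
      rw [h3]
      exact h2
  choose a ha b hb hab using hcl
  let f : closure ((insert c S : Finset X) : Set X) → H × R :=
    fun x => (⟨a x.1 x.2, ha x.1 x.2⟩, ⟨b x.1 x.2, hb x.1 x.2⟩)
  have hf : Function.Injective f := by
    intro x y hxy
    apply Subtype.ext
    have h1 : a x.1 x.2 = a y.1 y.2 := congrArg (fun z => ((z.1 : H) : X)) hxy
    have h2 : b x.1 x.2 = b y.1 y.2 := congrArg (fun z => ((z.2 : R) : X)) hxy
    rw [hab x.1 x.2, hab y.1 y.2, h1, h2]
  refine ⟨Finite.of_injective f hf, ?_⟩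
  have h1 := Nat.card_le_card_of_injective f hf
  rw [Nat.card_prod] at h1
  have h2 : Nat.card R = R.card := by simp
  rw [h2] at h1
  calc _ ≤ Nat.card H * R.card := h1
    _ ≤ Nat.card H * (3 + S.card) := Nat.mul_le_mul_left _ hR
    _ = _ := by ring

open Classical in
/-- A clique of five elements generates a group of order at most `2520`. -/
theorem card_le_of_clique (y : Fin 5 → X) (h3 : ∀ i, y i ^ 3 = 1)
    (h2 : ∀ i j, i ≠ j → (y i * y j) ^ 2 = 1) :
    Finite (closure (Set.range y)) ∧ Nat.card (closure (Set.range y)) ≤ 2520 := by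
  let S0 : Finset X := ∅
  let S1 : Finset X := insert (y 0) S0
  let S2 : Finset X := insert (y 1) S1
  let S3 : Finset X := insert (y 2) S2
  let S4 : Finset X := insert (y 3) S3
  let S5 : Finset X := insert (y 4) S4
  have hc0 : S0.card ≤ 0 := by simp [S0]
  have hc1 : S1.card ≤ 1 := (Finset.card_insert_le _ _).trans (by omega)
  have hc2 : S2.card ≤ 2 := (Finset.card_insert_le _ _).trans (by omega)
  have hc3 : S3.card ≤ 3 := (Finset.card_insert_le _ _).trans (by omega)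
  have hc4 : S4.card ≤ 4 := (Finset.card_insert_le _ _).trans (by omega)
  have m0 : ∀ a ∈ S0, ∃ i : Fin 5, i.1 < 0 ∧ a = y i := by simp [S0]
  have m1 : ∀ a ∈ S1, ∃ i : Fin 5, i.1 < 1 ∧ a = y i := by
    intro a ha
    rcases Finset.mem_insert.1 ha with rfl | h
    · exact ⟨0, by decide, rfl⟩
    · obtain ⟨i, hi, rfl⟩ := m0 a h
      exact ⟨i, by omega, rfl⟩
  have m2 : ∀ a ∈ S2, ∃ i : Fin 5, i.1 < 2 ∧ a = y i := by
    intro a ha
    rcases Finset.mem_insert.1 ha with rfl | h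
    · exact ⟨1, by decide, rfl⟩
    · obtain ⟨i, hi, rfl⟩ := m1 a h
      exact ⟨i, by omega, rfl⟩
  have m3 : ∀ a ∈ S3, ∃ i : Fin 5, i.1 < 3 ∧ a = y i := by
    intro a ha
    rcases Finset.mem_insert.1 ha with rfl | h
    · exact ⟨2, by decide, rfl⟩
    · obtain ⟨i, hi, rfl⟩ := m2 a h
      exact ⟨i, by omega, rfl⟩
  have m4 : ∀ a ∈ S4, ∃ i : Fin 5, i.1 < 4 ∧ a = y i := by
    intro a ha
    rcases Finset.mem_insert.1 ha with rfl | h
    · exact ⟨3, by decide, rfl⟩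
    · obtain ⟨i, hi, rfl⟩ := m3 a h
      exact ⟨i, by omega, rfl⟩
  have key : ∀ (k : Fin 5) (S : Finset X), (∀ a ∈ S, ∃ i : Fin 5, i.1 < k.1 ∧ a = y i) →
      (∀ a ∈ S, a ^ 3 = 1) ∧ (∀ a ∈ S, (a * y k) ^ 2 = 1) ∧
        (∀ a ∈ S, ∀ b ∈ S, a ≠ b → (a * b) ^ 2 = 1) := by
    intro k S hS
    refine ⟨?_, ?_, ?_⟩
    · intro a ha
      obtain ⟨i, -, rfl⟩ := hS a ha
      exact h3 i
    · intro a ha
      obtain ⟨i, hi, rfl⟩ := hS a ha
      exact h2 i k (fun h => by rw [h] at hi; omega)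
    · intro a ha b hb hab
      obtain ⟨i, -, rfl⟩ := hS a ha
      obtain ⟨j, -, rfl⟩ := hS b hb
      exact h2 i j (fun h => hab (by rw [h]))
  haveI f0 : Finite (closure (S0 : Set X)) := by
    simp only [S0, Finset.coe_empty, Subgroup.closure_empty]
    infer_instance
  have c0 : Nat.card (closure (S0 : Set X)) ≤ 1 := by
    simp [S0]
  obtain ⟨k1, k2, k3⟩ := key 0 S0 m0
  obtain ⟨f1, c1⟩ := closure_step S0 (y 0) (h3 0) k1 k2 k3
  haveI : Finite (closure (S1 : Set X)) := f1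
  obtain ⟨k1, k2, k3⟩ := key 1 S1 m1
  obtain ⟨f2, c2⟩ := closure_step S1 (y 1) (h3 1) k1 k2 k3
  haveI : Finite (closure (S2 : Set X)) := f2
  obtain ⟨k1, k2, k3⟩ := key 2 S2 m2
  obtain ⟨f3, c3⟩ := closure_step S2 (y 2) (h3 2) k1 k2 k3
  haveI : Finite (closure (S3 : Set X)) := f3
  obtain ⟨k1, k2, k3⟩ := key 3 S3 m3
  obtain ⟨f4, c4⟩ := closure_step S3 (y 3) (h3 3) k1 k2 k3
  haveI : Finite (closure (S4 : Set X)) := f4
  obtain ⟨k1, k2, k3⟩ := key 4 S4 m4
  obtain ⟨f5, c5⟩ := closure_step S4 (y 4) (h3 4) k1 k2 k3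
  have hset : ((insert (y 4) S4 : Finset X) : Set X) = Set.range y := by
    ext a
    simp only [S4, S3, S2, S1, S0, Finset.coe_insert, Finset.coe_empty, Set.mem_insert_iff,
      Set.mem_range, Set.mem_empty_iff_false, or_false]
    constructor
    · rintro (rfl | rfl | rfl | rfl | rfl)
      exacts [⟨4, rfl⟩, ⟨3, rfl⟩, ⟨2, rfl⟩, ⟨1, rfl⟩, ⟨0, rfl⟩]
    · rintro ⟨i, rfl⟩
      fin_cases i <;> simp
  rw [hset] at f5 c5
  refine ⟨f5, ?_⟩
  have a1 : Nat.card (closure (S1 : Set X)) ≤ 3 := by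
    refine c1.trans ?_
    calc (3 + S0.card) * Nat.card (closure (S0 : Set X)) ≤ (3 + 0) * 1 :=
          Nat.mul_le_mul (by omega) c0
      _ = 3 := by norm_num
  have a2 : Nat.card (closure (S2 : Set X)) ≤ 12 := by
    refine c2.trans ?_
    calc (3 + S1.card) * Nat.card (closure (S1 : Set X)) ≤ (3 + 1) * 3 :=
          Nat.mul_le_mul (by omega) a1
      _ = 12 := by norm_num
  have a3 : Nat.card (closure (S3 : Set X)) ≤ 60 := by
    refine c3.trans ?_
    calc (3 + S2.card) * Nat.card (closure (S2 : Set X)) ≤ (3 + 2) * 12 :=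
          Nat.mul_le_mul (by omega) a2
      _ = 60 := by norm_num
  have a4 : Nat.card (closure (S4 : Set X)) ≤ 360 := by
    refine c4.trans ?_
    calc (3 + S3.card) * Nat.card (closure (S3 : Set X)) ≤ (3 + 3) * 60 :=
          Nat.mul_le_mul (by omega) a3
      _ = 360 := by norm_num
  refine c5.trans ?_
  calc (3 + S4.card) * Nat.card (closure (S4 : Set X)) ≤ (3 + 4) * 360 :=
        Nat.mul_le_mul (by omega) a4
    _ = 2520 := by norm_num

end chain

section pres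

/-- the relators of the presentation -/
def relsA7 : Set (FreeGroup (Fin 5)) :=
  {r | ∃ i : Fin 5, r = (FreeGroup.of i) ^ 3} ∪
    {r | ∃ i j : Fin 5, i ≠ j ∧ r = (FreeGroup.of i * FreeGroup.of j) ^ 2}

/-- the presented group -/
abbrev GamA7 : Type := PresentedGroup relsA7

theorem gam_eq_one {r : FreeGroup (Fin 5)} (hr : r ∈ relsA7) : PresentedGroup.mk relsA7 r = 1 :=
  (QuotientGroup.eq_one_iff _).2 (Subgroup.subset_normalClosure hr)

theorem gam_rel3 (i : Fin 5) : (PresentedGroup.of i : GamA7) ^ 3 = 1 := by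
  have h := gam_eq_one (r := (FreeGroup.of i) ^ 3) (Or.inl ⟨i, rfl⟩)
  rw [map_pow] at h
  exact h

theorem gam_rel2 (i j : Fin 5) (hij : i ≠ j) :
    ((PresentedGroup.of i : GamA7) * PresentedGroup.of j) ^ 2 = 1 := by
  have h := gam_eq_one (r := (FreeGroup.of i * FreeGroup.of j) ^ 2) (Or.inr ⟨i, j, hij, rfl⟩)
  rw [map_pow, map_mul] at h
  exact h

theorem lift_eq_one_of_rel {G : Type*} [Group G] (y : Fin 5 → G) (h3 : ∀ i, y i ^ 3 = 1)
    (h2 : ∀ i j, i ≠ j → (y i * y j) ^ 2 = 1) : ∀ r ∈ relsA7, FreeGroup.lift y r = 1 := by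
  rintro r (⟨i, rfl⟩ | ⟨i, j, hij, rfl⟩)
  · rw [map_pow, FreeGroup.lift_apply_of, h3]
  · rw [map_pow, map_mul, FreeGroup.lift_apply_of, FreeGroup.lift_apply_of, h2 i j hij]

/-- the three-cycles -/
def sigA7 (i : Fin 5) : Equiv.Perm (Fin 7) :=
  Equiv.swap 0 ⟨i.1 + 2, by omega⟩ * Equiv.swap 0 1

theorem sigA7_mem (i : Fin 5) : sigA7 i ∈ alternatingGroup (Fin 7) := by
  rw [Equiv.Perm.mem_alternatingGroup, sigA7, Equiv.Perm.sign_mul,
    Equiv.Perm.sign_swap (by
      intro h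
      have := congrArg Fin.val h
      simp at this), Equiv.Perm.sign_swap (by decide)]
  rfl

/-- the images of the generators -/
def fA7 (i : Fin 5) : alternatingGroup (Fin 7) := ⟨sigA7 i, sigA7_mem i⟩

theorem sig_rel3 : ∀ i, sigA7 i ^ 3 = 1 := by decide
theorem sig_rel2 : ∀ i j, i ≠ j → (sigA7 i * sigA7 j) ^ 2 = 1 := by decide
theorem sig_w5 : (sigA7 0 * sigA7 1 * sigA7 2) ^ 5 = 1 ∧ sigA7 0 * sigA7 1 * sigA7 2 ≠ 1 := by decide +kernel
theorem sig_w7 : (sigA7 0 * sigA7 1 * sigA7 2 * sigA7 3 * sigA7 4) ^ 7 = 1 ∧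
    sigA7 0 * sigA7 1 * sigA7 2 * sigA7 3 * sigA7 4 ≠ 1 := by decide +kernel
theorem sig_w4 : (sigA7 0 * sigA7 0 * sigA7 1 * sigA7 2 * sigA7 3) ^ 4 = 1 ∧
    (sigA7 0 * sigA7 0 * sigA7 1 * sigA7 2 * sigA7 3) ^ 2 ≠ 1 := by decide +kernel
theorem sig_w3 : sigA7 0 ≠ 1 := by decide

theorem fA7_val (i : Fin 5) : ((fA7 i : alternatingGroup (Fin 7)) : Equiv.Perm (Fin 7)) = sigA7 i := rfl

theorem f_w5a : (fA7 0 * fA7 1 * fA7 2) ^ 5 = 1 := Subtype.ext (by
  simpa only [Subgroup.coe_pow, Subgroup.coe_mul, fA7_val, Subgroup.coe_one] using sig_w5.1)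
theorem f_w5b : fA7 0 * fA7 1 * fA7 2 ≠ 1 := fun h => sig_w5.2 (by
  have := congrArg Subtype.val h
  simpa only [Subgroup.coe_mul, fA7_val, Subgroup.coe_one] using this)
theorem f_w7a : (fA7 0 * fA7 1 * fA7 2 * fA7 3 * fA7 4) ^ 7 = 1 := Subtype.ext (by
  simpa only [Subgroup.coe_pow, Subgroup.coe_mul, fA7_val, Subgroup.coe_one] using sig_w7.1)
theorem f_w7b : fA7 0 * fA7 1 * fA7 2 * fA7 3 * fA7 4 ≠ 1 := fun h => sig_w7.2 (by
  have := congrArg Subtype.val h
  simpa only [Subgroup.coe_mul, fA7_val, Subgroup.coe_one] using this)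
theorem f_w4a : (fA7 0 * fA7 0 * fA7 1 * fA7 2 * fA7 3) ^ 4 = 1 := Subtype.ext (by
  simpa only [Subgroup.coe_pow, Subgroup.coe_mul, fA7_val, Subgroup.coe_one] using sig_w4.1)
theorem f_w4b : (fA7 0 * fA7 0 * fA7 1 * fA7 2 * fA7 3) ^ 2 ≠ 1 := fun h => sig_w4.2 (by
  have := congrArg Subtype.val h
  simpa only [Subgroup.coe_pow, Subgroup.coe_mul, fA7_val, Subgroup.coe_one] using this)

theorem f_rel3 (i : Fin 5) : fA7 i ^ 3 = 1 := Subtype.ext (sig_rel3 i)
theorem f_rel2 (i j : Fin 5) (h : i ≠ j) : (fA7 i * fA7 j) ^ 2 = 1 := Subtype.ext (sig_rel2 i j h)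

/-- the map to the alternating group -/
noncomputable def piA7 : GamA7 →* alternatingGroup (Fin 7) :=
  PresentedGroup.toGroup (lift_eq_one_of_rel fA7 f_rel3 f_rel2)

theorem piA7_of (i : Fin 5) : piA7 (PresentedGroup.of i) = fA7 i :=
  PresentedGroup.toGroup.of _

theorem card_A7 : Nat.card (alternatingGroup (Fin 7)) = 2520 := by
  rw [nat_card_alternatingGroup]
  simp [Nat.factorial]

instance simple_A7 : IsSimpleGroup (alternatingGroup (Fin 7)) :=
  alternatingGroup.isSimpleGroup (by simp)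

theorem piA7_range : piA7.range = ⊤ := by
  haveI : Fact (Nat.Prime 5) := ⟨by norm_num⟩
  haveI : Fact (Nat.Prime 7) := ⟨by norm_num⟩
  set K := piA7.range with hK
  have hm : ∀ i, fA7 i ∈ K := fun i => ⟨PresentedGroup.of i, piA7_of i⟩
  have d3 : 3 ∣ Nat.card K := by
    have h := Subgroup.orderOf_dvd_natCard K (hm 0)
    rwa [orderOf_eq_prime (p := 3) (f_rel3 0)
      (fun h1 => sig_w3 (congrArg Subtype.val h1))] at h
  have d5 : 5 ∣ Nat.card K := by
    have hm5 : fA7 0 * fA7 1 * fA7 2 ∈ K := K.mul_mem (K.mul_mem (hm 0) (hm 1)) (hm 2)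
    have h := Subgroup.orderOf_dvd_natCard K hm5
    rwa [orderOf_eq_prime (p := 5) f_w5a f_w5b] at h
  have d7 : 7 ∣ Nat.card K := by
    have hm7 : fA7 0 * fA7 1 * fA7 2 * fA7 3 * fA7 4 ∈ K :=
      K.mul_mem (K.mul_mem (K.mul_mem (K.mul_mem (hm 0) (hm 1)) (hm 2)) (hm 3)) (hm 4)
    have h := Subgroup.orderOf_dvd_natCard K hm7
    rwa [orderOf_eq_prime (p := 7) f_w7a f_w7b] at h
  have d4 : 4 ∣ Nat.card K := by
    have hm4 : fA7 0 * fA7 0 * fA7 1 * fA7 2 * fA7 3 ∈ K :=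
      K.mul_mem (K.mul_mem (K.mul_mem (K.mul_mem (hm 0) (hm 0)) (hm 1)) (hm 2)) (hm 3)
    have h := Subgroup.orderOf_dvd_natCard K hm4
    have ho : orderOf (fA7 0 * fA7 0 * fA7 1 * fA7 2 * fA7 3) = 2 ^ (1 + 1) :=
      orderOf_eq_prime_pow (p := 2) (n := 1) (by simpa using f_w4b) (by simpa using f_w4a)
    rw [ho] at h
    exact h
  by_contra hne
  have hnc : ¬ IsMulCommutative (alternatingGroup (Fin 7)) :=
    Cfsg.Agent.Lib.SmallGroups2.not_isMulCommutative_of_not_prime (by rw [card_A7]; norm_num)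
  have h420 : 420 ∣ Nat.card K := by
    have h1 : 12 ∣ Nat.card K := Nat.Coprime.mul_dvd_of_dvd_of_dvd (by norm_num) d3 d4
    have h2 : 60 ∣ Nat.card K := Nat.Coprime.mul_dvd_of_dvd_of_dvd (by norm_num : Nat.Coprime 12 5) h1 d5
    exact Nat.Coprime.mul_dvd_of_dvd_of_dvd (by norm_num : Nat.Coprime 60 7) h2 d7
  have hcm := Subgroup.card_mul_index K
  rw [card_A7] at hcm
  obtain ⟨k, hk⟩ := h420
  have hix : K.index ∣ 6 := by
    refine ⟨k, ?_⟩
    rw [hk] at hcm
    have : 420 * (K.index * k) = 420 * 6 := by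
      calc 420 * (K.index * k) = 420 * k * K.index := by ring
        _ = 420 * 6 := by rw [hcm]
    exact (Nat.eq_of_mul_eq_mul_left (by norm_num) this).symm
  have hle : K.index ≤ 6 := Nat.le_of_dvd (by norm_num) hix
  have hfac := Cfsg.Agent.Lib.SmallGroups.two_mul_card_dvd_factorial_index hnc K hne
  rw [card_A7] at hfac
  have h3 : K.index.factorial ≤ 720 := by
    have := Nat.factorial_le hle
    simpa [Nat.factorial] using this
  have := Nat.le_of_dvd (Nat.factorial_pos _) hfac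
  omega

theorem piA7_surjective : Function.Surjective piA7 := MonoidHom.range_eq_top.1 piA7_range

theorem gam_finite_card : Finite GamA7 ∧ Nat.card GamA7 ≤ 2520 := by
  obtain ⟨h1, h2⟩ := card_le_of_clique (X := GamA7) PresentedGroup.of gam_rel3 gam_rel2
  rw [PresentedGroup.closure_range_of] at h1 h2
  refine ⟨?_, ?_⟩
  · exact Finite.of_equiv _ Subgroup.topEquiv.toEquiv
  · rwa [Subgroup.card_top] at h2

theorem piA7_bijective : Function.Bijective piA7 := by
  haveI := gam_finite_card.1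
  refine piA7_surjective.bijective_of_nat_card_le ?_
  rw [card_A7]
  exact gam_finite_card.2

/-- **Recognition by a clique.** -/
theorem iso_of_clique {G : Type*} [Group G] [Finite G] [IsSimpleGroup G] (hc : Nat.card G = 2520)
    (y : Fin 5 → G) (h3 : ∀ i, y i ^ 3 = 1) (h2 : ∀ i j, i ≠ j → (y i * y j) ^ 2 = 1)
    (h1 : y 0 ≠ 1) : Nonempty (G ≃* alternatingGroup (Fin 7)) := by
  let e : GamA7 ≃* alternatingGroup (Fin 7) := MulEquiv.ofBijective piA7 piA7_bijective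
  let ψ : GamA7 →* G := PresentedGroup.toGroup (lift_eq_one_of_rel y h3 h2)
  let φ : alternatingGroup (Fin 7) →* G := ψ.comp e.symm.toMonoidHom
  have hφ : φ (fA7 0) = y 0 := by
    have : e.symm (fA7 0) = PresentedGroup.of 0 := by
      rw [MulEquiv.symm_apply_eq]
      exact (piA7_of 0).symm
    show ψ (e.symm (fA7 0)) = y 0
    rw [this]
    exact PresentedGroup.toGroup.of _
  have hinj : Function.Injective φ := by
    have hn : φ.ker.Normal := inferInstance
    rcases hn.eq_bot_or_eq_top with h | h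
    · exact (MonoidHom.ker_eq_bot_iff φ).1 h
    · exfalso
      apply h1
      have : fA7 0 ∈ φ.ker := by rw [h]; trivial
      rw [← hφ]
      exact this
  have hbij : Function.Bijective φ :=
    hinj.bijective_of_nat_card_le (by rw [card_A7, hc])
  exact ⟨(MulEquiv.ofBijective φ hbij).symm⟩

end pres

end Cfsg.Agent.Lib.A7Ord
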