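import Mathlib
import Cfsg.Agent.Lib.A7Ord9
import Cfsg.Agent.Lib.A7Pres

/-!
# Simple groups of order 2520 are isomorphic to the alternating group of degree seven
-/

set_option autoImplicit false
set_option linter.style.haveILetI false
set_option linter.unusedSectionVars false
set_option linter.unusedVariables false

namespace Cfsg.Agent.Lib.A7Ord

open Subgroup Cfsg.Agent.Lib.SmallGroups2 Cfsg.Agent.Lib.SmallGroups3 Cfsg.Agent.Lib.J1Ord
open Cfsg.Agent.Lib.TwoLocal Cfsg.Agent.Lib.TwoLocal2 Cfsg.Agent.Lib.TwoLocal3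

variable {G : Type*} [Group G] [Finite G]

theorem pow_mod_five {r : G} (hr : r ^ 5 = 1) (n : ℕ) : r ^ n = r ^ (n % 5) := by
  conv_lhs => rw [← Nat.div_add_mod n 5, pow_add, pow_mul, hr, one_pow, one_mul]

/-- A relation between `y` and a conjugate spreads to all the conjugates. -/
theorem propagate (R : G → G → Prop) (hconj : ∀ g a b, R a b → R (g * a * g⁻¹) (g * b * g⁻¹))
    (hinv : ∀ a b, R a b → R a⁻¹ b⁻¹) {y r φ : G} (hr : r ^ 5 = 1) (hφr : φ * r * φ⁻¹ = r ^ 2)
    (hφy : φ * y * φ⁻¹ = y ∨ φ * y * φ⁻¹ = y⁻¹) (h : R y (r * y * r⁻¹)) :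
    ∀ i j : ℕ, i % 5 ≠ j % 5 → R (r ^ i * y * (r ^ i)⁻¹) (r ^ j * y * (r ^ j)⁻¹) := by
  have hstep : ∀ k : ℕ, R y (r ^ k * y * (r ^ k)⁻¹) → R y (r ^ (2 * k) * y * (r ^ (2 * k))⁻¹) := by
    intro k hk
    have h1 := hconj φ _ _ hk
    have h2 : φ * (r ^ k * y * (r ^ k)⁻¹) * φ⁻¹ =
        (φ * r * φ⁻¹) ^ k * (φ * y * φ⁻¹) * ((φ * r * φ⁻¹) ^ k)⁻¹ := by
      rw [conj_pow]
      group
    rw [h2, hφr, ← pow_mul] at h1
    rcases hφy with h3 | h3
    · rw [h3] at h1
      exact h1
    · rw [h3] at h1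
      have h4 := hinv _ _ h1
      rw [inv_inv] at h4
      have h5 : (r ^ (2 * k) * y⁻¹ * (r ^ (2 * k))⁻¹)⁻¹ = r ^ (2 * k) * y * (r ^ (2 * k))⁻¹ := by
        group
      rw [h5] at h4
      exact h4
  have h1 : R y (r ^ 1 * y * (r ^ 1)⁻¹) := by
    rw [pow_one]
    exact h
  have h2 := hstep 1 h1
  have h4 := hstep _ h2
  have h8 := hstep _ h4
  have hk : ∀ k : ℕ, k % 5 ≠ 0 → R y (r ^ k * y * (r ^ k)⁻¹) := by
    intro k hk
    rw [pow_mod_five hr k]
    have hlt : k % 5 < 5 := Nat.mod_lt _ (by norm_num)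
    interval_cases hm : k % 5
    · exact absurd rfl hk
    · exact h1
    · exact h2
    · have h9 : r ^ (2 * (2 * (2 * 1))) = r ^ 3 := by
        rw [pow_mod_five hr]
      rw [h9] at h8
      exact h8
    · exact h4
  intro i j hij
  have hk0 : ((j + 4 * i) % 5) % 5 ≠ 0 := by omega
  have hc := hconj (r ^ i) _ _ (hk _ hk0)
  have h6 : r ^ i * (r ^ ((j + 4 * i) % 5) * y * (r ^ ((j + 4 * i) % 5))⁻¹) * (r ^ i)⁻¹ =
      r ^ j * y * (r ^ j)⁻¹ := by
    have h7 : r ^ (i + (j + 4 * i) % 5) = r ^ j := by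
      rw [pow_mod_five hr (i + (j + 4 * i) % 5), pow_mod_five hr j]
      congr 1
      omega
    calc r ^ i * (r ^ ((j + 4 * i) % 5) * y * (r ^ ((j + 4 * i) % 5))⁻¹) * (r ^ i)⁻¹ =
        r ^ (i + (j + 4 * i) % 5) * y * (r ^ (i + (j + 4 * i) % 5))⁻¹ := by
          rw [pow_add]
          group
      _ = r ^ j * y * (r ^ j)⁻¹ := by rw [h7]
  rw [h6] at hc
  exact hc

theorem sup_zpowers_eq (Q : Subgroup G) (hQ : Nat.card Q = 9) {a b : G} (ha : a ∈ Q)
    (hao : orderOf a = 3) (hb : b ∈ Q) (hbn : b ∉ zpowers a) : zpowers a ⊔ zpowers b = Q := by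
  have h1 : zpowers a ⊔ zpowers b ≤ Q :=
    sup_le (Subgroup.zpowers_le.2 ha) (Subgroup.zpowers_le.2 hb)
  by_contra hne
  have h2 := card_three_of_lt _ _ hQ h1 hne
    (three_dvd_card_of_mem hao (Subgroup.mem_sup_left (mem_zpowers a)))
  have h3 : zpowers a = zpowers a ⊔ zpowers b :=
    Subgroup.eq_of_le_of_card_ge le_sup_left (by rw [h2, Nat.card_zpowers, hao])
  apply hbn
  rw [h3]
  exact Subgroup.mem_sup_right (mem_zpowers b)

theorem mem_normalizer_of_gens {Q : Subgroup G} {a b g : G} (hgen : zpowers a ⊔ zpowers b = Q)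
    (h1 : g * a * g⁻¹ ∈ Q) (h2 : g * b * g⁻¹ ∈ Q) : g ∈ normalizer (Q : Set G) := by
  apply mem_normalizer_of_conj_le
  have hle : zpowers a ⊔ zpowers b ≤ Q.comap (MulAut.conj g).toMonoidHom := by
    apply sup_le
    · rw [Subgroup.zpowers_le]
      exact h1
    · rw [Subgroup.zpowers_le]
      exact h2
  intro y hy
  rw [← hgen] at hy
  exact hle hy

/-- **A simple group of order 2520 is isomorphic to the alternating group of degree seven.** -/
theorem main [IsSimpleGroup G] (hc : Nat.card G = 2520) :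
    Nonempty (G ≃* alternatingGroup (Fin 7)) := by
  classical
  haveI h5 : Fact (Nat.Prime 5) := ⟨by norm_num⟩
  haveI h3 : Fact (Nat.Prime 3) := ⟨by norm_num⟩
  haveI h2 : Fact (Nat.Prime 2) := ⟨Nat.prime_two⟩
  obtain ⟨P⟩ : Nonempty (Sylow 5 G) := inferInstance
  obtain ⟨φ, hφN, hφo, hφP⟩ := exists_phi hc P
  set t := φ ^ 2 with ht
  have ht2 : t ^ 2 = 1 := by
    rw [ht, ← pow_mul, show 2 * 2 = 4 by norm_num, ← hφo]
    exact pow_orderOf_eq_one φ
  have ht1 : t ≠ 1 := sq_ne_one_of_four hφo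
  have htP : ∀ r ∈ (P : Subgroup G), t * r * t⁻¹ = r⁻¹ := fun r hr => sq_phi_inverts hc P hφP hr
  have hr5 : ∀ r ∈ (P : Subgroup G), r ^ 5 = 1 := by
    intro r hr
    have := pow_card_eq_one' (x := (⟨r, hr⟩ : (P : Subgroup G)))
    rw [hP5 hc P] at this
    have h2 := congrArg (fun z : (P : Subgroup G) => (z : G)) this
    simpa using h2
  obtain ⟨yc, hyc⟩ := exists_prime_orderOf_dvd_card' (G := centralizer ({t} : Set G)) 3
    (by rw [card_cent_invol hc ht2 ht1]; norm_num)
  obtain ⟨y, hyC'⟩ := yc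
  have hyo : orderOf y = 3 := by
    rw [Subgroup.orderOf_mk] at hyc
    exact hyc
  have hty : t * y = y * t := (Subgroup.mem_centralizer_singleton_iff.1 hyC').symm
  obtain ⟨Q, hyQ⟩ := exists_sylow_mem_of_orderOf hyo
  have hy1 : y ≠ 1 := by
    intro h
    rw [h, orderOf_one] at hyo
    omega
  have hy3 : y ^ 3 = 1 := by
    rw [← hyo]
    exact pow_orderOf_eq_one y
  have hcardy := card_cent_e_even hc hyo ht2 ht1 hty
  have hle := cent_le_norm_zpowers hc ht2 ht1 hyo hty
  have htH : t ∈ normalizer ((zpowers y : Subgroup G) : Set G) := by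
    apply hle
    rw [Subgroup.mem_centralizer_singleton_iff]
  have hfix := card_fix_ge hc Q hyQ hy1 hcardy ht2 ht1 htH
  obtain ⟨τ, hτN, hτ2, hτ1⟩ := exists_invol_norm hc Q
  have hτy : τ * y * τ⁻¹ = y⁻¹ := inverts hc Q hτN hτ2 hτ1 hyQ
  have hyne : y⁻¹ ≠ y := by
    intro h
    rw [inv_eq_iff_mul_eq_one, ← pow_two] at h
    exact hy1 (eq_one_of_coprime_pows h hy3 (by norm_num))
  have hτH : τ ∈ normalizer ((zpowers y : Subgroup G) : Set G) :=
    mem_normalizer_of_conj_mem (by rw [hτy]; exact Subgroup.inv_mem _ (mem_zpowers y))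
  have hτZ : τ ∉ centralizer ({y} : Set G) := by
    intro h
    have h1 : τ * y = y * τ := Subgroup.mem_centralizer_singleton_iff.1 h
    apply hyne
    rw [← hτy, h1]
    group
  have hHc : Nat.card (normalizer ((zpowers y : Subgroup G) : Set G)) = 72 := by
    rw [card_norm_zpowers_eq hyo hτH hτZ, hcardy]
  set H := normalizer ((zpowers y : Subgroup G) : Set G) with hH
  obtain ⟨f, hfN, hfo⟩ := exists_f hc Q
  set y₁ := f * y * f⁻¹ with hy₁
  have hQmem : ∀ {a g : G}, a ∈ normalizer ((Q : Subgroup G) : Set G) → g ∈ (Q : Subgroup G) →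
      a * g * a⁻¹ ∈ (Q : Subgroup G) := fun ha hg => (Subgroup.mem_normalizer_iff.1 ha _).1 hg
  have hy₁Q : y₁ ∈ (Q : Subgroup G) := hQmem hfN hyQ
  have hy₁1 : y₁ ≠ 1 := by
    intro h
    apply hy1
    have : y = f⁻¹ * (f * y * f⁻¹) * f := by group
    rw [this, ← hy₁, h]
    group
  have hy₁o : orderOf y₁ = 3 := by
    rw [hy₁, orderOf_conj', hyo]
  have hy₁cent : Nat.card (centralizer ({y₁} : Set G)) = 36 := by
    rw [hy₁, card_cent_conj, hcardy]
  have hf2N : f ^ 2 ∈ normalizer ((Q : Subgroup G) : Set G) :=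
    Subgroup.pow_mem _ hfN 2
  have hf22 : (f ^ 2) ^ 2 = 1 := by
    rw [← pow_mul, show 2 * 2 = 4 by norm_num, ← hfo]
    exact pow_orderOf_eq_one f
  have hf2y := inverts hc Q hf2N hf22 (sq_ne_one_of_four hfo) hyQ
  have hf2conj : f ^ 2 * y * (f ^ 2)⁻¹ = f * y₁ * f⁻¹ := by
    rw [hy₁, pow_two]
    group
  have hy₁not : y₁ ∉ zpowers y := by
    intro h
    rcases mem_zpowers_three hyo h with h1 | h1 | h1
    · exact hy₁1 h1
    · apply hyne
      rw [← hf2y, hf2conj, h1, ← hy₁, h1]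
    · apply hyne
      rw [← hf2y, hf2conj, h1]
      have h6 : f * y⁻¹ * f⁻¹ = y₁⁻¹ := by
        rw [hy₁]
        group
      rw [h6, h1, inv_inv]
  have hgen := sup_zpowers_eq (Q : Subgroup G) (hQ3 hc Q) hyQ hyo hy₁Q hy₁not
  obtain ⟨h', hh'P, hh'⟩ := exists_rep hc P H hHc ht2 htP hfix ((f : G) : G ⧸ H)
  set r := h'⁻¹ with hr
  have hrP : r ∈ (P : Subgroup G) := Subgroup.inv_mem _ hh'P
  set t' := r * t with ht'
  have ht'fix : t' • ((f : G) : G ⧸ H) = ((f : G) : G ⧸ H) := by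
    rw [ht', mul_smul, hh', hr, ← mul_smul, inv_mul_cancel, one_smul]
  have hmem : f⁻¹ * t' * f ∈ H := by
    have h1 : ((t' * f : G) : G ⧸ H) = ((f : G) : G ⧸ H) := ht'fix
    rw [QuotientGroup.eq] at h1
    have h2 : (t' * f)⁻¹ * f = (f⁻¹ * t' * f)⁻¹ := by group
    rw [h2] at h1
    simpa using H.inv_mem h1
  have hconjy₁ : t' * y₁ * t'⁻¹ = f * ((f⁻¹ * t' * f) * y * (f⁻¹ * t' * f)⁻¹) * f⁻¹ := by
    rw [hy₁]
    group
  have hcases : t' * y₁ * t'⁻¹ = y₁ ∨ t' * y₁ * t'⁻¹ = y₁⁻¹ := by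
    have h1 := conj_mem_of_mem_normalizer hmem
    rcases mem_zpowers_three hyo h1 with h | h | h
    · exfalso
      rw [h] at hconjy₁
      simp only [mul_one, mul_inv_cancel] at hconjy₁
      apply hy₁1
      have : y₁ = t'⁻¹ * (t' * y₁ * t'⁻¹) * t' := by group
      rw [this, hconjy₁]
      group
    · left
      rw [h] at hconjy₁
      exact hconjy₁
    · right
      rw [h] at hconjy₁
      rw [hconjy₁, hy₁]
      group
  have ht'y : t' * y * t'⁻¹ = r * y * r⁻¹ := by
    have h1 : t * y * t⁻¹ = y := by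
      rw [hty]
      group
    calc t' * y * t'⁻¹ = r * (t * y * t⁻¹) * r⁻¹ := by rw [ht']; group
      _ = r * y * r⁻¹ := by rw [h1]
  have hr5' : r ^ 5 = 1 := hr5 r hrP
  have hφcomm : φ ∈ centralizer ({t} : Set G) := by
    rw [Subgroup.mem_centralizer_singleton_iff, ht, pow_two]
    group
  have hφy : φ * y * φ⁻¹ = y ∨ φ * y * φ⁻¹ = y⁻¹ := by
    have h1 := conj_mem_of_mem_normalizer (hle hφcomm)
    rcases mem_zpowers_three hyo h1 with h | h | h
    · exfalso
      apply hy1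
      have : y = φ⁻¹ * (φ * y * φ⁻¹) * φ := by group
      rw [this, h]
      group
    · exact Or.inl h
    · exact Or.inr h
  rcases hcases with hA | hB
  · -- the bad case
    exfalso
    have hr1 : r ≠ 1 := by
      intro h
      have ht't : t' = t := by rw [ht', h, one_mul]
      rw [ht't] at hA
      have htN : t ∈ normalizer ((Q : Subgroup G) : Set G) :=
        mem_normalizer_of_gens hgen
          (by
            have h1 : t * y * t⁻¹ = y := by
              rw [hty]
              group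
            rw [h1]
            exact hyQ)
          (by rw [hA]; exact hy₁Q)
      have h1 := inverts hc Q htN ht2 ht1 hyQ
      rw [hty] at h1
      simp only [mul_assoc, mul_inv_cancel, mul_one] at h1
      exact hyne h1.symm
    set w := r ^ 3 with hw
    have hwP : w ∈ (P : Subgroup G) := Subgroup.pow_mem _ hrP 3
    have hw5 : w ^ 5 = 1 := hr5 w hwP
    have hw1 : w ≠ 1 := by
      intro h
      exact hr1 (eq_one_of_coprime_pows h hr5' (by norm_num))
    have hwt : w * t * w⁻¹ = t' := by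
      have h1 : t * w⁻¹ * t⁻¹ = w := by
        have h2 := htP w hwP
        calc t * w⁻¹ * t⁻¹ = (t * w * t⁻¹)⁻¹ := by group
          _ = w := by rw [h2, inv_inv]
      calc w * t * w⁻¹ = w * (t * w⁻¹ * t⁻¹) * t := by group
        _ = w * w * t := by rw [h1]
        _ = r * t := by
          congr 1
          rw [hw, ← pow_add]
          calc r ^ (3 + 3) = r ^ 5 * r := by rw [← pow_succ]
            _ = r := by rw [hr5', one_mul]
    have ht'2 : t' ^ 2 = 1 := by
      rw [← hwt, conj_pow, ht2]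
      group
    have ht'1 : t' ≠ 1 := by
      rw [← hwt]
      intro h
      apply ht1
      have : t = w⁻¹ * (w * t * w⁻¹) * w := by group
      rw [this, h]
      group
    set y' := w * y * w⁻¹ with hy'def
    have hy'o : orderOf y' = 3 := by
      rw [hy'def, orderOf_conj', hyo]
    have ht'y' : t' * y' = y' * t' := by
      rw [← hwt, hy'def]
      calc w * t * w⁻¹ * (w * y * w⁻¹) = w * (t * y) * w⁻¹ := by group
        _ = w * (y * t) * w⁻¹ := by rw [hty]
        _ = w * y * w⁻¹ * (w * t * w⁻¹) := by group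
    have ht'y₁ : t' * y₁ = y₁ * t' := by
      calc t' * y₁ = (t' * y₁ * t'⁻¹) * t' := by group
        _ = y₁ * t' := by rw [hA]
    have hy₁3 : y₁ ^ 3 = 1 := by
      rw [← hy₁o]
      exact pow_orderOf_eq_one y₁
    have hmemz := mem_zpowers_of_cent hc ht'2 ht'1 hy'o ht'y' ht'y₁ hy₁3
    have hzeq : zpowers y₁ = zpowers y' :=
      Subgroup.eq_of_le_of_card_ge (Subgroup.zpowers_le.2 hmemz)
        (by rw [Nat.card_zpowers, Nat.card_zpowers, hy₁o, hy'o])
    have hy'mem : y' ∈ zpowers y₁ := by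
      rw [hzeq]
      exact mem_zpowers y'
    have hy'Q : y' ∈ (Q : Subgroup G) := (Subgroup.zpowers_le.2 hy₁Q) hy'mem
    have hy'not : y' ∉ zpowers y := by
      intro h
      apply hy₁not
      exact (Subgroup.zpowers_le.2 h) hmemz
    have hgen' := sup_zpowers_eq (Q : Subgroup G) (hQ3 hc Q) hyQ hyo hy'Q hy'not
    have hprop := propagate (fun a b : G => Commute a b)
      (by
        intro g a b hab
        show g * a * g⁻¹ * (g * b * g⁻¹) = g * b * g⁻¹ * (g * a * g⁻¹)
        have hab' : a * b = b * a := hab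
        calc g * a * g⁻¹ * (g * b * g⁻¹) = g * (a * b) * g⁻¹ := by group
          _ = g * (b * a) * g⁻¹ := by rw [hab']
          _ = g * b * g⁻¹ * (g * a * g⁻¹) := by group)
      (by
        intro a b hab
        exact (show Commute a b from hab).inv_inv)
      hw5 (hφP w hwP) hφy (show Commute y y' from Qcomm hc Q hyQ hy'Q)
    have h02 := hprop 0 2 (by norm_num)
    have h12 := hprop 1 2 (by norm_num)
    simp only [pow_zero, one_mul, inv_one, mul_one, pow_one] at h02 h12
    have hy''Q : w ^ 2 * y * (w ^ 2)⁻¹ ∈ (Q : Subgroup G) := by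
      rw [← Q_cent_eq hc Q, Subgroup.mem_centralizer_iff]
      have hleC : zpowers y ⊔ zpowers y' ≤
          centralizer ({w ^ 2 * y * (w ^ 2)⁻¹} : Set G) := by
        apply sup_le
        · rw [Subgroup.zpowers_le, Subgroup.mem_centralizer_singleton_iff]
          exact h02
        · rw [Subgroup.zpowers_le, Subgroup.mem_centralizer_singleton_iff]
          exact h12
      intro x hx
      have hx' : x ∈ zpowers y ⊔ zpowers y' := by rw [hgen']; exact hx
      exact (Subgroup.mem_centralizer_singleton_iff.1 (hleC hx'))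
    have hwN : w ∈ normalizer ((Q : Subgroup G) : Set G) :=
      mem_normalizer_of_gens hgen' hy'Q
        (by
          have h1 : w * y' * w⁻¹ = w ^ 2 * y * (w ^ 2)⁻¹ := by
            rw [hy'def, pow_two]
            group
          rw [h1]
          exact hy''Q)
    have ho : orderOf w = 5 := orderOf_eq_prime hw5 hw1
    have h4 := Subgroup.orderOf_dvd_natCard _ hwN
    rw [ho, card_norm_three hc Q] at h4
    omega
  · -- the good case
    have hyC : y ∈ centralizer ({y₁} : Set G) :=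
      Subgroup.mem_centralizer_singleton_iff.2 (Qcomm hc Q hyQ hy₁Q)
    have hrel := key_relation hc Q hy₁Q hy₁1 hy₁cent hB hyC
    rw [ht'y] at hrel
    have hprop := propagate (fun a b : G => (a * b) ^ 2 = 1)
      (by
        intro g a b hab
        show (g * a * g⁻¹ * (g * b * g⁻¹)) ^ 2 = 1
        have h1 : g * a * g⁻¹ * (g * b * g⁻¹) = g * (a * b) * g⁻¹ := by group
        rw [h1, conj_pow, hab]
        group)
      (by
        intro a b hab
        show (a⁻¹ * b⁻¹) ^ 2 = 1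
        have hab' : (a * b) ^ 2 = 1 := hab
        have h1 : (b * a) ^ 2 = 1 := by
          have h2 : b * a = a⁻¹ * (a * b) * a⁻¹⁻¹ := by group
          rw [h2, conj_pow, hab']
          group
        have h3 : a⁻¹ * b⁻¹ = (b * a)⁻¹ := by group
        rw [h3, inv_pow, h1, inv_one])
      hr5' (hφP r hrP) hφy hrel
    refine Cfsg.Agent.Lib.A7Ord.iso_of_clique hc
      (fun i : Fin 5 => r ^ (i : ℕ) * y * (r ^ (i : ℕ))⁻¹) ?_ ?_ ?_
    · intro i
      show (r ^ (i : ℕ) * y * (r ^ (i : ℕ))⁻¹) ^ 3 = 1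
      rw [conj_pow, hy3]
      group
    · intro i j hij
      apply hprop
      have hi := i.2
      have hj := j.2
      have hne : (i : ℕ) ≠ j := fun h => hij (Fin.ext h)
      omega
    · show r ^ ((0 : Fin 5) : ℕ) * y * (r ^ ((0 : Fin 5) : ℕ))⁻¹ ≠ 1
      simpa using hy1

end Cfsg.Agent.Lib.A7Ord
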