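import Mathlib
import Cfsg.Agent.Lib.A8Code

/-!
# Generators of the subgroups of the alternating group of degree eight that occur
-/

set_option autoImplicit false

namespace Cfsg.Agent.Lib.A8Code

/-- Table of the generators, three for each subgroup, 24 bits each. -/
def GG : ℕ := 0xfac6888d7d41b333d0fac688dd3941f99950fac688f83529f99950fac688dec4c8bcbd10fac688dec681dc58d1fac688f74681fa88d1fac688fac611e358d1fac688f8d8d0fac611fac688fac611fa88d1fac6883f58d0fac611fac688fac6111ee8d1fac688fac6111bd8d1fac688fac611e358d1fac688b0278fe358d1fac68832e09fe358d1fac688f746811778d1fac688bbc681a3e8d1fac688dec681dc58d1fac6883af8d0fac611fac688e6e8d0fac611fac688f8d8d0fac611bf1898deb310fa88d1fac688bf1898fa88d1fac6888d7d41b333d0fac68829ea27e358d1fac688fa5298e358d1fac68840fcece358d1fac688f0e6a8f33151fac6885739c17a99d0fac688abb981ee9990fac688dd3941f99950fac688bbc681fa88d1fac688f74681fa88d1fac688dec681fa88d1fac6881ab5397a99d0fac688e2b531ee9990fac688f83529f99950fac688fac611fa88d1bbc419deb310fa88d1fac688419be6e358d1fac68817c393e358d1fac688d794e0fa88d1fac688e7442be358d1fac688bbc419fa88d1fac688f71614fa88d1fac688deb310fa88d1fac688d788d1fa88d1fac688fa94e0fa88d1fac688fac688e358d1fac688fac688fa88d1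

/-- The `j`-th generator of the `k`-th subgroup. -/
def gen (k j : ℕ) : ℕ := slot24 GG (Nat.add (Nat.mul 3 k) j)

/-- `(0 1 2)` -/
def aC : ℕ := 16434705

/-- `(1 2 3 4 5 6 7)` -/
def bC : ℕ := 4151504

end Cfsg.Agent.Lib.A8Code
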