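import Mathlib
import Cfsg.Agent.Lib.Glauberman2
import Cfsg.Agent.Lib.Frat

/-!
# Coprime actions given abstractly by `MulDistribMulAction`.

* `exists_invariant_sylow`: an invariant Sylow subgroup (one of the two groups solvable).
* `exists_retraction`, `exists_invariant_complement`: Maschke for elementary abelian groups.
* `quotAct`: induced action on a quotient by an invariant normal subgroup.
* `exists_invariant_supplement`: for a `p`-group, invariant subgroups containing the
  Frattini subgroup have invariant supplements meeting them in the Frattini subgroup.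
-/

set_option autoImplicit false
set_option linter.style.haveILetI false

open scoped Pointwise commutatorElement

namespace Cfsg.Agent.Lib.CoprimeAct

section sylow

variable {A G : Type*} [Group A] [Group G] [MulDistribMulAction A G]

theorem exists_invariant_sylow [Finite A] [Finite G] (hcop : (Nat.card A).Coprime (Nat.card G))
    (hsol : Group.IsSolvable A ∨ Group.IsSolvable G) (p : ℕ) [Fact p.Prime] :
    ∃ P : Sylow p G, ∀ a : A, ∀ x ∈ (P : Subgroup G), a • x ∈ (P : Subgroup G) := by
  classical
  let φ : A →* MulAut G := MulDistribMulAction.toMulAut A G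
  haveI : Finite (SemidirectProduct G A φ) := Finite.of_equiv _ SemidirectProduct.equivProd.symm
  let i : G →* SemidirectProduct G A φ := SemidirectProduct.inl
  let j : A →* SemidirectProduct G A φ := SemidirectProduct.inr
  have hi : Function.Injective i := SemidirectProduct.inl_injective
  have hj : Function.Injective j := SemidirectProduct.inr_injective
  let K : Subgroup (SemidirectProduct G A φ) := i.range
  let B : Subgroup (SemidirectProduct G A φ) := j.range
  have hKn : K.Normal := by
    have : K = (SemidirectProduct.rightHom : SemidirectProduct G A φ →* A).ker :=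
      SemidirectProduct.range_inl_eq_ker_rightHom
    rw [this]
    infer_instance
  have hBK : B ≤ Subgroup.normalizer (K : Set (SemidirectProduct G A φ)) := by
    haveI := hKn
    rw [Subgroup.normalizer_eq_top K]
    exact le_top
  let eK : G ≃* K := MonoidHom.ofInjective hi
  let eB : A ≃* B := MonoidHom.ofInjective hj
  have hcardK : Nat.card K = Nat.card G := Nat.card_congr eK.symm.toEquiv
  have hcardB : Nat.card B = Nat.card A := Nat.card_congr eB.symm.toEquiv
  have hcop' : (Nat.card B).Coprime (Nat.card K) := by rw [hcardK, hcardB]; exact hcop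
  have hsol' : Group.IsSolvable B ∨ Group.IsSolvable K := by
    rcases hsol with h | h
    · exact Or.inl (Group.isSolvable_of_surjective (f := eB.toMonoidHom) eB.surjective)
    · exact Or.inr (Group.isSolvable_of_surjective (f := eK.toMonoidHom) eK.surjective)
  obtain ⟨Q, hQ⟩ := Cfsg.Agent.Lib.Glauberman2.exists_invariant_sylow hBK hcop' hsol' p
  let S : Sylow p G := Q.mapSurjective (f := eK.symm.toMonoidHom) eK.symm.surjective
  have hS : ∀ x, x ∈ (S : Subgroup G) ↔ eK x ∈ (Q : Subgroup K) := by
    intro x
    have : (S : Subgroup G) = (Q : Subgroup K).map eK.symm.toMonoidHom := rfl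
    rw [this]
    constructor
    · rintro ⟨z, hz, rfl⟩
      show eK (eK.symm z) ∈ _
      rw [eK.apply_symm_apply]
      exact hz
    · intro h
      exact ⟨_, h, by simp⟩
  refine ⟨S, fun a x hx => ?_⟩
  rw [hS] at hx ⊢
  have h1 : (i x) ∈ (Q : Subgroup K).map K.subtype := ⟨eK x, hx, rfl⟩
  have h2 : j a ∈ B := ⟨a, rfl⟩
  have h3 := (Subgroup.mem_normalizer_iff.1 (hQ h2) (i x)).1 h1
  have h4 : j a * i x * (j a)⁻¹ = i (a • x) := by
    have : i (φ a x) = j a * i x * j a⁻¹ := SemidirectProduct.inl_aut a x
    rw [map_inv] at this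
    exact this.symm
  rw [h4] at h3
  obtain ⟨z, hz, hzx⟩ := h3
  have : z = eK (a • x) := Subtype.ext hzx
  rwa [← this]

end sylow

section maschke

theorem exists_retraction_mod {V : Type*} [AddCommGroup V] (p : ℕ) [Fact p.Prime]
    [Module (ZMod p) V] (W : Submodule (ZMod p) V) :
    ∃ g : V → V, (∀ x y, g (x + y) = g x + g y) ∧ (∀ x, g x ∈ W) ∧ ∀ x ∈ W, g x = x := by
  have hk : W.subtype.ker = ⊥ := Submodule.ker_subtype W
  obtain ⟨g, hg⟩ := LinearMap.exists_leftInverse_of_injective W.subtype hk
  refine ⟨fun x => (g x).1, ?_, ?_, ?_⟩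
  · intro x y
    simp
  · intro x
    exact (g x).2
  · intro x hx
    exact congrArg Subtype.val (LinearMap.congr_fun hg ⟨x, hx⟩)

theorem exists_retraction_add {V : Type*} [AddCommGroup V] (p : ℕ) [Fact p.Prime]
    (hV : ∀ v : V, p • v = 0) (W : AddSubgroup V) :
    ∃ g : V → V, (∀ x y, g (x + y) = g x + g y) ∧ (∀ x, g x ∈ W) ∧ ∀ x ∈ W, g x = x := by
  letI : Module (ZMod p) V := AddCommGroup.zmodModule hV
  exact exists_retraction_mod p (AddSubgroup.toZModSubmodule p W)

/-- An elementary abelian group has a retraction onto each subgroup. -/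
theorem exists_retraction {V : Type*} [CommGroup V] (p : ℕ) [Fact p.Prime]
    (hV : ∀ v : V, v ^ p = 1) (W : Subgroup V) :
    ∃ f : V → V, (∀ x y, f (x * y) = f x * f y) ∧ (∀ x, f x ∈ W) ∧ ∀ x ∈ W, f x = x := by
  obtain ⟨g, h1, h2, h3⟩ := exists_retraction_add (V := Additive V) p (fun v => by
      show Additive.ofMul (v.toMul ^ p) = 0
      rw [hV]; rfl) (Subgroup.toAddSubgroup W)
  refine ⟨fun v => (g (Additive.ofMul v)).toMul, ?_, h2, h3⟩
  intro x y
  exact congrArg Additive.toMul (h1 (Additive.ofMul x) (Additive.ofMul y))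

/-- **Maschke's theorem** for a coprime action on an elementary abelian group. -/
theorem exists_invariant_complement {A V : Type*} [Group A] [Finite A] [Group V]
    [MulDistribMulAction A V] (p : ℕ) [hp : Fact p.Prime] (hcomm : ∀ x y : V, x * y = y * x)
    (hV : ∀ v : V, v ^ p = 1) (hA : (Nat.card A).Coprime p) (W : Subgroup V)
    (hW : ∀ a : A, ∀ v ∈ W, a • v ∈ W) :
    ∃ U : Subgroup V, (∀ a : A, ∀ v ∈ U, a • v ∈ U) ∧ W ⊓ U = ⊥ ∧ W ⊔ U = ⊤ := by
  classical
  haveI := Fintype.ofFinite A
  obtain ⟨f, hf1, hf2, hf3⟩ : ∃ f : V → V, (∀ x y, f (x * y) = f x * f y) ∧ (∀ x, f x ∈ W) ∧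
      ∀ x ∈ W, f x = x := by
    letI : CommGroup V := { (inferInstance : Group V) with mul_comm := hcomm }
    exact exists_retraction p hV W
  letI cg : CommGroup V := { (inferInstance : Group V) with mul_comm := hcomm }
  let F : V →* V :=
    { toFun := fun v => ∏ a : A, a • f (a⁻¹ • v)
      map_one' := by
        apply Finset.prod_eq_one
        intro a _
        have h1 : f 1 = 1 := by
          have := hf1 1 1
          rw [mul_one] at this
          exact (mul_eq_left.1 this.symm)
        rw [smul_one, h1, smul_one]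
      map_mul' := by
        intro x y
        rw [← Finset.prod_mul_distrib]
        apply Finset.prod_congr rfl
        intro a _
        rw [smul_mul', hf1, smul_mul'] }
  have hFdef : ∀ v, F v = ∏ a : A, a • f (a⁻¹ • v) := fun v => rfl
  have hFW : ∀ v, F v ∈ W := by
    intro v
    rw [hFdef]
    exact Subgroup.prod_mem W fun a _ => hW a _ (hf2 _)
  have hFb : ∀ (b : A) v, F (b • v) = b • F v := by
    intro b v
    rw [hFdef, hFdef, Finset.smul_prod']
    refine Fintype.prod_equiv (Equiv.mulLeft b⁻¹) _ _ ?_
    intro a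
    simp only [Equiv.coe_mulLeft, mul_inv_rev, inv_inv, smul_smul]
    rw [mul_inv_cancel_left]
  have hFw : ∀ w ∈ W, F w = w ^ Nat.card A := by
    intro w hw
    rw [hFdef]
    rw [Finset.prod_congr rfl (g := fun _ => w)]
    · rw [Finset.prod_const, Finset.card_univ, Nat.card_eq_fintype_card]
    · intro a _
      rw [hf3 _ (hW a⁻¹ w hw), smul_inv_smul]
  obtain ⟨m, -, hm⟩ := Nat.exists_mul_mod_eq_one_of_coprime hA hp.out.one_lt
  have hpow : ∀ v : V, (v ^ Nat.card A) ^ m = v := by
    intro v
    rw [← pow_mul, ← Nat.div_add_mod (Nat.card A * m) p, hm, pow_add, pow_mul, hV, one_pow, one_mul,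
      pow_one]
  refine ⟨F.ker, ?_, ?_, ?_⟩
  · intro a v hv
    rw [MonoidHom.mem_ker] at hv ⊢
    rw [hFb, hv, smul_one]
  · rw [eq_bot_iff]
    rintro v ⟨hvW, hvK⟩
    have hvK' : F v = 1 := hvK
    rw [hFw v hvW] at hvK'
    have := hpow v
    rw [hvK', one_pow] at this
    rw [Subgroup.mem_bot]
    exact this.symm
  · rw [eq_top_iff]
    intro v _
    have h1 : v = (F v) ^ m * ((F v) ^ m)⁻¹ * v := by group
    have h2 : ((F v) ^ m)⁻¹ * v ∈ F.ker := by
      rw [MonoidHom.mem_ker, map_mul, map_inv, map_pow, hFw _ (hFW v)]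
      rw [hpow (F v), inv_mul_cancel]
    rw [h1, mul_assoc]
    exact Subgroup.mul_mem_sup (W.pow_mem (hFW v) m) h2

end maschke

section quot

variable {A G : Type*} [Group A] [Group G] [MulDistribMulAction A G]

/-- The endomorphism induced on the quotient by an invariant normal subgroup. -/
def quotHom (N : Subgroup G) [N.Normal] (hN : ∀ a : A, ∀ x ∈ N, a • x ∈ N) (a : A) :
    G ⧸ N →* G ⧸ N :=
  QuotientGroup.map N N (MulDistribMulAction.toMonoidHom G a) (fun x hx => hN a x hx)

theorem quotHom_mk (N : Subgroup G) [N.Normal] (hN : ∀ a : A, ∀ x ∈ N, a • x ∈ N) (a : A) (x : G) :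
    quotHom N hN a (x : G ⧸ N) = ((a • x : G) : G ⧸ N) := rfl

/-- The action induced on the quotient by an invariant normal subgroup. -/
@[reducible] def quotAct (N : Subgroup G) [N.Normal] (hN : ∀ a : A, ∀ x ∈ N, a • x ∈ N) :
    MulDistribMulAction A (G ⧸ N) where
  smul a q := quotHom N hN a q
  one_smul q := by
    induction q using QuotientGroup.induction_on with
    | H x =>
      show quotHom N hN (1 : A) (x : G ⧸ N) = x
      rw [quotHom_mk, one_smul]
  mul_smul a b q := by
    induction q using QuotientGroup.induction_on with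
    | H x =>
      show quotHom N hN (a * b) (x : G ⧸ N) = quotHom N hN a (quotHom N hN b (x : G ⧸ N))
      rw [quotHom_mk, quotHom_mk, quotHom_mk, mul_smul]
  smul_mul a x y := map_mul _ x y
  smul_one a := map_one _

end quot

section frattini

variable {A G : Type*} [Group A] [Group G] [MulDistribMulAction A G]

theorem frattini_invariant (a : A) (x : G) (hx : x ∈ frattini G) : a • x ∈ frattini G :=
  Subgroup.characteristic_iff_le_comap.1 (inferInstance : (frattini G).Characteristic)
    (MulDistribMulAction.toMulEquiv G a) hx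

/-- Invariant subgroups above the Frattini subgroup of a `p`-group have invariant supplements. -/
theorem exists_invariant_supplement [Finite A] [Finite G] {p : ℕ} [hp : Fact p.Prime]
    (hG : IsPGroup p G) (hcop : (Nat.card A).Coprime p) (M : Subgroup G)
    (hM : ∀ a : A, ∀ x ∈ M, a • x ∈ M) (hΦ : frattini G ≤ M) :
    ∃ C : Subgroup G, (∀ a : A, ∀ x ∈ C, a • x ∈ C) ∧ M ⊔ C = ⊤ ∧ M ⊓ C = frattini G := by
  classical
  haveI hn : (frattini G).Normal := inferInstance
  letI act : MulDistribMulAction A (G ⧸ frattini G) := quotAct (frattini G) frattini_invariant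
  have hsmul : ∀ (a : A) (x : G), a • (x : G ⧸ frattini G) = ((a • x : G) : G ⧸ frattini G) :=
    fun a x => rfl
  let q : G →* G ⧸ frattini G := QuotientGroup.mk' (frattini G)
  have hq : Function.Surjective q := QuotientGroup.mk'_surjective _
  have hker : q.ker = frattini G := QuotientGroup.ker_mk' _
  have hcomm : ∀ x y : G ⧸ frattini G, x * y = y * x := by
    intro x y
    induction x using QuotientGroup.induction_on with
    | H x =>
    induction y using QuotientGroup.induction_on with
    | H y =>
    rw [← QuotientGroup.mk_mul, ← QuotientGroup.mk_mul, QuotientGroup.eq]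
    have h : ⁅y⁻¹, x⁻¹⁆ ∈ commutator G :=
      Subgroup.commutator_mem_commutator (Subgroup.mem_top _) (Subgroup.mem_top _)
    have h2 := Cfsg.Agent.Lib.Frat.commutator_le_frattini hG h
    have h3 : (x * y)⁻¹ * (y * x) = ⁅y⁻¹, x⁻¹⁆ := by
      simp [commutatorElement_def, mul_assoc]
    rw [h3]
    exact h2
  have hV : ∀ v : G ⧸ frattini G, v ^ p = 1 := by
    intro v
    induction v using QuotientGroup.induction_on with
    | H x =>
    rw [← QuotientGroup.mk_pow, QuotientGroup.eq_one_iff]
    exact Cfsg.Agent.Lib.Frat.pow_mem_frattini hG x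
  have hW : ∀ a : A, ∀ v ∈ M.map q, a • v ∈ M.map q := by
    rintro a _ ⟨x, hx, rfl⟩
    exact ⟨a • x, hM a x hx, rfl⟩
  obtain ⟨U, hU, hinf, hsup⟩ := exists_invariant_complement (A := A) (V := G ⧸ frattini G) p hcomm hV
    hcop (M.map q) hW
  have hcm : (M.map q).comap q = M := by
    rw [Subgroup.comap_map_eq_self]
    rw [hker]
    exact hΦ
  refine ⟨U.comap q, ?_, ?_, ?_⟩
  · intro a x hx
    exact hU a _ hx
  · have h5 := Subgroup.comap_sup_eq q (M.map q) U hq
    rw [hsup, Subgroup.comap_top, hcm] at h5
    exact h5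
  · rw [← hcm, ← Subgroup.comap_inf, hinf, MonoidHom.comap_bot]
    exact hker

end frattini

end Cfsg.Agent.Lib.CoprimeAct
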