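import Mathlib
import Cfsg.Agent.Lib.Hall
import Cfsg.Agent.Lib.MinNorm
import Cfsg.Agent.Lib.CoprimeAct

/-!
# P. Hall's count of Hall subgroups of a solvable group.

* `irr_modEq`, `module_factor`: the order of a faithful-free coprime module is a product of
  prime powers congruent to one modulo primes dividing the order of the acting group.
* `card_hall_mul_normalizer`: orbit-stabilizer for Hall subgroups.
* `hall_count_aux`: the factorization.
-/

set_option autoImplicit false
set_option linter.style.haveILetI false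

open scoped Pointwise

namespace Cfsg.Agent.Lib.HallCount

universe u v

section module

variable {H : Type*} {V : Type*} [Group H] [Group V] [Finite V]
  [MulDistribMulAction H V]

/-- The order of an irreducible fixed-point-free coprime module is `≡ 1` modulo a prime
dividing the order of the solvable group acting. -/
theorem irr_modEq [Finite H] [Group.IsSolvable H] (V₁ : Subgroup V) (hinv : ∀ h : H, ∀ v ∈ V₁, h • v ∈ V₁)
    (hne : V₁ ≠ ⊥)
    (hmin : ∀ U : Subgroup V, U ≤ V₁ → (∀ h : H, ∀ v ∈ U, h • v ∈ U) → U = ⊥ ∨ U = V₁)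
    (hfix : ∀ v ∈ V₁, (∀ h : H, h • v = v) → v = 1) :
    ∃ r : ℕ, r.Prime ∧ r ∣ Nat.card H ∧ Nat.card V₁ ≡ 1 [MOD r] := by
  classical
  -- the action on `V₁`
  let φ : H →* MulAut V₁ :=
    { toFun := fun h =>
        { toFun := fun v => ⟨h • (v : V), hinv h v v.2⟩
          invFun := fun v => ⟨h⁻¹ • (v : V), hinv h⁻¹ v v.2⟩
          left_inv := fun v => by ext; simp
          right_inv := fun v => by ext; simp
          map_mul' := fun x y => by ext; simp [smul_mul'] }
      map_one' := by ext v; simp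
      map_mul' := fun a b => by ext v; simp [mul_smul] }
  have hφ : ∀ h v, ((φ h v : V₁) : V) = h • (v : V) := fun _ _ => rfl
  let A := φ.range
  haveI : Group.IsSolvable A := Group.isSolvable_of_surjective (f := φ.rangeRestrict) φ.rangeRestrict_surjective
  -- `A` is nontrivial
  have hAne : (⊤ : Subgroup A) ≠ ⊥ := by
    intro htop
    have hall : ∀ h : H, φ h = 1 := by
      intro h
      have : (⟨φ h, ⟨h, rfl⟩⟩ : A) ∈ (⊥ : Subgroup A) := htop ▸ Subgroup.mem_top _
      have h2 := Subgroup.mem_bot.mp this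
      exact congrArg Subtype.val h2
    apply hne
    rw [eq_bot_iff]
    intro v hv
    rw [Subgroup.mem_bot]
    refine hfix v hv fun h => ?_
    have := DFunLike.congr_fun (hall h) ⟨v, hv⟩
    have h3 := congrArg Subtype.val this
    exact h3
  obtain ⟨R, hRn, hRb, -, hRmin⟩ := Cfsg.Agent.Lib.MinNorm.exists_minimal_normal_le (⊤ : Subgroup A) inferInstance hAne
  haveI := hRn
  obtain ⟨r, hr, -, hRr⟩ := Cfsg.Agent.Lib.MinNorm.minimal_normal_abelian R hRb hRmin
  have hRp : IsPGroup r R := Cfsg.Agent.Lib.MinNorm.isPGroup_of_exponent hRr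
  haveI : Fact r.Prime := ⟨hr⟩
  refine ⟨r, hr, ?_, ?_⟩
  · -- `r` divides `|H|`
    have hne1 : Nat.card R ≠ 1 := fun h => hRb (Subgroup.card_eq_one.mp h)
    obtain ⟨k, hk⟩ := IsPGroup.iff_card.mp hRp
    have hk0 : k ≠ 0 := by
      rintro rfl
      exact hne1 (by simpa using hk)
    have h1 : r ∣ Nat.card R := by
      rw [hk]
      exact dvd_pow_self r hk0
    have h2 : Nat.card R ∣ Nat.card A := Subgroup.card_subgroup_dvd_card R
    have h3 : Nat.card A ∣ Nat.card H :=
      Subgroup.card_dvd_of_surjective φ.rangeRestrict φ.rangeRestrict_surjective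
    exact h1.trans (h2.trans h3)
  · -- the action of `R` on `V₁` has only the trivial fixed point.
    let act : MulAction R V₁ := MulAction.compHom V₁ (A.subtype.comp R.subtype : R →* MulAut V₁)
    have hact : ∀ (ρ : R) (v : V₁), ρ • v = ((ρ : A) : MulAut V₁) v := fun _ _ => rfl
    have hmod := hRp.card_modEq_card_fixedPoints V₁
    -- fixed subgroup of `V`
    let F : Subgroup V :=
      { carrier := {v | ∃ hv : v ∈ V₁, ∀ ρ : R, ((ρ : A) : MulAut V₁) ⟨v, hv⟩ = ⟨v, hv⟩}
        mul_mem' := by
          rintro a b ⟨ha, ha'⟩ ⟨hb, hb'⟩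
          refine ⟨V₁.mul_mem ha hb, fun ρ => ?_⟩
          have := congrArg₂ (· * ·) (ha' ρ) (hb' ρ)
          simp only [← map_mul] at this
          exact this
        one_mem' := ⟨V₁.one_mem, fun ρ => map_one _⟩
        inv_mem' := by
          rintro a ⟨ha, ha'⟩
          refine ⟨V₁.inv_mem ha, fun ρ => ?_⟩
          have := congrArg (·⁻¹) (ha' ρ)
          simp only [← map_inv] at this
          exact this }
    have hFle : F ≤ V₁ := fun v hv => hv.1
    have hFinv : ∀ h : H, ∀ v ∈ F, h • v ∈ F := by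
      rintro h v ⟨hv, hv'⟩
      refine ⟨hinv h v hv, fun ρ => ?_⟩
      -- conjugate of ρ by φ h
      let a : A := ⟨φ h, ⟨h, rfl⟩⟩
      have hρ' : a⁻¹ * (ρ : A) * a ∈ R := by
        have := hRn.conj_mem (ρ : A) ρ.2 a⁻¹
        simpa using this
      have h1 := hv' ⟨_, hρ'⟩
      have h2 : (φ h) (((a⁻¹ * (ρ : A) * a : A) : MulAut V₁) ⟨v, hv⟩) = φ h ⟨v, hv⟩ := by
        exact congrArg (φ h) h1
      have h3 : (φ h) (((a⁻¹ * (ρ : A) * a : A) : MulAut V₁) ⟨v, hv⟩) = ((ρ : A) : MulAut V₁) (φ h ⟨v, hv⟩) := by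
        show (φ h) ((φ h)⁻¹ (((ρ : A) : MulAut V₁) (φ h ⟨v, hv⟩))) = _
        simp
      rw [h3] at h2
      exact h2
    have hFb : F = ⊥ := by
      rcases hmin F hFle hFinv with h | h
      · exact h
      · exfalso
        apply hRb
        rw [eq_bot_iff]
        intro ρ hρ
        rw [Subgroup.mem_bot]
        apply Subtype.ext
        apply MulEquiv.ext
        intro v
        have hv : (v : V) ∈ F := (le_of_eq h.symm) v.2
        exact hv.2 ⟨ρ, hρ⟩
    have hfp : Nat.card (MulAction.fixedPoints R V₁) = 1 := by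
      rw [Nat.card_eq_one_iff_unique]
      refine ⟨⟨fun a b => ?_⟩, ⟨⟨1, fun ρ => map_one ((ρ : A) : MulAut V₁)⟩⟩⟩
      have key : ∀ a : MulAction.fixedPoints R V₁, ((a : V₁) : V) = 1 := by
        intro a
        have : ((a : V₁) : V) ∈ F := ⟨(a : V₁).2, fun ρ => a.2 ρ⟩
        rw [hFb] at this
        exact Subgroup.mem_bot.mp this
      apply Subtype.ext
      apply Subtype.ext
      rw [key a, key b]
    rw [hfp] at hmod
    exact hmod

/-- The factorization of the order of a coprime module without fixed points. -/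
theorem module_factor [Finite H] [Group.IsSolvable H] (q : ℕ) [Fact q.Prime] (hcomm : ∀ x y : V, x * y = y * x)
    (hV : ∀ v : V, v ^ q = 1) (hcop : (Nat.card H).Coprime q) :
    ∀ (W : Subgroup V), (∀ h : H, ∀ v ∈ W, h • v ∈ W) →
      (∀ v ∈ W, (∀ h : H, h • v = v) → v = 1) →
      ∃ l : List ℕ, Nat.card W = l.prod ∧ ∀ x ∈ l, (∃ e : ℕ, x = q ^ e) ∧ x ∣ Nat.card W ∧
        ∃ r : ℕ, r.Prime ∧ r ∣ Nat.card H ∧ x ≡ 1 [MOD r] := by
  classical
  intro W
  induction hn : Nat.card W using Nat.strong_induction_on generalizing W with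
  | _ n ih =>
  intro hW hfix
  by_cases hb : W = ⊥
  · refine ⟨[], ?_, by simp⟩
    subst hb
    rw [← hn]
    simp
  -- a minimal invariant subgroup in `W`
  let S : Set (Subgroup V) := {U | U ≠ ⊥ ∧ U ≤ W ∧ ∀ h : H, ∀ v ∈ U, h • v ∈ U}
  have hSne : S.Nonempty := ⟨W, hb, le_rfl, hW⟩
  obtain ⟨V₁, hV₁⟩ := S.toFinite.exists_minimal hSne
  obtain ⟨⟨hV₁b, hV₁W, hV₁i⟩, hV₁min⟩ := hV₁
  have hirr := irr_modEq (H := H) V₁ hV₁i hV₁b (fun U hU hUi => by
    by_cases hUb : U = ⊥
    · exact Or.inl hUb
    · exact Or.inr (le_antisymm hU (hV₁min ⟨hUb, hU.trans hV₁W, hUi⟩ hU)))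
    (fun v hv => hfix v (hV₁W hv))
  obtain ⟨r, hr, hrd, hrm⟩ := hirr
  obtain ⟨U, hUi, hinf, hsup⟩ := Cfsg.Agent.Lib.CoprimeAct.exists_invariant_complement (A := H) (V := V)
    q hcomm hV hcop V₁ hV₁i
  -- Dedekind
  let W₂ := U ⊓ W
  have hW₂i : ∀ h : H, ∀ v ∈ W₂, h • v ∈ W₂ := fun h v hv => ⟨hUi h v hv.1, hW h v hv.2⟩
  have hdisj : Disjoint V₁ W₂ := by
    rw [disjoint_iff, eq_bot_iff, ← hinf]
    exact inf_le_inf_left _ inf_le_left
  have hnormal : W₂.Normal := ⟨fun a ha g => by
    have : g * a * g⁻¹ = a := by rw [hcomm g a]; group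
    rwa [this]⟩
  have hsupW : V₁ ⊔ W₂ = W := by
    apply le_antisymm (sup_le hV₁W inf_le_right)
    intro x hx
    have hxtop : x ∈ V₁ ⊔ U := hsup ▸ Subgroup.mem_top x
    haveI hUn : U.Normal := ⟨fun a ha g => by
      have : g * a * g⁻¹ = a := by rw [hcomm g a]; group
      rwa [this]⟩
    rw [← SetLike.mem_coe, Subgroup.mul_normal, Set.mem_mul] at hxtop
    obtain ⟨a, ha, b, hb', rfl⟩ := hxtop
    refine Subgroup.mul_mem_sup ha ⟨hb', ?_⟩
    have := W.mul_mem (W.inv_mem (hV₁W ha)) hx
    simpa using this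
  have hcard : Nat.card W = Nat.card V₁ * Nat.card W₂ := by
    haveI := hnormal
    rw [← hsupW, Cfsg.Agent.Lib.Coprime.card_sup_eq, Cfsg.Agent.Lib.Coprime.relIndex_eq_card_of_disjoint hdisj]
  have hV₁1 : 1 < Nat.card V₁ := by
    have h1 : Nat.card V₁ ≠ 1 := fun h => hV₁b (Subgroup.card_eq_one.mp h)
    have h2 : 0 < Nat.card V₁ := Nat.card_pos
    omega
  have hlt : Nat.card W₂ < n := by
    rw [← hn, hcard]
    have : 0 < Nat.card W₂ := Nat.card_pos
    nlinarith
  obtain ⟨l, hl, hl2⟩ := ih _ hlt W₂ rfl hW₂i (fun v hv => hfix v hv.2)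
  have hq : IsPGroup q V₁ := by
    apply Cfsg.Agent.Lib.MinNorm.isPGroup_of_exponent
    exact fun x _ => hV x
  obtain ⟨e, he⟩ := IsPGroup.iff_card.mp hq
  refine ⟨Nat.card V₁ :: l, ?_, ?_⟩
  · rw [← hn, hcard, List.prod_cons, hl]
  · intro x hx
    rcases List.mem_cons.mp hx with rfl | hx
    · exact ⟨⟨e, he⟩, ⟨Nat.card W₂, by rw [← hn, hcard]⟩, r, hr, hrd, hrm⟩
    · obtain ⟨h1, h2, h3⟩ := hl2 x hx
      refine ⟨h1, h2.trans ?_, h3⟩
      rw [← hn, hcard]
      exact Dvd.intro_left _ rfl

end module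


section hall

open Cfsg.Agent.Lib.Coprime Cfsg.Agent.Lib.PCore

variable {G : Type u} [Group G] [Finite G]

/-- Two complements of an abelian normal subgroup `N` in `H₁N` are conjugate by an element of `N`. -/
theorem conj_in_normal (N : Subgroup G) [hN : N.Normal] (hab : ∀ x ∈ N, ∀ y ∈ N, x * y = y * x)
    {H₁ H₂ : Subgroup G} (hc : Nat.card H₁ = Nat.card H₂)
    (hcop : (Nat.card N).Coprime (Nat.card H₁)) (hle : H₂ ≤ H₁ ⊔ N) :
    ∃ x ∈ N, MulAut.conj x • H₁ = H₂ := by
  classical
  let L : Subgroup G := H₁ ⊔ N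
  have hdisj : Disjoint H₁ N := Subgroup.disjoint_of_coprime_natCard hcop.symm
  have hcardL : Nat.card L = Nat.card H₁ * Nat.card N := by
    show Nat.card (H₁ ⊔ N : Subgroup G) = _
    rw [card_sup_eq, relIndex_eq_card_of_disjoint hdisj]
  have hNL : N ≤ L := le_sup_right
  have hH₁L : H₁ ≤ L := le_sup_left
  let A : Subgroup L := N.subgroupOf L
  haveI : A.Normal := Subgroup.Normal.subgroupOf hN L
  haveI : IsMulCommutative A := ⟨⟨fun a b => by
    apply Subtype.ext
    apply Subtype.ext
    exact hab _ a.2 _ b.2⟩⟩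
  have hcardA : Nat.card A = Nat.card N := card_subgroupOf_of_le hNL
  have hH₁' : Nat.card (H₁.subgroupOf L) = Nat.card H₁ := card_subgroupOf_of_le hH₁L
  have hH₂' : Nat.card (H₂.subgroupOf L) = Nat.card H₂ := card_subgroupOf_of_le hle
  have hcompl1 : Subgroup.IsComplement' A (H₁.subgroupOf L) := by
    apply Subgroup.isComplement'_of_coprime
    · rw [hcardA, hH₁', hcardL, mul_comm]
    · rw [hcardA, hH₁']; exact hcop
  have hcompl2 : Subgroup.IsComplement' A (H₂.subgroupOf L) := by
    apply Subgroup.isComplement'_of_coprime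
    · rw [hcardA, hH₂', hcardL, ← hc, mul_comm]
    · rw [hcardA, hH₂', ← hc]; exact hcop
  have hindex : A.index = Nat.card H₁ := by
    have := Subgroup.card_mul_index A
    rw [hcardA, hcardL, mul_comm] at this
    exact Nat.eq_of_mul_eq_mul_right Nat.card_pos this
  have hcopA : (Nat.card A).Coprime A.index := by
    rw [hcardA, hindex]; exact hcop
  obtain ⟨a, haA, ha⟩ := exists_mem_conj_smul_eq_of_abelian A hcopA _ _ hcompl1 hcompl2
  refine ⟨(a : G), haA, conj_smul_eq_of_le_of_card (fun x hx => ?_) hc⟩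
  have hx' : (⟨x, hH₁L hx⟩ : L) ∈ H₁.subgroupOf L := hx
  have h1 := conj_mem_of_smul_eq ha hx'
  exact h1

/-- Orbit-stabilizer for Hall subgroups. -/
theorem card_hall_mul_normalizer [Group.IsSolvable G] (m n : ℕ) (hG : Nat.card G = m * n)
    (hmn : m.Coprime n) (H₀ : Subgroup G) (hH₀ : Nat.card H₀ = m) :
    Nat.card {H : Subgroup G // Nat.card H = m} * Nat.card (Subgroup.normalizer (H₀ : Set G)) =
      Nat.card G := by
  classical
  letI : MulAction G (Subgroup G) := MulAction.compHom _ (MulAut.conj : G →* MulAut G)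
  have hsmul : ∀ (g : G) (H : Subgroup G), g • H = MulAut.conj g • H := fun _ _ => rfl
  have horbit : MulAction.orbit G H₀ = {H : Subgroup G | Nat.card H = m} := by
    ext K
    constructor
    · rintro ⟨g, rfl⟩
      show Nat.card ((g • H₀ : Subgroup G)) = m
      rw [hsmul, card_conj_smul, hH₀]
    · intro hK
      have hK' : Nat.card K = m := hK
      obtain ⟨g, hg⟩ := (Cfsg.Agent.Lib.Hall.hall_main _ G m n rfl hG hmn).2 H₀ K hH₀ (by rw [hK']; exact hmn)
      refine ⟨g, ?_⟩
      symm
      apply Subgroup.eq_of_le_of_card_ge hg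
      show Nat.card (MulAut.conj g • H₀ : Subgroup G) ≤ _
      rw [card_conj_smul, hH₀, hK']
  have hstab : MulAction.stabilizer G H₀ = Subgroup.normalizer (H₀ : Set G) := by
    ext g
    rw [MulAction.mem_stabilizer_iff, Subgroup.mem_normalizer_iff, hsmul]
    constructor
    · intro h x
      constructor
      · intro hx
        have := conj_mem_of_smul_eq h hx
        exact this
      · intro hx
        have : g * x * g⁻¹ ∈ MulAut.conj g • H₀ := by rw [h]; exact hx
        rw [mem_conj_smul_iff] at this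
        have h3 : g⁻¹ * (g * x * g⁻¹) * g = x := by group
        rwa [h3] at this
    · intro h
      apply conj_smul_eq_of_le_of_card
      · intro x hx
        exact (h x).mp hx
      · rfl
  haveI := Fintype.ofFinite G
  haveI := Fintype.ofFinite (MulAction.orbit G H₀)
  haveI := Fintype.ofFinite (MulAction.stabilizer G H₀)
  have h := MulAction.card_orbit_mul_card_stabilizer_eq_card_group G H₀
  simp only [← Nat.card_eq_fintype_card] at h
  rw [← h, hstab]
  congr 1
  have := horbit
  exact Nat.card_congr (Equiv.setCongr horbit.symm)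

/-- Normalizer of the image of a complement. -/
theorem card_normalizer_quot (N : Subgroup G) [hN : N.Normal] (hab : ∀ x ∈ N, ∀ y ∈ N, x * y = y * x)
    (H₀ : Subgroup G) (hcop : (Nat.card N).Coprime (Nat.card H₀)) :
    Nat.card (Subgroup.normalizer ((H₀.map (QuotientGroup.mk' N) : Subgroup (G ⧸ N)) : Set (G ⧸ N))) *
      Nat.card ((Subgroup.centralizer (H₀ : Set G)).subgroupOf N) =
    Nat.card (Subgroup.normalizer (H₀ : Set G)) := by
  classical
  set f := QuotientGroup.mk' N with hf
  have hfsurj : Function.Surjective f := QuotientGroup.mk'_surjective N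
  have hker : f.ker = N := QuotientGroup.ker_mk' N
  have hdisj : Disjoint H₀ N := Subgroup.disjoint_of_coprime_natCard hcop.symm
  set A := Subgroup.normalizer (H₀ : Set G) with hA
  -- the image of `A`
  have himg : A.map f = Subgroup.normalizer ((H₀.map f : Subgroup (G ⧸ N)) : Set (G ⧸ N)) := by
    apply le_antisymm
    · rintro _ ⟨a, ha, rfl⟩
      rw [Subgroup.mem_normalizer_iff]
      intro y
      induction y using QuotientGroup.induction_on with
      | H y =>
      constructor
      · rintro ⟨z, hz, hzy⟩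
        refine ⟨a * z * a⁻¹, (Subgroup.mem_normalizer_iff.mp ha z).mp hz, ?_⟩
        rw [map_mul, map_mul, map_inv]
        exact congrArg (fun t => f a * t * (f a)⁻¹) hzy
      · rintro ⟨z, hz, hzy⟩
        have h3 : (a⁻¹ * z * a) ∈ H₀ := by
          have := (Subgroup.mem_normalizer_iff.mp (A.inv_mem ha) z).mp hz
          simpa using this
        refine ⟨_, h3, ?_⟩
        rw [map_mul, map_mul, map_inv, hzy]
        show (f a)⁻¹ * (f a * f y * (f a)⁻¹) * f a = f y
        group
    · intro y hy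
      obtain ⟨t, rfl⟩ := hfsurj y
      -- `t` conjugates `H₀` into `H₀ N`.
      have hle : MulAut.conj t • H₀ ≤ H₀ ⊔ N := by
        intro z hz
        rw [mem_conj_smul_iff] at hz
        have h1 : f (t⁻¹ * z * t) ∈ H₀.map f := ⟨_, hz, rfl⟩
        have h2 := (Subgroup.mem_normalizer_iff.mp hy (f (t⁻¹ * z * t))).mp h1
        obtain ⟨w, hw, hw2⟩ := h2
        have h3 : f w = f z := by
          rw [hw2]
          simp only [map_mul, map_inv]
          group
        have h4 : w⁻¹ * z ∈ N := by
          rw [← hker, MonoidHom.mem_ker, map_mul, map_inv, h3]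
          group
        have h5 : z = w * (w⁻¹ * z) := by group
        rw [h5]
        exact Subgroup.mul_mem_sup hw h4
      obtain ⟨x, hxN, hx⟩ := conj_in_normal N hab (H₁ := H₀) (H₂ := MulAut.conj t • H₀)
        (card_conj_smul t H₀).symm hcop hle
      refine ⟨x⁻¹ * t, ?_, ?_⟩
      · show x⁻¹ * t ∈ Subgroup.normalizer (H₀ : Set G)
        rw [Subgroup.mem_normalizer_iff]
        intro z
        have key : ∀ u : G, u ∈ H₀ → x * u * x⁻¹ ∈ MulAut.conj t • H₀ := fun u hu => by
          exact conj_mem_of_smul_eq hx hu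
        constructor
        · intro hz
          have h1 : t * z * t⁻¹ ∈ MulAut.conj x • H₀ := by
            rw [hx, mem_conj_smul_iff]
            simpa [mul_assoc] using hz
          rw [mem_conj_smul_iff] at h1
          have h2 : x⁻¹ * t * z * (x⁻¹ * t)⁻¹ = x⁻¹ * (t * z * t⁻¹) * x := by group
          rwa [h2]
        · intro hz
          have h1 : x * (x⁻¹ * t * z * (x⁻¹ * t)⁻¹) * x⁻¹ ∈ MulAut.conj t • H₀ := key _ hz
          rw [mem_conj_smul_iff] at h1
          have h2 : t⁻¹ * (x * (x⁻¹ * t * z * (x⁻¹ * t)⁻¹) * x⁻¹) * t = z := by group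
          rwa [h2] at h1
      · have : f x = 1 := by
          rw [← MonoidHom.mem_ker, hker]; exact hxN
        rw [map_mul, map_inv, this]
        simp
  -- the kernel
  have hinf : (A ⊓ N : Subgroup G) = Subgroup.centralizer (H₀ : Set G) ⊓ N := by
    ext x
    simp only [Subgroup.mem_inf]
    constructor
    · rintro ⟨hxA, hxN⟩
      refine ⟨?_, hxN⟩
      rw [Subgroup.mem_centralizer_iff]
      intro h hh
      have h1 : x * h * x⁻¹ ∈ H₀ := (Subgroup.mem_normalizer_iff.mp hxA h).mp hh
      have h2 : x * h * x⁻¹ * h⁻¹ ∈ H₀ := H₀.mul_mem h1 (H₀.inv_mem hh)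
      have h3 : x * h * x⁻¹ * h⁻¹ ∈ N := by
        have h4 : x * (h * x⁻¹ * h⁻¹) = x * h * x⁻¹ * h⁻¹ := by group
        rw [← h4]
        exact N.mul_mem hxN (hN.conj_mem _ (N.inv_mem hxN) h)
      have h5 : x * h * x⁻¹ * h⁻¹ ∈ H₀ ⊓ N := ⟨h2, h3⟩
      rw [hdisj.eq_bot, Subgroup.mem_bot] at h5
      have h6 : x * h = h * x := by
        have h7 : x * h * x⁻¹ * h⁻¹ * (h * x) = x * h := by group
        rw [← h7, h5, one_mul]
      exact h6.symm
    · rintro ⟨hxC, hxN⟩
      refine ⟨?_, hxN⟩
      rw [Subgroup.mem_normalizer_iff]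
      intro h
      rw [Subgroup.mem_centralizer_iff] at hxC
      constructor
      · intro hh
        have h1 := hxC h hh
        have h2 : x * h * x⁻¹ = h := by rw [← h1]; group
        rwa [h2]
      · intro hh
        have h1 := hxC _ hh
        have h4 : h = x * h * x⁻¹ := by
          apply mul_left_cancel (a := x)
          calc x * h = (x * h * x⁻¹) * x := by group
            _ = x * (x * h * x⁻¹) := h1
        rwa [← h4] at hh
  have h1 : Nat.card A = Nat.card (A.map f) * Nat.card (A ⊓ N : Subgroup G) := by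
    have h2 := relIndex_mul_card_of_le (H := A ⊓ N) (T := A) inf_le_left
    rw [Subgroup.inf_relIndex_left, ← hker, Subgroup.relIndex_ker, hker] at h2
    exact h2.symm
  have h2 : Nat.card ((Subgroup.centralizer (H₀ : Set G)).subgroupOf N) =
      Nat.card (A ⊓ N : Subgroup G) := by
    rw [hinf, ← Subgroup.inf_subgroupOf_right]
    exact card_subgroupOf_of_le inf_le_right
  rw [h1, h2, himg]

/-- The predicate of the statement. -/
def Good (G : Type u) [Group G] (m x : ℕ) : Prop :=
  (∃ q e : ℕ, q.Prime ∧ x = q ^ e) ∧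
  (∃ K L : Subgroup G, K.Normal ∧ L.Normal ∧ K < L ∧
    (∀ M : Subgroup G, M.Normal → K ≤ M → M ≤ L → M = K ∨ M = L) ∧ x ∣ K.relIndex L) ∧
  (∃ q : ℕ, q.Prime ∧ q ∣ m ∧ x ≡ 1 [MOD q])

omit [Finite G] in
/-- Lifting chief factors through a quotient. -/
theorem Good.lift {N : Subgroup G} [hN : N.Normal] {m' m x : ℕ} (h : Good (G ⧸ N) m' x) (hd : m' ∣ m) :
    Good G m x := by
  obtain ⟨h1, ⟨K, L, hK, hL, hKL, hmin, hdvd⟩, q, hq, hqm, hqx⟩ := h
  refine ⟨h1, ⟨K.comap (QuotientGroup.mk' N), L.comap (QuotientGroup.mk' N),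
    hK.comap _, hL.comap _, ?_, ?_, ?_⟩, q, hq, hqm.trans hd, hqx⟩
  · exact (Subgroup.comap_lt_comap_of_surjective (QuotientGroup.mk'_surjective N)).mpr hKL
  · intro M hM hKM hML
    have hsurj := QuotientGroup.mk'_surjective N
    have hker : (QuotientGroup.mk' N).ker = N := QuotientGroup.ker_mk' N
    have hNM : N ≤ M := by
      rw [← hker]
      exact (Subgroup.ker_le_comap _ K).trans hKM
    have hcomap : (M.map (QuotientGroup.mk' N)).comap (QuotientGroup.mk' N) = M := by
      rw [Subgroup.comap_map_eq_self]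
      rw [hker]
      exact hNM
    have hMn : (M.map (QuotientGroup.mk' N)).Normal := hM.map _ hsurj
    have h2 : K ≤ M.map (QuotientGroup.mk' N) := by
      rw [← Subgroup.map_comap_eq_self_of_surjective hsurj K]
      exact Subgroup.map_mono hKM
    have h3 : M.map (QuotientGroup.mk' N) ≤ L := by
      rw [← Subgroup.map_comap_eq_self_of_surjective hsurj L]
      exact Subgroup.map_mono hML
    rcases hmin _ hMn h2 h3 with h4 | h4
    · left
      rw [← hcomap, h4]
    · right
      rw [← hcomap, h4]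
  · rw [Subgroup.relIndex_comap, Subgroup.map_comap_eq_self_of_surjective (QuotientGroup.mk'_surjective N)]
    exact hdvd

/-- **P. Hall**: the factorization. -/
theorem hall_count_aux : ∀ (c : ℕ) (G : Type u) [Group G] [Finite G] [Group.IsSolvable G] (m n : ℕ),
    Nat.card G = c → Nat.card G = m * n → m.Coprime n →
    ∃ l : List ℕ, Nat.card {H : Subgroup G // Nat.card H = m} = l.prod ∧ ∀ x ∈ l, Good G m x := by
  intro c
  induction c using Nat.strong_induction_on with
  | _ c ih =>
  intro G _ _ _ m n hc hG hmn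
  classical
  rcases subsingleton_or_nontrivial G with hsub | hnt
  · have h1 : Nat.card G = 1 := Nat.card_of_subsingleton (1 : G)
    have hm : m = 1 := by
      rw [h1] at hG
      exact Nat.eq_one_of_mul_eq_one_right hG.symm
    refine ⟨[], ?_, by simp⟩
    subst hm
    rw [List.prod_nil, Nat.card_eq_one_iff_unique]
    refine ⟨⟨fun a b => ?_⟩, ⟨⟨⊥, by simp⟩⟩⟩
    apply Subtype.ext
    rw [Subgroup.card_eq_one.mp a.2, Subgroup.card_eq_one.mp b.2]
  obtain ⟨N, hNn, hNb, -, hmin⟩ := Cfsg.Agent.Lib.MinNorm.exists_minimal_normal_le (⊤ : Subgroup G)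
    inferInstance (top_ne_bot)
  haveI := hNn
  obtain ⟨q, hq, hab, hexp⟩ := Cfsg.Agent.Lib.MinNorm.minimal_normal_abelian N hNb hmin
  haveI : Fact q.Prime := ⟨hq⟩
  have hNq : IsPGroup q N := Cfsg.Agent.Lib.MinNorm.isPGroup_of_exponent hexp
  obtain ⟨a, ha⟩ := IsPGroup.iff_card.mp hNq
  have hlt : Nat.card (G ⧸ N) < c := hc ▸ card_quotient_lt hNb
  have hcardG : Nat.card (G ⧸ N) * Nat.card N = Nat.card G := by
    have := Subgroup.card_mul_index N
    rw [mul_comm, Subgroup.index_eq_card] at this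
    exact this
  have hm0 : m ≠ 0 := by
    rintro rfl
    have h0 : 0 < Nat.card G := Nat.card_pos
    simp at hG
    omega
  have hNdvd : Nat.card N ∣ m * n := hG ▸ Subgroup.card_subgroup_dvd_card N
  by_cases hqm : q ∣ m
  · -- `N` lies in every subgroup of order `m`.
    have hqn : q.Coprime n := (Nat.Prime.coprime_iff_not_dvd hq).mpr fun h =>
      hq.one_lt.ne' (Nat.eq_one_of_dvd_coprimes hmn hqm h)
    have hNm : Nat.card N ∣ m := by
      apply Nat.Coprime.dvd_of_dvd_mul_right _ hNdvd
      rw [ha]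
      exact Nat.Coprime.pow_left _ hqn
    obtain ⟨m', rfl⟩ := hNm
    have hcard' : Nat.card (G ⧸ N) = m' * n := by
      have h1 : Nat.card (G ⧸ N) * Nat.card N = (m' * n) * Nat.card N := by
        rw [hcardG, hG]; ring
      exact Nat.eq_of_mul_eq_mul_right Nat.card_pos h1
    have hmn' : m'.Coprime n := Nat.Coprime.coprime_dvd_left (Dvd.intro_left _ rfl) hmn
    obtain ⟨l, hl, hl2⟩ := ih _ hlt (G ⧸ N) m' n rfl hcard' hmn'
    refine ⟨l, ?_, fun x hx => (hl2 x hx).lift (Dvd.intro_left _ rfl)⟩
    rw [← hl]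
    have hNH : ∀ H : Subgroup G, Nat.card H = Nat.card N * m' → N ≤ H := by
      intro H hH
      apply Cfsg.Agent.Lib.Hall.le_of_normal_of_not_dvd_index hNq
      have h1 := Subgroup.card_mul_index H
      rw [hH, hG] at h1
      have h2 : H.index = n := Nat.eq_of_mul_eq_mul_left (Nat.pos_of_ne_zero hm0) h1
      rw [h2]
      exact (Nat.Prime.coprime_iff_not_dvd hq).mp hqn
    have hker : (QuotientGroup.mk' N).ker = N := QuotientGroup.ker_mk' N
    refine Nat.card_congr
      { toFun := fun H => ⟨H.1.map (QuotientGroup.mk' N), ?_⟩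
        invFun := fun H => ⟨H.1.comap (QuotientGroup.mk' N), ?_⟩
        left_inv := fun H => ?_
        right_inv := fun H => ?_ }
    · have h1 := Cfsg.Agent.Lib.Hall.card_map_of_ker_le (QuotientGroup.mk' N) (H := H.1) (by
        rw [hker]; exact hNH H.1 H.2)
      rw [hker, H.2, mul_comm] at h1
      exact Nat.eq_of_mul_eq_mul_left Nat.card_pos h1
    · rw [card_comap_mk, H.2, mul_comm]
    · apply Subtype.ext
      show (H.1.map _).comap _ = H.1
      rw [Subgroup.comap_map_eq_self]
      rw [hker]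
      exact hNH H.1 H.2
    · apply Subtype.ext
      exact Subgroup.map_comap_eq_self_of_surjective (QuotientGroup.mk'_surjective N) _
  · -- `N` is a `q`-group, `q` does not divide `m`.
    have hqmc : q.Coprime m := (Nat.Prime.coprime_iff_not_dvd hq).mpr hqm
    have hNm : (Nat.card N).Coprime m := by
      rw [ha]
      exact Nat.Coprime.pow_left _ hqmc
    have hNn' : Nat.card N ∣ n := hNm.dvd_of_dvd_mul_left hNdvd
    obtain ⟨n', hn'⟩ := hNn'
    have hcard' : Nat.card (G ⧸ N) = m * n' := by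
      have h1 : Nat.card (G ⧸ N) * Nat.card N = (m * n') * Nat.card N := by
        rw [hcardG, hG, hn']; ring
      exact Nat.eq_of_mul_eq_mul_right Nat.card_pos h1
    have hmn' : m.Coprime n' := Nat.Coprime.coprime_dvd_right (hn' ▸ Dvd.intro_left _ rfl) hmn
    obtain ⟨l, hl, hl2⟩ := ih _ hlt (G ⧸ N) m n' rfl hcard' hmn'
    obtain ⟨H₀, hH₀⟩ := (Cfsg.Agent.Lib.Hall.hall_main _ G m n rfl hG hmn).1
    have hcop : (Nat.card N).Coprime (Nat.card H₀) := by rw [hH₀]; exact hNm
    have hdisj : Disjoint H₀ N := Subgroup.disjoint_of_coprime_natCard hcop.symm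
    have hbar : Nat.card (H₀.map (QuotientGroup.mk' N)) = m := by
      rw [card_map_eq_of_disjoint, hH₀]
      rw [QuotientGroup.ker_mk']
      exact hdisj
    have e1 := card_hall_mul_normalizer m n hG hmn H₀ hH₀
    have e2 := card_hall_mul_normalizer m n' hcard' hmn' _ hbar
    have e3 := card_normalizer_quot N hab H₀ hcop
    -- the module
    have hHN : ∀ (h : H₀) (v : N), (h : G) * v * (h : G)⁻¹ ∈ N := fun h v => hNn.conj_mem v v.2 h
    letI act : MulDistribMulAction H₀ N :=
      { smul := fun h v => ⟨(h : G) * v * (h : G)⁻¹, hHN h v⟩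
        one_smul := fun v => by
          apply Subtype.ext
          show ((1 : H₀) : G) * v * ((1 : H₀) : G)⁻¹ = v
          simp
        mul_smul := fun a b v => by
          apply Subtype.ext
          show ((a * b : H₀) : G) * v * ((a * b : H₀) : G)⁻¹ = (a : G) * ((b : G) * v * (b : G)⁻¹) * (a : G)⁻¹
          simp only [Subgroup.coe_mul]
          group
        smul_mul := fun a x y => by
          apply Subtype.ext
          show (a : G) * ((x : G) * (y : G)) * (a : G)⁻¹ = ((a : G) * x * (a : G)⁻¹) * ((a : G) * y * (a : G)⁻¹)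
          group
        smul_one := fun a => by
          apply Subtype.ext
          show (a : G) * ((1 : N) : G) * (a : G)⁻¹ = 1
          simp }
    have hsmul : ∀ (h : H₀) (v : N), ((h • v : N) : G) = (h : G) * v * (h : G)⁻¹ := fun _ _ => rfl
    have hcommN : ∀ x y : N, x * y = y * x := fun x y => Subtype.ext (hab _ x.2 _ y.2)
    have hexpN : ∀ v : N, v ^ q = 1 := fun v => Subtype.ext (by simpa using hexp _ v.2)
    have hcopH : (Nat.card H₀).Coprime q := by
      rw [hH₀]; exact hqmc.symm
    let C : Subgroup N := (Subgroup.centralizer (H₀ : Set G)).subgroupOf N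
    have hCmem : ∀ v : N, v ∈ C ↔ ∀ h : H₀, h • v = v := by
      intro v
      show (v : G) ∈ Subgroup.centralizer (H₀ : Set G) ↔ _
      rw [Subgroup.mem_centralizer_iff]
      constructor
      · intro hv h
        apply Subtype.ext
        rw [hsmul]
        have := hv h h.2
        rw [this]
        group
      · intro hv h hh
        have h1 := congrArg Subtype.val (hv ⟨h, hh⟩)
        rw [hsmul] at h1
        have h2 : h * (v : G) = (h * v * h⁻¹) * h := by group
        rw [h2]
        show h * (v : G) * h⁻¹ * h = _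
        rw [h1]
    obtain ⟨U, hUi, hinf, hsup⟩ := Cfsg.Agent.Lib.CoprimeAct.exists_invariant_complement (A := H₀) (V := N)
      q hcommN hexpN hcopH C (by
        intro a v hv
        rw [hCmem] at hv ⊢
        intro h
        rw [hv a, hv h])
    haveI hUn : U.Normal := ⟨fun a ha g => by
      have : g * a * g⁻¹ = a := by rw [hcommN g a]; group
      rwa [this]⟩
    have hCU : Nat.card N = Nat.card C * Nat.card U := by
      have h1 : Disjoint C U := disjoint_iff.mpr hinf
      have h2 := card_sup_eq C U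
      rw [relIndex_eq_card_of_disjoint h1, hsup] at h2
      rw [← h2]
      exact (Nat.card_congr Subgroup.topEquiv.toEquiv).symm
    obtain ⟨l', hl', hl2'⟩ := module_factor (H := H₀) (V := N) q hcommN hexpN hcopH U hUi (by
      intro v hv hfix
      have : v ∈ C ⊓ U := ⟨(hCmem v).mpr hfix, hv⟩
      rw [hinf] at this
      exact Subgroup.mem_bot.mp this)
    refine ⟨l ++ l', ?_, ?_⟩
    · rw [List.prod_append, ← hl, ← hl']
      set X := Nat.card {H : Subgroup G // Nat.card H = m}
      set Y := Nat.card {H : Subgroup (G ⧸ N) // Nat.card H = m}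
      have hpos : 0 < Nat.card (Subgroup.normalizer (H₀ : Set G)) := Nat.card_pos
      apply Nat.eq_of_mul_eq_mul_right hpos
      rw [e1, ← hcardG, ← e2, hCU, ← e3]
      ring
    · intro x hx
      rcases List.mem_append.mp hx with hx | hx
      · exact (hl2 x hx).lift dvd_rfl
      · obtain ⟨⟨e, he⟩, hd, r, hr, hrd, hrm⟩ := hl2' x hx
        refine ⟨⟨q, e, hq, he⟩, ⟨⊥, N, inferInstance, hNn, bot_lt_iff_ne_bot.mpr hNb, ?_, ?_⟩,
          r, hr, hH₀ ▸ hrd, hrm⟩
        · intro M hM _ hMN
          exact hmin M hM hMN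
        · rw [Subgroup.relIndex_bot_left, hCU]
          exact hd.trans (Dvd.intro_left _ rfl)

end hall

end Cfsg.Agent.Lib.HallCount
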