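import Mathlib
import Cfsg.Agent.Lib.Coprime
import Cfsg.Agent.Lib.HallCount
import Cfsg.Agent.Lib.PCore
import Cfsg.Agent.Lib.FpfGeneral

/-!
Conjugacy of subgroups of equal order: Z-groups, and reduction to a normal Hall subgroup with
Z-group quotient.
-/

set_option autoImplicit false

namespace Cfsg.Agent.Lib.AbConj

open scoped Pointwise
open Cfsg.Agent.Lib.Coprime Cfsg.Agent.Lib.PCore

universe u

/-- All subgroups of equal order are conjugate. -/
def SC (G : Type*) [Group G] : Prop :=
  ∀ A B : Subgroup G, Nat.card A = Nat.card B → ∃ g : G, B = A.map (MulAut.conj g).toMonoidHom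

theorem smul_eq_map {G : Type*} [Group G] (g : G) (H : Subgroup G) :
    MulAut.conj g • H = H.map (MulAut.conj g).toMonoidHom := rfl

theorem mem_map_conj {G : Type*} [Group G] {g x : G} {H : Subgroup G} :
    x ∈ H.map (MulAut.conj g).toMonoidHom ↔ g⁻¹ * x * g ∈ H := by
  constructor
  · rintro ⟨y, hy, rfl⟩
    simpa [mul_assoc] using hy
  · intro h
    exact ⟨_, h, by simp [mul_assoc]⟩

theorem conj_mem_map {G : Type*} [Group G] (g : G) {x : G} {H : Subgroup G} (hx : x ∈ H) :
    g * x * g⁻¹ ∈ H.map (MulAut.conj g).toMonoidHom :=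
  ⟨x, hx, by simp⟩

theorem card_map_conj {G : Type*} [Group G] (g : G) (H : Subgroup G) :
    Nat.card (H.map (MulAut.conj g).toMonoidHom) = Nat.card H :=
  Subgroup.card_map_of_injective (MulAut.conj g).injective

theorem map_conj_mul {G : Type*} [Group G] (g h : G) (H : Subgroup G) :
    (H.map (MulAut.conj h).toMonoidHom).map (MulAut.conj g).toMonoidHom =
      H.map (MulAut.conj (g * h)).toMonoidHom := by
  rw [Subgroup.map_map]
  congr 1
  ext x
  simp [mul_assoc]

variable {G : Type u} [Group G] [Finite G]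

/-- A quotient by a normal subgroup of prime order, which contains all elements of that order. -/
theorem sc_of_quot {r : ℕ} (hr : r.Prime) (N : Subgroup G) [hNn : N.Normal]
    (hNc : Nat.card N = r) (hu : ∀ y : G, orderOf y = r → y ∈ N) (hsc : SC (G ⧸ N)) : SC G := by
  have : Fact r.Prime := ⟨hr⟩
  have hcyc : IsCyclic N := isCyclic_of_prime_card hNc
  have hab : ∀ x ∈ N, ∀ y ∈ N, x * y = y * x := by
    intro x hx y hy
    have hc : IsMulCommutative N := inferInstance
    have := hc.is_comm.comm (⟨x, hx⟩ : N) ⟨y, hy⟩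
    exact congrArg Subtype.val this
  have hsurj := QuotientGroup.mk'_surjective N
  have hlift : ∀ (X Y : Subgroup (G ⧸ N)) , (∃ g : G ⧸ N, Y = X.map (MulAut.conj g).toMonoidHom) →
      ∃ g : G, Y = X.map (MulAut.conj (QuotientGroup.mk' N g)).toMonoidHom := by
    rintro X Y ⟨g, hg⟩
    obtain ⟨g', rfl⟩ := hsurj g
    exact ⟨g', hg⟩
  intro A B hAB
  by_cases hd : r ∣ Nat.card A
  · have hle : ∀ C : Subgroup G, r ∣ Nat.card C → N ≤ C := by
      intro C hC
      obtain ⟨y, hy⟩ := exists_prime_orderOf_dvd_card' r hC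
      have hy' : orderOf (y : G) = r := (Subgroup.orderOf_coe y).trans hy
      have hyN := hu _ hy'
      have hz : Subgroup.zpowers (y : G) = N := by
        apply Subgroup.eq_of_le_of_card_ge (Subgroup.zpowers_le.mpr hyN)
        rw [hNc, Nat.card_zpowers, hy']
      rw [← hz]
      exact Subgroup.zpowers_le.mpr y.2
    have hA := hle A hd
    have hB := hle B (hAB ▸ hd)
    have hcomapA : (A.map (QuotientGroup.mk' N)).comap (QuotientGroup.mk' N) = A := by
      rw [Subgroup.comap_map_eq, QuotientGroup.ker_mk']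
      exact sup_eq_left.mpr hA
    have hcomapB : (B.map (QuotientGroup.mk' N)).comap (QuotientGroup.mk' N) = B := by
      rw [Subgroup.comap_map_eq, QuotientGroup.ker_mk']
      exact sup_eq_left.mpr hB
    have hcardbar : Nat.card (A.map (QuotientGroup.mk' N)) = Nat.card (B.map (QuotientGroup.mk' N)) := by
      have h1 := card_comap_mk N (A.map (QuotientGroup.mk' N))
      have h2 := card_comap_mk N (B.map (QuotientGroup.mk' N))
      rw [hcomapA] at h1
      rw [hcomapB] at h2
      have h3 : Nat.card N * Nat.card (A.map (QuotientGroup.mk' N)) =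
          Nat.card N * Nat.card (B.map (QuotientGroup.mk' N)) := by
        first
          | rw [← h1, ← h2, hAB]
          | (simp only [mul_comm] at h1 h2 ⊢; rw [← h1, ← h2, hAB])
      exact Nat.eq_of_mul_eq_mul_left Nat.card_pos h3
    obtain ⟨g, hg⟩ := hlift _ _ (hsc _ _ hcardbar)
    refine ⟨g, ?_⟩
    rw [← hcomapB, hg]
    ext x
    rw [Subgroup.mem_comap, mem_map_conj, mem_map_conj]
    constructor
    · rintro ⟨y, hy, hyx⟩
      have : QuotientGroup.mk' N (g⁻¹ * x * g) = QuotientGroup.mk' N y := by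
        rw [map_mul, map_mul, map_inv]
        rw [← hyx]
      have h4 : y ∈ (A.map (QuotientGroup.mk' N)).comap (QuotientGroup.mk' N) := by
        rw [hcomapA]; exact hy
      have h5 : g⁻¹ * x * g ∈ (A.map (QuotientGroup.mk' N)).comap (QuotientGroup.mk' N) := by
        rw [Subgroup.mem_comap, this]
        exact h4
      rw [hcomapA] at h5
      exact h5
    · intro h
      refine ⟨g⁻¹ * x * g, h, ?_⟩
      simp [mul_assoc]
  · have hcopA : (Nat.card N).Coprime (Nat.card A) := by
      rw [hNc]; exact (Nat.Prime.coprime_iff_not_dvd hr).mpr hd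
    have hcopB : (Nat.card N).Coprime (Nat.card B) := by rw [← hAB]; exact hcopA
    have hdA : Disjoint A N := Subgroup.disjoint_of_coprime_natCard hcopA.symm
    have hdB : Disjoint B N := Subgroup.disjoint_of_coprime_natCard hcopB.symm
    have hkerA : Disjoint A (QuotientGroup.mk' N).ker := by
      rw [QuotientGroup.ker_mk']; exact hdA
    have hkerB : Disjoint B (QuotientGroup.mk' N).ker := by
      rw [QuotientGroup.ker_mk']; exact hdB
    have hcA : Nat.card (A.map (QuotientGroup.mk' N)) = Nat.card A :=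
      card_map_eq_of_disjoint _ hkerA
    have hcB : Nat.card (B.map (QuotientGroup.mk' N)) = Nat.card B :=
      card_map_eq_of_disjoint _ hkerB
    obtain ⟨g, hg⟩ := hlift _ _ (hsc (A.map (QuotientGroup.mk' N)) (B.map (QuotientGroup.mk' N))
      (by rw [hcA, hcB, hAB]))
    have hle : B ≤ A.map (MulAut.conj g).toMonoidHom ⊔ N := by
      intro x hx
      have h1 : QuotientGroup.mk' N x ∈ B.map (QuotientGroup.mk' N) := Subgroup.mem_map_of_mem _ hx
      rw [hg, mem_map_conj] at h1
      obtain ⟨a, ha, hax⟩ := h1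
      have h2 : (g * a * g⁻¹)⁻¹ * x ∈ N := by
        rw [← QuotientGroup.ker_mk' N, MonoidHom.mem_ker, map_mul, map_inv, map_mul, map_mul,
          map_inv]
        have : QuotientGroup.mk' N x = QuotientGroup.mk' N g * QuotientGroup.mk' N a *
            (QuotientGroup.mk' N g)⁻¹ := by
          rw [hax]; group
        rw [this]
        group
      have h3 : x = (g * a * g⁻¹) * ((g * a * g⁻¹)⁻¹ * x) := by group
      rw [h3]
      exact Subgroup.mul_mem _ (Subgroup.mem_sup_left (conj_mem_map g ha))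
        (Subgroup.mem_sup_right h2)
    obtain ⟨x, -, hx⟩ := Cfsg.Agent.Lib.HallCount.conj_in_normal N hab
      (H₁ := A.map (MulAut.conj g).toMonoidHom) (H₂ := B)
      (by rw [card_map_conj, hAB]) (by rw [card_map_conj]; exact hcopA) hle
    refine ⟨x * g, ?_⟩
    rw [smul_eq_map, map_conj_mul] at hx
    exact hx.symm

/-- Finite solvable groups with all Sylow subgroups cyclic: subgroups of equal order are conjugate. -/
theorem sc_of_isZGroup : ∀ (n : ℕ) (X : Type u) [Group X] [Finite X] [IsZGroup X],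
    Nat.card X = n → SC X := by
  intro n
  induction n using Nat.strong_induction_on with
  | _ n ih =>
    intro X _ _ _ hn
    by_cases htriv : Nontrivial X
    · obtain ⟨r, hr, hne⟩ := exists_pCore_ne_bot (G := X)
      have : Fact r.Prime := ⟨hr⟩
      have hcore : IsPGroup r (pCore r X) := isPGroup_pCore r
      have hdvd : r ∣ Nat.card (pCore r X) := by
        obtain ⟨k, hk⟩ := IsPGroup.iff_card.mp hcore
        have hk0 : k ≠ 0 := by
          rintro rfl
          exact hne (Subgroup.card_eq_one.mp (by simpa using hk))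
        rw [hk]
        exact dvd_pow_self r hk0
      obtain ⟨y₀, hy₀⟩ := exists_prime_orderOf_dvd_card' r hdvd
      have hy₀' : orderOf (y₀ : X) = r := (Subgroup.orderOf_coe y₀).trans hy₀
      set N : Subgroup X := Subgroup.zpowers (y₀ : X) with hN
      have hNc : Nat.card N = r := by rw [hN, Nat.card_zpowers, hy₀']
      have hu : ∀ y : X, orderOf y = r → y ∈ N := by
        intro y hy
        have hpg : IsPGroup r (Subgroup.zpowers y) := by
          rw [IsPGroup.iff_card]
          exact ⟨1, by rw [Nat.card_zpowers, hy, pow_one]⟩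
        obtain ⟨P, hP⟩ := hpg.exists_le_sylow
        have hy₀P : (y₀ : X) ∈ (P : Subgroup X) := pCore_le_sylow r P y₀.2
        have hyP : y ∈ (P : Subgroup X) := hP (Subgroup.mem_zpowers y)
        have hcyc : IsCyclic (P : Subgroup X) := inferInstance
        have h1 := Cfsg.Agent.Lib.FpfGeneral.eq_of_card_eq_of_isCyclic (Subgroup.zpowers (⟨y, hyP⟩ : (P : Subgroup X)))
          (Subgroup.zpowers (⟨y₀, hy₀P⟩ : (P : Subgroup X))) (by
            rw [Nat.card_zpowers, Nat.card_zpowers, ← Subgroup.orderOf_coe, ← Subgroup.orderOf_coe]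
            show orderOf y = orderOf (y₀ : X)
            rw [hy, hy₀'])
        have h2 := congrArg (Subgroup.map (P : Subgroup X).subtype) h1
        rw [MonoidHom.map_zpowers, MonoidHom.map_zpowers] at h2
        have h3 : Subgroup.zpowers y = N := h2
        rw [← h3]
        exact Subgroup.mem_zpowers y
      have hNn : N.Normal := by
        refine ⟨fun a ha g => ?_⟩
        have h0 : g * (y₀ : X) * g⁻¹ ∈ N := by
          apply hu
          have := orderOf_injective (MulAut.conj g).toMonoidHom (MulAut.conj g).injective (y₀ : X)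
          have h2 : orderOf (g * (y₀ : X) * g⁻¹) = orderOf (y₀ : X) := by simpa using this
          rw [h2, hy₀']
        obtain ⟨m, rfl⟩ := ha
        have h1 : g * (y₀ : X) ^ m * g⁻¹ = (g * (y₀ : X) * g⁻¹) ^ m := by
          simp [conj_zpow]
        show g * (y₀ : X) ^ m * g⁻¹ ∈ N
        rw [h1]
        exact N.zpow_mem h0 m
      have hlt : Nat.card (X ⧸ N) < n := by
        rw [← hn]
        apply card_quotient_lt
        intro hb
        rw [hb] at hNc
        have : Nat.card (⊥ : Subgroup X) = 1 := Subgroup.card_bot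
        rw [this] at hNc
        exact hr.one_lt.ne hNc
      exact sc_of_quot hr N hNc hu (ih _ hlt (X ⧸ N) rfl)
    · rw [not_nontrivial_iff_subsingleton] at htriv
      intro A B _
      refine ⟨1, ?_⟩
      ext x
      have hx : x = 1 := Subsingleton.elim _ _
      subst hx
      simp

/-- Two complements of a normal subgroup `N` in `H₁N` are conjugate, for `G` solvable. -/
theorem conj_of_complements [Group.IsSolvable G] (N : Subgroup G) [hN : N.Normal]
    {H₁ H₂ : Subgroup G} (hc : Nat.card H₁ = Nat.card H₂)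
    (hcop : (Nat.card N).Coprime (Nat.card H₁)) (hle : H₂ ≤ H₁ ⊔ N) :
    ∃ x : G, H₂ = H₁.map (MulAut.conj x).toMonoidHom := by
  classical
  let L : Subgroup G := H₁ ⊔ N
  have hdisj : Disjoint H₁ N := Subgroup.disjoint_of_coprime_natCard hcop.symm
  have hcardL : Nat.card L = Nat.card H₁ * Nat.card N := by
    show Nat.card (H₁ ⊔ N : Subgroup G) = _
    rw [card_sup_eq, relIndex_eq_card_of_disjoint hdisj]
  have hNL : N ≤ L := le_sup_right
  have hH₁L : H₁ ≤ L := le_sup_left
  let A : Subgroup L := N.subgroupOf L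
  haveI : A.Normal := Subgroup.Normal.subgroupOf hN L
  have hcardA : Nat.card A = Nat.card N := card_subgroupOf_of_le hNL
  have hH₁' : Nat.card (H₁.subgroupOf L) = Nat.card H₁ := card_subgroupOf_of_le hH₁L
  have hH₂' : Nat.card (H₂.subgroupOf L) = Nat.card H₂ := card_subgroupOf_of_le hle
  have hcompl1 : Subgroup.IsComplement' A (H₁.subgroupOf L) := by
    apply Subgroup.isComplement'_of_coprime
    · rw [hcardA, hH₁', hcardL, mul_comm]
    · rw [hcardA, hH₁']; exact hcop
  have hcompl2 : Subgroup.IsComplement' A (H₂.subgroupOf L) := by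
    apply Subgroup.isComplement'_of_coprime
    · rw [hcardA, hH₂', hcardL, ← hc, mul_comm]
    · rw [hcardA, hH₂', ← hc]; exact hcop
  have hindex : A.index = Nat.card H₁ := by
    have := Subgroup.card_mul_index A
    rw [hcardA, hcardL, mul_comm] at this
    exact Nat.eq_of_mul_eq_mul_right Nat.card_pos this
  have hcopA : (Nat.card A).Coprime A.index := by
    rw [hcardA, hindex]; exact hcop
  have hsL : Group.IsSolvable L := inferInstance
  have hsA : Group.IsSolvable A := inferInstance
  obtain ⟨a, ha⟩ := sz_conj A hcopA (Or.inl hsA) _ _ hcompl1 hcompl2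
  refine ⟨(a : G), ?_⟩
  symm
  apply Subgroup.eq_of_le_of_card_ge
  · rintro _ ⟨x, hx, rfl⟩
    have hx' : (⟨x, hH₁L hx⟩ : L) ∈ H₁.subgroupOf L := hx
    have h1 := conj_mem_of_smul_eq ha hx'
    exact h1
  · rw [card_map_conj, hc]

/-- In a solvable group with a normal Hall subgroup whose quotient is a Z-group, subgroups of equal
order coprime to that subgroup are conjugate. -/
theorem conj_of_zquot [Group.IsSolvable G] (T : Subgroup G) [hT : T.Normal]
    [IsZGroup (G ⧸ T)] {L L' : Subgroup G} (hc : Nat.card L = Nat.card L')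
    (hcop : (Nat.card T).Coprime (Nat.card L)) :
    ∃ g : G, L' = L.map (MulAut.conj g).toMonoidHom := by
  have hsurj := QuotientGroup.mk'_surjective T
  have hcop' : (Nat.card T).Coprime (Nat.card L') := hc ▸ hcop
  have hd : Disjoint L T := Subgroup.disjoint_of_coprime_natCard hcop.symm
  have hd' : Disjoint L' T := Subgroup.disjoint_of_coprime_natCard hcop'.symm
  have hk : Disjoint L (QuotientGroup.mk' T).ker := by rw [QuotientGroup.ker_mk']; exact hd
  have hk' : Disjoint L' (QuotientGroup.mk' T).ker := by rw [QuotientGroup.ker_mk']; exact hd'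
  have hcL : Nat.card (L.map (QuotientGroup.mk' T)) = Nat.card L := card_map_eq_of_disjoint _ hk
  have hcL' : Nat.card (L'.map (QuotientGroup.mk' T)) = Nat.card L' :=
    card_map_eq_of_disjoint _ hk'
  obtain ⟨gb, hg⟩ := sc_of_isZGroup _ (G ⧸ T) rfl (L.map (QuotientGroup.mk' T))
    (L'.map (QuotientGroup.mk' T)) (by rw [hcL, hcL', hc])
  obtain ⟨g, rfl⟩ := hsurj gb
  have hle : L' ≤ L.map (MulAut.conj g).toMonoidHom ⊔ T := by
    intro x hx
    have h1 : QuotientGroup.mk' T x ∈ L'.map (QuotientGroup.mk' T) := Subgroup.mem_map_of_mem _ hx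
    rw [hg, mem_map_conj] at h1
    obtain ⟨a, ha, hax⟩ := h1
    have h2 : (g * a * g⁻¹)⁻¹ * x ∈ T := by
      rw [← QuotientGroup.ker_mk' T, MonoidHom.mem_ker, map_mul, map_inv, map_mul, map_mul,
        map_inv]
      have : QuotientGroup.mk' T x = QuotientGroup.mk' T g * QuotientGroup.mk' T a *
          (QuotientGroup.mk' T g)⁻¹ := by
        rw [hax]; group
      rw [this]
      group
    have h3 : x = (g * a * g⁻¹) * ((g * a * g⁻¹)⁻¹ * x) := by group
    rw [h3]
    exact Subgroup.mul_mem _ (Subgroup.mem_sup_left (conj_mem_map g ha))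
      (Subgroup.mem_sup_right h2)
  obtain ⟨x, hx⟩ := conj_of_complements T (H₁ := L.map (MulAut.conj g).toMonoidHom) (H₂ := L')
    (by rw [card_map_conj, hc]) (by rw [card_map_conj]; exact hcop) hle
  refine ⟨x * g, ?_⟩
  rw [hx, map_conj_mul]

theorem eq_of_mul_eq_mul_coprime {a b c d : ℕ} (h : a * b = c * d) (h1 : a.Coprime d)
    (h2 : c.Coprime b) : a = c := by
  apply Nat.dvd_antisymm
  · exact h1.dvd_of_dvd_mul_right (Dvd.intro _ h)
  · exact h2.dvd_of_dvd_mul_right (Dvd.intro _ h.symm)

/-- A split of `H` along a normal Hall subgroup `T`. -/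
theorem exists_split (T : Subgroup G) [hT : T.Normal] (H : Subgroup G)
    (hc : (Nat.card T).Coprime T.index) :
    ∃ L : Subgroup G, L ≤ H ∧ L ⊔ (H ⊓ T) = H ∧ Disjoint L T ∧
      (Nat.card T).Coprime (Nat.card L) ∧ Nat.card (H ⊓ T : Subgroup G) * Nat.card L = Nat.card H ∧
      Nat.card L ∣ T.index := by
  classical
  let N : Subgroup H := T.subgroupOf H
  haveI : N.Normal := Subgroup.Normal.subgroupOf hT H
  have hf : N = ((QuotientGroup.mk' T).comp H.subtype).ker := by
    ext x
    simp [N, Subgroup.mem_subgroupOf]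
  have hidx : N.index ∣ T.index := by
    have : N.index = T.relIndex H := rfl
    rw [this]
    exact Subgroup.relIndex_dvd_index_of_normal _ _
  have h1 : (H ⊓ T : Subgroup G) = N.map H.subtype := by
    ext x
    simp only [N, Subgroup.mem_inf, Subgroup.mem_map, Subgroup.mem_subgroupOf]
    constructor
    · rintro ⟨hx, hxT⟩
      exact ⟨⟨x, hx⟩, hxT, rfl⟩
    · rintro ⟨y, hy, rfl⟩
      exact ⟨y.2, hy⟩
  have hcN : Nat.card N = Nat.card (H ⊓ T : Subgroup G) := by
    rw [h1]
    exact (Subgroup.card_map_of_injective H.subtype_injective).symm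
  have hdN : Nat.card N ∣ Nat.card T := by
    rw [hcN]
    exact Subgroup.card_dvd_of_le inf_le_right
  have hcopN : (Nat.card N).Coprime N.index :=
    Nat.Coprime.coprime_dvd_left hdN (Nat.Coprime.coprime_dvd_right hidx hc)
  obtain ⟨L₀, hL₀⟩ := Subgroup.exists_right_complement'_of_coprime hcopN
  have hcardL₀ : Nat.card L₀ = N.index := hL₀.symm.index_eq_card.symm
  have hmul := hL₀.card_mul_card
  have hcL : Nat.card (L₀.map H.subtype) = Nat.card L₀ :=
    Subgroup.card_map_of_injective H.subtype_injective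
  refine ⟨L₀.map H.subtype, Subgroup.map_subtype_le _, ?_, ?_, ?_, ?_, ?_⟩
  · rw [h1, ← Subgroup.map_sup, sup_comm, hL₀.sup_eq_top, ← MonoidHom.range_eq_map,
      Subgroup.range_subtype]
  · rw [Subgroup.disjoint_def]
    rintro x ⟨a, ha, rfl⟩ hxT
    have h2 : a ∈ N := hxT
    have h3 := Subgroup.disjoint_def.mp hL₀.disjoint h2 ha
    simp [h3]
  · rw [hcL, hcardL₀]
    exact Nat.Coprime.coprime_dvd_right hidx hc
  · rw [hcL, ← hcN, hmul]
  · rw [hcL, hcardL₀]
    exact hidx

/-- **Reduction.** Let `T` be a normal Hall subgroup of a finite solvable group `G`, with `G ⧸ T` a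
Z-group. If any two subgroups of `T` of equal order are conjugate in `G`, then any two subgroups of
`G` of equal order are conjugate. -/
theorem sc_of_normal_hall [Group.IsSolvable G] (T : Subgroup G) [hT : T.Normal]
    (hc : (Nat.card T).Coprime T.index) [hZ : IsZGroup (G ⧸ T)]
    (hstar : ∀ U U' : Subgroup G, U ≤ T → U' ≤ T → Nat.card U = Nat.card U' →
      ∃ g : G, U' = U.map (MulAut.conj g).toMonoidHom) : SC G := by
  intro H K hHK
  obtain ⟨L₁, hL₁H, hsup₁, hd₁, hcop₁, hm₁, hdv₁⟩ := exists_split T H hc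
  obtain ⟨L₂, hL₂K, hsup₂, hd₂, hcop₂, hm₂, hdv₂⟩ := exists_split T K hc
  have hU : Nat.card (H ⊓ T : Subgroup G) = Nat.card (K ⊓ T : Subgroup G) := by
    apply eq_of_mul_eq_mul_coprime (hm₁.trans (hHK.trans hm₂.symm))
    · exact Nat.Coprime.coprime_dvd_left (Subgroup.card_dvd_of_le inf_le_right) hcop₂
    · exact Nat.Coprime.coprime_dvd_left (Subgroup.card_dvd_of_le inf_le_right) hcop₁
  have hL : Nat.card L₁ = Nat.card L₂ := by
    have h1 : Nat.card (H ⊓ T : Subgroup G) * Nat.card L₁ =
        Nat.card (H ⊓ T : Subgroup G) * Nat.card L₂ := by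
      rw [hm₁, hU, hm₂, hHK]
    exact Nat.eq_of_mul_eq_mul_left Nat.card_pos h1
  obtain ⟨g, hg⟩ := hstar _ _ (inf_le_right : H ⊓ T ≤ T) (inf_le_right : K ⊓ T ≤ T) hU
  -- work in the normalizer of `K ⊓ T`
  set U : Subgroup G := K ⊓ T with hUdef
  let M : Subgroup G := Subgroup.normalizer (U : Set G)
  have hH₁ : ∀ x ∈ L₁, g * x * g⁻¹ ∈ M := by
    intro x hx
    rw [Subgroup.mem_normalizer_iff]
    intro u
    rw [hg, mem_map_conj, mem_map_conj]
    have hu : ∀ v w : G, v ∈ H ⊓ T → w ∈ H → w * v * w⁻¹ ∈ H ⊓ T := by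
      intro v w hv hw
      exact ⟨H.mul_mem (H.mul_mem hw hv.1) (H.inv_mem hw), hT.conj_mem _ hv.2 _⟩
    constructor
    · intro h
      have := hu _ _ h (hL₁H hx)
      convert this using 1
      group
    · intro h
      have := hu _ _ h (H.inv_mem (hL₁H hx))
      convert this using 1
      group
  have hL₁M : L₁.map (MulAut.conj g).toMonoidHom ≤ M := by
    rintro _ ⟨x, hx, rfl⟩
    exact hH₁ x hx
  have hL₂M : L₂ ≤ M := by
    intro x hx
    rw [Subgroup.mem_normalizer_iff]
    intro u
    have hxK := hL₂K hx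
    constructor
    · intro hu
      exact ⟨K.mul_mem (K.mul_mem hxK hu.1) (K.inv_mem hxK), hT.conj_mem _ hu.2 _⟩
    · intro hu
      have h1 : x⁻¹ * (x * u * x⁻¹) * x⁻¹⁻¹ = u := by group
      rw [← h1]
      exact ⟨K.mul_mem (K.mul_mem (K.inv_mem hxK) hu.1) (K.inv_mem (K.inv_mem hxK)),
        hT.conj_mem _ hu.2 _⟩
  let T₁ : Subgroup M := T.subgroupOf M
  haveI hT₁ : T₁.Normal := Subgroup.Normal.subgroupOf hT M
  let f : M ⧸ T₁ →* G ⧸ T := QuotientGroup.lift T₁ ((QuotientGroup.mk' T).comp M.subtype) (by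
    intro x hx
    have h1 : (x : G) ∈ T := hx
    show QuotientGroup.mk' T (x : G) = 1
    rwa [← MonoidHom.mem_ker, QuotientGroup.ker_mk'])
  have hf : Function.Injective f := by
    rw [injective_iff_map_eq_one]
    intro a ha
    obtain ⟨x, rfl⟩ := QuotientGroup.mk'_surjective T₁ a
    have h1 : QuotientGroup.mk' T (x : G) = 1 := ha
    have h2 : (x : G) ∈ T := by
      rwa [← MonoidHom.mem_ker, QuotientGroup.ker_mk'] at h1
    have h3 : x ∈ T₁ := h2
    rw [← MonoidHom.mem_ker, QuotientGroup.ker_mk']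
    exact h3
  haveI : IsZGroup (M ⧸ T₁) := IsZGroup.of_injective hf
  have hcT₁ : Nat.card T₁ ∣ Nat.card T := card_subgroupOf_dvd T M
  have hA₁ : Nat.card ((L₁.map (MulAut.conj g).toMonoidHom).subgroupOf M) = Nat.card L₁ := by
    rw [card_subgroupOf_of_le hL₁M, card_map_conj]
  have hA₂ : Nat.card (L₂.subgroupOf M) = Nat.card L₂ := card_subgroupOf_of_le hL₂M
  obtain ⟨m, hm⟩ := conj_of_zquot T₁
    (L := (L₁.map (MulAut.conj g).toMonoidHom).subgroupOf M) (L' := L₂.subgroupOf M)
    (by rw [hA₁, hA₂, hL])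
    (by rw [hA₁]; exact Nat.Coprime.coprime_dvd_left hcT₁ hcop₁)
  -- conclude
  have hL₂ : L₂ = L₁.map (MulAut.conj ((m : G) * g)).toMonoidHom := by
    rw [← map_conj_mul]
    apply Subgroup.eq_of_le_of_card_ge
    · intro x hx
      have h1 : (⟨x, hL₂M hx⟩ : M) ∈ L₂.subgroupOf M := hx
      rw [hm, mem_map_conj] at h1
      rw [mem_map_conj]
      exact h1
    · rw [card_map_conj, card_map_conj, hL]
  have hU₁ : U = (H ⊓ T).map (MulAut.conj ((m : G) * g)).toMonoidHom := by
    rw [← map_conj_mul, ← hg]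
    ext x
    rw [mem_map_conj]
    have hmM := m.2
    rw [Subgroup.mem_normalizer_iff] at hmM
    constructor
    · intro hx
      have h1 : (m : G)⁻¹ ∈ M := M.inv_mem m.2
      rw [Subgroup.mem_normalizer_iff] at h1
      exact (h1 x).mp hx |> fun h => by simpa using h
    · intro hx
      have := (hmM _).mp hx
      simpa [mul_assoc] using this
  refine ⟨(m : G) * g, ?_⟩
  rw [← hsup₁, Subgroup.map_sup, ← hL₂, ← hU₁, hsup₂]

end Cfsg.Agent.Lib.AbConj
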