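import Mathlib
import Cfsg.Agent.Lib.AbConjA
import Cfsg.Agent.Lib.MinNorm
import Cfsg.Agent.S3912
import Cfsg.Agent.S3909
import Cfsg.Agent.S3908

/-!
Under `HB` (abelian subgroups of equal order conjugate) in a solvable group: a prime `p` such that
there are two commuting independent elements of order `p` has a normal abelian Sylow subgroup.
-/

set_option autoImplicit false

namespace Cfsg.Agent.Lib.AbConj

open scoped Pointwise
open Cfsg.Agent.Lib.Coprime Cfsg.Agent.Lib.PCore Cfsg.Agent.S3911 Cfsg.Agent.S3912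

universe u

/-- Projection onto the fixed points of an endomorphism `σ` with `σ ^ p = 1`, for `p` coprime to the
order of the abelian group. -/
theorem exists_proj {V : Type*} [Group V] [Finite V] (hV : ∀ a b : V, a * b = b * a) (σ : V →* V)
    (p : ℕ) (hσ : ∀ v, (σ^[p]) v = v) (hcop : p.Coprime (Nat.card V)) :
    ∃ π : V →* V, (∀ v, σ v = v → π v = v) ∧ (∀ v, σ (π v) = π v) ∧
      ∀ y : V →* V, (∀ v, y (σ v) = σ (y v)) → ∀ v, π (y v) = y (π v) := by
  classical
  letI : CommGroup V := { (inferInstance : Group V) with mul_comm := hV }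
  let tr : V →* V :=
    { toFun := fun v => ∏ k ∈ Finset.range p, σ^[k] v
      map_one' := by
        apply Finset.prod_eq_one
        intro k _
        exact iterate_map_one σ k
      map_mul' := by
        intro a b
        rw [← Finset.prod_mul_distrib]
        apply Finset.prod_congr rfl
        intro k _
        exact iterate_map_mul σ k a b }
  have htr : ∀ v, tr v = ∏ k ∈ Finset.range p, σ^[k] v := fun v => rfl
  have htrfix : ∀ v, σ v = v → tr v = v ^ p := by
    intro v hv
    rw [htr]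
    have : ∀ k, σ^[k] v = v := by
      intro k
      induction k with
      | zero => rfl
      | succ k ih => rw [Function.iterate_succ_apply', ih, hv]
    simp [this]
  have htrinv : ∀ v, σ (tr v) = tr v := by
    intro v
    rw [htr, map_prod]
    have h1 := Finset.prod_range_succ (fun k => σ^[k] v) p
    have h2 := Finset.prod_range_succ' (fun k => σ^[k] v) p
    rw [h1, hσ v] at h2
    have h3 : (∏ k ∈ Finset.range p, σ^[k + 1] v) = ∏ k ∈ Finset.range p, σ^[k] v := by
      have h4 : σ^[0] v = v := rfl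
      rw [h4] at h2
      exact (mul_right_cancel h2).symm
    rw [← h3]
    apply Finset.prod_congr rfl
    intro k _
    rw [Function.iterate_succ_apply']
  have htry : ∀ y : V →* V, (∀ v, y (σ v) = σ (y v)) → ∀ v, tr (y v) = y (tr v) := by
    intro y hy v
    rw [htr, htr, map_prod]
    apply Finset.prod_congr rfl
    intro k _
    have hc : Function.Commute y σ := fun a => hy a
    exact ((hc.iterate_right k) v).symm
  by_cases h1 : Nat.card V = 1
  · refine ⟨MonoidHom.id V, ?_, ?_, ?_⟩
    · intro v _; rfl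
    · intro v
      have : Subsingleton V := (Nat.card_eq_one_iff_unique.mp h1).1
      exact Subsingleton.elim _ _
    · intro y _ v; rfl
  · have hV1 : 1 < Nat.card V := by
      have := Nat.card_pos (α := V)
      omega
    obtain ⟨a, ha⟩ := Nat.exists_mul_mod_eq_one_of_coprime hcop hV1
    have hpa : ∀ v : V, (v ^ p) ^ a = v := by
      intro v
      rw [← pow_mul, ← pow_mod_natCard, ha.2, pow_one]
    refine ⟨(powMonoidHom a).comp tr, ?_, ?_, ?_⟩
    · intro v hv
      show (tr v) ^ a = v
      rw [htrfix v hv, hpa]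
    · intro v
      show σ ((tr v) ^ a) = (tr v) ^ a
      rw [map_pow, htrinv]
    · intro y hy v
      show (tr (y v)) ^ a = y ((tr v) ^ a)
      rw [htry y hy, map_pow]

theorem mem_cp {X : Type*} [Group X] {P : Subgroup X} {t v : X} :
    t ∈ (P ⊓ Subgroup.centralizer {v} : Subgroup X) ↔ t ∈ P ∧ t * v = v * t := by
  rw [Subgroup.mem_inf, Subgroup.mem_centralizer_singleton_iff]

/-- Fitting-type argument. -/
theorem fix_all {X : Type*} [Group X] [Finite X] (N P : Subgroup X) [hN : N.Normal] {p : ℕ}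
    (hNab : ∀ a ∈ N, ∀ b ∈ N, a * b = b * a) (hPab : ∀ a ∈ P, ∀ b ∈ P, a * b = b * a)
    (hPexp : ∀ a ∈ P, a ^ p = 1) (hcop : p.Coprime (Nat.card N))
    (hconst : ∀ v ∈ N, ∀ v' ∈ N, v ≠ 1 → v' ≠ 1 →
      Nat.card (P ⊓ Subgroup.centralizer {v} : Subgroup X) =
        Nat.card (P ⊓ Subgroup.centralizer {v'} : Subgroup X))
    {d v : X} (hd : d ∈ P) (hv : v ∈ N) (hv1 : v ≠ 1) (hdv : d * v = v * d) :
    ∀ w ∈ N, d * w = w * d := by
  classical
  intro w₀ hw₀
  by_contra hmove
  have hcomm : ∀ a b : N, a * b = b * a := fun a b => Subtype.ext (hNab _ a.2 _ b.2)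
  let cj : X → (N →* N) := fun t => (MulAut.conjNormal (H := N) t).toMonoidHom
  have hcj : ∀ t (n : N), ((cj t n : N) : X) = t * n * t⁻¹ := fun t n => MulAut.conjNormal_apply t n
  have hcjfix : ∀ t (n : N), cj t n = n ↔ t * (n : X) = n * t := by
    intro t n
    rw [Subtype.ext_iff, hcj, mul_inv_eq_iff_eq_mul]
  have hit : ∀ k (n : N), (((cj d)^[k] n : N) : X) = d ^ k * n * (d ^ k)⁻¹ := by
    intro k n
    induction k with
    | zero => simp
    | succ k ih =>
      rw [Function.iterate_succ_apply', hcj, ih, pow_succ']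
      group
  have hσ : ∀ n, ((cj d)^[p]) n = n := by
    intro n
    apply Subtype.ext
    rw [hit, hPexp d hd]
    simp
  obtain ⟨π, hπ1, hπ2, hπ3⟩ := exists_proj hcomm (cj d) p hσ hcop
  let v' : N := ⟨v, hv⟩
  let w' : N := ⟨w₀, hw₀⟩ * (π ⟨w₀, hw₀⟩)⁻¹
  have hv'1 : π v' = v' := hπ1 _ ((hcjfix d v').mpr hdv)
  have hπw : π w' = 1 := by
    show π (_ * _) = 1
    rw [map_mul, map_inv, hπ1 _ (hπ2 _), mul_inv_cancel]
  have hw'ne : w' ≠ 1 := by
    intro h
    apply hmove
    have h1 : (⟨w₀, hw₀⟩ : N) = π ⟨w₀, hw₀⟩ := mul_inv_eq_one.mp h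
    have h2 := hπ2 ⟨w₀, hw₀⟩
    rw [← h1] at h2
    exact (hcjfix d _).mp h2
  let u : N := v' * w'
  have hπu : π u = v' := by
    show π (_ * _) = _
    rw [map_mul, hv'1, hπw, mul_one]
  have hu1 : (u : X) ≠ 1 := by
    intro h
    have h2 : u = 1 := Subtype.ext h
    rw [h2, map_one] at hπu
    exact hv1 (congrArg Subtype.val hπu).symm
  have hle : (P ⊓ Subgroup.centralizer {(u : X)} : Subgroup X) ≤
      (P ⊓ Subgroup.centralizer {v} : Subgroup X) := by
    intro t ht
    obtain ⟨htP, htc⟩ := mem_cp.mp ht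
    refine mem_cp.mpr ⟨htP, ?_⟩
    have hy : ∀ n, cj t (cj d n) = cj d (cj t n) := by
      intro n
      apply Subtype.ext
      rw [hcj, hcj, hcj, hcj]
      have h3 := hPab t htP d hd
      have h4 : t⁻¹ * d⁻¹ = d⁻¹ * t⁻¹ := by
        rw [← mul_inv_rev, ← mul_inv_rev, hPab d hd t htP]
      calc t * (d * (n : X) * d⁻¹) * t⁻¹ = (t * d) * n * (d⁻¹ * t⁻¹) := by group
        _ = (d * t) * n * (t⁻¹ * d⁻¹) := by rw [h3, h4]
        _ = _ := by group
    have h5 := hπ3 (cj t) hy u
    have h6 : cj t u = u := (hcjfix t u).mpr htc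
    rw [h6, hπu] at h5
    exact (hcjfix t v').mp h5.symm
  have heq := Subgroup.eq_of_le_of_card_ge hle (le_of_eq (hconst v hv u u.2 hv1 hu1))
  have hdc : d ∈ (P ⊓ Subgroup.centralizer {(u : X)} : Subgroup X) := by
    rw [heq]
    exact mem_cp.mpr ⟨hd, hdv⟩
  have hdu : cj d u = u := (hcjfix d u).mpr (mem_cp.mp hdc).2
  have hdv' : cj d v' = v' := (hcjfix d v').mpr hdv
  have hdw' : cj d w' = w' := by
    have h9 : cj d v' * cj d w' = v' * w' := by
      rw [← map_mul]; exact hdu
    rw [hdv'] at h9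
    exact mul_left_cancel h9
  have := hπ1 _ hdw'
  rw [hπw] at this
  exact hw'ne this.symm

/-- Two commuting independent elements of order `p`. -/
def NonCyc (p : ℕ) (X : Type*) [Group X] : Prop :=
  ∃ x y : X, orderOf x = p ∧ orderOf y = p ∧ x * y = y * x ∧ y ∉ Subgroup.zpowers x

variable {p : ℕ} [hp : Fact p.Prime]

theorem isPGroup_zpowers_of_pow {X : Type*} [Group X] {x : X} (hx : x ^ p = 1) :
    IsPGroup p (Subgroup.zpowers x) := by
  have hpp : p.Prime := hp.out
  rintro ⟨_, m, rfl⟩
  refine ⟨1, Subtype.ext ?_⟩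
  show (x ^ m) ^ (p ^ 1) = 1
  rw [pow_one, ← zpow_natCast, ← zpow_mul, mul_comm, zpow_mul, zpow_natCast, hx, one_zpow]

/-- `zpowers x ⊔ zpowers y` for commuting elements of order `p` sits in a Sylow subgroup. -/
theorem NonCyc.exists_sylow {X : Type*} [Group X] [Finite X] {x y : X} (hx : x ^ p = 1)
    (hy : y ^ p = 1) (hxy : x * y = y * x) :
    IsPGroup p (Subgroup.zpowers x ⊔ Subgroup.zpowers y : Subgroup X) ∧
      ∃ P : Sylow p X, x ∈ (P : Subgroup X) ∧ y ∈ (P : Subgroup X) := by
  have h1 : Subgroup.zpowers x ≤ Subgroup.normalizer ((Subgroup.zpowers y : Subgroup X) : Set X) := by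
    rw [Subgroup.zpowers_le, Subgroup.mem_normalizer_iff]
    intro u
    have hcomm : ∀ m : ℤ, x * y ^ m * x⁻¹ = y ^ m := by
      intro m
      have : Commute x (y ^ m) := (show Commute x y from hxy).zpow_right m
      rw [this.eq, mul_inv_cancel_right]
    constructor
    · rintro ⟨m, rfl⟩
      exact ⟨m, (hcomm m).symm⟩
    · rintro ⟨m, hm⟩
      have h2 : x * u * x⁻¹ = x * y ^ m * x⁻¹ := by rw [hcomm m]; exact hm.symm
      have h3 : u = y ^ m := by
        have := mul_left_cancel (mul_right_cancel h2)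
        exact this
      exact ⟨m, h3.symm⟩
  have h2 : IsPGroup p (Subgroup.zpowers x ⊔ Subgroup.zpowers y : Subgroup X) :=
    IsPGroup.to_sup_of_normal_right' (isPGroup_zpowers_of_pow hx) (isPGroup_zpowers_of_pow hy) h1
  obtain ⟨P, hP⟩ := h2.exists_le_sylow
  exact ⟨h2, P, hP (Subgroup.mem_sup_left (Subgroup.mem_zpowers x)),
    hP (Subgroup.mem_sup_right (Subgroup.mem_zpowers y))⟩

/-- Under `HB`, all Sylow `p`-subgroups have exponent `p` when `NonCyc p`. -/
theorem NonCyc.sylow_exp {X : Type*} [Group X] [Finite X] (hB : HB X) (h : NonCyc p X)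
    (Q : Sylow p X) : ∀ z ∈ (Q : Subgroup X), z ^ p = 1 := by
  obtain ⟨x, y, hx, hy, hxy, hne⟩ := h
  have hx1 : x ^ p = 1 := hx ▸ pow_orderOf_eq_one x
  have hy1 : y ^ p = 1 := hy ▸ pow_orderOf_eq_one y
  obtain ⟨-, P, hxP, hyP⟩ := NonCyc.exists_sylow hx1 hy1 hxy
  have hexp : ∀ z ∈ (P : Subgroup X), z ^ p = 1 := by
    apply Cfsg.Agent.S3908.exp_of_two hB p (P : Subgroup X) P.2
      (Subgroup.zpowers (⟨x, hxP⟩ : (P : Subgroup X))) (Subgroup.zpowers (⟨y, hyP⟩ : (P : Subgroup X)))
    · rw [Nat.card_zpowers, ← Subgroup.orderOf_coe]; exact hx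
    · rw [Nat.card_zpowers, ← Subgroup.orderOf_coe]; exact hy
    · intro heq
      have h1 : (⟨y, hyP⟩ : (P : Subgroup X)) ∈ Subgroup.zpowers (⟨x, hxP⟩ : (P : Subgroup X)) := by
        rw [heq]; exact Subgroup.mem_zpowers _
      obtain ⟨m, hm⟩ := h1
      apply hne
      refine ⟨m, ?_⟩
      have := congrArg Subtype.val hm
      simpa using this
  obtain ⟨g, rfl⟩ := MulAction.exists_smul_eq X P Q
  intro z hz
  have hz' : z ∈ MulAut.conj g • (P : Subgroup X) := hz
  rw [mem_conj_smul_iff] at hz'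
  have h2 := hexp _ hz'
  have h3 : g⁻¹ * z * g = g⁻¹ * z * g⁻¹⁻¹ := by simp
  rw [h3, conj_pow] at h2
  have h4 : g⁻¹ * z ^ p * g⁻¹⁻¹ = g⁻¹ * 1 * g⁻¹⁻¹ := by simpa using h2
  exact mul_left_cancel (mul_right_cancel h4)

/-- A prime `p` with `NonCyc p X` in a solvable `HB`-group `X` has a normal abelian Sylow subgroup
of exponent `p`. -/
theorem normal_sylow_of_nonCyc : ∀ (n : ℕ) (X : Type u) [Group X] [Finite X] [Group.IsSolvable X],
    Nat.card X = n → HB X → NonCyc p X →
    ∃ P : Sylow p X, (P : Subgroup X).Normal ∧ (∀ a ∈ (P : Subgroup X), ∀ b ∈ (P : Subgroup X),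
      a * b = b * a) ∧ ∀ a ∈ (P : Subgroup X), a ^ p = 1 := by
  intro n
  induction n using Nat.strong_induction_on with
  | _ n ih =>
    intro X _ _ _ hn hB hNC
    have hpp : p.Prime := hp.out
    have hexp := fun Q : Sylow p X => NonCyc.sylow_exp hB hNC Q
    obtain ⟨x, y, hx, hy, hxy, hne⟩ := id hNC
    have hx1 : x ^ p = 1 := hx ▸ pow_orderOf_eq_one x
    have hy1 : y ^ p = 1 := hy ▸ pow_orderOf_eq_one y
    have hxne : x ≠ 1 := by
      rintro rfl
      rw [orderOf_one] at hx
      exact hpp.one_lt.ne hx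
    have htop : (⊤ : Subgroup X) ≠ ⊥ := by
      intro h
      apply hxne
      have : x ∈ (⊥ : Subgroup X) := h ▸ Subgroup.mem_top x
      exact Subgroup.mem_bot.mp this
    obtain ⟨N, hNn, hNb, -, hmin⟩ := Cfsg.Agent.Lib.MinNorm.exists_minimal_normal_le (⊤ : Subgroup X)
      inferInstance htop
    obtain ⟨q, hq, hNab, hNq⟩ := Cfsg.Agent.Lib.MinNorm.minimal_normal_abelian N hNb hmin
    have hqf : Fact q.Prime := ⟨hq⟩
    have hNpg : IsPGroup q N := Cfsg.Agent.Lib.MinNorm.isPGroup_of_exponent hNq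
    by_cases hqp : q = p
    · -- `N` is a normal `p`-subgroup
      subst hqp
      obtain ⟨t, ht⟩ := IsPGroup.iff_card.mp hNpg
      have hcommN : IsMulCommutative N := ⟨⟨fun a b => Subtype.ext (hNab _ a.2 _ b.2)⟩⟩
      by_cases ht2 : 2 ≤ t
      · have hel : Cfsg.IsElementaryAbelian q N := ⟨hcommN, hNq⟩
        have hall := (Cfsg.Agent.S3909.result hB N).2 q t ht2 ht hel
        let P : Sylow q X := default
        refine ⟨P, ?_, ?_, ?_⟩
        · rw [hall P]; exact hNn
        · rw [hall P]; exact hNab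
        · rw [hall P]; exact hNq
      · exfalso
        have ht0 : t ≠ 0 := by
          rintro rfl
          exact hNb (Subgroup.card_eq_one.mp (by simpa using ht))
        have ht1 : t = 1 := by omega
        subst ht1
        rw [pow_one] at ht
        -- all elements of order `q` lie in `N`, which has order `q`
        have hdvd : q ∣ Nat.card N := by rw [ht]
        have hxN : x ∈ N := mem_of_order_prime hB N hdvd hx
        have hyN : y ∈ N := mem_of_order_prime hB N hdvd hy
        have hz : Subgroup.zpowers x = N := by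
          apply Subgroup.eq_of_le_of_card_ge (Subgroup.zpowers_le.mpr hxN)
          rw [ht, Nat.card_zpowers, hx]
        exact hne (hz ▸ hyN)
    · -- the coprime case
      obtain ⟨t, ht⟩ := IsPGroup.iff_card.mp hNpg
      have hcopN : p.Coprime (Nat.card N) := by
        rw [ht]
        exact Nat.Coprime.pow_right t ((Nat.coprime_primes hpp hq).mpr (Ne.symm hqp))
      have hpN : ∀ z ∈ N, z ^ p = 1 → z = 1 := by
        intro z hz hz1
        have h1 := orderOf_dvd_of_pow_eq_one hz1
        have h2 := orderOf_dvd_of_pow_eq_one (hNq z hz)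
        have h3 : orderOf z = 1 := Nat.eq_one_of_dvd_coprimes
          ((Nat.coprime_primes hpp hq).mpr (Ne.symm hqp)) h1 h2
        exact orderOf_eq_one_iff.mp h3
      let π : X →* X ⧸ N := QuotientGroup.mk' N
      have hπker : ∀ z, π z = 1 ↔ z ∈ N := by
        intro z
        rw [← MonoidHom.mem_ker, QuotientGroup.ker_mk']
      have hsurj : Function.Surjective π := QuotientGroup.mk'_surjective N
      have hBq : HB (X ⧸ N) := Cfsg.Agent.S3912.result hB inferInstance N
      have hord : ∀ z : X, z ^ p = 1 → z ≠ 1 → orderOf (π z) = p := by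
        intro z hz hz1
        apply orderOf_eq_prime
        · rw [← map_pow, hz, map_one]
        · intro h
          exact hz1 (hpN z ((hπker z).mp h) hz)
      have hyne : y ≠ 1 := by
        rintro rfl
        exact hne (Subgroup.one_mem _)
      have hNCq : NonCyc p (X ⧸ N) := by
        refine ⟨π x, π y, hord x hx1 hxne, hord y hy1 hyne, ?_, ?_⟩
        · rw [← map_mul, ← map_mul, hxy]
        · rintro ⟨m, hm⟩
          have h1 : y * (x ^ m)⁻¹ ∈ N := by
            rw [← hπker, map_mul, map_inv, map_zpow]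
            have hm' : π x ^ m = π y := hm
            rw [hm', mul_inv_cancel]
          have hcm : Commute y ((x ^ m)⁻¹) :=
            (((show Commute x y from hxy).symm).zpow_right m).inv_right
          have h2 : (y * (x ^ m)⁻¹) ^ p = 1 := by
            rw [hcm.mul_pow, hy1, one_mul, inv_pow, ← zpow_natCast, ← zpow_mul, mul_comm, zpow_mul,
              zpow_natCast, hx1, one_zpow, inv_one]
          have h3 := hpN _ h1 h2
          apply hne
          exact ⟨m, (mul_inv_eq_one.mp h3).symm⟩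
      have hlt : Nat.card (X ⧸ N) < n := by
        rw [← hn]
        exact card_quotient_lt hNb
      obtain ⟨Pb, hPbn, hPbab, hPbexp⟩ := ih _ hlt (X ⧸ N) rfl hBq hNCq
      obtain ⟨-, P, hxP, hyP⟩ := NonCyc.exists_sylow hx1 hy1 hxy
      have hunique := Sylow.unique_of_normal Pb hPbn
      have hmapP : P.map π = (Pb : Subgroup (X ⧸ N)) := by
        have h1 : P.mapSurjective hsurj = Pb := Subsingleton.elim _ _
        rw [← h1, Sylow.coe_mapSurjective]
      have hdec : ∀ z : X, z ^ p = 1 → ∃ b ∈ (P : Subgroup X), ∃ c ∈ N, z = b * c := by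
        intro z hz
        have h1 : IsPGroup p (Subgroup.zpowers (π z)) :=
          isPGroup_zpowers_of_pow (by rw [← map_pow, hz, map_one])
        obtain ⟨S, hS⟩ := h1.exists_le_sylow
        have h2 : S = Pb := Subsingleton.elim _ _
        have h3 : π z ∈ (Pb : Subgroup (X ⧸ N)) := by
          rw [← h2]; exact hS (Subgroup.mem_zpowers _)
        rw [← hmapP] at h3
        obtain ⟨b, hb, hbz⟩ := h3
        refine ⟨b, hb, b⁻¹ * z, ?_, by group⟩
        rw [← hπker, map_mul, map_inv, hbz, inv_mul_cancel]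
      have hPexp := hexp P
      have hPN : ∀ z ∈ (P : Subgroup X), z ∈ N → z = 1 := fun z hz hzN => hpN z hzN (hPexp z hz)
      have hPab : ∀ a ∈ (P : Subgroup X), ∀ b ∈ (P : Subgroup X), a * b = b * a := by
        intro a ha b hb
        have h1 : π a ∈ (Pb : Subgroup (X ⧸ N)) := hmapP ▸ Subgroup.mem_map_of_mem _ ha
        have h2 : π b ∈ (Pb : Subgroup (X ⧸ N)) := hmapP ▸ Subgroup.mem_map_of_mem _ hb
        have h3 := hPbab _ h1 _ h2
        have h4 : a * b * (b * a)⁻¹ ∈ N := by
          rw [← hπker, map_mul, map_inv, map_mul, map_mul, h3, mul_inv_cancel]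
        have h5 : a * b * (b * a)⁻¹ ∈ (P : Subgroup X) :=
          Subgroup.mul_mem _ (Subgroup.mul_mem _ ha hb) (Subgroup.inv_mem _ (Subgroup.mul_mem _ hb ha))
        exact mul_inv_eq_one.mp (hPN _ h5 h4)
      -- Frattini
      have hcardP : (Nat.card N).Coprime (Nat.card (P : Subgroup X)) := by
        obtain ⟨k, hk⟩ := IsPGroup.iff_card.mp P.2
        rw [hk]
        exact (Nat.Coprime.pow_right k hcopN.symm)
      have hfrat : ∀ g : X, ∃ g₀ : X, (∀ c ∈ N, g₀ * c * g₀⁻¹ = g * c * g⁻¹) ∧
          ∀ a ∈ (P : Subgroup X), g₀ * a * g₀⁻¹ ∈ (P : Subgroup X) := by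
        intro g
        have hle : (P : Subgroup X).map (MulAut.conj g).toMonoidHom ≤ (P : Subgroup X) ⊔ N := by
          rintro _ ⟨a, ha, rfl⟩
          have h1 : (g * a * g⁻¹) ^ p = 1 := by
            rw [conj_pow, hPexp a ha]; simp
          obtain ⟨b, hb, c, hc, hz⟩ := hdec _ h1
          have h2 : (MulAut.conj g).toMonoidHom a = g * a * g⁻¹ := rfl
          rw [h2, hz]
          exact Subgroup.mul_mem _ (Subgroup.mem_sup_left hb) (Subgroup.mem_sup_right hc)
        obtain ⟨c, hcN, hc⟩ := Cfsg.Agent.Lib.HallCount.conj_in_normal N hNab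
          (H₁ := (P : Subgroup X)) (H₂ := (P : Subgroup X).map (MulAut.conj g).toMonoidHom)
          (by rw [Cfsg.Agent.Lib.AbConj.card_map_conj]) hcardP hle
        refine ⟨c⁻¹ * g, ?_, ?_⟩
        · intro c' hc'
          have h1 : g * c' * g⁻¹ ∈ N := hNn.conj_mem _ hc' _
          have h2 := hNab _ (N.inv_mem hcN) _ h1
          calc c⁻¹ * g * c' * (c⁻¹ * g)⁻¹ = c⁻¹ * (g * c' * g⁻¹) * c := by group
            _ = (g * c' * g⁻¹) * c⁻¹ * c := by rw [h2]
            _ = _ := by group
        · intro a ha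
          have h1 : g * a * g⁻¹ ∈ (P : Subgroup X).map (MulAut.conj g).toMonoidHom :=
            conj_mem_map g ha
          rw [← hc, smul_eq_map, mem_map_conj] at h1
          convert h1 using 1
          group
      -- constancy of the order of the centralizers
      have hconstle : ∀ v ∈ N, ∀ v' ∈ N, v ≠ 1 → v' ≠ 1 →
          Nat.card (↑P ⊓ Subgroup.centralizer {v} : Subgroup X) ≤
            Nat.card (↑P ⊓ Subgroup.centralizer {v'} : Subgroup X) := by
        intro v hv v' hv' hv1 hv'1
        have hordv : orderOf v = q := orderOf_eq_prime (hNq v hv) hv1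
        have hordv' : orderOf v' = q := orderOf_eq_prime (hNq v' hv') hv'1
        obtain ⟨g, hg⟩ := hB (Subgroup.zpowers v) (Subgroup.zpowers v') inferInstance inferInstance
          (by rw [Nat.card_zpowers, Nat.card_zpowers, hordv, hordv'])
        obtain ⟨g₀, hg₀1, hg₀2⟩ := hfrat g
        have h1 : v' ∈ (Subgroup.zpowers v).map (MulAut.conj g).toMonoidHom := by
          rw [← hg]; exact Subgroup.mem_zpowers v'
        obtain ⟨_, ⟨m, rfl⟩, hm⟩ := h1
        have hv'eq : v' = (g₀ * v * g₀⁻¹) ^ m := by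
          rw [hg₀1 v hv, ← hm]
          simp [conj_zpow]
        have hinj : Function.Injective (MulAut.conj g₀).toMonoidHom := (MulAut.conj g₀).injective
        rw [← Subgroup.card_map_of_injective hinj]
        apply Subgroup.card_le_of_le
        rintro _ ⟨t, ht, rfl⟩
        obtain ⟨htP, htv⟩ := mem_cp.mp ht
        refine mem_cp.mpr ⟨hg₀2 t htP, ?_⟩
        show g₀ * t * g₀⁻¹ * v' = v' * (g₀ * t * g₀⁻¹)
        rw [hv'eq]
        have hcomm : Commute (g₀ * t * g₀⁻¹) (g₀ * v * g₀⁻¹) := by
          show g₀ * t * g₀⁻¹ * (g₀ * v * g₀⁻¹) = g₀ * v * g₀⁻¹ * (g₀ * t * g₀⁻¹)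
          calc g₀ * t * g₀⁻¹ * (g₀ * v * g₀⁻¹) = g₀ * (t * v) * g₀⁻¹ := by group
            _ = g₀ * (v * t) * g₀⁻¹ := by rw [htv]
            _ = _ := by group
        exact (hcomm.zpow_right m).eq
      have hconst : ∀ v ∈ N, ∀ v' ∈ N, v ≠ 1 → v' ≠ 1 →
          Nat.card (↑P ⊓ Subgroup.centralizer {v} : Subgroup X) =
            Nat.card (↑P ⊓ Subgroup.centralizer {v'} : Subgroup X) := fun v hv v' hv' h1 h2 =>
        le_antisymm (hconstle v hv v' hv' h1 h2) (hconstle v' hv' v hv h2 h1)
      have hfix := fun {d v : X} (hd : d ∈ (P : Subgroup X)) (hv : v ∈ N) (hv1 : v ≠ 1)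
          (hdv : d * v = v * d) =>
        fix_all N (P : Subgroup X) hNab hPab hPexp hcopN hconst hd hv hv1 hdv
      -- an element of `P` centralizing `N`
      let E : Subgroup X := Subgroup.zpowers x ⊔ Subgroup.zpowers y
      have hxE : x ∈ E := Subgroup.mem_sup_left (Subgroup.mem_zpowers x)
      have hyE : y ∈ E := Subgroup.mem_sup_right (Subgroup.mem_zpowers y)
      have hEP : E ≤ (P : Subgroup X) :=
        sup_le (Subgroup.zpowers_le.mpr hxP) (Subgroup.zpowers_le.mpr hyP)
      have hEcomm : IsMulCommutative E :=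
        ⟨⟨fun a b => Subtype.ext (hPab _ (hEP a.2) _ (hEP b.2))⟩⟩
      have hEK : E ≤ Subgroup.normalizer ((N : Subgroup X) : Set X) := by
        rw [Subgroup.normalizer_eq_top_iff.mpr hNn]
        exact le_top
      have hexa : ∃ a ∈ E, a ≠ 1 ∧ (N ⊓ Subgroup.centralizer {a} : Subgroup X) ≠ ⊥ := by
        by_contra hcon
        push Not at hcon
        have hcyc : IsCyclic E := Cfsg.Agent.Lib.FpfGeneral.isCyclic_of_fpf E N hNb hEK hcon
          (Or.inl hEcomm)
        have hz := zpowers_eq_of_cyclic E hxE hyE (hx.trans hy.symm)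
        apply hne
        rw [hz]
        exact Subgroup.mem_zpowers y
      obtain ⟨a, haE, ha1, haN⟩ := hexa
      obtain ⟨v, hvmem, hv1⟩ := (Subgroup.ne_bot_iff_exists_ne_one (H := (N ⊓ Subgroup.centralizer {a} : Subgroup X))).mp haN |> fun ⟨w, hw⟩ => (⟨(w : X), w.2, fun h => hw (Subtype.ext h)⟩ : ∃ v : X, v ∈ (N ⊓ Subgroup.centralizer {a} : Subgroup X) ∧ v ≠ 1)
      have hvN : v ∈ N := (Subgroup.mem_inf.mp hvmem).1
      have hav : a * v = v * a := by
        have h1 := (Subgroup.mem_inf.mp hvmem).2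
        rw [Subgroup.mem_centralizer_singleton_iff] at h1
        exact h1.symm
      have haP := hEP haE
      have hafix := hfix haP hvN hv1 hav
      let C : Subgroup X := Subgroup.centralizer (N : Set X)
      have hCn : C.Normal := Subgroup.normal_centralizer
      have haC : a ∈ C := by
        rw [Subgroup.mem_centralizer_iff]
        intro w hw
        exact (hafix w hw).symm
      have hPC : (P : Subgroup X) ≤ C := by
        intro z hz
        by_cases hz1 : z = 1
        · rw [hz1]; exact C.one_mem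
        · apply mem_of_orderOf_eq hB C haC
          rw [orderOf_eq_prime (hPexp z hz) hz1, orderOf_eq_prime (hPexp a haP) ha1]
      have hPnormal : (P : Subgroup X).Normal := by
        refine ⟨fun a' ha' g => ?_⟩
        have h1 : (g * a' * g⁻¹) ^ p = 1 := by
          rw [conj_pow, hPexp a' ha']; simp
        obtain ⟨b, hb, c, hc, hz⟩ := hdec _ h1
        have hbc : Commute b c := by
          have h2 := hPC hb
          rw [Subgroup.mem_centralizer_iff] at h2
          exact (h2 c hc).symm
        have h3 : (b * c) ^ p = 1 := by rw [← hz]; exact h1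
        rw [hbc.mul_pow, hPexp b hb, one_mul] at h3
        have h4 := hpN c hc h3
        rw [hz, h4, mul_one]
        exact hb
      exact ⟨P, hPnormal, hPab, hPexp⟩

end Cfsg.Agent.Lib.AbConj
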