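import Mathlib
import Cfsg.Agent.Lib.AbConjB

/-!
Quaternion Sylow `2`-subgroups of order `8` in solvable `HB`-groups with cyclic odd Sylow subgroups.
-/

set_option autoImplicit false

namespace Cfsg.Agent.Lib.AbConj

open scoped Pointwise
open Cfsg.Agent.Lib.Coprime Cfsg.Agent.Lib.PCore Cfsg.Agent.S3911 Cfsg.Agent.S3912

universe u

/-- Quaternion data on a subgroup `Q`. -/
structure Q8D {G : Type*} [Group G] (Q : Subgroup G) (i j : G) : Prop where
  hi : i ∈ Q
  hj : j ∈ Q
  sq_eq : i ^ 2 = j ^ 2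
  sq_ne : i ^ 2 ≠ 1
  sq_sq : (i ^ 2) ^ 2 = 1
  rel : j * i * j⁻¹ = i⁻¹
  ord_i : orderOf i = 4
  ord_j : orderOf j = 4
  ord_ij : orderOf (i * j) = 4
  invol : ∀ x ∈ Q, x ^ 2 = 1 → x = 1 ∨ x = i ^ 2
  ord : ∀ x ∈ Q, x ≠ 1 → x ≠ i ^ 2 → orderOf x = 4
  cen : ∀ x ∈ Q, x * i ^ 2 = i ^ 2 * x
  gen : ∀ S : Subgroup G, i ∈ S → j ∈ S → Q ≤ S
  card : Nat.card Q = 8

open QuaternionGroup in
theorem q8d_of_hom {G : Type*} [Group G] (Q : Subgroup G) (ι : QuaternionGroup 2 →* G)
    (hι : Function.Injective ι) (hr : ι.range = Q) :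
    Q8D Q (ι (a 1)) (ι (xa 0)) := by
  have hmem : ∀ w, ι w ∈ Q := fun w => hr ▸ ⟨w, rfl⟩
  have hex : ∀ x ∈ Q, ∃ w, x = ι w := by
    intro x hx
    rw [← hr] at hx
    obtain ⟨w, rfl⟩ := hx
    exact ⟨w, rfl⟩
  have hz : ι (a 1) ^ 2 = ι (a 2) := by
    rw [← map_pow]
    congr 1
  have hz1 : ι (a 2) ≠ 1 := by
    intro h
    have h1 : (a 2 : QuaternionGroup 2) = 1 := hι (by rw [h, map_one])
    exact absurd h1 (by decide)
  have hord4 : ∀ w : QuaternionGroup 2, w ≠ 1 → w ≠ a 2 → orderOf (ι w) = 4 := by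
    intro w h1 h2
    have h3 : w ^ 2 = a 2 := (by decide : ∀ x : QuaternionGroup 2, x ≠ 1 → x ≠ a 2 → (x ^ 2 = a 2)) w h1 h2
    have h4 : ι w ^ 2 = ι (a 2) := by rw [← map_pow, h3]
    have h5 : ι w ^ (2 ^ (1 + 1)) = 1 := by
      have : (2 : ℕ) ^ (1 + 1) = 2 * 2 := by norm_num
      rw [this, pow_mul, h4, ← map_pow]
      have : (a 2 : QuaternionGroup 2) ^ 2 = 1 := by decide
      rw [this, map_one]
    have h6 : ¬ ι w ^ (2 ^ 1) = 1 := by
      rw [pow_one, h4]; exact hz1
    have := orderOf_eq_prime_pow (p := 2) (n := 1) (hp := ⟨Nat.prime_two⟩) h6 h5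
    simpa using this
  refine ⟨hmem _, hmem _, ?_, ?_, ?_, ?_, ?_, ?_, ?_, ?_, ?_, ?_, ?_, ?_⟩
  · rw [← map_pow, ← map_pow]
    congr 1
  · rw [hz]; exact hz1
  · rw [hz, ← map_pow]
    have : (a 2 : QuaternionGroup 2) ^ 2 = 1 := by decide
    rw [this, map_one]
  · rw [← map_mul, ← map_inv, ← map_mul, ← map_inv]
    congr 1
  · exact hord4 _ (by decide) (by decide)
  · exact hord4 _ (by decide) (by decide)
  · rw [← map_mul]
    exact hord4 _ (by decide) (by decide)
  · intro x hx hx2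
    obtain ⟨w, rfl⟩ := hex x hx
    have h1 : w ^ 2 = 1 := hι (by rw [map_pow, hx2, map_one])
    rcases (by decide : ∀ x : QuaternionGroup 2, x ^ 2 = 1 → x = 1 ∨ x = a 2) w h1 with h | h
    · left; rw [h, map_one]
    · right; rw [h, hz]
  · intro x hx h1 h2
    obtain ⟨w, rfl⟩ := hex x hx
    apply hord4
    · rintro rfl
      exact h1 (map_one _)
    · rintro rfl
      exact h2 hz.symm
  · intro x hx
    obtain ⟨w, rfl⟩ := hex x hx
    rw [hz, ← map_mul, ← map_mul]
    congr 1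
    exact (by decide : ∀ x : QuaternionGroup 2, x * a 2 = a 2 * x) w
  · intro S hi hj x hx
    obtain ⟨w, rfl⟩ := hex x hx
    obtain ⟨m, n, hmn⟩ := (by decide : ∀ x : QuaternionGroup 2, ∃ m n : Fin 4,
      x = (a 1 : QuaternionGroup 2) ^ (m : ℕ) * (xa 0 : QuaternionGroup 2) ^ (n : ℕ)) w
    rw [hmn, map_mul, map_pow, map_pow]
    exact S.mul_mem (S.pow_mem hi _) (S.pow_mem hj _)
  · rw [← hr]
    have h1 : Nat.card ι.range = Nat.card (QuaternionGroup 2) :=
      Nat.card_congr (MonoidHom.ofInjective hι).symm.toEquiv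
    rw [h1, nat_card_Q]

/-- The commutator of any two elements centralizes a normal cyclic subgroup. -/
theorem comm_mem_centralizer_of_cyclic {Y : Type*} [Group Y] (F : Subgroup Y) [hFn : F.Normal]
    [hFc : IsCyclic F] (a b : Y) : a * b * a⁻¹ * b⁻¹ ∈ Subgroup.centralizer (F : Set Y) := by
  have hcomm : ∀ α β : MulAut F, α * β = β * α := by
    intro α β
    apply (IsCyclic.mulAutMulEquiv F).injective
    rw [map_mul, map_mul, mul_comm]
  have h : (MulAut.conjNormal (a * b * a⁻¹ * b⁻¹) : MulAut F) = 1 := by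
    simp only [map_mul, map_inv]
    rw [hcomm (MulAut.conjNormal a) (MulAut.conjNormal b)]
    group
  rw [Subgroup.mem_centralizer_iff]
  intro u hu
  have h1 := congrArg (fun α : MulAut F => ((α ⟨u, hu⟩ : F) : Y)) h
  simp only [MulAut.conjNormal_apply, MulAut.one_apply] at h1
  rw [mul_inv_eq_iff_eq_mul] at h1
  exact h1.symm

theorem isZGroup_of_odd {Y : Type*} [Group Y] [Finite Y]
    (hodd : ∀ (r : ℕ), r.Prime → r ≠ 2 → ∀ S : Sylow r Y, IsCyclic (S : Subgroup Y))
    (R : Subgroup Y) (hR : (Nat.card R).Coprime 2) : IsZGroup R := by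
  refine ⟨fun r hr S => ?_⟩
  have : Fact r.Prime := ⟨hr⟩
  by_cases h2 : r = 2
  · subst h2
    have hb : (S : Subgroup R) = ⊥ :=
      eq_bot_of_isPGroup_of_coprime S.2
        (Nat.Coprime.coprime_dvd_left (Subgroup.card_subgroup_dvd_card _) hR)
    rw [hb]
    infer_instance
  · obtain ⟨Q, hQ⟩ := S.exists_comap_eq_of_injective R.subtype_injective
    have hc := hodd r hr h2 Q
    have h : Subgroup.map R.subtype S ≤ Q := hQ ▸ Subgroup.map_comap_le R.subtype ↑Q
    have := isCyclic_of_surjective _ (Subgroup.subgroupOfEquivOfLe h).surjective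
    exact isCyclic_of_surjective _ (Subgroup.equivMapOfInjective S R.subtype R.subtype_injective).symm.surjective

/-- A quaternion Sylow `2`-subgroup of order `8` is normal, in a solvable `HB`-group with cyclic odd
Sylow subgroups. -/
theorem q8_normal {Y : Type*} [Group Y] [Finite Y] [Group.IsSolvable Y] (hB : HB Y)
    (hodd : ∀ (r : ℕ), r.Prime → r ≠ 2 → ∀ S : Sylow r Y, IsCyclic (S : Subgroup Y))
    [Fact (Nat.Prime 2)] (P : Sylow 2 Y) {i j : Y} (hd : Q8D (P : Subgroup Y) i j) :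
    (P : Subgroup Y).Normal := by
  classical
  set E := pCore 2 Y with hE
  set K := pPrimeCore 2 Y with hK
  set F := fittingSubgroup Y with hF
  have hEP : E ≤ (P : Subgroup Y) := pCore_le_sylow 2 P
  have hK2 : (Nat.card K).Coprime 2 := card_pPrimeCore_coprime 2
  have hPK : ∀ x ∈ (P : Subgroup Y), x ∈ K → x = 1 := by
    intro x hx hxK
    have h : ((P : Subgroup Y) ⊓ K) = ⊥ := by
      apply eq_bot_of_isPGroup_of_coprime (P.isPGroup'.to_le inf_le_left)
      exact Nat.Coprime.coprime_dvd_left (Subgroup.card_dvd_of_le inf_le_right) hK2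
    have : x ∈ ((P : Subgroup Y) ⊓ K) := ⟨hx, hxK⟩
    rw [h] at this
    exact this
  -- the odd part of the Fitting subgroup is cyclic
  let F₁ : Subgroup Y := F ⊓ K
  have hF₁n : F₁.Normal := inferInstance
  have hF₁2 : (Nat.card F₁).Coprime 2 :=
    Nat.Coprime.coprime_dvd_left (Subgroup.card_dvd_of_le inf_le_right) hK2
  haveI hZ : IsZGroup F₁ := isZGroup_of_odd hodd F₁ hF₁2
  haveI hN : Group.IsNilpotent F₁ := by
    have hFn : Group.IsNilpotent F := isNilpotent_fittingSubgroup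
    have h1 : Group.IsNilpotent ((F₁.subgroupOf F : Subgroup F)) := inferInstance
    exact Group.nilpotent_of_mulEquiv (Subgroup.subgroupOfEquivOfLe (inf_le_left : F₁ ≤ F))
  haveI hC : IsCyclic F₁ := inferInstance
  let A : Subgroup Y := Subgroup.centralizer (F₁ : Set Y)
  have hAn : A.Normal := Subgroup.normal_centralizer
  have hcomm : ∀ a b : Y, a * b * a⁻¹ * b⁻¹ ∈ A := fun a b => comm_mem_centralizer_of_cyclic F₁ a b
  have hzA : i ^ 2 ∈ A := by
    have h1 := hcomm j i
    have h2 : j * i * j⁻¹ * i⁻¹ = (i ^ 2)⁻¹ := by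
      rw [hd.rel]; group
    rw [h2] at h1
    simpa using A.inv_mem h1
  have hjne : j ≠ 1 := by
    rintro rfl
    have := hd.ord_j
    rw [orderOf_one] at this
    omega
  obtain ⟨g, hg⟩ := hB (Subgroup.zpowers i) (Subgroup.zpowers j) inferInstance inferInstance
    (by rw [Nat.card_zpowers, Nat.card_zpowers, hd.ord_i, hd.ord_j])
  have hjmem : j ∈ (Subgroup.zpowers i).map (MulAut.conj g).toMonoidHom := by
    rw [← hg]; exact Subgroup.mem_zpowers j
  obtain ⟨_, ⟨m, rfl⟩, hm⟩ := hjmem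
  have hm' : g * i ^ m * g⁻¹ = j := hm
  have hA1 : j * (i ^ m)⁻¹ ∈ A := by
    have := hcomm g (i ^ m)
    rw [← hm']
    simpa [mul_assoc] using this
  have hi4 : i ^ 4 = 1 := by
    have := pow_orderOf_eq_one i
    rwa [hd.ord_i] at this
  have hjiA : j * i ∈ A := by
    have hmod := zpow_mod_orderOf i m
    rw [hd.ord_i] at hmod
    have h4 : m % ((4 : ℕ) : ℤ) = 0 ∨ m % ((4 : ℕ) : ℤ) = 1 ∨ m % ((4 : ℕ) : ℤ) = 2 ∨
        m % ((4 : ℕ) : ℤ) = 3 := by omega
    rcases h4 with h | h | h | h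
    · exfalso
      rw [h, zpow_zero] at hmod
      rw [← hmod] at hm'
      simp at hm'
      exact hjne hm'.symm
    · rw [h, zpow_one] at hmod
      rw [← hmod] at hA1
      have h5 : j * i = j * i⁻¹ * i ^ 2 := by group
      rw [h5]
      exact A.mul_mem hA1 hzA
    · exfalso
      rw [h] at hmod
      have h6 : i ^ m = i ^ 2 := by rw [← hmod]; norm_cast
      rw [h6] at hm'
      have h7 : j ^ 2 = 1 := by
        rw [← hm', conj_pow, hd.sq_sq]; simp
      rw [← hd.sq_eq] at h7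
      exact hd.sq_ne h7
    · rw [h] at hmod
      have h6 : i ^ m = i⁻¹ := by
        rw [← hmod, eq_inv_iff_mul_eq_one]
        have : i ^ (3 : ℤ) * i = i ^ 4 := by
          rw [← zpow_natCast i 4, ← zpow_add_one]
          norm_num
        rw [this, hi4]
      rw [h6, inv_inv] at hA1
      exact hA1
  have hjiQ : j * i ∈ (P : Subgroup Y) := Subgroup.mul_mem _ hd.hj hd.hi
  have hji1 : j * i ≠ 1 := by
    intro h
    have h1 : j = i⁻¹ := eq_inv_of_mul_eq_one_left h
    have h2 := hd.rel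
    rw [h1] at h2
    have h3 : i ^ 2 = 1 := by
      have h4 : i = i⁻¹ := by simpa using h2
      have : i * i = 1 := by
        nth_rewrite 1 [h4]
        simp
      rwa [pow_two]
    exact hd.sq_ne h3
  have hji2 : j * i ≠ i ^ 2 := by
    intro h
    have h1 : j = i := by
      rw [pow_two] at h
      exact mul_right_cancel h
    have h2 := hd.rel
    rw [h1] at h2
    have h3 : i ^ 2 = 1 := by
      have h4 : i = i⁻¹ := by simpa using h2
      have : i * i = 1 := by
        nth_rewrite 1 [h4]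
        simp
      rwa [pow_two]
    exact hd.sq_ne h3
  have hjiord : orderOf (j * i) = 4 := hd.ord _ hjiQ hji1 hji2
  have hiA : i ∈ A := mem_of_orderOf_eq hB A hjiA (by rw [hd.ord_i, hjiord])
  have hjA : j ∈ A := mem_of_orderOf_eq hB A hjiA (by rw [hd.ord_j, hjiord])
  have hPA : (P : Subgroup Y) ≤ A := hd.gen A hiA hjA
  have hPE : (P : Subgroup Y) ≤ E := by
    by_contra hcon
    have hE4 : ¬ ∃ r ∈ E, orderOf r = 4 := by
      rintro ⟨r, hr, hr4⟩
      exact hcon (hd.gen E (mem_of_orderOf_eq hB E hr (by rw [hd.ord_i, hr4]))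
        (mem_of_orderOf_eq hB E hr (by rw [hd.ord_j, hr4])))
    have hEz : ∀ e ∈ E, e = 1 ∨ e = i ^ 2 := by
      intro e he
      by_contra h
      push Not at h
      exact hE4 ⟨e, he, hd.ord e (hEP he) h.1 h.2⟩
    have hEF : E ≤ F := pCore_le_fittingSubgroup 2
    have hdec : ∀ y ∈ F, ∃ e ∈ E, ∃ k ∈ F₁, e * k = y := by
      intro y hy
      have h1 := fittingSubgroup_le_sup (G := Y) 2 hy
      obtain ⟨e, he, k, hk, hek⟩ := Subgroup.mem_sup_of_normal_right.mp h1
      refine ⟨e, he, k, ⟨?_, hk⟩, hek⟩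
      have : k = e⁻¹ * y := by rw [← hek]; group
      rw [this]
      exact F.mul_mem (F.inv_mem (hEF he)) hy
    have hcen : (P : Subgroup Y) ≤ Subgroup.centralizer (F : Set Y) := by
      intro x hx
      rw [Subgroup.mem_centralizer_iff]
      intro y hy
      obtain ⟨e, he, k, hk, rfl⟩ := hdec y hy
      have h1 : x * e = e * x := by
        rcases hEz e he with rfl | rfl
        · simp
        · exact hd.cen x hx
      have h2 : k * x = x * k := (Subgroup.mem_centralizer_iff.mp (hPA hx)) k hk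
      calc e * k * x = e * (k * x) := by group
        _ = e * (x * k) := by rw [h2]
        _ = (e * x) * k := by group
        _ = (x * e) * k := by rw [h1]
        _ = x * (e * k) := by group
    have hiF : i ∈ F := centralizer_fittingSubgroup_le (hcen hd.hi)
    obtain ⟨e, he, k, hk, hek⟩ := hdec i hiF
    have hk1 : k = 1 := by
      apply hPK k _ hk.2
      have : k = e⁻¹ * i := by rw [← hek]; group
      rw [this]
      exact Subgroup.mul_mem _ (Subgroup.inv_mem _ (hEP he)) hd.hi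
    rw [hk1, mul_one] at hek
    exact hE4 ⟨i, hek ▸ he, hd.ord_i⟩
  have hPeq : (P : Subgroup Y) = E := le_antisymm hPE hEP
  rw [hPeq]
  infer_instance

end Cfsg.Agent.Lib.AbConj
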