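import Mathlib
import Cfsg.Agent.Lib.AbConjC

/-!
Subgroups of `T ⋊ Q₈` of equal order are conjugate, under `HB`.
-/

set_option autoImplicit false

namespace Cfsg.Agent.Lib.AbConj

open scoped Pointwise
open Cfsg.Agent.Lib.Coprime Cfsg.Agent.Lib.PCore Cfsg.Agent.S3911 Cfsg.Agent.S3912

universe u

section Commuting

variable {G : Type*} [Group G]

theorem mem_sup_of_commute (A B : Subgroup G) (hAB : ∀ a ∈ A, ∀ b ∈ B, a * b = b * a) {x : G}
    (hx : x ∈ A ⊔ B) : ∃ a ∈ A, ∃ b ∈ B, a * b = x := by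
  have hcomm : ∀ (a : A) (b : B), Commute (A.subtype a) (B.subtype b) :=
    fun a b => hAB a a.2 b b.2
  have hr := MonoidHom.noncommCoprod_range (f := A.subtype) (g := B.subtype) hcomm
  rw [Subgroup.range_subtype, Subgroup.range_subtype] at hr
  rw [← hr] at hx
  obtain ⟨⟨a, b⟩, rfl⟩ := hx
  exact ⟨a, a.2, b, b.2, rfl⟩

theorem card_sup_of_commute [Finite G] (A B : Subgroup G) (hAB : ∀ a ∈ A, ∀ b ∈ B, a * b = b * a)
    (hd : Disjoint A B) : Nat.card (A ⊔ B : Subgroup G) = Nat.card A * Nat.card B := by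
  have hcomm : ∀ (a : A) (b : B), Commute (A.subtype a) (B.subtype b) :=
    fun a b => hAB a a.2 b b.2
  have hr := MonoidHom.noncommCoprod_range (f := A.subtype) (g := B.subtype) hcomm
  rw [Subgroup.range_subtype, Subgroup.range_subtype] at hr
  have hinj : Function.Injective (MonoidHom.noncommCoprod A.subtype B.subtype hcomm) := by
    rw [injective_iff_map_eq_one]
    rintro ⟨a, b⟩ h
    have h1 : (a : G) * (b : G) = 1 := h
    have h2 : (a : G) = (b : G)⁻¹ := eq_inv_of_mul_eq_one_left h1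
    have h3 : (a : G) ∈ B := h2 ▸ B.inv_mem b.2
    have h4 := Subgroup.disjoint_def.mp hd a.2 h3
    have h5 : (b : G) = 1 := by rw [h4, one_mul] at h1; exact h1
    exact Prod.ext (Subtype.ext h4) (Subtype.ext h5)
  rw [← hr, ← Nat.card_prod]
  exact Nat.card_congr (MonoidHom.ofInjective hinj).symm.toEquiv

theorem comm_sup (A B : Subgroup G) (hA : ∀ a ∈ A, ∀ b ∈ A, a * b = b * a)
    (hB : ∀ a ∈ B, ∀ b ∈ B, a * b = b * a) (hAB : ∀ a ∈ A, ∀ b ∈ B, a * b = b * a) :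
    ∀ x ∈ A ⊔ B, ∀ y ∈ A ⊔ B, x * y = y * x := by
  intro x hx y hy
  obtain ⟨a, ha, b, hb, rfl⟩ := mem_sup_of_commute A B hAB hx
  obtain ⟨a', ha', b', hb', rfl⟩ := mem_sup_of_commute A B hAB hy
  have h1 : Commute a a' := hA a ha a' ha'
  have h2 : Commute a b' := hAB a ha b' hb'
  have h3 : Commute b a' := (hAB a' ha' b hb).symm
  have h4 : Commute b b' := hB b hb b' hb'
  exact ((h1.mul_right h2).mul_left (h3.mul_right h4)).eq

theorem isMulCommutative_of_forall (A : Subgroup G) (hA : ∀ a ∈ A, ∀ b ∈ A, a * b = b * a) :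
    IsMulCommutative A :=
  ⟨⟨fun a b => Subtype.ext (hA a a.2 b b.2)⟩⟩

/-- The `p`-primary part of an abelian subgroup. -/
def pPart (T : Subgroup G) (hT : ∀ a ∈ T, ∀ b ∈ T, a * b = b * a) (p : ℕ) : Subgroup G where
  carrier := {t | t ∈ T ∧ ∃ k : ℕ, t ^ (p ^ k) = 1}
  mul_mem' := by
    rintro a b ⟨ha, k, hk⟩ ⟨hb, l, hl⟩
    refine ⟨T.mul_mem ha hb, k + l, ?_⟩
    have hc : Commute a b := hT a ha b hb
    rw [hc.mul_pow, pow_add p k l, pow_mul, hk, one_pow, mul_comm (p ^ k), pow_mul, hl, one_pow,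
      one_mul]
  one_mem' := ⟨T.one_mem, 0, by simp⟩
  inv_mem' := by
    rintro a ⟨ha, k, hk⟩
    exact ⟨T.inv_mem ha, k, by rw [inv_pow, hk, inv_one]⟩

theorem pPart_normal (T : Subgroup G) [hTn : T.Normal] (hT : ∀ a ∈ T, ∀ b ∈ T, a * b = b * a)
    (p : ℕ) : (pPart T hT p).Normal := by
  refine ⟨?_⟩
  rintro a ⟨ha, k, hk⟩ g
  exact ⟨hTn.conj_mem a ha g, k, by rw [conj_pow, hk]; simp⟩

theorem pPart_isPGroup (T : Subgroup G) (hT : ∀ a ∈ T, ∀ b ∈ T, a * b = b * a) (p : ℕ) :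
    IsPGroup p (pPart T hT p) := by
  rintro ⟨a, ha, k, hk⟩
  exact ⟨k, Subtype.ext hk⟩

/-- From conjugation-invariance elementwise to the normalizer. -/
theorem le_normalizer_of_forall (H V : Subgroup G) (h : ∀ y ∈ H, ∀ v ∈ V, y * v * y⁻¹ ∈ V) :
    H ≤ Subgroup.normalizer (V : Set G) := by
  intro y hy
  rw [Subgroup.mem_normalizer_iff]
  intro u
  constructor
  · exact h y hy u
  · intro hu
    have := h y⁻¹ (H.inv_mem hy) _ hu
    convert this using 1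
    group

end Commuting

variable {G : Type u} [Group G] [Finite G] {p : ℕ} [hp : Fact p.Prime]

/-- A "hyperplane" avoiding `w` and containing `v`. -/
theorem exists_hyperplane_p (R : Subgroup G) (hRab : ∀ a ∈ R, ∀ b ∈ R, a * b = b * a)
    (hRexp : ∀ r ∈ R, r ^ p = 1) {v w : G} (hv : v ∈ R) (hw : w ∈ R)
    (hwv : w ∉ Subgroup.zpowers v) :
    ∃ D : Subgroup G, D ≤ R ∧ v ∈ D ∧ w ∉ D ∧ R ≤ D ⊔ Subgroup.zpowers w := by
  have hne : {D : Subgroup G | D ≤ R ∧ v ∈ D ∧ w ∉ D}.Nonempty :=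
    ⟨Subgroup.zpowers v, Subgroup.zpowers_le.mpr hv, Subgroup.mem_zpowers v, hwv⟩
  obtain ⟨D, ⟨hD1, hD2, hD3⟩, hmax⟩ := wellFounded_gt.has_min _ hne
  refine ⟨D, hD1, hD2, hD3, fun y hy => ?_⟩
  by_cases hyD : y ∈ D
  · exact Subgroup.mem_sup_left hyD
  · have hlt : D < D ⊔ Subgroup.zpowers y := lt_of_le_of_ne le_sup_left (fun he => hyD (by
      rw [he]; exact Subgroup.mem_sup_right (Subgroup.mem_zpowers y)))
    have hV : D ⊔ Subgroup.zpowers y ≤ R := sup_le hD1 (Subgroup.zpowers_le.mpr hy)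
    have hmem : w ∈ D ⊔ Subgroup.zpowers y := by
      by_contra hcon
      exact hmax _ ⟨hV, Subgroup.mem_sup_left hD2, hcon⟩ hlt
    have hcomm : ∀ a ∈ D, ∀ b ∈ Subgroup.zpowers y, a * b = b * a := by
      intro a ha b hb
      exact hRab a (hD1 ha) b ((Subgroup.zpowers_le.mpr hy) hb)
    obtain ⟨d, hd, _, ⟨m, rfl⟩, hdm⟩ := mem_sup_of_commute D _ hcomm hmem
    have hdm' : d * y ^ m = w := hdm
    have hym : y ^ m ≠ 1 := by
      intro h
      rw [h, mul_one] at hdm'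
      exact hD3 (hdm' ▸ hd)
    have hy1 : y ≠ 1 := by
      rintro rfl
      exact hyD D.one_mem
    have hordy : orderOf y = p := orderOf_eq_prime (hRexp y hy) hy1
    have hordm : orderOf (y ^ m) = p :=
      orderOf_eq_prime (hRexp _ (R.zpow_mem hy m)) hym
    have hz : Subgroup.zpowers (y ^ m) = Subgroup.zpowers y := by
      apply Subgroup.eq_of_le_of_card_ge
      · rw [Subgroup.zpowers_le]; exact Subgroup.zpow_mem_zpowers y m
      · rw [Nat.card_zpowers, Nat.card_zpowers, hordy, hordm]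
    have hym' : y ^ m = d⁻¹ * w := by rw [← hdm']; group
    have hle : Subgroup.zpowers (y ^ m) ≤ D ⊔ Subgroup.zpowers w := by
      rw [Subgroup.zpowers_le, hym']
      exact Subgroup.mul_mem _ (Subgroup.mem_sup_left (D.inv_mem hd))
        (Subgroup.mem_sup_right (Subgroup.mem_zpowers w))
    rw [hz] at hle
    exact hle (Subgroup.mem_zpowers y)

/-- If `x` normalizes all subgroups of `R` of order `p ^ a`, with `1 ≤ a < b`, `|R| = p ^ b`,
it normalizes all subgroups of order `p`. -/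
theorem scalar_of_inv (R : Subgroup G) (hRab : ∀ a ∈ R, ∀ b ∈ R, a * b = b * a)
    (hRexp : ∀ r ∈ R, r ^ p = 1) {a b : ℕ} (hRc : Nat.card R = p ^ b) (hab : a < b) (ha : 1 ≤ a)
    (x : G) (hxR : ∀ r ∈ R, x * r * x⁻¹ ∈ R)
    (hinv : ∀ V' : Subgroup G, V' ≤ R → Nat.card V' = p ^ a → ∀ v ∈ V', x * v * x⁻¹ ∈ V') :
    ∀ v ∈ R, x * v * x⁻¹ ∈ Subgroup.zpowers v := by
  have hpp : p.Prime := hp.out
  intro v hv
  by_contra hcon
  have hv1 : v ≠ 1 := by
    rintro rfl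
    apply hcon
    simp
  have hw := hxR v hv
  obtain ⟨D, hD1, hD2, hD3, hD4⟩ := exists_hyperplane_p R hRab hRexp hv hw hcon
  set w := x * v * x⁻¹ with hwdef
  have hw1 : w ≠ 1 := by
    intro h
    rw [h] at hcon
    exact hcon (Subgroup.one_mem _)
  have hordw : orderOf w = p := orderOf_eq_prime (hRexp w hw) hw1
  have hcomm : ∀ a ∈ D, ∀ b ∈ Subgroup.zpowers w, a * b = b * a := by
    intro a ha b hb
    exact hRab a (hD1 ha) b ((Subgroup.zpowers_le.mpr hw) hb)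
  have hdisj : Disjoint D (Subgroup.zpowers w) := by
    rw [Subgroup.disjoint_def]
    rintro y hyD ⟨m, rfl⟩
    by_contra hy
    have hym : w ^ m ≠ 1 := hy
    have hordm : orderOf (w ^ m) = p := orderOf_eq_prime (hRexp _ (R.zpow_mem hw m)) hym
    have hz : Subgroup.zpowers (w ^ m) = Subgroup.zpowers w := by
      apply Subgroup.eq_of_le_of_card_ge
      · rw [Subgroup.zpowers_le]; exact Subgroup.zpow_mem_zpowers w m
      · rw [Nat.card_zpowers, Nat.card_zpowers, hordw, hordm]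
    have h1 : w ∈ Subgroup.zpowers (w ^ m) := hz ▸ Subgroup.mem_zpowers w
    exact hD3 ((Subgroup.zpowers_le.mpr hyD) h1)
  have hcard := card_sup_of_commute D _ hcomm hdisj
  rw [Nat.card_zpowers, hordw] at hcard
  have hle : Nat.card R ≤ Nat.card (D ⊔ Subgroup.zpowers w : Subgroup G) :=
    Subgroup.card_le_of_le hD4
  have hDp : IsPGroup p D :=
    (IsPGroup.of_card hRc).to_le hD1
  obtain ⟨c, hc⟩ := IsPGroup.iff_card.mp hDp
  rw [hRc, hcard, hc, ← pow_succ] at hle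
  have hbc : b ≤ c + 1 := (Nat.pow_le_pow_iff_right hpp.one_lt).mp hle
  have hac : a ≤ c := by omega
  have hdvd : p ^ a ∣ Nat.card D := by
    rw [hc]; exact pow_dvd_pow p hac
  have hordv : orderOf v = p := orderOf_eq_prime (hRexp v hv) hv1
  obtain ⟨K, hK1, hK2⟩ := Sylow.exists_subgroup_card_pow_prime_le p hdvd
    (Subgroup.zpowers (⟨v, hD2⟩ : D)) (n := 1)
    (by
      rw [Nat.card_zpowers, ← Subgroup.orderOf_coe, pow_one]
      exact hordv) ha
  have hVD : K.map D.subtype ≤ D := Subgroup.map_subtype_le K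
  have hvV : v ∈ K.map D.subtype :=
    ⟨⟨v, hD2⟩, hK2 (Subgroup.mem_zpowers _), rfl⟩
  have hVc : Nat.card (K.map D.subtype) = p ^ a := by
    rw [Subgroup.card_map_of_injective D.subtype_injective, hK1]
  exact hD3 (hVD (hinv _ (hVD.trans hD1) hVc v hvV))

/-- The setting: `T` abelian normal of odd order, `T'` normal containing `T` with `|T'| = 8 |T|`,
and containing all Sylow `2`-subgroups. -/
structure SS (T T' : Subgroup G) : Prop where
  hTn : T.Normal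
  hT'n : T'.Normal
  hTab : ∀ a ∈ T, ∀ b ∈ T, a * b = b * a
  hT2 : (Nat.card T).Coprime 2
  hTT' : T ≤ T'
  hcard : Nat.card T' = Nat.card T * 8
  hQT' : ∀ Q₀ : Sylow 2 G, (Q₀ : Subgroup G) ≤ T'

/-- The dichotomy: a subgroup of a primary part of `T` normalized by the quaternion group is normal
or centralized by it. -/
theorem dichotomy (hB : HB G) {T T' : Subgroup G} (hS : SS T T') (R : Subgroup G) [hRn : R.Normal]
    (hRT : R ≤ T) (hRp : IsPGroup p R) (V : Subgroup G) (hVR : V ≤ R) (Q₀ : Sylow 2 G) {i j : G}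
    (hd : Q8D (Q₀ : Subgroup G) i j)
    (hQV : ∀ x ∈ (Q₀ : Subgroup G), ∀ v ∈ V, x * v * x⁻¹ ∈ V) :
    V.Normal ∨ ∀ x ∈ (Q₀ : Subgroup G), ∀ v ∈ V, x * v = v * x := by
  classical
  by_cases hVn : V.Normal
  · exact Or.inl hVn
  right
  have hpp : p.Prime := hp.out
  have := hS.hTn
  have := hS.hT'n
  have hVb : V ≠ ⊥ := by
    rintro rfl
    exact hVn inferInstance
  have hVRne : V ≠ R := by
    rintro rfl
    exact hVn hRn
  have hRab : ∀ a ∈ R, ∀ b ∈ R, a * b = b * a := fun a ha b hb => hS.hTab a (hRT ha) b (hRT hb)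
  obtain ⟨b, hRc⟩ := IsPGroup.iff_card.mp hRp
  obtain ⟨a, hVc⟩ := IsPGroup.iff_card.mp (hRp.to_le hVR)
  have ha1 : 1 ≤ a := by
    by_contra h
    have ha0 : a = 0 := by omega
    subst ha0
    exact hVb (Subgroup.card_eq_one.mp (by simpa using hVc))
  have hab : a < b := by
    by_contra h
    apply hVRne
    apply Subgroup.eq_of_le_of_card_ge hVR
    rw [hRc, hVc]
    exact Nat.pow_le_pow_right hpp.pos (by omega)
  have hp2 : p ≠ 2 := by
    rintro rfl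
    have h1 : 2 ∣ Nat.card T := by
      refine dvd_trans ?_ (Subgroup.card_dvd_of_le hRT)
      rw [hRc]
      exact dvd_pow_self 2 (by omega)
    have := Nat.Coprime.eq_one_of_dvd hS.hT2.symm h1
    omega
  have hRnc : ¬ IsCyclic R := by
    intro hc
    apply hVn
    refine ⟨fun v hv g => ?_⟩
    have hle : V.map (MulAut.conj g).toMonoidHom ≤ R := by
      rintro _ ⟨u, hu, rfl⟩
      exact hRn.conj_mem u (hVR hu) g
    have h1 := Cfsg.Agent.Lib.FpfGeneral.eq_of_card_eq_of_isCyclic (V.subgroupOf R)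
      ((V.map (MulAut.conj g).toMonoidHom).subgroupOf R) (by
        rw [card_subgroupOf_of_le hVR, card_subgroupOf_of_le hle, card_map_conj])
    have h2 : (⟨g * v * g⁻¹, hRn.conj_mem v (hVR hv) g⟩ : R) ∈
        (V.map (MulAut.conj g).toMonoidHom).subgroupOf R := conj_mem_map g hv
    rw [← h1] at h2
    exact h2
  have hRexp : ∀ r ∈ R, r ^ p = 1 := by
    obtain ⟨S, hS'⟩ := hRp.exists_le_sylow
    rcases (Cfsg.Agent.S3908.result hB).2 p hp2 S with hc | he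
    · exact absurd (Subgroup.isCyclic_of_le hS') hRnc
    · exact fun r hr => he r (hS' hr)
  -- all subgroups of `R` of the order of `V` are invariant under `Q₀`
  have hD4 : ∀ V' : Subgroup G, V' ≤ R → Nat.card V' = p ^ a →
      ∀ x ∈ (Q₀ : Subgroup G), ∀ v ∈ V', x * v * x⁻¹ ∈ V' := by
    intro V' hV'R hV'c x hx v hv
    obtain ⟨h, hh⟩ := hB V V' (isMulCommutative_of_forall V fun a ha b hb => hRab a (hVR ha) b (hVR hb))
      (isMulCommutative_of_forall V' fun a ha b hb => hRab a (hV'R ha) b (hV'R hb))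
      (by rw [hVc, hV'c])
    let Qh : Subgroup G := (Q₀ : Subgroup G).map (MulAut.conj h).toMonoidHom
    have hQhN : Qh ≤ Subgroup.normalizer (V' : Set G) := by
      apply le_normalizer_of_forall
      rintro _ ⟨q, hq, rfl⟩ u hu
      rw [hh, mem_map_conj] at hu ⊢
      have h1 := hQV q hq _ hu
      convert h1 using 1
      show h⁻¹ * (h * q * h⁻¹ * u * (h * q * h⁻¹)⁻¹) * h = _
      group
    have hTN : T ≤ Subgroup.normalizer (V' : Set G) := by
      apply le_normalizer_of_forall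
      intro t ht u hu
      rw [hS.hTab t ht u (hRT (hV'R hu))]
      simpa using hu
    have hQh8 : Nat.card Qh = 8 := by
      rw [card_map_conj]; exact hd.card
    have hdisj : Disjoint Qh T := by
      apply Subgroup.disjoint_of_coprime_natCard
      rw [hQh8]
      have h8 : (8 : ℕ) = 2 ^ 3 := by norm_num
      rw [h8]
      exact (Nat.Coprime.pow_right 3 hS.hT2).symm
    have hsupc : Nat.card (Qh ⊔ T : Subgroup G) = Nat.card T' := by
      rw [card_sup_eq, relIndex_eq_card_of_disjoint hdisj, hQh8, hS.hcard, mul_comm]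
    have hQhT' : Qh ≤ T' := by
      rintro _ ⟨q, hq, rfl⟩
      exact hS.hT'n.conj_mem q (hS.hQT' Q₀ hq) h
    have heq : Qh ⊔ T = T' :=
      Subgroup.eq_of_le_of_card_ge (sup_le hQhT' hS.hTT') (le_of_eq hsupc.symm)
    have hxN : x ∈ Subgroup.normalizer (V' : Set G) := by
      have h1 : T' ≤ Subgroup.normalizer (V' : Set G) := by
        rw [← heq]; exact sup_le hQhN hTN
      exact h1 (hS.hQT' Q₀ hx)
    exact (Subgroup.mem_normalizer_iff.mp hxN v).mp hv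
  have hD5 : ∀ x ∈ (Q₀ : Subgroup G), ∀ v ∈ R, x * v * x⁻¹ ∈ Subgroup.zpowers v := by
    intro x hx
    exact scalar_of_inv R hRab hRexp hRc hab ha1 x (fun r hr => hRn.conj_mem r hr x)
      (fun V' hV' hc v hv => hD4 V' hV' hc x hx v hv)
  have hexpow : ∀ x ∈ (Q₀ : Subgroup G), ∀ r ∈ R, ∃ k : ℤ, x * r * x⁻¹ = r ^ k := by
    intro x hx r hr
    obtain ⟨k, hk⟩ := hD5 x hx r hr
    exact ⟨k, hk.symm⟩
  -- `i ^ 2` centralizes `R`
  have hji : j * i = i⁻¹ * j := by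
    have h1 := hd.rel
    rw [mul_inv_eq_iff_eq_mul] at h1
    exact h1
  have hz : ∀ r ∈ R, i ^ 2 * r * (i ^ 2)⁻¹ = r := by
    intro r hr
    have hvR : j⁻¹ * r * j ∈ R := by
      have := hRn.conj_mem r hr j⁻¹
      simpa using this
    set v := j⁻¹ * r * j with hv
    have hjv : j * v * j⁻¹ = r := by rw [hv]; group
    obtain ⟨α, hα⟩ := hexpow i hd.hi v hvR
    obtain ⟨β, hβ⟩ := hexpow j hd.hj v hvR
    have h1 : i * r * i⁻¹ = v ^ (α * β) := by
      rw [← hjv, hβ, ← conj_zpow, hα, ← zpow_mul]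
    have h2 : j * (i * v * i⁻¹) * j⁻¹ = v ^ (α * β) := by
      rw [hα, ← conj_zpow, hβ, ← zpow_mul, mul_comm]
    have h3 : j * (i * v * i⁻¹) * j⁻¹ = i⁻¹ * r * i := by
      rw [← hjv]
      calc j * (i * v * i⁻¹) * j⁻¹ = (j * i) * v * (j * i)⁻¹ := by group
        _ = (i⁻¹ * j) * v * (i⁻¹ * j)⁻¹ := by rw [hji]
        _ = _ := by group
    have h4 : i * r * i⁻¹ = i⁻¹ * r * i := by rw [h1, ← h2, h3]
    calc i ^ 2 * r * (i ^ 2)⁻¹ = i * (i * r * i⁻¹) * i⁻¹ := by rw [pow_two]; group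
      _ = i * (i⁻¹ * r * i) * i⁻¹ := by rw [h4]
      _ = r := by group
  have hpm : ∀ x ∈ (Q₀ : Subgroup G), x ^ 2 = i ^ 2 → ∀ r ∈ R,
      x * r * x⁻¹ = r ∨ x * r * x⁻¹ = r⁻¹ := by
    intro x hx hx2 r hr
    by_cases hr1 : r = 1
    · subst hr1
      left; simp
    have hord : orderOf r = p := orderOf_eq_prime (hRexp r hr) hr1
    obtain ⟨α, hα⟩ := hexpow x hx r hr
    have h1 : r ^ (α * α) = r := by
      have h2 : x ^ 2 * r * (x ^ 2)⁻¹ = r ^ (α * α) := by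
        calc x ^ 2 * r * (x ^ 2)⁻¹ = x * (x * r * x⁻¹) * x⁻¹ := by rw [pow_two]; group
          _ = (x * r * x⁻¹) ^ α := by rw [hα, ← conj_zpow, hα]
          _ = _ := by rw [hα, zpow_mul]
      rw [← h2, hx2]
      exact hz r hr
    have h3 : r ^ (α * α - 1) = 1 := by
      rw [zpow_sub, h1]; simp
    have h4 : ((p : ℕ) : ℤ) ∣ (α - 1) * (α + 1) := by
      rw [← hord, orderOf_dvd_iff_zpow_eq_one]
      convert h3 using 2
      ring
    rcases (Nat.prime_iff_prime_int.mp hpp).dvd_or_dvd h4 with h5 | h5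
    · left
      rw [← hord, orderOf_dvd_iff_zpow_eq_one, zpow_sub] at h5
      rw [hα]
      simpa [mul_inv_eq_one] using h5
    · right
      rw [← hord, orderOf_dvd_iff_zpow_eq_one, zpow_add] at h5
      rw [hα]
      simpa [mul_eq_one_iff_eq_inv] using h5
  have hglob : ∀ x ∈ (Q₀ : Subgroup G), x ^ 2 = i ^ 2 →
      (∀ r ∈ R, x * r * x⁻¹ = r) ∨ (∀ r ∈ R, x * r * x⁻¹ = r⁻¹) := by
    intro x hx hx2
    by_contra hcon
    push Not at hcon
    obtain ⟨⟨u, hu, hu1⟩, ⟨w, hw, hw1⟩⟩ := hcon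
    have hu2 : x * u * x⁻¹ = u⁻¹ := (hpm x hx hx2 u hu).resolve_left hu1
    have hw2 : x * w * x⁻¹ = w := (hpm x hx hx2 w hw).resolve_right hw1
    have huw : x * (u * w) * x⁻¹ = u⁻¹ * w := by
      calc x * (u * w) * x⁻¹ = (x * u * x⁻¹) * (x * w * x⁻¹) := by group
        _ = _ := by rw [hu2, hw2]
    rcases hpm x hx hx2 (u * w) (R.mul_mem hu hw) with h | h
    · rw [huw] at h
      apply hu1
      rw [hu2]
      exact (mul_right_cancel h)
    · rw [huw, mul_inv_rev, hRab _ (R.inv_mem hw) _ (R.inv_mem hu)] at h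
      apply hw1
      rw [hw2]
      exact (mul_left_cancel h)
  have hcase : ∃ e ∈ (Q₀ : Subgroup G), orderOf e = 4 ∧ ∀ r ∈ R, e * r * e⁻¹ = r := by
    rcases hglob i hd.hi rfl with h1 | h1
    · exact ⟨i, hd.hi, hd.ord_i, h1⟩
    rcases hglob j hd.hj hd.sq_eq.symm with h2 | h2
    · exact ⟨j, hd.hj, hd.ord_j, h2⟩
    refine ⟨i * j, Subgroup.mul_mem _ hd.hi hd.hj, hd.ord_ij, fun r hr => ?_⟩
    calc i * j * r * (i * j)⁻¹ = i * (j * r * j⁻¹) * i⁻¹ := by group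
      _ = i * r⁻¹ * i⁻¹ := by rw [h2 r hr]
      _ = (i * r * i⁻¹)⁻¹ := by group
      _ = r := by rw [h1 r hr, inv_inv]
  obtain ⟨e, heQ, he4, her⟩ := hcase
  let C : Subgroup G := Subgroup.centralizer (R : Set G)
  have hCn : C.Normal := Subgroup.normal_centralizer
  have heC : e ∈ C := by
    rw [Subgroup.mem_centralizer_iff]
    intro r hr
    have := her r hr
    rw [mul_inv_eq_iff_eq_mul] at this
    exact this.symm
  have hiC : i ∈ C := mem_of_orderOf_eq hB C heC (by rw [hd.ord_i, he4])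
  have hjC : j ∈ C := mem_of_orderOf_eq hB C heC (by rw [hd.ord_j, he4])
  have hQC := hd.gen C hiC hjC
  intro x hx v hv
  exact (Subgroup.mem_centralizer_iff.mp (hQC hx) v (hVR hv)).symm

theorem pow_card_mem_eq_one {X : Type*} [Group X] (S : Subgroup X) [Finite S] {x : X} (hx : x ∈ S) :
    x ^ Nat.card S = 1 := by
  have h := pow_card_eq_one' (x := (⟨x, hx⟩ : S))
  exact congrArg Subtype.val h

/-- The key step: two subgroups of order `4` of `Q₀`, when `Q₀` normalizes `U`. -/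
theorem h2_step (hB : HB G) {T T' : Subgroup G} (hS : SS T T') (U : Subgroup G) (hUT : U ≤ T)
    (Q₀ : Sylow 2 G) {i j : G} (hd : Q8D (Q₀ : Subgroup G) i j)
    (hQU : ∀ x ∈ (Q₀ : Subgroup G), ∀ u ∈ U, x * u * x⁻¹ ∈ U) (L₁ L₂ : Subgroup G)
    (hL₁ : L₁ ≤ Q₀) (hL₂ : L₂ ≤ Q₀) (hc₁ : Nat.card L₁ = 4) (hc₂ : Nat.card L₂ = 4) :
    ∃ g : G, (∀ u ∈ U, g * u * g⁻¹ ∈ U) ∧ L₂ = L₁.map (MulAut.conj g).toMonoidHom := by
  classical
  have hTn := hS.hTn
  have h22 : ∀ L : Subgroup G, Nat.card L = 4 → ∀ a ∈ L, ∀ b ∈ L, a * b = b * a := by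
    intro L hL a ha b hb
    have : Fact (Nat.Prime 2) := ⟨Nat.prime_two⟩
    have h1 : IsMulCommutative L := IsPGroup.isMulCommutative_of_card_eq_prime_sq (p := 2) (by
      rw [hL]; norm_num)
    exact congrArg Subtype.val (h1.is_comm.comm ⟨a, ha⟩ ⟨b, hb⟩)
  set U₀ : Subgroup G := U ⊓ Subgroup.centralizer ((Q₀ : Subgroup G) : Set G) with hU₀
  have hU₀U : U₀ ≤ U := inf_le_left
  have hU₀T : U₀ ≤ T := hU₀U.trans hUT
  have hU₀ab : ∀ a ∈ U₀, ∀ b ∈ U₀, a * b = b * a := fun a ha b hb =>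
    hS.hTab a (hU₀T ha) b (hU₀T hb)
  have hn2 : (Nat.card U₀).Coprime 2 :=
    Nat.Coprime.coprime_dvd_left (Subgroup.card_dvd_of_le hU₀T) hS.hT2
  have hn4 : (Nat.card U₀).Coprime 4 := by
    have : (4 : ℕ) = 2 ^ 2 := by norm_num
    rw [this]
    exact Nat.Coprime.pow_right 2 hn2
  have hcomm : ∀ L : Subgroup G, L ≤ Q₀ → ∀ u ∈ U₀, ∀ l ∈ L, u * l = l * u := by
    intro L hL u hu l hl
    exact (Subgroup.mem_centralizer_iff.mp (Subgroup.mem_inf.mp hu).2 l (hL hl)).symm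
  have hdis : ∀ L : Subgroup G, Nat.card L = 4 → Disjoint U₀ L := by
    intro L hL
    apply Subgroup.disjoint_of_coprime_natCard
    rw [hL]; exact hn4
  have hA₁ab := comm_sup U₀ L₁ hU₀ab (h22 L₁ hc₁) (hcomm L₁ hL₁)
  have hA₂ab := comm_sup U₀ L₂ hU₀ab (h22 L₂ hc₂) (hcomm L₂ hL₂)
  have hcA₁ := card_sup_of_commute U₀ L₁ (hcomm L₁ hL₁) (hdis L₁ hc₁)
  have hcA₂ := card_sup_of_commute U₀ L₂ (hcomm L₂ hL₂) (hdis L₂ hc₂)
  obtain ⟨g, hg⟩ := hB (U₀ ⊔ L₁) (U₀ ⊔ L₂) (isMulCommutative_of_forall _ hA₁ab)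
    (isMulCommutative_of_forall _ hA₂ab) (by rw [hcA₁, hcA₂, hc₁, hc₂])
  have hmem : ∀ x ∈ U₀ ⊔ L₁, g * x * g⁻¹ ∈ U₀ ⊔ L₂ := by
    intro x hx
    rw [hg]
    exact conj_mem_map g hx
  have hU₀1 : ∀ a ∈ U₀, a ^ Nat.card U₀ = 1 := fun a ha => pow_card_mem_eq_one U₀ ha
  have hLb : ∀ b ∈ L₂, b ^ 4 = 1 := fun b hb => by
    have := pow_card_mem_eq_one L₂ hb
    rwa [hc₂] at this
  have hL₁b : ∀ b ∈ L₁, b ^ 4 = 1 := fun b hb => by
    have := pow_card_mem_eq_one L₁ hb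
    rwa [hc₁] at this
  have h_U : ∀ u ∈ U₀, g * u * g⁻¹ ∈ U₀ := by
    intro u hu
    obtain ⟨a, ha, b, hb, hab⟩ := mem_sup_of_commute U₀ L₂ (hcomm L₂ hL₂)
      (hmem u (Subgroup.mem_sup_left hu))
    have hc : Commute a b := hcomm L₂ hL₂ a ha b hb
    have h1 : (g * u * g⁻¹) ^ Nat.card U₀ = 1 := by
      rw [conj_pow, hU₀1 u hu]; simp
    rw [← hab, hc.mul_pow, hU₀1 a ha, one_mul] at h1
    have h2 : orderOf b = 1 := Nat.eq_one_of_dvd_coprimes hn4
      (orderOf_dvd_of_pow_eq_one h1) (orderOf_dvd_of_pow_eq_one (hLb b hb))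
    rw [orderOf_eq_one_iff] at h2
    rw [← hab, h2, mul_one]
    exact ha
  have h_L : ∀ l ∈ L₁, g * l * g⁻¹ ∈ L₂ := by
    intro l hl
    obtain ⟨a, ha, b, hb, hab⟩ := mem_sup_of_commute U₀ L₂ (hcomm L₂ hL₂)
      (hmem l (Subgroup.mem_sup_right hl))
    have hc : Commute a b := hcomm L₂ hL₂ a ha b hb
    have h1 : (g * l * g⁻¹) ^ 4 = 1 := by
      rw [conj_pow, hL₁b l hl]; simp
    rw [← hab, hc.mul_pow, hLb b hb, mul_one] at h1
    have h2 : orderOf a = 1 := Nat.eq_one_of_dvd_coprimes hn4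
      (orderOf_dvd_of_pow_eq_one (hU₀1 a ha)) (orderOf_dvd_of_pow_eq_one h1)
    rw [orderOf_eq_one_iff] at h2
    rw [← hab, h2, one_mul]
    exact hb
  have hL₂eq : L₂ = L₁.map (MulAut.conj g).toMonoidHom := by
    symm
    apply Subgroup.eq_of_le_of_card_ge
    · rintro _ ⟨l, hl, rfl⟩
      exact h_L l hl
    · rw [card_map_conj, hc₁, hc₂]
  refine ⟨g, ?_, hL₂eq⟩
  -- `g` normalizes `U`
  let H : Subgroup U := (U.comap (MulAut.conj g).toMonoidHom).subgroupOf U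
  have htop : H = ⊤ := by
    apply eq_top_of_forall_sylow_le H
    intro q _
    refine ⟨default, ?_⟩
    intro y hy
    have hyp : (y : G) ∈ pPart T hS.hTab q := by
      refine ⟨hUT y.2, ?_⟩
      obtain ⟨k, hk⟩ := (default : Sylow q U).2 ⟨y, hy⟩
      refine ⟨k, ?_⟩
      have h1 := congrArg (fun z => ((z : (default : Sylow q U)) : U)) hk
      have h2 := congrArg (fun z => ((z : U) : G)) h1
      simpa using h2
    have hRn := pPart_normal T hS.hTab q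
    have hRT : pPart T hS.hTab q ≤ T := fun x hx => hx.1
    have hQV : ∀ x ∈ (Q₀ : Subgroup G), ∀ v ∈ U ⊓ pPart T hS.hTab q,
        x * v * x⁻¹ ∈ U ⊓ pPart T hS.hTab q := by
      intro x hx v hv
      exact ⟨hQU x hx v hv.1, hRn.conj_mem v hv.2 x⟩
    rcases dichotomy hB hS (pPart T hS.hTab q) hRT (pPart_isPGroup T hS.hTab q)
      (U ⊓ pPart T hS.hTab q) inf_le_right Q₀ hd hQV with hn | hc
    · have h1 := hn.conj_mem (y : G) ⟨y.2, hyp⟩ g
      exact h1.1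
    · have h1 : (y : G) ∈ U₀ := by
        refine Subgroup.mem_inf.mpr ⟨y.2, ?_⟩
        rw [Subgroup.mem_centralizer_iff]
        intro x hx
        exact hc x hx y ⟨y.2, hyp⟩
      exact hU₀U (h_U _ h1)
  intro u hu
  have h1 : (⟨u, hu⟩ : U) ∈ H := by rw [htop]; exact Subgroup.mem_top _
  exact h1

/-- Subgroups of equal order of a quaternion group of order `8`. -/
theorem q8_sub (Q₀ : Subgroup G) {i j : G} (hd : Q8D Q₀ i j) (L₁ L₂ : Subgroup G) (hL₁ : L₁ ≤ Q₀)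
    (hL₂ : L₂ ≤ Q₀) (hc : Nat.card L₁ = Nat.card L₂) :
    L₁ = L₂ ∨ (Nat.card L₁ = 4 ∧ Nat.card L₂ = 4 ∧ ∀ S : Subgroup G, L₁ ≤ S → L₂ ≤ S → Q₀ ≤ S) := by
  classical
  have : Fact (Nat.Prime 2) := ⟨Nat.prime_two⟩
  have hdvd : Nat.card L₁ ∣ 2 ^ 3 := by
    have h1 := Subgroup.card_dvd_of_le hL₁
    rw [hd.card] at h1
    simpa using h1
  obtain ⟨k, hk, hk2⟩ := (Nat.dvd_prime_pow Nat.prime_two).mp hdvd
  have hz : orderOf (i ^ 2) = 2 := orderOf_eq_prime hd.sq_sq hd.sq_ne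
  have hz2 : Nat.card (Subgroup.zpowers (i ^ 2)) = 2 := by rw [Nat.card_zpowers, hz]
  have h2 : ∀ L : Subgroup G, L ≤ Q₀ → Nat.card L = 2 → L = Subgroup.zpowers (i ^ 2) := by
    intro L hL hLc
    obtain ⟨x, hx⟩ := exists_prime_orderOf_dvd_card' (G := L) 2 (by rw [hLc])
    have hx' : orderOf (x : G) = 2 := (Subgroup.orderOf_coe x).trans hx
    have hx1 : (x : G) ^ 2 = 1 := by
      have := pow_orderOf_eq_one (x : G)
      rwa [hx'] at this
    have hxne : (x : G) ≠ 1 := by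
      intro h
      rw [h, orderOf_one] at hx'
      omega
    have hxz := (hd.invol _ (hL x.2) hx1).resolve_left hxne
    symm
    apply Subgroup.eq_of_le_of_card_ge
    · rw [Subgroup.zpowers_le, ← hxz]
      exact x.2
    · rw [hz2, hLc]
  have hk' : k = 0 ∨ k = 1 ∨ k = 2 ∨ k = 3 := by omega
  rcases hk' with rfl | rfl | rfl | rfl
  · left
    have h1 : L₁ = ⊥ := Subgroup.card_eq_one.mp (by simpa using hk2)
    have h3 : L₂ = ⊥ := Subgroup.card_eq_one.mp (by rw [← hc]; simpa using hk2)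
    rw [h1, h3]
  · left
    rw [h2 L₁ hL₁ (by simpa using hk2), h2 L₂ hL₂ (by rw [← hc]; simpa using hk2)]
  · by_cases heq : L₁ = L₂
    · exact Or.inl heq
    right
    have h4 : Nat.card L₁ = 4 := by simpa using hk2
    refine ⟨h4, hc ▸ h4, fun S hS₁ hS₂ => ?_⟩
    have hle : S ⊓ Q₀ ≤ Q₀ := inf_le_right
    have hc1 : Nat.card (S ⊓ Q₀ : Subgroup G) ∣ 2 ^ 3 := by
      have h1 := Subgroup.card_dvd_of_le hle
      rw [hd.card] at h1
      simpa using h1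
    obtain ⟨l, hl, hl2⟩ := (Nat.dvd_prime_pow Nat.prime_two).mp hc1
    have hL₁le : L₁ ≤ S ⊓ Q₀ := le_inf hS₁ hL₁
    have hL₂le : L₂ ≤ S ⊓ Q₀ := le_inf hS₂ hL₂
    have hcle : 4 ≤ Nat.card (S ⊓ Q₀ : Subgroup G) := by
      rw [← h4]; exact Subgroup.card_le_of_le hL₁le
    have hl' : l = 3 ∨ l = 2 := by
      have hl0 : l ≠ 0 := by
        rintro rfl
        rw [hl2] at hcle
        norm_num at hcle
      have hl1 : l ≠ 1 := by
        rintro rfl
        rw [hl2] at hcle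
        norm_num at hcle
      omega
    rcases hl' with rfl | rfl
    · have h8 : Nat.card (S ⊓ Q₀ : Subgroup G) = Nat.card Q₀ := by
        rw [hl2, hd.card]; norm_num
      have h9 := Subgroup.eq_of_le_of_card_ge hle (le_of_eq h8.symm)
      rw [← h9]
      exact inf_le_left
    · exfalso
      have h5 : Nat.card (S ⊓ Q₀ : Subgroup G) = 4 := by rw [hl2]; norm_num
      have h6 : L₁ = S ⊓ Q₀ := Subgroup.eq_of_le_of_card_ge hL₁le (by rw [h5, h4])
      have h7 : L₂ = S ⊓ Q₀ := Subgroup.eq_of_le_of_card_ge hL₂le (by rw [h5, ← hc, h4])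
      exact heq (h6.trans h7.symm)
  · left
    have h8 : Nat.card L₁ = 8 := by simpa using hk2
    have h1 : L₁ = Q₀ := Subgroup.eq_of_le_of_card_ge hL₁ (by rw [h8, hd.card])
    have h3 : L₂ = Q₀ := Subgroup.eq_of_le_of_card_ge hL₂ (by rw [← hc, h8, hd.card])
    rw [h1, h3]

/-- Subgroups of `T'` of equal order are conjugate. -/
theorem star (hB : HB G) {T T' : Subgroup G} (hS : SS T T') (hc : (Nat.card T).Coprime T.index)
    (hq : ∀ Q₀ : Sylow 2 G, ∃ i j : G, Q8D (Q₀ : Subgroup G) i j) (H K : Subgroup G)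
    (hH : H ≤ T') (hK : K ≤ T') (hHK : Nat.card H = Nat.card K) :
    ∃ g : G, K = H.map (MulAut.conj g).toMonoidHom := by
  classical
  have hTn := hS.hTn
  have hT'n := hS.hT'n
  have hf2 : Fact (Nat.Prime 2) := ⟨Nat.prime_two⟩
  obtain ⟨L₁, hL₁H, hsup₁, hd₁, hcop₁, hm₁, hdv₁⟩ := exists_split T H hc
  obtain ⟨L₂, hL₂K, hsup₂, hd₂, hcop₂, hm₂, hdv₂⟩ := exists_split T K hc
  have hU : Nat.card (H ⊓ T : Subgroup G) = Nat.card (K ⊓ T : Subgroup G) := by
    apply eq_of_mul_eq_mul_coprime (hm₁.trans (hHK.trans hm₂.symm))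
    · exact Nat.Coprime.coprime_dvd_left (Subgroup.card_dvd_of_le inf_le_right) hcop₂
    · exact Nat.Coprime.coprime_dvd_left (Subgroup.card_dvd_of_le inf_le_right) hcop₁
  have hL : Nat.card L₁ = Nat.card L₂ := by
    have h1 : Nat.card (H ⊓ T : Subgroup G) * Nat.card L₁ =
        Nat.card (H ⊓ T : Subgroup G) * Nat.card L₂ := by
      rw [hm₁, hU, hm₂, hHK]
    exact Nat.eq_of_mul_eq_mul_left Nat.card_pos h1
  obtain ⟨g, hg⟩ := hB (H ⊓ T) (K ⊓ T)
    (isMulCommutative_of_forall _ fun a ha b hb => hS.hTab a ha.2 b hb.2)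
    (isMulCommutative_of_forall _ fun a ha b hb => hS.hTab a ha.2 b hb.2) hU
  set U : Subgroup G := K ⊓ T with hUdef
  let M : Subgroup G := Subgroup.normalizer (U : Set G)
  let L₁' : Subgroup G := L₁.map (MulAut.conj g).toMonoidHom
  have hL₁'M : L₁' ≤ M := by
    apply le_normalizer_of_forall
    rintro _ ⟨l, hl, rfl⟩ u hu
    rw [hg, mem_map_conj] at hu ⊢
    have hlH := hL₁H hl
    have hid : g⁻¹ * (g * l * g⁻¹ * u * (g * l * g⁻¹)⁻¹) * g = l * (g⁻¹ * u * g) * l⁻¹ := by group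
    change g⁻¹ * (g * l * g⁻¹ * u * (g * l * g⁻¹)⁻¹) * g ∈ H ⊓ T
    rw [hid]
    exact ⟨H.mul_mem (H.mul_mem hlH hu.1) (H.inv_mem hlH), hTn.conj_mem _ hu.2 l⟩
  have hL₂M : L₂ ≤ M := by
    apply le_normalizer_of_forall
    intro l hl u hu
    have hlK := hL₂K hl
    exact ⟨K.mul_mem (K.mul_mem hlK hu.1) (K.inv_mem hlK), hTn.conj_mem _ hu.2 _⟩
  -- `L₁` and `L₂` are `2`-groups
  have h8 : ∀ L : Subgroup G, L ≤ T' → Disjoint L T → IsPGroup 2 L := by
    intro L hLT' hd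
    have h1 : L ⊔ T ≤ T' := sup_le hLT' hS.hTT'
    have h2 := Subgroup.card_dvd_of_le h1
    rw [card_sup_eq, relIndex_eq_card_of_disjoint hd, hS.hcard, mul_comm] at h2
    have h3 : Nat.card L ∣ 2 ^ 3 := by
      have h4 := Nat.dvd_of_mul_dvd_mul_left Nat.card_pos h2
      simpa using h4
    obtain ⟨k, -, hk⟩ := (Nat.dvd_prime_pow Nat.prime_two).mp h3
    exact IsPGroup.of_card hk
  have hL₁p : IsPGroup 2 L₁ := h8 L₁ (hL₁H.trans hH) hd₁
  have hL₂p : IsPGroup 2 L₂ := h8 L₂ (hL₂K.trans hK) hd₂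
  have hL₁'p : IsPGroup 2 L₁' := hL₁p.map _
  -- Sylow subgroups of `M`
  have hX₁ : IsPGroup 2 (L₁'.subgroupOf M) :=
    hL₁'p.of_equiv (Subgroup.subgroupOfEquivOfLe hL₁'M).symm
  have hX₂ : IsPGroup 2 (L₂.subgroupOf M) :=
    hL₂p.of_equiv (Subgroup.subgroupOfEquivOfLe hL₂M).symm
  obtain ⟨S₁, hS₁⟩ := hX₁.exists_le_sylow
  obtain ⟨S₂, hS₂⟩ := hX₂.exists_le_sylow
  obtain ⟨m, hm⟩ := MulAction.exists_smul_eq M S₁ S₂
  have hS₂p : IsPGroup 2 ((S₂ : Subgroup M).map M.subtype) := S₂.2.map _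
  obtain ⟨Q₀, hQ₀⟩ := hS₂p.exists_le_sylow
  obtain ⟨i, j, hd⟩ := hq Q₀
  let L₁'' : Subgroup G := L₁'.map (MulAut.conj (m : G)).toMonoidHom
  have hL₁''Q : L₁'' ≤ (Q₀ : Subgroup G) := by
    rintro _ ⟨l, hl, rfl⟩
    apply hQ₀
    have hlM := hL₁'M hl
    have h1 : (⟨l, hlM⟩ : M) ∈ (S₁ : Subgroup M) := hS₁ hl
    have h2 : m * ⟨l, hlM⟩ * m⁻¹ ∈ (S₂ : Subgroup M) := by
      rw [← hm]
      show _ ∈ MulAut.conj m • (S₁ : Subgroup M)
      rw [mem_conj_smul_iff]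
      simpa [mul_assoc] using h1
    exact ⟨_, h2, rfl⟩
  have hL₂Q : L₂ ≤ (Q₀ : Subgroup G) := by
    intro l hl
    apply hQ₀
    exact ⟨⟨l, hL₂M hl⟩, hS₂ hl, rfl⟩
  have hL₁''M : L₁'' ≤ M := by
    rintro _ ⟨l, hl, rfl⟩
    exact M.mul_mem (M.mul_mem m.2 (hL₁'M hl)) (M.inv_mem m.2)
  have hcard'' : Nat.card L₁'' = Nat.card L₂ := by
    rw [card_map_conj, card_map_conj, hL]
  have hex : ∃ g₂ : G, (∀ u ∈ U, g₂ * u * g₂⁻¹ ∈ U) ∧
      L₂ = L₁''.map (MulAut.conj g₂).toMonoidHom := by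
    rcases q8_sub (Q₀ : Subgroup G) hd L₁'' L₂ hL₁''Q hL₂Q hcard'' with h | ⟨h₁, h₂, h₃⟩
    · refine ⟨1, by simp, ?_⟩
      rw [h]
      ext x
      rw [mem_map_conj]
      simp
    · have hQM := h₃ M hL₁''M hL₂M
      have hQU : ∀ x ∈ (Q₀ : Subgroup G), ∀ u ∈ U, x * u * x⁻¹ ∈ U := fun x hx u hu =>
        (Subgroup.mem_normalizer_iff.mp (hQM hx) u).mp hu
      exact h2_step hB hS U inf_le_right Q₀ hd hQU L₁'' L₂ hL₁''Q hL₂Q h₁ h₂
  obtain ⟨g₂, hg₂, hg₂L⟩ := hex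
  refine ⟨g₂ * ((m : G) * g), ?_⟩
  have hUm : U.map (MulAut.conj (m : G)).toMonoidHom = U := by
    apply Subgroup.eq_of_le_of_card_ge
    · rintro _ ⟨u, hu, rfl⟩
      exact (Subgroup.mem_normalizer_iff.mp m.2 u).mp hu
    · rw [card_map_conj]
  have hUg₂ : U.map (MulAut.conj g₂).toMonoidHom = U := by
    apply Subgroup.eq_of_le_of_card_ge
    · rintro _ ⟨u, hu, rfl⟩
      exact hg₂ u hu
    · rw [card_map_conj]
  rw [← hsup₂, ← hsup₁, Subgroup.map_sup, ← map_conj_mul, ← map_conj_mul, ← map_conj_mul,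
    ← map_conj_mul, ← hg, hUm, hUg₂]
  congr 1

end Cfsg.Agent.Lib.AbConj
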