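/-
KleinS4: if two elements of a finite group induce on a normal four-group the two transvections
generating its automorphism group, then the symmetric group of degree four is involved.
-/
import Mathlib
import Cfsg.Prelude.Def_LocalEven
import Cfsg.Agent.Lib.AlperinControl
import Cfsg.Agent.Lib.ControlSec
import Cfsg.Agent.Lib.InvolvesAPI
import Cfsg.Agent.Lib.Replacement

set_option autoImplicit false

namespace Cfsg.Agent.Lib.KleinS4

open Cfsg Cfsg.Agent.Lib.AlperinControl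

variable {L : Type*} [Group L]

/-- The four-group generated by two commuting involutions. -/
lemma exists_klein (d e : L) (hd2 : d * d = 1) (he2 : e * e = 1) (hde : d * e = e * d) :
    ∃ W : Subgroup L, ∀ x, x ∈ W ↔ x = 1 ∨ x = d ∨ x = e ∨ x = d * e := by
  have h1 : d * (d * e) = e := by rw [← mul_assoc, hd2, one_mul]
  have h2 : d * e * d = e := by rw [hde, mul_assoc, hd2, mul_one]
  have h3 : e * (d * e) = d := by rw [hde, ← mul_assoc, he2, one_mul]
  have h4 : d * e * e = d := by rw [mul_assoc, he2, mul_one]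
  have h5 : d * e * (d * e) = 1 := by
    rw [← mul_assoc, h2, he2]
  have h6 : e * d = d * e := hde.symm
  have dinv : d⁻¹ = d := inv_eq_of_mul_eq_one_left hd2
  have einv : e⁻¹ = e := inv_eq_of_mul_eq_one_left he2
  have deinv : (d * e)⁻¹ = d * e := inv_eq_of_mul_eq_one_left h5
  refine ⟨{ carrier := {1, d, e, d * e}, mul_mem' := ?_, one_mem' := by simp, inv_mem' := ?_ }, fun x => by
    show x ∈ ({1, d, e, d * e} : Set L) ↔ _
    simp⟩
  · intro a b ha hb
    simp only [Set.mem_insert_iff, Set.mem_singleton_iff] at ha hb ⊢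
    rcases ha with rfl | rfl | rfl | rfl <;> rcases hb with rfl | rfl | rfl | rfl <;>
      simp [hd2, he2, h1, h2, h3, h4, h5, h6]
  · intro a ha
    simp only [Set.mem_insert_iff, Set.mem_singleton_iff] at ha ⊢
    rcases ha with rfl | rfl | rfl | rfl <;> simp [dinv, einv, deinv]

/-- The conjugation action on a subgroup as permutations. -/
noncomputable def psi (W : Subgroup L) : ↥(Subgroup.normalizer (W : Set L)) →* Equiv.Perm ↥W :=
  (MulAut.toPerm ↥W).comp W.normalizerMonoidHom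

lemma psi_apply (W : Subgroup L) (g : ↥(Subgroup.normalizer (W : Set L))) (y : ↥W) :
    ((psi W g y : ↥W) : L) = (g : L) * y * (g : L)⁻¹ := rfl

/-- Some power of `x`, with exponent prime to three, is a 3-element. -/
lemma exists_three_part [Finite L] (x : L) : ∃ m : ℕ, ¬ 3 ∣ m ∧ IsPGroup 3 (Subgroup.zpowers (x ^ m)) := by
  have hn : orderOf x ≠ 0 := (orderOf_pos x).ne'
  obtain ⟨k, m, hm, hk⟩ := Nat.exists_eq_pow_mul_and_not_dvd hn 3 (by norm_num)
  refine ⟨m, hm, ?_⟩
  rintro ⟨_, l, rfl⟩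
  refine ⟨k, Subtype.ext ?_⟩
  show ((x ^ m) ^ l) ^ (3 ^ k) = 1
  rw [← zpow_natCast, ← zpow_natCast, ← zpow_mul, ← zpow_mul]
  have : (m : ℤ) * (l * ((3 ^ k : ℕ) : ℤ)) = ((orderOf x : ℕ) : ℤ) * l := by
    rw [hk]
    push_cast
    ring
  rw [this, zpow_mul, zpow_natCast, pow_orderOf_eq_one, one_zpow]

/-- The main lemma on the four-group. -/
theorem involves_of_klein [Finite L] (a b d e : L) (hd2 : d * d = 1) (he2 : e * e = 1)
    (hd1 : d ≠ 1) (he1 : e ≠ 1) (hde : d * e = e * d) (hne : d ≠ e)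
    (had : a * d * a⁻¹ = d) (hae : a * e * a⁻¹ = e * d)
    (hbe : b * e * b⁻¹ = e) (hbd : b * d * b⁻¹ = e * d) :
    Involves (Equiv.Perm (Fin 4)) L := by
  classical
  obtain ⟨W, hW⟩ := exists_klein d e hd2 he2 hde
  have hed : e * d = d * e := hde.symm
  have h1W : (1 : L) ∈ W := W.one_mem
  have hdW : d ∈ W := (hW d).2 (Or.inr (Or.inl rfl))
  have heW : e ∈ W := (hW e).2 (Or.inr (Or.inr (Or.inl rfl)))
  have hdeW : d * e ∈ W := W.mul_mem hdW heW
  -- distinctness
  have n1 : d ≠ d * e := fun h => he1 (by simpa using h)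
  have n2 : e ≠ d * e := fun h => hd1 (by
    have : e = e * d := by rw [hed]; exact h
    simpa using this)
  have n3 : (1 : L) ≠ d * e := by
    intro h
    apply hne
    have := mul_left_cancel (a := d) (b := d) (c := e) (by rw [hd2, ← h])
    exact this
  -- conjugation by `a` and `b`
  have hae' : a * (d * e) * a⁻¹ = e := by
    have : a * (d * e) * a⁻¹ = (a * d * a⁻¹) * (a * e * a⁻¹) := by group
    rw [this, had, hae, hed, ← mul_assoc, hd2, one_mul]
  have hbd' : b * (d * e) * b⁻¹ = d := by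
    have : b * (d * e) * b⁻¹ = (b * d * b⁻¹) * (b * e * b⁻¹) := by group
    rw [this, hbd, hbe, hed, mul_assoc, he2, mul_one]
  have haN : a ∈ NN W := mem_NN_of_forall (fun x hx => by
    rcases (hW x).1 hx with rfl | rfl | rfl | rfl
    · simpa using h1W
    · rw [had]; exact hdW
    · rw [hae, hed]; exact hdeW
    · rw [hae']; exact heW)
  have hbN : b ∈ NN W := mem_NN_of_forall (fun x hx => by
    rcases (hW x).1 hx with rfl | rfl | rfl | rfl
    · simpa using h1W
    · rw [hbd, hed]; exact hdeW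
    · rw [hbe]; exact heW
    · rw [hbd']; exact hdW)
  haveI : Fintype ↥W := Fintype.ofFinite _
  let sgn : ↥(NN W) →* ℤˣ := Equiv.Perm.sign.comp (psi W)
  have hsa : sgn ⟨a, haN⟩ = -1 := by
    have hψ : psi W ⟨a, haN⟩ = Equiv.swap ⟨e, heW⟩ ⟨d * e, hdeW⟩ := by
      refine Equiv.ext (fun y => ?_)
      obtain ⟨y, hy⟩ := y
      rcases (hW y).1 hy with rfl | rfl | rfl | rfl
      · rw [Equiv.swap_apply_of_ne_of_ne (fun h => he1 (congrArg Subtype.val h).symm)
          (fun h => n3 (congrArg Subtype.val h))]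
        exact Subtype.ext (by simp [psi_apply])
      · rw [Equiv.swap_apply_of_ne_of_ne (fun h => hne (congrArg Subtype.val h))
          (fun h => n1 (congrArg Subtype.val h))]
        exact Subtype.ext (by simpa [psi_apply] using had)
      · rw [Equiv.swap_apply_left]
        exact Subtype.ext (by rw [psi_apply]; exact hae.trans hed)
      · rw [Equiv.swap_apply_right]
        exact Subtype.ext (by rw [psi_apply]; exact hae')
    show Equiv.Perm.sign (psi W ⟨a, haN⟩) = -1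
    rw [hψ]
    exact Equiv.Perm.sign_swap (fun h => n2 (congrArg Subtype.val h))
  have hsb : sgn ⟨b, hbN⟩ = -1 := by
    have hψ : psi W ⟨b, hbN⟩ = Equiv.swap ⟨d, hdW⟩ ⟨d * e, hdeW⟩ := by
      refine Equiv.ext (fun y => ?_)
      obtain ⟨y, hy⟩ := y
      rcases (hW y).1 hy with rfl | rfl | rfl | rfl
      · rw [Equiv.swap_apply_of_ne_of_ne (fun h => hd1 (congrArg Subtype.val h).symm)
          (fun h => n3 (congrArg Subtype.val h))]
        exact Subtype.ext (by simp [psi_apply])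
      · rw [Equiv.swap_apply_left]
        exact Subtype.ext (by rw [psi_apply]; exact hbd.trans hed)
      · rw [Equiv.swap_apply_of_ne_of_ne (fun h => hne (congrArg Subtype.val h).symm)
          (fun h => n2 (congrArg Subtype.val h))]
        exact Subtype.ext (by simpa [psi_apply] using hbe)
      · rw [Equiv.swap_apply_right]
        exact Subtype.ext (by rw [psi_apply]; exact hbd')
    show Equiv.Perm.sign (psi W ⟨b, hbN⟩) = -1
    rw [hψ]
    exact Equiv.Perm.sign_swap (fun h => n1 (congrArg Subtype.val h))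
  -- the element of order three
  have habN : a * b ∈ NN W := (NN W).mul_mem haN hbN
  have hf1 : (a * b) * d * (a * b)⁻¹ = e := by
    have : (a * b) * d * (a * b)⁻¹ = a * (b * d * b⁻¹) * a⁻¹ := by group
    rw [this, hbd, hed, hae']
  have hf2 : (a * b) * e * (a * b)⁻¹ = d * e := by
    have : (a * b) * e * (a * b)⁻¹ = a * (b * e * b⁻¹) * a⁻¹ := by group
    rw [this, hbe, hae, hed]
  have hf3 : (a * b) * (d * e) * (a * b)⁻¹ = d := by
    have : (a * b) * (d * e) * (a * b)⁻¹ = a * (b * (d * e) * b⁻¹) * a⁻¹ := by group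
    rw [this, hbd', had]
  let ξ : Equiv.Perm ↥W := psi W ⟨a * b, habN⟩
  have hξ1 : ∀ y : ↥W, ((ξ y : ↥W) : L) = (a * b) * y * (a * b)⁻¹ := fun y => rfl
  have hξ3 : ξ ^ 3 = 1 := by
    refine Equiv.ext (fun y => Subtype.ext ?_)
    obtain ⟨y, hy⟩ := y
    have e3 : ξ ^ 3 = ξ * ξ * ξ := by rw [pow_succ, pow_two]
    rw [e3]
    show ((ξ (ξ (ξ ⟨y, hy⟩)) : ↥W) : L) = y
    rw [hξ1, hξ1, hξ1]
    show (a * b) * ((a * b) * ((a * b) * y * (a * b)⁻¹) * (a * b)⁻¹) * (a * b)⁻¹ = y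
    rcases (hW y).1 hy with rfl | rfl | rfl | rfl
    · simp
    · rw [hf1, hf2, hf3]
    · rw [hf2, hf3, hf1]
    · rw [hf3, hf1, hf2]
  have hξfix : ∀ y : ↥W, ξ y = y → y = 1 := by
    rintro ⟨y, hy⟩ hfix
    have h := congrArg Subtype.val hfix
    rw [hξ1] at h
    show (⟨y, hy⟩ : ↥W) = 1
    apply Subtype.ext
    show y = 1
    simp only at h
    rcases (hW y).1 hy with rfl | rfl | rfl | rfl
    · rfl
    · rw [hf1] at h
      exact absurd h.symm hne
    · rw [hf2] at h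
      exact absurd h.symm n2
    · rw [hf3] at h
      exact absurd h n1
  -- a 3-element acting in the same way
  obtain ⟨m, hm3, hx₁p⟩ := exists_three_part (a * b)
  have hx₁N : (a * b) ^ m ∈ NN W := (NN W).pow_mem habN m
  let x₁' : ↥(NN W) := ⟨(a * b) ^ m, hx₁N⟩
  have hψx₁ : psi W x₁' = ξ ^ m := by
    have : x₁' = (⟨a * b, habN⟩ : ↥(NN W)) ^ m := Subtype.ext (by simp [x₁'])
    rw [this, map_pow]
  have hξm : (psi W x₁') ^ m = ξ := by
    rw [hψx₁, ← pow_mul]
    have hmm : m * m % 3 = 1 := by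
      have h3 : m % 3 = 1 ∨ m % 3 = 2 := by omega
      rw [Nat.mul_mod]
      rcases h3 with h | h <;> rw [h]
    rw [← Nat.div_add_mod (m * m) 3, pow_add, pow_mul, hξ3, one_pow, one_mul, hmm, pow_one]
  have hx₁fix : ∀ y : ↥W, psi W x₁' y = y → y = 1 := by
    intro y hy
    apply hξfix
    rw [← hξm]
    have : ∀ k : ℕ, ((psi W x₁') ^ k) y = y := by
      intro k
      induction k with
      | zero => rfl
      | succ k ih =>
        rw [pow_succ]
        show ((psi W x₁') ^ k) (psi W x₁' y) = y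
        rw [hy, ih]
    exact this m
  have hx₁3 : (psi W x₁') ^ 3 = 1 := by
    rw [hψx₁, ← pow_mul, mul_comm, pow_mul, hξ3, one_pow]
  have hx₁ne : psi W x₁' ≠ 1 := by
    intro h
    have h2 := hx₁fix ⟨d, hdW⟩ (by rw [h]; rfl)
    exact hd1 (congrArg Subtype.val h2)
  have hord3 : orderOf (psi W x₁') = 3 := orderOf_eq_prime hx₁3 hx₁ne
  -- the even part
  let N₁ : Subgroup L := sgn.ker.map (NN W).subtype
  have hN₁N : N₁ ≤ NN W := Subgroup.map_subtype_le _
  have hN₁mem : ∀ (y : L) (hy : y ∈ NN W), y ∈ N₁ ↔ sgn ⟨y, hy⟩ = 1 := by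
    intro y hy
    constructor
    · rintro ⟨z, hz, rfl⟩
      exact hz
    · intro h
      exact ⟨⟨y, hy⟩, h, rfl⟩
  have hx₁N₁ : (a * b) ^ m ∈ N₁ := by
    refine (hN₁mem _ hx₁N).2 ?_
    have : x₁' = (⟨a, haN⟩ * ⟨b, hbN⟩ : ↥(NN W)) ^ m := Subtype.ext (by simp [x₁'])
    show sgn x₁' = 1
    rw [this, map_pow, map_mul, hsa, hsb]
    simp
  have hzN₁ : Subgroup.zpowers ((a * b) ^ m) ≤ N₁ := Subgroup.zpowers_le.2 hx₁N₁
  obtain ⟨T, hT, hx₁T⟩ := exists_isSyl_ge hzN₁ hx₁p
  have hx₁T' : (a * b) ^ m ∈ T := hx₁T (Subgroup.mem_zpowers _)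
  have haN₁ : a ∈ NN N₁ := by
    apply mem_NN_of_forall
    rintro _ ⟨z, hz, rfl⟩
    have hn : sgn.ker.Normal := MonoidHom.normal_ker sgn
    have := hn.conj_mem z hz ⟨a, haN⟩
    exact ⟨_, this, rfl⟩
  obtain ⟨r, hr, hrn⟩ := Cfsg.Agent.Lib.ControlSec.frattini hT haN₁
  have hrN := hN₁N hr
  have hnN : r⁻¹ * a ∈ NN W := (NN W).mul_mem ((NN W).inv_mem hrN) haN
  have hsn : sgn ⟨r⁻¹ * a, hnN⟩ = -1 := by
    have : (⟨r⁻¹ * a, hnN⟩ : ↥(NN W)) = (⟨r, hrN⟩ : ↥(NN W))⁻¹ * ⟨a, haN⟩ := rfl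
    rw [this, map_mul, map_inv, (hN₁mem r hrN).1 hr, hsa]
    simp
  -- the complement
  let X : Subgroup L := NN T ⊓ NN W
  have hx₁X : (a * b) ^ m ∈ X := ⟨Subgroup.le_normalizer hx₁T', hx₁N⟩
  have hnX : r⁻¹ * a ∈ X := ⟨hrn, hnN⟩
  have hWcard : Nat.card W = 4 := by
    have h1 : (W : Set L) = ↑({1, d, e, d * e} : Finset L) := by
      ext x
      simp [hW x]
    have h2 : Nat.card W = Nat.card ↑(W : Set L) := rfl
    rw [h2, Nat.card_coe_set_eq, h1, Set.ncard_coe_finset, Finset.card_insert_of_notMem,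
      Finset.card_insert_of_notMem, Finset.card_insert_of_notMem, Finset.card_singleton]
    · simpa using n2
    · simp [hne, n1]
    · simp [hd1.symm, he1.symm, n3]
  have hWp : IsPGroup 2 W := IsPGroup.of_card (n := 2) (by rw [hWcard]; norm_num)
  have hTW : ∀ y, y ∈ T → y ∈ W → y = 1 := by
    have hdis := IsPGroup.disjoint_of_ne 3 2 (by norm_num) T W hT.pgrp hWp
    intro y h1 h2
    exact Subgroup.disjoint_def.1 hdis h1 h2
  have hXW : ∀ y, y ∈ X → y ∈ W → y = 1 := by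
    intro y hyX hyW
    have h1 : y * (a * b) ^ m * y⁻¹ ∈ T := conj_mem_of_mem_NN hyX.1 hx₁T'
    have h2 : (a * b) ^ m * y⁻¹ * ((a * b) ^ m)⁻¹ ∈ W :=
      conj_mem_of_mem_NN hx₁N (W.inv_mem hyW)
    have h3 : y * (a * b) ^ m * y⁻¹ * ((a * b) ^ m)⁻¹ = 1 := by
      apply hTW _ (T.mul_mem h1 (T.inv_mem hx₁T'))
      have : y * (a * b) ^ m * y⁻¹ * ((a * b) ^ m)⁻¹ = y * ((a * b) ^ m * y⁻¹ * ((a * b) ^ m)⁻¹) := by group
      rw [this]
      exact W.mul_mem hyW h2
    have h4 : (a * b) ^ m * y * ((a * b) ^ m)⁻¹ = y := by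
      have h5 : y * (a * b) ^ m * y⁻¹ = (a * b) ^ m := by
        rw [mul_inv_eq_one] at h3
        exact h3
      have h6 : y * (a * b) ^ m = (a * b) ^ m * y := by
        rw [mul_inv_eq_iff_eq_mul] at h5
        exact h5
      rw [← h6]
      group
    have h5 := hx₁fix ⟨y, hyW⟩ (Subtype.ext h4)
    exact congrArg Subtype.val h5
  -- the group on four letters
  let D : Subgroup L := X ⊔ W
  have hXD : X ≤ D := le_sup_left
  have hWD : W ≤ D := le_sup_right
  have hXinf : X ⊓ W = ⊥ := by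
    rw [eq_bot_iff]
    rintro y ⟨h1, h2⟩
    exact hXW y h1 h2
  have hcardD : Nat.card D = Nat.card X * 4 := by
    have h := Cfsg.Agent.Lib.Replacement.card_sup_mul_card_inf X W (inf_le_right : X ≤ NN W)
    rw [hXinf, Subgroup.card_bot, mul_one, hWcard] at h
    exact h
  let X' : Subgroup ↥D := X.subgroupOf D
  have hX'card : Nat.card X' = Nat.card X := Nat.card_congr (Subgroup.subgroupOfEquivOfLe hXD).toEquiv
  have hidx : X'.index = 4 := by
    have h := Subgroup.card_mul_index X'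
    rw [hX'card, hcardD] at h
    exact Nat.eq_of_mul_eq_mul_left Nat.card_pos h
  have hcardQ : Nat.card (↥D ⧸ X') = 4 := hidx
  let ee : (↥D ⧸ X') ≃ Fin 4 := Finite.equivFinOfCardEq hcardQ
  let φ : ↥D →* Equiv.Perm (Fin 4) :=
    ee.permCongrHom.toMonoidHom.comp (MulAction.toPermHom ↥D (↥D ⧸ X'))
  have hker : ∀ k ∈ φ.ker, k ∈ X'.normalCore := by
    intro k hk
    rw [Subgroup.normalCore_eq_ker, MonoidHom.mem_ker]
    apply ee.permCongrHom.injective
    rw [map_one]
    exact hk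
  have hkerX : ∀ k ∈ φ.ker, (k : L) ∈ X := fun k hk =>
    Subgroup.mem_subgroupOf.1 (Subgroup.normalCore_le X' (hker k hk))
  have hkerC : ∀ k ∈ φ.ker, ∀ w ∈ W, (k : L) * w * (k : L)⁻¹ = w := by
    intro k hk w hw
    have hn : φ.ker.Normal := MonoidHom.normal_ker φ
    have h1 := hn.conj_mem k⁻¹ (φ.ker.inv_mem hk) ⟨w, hWD hw⟩
    have h2 : w * (k : L)⁻¹ * w⁻¹ ∈ X := hkerX _ h1
    have h3 : (k : L) * (w * (k : L)⁻¹ * w⁻¹) ∈ X := X.mul_mem (hkerX k hk) h2
    have h4 : (k : L) * w * (k : L)⁻¹ ∈ W := conj_mem_of_mem_NN (hkerX k hk).2 hw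
    have h5 : (k : L) * (w * (k : L)⁻¹ * w⁻¹) = (k : L) * w * (k : L)⁻¹ * w⁻¹ := by group
    have h6 : (k : L) * w * (k : L)⁻¹ * w⁻¹ = 1 := hXW _ (h5 ▸ h3) (W.mul_mem h4 (W.inv_mem hw))
    rwa [mul_inv_eq_one] at h6
  -- the action of `X` on `W`
  let ψX : ↥X →* Equiv.Perm ↥W := (psi W).comp (Subgroup.inclusion (inf_le_right : X ≤ NN W))
  have h3dvd : 3 ∣ Nat.card ψX.range := by
    have h1 : psi W x₁' ∈ ψX.range := ⟨⟨_, hx₁X⟩, rfl⟩
    have h2 := Subgroup.orderOf_dvd_natCard ψX.range h1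
    rwa [hord3] at h2
  have h2dvd : 2 ∣ Nat.card ψX.range := by
    have h1 : psi W ⟨_, hnN⟩ ∈ ψX.range := ⟨⟨_, hnX⟩, rfl⟩
    have h2 := Subgroup.orderOf_dvd_natCard ψX.range h1
    refine dvd_trans ?_ h2
    have h3 := pow_orderOf_eq_one (psi W ⟨_, hnN⟩)
    have h4 := congrArg Equiv.Perm.sign h3
    rw [map_pow, map_one] at h4
    have h5 : Equiv.Perm.sign (psi W ⟨_, hnN⟩) = -1 := hsn
    rw [h5] at h4
    have h6 : Even (orderOf (psi W ⟨_, hnN⟩)) :=
      (neg_one_pow_eq_one_iff_even (by decide)).1 h4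
    exact h6.two_dvd
  have h6le : 6 ≤ Nat.card ψX.range := by
    have h1 : 6 ∣ Nat.card ψX.range := by
      have : Nat.Coprime 2 3 := by norm_num
      have h := Nat.Coprime.mul_dvd_of_dvd_of_dvd this h2dvd h3dvd
      simpa using h
    exact Nat.le_of_dvd Nat.card_pos h1
  have hXsplit : Nat.card ψX.ker * Nat.card ψX.range = Nat.card X := by
    have h1 := Subgroup.card_mul_index ψX.ker
    rwa [Subgroup.index_ker] at h1
  have hKle : Nat.card φ.ker ≤ Nat.card ψX.ker := by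
    let f : ↥φ.ker → ↥ψX.ker := fun k => ⟨⟨k.1.1, hkerX k.1 k.2⟩, by
      rw [MonoidHom.mem_ker]
      refine Equiv.ext (fun y => Subtype.ext ?_)
      exact hkerC k.1 k.2 y y.2⟩
    refine Nat.card_le_card_of_injective f (fun k k' h => ?_)
    have h1 := congrArg (fun z : ↥ψX.ker => ((z : ↥X) : L)) h
    exact Subtype.ext (Subtype.ext h1)
  have hDsplit : Nat.card φ.ker * Nat.card φ.range = Nat.card D := by
    have h1 := Subgroup.card_mul_index φ.ker
    rwa [Subgroup.index_ker] at h1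
  have hrange : 24 ≤ Nat.card φ.range := by
    have hpos : 0 < Nat.card φ.ker := Nat.card_pos
    have h1 : Nat.card φ.ker * Nat.card φ.range = Nat.card ψX.ker * Nat.card ψX.range * 4 := by
      rw [hDsplit, hcardD, hXsplit]
    have h2 : Nat.card φ.ker * 24 ≤ Nat.card φ.ker * Nat.card φ.range := by
      rw [h1]
      calc Nat.card φ.ker * 24 ≤ Nat.card ψX.ker * 24 := Nat.mul_le_mul_right _ hKle
        _ = Nat.card ψX.ker * 6 * 4 := by ring
        _ ≤ _ := Nat.mul_le_mul_right _ (Nat.mul_le_mul_left _ h6le)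
    exact Nat.le_of_mul_le_mul_left h2 hpos
  have hperm : Nat.card (Equiv.Perm (Fin 4)) = 24 := by
    rw [Nat.card_eq_fintype_card, Fintype.card_perm]
    decide
  have htop : φ.range = ⊤ := by
    apply Subgroup.eq_top_of_le_card
    rw [hperm]
    exact hrange
  exact Cfsg.Agent.Lib.InvolvesAPI.involves_of_surj D φ (MonoidHom.range_eq_top.1 htop)

end Cfsg.Agent.Lib.KleinS4
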