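import Mathlib
import Cfsg.Agent.Lib.AbOff
import Cfsg.Agent.Lib.FFLin
import Cfsg.Agent.Lib.PConstr
import Cfsg.Agent.Lib.PLocalTools
import Cfsg.Agent.S2759
import Cfsg.Agent.S0606
import Cfsg.Agent.Lib.PPrimeP

/-!
# `S₄`-free `2`-constrained groups with Sylow `2`-subgroups of class at most two

If `F*(G) = O₂(G)`, `G` has no section `S₄` and the Sylow `2`-subgroups of `G` have class at most two,
then `J(S)` is normal in `G`.
-/

set_option autoImplicit false
set_option linter.unusedSectionVars false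
set_option linter.style.haveILetI false
set_option linter.unusedVariables false

open scoped commutatorElement
open Cfsg

namespace Cfsg.Agent.Lib.AbOff2

open Cfsg.Agent.Lib.FFMod Cfsg.Agent.Lib.InvolvesAPI Cfsg.Agent.Lib.ThompsonJ Cfsg.Agent.Lib.AbOff
  Cfsg.Agent.Lib.PCore Cfsg.Agent.Lib.FFLin Cfsg.Agent.Lib.PLocalTools

universe u

section S3free

set_option maxRecDepth 100000 in
theorem perm3_word : ∀ σ : Equiv.Perm (Fin 3), σ ≠ 1 →
    ∃ τ : Equiv.Perm (Fin 3), (σ * (τ * σ * τ⁻¹)) ^ 3 = 1 ∧ σ * (τ * σ * τ⁻¹) ≠ 1 := by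
  decide

theorem no_normal_two (M : Subgroup (Equiv.Perm (Fin 3))) (hM : M.Normal) (hp : IsPGroup 2 M) : M = ⊥ := by
  rw [eq_bot_iff]
  intro σ hσ
  by_contra hne
  obtain ⟨τ, h3, h1⟩ := perm3_word σ hne
  have hm : σ * (τ * σ * τ⁻¹) ∈ M := M.mul_mem hσ (hM.conj_mem σ hσ τ)
  obtain ⟨k, hk⟩ := hp ⟨_, hm⟩
  have hk' : (σ * (τ * σ * τ⁻¹)) ^ 2 ^ k = 1 := congrArg Subtype.val hk
  have h4 : orderOf (σ * (τ * σ * τ⁻¹)) ∣ 2 ^ k := orderOf_dvd_of_pow_eq_one hk'
  have h5 : orderOf (σ * (τ * σ * τ⁻¹)) ∣ 3 := orderOf_dvd_of_pow_eq_one h3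
  have hc : Nat.Coprime (2 ^ k) 3 := Nat.Coprime.pow_left k (by norm_num)
  have h6 : orderOf (σ * (τ * σ * τ⁻¹)) = 1 := Nat.Coprime.eq_one_of_dvd (hc.coprime_dvd_left h4) h5
  exact h1 (orderOf_eq_one_iff.mp h6)

theorem involves_S3_quot {H : Type*} [Group H] (C : Subgroup H) [hn : C.Normal] (hC : IsPGroup 2 C)
    (h : Involves (Equiv.Perm (Fin 3)) H) : Involves (Equiv.Perm (Fin 3)) (H ⧸ C) := by
  obtain ⟨K, f, hf⟩ := exists_surj_of_involves h
  let g : K →* K.map (QuotientGroup.mk' C) := (QuotientGroup.mk' C).subgroupMap K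
  have hg : Function.Surjective g := (QuotientGroup.mk' C).subgroupMap_surjective K
  have hker : g.ker ≤ f.ker := by
    intro x hx
    have h1 : ((x : H) : H ⧸ C) = 1 := congrArg Subtype.val hx
    have h2 : (x : H) ∈ C := (QuotientGroup.eq_one_iff _).mp h1
    let M : Subgroup (Equiv.Perm (Fin 3)) := (C.subgroupOf K).map f
    have hMn : M.Normal := Subgroup.Normal.map inferInstance f hf
    have hsub : IsPGroup 2 (C.subgroupOf K) := by
      intro y
      obtain ⟨k, hk⟩ := hC ⟨((y : K) : H), y.2⟩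
      exact ⟨k, Subtype.ext (Subtype.ext (by
        have hk' : ((y : K) : H) ^ 2 ^ k = 1 := congrArg (fun z : C => (z : H)) hk
        simpa using hk'))⟩
    have hMp : IsPGroup 2 M := hsub.map f
    have hM := no_normal_two M hMn hMp
    have h3 : f x ∈ M := ⟨x, h2, rfl⟩
    rw [hM] at h3
    exact h3
  let f' := (MonoidHom.liftOfSurjective g hg) ⟨f, hker⟩
  have hcomp : ∀ x, f' (g x) = f x := fun x =>
    MonoidHom.liftOfRightInverse_comp_apply g _ _ ⟨f, hker⟩ x
  refine involves_of_surj _ f' ?_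
  intro σ
  obtain ⟨x, rfl⟩ := hf σ
  exact ⟨g x, hcomp x⟩

variable {G : Type u} [Group G] [Finite G]

theorem core_normal : (pCore 2 G).Normal := by
  haveI := pCore_characteristic (G := G) 2
  exact Subgroup.normal_of_characteristic _

theorem not_involves_S3 (hC : Subgroup.centralizer (pCore 2 G : Set G) ≤ pCore 2 G)
    (hS4 : ¬ Involves (Equiv.Perm (Fin 4)) G) : ¬ Involves (Equiv.Perm (Fin 3)) G := by
  intro h
  apply hS4
  apply (Cfsg.Agent.S2759.result (G := G)).mpr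
  refine ⟨pCore 2 G, isPGroup_pCore 2, ?_⟩
  have hQn : (pCore 2 G).Normal := core_normal
  have hD : Subgroup.normalizer ((pCore 2 G : Subgroup G) : Set G) = ⊤ :=
    Subgroup.normalizer_eq_top_iff.mpr hQn
  have h1 : Involves (Equiv.Perm (Fin 3)) ↥(Subgroup.normalizer ((pCore 2 G : Subgroup G) : Set G)) := by
    refine Involves.trans h (involves_of_surj_top (Subgroup.normalizer ((pCore 2 G : Subgroup G) : Set G)).subtype ?_)
    intro g
    exact ⟨⟨g, by rw [hD]; trivial⟩, rfl⟩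
  apply involves_S3_quot _ _ h1
  have hp : IsPGroup 2 (pCore 2 G) := isPGroup_pCore 2
  intro x
  obtain ⟨k, hk⟩ := hp ⟨((x : _) : G), hC x.2⟩
  refine ⟨k, ?_⟩
  apply Subtype.ext
  apply Subtype.ext
  have hk' : (((x : _) : G)) ^ 2 ^ k = 1 := congrArg (fun z : pCore 2 G => (z : G)) hk
  simpa using hk'

end S3free

section Defs

variable {G : Type u} [Group G] [Finite G]

/-- `Ω₁(Z(O₂(G)))`. -/
def omZ (G : Type u) [Group G] [Finite G] : Subgroup G where
  carrier := {z | z ∈ pCore 2 G ∧ (∀ q ∈ pCore 2 G, z * q = q * z) ∧ z ^ 2 = 1}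
  one_mem' := ⟨Subgroup.one_mem _, fun q _ => by simp, by simp⟩
  mul_mem' := by
    rintro a b ⟨ha, ha', ha2⟩ ⟨hb, hb', hb2⟩
    refine ⟨Subgroup.mul_mem _ ha hb, ?_, ?_⟩
    · intro q hq
      rw [mul_assoc, hb' q hq, ← mul_assoc, ha' q hq, mul_assoc]
    · have hc : Commute a b := ha' b hb
      rw [hc.mul_pow, ha2, hb2, one_mul]
  inv_mem' := by
    rintro a ⟨ha, ha', ha2⟩
    refine ⟨Subgroup.inv_mem _ ha, ?_, ?_⟩
    · intro q hq
      have := ha' q hq
      calc a⁻¹ * q = a⁻¹ * (q * a) * a⁻¹ := by group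
        _ = a⁻¹ * (a * q) * a⁻¹ := by rw [this]
        _ = q * a⁻¹ := by group
    · rw [inv_pow, ha2, inv_one]

theorem omZ_normal : (omZ G).Normal := by
  have hQn : (pCore 2 G).Normal := core_normal
  constructor
  rintro z ⟨hz, hz', hz2⟩ g
  refine ⟨hQn.conj_mem z hz g, ?_, ?_⟩
  · intro q hq
    have h1 : g⁻¹ * q * g ∈ pCore 2 G := by
      have := hQn.conj_mem q hq g⁻¹
      simpa using this
    have h2 := hz' _ h1
    calc g * z * g⁻¹ * q = g * (z * (g⁻¹ * q * g)) * g⁻¹ := by group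
      _ = g * ((g⁻¹ * q * g) * z) * g⁻¹ := by rw [h2]
      _ = q * (g * z * g⁻¹) := by group
  · rw [conj_sq, hz2]
    group

theorem omZ_ea : IsElementaryAbelian 2 (omZ G) :=
  isElementaryAbelian_of_comm (fun a ha b hb => ha.2.1 b hb.1) (fun a ha => ha.2.2)

theorem omZ_le : omZ G ≤ pCore 2 G := fun _ h => h.1

theorem le_pCore_of_CC {Γ : Type*} [Group Γ] [Finite Γ] {A : Subgroup Γ} (hA2 : ∀ a ∈ A, a ^ 2 = 1)
    (h : ∀ g, CC A g) : A ≤ pCore 2 Γ := by
  let T : Set Γ := {y | ∃ g : Γ, ∃ a ∈ A, y = g * a * g⁻¹}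
  have hT1 : ∀ x ∈ T, ∀ y ∈ T, x * y = y * x := by
    rintro _ ⟨h₁, a₁, ha₁, rfl⟩ _ ⟨h₂, a₂, ha₂, rfl⟩
    have := h (h₁⁻¹ * h₂) a₁ ha₁ a₂ ha₂
    calc h₁ * a₁ * h₁⁻¹ * (h₂ * a₂ * h₂⁻¹)
        = h₁ * (a₁ * ((h₁⁻¹ * h₂) * a₂ * (h₁⁻¹ * h₂)⁻¹)) * h₁⁻¹ := by group
      _ = h₁ * (((h₁⁻¹ * h₂) * a₂ * (h₁⁻¹ * h₂)⁻¹) * a₁) * h₁⁻¹ := by rw [this]
      _ = _ := by group
  have hT2 : ∀ x ∈ T, x ^ 2 = 1 := by
    rintro _ ⟨h₁, a₁, ha₁, rfl⟩
    rw [conj_sq, hA2 a₁ ha₁]
    group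
  have hE := isElementaryAbelian_closure hT1 hT2
  have hn : (Subgroup.closure T).Normal := by
    constructor
    intro n hn g
    have hle : Subgroup.closure T ≤ (Subgroup.closure T).comap (MulAut.conj g).toMonoidHom := by
      rw [Subgroup.closure_le]
      rintro _ ⟨h₁, a₁, ha₁, rfl⟩
      apply Subgroup.subset_closure
      refine ⟨g * h₁, a₁, ha₁, ?_⟩
      simp only [MulEquiv.coe_toMonoidHom, MulAut.conj_apply]
      group
    have := hle hn
    simpa [MulAut.conj_apply] using this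
  have hle := le_pCore hn (ea_isPGroup hE)
  intro a ha
  apply hle
  apply Subgroup.subset_closure
  exact ⟨1, a, ha, by group⟩

/-- Maximal elementary abelian subgroups of a Sylow subgroup. -/
theorem mem_max_of_maxEAIn (S : Sylow 2 G) {A : Subgroup G} (hA : A ∈ maxEAIn 2 (S : Subgroup G)) :
    A ∈ maxElementaryAbelianSubgroups 2 G := by
  have hmem : A.subgroupOf (S : Subgroup G) ∈ maxElementaryAbelianSubgroups 2 (S : Subgroup G) := by
    refine ⟨ea_comap hA.2.1 _ (S : Subgroup G).subtype_injective, fun B hB => ?_⟩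
    have h1 : Nat.card ↥(A.subgroupOf (S : Subgroup G)) = Nat.card A :=
      Nat.card_congr (Subgroup.subgroupOfEquivOfLe hA.1).toEquiv
    have h2 : Nat.card ↥(B.map (S : Subgroup G).subtype) = Nat.card B :=
      Nat.card_congr (Subgroup.equivMapOfInjective B _ (S : Subgroup G).subtype_injective).symm.toEquiv
    rw [h1, ← h2]
    exact hA.2.2 _ (Subgroup.map_subtype_le _) (ea_map hB _)
  have := mem_max_of_mem_max_sylow S hmem
  rwa [Subgroup.map_subgroupOf_eq_of_le hA.1] at this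

end Defs

section Core

variable {G : Type u} [Group G] [Finite G]

/-- The linear step: every maximal elementary abelian subgroup lies over `O₂(G / C_G(V))`. -/
theorem exists_P (hC : Subgroup.centralizer (pCore 2 G : Set G) ≤ pCore 2 G)
    (hS4 : ¬ Involves (Equiv.Perm (Fin 4)) G) (S : Sylow 2 G)
    (hcl : ∀ x ∈ (S : Subgroup G), ∀ y ∈ (S : Subgroup G), ∀ z ∈ (S : Subgroup G), ⁅⁅x, y⁆, z⁆ = 1) :
    ∃ P : Subgroup G, P.Normal ∧ Subgroup.centralizer (omZ G : Set G) ≤ P ∧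
      thompsonSubgroupOf 2 (S : Subgroup G) ≤ P ∧
      ∀ x ∈ P, ∃ k : ℕ, x ^ 2 ^ k ∈ Subgroup.centralizer (omZ G : Set G) := by
  classical
  haveI hVn : (omZ G).Normal := omZ_normal
  have hVS : omZ G ≤ (S : Subgroup G) := omZ_le.trans (pCore_le_sylow 2 S)
  obtain ⟨E, i1, i2, i3, ρ₀, ι, hn⟩ := exists_nm (p := 2) (omZ_ea (G := G))
  let X : Subgroup (GLE 2 E) := (rh ρ₀).range
  let f : G →* X := (rh ρ₀).rangeRestrict
  have hf : Function.Surjective f := (rh ρ₀).rangeRestrict_surjective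
  have hfval : ∀ g, ((f g : X) : GLE 2 E) = rh ρ₀ g := fun g => rfl
  -- `S` acts as an abelian group
  have hcomS : ∀ s ∈ (S : Subgroup G), ∀ s' ∈ (S : Subgroup G), f s * f s' = f s' * f s := by
    intro s hs s' hs'
    have h1 : rh ρ₀ ⁅s, s'⁆ = 1 := by
      rw [rh_eq_one_iff hn, Subgroup.mem_centralizer_iff]
      intro z hz
      have := hcl s hs s' hs' z (hVS hz)
      rw [commutatorElement_eq_one_iff_mul_comm] at this
      exact this.symm
    rw [map_commutatorElement, commutatorElement_eq_one_iff_mul_comm] at h1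
    apply Subtype.ext
    exact h1
  have hab : ∀ D : Subgroup X, IsPGroup 2 D → ∀ x ∈ D, ∀ y ∈ D, x * y = y * x := by
    intro D hD x hx y hy
    obtain ⟨P', hP'⟩ := hD.exists_le_sylow
    obtain ⟨g, rfl⟩ := MulAction.exists_smul_eq X (S.mapSurjective hf) P'
    have hconj : ∀ z ∈ D, ∃ s ∈ (S : Subgroup G), z = g * f s * g⁻¹ := by
      intro z hz
      have h1 := hP' hz
      rw [Sylow.coe_subgroup_smul, Subgroup.mem_pointwise_smul_iff_inv_smul_mem] at h1
      obtain ⟨s, hs, hsz⟩ := h1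
      refine ⟨s, hs, ?_⟩
      have h2 : f s = g⁻¹ * z * g := by
        rw [hsz]
        simp [MulAut.smul_def, MulAut.conj_inv_apply]
      rw [h2]
      group
    obtain ⟨s, hs, rfl⟩ := hconj x hx
    obtain ⟨s', hs', rfl⟩ := hconj y hy
    have := hcomS s hs s' hs'
    calc g * f s * g⁻¹ * (g * f s' * g⁻¹) = g * (f s * f s') * g⁻¹ := by group
      _ = g * (f s' * f s) * g⁻¹ := by rw [this]
      _ = _ := by group
  -- quadratic action
  have hquad : ∀ a ∈ (S : Subgroup G), ∀ a₁ ∈ (S : Subgroup G), ∀ v : E,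
      ρ₀ a₁ (ρ₀ a v - v) = ρ₀ a v - v := by
    intro a ha a₁ ha₁ v
    have hz : ι (Multiplicative.ofAdd v) ∈ omZ G := by
      rw [← hn.range]
      exact ⟨_, rfl⟩
    have h1 : ι (Multiplicative.ofAdd (ρ₀ a v - v)) = ⁅a, ι (Multiplicative.ofAdd v)⁆ := by
      rw [ofAdd_sub, map_div, hn.act, commutatorElement_def, div_eq_mul_inv]
    apply Multiplicative.ofAdd.injective
    apply hn.inj
    rw [hn.act, h1]
    have h2 := hcl a ha _ (hVS hz) a₁ ha₁
    rw [commutatorElement_eq_one_iff_mul_comm] at h2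
    rw [← h2]
    group
  have hS3X : ¬ Involves (Equiv.Perm (Fin 3)) X := fun h =>
    not_involves_S3 hC hS4 (Involves.trans h (involves_of_surj_top f hf))
  -- the main step
  have hmain : ∀ A ∈ maxEAIn 2 (S : Subgroup G), ∀ a ∈ A, f a ∈ pCore 2 X := by
    intro A hA a ha
    have hmax := mem_max_of_maxEAIn S hA
    have hbest := Cfsg.Agent.S0606.result (omZ G) (omZ_ea (G := G)) A hmax
    have hle : A.map (rh ρ₀) ≤ X := by
      rintro _ ⟨b, _, rfl⟩
      exact ⟨b, rfl⟩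
    have hBO := bo_restrict (bo_image hn hbest) hle
    have hq : ∀ c ∈ (A.map (rh ρ₀)).subgroupOf X, ∀ v,
        lin X c v - v ∈ fixS (lin X) ((A.map (rh ρ₀)).subgroupOf X) := by
      intro c hc v d hd
      obtain ⟨c₀, hc₀, hcc⟩ := Subgroup.mem_subgroupOf.mp hc
      obtain ⟨d₀, hd₀, hdd⟩ := Subgroup.mem_subgroupOf.mp hd
      have e1 : lin X c = ρ₀ c₀ := by
        show ((c : GLE 2 E) : Module.End (ZMod 2) E) = _
        rw [← hcc]
        rfl
      have e2 : lin X d = ρ₀ d₀ := by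
        show ((d : GLE 2 E) : Module.End (ZMod 2) E) = _
        rw [← hdd]
        rfl
      rw [e1, e2]
      exact hquad c₀ (hA.1 hc₀) d₀ (hA.1 hd₀) v
    have hcc := Cfsg.Agent.Lib.AbOff.main (lin X) (lin_inj X) hab hBO hq hS3X
    have hle2 := le_pCore_of_CC hBO.pow hcc
    apply hle2
    rw [Subgroup.mem_subgroupOf]
    exact ⟨a, ha, rfl⟩
  refine ⟨(pCore 2 X).comap f, ?_, ?_, ?_, ?_⟩
  · haveI : (pCore 2 X).Normal := by
      haveI := pCore_characteristic (G := X) 2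
      exact Subgroup.normal_of_characteristic _
    exact Subgroup.Normal.comap inferInstance f
  · intro x hx
    have h1 : rh ρ₀ x = 1 := (rh_eq_one_iff hn x).mpr hx
    have h2 : f x = 1 := Subtype.ext h1
    show f x ∈ pCore 2 X
    rw [h2]
    exact Subgroup.one_mem _
  · rw [thompsonOf_eq_sSup]
    apply sSup_le
    intro A hA a ha
    exact hmain A hA a ha
  · intro x hx
    obtain ⟨k, hk⟩ := (isPGroup_pCore 2 (G := X)) ⟨f x, hx⟩
    refine ⟨k, ?_⟩
    have h1 : (f x) ^ 2 ^ k = 1 := congrArg Subtype.val hk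
    have h2 : f (x ^ 2 ^ k) = 1 := by rw [map_pow, h1]
    exact (rh_eq_one_iff hn _).mp (congrArg Subtype.val h2)

/-- Coprime lemma. -/
theorem eq_one_of_twist {g z w : G} (hg : Odd (orderOf g)) (h1 : g * z * g⁻¹ = z * w) (h2 : g * w * g⁻¹ = w)
    {k : ℕ} (hw : w ^ 2 ^ k = 1) : w = 1 := by
  have h3 : ∀ i : ℕ, g ^ i * z * (g ^ i)⁻¹ = z * w ^ i := by
    intro i
    induction i with
    | zero => simp
    | succ i ih =>
      have e : g ^ (i + 1) * z * (g ^ (i + 1))⁻¹ = g * (g ^ i * z * (g ^ i)⁻¹) * g⁻¹ := by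
        rw [pow_succ']
        group
      rw [e, ih]
      have e2 : g * (z * w ^ i) * g⁻¹ = (g * z * g⁻¹) * (g * w ^ i * g⁻¹) := by group
      have e3 : g * w ^ i * g⁻¹ = w ^ i := by
        have : g * w ^ i * g⁻¹ = (g * w * g⁻¹) ^ i := by
          rw [conj_pow]
        rw [this, h2]
      rw [e2, h1, e3, pow_succ', mul_assoc]
  have h4 := h3 (orderOf g)
  rw [pow_orderOf_eq_one] at h4
  simp only [one_mul, inv_one, mul_one] at h4
  have h5 : w ^ orderOf g = 1 := by
    have := mul_left_cancel (a := z) (b := w ^ orderOf g) (c := 1) (by rw [← h4, mul_one])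
    exact this
  have h6 : orderOf w ∣ orderOf g := orderOf_dvd_of_pow_eq_one h5
  have h7 : orderOf w ∣ 2 ^ k := orderOf_dvd_of_pow_eq_one hw
  have hc : Nat.Coprime (2 ^ k) (orderOf g) := Nat.Coprime.pow_left k (Nat.coprime_two_left.mpr hg)
  have h8 : orderOf w = 1 := Nat.Coprime.eq_one_of_dvd (hc.coprime_dvd_left h7) h6
  exact orderOf_eq_one_iff.mp h8

/-- A normal subgroup without nontrivial odd-order elements is a `2`-group. -/
theorem isPGroup_of_odd {K : Subgroup G} (h : ∀ x ∈ K, Odd (orderOf x) → x = 1) : IsPGroup 2 K := by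
  intro x
  have hpos : orderOf (x : G) ≠ 0 := (orderOf_pos _).ne'
  obtain ⟨a, m, hm, hn⟩ := Nat.exists_eq_two_pow_mul_odd hpos
  have hod : orderOf ((x : G) ^ 2 ^ a) = m := by
    rw [orderOf_pow_of_dvd (by positivity) (by rw [hn]; exact dvd_mul_right _ _), hn]
    exact Nat.mul_div_cancel_left _ (by positivity)
  have h1 := h _ (K.pow_mem x.2 (2 ^ a)) (by rw [hod]; exact hm)
  exact ⟨a, Subtype.ext (by simpa using h1)⟩

/-- The `2`-group case. -/
theorem sylow_le_core (hC : Subgroup.centralizer (pCore 2 G : Set G) ≤ pCore 2 G) (S : Sylow 2 G)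
    (hcl : ∀ x ∈ (S : Subgroup G), ∀ y ∈ (S : Subgroup G), ∀ z ∈ (S : Subgroup G), ⁅⁅x, y⁆, z⁆ = 1)
    (hodd : ∀ g : G, Odd (orderOf g) → g ∈ Subgroup.centralizer (omZ G : Set G)) :
    (S : Subgroup G) ≤ pCore 2 G := by
  classical
  set Q := pCore 2 G with hQ
  have hQn : Q.Normal := core_normal
  have hQS : Q ≤ (S : Subgroup G) := pCore_le_sylow 2 S
  have hQp : IsPGroup 2 Q := isPGroup_pCore 2
  let Z : Subgroup G := Q ⊓ Subgroup.centralizer (Q : Set G)
  haveI hZn : Z.Normal := by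
    haveI := hQn
    exact inferInstance
  have hZtw : ∀ z ∈ Z, ∃ k : ℕ, z ^ 2 ^ k = 1 := by
    intro z hz
    obtain ⟨k, hk⟩ := hQp ⟨z, hz.1⟩
    exact ⟨k, congrArg Subtype.val hk⟩
  have hZcomm : ∀ z ∈ Z, ∀ q ∈ Q, z * q = q * z := by
    intro z hz q hq
    exact (Subgroup.mem_centralizer_iff.mp hz.2 q hq).symm
  -- step a
  have hfixZ : ∀ g : G, Odd (orderOf g) → ∀ k : ℕ, ∀ z ∈ Z, z ^ 2 ^ k = 1 → g * z * g⁻¹ = z := by
    intro g hg k
    induction k with
    | zero =>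
      intro z _ hz
      simp only [pow_zero, pow_one] at hz
      rw [hz]
      group
    | succ k ih =>
      intro z hz hzk
      have h1 : z ^ 2 ∈ Z := Z.pow_mem hz 2
      have h2 : (z ^ 2) ^ 2 ^ k = 1 := by
        rw [← pow_mul, ← pow_succ']
        exact hzk
      have h3 := ih _ h1 h2
      have hgz : g * z * g⁻¹ ∈ Z := hZn.conj_mem z hz g
      let w := z⁻¹ * (g * z * g⁻¹)
      have hw : w ∈ Z := Z.mul_mem (Z.inv_mem hz) hgz
      have hcomm : Commute z (g * z * g⁻¹) := hZcomm z hz _ hgz.1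
      have hw2 : w ^ 2 = 1 := by
        have hcw : Commute z⁻¹ (g * z * g⁻¹) := hcomm.inv_left
        rw [hcw.mul_pow, inv_pow, conj_sq, h3]
        group
      have hwV : w ∈ omZ G := ⟨hw.1, fun q hq => hZcomm w hw q hq, hw2⟩
      have hgw : g * w * g⁻¹ = w := by
        have := Subgroup.mem_centralizer_iff.mp (hodd g hg) w hwV
        rw [← this]
        group
      have h1' : g * z * g⁻¹ = z * w := by
        simp only [w]
        group
      have hw1 := eq_one_of_twist (k := 1) hg h1' hgw (by simpa using hw2)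
      rw [h1', hw1, mul_one]
  -- step b
  let K : Subgroup G := (Subgroup.centralizer (((Q.map (QuotientGroup.mk' Z) : Subgroup (G ⧸ Z))) : Set (G ⧸ Z))).comap
    (QuotientGroup.mk' Z)
  haveI hKn : K.Normal := by
    haveI : (Q.map (QuotientGroup.mk' Z)).Normal := Subgroup.Normal.map hQn _ (QuotientGroup.mk'_surjective Z)
    exact Subgroup.Normal.comap inferInstance _
  have hKmem : ∀ x ∈ K, ∀ q ∈ Q, q⁻¹ * (x * q * x⁻¹) ∈ Z := by
    intro x hx q hq
    have h1 := Subgroup.mem_centralizer_iff.mp hx (QuotientGroup.mk' Z q) ⟨q, hq, rfl⟩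
    have h2 : (QuotientGroup.mk (q * x) : G ⧸ Z) = QuotientGroup.mk (x * q) := by
      simpa using h1
    rw [QuotientGroup.eq] at h2
    have h3 : (q * x)⁻¹ * (x * q) ∈ Z := h2
    have h4 := hZn.conj_mem _ h3 x
    have e : x * ((q * x)⁻¹ * (x * q)) * x⁻¹ = q⁻¹ * (x * q * x⁻¹) := by
      group
    rwa [e] at h4
  have hKodd : ∀ h ∈ K, Odd (orderOf h) → h = 1 := by
    intro h hh ho
    have hcomQ : ∀ q ∈ Q, q * h = h * q := by
      intro q hq
      have hw := hKmem h hh q hq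
      obtain ⟨k, hk⟩ := hZtw _ hw
      have h1 := hfixZ h ho k _ hw hk
      have h2 : h * q * h⁻¹ = q * (q⁻¹ * (h * q * h⁻¹)) := by group
      have h3 := eq_one_of_twist ho h2 h1 hk
      have h4 : h * q * h⁻¹ = q := by
        rw [h2, h3, mul_one]
      calc q * h = (h * q * h⁻¹) * h := by rw [h4]
        _ = h * q := by group
    have hhQ : h ∈ Q := hC (Subgroup.mem_centralizer_iff.mpr hcomQ)
    obtain ⟨k, hk⟩ := hQp ⟨h, hhQ⟩
    have hk' : h ^ 2 ^ k = 1 := congrArg Subtype.val hk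
    have h7 : orderOf h ∣ 2 ^ k := orderOf_dvd_of_pow_eq_one hk'
    have hc : Nat.Coprime (2 ^ k) (orderOf h) := Nat.Coprime.pow_left k (Nat.coprime_two_left.mpr ho)
    have h8 : orderOf h = 1 := Nat.Coprime.eq_one_of_dvd (hc.coprime_dvd_left h7) (dvd_refl _)
    exact orderOf_eq_one_iff.mp h8
  have hKp : IsPGroup 2 K := isPGroup_of_odd hKodd
  have hKQ : K ≤ Q := le_pCore hKn hKp
  have hSK : (S : Subgroup G) ≤ K := by
    intro s hs
    show QuotientGroup.mk' Z s ∈ Subgroup.centralizer (((Q.map (QuotientGroup.mk' Z) : Subgroup (G ⧸ Z))) : Set (G ⧸ Z))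
    rw [Subgroup.mem_centralizer_iff]
    rintro _ ⟨q, hq, rfl⟩
    have hw : s⁻¹ * q⁻¹ * s * q ∈ Z := by
      refine ⟨?_, ?_⟩
      · apply Q.mul_mem _ hq
        have := hQn.conj_mem q⁻¹ (Q.inv_mem hq) s⁻¹
        simpa using this
      · show _ ∈ Subgroup.centralizer (Q : Set G)
        rw [Subgroup.mem_centralizer_iff]
        intro q' hq'
        have h1 := hcl s⁻¹ ((S : Subgroup G).inv_mem hs) q⁻¹ ((S : Subgroup G).inv_mem (hQS hq)) q' (hQS hq')
        rw [commutatorElement_eq_one_iff_mul_comm, commutatorElement_def] at h1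
        have e : s⁻¹ * q⁻¹ * s⁻¹⁻¹ * q⁻¹⁻¹ = s⁻¹ * q⁻¹ * s * q := by group
        rw [e] at h1
        exact h1.symm
    show QuotientGroup.mk' Z q * QuotientGroup.mk' Z s = QuotientGroup.mk' Z s * QuotientGroup.mk' Z q
    rw [← map_mul, ← map_mul]
    show (QuotientGroup.mk (q * s) : G ⧸ Z) = QuotientGroup.mk (s * q)
    rw [QuotientGroup.eq]
    have e : (q * s)⁻¹ * (s * q) = s⁻¹ * q⁻¹ * s * q := by group
    rw [e]
    exact hw
  exact hSK.trans hKQ

/-- The main theorem: `J(S)` is normal. -/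
theorem thompson_normal_aux : ∀ (n : ℕ) (G : Type u) [Group G] [Finite G], Nat.card G = n →
    Subgroup.centralizer (pCore 2 G : Set G) ≤ pCore 2 G →
    ¬ Involves (Equiv.Perm (Fin 4)) G → ∀ S : Sylow 2 G,
    (∀ x ∈ (S : Subgroup G), ∀ y ∈ (S : Subgroup G), ∀ z ∈ (S : Subgroup G), ⁅⁅x, y⁆, z⁆ = 1) →
    (thompsonSubgroupOf 2 (S : Subgroup G)).Normal := by
  intro n
  induction n using Nat.strong_induction_on with
  | _ n ih =>
    intro G _ _ hn hC hS4 S hcl
    obtain ⟨P, hPn, hCP, hJP, hP2⟩ := exists_P hC hS4 S hcl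
    have hQn : (pCore 2 G).Normal := core_normal
    by_cases hP : P = ⊤
    · -- the `2`-group case
      have hodd : ∀ g : G, Odd (orderOf g) → g ∈ Subgroup.centralizer (omZ G : Set G) := by
        intro g hg
        obtain ⟨k, hk⟩ := hP2 g (by rw [hP]; trivial)
        have hc : Nat.Coprime (2 ^ k) (orderOf g) := Nat.Coprime.pow_left k (Nat.coprime_two_left.mpr hg)
        have h2 := Nat.gcd_eq_gcd_ab (2 ^ k) (orderOf g)
        rw [hc] at h2
        have h3 : g ^ ((1 : ℕ) : ℤ) = g ^ (((2 ^ k : ℕ) : ℤ) * Nat.gcdA (2 ^ k) (orderOf g) +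
            (orderOf g : ℤ) * Nat.gcdB (2 ^ k) (orderOf g)) := by rw [h2]
        rw [zpow_add, zpow_mul, zpow_mul, zpow_natCast, zpow_natCast (n := orderOf g), pow_orderOf_eq_one, one_zpow,
          mul_one] at h3
        have h4 : g = (g ^ 2 ^ k) ^ Nat.gcdA (2 ^ k) (orderOf g) := by
          rwa [pow_one, zpow_natCast] at h3
        rw [h4]
        exact Subgroup.zpow_mem _ hk _
      have hle := sylow_le_core hC S hcl hodd
      have heq : (S : Subgroup G) = pCore 2 G := le_antisymm hle (pCore_le_sylow 2 S)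
      have h1 : Subgroup.normalizer ((S : Subgroup G) : Set G) = ⊤ := by
        rw [heq]
        exact Subgroup.normalizer_eq_top_iff.mpr hQn
      have h2 := normalizer_le_normalizer_thompsonOf 2 (S : Subgroup G)
      rw [h1] at h2
      rw [← Subgroup.normalizer_eq_top_iff]
      exact top_le_iff.mp h2
    · -- induction
      haveI := hPn
      have hQP : pCore 2 G ≤ P := by
        intro q hq
        apply hCP
        rw [Subgroup.mem_centralizer_iff]
        intro z hz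
        exact hz.2.1 q hq
      have hlt : Nat.card P < n := by
        rw [← hn, ← Subgroup.card_mul_index P]
        have h1 : P.index ≠ 1 := fun h => hP (Subgroup.index_eq_one.mp h)
        have h2 : P.index ≠ 0 := Subgroup.index_ne_zero_of_finite
        have h3 : 0 < Nat.card P := Nat.card_pos
        have h4 : 2 ≤ P.index := by omega
        nlinarith
      obtain ⟨Q₀, hQ₀⟩ := Cfsg.Agent.Lib.PResid.exists_sylow_inf_of_normal S P
      have hmemQ₀ : ∀ x ∈ (Q₀ : Subgroup P), (x : G) ∈ (S : Subgroup G) := by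
        intro x hx
        have : (x : G) ∈ (Q₀ : Subgroup P).map P.subtype := ⟨x, hx, rfl⟩
        rw [hQ₀] at this
        exact this.1
      have hC' : Subgroup.centralizer (pCore 2 ↥P : Set ↥P) ≤ pCore 2 ↥P := by
        haveI hn2 : ((pCore 2 G).subgroupOf P).Normal := inferInstance
        have hp2 : IsPGroup 2 ((pCore 2 G).subgroupOf P) := by
          intro y
          obtain ⟨k, hk⟩ := (isPGroup_pCore 2 (G := G)) ⟨((y : P) : G), y.2⟩
          refine ⟨k, Subtype.ext (Subtype.ext ?_)⟩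
          have hk' : ((y : P) : G) ^ 2 ^ k = 1 := congrArg Subtype.val hk
          simpa using hk'
        have hle := le_pCore hn2 hp2
        intro x hx
        apply hle
        rw [Subgroup.mem_subgroupOf]
        apply hC
        rw [Subgroup.mem_centralizer_iff]
        intro q hq
        have h1 : (⟨q, hQP hq⟩ : P) ∈ pCore 2 ↥P := hle (Subgroup.mem_subgroupOf.mpr hq)
        have h2 := Subgroup.mem_centralizer_iff.mp hx _ h1
        exact congrArg Subtype.val h2
      have hS4' : ¬ Involves (Equiv.Perm (Fin 4)) ↥P := fun h => hS4 (involves_of_le h)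
      have hcl' : ∀ x ∈ (Q₀ : Subgroup P), ∀ y ∈ (Q₀ : Subgroup P), ∀ z ∈ (Q₀ : Subgroup P),
          ⁅⁅x, y⁆, z⁆ = 1 := by
        intro x hx y hy z hz
        apply Subtype.ext
        have := hcl _ (hmemQ₀ x hx) _ (hmemQ₀ y hy) _ (hmemQ₀ z hz)
        simpa [commutatorElement_def] using this
      have hJ₀ := ih (Nat.card P) hlt (↥P) rfl hC' hS4' Q₀ hcl'
      have hJmap : thompsonSubgroupOf 2 (S : Subgroup G) =
          (thompsonSubgroupOf 2 (Q₀ : Subgroup P)).map P.subtype := by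
        rw [← thompsonOf_map (Q₀ : Subgroup P) P.subtype (fun x _ hx => Subtype.ext hx), hQ₀]
        exact (thompsonOf_eq_of_le inf_le_left (le_inf (thompsonOf_le _ _) hJP)).symm
      have hPnorm : ∀ d ∈ P, ∀ j ∈ thompsonSubgroupOf 2 (S : Subgroup G),
          d * j * d⁻¹ ∈ thompsonSubgroupOf 2 (S : Subgroup G) := by
        intro d hd j hj
        rw [hJmap] at hj ⊢
        obtain ⟨j₀, hj₀, rfl⟩ := hj
        exact ⟨⟨d, hd⟩ * j₀ * ⟨d, hd⟩⁻¹, hJ₀.conj_mem j₀ hj₀ ⟨d, hd⟩, rfl⟩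
      constructor
      intro j hj g
      obtain ⟨d, hd, m, hm, rfl⟩ := frattini_thompson S P hJP g
      have h1 := (Subgroup.mem_normalizer_iff.mp hm j).mp hj
      have h2 := hPnorm d hd _ h1
      have e : d * m * j * (d * m)⁻¹ = d * (m * j * m⁻¹) * d⁻¹ := by group
      rw [e]
      exact h2

end Core

section Final

variable {G : Type u} [Group G] [Finite G]

theorem comm3_of_lcs {S : Subgroup G} (h : Subgroup.lowerCentralSeries S 2 = ⊥) :
    ∀ x ∈ S, ∀ y ∈ S, ∀ z ∈ S, ⁅⁅x, y⁆, z⁆ = 1 := by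
  intro x hx y hy z hz
  have h1 : ⁅x, y⁆ ∈ Subgroup.lowerCentralSeries S 1 := Subgroup.commutator_mem_commutator hx hy
  have h2 : ⁅⁅x, y⁆, z⁆ ∈ Subgroup.lowerCentralSeries S 2 := Subgroup.commutator_mem_commutator h1 hz
  rw [h] at h2
  exact h2

theorem final (hcon : IsPConstrained 2 G) (hS4 : ¬ Involves (Equiv.Perm (Fin 4)) G) (S : Sylow 2 G)
    (hcl : Subgroup.lowerCentralSeries (S : Subgroup G) 2 = ⊥) :
    Subgroup.normalizer ((thompsonSubgroupOf 2 (S : Subgroup G)) : Set G) ⊔ pPrimeCore 2 G = ⊤ := by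
  classical
  set O := pPrimeCore 2 G with hO
  haveI hOn : O.Normal := inferInstance
  let π : G →* G ⧸ O := QuotientGroup.mk' O
  have hπ : Function.Surjective π := QuotientGroup.mk'_surjective O
  have hcon' : IsPConstrained 2 (G ⧸ O) :=
    Cfsg.Agent.Lib.PConstr.isPConstrained_quotient_iff.mp hcon
  have hC : Subgroup.centralizer (pCore 2 (G ⧸ O) : Set (G ⧸ O)) ≤ pCore 2 (G ⧸ O) :=
    (Cfsg.Agent.Lib.PConstr.isPConstrained_iff_of_bot Cfsg.Agent.Lib.PConstr.pPrimeCore_quotient_eq_bot).mp hcon'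
  have hS4' : ¬ Involves (Equiv.Perm (Fin 4)) (G ⧸ O) := fun h =>
    hS4 (Involves.trans h (involves_of_surj_top π hπ))
  let Sb : Sylow 2 (G ⧸ O) := S.mapSurjective hπ
  have hSb : (Sb : Subgroup (G ⧸ O)) = (S : Subgroup G).map π := rfl
  have hcl3 := comm3_of_lcs hcl
  have hclb : ∀ x ∈ (Sb : Subgroup (G ⧸ O)), ∀ y ∈ (Sb : Subgroup (G ⧸ O)), ∀ z ∈ (Sb : Subgroup (G ⧸ O)),
      ⁅⁅x, y⁆, z⁆ = 1 := by
    rintro _ ⟨x, hx, rfl⟩ _ ⟨y, hy, rfl⟩ _ ⟨z, hz, rfl⟩
    rw [← map_commutatorElement, ← map_commutatorElement, hcl3 x hx y hy z hz, map_one]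
  have hnorm := thompson_normal_aux _ (G ⧸ O) rfl hC hS4' Sb hclb
  have hmap : thompsonSubgroupOf 2 (Sb : Subgroup (G ⧸ O)) =
      (thompsonSubgroupOf 2 (S : Subgroup G)).map π := by
    rw [hSb]
    apply thompsonOf_map
    intro x hx hx1
    have h1 : x ∈ O := (QuotientGroup.eq_one_iff x).mp hx1
    have h2 : x ∈ (S : Subgroup G) ⊓ O := ⟨hx, h1⟩
    rw [Cfsg.Agent.Lib.PPrimeP.inf_pPrimeCore_eq_bot S.isPGroup'] at h2
    exact h2
  set J := thompsonSubgroupOf 2 (S : Subgroup G) with hJ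
  have hJp : IsPGroup 2 J := S.isPGroup'.to_le (thompsonOf_le _ _)
  rw [eq_top_iff]
  intro g _
  have hy : ∀ t ∈ J, g * t * g⁻¹ ∈ J ⊔ O := by
    intro t ht
    have h1 : π t ∈ thompsonSubgroupOf 2 (Sb : Subgroup (G ⧸ O)) := by
      rw [hmap]
      exact ⟨t, ht, rfl⟩
    have h2 := hnorm.conj_mem _ h1 (π g)
    rw [hmap] at h2
    obtain ⟨t', ht', he⟩ := h2
    have h3 : π (t'⁻¹ * (g * t * g⁻¹)) = 1 := by
      rw [map_mul, map_inv, he, map_mul, map_mul, map_inv]
      group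
    have h4 : t'⁻¹ * (g * t * g⁻¹) ∈ O := (QuotientGroup.eq_one_iff _).mp h3
    have e : g * t * g⁻¹ = t' * (t'⁻¹ * (g * t * g⁻¹)) := by group
    rw [e]
    exact Subgroup.mul_mem _ (Subgroup.mem_sup_left ht') (Subgroup.mem_sup_right h4)
  obtain ⟨n, hn, hng⟩ := Cfsg.Agent.Lib.PConstr.exists_mul_mem_normalizer' hJp g hy
  have e : g = (n * g) * (g⁻¹ * n⁻¹ * g) := by group
  rw [e]
  apply Subgroup.mul_mem _ (Subgroup.mem_sup_left hng)
  apply Subgroup.mem_sup_right
  have := hOn.conj_mem _ (O.inv_mem hn) g⁻¹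
  simpa using this

end Final

end Cfsg.Agent.Lib.AbOff2
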