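import Mathlib
import Cfsg.Prelude.Def_DStar
import Cfsg.Agent.Lib.AlperinControl

/-!
# The subgroup `D*`: relative family and basic properties.

`fam T`: the abelian subgroups `A ≤ T` such that every `x ∈ T` with `⟨A, x⟩` of class at most two centralizes `A`.
`dS T = sSup (fam T)`. For a `p`-subgroup `T` the members of `fam T` commute pairwise and `dS T ∈ fam T`.
-/

set_option autoImplicit false
set_option linter.unusedSectionVars false

open Cfsg
open scoped commutatorElement

namespace Cfsg.Agent.Lib.DStarCore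

open Cfsg.Agent.Lib.AlperinControl

variable {G : Type*} [Group G]

/-- A commutator condition propagates from generators. -/
theorem comm_closure (G₀ : Set G) (E : Subgroup G) (hEc : ∀ e ∈ E, ∀ g ∈ G₀, e * g = g * e)
    (hg : ∀ g ∈ G₀, ∀ h ∈ G₀, ⁅g, h⁆ ∈ E) :
    ∀ t ∈ Subgroup.closure G₀, ∀ u ∈ Subgroup.closure G₀, ⁅t, u⁆ ∈ E := by
  -- elements of the closure commute with `E`
  have hc : ∀ t ∈ Subgroup.closure G₀, ∀ e ∈ E, t * e = e * t := by
    intro t ht e he
    have h1 : Subgroup.closure G₀ ≤ Subgroup.centralizer ({e} : Set G) := by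
      rw [Subgroup.closure_le]
      intro g hg'
      show g ∈ Subgroup.centralizer ({e} : Set G)
      rw [Subgroup.mem_centralizer_singleton_iff]
      exact (hEc e he g hg').symm
    have h2 := h1 ht
    rw [Subgroup.mem_centralizer_singleton_iff] at h2
    exact h2
  have hconj : ∀ t ∈ Subgroup.closure G₀, ∀ e ∈ E, t * e * t⁻¹ = e := by
    intro t ht e he
    rw [hc t ht e he]; group
  have step1 : ∀ u ∈ G₀, ∀ t ∈ Subgroup.closure G₀, ⁅t, u⁆ ∈ E := by
    intro u hu t ht
    induction ht using Subgroup.closure_induction with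
    | mem g hg' => exact hg g hg' u hu
    | one => simp
    | mul a b ha _ h1 h2 =>
      have e1 : ⁅a * b, u⁆ = a * ⁅b, u⁆ * a⁻¹ * ⁅a, u⁆ := by
        simp only [commutatorElement_def]; group
      rw [e1, hconj a ha _ h2]
      exact E.mul_mem h2 h1
    | inv a ha h1 =>
      have e1 : ⁅a⁻¹, u⁆ = a⁻¹ * ⁅a, u⁆⁻¹ * a⁻¹⁻¹ := by
        simp only [commutatorElement_def]; group
      rw [e1, hconj a⁻¹ (Subgroup.inv_mem _ ha) _ (E.inv_mem h1)]
      exact E.inv_mem h1
  intro t ht u hu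
  induction hu using Subgroup.closure_induction with
  | mem g hg' => exact step1 g hg' t ht
  | one => simp
  | mul a b ha _ h1 h2 =>
    have e1 : ⁅t, a * b⁆ = ⁅t, a⁆ * (a * ⁅t, b⁆ * a⁻¹) := by
      simp only [commutatorElement_def]; group
    rw [e1, hconj a ha _ h2]
    exact E.mul_mem h1 h2
  | inv a ha h1 =>
    have e1 : ⁅t, a⁻¹⁆ = a⁻¹ * ⁅t, a⁆⁻¹ * a⁻¹⁻¹ := by
      simp only [commutatorElement_def]; group
    rw [e1, hconj a⁻¹ (Subgroup.inv_mem _ ha) _ (E.inv_mem h1)]
    exact E.inv_mem h1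

/-- Class at most two from generators. -/
theorem class_two_of_gens (G₀ : Set G) (E : Subgroup G) (hEc : ∀ e ∈ E, ∀ g ∈ G₀, e * g = g * e)
    (hg : ∀ g ∈ G₀, ∀ h ∈ G₀, ⁅g, h⁆ ∈ E) :
    ⁅⁅Subgroup.closure G₀, Subgroup.closure G₀⁆, Subgroup.closure G₀⁆ = ⊥ := by
  have h1 : ⁅Subgroup.closure G₀, Subgroup.closure G₀⁆ ≤ E := by
    rw [Subgroup.commutator_le]
    exact comm_closure G₀ E hEc hg
  rw [eq_bot_iff, Subgroup.commutator_le]
  intro e he t ht
  rw [Subgroup.mem_bot, commutatorElement_eq_one_iff_mul_comm]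
  have h2 : Subgroup.closure G₀ ≤ Subgroup.centralizer ({e} : Set G) := by
    rw [Subgroup.closure_le]
    intro g hg'
    show g ∈ Subgroup.centralizer ({e} : Set G)
    rw [Subgroup.mem_centralizer_singleton_iff]
    exact (hEc e (h1 he) g hg').symm
  have h3 := h2 ht
  rw [Subgroup.mem_centralizer_singleton_iff] at h3
  exact h3.symm

/-- The class condition. -/
def cond (A : Subgroup G) (x : G) : Prop :=
  ⁅⁅A ⊔ Subgroup.zpowers x, A ⊔ Subgroup.zpowers x⁆, A ⊔ Subgroup.zpowers x⁆ = ⊥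

theorem sup_zpowers_eq_closure (A : Subgroup G) (x : G) :
    A ⊔ Subgroup.zpowers x = Subgroup.closure ((A : Set G) ∪ {x}) := by
  rw [Subgroup.closure_union, Subgroup.closure_eq, Subgroup.zpowers_eq_closure]

theorem cond_mono {A B : Subgroup G} {x : G} (hAB : A ≤ B) (h : cond B x) : cond A x := by
  unfold cond at h ⊢
  rw [eq_bot_iff, ← h]
  have hle : A ⊔ Subgroup.zpowers x ≤ B ⊔ Subgroup.zpowers x := sup_le_sup_right hAB _
  exact Subgroup.commutator_mono (Subgroup.commutator_mono hle hle) hle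

theorem cond_of_le {A U : Subgroup G} {x : G} (hA : A ≤ U) (hx : x ∈ U)
    (h : ⁅⁅U, U⁆, U⁆ = ⊥) : cond A x := by
  unfold cond
  rw [eq_bot_iff, ← h]
  have hle : A ⊔ Subgroup.zpowers x ≤ U := sup_le hA ((Subgroup.zpowers_le).mpr hx)
  exact Subgroup.commutator_mono (Subgroup.commutator_mono hle hle) hle

/-- A quadratic element normalizing an abelian subgroup gives class at most two. -/
theorem cond_of_quadratic {V : Subgroup G} {x : G} (hV : ∀ u ∈ V, ∀ v ∈ V, u * v = v * u)
    (hxV : ∀ v ∈ V, x * v * x⁻¹ ∈ V) (hq : ∀ v ∈ V, ⁅v, x⁆ * x = x * ⁅v, x⁆) : cond V x := by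
  unfold cond
  rw [sup_zpowers_eq_closure]
  let E : Subgroup G := V ⊓ Subgroup.centralizer ({x} : Set G)
  have hcomm : ∀ v ∈ V, ⁅v, x⁆ ∈ E := by
    intro v hv
    refine ⟨?_, ?_⟩
    · have e : ⁅v, x⁆ = v * (x * v⁻¹ * x⁻¹) := by
        rw [commutatorElement_def]; group
      rw [e]
      exact V.mul_mem hv (hxV _ (V.inv_mem hv))
    · show ⁅v, x⁆ ∈ Subgroup.centralizer ({x} : Set G)
      rw [Subgroup.mem_centralizer_singleton_iff]
      exact hq v hv
  apply class_two_of_gens _ E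
  · rintro e he g (hg | hg)
    · exact hV e he.1 g hg
    · have hgx : g = x := hg
      rw [hgx]
      have : e ∈ Subgroup.centralizer ({x} : Set G) := he.2
      rw [Subgroup.mem_centralizer_singleton_iff] at this
      exact this
  · rintro g (hg | hg) h (hh | hh)
    · have : ⁅g, h⁆ = 1 := commutatorElement_eq_one_iff_mul_comm.mpr (hV g hg h hh)
      rw [this]; exact E.one_mem
    · have hhx : h = x := hh
      rw [hhx]; exact hcomm g hg
    · have hgx : g = x := hg
      rw [hgx, ← commutatorElement_inv]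
      exact E.inv_mem (hcomm h hh)
    · have hgx : g = x := hg
      have hhx : h = x := hh
      rw [hgx, hhx, commutatorElement_self]
      exact E.one_mem

/-- The product of two mutually normalizing abelian subgroups has class at most two. -/
theorem class_two_of_abelian {V W : Subgroup G} (hV : ∀ u ∈ V, ∀ v ∈ V, u * v = v * u)
    (hW : ∀ u ∈ W, ∀ v ∈ W, u * v = v * u) (hVW : ∀ v ∈ V, ∀ w ∈ W, v * w * v⁻¹ ∈ W)
    (hWV : ∀ w ∈ W, ∀ v ∈ V, w * v * w⁻¹ ∈ V) : ⁅⁅V ⊔ W, V ⊔ W⁆, V ⊔ W⁆ = ⊥ := by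
  have heq : V ⊔ W = Subgroup.closure ((V : Set G) ∪ (W : Set G)) := by
    rw [Subgroup.closure_union, Subgroup.closure_eq, Subgroup.closure_eq]
  rw [heq]
  have hcm : ∀ v ∈ V, ∀ w ∈ W, ⁅v, w⁆ ∈ V ⊓ W := by
    intro v hv w hw
    refine ⟨?_, ?_⟩
    · have e : ⁅v, w⁆ = v * (w * v⁻¹ * w⁻¹) := by
        rw [commutatorElement_def]; group
      rw [e]
      exact V.mul_mem hv (hWV w hw _ (V.inv_mem hv))
    · rw [commutatorElement_def]
      exact W.mul_mem (hVW v hv w hw) (W.inv_mem hw)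
  apply class_two_of_gens _ (V ⊓ W)
  · rintro e he g (hg | hg)
    · exact hV e he.1 g hg
    · exact hW e he.2 g hg
  · rintro g (hg | hg) h (hh | hh)
    · have : ⁅g, h⁆ = 1 := commutatorElement_eq_one_iff_mul_comm.mpr (hV g hg h hh)
      rw [this]; exact Subgroup.one_mem _
    · exact hcm g hg h hh
    · rw [← commutatorElement_inv]
      exact Subgroup.inv_mem _ (hcm h hh g hg)
    · have : ⁅g, h⁆ = 1 := commutatorElement_eq_one_iff_mul_comm.mpr (hW g hg h hh)
      rw [this]; exact Subgroup.one_mem _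

/-- The family behind `D*`, relative to `T ≤ G`. -/
def fam (T : Subgroup G) : Set (Subgroup G) :=
  {A | A ≤ T ∧ (∀ a ∈ A, ∀ b ∈ A, a * b = b * a) ∧ ∀ x ∈ T, cond A x → ∀ a ∈ A, a * x = x * a}

/-- `D*`, relative to `T ≤ G`. -/
def dS (T : Subgroup G) : Subgroup G := sSup (fam T)

theorem fam_restrict {A T U : Subgroup G} (hA : A ∈ fam T) (hAU : A ≤ U) (hUT : U ≤ T) : A ∈ fam U :=
  ⟨hAU, hA.2.1, fun x hx => hA.2.2 x (hUT hx)⟩

theorem cond_map {H : Type*} [Group H] (f : G →* H) (hf : Function.Injective f) (A : Subgroup G) (x : G) :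
    cond (A.map f) (f x) ↔ cond A x := by
  unfold cond
  have e : (Subgroup.zpowers (f x)) = (Subgroup.zpowers x).map f := (MonoidHom.map_zpowers f x).symm
  rw [e, ← Subgroup.map_sup, ← Subgroup.map_commutator, ← Subgroup.map_commutator]
  exact Subgroup.map_eq_bot_iff_of_injective _ hf

theorem fam_cj {A T : Subgroup G} (hA : A ∈ fam T) (g : G) : cj g A ∈ fam (cj g T) := by
  refine ⟨Subgroup.map_mono hA.1, ?_, ?_⟩
  · rintro _ ⟨a, ha, rfl⟩ _ ⟨b, hb, rfl⟩
    rw [← map_mul, ← map_mul, hA.2.1 a ha b hb]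
  · rintro _ ⟨x, hx, rfl⟩ hc _ ⟨a, ha, rfl⟩
    have h1 := (cond_map (MulAut.conj g).toMonoidHom (MulAut.conj g).injective A x).mp hc
    rw [← map_mul, ← map_mul, hA.2.2 x hx h1 a ha]

theorem fam_cj_of_mem [Finite G] {A T : Subgroup G} (hA : A ∈ fam T) {g : G} (hg : g ∈ T) : cj g A ∈ fam T := by
  have h1 := fam_cj hA g
  rwa [cj_eq_of_mem_NN (Subgroup.le_normalizer hg)] at h1

section PGroup

variable {p : ℕ} [hp : Fact p.Prime] [Finite G]

/-- A proper subgroup of a `p`-subgroup lies in a proper subgroup normal in it. -/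
theorem exists_normal_lt {T A : Subgroup G} (hT : IsPGroup p T) (hA : A < T) :
    ∃ N : Subgroup G, A ≤ N ∧ N < T ∧ ∀ t ∈ T, ∀ n ∈ N, t * n * t⁻¹ ∈ N := by
  have hnil : Group.IsNilpotent T := hT.isNilpotent
  have hlt : A.subgroupOf T ≠ ⊤ := by
    intro h
    have h2 : T ≤ A := Subgroup.subgroupOf_eq_top.mp h
    exact absurd (le_antisymm hA.le h2) hA.ne
  obtain ⟨M, hM, hAM⟩ := (eq_top_or_exists_le_coatom (A.subgroupOf T)).resolve_left hlt
  have hMn : M.Normal := Subgroup.NormalizerCondition.normal_of_coatom M Group.normalizerCondition_of_isNilpotent hM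
  refine ⟨M.map T.subtype, ?_, ?_, ?_⟩
  · intro a ha
    exact ⟨⟨a, hA.le ha⟩, hAM ha, rfl⟩
  · refine lt_of_le_of_ne (Subgroup.map_subtype_le _) ?_
    intro h
    apply hM.1
    rw [eq_top_iff]
    intro t _
    have h1 : (t : G) ∈ M.map T.subtype := by rw [h]; exact t.2
    obtain ⟨u, hu, hut⟩ := h1
    have : u = t := Subtype.ext hut
    rwa [← this]
  · rintro t ht _ ⟨n, hn, rfl⟩
    exact ⟨_, hMn.conj_mem n hn ⟨t, ht⟩, rfl⟩

/-- Members of the family commute pairwise. -/
theorem fam_commute : ∀ n : ℕ, ∀ T : Subgroup G, Nat.card T = n → IsPGroup p T →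
    ∀ A ∈ fam T, ∀ B ∈ fam T, ∀ a ∈ A, ∀ b ∈ B, a * b = b * a := by
  intro n
  induction n using Nat.strong_induction_on with
  | _ n ih =>
  intro T hn hT A hA B hB
  have hcardlt : ∀ U : Subgroup G, U < T → Nat.card U < Nat.card T := by
    intro U hU
    refine lt_of_le_of_ne (Subgroup.card_le_of_le hU.le) fun he => ?_
    exact hU.ne (Subgroup.eq_of_le_of_card_ge hU.le he.ge)
  by_cases hU : A ⊔ B = T
  swap
  · have hUlt : A ⊔ B < T := lt_of_le_of_ne (sup_le hA.1 hB.1) hU
    exact ih _ (by rw [← hn]; exact hcardlt _ hUlt) (A ⊔ B) rfl (hT.to_le hUlt.le) A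
      (fam_restrict hA le_sup_left hUlt.le) B (fam_restrict hB le_sup_right hUlt.le)
  by_cases hAT : A = T
  · intro a ha b hb
    exact hA.2.1 a ha b (by rw [hAT]; exact hB.1 hb)
  by_cases hBT : B = T
  · intro a ha b hb
    exact hB.2.1 a (by rw [hBT]; exact hA.1 ha) b hb
  -- the normal closures are abelian
  have hnc : ∀ C ∈ fam T, C ≠ T → ∃ C₁ : Subgroup G, C ≤ C₁ ∧ C₁ ≤ T ∧ (∀ u ∈ C₁, ∀ v ∈ C₁, u * v = v * u) ∧
      ∀ t ∈ T, ∀ u ∈ C₁, t * u * t⁻¹ ∈ C₁ := by
    intro C hC hCT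
    have hlt : C < T := lt_of_le_of_ne hC.1 hCT
    obtain ⟨N, hCN, hNT, hNn⟩ := exists_normal_lt hT hlt
    let F : Set G := ⋃ t ∈ (T : Set G), (cj t C : Set G)
    have hFN : ∀ t ∈ T, cj t C ≤ N := fun t ht =>
      cj_le_iff.mpr fun a ha => hNn t ht a (hCN ha)
    have hmem : ∀ t ∈ T, cj t C ∈ fam N := fun t ht =>
      fam_restrict (fam_cj_of_mem hC ht) (hFN t ht) hNT.le
    have hcomm := ih _ (by rw [← hn]; exact hcardlt _ hNT) N rfl (hT.to_le hNT.le)
    have hFcomm : ∀ u ∈ F, ∀ v ∈ F, u * v = v * u := by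
      intro u hu v hv
      simp only [F, Set.mem_iUnion] at hu hv
      obtain ⟨t, ht, hut⟩ := hu
      obtain ⟨s, hs, hvs⟩ := hv
      exact hcomm _ (hmem t ht) _ (hmem s hs) u hut v hvs
    refine ⟨Subgroup.closure F, ?_, ?_, ?_, ?_⟩
    · intro c hc
      apply Subgroup.subset_closure
      simp only [F, Set.mem_iUnion]
      refine ⟨1, T.one_mem, ?_⟩
      rw [cj_one]
      exact hc
    · rw [Subgroup.closure_le]
      intro u hu
      simp only [F, Set.mem_iUnion] at hu
      obtain ⟨t, ht, hut⟩ := hu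
      exact hNT.le (hFN t ht hut)
    · intro u hu v hv
      have h1 : Subgroup.closure F ≤ Subgroup.centralizer (Subgroup.closure F : Set G) := by
        rw [Subgroup.closure_le]
        intro x hx
        show x ∈ Subgroup.centralizer (Subgroup.closure F : Set G)
        rw [Subgroup.mem_centralizer_iff]
        intro y hy
        have h2 : Subgroup.closure F ≤ Subgroup.centralizer ({x} : Set G) := by
          rw [Subgroup.closure_le]
          intro z hz
          show z ∈ Subgroup.centralizer ({x} : Set G)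
          rw [Subgroup.mem_centralizer_singleton_iff]
          exact hFcomm z hz x hx
        have h3 := h2 hy
        rw [Subgroup.mem_centralizer_singleton_iff] at h3
        exact h3
      exact (Subgroup.mem_centralizer_iff.mp (h1 hu) v hv).symm
    · intro t ht u hu
      have h1 : Subgroup.closure F ≤ (Subgroup.closure F).comap (MulAut.conj t).toMonoidHom := by
        rw [Subgroup.closure_le]
        intro x hx
        show t * x * t⁻¹ ∈ Subgroup.closure F
        apply Subgroup.subset_closure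
        simp only [F, Set.mem_iUnion] at hx ⊢
        obtain ⟨s, hs, hxs⟩ := hx
        refine ⟨t * s, T.mul_mem ht hs, ?_⟩
        rw [cj_mul]
        exact conj_mem_cj hxs
      exact h1 hu
  obtain ⟨A₁, hAA₁, hA₁T, hA₁c, hA₁n⟩ := hnc A hA hAT
  obtain ⟨B₁, hBB₁, hB₁T, hB₁c, hB₁n⟩ := hnc B hB hBT
  have hcl := class_two_of_abelian hA₁c hB₁c (fun v hv w hw => hB₁n v (hA₁T hv) w hw)
    (fun w hw v hv => hA₁n w (hB₁T hw) v hv)
  have hTle : T ≤ A₁ ⊔ B₁ := by
    rw [← hU]
    exact sup_le_sup hAA₁ hBB₁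
  intro a ha b hb
  have hbT : b ∈ T := hB.1 hb
  have hc : cond A b := cond_of_le (hAA₁.trans le_sup_left) (hTle hbT) hcl
  exact hA.2.2 b hbT hc a ha

theorem fam_comm {T : Subgroup G} (hT : IsPGroup p T) {A B : Subgroup G} (hA : A ∈ fam T) (hB : B ∈ fam T) :
    ∀ a ∈ A, ∀ b ∈ B, a * b = b * a :=
  fam_commute _ T rfl hT A hA B hB

/-- `dS T` is commutative. -/
theorem dS_comm {T : Subgroup G} (hT : IsPGroup p T) : ∀ a ∈ dS T, ∀ b ∈ dS T, a * b = b * a := by
  have h1 : ∀ B ∈ fam T, dS T ≤ Subgroup.centralizer (B : Set G) := by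
    intro B hB
    apply sSup_le
    intro A hA a ha
    rw [Subgroup.mem_centralizer_iff]
    intro b hb
    exact fam_comm hT hB hA b hb a ha
  have h2 : dS T ≤ Subgroup.centralizer (dS T : Set G) := by
    intro a ha
    rw [Subgroup.mem_centralizer_iff]
    intro b hb
    have h3 : dS T ≤ Subgroup.centralizer ({a} : Set G) := by
      apply sSup_le
      intro B hB x hx
      rw [Subgroup.mem_centralizer_singleton_iff]
      have := Subgroup.mem_centralizer_iff.mp (h1 B hB ha) x hx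
      exact this
    have h4 := h3 hb
    rw [Subgroup.mem_centralizer_singleton_iff] at h4
    exact h4
  intro a ha b hb
  exact Subgroup.mem_centralizer_iff.mp (h2 hb) a ha

theorem dS_le (T : Subgroup G) : dS T ≤ T := sSup_le fun _ hA => hA.1

theorem le_dS {T A : Subgroup G} (hA : A ∈ fam T) : A ≤ dS T := le_sSup hA

/-- `dS T` is the largest member of the family. -/
theorem dS_mem {T : Subgroup G} (hT : IsPGroup p T) : dS T ∈ fam T := by
  refine ⟨dS_le T, dS_comm hT, ?_⟩
  intro x hx hc a ha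
  have h1 : dS T ≤ Subgroup.centralizer ({x} : Set G) := by
    apply sSup_le
    intro A hA y hy
    rw [Subgroup.mem_centralizer_singleton_iff]
    have := hA.2.2 x hx (cond_mono (le_sSup hA) hc) y hy
    exact this
  have h2 := h1 ha
  rw [Subgroup.mem_centralizer_singleton_iff] at h2
  exact h2

theorem dS_cj (T : Subgroup G) (g : G) : dS (cj g T) = cj g (dS T) := by
  apply le_antisymm
  · apply sSup_le
    intro A hA
    have h1 := fam_cj hA g⁻¹
    have h2 : cj g⁻¹ (cj g T) = T := by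
      rw [← cj_mul]; simp [cj_one]
    rw [h2] at h1
    have h3 := le_sSup h1
    have h4 : A = cj g (cj g⁻¹ A) := by
      rw [← cj_mul]; simp [cj_one]
    rw [h4]
    exact Subgroup.map_mono h3
  · rw [Subgroup.map_le_iff_le_comap]
    apply sSup_le
    intro A hA
    have h1 := fam_cj hA g
    intro a ha
    exact le_sSup h1 (conj_mem_cj ha)

theorem mem_NN_dS {T : Subgroup G} {g : G} (hg : g ∈ NN T) : g ∈ NN (dS T) := by
  apply mem_NN_of_forall
  intro x hx
  have h1 := dS_cj T g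
  rw [cj_eq_of_mem_NN hg] at h1
  rw [h1]
  exact conj_mem_cj hx

theorem dS_normal {T : Subgroup G} {t : G} (ht : t ∈ T) : t ∈ NN (dS T) :=
  mem_NN_dS (Subgroup.le_normalizer ht)

end PGroup

/-! ## Comparison with `Cfsg.dStar` -/

section Compare

variable {p : ℕ}

theorem fam_of_dStarFamily {T : Subgroup G} {A₀ : Subgroup T} (h : A₀ ∈ dStarFamily T) :
    A₀.map T.subtype ∈ fam T := by
  obtain ⟨h1, h2⟩ := h
  refine ⟨Subgroup.map_subtype_le _, ?_, ?_⟩
  · rintro _ ⟨a, ha, rfl⟩ _ ⟨b, hb, rfl⟩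
    have := congrArg (fun t : A₀ => ((t : T) : G)) (mul_comm' (⟨a, ha⟩ : A₀) ⟨b, hb⟩)
    exact this
  · rintro x hx hc _ ⟨a, ha, rfl⟩
    have h3 := (cond_map T.subtype T.subtype_injective A₀ ⟨x, hx⟩).mp hc
    have h4 := h2 ⟨x, hx⟩ h3 a ha
    exact congrArg Subtype.val h4

theorem dStarFamily_of_fam {T A : Subgroup G} (h : A ∈ fam T) : A.subgroupOf T ∈ dStarFamily T := by
  obtain ⟨h1, h2, h3⟩ := h
  refine ⟨⟨⟨fun x y => ?_⟩⟩, ?_⟩
  · apply Subtype.ext
    apply Subtype.ext
    exact h2 _ x.2 _ y.2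
  · intro x hc a ha
    have hmap : (A.subgroupOf T).map T.subtype = A := Subgroup.map_subgroupOf_eq_of_le h1
    have h4 : cond A (x : G) := by
      rw [← hmap]
      exact (cond_map T.subtype T.subtype_injective (A.subgroupOf T) x).mpr hc
    exact Subtype.ext (h3 x x.2 h4 a ha)

theorem dStarOf_eq (T : Subgroup G) : dStarOf T = dS T := by
  apply le_antisymm
  · unfold dStarOf dStar
    rw [Subgroup.map_le_iff_le_comap]
    apply sSup_le
    intro A₀ hA₀ a ha
    exact le_sSup (fam_of_dStarFamily hA₀) ⟨a, ha, rfl⟩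
  · apply sSup_le
    intro A hA
    have h1 : (A.subgroupOf T).map T.subtype = A := Subgroup.map_subgroupOf_eq_of_le hA.1
    rw [← h1]
    exact Subgroup.map_mono (le_sSup (dStarFamily_of_fam hA))

theorem dStar_eq (S : Type*) [Group S] : dStar S = (dS (⊤ : Subgroup S)) := by
  apply le_antisymm
  · apply sSup_le
    intro A hA
    refine le_sSup ⟨le_top, ?_, ?_⟩
    · have := hA.1
      intro a ha b hb
      exact congrArg Subtype.val (mul_comm' (⟨a, ha⟩ : A) ⟨b, hb⟩)
    · intro x _ hc a ha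
      exact hA.2 x hc a ha
  · apply sSup_le
    intro A hA
    refine le_sSup ⟨⟨⟨fun x y => ?_⟩⟩, ?_⟩
    · apply Subtype.ext
      exact hA.2.1 _ x.2 _ y.2
    · intro x hc a ha
      exact hA.2.2 x trivial hc a ha

end Compare

end Cfsg.Agent.Lib.DStarCore
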