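import Mathlib
import Cfsg.Prelude.Def_PLocal
import Cfsg.Agent.S0649
import Cfsg.Agent.S0650
import Cfsg.Agent.Lib.DStarCore

/-!
# Replacement by a normal abelian subgroup inside the abelian subgroups of largest order.
-/

set_option autoImplicit false

open Cfsg
open scoped commutatorElement

namespace Cfsg.Agent.Lib.AbReplace

variable {S : Type*} [Group S]

theorem comm_sup (A B : Subgroup S) (hA : ∀ a ∈ A, ∀ b ∈ A, a * b = b * a)
    (hB : ∀ a ∈ B, ∀ b ∈ B, a * b = b * a) (hAB : ∀ a ∈ A, ∀ b ∈ B, a * b = b * a) :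
    ∀ x ∈ A ⊔ B, ∀ y ∈ A ⊔ B, x * y = y * x := by
  have heq : A ⊔ B = Subgroup.closure ((A : Set S) ∪ (B : Set S)) := by
    rw [Subgroup.closure_union, Subgroup.closure_eq, Subgroup.closure_eq]
  rw [heq]
  intro x hx y hy
  have h := Cfsg.Agent.Lib.DStarCore.comm_closure _ (⊥ : Subgroup S)
    (fun e he g _ => by rw [Subgroup.mem_bot.mp he, one_mul, mul_one]) ?_ x hx y hy
  · exact commutatorElement_eq_one_iff_mul_comm.mp (Subgroup.mem_bot.mp h)
  · rintro g (hg | hg) h (hh | hh) <;> rw [Subgroup.mem_bot, commutatorElement_eq_one_iff_mul_comm]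
    · exact hA g hg h hh
    · exact hAB g hg h hh
    · exact (hAB h hh g hg).symm
    · exact hB g hg h hh

theorem isMulCommutative_of_forall {A : Subgroup S} (h : ∀ a ∈ A, ∀ b ∈ A, a * b = b * a) :
    IsMulCommutative A :=
  ⟨⟨fun x y => Subtype.ext (h _ x.2 _ y.2)⟩⟩

theorem forall_of_isMulCommutative {A : Subgroup S} (h : IsMulCommutative A) :
    ∀ a ∈ A, ∀ b ∈ A, a * b = b * a := fun a ha b hb =>
  congrArg Subtype.val (mul_comm' (⟨a, ha⟩ : A) ⟨b, hb⟩)

/-- A member of `𝔸` which a subgroup centralizing it: the subgroup lies in it. -/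
theorem le_of_centralizes [Finite S] {A C : Subgroup S} (hA : A ∈ maxAbelianSubgroups S)
    (hC : ∀ a ∈ C, ∀ b ∈ C, a * b = b * a) (hAC : ∀ a ∈ A, ∀ b ∈ C, a * b = b * a) : C ≤ A := by
  have hc := comm_sup A C (forall_of_isMulCommutative hA.1) hC hAC
  have h1 := hA.2 (A ⊔ C) (isMulCommutative_of_forall hc)
  have h2 : A = A ⊔ C := Subgroup.eq_of_le_of_card_ge le_sup_left h1
  rw [h2]; exact le_sup_right

/-- The replacement step: a normal abelian subgroup `B` not normalizing `A ∈ 𝔸` yields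
a new member of `𝔸` meeting `B` in more than `A` does and not containing `B`. -/
theorem replace_step [Finite S] {p : ℕ} [Fact p.Prime] (hS : IsPGroup p S) (B : Subgroup S) [B.Normal]
    (hB : ∀ a ∈ B, ∀ b ∈ B, a * b = b * a) {A : Subgroup S} (hA : A ∈ maxAbelianSubgroups S)
    (hnot : ¬ B ≤ Subgroup.normalizer (A : Set S)) :
    ∃ b ∈ B, ∃ T : Subgroup S, T = (A ⊓ A.map (MulAut.conj (b⁻¹)).toMonoidHom) ⊔
        Subgroup.closure {g : S | ∃ a ∈ A, g = a * b⁻¹ * a⁻¹ * b} ∧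
      T ∈ maxAbelianSubgroups S ∧ A ⊓ B < T ⊓ B ∧ T ⊓ B < B := by
  have hBc : IsMulCommutative B := isMulCommutative_of_forall hB
  have hBA : ⁅B, B⁆ ≤ A := by
    have h : ⁅B, B⁆ = ⊥ := by
      rw [eq_bot_iff, Subgroup.commutator_le]
      intro x hx y hy
      rw [Subgroup.mem_bot, commutatorElement_eq_one_iff_mul_comm]
      exact hB x hx y hy
    rw [h]; exact bot_le
  obtain ⟨b, hb, hbN, hbA⟩ := Cfsg.Agent.S0649.result hS B (fun _ => hBc) A hA.1 hBA hnot
  obtain ⟨h1, h2, -, h4, h5, -⟩ := Cfsg.Agent.S0650.result hS B (fun _ => hBc) A hA.1 hBA hnot b hb hbN hbA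
  refine ⟨b, hb, _, rfl, ⟨h2, fun C hC => ?_⟩, h4, h5⟩
  rw [h1]
  exact hA.2 C hC

/-- The set `𝔸` is nonempty for a finite group. -/
theorem exists_mem_max [Finite S] : ∃ A : Subgroup S, A ∈ maxAbelianSubgroups S := by
  classical
  haveI := Fintype.ofFinite (Subgroup S)
  obtain ⟨A, hA, hmax⟩ := Set.exists_max_image {A : Subgroup S | IsMulCommutative A} (fun A => Nat.card A)
    (Set.toFinite _) ⟨⊥, isMulCommutative_of_forall (fun a ha b hb => by
      rw [Subgroup.mem_bot.mp ha, Subgroup.mem_bot.mp hb])⟩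
  exact ⟨A, hA, fun B hB => hmax B hB⟩

end Cfsg.Agent.Lib.AbReplace
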