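import Mathlib
import Cfsg.Prelude.Def_Transfer
import Cfsg.Agent.Lib.PComplement
import Cfsg.Agent.Lib.Replacement

/-!
# Abelian Hall subgroups are conjugate (elementary case of Wielandt's theorem)
-/

set_option autoImplicit false

universe u

namespace Cfsg.Agent.Lib.AbelianHall

open Subgroup Cfsg.Agent.Lib.TransferCore Cfsg.Agent.Lib.PGrp Cfsg.Agent.Lib.PComplement

variable {G : Type u} [Group G]

lemma card_subgroupOf_of_le {H K : Subgroup G} (h : H ≤ K) : Nat.card (H.subgroupOf K) = Nat.card H :=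
  Nat.card_congr (Subgroup.subgroupOfEquivOfLe h).toEquiv

/-- A central Sylow subgroup `R` of `C` is a direct factor of `C`. -/
theorem exists_complement_central_sylow [Finite G] {p : ℕ} [Fact p.Prime] (R C : Subgroup G) (hRC : R ≤ C)
    (hp : IsPGroup p R) (q : ℕ) (hq : Nat.card C = Nat.card R * q) (hpq : ¬ p ∣ q)
    (hcomm : ∀ c ∈ C, ∀ x ∈ R, x * c = c * x) :
    ∃ D : Subgroup G, D ≤ C ∧ (∀ c ∈ C, ∀ d ∈ D, c * d * c⁻¹ ∈ D) ∧ D ⊓ R = ⊥ ∧
      (∀ c ∈ C, ∃ d ∈ D, ∃ r ∈ R, c = d * r) ∧ Nat.card D = q := by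
  classical
  have hR' : IsPGroup p (R.subgroupOf C) := hp.comap_subtype
  have hidx : (R.subgroupOf C).index = q := by
    have h1 := Subgroup.card_mul_index (R.subgroupOf C)
    rw [card_subgroupOf_of_le hRC, hq] at h1
    exact Nat.eq_of_mul_eq_mul_left Nat.card_pos h1
  let R' : Sylow p C := hR'.toSylow (by rw [hidx]; exact hpq)
  have hR'c : (R' : Subgroup C) = R.subgroupOf C := rfl
  have hmemR' : ∀ c : C, c ∈ (R' : Subgroup C) ↔ (c : G) ∈ R := by
    intro c; rw [hR'c, mem_subgroupOf]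
  have hle : normalizer ((R' : Subgroup C) : Set C) ≤ centralizer ((R' : Subgroup C) : Set C) := by
    intro c _
    rw [mem_centralizer_iff]
    intro x hx
    apply Subtype.ext
    exact hcomm c c.2 x ((hmemR' x).1 hx)
  obtain ⟨K, hKn, hcompl⟩ : ∃ K : Subgroup C, K.Normal ∧ K.IsComplement' (R' : Subgroup C) :=
    ⟨_, inferInstance, MonoidHom.ker_transferSylow_isComplement' R' hle⟩
  refine ⟨K.map C.subtype, ?_, ?_, ?_, ?_, ?_⟩
  · rintro _ ⟨k, _, rfl⟩; exact k.2
  · rintro c hc _ ⟨k, hk, rfl⟩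
    exact ⟨⟨c, hc⟩ * k * ⟨c, hc⟩⁻¹, hKn.conj_mem k hk _, rfl⟩
  · rw [eq_bot_iff]
    rintro x ⟨⟨k, hk, rfl⟩, hxA⟩
    have h1 : k ∈ (R' : Subgroup C) := (hmemR' k).2 hxA
    have h2 := Subgroup.disjoint_def.1 hcompl.disjoint hk h1
    simp [h2]
  · intro c hc
    have h1 : (⟨c, hc⟩ : C) ∈ K ⊔ (R' : Subgroup C) := by
      rw [hcompl.sup_eq_top]; trivial
    obtain ⟨k, hk, r, hr, hkr⟩ := exists_mul_of_mem_sup h1
    exact ⟨k, ⟨k, hk, rfl⟩, r, (hmemR' r).1 hr, congrArg Subtype.val hkr⟩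
  · have h1 : Nat.card (K.map C.subtype) = Nat.card K :=
      Nat.card_congr (Subgroup.equivMapOfInjective K C.subtype C.subtype_injective).symm.toEquiv
    rw [h1, ← hcompl.index_eq_card, hR'c, hidx]

lemma card_map_conj (D : Subgroup G) (g : G) :
    Nat.card (D.map (MulAut.conj g).toMonoidHom) = Nat.card D :=
  Nat.card_congr (Subgroup.equivMapOfInjective D _ (MulAut.conj g).injective).symm.toEquiv

lemma mem_map_conj (P : Subgroup G) (g y : G) :
    y ∈ P.map (MulAut.conj g).toMonoidHom ↔ g⁻¹ * y * g ∈ P := by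
  constructor
  · rintro ⟨x, hx, rfl⟩
    have : g⁻¹ * (MulAut.conj g).toMonoidHom x * g = x := by
      show g⁻¹ * (g * x * g⁻¹) * g = x
      group
    rw [this]
    exact hx
  · intro h
    refine ⟨_, h, ?_⟩
    show g * (g⁻¹ * y * g) * g⁻¹ = y
    group

/-- Splitting `X` with `R ≤ X ≤ C = D × R`. -/
lemma card_inf_mul_card [Finite G] {R C D X : Subgroup G} (hD : D ⊓ R = ⊥) (hRX : R ≤ X) (hXC : X ≤ C)
    (hcomm : ∀ c ∈ C, ∀ x ∈ R, x * c = c * x)
    (hdec : ∀ c ∈ C, ∃ d ∈ D, ∃ r ∈ R, c = d * r) :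
    Nat.card ↥(X ⊓ D) * Nat.card R = Nat.card X ∧ (∀ x ∈ X, ∃ d ∈ X ⊓ D, ∃ r ∈ R, x = d * r) := by
  have hsplit : ∀ x ∈ X, ∃ d ∈ X ⊓ D, ∃ r ∈ R, x = d * r := by
    intro x hx
    obtain ⟨d, hd, r, hr, rfl⟩ := hdec x (hXC hx)
    refine ⟨d, Subgroup.mem_inf.2 ⟨?_, hd⟩, r, hr, rfl⟩
    have : d = d * r * r⁻¹ := by group
    rw [this]
    exact mul_mem hx (inv_mem (hRX hr))
  refine ⟨?_, hsplit⟩
  have hle : X ⊓ D ≤ normalizer (R : Set G) := by
    intro y hy
    apply centralizer_le_normalizer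
    rw [mem_centralizer_iff]
    intro r hr
    exact hcomm y (hXC hy.1) r hr
  have h1 := Cfsg.Agent.Lib.Replacement.card_sup_mul_card_inf (X ⊓ D) R hle
  have h2 : X ⊓ D ⊓ R = ⊥ := by
    rw [eq_bot_iff, ← hD]
    rintro y ⟨⟨-, hy⟩, hr⟩
    exact ⟨hy, hr⟩
  have h3 : X ⊓ D ⊔ R = X := by
    apply le_antisymm (sup_le inf_le_left hRX)
    intro x hx
    obtain ⟨d, hd, r, hr, rfl⟩ := hsplit x hx
    exact Subgroup.mul_mem_sup hd hr
  rw [h2, h3] at h1
  simp only [Subgroup.card_bot, mul_one] at h1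
  exact h1.symm

/-- **Abelian Hall subgroups of equal order are conjugate.** -/
theorem abelian_hall_conj [Finite G] : ∀ (n : ℕ) (L H K : Subgroup G), Nat.card L = n → H ≤ L → K ≤ L →
    (∀ a ∈ H, ∀ b ∈ H, a * b = b * a) → (∀ a ∈ K, ∀ b ∈ K, a * b = b * a) →
    Nat.card H = Nat.card K → ∀ m, Nat.card L = Nat.card H * m → Nat.Coprime (Nat.card H) m →
    ∃ g ∈ L, H.map (MulAut.conj g).toMonoidHom = K := by
  intro n
  induction n using Nat.strong_induction_on with
  | _ n ih =>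
    intro L H K hn hHL hKL hHc hKc hcard m hm hcop
    classical
    by_cases hH1 : Nat.card H = 1
    · refine ⟨1, one_mem _, ?_⟩
      have h1 : H = ⊥ := (Subgroup.card_eq_one).1 hH1
      have h2 : K = ⊥ := (Subgroup.card_eq_one).1 (hcard ▸ hH1)
      rw [h1, h2]
      simp
    -- a prime divisor of `|H|`
    set p := (Nat.card H).minFac with hp
    have hpp : p.Prime := Nat.minFac_prime hH1
    haveI : Fact p.Prime := ⟨hpp⟩
    have hpH : p ∣ Nat.card H := Nat.minFac_dvd _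
    have hpm : ¬ p ∣ m := fun h => hpp.one_lt.ne' (Nat.Coprime.eq_one_of_dvd
      (Nat.Coprime.coprime_dvd_left hpH hcop) h)
    obtain ⟨TH⟩ : Nonempty (Sylow p H) := inferInstance
    obtain ⟨TK⟩ : Nonempty (Sylow p K) := inferInstance
    have hTHcard : Nat.card TH = Nat.card TK := by
      rw [TH.card_eq_multiplicity, TK.card_eq_multiplicity, hcard]
    set R : Subgroup G := (TH : Subgroup H).map H.subtype with hR
    set RK : Subgroup G := (TK : Subgroup K).map K.subtype with hRK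
    have hRcard : Nat.card R = Nat.card TH :=
      Nat.card_congr (Subgroup.equivMapOfInjective _ _ H.subtype_injective).symm.toEquiv
    have hRKcard : Nat.card RK = Nat.card TK :=
      Nat.card_congr (Subgroup.equivMapOfInjective _ _ K.subtype_injective).symm.toEquiv
    have hRH : R ≤ H := by rintro _ ⟨y, -, rfl⟩; exact y.2
    have hRKK : RK ≤ K := by rintro _ ⟨y, -, rfl⟩; exact y.2
    have hRp : IsPGroup p R := TH.2.map _
    have hRKp : IsPGroup p RK := TK.2.map _
    set iH := (TH : Subgroup H).index with hiH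
    set iK := (TK : Subgroup K).index with hiK
    have hiH' : Nat.card R * iH = Nat.card H := by
      rw [hRcard]; exact Subgroup.card_mul_index _
    have hiK' : Nat.card RK * iK = Nat.card K := by
      rw [hRKcard]; exact Subgroup.card_mul_index _
    have hpiH : ¬ p ∣ iH := TH.not_dvd_index
    have hpiK : ¬ p ∣ iK := TK.not_dvd_index
    have hRRK : Nat.card R = Nat.card RK := by rw [hRcard, hRKcard, hTHcard]
    have hii : iH = iK := by
      have h1 : Nat.card R * iH = Nat.card R * iK := by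
        rw [hiH', hRRK, hiK', hcard]
      exact Nat.eq_of_mul_eq_mul_left Nat.card_pos h1
    -- both are Sylow in `L`
    have hRL : R ≤ L := hRH.trans hHL
    have hRKL : RK ≤ L := hRKK.trans hKL
    have hidx1 : (R.subgroupOf L).index = iH * m := by
      have h1 := Subgroup.card_mul_index (R.subgroupOf L)
      rw [card_subgroupOf_of_le hRL, hm, ← hiH', mul_assoc] at h1
      exact Nat.eq_of_mul_eq_mul_left Nat.card_pos h1
    have hidx2 : (RK.subgroupOf L).index = iH * m := by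
      have h1 := Subgroup.card_mul_index (RK.subgroupOf L)
      rw [card_subgroupOf_of_le hRKL, hm, ← hiH', hRRK, mul_assoc] at h1
      exact Nat.eq_of_mul_eq_mul_left Nat.card_pos h1
    have hpim : ¬ p ∣ iH * m := fun h => ((Nat.Prime.dvd_mul hpp).1 h).elim hpiH hpm
    let S1 : Sylow p L := (hRp.comap_subtype (K := L)).toSylow (by
      show ¬ p ∣ (R.subgroupOf L).index
      rw [hidx1]; exact hpim)
    let S2 : Sylow p L := (hRKp.comap_subtype (K := L)).toSylow (by
      show ¬ p ∣ (RK.subgroupOf L).index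
      rw [hidx2]; exact hpim)
    have hS1 : (S1 : Subgroup L) = R.subgroupOf L := rfl
    have hS2 : (S2 : Subgroup L) = RK.subgroupOf L := rfl
    obtain ⟨a, ha⟩ := MulAction.exists_smul_eq L S2 S1
    -- replace `K` by its conjugate
    set K₁ : Subgroup G := K.map (MulAut.conj (a : G)).toMonoidHom with hK₁
    have hK₁L : K₁ ≤ L := by
      rintro _ ⟨y, hy, rfl⟩
      exact mul_mem (mul_mem a.2 (hKL hy)) (inv_mem a.2)
    have hRK₁ : R ≤ K₁ := by
      intro x hx
      rw [hK₁, mem_map_conj]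
      have h1 : (⟨x, hRL hx⟩ : L) ∈ (S1 : Subgroup L) := by
        rw [hS1, mem_subgroupOf]; exact hx
      rw [← ha] at h1
      have h2 := mem_smul_sylow.1 h1
      have h3 : (a⁻¹ * ⟨x, hRL hx⟩ * a : L) ∈ (S2 : Subgroup L) := h2
      rw [hS2, mem_subgroupOf] at h3
      exact hRKK h3
    have hK₁card : Nat.card K₁ = Nat.card K := card_map_conj K _
    have hK₁c : ∀ u ∈ K₁, ∀ v ∈ K₁, u * v = v * u := by
      rintro _ ⟨u, hu, rfl⟩ _ ⟨v, hv, rfl⟩
      have := hKc u hu v hv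
      simp only [MulEquiv.coe_toMonoidHom, MulAut.conj_apply]
      have e1 : (a : G) * u * (a : G)⁻¹ * ((a : G) * v * (a : G)⁻¹) = (a : G) * (u * v) * (a : G)⁻¹ := by group
      have e2 : (a : G) * v * (a : G)⁻¹ * ((a : G) * u * (a : G)⁻¹) = (a : G) * (v * u) * (a : G)⁻¹ := by group
      rw [e1, e2, this]
    -- the centralizer
    set C : Subgroup G := L ⊓ centralizer (R : Set G) with hC
    have hHC : H ≤ C := by
      intro x hx
      refine Subgroup.mem_inf.2 ⟨hHL hx, ?_⟩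
      rw [mem_centralizer_iff]
      intro r hr
      exact hHc r (hRH hr) x hx
    have hK₁C : K₁ ≤ C := by
      intro x hx
      refine Subgroup.mem_inf.2 ⟨hK₁L hx, ?_⟩
      rw [mem_centralizer_iff]
      intro r hr
      exact hK₁c r (hRK₁ hr) x hx
    have hRC : R ≤ C := hRH.trans hHC
    have hCL : C ≤ L := inf_le_left
    have hcommC : ∀ c ∈ C, ∀ x ∈ R, x * c = c * x := by
      intro c hc x hx
      exact mem_centralizer_iff.1 hc.2 x hx
    -- arithmetic
    obtain ⟨m₂, hm₂⟩ : Nat.card H ∣ Nat.card C := Subgroup.card_dvd_of_le hHC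
    obtain ⟨t, ht⟩ : Nat.card C ∣ Nat.card L := Subgroup.card_dvd_of_le hCL
    have hmm : m = m₂ * t := by
      have h1 : Nat.card H * m = Nat.card H * (m₂ * t) := by
        rw [← hm, ht, hm₂, mul_assoc]
      exact Nat.eq_of_mul_eq_mul_left Nat.card_pos h1
    have hcop₂ : Nat.Coprime (Nat.card H) m₂ :=
      Nat.Coprime.coprime_dvd_right ⟨t, hmm⟩ hcop
    have hpm₂ : ¬ p ∣ m₂ := fun h => hpm (hmm ▸ Dvd.dvd.mul_right h t)
    have hpq : ¬ p ∣ iH * m₂ := fun h => ((Nat.Prime.dvd_mul hpp).1 h).elim hpiH hpm₂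
    have hCcard : Nat.card C = Nat.card R * (iH * m₂) := by
      rw [hm₂, ← hiH', mul_assoc]
    obtain ⟨D, hDC, hDn, hDR, hdec, hDcard⟩ :=
      exists_complement_central_sylow R C hRC hRp (iH * m₂) hCcard hpq hcommC
    obtain ⟨hH₀, hHsplit⟩ := card_inf_mul_card hDR (hRH) hHC hcommC hdec
    obtain ⟨hK₀, -⟩ := card_inf_mul_card hDR hRK₁ hK₁C hcommC hdec
    have hH₀iH : Nat.card ↥(H ⊓ D) = iH := by
      have h1 : Nat.card R * Nat.card ↥(H ⊓ D) = Nat.card R * iH := by
        rw [mul_comm, hH₀, hiH']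
      exact Nat.eq_of_mul_eq_mul_left Nat.card_pos h1
    have hcard₀ : Nat.card ↥(H ⊓ D) = Nat.card ↥(K₁ ⊓ D) := by
      have h1 : Nat.card ↥(H ⊓ D) * Nat.card R = Nat.card ↥(K₁ ⊓ D) * Nat.card R := by
        rw [hH₀, hK₀, hK₁card, hcard]
      exact Nat.eq_of_mul_eq_mul_right Nat.card_pos h1
    have hRgt : 1 < Nat.card R := by
      rw [hRcard]
      have : p ∣ Nat.card TH := TH.dvd_card_of_dvd_card hpH
      exact lt_of_lt_of_le hpp.one_lt (Nat.le_of_dvd Nat.card_pos this)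
    have hDlt : Nat.card D < n := by
      rw [← hn, ht, hCcard, ← hDcard]
      have h1 : Nat.card D * 1 < Nat.card D * Nat.card R :=
        Nat.mul_lt_mul_of_pos_left hRgt Nat.card_pos
      have ht0 : 0 < t := Nat.pos_of_ne_zero (by
        rintro rfl
        rw [mul_zero] at ht
        exact Nat.card_pos.ne' ht)
      calc Nat.card D = Nat.card D * 1 := (mul_one _).symm
        _ < Nat.card D * Nat.card R := h1
        _ = Nat.card R * Nat.card D := mul_comm _ _
        _ ≤ Nat.card R * Nat.card D * t := Nat.le_mul_of_pos_right _ ht0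
    obtain ⟨d, hd, hdmap⟩ := ih _ hDlt D (H ⊓ D) (K₁ ⊓ D) rfl inf_le_right inf_le_right
      (fun u hu v hv => hHc u hu.1 v hv.1) (fun u hu v hv => hK₁c u hu.1 v hv.1) hcard₀ m₂
      (by rw [hDcard, hH₀iH]) (by
        rw [hH₀iH]
        exact Nat.Coprime.coprime_dvd_left ⟨Nat.card R, by rw [← hiH', mul_comm]⟩ hcop₂)
    have hdC : d ∈ C := hDC hd
    refine ⟨(a : G)⁻¹ * d, mul_mem (inv_mem a.2) (hCL hdC), ?_⟩
    apply Subgroup.eq_of_le_of_card_ge
    · rintro _ ⟨x, hx, rfl⟩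
      obtain ⟨d₀, hd₀, r, hr, rfl⟩ := hHsplit x hx
      have h1 : d * d₀ * d⁻¹ ∈ K₁ ⊓ D := by
        rw [← hdmap]
        exact ⟨d₀, hd₀, rfl⟩
      have h2 : d * r * d⁻¹ = r := by
        have := mem_centralizer_iff.1 hdC.2 r hr
        rw [← this]; group
      have h3 : d * (d₀ * r) * d⁻¹ ∈ K₁ := by
        have : d * (d₀ * r) * d⁻¹ = (d * d₀ * d⁻¹) * (d * r * d⁻¹) := by group
        rw [this, h2]
        exact mul_mem h1.1 (hRK₁ hr)
      have h4 := (mem_map_conj K (a : G) _).1 h3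
      have e : (MulAut.conj ((a : G)⁻¹ * d)).toMonoidHom (d₀ * r) =
          (a : G)⁻¹ * (d * (d₀ * r) * d⁻¹) * a := by
        simp only [MulEquiv.coe_toMonoidHom, MulAut.conj_apply]
        group
      rw [e]
      exact h4
    · rw [card_map_conj, hcard]

end Cfsg.Agent.Lib.AbelianHall
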