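import Mathlib
import Cfsg.Agent.Lib.QuadConj

/-!
# `p`-stability in the action sense for `p`-separable groups and for groups with abelian Sylow
`2`-subgroups.
-/

set_option autoImplicit false
set_option linter.unusedSectionVars false
set_option linter.style.haveILetI false

open scoped commutatorElement
open Cfsg

namespace Cfsg.Agent.Lib.ActionStable

open Cfsg.Agent.Lib.QuadAbs Cfsg.Agent.Lib.QuadConj Cfsg.Agent.Lib.PCore Cfsg.Agent.Lib.PSolv
  Cfsg.Agent.Lib.StableW Cfsg.Agent.Lib.ThompsonJ Cfsg.Agent.Lib.PLocalTools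

universe u

section

variable {G : Type u} [Group G] {p : ℕ}

/-- The faithful action of `G / C_G(V)` on `V`. -/
noncomputable def quotConj (V : Subgroup G) [V.Normal] :
    (G ⧸ Subgroup.centralizer (V : Set G)) →* MulAut V :=
  QuotientGroup.lift _ (MulAut.conjNormal (H := V)) (by
    intro x hx
    ext v
    have := Subgroup.mem_centralizer_iff.mp hx v v.2
    simp [MulAut.conjNormal_apply, ← this])

theorem quotConj_mk (V : Subgroup G) [V.Normal] (g : G) (v : V) :
    ((quotConj V (g : G ⧸ Subgroup.centralizer (V : Set G)) v : V) : G) = g * v * g⁻¹ := rfl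

theorem quotConj_injective (V : Subgroup G) [V.Normal] : Function.Injective (quotConj V) := by
  rw [injective_iff_map_eq_one]
  intro x hx
  obtain ⟨g, rfl⟩ := QuotientGroup.mk_surjective x
  rw [QuotientGroup.eq_one_iff, Subgroup.mem_centralizer_iff]
  intro v hv
  have h2 := congrArg (fun f : MulAut V => ((f ⟨v, hv⟩ : V) : G)) hx
  have h3 : g * v * g⁻¹ = v := h2
  rw [mul_inv_eq_iff_eq_mul] at h3
  exact h3.symm

theorem quotConj_quad (V : Subgroup G) [V.Normal] (hV : IsMulCommutative V) {a : G}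
    (ha : ⁅⁅V, Subgroup.zpowers a⁆, Subgroup.zpowers a⁆ = ⊥) :
    @IsQuad _ _ V (commGroupOf V hV) (quotConj V) (a : G ⧸ Subgroup.centralizer (V : Set G)) := by
  letI := commGroupOf V hV
  intro m
  apply Subtype.ext
  have h1 : ⁅⁅(m : G), a⁆, a⁆ = 1 := elem_of_quad ha m.2
  have h2 : Commute ⁅(m : G), a⁆ a := commutatorElement_eq_one_iff_commute.mp h1
  have h3 : ((quotConj V (a : G ⧸ Subgroup.centralizer (V : Set G)) m / m : V) : G) = ⁅(m : G), a⁆⁻¹ := by
    rw [Subgroup.coe_div, quotConj_mk, commutatorElement_def, div_eq_mul_inv]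
    group
  rw [quotConj_mk, h3]
  have h4 := h2.inv_left.eq
  show a * ⁅(m : G), a⁆⁻¹ * a⁻¹ = ⁅(m : G), a⁆⁻¹
  rw [← h4]
  group

variable [Fact p.Prime]

/-- `p`-separable version. -/
theorem pstable_of_psep [Finite G] (hp2 : p ≠ 2) (hp3 : p ≠ 3) (hsep : IsPSolvable p G) (V : Subgroup G)
    [V.Normal] (hV : IsElementaryAbelian p V) : IsPStableOn p V := by
  intro a ha
  letI := commGroupOf V hV.1
  have hM : ∀ m : V, m ^ p = 1 := fun m => Subtype.ext (hV.2 m m.2)
  by_contra h
  exact hp3 (thmD hp2 hM (quotConj V) (quotConj_injective V) (isPSolvable_quotient hsep _)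
    (quotConj_quad V hV.1 ha) h).1

theorem sylow_comm_of_surjective [Finite G] {H : Type*} [Group H] {q : ℕ} [Fact q.Prime] (f : G →* H)
    (hf : Function.Surjective f) (hab : ∀ T : Sylow q G, IsMulCommutative T) (T : Sylow q H) :
    IsMulCommutative T := by
  obtain ⟨T₀, rfl⟩ := Sylow.mapSurjective_surjective hf q T
  have h := hab T₀
  refine ⟨⟨?_⟩⟩
  rintro ⟨x, hx⟩ ⟨y, hy⟩
  have hx' : x ∈ (T₀ : Subgroup G).map f := hx
  have hy' : y ∈ (T₀ : Subgroup G).map f := hy
  obtain ⟨x₀, hx₀, rfl⟩ := hx'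
  obtain ⟨y₀, hy₀, rfl⟩ := hy'
  apply Subtype.ext
  show f x₀ * f y₀ = f y₀ * f x₀
  have := h.is_comm.comm ⟨x₀, hx₀⟩ ⟨y₀, hy₀⟩
  have h2 : x₀ * y₀ = y₀ * x₀ := congrArg Subtype.val this
  rw [← map_mul, h2, map_mul]

theorem sylow_comm_of_subgroup [Finite G] {q : ℕ} [Fact q.Prime] (X : Subgroup G)
    (hab : ∀ T : Sylow q G, IsMulCommutative T) (T : Sylow q X) : IsMulCommutative T := by
  obtain ⟨T₀⟩ : Nonempty (Sylow q G) := inferInstance
  have hcomm := comm_of_le_sylow T₀ (hab T₀) (T.1.map X.subtype) (T.2.map _)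
  refine ⟨⟨?_⟩⟩
  rintro ⟨⟨x, hx⟩, hx'⟩ ⟨⟨y, hy⟩, hy'⟩
  apply Subtype.ext
  apply Subtype.ext
  exact hcomm x ⟨_, hx', rfl⟩ y ⟨_, hy', rfl⟩

/-- The version for abelian Sylow `2`-subgroups. -/
theorem pstable_of_sylow2 [Finite G] (hp2 : p ≠ 2) (hab : ∀ T : Sylow 2 G, IsMulCommutative T)
    (V : Subgroup G) [V.Normal] (hV : IsElementaryAbelian p V) : IsPStableOn p V := by
  haveI : Fact (Nat.Prime 2) := ⟨Nat.prime_two⟩
  intro a ha
  letI := commGroupOf V hV.1
  have hM : ∀ m : V, m ^ p = 1 := fun m => Subtype.ext (hV.2 m m.2)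
  by_contra h
  obtain ⟨T⟩ : Nonempty (Sylow 2 (G ⧸ Subgroup.centralizer (V : Set G))) := inferInstance
  exact thmC hp2 hM (quotConj V) (quotConj_injective V) (quotConj_quad V hV.1 ha) h T
    (sylow_comm_of_surjective (QuotientGroup.mk' _) (QuotientGroup.mk'_surjective _) hab T)

/-- The section clause. -/
theorem section_stable [Finite G] (K N : Subgroup G) [K.Normal] [N.Normal]
    (hEA : IsElementaryAbelian p (K.map (QuotientGroup.mk' N)))
    (h2 : ∀ (V : Subgroup (G ⧸ N)) [V.Normal], IsElementaryAbelian p V → IsPStableOn p V) :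
    IsPStableOnSection p K N := by
  intro a ha
  set Vb : Subgroup (G ⧸ N) := K.map (QuotientGroup.mk' N) with hVb
  haveI : Vb.Normal := Subgroup.Normal.map inferInstance _ (QuotientGroup.mk'_surjective N)
  have hst := h2 Vb hEA
  have hq : ⁅⁅Vb, Subgroup.zpowers (QuotientGroup.mk' N a)⁆, Subgroup.zpowers (QuotientGroup.mk' N a)⁆ = ⊥ := by
    have h3 : (⁅⁅K, Subgroup.zpowers a⁆, Subgroup.zpowers a⁆).map (QuotientGroup.mk' N) = ⊥ := by
      rw [Subgroup.map_eq_bot_iff, QuotientGroup.ker_mk']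
      exact ha
    rw [Subgroup.map_commutator, Subgroup.map_commutator, MonoidHom.map_zpowers] at h3
    exact h3
  have hmem := hst _ hq
  set Cb := Subgroup.centralizer (Vb : Set (G ⧸ N)) with hCb
  let f : G →* (G ⧸ N) ⧸ Cb := (QuotientGroup.mk' Cb).comp (QuotientGroup.mk' N)
  have hf : Function.Surjective f :=
    (QuotientGroup.mk'_surjective Cb).comp (QuotientGroup.mk'_surjective N)
  have hker : sectionKernel K N = (⊥ : Subgroup ((G ⧸ N) ⧸ Cb)).comap f := by
    ext x
    show (QuotientGroup.mk' N x) ∈ Cb ↔ f x ∈ (⊥ : Subgroup ((G ⧸ N) ⧸ Cb))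
    rw [Subgroup.mem_bot]
    exact (QuotientGroup.eq_one_iff _).symm
  refine ⟨(pCore p ((G ⧸ N) ⧸ Cb)).comap f, Subgroup.Normal.comap inferInstance f, ?_, ?_, hmem⟩
  · rw [hker]
    exact Subgroup.comap_mono bot_le
  · rw [hker, Subgroup.relIndex_comap, Subgroup.relIndex_bot_left,
      Subgroup.map_comap_eq_self_of_surjective hf]
    exact IsPGroup.iff_card.mp (isPGroup_pCore p)

/-- `K / Φ(K)` is elementary abelian. -/
theorem frattini_quot_ea [Finite G] (K : Subgroup G) (hK : IsPGroup p K) [hN : ((frattini ↥K).map K.subtype).Normal] :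
    IsElementaryAbelian p (K.map (QuotientGroup.mk' ((frattini ↥K).map K.subtype))) := by
  apply isElementaryAbelian_of_comm
  · rintro _ ⟨x, hx, rfl⟩ _ ⟨y, hy, rfl⟩
    have h1 : ⁅(⟨x, hx⟩ : K), (⟨y, hy⟩ : K)⁆ ∈ frattini ↥K :=
      Cfsg.Agent.Lib.Frat.commutator_le_frattini hK
        (by
          rw [commutator_def]
          exact Subgroup.commutator_mem_commutator (Subgroup.mem_top _) (Subgroup.mem_top _))
    have h2 : ⁅x, y⁆ ∈ (frattini ↥K).map K.subtype := ⟨_, h1, rfl⟩
    have h3 : QuotientGroup.mk' ((frattini ↥K).map K.subtype) ⁅x, y⁆ = 1 :=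
      (QuotientGroup.eq_one_iff _).mpr h2
    rw [map_commutatorElement] at h3
    exact (commutatorElement_eq_one_iff_commute.mp h3).eq
  · rintro _ ⟨x, hx, rfl⟩
    have h1 : (⟨x, hx⟩ : K) ^ p ∈ frattini ↥K := Cfsg.Agent.Lib.Frat.pow_mem_frattini hK _
    have h2 : x ^ p ∈ (frattini ↥K).map K.subtype := ⟨_, h1, rfl⟩
    rw [← map_pow]
    exact (QuotientGroup.eq_one_iff _).mpr h2

/-- The `Ω₁(Z(J(S)))` of `S` is elementary abelian. -/
theorem omegaCT_ea (S : Type*) [Group S] : IsElementaryAbelian p (omegaCenterThompson p S) := by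
  apply omegaOne_ea
  intro x hx y hy
  exact Subgroup.mem_centralizer_iff.mp (Subgroup.mem_inf.mp hy).2 x (Subgroup.mem_inf.mp hx).1

/-- Reduction of action stability to the stability on normal elementary abelian subgroups. -/
theorem actionStable_of [Finite G]
    (h1 : ∀ (V : Subgroup G) [V.Normal], IsElementaryAbelian p V → IsPStableOn p V)
    (h2 : ∀ (N : Subgroup G) [N.Normal] (V : Subgroup (G ⧸ N)) [V.Normal], IsElementaryAbelian p V →
      IsPStableOn p V)
    (h3 : ∀ (X : Subgroup G) (V : Subgroup X) [V.Normal], IsElementaryAbelian p V → IsPStableOn p V) :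
    IsActionPStable p G := by
  refine ⟨h1, ?_, ?_⟩
  · apply section_stable
    · exact frattini_quot_ea _ (isPGroup_pCore p)
    · exact h2 _
  · intro S V _ hV
    apply h3
    have hea := ea_mono (ea_map (omegaCT_ea (p := p) ↥(S : Subgroup G)) (S : Subgroup G).subtype) hV
    apply isElementaryAbelian_of_comm
    · intro x hx y hy
      apply Subtype.ext
      exact ea_comm hea ⟨x, hx, rfl⟩ ⟨y, hy, rfl⟩
    · intro x hx
      apply Subtype.ext
      exact hea.2 _ ⟨x, hx, rfl⟩

/-- `p ≥ 5`, `p`-separable. -/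
theorem actionStable_of_psep [Finite G] (hp : 5 ≤ p) (hsep : IsPSolvable p G) : IsActionPStable p G := by
  have hp2 : p ≠ 2 := by omega
  have hp3 : p ≠ 3 := by omega
  apply actionStable_of
  · intro V _ hV
    exact pstable_of_psep hp2 hp3 hsep V hV
  · intro N _ V _ hV
    exact pstable_of_psep hp2 hp3 (isPSolvable_quotient hsep N) V hV
  · intro X V _ hV
    exact pstable_of_psep hp2 hp3 (isPSolvable_subgroup hsep X) V hV

/-- Abelian Sylow `2`-subgroups. -/
theorem actionStable_of_sylow2 [Finite G] (hp2 : p ≠ 2) (hab : ∀ T : Sylow 2 G, IsMulCommutative T) :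
    IsActionPStable p G := by
  haveI : Fact (Nat.Prime 2) := ⟨Nat.prime_two⟩
  apply actionStable_of
  · intro V _ hV
    exact pstable_of_sylow2 hp2 hab V hV
  · intro N _ V _ hV
    exact pstable_of_sylow2 hp2
      (sylow_comm_of_surjective (QuotientGroup.mk' N) (QuotientGroup.mk'_surjective N) hab) V hV
  · intro X V _ hV
    exact pstable_of_sylow2 hp2 (sylow_comm_of_subgroup X hab) V hV

end

end Cfsg.Agent.Lib.ActionStable
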