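/-
AgemoZ: in a finite group `L` with `C_L(O_p(L)) ≤ O_p(L)` whose Sylow `p`-subgroup `P` has nilpotence class at most
`n (p - 1) + 1`, the `pⁿ`-th powers of the elements of `Z(P)` are central in `O^{p'}(L)`: every `L`-conjugate of such a power
commutes with `P`.
-/
import Mathlib
import Cfsg.Agent.Lib.PCore
import Cfsg.Agent.Lib.CentralSylow

set_option autoImplicit false

namespace Cfsg.Agent.Lib.AgemoZ

open Cfsg Cfsg.Agent.Lib.PCore
open scoped commutatorElement

section LemmaA

variable {W : Type*} [AddCommGroup W]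

theorem end_sum_apply {ι : Type*} (s : Finset ι) (f : ι → AddMonoid.End W) (y : W) :
    (∑ i ∈ s, f i) y = ∑ i ∈ s, f i y := by
  classical
  induction s using Finset.induction_on with
  | empty => rfl
  | insert a s ha ih =>
    rw [Finset.sum_insert ha, Finset.sum_insert ha, ← ih]
    rfl

/-- The binomial relation. -/
theorem binom_rel (ν : AddMonoid.End W) (k : ℕ) (y : W) (hy : ((ν + 1) ^ (k + 2)) y = y) :
    (∑ m ∈ Finset.range k, ((k + 2).choose (m + 2)) • (ν ^ (m + 2)) y) + (k + 2) • ν y + (ν ^ (k + 2)) y = 0 := by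
  have h1 : (ν + 1) ^ (k + 2) = ∑ m ∈ Finset.range (k + 2 + 1), ν ^ m * 1 ^ (k + 2 - m) * ((k + 2).choose m : AddMonoid.End W) :=
    (Commute.one_right ν).add_pow (k + 2)
  have h2 : ((ν + 1) ^ (k + 2)) y = ∑ m ∈ Finset.range (k + 2 + 1), ((k + 2).choose m) • (ν ^ m) y := by
    rw [h1, end_sum_apply]
    refine Finset.sum_congr rfl fun m _ => ?_
    rw [one_pow, mul_one]
    show (ν ^ m) (((k + 2).choose m : AddMonoid.End W) y) = _
    rw [AddMonoid.End.natCast_apply, map_nsmul]
  rw [h2, Finset.sum_range_succ', Nat.choose_zero_right, one_smul, pow_zero] at hy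
  have h3 : ∑ m ∈ Finset.range (k + 2), ((k + 2).choose (m + 1)) • (ν ^ (m + 1)) y = 0 := by
    simpa using hy
  rw [Finset.sum_range_succ, Finset.sum_range_succ', Nat.choose_self, one_smul, Nat.choose_one_right, zero_add, pow_one] at h3
  exact h3

/-- `(ν + 1) ^ p` fixing `w` fixes the `ν ^ j w`. -/
theorem pow_fix (ν : AddMonoid.End W) (e : ℕ) (w : W) (hw : ((ν + 1) ^ e) w = w) (j : ℕ) :
    ((ν + 1) ^ e) ((ν ^ j) w) = (ν ^ j) w := by
  have h1 : Commute ((ν + 1) ^ e) (ν ^ j) := ((Commute.refl ν).add_left (Commute.one_left ν)).pow_pow e j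
  have h2 : ((ν + 1) ^ e * ν ^ j) w = (ν ^ j * (ν + 1) ^ e) w := by rw [h1.eq]
  show ((ν + 1) ^ e * ν ^ j) w = _
  rw [h2]
  show (ν ^ j) (((ν + 1) ^ e) w) = _
  rw [hw]

theorem pow_add_apply (ν : AddMonoid.End W) (a b : ℕ) (w : W) : (ν ^ a) ((ν ^ b) w) = (ν ^ (a + b)) w := by
  rw [pow_add]
  rfl

/-- **The valuation lemma**: in a module for `u = 1 + ν` with `u ^ p w = w`, `p` behaves like `ν ^ (p - 1)`. -/
theorem smul_nu_eq_zero (ν : AddMonoid.End W) (p : ℕ) [hp : Fact p.Prime] (w : W) (hw : ((ν + 1) ^ p) w = w) (n : ℕ)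
    (hc : (ν ^ (n * (p - 1) + 1)) w = 0) : (p ^ n) • ν w = 0 := by
  obtain ⟨k, rfl⟩ : ∃ k, p = k + 2 := ⟨p - 2, by have := hp.out.two_le; omega⟩
  have hk1 : k + 2 - 1 = k + 1 := by omega
  rw [hk1] at hc
  set c := n * (k + 1) + 1 with hcdef
  have h0 : ∀ j, c ≤ j → (ν ^ j) w = 0 := by
    intro j hj
    obtain ⟨d, rfl⟩ := Nat.exists_eq_add_of_le' hj
    rw [← pow_add_apply, hc, map_zero]
  have key : ∀ r j, c ≤ r * (k + 1) + (j + 1) → ((k + 2) ^ r) • (ν ^ (j + 1)) w = 0 := by
    intro r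
    induction r with
    | zero =>
      intro j hj
      rw [pow_zero, one_smul]
      exact h0 _ (by omega)
    | succ r ihr =>
      have aux : ∀ d j, c ≤ (j + 1) + d → c ≤ (r + 1) * (k + 1) + (j + 1) → ((k + 2) ^ (r + 1)) • (ν ^ (j + 1)) w = 0 := by
        intro d
        induction d with
        | zero =>
          intro j h1 _
          rw [h0 _ (by omega), smul_zero]
        | succ d ihd =>
          intro j h1 h2
          have hrel := binom_rel ν k _ (pow_fix ν (k + 2) w hw j)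
          have h3 := congrArg (fun x => ((k + 2) ^ r) • x) hrel
          simp only [smul_add, smul_zero] at h3
          have h4 : ((k + 2) ^ r) • (ν ^ (k + 2)) ((ν ^ j) w) = 0 := by
            rw [pow_add_apply]
            have : k + 2 + j = (j + k + 1) + 1 := by omega
            rw [this]
            apply ihr
            have : (r + 1) * (k + 1) = r * (k + 1) + (k + 1) := by ring
            omega
          have h5 : ((k + 2) ^ r) • ∑ m ∈ Finset.range k, ((k + 2).choose (m + 2)) • (ν ^ (m + 2)) ((ν ^ j) w) = 0 := by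
            rw [Finset.smul_sum]
            apply Finset.sum_eq_zero
            intro m hm
            have hm' : m + 2 < k + 2 := by
              have := Finset.mem_range.1 hm
              omega
            have hdvd : (k + 2) ∣ (k + 2).choose (m + 2) :=
              hp.out.dvd_choose_self (by omega) hm'
            obtain ⟨b, hb⟩ := hdvd
            rw [hb, pow_add_apply]
            have e1 : m + 2 + j = (j + m + 1) + 1 := by omega
            rw [e1]
            have h6 := ihd (j + m + 1) (by omega) (by omega)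
            rw [smul_smul]
            have e2 : (k + 2) ^ r * ((k + 2) * b) = b * (k + 2) ^ (r + 1) := by ring
            rw [e2, mul_smul, h6, smul_zero]
          rw [h4, h5, zero_add, add_zero, smul_smul] at h3
          have e3 : ν ((ν ^ j) w) = (ν ^ (j + 1)) w := by
            rw [pow_succ']
            rfl
          rw [e3] at h3
          rw [pow_succ]
          exact h3
      intro j h1
      exact aux c j (by omega) h1
  have := key n 0 (by omega)
  rwa [zero_add, pow_one] at this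

end LemmaA

section Mult

variable {A : Type*} [Group A]

/-- The commutator map of an endomorphism. -/
def nuM (τ : A →* A) (x : A) : A := τ x * x⁻¹

/-- **The valuation lemma**, multiplicative form. -/
theorem fix_pow_of_nuM (hcomm : ∀ a b : A, a * b = b * a) (τ : A →* A) (p : ℕ) [hp : Fact p.Prime] (w : A) (hw : τ^[p] w = w) (n : ℕ)
    (hc : (nuM τ)^[n * (p - 1) + 1] w = 1) : τ (w ^ (p ^ n)) = w ^ (p ^ n) := by
  letI : CommGroup A := { (inferInstance : Group A) with mul_comm := hcomm }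
  let t : AddMonoid.End (Additive A) := MonoidHom.toAdditive τ
  let ν : AddMonoid.End (Additive A) := t - 1
  have ht : ν + 1 = t := sub_add_cancel t 1
  have hν : ∀ x : A, ν (Additive.ofMul x) = Additive.ofMul (nuM τ x) := by
    intro x
    show t (Additive.ofMul x) - Additive.ofMul x = _
    show Additive.ofMul (τ x) - Additive.ofMul x = _
    rw [← ofMul_div]
    congr 1
    exact div_eq_mul_inv _ _
  have hνk : ∀ (k : ℕ) (x : A), (ν ^ k) (Additive.ofMul x) = Additive.ofMul ((nuM τ)^[k] x) := by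
    intro k
    induction k with
    | zero => intro x; rfl
    | succ k ih =>
      intro x
      rw [pow_succ, Function.iterate_succ_apply]
      show (ν ^ k) (ν (Additive.ofMul x)) = _
      rw [hν, ih]
  have htk : ∀ (k : ℕ) (x : A), (t ^ k) (Additive.ofMul x) = Additive.ofMul (τ^[k] x) := by
    intro k
    induction k with
    | zero => intro x; rfl
    | succ k ih =>
      intro x
      rw [pow_succ, Function.iterate_succ_apply]
      show (t ^ k) (t (Additive.ofMul x)) = _
      show (t ^ k) (Additive.ofMul (τ x)) = _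
      rw [ih]
  have h1 := smul_nu_eq_zero ν p (Additive.ofMul w) (by rw [ht, htk, hw]) n (by rw [hνk, hc]; rfl)
  rw [hν, ← ofMul_pow] at h1
  have h2 : (nuM τ w) ^ (p ^ n) = 1 := h1
  rw [map_pow]
  have h3 : (τ w) ^ (p ^ n) * (w ^ (p ^ n))⁻¹ = 1 := by
    rw [← h2, nuM, mul_pow, inv_pow]
  exact mul_inv_eq_one.1 h3

end Mult

section Trace

variable {K A : Type*} [Group K] [Finite K] [Group A]

open Classical in
/-- **The trace**: from an element fixed by `D ≤ K`, an element fixed by `K`. -/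
theorem exists_trace (hcomm : ∀ a b : A, a * b = b * a) (ρ : K →* MulAut A) (D : Subgroup K) (z : A) (hz : ∀ d ∈ D, ρ d z = z) :
    ∃ t : A, (∀ k : K, ρ k t = t) ∧ ∀ e : ℕ, (∀ k : K, ρ k (z ^ e) = z ^ e) → t ^ e = (z ^ e) ^ D.index := by
  letI : CommGroup A := { (inferInstance : Group A) with mul_comm := hcomm }
  haveI : Fintype (K ⧸ D) := Fintype.ofFinite _
  have hout : ∀ (k : K) (q : K ⧸ D), ρ k (ρ q.out z) = ρ (k • q).out z := by
    intro k q
    have h1 : ((k * q.out : K) : K ⧸ D) = k • q := by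
      conv_rhs => rw [← QuotientGroup.out_eq' q]
      rfl
    have h2 : ((k • q).out)⁻¹ * (k * q.out) ∈ D := by
      rw [← QuotientGroup.eq, QuotientGroup.out_eq', h1]
    have h3 := hz _ h2
    have h4 : ρ (k * q.out) z = ρ (k • q).out (ρ (((k • q).out)⁻¹ * (k * q.out)) z) := by
      rw [← MulAut.mul_apply, ← map_mul]
      simp
    rw [h3] at h4
    rw [← MulAut.mul_apply, ← map_mul, h4]
  refine ⟨∏ q : K ⧸ D, ρ q.out z, fun k => ?_, fun e he => ?_⟩
  · rw [map_prod]
    rw [Finset.prod_congr rfl (fun q _ => hout k q)]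
    exact Fintype.prod_equiv (MulAction.toPerm k) _ _ (fun q => rfl)
  · rw [← Finset.prod_pow]
    have h1 : ∀ q : K ⧸ D, (ρ q.out z) ^ e = z ^ e := by
      intro q
      rw [← map_pow, he]
    rw [Finset.prod_congr rfl (fun q _ => h1 q), Finset.prod_const, Finset.card_univ,
      Subgroup.index_eq_card, Nat.card_eq_fintype_card]

end Trace

section Key

variable {L : Type*} [Group L] [Finite L] {p : ℕ} [hp : Fact p.Prime]

/-- The centre of a subgroup, as a set. -/
def Zc (P : Subgroup L) : Set L := {v | v ∈ P ∧ ∀ x ∈ P, x * v = v * x}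

/-- The conjugates of the `q`-th powers of central elements of `P`. -/
def Y₀ (P : Subgroup L) (q : ℕ) : Set L := {y | ∃ g, ∃ v ∈ Zc P, y = g * v ^ q * g⁻¹}

theorem Y₀_conj (P : Subgroup L) (q : ℕ) {y : L} (hy : y ∈ Y₀ P q) (g : L) : g * y * g⁻¹ ∈ Y₀ P q := by
  obtain ⟨a, v, hv, rfl⟩ := hy
  exact ⟨g * a, v, hv, by group⟩

/-- The centralizer of `Y₀`. -/
def KK (P : Subgroup L) (q : ℕ) : Subgroup L := Subgroup.centralizer (Y₀ P q)

instance (P : Subgroup L) (q : ℕ) : (KK P q).Normal where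
  conj_mem := by
    intro x hx g
    rw [KK, Subgroup.mem_centralizer_iff] at hx ⊢
    intro y hy
    have h1 := hx _ (Y₀_conj P q hy g⁻¹)
    have h2 : g⁻¹ * y * g⁻¹⁻¹ * x = x * (g⁻¹ * y * g⁻¹⁻¹) := h1
    calc y * (g * x * g⁻¹) = g * (g⁻¹ * y * g⁻¹⁻¹ * x) * g⁻¹ := by group
      _ = g * (x * (g⁻¹ * y * g⁻¹⁻¹)) * g⁻¹ := by rw [h2]
      _ = _ := by group

theorem exists_step {P K : Subgroup L} (hP : IsPGroup p P) (h : ¬ P ≤ K) : ∃ u ∈ P, u ∉ K ∧ u ^ p ∈ K := by
  obtain ⟨x, hxP, hxK⟩ := SetLike.not_le_iff_exists.1 h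
  obtain ⟨a, ha⟩ := hP ⟨x, hxP⟩
  have ha' : x ^ (p ^ a) = 1 := congrArg Subtype.val ha
  have hex : ∃ i, x ^ (p ^ i) ∈ K := ⟨a, by rw [ha']; exact K.one_mem⟩
  classical
  have hfind := Nat.find_spec hex
  have hmin := fun m => Nat.find_min (H := hex) (m := m)
  set i := Nat.find hex with hi
  have hi0 : i ≠ 0 := by
    intro h0
    rw [h0, pow_zero, pow_one] at hfind
    exact hxK hfind
  obtain ⟨j, hj⟩ := Nat.exists_eq_succ_of_ne_zero hi0
  refine ⟨x ^ (p ^ j), P.pow_mem hxP _, hmin j (by omega), ?_⟩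
  rw [← pow_mul, ← pow_succ, ← Nat.succ_eq_add_one, ← hj]
  exact hfind

/-- The iterated commutators with `u` lie in the lower central series. -/
theorem nuM_mem {A : Subgroup L} [hA : A.Normal] {P : Subgroup L} (hAP : A ≤ P) {u : L} (huP : u ∈ P)
    (j : ℕ) (x : A) :
      (((nuM (MulAut.conjNormal u : MulAut A).toMonoidHom)^[j] x : A) : L) ∈ P.lowerCentralSeries j := by
  induction j with
  | zero => exact hAP x.2
  | succ j ih =>
    rw [Function.iterate_succ_apply']
    set a := (nuM (MulAut.conjNormal u : MulAut A).toMonoidHom)^[j] x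
    have h1 : ⁅(a : L), u⁆ ∈ P.lowerCentralSeries (j + 1) :=
      Subgroup.commutator_mem_commutator ih huP
    have h2 := (P.lowerCentralSeries (j + 1)).inv_mem h1
    have h3 : ((nuM (MulAut.conjNormal u : MulAut A).toMonoidHom a : A) : L) = ⁅(a : L), u⁆⁻¹ := by
      show ((MulAut.conjNormal u a : A) : L) * ((a⁻¹ : A) : L) = _
      rw [MulAut.conjNormal_apply, commutatorElement_def]
      push_cast
      group
    rw [h3]
    exact h2

/-- **The key theorem**: a Sylow subgroup of small class centralizes all conjugates of the `pⁿ`-th powers of its centre. -/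
theorem key (P : Sylow p L) (hC : Subgroup.centralizer ((pCore p L : Subgroup L) : Set L) ≤ pCore p L) (n : ℕ)
    (hcl : (P : Subgroup L).lowerCentralSeries (n * (p - 1) + 1) = ⊥) :
    (P : Subgroup L) ≤ KK (P : Subgroup L) (p ^ n) := by
  classical
  by_contra hle
  obtain ⟨u, huP, huK, hupK⟩ := exists_step P.isPGroup' hle
  apply huK
  rw [KK, Subgroup.mem_centralizer_iff]
  rintro y ⟨g, v, hv, rfl⟩
  set q := p ^ n with hq
  set K := KK (P : Subgroup L) q with hK
  haveI hOn : (pCore p L).Normal := by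
    haveI := pCore_characteristic (G := L) p
    exact Subgroup.normal_of_characteristic _
  let A : Subgroup L := pCore p L ⊓ Subgroup.centralizer ((pCore p L : Subgroup L) : Set L)
  haveI hAn : A.Normal := by
    refine ⟨fun x hx a => ⟨hOn.conj_mem x hx.1 a, ?_⟩⟩
    show a * x * a⁻¹ ∈ Subgroup.centralizer _
    rw [Subgroup.mem_centralizer_iff]
    intro o ho
    have h1 := Subgroup.mem_centralizer_iff.1 hx.2 _ (hOn.conj_mem o ho a⁻¹)
    have h2 : a⁻¹ * o * a⁻¹⁻¹ * x = x * (a⁻¹ * o * a⁻¹⁻¹) := h1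
    calc o * (a * x * a⁻¹) = a * (a⁻¹ * o * a⁻¹⁻¹ * x) * a⁻¹ := by group
      _ = a * (x * (a⁻¹ * o * a⁻¹⁻¹)) * a⁻¹ := by rw [h2]
      _ = _ := by group
  have hAc : ∀ a b : A, a * b = b * a := fun a b => Subtype.ext (by
    have := Subgroup.mem_centralizer_iff.1 b.2.2 _ a.2.1
    exact this)
  have hOP : pCore p L ≤ (P : Subgroup L) := pCore_le_sylow p P
  have hAP : A ≤ (P : Subgroup L) := inf_le_left.trans hOP
  have hvA : v ∈ A := by
    have hvc : v ∈ Subgroup.centralizer ((pCore p L : Subgroup L) : Set L) := by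
      rw [Subgroup.mem_centralizer_iff]
      intro o ho
      exact hv.2 o (hOP ho)
    exact ⟨hC hvc, hvc⟩
  obtain ⟨S, hS⟩ := Cfsg.Agent.Lib.CentralSylow.exists_sylow_subgroupOf P K
  let ρ : K →* MulAut A := (MulAut.conjNormal : L →* MulAut A).comp K.subtype
  let z : A := ⟨v, hvA⟩
  have hρ : ∀ (k : K) (x : A), ((ρ k x : A) : L) = (k : L) * x * (k : L)⁻¹ := fun k x =>
    MulAut.conjNormal_apply _ _
  have hz : ∀ d ∈ (S : Subgroup K), ρ d z = z := by
    intro d hd
    rw [hS] at hd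
    apply Subtype.ext
    rw [hρ]
    show (d : L) * v * (d : L)⁻¹ = v
    rw [hv.2 d (Subgroup.mem_subgroupOf.1 hd)]
    group
  obtain ⟨t, ht1, ht2⟩ := exists_trace hAc ρ (S : Subgroup K) z hz
  have hmemY : v ^ q ∈ Y₀ (P : Subgroup L) q := ⟨1, v, hv, by group⟩
  have he : ∀ k : K, ρ k (z ^ q) = z ^ q := by
    intro k
    apply Subtype.ext
    rw [hρ]
    have h1 := Subgroup.mem_centralizer_iff.1 k.2 _ hmemY
    show (k : L) * v ^ q * (k : L)⁻¹ = v ^ q
    rw [← h1]
    group
  have ht3 := ht2 q he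
  set m := (S : Subgroup K).index with hm
  have hmp : ¬ p ∣ m := S.not_dvd_index
  let w : A := MulAut.conjNormal g t
  let τ : A →* A := (MulAut.conjNormal u : MulAut A).toMonoidHom
  have hτk : ∀ (k : ℕ) (x : A), τ^[k] x = MulAut.conjNormal (u ^ k) x := by
    intro k
    induction k with
    | zero => intro x; simp
    | succ k ih =>
      intro x
      rw [Function.iterate_succ_apply', ih, pow_succ', map_mul]
      rfl
  have hw : τ^[p] w = w := by
    rw [hτk]
    have h1 : g⁻¹ * u ^ p * g⁻¹⁻¹ ∈ K := (inferInstance : K.Normal).conj_mem _ hupK g⁻¹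
    have h2 := ht1 ⟨_, h1⟩
    have h3 : MulAut.conjNormal (u ^ p) (MulAut.conjNormal g t) =
        MulAut.conjNormal g (MulAut.conjNormal (g⁻¹ * u ^ p * g⁻¹⁻¹) t) := by
      apply Subtype.ext
      simp only [MulAut.conjNormal_apply]
      group
    show MulAut.conjNormal (u ^ p) (MulAut.conjNormal g t) = MulAut.conjNormal g t
    rw [h3]
    have h4 : MulAut.conjNormal (g⁻¹ * u ^ p * g⁻¹⁻¹) t = t := h2
    rw [h4]
  have hc : (nuM τ)^[n * (p - 1) + 1] w = 1 := by
    have hs := nuM_mem hAP huP (n * (p - 1) + 1) w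
    rw [hcl, Subgroup.mem_bot] at hs
    exact Subtype.ext hs
  have hfix := fix_pow_of_nuM hAc τ p w hw n hc
  -- back in `L`
  have hwq : ((w ^ q : A) : L) = (g * v ^ q * g⁻¹) ^ m := by
    have h1 : w ^ q = MulAut.conjNormal g (t ^ q) := by
      show (MulAut.conjNormal g t) ^ q = _
      rw [map_pow]
    rw [h1, ht3, MulAut.conjNormal_apply]
    show g * (v ^ q) ^ m * g⁻¹ = _
    rw [conj_pow]
  have h5 : u * (g * v ^ q * g⁻¹) ^ m * u⁻¹ = (g * v ^ q * g⁻¹) ^ m := by
    have h6 := congrArg (fun x : A => (x : L)) hfix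
    have h7 : ((τ (w ^ q) : A) : L) = u * ((w ^ q : A) : L) * u⁻¹ := MulAut.conjNormal_apply _ _
    rw [h7, hwq] at h6
    exact h6
  have hyA : g * v ^ q * g⁻¹ ∈ A := hAn.conj_mem _ (A.pow_mem hvA q) g
  have hyp : IsPGroup p ↥A := (isPGroup_pCore p).to_le inf_le_left
  have hcop : m.Coprime (orderOf (g * v ^ q * g⁻¹)) := by
    obtain ⟨a, ha⟩ := (IsPGroup.iff_orderOf.1 hyp) ⟨_, hyA⟩
    have h8 : orderOf (g * v ^ q * g⁻¹) = p ^ a := by
      rw [← ha]
      exact (Subgroup.orderOf_mk _ _).symm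
    rw [h8]
    exact Nat.Coprime.pow_right a ((Nat.Prime.coprime_iff_not_dvd hp.out).2 hmp).symm
  obtain ⟨e, he2⟩ := exists_pow_eq_self_of_coprime hcop
  have h9 : Commute u ((g * v ^ q * g⁻¹) ^ m) := by
    show u * _ = _ * u
    rw [mul_inv_eq_iff_eq_mul.1 h5]
  have h10 := h9.pow_right e
  rw [he2] at h10
  exact h10.eq.symm

/-- The Frattini form. -/
theorem key2 (P : Sylow p L) (hC : Subgroup.centralizer ((pCore p L : Subgroup L) : Set L) ≤ pCore p L) (n : ℕ)
    (hcl : (P : Subgroup L).lowerCentralSeries (n * (p - 1) + 1) = ⊥) (g : L) :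
    ∃ h ∈ Subgroup.normalizer ((P : Subgroup L) : Set L), ∀ v ∈ Zc (P : Subgroup L),
      g * v ^ (p ^ n) * g⁻¹ = h * v ^ (p ^ n) * h⁻¹ := by
  have h1 := key P hC n hcl
  have h2 : Subgroup.normalizer ((P : Subgroup L) : Set L) ⊔ KK (P : Subgroup L) (p ^ n) = ⊤ :=
    P.normalizer_sup_eq_top' h1
  have h3 : g ∈ KK (P : Subgroup L) (p ^ n) ⊔ Subgroup.normalizer ((P : Subgroup L) : Set L) := by
    rw [sup_comm, h2]
    exact Subgroup.mem_top _
  have h3' : g ∈ ((KK (P : Subgroup L) (p ^ n) ⊔ Subgroup.normalizer ((P : Subgroup L) : Set L) : Subgroup L) : Set L) := h3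
  rw [Subgroup.normal_mul] at h3'
  obtain ⟨k, hk, h, hh, rfl⟩ := Set.mem_mul.1 h3'
  refine ⟨h, hh, fun v hv => ?_⟩
  have h4 : h * v ^ (p ^ n) * h⁻¹ ∈ Y₀ (P : Subgroup L) (p ^ n) := ⟨h, v, hv, rfl⟩
  have h5 := Subgroup.mem_centralizer_iff.1 hk _ h4
  have h6 : (k * h) * v ^ (p ^ n) * (k * h)⁻¹ = k * (h * v ^ (p ^ n) * h⁻¹) * k⁻¹ := by group
  rw [h6, ← h5]
  group

end Key

end Cfsg.Agent.Lib.AgemoZ
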