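/-
FusionLocalPow: the local group lemma behind "p-th powers of Z(S)": a central `p`-power element
fixed by `N_L(W(P))` is fixed by all of `L`, if `W(P)` fails to be normal only in presence of a
quadratic element on `Z(O_p)`.
-/
import Mathlib
import Cfsg.Agent.Lib.PCore
import Cfsg.Agent.Lib.FusionAlperin
import Cfsg.Agent.Lib.FusionCore

set_option autoImplicit false

namespace Cfsg.Agent.Lib.FusionLocalPow

open Cfsg Cfsg.Agent.Lib.PCore
open scoped commutatorElement

universe u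

variable {p : ℕ} [hp : Fact p.Prime]

omit hp in
/-- The computation: if `h` centralizes `[h, v]`, `[h,v]` commutes with `v` and `h ^ n` centralizes
`v`, then `h` centralizes `v ^ n`. -/
lemma conj_pow_of_comm {G : Type*} [Group G] {h v : G} {n : ℕ}
    (h1 : Commute (h * v * h⁻¹ * v⁻¹) h) (h2 : Commute (h * v * h⁻¹ * v⁻¹) v)
    (h3 : Commute (h ^ n) v) : h * v ^ n * h⁻¹ = v ^ n := by
  obtain ⟨d, hd⟩ : ∃ d, d = h * v * h⁻¹ * v⁻¹ := ⟨_, rfl⟩
  rw [← hd] at h1 h2
  have hv : h * v * h⁻¹ = d * v := by rw [hd]; group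
  have key : ∀ k : ℕ, h ^ k * v * (h ^ k)⁻¹ = d ^ k * v := by
    intro k
    induction k with
    | zero => simp
    | succ k ih =>
      have h4 : d ^ k * h = h * d ^ k := (h1.pow_left k).eq
      calc h ^ (k + 1) * v * (h ^ (k + 1))⁻¹ = h * (h ^ k * v * (h ^ k)⁻¹) * h⁻¹ := by
            rw [pow_succ']; group
        _ = h * (d ^ k * v) * h⁻¹ := by rw [ih]
        _ = (h * d ^ k) * (v * h⁻¹) := by group
        _ = d ^ k * h * (v * h⁻¹) := by rw [h4]
        _ = d ^ k * (h * v * h⁻¹) := by group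
        _ = d ^ k * (d * v) := by rw [hv]
        _ = d ^ (k + 1) * v := by rw [pow_succ]; group
  have hdn : d ^ n = 1 := by
    have h5 := key n
    have h6 : h ^ n * v * (h ^ n)⁻¹ = v := by rw [h3.eq]; group
    rw [h6] at h5
    have h7 : d ^ n * v = 1 * v := by rw [one_mul]; exact h5.symm
    exact mul_right_cancel h7
  calc h * v ^ n * h⁻¹ = (h * v * h⁻¹) ^ n := by rw [conj_pow]
    _ = (d * v) ^ n := by rw [hv]
    _ = d ^ n * v ^ n := h2.mul_pow n
    _ = v ^ n := by rw [hdn, one_mul]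

/-- The Frattini step. -/
theorem central_of_conj_elt {G : Type*} [Group G] [Finite G] (P : Sylow p G) (y h : G)
    (hhP : h ∈ (P : Subgroup G)) (hhO : h ∉ pCore p G)
    (hconj : ∀ m : G, (m * h * m⁻¹) * y = y * (m * h * m⁻¹))
    (hprop : ∀ D : Subgroup G, (P : Subgroup G) ≤ D → D ≠ ⊤ → ∀ d ∈ D, d * y = y * d) :
    ∀ g : G, g * y = y * g := by
  classical
  intro g
  obtain ⟨K, hKdef⟩ : ∃ K, K = Subgroup.normalClosure ({h} : Set G) := ⟨_, rfl⟩
  haveI hKn : K.Normal := by rw [hKdef]; infer_instance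
  have hhK : h ∈ K := by
    rw [hKdef]
    exact Subgroup.subset_normalClosure (Set.mem_singleton h)
  have hKC : K ≤ Subgroup.centralizer ({y} : Set G) := by
    rw [hKdef, Subgroup.normalClosure, Subgroup.closure_le]
    intro z hz
    rw [Group.mem_conjugatesOfSet_iff] at hz
    obtain ⟨a, ha, hc⟩ := hz
    rw [Set.mem_singleton_iff] at ha
    subst ha
    obtain ⟨m, hm⟩ := isConj_iff.1 hc
    rw [SetLike.mem_coe, Subgroup.mem_centralizer_singleton_iff, ← hm]
    exact (hconj m)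
  obtain ⟨ν, κ, hκ, hg, hν⟩ := Cfsg.Agent.Lib.FusionAlperin.frattini_inf P K g
  let I : Subgroup G := (P : Subgroup G) ⊓ K
  let D : Subgroup G := Subgroup.normalizer (I : Set G)
  have hPD : (P : Subgroup G) ≤ D := by
    intro x hx
    apply Cfsg.Agent.Lib.FusionCore.mem_normalizer_of_conj_mem
    intro a ha
    exact ⟨(P : Subgroup G).mul_mem ((P : Subgroup G).mul_mem hx ha.1) ((P : Subgroup G).inv_mem hx),
      hKn.conj_mem _ ha.2 x⟩
  have hνD : ν ∈ D := Cfsg.Agent.Lib.FusionCore.mem_normalizer_of_conj_mem hν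
  have hD : D ≠ ⊤ := by
    intro hD
    have hIn : I.Normal := Subgroup.normalizer_eq_top_iff.1 hD
    have hIp : IsPGroup p I := P.isPGroup'.to_le inf_le_left
    exact hhO (le_pCore hIn hIp ⟨hhP, hhK⟩)
  have h1 := hprop D hPD hD ν hνD
  have h2 : κ * y = y * κ := Subgroup.mem_centralizer_singleton_iff.1 (hKC hκ)
  rw [hg]
  calc ν * κ * y = ν * (κ * y) := by group
    _ = ν * (y * κ) := by rw [h2]
    _ = (ν * y) * κ := by group
    _ = (y * ν) * κ := by rw [h1]
    _ = y * (ν * κ) := by group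

omit hp in
/-- The centre of the core. -/
lemma mem_zcore {G : Type*} [Group G] {O : Subgroup G} {a : G} :
    a ∈ (Subgroup.center ↥O).map O.subtype ↔ a ∈ O ∧ ∀ x ∈ O, x * a = a * x := by
  constructor
  · rintro ⟨z, hz, rfl⟩
    refine ⟨z.2, fun x hx => ?_⟩
    have := (Subgroup.mem_center_iff.1 hz) ⟨x, hx⟩
    exact congrArg Subtype.val this
  · rintro ⟨ha, h⟩
    refine ⟨⟨a, ha⟩, ?_, rfl⟩
    rw [SetLike.mem_coe, Subgroup.mem_center_iff]
    intro x
    exact Subtype.ext (h x x.2)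

omit hp in
lemma zcore_conj {G : Type*} [Group G] {O : Subgroup G} [hO : O.Normal] {a : G}
    (ha : a ∈ (Subgroup.center ↥O).map O.subtype) (m : G) :
    m * a * m⁻¹ ∈ (Subgroup.center ↥O).map O.subtype := by
  rw [mem_zcore] at ha ⊢
  refine ⟨hO.conj_mem _ ha.1 m, fun x hx => ?_⟩
  have hx' : m⁻¹ * x * m⁻¹⁻¹ ∈ O := hO.conj_mem _ hx m⁻¹
  have := ha.2 _ hx'
  calc x * (m * a * m⁻¹) = m * ((m⁻¹ * x * m⁻¹⁻¹) * a) * m⁻¹ := by group
    _ = m * (a * (m⁻¹ * x * m⁻¹⁻¹)) * m⁻¹ := by rw [this]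
    _ = _ := by group

/-- Power reduction: from `g ∉ O` a `p`-element, get a power with `h ∉ O`, `h ^ p ∈ O`. -/
lemma exists_pow_reduce {G : Type*} [Group G] [Finite G] {O : Subgroup G} {g : G} (hgO : g ∉ O)
    (hg : ∃ k : ℕ, g ^ p ^ k = 1) : ∃ h ∈ Subgroup.zpowers g, h ∉ O ∧ h ^ p ∈ O := by
  classical
  have hex : ∃ m : ℕ, g ^ p ^ m ∈ O := by
    obtain ⟨k, hk⟩ := hg
    exact ⟨k, by rw [hk]; exact O.one_mem⟩
  have hm := Nat.find_spec hex
  obtain ⟨m, hmdef⟩ : ∃ m, m = Nat.find hex := ⟨_, rfl⟩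
  rw [← hmdef] at hm
  have hm0 : m ≠ 0 := by
    rintro rfl
    apply hgO
    simpa using hm
  obtain ⟨n, rfl⟩ := Nat.exists_eq_succ_of_ne_zero hm0
  have hn : g ^ p ^ n ∉ O := by
    have := Nat.find_min hex (m := n) (by omega)
    exact this
  refine ⟨g ^ p ^ n, Subgroup.pow_mem _ (Subgroup.mem_zpowers g) _, hn, ?_⟩
  rw [← pow_mul, ← pow_succ]
  exact hm

/-- The local group lemma. -/
theorem local_pow (W : ∀ (Q : Type u) [Group Q], Subgroup Q)
    (hW2 : ∀ (Q R : Type u) [Group Q] [Group R] [Finite Q], IsPGroup p Q → ∀ φ : Q ≃* R,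
      (W Q).map φ.toMonoidHom = W R)
    (hq : ∀ (G : Type u) [Group G] [Finite G] (P : Sylow p G),
      ¬ (((W ↥(P : Subgroup G)).map (P : Subgroup G).subtype : Subgroup G)).Normal →
      ∃ g : G, g ∈ (P : Subgroup G) ∧ g ∉ Cfsg.pCore p G ∧
        ⁅⁅Subgroup.center ↥(Cfsg.pCore p G) |>.map (Cfsg.pCore p G).subtype, Subgroup.zpowers g⁆,
          Subgroup.zpowers g⁆ = ⊥) :
    ∀ (n : ℕ) (L : Type u) [Group L] [Finite L], Nat.card L = n → ∀ (P : Sylow p L) (v : L),
      v ∈ pCore p L → v ∈ (P : Subgroup L) → (∀ x ∈ (P : Subgroup L), x * v = v * x) →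
      (∀ g ∈ Subgroup.normalizer (((W ↥(P : Subgroup L)).map (P : Subgroup L).subtype : Subgroup L) : Set L),
        g * v ^ p * g⁻¹ = v ^ p) → ∀ g : L, g * v ^ p * g⁻¹ = v ^ p := by
  intro n
  induction n using Nat.strong_induction_on with
  | _ n ih =>
    intro L _ _ hn P v hvO hvP hvc hfix
    by_cases hnorm : ((W ↥(P : Subgroup L)).map (P : Subgroup L).subtype : Subgroup L).Normal
    · intro g
      apply hfix
      rw [Subgroup.normalizer_eq_top_iff.2 hnorm]
      trivial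
    obtain ⟨g₀, hg₀P, hg₀O, hcomm⟩ := hq L P hnorm
    have hg₀p : ∃ k : ℕ, g₀ ^ p ^ k = 1 := by
      obtain ⟨k, hk⟩ := P.isPGroup' ⟨g₀, hg₀P⟩
      exact ⟨k, congrArg Subtype.val hk⟩
    obtain ⟨h, hhg, hhO, hhpO⟩ := exists_pow_reduce (O := pCore p L) hg₀O hg₀p
    have hhP : h ∈ (P : Subgroup L) := (Subgroup.zpowers_le.2 hg₀P) hhg
    -- `v` is in the centre of the core
    have hvA : v ∈ (Subgroup.center ↥(pCore p L)).map (pCore p L).subtype := by
      rw [mem_zcore]
      exact ⟨hvO, fun x hx => hvc x (pCore_le_sylow p P hx)⟩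
    -- the action on the centre of the core
    have hA : ∀ a ∈ (Subgroup.center ↥(pCore p L)).map (pCore p L).subtype, h * a ^ p * h⁻¹ = a ^ p := by
      intro a ha
      have ha' := mem_zcore.1 ha
      apply conj_pow_of_comm
      · have h1 : ⁅a, h⁆ ∈ ⁅(Subgroup.center ↥(pCore p L)).map (pCore p L).subtype, Subgroup.zpowers g₀⁆ :=
          Subgroup.commutator_mem_commutator ha hhg
        have h2 : ⁅⁅a, h⁆, h⁆ ∈ ⁅⁅(Subgroup.center ↥(pCore p L)).map (pCore p L).subtype, Subgroup.zpowers g₀⁆,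
            Subgroup.zpowers g₀⁆ := Subgroup.commutator_mem_commutator h1 hhg
        rw [hcomm, Subgroup.mem_bot, commutatorElement_eq_one_iff_mul_comm] at h2
        have h3 : h * a * h⁻¹ * a⁻¹ = ⁅a, h⁆⁻¹ := by
          rw [commutatorElement_def]
          group
        rw [h3]
        exact Commute.inv_left h2
      · have h4 : h * a * h⁻¹ * a⁻¹ ∈ (Subgroup.center ↥(pCore p L)).map (pCore p L).subtype :=
          Subgroup.mul_mem _ (zcore_conj ha h) (Subgroup.inv_mem _ ha)
        exact ha'.2 _ (mem_zcore.1 h4).1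
      · exact ha'.2 _ hhpO
    -- proper overgroups
    have hprop : ∀ D : Subgroup L, (P : Subgroup L) ≤ D → D ≠ ⊤ → ∀ d ∈ D, d * v ^ p = v ^ p * d := by
      intro D hPD hD d hd
      have hcard : Nat.card D < n := by
        rw [← hn, ← Subgroup.card_top (G := L)]
        exact Cfsg.Agent.Lib.FusionAlperin.card_lt_of_lt (lt_top_iff_ne_top.2 hD)
      let PD : Sylow p ↥D := P.subtype hPD
      have hPDe : (PD : Subgroup D) = (P : Subgroup L).subgroupOf D := rfl
      have hPDmap : (PD : Subgroup D).map D.subtype = (P : Subgroup L) := by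
        rw [hPDe]
        exact Subgroup.map_subgroupOf_eq_of_le hPD
      -- compare the functor
      have hWmap : ((W ↥(PD : Subgroup D)).map (PD : Subgroup D).subtype).map D.subtype =
          (W ↥(P : Subgroup L)).map (P : Subgroup L).subtype := by
        have h1 : IsPGroup p ↥(PD : Subgroup D) := PD.isPGroup'
        let e : ↥(PD : Subgroup D) ≃* ↥(P : Subgroup L) :=
          ((PD : Subgroup D).equivMapOfInjective D.subtype Subtype.val_injective).trans
            (MulEquiv.subgroupCongr hPDmap)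
        rw [← hW2 _ _ h1 e, Subgroup.map_map, Subgroup.map_map]
        congr 1
      let vD : D := ⟨v, hPD hvP⟩
      have hvDO : vD ∈ pCore p ↥D := by
        have hn1 : ((pCore p L).subgroupOf D).Normal := inferInstance
        have hn2 : IsPGroup p ((pCore p L).subgroupOf D) :=
          (isPGroup_pCore p).comap_of_injective D.subtype Subtype.val_injective
        exact le_pCore hn1 hn2 (Subgroup.mem_subgroupOf.2 hvO)
      have hvDP : vD ∈ (PD : Subgroup D) := by
        rw [hPDe]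
        exact Subgroup.mem_subgroupOf.2 hvP
      have hvDc : ∀ x ∈ (PD : Subgroup D), x * vD = vD * x := by
        intro x hx
        rw [hPDe] at hx
        exact Subtype.ext (hvc x (Subgroup.mem_subgroupOf.1 hx))
      have hvDfix : ∀ g ∈ Subgroup.normalizer
          (((W ↥(PD : Subgroup D)).map (PD : Subgroup D).subtype : Subgroup D) : Set D),
          g * vD ^ p * g⁻¹ = vD ^ p := by
        intro g hg
        apply Subtype.ext
        have h2 : (g : L) ∈ Subgroup.normalizer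
            (((W ↥(P : Subgroup L)).map (P : Subgroup L).subtype : Subgroup L) : Set L) := by
          apply Cfsg.Agent.Lib.FusionCore.mem_normalizer_of_conj_mem
          intro y hy
          rw [← hWmap] at hy ⊢
          obtain ⟨x, hx, rfl⟩ := hy
          exact ⟨_, (Subgroup.mem_normalizer_iff.1 hg x).1 hx, rfl⟩
        exact hfix _ h2
      have h5 := ih _ hcard ↥D rfl PD vD hvDO hvDP hvDc hvDfix ⟨d, hd⟩
      have h6 : d * v ^ p * d⁻¹ = v ^ p := congrArg Subtype.val h5
      calc d * v ^ p = (d * v ^ p * d⁻¹) * d := by group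
        _ = v ^ p * d := by rw [h6]
    have hcentral := central_of_conj_elt P (v ^ p) h hhP hhO (fun m => ?_) hprop
    · intro g
      rw [hcentral g]
      group
    · have h7 := hA _ (zcore_conj hvA m⁻¹)
      have e1 : (m⁻¹ * v * m⁻¹⁻¹) ^ p = m⁻¹ * v ^ p * m⁻¹⁻¹ := conj_pow
      rw [e1] at h7
      have h8 : h * (m⁻¹ * v ^ p * m) = (m⁻¹ * v ^ p * m) * h := by
        calc h * (m⁻¹ * v ^ p * m) = (h * (m⁻¹ * v ^ p * m⁻¹⁻¹) * h⁻¹) * h := by group
          _ = (m⁻¹ * v ^ p * m⁻¹⁻¹) * h := by rw [h7]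
          _ = _ := by group
      calc m * h * m⁻¹ * v ^ p = m * (h * (m⁻¹ * v ^ p * m)) * m⁻¹ := by group
        _ = m * ((m⁻¹ * v ^ p * m) * h) * m⁻¹ := by rw [h8]
        _ = _ := by group

end Cfsg.Agent.Lib.FusionLocalPow
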