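/-
OrbitProd: products over orbits of a quadratically acting abelian `p`-group on a commutative group.
-/
import Mathlib
import Cfsg.Agent.Lib.FusionLocalPow

set_option autoImplicit false

namespace Cfsg.Agent.Lib.OrbitProd

open scoped BigOperators

variable {M : Type*} [CommGroup M]

/-- A finite set invariant under translation by an element `d` of prime order. -/
theorem prod_of_translate [DecidableEq M] {p : ℕ} (hp : p.Prime) {d : M} (hd : orderOf d = p) :
    ∀ (O : Finset M), (∀ u ∈ O, u * d ∈ O) →
      ∃ (y : M) (k : ℕ), O.card = p * k ∧ ∏ u ∈ O, u = y ^ p * (d ^ (p * (p - 1) / 2)) ^ k := by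
  have hd1 : d ^ p = 1 := by rw [← hd]; exact pow_orderOf_eq_one d
  intro O
  induction O using Finset.strongInduction with
  | H O ih =>
    intro hO
    rcases O.eq_empty_or_nonempty with rfl | ⟨u, hu⟩
    · exact ⟨1, 0, by simp, by simp⟩
    · have hpow : ∀ i : ℕ, u * d ^ i ∈ O := by
        intro i
        induction i with
        | zero => simpa using hu
        | succ i ih2 =>
          have := hO _ ih2
          rwa [mul_assoc, ← pow_succ] at this
      let C : Finset M := (Finset.range p).image (fun i => u * d ^ i)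
      have hinj : Set.InjOn (fun i => u * d ^ i) (Finset.range p : Set ℕ) := by
        intro i hi j hj hij
        have h1 : d ^ i = d ^ j := mul_left_cancel hij
        have hi' : i < orderOf d := by rw [hd]; exact Finset.mem_range.1 hi
        have hj' : j < orderOf d := by rw [hd]; exact Finset.mem_range.1 hj
        exact pow_injOn_Iio_orderOf hi' hj' h1
      have hCcard : C.card = p := by
        rw [Finset.card_image_of_injOn hinj, Finset.card_range]
      have hCsub : C ⊆ O := by
        intro w hw
        obtain ⟨i, -, rfl⟩ := Finset.mem_image.1 hw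
        exact hpow i
      have huC : u ∈ C := by
        refine Finset.mem_image.2 ⟨0, Finset.mem_range.2 hp.pos, by simp⟩
      have hCinv : ∀ w, w * d ∈ C → w ∈ C := by
        intro w hw
        obtain ⟨i, hi, he⟩ := Finset.mem_image.1 hw
        have hi' := Finset.mem_range.1 hi
        rcases Nat.eq_zero_or_pos i with rfl | hpos
        · refine Finset.mem_image.2 ⟨p - 1, Finset.mem_range.2 (by have := hp.pos; omega), ?_⟩
          have h2 : w * d = u := by simpa using he.symm
          have h3 : d ^ (p - 1) * d = 1 := by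
            rw [← pow_succ, Nat.sub_add_cancel hp.pos, hd1]
          have h4 : d ^ (p - 1) = d⁻¹ := eq_inv_of_mul_eq_one_left h3
          show u * d ^ (p - 1) = w
          rw [h4, ← h2]
          group
        · refine Finset.mem_image.2 ⟨i - 1, Finset.mem_range.2 (by omega), ?_⟩
          have h2 : w * d = u * d ^ i := he.symm
          have h3 : d ^ i = d ^ (i - 1) * d := by
            rw [← pow_succ, Nat.sub_add_cancel hpos]
          rw [h3, ← mul_assoc] at h2
          exact (mul_right_cancel h2).symm
      have hO' : O \ C ⊂ O := by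
        refine Finset.sdiff_ssubset hCsub ⟨u, huC⟩
      obtain ⟨y, k, hk, hy⟩ := ih (O \ C) hO' (by
        intro w hw
        rw [Finset.mem_sdiff] at hw ⊢
        exact ⟨hO w hw.1, fun hc => hw.2 (hCinv w hc)⟩)
      have hprodC : ∏ w ∈ C, w = u ^ p * d ^ (p * (p - 1) / 2) := by
        rw [Finset.prod_image hinj, Finset.prod_mul_distrib, Finset.prod_const, Finset.card_range,
          Finset.prod_pow_eq_pow_sum, Finset.sum_range_id]
      refine ⟨u * y, k + 1, ?_, ?_⟩
      · have h1 := Finset.card_sdiff_add_card_eq_card hCsub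
        rw [hCcard, hk] at h1
        rw [← h1]
        ring
      · have h2 := Finset.prod_sdiff (f := fun w : M => w) hCsub
        rw [← h2, hy, hprodC, mul_pow, pow_succ]
        simp only [mul_comm, mul_left_comm, mul_assoc]

/-- The exponent `p (p - 1) / 2` is a multiple of `p` for odd `p`. -/
lemma pow_tri_eq_one {p : ℕ} (hp2 : p ≠ 2) (hp : p.Prime) {d : M} (hd1 : d ^ p = 1) :
    d ^ (p * (p - 1) / 2) = 1 := by
  have hodd : Odd p := hp.odd_of_ne_two hp2
  obtain ⟨m, rfl⟩ := hodd
  have : (2 * m + 1) * (2 * m + 1 - 1) / 2 = (2 * m + 1) * m := by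
    have h1 : 2 * m + 1 - 1 = 2 * m := by omega
    rw [h1]
    have h2 : (2 * m + 1) * (2 * m) = 2 * ((2 * m + 1) * m) := by ring
    rw [h2, Nat.mul_div_cancel_left _ (by norm_num)]
  rw [this, pow_mul, hd1, one_pow]

variable {A : Type*} [Group A]

/-- A quadratically acting abelian `p`-group: the product over an invariant set without fixed points is a `p`-th power. -/
theorem prod_eq_pow [DecidableEq M] [Finite A] {p : ℕ} [hpp : Fact p.Prime] (hA : IsPGroup p A)
    (τ : A →* MulAut M)
    (hq : ∀ (a b : A) (u : M), τ b (τ a u * u⁻¹) = τ a u * u⁻¹)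
    (Δ₀ : Finset M)
    (hgood : p = 2 → ∀ u ∈ Δ₀, ∀ a : A, τ a u ≠ u → ∃ b : A, τ b u ≠ u ∧ τ b u ≠ τ a u) :
    ∀ Δ : Finset M, Δ ⊆ Δ₀ → (∀ (a : A), ∀ u ∈ Δ, τ a u ∈ Δ) → (∀ u ∈ Δ, ∃ a : A, τ a u ≠ u) →
      ∃ x : M, ∏ u ∈ Δ, u = x ^ p := by
  classical
  haveI := Fintype.ofFinite A
  intro Δ
  induction Δ using Finset.strongInduction with
  | H Δ ih =>
    intro hΔ₀ hΔ hfree
    rcases Δ.eq_empty_or_nonempty with rfl | ⟨u, hu⟩
    · exact ⟨1, by simp⟩
    · let O : Finset M := Finset.univ.image (fun a : A => τ a u)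
      have hOsub : O ⊆ Δ := by
        intro w hw
        obtain ⟨a, -, rfl⟩ := Finset.mem_image.1 hw
        exact hΔ a u hu
      have huO : u ∈ O := Finset.mem_image.2 ⟨1, Finset.mem_univ _, by simp⟩
      have hOmem : ∀ (c : A) {w : M}, w ∈ O → τ c w ∈ O := by
        intro c w hw
        obtain ⟨a, -, rfl⟩ := Finset.mem_image.1 hw
        refine Finset.mem_image.2 ⟨c * a, Finset.mem_univ _, ?_⟩
        rw [map_mul]
        rfl
      have hOinv : ∀ (c : A) {w : M}, τ c w ∈ O → w ∈ O := by
        intro c w hw
        have := hOmem c⁻¹ hw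
        rw [map_inv] at this
        simpa using this
      -- the stabilizer and an element of prime action
      let St : Subgroup A :=
        { carrier := {a | τ a u = u}
          mul_mem' := by
            intro a b ha hb
            show τ (a * b) u = u
            rw [map_mul]
            show τ a (τ b u) = u
            rw [show τ b u = u from hb]
            exact ha
          one_mem' := by
            show τ 1 u = u
            simp
          inv_mem' := by
            intro a ha
            show τ a⁻¹ u = u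
            rw [map_inv]
            show (τ a)⁻¹ u = u
            rw [MulAut.inv_def, MulEquiv.symm_apply_eq]
            exact (show τ a u = u from ha).symm }
      obtain ⟨a₀, ha₀⟩ := hfree u hu
      have ha₀' : a₀ ∉ St := ha₀
      have ha₀p : ∃ k : ℕ, a₀ ^ p ^ k = 1 := by
        obtain ⟨k, hk⟩ := hA a₀
        exact ⟨k, hk⟩
      obtain ⟨a, -, haS, hapS⟩ := Cfsg.Agent.Lib.FusionLocalPow.exists_pow_reduce ha₀' ha₀p
      have ha1 : τ a u ≠ u := haS
      have ha2 : τ (a ^ p) u = u := hapS
      let d : M := τ a u * u⁻¹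
      have hdfix : ∀ b : A, τ b d = d := fun b => hq a b u
      have hau : τ a u = u * d := by
        show τ a u = u * (τ a u * u⁻¹)
        rw [mul_comm, inv_mul_cancel_right]
      have hapow : ∀ n : ℕ, τ (a ^ n) u = u * d ^ n := by
        intro n
        induction n with
        | zero => simp
        | succ n ih2 =>
          rw [pow_succ, map_mul]
          show τ (a ^ n) (τ a u) = _
          rw [hau, map_mul, ih2, hdfix, pow_succ, mul_assoc]
      have hdp : d ^ p = 1 := by
        have := hapow p
        rw [ha2] at this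
        exact (mul_eq_left.1 this.symm)
      have hd1 : d ≠ 1 := by
        intro h
        apply ha1
        rw [hau, h, mul_one]
      have hord : orderOf d = p := orderOf_eq_prime hdp hd1
      have htr : ∀ w ∈ O, w * d ∈ O := by
        intro w hw
        obtain ⟨c, -, rfl⟩ := Finset.mem_image.1 hw
        refine Finset.mem_image.2 ⟨c * a, Finset.mem_univ _, ?_⟩
        show τ (c * a) u = τ c u * d
        rw [map_mul]
        show τ c (τ a u) = _
        rw [hau, map_mul, hdfix]
      obtain ⟨y, k, hk, hy⟩ := prod_of_translate hpp.out hord O htr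
      -- the orbit product is a `p`-th power
      have hOp : ∃ z : M, ∏ w ∈ O, w = z ^ p := by
        by_cases hp2 : p = 2
        · subst hp2
          -- the orbit has at least four elements
          have hcard : ∃ n : ℕ, O.card = 2 ^ n := by
            letI : MulAction A M := MulAction.compHom M τ
            have hset : (O : Set M) = MulAction.orbit A u := by
              ext w
              simp only [Finset.coe_image, Finset.coe_univ, Set.image_univ, O]
              rfl
            haveI : Finite (MulAction.orbit A u) := by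
              rw [← hset]
              exact Finite.of_fintype _
            obtain ⟨n, hn⟩ := IsPGroup.card_orbit hA u
            refine ⟨n, ?_⟩
            rw [← hn, ← hset]
            simp
          obtain ⟨b, hb1, hb2⟩ := hgood rfl u (hΔ₀ hu) a ha1
          have hthree : 2 < O.card := by
            have hb3 : τ b u ∈ O := Finset.mem_image.2 ⟨b, Finset.mem_univ _, rfl⟩
            have ha3 : τ a u ∈ O := Finset.mem_image.2 ⟨a, Finset.mem_univ _, rfl⟩
            have hsub : ({u, τ a u, τ b u} : Finset M) ⊆ O := by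
              intro w hw
              simp only [Finset.mem_insert, Finset.mem_singleton] at hw
              rcases hw with rfl | rfl | rfl
              · exact huO
              · exact ha3
              · exact hb3
            have hc3 : ({u, τ a u, τ b u} : Finset M).card = 3 := by
              rw [Finset.card_eq_three]
              exact ⟨u, τ a u, τ b u, ha1.symm, hb1.symm, hb2.symm, rfl⟩
            have := Finset.card_le_card hsub
            omega
          obtain ⟨n, hn⟩ := hcard
          have hn2 : 2 ≤ n := by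
            by_contra hlt
            have : n = 0 ∨ n = 1 := by omega
            rcases this with rfl | rfl <;> simp [hn] at hthree
          obtain ⟨m, rfl⟩ : ∃ m, n = m + 2 := ⟨n - 2, by omega⟩
          have hkeven : 2 ∣ k := by
            have : 2 * k = 2 ^ (m + 2) := by rw [← hk, hn]
            have h2 : k = 2 * 2 ^ m := by
              have h3 : 2 ^ (m + 2) = 2 * (2 * 2 ^ m) := by ring
              omega
            exact ⟨_, h2⟩
          obtain ⟨k', rfl⟩ := hkeven
          refine ⟨y, ?_⟩
          rw [hy]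
          have : (d ^ (2 * (2 - 1) / 2)) ^ (2 * k') = 1 := by
            norm_num
            rw [pow_mul, hdp, one_pow]
          rw [this, mul_one]
        · refine ⟨y, ?_⟩
          rw [hy, pow_tri_eq_one hp2 hpp.out hdp, one_pow, mul_one]
      obtain ⟨z, hz⟩ := hOp
      have hsub : Δ \ O ⊂ Δ := Finset.sdiff_ssubset hOsub ⟨u, huO⟩
      obtain ⟨x, hx⟩ := ih (Δ \ O) hsub (Finset.sdiff_subset.trans hΔ₀) (by
        intro c w hw
        rw [Finset.mem_sdiff] at hw ⊢
        exact ⟨hΔ c w hw.1, fun hc => hw.2 (hOinv c hc)⟩) (fun w hw =>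
        hfree w (Finset.mem_sdiff.1 hw).1)
      refine ⟨z * x, ?_⟩
      have h2 := Finset.prod_sdiff (f := fun w : M => w) hOsub
      rw [← h2, hx, hz, mul_pow, mul_comm]

/-- If the conjugates of `v` generate and `v` is a `p`-th power away from the norm, then everything is fixed. -/
theorem fixed_of_prod [DecidableEq M] [Finite M] {G : Type*} [Group G] [Fintype G] {p : ℕ} [hpp : Fact p.Prime]
    (hM : IsPGroup p M) (τ : G →* MulAut M) (v : M)
    (hgen : Subgroup.closure (Set.range (fun g : G => τ g v)) = ⊤)
    (hx : ∃ x : M, ∏ u ∈ (Finset.univ.image (fun g : G => τ g v) : Finset M).erase v, u = x ^ p) :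
    ∀ (g : G) (w : M), τ g w = w := by
  classical
  obtain ⟨x, hx⟩ := hx
  let Ωs : Finset M := Finset.univ.image (fun g : G => τ g v)
  have hvΩ : v ∈ Ωs := Finset.mem_image.2 ⟨1, Finset.mem_univ _, by simp⟩
  let π : M := ∏ u ∈ Ωs, u
  have hπ : ∀ g : G, τ g π = π := by
    intro g
    show τ g (∏ u ∈ Ωs, u) = ∏ u ∈ Ωs, u
    rw [map_prod]
    refine Finset.prod_equiv (τ g).toEquiv (fun u => ?_) (fun _ _ => rfl)
    constructor
    · intro hu
      obtain ⟨h, -, rfl⟩ := Finset.mem_image.1 hu
      refine Finset.mem_image.2 ⟨g * h, Finset.mem_univ _, ?_⟩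
      rw [map_mul]
      rfl
    · intro hu
      obtain ⟨h, -, he⟩ := Finset.mem_image.1 hu
      refine Finset.mem_image.2 ⟨g⁻¹ * h, Finset.mem_univ _, ?_⟩
      have h1 : τ g u = τ h v := he.symm
      show τ (g⁻¹ * h) v = u
      rw [map_mul, map_inv]
      show (τ g)⁻¹ (τ h v) = u
      rw [← h1]
      simp
  have hπv : π = v * x ^ p := by
    have hx' : ∏ u ∈ Ωs.erase v, u = x ^ p := hx
    show ∏ u ∈ Ωs, u = _
    rw [← Finset.mul_prod_erase Ωs (fun u : M => u) hvΩ, hx']
  -- the fixed subgroup
  let C : Subgroup M :=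
    { carrier := {c | ∀ g : G, τ g c = c}
      mul_mem' := by
        intro a b ha hb g
        rw [map_mul, ha g, hb g]
      one_mem' := fun g => map_one _
      inv_mem' := by
        intro a ha g
        rw [map_inv, ha g] }
  let N : Subgroup M := C ⊔ (powMonoidHom p : M →* M).range
  have hN : N = ⊤ := by
    rw [eq_top_iff, ← hgen, Subgroup.closure_le]
    rintro _ ⟨g, rfl⟩
    have h1 : τ g v = π * (τ g x⁻¹) ^ p := by
      have h2 : τ g π = τ g v * (τ g x) ^ p := by
        rw [hπv, map_mul, map_pow]
      rw [hπ g] at h2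
      rw [h2, map_inv, inv_pow]
      group
    show τ g v ∈ N
    rw [h1]
    exact N.mul_mem ((le_sup_left : C ≤ N) (hπ))
      ((le_sup_right : (powMonoidHom p : M →* M).range ≤ N) ⟨_, rfl⟩)
  have hdec : ∀ y : M, ∃ c ∈ C, ∃ w : M, y = c * w ^ p := by
    intro y
    have hy : y ∈ C ⊔ (powMonoidHom p : M →* M).range := by
      show y ∈ N
      rw [hN]
      trivial
    obtain ⟨c, hc, z, ⟨w, rfl⟩, rfl⟩ := Subgroup.mem_sup.1 hy
    exact ⟨c, hc, w, rfl⟩
  have hiter : ∀ (k : ℕ) (y : M), ∃ c ∈ C, ∃ w : M, y = c * w ^ p ^ k := by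
    intro k
    induction k with
    | zero =>
      intro y
      exact ⟨1, C.one_mem, y, by simp⟩
    | succ k ih =>
      intro y
      obtain ⟨c, hc, w, rfl⟩ := ih y
      obtain ⟨c', hc', w', rfl⟩ := hdec w
      refine ⟨c * c' ^ p ^ k, C.mul_mem hc (C.pow_mem hc' _), w', ?_⟩
      rw [mul_pow, ← pow_mul, mul_assoc, pow_succ']
  intro g w
  obtain ⟨n, hn⟩ := (IsPGroup.iff_card.1 hM)
  obtain ⟨c, hc, w', rfl⟩ := hiter n w
  have : w' ^ p ^ n = 1 := by
    rw [← hn]
    exact pow_card_eq_one'
  rw [this, mul_one]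
  exact hc g

/-- The fixed-point version: a unique fixed point of `A` on the orbit of `v`. -/
theorem fix_of_unique {L : Type*} [Group L] [Fintype L] [DecidableEq M] [Finite M] {p : ℕ} [hpp : Fact p.Prime]
    (hM : IsPGroup p M) (τ : L →* MulAut M) (A : Subgroup L) (hA : IsPGroup p A) (v : M)
    (hgen : Subgroup.closure (Set.range (fun g : L => τ g v)) = ⊤)
    (hq : ∀ a ∈ A, ∀ b ∈ A, ∀ u : M, τ b (τ a u * u⁻¹) = τ a u * u⁻¹)
    (hv : ∀ a ∈ A, τ a v = v)
    (huniq : ∀ g : L, (∀ a ∈ A, τ a (τ g v) = τ g v) → τ g v = v)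
    (hgood : p = 2 → ∀ g : L, τ g v ≠ v → ∀ a ∈ A, τ a (τ g v) ≠ τ g v →
      ∃ b ∈ A, τ b (τ g v) ≠ τ g v ∧ τ b (τ g v) ≠ τ a (τ g v)) :
    ∀ (g : L) (w : M), τ g w = w := by
  classical
  haveI : Finite A := inferInstance
  let τA : A →* MulAut M := τ.comp A.subtype
  let Ωs : Finset M := Finset.univ.image (fun g : L => τ g v)
  have hmemΩ : ∀ u, u ∈ Ωs ↔ ∃ g : L, τ g v = u := by
    intro u
    simp [Ωs]
  refine fixed_of_prod hM τ v hgen ?_
  refine prod_eq_pow hA τA (fun a b u => hq a a.2 b b.2 u) (Ωs.erase v) ?_ _ subset_rfl ?_ ?_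
  · intro hp2 u hu a ha
    obtain ⟨hu1, hu2⟩ := Finset.mem_erase.1 hu
    obtain ⟨g, rfl⟩ := (hmemΩ u).1 hu2
    obtain ⟨b, hb, h1, h2⟩ := hgood hp2 g hu1 a a.2 ha
    exact ⟨⟨b, hb⟩, h1, h2⟩
  · intro a u hu
    obtain ⟨hu1, hu2⟩ := Finset.mem_erase.1 hu
    obtain ⟨g, rfl⟩ := (hmemΩ u).1 hu2
    refine Finset.mem_erase.2 ⟨fun hc => hu1 ?_, (hmemΩ _).2 ⟨a * g, ?_⟩⟩
    · have h1 : τ a (τ g v) = τ a v := by
        rw [hv a a.2]
        exact hc
      exact (τ a).injective h1
    · show τ ((a : L) * g) v = τ a (τ g v)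
      rw [map_mul]
      rfl
  · intro u hu
    obtain ⟨hu1, hu2⟩ := Finset.mem_erase.1 hu
    obtain ⟨g, rfl⟩ := (hmemΩ u).1 hu2
    by_contra hcon
    push Not at hcon
    exact hu1 (huniq g (fun a ha => hcon ⟨a, ha⟩))

end Cfsg.Agent.Lib.OrbitProd
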