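/-
FusionJLocal: fusion of the abelian subgroups of largest order in a finite group `L`, relative to a
subgroup `C` containing the relevant local subgroups.
-/
import Mathlib
import Cfsg.Prelude.Def_PLocal
import Cfsg.Agent.Lib.AlperinControl
import Cfsg.Agent.Lib.AbReplace
import Cfsg.Agent.Lib.PCore
import Cfsg.Agent.Lib.FusionGT
import Cfsg.Agent.Lib.ControlSec
import Cfsg.Agent.Lib.FusionAlperin
import Cfsg.Agent.Lib.FusionLocalPow
import Cfsg.Agent.Lib.OrbitProd
import Cfsg.Agent.S0649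
import Cfsg.Agent.S0650

set_option autoImplicit false

namespace Cfsg.Agent.Lib.FusionJLocal

open Cfsg Cfsg.Agent.Lib.PCore Cfsg.Agent.Lib.AlperinControl
open scoped commutatorElement

universe u

variable {L : Type*} [Group L]

/-- The abelian subgroups of largest order in a subgroup `P`, inside the ambient group. -/
structure MA (P A : Subgroup L) : Prop where
  le : A ≤ P
  comm : ∀ a ∈ A, ∀ b ∈ A, a * b = b * a
  max : ∀ B : Subgroup L, B ≤ P → (∀ a ∈ B, ∀ b ∈ B, a * b = b * a) → Nat.card B ≤ Nat.card A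

/-- The Thompson subgroup of a subgroup, inside the ambient group. -/
abbrev JJ (P : Subgroup L) : Subgroup L := (thompsonSubgroupA ↥P).map P.subtype

lemma MA.of_mem {P : Subgroup L} {A : Subgroup ↥P} (h : A ∈ maxAbelianSubgroups ↥P) :
    MA P (A.map P.subtype) := by
  have hc := Cfsg.Agent.Lib.AbReplace.forall_of_isMulCommutative h.1
  refine ⟨Subgroup.map_subtype_le _, ?_, fun B hB hBc => ?_⟩
  · rintro _ ⟨a, ha, rfl⟩ _ ⟨b, hb, rfl⟩
    exact congrArg Subtype.val (hc a ha b hb)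
  · rw [Subgroup.card_map_of_injective P.subtype_injective]
    have h1 : IsMulCommutative (B.subgroupOf P) :=
      Cfsg.Agent.Lib.AbReplace.isMulCommutative_of_forall (fun a ha b hb =>
        Subtype.ext (hBc a (Subgroup.mem_subgroupOf.1 ha) b (Subgroup.mem_subgroupOf.1 hb)))
    have h2 := h.2 _ h1
    have h3 : Nat.card (B.subgroupOf P) = Nat.card B :=
      Nat.card_congr (Subgroup.subgroupOfEquivOfLe hB).toEquiv
    rwa [h3] at h2

lemma MA.mem {P A : Subgroup L} (h : MA P A) : A.subgroupOf P ∈ maxAbelianSubgroups ↥P := by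
  refine ⟨Cfsg.Agent.Lib.AbReplace.isMulCommutative_of_forall (fun a ha b hb =>
    Subtype.ext (h.comm a (Subgroup.mem_subgroupOf.1 ha) b (Subgroup.mem_subgroupOf.1 hb))), fun B hB => ?_⟩
  have hc := Cfsg.Agent.Lib.AbReplace.forall_of_isMulCommutative hB
  have h1 := h.max (B.map P.subtype) (Subgroup.map_subtype_le _) (by
    rintro _ ⟨a, ha, rfl⟩ _ ⟨b, hb, rfl⟩
    exact congrArg Subtype.val (hc a ha b hb))
  rw [Subgroup.card_map_of_injective P.subtype_injective] at h1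
  have h3 : Nat.card (A.subgroupOf P) = Nat.card A :=
    Nat.card_congr (Subgroup.subgroupOfEquivOfLe h.le).toEquiv
  rwa [h3]

lemma MA.le_JJ {P A : Subgroup L} (h : MA P A) : A ≤ JJ P := by
  intro a ha
  refine ⟨⟨a, h.le ha⟩, ?_, rfl⟩
  exact (le_sSup h.mem : A.subgroupOf P ≤ thompsonSubgroupA ↥P) (Subgroup.mem_subgroupOf.2 ha)

lemma JJ_le {P X : Subgroup L} (h : ∀ A, MA P A → A ≤ X) : JJ P ≤ X := by
  rw [JJ, Subgroup.map_le_iff_le_comap]
  refine sSup_le (fun A hA a ha => ?_)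
  exact h _ (MA.of_mem hA) ⟨a, ha, rfl⟩

lemma MA.conj {P A : Subgroup L} (h : MA P A) {g : L} (hg : cj g A ≤ P) : MA P (cj g A) := by
  refine ⟨hg, ?_, fun B hB hBc => ?_⟩
  · rintro _ ⟨a, ha, rfl⟩ _ ⟨b, hb, rfl⟩
    show g * a * g⁻¹ * (g * b * g⁻¹) = g * b * g⁻¹ * (g * a * g⁻¹)
    calc g * a * g⁻¹ * (g * b * g⁻¹) = g * (a * b) * g⁻¹ := by group
      _ = g * (b * a) * g⁻¹ := by rw [h.comm a ha b hb]
      _ = _ := by group
  · rw [card_cj]
    exact h.max B hB hBc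

lemma MA.mono {P T A : Subgroup L} (h : MA P A) (hAT : A ≤ T) (hTP : T ≤ P) : MA T A :=
  ⟨hAT, h.comm, fun B hB hBc => h.max B (hB.trans hTP) hBc⟩

lemma MA.le_of_comm [Finite L] {P A C : Subgroup L} (h : MA P A) (hCP : C ≤ P)
    (hC : ∀ a ∈ C, ∀ b ∈ C, a * b = b * a) (hAC : ∀ a ∈ A, ∀ b ∈ C, a * b = b * a) : C ≤ A := by
  have hc := Cfsg.Agent.Lib.AbReplace.comm_sup A C h.comm hC hAC
  have h1 := h.max (A ⊔ C) (sup_le h.le hCP) hc
  have h2 : A = A ⊔ C := Subgroup.eq_of_le_of_card_ge le_sup_left h1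
  rw [h2]
  exact le_sup_right

lemma MA.mem_of_central [Finite L] {P A : Subgroup L} (h : MA P A) {v : L} (hv : v ∈ P)
    (hvc : ∀ x ∈ P, x * v = v * x) : v ∈ A := by
  have : Subgroup.zpowers v ≤ A := by
    refine h.le_of_comm (Subgroup.zpowers_le.2 hv) ?_ ?_
    · rintro _ ⟨m, rfl⟩ _ ⟨n, rfl⟩
      simp only
      rw [← zpow_add, ← zpow_add, add_comm]
    · rintro a ha _ ⟨n, rfl⟩
      simp only
      have hc : Commute a v := hvc a (h.le ha)
      exact (hc.zpow_right n).eq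
  exact this (Subgroup.mem_zpowers v)

/-- The family of subgroups above a member of `𝔸` outside `O`. -/
def RR (P O R : Subgroup L) : Prop := R ≤ P ∧ ∃ A, MA P A ∧ ¬ A ≤ O ∧ A ≤ R

lemma RR.mono {P O R R' : Subgroup L} (h : RR P O R) (hRR' : R ≤ R') (hR'P : R' ≤ P) : RR P O R' := by
  obtain ⟨-, A, h1, h2, h3⟩ := h
  exact ⟨hR'P, A, h1, h2, h3.trans hRR'⟩

lemma RR.conj {P O R : Subgroup L} [hO : O.Normal] (h : RR P O R) {g : L} (hg : cj g R ≤ P) :
    RR P O (cj g R) := by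
  obtain ⟨-, A, h1, h2, h3⟩ := h
  have hAR : cj g A ≤ cj g R := Subgroup.map_mono h3
  refine ⟨hg, cj g A, h1.conj (hAR.trans hg), fun hc => h2 (fun a ha => ?_), hAR⟩
  have := hc (conj_mem_cj (g := g) ha)
  have h5 := hO.conj_mem _ this g⁻¹
  have e : g⁻¹ * (g * a * g⁻¹) * g⁻¹⁻¹ = a := by group
  rwa [e] at h5

lemma RR.mem [Finite L] {P O R : Subgroup L} (h : RR P O R) {v : L} (hv : v ∈ P)
    (hvc : ∀ x ∈ P, x * v = v * x) : v ∈ R := by
  obtain ⟨-, A, h1, -, h3⟩ := h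
  exact h3 (h1.mem_of_central hv hvc)

lemma RR.not_normal {P R : Subgroup L} {p : ℕ} (h : RR P (pCore p L) R) (hRp : IsPGroup p R) : ¬ R.Normal := by
  intro hn
  obtain ⟨-, A, -, h2, h3⟩ := h
  exact h2 (h3.trans (le_pCore hn hRp))

section Tame

variable [Finite L] {p : ℕ} [hp : Fact p.Prime]

/-- The extension lemma: a fully normalized conjugate into which the normalizer is carried. -/
theorem tame_ext {P R : Subgroup L} (hP : IsSyl p P ⊤) (hR : R ≤ P) :
    ∃ h : L, cj h R ≤ P ∧ IsSyl p (P ⊓ NN (cj h R)) (NN (cj h R)) ∧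
      cj h (P ⊓ NN R) ≤ P ⊓ NN (cj h R) := by
  have hTp : IsPGroup p ↥(P ⊓ NN R) := hP.pgrp.to_le inf_le_left
  obtain ⟨T₁, hT₁, hTT₁⟩ := exists_isSyl_ge (inf_le_right : P ⊓ NN R ≤ NN R) hTp
  obtain ⟨h, -, hh⟩ := hP.conj T₁ le_top hT₁.pgrp
  have hRT₁ : R ≤ T₁ := (le_inf hR Subgroup.le_normalizer).trans hTT₁
  have h1 : cj h T₁ ≤ P ⊓ NN (cj h R) := by
    refine le_inf (cj_le_iff.2 hh) ?_
    rw [← cj_NN]
    exact Subgroup.map_mono hT₁.le
  have h2 := Cfsg.Agent.Lib.ControlSec.isSyl_cj hT₁ h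
  rw [cj_NN] at h2
  have h3 : P ⊓ NN (cj h R) = cj h T₁ :=
    h2.eq_of_le inf_le_right (hP.pgrp.to_le inf_le_left) h1
  refine ⟨h, cj_le_iff.2 (fun a ha => hh a (hRT₁ ha)), ?_, ?_⟩
  · rw [h3]
    exact h2
  · rw [h3]
    exact Subgroup.map_mono hTT₁

/-- The statement at a level. -/
def LevA (P O C : Subgroup L) (k : ℕ) : Prop :=
  ∀ Q, RR P O Q → IsSyl p (P ⊓ NN Q) (NN Q) → k < Nat.card ↥(P ⊓ NN Q) → NN Q ≤ C

/-- The fusion statement at a level. -/
def LevB (P O C : Subgroup L) (k : ℕ) : Prop :=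
  ∀ R, RR P O R → k < Nat.card R → ∀ g, cj g R ≤ P → g ∈ C

lemma card_lt_of_lt' {A B : Subgroup L} (h : A < B) : Nat.card A < Nat.card B :=
  Cfsg.Agent.Lib.FusionAlperin.card_lt_of_lt h

theorem levB_of_levA {P O C : Subgroup L} [hO : O.Normal] (hP : IsSyl p P ⊤) {k : ℕ}
    (hA : LevA (p := p) P O C k) : LevB P O C k := by
  have main : ∀ (n : ℕ) (R : Subgroup L), Nat.card P - Nat.card R = n → RR P O R → k < Nat.card R →
      ∀ g, cj g R ≤ P → g ∈ C := by
    intro n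
    induction n using Nat.strong_induction_on with
    | _ n ih =>
      intro R hn hR hk g hg
      have hRP : R ≤ P := hR.1
      have IH : ∀ R' : Subgroup L, R' ≤ P → Nat.card R < Nat.card R' → RR P O R' → ∀ g, cj g R' ≤ P → g ∈ C := by
        intro R' hR'P hlt hR' g hg
        have h5 : Nat.card R' ≤ Nat.card P := Subgroup.card_le_of_le hR'P
        exact ih _ (by omega) R' rfl hR' (by omega) g hg
      by_cases hRe : R = P
      · subst hRe
        have hgN : g ∈ NN R := mem_NN_of_forall (fun x hx => hg (conj_mem_cj hx))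
        have hinf : R ⊓ NN R = R := inf_eq_left.2 Subgroup.le_normalizer
        refine hA R hR ?_ ?_ hgN
        · rw [hinf]
          exact Cfsg.Agent.Lib.ControlSec.isSyl_of_le hP Subgroup.le_normalizer le_top
        · rw [hinf]
          exact hk
      · have hlt : R < P := lt_of_le_of_ne hRP hRe
        have hR'conj : RR P O (cj g R) := hR.conj hg
        have hcard : Nat.card (cj g R) = Nat.card R := card_cj g R
        have hlt' : cj g R < P := by
          refine lt_of_le_of_ne hg (fun he => ?_)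
          have h1 := card_lt_of_lt' hlt
          rw [← he, hcard] at h1
          exact lt_irrefl _ h1
        -- the first normalizer
        have hT := lt_inf_NN (p := p) hP.pgrp hlt
        have hT' := lt_inf_NN (p := p) hP.pgrp hlt'
        obtain ⟨h, h1, h2, h3⟩ := tame_ext hP hRP
        obtain ⟨h', h1', h2', h3'⟩ := tame_ext hP hg
        have hhC : h ∈ C := IH _ inf_le_left (card_lt_of_lt' hT)
          (hR.mono hT.le inf_le_left) h (h3.trans (inf_le_left (b := NN (cj h R))))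
        have hh'C : h' ∈ C := IH _ inf_le_left (by rw [← hcard]; exact card_lt_of_lt' hT')
          (hR'conj.mono hT'.le inf_le_left) h' (h3'.trans (inf_le_left (b := NN (cj h' (cj g R)))))
        -- the conjugation between fully normalized conjugates
        let y : L := h' * g * h⁻¹
        have hy : cj y (cj h R) = cj h' (cj g R) := by
          rw [← cj_mul, ← cj_mul]
          congr 1
          show h' * g * h⁻¹ * h = h' * g
          group
        have hTl : cj y (P ⊓ NN (cj h R)) ≤ NN (cj h' (cj g R)) := by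
          rw [← hy, ← cj_NN y (cj h R)]
          exact Subgroup.map_mono inf_le_right
        obtain ⟨m, hm, hmc⟩ := h2'.conj _ hTl (isPGroup_cj (hP.pgrp.to_le inf_le_left) y)
        have hmyT : cj (m * y) (P ⊓ NN (cj h R)) ≤ P := by
          rw [cj_mul]
          exact cj_le_iff.2 (fun a ha => (hmc a ha).1)
        have hcardT : Nat.card R < Nat.card ↥(P ⊓ NN (cj h R)) := by
          calc Nat.card R < Nat.card ↥(P ⊓ NN R) := card_lt_of_lt' hT
            _ = Nat.card (cj h (P ⊓ NN R)) := (card_cj h _).symm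
            _ ≤ _ := Subgroup.card_le_of_le h3
        have hR₁ : RR P O (cj h R) := hR.conj h1
        have hR₂ : RR P O (cj h' (cj g R)) := hR'conj.conj h1'
        have hmyC : m * y ∈ C := IH _ inf_le_left hcardT
          (hR₁.mono (le_inf h1 Subgroup.le_normalizer) inf_le_left) _ hmyT
        have hmC : m ∈ C := by
          refine hA _ hR₂ h2' ?_ hm
          calc k < Nat.card R := hk
            _ = Nat.card (cj h' (cj g R)) := by rw [card_cj, card_cj]
            _ ≤ _ := Subgroup.card_le_of_le (le_inf h1' Subgroup.le_normalizer)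
        have hyC : y ∈ C := by
          have := C.mul_mem (C.inv_mem hmC) hmyC
          simpa using this
        have e : g = h'⁻¹ * y * h := by
          show g = h'⁻¹ * (h' * g * h⁻¹) * h
          group
        rw [e]
        exact C.mul_mem (C.mul_mem (C.inv_mem hh'C) hyC) hhC
  intro R hR hk g hg
  exact main _ R rfl hR hk g hg

/-- `J` is invariant under isomorphisms. -/
lemma JJ_map {G H : Type*} [Group G] [Group H] (f : G →* H) (hf : Function.Injective f) (X : Subgroup G) :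
    (JJ X).map f = JJ (X.map f) := by
  have h1 := Cfsg.Agent.Lib.FusionGT.thompsonA_map (X.equivMapOfInjective f hf)
  rw [JJ, JJ, ← h1, Subgroup.map_map, Subgroup.map_map]
  rfl

/-- The normalizer of `T` normalizes `J(T)`. -/
lemma mem_NN_JJ {T : Subgroup L} {g : L} (hg : g ∈ NN T) : g ∈ NN (JJ T) := by
  apply mem_NN_of_forall
  rintro _ ⟨t, ht, rfl⟩
  let φ : MulAut ↥T := Subgroup.normalizerMonoidHom T ⟨g, hg⟩
  have h1 := Cfsg.Agent.Lib.FusionGT.thompsonA_map φ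
  have h2 : φ t ∈ thompsonSubgroupA ↥T := by
    rw [← h1]
    exact Subgroup.mem_map_of_mem _ ht
  exact ⟨φ t, h2, rfl⟩

/-- One step of the descent on normalizers. -/
theorem levA_step {P O C : Subgroup L} [hO : O.Normal] (hP : IsSyl p P ⊤)
    (hfixP : NN (JJ P) ≤ C)
    (hloc : ∀ Q, RR P O Q → IsSyl p (P ⊓ NN Q) (NN Q) → NN Q ⊓ NN (JJ (P ⊓ NN Q)) ≤ C → NN Q ≤ C) {k : ℕ}
    (hA : LevA (p := p) P O C (k + 1)) : LevA (p := p) P O C k := by
  intro Q hQ hsyl hk
  by_cases hk' : k + 1 < Nat.card ↥(P ⊓ NN Q)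
  · exact hA Q hQ hsyl hk'
  have hcard : Nat.card ↥(P ⊓ NN Q) = k + 1 := by omega
  refine hloc Q hQ hsyl ?_
  rintro g ⟨hg1, hg2⟩
  by_cases hTP : P ⊓ NN Q = P
  · rw [hTP] at hg2
    exact hfixP hg2
  · have hTlt : P ⊓ NN Q < P := lt_of_le_of_ne inf_le_left hTP
    obtain ⟨T, hTdef⟩ : ∃ T, T = P ⊓ NN Q := ⟨_, rfl⟩
    rw [← hTdef] at hg2 hTlt hcard
    have hTP' : T ≤ P := hTlt.le
    have hVT : JJ T ≤ T := Subgroup.map_subtype_le _
    have hVP : JJ T ≤ P := hVT.trans hTP'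
    have hRV : RR P O (JJ T) := by
      obtain ⟨-, A, h1, h2, h3⟩ := hQ
      have hAT : A ≤ T := by
        rw [hTdef]
        exact le_inf h1.le (h3.trans Subgroup.le_normalizer)
      exact ⟨hVP, A, h1, h2, (h1.mono hAT hTP').le_JJ⟩
    have hT2 := lt_inf_NN (p := p) hP.pgrp hTlt
    have hnorm : P ⊓ NN T ≤ P ⊓ NN (JJ T) := inf_le_inf_left _ (fun x hx => mem_NN_JJ hx)
    have hcardV : k + 1 < Nat.card ↥(P ⊓ NN (JJ T)) := by
      rw [← hcard]
      exact lt_of_lt_of_le (card_lt_of_lt' hT2) (Subgroup.card_le_of_le hnorm)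
    obtain ⟨h, h1, h2, h3⟩ := tame_ext hP hVP
    have hB := levB_of_levA hP hA
    have hhC : h ∈ C := hB _ (hRV.mono (le_inf hVP Subgroup.le_normalizer) inf_le_left) hcardV h
      (h3.trans (inf_le_left (b := NN (cj h (JJ T)))))
    have hN : NN (cj h (JJ T)) ≤ C := by
      refine hA _ (hRV.conj h1) h2 (lt_of_lt_of_le hcardV ?_)
      calc Nat.card ↥(P ⊓ NN (JJ T)) = Nat.card (cj h (P ⊓ NN (JJ T))) := (card_cj h _).symm
        _ ≤ _ := Subgroup.card_le_of_le h3
    have h4 : h * g * h⁻¹ ∈ C := by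
      apply hN
      rw [← cj_NN h (JJ T)]
      exact conj_mem_cj hg2
    have e : g = h⁻¹ * (h * g * h⁻¹) * h := by group
    rw [e]
    exact C.mul_mem (C.mul_mem (C.inv_mem hhC) h4) hhC

theorem levA_all {P O C : Subgroup L} [hO : O.Normal] (hP : IsSyl p P ⊤)
    (hfixP : NN (JJ P) ≤ C)
    (hloc : ∀ Q, RR P O Q → IsSyl p (P ⊓ NN Q) (NN Q) → NN Q ⊓ NN (JJ (P ⊓ NN Q)) ≤ C → NN Q ≤ C) :
    ∀ (n k : ℕ), k + n = Nat.card P → LevA (p := p) P O C k := by
  intro n
  induction n with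
  | zero =>
    intro k hk Q _ _ hc
    have : Nat.card ↥(P ⊓ NN Q) ≤ Nat.card P := Subgroup.card_le_of_le inf_le_left
    omega
  | succ n ih =>
    intro k hk
    exact levA_step hP hfixP hloc (ih (k + 1) (by omega))

/-- The fusion statement for subgroups of `𝔸`-type. -/
theorem fusion_of_level {P O C : Subgroup L} [hO : O.Normal] (hP : IsSyl p P ⊤)
    (hfixP : NN (JJ P) ≤ C)
    (hloc : ∀ Q, RR P O Q → IsSyl p (P ⊓ NN Q) (NN Q) → NN Q ⊓ NN (JJ (P ⊓ NN Q)) ≤ C → NN Q ≤ C) :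
    ∀ R, RR P O R → ∀ g, cj g R ≤ P → g ∈ C := by
  intro R hR g hg
  have h1 : LevA (p := p) P O C 0 := levA_all hP hfixP hloc (Nat.card P) 0 (by omega)
  exact levB_of_levA hP h1 R hR Nat.card_pos g hg

/-- If all members of `𝔸` lie in a normal subgroup contained in `P`, `J(P)` is normal. -/
theorem JJ_normal {P O : Subgroup L} [hO : O.Normal] (hOP : O ≤ P) (h : ∀ A, MA P A → A ≤ O) (g : L) :
    g ∈ NN (JJ P) := by
  apply mem_NN_of_forall
  have : JJ P ≤ (JJ P).comap (MulAut.conj g).toMonoidHom := by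
    refine JJ_le (fun A hA a ha => ?_)
    rw [Subgroup.mem_comap]
    have h1 : cj g A ≤ O := cj_le_iff.2 (fun b hb => hO.conj_mem _ (h A hA hb) g)
    exact (hA.conj (h1.trans hOP)).le_JJ (conj_mem_cj ha)
  exact fun x hx => this hx

end Tame

section Quad

open Cfsg.Agent.Lib.FusionLocalPow

variable [Finite L] {p : ℕ} [hp : Fact p.Prime]

/-- A member of `𝔸` outside `O_p` normalized by `Z(O_p)`, and with largest intersection with `Z(O_p)`. -/
theorem exists_quad (P : Subgroup L) (hP : IsPGroup p P) (hOP : pCore p L ≤ P) {A₀ : Subgroup L} (hA₀ : MA P A₀)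
    (hA₀O : ¬ A₀ ≤ pCore p L) :
    ∃ A, MA P A ∧ ¬ A ≤ pCore p L ∧
      (∀ A', MA P A' → ¬ A' ≤ pCore p L →
        Nat.card ↥(A' ⊓ (Subgroup.center ↥(pCore p L)).map (pCore p L).subtype) ≤
          Nat.card ↥(A ⊓ (Subgroup.center ↥(pCore p L)).map (pCore p L).subtype)) ∧
      (Subgroup.center ↥(pCore p L)).map (pCore p L).subtype ≤ NN A := by
  classical
  obtain ⟨Z, hZdef⟩ : ∃ Z, Z = (Subgroup.center ↥(pCore p L)).map (pCore p L).subtype := ⟨_, rfl⟩
  rw [← hZdef]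
  have hZmem : ∀ z, z ∈ Z ↔ z ∈ pCore p L ∧ ∀ x ∈ pCore p L, x * z = z * x := by
    intro z
    rw [hZdef]
    exact mem_zcore
  have hZconj : ∀ (z m : L), z ∈ Z → m * z * m⁻¹ ∈ Z := by
    intro z m hz
    rw [hZdef] at hz ⊢
    exact zcore_conj hz m
  have hZP : Z ≤ P := fun z hz => hOP ((hZmem z).1 hz).1
  have hZc : ∀ a ∈ Z, ∀ b ∈ Z, a * b = b * a := by
    intro a ha b hb
    exact ((hZmem b).1 hb).2 a ((hZmem a).1 ha).1
  obtain ⟨A, ⟨hA, hAO⟩, hmax⟩ := Set.exists_max_image {A : Subgroup L | MA P A ∧ ¬ A ≤ pCore p L}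
    (fun A => Nat.card ↥(A ⊓ Z)) (Set.toFinite _) ⟨A₀, hA₀, hA₀O⟩
  refine ⟨A, hA, hAO, fun A' h1 h2 => hmax A' ⟨h1, h2⟩, ?_⟩
  by_contra hZN
  -- work inside `P`
  let B : Subgroup ↥P := Z.subgroupOf P
  haveI hBn : B.Normal := by
    constructor
    intro x hx g
    rw [Subgroup.mem_subgroupOf] at hx ⊢
    exact hZconj _ _ hx
  have hBc : ∀ a ∈ B, ∀ b ∈ B, a * b = b * a := fun a ha b hb =>
    Subtype.ext (hZc a (Subgroup.mem_subgroupOf.1 ha) b (Subgroup.mem_subgroupOf.1 hb))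
  have hBc' : IsMulCommutative B := Cfsg.Agent.Lib.AbReplace.isMulCommutative_of_forall hBc
  have hAm := hA.mem
  have hBA : ⁅B, B⁆ ≤ A.subgroupOf P := by
    have h : ⁅B, B⁆ = ⊥ := by
      rw [eq_bot_iff, Subgroup.commutator_le]
      intro x hx y hy
      rw [Subgroup.mem_bot, commutatorElement_eq_one_iff_mul_comm]
      exact hBc x hx y hy
    rw [h]
    exact bot_le
  have hnorm_of : ∀ z : L, ∀ hz : z ∈ P, (⟨z, hz⟩ : ↥P) ∈ Subgroup.normalizer ((A.subgroupOf P : Subgroup ↥P) : Set ↥P) →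
      z ∈ NN A := by
    intro z hz hzn
    apply mem_NN_of_forall
    intro x hx
    have h1 : (⟨x, hA.le hx⟩ : ↥P) ∈ A.subgroupOf P := Subgroup.mem_subgroupOf.2 hx
    have h2 := (Subgroup.mem_normalizer_iff.1 hzn _).1 h1
    exact Subgroup.mem_subgroupOf.1 h2
  have hnot : ¬ B ≤ Subgroup.normalizer ((A.subgroupOf P : Subgroup ↥P) : Set ↥P) := by
    intro hle
    apply hZN
    intro z hz
    exact hnorm_of z (hZP hz) (hle (Subgroup.mem_subgroupOf.2 hz))
  obtain ⟨b, hb, hbN, hbA⟩ := Cfsg.Agent.S0649.result hP B (fun _ => hBc') (A.subgroupOf P) hAm.1 hBA hnot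
  obtain ⟨h1, h2, -, h4, -, -, h7, -⟩ :=
    Cfsg.Agent.S0650.result hP B (fun _ => hBc') (A.subgroupOf P) hAm.1 hBA hnot b hb hbN hbA
  generalize ((A.subgroupOf P ⊓ (A.subgroupOf P).map (MulAut.conj (b⁻¹)).toMonoidHom) ⊔
    Subgroup.closure {g : ↥P | ∃ a ∈ A.subgroupOf P, g = a * b⁻¹ * a⁻¹ * b}) = T at h1 h2 h4 h7
  have hTm : T ∈ maxAbelianSubgroups ↥P := ⟨h2, fun C hC => by rw [h1]; exact hAm.2 C hC⟩
  have hT : MA P (T.map P.subtype) := MA.of_mem hTm
  have hlt : A ⊓ Z < T.map P.subtype ⊓ Z := by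
    obtain ⟨hle, y, hy, hyn⟩ := SetLike.lt_iff_le_and_exists.1 h4
    have hy2 : (y : L) ∈ T.map P.subtype ⊓ Z := ⟨⟨y, hy.1, rfl⟩, Subgroup.mem_subgroupOf.1 hy.2⟩
    refine SetLike.lt_iff_le_and_exists.2 ⟨?_, (y : L), hy2, ?_⟩
    · rintro x ⟨hx1, hx2⟩
      have h5 : (⟨x, hA.le hx1⟩ : ↥P) ∈ A.subgroupOf P ⊓ B :=
        ⟨Subgroup.mem_subgroupOf.2 hx1, Subgroup.mem_subgroupOf.2 hx2⟩
      exact ⟨⟨⟨x, hA.le hx1⟩, (hle h5).1, rfl⟩, hx2⟩
    · rintro ⟨h5, h6⟩
      exact hyn ⟨Subgroup.mem_subgroupOf.2 h5, hy.2⟩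
  have hcard := card_lt_of_lt' hlt
  have hTO : T.map P.subtype ≤ pCore p L := by
    by_contra hcon
    have := hmax _ ⟨hT, hcon⟩
    exact absurd hcard (not_lt.2 this)
  have hZT : Z ≤ T.map P.subtype :=
    hT.le_of_comm hZP hZc (fun a ha b hb => ((hZmem b).1 hb).2 a (hTO ha))
  apply hZN
  intro z hz
  obtain ⟨t, ht, rfl⟩ := hZT hz
  exact hnorm_of t t.2 (h7 ht)

/-- The local condition `hq` for the Thompson subgroup. -/
theorem hq_thompson (G : Type*) [Group G] [Finite G] (P : Sylow p G)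
    (hn : ¬ (JJ (P : Subgroup G)).Normal) :
    ∃ g : G, g ∈ (P : Subgroup G) ∧ g ∉ pCore p G ∧
      ⁅⁅(Subgroup.center ↥(pCore p G)).map (pCore p G).subtype, Subgroup.zpowers g⁆, Subgroup.zpowers g⁆ = ⊥ := by
  have hOP := pCore_le_sylow p P
  have hex : ∃ A, MA (P : Subgroup G) A ∧ ¬ A ≤ pCore p G := by
    by_contra hcon
    push Not at hcon
    apply hn
    refine Subgroup.normalizer_eq_top_iff.1 (eq_top_iff.2 (fun g _ => ?_))
    exact JJ_normal hOP hcon g
  obtain ⟨A₀, h1, h2⟩ := hex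
  obtain ⟨A, hA, hAO, -, hZN⟩ := exists_quad (P : Subgroup G) P.isPGroup' hOP h1 h2
  obtain ⟨g, hgA, hgO⟩ := SetLike.not_le_iff_exists.1 hAO
  refine ⟨g, hA.le hgA, hgO, ?_⟩
  rw [eq_bot_iff, Subgroup.commutator_le]
  intro x hx y hy
  have hxA : ∀ x ∈ ⁅(Subgroup.center ↥(pCore p G)).map (pCore p G).subtype, Subgroup.zpowers g⁆, x ∈ A := by
    rw [← SetLike.le_def, Subgroup.commutator_le]
    intro z hz h hh
    have hhA : h ∈ A := (Subgroup.zpowers_le.2 hgA) hh
    have h3 : z * h * z⁻¹ ∈ A := conj_mem_of_mem_NN (hZN hz) hhA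
    rw [commutatorElement_def]
    exact A.mul_mem h3 (A.inv_mem hhA)
  rw [Subgroup.mem_bot, commutatorElement_eq_one_iff_mul_comm]
  exact hA.comm x (hxA x hx) y ((Subgroup.zpowers_le.2 hgA) hy)

end Quad

end Cfsg.Agent.Lib.FusionJLocal
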