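/-
AgemoJ: in a finite group `L` with `C_L(O_p(L)) ≤ O_p(L)`, the Thompson subgroup of a Sylow subgroup `P` centralizes all
`L`-conjugates of the `p`-th powers of the elements of `Z(P)`; hence the factorization `L = C · N_L(J(P))`.
-/
import Mathlib
import Cfsg.Agent.Lib.AgemoZ
import Cfsg.Agent.Lib.FusionJLocal

set_option autoImplicit false

namespace Cfsg.Agent.Lib.AgemoJ

open Cfsg Cfsg.Agent.Lib.PCore Cfsg.Agent.Lib.AgemoZ Cfsg.Agent.Lib.FusionJLocal Cfsg.Agent.Lib.AlperinControl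
open scoped commutatorElement

/-- A subgroup between `J(P)` and `P` has the same Thompson subgroup. -/
theorem JJ_eq_of_le {L : Type*} [Group L] {P T : Subgroup L} [Finite P] (hJT : JJ P ≤ T) (hTP : T ≤ P) : JJ T = JJ P := by
  apply le_antisymm
  · refine JJ_le (fun A hA => ?_)
    obtain ⟨A₀, hA₀⟩ := Cfsg.Agent.Lib.AbReplace.exists_mem_max (S := P)
    have h₀ := MA.of_mem hA₀
    have h₁ : MA T (A₀.map P.subtype) := h₀.mono (h₀.le_JJ.trans hJT) hTP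
    have h₂ : Nat.card ↥(A₀.map P.subtype) ≤ Nat.card A := hA.max _ h₁.le h₁.comm
    have h₃ : MA P A := ⟨hA.le.trans hTP, hA.comm, fun B hB hBc => (h₀.max B hB hBc).trans h₂⟩
    exact h₃.le_JJ
  · refine JJ_le (fun A hA => ?_)
    have h₁ : MA T A := hA.mono (hA.le_JJ.trans hJT) hTP
    exact h₁.le_JJ

variable {L : Type*} [Group L] [Finite L] {p : ℕ} [hp : Fact p.Prime]

/-- A member of `𝔸` outside a given subgroup `O`, normalized by an abelian normal subgroup `Z ≤ P` centralized by `O`. -/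
theorem exists_quad' (P : Subgroup L) (hP : IsPGroup p P) {O Z : Subgroup L}
    (hZconj : ∀ (z m : L), z ∈ Z → m * z * m⁻¹ ∈ Z) (hZP : Z ≤ P)
    (hZc : ∀ a ∈ Z, ∀ b ∈ Z, a * b = b * a)
    (hZO : ∀ a ∈ O, ∀ b ∈ Z, a * b = b * a) {A₀ : Subgroup L} (hA₀ : MA P A₀) (hA₀O : ¬ A₀ ≤ O) :
    ∃ A, MA P A ∧ ¬ A ≤ O ∧ Z ≤ NN A := by
  classical
  obtain ⟨A, ⟨hA, hAO⟩, hmax⟩ := Set.exists_max_image {A : Subgroup L | MA P A ∧ ¬ A ≤ O}
    (fun A => Nat.card ↥(A ⊓ Z)) (Set.toFinite _) ⟨A₀, hA₀, hA₀O⟩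
  refine ⟨A, hA, hAO, ?_⟩
  by_contra hZN
  -- work inside `P`
  let B : Subgroup ↥P := Z.subgroupOf P
  haveI hBn : B.Normal := by
    constructor
    intro x hx g
    rw [Subgroup.mem_subgroupOf] at hx ⊢
    exact hZconj _ _ hx
  have hBc : ∀ a ∈ B, ∀ b ∈ B, a * b = b * a := fun a ha b hb =>
    Subtype.ext (hZc a (Subgroup.mem_subgroupOf.1 ha) b (Subgroup.mem_subgroupOf.1 hb))
  have hBc' : IsMulCommutative B := Cfsg.Agent.Lib.AbReplace.isMulCommutative_of_forall hBc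
  have hAm := hA.mem
  have hBA : ⁅B, B⁆ ≤ A.subgroupOf P := by
    have h : ⁅B, B⁆ = ⊥ := by
      rw [eq_bot_iff, Subgroup.commutator_le]
      intro x hx y hy
      rw [Subgroup.mem_bot, commutatorElement_eq_one_iff_mul_comm]
      exact hBc x hx y hy
    rw [h]
    exact bot_le
  have hnorm_of : ∀ z : L, ∀ hz : z ∈ P, (⟨z, hz⟩ : ↥P) ∈ Subgroup.normalizer ((A.subgroupOf P : Subgroup ↥P) : Set ↥P) →
      z ∈ NN A := by
    intro z hz hzn
    apply mem_NN_of_forall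
    intro x hx
    have h1 : (⟨x, hA.le hx⟩ : ↥P) ∈ A.subgroupOf P := Subgroup.mem_subgroupOf.2 hx
    have h2 := (Subgroup.mem_normalizer_iff.1 hzn _).1 h1
    exact Subgroup.mem_subgroupOf.1 h2
  have hnot : ¬ B ≤ Subgroup.normalizer ((A.subgroupOf P : Subgroup ↥P) : Set ↥P) := by
    intro hle
    apply hZN
    intro z hz
    exact hnorm_of z (hZP hz) (hle (Subgroup.mem_subgroupOf.2 hz))
  obtain ⟨b, hb, hbN, hbA⟩ := Cfsg.Agent.S0649.result hP B (fun _ => hBc') (A.subgroupOf P) hAm.1 hBA hnot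
  obtain ⟨h1, h2, -, h4, -, -, h7, -⟩ :=
    Cfsg.Agent.S0650.result hP B (fun _ => hBc') (A.subgroupOf P) hAm.1 hBA hnot b hb hbN hbA
  generalize ((A.subgroupOf P ⊓ (A.subgroupOf P).map (MulAut.conj (b⁻¹)).toMonoidHom) ⊔
    Subgroup.closure {g : ↥P | ∃ a ∈ A.subgroupOf P, g = a * b⁻¹ * a⁻¹ * b}) = T at h1 h2 h4 h7
  have hTm : T ∈ maxAbelianSubgroups ↥P := ⟨h2, fun C hC => by rw [h1]; exact hAm.2 C hC⟩
  have hT : MA P (T.map P.subtype) := MA.of_mem hTm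
  have hlt : A ⊓ Z < T.map P.subtype ⊓ Z := by
    obtain ⟨hle, y, hy, hyn⟩ := SetLike.lt_iff_le_and_exists.1 h4
    have hy2 : (y : L) ∈ T.map P.subtype ⊓ Z := ⟨⟨y, hy.1, rfl⟩, Subgroup.mem_subgroupOf.1 hy.2⟩
    refine SetLike.lt_iff_le_and_exists.2 ⟨?_, (y : L), hy2, ?_⟩
    · rintro x ⟨hx1, hx2⟩
      have h5 : (⟨x, hA.le hx1⟩ : ↥P) ∈ A.subgroupOf P ⊓ B :=
        ⟨Subgroup.mem_subgroupOf.2 hx1, Subgroup.mem_subgroupOf.2 hx2⟩
      exact ⟨⟨⟨x, hA.le hx1⟩, (hle h5).1, rfl⟩, hx2⟩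
    · rintro ⟨h5, h6⟩
      exact hyn ⟨Subgroup.mem_subgroupOf.2 h5, hy.2⟩
  have hcard := card_lt_of_lt' hlt
  have hTO : T.map P.subtype ≤ O := by
    by_contra hcon
    have := hmax _ ⟨hT, hcon⟩
    exact absurd hcard (not_lt.2 this)
  have hZT : Z ≤ T.map P.subtype :=
    hT.le_of_comm hZP hZc (fun a ha b hb => hZO a (hTO ha) b hb)
  apply hZN
  intro z hz
  obtain ⟨t, ht, rfl⟩ := hZT hz
  exact hnorm_of t t.2 (h7 ht)

/-- **The key theorem**: `J(P)` centralizes all `L`-conjugates of the `p`-th powers of the elements of `Z(P)`. -/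
theorem key3 (P : Sylow p L) (hC : Subgroup.centralizer ((pCore p L : Subgroup L) : Set L) ≤ pCore p L) :
    JJ (P : Subgroup L) ≤ KK (P : Subgroup L) p := by
  classical
  refine JJ_le (fun A₀ hA₀ => ?_)
  by_contra hA₀K
  set K := KK (P : Subgroup L) p with hK
  haveI hKn : K.Normal := by rw [hK]; infer_instance
  haveI hOn : (pCore p L).Normal := by
    haveI := pCore_characteristic (G := L) p
    exact Subgroup.normal_of_characteristic _
  let A : Subgroup L := pCore p L ⊓ Subgroup.centralizer ((pCore p L : Subgroup L) : Set L)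
  haveI hAn : A.Normal := by
    refine ⟨fun x hx a => ⟨hOn.conj_mem x hx.1 a, ?_⟩⟩
    show a * x * a⁻¹ ∈ Subgroup.centralizer _
    rw [Subgroup.mem_centralizer_iff]
    intro o ho
    have h1 := Subgroup.mem_centralizer_iff.1 hx.2 _ (hOn.conj_mem o ho a⁻¹)
    have h2 : a⁻¹ * o * a⁻¹⁻¹ * x = x * (a⁻¹ * o * a⁻¹⁻¹) := h1
    calc o * (a * x * a⁻¹) = a * (a⁻¹ * o * a⁻¹⁻¹ * x) * a⁻¹ := by group
      _ = a * (x * (a⁻¹ * o * a⁻¹⁻¹)) * a⁻¹ := by rw [h2]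
      _ = _ := by group
  have hAc : ∀ a b : A, a * b = b * a := fun a b => Subtype.ext (by
    have := Subgroup.mem_centralizer_iff.1 b.2.2 _ a.2.1
    exact this)
  have hOP : pCore p L ≤ (P : Subgroup L) := pCore_le_sylow p P
  have hAP : A ≤ (P : Subgroup L) := inf_le_left.trans hOP
  let Z : Subgroup L := A ⊓ Subgroup.centralizer (K : Set L)
  have hZconj : ∀ (z m : L), z ∈ Z → m * z * m⁻¹ ∈ Z := by
    intro z m hz
    refine ⟨hAn.conj_mem z hz.1 m, ?_⟩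
    show m * z * m⁻¹ ∈ Subgroup.centralizer (K : Set L)
    rw [Subgroup.mem_centralizer_iff]
    intro k hk
    have h1 := Subgroup.mem_centralizer_iff.1 hz.2 _ (hKn.conj_mem k hk m⁻¹)
    have h2 : m⁻¹ * k * m⁻¹⁻¹ * z = z * (m⁻¹ * k * m⁻¹⁻¹) := h1
    calc k * (m * z * m⁻¹) = m * (m⁻¹ * k * m⁻¹⁻¹ * z) * m⁻¹ := by group
      _ = m * (z * (m⁻¹ * k * m⁻¹⁻¹)) * m⁻¹ := by rw [h2]
      _ = _ := by group
  have hZP : Z ≤ (P : Subgroup L) := inf_le_left.trans hAP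
  have hZc : ∀ a ∈ Z, ∀ b ∈ Z, a * b = b * a := fun a ha b hb =>
    congrArg Subtype.val (hAc ⟨a, ha.1⟩ ⟨b, hb.1⟩)
  have hZO : ∀ a ∈ K, ∀ b ∈ Z, a * b = b * a := fun a ha b hb =>
    Subgroup.mem_centralizer_iff.1 hb.2 a ha
  obtain ⟨A₁, hA₁, hA₁K, hZN⟩ := exists_quad' (P : Subgroup L) P.isPGroup' hZconj hZP hZc hZO hA₀ hA₀K
  have hA₁p : IsPGroup p A₁ := P.isPGroup'.to_le hA₁.le
  obtain ⟨u, huA, huK, hupK⟩ := exists_step hA₁p hA₁K
  apply huK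
  rw [hK, KK, Subgroup.mem_centralizer_iff]
  rintro y ⟨g, v, hv, rfl⟩
  have hvA : v ∈ A := by
    have hvc : v ∈ Subgroup.centralizer ((pCore p L : Subgroup L) : Set L) := by
      rw [Subgroup.mem_centralizer_iff]
      intro o ho
      exact hv.2 o (hOP ho)
    exact ⟨hC hvc, hvc⟩
  obtain ⟨S, hS⟩ := Cfsg.Agent.Lib.CentralSylow.exists_sylow_subgroupOf P K
  let ρ : K →* MulAut A := (MulAut.conjNormal : L →* MulAut A).comp K.subtype
  let z : A := ⟨v, hvA⟩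
  have hρ : ∀ (k : K) (x : A), ((ρ k x : A) : L) = (k : L) * x * (k : L)⁻¹ := fun k x =>
    MulAut.conjNormal_apply _ _
  have hz : ∀ d ∈ (S : Subgroup K), ρ d z = z := by
    intro d hd
    rw [hS] at hd
    apply Subtype.ext
    rw [hρ]
    show (d : L) * v * (d : L)⁻¹ = v
    rw [hv.2 d (Subgroup.mem_subgroupOf.1 hd)]
    group
  obtain ⟨t, ht1, ht2⟩ := exists_trace hAc ρ (S : Subgroup K) z hz
  have hmemY : v ^ p ∈ Y₀ (P : Subgroup L) p := ⟨1, v, hv, by group⟩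
  have he : ∀ k : K, ρ k (z ^ p) = z ^ p := by
    intro k
    apply Subtype.ext
    rw [hρ]
    have h1 := Subgroup.mem_centralizer_iff.1 k.2 _ hmemY
    show (k : L) * v ^ p * (k : L)⁻¹ = v ^ p
    rw [← h1]
    group
  have ht3 := ht2 p he
  set m := (S : Subgroup K).index with hm
  have hmp : ¬ p ∣ m := S.not_dvd_index
  have htZ : (t : L) ∈ Z := by
    refine ⟨t.2, ?_⟩
    show (t : L) ∈ Subgroup.centralizer (K : Set L)
    rw [Subgroup.mem_centralizer_iff]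
    intro k hk
    have h1 := congrArg Subtype.val (ht1 ⟨k, hk⟩)
    rw [hρ] at h1
    show k * (t : L) = t * k
    have h2 : k * (t : L) * k⁻¹ = t := h1
    calc k * (t : L) = (k * (t : L) * k⁻¹) * k := by group
      _ = _ := by rw [h2]
  obtain ⟨w, hw⟩ : ∃ w, w = g * (t : L) * g⁻¹ := ⟨_, rfl⟩
  have hwZ : w ∈ Z := by
    rw [hw]
    exact hZconj _ _ htZ
  have hwN : w ∈ NN A₁ := hZN hwZ
  have hcomm : u * w ^ p * u⁻¹ = w ^ p := by
    have hdA : u * w * u⁻¹ * w⁻¹ ∈ A₁ := by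
      have h1 : w * u⁻¹ * w⁻¹ ∈ A₁ := conj_mem_of_mem_NN hwN (A₁.inv_mem huA)
      have e : u * w * u⁻¹ * w⁻¹ = u * (w * u⁻¹ * w⁻¹) := by group
      rw [e]
      exact A₁.mul_mem huA h1
    have hdZ : u * w * u⁻¹ * w⁻¹ ∈ Z := Z.mul_mem (hZconj _ _ hwZ) (Z.inv_mem hwZ)
    exact Cfsg.Agent.Lib.FusionLocalPow.conj_pow_of_comm (hA₁.comm _ hdA _ huA) (hZc _ hdZ _ hwZ)
      (hZO _ hupK _ hwZ)
  have hwp : w ^ p = (g * v ^ p * g⁻¹) ^ m := by
    have h1 : (t : L) ^ p = (v ^ p) ^ m := congrArg Subtype.val ht3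
    rw [hw, conj_pow, h1, conj_pow]
  have hyA : g * v ^ p * g⁻¹ ∈ A := hAn.conj_mem _ (A.pow_mem hvA p) g
  have hyp : IsPGroup p ↥A := (isPGroup_pCore p).to_le inf_le_left
  have hcop : m.Coprime (orderOf (g * v ^ p * g⁻¹)) := by
    obtain ⟨a, ha⟩ := (IsPGroup.iff_orderOf.1 hyp) ⟨_, hyA⟩
    have h8 : orderOf (g * v ^ p * g⁻¹) = p ^ a := by
      rw [← ha]
      exact (Subgroup.orderOf_mk _ _).symm
    rw [h8]
    exact Nat.Coprime.pow_right a ((Nat.Prime.coprime_iff_not_dvd hp.out).2 hmp).symm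
  obtain ⟨e, he2⟩ := exists_pow_eq_self_of_coprime hcop
  have h9 : Commute u ((g * v ^ p * g⁻¹) ^ m) := by
    rw [← hwp]
    show u * _ = _ * u
    rw [mul_inv_eq_iff_eq_mul.1 hcomm]
  have h10 := h9.pow_right e
  rw [he2] at h10
  exact h10.eq.symm

/-- The Frattini factorization. -/
theorem frattini (P : Sylow p L) (hC : Subgroup.centralizer ((pCore p L : Subgroup L) : Set L) ≤ pCore p L) (g : L) :
    ∃ k ∈ KK (P : Subgroup L) p, ∃ d ∈ NN (JJ (P : Subgroup L)), g = k * d := by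
  classical
  obtain ⟨S, hS⟩ := Cfsg.Agent.Lib.CentralSylow.exists_sylow_subgroupOf P (KK (P : Subgroup L) p)
  have h1 := S.normalizer_sup_eq_top
  have hmap : (S : Subgroup (KK (P : Subgroup L) p)).map (KK (P : Subgroup L) p).subtype =
      (P : Subgroup L) ⊓ KK (P : Subgroup L) p := by
    rw [hS, Subgroup.subgroupOf_map_subtype]
  have hJ : JJ ((P : Subgroup L) ⊓ KK (P : Subgroup L) p) = JJ (P : Subgroup L) :=
    JJ_eq_of_le (le_inf (Subgroup.map_subtype_le _) (key3 P hC)) inf_le_left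
  have hN : Subgroup.normalizer (((S : Subgroup (KK (P : Subgroup L) p)).map (KK (P : Subgroup L) p).subtype : Subgroup L) : Set L) ≤
      NN (JJ (P : Subgroup L)) := by
    rw [hmap, ← hJ]
    exact fun x hx => mem_NN_JJ hx
  have h3 : g ∈ KK (P : Subgroup L) p ⊔ NN (JJ (P : Subgroup L)) := by
    have h4 : (⊤ : Subgroup L) ≤ KK (P : Subgroup L) p ⊔ NN (JJ (P : Subgroup L)) := by
      rw [← h1]
      exact sup_le (hN.trans le_sup_right) le_sup_left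
    exact h4 (Subgroup.mem_top g)
  have h3' : g ∈ ((KK (P : Subgroup L) p ⊔ NN (JJ (P : Subgroup L)) : Subgroup L) : Set L) := h3
  rw [Subgroup.normal_mul] at h3'
  obtain ⟨k, hk, d, hd, rfl⟩ := Set.mem_mul.1 h3'
  exact ⟨k, hk, d, hd, rfl⟩

/-- **The fusion factorization**: a conjugation between subgroups of `P` factors through `N_L(J(P))` and the centralizer. -/
theorem fusion_factor (P : Sylow p L) (hC : Subgroup.centralizer ((pCore p L : Subgroup L) : Set L) ≤ pCore p L)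
    {R : Subgroup L} (hR : R ≤ (P : Subgroup L)) {g : L} (hg : ∀ r ∈ R, g * r * g⁻¹ ∈ (P : Subgroup L)) :
    ∃ k ∈ KK (P : Subgroup L) p, ∃ d ∈ NN (JJ (P : Subgroup L)), g = k * d ∧ ∀ r ∈ R, d * r * d⁻¹ ∈ (P : Subgroup L) := by
  classical
  obtain ⟨k₀, hk₀, d₀, hd₀, rfl⟩ := frattini P hC g
  set K := KK (P : Subgroup L) p with hK
  haveI hKn : K.Normal := by rw [hK]; infer_instance
  set D := NN (JJ (P : Subgroup L)) with hD
  have hPD : (P : Subgroup L) ≤ D := fun x hx => mem_NN_JJ (Subgroup.le_normalizer hx)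
  let H : Subgroup L := D ⊓ ((P : Subgroup L) ⊔ K)
  have hPH : (P : Subgroup L) ≤ H := le_inf hPD le_sup_left
  have hsyl : IsSyl p (P : Subgroup L) H :=
    Cfsg.Agent.Lib.ControlSec.isSyl_of_le (isSyl_of_sylow P) hPH le_top
  let R₃ : Subgroup L := cj d₀ R
  have hR₃p : IsPGroup p R₃ := isPGroup_cj (P.isPGroup'.to_le hR) d₀
  have hR₃H : R₃ ≤ H := by
    rintro _ ⟨r, hr, rfl⟩
    refine ⟨D.mul_mem (D.mul_mem hd₀ (hPD (hR hr))) (D.inv_mem hd₀), ?_⟩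
    have h1 := hg r hr
    have e : d₀ * r * d₀⁻¹ = k₀⁻¹ * ((k₀ * d₀) * r * (k₀ * d₀)⁻¹) * k₀ := by group
    show d₀ * r * d₀⁻¹ ∈ _
    rw [e]
    obtain ⟨s, hs⟩ : ∃ s, s = (k₀ * d₀) * r * (k₀ * d₀)⁻¹ := ⟨_, rfl⟩
    rw [← hs] at h1 ⊢
    have e2 : k₀⁻¹ * s * k₀ = s * (s⁻¹ * k₀⁻¹ * s * k₀) := by group
    rw [e2]
    refine Subgroup.mul_mem_sup h1 ?_
    have h3 : s⁻¹ * k₀⁻¹ * s ∈ K := by
      have := hKn.conj_mem _ (K.inv_mem hk₀) s⁻¹
      simpa using this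
    exact K.mul_mem h3 hk₀
  obtain ⟨x, hx, hxc⟩ := hsyl.conj R₃ hR₃H hR₃p
  have hx' : x ∈ (((P : Subgroup L) ⊔ K : Subgroup L) : Set L) := hx.2
  rw [Subgroup.mul_normal] at hx'
  obtain ⟨s, hs, k₁, hk₁, rfl⟩ := Set.mem_mul.1 hx'
  have hk₁D : k₁ ∈ D := by
    have e : k₁ = s⁻¹ * (s * k₁) := by group
    rw [e]
    exact D.mul_mem (hPD (Subgroup.inv_mem _ hs)) hx.1
  refine ⟨k₀ * k₁⁻¹, K.mul_mem hk₀ (K.inv_mem hk₁), k₁ * d₀, D.mul_mem hk₁D hd₀, by group, fun r hr => ?_⟩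
  have h1 := hxc (d₀ * r * d₀⁻¹) ⟨r, hr, rfl⟩
  have e : k₁ * d₀ * r * (k₁ * d₀)⁻¹ = s⁻¹ * (s * k₁ * (d₀ * r * d₀⁻¹) * (s * k₁)⁻¹) * s := by group
  rw [e]
  have h2 := (P : Subgroup L).mul_mem ((P : Subgroup L).mul_mem (Subgroup.inv_mem _ hs) h1) hs
  exact h2

end Cfsg.Agent.Lib.AgemoJ
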