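import Mathlib
import Cfsg.Agent.Lib.DegreeDiv
import Cfsg.Agent.Lib.BlockNormal
import Cfsg.Agent.Lib.PCore
import Cfsg.Agent.Lib.PSolv
import Cfsg.Agent.Lib.BlockOrtho
import Cfsg.Agent.Lib.GenChar

/-!
# Alperin-Dade for principal blocks: class sums relative to a normal subgroup

Let `hat : N → Γ` be an embedding with normal image.  Sums over `N`-stable subsets of `Γ` act by
scalars on a representation restricting irreducibly to `N`.  Products of such sums lying in the image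
of `N` are integer class functions on `N`, so their central characters are congruent to their
augmentation on the principal block of `N`.
-/

set_option autoImplicit false
set_option linter.style.haveILetI false
set_option linter.unusedVariables false
set_option linter.unusedSectionVars false

namespace Cfsg.Agent.Lib.AlperinDade

open Cfsg Cfsg.Agent.Lib.CharBasic Cfsg.Agent.Lib.CharInd Cfsg.Agent.Lib.CharInduction
open Cfsg.Agent.Lib.CentralExt Cfsg.Agent.Lib.ImplGroup Cfsg.Agent.Lib.CosetAvg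
open Cfsg.Agent.Lib.BlockLocal Cfsg.Agent.Lib.BlockIdem
open Module
open scoped ComplexConjugate

universe u

section Stable

variable {N Γ : Type u} [Group N] [Fintype N] [Group Γ] (hat : N →* Γ)

/-- `N`-stable subsets. -/
def StableS (S : Finset Γ) : Prop := ∀ n : N, ∀ u ∈ S, hat n * u * (hat n)⁻¹ ∈ S

variable {hat}

/-- Conjugation by `hat n` permutes a stable set: sums are unchanged. -/
theorem sum_stable_conj {S : Finset Γ} (hS : StableS hat S) {A : Type*} [AddCommMonoid A] (f : Γ → A)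
    (n : N) : ∑ u ∈ S, f (hat n * u * (hat n)⁻¹) = ∑ u ∈ S, f u := by
  classical
  refine Finset.sum_bij' (fun u _ => hat n * u * (hat n)⁻¹) (fun u _ => (hat n)⁻¹ * u * hat n)
    (fun u hu => hS n u hu) (fun u hu => ?_) (fun u _ => by group) (fun u _ => by group)
    (fun u _ => rfl)
  have := hS n⁻¹ u hu
  simpa using this

section Fun

variable [DecidableEq Γ]

/-- The coefficient function of a product of three stable sums. -/
noncomputable def triF (hat : N →* Γ) (S₁ S₂ S₃ : Finset Γ) (n : N) : ℂ :=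
  ∑ u₁ ∈ S₁, ∑ u₂ ∈ S₂, ∑ u₃ ∈ S₃, if u₁ * u₂ * u₃ = hat n then 1 else 0

theorem triF_class {S₁ S₂ S₃ : Finset Γ} (h₁ : StableS hat S₁) (h₂ : StableS hat S₂)
    (h₃ : StableS hat S₃) : IsClassFunction N (triF hat S₁ S₂ S₃) := by
  intro n m
  unfold triF
  rw [← sum_stable_conj h₁ _ m]
  refine Finset.sum_congr rfl fun u₁ _ => ?_
  rw [← sum_stable_conj h₂ _ m]
  refine Finset.sum_congr rfl fun u₂ _ => ?_
  rw [← sum_stable_conj h₃ _ m]
  refine Finset.sum_congr rfl fun u₃ _ => ?_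
  have : (hat m * u₁ * (hat m)⁻¹) * (hat m * u₂ * (hat m)⁻¹) * (hat m * u₃ * (hat m)⁻¹) =
      hat (m * n * m⁻¹) ↔ u₁ * u₂ * u₃ = hat n := by
    rw [map_mul, map_mul, map_inv]
    constructor
    · intro h
      have h2 : hat m * (u₁ * u₂ * u₃) * (hat m)⁻¹ = hat m * hat n * (hat m)⁻¹ := by
        rw [← h]
        group
      exact mul_left_cancel (mul_right_cancel h2)
    · intro h
      have h2 : hat m * (u₁ * u₂ * u₃) * (hat m)⁻¹ = hat m * hat n * (hat m)⁻¹ := by rw [h]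
      rw [← h2]
      group
  simp only [this]

theorem triF_local {M : Ideal AlgInt} [M.IsPrime] (S₁ S₂ S₃ : Finset Γ) (n : N) :
    MemLocalRing M (triF hat S₁ S₂ S₃ n) := by
  unfold triF
  refine memLocalRing_sum _ _ fun _ _ => memLocalRing_sum _ _ fun _ _ =>
    memLocalRing_sum _ _ fun _ _ => ?_
  split_ifs
  · exact memLocalRing_one
  · exact memLocalRing_zero

variable (hinj : Function.Injective hat)

include hinj in
/-- Summing a function against the coefficient function. -/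
theorem sum_triF_mul {S₁ S₂ S₃ : Finset Γ} (hprod : ∀ u₁ ∈ S₁, ∀ u₂ ∈ S₂, ∀ u₃ ∈ S₃,
    ∃ n, u₁ * u₂ * u₃ = hat n) (f : N → ℂ) (F : Γ → ℂ) (hF : ∀ n, F (hat n) = f n) :
    ∑ n : N, triF hat S₁ S₂ S₃ n * f n = ∑ u₁ ∈ S₁, ∑ u₂ ∈ S₂, ∑ u₃ ∈ S₃, F (u₁ * u₂ * u₃) := by
  classical
  unfold triF
  simp only [Finset.sum_mul]
  rw [Finset.sum_comm]
  refine Finset.sum_congr rfl fun u₁ hu₁ => ?_
  rw [Finset.sum_comm]
  refine Finset.sum_congr rfl fun u₂ hu₂ => ?_
  rw [Finset.sum_comm]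
  refine Finset.sum_congr rfl fun u₃ hu₃ => ?_
  obtain ⟨n₀, hn₀⟩ := hprod u₁ hu₁ u₂ hu₂ u₃ hu₃
  rw [Finset.sum_eq_single n₀]
  · rw [if_pos hn₀, one_mul, hn₀, hF]
  · intro n _ hn
    rw [if_neg, zero_mul]
    rw [hn₀]
    exact fun h => hn (hinj h).symm
  · intro h
    exact absurd (Finset.mem_univ _) h

include hinj in
/-- **The congruence on the principal block.** -/
theorem omega_triF_congr {M : Ideal AlgInt} [M.IsPrime] {S₁ S₂ S₃ : Finset Γ} (h₁ : StableS hat S₁)
    (h₂ : StableS hat S₂) (h₃ : StableS hat S₃)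
    (hprod : ∀ u₁ ∈ S₁, ∀ u₂ ∈ S₂, ∀ u₃ ∈ S₃, ∃ n, u₁ * u₂ * u₃ = hat n)
    (θ : IrrCharacter N) (hθ : θ ∈ principalBlock M N) :
    MemLocalIdeal M (omega (θ : N → ℂ) (triF hat S₁ S₂ S₃) -
      ((S₁.card : ℂ) * (S₂.card : ℂ) * (S₃.card : ℂ))) := by
  classical
  have hc := triF_class h₁ h₂ h₃
  have hZc := mem_Zc_of_classFunction (M := M) hc (triF_local S₁ S₂ S₃)
  have h1 := memLocalIdeal_sub_of_mem_Zc hZc (χ := θ) (ψ := Cfsg.Agent.Lib.BlockNormal.irrOne N)
    (sameBlock_symm hθ)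
  have h2 : omega ((Cfsg.Agent.Lib.BlockNormal.irrOne N : IrrCharacter N) : N → ℂ) (triF hat S₁ S₂ S₃) =
      (S₁.card : ℂ) * (S₂.card : ℂ) * (S₃.card : ℂ) := by
    unfold omega
    have h3 : ((Cfsg.Agent.Lib.BlockNormal.irrOne N : IrrCharacter N) : N → ℂ) = fun _ => 1 := rfl
    rw [h3]
    simp only [div_one]
    rw [sum_triF_mul hinj hprod (fun _ => 1) (fun _ => 1) (fun _ => rfl)]
    simp
    ring
  rw [h2] at h1
  exact h1

end Fun

section Rep

variable {k : ℕ} (R : Representation ℂ Γ (Fin k → ℂ)) (ρ : Representation ℂ N (Fin k → ℂ))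
  (hRρ : ∀ n, R (hat n) = ρ n) (hρ : ρ.IsIrreducible)

/-- The sum of a stable set acting in the representation. -/
noncomputable def zop (S : Finset Γ) : Module.End ℂ (Fin k → ℂ) := ∑ u ∈ S, R u

/-- The scalar by which the sum of a stable set acts. -/
noncomputable def tauS (S : Finset Γ) : ℂ := (∑ u ∈ S, R.character u) / k

include hRρ hρ in
theorem zop_scalar {S : Finset Γ} (hS : StableS hat S) (hk : 0 < k) :
    zop R S = tauS R S • (1 : Module.End ℂ (Fin k → ℂ)) := by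
  classical
  have hk0 : (k : ℂ) ≠ 0 := by exact_mod_cast hk.ne'
  obtain ⟨c, hc⟩ := schur_scalar hρ (zop R S) (by
    intro n
    rw [← hRρ]
    have h1 := sum_stable_conj hS (fun u => R (u * hat n)) n
    simp only [inv_mul_cancel_right, map_mul] at h1
    show zop R S * R (hat n) = R (hat n) * zop R S
    unfold zop
    rw [Finset.sum_mul, Finset.mul_sum]
    exact h1.symm)
  have h2 : LinearMap.trace ℂ _ (zop R S) = ∑ u ∈ S, R.character u := by
    unfold zop
    rw [map_sum]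
    rfl
  rw [hc, map_smul] at h2
  simp only [LinearMap.trace_id, Module.finrank_fin_fun, smul_eq_mul] at h2
  have h3 : c = tauS R S := by
    unfold tauS
    rw [← h2]
    field_simp
  rw [hc, h3]
  rfl

/-- A character-theoretic form: the trace of a product of three stable sums. -/
theorem sum_char_tri {S₁ S₂ S₃ : Finset Γ} :
    ∑ u₁ ∈ S₁, ∑ u₂ ∈ S₂, ∑ u₃ ∈ S₃, R.character (u₁ * u₂ * u₃) =
      LinearMap.trace ℂ _ (zop R S₁ * zop R S₂ * zop R S₃) := by
  have h1 : zop R S₁ * zop R S₂ * zop R S₃ = ∑ u₁ ∈ S₁, ∑ u₂ ∈ S₂, ∑ u₃ ∈ S₃, R (u₁ * u₂ * u₃) := by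
    unfold zop
    rw [Finset.sum_mul_sum, Finset.sum_mul]
    refine Finset.sum_congr rfl fun u₁ _ => ?_
    rw [Finset.sum_mul_sum]
    refine Finset.sum_congr rfl fun u₂ _ => Finset.sum_congr rfl fun u₃ _ => ?_
    simp [map_mul]
  rw [h1]
  simp only [map_sum]
  rfl

include hRρ hρ in
/-- **The congruence for the scalars.** -/
theorem tauS_congr (hinj : Function.Injective hat) {M : Ideal AlgInt} [M.IsPrime] [DecidableEq Γ]
    (hk : 0 < k) {S₁ S₂ S₃ : Finset Γ}
    (h₁ : StableS hat S₁) (h₂ : StableS hat S₂) (h₃ : StableS hat S₃)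
    (hprod : ∀ u₁ ∈ S₁, ∀ u₂ ∈ S₂, ∀ u₃ ∈ S₃, ∃ n, u₁ * u₂ * u₃ = hat n)
    (hθ : (⟨ρ.character, ⟨k, ρ, hρ, rfl⟩⟩ : IrrCharacter N) ∈ principalBlock M N) :
    MemLocalIdeal M (tauS R S₁ * tauS R S₂ * tauS R S₃ -
      ((S₁.card : ℂ) * (S₂.card : ℂ) * (S₃.card : ℂ))) := by
  classical
  have hk0 : (k : ℂ) ≠ 0 := by exact_mod_cast hk.ne'
  have h1 := omega_triF_congr hinj h₁ h₂ h₃ hprod _ hθ
  convert h1 using 2
  simp only
  unfold omega
  have hchar : ∀ n, R.character (hat n) = ρ.character n := by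
    intro n
    show LinearMap.trace ℂ _ (R (hat n)) = LinearMap.trace ℂ _ (ρ n)
    rw [hRρ]
  rw [sum_triF_mul hinj hprod ρ.character R.character hchar, sum_char_tri,
    zop_scalar R ρ hRρ hρ h₁ hk, zop_scalar R ρ hRρ hρ h₂ hk, zop_scalar R ρ hRρ hρ h₃ hk]
  have h2 : ρ.character 1 = k := char_one_eq_rep ρ
  rw [h2]
  simp only [smul_mul_smul_comm, one_mul, map_smul, smul_eq_mul]
  have h3 : LinearMap.trace ℂ (Fin k → ℂ) 1 = k := by
    have := LinearMap.trace_id ℂ (Fin k → ℂ)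
    simpa using this
  rw [h3]
  field_simp

end Rep

end Stable

end Cfsg.Agent.Lib.AlperinDade
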