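import Mathlib
import Cfsg.Agent.Lib.AlperinDade
import Cfsg.Agent.Lib.CharKernel

set_option autoImplicit false
set_option linter.style.haveILetI false
set_option linter.unusedVariables false
set_option linter.unusedSectionVars false

namespace Cfsg.Agent.Lib.AlperinDade2

open Cfsg Cfsg.Agent.Lib.CharBasic Cfsg.Agent.Lib.CharInd Cfsg.Agent.Lib.CharInduction
open Cfsg.Agent.Lib.CentralExt Cfsg.Agent.Lib.ImplGroup Cfsg.Agent.Lib.CosetAvg
open Cfsg.Agent.Lib.BlockLocal Cfsg.Agent.Lib.BlockIdem Cfsg.Agent.Lib.AlperinDade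
open Module
open scoped ComplexConjugate Classical

universe u

section Cl

variable {N Γ : Type u} [Group N] [Fintype N] [Group Γ] (hat : N →* Γ)

/-- The orbit of `y` under conjugation by the image of `N`. -/
noncomputable def Cl (y : Γ) : Finset Γ := Finset.univ.image fun n : N => hat n * y * (hat n)⁻¹

theorem mem_Cl {y u : Γ} : u ∈ Cl hat y ↔ ∃ n : N, hat n * y * (hat n)⁻¹ = u := by
  simp [Cl]

theorem self_mem_Cl (y : Γ) : y ∈ Cl hat y := by
  rw [mem_Cl]
  exact ⟨1, by simp⟩

theorem stable_Cl (y : Γ) : StableS hat (Cl hat y) := by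
  intro n u hu
  rw [mem_Cl] at hu ⊢
  obtain ⟨m, rfl⟩ := hu
  refine ⟨n * m, ?_⟩
  simp only [map_mul, mul_inv_rev]
  group

theorem stable_singleton_one : StableS hat ({1} : Finset Γ) := by
  intro n u hu
  rw [Finset.mem_singleton] at hu ⊢
  subst hu
  simp

/-- The size of the orbit is the index of the stabilizer. -/
theorem not_dvd_card_Cl {p : ℕ} (P₀ : Subgroup N) (hP₀ : ¬ p ∣ P₀.index) {y : Γ}
    (hy : ∀ u ∈ P₀, hat u * y = y * hat u) : ¬ p ∣ (Cl hat y).card := by
  classical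
  letI : MulAction N Γ := MulAction.compHom Γ ((MulAut.conj : Γ →* MulAut Γ).comp hat)
  have hsmul : ∀ (n : N) (x : Γ), n • x = hat n * x * (hat n)⁻¹ := fun n x => rfl
  have h1 : (MulAction.stabilizer N y).index = (MulAction.orbit N y).ncard :=
    MulAction.index_stabilizer N y
  have h2 : (MulAction.orbit N y) = ((Cl hat y : Finset Γ) : Set Γ) := by
    ext x
    simp only [MulAction.mem_orbit_iff, hsmul, Finset.mem_coe, mem_Cl]
  rw [h2, Set.ncard_coe_finset] at h1
  rw [← h1]
  have h3 : P₀ ≤ MulAction.stabilizer N y := by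
    intro u hu
    rw [MulAction.mem_stabilizer_iff, hsmul, hy u hu]
    group
  exact fun h => hP₀ (h.trans (Subgroup.index_dvd_of_le h3))

end Cl

section Invariance

variable {G : Type u} [Group G] [Fintype G] {p : ℕ} [hp : Fact p.Prime] {M : Ideal AlgInt}
  (N : Subgroup G) [hN : N.Normal] [Fintype N]

/-- Extension by zero of a representation of the normal subgroup. -/
noncomputable def extRep {k : ℕ} (ρ : Representation ℂ N (Fin k → ℂ)) (g : G) :
    Module.End ℂ (Fin k → ℂ) := by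
  classical exact if h : g ∈ N then ρ ⟨g, h⟩ else 0

theorem extRep_mem {k : ℕ} (ρ : Representation ℂ N (Fin k → ℂ)) (n : N) : extRep N ρ n = ρ n := by
  classical
  unfold extRep
  rw [dif_pos n.2]

theorem extRep_mul {k : ℕ} (ρ : Representation ℂ N (Fin k → ℂ)) {a b : G} (ha : a ∈ N) (hb : b ∈ N) :
    extRep N ρ (a * b) = extRep N ρ a * extRep N ρ b := by
  have h1 := extRep_mem N ρ ⟨a, ha⟩
  have h2 := extRep_mem N ρ ⟨b, hb⟩
  have h3 := extRep_mem N ρ ⟨a, ha⟩
  simp only at h1 h2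
  have h4 := extRep_mem N ρ (⟨a, ha⟩ * ⟨b, hb⟩)
  simp only [Subgroup.coe_mul] at h4
  rw [h4, h1, h2, map_mul]

theorem conj_sub_mem (w : G) {u : G} (hu : u ∈ Cl N.subtype w) : u * w⁻¹ ∈ N := by
  rw [mem_Cl] at hu
  obtain ⟨n, rfl⟩ := hu
  simp only [Subgroup.subtype_apply]
  have h1 : (n : G) * w * (n : G)⁻¹ * w⁻¹ = n * (w * (n : G)⁻¹ * w⁻¹) := by group
  rw [h1]
  exact N.mul_mem n.2 (hN.conj_mem _ (N.inv_mem n.2) w)

theorem conj_sub_mem' (w : G) {u : G} (hu : u ∈ Cl N.subtype w⁻¹) : w * u ∈ N := by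
  rw [mem_Cl] at hu
  obtain ⟨n, rfl⟩ := hu
  simp only [Subgroup.subtype_apply]
  have h1 : w * ((n : G) * w⁻¹ * (n : G)⁻¹) = (w * (n : G) * w⁻¹) * (n : G)⁻¹ := by group
  rw [h1]
  exact N.mul_mem (hN.conj_mem _ n.2 w) (N.inv_mem n.2)

/-- **Invariance**: a character in the principal block of `N` is invariant under `w` when the
`N`-classes of `w`, `w⁻¹` have size prime to `p`. -/
theorem invariant_of_principal (hM : IsPModular p M) {k : ℕ} (ρ : Representation ℂ N (Fin k → ℂ))
    (hρ : ρ.IsIrreducible)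
    (hθ : (⟨ρ.character, ⟨k, ρ, hρ, rfl⟩⟩ : IrrCharacter N) ∈ principalBlock M N) (w : G)
    (h₁ : ¬ p ∣ (Cl N.subtype w).card) (h₂ : ¬ p ∣ (Cl N.subtype w⁻¹).card) (s : N) :
    ρ.character ⟨w * s * w⁻¹, hN.conj_mem (s : G) s.2 w⟩ = ρ.character s := by
  classical
  haveI := isPrime_of_isPModular hM
  have hirr : IsIrrCharacter N ρ.character := ⟨k, ρ, hρ, rfl⟩
  have hk : 0 < k := by
    obtain ⟨d, hd0, hd⟩ := Clifford.irr_degree_pos hirr
    rw [char_one_eq_rep] at hd
    have : k = d := by exact_mod_cast hd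
    omega
  set S₁ := Cl N.subtype w with hS₁
  set S₂ := Cl N.subtype w⁻¹ with hS₂
  let S₃ : Finset G := {1}
  let hat : N →* G := N.subtype
  have hinj : Function.Injective hat := N.subtype_injective
  have hprod : ∀ u₁ ∈ S₁, ∀ u₂ ∈ S₂, ∀ u₃ ∈ S₃, ∃ n : N, u₁ * u₂ * u₃ = hat n := by
    intro u₁ hu₁ u₂ hu₂ u₃ hu₃
    rw [Finset.mem_singleton] at hu₃
    subst hu₃
    have h1 : u₁ * u₂ * 1 = (u₁ * w⁻¹) * (w * u₂) := by group
    exact ⟨⟨_, N.mul_mem (conj_sub_mem N w hu₁) (conj_sub_mem' N w hu₂)⟩, by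
      rw [h1]
      rfl⟩
  have hcong := omega_triF_congr hinj (stable_Cl _ w) (stable_Cl _ w⁻¹) (stable_singleton_one _)
    hprod ⟨ρ.character, hirr⟩ hθ
  -- the element of `End`
  let E₁ : Module.End ℂ (Fin k → ℂ) := ∑ u ∈ S₁, extRep N ρ (u * w⁻¹)
  let E₂ : Module.End ℂ (Fin k → ℂ) := ∑ u ∈ S₂, extRep N ρ (w * u)
  have hchar : ∀ g : G, (fun g : G => LinearMap.trace ℂ _ (extRep N ρ g)) g =
      LinearMap.trace ℂ _ (extRep N ρ g) := fun _ => rfl
  have hsum : ∑ n : N, triF hat S₁ S₂ S₃ n * ρ.character n = LinearMap.trace ℂ _ (E₁ * E₂) := by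
    rw [sum_triF_mul hinj hprod ρ.character (fun g => LinearMap.trace ℂ _ (extRep N ρ g))
      (fun n => by
        show LinearMap.trace ℂ _ (extRep N ρ n) = LinearMap.trace ℂ _ (ρ n)
        rw [extRep_mem])]
    show _ = LinearMap.trace ℂ _ ((∑ u ∈ S₁, extRep N ρ (u * w⁻¹)) * ∑ u ∈ S₂, extRep N ρ (w * u))
    rw [Finset.sum_mul_sum, map_sum]
    refine Finset.sum_congr rfl fun u₁ hu₁ => ?_
    rw [map_sum]
    refine Finset.sum_congr rfl fun u₂ hu₂ => ?_
    simp only [S₃, Finset.sum_singleton, mul_one]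
    rw [← extRep_mul N ρ (conj_sub_mem N w hu₁) (conj_sub_mem' N w hu₂)]
    congr 2
    group
  have hE₁ : E₁ ≠ 0 := by
    intro h0
    rw [h0, zero_mul, map_zero] at hsum
    have h1 : omega (ρ.character) (triF hat S₁ S₂ S₃) = 0 := by
      unfold omega
      rw [hsum, zero_div]
    simp only at hcong
    rw [h1, zero_sub] at hcong
    have h2 := memLocalIdeal_neg hcong
    rw [neg_neg] at h2
    have h3 : ((S₁.card : ℂ) * (S₂.card : ℂ) * (S₃.card : ℂ)) = ((S₁.card * S₂.card * S₃.card : ℕ) : ℂ) := by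
      push_cast
      ring
    rw [h3, memLocalIdeal_natCast_iff hM] at h2
    simp only [S₃, Finset.card_singleton, mul_one] at h2
    rcases hp.out.dvd_mul.mp h2 with h | h
    · exact h₁ h
    · exact h₂ h
  -- the intertwining
  have hint : ∀ t : N, E₁ * ρ ⟨w * t * w⁻¹, hN.conj_mem (t : G) t.2 w⟩ = ρ t * E₁ := by
    intro t
    show (∑ u ∈ S₁, extRep N ρ (u * w⁻¹)) * _ = _ * ∑ u ∈ S₁, extRep N ρ (u * w⁻¹)
    rw [Finset.sum_mul, Finset.mul_sum]
    have h1 := sum_stable_conj (stable_Cl N.subtype w) (fun u => extRep N ρ (u * t * w⁻¹)) t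
    simp only [Subgroup.subtype_apply] at h1
    have h2 : ∀ u ∈ S₁, extRep N ρ (u * w⁻¹) * ρ ⟨w * t * w⁻¹, hN.conj_mem (t : G) t.2 w⟩ =
        extRep N ρ (u * t * w⁻¹) := by
      intro u hu
      rw [← extRep_mem N ρ ⟨w * t * w⁻¹, hN.conj_mem (t : G) t.2 w⟩,
        ← extRep_mul N ρ (conj_sub_mem N w hu) (hN.conj_mem (t : G) t.2 w)]
      congr 1
      group
    have h3 : ∀ u ∈ S₁, ρ t * extRep N ρ (u * w⁻¹) = extRep N ρ ((t : G) * u * w⁻¹) := by
      intro u hu
      rw [← extRep_mem N ρ t, ← extRep_mul N ρ t.2 (conj_sub_mem N w hu)]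
      congr 1
      group
    rw [Finset.sum_congr rfl h2, Finset.sum_congr rfl h3, ← h1]
    refine Finset.sum_congr rfl fun u _ => ?_
    congr 1
    group
  -- surjectivity
  have hsurj : Function.Surjective E₁ := by
    have hrange := ((isIrreducible_iff ρ).mp hρ).2 (LinearMap.range E₁) (by
      rintro t _ ⟨v, rfl⟩
      refine ⟨ρ ⟨w * t * w⁻¹, hN.conj_mem (t : G) t.2 w⟩ v, ?_⟩
      exact LinearMap.congr_fun (hint t) v)
    rcases hrange with h | h
    · exact absurd (LinearMap.range_eq_bot.mp h) hE₁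
    · exact LinearMap.range_eq_top.mp h
  obtain ⟨E', hE'⟩ := LinearMap.exists_rightInverse_of_surjective E₁ (LinearMap.range_eq_top.mpr hsurj)
  have hE'1 : E₁ * E' = 1 := hE'
  have hinjE : Function.Injective E₁ := LinearMap.injective_iff_surjective.mpr hsurj
  have hE'2 : E' * E₁ = 1 := by
    apply LinearMap.ext
    intro v
    apply hinjE
    have := LinearMap.congr_fun hE'1 (E₁ v)
    exact this
  have h4 : ρ s = E₁ * ρ ⟨w * s * w⁻¹, hN.conj_mem (s : G) s.2 w⟩ * E' := by
    rw [hint s, mul_assoc (ρ s), hE'1, mul_one]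
  show LinearMap.trace ℂ _ (ρ _) = LinearMap.trace ℂ _ (ρ s)
  rw [h4, mul_assoc E₁, LinearMap.trace_mul_comm, mul_assoc (ρ _), hE'2, mul_one]

end Invariance

section Rep

variable {N Γ : Type u} [Group N] [Fintype N] [Group Γ] [Fintype Γ] {hat : N →* Γ}
  {k : ℕ} (R : Representation ℂ Γ (Fin k → ℂ))

theorem tauS_Cl (y : Γ) :
    tauS R (Cl hat y) = ((Cl hat y).card : ℂ) * (R.character y / k) := by
  unfold tauS
  have h1 : ∀ u ∈ Cl hat y, R.character u = R.character y := by
    intro u hu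
    rw [mem_Cl] at hu
    obtain ⟨n, rfl⟩ := hu
    exact isClassFunction_of_isCharacter (isCharacter_of_rep' R) y (hat n)
  rw [Finset.sum_congr rfl h1, Finset.sum_const, nsmul_eq_mul]
  ring

variable (ρ : Representation ℂ N (Fin k → ℂ)) (hRρ : ∀ n, R (hat n) = ρ n) (hρ : ρ.IsIrreducible)

include hRρ hρ in
/-- The scalars are algebraic integers. -/
theorem tauS_isIntegral {S : Finset Γ} (hS : StableS hat S) (hk : 0 < k) :
    IsIntegral ℤ (tauS R S) := by
  classical
  let Sp : Submodule ℤ (Module.End ℂ (Fin k → ℂ)) := Submodule.span ℤ (Set.range fun g : Γ => R g)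
  have hgen : ∀ g : Γ, R g ∈ Sp := fun g => Submodule.subset_span ⟨g, rfl⟩
  have h1 : (1 : Module.End ℂ (Fin k → ℂ)) ∈ Sp := by
    have := hgen 1
    rwa [map_one] at this
  have hmul : ∀ x y, x ∈ Sp → y ∈ Sp → x * y ∈ Sp := by
    intro x y hx hy
    induction hx using Submodule.span_induction with
    | mem a ha =>
      obtain ⟨g, rfl⟩ := ha
      induction hy using Submodule.span_induction with
      | mem b hb =>
        obtain ⟨g', rfl⟩ := hb
        show R g * R g' ∈ Sp
        rw [← map_mul]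
        exact hgen _
      | zero => simp
      | add a b _ _ ha hb =>
        rw [mul_add]
        exact Sp.add_mem ha hb
      | smul c a _ ha =>
        rw [mul_smul_comm]
        exact Sp.smul_mem c ha
    | zero => simp
    | add a b _ _ ha hb =>
      rw [add_mul]
      exact Sp.add_mem ha hb
    | smul c a _ ha =>
      rw [smul_mul_assoc]
      exact Sp.smul_mem c ha
  let T : Subalgebra ℤ (Module.End ℂ (Fin k → ℂ)) := Submodule.toSubalgebra Sp h1 hmul
  have hFG : T.toSubmodule.FG := by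
    show Sp.FG
    exact Submodule.fg_span (Set.finite_range _)
  have hz : zop R S ∈ T := by
    show zop R S ∈ Sp
    unfold zop
    exact Sp.sum_mem fun u _ => hgen u
  have hint := IsIntegral.of_mem_of_fg T hFG _ hz
  rw [zop_scalar R ρ hRρ hρ hS hk] at hint
  have hV : Nontrivial (Fin k → ℂ) := ((isIrreducible_iff ρ).mp hρ).1
  have h2 : tauS R S • (1 : Module.End ℂ (Fin k → ℂ)) =
      algebraMap ℂ (Module.End ℂ (Fin k → ℂ)) (tauS R S) := by
    rw [Algebra.algebraMap_eq_smul_one]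
  rw [h2] at hint
  exact (isIntegral_algebraMap_iff (algebraMap ℂ (Module.End ℂ (Fin k → ℂ))).injective).mp hint

end Rep

section Section

variable {G Γ : Type u} [Group G] [Fintype G] [Group Γ] [Fintype Γ] {p : ℕ} [hp : Fact p.Prime]
  {M : Ideal AlgInt} (N : Subgroup G) [hN : N.Normal] [Fintype N] {k : ℕ}
  (ρ : Representation ℂ N (Fin k → ℂ)) (hρ : ρ.IsIrreducible)
  (π : Γ →* G) (hat : N →* Γ) (R : Representation ℂ Γ (Fin k → ℂ))

/-- The normalized character. -/
noncomputable def tt (R : Representation ℂ Γ (Fin k → ℂ)) (y : Γ) : ℂ := R.character y / k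

/-- Local arithmetic. -/
theorem memLocalIdeal_third [M.IsPrime] {a b c : ℂ} (ha : MemLocalIdeal M (a - 1))
    (hb : MemLocalIdeal M (b - 1)) (habc : MemLocalIdeal M (a * b * c - 1)) :
    MemLocalIdeal M (c - 1) := by
  have hla : MemLocalRing M a := by
    have := memLocalRing_add (memLocalRing_of_memLocalIdeal ha) (memLocalRing_one (M := M))
    simpa using this
  have hlb : MemLocalRing M b := by
    have := memLocalRing_add (memLocalRing_of_memLocalIdeal hb) (memLocalRing_one (M := M))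
    simpa using this
  have hab1 : MemLocalIdeal M (a * b - 1) := by
    have h1 : a * b - 1 = a * (b - 1) + (a - 1) := by ring
    rw [h1]
    exact memLocalIdeal_add (memLocalIdeal_mul_left hla hb) ha
  have hnot : ¬ MemLocalIdeal M (a * b) := by
    intro h
    apply not_memLocalIdeal_one (M := M)
    have := memLocalIdeal_sub h hab1
    simpa using this
  have hlab : MemLocalRing M (a * b) := memLocalRing_mul hla hlb
  have hinv := memLocalRing_inv hlab hnot
  have h0 : a * b ≠ 0 := ne_zero_of_not_memLocalIdeal hnot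
  have h2 : c - 1 = (a * b)⁻¹ * ((a * b * c - 1) - (a * b - 1)) := by
    rw [show (a * b * c - 1) - (a * b - 1) = a * b * (c - 1) by ring, ← mul_assoc,
      inv_mul_cancel₀ h0, one_mul]
  rw [h2]
  exact memLocalIdeal_mul_left hinv (memLocalIdeal_sub habc hab1)

/-- A root of unity congruent to `1` of order prime to `p` is `1`. -/
theorem eq_one_of_congr (hM : IsPModular p M) {c : ℂ} {n : ℕ} (hn : ¬ p ∣ n) (hc : c ^ n = 1)
    (h1 : MemLocalIdeal M (c - 1)) : c = 1 := by
  haveI := isPrime_of_isPModular hM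
  by_contra hne
  have hsum : ∑ i ∈ Finset.range n, c ^ i = 0 := by
    have := geom_sum_mul c n
    rw [hc, sub_self] at this
    exact (mul_eq_zero.mp this).resolve_right (sub_ne_zero.mpr hne)
  have hcl : MemLocalRing M c := by
    have := memLocalRing_add (memLocalRing_of_memLocalIdeal h1) (memLocalRing_one (M := M))
    simpa using this
  have hi : ∀ i : ℕ, MemLocalIdeal M (c ^ i - 1) := by
    intro i
    induction i with
    | zero => simpa using memLocalIdeal_zero (M := M)
    | succ i ih =>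
      have h2 : c ^ (i + 1) - 1 = c ^ i * (c - 1) + (c ^ i - 1) := by ring
      rw [h2]
      exact memLocalIdeal_add (memLocalIdeal_mul_left (memLocalRing_pow hcl i) h1) ih
  have h3 : MemLocalIdeal M (∑ i ∈ Finset.range n, (c ^ i - 1)) :=
    memLocalIdeal_sum _ _ fun i _ => hi i
  rw [Finset.sum_sub_distrib, hsum] at h3
  simp only [Finset.sum_const, Finset.card_range, nsmul_eq_mul, mul_one, zero_sub] at h3
  have h4 := memLocalIdeal_neg h3
  rw [neg_neg, memLocalIdeal_natCast_iff hM] at h4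
  exact hn h4

/-- A number with `u ^ D ≡ 1` is congruent to a root of unity. -/
theorem exists_root_congr [M.IsPrime] {u : ℂ} {D : ℕ} (hD : 0 < D) (hu : MemLocalRing M u)
    (h : MemLocalIdeal M (u ^ D - 1)) : ∃ ζ : ℂ, ζ ^ D = 1 ∧ MemLocalIdeal M (u - ζ) := by
  classical
  have hne : NeZero (D : ℕ) := ⟨hD.ne'⟩
  have hprim := Complex.isPrimitiveRoot_exp D hD.ne'
  have h1 := Polynomial.X_pow_sub_one_eq_prod hD hprim
  have h2 := congrArg (fun P => Polynomial.eval u P) h1
  simp only [Polynomial.eval_sub, Polynomial.eval_pow, Polynomial.eval_X, Polynomial.eval_one,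
    Polynomial.eval_prod, Polynomial.eval_C] at h2
  rw [h2] at h
  have hroot : ∀ ζ ∈ Polynomial.nthRootsFinset D (1 : ℂ), ζ ^ D = 1 := by
    intro ζ hζ
    exact (Polynomial.mem_nthRootsFinset hD 1).mp hζ
  have hlocal : ∀ ζ ∈ Polynomial.nthRootsFinset D (1 : ℂ), MemLocalRing M (u - ζ) := by
    intro ζ hζ
    refine memLocalRing_sub hu (memLocalRing_of_isIntegral ?_)
    exact IsIntegral.of_pow hD (by rw [hroot ζ hζ]; exact isIntegral_one)
  obtain ⟨ζ, hζ, hm⟩ := (memLocalIdeal_prod_iff _ _ hlocal).mp h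
  exact ⟨ζ, hroot ζ hζ, hm⟩

end Section

end Cfsg.Agent.Lib.AlperinDade2
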