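import Mathlib
import Cfsg.Agent.Lib.AlperinDade2

set_option autoImplicit false
set_option linter.style.haveILetI false
set_option linter.unusedVariables false
set_option linter.unusedSectionVars false

namespace Cfsg.Agent.Lib.AlperinDade3

open Cfsg Cfsg.Agent.Lib.CharBasic Cfsg.Agent.Lib.CharInd Cfsg.Agent.Lib.CharInduction
open Cfsg.Agent.Lib.CentralExt Cfsg.Agent.Lib.ImplGroup Cfsg.Agent.Lib.CosetAvg
open Cfsg.Agent.Lib.BlockLocal Cfsg.Agent.Lib.BlockIdem Cfsg.Agent.Lib.AlperinDade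
open Cfsg.Agent.Lib.AlperinDade2
open Module
open scoped ComplexConjugate Classical Pointwise

universe u

section Abstract

variable {G Γ : Type u} [Group G] [Fintype G] [Group Γ] [Fintype Γ] {p : ℕ} [hp : Fact p.Prime]
  {M : Ideal AlgInt} (hM : IsPModular p M) {N : Subgroup G} [hN : N.Normal] [Fintype N] {k : ℕ}
  (hk : 0 < k)
  {ρ : Representation ℂ N (Fin k → ℂ)} (hρ : ρ.IsIrreducible)
  (hθ : (⟨ρ.character, ⟨k, ρ, hρ, rfl⟩⟩ : IrrCharacter N) ∈ principalBlock M N)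
  {π : Γ →* G} {hat : N →* Γ} (hπhat : ∀ n, π (hat n) = n)
  {R : Representation ℂ Γ (Fin k → ℂ)} (hRhat : ∀ n, R (hat n) = ρ n) (hA : hat.range.Normal)
  {W : Subgroup G} {P₀ : Subgroup N} (hP₀ : ¬ p ∣ P₀.index)
  (hWP : ∀ w ∈ W, ∀ u ∈ P₀, w * (u : G) = u * w)

include hπhat in
theorem hat_injective : Function.Injective hat := by
  intro a b hab
  have := congrArg π hab
  rw [hπhat, hπhat] at this
  exact Subtype.ext this

include hπhat hA hWP in
/-- Lifts of elements of `W` commute with the lift of `P₀`. -/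
theorem hat_comm {y : Γ} (hy : π y ∈ W) {u : N} (hu : u ∈ P₀) : hat u * y = y * hat u := by
  obtain ⟨n, hn⟩ := hA.conj_mem (hat u) ⟨u, rfl⟩ y
  have h1 : π (hat n) = π y * π (hat u) * (π y)⁻¹ := by
    rw [hn]
    simp
  rw [hπhat, hπhat, hWP _ hy u hu] at h1
  have h2 : n = u := by
    apply Subtype.ext
    rw [h1]
    group
  rw [h2] at hn
  calc hat u * y = (y * hat u * y⁻¹) * y := by rw [← hn]
    _ = y * hat u := by group

include hπhat hA hWP hP₀ in
theorem not_dvd_Cl {y : Γ} (hy : π y ∈ W) : ¬ p ∣ (Cl hat y).card :=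
  not_dvd_card_Cl hat P₀ hP₀ (fun u hu => hat_comm hπhat hA hWP hy hu)

theorem tt_eq {y : Γ} : tauS R (Cl hat y) = ((Cl hat y).card : ℂ) * tt R y := tauS_Cl R y

include hM hρ hRhat hk hπhat hA hWP hP₀ in
theorem tt_local {y : Γ} (hy : π y ∈ W) : MemLocalRing M (tt R y) := by
  haveI := isPrime_of_isPModular hM
  have h1 := tauS_isIntegral R ρ hRhat hρ (stable_Cl hat y) hk
  rw [tt_eq] at h1
  have h2 := not_dvd_Cl hπhat hA hP₀ hWP hy
  have hne : ((Cl hat y).card : ℂ) ≠ 0 := by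
    intro h
    have : (Cl hat y).card = 0 := by exact_mod_cast h
    rw [this] at h2
    exact h2 (dvd_zero p)
  have h3 : tt R y = ((Cl hat y).card : ℂ)⁻¹ * (((Cl hat y).card : ℂ) * tt R y) := by
    rw [← mul_assoc, inv_mul_cancel₀ hne, one_mul]
  rw [h3]
  exact memLocalRing_mul (memLocalRing_inv_natCast hM h2) (memLocalRing_of_isIntegral h1)

include hM hρ hRhat hk hπhat hA hWP hP₀ hθ in
/-- The **triple congruence** for normalized characters. -/
theorem tt_triple {y₁ y₂ y₃ : Γ} (h₁ : π y₁ ∈ W) (h₂ : π y₂ ∈ W) (h₃ : π y₃ ∈ W)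
    (hprod : y₁ * y₂ * y₃ ∈ hat.range) : MemLocalIdeal M (tt R y₁ * tt R y₂ * tt R y₃ - 1) := by
  haveI := isPrime_of_isPModular hM
  have hinj : Function.Injective hat := hat_injective hπhat
  -- elements of an orbit differ from `y` by an element of the range
  have hcoset : ∀ {y u : Γ}, u ∈ Cl hat y → y⁻¹ * u ∈ hat.range := by
    intro y u hu
    rw [mem_Cl] at hu
    obtain ⟨n, rfl⟩ := hu
    have h1 : y⁻¹ * (hat n * y * (hat n)⁻¹) = (y⁻¹ * hat n * y) * (hat n)⁻¹ := by group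
    rw [h1]
    refine hat.range.mul_mem ?_ (hat.range.inv_mem ⟨n, rfl⟩)
    have := hA.conj_mem (hat n) ⟨n, rfl⟩ y⁻¹
    simpa using this
  have hprod' : ∀ u₁ ∈ Cl hat y₁, ∀ u₂ ∈ Cl hat y₂, ∀ u₃ ∈ Cl hat y₃, ∃ n, u₁ * u₂ * u₃ = hat n := by
    intro u₁ hu₁ u₂ hu₂ u₃ hu₃
    obtain ⟨a₁, ha₁⟩ := hcoset hu₁
    obtain ⟨a₂, ha₂⟩ := hcoset hu₂
    obtain ⟨a₃, ha₃⟩ := hcoset hu₃
    have e₁ : u₁ = y₁ * hat a₁ := by rw [ha₁]; group
    have e₂ : u₂ = y₂ * hat a₂ := by rw [ha₂]; group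
    have e₃ : u₃ = y₃ * hat a₃ := by rw [ha₃]; group
    -- work modulo the normal subgroup
    have hq : (QuotientGroup.mk' hat.range) (u₁ * u₂ * u₃) = 1 := by
      haveI := hA
      have hr : ∀ a : N, QuotientGroup.mk' hat.range (hat a) = 1 := fun a =>
        (QuotientGroup.eq_one_iff _).mpr ⟨a, rfl⟩
      rw [e₁, e₂, e₃]
      simp only [map_mul, hr, mul_one]
      rw [← map_mul, ← map_mul]
      exact (QuotientGroup.eq_one_iff _).mpr hprod
    haveI := hA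
    obtain ⟨n, hn⟩ := (QuotientGroup.eq_one_iff _).mp hq
    exact ⟨n, hn.symm⟩
  have h := tauS_congr R ρ hRhat hρ hinj hk (stable_Cl hat y₁) (stable_Cl hat y₂) (stable_Cl hat y₃)
    hprod' hθ
  rw [tt_eq, tt_eq, tt_eq] at h
  set c₁ := (Cl hat y₁).card
  set c₂ := (Cl hat y₂).card
  set c₃ := (Cl hat y₃).card
  have d₁ : ¬ p ∣ c₁ := not_dvd_Cl hπhat hA hP₀ hWP h₁
  have d₂ : ¬ p ∣ c₂ := not_dvd_Cl hπhat hA hP₀ hWP h₂
  have d₃ : ¬ p ∣ c₃ := not_dvd_Cl hπhat hA hP₀ hWP h₃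
  have hd : ¬ p ∣ c₁ * c₂ * c₃ := by
    intro h4
    rcases hp.out.dvd_mul.mp h4 with h5 | h5
    · rcases hp.out.dvd_mul.mp h5 with h6 | h6
      · exact d₁ h6
      · exact d₂ h6
    · exact d₃ h5
  have hne : ((c₁ * c₂ * c₃ : ℕ) : ℂ) ≠ 0 := by
    intro h4
    have h5 : c₁ * c₂ * c₃ = 0 := by exact_mod_cast h4
    rw [h5] at hd
    exact hd (dvd_zero p)
  have h6 : tt R y₁ * tt R y₂ * tt R y₃ - 1 = ((c₁ * c₂ * c₃ : ℕ) : ℂ)⁻¹ *
      ((c₁ : ℂ) * tt R y₁ * ((c₂ : ℂ) * tt R y₂) * ((c₃ : ℂ) * tt R y₃) -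
        (c₁ : ℂ) * (c₂ : ℂ) * (c₃ : ℂ)) := by
    have h7 : (c₁ : ℂ) * tt R y₁ * ((c₂ : ℂ) * tt R y₂) * ((c₃ : ℂ) * tt R y₃) -
        (c₁ : ℂ) * (c₂ : ℂ) * (c₃ : ℂ) = ((c₁ * c₂ * c₃ : ℕ) : ℂ) *
          (tt R y₁ * tt R y₂ * tt R y₃ - 1) := by
      push_cast
      ring
    rw [h7, ← mul_assoc, inv_mul_cancel₀ hne, one_mul]
  rw [h6]
  exact memLocalIdeal_mul_left (memLocalRing_inv_natCast hM hd) h

theorem tt_one (hk : 0 < k) : tt R (1 : Γ) = 1 := by
  have hk0 : (k : ℂ) ≠ 0 := by exact_mod_cast hk.ne'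
  unfold tt
  have : R.character (1 : Γ) = k := char_one_eq_rep R
  rw [this, div_self hk0]

/-- Cancelling a local unit. -/
theorem memLocalIdeal_cancel [M.IsPrime] {x b : ℂ} (hb : MemLocalRing M b)
    (hb' : ¬ MemLocalIdeal M b) (h : MemLocalIdeal M (x * b)) : MemLocalIdeal M x := by
  have hne : b ≠ 0 := ne_zero_of_not_memLocalIdeal hb'
  have h1 : x = x * b * b⁻¹ := by rw [mul_assoc, mul_inv_cancel₀ hne, mul_one]
  rw [h1]
  exact memLocalIdeal_mul_right h (memLocalRing_inv hb hb')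

/-- A factor of a local unit is a unit. -/
theorem not_memLocalIdeal_of_mul [M.IsPrime] {a b : ℂ} (ha : MemLocalRing M a)
    (h : MemLocalIdeal M (a * b - 1)) : ¬ MemLocalIdeal M b := by
  intro hb
  apply not_memLocalIdeal_one (M := M)
  have := memLocalIdeal_sub (memLocalIdeal_mul_left ha hb) h
  simpa using this

include hM hρ hRhat hk hπhat hA hWP hP₀ hθ in
/-- The normalized character is multiplicative modulo `M` over `W`. -/
theorem tt_mul {y₁ y₂ : Γ} (h₁ : π y₁ ∈ W) (h₂ : π y₂ ∈ W) :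
    MemLocalIdeal M (tt R (y₁ * y₂) - tt R y₁ * tt R y₂) := by
  haveI := isPrime_of_isPModular hM
  have h₁₂ : π (y₁ * y₂) ∈ W := by
    rw [map_mul]
    exact W.mul_mem h₁ h₂
  have h₃ : π (y₁ * y₂)⁻¹ ∈ W := by
    rw [map_inv]
    exact W.inv_mem h₁₂
  have h1 : π (1 : Γ) ∈ W := by
    rw [map_one]
    exact W.one_mem
  have e1 := tt_triple hM hk hρ hθ hπhat hRhat hA hP₀ hWP h₁ h₂ h₃
    (by rw [mul_inv_cancel]; exact Subgroup.one_mem _)
  have e2 := tt_triple hM hk hρ hθ hπhat hRhat hA hP₀ hWP h₁₂ h₃ h1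
    (by rw [mul_inv_cancel, mul_one]; exact Subgroup.one_mem _)
  rw [tt_one hk, mul_one] at e2
  have l₁ := tt_local hM hk hρ hπhat hRhat hA hP₀ hWP h₁
  have l₂ := tt_local hM hk hρ hπhat hRhat hA hP₀ hWP h₂
  have l₃ := tt_local hM hk hρ hπhat hRhat hA hP₀ hWP h₃
  have hb := not_memLocalIdeal_of_mul (memLocalRing_mul l₁ l₂) e1
  refine memLocalIdeal_cancel l₃ hb ?_
  have h3 := memLocalIdeal_sub e2 e1
  convert h3 using 1
  ring

/-- The subgroup of good lifts. -/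
noncomputable def goodT (hM : IsPModular p M) (hk : 0 < k) (hρ : ρ.IsIrreducible)
    (hθ : (⟨ρ.character, ⟨k, ρ, hρ, rfl⟩⟩ : IrrCharacter N) ∈ principalBlock M N)
    (hπhat : ∀ n, π (hat n) = n) (hRhat : ∀ n, R (hat n) = ρ n) (hA : hat.range.Normal)
    (hP₀ : ¬ p ∣ P₀.index) (hWP : ∀ w ∈ W, ∀ u ∈ P₀, w * (u : G) = u * w) : Subgroup Γ where
  carrier := {y | π y ∈ W ∧ MemLocalIdeal M (tt R y - 1)}
  one_mem' := by
    haveI := isPrime_of_isPModular hM
    refine ⟨by rw [map_one]; exact W.one_mem, ?_⟩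
    rw [tt_one hk, sub_self]
    exact memLocalIdeal_zero
  mul_mem' := by
    haveI := isPrime_of_isPModular hM
    rintro a b ⟨ha, ha'⟩ ⟨hb, hb'⟩
    refine ⟨by rw [map_mul]; exact W.mul_mem ha hb, ?_⟩
    have h1 := tt_mul hM hk hρ hθ hπhat hRhat hA hP₀ hWP ha hb
    have l₁ := tt_local hM hk hρ hπhat hRhat hA hP₀ hWP ha
    have h2 : tt R (a * b) - 1 = (tt R (a * b) - tt R a * tt R b) + (tt R a * (tt R b - 1) +
        (tt R a - 1)) := by ring
    rw [h2]
    exact memLocalIdeal_add h1 (memLocalIdeal_add (memLocalIdeal_mul_left l₁ hb') ha')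
  inv_mem' := by
    haveI := isPrime_of_isPModular hM
    rintro a ⟨ha, ha'⟩
    have hi : π a⁻¹ ∈ W := by
      rw [map_inv]
      exact W.inv_mem ha
    refine ⟨hi, ?_⟩
    have h1 := tt_mul hM hk hρ hθ hπhat hRhat hA hP₀ hWP ha hi
    rw [mul_inv_cancel, tt_one hk] at h1
    have l₂ := tt_local hM hk hρ hπhat hRhat hA hP₀ hWP hi
    have h2 : tt R a⁻¹ - 1 = -((tt R a - 1) * tt R a⁻¹ + (1 - tt R a * tt R a⁻¹)) := by
      ring
    rw [h2]
    exact memLocalIdeal_neg (memLocalIdeal_add (memLocalIdeal_mul_right ha' l₂) h1)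

theorem tt_scal {z : Γ} {c : ℂ} (hz : R z = c • 1) (y : Γ) : tt R (z * y) = c * tt R y := by
  unfold tt
  have h1 : R.character (z * y) = c * R.character y := by
    show LinearMap.trace ℂ _ (R (z * y)) = c * LinearMap.trace ℂ _ (R y)
    rw [map_mul, hz, smul_mul_assoc, one_mul, map_smul, smul_eq_mul]
  rw [h1]
  ring

include hM hρ hRhat hk hπhat hA hWP hP₀ hθ in
theorem tt_pow {y : Γ} (hy : π y ∈ W) (j : ℕ) :
    MemLocalIdeal M (tt R (y ^ j) - tt R y ^ j) := by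
  haveI := isPrime_of_isPModular hM
  induction j with
  | zero =>
    rw [pow_zero, pow_zero, tt_one hk, sub_self]
    exact memLocalIdeal_zero
  | succ j ih =>
    have hyj : π (y ^ j) ∈ W := by
      rw [map_pow]
      exact W.pow_mem hy j
    have h1 := tt_mul hM hk hρ hθ hπhat hRhat hA hP₀ hWP hyj hy
    have l := tt_local hM hk hρ hπhat hRhat hA hP₀ hWP hy
    have h2 : tt R (y ^ (j + 1)) - tt R y ^ (j + 1) =
        (tt R (y ^ j * y) - tt R (y ^ j) * tt R y) + (tt R (y ^ j) - tt R y ^ j) * tt R y := by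
      rw [pow_succ y j, pow_succ (tt R y) j]
      ring
    rw [h2]
    exact memLocalIdeal_add h1 (memLocalIdeal_mul_right ih l)

section Section

variable (hkerc : ∀ y, π y = 1 → ∀ w, y * w = w * y)
  (hkers : ∀ y, π y = 1 → ∃ c : ℂ, R y = c • 1)
  (hkerf : ∀ y, π y = 1 → R y = 1 → y = 1)
  {m D : ℕ} (hD0 : 0 < D) (hD : D ∣ m)
  (hscal : ∀ c : ℂ, c ^ m = 1 → ∃ y, π y = 1 ∧ R y = c • 1)
  (hlift : ∀ g : G, ∃ y, π y = g ∧ y ^ D = 1)

include hM hρ hRhat hk hπhat hA hWP hP₀ hθ hD0 hD hscal hlift in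
/-- Every element of `W` has a good lift. -/
theorem goodT_surj {w : G} (hw : w ∈ W) : ∃ y ∈ goodT hM hk hρ hθ hπhat hRhat hA hP₀ hWP, π y = w := by
  haveI := isPrime_of_isPModular hM
  obtain ⟨y, hy, hyD⟩ := hlift w
  have hyW : π y ∈ W := by rwa [hy]
  have l := tt_local hM hk hρ hπhat hRhat hA hP₀ hWP hyW
  have h1 := tt_pow hM hk hρ hθ hπhat hRhat hA hP₀ hWP hyW D
  rw [hyD, tt_one hk] at h1
  have h2 : MemLocalIdeal M (tt R y ^ D - 1) := by
    have := memLocalIdeal_neg h1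
    rwa [neg_sub] at this
  obtain ⟨ζ, hζ, hu⟩ := exists_root_congr hD0 l h2
  have hζ0 : ζ ≠ 0 := by
    rintro rfl
    rw [zero_pow hD0.ne'] at hζ
    exact zero_ne_one hζ
  have hc : (ζ⁻¹) ^ m = 1 := by
    obtain ⟨e, rfl⟩ := hD
    rw [pow_mul, inv_pow, hζ, inv_one, one_pow]
  obtain ⟨z, hz1, hz2⟩ := hscal _ hc
  refine ⟨z * y, ⟨?_, ?_⟩, ?_⟩
  · rw [map_mul, hz1, one_mul]
    exact hyW
  · rw [tt_scal hz2]
    have h3 : ζ⁻¹ * tt R y - 1 = ζ⁻¹ * (tt R y - ζ) := by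
      field_simp
    rw [h3]
    refine memLocalIdeal_mul_left (memLocalRing_of_isIntegral ?_) hu
    exact IsIntegral.of_pow hD0 (by rw [inv_pow, hζ, inv_one]; exact isIntegral_one)
  · rw [map_mul, hz1, one_mul, hy]

include hM hρ hRhat hk hπhat hA hWP hP₀ hθ hkers hkerf in
/-- A good element of the kernel of order prime to `p` is trivial. -/
theorem kernel_trivial {z : Γ} (hz : z ∈ goodT hM hk hρ hθ hπhat hRhat hA hP₀ hWP) (hz1 : π z = 1)
    {o : ℕ} (ho : ¬ p ∣ o) (hzo : z ^ o = 1) : z = 1 := by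
  haveI := isPrime_of_isPModular hM
  obtain ⟨c, hc⟩ := hkers z hz1
  have hV : Nontrivial (Fin k → ℂ) := ((isIrreducible_iff ρ).mp hρ).1
  have h1 : c ^ o = 1 := by
    have h2 : R (z ^ o) = (c ^ o) • (1 : Module.End ℂ (Fin k → ℂ)) := by
      rw [map_pow, hc, smul_pow, one_pow]
    rw [hzo, map_one] at h2
    have h3 := congrArg (fun f : Module.End ℂ (Fin k → ℂ) => f (fun _ => 1)) h2
    simp only [Module.End.one_apply, LinearMap.smul_apply] at h3
    have h4 := congrFun h3 ⟨0, hk⟩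
    simpa using h4.symm
  have htt : tt R z = c := by
    have := tt_scal hc 1
    rwa [mul_one, tt_one hk, mul_one] at this
  have h5 : MemLocalIdeal M (c - 1) := by
    rw [← htt]
    exact hz.2
  have h6 : c = 1 := eq_one_of_congr hM ho h1 h5
  apply hkerf z hz1
  rw [hc, h6, one_smul]

include hM hρ hRhat hk hπhat hA hWP hP₀ hθ hD0 hD hscal hlift hkers hkerf in
/-- **Schur-Zassenhaus inside the good lifts.** -/
theorem exists_complement (hWp : ¬ p ∣ Nat.card W) : ∃ H : Subgroup Γ,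
    H ≤ goodT hM hk hρ hθ hπhat hRhat hA hP₀ hWP ∧ (∀ w ∈ W, ∃ h ∈ H, π h = w) ∧
      (∀ h ∈ H, π h = 1 → h = 1) := by
  set T := goodT hM hk hρ hθ hπhat hRhat hA hP₀ hWP with hT
  let φ : T →* G := π.comp T.subtype
  have hφr : φ.range = W := by
    ext g
    constructor
    · rintro ⟨y, rfl⟩
      exact y.2.1
    · intro hg
      obtain ⟨y, hy, hy2⟩ := goodT_surj hM hk hρ hθ hπhat hRhat hA hP₀ hWP hD0 hD hscal hlift hg
      exact ⟨⟨y, hy⟩, hy2⟩
  have hcop : Nat.Coprime (Nat.card φ.ker) φ.ker.index := by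
    rw [Subgroup.index_ker, hφr]
    apply Nat.coprime_of_dvd
    intro q hq h1 h2
    haveI : Fact q.Prime := ⟨hq⟩
    obtain ⟨z, hz⟩ := exists_prime_orderOf_dvd_card' q h1
    have hqp : ¬ p ∣ q := by
      intro h3
      have := (Nat.prime_dvd_prime_iff_eq hp.out hq).mp h3
      rw [this] at hWp
      exact hWp h2
    have hz1 : ((z : T) : Γ) = 1 := by
      refine kernel_trivial hM hk hρ hθ hπhat hRhat hA hP₀ hWP hkers hkerf (z : T).2 ?_ hqp ?_
      · exact z.2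
      · rw [← hz]
        have h4 : z ^ orderOf z = 1 := pow_orderOf_eq_one z
        have h5 : (((z ^ orderOf z : φ.ker) : T) : Γ) = 1 := by
          rw [h4]
          rfl
        exact h5
    have hzz : z = 1 := by
      apply Subtype.ext
      apply Subtype.ext
      exact hz1
    rw [hzz, orderOf_one] at hz
    exact hq.one_lt.ne hz
  obtain ⟨H₀, hH₀⟩ := Subgroup.exists_right_complement'_of_coprime hcop
  refine ⟨H₀.map T.subtype, ?_, ?_, ?_⟩
  · rintro _ ⟨h, _, rfl⟩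
    exact h.2
  · intro w hw
    obtain ⟨y, hy, hy2⟩ := goodT_surj hM hk hρ hθ hπhat hRhat hA hP₀ hWP hD0 hD hscal hlift hw
    obtain ⟨⟨a, b⟩, hab, -⟩ := hH₀.existsUnique ⟨y, hy⟩
    refine ⟨((b : H₀) : T), ⟨_, b.2, rfl⟩, ?_⟩
    have h1 : φ ((a : φ.ker) * (b : H₀)) = φ ⟨y, hy⟩ := by
      rw [show (a : φ.ker).1 * (b : H₀).1 = ⟨y, hy⟩ from hab]
    rw [map_mul, MonoidHom.mem_ker.mp a.2, one_mul] at h1
    rw [← hy2]
    exact h1
  · rintro _ ⟨h, hh, rfl⟩ h1
    have h2 : h ∈ φ.ker := h1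
    have h3 := hH₀.disjoint.le_bot ⟨h2, hh⟩
    rw [Subgroup.mem_bot] at h3
    rw [h3]
    rfl

include hM hρ hRhat hk hπhat hA hWP hP₀ hθ hD0 hD hscal hlift hkers hkerf hkerc in
/-- **The extension theorem over `W`.** -/
theorem section_of_ext (hWp : ¬ p ∣ Nat.card W) (hNW : ∀ g : G, ∃ n ∈ N, ∃ w ∈ W, g = n * w) :
    ∃ R₁ : Representation ℂ G (Fin k → ℂ), (∀ n : N, R₁ n = ρ n) ∧
      ∀ w ∈ W, MemLocalIdeal M (R₁.character w / k - 1) := by
  haveI := isPrime_of_isPModular hM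
  obtain ⟨H, hHT, hHs, hHi⟩ := exists_complement hM hk hρ hθ hπhat hRhat hA hP₀ hWP hkers hkerf hD0 hD
    hscal hlift hWp
  haveI : hat.range.Normal := hA
  let L : Subgroup Γ := H ⊔ hat.range
  let f : L →* G := π.comp L.subtype
  have hinj : Function.Injective f := by
    rw [injective_iff_map_eq_one]
    rintro ⟨y, hy⟩ hy1
    have hy1' : π y = 1 := hy1
    have hy' : y ∈ ((H : Set Γ) * (hat.range : Set Γ)) := by
      rw [← Subgroup.mul_normal H hat.range]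
      exact hy
    obtain ⟨h, hh, a, ⟨n, rfl⟩, rfl⟩ := hy'
    have e1 : π h = ((n⁻¹ : N) : G) := by
      rw [map_mul, hπhat] at hy1'
      rw [Subgroup.coe_inv]
      exact eq_inv_of_mul_eq_one_left hy1'
    have hhT := hHT hh
    have hx : hat n⁻¹ ∈ goodT hM hk hρ hθ hπhat hRhat hA hP₀ hWP := by
      have h1 : π (hat n⁻¹) ∈ W := by
        rw [hπhat, ← e1]
        exact hhT.1
      refine ⟨h1, ?_⟩
      have h2 : π (1 : Γ) ∈ W := by
        rw [map_one]
        exact W.one_mem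
      have h3 := tt_triple hM hk hρ hθ hπhat hRhat hA hP₀ hWP h1 h2 h2 (y₁ := hat n⁻¹)
        (by rw [mul_one, mul_one]; exact ⟨_, rfl⟩)
      rwa [tt_one hk, mul_one, mul_one] at h3
    let z := h⁻¹ * hat n⁻¹
    have hzT : z ∈ goodT hM hk hρ hθ hπhat hRhat hA hP₀ hWP :=
      Subgroup.mul_mem _ (Subgroup.inv_mem _ hhT) hx
    have hz1 : π z = 1 := by
      show π (h⁻¹ * hat n⁻¹) = 1
      rw [map_mul, map_inv, e1, hπhat]
      simp
    have hxz : hat n⁻¹ = h * z := by simp [z]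
    let o := orderOf (π h)
    have ho1 : (π h) ^ o = 1 := pow_orderOf_eq_one _
    have hop : ¬ p ∣ o := by
      intro h4
      apply hWp
      refine h4.trans ?_
      have h5 : orderOf (π h) = orderOf (⟨π h, hhT.1⟩ : W) := (Subgroup.orderOf_mk _ _).symm
      rw [show o = orderOf (π h) from rfl, h5]
      exact orderOf_dvd_natCard _
    have hho : h ^ o = 1 := hHi _ (H.pow_mem hh o) (by rw [map_pow]; exact ho1)
    have hxo : (hat n⁻¹) ^ o = 1 := by
      rw [← map_pow]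
      have : (n⁻¹ : N) ^ o = 1 := by
        apply Subtype.ext
        rw [Subgroup.coe_pow, ← e1, ho1]
        rfl
      rw [this, map_one]
    have hzo : z ^ o = 1 := by
      have hcomm : Commute h z := (hkerc z hz1 h).symm
      have h6 := hcomm.mul_pow o
      rw [← hxz, hxo, hho, one_mul] at h6
      exact h6.symm
    have hz : z = 1 := kernel_trivial hM hk hρ hθ hπhat hRhat hA hP₀ hWP hkers hkerf hzT hz1 hop hzo
    have hh' : h = hat n⁻¹ := by
      rw [hxz, hz, mul_one]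
    apply Subtype.ext
    show h * hat n = 1
    rw [hh', ← map_mul, inv_mul_cancel, map_one]
  have hsurj : Function.Surjective f := by
    intro g
    obtain ⟨n, hn, w, hw, rfl⟩ := hNW g
    obtain ⟨h, hh, hh2⟩ := hHs w hw
    refine ⟨⟨hat ⟨n, hn⟩ * h, L.mul_mem (Subgroup.mem_sup_right ⟨_, rfl⟩) (Subgroup.mem_sup_left hh)⟩, ?_⟩
    show π (hat ⟨n, hn⟩ * h) = n * w
    rw [map_mul, hπhat, hh2]
  let e : L ≃* G := MulEquiv.ofBijective f ⟨hinj, hsurj⟩
  have he : ∀ y : L, e.symm (π y) = y := fun y => e.symm_apply_apply y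
  let R₁ : Representation ℂ G (Fin k → ℂ) :=
    R.comp (L.subtype.comp e.symm.toMonoidHom)
  have hR₁ : ∀ y : L, R₁ (π y) = R y := by
    intro y
    show R ((e.symm (π y) : L) : Γ) = R y
    rw [he]
  refine ⟨R₁, ?_, ?_⟩
  · intro n
    have h1 := hR₁ ⟨hat n, Subgroup.mem_sup_right ⟨_, rfl⟩⟩
    simp only at h1
    rw [hπhat, hRhat] at h1
    exact h1
  · intro w hw
    obtain ⟨h, hh, hh2⟩ := hHs w hw
    have h1 := hR₁ ⟨h, Subgroup.mem_sup_left hh⟩
    simp only at h1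
    rw [hh2] at h1
    have h2 : R₁.character w / k = tt R h := by
      unfold tt
      show LinearMap.trace ℂ _ (R₁ w) / k = LinearMap.trace ℂ _ (R h) / k
      rw [h1]
    rw [h2]
    exact (hHT hh).2

end Section

end Abstract

end Cfsg.Agent.Lib.AlperinDade3
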