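import Mathlib
import Cfsg.Agent.Lib.AlperinDade3

set_option autoImplicit false
set_option linter.style.haveILetI false
set_option linter.unusedVariables false
set_option linter.unusedSectionVars false

namespace Cfsg.Agent.Lib.AlperinDade4

open Cfsg Cfsg.Agent.Lib.CharBasic Cfsg.Agent.Lib.CharInd Cfsg.Agent.Lib.CharInduction
open Cfsg.Agent.Lib.CentralExt Cfsg.Agent.Lib.ImplGroup Cfsg.Agent.Lib.CosetAvg
open Cfsg.Agent.Lib.BlockLocal Cfsg.Agent.Lib.BlockIdem Cfsg.Agent.Lib.AlperinDade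
open Cfsg.Agent.Lib.AlperinDade2 Cfsg.Agent.Lib.AlperinDade3
open Module
open scoped ComplexConjugate Classical Pointwise

universe u

section Concrete

variable {G : Type u} [Group G] [Finite G] (N : Subgroup G) [hN : N.Normal] {k : ℕ}
  (ρ : Representation ℂ N (Fin k → ℂ)) (m : ℕ)

/-- The determinant on the implementers. -/
noncomputable def detB : implGroup N ρ →* ℂˣ :=
  (Units.map (LinearMap.det : Module.End ℂ (Fin k → ℂ) →* ℂ)).comp (implRep N ρ)

theorem detB_val (x : implGroup N ρ) :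
    ((detB N ρ x : ℂˣ) : ℂ) =
      LinearMap.det (((x : G × (Module.End ℂ (Fin k → ℂ))ˣ).2 : Module.End ℂ (Fin k → ℂ))) := by
  simp [detB, implRep]

theorem detB_ι (c : ℂˣ) : detB N ρ (implι N ρ c) = c ^ k := by
  apply Units.ext
  rw [detB_val]
  have h1 : (((implι N ρ c : implGroup N ρ) : G × (Module.End ℂ (Fin k → ℂ))ˣ).2 :
      Module.End ℂ (Fin k → ℂ)) = (c : ℂ) • (1 : Module.End ℂ (Fin k → ℂ)) := scalarUnit_val c
  rw [h1, LinearMap.det_smul]
  simp

/-- The power of the determinant on the implementers, with exponent `m`. -/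
noncomputable def detM : implGroup N ρ →* ℂˣ := (powMonoidHom m).comp (detB N ρ)

theorem detM_apply (x : implGroup N ρ) : detM N ρ m x = detB N ρ x ^ m := rfl

theorem detM_ι (c : ℂˣ) : detM N ρ m (implι N ρ c) = c ^ (k * m) := by
  rw [detM_apply, detB_ι, pow_mul]

theorem detM_hat {m : ℕ} (hm : Nat.card N ∣ m) (n : N) : detM N ρ m (implHat N ρ n) = 1 := by
  apply Units.ext
  rw [detM_apply]
  push_cast
  rw [detB_val]
  have h1 : (((implHat N ρ n : implGroup N ρ) : G × (Module.End ℂ (Fin k → ℂ))ˣ).2 :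
      Module.End ℂ (Fin k → ℂ)) = ρ n := rfl
  rw [h1, ← map_pow, ← map_pow]
  have h2 : n ^ m = 1 := by
    obtain ⟨e, rfl⟩ := hm
    rw [pow_mul, pow_card_eq_one', one_pow]
  rw [h2, map_one, map_one]

variable (hρ : ρ.IsIrreducible)
  (hsurj : ∀ g : G, ∃ X : (Module.End ℂ (Fin k → ℂ))ˣ, (g, X) ∈ implGroup N ρ)

include hρ hsurj in
/-- A lift of determinant one. -/
theorem exists_liftD (hk : 0 < k) (g : G) : ∃ x : implGroup N ρ, implπ N ρ x = g ∧ detB N ρ x = 1 := by
  obtain ⟨x, hx⟩ := (implExt N ρ hρ hsurj).surj g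
  obtain ⟨b, hb⟩ := units_exists_pow (detB N ρ x)⁻¹ k hk
  refine ⟨implι N ρ b * x, ?_, ?_⟩
  · rw [map_mul]
    have h1 : implπ N ρ (implι N ρ b) = 1 := rfl
    rw [h1, one_mul]
    exact hx
  · rw [map_mul, detB_ι, hb, inv_mul_cancel]

include hρ hsurj in
/-- The lift of determinant one has controlled order. -/
theorem exists_lift_pow (hk : 0 < k) (g : G) (m : ℕ) :
    ∃ y : (detM N ρ m).ker, implπ N ρ y = g ∧ y ^ (Nat.card G * k) = 1 := by
  obtain ⟨x, hx, hx1⟩ := exists_liftD N ρ hρ hsurj hk g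
  refine ⟨⟨x, ?_⟩, hx, ?_⟩
  · rw [MonoidHom.mem_ker, detM_apply, hx1, one_pow]
  · apply Subtype.ext
    show x ^ (Nat.card G * k) = 1
    obtain ⟨c, hc⟩ := (implExt N ρ hρ hsurj).ker (x ^ Nat.card G) (by
      show implπ N ρ (x ^ Nat.card G) = 1
      rw [map_pow, hx, pow_card_eq_one'])
    have hc' : implι N ρ c = x ^ Nat.card G := hc
    have h2 := congrArg (detB N ρ) hc'
    rw [detB_ι, map_pow, hx1, one_pow] at h2
    rw [pow_mul, ← hc', ← map_pow, h2, map_one]

include hρ hsurj in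
theorem finite_kerM {m : ℕ} (hk : 0 < k * m) : Finite (detM N ρ m).ker := by
  classical
  have hk0 : 0 < k := Nat.pos_of_mul_pos_right hk |> fun h => by
    rcases Nat.eq_zero_or_pos k with h0 | h0
    · rw [h0, zero_mul] at hk
      exact absurd hk (lt_irrefl _)
    · exact h0
  have hy := fun g => exists_lift_pow N ρ hρ hsurj hk0 g m
  choose y hy using hy
  have hne : NeZero (k * m) := ⟨hk.ne'⟩
  let f : G × rootsOfUnity (k * m) ℂ → (detM N ρ m).ker := fun p =>
    ⟨implι N ρ (p.2 : ℂˣ) * y p.1, by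
      rw [MonoidHom.mem_ker, map_mul, detM_ι, (mem_rootsOfUnity _ _).mp p.2.2, one_mul]
      exact (y p.1).2⟩
  apply Finite.of_surjective f
  intro x
  obtain ⟨c, hc⟩ := (implExt N ρ hρ hsurj).exists_of_same (y (implπ N ρ x) : implGroup N ρ)
    (x : implGroup N ρ) (hy _).1
  have hc' : (x : implGroup N ρ) = implι N ρ c * (y (implπ N ρ x) : implGroup N ρ) := hc
  have hcpow : c ^ (k * m) = 1 := by
    have h1 := congrArg (detM N ρ m) hc'
    rw [map_mul, detM_ι, (MonoidHom.mem_ker.mp x.2), (MonoidHom.mem_ker.mp (y _).2), mul_one] at h1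
    exact h1.symm
  refine ⟨(implπ N ρ x, ⟨c, (mem_rootsOfUnity _ _).mpr hcpow⟩), ?_⟩
  apply Subtype.ext
  exact hc'.symm

/-- The lift of `N` to the kernel of the determinant power. -/
noncomputable def hatM {m : ℕ} (hm : Nat.card N ∣ m) : N →* (detM N ρ m).ker :=
  (implHat N ρ).codRestrict _ (fun n => MonoidHom.mem_ker.mpr (detM_hat N ρ hm n))

theorem hatM_coe {m : ℕ} (hm : Nat.card N ∣ m) (n : N) :
    ((hatM N ρ hm n : (detM N ρ m).ker) : implGroup N ρ) = implHat N ρ n := rfl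

/-- The projection of the kernel of the determinant power to `G`. -/
noncomputable def piM : (detM N ρ m).ker →* G := (implπ N ρ).comp (detM N ρ m).ker.subtype

theorem piM_hatM {m : ℕ} (hm : Nat.card N ∣ m) (n : N) : piM N ρ m (hatM N ρ hm n) = n := rfl

/-- The tautological representation of the kernel of the determinant power. -/
noncomputable def repM : Representation ℂ (detM N ρ m).ker (Fin k → ℂ) :=
  (Units.coeHom (Module.End ℂ (Fin k → ℂ))).comp ((implRep N ρ).comp (detM N ρ m).ker.subtype)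

theorem repM_hatM {m : ℕ} (hm : Nat.card N ∣ m) (n : N) : repM N ρ m (hatM N ρ hm n) = ρ n := rfl

/-- The range of the lift of `N` is normal. -/
theorem range_hatM_normal {m : ℕ} (hm : Nat.card N ∣ m) : (hatM N ρ hm).range.Normal := by
  constructor
  rintro _ ⟨n, rfl⟩ x
  have hex : (x : implGroup N ρ) * implHat N ρ n * (x : implGroup N ρ)⁻¹ =
      implHat N ρ (conjAut N hN (implπ N ρ x) n) := by
    apply Subtype.ext
    apply Prod.ext
    · rfl
    · apply Units.ext
      have hmem := (x : implGroup N ρ).2 n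
      show ((x : implGroup N ρ) : G × (Module.End ℂ (Fin k → ℂ))ˣ).2.val * ρ n *
        (((x : implGroup N ρ) : G × (Module.End ℂ (Fin k → ℂ))ˣ).2⁻¹).val =
          ρ (conjAut N hN (implπ N ρ x) n)
      have h1 : (((x : implGroup N ρ) : G × (Module.End ℂ (Fin k → ℂ))ˣ).2 :
          Module.End ℂ (Fin k → ℂ)) * ρ n =
          ρ (conjAut N hN (implπ N ρ x) n) *
            (((x : implGroup N ρ) : G × (Module.End ℂ (Fin k → ℂ))ˣ).2 :
              Module.End ℂ (Fin k → ℂ)) := hmem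
      rw [h1, mul_assoc, Units.mul_inv, mul_one]
  refine ⟨conjAut N hN (implπ N ρ x) n, ?_⟩
  apply Subtype.ext
  rw [hatM_coe]
  exact hex.symm

include hρ hsurj in
/-- The kernel of the projection is central. -/
theorem kerM_central (y : (detM N ρ m).ker) (h : piM N ρ m y = 1) (w : (detM N ρ m).ker) :
    y * w = w * y := by
  obtain ⟨c, hc⟩ := (implExt N ρ hρ hsurj).ker (y : implGroup N ρ) h
  have hc' : (y : implGroup N ρ) = implι N ρ c := hc.symm
  apply Subtype.ext
  push_cast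
  rw [hc']
  exact (implExt N ρ hρ hsurj).central c (w : implGroup N ρ)

include hρ hsurj in
/-- The kernel of the projection acts by scalars. -/
theorem kerM_scalar (y : (detM N ρ m).ker) (h : piM N ρ m y = 1) :
    ∃ c : ℂ, repM N ρ m y = c • 1 := by
  obtain ⟨c, hc⟩ := (implExt N ρ hρ hsurj).ker (y : implGroup N ρ) h
  have hc' : implι N ρ c = (y : implGroup N ρ) := hc
  refine ⟨(c : ℂ), ?_⟩
  show (((y : implGroup N ρ) : G × (Module.End ℂ (Fin k → ℂ))ˣ).2 : Module.End ℂ (Fin k → ℂ)) = _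
  rw [← hc']
  exact scalarUnit_val c

/-- The kernel of the projection acts faithfully. -/
theorem kerM_faithful (y : (detM N ρ m).ker) (h : piM N ρ m y = 1) (h1 : repM N ρ m y = 1) : y = 1 := by
  apply Subtype.ext
  apply Subtype.ext
  apply Prod.ext
  · exact h
  · apply Units.ext
    exact h1

/-- Roots of unity of the right order are realized. -/
theorem kerM_all (c : ℂ) (hc : c ^ (k * m) = 1) (hkm : 0 < k * m) :
    ∃ y : (detM N ρ m).ker, piM N ρ m y = 1 ∧ repM N ρ m y = c • 1 := by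
  have hc0 : c ≠ 0 := by
    rintro rfl
    rw [zero_pow hkm.ne'] at hc
    exact zero_ne_one hc
  let u : ℂˣ := Units.mk0 c hc0
  refine ⟨⟨implι N ρ u, ?_⟩, rfl, ?_⟩
  · rw [MonoidHom.mem_ker, detM_ι]
    apply Units.ext
    simpa [u] using hc
  · exact scalarUnit_val u

end Concrete

/-- **The concrete central extension.** -/
theorem exists_ext_M {G : Type u} [Group G] [Finite G] (N : Subgroup G) [hN : N.Normal] {k : ℕ}
    (ρ : Representation ℂ N (Fin k → ℂ)) (hρ : ρ.IsIrreducible) (hk : 0 < k)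
    (hinv : ∀ (g : G) (n : N), ρ.character ⟨g * n * g⁻¹, hN.conj_mem (n : G) n.2 g⟩ = ρ.character n) :
    ∃ (Γ : Type u) (_ : Group Γ) (_ : Finite Γ) (π : Γ →* G) (hat : N →* Γ)
      (R : Representation ℂ Γ (Fin k → ℂ)), (∀ n, π (hat n) = n) ∧
      (∀ n, R (hat n) = ρ n) ∧ hat.range.Normal ∧
      (∀ y, π y = 1 → ∀ w, y * w = w * y) ∧ (∀ y, π y = 1 → ∃ c : ℂ, R y = c • 1) ∧
      (∀ y, π y = 1 → R y = 1 → y = 1) ∧
      (∀ c : ℂ, c ^ (k * (Nat.card G * Nat.card N)) = 1 → ∃ y, π y = 1 ∧ R y = c • 1) ∧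
      (∀ g : G, ∃ y, π y = g ∧ y ^ (Nat.card G * k) = 1) := by
  have hsurj := exists_impl N ρ hinv
  let m := Nat.card G * Nat.card N
  have hm : Nat.card N ∣ m := Dvd.intro_left _ rfl
  have hkm : 0 < k * m := Nat.mul_pos hk (Nat.mul_pos Nat.card_pos Nat.card_pos)
  haveI := finite_kerM N ρ hρ hsurj hkm
  exact ⟨(detM N ρ m).ker, inferInstance, inferInstance, piM N ρ m, hatM N ρ hm, repM N ρ m,
    piM_hatM N ρ hm, repM_hatM N ρ hm, range_hatM_normal N ρ hm, kerM_central N ρ m hρ hsurj,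
    kerM_scalar N ρ m hρ hsurj, kerM_faithful N ρ m, fun c hc => kerM_all N ρ m c hc hkm,
    fun g => exists_lift_pow N ρ hρ hsurj hk g m⟩

section Main

variable {G : Type u} [Group G] [Fintype G] {p : ℕ} [hp : Fact p.Prime]
  {M : Ideal AlgInt} (hM : IsPModular p M) {N : Subgroup G} [hN : N.Normal] [Fintype N] {k : ℕ}
  (hk : 0 < k)
  {ρ : Representation ℂ N (Fin k → ℂ)} (hρ : ρ.IsIrreducible)
  (hθ : (⟨ρ.character, ⟨k, ρ, hρ, rfl⟩⟩ : IrrCharacter N) ∈ principalBlock M N)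
  {W : Subgroup G} {P₀ : Subgroup N} (hP₀ : ¬ p ∣ P₀.index)
  (hWP : ∀ w ∈ W, ∀ u ∈ P₀, w * (u : G) = u * w)
  (hWp : ¬ p ∣ Nat.card W) (hNW : ∀ g : G, ∃ n ∈ N, ∃ w ∈ W, g = n * w)

include hM hθ hP₀ hWP hNW in
/-- Characters in the principal block are invariant. -/
theorem invariant_all (g : G) (s : N) :
    ρ.character ⟨g * s * g⁻¹, hN.conj_mem (s : G) s.2 g⟩ = ρ.character s := by
  obtain ⟨n, hn, w, hw, rfl⟩ := hNW g
  have hcomm : ∀ w ∈ W, ¬ p ∣ (Cl N.subtype w).card := by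
    intro w hw
    refine not_dvd_card_Cl N.subtype P₀ hP₀ fun u hu => ?_
    exact (hWP w hw u hu).symm
  have h1 := invariant_of_principal N hM ρ hρ hθ w (hcomm w hw) (hcomm w⁻¹ (W.inv_mem hw)) s
  have h2 := isClassFunction_of_isCharacter (isCharacter_of_rep' ρ)
    (⟨w * s * w⁻¹, hN.conj_mem (s : G) s.2 w⟩ : N) (⟨n, hn⟩ : N)
  rw [← h1, ← h2]
  congr 1
  apply Subtype.ext
  simp only [Subgroup.coe_mul, Subgroup.coe_inv]
  group

include hM hk hθ hP₀ hWP hWp hNW in
/-- **The good extension of a character in the principal block.** -/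
theorem exists_extension : ∃ R₁ : Representation ℂ G (Fin k → ℂ), (∀ n : N, R₁ n = ρ n) ∧
    ∀ w ∈ W, MemLocalIdeal M (R₁.character w / k - 1) := by
  obtain ⟨Γ, _, _, π, hat, R, hπhat, hRhat, hA, hc, hs, hf, hscal, hlift⟩ :=
    exists_ext_M N ρ hρ hk (invariant_all hM hρ hθ hP₀ hWP hNW)
  letI : Fintype Γ := Fintype.ofFinite _
  exact section_of_ext hM hk hρ hθ hπhat hRhat hA hP₀ hWP hc hs hf
    (Nat.mul_pos Nat.card_pos hk) ⟨Nat.card N, by ring⟩ hscal hlift hWp hNW

end Main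

end Cfsg.Agent.Lib.AlperinDade4
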