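import Mathlib
import Cfsg.Agent.Lib.PGrp
import Cfsg.Agent.Lib.PSolv
import Cfsg.Agent.Lib.Kegel
import Cfsg.Agent.S3780

/-!
# Fixed points of an automorphism on sections

* `Fx β`: the fixed point subgroup of `β`;
* `card_Fx_quot_le`: in a `p`-group, `|C_{Y/B}(β)| ≤ |C_Y(β)|`;
* `card_Fx_quot_coprime`: the same when `β ^ p = 1` and `|B|` is prime to `p`;
* `card_le_of_fix`: an abelian `p`-group with exponent `p ^ E` and an automorphism of order dividing `p` with at most `p ^ n`
  fixed points has order at most `p ^ (E * (p * n))`.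
-/

set_option autoImplicit false
set_option linter.unusedSectionVars false
set_option linter.unusedVariables false
set_option linter.style.haveILetI false

namespace Cfsg.Agent.Lib.AlperinFix

open Cfsg.Agent.Lib.Kegel
open scoped commutatorElement

variable {Y : Type*} [Group Y]

/-- The fixed point subgroup. -/
def Fx (β : MulAut Y) : Subgroup Y where
  carrier := {g | β g = g}
  one_mem' := map_one β
  mul_mem' := by
    intro a b ha hb
    show β (a * b) = a * b
    rw [map_mul, show β a = a from ha, show β b = b from hb]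
  inv_mem' := by
    intro a ha
    show β a⁻¹ = a⁻¹
    rw [map_inv, show β a = a from ha]

theorem mem_Fx {β : MulAut Y} {g : Y} : g ∈ Fx β ↔ β g = g := Iff.rfl

/-- The preimage of the fixed points of `β` in `Y / M`. -/
def SS (β : MulAut Y) (M : Subgroup Y) [hM : M.Normal] : Subgroup Y where
  carrier := {g | g⁻¹ * β g ∈ M}
  one_mem' := by simp [M.one_mem]
  mul_mem' := by
    intro a b ha hb
    have ha' : a⁻¹ * β a ∈ M := ha
    have hb' : b⁻¹ * β b ∈ M := hb
    have e : (a * b)⁻¹ * β (a * b) = (b⁻¹ * (a⁻¹ * β a) * b⁻¹⁻¹) * (b⁻¹ * β b) := by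
      simp [mul_assoc]
    show (a * b)⁻¹ * β (a * b) ∈ M
    rw [e]
    exact M.mul_mem (hM.conj_mem _ ha' _) hb'
  inv_mem' := by
    intro a ha
    have ha' : a⁻¹ * β a ∈ M := ha
    have e : a⁻¹⁻¹ * β a⁻¹ = a * (a⁻¹ * β a)⁻¹ * a⁻¹ := by
      simp [mul_assoc]
    show a⁻¹⁻¹ * β a⁻¹ ∈ M
    rw [e]
    exact hM.conj_mem _ (M.inv_mem ha') _

theorem mem_SS {β : MulAut Y} {M : Subgroup Y} [M.Normal] {g : Y} : g ∈ SS β M ↔ g⁻¹ * β g ∈ M := Iff.rfl

theorem SS_bot (β : MulAut Y) : SS β (⊥ : Subgroup Y) = Fx β := by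
  ext g
  rw [mem_SS, mem_Fx, Subgroup.mem_bot, inv_mul_eq_one, eq_comm]

/-- One central step. -/
theorem card_SS_step [Finite Y] (β : MulAut Y) (M M' : Subgroup Y) [hM : M.Normal] [hM' : M'.Normal] (hle : M ≤ M')
    (hc : ∀ z ∈ M', ∀ y : Y, ⁅z, y⁆ ∈ M) :
    Nat.card (SS β M') * Nat.card M ≤ Nat.card (SS β M) * Nat.card M' := by
  classical
  -- the homomorphism `g ↦ g⁻¹ β(g) M`
  have hmk : ∀ z ∈ M', ∀ h : Y, ((h⁻¹ * z * h⁻¹⁻¹ : Y) : Y ⧸ M) = (z : Y ⧸ M) := by
    intro z hz h
    rw [QuotientGroup.eq]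
    have e : (h⁻¹ * z * h⁻¹⁻¹)⁻¹ * z = z⁻¹ * ⁅z, h⁻¹⁆ * z⁻¹⁻¹ := by
      simp [commutatorElement_def, mul_assoc]
    rw [e]
    exact hM.conj_mem _ (hc z hz h⁻¹) _
  let δ : SS β M' →* Y ⧸ M :=
    { toFun := fun g => (((g : Y)⁻¹ * β g : Y) : Y ⧸ M)
      map_one' := by simp
      map_mul' := by
        rintro ⟨a, ha⟩ ⟨b, hb⟩
        have ha' : a⁻¹ * β a ∈ M' := ha
        have e : (a * b)⁻¹ * β (a * b) = (b⁻¹ * (a⁻¹ * β a) * b⁻¹⁻¹) * (b⁻¹ * β b) := by
          simp [mul_assoc]
        show (((a * b)⁻¹ * β (a * b) : Y) : Y ⧸ M) = ((a⁻¹ * β a : Y) : Y ⧸ M) * ((b⁻¹ * β b : Y) : Y ⧸ M)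
        rw [e, QuotientGroup.mk_mul, hmk _ ha'] }
  have hrange : δ.range ≤ M'.map (QuotientGroup.mk' M) := by
    rintro _ ⟨⟨a, ha⟩, rfl⟩
    exact ⟨_, ha, rfl⟩
  have hcard : Nat.card δ.range ≤ Nat.card (M'.map (QuotientGroup.mk' M)) :=
    Subgroup.card_le_of_le hrange
  have hmapcard : Nat.card (M'.map (QuotientGroup.mk' M)) * Nat.card M = Nat.card M' := by
    have h1 := Cfsg.Agent.Lib.PSolv.card_comap_of_surjective (QuotientGroup.mk' M) (QuotientGroup.mk'_surjective M)
      (M'.map (QuotientGroup.mk' M))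
    rw [QuotientGroup.ker_mk', Subgroup.comap_map_eq, QuotientGroup.ker_mk', sup_eq_left.2 hle] at h1
    exact h1.symm
  have hker : Nat.card δ.ker = Nat.card (SS β M) := by
    refine Nat.card_congr ?_
    refine
      { toFun := fun g => ⟨g.1.1, ?_⟩
        invFun := fun g => ⟨⟨g.1, ?_⟩, ?_⟩
        left_inv := ?_
        right_inv := ?_ }
    · have h1 : δ g.1 = 1 := g.2
      have h2 : (((g.1.1)⁻¹ * β g.1.1 : Y) : Y ⧸ M) = 1 := h1
      show (g.1.1)⁻¹ * β g.1.1 ∈ M
      exact (QuotientGroup.eq_one_iff _).1 h2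
    · exact hle g.2
    · show (((g.1)⁻¹ * β g.1 : Y) : Y ⧸ M) = 1
      exact (QuotientGroup.eq_one_iff _).2 g.2
    · intro g
      rfl
    · intro g
      rfl
  have hmul : Nat.card (SS β M') = Nat.card δ.ker * Nat.card δ.range := by
    have h1 := Subgroup.card_mul_index δ.ker
    rw [Subgroup.index_ker] at h1
    exact h1.symm
  rw [hmul, hker]
  calc Nat.card (SS β M) * Nat.card δ.range * Nat.card M
      ≤ Nat.card (SS β M) * Nat.card (M'.map (QuotientGroup.mk' M)) * Nat.card M := by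
        gcongr
    _ = Nat.card (SS β M) * Nat.card M' := by rw [mul_assoc, hmapcard]

/-- The chain. -/
theorem card_SS_le [Finite Y] {p : ℕ} [Fact p.Prime] (hY : IsPGroup p Y) (β : MulAut Y) (N : Subgroup Y) [hN : N.Normal] :
    ∀ (M : Subgroup Y) [M.Normal], M ≤ N → Nat.card (SS β N) * Nat.card M ≤ Nat.card (SS β M) * Nat.card N := by
  classical
  suffices h : ∀ (k : ℕ) (M : Subgroup Y) [M.Normal], M ≤ N → Nat.card N - Nat.card M = k →
      Nat.card (SS β N) * Nat.card M ≤ Nat.card (SS β M) * Nat.card N from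
    fun M _ hM => h _ M hM rfl
  intro k
  induction k using Nat.strong_induction_on with
  | _ k ih =>
    intro M hMn hle hk
    by_cases hMN : M = N
    · subst hMN
      exact le_rfl
    have hlt : M < N := lt_of_le_of_ne hle hMN
    -- the next step
    let M' : Subgroup Y := N ⊓ (Subgroup.center (Y ⧸ M)).comap (QuotientGroup.mk' M)
    have hM'n : M'.Normal := by
      have h1 : ((Subgroup.center (Y ⧸ M)).comap (QuotientGroup.mk' M)).Normal :=
        Subgroup.Normal.comap inferInstance _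
      exact Subgroup.normal_inf_normal _ _
    have hMM' : M ≤ M' := by
      refine le_inf hle ?_
      intro x hx
      rw [Subgroup.mem_comap, QuotientGroup.mk'_apply, (QuotientGroup.eq_one_iff x).2 hx]
      exact Subgroup.one_mem _
    have hM'N : M' ≤ N := inf_le_left
    have hc : ∀ z ∈ M', ∀ y : Y, ⁅z, y⁆ ∈ M := by
      intro z hz y
      have hz2 : (z : Y ⧸ M) ∈ Subgroup.center (Y ⧸ M) := hz.2
      rw [← QuotientGroup.eq_one_iff, commutatorElement_def]
      simp only [QuotientGroup.mk_mul, QuotientGroup.mk_inv]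
      rw [(Subgroup.mem_center_iff.1 hz2 (y : Y ⧸ M)).symm]
      group
    have hstrict : M < M' := by
      obtain ⟨y, hy, hya, hyc⟩ := Cfsg.Agent.Lib.PGrp.exists_central_mod hY M N hlt
      refine lt_of_le_of_ne hMM' ?_
      intro h
      apply hya
      rw [h]
      refine ⟨hy, ?_⟩
      show (QuotientGroup.mk' M y) ∈ Subgroup.center (Y ⧸ M)
      rw [Subgroup.mem_center_iff]
      intro g
      induction g using QuotientGroup.induction_on with
      | H g =>
        have h1 := (QuotientGroup.eq_one_iff _).2 (hyc g)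
        rw [commutatorElement_def] at h1
        simp only [QuotientGroup.mk_mul, QuotientGroup.mk_inv] at h1
        simp only [QuotientGroup.mk'_apply]
        have h2 : ((y : Y ⧸ M) * (g : Y ⧸ M)) * ((y : Y ⧸ M)⁻¹ * (g : Y ⧸ M)⁻¹) = 1 := by
          rw [← h1]
          group
        have h3 : (y : Y ⧸ M) * (g : Y ⧸ M) = (g : Y ⧸ M) * (y : Y ⧸ M) := by
          have := eq_inv_of_mul_eq_one_left h2
          simp only [mul_inv_rev, inv_inv] at this
          exact this
        exact h3.symm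
    have hcardlt : Nat.card M < Nat.card M' :=
      lt_of_not_ge fun h => hstrict.ne (Subgroup.eq_of_le_of_card_ge hstrict.le h)
    have hcardle : Nat.card M' ≤ Nat.card N := Subgroup.card_le_of_le hM'N
    have h1 := ih (Nat.card N - Nat.card M') (by omega) M' hM'N rfl
    have h2 := card_SS_step β M M' hMM' hc
    have hpos : 0 < Nat.card M' := Nat.card_pos
    refine Nat.le_of_mul_le_mul_right ?_ hpos
    calc Nat.card (SS β N) * Nat.card M * Nat.card M'
        = (Nat.card (SS β N) * Nat.card M') * Nat.card M := by ring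
      _ ≤ (Nat.card (SS β M') * Nat.card N) * Nat.card M := by gcongr
      _ = (Nat.card (SS β M') * Nat.card M) * Nat.card N := by ring
      _ ≤ (Nat.card (SS β M) * Nat.card M') * Nat.card N := by gcongr
      _ = Nat.card (SS β M) * Nat.card N * Nat.card M' := by ring

theorem comap_Fx_quot (β : MulAut Y) [Finite Y] (B : Subgroup Y) [B.Normal] (hB : ∀ x ∈ B, β x ∈ B) :
    (Fx (quot β B hB)).comap (QuotientGroup.mk' B) = SS β B := by
  ext g
  rw [Subgroup.mem_comap, mem_Fx, mem_SS, QuotientGroup.mk'_apply, quot_mk, eq_comm, QuotientGroup.eq]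

/-- **Fixed points on quotients of `p`-groups.** -/
theorem card_Fx_quot_le [Finite Y] {p : ℕ} [Fact p.Prime] (hY : IsPGroup p Y) (β : MulAut Y) (B : Subgroup Y) [hB' : B.Normal]
    (hB : ∀ x ∈ B, β x ∈ B) : Nat.card (Fx (quot β B hB)) ≤ Nat.card (Fx β) := by
  have h1 := card_SS_le hY β B (⊥ : Subgroup Y) bot_le
  rw [SS_bot, Subgroup.card_bot, mul_one] at h1
  have h2 := Cfsg.Agent.Lib.PSolv.card_comap_of_surjective (QuotientGroup.mk' B) (QuotientGroup.mk'_surjective B)
    (Fx (quot β B hB))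
  rw [comap_Fx_quot, QuotientGroup.ker_mk'] at h2
  rw [h2] at h1
  exact Nat.le_of_mul_le_mul_right h1 Nat.card_pos

/-- Fixed points on coprime quotients. -/
theorem card_Fx_quot_coprime [Finite Y] {p : ℕ} [hp : Fact p.Prime] (β : MulAut Y) (hβ : β ^ p = 1) (B : Subgroup Y)
    [hB' : B.Normal] (hB : ∀ x ∈ B, β x ∈ B) (hcop : Nat.Coprime (Nat.card B) p) :
    Nat.card (Fx (quot β B hB)) ≤ Nat.card (Fx β) := by
  classical
  haveI : Fintype B := Fintype.ofFinite B
  let F : Fx β → Fx (quot β B hB) := fun x => ⟨(x.1 : Y ⧸ B), by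
    rw [mem_Fx, quot_mk, show β x.1 = x.1 from x.2]⟩
  refine Nat.card_le_card_of_surjective F ?_
  rintro ⟨x, hx⟩
  obtain ⟨g, rfl⟩ := QuotientGroup.mk_surjective x
  have hg : g⁻¹ * β g ∈ B := by
    have h1 : g ∈ (Fx (quot β B hB)).comap (QuotientGroup.mk' B) := hx
    rw [comap_Fx_quot] at h1
    exact h1
  -- the permutation of `B` induced by `β` on the coset `g B`
  let τ : B → B := fun u => ⟨g⁻¹ * β (g * u), by
    have e : g⁻¹ * β (g * u) = (g⁻¹ * β g) * β u := by simp [mul_assoc]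
    rw [e]
    exact B.mul_mem hg (hB _ u.2)⟩
  have hτ : ∀ (i : ℕ) (u : B), ((τ^[i] u : B) : Y) = g⁻¹ * (β ^ i) (g * u) := by
    intro i u
    induction i with
    | zero => simp
    | succ i ih =>
      rw [Function.iterate_succ_apply']
      show g⁻¹ * β (g * ((τ^[i] u : B) : Y)) = _
      rw [ih, pow_succ', MulAut.mul_apply]
      simp
  let f : Function.End B := τ
  have hf : f ^ p ^ 1 = 1 := by
    rw [pow_one]
    funext u
    have h1 : ∀ i : ℕ, (f ^ i : Function.End B) = τ^[i] := by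
      intro i
      induction i with
      | zero => rfl
      | succ i ih =>
        rw [pow_succ', ih, Function.iterate_succ']
        rfl
    rw [h1]
    apply Subtype.ext
    rw [hτ, hβ]
    simp
    rfl
  have h1 := Equiv.Perm.card_fixedPoints_modEq hf
  -- there is a fixed point
  have hne : (Function.fixedPoints f).Nonempty := by
    by_contra hemp
    have h2 : Fintype.card (Function.fixedPoints f) = 0 := by
      rw [Fintype.card_eq_zero_iff]
      exact ⟨fun x => hemp ⟨x.1, x.2⟩⟩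
    rw [h2] at h1
    have h3 : p ∣ Fintype.card B := (Nat.modEq_zero_iff_dvd).1 h1
    rw [← Nat.card_eq_fintype_card] at h3
    have h4 : p ∣ Nat.gcd (Nat.card B) p := Nat.dvd_gcd h3 dvd_rfl
    rw [hcop] at h4
    exact hp.out.one_lt.ne' (Nat.dvd_one.1 h4)
  obtain ⟨u, hu⟩ := hne
  have hu1 : g⁻¹ * β (g * u) = u := congrArg Subtype.val hu
  have hu2 : β (g * u) = g * u := inv_mul_eq_iff_eq_mul.1 hu1
  refine ⟨⟨g * u, hu2⟩, ?_⟩
  apply Subtype.ext
  show ((g * u : Y) : Y ⧸ B) = (g : Y ⧸ B)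
  rw [QuotientGroup.mk_mul, (QuotientGroup.eq_one_iff (u : Y)).2 u.2, mul_one]

/-- Fixed points in invariant subgroups. -/
theorem card_Fx_restr_le [Finite Y] (β : MulAut Y) (N : Subgroup Y) (h : ∀ x ∈ N, β x ∈ N) :
    Nat.card (Fx (restr β N h)) ≤ Nat.card (Fx β) := by
  refine Nat.card_le_card_of_injective (fun x => (⟨x.1.1, by
    have h1 : restr β N h x.1 = x.1 := x.2
    exact congrArg Subtype.val h1⟩ : Fx β)) ?_
  intro a b hab
  have h1 : a.1.1 = b.1.1 := congrArg (fun t : Fx β => (t : Y)) hab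
  exact Subtype.ext (Subtype.ext h1)

theorem card_sup_le_mul {A : Type*} [CommGroup A] [Finite A] (H K : Subgroup A) :
    Nat.card ↥(H ⊔ K) ≤ Nat.card H * Nat.card K := by
  rw [← Nat.card_prod]
  refine Nat.card_le_card_of_surjective
    (fun x : H × K => (⟨x.1.1 * x.2.1, Subgroup.mul_mem_sup x.1.2 x.2.2⟩ : ↥(H ⊔ K))) ?_
  rintro ⟨x, hx⟩
  obtain ⟨y, hy, z, hz, rfl⟩ := Subgroup.mem_sup.1 hx
  exact ⟨(⟨y, hy⟩, ⟨z, hz⟩), rfl⟩

/-- A closure in an abelian group of bounded exponent. -/
theorem card_closure_le {A : Type*} [CommGroup A] [Finite A] (e : ℕ) (he : 0 < e) (hexp : ∀ a : A, a ^ e = 1)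
    (S : Finset A) : Nat.card (Subgroup.closure (S : Set A)) ≤ e ^ S.card := by
  classical
  induction S using Finset.induction_on with
  | empty => simp
  | insert s T hs ih =>
    rw [Finset.card_insert_of_notMem hs, Finset.coe_insert, Set.insert_eq, Subgroup.closure_union, pow_succ', ]
    refine (card_sup_le_mul _ _).trans (Nat.mul_le_mul ?_ ih)
    rw [← Subgroup.zpowers_eq_closure, Nat.card_zpowers]
    exact Nat.le_of_dvd he (orderOf_dvd_of_pow_eq_one (hexp s))

/-- Abelian `p`-groups with few fixed points and bounded exponent. -/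
theorem card_le_of_fix {A : Type*} [hG : Group A] [Finite A] (hcomm : ∀ a b : A, a * b = b * a) {p : ℕ} [hp : Fact p.Prime]
    (hA : IsPGroup p A) (β : MulAut A) (hβ : β ^ p = 1) (n E : ℕ) (hfix : Nat.card (Fx β) ≤ p ^ n)
    (hexp : ∀ a : A, a ^ p ^ E = 1) : Nat.card A ≤ p ^ (E * (p * n)) := by
  classical
  have hp1 := hp.out.one_lt
  rcases Nat.eq_zero_or_pos E with rfl | hE
  · have : Subsingleton A := ⟨fun a b => by
      have h1 := hexp a
      have h2 := hexp b
      simp only [pow_zero, pow_one] at h1 h2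
      rw [h1, h2]⟩
    simp [Nat.card_unique]
  have hdvd : orderOf β ∣ p := orderOf_dvd_of_pow_eq_one hβ
  rcases (Nat.dvd_prime hp.out).1 hdvd with h1 | h1
  · have hβ1 : β = 1 := orderOf_eq_one_iff.1 h1
    subst hβ1
    have h2 : Fx (1 : MulAut A) = ⊤ := by
      ext x
      simp [mem_Fx]
    rw [h2, Subgroup.card_top] at hfix
    refine hfix.trans (Nat.pow_le_pow_right hp.out.pos ?_)
    calc n = 1 * (1 * n) := by ring
      _ ≤ E * (p * n) := by gcongr <;> omega
  · -- the main case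
    have hFx : IsPGroup p (Fx β) := hA.to_subgroup _
    obtain ⟨j, hj⟩ := hFx.exists_card_eq
    have hjn : j ≤ n := by
      rw [hj] at hfix
      exact (Nat.pow_le_pow_iff_right hp1).1 hfix
    letI inst : CommGroup A := { hG with mul_comm := hcomm }
    obtain ⟨S, hS, hcl⟩ := Cfsg.Agent.S3780.result (V := A) (p := p) hA β h1 j hj
    have h2 := card_closure_le (p ^ E) (pow_pos hp.out.pos E) hexp S
    rw [hcl, Subgroup.card_top] at h2
    refine h2.trans ?_
    rw [← pow_mul]
    refine Nat.pow_le_pow_right hp.out.pos ?_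
    have : S.card ≤ p * n := hS.trans (Nat.mul_le_mul_left _ hjn)
    exact Nat.mul_le_mul_left _ this

end Cfsg.Agent.Lib.AlperinFix
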