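import Mathlib

/-!
# Kreknin and Higman–Kostrikin: `ℤ/p`-graded Lie rings with trivial zero component

A *graded family* of a Lie ring `L` is a function `F : ZMod p → AddSubgroup L`.  No directness of the sum of the
`F i` is ever needed.  Write `Br A B` for the graded bracket.

* `kreknin`: if `F` is closed under the bracket and `F 0 = ⊥`, the `(2^(p-1) - 1)`-st derived family of `F` is trivial;
* `higman`: for such `F`, `Dr^[n] F = ⊥` implies that the `∑_{i<n} (p-1)^i`-th term of the lower central series of `F`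
  is trivial.
-/

set_option autoImplicit false
set_option linter.unusedSectionVars false
set_option linter.unusedVariables false

namespace Cfsg.Agent.Lib.KKGraded

open scoped Pointwise

variable {L : Type*} [LieRing L] {p : ℕ}

/-- The graded bracket of two graded families. -/
def Br (A B : ZMod p → AddSubgroup L) : ZMod p → AddSubgroup L := fun k =>
  AddSubgroup.closure {z | ∃ i j x y, i + j = k ∧ x ∈ A i ∧ y ∈ B j ∧ ⁅x, y⁆ = z}

theorem mem_Br {A B : ZMod p → AddSubgroup L} {i j : ZMod p} {x y : L} (hx : x ∈ A i) (hy : y ∈ B j) :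
    ⁅x, y⁆ ∈ Br A B (i + j) :=
  AddSubgroup.subset_closure ⟨i, j, x, y, rfl, hx, hy, rfl⟩

theorem Br_le {A B C : ZMod p → AddSubgroup L}
    (h : ∀ i j x y, x ∈ A i → y ∈ B j → ⁅x, y⁆ ∈ C (i + j)) : Br A B ≤ C := by
  intro k
  refine (AddSubgroup.closure_le _).2 ?_
  rintro z ⟨i, j, x, y, rfl, hx, hy, rfl⟩
  exact h i j x y hx hy

theorem Br_mono {A A' B B' : ZMod p → AddSubgroup L} (h : A ≤ A') (h' : B ≤ B') : Br A B ≤ Br A' B' :=
  Br_le fun _ _ _ _ hx hy => mem_Br (h _ hx) (h' _ hy)

/-- Left induction: to bound a bracket with a member of `Br A B`. -/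
theorem lie_Br_left {A B C D : ZMod p → AddSubgroup L}
    (h : ∀ i j l x y z, x ∈ A i → y ∈ B j → z ∈ C l → ⁅⁅x, y⁆, z⁆ ∈ D (i + j + l)) :
    Br (Br A B) C ≤ D := by
  refine Br_le ?_
  intro k l x z hx hz
  induction hx using AddSubgroup.closure_induction with
  | mem x hx =>
    obtain ⟨i, j, a, b, rfl, ha, hb, rfl⟩ := hx
    exact h i j l a b z ha hb hz
  | zero => simp
  | add a b _ _ ha hb =>
    rw [add_lie]
    exact add_mem ha hb
  | neg a _ ha =>
    rw [neg_lie]
    exact neg_mem ha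

/-- A graded family closed under the bracket. -/
def Closed (F : ZMod p → AddSubgroup L) : Prop := Br F F ≤ F

theorem Closed.lie_mem {F : ZMod p → AddSubgroup L} (hF : Closed F) {i j : ZMod p} {x y : L}
    (hx : x ∈ F i) (hy : y ∈ F j) : ⁅x, y⁆ ∈ F (i + j) :=
  hF _ (mem_Br hx hy)

/-- The derived family. -/
def Dr (F : ZMod p → AddSubgroup L) : ZMod p → AddSubgroup L := Br F F

theorem Closed.dr_le {F : ZMod p → AddSubgroup L} (hF : Closed F) : Dr F ≤ F := hF

theorem Closed.dr {F : ZMod p → AddSubgroup L} (hF : Closed F) : Closed (Dr F) :=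
  Br_le fun _ _ _ _ hx hy => mem_Br (hF _ hx) (hF _ hy)

theorem iter_closed {F : ZMod p → AddSubgroup L} (hF : Closed F) (n : ℕ) : Closed (Dr^[n] F) := by
  induction n with
  | zero => exact hF
  | succ n ih =>
    rw [Function.iterate_succ_apply']
    exact ih.dr

theorem iter_le {F : ZMod p → AddSubgroup L} (hF : Closed F) (n : ℕ) : Dr^[n] F ≤ F := by
  induction n with
  | zero => exact le_rfl
  | succ n ih =>
    rw [Function.iterate_succ_apply']
    exact (iter_closed hF n).dr_le.trans ih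

section Kreknin

variable [hp : Fact p.Prime]

/-- The graded subring generated by the components of `F` of value larger than `K`. -/
def Gen (F : ZMod p → AddSubgroup L) (K : ℕ) : ZMod p → AddSubgroup L := fun j =>
  ⨅ (W : ZMod p → AddSubgroup L) (_ : Closed W) (_ : ∀ i : ZMod p, K < i.val → F i ≤ W i), W j

theorem Gen_le {F W : ZMod p → AddSubgroup L} {K : ℕ} (hW : Closed W)
    (h : ∀ i : ZMod p, K < i.val → F i ≤ W i) : Gen F K ≤ W := fun j =>
  iInf_le_of_le W (iInf_le_of_le hW (iInf_le_of_le h le_rfl))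

theorem le_Gen {F : ZMod p → AddSubgroup L} {K : ℕ} {i : ZMod p} (hi : K < i.val) : F i ≤ Gen F K i :=
  le_iInf fun _ => le_iInf fun _ => le_iInf fun h => h i hi

theorem Gen_closed (F : ZMod p → AddSubgroup L) (K : ℕ) : Closed (Gen F K) := by
  refine Br_le ?_
  intro i j x y hx hy
  refine AddSubgroup.mem_iInf.2 fun W => AddSubgroup.mem_iInf.2 fun hW => AddSubgroup.mem_iInf.2 fun h => ?_
  exact hW.lie_mem (Gen_le hW h _ hx) (Gen_le hW h _ hy)

/-- `val` arithmetic: if `val l > K` and `val (i + l) = K` then `val i > K`. -/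
theorem val_gt_of_add {i l : ZMod p} {K : ℕ} (hl : K < l.val) (h : (i + l).val = K) : K < i.val := by
  have h1 := ZMod.val_add i l
  have h2 := ZMod.val_lt l
  have h3 := ZMod.val_lt i
  rw [h] at h1
  by_contra hc
  push Not at hc
  have h4 : i.val + l.val < 2 * p := by omega
  by_cases h5 : i.val + l.val < p
  · rw [Nat.mod_eq_of_lt h5] at h1
    omega
  · have : (i.val + l.val) % p = i.val + l.val - p := by
      rw [Nat.mod_eq_sub_mod (by omega), Nat.mod_eq_of_lt (by omega)]
    omega

/-- The family used in the Kreknin step. -/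
def Yf (F : ZMod p → AddSubgroup L) (K : ℕ) : ZMod p → AddSubgroup L := fun i =>
  if i.val = K then Gen F K i else F i

theorem Gen_le_self {F : ZMod p → AddSubgroup L} (hF : Closed F) (K : ℕ) : Gen F K ≤ F :=
  Gen_le hF fun _ _ => le_rfl

theorem Yf_le {F : ZMod p → AddSubgroup L} (hF : Closed F) (K : ℕ) : Yf F K ≤ F := by
  intro i
  unfold Yf
  split_ifs
  · exact Gen_le_self hF K i
  · exact le_rfl

/-- The "operators" of degree `j` preserving `Yf`. -/
def Cf (F : ZMod p → AddSubgroup L) (K : ℕ) : ZMod p → AddSubgroup L := fun j =>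
  { carrier := {b | ∀ (i : ZMod p) (u : L), u ∈ Yf F K i → ⁅u, b⁆ ∈ Yf F K (i + j)}
    zero_mem' := by
      intro i u _
      simp
    add_mem' := by
      intro a b ha hb i u hu
      rw [lie_add]
      exact add_mem (ha i u hu) (hb i u hu)
    neg_mem' := by
      intro a ha i u hu
      rw [lie_neg]
      exact neg_mem (ha i u hu) }

theorem Cf_closed (F : ZMod p → AddSubgroup L) (K : ℕ) : Closed (Cf F K) := by
  refine Br_le ?_
  intro j l b c hb hc i u hu
  have e : ⁅u, ⁅b, c⁆⁆ = ⁅⁅u, b⁆, c⁆ - ⁅⁅u, c⁆, b⁆ := by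
    rw [leibniz_lie u b c]
    have : ⁅b, ⁅u, c⁆⁆ = -⁅⁅u, c⁆, b⁆ := by rw [lie_skew]
    rw [this]
    abel
  rw [e]
  have h1 := hc (i + j) _ (hb i u hu)
  have h2 := hb (i + l) _ (hc i u hu)
  have e1 : i + (j + l) = i + j + l := by ring
  have e2 : i + (j + l) = i + l + j := by ring
  refine sub_mem ?_ ?_
  · rw [e1]; exact h1
  · rw [e2]; exact h2

/-- The base case: generators of value `≥ K` preserve `Yf`. -/
theorem base_Cf {F : ZMod p → AddSubgroup L} (hF : Closed F) (hF0 : F 0 = ⊥) {K : ℕ} {l : ZMod p} (hl : K ≤ l.val)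
    {g : L} (hg : g ∈ F l) : g ∈ Cf F K l := by
  intro i u hu
  have huF := Yf_le hF K i hu
  have hmem := hF.lie_mem huF hg
  by_cases hv : (i + l).val = K
  · have hY : Yf F K (i + l) = Gen F K (i + l) := if_pos hv
    rw [hY]
    rcases hl.eq_or_lt with hl | hl
    · -- `val l = K`: then `i = 0`
      have e : i + l = l := ZMod.val_injective p (by omega)
      have hi : i = 0 := by simpa using e
      subst hi
      rw [hF0] at huF
      have : u = 0 := by simpa using huF
      subst this
      simp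
    · have hi := val_gt_of_add hl hv
      exact (Gen_closed F K).lie_mem (le_Gen hi huF) (le_Gen hl hg)
  · have hY : Yf F K (i + l) = F (i + l) := if_neg hv
    rw [hY]
    exact hmem

theorem Gen_le_Cf {F : ZMod p → AddSubgroup L} (hF : Closed F) (hF0 : F 0 = ⊥) (k : ℕ) :
    Gen F k ≤ Cf F (k + 1) :=
  Gen_le (Cf_closed F (k + 1)) fun _ hi _ hg => base_Cf hF hF0 (by omega) hg

/-- The key step of Kreknin's proof. -/
theorem step {F : ZMod p → AddSubgroup L} (hF : Closed F) (hF0 : F 0 = ⊥) (k : ℕ) {i j : ZMod p} {a b : L}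
    (ha : a ∈ F i) (hb : b ∈ Gen F k j) (hbF : b ∈ F j) (hval : (i + j).val = k + 1) :
    ⁅a, b⁆ ∈ Gen F (k + 1) (i + j) := by
  by_cases hi : i.val = k + 1
  · have e : i + j = i := ZMod.val_injective p (by omega)
    have hj : j = 0 := by simpa using e
    subst hj
    rw [hF0] at hbF
    have : b = 0 := by simpa using hbF
    subst this
    simp
  · have hY : a ∈ Yf F (k + 1) i := by
      have : Yf F (k + 1) i = F i := if_neg hi
      rw [this]
      exact ha
    have h := Gen_le_Cf hF hF0 k j hb i a hY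
    have hY' : Yf F (k + 1) (i + j) = Gen F (k + 1) (i + j) := if_pos hval
    rwa [hY'] at h

/-- **Kreknin's theorem**, inductive form. -/
theorem kreknin_aux (k : ℕ) : ∀ F : ZMod p → AddSubgroup L, Closed F → F 0 = ⊥ →
    Dr^[2 ^ k - 1] F ≤ Gen F k := by
  induction k with
  | zero =>
    intro F hF hF0 i
    simp only [pow_zero, Nat.sub_self, Function.iterate_zero, id_eq]
    by_cases hi : i = 0
    · subst hi
      rw [hF0]
      exact bot_le
    · refine le_Gen ?_
      exact Nat.pos_of_ne_zero (fun h => hi ((ZMod.val_eq_zero i).1 h))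
  | succ k ih =>
    intro F hF hF0
    have e : 2 ^ (k + 1) - 1 = (2 ^ k - 1) + (1 + (2 ^ k - 1)) := by
      have : 1 ≤ 2 ^ k := Nat.one_le_two_pow
      rw [pow_succ]
      omega
    rw [e, Function.iterate_add_apply, Function.iterate_add_apply]
    simp only [Function.iterate_one]
    set T := Dr^[2 ^ k - 1] F with hT
    have hTc : Closed T := iter_closed hF _
    have hTF : T ≤ F := iter_le hF _
    have hTG : T ≤ Gen F k := ih F hF hF0
    have hT'c : Closed (Dr T) := hTc.dr
    have hT'F : Dr T ≤ F := hTc.dr_le.trans hTF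
    have hT'0 : Dr T 0 = ⊥ := by
      refine le_bot_iff.1 ?_
      rw [← hF0]
      exact hT'F 0
    refine (ih (Dr T) hT'c hT'0).trans ?_
    refine Gen_le (Gen_closed F (k + 1)) ?_
    intro i hi
    by_cases hi2 : k + 1 < i.val
    · exact (hT'F i).trans (le_Gen hi2)
    · have hval : i.val = k + 1 := by omega
      refine (AddSubgroup.closure_le _).2 ?_
      rintro z ⟨i1, i2, x, y, rfl, hx, hy, rfl⟩
      exact step hF hF0 k (hTF _ hx) (hTG _ hy) (hTF _ hy) hval

/-- **Kreknin's theorem**. -/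
theorem kreknin {F : ZMod p → AddSubgroup L} (hF : Closed F) (hF0 : F 0 = ⊥) (j : ZMod p) :
    Dr^[2 ^ (p - 1) - 1] F j = ⊥ := by
  have h := kreknin_aux (p - 1) F hF hF0 j
  refine le_bot_iff.1 (h.trans ?_)
  have hW : Closed (fun _ : ZMod p => (⊥ : AddSubgroup L)) := by
    refine Br_le ?_
    intro i j x y hx hy
    have hx0 : x = 0 := by simpa using hx
    subst hx0
    simp
  refine Gen_le hW ?_ j
  intro i hi
  have := ZMod.val_lt i
  have := hp.out.pos
  omega

end Kreknin

section Higman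

/-- Word in a list of pairs (degree, element): the head of the list is the outermost bracket. -/
def wd (u : L) : List (ZMod p × L) → L
  | [] => u
  | y :: ys => ⁅wd u ys, y.2⁆

/-- Total degree. -/
def dg (ys : List (ZMod p × L)) : ZMod p := (ys.map Prod.fst).sum

@[simp] theorem wd_nil (u : L) : wd u ([] : List (ZMod p × L)) = u := rfl
@[simp] theorem wd_cons (u : L) (y : ZMod p × L) (ys : List (ZMod p × L)) : wd u (y :: ys) = ⁅wd u ys, y.2⁆ := rfl
@[simp] theorem dg_nil : dg ([] : List (ZMod p × L)) = 0 := rfl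
@[simp] theorem dg_cons (y : ZMod p × L) (ys : List (ZMod p × L)) : dg (y :: ys) = y.1 + dg ys := by
  simp [dg]

/-- A list of homogeneous elements of `F`. -/
def Hm (F : ZMod p → AddSubgroup L) (ys : List (ZMod p × L)) : Prop := ∀ y ∈ ys, y.2 ∈ F y.1

theorem mem_congr {A : ZMod p → AddSubgroup L} {i j : ZMod p} {x : L} (h : x ∈ A i) (e : i = j) : x ∈ A j := e ▸ h

theorem wd_mem {A F : ZMod p → AddSubgroup L} (hA : Br A F ≤ A) {i : ZMod p} {u : L} (hu : u ∈ A i)
    {ys : List (ZMod p × L)} (hys : Hm F ys) : wd u ys ∈ A (i + dg ys) := by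
  induction ys with
  | nil => simpa using hu
  | cons y ys ih =>
    have h1 := ih (fun z hz => hys z (List.mem_cons_of_mem _ hz))
    have h2 := hA _ (mem_Br h1 (hys y List.mem_cons_self))
    refine mem_congr h2 ?_
    simp only [dg_cons]
    ring

/-- Moving lemma: modulo `Br A H`, a new element may be moved to the innermost position. -/
theorem move {F A : ZMod p → AddSubgroup L} (hFc : Closed F) (hA : Br A F ≤ A)
    (hA' : Br (Br A (Br F F)) F ≤ Br A (Br F F)) {i d : ZMod p} {u y : L} (hu : u ∈ A i) (hy : y ∈ F d)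
    {ys : List (ZMod p × L)} (hys : Hm F ys) :
    wd ⁅u, y⁆ ys - ⁅wd u ys, y⁆ ∈ Br A (Br F F) (i + d + dg ys) := by
  induction ys with
  | nil => simp
  | cons z zs ih =>
    have hz : z.2 ∈ F z.1 := hys z List.mem_cons_self
    have hzs : Hm F zs := fun w hw => hys w (List.mem_cons_of_mem _ hw)
    have h1 := ih hzs
    set v := wd u zs with hv
    have hvA : v ∈ A (i + dg zs) := wd_mem hA hu hzs
    have h2 := hA' _ (mem_Br h1 hz)
    have h3 : ⁅v, ⁅y, z.2⁆⁆ ∈ Br A (Br F F) (i + dg zs + (d + z.1)) := mem_Br hvA (mem_Br hy hz)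
    have e : wd ⁅u, y⁆ (z :: zs) - ⁅wd u (z :: zs), y⁆
        = ⁅wd ⁅u, y⁆ zs - ⁅v, y⁆, z.2⁆ + ⁅v, ⁅y, z.2⁆⁆ := by
      simp only [wd_cons, sub_lie, ← hv]
      rw [leibniz_lie v y z.2]
      have : ⁅y, ⁅v, z.2⁆⁆ = -⁅⁅v, z.2⁆, y⁆ := by rw [lie_skew]
      rw [this]
      abel
    rw [e]
    refine add_mem (mem_congr h2 ?_) (mem_congr h3 ?_)
    · simp only [dg_cons]; ring
    · simp only [dg_cons]; ring

section SubsetSums

variable [hp : Fact p.Prime]

/-- Subset sums of a list of residues. -/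
def SS : List (ZMod p) → Finset (ZMod p)
  | [] => {0}
  | d :: ds => SS ds + ({0, d} : Finset (ZMod p))

theorem SS_nonempty (ds : List (ZMod p)) : (SS ds).Nonempty := by
  induction ds with
  | nil => exact Finset.singleton_nonempty _
  | cons d ds ih => exact ih.add (Finset.insert_nonempty _ _)

theorem SS_card (ds : List (ZMod p)) (h : ∀ d ∈ ds, d ≠ 0) : min p (ds.length + 1) ≤ (SS ds).card := by
  induction ds with
  | nil =>
    simp [SS]
  | cons d ds ih =>
    have hih := ih (fun e he => h e (List.mem_cons_of_mem _ he))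
    have hd : d ≠ 0 := h d List.mem_cons_self
    have h2 : ({0, d} : Finset (ZMod p)).card = 2 := Finset.card_pair (Ne.symm hd)
    have hcd := ZMod.cauchy_davenport hp.out (SS_nonempty ds) (Finset.insert_nonempty 0 {d})
    rw [h2] at hcd
    show min p (ds.length + 1 + 1) ≤ (SS ds + {0, d}).card
    refine le_trans ?_ hcd
    have hlen : (d :: ds).length = ds.length + 1 := rfl
    omega

theorem SS_full (ds : List (ZMod p)) (h : ∀ d ∈ ds, d ≠ 0) (hlen : ds.length = p - 1) (x : ZMod p) : x ∈ SS ds := by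
  have h1 := SS_card ds h
  have hp1 := hp.out.pos
  rw [hlen, Nat.sub_add_cancel hp1, min_self] at h1
  have : (SS ds).card = Fintype.card (ZMod p) := by
    rw [ZMod.card]
    exact le_antisymm (by simpa [ZMod.card] using Finset.card_le_univ (SS ds)) h1
  rw [Finset.card_eq_iff_eq_univ] at this
  rw [this]
  exact Finset.mem_univ _

/-- The main word lemma. -/
theorem word_mem {F A : ZMod p → AddSubgroup L} (hFc : Closed F) (hF0 : F 0 = ⊥) (hAF : A ≤ F) (hA : Br A F ≤ A)
    (hA' : Br (Br A (Br F F)) F ≤ Br A (Br F F)) {ys : List (ZMod p × L)} (hys : Hm F ys) :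
    ∀ {i : ZMod p} {u : L}, u ∈ A i → -i ∈ SS (ys.map Prod.fst) → wd u ys ∈ Br A (Br F F) (i + dg ys) := by
  induction ys with
  | nil =>
    intro i u hu hi
    have hi0 : i = 0 := by simpa [SS] using hi
    subst hi0
    have hu0 := hAF 0 hu
    rw [hF0] at hu0
    have : u = 0 := by simpa using hu0
    subst this
    simp
  | cons y ys ih =>
    intro i u hu hi
    have hy : y.2 ∈ F y.1 := hys y List.mem_cons_self
    have hzs : Hm F ys := fun w hw => hys w (List.mem_cons_of_mem _ hw)
    have hi' : -i ∈ SS (ys.map Prod.fst) + {0, y.1} := hi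
    obtain ⟨s, hs, t, ht, hst⟩ := Finset.mem_add.1 hi'
    simp only [Finset.mem_insert, Finset.mem_singleton] at ht
    rcases ht with rfl | rfl
    · rw [add_zero] at hst
      subst hst
      have h1 := ih hzs hu hs
      have h2 := hA' _ (mem_Br h1 hy)
      refine mem_congr h2 ?_
      simp only [dg_cons]
      ring
    · have hs' : -(i + y.1) ∈ SS (ys.map Prod.fst) := by
        have : s = -(i + y.1) := by
          have : s = -i - y.1 := by rw [← hst]; ring
          rw [this]; ring
        rwa [← this]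
      have h1 := ih hzs (hA _ (mem_Br hu hy)) hs'
      have h2 := move hFc hA hA' hu hy hzs
      have h3 := sub_mem h1 h2
      rw [sub_sub_cancel] at h3
      refine mem_congr h3 ?_
      simp only [dg_cons]
      ring

theorem wd_eq_zero {u : L} {ys : List (ZMod p × L)} {y : ZMod p × L} (hy : y ∈ ys) (h0 : y.2 = 0) : wd u ys = 0 := by
  induction ys with
  | nil => simp at hy
  | cons z zs ih =>
    rcases List.mem_cons.1 hy with rfl | h
    · simp [h0]
    · simp [ih h]

/-- Words of length `p - 1` in `F` map `A` into `[A, F']`. -/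
theorem word_mem' {F A : ZMod p → AddSubgroup L} (hFc : Closed F) (hF0 : F 0 = ⊥) (hAF : A ≤ F) (hA : Br A F ≤ A)
    (hA' : Br (Br A (Br F F)) F ≤ Br A (Br F F)) {ys : List (ZMod p × L)} (hys : Hm F ys) (hlen : ys.length = p - 1)
    {i : ZMod p} {u : L} (hu : u ∈ A i) : wd u ys ∈ Br A (Br F F) (i + dg ys) := by
  by_cases hall : ∀ y ∈ ys, y.1 ≠ 0
  · refine word_mem hFc hF0 hAF hA hA' hys hu (SS_full _ ?_ (by simpa using hlen) _)
    intro d hd
    obtain ⟨y, hy, rfl⟩ := List.mem_map.1 hd
    exact hall y hy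
  · push Not at hall
    obtain ⟨y, hy, h0⟩ := hall
    have h1 := hys y hy
    rw [h0, hF0] at h1
    have h2 : y.2 = 0 := by simpa using h1
    rw [wd_eq_zero hy h2]
    exact zero_mem _

end SubsetSums

/-- Right multiplication by `F`. -/
def Rt (F A : ZMod p → AddSubgroup L) : ZMod p → AddSubgroup L := Br A F

theorem Rt_mono (F : ZMod p → AddSubgroup L) {A B : ZMod p → AddSubgroup L} (h : A ≤ B) : Rt F A ≤ Rt F B :=
  Br_mono h le_rfl

theorem Rt_iter_mono (F : ZMod p → AddSubgroup L) (m : ℕ) {A B : ZMod p → AddSubgroup L} (h : A ≤ B) :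
    (Rt F)^[m] A ≤ (Rt F)^[m] B := by
  induction m with
  | zero => exact h
  | succ m ih =>
    rw [Function.iterate_succ_apply', Function.iterate_succ_apply']
    exact Rt_mono F ih

/-- Words control the iterated right multiplication. -/
theorem Rt_iter_le (F A : ZMod p → AddSubgroup L) (m : ℕ) : ∀ C : ZMod p → AddSubgroup L,
    (∀ (i : ZMod p) (u : L) (ys : List (ZMod p × L)), u ∈ A i → Hm F ys → ys.length = m → wd u ys ∈ C (i + dg ys)) →
    (Rt F)^[m] A ≤ C := by
  induction m with
  | zero =>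
    intro C h i u hu
    simpa using h i u [] hu (by simp [Hm]) rfl
  | succ m ih =>
    intro C h
    rw [Function.iterate_succ_apply']
    let C' : ZMod p → AddSubgroup L := fun k =>
      { carrier := {z | ∀ (d : ZMod p) (y : L), y ∈ F d → ⁅z, y⁆ ∈ C (k + d)}
        zero_mem' := by intro d y _; simp
        add_mem' := by
          intro a b ha hb d y hy
          rw [add_lie]
          exact add_mem (ha d y hy) (hb d y hy)
        neg_mem' := by
          intro a ha d y hy
          rw [neg_lie]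
          exact neg_mem (ha d y hy) }
    have h1 : (Rt F)^[m] A ≤ C' := by
      refine ih C' ?_
      intro i u ys hu hys hlen d y hy
      have h2 := h i u ((d, y) :: ys) hu (by
        intro z hz
        rcases List.mem_cons.1 hz with rfl | hz
        · exact hy
        · exact hys z hz) (by simp [hlen])
      refine mem_congr h2 ?_
      simp only [dg_cons]
      ring
    refine Br_le ?_
    intro i j x y hx hy
    exact h1 i hx j y hy

/-- The lower central series of a graded family: `Lc F n = [F, F, …, F]` (`n` brackets). -/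
def Lc (F : ZMod p → AddSubgroup L) (n : ℕ) : ZMod p → AddSubgroup L := (Rt F)^[n] F

theorem Lc_zero (F : ZMod p → AddSubgroup L) : Lc F 0 = F := rfl

theorem Lc_succ (F : ZMod p → AddSubgroup L) (n : ℕ) : Lc F (n + 1) = Br (Lc F n) F := by
  unfold Lc
  rw [Function.iterate_succ_apply']
  rfl

/-- Properties of the lower central series of `H = [F, F]` with respect to `F`. -/
theorem Lc_props {F : ZMod p → AddSubgroup L} (hFc : Closed F) (j : ℕ) :
    Lc (Br F F) j ≤ F ∧ Br (Lc (Br F F) j) F ≤ Lc (Br F F) j := by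
  induction j with
  | zero =>
    refine ⟨hFc, ?_⟩
    exact Br_mono hFc le_rfl
  | succ j ih =>
    obtain ⟨h1, h2⟩ := ih
    rw [Lc_succ]
    constructor
    · exact Br_le fun _ _ _ _ hx hy => hFc _ (mem_Br (h1 _ hx) (hFc _ hy))
    · refine lie_Br_left ?_
      intro i j' l x y z hx hy hz
      have e : ⁅⁅x, y⁆, z⁆ = ⁅⁅x, z⁆, y⁆ + ⁅x, ⁅y, z⁆⁆ := by
        have h3 : ⁅z, ⁅x, y⁆⁆ = ⁅⁅z, x⁆, y⁆ + ⁅x, ⁅z, y⁆⁆ := leibniz_lie z x y
        have h4 : ⁅⁅x, y⁆, z⁆ = -⁅z, ⁅x, y⁆⁆ := by rw [lie_skew]
        have h5 : ⁅⁅z, x⁆, y⁆ = -⁅⁅x, z⁆, y⁆ := by rw [← neg_lie, lie_skew]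
        have h6 : ⁅x, ⁅z, y⁆⁆ = -⁅x, ⁅y, z⁆⁆ := by rw [← lie_neg, lie_skew]
        rw [h4, h3, h5, h6]
        abel
      rw [e]
      refine add_mem ?_ ?_
      · exact mem_congr (mem_Br (h2 _ (mem_Br hx hz)) hy) (by ring)
      · exact mem_congr (mem_Br hx (Br_mono (hFc) le_rfl _ (mem_Br hy hz))) (by ring)

variable [hp : Fact p.Prime]

/-- The main chain. -/
theorem Lc_chain {F : ZMod p → AddSubgroup L} (hFc : Closed F) (hF0 : F 0 = ⊥) (j : ℕ) :
    (Rt F)^[1 + (p - 1) * j] F ≤ Lc (Br F F) j := by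
  induction j with
  | zero => exact le_rfl
  | succ j ih =>
    have e : 1 + (p - 1) * (j + 1) = (p - 1) + (1 + (p - 1) * j) := by ring
    rw [e, Function.iterate_add_apply]
    refine (Rt_iter_mono F _ ih).trans ?_
    rw [Lc_succ]
    obtain ⟨h1, h2⟩ := Lc_props hFc j
    obtain ⟨_, h3⟩ := Lc_props hFc (j + 1)
    rw [Lc_succ] at h3
    refine Rt_iter_le F _ _ _ ?_
    intro i u ys hu hys hlen
    exact word_mem' hFc hF0 h1 h2 h3 hys hlen hu

/-- **Higman–Kostrikin**. -/
theorem higman (n : ℕ) : ∀ F : ZMod p → AddSubgroup L, Closed F → F 0 = ⊥ → (∀ j, Dr^[n] F j = ⊥) →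
    ∀ j, Lc F (∑ i ∈ Finset.range n, (p - 1) ^ i) j = ⊥ := by
  induction n with
  | zero =>
    intro F _ _ h j
    exact h j
  | succ n ih =>
    intro F hFc hF0 h j
    have hH : Closed (Dr F) := hFc.dr
    have hH0 : Dr F 0 = ⊥ := by
      refine le_bot_iff.1 ?_
      rw [← hF0]
      exact hFc.dr_le 0
    have h1 := ih (Dr F) hH hH0 (fun j => by
      have := h j
      rwa [Function.iterate_succ_apply] at this)
    have e : ∑ i ∈ Finset.range (n + 1), (p - 1) ^ i = 1 + (p - 1) * ∑ i ∈ Finset.range n, (p - 1) ^ i := by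
      rw [Finset.sum_range_succ', Finset.mul_sum, add_comm]
      simp [pow_succ, mul_comm]
    rw [e]
    refine le_bot_iff.1 ?_
    rw [← h1 j]
    exact Lc_chain hFc hF0 _ j

/-- **Higman–Kreknin–Kostrikin**. -/
theorem hkk {F : ZMod p → AddSubgroup L} (hFc : Closed F) (hF0 : F 0 = ⊥) (j : ZMod p) :
    Lc F (∑ i ∈ Finset.range (2 ^ (p - 1) - 1), (p - 1) ^ i) j = ⊥ :=
  higman _ F hFc hF0 (kreknin hFc hF0) j

end Higman

end Cfsg.Agent.Lib.KKGraded
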