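import Mathlib
import Cfsg.Agent.Lib.KKGraded

/-!
# Passing from a Lie ring with a splitting automorphism of order `p` to a `ℤ/p`-graded Lie ring

Extending scalars to `ℤ[ζ]`, a Lie ring with an automorphism `f` with `f^p = 1`, `1 + f + ⋯ + f^{p-1} = 0`, on
which `p` is invertible, becomes a `ℤ/p`-graded Lie ring with trivial zero component.

* `lcs_hkk`: the Higman–Kreknin–Kostrikin bound on the lower central series of such a Lie ring;
* `lcs_three`: the bound for `p = 3`.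
-/

set_option autoImplicit false
set_option linter.unusedSectionVars false
set_option linter.unusedVariables false
set_option linter.style.haveILetI false
set_option linter.unusedSimpArgs false

namespace Cfsg.Agent.Lib.KKTensor

open Polynomial TensorProduct
open Cfsg.Agent.Lib.KKGraded

/-- The lower central series of a Lie ring as a sequence of additive subgroups. -/
def Lcs (L : Type*) [LieRing L] : ℕ → AddSubgroup L
  | 0 => ⊤
  | n + 1 => AddSubgroup.closure {z | ∃ x ∈ Lcs L n, ∃ y : L, ⁅x, y⁆ = z}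

section Eigen

variable {T R : Type*} [CommRing R] [LieRing T] [LieAlgebra R T] {p : ℕ}

/-- The eigenspaces of `φ` for the powers of `ζ`. -/
def Eig (φ : T →ₗ[R] T) (ζ : R) (i : ZMod p) : AddSubgroup T where
  carrier := {x | φ x = ζ ^ i.val • x}
  zero_mem' := by simp
  add_mem' := by
    intro a b ha hb
    simp only [Set.mem_ofPred_eq] at *
    rw [map_add, ha, hb, smul_add]
  neg_mem' := by
    intro a ha
    simp only [Set.mem_ofPred_eq] at *
    rw [map_neg, ha, smul_neg]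

variable [hp : Fact p.Prime]

theorem pow_val_add {ζ : R} (hζ : ζ ^ p = 1) (i j : ZMod p) : ζ ^ (i + j).val = ζ ^ i.val * ζ ^ j.val := by
  rw [← pow_add, ZMod.val_add]
  conv_rhs => rw [← Nat.mod_add_div (i.val + j.val) p, pow_add, pow_mul, hζ, one_pow, mul_one]

theorem Eig_closed (φ : T →ₗ[R] T) (hφ : ∀ x y, φ ⁅x, y⁆ = ⁅φ x, φ y⁆) {ζ : R} (hζ : ζ ^ p = 1) :
    Closed (Eig φ ζ : ZMod p → AddSubgroup T) := by
  refine Br_le ?_
  intro i j x y hx hy
  show φ ⁅x, y⁆ = _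
  have hx' : φ x = ζ ^ i.val • x := hx
  have hy' : φ y = ζ ^ j.val • y := hy
  rw [hφ, hx', hy', smul_lie, lie_smul, smul_smul, pow_val_add hζ]

/-- The eigen-projection. -/
noncomputable def proj (φ : T →ₗ[R] T) (ζ : R) (p' : ℤ) (k : ZMod p) (x : T) : T :=
  p' • ∑ i ∈ Finset.range p, ((ζ ^ ((p - 1) * k.val)) ^ i) • (φ ^ i) x

theorem proj_mem (φ : T →ₗ[R] T) {ζ : R} (hζ : ζ ^ p = 1) (p' : ℤ) (hφp : φ ^ p = 1) (k : ZMod p) (x : T) :
    proj φ ζ p' k x ∈ Eig φ ζ k := by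
  show φ (proj φ ζ p' k x) = _
  unfold proj
  set ξ := ζ ^ ((p - 1) * k.val) with hξ
  set η := ζ ^ k.val with hη
  have hp1 := hp.out.pos
  have hηξ : η * ξ = 1 := by
    rw [hη, hξ, ← pow_add]
    have : k.val + (p - 1) * k.val = p * k.val := by
      have h1 : (p - 1) + 1 = p := by omega
      calc k.val + (p - 1) * k.val = ((p - 1) + 1) * k.val := by ring
        _ = p * k.val := by rw [h1]
    rw [this, pow_mul, hζ, one_pow]
  have hξp : ξ ^ p = 1 := by
    rw [hξ, ← pow_mul, mul_comm, pow_mul, hζ, one_pow]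
  set a : ℕ → T := fun i => (ξ ^ i) • (φ ^ i) x with ha
  have hap : a p = a 0 := by
    simp [ha, hξp, hφp]
  have hshift : ∑ i ∈ Finset.range p, a (i + 1) = ∑ i ∈ Finset.range p, a i := by
    have h1 := Finset.sum_range_succ a p
    have h2 := Finset.sum_range_succ' a p
    rw [h1, hap] at h2
    exact (add_right_cancel h2).symm
  have e : ∀ i, (ξ ^ i) • φ ((φ ^ i) x) = η • a (i + 1) := by
    intro i
    simp only [ha]
    rw [smul_smul, pow_succ', ← mul_assoc, hηξ, one_mul, pow_succ', Module.End.mul_apply]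
  have e2 : φ (∑ i ∈ Finset.range p, (ξ ^ i) • (φ ^ i) x) = η • ∑ i ∈ Finset.range p, a i := by
    rw [map_sum, ← hshift, Finset.smul_sum]
    refine Finset.sum_congr rfl fun i _ => ?_
    rw [map_smul, e]
  rw [map_zsmul, e2, smul_comm]

theorem sum_proj (φ : T →ₗ[R] T) {ζ : R} (p' : ℤ) (hp' : ∀ x : T, (p' * p) • x = x)
    (hsum : ∀ i, 0 < i → i < p → ∑ k : ZMod p, (ζ ^ ((p - 1) * k.val)) ^ i = 0) (x : T) :
    ∑ k : ZMod p, proj φ ζ p' k x = x := by
  unfold proj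
  rw [← Finset.smul_sum, Finset.sum_comm]
  have e : ∀ i ∈ Finset.range p, ∑ k : ZMod p, (ζ ^ ((p - 1) * k.val)) ^ i • (φ ^ i) x
      = if i = 0 then (p : ℤ) • x else 0 := by
    intro i hi
    rw [← Finset.sum_smul]
    split_ifs with h0
    · subst h0
      simp only [pow_zero, Finset.sum_const, Finset.card_univ, ZMod.card, nsmul_eq_mul, mul_one, one_smul]
      rw [natCast_zsmul]
      exact Nat.cast_smul_eq_nsmul R p x
    · rw [hsum i (Nat.pos_of_ne_zero h0) (Finset.mem_range.1 hi), zero_smul]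
  rw [Finset.sum_congr rfl e, Finset.sum_ite_eq' (Finset.range p) 0]
  rw [if_pos (Finset.mem_range.2 hp.out.pos), ← mul_smul, hp']

theorem Eig_span (φ : T →ₗ[R] T) {ζ : R} (hζ : ζ ^ p = 1) (p' : ℤ) (hφp : φ ^ p = 1)
    (hp' : ∀ x : T, (p' * p) • x = x)
    (hsum : ∀ i, 0 < i → i < p → ∑ k : ZMod p, (ζ ^ ((p - 1) * k.val)) ^ i = 0) :
    (⨆ k : ZMod p, Eig φ ζ k : AddSubgroup T) = ⊤ := by
  refine top_le_iff.1 ?_
  intro x _
  rw [← sum_proj φ p' hp' hsum x]
  exact sum_mem fun k _ => AddSubgroup.mem_iSup_of_mem k (proj_mem φ hζ p' hφp k x)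

theorem Eig_zero (φ : T →ₗ[R] T) (ζ : R) (p' : ℤ) (hp' : ∀ x : T, (p' * p) • x = x)
    (hN : ∀ x : T, ∑ i ∈ Finset.range p, (φ ^ i) x = 0) : (Eig φ ζ (0 : ZMod p) : AddSubgroup T) = ⊥ := by
  refine le_bot_iff.1 ?_
  intro x hx
  have hx' : φ x = ζ ^ (0 : ZMod p).val • x := hx
  simp only [ZMod.val_zero, pow_zero, one_smul] at hx'
  have h1 : ∀ i : ℕ, (φ ^ i) x = x := by
    intro i
    induction i with
    | zero => simp
    | succ i ih => rw [pow_succ, Module.End.mul_apply, hx', ih]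
  have h2 := hN x
  simp only [h1, Finset.sum_const, Finset.card_range] at h2
  have h3 := hp' x
  rw [mul_smul, natCast_zsmul, h2, smul_zero] at h3
  rw [AddSubgroup.mem_bot, ← h3]

/-- Passage from graded to ungraded brackets. -/
theorem lie_mem_iSup {A B : ZMod p → AddSubgroup T} {a b : T} (ha : a ∈ ⨆ i, A i) (hb : b ∈ ⨆ j, B j) :
    ⁅a, b⁆ ∈ ⨆ k, Br A B k := by
  induction ha using AddSubgroup.iSup_induction' with
  | hp i x hx =>
    induction hb using AddSubgroup.iSup_induction' with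
    | hp j y hy => exact AddSubgroup.mem_iSup_of_mem (i + j) (mem_Br hx hy)
    | h1 => simp
    | hadd y z _ _ hy hz =>
      rw [lie_add]
      exact add_mem hy hz
  | h1 => simp
  | hadd x y _ _ hx hy =>
    rw [add_lie]
    exact add_mem hx hy

theorem Lcs_le_iSup {F : ZMod p → AddSubgroup T} (hF : (⨆ k, F k) = ⊤) (n : ℕ) :
    Lcs T n ≤ ⨆ k, Lc F n k := by
  induction n with
  | zero =>
    show ⊤ ≤ _
    exact hF.ge
  | succ n ih =>
    refine (AddSubgroup.closure_le _).2 ?_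
    rintro z ⟨x, hx, y, rfl⟩
    have h1 := lie_mem_iSup (ih hx) (show y ∈ ⨆ k, F k by rw [hF]; exact AddSubgroup.mem_top y)
    rwa [Lc_succ]

/-- `p = 3`. -/
theorem Lc_two_three {F : ZMod 3 → AddSubgroup T} (hF : Closed F) (hF0 : F 0 = ⊥) (k : ZMod 3) : Lc F 2 k = ⊥ := by
  have h0 : ∀ {x : T}, x ∈ F 0 → x = 0 := by
    intro x hx
    rw [hF0] at hx
    simpa using hx
  have hbr : ∀ {i j : ZMod 3} {x y : T}, x ∈ F i → y ∈ F j → i + j = 0 → ⁅x, y⁆ = 0 := by
    intro i j x y hx hy hij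
    have := hF.lie_mem hx hy
    rw [hij] at this
    exact h0 this
  have key : Lc F 2 ≤ fun _ => ⊥ := by
    rw [Lc_succ, Lc_succ, Lc_zero]
    refine lie_Br_left ?_
    intro i j l x y z hx hy hz
    have goal : ⁅⁅x, y⁆, z⁆ = 0 := by
      by_cases hi : i = 0
      · subst hi
        rw [h0 hx, zero_lie, zero_lie]
      by_cases hj : j = 0
      · subst hj
        rw [h0 hy, lie_zero, zero_lie]
      by_cases hl : l = 0
      · subst hl
        rw [h0 hz, lie_zero]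
      by_cases hij : i + j = 0
      · rw [hbr hx hy hij, zero_lie]
      by_cases hijl : i + j + l = 0
      · exact h0 (hijl ▸ hF.lie_mem (hF.lie_mem hx hy) hz)
      have hdec : ∀ i j l : ZMod 3, i ≠ 0 → j ≠ 0 → l ≠ 0 → i + j ≠ 0 → i + j + l ≠ 0 → i + l = 0 ∧ j + l = 0 := by
        decide
      obtain ⟨hil, hjl⟩ := hdec i j l hi hj hl hij hijl
      have h1 : ⁅x, z⁆ = 0 := hbr hx hz hil
      have h2 : ⁅y, z⁆ = 0 := hbr hy hz hjl
      have h3 : ⁅z, ⁅x, y⁆⁆ = ⁅⁅z, x⁆, y⁆ + ⁅x, ⁅z, y⁆⁆ := leibniz_lie z x y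
      have h4 : ⁅z, x⁆ = 0 := by rw [← lie_skew, h1, neg_zero]
      have h5 : ⁅z, y⁆ = 0 := by rw [← lie_skew, h2, neg_zero]
      rw [h4, h5, zero_lie, lie_zero, add_zero] at h3
      rw [← lie_skew, h3, neg_zero]
    rw [goal]
    exact zero_mem _
  exact le_bot_iff.1 (key k)

end Eigen

section Tensor

variable {L : Type*} [LieRing L] {p : ℕ} [hp : Fact p.Prime]

/-- The cyclotomic ring. -/
abbrev Rp (p : ℕ) : Type := AdjoinRoot (cyclotomic p ℤ)

theorem Rp_isDomain : IsDomain (Rp p) :=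
  AdjoinRoot.isDomain_of_prime (cyclotomic.irreducible hp.out.pos).prime

theorem Rp_free : Module.Free ℤ (Rp p) :=
  Module.Free.of_basis (AdjoinRoot.powerBasis' (cyclotomic.monic p ℤ)).basis

theorem zeta_prim : IsPrimitiveRoot (AdjoinRoot.root (cyclotomic p ℤ)) p := by
  haveI : IsDomain (Rp p) := Rp_isDomain
  have hinj : Function.Injective (Int.castRingHom (Rp p)) := by
    have h : (AdjoinRoot.of (cyclotomic p ℤ)) = Int.castRingHom (Rp p) := RingHom.ext_int _ _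
    rw [← h]
    refine AdjoinRoot.of.injective_of_degree_ne_zero ?_
    rw [degree_cyclotomic]
    have := Nat.totient_pos.2 hp.out.pos
    exact_mod_cast this.ne'
  haveI : NeZero ((p : ℕ) : Rp p) := ⟨by
    intro h
    have h2 : Int.castRingHom (Rp p) (p : ℤ) = Int.castRingHom (Rp p) 0 := by simpa using h
    have h3 := hinj h2
    have := hp.out.pos
    omega⟩
  rw [← isRoot_cyclotomic_iff, ← map_cyclotomic_int p (Rp p)]
  have h := AdjoinRoot.isRoot_root (cyclotomic p ℤ)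
  have h' : (AdjoinRoot.of (cyclotomic p ℤ)) = Int.castRingHom (Rp p) := RingHom.ext_int _ _
  rwa [h'] at h

theorem zeta_sum (i : ℕ) (hi0 : 0 < i) (hip : i < p) :
    ∑ k : ZMod p, ((AdjoinRoot.root (cyclotomic p ℤ)) ^ ((p - 1) * k.val)) ^ i = 0 := by
  haveI : IsDomain (Rp p) := Rp_isDomain
  set ζ := AdjoinRoot.root (cyclotomic p ℤ) with hζ
  have hprim : IsPrimitiveRoot ζ p := zeta_prim
  have hp1 := hp.out.one_lt
  have hcop : ((p - 1) * i).Coprime p := by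
    refine Nat.Coprime.mul_left ?_ ?_
    · exact Nat.coprime_comm.1 ((Nat.Prime.coprime_iff_not_dvd hp.out).2 (Nat.not_dvd_of_pos_of_lt (by omega) (by omega)))
    · exact Nat.coprime_comm.1 ((Nat.Prime.coprime_iff_not_dvd hp.out).2 (Nat.not_dvd_of_pos_of_lt hi0 hip))
  have h1 := (hprim.pow_of_coprime _ hcop).geom_sum_eq_zero hp1
  rw [← h1]
  refine Finset.sum_nbij' (fun k : ZMod p => k.val) (fun j : ℕ => (j : ZMod p)) ?_ ?_ ?_ ?_ ?_
  · intro k _
    exact Finset.mem_range.2 (ZMod.val_lt k)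
  · intro _ _
    exact Finset.mem_univ _
  · intro k _
    simp
  · intro j hj
    exact ZMod.val_cast_of_lt (Finset.mem_range.1 hj)
  · intro k _
    rw [← pow_mul, ← pow_mul]
    congr 1
    ring

variable (f : L →+ L) (hf : ∀ x y, f ⁅x, y⁆ = ⁅f x, f y⁆) (hfp : ∀ x, f^[p] x = x)
  (hN : ∀ x, ∑ i ∈ Finset.range p, f^[i] x = 0) (p' : ℤ) (hp' : ∀ x : L, (p' * p) • x = x)

/-- The automorphism extended to `ℤ[ζ] ⊗ L`. -/
noncomputable def phi (f : L →+ L) : (Rp p) ⊗[ℤ] L →ₗ[Rp p] (Rp p) ⊗[ℤ] L :=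
  LinearMap.baseChange (Rp p) f.toIntLinearMap

@[simp] theorem phi_tmul (f : L →+ L) (r : Rp p) (x : L) : phi f (r ⊗ₜ[ℤ] x) = r ⊗ₜ[ℤ] f x := by
  simp [phi]

theorem phi_pow_tmul (f : L →+ L) (i : ℕ) (r : Rp p) (x : L) : ((phi f) ^ i) (r ⊗ₜ[ℤ] x) = r ⊗ₜ[ℤ] f^[i] x := by
  induction i with
  | zero => simp
  | succ i ih =>
    rw [pow_succ', Module.End.mul_apply, ih, phi_tmul, Function.iterate_succ_apply']

theorem phi_lie (f : L →+ L) (hf : ∀ x y, f ⁅x, y⁆ = ⁅f x, f y⁆) (x y : (Rp p) ⊗[ℤ] L) :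
    phi f ⁅x, y⁆ = ⁅phi f x, phi f y⁆ := by
  have e1 : ∀ u : (Rp p) ⊗[ℤ] L, ⁅u, (0 : (Rp p) ⊗[ℤ] L)⁆ = 0 := fun u => lie_zero u
  have e2 : ∀ u v w : (Rp p) ⊗[ℤ] L, ⁅u, v + w⁆ = ⁅u, v⁆ + ⁅u, w⁆ := fun u v w => lie_add u v w
  have e3 : ∀ u : (Rp p) ⊗[ℤ] L, ⁅(0 : (Rp p) ⊗[ℤ] L), u⁆ = 0 := fun u => zero_lie u
  have e4 : ∀ u v w : (Rp p) ⊗[ℤ] L, ⁅u + v, w⁆ = ⁅u, w⁆ + ⁅v, w⁆ := fun u v w => add_lie u v w
  induction x using TensorProduct.induction_on with
  | zero => rw [map_zero, e3, e3, map_zero]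
  | add a b ha hb => rw [map_add, e4, e4, map_add, ha, hb]
  | tmul r a =>
    induction y using TensorProduct.induction_on with
    | zero => rw [map_zero, e1, e1, map_zero]
    | add c d hc hd => rw [map_add, e2, e2, map_add, hc, hd]
    | tmul s b =>
      simp [hf]

theorem phi_pow (f : L →+ L) (hfp : ∀ x, f^[p] x = x) : (phi f) ^ p = (1 : (Rp p) ⊗[ℤ] L →ₗ[Rp p] (Rp p) ⊗[ℤ] L) := by
  ext x
  simp [phi_pow_tmul, hfp]

theorem phi_N (f : L →+ L) (hN : ∀ x, ∑ i ∈ Finset.range p, f^[i] x = 0) (x : (Rp p) ⊗[ℤ] L) :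
    ∑ i ∈ Finset.range p, ((phi f) ^ i) x = 0 := by
  induction x using TensorProduct.induction_on with
  | zero => simp
  | add a b ha hb => simp only [map_add, Finset.sum_add_distrib, ha, hb, add_zero]
  | tmul r a =>
    simp only [phi_pow_tmul, ← TensorProduct.tmul_sum, hN, TensorProduct.tmul_zero]

theorem hp_tensor (p' : ℤ) (hp' : ∀ x : L, (p' * p) • x = x) (x : (Rp p) ⊗[ℤ] L) : (p' * p) • x = x := by
  induction x using TensorProduct.induction_on with
  | zero => simp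
  | add a b ha hb => rw [smul_add, ha, hb]
  | tmul r a =>
    rw [← TensorProduct.tmul_smul, hp']

theorem one_tmul_lcs (n : ℕ) {x : L} (hx : x ∈ Lcs L n) :
    (1 : Rp p) ⊗ₜ[ℤ] x ∈ Lcs ((Rp p) ⊗[ℤ] L) n := by
  induction n generalizing x with
  | zero => exact AddSubgroup.mem_top _
  | succ n ih =>
    induction hx using AddSubgroup.closure_induction with
    | mem z hz =>
      obtain ⟨a, ha, b, rfl⟩ := hz
      refine AddSubgroup.subset_closure ⟨_, ih ha, (1 : Rp p) ⊗ₜ[ℤ] b, ?_⟩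
      simp
    | zero => simp
    | add a b _ _ ha hb =>
      rw [TensorProduct.tmul_add]
      exact add_mem ha hb
    | neg a _ ha =>
      rw [TensorProduct.tmul_neg]
      exact neg_mem ha

/-- The eigenspace family. -/
noncomputable def Fam (f : L →+ L) : ZMod p → AddSubgroup ((Rp p) ⊗[ℤ] L) :=
  Eig (phi f) (AdjoinRoot.root (cyclotomic p ℤ))

theorem zeta_pow : (AdjoinRoot.root (cyclotomic p ℤ)) ^ p = 1 := (zeta_prim (p := p)).pow_eq_one

include hf in
theorem Fam_closed : Closed (Fam f : ZMod p → AddSubgroup ((Rp p) ⊗[ℤ] L)) :=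
  Eig_closed _ (phi_lie f hf) zeta_pow

include hN hp' in
theorem Fam_zero : (Fam f : ZMod p → AddSubgroup ((Rp p) ⊗[ℤ] L)) 0 = ⊥ :=
  Eig_zero _ _ p' (hp_tensor p' hp') (phi_N f hN)

include hfp hp' in
theorem Fam_span : (⨆ k, (Fam f : ZMod p → AddSubgroup ((Rp p) ⊗[ℤ] L)) k) = ⊤ :=
  Eig_span _ zeta_pow p' (phi_pow f hfp) (hp_tensor p' hp') zeta_sum

theorem lcs_eq_bot_of_Lc (F : ZMod p → AddSubgroup ((Rp p) ⊗[ℤ] L)) (hspan : (⨆ k, F k) = ⊤) (n : ℕ)
    (h : ∀ k, Lc F n k = ⊥) : Lcs L n = ⊥ := by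
  refine le_bot_iff.1 ?_
  intro x hx
  have h1 := Lcs_le_iSup hspan n (one_tmul_lcs (p := p) n hx)
  simp only [h, iSup_bot, AddSubgroup.mem_bot] at h1
  rw [AddSubgroup.mem_bot]
  haveI : Module.Free ℤ (Rp p) := Rp_free
  haveI : IsDomain (Rp p) := Rp_isDomain
  refine Module.FaithfullyFlat.tensorProduct_mk_injective (A := ℤ) (B := Rp p) L ?_
  simpa using h1

include hf hfp hN hp' in
/-- **The Higman–Kreknin–Kostrikin bound** for Lie rings. -/
theorem lcs_hkk : Lcs L (∑ i ∈ Finset.range (2 ^ (p - 1) - 1), (p - 1) ^ i) = ⊥ :=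
  lcs_eq_bot_of_Lc (p := p) (Fam f) (Fam_span f hfp p' hp') _
    (hkk (Fam_closed f hf) (Fam_zero f hN p' hp'))

end Tensor

section Three

variable {L : Type*} [LieRing L]

/-- The bound for `p = 3`. -/
theorem lcs_three (f : L →+ L) (hf : ∀ x y, f ⁅x, y⁆ = ⁅f x, f y⁆) (hfp : ∀ x, f^[3] x = x)
    (hN : ∀ x, ∑ i ∈ Finset.range 3, f^[i] x = 0) (p' : ℤ) (hp' : ∀ x : L, (p' * (3 : ℕ)) • x = x) : Lcs L 2 = ⊥ := by
  haveI : Fact (Nat.Prime 3) := ⟨Nat.prime_three⟩
  exact lcs_eq_bot_of_Lc (p := 3) (Fam f) (Fam_span f hfp p' hp') 2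
    (Lc_two_three (Fam_closed f hf) (Fam_zero f hN p' hp'))

end Three

end Cfsg.Agent.Lib.KKTensor
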