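import Mathlib
import Cfsg.Agent.Lib.AlperinFix
import Cfsg.Agent.Lib.KKTorsion
import Cfsg.Agent.Lib.LCSLie
import Cfsg.Agent.S3779
import Cfsg.Agent.S3781

/-!
# Alperin's theorem for `p`-groups

A finite `p`-group with an automorphism `α`, `α ^ p = 1`, with at most `p ^ n` fixed points has derived length bounded in
terms of `p` and `n`.
-/

set_option autoImplicit false
set_option linter.unusedSectionVars false
set_option linter.unusedVariables false
set_option linter.style.haveILetI false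

namespace Cfsg.Agent.Lib.AlperinP

open Cfsg.Agent.Lib.Kegel Cfsg.Agent.Lib.LCSLie Cfsg.Agent.Lib.KKTensor Cfsg.Agent.Lib.KKTorsion
  Cfsg.Agent.Lib.AlperinFix
open scoped commutatorElement

section Series

variable {G : Type*} [Group G]

/-- The lower central series of a subgroup and the lower central series of the subgroup as a group. -/
theorem map_gam_subtype (N : Subgroup G) (k : ℕ) : (Gam ↥N k).map N.subtype = N.lowerCentralSeries k := by
  induction k with
  | zero =>
    show (⊤ : Subgroup N).map N.subtype = N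
    rw [← MonoidHom.range_eq_map, Subgroup.range_subtype]
  | succ k ih =>
    show (⁅Gam ↥N k, ⊤⁆ : Subgroup N).map N.subtype = ⁅N.lowerCentralSeries k, N⁆
    rw [Subgroup.map_commutator, ih, ← MonoidHom.range_eq_map, Subgroup.range_subtype]

/-- Derived series through a subgroup. -/
theorem derived_add_le {a : ℕ} {N : Subgroup G} (h : derivedSeries G a ≤ N) (k : ℕ) :
    derivedSeries G (a + k) ≤ (derivedSeries ↥N k).map N.subtype := by
  induction k with
  | zero =>
    simpa [← MonoidHom.range_eq_map] using h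
  | succ k ih =>
    show ⁅derivedSeries G (a + k), derivedSeries G (a + k)⁆ ≤ (⁅derivedSeries ↥N k, derivedSeries ↥N k⁆ : Subgroup N).map N.subtype
    rw [Subgroup.map_commutator]
    exact Subgroup.commutator_mono ih ih

theorem derived_le_gam (k : ℕ) : derivedSeries G k ≤ Gam G k := Subgroup.derived_le_lower_central k

end Series

section Main

variable {N : Type*} [Group N] [Finite N] {p : ℕ} [hp : Fact p.Prime]

/-- The Higman–Kreknin–Kostrikin number. -/
def hk (p : ℕ) : ℕ := ∑ i ∈ Finset.range (2 ^ (p - 1) - 1), (p - 1) ^ i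

theorem hk_pos (p : ℕ) [hp : Fact p.Prime] : 0 < hk p := by
  unfold hk
  have h1 : 2 ≤ 2 ^ (p - 1) := by
    have := hp.out.one_lt
    calc 2 = 2 ^ 1 := by norm_num
      _ ≤ 2 ^ (p - 1) := Nat.pow_le_pow_right (by norm_num) (by omega)
  have h2 : 0 ∈ Finset.range (2 ^ (p - 1) - 1) := Finset.mem_range.2 (by omega)
  refine lt_of_lt_of_le ?_ (Finset.single_le_sum (f := fun i => (p - 1) ^ i) (fun _ _ => Nat.zero_le _) h2)
  simp

theorem hinv (β : MulAut N) (k : ℕ) : ∀ x ∈ Gam N k, β x ∈ Gam N k :=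
  fun _ hx => map_gam (β : N →* N) hx

/-- The restriction to a term of the lower central series. -/
noncomputable def gr (β : MulAut N) (k : ℕ) : MulAut (Gam N k) := restr β (Gam N k) (hinv β k)

theorem hinvB (β : MulAut N) (k : ℕ) : ∀ x ∈ Bk N k, gr β k x ∈ Bk N k := by
  intro x hx
  have h1 : (x : N) ∈ Gam N (k + 1) := Subgroup.mem_subgroupOf.1 hx
  exact Subgroup.mem_subgroupOf.2 (hinv β (k + 1) _ h1)

/-- The automorphism induced on a factor of the lower central series. -/
noncomputable def gk (β : MulAut N) (k : ℕ) : MulAut (Gam N k ⧸ Bk N k) := quot (gr β k) (Bk N k) (hinvB β k)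

theorem gr_pow (β : MulAut N) (hβ : β ^ p = 1) (k : ℕ) : gr β k ^ p = 1 := by
  ext x
  rw [gr, coe_restr_pow, hβ]
  rfl

theorem gk_pow (β : MulAut N) (hβ : β ^ p = 1) (k : ℕ) : gk β k ^ p = 1 := by
  ext x
  obtain ⟨y, rfl⟩ := QuotientGroup.mk_surjective x
  rw [gk, quot_pow_mk, gr_pow β hβ]
  rfl

theorem isP_gam (hN : IsPGroup p N) (k : ℕ) : IsPGroup p (Gam N k) := hN.to_subgroup _

theorem isP_A (hN : IsPGroup p N) (k : ℕ) : IsPGroup p (Gam N k ⧸ Bk N k) := (isP_gam hN k).to_quotient _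

theorem card_Fx_gk_le (hN : IsPGroup p N) (β : MulAut N) (k : ℕ) : Nat.card (Fx (gk β k)) ≤ Nat.card (Fx β) :=
  (card_Fx_quot_le (isP_gam hN k) (gr β k) (Bk N k) (hinvB β k)).trans (card_Fx_restr_le β (Gam N k) (hinv β k))

theorem comm_A (k : ℕ) (a b : Gam N k ⧸ Bk N k) : a * b = b * a := mul_comm a b

theorem ι_pow {k : ℕ} {g : N} (hg : g ∈ Gam N k) (n : ℕ) : n • ι k g = ι k (g ^ n) := by
  induction n with
  | zero => simp [ι_one]
  | succ n ih => rw [succ_nsmul, ih, pow_succ, ι_mul (pow_mem hg n) hg]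

/-- The norm of an element of the factor is fixed, so it is killed by `p ^ n`. -/
theorem norm_torsion (hN : IsPGroup p N) (β : MulAut N) (hβ : β ^ p = 1) (n : ℕ) (hfix : Nat.card (Fx β) ≤ p ^ n) (k : ℕ)
    {g : N} (hg : g ∈ Gam N k) : p ^ n • ι k (nm β p g) = 0 := by
  set γ := gr β k with hγ
  have hγp : γ ^ p = 1 := gr_pow β hβ k
  let y : Gam N k := ⟨g, hg⟩
  set c := nm γ p y with hc
  have hc1 : (c : N) = nm β p g := coe_nm_restr β (Gam N k) (hinv β k) p y
  have h1 : c * y = y * γ c := by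
    have h2 := nm_succ γ p y
    have h3 := nm_succ' γ p y
    rw [hγp] at h2
    rw [h2] at h3
    exact h3
  have h4 : γ c = y⁻¹ * c * y := by
    rw [mul_assoc, h1]
    simp
  have hfixc : (c : Gam N k ⧸ Bk N k) ∈ Fx (gk β k) := by
    rw [mem_Fx]
    show ((γ c : Gam N k) : Gam N k ⧸ Bk N k) = c
    rw [h4, QuotientGroup.mk_mul, QuotientGroup.mk_mul, QuotientGroup.mk_inv, mul_comm ((y : Gam N k ⧸ Bk N k)⁻¹),
      mul_assoc, mul_comm, mul_assoc]
    simp
  -- the order of the fixed point subgroup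
  have hP : IsPGroup p (Fx (gk β k)) := (isP_A hN k).to_subgroup _
  obtain ⟨j, hj⟩ := hP.exists_card_eq
  have hjn : j ≤ n := by
    have h5 := (card_Fx_gk_le hN β k).trans hfix
    rw [hj] at h5
    exact (Nat.pow_le_pow_iff_right hp.out.one_lt).1 h5
  have h6 : (c : Gam N k ⧸ Bk N k) ^ p ^ n = 1 := by
    have h7 : (⟨_, hfixc⟩ : Fx (gk β k)) ^ p ^ j = 1 := by
      rw [← hj]
      exact pow_card_eq_one'
    have h8 : (c : Gam N k ⧸ Bk N k) ^ p ^ j = 1 := congrArg Subtype.val h7
    obtain ⟨t, rfl⟩ := Nat.exists_eq_add_of_le hjn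
    rw [pow_add, pow_mul, h8, one_pow]
  have h9 : c ^ p ^ n ∈ Bk N k := by
    rw [← QuotientGroup.eq_one_iff, QuotientGroup.mk_pow]
    exact h6
  have h10 : ((c : N)) ^ p ^ n ∈ Gam N (k + 1) := by
    have := Subgroup.mem_subgroupOf.1 h9
    simpa using this
  rw [← hc1, ι_pow c.2, ι_of_succ h10]

/-- The hypotheses of the torsion theorem. -/
theorem exp_factor (hN : IsPGroup p N) (β : MulAut N) (hβ : β ^ p = 1) (n : ℕ) (hfix : Nat.card (Fx β) ≤ p ^ n) {g : N}
    (hg : g ∈ Gam N (hk p)) : g ^ p ^ ((n + 2) * (hk p + 1)) ∈ Gam N (hk p + 1) := by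
  have hit : ∀ (i : ℕ) (x y : LL N), (mapL (β : N →* N))^[i] (x + y)
      = (mapL (β : N →* N))^[i] x + (mapL (β : N →* N))^[i] y := by
    intro i x y
    exact iterate_map_add _ i x y
  have hit0 : ∀ (i : ℕ), (mapL (β : N →* N))^[i] (0 : LL N) = 0 := by
    intro i
    exact iterate_map_zero _ i
  have hfp : ∀ x, (mapL (β : N →* N))^[p] x = x := by
    intro x
    induction x using LL.ind with
    | h0 => exact hit0 p
    | hι k g hg => rw [Cfsg.Agent.S3779.iter_ι β p hg, hβ]; rfl
    | hadd x y hx hy => rw [hit, hx, hy]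
  have hNm : ∀ x, p ^ n • ∑ i ∈ Finset.range p, (mapL (β : N →* N))^[i] x = 0 := by
    intro x
    induction x using LL.ind with
    | h0 => simp only [hit0, Finset.sum_const_zero, smul_zero]
    | hι k g hg =>
      simp only [Cfsg.Agent.S3779.iter_ι β _ hg]
      rw [Cfsg.Agent.S3779.sum_ι β p hg]
      exact norm_torsion hN β hβ n hfix k hg
    | hadd x y hx hy => simp only [hit, Finset.sum_add_distrib, smul_add, hx, hy, add_zero]
  have h1 := Cfsg.Agent.S3779.mem_lcs (hk p) g hg
  have h2 := lcs_torsion (p := p) (mapL (β : N →* N)) (mapL_lie _) hfp n hNm h1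
  have h3 : p ^ ((n + 2) * (hk p + 1)) • ι (hk p) g = 0 := h2
  rw [ι_pow hg] at h3
  exact (ι_eq_zero_iff (pow_mem hg _)).1 h3

/-- The order of the factor. -/
theorem card_factor (hN : IsPGroup p N) (β : MulAut N) (hβ : β ^ p = 1) (n : ℕ) (hfix : Nat.card (Fx β) ≤ p ^ n) :
    Nat.card (Gam N (hk p) ⧸ Bk N (hk p)) ≤ p ^ (((n + 2) * (hk p + 1)) * (p * n)) := by
  refine card_le_of_fix (comm_A _) (isP_A hN _) (gk β _) (gk_pow β hβ _) n _ ((card_Fx_gk_le hN β _).trans hfix) ?_
  intro a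
  obtain ⟨y, rfl⟩ := QuotientGroup.mk_surjective a
  rw [← QuotientGroup.mk_pow, QuotientGroup.eq_one_iff]
  refine Subgroup.mem_subgroupOf.2 ?_
  simpa using exp_factor hN β hβ n hfix y.2

end Main

/-- **Alperin's theorem for `p`-groups.** -/
theorem alperin_pgroup (p : ℕ) [hp : Fact p.Prime] (n : ℕ) : ∃ d : ℕ, ∀ (P : Type) [Group P] [Finite P], IsPGroup p P →
    ∀ α : MulAut P, α ^ p = 1 → Nat.card (Fx α) ≤ p ^ n → derivedSeries P d = ⊥ := by
  set h := hk p with hh
  set c := ((n + 2) * (h + 1)) * (p * n) with hc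
  refine ⟨c + (h + 1), ?_⟩
  intro P _ _ hP α hα hfix
  set N : Subgroup P := Gam P c with hN
  have hNinv : ∀ x ∈ N, α x ∈ N := hinv α c
  set β : MulAut N := restr α N hNinv with hβ
  have hβp : β ^ p = 1 := by
    ext x
    rw [hβ, coe_restr_pow, hα]
    rfl
  have hβfix : Nat.card (Fx β) ≤ p ^ n := (card_Fx_restr_le α N hNinv).trans hfix
  have hNP : IsPGroup p N := hP.to_subgroup _
  have hcard := card_factor hNP β hβp n hβfix
  have hbot : N.lowerCentralSeries (h + 1) = ⊥ := by
    by_contra hne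
    have h1 := Cfsg.Agent.S3781.result hP (c + 1) (by omega) N (le_of_eq (by simp [hN])) (h + 1)
      (by have := hk_pos p; omega) hne
    have e1 : h + 1 - 1 = h := by omega
    rw [e1, ← map_gam_subtype, ← map_gam_subtype,
      Subgroup.relIndex_map_map_of_injective _ _ N.subtype_injective] at h1
    have h2 : (Gam ↥N (h + 1)).relIndex (Gam ↥N h) = Nat.card (Gam ↥N h ⧸ Bk ↥N h) := rfl
    rw [h2] at h1
    have h3 := h1.trans hcard
    have h4 : c + 1 ≤ c := (Nat.pow_le_pow_iff_right hp.out.one_lt).1 h3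
    omega
  have hbot2 : Gam ↥N (h + 1) = ⊥ := by
    rw [← map_gam_subtype] at hbot
    exact (Subgroup.map_eq_bot_iff_of_injective _ N.subtype_injective).1 hbot
  have h5 : derivedSeries P c ≤ N := derived_le_gam c
  have h6 := derived_add_le h5 (h + 1)
  have h7 : derivedSeries ↥N (h + 1) = ⊥ := le_bot_iff.1 ((derived_le_gam (h + 1)).trans hbot2.le)
  rw [h7, Subgroup.map_bot] at h6
  exact le_bot_iff.1 h6

end Cfsg.Agent.Lib.AlperinP
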