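import Mathlib
import Cfsg.Prelude.Def_Local
import Cfsg.Agent.Lib.LocalCore
import Cfsg.Agent.Lib.BenderPair
import Cfsg.Agent.S4337

/-!
# Subgroups of `Perm α` containing a Sylow 2-subgroup of `Alt α`, with quasisimple `F*`: basics

Everything is phrased for a triple `H, L, P'` of subgroups of `Perm α`; see `Setup`.
-/

set_option autoImplicit false

open Cfsg Equiv Equiv.Perm

namespace Cfsg.Agent.Lib.AltFStar

variable {α : Type*} [Fintype α] [DecidableEq α]

/-- Conjugating sets of commuting even involutions into a Sylow 2-subgroup of `Alt α`. -/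
theorem conj_into_sylow (P : Sylow 2 ↥(alternatingGroup α)) (M : Subgroup (Perm α))
    (hPM : (P : Subgroup ↥(alternatingGroup α)).map (alternatingGroup α).subtype ≤ M)
    (S : Set (Perm α)) (hSM : S ⊆ M) (hSA : S ⊆ alternatingGroup α)
    (h2 : ∀ x ∈ S, x * x = 1) (hc : ∀ x ∈ S, ∀ y ∈ S, x * y = y * x) :
    ∃ m ∈ M, ∀ s ∈ S, m * s * m⁻¹ ∈
      (P : Subgroup ↥(alternatingGroup α)).map (alternatingGroup α).subtype := by
  classical
  let C := Subgroup.closure S
  have hCcomm : ∀ x ∈ C, ∀ y ∈ C, x * y = y * x := by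
    intro x hx y hy
    have hcomm := (Subgroup.isMulCommutative_closure (k := S) hc).is_comm.comm ⟨x, hx⟩ ⟨y, hy⟩
    exact congrArg Subtype.val hcomm
  have hC2 : ∀ x ∈ C, x * x = 1 := by
    intro x hx
    induction hx using Subgroup.closure_induction with
    | mem x hx => exact h2 x hx
    | one => simp
    | mul x y hx hy ihx ihy =>
      have h3 : y * x = x * y := hCcomm y hy x hx
      calc x * y * (x * y) = x * (y * x) * y := by group
        _ = x * (x * y) * y := by rw [h3]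
        _ = (x * x) * (y * y) := by group
        _ = 1 := by rw [ihx, ihy, one_mul]
    | inv x hx ih =>
      have : x⁻¹ = x := by
        rw [inv_eq_iff_mul_eq_one]; exact ih
      rw [this]; exact ih
  have hCM : C ≤ M := (Subgroup.closure_le _).2 hSM
  have hCA : C ≤ alternatingGroup α := (Subgroup.closure_le _).2 hSA
  let MA : Subgroup ↥(alternatingGroup α) := M.subgroupOf (alternatingGroup α)
  have hP : (P : Subgroup ↥(alternatingGroup α)) ≤ MA := by
    intro x hx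
    rw [Subgroup.mem_subgroupOf]
    exact hPM ⟨x, hx, rfl⟩
  let PS : Sylow 2 ↥MA := P.subtype hP
  let R : Subgroup ↥MA := (C.subgroupOf (alternatingGroup α)).subgroupOf MA
  have hR : IsPGroup 2 ↥R := by
    intro r
    refine ⟨1, ?_⟩
    have hr : ((r : ↥MA) : ↥(alternatingGroup α)).1 ∈ C := by
      have := r.2
      rw [Subgroup.mem_subgroupOf, Subgroup.mem_subgroupOf] at this
      exact this
    apply Subtype.ext
    apply Subtype.ext
    apply Subtype.ext
    simpa [pow_succ] using hC2 _ hr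
  obtain ⟨Q, hQ⟩ := hR.exists_le_sylow
  obtain ⟨g, hg⟩ := MulAction.exists_smul_eq ↥MA PS Q
  refine ⟨((g : ↥(alternatingGroup α)) : Perm α)⁻¹, ?_, ?_⟩
  · exact M.inv_mem g.2
  · intro s hs
    have hsC : s ∈ C := Subgroup.subset_closure hs
    let s1 : ↥(alternatingGroup α) := ⟨s, hCA hsC⟩
    have hs1 : s1 ∈ MA := by
      rw [Subgroup.mem_subgroupOf]; exact hCM hsC
    let s2 : ↥MA := ⟨s1, hs1⟩
    have hs2R : s2 ∈ R := by
      rw [Subgroup.mem_subgroupOf, Subgroup.mem_subgroupOf]; exact hsC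
    have hs2Q : s2 ∈ (Q : Subgroup ↥MA) := hQ hs2R
    rw [← hg, Sylow.coe_subgroup_smul, Subgroup.mem_pointwise_smul_iff_inv_smul_mem] at hs2Q
    have h3 : ((MulAut.conj g)⁻¹ • s2 : ↥MA) ∈ (P : Subgroup ↥(alternatingGroup α)).subgroupOf MA := by
      have := hs2Q
      rwa [Sylow.coe_subtype] at this
    rw [Subgroup.mem_subgroupOf] at h3
    refine ⟨_, h3, ?_⟩
    simp [MulAut.smul_def, s2, s1, mul_assoc]

/-- The hypotheses used throughout. -/
structure Setup (H L P' : Subgroup (Perm α)) : Prop where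
  hLH : L ≤ H
  hLn : ∀ h ∈ H, ∀ l ∈ L, h * l * h⁻¹ ∈ L
  hqs : IsQuasisimple ↥L
  hcen : ∀ t ∈ H, (∀ g ∈ L, t * g = g * t) → t ∈ L
  hPH : P' ≤ H
  hconj : ∀ (M : Subgroup (Perm α)), P' ≤ M → ∀ S : Set (Perm α), S ⊆ M →
    S ⊆ alternatingGroup α → (∀ x ∈ S, x * x = 1) → (∀ x ∈ S, ∀ y ∈ S, x * y = y * x) →
    ∃ m ∈ M, ∀ s ∈ S, m * s * m⁻¹ ∈ P'

/-- The setwise stabilizer of a set. -/
def StabS (Y : Set α) : Subgroup (Perm α) where
  carrier := {π | ∀ x, π x ∈ Y ↔ x ∈ Y}
  mul_mem' := by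
    intro a b (ha : ∀ x, a x ∈ Y ↔ x ∈ Y) (hb : ∀ x, b x ∈ Y ↔ x ∈ Y) x
    simp only [Perm.mul_apply]
    rw [ha, hb]
  one_mem' := by intro x; simp
  inv_mem' := by
    intro a (ha : ∀ x, a x ∈ Y ↔ x ∈ Y) x
    rw [← ha (a⁻¹ x)]
    simp

/-- The pointwise stabilizer of a set. -/
def FixS (Y : Set α) : Subgroup (Perm α) where
  carrier := {π | ∀ x ∈ Y, π x = x}
  mul_mem' := by
    intro a b (ha : ∀ x ∈ Y, a x = x) (hb : ∀ x ∈ Y, b x = x) x hx
    rw [Perm.mul_apply, hb x hx, ha x hx]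
  one_mem' := by intro x _; simp
  inv_mem' := by
    intro a (ha : ∀ x ∈ Y, a x = x) x hx
    rw [Perm.inv_eq_iff_eq, ha x hx]

/-- The automorphism group of a relation. -/
def AutR (r : Setoid α) : Subgroup (Perm α) where
  carrier := {π | ∀ x y, r (π x) (π y) ↔ r x y}
  mul_mem' := by
    intro a b (ha : ∀ x y, r (a x) (a y) ↔ r x y) (hb : ∀ x y, r (b x) (b y) ↔ r x y) x y
    simp only [Perm.mul_apply]
    rw [ha, hb]
  one_mem' := by intro x y; simp
  inv_mem' := by
    intro a (ha : ∀ x y, r (a x) (a y) ↔ r x y) x y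
    rw [← ha (a⁻¹ x) (a⁻¹ y)]
    simp

/-- The permutations preserving each class of a relation. -/
def KerR (r : Setoid α) : Subgroup (Perm α) where
  carrier := {π | ∀ x, r x (π x)}
  mul_mem' := by
    intro a b (ha : ∀ x, r x (a x)) (hb : ∀ x, r x (b x)) x
    rw [Perm.mul_apply]
    exact r.trans (hb x) (ha _)
  one_mem' := by intro x; exact r.refl _
  inv_mem' := by
    intro a (ha : ∀ x, r x (a x)) x
    have := ha (a⁻¹ x)
    rw [show a (a⁻¹ x) = x by simp] at this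
    exact r.symm this

omit [Fintype α] in
theorem conj_swap_mul_swap (m : Perm α) (a b c d : α) :
    m * (swap a b * swap c d) * m⁻¹ = swap (m a) (m b) * swap (m c) (m d) := by
  rw [swap_apply_apply, swap_apply_apply]
  group

namespace Setup

variable {H L P' : Subgroup (Perm α)}

/-- **Small**: a quasisimple group preserving a set with at most 4 points acts trivially on it. -/
theorem small_fixed (s : Setup H L P') (Y : Finset α) (hcard : Y.card ≤ 4)
    (hinv : ∀ g ∈ L, ∀ x ∈ Y, g x ∈ Y) : ∀ g ∈ L, ∀ x ∈ Y, g x = x := by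
  have hiff : ∀ g ∈ L, ∀ x, x ∈ Y ↔ g x ∈ Y := by
    intro g hg x
    refine ⟨hinv g hg x, fun h => ?_⟩
    have := hinv g⁻¹ (L.inv_mem hg) _ h
    simpa using this
  let ρ : ↥L →* Perm {x // x ∈ Y} :=
    { toFun := fun g => (g : Perm α).subtypePerm (fun x => (hiff g g.2 x).symm)
      map_one' := by ext x; simp
      map_mul' := by intro a b; ext x; rfl }
  have hsol : Group.IsSolvable (Perm {x // x ∈ Y}) := by
    apply Cfsg.Agent.S4337.perm_solvable
    simpa using hcard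
  intro g hg x hx
  have h1 := Cfsg.Agent.Lib.BenderPair.hom_trivial_of_perfect
    (LocalCore.qs_commutator s.hqs) ρ ⟨g, hg⟩
  have h2 := congrArg (fun p : Perm {x // x ∈ Y} => ((p ⟨x, hx⟩ : {x // x ∈ Y}) : α)) h1
  simpa [ρ] using h2

/-- No nontrivial element of `H` with small support commutes with `L`. -/
theorem small_not_comm (s : Setup H L P') {t : Perm α} (ht : t ∈ H) (ht1 : t ≠ 1)
    (hsupp : t.support.card ≤ 4) (hcomm : ∀ g ∈ L, t * g = g * t) : False := by
  have h1 := s.small_fixed t.support hsupp (by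
    intro g hg x hx
    rw [Perm.mem_support] at hx ⊢
    have := congrArg (fun p : Perm α => p x) (hcomm g hg)
    simp only [Perm.mul_apply] at this
    rw [this]
    intro h
    exact hx (g.injective h))
  have htL := s.hcen t ht hcomm
  apply ht1
  ext x
  by_contra hx
  have hx' : x ∈ t.support := by
    rw [Perm.mem_support]; simpa using hx
  exact hx (by simpa using h1 t htL x hx')

/-- **Lemma E**. -/
theorem comm_of_mod (s : Setup H L P') {t : Perm α} (ht : t ∈ H) (W : Subgroup (Perm α))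
    (hWn : ∀ g ∈ L, ∀ w ∈ W, g * w * g⁻¹ ∈ W) (hW : ¬ L ≤ W)
    (hc : ∀ g ∈ L, t * g * t⁻¹ * g⁻¹ ∈ W) : ∀ g ∈ L, t * g = g * t := by
  classical
  have hN : (W.subgroupOf L).Normal := by
    constructor
    intro n hn g
    rw [Subgroup.mem_subgroupOf] at hn ⊢
    exact hWn g g.2 _ hn
  have hcases := LocalCore.qs_normal s.hqs (W.subgroupOf L)
  rcases hcases with htop | hcent
  · exfalso
    apply hW
    intro x hx
    have : (⟨x, hx⟩ : ↥L) ∈ W.subgroupOf L := by rw [htop]; trivial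
    rwa [Subgroup.mem_subgroupOf] at this
  -- the commutator map takes values in the centre of `L`
  have hmemL : ∀ g ∈ L, t * g * t⁻¹ * g⁻¹ ∈ L := fun g hg =>
    L.mul_mem (s.hLn t ht g hg) (L.inv_mem hg)
  have hZ : ∀ g (hg : g ∈ L), (⟨t * g * t⁻¹ * g⁻¹, hmemL g hg⟩ : ↥L) ∈ Subgroup.center ↥L := by
    intro g hg
    apply hcent
    rw [Subgroup.mem_subgroupOf]
    exact hc g hg
  have hZ' : ∀ g ∈ L, ∀ k ∈ L, (t * g * t⁻¹ * g⁻¹) * k = k * (t * g * t⁻¹ * g⁻¹) := by
    intro g hg k hk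
    have := (Subgroup.mem_center_iff.mp (hZ g hg)) ⟨k, hk⟩
    exact (congrArg Subtype.val this).symm
  let c : ↥L →* ↥(Subgroup.center ↥L) :=
    { toFun := fun g => ⟨⟨t * g * t⁻¹ * g⁻¹, hmemL g g.2⟩, hZ g g.2⟩
      map_one' := by
        apply Subtype.ext; apply Subtype.ext; simp
      map_mul' := by
        intro a b
        apply Subtype.ext; apply Subtype.ext
        have h1 := hZ' b b.2 a a.2
        show t * (a.1 * b.1) * t⁻¹ * (a.1 * b.1)⁻¹ = (t * a.1 * t⁻¹ * a.1⁻¹) * (t * b.1 * t⁻¹ * b.1⁻¹)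
        have h2 : a.1 * (t * b.1 * t⁻¹ * b.1⁻¹) * a.1⁻¹ = t * b.1 * t⁻¹ * b.1⁻¹ := by
          rw [← h1]; group
        calc t * (a.1 * b.1) * t⁻¹ * (a.1 * b.1)⁻¹
            = (t * a.1 * t⁻¹ * a.1⁻¹) * (a.1 * (t * b.1 * t⁻¹ * b.1⁻¹) * a.1⁻¹) := by group
          _ = _ := by rw [h2] }
  intro g hg
  have hsol : Group.IsSolvable ↥(Subgroup.center ↥L) := Group.isSolvable_of_comm (fun a b => Subtype.ext (Subgroup.mem_center_iff.mp b.2 a.1))
  have h1 := Cfsg.Agent.Lib.BenderPair.hom_trivial_of_perfect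
    (LocalCore.qs_commutator s.hqs) c ⟨g, hg⟩
  have h2 : t * g * t⁻¹ * g⁻¹ = 1 := by
    have := congrArg (fun z : ↥(Subgroup.center ↥L) => ((z : ↥L) : Perm α)) h1
    simpa [c] using this
  have h3 : t * g * t⁻¹ = g := by
    rw [mul_inv_eq_one] at h2; exact h2
  rw [mul_inv_eq_iff_eq_mul] at h3
  exact h3

/-- **Lemma E'**. -/
theorem false_of_mod (s : Setup H L P') {t : Perm α} (ht : t ∈ H) (ht1 : t ≠ 1)
    (hsupp : t.support.card ≤ 4) (W : Subgroup (Perm α))
    (hWn : ∀ g ∈ L, ∀ w ∈ W, g * w * g⁻¹ ∈ W) (hW : ¬ L ≤ W)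
    (hc : ∀ g ∈ L, t * g * t⁻¹ * g⁻¹ ∈ W) : False :=
  s.small_not_comm ht ht1 hsupp (s.comm_of_mod ht W hWn hW hc)

end Setup

end Cfsg.Agent.Lib.AltFStar
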