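import Mathlib
import Cfsg.Agent.Lib.AltFStarA

/-!
# Subgroups of `Perm α` containing a Sylow 2-subgroup of `Alt α`, with quasisimple `F*`: part B

Large support, transitivity and primitivity on the support of `L`.
-/

set_option autoImplicit false

open Cfsg Equiv Equiv.Perm

namespace Cfsg.Agent.Lib.AltFStar

variable {α : Type*} [Fintype α] [DecidableEq α]

/-- The support of a subgroup. -/
def Sig (L : Subgroup (Perm α)) : Set α := {x | ∃ g ∈ L, g x ≠ x}

omit [Fintype α] [DecidableEq α] in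
theorem mem_sig {L : Subgroup (Perm α)} {x : α} : x ∈ Sig L ↔ ∃ g ∈ L, g x ≠ x := Iff.rfl

omit [Fintype α] [DecidableEq α] in
theorem fix_of_not_sig {L : Subgroup (Perm α)} {x : α} (hx : x ∉ Sig L) {g : Perm α} (hg : g ∈ L) :
    g x = x := by
  by_contra h
  exact hx ⟨g, hg, h⟩

omit [Fintype α] in
theorem swap_mem_stabS {Y : Set α} {a b : α} (h : a ∈ Y ↔ b ∈ Y) : swap a b ∈ StabS Y := by
  intro x
  by_cases hxa : x = a
  · subst hxa; simp [h]
  by_cases hxb : x = b
  · subst hxb; simp [h]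
  rw [swap_apply_of_ne_of_ne hxa hxb]

omit [Fintype α] in
theorem swap_mem_kerR {r : Setoid α} {a b : α} (h : r a b) : swap a b ∈ KerR r := by
  intro x
  by_cases hxa : x = a
  · subst hxa; simpa using h
  by_cases hxb : x = b
  · subst hxb; simpa using r.symm h
  rw [swap_apply_of_ne_of_ne hxa hxb]

omit [Fintype α] [DecidableEq α] in
theorem kerR_le_autR (r : Setoid α) : KerR r ≤ AutR r := by
  intro π (hπ : ∀ x, r x (π x)) x y
  exact ⟨fun h => r.trans (hπ x) (r.trans h (r.symm (hπ y))),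
    fun h => r.trans (r.symm (hπ x)) (r.trans h (hπ y))⟩

omit [Fintype α] [DecidableEq α] in
theorem autR_conj_kerR {r : Setoid α} {g w : Perm α} (hg : g ∈ AutR r) (hw : w ∈ KerR r) :
    g * w * g⁻¹ ∈ KerR r := by
  intro x
  have h1 : ∀ x y, r (g x) (g y) ↔ r x y := hg
  have h2 : ∀ x, r x (w x) := hw
  have := (h1 (g⁻¹ x) (w (g⁻¹ x))).2 (h2 _)
  simpa using this

omit [Fintype α] in
theorem dt_comm {a b c d : α} (hac : a ≠ c) (had : a ≠ d) (hbc : b ≠ c) (hbd : b ≠ d) :
    swap a b * swap c d = swap c d * swap a b := by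
  have hd : Disjoint (swap a b) (swap c d) := by
    intro x
    by_cases hxa : x = a
    · right; subst hxa; exact swap_apply_of_ne_of_ne hac had
    by_cases hxb : x = b
    · right; subst hxb; exact swap_apply_of_ne_of_ne hbc hbd
    left; exact swap_apply_of_ne_of_ne hxa hxb
  exact hd.commute

omit [Fintype α] in
theorem dt_invol {a b c d : α} (hac : a ≠ c) (had : a ≠ d) (hbc : b ≠ c) (hbd : b ≠ d) :
    swap a b * swap c d * (swap a b * swap c d) = 1 := by
  rw [dt_comm hac had hbc hbd]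
  calc swap c d * swap a b * (swap c d * swap a b)
      = swap c d * (swap a b * swap c d) * swap a b := by group
    _ = swap c d * (swap c d * swap a b) * swap a b := by rw [dt_comm hac had hbc hbd]
    _ = (swap c d * swap c d) * (swap a b * swap a b) := by group
    _ = 1 := by simp

omit [Fintype α] in
theorem dt_ne_one {a b c d : α} (hab : a ≠ b) (hac : a ≠ c) (had : a ≠ d) :
    swap a b * swap c d ≠ 1 := by
  intro h
  have := congrArg (fun p : Perm α => p a) h
  simp only [Perm.mul_apply, Perm.one_apply] at this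
  rw [swap_apply_of_ne_of_ne hac had, swap_apply_left] at this
  exact hab this.symm

theorem dt_support {a b c d : α} : (swap a b * swap c d).support.card ≤ 4 := by
  have h1 : (swap a b * swap c d).support ⊆ (swap a b).support ∪ (swap c d).support :=
    support_mul_le _ _
  have h2 : ∀ x y : α, (swap x y).support.card ≤ 2 := by
    intro x y
    by_cases hxy : x = y
    · subst hxy; simp
    · rw [card_support_swap hxy]
  calc _ ≤ _ := Finset.card_le_card h1
    _ ≤ _ := Finset.card_union_le _ _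
    _ ≤ 4 := by have := h2 a b; have := h2 c d; omega

omit [Fintype α] in
theorem exists_four (Y : Finset α) (h : 4 ≤ Y.card) :
    ∃ a ∈ Y, ∃ b ∈ Y, ∃ c ∈ Y, ∃ d ∈ Y, a ≠ b ∧ a ≠ c ∧ a ≠ d ∧ b ≠ c ∧ b ≠ d ∧ c ≠ d := by
  obtain ⟨a, ha, b, hb, hab⟩ := Finset.one_lt_card.1 (by omega : 1 < Y.card)
  have h2 : 1 < ((Y.erase a).erase b).card := by
    rw [Finset.card_erase_of_mem (Finset.mem_erase.2 ⟨hab.symm, hb⟩), Finset.card_erase_of_mem ha]
    omega
  obtain ⟨c, hc, d, hd, hcd⟩ := Finset.one_lt_card.1 h2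
  simp only [Finset.mem_erase] at hc hd
  exact ⟨a, ha, b, hb, c, hc.2.2, d, hd.2.2, hab, hc.2.1.symm, hd.2.1.symm, hc.1.symm, hd.1.symm, hcd⟩

namespace Setup

variable {H L P' : Subgroup (Perm α)}

theorem dt_conj (s : Setup H L P') (M : Subgroup (Perm α)) (hM : P' ≤ M) {a b c d : α}
    (hab : a ≠ b) (hac : a ≠ c) (had : a ≠ d) (hbc : b ≠ c) (hbd : b ≠ d) (hcd : c ≠ d)
    (ht : swap a b * swap c d ∈ M) : ∃ m ∈ M, swap (m a) (m b) * swap (m c) (m d) ∈ P' := by
  obtain ⟨m, hm, h⟩ := s.hconj M hM {swap a b * swap c d} (by simpa using ht)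
    (by
      simp only [Set.singleton_subset_iff, SetLike.mem_coe]
      rw [mem_alternatingGroup]
      simp [sign_swap hab, sign_swap hcd])
    (by
      intro x hx
      rw [Set.mem_singleton_iff] at hx
      subst hx
      exact dt_invol hac had hbc hbd)
    (by
      intro x hx y hy
      rw [Set.mem_singleton_iff] at hx hy
      subst hx; subst hy; rfl)
  refine ⟨m, hm, ?_⟩
  have := h _ rfl
  rwa [conj_swap_mul_swap] at this

theorem sig_stab (s : Setup H L P') : H ≤ StabS (Sig L) := by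
  have key : ∀ h ∈ H, ∀ x, x ∈ Sig L → h x ∈ Sig L := by
    rintro h hh x ⟨g, hg, hgx⟩
    refine ⟨h * g * h⁻¹, s.hLn h hh g hg, ?_⟩
    simp only [Perm.mul_apply]
    rw [show h⁻¹ (h x) = x by simp]
    intro h1
    exact hgx (h.injective h1)
  intro h hh x
  refine ⟨fun hx => ?_, key h hh x⟩
  have := key h⁻¹ (H.inv_mem hh) _ hx
  simpa using this

/-- **Step 1**: at most 3 points lie outside the support of `L`. -/
theorem compl_card_le (s : Setup H L P') (Y : Finset α) (hY : ∀ x ∈ Y, x ∉ Sig L) : Y.card ≤ 3 := by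
  by_contra hcard
  obtain ⟨a, ha, b, hb, c, hc, d, hd, hab, hac, had, hbc, hbd, hcd⟩ :=
    exists_four Y (by omega)
  have hPM : P' ≤ StabS (Sig L) := s.hPH.trans s.sig_stab
  have h1 := (StabS (Sig L)).mul_mem
    (swap_mem_stabS (Y := Sig L) (a := a) (b := b) (by simp [hY a ha, hY b hb]))
    (swap_mem_stabS (Y := Sig L) (a := c) (b := d) (by simp [hY c hc, hY d hd]))
  obtain ⟨m, hm, ht⟩ := s.dt_conj _ hPM hab hac had hbc hbd hcd h1
  have hm' : ∀ x, m x ∈ Sig L ↔ x ∈ Sig L := hm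
  have hnot : ∀ x ∈ Y, m x ∉ Sig L := fun x hx h => hY x hx ((hm' x).1 h)
  refine s.small_not_comm (s.hPH ht) (dt_ne_one (m.injective.ne hab) (m.injective.ne hac)
    (m.injective.ne had)) dt_support ?_
  intro g hg
  have h2 := conj_swap_mul_swap g (m a) (m b) (m c) (m d)
  rw [fix_of_not_sig (hnot a ha) hg, fix_of_not_sig (hnot b hb) hg, fix_of_not_sig (hnot c hc) hg,
    fix_of_not_sig (hnot d hd) hg] at h2
  rw [mul_inv_eq_iff_eq_mul] at h2
  exact h2.symm

/-- **Block lemma, second half**. -/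
theorem blk (s : Setup H L P') (r : Setoid α) (hr : H ≤ AutR r) (hL : L ≤ KerR r) {x y : α}
    (hx : x ∈ Sig L) (hy : y ∈ Sig L) (hxy : ¬ r x y) : False := by
  classical
  have hg' : ∀ g ∈ L, ∀ v, r v (g v) := fun g hg => hL hg
  let Cx : Finset α := Finset.univ.filter (fun w => r x w)
  have hCx : ∀ w, w ∈ Cx ↔ r x w := by intro w; simp [Cx]
  have hcard : 4 ≤ Cx.card := by
    by_contra hc
    have h1 := s.small_fixed Cx (by omega) (by
      intro g hg v hv
      rw [hCx] at hv ⊢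
      exact r.trans hv (hg' g hg v))
    obtain ⟨g, hg, hgx⟩ := hx
    exact hgx (h1 g hg x ((hCx x).2 (r.refl x)))
  obtain ⟨a, ha, b, hb, c, hc, d, hd, hab, hac, had, hbc, hbd, hcd⟩ := exists_four Cx hcard
  rw [hCx] at ha hb hc hd
  have hPM : P' ≤ AutR r := s.hPH.trans hr
  have h1 := (AutR r).mul_mem
    (kerR_le_autR r (swap_mem_kerR (r.trans (r.symm ha) hb)))
    (kerR_le_autR r (swap_mem_kerR (r.trans (r.symm hc) hd)))
  obtain ⟨m, hm, ht⟩ := s.dt_conj _ hPM hab hac had hbc hbd hcd h1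
  have hm' : ∀ x y, r (m x) (m y) ↔ r x y := hm
  set t := swap (m a) (m b) * swap (m c) (m d) with htdef
  have htH : t ∈ H := s.hPH ht
  have ht1 : t ≠ 1 := dt_ne_one (m.injective.ne hab) (m.injective.ne hac) (m.injective.ne had)
  have hra : ∀ w, ¬ r (m a) w → t w = w := by
    intro w hw
    have hne : ∀ u, r x u → w ≠ m u := by
      rintro u hu rfl
      exact hw ((hm' _ _).2 (r.trans (r.symm ha) hu))
    rw [htdef, Perm.mul_apply, swap_apply_of_ne_of_ne (hne c hc) (hne d hd),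
      swap_apply_of_ne_of_ne (hne a ha) (hne b hb)]
  obtain ⟨z, hz, hpz⟩ : ∃ z ∈ Sig L, ¬ r (m a) z := by
    by_cases h : r (m a) x
    · exact ⟨y, hy, fun h2 => hxy (r.trans (r.symm h) h2)⟩
    · exact ⟨x, hx, h⟩
  refine s.false_of_mod htH ht1 dt_support (FixS {w | r z w}) ?_ ?_ ?_
  · intro g hg w hw v hv
    have hinv : g⁻¹ v ∈ ({w | r z w} : Set α) := by
      have h3 : r z v := hv
      exact r.trans h3 (hg' g⁻¹ (L.inv_mem hg) v)
    have h4 : w (g⁻¹ v) = g⁻¹ v := hw _ hinv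
    rw [Perm.mul_apply, Perm.mul_apply, h4]
    simp
  · intro hLW
    obtain ⟨g, hg, hgz⟩ := hz
    exact hgz (hLW hg z (r.refl z))
  · intro g hg v hv
    have hv' : r z v := hv
    have hinv : r z (g⁻¹ v) := r.trans hv' (hg' g⁻¹ (L.inv_mem hg) v)
    have h5 : t⁻¹ (g⁻¹ v) = g⁻¹ v := by
      rw [Perm.inv_eq_iff_eq]
      exact (hra _ (fun h => hpz (r.trans h (r.symm hinv)))).symm
    simp only [Perm.mul_apply, h5]
    rw [show g (g⁻¹ v) = v by simp]
    exact hra _ (fun h => hpz (r.trans h (r.symm hv')))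

/-- **Block lemma, first half**. -/
theorem blk2 (s : Setup H L P') (r : Setoid α) (hr : H ≤ AutR r) {a a' d d' : α} (ha : a ≠ a')
    (hra : r a a') (hd : d ≠ d') (hrd : r d d') (hn : ¬ r a d) : L ≤ KerR r := by
  by_contra hK
  have had : a ≠ d := by
    rintro rfl; exact hn (r.refl _)
  have had' : a ≠ d' := by
    rintro rfl; exact hn (r.symm hrd)
  have ha'd : a' ≠ d := by
    rintro rfl; exact hn hra
  have ha'd' : a' ≠ d' := by
    rintro rfl; exact hn (r.trans hra (r.symm hrd))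
  have hPM : P' ≤ AutR r := s.hPH.trans hr
  have h1 := (AutR r).mul_mem (kerR_le_autR r (swap_mem_kerR hra))
    (kerR_le_autR r (swap_mem_kerR hrd))
  obtain ⟨m, hm, ht⟩ := s.dt_conj _ hPM ha had had' ha'd ha'd' hd h1
  have hm' : ∀ x y, r (m x) (m y) ↔ r x y := hm
  have htK : swap (m a) (m a') * swap (m d) (m d') ∈ KerR r :=
    (KerR r).mul_mem (swap_mem_kerR ((hm' _ _).2 hra)) (swap_mem_kerR ((hm' _ _).2 hrd))
  refine s.false_of_mod (s.hPH ht) (dt_ne_one (m.injective.ne ha) (m.injective.ne had)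
    (m.injective.ne had')) dt_support (KerR r) ?_ hK ?_
  · intro g hg w hw
    exact autR_conj_kerR (hr (s.hLH hg)) hw
  · intro g hg
    rw [mul_assoc, mul_assoc]
    refine (KerR r).mul_mem htK ?_
    rw [← mul_assoc]
    exact autR_conj_kerR (hr (s.hLH hg)) ((KerR r).inv_mem htK)

/-- The orbit relation of a subgroup. -/
def orbS (H : Subgroup (Perm α)) : Setoid α where
  r x y := ∃ h ∈ H, h x = y
  iseqv := by
    refine ⟨fun x => ⟨1, H.one_mem, rfl⟩, ?_, ?_⟩
    · rintro x y ⟨h, hh, rfl⟩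
      exact ⟨h⁻¹, H.inv_mem hh, by simp⟩
    · rintro x y z ⟨h, hh, rfl⟩ ⟨k, hk, rfl⟩
      exact ⟨k * h, H.mul_mem hk hh, rfl⟩

/-- **Step 2**: `H` is transitive on the support of `L`. -/
theorem transitive (s : Setup H L P') {x y : α} (hx : x ∈ Sig L) (hy : y ∈ Sig L) :
    ∃ h ∈ H, h x = y := by
  by_contra hxy
  refine s.blk (orbS H) ?_ ?_ hx hy hxy
  · intro k hk x y
    constructor
    · rintro ⟨h, hh, hxy⟩
      refine ⟨k⁻¹ * h * k, H.mul_mem (H.mul_mem (H.inv_mem hk) hh) hk, ?_⟩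
      simp only [Perm.mul_apply]
      rw [hxy]; simp
    · rintro ⟨h, hh, rfl⟩
      refine ⟨k * h * k⁻¹, H.mul_mem (H.mul_mem hk hh) (H.inv_mem hk), ?_⟩
      simp
  · intro g hg x
    exact ⟨g, s.hLH hg, rfl⟩

/-- The restriction homomorphism from a stabilizer to the permutations of the set. -/
def res {Y : Set α} (hH : H ≤ StabS Y) : ↥H →* Perm ↥Y where
  toFun h := (h : Perm α).subtypePerm (fun x => hH h.2 x)
  map_one' := by ext x; simp
  map_mul' := by intro a b; ext x; rfl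

omit [Fintype α] [DecidableEq α] in
@[simp] theorem res_apply {Y : Set α} (hH : H ≤ StabS Y) (h : ↥H) (x : ↥Y) :
    ((res hH h x : ↥Y) : α) = (h : Perm α) x := rfl

/-- **Step 3**: the restriction of `H` to the support of `L` is primitive. -/
theorem preprimitive (s : Setup H L P') :
    MulAction.IsPreprimitive ↥(res s.sig_stab).range ↥(Sig L) := by
  classical
  have htr : MulAction.IsPretransitive ↥(res s.sig_stab).range ↥(Sig L) := by
    constructor
    intro x y
    obtain ⟨h, hh, hxy⟩ := s.transitive x.2 y.2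
    refine ⟨⟨res s.sig_stab ⟨h, hh⟩, ⟨_, rfl⟩⟩, ?_⟩
    apply Subtype.ext
    exact hxy
  refine { htr with isTrivialBlock_of_isBlock := ?_ }
  intro B hB
  by_contra hnt
  unfold MulAction.IsTrivialBlock at hnt
  push Not at hnt
  obtain ⟨hns, hnu⟩ := hnt
  obtain ⟨u, hu, v, hv, huv⟩ := hns
  obtain ⟨w, hw⟩ : ∃ w, w ∉ B := by
    by_contra hall
    push Not at hall
    exact hnu (Set.eq_univ_of_forall hall)
  -- the block property in `α`
  let B' : Set α := Subtype.val '' B
  have hB' : ∀ (x : ↥(Sig L)), x.1 ∈ B' ↔ x ∈ B := by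
    intro x
    constructor
    · rintro ⟨y, hy, hyx⟩
      have : y = x := Subtype.ext hyx
      rwa [← this]
    · intro hx; exact ⟨x, hx, rfl⟩
  have hbl : ∀ h ∈ H, ∀ x ∈ B', h x ∈ B' → ∀ y ∈ B', h y ∈ B' := by
    rintro h hh _ ⟨x, hx, rfl⟩ hhx _ ⟨y, hy, rfl⟩
    have h1 := (MulAction.isBlock_iff_smul_eq_of_mem.1 hB)
      (g := ⟨res s.sig_stab ⟨h, hh⟩, ⟨_, rfl⟩⟩) (a := x) hx (by
        rw [← hB']
        exact hhx)
    have h2 : ((⟨res s.sig_stab ⟨h, hh⟩, ⟨_, rfl⟩⟩ : ↥(res s.sig_stab).range) • y) ∈ B := by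
      rw [← h1]
      exact Set.smul_mem_smul_set hy
    rw [← hB'] at h2
    exact h2
  let r : Setoid α :=
    { r := fun x y => x = y ∨ ∃ h ∈ H, h x ∈ B' ∧ h y ∈ B'
      iseqv := by
        refine ⟨fun x => Or.inl rfl, ?_, ?_⟩
        · rintro x y (rfl | ⟨h, hh, h1, h2⟩)
          · exact Or.inl rfl
          · exact Or.inr ⟨h, hh, h2, h1⟩
        · rintro x y z (rfl | ⟨k, hk, k1, k2⟩) (rfl | ⟨l, hl, l1, l2⟩)
          · exact Or.inl rfl
          · exact Or.inr ⟨l, hl, l1, l2⟩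
          · exact Or.inr ⟨k, hk, k1, k2⟩
          · refine Or.inr ⟨l, hl, ?_, l2⟩
            have h3 := hbl (l * k⁻¹) (H.mul_mem hl (H.inv_mem hk)) (k y) k2 (by simpa using l1)
              (k x) k1
            simpa using h3 }
  have hrdef : ∀ x y, r x y ↔ (x = y ∨ ∃ h ∈ H, h x ∈ B' ∧ h y ∈ B') := fun _ _ => Iff.rfl
  have hr : H ≤ AutR r := by
    intro k hk x y
    rw [hrdef, hrdef]
    constructor
    · rintro (h1 | ⟨h, hh, h1, h2⟩)
      · exact Or.inl (k.injective h1)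
      · exact Or.inr ⟨h * k, H.mul_mem hh hk, h1, h2⟩
    · rintro (rfl | ⟨h, hh, h1, h2⟩)
      · exact Or.inl rfl
      · refine Or.inr ⟨h * k⁻¹, H.mul_mem hh (H.inv_mem hk), ?_, ?_⟩ <;> simpa
  have hr' : ∀ k ∈ H, ∀ x y, r (k x) (k y) ↔ r x y := fun k hk => hr hk
  have huv' : r u.1 v.1 :=
    Or.inr ⟨1, H.one_mem, (hB' u).2 hu, (hB' v).2 hv⟩
  have huw : ¬ r u.1 w.1 := by
    rintro (h1 | ⟨h, hh, h1, h2⟩)
    · exact hw (by rwa [← Subtype.ext h1])
    · have h3 := hbl h⁻¹ (H.inv_mem hh) (h u.1) h1 (by simpa using (hB' u).2 hu) (h w.1) h2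
      rw [show h⁻¹ (h w.1) = w.1 by simp] at h3
      exact hw ((hB' w).1 h3)
  obtain ⟨h, hh, huw'⟩ := s.transitive u.2 w.2
  have hL := s.blk2 r hr (a := u.1) (a' := v.1) (d := h u.1) (d' := h v.1)
    (fun h1 => huv (Subtype.ext h1)) huv'
    (fun h1 => huv (Subtype.ext (h.injective h1))) ((hr' h hh _ _).2 huv')
    (by rwa [huw'])
  exact s.blk r hr hL u.2 w.2 huw

end Setup

end Cfsg.Agent.Lib.AltFStar
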