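import Mathlib

set_option autoImplicit false
set_option linter.all false

namespace Cfsg.Agent.Lib.JordanSet

open MulAction SubMulAction
open scoped Pointwise

universe u v

section General

variable {G : Type u} {Ω : Type v} [Group G] [MulAction G Ω]

/-- The Jordan group moves any point of `Γ` to any other. -/
theorem exists_move {Γ : Set Ω}
    (hJ : IsPretransitive ↥(fixingSubgroup G Γᶜ) ↥(ofFixingSubgroup G Γᶜ))
    {a b : Ω} (ha : a ∈ Γ) (hb : b ∈ Γ) : ∃ h ∈ fixingSubgroup G Γᶜ, h • a = b := by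
  have ha' : a ∈ ofFixingSubgroup G Γᶜ := by
    rw [mem_ofFixingSubgroup_iff]; simpa using ha
  have hb' : b ∈ ofFixingSubgroup G Γᶜ := by
    rw [mem_ofFixingSubgroup_iff]; simpa using hb
  obtain ⟨h, hh⟩ := hJ.exists_smul_eq ⟨a, ha'⟩ ⟨b, hb'⟩
  refine ⟨h, h.2, ?_⟩
  have := congrArg Subtype.val hh
  exact this

theorem fix_of_mem {Γ : Set Ω} {h : G} (hh : h ∈ fixingSubgroup G Γᶜ) {x : Ω} (hx : x ∉ Γ) :
    h • x = x := by
  rw [mem_fixingSubgroup_iff] at hh
  exact hh x hx

/-- A point of the block outside `Γ` forces the block to contain `Γ`. -/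
theorem subset_of_mem_of_mem {Γ B : Set Ω} (hB : IsBlock G B)
    (hJ : IsPretransitive ↥(fixingSubgroup G Γᶜ) ↥(ofFixingSubgroup G Γᶜ))
    {a b : Ω} (haΓ : a ∈ Γ) (ha : a ∈ B) (hb : b ∈ B) (hbΓ : b ∉ Γ) : Γ ⊆ B := by
  intro c hc
  obtain ⟨h, hh, hac⟩ := exists_move hJ haΓ hc
  have h1 : h • b = b := fix_of_mem hh hbΓ
  have h2 : h • B = B := by
    apply hB.smul_eq_of_mem hb
    rw [h1]; exact hb
  rw [← hac, ← h2]
  exact Set.smul_mem_smul_set ha

/-- A quasiprimitive group: a block containing a Jordan set is everything. -/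
theorem eq_univ_of_subset (hqp : ∀ N : Subgroup G, N.Normal → N ≠ ⊥ → IsPretransitive ↥N Ω)
    {Γ B : Set Ω} (hB : IsBlock G B)
    (hJ : IsPretransitive ↥(fixingSubgroup G Γᶜ) ↥(ofFixingSubgroup G Γᶜ))
    {a c : Ω} (ha : a ∈ Γ) (hc : c ∈ Γ) (hac : a ≠ c) (hΓB : Γ ⊆ B) : B = Set.univ := by
  set K := (stabilizer G B).normalCore with hK
  have hle : ∀ h ∈ fixingSubgroup G Γᶜ, h ∈ K := by
    intro h hh g
    -- `h` stabilises every translate of `B`
    have h1 : h • (g⁻¹ • B) = g⁻¹ • B := by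
      rcases hB.smul_eq_smul_or_disjoint g⁻¹ 1 with h2 | h2
      · rw [one_smul] at h2
        rw [h2]
        apply hB.smul_eq_of_mem (hΓB ha)
        by_cases hha : h • a ∈ Γ
        · exact hΓB hha
        · exfalso
          apply hha
          by_contra hna
          have h3 : h • (h • a) = h • a := fix_of_mem hh hna
          have h4 := MulAction.injective h h3
          exact hna (by rw [h4]; exact ha)
      · rw [one_smul] at h2
        ext x
        rw [Set.mem_smul_set_iff_inv_smul_mem]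
        constructor
        · intro hx
          have hx1 : h⁻¹ • x ∈ g⁻¹ • B := hx
          have hx2 : h⁻¹ • x ∉ Γ := fun h3 => (Set.disjoint_left.mp h2 hx1) (hΓB h3)
          have h3 := fix_of_mem hh hx2
          rw [smul_inv_smul] at h3
          rw [h3]
          exact hx1
        · intro hx
          have hx2 : x ∉ Γ := fun h3 => (Set.disjoint_left.mp h2 hx) (hΓB h3)
          have hinv : h⁻¹ ∈ fixingSubgroup G Γᶜ := (fixingSubgroup G Γᶜ).inv_mem hh
          have h3 := fix_of_mem hinv hx2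
          rw [h3]
          exact hx
    change g * h * g⁻¹ ∈ stabilizer G B
    rw [mem_stabilizer_iff, mul_smul, mul_smul, h1, smul_inv_smul]
  have hKne : K ≠ ⊥ := by
    intro hbot
    obtain ⟨h, hh, hac'⟩ := exists_move hJ ha hc
    have h1 := hle h hh
    rw [hbot, Subgroup.mem_bot] at h1
    rw [h1, one_smul] at hac'
    exact hac hac'
  have htrans := hqp K (Subgroup.normalCore_normal _) hKne
  rw [Set.eq_univ_iff_forall]
  intro x
  obtain ⟨k, hk⟩ := htrans.exists_smul_eq a x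
  have h1 : (k : G) ∈ stabilizer G B := Subgroup.normalCore_le _ k.2
  have h2 : (k : G) • B = B := h1
  have h3 : (k : G) • a = x := hk
  rw [← h3, ← h2]
  exact Set.smul_mem_smul_set (hΓB ha)

/-- A quasiprimitive group with a Jordan set of at least two points is transitive. -/
theorem pretransitive_of_quasi
    (hqp : ∀ N : Subgroup G, N.Normal → N ≠ ⊥ → IsPretransitive ↥N Ω)
    {Γ : Set Ω} (hJ : IsPretransitive ↥(fixingSubgroup G Γᶜ) ↥(ofFixingSubgroup G Γᶜ))
    {a c : Ω} (ha : a ∈ Γ) (hc : c ∈ Γ) (hac : a ≠ c) : IsPretransitive G Ω := by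
  have hne : (⊤ : Subgroup G) ≠ ⊥ := by
    intro hbot
    obtain ⟨h, hh, hac'⟩ := exists_move hJ ha hc
    have h1 : h ∈ (⊤ : Subgroup G) := trivial
    rw [hbot, Subgroup.mem_bot] at h1
    rw [h1, one_smul] at hac'
    exact hac hac'
  have h1 := hqp ⊤ inferInstance hne
  refine ⟨fun x y => ?_⟩
  obtain ⟨g, hg⟩ := h1.exists_smul_eq x y
  exact ⟨g, hg⟩

/-- Quasiprimitive with a primitive Jordan set implies primitive. -/
theorem isPreprimitive_of_jordan
    (hqp : ∀ N : Subgroup G, N.Normal → N ≠ ⊥ → IsPretransitive ↥N Ω)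
    {Γ : Set Ω} (hJ : IsPretransitive ↥(fixingSubgroup G Γᶜ) ↥(ofFixingSubgroup G Γᶜ))
    (hJp : IsPreprimitive ↥(fixingSubgroup G Γᶜ) ↥(ofFixingSubgroup G Γᶜ))
    {a c : Ω} (ha : a ∈ Γ) (hc : c ∈ Γ) (hac : a ≠ c) : IsPreprimitive G Ω := by
  haveI := pretransitive_of_quasi hqp hJ ha hc hac
  apply IsPreprimitive.of_isTrivialBlock_base a
  intro B haB hB
  by_cases hsub : B ⊆ Γ
  · -- restrict the block
    have hb' : IsBlock ↥(fixingSubgroup G Γᶜ) ((ofFixingSubgroup_equivariantMap G Γᶜ) ⁻¹' B) :=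
      hB.preimage _
    rcases hJp.isTrivialBlock_of_isBlock hb' with h1 | h1
    · left
      intro x hx y hy
      have hx' : x ∈ ofFixingSubgroup G Γᶜ := by
        rw [mem_ofFixingSubgroup_iff]; simpa using hsub hx
      have hy' : y ∈ ofFixingSubgroup G Γᶜ := by
        rw [mem_ofFixingSubgroup_iff]; simpa using hsub hy
      have h2 : (⟨x, hx'⟩ : ofFixingSubgroup G Γᶜ) ∈
          (ofFixingSubgroup_equivariantMap G Γᶜ) ⁻¹' B := hx
      have h3 : (⟨y, hy'⟩ : ofFixingSubgroup G Γᶜ) ∈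
          (ofFixingSubgroup_equivariantMap G Γᶜ) ⁻¹' B := hy
      have := h1 h2 h3
      exact congrArg Subtype.val this
    · right
      apply eq_univ_of_subset hqp hB hJ ha hc hac
      intro x hx
      have hx' : x ∈ ofFixingSubgroup G Γᶜ := by
        rw [mem_ofFixingSubgroup_iff]; simpa using hx
      have h2 : (⟨x, hx'⟩ : ofFixingSubgroup G Γᶜ) ∈
          (ofFixingSubgroup_equivariantMap G Γᶜ) ⁻¹' B := by
        rw [h1]; trivial
      exact h2
  · right
    rw [Set.not_subset] at hsub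
    obtain ⟨b, hb, hbΓ⟩ := hsub
    exact eq_univ_of_subset hqp hB hJ ha hc hac (subset_of_mem_of_mem hB hJ ha haB hb hbΓ)

end General

end Cfsg.Agent.Lib.JordanSet
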