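import Mathlib

/-!
Marggraff's theorem: a primitive group with a Jordan set `Γ`, `1 < |Γ|`, `2|Γ| < n`, has a translate
`gΓ` meeting `Γ` in exactly one point.  We work with the closure operator whose hyperplanes are the
translates of `Δ = Γᶜ`.
-/

set_option autoImplicit false
set_option linter.all false

namespace Cfsg.Agent.Lib.Marggraff

section Geo

variable {Ω : Type*} [Fintype Ω] [DecidableEq Ω]

open Classical in
/-- closure with hyperplanes in `𝒟` -/
noncomputable def cl (𝒟 : Set (Finset Ω)) (A : Finset Ω) : Finset Ω :=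
  Finset.univ.filter (fun y => ∀ D ∈ 𝒟, A ⊆ D → y ∈ D)

variable {𝒟 : Set (Finset Ω)} {A B : Finset Ω} {x y : Ω}

theorem mem_cl : y ∈ cl 𝒟 A ↔ ∀ D ∈ 𝒟, A ⊆ D → y ∈ D := by
  classical
  simp [cl]

theorem subset_cl : A ⊆ cl 𝒟 A := by
  intro a ha
  rw [mem_cl]
  intro D _ hD
  exact hD ha

theorem cl_mono (h : A ⊆ B) : cl 𝒟 A ⊆ cl 𝒟 B := by
  intro y hy
  rw [mem_cl] at hy ⊢
  intro D hD hBD
  exact hy D hD (h.trans hBD)

theorem cl_sub (h : A ⊆ cl 𝒟 B) : cl 𝒟 A ⊆ cl 𝒟 B := by
  intro y hy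
  rw [mem_cl] at hy ⊢
  intro D hD hBD
  apply hy D hD
  intro a ha
  have := h ha
  rw [mem_cl] at this
  exact this D hD hBD

theorem cl_cl : cl 𝒟 (cl 𝒟 A) = cl 𝒟 A :=
  (cl_sub (Finset.Subset.refl _)).antisymm subset_cl

theorem cl_sub_flat {Z : Finset Ω} (hZ : cl 𝒟 Z = Z) (h : A ⊆ Z) : cl 𝒟 A ⊆ Z := by
  have := cl_mono (𝒟 := 𝒟) h
  rwa [hZ] at this

/-- all hyperplanes have size `k`, and each has a group of automorphisms fixing it pointwise and
transitive on its complement -/
structure Geo (𝒟 : Set (Finset Ω)) (k : ℕ) : Prop where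
  card : ∀ D ∈ 𝒟, D.card = k
  move : ∀ D ∈ 𝒟, ∀ a b, a ∉ D → b ∉ D → ∃ σ : Equiv.Perm Ω, (∀ x ∈ D, σ x = x) ∧ σ a = b ∧
    ∀ D' ∈ 𝒟, D'.image σ ∈ 𝒟

variable {k : ℕ}

theorem exchange (hG : Geo 𝒟 k) (hy : y ∈ cl 𝒟 (insert x A)) (hy' : y ∉ cl 𝒟 A) :
    x ∈ cl 𝒟 (insert y A) := by
  by_contra hx
  rw [mem_cl] at hx hy'
  push Not at hx hy'
  obtain ⟨D₂, hD₂, hyD₂, hxD₂⟩ := hx
  obtain ⟨D₁, hD₁, hAD₁, hyD₁⟩ := hy'
  have hAD₂ : A ⊆ D₂ := (Finset.subset_insert _ _).trans hyD₂
  have hyD₂' : y ∈ D₂ := hyD₂ (Finset.mem_insert_self _ _)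
  have hsub : D₁ ⊆ D₂ := by
    intro w hw
    by_contra hwD₂
    obtain ⟨σ, hσ, hσw, hσ𝒟⟩ := hG.move D₂ hD₂ w x hwD₂ hxD₂
    have hD' := hσ𝒟 D₁ hD₁
    have hins : insert x A ⊆ D₁.image σ := by
      intro u hu
      rw [Finset.mem_insert] at hu
      rcases hu with rfl | hu
      · exact Finset.mem_image.mpr ⟨w, hw, hσw⟩
      · exact Finset.mem_image.mpr ⟨u, hAD₁ hu, hσ u (hAD₂ hu)⟩
    have hyD' : y ∈ D₁.image σ := by
      rw [mem_cl] at hy
      exact hy _ hD' hins
    obtain ⟨v, hv, hvy⟩ := Finset.mem_image.mp hyD'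
    have h2 : σ y = y := hσ y hyD₂'
    have h3 : v = y := σ.injective (hvy.trans h2.symm)
    exact hyD₁ (h3 ▸ hv)
  have heq : D₁ = D₂ := Finset.eq_of_subset_of_card_le hsub (by rw [hG.card _ hD₁, hG.card _ hD₂])
  exact hyD₁ (heq ▸ hyD₂')

/-- `W` is covered by `Z`. -/
structure Cov (𝒟 : Set (Finset Ω)) (W Z : Finset Ω) : Prop where
  flatW : cl 𝒟 W = W
  flatZ : cl 𝒟 Z = Z
  sub : W ⊆ Z
  ne : W ≠ Z
  step : ∀ u ∈ Z, u ∉ W → cl 𝒟 (insert u W) = Z

theorem cov_of_notMem (hG : Geo 𝒟 k) {X : Finset Ω} (hX : cl 𝒟 X = X) {u : Ω} (hu : u ∉ X) :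
    Cov 𝒟 X (cl 𝒟 (insert u X)) where
  flatW := hX
  flatZ := cl_cl
  sub := (Finset.subset_insert _ _).trans subset_cl
  ne := by
    intro h
    exact hu (by rw [h]; exact subset_cl (Finset.mem_insert_self _ _))
  step := by
    intro z hz hzX
    have hzX' : z ∉ cl 𝒟 X := by rwa [hX]
    have h1 : u ∈ cl 𝒟 (insert z X) := exchange hG hz hzX'
    apply Finset.Subset.antisymm
    · apply cl_sub
      intro a ha
      rw [Finset.mem_insert] at ha
      rcases ha with rfl | ha
      · exact hz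
      · exact subset_cl (Finset.mem_insert_of_mem ha)
    · apply cl_sub
      intro a ha
      rw [Finset.mem_insert] at ha
      rcases ha with rfl | ha
      · exact h1
      · exact subset_cl (Finset.mem_insert_of_mem ha)

variable {t c : ℕ}

/-- The Steiner property: all `t`-sets have closure of size `c`. -/
def Stn (𝒟 : Set (Finset Ω)) (t c : ℕ) : Prop :=
  ∀ S : Finset Ω, S.card = t → (cl 𝒟 S).card = c

theorem blk (hS : Stn 𝒟 t c) {R S : Finset Ω} (hR : R.card = t) (hSc : S.card = t)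
    (h : R ⊆ cl 𝒟 S) : cl 𝒟 R = cl 𝒟 S :=
  Finset.eq_of_subset_of_card_le (cl_sub h) (by rw [hS R hR, hS S hSc])

/-- Tits' bound for Steiner systems. -/
theorem tits (hS : Stn 𝒟 t c) (htc : t < c) (ht : 1 ≤ t) {Z S : Finset Ω} (hZ : cl 𝒟 Z = Z)
    (hSc : S.card = t) {p : Ω} (hSZ : S ⊆ Z) (hpZ : p ∈ Z) (hpS : p ∉ cl 𝒟 S) :
    2 * c ≤ Z.card := by
  classical
  have hpS' : p ∉ S := fun h => hpS (subset_cl h)
  set A := insert p S with hA
  have hAcard : A.card = t + 1 := by rw [hA, Finset.card_insert_of_notMem hpS', hSc]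
  have hAZ : A ⊆ Z := by
    intro a ha
    rw [hA, Finset.mem_insert] at ha
    rcases ha with rfl | ha
    · exact hpZ
    · exact hSZ ha
  have herase : ∀ a ∈ A, (A.erase a).card = t := by
    intro a ha
    rw [Finset.card_erase_of_mem ha, hAcard]; rfl
  -- `a ∉ C a`
  have hnot : ∀ a ∈ A, a ∉ cl 𝒟 (A.erase a) := by
    intro a ha hmem
    have hAsub : A ⊆ cl 𝒟 (A.erase a) := by
      intro b hb
      by_cases hba : b = a
      · rw [hba]; exact hmem
      · exact subset_cl (Finset.mem_erase.mpr ⟨hba, hb⟩)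
    have hSsub : S ⊆ cl 𝒟 (A.erase a) :=
      (Finset.subset_insert _ _).trans hAsub
    have := blk hS hSc (herase a ha) hSsub
    apply hpS
    rw [this]
    exact hAsub (Finset.mem_insert_self _ _)
  -- disjointness
  have hdisj : ∀ a ∈ A, ∀ b ∈ A, a ≠ b → ∀ z, z ∈ cl 𝒟 (A.erase a) → z ∈ cl 𝒟 (A.erase b) →
      z ∉ A → False := by
    intro a ha b hb hab z hza hzb hzA
    set R := insert z ((A.erase a).erase b) with hR
    have hbmem : b ∈ A.erase a := Finset.mem_erase.mpr ⟨hab.symm, hb⟩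
    have hzR : z ∉ (A.erase a).erase b := fun h =>
      hzA (Finset.mem_of_mem_erase (Finset.mem_of_mem_erase h))
    have hRcard : R.card = t := by
      rw [hR, Finset.card_insert_of_notMem hzR, Finset.card_erase_of_mem hbmem, herase a ha]
      omega
    have hRa : R ⊆ cl 𝒟 (A.erase a) := by
      intro u hu
      rw [hR, Finset.mem_insert] at hu
      rcases hu with rfl | hu
      · exact hza
      · exact subset_cl (Finset.mem_of_mem_erase hu)
    have hRb : R ⊆ cl 𝒟 (A.erase b) := by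
      intro u hu
      rw [hR, Finset.mem_insert] at hu
      rcases hu with rfl | hu
      · exact hzb
      · rw [Finset.mem_erase] at hu
        have hu2 := Finset.mem_erase.mp hu.2
        exact subset_cl (Finset.mem_erase.mpr ⟨hu.1, hu2.2⟩)
    have h1 := blk hS hRcard (herase a ha) hRa
    have h2 := blk hS hRcard (herase b hb) hRb
    apply hnot b hb
    rw [← h2, h1]
    exact subset_cl hbmem
  -- counting
  have hcardpiece : ∀ a ∈ A, (cl 𝒟 (A.erase a) \ A).card = c - t := by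
    intro a ha
    have h1 : cl 𝒟 (A.erase a) \ A = cl 𝒟 (A.erase a) \ A.erase a := by
      ext u
      simp only [Finset.mem_sdiff, Finset.mem_erase]
      constructor
      · rintro ⟨h1, h2⟩
        exact ⟨h1, fun h => h2 h.2⟩
      · rintro ⟨h1, h2⟩
        refine ⟨h1, fun h3 => h2 ⟨?_, h3⟩⟩
        rintro rfl
        exact hnot _ ha h1
    rw [h1, Finset.card_sdiff_of_subset subset_cl, hS _ (herase a ha), herase a ha]
  have hbU : (A.biUnion (fun a => cl 𝒟 (A.erase a) \ A)).card = (t + 1) * (c - t) := by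
    rw [Finset.card_biUnion]
    · rw [Finset.sum_congr rfl hcardpiece, Finset.sum_const, hAcard, smul_eq_mul]
    · intro a ha b hb hab
      show Disjoint _ _
      rw [Finset.disjoint_left]
      intro z hz hz'
      rw [Finset.mem_sdiff] at hz hz'
      exact hdisj a ha b hb hab z hz.1 hz'.1 hz.2
  have hsubZ : A ∪ A.biUnion (fun a => cl 𝒟 (A.erase a) \ A) ⊆ Z := by
    apply Finset.union_subset hAZ
    intro u hu
    rw [Finset.mem_biUnion] at hu
    obtain ⟨a, ha, hu⟩ := hu
    rw [Finset.mem_sdiff] at hu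
    have : cl 𝒟 (A.erase a) ⊆ Z := cl_sub_flat hZ ((Finset.erase_subset _ _).trans hAZ)
    exact this hu.1
  have hdj : Disjoint A (A.biUnion (fun a => cl 𝒟 (A.erase a) \ A)) := by
    rw [Finset.disjoint_left]
    intro u hu hu'
    rw [Finset.mem_biUnion] at hu'
    obtain ⟨a, ha, hu'⟩ := hu'
    exact (Finset.mem_sdiff.mp hu').2 hu
  have hle := Finset.card_le_card hsubZ
  rw [Finset.card_union_of_disjoint hdj, hAcard, hbU] at hle
  obtain ⟨e, rfl⟩ : ∃ e, c = t + 1 + e := ⟨c - (t + 1), by omega⟩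
  have h3 : t + 1 + e - t = e + 1 := by omega
  rw [h3] at hle
  nlinarith [Nat.mul_le_mul_right e ht]

/-- Every flat properly above a block has a cover of at most half of its size. -/
theorem good (hG : Geo 𝒟 k) (hS : Stn 𝒟 t c) (htc : t < c) (ht : 2 ≤ t) :
    ∀ (N : ℕ) (Z : Finset Ω), Z.card = N → cl 𝒟 Z = Z → ∀ S : Finset Ω, S.card = t →
      cl 𝒟 S ⊆ Z → cl 𝒟 S ≠ Z →
      ∃ W, Cov 𝒟 W Z ∧ (∃ S' : Finset Ω, S'.card = t ∧ cl 𝒟 S' ⊆ W) ∧ 2 * W.card ≤ Z.card := by
  classical
  intro N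
  induction N using Nat.strong_induction_on with
  | _ N ih =>
  intro Z hN hZ S hS0 hSZ hne
  -- existence of a cover above a block
  set Q : Finset Ω → Prop := fun W => cl 𝒟 W = W ∧ cl 𝒟 S ⊆ W ∧ W ⊆ Z ∧ W ≠ Z with hQ
  have hQ0 : (Finset.univ.filter Q).Nonempty :=
    ⟨cl 𝒟 S, Finset.mem_filter.mpr ⟨Finset.mem_univ _, cl_cl, Finset.Subset.refl _, hSZ, hne⟩⟩
  obtain ⟨W₀, hW₀, hW₀max⟩ := Finset.exists_max_image _ Finset.card hQ0
  obtain ⟨-, hW₀f, hW₀S, hW₀Z, hW₀ne⟩ := Finset.mem_filter.mp hW₀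
  set P : Finset Ω → Prop :=
    fun W => Cov 𝒟 W Z ∧ ∃ S' : Finset Ω, S'.card = t ∧ cl 𝒟 S' ⊆ W with hP
  have hPW₀ : P W₀ := by
    refine ⟨⟨hW₀f, hZ, hW₀Z, hW₀ne, ?_⟩, S, hS0, hW₀S⟩
    intro u huZ huW
    by_contra hcon
    have hins : insert u W₀ ⊆ Z := Finset.insert_subset huZ hW₀Z
    have hmem : cl 𝒟 (insert u W₀) ∈ Finset.univ.filter Q := by
      refine Finset.mem_filter.mpr ⟨Finset.mem_univ _, cl_cl, ?_, cl_sub_flat hZ hins, hcon⟩
      exact hW₀S.trans ((Finset.subset_insert _ _).trans subset_cl)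
    have hle := hW₀max _ hmem
    have hlt : W₀.card < (cl 𝒟 (insert u W₀)).card := by
      apply Finset.card_lt_card
      refine ⟨(Finset.subset_insert _ _).trans subset_cl, fun h => huW (h ?_)⟩
      exact subset_cl (Finset.mem_insert_self _ _)
    omega
  have hP0 : (Finset.univ.filter P).Nonempty := ⟨W₀, Finset.mem_filter.mpr ⟨Finset.mem_univ _, hPW₀⟩⟩
  obtain ⟨W, hW, hWmin⟩ := Finset.exists_min_image _ Finset.card hP0
  obtain ⟨-, hWcov, S', hS'c, hS'W⟩ := Finset.mem_filter.mp hW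
  refine ⟨W, hWcov, ⟨S', hS'c, hS'W⟩, ?_⟩
  have hWZ : W ⊂ Z := ⟨hWcov.sub, fun h => hWcov.ne (Finset.Subset.antisymm hWcov.sub h)⟩
  obtain ⟨p, hpZ, hpW⟩ := Finset.exists_of_ssubset hWZ
  by_cases hblock : cl 𝒟 S' = W
  · -- `W` is a block: Tits
    have h1 : W.card = c := by rw [← hblock]; exact hS S' hS'c
    rw [h1]
    refine tits hS htc (by omega) hZ hS'c ?_ hpZ (by rwa [hblock])
    exact subset_cl.trans (hS'W.trans hWcov.sub)
  · -- induct
    have hWlt : W.card < N := hN ▸ Finset.card_lt_card hWZ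
    obtain ⟨W', hW'cov, ⟨S'', hS''c, hS''W'⟩, hW'2⟩ :=
      ih W.card hWlt W rfl hWcov.flatW S' hS'c hS'W hblock
    have hW'W : W' ⊂ W := ⟨hW'cov.sub, fun h => hW'cov.ne (Finset.Subset.antisymm hW'cov.sub h)⟩
    obtain ⟨y, hyW, hyW'⟩ := Finset.exists_of_ssubset hW'W
    have hW'f := hW'cov.flatW
    have hW'Z : W' ⊆ Z := hW'cov.sub.trans hWcov.sub
    have hpW' : p ∉ W' := fun h => hpW (hW'cov.sub h)
    -- the auxiliary set
    have hcardW' : t - 2 ≤ W'.card := by
      have h1 : S''.card ≤ W'.card := Finset.card_le_card (subset_cl.trans hS''W')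
      omega
    obtain ⟨T, hTW', hTc⟩ := Finset.exists_subset_card_eq hcardW'
    have hyT : y ∉ T := fun h => hyW' (hTW' h)
    have hpT : p ∉ T := fun h => hpW' (hTW' h)
    have hyp : y ≠ p := fun h => hpW (h ▸ hyW)
    set R := insert y (insert p T) with hR
    have hRc : R.card = t := by
      rw [hR, Finset.card_insert_of_notMem, Finset.card_insert_of_notMem hpT, hTc]
      · omega
      · rw [Finset.mem_insert]
        push Not
        exact ⟨hyp, hyT⟩
    have hRZ : R ⊆ Z := by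
      intro u hu
      rw [hR, Finset.mem_insert, Finset.mem_insert] at hu
      rcases hu with rfl | rfl | hu
      · exact hWcov.sub hyW
      · exact hpZ
      · exact hW'Z (hTW' hu)
    have hcl : (cl 𝒟 R).card = c := hS R hRc
    obtain ⟨z, hzC, hzR⟩ := Finset.exists_mem_notMem_of_card_lt_card (s := R) (t := cl 𝒟 R)
      (by rw [hRc, hcl]; exact htc)
    have hzZ : z ∈ Z := cl_sub_flat hZ hRZ hzC
    have hzy : z ≠ y := fun h => hzR (h ▸ Finset.mem_insert_self _ _)
    have hzp : z ≠ p := fun h => hzR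
      (h ▸ Finset.mem_insert_of_mem (Finset.mem_insert_self _ _))
    have hzT : z ∉ T := fun h => hzR (Finset.mem_insert_of_mem (Finset.mem_insert_of_mem h))
    -- `z ∉ W`
    have hzW : z ∉ W := by
      intro hzW
      set R' := insert y (insert z T) with hR'
      have hR'c : R'.card = t := by
        rw [hR', Finset.card_insert_of_notMem, Finset.card_insert_of_notMem hzT, hTc]
        · omega
        · rw [Finset.mem_insert]
          push Not
          exact ⟨hzy.symm, hyT⟩
      have hR'C : R' ⊆ cl 𝒟 R := by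
        intro u hu
        rw [hR', Finset.mem_insert, Finset.mem_insert] at hu
        rcases hu with rfl | rfl | hu
        · exact subset_cl (Finset.mem_insert_self _ _)
        · exact hzC
        · exact subset_cl (Finset.mem_insert_of_mem (Finset.mem_insert_of_mem hu))
      have heq := blk hS hR'c hRc hR'C
      have hR'W : R' ⊆ W := by
        intro u hu
        rw [hR', Finset.mem_insert, Finset.mem_insert] at hu
        rcases hu with rfl | rfl | hu
        · exact hyW
        · exact hzW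
        · exact hW'cov.sub (hTW' hu)
      have : p ∈ cl 𝒟 R' := by
        rw [heq]
        exact subset_cl (Finset.mem_insert_of_mem (Finset.mem_insert_self _ _))
      exact hpW (cl_sub_flat hWcov.flatW hR'W this)
    have hzW' : z ∉ W' := fun h => hzW (hW'cov.sub h)
    -- second and third flats
    set W₂ := cl 𝒟 (insert p W') with hW₂
    set W₃ := cl 𝒟 (insert z W') with hW₃
    have hW₂f : cl 𝒟 W₂ = W₂ := cl_cl
    have hW₃f : cl 𝒟 W₃ = W₃ := cl_cl
    have hW'W₂ : W' ⊆ W₂ := (Finset.subset_insert _ _).trans subset_cl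
    have hW'W₃ : W' ⊆ W₃ := (Finset.subset_insert _ _).trans subset_cl
    have hcl2 : Cov 𝒟 W' W₂ := cov_of_notMem hG hW'f hpW'
    have hcl3 : Cov 𝒟 W' W₃ := cov_of_notMem hG hW'f hzW'
    have hyW₂ : y ∉ W₂ := by
      intro h
      have hy' : y ∉ cl 𝒟 W' := by rwa [hW'f]
      have := exchange hG h hy'
      rw [hW'cov.step y hyW hyW'] at this
      exact hpW this
    have hyW₃ : y ∉ W₃ := by
      intro h
      have hy' : y ∉ cl 𝒟 W' := by rwa [hW'f]
      have := exchange hG h hy'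
      rw [hW'cov.step y hyW hyW'] at this
      exact hzW this
    have hzW₂ : z ∉ W₂ := by
      intro hzW₂
      set R' := insert p (insert z T) with hR'
      have hR'c : R'.card = t := by
        rw [hR', Finset.card_insert_of_notMem, Finset.card_insert_of_notMem hzT, hTc]
        · omega
        · rw [Finset.mem_insert]
          push Not
          exact ⟨hzp.symm, hpT⟩
      have hR'C : R' ⊆ cl 𝒟 R := by
        intro u hu
        rw [hR', Finset.mem_insert, Finset.mem_insert] at hu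
        rcases hu with rfl | rfl | hu
        · exact subset_cl (Finset.mem_insert_of_mem (Finset.mem_insert_self _ _))
        · exact hzC
        · exact subset_cl (Finset.mem_insert_of_mem (Finset.mem_insert_of_mem hu))
      have heq := blk hS hR'c hRc hR'C
      have hR'W : R' ⊆ W₂ := by
        intro u hu
        rw [hR', Finset.mem_insert, Finset.mem_insert] at hu
        rcases hu with rfl | rfl | hu
        · exact subset_cl (Finset.mem_insert_self _ _)
        · exact hzW₂
        · exact hW'W₂ (hTW' hu)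
      have : y ∈ cl 𝒟 R' := by
        rw [heq]
        exact subset_cl (Finset.mem_insert_self _ _)
      exact hyW₂ (cl_sub_flat hW₂f hR'W this)
    have hPW₂ : P W₂ := by
      have hZeq : cl 𝒟 (insert y W₂) = Z := by
        apply Finset.Subset.antisymm
        · apply cl_sub_flat hZ
          apply Finset.insert_subset (hWcov.sub hyW)
          exact cl_sub_flat hZ (Finset.insert_subset hpZ hW'Z)
        · rw [← hWcov.step p hpZ hpW]
          apply cl_sub
          apply Finset.insert_subset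
          · exact subset_cl (Finset.mem_insert_of_mem (subset_cl (Finset.mem_insert_self _ _)))
          · rw [← hW'cov.step y hyW hyW']
            apply cl_sub
            apply Finset.insert_subset
            · exact subset_cl (Finset.mem_insert_self _ _)
            · exact (hW'W₂.trans (Finset.subset_insert _ _)).trans subset_cl
      have := cov_of_notMem hG hW₂f hyW₂
      rw [hZeq] at this
      exact ⟨this, S'', hS''c, hS''W'.trans hW'W₂⟩
    have hPW₃ : P W₃ := by
      have hZeq : cl 𝒟 (insert y W₃) = Z := by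
        apply Finset.Subset.antisymm
        · apply cl_sub_flat hZ
          apply Finset.insert_subset (hWcov.sub hyW)
          exact cl_sub_flat hZ (Finset.insert_subset hzZ hW'Z)
        · rw [← hWcov.step z hzZ hzW]
          apply cl_sub
          apply Finset.insert_subset
          · exact subset_cl (Finset.mem_insert_of_mem (subset_cl (Finset.mem_insert_self _ _)))
          · rw [← hW'cov.step y hyW hyW']
            apply cl_sub
            apply Finset.insert_subset
            · exact subset_cl (Finset.mem_insert_self _ _)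
            · exact (hW'W₃.trans (Finset.subset_insert _ _)).trans subset_cl
      have := cov_of_notMem hG hW₃f hyW₃
      rw [hZeq] at this
      exact ⟨this, S'', hS''c, hS''W'.trans hW'W₃⟩
    have h2ge : W.card ≤ W₂.card := hWmin _ (Finset.mem_filter.mpr ⟨Finset.mem_univ _, hPW₂⟩)
    have h3ge : W.card ≤ W₃.card := hWmin _ (Finset.mem_filter.mpr ⟨Finset.mem_univ _, hPW₃⟩)
    -- disjointness and count
    have hd1 : Disjoint W (W₂ \ W') := by
      rw [Finset.disjoint_left]
      intro u hu hu'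
      rw [Finset.mem_sdiff] at hu'
      have h4 := hcl2.step u hu'.1 hu'.2
      apply hpW
      have h5 : p ∈ cl 𝒟 (insert u W') := by
        rw [h4]; exact subset_cl (Finset.mem_insert_self _ _)
      exact cl_sub_flat hWcov.flatW (Finset.insert_subset hu hW'cov.sub) h5
    have hd2 : Disjoint W (W₃ \ W') := by
      rw [Finset.disjoint_left]
      intro u hu hu'
      rw [Finset.mem_sdiff] at hu'
      have h4 := hcl3.step u hu'.1 hu'.2
      apply hzW
      have h5 : z ∈ cl 𝒟 (insert u W') := by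
        rw [h4]; exact subset_cl (Finset.mem_insert_self _ _)
      exact cl_sub_flat hWcov.flatW (Finset.insert_subset hu hW'cov.sub) h5
    have hd3 : Disjoint (W₂ \ W') (W₃ \ W') := by
      rw [Finset.disjoint_left]
      intro u hu hu'
      rw [Finset.mem_sdiff] at hu hu'
      have h4 := hcl2.step u hu.1 hu.2
      have h5 := hcl3.step u hu'.1 hu'.2
      apply hzW₂
      rw [← h4, h5]
      exact subset_cl (Finset.mem_insert_self _ _)
    have hsubZ : W ∪ ((W₂ \ W') ∪ (W₃ \ W')) ⊆ Z := by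
      apply Finset.union_subset hWcov.sub
      apply Finset.union_subset
      · exact (Finset.sdiff_subset).trans hPW₂.1.sub
      · exact (Finset.sdiff_subset).trans hPW₃.1.sub
    have hle := Finset.card_le_card hsubZ
    rw [Finset.card_union_of_disjoint (Finset.disjoint_union_right.mpr ⟨hd1, hd2⟩),
      Finset.card_union_of_disjoint hd3, Finset.card_sdiff_of_subset hW'W₂,
      Finset.card_sdiff_of_subset hW'W₃] at hle
    have h6 : W'.card ≤ W₂.card := Finset.card_le_card hW'W₂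
    have h7 : W'.card ≤ W₃.card := Finset.card_le_card hW'W₃
    omega

/-- If hyperplanes have more than half of the points, then the Steiner constant is trivial. -/
theorem stn_trivial (hG : Geo 𝒟 k) (hS : Stn 𝒟 t c) (ht : 2 ≤ t) (htk : t ≤ k)
    {D₀ : Finset Ω} (hD₀ : D₀ ∈ 𝒟) (hn : Fintype.card Ω < 2 * k)
    (hkn : k < Fintype.card Ω) : c = t := by
  classical
  obtain ⟨S, hSD, hSc⟩ := Finset.exists_subset_card_eq (s := D₀) (n := t)
    (by rw [hG.card _ hD₀]; exact htk)
  have hcS : (cl 𝒟 S).card = c := hS S hSc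
  have htc : t ≤ c := by
    rw [← hSc, ← hcS]
    exact Finset.card_le_card subset_cl
  by_contra hne
  have htc' : t < c := lt_of_le_of_ne htc (Ne.symm hne)
  have hclD : cl 𝒟 S ⊆ D₀ := by
    intro u hu
    rw [mem_cl] at hu
    exact hu D₀ hD₀ hSD
  have hD₀ne : D₀ ≠ Finset.univ := by
    intro h
    have := hG.card _ hD₀
    rw [h, Finset.card_univ] at this
    omega
  have hclne : cl 𝒟 S ≠ Finset.univ := by
    intro h
    apply hD₀ne
    rw [Finset.eq_univ_iff_forall] at h ⊢
    intro x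
    exact hclD (h x)
  obtain ⟨W, hW, -, hW2⟩ := good hG hS htc' ht _ Finset.univ rfl
    (Finset.Subset.antisymm (Finset.subset_univ _) subset_cl) S hSc (Finset.subset_univ _) hclne
  -- `W` is a hyperplane
  have hWne := hW.ne
  obtain ⟨y, hy⟩ : ∃ y, y ∉ W := by
    by_contra hcon
    push Not at hcon
    exact hWne (Finset.eq_univ_iff_forall.mpr hcon)
  have hy' : y ∉ cl 𝒟 W := by rwa [hW.flatW]
  rw [mem_cl] at hy'
  push Not at hy'
  obtain ⟨D, hD, hWD, hyD⟩ := hy'
  have hWeq : W = D := by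
    apply Finset.Subset.antisymm hWD
    intro u hu
    by_contra huW
    have h1 := hW.step u (Finset.mem_univ _) huW
    have h2 : cl 𝒟 (insert u W) ⊆ D := by
      intro v hv
      rw [mem_cl] at hv
      exact hv D hD (Finset.insert_subset hu hWD)
    exact hyD (h2 (by rw [h1]; exact Finset.mem_univ _))
  have h1 : W.card = k := by rw [hWeq]; exact hG.card _ hD
  rw [h1, Finset.card_univ] at hW2
  omega

end Geo

section Conn

open MulAction
open scoped Pointwise

variable {G X : Type*} [Group G] [MulAction G X]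

/-- sets obtained by gluing overlapping members of a family -/
inductive Lk (𝓐 : Set (Set X)) : Set X → Prop
  | base (A : Set X) (hA : A ∈ 𝓐) : Lk 𝓐 A
  | union (S S' : Set X) (hS : Lk 𝓐 S) (hS' : Lk 𝓐 S') (hov : (S ∩ S').Nonempty) : Lk 𝓐 (S ∪ S')

theorem Lk.sub_of_inv {𝓐 : Set (Set X)} {S B : Set X} (h : Lk 𝓐 S)
    (hB : ∀ A ∈ 𝓐, A ⊆ S → (A ∩ B).Nonempty → A ⊆ B) (hne : (S ∩ B).Nonempty) : S ⊆ B := by
  induction h with
  | base A hA => exact hB A hA (Set.Subset.refl _) hne
  | union S S' hS hS' hov ihS ihS' =>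
    have hB1 : ∀ A ∈ 𝓐, A ⊆ S → (A ∩ B).Nonempty → A ⊆ B :=
      fun A hA h1 h2 => hB A hA (h1.trans Set.subset_union_left) h2
    have hB2 : ∀ A ∈ 𝓐, A ⊆ S' → (A ∩ B).Nonempty → A ⊆ B :=
      fun A hA h1 h2 => hB A hA (h1.trans Set.subset_union_right) h2
    obtain ⟨u, hu, huB⟩ := hne
    rcases hu with hu | hu
    · have h1 := ihS hB1 ⟨u, hu, huB⟩
      obtain ⟨v, hv, hv'⟩ := hov
      have h2 := ihS' hB2 ⟨v, hv', h1 hv⟩
      exact Set.union_subset h1 h2
    · have h1 := ihS' hB2 ⟨u, hu, huB⟩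
      obtain ⟨v, hv, hv'⟩ := hov
      have h2 := ihS hB1 ⟨v, hv, h1 hv'⟩
      exact Set.union_subset h2 h1

theorem Lk.smul {𝓐 : Set (Set X)} (h𝓐 : ∀ g : G, ∀ A ∈ 𝓐, g • A ∈ 𝓐) {S : Set X} (h : Lk 𝓐 S)
    (g : G) : Lk 𝓐 (g • S) := by
  induction h with
  | base A hA => exact Lk.base _ (h𝓐 g A hA)
  | union S S' hS hS' hov ihS ihS' =>
    rw [Set.smul_set_union]
    apply Lk.union _ _ ihS ihS'
    obtain ⟨u, hu, hu'⟩ := hov
    exact ⟨g • u, Set.smul_mem_smul_set hu, Set.smul_mem_smul_set hu'⟩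

/-- Rudio's argument: deleting a point from a primitive set keeps a `G`-invariant family
connected. -/
theorem conn [IsPreprimitive G X] [Finite X] {𝓐 : Set (Set X)}
    (h𝓐 : ∀ g : G, ∀ A ∈ 𝓐, g • A ∈ 𝓐) {A₀ : Set X} (hA₀ : A₀ ∈ 𝓐) (hnt : A₀.Nontrivial)
    (hne : A₀ ≠ Set.univ) (x : X) : Lk 𝓐 ({x}ᶜ) := by
  classical
  have hfin : ({S | Lk 𝓐 S ∧ S ≠ Set.univ} : Set (Set X)).Finite := Set.toFinite _
  obtain ⟨S, hA₀S, hSmax⟩ := hfin.exists_le_maximal (a := A₀) ⟨Lk.base _ hA₀, hne⟩
  obtain ⟨⟨hSL, hSne⟩, hSm⟩ := hSmax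
  have hmax : ∀ S', Lk 𝓐 S' → S' ≠ Set.univ → S ⊆ S' → S' ⊆ S := fun S' h1 h2 h3 => hSm ⟨h1, h2⟩ h3
  have hSnt : S.Nontrivial := hnt.mono hA₀S
  have hScne : Sᶜ.Nonempty := by
    rw [Set.nonempty_compl]
    exact hSne
  have hsub : Sᶜ.Subsingleton := by
    intro a ha b hb
    by_contra hab
    by_cases hcase : 2 * Sᶜ.ncard < Nat.card X
    · obtain ⟨g, hga, hgb⟩ := IsPreprimitive.exists_mem_smul_and_notMem_smul (G := G)
        (A := Sᶜ) (Set.toFinite _) hScne (by
          intro h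
          rw [Set.compl_univ_iff] at h
          exact hSnt.nonempty.ne_empty h) hab
      rw [Set.smul_set_compl] at hga hgb
      have hov : (S ∩ g • S).Nonempty := by
        by_contra hcon
        rw [Set.not_nonempty_iff_eq_empty] at hcon
        have h1 : S ⊆ (g • S)ᶜ := by
          intro u hu hu'
          have : u ∈ S ∩ g • S := ⟨hu, hu'⟩
          rw [hcon] at this
          exact this
        have h2 : Sᶜ ∪ (g • S)ᶜ = Set.univ := by
          rw [Set.eq_univ_iff_forall]
          intro u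
          by_cases hu : u ∈ S
          · exact Or.inr (h1 hu)
          · exact Or.inl hu
        have h3 := Set.ncard_union_le Sᶜ (g • S)ᶜ
        rw [h2, Set.ncard_univ, ← Set.smul_set_compl, Set.ncard_smul_set] at h3
        omega
      have hU := Lk.union _ _ hSL (hSL.smul h𝓐 g) hov
      have h4 := hmax _ hU (by
        intro h
        have : a ∈ S ∪ g • S := by rw [h]; trivial
        rcases this with h5 | h5
        · exact ha h5
        · exact hga h5) Set.subset_union_left
      have : b ∈ S ∪ g • S := Or.inr (by simpa using hgb)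
      exact hb (h4 this)
    · obtain ⟨c, hc, d, hd, hcd⟩ := hSnt
      obtain ⟨g, hgc, hgd⟩ := IsPreprimitive.exists_mem_smul_and_notMem_smul (G := G)
        (A := S) (Set.toFinite _) ⟨c, hc⟩ hSne hcd
      have hU := Lk.union _ _ hSL (hSL.smul h𝓐 g) ⟨c, hc, hgc⟩
      have h4 := hmax _ hU (by
        intro h
        have h5 : Disjoint Sᶜ (g • S)ᶜ := by
          rw [Set.disjoint_left]
          intro u hu hu'
          have : u ∈ S ∪ g • S := by rw [h]; trivial
          rcases this with h6 | h6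
          · exact hu h6
          · exact hu' h6
        have h6 := Set.ncard_union_eq h5 (Set.toFinite _) (Set.toFinite _)
        have h7 : Sᶜ ∪ (g • S)ᶜ ≠ Set.univ := by
          intro h8
          have : c ∈ Sᶜ ∪ (g • S)ᶜ := by rw [h8]; trivial
          rcases this with h9 | h9
          · exact h9 hc
          · exact h9 hgc
        have h8 : (Sᶜ ∪ (g • S)ᶜ).ncard < Nat.card X := by
          rw [← Set.ncard_univ]
          apply Set.ncard_lt_ncard _ (Set.toFinite _)
          exact ⟨Set.subset_univ _, fun h9 => h7 (Set.eq_univ_of_univ_subset h9)⟩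
        rw [h6, ← Set.smul_set_compl, Set.ncard_smul_set] at h8
        omega) Set.subset_union_left
      have h5 : g • S ⊆ S := Set.subset_union_right.trans h4
      have h6 : g • S = S := Set.eq_of_subset_of_ncard_le h5 (by rw [Set.ncard_smul_set])
      rw [h6] at hgd
      exact hgd hd
  obtain ⟨x₀, hx₀⟩ := hScne
  have hS' : S = {x₀}ᶜ := by
    ext u
    simp only [Set.mem_compl_iff, Set.mem_singleton_iff]
    constructor
    · rintro hu rfl
      exact hx₀ hu
    · intro hu
      by_contra h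
      exact hu (hsub h hx₀)
  obtain ⟨g, hg⟩ := MulAction.exists_smul_eq G x₀ x
  have h1 := hSL.smul h𝓐 g
  rw [hS', Set.smul_set_compl, Set.smul_set_singleton, hg] at h1
  exact h1

end Conn

section Step

open MulAction SubMulAction
open scoped Pointwise

/-- From `a`-transitivity and `m`-transitivity of the fixator of an `a`-set. -/
theorem mult_of_fixing {G α : Type*} [Group G] [MulAction G α] (s : Set α) [Finite s] (a m : ℕ)
    (ha : s.ncard = a) (h1 : IsMultiplyPretransitive G α a)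
    (h2 : IsMultiplyPretransitive (fixingSubgroup G s) (ofFixingSubgroup G s) m) :
    IsMultiplyPretransitive G α (a + m) := by
  classical
  have hcard : Nat.card s = a := by rw [Nat.card_coe_set_eq, ha]
  have : Nonempty (Fin a ≃ s) := Finite.card_eq.mp (by simp [hcard])
  obtain ⟨e⟩ := this
  let e' : Fin a ↪ α := e.toEmbedding.trans (Function.Embedding.subtype _)
  have he' : ∀ j, e' j ∈ s := fun j => (e j).2
  have hcast : ∀ f : Fin (a + m) ↪ α, ∃ g : G, ∀ j : Fin a, g • f (Fin.castAdd m j) = e' j := by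
    intro f
    let f₁ : Fin a ↪ α := (Fin.castAddEmb m).trans f
    obtain ⟨g, hg⟩ := h1.exists_smul_eq f₁ e'
    refine ⟨g, fun j => ?_⟩
    have := DFunLike.congr_fun hg j
    exact this
  have hnot : ∀ (f : Fin (a + m) ↪ α) (g : G), (∀ j : Fin a, g • f (Fin.castAdd m j) = e' j) →
      ∀ i : Fin m, g • f (Fin.natAdd a i) ∉ s := by
    intro f g hg i hi
    obtain ⟨j, hj⟩ := e.surjective ⟨_, hi⟩
    have h3 : e' j = g • f (Fin.natAdd a i) := congrArg Subtype.val hj
    rw [← hg j] at h3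
    have h4 := f.injective (MulAction.injective g h3)
    have h5 := congrArg Fin.val h4
    simp at h5
    omega
  refine ⟨fun f f' => ?_⟩
  obtain ⟨g, hg⟩ := hcast f
  obtain ⟨g', hg'⟩ := hcast f'
  let f₂ : Fin m ↪ ofFixingSubgroup G s :=
    ⟨fun i => ⟨g • f (Fin.natAdd a i), by
        rw [mem_ofFixingSubgroup_iff]; exact hnot f g hg i⟩, by
      intro i i' hii
      have h3 := congrArg Subtype.val hii
      have h4 := f.injective (MulAction.injective g h3)
      exact Fin.natAdd_injective _ _ h4⟩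
  let f₂' : Fin m ↪ ofFixingSubgroup G s :=
    ⟨fun i => ⟨g' • f' (Fin.natAdd a i), by
        rw [mem_ofFixingSubgroup_iff]; exact hnot f' g' hg' i⟩, by
      intro i i' hii
      have h3 := congrArg Subtype.val hii
      have h4 := f'.injective (MulAction.injective g' h3)
      exact Fin.natAdd_injective _ _ h4⟩
  obtain ⟨h, hh⟩ := h2.exists_smul_eq f₂ f₂'
  refine ⟨g'⁻¹ * (h : G) * g, ?_⟩
  ext i
  refine Fin.addCases (fun j => ?_) (fun j => ?_) i
  · show (g'⁻¹ * (h : G) * g) • f (Fin.castAdd m j) = f' (Fin.castAdd m j)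
    rw [mul_smul, mul_smul, hg j]
    have h3 : (h : G) • e' j = e' j := by
      have := h.2
      rw [mem_fixingSubgroup_iff] at this
      exact this _ (he' j)
    rw [h3, inv_smul_eq_iff, hg' j]
  · show (g'⁻¹ * (h : G) * g) • f (Fin.natAdd a j) = f' (Fin.natAdd a j)
    rw [mul_smul, mul_smul, inv_smul_eq_iff]
    have h3 := DFunLike.congr_fun hh j
    have h4 := congrArg Subtype.val h3
    exact h4

end Step

section Main

open MulAction SubMulAction
open scoped Pointwise

variable {G Ω : Type*} [Group G] [MulAction G Ω] [Fintype Ω] [DecidableEq Ω]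

variable (G) in
/-- translates of `Δ` -/
def trs (Δ : Finset Ω) : Set (Finset Ω) := {D | ∃ g : G, D = Δ.image (fun x => g • x)}

theorem trs_card {Δ D : Finset Ω} (hD : D ∈ trs G Δ) : D.card = Δ.card := by
  obtain ⟨g, rfl⟩ := hD
  exact Finset.card_image_of_injective _ (MulAction.injective g)

theorem trs_self (Δ : Finset Ω) : Δ ∈ trs G Δ := ⟨1, by simp⟩

theorem trs_smul {Δ D : Finset Ω} (hD : D ∈ trs G Δ) (h : G) :
    D.image (fun x => h • x) ∈ trs G Δ := by
  obtain ⟨g, rfl⟩ := hD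
  refine ⟨h * g, ?_⟩
  rw [Finset.image_image]
  apply Finset.image_congr
  intro x _
  simp [mul_smul]

theorem mem_image_smul {D : Finset Ω} {g : G} {x : Ω} :
    x ∈ D.image (fun y => g • y) ↔ g⁻¹ • x ∈ D := by
  rw [Finset.mem_image]
  constructor
  · rintro ⟨y, hy, rfl⟩
    simpa using hy
  · intro h
    exact ⟨_, h, by simp⟩

/-- The Jordan hypothesis for the translates. -/
theorem trs_move {Δ D : Finset Ω}
    (hJ : ∀ a b, a ∉ Δ → b ∉ Δ → ∃ h : G, (∀ x ∈ Δ, h • x = x) ∧ h • a = b)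
    (hD : D ∈ trs G Δ) {a b : Ω} (ha : a ∉ D) (hb : b ∉ D) :
    ∃ h : G, (∀ x ∈ D, h • x = x) ∧ h • a = b := by
  obtain ⟨g, rfl⟩ := hD
  rw [mem_image_smul] at ha hb
  obtain ⟨h, hh, hab⟩ := hJ _ _ ha hb
  refine ⟨g * h * g⁻¹, ?_, ?_⟩
  · intro x hx
    rw [mem_image_smul] at hx
    simp only [mul_smul]
    rw [hh _ hx, smul_inv_smul]
  · simp only [mul_smul]
    rw [hab, smul_inv_smul]

theorem trs_geo {Δ : Finset Ω}
    (hJ : ∀ a b, a ∉ Δ → b ∉ Δ → ∃ h : G, (∀ x ∈ Δ, h • x = x) ∧ h • a = b) :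
    Geo (trs G Δ) Δ.card where
  card := fun D hD => trs_card hD
  move := by
    intro D hD a b ha hb
    obtain ⟨h, hh, hab⟩ := trs_move hJ hD ha hb
    refine ⟨MulAction.toPerm h, hh, hab, ?_⟩
    intro D' hD'
    exact trs_smul hD' h

theorem cl_image_card_le (Δ A : Finset Ω) (g : G) :
    (cl (trs G Δ) A).card ≤ (cl (trs G Δ) (A.image (fun x => g • x))).card := by
  have h1 : (cl (trs G Δ) A).image (fun x => g • x) ⊆ cl (trs G Δ) (A.image (fun x => g • x)) := by
    intro y hy
    obtain ⟨u, hu, rfl⟩ := Finset.mem_image.mp hy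
    rw [mem_cl] at hu ⊢
    intro D hD hAD
    have h2 := hu _ (trs_smul hD g⁻¹) (by
      intro a ha
      rw [mem_image_smul, inv_inv]
      exact hAD (Finset.mem_image_of_mem _ ha))
    rw [mem_image_smul, inv_inv] at h2
    exact h2
  have h2 := Finset.card_le_card h1
  rwa [Finset.card_image_of_injective _ (MulAction.injective g)] at h2

theorem cl_image_card (Δ A : Finset Ω) (g : G) :
    (cl (trs G Δ) (A.image (fun x => g • x))).card = (cl (trs G Δ) A).card := by
  apply le_antisymm _ (cl_image_card_le Δ A g)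
  have := cl_image_card_le Δ (A.image (fun x => g • x)) g⁻¹
  have h2 : (A.image (fun x => g • x)).image (fun x => g⁻¹ • x) = A := by
    rw [Finset.image_image]
    ext u
    simp
  rwa [h2] at this

theorem exists_emb {t : ℕ} (S : Finset Ω) (hS : S.card = t) :
    ∃ f : Fin t ↪ Ω, S = Finset.univ.image f := by
  let e := (Finset.equivFinOfCardEq hS).symm
  refine ⟨e.toEmbedding.trans (Function.Embedding.subtype _), ?_⟩
  ext x
  simp only [Finset.mem_image, Finset.mem_univ, true_and, Function.Embedding.trans_apply,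
    Equiv.coe_toEmbedding, Function.Embedding.subtype_apply]
  constructor
  · intro hx
    obtain ⟨i, hi⟩ := e.surjective ⟨x, hx⟩
    exact ⟨i, by rw [hi]⟩
  · rintro ⟨i, rfl⟩
    exact (e i).2

/-- In a `t`-transitive group, `t`-sets are permuted transitively. -/
theorem exists_image_eq {t : ℕ} (hT : IsMultiplyPretransitive G Ω t) (S S' : Finset Ω)
    (hS : S.card = t) (hS' : S'.card = t) : ∃ g : G, S.image (fun x => g • x) = S' := by
  obtain ⟨f, rfl⟩ := exists_emb S hS
  obtain ⟨f', rfl⟩ := exists_emb S' hS'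
  obtain ⟨g, hg⟩ := hT.exists_smul_eq f f'
  refine ⟨g, ?_⟩
  rw [Finset.image_image]
  apply Finset.image_congr
  intro i _
  exact DFunLike.congr_fun hg i

/-- `t`-subsets are flat if the hyperplanes contain more than half of the points. -/
theorem flat_of_trans {Δ : Finset Ω}
    (hJ : ∀ a b, a ∉ Δ → b ∉ Δ → ∃ h : G, (∀ x ∈ Δ, h • x = x) ∧ h • a = b)
    {t : ℕ} (ht : 2 ≤ t) (htk : t ≤ Δ.card) (hT : IsMultiplyPretransitive G Ω t)
    (hn : Fintype.card Ω < 2 * Δ.card) (hkn : Δ.card < Fintype.card Ω)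
    (S : Finset Ω) (hS : S.card = t) : cl (trs G Δ) S = S := by
  have hstn : Stn (trs G Δ) t (cl (trs G Δ) S).card := by
    intro S' hS'
    obtain ⟨g, rfl⟩ := exists_image_eq hT S S' hS hS'
    exact cl_image_card Δ S g
  have hc := stn_trivial (trs_geo hJ) hstn ht htk (trs_self Δ) hn hkn
  exact (Finset.eq_of_subset_of_card_le subset_cl (by rw [hc, hS])).symm

/-- The inductive step: `t`-transitive implies `(t+1)`-transitive. -/
theorem step_trans {Δ : Finset Ω}
    (hJ : ∀ a b, a ∉ Δ → b ∉ Δ → ∃ h : G, (∀ x ∈ Δ, h • x = x) ∧ h • a = b)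
    {t : ℕ} (ht : 2 ≤ t) (htk : t < Δ.card) (hT : IsMultiplyPretransitive G Ω t)
    (hn : Fintype.card Ω < 2 * Δ.card) (hkn : Δ.card + 1 < Fintype.card Ω) :
    IsMultiplyPretransitive G Ω (t + 1) := by
  classical
  have hflat := flat_of_trans hJ ht htk.le hT hn (by omega)
  haveI := hT
  obtain ⟨T', hT'Δ, hT'c⟩ := Finset.exists_subset_card_eq (s := Δ) (n := t - 1) (by omega)
  obtain ⟨x, hx⟩ : T'.Nonempty := by
    rw [← Finset.card_pos]; omega
  set T'' := T'.erase x with hT''
  have hT''c : T''.card = t - 2 := by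
    rw [hT'', Finset.card_erase_of_mem hx, hT'c]; omega
  have hT''T' : T'' ⊆ T' := Finset.erase_subset _ _
  have hxT'' : x ∉ T'' := Finset.notMem_erase _ _
  -- the two-point stabilizer level
  have h2 : IsMultiplyPretransitive (fixingSubgroup G (T'' : Set Ω))
      (ofFixingSubgroup G (T'' : Set Ω)) 2 :=
    ofFixingSubgroup.isMultiplyPretransitive G (T'' : Set Ω) (m := 2) (n := t)
      (by rw [Set.ncard_coe_finset, hT''c]; omega)
  haveI hprim2 : IsPreprimitive (fixingSubgroup G (T'' : Set Ω))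
      (ofFixingSubgroup G (T'' : Set Ω)) := isPreprimitive_of_is_two_pretransitive h2
  let 𝓐 : Set (Set (ofFixingSubgroup G (T'' : Set Ω))) :=
    {A | ∃ D ∈ trs G Δ, T'' ⊆ D ∧ A = {w : ofFixingSubgroup G (T'' : Set Ω) | (w : Ω) ∉ D}}
  have h𝓐 : ∀ g : fixingSubgroup G (T'' : Set Ω), ∀ A ∈ 𝓐, g • A ∈ 𝓐 := by
    rintro g A ⟨D, hD, hTD, rfl⟩
    refine ⟨D.image (fun u => (g : G) • u), trs_smul hD _, ?_, ?_⟩
    · intro u hu
      rw [mem_image_smul]
      have hg : (g : G)⁻¹ ∈ fixingSubgroup G (T'' : Set Ω) := Subgroup.inv_mem _ g.2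
      rw [mem_fixingSubgroup_iff] at hg
      rw [hg u (by exact_mod_cast hu)]
      exact hTD hu
    · ext w
      rw [Set.mem_smul_set_iff_inv_smul_mem]
      simp only [Set.mem_setOf_eq]
      rw [mem_image_smul]
      rfl
  have hΔc : 1 < (Finset.univ \ Δ).card := by
    rw [Finset.card_sdiff_of_subset (Finset.subset_univ _), Finset.card_univ]; omega
  obtain ⟨a₀, ha₀, b₀, hb₀, hab₀⟩ := Finset.one_lt_card.mp hΔc
  have ha₀' : a₀ ∉ Δ := (Finset.mem_sdiff.mp ha₀).2
  have hb₀' : b₀ ∉ Δ := (Finset.mem_sdiff.mp hb₀).2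
  have hnotT'' : ∀ u, u ∉ Δ → u ∉ (T'' : Set Ω) := by
    intro u hu h
    exact hu (hT'Δ (hT''T' (by exact_mod_cast h)))
  have hnotT' : ∀ u, u ∉ Δ → u ∉ (T' : Set Ω) := by
    intro u hu h
    exact hu (hT'Δ (by exact_mod_cast h))
  have hA₀ : {w : ofFixingSubgroup G (T'' : Set Ω) | (w : Ω) ∉ Δ} ∈ 𝓐 :=
    ⟨Δ, trs_self Δ, hT''T'.trans hT'Δ, rfl⟩
  have hnt : {w : ofFixingSubgroup G (T'' : Set Ω) | (w : Ω) ∉ Δ}.Nontrivial := by
    refine ⟨⟨a₀, hnotT'' _ ha₀'⟩, ha₀', ⟨b₀, hnotT'' _ hb₀'⟩, hb₀', ?_⟩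
    intro h
    exact hab₀ (congrArg Subtype.val h)
  have hne : {w : ofFixingSubgroup G (T'' : Set Ω) | (w : Ω) ∉ Δ} ≠ Set.univ := by
    obtain ⟨u, huΔ, huT⟩ := Finset.exists_mem_notMem_of_card_lt_card (s := T'') (t := Δ)
      (by omega)
    intro h
    have : (⟨u, by exact_mod_cast huT⟩ : ofFixingSubgroup G (T'' : Set Ω)) ∈
        {w : ofFixingSubgroup G (T'' : Set Ω) | (w : Ω) ∉ Δ} := by
      rw [h]; trivial
    exact this huΔ
  let x' : ofFixingSubgroup G (T'' : Set Ω) := ⟨x, by exact_mod_cast hxT''⟩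
  have hconn := conn h𝓐 hA₀ hnt hne x'
  -- the one-point level
  have h1 : IsMultiplyPretransitive (fixingSubgroup G (T' : Set Ω))
      (ofFixingSubgroup G (T' : Set Ω)) 1 :=
    ofFixingSubgroup.isMultiplyPretransitive G (T' : Set Ω) (m := 1) (n := t)
      (by rw [Set.ncard_coe_finset, hT'c]; omega)
  haveI htrans1 : IsPretransitive (fixingSubgroup G (T' : Set Ω))
      (ofFixingSubgroup G (T' : Set Ω)) := is_one_pretransitive_iff.mp h1
  have hprim : IsPreprimitive (fixingSubgroup G (T' : Set Ω))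
      (ofFixingSubgroup G (T' : Set Ω)) := by
    apply IsPreprimitive.of_isTrivialBlock_base
      (⟨a₀, hnotT' _ ha₀'⟩ : ofFixingSubgroup G (T' : Set Ω))
    intro B ha₁ hB
    by_cases hsub : B.Subsingleton
    · exact Or.inl hsub
    right
    rw [Set.not_subsingleton_iff] at hsub
    obtain ⟨y, hy, z, hz, hyz⟩ := hsub
    have L1 : ∀ D ∈ trs G Δ, T' ⊆ D → ∀ a b : ofFixingSubgroup G (T' : Set Ω), a ∈ B → b ∈ B →
        (a : Ω) ∉ D → (b : Ω) ∈ D → ∀ c : ofFixingSubgroup G (T' : Set Ω), (c : Ω) ∉ D → c ∈ B := by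
      intro D hD hTD a b ha hb haD hbD c hcD
      obtain ⟨h, hh, hac⟩ := trs_move hJ hD haD hcD
      have hfix : h ∈ fixingSubgroup G (T' : Set Ω) := by
        rw [mem_fixingSubgroup_iff]
        intro u hu
        exact hh u (hTD (by exact_mod_cast hu))
      let h₁ : fixingSubgroup G (T' : Set Ω) := ⟨h, hfix⟩
      have hb' : h₁ • b = b := Subtype.ext (hh _ hbD)
      have hsm : h₁ • B = B := hB.smul_eq_of_mem hb (by rw [hb']; exact hb)
      have h3 : h₁ • a ∈ h₁ • B := Set.smul_mem_smul_set ha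
      rw [hsm] at h3
      have hc' : h₁ • a = c := Subtype.ext hac
      rwa [hc'] at h3
    have hzT' : (z : Ω) ∉ T' := fun h => z.2 (by exact_mod_cast h)
    have hyT' : (y : Ω) ∉ T' := fun h => y.2 (by exact_mod_cast h)
    have hSc : (insert (z : Ω) T').card = t := by
      rw [Finset.card_insert_of_notMem hzT', hT'c]; omega
    have hyS : (y : Ω) ∉ cl (trs G Δ) (insert (z : Ω) T') := by
      rw [hflat _ hSc, Finset.mem_insert]
      push Not
      exact ⟨fun h => hyz (Subtype.ext h), hyT'⟩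
    rw [mem_cl] at hyS
    push Not at hyS
    obtain ⟨D₁, hD₁, hSD₁, hyD₁⟩ := hyS
    have hTD₁ : T' ⊆ D₁ := (Finset.subset_insert _ _).trans hSD₁
    have hzD₁ : (z : Ω) ∈ D₁ := hSD₁ (Finset.mem_insert_self _ _)
    have hinc := L1 D₁ hD₁ hTD₁ y z hy hz hyD₁ hzD₁
    let Bt : Set (ofFixingSubgroup G (T'' : Set Ω)) := {w | ∃ v ∈ B, (v : Ω) = (w : Ω)}
    have hinv : ∀ A ∈ 𝓐, A ⊆ {x'}ᶜ → (A ∩ Bt).Nonempty → A ⊆ Bt := by
      rintro A ⟨D, hD, hTD, rfl⟩ hsub ⟨w, hw, v, hv, hvw⟩ w' hw'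
      have hxD : x ∈ D := by
        by_contra hxD
        exact hsub (show x' ∈ {w : ofFixingSubgroup G (T'' : Set Ω) | (w : Ω) ∉ D} from hxD) rfl
      have hT'D : T' ⊆ D := by
        intro u hu
        by_cases hux : u = x
        · rw [hux]; exact hxD
        · exact hTD (Finset.mem_erase.mpr ⟨hux, hu⟩)
      have hex : ∃ b : ofFixingSubgroup G (T' : Set Ω), b ∈ B ∧ (b : Ω) ∈ D := by
        by_contra hcon
        push Not at hcon
        have hDD₁ : D ⊆ D₁ := by
          intro u huD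
          by_contra huD₁
          have huT : u ∉ (T' : Set Ω) := fun h => huD₁ (hTD₁ (by exact_mod_cast h))
          have h3 := hinc ⟨u, huT⟩ huD₁
          exact hcon _ h3 huD
        have heq := Finset.eq_of_subset_of_card_le hDD₁ (by rw [trs_card hD₁, trs_card hD])
        exact hcon z hz (heq ▸ hzD₁)
      obtain ⟨b, hb, hbD⟩ := hex
      have hw'T : (w' : Ω) ∉ (T' : Set Ω) := fun h => hw' (hT'D (by exact_mod_cast h))
      refine ⟨⟨w', hw'T⟩, L1 D hD hT'D v b hv hb ?_ hbD _ hw', rfl⟩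
      rw [hvw]
      exact hw
    have hyne : (⟨(y : Ω), fun h => hyT' (hT''T' (by exact_mod_cast h))⟩ :
        ofFixingSubgroup G (T'' : Set Ω)) ≠ x' := by
      intro h
      exact hyT' ((congrArg Subtype.val h).symm ▸ hx)
    have hall := hconn.sub_of_inv hinv ⟨⟨(y : Ω), fun h => hyT' (hT''T' (by exact_mod_cast h))⟩,
      hyne, y, hy, rfl⟩
    rw [Set.eq_univ_iff_forall]
    intro v
    have hvT' : (v : Ω) ∉ T' := fun h => v.2 (by exact_mod_cast h)
    have hvne : (⟨(v : Ω), fun h => hvT' (hT''T' (by exact_mod_cast h))⟩ :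
        ofFixingSubgroup G (T'' : Set Ω)) ≠ x' := by
      intro h
      exact hvT' ((congrArg Subtype.val h).symm ▸ hx)
    obtain ⟨v', hv', h4⟩ := hall hvne
    have h5 : v' = v := Subtype.ext h4
    rwa [h5] at hv'
  -- Jordan's criterion at the one-point level
  let s : Set (ofFixingSubgroup G (T' : Set Ω)) := {w | (w : Ω) ∈ Δ}
  have himg : (Subtype.val '' s : Set Ω) = ((Δ \ T' : Finset Ω) : Set Ω) := by
    ext u
    simp only [Set.mem_image, Finset.coe_sdiff, Set.mem_diff, Finset.mem_coe]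
    constructor
    · rintro ⟨w, hw, rfl⟩
      exact ⟨hw, fun h => w.2 (by exact_mod_cast h)⟩
    · rintro ⟨h1, h2⟩
      exact ⟨⟨u, by exact_mod_cast h2⟩, h1, rfl⟩
  have hscard : s.ncard = (Δ.card - t) + 1 := by
    rw [← Set.ncard_image_of_injective s Subtype.val_injective, himg, Set.ncard_coe_finset,
      Finset.card_sdiff_of_subset hT'Δ, hT'c]
    omega
  have hcard1 : Nat.card (ofFixingSubgroup G (T' : Set Ω)) = Fintype.card Ω - (t - 1) := by
    rw [show Nat.card (ofFixingSubgroup G (T' : Set Ω)) = (T' : Set Ω)ᶜ.ncard from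
      Nat.card_coe_set_eq _, ← Finset.coe_compl, Set.ncard_coe_finset, Finset.card_compl, hT'c]
  have htr : IsPretransitive (fixingSubgroup (fixingSubgroup G (T' : Set Ω)) s)
      (ofFixingSubgroup (fixingSubgroup G (T' : Set Ω)) s) := by
    refine ⟨fun a b => ?_⟩
    have ha' : ((a : ofFixingSubgroup G (T' : Set Ω)) : Ω) ∉ Δ := a.2
    have hb' : ((b : ofFixingSubgroup G (T' : Set Ω)) : Ω) ∉ Δ := b.2
    obtain ⟨h, hh, hab⟩ := hJ _ _ ha' hb'
    have hfix : h ∈ fixingSubgroup G (T' : Set Ω) := by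
      rw [mem_fixingSubgroup_iff]
      intro u hu
      exact hh u (hT'Δ (by exact_mod_cast hu))
    have hfix2 : (⟨h, hfix⟩ : fixingSubgroup G (T' : Set Ω)) ∈
        fixingSubgroup (fixingSubgroup G (T' : Set Ω)) s := by
      rw [mem_fixingSubgroup_iff]
      intro w hw
      exact Subtype.ext (hh _ hw)
    exact ⟨⟨_, hfix2⟩, Subtype.ext (Subtype.ext hab)⟩
  have htwo := hprim.is_two_pretransitive hscard (by rw [hcard1]; omega) htr
  have hmain := mult_of_fixing (G := G) (T' : Set Ω) (t - 1) 2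
    (by rw [Set.ncard_coe_finset, hT'c])
    (isMultiplyPretransitive_of_le' (n := t) (by omega) (by
      rw [ENat.card_eq_coe_fintype_card]
      exact_mod_cast (by omega : t ≤ Fintype.card Ω))) htwo
  have h3 : t - 1 + 2 = t + 1 := by omega
  rwa [h3] at hmain

/-- The theorem of Marggraff: high transitivity. -/
theorem trans_all [IsPreprimitive G Ω] {Δ : Finset Ω}
    (hJ : ∀ a b, a ∉ Δ → b ∉ Δ → ∃ h : G, (∀ x ∈ Δ, h • x = x) ∧ h • a = b)
    (hk : 2 ≤ Δ.card)
    (hn : Fintype.card Ω < 2 * Δ.card) (hkn : Δ.card + 1 < Fintype.card Ω) :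
    ∀ t, 2 ≤ t → t ≤ Δ.card → IsMultiplyPretransitive G Ω t := by
  classical
  intro t ht
  induction t, ht using Nat.le_induction with
  | base =>
    intro _
    have hsn : (Δ : Set Ω).ncard = (Δ.card - 1) + 1 := by
      rw [Set.ncard_coe_finset]; omega
    apply IsPreprimitive.is_two_pretransitive (inferInstance : IsPreprimitive G Ω) hsn
    · rw [Nat.card_eq_fintype_card]; omega
    · refine ⟨fun a b => ?_⟩
      have ha' : (a : Ω) ∉ Δ := fun h => a.2 (by exact_mod_cast h)
      have hb' : (b : Ω) ∉ Δ := fun h => b.2 (by exact_mod_cast h)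
      obtain ⟨h, hh, hab⟩ := hJ _ _ ha' hb'
      have hfix : h ∈ fixingSubgroup G (Δ : Set Ω) := by
        rw [mem_fixingSubgroup_iff]
        intro u hu
        exact hh u (by exact_mod_cast hu)
      exact ⟨⟨h, hfix⟩, Subtype.ext hab⟩
  | succ t ht ih =>
    intro htk
    exact step_trans hJ ht (by omega) (ih (by omega)) hn hkn

/-- Marggraff: a translate meeting a Jordan set in a prescribed single point. -/
theorem exists_translate_single {Γ : Set Ω} [IsPreprimitive G Ω]
    (hJ : ∀ a b, a ∈ Γ → b ∈ Γ → ∃ h : G, (∀ x, x ∉ Γ → h • x = x) ∧ h • a = b)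
    (h1 : 1 < Γ.ncard) (h2 : 2 * Γ.ncard < Fintype.card Ω) {x : Ω} (hx : x ∈ Γ) :
    ∃ g : G, Γ ∩ (g • Γ) = {x} := by
  classical
  let Δ : Finset Ω := (Γᶜ).toFinset
  have hΔ : ∀ u, u ∈ Δ ↔ u ∉ Γ := by intro u; simp [Δ]
  have hcard : Δ.card + Γ.ncard = Fintype.card Ω := by
    have h3 := Set.ncard_add_ncard_compl Γ
    rw [Nat.card_eq_fintype_card] at h3
    rw [← h3, add_comm]
    congr 1
    rw [← Set.ncard_coe_finset]
    congr 1
    ext u
    simp [Δ]
  have hJ' : ∀ a b, a ∉ Δ → b ∉ Δ → ∃ h : G, (∀ u ∈ Δ, h • u = u) ∧ h • a = b := by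
    intro a b ha hb
    rw [hΔ, not_not] at ha hb
    obtain ⟨h, hh, hab⟩ := hJ a b ha hb
    exact ⟨h, fun u hu => hh u ((hΔ u).mp hu), hab⟩
  have hTk := trans_all hJ' (by omega) (by omega) (by omega) _ (by omega) le_rfl
  -- choose the target hyperplane
  let Γ' : Finset Ω := (Γ \ {x}).toFinset
  have hΓ' : ∀ u, u ∈ Γ' ↔ u ∈ Γ ∧ u ≠ x := by intro u; simp [Γ']
  have hΓ'c : Γ'.card + 1 = Γ.ncard := by
    have h3 : (Γ' : Set Ω) = Γ \ {x} := by ext u; simp [Γ']
    rw [← Set.ncard_coe_finset, h3, Set.ncard_diff_singleton_add_one hx (Set.toFinite _)]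
  have hsub : Γ' ⊆ Finset.univ.erase x := by
    intro u hu
    rw [hΓ'] at hu
    exact Finset.mem_erase.mpr ⟨hu.2, Finset.mem_univ _⟩
  obtain ⟨D, hΓ'D, hDx, hDc⟩ := Finset.exists_subsuperset_card_eq hsub (n := Δ.card) (by omega)
    (by rw [Finset.card_erase_of_mem (Finset.mem_univ _), Finset.card_univ]; omega)
  obtain ⟨g, hg⟩ := exists_image_eq hTk Δ D rfl hDc
  refine ⟨g, ?_⟩
  ext u
  simp only [Set.mem_inter_iff, Set.mem_singleton_iff]
  rw [Set.mem_smul_set_iff_inv_smul_mem]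
  have hD : u ∈ D ↔ g⁻¹ • u ∉ Γ := by
    rw [← hg, mem_image_smul, hΔ]
  constructor
  · rintro ⟨hu, hu'⟩
    by_contra hne
    have : u ∈ D := hΓ'D ((hΓ' u).mpr ⟨hu, hne⟩)
    exact (hD.mp this) hu'
  · rintro rfl
    refine ⟨hx, ?_⟩
    by_contra hcon
    have : u ∈ D := hD.mpr hcon
    exact (Finset.mem_erase.mp (hDx this)).1 rfl

end Main

end Cfsg.Agent.Lib.Marggraff
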