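import Mathlib
import Cfsg.Agent.Lib.AltFStarB
import Cfsg.Agent.S3620
import Cfsg.Agent.S0713

/-!
# Subgroups of `Perm α` containing a Sylow 2-subgroup of `Alt α`, with quasisimple `F*`: part C

The action on the support of `L` contains the alternating group, and `L` is that alternating group.
-/

set_option autoImplicit false

open Cfsg Equiv Equiv.Perm

namespace Cfsg.Agent.Lib.AltFStar

variable {α : Type*} [Fintype α] [DecidableEq α]

/-- Permutations of `Fin k` transported along an embedding. -/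
noncomputable def via {k : ℕ} (e : Fin k ↪ α) : Perm (Fin k) →* Perm α := viaEmbeddingHom e

omit [Fintype α] [DecidableEq α] in
theorem via_apply {k : ℕ} (e : Fin k ↪ α) (z : Perm (Fin k)) (i : Fin k) :
    via e z (e i) = e (z i) := viaEmbedding_apply z e i

omit [Fintype α] [DecidableEq α] in
theorem via_apply_not {k : ℕ} (e : Fin k ↪ α) (z : Perm (Fin k)) {x : α} (hx : x ∉ Set.range e) :
    via e z x = x := viaEmbedding_apply_of_notMem z e x hx

theorem via_sign {k : ℕ} (e : Fin k ↪ α) (z : Perm (Fin k)) : sign (via e z) = sign z := by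
  classical
  unfold via
  rw [viaEmbeddingHom_apply, viaEmbedding]
  convert sign_extendDomain z (ofInjective e.1 e.2)

omit [Fintype α] in
theorem via_swap {k : ℕ} (e : Fin k ↪ α) (i j : Fin k) : via e (swap i j) = swap (e i) (e j) := by
  ext x
  by_cases hx : x ∈ Set.range e
  · obtain ⟨l, rfl⟩ := hx
    rw [via_apply, e.injective.swap_apply]
  · rw [via_apply_not _ _ hx, swap_apply_of_ne_of_ne]
    · rintro rfl; exact hx ⟨i, rfl⟩
    · rintro rfl; exact hx ⟨j, rfl⟩

omit [Fintype α] [DecidableEq α] in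
theorem via_trans {k : ℕ} (e : Fin k ↪ α) (m : Perm α) (z : Perm (Fin k)) :
    via (e.trans m.toEmbedding) z = m * via e z * m⁻¹ := by
  ext x
  by_cases hx : x ∈ Set.range (e.trans m.toEmbedding)
  · obtain ⟨l, rfl⟩ := hx
    rw [via_apply]
    simp [via_apply]
  · rw [via_apply_not _ _ hx]
    have hx' : m⁻¹ x ∉ Set.range e := by
      rintro ⟨l, hl⟩
      apply hx
      refine ⟨l, ?_⟩
      simp [hl]
    have h2 : via e z (m⁻¹ x) = m⁻¹ x := via_apply_not _ _ hx'
    rw [Perm.mul_apply, Perm.mul_apply, h2]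
    simp

omit [Fintype α] [DecidableEq α] in
theorem via_mem_stabS {k : ℕ} (e : Fin k ↪ α) (z : Perm (Fin k)) {Y : Set α} (h : ∀ i, e i ∈ Y) :
    via e z ∈ StabS Y := by
  intro x
  by_cases hx : x ∈ Set.range e
  · obtain ⟨l, rfl⟩ := hx
    rw [via_apply]
    simp [h]
  · rw [via_apply_not _ _ hx]

/-- The regular elementary abelian group of order 8. -/
def xorP (c : Fin 8) : Perm (Fin 8) :=
  ⟨fun i => c ^^^ i, fun i => c ^^^ i, by revert c; decide +kernel, by revert c; decide +kernel⟩

theorem xorP_sign : ∀ c, sign (xorP c) = 1 := by decide +kernel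
theorem xorP_inv : ∀ c, xorP c * xorP c = 1 := by decide +kernel
theorem xorP_comm : ∀ c d, xorP c * xorP d = xorP d * xorP c := by decide +kernel
theorem xorP_tr : ∀ i j, xorP (i ^^^ j) i = j := by decide +kernel

/-- A fixed point free even involution of `Fin 8`. -/
def zz : Perm (Fin 8) := swap 0 1 * swap 2 3 * swap 4 5 * swap 6 7

theorem zz_sign : sign zz = 1 := by decide +kernel
theorem zz_inv : zz * zz = 1 := by decide +kernel
theorem zz_fpf : ∀ i, zz i ≠ i := by decide +kernel
theorem zz_pair_sign : ∀ i j, sign (swap i (zz i) * swap j (zz j)) = 1 := by decide +kernel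
theorem zz_pair_inv : ∀ i j, j ≠ i → j ≠ zz i →
    (swap i (zz i) * swap j (zz j)) * (swap i (zz i) * swap j (zz j)) = 1 := by decide +kernel
theorem zz_pair_comm : ∀ i j k l,
    (swap i (zz i) * swap j (zz j)) * (swap k (zz k) * swap l (zz l)) =
      (swap k (zz k) * swap l (zz l)) * (swap i (zz i) * swap j (zz j)) := by decide +kernel
theorem zz_comm : ∀ i j,
    (swap i (zz i) * swap j (zz j)) * zz = zz * (swap i (zz i) * swap j (zz j)) := by decide +kernel

/-- The Klein four group on `Fin 4`. -/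
def v1 : Perm (Fin 4) := swap 0 1 * swap 2 3
/-- The Klein four group on `Fin 4`. -/
def v2 : Perm (Fin 4) := swap 0 2 * swap 1 3

theorem v_facts : sign v1 = 1 ∧ sign v2 = 1 ∧ v1 * v1 = 1 ∧ v2 * v2 = 1 ∧ v1 * v2 = v2 * v1 := by
  decide +kernel
theorem v_tr : ∀ i : Fin 4, ∃ z : Perm (Fin 4), (z = 1 ∨ z = v1 ∨ z = v2 ∨ z = v1 * v2) ∧ z 0 = i := by
  decide +kernel

/-- A 5-cycle given by its values. -/
theorem five_cycle {Ω : Type*} [Fintype Ω] [DecidableEq Ω] (c : Perm Ω) (p u s q v : Ω)
    (hpu : p ≠ u) (hps : p ≠ s) (hpq : p ≠ q) (hpv : p ≠ v) (hus : u ≠ s) (huq : u ≠ q)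
    (huv : u ≠ v) (hsq : s ≠ q) (hsv : s ≠ v) (hqv : q ≠ v)
    (h1 : c p = u) (h2 : c u = s) (h3 : c s = q) (h4 : c q = v) (h5 : c v = p)
    (h6 : ∀ y, y ≠ p → y ≠ u → y ≠ s → y ≠ q → y ≠ v → c y = y) :
    c.IsCycle ∧ c.support.card = 5 := by
  constructor
  · refine ⟨p, by rw [h1]; exact hpu.symm, ?_⟩
    intro y hy
    have h_u : SameCycle c p u := h1 ▸ sameCycle_apply_right.2 (SameCycle.refl c p)
    have h_s : SameCycle c p s := h2 ▸ sameCycle_apply_right.2 h_u
    have h_q : SameCycle c p q := h3 ▸ sameCycle_apply_right.2 h_s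
    have h_v : SameCycle c p v := h4 ▸ sameCycle_apply_right.2 h_q
    by_cases hyp : y = p
    · subst hyp; exact SameCycle.refl c y
    by_cases hyu : y = u
    · subst hyu; exact h_u
    by_cases hys : y = s
    · subst hys; exact h_s
    by_cases hyq : y = q
    · subst hyq; exact h_q
    by_cases hyv : y = v
    · subst hyv; exact h_v
    exact absurd (h6 y hyp hyu hys hyq hyv) hy
  · have hsupp : c.support = {p, u, s, q, v} := by
      ext y
      simp only [mem_support, Finset.mem_insert, Finset.mem_singleton]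
      constructor
      · intro hy
        by_contra hne
        push Not at hne
        exact hy (h6 y hne.1 hne.2.1 hne.2.2.1 hne.2.2.2.1 hne.2.2.2.2)
      · rintro (rfl | rfl | rfl | rfl | rfl)
        · rw [h1]; exact hpu.symm
        · rw [h2]; exact hus.symm
        · rw [h3]; exact hsq.symm
        · rw [h4]; exact hqv.symm
        · rw [h5]; exact hpv
    rw [hsupp]
    rw [Finset.card_insert_of_notMem (by simp [hpu, hps, hpq, hpv]),
      Finset.card_insert_of_notMem (by simp [hus, huq, huv]),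
      Finset.card_insert_of_notMem (by simp [hsq, hsv]),
      Finset.card_insert_of_notMem (by simp [hqv]), Finset.card_singleton]

/-- The centralizer of the alternating group is trivial. -/
theorem cent_alt {Ω : Type*} [Fintype Ω] [DecidableEq Ω] (h4 : 4 ≤ Fintype.card Ω) (x : Perm Ω)
    (h : ∀ a ∈ alternatingGroup Ω, x * a = a * x) : x = 1 := by
  by_contra hx
  obtain ⟨p, hp⟩ : ∃ p, x p ≠ p := by
    by_contra hall
    push Not at hall
    exact hx (Equiv.ext hall)
  set q := x p with hq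
  have hcard : 1 < (((Finset.univ : Finset Ω).erase p).erase q).card := by
    rw [Finset.card_erase_of_mem (Finset.mem_erase.2 ⟨hp, Finset.mem_univ _⟩),
      Finset.card_erase_of_mem (Finset.mem_univ _), Finset.card_univ]
    omega
  obtain ⟨r, hr, t, ht, hrt⟩ := Finset.one_lt_card.1 hcard
  simp only [Finset.mem_erase, Finset.mem_univ, and_true] at hr ht
  have ha : swap q r * swap r t ∈ alternatingGroup Ω := by
    rw [mem_alternatingGroup]
    simp [sign_swap hr.1.symm, sign_swap hrt]
  have h1 := congrArg (fun π : Perm Ω => π p) (h _ ha)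
  simp only [Perm.mul_apply] at h1
  rw [swap_apply_of_ne_of_ne hr.2.symm ht.2.symm, swap_apply_of_ne_of_ne hp.symm hr.2.symm,
    ← hq, swap_apply_of_ne_of_ne hr.1.symm ht.1.symm, swap_apply_left] at h1
  exact hr.1 h1.symm

/-- A quasisimple subgroup normalized by a subgroup containing the alternating group is the
alternating group. -/
theorem alt_eq_of_normal {Ω : Type*} [Fintype Ω] [DecidableEq Ω] (h5 : 5 ≤ Nat.card Ω)
    (G Lb : Subgroup (Perm Ω)) (hA : alternatingGroup Ω ≤ G)
    (hLn : ∀ g ∈ G, ∀ l ∈ Lb, g * l * g⁻¹ ∈ Lb) (hqs : IsQuasisimple ↥Lb) :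
    Lb = alternatingGroup Ω := by
  have h5' : 4 ≤ Fintype.card Ω := by rw [← Nat.card_eq_fintype_card]; omega
  have hsimple := alternatingGroup.isSimpleGroup (α := Ω) h5
  have hN : (Lb.subgroupOf (alternatingGroup Ω)).Normal := by
    constructor
    intro n hn g
    rw [Subgroup.mem_subgroupOf] at hn ⊢
    exact hLn g (hA g.2) _ hn
  rcases hsimple.eq_bot_or_eq_top_of_normal _ hN with hb | ht
  · exfalso
    have hcomm : ∀ l ∈ Lb, ∀ a ∈ alternatingGroup Ω, l * a = a * l := by
      intro l hl a ha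
      have h1 : a * l * a⁻¹ * l⁻¹ ∈ Lb := Lb.mul_mem (hLn a (hA ha) l hl) (Lb.inv_mem hl)
      have h2 : a * l * a⁻¹ * l⁻¹ ∈ alternatingGroup Ω := by
        have h3 : l * a⁻¹ * l⁻¹ ∈ alternatingGroup Ω :=
          (inferInstance : (alternatingGroup Ω).Normal).conj_mem _
            ((alternatingGroup Ω).inv_mem ha) l
        rw [show a * l * a⁻¹ * l⁻¹ = a * (l * a⁻¹ * l⁻¹) by group]
        exact (alternatingGroup Ω).mul_mem ha h3
      have h3 : (⟨_, h2⟩ : ↥(alternatingGroup Ω)) ∈ Lb.subgroupOf (alternatingGroup Ω) := by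
        rw [Subgroup.mem_subgroupOf]; exact h1
      rw [hb, Subgroup.mem_bot] at h3
      have h4 : a * l * a⁻¹ * l⁻¹ = 1 := congrArg Subtype.val h3
      have h6 : a * l = l * a := by
        rw [mul_inv_eq_one, mul_inv_eq_iff_eq_mul] at h4
        exact h4
      exact h6.symm
    have htriv : ∀ l ∈ Lb, l = 1 := fun l hl => cent_alt h5' l (hcomm l hl)
    have := LocalCore.qs_center_ne_top hqs
    apply this
    rw [Subgroup.eq_top_iff']
    rintro ⟨l, hl⟩
    have : (⟨l, hl⟩ : ↥Lb) = 1 := Subtype.ext (htriv l hl)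
    rw [this]
    exact Subgroup.one_mem _
  · have hle : alternatingGroup Ω ≤ Lb := by
      intro a ha
      have : (⟨a, ha⟩ : ↥(alternatingGroup Ω)) ∈ Lb.subgroupOf (alternatingGroup Ω) := by
        rw [ht]; trivial
      rwa [Subgroup.mem_subgroupOf] at this
    have hM : ((alternatingGroup Ω).subgroupOf Lb).Normal := by
      constructor
      intro n hn g
      rw [Subgroup.mem_subgroupOf] at hn ⊢
      exact (inferInstance : (alternatingGroup Ω).Normal).conj_mem _ hn _
    rcases LocalCore.qs_normal hqs ((alternatingGroup Ω).subgroupOf Lb) with ht2 | hc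
    · apply le_antisymm _ hle
      intro l hl
      have : (⟨l, hl⟩ : ↥Lb) ∈ (alternatingGroup Ω).subgroupOf Lb := by
        rw [ht2]; trivial
      rwa [Subgroup.mem_subgroupOf] at this
    · exfalso
      have h1 : ∀ a ∈ alternatingGroup Ω, a = 1 := by
        intro a ha
        apply cent_alt h5'
        intro b hb
        have h2 : (⟨a, hle ha⟩ : ↥Lb) ∈ Subgroup.center ↥Lb := by
          apply hc
          rw [Subgroup.mem_subgroupOf]; exact ha
        have h3 := Subgroup.mem_center_iff.mp h2 ⟨b, hle hb⟩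
        exact (congrArg Subtype.val h3).symm
      obtain ⟨x, y, hxy⟩ := hsimple.exists_pair_ne
      apply hxy
      exact Subtype.ext ((h1 _ x.2).trans (h1 _ y.2).symm)

/-- A fixed-point-free involution in `H` all of whose "pairs of pairs" are in `H`. -/
structure Good (H : Subgroup (Perm α)) (Y : Set α) (ζ : Perm α) : Prop where
  mem : ζ ∈ H
  inv : ∀ x, ζ (ζ x) = x
  fpf : ∀ x ∈ Y, ζ x ≠ x
  out : ∀ x, x ∉ Y → ζ x = x
  pairs : ∀ p ∈ Y, ∀ q ∈ Y, q ≠ p → q ≠ ζ p → swap p (ζ p) * swap q (ζ q) ∈ H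

omit [Fintype α] in
theorem Good.conj {H : Subgroup (Perm α)} {Y : Set α} {ζ : Perm α} (hζ : Good H Y ζ)
    (hstab : H ≤ StabS Y) {g : Perm α} (hg : g ∈ H) : Good H Y (g * ζ * g⁻¹) := by
  have hg' : ∀ x, g x ∈ Y ↔ x ∈ Y := hstab hg
  have hval : ∀ x, (g * ζ * g⁻¹) (g x) = g (ζ x) := by intro x; simp
  have hall : ∀ x, ∃ y, g y = x := fun x => ⟨g⁻¹ x, by simp⟩
  refine ⟨H.mul_mem (H.mul_mem hg hζ.mem) (H.inv_mem hg), ?_, ?_, ?_, ?_⟩
  · intro x
    obtain ⟨y, rfl⟩ := hall x
    rw [hval, hval, hζ.inv]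
  · intro x hx
    obtain ⟨y, rfl⟩ := hall x
    rw [hval]
    intro h
    exact hζ.fpf y ((hg' y).1 hx) (g.injective h)
  · intro x hx
    obtain ⟨y, rfl⟩ := hall x
    rw [hval, hζ.out y (fun h => hx ((hg' y).2 h))]
  · intro p hp q hq hqp hqζ
    obtain ⟨y, rfl⟩ := hall p
    obtain ⟨w, rfl⟩ := hall q
    rw [hval, hval, ← conj_swap_mul_swap]
    refine H.mul_mem (H.mul_mem hg (hζ.pairs y ((hg' y).1 hp) w ((hg' w).1 hq) ?_ ?_)) (H.inv_mem hg)
    · rintro rfl; exact hqp rfl
    · rintro rfl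
      apply hqζ
      rw [hval]

omit [Fintype α] in
/-- The crucial computation: two `Good` involutions commute unless there is a 5-cycle. -/
theorem Good.comm {H : Subgroup (Perm α)} {Y : Set α} {ζ ζ' : Perm α} (h1 : Good H Y ζ)
    (h2 : Good H Y ζ')
    (h5 : ∀ p ∈ Y, ∀ q ∈ Y, ∀ s ∈ Y, ∀ u ∈ Y, ∀ v ∈ Y, p ≠ u → p ≠ s → p ≠ q → p ≠ v → u ≠ s →
      u ≠ q → u ≠ v → s ≠ q → s ≠ v → q ≠ v →
      swap p q * swap s u * (swap p s * swap q v) ∉ H) : ζ * ζ' = ζ' * ζ := by
  ext x
  by_cases hx : x ∈ Y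
  · have hY : ∀ (z : Perm α), Good H Y z → ∀ y ∈ Y, z y ∈ Y := by
      intro z hz y hy
      by_contra h
      have h3 := hz.out _ h
      rw [hz.inv] at h3
      exact hz.fpf y hy h3.symm
    simp only [Perm.mul_apply]
    set q := ζ x with hq
    set t := ζ' x with ht
    by_cases hst : t = q
    · have e1 : ζ' q = x := by rw [← hst, ht, h2.inv]
      have e2 : ζ t = x := by rw [hst, hq, h1.inv]
      rw [e1, e2]
    set u := ζ t with hu
    set v := ζ' q with hv
    by_contra hne
    have hneuv : u ≠ v := hne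
    have hqY : q ∈ Y := hY ζ h1 x hx
    have htY : t ∈ Y := hY ζ' h2 x hx
    have huY : u ∈ Y := hY ζ h1 t htY
    have hvY : v ∈ Y := hY ζ' h2 q hqY
    have hxq : x ≠ q := (h1.fpf x hx).symm
    have hxt : x ≠ t := (h2.fpf x hx).symm
    have hxu : x ≠ u := by
      intro h
      apply hst
      have := congrArg ζ h
      rw [hu, h1.inv] at this
      exact this.symm
    have hxv : x ≠ v := by
      intro h
      have := congrArg ζ' h
      rw [hv, h2.inv] at this
      exact hst this
    have hut : u ≠ t := h1.fpf t htY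
    have huq : u ≠ q := by
      intro h
      have := congrArg ζ h
      rw [hu, hq, h1.inv, h1.inv] at this
      exact hxt this.symm
    have htq : t ≠ q := hst
    have htv : t ≠ v := by
      intro h
      have := congrArg ζ' h
      rw [ht, hv, h2.inv, h2.inv] at this
      exact hxq this
    have hqv : q ≠ v := (h2.fpf q hqY).symm
    apply h5 x hx q hqY t htY u huY v hvY hxu hxt hxq hxv hut huq hneuv htq htv hqv
    refine H.mul_mem ?_ ?_
    · exact h1.pairs x hx t htY hxt.symm hst
    · exact h2.pairs x hx q hqY hxq.symm (fun h => hst h.symm)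
  · simp only [Perm.mul_apply]
    rw [h2.out x hx, h1.out x hx, h2.out x hx]

end Cfsg.Agent.Lib.AltFStar
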