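import Mathlib
import Cfsg.Agent.Lib.AltFStarC

/-!
# Subgroups of `Perm α` containing a Sylow 2-subgroup of `Alt α`, with quasisimple `F*`: part D

The assembly: `L` is the alternating group on its support.
-/

set_option autoImplicit false
set_option linter.unusedSimpArgs false

open Cfsg Equiv Equiv.Perm

namespace Cfsg.Agent.Lib.AltFStar

variable {α : Type*} [Fintype α] [DecidableEq α]

/-- The support of `L` is a finite type. -/
noncomputable instance sigFintype (L : Subgroup (Perm α)) : Fintype ↥(Sig L) := Fintype.ofFinite _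

/-- Normal subgroups of primitive groups are transitive. -/
theorem qp {Ω : Type*} (G : Subgroup (Perm Ω)) (hp : MulAction.IsPreprimitive ↥G Ω)
    (N : Subgroup ↥G) (hN : N.Normal) (hb : N ≠ ⊥) : MulAction.IsPretransitive ↥N Ω := by
  have := hp
  have := hN
  apply MulAction.IsQuasiPreprimitive.isPretransitive_of_normal
  intro hfix
  apply hb
  rw [eq_bot_iff]
  intro n hn
  rw [Subgroup.mem_bot]
  apply Subtype.ext
  ext x
  have h1 : x ∈ MulAction.fixedPoints ↥N Ω := by rw [hfix]; trivial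
  exact h1 ⟨n, hn⟩

omit [Fintype α] in
/-- The values of the 5-cycle. -/
theorem five_vals {p q t u v : α} (hpu : p ≠ u) (hpt : p ≠ t) (hpq : p ≠ q) (hpv : p ≠ v)
    (hut : u ≠ t) (huq : u ≠ q) (huv : u ≠ v) (htq : t ≠ q) (htv : t ≠ v) (hqv : q ≠ v) :
    let c := swap p q * swap t u * (swap p t * swap q v)
    c p = u ∧ c u = t ∧ c t = q ∧ c q = v ∧ c v = p ∧
      ∀ y, y ≠ p → y ≠ u → y ≠ t → y ≠ q → y ≠ v → c y = y := by
  intro c
  have hc : ∀ y, c y = swap p q (swap t u (swap p t (swap q v y))) := fun y => rfl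
  refine ⟨?_, ?_, ?_, ?_, ?_, ?_⟩
  · simp [hc, swap_apply_def, hpu, hpt, hpq, hpv, hut, huq, huv, htq, htv, hqv, hpu.symm, hpt.symm,
      hpq.symm, hpv.symm, hut.symm, huq.symm, huv.symm, htq.symm, htv.symm, hqv.symm]
  · simp [hc, swap_apply_def, hpu, hpt, hpq, hpv, hut, huq, huv, htq, htv, hqv, hpu.symm, hpt.symm,
      hpq.symm, hpv.symm, hut.symm, huq.symm, huv.symm, htq.symm, htv.symm, hqv.symm]
  · simp [hc, swap_apply_def, hpu, hpt, hpq, hpv, hut, huq, huv, htq, htv, hqv, hpu.symm, hpt.symm,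
      hpq.symm, hpv.symm, hut.symm, huq.symm, huv.symm, htq.symm, htv.symm, hqv.symm]
  · simp [hc, swap_apply_def, hpu, hpt, hpq, hpv, hut, huq, huv, htq, htv, hqv, hpu.symm, hpt.symm,
      hpq.symm, hpv.symm, hut.symm, huq.symm, huv.symm, htq.symm, htv.symm, hqv.symm]
  · simp [hc, swap_apply_def, hpu, hpt, hpq, hpv, hut, huq, huv, htq, htv, hqv, hpu.symm, hpt.symm,
      hpq.symm, hpv.symm, hut.symm, huq.symm, huv.symm, htq.symm, htv.symm, hqv.symm]
  · intro y h1 h2 h3 h4 h5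
    rw [hc, swap_apply_of_ne_of_ne h4 h5, swap_apply_of_ne_of_ne h1 h3,
      swap_apply_of_ne_of_ne h3 h2, swap_apply_of_ne_of_ne h1 h4]

namespace Setup

variable {H L P' : Subgroup (Perm α)}

theorem via_conj (s : Setup H L P') (M : Subgroup (Perm α)) (hM : P' ≤ M) {k : ℕ} (e : Fin k ↪ α)
    (S₀ : Set (Perm (Fin k))) (h1 : ∀ z ∈ S₀, sign z = 1) (h2 : ∀ z ∈ S₀, z * z = 1)
    (h3 : ∀ z ∈ S₀, ∀ w ∈ S₀, z * w = w * z) (h4 : ∀ z ∈ S₀, via e z ∈ M) :
    ∃ m ∈ M, ∀ z ∈ S₀, via (e.trans m.toEmbedding) z ∈ P' := by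
  obtain ⟨m, hm, h⟩ := s.hconj M hM (via e '' S₀) (by rintro _ ⟨z, hz, rfl⟩; exact h4 z hz)
    (by rintro _ ⟨z, hz, rfl⟩; rw [SetLike.mem_coe, mem_alternatingGroup, via_sign]; exact h1 z hz)
    (by rintro _ ⟨z, hz, rfl⟩; rw [← map_mul, h2 z hz, map_one])
    (by rintro _ ⟨z, hz, rfl⟩ _ ⟨w, hw, rfl⟩; rw [← map_mul, ← map_mul, h3 z hz w hw])
  refine ⟨m, hm, fun z hz => ?_⟩
  rw [via_trans]
  exact h _ ⟨z, hz, rfl⟩

/-- **Step 1b**: the support of `L` has at least 8 points. -/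
theorem card_sig_ge (s : Setup H L P') (hn : 8 ≤ Fintype.card α) : 8 ≤ Fintype.card ↥(Sig L) := by
  classical
  obtain ⟨e⟩ : Nonempty (Fin 8 ↪ α) := Function.Embedding.nonempty_of_card_le (by simpa using hn)
  obtain ⟨m, -, hm⟩ := s.via_conj ⊤ le_top e (Set.range xorP)
    (by rintro _ ⟨c, rfl⟩; exact xorP_sign c)
    (by rintro _ ⟨c, rfl⟩; exact xorP_inv c)
    (by rintro _ ⟨c, rfl⟩ _ ⟨d, rfl⟩; exact xorP_comm c d)
    (fun _ _ => Subgroup.mem_top _)
  set f := e.trans m.toEmbedding with hf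
  have hex : ∃ i, f i ∈ Sig L := by
    by_contra hall
    push Not at hall
    have := s.compl_card_le (Finset.univ.map f) (by
      intro x hx
      rw [Finset.mem_map] at hx
      obtain ⟨i, -, rfl⟩ := hx
      exact hall i)
    rw [Finset.card_map, Finset.card_univ, Fintype.card_fin] at this
    omega
  obtain ⟨i, hi⟩ := hex
  have hall : ∀ j, f j ∈ Sig L := by
    intro j
    have h1 : via f (xorP (i ^^^ j)) ∈ H := s.hPH (hm _ ⟨_, rfl⟩)
    have h2 := (s.sig_stab h1 (f i)).2 hi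
    rwa [via_apply, xorP_tr] at h2
  have hinj : Function.Injective (fun j => (⟨f j, hall j⟩ : ↥(Sig L))) := by
    intro a b h
    exact f.injective (congrArg Subtype.val h)
  have h3 := Fintype.card_le_of_injective _ hinj
  simpa using h3

theorem card_sig_bounds (s : Setup H L P') : Fintype.card α ≤ Fintype.card ↥(Sig L) + 3 := by
  classical
  have h1 := s.compl_card_le (Finset.univ.filter (fun x => x ∉ Sig L)) (by simp)
  have h2 : Fintype.card ↥(Sig L) = (Finset.univ.filter (fun x => x ∈ Sig L)).card :=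
    Fintype.card_of_subtype _ (by simp)
  have h3 := Finset.card_filter_add_card_filter_not (s := (Finset.univ : Finset α))
    (fun x => x ∈ Sig L)
  rw [Finset.card_univ] at h3
  omega

/-- The restriction to the support of `L` is faithful. -/
theorem res_injective (s : Setup H L P') : Function.Injective (res s.sig_stab) := by
  rw [injective_iff_map_eq_one]
  intro h hh
  have hfix : ∀ x ∈ Sig L, (h : Perm α) x = x := by
    intro x hx
    have h1 := DFunLike.congr_fun hh (⟨x, hx⟩ : ↥(Sig L))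
    exact congrArg Subtype.val h1
  have hstab := s.sig_stab h.2
  have hcomm : ∀ g ∈ L, (h : Perm α) * g = g * h := by
    intro g hg
    ext x
    simp only [Perm.mul_apply]
    by_cases hx : x ∈ Sig L
    · rw [hfix x hx, hfix _ ((s.sig_stab (s.hLH hg) x).2 hx)]
    · rw [fix_of_not_sig hx hg, fix_of_not_sig (fun h2 => hx ((hstab x).1 h2)) hg]
  have hL := s.hcen _ h.2 hcomm
  apply Subtype.ext
  ext x
  by_cases hx : x ∈ Sig L
  · exact hfix x hx
  · exact fix_of_not_sig hx hL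

/-- A nontrivial normal subgroup of `H` is transitive on the support of `L`. -/
theorem normal_trans (s : Setup H L P') (W : Subgroup (Perm α)) (hWH : W ≤ H)
    (hWn : ∀ h ∈ H, ∀ w ∈ W, h * w * h⁻¹ ∈ W) (hW1 : ∃ w ∈ W, ∃ x ∈ Sig L, w x ≠ x) {x y : α}
    (hx : x ∈ Sig L) (hy : y ∈ Sig L) : ∃ w ∈ W, w x = y := by
  let φ := (res s.sig_stab).rangeRestrict
  let N : Subgroup ↥(res s.sig_stab).range := (W.subgroupOf H).map φ
  have hNn : N.Normal := by
    have h0 : (W.subgroupOf H).Normal :=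
      ⟨fun n hn g => by rw [Subgroup.mem_subgroupOf] at hn ⊢; exact hWn g g.2 _ hn⟩
    exact h0.map φ (MonoidHom.rangeRestrict_surjective _)
  have hNb : N ≠ ⊥ := by
    obtain ⟨w, hw, z, hz, hwz⟩ := hW1
    intro hb
    have h1 : φ ⟨w, hWH hw⟩ ∈ N :=
      Subgroup.mem_map_of_mem _ (by rw [Subgroup.mem_subgroupOf]; exact hw)
    rw [hb, Subgroup.mem_bot] at h1
    have h2 := congrArg (fun p : ↥(res s.sig_stab).range =>
      (((p : Perm ↥(Sig L)) ⟨z, hz⟩ : ↥(Sig L)) : α)) h1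
    exact hwz h2
  have htr := qp _ s.preprimitive N hNn hNb
  obtain ⟨n, hn⟩ := htr.exists_smul_eq ⟨x, hx⟩ ⟨y, hy⟩
  obtain ⟨⟨h, hh⟩, hhW, hφ⟩ := n.2
  rw [SetLike.mem_coe, Subgroup.mem_subgroupOf] at hhW
  refine ⟨h, hhW, ?_⟩
  have h3 := congrArg Subtype.val hn
  have h4 : (((n : ↥(res s.sig_stab).range) : Perm ↥(Sig L)) ⟨x, hx⟩ : ↥(Sig L)).1 = h x := by
    rw [← hφ]; rfl
  rw [← h4]
  exact h3

/-- **Step 4**: large degree, via the Jordan set theorem. -/
theorem alt_le_of_large (s : Setup H L P') (h9 : 9 ≤ Fintype.card ↥(Sig L)) :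
    alternatingGroup ↥(Sig L) ≤ (res s.sig_stab).range := by
  classical
  obtain ⟨e₀⟩ : Nonempty (Fin 4 ↪ ↥(Sig L)) :=
    Function.Embedding.nonempty_of_card_le (by simp only [Fintype.card_fin]; omega)
  let e : Fin 4 ↪ α := e₀.trans (Function.Embedding.subtype _)
  have he : ∀ i, e i ∈ Sig L := fun i => (e₀ i).2
  have hPM : P' ≤ StabS (Sig L) := s.hPH.trans s.sig_stab
  obtain ⟨hs1, hs2, hi1, hi2, hc⟩ := v_facts
  obtain ⟨m, hm, hv⟩ := s.via_conj _ hPM e {v1, v2}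
    (by rintro z (rfl | rfl); exacts [hs1, hs2])
    (by rintro z (rfl | rfl); exacts [hi1, hi2])
    (by rintro z (rfl | rfl) w (rfl | rfl); exacts [rfl, hc, hc.symm, rfl])
    (fun z _ => via_mem_stabS e z he)
  set f := e.trans m.toEmbedding with hfdef
  have hf : ∀ i, f i ∈ Sig L := fun i => ((show ∀ x, m x ∈ Sig L ↔ x ∈ Sig L from hm) _).2 (he i)
  let fb : Fin 4 → ↥(Sig L) := fun i => ⟨f i, hf i⟩
  have hfb : Function.Injective fb := fun a b h => f.injective (congrArg Subtype.val h)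
  let Γ : Set ↥(Sig L) := Set.range fb
  have hΓ : Γ.ncard = 4 := by
    have h1 : Γ = fb '' Set.univ := by simp [Γ]
    rw [h1, Set.ncard_image_of_injective _ hfb, Set.ncard_univ, Nat.card_fin]
  have hvH : ∀ z : Perm (Fin 4), (z = 1 ∨ z = v1 ∨ z = v2 ∨ z = v1 * v2) → via f z ∈ H := by
    rintro z (rfl | rfl | rfl | rfl)
    · rw [map_one]; exact H.one_mem
    · exact s.hPH (hv _ (Or.inl rfl))
    · exact s.hPH (hv _ (Or.inr rfl))
    · rw [map_mul]
      exact H.mul_mem (s.hPH (hv _ (Or.inl rfl))) (s.hPH (hv _ (Or.inr rfl)))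
  have hJ : MulAction.IsPretransitive ↥(fixingSubgroup ↥(res s.sig_stab).range Γᶜ)
      ↥(SubMulAction.ofFixingSubgroup ↥(res s.sig_stab).range Γᶜ) := by
    have ha₀ : fb 0 ∈ SubMulAction.ofFixingSubgroup ↥(res s.sig_stab).range Γᶜ := by
      rw [SubMulAction.mem_ofFixingSubgroup_iff]
      simp [Γ]
    rw [MulAction.isPretransitive_iff_base (⟨fb 0, ha₀⟩ :
      ↥(SubMulAction.ofFixingSubgroup ↥(res s.sig_stab).range Γᶜ))]
    rintro ⟨y, hy⟩
    rw [SubMulAction.mem_ofFixingSubgroup_iff] at hy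
    have hy' : y ∈ Γ := by simpa using hy
    obtain ⟨i, rfl⟩ := hy'
    obtain ⟨z, hz, hzi⟩ := v_tr i
    have hzH := hvH z hz
    let g : ↥(res s.sig_stab).range := ⟨res s.sig_stab ⟨via f z, hzH⟩, ⟨_, rfl⟩⟩
    have hg : g ∈ fixingSubgroup ↥(res s.sig_stab).range Γᶜ := by
      rw [mem_fixingSubgroup_iff]
      intro w hw
      apply Subtype.ext
      show via f z w.1 = w.1
      apply via_apply_not
      rintro ⟨l, hl⟩
      apply hw
      exact ⟨l, Subtype.ext hl⟩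
    refine ⟨⟨g, hg⟩, ?_⟩
    apply Subtype.ext
    apply Subtype.ext
    show via f z (f 0) = f i
    rw [via_apply, hzi]
  have hres := Cfsg.Agent.S3620.result (G := ↥(res s.sig_stab).range) (Ω := ↥(Sig L))
    (fun N hN hb => qp _ s.preprimitive N hN hb) Γ (by rw [hΓ]; norm_num)
    (by rw [hΓ]; omega) hJ
  intro σ hσ
  obtain ⟨x, hx⟩ := hres σ (by rwa [mem_alternatingGroup] at hσ)
  have h1 : σ = (x : Perm ↥(Sig L)) := by
    rw [← hx]
    ext w
    rfl
  rw [h1]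
  exact x.2

/-- `Good` involutions exist on 8 points. -/
theorem exists_good (s : Setup H L P') (h8 : Fintype.card ↥(Sig L) = 8) :
    ∃ ζ, Good H (Sig L) ζ := by
  classical
  let e₀ : Fin 8 ≃ ↥(Sig L) := (Fintype.equivFinOfCardEq h8).symm
  let e : Fin 8 ↪ α := e₀.toEmbedding.trans (Function.Embedding.subtype _)
  have he : ∀ i, e i ∈ Sig L := fun i => (e₀ i).2
  have her : ∀ x ∈ Sig L, ∃ i, e i = x := by
    intro x hx
    exact ⟨e₀.symm ⟨x, hx⟩, by simp [e]⟩
  have hPM : P' ≤ StabS (Sig L) := s.hPH.trans s.sig_stab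
  let S₀ : Set (Perm (Fin 8)) :=
    {w | w = zz ∨ ∃ i j, j ≠ i ∧ j ≠ zz i ∧ w = swap i (zz i) * swap j (zz j)}
  obtain ⟨m, hm, hv⟩ := s.via_conj _ hPM e S₀
    (by
      rintro z (rfl | ⟨i, j, -, -, rfl⟩)
      · exact zz_sign
      · exact zz_pair_sign i j)
    (by
      rintro z (rfl | ⟨i, j, h1, h2, rfl⟩)
      · exact zz_inv
      · exact zz_pair_inv i j h1 h2)
    (by
      rintro z (rfl | ⟨i, j, -, -, rfl⟩) w (rfl | ⟨k, l, -, -, rfl⟩)
      · rfl
      · exact (zz_comm k l).symm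
      · exact zz_comm i j
      · exact zz_pair_comm i j k l)
    (fun z _ => via_mem_stabS e z he)
  set f := e.trans m.toEmbedding with hfdef
  have hm' : ∀ x, m x ∈ Sig L ↔ x ∈ Sig L := hm
  have hfr : ∀ x ∈ Sig L, ∃ i, f i = x := by
    intro x hx
    obtain ⟨i, hi⟩ := her (m⁻¹ x) ((hm' _).1 (by simpa using hx))
    refine ⟨i, ?_⟩
    simp [hfdef, hi]
  have hfz : ∀ i, f i ∈ Sig L := fun i => (hm' _).2 (he i)
  refine ⟨via f zz, s.hPH (hv _ (Or.inl rfl)), ?_, ?_, ?_, ?_⟩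
  · intro x
    have h1 : via f zz * via f zz = 1 := by rw [← map_mul, zz_inv, map_one]
    exact DFunLike.congr_fun h1 x
  · intro x hx
    obtain ⟨i, rfl⟩ := hfr x hx
    rw [via_apply]
    exact f.injective.ne (zz_fpf i)
  · intro x hx
    apply via_apply_not
    rintro ⟨i, rfl⟩
    exact hx (hfz i)
  · intro p hp q hq hqp hqζ
    obtain ⟨i, rfl⟩ := hfr p hp
    obtain ⟨j, rfl⟩ := hfr q hq
    rw [via_apply, via_apply, ← via_swap, ← via_swap, ← map_mul]
    refine s.hPH (hv _ (Or.inr ⟨i, j, ?_, ?_, rfl⟩))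
    · rintro rfl; exact hqp rfl
    · rintro rfl; apply hqζ; rw [via_apply]

/-- **Step 5**: degree 8. -/
theorem alt_le_of_eight (s : Setup H L P') (h8 : Fintype.card ↥(Sig L) = 8) :
    alternatingGroup ↥(Sig L) ≤ (res s.sig_stab).range := by
  classical
  by_contra hnA
  have h5 : ∀ p ∈ Sig L, ∀ q ∈ Sig L, ∀ t ∈ Sig L, ∀ u ∈ Sig L, ∀ v ∈ Sig L, p ≠ u → p ≠ t → p ≠ q →
      p ≠ v → u ≠ t → u ≠ q → u ≠ v → t ≠ q → t ≠ v → q ≠ v →
      swap p q * swap t u * (swap p t * swap q v) ∉ H := by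
    intro p hp q hq t ht u hu v hv hpu hpt hpq hpv hut huq huv htq htv hqv hc
    apply hnA
    obtain ⟨c1, c2, c3, c4, c5, c6⟩ := five_vals hpu hpt hpq hpv hut huq huv htq htv hqv
    have hcyc := five_cycle (res s.sig_stab ⟨_, hc⟩) ⟨p, hp⟩ ⟨u, hu⟩ ⟨t, ht⟩ ⟨q, hq⟩ ⟨v, hv⟩
      (fun h => hpu (congrArg Subtype.val h)) (fun h => hpt (congrArg Subtype.val h))
      (fun h => hpq (congrArg Subtype.val h)) (fun h => hpv (congrArg Subtype.val h))
      (fun h => hut (congrArg Subtype.val h)) (fun h => huq (congrArg Subtype.val h))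
      (fun h => huv (congrArg Subtype.val h)) (fun h => htq (congrArg Subtype.val h))
      (fun h => htv (congrArg Subtype.val h)) (fun h => hqv (congrArg Subtype.val h))
      (Subtype.ext c1) (Subtype.ext c2) (Subtype.ext c3) (Subtype.ext c4) (Subtype.ext c5)
      (fun y h1 h2 h3 h4 h5 => Subtype.ext (c6 y.1
        (fun h => h1 (Subtype.ext h)) (fun h => h2 (Subtype.ext h)) (fun h => h3 (Subtype.ext h))
        (fun h => h4 (Subtype.ext h)) (fun h => h5 (Subtype.ext h))))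
    exact Cfsg.Agent.S0713.result _ s.preprimitive (p := 5) (by norm_num) (by omega) (by omega)
      hcyc.1 hcyc.2 ⟨_, rfl⟩
  have hGcomm : ∀ ζ ∈ {ζ | Good H (Sig L) ζ}, ∀ ζ' ∈ {ζ | Good H (Sig L) ζ}, ζ * ζ' = ζ' * ζ :=
    fun ζ h1 ζ' h2 => Good.comm h1 h2 h5
  let W := Subgroup.closure {ζ | Good H (Sig L) ζ}
  have hWH : W ≤ H := (Subgroup.closure_le _).2 (fun ζ h => Good.mem h)
  have hWcomm : ∀ x ∈ W, ∀ y ∈ W, x * y = y * x := by
    intro x hx y hy
    have hcomm := (Subgroup.isMulCommutative_closure hGcomm).is_comm.comm ⟨x, hx⟩ ⟨y, hy⟩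
    exact congrArg Subtype.val hcomm
  have hWn : ∀ h ∈ H, ∀ w ∈ W, h * w * h⁻¹ ∈ W := by
    intro h hh w hw
    induction hw using Subgroup.closure_induction with
    | mem x hx => exact Subgroup.subset_closure (Good.conj hx s.sig_stab hh)
    | one => simp [W.one_mem]
    | mul x y _ _ ihx ihy =>
      have := W.mul_mem ihx ihy
      rwa [show h * x * h⁻¹ * (h * y * h⁻¹) = h * (x * y) * h⁻¹ by group] at this
    | inv x _ ih =>
      have := W.inv_mem ih
      rwa [show (h * x * h⁻¹)⁻¹ = h * x⁻¹ * h⁻¹ by group] at this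
  have hLcomm : ¬ IsMulCommutative ↥L := LocalCore.qs_not_comm s.hqs
  have hLW : ¬ L ≤ W := by
    intro hle
    apply hLcomm
    refine ⟨⟨fun a b => Subtype.ext (hWcomm _ (hle a.2) _ (hle b.2))⟩⟩
  have hcent : ∀ w ∈ W, ∀ g ∈ L, w * g = g * w := by
    intro w hw
    refine s.comm_of_mod (hWH hw) W (fun g hg x hx => hWn g (s.hLH hg) x hx) hLW ?_
    intro g hg
    rw [mul_assoc, mul_assoc]
    refine W.mul_mem hw ?_
    rw [← mul_assoc]
    exact hWn g (s.hLH hg) _ (W.inv_mem hw)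
  obtain ⟨ζ, hζ⟩ := s.exists_good h8
  obtain ⟨x0⟩ : Nonempty ↥(Sig L) := by
    apply Fintype.card_pos_iff.1
    omega
  have hW1 : ∃ w ∈ W, ∃ x ∈ Sig L, w x ≠ x :=
    ⟨ζ, Subgroup.subset_closure hζ, x0.1, x0.2, hζ.fpf _ x0.2⟩
  -- every element of `L` agrees with an element of `W` on the support
  have hagree : ∀ g ∈ L, ∃ w ∈ W, ∀ y ∈ Sig L, g y = w y := by
    intro g hg
    obtain ⟨w, hw, hwx⟩ := s.normal_trans W hWH hWn hW1 x0.2
      ((s.sig_stab (s.hLH hg) x0.1).2 x0.2)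
    refine ⟨w, hw, ?_⟩
    intro y hy
    obtain ⟨w1, hw1, rfl⟩ := s.normal_trans W hWH hWn hW1 x0.2 hy
    have h1 := DFunLike.congr_fun (hcent w1 hw1 g hg) x0.1
    have h2 := DFunLike.congr_fun (hWcomm w hw w1 hw1) x0.1
    simp only [Perm.mul_apply] at h1 h2
    rw [← h1, ← hwx, ← h2]
  apply hLcomm
  refine ⟨⟨fun a b => Subtype.ext ?_⟩⟩
  obtain ⟨w, hw, hagr⟩ := hagree b.1 b.2
  ext y
  show a.1 (b.1 y) = b.1 (a.1 y)
  by_cases hy : y ∈ Sig L
  · have h1 := DFunLike.congr_fun (hcent w hw a.1 a.2) y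
    simp only [Perm.mul_apply] at h1
    rw [hagr y hy, hagr _ ((s.sig_stab (s.hLH a.2) y).2 hy), h1]
  · rw [fix_of_not_sig hy b.2, fix_of_not_sig hy a.2, fix_of_not_sig hy b.2]

/-- **Main theorem** for a `Setup`. -/
theorem main (s : Setup H L P') (hn : 8 ≤ Fintype.card α) :
    ∃ m, (Fintype.card α ≤ m + 3 ∧ m ≤ Fintype.card α) ∧
      Nonempty (↥L ≃* ↥(alternatingGroup (Fin m))) := by
  classical
  have h8 := s.card_sig_ge hn
  have hA : alternatingGroup ↥(Sig L) ≤ (res s.sig_stab).range := by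
    rcases (by omega : 9 ≤ Fintype.card ↥(Sig L) ∨ Fintype.card ↥(Sig L) = 8) with h | h
    · exact s.alt_le_of_large h
    · exact s.alt_le_of_eight h
  let ρ : ↥L →* Perm ↥(Sig L) := (res s.sig_stab).comp (Subgroup.inclusion s.hLH)
  have hρ : Function.Injective ρ := s.res_injective.comp (Subgroup.inclusion_injective _)
  let e1 : ↥L ≃* ρ.range := MonoidHom.ofInjective hρ
  have hLb : ρ.range = alternatingGroup ↥(Sig L) := by
    refine alt_eq_of_normal (by rw [Nat.card_eq_fintype_card]; omega) (res s.sig_stab).range ρ.range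
      hA ?_ (LocalCore.qs_of_mulEquiv e1 s.hqs)
    rintro _ ⟨h, rfl⟩ _ ⟨l, rfl⟩
    refine ⟨⟨h.1 * l.1 * h.1⁻¹, s.hLn h.1 h.2 l.1 l.2⟩, ?_⟩
    show res s.sig_stab (h * Subgroup.inclusion s.hLH l * h⁻¹) = _
    rw [map_mul, map_mul, map_inv]
    rfl
  refine ⟨Fintype.card ↥(Sig L), ⟨s.card_sig_bounds, Fintype.card_subtype_le _⟩, ⟨?_⟩⟩
  exact e1.trans ((MulEquiv.subgroupCongr hLb).trans (Equiv.altCongrHom (Fintype.equivFin _)))

end Setup

end Cfsg.Agent.Lib.AltFStar
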