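import Mathlib
import Cfsg.Agent.S2119

/-!
# Automorphisms of odd order of alternating groups are inner
-/

set_option autoImplicit false
set_option linter.unusedSectionVars false

namespace Cfsg.Agent.Lib.AltOdd

open Equiv Equiv.Perm Cfsg.Agent.S2119

section General

variable {α : Type*} [Fintype α] [DecidableEq α]

theorem conjNormal_surj_of_preserves (h4 : 4 ≤ Fintype.card α) (φ : MulAut (alternatingGroup α))
    (hφ : ∀ x : alternatingGroup α, IsThreeCycle (x : Perm α) → IsThreeCycle ((φ x : alternatingGroup α) : Perm α)) :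
    ∃ π : Perm α, MulAut.conjNormal π = φ := by
  obtain ⟨p0, p1, h01⟩ := Fintype.exists_pair_of_one_lt_card (by omega : 1 < Fintype.card α)
  have hXmem : ∀ i, i ≠ p0 → i ≠ p1 → cyc p0 p1 i ∈ alternatingGroup α := fun i h0 h1 =>
    (cyc_isThreeCycle h01 (Ne.symm h0) (Ne.symm h1)).mem_alternatingGroup
  let X : ∀ i, i ≠ p0 → i ≠ p1 → alternatingGroup α := fun i h0 h1 => ⟨cyc p0 p1 i, hXmem i h0 h1⟩
  let d : ∀ i, i ≠ p0 → i ≠ p1 → Perm α := fun i h0 h1 => ((φ (X i h0 h1) : alternatingGroup α) : Perm α)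
  have hd3 : ∀ i h0 h1, IsThreeCycle (d i h0 h1) := fun i h0 h1 =>
    hφ _ (cyc_isThreeCycle h01 (Ne.symm h0) (Ne.symm h1))
  have hord : ∀ i h0 h1 j h0' h1', i ≠ j → orderOf (d i h0 h1 * d j h0' h1') = 2 := by
    intro i h0 h1 j h0' h1' hij
    have h2 : d i h0 h1 * d j h0' h1' = ((φ (X i h0 h1 * X j h0' h1') : alternatingGroup α) : Perm α) := by
      rw [map_mul]; rfl
    rw [h2, Subgroup.orderOf_coe, MulEquiv.orderOf_eq, ← Subgroup.orderOf_coe]
    exact orderOf_cyc_mul_cyc h01 (Ne.symm h0) (Ne.symm h0') (Ne.symm h1) (Ne.symm h1') (hij)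
  obtain ⟨i0, hi00, hi01, -⟩ := exists_ne3 h4 p0 p1 p0
  obtain ⟨i1, hi10, hi11, hi1i0⟩ := exists_ne3 h4 p0 p1 i0
  obtain ⟨a, b, c, e, ab, ac, bc, ae, be, ce, hx, hy⟩ :=
    pair_structure (hd3 i0 hi00 hi01) (hd3 i1 hi10 hi11) (hord i0 hi00 hi01 i1 hi10 hi11 (Ne.symm hi1i0))
  have hex : ∀ i (h0 : i ≠ p0) (h1 : i ≠ p1), ∃ r, r ≠ a ∧ r ≠ b ∧ d i h0 h1 = cyc a b r := by
    intro i h0 h1
    by_cases h2 : i = i0
    · subst h2
      exact ⟨c, ac.symm, bc.symm, hx⟩
    by_cases h3 : i = i1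
    · subst h3
      exact ⟨e, ae.symm, be.symm, hy⟩
    apply triple_lemma ab ac bc ae be ce (hd3 i h0 h1)
    · rw [← hx]; exact hord i0 hi00 hi01 i h0 h1 (Ne.symm h2)
    · rw [← hy]; exact hord i1 hi10 hi11 i h0 h1 (Ne.symm h3)
  choose r hra hrb hrd using hex
  let f : α → α := fun t => if h0 : t = p0 then a else if h1 : t = p1 then b else r t h0 h1
  have hf0 : f p0 = a := by simp [f]
  have hf1 : f p1 = b := by simp [f, h01.symm]
  have hfi : ∀ i (h0 : i ≠ p0) (h1 : i ≠ p1), f i = r i h0 h1 := by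
    intro i h0 h1
    simp [f, h0, h1]
  have hrinj : ∀ i h0 h1 j h0' h1', r i h0 h1 = r j h0' h1' → i = j := by
    intro i h0 h1 j h0' h1' hij
    have h2 : d i h0 h1 = d j h0' h1' := by rw [hrd i h0 h1, hrd j h0' h1', hij]
    have h3 : φ (X i h0 h1) = φ (X j h0' h1') := Subtype.ext h2
    have h4 := φ.injective h3
    have h5 : cyc p0 p1 i = cyc p0 p1 j := congrArg Subtype.val h4
    have h6 := congrArg (fun g : Perm α => g p1) h5
    simpa [cyc_b (Ne.symm h0) (Ne.symm h1), cyc_b (Ne.symm h0') (Ne.symm h1')] using h6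
  have hfinj : Function.Injective f := by
    intro s t hst
    by_cases hs0 : s = p0
    · rw [hs0, hf0] at hst
      by_cases ht0 : t = p0
      · rw [hs0, ht0]
      by_cases ht1 : t = p1
      · rw [ht1, hf1] at hst; exact absurd hst ab
      · rw [hfi t ht0 ht1] at hst; exact absurd hst.symm (hra _ _ _)
    by_cases hs1 : s = p1
    · rw [hs1, hf1] at hst
      by_cases ht0 : t = p0
      · rw [ht0, hf0] at hst; exact absurd hst.symm ab
      by_cases ht1 : t = p1
      · rw [hs1, ht1]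
      · rw [hfi t ht0 ht1] at hst; exact absurd hst.symm (hrb _ _ _)
    rw [hfi s hs0 hs1] at hst
    by_cases ht0 : t = p0
    · rw [ht0, hf0] at hst; exact absurd hst (hra _ _ _)
    by_cases ht1 : t = p1
    · rw [ht1, hf1] at hst; exact absurd hst (hrb _ _ _)
    · rw [hfi t ht0 ht1] at hst; exact hrinj s hs0 hs1 t ht0 ht1 hst
  let π : Perm α := Equiv.ofBijective f (Finite.injective_iff_bijective.mp hfinj)
  have hπ : ∀ t, π t = f t := fun t => rfl
  refine ⟨π, ?_⟩
  let E : Subgroup (alternatingGroup α) :=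
    MonoidHom.eqLocus (MulAut.conjNormal π).toMonoidHom φ.toMonoidHom
  have hle := alternatingGroup_le_of_cyc_mem h4 p0 p1 h01 (E.map (alternatingGroup α).subtype) (by
    intro i h0 h1
    refine ⟨X i h0 h1, ?_, rfl⟩
    show (MulAut.conjNormal π) (X i h0 h1) = φ (X i h0 h1)
    apply Subtype.ext
    rw [MulAut.conjNormal_apply]
    show π * cyc p0 p1 i * π⁻¹ = d i h0 h1
    rw [conj_cyc, hrd i h0 h1, hπ, hπ, hπ, hf0, hf1, hfi i h0 h1])
  apply MulEquiv.ext
  intro g
  obtain ⟨g', hg', hgg'⟩ := hle g.2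
  have : g' = g := Subtype.ext hgg'
  subst this
  exact hg'


end General

section Six

abbrev A6 := alternatingGroup (Fin 6)

theorem card_three : (Finset.univ.filter (fun g : Perm (Fin 6) => g.cycleType = {3})).card = 40 := by
  have := Equiv.Perm.card_of_cycleType (α := Fin 6) ({3} : Multiset ℕ)
  rw [this]
  simp [Nat.factorial]

theorem card_three_three :
    (Finset.univ.filter (fun g : Perm (Fin 6) => g.cycleType = ({3, 3} : Multiset ℕ))).card = 40 := by
  have := Equiv.Perm.card_of_cycleType (α := Fin 6) ({3, 3} : Multiset ℕ)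
  rw [this]
  simp [Nat.factorial]


theorem type_of_order_three (y : A6) (hy : orderOf y = 3) :
    (y : Perm (Fin 6)).cycleType = {3} ∨ (y : Perm (Fin 6)).cycleType = ({3, 3} : Multiset ℕ) := by
  have h1 : orderOf (y : Perm (Fin 6)) = 3 := by
    rw [Subgroup.orderOf_coe]
    exact hy
  obtain ⟨k, hk⟩ := cycleType_prime_order (σ := (y : Perm (Fin 6))) (by rw [h1]; norm_num)
  rw [h1] at hk
  have hsum := sum_cycleType_le (y : Perm (Fin 6))
  rw [hk, Multiset.sum_replicate] at hsum
  simp only [smul_eq_mul, Fintype.card_fin] at hsum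
  have hk2 : k = 0 ∨ k = 1 := by omega
  rcases hk2 with rfl | rfl
  · left
    rw [hk]
    rfl
  · right
    rw [hk]
    rfl

theorem mem_alt_three_three (g : Perm (Fin 6)) (h : g.cycleType = ({3, 3} : Multiset ℕ)) :
    g ∈ alternatingGroup (Fin 6) := by
  rw [mem_alternatingGroup, sign_of_cycleType, h]
  decide

theorem card_T {m : Multiset ℕ} (hm : ∀ g : Perm (Fin 6), g.cycleType = m → g ∈ alternatingGroup (Fin 6)) :
    (Finset.univ.filter (fun y : A6 => (y : Perm (Fin 6)).cycleType = m)).card =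
      (Finset.univ.filter (fun g : Perm (Fin 6) => g.cycleType = m)).card := by
  refine Finset.card_bij (fun (y : A6) _ => (y : Perm (Fin 6))) ?_ ?_ ?_
  · intro y hy
    simpa using hy
  · intro a _ b _ hab
    exact Subtype.ext hab
  · intro g hg
    have hg' : g.cycleType = m := by simpa using hg
    exact ⟨⟨g, hm g hg'⟩, by simpa using hg', rfl⟩

theorem preserves_of_odd (φ : MulAut A6) {m : ℕ} (hm : Odd m) (hφ : φ ^ m = 1) (x : A6)
    (hx : IsThreeCycle (x : Perm (Fin 6))) : IsThreeCycle ((φ x : A6) : Perm (Fin 6)) := by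
  classical
  by_contra hne
  set T₁ : Finset A6 := Finset.univ.filter (fun y : A6 => (y : Perm (Fin 6)).cycleType = {3}) with hT₁
  set T₂ : Finset A6 := Finset.univ.filter (fun y : A6 => (y : Perm (Fin 6)).cycleType = ({3, 3} : Multiset ℕ)) with hT₂
  have hcard₁ : T₁.card = 40 := by
    rw [hT₁, card_T (fun g hg => IsThreeCycle.mem_alternatingGroup hg), card_three]
  have hcard₂ : T₂.card = 40 := by
    rw [hT₂, card_T mem_alt_three_three, card_three_three]
  have hordT : ∀ y ∈ T₁, orderOf y = 3 := by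
    intro y hy
    have h1 : IsThreeCycle (y : Perm (Fin 6)) := by
      have h0 : (y : Perm (Fin 6)).cycleType = {3} := by simpa [hT₁] using hy
      exact h0
    rw [← Subgroup.orderOf_coe]
    exact h1.orderOf
  have hxT : x ∈ T₁ := by
    simp only [hT₁, Finset.mem_filter, Finset.mem_univ, true_and]
    exact hx
  have hordφ : ∀ y : A6, orderOf (φ y) = orderOf y := fun y => MulEquiv.orderOf_eq φ y
  have hφx : ((φ x : A6) : Perm (Fin 6)).cycleType = ({3, 3} : Multiset ℕ) :=
    (type_of_order_three _ (by rw [hordφ]; exact hordT x hxT)).resolve_left hne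
  have h5 : 5 ≤ Nat.card (Fin 6) := by simp
  have hT12 : ∀ y ∈ T₁, φ y ∈ T₂ := by
    intro y hy
    have h1 : IsThreeCycle (y : Perm (Fin 6)) := by
      have h0 : (y : Perm (Fin 6)).cycleType = {3} := by simpa [hT₁] using hy
      exact h0
    obtain ⟨c, hc⟩ := isConj_iff.mp (alternatingGroup.isThreeCycle_isConj h5 hx h1)
    have h2 : φ y = φ c * φ x * (φ c)⁻¹ := by
      rw [← hc, map_mul, map_mul, map_inv]
    have h3 : ((φ y : A6) : Perm (Fin 6)) = ((φ c : A6) : Perm (Fin 6)) * ((φ x : A6) : Perm (Fin 6)) *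
        ((φ c : A6) : Perm (Fin 6))⁻¹ := by
      rw [h2]
      rfl
    simp only [hT₂, Finset.mem_filter, Finset.mem_univ, true_and]
    rw [h3, cycleType_conj]
    exact hφx
  have himg : T₁.image φ = T₂ := by
    apply Finset.eq_of_subset_of_card_le
    · intro z hz
      obtain ⟨y, hy, rfl⟩ := Finset.mem_image.mp hz
      exact hT12 y hy
    · rw [Finset.card_image_of_injective _ φ.injective, hcard₁, hcard₂]
  have hdis : ∀ y, y ∈ T₁ → y ∈ T₂ → False := by
    intro y h1 h2
    have h3 : (y : Perm (Fin 6)).cycleType = {3} := by simpa [hT₁] using h1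
    have h4 : (y : Perm (Fin 6)).cycleType = ({3, 3} : Multiset ℕ) := by simpa [hT₂] using h2
    rw [h3] at h4
    exact absurd h4 (by decide)
  have hT21 : ∀ y ∈ T₂, φ y ∈ T₁ := by
    intro y hy
    rw [← himg] at hy
    obtain ⟨y', hy', rfl⟩ := Finset.mem_image.mp hy
    have hord : orderOf (φ (φ y')) = 3 := by
      rw [hordφ, hordφ]
      exact hordT y' hy'
    rcases type_of_order_three _ hord with h1 | h1
    · simpa [hT₁] using h1
    · exfalso
      have h2 : φ (φ y') ∈ T₂ := by simpa [hT₂] using h1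
      rw [← himg] at h2
      obtain ⟨y'', hy'', he⟩ := Finset.mem_image.mp h2
      have h3 : y'' = φ y' := φ.injective he
      rw [h3] at hy''
      exact hdis _ hy'' (hT12 y' hy')
  have hind : ∀ k : ℕ, ((φ ^ k) x ∈ T₁ ∧ Even k) ∨ ((φ ^ k) x ∈ T₂ ∧ Odd k) := by
    intro k
    induction k with
    | zero =>
      left
      simpa using hxT
    | succ k ih =>
      have he : (φ ^ (k + 1)) x = φ ((φ ^ k) x) := by
        rw [pow_succ']
        rfl
      rw [he]
      rcases ih with ⟨h1, h2⟩ | ⟨h1, h2⟩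
      · right
        exact ⟨hT12 _ h1, h2.add_one⟩
      · left
        exact ⟨hT21 _ h1, h2.add_one⟩
  rcases hind m with ⟨h1, h2⟩ | ⟨h1, h2⟩
  · exact (Nat.not_even_iff_odd.mpr hm) h2
  · rw [hφ] at h1
    exact hdis x hxT h1

end Six

/-- An automorphism of odd order of an alternating group is inner. -/
theorem exists_eq_conj_of_odd {n : ℕ} (hn : 5 ≤ n) (φ : MulAut (alternatingGroup (Fin n))) {m : ℕ}
    (hm : Odd m) (hφ : φ ^ m = 1) : ∃ a : alternatingGroup (Fin n), φ = MulAut.conj a := by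
  have hcard : 4 ≤ Fintype.card (Fin n) := by
    rw [Fintype.card_fin]
    omega
  obtain ⟨π, hπ⟩ : ∃ π : Perm (Fin n), MulAut.conjNormal π = φ := by
    by_cases h6 : n = 6
    · subst h6
      exact conjNormal_surj_of_preserves hcard φ (preserves_of_odd φ hm hφ)
    · exact (Cfsg.Agent.S2119.result n (by omega) h6).2 φ
  have hpow : π ^ m = 1 := by
    apply conjNormal_injective hcard
    rw [map_pow, hπ, hφ, map_one]
  have hsign : sign π = 1 := by
    have h1 : (sign π) ^ m = 1 := by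
      rw [← map_pow, hpow, map_one]
    rcases Int.units_eq_one_or (sign π) with h | h
    · exact h
    · exfalso
      rw [h, hm.neg_one_pow] at h1
      exact absurd h1 (by decide)
  refine ⟨⟨π, mem_alternatingGroup.mpr hsign⟩, ?_⟩
  rw [← hπ]
  apply MulEquiv.ext
  intro g
  apply Subtype.ext
  rw [MulAut.conjNormal_apply]
  rfl

/-- Elements of odd order acting on a normal `Alt(n)` with `C_X(E) ≤ E` lie in `E`. -/
theorem mem_of_odd_pow {X : Type*} [Group X] [Finite X] {E : Subgroup X} [hE : E.Normal]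
    (hC : Subgroup.centralizer (E : Set X) ≤ E) {n : ℕ} (hn : 5 ≤ n) (e : E ≃* alternatingGroup (Fin n))
    {y : X} {m : ℕ} (hm : Odd m) (hy : y ^ m = 1) : y ∈ E := by
  let c : MulAut E := MulAut.conjNormal y
  let ψ : MulAut (alternatingGroup (Fin n)) := e.symm.trans (c.trans e)
  have hψ : ∀ k a, (ψ ^ k) a = e ((c ^ k) (e.symm a)) := by
    intro k
    induction k with
    | zero =>
      intro a
      simp
    | succ k ih =>
      intro a
      rw [pow_succ, pow_succ]
      show (ψ ^ k) (ψ a) = e ((c ^ k) (c (e.symm a)))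
      rw [ih]
      simp [ψ]
  have hcm : c ^ m = 1 := by
    show (MulAut.conjNormal y) ^ m = 1
    rw [← map_pow, hy, map_one]
  have hψm : ψ ^ m = 1 := by
    apply MulEquiv.ext
    intro a
    rw [hψ, hcm]
    simp
  obtain ⟨a₀, ha₀⟩ := exists_eq_conj_of_odd hn ψ hm hψm
  set b : E := e.symm a₀ with hb
  have hconj : ∀ z : E, c z = b * z * b⁻¹ := by
    intro z
    apply e.injective
    have h1 : ψ (e z) = e (c z) := by simp [ψ]
    rw [← h1, ha₀, MulAut.conj_apply, hb, map_mul, map_mul, map_inv]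
    simp
  have hmem : (b : X)⁻¹ * y ∈ Subgroup.centralizer (E : Set X) := by
    rw [Subgroup.mem_centralizer_iff]
    intro z hz
    have h1 := congrArg Subtype.val (hconj ⟨z, hz⟩)
    have h2 : y * z * y⁻¹ = b * z * (b : X)⁻¹ := by
      simpa [c, MulAut.conjNormal_apply] using h1
    calc z * ((b : X)⁻¹ * y) = (b : X)⁻¹ * (b * z * (b : X)⁻¹) * y := by group
      _ = (b : X)⁻¹ * (y * z * y⁻¹) * y := by rw [h2]
      _ = _ := by group
  have h3 : (b : X)⁻¹ * y ∈ E := hC hmem
  have h4 : y = b * ((b : X)⁻¹ * y) := by group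
  rw [h4]
  exact E.mul_mem b.2 h3

end Cfsg.Agent.Lib.AltOdd
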