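import Mathlib

set_option autoImplicit false

namespace Cfsg.Agent.Lib.PartitionStab

variable {Ω : Type*}

/-- The stabilizer in `Perm Ω` of the partition of `Ω` into the fibres of `f`. -/
def W {β : Type*} (f : Ω → β) : Subgroup (Equiv.Perm Ω) where
  carrier := {g | ∀ x y : Ω, f x = f y ↔ f (g x) = f (g y)}
  one_mem' := by intro x y; simp
  mul_mem' := by
    intro a b ha hb x y
    rw [hb x y, ha (b x) (b y)]
    rfl
  inv_mem' := by
    intro a ha x y
    rw [ha (a⁻¹ x) (a⁻¹ y)]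
    simp

theorem mem_W {β : Type*} (f : Ω → β) (g : Equiv.Perm Ω) :
    g ∈ W f ↔ ∀ x y : Ω, f x = f y ↔ f (g x) = f (g y) := Iff.rfl

theorem closure_eq {β : Type*} (f : Ω → β) :
    Subgroup.closure {g : Equiv.Perm Ω | ∀ x y : Ω, f x = f y ↔ f (g x) = f (g y)} = W f :=
  Subgroup.closure_eq (W f)

/-- An element preserving `f` pointwise on blocks lies in `W f`. -/
theorem mem_W_of_comp {β : Type*} (f : Ω → β) (g : Equiv.Perm Ω) (σ : β ≃ β)
    (h : ∀ x, f (g x) = σ (f x)) : g ∈ W f := by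
  intro x y
  rw [h, h]
  simp

theorem swap_mem_W {β : Type*} [DecidableEq Ω] (f : Ω → β) {x y : Ω} (h : f x = f y) :
    Equiv.swap x y ∈ W f := by
  apply mem_W_of_comp f _ (Equiv.refl β)
  intro z
  simp only [Equiv.refl_apply]
  by_cases hx : z = x
  · subst hx; simp [h]
  by_cases hy : z = y
  · subst hy; simp [h]
  rw [Equiv.swap_apply_of_ne_of_ne hx hy]

/-- A bijection `Ω ≃ Fin b × Fin a` compatible with the partition. -/
theorem exists_equiv_prod [Finite Ω] {a b : ℕ} (f : Ω → Fin b)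
    (hf : ∀ i : Fin b, Nat.card {x : Ω // f x = i} = a) :
    ∃ φ : Ω ≃ Fin b × Fin a, ∀ x, (φ x).1 = f x := by
  classical
  let e : ∀ i : Fin b, {x : Ω // f x = i} ≃ Fin a := fun i => Finite.equivFinOfCardEq (hf i)
  refine ⟨(Equiv.sigmaFiberEquiv f).symm.trans
    ((Equiv.sigmaCongrRight e).trans (Equiv.sigmaEquivProd (Fin b) (Fin a))), ?_⟩
  intro x
  rfl

/-- `Perm (Fin b)` (indeed `Perm` of anything) is 2-transitive: a concrete form. -/
theorem exists_perm_map {α : Type*} [DecidableEq α] {i j k l : α} (hij : i ≠ j) (hkl : k ≠ l) :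
    ∃ β : Equiv.Perm α, β i = k ∧ β j = l := by
  refine ⟨Equiv.swap (Equiv.swap i k j) l * Equiv.swap i k, ?_, ?_⟩
  · simp only [Equiv.Perm.coe_mul, Function.comp_apply, Equiv.swap_apply_left]
    apply Equiv.swap_apply_of_ne_of_ne
    · intro h
      have : Equiv.swap i k j = Equiv.swap i k i := by simpa using h.symm
      exact hij ((Equiv.swap i k).injective this).symm
    · exact hkl
  · simp

/-- `W f` acts transitively on pairs of points lying in different blocks. -/
theorem exists_W_map [Finite Ω] [DecidableEq Ω] {a b : ℕ} (f : Ω → Fin b)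
    (hf : ∀ i : Fin b, Nat.card {x : Ω // f x = i} = a) {u v s t : Ω}
    (huv : f u ≠ f v) (hst : f s ≠ f t) :
    ∃ h ∈ W f, h u = s ∧ h v = t := by
  obtain ⟨φ, hφ⟩ := exists_equiv_prod f hf
  obtain ⟨β, hβ1, hβ2⟩ := exists_perm_map huv hst
  let γ : Fin b → Equiv.Perm (Fin a) := fun n =>
    if n = f u then Equiv.swap (φ u).2 (φ s).2
    else if n = f v then Equiv.swap (φ v).2 (φ t).2 else 1
  let h : Equiv.Perm Ω := φ.trans ((Equiv.prodShear β γ).trans φ.symm)
  have hh : ∀ x, φ (h x) = (β (φ x).1, γ (φ x).1 (φ x).2) := by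
    intro x
    simp [h]
  refine ⟨h, ?_, ?_, ?_⟩
  · apply mem_W_of_comp f h β
    intro x
    rw [← hφ, hh, ← hφ]
  · apply φ.injective
    rw [hh]
    have h1 : (φ u).1 = f u := hφ u
    have h2 : (φ s).1 = f s := hφ s
    ext1
    · simp only [h1, hβ1, h2]
    · simp [γ, h1]
  · apply φ.injective
    rw [hh]
    have h1 : (φ v).1 = f v := hφ v
    have h2 : (φ t).1 = f t := hφ t
    ext1
    · simp only [h1, hβ2, h2]
    · simp [γ, h1, huv.symm]

/-- The partition stabilizer is maximal in the symmetric group. -/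
theorem isCoatom_W [Finite Ω] [DecidableEq Ω] {a b : ℕ} (ha : 2 ≤ a) (hb : 2 ≤ b) (f : Ω → Fin b)
    (hf : ∀ i : Fin b, Nat.card {x : Ω // f x = i} = a) : IsCoatom (W f) := by
  have hfib : ∀ i : Fin b, ∃ x y : Ω, x ≠ y ∧ f x = i ∧ f y = i := by
    intro i
    have h1 : 1 < Nat.card {x : Ω // f x = i} := by rw [hf]; omega
    obtain ⟨⟨x, hx⟩, ⟨y, hy⟩, hxy⟩ := Finite.one_lt_card_iff_nontrivial.1 h1 |>.exists_pair_ne
    exact ⟨x, y, fun h => hxy (Subtype.ext h), hx, hy⟩
  constructor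
  · intro htop
    let i0 : Fin b := ⟨0, by omega⟩
    let i1 : Fin b := ⟨1, by omega⟩
    have h01 : i0 ≠ i1 := by simp [i0, i1, Fin.ext_iff]
    obtain ⟨x, y, hxy, hx, hy⟩ := hfib i0
    obtain ⟨z, _, _, hz, _⟩ := hfib i1
    have hm : Equiv.swap y z ∈ W f := by rw [htop]; trivial
    have hyz : y ≠ z := by
      rintro rfl
      exact h01 (hy.symm.trans hz)
    have hxz : x ≠ z := by
      rintro rfl
      exact h01 (hx.symm.trans hz)
    have := (hm x y).1 (hx.trans hy.symm)
    rw [Equiv.swap_apply_of_ne_of_ne hxy hxz, Equiv.swap_apply_left, hx, hz] at this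
    exact h01 this
  · intro K hK
    -- an element of `K` breaking a block
    obtain ⟨g0, hg0K, hg0W⟩ := SetLike.exists_of_lt hK
    have hbreak : ∃ g ∈ K, ∃ x y : Ω, f x = f y ∧ f (g x) ≠ f (g y) := by
      by_contra hcon
      push Not at hcon
      apply hg0W
      intro x y
      constructor
      · exact hcon g0 hg0K x y
      · intro h
        have := hcon g0⁻¹ (K.inv_mem hg0K) (g0 x) (g0 y) h
        simpa using this
    obtain ⟨g, hgK, x, y, hxy, hgxy⟩ := hbreak
    have hWK : W f ≤ K := hK.le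
    have hne : x ≠ y := by
      rintro rfl
      exact hgxy rfl
    have hsw : Equiv.swap (g x) (g y) ∈ K := by
      rw [Equiv.swap_apply_apply]
      exact K.mul_mem (K.mul_mem hgK (hWK (swap_mem_W f hxy))) (K.inv_mem hgK)
    rw [eq_top_iff, ← Equiv.Perm.closure_isSwap, Subgroup.closure_le]
    rintro σ ⟨s, t, hst, rfl⟩
    by_cases hfst : f s = f t
    · exact hWK (swap_mem_W f hfst)
    · obtain ⟨h, hh, hu, hv⟩ := exists_W_map f hf hgxy hfst
      have : Equiv.swap s t = h * Equiv.swap (g x) (g y) * h⁻¹ := by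
        rw [← hu, ← hv, Equiv.swap_apply_apply]
      rw [this]
      exact K.mul_mem (K.mul_mem (hWK hh) hsw) (K.inv_mem (hWK hh))

end Cfsg.Agent.Lib.PartitionStab
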