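import Mathlib
import Cfsg.Agent.Lib.PartitionStab

set_option autoImplicit false

namespace Cfsg.Agent.Lib.AltWreath

open Equiv Cfsg.Agent.Lib.PartitionStab
open scoped Pointwise

variable {Ω : Type*} [Fintype Ω] [DecidableEq Ω] {a b : ℕ} {f : Ω → Fin b}

theorem exists_pair_in_fibre (ha : 2 ≤ a) (hf : ∀ i : Fin b, Nat.card {x : Ω // f x = i} = a)
    (i : Fin b) : ∃ x y : Ω, x ≠ y ∧ f x = i ∧ f y = i := by
  have h1 : 1 < Nat.card {x : Ω // f x = i} := by rw [hf]; omega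
  obtain ⟨⟨x, hx⟩, ⟨y, hy⟩, hxy⟩ := Finite.one_lt_card_iff_nontrivial.1 h1 |>.exists_pair_ne
  exact ⟨x, y, fun h => hxy (Subtype.ext h), hx, hy⟩

/-- In a fibre of size at least three, two points other than a given one. -/
theorem exists_pair_in_fibre_avoid (ha : 3 ≤ a) (hf : ∀ i : Fin b, Nat.card {x : Ω // f x = i} = a)
    (p : Ω) (i : Fin b) : ∃ x y : Ω, x ≠ y ∧ f x = i ∧ f y = i ∧ x ≠ p ∧ y ≠ p := by
  classical
  have h1 : Nat.card {x : Ω // f x = i} = (Finset.univ.filter (fun x => f x = i)).card := by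
    rw [Nat.card_eq_fintype_card, Fintype.card_subtype]
  have h2 : 1 < ((Finset.univ.filter (fun x => f x = i)).erase p).card := by
    have h3 := Finset.pred_card_le_card_erase (s := Finset.univ.filter (fun x => f x = i)) (a := p)
    rw [← h1, hf] at h3
    omega
  obtain ⟨x, hx, y, hy, hxy⟩ := Finset.one_lt_card.1 h2
  simp only [Finset.mem_erase, Finset.mem_filter, Finset.mem_univ, true_and] at hx hy
  exact ⟨x, y, hxy, hx.2, hy.2, hx.1, hy.1⟩

/-- A transposition in `W f` avoiding two given points. -/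
theorem exists_swap_avoid (ha : 2 ≤ a) (hb : 2 ≤ b) (hT : 3 ≤ a ∨ 3 ≤ b)
    (hf : ∀ i : Fin b, Nat.card {x : Ω // f x = i} = a) (p q : Ω) :
    ∃ c d : Ω, c ≠ d ∧ f c = f d ∧ c ≠ p ∧ c ≠ q ∧ d ≠ p ∧ d ≠ q := by
  classical
  -- a label different from two given ones, or from one given one
  have hother : ∀ i : Fin b, ∃ j : Fin b, j ≠ i := by
    intro i
    have hnt : Nontrivial (Fin b) := by
      rw [← Fintype.one_lt_card_iff_nontrivial, Fintype.card_fin]; omega
    exact exists_ne i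
  by_cases h3 : 3 ≤ b
  · obtain ⟨i, hi⟩ : ∃ i : Fin b, i ∉ ({f p, f q} : Finset (Fin b)) := by
      by_contra hcon
      push Not at hcon
      have h1 : (Finset.univ : Finset (Fin b)) ⊆ {f p, f q} := fun w _ => hcon w
      have h2 := Finset.card_le_card h1
      have h4 : ({f p, f q} : Finset (Fin b)).card ≤ 2 := Finset.card_le_two
      rw [Finset.card_univ, Fintype.card_fin] at h2
      omega
    simp only [Finset.mem_insert, Finset.mem_singleton, not_or] at hi
    obtain ⟨c, d, hcd, hc, hd⟩ := exists_pair_in_fibre ha hf i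
    refine ⟨c, d, hcd, hc.trans hd.symm, ?_, ?_, ?_, ?_⟩
    · rintro rfl; exact hi.1 hc.symm
    · rintro rfl; exact hi.2 hc.symm
    · rintro rfl; exact hi.1 hd.symm
    · rintro rfl; exact hi.2 hd.symm
  · have ha3 : 3 ≤ a := by omega
    by_cases hpq : f p = f q
    · obtain ⟨i, hi⟩ := hother (f p)
      obtain ⟨c, d, hcd, hc, hd⟩ := exists_pair_in_fibre ha hf i
      refine ⟨c, d, hcd, hc.trans hd.symm, ?_, ?_, ?_, ?_⟩
      · rintro rfl; exact hi hc.symm
      · rintro rfl; exact hi (hc.symm.trans hpq.symm)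
      · rintro rfl; exact hi hd.symm
      · rintro rfl; exact hi (hd.symm.trans hpq.symm)
    · obtain ⟨c, d, hcd, hc, hd, hcp, hdp⟩ := exists_pair_in_fibre_avoid ha3 hf p (f p)
      refine ⟨c, d, hcd, hc.trans hd.symm, hcp, ?_, hdp, ?_⟩
      · rintro rfl; exact hpq hc.symm
      · rintro rfl; exact hpq hd.symm

/-- The even part of `W f`. -/
abbrev Wplus (f : Ω → Fin b) : Subgroup (Perm Ω) := W f ⊓ alternatingGroup Ω

/-- Any element of `W f` can be corrected to an even element keeping the images of two points. -/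
theorem even_adjust (ha : 2 ≤ a) (hb : 2 ≤ b) (hT : 3 ≤ a ∨ 3 ≤ b)
    (hf : ∀ i : Fin b, Nat.card {x : Ω // f x = i} = a) {h : Perm Ω} (hh : h ∈ W f) (p q : Ω) :
    ∃ h' ∈ Wplus f, h' p = h p ∧ h' q = h q := by
  by_cases hs : Perm.sign h = 1
  · exact ⟨h, ⟨hh, hs⟩, rfl, rfl⟩
  · obtain ⟨c, d, hcd, hfcd, h1, h2, h3, h4⟩ := exists_swap_avoid ha hb hT hf (h p) (h q)
    refine ⟨Equiv.swap c d * h, ⟨(W f).mul_mem (swap_mem_W f hfcd) hh, ?_⟩, ?_, ?_⟩
    · change Perm.sign (Equiv.swap c d * h) = 1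
      rw [map_mul, Perm.sign_swap hcd]
      have := Int.units_eq_one_or (Perm.sign h)
      rcases this with h5 | h5
      · exact absurd h5 hs
      · rw [h5]; rfl
    · rw [Perm.mul_apply, Equiv.swap_apply_of_ne_of_ne h1.symm h3.symm]
    · rw [Perm.mul_apply, Equiv.swap_apply_of_ne_of_ne h2.symm h4.symm]

/-- `W⁺` is transitive. -/
theorem Wplus_transitive (ha : 2 ≤ a) (hb : 2 ≤ b) (hT : 3 ≤ a ∨ 3 ≤ b)
    (hf : ∀ i : Fin b, Nat.card {x : Ω // f x = i} = a) (x x' : Ω) :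
    ∃ h ∈ Wplus f, h x = x' := by
  have hnt : Nontrivial (Fin b) := by
    rw [← Fintype.one_lt_card_iff_nontrivial, Fintype.card_fin]; omega
  obtain ⟨i, hi⟩ := exists_ne (f x)
  obtain ⟨y, -, -, hy, -⟩ := exists_pair_in_fibre ha hf i
  obtain ⟨j, hj⟩ := exists_ne (f x')
  obtain ⟨y', -, -, hy', -⟩ := exists_pair_in_fibre ha hf j
  obtain ⟨h, hh, h1, -⟩ := exists_W_map f hf (u := x) (v := y) (s := x') (t := y')
    (by rw [hy]; exact hi.symm) (by rw [hy']; exact hj.symm)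
  obtain ⟨h', hh', h2, -⟩ := even_adjust ha hb hT hf hh x y
  exact ⟨h', hh', h2.trans h1⟩

/-- The stabilizer of `x` in `W⁺` is transitive on the other fibres. -/
theorem Wplus_stab_transitive (ha : 2 ≤ a) (hb : 2 ≤ b) (hT : 3 ≤ a ∨ 3 ≤ b)
    (hf : ∀ i : Fin b, Nat.card {x : Ω // f x = i} = a) {x y y' : Ω} (hy : f y ≠ f x)
    (hy' : f y' ≠ f x) : ∃ h ∈ Wplus f, h x = x ∧ h y = y' := by
  obtain ⟨h, hh, h1, h2⟩ := exists_W_map f hf hy.symm hy'.symm
  obtain ⟨h', hh', h3, h4⟩ := even_adjust ha hb hT hf hh x y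
  exact ⟨h', hh', h3.trans h1, h4.trans h2⟩

theorem block_stable {K : Subgroup (Perm Ω)} {B : Set Ω} (hB : MulAction.IsBlock K B)
    {h : Perm Ω} (hh : h ∈ K) {p : Ω} (hp : p ∈ B) (hp' : h p ∈ B) {q : Ω} (hq : q ∈ B) : h q ∈ B := by
  have h1 := hB.smul_eq_or_disjoint (⟨h, hh⟩ : K)
  rcases h1 with h1 | h1
  · rw [← h1]
    exact ⟨q, hq, rfl⟩
  · exfalso
    have hm : h p ∈ ((⟨h, hh⟩ : K) • B) := ⟨p, hp, rfl⟩
    exact (Set.disjoint_left.1 h1) hm hp'

/-- An overgroup of `W⁺` not contained in `W` is primitive. -/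
theorem preprimitive_of_overgroup (ha : 2 ≤ a) (hb : 2 ≤ b) (hT : 3 ≤ a ∨ 3 ≤ b)
    (hf : ∀ i : Fin b, Nat.card {x : Ω // f x = i} = a) (K : Subgroup (Perm Ω))
    (hK : Wplus f ≤ K) (hKW : ¬ K ≤ W f) : MulAction.IsPreprimitive K Ω := by
  have hpret : MulAction.IsPretransitive K Ω := by
    constructor
    intro x x'
    obtain ⟨h, hh, h1⟩ := Wplus_transitive ha hb hT hf x x'
    exact ⟨⟨h, hK hh⟩, h1⟩
  have hnt : Nontrivial (Fin b) := by
    rw [← Fintype.one_lt_card_iff_nontrivial, Fintype.card_fin]; omega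
  refine ⟨?_⟩
  intro B hB
  by_cases hsub : B.Subsingleton
  · exact Or.inl hsub
  right
  obtain ⟨x, hx, y0, hy0, hxy0⟩ := Set.not_subsingleton_iff.1 hsub
  by_cases hcross : ∃ y ∈ B, f y ≠ f x
  · obtain ⟨y, hy, hfy⟩ := hcross
    -- everything outside the fibre of `x` is in `B`
    have h1 : ∀ {p q : Ω}, p ∈ B → q ∈ B → f q ≠ f p → ∀ y', f y' ≠ f p → y' ∈ B := by
      intro p q hp hq hpq y' hy'
      obtain ⟨h, hh, h2, h3⟩ := Wplus_stab_transitive ha hb hT hf hpq hy'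
      rw [← h3]
      exact block_stable hB (hK hh) hp (by rw [h2]; exact hp) hq
    rw [Set.eq_univ_iff_forall]
    intro w
    by_cases hw : f w = f x
    · exact h1 hy hx hfy.symm w (by rw [hw]; exact hfy.symm)
    · exact h1 hx hy hfy w hw
  · exfalso
    push Not at hcross
    apply hKW
    -- then `B` is the whole fibre of `x`
    have hBfib : ∀ z, f z = f x → z ∈ B := by
      intro z hz
      by_contra hzB
      -- then the fibre has at least three points
      have hzx : z ≠ x := fun h => hzB (h ▸ hx)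
      have hzy : z ≠ y0 := fun h => hzB (h ▸ hy0)
      -- the 3-cycle moving `y0` to `z`
      let c := Equiv.swap x y0 * Equiv.swap y0 z
      have hc : c ∈ Wplus f := by
        refine ⟨(W f).mul_mem (swap_mem_W f ?_) (swap_mem_W f ?_), ?_⟩
        · rw [hcross y0 hy0]
        · rw [hcross y0 hy0, hz]
        · exact Equiv.Perm.mem_alternatingGroup.2 (by
            rw [map_mul, Perm.sign_swap hxy0, Perm.sign_swap (Ne.symm hzy)]; rfl)
      have hcx : c x = y0 := by
        change Equiv.swap x y0 (Equiv.swap y0 z x) = y0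
        rw [Equiv.swap_apply_of_ne_of_ne hxy0 (Ne.symm hzx), Equiv.swap_apply_left]
      have hcy : c y0 = z := by
        change Equiv.swap x y0 (Equiv.swap y0 z y0) = z
        rw [Equiv.swap_apply_left, Equiv.swap_apply_of_ne_of_ne hzx hzy]
      have := block_stable hB (hK hc) hx (by rw [hcx]; exact hy0) hy0
      rw [hcy] at this
      exact hzB this
    -- every element of `K` preserves blocks of `f`
    have hkey : ∀ g ∈ K, ∀ p q : Ω, f p = f q → f (g p) = f (g q) := by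
      intro g hg p q hpq
      obtain ⟨h, hh, h1⟩ := Wplus_transitive ha hb hT hf x p
      obtain ⟨h', hh', h2⟩ := Wplus_transitive ha hb hT hf x (g p)
      have hq : h⁻¹ q ∈ B := by
        apply hBfib
        have h3 : f (h (h⁻¹ q)) = f (h x) := by
          rw [h1]; simp [hpq]
        exact (hh.1 _ _).2 h3
      have hk : h'⁻¹ * g * h ∈ K :=
        K.mul_mem (K.mul_mem (K.inv_mem (hK hh')) hg) (hK hh)
      have h4 := block_stable hB hk hx (by
        change h'⁻¹ (g (h x)) ∈ B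
        rw [h1, ← h2]
        simpa using hx) hq
      have h5 : h'⁻¹ (g q) ∈ B := by
        change h'⁻¹ (g (h (h⁻¹ q))) ∈ B at h4
        simpa using h4
      have h6 := hcross _ h5
      have h7 := (hh'.1 _ _).1 h6
      have h8 : f (g q) = f (h' x) := by simpa using h7
      rw [← h2]
      exact h8.symm
    intro g hg x' y'
    constructor
    · exact hkey g hg x' y'
    · intro h
      have := hkey g⁻¹ (K.inv_mem hg) (g x') (g y') h
      simpa using this

/-- Conjugating a product of two swaps. -/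
theorem conj_swap_mul (τ : Perm Ω) (p q r t : Ω) :
    τ * (Equiv.swap p q * Equiv.swap r t) * τ⁻¹ =
      Equiv.swap (τ p) (τ q) * Equiv.swap (τ r) (τ t) := by
  rw [Equiv.swap_apply_apply, Equiv.swap_apply_apply]
  group

theorem mem_Wplus_of_two_swaps {p q r t : Ω} (hpq : p ≠ q) (hrt : r ≠ t) (h1 : f p = f q)
    (h2 : f r = f t) : Equiv.swap p q * Equiv.swap r t ∈ Wplus f := by
  refine ⟨(W f).mul_mem (swap_mem_W f h1) (swap_mem_W f h2), ?_⟩
  change Perm.sign (Equiv.swap p q * Equiv.swap r t) = 1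
  rw [map_mul, Perm.sign_swap hpq, Perm.sign_swap hrt]
  rfl

/-- The basic commutator producing a 3-cycle. -/
theorem three_cycle_of_comm {K : Subgroup (Perm Ω)} (hK : Wplus f ≤ K) {τ : Perm Ω} (hτ : τ ∈ K)
    {u v u' e e' : Ω} (hu : u' ≠ u) (hfu : f u' = f u) (he : e ≠ e') (hfe : f e = f e')
    (hvu : v ≠ u) (hvu' : v ≠ u') (h1 : τ u = v) (h2 : τ u' = u')
    (h3 : Equiv.swap (τ e) (τ e') = Equiv.swap e e') :
    ∃ c ∈ K, c.IsThreeCycle := by
  have hs : Equiv.swap u u' * Equiv.swap e e' ∈ K :=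
    hK (mem_Wplus_of_two_swaps (Ne.symm hu) he hfu.symm hfe)
  have hc := K.mul_mem (K.mul_mem (K.mul_mem hτ hs) (K.inv_mem hτ)) (K.inv_mem hs)
  rw [conj_swap_mul, h1, h2, h3, mul_inv_rev, Equiv.swap_inv, Equiv.swap_inv] at hc
  have he2 : Equiv.swap v u' * Equiv.swap e e' * (Equiv.swap e e' * Equiv.swap u u') =
      Equiv.swap u' v * Equiv.swap u' u := by
    rw [mul_assoc, ← mul_assoc (Equiv.swap e e'), Equiv.swap_mul_self, one_mul, Equiv.swap_comm v,
      Equiv.swap_comm u]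
  rw [he2] at hc
  exact ⟨_, hc, Perm.isThreeCycle_swap_mul_swap_same (Ne.symm hvu') hu hvu⟩

/-- The Klein four identity. -/
theorem klein_identity {u v w z : Ω} (huv : u ≠ v) (huw : u ≠ w) (huz : u ≠ z) (hvw : v ≠ w)
    (hvz : v ≠ z) (hwz : w ≠ z) :
    Equiv.swap u v * Equiv.swap w z * (Equiv.swap u z * Equiv.swap w v) =
      Equiv.swap v z * Equiv.swap u w := by
  ext x
  simp only [Perm.coe_mul, Function.comp_apply]
  by_cases h1 : x = u
  · subst h1
    simp [Equiv.swap_apply_of_ne_of_ne, huv, huw, huz, hvw, hvz, hwz, Ne.symm huv, Ne.symm huw,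
      Ne.symm huz, Ne.symm hvw, Ne.symm hvz, Ne.symm hwz]
  by_cases h2 : x = v
  · subst h2
    simp [Equiv.swap_apply_of_ne_of_ne, huv, huw, huz, hvw, hvz, hwz, Ne.symm huv, Ne.symm huw,
      Ne.symm huz, Ne.symm hvw, Ne.symm hvz, Ne.symm hwz]
  by_cases h3 : x = w
  · subst h3
    simp [Equiv.swap_apply_of_ne_of_ne, huv, huw, huz, hvw, hvz, hwz, Ne.symm huv, Ne.symm huw,
      Ne.symm huz, Ne.symm hvw, Ne.symm hvz, Ne.symm hwz]
  by_cases h4 : x = z
  · subst h4
    simp [Equiv.swap_apply_of_ne_of_ne, huv, huw, huz, hvw, hvz, hwz, Ne.symm huv, Ne.symm huw,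
      Ne.symm huz, Ne.symm hvw, Ne.symm hvz, Ne.symm hwz]
  simp [Equiv.swap_apply_of_ne_of_ne, h1, h2, h3, h4]

/-- The partner function for blocks of size two. -/
theorem exists_bar (hf : ∀ i : Fin b, Nat.card {x : Ω // f x = i} = 2) :
    ∃ bar : Ω → Ω, ∀ u, bar u ≠ u ∧ f (bar u) = f u ∧ ∀ y, f y = f u → y = u ∨ y = bar u := by
  have h : ∀ u : Ω, ∃ u' : Ω, u' ≠ u ∧ f u' = f u ∧ ∀ y, f y = f u → y = u ∨ y = u' := by
    intro u
    obtain ⟨⟨p, hp⟩, ⟨q, hq⟩, hpq, huniv⟩ := Nat.card_eq_two_iff.1 (hf (f u))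
    have hpq' : p ≠ q := fun h => hpq (Subtype.ext h)
    have hall : ∀ y, f y = f u → y = p ∨ y = q := by
      intro y hy
      have hm : (⟨y, hy⟩ : {x : Ω // f x = f u}) ∈ (Set.univ : Set _) := Set.mem_univ _
      rw [← huniv] at hm
      simp only [Set.mem_insert_iff, Set.mem_singleton_iff, Subtype.mk.injEq] at hm
      exact hm
    rcases hall u rfl with rfl | rfl
    · exact ⟨q, hpq'.symm, hq, fun y hy => hall y hy⟩
    · exact ⟨p, hpq', hp, fun y hy => (hall y hy).symm⟩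
  choose bar hbar using h
  exact ⟨bar, hbar⟩

/-- Pattern (A): the second transposition is a block. -/
theorem three_cycle_A {K : Subgroup (Perm Ω)} (hK : Wplus f ≤ K) {bar : Ω → Ω}
    (hbar : ∀ u, bar u ≠ u ∧ f (bar u) = f u ∧ ∀ y, f y = f u → y = u ∨ y = bar u)
    {u v w z : Ω} (huv : f u ≠ f v) (huw : u ≠ w) (huz : u ≠ z) (hvw : v ≠ w) (hvz : v ≠ z)
    (hwz : w ≠ z) (hfwz : f w = f z) (hτ : Equiv.swap u v * Equiv.swap w z ∈ K) :
    ∃ c ∈ K, c.IsThreeCycle := by
  have huv' : u ≠ v := fun h => huv (h ▸ rfl)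
  obtain ⟨hu1, hu2, hu3⟩ := hbar u
  -- `u` is not in the block of `w`
  have hfuw : f u ≠ f w := by
    intro h
    obtain ⟨hw1, hw2, hw3⟩ := hbar w
    have hz := (hw3 z hfwz.symm).resolve_left (Ne.symm hwz)
    rcases hw3 u h with h1 | h1
    · exact huw h1
    · exact huz (h1.trans hz.symm)
  have hu'w : bar u ≠ w := fun h => hfuw (by rw [← hu2, h])
  have hu'z : bar u ≠ z := fun h => hfuw (by rw [← hu2, h, hfwz])
  have hu'v : bar u ≠ v := fun h => huv (by rw [← hu2, h])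
  have h1 : (Equiv.swap u v * Equiv.swap w z) u = v := by
    rw [Perm.mul_apply, Equiv.swap_apply_of_ne_of_ne huw huz, Equiv.swap_apply_left]
  have h2 : (Equiv.swap u v * Equiv.swap w z) (bar u) = bar u := by
    rw [Perm.mul_apply, Equiv.swap_apply_of_ne_of_ne hu'w hu'z,
      Equiv.swap_apply_of_ne_of_ne hu1 hu'v]
  have h3 : Equiv.swap ((Equiv.swap u v * Equiv.swap w z) w) ((Equiv.swap u v * Equiv.swap w z) z) =
      Equiv.swap w z := by
    rw [Perm.mul_apply, Perm.mul_apply, Equiv.swap_apply_left, Equiv.swap_apply_right,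
      Equiv.swap_apply_of_ne_of_ne (Ne.symm huz) (Ne.symm hvz),
      Equiv.swap_apply_of_ne_of_ne (Ne.symm huw) (Ne.symm hvw), Equiv.swap_comm]
  exact three_cycle_of_comm hK hτ hu1 hu2 hwz hfwz (Ne.symm huv') (Ne.symm hu'v) h1 h2 h3

/-- Pattern (B): the partner of `u` occurs. -/
theorem three_cycle_B {K : Subgroup (Perm Ω)} (hK : Wplus f ≤ K) {bar : Ω → Ω}
    (hbar : ∀ u, bar u ≠ u ∧ f (bar u) = f u ∧ ∀ y, f y = f u → y = u ∨ y = bar u)
    {u v z : Ω} (huv : f u ≠ f v) (hzu : z ≠ u) (hzu' : z ≠ bar u) (hzv : z ≠ v) (hzv' : z ≠ bar v)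
    (hτ : Equiv.swap u v * Equiv.swap (bar u) z ∈ K) :
    ∃ c ∈ K, c.IsThreeCycle := by
  obtain ⟨hu1, hu2, hu3⟩ := hbar u
  obtain ⟨hv1, hv2, hv3⟩ := hbar v
  obtain ⟨hz1, hz2, hz3⟩ := hbar z
  have hfzu : f z ≠ f u := fun h => (hu3 z h).elim hzu hzu'
  have hfzv : f z ≠ f v := fun h => (hv3 z h).elim hzv hzv'
  have huv' : u ≠ v := fun h => huv (h ▸ rfl)
  have hu'v : bar u ≠ v := fun h => huv (by rw [← hu2, h])
  have hz'u : bar z ≠ u := fun h => hfzu (by rw [← hz2, h])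
  have hz'u' : bar z ≠ bar u := fun h => hfzu (by rw [← hz2, h, hu2])
  have hz'v : bar z ≠ v := fun h => hfzv (by rw [← hz2, h])
  have hz'v' : bar z ≠ bar v := fun h => hfzv (by rw [← hz2, h, hv2])
  have hv'u : bar v ≠ u := fun h => huv (by rw [← h, hv2])
  have hv'u' : bar v ≠ bar u := fun h => huv (by rw [← hu2, ← h, hv2])
  have hv'z : bar v ≠ z := Ne.symm hzv'
  -- the block-swap `r`
  have hr : Equiv.swap v z * Equiv.swap (bar v) (bar z) ∈ Wplus f := by
    refine ⟨?_, ?_⟩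
    · apply mem_W_of_comp f _ (Equiv.swap (f v) (f z))
      intro y
      rw [Perm.mul_apply]
      by_cases hy1 : y = v
      · rw [hy1, Equiv.swap_apply_of_ne_of_ne hv1.symm (Ne.symm hz'v), Equiv.swap_apply_left,
          Equiv.swap_apply_left]
      by_cases hy2 : y = bar v
      · rw [hy2, Equiv.swap_apply_left, Equiv.swap_apply_of_ne_of_ne hz'v hz1,
          hz2, hv2, Equiv.swap_apply_left]
      by_cases hy3 : y = z
      · rw [hy3, Equiv.swap_apply_of_ne_of_ne hzv' (Ne.symm hz1), Equiv.swap_apply_right,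
          Equiv.swap_apply_right]
      by_cases hy4 : y = bar z
      · rw [hy4, Equiv.swap_apply_right, Equiv.swap_apply_of_ne_of_ne hv1 (Ne.symm hzv'), hz2, hv2,
          Equiv.swap_apply_right]
      have hfy1 : f y ≠ f v := fun h => (hv3 y h).elim hy1 hy2
      have hfy2 : f y ≠ f z := fun h => (hz3 y h).elim hy3 hy4
      rw [Equiv.swap_apply_of_ne_of_ne hy2 hy4, Equiv.swap_apply_of_ne_of_ne hy1 hy3,
        Equiv.swap_apply_of_ne_of_ne hfy1 hfy2]
    · change Perm.sign (Equiv.swap v z * Equiv.swap (bar v) (bar z)) = 1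
      rw [map_mul, Perm.sign_swap (Ne.symm hzv), Perm.sign_swap (Ne.symm hz'v')]
      rfl
  set r := Equiv.swap v z * Equiv.swap (bar v) (bar z) with hrdef
  have hr1 : r u = u := by
    rw [hrdef, Perm.mul_apply, Equiv.swap_apply_of_ne_of_ne (Ne.symm hv'u) (Ne.symm hz'u),
      Equiv.swap_apply_of_ne_of_ne huv' (Ne.symm hzu)]
  have hr2 : r (bar u) = bar u := by
    rw [hrdef, Perm.mul_apply, Equiv.swap_apply_of_ne_of_ne (Ne.symm hv'u') (Ne.symm hz'u'),
      Equiv.swap_apply_of_ne_of_ne hu'v (Ne.symm hzu')]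
  have hr3 : r v = z := by
    rw [hrdef, Perm.mul_apply, Equiv.swap_apply_of_ne_of_ne hv1.symm (Ne.symm hz'v),
      Equiv.swap_apply_left]
  have hr4 : r z = v := by
    rw [hrdef, Perm.mul_apply, Equiv.swap_apply_of_ne_of_ne hzv' (Ne.symm hz1),
      Equiv.swap_apply_right]
  have hτ2 := K.mul_mem hτ (K.mul_mem (K.mul_mem (hK hr) hτ) (K.inv_mem (hK hr)))
  rw [conj_swap_mul, hr1, hr2, hr3, hr4,
    klein_identity huv' hu1.symm (Ne.symm hzu) (Ne.symm hu'v) (Ne.symm hzv) (Ne.symm hzu')] at hτ2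
  exact three_cycle_A hK hbar (fun h => hfzv h.symm) (Ne.symm huv') (Ne.symm hu'v) hzu hzu'
    (Ne.symm hu1) hu2.symm hτ2

/-- Any double transposition of the right shape gives a 3-cycle, except in the `b = 4` situation. -/
theorem three_cycle_of_double {K : Subgroup (Perm Ω)} (hK : Wplus f ≤ K) (hbb : 5 ≤ b ∨ b = 3)
    (hf : ∀ i : Fin b, Nat.card {x : Ω // f x = i} = 2) {bar : Ω → Ω}
    (hbar : ∀ u, bar u ≠ u ∧ f (bar u) = f u ∧ ∀ y, f y = f u → y = u ∨ y = bar u)
    {u v w z : Ω} (huv : f u ≠ f v) (huw : u ≠ w) (huz : u ≠ z) (hvw : v ≠ w) (hvz : v ≠ z)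
    (hwz : w ≠ z) (hex : ¬ ((w = bar u ∧ z = bar v) ∨ (w = bar v ∧ z = bar u)))
    (hτ : Equiv.swap u v * Equiv.swap w z ∈ K) :
    ∃ c ∈ K, c.IsThreeCycle := by
  obtain ⟨hu1, hu2, hu3⟩ := hbar u
  obtain ⟨hv1, hv2, hv3⟩ := hbar v
  by_cases hfwz : f w = f z
  · exact three_cycle_A hK hbar huv huw huz hvw hvz hwz hfwz hτ
  by_cases hwu : w = bar u
  · subst hwu
    have hzv' : z ≠ bar v := fun h => hex (Or.inl ⟨rfl, h⟩)
    exact three_cycle_B hK hbar huv (Ne.symm huz) (Ne.symm hwz) (Ne.symm hvz) hzv' hτ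
  by_cases hzu : z = bar u
  · subst hzu
    rw [Equiv.swap_comm w] at hτ
    have hwv' : w ≠ bar v := fun h => hex (Or.inr ⟨h, rfl⟩)
    exact three_cycle_B hK hbar huv (Ne.symm huw) hwz (Ne.symm hvw) hwv' hτ
  by_cases hwv : w = bar v
  · subst hwv
    have hzu' : z ≠ bar u := hzu
    have hcomm : Equiv.swap v u * Equiv.swap (bar v) z ∈ K := by
      rw [Equiv.swap_comm v]; exact hτ
    exact three_cycle_B hK hbar (Ne.symm huv) (Ne.symm hvz) (Ne.symm hwz) (Ne.symm huz) hzu' hcomm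
  by_cases hzv : z = bar v
  · subst hzv
    have hcomm : Equiv.swap v u * Equiv.swap (bar v) w ∈ K := by
      rw [Equiv.swap_comm v, Equiv.swap_comm (bar v)]; exact hτ
    exact three_cycle_B hK hbar (Ne.symm huv) (Ne.symm hvw) hwz (Ne.symm huw) hwu hcomm
  -- four different blocks
  have hfwu : f w ≠ f u := fun h => (hu3 w h).elim (Ne.symm huw) hwu
  have hfwv : f w ≠ f v := fun h => (hv3 w h).elim (Ne.symm hvw) hwv
  have hfzu : f z ≠ f u := fun h => (hu3 z h).elim (Ne.symm huz) hzu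
  have hfzv : f z ≠ f v := fun h => (hv3 z h).elim (Ne.symm hvz) hzv
  have hb5 : 5 ≤ b := by
    rcases hbb with h | h
    · exact h
    · exfalso
      subst h
      -- three labels only
      have : (Finset.univ : Finset (Fin 3)).card = 3 := by simp
      have hsub : ({f u, f v, f w, f z} : Finset (Fin 3)).card = 4 := by
        rw [Finset.card_insert_of_notMem, Finset.card_insert_of_notMem, Finset.card_pair hfwz]
        · simp [hfwv.symm, hfzv.symm]
        · simp only [Finset.mem_insert, Finset.mem_singleton, not_or]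
          exact ⟨huv, hfwu.symm, hfzu.symm⟩
      have := Finset.card_le_univ ({f u, f v, f w, f z} : Finset (Fin 3))
      rw [hsub] at this
      simp at this
  obtain ⟨i, hi⟩ : ∃ i : Fin b, i ∉ ({f u, f v, f w, f z} : Finset (Fin b)) := by
    by_contra hcon
    push Not at hcon
    have h1 : (Finset.univ : Finset (Fin b)) ⊆ {f u, f v, f w, f z} := fun x _ => hcon x
    have h2 := Finset.card_le_card h1
    have h3 : ({f u, f v, f w, f z} : Finset (Fin b)).card ≤ 4 := Finset.card_le_four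
    rw [Finset.card_univ, Fintype.card_fin] at h2
    omega
  simp only [Finset.mem_insert, Finset.mem_singleton, not_or] at hi
  obtain ⟨e, e', hee, he, he'⟩ := exists_pair_in_fibre (a := 2) le_rfl hf i
  have hne : ∀ x, f x = i → x ≠ u ∧ x ≠ v ∧ x ≠ w ∧ x ≠ z := by
    intro x hx
    refine ⟨?_, ?_, ?_, ?_⟩
    · rintro rfl; exact hi.1 hx.symm
    · rintro rfl; exact hi.2.1 hx.symm
    · rintro rfl; exact hi.2.2.1 hx.symm
    · rintro rfl; exact hi.2.2.2 hx.symm
  obtain ⟨he1, he2, he3, he4⟩ := hne e he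
  obtain ⟨he'1, he'2, he'3, he'4⟩ := hne e' he'
  have hu'v : bar u ≠ v := fun h => huv (by rw [← hu2, h])
  have h1 : (Equiv.swap u v * Equiv.swap w z) u = v := by
    rw [Perm.mul_apply, Equiv.swap_apply_of_ne_of_ne huw huz, Equiv.swap_apply_left]
  have h2 : (Equiv.swap u v * Equiv.swap w z) (bar u) = bar u := by
    rw [Perm.mul_apply, Equiv.swap_apply_of_ne_of_ne (Ne.symm hwu) (Ne.symm hzu),
      Equiv.swap_apply_of_ne_of_ne hu1 hu'v]
  have h3 : ∀ x, f x = i → (Equiv.swap u v * Equiv.swap w z) x = x := by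
    intro x hx
    obtain ⟨hx1, hx2, hx3, hx4⟩ := hne x hx
    rw [Perm.mul_apply, Equiv.swap_apply_of_ne_of_ne hx3 hx4, Equiv.swap_apply_of_ne_of_ne hx1 hx2]
  refine three_cycle_of_comm hK hτ hu1 hu2 hee (he.trans he'.symm) (fun h => huv (by rw [h]))
    (Ne.symm hu'v) h1 h2 ?_
  rw [h3 e he, h3 e' he']

/-- An element outside `W f` produces a double transposition of the right shape. -/
theorem exists_double {K : Subgroup (Perm Ω)} (hK : Wplus f ≤ K) (hb : 3 ≤ b)
    (hf : ∀ i : Fin b, Nat.card {x : Ω // f x = i} = 2) {bar : Ω → Ω}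
    (hbar : ∀ u, bar u ≠ u ∧ f (bar u) = f u ∧ ∀ y, f y = f u → y = u ∨ y = bar u)
    (hKW : ¬ K ≤ W f) :
    ∃ u v w z : Ω, f u ≠ f v ∧ u ≠ w ∧ u ≠ z ∧ v ≠ w ∧ v ≠ z ∧ w ≠ z ∧
      ¬ ((w = bar u ∧ z = bar v) ∨ (w = bar v ∧ z = bar u)) ∧
      Equiv.swap u v * Equiv.swap w z ∈ K := by
  obtain ⟨g0, hg0K, hg0W⟩ := SetLike.not_le_iff_exists.1 hKW
  obtain ⟨g, hg, x, y, hxy, hgxy⟩ : ∃ g ∈ K, ∃ x y : Ω, f x = f y ∧ f (g x) ≠ f (g y) := by
    by_contra hcon
    push Not at hcon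
    apply hg0W
    intro x y
    constructor
    · exact hcon g0 hg0K x y
    · intro h
      have := hcon g0⁻¹ (K.inv_mem hg0K) (g0 x) (g0 y) h
      simpa using this
  have hne : x ≠ y := by
    rintro rfl
    exact hgxy rfl
  -- two other labels
  obtain ⟨i1, i2, hi12, hi1, hi2⟩ : ∃ i1 i2 : Fin b, i1 ≠ i2 ∧ i1 ≠ f x ∧ i2 ≠ f x := by
    have h1 : 1 < ((Finset.univ : Finset (Fin b)).erase (f x)).card := by
      rw [Finset.card_erase_of_mem (Finset.mem_univ _), Finset.card_univ, Fintype.card_fin]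
      omega
    obtain ⟨i1, h1', i2, h2', h12⟩ := Finset.one_lt_card.1 h1
    exact ⟨i1, i2, h12, (Finset.mem_erase.1 h1').1, (Finset.mem_erase.1 h2').1⟩
  obtain ⟨p1, q1, hpq1, hp1, hq1⟩ := exists_pair_in_fibre (a := 2) le_rfl hf i1
  obtain ⟨p2, q2, hpq2, hp2, hq2⟩ := exists_pair_in_fibre (a := 2) le_rfl hf i2
  -- the conjugates
  have hmem : ∀ {p q : Ω} , p ≠ q → f p = f q →
      Equiv.swap (g x) (g y) * Equiv.swap (g p) (g q) ∈ K := by
    intro p q hpq hfpq
    have h1 := hK (mem_Wplus_of_two_swaps hne hpq hxy hfpq)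
    have h2 := K.mul_mem (K.mul_mem hg h1) (K.inv_mem hg)
    rwa [conj_swap_mul] at h2
  have hdist : ∀ {p q : Ω}, p ≠ x → p ≠ y → q ≠ x → q ≠ y → p ≠ q →
      g x ≠ g p ∧ g x ≠ g q ∧ g y ≠ g p ∧ g y ≠ g q ∧ g p ≠ g q := by
    intro p q h1 h2 h3 h4 h5
    exact ⟨fun h => h1 (g.injective h).symm, fun h => h3 (g.injective h).symm,
      fun h => h2 (g.injective h).symm, fun h => h4 (g.injective h).symm,
      fun h => h5 (g.injective h)⟩
  have hxy1 : ∀ p, f p ≠ f x → p ≠ x ∧ p ≠ y := by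
    intro p hp
    exact ⟨fun h => hp (h ▸ rfl), fun h => hp (by rw [h, hxy])⟩
  by_cases hcase : ((g p1 = bar (g x) ∧ g q1 = bar (g y)) ∨ (g p1 = bar (g y) ∧ g q1 = bar (g x)))
  · -- use the second label
    have hp2x := hxy1 p2 (by rw [hp2]; exact hi2)
    have hq2x := hxy1 q2 (by rw [hq2]; exact hi2)
    obtain ⟨d1, d2, d3, d4, d5⟩ := hdist hp2x.1 hp2x.2 hq2x.1 hq2x.2 hpq2
    refine ⟨g x, g y, g p2, g q2, hgxy, d1, d2, d3, d4, d5, ?_, hmem hpq2 (hp2.trans hq2.symm)⟩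
    have hpne : g p2 ≠ g p1 := fun h => hi12 (by rw [← hp1, ← hp2, g.injective h])
    have hpne' : g p2 ≠ g q1 := fun h => hi12 (by rw [← hq1, ← hp2, g.injective h])
    rcases hcase with ⟨h1, h2⟩ | ⟨h1, h2⟩
    · rintro (⟨h3, -⟩ | ⟨h3, -⟩)
      · exact hpne (h3.trans h1.symm)
      · exact hpne' (h3.trans h2.symm)
    · rintro (⟨h3, -⟩ | ⟨h3, -⟩)
      · exact hpne' (h3.trans h2.symm)
      · exact hpne (h3.trans h1.symm)
  · have hp1x := hxy1 p1 (by rw [hp1]; exact hi1)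
    have hq1x := hxy1 q1 (by rw [hq1]; exact hi1)
    obtain ⟨d1, d2, d3, d4, d5⟩ := hdist hp1x.1 hp1x.2 hq1x.1 hq1x.2 hpq1
    exact ⟨g x, g y, g p1, g q1, hgxy, d1, d2, d3, d4, d5, hcase, hmem hpq1 (hp1.trans hq1.symm)⟩

/-- An overgroup of `W⁺` not inside `W` contains the alternating group (generic case). -/
theorem alt_le_of_overgroup (ha : 2 ≤ a) (hb : 2 ≤ b) (hT : 3 ≤ a ∨ 3 ≤ b)
    (hab : a = 2 → 5 ≤ b ∨ b = 3)
    (hf : ∀ i : Fin b, Nat.card {x : Ω // f x = i} = a) (K : Subgroup (Perm Ω))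
    (hK : Wplus f ≤ K) (hKW : ¬ K ≤ W f) : alternatingGroup Ω ≤ K := by
  have hprim := preprimitive_of_overgroup ha hb hT hf K hK hKW
  have h3 : ∃ c ∈ K, c.IsThreeCycle := by
    by_cases ha3 : 3 ≤ a
    · have i0 : Fin b := ⟨0, by omega⟩
      obtain ⟨x, -, -, hx, -⟩ := exists_pair_in_fibre ha hf i0
      obtain ⟨y, z, hyz, hy, hz, hyx, hzx⟩ := exists_pair_in_fibre_avoid ha3 hf x i0
      refine ⟨Equiv.swap x y * Equiv.swap x z, hK ?_,
        Perm.isThreeCycle_swap_mul_swap_same (Ne.symm hyx) (Ne.symm hzx) hyz⟩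
      exact mem_Wplus_of_two_swaps (Ne.symm hyx) (Ne.symm hzx) (hx.trans hy.symm) (hx.trans hz.symm)
    · have ha2 : a = 2 := by omega
      subst ha2
      have hbb := hab rfl
      have hb3 : 3 ≤ b := by omega
      obtain ⟨bar, hbar⟩ := exists_bar hf
      obtain ⟨u, v, w, z, h1, h2, h3, h4, h5, h6, h7, h8⟩ := exists_double hK hb3 hf hbar hKW
      exact three_cycle_of_double hK hbb hf hbar h1 h2 h3 h4 h5 h6 h7 h8
  obtain ⟨c, hc, hc3⟩ := h3
  exact Equiv.Perm.alternatingGroup_le_of_isPreprimitive_of_isThreeCycle_mem hprim hc3 hc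

section Four

/-- The blocks-preserving test in the model of degree four. -/
def Wmodel (g : Perm (Fin 2 × Fin 2)) : Prop := ∀ x y, x.1 = y.1 ↔ (g x).1 = (g y).1

instance (g : Perm (Fin 2 × Fin 2)) : Decidable (Wmodel g) := by
  unfold Wmodel; infer_instance

set_option maxRecDepth 100000 in
theorem model_four : ∀ g h : Perm (Fin 2 × Fin 2), Perm.sign g = 1 → ¬ Wmodel g → Perm.sign h = 1 →
    ∃ v : Perm (Fin 2 × Fin 2), Perm.sign v = 1 ∧ Wmodel v ∧ (h = v ∨ h = v * g ∨ h = v * g * g) := by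
  decide +kernel

end Four

/-- The degree-four case. -/
theorem alt_le_four (f : Ω → Fin 2)
    (hf' : ∀ i : Fin 2, Nat.card {x : Ω // f x = i} = 2) (K : Subgroup (Perm Ω))
    (hK : Wplus f ≤ K) (hKA : K ≤ alternatingGroup Ω) (hKW : ¬ K ≤ W f) :
    alternatingGroup Ω ≤ K := by
  obtain ⟨φ, hφ⟩ := exists_equiv_prod f hf'
  obtain ⟨g, hgK, hgW⟩ := SetLike.not_le_iff_exists.1 hKW
  intro h hh
  let conjP : Perm Ω ≃* Perm (Fin 2 × Fin 2) := φ.permCongrHom
  have hconj : ∀ k x, conjP k (φ x) = φ (k x) := by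
    intro k x
    change φ (k (φ.symm (φ x))) = φ (k x)
    simp
  have hsign : ∀ k, Perm.sign (conjP k) = Perm.sign k := fun k => Perm.sign_permCongr φ k
  have hW : ∀ k, Wmodel (conjP k) ↔ k ∈ W f := by
    intro k
    constructor
    · intro hk x y
      have := hk (φ x) (φ y)
      rw [hconj, hconj, hφ, hφ, hφ, hφ] at this
      exact this
    · intro hk x y
      obtain ⟨x, rfl⟩ := φ.surjective x
      obtain ⟨y, rfl⟩ := φ.surjective y
      rw [hconj, hconj, hφ, hφ, hφ, hφ]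
      exact hk x y
  have hg1 : Perm.sign (conjP g) = 1 := by rw [hsign]; exact hKA hgK
  have hg2 : ¬ Wmodel (conjP g) := by rw [hW]; exact hgW
  have hh1 : Perm.sign (conjP h) = 1 := by rw [hsign]; exact hh
  obtain ⟨v', hv1, hv2, hv3⟩ := model_four _ _ hg1 hg2 hh1
  obtain ⟨v, rfl⟩ := conjP.surjective v'
  have hvK : v ∈ K := hK ⟨(hW v).1 hv2, by
    change Perm.sign v = 1
    rw [← hsign]; exact hv1⟩
  rcases hv3 with h1 | h1 | h1
  · rw [conjP.injective h1]; exact hvK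
  · have : h = v * g := conjP.injective (by rw [h1, map_mul])
    rw [this]; exact K.mul_mem hvK hgK
  · have : h = v * g * g := conjP.injective (by rw [h1, map_mul, map_mul])
    rw [this]; exact K.mul_mem (K.mul_mem hvK hgK) hgK

/-- Cardinality of the set with a partition. -/
theorem card_eq_mul (hf : ∀ i : Fin b, Nat.card {x : Ω // f x = i} = a) :
    Fintype.card Ω = b * a := by
  obtain ⟨φ, -⟩ := exists_equiv_prod f hf
  rw [Fintype.card_congr φ]
  simp

/-- The maximality theorem. -/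
theorem isCoatom_Wplus (h8 : Fintype.card Ω ≠ 8) (ha : 2 ≤ a) (hb : 2 ≤ b)
    (hf : ∀ i : Fin b, Nat.card {x : Ω // f x = i} = a) :
    IsCoatom ((W f ⊓ alternatingGroup Ω).subgroupOf (alternatingGroup Ω)) := by
  have hcard := card_eq_mul hf
  have hnt : Nontrivial (Fin b) := by
    rw [← Fintype.one_lt_card_iff_nontrivial, Fintype.card_fin]; omega
  constructor
  · intro htop
    have hA : alternatingGroup Ω ≤ W f ⊓ alternatingGroup Ω := Subgroup.subgroupOf_eq_top.1 htop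
    have i0 : Fin b := ⟨0, by omega⟩
    obtain ⟨x, y, hxy, hx, hy⟩ := exists_pair_in_fibre ha hf i0
    obtain ⟨j, hj⟩ := exists_ne i0
    obtain ⟨z, -, -, hz, -⟩ := exists_pair_in_fibre ha hf j
    have hyz : y ≠ z := fun h => hj (by rw [← hz, ← h, hy])
    have hxz : x ≠ z := fun h => hj (by rw [← hz, ← h, hx])
    have hc := Perm.isThreeCycle_swap_mul_swap_same (Ne.symm hxy) hyz hxz
    have hW := (hA hc.mem_alternatingGroup).1
    have h1 := (hW x y).1 (hx.trans hy.symm)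
    rw [Perm.mul_apply, Perm.mul_apply, Equiv.swap_apply_of_ne_of_ne hxy hxz,
      Equiv.swap_apply_left, Equiv.swap_apply_right,
      Equiv.swap_apply_of_ne_of_ne (Ne.symm hyz) (Ne.symm hxz), hy, hz] at h1
    exact hj h1.symm
  · intro Q hQ
    let K : Subgroup (Perm Ω) := Q.map (alternatingGroup Ω).subtype
    have hKA : K ≤ alternatingGroup Ω := by
      rintro _ ⟨q, -, rfl⟩
      exact q.2
    have hKP : W f ⊓ alternatingGroup Ω ≤ K := by
      intro w hw
      exact ⟨⟨w, hw.2⟩, hQ.le hw, rfl⟩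
    have hKW : ¬ K ≤ W f := by
      obtain ⟨q, hq, hqP⟩ := SetLike.exists_of_lt hQ
      intro hle
      apply hqP
      refine ⟨hle ⟨q, hq, rfl⟩, q.2⟩
    have hAK : alternatingGroup Ω ≤ K := by
      by_cases hT : 3 ≤ a ∨ 3 ≤ b
      · apply alt_le_of_overgroup ha hb hT _ hf K hKP hKW
        intro ha2
        subst ha2
        have hb4 : b ≠ 4 := by
          rintro rfl
          exact h8 (by rw [hcard])
        rcases hT with h | h
        · omega
        · omega
      · have ha2 : a = 2 := by omega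
        have hb2 : b = 2 := by omega
        subst ha2
        subst hb2
        exact alt_le_four f hf K hKP hKA hKW
    rw [eq_top_iff]
    rintro q -
    obtain ⟨q', hq', hqq⟩ := hAK q.2
    have : q' = q := Subtype.ext hqq
    rwa [← this]

end Cfsg.Agent.Lib.AltWreath
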