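import Mathlib
import Cfsg.Prelude.Def_Amalgam
import Cfsg.Prelude.Def_LocalStructure
import Cfsg.Agent.Lib.CosetGraph2
import Cfsg.Agent.Lib.PResid

set_option autoImplicit false

namespace Cfsg.Agent.Lib.AmalgamIter

open Cfsg Cfsg.Agent.Lib.CosetGraph Cfsg.Agent.Lib.CosetGraph2 Cfsg.Agent.Lib.PResid Cfsg.Agent.Lib.PCore
open scoped commutatorElement

section nilp

theorem le_of_le_sup_commutator_nilp {G : Type*} [Group G] [hG : Group.IsNilpotent G] (A B : Subgroup G)
    [A.Normal] (h : B ≤ A ⊔ ⁅B, (⊤ : Subgroup G)⁆) : B ≤ A := by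
  let π := QuotientGroup.mk' A
  have hπ : Function.Surjective π := QuotientGroup.mk'_surjective _
  have h1 : B.map π ≤ ⁅B.map π, (⊤ : Subgroup (G ⧸ A))⁆ := by
    have h2 := Subgroup.map_mono (f := π) h
    rw [Subgroup.map_sup, Subgroup.map_commutator, Subgroup.map_top_of_surjective _ hπ] at h2
    have h3 : A.map π = ⊥ := by
      rw [eq_bot_iff]
      rintro _ ⟨a, ha, rfl⟩
      exact (QuotientGroup.eq_one_iff a).2 ha
    rwa [h3, bot_sup_eq] at h2
  have h2 : ∀ k, B.map π ≤ (⊤ : Subgroup (G ⧸ A)).lowerCentralSeries k := by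
    intro k
    induction k with
    | zero => exact le_top
    | succ k ih => exact h1.trans (Subgroup.commutator_mono ih le_rfl)
  obtain ⟨n, hn⟩ := nilpotent_iff_lowerCentralSeries.1 (inferInstance : Group.IsNilpotent (G ⧸ A))
  have h3 := h2 n
  rw [hn] at h3
  intro b hb
  have := h3 ⟨b, hb, rfl⟩
  exact (QuotientGroup.eq_one_iff b).1 (Subgroup.mem_bot.1 this)

variable {X : Type*} [Group X] {p : ℕ} [Fact p.Prime]

theorem le_of_le_sup_commutator {Q V V' : Subgroup X} [Finite Q] (hQ : IsPGroup p Q) (hVQ : V ≤ Q)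
    (hV'V : V' ≤ V) (hnorm : Q ≤ Subgroup.normalizer (V' : Set X)) (h : V ≤ V' ⊔ ⁅V, Q⁆) : V ≤ V' := by
  have : Group.IsNilpotent Q := hQ.isNilpotent
  have hV'Q := hV'V.trans hVQ
  have hA : (V'.subgroupOf Q).Normal := (Subgroup.normal_subgroupOf_iff_le_normalizer hV'Q).2 hnorm
  have hB : V.subgroupOf Q ≤ V'.subgroupOf Q ⊔ ⁅V.subgroupOf Q, (⊤ : Subgroup Q)⁆ := by
    intro b hb
    have h1 : (b : X) ∈ V' ⊔ ⁅V, Q⁆ := h hb
    have h2 : (V'.subgroupOf Q ⊔ ⁅V.subgroupOf Q, (⊤ : Subgroup Q)⁆).map Q.subtype = V' ⊔ ⁅V, Q⁆ := by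
      rw [Subgroup.map_sup, Subgroup.map_commutator, Subgroup.subgroupOf_map_subtype,
        Subgroup.subgroupOf_map_subtype, inf_eq_left.2 hV'Q, inf_eq_left.2 hVQ]
      congr 2
      exact (MonoidHom.range_eq_map _).symm.trans (Subgroup.range_subtype Q)
    rw [← h2] at h1
    exact (Subgroup.mem_map_iff_mem Q.subtype_injective).1 h1
  have h3 := le_of_le_sup_commutator_nilp _ _ hB
  intro v hv
  have := h3 (show (⟨v, hVQ hv⟩ : Q) ∈ V.subgroupOf Q from hv)
  exact this

theorem omegaZ_ne_bot {T : Subgroup X} [Finite T] (hT : IsPGroup p T) (hne : T ≠ ⊥) : omegaZ p T ≠ ⊥ := by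
  have hnt : Nontrivial T := (Subgroup.nontrivial_iff_ne_bot T).2 hne
  have hc := hT.center_nontrivial
  obtain ⟨z, hz⟩ := exists_ne (1 : Subgroup.center T)
  have hC : IsPGroup p ↥(T ⊓ Subgroup.centralizer (T : Set X)) := hT.to_le inf_le_left
  have hfin : Finite ↥(T ⊓ Subgroup.centralizer (T : Set X)) :=
    Finite.of_injective (fun x : ↥(T ⊓ Subgroup.centralizer (T : Set X)) => (⟨x.1, x.2.1⟩ : T))
      (fun a b hab => Subtype.ext (congrArg (fun y : T => (y : X)) hab))
  refine omegaOne_ne_bot hC ?_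
  intro hbot
  have hmem : ((z : T) : X) ∈ T ⊓ Subgroup.centralizer (T : Set X) := by
    refine ⟨(z : T).2, Subgroup.mem_centralizer_iff.2 ?_⟩
    intro y hy
    have := (Subgroup.mem_center_iff.1 z.2) ⟨y, hy⟩
    exact congrArg (fun w : T => (w : X)) this
  rw [hbot, Subgroup.mem_bot] at hmem
  exact hz (Subtype.ext (Subtype.ext hmem))

end nilp

variable {X : Type*} [Group X] {M₁ M₂ : Subgroup X} {p : ℕ} [Fact p.Prime]

theorem vertexZ_smul_le (h : IsCharPAmalgamPair p M₁ M₂) (g : X) (μ : CosetVertex M₁ M₂) :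
    vertexZ p (g • μ) ≤ (vertexZ p μ).map (MulAut.conj g).toMonoidHom := by
  have := finite_stabilizer h μ
  have hE : MulAction.stabilizer X (g • μ) =
      (MulAction.stabilizer X μ).map (MulAut.conj g).toMonoidHom :=
    MulAction.stabilizer_smul_eq_stabilizer_map_conj g μ
  refine iSup_le fun S => ?_
  obtain ⟨R₀, hR₀⟩ := exists_sylow_conj g hE S
  change omegaZ p (sylowMap p S) ≤ _
  rw [hR₀, ← omegaZ_map_conj]
  exact Subgroup.map_mono (omegaZ_sylowMap_le R₀)

theorem map_conj_inv_map_conj (A : Subgroup X) (g : X) :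
    (A.map (MulAut.conj g).toMonoidHom).map (MulAut.conj g⁻¹).toMonoidHom = A := by
  ext y
  simp only [mem_map_conj_iff]
  simp [mul_assoc]

theorem map_conj_map_conj_inv (A : Subgroup X) (g : X) :
    (A.map (MulAut.conj g⁻¹).toMonoidHom).map (MulAut.conj g).toMonoidHom = A := by
  have := map_conj_inv_map_conj A g⁻¹
  rwa [inv_inv] at this

theorem vertexZ_smul (h : IsCharPAmalgamPair p M₁ M₂) (g : X) (μ : CosetVertex M₁ M₂) :
    vertexZ p (g • μ) = (vertexZ p μ).map (MulAut.conj g).toMonoidHom := by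
  refine le_antisymm (vertexZ_smul_le h g μ) ?_
  have h1 := vertexZ_smul_le h g⁻¹ (g • μ)
  rw [inv_smul_smul] at h1
  have h2 := Subgroup.map_mono (f := (MulAut.conj g).toMonoidHom) h1
  rwa [map_conj_map_conj_inv] at h2

theorem dist_smul_le (hconn : (cosetGraph M₁ M₂).Connected) (g : X) (δ μ : CosetVertex M₁ M₂) :
    (cosetGraph M₁ M₂).dist (g • δ) (g • μ) ≤ (cosetGraph M₁ M₂).dist δ μ := by
  obtain ⟨w, hw⟩ := hconn.exists_walk_length_eq_dist δ μ
  let f : cosetGraph M₁ M₂ →g cosetGraph M₁ M₂ := ⟨fun v => g • v, fun h => adj_smul g h⟩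
  have := SimpleGraph.dist_le (w.map f)
  rw [SimpleGraph.Walk.length_map, hw] at this
  exact this

theorem dist_smul (hconn : (cosetGraph M₁ M₂).Connected) (g : X) (δ μ : CosetVertex M₁ M₂) :
    (cosetGraph M₁ M₂).dist (g • δ) (g • μ) = (cosetGraph M₁ M₂).dist δ μ := by
  refine le_antisymm (dist_smul_le hconn g δ μ) ?_
  have := dist_smul_le hconn g⁻¹ (g • δ) (g • μ)
  rwa [inv_smul_smul, inv_smul_smul] at this

theorem vertexZ_le_iter {n : ℕ} {δ μ : CosetVertex M₁ M₂} (hd : (cosetGraph M₁ M₂).dist δ μ ≤ n) :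
    vertexZ p μ ≤ vertexVIter p M₁ M₂ n δ :=
  le_iSup (fun μ : {μ : CosetVertex M₁ M₂ // (cosetGraph M₁ M₂).dist δ μ ≤ n} =>
    vertexZ p (μ : CosetVertex M₁ M₂)) ⟨μ, hd⟩

theorem iter_mono (hconn : (cosetGraph M₁ M₂).Connected) {n m : ℕ} {δ δ' : CosetVertex M₁ M₂}
    (hd : (cosetGraph M₁ M₂).dist δ δ' + n ≤ m) :
    vertexVIter p M₁ M₂ n δ' ≤ vertexVIter p M₁ M₂ m δ := by
  refine iSup_le ?_
  rintro ⟨μ, hμ⟩
  refine vertexZ_le_iter ?_
  change (cosetGraph M₁ M₂).dist δ μ ≤ m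
  have := hconn.dist_triangle (u := δ) (v := δ') (w := μ)
  have hμ' : (cosetGraph M₁ M₂).dist δ' μ ≤ n := hμ
  omega

theorem iter_smul (h : IsCharPAmalgamPair p M₁ M₂) (n : ℕ) (g : X) (δ : CosetVertex M₁ M₂) :
    vertexVIter p M₁ M₂ n (g • δ) = (vertexVIter p M₁ M₂ n δ).map (MulAut.conj g).toMonoidHom := by
  have hconn := connected_of_sup_eq_top h.1.1
  refine le_antisymm ?_ ?_
  · refine iSup_le ?_
    rintro ⟨μ, hμ⟩
    have hμ' : (cosetGraph M₁ M₂).dist δ (g⁻¹ • μ) ≤ n := by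
      have := dist_smul hconn g δ (g⁻¹ • μ)
      rw [smul_inv_smul] at this
      rw [← this]; exact hμ
    have h1 : vertexZ p μ = (vertexZ p (g⁻¹ • μ)).map (MulAut.conj g).toMonoidHom := by
      rw [← vertexZ_smul h, smul_inv_smul]
    change vertexZ p μ ≤ _
    rw [h1]
    exact Subgroup.map_mono (vertexZ_le_iter hμ')
  · rw [Subgroup.map_le_iff_le_comap]
    refine iSup_le ?_
    rintro ⟨μ, hμ⟩
    rw [← Subgroup.map_le_iff_le_comap]
    change (vertexZ p μ).map _ ≤ _
    rw [← vertexZ_smul h]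
    refine vertexZ_le_iter ?_
    rw [dist_smul hconn]
    exact hμ

theorem stabilizer_le_normalizer_iter (h : IsCharPAmalgamPair p M₁ M₂) (n : ℕ)
    (δ : CosetVertex M₁ M₂) :
    MulAction.stabilizer X δ ≤ Subgroup.normalizer (vertexVIter p M₁ M₂ n δ : Set X) := by
  intro g hg
  have h1 := iter_smul h n g δ
  rw [MulAction.mem_stabilizer_iff.1 hg] at h1
  exact mem_normalizer_of_map_conj_eq h1.symm

theorem vertexZ_ne_bot (h : IsCharPAmalgamPair p M₁ M₂) (δ : CosetVertex M₁ M₂) :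
    vertexZ p δ ≠ ⊥ := by
  have := finite_stabilizer h δ
  obtain ⟨S⟩ : Nonempty (Sylow p (MulAction.stabilizer X δ)) := inferInstance
  have hdvd : p ∣ Nat.card (MulAction.stabilizer X δ) := by
    obtain ⟨x, M, hM, hδ⟩ := vertex_cases δ
    rw [hδ, card_map_conj]
    rcases hM with rfl | rfl
    · exact h.2.2.2.1
    · exact h.2.2.2.2.1
  have hcardS : Nat.card ↥(sylowMap p S) = Nat.card S :=
    Subgroup.card_map_of_injective (Subgroup.subtype_injective _)
  have hfS : Finite ↥(sylowMap p S) :=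
    Finite.of_injective (fun x : ↥(sylowMap p S) => (⟨x.1, sylowMap_le p S x.2⟩ : MulAction.stabilizer X δ))
      (fun a b hab => Subtype.ext (congrArg (fun y : MulAction.stabilizer X δ => (y : X)) hab))
  have hpS : IsPGroup p ↥(sylowMap p S) := S.isPGroup'.map _
  have hne : sylowMap p S ≠ ⊥ := by
    intro hb
    have h1 : Nat.card ↥(sylowMap p S) = 1 := by rw [hb]; simp
    rw [hcardS, S.card_eq_multiplicity] at h1
    have hp := (Fact.out : p.Prime)
    have h2 : (Nat.card (MulAction.stabilizer X δ)).factorization p = 0 :=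
      Nat.pow_right_injective hp.two_le (by simpa using h1)
    have hne0 : Nat.card (MulAction.stabilizer X δ) ≠ 0 := Nat.card_pos.ne'
    have := (hp.dvd_iff_one_le_factorization hne0).1 hdvd
    omega
  intro hbot
  have h1 := omegaZ_sylowMap_le S
  change vertexZ p δ = ⊥ at hbot
  rw [show sylowCenterClosure p (MulAction.stabilizer X δ) = vertexZ p δ from rfl, hbot] at h1
  exact omegaZ_ne_bot hpS hne (le_bot_iff.1 h1)

theorem exists_adj (lam : CosetVertex M₁ M₂) : ∃ δ, (cosetGraph M₁ M₂).Adj lam δ := by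
  rcases lam with a | a
  · obtain ⟨x, rfl⟩ := QuotientGroup.mk_surjective a
    exact ⟨_, adj_mk x⟩
  · obtain ⟨x, rfl⟩ := QuotientGroup.mk_surjective a
    exact ⟨_, (adj_mk x).symm⟩

/-- The `p`-residual of the `p`-element closure is transitive on the neighbours. -/
theorem residual_transitive (h : IsSpeAmalgamPair p M₁ M₂) {lam δ δ' : CosetVertex M₁ M₂}
    (hδ : (cosetGraph M₁ M₂).Adj lam δ) (hδ' : (cosetGraph M₁ M₂).Adj lam δ') :
    ∃ x ∈ (pResidual p ↥(pElementClosure p (MulAction.stabilizer X lam))).map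
        (pElementClosure p (MulAction.stabilizer X lam)).subtype, x • δ = δ' := by
  have hc := h.1
  have hfin := finite_stabilizer hc lam
  set H := MulAction.stabilizer X lam with hH
  set L := pElementClosure p H with hL
  have hLH : L ≤ H := pElementClosure_le p H
  have hfL : Finite L :=
    Finite.of_injective (fun x : L => (⟨x.1, hLH x.2⟩ : H))
      (fun a b hab => Subtype.ext (congrArg (fun y : H => (y : X)) hab))
  obtain ⟨g, hg, hgδ⟩ := exists_smul_eq_of_adj hδ hδ'
  have hfE : Finite ↥(edgeStabilizer lam δ) :=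
    Finite.of_injective (fun x : ↥(edgeStabilizer lam δ) => (⟨x.1, x.2.1⟩ : H))
      (fun a b hab => Subtype.ext (congrArg (fun y : H => (y : X)) hab))
  obtain ⟨R⟩ : Nonempty (Sylow p ↥(edgeStabilizer lam δ)) := inferInstance
  obtain ⟨P, hP⟩ := exists_sylow_vertex hc hδ R
  obtain ⟨r, hr, n, hn, hgrn⟩ := frattini_pElementClosure P g hg
  have hnE : n ∈ edgeStabilizer lam δ := by
    refine (edge_normalizer h hδ R).2 ?_
    rw [← hP]
    exact hn
  have hnδ : n • δ = δ := MulAction.mem_stabilizer_iff.1 hnE.2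
  have hrδ : r • δ = δ' := by
    rw [← hgδ, hgrn, mul_smul, hnδ]
  -- a Sylow subgroup of `L`
  have hPL : sylowMap p P ≤ L := sylowMap_le_pElementClosure P
  have hcardP : Nat.card ↥(sylowMap p P) = Nat.card P :=
    Subgroup.card_map_of_injective (Subgroup.subtype_injective _)
  have hcard2 : Nat.card ((sylowMap p P).subgroupOf L) = Nat.card ↥(sylowMap p P) :=
    Nat.card_congr (Subgroup.subgroupOfEquivOfLe hPL).toEquiv
  have hp := (Fact.out : p.Prime)
  have hfact : (Nat.card L).factorization p = (Nat.card H).factorization p := by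
    have hLdvd : Nat.card L ∣ Nat.card H := by
      have : Nat.card (L.subgroupOf H) = Nat.card L :=
        Nat.card_congr (Subgroup.subgroupOfEquivOfLe hLH).toEquiv
      rw [← this]
      exact Subgroup.card_subgroup_dvd_card _
    have hPdvd : Nat.card ((sylowMap p P).subgroupOf L) ∣ Nat.card L := Subgroup.card_subgroup_dvd_card _
    rw [hcard2, hcardP, P.card_eq_multiplicity] at hPdvd
    have h1 := (Nat.factorization_le_iff_dvd Nat.card_pos.ne' Nat.card_pos.ne').2 hLdvd p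
    have h2 := (hp.pow_dvd_iff_le_factorization Nat.card_pos.ne').1 hPdvd
    exact le_antisymm h1 h2
  have hcardT : Nat.card ((sylowMap p P).subgroupOf L) = p ^ (Nat.card L).factorization p := by
    rw [hcard2, hcardP, P.card_eq_multiplicity, hfact]
  let T : Sylow p L := Sylow.ofCard ((sylowMap p P).subgroupOf L) hcardT
  obtain ⟨t, ht, m, hm, hrtm⟩ := exists_sylow_mul_pResidual T (⟨r, hr⟩ : L)
  have ht' : (t : X) ∈ sylowMap p P := by
    have : t ∈ (sylowMap p P).subgroupOf L := by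
      simpa [T, Sylow.coe_ofCard] using ht
    exact this
  have htE : (t : X) ∈ edgeStabilizer lam δ := by
    rw [hP] at ht'
    exact sylowMap_le p R ht'
  have htδ : (t : X) • δ = δ := MulAction.mem_stabilizer_iff.1 htE.2
  -- `r = t m = (t m t⁻¹) t`
  have hnormal := pResidual_normal (G := L) p
  refine ⟨((t * m * t⁻¹ : L) : X), ⟨_, hnormal.conj_mem m hm t, rfl⟩, ?_⟩
  have hrX : r = (t : X) * (m : X) := by
    have := congrArg (fun y : L => (y : X)) hrtm
    simpa using this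
  have : ((t * m * t⁻¹ : L) : X) * (t : X) = r := by
    rw [hrX]
    simp
  rw [← hrδ, ← this, mul_smul, htδ]

section main

variable (h : IsSpeAmalgamPair p M₁ M₂)
include h

/-- `V_λ^{(n)} ≤ V_δ^{(n-1)} [V_λ^{(n)}, O^p(L_λ)]`. -/
theorem iter_le_sup {lam δ : CosetVertex M₁ M₂} (hδ : (cosetGraph M₁ M₂).Adj lam δ) {n : ℕ}
    (hn : 1 ≤ n) :
    vertexVIter p M₁ M₂ n lam ≤ vertexVIter p M₁ M₂ (n - 1) δ ⊔
      ⁅vertexVIter p M₁ M₂ n lam,
        (pResidual p ↥(pElementClosure p (MulAction.stabilizer X lam))).map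
        (pElementClosure p (MulAction.stabilizer X lam)).subtype⁆ := by
  have hc := h.1
  have hconn := connected_of_sup_eq_top hc.1.1
  set V := vertexVIter p M₁ M₂ n lam with hV
  set R := (pResidual p ↥(pElementClosure p (MulAction.stabilizer X lam))).map
        (pElementClosure p (MulAction.stabilizer X lam)).subtype with hR
  have hsub : ∀ ν, (cosetGraph M₁ M₂).Adj lam ν → vertexVIter p M₁ M₂ (n - 1) ν ≤ V := by
    intro ν hν
    refine iter_mono hconn ?_
    rw [SimpleGraph.dist_eq_one_iff_adj.2 hν]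
    omega
  have key : ∀ ν, (cosetGraph M₁ M₂).Adj lam ν →
      vertexVIter p M₁ M₂ (n - 1) ν ≤ vertexVIter p M₁ M₂ (n - 1) δ ⊔ ⁅V, R⁆ := by
    intro ν hν
    obtain ⟨x, hx, hxδ⟩ := residual_transitive h hδ hν
    rw [← hxδ, iter_smul hc]
    rintro _ ⟨v, hv, rfl⟩
    have hvV : v ∈ V := hsub δ hδ hv
    have h1 : ⁅v, x⁆ ∈ ⁅V, R⁆ := Subgroup.commutator_mem_commutator hvV hx
    have h2 : (MulAut.conj x).toMonoidHom v = ⁅v, x⁆⁻¹ * v := by
      simp [commutatorElement_def, mul_assoc]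
    rw [h2]
    exact Subgroup.mul_mem _ (Subgroup.mem_sup_right (Subgroup.inv_mem _ h1)) (Subgroup.mem_sup_left hv)
  refine iSup_le ?_
  rintro ⟨μ, hμ⟩
  by_cases hμl : lam = μ
  · subst hμl
    refine iSup_le fun S => ?_
    -- a Sylow subgroup of `G_λ` lies in some edge stabilizer
    have hfin := finite_stabilizer hc lam
    have hfE : Finite ↥(edgeStabilizer lam δ) :=
      Finite.of_injective (fun x : ↥(edgeStabilizer lam δ) => (⟨x.1, x.2.1⟩ : MulAction.stabilizer X lam))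
        (fun a b hab => Subtype.ext (congrArg (fun y : MulAction.stabilizer X lam => (y : X)) hab))
    have hfin2 := finite_stabilizer hc δ
    obtain ⟨R₀⟩ : Nonempty (Sylow p ↥(edgeStabilizer lam δ)) := inferInstance
    obtain ⟨P, hP⟩ := exists_sylow_vertex hc hδ R₀
    obtain ⟨P', hP'⟩ := exists_sylow_vertex' hc hδ R₀
    obtain ⟨g, hg⟩ := MulAction.exists_smul_eq (MulAction.stabilizer X lam) P S
    have h1 : sylowMap p S = (sylowMap p P').map (MulAut.conj (g : X)).toMonoidHom := by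
      rw [← hg, sylowMap_smul, hP, hP']
    have hν : (cosetGraph M₁ M₂).Adj lam ((g : X) • δ) := by
      have := adj_smul (g : X) hδ
      rwa [MulAction.mem_stabilizer_iff.1 g.2] at this
    refine le_trans ?_ (key _ hν)
    refine le_trans ?_ (vertexZ_le_iter (δ := (g : X) • δ) (μ := (g : X) • δ) (n := n - 1) (by simp))
    change omegaZ p (sylowMap p S) ≤ _
    rw [h1, ← omegaZ_map_conj, vertexZ_smul hc]
    exact Subgroup.map_mono (omegaZ_sylowMap_le P')
  · obtain ⟨ν, hν, hνd⟩ := exists_adj_dist_lt hconn hμl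
    refine le_trans ?_ (key ν hν)
    refine vertexZ_le_iter ?_
    change (cosetGraph M₁ M₂).dist ν μ ≤ n - 1
    have hμ' : (cosetGraph M₁ M₂).dist lam μ ≤ n := hμ
    omega

/-- `V_λ^{(n)} = V_δ^{(n-1)}` cannot happen inside `Q_λ`. -/
theorem iter_ne {lam δ : CosetVertex M₁ M₂} (hδ : (cosetGraph M₁ M₂).Adj lam δ) {n : ℕ}
    (hVQ : vertexVIter p M₁ M₂ n lam ≤ vertexQ p lam)
    (heq : vertexVIter p M₁ M₂ n lam ≤ vertexVIter p M₁ M₂ (n - 1) δ) (hn : 1 ≤ n) : False := by
  have hc := h.1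
  have hconn := connected_of_sup_eq_top hc.1.1
  have hsub : vertexVIter p M₁ M₂ (n - 1) δ ≤ vertexVIter p M₁ M₂ n lam := by
    refine iter_mono hconn ?_
    rw [SimpleGraph.dist_eq_one_iff_adj.2 hδ]
    omega
  have he := le_antisymm heq hsub
  have hbot : vertexVIter p M₁ M₂ n lam = ⊥ := by
    refine eq_bot_of_le_edge hc.1 hδ ?_ (stabilizer_le_normalizer_iter hc n lam) ?_
    · exact le_inf (hVQ.trans (vertexQ_le_vertex lam)) (hVQ.trans (vertexQ_le_stabilizer hc hδ))
    · rw [he]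
      exact stabilizer_le_normalizer_iter hc (n - 1) δ
  exact vertexZ_ne_bot hc lam (le_bot_iff.1 (hbot ▸ vertexZ_le_iter (by simp)))

/-- `S2856`. -/
theorem s2856 (lam : CosetVertex M₁ M₂) (n : ℕ) (hn : 1 ≤ n)
    (hVQ : vertexVIter p M₁ M₂ n lam ≤ vertexQ p lam) :
    ¬ ⁅vertexVIter p M₁ M₂ n lam, ((pResidual p ↥(pElementClosure p (MulAction.stabilizer X lam))).map
        (pElementClosure p (MulAction.stabilizer X lam)).subtype)⁆ ≤
      ⁅vertexVIter p M₁ M₂ n lam, vertexQ p lam⁆ := by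
  intro hcomm
  have hc := h.1
  have hconn := connected_of_sup_eq_top hc.1.1
  have hfin := finite_stabilizer hc lam
  -- `λ` has a neighbour
  obtain ⟨δ, hδ⟩ := exists_adj lam
  have h1 := iter_le_sup h hδ hn
  have hfQ : Finite ↥(vertexQ p lam) :=
    Finite.of_injective (fun x : ↥(vertexQ p lam) => (⟨x.1, vertexQ_le_vertex lam x.2⟩ : MulAction.stabilizer X lam))
      (fun a b hab => Subtype.ext (congrArg (fun y : MulAction.stabilizer X lam => (y : X)) hab))
  have hpQ : IsPGroup p ↥(vertexQ p lam) := (isPGroup_pCore p).map _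
  have hsub : vertexVIter p M₁ M₂ (n - 1) δ ≤ vertexVIter p M₁ M₂ n lam := by
    refine iter_mono hconn ?_
    rw [SimpleGraph.dist_eq_one_iff_adj.2 hδ]
    omega
  refine iter_ne h hδ hVQ ?_ hn
  refine le_of_le_sup_commutator hpQ hVQ hsub ?_ (h1.trans (sup_le_sup_left hcomm _))
  exact (vertexQ_le_stabilizer hc hδ).trans (stabilizer_le_normalizer_iter hc (n - 1) δ)

/-- `S2857`. -/
theorem s2857 (lam : CosetVertex M₁ M₂) (n : ℕ) (hn : 2 ≤ n)
    (hVQ : vertexVIter p M₁ M₂ n lam ≤ vertexQ p lam) :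
    ¬ ⁅vertexVIter p M₁ M₂ n lam, ((pResidual p ↥(pElementClosure p (MulAction.stabilizer X lam))).map
        (pElementClosure p (MulAction.stabilizer X lam)).subtype)⁆ ≤
      vertexVIter p M₁ M₂ (n - 2) lam := by
  intro hcomm
  have hc := h.1
  have hconn := connected_of_sup_eq_top hc.1.1
  obtain ⟨δ, hδ⟩ := exists_adj lam
  have h1 := iter_le_sup h hδ (show 1 ≤ n by omega)
  have h2 : vertexVIter p M₁ M₂ (n - 2) lam ≤ vertexVIter p M₁ M₂ (n - 1) δ := by
    refine iter_mono hconn ?_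
    rw [SimpleGraph.dist_comm, SimpleGraph.dist_eq_one_iff_adj.2 hδ]
    omega
  refine iter_ne h hδ hVQ ?_ (by omega)
  exact h1.trans (sup_le le_rfl (hcomm.trans h2))

end main

end Cfsg.Agent.Lib.AmalgamIter
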