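/-
StableSet: finite `Γ`-sets, their marks (fixed point counts), Burnside's theorem (equal marks imply isomorphic),
a congruence for marks, and the construction of a `Γ`-set with stabilizers in a given family and with
marks constant on the classes of a given relation (the abstract core of the Broto-Levi-Oliver characteristic biset).
-/
import Mathlib

set_option autoImplicit false

namespace Cfsg.Agent.Lib.StableSet

universe u v

open MulAction Subgroup

section Basic

variable {Γ : Type u} [Group Γ]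

/-- The points fixed by `V`. -/
def fixSet (X : Type v) [MulAction Γ X] (V : Subgroup Γ) : Set X := {x | ∀ v ∈ V, v • x = x}

lemma mem_fixSet {X : Type v} [MulAction Γ X] {V : Subgroup Γ} {x : X} :
    x ∈ fixSet X V ↔ ∀ v ∈ V, v • x = x := Iff.rfl

lemma mem_fixSet_iff_le {X : Type v} [MulAction Γ X] {V : Subgroup Γ} {x : X} :
    x ∈ fixSet X V ↔ V ≤ stabilizer Γ x :=
  ⟨fun h v hv => h v hv, fun h v hv => h hv⟩

/-- The mark of `V`. -/
noncomputable def mark (X : Type v) [MulAction Γ X] (V : Subgroup Γ) : ℕ := Nat.card (fixSet X V)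

lemma mark_eq_zero_of {X : Type v} [MulAction Γ X] {V : Subgroup Γ} (h : ∀ x : X, ¬ V ≤ stabilizer Γ x) :
    mark X V = 0 := by
  have : IsEmpty (fixSet X V) := ⟨fun x => h x.1 (mem_fixSet_iff_le.1 x.2)⟩
  simp [mark]

lemma mark_pos {X : Type v} [Finite X] [MulAction Γ X] {V : Subgroup Γ} {x : X} (h : V ≤ stabilizer Γ x) :
    0 < mark X V := by
  have : Nonempty (fixSet X V) := ⟨⟨x, mem_fixSet_iff_le.2 h⟩⟩
  exact Nat.card_pos

/-- Conjugate of a subgroup. -/
abbrev cj (g : Γ) (V : Subgroup Γ) : Subgroup Γ := V.map (MulAut.conj g).toMonoidHom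

lemma mem_cj {g : Γ} {V : Subgroup Γ} {x : Γ} : x ∈ cj g V ↔ g⁻¹ * x * g ∈ V := by
  constructor
  · rintro ⟨y, hy, rfl⟩
    simpa [mul_assoc] using hy
  · intro h
    exact ⟨_, h, by simp [mul_assoc]⟩

lemma mark_cj (X : Type v) [MulAction Γ X] (g : Γ) (V : Subgroup Γ) : mark X (cj g V) = mark X V := by
  refine Nat.card_congr
    { toFun := fun x => ⟨g⁻¹ • x.1, ?_⟩
      invFun := fun x => ⟨g • x.1, ?_⟩
      left_inv := fun x => by simp
      right_inv := fun x => by simp }
  · intro v hv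
    have := x.2 (g * v * g⁻¹) ⟨v, hv, by simp⟩
    calc v • g⁻¹ • x.1 = g⁻¹ • ((g * v * g⁻¹) • x.1) := by simp [mul_smul]
      _ = g⁻¹ • x.1 := by rw [this]
  · intro v hv
    obtain ⟨w, hw, rfl⟩ := hv
    have := x.2 w hw
    simp only [MulEquiv.coe_toMonoidHom, MulAut.conj_apply]
    calc (g * w * g⁻¹) • g • x.1 = g • (w • x.1) := by simp [mul_smul]
      _ = g • x.1 := by rw [this]

lemma mark_sum (X Y : Type v) [Finite X] [Finite Y] [MulAction Γ X] [MulAction Γ Y] (V : Subgroup Γ) :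
    mark (X ⊕ Y) V = mark X V + mark Y V := by
  have e : fixSet (X ⊕ Y) V ≃ fixSet X V ⊕ fixSet Y V :=
    { toFun := fun x => match x with
        | ⟨Sum.inl a, h⟩ => Sum.inl ⟨a, fun v hv => by
            have := h v hv
            simpa using this⟩
        | ⟨Sum.inr b, h⟩ => Sum.inr ⟨b, fun v hv => by
            have := h v hv
            simpa using this⟩
      invFun := fun x => match x with
        | Sum.inl a => ⟨Sum.inl a.1, fun v hv => by
            simpa using a.2 v hv⟩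
        | Sum.inr b => ⟨Sum.inr b.1, fun v hv => by
            simpa using b.2 v hv⟩
      left_inv := by rintro ⟨a | b, h⟩ <;> rfl
      right_inv := by rintro (a | b) <;> rfl }
  rw [mark, Nat.card_congr e, Nat.card_sum, mark, mark]

/-- Stabilizers in the sum. -/
lemma stabilizer_inl {X Y : Type v} [MulAction Γ X] [MulAction Γ Y] (x : X) :
    stabilizer Γ (Sum.inl x : X ⊕ Y) = stabilizer Γ x := by
  ext g
  simp [mem_stabilizer_iff]

lemma stabilizer_inr {X Y : Type v} [MulAction Γ X] [MulAction Γ Y] (x : Y) :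
    stabilizer Γ (Sum.inr x : X ⊕ Y) = stabilizer Γ x := by
  ext g
  simp [mem_stabilizer_iff]

/-! ### Marks of an orbit `Γ ⧸ U` -/

lemma stabilizer_mk (U : Subgroup Γ) (g : Γ) :
    stabilizer Γ ((g : Γ ⧸ U)) = cj g U := by
  ext x
  rw [mem_cj, mem_stabilizer_iff, MulAction.Quotient.smul_mk, smul_eq_mul, QuotientGroup.eq]
  constructor
  · intro h
    have := U.inv_mem h
    simpa [mul_assoc] using this
  · intro h
    have := U.inv_mem h
    simpa [mul_assoc] using this

lemma stabilizer_quot (U : Subgroup Γ) (q : Γ ⧸ U) : ∃ g, stabilizer Γ q = cj g U := by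
  obtain ⟨g, rfl⟩ := QuotientGroup.mk_surjective q
  exact ⟨g, stabilizer_mk U g⟩

/-- The "Weyl index" `|N(U) : U|`. -/
noncomputable def wi (U : Subgroup Γ) : ℕ := (U.subgroupOf (normalizer (U : Set Γ))).index

lemma mark_quot_self [Finite Γ] (U : Subgroup Γ) : mark (Γ ⧸ U) U = wi U := by
  have e : fixSet (Γ ⧸ U) U ≃ MulAction.fixedPoints U (Γ ⧸ U) :=
    Equiv.subtypeEquivRight (fun x => by
      simp only [fixSet, Set.mem_ofPred_eq, MulAction.mem_fixedPoints, Subtype.forall]
      rfl)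
  rw [mark, Nat.card_congr e, Nat.card_congr (Sylow.fixedPointsMulLeftCosetsEquivQuotient U), wi,
    Subgroup.index]
  rfl

lemma mark_quot_eq_zero [Finite Γ] (U V : Subgroup Γ) (h : ∀ g, ¬ V ≤ cj g U) : mark (Γ ⧸ U) V = 0 := by
  apply mark_eq_zero_of
  intro x hx
  obtain ⟨g, hg⟩ := stabilizer_quot U x
  exact h g (hg ▸ hx)

lemma wi_pos [Finite Γ] (U : Subgroup Γ) : 0 < wi U := Nat.pos_of_ne_zero (Subgroup.index_ne_zero_of_finite)

lemma card_cj (g : Γ) (V : Subgroup Γ) : Nat.card (cj g V) = Nat.card V :=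
  Nat.card_congr ((MulAut.conj g).subgroupMap V).toEquiv.symm

/-- If `V` has at least the order of `U` and `mark (Γ ⧸ U) V ≠ 0`, then `V` is conjugate to `U`. -/
lemma eq_cj_of_mark_ne_zero [Finite Γ] {U V : Subgroup Γ} (hc : Nat.card U ≤ Nat.card V)
    (h : mark (Γ ⧸ U) V ≠ 0) : ∃ g, V = cj g U := by
  by_contra hne
  apply h
  apply mark_quot_eq_zero
  intro g hg
  apply hne
  refine ⟨g, Subgroup.eq_of_le_of_card_ge hg ?_⟩
  rw [card_cj]
  exact hc

end Basic

/-! ### Burnside's theorem -/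

section Burnside

variable {H : Type u} [Group H] [Finite H]

/-- The complement of an orbit, as an `H`-set. -/
abbrev OrbC (H : Type u) [Group H] {X : Type v} [MulAction H X] (x : X) : Type v := ↥(orbit H x)ᶜ

omit [Finite H] in
lemma smul_mem_orbit_iff' {X : Type v} [MulAction H X] (g : H) (a x : X) :
    g • a ∈ orbit H x ↔ a ∈ orbit H x := by
  constructor
  · rintro ⟨k, hk⟩
    refine ⟨g⁻¹ * k, ?_⟩
    have hk' : k • x = g • a := hk
    show (g⁻¹ * k) • x = a
    rw [mul_smul, hk', inv_smul_smul]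
  · rintro ⟨k, hk⟩
    refine ⟨g * k, ?_⟩
    have hk' : k • x = a := hk
    show (g * k) • x = g • a
    rw [mul_smul, hk']

instance {X : Type v} [MulAction H X] (x : X) : MulAction H (OrbC H x) where
  smul g a := ⟨g • a.1, fun h => a.2 ((smul_mem_orbit_iff' g a.1 x).1 h)⟩
  one_smul a := Subtype.ext (one_smul _ _)
  mul_smul g g' a := Subtype.ext (mul_smul _ _ _)

omit [Finite H] in
lemma OrbC.coe_smul {X : Type v} [MulAction H X] (x : X) (g : H) (a : OrbC H x) :
    ((g • a : OrbC H x) : X) = g • (a : X) := rfl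

lemma mark_bot (X : Type v) [MulAction H X] : mark X (⊥ : Subgroup H) = Nat.card X := by
  refine Nat.card_congr (Equiv.subtypeUnivEquiv ?_)
  intro x v hv
  rw [Subgroup.mem_bot.1 hv, one_smul]

lemma mark_split {X : Type v} [Finite X] [MulAction H X] (x : X) (U : Subgroup H) :
    mark X U = Nat.card {a : orbit H x // ∀ u ∈ U, u • (a : X) = a} + mark (OrbC H x) U := by
  classical
  have e : fixSet X U ≃ {a : orbit H x // ∀ u ∈ U, u • (a : X) = a} ⊕ fixSet (OrbC H x) U :=
    { toFun := fun a => if h : a.1 ∈ orbit H x then Sum.inl ⟨⟨a.1, h⟩, a.2⟩ else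
        Sum.inr ⟨⟨a.1, h⟩, fun u hu => Subtype.ext (a.2 u hu)⟩
      invFun := fun a => match a with
        | Sum.inl b => ⟨b.1.1, b.2⟩
        | Sum.inr b => ⟨b.1.1, fun u hu => congrArg Subtype.val (b.2 u hu)⟩
      left_inv := fun a => by
        by_cases h : a.1 ∈ orbit H x <;> simp [h]
      right_inv := fun a => by
        rcases a with ⟨⟨b, hb⟩, hb'⟩ | ⟨⟨b, hb⟩, hb'⟩
        · simp [hb]
        · have : b ∉ orbit H x := hb
          simp [this] }
  rw [mark, Nat.card_congr e, Nat.card_sum, mark]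

/-- **Burnside**: finite `H`-sets with the same marks are isomorphic. -/
theorem burnside (X Y : Type v) [Finite X] [Finite Y] [MulAction H X] [MulAction H Y]
    (h : ∀ V : Subgroup H, mark X V = mark Y V) :
    ∃ e : X ≃ Y, ∀ (g : H) (x : X), e (g • x) = g • e x := by
  classical
  induction' hn : Nat.card X using Nat.strong_induction_on with n ih generalizing X Y
  by_cases hX : IsEmpty X
  · have hc : Nat.card Y = 0 := by
      rw [← mark_bot (H := H) Y, ← h, mark_bot]
      simp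
    haveI : IsEmpty Y := (Finite.card_eq_zero_iff).1 hc
    exact ⟨Equiv.equivOfIsEmpty _ _, fun g x => (hX.false x).elim⟩
  rw [not_isEmpty_iff] at hX
  obtain ⟨x, hx⟩ := Finite.exists_max (fun x : X => Nat.card (stabilizer H x))
  have h1 : 0 < mark Y (stabilizer H x) := by
    rw [← h]; exact mark_pos (x := x) le_rfl
  obtain ⟨⟨y, hy⟩⟩ : Nonempty (fixSet Y (stabilizer H x)) := (Nat.card_pos_iff.1 h1).1
  have hxy : stabilizer H x ≤ stabilizer H y := mem_fixSet_iff_le.1 hy
  have h2 : 0 < mark X (stabilizer H y) := by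
    rw [h]; exact mark_pos (x := y) le_rfl
  obtain ⟨⟨x', hx'⟩⟩ : Nonempty (fixSet X (stabilizer H y)) := (Nat.card_pos_iff.1 h2).1
  have hyx' : stabilizer H y ≤ stabilizer H x' := mem_fixSet_iff_le.1 hx'
  have hVW : stabilizer H x = stabilizer H y :=
    Subgroup.eq_of_le_of_card_ge hxy ((Subgroup.card_le_of_le hyx').trans (hx x'))
  -- the orbit equivalence
  let e₀ : orbit H x ≃ orbit H y :=
    (orbitEquivQuotientStabilizer H x).trans
      ((Subgroup.quotientEquivOfEq hVW).trans (orbitEquivQuotientStabilizer H y).symm)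
  have he₀ : ∀ (g : H), (e₀ ⟨g • x, mem_orbit x g⟩ : Y) = g • y := by
    intro g
    have h3 : (⟨g • x, mem_orbit x g⟩ : orbit H x) = (orbitEquivQuotientStabilizer H x).symm (g : H ⧸ _) :=
      Subtype.ext (orbitEquivQuotientStabilizer_symm_apply H x g).symm
    rw [h3]
    simp only [e₀, Equiv.trans_apply, Equiv.apply_symm_apply]
    exact orbitEquivQuotientStabilizer_symm_apply H y g
  have he₀' : ∀ (a : orbit H x) (g : H), (e₀ ⟨g • (a : X), (smul_mem_orbit_iff' g a.1 x).2 a.2⟩ : Y) =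
      g • (e₀ a : Y) := by
    rintro ⟨_, k, rfl⟩ g
    have h4 := he₀ (g * k)
    have h5 := he₀ k
    simp only [mul_smul] at h4
    show (e₀ ⟨g • k • x, _⟩ : Y) = g • (e₀ ⟨k • x, _⟩ : Y)
    rw [h5, h4]
  have he₀'' : ∀ (b : orbit H y) (g : H), (e₀.symm ⟨g • (b : Y), (smul_mem_orbit_iff' g b.1 y).2 b.2⟩ : X) =
      g • (e₀.symm b : X) := by
    intro b g
    have := he₀' (e₀.symm b) g
    simp only [Equiv.apply_symm_apply] at this
    have h0 : e₀ ⟨g • ((e₀.symm b : orbit H x) : X), (smul_mem_orbit_iff' g _ x).2 (e₀.symm b).2⟩ =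
        ⟨g • (b : Y), (smul_mem_orbit_iff' g b.1 y).2 b.2⟩ := Subtype.ext this
    rw [← h0, Equiv.symm_apply_apply]
  -- the marks of the complements agree
  have hm : ∀ U : Subgroup H, mark (OrbC H x) U = mark (OrbC H y) U := by
    intro U
    have h6 := mark_split (H := H) x U
    have h7 := mark_split (H := H) y U
    have h8 : Nat.card {a : orbit H x // ∀ u ∈ U, u • (a : X) = a} =
        Nat.card {a : orbit H y // ∀ u ∈ U, u • (a : Y) = a} := by
      refine Nat.card_congr (e₀.subtypeEquiv ?_)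
      intro a
      constructor
      · intro ha u hu
        have := he₀' a u
        rw [← this]
        congr 2
        exact Subtype.ext (ha u hu)
      · intro ha u hu
        have := he₀'' (e₀ a) u
        simp only [Equiv.symm_apply_apply] at this
        rw [← this]
        have h9 : (⟨u • ((e₀ a : orbit H y) : Y), (smul_mem_orbit_iff' u _ y).2 (e₀ a).2⟩ : orbit H y) = e₀ a :=
          Subtype.ext (ha u hu)
        rw [h9]
        simp
    have h10 := h U
    omega
  have hlt : Nat.card (OrbC H x) < n := by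
    rw [← hn]
    exact Finite.card_subtype_lt (x := x) (fun h => h (mem_orbit_self x))
  obtain ⟨e₁, he₁⟩ := ih _ hlt (OrbC H x) (OrbC H y) hm rfl
  refine ⟨(Equiv.Set.sumCompl (orbit H x)).symm.trans
    ((Equiv.sumCongr e₀ e₁).trans (Equiv.Set.sumCompl (orbit H y))), ?_⟩
  intro g a
  by_cases ha : a ∈ orbit H x
  · have hga : g • a ∈ orbit H x := (smul_mem_orbit_iff' g a x).2 ha
    simp only [Equiv.trans_apply, Equiv.Set.sumCompl_symm_apply_of_mem ha,
      Equiv.Set.sumCompl_symm_apply_of_mem hga, Equiv.sumCongr_apply, Sum.map_inl,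
      Equiv.Set.sumCompl_apply_inl]
    exact he₀' ⟨a, ha⟩ g
  · have hga : g • a ∉ orbit H x := fun h => ha ((smul_mem_orbit_iff' g a x).1 h)
    simp only [Equiv.trans_apply, Equiv.Set.sumCompl_symm_apply_of_notMem ha,
      Equiv.Set.sumCompl_symm_apply_of_notMem hga, Equiv.sumCongr_apply, Sum.map_inr,
      Equiv.Set.sumCompl_apply_inr]
    have := he₁ g ⟨a, ha⟩
    exact congrArg Subtype.val this

end Burnside

/-! ### The congruence for marks -/

section Cong

variable {W : Type u} [Group W]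

/-- Number of points with stabilizer exactly `V`. -/
noncomputable def cnt (A : Type v) [MulAction W A] (V : Subgroup W) : ℕ :=
  Nat.card {a : A // stabilizer W a = V}

lemma card_stab_mem [Finite W] {A : Type v} [Finite A] [MulAction W A] (T : Finset (Subgroup W)) :
    Nat.card {a : A // stabilizer W a ∈ T} = ∑ V ∈ T, cnt A V := by
  classical
  induction T using Finset.induction_on with
  | empty => simp
  | insert V T hV ih =>
    rw [Finset.sum_insert hV, ← ih, cnt, ← Nat.card_sum]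
    refine Nat.card_congr
      { toFun := fun a => if h : stabilizer W a.1 = V then Sum.inl ⟨a.1, h⟩ else
          Sum.inr ⟨a.1, (Finset.mem_insert.1 a.2).resolve_left h⟩
        invFun := fun a => match a with
          | Sum.inl b => ⟨b.1, Finset.mem_insert.2 (Or.inl b.2)⟩
          | Sum.inr b => ⟨b.1, Finset.mem_insert.2 (Or.inr b.2)⟩
        left_inv := fun a => by
          by_cases h : stabilizer W a.1 = V <;> simp [h]
        right_inv := fun a => by
          rcases a with ⟨b, hb⟩ | ⟨b, hb⟩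
          · simp [hb]
          · have : stabilizer W b ≠ V := fun h => hV (h ▸ hb)
            simp [this] }

lemma mark_eq_sum [Finite W] {A : Type v} [Finite A] [MulAction W A] (V : Subgroup W)
    (T : Finset (Subgroup W)) (hT : ∀ V', V' ∈ T ↔ V ≤ V') :
    mark A V = ∑ V' ∈ T, cnt A V' := by
  rw [← card_stab_mem]
  exact Nat.card_congr (Equiv.subtypeEquivRight (fun a => by
    rw [hT, ← mem_fixSet_iff_le]))

/-- The counts agree above `K`. -/
lemma cnt_eq [Finite W] (A B : Type v) [Finite A] [Finite B] [MulAction W A] [MulAction W B]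
    (K : Subgroup W) (h : ∀ V : Subgroup W, K < V → mark A V = mark B V) :
    ∀ (n : ℕ) (V : Subgroup W), K < V → Nat.card W - Nat.card V = n → cnt A V = cnt B V := by
  classical
  haveI := Fintype.ofFinite (Subgroup W)
  intro n
  induction n using Nat.strong_induction_on with
  | _ n ih =>
    intro V hV hn
    let T : Finset (Subgroup W) := Finset.univ.filter (fun V' => V ≤ V')
    have hT : ∀ V', V' ∈ T ↔ V ≤ V' := by
      intro V'; simp [T]
    have h1 := mark_eq_sum (A := A) V T hT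
    have h2 := mark_eq_sum (A := B) V T hT
    have hV' : V ∈ T := (hT V).2 le_rfl
    rw [← Finset.add_sum_erase T _ hV'] at h1 h2
    have h3 : ∑ V' ∈ T.erase V, cnt A V' = ∑ V' ∈ T.erase V, cnt B V' := by
      apply Finset.sum_congr rfl
      intro V' hV''
      have h4 : V < V' := lt_of_le_of_ne ((hT V').1 (Finset.mem_of_mem_erase hV''))
        (Finset.ne_of_mem_erase hV'').symm
      have h5 : Nat.card V < Nat.card V' := by
        have := Subgroup.card_le_of_le h4.le
        refine lt_of_le_of_ne this (fun he => h4.ne ?_)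
        exact Subgroup.eq_of_le_of_card_ge h4.le he.ge
      have h6 : Nat.card V' ≤ Nat.card W := Subgroup.card_le_card_group V'
      exact ih _ (by omega) V' (hV.trans h4) rfl
    have h7 := h V hV
    omega

/-- Points with stabilizer exactly the normal subgroup `K`: their number is divisible by `|W : K|`. -/
lemma index_dvd_cnt [Finite W] (A : Type v) [Finite A] [MulAction W A] (K : Subgroup W) [K.Normal] :
    K.index ∣ cnt A K := by
  classical
  have hst : ∀ (g : W) (a : A), stabilizer W a = K → stabilizer W (g • a) = K := by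
    intro g a ha
    rw [stabilizer_smul_eq_stabilizer_map_conj, ha]
    ext x
    change x ∈ cj g K ↔ x ∈ K
    rw [mem_cj]
    constructor
    · intro h
      have := (inferInstance : K.Normal).conj_mem _ h g
      simpa [mul_assoc] using this
    · intro h
      have := (inferInstance : K.Normal).conj_mem _ h g⁻¹
      simpa [mul_assoc] using this
  let T := {a : A // stabilizer W a = K}
  letI : MulAction W T :=
    { smul := fun g a => ⟨g • a.1, hst g a.1 a.2⟩
      one_smul := fun a => Subtype.ext (one_smul _ _)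
      mul_smul := fun g g' a => Subtype.ext (mul_smul _ _ _) }
  have hcoe : ∀ (g : W) (a : T), ((g • a : T) : A) = g • (a : A) := fun _ _ => rfl
  rw [cnt]
  change K.index ∣ Nat.card T
  haveI : Fintype (orbitRel.Quotient W T) := Fintype.ofFinite _
  rw [Nat.card_congr (selfEquivSigmaOrbits W T), Nat.card_sigma]
  apply Finset.dvd_sum
  intro ω _
  have h1 : stabilizer W (Quotient.out ω : T) = K := by
    rw [← (Quotient.out ω : T).2]
    ext g
    simp only [mem_stabilizer_iff]
    exact ⟨fun h => congrArg Subtype.val h, fun h => Subtype.ext h⟩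
  rw [← h1, index_stabilizer, Nat.card_coe_set_eq]


/-- **The congruence** for `W`-sets on which the normal subgroup `K` acts trivially, with the same marks above `K`. -/
theorem index_dvd_card_sub [Finite W] (K : Subgroup W) [K.Normal]
    (A B : Type v) [Finite A] [Finite B] [MulAction W A] [MulAction W B]
    (hA : ∀ k ∈ K, ∀ a : A, k • a = a) (hB : ∀ k ∈ K, ∀ b : B, k • b = b)
    (h : ∀ V : Subgroup W, K < V → mark A V = mark B V) :
    ((K.index : ℕ) : ℤ) ∣ (Nat.card A : ℤ) - Nat.card B := by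
  classical
  haveI := Fintype.ofFinite (Subgroup W)
  let T : Finset (Subgroup W) := Finset.univ.filter (fun V' => K ≤ V')
  have hT : ∀ V', V' ∈ T ↔ K ≤ V' := by
    intro V'; simp [T]
  have hmA : mark A K = Nat.card A :=
    Nat.card_congr (Equiv.subtypeUnivEquiv (fun a v hv => hA v hv a))
  have hmB : mark B K = Nat.card B :=
    Nat.card_congr (Equiv.subtypeUnivEquiv (fun a v hv => hB v hv a))
  have h1 := mark_eq_sum (A := A) K T hT
  have h2 := mark_eq_sum (A := B) K T hT
  have hK : K ∈ T := (hT K).2 le_rfl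
  rw [← Finset.add_sum_erase T _ hK] at h1 h2
  have h3 : ∑ V' ∈ T.erase K, cnt A V' = ∑ V' ∈ T.erase K, cnt B V' := by
    apply Finset.sum_congr rfl
    intro V' hV''
    have h4 : K < V' := lt_of_le_of_ne ((hT V').1 (Finset.mem_of_mem_erase hV''))
      (Finset.ne_of_mem_erase hV'').symm
    exact cnt_eq A B K h _ V' h4 rfl
  have h5 : (Nat.card A : ℤ) - Nat.card B = (cnt A K : ℤ) - cnt B K := by
    rw [← hmA, ← hmB, h1, h2, h3]
    push_cast
    ring
  rw [h5]
  apply dvd_sub
  · exact_mod_cast index_dvd_cnt A K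
  · exact_mod_cast index_dvd_cnt B K

end Cong

/-! ### Marks in a group: the congruence -/

section Cong2

variable {Γ : Type u} [Group Γ] [Finite Γ]

/-- The congruence: an injective homomorphism `j` from `N(U)` taking `U` to `U₀`, preserving the marks of all subgroups
of `N(U)` properly containing `U`. -/
theorem wi_dvd_mark_sub (X : Type v) [Finite X] [MulAction Γ X] (U U₀ : Subgroup Γ)
    (j : normalizer (U : Set Γ) →* Γ) (hU : (U.subgroupOf (normalizer (U : Set Γ))).map j = U₀)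
    (h : ∀ T : Subgroup (normalizer (U : Set Γ)), U.subgroupOf (normalizer (U : Set Γ)) < T →
      mark X (T.map (normalizer (U : Set Γ)).subtype) = mark X (T.map j)) :
    ((wi U : ℕ) : ℤ) ∣ (mark X U : ℤ) - mark X U₀ := by
  classical
  let W := normalizer (U : Set Γ)
  let K : Subgroup W := U.subgroupOf W
  haveI hKn : K.Normal := Subgroup.normal_in_normalizer
  have hWU : ∀ (n : W), ∀ u ∈ U, (n : Γ)⁻¹ * u * n ∈ U := by
    intro n u hu
    have := (Subgroup.mem_normalizer_iff'' (H := U) (g := (n : Γ))).1 n.2 u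
    exact this.1 hu
  letI iA : MulAction W (fixSet X U) :=
    { smul := fun n a => ⟨(n : Γ) • a.1, fun u hu => by
        have := a.2 _ (hWU n u hu)
        calc u • (n : Γ) • a.1 = (n : Γ) • (((n : Γ)⁻¹ * u * n) • a.1) := by simp [mul_smul]
          _ = (n : Γ) • a.1 := by rw [this]⟩
      one_smul := fun a => Subtype.ext (one_smul Γ _)
      mul_smul := fun g g' a => Subtype.ext (mul_smul (g : Γ) g' _) }
  have hj0 : ∀ u₀ ∈ U₀, ∃ k : W, k ∈ K ∧ j k = u₀ := by
    intro u₀ hu₀
    rw [← hU] at hu₀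
    obtain ⟨k, hk, rfl⟩ := hu₀
    exact ⟨k, hk, rfl⟩
  letI iB : MulAction W (fixSet X U₀) :=
    { smul := fun n a => ⟨j n • a.1, fun u hu => by
        obtain ⟨k, hk, rfl⟩ := hj0 u hu
        have h1 : (n⁻¹ * k * n : W) ∈ K := by
          have := hKn.conj_mem k hk n⁻¹
          simpa using this
        have h2 : j (n⁻¹ * k * n) ∈ U₀ := by
          rw [← hU]; exact ⟨_, h1, rfl⟩
        have := a.2 _ h2
        simp only [map_mul, map_inv] at this
        calc j k • j n • a.1 = j n • (((j n)⁻¹ * j k * j n) • a.1) := by simp [mul_smul]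
          _ = j n • a.1 := by rw [this]⟩
      one_smul := fun a => Subtype.ext (by
        show j 1 • a.1 = a.1
        rw [map_one, one_smul])
      mul_smul := fun g g' a => Subtype.ext (by
        show j (g * g') • a.1 = j g • j g' • a.1
        rw [map_mul, mul_smul]) }
  have hcA : ∀ (n : W) (a : fixSet X U), ((n • a : fixSet X U) : X) = (n : Γ) • (a : X) := fun _ _ => rfl
  have hcB : ∀ (n : W) (a : fixSet X U₀), ((n • a : fixSet X U₀) : X) = j n • (a : X) := fun _ _ => rfl
  have key := index_dvd_card_sub K (fixSet X U) (fixSet X U₀)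
    (fun k hk a => Subtype.ext (a.2 _ hk))
    (fun k hk b => Subtype.ext (b.2 _ (by rw [← hU]; exact ⟨k, hk, rfl⟩)))
    (by
      intro T hT
      have h3 := h T hT
      have hA : mark (fixSet X U) T = mark X (T.map (normalizer (U : Set Γ)).subtype) := by
        refine Nat.card_congr
          { toFun := fun a => ⟨a.1.1, ?_⟩
            invFun := fun a => ⟨⟨a.1, ?_⟩, ?_⟩
            left_inv := fun a => rfl
            right_inv := fun a => rfl }
        · rintro _ ⟨t, ht, rfl⟩
          exact congrArg Subtype.val (a.2 t ht)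
        · intro u hu
          have hu' : (⟨u, Subgroup.le_normalizer hu⟩ : W) ∈ K := hu
          exact a.2 _ ⟨_, hT.le hu', rfl⟩
        · intro t ht
          exact Subtype.ext (a.2 _ ⟨t, ht, rfl⟩)
      have hB : mark (fixSet X U₀) T = mark X (T.map j) := by
        refine Nat.card_congr
          { toFun := fun a => ⟨a.1.1, ?_⟩
            invFun := fun a => ⟨⟨a.1, ?_⟩, ?_⟩
            left_inv := fun a => rfl
            right_inv := fun a => rfl }
        · rintro _ ⟨t, ht, rfl⟩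
          exact congrArg Subtype.val (a.2 t ht)
        · intro u hu
          obtain ⟨k, hk, rfl⟩ := hj0 u hu
          exact a.2 _ ⟨_, hT.le hk, rfl⟩
        · intro t ht
          exact Subtype.ext (a.2 _ ⟨t, ht, rfl⟩)
      rw [hA, hB, h3])
  exact key

lemma wi_dvd_wi (U U₀ : Subgroup Γ) (j : normalizer (U : Set Γ) →* Γ) (hj : Function.Injective j)
    (hU : (U.subgroupOf (normalizer (U : Set Γ))).map j = U₀) : wi U ∣ wi U₀ := by
  classical
  let W := normalizer (U : Set Γ)
  have hKn : (U.subgroupOf W).Normal := Subgroup.normal_in_normalizer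
  have hr : j.range ≤ normalizer (U₀ : Set Γ) := by
    rintro _ ⟨n, rfl⟩
    rw [Subgroup.mem_normalizer_iff'']
    intro x
    constructor
    · intro hx
      rw [← hU] at hx
      obtain ⟨k, hk, rfl⟩ := hx
      have h1 : (n⁻¹ * k * n : W) ∈ U.subgroupOf W := by
        have := hKn.conj_mem k hk n⁻¹
        simpa using this
      rw [← hU]
      exact ⟨_, h1, by simp⟩
    · intro hx
      rw [← hU] at hx
      obtain ⟨k, hk, hk'⟩ := hx
      have h1 : (n * k * n⁻¹ : W) ∈ U.subgroupOf W := hKn.conj_mem k hk n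
      rw [← hU]
      refine ⟨_, h1, ?_⟩
      simp only [map_mul, map_inv, hk']
      group
  have hcW : Nat.card j.range = Nat.card W := Nat.card_congr (MonoidHom.ofInjective hj).toEquiv.symm
  have hc0 : Nat.card U₀ = Nat.card U := by
    rw [← hU, ← Nat.card_congr (Subgroup.equivMapOfInjective _ j hj).toEquiv]
    exact Nat.card_congr (Subgroup.subgroupOfEquivOfLe Subgroup.le_normalizer).toEquiv
  have h1 : Nat.card W ∣ Nat.card (normalizer (U₀ : Set Γ)) := by
    rw [← hcW]
    exact Subgroup.card_dvd_of_le hr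
  have h2 : wi U * Nat.card U = Nat.card W := by
    have := Subgroup.card_mul_index (U.subgroupOf W)
    rw [Nat.card_congr (Subgroup.subgroupOfEquivOfLe Subgroup.le_normalizer).toEquiv] at this
    rw [wi, mul_comm]
    exact this
  have h3 : wi U₀ * Nat.card U₀ = Nat.card (normalizer (U₀ : Set Γ)) := by
    have := Subgroup.card_mul_index (U₀.subgroupOf (normalizer (U₀ : Set Γ)))
    rw [Nat.card_congr (Subgroup.subgroupOfEquivOfLe Subgroup.le_normalizer).toEquiv] at this
    rw [wi, mul_comm]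
    exact this
  have h4 : 0 < Nat.card U := Nat.card_pos
  rw [← h2, ← h3, hc0] at h1
  exact Nat.dvd_of_mul_dvd_mul_right h4 h1

end Cong2

/-! ### The stable set -/

section Stable

variable {Γ : Type u} [Group Γ] [Finite Γ]

lemma exists_add (X : Type u) [Finite X] [MulAction Γ X] (U : Subgroup Γ) (d : ℕ) :
    ∃ (X' : Type u) (_ : Finite X') (_ : MulAction Γ X'),
      (∀ V : Subgroup Γ, mark X' V = mark X V + d * mark (Γ ⧸ U) V) ∧
      (∀ x' : X', (∃ x : X, stabilizer Γ x' = stabilizer Γ x) ∨ ∃ g, stabilizer Γ x' = cj g U) ∧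
      Nat.card X' = Nat.card X + d * U.index := by
  induction d with
  | zero =>
    exact ⟨X, inferInstance, inferInstance, by simp, fun x => Or.inl ⟨x, rfl⟩, by simp⟩
  | succ d ih =>
    obtain ⟨X', i1, i2, h1, h2, h3⟩ := ih
    refine ⟨X' ⊕ (Γ ⧸ U), inferInstance, inferInstance, ?_, ?_, ?_⟩
    · intro V
      rw [mark_sum, h1]
      ring
    · rintro (x | q)
      · rw [stabilizer_inl]
        exact h2 x
      · rw [stabilizer_inr]
        exact Or.inr (stabilizer_quot U q)
    · rw [Nat.card_sum, h3, Subgroup.index]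
      ring

/-- The key property relating `U` to the class representative `U₀`. -/
def Key (𝒢 : Set (Subgroup Γ)) (r : Subgroup Γ → Subgroup Γ → Prop) (U U₀ : Subgroup Γ) : Prop :=
  ∃ j : normalizer (U : Set Γ) →* Γ, Function.Injective j ∧
    (U.subgroupOf (normalizer (U : Set Γ))).map j = U₀ ∧
    ∀ T : Subgroup (normalizer (U : Set Γ)), U.subgroupOf (normalizer (U : Set Γ)) < T →
      (T.map (normalizer (U : Set Γ)).subtype ∈ 𝒢 ↔ T.map j ∈ 𝒢) ∧
      (T.map (normalizer (U : Set Γ)).subtype ∈ 𝒢 → r (T.map (normalizer (U : Set Γ)).subtype) (T.map j))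

/-- The data of a family with a relation. -/
structure Sys (𝒢 : Set (Subgroup Γ)) (r : Subgroup Γ → Subgroup Γ → Prop) : Prop where
  down : ∀ V ∈ 𝒢, ∀ V', V' ≤ V → V' ∈ 𝒢
  conj : ∀ V ∈ 𝒢, ∀ g, cj g V ∈ 𝒢 ∧ r V (cj g V)
  refl : ∀ V ∈ 𝒢, r V V
  symm : ∀ {V V'}, r V V' → r V' V
  trans : ∀ {V V' V''}, r V V' → r V' V'' → r V V''
  card : ∀ {V V'}, r V V' → Nat.card V = Nat.card V'
  rep : ∀ V ∈ 𝒢, ∃ V₀ ∈ 𝒢, r V V₀ ∧ ∀ V' ∈ 𝒢, r V₀ V' → Key 𝒢 r V' V₀

variable {𝒢 : Set (Subgroup Γ)} {r : Subgroup Γ → Subgroup Γ → Prop}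

lemma step_class (hs : Sys 𝒢 r) (𝒮 : Set (Subgroup Γ)) (hSr : ∀ V ∈ 𝒮, ∀ V' ∈ 𝒢, r V V' → V' ∈ 𝒮)
    (hS𝒢 : 𝒮 ⊆ 𝒢)
    (hSup : ∀ V ∈ 𝒮, ∀ V' ∈ 𝒢, Nat.card V < Nat.card V' → V' ∈ 𝒮)
    (U : Subgroup Γ) (hU : U ∈ 𝒢) (hUS : U ∉ 𝒮) (hmax : ∀ V ∈ 𝒢, V ∉ 𝒮 → Nat.card V ≤ Nat.card U)
    (K : ℕ) (hK : ∀ V ∈ 𝒢, V ∉ 𝒮 → K ∣ V.index)
    (X : Type u) [Finite X] [MulAction Γ X] (hst : ∀ x : X, stabilizer Γ x ∈ 𝒢)
    (hm : ∀ V ∈ 𝒮, ∀ V' ∈ 𝒮, r V V' → mark X V = mark X V') :
    ∃ (X' : Type u) (_ : Finite X') (_ : MulAction Γ X'), (∀ x : X', stabilizer Γ x ∈ 𝒢) ∧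
      (∀ V ∈ 𝒮 ∪ {V | V ∈ 𝒢 ∧ r U V}, ∀ V' ∈ 𝒮 ∪ {V | V ∈ 𝒢 ∧ r U V}, r V V' → mark X' V = mark X' V') ∧
      Nat.card X' ≡ Nat.card X [MOD K] := by
  classical
  haveI := Fintype.ofFinite (Subgroup Γ)
  obtain ⟨V₀, hV₀, hUV₀, hkey⟩ := hs.rep U hU
  let 𝒞 : Set (Subgroup Γ) := {V | V ∈ 𝒢 ∧ r U V}
  have h𝒞 : ∀ V ∈ 𝒞, r V₀ V := fun V hV => hs.trans (hs.symm hUV₀) hV.2
  have h𝒞S : ∀ V ∈ 𝒞, V ∉ 𝒮 := fun V hV hVS => hUS (hSr V hVS U hU (hs.symm hV.2))
  have h𝒞c : ∀ V ∈ 𝒞, Nat.card V = Nat.card U := fun V hV => (hs.card hV.2).symm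
  have hV₀𝒞 : V₀ ∈ 𝒞 := ⟨hV₀, hUV₀⟩
  -- the congruence
  have hcong : ∀ (Y : Type u) [Finite Y] [MulAction Γ Y], (∀ x : Y, stabilizer Γ x ∈ 𝒢) →
      (∀ V ∈ 𝒮, ∀ V' ∈ 𝒮, r V V' → mark Y V = mark Y V') → ∀ V ∈ 𝒞,
      ((wi V : ℕ) : ℤ) ∣ (mark Y V : ℤ) - mark Y V₀ := by
    intro Y _ _ hY hmY V hV
    obtain ⟨j, hj, hjV, hjT⟩ := hkey V hV.1 (h𝒞 V hV)
    refine wi_dvd_mark_sub Y V V₀ j hjV ?_
    intro T hT
    obtain ⟨h1, h2⟩ := hjT T hT
    by_cases hTG : T.map (normalizer (V : Set Γ)).subtype ∈ 𝒢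
    · have hrT := h2 hTG
      have hTG' := h1.1 hTG
      have hlt : Nat.card V < Nat.card (T.map (normalizer (V : Set Γ)).subtype) := by
        have hle : V ≤ T.map (normalizer (V : Set Γ)).subtype := by
          intro v hv
          exact ⟨⟨v, Subgroup.le_normalizer hv⟩, hT.le hv, rfl⟩
        refine lt_of_le_of_ne (Subgroup.card_le_of_le hle) (fun he => ?_)
        have h3 := Subgroup.eq_of_le_of_card_ge hle he.ge
        apply hT.not_ge
        intro t ht
        exact h3.ge ⟨t, ht, rfl⟩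
      have hTS : T.map (normalizer (V : Set Γ)).subtype ∈ 𝒮 := by
        by_contra hcon
        have := hmax _ hTG hcon
        rw [h𝒞c V hV] at hlt
        omega
      exact hmY _ hTS _ (hSr _ hTS _ hTG' hrT) hrT
    · have h3 : T.map j ∉ 𝒢 := fun h => hTG (h1.2 h)
      rw [mark_eq_zero_of (fun x hx => hTG (hs.down _ (hY x) _ hx)),
        mark_eq_zero_of (fun x hx => h3 (hs.down _ (hY x) _ hx))]
  have hwi : ∀ V ∈ 𝒞, wi V ∣ wi V₀ := by
    intro V hV
    obtain ⟨j, hj, hjV, -⟩ := hkey V hV.1 (h𝒞 V hV)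
    exact wi_dvd_wi V V₀ j hj hjV
  -- the target
  let B : ℕ := ∑ V : Subgroup Γ, mark X V
  have hB : ∀ V, mark X V ≤ B := fun V => Finset.single_le_sum (f := fun V => mark X V)
    (fun _ _ => Nat.zero_le _) (Finset.mem_univ V)
  let T : ℕ := mark X V₀ + B * wi V₀
  have hT : ∀ V, mark X V ≤ T := fun V => (hB V).trans (by
    have := Nat.le_mul_of_pos_right B (wi_pos V₀)
    show B ≤ mark X V₀ + B * wi V₀
    omega)
  -- the inner induction
  have main : ∀ (n : ℕ) (Y : Type u) [Finite Y] [MulAction Γ Y], (∀ x : Y, stabilizer Γ x ∈ 𝒢) →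
      (∀ V ∈ 𝒮, ∀ V' ∈ 𝒮, r V V' → mark Y V = mark Y V') → (∀ V ∈ 𝒞, mark Y V ≤ T) →
      (((wi V₀ : ℕ) : ℤ) ∣ (T : ℤ) - mark Y V₀) → {V | V ∈ 𝒞 ∧ mark Y V < T}.ncard ≤ n →
      ∃ (X' : Type u) (_ : Finite X') (_ : MulAction Γ X'), (∀ x : X', stabilizer Γ x ∈ 𝒢) ∧
        (∀ V ∈ 𝒮, ∀ V' ∈ 𝒮, r V V' → mark X' V = mark X' V') ∧ (∀ V ∈ 𝒞, mark X' V = T) ∧
        Nat.card X' ≡ Nat.card Y [MOD K] := by
    intro n
    induction n with
    | zero =>
      intro Y _ _ hY hmY hbd hdv hn
      refine ⟨Y, inferInstance, inferInstance, hY, hmY, ?_, Nat.ModEq.refl _⟩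
      intro V hV
      have h0 : {V | V ∈ 𝒞 ∧ mark Y V < T} = ∅ :=
        (Set.ncard_eq_zero (Set.toFinite _)).1 (by omega)
      have h1 : ¬ (V ∈ 𝒞 ∧ mark Y V < T) := fun h => by
        have : V ∈ {V | V ∈ 𝒞 ∧ mark Y V < T} := h
        rw [h0] at this
        exact this
      have h2 := hbd V hV
      by_contra h3
      exact h1 ⟨hV, by omega⟩
    | succ n ih =>
      intro Y _ _ hY hmY hbd hdv hn
      by_cases hemp : ∀ V ∈ 𝒞, mark Y V = T
      · exact ⟨Y, inferInstance, inferInstance, hY, hmY, hemp, Nat.ModEq.refl _⟩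
      push Not at hemp
      obtain ⟨V, hV, hVT⟩ := hemp
      have hlt : mark Y V < T := lt_of_le_of_ne (hbd V hV) hVT
      -- the number of orbits to add
      have hd : ((wi V : ℕ) : ℤ) ∣ (T : ℤ) - mark Y V := by
        have h1 := hcong Y hY hmY V hV
        have h2 : ((wi V : ℕ) : ℤ) ∣ (T : ℤ) - mark Y V₀ :=
          (Int.natCast_dvd_natCast.2 (hwi V hV)).trans hdv
        have := dvd_sub h2 h1
        simpa using this
      have hd' : wi V ∣ T - mark Y V := by
        have : ((T - mark Y V : ℕ) : ℤ) = (T : ℤ) - mark Y V := by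
          rw [Nat.cast_sub (hbd V hV)]
        rw [← Int.natCast_dvd_natCast, this]
        exact hd
      obtain ⟨d, hdd⟩ := hd'
      obtain ⟨Y', i1, i2, h1, h2, h3⟩ := exists_add Y V d
      have hstab' : ∀ x : Y', stabilizer Γ x ∈ 𝒢 := by
        intro x
        rcases h2 x with ⟨y, hy⟩ | ⟨g, hg⟩
        · rw [hy]; exact hY y
        · rw [hg]; exact (hs.conj V hV.1 g).1
      -- marks of subgroups of order at least that of `V`
      have hother : ∀ V' : Subgroup Γ, Nat.card V ≤ Nat.card V' → (∀ g, V' ≠ cj g V) → mark Y' V' = mark Y V' := by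
        intro V' hc hne
        have h4 : mark (Γ ⧸ V) V' = 0 := by
          by_contra h5
          obtain ⟨g, hg⟩ := eq_cj_of_mark_ne_zero hc h5
          exact hne g hg
        rw [h1, h4]; simp
      have hconj : ∀ g, mark Y' (cj g V) = T := by
        intro g
        rw [h1, mark_cj, mark_cj, mark_quot_self, mul_comm d, ← hdd]
        have := hbd V hV
        omega
      have hS' : ∀ V' ∈ 𝒮, mark Y' V' = mark Y V' := by
        intro V' hV'
        refine hother V' ?_ ?_
        · rw [h𝒞c V hV]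
          by_contra hc
          push Not at hc
          exact hUS (hSup V' hV' U hU hc)
        · rintro g rfl
          exact h𝒞S V hV (by
            have h7 := hSr _ hV' V hV.1 (hs.symm ((hs.conj V hV.1 g).2))
            exact h7)
      have hdicho : ∀ V' ∈ 𝒞, mark Y' V' = T ∨ mark Y' V' = mark Y V' := by
        intro V' hV'
        by_cases hc : ∃ g, V' = cj g V
        · obtain ⟨g, rfl⟩ := hc
          exact Or.inl (hconj g)
        · push Not at hc
          refine Or.inr (hother V' ?_ hc)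
          rw [h𝒞c V hV, h𝒞c V' hV']
      have hV₀' : ((wi V₀ : ℕ) : ℤ) ∣ (T : ℤ) - mark Y' V₀ := by
        rcases hdicho V₀ hV₀𝒞 with h | h
        · rw [h]; simp
        · rw [h]; exact hdv
      have hlt2 : {V' | V' ∈ 𝒞 ∧ mark Y' V' < T}.ncard ≤ n := by
        have hsub : {V' | V' ∈ 𝒞 ∧ mark Y' V' < T} ⊂ {V' | V' ∈ 𝒞 ∧ mark Y V' < T} := by
          refine ⟨?_, ?_⟩
          · rintro V' ⟨hV'1, hV'2⟩
            refine ⟨hV'1, ?_⟩
            rcases hdicho V' hV'1 with h | h
            · omega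
            · omega
          · intro hcon
            have h8 := hcon (show V ∈ {V' | V' ∈ 𝒞 ∧ mark Y V' < T} from ⟨hV, hlt⟩)
            have h9 := hconj 1
            have h10 : cj 1 V = V := by
              ext x
              rw [mem_cj]
              simp
            rw [h10] at h9
            exact absurd h8.2 (by omega)
        have := Set.ncard_lt_ncard hsub (Set.toFinite _)
        omega
      obtain ⟨X', i3, i4, h5, h6, h7, h8⟩ := ih Y' hstab'
        (fun W hW W' hW' hr => by rw [hS' W hW, hS' W' hW']; exact hmY W hW W' hW' hr)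
        (fun W hW => by
          rcases hdicho W hW with h | h
          · exact h.le
          · rw [h]; exact hbd W hW)
        hV₀' hlt2
      refine ⟨X', i3, i4, h5, h6, h7, h8.trans ?_⟩
      rw [h3]
      have h9 : K ∣ V.index := hK V hV.1 (h𝒞S V hV)
      have h10 : K ∣ d * V.index := h9.mul_left d
      exact (Nat.modEq_iff_dvd' (by omega)).2 (by simpa using h10) |>.symm
  obtain ⟨X', i1, i2, h1, h2, h3, h4⟩ := main _ X hst hm (fun V _ => hT V)
    (by
      refine ⟨B, ?_⟩
      simp only [T]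
      push_cast
      ring) le_rfl
  refine ⟨X', i1, i2, h1, ?_, h4⟩
  rintro W (hW | hW) W' (hW' | hW') hr
  · exact h2 W hW W' hW' hr
  · exact absurd (hSr W hW W' hW'.1 hr) (h𝒞S W' hW')
  · exact absurd (hSr W' hW' W hW.1 (hs.symm hr)) (h𝒞S W hW)
  · rw [h3 W hW, h3 W' hW']

/-- **The stable set theorem.** -/
theorem exists_stable (hs : Sys 𝒢 r) (K : ℕ) :
    ∀ (n : ℕ) (𝒮 : Set (Subgroup Γ)), (∀ V ∈ 𝒮, ∀ V' ∈ 𝒢, r V V' → V' ∈ 𝒮) → 𝒮 ⊆ 𝒢 →
    (∀ V ∈ 𝒮, ∀ V' ∈ 𝒢, Nat.card V < Nat.card V' → V' ∈ 𝒮) →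
    (∀ V ∈ 𝒢, V ∉ 𝒮 → K ∣ V.index) → (𝒢 \ 𝒮).ncard ≤ n →
    ∀ (X : Type u) [Finite X] [MulAction Γ X], (∀ x : X, stabilizer Γ x ∈ 𝒢) →
    (∀ V ∈ 𝒮, ∀ V' ∈ 𝒮, r V V' → mark X V = mark X V') →
    ∃ (X' : Type u) (_ : Finite X') (_ : MulAction Γ X'), (∀ x : X', stabilizer Γ x ∈ 𝒢) ∧
      (∀ V ∈ 𝒢, ∀ V' ∈ 𝒢, r V V' → mark X' V = mark X' V') ∧ Nat.card X' ≡ Nat.card X [MOD K] := by
  classical
  intro n
  induction n with
  | zero =>
    intro 𝒮 _ hS𝒢 _ _ hn X _ _ hX hm
    have h0 : 𝒢 \ 𝒮 = ∅ := (Set.ncard_eq_zero (Set.toFinite _)).1 (by omega)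
    have h1 : 𝒢 ⊆ 𝒮 := Set.sdiff_eq_empty.1 h0
    exact ⟨X, inferInstance, inferInstance, hX, fun V hV V' hV' => hm V (h1 hV) V' (h1 hV'),
      Nat.ModEq.refl _⟩
  | succ n ih =>
    intro 𝒮 hSr hS𝒢 hSup hK hn X _ _ hX hm
    by_cases hemp : 𝒢 \ 𝒮 = ∅
    · have h1 : 𝒢 ⊆ 𝒮 := Set.sdiff_eq_empty.1 hemp
      exact ⟨X, inferInstance, inferInstance, hX, fun V hV V' hV' => hm V (h1 hV) V' (h1 hV'),
        Nat.ModEq.refl _⟩
    obtain ⟨U₀, hU₀⟩ := Set.nonempty_iff_ne_empty.2 hemp
    -- choose a maximal one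
    obtain ⟨U, hU, hUmax⟩ := Set.exists_max_image (𝒢 \ 𝒮) (fun V => Nat.card V) (Set.toFinite _) ⟨U₀, hU₀⟩
    have hmax : ∀ V ∈ 𝒢, V ∉ 𝒮 → Nat.card V ≤ Nat.card U := fun V h1 h2 => hUmax V ⟨h1, h2⟩
    obtain ⟨X', i1, i2, h1, h2, h3⟩ := step_class hs 𝒮 hSr hS𝒢 hSup U hU.1 hU.2 hmax K hK X hX hm
    obtain ⟨X'', i3, i4, h4, h5, h6⟩ := ih (𝒮 ∪ {V | V ∈ 𝒢 ∧ r U V})
      (by
        rintro V (hV | hV) V' hV' hr
        · exact Or.inl (hSr V hV V' hV' hr)
        · exact Or.inr ⟨hV', hs.trans hV.2 hr⟩)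
      (by
        rintro V (hV | hV)
        · exact hS𝒢 hV
        · exact hV.1)
      (by
        rintro V (hV | hV) V' hV' hlt
        · exact Or.inl (hSup V hV V' hV' hlt)
        · refine Or.inl ?_
          by_contra hcon
          have h7 := hmax V' hV' hcon
          have h8 := hs.card hV.2
          omega)
      (fun V hV hVS => hK V hV (fun h => hVS (Or.inl h)))
      (by
        have hsub : 𝒢 \ (𝒮 ∪ {V | V ∈ 𝒢 ∧ r U V}) ⊂ 𝒢 \ 𝒮 := by
          refine ⟨fun V hV => ⟨hV.1, fun h => hV.2 (Or.inl h)⟩, fun hcon => ?_⟩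
          have := (hcon hU).2
          exact this (Or.inr ⟨hU.1, hs.refl U hU.1⟩)
        have := Set.ncard_lt_ncard hsub (Set.toFinite _)
        omega)
      X' h1 h2
    exact ⟨X'', i3, i4, h4, h5, h6.trans h3⟩

end Stable

end Cfsg.Agent.Lib.StableSet
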