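/-
FusionBiset: the characteristic biset of a saturated fusion system (Broto-Levi-Oliver).

For a saturated fusion system `F` on the finite `p`-group `S` there is a finite `S × S`-set `X` (the action being
written `(a, b) • x = a x b⁻¹`) such that every point stabilizer is the graph of a map of `F`, the number of fixed points
of the graph of a map of `F` depends only on the `F`-class of the domain of the map, and `|X| / |S|` is prime to `p`.
-/
import Mathlib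
import Cfsg.Agent.Lib.FusionCore
import Cfsg.Agent.Lib.StableSet

set_option autoImplicit false

namespace Cfsg.Agent.Lib.FusionBiset

open Cfsg Cfsg.FusionSystem Cfsg.Agent.Lib.FusionCore Cfsg.Agent.Lib.StableSet MulAction

universe u

variable {Ω : Type u} [Group Ω] {S : Subgroup Ω}

/-- The group `S × S`. -/
abbrev Gam (S : Subgroup Ω) : Type u := ↥S × ↥S

/-- The first projection of a subgroup of `S × S`, as a subgroup of `Ω`. -/
def pr1 (V : Subgroup (Gam S)) : Subgroup Ω := (V.map (MonoidHom.fst ↥S ↥S)).map S.subtype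

lemma mem_pr1 {V : Subgroup (Gam S)} {x : Ω} : x ∈ pr1 V ↔ ∃ a b : ↥S, (a, b) ∈ V ∧ (a : Ω) = x := by
  constructor
  · rintro ⟨_, ⟨⟨a, b⟩, hv, rfl⟩, rfl⟩
    exact ⟨a, b, hv, rfl⟩
  · rintro ⟨a, b, hv, rfl⟩
    exact ⟨a, ⟨(a, b), hv, rfl⟩, rfl⟩

lemma pr1_le (V : Subgroup (Gam S)) : pr1 V ≤ S := by
  intro x hx
  obtain ⟨a, b, -, rfl⟩ := mem_pr1.1 hx
  exact a.2

/-- `V` is the graph of the map `f` of `F` on `P`. -/
structure IsGr (F : FusionSystem S) (V : Subgroup (Gam S)) (P : Subgroup Ω) (f : Ω → Ω) : Prop where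
  maps : Maps F P f
  mem : ∀ a b : ↥S, (a, b) ∈ V ↔ (a : Ω) ∈ P ∧ (b : Ω) = f a

variable {F : FusionSystem S}

lemma IsGr.pr1_eq {V : Subgroup (Gam S)} {P : Subgroup Ω} {f : Ω → Ω} (h : IsGr F V P f) : pr1 V = P := by
  ext x
  rw [mem_pr1]
  constructor
  · rintro ⟨a, b, hv, rfl⟩
    exact ((h.mem a b).1 hv).1
  · intro hx
    exact ⟨⟨x, h.maps.le hx⟩, ⟨f x, h.maps.mem hx⟩, (h.mem _ _).2 ⟨hx, rfl⟩, rfl⟩

lemma IsGr.card {V : Subgroup (Gam S)} {P : Subgroup Ω} {f : Ω → Ω} (h : IsGr F V P f) :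
    Nat.card V = Nat.card P := by
  refine Nat.card_congr
    { toFun := fun v => ⟨(v.1.1 : Ω), ((h.mem v.1.1 v.1.2).1 v.2).1⟩
      invFun := fun x => ⟨(⟨x, h.maps.le x.2⟩, ⟨f x, h.maps.mem x.2⟩), (h.mem _ _).2 ⟨x.2, rfl⟩⟩
      left_inv := fun v => ?_
      right_inv := fun x => rfl }
  obtain ⟨⟨a, b⟩, hv⟩ := v
  have := ((h.mem a b).1 hv).2
  refine Subtype.ext (Prod.ext rfl (Subtype.ext ?_))
  exact this.symm

/-- The family of graphs of maps of `F`. -/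
def GG (F : FusionSystem S) : Set (Subgroup (Gam S)) := {V | ∃ P f, IsGr F V P f}

/-- Two graphs are related when the domains are `F`-conjugate. -/
def rr (F : FusionSystem S) (V V' : Subgroup (Gam S)) : Prop :=
  V ∈ GG F ∧ V' ∈ GG F ∧ F.IsConj (pr1 V) (pr1 V')

/-- Transport of a graph along a pair of maps of `F`. -/
lemma IsGr.transport {V₁ V₂ : Subgroup (Gam S)} {P₁ Pu Pv : Subgroup Ω} {f₁ u v : Ω → Ω} (h₁ : IsGr F V₁ P₁ f₁)
    (hu : Maps F Pu u) (hv : Maps F Pv v) (h1 : P₁ ≤ Pu) (h2 : ∀ x ∈ P₁, f₁ x ∈ Pv)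
    (hV₂ : ∀ a b : ↥S, (a, b) ∈ V₂ ↔ ∃ c d : ↥S, (c, d) ∈ V₁ ∧ (a : Ω) = u c ∧ (b : Ω) = v d) :
    ∃ g, IsGr F V₂ (img u P₁) g := by
  have hu' : Maps F P₁ u := hu.restrict h1
  obtain ⟨g₀, hg₀, hg1, hg2⟩ := hu'.inv
  refine ⟨v ∘ f₁ ∘ g₀, ?_, ?_⟩
  · exact (hg₀.comp h₁.maps (fun y hy => (hg2 y hy).1)).comp hv (fun y hy => h2 _ (hg2 y hy).1)
  · intro a b
    rw [hV₂]
    constructor
    · rintro ⟨c, d, hcd, ha, hb⟩
      obtain ⟨hc, hd⟩ := (h₁.mem c d).1 hcd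
      refine ⟨ha ▸ hu'.mem_img_of_mem hc, ?_⟩
      simp only [Function.comp_apply]
      rw [ha, hg1 _ hc, hb, hd]
    · rintro ⟨ha, hb⟩
      obtain ⟨hc, hc'⟩ := hg2 a ha
      refine ⟨⟨g₀ a, h₁.maps.le hc⟩, ⟨f₁ (g₀ a), h₁.maps.mem hc⟩, (h₁.mem _ _).2 ⟨hc, rfl⟩, hc'.symm, hb⟩

lemma GG_down {V V' : Subgroup (Gam S)} (hV : V ∈ GG F) (h : V' ≤ V) : V' ∈ GG F := by
  obtain ⟨P, f, hg⟩ := hV
  have hle : pr1 V' ≤ P := by
    intro x hx
    obtain ⟨a, b, hv, rfl⟩ := mem_pr1.1 hx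
    exact ((hg.mem a b).1 (h hv)).1
  refine ⟨pr1 V', f, hg.maps.restrict hle, ?_⟩
  intro a b
  constructor
  · intro hv
    exact ⟨mem_pr1.2 ⟨a, b, hv, rfl⟩, ((hg.mem a b).1 (h hv)).2⟩
  · rintro ⟨h1, h2⟩
    obtain ⟨a', b', hv, ha⟩ := mem_pr1.1 h1
    have ha' : a' = a := Subtype.ext ha
    subst ha'
    have h3 := ((hg.mem a' b').1 (h hv)).2
    have hb : b' = b := Subtype.ext (h3.trans h2.symm)
    exact hb ▸ hv

lemma mem_cj_gam {g : Gam S} {V : Subgroup (Gam S)} (a b : ↥S) :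
    (a, b) ∈ cj g V ↔ ∃ c d : ↥S, (c, d) ∈ V ∧ (a : Ω) = g.1 * c * (g.1 : Ω)⁻¹ ∧ (b : Ω) = g.2 * d * (g.2 : Ω)⁻¹ := by
  constructor
  · rintro ⟨⟨c, d⟩, hv, he⟩
    have h1 : a = g.1 * c * g.1⁻¹ := (congrArg Prod.fst he).symm
    have h2 : b = g.2 * d * g.2⁻¹ := (congrArg Prod.snd he).symm
    refine ⟨c, d, hv, ?_, ?_⟩
    · rw [h1]; simp
    · rw [h2]; simp
  · rintro ⟨c, d, hv, ha, hb⟩
    refine ⟨(c, d), hv, ?_⟩
    refine Prod.ext (Subtype.ext ?_) (Subtype.ext ?_)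
    · rw [ha]; simp
    · rw [hb]; simp

lemma GG_conj {V : Subgroup (Gam S)} (hV : V ∈ GG F) (g : Gam S) : cj g V ∈ GG F ∧ rr F V (cj g V) := by
  obtain ⟨P, f, hg⟩ := hV
  obtain ⟨f', hf'⟩ := hg.transport (V₂ := cj g V) (u := fun x => g.1 * x * (g.1 : Ω)⁻¹)
    (v := fun x => g.2 * x * (g.2 : Ω)⁻¹) (Pu := S) (Pv := S)
    (Maps.conj le_rfl g.1.2) (Maps.conj le_rfl g.2.2) hg.maps.le (fun x hx => hg.maps.mem hx)
    (fun a b => mem_cj_gam a b)
  refine ⟨⟨_, _, hf'⟩, ⟨_, _, hg⟩, ⟨_, _, hf'⟩, ?_⟩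
  rw [hf'.pr1_eq, hg.pr1_eq, FusionCore.isConj_iff]
  exact ⟨_, (Maps.conj (F := F) le_rfl g.1.2).restrict hg.maps.le, rfl⟩

/-- The diagonal subgroup of `Q ≤ S`. -/
def dlt (Q : Subgroup Ω) : Subgroup (Gam S) where
  carrier := {x | x.1 = x.2 ∧ (x.1 : Ω) ∈ Q}
  mul_mem' := by
    rintro ⟨a, b⟩ ⟨c, d⟩ ⟨h1, h2⟩ ⟨h3, h4⟩
    simp only at h1 h2 h3 h4
    subst h1 h3
    exact ⟨rfl, Q.mul_mem h2 h4⟩
  one_mem' := ⟨rfl, Q.one_mem⟩
  inv_mem' := by
    rintro ⟨a, b⟩ ⟨h1, h2⟩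
    simp only at h1 h2
    subst h1
    exact ⟨rfl, Q.inv_mem h2⟩

lemma isGr_dlt {Q : Subgroup Ω} (hQ : Q ≤ S) : IsGr F (dlt Q) Q id := by
  refine ⟨Maps.id hQ, ?_⟩
  intro a b
  constructor
  · rintro ⟨h1, h2⟩
    simp only at h1 h2
    subst h1
    exact ⟨h2, rfl⟩
  · rintro ⟨h1, h2⟩
    have : a = b := Subtype.ext h2.symm
    exact ⟨this, h1⟩


/-! ### The key property -/

section Key

variable [Finite S] {p : ℕ} [Fact p.Prime]

lemma finite_pr1 (V : Subgroup (Gam S)) : Finite (pr1 V) := finite_of_le (pr1_le V)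

/-- The normalizer of a graph: the components. -/
lemma norm_graph {V : Subgroup (Gam S)} {P : Subgroup Ω} {f : Ω → Ω} (h : IsGr F V P f)
    {a b : ↥S} (hn : (a, b) ∈ Subgroup.normalizer (V : Set (Gam S))) :
    (a : Ω) ∈ Subgroup.normalizer (P : Set Ω) ∧ (b : Ω) ∈ Subgroup.normalizer ((img f P : Subgroup Ω) : Set Ω) ∧
      ∀ x ∈ P, f (a * x * (a : Ω)⁻¹) = b * f x * (b : Ω)⁻¹ := by
  haveI := finite_of_le h.maps.le
  haveI : Finite (img f P) := finite_of_le h.maps.img_le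
  have key : ∀ x ∈ P, (a : Ω) * x * (a : Ω)⁻¹ ∈ P ∧ f (a * x * (a : Ω)⁻¹) = b * f x * (b : Ω)⁻¹ := by
    intro x hx
    have h1 : ((⟨x, h.maps.le hx⟩ : ↥S), (⟨f x, h.maps.mem hx⟩ : ↥S)) ∈ V := (h.mem _ _).2 ⟨hx, rfl⟩
    have h2 := (Subgroup.mem_normalizer_iff.1 hn _).1 h1
    have h3 := (h.mem _ _).1 h2
    have h4 : (a : Ω) * x * (a : Ω)⁻¹ ∈ P ∧ (b : Ω) * f x * (b : Ω)⁻¹ = f (a * x * (a : Ω)⁻¹) := by
      simpa using h3
    exact ⟨h4.1, h4.2.symm⟩
  refine ⟨mem_normalizer_of_conj_mem (fun x hx => (key x hx).1), mem_normalizer_of_conj_mem ?_, fun x hx => (key x hx).2⟩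
  intro y hy
  obtain ⟨x, hx, rfl⟩ := h.maps.mem_img.1 hy
  rw [← (key x hx).2]
  exact h.maps.mem_img_of_mem (key x hx).1

/-- The key property. -/
theorem key_graph (hS : IsPGroup p S) {Q : Subgroup Ω} (h₁ : F.IsFullyAutomized p Q) (h₂ : F.IsReceptive Q)
    {V' : Subgroup (Gam S)} {P' : Subgroup Ω} {f' : Ω → Ω} (hV' : IsGr F V' P' f') (hc : F.IsConj Q P') :
    Key (GG F) (rr F) V' (dlt Q) := by
  classical
  haveI : Finite (Gam S) := inferInstance
  have hf' := hV'.maps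
  -- the map on the target side
  have hR' : F.IsConj (img f' P') Q := by
    refine IsConj_trans (IsConj_symm ?_) (IsConj_symm hc)
    exact FusionCore.isConj_iff.2 ⟨f', hf', rfl⟩
  obtain ⟨α, hα, hα2, hα3⟩ := exists_normalizer_map hS h₁ h₂ hR'
  have hle : ∀ x ∈ P', f' x ∈ normalizerIn S (img f' P') := fun x hx =>
    le_normalizerIn hf'.img_le (hf'.mem_img_of_mem hx)
  have hρ : Maps F P' (α ∘ f') := hf'.comp hα hle
  have hρi : img (α ∘ f') P' = Q := by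
    rw [img_comp hf' (hα.restrict (le_normalizerIn hf'.img_le)), hα3]
  obtain ⟨ρ, hρ', hρρ⟩ := IsReceptive.ext h₂ hρ hρi
  -- components of the normalizer
  have hcomp : ∀ n : Subgroup.normalizer (V' : Set (Gam S)),
      ((n.1.1 : ↥S) : Ω) ∈ Nf S P' (α ∘ f') ∧ ((n.1.2 : ↥S) : Ω) ∈ normalizerIn S (img f' P') := by
    rintro ⟨⟨a, b⟩, hn⟩
    obtain ⟨h1, h2, h3⟩ := norm_graph hV' hn
    have hb : (b : Ω) ∈ normalizerIn S (img f' P') := mem_normalizerIn.2 ⟨b.2, h2⟩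
    refine ⟨mem_Nf.2 ⟨a.2, h1, α b, hα.mem hb, fun x hx => ?_⟩, hb⟩
    simp only [Function.comp_apply]
    rw [h3 x hx]
    exact hα.map_conj hb (hle x hx)
  let j : Subgroup.normalizer (V' : Set (Gam S)) →* Gam S :=
    { toFun := fun n => (⟨ρ n.1.1, hρ'.mem (hcomp n).1⟩, ⟨α n.1.2, hα.mem (hcomp n).2⟩)
      map_one' := by
        refine Prod.ext (Subtype.ext hρ'.map_one) (Subtype.ext hα.map_one)
      map_mul' := by
        intro m n
        refine Prod.ext (Subtype.ext ?_) (Subtype.ext ?_)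
        · exact hρ'.map_mul (hcomp m).1 (hcomp n).1
        · exact hα.map_mul (hcomp m).2 (hcomp n).2 }
  have hj1 : ∀ n, ((j n).1 : Ω) = ρ n.1.1 := fun _ => rfl
  have hj2 : ∀ n, ((j n).2 : Ω) = α n.1.2 := fun _ => rfl
  have hjinj : Function.Injective j := by
    intro m n hmn
    have h1 := congrArg (fun x => ((x.1 : ↥S) : Ω)) hmn
    have h2 := congrArg (fun x => ((x.2 : ↥S) : Ω)) hmn
    apply Subtype.ext
    refine Prod.ext (Subtype.ext ?_) (Subtype.ext ?_)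
    · exact hρ'.inj (hcomp m).1 (hcomp n).1 h1
    · exact hα.inj (hcomp m).2 (hcomp n).2 h2
  refine ⟨j, hjinj, ?_, ?_⟩
  · -- the image of `V'`
    ext ⟨a', b'⟩
    constructor
    · rintro ⟨n, hn, he⟩
      have hn' : ((n.1.1 : ↥S), (n.1.2 : ↥S)) ∈ V' := hn
      obtain ⟨h1, h2⟩ := (hV'.mem _ _).1 hn'
      have e1 : (a' : Ω) = ρ n.1.1 := (congrArg (fun x => ((x.1 : ↥S) : Ω)) he).symm
      have e2 : (b' : Ω) = α n.1.2 := (congrArg (fun x => ((x.2 : ↥S) : Ω)) he).symm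
      have e3 : ρ n.1.1 = α (f' n.1.1) := hρρ _ h1
      have hab : a' = b' := Subtype.ext (by rw [e1, e2, e3, h2])
      refine ⟨hab, ?_⟩
      show (a' : Ω) ∈ Q
      rw [e1, e3, ← hρi]
      exact hρ.mem_img_of_mem h1
    · rintro ⟨h1, h2⟩
      simp only at h1 h2
      subst h1
      rw [← hρi] at h2
      obtain ⟨x, hx, hxa⟩ := hρ.mem_img.1 h2
      have hmem : ((⟨x, hf'.le hx⟩ : ↥S), (⟨f' x, hf'.mem hx⟩ : ↥S)) ∈ V' := (hV'.mem _ _).2 ⟨hx, rfl⟩
      refine ⟨⟨_, Subgroup.le_normalizer hmem⟩, hmem, ?_⟩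
      refine Prod.ext (Subtype.ext ?_) (Subtype.ext ?_)
      · exact (hρρ x hx).trans hxa
      · exact hxa
  · intro T _
    have hTj : ∀ a b : ↥S, (a, b) ∈ T.map j ↔ ∃ c d : ↥S, (c, d) ∈ T.map (Subgroup.normalizer (V' : Set (Gam S))).subtype ∧
        (a : Ω) = ρ c ∧ (b : Ω) = α d := by
      intro a b
      constructor
      · rintro ⟨n, hn, he⟩
        refine ⟨n.1.1, n.1.2, ⟨n, hn, rfl⟩, ?_, ?_⟩
        · exact (congrArg (fun x => ((x.1 : ↥S) : Ω)) he).symm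
        · exact (congrArg (fun x => ((x.2 : ↥S) : Ω)) he).symm
      · rintro ⟨c, d, ⟨n, hn, he⟩, h1, h2⟩
        refine ⟨n, hn, ?_⟩
        have e1 : n.1.1 = c := congrArg Prod.fst he
        have e2 : n.1.2 = d := congrArg Prod.snd he
        refine Prod.ext (Subtype.ext ?_) (Subtype.ext ?_)
        · show ρ n.1.1 = a
          rw [h1, e1]
        · show α n.1.2 = b
          rw [h2, e2]
    have hT1 : ∀ c d : ↥S, (c, d) ∈ T.map (Subgroup.normalizer (V' : Set (Gam S))).subtype →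
        (c : Ω) ∈ Nf S P' (α ∘ f') ∧ (d : Ω) ∈ normalizerIn S (img f' P') := by
      rintro c d ⟨n, -, he⟩
      have e1 : n.1.1 = c := congrArg Prod.fst he
      have e2 : n.1.2 = d := congrArg Prod.snd he
      rw [← e1, ← e2]
      exact hcomp n
    have forward : ∀ P₁ f₁, IsGr F (T.map (Subgroup.normalizer (V' : Set (Gam S))).subtype) P₁ f₁ →
        ∃ g, IsGr F (T.map j) (img ρ P₁) g := by
      intro P₁ f₁ h₁
      refine h₁.transport hρ' hα ?_ ?_ hTj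
      · intro x hx
        rw [← h₁.pr1_eq] at hx
        obtain ⟨c, d, hcd, rfl⟩ := mem_pr1.1 hx
        exact (hT1 c d hcd).1
      · intro x hx
        have hd : ((⟨x, h₁.maps.le hx⟩ : ↥S), (⟨f₁ x, h₁.maps.mem hx⟩ : ↥S)) ∈ T.map (Subgroup.normalizer (V' : Set (Gam S))).subtype :=
          (h₁.mem _ _).2 ⟨hx, rfl⟩
        exact (hT1 _ _ hd).2
    refine ⟨⟨?_, ?_⟩, ?_⟩
    · rintro ⟨P₁, f₁, h₁⟩
      obtain ⟨g, hg⟩ := forward P₁ f₁ h₁
      exact ⟨_, _, hg⟩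
    · rintro ⟨P₂, f₂, h₂'⟩
      obtain ⟨u, hu, hu1, hu2⟩ := hρ'.inv
      obtain ⟨v, hv, hv1, hv2⟩ := hα.inv
      obtain ⟨g, hg⟩ := h₂'.transport (V₂ := T.map (Subgroup.normalizer (V' : Set (Gam S))).subtype) hu hv
        (by
          intro x hx
          rw [← h₂'.pr1_eq] at hx
          obtain ⟨a, b, hab, rfl⟩ := mem_pr1.1 hx
          obtain ⟨c, d, hcd, h3, -⟩ := (hTj a b).1 hab
          rw [h3]
          exact hρ'.mem_img_of_mem (hT1 c d hcd).1)
        (by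
          intro x hx
          have hmem : ((⟨x, h₂'.maps.le hx⟩ : ↥S), (⟨f₂ x, h₂'.maps.mem hx⟩ : ↥S)) ∈ T.map j :=
            (h₂'.mem _ _).2 ⟨hx, rfl⟩
          obtain ⟨c, d, hcd, -, h3⟩ := (hTj _ _).1 hmem
          have h4 : f₂ x = α d := h3
          rw [h4]
          exact hα.mem_img_of_mem (hT1 c d hcd).2)
        (by
          intro a b
          constructor
          · intro hab
            obtain ⟨ha, hb⟩ := hT1 a b hab
            refine ⟨⟨ρ a, hρ'.mem ha⟩, ⟨α b, hα.mem hb⟩, (hTj _ _).2 ⟨a, b, hab, rfl, rfl⟩, ?_, ?_⟩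
            · exact (hu1 _ ha).symm
            · exact (hv1 _ hb).symm
          · rintro ⟨c, d, hcd, h3, h4⟩
            obtain ⟨c', d', hc'd', h5, h6⟩ := (hTj _ _).1 hcd
            obtain ⟨ha, hb⟩ := hT1 _ _ hc'd'
            have e1 : a = c' := Subtype.ext (by rw [h3, h5]; exact hu1 _ ha)
            have e2 : b = d' := Subtype.ext (by rw [h4, h6]; exact hv1 _ hb)
            rw [e1, e2]
            exact hc'd')
      exact ⟨_, _, hg⟩
    · rintro ⟨P₁, f₁, h₁⟩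
      obtain ⟨g, hg⟩ := forward P₁ f₁ h₁
      refine ⟨⟨_, _, h₁⟩, ⟨_, _, hg⟩, ?_⟩
      rw [h₁.pr1_eq, hg.pr1_eq, FusionCore.isConj_iff]
      refine ⟨ρ, hρ'.restrict ?_, rfl⟩
      intro x hx
      rw [← h₁.pr1_eq] at hx
      obtain ⟨c, d, hcd, rfl⟩ := mem_pr1.1 hx
      exact (hT1 c d hcd).1

/-- The system of graphs. -/
theorem sys_graph (hS : IsPGroup p S) (hF : F.IsSaturated p) : Sys (GG F) (rr F) where
  down := fun V hV V' h => GG_down hV h
  conj := fun V hV g => GG_conj hV g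
  refl := fun V hV => ⟨hV, hV, isConj_refl (pr1_le V)⟩
  symm := fun ⟨h1, h2, h3⟩ => ⟨h2, h1, IsConj_symm h3⟩
  trans := fun ⟨h1, _, h3⟩ ⟨_, h5, h6⟩ => ⟨h1, h5, IsConj_trans h3 h6⟩
  card := by
    rintro V V' ⟨⟨P, f, h1⟩, ⟨P', f', h2⟩, h3⟩
    rw [h1.pr1_eq, h2.pr1_eq] at h3
    rw [h1.card, h2.card]
    exact IsConj_card h3
  rep := by
    rintro V ⟨P, f, h⟩
    obtain ⟨Q, hQ, h1, h2⟩ := hF P h.maps.le
    have hQS : Q ≤ S := h1.1
    refine ⟨dlt Q, ⟨_, _, isGr_dlt hQS⟩, ⟨⟨_, _, h⟩, ⟨_, _, isGr_dlt hQS⟩, ?_⟩, ?_⟩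
    · rw [h.pr1_eq, (isGr_dlt (F := F) hQS).pr1_eq]
      exact hQ
    · rintro V' ⟨P', f', h'⟩ ⟨-, -, h3⟩
      rw [(isGr_dlt (F := F) hQS).pr1_eq, h'.pr1_eq] at h3
      exact key_graph hS h1 h2 h' h3

end Key


/-! ### The starting set: the orbits of the graphs of automorphisms of `S` -/

section Top

variable [Finite S] {p : ℕ} [Fact p.Prime]

/-- The outer automorphism classes. -/
abbrev OutF (F : FusionSystem S) : Type u :=
  F.autGroup S ⧸ (autInducedBy S S).subgroupOf (F.autGroup S)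

/-- The starting set. -/
abbrev X0 (F : FusionSystem S) : Type u := ↥S × OutF F

noncomputable instance (F : FusionSystem S) : MulAction (Gam S) (X0 F) where
  smul g x := (((Quotient.out x.2 : F.autGroup S) : MulAut ↥S) g.1 * x.1 * g.2⁻¹, x.2)
  one_smul x := by
    show (((Quotient.out x.2 : F.autGroup S) : MulAut ↥S) 1 * x.1 * 1⁻¹, x.2) = x
    simp
  mul_smul g g' x := by
    show (((Quotient.out x.2 : F.autGroup S) : MulAut ↥S) (g.1 * g'.1) * x.1 * (g.2 * g'.2)⁻¹, x.2) =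
      (((Quotient.out x.2 : F.autGroup S) : MulAut ↥S) g.1 *
        (((Quotient.out x.2 : F.autGroup S) : MulAut ↥S) g'.1 * x.1 * g'.2⁻¹) * g.2⁻¹, x.2)
    simp [mul_assoc]

lemma X0_smul (g : Gam S) (x : X0 F) :
    g • x = (((Quotient.out x.2 : F.autGroup S) : MulAut ↥S) g.1 * x.1 * g.2⁻¹, x.2) := rfl

lemma X0_stab (x : X0 F) : stabilizer (Gam S) x ∈ GG F := by
  rcases x with ⟨s, q⟩
  set χ : F.autGroup S := Quotient.out q with hχ
  have h1 : Maps F S (afn (χ : MulAut ↥S)) := Maps_of_mem_autGroup le_rfl χ.2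
  have h2 : Maps F S (fun x => (s : Ω)⁻¹ * afn (χ : MulAut ↥S) x * s) :=
    (h1.comp (Maps.conj (F := F) le_rfl (S.inv_mem s.2)) (fun x hx => h1.mem hx)).congr
      (fun x hx => by simp)
  refine ⟨S, _, h2, ?_⟩
  intro a b
  rw [mem_stabilizer_iff, X0_smul]
  simp only [Prod.mk.injEq, and_true]
  constructor
  · intro h
    refine ⟨a.2, ?_⟩
    rw [afn_coe]
    have h3 : ((χ : MulAut ↥S) a * s * b⁻¹ : ↥S) = s := h
    have h4 : b = s⁻¹ * (χ : MulAut ↥S) a * s := by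
      have h5 := mul_inv_eq_iff_eq_mul.1 h3
      calc b = s⁻¹ * (s * b) := by group
        _ = s⁻¹ * (χ : MulAut ↥S) a * s := by rw [← h5]; group
    rw [h4]
    simp
  · rintro ⟨-, h⟩
    rw [afn_coe] at h
    have h4 : b = s⁻¹ * (χ : MulAut ↥S) a * s := Subtype.ext (by simpa using h)
    show (χ : MulAut ↥S) a * s * b⁻¹ = s
    rw [h4]
    group

/-- The marks of the graphs of automorphisms of `S` on the starting set. -/
lemma X0_mark {V : Subgroup (Gam S)} (hV : V ∈ GG F) (hp : pr1 V = S) :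
    mark (X0 F) V = Nat.card (Subgroup.center ↥S) := by
  classical
  obtain ⟨P, f, h⟩ := hV
  have hPS : P = S := by rw [← h.pr1_eq, hp]
  subst hPS
  have himg : img f P = P := img_eq_of_card h.maps le_rfl le_rfl (fun x hx => h.maps.mem hx) le_rfl
  let ψ : MulAut ↥P := h.maps.toAut himg
  have hψ : ψ ∈ F.autGroup P := h.maps.toAut_mem himg
  have hψf : ∀ a : ↥P, ((ψ a : ↥P) : Ω) = f a := fun a => by
    have := h.maps.afn_toAut himg a.2
    rwa [afn_coe] at this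
  have hV' : ∀ a b : ↥P, (a, b) ∈ V ↔ b = ψ a := by
    intro a b
    rw [h.mem]
    constructor
    · rintro ⟨-, h2⟩
      exact Subtype.ext (h2.trans (hψf a).symm)
    · intro h2
      exact ⟨a.2, by rw [h2, hψf]⟩
  let q₀ : OutF F := QuotientGroup.mk ⟨ψ, hψ⟩
  obtain ⟨i, hi⟩ := QuotientGroup.mk_out_eq_mul ((autInducedBy P P).subgroupOf (F.autGroup P)) ⟨ψ, hψ⟩
  have hi' : ((i : F.autGroup P) : MulAut ↥P) ∈ autInducedBy P P := i.2
  obtain ⟨g, hg, hgi⟩ := mem_autInducedBy.1 hi'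
  let t : ↥P := ψ ⟨g, hg⟩
  have hout : ∀ a : ↥P, ((Quotient.out q₀ : F.autGroup P) : MulAut ↥P) a = t * ψ a * t⁻¹ := by
    intro a
    have h1 : Quotient.out q₀ = (⟨ψ, hψ⟩ : F.autGroup P) * i := hi
    rw [h1]
    show ψ (((i : F.autGroup P) : MulAut ↥P) a) = t * ψ a * t⁻¹
    have h2 : ((i : F.autGroup P) : MulAut ↥P) a = ⟨g, hg⟩ * a * ⟨g, hg⟩⁻¹ := by
      apply Subtype.ext
      have := hgi a a.2
      rw [afn_coe] at this
      simpa using this
    rw [h2, map_mul, map_mul, map_inv]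
  have hfix : ∀ x : X0 F, x ∈ fixSet (X0 F) V ↔ ∀ a : ↥P,
      ((Quotient.out x.2 : F.autGroup P) : MulAut ↥P) a * x.1 * (ψ a)⁻¹ = x.1 := by
    intro x
    constructor
    · intro hx a
      have h1 := hx (a, ψ a) ((hV' a _).2 rfl)
      rw [X0_smul] at h1
      exact congrArg Prod.fst h1
    · intro hx v hv
      obtain ⟨a, b⟩ := v
      have h1 := (hV' a b).1 hv
      subst h1
      rw [X0_smul]
      exact Prod.ext (hx a) rfl
  symm
  refine Nat.card_congr (Equiv.ofBijective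
    (fun z : Subgroup.center ↥P => (⟨((t * z : ↥P), q₀), ?_⟩ : fixSet (X0 F) V)) ⟨?_, ?_⟩)
  · rw [hfix]
    intro a
    show ((Quotient.out q₀ : F.autGroup P) : MulAut ↥P) a * (t * z) * (ψ a)⁻¹ = t * z
    rw [hout]
    have hz : (z : ↥P) * (ψ a)⁻¹ = (ψ a)⁻¹ * z := (Subgroup.mem_center_iff.1 z.2 _).symm
    calc t * ψ a * t⁻¹ * (t * z) * (ψ a)⁻¹ = t * ψ a * ((z : ↥P) * (ψ a)⁻¹) := by group
      _ = t * z := by rw [hz]; group
  · intro z z' hzz
    have h1 : t * (z : ↥P) = t * z' := congrArg (fun x : fixSet (X0 F) V => x.1.1) hzz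
    exact Subtype.ext (mul_left_cancel h1)
  · rintro ⟨⟨s, q⟩, hx⟩
    have hx' := (hfix _).1 hx
    simp only at hx'
    -- `q = q₀`
    have hq : q = q₀ := by
      rw [← QuotientGroup.out_eq' q]
      symm
      rw [QuotientGroup.eq]
      show (ψ⁻¹ * ((Quotient.out q : F.autGroup P) : MulAut ↥P)) ∈ autInducedBy P P
      rw [mem_autInducedBy]
      refine ⟨(ψ⁻¹ s : ↥P), (ψ⁻¹ s : ↥P).2, fun x hx1 => ?_⟩
      have h3 : ∀ a : ↥P, ((Quotient.out q : F.autGroup P) : MulAut ↥P) a = s * ψ a * s⁻¹ := by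
        intro a
        have := hx' a
        rw [mul_inv_eq_iff_eq_mul] at this
        rw [← this]
        group
      rw [afn_of_mem _ hx1]
      show ((ψ⁻¹ (((Quotient.out q : F.autGroup P) : MulAut ↥P) ⟨x, hx1⟩) : ↥P) : Ω) = _
      rw [h3]
      simp
    subst hq
    have hz : t⁻¹ * s ∈ Subgroup.center ↥P := by
      rw [Subgroup.mem_center_iff]
      intro y
      obtain ⟨a, rfl⟩ := ψ.surjective y
      have h4 := hx' a
      rw [hout, mul_inv_eq_iff_eq_mul] at h4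
      have h5 : t⁻¹ * s * ψ a = ψ a * (t⁻¹ * s) := by
        have : s * ψ a = t * ψ a * t⁻¹ * s := h4.symm
        calc t⁻¹ * s * ψ a = t⁻¹ * (s * ψ a) := by group
          _ = ψ a * (t⁻¹ * s) := by rw [this]; group
      exact h5.symm
    refine ⟨⟨_, hz⟩, ?_⟩
    apply Subtype.ext
    refine Prod.ext ?_ rfl
    show t * (t⁻¹ * s) = s
    group

end Top

/-! ### The characteristic biset -/

section Main

variable [Finite S] {p : ℕ} [Fact p.Prime]

/-- **The characteristic biset** of a saturated fusion system. -/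
theorem exists_biset (hS : IsPGroup p S) (hF : F.IsSaturated p) :
    ∃ (X : Type u) (_ : Finite X) (_ : MulAction (Gam S) X), (∀ x : X, stabilizer (Gam S) x ∈ GG F) ∧
      (∀ V ∈ GG F, ∀ V' ∈ GG F, rr F V V' → mark X V = mark X V') ∧
      ¬ (p * Nat.card S) ∣ Nat.card X := by
  classical
  have hsys := sys_graph hS hF
  let 𝒮 : Set (Subgroup (Gam S)) := {V | V ∈ GG F ∧ pr1 V = S}
  have hAut : Finite (MulAut ↥S) := finite_mulAut (P := S) le_rfl
  haveI : Finite (F.autGroup S) := inferInstance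
  haveI : Finite (OutF F) := inferInstance
  have hst := exists_stable (𝒢 := GG F) (r := rr F) hsys (p * Nat.card S) _ 𝒮
    (by
      rintro V ⟨hV, hV1⟩ V' hV' ⟨-, -, h3⟩
      refine ⟨hV', ?_⟩
      rw [hV1] at h3
      have := IsConj_card h3
      exact Subgroup.eq_of_le_of_card_ge (pr1_le V') this.le)
    (fun V hV => hV.1)
    (by
      rintro V ⟨⟨P, f, hV⟩, hV1⟩ V' ⟨P', f', hV'⟩ hlt
      exfalso
      rw [hV.card, hV'.card] at hlt
      rw [hV.pr1_eq] at hV1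
      subst hV1
      have := Subgroup.card_le_of_le hV'.maps.le
      omega)
    (by
      rintro V ⟨P, f, hV⟩ hVS
      have hne : P ≠ S := fun h => hVS ⟨⟨P, f, hV⟩, by rw [hV.pr1_eq, h]⟩
      have hPS := hV.maps.le
      -- the index of `P` in `S`
      let i := (P.subgroupOf S).index
      have h1 : Nat.card P * i = Nat.card S := by
        have := Subgroup.card_mul_index (P.subgroupOf S)
        rwa [Nat.card_congr (Subgroup.subgroupOfEquivOfLe hPS).toEquiv] at this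
      have h2 : Nat.card V * V.index = Nat.card S * Nat.card S := by
        rw [Subgroup.card_mul_index, Nat.card_prod]
      have h3 : V.index = Nat.card S * i := by
        rw [hV.card] at h2
        have h4 : 0 < Nat.card P := by
          haveI := finite_of_le hPS
          exact Nat.card_pos
        apply Nat.eq_of_mul_eq_mul_left h4
        rw [h2]
        nth_rw 1 [← h1]
        ring
      have h4 : p ∣ i := by
        obtain ⟨n, hn⟩ := IsPGroup.iff_card.1 hS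
        have h5 : i ∣ p ^ n := hn ▸ ⟨_, (h1.symm.trans (mul_comm _ _))⟩
        obtain ⟨m, -, hm⟩ := (Nat.dvd_prime_pow (Fact.out)).1 h5
        have h6 : i ≠ 1 := by
          intro h7
          apply hne
          have h8 : Nat.card P = Nat.card S := by rw [← h1, h7, mul_one]
          exact Subgroup.eq_of_le_of_card_ge hPS h8.ge
        rw [hm] at h6 ⊢
        rcases m with _ | m
        · simp at h6
        · exact dvd_pow_self p (by omega)
      rw [h3, mul_comm]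
      exact mul_dvd_mul_left _ h4)
    le_rfl (X0 F) X0_stab
    (by
      rintro V ⟨hV, hV1⟩ V' ⟨hV', hV'1⟩ -
      rw [X0_mark hV hV1, X0_mark hV' hV'1])
  obtain ⟨X, i1, i2, h1, h2, h3⟩ := hst
  refine ⟨X, i1, i2, h1, h2, ?_⟩
  intro hdvd
  have h4 : (p * Nat.card S) ∣ Nat.card (X0 F) := (Nat.modEq_zero_iff_dvd.1
    (h3.symm.trans (Nat.modEq_zero_iff_dvd.2 hdvd)))
  rw [Nat.card_prod, mul_comm] at h4
  have hS0 : 0 < Nat.card S := Nat.card_pos
  have h5 : p ∣ Nat.card (OutF F) := by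
    exact Nat.dvd_of_mul_dvd_mul_left hS0 h4
  -- `S` is fully automized
  obtain ⟨Q, hQ, hQ1, -⟩ := hF S le_rfl
  have hQS : Q = S := by
    have := IsConj_card hQ
    exact Subgroup.eq_of_le_of_card_ge hQ1.1 this.le
  subst hQS
  obtain ⟨-, R, hR⟩ := hQ1
  have h6 := R.not_dvd_index
  rw [hR] at h6
  exact h6 h5

end Main

end Cfsg.Agent.Lib.FusionBiset
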