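/-
FusionTransfer: the transfer of a saturated fusion system, from its characteristic biset.
-/
import Mathlib
import Cfsg.Agent.Lib.FusionBiset

set_option autoImplicit false

namespace Cfsg.Agent.Lib.FusionTransfer

open Cfsg Cfsg.FusionSystem Cfsg.Agent.Lib.FusionCore Cfsg.Agent.Lib.StableSet Cfsg.Agent.Lib.FusionBiset MulAction

universe u v

/-- A potential: a map equivariant for the translation action through a homomorphism trivial on stabilizers. -/
lemma exists_potential {H : Type*} [Group H] {X : Type*} [MulAction H X] {A : Type*} [CommGroup A]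
    (ξ : H →* A) (hξ : ∀ (x : X) (h : H), h • x = x → ξ h = 1) :
    ∃ ℓ : X → A, ∀ (h : H) (x : X), ℓ (h • x) = ξ h * ℓ x := by
  classical
  have hk : ∀ x : X, ∃ k : H, k • (Quotient.out (Quotient.mk (orbitRel H X) x)) = x := by
    intro x
    have : (Quotient.out (Quotient.mk (orbitRel H X) x)) ∈ orbit H x :=
      Quotient.mk_out (s := orbitRel H X) x
    obtain ⟨k, hk⟩ := this
    refine ⟨k⁻¹, ?_⟩
    rw [← hk]
    simp
  choose k hk using hk
  refine ⟨fun x => ξ (k x), ?_⟩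
  intro h x
  have h1 : Quotient.mk (orbitRel H X) (h • x) = Quotient.mk (orbitRel H X) x :=
    Quotient.sound (show (orbitRel H X) (h • x) x from ⟨h, rfl⟩)
  have h2 := hk (h • x)
  have h3 := hk x
  rw [h1] at h2
  have h4 : ((k x)⁻¹ * h⁻¹ * k (h • x)) • (Quotient.out (Quotient.mk (orbitRel H X) x)) =
      Quotient.out (Quotient.mk (orbitRel H X) x) := by
    rw [mul_smul, mul_smul, h2, inv_smul_smul]
    exact inv_smul_eq_iff.2 h3.symm
  have h5 := hξ _ _ h4
  simp only [map_mul, map_inv] at h5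
  show ξ (k (h • x)) = ξ h * ξ (k x)
  have h6 : (ξ (k x))⁻¹ * (ξ h)⁻¹ * ξ (k (h • x)) = 1 := h5
  calc ξ (k (h • x)) = (ξ h * ξ (k x)) * ((ξ (k x))⁻¹ * (ξ h)⁻¹ * ξ (k (h • x))) := by
        simp [mul_comm, mul_left_comm, mul_assoc]
    _ = ξ h * ξ (k x) := by rw [h6, mul_one]

variable {Ω : Type u} [Group Ω] {S : Subgroup Ω} {F : FusionSystem S}

section RightAction

variable {X : Type u} [MulAction (Gam S) X]

/-- Right multiplication on the biset. -/
def rm (x : X) (a : ↥S) : X := ((1, a⁻¹) : Gam S) • x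

lemma rm_rm (x : X) (a b : ↥S) : rm (rm x a) b = rm x (a * b) := by
  simp only [rm, smul_smul, Prod.mk_mul_mk, mul_one, mul_inv_rev]

lemma rm_one (x : X) : rm x (1 : ↥S) = x := by
  simp only [rm, inv_one]
  exact one_smul _ _

lemma smul_rm (g : Gam S) (x : X) (a : ↥S) : g • rm x a = ((g.1, g.2 * a⁻¹) : Gam S) • x := by
  rcases g with ⟨g1, g2⟩
  simp [rm, smul_smul]

/-- The setoid of right orbits. -/
def rset (X : Type u) [MulAction (Gam S) X] : Setoid X where
  r x y := ∃ a : ↥S, rm x a = y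
  iseqv :=
    { refl := fun x => ⟨1, rm_one x⟩
      symm := by
        rintro x y ⟨a, rfl⟩
        exact ⟨a⁻¹, by rw [rm_rm, mul_inv_cancel, rm_one]⟩
      trans := by
        rintro x y z ⟨a, rfl⟩ ⟨b, rfl⟩
        exact ⟨a * b, (rm_rm x a b).symm⟩ }

/-- The set of right orbits. -/
abbrev OrbI (X : Type u) [MulAction (Gam S) X] : Type u := Quotient (rset (S := S) X)

/-- The transversal. -/
noncomputable def sig (i : OrbI (S := S) X) : X := Quotient.out i

lemma mk_sig (i : OrbI (S := S) X) : (Quotient.mk (rset (S := S) X) (sig i)) = i := Quotient.out_eq i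

lemma exists_qq (x : X) : ∃ a : ↥S, rm (sig (Quotient.mk (rset (S := S) X) x)) a = x :=
  Quotient.mk_out (s := rset (S := S) X) x

/-- The coordinate of a point. -/
noncomputable def qq (x : X) : ↥S := (exists_qq (S := S) x).choose

lemma qq_spec (x : X) : rm (sig (Quotient.mk (rset (S := S) X) x)) (qq (S := S) x) = x :=
  (exists_qq (S := S) x).choose_spec

lemma mk_rm (x : X) (a : ↥S) : Quotient.mk (rset (S := S) X) (rm x a) = Quotient.mk (rset (S := S) X) x :=
  Quotient.sound (show (rset (S := S) X) (rm x a) x from (rset (S := S) X).symm ⟨a, rfl⟩)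

end RightAction

section Free

variable {X : Type u} [MulAction (Gam S) X]

/-- Right multiplication is free when the stabilizers are graphs. -/
lemma rm_free (hX : ∀ x : X, stabilizer (Gam S) x ∈ GG F) {x : X} {a b : ↥S} (h : rm x a = rm x b) : a = b := by
  obtain ⟨P, f, hg⟩ := hX x
  have h1 : ((1, b * a⁻¹) : Gam S) • x = x := by
    have h2 : ((1, b) : Gam S) • rm x a = ((1, b) : Gam S) • rm x b := by rw [h]
    simp only [rm, smul_smul, Prod.mk_mul_mk, mul_one, mul_inv_cancel] at h2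
    rw [h2]
    exact one_smul _ _
  have h3 := ((hg.mem _ _).1 (mem_stabilizer_iff.2 h1)).2
  rw [OneMemClass.coe_one, hg.maps.map_one] at h3
  have h4 : b * a⁻¹ = 1 := Subtype.ext h3
  have h5 := mul_inv_eq_one.1 h4
  exact h5.symm

lemma qq_rm (hX : ∀ x : X, stabilizer (Gam S) x ∈ GG F) (x : X) (a : ↥S) : qq (rm x a) = qq x * a := by
  apply rm_free hX (x := sig (Quotient.mk (rset (S := S) X) x))
  have h1 := qq_spec (S := S) (rm x a)
  rw [mk_rm] at h1
  rw [h1, ← rm_rm, qq_spec (S := S) x]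

lemma qq_rm_sig (hX : ∀ x : X, stabilizer (Gam S) x ∈ GG F) (i : OrbI (S := S) X) (a : ↥S) :
    qq (rm (sig i) a) = a := by
  apply rm_free hX (x := sig i)
  have h1 := qq_spec (S := S) (rm (sig i) a)
  rw [mk_rm, mk_sig] at h1
  exact h1

/-- `|X| = |I| |S|`. -/
lemma card_X (hX : ∀ x : X, stabilizer (Gam S) x ∈ GG F) :
    Nat.card X = Nat.card (OrbI (S := S) X) * Nat.card S := by
  rw [← Nat.card_prod]
  refine Nat.card_congr
    { toFun := fun x => (Quotient.mk _ x, qq x)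
      invFun := fun y => rm (sig y.1) y.2
      left_inv := fun x => qq_spec x
      right_inv := fun y => ?_ }
  rcases y with ⟨i, a⟩
  refine Prod.ext ?_ (qq_rm_sig hX i a)
  show Quotient.mk _ (rm (sig i) a) = i
  rw [mk_rm, mk_sig]

/-- The automorphisms of the right action. -/
def GX (S : Subgroup Ω) (X : Type u) [MulAction (Gam S) X] : Subgroup (Equiv.Perm X) where
  carrier := {g | ∀ (x : X) (a : ↥S), g (rm x a) = rm (g x) a}
  mul_mem' := by
    intro g h hg hh x a
    show g (h (rm x a)) = rm (g (h x)) a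
    rw [hh, hg]
  one_mem' := fun x a => rfl
  inv_mem' := by
    intro g hg x a
    apply g.injective
    rw [hg]
    simp

/-- The induced permutation of the right orbits. -/
def bar (g : GX S X) : Equiv.Perm (OrbI (S := S) X) :=
  Quotient.congr g.1 (by
    intro x y
    constructor
    · rintro ⟨a, rfl⟩
      exact ⟨a, (g.2 x a).symm⟩
    · rintro ⟨a, ha⟩
      refine ⟨a, g.1.injective ?_⟩
      rw [g.2 x a]
      exact ha)

lemma bar_mk (g : GX S X) (x : X) : bar g (Quotient.mk _ x) = Quotient.mk _ (g.1 x) := rfl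

lemma bar_mul (g h : GX S X) (i : OrbI (S := S) X) : bar (g * h) i = bar g (bar h i) := by
  induction i using Quotient.inductionOn with
  | h x => rfl

/-- The cocycle. -/
noncomputable def cc (g : GX S X) (i : OrbI (S := S) X) : ↥S := qq (g.1 (sig i))

lemma g_sig (g : GX S X) (i : OrbI (S := S) X) : g.1 (sig i) = rm (sig (bar g i)) (cc g i) := by
  have h1 := qq_spec (S := S) (g.1 (sig i))
  have h2 : Quotient.mk (rset (S := S) X) (g.1 (sig i)) = bar g i := by
    rw [← bar_mk, mk_sig]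
  rw [h2] at h1
  exact h1.symm

lemma cc_mul (hX : ∀ x : X, stabilizer (Gam S) x ∈ GG F) (g h : GX S X) (i : OrbI (S := S) X) :
    cc (g * h) i = cc g (bar h i) * cc h i := by
  show qq (g.1 (h.1 (sig i))) = _
  rw [g_sig h i, g.2, qq_rm hX]
  rfl

variable [Finite X] {A : Type v} [CommGroup A]

/-- The generalized transfer on the automorphisms of the right action. -/
noncomputable def DD (hX : ∀ x : X, stabilizer (Gam S) x ∈ GG F) (f : ↥S →* A) : GX S X →* A := by
  classical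
  haveI : Fintype (OrbI (S := S) X) := Fintype.ofFinite _
  exact MonoidHom.mk' (fun g => ∏ i : OrbI (S := S) X, f (cc g i)) (by
    intro g h
    simp only [cc_mul hX, map_mul, Finset.prod_mul_distrib]
    congr 1
    exact (Equiv.prod_comp (bar h) (fun i => f (cc g i))))

/-- Left multiplication. -/
def LL (S : Subgroup Ω) (X : Type u) [MulAction (Gam S) X] : ↥S →* GX S X :=
  MonoidHom.codRestrict ((MulAction.toPermHom (Gam S) X).comp (MonoidHom.inl ↥S ↥S)) _ (by
    intro a x b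
    show (((a, 1) : Gam S) • rm x b) = rm (((a, 1) : Gam S) • x) b
    simp only [rm, smul_smul, Prod.mk_mul_mk, mul_one, one_mul])

lemma LL_apply (a : ↥S) (x : X) : (LL S X a).1 x = ((a, 1) : Gam S) • x := rfl

/-- The transfer. -/
noncomputable def tr (hX : ∀ x : X, stabilizer (Gam S) x ∈ GG F) (f : ↥S →* A) : ↥S →* A :=
  (DD hX f).comp (LL S X)

lemma DD_apply [Fintype (OrbI (S := S) X)] (hX : ∀ x : X, stabilizer (Gam S) x ∈ GG F) (f : ↥S →* A) (g : GX S X) :
    DD hX f g = ∏ i : OrbI (S := S) X, f (cc g i) := by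
  classical
  simp only [DD, MonoidHom.mk'_apply]
  exact Finset.prod_congr (by ext; simp) (fun _ _ => rfl)

/-- **The transfer on elements with a potential.** -/
theorem tr_eq_pow (hX : ∀ x : X, stabilizer (Gam S) x ∈ GG F) (f : ↥S →* A) (C : Subgroup ↥S)
    (hC : ∀ (x : X) (a : ↥S) (b : ↥S), a ∈ C → ((a, b) : Gam S) • x = x → f a = f b)
    {z : ↥S} (hz : z ∈ C) : tr hX f z = f z ^ Nat.card (OrbI (S := S) X) := by
  classical
  haveI : Fintype (OrbI (S := S) X) := Fintype.ofFinite _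
  -- the action of `C × S`
  let ι : ↥C × ↥S →* Gam S := MonoidHom.prodMap C.subtype (MonoidHom.id ↥S)
  letI : MulAction (↥C × ↥S) X := MulAction.compHom X ι
  have hsm : ∀ (h : ↥C × ↥S) (x : X), h • x = ι h • x := fun _ _ => rfl
  let ξ : ↥C × ↥S →* A := MonoidHom.coprod (f.comp C.subtype) f⁻¹
  have hξa : ∀ h : ↥C × ↥S, ξ h = f h.1 * (f h.2)⁻¹ := fun h => rfl
  obtain ⟨ℓ, hℓ⟩ := exists_potential (H := ↥C × ↥S) (X := X) ξ (by
    intro x h hx
    rw [hξa, hC x h.1 h.2 h.1.2 hx]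
    simp)
  have key : ∀ i : OrbI (S := S) X, f (cc (LL S X z) i) =
      f z * ℓ (sig i) * (ℓ (sig (bar (LL S X z) i)))⁻¹ := by
    intro i
    have h1 := g_sig (LL S X z) i
    rw [LL_apply] at h1
    have h2 : ℓ (((z, 1) : Gam S) • sig i) = f z * ℓ (sig i) := by
      have := hℓ (⟨z, hz⟩, 1) (sig i)
      rw [hξa] at this
      have e : ((⟨z, hz⟩, 1) : ↥C × ↥S) • (sig i : X) = ((z, 1) : Gam S) • sig i := rfl
      rw [e] at this
      simpa using this
    have h3 : ℓ (rm (sig (bar (LL S X z) i)) (cc (LL S X z) i)) =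
        f (cc (LL S X z) i) * ℓ (sig (bar (LL S X z) i)) := by
      have := hℓ ((1 : ↥C), (cc (LL S X z) i)⁻¹) (sig (bar (LL S X z) i))
      rw [hξa] at this
      have e : (((1 : ↥C), (cc (LL S X z) i)⁻¹) : ↥C × ↥S) • (sig (bar (LL S X z) i) : X) =
          rm (sig (bar (LL S X z) i)) (cc (LL S X z) i) := rfl
      rw [e] at this
      simpa using this
    rw [h1, h3] at h2
    rw [← h2]
    simp
  show DD hX f (LL S X z) = _
  rw [DD_apply]
  simp only [key, Finset.prod_mul_distrib, Finset.prod_inv_distrib]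
  rw [Equiv.prod_comp (bar (LL S X z)) (fun i => ℓ (sig i))]
  simp [Finset.prod_const, Nat.card_eq_fintype_card]

/-- Elements of the stabilizers come from maps of `F`. -/
lemma stab_maps (hX : ∀ x : X, stabilizer (Gam S) x ∈ GG F) (x : X) (a b : ↥S) (h : ((a, b) : Gam S) • x = x) :
    ∃ P f, Maps F P f ∧ (a : Ω) ∈ P ∧ (b : Ω) = f a := by
  obtain ⟨P, f, hg⟩ := hX x
  obtain ⟨h1, h2⟩ := (hg.mem a b).1 (mem_stabilizer_iff.2 h)
  exact ⟨P, f, hg.maps, h1, h2⟩

/-- Marks and the two actions of `P × S`: the isomorphism. -/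
theorem exists_conj_of_marks (hX : ∀ x : X, stabilizer (Gam S) x ∈ GG F)
    (hm : ∀ V ∈ GG F, ∀ V' ∈ GG F, rr F V V' → mark X V = mark X V')
    {P : Subgroup Ω} {f : Ω → Ω} (hf : Maps F P f) [Finite S] :
    ∃ g : GX S X, ∀ (u : ↥S) (hu : (u : Ω) ∈ P) (x : X),
      g.1 (((u, 1) : Gam S) • x) = ((⟨f u, hf.mem hu⟩, 1) : Gam S) • g.1 x := by
  classical
  have hPS := hf.le
  haveI : Finite P := finite_of_le hPS
  let φ : ↥P →* ↥S := hf.hom.codRestrict S (fun x => by
    rw [hf.hom_apply]; exact hf.mem x.2)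
  have hφ : ∀ x : ↥P, ((φ x : ↥S) : Ω) = f x := fun x => hf.hom_apply x
  let ι₁ : ↥P × ↥S →* Gam S := MonoidHom.prodMap (Subgroup.inclusion hPS) (MonoidHom.id ↥S)
  let ι₂ : ↥P × ↥S →* Gam S := MonoidHom.prodMap φ (MonoidHom.id ↥S)
  let a₁ : MulAction (↥P × ↥S) X := MulAction.compHom X ι₁
  let a₂ : MulAction (↥P × ↥S) X := MulAction.compHom X ι₂
  have hmark : ∀ V : Subgroup (↥P × ↥S), mark X (V.map ι₁) = mark X (V.map ι₂) := by
    intro V
    obtain ⟨g₀, hg₀, hg1, hg2⟩ := hf.inv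
    have hrel : ∀ a b : ↥S, (a, b) ∈ V.map ι₂ ↔ ∃ c d : ↥S, (c, d) ∈ V.map ι₁ ∧ (a : Ω) = f c ∧ (b : Ω) = _root_.id d := by
      intro a b
      constructor
      · rintro ⟨⟨u, s⟩, hv, he⟩
        refine ⟨⟨u, hPS u.2⟩, s, ⟨(u, s), hv, rfl⟩, ?_, ?_⟩
        · have : φ u = a := congrArg Prod.fst he
          rw [← this]
          exact hφ u
        · have : s = b := congrArg Prod.snd he
          rw [← this]
          rfl
      · rintro ⟨c, d, ⟨⟨u, s⟩, hv, he⟩, h1, h2⟩
        have e1 : (u : Ω) = c := congrArg (fun x => ((x.1 : ↥S) : Ω)) he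
        have e2 : s = d := congrArg Prod.snd he
        refine ⟨(u, s), hv, Prod.ext (Subtype.ext ?_) ?_⟩
        · show ((φ u : ↥S) : Ω) = a
          rw [hφ, e1, h1]
        · show s = b
          rw [e2]
          exact Subtype.ext h2.symm
    have hrel' : ∀ a b : ↥S, (a, b) ∈ V.map ι₁ ↔ ∃ c d : ↥S, (c, d) ∈ V.map ι₂ ∧ (a : Ω) = g₀ c ∧ (b : Ω) = _root_.id d := by
      intro a b
      constructor
      · intro hab
        have hau : (a : Ω) ∈ P := by
          obtain ⟨⟨u, s⟩, hv, he⟩ := hab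
          have e1 : (u : Ω) = a := congrArg (fun x => ((x.1 : ↥S) : Ω)) he
          exact e1 ▸ u.2
        refine ⟨⟨f a, hf.mem hau⟩, b, (hrel _ _).2 ⟨a, b, hab, rfl, rfl⟩, (hg1 _ hau).symm, rfl⟩
      · rintro ⟨c, d, hcd, h1, h2⟩
        obtain ⟨c', d', hc'd', h3, h4⟩ := (hrel _ _).1 hcd
        have hc' : (c' : Ω) ∈ P := by
          obtain ⟨⟨u, s⟩, hv, he⟩ := hc'd'
          have e1 : (u : Ω) = c' := congrArg (fun x => ((x.1 : ↥S) : Ω)) he
          exact e1 ▸ u.2
        have e1 : a = c' := Subtype.ext (by rw [h1, h3]; exact hg1 _ hc')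
        have e2 : b = d' := Subtype.ext (h2.trans h4)
        rw [e1, e2]
        exact hc'd'
    have hle1 : ∀ W : Subgroup (Gam S), W = V.map ι₁ → pr1 W ≤ P := by
      rintro W rfl x hx
      obtain ⟨a, b, ⟨⟨u, s⟩, hv, he⟩, rfl⟩ := mem_pr1.1 hx
      have e1 : (u : Ω) = a := congrArg (fun x => ((x.1 : ↥S) : Ω)) he
      exact e1 ▸ u.2
    by_cases hV : V.map ι₁ ∈ GG F
    · obtain ⟨P₁, f₁, h₁⟩ := hV
      have hP₁ : P₁ ≤ P := h₁.pr1_eq ▸ hle1 _ rfl
      obtain ⟨g, hg⟩ := h₁.transport (V₂ := V.map ι₂) (u := f) (v := _root_.id) (Pu := P) (Pv := S) hf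
        (Maps.id le_rfl) hP₁ (fun x hx => h₁.maps.mem hx) hrel
      refine hm _ ⟨_, _, h₁⟩ _ ⟨_, _, hg⟩ ⟨⟨_, _, h₁⟩, ⟨_, _, hg⟩, ?_⟩
      rw [h₁.pr1_eq, hg.pr1_eq, FusionCore.isConj_iff]
      exact ⟨f, hf.restrict hP₁, rfl⟩
    · have hV2 : V.map ι₂ ∉ GG F := by
        rintro ⟨P₂, f₂, h₂⟩
        apply hV
        obtain ⟨g, hg⟩ := h₂.transport (V₂ := V.map ι₁) (u := g₀) (v := _root_.id) (Pu := img f P) (Pv := S) hg₀
          (Maps.id le_rfl)
          (by
            intro x hx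
            rw [← h₂.pr1_eq] at hx
            obtain ⟨a, b, hab, rfl⟩ := mem_pr1.1 hx
            obtain ⟨c, d, hcd, h3, -⟩ := (hrel a b).1 hab
            rw [h3]
            exact hf.mem_img_of_mem (hle1 _ rfl (mem_pr1.2 ⟨c, d, hcd, rfl⟩)))
          (fun x hx => h₂.maps.mem hx) hrel'
        exact ⟨_, _, hg⟩
      rw [mark_eq_zero_of (fun x hx => hV (GG_down (hX x) hx)),
        mark_eq_zero_of (fun x hx => hV2 (GG_down (hX x) hx))]
  have hb := @burnside (↥P × ↥S) _ _ X X _ _ a₁ a₂ (fun V => by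
    have h1 : @mark _ _ X a₁ V = mark X (V.map ι₁) := by
      refine Nat.card_congr (Equiv.setCongr ?_)
      ext x
      constructor
      · rintro hx _ ⟨v, hv, rfl⟩
        exact hx v hv
      · intro hx v hv
        exact hx _ ⟨v, hv, rfl⟩
    have h2 : @mark _ _ X a₂ V = mark X (V.map ι₂) := by
      refine Nat.card_congr (Equiv.setCongr ?_)
      ext x
      constructor
      · rintro hx _ ⟨v, hv, rfl⟩
        exact hx v hv
      · intro hx v hv
        exact hx _ ⟨v, hv, rfl⟩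
    rw [h1, h2]
    exact hmark V)
  obtain ⟨e, he⟩ := hb
  have he' : ∀ (h : ↥P × ↥S) (x : X), e (ι₁ h • x) = ι₂ h • e x := he
  refine ⟨⟨e, ?_⟩, ?_⟩
  · intro x a
    have := he' (1, a⁻¹) x
    have e1 : ι₁ (1, a⁻¹) = ((1, a⁻¹) : Gam S) := rfl
    have e2 : ι₂ (1, a⁻¹) = ((1, a⁻¹) : Gam S) := by
      refine Prod.ext ?_ rfl
      exact map_one φ
    rw [e1, e2] at this
    exact this
  · intro u hu x
    have := he' (⟨u, hu⟩, 1) x
    have e1 : ι₁ (⟨u, hu⟩, 1) = ((u, 1) : Gam S) := rfl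
    have e2 : ι₂ (⟨u, hu⟩, 1) = ((⟨f u, hf.mem hu⟩, 1) : Gam S) := by
      refine Prod.ext (Subtype.ext ?_) rfl
      exact hφ ⟨u, hu⟩
    rw [e1, e2] at this
    exact this

/-- **The transfer is stable.** -/
theorem tr_stable [Finite S] (hX : ∀ x : X, stabilizer (Gam S) x ∈ GG F)
    (hm : ∀ V ∈ GG F, ∀ V' ∈ GG F, rr F V V' → mark X V = mark X V') (f₀ : ↥S →* A)
    {P : Subgroup Ω} {f : Ω → Ω} (hf : Maps F P f) (u : ↥S) (hu : (u : Ω) ∈ P) :
    tr hX f₀ ⟨f u, hf.mem hu⟩ = tr hX f₀ u := by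
  obtain ⟨g, hg⟩ := exists_conj_of_marks hX hm hf
  have h1 : LL S X ⟨f u, hf.mem hu⟩ = g * LL S X u * g⁻¹ := by
    apply Subtype.ext
    ext x
    show ((⟨f u, hf.mem hu⟩, 1) : Gam S) • x = g.1 (((u, 1) : Gam S) • g.1⁻¹ x)
    rw [hg u hu]
    simp
  show DD hX f₀ (LL S X _) = DD hX f₀ (LL S X u)
  rw [h1, map_mul, map_mul, map_inv]
  simp [mul_comm]

end Free

section Main

variable [Finite S] {p : ℕ} [Fact p.Prime]

/-- **The fusion transfer.** -/
theorem exists_transfer (hS : IsPGroup p S) (hF : F.IsSaturated p) :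
    ∃ (X : Type u) (_ : Finite X) (_ : MulAction (Gam S) X) (_ : ∀ x : X, stabilizer (Gam S) x ∈ GG F),
      (∀ V ∈ GG F, ∀ V' ∈ GG F, rr F V V' → mark X V = mark X V') ∧ ¬ p ∣ Nat.card (OrbI (S := S) X) := by
  obtain ⟨X, i1, i2, h1, h2, h3⟩ := exists_biset hS hF
  refine ⟨X, i1, i2, h1, h2, ?_⟩
  intro hp
  apply h3
  rw [card_X h1]
  exact mul_dvd_mul_right hp _

end Main

end Cfsg.Agent.Lib.FusionTransfer
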