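/-
FusionTrfApps: first consequences of the fusion transfer.
-/
import Mathlib
import Cfsg.Agent.Lib.FusionTransfer

set_option autoImplicit false

namespace Cfsg.Agent.Lib.FusionTrfApps

open Cfsg Cfsg.FusionSystem Cfsg.Agent.Lib.FusionCore Cfsg.Agent.Lib.StableSet Cfsg.Agent.Lib.FusionBiset
open Cfsg.Agent.Lib.FusionTransfer MulAction

universe u v

variable {Ω : Type u} [Group Ω] {S : Subgroup Ω} {F : FusionSystem S}

/-- The product of two central subgroups is central. -/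
lemma isCentral_sup {Q₁ Q₂ : Subgroup Ω} (h₁ : F.IsCentral Q₁) (h₂ : F.IsCentral Q₂) : F.IsCentral (Q₁ ⊔ Q₂) := by
  obtain ⟨hQ₁, hC₁⟩ := isCentral_iff.1 h₁
  obtain ⟨hQ₂, hC₂⟩ := isCentral_iff.1 h₂
  refine isCentral_iff.2 ⟨sup_le hQ₁ hQ₂, fun P f hf => ?_⟩
  obtain ⟨g₁, hg₁, h1, h2⟩ := hC₁ P f hf
  obtain ⟨g₂, hg₂, h3, h4⟩ := hC₂ _ g₁ hg₁
  have hle : P ⊔ (Q₁ ⊔ Q₂) ≤ (P ⊔ Q₁) ⊔ Q₂ := by
    refine sup_le (le_sup_left.trans le_sup_left) (sup_le (le_sup_right.trans le_sup_left) le_sup_right)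
  have hg₂' : Maps F (P ⊔ (Q₁ ⊔ Q₂)) g₂ := hg₂.restrict hle
  refine ⟨g₂, hg₂', fun x hx => ?_, ?_⟩
  · rw [h3 x (mem_sup_of_mem_left hx), h1 x hx]
  · intro x hx
    have hall : (Q₁ ⊔ Q₂) ≤ (Subgroup.closure {y | y ∈ (Q₁ ⊔ Q₂) ∧ g₂ y = y}) := by
      refine sup_le (fun y hy => Subgroup.subset_closure ⟨mem_sup_of_mem_left hy, ?_⟩)
        (fun y hy => Subgroup.subset_closure ⟨mem_sup_of_mem_right hy, h4 y hy⟩)
      rw [h3 y (mem_sup_of_mem_right hy), h2 y hy]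
    have := hall hx
    induction this using Subgroup.closure_induction with
    | mem y hy => exact hy.2
    | one => exact hg₂.map_one
    | mul a b ha hb iha ihb =>
      have ha' : a ∈ Q₁ ⊔ Q₂ := (Subgroup.closure_le _).2 (fun y hy => hy.1) ha
      have hb' : b ∈ Q₁ ⊔ Q₂ := (Subgroup.closure_le _).2 (fun y hy => hy.1) hb
      have hle' : Q₁ ⊔ Q₂ ≤ (P ⊔ Q₁) ⊔ Q₂ := hle.trans' le_sup_right
      rw [hg₂.map_mul (hle' ha') (hle' hb'), iha ha', ihb hb']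
    | inv a ha iha =>
      have ha' : a ∈ Q₁ ⊔ Q₂ := (Subgroup.closure_le _).2 (fun y hy => hy.1) ha
      have hle' : Q₁ ⊔ Q₂ ≤ (P ⊔ Q₁) ⊔ Q₂ := hle.trans' le_sup_right
      rw [hg₂.map_inv (hle' ha'), iha ha']

/-- The centre is central. -/
theorem isCentral_center [Finite S] : F.IsCentral F.center := by
  classical
  have hbot : F.IsCentral ⊥ := by
    refine isCentral_iff.2 ⟨bot_le, fun P f hf => ⟨f, ?_, fun _ _ => rfl, fun x hx => ?_⟩⟩
    · rwa [sup_bot_eq]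
    · rw [Subgroup.mem_bot.1 hx]
      exact hf.map_one
  let A : Set ℕ := {n | ∃ Q, F.IsCentral Q ∧ n = Nat.card Q}
  have hne : A.Nonempty := ⟨_, ⊥, hbot, rfl⟩
  have hbdd : BddAbove A := by
    refine ⟨Nat.card S, ?_⟩
    rintro n ⟨Q, hQ, rfl⟩
    exact Subgroup.card_le_of_le hQ.1
  obtain ⟨Q, hQ, hQn⟩ := Nat.sSup_mem hne hbdd
  have hmax : ∀ Q', F.IsCentral Q' → Q' ≤ Q := by
    intro Q' hQ'
    have h1 : F.IsCentral (Q ⊔ Q') := isCentral_sup hQ hQ'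
    have h2 : Nat.card (Q ⊔ Q' : Subgroup Ω) ≤ Nat.card Q := by
      rw [← hQn]
      exact le_csSup hbdd ⟨_, h1, rfl⟩
    haveI := finite_of_le h1.1
    have h3 := Subgroup.eq_of_le_of_card_ge (le_sup_left : Q ≤ Q ⊔ Q') h2
    rw [h3]
    exact le_sup_right
  have : F.center = Q := le_antisymm (sSup_le hmax) (le_sSup hQ)
  rw [this]
  exact hQ

/-- Elements of the centre are fixed by all maps. -/
lemma center_fixed [Finite S] {z : Ω} (hz : z ∈ F.center) {P : Subgroup Ω} {f : Ω → Ω} (hf : Maps F P f)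
    (hzP : z ∈ P) : f z = z := by
  obtain ⟨-, hC⟩ := isCentral_iff.1 (isCentral_center (F := F))
  obtain ⟨g, -, h1, h2⟩ := hC P f hf
  rw [← h1 z hzP, h2 z hz]

lemma center_le [Finite S] : F.center ≤ S := (isCentral_center (F := F)).1

/-- `S' ≤ foc(F)`. -/
lemma commutator_le_focal : ⁅S, S⁆ ≤ F.focalSubgroup := by
  rw [Subgroup.commutator_le]
  intro h hh k hk
  have hm : Maps F S (fun x => k * x * k⁻¹) := Maps.conj le_rfl hk
  refine Subgroup.subset_closure ⟨S, hm.hom, ⟨h⁻¹, S.inv_mem hh⟩, hm.hom_mem, ?_⟩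
  rw [hm.hom_apply]
  simp [commutatorElement_def, mul_assoc]

/-- `foc(F) ≤ S`. -/
lemma focal_le : F.focalSubgroup ≤ S := by
  refine (Subgroup.closure_le _).2 ?_
  rintro _ ⟨P, φ, x, hφ, rfl⟩
  have h := F.le_of_mem hφ
  exact S.mul_mem (S.inv_mem (h.1 x.2)) (h.2 x)

section Tr

variable {X : Type u} [Finite X] [MulAction (Gam S) X] [Finite S]

/-- The transfer is trivial on the focal subgroup. -/
lemma tr_focal {A : Type v} [CommGroup A] (hX : ∀ x : X, stabilizer (Gam S) x ∈ GG F)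
    (hm : ∀ V ∈ GG F, ∀ V' ∈ GG F, rr F V V' → mark X V = mark X V') (f₀ : ↥S →* A) {z : Ω}
    (hz : z ∈ F.focalSubgroup) (hzS : z ∈ S) : tr hX f₀ ⟨z, hzS⟩ = 1 := by
  have key : F.focalSubgroup ≤ (tr hX f₀).ker.map S.subtype := by
    refine (Subgroup.closure_le _).2 ?_
    rintro _ ⟨P, φ, x, hφ, rfl⟩
    have hf : Maps F P (fn φ) := Maps.of_mem hφ
    have hxS : (x : Ω) ∈ S := hf.le x.2
    have h1 := tr_stable hX hm f₀ hf ⟨x, hxS⟩ x.2
    refine ⟨(⟨x, hxS⟩ : ↥S)⁻¹ * ⟨fn φ x, hf.mem x.2⟩, ?_, ?_⟩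
    · rw [SetLike.mem_coe, MonoidHom.mem_ker, map_mul, map_inv, h1]
      simp
    · simp
  obtain ⟨y, hy, rfl⟩ := key hz
  exact hy

end Tr

end Cfsg.Agent.Lib.FusionTrfApps
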