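/-
FusionFocalCtl: a positive characteristic functor `W` that controls the `O_p` part of the focal subgroup in the models of constrained
systems controls the focal subgroup of every saturated fusion system: `foc(F) = foc(N_F(W(S)))`.
-/
import Mathlib
import Cfsg.Agent.Lib.FusionGlaub4
import Cfsg.Agent.Lib.FusionTrfApps
import Cfsg.Agent.Lib.FusionCentralElt
import Cfsg.Agent.S5145

set_option autoImplicit false

namespace Cfsg.Agent.Lib.FusionFocalCtl

open Cfsg Cfsg.FusionSystem Cfsg.Agent.Lib.FusionCore Cfsg.Agent.Lib.FusionCore2 Cfsg.Agent.Lib.FusionGT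
open Cfsg.Agent.Lib.FusionMono Cfsg.Agent.Lib.PCore
open Cfsg.Agent.Lib.FusionGlaub1 (meas meas_lt)
open Cfsg.Agent.Lib.FusionSatNorm Cfsg.Agent.Lib.FusionCore3
open Cfsg.Agent.Lib.FusionNormalQuot Cfsg.Agent.Lib.FusionFactor Cfsg.Agent.Lib.FusionStrongClosed
open Cfsg.Agent.Lib.FusionQuotSat
open Cfsg.Agent.Lib.FusionTransfer Cfsg.Agent.Lib.FusionTrfApps Cfsg.Agent.Lib.StableSet Cfsg.Agent.Lib.FusionBiset
open Cfsg.Agent.Lib.FusionIndexPrime Cfsg.Agent.Lib.FusionGlaub3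
open Cfsg.Agent.Lib.FusionCentralElt (isFullyNormalized_self isCentric_self card_le_normalizerIn)
open scoped commutatorElement

universe u

section Basic

variable {Ω : Type*} [Group Ω] {S : Subgroup Ω} {F : FusionSystem S}

/-- The maps of `N_F(V)` whose source contains `V`. -/
def NM (F : FusionSystem S) (V R : Subgroup Ω) (f : Ω → Ω) : Prop :=
  Maps F R f ∧ V ≤ R ∧ R ≤ normalizerIn S V ∧ img f V = V

/-- The focal subgroup of `N_F(V)`, read on maps of `F`. -/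
def focN (F : FusionSystem S) (V : Subgroup Ω) : Subgroup Ω :=
  Subgroup.closure {z | ∃ R f x, NM F V R f ∧ x ∈ R ∧ z = x⁻¹ * f x}

lemma mem_focN {V R : Subgroup Ω} {f : Ω → Ω} (h : NM F V R f) {x : Ω} (hx : x ∈ R) : x⁻¹ * f x ∈ focN F V :=
  Subgroup.subset_closure ⟨R, f, x, h, hx, rfl⟩

lemma focN_le {V D : Subgroup Ω} (h : ∀ R f, NM F V R f → ∀ x ∈ R, x⁻¹ * f x ∈ D) : focN F V ≤ D := by
  refine (Subgroup.closure_le _).2 ?_
  rintro _ ⟨R, f, x, hf, hx, rfl⟩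
  exact h R f hf x hx

lemma mem_focal {R : Subgroup Ω} {f : Ω → Ω} (h : Maps F R f) {x : Ω} (hx : x ∈ R) : x⁻¹ * f x ∈ F.focalSubgroup := by
  refine Subgroup.subset_closure ⟨R, h.hom, ⟨x, hx⟩, h.hom_mem, ?_⟩
  rw [h.hom_apply]

lemma focal_le_of {D : Subgroup Ω} (h : ∀ R f, Maps F R f → ∀ x ∈ R, x⁻¹ * f x ∈ D) : F.focalSubgroup ≤ D := by
  refine (Subgroup.closure_le _).2 ?_
  rintro _ ⟨P, φ, x, hφ, rfl⟩
  have := h P (fn φ) (Maps.of_mem hφ) x x.2
  rwa [fn_coe] at this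

lemma focN_le_focal {V : Subgroup Ω} : focN F V ≤ F.focalSubgroup :=
  focN_le (fun _ _ h _ hx => mem_focal h.1 hx)

lemma focN_le_S {V : Subgroup Ω} : focN F V ≤ S := focN_le_focal.trans focal_le

/-- A map of `N_F(V)` takes values in `N_S(V)`. -/
lemma NM.val_mem [Finite S] {V R : Subgroup Ω} {f : Ω → Ω} (h : NM F V R f) {x : Ω} (hx : x ∈ R) :
    f x ∈ normalizerIn S V := by
  obtain ⟨hm, hVR, hRN, hi⟩ := h
  have hVS : V ≤ S := hVR.trans hm.le
  haveI : Finite V := finite_of_le hVS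
  refine mem_normalizerIn.2 ⟨hm.mem hx, mem_normalizer_of_conj_mem (fun y hy => ?_)⟩
  have hmV : Maps F V f := hm.restrict hVR
  rw [← hi] at hy
  obtain ⟨v, hv, rfl⟩ := hmV.mem_img.1 hy
  have hxN := (mem_normalizerIn.1 (hRN hx)).2
  have h1 : x * v * x⁻¹ ∈ V := (Subgroup.mem_normalizer_iff.1 hxN v).1 hv
  rw [← hm.map_conj hx (hVR hv), ← hi]
  exact hmV.mem_img_of_mem h1

/-- The focal subgroup of a normalizer system. -/
lemma focal_normalizer [Finite S] {V : Subgroup Ω} (hVS : V ≤ S) {N : FusionSystem (normalizerIn S V)}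
    (hN : F.IsNormalizerSystem V N) : N.focalSubgroup = focN F V := by
  have hVT : V ≤ normalizerIn S V := le_normalizerIn hVS
  apply le_antisymm
  · refine focal_le_of (fun R f hf x hx => ?_)
    obtain ⟨-, hRT, -, g, hg, h1, h2⟩ := (maps_norm_iff hN).1 hf
    have hNM : NM F V (R ⊔ V) g := ⟨hg, le_sup_right, sup_le hRT hVT, h2⟩
    rw [← h1 x hx]
    exact mem_focN hNM (Subgroup.mem_sup_left hx)
  · refine focN_le (fun R f hf x hx => ?_)
    have hm : Maps N R f := (maps_norm_iff hN).2 ⟨hf.1, hf.2.2.1, fun y hy => hf.val_mem hy, f, by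
      rw [sup_eq_left.2 hf.2.1]
      exact hf.1, fun _ _ => rfl, hf.2.2.2⟩
    exact mem_focal hm hx

/-- `S' ≤ foc(N_F(V))` for `V` normal in `S`. -/
lemma commutator_le_focN {V : Subgroup Ω} [Finite S] (hVS : V ≤ S) (hSV : S ≤ Subgroup.normalizer (V : Set Ω)) :
    ⁅S, S⁆ ≤ focN F V := by
  rw [Subgroup.commutator_le]
  intro h hh k hk
  have hm : Maps F S (fun x => k * x * k⁻¹) := Maps.conj le_rfl hk
  have hNS : normalizerIn S V = S := inf_eq_left.2 hSV
  have hNM : NM F V S (fun x => k * x * k⁻¹) := by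
    refine ⟨hm, hVS, by rw [hNS], ?_⟩
    exact img_eq_of_card (hm.restrict hVS) hVS hVS
      (fun y hy => (Subgroup.mem_normalizer_iff.1 (hSV hk) y).1 hy) le_rfl
  have := mem_focN hNM (S.inv_mem hh)
  convert this using 1
  simp [commutatorElement_def, mul_assoc]

end Basic

section Trf

variable {Ω : Type u} [Group Ω] {S : Subgroup Ω} [Finite S] {F : FusionSystem S} {p : ℕ} [hp : Fact p.Prime]

/-- **The stable transfer lemma.** An element of the focal subgroup which is fixed modulo `D` by all maps of `F` lies in `D`. -/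
theorem mem_of_stable (hS : IsPGroup p S) (hF : F.IsSaturated p) {D C : Subgroup Ω} (hDS : D ≤ S) (hcomm : ⁅S, S⁆ ≤ D)
    (hCS : C ≤ S) (hst : ∀ a ∈ C, ∀ (R : Subgroup Ω) (f : Ω → Ω), Maps F R f → a ∈ R → a⁻¹ * f a ∈ D) :
    C ⊓ F.focalSubgroup ≤ D := by
  classical
  obtain ⟨X, iX, iA, hX, hm, hpn⟩ := exists_transfer hS hF
  letI := iA
  let D₀ : Subgroup ↥S := D.subgroupOf S
  let A := Abelianization ↥S ⧸ (D₀.map (Abelianization.of (G := ↥S)))
  let f₀ : ↥S →* A := (QuotientGroup.mk' _).comp Abelianization.of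
  have hf₀ : ∀ s : ↥S, f₀ s = 1 ↔ (s : Ω) ∈ D := by
    intro s
    constructor
    · intro h
      have h1 : Abelianization.of s ∈ D₀.map (Abelianization.of (G := ↥S)) := (QuotientGroup.eq_one_iff _).1 h
      obtain ⟨d, hd, hds⟩ := h1
      have h2 : d⁻¹ * s ∈ (Abelianization.of (G := ↥S)).ker := by
        rw [MonoidHom.mem_ker, map_mul, map_inv]
        show (Abelianization.of d)⁻¹ * Abelianization.of s = 1
        rw [← hds]
        simp
      rw [Abelianization.ker_of] at h2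
      have h3 : ((d⁻¹ * s : ↥S) : Ω) ∈ ⁅S, S⁆ := by
        have hle : commutator ↥S ≤ (⁅S, S⁆).subgroupOf S := by
          rw [commutator_def, Subgroup.commutator_le]
          intro a _ b _
          exact Subgroup.mem_subgroupOf.2 (Subgroup.commutator_mem_commutator a.2 b.2)
        exact Subgroup.mem_subgroupOf.1 (hle h2)
      have h4 : (d : Ω) ∈ D := Subgroup.mem_subgroupOf.1 hd
      have h5 := D.mul_mem h4 (hcomm h3)
      simpa using h5
    · intro h
      exact (QuotientGroup.eq_one_iff _).2 ⟨s, Subgroup.mem_subgroupOf.2 h, rfl⟩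
  intro z hz
  obtain ⟨hzC, hzF⟩ := Subgroup.mem_inf.1 hz
  have hzS : z ∈ S := hCS hzC
  have h1 := tr_focal hX hm f₀ hzF hzS
  have h2 := tr_eq_pow hX f₀ (C.subgroupOf S) (fun x a b ha hab => by
    obtain ⟨R, f, hf, haR, hb⟩ := stab_maps hX x a b hab
    have h3 := hst a (Subgroup.mem_subgroupOf.1 ha) R f hf haR
    have h4 : ((a⁻¹ * b : ↥S) : Ω) ∈ D := by
      show (a : Ω)⁻¹ * (b : Ω) ∈ D
      rw [hb]
      exact h3
    have h5 := (hf₀ _).2 h4
    rw [map_mul, map_inv] at h5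
    exact (inv_mul_eq_one.1 h5)) (z := ⟨z, hzS⟩) (Subgroup.mem_subgroupOf.2 hzC)
  rw [h1] at h2
  have h3 : f₀ ⟨z, hzS⟩ ^ Nat.card (OrbI (S := S) X) = 1 := h2.symm
  obtain ⟨k, hk⟩ := hS ⟨z, hzS⟩
  have h4 : f₀ ⟨z, hzS⟩ ^ p ^ k = 1 := by
    rw [← map_pow, hk, map_one]
  have h5 : (Nat.card (OrbI (S := S) X)).Coprime p :=
    ((Nat.Prime.coprime_iff_not_dvd hp.out).2 hpn).symm
  have h6 := Cfsg.Agent.Lib.PResid.eq_one_of_pow_eq_one_of_coprime h4 h3 h5
  exact (hf₀ _).1 h6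

end Trf

section Functor

/-- The properties of a positive characteristic functor. -/
structure PF (p : ℕ) (W : ∀ (Q : Type u) [Group Q], Subgroup Q) : Prop where
  h1 : ∀ (Q : Type u) [Group Q] [Finite Q], IsPGroup p Q → Nontrivial Q → W Q ≠ ⊥
  h2 : ∀ (Q R : Type u) [Group Q] [Group R] [Finite Q], IsPGroup p Q → ∀ φ : Q ≃* R, (W Q).map φ.toMonoidHom = W R

/-- The local hypothesis on models. -/
def LT (p : ℕ) (W : ∀ (Q : Type u) [Group Q], Subgroup Q) : Prop :=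
  ∀ (G : Type u) [Group G] [Finite G] (P : Sylow p G),
    Subgroup.centralizer ((Cfsg.pCore p G : Subgroup G) : Set G) ≤ Cfsg.pCore p G →
    Cfsg.pCore p G ⊓ commutator G = Cfsg.pCore p G ⊓
      (commutator ↥(Subgroup.normalizer (((W ↥(P : Subgroup G)).map (P : Subgroup G).subtype : Subgroup G) : Set G))).map
        (Subgroup.normalizer (((W ↥(P : Subgroup G)).map (P : Subgroup G).subtype : Subgroup G) : Set G)).subtype

/-- The value of the functor as a subgroup of the ambient group. -/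
abbrev WW (W : ∀ (Q : Type u) [Group Q], Subgroup Q) {Ω : Type u} [Group Ω] (T : Subgroup Ω) : Subgroup Ω :=
  (W ↥T).map T.subtype

variable {p : ℕ} [hp : Fact p.Prime] {W : ∀ (Q : Type u) [Group Q], Subgroup Q}

section Basic

variable {Ω : Type u} [Group Ω] {S : Subgroup Ω} [Finite S] {F : FusionSystem S}

omit [Finite S] hp in
lemma WW_le (T : Subgroup Ω) : WW W T ≤ T := Subgroup.map_subtype_le _

omit [Finite S] hp in
lemma WW_congr {A B : Subgroup Ω} (h : A = B) : WW W A = WW W B := by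
  subst h
  rfl

omit [Finite S] hp in
lemma WW_ne (G : PF p W) {T : Subgroup Ω} [Finite T] (hT : IsPGroup p T) (hne : T ≠ ⊥) : WW W T ≠ ⊥ := by
  intro h
  have h1 : W ↥T = ⊥ := (Subgroup.map_eq_bot_iff_of_injective _ T.subtype_injective).1 h
  haveI : Nontrivial T := (Subgroup.nontrivial_iff_ne_bot T).2 hne
  exact G.h1 ↥T hT inferInstance h1

omit [Finite S] hp in
/-- `T` normalizes the value of the functor. -/
lemma le_normalizer_WW (G : PF p W) {T : Subgroup Ω} [Finite T] (hT : IsPGroup p T) :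
    T ≤ Subgroup.normalizer (WW W T : Set Ω) := by
  intro x hx
  haveI : Finite ↥(WW W T) := Finite.of_injective (Subgroup.inclusion (WW_le (W := W) T))
    (Subgroup.inclusion_injective _)
  refine mem_normalizer_of_conj_mem ?_
  rintro _ ⟨t, ht, rfl⟩
  have h2 := G.h2 ↥T ↥T hT (MulAut.conj (⟨x, hx⟩ : T))
  have h3 : (MulAut.conj (⟨x, hx⟩ : T)) t ∈ W ↥T := by
    rw [← h2]
    exact ⟨t, ht, rfl⟩
  exact ⟨_, h3, rfl⟩

omit hp in
/-- Normalizing elements normalize the value of the functor. -/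
lemma WW_norm (G : PF p W) (hS : IsPGroup p S) {T : Subgroup Ω} (hTS : T ≤ S) :
    normalizerIn S T ≤ normalizerIn S (WW W T) := by
  intro x hx
  obtain ⟨hxS, hxN⟩ := mem_normalizerIn.1 hx
  haveI : Finite T := finite_of_le hTS
  have hT : IsPGroup p T := hS.to_le hTS
  haveI : Finite ↥(WW W T) := finite_of_le ((WW_le T).trans hTS)
  refine mem_normalizerIn.2 ⟨hxS, mem_normalizer_of_conj_mem ?_⟩
  rintro _ ⟨t, ht, rfl⟩
  have hx2 : ∀ y ∈ T, x * y * x⁻¹ ∈ T := fun y hy => (Subgroup.mem_normalizer_iff.1 hxN y).1 hy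
  have hx3 : ∀ y ∈ T, x⁻¹ * y * x ∈ T := fun y hy => by
    have := (Subgroup.mem_normalizer_iff.1 (Subgroup.inv_mem _ hxN) y).1 hy
    simpa using this
  let e : T ≃* T :=
    { toFun := fun y => ⟨x * y * x⁻¹, hx2 y y.2⟩
      invFun := fun y => ⟨x⁻¹ * y * x, hx3 y y.2⟩
      left_inv := fun y => Subtype.ext (by simp [mul_assoc])
      right_inv := fun y => Subtype.ext (by simp [mul_assoc])
      map_mul' := fun a b => Subtype.ext (by simp [mul_assoc]) }
  have h2 := G.h2 ↥T ↥T hT e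
  have h3 : e t ∈ W ↥T := by
    rw [← h2]
    exact ⟨t, ht, rfl⟩
  exact ⟨_, h3, rfl⟩

omit [Finite S] hp in
/-- Monotonicity of `focN` under passing to a subsystem. -/
lemma focN_mono {T : Subgroup Ω} (hTS : T ≤ S) {E : FusionSystem T} (hEF : ∀ (P : Subgroup Ω) (f : Ω → Ω), Maps E P f → Maps F P f)
    (V : Subgroup Ω) : focN E V ≤ focN F V := by
  refine focN_le (fun R f hf x hx => ?_)
  refine mem_focN (F := F) ⟨hEF _ _ hf.1, hf.2.1, fun y hy => ?_, hf.2.2.2⟩ hx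
  have h1 := mem_normalizerIn.1 (hf.2.2.1 hy)
  exact mem_normalizerIn.2 ⟨hTS h1.1, h1.2⟩

end Basic

section Model

variable {Ω : Type u} [Group Ω] {S : Subgroup Ω} [Finite S] {F : FusionSystem S}

/-- **The constrained case.** -/
theorem core_le_of_model (G : PF p W) (hT : LT p W) (hS : IsPGroup p S) (hF : F.IsSaturated p) {Q : Subgroup Ω}
    (hQN : F.IsNormal Q) (hQC : F.IsCentric Q) : Q ⊓ F.focalSubgroup ≤ focN F (WW W S) := by
  classical
  obtain ⟨L, instL, ι, hM⟩ := Cfsg.Agent.Lib.FusionModel.exists_model hS hF hQN hQC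
  obtain ⟨hLf, hι, ⟨T₀, hT₀⟩, hcent⟩ := id hM
  let e : S ≃* (T₀ : Subgroup L) := (MonoidHom.ofInjective hι.1).trans (MulEquiv.subgroupCongr hT₀.symm)
  have he : ∀ s, ((e s : (T₀ : Subgroup L)) : L) = ι s := fun _ => rfl
  have h2 := G.h2 ↥S ↥(T₀ : Subgroup L) hS e
  set A : Subgroup L := (W ↥(T₀ : Subgroup L)).map (T₀ : Subgroup L).subtype with hAdef
  have hmem : ∀ x (hx : x ∈ S), x ∈ WW W S ↔ ι ⟨x, hx⟩ ∈ A := by
    intro x hx
    constructor
    · rintro ⟨s, hs, rfl⟩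
      refine ⟨e s, ?_, rfl⟩
      rw [← h2]
      exact ⟨s, hs, rfl⟩
    · rintro ⟨z, hz, hze⟩
      rw [← h2] at hz
      obtain ⟨s, hs, rfl⟩ := hz
      have h3 : ι s = ι ⟨x, hx⟩ := hze
      have h4 := hι.1 h3
      exact ⟨s, hs, congrArg (Subtype.val : S → Ω) h4⟩
  have hAr : A ≤ ι.range := by
    rintro _ ⟨z, -, rfl⟩
    show (z : L) ∈ ι.range
    rw [← hT₀]
    exact z.2
  set V₀ : Subgroup Ω := WW W S with hV₀
  have hV₀S : V₀ ≤ S := WW_le S
  have hSV₀ : S ≤ Subgroup.normalizer (V₀ : Set Ω) := le_normalizer_WW G hS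
  have hNS : normalizerIn S V₀ = S := inf_eq_left.2 hSV₀
  set N₀ : Subgroup L := Subgroup.normalizer ((A : Subgroup L) : Set L) with hN₀
  have hT₀N : (T₀ : Subgroup L) ≤ N₀ := le_normalizer_WW G T₀.isPGroup'
  let S₁ : Sylow p ↥N₀ := T₀.subtype hT₀N
  have hS₁ : ((S₁ : Subgroup ↥N₀)) = (T₀ : Subgroup L).subgroupOf N₀ := T₀.coe_subtype hT₀N
  -- the target subgroup in `L`
  set D₀ : Subgroup ↥S := (focN F V₀).subgroupOf S with hD₀
  -- the focal subgroup of `S₁` in `N₀` lies over `D₀`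
  have hfoc : (S₁ : Subgroup ↥N₀).focalSubgroup ≤ (D₀.map ι).comap N₀.subtype := by
    rw [Subgroup.focalSubgroup_def, Subgroup.closure_le]
    rintro g ⟨hg, x, hx, u, rfl⟩
    have hxT : ((x : ↥N₀) : L) ∈ ι.range := by
      rw [← hT₀]
      rw [hS₁] at hx
      exact Subgroup.mem_subgroupOf.1 hx
    have hgT : ((⁅x, u⁆ : ↥N₀) : L) ∈ ι.range := by
      rw [← hT₀]
      rw [hS₁] at hg
      exact Subgroup.mem_subgroupOf.1 hg
    obtain ⟨t, ht⟩ := hxT
    have hcomm : ((⁅x, u⁆ : ↥N₀) : L) = (x : L) * u * (x : L)⁻¹ * (u : L)⁻¹ := rfl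
    -- the element `a = t⁻¹`
    have ha : (u : L) * ι t⁻¹ * (u : L)⁻¹ ∈ ι.range := by
      have e1 : (u : L) * ι t⁻¹ * (u : L)⁻¹ = ι t⁻¹ * ((⁅x, u⁆ : ↥N₀) : L) := by
        rw [hcomm, map_inv, ht]
        group
      rw [e1]
      exact Subgroup.mul_mem _ ⟨_, rfl⟩ hgT
    let B : Subgroup Ω := ((ι.range).comap ((MulAut.conj (u : L)).toMonoidHom.comp ι)).map S.subtype
    have hBmem : ∀ y (hy : y ∈ S), (u : L) * ι ⟨y, hy⟩ * (u : L)⁻¹ ∈ ι.range → y ∈ B :=
      fun y hy h => ⟨⟨y, hy⟩, h, rfl⟩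
    have hBmem' : ∀ y (hy : y ∈ S), y ∈ B → (u : L) * ι ⟨y, hy⟩ * (u : L)⁻¹ ∈ ι.range := by
      rintro y hy ⟨s, hs, rfl⟩
      exact hs
    have huA : ∀ y (hy : y ∈ S), y ∈ V₀ → (u : L) * ι ⟨y, hy⟩ * (u : L)⁻¹ ∈ A := fun y hy hyV =>
      (Subgroup.mem_normalizer_iff.1 u.2 _).1 ((hmem y hy).1 hyV)
    let R : Subgroup Ω := Subgroup.zpowers ((t⁻¹ : ↥S) : Ω) ⊔ V₀
    have hRS : R ≤ S := sup_le (Subgroup.zpowers_le.2 (t⁻¹).2) hV₀S
    have hRB : R ≤ B := sup_le (Subgroup.zpowers_le.2 (hBmem _ (t⁻¹).2 ha))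
      (fun y hy => hBmem y (hV₀S hy) (hAr (huA y (hV₀S hy) hy)))
    have hran : ∀ y (hy : y ∈ R), (u : L) * ι ⟨y, hRS hy⟩ * (u : L)⁻¹ ∈ ι.range := fun y hy =>
      hBmem' y (hRS hy) (hRB hy)
    have hm : Maps F R (cf ι (u : L)) := maps_cf hι hRS _ hran
    have himg : img (cf ι (u : L)) V₀ = V₀ := by
      refine img_eq_of_card (hm.restrict le_sup_right) hV₀S hV₀S (fun y hy => ?_) le_rfl
      have hy' : y ∈ R := Subgroup.mem_sup_right hy
      have h1 := ι_cf (ι := ι) (u : L) (hRS hy') (hran y hy')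
      refine (hmem _ (cf_mem (u : L) (hV₀S hy))).2 ?_
      rw [h1]
      exact huA y (hV₀S hy) hy
    have hNM : NM F V₀ R (cf ι (u : L)) := ⟨hm, le_sup_right, by rw [hNS]; exact hRS, himg⟩
    have hta : ((t⁻¹ : ↥S) : Ω) ∈ R := Subgroup.mem_sup_left (Subgroup.mem_zpowers _)
    have hd := mem_focN hNM hta
    have hdS : (((t⁻¹ : ↥S) : Ω))⁻¹ * cf ι (u : L) ((t⁻¹ : ↥S) : Ω) ∈ S :=
      S.mul_mem (S.inv_mem (t⁻¹).2) (cf_mem _ (t⁻¹).2)
    refine ⟨⟨_, hdS⟩, Subgroup.mem_subgroupOf.2 hd, ?_⟩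
    have h1 := ι_cf (ι := ι) (u : L) (hRS hta) (hran _ hta)
    have e2 : (⟨(((t⁻¹ : ↥S) : Ω))⁻¹ * cf ι (u : L) ((t⁻¹ : ↥S) : Ω), hdS⟩ : ↥S) =
        t * ⟨cf ι (u : L) ((t⁻¹ : ↥S) : Ω), cf_mem _ (hRS hta)⟩ := by
      apply Subtype.ext
      simp
    show ι _ = _
    rw [e2, map_mul, h1]
    show ι t * ((u : L) * ι ⟨((t⁻¹ : ↥S) : Ω), hRS hta⟩ * (u : L)⁻¹) = _
    have e3 : ι ⟨((t⁻¹ : ↥S) : Ω), hRS hta⟩ = (ι t)⁻¹ := by
      rw [← map_inv]
    rw [e3]
    show _ = ((⁅x, u⁆ : ↥N₀) : L)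
    rw [hcomm, ht]
    group
  -- the element
  rintro z ⟨hzQ, hzF⟩
  have hzS : z ∈ S := hQN.1 hzQ
  have hz1 : ι ⟨z, hzS⟩ ∈ Cfsg.pCore p L := by
    have hOQn : ((Q.subgroupOf S).map ι).Normal := by
      refine ⟨fun x hx g => ?_⟩
      obtain ⟨⟨x, hxT⟩, hxQ, rfl⟩ := hx
      obtain ⟨y, hy, hyQ, hyι⟩ := conj_mem_of_model hM hQN g hxT (Subgroup.mem_subgroupOf.1 hxQ)
      exact ⟨⟨y, hy⟩, Subgroup.mem_subgroupOf.2 hyQ, hyι⟩
    have hOQp : IsPGroup p ((Q.subgroupOf S).map ι) := (hS.to_subgroup _).map ι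
    exact le_pCore hOQn hOQp ⟨⟨z, hzS⟩, Subgroup.mem_subgroupOf.2 hzQ, rfl⟩
  have hz2 : ι ⟨z, hzS⟩ ∈ commutator L := by
    have hle : F.focalSubgroup ≤ ((commutator L).comap ι).map S.subtype := by
      refine focal_le_of (fun R f hf x hx => ?_)
      obtain ⟨g, hg⟩ := real_of_maps hι hf
      have hxS : x ∈ S := hf.le hx
      refine ⟨⟨x⁻¹ * f x, S.mul_mem (S.inv_mem hxS) (hf.mem hx)⟩, ?_, rfl⟩
      have e1 : (⟨x⁻¹ * f x, S.mul_mem (S.inv_mem hxS) (hf.mem hx)⟩ : ↥S) = (⟨x, hxS⟩ : ↥S)⁻¹ * ⟨f x, hf.mem hx⟩ := rfl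
      show ι _ ∈ commutator L
      rw [e1, map_mul, map_inv, hg x hx]
      have e2 : (ι ⟨x, hxS⟩)⁻¹ * (g * ι ⟨x, hf.le hx⟩ * g⁻¹) = ⁅(ι ⟨x, hxS⟩)⁻¹, g⁆ := by
        rw [commutatorElement_def, inv_inv]
        simp only [mul_assoc]
      rw [e2]
      exact Subgroup.commutator_mem_commutator (Subgroup.mem_top _) (Subgroup.mem_top _)
    obtain ⟨s, hs, hsz⟩ := hle hzF
    have : s = ⟨z, hzS⟩ := Subtype.ext hsz
    rw [← this]
    exact hs
  have hz3 := (hT L T₀ hcent).le ⟨hz1, hz2⟩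
  obtain ⟨y, hy, hyz⟩ := hz3.2
  have hyS₁ : y ∈ (S₁ : Subgroup ↥N₀) := by
    rw [hS₁, Subgroup.mem_subgroupOf, hT₀]
    show (y : L) ∈ ι.range
    have : (y : L) = ι ⟨z, hzS⟩ := hyz
    rw [this]
    exact ⟨_, rfl⟩
  have hy2 : y ∈ commutator ↥N₀ ⊓ (S₁ : Subgroup ↥N₀) := ⟨hy, hyS₁⟩
  rw [Subgroup.commutator_inf_eq_focalSubgroup] at hy2
  obtain ⟨d, hd, hde⟩ := hfoc hy2
  have h5 : d = ⟨z, hzS⟩ := hι.1 (hde.trans hyz)
  have h6 : ((d : ↥S) : Ω) ∈ focN F V₀ := Subgroup.mem_subgroupOf.1 hd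
  rw [h5] at h6
  exact h6

end Model

section Induction

variable {Ω : Type u} [Group Ω] {S : Subgroup Ω} [Finite S] {F : FusionSystem S}

/-- The induction hypothesis. -/
def IHyp (p : ℕ) [Fact p.Prime] (W : ∀ (Q : Type u) [Group Q], Subgroup Q) {S : Subgroup Ω} (F : FusionSystem S) : Prop :=
  ∀ (Ω' : Type u) [Group Ω'] (S' : Subgroup Ω') [Finite S'] (F' : FusionSystem S'), IsPGroup p S' → F'.IsSaturated p →
    (Nat.card S' < Nat.card S ∨ (Nat.card S' = Nat.card S ∧ meas F' < meas F)) → F'.focalSubgroup ≤ focN F' (WW W S')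

/-- The hypothesis for a normalizer system. -/
theorem ih_normalizer (IH : IHyp p W F) (hS : IsPGroup p S) (hF : F.IsSaturated p) {V : Subgroup Ω}
    (hV : F.IsFullyNormalized V) (hnn : normalizerIn S V = S → ¬ F.IsNormal V) {N : FusionSystem (normalizerIn S V)}
    (hN : F.IsNormalizerSystem V N) : N.focalSubgroup ≤ focN N (WW W (normalizerIn S V)) := by
  have hTS : normalizerIn S V ≤ S := inf_le_left
  haveI : Finite ↥(normalizerIn S V) := finite_of_le hTS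
  have hT : IsPGroup p ↥(normalizerIn S V) := hS.to_le hTS
  have hNs := Cfsg.Agent.Lib.FusionSatNorm.saturated_normalizer hS hF hV hN
  have hNF : ∀ (P : Subgroup Ω) (f : Ω → Ω), Maps N P f → Maps F P f := fun P f h => ((maps_norm_iff hN).1 h).1
  refine IH _ _ N hT hNs ?_
  by_cases hTe : normalizerIn S V = S
  · right
    refine ⟨by rw [hTe], ?_⟩
    have hnn' := hnn hTe
    have : ∃ R f, Maps F R f ∧ ¬ NExt F V R f := by
      by_contra hcon
      refine hnn' (isNormal_iff.2 ⟨hV.1, fun R f hf => ?_⟩)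
      by_contra hne
      exact hcon ⟨R, f, hf, hne⟩
    obtain ⟨R, f, hf, hne⟩ := this
    exact meas_lt hNF hf (fun h => hne ((maps_norm_iff hN).1 h).2.2.2)
  · left
    exact lt_of_le_of_ne (Subgroup.card_le_of_le hTS) (fun he => hTe (Subgroup.eq_of_le_of_card_ge hTS he.ge))

/-- A subgroup normal in `S` and not in `F`. -/
theorem focN_top (IH : IHyp p W F) (hS : IsPGroup p S) (hF : F.IsSaturated p) {V : Subgroup Ω} (hVS : V ≤ S)
    (hSV : S ≤ Subgroup.normalizer (V : Set Ω)) (hnn : ¬ F.IsNormal V) : focN F V ≤ focN F (WW W S) := by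
  have hV : F.IsFullyNormalized V := fullyNormalized_of_le_normalizer hVS hSV
  obtain ⟨N, hN⟩ := exists_normalizerSystem (F := F) hVS
  have hNS : normalizerIn S V = S := inf_eq_left.2 hSV
  have h1 := ih_normalizer IH hS hF hV (fun _ => hnn) hN
  rw [focal_normalizer hVS hN] at h1
  refine h1.trans ?_
  rw [WW_congr hNS]
  exact focN_mono inf_le_left (fun P f h => ((maps_norm_iff hN).1 h).1) _

/-- **The case of a normal subgroup that is not centric.** -/
theorem core_le_of_not_centric (G : PF p W) (IH : IHyp p W F) (hS : IsPGroup p S) (hF : F.IsSaturated p) {O : Subgroup Ω}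
    (hO : F.IsNormal O) (hmax : ∀ V : Subgroup Ω, F.IsNormal V → V ≤ O) (hcon : ¬ centralizerIn S O ≤ O) :
    O ⊓ F.focalSubgroup ≤ focN F (WW W S) := by
  have hOS := hO.1
  have hNO := Cfsg.Agent.Lib.FusionNormal.IsNormal.le_normalizer hO
  set Y : Subgroup Ω := O ⊔ centralizerIn S O with hY
  have hCS : centralizerIn S O ≤ S := inf_le_left
  have hYS : Y ≤ S := sup_le hOS hCS
  haveI : Finite Y := finite_of_le hYS
  have hSC := centralizerIn_normal (S := S) hNO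
  have hSY : S ≤ Subgroup.normalizer (Y : Set Ω) := by
    intro s hs
    refine mem_normalizer_of_conj_mem (fun x hx => ?_)
    have key : Y ≤ Subgroup.comap (MulAut.conj s).toMonoidHom Y := by
      refine sup_le (fun v hv => ?_) (fun c hc => ?_)
      · exact Subgroup.mem_sup_left ((Subgroup.mem_normalizer_iff.1 (hNO hs) v).1 hv)
      · exact Subgroup.mem_sup_right ((Subgroup.mem_normalizer_iff.1 (hSC hs) c).1 hc)
    exact key hx
  have hYnn : ¬ F.IsNormal Y := fun h => hcon ((le_sup_right.trans (hmax Y h)))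
  have hD := focN_top IH hS hF hYS hSY hYnn
  have hOfn : F.IsFullyNormalized O := fullyNormalized_of_le_normalizer hOS hNO
  obtain ⟨hfc, hfa⟩ := of_fullyNormalized hS hF hOfn
  have hrec := receptive_of_fullyCentralized hS hF hfc
  refine mem_of_stable hS hF focN_le_S (commutator_le_focN (WW_le S) (le_normalizer_WW G hS)) hOS
    (fun a ha R f hf haR => ?_)
  have hZR : Subgroup.zpowers a ≤ R := Subgroup.zpowers_le.2 haR
  have hZO : Subgroup.zpowers a ≤ O := Subgroup.zpowers_le.2 ha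
  obtain ⟨g, hg, h1, h2⟩ := (isNormal_iff.1 hO).2 _ f (hf.restrict hZR)
  rw [sup_eq_right.2 hZO] at hg
  obtain ⟨k, hk, hk1⟩ := Cfsg.Agent.Lib.FusionCore.IsReceptive.ext hrec hg h2
  have hle : Y ≤ Nf S O g := sup_le (le_Nf hg) (centralizerIn_le_Nf hg)
  have hk₁ : Maps F Y k := hk.restrict hle
  have hkO : ∀ x ∈ O, k x ∈ O := fun x hx => by
    rw [hk1 x hx, ← h2]
    exact hg.mem_img_of_mem hx
  have hkC : ∀ c ∈ centralizerIn S O, k c ∈ centralizerIn S O := by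
    intro c hc
    have hc' : c ∈ Y := Subgroup.mem_sup_right hc
    refine mem_centralizerIn.2 ⟨hk₁.mem hc', fun z hz => ?_⟩
    rw [← h2] at hz
    obtain ⟨y, hy, rfl⟩ := hg.mem_img.1 hz
    have hy' : y ∈ Y := Subgroup.mem_sup_left hy
    rw [← hk1 y hy, ← hk₁.map_mul hy' hc', (mem_centralizerIn.1 hc).2 y hy, hk₁.map_mul hc' hy']
  have himg : img k Y = Y := img_eq_of_card hk₁ hYS hYS
    (hk₁.sup_mem (fun x hx => Subgroup.mem_sup_left (hkO x hx)) (fun c hc => Subgroup.mem_sup_right (hkC c hc))) le_rfl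
  have hNM : NM F Y Y k := ⟨hk₁, le_rfl, le_normalizerIn hYS, himg⟩
  have h3 := mem_focN hNM (Subgroup.mem_sup_left ha : a ∈ Y)
  rw [hk1 a ha, h1 a (Subgroup.mem_zpowers a)] at h3
  exact hD h3

/-- The subsystem of maps moving elements of large sources only inside `D`. -/
def LevF (F : FusionSystem S) (D : Subgroup Ω) (k : ℕ) (P : Subgroup Ω) (f : Ω → Ω) : Prop :=
  Maps F P f ∧ (k < Nat.card P → ∀ x ∈ P, x⁻¹ * f x ∈ D)

/-- All maps with large source move elements inside `D` as soon as this holds for automorphism groups of fully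
normalized centric subgroups of large order. -/
theorem levelled (hS : IsPGroup p S) (hF : F.IsSaturated p) {D : Subgroup Ω} (hcomm : ⁅S, S⁆ ≤ D) (k : ℕ)
    (hA : ∀ Q : Subgroup Ω, F.IsFullyNormalized Q → F.IsCentric Q → k < Nat.card Q →
      ∀ α ∈ F.autGroup Q, ∀ x ∈ Q, x⁻¹ * afn α x ∈ D) :
    ∀ (R : Subgroup Ω) (f : Ω → Ω), Maps F R f → k < Nat.card R → ∀ x ∈ R, x⁻¹ * f x ∈ D := by
  have hcongr : ∀ {P : Subgroup Ω} {f g : Ω → Ω}, LevF F D k P f → (∀ x ∈ P, f x = g x) → LevF F D k P g := by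
    intro P f g h hfg
    exact ⟨h.1.congr hfg, fun hk x hx => by rw [← hfg x hx]; exact h.2 hk x hx⟩
  have hconj : ∀ {P : Subgroup Ω} {g : Ω}, P ≤ S → g ∈ S → LevF F D k P (fun x => g * x * g⁻¹) := by
    intro P g hP hg
    refine ⟨Maps.conj hP hg, fun _ x hx => ?_⟩
    have h1 := hcomm (Subgroup.commutator_mem_commutator (S.inv_mem (hP hx)) hg)
    rw [commutatorElement_def, inv_inv] at h1
    show x⁻¹ * (g * x * g⁻¹) ∈ D
    convert h1 using 1
    group
  have hcomp : ∀ {P Q : Subgroup Ω} {f g : Ω → Ω}, LevF F D k P f → LevF F D k Q g → (∀ x ∈ P, f x ∈ Q) →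
      LevF F D k P (g ∘ f) := by
    intro P Q f g hf hg h
    refine ⟨hf.1.comp hg.1 h, fun hk x hx => ?_⟩
    have hk' : k < Nat.card Q := lt_of_lt_of_le hk (card_le_of_maps hf.1 le_rfl hg.1.le h)
    have e : x⁻¹ * (g ∘ f) x = (x⁻¹ * f x) * ((f x)⁻¹ * g (f x)) := by
      simp [mul_assoc]
    rw [e]
    exact D.mul_mem (hf.2 hk x hx) (hg.2 hk' _ (h x hx))
  have hinv : ∀ {P : Subgroup Ω} {f : Ω → Ω}, LevF F D k P f → ∃ g, LevF F D k (img f P) g ∧ ∀ x ∈ P, g (f x) = x := by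
    intro P f hf
    obtain ⟨g, hg, h1, h2⟩ := hf.1.inv
    refine ⟨g, ⟨hg, fun hk z hz => ?_⟩, h1⟩
    have hk' : k < Nat.card P := by rwa [hf.1.card_img] at hk
    obtain ⟨x, hx, rfl⟩ := hf.1.mem_img.1 hz
    rw [h1 x hx]
    have := D.inv_mem (hf.2 hk' x hx)
    simpa using this
  let E : FusionSystem S := Cfsg.Agent.Lib.FusionIndexPrime.ofMaps F (LevF F D k) (fun h => h.1) hcongr hconj hcomp hinv
  have hE : ∀ {P : Subgroup Ω} {f : Ω → Ω}, Maps E P f ↔ LevF F D k P f :=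
    Cfsg.Agent.Lib.FusionIndexPrime.maps_ofMaps
  have hle : F ≤ E := by
    refine Cfsg.Agent.Lib.FusionIndexPrime.alperin_goldschmidt' hS hF E (fun P hP _ => ?_)
    have hPc : F.IsFullyNormalized P ∧ F.IsCentric P := by
      rcases hP with rfl | hP
      · exact ⟨isFullyNormalized_self, isCentric_self⟩
      · exact ⟨hP.2.1, hP.1⟩
    have hPS : P ≤ S := hPc.1.1
    intro α hα
    rw [mem_autGroup_iff hPS, hE]
    exact ⟨Maps_of_mem_autGroup hPS hα, fun hk x hx => hA P hPc.1 hPc.2 hk α hα x hx⟩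
  intro R f hf hk x hx
  have : Maps E R f := Cfsg.Agent.Lib.FusionIndexPrime.le_maps hle hf
  exact (hE.1 this).2 hk x hx

/-- Transport of the bound along a conjugation into a fully normalized subgroup. -/
theorem focN_of_conj (hS : IsPGroup p S) (hF : F.IsSaturated p) {D V : Subgroup Ω} {k : ℕ}
    (hlev : ∀ (R : Subgroup Ω) (f : Ω → Ω), Maps F R f → k < Nat.card R → ∀ x ∈ R, x⁻¹ * f x ∈ D)
    (hIH : ∀ V' : Subgroup Ω, F.IsFullyNormalized V' → V' ≠ ⊥ → k < Nat.card (normalizerIn S V') → focN F V' ≤ D)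
    (hVS : V ≤ S) (hVne : V ≠ ⊥) (hk : k < Nat.card (normalizerIn S V)) : focN F V ≤ D := by
  obtain ⟨V₁, hconj, hV₁n⟩ := exists_fullyNormalized_conj (F := F) hVS
  obtain ⟨hfc, hfa⟩ := of_fullyNormalized hS hF hV₁n
  have hrec := receptive_of_fullyCentralized hS hF hfc
  obtain ⟨ξ, hξ, hξv, hξi⟩ := exists_normalizer_map hS hfa hrec hconj
  have hV₁S := hV₁n.1
  have hV₁ne : V₁ ≠ ⊥ := by
    intro h
    have h1 := IsConj_card hconj
    rw [h, Subgroup.card_bot] at h1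
    exact hVne (Subgroup.eq_bot_of_card_eq _ h1)
  haveI : Finite ↥(normalizerIn S V₁) := finite_of_le inf_le_left
  have hcard : Nat.card ↥(normalizerIn S V) ≤ Nat.card ↥(normalizerIn S V₁) := by
    rw [← hξ.card_img]
    refine Subgroup.card_le_of_le (fun y hy => ?_)
    obtain ⟨x, hx, rfl⟩ := hξ.mem_img.1 hy
    exact hξv x hx
  have hD₁ := hIH V₁ hV₁n hV₁ne (lt_of_lt_of_le hk hcard)
  have hξD := hlev _ ξ hξ hk
  refine focN_le (fun R ψ hψ x hx => ?_)
  obtain ⟨hm, hVR, hRN, hi⟩ := id hψ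
  have hξR : Maps F R ξ := hξ.restrict hRN
  have hξV : Maps F V ξ := hξ.restrict (hVR.trans hRN)
  obtain ⟨ξ', hξ', i1, i2⟩ := hξR.inv
  set B : Subgroup Ω := img ξ R with hBdef
  have hval : ∀ y ∈ R, ψ y ∈ normalizerIn S V := fun y hy => hψ.val_mem hy
  have hψ₁ : Maps F B (ξ ∘ (ψ ∘ ξ')) := (hξ'.comp hm (fun y hy => (i2 y hy).1)).comp hξ
    (fun y hy => hval _ (i2 y hy).1)
  have hψ₁v : ∀ y ∈ R, (ξ ∘ (ψ ∘ ξ')) (ξ y) = ξ (ψ y) := fun y hy => by
    show ξ (ψ (ξ' (ξ y))) = _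
    rw [i1 y hy]
  have hV₁B : V₁ ≤ B := by
    rw [← hξi]
    exact hξR.img_mono hVR
  have hBT : B ≤ normalizerIn S V₁ := by
    intro y hy
    obtain ⟨z, hz, rfl⟩ := hξR.mem_img.1 hy
    exact hξv z (hRN hz)
  have himg : img (ξ ∘ (ψ ∘ ξ')) V₁ = V₁ := by
    refine img_eq_of_card (hψ₁.restrict hV₁B) hV₁S hV₁S (fun y hy => ?_) le_rfl
    rw [← hξi] at hy ⊢
    obtain ⟨v, hv, rfl⟩ := hξV.mem_img.1 hy
    rw [hψ₁v v (hVR hv)]
    apply hξV.mem_img_of_mem
    rw [← hi]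
    exact (hm.restrict hVR).mem_img_of_mem hv
  have hNM : NM F V₁ B (ξ ∘ (ψ ∘ ξ')) := ⟨hψ₁, hV₁B, hBT, himg⟩
  have hm1 := mem_focN hNM (hξR.mem_img_of_mem hx)
  rw [hψ₁v x hx] at hm1
  have h1 := hξD x (hRN hx)
  have h2 := hξD (ψ x) (hval x hx)
  have h3 := hD₁ hm1
  have e : x⁻¹ * ψ x = (x⁻¹ * ξ x) * ((ξ x)⁻¹ * ξ (ψ x)) * ((ψ x)⁻¹ * ξ (ψ x))⁻¹ := by
    group
  rw [e]
  exact D.mul_mem (D.mul_mem h1 h3) (D.inv_mem h2)

/-- **The climbing argument.** -/
theorem climb (G : PF p W) (IH : IHyp p W F) (hS : IsPGroup p S) (hF : F.IsSaturated p)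
    (hcore : ∀ V : Subgroup Ω, F.IsNormal V → V = ⊥) :
    ∀ (d : ℕ) (V : Subgroup Ω), Nat.card S - Nat.card (normalizerIn S V) = d → V ≠ ⊥ → F.IsFullyNormalized V →
      focN F V ≤ focN F (WW W S) := by
  intro d
  induction d using Nat.strong_induction_on with
  | _ d ihd =>
  intro V hd hVne hVn
  have hVS := hVn.1
  have hTS : normalizerIn S V ≤ S := inf_le_left
  haveI : Finite ↥(normalizerIn S V) := finite_of_le hTS
  have hTcard : Nat.card ↥(normalizerIn S V) ≤ Nat.card S := Subgroup.card_le_of_le hTS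
  have hIH : ∀ V' : Subgroup Ω, F.IsFullyNormalized V' → V' ≠ ⊥ →
      Nat.card ↥(normalizerIn S V) < Nat.card (normalizerIn S V') → focN F V' ≤ focN F (WW W S) := by
    intro V' h1 h2 h3
    have h5 : Nat.card (normalizerIn S V') ≤ Nat.card S := Subgroup.card_le_of_le inf_le_left
    exact ihd _ (by omega) V' rfl h2 h1
  have hcomm : ⁅S, S⁆ ≤ focN F (WW W S) := commutator_le_focN (WW_le S) (le_normalizer_WW G hS)
  have hlev := levelled hS hF hcomm (Nat.card ↥(normalizerIn S V)) (fun Q h1 h2 h3 α hα x hx => by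
    have hQne : Q ≠ ⊥ := by
      rintro rfl
      rw [Subgroup.card_bot] at h3
      have : 0 < Nat.card ↥(normalizerIn S V) := Nat.card_pos
      omega
    have hNM : NM F Q Q (afn α) := ⟨Maps_of_mem_autGroup h1.1 hα, le_rfl, le_normalizerIn h1.1, afn_img α⟩
    exact hIH Q h1 hQne (lt_of_lt_of_le h3 (card_le_normalizerIn h1.1)) (mem_focN hNM hx))
  by_cases hTe : normalizerIn S V = S
  · exact focN_top IH hS hF hVS (inf_eq_left.1 hTe) (fun h => hVne (hcore V h))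
  have hTlt : normalizerIn S V < S := lt_of_le_of_ne hTS hTe
  obtain ⟨N, hN⟩ := exists_normalizerSystem (F := F) hVS
  have h1 := ih_normalizer IH hS hF hVn (fun h => absurd h hTe) hN
  rw [focal_normalizer hVS hN] at h1
  refine h1.trans ((focN_mono hTS (fun P f h => ((maps_norm_iff hN).1 h).1) _).trans ?_)
  have hTp : IsPGroup p ↥(normalizerIn S V) := hS.to_le hTS
  have hTne : normalizerIn S V ≠ ⊥ := by
    intro h
    apply hVne
    rw [eq_bot_iff, ← h]
    exact le_normalizerIn hVS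
  have hV'ne := WW_ne G hTp hTne
  have hTN : normalizerIn S V < normalizerIn S (WW W (normalizerIn S V)) :=
    lt_of_lt_of_le (Cfsg.Agent.Lib.FusionAlperin.lt_normalizerIn hS hTlt) (WW_norm G hS hTS)
  haveI : Finite ↥(normalizerIn S (WW W (normalizerIn S V))) := finite_of_le inf_le_left
  have hcard : Nat.card ↥(normalizerIn S V) < Nat.card ↥(normalizerIn S (WW W (normalizerIn S V))) :=
    Set.ncard_lt_ncard (show ((normalizerIn S V : Subgroup Ω) : Set Ω) ⊂ _ from hTN) (Set.toFinite _)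
  exact focN_of_conj hS hF hlev hIH ((WW_le _).trans hTS) hV'ne hcard

/-- **The step with a nontrivial normal subgroup.** -/
theorem step_normal (G : PF p W) (IH : IHyp p W F) (hS : IsPGroup p S) (hF : F.IsSaturated p) {O : Subgroup Ω}
    (hO : F.IsNormal O) (hmax : ∀ V : Subgroup Ω, F.IsNormal V → V ≤ O) (hOne : O ≠ ⊥)
    (hcore : O ⊓ F.focalSubgroup ≤ focN F (WW W S)) : F.focalSubgroup ≤ focN F (WW W S) := by
  classical
  have hOS := hO.1
  by_cases hOS' : O = S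
  · intro z hz
    exact hcore ⟨by rw [hOS']; exact focal_le hz, hz⟩
  have hsc := Cfsg.Agent.Lib.FusionNormal.IsNormal.stronglyClosed hO
  have hNO := Cfsg.Agent.Lib.FusionNormal.IsNormal.le_normalizer hO
  haveI : Finite O := finite_of_le hOS
  -- the factor system
  let K₀ : Subgroup S := O.subgroupOf S
  haveI hK₀n : K₀.Normal := ⟨fun n hn g => Subgroup.mem_subgroupOf.2
    ((Subgroup.mem_normalizer_iff.1 (hNO g.2) n).1 (Subgroup.mem_subgroupOf.1 hn))⟩
  let θ : S →* S ⧸ K₀ := QuotientGroup.mk' K₀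
  have hk : ∀ s : S, θ s = 1 ↔ (s : Ω) ∈ O := fun s => by
    rw [← Subgroup.mem_subgroupOf]
    exact QuotientGroup.eq_one_iff s
  have hr' : θ.range = ⊤ := MonoidHom.range_eq_top.2 (QuotientGroup.mk'_surjective K₀)
  obtain ⟨F', hfac⟩ := exists_factorSystem F hsc hk hr'
  have hS' : IsPGroup p ↥(⊤ : Subgroup (S ⧸ K₀)) := (hS.to_quotient K₀).to_subgroup ⊤
  have hmor := isSurjectiveMorphism_of_isFactorSystem hS hF hsc hfac
  have hkerZ : kerAlong θ = O := by
    ext z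
    constructor
    · rintro ⟨s, hs, rfl⟩
      exact (hfac.2.1 s).1 hs
    · intro hz
      exact ⟨⟨z, hfac.1 hz⟩, (hfac.2.1 _).2 hz, rfl⟩
  have hF' : F'.IsSaturated p := isSaturated_of_surjective hS hF hmor (by rw [hkerZ]; exact hsc)
  have hpreTop : preimageAlong θ (⊤ : Subgroup (S ⧸ K₀)) = S :=
    le_antisymm (preimageAlong_le θ ⊤) (fun x hx => mem_pre.2 ⟨hx, trivial⟩)
  have hcardS : Nat.card S = Nat.card O * Nat.card ↥(⊤ : Subgroup (S ⧸ K₀)) := by
    have h := card_pre hfac (A' := (⊤ : Subgroup (S ⧸ K₀))) le_rfl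
    rwa [hpreTop] at h
  have hO2 : 1 < Nat.card O := (Subgroup.one_lt_card_iff_ne_bot O).2 hOne
  have hcpos : 0 < Nat.card ↥(⊤ : Subgroup (S ⧸ K₀)) := Nat.card_pos
  have hcardlt : Nat.card ↥(⊤ : Subgroup (S ⧸ K₀)) < Nat.card S := by
    rw [hcardS]
    nlinarith
  have hX' := IH _ ⊤ F' hS' hF' (Or.inl hcardlt)
  have htop : (⊤ : Subgroup (S ⧸ K₀)) ≠ ⊥ := by
    intro h
    have h1 : Nat.card ↥(⊤ : Subgroup (S ⧸ K₀)) = 1 := by
      rw [h]
      exact Subgroup.card_bot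
    rw [h1, mul_one] at hcardS
    exact hOS' (Subgroup.eq_of_le_of_card_ge hOS hcardS.le)
  have hX'ne : WW W (⊤ : Subgroup (S ⧸ K₀)) ≠ ⊥ := WW_ne G hS' htop
  have hTN : (⊤ : Subgroup (S ⧸ K₀)) ≤ Subgroup.normalizer (WW W (⊤ : Subgroup (S ⧸ K₀)) : Set (S ⧸ K₀)) :=
    le_normalizer_WW G hS'
  -- the preimage of the functor value
  obtain ⟨X', hX'def⟩ : ∃ X', X' = WW W (⊤ : Subgroup (S ⧸ K₀)) := ⟨_, rfl⟩
  rw [← hX'def] at hX' hX'ne hTN
  obtain ⟨U, hUdef⟩ : ∃ U, U = preimageAlong θ X' := ⟨_, rfl⟩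
  have hUS : U ≤ S := hUdef ▸ preimageAlong_le θ X'
  have hUmem : ∀ x, x ∈ U ↔ x ∈ S ∧ qf θ x ∈ X' := fun x => by
    rw [hUdef]
    exact mem_pre
  have hUO : ¬ U ≤ O := by
    intro h
    apply hX'ne
    refine (Subgroup.eq_bot_iff_forall _).2 (fun y hy => ?_)
    obtain ⟨s, hs, rfl⟩ := exists_qf hfac (show y ∈ (⊤ : Subgroup (S ⧸ K₀)) from trivial)
    exact (qf_eq_one hfac hs).2 (h ((hUmem s).2 ⟨hs, hy⟩))
  have hUN : normalizerIn S U = S := by
    rw [hUdef, norm_pre hfac le_top]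
    have h1 : normalizerIn (⊤ : Subgroup (S ⧸ K₀)) X' = ⊤ := inf_eq_left.2 hTN
    rw [h1, hpreTop]
  have hUNN : S ≤ Subgroup.normalizer (U : Set Ω) := inf_eq_left.1 hUN
  have hUnn : ¬ F.IsNormal U := fun h => hUO (hmax _ h)
  have hD := focN_top IH hS hF hUS hUNN hUnn
  set D : Subgroup Ω := focN F (WW W S) with hDdef
  have hDF : D ≤ F.focalSubgroup := focN_le_focal
  have hDS : D ≤ S := focN_le_S
  -- the focal subgroup of the normalizer system in the factor system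
  have hlift : focN F' X' ≤ (D.subgroupOf S).map θ := by
    refine focN_le (fun R' b' hb' y hy => ?_)
    obtain ⟨hbm, hXR, -, hbi⟩ := hb'
    obtain ⟨b, hb, hbrel⟩ := maps_lift hfac hbm
    have hUR : U ≤ preimageAlong θ R' := by
      intro u hu
      obtain ⟨h1, h2⟩ := (hUmem u).1 hu
      exact mem_pre.2 ⟨h1, hXR h2⟩
    have hbU : img b U = U := by
      refine img_eq_of_card (hb.restrict hUR) hUS hUS (fun u hu => ?_) le_rfl
      have hu' := hUR hu
      refine (hUmem _).2 ⟨hb.mem hu', ?_⟩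
      rw [hbrel u hu', ← hbi]
      exact (hbm.restrict hXR).mem_img_of_mem ((hUmem u).1 hu).2
    have hPreS : preimageAlong θ R' ≤ S := preimageAlong_le θ R'
    have hNM : NM F U (preimageAlong θ R') b := ⟨hb, hUR, by rw [hUN]; exact hPreS, hbU⟩
    obtain ⟨s, hsS, rfl⟩ := exists_qf hfac (show y ∈ (⊤ : Subgroup (S ⧸ K₀)) from trivial)
    have hsR : s ∈ preimageAlong θ R' := mem_pre.2 ⟨hsS, hy⟩
    have hm := hD (mem_focN hNM hsR)
    have hmS : s⁻¹ * b s ∈ S := hDS hm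
    refine ⟨⟨s⁻¹ * b s, hmS⟩, Subgroup.mem_subgroupOf.2 hm, ?_⟩
    rw [← hbrel s hsR, ← qf_of_mem θ hmS, qf_mul θ (S.inv_mem hsS) (hb.mem hsR), qf_inv θ hsS]
  refine focal_le_of (fun R f hf x hx => ?_)
  obtain ⟨g, hg, h1, h2⟩ := (isNormal_iff.1 hO).2 R f hf
  have hRS := hf.le
  have hUS₂ : R ⊔ O ≤ S := sup_le hRS hOS
  have hpre : preimageAlong θ (imageAlong θ (R ⊔ O)) = R ⊔ O := by
    rw [preimageAlong_imageAlong hfac.1 hfac.2.1 hUS₂, sup_assoc, sup_idem]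
  have hg' : Maps F (preimageAlong θ (imageAlong θ (R ⊔ O))) g := by
    rw [hpre]
    exact hg
  obtain ⟨a', ha', hrel⟩ := maps_desc hfac hsc le_top hg'
  rw [hpre] at hrel
  have hx' : x ∈ R ⊔ O := Subgroup.mem_sup_left hx
  have hqx : qf θ x ∈ imageAlong θ (R ⊔ O) := mem_image.2 ⟨x, hx', hRS hx, rfl⟩
  have hfoc := hX' (mem_focal ha' hqx)
  rw [hrel x hx', h1 x hx] at hfoc
  obtain ⟨⟨d, hdS⟩, hd, hde⟩ := hlift hfoc
  have hdD : d ∈ D := Subgroup.mem_subgroupOf.1 hd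
  have hxS := hRS hx
  have hfS := hf.mem hx
  have hde' : qf θ d = qf θ (x⁻¹ * f x) := by
    rw [qf_mul θ (S.inv_mem hxS) hfS, qf_inv θ hxS, ← hde, qf_of_mem θ hdS]
  have h3 : d⁻¹ * (x⁻¹ * f x) ∈ O := (qf_eq_iff hfac hdS (S.mul_mem (S.inv_mem hxS) hfS)).1 hde'
  have h4 : d⁻¹ * (x⁻¹ * f x) ∈ F.focalSubgroup :=
    Subgroup.mul_mem _ (Subgroup.inv_mem _ (hDF hdD)) (mem_focal hf hx)
  have h5 := hcore ⟨h3, h4⟩
  have e : x⁻¹ * f x = d * (d⁻¹ * (x⁻¹ * f x)) := by group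
  rw [e]
  exact D.mul_mem hdD h5

/-- The inductive step. -/
theorem step (G : PF p W) (hT : LT p W) (IH : IHyp p W F) (hS : IsPGroup p S) (hF : F.IsSaturated p) :
    F.focalSubgroup ≤ focN F (WW W S) := by
  have hO : F.IsNormal F.core := Cfsg.Agent.S5145.result F
  have hmax : ∀ V : Subgroup Ω, F.IsNormal V → V ≤ F.core := fun V hV => le_sSup hV
  by_cases hOb : F.core = ⊥
  · have hcore : ∀ V : Subgroup Ω, F.IsNormal V → V = ⊥ := fun V hV => by
      rw [eq_bot_iff, ← hOb]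
      exact hmax V hV
    have hall : ∀ V : Subgroup Ω, V ≠ ⊥ → F.IsFullyNormalized V → focN F V ≤ focN F (WW W S) :=
      fun V h1 h2 => climb G IH hS hF hcore _ V rfl h1 h2
    have hcomm : ⁅S, S⁆ ≤ focN F (WW W S) := commutator_le_focN (WW_le S) (le_normalizer_WW G hS)
    have hlev := levelled hS hF hcomm 0 (fun Q h1 _ _ α hα x hx => by
      by_cases hQ : Q = ⊥
      · subst hQ
        have hx1 : x = 1 := Subgroup.mem_bot.1 hx
        subst hx1
        have hm := Maps_of_mem_autGroup h1.1 hα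
        rw [hm.map_one]
        simp
      · have hNM : NM F Q Q (afn α) := ⟨Maps_of_mem_autGroup h1.1 hα, le_rfl, le_normalizerIn h1.1, afn_img α⟩
        exact hall Q hQ h1 (mem_focN hNM hx))
    refine focal_le_of (fun R f hf x hx => ?_)
    haveI : Finite R := finite_of_le hf.le
    exact hlev R f hf Nat.card_pos x hx
  · refine step_normal G IH hS hF hO hmax hOb ?_
    by_cases hcon : centralizerIn S F.core ≤ F.core
    · exact core_le_of_model G hT hS hF hO ⟨hO.1, fun Q' h => by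
        rw [conj_eq_of_isNormal hO h]
        exact hcon⟩
    · exact core_le_of_not_centric G IH hS hF hO hmax hcon

/-- The main theorem. -/
theorem main (G : PF p W) (hT : LT p W) : ∀ (n m : ℕ) (Ω : Type u) [Group Ω] (S : Subgroup Ω) [Finite S] (F : FusionSystem S),
    Nat.card S = n → meas F = m → IsPGroup p S → F.IsSaturated p → F.focalSubgroup ≤ focN F (WW W S) := by
  intro n
  induction n using Nat.strong_induction_on with
  | _ n ihn =>
  intro m
  induction m using Nat.strong_induction_on with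
  | _ m ihm =>
  intro Ω _ S _ F hn hm hS hF
  refine step G hT ?_ hS hF
  intro Ω' _ S' _ F' hS' hF' hlt
  rcases hlt with h | ⟨h1, h2⟩
  · exact ihn (Nat.card S') (hn ▸ h) (meas F') Ω' S' F' rfl rfl hS' hF'
  · exact ihm (meas F') (hm ▸ h2) Ω' S' F' (h1.trans hn) rfl hS' hF'

/-- **A positive characteristic functor satisfying the local condition controls the focal subgroup.** -/
theorem focal_eq (G : PF p W) (hT : LT p W) (hS : IsPGroup p S) (hF : F.IsSaturated p)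
    {N : FusionSystem (normalizerIn S (WW W S))} (hN : F.IsNormalizerSystem (WW W S) N) :
    N.focalSubgroup = F.focalSubgroup := by
  rw [focal_normalizer (WW_le S) hN]
  exact le_antisymm focN_le_focal (main G hT _ _ Ω S F rfl rfl hS hF)

end Induction

end Functor

end Cfsg.Agent.Lib.FusionFocalCtl
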