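/-
AschCore: automorphisms of `Q C_S(Q)` preserving `Q` and acting trivially on `C_S(Q)` modulo `Q`; the elements of order prime to `p`
among them fix the focal subgroup of `C_F(Q)` pointwise.
-/
import Mathlib
import Cfsg.Agent.Lib.FusionFocalCtl
import Cfsg.Agent.Lib.FusionSatNorm

set_option autoImplicit false
set_option linter.unusedSectionVars false
set_option linter.unusedVariables false
set_option linter.unusedSimpArgs false

namespace Cfsg.Agent.Lib.AschCore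

open Cfsg Cfsg.FusionSystem Cfsg.Agent.Lib.FusionCore Cfsg.Agent.Lib.FusionCore2
open scoped commutatorElement

universe u

variable {Ω : Type u} [Group Ω] {S : Subgroup Ω} {F : FusionSystem S} {p : ℕ} {Q : Subgroup Ω}

/-- `Q C_S(Q)`. -/
abbrev KK (S Q : Subgroup Ω) : Subgroup Ω := Q ⊔ centralizerIn S Q

lemma KK_le (hQ : Q ≤ S) : KK S Q ≤ S := sup_le hQ inf_le_left

lemma Y_le_KK {y : Ω} (hy : y ∈ centralizerIn S Q) : y ∈ KK S Q := (le_sup_right : centralizerIn S Q ≤ KK S Q) hy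

lemma Q_le_KK {y : Ω} (hy : y ∈ Q) : y ∈ KK S Q := (le_sup_left : Q ≤ KK S Q) hy

/-- Automorphisms of `Q C_S(Q)` in `F` preserving `Q`. -/
structure Pres (F : FusionSystem S) (Q : Subgroup Ω) (θ : MulAut ↥(KK S Q)) : Prop where
  mem : θ ∈ F.autGroup (KK S Q)
  hQ : ∀ x ∈ Q, afn θ x ∈ Q

/-- Automorphisms of `Q C_S(Q)` in `F` preserving `Q` and acting trivially on `C_S(Q)` modulo `Q`. -/
structure Wk (F : FusionSystem S) (Q : Subgroup Ω) (θ : MulAut ↥(KK S Q)) : Prop extends Pres F Q θ where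
  hY : ∀ y ∈ centralizerIn S Q, y⁻¹ * afn θ y ∈ Q

section Basic

variable [Finite S] {θ θ₁ θ₂ : MulAut ↥(KK S Q)}

lemma Pres.maps (hQS : Q ≤ S) (h : Pres F Q θ) : Maps F (KK S Q) (afn θ) :=
  (mem_autGroup_iff (KK_le hQS)).1 h.mem

lemma Pres.maps_Q (hQS : Q ≤ S) (h : Pres F Q θ) : Maps F Q (afn θ) :=
  (h.maps hQS).restrict le_sup_left

lemma Pres.img_Q (hQS : Q ≤ S) (h : Pres F Q θ) : img (afn θ) Q = Q :=
  img_eq_of_card (h.maps_Q hQS) hQS hQS h.hQ le_rfl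

lemma Pres.surj_Q (hQS : Q ≤ S) (h : Pres F Q θ) {q : Ω} (hq : q ∈ Q) : ∃ x ∈ Q, afn θ x = q := by
  have : q ∈ img (afn θ) Q := by rw [h.img_Q hQS]; exact hq
  exact (h.maps_Q hQS).mem_img.1 this

lemma Pres.memY (hQS : Q ≤ S) (h : Pres F Q θ) {y : Ω} (hy : y ∈ centralizerIn S Q) :
    afn θ y ∈ centralizerIn S Q := by
  refine mem_centralizerIn.2 ⟨(h.maps hQS).mem (Y_le_KK hy), fun q hq => ?_⟩
  obtain ⟨x, hx, rfl⟩ := h.surj_Q hQS hq
  have h1 : x * y = y * x := (mem_centralizerIn.1 hy).2 x hx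
  rw [← (h.maps hQS).map_mul (Q_le_KK hx) (Y_le_KK hy), h1, (h.maps hQS).map_mul (Y_le_KK hy) (Q_le_KK hx)]

lemma Pres.one (hQS : Q ≤ S) : Pres F Q (1 : MulAut ↥(KK S Q)) where
  mem := Subgroup.one_mem _
  hQ := fun x hx => by rw [afn_one (Q_le_KK hx)]; exact hx

lemma Pres.mul (h1 : Pres F Q θ₁) (h2 : Pres F Q θ₂) : Pres F Q (θ₁ * θ₂) where
  mem := Subgroup.mul_mem _ h1.mem h2.mem
  hQ := fun x hx => by
    rw [afn_mul θ₁ θ₂ (Q_le_KK hx)]
    exact h1.hQ _ (h2.hQ x hx)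

lemma Pres.inv (hQS : Q ≤ S) (h : Pres F Q θ) : Pres F Q θ⁻¹ where
  mem := Subgroup.inv_mem _ h.mem
  hQ := fun x hx => by
    obtain ⟨z, hz, rfl⟩ := h.surj_Q hQS hx
    rw [afn_inv_afn θ (Q_le_KK hz)]
    exact hz

lemma Wk.one (hQS : Q ≤ S) : Wk F Q (1 : MulAut ↥(KK S Q)) where
  toPres := Pres.one hQS
  hY := fun y hy => by
    rw [afn_one (Y_le_KK hy)]
    simpa using Q.one_mem

lemma Wk.z_mem_Y (hQS : Q ≤ S) (h : Wk F Q θ) {y : Ω} (hy : y ∈ centralizerIn S Q) :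
    y⁻¹ * afn θ y ∈ centralizerIn S Q :=
  Subgroup.mul_mem _ (Subgroup.inv_mem _ hy) (h.toPres.memY hQS hy)

lemma Wk.z_comm (hQS : Q ≤ S) (h : Wk F Q θ) {y b : Ω} (hy : y ∈ centralizerIn S Q) (hb : b ∈ centralizerIn S Q) :
    (y⁻¹ * afn θ y) * b = b * (y⁻¹ * afn θ y) :=
  (mem_centralizerIn.1 hb).2 _ (h.hY y hy)

lemma Wk.mul (hQS : Q ≤ S) (h1 : Wk F Q θ₁) (h2 : Wk F Q θ₂) : Wk F Q (θ₁ * θ₂) where
  toPres := h1.toPres.mul h2.toPres
  hY := fun y hy => by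
    rw [afn_mul θ₁ θ₂ (Y_le_KK hy)]
    have hz := h2.hY y hy
    have e : afn θ₂ y = y * (y⁻¹ * afn θ₂ y) := by group
    rw [e, (h1.toPres.maps hQS).map_mul (Y_le_KK hy) (Q_le_KK hz)]
    have := Q.mul_mem (h1.hY y hy) (h1.hQ _ hz)
    rwa [mul_assoc] at this

lemma Wk.inv (hQS : Q ≤ S) (h : Wk F Q θ) : Wk F Q θ⁻¹ where
  toPres := h.toPres.inv hQS
  hY := fun y hy => by
    have hy' := (h.toPres.inv hQS).memY hQS hy
    have hz := h.hY _ hy'
    rw [afn_afn_inv θ (Y_le_KK hy)] at hz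
    have := Q.inv_mem hz
    simpa using this

lemma Wk.pow (hQS : Q ≤ S) (h : Wk F Q θ) (k : ℕ) : Wk F Q (θ ^ k) := by
  induction k with
  | zero => simpa using Wk.one hQS
  | succ k ih =>
    rw [pow_succ']
    exact h.mul hQS ih

/-- Conjugation by a `Q`-preserving automorphism preserves the property. -/
lemma Wk.conj (hQS : Q ≤ S) (h₀ : Pres F Q θ₁) (h : Wk F Q θ₂) : Wk F Q (θ₁ * θ₂ * θ₁⁻¹) where
  toPres := (h₀.mul h.toPres).mul (h₀.inv hQS)
  hY := fun y hy => by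
    have hy' := (h₀.inv hQS).memY hQS hy
    rw [afn_mul (θ₁ * θ₂) θ₁⁻¹ (Y_le_KK hy), afn_mul θ₁ θ₂ (Y_le_KK hy')]
    have hz := h.hY _ hy'
    have e : afn θ₂ (afn θ₁⁻¹ y) = (afn θ₁⁻¹ y) * ((afn θ₁⁻¹ y)⁻¹ * afn θ₂ (afn θ₁⁻¹ y)) := by group
    rw [e, (h₀.maps hQS).map_mul (Y_le_KK hy') (Q_le_KK hz), afn_afn_inv θ₁ (Y_le_KK hy)]
    simpa using h₀.hQ _ hz

end Basic

/-! ### Fixed points -/

section Fix

variable [Finite S] {θ : MulAut ↥(KK S Q)} {P : Subgroup Ω} {f : Ω → Ω}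

lemma cext_congr {U : Subgroup Ω} {f g : Ω → Ω} (h : CExt F U P f) (hfg : ∀ x ∈ P, f x = g x) : CExt F U P g := by
  obtain ⟨k, hk, h1, h2⟩ := h
  exact ⟨k, hk, fun x hx => (h1 x hx).trans (hfg x hx), h2⟩

lemma maps_cent {U : Subgroup Ω} {D : FusionSystem (centralizerIn S U)} (hD : F.IsCentralizerSystem U D) :
    Maps D P f ↔ Maps F P f ∧ P ≤ centralizerIn S U ∧ (∀ x ∈ P, f x ∈ centralizerIn S U) ∧ CExt F U P f := by
  constructor
  · rintro ⟨φ, hφ, hf⟩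
    rw [hD P] at hφ
    obtain ⟨h1, h2, h3, h4⟩ := hφ
    refine ⟨⟨φ, h1, hf⟩, h2, fun x hx => ?_, ?_⟩
    · rw [← hf ⟨x, hx⟩]
      exact h3 _
    · refine cext_congr (cExt_iff_exists.1 h4) (fun x hx => ?_)
      rw [fn_of_mem φ hx]
      exact hf ⟨x, hx⟩
  · rintro ⟨h1, h2, h3, h4⟩
    refine ⟨h1.hom, ?_, h1.hom_apply⟩
    rw [hD P]
    refine ⟨h1.hom_mem, h2, fun x => ?_, ?_⟩
    · rw [h1.hom_apply]
      exact h3 x x.2
    · refine cExt_iff_exists.2 (cext_congr h4 (fun x hx => ?_))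
      rw [fn_of_mem _ hx, h1.hom_apply]

lemma maps_cent_fix {U : Subgroup Ω} {D : FusionSystem (centralizerIn S U)} (hD : F.IsCentralizerSystem U D)
    (h : Maps D P f) {a : Ω} (ha : a ∈ P) (ha' : a ∈ U) : f a = a := by
  obtain ⟨-, -, -, k, hk, h1, h2⟩ := (maps_cent hD).1 h
  rw [← h1 a ha, h2 a ha']

/-- The generators of the focal subgroup, on functions. -/
lemma focal_gen {T : Subgroup Ω} {D : FusionSystem T} (h : Maps D P f) {x : Ω} (hx : x ∈ P) :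
    x⁻¹ * f x ∈ D.focalSubgroup := by
  refine Subgroup.subset_closure ⟨P, h.hom, ⟨x, hx⟩, h.hom_mem, ?_⟩
  rw [h.hom_apply]

lemma focal_le {T : Subgroup Ω} (D : FusionSystem T) : D.focalSubgroup ≤ T := by
  rw [focalSubgroup, Subgroup.closure_le]
  rintro _ ⟨P, φ, x, hφ, rfl⟩
  exact T.mul_mem (T.inv_mem ((D.le_of_mem hφ).1 x.2)) ((D.le_of_mem hφ).2 x)

/-- Conjugating by a `Q`-preserving automorphism is an automorphism of `C_F(Q)`. -/
lemma Pres.maps_conj (hQS : Q ≤ S) (h : Pres F Q θ) {D : FusionSystem (centralizerIn S Q)}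
    (hD : F.IsCentralizerSystem Q D) (hf : Maps D P f) :
    Maps D (img (afn θ) P) (afn θ ∘ f ∘ afn θ⁻¹) := by
  obtain ⟨hF', hP, hfY, k, hk, hk1, hk2⟩ := (maps_cent hD).1 hf
  have hg := h.maps hQS
  have hi := (h.inv hQS).maps hQS
  have hPK : P ≤ KK S Q := hP.trans le_sup_right
  have hgP := hg.restrict hPK
  have hP' : img (afn θ) P ≤ centralizerIn S Q := by
    intro y hy
    obtain ⟨x, hx, rfl⟩ := hgP.mem_img.1 hy
    exact h.memY hQS (hP hx)
  have hback : ∀ y ∈ img (afn θ) P, afn θ⁻¹ y ∈ P := by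
    intro y hy
    obtain ⟨x, hx, rfl⟩ := hgP.mem_img.1 hy
    rw [afn_inv_afn θ (hPK hx)]
    exact hx
  have hP'K : img (afn θ) P ≤ KK S Q := hP'.trans le_sup_right
  refine (maps_cent hD).2 ⟨?_, hP', ?_, ?_⟩
  · exact (hi.restrict hP'K).comp (hF'.comp hg (fun x hx => Y_le_KK (hfY x hx))) hback
  · intro y hy
    exact h.memY hQS (hfY _ (hback y hy))
  · refine ⟨afn θ ∘ k ∘ afn θ⁻¹, ?_, fun y hy => ?_, fun q hq => ?_⟩
    · have hle : img (afn θ) P ⊔ Q ≤ KK S Q := sup_le hP'K le_sup_left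
      have h1 : ∀ x ∈ img (afn θ) P ⊔ Q, afn θ⁻¹ x ∈ P ⊔ Q :=
        (hi.restrict hle).sup_mem (fun x hx => (le_sup_left : P ≤ P ⊔ Q) (hback x hx))
          (fun x hx => (le_sup_right : Q ≤ P ⊔ Q) ((h.inv hQS).hQ x hx))
      have h2 : ∀ x ∈ P ⊔ Q, k x ∈ KK S Q := hk.sup_mem (fun x hx => by rw [hk1 x hx]; exact Y_le_KK (hfY x hx))
        (fun x hx => by rw [hk2 x hx]; exact Q_le_KK hx)
      exact (hi.restrict hle).comp (hk.comp hg h2) h1
    · simp only [Function.comp]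
      rw [hk1 _ (hback y hy)]
    · simp only [Function.comp]
      have hq' := (h.inv hQS).hQ q hq
      rw [hk2 _ hq', afn_afn_inv θ (Q_le_KK hq)]

/-- A `Q`-preserving automorphism preserves the focal subgroup of `C_F(Q)`. -/
lemma Pres.focal_inv (hQS : Q ≤ S) (h : Pres F Q θ) {D : FusionSystem (centralizerIn S Q)}
    (hD : F.IsCentralizerSystem Q D) : ∀ x ∈ D.focalSubgroup, afn θ x ∈ D.focalSubgroup := by
  intro x hx
  have hgm := h.maps hQS
  have hYK : ∀ {y}, y ∈ centralizerIn S Q → y ∈ KK S Q := fun hy => Y_le_KK hy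
  have := Subgroup.closure_induction (p := fun x _ => x ∈ centralizerIn S Q ∧ afn θ x ∈ D.focalSubgroup) ?_ ?_ ?_ ?_ hx
  · exact this.2
  · rintro _ ⟨P, φ, u, hφ, rfl⟩
    have hm' := Maps.of_mem hφ
    have hP := (D.le_of_mem hφ).1
    have huY : (u : Ω) ∈ centralizerIn S Q := hP u.2
    have hvY : fn φ (u : Ω) ∈ centralizerIn S Q := by
      rw [fn_coe]
      exact (D.le_of_mem hφ).2 u
    have hc := h.maps_conj hQS hD hm'
    have hu : afn θ u ∈ img (afn θ) P := (hgm.restrict (hP.trans le_sup_right)).mem_img_of_mem u.2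
    have hgen := focal_gen hc hu
    simp only [Function.comp] at hgen
    rw [show afn θ⁻¹ (afn θ u) = u from afn_inv_afn θ (hYK huY), fn_coe] at hgen
    refine ⟨by rw [← fn_coe φ u]; exact Subgroup.mul_mem _ (Subgroup.inv_mem _ huY) hvY, ?_⟩
    rw [← fn_coe φ u, hgm.map_mul ((KK S Q).inv_mem (hYK huY)) (hYK hvY), hgm.map_inv (hYK huY), fn_coe]
    exact hgen
  · exact ⟨Subgroup.one_mem _, by rw [hgm.map_one]; exact Subgroup.one_mem _⟩
  · rintro a b - - ⟨ha, ha'⟩ ⟨hb, hb'⟩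
    exact ⟨Subgroup.mul_mem _ ha hb, by rw [hgm.map_mul (hYK ha) (hYK hb)]; exact Subgroup.mul_mem _ ha' hb'⟩
  · rintro a - ⟨ha, ha'⟩
    exact ⟨Subgroup.inv_mem _ ha, by rw [hgm.map_inv (hYK ha)]; exact Subgroup.inv_mem _ ha'⟩

local notation "Y" => centralizerIn S Q

/-- **Fixed points.** An automorphism of `Q C_S(Q)` in `F`, preserving `Q`, trivial on `C_S(Q)` modulo `Q`, of order prime to `p`, fixes
the focal subgroup of `C_F(Q)` pointwise. -/
theorem core_fix [Fact p.Prime] (hS : IsPGroup p S) (hF : F.IsSaturated p) (hQS : Q ≤ S)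
    (hQc : F.IsFullyCentralized Q) {D : FusionSystem (centralizerIn S Q)} (hD : F.IsCentralizerSystem Q D)
    (h : Wk F Q θ) {m : ℕ} (hm : θ ^ m = 1) (hmp : m.Coprime p) : ∀ x ∈ D.focalSubgroup, afn θ x = x := by
  classical
  have hYS : Y ≤ S := inf_le_left
  have : Finite Y := finite_of_le hYS
  have hDs : D.IsSaturated p := Cfsg.Agent.Lib.FusionSatNorm.saturated_centralizer hS hF hQc hD
  have hYp : IsPGroup p Y := hS.to_le hYS
  set g := afn θ with hg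
  have hgm : Maps F (KK S Q) g := h.toPres.maps hQS
  have hgY : ∀ {y}, y ∈ Y → g y ∈ Y := fun hy => h.toPres.memY hQS hy
  have hzQ : ∀ {y}, y ∈ Y → y⁻¹ * g y ∈ Q := fun {y} hy => h.hY y hy
  have hzY : ∀ {y}, y ∈ Y → y⁻¹ * g y ∈ Y := fun hy => h.z_mem_Y hQS hy
  have hzc : ∀ {y b}, y ∈ Y → b ∈ Y → (y⁻¹ * g y) * b = b * (y⁻¹ * g y) := fun hy hb => h.z_comm hQS hy hb
  have hYK : ∀ {y}, y ∈ Y → y ∈ KK S Q := fun hy => Y_le_KK hy
  -- multiplicativity of y ↦ y⁻¹ g y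
  have hlam : ∀ {a b}, a ∈ Y → b ∈ Y → (a * b)⁻¹ * g (a * b) = (a⁻¹ * g a) * (b⁻¹ * g b) := by
    intro a b ha hb
    rw [hgm.map_mul (hYK ha) (hYK hb)]
    have e := hzc ha (Subgroup.inv_mem _ hb)
    calc (a * b)⁻¹ * (g a * g b) = b⁻¹ * (a⁻¹ * g a) * g b := by group
      _ = (a⁻¹ * g a) * b⁻¹ * g b := by rw [e]
      _ = _ := by group
  -- the kernel
  let Ker : Subgroup Ω :=
    { carrier := {y | y ∈ Y ∧ g y = y}
      mul_mem' := by
        rintro a b ⟨ha, ha'⟩ ⟨hb, hb'⟩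
        exact ⟨Subgroup.mul_mem _ ha hb, by rw [hgm.map_mul (hYK ha) (hYK hb), ha', hb']⟩
      one_mem' := ⟨Subgroup.one_mem _, hgm.map_one⟩
      inv_mem' := by
        rintro a ⟨ha, ha'⟩
        exact ⟨Subgroup.inv_mem _ ha, by rw [hgm.map_inv (hYK ha), ha']⟩ }
  have hKerY : Ker ≤ Y := fun y hy => hy.1
  -- the image
  let C : Subgroup Ω :=
    { carrier := {z | ∃ y ∈ Y, z = y⁻¹ * g y}
      mul_mem' := by
        rintro _ _ ⟨a, ha, rfl⟩ ⟨b, hb, rfl⟩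
        exact ⟨a * b, Subgroup.mul_mem _ ha hb, (hlam ha hb).symm⟩
      one_mem' := ⟨1, Subgroup.one_mem _, by rw [hgm.map_one]; simp⟩
      inv_mem' := by
        rintro _ ⟨a, ha, rfl⟩
        refine ⟨a⁻¹, Subgroup.inv_mem _ ha, ?_⟩
        have e := hlam ha (Subgroup.inv_mem _ ha)
        rw [mul_inv_cancel, hgm.map_one] at e
        simp only [inv_one, mul_one] at e
        exact inv_eq_of_mul_eq_one_right e.symm }
  have hCY : C ≤ Y := by
    rintro _ ⟨a, ha, rfl⟩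
    exact hzY ha
  have hCQ : ∀ {z}, z ∈ C → z ∈ Q := by
    rintro _ ⟨a, ha, rfl⟩
    exact hzQ ha
  have hcomm : ⁅Y, Y⁆ ≤ Ker := by
    rw [Subgroup.commutator_le]
    intro a ha b hb
    refine ⟨Subgroup.commutator_mem_commutator ha hb |> fun h' => ?_, ?_⟩
    · simpa [commutatorElement_def] using
        Subgroup.mul_mem _ (Subgroup.mul_mem _ (Subgroup.mul_mem _ ha hb) (Subgroup.inv_mem _ ha)) (Subgroup.inv_mem _ hb)
    · have hca : g a = a * (a⁻¹ * g a) := by group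
      have hcb : g b = b * (b⁻¹ * g b) := by group
      have e1 : g ⁅a, b⁆ = ⁅g a, g b⁆ := by
        rw [commutatorElement_def, commutatorElement_def,
          hgm.map_mul (KK S Q |>.mul_mem (KK S Q |>.mul_mem (hYK ha) (hYK hb)) (KK S Q |>.inv_mem (hYK ha))) (KK S Q |>.inv_mem (hYK hb)),
          hgm.map_mul (KK S Q |>.mul_mem (hYK ha) (hYK hb)) (KK S Q |>.inv_mem (hYK ha)),
          hgm.map_mul (hYK ha) (hYK hb), hgm.map_inv (hYK ha), hgm.map_inv (hYK hb)]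
      rw [e1]
      have hza := hzc ha hb
      have hzb := hzc hb ha
      have hzab := hzc ha (hzY hb)
      set za := a⁻¹ * g a
      set zb := b⁻¹ * g b
      rw [hca, hcb, commutatorElement_def, commutatorElement_def]
      have e2 : a * za * (b * zb) * (a * za)⁻¹ * (b * zb)⁻¹ = a * (za * b) * zb * za⁻¹ * a⁻¹ * zb⁻¹ * b⁻¹ := by group
      rw [e2, hza]
      have e3 : a * (b * za) * zb * za⁻¹ * a⁻¹ * zb⁻¹ * b⁻¹ = a * b * (za * zb) * za⁻¹ * a⁻¹ * zb⁻¹ * b⁻¹ := by group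
      rw [e3, hzab]
      have e4 : a * b * (zb * za) * za⁻¹ * a⁻¹ * zb⁻¹ * b⁻¹ = a * (b * zb * a⁻¹) * zb⁻¹ * b⁻¹ := by group
      rw [e4]
      have hzb' : zb * a⁻¹ = a⁻¹ * zb := hzc hb (Subgroup.inv_mem _ ha)
      have e5 : a * (b * zb * a⁻¹) * zb⁻¹ * b⁻¹ = a * b * (zb * a⁻¹) * zb⁻¹ * b⁻¹ := by group
      rw [e5, hzb']
      group
  have hst : ∀ a ∈ C, ∀ (R : Subgroup Ω) (f : Ω → Ω), Maps D R f → a ∈ R → a⁻¹ * f a ∈ Ker := by
    intro a ha R f hf haR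
    rw [maps_cent_fix hD hf haR (hCQ ha)]
    simpa using Ker.one_mem
  have key : C ⊓ D.focalSubgroup ≤ Ker :=
    Cfsg.Agent.Lib.FusionFocalCtl.mem_of_stable hYp hDs hKerY hcomm hCY hst
  -- `C ∩ Ker = 1`
  have htriv : ∀ {z}, z ∈ C → z ∈ Ker → z = 1 := by
    rintro _ ⟨y, hy, rfl⟩ ⟨-, hz⟩
    set z := y⁻¹ * g y with hzdef
    have hzKK : z ∈ KK S Q := Y_le_KK (hzY hy)
    have hpow : ∀ k : ℕ, afn (θ ^ k) y = y * z ^ k := by
      intro k
      induction k with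
      | zero => rw [pow_zero, pow_zero, afn_one (hYK hy), mul_one]
      | succ k ih =>
        rw [pow_succ', afn_mul θ (θ ^ k) (hYK hy), ih]
        show g (y * z ^ k) = _
        rw [hgm.map_mul (hYK hy) ((KK S Q).pow_mem hzKK k),
          hgm.map_pow hzKK, hz]
        have e : g y = y * z := by rw [hzdef]; group
        rw [e, pow_succ', mul_assoc]
    have h1 := hpow m
    rw [hm, afn_one (hYK hy)] at h1
    have h2 : z ^ m = 1 := by
      have := mul_left_cancel (a := y) (b := 1) (c := z ^ m) (by rw [mul_one]; exact h1)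
      exact this.symm
    obtain ⟨n, hn⟩ := hS ⟨z, hYS (hzY hy)⟩
    have h3 : z ^ p ^ n = 1 := by
      have := congrArg Subtype.val hn
      simpa using this
    have hd : orderOf z ∣ Nat.gcd m (p ^ n) := Nat.dvd_gcd (orderOf_dvd_of_pow_eq_one h2) (orderOf_dvd_of_pow_eq_one h3)
    have hg1 : Nat.gcd m (p ^ n) = 1 := Nat.Coprime.pow_right n hmp
    rw [hg1, Nat.dvd_one, orderOf_eq_one_iff] at hd
    exact hd
  -- invariance of the focal subgroup
  have hinv : ∀ x ∈ D.focalSubgroup, g x ∈ D.focalSubgroup := fun x hx => h.toPres.focal_inv hQS hD x hx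
  -- conclusion
  intro x hx
  have hxY : x ∈ Y := focal_le D hx
  have hzC : x⁻¹ * g x ∈ C := ⟨x, hxY, rfl⟩
  have hzF : x⁻¹ * g x ∈ D.focalSubgroup := Subgroup.mul_mem _ (Subgroup.inv_mem _ hx) (hinv x hx)
  have := htriv hzC (key ⟨hzC, hzF⟩)
  rw [inv_mul_eq_one] at this
  exact this.symm

end Fix

end Cfsg.Agent.Lib.AschCore
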