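import Mathlib
import Cfsg.Prelude.Def_KGroupFacts
import Cfsg.Prelude.Def_Transfer
import Cfsg.Agent.Lib.PResid
import Cfsg.Agent.Lib.PGrp
import Cfsg.Agent.Lib.OddLocalA

/-!
# Thompson's critical subgroup relative to a group of automorphisms

For a finite `p`-group `P` and a group `G` of automorphisms containing the inner ones: a
`G`-invariant subgroup `D` of exponent `p` (or `4`) with `[D, P] ≤ Z(D)` such that elements of `G`
of order prime to `p` act faithfully on it, and on its maximal abelian subgroups.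
-/

set_option autoImplicit false

open Cfsg
open scoped commutatorElement

namespace Cfsg.Agent.Lib.CritAut

variable {P : Type*} [Group P]

theorem iter_eq (α : MulAut P) (x : P) (h : α (x⁻¹ * α x) = x⁻¹ * α x) (k : ℕ) :
    (α ^ k) x = x * (x⁻¹ * α x) ^ k := by
  induction k with
  | zero => simp
  | succ k ih =>
    rw [pow_succ', MulAut.mul_apply, ih, map_mul, map_pow, h, pow_succ']
    simp [mul_assoc]

/-- An automorphism of order prime to `p` of a `p`-group: if `x⁻¹ α(x)` is fixed, it is trivial. -/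
theorem fix_trick {p : ℕ} [Fact p.Prime] (hP : IsPGroup p P) (α : MulAut P)
    (hα : (orderOf α).Coprime p) (x : P) (h : α (x⁻¹ * α x) = x⁻¹ * α x) : x⁻¹ * α x = 1 := by
  have h1 := iter_eq α x h (orderOf α)
  rw [pow_orderOf_eq_one] at h1
  have h2 : (x⁻¹ * α x) ^ orderOf α = 1 := by
    have h3 : x * (x⁻¹ * α x) ^ orderOf α = x * 1 := by
      rw [← h1, mul_one]; rfl
    exact mul_left_cancel h3
  obtain ⟨n, hn⟩ := hP (x⁻¹ * α x)
  have h4 := orderOf_dvd_of_pow_eq_one h2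
  have h5 := orderOf_dvd_of_pow_eq_one hn
  have h6 : (orderOf α).Coprime (p ^ n) := Nat.Coprime.pow_right n hα
  have h7 : orderOf (x⁻¹ * α x) = 1 := Nat.eq_one_of_dvd_coprimes h6 h4 h5
  exact orderOf_eq_one_iff.mp h7

/-- Triviality on a self-centralizing normal subgroup implies triviality. -/
theorem fix_of_normal {p : ℕ} [Fact p.Prime] (hP : IsPGroup p P) (α : MulAut P)
    (hα : (orderOf α).Coprime p) (A B : Subgroup P) (hA : A.Normal)
    (hB : ∀ x ∈ B, α x ∈ B) (hAB : B ⊓ Subgroup.centralizer (A : Set P) ≤ A)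
    (hfix : ∀ a ∈ A, α a = a) : ∀ r ∈ B, α r = r := by
  intro r hr
  have h1 : r⁻¹ * α r ∈ B := mul_mem (inv_mem hr) (hB r hr)
  have h2 : r⁻¹ * α r ∈ Subgroup.centralizer (A : Set P) := by
    rw [Subgroup.mem_centralizer_iff]
    intro c hc
    have h3 : r * c * r⁻¹ ∈ A := hA.conj_mem c hc r
    have h4 := hfix _ h3
    rw [map_mul, map_mul, map_inv, hfix c hc] at h4
    have h5 : c * (r⁻¹ * α r) = r⁻¹ * (r * c * r⁻¹) * α r := by group
    rw [h5, ← h4]
    group
  have h6 : r⁻¹ * α r ∈ A := hAB (Subgroup.mem_inf.mpr ⟨h1, h2⟩)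
  have h7 := fix_trick hP α hα r (hfix _ h6)
  have h8 : α r = r * (r⁻¹ * α r) := by group
  rw [h8, h7, mul_one]

/-- `Z(C)`. -/
abbrev zc (C : Subgroup P) : Subgroup P := C ⊓ Subgroup.centralizer (C : Set P)

/-- Invariance under a subgroup of automorphisms. -/
def Inv (G : Subgroup (MulAut P)) (H : Subgroup P) : Prop := ∀ α ∈ G, ∀ x ∈ H, α x ∈ H

theorem Inv.normal {G : Subgroup (MulAut P)} (hG : Cfsg.Inn P ≤ G) {H : Subgroup P}
    (hH : Inv G H) : H.Normal := by
  constructor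
  intro n hn g
  have h1 : MulAut.conj g ∈ G := hG ⟨g, rfl⟩
  simpa using hH _ h1 n hn

theorem Inv.inf {G : Subgroup (MulAut P)} {H K : Subgroup P} (hH : Inv G H) (hK : Inv G K) :
    Inv G (H ⊓ K) := fun α hα x hx =>
  Subgroup.mem_inf.mpr ⟨hH α hα x (Subgroup.mem_inf.mp hx).1, hK α hα x (Subgroup.mem_inf.mp hx).2⟩

theorem Inv.sup {G : Subgroup (MulAut P)} {H K : Subgroup P} (hH : Inv G H) (hK : Inv G K) :
    Inv G (H ⊔ K) := by
  intro α hα x hx
  have h1 : H ⊔ K ≤ (H ⊔ K).comap α.toMonoidHom :=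
    sup_le (fun y hy => (le_sup_left : H ≤ H ⊔ K) (hH α hα y hy))
      (fun y hy => (le_sup_right : K ≤ H ⊔ K) (hK α hα y hy))
  exact h1 hx

theorem Inv.centralizer {G : Subgroup (MulAut P)} {H : Subgroup P} (hH : Inv G H) :
    Inv G (Subgroup.centralizer (H : Set P)) := by
  intro α hα x hx
  rw [Subgroup.mem_centralizer_iff] at hx ⊢
  intro h hh
  have h1 := hx _ (hH _ (inv_mem hα) h hh)
  have h2 := congrArg α h1
  simp only [map_mul] at h2
  have h3 : α ((α⁻¹ : MulAut P) h) = h := by simp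
  rwa [h3] at h2

theorem Inv.map_eq {G : Subgroup (MulAut P)} {H : Subgroup P} (hH : Inv G H) {α : MulAut P}
    (hα : α ∈ G) : H.map α.toMonoidHom = H := by
  apply le_antisymm
  · rintro _ ⟨x, hx, rfl⟩
    exact hH α hα x hx
  · intro x hx
    refine ⟨(α⁻¹ : MulAut P) x, hH _ (inv_mem hα) x hx, ?_⟩
    simp

/-- Elements of the quotient which are central and of order dividing `p`. -/
def centerOmega (Q : Type*) [Group Q] (p : ℕ) : Subgroup Q where
  carrier := {t | t ∈ Subgroup.center Q ∧ t ^ p = 1}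
  mul_mem' := fun {a b} ha hb => ⟨mul_mem ha.1 hb.1, by
    have hc : Commute a b := (Subgroup.mem_center_iff.mp ha.1 b).symm
    rw [hc.mul_pow, ha.2, hb.2, one_mul]⟩
  one_mem' := ⟨one_mem _, one_pow _⟩
  inv_mem' := fun {a} ha => ⟨inv_mem ha.1, by rw [inv_pow, ha.2, inv_one]⟩

theorem mem_center_mk_iff (C : Subgroup P) [C.Normal] (f : P) :
    (f : P ⧸ C) ∈ Subgroup.center (P ⧸ C) ↔ ∀ x, ⁅f, x⁆ ∈ C := by
  rw [Subgroup.mem_center_iff]
  constructor
  · intro h x
    have h1 := h (x : P ⧸ C)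
    rw [← QuotientGroup.eq_one_iff, commutatorElement_def]
    have h2 : ((f * x * f⁻¹ * x⁻¹ : P) : P ⧸ C) =
        (f : P ⧸ C) * (x : P ⧸ C) * (f : P ⧸ C)⁻¹ * (x : P ⧸ C)⁻¹ := rfl
    rw [h2, ← h1]
    group
  · intro h y
    induction y using QuotientGroup.induction_on with
    | H x =>
      have h1 := (QuotientGroup.eq_one_iff _).mpr (h x)
      rw [commutatorElement_def] at h1
      have h2 : ((f * x * f⁻¹ * x⁻¹ : P) : P ⧸ C) =
          (f : P ⧸ C) * (x : P ⧸ C) * (f : P ⧸ C)⁻¹ * (x : P ⧸ C)⁻¹ := rfl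
      rw [h2] at h1
      have h3 : (f : P ⧸ C) * (x : P ⧸ C) = (x : P ⧸ C) * (f : P ⧸ C) := by
        have := mul_inv_eq_one.mp h1
        rw [mul_inv_eq_iff_eq_mul] at this
        exact this
      exact h3.symm

/-- The second floor: `[f, P] ≤ C` and `f ^ p ∈ C`. -/
def Up (C : Subgroup P) [C.Normal] (p : ℕ) : Subgroup P :=
  (centerOmega (P ⧸ C) p).comap (QuotientGroup.mk' C)

theorem mem_Up {C : Subgroup P} [C.Normal] {p : ℕ} {f : P} :
    f ∈ Up C p ↔ (∀ x, ⁅f, x⁆ ∈ C) ∧ f ^ p ∈ C := by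
  change ((f : P ⧸ C) ∈ Subgroup.center (P ⧸ C) ∧ (f : P ⧸ C) ^ p = 1) ↔ _
  rw [mem_center_mk_iff, ← QuotientGroup.mk_pow, QuotientGroup.eq_one_iff]

/-- The first floor: `[u, P] ≤ Z`. -/
def UpC (Z : Subgroup P) [Z.Normal] : Subgroup P :=
  (Subgroup.center (P ⧸ Z)).comap (QuotientGroup.mk' Z)

theorem mem_UpC {Z : Subgroup P} [Z.Normal] {f : P} : f ∈ UpC Z ↔ ∀ x, ⁅f, x⁆ ∈ Z := by
  change (f : P ⧸ Z) ∈ Subgroup.center (P ⧸ Z) ↔ _
  exact mem_center_mk_iff Z f

/-- The critical family. -/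
structure Crit (G : Subgroup (MulAut P)) (R : Subgroup P) (p : ℕ) (C : Subgroup P) : Prop where
  le : C ≤ R
  inv : Inv G C
  comm : ∀ c ∈ C, ∀ x, ⁅c, x⁆ ∈ zc C
  pow : ∀ c ∈ C, c ^ p ∈ zc C

theorem crit_extend [Finite P] {p : ℕ} [Fact p.Prime] (hP : IsPGroup p P)
    {G : Subgroup (MulAut P)} (hG : Cfsg.Inn P ≤ G) {R C : Subgroup P} (hR : Inv G R)
    (hC : Crit G R p C) (hE : ¬ R ⊓ Subgroup.centralizer (C : Set P) ≤ C) :
    ∃ C', Crit G R p C' ∧ C < C' := by
  classical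
  have hCn : C.Normal := hC.inv.normal hG
  have hEinv : Inv G (R ⊓ Subgroup.centralizer (C : Set P)) := hR.inf hC.inv.centralizer
  have hEn : (R ⊓ Subgroup.centralizer (C : Set P)).Normal := hEinv.normal hG
  set E := R ⊓ Subgroup.centralizer (C : Set P) with hEdef
  -- an element of order `p` in the centre of `P / C`, from `E`
  have hQ : IsPGroup p (P ⧸ C) := hP.to_quotient C
  have hD : E.map (QuotientGroup.mk' C) ≠ ⊥ := by
    intro h
    apply hE
    intro e he
    have h1 : (e : P ⧸ C) ∈ E.map (QuotientGroup.mk' C) := ⟨e, he, rfl⟩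
    rw [h] at h1
    exact (QuotientGroup.eq_one_iff e).mp ((Subgroup.mem_bot).mp h1)
  have hDn : (E.map (QuotientGroup.mk' C)).Normal :=
    Subgroup.Normal.map hEn _ (QuotientGroup.mk'_surjective C)
  obtain ⟨y, hyD, hy1, hyc⟩ :=
    Cfsg.Agent.Lib.PGrp.exists_central_mem_normal hQ (E.map (QuotientGroup.mk' C)) hD
  obtain ⟨k, hk⟩ := (IsPGroup.iff_orderOf.mp hQ) y
  have hk0 : k ≠ 0 := by
    rintro rfl
    rw [pow_zero] at hk
    exact hy1 (orderOf_eq_one_iff.mp hk)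
  obtain ⟨k', rfl⟩ := Nat.exists_eq_succ_of_ne_zero hk0
  set y' := y ^ p ^ k' with hy'
  have hy'1 : y' ≠ 1 := by
    intro h
    have h1 := orderOf_dvd_of_pow_eq_one h
    rw [hk] at h1
    have h2 := Nat.le_of_dvd (pow_pos (Fact.out : p.Prime).pos _) h1
    have h3 : p ^ k' < p ^ (k' + 1) :=
      Nat.pow_lt_pow_right (Fact.out : p.Prime).one_lt (Nat.lt_succ_self _)
    simp only [Nat.succ_eq_add_one] at h2
    omega
  have hy'p : y' ^ p = 1 := by
    rw [hy', ← pow_mul, ← pow_succ, ← hk]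
    exact pow_orderOf_eq_one y
  have hy'D : y' ∈ E.map (QuotientGroup.mk' C) := pow_mem hyD _
  have hy'c : y' ∈ Subgroup.center (P ⧸ C) := pow_mem hyc _
  obtain ⟨f, hfE, hfy⟩ := hy'D
  have hfy' : (f : P ⧸ C) = y' := hfy
  have hfC : f ∉ C := by
    intro h
    apply hy'1
    rw [← hfy']
    exact (QuotientGroup.eq_one_iff f).mpr h
  have hfUp : f ∈ Up C p := by
    change (f : P ⧸ C) ∈ Subgroup.center (P ⧸ C) ∧ (f : P ⧸ C) ^ p = 1
    rw [hfy']
    exact ⟨hy'c, hy'p⟩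
  -- the new subgroup
  set F := E ⊓ Up C p with hF
  have hfF : f ∈ F := Subgroup.mem_inf.mpr ⟨hfE, hfUp⟩
  have hFE : F ≤ E := inf_le_left
  have hFcomm : ∀ g ∈ F, ∀ c ∈ C, g * c = c * g := by
    intro g hg c hc
    have h1 := (Subgroup.mem_inf.mp (hFE hg)).2
    exact (Subgroup.mem_centralizer_iff.mp h1 c hc).symm
  have hFinv : Inv G F := by
    intro α hα x hx
    have hxE := (Subgroup.mem_inf.mp hx).1
    obtain ⟨hx1, hx2⟩ := mem_Up.mp (Subgroup.mem_inf.mp hx).2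
    refine Subgroup.mem_inf.mpr ⟨hEinv α hα x hxE, mem_Up.mpr ⟨?_, ?_⟩⟩
    · intro u
      have h1 := hC.inv α hα _ (hx1 ((α⁻¹ : MulAut P) u))
      have h2 : α ⁅x, (α⁻¹ : MulAut P) u⁆ = ⁅α x, u⁆ := by
        rw [commutatorElement_def, commutatorElement_def]
        simp
      rwa [h2] at h1
    · have h1 := hC.inv α hα _ hx2
      rwa [map_pow] at h1
  have hZn : (zc C).Normal := (hC.inv.inf hC.inv.centralizer).normal hG
  have hFZ : ∀ g ∈ F, ∀ x, ⁅g, x⁆ ∈ zc C := by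
    intro g hg x
    have hgE := hFE hg
    obtain ⟨hg1, hg2⟩ := mem_Up.mp (Subgroup.mem_inf.mp hg).2
    have h1 : ⁅g, x⁆ ∈ E := by
      rw [commutatorElement_def]
      have h2 : g * x * g⁻¹ * x⁻¹ = g * (x * g⁻¹ * x⁻¹) := by group
      rw [h2]
      exact mul_mem hgE (hEn.conj_mem _ (inv_mem hgE) x)
    exact Subgroup.mem_inf.mpr ⟨hg1 x, (Subgroup.mem_inf.mp h1).2⟩
  have hFpow : ∀ g ∈ F, g ^ p ∈ zc C := by
    intro g hg
    have hgE := hFE hg
    obtain ⟨hg1, hg2⟩ := mem_Up.mp (Subgroup.mem_inf.mp hg).2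
    exact Subgroup.mem_inf.mpr ⟨hg2, (Subgroup.mem_inf.mp (pow_mem hgE p)).2⟩
  have hle : C ⊔ F ≤ UpC (zc C) := by
    refine sup_le ?_ ?_
    · intro c hc
      exact mem_UpC.mpr (hC.comm c hc)
    · intro g hg
      exact mem_UpC.mpr (hFZ g hg)
  have hzz : zc C ≤ zc (C ⊔ F) := by
    intro z hz
    obtain ⟨hz1, hz2⟩ := Subgroup.mem_inf.mp hz
    refine Subgroup.mem_inf.mpr ⟨(le_sup_left : C ≤ C ⊔ F) hz1, ?_⟩
    rw [Subgroup.mem_centralizer_iff]
    have h3 : C ⊔ F ≤ Subgroup.centralizer ({z} : Set P) := by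
      refine sup_le ?_ ?_
      · intro c hc
        rw [Subgroup.mem_centralizer_iff]
        intro w hw
        rw [show w = z from hw]
        exact (Subgroup.mem_centralizer_iff.mp hz2 c hc).symm
      · intro g hg
        rw [Subgroup.mem_centralizer_iff]
        intro w hw
        rw [show w = z from hw]
        exact (hFcomm g hg z hz1).symm
    intro h hh
    have h4 := Subgroup.mem_centralizer_iff.mp (h3 hh) z rfl
    exact h4.symm
  refine ⟨C ⊔ F, ⟨sup_le hC.le (hFE.trans inf_le_left), hC.inv.sup hFinv, ?_, ?_⟩, ?_⟩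
  · intro c hc x
    exact hzz (mem_UpC.mp (hle hc) x)
  · intro c hc
    obtain ⟨a, ha, b, hb, rfl⟩ := Subgroup.mem_sup_of_normal_left.mp hc
    have hcm : Commute a b := (hFcomm b hb a ha).symm
    rw [hcm.mul_pow]
    exact hzz (mul_mem (hC.pow a ha) (hFpow b hb))
  · refine lt_of_le_of_ne le_sup_left ?_
    intro h
    apply hfC
    rw [h]
    exact (le_sup_right : F ≤ C ⊔ F) hfF

/-- A maximal member of the critical family contains its centralizer in `R`. -/
theorem exists_crit [Finite P] {p : ℕ} [Fact p.Prime] (hP : IsPGroup p P)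
    {G : Subgroup (MulAut P)} (hG : Cfsg.Inn P ≤ G) {R : Subgroup P} (hR : Inv G R) :
    ∃ C, Crit G R p C ∧ R ⊓ Subgroup.centralizer (C : Set P) ≤ C := by
  classical
  let F : Set (Subgroup P) := {C | Crit G R p C}
  have hF : F.Nonempty := by
    refine ⟨⊥, bot_le, ?_, ?_, ?_⟩
    · intro α _ x hx
      rw [Subgroup.mem_bot] at hx ⊢
      rw [hx, map_one]
    · intro c hc x
      rw [Subgroup.mem_bot] at hc
      rw [hc]
      simp
    · intro c hc
      rw [Subgroup.mem_bot] at hc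
      rw [hc]
      simp
  obtain ⟨C, hC⟩ := (Set.toFinite F).exists_maximal hF
  refine ⟨C, hC.prop, ?_⟩
  by_contra hcon
  obtain ⟨C', hC', hlt⟩ := crit_extend hP hG hR hC.prop hcon
  exact absurd (hC.le_of_ge hC' hlt.le) (not_le_of_gt hlt)

section Omega

variable {p : ℕ}

/-- Power map on a critical subgroup. -/
theorem crit_mul_pow [Fact p.Prime] {G : Subgroup (MulAut P)} {R C : Subgroup P}
    (hC : Crit G R p C) {q : ℕ} (hq : p ∣ q.choose 2) {a b : P} (ha : a ∈ C) (hb : b ∈ C) :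
    (a * b) ^ q = a ^ q * b ^ q := by
  set w := ⁅b, a⁆ with hw
  have hwz : w ∈ zc C := hC.comm b hb a
  have hwa : Commute w a := (Subgroup.mem_centralizer_iff.mp (Subgroup.mem_inf.mp hwz).2 a ha).symm
  have hwb : Commute w b := (Subgroup.mem_centralizer_iff.mp (Subgroup.mem_inf.mp hwz).2 b hb).symm
  have h1 : b * a = w * a * b := by
    rw [hw, commutatorElement_def]; group
  have hwp : w ^ p = 1 := by
    have hbp := (Subgroup.mem_inf.mp (hC.pow b hb)).2
    have h2 : a⁻¹ * b * a = w * b := by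
      calc a⁻¹ * b * a = a⁻¹ * (b * a) := by group
        _ = a⁻¹ * (w * a * b) := by rw [h1]
        _ = a⁻¹ * (a * w * b) := by rw [hwa.eq]
        _ = w * b := by group
    have h3 : a⁻¹ * b ^ p * a = (w * b) ^ p := by
      rw [← h2]
      have h5 := conj_pow (i := p) (a := a⁻¹) (b := b)
      rw [inv_inv] at h5
      exact h5.symm
    have h6 : a⁻¹ * b ^ p * a = b ^ p := by
      have h7 := Subgroup.mem_centralizer_iff.mp hbp a ha
      calc a⁻¹ * b ^ p * a = a⁻¹ * (b ^ p * a) := by group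
        _ = a⁻¹ * (a * b ^ p) := by rw [h7]
        _ = b ^ p := by group
    rw [h6, hwb.mul_pow] at h3
    have h8 : 1 * b ^ p = w ^ p * b ^ p := by rw [one_mul]; exact h3
    exact (mul_right_cancel h8).symm
  have h4 := Cfsg.Agent.Lib.OddLocalA.mul_pow_of_central_comm a b w h1 hwa hwb q
  obtain ⟨t, ht⟩ := hq
  rw [h4, ht, pow_mul, hwp, one_pow, mul_one]

/-- The solutions of `x ^ q = 1` in a critical subgroup. -/
def omegaC [Fact p.Prime] {G : Subgroup (MulAut P)} {R C : Subgroup P}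
    (hC : Crit G R p C) (q : ℕ) (hq : p ∣ q.choose 2) : Subgroup P where
  carrier := {d | d ∈ C ∧ d ^ q = 1}
  mul_mem' := fun {a b} ha hb =>
    ⟨mul_mem ha.1 hb.1, by rw [crit_mul_pow hC hq ha.1 hb.1, ha.2, hb.2, one_mul]⟩
  one_mem' := ⟨one_mem _, one_pow _⟩
  inv_mem' := fun {a} ha => ⟨inv_mem ha.1, by rw [inv_pow, ha.2, inv_one]⟩

theorem fix_on_crit [Fact p.Prime] (hP : IsPGroup p P) {G : Subgroup (MulAut P)}
    {R C : Subgroup P} (hC : Crit G R p C) {q : ℕ} (hq : p ∣ q.choose 2) (hpq : p ∣ q)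
    {α : MulAut P} (hα : α ∈ G) (hcop : (orderOf α).Coprime p)
    (hfix : ∀ d ∈ omegaC hC q hq, α d = d) : ∀ c ∈ C, α c = c := by
  have key : ∀ k, ∀ x ∈ C, x ^ (q ^ k) = 1 → α x = x := by
    intro k
    induction k with
    | zero =>
      intro x _ h
      rw [pow_zero, pow_one] at h
      rw [h, map_one]
    | succ k ih =>
      intro x hx h
      have h1 : (x ^ q) ^ (q ^ k) = 1 := by
        rw [← pow_mul, ← pow_succ']
        exact h
      have h2 : α (x ^ q) = x ^ q := ih _ (pow_mem hx q) h1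
      rw [map_pow] at h2
      have hy : x⁻¹ * α x ∈ omegaC hC q hq := by
        refine ⟨mul_mem (inv_mem hx) (hC.inv α hα x hx), ?_⟩
        rw [crit_mul_pow hC hq (inv_mem hx) (hC.inv α hα x hx), h2, inv_pow, inv_mul_cancel]
      have h3 := fix_trick hP α hcop x (hfix _ hy)
      have h4 : α x = x * (x⁻¹ * α x) := by group
      rw [h4, h3, mul_one]
  intro c hc
  obtain ⟨n, hn⟩ := hP c
  apply key n c hc
  obtain ⟨t, ht⟩ := hpq
  rw [ht, mul_pow, pow_mul, hn, one_pow]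

theorem sup_isMulCommutative {X Y : Subgroup P} (hX : ∀ a ∈ X, ∀ b ∈ X, a * b = b * a)
    (hY : ∀ a ∈ Y, ∀ b ∈ Y, a * b = b * a) (hXY : ∀ a ∈ X, ∀ b ∈ Y, a * b = b * a) :
    IsMulCommutative ↥(X ⊔ Y) := by
  have h1 : X ⊔ Y ≤ Subgroup.centralizer (X : Set P) := by
    refine sup_le ?_ ?_
    · intro b hb
      rw [Subgroup.mem_centralizer_iff]
      intro a ha
      exact hX a ha b hb
    · intro b hb
      rw [Subgroup.mem_centralizer_iff]
      intro a ha
      exact hXY a ha b hb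
  have h2 : X ⊔ Y ≤ Subgroup.centralizer (Y : Set P) := by
    refine sup_le ?_ ?_
    · intro b hb
      rw [Subgroup.mem_centralizer_iff]
      intro a ha
      exact (hXY b hb a ha).symm
    · intro b hb
      rw [Subgroup.mem_centralizer_iff]
      intro a ha
      exact hY a ha b hb
  have h3 : ∀ y ∈ X ⊔ Y, X ⊔ Y ≤ Subgroup.centralizer ({y} : Set P) := by
    intro y hy
    refine sup_le ?_ ?_
    · intro a ha
      rw [Subgroup.mem_centralizer_iff]
      intro w hw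
      rw [show w = y from hw]
      exact (Subgroup.mem_centralizer_iff.mp (h1 hy) a ha).symm
    · intro a ha
      rw [Subgroup.mem_centralizer_iff]
      intro w hw
      rw [show w = y from hw]
      exact (Subgroup.mem_centralizer_iff.mp (h2 hy) a ha).symm
  refine ⟨⟨fun a b => Subtype.ext ?_⟩⟩
  exact Subgroup.mem_centralizer_iff.mp (h3 a.1 a.2 b.2) a.1 rfl

theorem max_abelian [Fact p.Prime] [Finite (MulAut P)] (hP : IsPGroup p P)
    {G : Subgroup (MulAut P)} {D : Subgroup P} (hDn : D.Normal)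
    (hDc : ⁅D, (⊤ : Subgroup P)⁆ ≤ D ⊓ Subgroup.centralizer (D : Set P))
    (hfaith : ∀ α ∈ G, (orderOf α).Coprime p → (∀ d ∈ D, α d = d) → α = 1)
    (hDinv : Inv G D) (A : Subgroup P) (hAD : A ≤ D) (hAc : IsMulCommutative ↥A)
    (hAmax : ∀ B : Subgroup P, A ≤ B → B ≤ D → IsMulCommutative ↥B → B = A) :
    A.Normal ∧ ∀ α ∈ G, (∀ a ∈ A, α a = a) → ∃ k : ℕ, orderOf α = p ^ k := by
  have hAcomm : ∀ a ∈ A, ∀ b ∈ A, a * b = b * a := fun a ha b hb =>
    congrArg Subtype.val (hAc.is_comm.comm (⟨a, ha⟩ : A) ⟨b, hb⟩)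
  have hZ : D ⊓ Subgroup.centralizer (D : Set P) ≤ A := by
    have h1 := hAmax (A ⊔ (D ⊓ Subgroup.centralizer (D : Set P))) le_sup_left
      (sup_le hAD inf_le_left)
      (sup_isMulCommutative hAcomm
        (fun a ha b hb => (Subgroup.mem_centralizer_iff.mp (Subgroup.mem_inf.mp hb).2 a
          (Subgroup.mem_inf.mp ha).1))
        (fun a ha b hb => (Subgroup.mem_centralizer_iff.mp (Subgroup.mem_inf.mp hb).2 a (hAD ha))))
    exact (le_sup_right.trans h1.le)
  have hAn : A.Normal := by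
    constructor
    intro a ha x
    have h1 : ⁅a⁻¹, x⁆ ∈ A :=
      hZ (hDc (Subgroup.commutator_mem_commutator (inv_mem (hAD ha)) (Subgroup.mem_top x)))
    have h2 : x * a * x⁻¹ = a * ⁅a⁻¹, x⁆ := by
      rw [commutatorElement_def]
      group
    rw [h2]
    exact mul_mem ha h1
  have hAself : D ⊓ Subgroup.centralizer (A : Set P) ≤ A := by
    intro g hg
    obtain ⟨hg1, hg2⟩ := Subgroup.mem_inf.mp hg
    have h1 : Subgroup.zpowers g ≤ D := (Subgroup.zpowers_le).mpr hg1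
    have h2 := hAmax (A ⊔ Subgroup.zpowers g) le_sup_left (sup_le hAD h1)
      (sup_isMulCommutative hAcomm
        (by
          rintro _ ⟨i, rfl⟩ _ ⟨j, rfl⟩
          exact ((Commute.refl g).zpow_zpow i j).eq)
        (by
          rintro a ha _ ⟨j, rfl⟩
          have h3 : Commute a g := Subgroup.mem_centralizer_iff.mp hg2 a ha
          exact (h3.zpow_right j).eq))
    have h3 : g ∈ A ⊔ Subgroup.zpowers g :=
      (le_sup_right : Subgroup.zpowers g ≤ A ⊔ Subgroup.zpowers g) (Subgroup.mem_zpowers g)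
    rwa [h2] at h3
  refine ⟨hAn, ?_⟩
  intro α hα hfix
  have hfin : orderOf α ≠ 0 := (orderOf_pos α).ne'
  obtain ⟨a, m, hm, hord⟩ := Nat.exists_eq_pow_mul_and_not_dvd hfin p (Fact.out : p.Prime).ne_one
  refine ⟨a, ?_⟩
  set β := α ^ p ^ a with hβ
  have hdiv : orderOf α / m = p ^ a := by
    have hmpos : 0 < m := Nat.pos_of_ne_zero (by rintro rfl; exact hm (dvd_zero p))
    rw [hord]
    exact Nat.mul_div_cancel _ hmpos
  have hordβ : orderOf β = m := by
    have := orderOf_pow_orderOf_div (x := α) (n := m) hfin ⟨p ^ a, by rw [hord, mul_comm]⟩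
    rwa [hdiv] at this
  have hcop : (orderOf β).Coprime p := by
    rw [hordβ]
    exact ((Nat.Prime.coprime_iff_not_dvd (Fact.out : p.Prime)).mpr hm).symm
  have hβG : β ∈ G := pow_mem hα _
  have hβfix : ∀ x ∈ A, β x = x := by
    intro x hx
    have : ∀ k : ℕ, (α ^ k) x = x := by
      intro k
      induction k with
      | zero => simp
      | succ k ih => rw [pow_succ', MulAut.mul_apply, ih, hfix x hx]
    exact this _
  have hβD := fix_of_normal hP β hcop A D hAn (fun x hx => hDinv β hβG x hx) hAself hβfix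
  have hβ1 : β = 1 := hfaith β hβG hcop hβD
  have hm1 : m = 1 := by
    rw [← hordβ, hβ1, orderOf_one]
  rw [hord, hm1, mul_one]

theorem exists_D [Finite P] [Fact p.Prime] (hP : IsPGroup p P)
    (G : Subgroup (MulAut P)) (hG : Cfsg.Inn P ≤ G) (R : Subgroup P) (hR : Inv G R)
    (hRfull : ∀ α ∈ G, (orderOf α).Coprime p → ∀ x, x⁻¹ * α x ∈ R) :
    ∃ D : Subgroup P, Inv G D ∧ D ≤ R ∧ (∀ d ∈ D, d ^ p = 1 ∨ (p = 2 ∧ d ^ 4 = 1)) ∧
      ⁅D, (⊤ : Subgroup P)⁆ ≤ D ⊓ Subgroup.centralizer (D : Set P) ∧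
      (∀ α ∈ G, (orderOf α).Coprime p → (∀ d ∈ D, α d = d) → α = 1) ∧
      ∀ A : Subgroup P, A ≤ D → IsMulCommutative ↥A →
        (∀ B : Subgroup P, A ≤ B → B ≤ D → IsMulCommutative ↥B → B = A) →
        A.Normal ∧ ∀ α ∈ G, (∀ a ∈ A, α a = a) → ∃ k : ℕ, orderOf α = p ^ k := by
  have hpp : p.Prime := Fact.out
  obtain ⟨q, hq1, hq2, hq3⟩ : ∃ q : ℕ, p ∣ q ∧ p ∣ q.choose 2 ∧
      ∀ d : P, d ^ q = 1 → d ^ p = 1 ∨ (p = 2 ∧ d ^ 4 = 1) := by
    by_cases hp2 : p = 2
    · refine ⟨4, ?_, ?_, fun d h => Or.inr ⟨hp2, h⟩⟩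
      · rw [hp2]; norm_num
      · rw [hp2]; decide
    · refine ⟨p, dvd_rfl, ?_, fun d h => Or.inl h⟩
      exact hpp.dvd_choose_self (by norm_num) (lt_of_le_of_ne hpp.two_le (Ne.symm hp2))
  obtain ⟨C, hC, hCself⟩ := exists_crit hP hG hR
  have hCn : C.Normal := hC.inv.normal hG
  let D := omegaC hC q hq2
  have hDC : D ≤ C := fun d hd => hd.1
  have hDinv : Inv G D := by
    intro α hα d hd
    refine ⟨hC.inv α hα d hd.1, ?_⟩
    rw [← map_pow, hd.2, map_one]
  have hDn : D.Normal := hDinv.normal hG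
  have hDc : ⁅D, (⊤ : Subgroup P)⁆ ≤ D ⊓ Subgroup.centralizer (D : Set P) := by
    rw [Subgroup.commutator_le]
    intro d hd x _
    have h1 : ⁅d, x⁆ ∈ D := by
      rw [commutatorElement_def]
      have h2 : d * x * d⁻¹ * x⁻¹ = d * (x * d⁻¹ * x⁻¹) := by group
      rw [h2]
      exact mul_mem hd (hDn.conj_mem _ (inv_mem hd) x)
    refine Subgroup.mem_inf.mpr ⟨h1, ?_⟩
    rw [Subgroup.mem_centralizer_iff]
    intro e he
    exact Subgroup.mem_centralizer_iff.mp (Subgroup.mem_inf.mp (hC.comm d hd.1 x)).2 e (hDC he)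
  have hfaith : ∀ α ∈ G, (orderOf α).Coprime p → (∀ d ∈ D, α d = d) → α = 1 := by
    intro α hα hcop hfix
    have h1 := fix_on_crit hP hC hq2 hq1 hα hcop hfix
    have h2 := fix_of_normal hP α hcop C R hCn (fun x hx => hR α hα x hx) hCself h1
    ext x
    have h3 := h2 _ (hRfull α hα hcop x)
    have h4 := fix_trick hP α hcop x h3
    have h5 : α x = x * (x⁻¹ * α x) := by group
    rw [h5, h4, mul_one]
    rfl
  refine ⟨D, hDinv, hDC.trans hC.le, fun d hd => hq3 d hd.2, hDc, hfaith, ?_⟩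
  intro A hAD hAc hAmax
  exact max_abelian hP hDn hDc hfaith hDinv A hAD hAc hAmax

end Omega

end Cfsg.Agent.Lib.CritAut
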