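/-
FusionPPower: saturated subsystems of `p`-power index (S5120 and the uniqueness part of S5113).
-/
import Mathlib
import Cfsg.Agent.Lib.FusionCore
import Cfsg.Agent.Lib.FusionCore2
import Cfsg.Agent.Lib.FusionAlperin
import Cfsg.Agent.Lib.FusionInvariant
import Cfsg.Agent.Lib.FusionIndexPrime
import Cfsg.Agent.Lib.FusionHyperfocal
import Cfsg.Agent.Lib.FusionStrongClosed
import Cfsg.Agent.Lib.PResid

set_option autoImplicit false

namespace Cfsg.Agent.Lib.FusionPPower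

open Cfsg Cfsg.FusionSystem Cfsg.Agent.Lib.FusionCore Cfsg.Agent.Lib.FusionCore2
open Cfsg.Agent.Lib.FusionInvariant (Inv Frat BigE)

variable {Ω : Type*} [Group Ω] {S T : Subgroup Ω} {F : FusionSystem S} {E : FusionSystem T}
  {P Q R : Subgroup Ω} {f g : Ω → Ω} {p : ℕ}

/-- The subsystem generated by `O^p(Aut_F(P))`, `P ≤ T`, and conjugation by `T`. -/
inductive GenP (F : FusionSystem S) (T : Subgroup Ω) (p : ℕ) : Subgroup Ω → (Ω → Ω) → Prop
  | gen {P R : Subgroup Ω} {α : F.autGroup P} : P ≤ T → α ∈ pResidual p (F.autGroup P) → R ≤ P →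
      GenP F T p R (afn (α : MulAut P))
  | conj {P : Subgroup Ω} {g : Ω} : P ≤ T → g ∈ T → GenP F T p P (fun x => g * x * g⁻¹)
  | comp {P Q : Subgroup Ω} {f g : Ω → Ω} : GenP F T p P f → GenP F T p Q g → (∀ x ∈ P, f x ∈ Q) →
      GenP F T p P (g ∘ f)
  | inv {P : Subgroup Ω} {f g : Ω → Ω} : GenP F T p P f → Maps F (img f P) g →
      (∀ x ∈ P, g (f x) = x) → GenP F T p (img f P) g
  | congr {P : Subgroup Ω} {f g : Ω → Ω} : GenP F T p P f → (∀ x ∈ P, f x = g x) → GenP F T p P g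

lemma GenP.maps (hT : T ≤ S) (h : GenP F T p P f) : Maps F P f := by
  induction h with
  | gen hP _ hR => exact ((mem_autGroup_iff (hP.trans hT)).1 (Subtype.property _)).restrict hR
  | conj hP hg => exact Maps.conj (hP.trans hT) (hT hg)
  | comp _ _ h hf hg => exact hf.comp hg h
  | inv _ hg _ _ => exact hg
  | congr _ h hf => exact hf.congr h

lemma GenP.subsys (hO : ∀ P : Subgroup Ω, P ≤ T → (pResidual p (F.autGroup P)).map (F.autGroup P).subtype ≤ E.autGroup P)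
    (h : GenP F T p P f) : Maps E P f := by
  induction h with
  | @gen P R α hP hα hR =>
    exact ((mem_autGroup_iff hP).1 (hO P hP ⟨α, hα, rfl⟩)).restrict hR
  | conj hP hg => exact Maps.conj hP hg
  | comp _ _ h hf hg => exact hf.comp hg h
  | @inv P f g _ hg h1 hf =>
    obtain ⟨g', hg', h1', -⟩ := hf.inv
    refine hg'.congr (fun y hy => ?_)
    obtain ⟨x, hx, rfl⟩ := hf.mem_img.1 hy
    rw [h1' x hx, h1 x hx]
  | congr _ h hf => exact hf.congr h

/-- The data of an automorphism of `T` in `F`. -/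
structure TAut (F : FusionSystem S) (T : Subgroup Ω) (A B : Ω → Ω) : Prop where
  mA : Maps F T A
  mB : Maps F T B
  memA : ∀ x ∈ T, A x ∈ T
  memB : ∀ x ∈ T, B x ∈ T
  ab : ∀ x ∈ T, A (B x) = x
  ba : ∀ x ∈ T, B (A x) = x

lemma tAut_of_mem (hTS : T ≤ S) {a : MulAut T} (ha : a ∈ F.autGroup T) : TAut F T (afn a) (afn a⁻¹) :=
  ⟨(mem_autGroup_iff hTS).1 ha, (mem_autGroup_iff hTS).1 (Subgroup.inv_mem _ ha),
    fun _ hx => afn_mem _ hx, fun _ hx => afn_mem _ hx,
    fun _ hx => afn_afn_inv a hx, fun _ hx => afn_inv_afn a hx⟩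

lemma TAut.symm {A B : Ω → Ω} (h : TAut F T A B) : TAut F T B A :=
  ⟨h.mB, h.mA, h.memB, h.memA, h.ba, h.ab⟩

lemma TAut.mem_img {A B : Ω → Ω} (h : TAut F T A B) (hP : P ≤ T) {y : Ω} :
    y ∈ img B P ↔ ∃ x ∈ P, B x = y := (h.mB.restrict hP).mem_img

lemma TAut.img_le {A B : Ω → Ω} (h : TAut F T A B) (hP : P ≤ T) : img B P ≤ T := by
  intro y hy
  obtain ⟨x, hx, rfl⟩ := (h.mem_img hP).1 hy
  exact h.memB x (hP hx)

lemma TAut.mem_of_mem {A B : Ω → Ω} (h : TAut F T A B) (hP : P ≤ T) {x : Ω} (hx : x ∈ P) :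
    B x ∈ img B P := (h.mB.restrict hP).mem_img_of_mem hx

lemma TAut.A_mem {A B : Ω → Ω} (h : TAut F T A B) (hP : P ≤ T) {y : Ω} (hy : y ∈ img B P) :
    A y ∈ P := by
  obtain ⟨x, hx, rfl⟩ := (h.mem_img hP).1 hy
  rwa [h.ab x (hP hx)]

lemma GenP.le' (hT : T ≤ S) (h : GenP F T p P f) : P ≤ T ∧ ∀ x ∈ P, f x ∈ T := by
  induction h with
  | gen hP _ hR => exact ⟨hR.trans hP, fun x hx => hP (afn_mem _ (hR hx))⟩
  | conj hP hg => exact ⟨hP, fun x hx => T.mul_mem (T.mul_mem hg (hP hx)) (T.inv_mem hg)⟩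
  | comp _ _ h ih1 ih2 => exact ⟨ih1.1, fun x hx => ih2.2 _ (h x hx)⟩
  | @inv P f g hf hg h1 ih =>
    have hm := hf.maps hT
    refine ⟨?_, fun y hy => ?_⟩
    · intro y hy
      obtain ⟨x, hx, rfl⟩ := hm.mem_img.1 hy
      exact ih.2 x hx
    · obtain ⟨x, hx, rfl⟩ := hm.mem_img.1 hy
      rw [h1 x hx]
      exact ih.1 hx
  | congr _ h ih => exact ⟨ih.1, fun x hx => h x hx ▸ ih.2 x hx⟩

/-- `MulAut.congr` on `Aut_F`, on the residual. -/
lemma congr_mem_pResidual [Finite S] [Fact p.Prime] {P' : Subgroup Ω} (h : Maps F P f) (hP' : img f P = P')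
    {α : F.autGroup P} (hα : α ∈ pResidual p (F.autGroup P)) :
    ∃ h' : MulAut.congr (h.equiv hP') (α : MulAut P) ∈ F.autGroup P',
      (⟨_, h'⟩ : F.autGroup P') ∈ pResidual p (F.autGroup P') := by
  have hmem : ∀ β : F.autGroup P, MulAut.congr (h.equiv hP') (β : MulAut P) ∈ F.autGroup P' := by
    intro β
    rw [← h.map_autGroup hP']
    exact Subgroup.mem_map_of_mem _ β.2
  refine ⟨hmem α, ?_⟩
  haveI := finite_mulAut h.le
  let ψ : F.autGroup P →* F.autGroup P' :=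
    { toFun := fun β => ⟨_, hmem β⟩
      map_one' := Subtype.ext (map_one _)
      map_mul' := fun a b => Subtype.ext (map_mul _ _ _) }
  exact Cfsg.Agent.Lib.PResid.map_pResidual_le_of_hom ψ p ⟨α, hα, rfl⟩

/-- Invariance of the generated subsystem under `Aut_F(T)`. -/
lemma GenP.conj_aut [Finite S] [Fact p.Prime] (hTS : T ≤ S) {A B : Ω → Ω} (hAB : TAut F T A B)
    (h : GenP F T p P f) : GenP F T p (img B P) (B ∘ f ∘ A) := by
  induction h with
  | @gen P' R α hP' hα hR =>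
    have hBP := hAB.mB.restrict hP'
    obtain ⟨h1, h2⟩ := congr_mem_pResidual hBP rfl hα
    have hR' : img B R ≤ img B P' := hBP.img_mono hR
    refine (GenP.gen (hAB.img_le hP') h2 hR').congr (fun y hy => ?_)
    obtain ⟨x, hx, rfl⟩ := (hAB.mem_img (hR.trans hP')).1 hy
    have e := hBP.afn_congr rfl (α : MulAut P') (hR hx)
    show afn _ (B x) = B (afn _ (A (B x)))
    rw [hAB.ab x (hP' (hR hx)), ← e]
  | @conj P g hP hg =>
    refine (GenP.conj (hAB.img_le hP) (hAB.memB _ hg)).congr (fun y hy => ?_)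
    obtain ⟨x, hx, rfl⟩ := (hAB.mem_img hP).1 hy
    have hxT := hP hx
    show _ = B (g * A (B x) * g⁻¹)
    rw [hAB.ab x hxT, hAB.mB.map_conj hg hxT]
  | @comp P Q f g hf hg h ihf ihg =>
    have hPT := (hf.le' hTS).1
    have hQT := (hg.le' hTS).1
    have hfT := (hf.le' hTS).2
    refine (ihf.comp ihg (fun y hy => ?_)).congr (fun y hy => ?_)
    · obtain ⟨x, hx, rfl⟩ := (hAB.mem_img hPT).1 hy
      show B (f (A (B x))) ∈ _
      rw [hAB.ab x (hPT hx)]
      exact hAB.mem_of_mem hQT (h x hx)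
    · obtain ⟨x, hx, rfl⟩ := (hAB.mem_img hPT).1 hy
      show B (g (A (B (f (A (B x)))))) = B (g (f (A (B x))))
      rw [hAB.ab x (hPT hx), hAB.ab _ (hfT x hx)]
  | @inv P f g hf hg h ih =>
    have hPT := (hf.le' hTS).1
    have hfT := (hf.le' hTS).2
    have hfS := hf.maps hTS
    have hiT : img f P ≤ T := by
      intro y hy
      obtain ⟨x, hx, rfl⟩ := hfS.mem_img.1 hy
      exact hfT x hx
    have e : img (B ∘ f ∘ A) (img B P) = img B (img f P) := by
      ext y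
      rw [(ih.maps hTS).mem_img, hAB.mem_img hiT]
      constructor
      · rintro ⟨z, hz, rfl⟩
        obtain ⟨x, hx, rfl⟩ := (hAB.mem_img hPT).1 hz
        refine ⟨f x, hfS.mem_img_of_mem hx, ?_⟩
        show _ = B (f (A (B x)))
        rw [hAB.ab x (hPT hx)]
      · rintro ⟨z, hz, rfl⟩
        obtain ⟨x, hx, rfl⟩ := hfS.mem_img.1 hz
        refine ⟨B x, hAB.mem_of_mem hPT hx, ?_⟩
        show B (f (A (B x))) = _
        rw [hAB.ab x (hPT hx)]
    have hU : Maps F (img B (img f P)) (B ∘ g ∘ A) := by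
      have h1 : Maps F (img B (img f P)) A := hAB.mA.restrict (hAB.img_le hiT)
      have hgT : ∀ y ∈ img f P, g y ∈ T := by
        intro y hy
        obtain ⟨x, hx, rfl⟩ := hfS.mem_img.1 hy
        rw [h x hx]
        exact hPT hx
      exact h1.comp (hg.comp hAB.mB hgT) (fun y hy => hAB.A_mem hiT hy)
    have := GenP.inv ih (e ▸ hU) (fun y hy => ?_)
    · rwa [e] at this
    · obtain ⟨x, hx, rfl⟩ := (hAB.mem_img hPT).1 hy
      show B (g (A (B (f (A (B x)))))) = B x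
      rw [hAB.ab x (hPT hx), hAB.ab _ (hfT x hx), h x hx]
  | @congr P f g hf h ih =>
    have hPT := (hf.le' hTS).1
    refine ih.congr (fun y hy => ?_)
    obtain ⟨x, hx, rfl⟩ := (hAB.mem_img hPT).1 hy
    show B (f (A (B x))) = B (g (A (B x)))
    rw [hAB.ab x (hPT hx), h x hx]

/-- A saturated subsystem of `p`-power index over `T` is the system generated by `O^p(Aut_F(P))` and `T`. -/
theorem genP_of_maps [Finite S] [Fact p.Prime] (hTS : T ≤ S) (hS : IsPGroup p S) (hE : E.IsSaturated p)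
    (hEF : E.IsSubsystemOf F)
    (hO : ∀ P : Subgroup Ω, P ≤ T → (pResidual p (F.autGroup P)).map (F.autGroup P).subtype ≤ E.autGroup P)
    (hf : Maps E P f) : GenP F T p P f := by
  haveI : Finite T := finite_of_le hTS
  have hT : IsPGroup p T := hS.to_le hTS
  let E₁ : FusionSystem T := Cfsg.Agent.Lib.FusionIndexPrime.ofMaps E (GenP F T p)
    (fun h => h.subsys hO) GenP.congr GenP.conj GenP.comp (by
      intro P f h
      have hm := h.subsys hO
      obtain ⟨g, hg, h1, -⟩ := hm.inv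
      have hg' : Maps F (img f P) g := Cfsg.Agent.Lib.FusionInvariant.maps_sub hEF hg
      exact ⟨g, GenP.inv h hg' h1, h1⟩)
  have hle : E ≤ E₁ := by
    refine alperin_goldschmidt hT hE E₁ (fun P hP => ?_)
    have hPT : P ≤ T := by
      rcases hP with h | h
      · exact h.le
      · exact h.1.1
    have hN : E.IsFullyNormalized P := by
      rcases hP with h | h
      · subst h
        refine ⟨le_rfl, fun Q hQ => ?_⟩
        have e : P = Q := (Subgroup.eq_of_le_of_card_ge (IsConj_le' hQ) (IsConj_card hQ).le).symm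
        rw [← e]
      · exact h.2.1
    obtain ⟨-, hA⟩ := of_fullyNormalized hT hE hN
    obtain ⟨-, A, hA⟩ := hA
    haveI := finite_mulAut hPT
    intro α hα
    obtain ⟨κ, hκ, r, hr, hαe⟩ := Cfsg.Agent.Lib.FusionHyperfocal.exists_pResidual_mul_sylow A ⟨α, hα⟩
    rw [mem_autGroup_iff hPT]
    rw [hA] at hr
    obtain ⟨g, hg, h1⟩ := mem_autInducedBy.1 (Subgroup.mem_subgroupOf.1 hr)
    have hr' : GenP F T p P (afn (r : MulAut P)) :=
      (GenP.conj hPT hg).congr (fun x hx => (h1 x hx).symm)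
    have hEFa : E.autGroup P ≤ F.autGroup P := by
      intro β hβ
      exact (mem_autGroup_iff (hPT.trans hTS)).2 (Cfsg.Agent.Lib.FusionInvariant.maps_sub hEF ((mem_autGroup_iff hPT).1 hβ))
    have hκ' : GenP F T p P (afn (κ : MulAut P)) := by
      let ψ : E.autGroup P →* F.autGroup P := Subgroup.inclusion hEFa
      have h2 := Cfsg.Agent.Lib.PResid.map_pResidual_le_of_hom ψ p ⟨κ, hκ, rfl⟩
      exact GenP.gen hPT h2 le_rfl
    have hcomp := GenP.comp hr' hκ' (fun x hx => afn_mem _ hx)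
    refine Cfsg.Agent.Lib.FusionIndexPrime.maps_ofMaps.2 (hcomp.congr (fun x hx => ?_))
    have e : α = (κ : MulAut P) * r := congrArg Subtype.val hαe
    rw [e, afn_mul _ _ hx]
    rfl
  exact Cfsg.Agent.Lib.FusionIndexPrime.maps_ofMaps.1 (Cfsg.Agent.Lib.FusionIndexPrime.le_maps hle hf)

/-- Saturated subsystems of `p`-power index over `T` are unique. -/
theorem unique_of_saturated [Finite S] [Fact p.Prime] (hTS : T ≤ S) (hS : IsPGroup p S) {E E' : FusionSystem T}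
    (hE : E.IsSaturated p) (hEF : E.IsSubsystemOf F)
    (hO : ∀ P : Subgroup Ω, P ≤ T → (pResidual p (F.autGroup P)).map (F.autGroup P).subtype ≤ E.autGroup P)
    (hE' : E'.IsSaturated p) (hEF' : E'.IsSubsystemOf F)
    (hO' : ∀ P : Subgroup Ω, P ≤ T → (pResidual p (F.autGroup P)).map (F.autGroup P).subtype ≤ E'.autGroup P) :
    E = E' := by
  refine fusionSystem_ext (fun P => ?_)
  ext φ
  constructor
  · intro h
    exact ((genP_of_maps hTS hS hE hEF hO (Maps.of_mem h)).subsys hO').mem_hom (fun x => (fn_coe φ x).symm)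
  · intro h
    exact ((genP_of_maps hTS hS hE' hEF' hO' (Maps.of_mem h)).subsys hO).mem_hom (fun x => (fn_coe φ x).symm)

/-- Invariance of a saturated subsystem of `p`-power index. -/
theorem inv_of_saturated [Finite S] [Fact p.Prime] (hTS : T ≤ S) (hS : IsPGroup p S) (hE : E.IsSaturated p)
    (hEF : E.IsSubsystemOf F)
    (hO : ∀ P : Subgroup Ω, P ≤ T → (pResidual p (F.autGroup P)).map (F.autGroup P).subtype ≤ E.autGroup P) :
    Inv F E := by
  intro P f hf a ha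
  have h1 := genP_of_maps hTS hS hE hEF hO hf
  have h2 := h1.conj_aut hTS (tAut_of_mem hTS ha).symm
  refine ⟨_, h2.subsys hO, fun x hx => ?_⟩
  show afn a (f (afn a⁻¹ (afn a x))) = _
  rw [afn_inv_afn a ((h1.le' hTS).1 hx)]

/-- A normal subgroup of `S` containing the hyperfocal subgroup is strongly closed. -/
theorem stronglyClosed_of_hyperfocal [Finite S] [Fact p.Prime] (hS : IsPGroup p S) (hF : F.IsSaturated p)
    (hTS : T ≤ S) (hTn : ∀ s ∈ S, ∀ x ∈ T, s * x * s⁻¹ ∈ T) (hT : F.hyperfocalSubgroup p ≤ T) :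
    F.StronglyClosed T := by
  refine Cfsg.Agent.Lib.FusionStrongClosed.stronglyClosed_of_aut hS hF hTS hTn ?_
  intro Q hQS hfa _ _ α hα x hx
  obtain ⟨-, A, hA⟩ := hfa
  haveI := finite_mulAut hQS
  obtain ⟨κ, hκ, r, hr, hαe⟩ := Cfsg.Agent.Lib.FusionHyperfocal.exists_pResidual_mul_sylow A ⟨α, hα⟩
  rw [hA] at hr
  obtain ⟨g, hg, h1⟩ := mem_autInducedBy.1 (Subgroup.mem_subgroupOf.1 hr)
  have h2 : ((r : MulAut Q) x : Q) ∈ T.subgroupOf Q := by
    rw [Subgroup.mem_subgroupOf, ← afn_coe, h1 _ x.2]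
    exact hTn g hg _ hx
  have h3 := hT (Cfsg.Agent.Lib.FusionHyperfocal.gen_mem_hyperfocal hQS hκ ((r : MulAut Q) x))
  have e : α = (κ : MulAut Q) * r := congrArg Subtype.val hαe
  have h4 := T.mul_mem (Subgroup.mem_subgroupOf.1 h2) h3
  rw [mul_inv_cancel_left] at h4
  rw [e]
  exact h4

/-- The Frattini condition, with the automorphism step as a hypothesis. -/
theorem frat_of_stepB [Finite S] [Fact p.Prime] (hS : IsPGroup p S) (hF : F.IsSaturated p)
    (hEF : E.IsSubsystemOf F) (hT : F.StronglyClosed T) (hinv : Inv F E)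
    (hB : ∀ Q : Subgroup Ω, Q ≤ T → F.IsFullyNormalized Q →
      (∀ R : Subgroup Ω, R ≤ T → Nat.card Q < Nat.card R → ∀ f, Maps F R f → BigE F E R f) →
      ∀ α ∈ F.autGroup Q, BigE F E Q (afn α)) : Frat F E := by
  have hTS := hT.1
  have main : ∀ (n : ℕ) (P : Subgroup Ω), P ≤ T → Nat.card T - Nat.card P = n → ∀ f, Maps F P f → BigE F E P f := by
    intro n
    induction' n using Nat.strong_induction_on with n ih
    intro P hPT hn f hf
    have IH : ∀ (R : Subgroup Ω), R ≤ T → Nat.card P < Nat.card R → ∀ f, Maps F R f → BigE F E R f := by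
      intro R hRT hcard f hf
      haveI := finite_of_le hTS
      have : Nat.card R ≤ Nat.card T := Subgroup.card_le_of_le hRT
      exact ih (Nat.card T - Nat.card R) (by omega) R hRT rfl f hf
    obtain ⟨Q, hPQ, hQn⟩ := exists_fullyNormalized_conj (F := F) hf.le
    obtain ⟨hQc, hQa⟩ := of_fullyNormalized hS hF hQn
    have hQR := receptive_of_fullyCentralized hS hF hQc
    have hcPQ := IsConj_card hPQ
    have hQT : Q ≤ T := by
      obtain ⟨ρ, hρ, rfl⟩ := Cfsg.Agent.Lib.FusionCore.isConj_iff.1 hPQ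
      exact Cfsg.Agent.Lib.FusionInvariant.strong_img_le hT hPT hρ
    have hQS := hQn.1
    haveI := finite_of_le hTS
    -- step (a)
    have stepA : ∀ P', P' ≤ T → F.IsConj P' Q → Nat.card P' = Nat.card P →
        ∃ ρ, BigE F E P' ρ ∧ img ρ P' = Q := by
      intro P' hP'T hP' hc'
      by_cases he : P' = T
      · subst he
        have hQe : Q = P' := by
          apply Subgroup.eq_of_le_of_card_ge hQT
          rw [← IsConj_card hP']
        refine ⟨_root_.id, BigE.of_E (Maps.id le_rfl), ?_⟩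
        rw [hQe]
        simp [img]
      · have hlt : P' < T := lt_of_le_of_ne hP'T he
        obtain ⟨ψ, hψ, -, hψ2⟩ := exists_normalizer_map hS hQa hQR hP'
        have hN := lt_normalizerIn' hS hTS hlt
        have hcN : Nat.card P' < Nat.card (normalizerIn T P') := by
          haveI : Finite (normalizerIn T P') := finite_of_le (inf_le_left.trans hTS)
          exact Cfsg.Agent.Lib.FusionAlperin.card_lt_of_lt hN
        have hNN : normalizerIn T P' ≤ normalizerIn S P' := inf_le_inf_right _ hTS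
        have hψE := IH _ inf_le_left (hc' ▸ hcN) ψ (hψ.restrict hNN)
        exact ⟨ψ, hψE.restrict hN.le, hψ2⟩
    have IHQ : ∀ (R : Subgroup Ω), R ≤ T → Nat.card Q < Nat.card R → ∀ f, Maps F R f → BigE F E R f :=
      fun R hR hc => IH R hR (hcPQ ▸ hc)
    -- step (b)
    have stepB := hB Q hQT hQn IHQ
    -- step (c)
    obtain ⟨ρ₁, hρ₁, hρ₁img⟩ := stepA P hPT hPQ rfl
    have hP' : F.IsConj (img f P) Q :=
      IsConj_trans (IsConj_symm (Cfsg.Agent.Lib.FusionCore.isConj_iff.2 ⟨f, hf, rfl⟩)) hPQ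
    obtain ⟨ρ₂, hρ₂, hρ₂img⟩ := stepA (img f P) (Cfsg.Agent.Lib.FusionInvariant.strong_img_le hT hPT hf) hP' hf.card_img
    have hρ₁F := hρ₁.maps hEF hT
    have hρ₂F := hρ₂.maps hEF hT
    obtain ⟨ρ₁i, hρ₁i, h11, h12⟩ := hρ₁F.inv
    rw [hρ₁img] at hρ₁i h12
    obtain ⟨ρ₂i, hρ₂i, h21⟩ := hρ₂.inv hEF hT @hinv
    rw [hρ₂img] at hρ₂i
    have hfm : ∀ x ∈ P, f x ∈ img f P := fun x hx => hf.mem_img_of_mem hx
    have hρ₂m : ∀ y ∈ img f P, ρ₂ y ∈ Q := fun y hy => hρ₂img ▸ hρ₂F.mem_img_of_mem hy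
    have hρ₁m : ∀ x ∈ P, ρ₁ x ∈ Q := fun x hx => hρ₁img ▸ hρ₁F.mem_img_of_mem hx
    -- α
    have hm : Maps F Q (ρ₂ ∘ f ∘ ρ₁i) :=
      hρ₁i.comp (hf.comp hρ₂F hfm) (fun y hy => (h12 y hy).1)
    have hmQ : ∀ y ∈ Q, (ρ₂ ∘ f ∘ ρ₁i) y ∈ Q := fun y hy => hρ₂m _ (hfm _ (h12 y hy).1)
    have himg : img (ρ₂ ∘ f ∘ ρ₁i) Q = Q := img_eq_of_card hm hQS hQS hmQ le_rfl
    have hα := stepB _ (hm.toAut_mem himg)
    have hαf : ∀ x ∈ P, afn (hm.toAut himg) (ρ₁ x) = ρ₂ (f x) := by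
      intro x hx
      rw [hm.afn_toAut himg (hρ₁m x hx)]
      show ρ₂ (f (ρ₁i (ρ₁ x))) = _
      rw [h11 x hx]
    have hcomp : BigE F E P (ρ₂i ∘ afn (hm.toAut himg) ∘ ρ₁) :=
      (hρ₁.comp hT @hinv hα hρ₁m).comp hT @hinv hρ₂i (fun x hx => afn_mem _ (hρ₁m x hx))
    refine hcomp.congr (fun x hx => ?_)
    show ρ₂i (afn (hm.toAut himg) (ρ₁ x)) = f x
    rw [hαf x hx]
    exact h21 _ (hfm x hx)
  intro P f hP hf
  obtain ⟨a, ha, f₀, h0, h1⟩ := main _ P hP rfl f hf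
  exact ⟨a, ha, f₀, h0, h1⟩

/-- Conjugation by an element of `S` normalizing `T`, as an element of `Aut_F(T)`. -/
lemma exists_conj_aut [Finite S] (hTS : T ≤ S) (hTn : ∀ s ∈ S, ∀ x ∈ T, s * x * s⁻¹ ∈ T) {s : Ω} (hs : s ∈ S) :
    ∃ a ∈ F.autGroup T, ∀ x ∈ T, afn a x = s * x * s⁻¹ := by
  have hm : Maps F T (fun x => s * x * s⁻¹) := Maps.conj hTS hs
  have himg := img_eq_of_card hm hTS hTS (fun x hx => hTn s hs x hx) le_rfl
  exact ⟨hm.toAut himg, hm.toAut_mem himg, fun x hx => hm.afn_toAut himg hx⟩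

/-- The Frattini condition for a subsystem of `p`-power index over a normal subgroup of `S`. -/
theorem frat_of_pPower [Finite S] [Fact p.Prime] (hS : IsPGroup p S) (hF : F.IsSaturated p)
    (hEF : E.IsSubsystemOf F) (hT : F.StronglyClosed T) (hinv : Inv F E)
    (hTn : ∀ s ∈ S, ∀ x ∈ T, s * x * s⁻¹ ∈ T)
    (hO : ∀ P : Subgroup Ω, P ≤ T → (pResidual p (F.autGroup P)).map (F.autGroup P).subtype ≤ E.autGroup P) :
    Frat F E := by
  have hTS := hT.1
  intro P₀ f₀ hP₀ hf₀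
  refine frat_of_stepB hS hF hEF hT @hinv (fun Q hQT hQn _ α hα => ?_) hP₀ hf₀
  obtain ⟨-, hQa⟩ := of_fullyNormalized hS hF hQn
  obtain ⟨-, A, hA⟩ := hQa
  have hQS := hQn.1
  haveI := finite_mulAut hQS
  obtain ⟨κ, hκ, r, hr, hαe⟩ := Cfsg.Agent.Lib.FusionHyperfocal.exists_pResidual_mul_sylow A ⟨α, hα⟩
  rw [hA] at hr
  obtain ⟨g, hg, h1⟩ := mem_autInducedBy.1 (Subgroup.mem_subgroupOf.1 hr)
  obtain ⟨a, ha, h2⟩ := exists_conj_aut (F := F) hTS hTn hg
  have hr' : BigE F E Q (afn (r : MulAut Q)) :=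
    ⟨a, ha, _root_.id, Maps.id hQT, fun x hx => by
      rw [h1 x hx]
      show _ = afn a x
      rw [h2 x (hQT hx)]⟩
  have hκ' : BigE F E Q (afn (κ : MulAut Q)) :=
    BigE.of_E ((mem_autGroup_iff hQT).1 (hO Q hQT ⟨κ, hκ, rfl⟩))
  refine (hr'.comp hT @hinv hκ' (fun x hx => afn_mem _ hx)).congr (fun x hx => ?_)
  have e : α = (κ : MulAut Q) * r := congrArg Subtype.val hαe
  rw [e, afn_mul _ _ hx]
  rfl


/-! ### The extension condition -/

lemma afn_mul_apply (α : MulAut P) {x y : Ω} (hx : x ∈ P) (hy : y ∈ P) :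
    afn α (x * y) = afn α x * afn α y := by
  rw [afn_of_mem α (P.mul_mem hx hy), afn_of_mem α hx, afn_of_mem α hy]
  have : (⟨x * y, P.mul_mem hx hy⟩ : P) = ⟨x, hx⟩ * ⟨y, hy⟩ := rfl
  rw [this, _root_.map_mul]
  rfl

/-- `α` extends to `T C_S(T)` with commutator with `C_S(T)` in `Z(T)`. -/
def Ext (F : FusionSystem S) (T : Subgroup Ω) (α : MulAut T) : Prop :=
  ∃ β ∈ F.autGroup (T ⊔ centralizerIn S T), (∀ x ∈ T, afn β x = afn α x) ∧
    ∀ c ∈ centralizerIn S T, c⁻¹ * afn β c ∈ T ⊓ Subgroup.centralizer (T : Set Ω)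

lemma Ext.one : Ext F T 1 := by
  refine ⟨1, Subgroup.one_mem _, fun x hx => ?_, fun c hc => ?_⟩
  · rw [afn_one hx, afn_one (Subgroup.mem_sup_left hx)]
  · rw [afn_one (Subgroup.mem_sup_right hc), inv_mul_cancel]
    exact Subgroup.one_mem _

lemma Ext.mul {a b : MulAut T} (ha : Ext F T a) (hb : Ext F T b) : Ext F T (a * b) := by
  obtain ⟨β₁, h1, h2, h3⟩ := ha
  obtain ⟨β₂, h4, h5, h6⟩ := hb
  refine ⟨β₁ * β₂, Subgroup.mul_mem _ h1 h4, fun x hx => ?_, fun c hc => ?_⟩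
  · rw [afn_mul _ _ (Subgroup.mem_sup_left hx), h5 x hx, h2 _ (afn_mem _ hx), afn_mul _ _ hx]
  · have hcX : c ∈ T ⊔ centralizerIn S T := Subgroup.mem_sup_right hc
    rw [afn_mul _ _ hcX]
    obtain ⟨z₁T, z₁C⟩ := h3 c hc
    obtain ⟨z₂T, z₂C⟩ := h6 c hc
    have e : afn β₂ c = c * (c⁻¹ * afn β₂ c) := by group
    have hzX : c⁻¹ * afn β₂ c ∈ T ⊔ centralizerIn S T := Subgroup.mem_sup_left z₂T
    rw [e, afn_mul_apply β₁ hcX hzX, h2 _ z₂T, ← mul_assoc]
    refine Subgroup.mul_mem _ (h3 c hc) ⟨afn_mem _ z₂T, Subgroup.mem_centralizer_iff.2 (fun y hy => ?_)⟩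
    have hy' : afn a⁻¹ y ∈ T := afn_mem _ hy
    have h7 := Subgroup.mem_centralizer_iff.1 z₂C _ hy'
    have h8 := congrArg (afn a) h7
    rw [afn_mul_apply a hy' z₂T, afn_mul_apply a z₂T hy', afn_afn_inv a hy] at h8
    exact h8

lemma Ext.pow {a : MulAut T} (ha : Ext F T a) (n : ℕ) : Ext F T (a ^ n) := by
  induction n with
  | zero => rw [pow_zero]; exact Ext.one
  | succ n ih => rw [pow_succ]; exact ih.mul ha

lemma Ext.inv [Finite S] (hTS : T ≤ S) {a : MulAut T} (ha : Ext F T a) : Ext F T a⁻¹ := by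
  haveI := finite_mulAut hTS
  have e : a⁻¹ = a ^ (orderOf a - 1) := by
    apply inv_eq_of_mul_eq_one_right
    rw [← pow_succ', Nat.sub_add_cancel (orderOf_pos a), pow_orderOf_eq_one]
  rw [e]
  exact ha.pow _

lemma Ext.of_conj [Finite S] (hTS : T ≤ S) {r : MulAut T} {t : Ω} (ht : t ∈ T)
    (hr : ∀ x ∈ T, afn r x = t * x * t⁻¹) : Ext F T r := by
  have hXS : T ⊔ centralizerIn S T ≤ S := sup_le hTS inf_le_left
  have hm : Maps F (T ⊔ centralizerIn S T) (fun x => t * x * t⁻¹) := Maps.conj hXS (hTS ht)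
  have hmem : ∀ x ∈ T ⊔ centralizerIn S T, t * x * t⁻¹ ∈ T ⊔ centralizerIn S T := by
    intro x hx
    have htX : t ∈ T ⊔ centralizerIn S T := Subgroup.mem_sup_left ht
    exact Subgroup.mul_mem _ (Subgroup.mul_mem _ htX hx) (Subgroup.inv_mem _ htX)
  have himg := img_eq_of_card hm hXS hXS hmem le_rfl
  refine ⟨hm.toAut himg, hm.toAut_mem himg, fun x hx => ?_, fun c hc => ?_⟩
  · rw [hm.afn_toAut himg (Subgroup.mem_sup_left hx), hr x hx]
  · rw [hm.afn_toAut himg (Subgroup.mem_sup_right hc)]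
    have h1 := (mem_centralizerIn.1 hc).2 t ht
    have e : c⁻¹ * (t * c * t⁻¹) = 1 := by
      show c⁻¹ * (t * c * t⁻¹) = 1
      rw [h1]
      group
    rw [e]
    exact Subgroup.one_mem _

/-- A `p'`-automorphism of `T` extends as required. -/
theorem Ext.of_coprime [Finite S] [Fact p.Prime] (hS : IsPGroup p S) (hF : F.IsSaturated p)
    (hT : F.StronglyClosed T) (hyp : F.hyperfocalSubgroup p ≤ T) {α : MulAut T} (hα : α ∈ F.autGroup T)
    (hcop : (orderOf α).Coprime p) : Ext F T α := by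
  have hTS := hT.1
  have hN : F.IsFullyNormalized T := by
    refine ⟨hTS, fun Q hQ => ?_⟩
    obtain ⟨ρ, hρ, rfl⟩ := Cfsg.Agent.Lib.FusionCore.isConj_iff.1 hQ
    haveI : Finite T := finite_of_le hTS
    have e : img ρ T = T := Subgroup.eq_of_le_of_card_ge
      (Cfsg.Agent.Lib.FusionInvariant.strong_img_le hT le_rfl hρ) hρ.card_img.ge
    rw [e]
  obtain ⟨hTc, -⟩ := of_fullyNormalized hS hF hN
  have hR := receptive_of_fullyCentralized hS hF hTc
  have hαm := (mem_autGroup_iff hTS).1 hα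
  obtain ⟨k, hk, hk1⟩ := Cfsg.Agent.Lib.FusionCore.IsReceptive.ext hR hαm (afn_img α)
  have hXNf : T ⊔ centralizerIn S T ≤ Nf S T (afn α) := sup_le (le_Nf hαm) (centralizerIn_le_Nf hαm)
  have hXS : T ⊔ centralizerIn S T ≤ S := sup_le hTS inf_le_left
  have hkX := hk.restrict hXNf
  have hkW : ∀ c ∈ centralizerIn S T, k c ∈ centralizerIn S T := by
    intro c hc
    have hcX : c ∈ T ⊔ centralizerIn S T := Subgroup.mem_sup_right hc
    refine mem_centralizerIn.2 ⟨hkX.mem hcX, fun y hy => ?_⟩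
    have hx : afn α⁻¹ y ∈ T := afn_mem _ hy
    have hy2 : k (afn α⁻¹ y) = y := by rw [hk1 _ hx, afn_afn_inv α hy]
    have hxX : afn α⁻¹ y ∈ T ⊔ centralizerIn S T := Subgroup.mem_sup_left hx
    have h1 := (mem_centralizerIn.1 hc).2 _ hx
    have h2 := congrArg k h1
    rw [hkX.map_mul hxX hcX, hkX.map_mul hcX hxX, hy2] at h2
    exact h2
  have hkXX : ∀ x ∈ T ⊔ centralizerIn S T, k x ∈ T ⊔ centralizerIn S T :=
    hkX.sup_mem (fun x hx => by
      rw [hk1 x hx]
      exact Subgroup.mem_sup_left (afn_mem α hx)) (fun c hc => Subgroup.mem_sup_right (hkW c hc))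
  have himg := img_eq_of_card hkX hXS hXS hkXX le_rfl
  haveI := finite_mulAut hXS
  haveI := finite_mulAut hTS
  let B₀ : F.autGroup (T ⊔ centralizerIn S T) := ⟨hkX.toAut himg, hkX.toAut_mem himg⟩
  have hB₀T : ∀ x ∈ T, afn (B₀ : MulAut ↥(T ⊔ centralizerIn S T)) x = afn α x := by
    intro x hx
    show afn (hkX.toAut himg) x = _
    rw [hkX.afn_toAut himg (Subgroup.mem_sup_left hx), hk1 x hx]
  have hB₀W : ∀ c ∈ centralizerIn S T, afn (B₀ : MulAut ↥(T ⊔ centralizerIn S T)) c ∈ centralizerIn S T := by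
    intro c hc
    show afn (hkX.toAut himg) c ∈ _
    rw [hkX.afn_toAut himg (Subgroup.mem_sup_right hc)]
    exact hkW c hc
  have hpowT : ∀ (j : ℕ), ∀ x ∈ T, afn ((B₀ ^ j : F.autGroup (T ⊔ centralizerIn S T)) : MulAut ↥(T ⊔ centralizerIn S T)) x = afn (α ^ j) x := by
    intro j
    induction j with
    | zero =>
      intro x hx
      rw [pow_zero, pow_zero, Subgroup.coe_one, afn_one hx, afn_one (Subgroup.mem_sup_left hx)]
    | succ j ih =>
      intro x hx
      rw [pow_succ, pow_succ, Subgroup.coe_mul, afn_mul _ _ (Subgroup.mem_sup_left hx), hB₀T x hx,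
        ih _ (afn_mem α hx), afn_mul _ _ hx]
  have hpowW : ∀ (j : ℕ), ∀ c ∈ centralizerIn S T, afn ((B₀ ^ j : F.autGroup (T ⊔ centralizerIn S T)) : MulAut ↥(T ⊔ centralizerIn S T)) c ∈ centralizerIn S T := by
    intro j
    induction j with
    | zero =>
      intro c hc
      rw [pow_zero, Subgroup.coe_one, afn_one (Subgroup.mem_sup_right hc)]
      exact hc
    | succ j ih =>
      intro c hc
      rw [pow_succ, Subgroup.coe_mul, afn_mul _ _ (Subgroup.mem_sup_right hc)]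
      exact ih _ (hB₀W c hc)
  obtain ⟨s, t, hst, -, ⟨n, hn⟩, hcopt, hs, ht⟩ := Cfsg.Agent.Lib.PResid.exists_decomp (p := p) B₀
  obtain ⟨i, rfl⟩ : ∃ i : ℕ, B₀ ^ i = s := by
    obtain ⟨i, hi⟩ := (mem_powers_iff_mem_zpowers).2 hs
    exact ⟨i, hi⟩
  obtain ⟨j, rfl⟩ : ∃ j : ℕ, B₀ ^ j = t := by
    obtain ⟨j, hj⟩ := (mem_powers_iff_mem_zpowers).2 ht
    exact ⟨j, hj⟩
  have hαi : α ^ i = 1 := by
    have h1 : (α ^ i) ^ p ^ n = 1 := by
      apply afn_ext
      intro x hx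
      rw [afn_one hx, ← pow_mul, ← hpowT _ x hx, pow_mul, hn, Subgroup.coe_one, afn_one (Subgroup.mem_sup_left hx)]
    have h2 : (α ^ i) ^ orderOf α = 1 := by
      rw [← pow_mul, mul_comm, pow_mul, pow_orderOf_eq_one, one_pow]
    exact Cfsg.Agent.Lib.PResid.eq_one_of_pow_eq_one_of_coprime h1 h2 hcop
  have hres : B₀ ^ j ∈ pResidual p (F.autGroup (T ⊔ centralizerIn S T)) :=
    Subgroup.subset_closure hcopt
  refine ⟨((B₀ ^ j : F.autGroup (T ⊔ centralizerIn S T)) : MulAut ↥(T ⊔ centralizerIn S T)), Subtype.property _, fun x hx => ?_, fun c hc => ?_⟩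
  · rw [hpowT j x hx]
    have h3 : afn α x = afn (α ^ i) (afn (α ^ j) x) := by
      rw [← hB₀T x hx, ← afn_mul _ _ hx]
      conv_lhs => rw [hst]
      rw [Subgroup.coe_mul, afn_mul _ _ (Subgroup.mem_sup_left hx), hpowT j x hx,
        hpowT i _ (afn_mem _ hx), afn_mul _ _ hx]
    rw [h3, hαi, afn_one (afn_mem _ hx)]
  · have hcX : c ∈ T ⊔ centralizerIn S T := Subgroup.mem_sup_right hc
    have h4 := Cfsg.Agent.Lib.FusionHyperfocal.gen_mem_hyperfocal hXS hres (⟨c, hcX⟩ : ↥(T ⊔ centralizerIn S T))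
    rw [← afn_coe] at h4
    refine ⟨hyp h4, Subgroup.mem_centralizer_iff.2 (fun y hy => ?_)⟩
    have h5 : c⁻¹ * afn _ c ∈ centralizerIn S T := Subgroup.mul_mem _ (Subgroup.inv_mem _ hc) (hpowW j c hc)
    exact (mem_centralizerIn.1 h5).2 y hy

lemma ext_of_residual [Finite S] [Fact p.Prime] (hS : IsPGroup p S) (hF : F.IsSaturated p)
    (hT : F.StronglyClosed T) (hyp : F.hyperfocalSubgroup p ≤ T) {κ : F.autGroup T}
    (hκ : κ ∈ pResidual p (F.autGroup T)) : Ext F T (κ : MulAut T) := by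
  induction hκ using Subgroup.closure_induction with
  | mem x hx =>
    refine Ext.of_coprime hS hF hT hyp x.2 ?_
    rw [Subgroup.orderOf_coe]
    exact hx
  | one => exact Ext.one
  | mul a b _ _ ha hb => exact ha.mul hb
  | inv a _ ha => exact ha.inv hT.1

/-- S5120. -/
theorem main [Finite S] [Fact p.Prime] (hS : IsPGroup p S) (F : FusionSystem S) (hF : F.IsSaturated p)
    (T : Subgroup Ω) (hTS : T ≤ S) (hTn : (T.subgroupOf S).Normal) (hT : F.hyperfocalSubgroup p ≤ T)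
    (E : FusionSystem T) (hEs : E.IsSaturated p) (hEi : E.HasPPowerIndexIn F p) : E.IsNormalIn F p := by
  have hTn' : ∀ s ∈ S, ∀ x ∈ T, s * x * s⁻¹ ∈ T := by
    intro s hs x hx
    have := hTn.conj_mem (⟨x, hTS hx⟩ : S) (Subgroup.mem_subgroupOf.2 hx) ⟨s, hs⟩
    exact Subgroup.mem_subgroupOf.1 this
  obtain ⟨hEF, -, hO⟩ := hEi
  have hTc := stronglyClosed_of_hyperfocal hS hF hTS hTn' hT
  have hinv : Inv F E := inv_of_saturated hTS hS hEs hEF hO
  have hfr : Frat F E := fun {P f} => frat_of_pPower hS hF hEF hTc @hinv hTn' hO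
  have hI : E.IsInvariantIn F := Cfsg.Agent.Lib.FusionInvariant.isInvariantIn_iff.2 ⟨hEF, hTc, @hinv, @hfr⟩
  refine ⟨⟨hEs, hF, hI⟩, fun α hα => ?_⟩
  haveI : Finite T := finite_of_le hTS
  have hTp : IsPGroup p T := hS.to_le hTS
  have hN : E.IsFullyNormalized T := by
    refine ⟨le_rfl, fun Q hQ => ?_⟩
    have e : T = Q := (Subgroup.eq_of_le_of_card_ge (IsConj_le' hQ) (IsConj_card hQ).le).symm
    rw [← e]
  obtain ⟨-, hA⟩ := of_fullyNormalized hTp hEs hN
  obtain ⟨-, A, hA⟩ := hA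
  haveI := finite_mulAut (le_refl T)
  obtain ⟨κ, hκ, r, hr, hαe⟩ := Cfsg.Agent.Lib.FusionHyperfocal.exists_pResidual_mul_sylow A ⟨α, hα⟩
  rw [hA] at hr
  obtain ⟨g, hg, h1⟩ := mem_autInducedBy.1 (Subgroup.mem_subgroupOf.1 hr)
  have hr' : Ext F T (r : MulAut T) := Ext.of_conj hTS hg h1
  have hEFa : E.autGroup T ≤ F.autGroup T := by
    intro β hβ
    exact (mem_autGroup_iff hTS).2 (Cfsg.Agent.Lib.FusionInvariant.maps_sub hEF ((mem_autGroup_iff le_rfl).1 hβ))
  have hκ' : Ext F T (κ : MulAut T) := by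
    let ψ : E.autGroup T →* F.autGroup T := Subgroup.inclusion hEFa
    have h2 := Cfsg.Agent.Lib.PResid.map_pResidual_le_of_hom ψ p ⟨κ, hκ, rfl⟩
    exact ext_of_residual hS hF hTc hT h2
  have hα' : Ext F T α := by
    have e : α = (κ : MulAut T) * r := congrArg Subtype.val hαe
    rw [e]
    exact hκ'.mul hr'
  obtain ⟨β, h2, h3, h4⟩ := hα'
  refine ⟨β, h2, fun x => ?_, fun c hc => ?_⟩
  · rw [← afn_coe β, ← afn_coe α]
    exact h3 x x.2
  · rw [← afn_coe β]
    exact h4 c hc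

end Cfsg.Agent.Lib.FusionPPower
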