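/-
WreathQuot: a finite `p`-group with a character `e`, an element `σ` with `e σ = 1` and a character `n` of `ker e`
whose "norm" along `σ` is nontrivial surjects onto a Sylow `p`-subgroup of the symmetric group of degree `p²`.
-/
import Mathlib

set_option autoImplicit false

namespace Cfsg.Agent.Lib.WreathQuot

open Finset Function

variable {p : ℕ} [hp : Fact p.Prime]

/-- The shift on functions on `ZMod p`. -/
noncomputable def shiftE (p : ℕ) [Fact p.Prime] : Module.End (ZMod p) (ZMod p → ZMod p) :=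
  LinearMap.funLeft (ZMod p) (ZMod p) (fun i => i - 1)

lemma shiftE_apply (w : ZMod p → ZMod p) (i : ZMod p) : shiftE p w i = w (i - 1) := rfl

lemma shiftE_pow (k : ℕ) (w : ZMod p → ZMod p) (i : ZMod p) : (shiftE p ^ k) w i = w (i - k) := by
  induction k generalizing w with
  | zero => simp
  | succ k ih =>
    rw [pow_succ, Module.End.mul_apply, ih, shiftE_apply]
    congr 1
    push_cast
    ring

lemma shiftE_pow_p : shiftE p ^ p = 1 := by
  refine LinearMap.ext (fun w => funext (fun i => ?_))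
  rw [shiftE_pow]
  simp

lemma diff_pow_p : (shiftE p - 1) ^ p = 0 := by
  haveI : CharP (Module.End (ZMod p) (ZMod p → ZMod p)) p :=
    charP_of_injective_algebraMap (algebraMap (ZMod p) _).injective p
  rw [sub_pow_char_of_commute p (Commute.one_right _), shiftE_pow_p, one_pow, sub_self]

/-- A shift-invariant subspace of functions on `ZMod p` with a vector of nonzero coordinate sum is everything. -/
theorem eq_top_of_shift (U : Submodule (ZMod p) (ZMod p → ZMod p)) (hU : ∀ w ∈ U, shiftE p w ∈ U)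
    {u : ZMod p → ZMod p} (hu : u ∈ U) (hs : ∑ i, u i ≠ 0) : U = ⊤ := by
  classical
  by_contra hne
  obtain ⟨φ, hφ, hle⟩ := Submodule.exists_le_ker_of_lt_top U (lt_top_iff_ne_top.2 hne)
  set D : Module.End (ZMod p) (ZMod p → ZMod p) := shiftE p - 1 with hD
  have hDU : ∀ w ∈ U, D w ∈ U := by
    intro w hw
    have : D w = shiftE p w - w := rfl
    rw [this]
    exact U.sub_mem (hU w hw) hw
  have hDkU : ∀ (k : ℕ), ∀ w ∈ U, (D ^ k) w ∈ U := by
    intro k
    induction k with
    | zero => simp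
    | succ k ih =>
      intro w hw
      rw [pow_succ, Module.End.mul_apply]
      exact ih _ (hDU w hw)
  -- the last nonzero iterate
  have hex : ∃ k : ℕ, φ ∘ₗ (D ^ k) = 0 := ⟨p, by rw [hD, diff_pow_p]; simp⟩
  have hk0 : Nat.find hex ≠ 0 := by
    intro h0
    have := Nat.find_spec hex
    rw [h0] at this
    apply hφ
    simpa [Module.End.one_eq_id] using this
  obtain ⟨j, hj⟩ := Nat.exists_eq_succ_of_ne_zero hk0
  have hj1 : φ ∘ₗ (D ^ (j + 1)) = 0 := by
    have := Nat.find_spec hex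
    rw [hj] at this
    exact this
  have hj2 : φ ∘ₗ (D ^ j) ≠ 0 := Nat.find_min hex (by omega)
  set ψ : Module.Dual (ZMod p) (ZMod p → ZMod p) := φ ∘ₗ (D ^ j) with hψ
  have hψU : ∀ w ∈ U, ψ w = 0 := fun w hw => hle (hDkU j w hw)
  have hψs : ∀ w, ψ (shiftE p w) = ψ w := by
    intro w
    have h1 : φ ((D ^ (j + 1)) w) = 0 := by
      have := congrArg (fun l => l w) hj1
      simpa using this
    rw [pow_succ, Module.End.mul_apply] at h1
    have h2 : D w = shiftE p w - w := rfl
    rw [h2, map_sub, map_sub] at h1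
    exact sub_eq_zero.1 h1
  have hψk : ∀ (k : ℕ) (w : ZMod p → ZMod p), ψ ((shiftE p ^ k) w) = ψ w := by
    intro k
    induction k with
    | zero => simp
    | succ k ih =>
      intro w
      rw [pow_succ, Module.End.mul_apply, ih, hψs]
  set c : ZMod p := ψ (fun j => if (0 : ZMod p) = j then 1 else 0) with hc
  have hδ : ∀ i : ZMod p, ψ (fun j => if i = j then 1 else 0) = c := by
    intro i
    rw [hc, ← hψk i.val (fun j => if (0 : ZMod p) = j then 1 else 0)]
    congr 1
    ext j
    rw [shiftE_pow]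
    simp only [ZMod.natCast_val, ZMod.cast_id', id_eq]
    by_cases h : i = j
    · subst h
      simp
    · rw [if_neg h, if_neg]
      intro h'
      apply h
      have := sub_eq_zero.1 h'.symm
      exact this.symm
  have hform : ∀ w, ψ w = c * ∑ i, w i := by
    intro w
    rw [LinearMap.pi_apply_eq_sum_univ ψ w, Finset.mul_sum]
    refine Finset.sum_congr rfl (fun i _ => ?_)
    rw [hδ, smul_eq_mul, mul_comm]
  have hc0 : c = 0 := by
    have := hψU u hu
    rw [hform] at this
    exact (mul_eq_zero.1 this).resolve_right hs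
  apply hj2
  refine LinearMap.ext (fun w => ?_)
  show ψ w = 0
  simp [hform, hc0]

/-- The data of the wreath lemma. -/
structure WData {G : Type*} [Group G] (e n : G → ZMod p) (σ : G) : Prop where
  e_mul : ∀ a b, e (a * b) = e a + e b
  e_sigma : e σ = 1
  n_mul : ∀ a b, e a = 0 → e b = 0 → n (a * b) = n a + n b

variable {G : Type*} [Group G] {e n : G → ZMod p} {σ : G}

namespace WData

/-- The character as a homomorphism. -/
def eHom (h : WData e n σ) : G →* Multiplicative (ZMod p) :=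
  MonoidHom.mk' (fun a => Multiplicative.ofAdd (e a)) (fun a b => by simp [h.e_mul, ofAdd_add])

lemma e_one (h : WData e n σ) : e 1 = 0 := by
  have := h.e_mul 1 1
  simpa using this

lemma e_inv (h : WData e n σ) (a : G) : e a⁻¹ = - e a := by
  have := h.e_mul a⁻¹ a
  rw [inv_mul_cancel, h.e_one] at this
  exact eq_neg_of_add_eq_zero_left this.symm

lemma e_zpow (h : WData e n σ) (a : G) (k : ℤ) : e (a ^ k) = k * e a := by
  have := map_zpow h.eHom a k
  have h2 : Multiplicative.toAdd (h.eHom (a ^ k)) = Multiplicative.toAdd ((h.eHom a) ^ k) := by rw [this]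
  rw [toAdd_zpow] at h2
  simpa [eHom] using h2

lemma e_pow (h : WData e n σ) (a : G) (k : ℕ) : e (a ^ k) = k * e a := by
  have := h.e_zpow a k
  simpa using this

lemma n_one (h : WData e n σ) : n 1 = 0 := by
  have := h.n_mul 1 1 h.e_one h.e_one
  simpa using this

lemma n_inv (h : WData e n σ) {a : G} (ha : e a = 0) : n a⁻¹ = - n a := by
  have h1 : e a⁻¹ = 0 := by rw [h.e_inv, ha, neg_zero]
  have := h.n_mul a⁻¹ a h1 ha
  rw [inv_mul_cancel, h.n_one] at this
  exact eq_neg_of_add_eq_zero_left this.symm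

lemma n_conj (h : WData e n σ) {w t : G} (hw : e w = 0) (ht : e t = 0) : n (w⁻¹ * t * w) = n t := by
  have h1 : e w⁻¹ = 0 := by rw [h.e_inv, hw, neg_zero]
  rw [h.n_mul _ _ (by rw [h.e_mul, h1, ht, zero_add]) hw, h.n_mul _ _ h1 ht, h.n_inv hw]
  ring

/-- Conjugation by powers of `σ` is periodic under `n`. -/
lemma period (h : WData e n σ) {r : G} (hr : e r = 0) {a b : ℤ} (hab : (a : ZMod p) = b) :
    n (σ ^ (-a) * r * σ ^ a) = n (σ ^ (-b) * r * σ ^ b) := by
  set w : G := σ ^ (a - b) with hw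
  have hew : e w = 0 := by
    rw [hw, h.e_zpow, h.e_sigma]
    push_cast
    rw [hab]
    ring
  have hτ : e (σ ^ (-b) * r * σ ^ b) = 0 := by
    rw [h.e_mul, h.e_mul, h.e_zpow, h.e_zpow, h.e_sigma, hr]
    push_cast
    ring
  have e1 : σ ^ (-a) * r * σ ^ a = w⁻¹ * (σ ^ (-b) * r * σ ^ b) * w := by
    have h1 : σ ^ a = σ ^ b * w := by
      rw [hw, ← zpow_add]
      congr 1
      ring
    have h2 : σ ^ (-a) = w⁻¹ * σ ^ (-b) := by
      rw [hw, ← zpow_neg, ← zpow_add]
      congr 1
      ring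
    rw [h1, h2]
    group
  rw [e1]
  exact h.n_conj hew hτ

end WData

/-- The section. -/
def idx (σ : G) (i : ZMod p) : G := σ ^ i.val

lemma WData.e_idx (h : WData e n σ) (i : ZMod p) : e (idx σ i) = i := by
  rw [idx, h.e_pow, h.e_sigma]
  simp

/-- The cocycle. -/
def bet (e : G → ZMod p) (σ s : G) (i : ZMod p) : G := (idx σ (i + e s))⁻¹ * s * idx σ i

lemma WData.e_bet (h : WData e n σ) (s : G) (i : ZMod p) : e (bet e σ s i) = 0 := by
  rw [bet, h.e_mul, h.e_mul, h.e_inv, h.e_idx, h.e_idx]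
  ring

lemma WData.bet_mul (h : WData e n σ) (s t : G) (i : ZMod p) :
    bet e σ (s * t) i = bet e σ s (i + e t) * bet e σ t i := by
  simp only [bet]
  have : i + e (s * t) = i + e t + e s := by rw [h.e_mul]; ring
  rw [this]
  group

/-- The action on `ZMod p × ZMod p`. -/
@[instance_reducible] def wAct (h : WData e n σ) : MulAction G (ZMod p × ZMod p) where
  smul s y := (y.1 + e s, y.2 + n (bet e σ s y.1))
  one_smul y := by
    show (y.1 + e 1, y.2 + n (bet e σ 1 y.1)) = y
    have h1 : bet e σ 1 y.1 = 1 := by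
      simp [bet, h.e_one]
    rw [h1, h.e_one, h.n_one]
    simp
  mul_smul s t y := by
    show (y.1 + e (s * t), y.2 + n (bet e σ (s * t) y.1)) =
      (y.1 + e t + e s, y.2 + n (bet e σ t y.1) + n (bet e σ s (y.1 + e t)))
    rw [h.bet_mul, h.n_mul _ _ (h.e_bet _ _) (h.e_bet _ _), h.e_mul]
    ext
    · simp only
      ring
    · simp only
      ring

/-- The vector of a kernel element. -/
def vv (n : G → ZMod p) (σ r : G) : ZMod p → ZMod p := fun i => n ((idx σ i)⁻¹ * r * idx σ i)

lemma WData.vv_eq_zpow (h : WData e n σ) {r : G} (hr : e r = 0) (a : ℤ) :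
    vv n σ r a = n (σ ^ (-a) * r * σ ^ a) := by
  show n ((idx σ (a : ZMod p))⁻¹ * r * idx σ (a : ZMod p)) = _
  have := h.period hr (a := ((a : ZMod p).val : ℤ)) (b := a) (by simp)
  rw [← this]
  simp only [idx, zpow_neg, zpow_natCast]

/-- The span of the vectors. -/
def UU (h : WData e n σ) : Submodule (ZMod p) (ZMod p → ZMod p) where
  carrier := {w | ∃ r, e r = 0 ∧ vv n σ r = w}
  add_mem' := by
    rintro _ _ ⟨r, hr, rfl⟩ ⟨s, hs, rfl⟩
    refine ⟨r * s, by rw [h.e_mul, hr, hs, add_zero], ?_⟩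
    ext i
    show n ((idx σ i)⁻¹ * (r * s) * idx σ i) = n ((idx σ i)⁻¹ * r * idx σ i) + n ((idx σ i)⁻¹ * s * idx σ i)
    rw [← h.n_mul]
    · congr 1
      group
    · rw [h.e_mul, h.e_mul, hr, h.e_inv, h.e_idx]
      ring
    · rw [h.e_mul, h.e_mul, hs, h.e_inv, h.e_idx]
      ring
  zero_mem' := by
    refine ⟨1, h.e_one, ?_⟩
    ext i
    show n ((idx σ i)⁻¹ * 1 * idx σ i) = 0
    simp [h.n_one]
  smul_mem' := by
    rintro c _ ⟨r, hr, rfl⟩
    refine ⟨r ^ c.val, by rw [h.e_pow, hr, mul_zero], ?_⟩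
    have key : ∀ k : ℕ, vv n σ (r ^ k) = (k : ZMod p) • vv n σ r := by
      intro k
      induction k with
      | zero =>
        ext i
        show n ((idx σ i)⁻¹ * r ^ 0 * idx σ i) = _
        simp [h.n_one]
      | succ k ih =>
        ext i
        have h1 : vv n σ (r ^ (k + 1)) i = n ((idx σ i)⁻¹ * r ^ (k + 1) * idx σ i) := rfl
        have h2 := congrFun ih i
        have h3 : vv n σ (r ^ k) i = n ((idx σ i)⁻¹ * r ^ k * idx σ i) := rfl
        rw [h1, pow_succ]
        have h4 : (idx σ i)⁻¹ * (r ^ k * r) * idx σ i =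
            ((idx σ i)⁻¹ * r ^ k * idx σ i) * ((idx σ i)⁻¹ * r * idx σ i) := by group
        rw [h4, h.n_mul]
        · rw [← h3, h2]
          simp only [Pi.smul_apply, smul_eq_mul, vv]
          push_cast
          ring
        · rw [h.e_mul, h.e_mul, h.e_pow, hr, h.e_inv, h.e_idx]
          ring
        · rw [h.e_mul, h.e_mul, hr, h.e_inv, h.e_idx]
          ring
    rw [key]
    simp

lemma WData.mem_UU (h : WData e n σ) {w : ZMod p → ZMod p} : w ∈ UU h ↔ ∃ r, e r = 0 ∧ vv n σ r = w := Iff.rfl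

lemma WData.shift_mem (h : WData e n σ) : ∀ w ∈ UU h, shiftE p w ∈ UU h := by
  rintro _ ⟨r, hr, rfl⟩
  refine ⟨σ * r * σ⁻¹, ?_, ?_⟩
  · rw [h.e_mul, h.e_mul, h.e_inv, hr, h.e_sigma]
    ring
  · ext i
    rw [shiftE_apply]
    have he : e (σ * r * σ⁻¹) = 0 := by
      rw [h.e_mul, h.e_mul, h.e_inv, hr, h.e_sigma]
      ring
    obtain ⟨a, rfl⟩ : ∃ a : ℤ, (a : ZMod p) = i := ⟨(i.val : ℤ), by simp⟩
    have h1 : ((a : ZMod p) - 1) = ((a - 1 : ℤ) : ZMod p) := by push_cast; ring
    rw [h1, h.vv_eq_zpow hr, h.vv_eq_zpow he]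
    congr 1
    have h2 : σ ^ (-(a - 1)) = σ ^ (-a) * σ := by
      rw [← zpow_add_one]
      congr 1
      ring
    have h3 : σ ^ (a - 1) = σ⁻¹ * σ ^ a := by
      rw [← zpow_neg_one, ← zpow_add]
      congr 1
      ring
    rw [h2, h3]
    group

/-- The sum over `ZMod p` as a sum over the range. -/
lemma sum_zmod_eq_range (w : ℕ → ZMod p) (hw : ∀ k, w (k + p) = w k) :
    ∑ i : ZMod p, w i.val = ∑ k ∈ Finset.range p, w k := by
  refine Finset.sum_nbij' (fun i => i.val) (fun k => (k : ZMod p)) ?_ ?_ ?_ ?_ ?_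
  · intro i _
    exact Finset.mem_range.2 (ZMod.val_lt i)
  · intro k _
    exact Finset.mem_univ _
  · intro i _
    simp
  · intro k hk
    exact ZMod.val_cast_of_lt (Finset.mem_range.1 hk)
  · intro i _
    rfl

/-- The space of vectors is everything if some vector has nonzero coordinate sum. -/
theorem WData.UU_eq_top (h : WData e n σ) {x : G} (hx : e x = 0)
    (hs : ∑ k ∈ Finset.range p, n ((σ ^ k)⁻¹ * x * σ ^ k) ≠ 0) : UU h = ⊤ := by
  refine eq_top_of_shift (UU h) h.shift_mem (u := vv n σ x) ⟨x, hx, rfl⟩ ?_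
  rw [← sum_zmod_eq_range (fun k => n ((σ ^ k)⁻¹ * x * σ ^ k))] at hs
  · exact hs
  · intro k
    have := h.period hx (a := ((k + p : ℕ) : ℤ)) (b := (k : ℤ)) (by simp)
    simpa only [zpow_neg, zpow_natCast] using this

/-- The valuation of the factorial of `p²`. -/
lemma card_sylow_perm (W : Sylow p (Equiv.Perm (Fin (p ^ 2)))) : Nat.card W = p ^ (p + 1) := by
  rw [Sylow.card_eq_multiplicity, Nat.card_perm, Nat.card_fin]
  rw [Nat.factorization_def _ hp.out, pow_two, padicValNat_factorial_mul]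
  have : padicValNat p p.factorial = 1 := by
    have := padicValNat_factorial_mul (p := p) 1
    simpa using this
  rw [this, add_comm]

open MulAction in
/-- **The wreath quotient.** -/
theorem WData.exists_surj [Finite G] (hG : IsPGroup p G) (h : WData e n σ) {x : G} (hx : e x = 0)
    (hs : ∑ k ∈ Finset.range p, n ((σ ^ k)⁻¹ * x * σ ^ k) ≠ 0) :
    ∃ (W : Sylow p (Equiv.Perm (Fin (p ^ 2)))) (f : G →* ↥(W : Subgroup (Equiv.Perm (Fin (p ^ 2))))),
      Function.Surjective f := by
  classical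
  letI := wAct h
  have htop := h.UU_eq_top hx hs
  have hcard : Fintype.card (ZMod p × ZMod p) = Fintype.card (Fin (p ^ 2)) := by
    simp [ZMod.card, pow_two]
  let eq : ZMod p × ZMod p ≃ Fin (p ^ 2) := Fintype.equivOfCardEq hcard
  let ρ : G →* Equiv.Perm (Fin (p ^ 2)) := (eq.permCongrHom.toMonoidHom).comp (toPermHom G (ZMod p × ZMod p))
  have hρ : ∀ (s : G) (y : ZMod p × ZMod p), ρ s (eq y) = eq (s • y) := by
    intro s y
    simp [ρ, Equiv.permCongrHom, Equiv.permCongr_apply]
  have hρ2 : ∀ (s : G) (y : ZMod p × ZMod p), eq.symm (ρ s (eq y)) = (y.1 + e s, y.2 + n (bet e σ s y.1)) := by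
    intro s y
    rw [hρ, Equiv.symm_apply_apply]
    rfl
  have hp1 : IsPGroup p ρ.range := by
    exact IsPGroup.of_surjective hG ρ.rangeRestrict ρ.rangeRestrict_surjective
  obtain ⟨W, hW⟩ := hp1.exists_le_sylow
  -- the surjection onto the parameters
  let Θ : ρ.range → ZMod p × (ZMod p → ZMod p) := fun g =>
    ((eq.symm (g.1 (eq (0, 0)))).1, fun i => (eq.symm (g.1 (eq (i, 0)))).2)
  have hΘ : Function.Surjective Θ := by
    rintro ⟨k, w⟩
    set s₀ : G := σ ^ k.val with hs₀
    have hes₀ : e s₀ = k := by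
      rw [hs₀, h.e_pow, h.e_sigma]
      simp
    obtain ⟨r, hr, hvr⟩ := (h.mem_UU (w := fun i => w i - n (bet e σ s₀ i))).1 (by rw [htop]; trivial)
    refine ⟨⟨ρ (s₀ * r), _, rfl⟩, ?_⟩
    refine Prod.ext ?_ (funext fun i => ?_)
    · show (eq.symm (ρ (s₀ * r) (eq (0, 0)))).1 = k
      rw [hρ2]
      simp [h.e_mul, hes₀, hr]
    · show (eq.symm (ρ (s₀ * r) (eq (i, 0)))).2 = w i
      rw [hρ2]
      simp only [zero_add]
      rw [h.bet_mul, hr, add_zero, h.n_mul _ _ (h.e_bet _ _) (h.e_bet _ _)]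
      have h1 := congrFun hvr i
      have h2 : vv n σ r i = n (bet e σ r i) := by
        simp [vv, bet, hr]
      rw [h2] at h1
      rw [h1]
      ring
  have hle : p ^ (p + 1) ≤ Nat.card ρ.range := by
    have h1 := Nat.card_le_card_of_surjective Θ hΘ
    simpa [Nat.card_eq_fintype_card, ZMod.card, pow_succ, mul_comm] using h1
  have heq : ρ.range = (W : Subgroup _) := by
    refine Subgroup.eq_of_le_of_card_ge hW ?_
    rw [card_sylow_perm W]
    exact hle
  refine ⟨W, ρ.codRestrict W (fun s => hW ⟨s, rfl⟩), ?_⟩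
  rintro ⟨g, hg⟩
  rw [← heq] at hg
  obtain ⟨s, rfl⟩ := hg
  exact ⟨s, rfl⟩

/-- **The wreath quotient**, multiplicative form. -/
theorem exists_surj_of_norm [Finite G] (hG : IsPGroup p G) (l : G →* Multiplicative (ZMod p)) {s : G} (hs : l s ≠ 1)
    (ν : G → Multiplicative (ZMod p)) (hν : ∀ a b, l a = 1 → l b = 1 → ν (a * b) = ν a * ν b) {x : G} (hx : l x = 1)
    (hn : ∏ k ∈ Finset.range p, ν ((s ^ k)⁻¹ * x * s ^ k) ≠ 1) :
    ∃ (W : Sylow p (Equiv.Perm (Fin (p ^ 2)))) (f : G →* ↥(W : Subgroup (Equiv.Perm (Fin (p ^ 2))))),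
      Function.Surjective f := by
  set c : ZMod p := Multiplicative.toAdd (l s) with hc
  have hc0 : c ≠ 0 := by
    intro h0
    apply hs
    have : l s = Multiplicative.ofAdd c := rfl
    rw [this, h0]
    rfl
  have he1 : ∀ a, l a = 1 → Multiplicative.toAdd (l a) / c = 0 := by
    intro a ha
    rw [ha]
    simp
  have he2 : ∀ a, Multiplicative.toAdd (l a) / c = 0 → l a = 1 := by
    intro a ha
    have := (div_eq_zero_iff.1 ha).resolve_right hc0
    exact this
  have hd : WData (fun a => Multiplicative.toAdd (l a) / c) (fun a => Multiplicative.toAdd (ν a)) s :=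
    { e_mul := by
        intro a b
        simp only [map_mul, toAdd_mul, add_div]
      e_sigma := div_self hc0
      n_mul := by
        intro a b ha hb
        rw [hν a b (he2 a ha) (he2 b hb), toAdd_mul] }
  refine hd.exists_surj hG (x := x) (he1 x hx) ?_
  intro h0
  apply hn
  have : Multiplicative.toAdd (∏ k ∈ Finset.range p, ν ((s ^ k)⁻¹ * x * s ^ k)) = 0 := by
    rw [toAdd_prod]
    exact h0
  exact this

end Cfsg.Agent.Lib.WreathQuot
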