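/-
OrbitCocycle: the orbit analysis of a cocycle for a finite `p`-group acting on a finite set, behind Yoshida's theorem.
-/
import Mathlib
import Cfsg.Agent.Lib.Frat
import Cfsg.Agent.Lib.WreathQuot

set_option autoImplicit false

namespace Cfsg.Agent.Lib.OrbitCocycle

open Finset MulAction

variable {G : Type*} [Group G] {I : Type*} [MulAction G I] {A : Type*} [CommGroup A]

/-- Cocycles. -/
def IsCoc (g : G → I → A) : Prop := ∀ a b i, g (a * b) i = g a (b • i) * g b i

lemma IsCoc.one {g : G → I → A} (h : IsCoc g) (i : I) : g 1 i = 1 := by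
  have := h 1 1 i
  rw [mul_one, one_smul] at this
  exact (left_eq_mul.1 this)

lemma IsCoc.inv_smul {g : G → I → A} (h : IsCoc g) (a : G) (i : I) : g a⁻¹ (a • i) = (g a i)⁻¹ := by
  have := h a⁻¹ a i
  rw [inv_mul_cancel, h.one] at this
  exact eq_inv_of_mul_eq_one_left this.symm

lemma IsCoc.pow {g : G → I → A} (h : IsCoc g) (a : G) (n : ℕ) (i : I) :
    ∏ k ∈ range n, g a (a ^ k • i) = g (a ^ n) i := by
  induction n with
  | zero => simp [h.one]
  | succ n ih =>
    rw [prod_range_succ, ih, pow_succ' a n, h, mul_comm]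

/-- Permuting a stable finset. -/
lemma prod_smul_finset [DecidableEq I] {T : Finset I} {r : G} (hr : ∀ i ∈ T, r • i ∈ T) {B : Type*} [CommMonoid B]
    (w : I → B) : ∏ i ∈ T, w (r • i) = ∏ i ∈ T, w i := by
  refine Finset.prod_bij (fun i _ => r • i) hr ?_ ?_ (fun _ _ => rfl)
  · intro a _ b _ hab
    exact smul_left_cancel r hab
  · intro b hb
    -- `r` permutes `T`
    have hinj : Set.InjOn (fun i => r • i) (T : Set I) := fun a _ b _ hab => smul_left_cancel r hab
    have himg : T.image (fun i => r • i) = T := by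
      apply Finset.eq_of_subset_of_card_le
      · intro y hy
        obtain ⟨i, hi, rfl⟩ := Finset.mem_image.1 hy
        exact hr i hi
      · rw [Finset.card_image_of_injOn hinj]
    rw [← himg] at hb
    obtain ⟨i, hi, hii⟩ := Finset.mem_image.1 hb
    exact ⟨i, hi, hii⟩

variable {p : ℕ} [hp : Fact p.Prime]

/-- Decomposition along a generator of the quotient. -/
lemma prod_decomp [DecidableEq I] (l : G →* Multiplicative (ZMod p)) (t : I → Multiplicative (ZMod p)) {J : Finset I}
    (hJ : ∀ (a : G), ∀ i ∈ J, a • i ∈ J) (ht : ∀ (a : G), ∀ i ∈ J, t (a • i) = l a * t i) {s : G} (hs : l s ≠ 1)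
    {B : Type*} [CommMonoid B] (w : I → B) :
    ∏ i ∈ J, w i = ∏ k ∈ range p, ∏ i ∈ J.filter (fun i => t i = 1), w (s ^ k • i) := by
  classical
  rw [← Finset.prod_product']
  symm
  have hu : orderOf (l s) = p := by
    refine orderOf_eq_prime ?_ hs
    have : (l s) ^ p = Multiplicative.ofAdd (p • Multiplicative.toAdd (l s)) := rfl
    rw [this]
    simp
  refine Finset.prod_bij (fun y _ => s ^ y.1 • y.2) ?_ ?_ ?_ (fun _ _ => rfl)
  · intro y hy
    exact hJ _ _ (Finset.mem_filter.1 (Finset.mem_product.1 hy).2).1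
  · intro y hy z hz hyz
    obtain ⟨hy1, hy2⟩ := Finset.mem_product.1 hy
    obtain ⟨hz1, hz2⟩ := Finset.mem_product.1 hz
    obtain ⟨hy3, hy4⟩ := Finset.mem_filter.1 hy2
    obtain ⟨hz3, hz4⟩ := Finset.mem_filter.1 hz2
    have h1 := congrArg t hyz
    rw [ht _ _ hy3, ht _ _ hz3, hy4, hz4, mul_one, mul_one, map_pow, map_pow] at h1
    have h2 : y.1 = z.1 := by
      have := pow_injOn_Iio_orderOf (x := l s)
      refine this ?_ ?_ h1
      · rw [hu]
        exact Finset.mem_range.1 hy1
      · rw [hu]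
        exact Finset.mem_range.1 hz1
    have h3 : y.2 = z.2 := by
      rw [h2] at hyz
      exact smul_left_cancel _ hyz
    exact Prod.ext h2 h3
  · intro i hi
    -- `t i` is a power of `l s`
    set u : ZMod p := Multiplicative.toAdd (l s) with hu'
    have hu0 : u ≠ 0 := by
      intro h0
      apply hs
      have : l s = Multiplicative.ofAdd u := rfl
      rw [this, h0]
      rfl
    set c : ZMod p := Multiplicative.toAdd (t i) / u with hc
    have hk : (l s) ^ c.val = t i := by
      have h1 : (l s) ^ c.val = Multiplicative.ofAdd (c.val • u) := rfl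
      rw [h1, nsmul_eq_mul]
      simp only [ZMod.natCast_val, ZMod.cast_id', id_eq]
      rw [hc, div_mul_cancel₀ _ hu0]
      rfl
    refine ⟨(c.val, (s ^ c.val)⁻¹ • i), ?_, ?_⟩
    · refine Finset.mem_product.2 ⟨Finset.mem_range.2 (ZMod.val_lt c), Finset.mem_filter.2 ⟨hJ _ _ hi, ?_⟩⟩
      rw [ht _ _ hi, map_inv, map_pow, hk]
      simp
    · simp

/-- The piece of a stable finset with a nontrivial character. -/
theorem piece [DecidableEq I] {g : G → I → A} (hg : IsCoc g) (f : G →* A) (hfp : ∀ a, f a ^ p = 1)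
    (l : G →* Multiplicative (ZMod p)) (hl : l ≠ 1) (t : I → Multiplicative (ZMod p)) {J : Finset I}
    (hJ : ∀ (a : G), ∀ i ∈ J, a • i ∈ J) (ht : ∀ (a : G), ∀ i ∈ J, t (a • i) = l a * t i)
    (hnw : ∀ (s x : G) (ν : G → A), l s ≠ 1 → l x = 1 → (∀ a b, l a = 1 → l b = 1 → ν (a * b) = ν a * ν b) →
      ∏ k ∈ range p, ν ((s ^ k)⁻¹ * x * s ^ k) = 1)
    (x : G) (hx : l x ≠ 1 → ∃ ℓ : I → A, ∀ i, g (x ^ p) i = f (x ^ p) * ℓ i * (ℓ (x ^ p • i))⁻¹) :
    ∏ i ∈ J, g x i = 1 := by
  classical
  set T := J.filter (fun i => t i = 1) with hT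
  have hTs : ∀ r : G, l r = 1 → ∀ i ∈ T, r • i ∈ T := by
    intro r hr i hi
    obtain ⟨h1, h2⟩ := Finset.mem_filter.1 hi
    refine Finset.mem_filter.2 ⟨hJ _ _ h1, ?_⟩
    rw [ht _ _ h1, hr, h2, one_mul]
  by_cases hlx : l x = 1
  · -- `x` in the kernel
    obtain ⟨s, hs⟩ : ∃ s, l s ≠ 1 := by
      by_contra hcon
      push Not at hcon
      exact hl (MonoidHom.ext hcon)
    rw [prod_decomp l t hJ ht hs]
    let ν : G → A := fun r => ∏ i ∈ T, g r i
    have hν : ∀ a b, l a = 1 → l b = 1 → ν (a * b) = ν a * ν b := by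
      intro a b ha hb
      simp only [ν, hg a b, Finset.prod_mul_distrib]
      rw [prod_smul_finset (hTs b hb) (fun i => g a i)]
    have := hnw s x ν hs hlx hν
    rw [← this]
    refine Finset.prod_congr rfl (fun k _ => ?_)
    -- the conjugation formula
    set τ : G := s ^ k with hτ
    set y : G := τ⁻¹ * x * τ with hy
    have hly : l y = 1 := by
      rw [hy, map_mul, map_mul, map_inv, hlx]
      simp
    have h1 : ∀ i, g y i = (g τ (y • i))⁻¹ * g x (τ • i) * g τ i := by
      intro i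
      have e1 : y = τ⁻¹ * (x * τ) := by rw [hy, mul_assoc]
      have e2 : (x * τ) • i = τ • (y • i) := by
        rw [smul_smul, hy]
        congr 1
        group
      rw [e1, hg, ← e1, e2, hg x τ, hg.inv_smul, e1]
      rw [mul_assoc]
    show ∏ i ∈ T, g x (τ • i) = ∏ i ∈ T, g y i
    simp only [h1, Finset.prod_mul_distrib, Finset.prod_inv_distrib]
    rw [prod_smul_finset (hTs y hly) (fun i => g τ i)]
    simp
  · -- `x` outside the kernel
    rw [prod_decomp l t hJ ht hlx, ← hT, Finset.prod_comm]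
    simp only [hg.pow]
    obtain ⟨ℓ, hℓ⟩ := hx hlx
    have hly : l (x ^ p) = 1 := by
      rw [map_pow]
      have : (l x) ^ p = Multiplicative.ofAdd (p • Multiplicative.toAdd (l x)) := rfl
      rw [this]
      simp
    simp only [hℓ, Finset.prod_mul_distrib, Finset.prod_inv_distrib]
    rw [prod_smul_finset (hTs _ hly) (fun i => ℓ i), map_pow, hfp]
    simp

/-- A character with prescribed kernel containing a proper subgroup. -/
theorem exists_char [Finite G] (hG : IsPGroup p G) {R : Subgroup G} (hR : R ≠ ⊤) :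
    ∃ l : G →* Multiplicative (ZMod p), l ≠ 1 ∧ ∀ r ∈ R, l r = 1 := by
  obtain ⟨M, hM, hRM⟩ : ∃ M : Subgroup G, IsCoatom M ∧ R ≤ M := by
    rcases eq_top_or_exists_le_coatom R with h | h
    · exact absurd h hR
    · obtain ⟨M, hM, hle⟩ := h
      exact ⟨M, hM, hle⟩
  obtain ⟨h1, -⟩ := Cfsg.Agent.Lib.Frat.commutator_and_pow_mem_of_isCoatom hG hM
  haveI hN : M.Normal := Cfsg.Agent.Lib.Frat.normal_of_commutator_le h1
  have hidx := Cfsg.Agent.Lib.Frat.index_eq_of_isCoatom hG hM
  have hcard : Nat.card (G ⧸ M) = p := hidx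
  let φ : (G ⧸ M) ≃* Multiplicative (ZMod p) := by
    refine mulEquivOfPrimeCardEq hcard ?_
    simp [Nat.card_eq_fintype_card, ZMod.card]
  refine ⟨φ.toMonoidHom.comp (QuotientGroup.mk' M), ?_, ?_⟩
  · intro h
    apply hM.1
    rw [eq_top_iff]
    intro y _
    have h2 : φ (QuotientGroup.mk' M y) = 1 := DFunLike.congr_fun h y
    have h3 : (QuotientGroup.mk' M y) = 1 := by
      apply φ.injective
      rw [h2, map_one]
    exact (QuotientGroup.eq_one_iff y).1 h3
  · intro r hr
    have : (QuotientGroup.mk' M r) = 1 := (QuotientGroup.eq_one_iff r).2 (hRM hr)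
    show φ (QuotientGroup.mk' M r) = 1
    rw [this, map_one]

/-- Orders go down under `p`-th powers. -/
lemma orderOf_pow_lt [Finite G] (hG : IsPGroup p G) {x : G} (hx : x ≠ 1) : orderOf (x ^ p) < orderOf x := by
  obtain ⟨k, hk⟩ := hG x
  have h1 : orderOf x ∣ p ^ k := orderOf_dvd_of_pow_eq_one hk
  obtain ⟨j, -, hj⟩ := (Nat.dvd_prime_pow hp.out).1 h1
  have hj0 : j ≠ 0 := by
    rintro rfl
    rw [pow_zero] at hj
    exact hx (orderOf_eq_one_iff.1 hj)
  have hd : p ∣ orderOf x := by
    rw [hj]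
    exact dvd_pow_self p hj0
  rw [orderOf_pow' _ hp.out.ne_zero, Nat.gcd_eq_right hd]
  exact Nat.div_lt_self (orderOf_pos x) hp.out.one_lt

/-- **The orbit analysis.** -/
theorem orbit_main [Finite G] [Fintype I] (hG : IsPGroup p G) {g : G → I → A} (hg : IsCoc g) (f : G →* A)
    (hfp : ∀ a, f a ^ p = 1) (hfix : ∀ i, (∀ a : G, a • i = i) → ∀ a, g a i = f a)
    (hnw : ∀ (l : G →* Multiplicative (ZMod p)) (s x : G) (ν : G → A), l s ≠ 1 → l x = 1 →
      (∀ a b, l a = 1 → l b = 1 → ν (a * b) = ν a * ν b) →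
      ∏ k ∈ range p, ν ((s ^ k)⁻¹ * x * s ^ k) = 1)
    (hpot : ∀ y : G, (∀ z : G, orderOf z ≤ orderOf y → ∏ i, g z i = f z ^ Nat.card (fixedPoints G I)) →
      ∃ ℓ : I → A, ∀ i, g y i = f y * ℓ i * (ℓ (y • i))⁻¹) (x : G) :
    ∏ i, g x i = f x ^ Nat.card (fixedPoints G I) := by
  classical
  induction' hn : orderOf x using Nat.strong_induction_on with n ih generalizing x
  subst hn
  -- the stable part without fixed points
  have hJ : ∀ J : Finset I, (∀ (a : G), ∀ i ∈ J, a • i ∈ J) → (∀ i ∈ J, ¬ ∀ a : G, a • i = i) → ∏ i ∈ J, g x i = 1 := by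
    intro J
    induction J using Finset.strongInduction with
    | H J ihJ =>
      intro hs hnf
      by_cases hem : J = ∅
      · subst hem
        simp
      obtain ⟨i₀, hi₀⟩ := Finset.nonempty_iff_ne_empty.2 hem
      set O : Finset I := Finset.univ.filter (fun i => i ∈ orbit G i₀) with hO
      have hOJ : O ⊆ J := by
        intro i hi
        obtain ⟨a, rfl⟩ := (Finset.mem_filter.1 hi).2
        exact hs a _ hi₀
      have hi₀O : i₀ ∈ O := Finset.mem_filter.2 ⟨Finset.mem_univ _, mem_orbit_self i₀⟩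
      have hOs : ∀ (a : G), ∀ i ∈ O, a • i ∈ O := by
        intro a i hi
        refine Finset.mem_filter.2 ⟨Finset.mem_univ _, ?_⟩
        obtain ⟨b, rfl⟩ := (Finset.mem_filter.1 hi).2
        exact ⟨a * b, mul_smul _ _ _⟩
      -- the orbit
      have hR : stabilizer G i₀ ≠ ⊤ := by
        intro h
        exact hnf i₀ hi₀ (fun a => mem_stabilizer_iff.1 (by rw [h]; trivial))
      obtain ⟨l, hl1, hl2⟩ := exists_char hG hR
      have hch : ∀ i, ∃ b : G, i ∈ O → b • i₀ = i := by
        intro i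
        by_cases hi : i ∈ O
        · obtain ⟨b, hb⟩ := (Finset.mem_filter.1 hi).2
          exact ⟨b, fun _ => hb⟩
        · exact ⟨1, fun h => absurd h hi⟩
      choose b hb using hch
      have hwd : ∀ a c : G, a • i₀ = c • i₀ → l a = l c := by
        intro a c hac
        have h1 : c⁻¹ * a ∈ stabilizer G i₀ := by
          rw [mem_stabilizer_iff, mul_smul, hac, inv_smul_smul]
        have h2 := hl2 _ h1
        rw [map_mul, map_inv] at h2
        exact (inv_mul_eq_one.1 h2).symm
      have h1 : ∏ i ∈ O, g x i = 1 := by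
        refine piece hg f hfp l hl1 (fun i => l (b i)) hOs ?_ (fun s c ν hs hc h1 => hnw l s c ν hs hc h1) x ?_
        · intro a i hi
          have h2 : b (a • i) • i₀ = (a * b i) • i₀ := by
            rw [hb _ (hOs a i hi), mul_smul, hb _ hi]
          have := hwd _ _ h2
          rw [this, map_mul]
        · intro hlx
          have hx1 : x ≠ 1 := by
            rintro rfl
            exact hlx (map_one l)
          refine hpot _ (fun z hz => ?_)
          exact ih _ (lt_of_le_of_lt hz (orderOf_pow_lt hG hx1)) z rfl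
      have hsd : J \ O ⊂ J := by
        refine Finset.ssubset_iff_subset_ne.2 ⟨Finset.sdiff_subset, ?_⟩
        intro h
        have : i₀ ∈ J \ O := h.symm ▸ hi₀
        exact (Finset.mem_sdiff.1 this).2 hi₀O
      have h2 : ∏ i ∈ J \ O, g x i = 1 := by
        refine ihJ _ hsd ?_ (fun i hi => hnf i (Finset.mem_sdiff.1 hi).1)
        intro a i hi
        obtain ⟨h3, h4⟩ := Finset.mem_sdiff.1 hi
        refine Finset.mem_sdiff.2 ⟨hs _ _ h3, fun h5 => h4 ?_⟩
        have := hOs a⁻¹ _ h5
        rwa [inv_smul_smul] at this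
      rw [← Finset.prod_sdiff hOJ, h1, h2, one_mul]
  -- split into fixed points and the rest
  set Fx : Finset I := Finset.univ.filter (fun i => ∀ a : G, a • i = i) with hFx
  have hcardFx : Nat.card (fixedPoints G I) = Fx.card := by
    rw [Nat.card_eq_fintype_card, Fintype.card_of_subtype Fx]
    intro i
    simp [hFx, mem_fixedPoints]
  rw [hcardFx, ← Finset.prod_filter_mul_prod_filter_not Finset.univ (fun i => ∀ a : G, a • i = i)]
  have h1 : ∏ i ∈ Fx, g x i = f x ^ Fx.card := by
    rw [Finset.prod_congr rfl (fun i hi => hfix i (Finset.mem_filter.1 hi).2 x)]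
    rw [Finset.prod_const]
  rw [h1, hJ, mul_one]
  · intro a i hi
    refine Finset.mem_filter.2 ⟨Finset.mem_univ _, fun h => (Finset.mem_filter.1 hi).2 ?_⟩
    intro b
    have h2 := h (a * b * a⁻¹)
    rw [mul_smul, inv_smul_smul, mul_smul] at h2
    exact smul_left_cancel _ h2
  · intro i hi
    exact (Finset.mem_filter.1 hi).2

end Cfsg.Agent.Lib.OrbitCocycle
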