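/-
FusionYoshida: stable homomorphisms.  A bootstrap from `ZMod p`-valued homomorphisms to all abelian `p`-groups
(Tate's argument, part one) and Yoshida's analysis for the normalizer of the Sylow subgroup.
-/
import Mathlib
import Cfsg.Agent.Lib.FusionTrfApps
import Cfsg.Agent.Lib.OrbitCocycle

set_option autoImplicit false

namespace Cfsg.Agent.Lib.FusionYoshida

open Cfsg Cfsg.FusionSystem Cfsg.Agent.Lib.FusionCore Cfsg.Agent.Lib.StableSet Cfsg.Agent.Lib.FusionBiset
open Cfsg.Agent.Lib.FusionTransfer Cfsg.Agent.Lib.FusionTrfApps Cfsg.Agent.Lib.OrbitCocycle MulAction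

universe u v

variable {Ω : Type u} [Group Ω] {S : Subgroup Ω} {F : FusionSystem S}

/-- Two elements are related by a map of the system. -/
def FRel (F : FusionSystem S) (a b : ↥S) : Prop :=
  ∃ (P : Subgroup Ω) (f : Ω → Ω), Maps F P f ∧ (a : Ω) ∈ P ∧ (b : Ω) = f a

lemma FRel.orderOf_eq {a b : ↥S} (h : FRel F a b) : orderOf a = orderOf b := by
  obtain ⟨P, f, hf, ha, hb⟩ := h
  have h1 : orderOf ((hf.hom) ⟨a, ha⟩) = orderOf (⟨a, ha⟩ : P) := by
    refine orderOf_injective hf.hom ?_ _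
    rintro x y hxy
    rw [hf.hom_apply, hf.hom_apply] at hxy
    exact Subtype.ext (hf.inj x.2 y.2 hxy)
  rw [hf.hom_apply] at h1
  change orderOf (f a) = _ at h1
  rw [← hb] at h1
  have h2 : orderOf (⟨a, ha⟩ : P) = orderOf (a : Ω) := Subgroup.orderOf_mk (a : Ω) ha
  have h3 : orderOf a = orderOf (a : Ω) := (Subgroup.orderOf_coe a).symm
  have h4 : orderOf b = orderOf (b : Ω) := (Subgroup.orderOf_coe b).symm
  rw [h3, h4, h1, h2]

section Tr

variable {X : Type u} [Finite X] [MulAction (Gam S) X] [Finite S]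

/-- The potential on the right orbits. -/
lemma exists_potential_I {A : Type v} [CommGroup A] (hX : ∀ x : X, stabilizer (Gam S) x ∈ GG F) (f : ↥S →* A)
    (C : Subgroup ↥S) (hC : ∀ (x : X) (a : ↥S) (b : ↥S), a ∈ C → ((a, b) : Gam S) • x = x → f a = f b) :
    ∃ ℓ : OrbI (S := S) X → A, ∀ z ∈ C, ∀ i : OrbI (S := S) X,
      f (cc (LL S X z) i) = f z * ℓ i * (ℓ (bar (LL S X z) i))⁻¹ := by
  classical
  let ι : ↥C × ↥S →* Gam S := MonoidHom.prodMap C.subtype (MonoidHom.id ↥S)
  letI : MulAction (↥C × ↥S) X := MulAction.compHom X ι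
  let ξ : ↥C × ↥S →* A := MonoidHom.coprod (f.comp C.subtype) f⁻¹
  have hξa : ∀ h : ↥C × ↥S, ξ h = f h.1 * (f h.2)⁻¹ := fun h => rfl
  obtain ⟨ℓ, hℓ⟩ := exists_potential (H := ↥C × ↥S) (X := X) ξ (by
    intro x h hx
    rw [hξa, hC x h.1 h.2 h.1.2 hx]
    simp)
  refine ⟨fun i => ℓ (sig i), fun z hz i => ?_⟩
  have h1 := g_sig (LL S X z) i
  rw [LL_apply] at h1
  have h2 : ℓ (((z, 1) : Gam S) • sig i) = f z * ℓ (sig i) := by
    have := hℓ (⟨z, hz⟩, 1) (sig i)
    rw [hξa] at this
    have e : ((⟨z, hz⟩, 1) : ↥C × ↥S) • (sig i : X) = ((z, 1) : Gam S) • sig i := rfl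
    rw [e] at this
    simpa using this
  have h3 : ℓ (rm (sig (bar (LL S X z) i)) (cc (LL S X z) i)) =
      f (cc (LL S X z) i) * ℓ (sig (bar (LL S X z) i)) := by
    have := hℓ ((1 : ↥C), (cc (LL S X z) i)⁻¹) (sig (bar (LL S X z) i))
    rw [hξa] at this
    have e : (((1 : ↥C), (cc (LL S X z) i)⁻¹) : ↥C × ↥S) • (sig (bar (LL S X z) i) : X) =
        rm (sig (bar (LL S X z) i)) (cc (LL S X z) i) := rfl
    rw [e] at this
    simpa using this
  rw [h1, h3] at h2
  rw [← h2]
  simp

/-- The transfer respects the relation. -/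
lemma tr_frel {A : Type v} [CommGroup A] (hX : ∀ x : X, stabilizer (Gam S) x ∈ GG F)
    (hm : ∀ V ∈ GG F, ∀ V' ∈ GG F, rr F V V' → mark X V = mark X V') (f : ↥S →* A) {a b : ↥S} (h : FRel F a b) :
    tr hX f a = tr hX f b := by
  obtain ⟨P, φ, hφ, ha, hb⟩ := h
  have := tr_stable hX hm f hφ a ha
  have e : b = ⟨φ a, hφ.mem ha⟩ := Subtype.ext hb
  rw [e, this]

/-- The transfer of a stable homomorphism is a power. -/
lemma tr_eq_pow_of_stable {A : Type v} [CommGroup A] (hX : ∀ x : X, stabilizer (Gam S) x ∈ GG F) (f : ↥S →* A)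
    (hf : ∀ a b, FRel F a b → f a = f b) (z : ↥S) : tr hX f z = f z ^ Nat.card (OrbI (S := S) X) :=
  tr_eq_pow hX f ⊤ (fun x a b _ hab => hf a b (stab_maps hX x a b hab)) (Subgroup.mem_top z)

/-- Naturality of the transfer. -/
lemma tr_comp {A : Type v} [CommGroup A] {B : Type*} [CommGroup B] (hX : ∀ x : X, stabilizer (Gam S) x ∈ GG F)
    (q : A →* B) (f : ↥S →* A) (z : ↥S) : tr hX (q.comp f) z = q (tr hX f z) := by
  classical
  haveI : Fintype (OrbI (S := S) X) := Fintype.ofFinite _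
  show DD hX (q.comp f) (LL S X z) = q (DD hX f (LL S X z))
  rw [DD_apply, DD_apply, map_prod]
  rfl

end Tr

/-- In an abelian `p`-group, prime-to-`p` powers are injective. -/
lemma eq_of_pow_eq {p : ℕ} [hp : Fact p.Prime] {A : Type*} [CommGroup A] (hA : IsPGroup p A) {n : ℕ} (hn : ¬ p ∣ n)
    {x y : A} (h : x ^ n = y ^ n) : x = y := by
  obtain ⟨k, hk⟩ := hA (x * y⁻¹)
  have h1 : (x * y⁻¹) ^ n = 1 := by
    rw [mul_pow, inv_pow, h, mul_inv_cancel]
  have hc : Nat.Coprime n (p ^ k) :=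
    Nat.Coprime.pow_right k (Nat.coprime_comm.1 ((Nat.Prime.coprime_iff_not_dvd hp.out).2 hn))
  have h2 := Nat.eq_one_of_dvd_coprimes hc (orderOf_dvd_of_pow_eq_one h1) (orderOf_dvd_of_pow_eq_one hk)
  exact mul_inv_eq_one.1 (orderOf_eq_one_iff.1 h2)

lemma exists_addChar_ne {p : ℕ} [hp : Fact p.Prime] {V : Type*} [AddCommGroup V] [Module (ZMod p) V] {v : V} (hv : v ≠ 0) :
    ∃ φ : V →+ ZMod p, φ v ≠ 0 := by
  by_contra hcon
  push Not at hcon
  apply hv
  refine (Module.forall_dual_apply_eq_zero_iff (ZMod p) v).1 (fun φ => ?_)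
  exact hcon φ.toAddMonoidHom
/-- Characters separate points on elementary abelian groups. -/
lemma exists_char_ne {p : ℕ} [hp : Fact p.Prime] {E : Type*} [CommGroup E] (hE : ∀ x : E, x ^ p = 1) {u : E} (hu : u ≠ 1) :
    ∃ χ : E →* Multiplicative (ZMod p), χ u ≠ 1 := by
  letI : Module (ZMod p) (Additive E) := AddCommGroup.zmodModule (fun x => by
    show Additive.ofMul (x.toMul ^ p) = 0
    rw [hE]
    rfl)
  obtain ⟨φ, hφ⟩ := exists_addChar_ne (p := p) (V := Additive E) (v := Additive.ofMul u) (fun h => hu (by simpa using h))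
  refine ⟨MonoidHom.mk' (fun x => Multiplicative.ofAdd (φ (Additive.ofMul x))) (fun a b => ?_), fun h => hφ ?_⟩
  · rw [ofMul_mul, map_add, ofAdd_add]
  · have h' : Multiplicative.ofAdd (φ (Additive.ofMul u)) = 1 := h
    exact h'

section Bootstrap

variable [Finite S] {p : ℕ} [hp : Fact p.Prime] {X : Type u} [Finite X] [MulAction (Gam S) X]

/-- **The bootstrap** (part one of Tate's theorem): a relation finer than the fusion relation such that
every stable `ZMod p`-character is fusion-stable has the same property for every abelian `p`-group. -/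
theorem stable_of_char (hX : ∀ x : X, stabilizer (Gam S) x ∈ GG F)
    (hm : ∀ V ∈ GG F, ∀ V' ∈ GG F, rr F V V' → mark X V = mark X V') (hn : ¬ p ∣ Nat.card (OrbI (S := S) X))
    (Rl : ↥S → ↥S → Prop) (hRl : ∀ a b, Rl a b → FRel F a b)
    (h₀ : ∀ f : ↥S →* Multiplicative (ZMod p), (∀ a b, Rl a b → f a = f b) → ∀ a b, FRel F a b → f a = f b)
    (N : ℕ) {A : Type v} [CommGroup A] [Finite A] (hA : IsPGroup p A) (hN : Nat.card A = N) (f : ↥S →* A)
    (hf : ∀ a b, Rl a b → f a = f b) : ∀ a b, FRel F a b → f a = f b := by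
  classical
  induction N using Nat.strong_induction_on generalizing A with
  | _ N ih =>
  intro a b hab
  by_cases hsub : Subsingleton A
  · exact Subsingleton.elim _ _
  rw [not_subsingleton_iff_nontrivial] at hsub
  set Ap : Subgroup A := (powMonoidHom p : A →* A).range with hAp
  have hAptop : Ap ≠ ⊤ := by
    intro htop
    have hsurj : Function.Surjective (powMonoidHom p : A →* A) := MonoidHom.range_eq_top.1 htop
    have hinj := Finite.injective_iff_surjective.2 hsurj
    obtain ⟨k, hk⟩ := IsPGroup.iff_card.1 hA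
    have hk0 : k ≠ 0 := by
      rintro rfl
      rw [pow_zero, Nat.card_eq_one_iff_unique] at hk
      exact not_subsingleton A hk.1
    have hdvd : p ∣ Nat.card A := by
      rw [hk]
      exact dvd_pow_self p hk0
    obtain ⟨x, hx⟩ := exists_prime_orderOf_dvd_card' p hdvd
    have h1 : (powMonoidHom p : A →* A) x = (powMonoidHom p : A →* A) 1 := by
      show x ^ p = 1 ^ p
      rw [one_pow, ← hx, pow_orderOf_eq_one]
    have h2 := hinj h1
    rw [h2, orderOf_one] at hx
    exact hp.out.one_lt.ne hx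
  have hcard : Nat.card Ap < N := by
    rw [← hN]
    obtain ⟨x, hx⟩ : ∃ x, x ∉ Ap := by
      by_contra hcon
      push Not at hcon
      exact hAptop (eq_top_iff.2 (fun x _ => hcon x))
    exact Finite.card_subtype_lt hx
  -- the quotient is elementary abelian
  let q : A →* A ⧸ Ap := QuotientGroup.mk' Ap
  have hq1 : ∀ u, q u = 1 ↔ u ∈ Ap := fun u => QuotientGroup.eq_one_iff u
  have hE : ∀ x : A ⧸ Ap, x ^ p = 1 := by
    intro x
    obtain ⟨y, rfl⟩ := QuotientGroup.mk'_surjective Ap x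
    rw [← map_pow, hq1]
    exact ⟨y, rfl⟩
  have hst1 : ∀ c d, FRel F c d → q (f c) = q (f d) := by
    intro c d hcd
    by_contra hne
    have hu : q (f c) * (q (f d))⁻¹ ≠ 1 := fun h => hne (mul_inv_eq_one.1 h)
    obtain ⟨χ, hχ⟩ := exists_char_ne hE hu
    apply hχ
    have h1 := h₀ ((χ.comp q).comp f) (fun u v huv => by
      simp only [MonoidHom.comp_apply]
      rw [hf u v huv]) c d hcd
    simp only [MonoidHom.comp_apply] at h1
    rw [map_mul, map_inv, h1, mul_inv_cancel]
  -- the difference of the transfer and the power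
  set n := Nat.card (OrbI (S := S) X) with hn'
  have hq2 : ∀ z, q (tr hX f z) = q (f z) ^ n := by
    intro z
    have h1 := tr_eq_pow_of_stable hX (q.comp f) (fun c d hcd => hst1 c d hcd) z
    rw [tr_comp] at h1
    exact h1
  let δ₀ : ↥S →* A := tr hX f * (f ^ n)⁻¹
  have hδ₀ : ∀ z, δ₀ z = tr hX f z * (f z ^ n)⁻¹ := fun z => rfl
  have hδmem : ∀ z, δ₀ z ∈ Ap := by
    intro z
    rw [← hq1, hδ₀, map_mul, map_inv, map_pow, hq2, mul_inv_cancel]
  let δ : ↥S →* Ap := δ₀.codRestrict Ap hδmem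
  have hδ : ∀ z, ((δ z : Ap) : A) = tr hX f z * (f z ^ n)⁻¹ := fun z => rfl
  have h1 := ih _ hcard (A := Ap) (hA.to_subgroup Ap) rfl δ (fun u v huv => by
    apply Subtype.ext
    rw [hδ, hδ, tr_frel hX hm f (hRl u v huv), hf u v huv]) a b hab
  have h2 : tr hX f a * (f a ^ n)⁻¹ = tr hX f b * (f b ^ n)⁻¹ := by
    rw [← hδ, ← hδ, h1]
  rw [tr_frel hX hm f hab] at h2
  have h3 := mul_left_cancel h2
  exact eq_of_pow_eq hA hn (inv_injective h3)

end Bootstrap

section OrbitAction

variable {X : Type u} [MulAction (Gam S) X]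

/-- The action of `S` on the set of right orbits. -/
@[instance_reducible] def orbAct : MulAction ↥S (OrbI (S := S) X) where
  smul a i := bar (LL S X a) i
  one_smul i := by
    induction i using Quotient.inductionOn with
    | h x =>
      show Quotient.mk _ ((LL S X 1).1 x) = Quotient.mk _ x
      rw [map_one]
      rfl
  mul_smul a b i := by
    show bar (LL S X (a * b)) i = bar (LL S X a) (bar (LL S X b) i)
    rw [map_mul, bar_mul]

lemma orbAct_smul (a : ↥S) (i : OrbI (S := S) X) : (orbAct (X := X)).smul a i = bar (LL S X a) i := rfl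

end OrbitAction

section Core

variable [Finite S] {p : ℕ} [hp : Fact p.Prime] {X : Type u} [Finite X] [MulAction (Gam S) X]

/-- **Yoshida's analysis.** -/
theorem stable_of_norm (hS : IsPGroup p S) (hX : ∀ x : X, stabilizer (Gam S) x ∈ GG F)
    (hm : ∀ V ∈ GG F, ∀ V' ∈ GG F, rr F V V' → mark X V = mark X V') (hn : ¬ p ∣ Nat.card (OrbI (S := S) X))
    (hnw : ∀ (l : ↥S →* Multiplicative (ZMod p)) (s x : ↥S) (ν : ↥S → Multiplicative (ZMod p)), l s ≠ 1 → l x = 1 →
      (∀ a b, l a = 1 → l b = 1 → ν (a * b) = ν a * ν b) →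
      ∏ k ∈ Finset.range p, ν ((s ^ k)⁻¹ * x * s ^ k) = 1)
    (f : ↥S →* Multiplicative (ZMod p))
    (hf : ∀ (φ : Ω → Ω) (a b : ↥S), Maps F S φ → (b : Ω) = φ a → f a = f b) :
    ∀ a b, FRel F a b → f a = f b := by
  classical
  haveI : Fintype (OrbI (S := S) X) := Fintype.ofFinite _
  letI := orbAct (S := S) (X := X)
  have hsm : ∀ (a : ↥S) (i : OrbI (S := S) X), a • i = bar (LL S X a) i := fun _ _ => rfl
  have hAp : IsPGroup p (Multiplicative (ZMod p)) := by
    intro x
    refine ⟨1, ?_⟩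
    rw [pow_one]
    have : x ^ p = Multiplicative.ofAdd (p • Multiplicative.toAdd x) := rfl
    rw [this]
    simp
  have hexp : ∀ x : Multiplicative (ZMod p), x ^ p = 1 := by
    intro x
    have : x ^ p = Multiplicative.ofAdd (p • Multiplicative.toAdd x) := rfl
    rw [this]
    simp
  set m := Nat.card (fixedPoints ↥S (OrbI (S := S) X)) with hm'
  have hmp : ¬ p ∣ m := by
    intro hd
    apply hn
    have h1 := hS.card_modEq_card_fixedPoints (OrbI (S := S) X)
    exact (Nat.modEq_zero_iff_dvd.1 (h1.trans (Nat.modEq_zero_iff_dvd.2 hd)))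
  let g : ↥S → OrbI (S := S) X → Multiplicative (ZMod p) := fun a i => f (cc (LL S X a) i)
  have hg : IsCoc g := by
    intro a b i
    show f (cc (LL S X (a * b)) i) = f (cc (LL S X a) (bar (LL S X b) i)) * f (cc (LL S X b) i)
    rw [map_mul (LL S X), cc_mul hX, map_mul]
  have hT : ∀ z, tr hX f z = ∏ i, g z i := by
    intro z
    show DD hX f (LL S X z) = _
    rw [DD_apply]
  have main := orbit_main hS hg f (fun a => hexp _) ?_ hnw ?_
  · intro a b hab
    have h1 := tr_frel hX hm f hab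
    rw [hT, hT, main, main] at h1
    exact eq_of_pow_eq hAp hmp h1
  · -- the fixed points
    intro i hi a
    have hstab : ∀ a : ↥S, ((a, cc (LL S X a) i) : Gam S) • sig i = sig i := by
      intro a
      have h1 := g_sig (LL S X a) i
      have h2 : bar (LL S X a) i = i := hi a
      rw [h2, LL_apply] at h1
      have h3 : ((a, cc (LL S X a) i) : Gam S) = ((1, cc (LL S X a) i) : Gam S) * ((a, 1) : Gam S) := by
        simp
      rw [h3, mul_smul, h1]
      simp only [rm, smul_smul, Prod.mk_mul_mk, mul_one, mul_inv_cancel]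
      exact one_smul _ _
    obtain ⟨P, φ, hgr⟩ := hX (sig i)
    have hP : S ≤ P := by
      intro y hy
      exact ((hgr.mem ⟨y, hy⟩ _).1 (mem_stabilizer_iff.2 (hstab ⟨y, hy⟩))).1
    have hφ : Maps F S φ := hgr.maps.restrict hP
    have h2 := ((hgr.mem a _).1 (mem_stabilizer_iff.2 (hstab a))).2
    exact (hf φ a _ hφ h2).symm
  · -- the potential
    intro y hy
    obtain ⟨ℓ, hℓ⟩ := exists_potential_I hX f (Subgroup.zpowers y) (by
      intro x₀ a b ha hab
      have hr : FRel F a b := stab_maps hX x₀ a b hab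
      have h1 : orderOf a ≤ orderOf y := by
        exact Nat.le_of_dvd (orderOf_pos y) (orderOf_dvd_of_mem_zpowers ha)
      have h2 := tr_frel hX hm f hr
      rw [hT, hT, hy a h1, hy b (hr.orderOf_eq ▸ h1)] at h2
      exact eq_of_pow_eq hAp hmp h2)
    exact ⟨ℓ, fun i => hℓ y (Subgroup.mem_zpowers y) i⟩

end Core

end Cfsg.Agent.Lib.FusionYoshida
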