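/-
FusionOPower: saturated subsystems of `p`-power index, through the transfer of the characteristic biset.
-/
import Mathlib
import Cfsg.Agent.Lib.FusionYoshida
import Cfsg.Agent.Lib.FusionFocal
import Cfsg.Agent.Lib.FusionPPower

set_option autoImplicit false

namespace Cfsg.Agent.Lib.FusionOPower

open Cfsg Cfsg.FusionSystem Cfsg.Agent.Lib.FusionCore Cfsg.Agent.Lib.StableSet Cfsg.Agent.Lib.FusionBiset
open Cfsg.Agent.Lib.FusionTransfer Cfsg.Agent.Lib.FusionYoshida MulAction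

open scoped commutatorElement

universe u v

/-- The exponent of `Multiplicative (ZMod p)`. -/
lemma exp_p {p : ℕ} [hp : Fact p.Prime] (x : Multiplicative (ZMod p)) : x ^ p = 1 := by
  have : x ^ p = Multiplicative.ofAdd (p • Multiplicative.toAdd x) := rfl
  rw [this]
  simp

/-- Every element of `Multiplicative (ZMod p)` is a power of a nontrivial element. -/
lemma exists_pow_eq {p : ℕ} [hp : Fact p.Prime] {x : Multiplicative (ZMod p)} (hx : x ≠ 1)
    (c : Multiplicative (ZMod p)) : ∃ j : ℕ, x ^ j = c := by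
  set u : ZMod p := Multiplicative.toAdd x with hu'
  have hu0 : u ≠ 0 := by
    intro h0
    apply hx
    have : x = Multiplicative.ofAdd u := rfl
    rw [this, h0]
    rfl
  set d : ZMod p := Multiplicative.toAdd c / u with hd
  refine ⟨d.val, ?_⟩
  have h1 : x ^ d.val = Multiplicative.ofAdd (d.val • u) := rfl
  rw [h1, nsmul_eq_mul]
  simp only [ZMod.natCast_val, ZMod.cast_id', id_eq]
  rw [hd, div_mul_cancel₀ _ hu0]
  rfl

/-- A potential on a stable subset. -/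
lemma exists_potential_on {H : Type*} [Group H] {X : Type*} [MulAction H X] {A : Type*} [CommGroup A]
    (ξ : H →* A) (Y : Set X) (hY : ∀ (h : H) (x : X), x ∈ Y → h • x ∈ Y)
    (hξ : ∀ x ∈ Y, ∀ h : H, h • x = x → ξ h = 1) :
    ∃ ℓ : X → A, ∀ (h : H), ∀ x ∈ Y, ℓ (h • x) = ξ h * ℓ x := by
  classical
  have hk : ∀ x : X, ∃ k : H, k • (Quotient.out (Quotient.mk (orbitRel H X) x)) = x := by
    intro x
    have : (Quotient.out (Quotient.mk (orbitRel H X) x)) ∈ orbit H x :=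
      Quotient.mk_out (s := orbitRel H X) x
    obtain ⟨k, hk⟩ := this
    refine ⟨k⁻¹, ?_⟩
    rw [← hk]
    simp
  choose k hk using hk
  refine ⟨fun x => ξ (k x), ?_⟩
  intro h x hx
  have h1 : Quotient.mk (orbitRel H X) (h • x) = Quotient.mk (orbitRel H X) x :=
    Quotient.sound (show (orbitRel H X) (h • x) x from ⟨h, rfl⟩)
  have h2 := hk (h • x)
  have h3 := hk x
  rw [h1] at h2
  have h4 : ((k x)⁻¹ * h⁻¹ * k (h • x)) • (Quotient.out (Quotient.mk (orbitRel H X) x)) =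
      Quotient.out (Quotient.mk (orbitRel H X) x) := by
    rw [mul_smul, mul_smul, h2, inv_smul_smul]
    exact inv_smul_eq_iff.2 h3.symm
  have hmem : Quotient.out (Quotient.mk (orbitRel H X) x) ∈ Y := by
    have e : Quotient.out (Quotient.mk (orbitRel H X) x) = (k x)⁻¹ • x := by
      rw [eq_inv_smul_iff]
      exact h3
    rw [e]
    exact hY _ _ hx
  have h5 := hξ _ hmem _ h4
  simp only [map_mul, map_inv] at h5
  show ξ (k (h • x)) = ξ h * ξ (k x)
  have h6 : (ξ (k x))⁻¹ * (ξ h)⁻¹ * ξ (k (h • x)) = 1 := h5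
  calc ξ (k (h • x)) = (ξ h * ξ (k x)) * ((ξ (k x))⁻¹ * (ξ h)⁻¹ * ξ (k (h • x))) := by
        simp [mul_comm, mul_left_comm, mul_assoc]
    _ = ξ h * ξ (k x) := by rw [h6, mul_one]

/-- A function constant on the orbits of a `p`-group has trivial product outside the fixed points, when its
values have exponent `p`. -/
lemma prod_nonfixed {K : Type*} [Group K] {I : Type*} [Fintype I] [DecidableEq I] [MulAction K I] {A : Type*}
    [CommGroup A] {p : ℕ} [hp : Fact p.Prime] (hK : IsPGroup p K) (hA : ∀ a : A, a ^ p = 1) (w : I → A)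
    (hw : ∀ (k : K) (i : I), w (k • i) = w i) (J : Finset I) (hJ : ∀ i, i ∈ J ↔ ∀ k : K, k • i = i) :
    ∏ i ∈ Jᶜ, w i = 1 := by
  classical
  rw [Finset.prod_partition (orbitRel K I)]
  refine Finset.prod_eq_one (fun q hq => ?_)
  obtain ⟨i, hi, rfl⟩ := Finset.mem_image.1 hq
  have hiJ : i ∉ J := by simpa using hi
  have h1 : ∀ y ∈ Finset.filter (fun y => Quotient.mk (orbitRel K I) y = Quotient.mk (orbitRel K I) i) Jᶜ,
      w y = w i := by
    intro y hy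
    obtain ⟨-, h2⟩ := Finset.mem_filter.1 hy
    obtain ⟨k, rfl⟩ : (orbitRel K I) y i := Quotient.exact h2
    exact hw k i
  rw [Finset.prod_congr rfl h1, Finset.prod_const]
  -- the cardinality
  have h2 : ((Finset.filter (fun y => Quotient.mk (orbitRel K I) y = Quotient.mk (orbitRel K I) i) Jᶜ : Finset I) :
      Set I) = orbit K i := by
    ext y
    simp only [Finset.coe_filter, Finset.mem_compl, Set.mem_ofPred_eq]
    constructor
    · rintro ⟨-, h⟩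
      exact Quotient.exact h
    · intro hy
      refine ⟨fun hyJ => hiJ ?_, Quotient.sound hy⟩
      obtain ⟨k, rfl⟩ := hy
      rw [hJ] at hyJ ⊢
      intro k'
      have h3 := hyJ (k * k' * k⁻¹)
      show _ = _
      have h4 : (k * k' * k⁻¹) • (fun x => k • x) i = _ := h3
      simp only [mul_smul, inv_smul_smul] at h4
      exact smul_left_cancel k h4
  obtain ⟨n, hn⟩ := hK.card_orbit i
  have h3 : (Finset.filter (fun y => Quotient.mk (orbitRel K I) y = Quotient.mk (orbitRel K I) i) Jᶜ).card = p ^ n := by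
    rw [← hn, ← Nat.card_eq_finsetCard]
    exact Nat.card_congr (Equiv.setCongr h2)
  have hn0 : n ≠ 0 := by
    rintro rfl
    apply hiJ
    rw [hJ]
    intro k
    rw [pow_zero, Nat.card_eq_one_iff_unique] at hn
    haveI := hn.1
    have : (⟨k • i, mem_orbit i k⟩ : orbit K i) = ⟨i, mem_orbit_self i⟩ := Subsingleton.elim _ _
    exact congrArg Subtype.val this
  rw [h3]
  obtain ⟨m, rfl⟩ : ∃ m, n = m + 1 := ⟨n - 1, by omega⟩
  rw [pow_succ, pow_mul, ← pow_mul, mul_comm, pow_mul, hA, one_pow]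

section Key

variable {Ω : Type u} [Group Ω] {S : Subgroup Ω} {F : FusionSystem S}
variable [Finite S] {p : ℕ} [hp : Fact p.Prime] {X : Type u} [Finite X] [MulAction (Gam S) X]

lemma GX_smul_one (c : GX S X) (a : ↥S) (y : X) :
    c.1 (((1, a) : Gam S) • y) = ((1, a) : Gam S) • c.1 y := by
  have := c.2 y a⁻¹
  simpa only [rm, inv_inv] using this

lemma GX_smul_of_comm (c : GX S X) {r : ↥S} (hc : c * LL S X r = LL S X r * c) (a : ↥S) (x : X) :
    c.1 (((r, a) : Gam S) • x) = ((r, a) : Gam S) • c.1 x := by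
  have h1 : ((r, a) : Gam S) = ((r, 1) : Gam S) * ((1, a) : Gam S) := by simp
  have h2 : ∀ y, c.1 (((r, 1) : Gam S) • y) = ((r, 1) : Gam S) • c.1 y := fun y =>
    congrArg (fun g : GX S X => g.1 y) hc
  rw [h1, mul_smul, h2, GX_smul_one, mul_smul]

/-- The action of `S × C` on `X`, for `C` a subgroup of the automorphisms of the right action. -/
@[instance_reducible] def rAct (C : Subgroup (GX S X)) : MulAction (↥S × ↥C) X where
  smul h x := (h.2 : GX S X).1 (((1, h.1) : Gam S) • x)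
  one_smul x := by
    show ((1 : ↥C) : GX S X).1 (((1, (1 : ↥S)) : Gam S) • x) = x
    have e : ((1, (1 : ↥S)) : Gam S) = 1 := rfl
    rw [e, one_smul]
    rfl
  mul_smul a b x := by
    show ((a.2 * b.2 : ↥C) : GX S X).1 (((1, a.1 * b.1) : Gam S) • x) =
      (a.2 : GX S X).1 (((1, a.1) : Gam S) • (b.2 : GX S X).1 (((1, b.1) : Gam S) • x))
    rw [← GX_smul_one, smul_smul]
    simp only [Prod.mk_mul_mk, mul_one]
    have e : ((a.2 * b.2 : ↥C) : GX S X) = (a.2 : GX S X) * (b.2 : GX S X) := rfl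
    rw [e]
    show (a.2 : GX S X).1 ((b.2 : GX S X).1 _) = _
    rw [GX_smul_one (b.2 : GX S X)]


lemma mk_smul_rm (r b : ↥S) (x : X) :
    Quotient.mk (rset (S := S) X) (((r, b) : Gam S) • x) = Quotient.mk (rset (S := S) X) (((r, 1) : Gam S) • x) := by
  have h1 : ((r, b) : Gam S) • x = rm (((r, 1) : Gam S) • x) b⁻¹ := by
    simp [rm, smul_smul]
  rw [h1, mk_rm]

/-- The fixed-point part of the key computation. -/
lemma prod_fixed_eq_one [Fintype (OrbI (S := S) X)] [DecidableEq (OrbI (S := S) X)]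
    (hX : ∀ x : X, stabilizer (Gam S) x ∈ GG F) (l : ↥S →* Multiplicative (ZMod p))
    {Q : Subgroup Ω} (hQS : Q ≤ S) (g : GX S X) (hg : ∀ r : ↥S, (r : Ω) ∈ Q → g * LL S X r = LL S X r * g)
    (hC : ∀ ψ, Maps F Q ψ → ∀ z : ↥S, (∀ r ∈ Q, ψ r * z = z * ψ r) → l z = 1)
    (J : Finset (OrbI (S := S) X)) (hJ : ∀ i, i ∈ J ↔ ∀ r : ↥S, (r : Ω) ∈ Q → bar (LL S X r) i = i) :
    ∏ i ∈ J, l (cc g i) = 1 := by
  classical
  let Z : Subgroup (GX S X) := Subgroup.zpowers g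
  letI := rAct (S := S) (X := X) Z
  have hsm : ∀ (h : ↥S × ↥Z) (x : X), h • x = (h.2 : GX S X).1 (((1, h.1) : Gam S) • x) := fun _ _ => rfl
  have hZ : ∀ c : ↥Z, ∀ r : ↥S, (r : Ω) ∈ Q → (c : GX S X) * LL S X r = LL S X r * c := by
    rintro ⟨c, hc⟩ r hr
    obtain ⟨n, rfl⟩ := Subgroup.mem_zpowers_iff.1 hc
    exact (Commute.zpow_left (show Commute g (LL S X r) from hg r hr) n).eq
  let Y : Set X := {x | ∀ r : ↥S, (r : Ω) ∈ Q →
    Quotient.mk (rset (S := S) X) (((r, 1) : Gam S) • x) = Quotient.mk (rset (S := S) X) x}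
  have hYs : ∀ (h : ↥S × ↥Z) (x : X), x ∈ Y → h • x ∈ Y := by
    rintro ⟨b, c⟩ x hx r hr
    rw [hsm]
    show Quotient.mk (rset (S := S) X) (((r, 1) : Gam S) • (c : GX S X).1 (((1, b) : Gam S) • x)) = _
    rw [← GX_smul_of_comm _ (hZ c r hr), ← bar_mk, ← bar_mk]
    congr 1
    have h1 : ((r, 1) : Gam S) • ((1, b) : Gam S) • x = ((r, b) : Gam S) • x := by
      rw [smul_smul]; simp
    rw [h1, mk_smul_rm, hx r hr]
    have h2 : ((1, b) : Gam S) • x = rm x b⁻¹ := by simp [rm]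
    rw [h2, mk_rm]
  let ξ : ↥S × ↥Z →* Multiplicative (ZMod p) := (l.comp (MonoidHom.fst _ _))⁻¹
  have hξ : ∀ h : ↥S × ↥Z, ξ h = (l h.1)⁻¹ := fun _ => rfl
  obtain ⟨ℓ, hℓ⟩ := exists_potential_on (H := ↥S × ↥Z) (X := X) ξ Y hYs (by
    rintro x hx ⟨b, c⟩ hh
    rw [hξ]
    suffices l b = 1 by simp [this]
    have hh' : (c : GX S X).1 (((1, b) : Gam S) • x) = x := hh
    obtain ⟨P, f, hgr⟩ := hX x
    -- the stabilizer map
    have hst : ∀ r : ↥S, (r : Ω) ∈ Q → (r : Ω) ∈ P ∧ ∃ fr : ↥S, (fr : Ω) = f r ∧ ((r, fr) : Gam S) • x = x := by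
      intro r hr
      obtain ⟨a, ha⟩ : (rset (S := S) X) (((r, 1) : Gam S) • x) x := Quotient.exact (hx r hr)
      have h1 : ((r, a⁻¹) : Gam S) • x = x := by
        have : rm (((r, 1) : Gam S) • x) a = ((r, a⁻¹) : Gam S) • x := by
          simp [rm, smul_smul]
        rw [← this]
        exact ha
      obtain ⟨h2, h3⟩ := (hgr.mem _ _).1 (mem_stabilizer_iff.2 h1)
      exact ⟨h2, a⁻¹, h3, h1⟩
    have hQP : Q ≤ P := fun r hr => (hst ⟨r, hQS hr⟩ hr).1
    refine hC f (hgr.maps.restrict hQP) b (fun r hr => ?_)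
    obtain ⟨-, fr, h1, h2⟩ := hst ⟨r, hQS hr⟩ hr
    have h3 : ((⟨r, hQS hr⟩, fr * b) : Gam S) • x = ((1, b) : Gam S) • x := by
      apply (c : GX S X).1.injective
      have e1 : ((⟨r, hQS hr⟩, fr * b) : Gam S) • x = ((⟨r, hQS hr⟩, fr) : Gam S) • ((1, b) : Gam S) • x := by
        rw [smul_smul]
        simp
      rw [hh', e1, GX_smul_of_comm _ (hZ c ⟨r, hQS hr⟩ hr), hh', h2]
    have h4 : ((⟨r, hQS hr⟩, b⁻¹ * fr * b) : Gam S) • x = x := by
      have e1 : ((⟨r, hQS hr⟩, b⁻¹ * fr * b) : Gam S) = ((1, b⁻¹) : Gam S) * ((⟨r, hQS hr⟩, fr * b) : Gam S) := by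
        simp [mul_assoc]
      rw [e1, mul_smul, h3, smul_smul]
      simp only [Prod.mk_mul_mk, mul_one, inv_mul_cancel]
      exact one_smul _ _
    have h5 := ((hgr.mem _ _).1 (mem_stabilizer_iff.2 h4)).2
    have h6 : b⁻¹ * fr * b = fr := Subtype.ext (h5.trans h1.symm)
    have h7 : fr * b = b * fr := by
      calc fr * b = b * (b⁻¹ * fr * b) := by group
        _ = b * fr := by rw [h6]
    have h8 := congrArg (Subtype.val) h7
    simpa only [Subgroup.coe_mul, h1] using h8)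
  have hY1 : ∀ x ∈ Y, ℓ (g.1 x) = ℓ x := by
    intro x hx
    have := hℓ (1, ⟨g, Subgroup.mem_zpowers g⟩) x hx
    rw [hsm, hξ] at this
    have e : ((1, (1 : ↥S)) : Gam S) = 1 := rfl
    simpa [e] using this
  have hY2 : ∀ x ∈ Y, ∀ a : ↥S, ℓ (rm x a) = l a * ℓ x := by
    intro x hx a
    have := hℓ (a⁻¹, 1) x hx
    rw [hsm, hξ] at this
    simpa [rm] using this
  have hsigY : ∀ i ∈ J, sig i ∈ Y := by
    intro i hi r hr
    have := (hJ i).1 hi r hr
    rw [mk_sig]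
    rw [← mk_sig i, bar_mk] at this
    rw [mk_sig] at this
    exact this
  have hbar1 : ∀ i, bar (1 : GX S X) i = i := by
    intro i
    induction i using Quotient.inductionOn with
    | h x => rfl
  have hJbar : ∀ c : GX S X, (∀ r : ↥S, (r : Ω) ∈ Q → c * LL S X r = LL S X r * c) → ∀ i ∈ J, bar c i ∈ J := by
    intro c hc i hi
    refine (hJ _).2 (fun r hr => ?_)
    rw [← bar_mul, ← hc r hr, bar_mul, (hJ i).1 hi r hr]
  have hJg : ∀ i, i ∈ J ↔ bar g i ∈ J := by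
    intro i
    refine ⟨hJbar g hg i, fun h => ?_⟩
    have h1 := hJbar g⁻¹ (fun r hr => ((show Commute g (LL S X r) from hg r hr).inv_left).eq) _ h
    rwa [← bar_mul, inv_mul_cancel, hbar1] at h1
  have key : ∀ i ∈ J, l (cc g i) = ℓ (sig i) * (ℓ (sig (bar g i)))⁻¹ := by
    intro i hi
    have h1 := g_sig g i
    have h2 := hY1 _ (hsigY i hi)
    rw [h1, hY2 _ (hsigY _ ((hJg i).1 hi))] at h2
    rw [← h2]
    simp
  rw [Finset.prod_congr rfl key, Finset.prod_mul_distrib, Finset.prod_inv_distrib,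
    Finset.prod_equiv (bar g) (t := J) (g := fun i => ℓ (sig i)) hJg (fun _ _ => rfl)]
  simp

/-- **The key computation**: an automorphism of the right action commuting with the left action of `Q` is
killed by the transfer when the elements of `S` centralizing a conjugate of `Q` are. -/
theorem DD_eq_one_of_comm (hS : IsPGroup p S) (hX : ∀ x : X, stabilizer (Gam S) x ∈ GG F)
    (l : ↥S →* Multiplicative (ZMod p)) (hl : ∀ a b, FRel F a b → l a = l b)
    {Q : Subgroup Ω} (hQS : Q ≤ S) (hQl : ∀ r : ↥S, (r : Ω) ∈ Q → l r = 1)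
    (g : GX S X) (hg : ∀ r : ↥S, (r : Ω) ∈ Q → g * LL S X r = LL S X r * g)
    (hC : ∀ ψ, Maps F Q ψ → ∀ z : ↥S, (∀ r ∈ Q, ψ r * z = z * ψ r) → l z = 1) :
    DD hX l g = 1 := by
  classical
  haveI : Fintype (OrbI (S := S) X) := Fintype.ofFinite _
  let J : Finset (OrbI (S := S) X) := Finset.univ.filter (fun i => ∀ r : ↥S, (r : Ω) ∈ Q → bar (LL S X r) i = i)
  have hJ : ∀ i, i ∈ J ↔ ∀ r : ↥S, (r : Ω) ∈ Q → bar (LL S X r) i = i := fun i => by simp [J]
  rw [DD_apply, ← Finset.prod_mul_prod_compl J, prod_fixed_eq_one hX l hQS g hg hC J hJ, one_mul]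
  -- the complement
  let C : Subgroup ↥S := Q.subgroupOf S
  let ι : ↥C × ↥S →* Gam S := MonoidHom.prodMap C.subtype (MonoidHom.id ↥S)
  letI : MulAction (↥C × ↥S) X := MulAction.compHom X ι
  let ξ : ↥C × ↥S →* Multiplicative (ZMod p) := (l.comp (MonoidHom.snd _ _))⁻¹
  have hξ : ∀ h : ↥C × ↥S, ξ h = (l h.2)⁻¹ := fun _ => rfl
  obtain ⟨ℓ, hℓ⟩ := FusionTransfer.exists_potential (H := ↥C × ↥S) (X := X) ξ (by
    rintro x ⟨r, b⟩ hh
    have h1 := hl _ _ (stab_maps hX x r.1 b hh)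
    rw [hξ]
    show (l b)⁻¹ = 1
    rw [← h1, hQl r.1 r.2, inv_one])
  have hℓ1 : ∀ (x : X) (a : ↥S), ℓ (rm x a) = l a * ℓ x := by
    intro x a
    have := hℓ (1, a⁻¹) x
    rw [hξ] at this
    have e : ((1, a⁻¹) : ↥C × ↥S) • x = rm x a := rfl
    rw [e] at this
    simpa using this
  have hℓ2 : ∀ (r : ↥S), (r : Ω) ∈ Q → ∀ x : X, ℓ (((r, 1) : Gam S) • x) = ℓ x := by
    intro r hr x
    have := hℓ (⟨r, hr⟩, 1) x
    rw [hξ] at this
    have e : ((⟨r, hr⟩, 1) : ↥C × ↥S) • x = ((r, 1) : Gam S) • x := rfl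
    rw [e] at this
    simpa using this
  let u : X → Multiplicative (ZMod p) := fun x => ℓ (g.1 x) * (ℓ x)⁻¹
  have hu1 : ∀ (x : X) (a : ↥S), u (rm x a) = u x := by
    intro x a
    show ℓ (g.1 (rm x a)) * (ℓ (rm x a))⁻¹ = ℓ (g.1 x) * (ℓ x)⁻¹
    rw [g.2, hℓ1, hℓ1, mul_inv, mul_mul_mul_comm, mul_inv_cancel, one_mul]
  have hu2 : ∀ (r : ↥S), (r : Ω) ∈ Q → ∀ x : X, u (((r, 1) : Gam S) • x) = u x := by
    intro r hr x
    show ℓ (g.1 (((r, 1) : Gam S) • x)) * (ℓ (((r, 1) : Gam S) • x))⁻¹ = ℓ (g.1 x) * (ℓ x)⁻¹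
    rw [GX_smul_of_comm g (hg r hr), hℓ2 r hr, hℓ2 r hr]
  let w : OrbI (S := S) X → Multiplicative (ZMod p) := fun i => u (sig i)
  have hw1 : ∀ x : X, w (Quotient.mk _ x) = u x := by
    intro x
    have := hu1 (sig (Quotient.mk (rset (S := S) X) x)) (qq x)
    rw [qq_spec] at this
    exact this.symm
  letI act2 := orbAct (S := S) (X := X)
  letI : MulAction ↥C (OrbI (S := S) X) := MulAction.compHom _ C.subtype
  have hsm : ∀ (k : ↥C) (i : OrbI (S := S) X), k • i = bar (LL S X (k : ↥S)) i := fun _ _ => rfl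
  have hw2 : ∀ (k : ↥C) (i : OrbI (S := S) X), w (k • i) = w i := by
    intro k i
    have h1 := hw1 ((((k : ↥S), 1) : Gam S) • sig i)
    have h2 : Quotient.mk (rset (S := S) X) ((((k : ↥S), 1) : Gam S) • sig i) = k • i := by
      rw [hsm]
      conv_rhs => rw [← mk_sig i]
      rfl
    rw [h2] at h1
    rw [h1, hu2 _ k.2]
  have hJ' : ∀ i, i ∈ J ↔ ∀ k : ↥C, k • i = i := by
    intro i
    rw [hJ]
    exact ⟨fun h k => h k.1 k.2, fun h r hr => h ⟨r, hr⟩⟩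
  have hnf := prod_nonfixed (K := ↥C) (p := p) (hS.to_subgroup C) exp_p w hw2 J hJ'
  have hJc : ∀ i, i ∈ Jᶜ ↔ bar g i ∈ Jᶜ := by
    have hbar1 : ∀ i, bar (1 : GX S X) i = i := by
      intro i
      induction i using Quotient.inductionOn with
      | h x => rfl
    have hJbar : ∀ c : GX S X, (∀ r : ↥S, (r : Ω) ∈ Q → c * LL S X r = LL S X r * c) → ∀ i ∈ J, bar c i ∈ J := by
      intro c hc i hi
      refine (hJ _).2 (fun r hr => ?_)
      rw [← bar_mul, ← hc r hr, bar_mul, (hJ i).1 hi r hr]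
    intro i
    simp only [Finset.mem_compl, not_iff_not]
    refine ⟨hJbar g hg i, fun h => ?_⟩
    have h1 := hJbar g⁻¹ (fun r hr => ((show Commute g (LL S X r) from hg r hr).inv_left).eq) _ h
    rwa [← bar_mul, inv_mul_cancel, hbar1] at h1
  have key : ∀ i, l (cc g i) = w i * ℓ (sig i) * (ℓ (sig (bar g i)))⁻¹ := by
    intro i
    have h1 := g_sig g i
    have h2 : ℓ (g.1 (sig i)) = l (cc g i) * ℓ (sig (bar g i)) := by
      rw [h1, hℓ1]
    show l (cc g i) = ℓ (g.1 (sig i)) * (ℓ (sig i))⁻¹ * ℓ (sig i) * (ℓ (sig (bar g i)))⁻¹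
    rw [h2]
    group
  rw [Finset.prod_congr rfl (fun i _ => key i), Finset.prod_mul_distrib, Finset.prod_mul_distrib,
    Finset.prod_inv_distrib, hnf,
    Finset.prod_equiv (bar g) (t := Jᶜ) (g := fun i => ℓ (sig i)) hJc (fun _ _ => rfl)]
  simp

end Key


section GroupLemma

lemma rel_mul_card {G : Type*} [Group G] {X Y : Subgroup G} (h : X ≤ Y) :
    X.relIndex Y * Nat.card X = Nat.card Y := by
  rw [Subgroup.relIndex, ← Nat.card_congr (Subgroup.subgroupOfEquivOfLe h).toEquiv, Subgroup.index_mul_card]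

/-- The relative index in a normal subgroup divides the index. -/
lemma relIndex_dvd_index_of_normal' {G : Type*} [Group G] [Finite G] (H K : Subgroup G) [K.Normal] :
    H.relIndex K ∣ H.index := by
  have hL : H ≤ H ⊔ K := le_sup_left
  have e1 := rel_mul_card hL
  have e2 := rel_mul_card (le_sup_right : K ≤ H ⊔ K)
  have e3 := rel_mul_card (inf_le_right : H ⊓ K ≤ K)
  have e4 := rel_mul_card (inf_le_left : H ⊓ K ≤ H)
  rw [Subgroup.relIndex_sup_right] at e2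
  rw [Subgroup.inf_relIndex_right] at e3
  rw [Subgroup.inf_relIndex_left] at e4
  have e5 : H.relIndex (H ⊔ K) = H.relIndex K := by
    have hpos : 0 < Nat.card H := Nat.card_pos
    apply Nat.eq_of_mul_eq_mul_right hpos
    rw [e1, ← e2, ← e3, ← e4]
    ring
  rw [← e5]
  exact Subgroup.relIndex_dvd_index_of_le hL

/-- A subgroup of index prime to `p` cuts a normal subgroup in a subgroup of index prime to `p`. -/
lemma not_dvd_index_of_normal {G : Type*} [Group G] [Finite G] {p : ℕ} {A B H : Subgroup G} (hBA : B ≤ A)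
    (hN : ∀ a ∈ A, ∀ b ∈ B, a * b * a⁻¹ ∈ B) (hp : ¬ p ∣ (H.subgroupOf A).index) :
    ¬ p ∣ ((H ⊓ B).subgroupOf B).index := by
  intro hd
  apply hp
  refine dvd_trans hd ?_
  have e1 : ((H ⊓ B).subgroupOf B).index = H.relIndex B := Subgroup.inf_relIndex_right H B
  rw [e1]
  haveI : (B.subgroupOf A).Normal := by
    refine ⟨fun b hb a => ?_⟩
    rw [Subgroup.mem_subgroupOf] at hb ⊢
    exact hN a.1 a.2 b.1 hb
  have h1 := relIndex_dvd_index_of_normal' (H.subgroupOf A) (B.subgroupOf A)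
  have e2 : (H.subgroupOf A).relIndex (B.subgroupOf A) = H.relIndex B := by
    have := Subgroup.relIndex_subgroupOf (H := H) (K := B) (L := A) hBA
    exact this
  rwa [e2] at h1

end GroupLemma

section Sys

variable {Ω : Type u} [Group Ω] {S : Subgroup Ω} {P Q R T : Subgroup Ω} {f g : Ω → Ω}

/-- A fusion system over `T` given by a predicate on functions. -/
def ofMapsT (F : FusionSystem S) (T : Subgroup Ω) (M : Subgroup Ω → (Ω → Ω) → Prop)
    (hle : ∀ {P f}, M P f → Maps F P f) (hT : ∀ {P f}, M P f → P ≤ T ∧ ∀ x ∈ P, f x ∈ T)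
    (hcongr : ∀ {P f g}, M P f → (∀ x ∈ P, f x = g x) → M P g)
    (hconj : ∀ {P g}, P ≤ T → g ∈ T → M P (fun x => g * x * g⁻¹))
    (hcomp : ∀ {P Q f g}, M P f → M Q g → (∀ x ∈ P, f x ∈ Q) → M P (g ∘ f))
    (hinv : ∀ {P f}, M P f → ∃ g, M (img f P) g ∧ ∀ x ∈ P, g (f x) = x) : FusionSystem T where
  Hom P := {φ | M P (fn φ)}
  le_of_mem := by
    intro P φ h
    obtain ⟨h1, h2⟩ := hT h
    exact ⟨h1, fun x => by rw [← fn_coe]; exact h2 x x.2⟩
  injective_of_mem := by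
    intro P φ h
    exact F.injective_of_mem ((hle h).mem_hom (fun x => (fn_coe φ x).symm))
  conj_mem := by
    intro P g hP hg
    refine hcongr (hconj hP hg) (fun x hx => ?_)
    rw [fn_of_mem _ hx]
    rfl
  comp_mem := by
    intro P Q φ ψ hφ hψ h
    refine hcongr (hcomp hφ hψ (fun x hx => ?_)) (fun x hx => ?_)
    · rw [fn_of_mem _ hx]
      exact h ⟨x, hx⟩
    · rw [fn_of_mem _ hx]
      show fn ψ (fn φ x) = ψ (φ.codRestrict Q h ⟨x, hx⟩)
      rw [fn_of_mem φ hx, fn_of_mem ψ (h ⟨x, hx⟩)]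
      rfl
  inv_mem := by
    intro P φ hφ
    obtain ⟨g, hg, hgf⟩ := hinv hφ
    have e : img (fn φ) P = φ.range := img_eq_range φ (fun x => (fn_coe φ x).symm)
    rw [e] at hg
    have hm := hle hg
    refine ⟨hm.hom, hcongr hg (fun y hy => ?_), fun x => ?_⟩
    · rw [fn_of_mem _ hy, hm.hom_apply]
    · rw [hm.hom_apply]
      have := hgf x x.2
      rwa [fn_coe] at this

lemma maps_ofMapsT {F : FusionSystem S} {T : Subgroup Ω} {M : Subgroup Ω → (Ω → Ω) → Prop}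
    {hle : ∀ {P f}, M P f → Maps F P f} {hT : ∀ {P f}, M P f → P ≤ T ∧ ∀ x ∈ P, f x ∈ T}
    {hcongr : ∀ {P f g}, M P f → (∀ x ∈ P, f x = g x) → M P g}
    {hconj : ∀ {P g}, P ≤ T → g ∈ T → M P (fun x => g * x * g⁻¹)}
    {hcomp : ∀ {P Q f g}, M P f → M Q g → (∀ x ∈ P, f x ∈ Q) → M P (g ∘ f)}
    {hinv : ∀ {P f}, M P f → ∃ g, M (img f P) g ∧ ∀ x ∈ P, g (f x) = x} :
    Maps (ofMapsT F T M hle hT hcongr hconj hcomp hinv) P f ↔ M P f := by
  constructor
  · rintro ⟨φ, hφ, h⟩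
    exact hcongr hφ (fun x hx => by rw [fn_of_mem _ hx]; exact h ⟨x, hx⟩)
  · intro h
    have hm := hle h
    refine ⟨hm.hom, hcongr h (fun x hx => ?_), fun x => hm.hom_apply x⟩
    rw [fn_of_mem _ hx, hm.hom_apply]

end Sys

section Model

variable {Ω : Type u} [Group Ω] {S : Subgroup Ω} {F : FusionSystem S}
variable {P Q R T : Subgroup Ω} {f f' : Ω → Ω}
variable {X : Type u} [MulAction (Gam S) X]

/-- `g` transports the left action of `P` through `f`. -/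
def Cj (g : GX S X) (P : Subgroup Ω) (f : Ω → Ω) : Prop :=
  ∀ u v : ↥S, (u : Ω) ∈ P → (v : Ω) = f u → g * LL S X u = LL S X v * g

lemma Cj.congr {g : GX S X} (h : Cj g P f) (hfg : ∀ x ∈ P, f x = f' x) : Cj g P f' :=
  fun u v hu hv => h u v hu (hv.trans (hfg u hu).symm)

lemma Cj.restrict {g : GX S X} (h : Cj g P f) (hR : R ≤ P) : Cj g R f :=
  fun u v hu hv => h u v (hR hu) hv

lemma Cj.comp {g₁ g₂ : GX S X} (h₁ : Cj g₁ P f) (h₂ : Cj g₂ Q f') (hPQ : ∀ x ∈ P, f x ∈ Q) (hfS : ∀ x ∈ P, f x ∈ S) :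
    Cj (g₂ * g₁) P (f' ∘ f) := by
  intro u v hu hv
  have h1 := h₁ u ⟨f u, hfS u hu⟩ hu rfl
  have h2 := h₂ ⟨f u, hfS u hu⟩ v (hPQ u hu) hv
  rw [mul_assoc, h1, ← mul_assoc, h2, mul_assoc]

lemma Cj.inv {g : GX S X} (h : Cj g P f) (hf : Maps F P f) (h1 : ∀ x ∈ P, f' (f x) = x) :
    Cj g⁻¹ (img f P) f' := by
  intro u v hu hv
  obtain ⟨x, hx, hxu⟩ := hf.mem_img.1 hu
  have hvx : (v : Ω) = x := by rw [hv, ← hxu, h1 x hx]
  have h2 := h v u (hvx ▸ hx) (by rw [hvx, hxu])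
  rw [inv_mul_eq_iff_eq_mul, ← mul_assoc, h2, mul_assoc, mul_inv_cancel, mul_one]

lemma Cj.ofLL (a : ↥S) : Cj (LL S X a) P (fun x => a * x * (a : Ω)⁻¹) := by
  intro u v hu hv
  have : v = a * u * a⁻¹ := Subtype.ext hv
  rw [this, ← map_mul, ← map_mul]
  congr 1
  group

lemma exists_Cj [Finite S] [Finite X] (hX : ∀ x : X, stabilizer (Gam S) x ∈ GG F)
    (hm : ∀ V ∈ GG F, ∀ V' ∈ GG F, rr F V V' → mark X V = mark X V') (hf : Maps F P f) :
    ∃ g : GX S X, Cj g P f := by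
  obtain ⟨g, hg⟩ := exists_conj_of_marks hX hm hf
  refine ⟨g, fun u v hu hv => ?_⟩
  have e : v = ⟨f u, hf.mem hu⟩ := Subtype.ext hv
  subst e
  apply Subtype.ext
  ext x
  exact hg u hu x

variable [Finite S] {p : ℕ} [hp : Fact p.Prime] [Finite X]

/-- The data of the subsystem attached to a stable character. -/
structure Dat (hX : ∀ x : X, stabilizer (Gam S) x ∈ GG F) (l : ↥S →* Multiplicative (ZMod p)) (T : Subgroup Ω) : Prop where
  hl : ∀ a b, FRel F a b → l a = l b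
  hTS : T ≤ S
  hT : ∀ a : ↥S, (a : Ω) ∈ T ↔ l a = 1

/-- The maps of the subsystem attached to a stable character. -/
def EM (hX : ∀ x : X, stabilizer (Gam S) x ∈ GG F) (l : ↥S →* Multiplicative (ZMod p)) (T P : Subgroup Ω) (f : Ω → Ω) : Prop :=
  P ≤ T ∧ Maps F P f ∧ (∀ x ∈ P, f x ∈ T) ∧ ∃ g : GX S X, DD hX l g = 1 ∧ Cj g P f

variable {hX : ∀ x : X, stabilizer (Gam S) x ∈ GG F} {l : ↥S →* Multiplicative (ZMod p)}

lemma Dat.DD_LL (d : Dat hX l T) (a : ↥S) : DD hX l (LL S X a) = l a ^ Nat.card (OrbI (S := S) X) :=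
  tr_eq_pow_of_stable hX l d.hl a

lemma Dat.mem_T (d : Dat hX l T) (hf : Maps F P f) {x : Ω} (hx : x ∈ P) (hxT : x ∈ T) : f x ∈ T := by
  have h1 : FRel F ⟨x, hf.le hx⟩ ⟨f x, hf.mem hx⟩ := ⟨P, f, hf, hx, rfl⟩
  have h2 := d.hl _ _ h1
  refine (d.hT ⟨f x, hf.mem hx⟩).2 ?_
  rw [← h2]
  exact (d.hT _).1 hxT

lemma Dat.maps_T (d : Dat hX l T) (hf : Maps F P f) (hP : P ≤ T) : ∀ x ∈ P, f x ∈ T :=
  fun _ hx => d.mem_T hf hx (hP hx)

/-- The subsystem attached to a stable character. -/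
def oSys (d : Dat hX l T) : FusionSystem T :=
  ofMapsT F T (EM hX l T) (fun h => h.2.1) (fun h => ⟨h.1, h.2.2.1⟩)
    (by
      rintro P f f' ⟨h1, h2, h3, g, hg, hg'⟩ hc
      exact ⟨h1, h2.congr hc, fun x hx => hc x hx ▸ h3 x hx, g, hg, hg'.congr hc⟩)
    (by
      intro P a hP ha
      have haS := d.hTS ha
      refine ⟨hP, Maps.conj (hP.trans d.hTS) haS, fun x hx => T.mul_mem (T.mul_mem ha (hP hx)) (T.inv_mem ha),
        LL S X ⟨a, haS⟩, ?_, Cj.ofLL _⟩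
      rw [d.DD_LL, (d.hT _).1 ha, one_pow])
    (by
      rintro P Q f f' ⟨h1, h2, -, g, hg, hg'⟩ ⟨-, h4, h5, g₂, hg₂, hg₂'⟩ hc
      refine ⟨h1, h2.comp h4 hc, fun x hx => h5 _ (hc x hx), g₂ * g, ?_, hg'.comp hg₂' hc (fun x hx => h2.mem hx)⟩
      rw [map_mul, hg, hg₂, one_mul])
    (by
      rintro P f ⟨h1, h2, h3, g, hg, hg'⟩
      obtain ⟨f', hf', h4, h5⟩ := h2.inv
      refine ⟨f', ⟨?_, hf', fun y hy => h1 (h5 y hy).1, g⁻¹, ?_, hg'.inv h2 h4⟩, h4⟩
      · intro y hy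
        obtain ⟨x, hx, rfl⟩ := h2.mem_img.1 hy
        exact h3 x hx
      · rw [map_inv, hg, inv_one])

lemma maps_oSys (d : Dat hX l T) : Maps (oSys d) P f ↔ EM hX l T P f := by
  constructor
  · rintro ⟨φ, hφ, h⟩
    obtain ⟨h1, h2, h3, g, hg, hg'⟩ : EM hX l T P (fn φ) := hφ
    have hc : ∀ x ∈ P, fn φ x = f x := fun x hx => by rw [fn_of_mem _ hx]; exact h ⟨x, hx⟩
    exact ⟨h1, h2.congr hc, fun x hx => hc x hx ▸ h3 x hx, g, hg, hg'.congr hc⟩
  · intro h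
    have hm := h.2.1
    refine ⟨hm.hom, ?_, fun x => hm.hom_apply x⟩
    have hc : ∀ x ∈ P, f x = fn hm.hom x := fun x hx => by rw [fn_of_mem _ hx, hm.hom_apply]
    obtain ⟨h1, h2, h3, g, hg, hg'⟩ := h
    exact (show EM hX l T P (fn hm.hom) from ⟨h1, h2.congr hc, fun x hx => hc x hx ▸ h3 x hx, g, hg, hg'.congr hc⟩)

/-- `Multiplicative (ZMod p)` is a `p`-group. -/
lemma isPGroup_mult : IsPGroup p (Multiplicative (ZMod p)) := fun x => ⟨1, by rw [pow_one]; exact exp_p x⟩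

/-- A transfer value can be prescribed through a power of an element outside the kernel. -/
lemma Dat.exists_LL_eq (d : Dat hX l T) (hn : ¬ p ∣ Nat.card (OrbI (S := S) X)) {z : ↥S} (hz : l z ≠ 1)
    (c : Multiplicative (ZMod p)) : ∃ j : ℕ, DD hX l (LL S X (z ^ j)) = c := by
  have h1 : (l z) ^ Nat.card (OrbI (S := S) X) ≠ 1 := by
    intro h
    apply hz
    refine eq_of_pow_eq isPGroup_mult hn (h.trans ?_)
    rw [one_pow]
  obtain ⟨j, hj⟩ := exists_pow_eq h1 c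
  refine ⟨j, ?_⟩
  rw [d.DD_LL, map_pow, pow_right_comm]
  exact hj

/-- The key computation at a fully normalized subgroup. -/
theorem Dat.exists_C_of_ne (d : Dat hX l T) (hS : IsPGroup p S) (hF : F.IsSaturated p) (hQT : Q ≤ T)
    (hQ : F.IsFullyNormalized Q) (g : GX S X) (hg : ∀ r : ↥S, (r : Ω) ∈ Q → g * LL S X r = LL S X r * g)
    (hne : DD hX l g ≠ 1) : ∃ z : ↥S, (∀ r ∈ Q, r * (z : Ω) = z * r) ∧ l z ≠ 1 := by
  by_contra hcon
  push Not at hcon
  apply hne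
  have hR := receptive_of_fullyCentralized hS hF (of_fullyNormalized hS hF hQ).1
  refine DD_eq_one_of_comm hS hX l d.hl hQ.1 (fun r hr => (d.hT r).1 (hQT hr)) g hg (fun ψ hψ z hz => ?_)
  obtain ⟨ψ', hψ', h1, h2⟩ := hψ.inv
  have himg : img ψ' (img ψ Q) = Q := hψ.img_inv hψ' h1
  obtain ⟨k, hk, hk1⟩ := IsReceptive.ext hR hψ' himg
  have hzC : (z : Ω) ∈ centralizerIn S (img ψ Q) := by
    refine mem_centralizerIn.2 ⟨z.2, fun y hy => ?_⟩
    obtain ⟨x, hx, rfl⟩ := hψ.mem_img.1 hy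
    exact hz x hx
  have hzN := centralizerIn_le_Nf hψ' hzC
  have hfr : FRel F z ⟨k z, hk.mem hzN⟩ := ⟨_, k, hk, hzN, rfl⟩
  rw [d.hl _ _ hfr]
  refine hcon _ (fun r hr => ?_)
  have hy := hψ.mem_img_of_mem hr
  have hyN := le_Nf hψ' hy
  have h3 := mem_centralizerIn.1 hzC
  have h4 := h3.2 _ hy
  have h5 := congrArg k h4
  rw [hk.map_mul hyN hzN, hk.map_mul hzN hyN, hk1 _ hy, h1 r hr] at h5
  exact h5

/-- Receptivity at the fully normalized subgroups. -/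
theorem Dat.receptive (d : Dat hX l T) (hS : IsPGroup p S) (hF : F.IsSaturated p)
    (hm : ∀ V ∈ GG F, ∀ V' ∈ GG F, rr F V V' → mark X V = mark X V') (hn : ¬ p ∣ Nat.card (OrbI (S := S) X))
    (hQT : Q ≤ T) (hQ : F.IsFullyNormalized Q) : (oSys d).IsReceptive Q := by
  refine isReceptive_of hQT (fun P f hf himg => ?_)
  obtain ⟨hPT, hfF, hfT, k, hk1, hk2⟩ := (maps_oSys d).1 hf
  have hR := receptive_of_fullyCentralized hS hF (of_fullyNormalized hS hF hQ).1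
  obtain ⟨f₁, hf₁, hf₁P⟩ := IsReceptive.ext hR hfF himg
  obtain ⟨g₂, hg₂⟩ := exists_Cj hX hm hf₁
  have hPN := le_Nf hfF
  have hmain : ∃ (f₃ : Ω → Ω) (g₃ : GX S X), Maps F (Nf S P f) f₃ ∧ (∀ x ∈ P, f₃ x = f x) ∧ DD hX l g₃ = 1 ∧
      Cj g₃ (Nf S P f) f₃ := by
    by_cases hc : DD hX l g₂ = 1
    · exact ⟨f₁, g₂, hf₁, hf₁P, hc, hg₂⟩
    · have hcomm : ∀ r : ↥S, (r : Ω) ∈ Q → (g₂ * k⁻¹) * LL S X r = LL S X r * (g₂ * k⁻¹) := by
        intro r hr
        rw [← himg] at hr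
        obtain ⟨u, hu, hur⟩ := hfF.mem_img.1 hr
        have h1 := hk2 ⟨u, hfF.le hu⟩ r hu hur.symm
        have h2 := hg₂ ⟨u, hfF.le hu⟩ r (hPN hu) (by rw [hf₁P u hu]; exact hur.symm)
        have h3 : k⁻¹ * LL S X r = LL S X ⟨u, hfF.le hu⟩ * k⁻¹ := by
          rw [inv_mul_eq_iff_eq_mul, ← mul_assoc, h1, mul_assoc, mul_inv_cancel, mul_one]
        rw [mul_assoc, h3, ← mul_assoc, h2, mul_assoc]
      have hne : DD hX l (g₂ * k⁻¹) ≠ 1 := by
        rw [map_mul, map_inv, hk1, inv_one, mul_one]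
        exact hc
      obtain ⟨z, hz1, hz2⟩ := d.exists_C_of_ne hS hF hQT hQ _ hcomm hne
      obtain ⟨j, hj⟩ := d.exists_LL_eq hn hz2 (DD hX l g₂)⁻¹
      have hzj : ∀ r ∈ Q, ((z ^ j : ↥S) : Ω) * r * ((z ^ j : ↥S) : Ω)⁻¹ = r := by
        intro r hr
        have hcm : Commute r (z : Ω) := hz1 r hr
        rw [Subgroup.coe_pow, (hcm.pow_right j).eq.symm]
        group
      refine ⟨fun x => ((z ^ j : ↥S) : Ω) * f₁ x * ((z ^ j : ↥S) : Ω)⁻¹, LL S X (z ^ j) * g₂,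
        hf₁.comp (Maps.conj le_rfl (z ^ j).2) (fun x hx => hf₁.mem hx), fun x hx => ?_, ?_, ?_⟩
      · have : f x ∈ Q := himg ▸ hfF.mem_img_of_mem hx
        show _ * f₁ x * _ = _
        rw [hf₁P x hx, hzj _ this]
      · rw [map_mul, hj, inv_mul_cancel]
      · exact hg₂.comp (Cj.ofLL (z ^ j)) (fun _ _ => Subgroup.mem_top _ ) (fun x hx => hf₁.mem hx)
  obtain ⟨f₃, g₃, h1, h2, h3, h4⟩ := hmain
  have hNT : Nf T P f ≤ Nf S P f := by
    intro x hx
    obtain ⟨h5, h6, h, hh, h7⟩ := mem_Nf.1 hx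
    exact mem_Nf.2 ⟨d.hTS h5, h6, h, d.hTS hh, h7⟩
  have hNTT : Nf T P f ≤ T := fun x hx => (mem_Nf.1 hx).1
  refine ⟨f₃, (maps_oSys d).2 ⟨hNTT, h1.restrict hNT, d.maps_T (h1.restrict hNT) hNTT, g₃, h3, h4.restrict hNT⟩, h2⟩

lemma Dat.autGroup_le (d : Dat hX l T) (hQT : Q ≤ T) : (oSys d).autGroup Q ≤ F.autGroup Q := by
  intro α hα
  rw [mem_autGroup_iff (hQT.trans d.hTS)]
  exact ((maps_oSys d).1 ((mem_autGroup_iff hQT).1 hα)).2.1

/-- Full automization at the fully normalized subgroups. -/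
theorem Dat.fullyAutomized (d : Dat hX l T) (hS : IsPGroup p S) (hF : F.IsSaturated p)
    (hm : ∀ V ∈ GG F, ∀ V' ∈ GG F, rr F V V' → mark X V = mark X V') (hn : ¬ p ∣ Nat.card (OrbI (S := S) X))
    (hQT : Q ≤ T) (hQ : F.IsFullyNormalized Q) : (oSys d).IsFullyAutomized p Q := by
  have hTfin : Finite T := finite_of_le d.hTS
  have hTp : IsPGroup p T := hS.to_le d.hTS
  have hQS := hQT.trans d.hTS
  rw [isFullyAutomized_iff hTp hQT]
  have hFA := (of_fullyNormalized hS hF hQ).2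
  rw [isFullyAutomized_iff hS hQS] at hFA
  haveI := finite_mulAut hQS
  have hle := d.autGroup_le hQT
  -- normality
  have hN : ∀ a ∈ F.autGroup Q, ∀ b ∈ (oSys d).autGroup Q, a * b * a⁻¹ ∈ (oSys d).autGroup Q := by
    intro a ha b hb
    rw [mem_autGroup_iff hQT, maps_oSys] at hb ⊢
    obtain ⟨-, hb1, hb2, k, hk1, hk2⟩ := hb
    have ham := (mem_autGroup_iff hQS).1 ha
    obtain ⟨g, hg⟩ := exists_Cj hX hm ham
    have hai : Cj g⁻¹ Q (afn a⁻¹) := by
      have := hg.inv ham (f' := afn a⁻¹) (fun x hx => afn_inv_afn a hx)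
      rwa [afn_img] at this
    have hab := (mem_autGroup_iff hQS).1 (Subgroup.mul_mem _ (Subgroup.mul_mem _ ha (hle ((mem_autGroup_iff hQT).2
      ((maps_oSys d).2 ⟨hQT, hb1, hb2, k, hk1, hk2⟩)))) (Subgroup.inv_mem _ ha))
    refine ⟨hQT, hab, fun x hx => hQT (afn_mem _ hx), g * k * g⁻¹, ?_, ?_⟩
    · rw [map_mul, map_mul, map_inv, hk1, mul_one, mul_inv_cancel]
    · have h1 := hai.comp hk2 (fun x hx => afn_mem _ hx) (fun x hx => hQS (afn_mem _ hx))
      have h2 := h1.comp hg (f' := afn a) (fun x hx => afn_mem b (afn_mem a⁻¹ hx))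
        (fun x hx => hQS (afn_mem b (afn_mem a⁻¹ hx)))
      rw [← mul_assoc] at h2
      refine h2.congr (fun x hx => ?_)
      rw [afn_mul _ _ hx, afn_mul _ _ (afn_mem a⁻¹ hx)]
      rfl
  -- the intersection
  have hinf : (autInducedBy S Q) ⊓ (oSys d).autGroup Q ≤ autInducedBy T Q := by
    intro α hα
    obtain ⟨hα1, hα2⟩ := Subgroup.mem_inf.1 hα
    obtain ⟨s, hs, hs1⟩ := mem_autInducedBy.1 hα1
    rw [mem_autGroup_iff hQT, maps_oSys] at hα2
    obtain ⟨-, hα3, -, k, hk1, hk2⟩ := hα2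
    by_cases hls : l ⟨s, hs⟩ = 1
    · exact mem_autInducedBy.2 ⟨s, (d.hT ⟨s, hs⟩).2 hls, hs1⟩
    · have hcomm : ∀ r : ↥S, (r : Ω) ∈ Q → ((LL S X ⟨s, hs⟩)⁻¹ * k) * LL S X r = LL S X r * ((LL S X ⟨s, hs⟩)⁻¹ * k) := by
        intro r hr
        have h1 := hk2 r ⟨afn α r, hα3.mem hr⟩ hr rfl
        have h2 : LL S X ⟨s, hs⟩ * LL S X r = LL S X ⟨afn α r, hα3.mem hr⟩ * LL S X ⟨s, hs⟩ :=
          Cj.ofLL (P := Q) ⟨s, hs⟩ r _ hr (hs1 _ hr)
        have h3 : (LL S X ⟨s, hs⟩)⁻¹ * LL S X ⟨afn α r, hα3.mem hr⟩ = LL S X r * (LL S X ⟨s, hs⟩)⁻¹ := by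
          rw [inv_mul_eq_iff_eq_mul, ← mul_assoc, h2, mul_assoc, mul_inv_cancel, mul_one]
        rw [mul_assoc, h1, ← mul_assoc, h3, mul_assoc]
      have hne : DD hX l ((LL S X ⟨s, hs⟩)⁻¹ * k) ≠ 1 := by
        rw [map_mul, map_inv, hk1, mul_one, d.DD_LL]
        intro h
        apply hls
        refine eq_of_pow_eq isPGroup_mult hn ?_
        rw [one_pow]
        exact inv_eq_one.1 h
      obtain ⟨z, hz1, hz2⟩ := d.exists_C_of_ne hS hF hQT hQ _ hcomm hne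
      obtain ⟨j, hj⟩ := exists_pow_eq hz2 (l ⟨s, hs⟩)⁻¹
      refine mem_autInducedBy.2 ⟨s * (z : Ω) ^ j, (d.hT ⟨s * (z : Ω) ^ j, S.mul_mem hs (S.pow_mem z.2 j)⟩).2 ?_,
        fun x hx => ?_⟩
      · have e : (⟨s * (z : Ω) ^ j, S.mul_mem hs (S.pow_mem z.2 j)⟩ : ↥S) = ⟨s, hs⟩ * z ^ j := rfl
        rw [e, map_mul, map_pow, hj, mul_inv_cancel]
      · have hcm : Commute x (z : Ω) := hz1 x hx
        rw [hs1 x hx]
        have e : s * (z : Ω) ^ j * x * (s * (z : Ω) ^ j)⁻¹ = s * ((z : Ω) ^ j * x * ((z : Ω) ^ j)⁻¹) * s⁻¹ := by group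
        rw [e, (hcm.pow_right j).eq.symm]
        group
  have hidx := not_dvd_index_of_normal hle hN hFA
  have heq : (autInducedBy S Q) ⊓ (oSys d).autGroup Q = autInducedBy T Q :=
    le_antisymm hinf (le_inf (autInducedBy_mono d.hTS) (autInducedBy_le_autGroup hQT))
  rwa [heq] at hidx

/-- Conjugates of fully normalized subgroups are fully normalized. -/
lemma fullyNormalized_of_conj {Q₀ : Subgroup Ω} (hQ₀ : F.IsFullyNormalized Q₀) {a : Ω} (ha : a ∈ S) (hQ : Q ≤ S)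
    (hmem : ∀ x, x ∈ Q ↔ a⁻¹ * x * a ∈ Q₀) : F.IsFullyNormalized Q := by
  refine ⟨hQ, fun R hR => ?_⟩
  have hc : Maps F Q (fun x => a⁻¹ * x * a) :=
    (Maps.conj hQ (S.inv_mem ha)).congr (fun x _ => by simp)
  have hQQ₀ : F.IsConj Q Q₀ := by
    rw [FusionCore.isConj_iff]
    refine ⟨_, hc, ?_⟩
    ext y
    rw [hc.mem_img]
    constructor
    · rintro ⟨x, hx, rfl⟩
      exact (hmem x).1 hx
    · intro hy
      refine ⟨a * y * a⁻¹, (hmem _).2 (by simpa [mul_assoc] using hy), by group⟩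
  have h1 := hQ₀.2 R (IsConj_trans (IsConj_symm hQQ₀) hR)
  refine h1.trans ?_
  haveI : Finite (normalizerIn S Q) := finite_of_le inf_le_left
  refine Nat.card_le_card_of_injective (fun x : normalizerIn S Q₀ => (⟨a * x * a⁻¹, ?_⟩ : normalizerIn S Q)) ?_
  · obtain ⟨h2, h3⟩ := mem_normalizerIn.1 x.2
    refine mem_normalizerIn.2 ⟨S.mul_mem (S.mul_mem ha h2) (S.inv_mem ha), ?_⟩
    rw [Subgroup.mem_normalizer_iff] at h3 ⊢
    intro h
    rw [hmem, h3]
    have e : (x : Ω) * (a⁻¹ * h * a) * (x : Ω)⁻¹ = a⁻¹ * (a * x * a⁻¹ * h * (a * x * a⁻¹)⁻¹) * a := by group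
    rw [e]
    exact (hmem _).symm
  · intro x y hxy
    have h2 : a * (x : Ω) * a⁻¹ = a * (y : Ω) * a⁻¹ := congrArg Subtype.val hxy
    exact Subtype.ext (mul_left_cancel (mul_right_cancel h2))

/-- **Saturation** of the subsystem attached to a stable character. -/
theorem Dat.saturated (d : Dat hX l T) (hS : IsPGroup p S) (hF : F.IsSaturated p)
    (hm : ∀ V ∈ GG F, ∀ V' ∈ GG F, rr F V V' → mark X V = mark X V') (hn : ¬ p ∣ Nat.card (OrbI (S := S) X))
    (hl1 : ∃ s, l s ≠ 1) : (oSys d).IsSaturated p := by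
  intro P hPT
  obtain ⟨Q₀, hPQ, hQ₀⟩ := exists_fullyNormalized_conj (F := F) (hPT.trans d.hTS)
  obtain ⟨f, hf, rfl⟩ := FusionCore.isConj_iff.1 hPQ
  obtain ⟨g, hg⟩ := exists_Cj hX hm hf
  obtain ⟨z, hz⟩ := hl1
  obtain ⟨j, hj⟩ := d.exists_LL_eq hn hz (DD hX l g)⁻¹
  have hf₁ : Maps F P (fun x => ((z ^ j : ↥S) : Ω) * f x * ((z ^ j : ↥S) : Ω)⁻¹) :=
    hf.comp (Maps.conj le_rfl (z ^ j).2) (fun x hx => hf.mem hx)
  have hE : EM hX l T P (fun x => ((z ^ j : ↥S) : Ω) * f x * ((z ^ j : ↥S) : Ω)⁻¹) :=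
    ⟨hPT, hf₁, d.maps_T hf₁ hPT, LL S X (z ^ j) * g, by rw [map_mul, hj, inv_mul_cancel],
      hg.comp (Cj.ofLL (z ^ j)) (fun _ _ => Subgroup.mem_top _) (fun x hx => hf.mem hx)⟩
  have hQT : img (fun x => ((z ^ j : ↥S) : Ω) * f x * ((z ^ j : ↥S) : Ω)⁻¹) P ≤ T := by
    intro y hy
    obtain ⟨x, hx, rfl⟩ := hf₁.mem_img.1 hy
    exact hE.2.2.1 x hx
  have hQ : F.IsFullyNormalized (img (fun x => ((z ^ j : ↥S) : Ω) * f x * ((z ^ j : ↥S) : Ω)⁻¹) P) := by
    refine fullyNormalized_of_conj hQ₀ (z ^ j).2 (hQT.trans d.hTS) (fun y => ?_)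
    rw [hf₁.mem_img, hf.mem_img]
    constructor
    · rintro ⟨x, hx, rfl⟩
      exact ⟨x, hx, by group⟩
    · rintro ⟨x, hx, h⟩
      refine ⟨x, hx, ?_⟩
      show ((z ^ j : ↥S) : Ω) * f x * ((z ^ j : ↥S) : Ω)⁻¹ = y
      rw [h]
      group
  exact ⟨_, FusionCore.isConj_iff.2 ⟨_, (maps_oSys d).2 hE, rfl⟩, d.fullyAutomized hS hF hm hn hQT hQ, d.receptive hS hF hm hn hQT hQ⟩

lemma Cj.pow {g : GX S X} {α : MulAut P} (hPS : P ≤ S) (h : Cj g P (afn α)) (n : ℕ) : Cj (g ^ n) P (afn (α ^ n)) := by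
  induction n with
  | zero =>
    intro u v hu hv
    have : v = u := Subtype.ext (by rw [hv, pow_zero, afn_one hu])
    rw [this]
    simp
  | succ n ih =>
    have := h.comp ih (fun x hx => afn_mem α hx) (fun x hx => hPS (afn_mem α hx))
    rw [pow_succ, pow_succ]
    refine this.congr (fun x hx => ?_)
    rw [afn_mul _ _ hx]
    rfl

/-- The residual of the automorphism groups of `F` lies in the subsystem. -/
theorem Dat.pPower (d : Dat hX l T) (hm : ∀ V ∈ GG F, ∀ V' ∈ GG F, rr F V V' → mark X V = mark X V') (hP : P ≤ T) :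
    (pResidual p (F.autGroup P)).map (F.autGroup P).subtype ≤ (oSys d).autGroup P := by
  rw [Subgroup.map_le_iff_le_comap, pResidual, Subgroup.closure_le]
  rintro ⟨α, hα⟩ (hco : Nat.Coprime (orderOf (⟨α, hα⟩ : F.autGroup P)) p)
  show α ∈ (oSys d).autGroup P
  rw [mem_autGroup_iff hP, maps_oSys]
  have hPS := hP.trans d.hTS
  have ham := (mem_autGroup_iff hPS).1 hα
  refine ⟨hP, ham, fun x hx => hP (afn_mem α hx), ?_⟩
  obtain ⟨g₀, hg₀⟩ := exists_Cj hX hm ham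
  have hcoα : Nat.Coprime p (orderOf α) := by
    have e : orderOf (⟨α, hα⟩ : F.autGroup P) = orderOf α := Subgroup.orderOf_mk α hα
    rw [e] at hco
    exact hco.symm
  obtain ⟨e, he1, he2⟩ := Nat.chineseRemainder hcoα 0 1
  refine ⟨g₀ ^ e, ?_, ?_⟩
  · have hd : p ∣ e := (Nat.modEq_zero_iff_dvd.1 he1)
    obtain ⟨c, rfl⟩ := hd
    rw [map_pow, pow_mul, exp_p, one_pow]
  · have h1 := hg₀.pow hPS e
    have h2 : α ^ e = α := by
      have := pow_eq_pow_iff_modEq.2 he2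
      rwa [pow_one] at this
    rwa [h2] at h1

end Model


section Chain

variable {Ω : Type u} [Group Ω] {S : Subgroup Ω} {F : FusionSystem S}
variable [Finite S] {p : ℕ} [hp : Fact p.Prime]

/-- A character killing the hyperfocal subgroup is stable. -/
lemma stable_of_hyp (hS : IsPGroup p S) (hF : F.IsSaturated p) (l : ↥S →* Multiplicative (ZMod p))
    (hl : ∀ t : ↥S, (t : Ω) ∈ F.hyperfocalSubgroup p → l t = 1) : ∀ a b, FRel F a b → l a = l b := by
  let K : Subgroup Ω := (l.ker).map S.subtype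
  have hK : ∀ t : ↥S, (t : Ω) ∈ K ↔ l t = 1 := by
    intro t
    constructor
    · rintro ⟨t', ht', he⟩
      have : t' = t := Subtype.ext he
      rw [← this]
      exact ht'
    · intro h
      exact ⟨t, h, rfl⟩
  have h1 : F.focalSubgroup ≤ K := by
    rw [Cfsg.Agent.Lib.FusionFocal.focal_eq hS hF]
    refine sup_le (fun x hx => ?_) ?_
    · exact (hK ⟨x, Cfsg.Agent.Lib.FusionHyperfocal.hyperfocal_le F p hx⟩).2 (hl _ hx)
    · rw [Subgroup.commutator_le]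
      intro g₁ h₁ g₂ h₂
      have e : ⁅g₁, g₂⁆ = ((⁅(⟨g₁, h₁⟩ : ↥S), (⟨g₂, h₂⟩ : ↥S)⁆ : ↥S) : Ω) := rfl
      rw [e, hK, commutatorElement_def, map_mul, map_mul, map_mul, map_inv, map_inv,
        mul_comm (l ⟨g₁, h₁⟩) (l ⟨g₂, h₂⟩), mul_assoc, mul_assoc, mul_inv_cancel_left, mul_inv_cancel]
  rintro a b ⟨P, f, hf, ha, hb⟩
  have h2 : (a : Ω)⁻¹ * b ∈ F.focalSubgroup := by
    refine Subgroup.subset_closure ⟨P, hf.hom, ⟨a, ha⟩, hf.hom_mem, ?_⟩
    rw [hf.hom_apply, hb]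
  have h3 := (hK (a⁻¹ * b)).1 (h1 h2)
  rw [map_mul, map_inv, inv_mul_eq_one] at h3
  exact h3

lemma maps_of_sub {T : Subgroup Ω} {E : FusionSystem T} (hEF : E.IsSubsystemOf F) {P : Subgroup Ω} {f : Ω → Ω}
    (h : Maps E P f) : Maps F P f := by
  obtain ⟨φ, hφ, hf⟩ := h
  exact ⟨φ, hEF P hφ, hf⟩

lemma autGroup_le_of_sub {T : Subgroup Ω} {E : FusionSystem T} (hEF : E.IsSubsystemOf F) (hTS : T ≤ S)
    {P : Subgroup Ω} (hP : P ≤ T) : E.autGroup P ≤ F.autGroup P := by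
  intro α hα
  rw [mem_autGroup_iff (hP.trans hTS)]
  exact maps_of_sub hEF ((mem_autGroup_iff hP).1 hα)

omit [Finite S] hp in
lemma pResidual_mono {A : Type*} [Group A] {B C : Subgroup A} (h : B ≤ C) {α : ↥B} (hα : α ∈ pResidual p ↥B) :
    (⟨α.1, h α.2⟩ : ↥C) ∈ pResidual p ↥C := by
  induction hα using Subgroup.closure_induction with
  | mem x hx =>
    refine Subgroup.subset_closure ?_
    have h1 : orderOf (⟨x.1, h x.2⟩ : ↥C) = orderOf (x.1 : A) := Subgroup.orderOf_mk _ _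
    have h2 : orderOf x = orderOf (x.1 : A) := (Subgroup.orderOf_coe x).symm
    show Nat.Coprime _ _
    rw [h1, ← h2]
    exact hx
  | one => exact Subgroup.one_mem _
  | mul a b _ _ ha hb => exact Subgroup.mul_mem _ ha hb
  | inv a _ ha => exact Subgroup.inv_mem _ ha

lemma hyperfocal_le_of_sub {T : Subgroup Ω} {E : FusionSystem T} (hEF : E.IsSubsystemOf F) (hTS : T ≤ S) :
    E.hyperfocalSubgroup p ≤ F.hyperfocalSubgroup p := by
  unfold hyperfocalSubgroup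
  rw [Subgroup.closure_le]
  rintro _ ⟨P, α, x, hP, hα, rfl⟩
  exact Subgroup.subset_closure ⟨P, ⟨α.1, autGroup_le_of_sub hEF hTS hP α.2⟩, x, hP.trans hTS,
    pResidual_mono (autGroup_le_of_sub hEF hTS hP) hα, rfl⟩

end Chain

/-- **Existence of saturated subsystems of `p`-power index.** -/
theorem exists_saturated {p : ℕ} [hp : Fact p.Prime] {Ω : Type u} [Group Ω] (n : ℕ) :
    ∀ (S : Subgroup Ω) [Finite S] (F : FusionSystem S), IsPGroup p S → F.IsSaturated p →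
    ∀ T : Subgroup Ω, T ≤ S → F.hyperfocalSubgroup p ≤ T → Nat.card S = n →
    ∃ E : FusionSystem T, E.IsSaturated p ∧ E.HasPPowerIndexIn F p := by
  induction n using Nat.strong_induction_on with
  | _ n ih =>
  intro S _ F hS hF T hTS hT hn'
  by_cases hTe : T = S
  · subst hTe
    exact ⟨F, hF, fun P => le_rfl, hT, fun P _ => by
      rw [Subgroup.map_le_iff_le_comap]
      intro α _
      exact α.2⟩
  -- one step down
  have hR : T.subgroupOf S ≠ ⊤ := by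
    intro h
    apply hTe
    refine le_antisymm hTS (fun x hx => ?_)
    have : (⟨x, hx⟩ : ↥S) ∈ T.subgroupOf S := h ▸ Subgroup.mem_top _
    exact this
  obtain ⟨l, hl1, hl2⟩ := Cfsg.Agent.Lib.OrbitCocycle.exists_char (G := ↥S) hS hR
  have hl3 : ∃ s, l s ≠ 1 := by
    by_contra hcon
    push Not at hcon
    exact hl1 (MonoidHom.ext hcon)
  let T₁ : Subgroup Ω := (l.ker).map S.subtype
  have hT₁ : ∀ t : ↥S, (t : Ω) ∈ T₁ ↔ l t = 1 := by
    intro t
    constructor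
    · rintro ⟨t', ht', he⟩
      have : t' = t := Subtype.ext he
      rw [← this]
      exact ht'
    · intro h
      exact ⟨t, h, rfl⟩
  have hT₁S : T₁ ≤ S := Subgroup.map_subtype_le _
  have hlst : ∀ a b, FRel F a b → l a = l b :=
    stable_of_hyp hS hF l (fun t ht => hl2 t (hT ht))
  obtain ⟨X, _, _, hX, hm, hn⟩ := exists_transfer hS hF
  have d : Dat hX l T₁ := ⟨hlst, hT₁S, hT₁⟩
  have hE₁ := d.saturated hS hF hm hn hl3
  have hE₁F : (oSys d).IsSubsystemOf F := by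
    intro P φ hφ
    exact ((maps_oSys d).1 (Maps.of_mem hφ)).2.1.mem_hom (fun x => (fn_coe φ x).symm)
  have hTT₁ : T ≤ T₁ := fun x hx => (hT₁ ⟨x, hTS hx⟩).2 (hl2 ⟨x, hTS hx⟩ hx)
  haveI : Finite T₁ := finite_of_le hT₁S
  have hcard : Nat.card T₁ < n := by
    rw [← hn']
    obtain ⟨s, hs⟩ := hl3
    have hlt : T₁ < S := lt_of_le_of_ne hT₁S (fun h => hs ((hT₁ s).1 (h.symm.le s.2)))
    exact Cfsg.Agent.Lib.FusionAlperin.card_lt_of_lt hlt
  obtain ⟨E, hE, hEsub, hEhyp, hEres⟩ := ih _ hcard T₁ (oSys d) (hS.to_le hT₁S) hE₁ T hTT₁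
    ((hyperfocal_le_of_sub hE₁F hT₁S).trans hT) rfl
  refine ⟨E, hE, fun P => (hEsub P).trans (hE₁F P), hT, fun P hP => ?_⟩
  rw [Subgroup.map_le_iff_le_comap, pResidual, Subgroup.closure_le]
  rintro ⟨α, hα⟩ (hco : Nat.Coprime (orderOf (⟨α, hα⟩ : F.autGroup P)) p)
  show α ∈ E.autGroup P
  have h1 : α ∈ (oSys d).autGroup P :=
    d.pPower hm (hP.trans hTT₁) ⟨⟨α, hα⟩, Subgroup.subset_closure hco, rfl⟩
  refine hEres P hP ⟨⟨α, h1⟩, Subgroup.subset_closure ?_, rfl⟩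
  show Nat.Coprime _ _
  have e1 : orderOf (⟨α, h1⟩ : (oSys d).autGroup P) = orderOf α := Subgroup.orderOf_mk α h1
  have e2 : orderOf (⟨α, hα⟩ : F.autGroup P) = orderOf α := Subgroup.orderOf_mk α hα
  rw [e1]
  rwa [e2] at hco

end Cfsg.Agent.Lib.FusionOPower
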