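/-
FusionCentralElt2: the engine of FusionCentralElt with the local hypothesis asked only for models of
normalizer systems of fully normalized centric subgroups.
-/
import Mathlib
import Cfsg.Agent.Lib.FusionCentralElt
import Cfsg.Prelude.Def_FusionReduction

set_option autoImplicit false

namespace Cfsg.Agent.Lib.FusionCentralElt2

open Cfsg Cfsg.FusionSystem Cfsg.Agent.Lib.FusionCore Cfsg.Agent.Lib.FusionCore2 Cfsg.Agent.Lib.FusionCentralElt

universe u

variable {Ω : Type u} [Group Ω] {S : Subgroup Ω} {F : FusionSystem S} {p : ℕ} [hp : Fact p.Prime]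

section Functor

variable {W : ∀ (Q : Type u) [Group Q], Subgroup Q}

/-- The main step: a fully normalized centric subgroup, assuming the statement for larger normalizers. -/
theorem step' [Finite S] (hS : IsPGroup p S) (hF : F.IsSaturated p)
    (hW2 : ∀ (Q R : Type u) [Group Q] [Group R] [Finite Q], IsPGroup p Q → ∀ φ : Q ≃* R,
      (W Q).map φ.toMonoidHom = W R)
    (hWZ : ∀ (Q : Type u) [Group Q] [Finite Q], IsPGroup p Q → Subgroup.center Q ≤ W Q)
    {w : Ω} (hw : IsZ S w) (e : ℕ)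
    (hNfix : ∀ γ ∈ F.autGroup ((W ↥S).map S.subtype), afn γ (w ^ e) = w ^ e)
    (hLocal : ∀ Q : Subgroup Ω, F.IsFullyNormalized Q → F.IsCentric Q →
      ∀ E : FusionSystem (normalizerIn S Q), F.IsNormalizerSystem Q E →
      ∀ (L : Type u) [Group L] (ι : ↥(normalizerIn S Q) →* L), E.IsModel p L ι →
      ∀ [Finite L] (P : Sylow p L) (v : L), v ∈ pCore p L →
      v ∈ (P : Subgroup L) → (∀ x ∈ (P : Subgroup L), x * v = v * x) →
      (∀ g ∈ Subgroup.normalizer (((W ↥(P : Subgroup L)).map (P : Subgroup L).subtype : Subgroup L) : Set L),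
        g * v ^ e * g⁻¹ = v ^ e) → ∀ g : L, g * v ^ e * g⁻¹ = v ^ e)
    {Q : Subgroup Ω} (hQn : F.IsFullyNormalized Q) (hQc : F.IsCentric Q)
    (IH : ∀ Q' : Subgroup Ω, F.IsFullyNormalized Q' → F.IsCentric Q' →
      Nat.card (normalizerIn S Q) < Nat.card (normalizerIn S Q') →
      ∀ α ∈ F.autGroup Q', afn α (w ^ e) = w ^ e) :
    ∀ α ∈ F.autGroup Q, afn α (w ^ e) = w ^ e := by
  intro α hα
  have hQS := hQn.1
  have hTS : normalizerIn S Q ≤ S := inf_le_left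
  haveI hfT : Finite (normalizerIn S Q) := finite_of_le hTS
  have hT : IsPGroup p (normalizerIn S Q) := hS.to_le hTS
  obtain ⟨E, hE⟩ := exists_normalizerSystem (F := F) hQS
  have hEs := Cfsg.Agent.Lib.FusionSatNorm.saturated_normalizer hS hF hQn hE
  have hQN : E.IsNormal Q := Cfsg.Agent.Lib.FusionGT.isNormal_normalizerSystem hQS hE
  have hQT := le_normalizerIn hQS
  have hCT : centralizerIn S Q ≤ Q := IsCentric_self hQc
  have hQC : E.IsCentric Q := by
    refine ⟨hQT, fun Q' hQ' => ?_⟩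
    rw [Cfsg.Agent.Lib.FusionGT.conj_eq_of_isNormal hQN hQ']
    intro c hc
    exact hCT (mem_centralizerIn.2 ⟨hTS (mem_centralizerIn.1 hc).1, (mem_centralizerIn.1 hc).2⟩)
  obtain ⟨L, instL, ι, hM⟩ := Cfsg.Agent.Lib.FusionModel.exists_model hT hEs hQN hQC
  have hLf : Finite L := hM.1
  have hι := hM.2.1
  obtain ⟨P₀, hP₀⟩ := hM.2.2.1
  have hy : IsZ S (w ^ e) := hw.pow e
  have hwQ : w ∈ Q := hw.mem_of_centric hQc
  have hwT : w ∈ normalizerIn S Q := hQT hwQ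
  have hyT : w ^ e ∈ normalizerIn S Q := Subgroup.pow_mem _ hwT e
  have hyQ : w ^ e ∈ Q := Subgroup.pow_mem _ hwQ e
  obtain ⟨v, hv⟩ : ∃ v, v = ι ⟨w, hwT⟩ := ⟨_, rfl⟩
  have hve : v ^ e = ι ⟨w ^ e, hyT⟩ := by
    rw [hv, ← map_pow]
    rfl
  have hvcore : v ∈ pCore p L := by
    have hOQn : ((Q.subgroupOf (normalizerIn S Q)).map ι).Normal := by
      refine ⟨fun x hx g => ?_⟩
      obtain ⟨⟨x, hxT⟩, hxQ, rfl⟩ := hx
      obtain ⟨z, hz, hzQ, hzι⟩ :=
        Cfsg.Agent.Lib.FusionMono.conj_mem_of_model hM hQN g hxT (Subgroup.mem_subgroupOf.1 hxQ)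
      exact ⟨⟨z, hz⟩, Subgroup.mem_subgroupOf.2 hzQ, hzι⟩
    have hOQp : IsPGroup p ((Q.subgroupOf (normalizerIn S Q)).map ι) :=
      (hT.to_subgroup _).map ι
    refine Cfsg.Agent.Lib.PCore.le_pCore hOQn hOQp ?_
    rw [hv]
    exact ⟨⟨w, hwT⟩, Subgroup.mem_subgroupOf.2 hwQ, rfl⟩
  have hvP : v ∈ (P₀ : Subgroup L) := by
    rw [hP₀, hv]
    exact ⟨_, rfl⟩
  have hvc : ∀ x ∈ (P₀ : Subgroup L), x * v = v * x := by
    intro x hx
    rw [hP₀] at hx
    obtain ⟨t, rfl⟩ := hx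
    rw [hv, ← map_mul, ← map_mul]
    congr 1
    exact Subtype.ext (hw.2 t (hTS t.2))
  let φ : normalizerIn S Q ≃* ↥(P₀ : Subgroup L) :=
    (MonoidHom.ofInjective hι.1).trans (MulEquiv.subgroupCongr hP₀.symm)
  have hφ : ∀ t, ((φ t : ↥(P₀ : Subgroup L)) : L) = ι t := fun _ => rfl
  have hWP : (W ↥(P₀ : Subgroup L)).map (P₀ : Subgroup L).subtype = (W ↥(normalizerIn S Q)).map ι := by
    rw [← hW2 _ _ hT φ, Subgroup.map_map]
    congr 1
  have hVT : (W ↥(normalizerIn S Q)).map (normalizerIn S Q).subtype ≤ normalizerIn S Q :=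
    Subgroup.map_subtype_le _
  obtain ⟨V, hVdef⟩ : ∃ V, V = (W ↥(normalizerIn S Q)).map (normalizerIn S Q).subtype := ⟨_, rfl⟩
  rw [← hVdef] at hVT
  have hVS : V ≤ S := hVT.trans hTS
  have hyV : w ^ e ∈ V := by
    rw [hVdef]
    refine ⟨⟨w ^ e, hyT⟩, hWZ _ hT ?_, rfl⟩
    rw [Subgroup.mem_center_iff]
    intro t
    exact Subtype.ext (hy.2 t (hTS t.2))
  have hfix : ∀ γ ∈ F.autGroup V, afn γ (w ^ e) = w ^ e := by
    by_cases hTeq : normalizerIn S Q = S
    · have hVeq : V = (W ↥S).map S.subtype := hVdef.trans (WW_congr W hTeq)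
      rw [hVeq]
      exact hNfix
    · have hlt : normalizerIn S Q < S := lt_of_le_of_ne hTS hTeq
      have hlt2 := Cfsg.Agent.Lib.FusionAlperin.lt_normalizerIn hS hlt
      have hnorm := normalizerIn_le_WW W hW2 hTS hT
      rw [← hVdef] at hnorm
      haveI : Finite (normalizerIn S V) := finite_of_le inf_le_left
      haveI : Finite (normalizerIn S (normalizerIn S Q)) := finite_of_le inf_le_left
      have h3 : Nat.card (normalizerIn S Q) < Nat.card (normalizerIn S V) :=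
        lt_of_lt_of_le (Cfsg.Agent.Lib.FusionAlperin.card_lt_of_lt hlt2) (Subgroup.card_le_of_le hnorm)
      exact fixed_of_level hS hF hy _ IH hVS hyV h3
  have hgfix : ∀ g ∈ Subgroup.normalizer
      (((W ↥(P₀ : Subgroup L)).map (P₀ : Subgroup L).subtype : Subgroup L) : Set L),
      g * v ^ e * g⁻¹ = v ^ e := by
    intro g hg
    rw [hWP] at hg
    have hr : ∀ x (hx : x ∈ V), g * ι ⟨x, hVT hx⟩ * g⁻¹ ∈ (W ↥(normalizerIn S Q)).map ι := by
      intro x hx
      rw [hVdef] at hx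
      obtain ⟨t, ht, rfl⟩ := hx
      exact (Subgroup.mem_normalizer_iff.1 hg _).1 ⟨t, ht, rfl⟩
    have hmc : Maps E V (Cfsg.Agent.Lib.FusionMono.cf ι g) :=
      Cfsg.Agent.Lib.FusionMono.maps_cf hι hVT g (fun x hx => by
        obtain ⟨t, -, ht⟩ := hr x hx
        exact ⟨t, ht⟩)
    have hmcF : Maps F V (Cfsg.Agent.Lib.FusionMono.cf ι g) :=
      ((Cfsg.Agent.Lib.FusionGT.maps_norm_iff hE).1 hmc).1
    have hcy : ∀ x (hx : x ∈ V), ι ⟨Cfsg.Agent.Lib.FusionMono.cf ι g x,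
        Cfsg.Agent.Lib.FusionMono.cf_mem g (hVT hx)⟩ = g * ι ⟨x, hVT hx⟩ * g⁻¹ := by
      intro x hx
      obtain ⟨t, -, ht⟩ := hr x hx
      exact Cfsg.Agent.Lib.FusionMono.ι_cf g (hVT hx) ⟨t, ht⟩
    have hval : ∀ x ∈ V, Cfsg.Agent.Lib.FusionMono.cf ι g x ∈ V := by
      intro x hx
      obtain ⟨t, ht, hte⟩ := hr x hx
      have h1 := (hcy x hx).trans hte.symm
      have h2 := hι.1 h1
      have h3 : Cfsg.Agent.Lib.FusionMono.cf ι g x = t := congrArg Subtype.val h2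
      rw [h3, hVdef]
      exact ⟨t, ht, rfl⟩
    have himg : img (Cfsg.Agent.Lib.FusionMono.cf ι g) V = V :=
      img_eq_of_card hmcF hVS hVS hval le_rfl
    have h4 := hfix _ (hmcF.toAut_mem himg)
    rw [hmcF.afn_toAut himg hyV] at h4
    have h5 := hcy _ hyV
    have h6 : (⟨Cfsg.Agent.Lib.FusionMono.cf ι g (w ^ e), Cfsg.Agent.Lib.FusionMono.cf_mem g (hVT hyV)⟩ :
        normalizerIn S Q) = ⟨w ^ e, hyT⟩ := Subtype.ext h4
    rw [h6] at h5
    rw [hve]
    exact h5.symm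
  have hcentral := hLocal Q hQn hQc E hE L ι hM P₀ v hvcore hvP hvc hgfix
  have hmα := Maps_of_mem_autGroup hQS hα
  have hαE : Maps E Q (afn α) := by
    refine (Cfsg.Agent.Lib.FusionGT.maps_norm_iff hE).2 ⟨hmα, hQT, fun x hx => hQT (afn_mem α hx), ?_⟩
    have hm2 : Maps F (Q ⊔ Q) (afn α) := by
      rw [sup_idem]
      exact hmα
    exact ⟨afn α, hm2, fun _ _ => rfl, afn_img α⟩
  obtain ⟨g, hg⟩ := Cfsg.Agent.Lib.FusionMono.real_of_maps hι hαE
  have h7 := hg _ hyQ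
  have h8 : ι ⟨w ^ e, hQT hyQ⟩ = v ^ e := hve.symm
  rw [h8, hcentral g, hve] at h7
  exact congrArg Subtype.val (hι.1 h7)

/-- **The engine.** -/
theorem fixed_all' [Finite S] (hS : IsPGroup p S) (hF : F.IsSaturated p)
    (hW2 : ∀ (Q R : Type u) [Group Q] [Group R] [Finite Q], IsPGroup p Q → ∀ φ : Q ≃* R,
      (W Q).map φ.toMonoidHom = W R)
    (hWZ : ∀ (Q : Type u) [Group Q] [Finite Q], IsPGroup p Q → Subgroup.center Q ≤ W Q)
    {w : Ω} (hw : IsZ S w) (e : ℕ)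
    (hNfix : ∀ γ ∈ F.autGroup ((W ↥S).map S.subtype), afn γ (w ^ e) = w ^ e)
    (hLocal : ∀ Q : Subgroup Ω, F.IsFullyNormalized Q → F.IsCentric Q →
      ∀ E : FusionSystem (normalizerIn S Q), F.IsNormalizerSystem Q E →
      ∀ (L : Type u) [Group L] (ι : ↥(normalizerIn S Q) →* L), E.IsModel p L ι →
      ∀ [Finite L] (P : Sylow p L) (v : L), v ∈ pCore p L →
      v ∈ (P : Subgroup L) → (∀ x ∈ (P : Subgroup L), x * v = v * x) →
      (∀ g ∈ Subgroup.normalizer (((W ↥(P : Subgroup L)).map (P : Subgroup L).subtype : Subgroup L) : Set L),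
        g * v ^ e * g⁻¹ = v ^ e) → ∀ g : L, g * v ^ e * g⁻¹ = v ^ e) :
    ∀ (R : Subgroup Ω) (f : Ω → Ω), Maps F R f → ∀ x ∈ R, (f x = w ^ e ↔ x = w ^ e) := by
  have main : ∀ (n : ℕ) (Q : Subgroup Ω), Nat.card S - Nat.card (normalizerIn S Q) = n →
      F.IsFullyNormalized Q → F.IsCentric Q → ∀ α ∈ F.autGroup Q, afn α (w ^ e) = w ^ e := by
    intro n
    induction n using Nat.strong_induction_on with
    | _ n ih =>
      intro Q hn h1 h2
      refine step' hS hF hW2 hWZ hw e hNfix hLocal h1 h2 (fun Q' h3 h4 hlt => ?_)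
      have h5 : Nat.card (normalizerIn S Q') ≤ Nat.card S := Subgroup.card_le_of_le inf_le_left
      exact ih _ (by omega) Q' rfl h3 h4
  intro R f hf x hx
  haveI : Finite R := finite_of_le hf.le
  exact levelled hS hF (hw.pow e) 0 (fun Q h1 h2 _ => main _ Q rfl h1 h2) R f hf Nat.card_pos x hx

end Functor

end Cfsg.Agent.Lib.FusionCentralElt2
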