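/-
FusionJLocal2: the orbit condition at the prime two, and the local form of Glauberman's theorem
for the Thompson subgroup.
-/
import Mathlib
import Cfsg.Agent.Lib.FusionJLocal
import Cfsg.Agent.Lib.KleinS4
import Cfsg.Agent.Lib.BaerSuzuki

set_option autoImplicit false

namespace Cfsg.Agent.Lib.FusionJLocal2

open Cfsg Cfsg.Agent.Lib.PCore Cfsg.Agent.Lib.AlperinControl Cfsg.Agent.Lib.FusionJLocal

universe u

variable {L : Type*} [Group L]

/-- Two transvection-like elements, one fixing the centre of the other: the product has small order. -/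
lemma four_of_fix (a b d e : L) {V : Subgroup L} (hd2 : d * d = 1) (he2 : e * e = 1) (hde : d * e = e * d)
    (htra : ∀ x ∈ V, a * x * a⁻¹ = x ∨ a * x * a⁻¹ = x * d) (htrb : ∀ x ∈ V, b * x * b⁻¹ = x ∨ b * x * b⁻¹ = x * e)
    (had : a * d * a⁻¹ = d) (hbe : b * e * b⁻¹ = e) (hbd : b * d * b⁻¹ = d) (heV : e ∈ V) :
    ∀ x ∈ V, (a * b) ^ 4 * x * ((a * b) ^ 4)⁻¹ = x := by
  obtain ⟨T, hT⟩ : ∃ T : L → L, ∀ x, T x = (a * b) * x * (a * b)⁻¹ := ⟨_, fun _ => rfl⟩
  have hTmul : ∀ x y, T (x * y) = T x * T y := by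
    intro x y
    rw [hT, hT, hT]
    group
  have hTdef : ∀ x, T x = a * (b * x * b⁻¹) * a⁻¹ := by
    intro x
    rw [hT]
    group
  have hamul : ∀ x y, a * (x * y) * a⁻¹ = (a * x * a⁻¹) * (a * y * a⁻¹) := by
    intro x y
    group
  have hTd : T d = d := by rw [hTdef, hbd, had]
  have hTe : T e = e ∨ T e = e * d := by
    rw [hTdef, hbe]
    exact htra e heV
  have hdd : ∀ x : L, x * d * d = x := fun x => by rw [mul_assoc, hd2, mul_one]
  have hee : ∀ x : L, x * e * e = x := fun x => by rw [mul_assoc, he2, mul_one]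
  have h1 : ∀ x ∈ V, T x = x ∨ T x = x * d ∨ T x = x * e ∨ T x = x * e * d := by
    intro x hx
    rw [hTdef]
    rcases htrb x hx with h | h <;> rw [h]
    · rcases htra x hx with h' | h' <;> rw [h'] <;> simp
    · rw [hamul]
      have h2 := htra e heV
      rcases htra x hx with h' | h' <;> rcases h2 with h2 | h2 <;> rw [h', h2]
      · right; right; left; rfl
      · right; right; right; rw [mul_assoc]
      · right; right; right
        rw [mul_assoc, hde, ← mul_assoc]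
      · right; right; left
        rw [mul_assoc x d, ← mul_assoc d e, hde, mul_assoc e d d, hd2, mul_one]
  have h2 : ∀ x ∈ V, T (T x) = x ∨ T (T x) = x * d := by
    intro x hx
    rcases h1 x hx with h | h | h | h
    · rw [h, h]; exact Or.inl rfl
    · rw [h, hTmul, h, hTd, hdd]; exact Or.inl rfl
    · rw [h, hTmul, h]
      rcases hTe with h' | h' <;> rw [h']
      · rw [hee]; exact Or.inl rfl
      · right
        rw [← mul_assoc, hee]
    · rw [h, hTmul, hTmul, h, hTd]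
      have e1 : e * d * e = d := by rw [← hde, mul_assoc, he2, mul_one]
      rcases hTe with h' | h' <;> rw [h']
      · left
        calc x * e * d * e * d = x * (e * d * e) * d := by group
          _ = x * d * d := by rw [e1]
          _ = x := hdd x
      · right
        calc x * e * d * (e * d) * d = x * (e * d * e) * d * d := by group
          _ = x * d * d * d := by rw [e1]
          _ = x * d := by rw [hdd]
  have hT4 : ∀ x, (a * b) ^ 4 * x * ((a * b) ^ 4)⁻¹ = T (T (T (T x))) := by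
    intro x
    rw [hT, hT, hT, hT]
    generalize a * b = c
    rw [show c ^ 4 = c * c * c * c by rw [pow_succ, pow_succ, pow_succ, pow_one]]
    group
  intro x hx
  rw [hT4]
  rcases h2 x hx with h | h
  · rw [h, h]
  · rw [h, hTmul, hTmul, h, hTd, hTd]
    exact hdd x

/-- Two involutions, the product of 2-power order: they generate a 2-group. -/
lemma isPGroup_of_invol [Finite L] (x y : L) (hx : x * x = 1) (hy : y * y = 1) (hxy : (x * y) ^ 4 = 1) :
    IsPGroup 2 ↥(Subgroup.zpowers x ⊔ Subgroup.zpowers y) := by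
  have hxp : IsPGroup 2 (Subgroup.zpowers x) := by
    rintro ⟨_, l, rfl⟩
    refine ⟨1, Subtype.ext ?_⟩
    show (x ^ l) ^ (2 ^ 1) = 1
    rw [pow_one, ← zpow_natCast, ← zpow_mul, mul_comm, zpow_mul, zpow_natCast, pow_two, hx, one_zpow]
  have hzp : IsPGroup 2 (Subgroup.zpowers (x * y)) := by
    rintro ⟨_, l, rfl⟩
    refine ⟨2, Subtype.ext ?_⟩
    show ((x * y) ^ l) ^ (2 ^ 2) = 1
    rw [← zpow_natCast, ← zpow_mul, mul_comm, zpow_mul, zpow_natCast]
    have : (2 ^ 2 : ℕ) = 4 := rfl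
    rw [this, hxy, one_zpow]
  have hxinv : x⁻¹ = x := inv_eq_of_mul_eq_one_left hx
  have hyinv : y⁻¹ = y := inv_eq_of_mul_eq_one_left hy
  have hN : Subgroup.zpowers x ≤ Subgroup.normalizer (Subgroup.zpowers (x * y) : Set L) := by
    rw [Subgroup.zpowers_le]
    apply mem_NN_of_forall
    rintro _ ⟨l, rfl⟩
    simp only
    have h1 : x * (x * y) * x⁻¹ = (x * y)⁻¹ := by
      rw [mul_inv_rev, hxinv, hyinv, ← mul_assoc, hx, one_mul]
    refine ⟨-l, ?_⟩
    simp only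
    have h2 := (MulAut.conj x).toMonoidHom.map_zpow (x * y) l
    have h3 : (MulAut.conj x).toMonoidHom (x * y) = (x * y)⁻¹ := h1
    rw [h3] at h2
    have h4 : (MulAut.conj x).toMonoidHom ((x * y) ^ l) = x * (x * y) ^ l * x⁻¹ := rfl
    rw [h4] at h2
    rw [h2, inv_zpow, zpow_neg]
  have hsup := hxp.to_sup_of_normal_right' hzp hN
  refine hsup.to_le (sup_le le_sup_left ?_)
  rw [Subgroup.zpowers_le]
  have h2 : x * (x * y) ∈ Subgroup.zpowers x ⊔ Subgroup.zpowers (x * y) :=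
    Subgroup.mul_mem _ (Subgroup.mem_sup_left (Subgroup.mem_zpowers x))
      (Subgroup.mem_sup_right (Subgroup.mem_zpowers _))
  rwa [← mul_assoc, hx, one_mul] at h2

/-- The conjugation by `a` on `V` as in the bad orbit case: all conjugates of `a` generate 2-groups
with `a` modulo the centralizer of `V`. -/
theorem isPGroup_quot [Finite L] (hS4 : ¬ Involves (Equiv.Perm (Fin 4)) L) {V : Subgroup L} [hVn : V.Normal]
    (a d : L) (hdV : d ∈ V) (hd2 : d * d = 1) (hd1 : d ≠ 1) (hVc : ∀ x ∈ V, ∀ y ∈ V, x * y = y * x)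
    (htra : ∀ x ∈ V, a * x * a⁻¹ = x ∨ a * x * a⁻¹ = x * d) (had : a * d * a⁻¹ = d) (h : L) :
    (a * (h * a * h⁻¹)) ^ 4 ∈ Subgroup.centralizer (V : Set L) := by
  obtain ⟨b, hb⟩ : ∃ b, b = h * a * h⁻¹ := ⟨_, rfl⟩
  obtain ⟨e, he⟩ : ∃ e, e = h * d * h⁻¹ := ⟨_, rfl⟩
  rw [← hb]
  have heV : e ∈ V := by
    rw [he]
    exact hVn.conj_mem d hdV h
  have hde : d * e = e * d := hVc d hdV e heV
  have he2 : e * e = 1 := by
    rw [he]
    calc h * d * h⁻¹ * (h * d * h⁻¹) = h * (d * d) * h⁻¹ := by group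
      _ = 1 := by rw [hd2]; group
  have he1 : e ≠ 1 := by
    rw [he]
    intro hh
    apply hd1
    have : d = h⁻¹ * (h * d * h⁻¹) * h := by group
    rw [this, hh]
    group
  have hbe : b * e * b⁻¹ = e := by
    rw [hb, he]
    calc h * a * h⁻¹ * (h * d * h⁻¹) * (h * a * h⁻¹)⁻¹ = h * (a * d * a⁻¹) * h⁻¹ := by group
      _ = h * d * h⁻¹ := by rw [had]
  have htrb : ∀ x ∈ V, b * x * b⁻¹ = x ∨ b * x * b⁻¹ = x * e := by
    intro x hx
    have hx' : h⁻¹ * x * h⁻¹⁻¹ ∈ V := hVn.conj_mem x hx h⁻¹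
    have e1 : b * x * b⁻¹ = h * (a * (h⁻¹ * x * h⁻¹⁻¹) * a⁻¹) * h⁻¹ := by
      rw [hb]
      group
    rcases htra _ hx' with h1 | h1 <;> rw [e1, h1]
    · left
      group
    · right
      rw [he]
      group
  have hfour : ∀ x ∈ V, (a * b) ^ 4 * x * ((a * b) ^ 4)⁻¹ = x := by
    by_cases hbd : b * d * b⁻¹ = d
    · exact four_of_fix a b d e hd2 he2 hde htra htrb had hbe hbd heV
    · by_cases hae : a * e * a⁻¹ = e
      · have h1 := four_of_fix b a e d he2 hd2 hde.symm htrb htra hbe had hae hdV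
        intro x hx
        have hx' : a⁻¹ * x * a⁻¹⁻¹ ∈ V := hVn.conj_mem x hx a⁻¹
        have h2 := h1 _ hx'
        have e1 : (a * b) ^ 4 = a * (b * a) ^ 4 * a⁻¹ := by
          have : a * (b * a) ^ 4 * a⁻¹ = (a * (b * a) * a⁻¹) ^ 4 := by
            rw [conj_pow]
          rw [this]
          congr 1
          group
        rw [e1]
        calc a * (b * a) ^ 4 * a⁻¹ * x * (a * (b * a) ^ 4 * a⁻¹)⁻¹
            = a * ((b * a) ^ 4 * (a⁻¹ * x * a⁻¹⁻¹) * ((b * a) ^ 4)⁻¹) * a⁻¹ := by group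
          _ = a * (a⁻¹ * x * a⁻¹⁻¹) * a⁻¹ := by rw [h2]
          _ = x := by group
      · exfalso
        have hae' : a * e * a⁻¹ = e * d := by
          rcases htra e heV with h1 | h1
          · exact absurd h1 hae
          · exact h1
        have hbd' : b * d * b⁻¹ = d * e := by
          rcases htrb d hdV with h1 | h1
          · exact absurd h1 hbd
          · exact h1
        have hne : d ≠ e := by
          rintro rfl
          exact hae had
        exact hS4 (Cfsg.Agent.Lib.KleinS4.involves_of_klein a b d e hd2 he2 hd1 he1 hde hne had hae' hbe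
          (by rw [hbd', hde]))
  rw [Subgroup.mem_centralizer_iff]
  intro x hx
  have := hfour x hx
  rw [mul_inv_eq_iff_eq_mul] at this
  exact this.symm

/-- The elimination of the bad orbits at the prime two. -/
theorem good_case [Finite L] (hS4 : ¬ Involves (Equiv.Perm (Fin 4)) L)
    {P O Z A V : Subgroup L} [hVn : V.Normal] (hP : IsSyl 2 P ⊤) {v : L} (hvV : v ∈ V)
    (hvc : ∀ x ∈ P, x * v = v * x)
    (hZO : Z ≤ O) (hOP : O ≤ P) (hZc : ∀ z ∈ Z, ∀ x ∈ O, x * z = z * x)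
    (hMA : MA P A) (hmax : ∀ A', MA P A' → ¬ A' ≤ O → Nat.card ↥(A' ⊓ Z) ≤ Nat.card ↥(A ⊓ Z))
    (hZN : Z ≤ NN A) (hVZ : V ≤ Z) (g a : L) (ha : a ∈ A) (hau : a * (g * v * g⁻¹) * a⁻¹ ≠ g * v * g⁻¹) :
    ∃ b ∈ A, b * (g * v * g⁻¹) * b⁻¹ ≠ g * v * g⁻¹ ∧ b * (g * v * g⁻¹) * b⁻¹ ≠ a * (g * v * g⁻¹) * a⁻¹ := by
  obtain ⟨u, hu⟩ : ∃ u, u = g * v * g⁻¹ := ⟨_, rfl⟩
  rw [← hu] at hau ⊢
  by_contra hcon
  push Not at hcon
  have huV : u ∈ V := hu ▸ hVn.conj_mem v hvV g
  have huZ : u ∈ Z := hVZ huV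
  have huO : u ∈ O := hZO huZ
  have huP : u ∈ P := hOP huO
  have hZP : Z ≤ P := hZO.trans hOP
  have hZcomm : ∀ a ∈ Z, ∀ b ∈ Z, a * b = b * a := fun a ha b hb => hZc b hb a (hZO ha)
  have hVc : ∀ a ∈ V, ∀ b ∈ V, a * b = b * a := fun a ha b hb => hZcomm a (hVZ ha) b (hVZ hb)
  have huA : u ∉ A := fun h => hau (by rw [hMA.comm a ha u h]; group)
  -- the stabilizer
  let B : Subgroup L := A ⊓ Subgroup.centralizer {u}
  have hBmem : ∀ x, x ∈ B ↔ x ∈ A ∧ x * u = u * x := by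
    intro x
    constructor
    · rintro ⟨h1, h2⟩
      have h3 : x ∈ Subgroup.centralizer ({u} : Set L) := h2
      rw [Subgroup.mem_centralizer_iff] at h3
      exact ⟨h1, (h3 u rfl).symm⟩
    · rintro ⟨h1, h2⟩
      have h3 : x ∈ Subgroup.centralizer ({u} : Set L) := by
        rw [Subgroup.mem_centralizer_iff]
        rintro _ rfl
        exact h2.symm
      exact ⟨h1, h3⟩
  have hBA : B ≤ A := inf_le_left
  let A' : Subgroup L := B ⊔ Subgroup.zpowers u
  have hBA' : B ≤ A' := le_sup_left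
  have huA' : u ∈ A' := Subgroup.mem_sup_right (Subgroup.mem_zpowers u)
  have hA'c : ∀ x ∈ A', ∀ y ∈ A', x * y = y * x := by
    refine Cfsg.Agent.Lib.AbReplace.comm_sup B (Subgroup.zpowers u) ?_ ?_ ?_
    · exact fun a ha b hb => hMA.comm a (hBA ha) b (hBA hb)
    · rintro _ ⟨m, rfl⟩ _ ⟨n, rfl⟩
      simp only
      rw [← zpow_add, ← zpow_add, add_comm]
    · rintro x hx _ ⟨n, rfl⟩
      simp only
      have hc : Commute x u := ((hBmem x).1 hx).2
      exact (hc.zpow_right n).eq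
  have hA'P : A' ≤ P := sup_le (hBA.trans hMA.le) (Subgroup.zpowers_le.2 huP)
  -- cardinals
  have hcard1 : Nat.card A ≤ Nat.card B * 2 := by
    let f : ↥B × Bool → ↥A := fun z => cond z.2 (⟨a, ha⟩ * ⟨z.1.1, hBA z.1.2⟩) ⟨z.1.1, hBA z.1.2⟩
    have hf : Function.Surjective f := by
      rintro ⟨x, hx⟩
      by_cases hxu : x * u * x⁻¹ = u
      · refine ⟨(⟨x, (hBmem x).2 ⟨hx, ?_⟩⟩, false), rfl⟩
        rwa [mul_inv_eq_iff_eq_mul] at hxu
      · have h1 := hcon x hx hxu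
        have h2 : a⁻¹ * x ∈ B := by
          refine (hBmem _).2 ⟨A.mul_mem (A.inv_mem ha) hx, ?_⟩
          have h3 : a * u * a⁻¹ * x = x * u := by
            rw [← h1]
            group
          calc a⁻¹ * x * u = a⁻¹ * (x * u) := by group
            _ = a⁻¹ * (a * u * a⁻¹ * x) := by rw [h3]
            _ = u * (a⁻¹ * x) := by group
        refine ⟨(⟨_, h2⟩, true), Subtype.ext ?_⟩
        show a * (a⁻¹ * x) = x
        group
    have h := Nat.card_le_card_of_surjective f hf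
    rw [Nat.card_prod] at h
    simpa using h
  have hcard2 : Nat.card B * 2 ≤ Nat.card A' := by
    have h1 := Subgroup.card_mul_index (B.subgroupOf A')
    have h2 : Nat.card (B.subgroupOf A') = Nat.card B :=
      Nat.card_congr (Subgroup.subgroupOfEquivOfLe hBA').toEquiv
    rw [h2] at h1
    rw [← h1]
    refine Nat.mul_le_mul_left _ ?_
    have h3 : (B.subgroupOf A').index ≠ 0 := Subgroup.index_ne_zero_of_finite
    have h4 : (B.subgroupOf A').index ≠ 1 := by
      intro h5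
      rw [Subgroup.index_eq_one] at h5
      have h6 : (⟨u, huA'⟩ : ↥A') ∈ B.subgroupOf A' := by
        rw [h5]
        trivial
      exact huA (hBA (Subgroup.mem_subgroupOf.1 h6))
    omega
  have hMA' : MA P A' := ⟨hA'P, hA'c, fun C hC hCc => (hMA.max C hC hCc).trans (hcard1.trans hcard2)⟩
  have hlt : A ⊓ Z < A' ⊓ Z := by
    refine SetLike.lt_iff_le_and_exists.2 ⟨?_, u, (⟨huA', huZ⟩ : u ∈ A' ⊓ Z), fun h : u ∈ A ⊓ Z => huA h.1⟩
    rintro x ⟨h1, h2⟩
    exact ⟨hBA' ((hBmem x).2 ⟨h1, hZcomm x h2 u huZ⟩), h2⟩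
  have hA'O : A' ≤ O := by
    by_contra hc
    exact absurd (card_lt_of_lt' hlt) (not_lt.2 (hmax A' hMA' hc))
  have hZA' : Z ≤ A' := hMA'.le_of_comm hZP hZcomm (fun a ha b hb => hZc b hb a (hA'O ha))
  have hVA' : V ≤ A' := hVZ.trans hZA'
  -- the centre of the transvection
  obtain ⟨d, hd⟩ : ∃ d, d = a * u * a⁻¹ * u⁻¹ := ⟨_, rfl⟩
  have hdA : d ∈ A := by
    have h1 : u * a⁻¹ * u⁻¹ ∈ A := conj_mem_of_mem_NN (hZN huZ) (A.inv_mem ha)
    have h2 : d = a * (u * a⁻¹ * u⁻¹) := by rw [hd]; group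
    rw [h2]
    exact A.mul_mem ha h1
  have hdV : d ∈ V := by
    rw [hd]
    exact V.mul_mem (hVn.conj_mem u huV a) (V.inv_mem huV)
  have hdu : a * u * a⁻¹ = d * u := by rw [hd]; group
  have had : a * d * a⁻¹ = d := by rw [hMA.comm a ha d hdA]; group
  have hd1 : d ≠ 1 := by
    intro h
    rw [h, one_mul] at hdu
    exact hau hdu
  have hd2 : d * d = 1 := by
    have hamul : ∀ x y, a * (x * y) * a⁻¹ = (a * x * a⁻¹) * (a * y * a⁻¹) := by
      intro x y
      group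
    have e2 : (a * a) * u * (a * a)⁻¹ = a * (a * u * a⁻¹) * a⁻¹ := by group
    by_cases h : (a * a) * u * (a * a)⁻¹ = u
    · rw [e2, hdu, hamul, had, hdu] at h
      have h3 : d * d * u = u := by rw [mul_assoc]; exact h
      simpa using h3
    · have h1 := hcon (a * a) (A.mul_mem ha ha) h
      rw [e2] at h1
      exfalso
      apply hau
      have h3 : a⁻¹ * (a * (a * u * a⁻¹) * a⁻¹) * a = a⁻¹ * (a * u * a⁻¹) * a := by rw [h1]
      have e3 : a⁻¹ * (a * (a * u * a⁻¹) * a⁻¹) * a = a * u * a⁻¹ := by group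
      have e4 : a⁻¹ * (a * u * a⁻¹) * a = u := by group
      rwa [e3, e4] at h3
  have hdinv : d⁻¹ = d := inv_eq_of_mul_eq_one_left hd2
  have hdA' : d ∈ A' := hVA' hdV
  -- the transvection property
  have htra : ∀ x ∈ V, a * x * a⁻¹ = x ∨ a * x * a⁻¹ = x * d := by
    let K : Subgroup L :=
      { carrier := {x | x ∈ A' ∧ (a * x * a⁻¹ = x ∨ a * x * a⁻¹ = x * d)}
        mul_mem' := by
          rintro x y ⟨hx, hx'⟩ ⟨hy, hy'⟩
          refine ⟨A'.mul_mem hx hy, ?_⟩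
          have e : a * (x * y) * a⁻¹ = (a * x * a⁻¹) * (a * y * a⁻¹) := by group
          rw [e]
          have hcd : d * y = y * d := hA'c d hdA' y hy
          rcases hx' with h1 | h1 <;> rcases hy' with h2 | h2 <;> rw [h1, h2]
          · left; rfl
          · right; rw [mul_assoc]
          · right; rw [mul_assoc, hcd, mul_assoc]
          · left; rw [mul_assoc, ← mul_assoc d y, hcd, mul_assoc y, hd2, mul_one]
        one_mem' := ⟨A'.one_mem, Or.inl (by group)⟩
        inv_mem' := by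
          rintro x ⟨hx, hx'⟩
          refine ⟨A'.inv_mem hx, ?_⟩
          have e : a * x⁻¹ * a⁻¹ = (a * x * a⁻¹)⁻¹ := by group
          rw [e]
          rcases hx' with h1 | h1 <;> rw [h1]
          · left; rfl
          · right
            rw [mul_inv_rev, hdinv]
            exact hA'c d hdA' _ (A'.inv_mem hx) }
    have hK : A' ≤ K := by
      refine sup_le ?_ (Subgroup.zpowers_le.2 ?_)
      · intro x hx
        refine ⟨hBA' hx, Or.inl ?_⟩
        rw [hMA.comm a ha x (hBA hx)]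
        group
      · refine ⟨huA', Or.inr ?_⟩
        rw [hdu]
        exact hA'c d hdA' u huA'
    exact fun x hx => (hK (hVA' hx)).2
  -- the quotient by the centralizer of `V`
  let CV : Subgroup L := Subgroup.centralizer (V : Set L)
  haveI hCVn : CV.Normal := inferInstance
  let π : L →* L ⧸ CV := QuotientGroup.mk' CV
  have hπ : Function.Surjective π := QuotientGroup.mk'_surjective CV
  have hπone : ∀ x, π x = 1 ↔ x ∈ CV := fun x => QuotientGroup.eq_one_iff x
  have haa : a * a ∈ CV := by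
    rw [Subgroup.mem_centralizer_iff]
    intro x hx
    have e : a * a * x = (a * (a * x * a⁻¹) * a⁻¹) * (a * a) := by group
    rw [e]
    have h2 : a * (a * x * a⁻¹) * a⁻¹ = x := by
      rcases htra x hx with h1 | h1 <;> rw [h1]
      · exact h1
      · have e5 : a * (x * d) * a⁻¹ = (a * x * a⁻¹) * (a * d * a⁻¹) := by group
        rw [e5, h1, had, mul_assoc, hd2, mul_one]
    rw [h2]
  have hπa : π a * π a = 1 := by
    rw [← map_mul]
    exact (hπone _).2 haa
  have hconjπ : ∀ h : L, π (h * a * h⁻¹) * π (h * a * h⁻¹) = 1 := by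
    intro h
    simp only [map_mul, map_inv]
    have e : π h * π a * (π h)⁻¹ * (π h * π a * (π h)⁻¹) = π h * (π a * π a) * (π h)⁻¹ := by group
    rw [e, hπa]
    group
  have hXp : IsPGroup 2 (Subgroup.zpowers (π a)) := by
    have := isPGroup_of_invol (π a) (π a) hπa hπa (by rw [hπa, one_pow])
    rw [sup_idem] at this
    exact this
  obtain ⟨N, hNn, hNp, hXN⟩ := Cfsg.Agent.Lib.BaerSuzuki.baer_suzuki (p := 2) (Subgroup.zpowers (π a)) hXp (by
    intro g'
    obtain ⟨h, rfl⟩ := hπ g'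
    have hmap : (Subgroup.zpowers (π a)).map (MulAut.conj (π h)).toMonoidHom = Subgroup.zpowers (π (h * a * h⁻¹)) := by
      rw [MonoidHom.map_zpowers]
      congr 1
    rw [hmap]
    refine isPGroup_of_invol _ _ hπa (hconjπ h) ?_
    rw [← map_mul, ← map_pow]
    exact (hπone _).2 (isPGroup_quot hS4 a d hdV hd2 hd1 hVc htra had h))
  -- all conjugates of `a` centralize `v`
  let P₀ : Sylow 2 L :=
    { toSubgroup := P
      isPGroup' := hP.pgrp
      is_maximal' := fun hQ hle => hP.eq_of_le le_top hQ hle }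
  haveI := hNn
  have hNle : N ≤ ((P₀.mapSurjective hπ : Sylow 2 (L ⧸ CV)) : Subgroup (L ⧸ CV)) :=
    hNp.le_sylow_of_normal _
  have hy : π (g⁻¹ * a * g) ∈ N := by
    have h1 : π a ∈ N := hXN (Subgroup.mem_zpowers _)
    have h2 := hNn.conj_mem _ h1 (π g⁻¹)
    simpa using h2
  obtain ⟨c, hcP, hcy⟩ := hNle hy
  have hc2 : c⁻¹ * (g⁻¹ * a * g) ∈ CV := by
    rw [← hπone, map_mul, map_inv, hcy]
    group
  have hc3 := Subgroup.mem_centralizer_iff.1 hc2 v hvV
  apply hau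
  have hc4 : (g⁻¹ * a * g) * v = c * v * (c⁻¹ * (g⁻¹ * a * g)) := by
    rw [mul_assoc c v, hc3]
    group
  have hc5 : c * v = v * c := hvc c hcP
  rw [hc5] at hc4
  have hc6 : (g⁻¹ * a * g) * v = v * (g⁻¹ * a * g) := by
    rw [hc4]
    group
  rw [hu]
  have e7 : a * (g * v * g⁻¹) * a⁻¹ = g * ((g⁻¹ * a * g) * v) * (g⁻¹ * a⁻¹ * g) * g⁻¹ := by group
  rw [e7, hc6]
  group

/-- The orbit-product argument in the normal closure. -/
theorem fix_aux [Finite L] {p : ℕ} [hp : Fact p.Prime] (v : L) (A : Subgroup L) (hA : IsPGroup p A)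
    (V : Subgroup L) [hVn : V.Normal]
    (hV : V = Subgroup.normalClosure {v}) (hVp : IsPGroup p V) (hVc : ∀ x ∈ V, ∀ y ∈ V, x * y = y * x)
    (hq : ∀ a ∈ A, ∀ b ∈ A, ∀ u ∈ V, b * (a * u * a⁻¹ * u⁻¹) * b⁻¹ = a * u * a⁻¹ * u⁻¹)
    (hv : ∀ a ∈ A, a * v * a⁻¹ = v)
    (huniq : ∀ g, (∀ a ∈ A, a * (g * v * g⁻¹) * a⁻¹ = g * v * g⁻¹) → g * v * g⁻¹ = v)
    (hgood : p = 2 → ∀ g, g * v * g⁻¹ ≠ v → ∀ a ∈ A, a * (g * v * g⁻¹) * a⁻¹ ≠ g * v * g⁻¹ →
      ∃ b ∈ A, b * (g * v * g⁻¹) * b⁻¹ ≠ g * v * g⁻¹ ∧ b * (g * v * g⁻¹) * b⁻¹ ≠ a * (g * v * g⁻¹) * a⁻¹) :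
    ∀ g, g * v * g⁻¹ = v := by
  classical
  haveI := Fintype.ofFinite L
  letI inst : CommGroup ↥V :=
    { (inferInstance : Group ↥V) with mul_comm := fun x y => Subtype.ext (hVc x x.2 y y.2) }
  have hvV : v ∈ V := by
    rw [hV]
    exact Subgroup.subset_normalClosure rfl
  let τ : L →* MulAut ↥V := MulAut.conjNormal
  have hτ : ∀ g (x : ↥V), ((τ g x : ↥V) : L) = g * x * g⁻¹ := fun g x => MulAut.conjNormal_apply g x
  have hgen : Subgroup.closure (Set.range (fun g : L => τ g ⟨v, hvV⟩)) = ⊤ := by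
    rw [eq_top_iff]
    rintro ⟨x, hx⟩ -
    have hle : V ≤ (Subgroup.closure (Set.range (fun g : L => τ g ⟨v, hvV⟩))).map V.subtype := by
      conv_lhs => rw [hV]
      refine Subgroup.closure_le _ |>.2 ?_
      intro y hy
      rw [Group.mem_conjugatesOfSet_iff] at hy
      obtain ⟨b, hb1, hb⟩ := hy
      have hb2 : b = v := hb1
      rw [hb2] at hb
      obtain ⟨c, hc⟩ := isConj_iff.1 hb
      refine ⟨τ c ⟨v, hvV⟩, Subgroup.subset_closure ⟨c, rfl⟩, ?_⟩
      rw [← hc]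
      exact hτ c ⟨v, hvV⟩
    obtain ⟨y, hy, hyx⟩ := hle hx
    have : y = ⟨x, hx⟩ := Subtype.ext hyx
    rwa [← this]
  have h := Cfsg.Agent.Lib.OrbitProd.fix_of_unique (M := ↥V) hVp τ A hA ⟨v, hvV⟩ hgen ?_ ?_ ?_ ?_
  · intro g
    exact congrArg Subtype.val (h g ⟨v, hvV⟩)
  · intro a ha b hb u
    exact Subtype.ext (hq a ha b hb u u.2)
  · intro a ha
    exact Subtype.ext (hv a ha)
  · intro g hg
    refine Subtype.ext (huniq g (fun a ha => ?_))
    exact congrArg Subtype.val (hg a ha)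
  · intro h2 g hg a ha hag
    obtain ⟨b, hb, h3, h4⟩ := hgood h2 g (fun h => hg (Subtype.ext h)) a ha (fun h => hag (Subtype.ext h))
    exact ⟨b, hb, fun h => h3 (congrArg Subtype.val h), fun h => h4 (congrArg Subtype.val h)⟩

/-- A Sylow subgroup of a subgroup `D`, seen inside `D`. -/
lemma isSyl_subgroupOf {p : ℕ} [Fact p.Prime] [Finite L] {T D : Subgroup L} (hT : IsSyl p T D) :
    IsSyl p (T.subgroupOf D) (⊤ : Subgroup ↥D) := by
  refine ⟨le_top, hT.pgrp.comap_of_injective D.subtype D.subtype_injective, fun U _ hU => ?_⟩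
  obtain ⟨h, hh, hc⟩ := hT.conj (U.map D.subtype) (Subgroup.map_subtype_le _) (hU.map _)
  refine ⟨⟨h, hh⟩, trivial, fun u hu => ?_⟩
  exact hc u ⟨u, hu, rfl⟩

/-- The local form of Glauberman's theorem for the Thompson subgroup. -/
theorem local_J {p : ℕ} [hp : Fact p.Prime] : ∀ (n : ℕ) (L : Type u) [Group L] [Finite L], Nat.card L = n →
    (p ≠ 2 ∨ ¬ Involves (Equiv.Perm (Fin 4)) L) →
    ∀ (P : Subgroup L) (v : L), IsSyl p P ⊤ → v ∈ pCore p L → (∀ x ∈ P, x * v = v * x) →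
      (∀ g ∈ NN (JJ P), g * v * g⁻¹ = v) → ∀ g, g * v * g⁻¹ = v := by
  intro n
  induction n using Nat.strong_induction_on with
  | _ n IH =>
  intro L _ _ hn hfree P v hP hvO hvc hvN
  haveI hOn : (pCore p L).Normal := pCore_normal p L
  have hOP : pCore p L ≤ P := Cfsg.Agent.Lib.ControlSec.normal_le_isSyl hP le_top
    (fun x _ => mem_NN_of_forall (fun y hy => hOn.conj_mem y hy x)) (isPGroup_pCore p)
  have hvP : v ∈ P := hOP hvO
  by_cases hall : ∀ A, MA P A → A ≤ pCore p L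
  · exact fun g => hvN g (JJ_normal hOP hall g)
  push Not at hall
  obtain ⟨A₀, hA₀, hA₀O⟩ := hall
  obtain ⟨A, hA, hAO, hmax, hZN⟩ := exists_quad P hP.pgrp hOP hA₀ hA₀O
  let C : Subgroup L := Subgroup.centralizer ({v} : Set L)
  have hCmem : ∀ g, g ∈ C ↔ g * v * g⁻¹ = v := by
    intro g
    rw [Subgroup.mem_centralizer_iff]
    constructor
    · intro h
      rw [mul_inv_eq_iff_eq_mul]
      exact (h v rfl).symm
    · rintro h _ rfl
      rw [mul_inv_eq_iff_eq_mul] at h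
      exact h.symm
  have hPC : P ≤ C := fun x hx => (hCmem x).2 (by rw [hvc x hx]; group)
  have hfixP : NN (JJ P) ≤ C := fun g hg => (hCmem g).2 (hvN g hg)
  have hloc : ∀ Q, RR P (pCore p L) Q → IsSyl p (P ⊓ NN Q) (NN Q) → NN Q ⊓ NN (JJ (P ⊓ NN Q)) ≤ C → NN Q ≤ C := by
    intro Q hQ hsyl hle
    have hQp : IsPGroup p Q := hP.pgrp.to_le hQ.1
    have hNQ : NN Q ≠ ⊤ := fun h => hQ.not_normal hQp (Subgroup.normalizer_eq_top_iff.1 h)
    have hcard : Nat.card ↥(NN Q) < n := by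
      rw [← hn]
      have h1 : NN Q < ⊤ := lt_top_iff_ne_top.2 hNQ
      have h2 := card_lt_of_lt' h1
      rwa [Subgroup.card_top] at h2
    have hvQ : v ∈ Q := hQ.mem hvP hvc
    have hfree' : p ≠ 2 ∨ ¬ Involves (Equiv.Perm (Fin 4)) ↥(NN Q) :=
      hfree.imp id (fun h h' => h (Cfsg.Agent.Lib.InvolvesAPI.involves_of_le h'))
    have hTle : (P ⊓ NN Q) ≤ NN Q := inf_le_right
    have hmapT : ((P ⊓ NN Q).subgroupOf (NN Q)).map (NN Q).subtype = P ⊓ NN Q := by
      rw [Subgroup.map_subgroupOf_eq_of_le hTle]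
    have hmain := IH _ hcard ↥(NN Q) rfl hfree' ((P ⊓ NN Q).subgroupOf (NN Q))
      ⟨v, Subgroup.le_normalizer hvQ⟩ (isSyl_subgroupOf hsyl) ?_ ?_ ?_
    · intro g hg
      have h1 := hmain ⟨g, hg⟩
      exact (hCmem g).2 (congrArg Subtype.val h1)
    · -- membership in the core
      have h1 : Q.subgroupOf (NN Q) ≤ pCore p ↥(NN Q) :=
        le_pCore Subgroup.normal_in_normalizer (hQp.comap_of_injective (NN Q).subtype (NN Q).subtype_injective)
      exact h1 (Subgroup.mem_subgroupOf.2 hvQ)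
    · rintro x hx
      exact Subtype.ext (hvc x (Subgroup.mem_subgroupOf.1 hx).1)
    · intro g hg
      have h1 : (g : L) ∈ NN (JJ (P ⊓ NN Q)) := by
        apply mem_NN_of_forall
        intro x hx
        rw [← hmapT, ← JJ_map (NN Q).subtype (NN Q).subtype_injective] at hx ⊢
        obtain ⟨y, hy, rfl⟩ := hx
        exact ⟨g * y * g⁻¹, conj_mem_of_mem_NN hg hy, rfl⟩
      have h2 := (hCmem g).1 (hle ⟨g.2, h1⟩)
      exact Subtype.ext h2
  have hfus := fusion_of_level hP hfixP hloc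
  have hRA : RR P (pCore p L) A := ⟨hA.le, A, hA, hAO, le_rfl⟩
  have huniq : ∀ g, (∀ a ∈ A, a * (g * v * g⁻¹) * a⁻¹ = g * v * g⁻¹) → g * v * g⁻¹ = v := by
    intro g hg
    have hA'C : cj g⁻¹ A ≤ C := by
      refine cj_le_iff.2 (fun a ha => (hCmem _).2 ?_)
      have h1 := hg a ha
      calc g⁻¹ * a * g⁻¹⁻¹ * v * (g⁻¹ * a * g⁻¹⁻¹)⁻¹ = g⁻¹ * (a * (g * v * g⁻¹) * a⁻¹) * g := by group
        _ = g⁻¹ * (g * v * g⁻¹) * g := by rw [h1]
        _ = v := by group
    have hsylC : IsSyl p P C := Cfsg.Agent.Lib.ControlSec.isSyl_of_le hP hPC le_top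
    obtain ⟨c, hc, hcc⟩ := hsylC.conj (cj g⁻¹ A) hA'C (isPGroup_cj (hP.pgrp.to_le hA.le) g⁻¹)
    have h2 : c * g⁻¹ ∈ C := by
      refine hfus A hRA _ (cj_le_iff.2 (fun a ha => ?_))
      have h3 := hcc _ (conj_mem_cj (g := g⁻¹) ha)
      have e : c * g⁻¹ * a * (c * g⁻¹)⁻¹ = c * (g⁻¹ * a * g⁻¹⁻¹) * c⁻¹ := by group
      rw [e]
      exact h3
    have h3 : g⁻¹ ∈ C := by
      have := C.mul_mem (C.inv_mem hc) h2
      simpa using this
    exact (hCmem g).1 (by simpa using C.inv_mem h3)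
  -- the centre of the core
  obtain ⟨Z, hZdef⟩ : ∃ Z, Z = (Subgroup.center ↥(pCore p L)).map (pCore p L).subtype := ⟨_, rfl⟩
  rw [← hZdef] at hmax hZN
  have hZmem : ∀ z, z ∈ Z ↔ z ∈ pCore p L ∧ ∀ x ∈ pCore p L, x * z = z * x := by
    intro z
    rw [hZdef]
    exact Cfsg.Agent.Lib.FusionLocalPow.mem_zcore
  haveI hZn : Z.Normal := by
    constructor
    intro z hz m
    rw [hZdef] at hz ⊢
    exact Cfsg.Agent.Lib.FusionLocalPow.zcore_conj hz m
  have hvZ : v ∈ Z := (hZmem v).2 ⟨hvO, fun x hx => hvc x (hOP hx)⟩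
  obtain ⟨V, hVdef⟩ : ∃ V, V = Subgroup.normalClosure ({v} : Set L) := ⟨_, rfl⟩
  haveI hVn : V.Normal := by rw [hVdef]; infer_instance
  have hVZ : V ≤ Z := by
    rw [hVdef]
    exact Subgroup.normalClosure_le_normal (by simpa using hvZ)
  have hZO : Z ≤ pCore p L := fun z hz => ((hZmem z).1 hz).1
  have hVc : ∀ a ∈ V, ∀ b ∈ V, a * b = b * a := fun a ha b hb =>
    ((hZmem b).1 (hVZ hb)).2 a (hZO (hVZ ha))
  have hvV : v ∈ V := by
    rw [hVdef]
    exact Subgroup.subset_normalClosure rfl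
  refine fix_aux v A (hP.pgrp.to_le hA.le) V hVdef ((isPGroup_pCore p).to_le (hVZ.trans hZO)) hVc ?_ ?_ huniq ?_
  · intro a ha b hb u hu
    have hd : a * u * a⁻¹ * u⁻¹ ∈ A := by
      have h1 : u * a⁻¹ * u⁻¹ ∈ A := conj_mem_of_mem_NN (hZN (hVZ hu)) (A.inv_mem ha)
      have h2 : a * u * a⁻¹ * u⁻¹ = a * (u * a⁻¹ * u⁻¹) := by group
      rw [h2]
      exact A.mul_mem ha h1
    rw [hA.comm b hb _ hd]
    group
  · intro a ha
    rw [hvc a (hA.le ha)]
    group
  · intro h2 g _ a ha hag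
    subst h2
    have hS4 : ¬ Involves (Equiv.Perm (Fin 4)) L := hfree.resolve_left (by simp)
    exact good_case hS4 hP hvV hvc hZO hOP (fun z hz x hx => ((hZmem z).1 hz).2 x hx) hA hmax hZN hVZ g a ha hag

end Cfsg.Agent.Lib.FusionJLocal2
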