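/-
FusionZFactor: for odd `p`, the centre of a saturated fusion system is a direct factor of `Z(S)`; more generally the centre
of a constrained system is.
-/
import Mathlib
import Cfsg.Agent.Lib.AgemoZ
import Cfsg.Agent.Lib.FusionCentralElt
import Cfsg.Agent.Lib.FusionTrfApps
import Cfsg.Agent.Lib.FusionJLocal
import Cfsg.Agent.S5193

set_option autoImplicit false

namespace Cfsg.Agent.Lib.FusionZFactor

open Cfsg Cfsg.FusionSystem Cfsg.Agent.Lib.FusionCore Cfsg.Agent.Lib.FusionCore2 Cfsg.Agent.Lib.FusionCentralElt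
open Cfsg.Agent.Lib.PCore Cfsg.Agent.Lib.AgemoZ

universe u

section Trace

variable {K A : Type*} [Group K] [Finite K] [Group A]

open Classical in
/-- **The trace map**. -/
theorem exists_trace_hom (hcomm : ∀ a b : A, a * b = b * a) (ρ : K →* MulAut A) (D : Subgroup K) :
    ∃ τ : A → A, (∀ z w, τ (z * w) = τ z * τ w) ∧ (∀ z, (∀ d ∈ D, ρ d z = z) → ∀ k : K, ρ k (τ z) = τ z) ∧
      ∀ z, (∀ k : K, ρ k z = z) → τ z = z ^ D.index := by
  letI : CommGroup A := { (inferInstance : Group A) with mul_comm := hcomm }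
  haveI : Fintype (K ⧸ D) := Fintype.ofFinite _
  have hout : ∀ (z : A), (∀ d ∈ D, ρ d z = z) → ∀ (k : K) (q : K ⧸ D), ρ k (ρ q.out z) = ρ (k • q).out z := by
    intro z hz k q
    have h1 : ((k * q.out : K) : K ⧸ D) = k • q := by
      conv_rhs => rw [← QuotientGroup.out_eq' q]
      rfl
    have h2 : ((k • q).out)⁻¹ * (k * q.out) ∈ D := by
      rw [← QuotientGroup.eq, QuotientGroup.out_eq', h1]
    have h3 := hz _ h2
    have h4 : ρ (k * q.out) z = ρ (k • q).out (ρ (((k • q).out)⁻¹ * (k * q.out)) z) := by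
      rw [← MulAut.mul_apply, ← map_mul]
      simp
    rw [h3] at h4
    rw [← MulAut.mul_apply, ← map_mul, h4]
  refine ⟨fun z => ∏ q : K ⧸ D, ρ q.out z, fun z w => ?_, fun z hz k => ?_, fun z hz => ?_⟩
  · show ∏ q : K ⧸ D, ρ q.out (z * w) = (∏ q : K ⧸ D, ρ q.out z) * ∏ q : K ⧸ D, ρ q.out w
    rw [← Finset.prod_mul_distrib]
    exact Finset.prod_congr rfl fun q _ => map_mul _ _ _
  · show ρ k (∏ q : K ⧸ D, ρ q.out z) = ∏ q : K ⧸ D, ρ q.out z
    rw [map_prod]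
    rw [Finset.prod_congr rfl (fun q _ => hout z hz k q)]
    exact Fintype.prod_equiv (MulAction.toPerm k) _ _ (fun q => rfl)
  · show ∏ q : K ⧸ D, ρ q.out z = _
    rw [Finset.prod_congr rfl (fun q _ => hz _), Finset.prod_const, Finset.card_univ,
      Subgroup.index_eq_card, Nat.card_eq_fintype_card]

end Trace

section Local

variable {L : Type*} [Group L] [Finite L] {p : ℕ} [hp : Fact p.Prime]

/-- The trace of `L` over a Sylow subgroup on the centre of the Sylow subgroup. -/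
theorem exists_local_trace (P : Sylow p L) (hC : Subgroup.centralizer ((pCore p L : Subgroup L) : Set L) ≤ pCore p L) :
    ∃ (τ : L → L) (m : ℕ), ¬ p ∣ m ∧ (∀ v ∈ Zc (P : Subgroup L), ∀ g : L, g * τ v * g⁻¹ = τ v) ∧
      (∀ v ∈ Zc (P : Subgroup L), τ v ∈ pCore p L) ∧
      (∀ v ∈ Zc (P : Subgroup L), ∀ w ∈ Zc (P : Subgroup L), τ (v * w) = τ v * τ w) ∧
      ∀ v ∈ Zc (P : Subgroup L), (∀ g : L, g * v * g⁻¹ = v) → τ v = v ^ m := by
  classical
  haveI hOn : (pCore p L).Normal := by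
    haveI := pCore_characteristic (G := L) p
    exact Subgroup.normal_of_characteristic _
  let A : Subgroup L := pCore p L ⊓ Subgroup.centralizer ((pCore p L : Subgroup L) : Set L)
  haveI hAn : A.Normal := by
    refine ⟨fun x hx a => ⟨hOn.conj_mem x hx.1 a, ?_⟩⟩
    show a * x * a⁻¹ ∈ Subgroup.centralizer _
    rw [Subgroup.mem_centralizer_iff]
    intro o ho
    have h1 := Subgroup.mem_centralizer_iff.1 hx.2 _ (hOn.conj_mem o ho a⁻¹)
    have h2 : a⁻¹ * o * a⁻¹⁻¹ * x = x * (a⁻¹ * o * a⁻¹⁻¹) := h1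
    calc o * (a * x * a⁻¹) = a * (a⁻¹ * o * a⁻¹⁻¹ * x) * a⁻¹ := by group
      _ = a * (x * (a⁻¹ * o * a⁻¹⁻¹)) * a⁻¹ := by rw [h2]
      _ = _ := by group
  have hAc : ∀ a b : A, a * b = b * a := fun a b => Subtype.ext (by
    have := Subgroup.mem_centralizer_iff.1 b.2.2 _ a.2.1
    exact this)
  have hOP : pCore p L ≤ (P : Subgroup L) := pCore_le_sylow p P
  have hvA : ∀ v ∈ Zc (P : Subgroup L), v ∈ A := by
    intro v hv
    have hvc : v ∈ Subgroup.centralizer ((pCore p L : Subgroup L) : Set L) := by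
      rw [Subgroup.mem_centralizer_iff]
      intro o ho
      exact hv.2 o (hOP ho)
    exact ⟨hC hvc, hvc⟩
  let ρ : L →* MulAut A := MulAut.conjNormal
  have hρ : ∀ (k : L) (x : A), ((ρ k x : A) : L) = k * x * k⁻¹ := fun k x => MulAut.conjNormal_apply _ _
  obtain ⟨τ, h1, h2, h3⟩ := exists_trace_hom hAc ρ (P : Subgroup L)
  let τ' : L → L := fun v => if h : v ∈ A then (τ ⟨v, h⟩ : L) else 1
  have hτ' : ∀ v (h : v ∈ A), τ' v = (τ ⟨v, h⟩ : L) := fun v h => dif_pos h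
  have hfix : ∀ v (hv : v ∈ Zc (P : Subgroup L)), ∀ d ∈ (P : Subgroup L), ρ d ⟨v, hvA v hv⟩ = ⟨v, hvA v hv⟩ := by
    intro v hv d hd
    apply Subtype.ext
    rw [hρ]
    show d * v * d⁻¹ = v
    rw [hv.2 d hd]
    group
  refine ⟨τ', (P : Subgroup L).index, P.not_dvd_index, ?_, ?_, ?_, ?_⟩
  · intro v hv g
    rw [hτ' v (hvA v hv)]
    have := h2 _ (hfix v hv) g
    rw [← hρ, this]
  · intro v hv
    rw [hτ' v (hvA v hv)]
    exact (τ _).2.1
  · intro v hv w hw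
    have hvw : v * w ∈ A := A.mul_mem (hvA v hv) (hvA w hw)
    rw [hτ' _ hvw, hτ' v (hvA v hv), hτ' w (hvA w hw)]
    have e : (⟨v * w, hvw⟩ : A) = ⟨v, hvA v hv⟩ * ⟨w, hvA w hw⟩ := rfl
    rw [e, h1]
    rfl
  · intro v hv hc
    rw [hτ' v (hvA v hv), h3]
    · rfl
    · intro k
      apply Subtype.ext
      rw [hρ]
      exact hc k

end Local

section Constrained

variable {Ω : Type u} [Group Ω] {T : Subgroup Ω} [Finite T] {p : ℕ} [hp : Fact p.Prime]

/-- The centre of a constrained saturated system is a direct factor of the centre of the Sylow subgroup. -/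
theorem constrained (hT : IsPGroup p T) (E : FusionSystem T) (hEs : E.IsSaturated p) {Q : Subgroup Ω}
    (hQN : E.IsNormal Q) (hQC : E.IsCentric Q) :
    ∃ K : Subgroup Ω, K ≤ T ⊓ Subgroup.centralizer (T : Set Ω) ∧ E.center ⊓ K = ⊥ ∧
      E.center ⊔ K = T ⊓ Subgroup.centralizer (T : Set Ω) := by
  classical
  obtain ⟨L, instL, ι, hM⟩ := Cfsg.Agent.Lib.FusionModel.exists_model hT hEs hQN hQC
  have hLf : Finite L := hM.1
  have hι := hM.2.1
  obtain ⟨P₀, hP₀⟩ := hM.2.2.1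
  have hC := hM.2.2.2
  obtain ⟨τ, m, hm, ht1, ht2, ht3, ht4⟩ := exists_local_trace P₀ hC
  have hOr : (pCore p L : Subgroup L) ≤ ι.range := by
    rw [← hP₀]
    exact pCore_le_sylow p P₀
  have hZc : ∀ z (hz : z ∈ T), z ∈ Subgroup.centralizer (T : Set Ω) → ι ⟨z, hz⟩ ∈ Zc (P₀ : Subgroup L) := by
    intro z hz hzc
    refine ⟨by rw [hP₀]; exact ⟨_, rfl⟩, fun x hx => ?_⟩
    rw [hP₀] at hx
    obtain ⟨t, rfl⟩ := hx
    rw [← map_mul, ← map_mul]
    congr 1
    exact Subtype.ext (Subgroup.mem_centralizer_iff.1 hzc t t.2)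
  have hcen : ∀ z ∈ E.center, z ∈ T ∧ z ∈ Subgroup.centralizer (T : Set Ω) := by
    intro z hz
    have hzT : z ∈ T := Cfsg.Agent.Lib.FusionTrfApps.center_le hz
    refine ⟨hzT, Subgroup.mem_centralizer_iff.2 fun g hg => ?_⟩
    have h1 : Maps E T (fun x => g * x * g⁻¹) := Maps.conj le_rfl hg
    have h2 : g * z * g⁻¹ = z := Cfsg.Agent.Lib.FusionTrfApps.center_fixed hz h1 hzT
    calc g * z = g * z * g⁻¹ * g := by group
      _ = z * g := by rw [h2]
  have ha : ∀ z (hz : z ∈ T), z ∈ E.center → ∀ g : L, g * ι ⟨z, hz⟩ * g⁻¹ = ι ⟨z, hz⟩ := by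
    intro z hz hzc g
    have hcz := (hcen z hzc).2
    have hv := hZc z hz hcz
    have hvO : ι ⟨z, hz⟩ ∈ pCore p L := by
      apply hC
      rw [Subgroup.mem_centralizer_iff]
      intro o ho
      have : o ∈ (P₀ : Subgroup L) := pCore_le_sylow p P₀ ho
      exact hv.2 o this
    haveI hOn : (pCore p L).Normal := by
      haveI := pCore_characteristic (G := L) p
      exact Subgroup.normal_of_characteristic _
    have hzp : Subgroup.zpowers z ≤ T := Subgroup.zpowers_le.2 hz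
    have hrange : ∀ x (hx : x ∈ Subgroup.zpowers z), g * ι ⟨x, hzp hx⟩ * g⁻¹ ∈ ι.range := by
      rintro _ ⟨n, rfl⟩
      apply hOr
      apply hOn.conj_mem
      have e : (⟨z ^ n, hzp ⟨n, rfl⟩⟩ : T) = (⟨z, hz⟩ : T) ^ n := rfl
      simp only [e, map_zpow]
      exact Subgroup.zpow_mem _ hvO n
    have hm1 := Cfsg.Agent.Lib.FusionMono.maps_cf hι hzp g hrange
    have h2 := Cfsg.Agent.Lib.FusionTrfApps.center_fixed hzc hm1 (Subgroup.mem_zpowers z)
    have h3 := Cfsg.Agent.Lib.FusionMono.ι_cf (ι := ι) g hz (hrange z (Subgroup.mem_zpowers z))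
    rw [← h3]
    congr 2
  have hb : ∀ z (hz : z ∈ T), (∀ g : L, g * ι ⟨z, hz⟩ * g⁻¹ = ι ⟨z, hz⟩) → z ∈ E.center := by
    intro z hz hg
    have hzp : Subgroup.zpowers z ≤ T := Subgroup.zpowers_le.2 hz
    have hcent : E.IsCentral (Subgroup.zpowers z) := by
      refine (Cfsg.Agent.Lib.FusionCore3.isCentral_iff_conjElt hEs).2 ⟨hzp, ?_⟩
      rintro _ ⟨n, rfl⟩ y ⟨φ, hφ, rfl⟩
      have hφm := Maps.of_mem hφ
      obtain ⟨g, hgφ⟩ := Cfsg.Agent.Lib.FusionMono.real_of_maps hι hφm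
      have hx : z ^ n ∈ Subgroup.zpowers (z ^ n) := Subgroup.mem_zpowers _
      have h := hgφ (z ^ n) hx
      have e : (⟨z ^ n, hφm.le hx⟩ : T) = (⟨z, hz⟩ : T) ^ n := rfl
      have hcm : Commute g (ι ⟨z, hz⟩) := by
        have := hg g
        show g * _ = _ * g
        calc g * ι ⟨z, hz⟩ = (g * ι ⟨z, hz⟩ * g⁻¹) * g := by group
          _ = _ := by rw [this]
      have hcz := (hcm.zpow_right n).eq
      rw [e, map_zpow] at h
      have h' : ι ⟨fn φ (z ^ n), hφm.mem hx⟩ = ι ((⟨z, hz⟩ : T) ^ n) := by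
        rw [h, map_zpow, hcz]
        group
      have h2 := congrArg Subtype.val (hι.1 h')
      have h3 : fn φ (z ^ n) = z ^ n := h2
      show φ ⟨z ^ n, hx⟩ = z ^ n
      rw [← fn_of_mem φ hx]
      exact h3
    have hle : Subgroup.zpowers z ≤ E.center := le_sSup hcent
    exact hle (Subgroup.mem_zpowers z)
  have hmul : ∀ a b : T, (a : Ω) ∈ Subgroup.centralizer (T : Set Ω) → (b : Ω) ∈ Subgroup.centralizer (T : Set Ω) →
      τ (ι (a * b)) = τ (ι a) * τ (ι b) := by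
    intro a b ha' hb'
    rw [map_mul]
    exact ht3 _ (hZc _ a.2 ha') _ (hZc _ b.2 hb')
  have hcent1 : (1 : Ω) ∈ Subgroup.centralizer (T : Set Ω) := Subgroup.one_mem _
  have hone : τ 1 = 1 := by
    have h := hmul 1 1 hcent1 hcent1
    simp only [mul_one, map_one] at h
    exact (mul_eq_left.1 h.symm)
  have hinv : ∀ a : T, (a : Ω) ∈ Subgroup.centralizer (T : Set Ω) → τ (ι a⁻¹) = (τ (ι a))⁻¹ := by
    intro a ha'
    have h := hmul a⁻¹ a (Subgroup.inv_mem _ ha') ha'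
    rw [inv_mul_cancel, map_one, hone] at h
    exact eq_inv_of_mul_eq_one_left h.symm
  let K : Subgroup Ω :=
    { carrier := {z | ∃ hz : z ∈ T, z ∈ Subgroup.centralizer (T : Set Ω) ∧ τ (ι ⟨z, hz⟩) = 1}
      one_mem' := ⟨T.one_mem, hcent1, by
        have : (⟨1, T.one_mem⟩ : T) = 1 := rfl
        rw [this, map_one, hone]⟩
      mul_mem' := by
        rintro a b ⟨h1, h2, h3⟩ ⟨h4, h5, h6⟩
        refine ⟨T.mul_mem h1 h4, Subgroup.mul_mem _ h2 h5, ?_⟩
        have := hmul ⟨a, h1⟩ ⟨b, h4⟩ h2 h5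
        rw [h3, h6, mul_one] at this
        exact this
      inv_mem' := by
        rintro a ⟨h1, h2, h3⟩
        refine ⟨T.inv_mem h1, Subgroup.inv_mem _ h2, ?_⟩
        have := hinv ⟨a, h1⟩ h2
        rw [h3, inv_one] at this
        exact this }
  have hKmem : ∀ z, z ∈ K ↔ ∃ hz : z ∈ T, z ∈ Subgroup.centralizer (T : Set Ω) ∧ τ (ι ⟨z, hz⟩) = 1 :=
    fun _ => Iff.rfl
  have hKle : K ≤ T ⊓ Subgroup.centralizer (T : Set Ω) := by
    intro z hz
    obtain ⟨h1, h2, -⟩ := (hKmem z).1 hz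
    exact ⟨h1, h2⟩
  have hCle : E.center ≤ T ⊓ Subgroup.centralizer (T : Set Ω) := fun z hz => hcen z hz
  have hcop : ∀ a : T, Nat.Coprime m (orderOf a) := by
    intro a
    obtain ⟨k, hk⟩ := hT a
    have h1 : Nat.Coprime m (p ^ k) :=
      Nat.Coprime.pow_right k ((Nat.Prime.coprime_iff_not_dvd hp.out).2 hm).symm
    exact Nat.Coprime.coprime_dvd_right (orderOf_dvd_of_pow_eq_one hk) h1
  refine ⟨K, hKle, ?_, le_antisymm (sup_le hCle hKle) ?_⟩
  · rw [eq_bot_iff]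
    rintro z ⟨hzc, hzK⟩
    obtain ⟨hz, hzcc, hτ⟩ := (hKmem z).1 hzK
    rw [Subgroup.mem_bot]
    have h1 := ht4 _ (hZc z hz hzcc) (ha z hz hzc)
    rw [hτ, ← map_pow] at h1
    have h2 : (⟨z, hz⟩ : T) ^ m = 1 := hι.1 (by rw [← h1, map_one])
    have h3 := orderOf_dvd_of_pow_eq_one h2
    have h4 : orderOf (⟨z, hz⟩ : T) = 1 :=
      Nat.eq_one_of_dvd_coprimes (hcop _).symm dvd_rfl h3
    have h5 := orderOf_eq_one_iff.1 h4
    exact congrArg Subtype.val h5
  · rintro z ⟨hz, hzc⟩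
    have hv := hZc z hz hzc
    obtain ⟨z', hz'⟩ := hOr (ht2 _ hv)
    have hz'c : (z' : Ω) ∈ E.center := by
      apply hb z' z'.2
      intro g
      have e : (⟨(z' : Ω), z'.2⟩ : T) = z' := rfl
      rw [e, hz']
      exact ht1 _ hv g
    obtain ⟨e, he⟩ := exists_pow_eq_self_of_coprime (hcop z')
    have hz0c : ((z' ^ e : T) : Ω) ∈ E.center := by
      rw [Subgroup.coe_pow]
      exact Subgroup.pow_mem _ hz'c e
    have hz0 := hCle hz0c
    have hτ0 : τ (ι (z' ^ e)) = τ (ι ⟨z, hz⟩) := by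
      have h1 := ht4 _ (hZc _ (z' ^ e).2 hz0.2) (ha _ (z' ^ e).2 hz0c)
      have e1 : (⟨((z' ^ e : T) : Ω), (z' ^ e).2⟩ : T) = z' ^ e := rfl
      rw [e1] at h1
      rw [h1, ← map_pow, ← pow_mul, mul_comm, pow_mul, he, hz']
    have hwK : ((z' ^ e : T) : Ω)⁻¹ * z ∈ K := by
      rw [hKmem]
      refine ⟨T.mul_mem (T.inv_mem hz0.1) hz, Subgroup.mul_mem _ (Subgroup.inv_mem _ hz0.2) hzc, ?_⟩
      have h1 := hmul (z' ^ e)⁻¹ ⟨z, hz⟩ (Subgroup.inv_mem _ hz0.2) hzc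
      rw [hinv _ hz0.2, hτ0, inv_mul_cancel] at h1
      exact h1
    have : z = ((z' ^ e : T) : Ω) * (((z' ^ e : T) : Ω)⁻¹ * z) := by group
    rw [this]
    exact Subgroup.mul_mem_sup hz0c hwK

end Constrained

section Main

variable {Ω : Type u} [Group Ω] {S : Subgroup Ω} [Finite S] {p : ℕ} [hp : Fact p.Prime]

open Cfsg.Agent.S5193 Cfsg.Agent.Lib.FusionJLocal

/-- The centralizer of the Thompson subgroup lies in it. -/
theorem cent_JJ_le :
    centralizerIn S (JJ S) ≤ JJ S := by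
  obtain ⟨A, hA⟩ := Cfsg.Agent.Lib.AbReplace.exists_mem_max (S := S)
  have hMA := MA.of_mem hA
  intro c hc
  obtain ⟨hcS, hcc⟩ := mem_centralizerIn.1 hc
  have h1 : Subgroup.zpowers (⟨c, hcS⟩ : S) ≤ A := by
    refine Cfsg.Agent.Lib.AbReplace.le_of_centralizes hA ?_ ?_
    · rintro _ ⟨m, rfl⟩ _ ⟨n, rfl⟩
      simp only
      rw [← zpow_add, ← zpow_add, add_comm]
    · rintro a ha _ ⟨n, rfl⟩
      simp only
      have hc' : Commute a (⟨c, hcS⟩ : S) := by
        apply Subtype.ext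
        exact hcc a (hMA.le_JJ ⟨a, ha, rfl⟩)
      exact (hc'.zpow_right n).eq
  exact hMA.le_JJ ⟨_, h1 (Subgroup.mem_zpowers _), rfl⟩

/-- **The centre of a saturated fusion system at an odd prime is a direct factor of `Z(S)`.** -/
theorem main (hp2 : p ≠ 2) (hS : IsPGroup p S) (F : FusionSystem S) (hF : F.IsSaturated p) :
    ∃ K : Subgroup Ω, K ≤ (S ⊓ Subgroup.centralizer (S : Set Ω)) ∧ F.center ⊓ K = ⊥ ∧
      F.center ⊔ K = (S ⊓ Subgroup.centralizer (S : Set Ω)) := by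
  have hW2 := hW2' (p := p)
  have hQS : JJ S ≤ S := Subgroup.map_subtype_le _
  obtain ⟨N, hN⟩ := exists_normalizerSystem (F := F) hQS
  have hSN : S ≤ normalizerIn S (JJ S) := S_le_norm (W := fun (Q : Type u) [Group Q] => thompsonSubgroupA Q) hW2 hS
  have hTS : normalizerIn S (JJ S) ≤ S := inf_le_left
  have hTeq : normalizerIn S (JJ S) = S := le_antisymm hTS hSN
  haveI : Finite (normalizerIn S (JJ S)) := finite_of_le hTS
  have hT : IsPGroup p (normalizerIn S (JJ S)) := hS.to_le hTS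
  have hNs := Cfsg.Agent.Lib.FusionSatNorm.saturated_normalizer hS hF
    (fullyNormalized_W (W := fun (Q : Type u) [Group Q] => thompsonSubgroupA Q) hW2 hS) hN
  have hQN : N.IsNormal (JJ S) := Cfsg.Agent.Lib.FusionGT.isNormal_normalizerSystem hQS hN
  have hQC : N.IsCentric (JJ S) := by
    refine ⟨le_normalizerIn hQS, fun Q' hQ' => ?_⟩
    rw [Cfsg.Agent.Lib.FusionGT.conj_eq_of_isNormal hQN hQ']
    intro c hc
    exact cent_JJ_le (mem_centralizerIn.2 ⟨hTS (mem_centralizerIn.1 hc).1, (mem_centralizerIn.1 hc).2⟩)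
  obtain ⟨K, h1, h2, h3⟩ := constrained hT N hNs hQN hQC
  have hc : N.center = F.center := (Cfsg.Agent.S5193.main p hS F hF N hN).2 (Or.inl hp2)
  rw [hc] at h2 h3
  rw [hTeq] at h1 h3
  exact ⟨K, h1, h2, h3⟩

end Main

end Cfsg.Agent.Lib.FusionZFactor
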