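/-
FusionAgemoJ: a saturated fusion system is generated by the centralizer system of `℧¹(Z(S))` and the normalizer system
of `J(S)`.
-/
import Mathlib
import Cfsg.Agent.Lib.AgemoJ
import Cfsg.Agent.Lib.FusionZFactor

set_option autoImplicit false

namespace Cfsg.Agent.Lib.FusionAgemoJ

open Cfsg Cfsg.FusionSystem Cfsg.Agent.Lib.FusionCore Cfsg.Agent.Lib.FusionCore2 Cfsg.Agent.Lib.FusionCentralElt
open Cfsg.Agent.Lib.PCore Cfsg.Agent.Lib.AgemoZ Cfsg.Agent.Lib.AgemoJ Cfsg.Agent.Lib.FusionJLocal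
open Cfsg.Agent.Lib.FusionMono Cfsg.Agent.Lib.AlperinControl

universe u v

section Helpers

variable {Ω : Type u} [Group Ω] {U : Subgroup Ω} {L : Type v} [Group L] (ι : U →* L)

/-- The condition "conjugating into the range" is closed under products. -/
lemma sup_range {X₁ X₂ : Subgroup Ω} (h₁ : X₁ ≤ U) (h₂ : X₂ ≤ U) (d : L)
    (h1 : ∀ x (hx : x ∈ X₁), d * ι ⟨x, h₁ hx⟩ * d⁻¹ ∈ ι.range)
    (h2 : ∀ x (hx : x ∈ X₂), d * ι ⟨x, h₂ hx⟩ * d⁻¹ ∈ ι.range) :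
    ∀ x (hx : x ∈ X₁ ⊔ X₂), d * ι ⟨x, (sup_le h₁ h₂) hx⟩ * d⁻¹ ∈ ι.range := by
  let Y : Subgroup Ω := (ι.range.comap ((MulAut.conj d).toMonoidHom.comp ι)).map U.subtype
  have h3 : X₁ ⊔ X₂ ≤ Y := by
    refine sup_le (fun x hx => ⟨⟨x, h₁ hx⟩, ?_, rfl⟩) (fun x hx => ⟨⟨x, h₂ hx⟩, ?_, rfl⟩)
    · exact h1 x hx
    · exact h2 x hx
  intro x hx
  obtain ⟨u, hu, rfl⟩ := h3 hx
  exact hu

end Helpers

section Local

variable {Ω : Type u} [Group Ω] {S : Subgroup Ω} {F : FusionSystem S} {p : ℕ} [hp : Fact p.Prime]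

/-- The subgroup `℧¹(Z(S))`. -/
abbrev VV (S : Subgroup Ω) (p : ℕ) : Subgroup Ω := powerClosure p 1 (S ⊓ Subgroup.centralizer (S : Set Ω))

lemma VV_le : VV S p ≤ S ⊓ Subgroup.centralizer (S : Set Ω) := by
  refine (Subgroup.closure_le _).2 ?_
  rintro _ ⟨z, hz, rfl⟩
  exact Subgroup.pow_mem _ hz _

/-- **The local factorization**. -/
theorem local_factor [Finite S] (hS : IsPGroup p S) (hF : F.IsSaturated p) {Q : Subgroup Ω}
    (hQn : F.IsFullyNormalized Q) (hQC : centralizerIn S Q ≤ Q)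
    {R : Subgroup Ω} {f : Ω → Ω} (hRU : R ≤ normalizerIn S Q) (hf : Maps F (R ⊔ Q) f) (hfQ : img f Q = Q)
    (hfU : ∀ x ∈ R, f x ∈ normalizerIn S Q) :
    ∃ f₁ f₂ : Ω → Ω, Maps F (R ⊔ JJ (normalizerIn S Q)) f₁ ∧ (∀ x ∈ R, f₁ x ∈ normalizerIn S Q) ∧
      (∀ x ∈ JJ (normalizerIn S Q), f₁ x ∈ JJ (normalizerIn S Q)) ∧
      Maps F (img f₁ R ⊔ VV S p) f₂ ∧ (∀ v ∈ VV S p, f₂ v = v) ∧ ∀ x ∈ R, f₂ (f₁ x) = f x := by
  classical
  have hQS := hQn.1
  haveI : Finite Q := finite_of_le hQS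
  have hUS : normalizerIn S Q ≤ S := inf_le_left
  haveI : Finite (normalizerIn S Q) := finite_of_le hUS
  have hU : IsPGroup p (normalizerIn S Q) := hS.to_le hUS
  obtain ⟨E, hE⟩ := exists_normalizerSystem (F := F) hQS
  have hEs := Cfsg.Agent.Lib.FusionSatNorm.saturated_normalizer hS hF hQn hE
  have hQN : E.IsNormal Q := Cfsg.Agent.Lib.FusionGT.isNormal_normalizerSystem hQS hE
  have hQC' : E.IsCentric Q := by
    refine ⟨le_normalizerIn hQS, fun Q' hQ' => ?_⟩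
    rw [Cfsg.Agent.Lib.FusionGT.conj_eq_of_isNormal hQN hQ']
    intro c hc
    exact hQC (mem_centralizerIn.2 ⟨hUS (mem_centralizerIn.1 hc).1, (mem_centralizerIn.1 hc).2⟩)
  obtain ⟨L, instL, ι, hM⟩ := Cfsg.Agent.Lib.FusionModel.exists_model hU hEs hQN hQC'
  have hLf : Finite L := hM.1
  have hι := hM.2.1
  obtain ⟨P₀, hP₀⟩ := hM.2.2.1
  have hC := hM.2.2.2
  have hfE : Maps E R f := (Cfsg.Agent.Lib.FusionGT.maps_norm_iff hE).2
    ⟨hf.restrict le_sup_left, hRU, hfU, f, hf, fun _ _ => rfl, hfQ⟩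
  obtain ⟨g, hg⟩ := real_of_maps hι hfE
  let R' : Subgroup L := (R.subgroupOf (normalizerIn S Q)).map ι
  have hR'P : R' ≤ (P₀ : Subgroup L) := by
    rintro _ ⟨r, -, rfl⟩
    rw [hP₀]
    exact ⟨r, rfl⟩
  have hg' : ∀ r ∈ R', g * r * g⁻¹ ∈ (P₀ : Subgroup L) := by
    rintro _ ⟨⟨r, hrU⟩, hr, rfl⟩
    have hr' : r ∈ R := Subgroup.mem_subgroupOf.1 hr
    rw [← hg r hr', hP₀]
    exact ⟨_, rfl⟩
  obtain ⟨k, hk, d, hd, hgkd, hdR⟩ := fusion_factor P₀ hC hR'P hg'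
  subst hgkd
  -- the Thompson subgroup
  let φ : normalizerIn S Q ≃* ↥(P₀ : Subgroup L) :=
    (MonoidHom.ofInjective hι.1).trans (MulEquiv.subgroupCongr hP₀.symm)
  have hφ : ∀ t, ((φ t : ↥(P₀ : Subgroup L)) : L) = ι t := fun _ => rfl
  have hWP : JJ (P₀ : Subgroup L) = (thompsonSubgroupA ↥(normalizerIn S Q)).map ι := by
    rw [JJ, ← Cfsg.Agent.Lib.FusionGT.thompsonA_map φ, Subgroup.map_map]
    congr 1
  have hJU : JJ (normalizerIn S Q) ≤ normalizerIn S Q := Subgroup.map_subtype_le _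
  have hXU : R ⊔ JJ (normalizerIn S Q) ≤ normalizerIn S Q := sup_le hRU hJU
  have hdJ : ∀ x (hx : x ∈ JJ (normalizerIn S Q)), d * ι ⟨x, hJU hx⟩ * d⁻¹ ∈ JJ (P₀ : Subgroup L) := by
    rintro _ ⟨t, ht, rfl⟩
    apply conj_mem_of_mem_NN hd
    rw [hWP]
    exact ⟨t, ht, rfl⟩
  have hrange : ∀ x (hx : x ∈ R ⊔ JJ (normalizerIn S Q)), d * ι ⟨x, hXU hx⟩ * d⁻¹ ∈ ι.range := by
    refine sup_range ι hRU hJU d (fun x hx => ?_) (fun x hx => ?_)
    · have := hdR _ (show ι ⟨x, hRU hx⟩ ∈ R' from ⟨⟨x, hRU hx⟩, Subgroup.mem_subgroupOf.2 hx, rfl⟩)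
      rwa [hP₀] at this
    · have := hdJ x hx
      rw [hWP] at this
      obtain ⟨t, -, ht⟩ := this
      exact ⟨t, ht⟩
  have hm1E : Maps E (R ⊔ JJ (normalizerIn S Q)) (cf ι d) := maps_cf hι hXU d hrange
  have hm1 : Maps F (R ⊔ JJ (normalizerIn S Q)) (cf ι d) := ((Cfsg.Agent.Lib.FusionGT.maps_norm_iff hE).1 hm1E).1
  have hcf : ∀ x (hx : x ∈ R ⊔ JJ (normalizerIn S Q)), ι ⟨cf ι d x, cf_mem d (hXU hx)⟩ = d * ι ⟨x, hXU hx⟩ * d⁻¹ :=
    fun x hx => ι_cf d (hXU hx) (hrange x hx)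
  have hf1U : ∀ x ∈ R, cf ι d x ∈ normalizerIn S Q := fun x hx => cf_mem d (hRU hx)
  have hf1J : ∀ x ∈ JJ (normalizerIn S Q), cf ι d x ∈ JJ (normalizerIn S Q) := by
    intro x hx
    have hx' : x ∈ R ⊔ JJ (normalizerIn S Q) := Subgroup.mem_sup_right hx
    have h1 := hdJ x hx
    rw [hWP] at h1
    obtain ⟨t, ht, hte⟩ := h1
    have h2 := hcf x hx'
    have h3 : t = ⟨cf ι d x, cf_mem d (hXU hx')⟩ := by
      apply hι.1
      rw [hte, h2]
    refine ⟨t, ht, ?_⟩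
    rw [h3]
    rfl
  -- the second map
  have hV : VV S p ≤ normalizerIn S Q := by
    intro v hv
    have hv' := VV_le hv
    refine ⟨hv'.1, ?_⟩
    apply mem_normalizer_of_conj_mem
    intro x hx
    have h1 : x * v = v * x := Subgroup.mem_centralizer_iff.1 hv'.2 x (hQS hx)
    have e : v * x * v⁻¹ = x := by
      rw [← h1]
      group
    rw [e]
    exact hx
  have hkV : ∀ v (hv : v ∈ VV S p), k * ι ⟨v, hV hv⟩ * k⁻¹ = ι ⟨v, hV hv⟩ := by
    let Y : Subgroup Ω := ((Subgroup.centralizer ({k} : Set L)).comap ι).map (normalizerIn S Q).subtype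
    have hle : VV S p ≤ Y := by
      refine (Subgroup.closure_le _).2 ?_
      rintro _ ⟨z, hz, rfl⟩
      have hzU : z ∈ normalizerIn S Q := by
        refine ⟨hz.1, ?_⟩
        apply mem_normalizer_of_conj_mem
        intro x hx
        have h1 : x * z = z * x := Subgroup.mem_centralizer_iff.1 hz.2 x (hQS hx)
        have e : z * x * z⁻¹ = x := by
          rw [← h1]
          group
        rw [e]
        exact hx
      have hzc : ι ⟨z, hzU⟩ ∈ Zc (P₀ : Subgroup L) := by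
        refine ⟨by rw [hP₀]; exact ⟨_, rfl⟩, fun x hx => ?_⟩
        rw [hP₀] at hx
        obtain ⟨t, rfl⟩ := hx
        rw [← map_mul, ← map_mul]
        congr 1
        exact Subtype.ext (Subgroup.mem_centralizer_iff.1 hz.2 t (hUS t.2))
      refine ⟨⟨z, hzU⟩ ^ (p ^ 1), ?_, rfl⟩
      show ι _ ∈ Subgroup.centralizer _
      rw [Subgroup.mem_centralizer_iff]
      rintro _ rfl
      rw [map_pow, pow_one]
      have hy : (ι ⟨z, hzU⟩) ^ p ∈ Y₀ (P₀ : Subgroup L) p := ⟨1, _, hzc, by group⟩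
      exact (Subgroup.mem_centralizer_iff.1 hk _ hy).symm
    intro v hv
    obtain ⟨u, hu, rfl⟩ := hle hv
    have h1 : ι u ∈ Subgroup.centralizer ({k} : Set L) := hu
    have h2 := Subgroup.mem_centralizer_iff.1 h1 k rfl
    show k * ι u * k⁻¹ = ι u
    rw [h2]
    group
  have hX2U : img (cf ι d) R ≤ normalizerIn S Q := by
    intro y hy
    obtain ⟨x, hx, rfl⟩ := (hm1.restrict le_sup_left).mem_img.1 hy
    exact cf_mem d (hRU hx)
  have hX2 : img (cf ι d) R ⊔ VV S p ≤ normalizerIn S Q := sup_le hX2U hV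
  have hrange2 : ∀ x (hx : x ∈ img (cf ι d) R ⊔ VV S p), k * ι ⟨x, hX2 hx⟩ * k⁻¹ ∈ ι.range := by
    refine sup_range ι hX2U hV k (fun y hy => ?_) (fun v hv => ?_)
    · obtain ⟨x, hx, rfl⟩ := (hm1.restrict le_sup_left).mem_img.1 hy
      have h1 := hcf x (Subgroup.mem_sup_left hx)
      have e : (⟨cf ι d x, hX2U hy⟩ : normalizerIn S Q) = ⟨cf ι d x, cf_mem d (hXU (Subgroup.mem_sup_left hx))⟩ := rfl
      rw [e, h1]
      have h2 := hg x hx
      refine ⟨⟨f x, hfE.mem hx⟩, ?_⟩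
      rw [h2]
      group
    · rw [hkV v hv]
      exact ⟨_, rfl⟩
  have hm2E : Maps E (img (cf ι d) R ⊔ VV S p) (cf ι k) := maps_cf hι hX2 k hrange2
  have hm2 : Maps F (img (cf ι d) R ⊔ VV S p) (cf ι k) := ((Cfsg.Agent.Lib.FusionGT.maps_norm_iff hE).1 hm2E).1
  have hcf2 : ∀ x (hx : x ∈ img (cf ι d) R ⊔ VV S p), ι ⟨cf ι k x, cf_mem k (hX2 hx)⟩ = k * ι ⟨x, hX2 hx⟩ * k⁻¹ :=
    fun x hx => ι_cf k (hX2 hx) (hrange2 x hx)
  refine ⟨cf ι d, cf ι k, hm1, hf1U, hf1J, hm2, fun v hv => ?_, fun x hx => ?_⟩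
  · have h1 := hcf2 v (Subgroup.mem_sup_right hv)
    have h2 := hkV v hv
    have h3 : k * ι ⟨v, hX2 (Subgroup.mem_sup_right hv)⟩ * k⁻¹ = ι ⟨v, hV hv⟩ := h2
    rw [h3] at h1
    exact congrArg Subtype.val (hι.1 h1)
  · have hy : cf ι d x ∈ img (cf ι d) R := (hm1.restrict le_sup_left).mem_img_of_mem hx
    have h1 := hcf2 _ (Subgroup.mem_sup_left hy)
    have h2 := hcf x (Subgroup.mem_sup_left hx)
    have e : (⟨cf ι d x, hX2 (Subgroup.mem_sup_left hy)⟩ : normalizerIn S Q) =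
      ⟨cf ι d x, cf_mem d (hXU (Subgroup.mem_sup_left hx))⟩ := rfl
    rw [e, h2] at h1
    have h3 := hg x hx
    have h4 : ι ⟨cf ι k (cf ι d x), cf_mem k (hX2 (Subgroup.mem_sup_left hy))⟩ = ι ⟨f x, hfE.mem hx⟩ := by
      rw [h1, h3]
      group
    exact congrArg Subtype.val (hι.1 h4)

/-- The Thompson subgroup is carried along maps. -/
lemma img_JJ {X X' : Subgroup Ω} {g : Ω → Ω} (hg : Maps F X g) (hX : img g X = X') : img g (JJ X) = JJ X' := by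
  have hJX : JJ X ≤ X := Subgroup.map_subtype_le _
  have h1 := Cfsg.Agent.Lib.FusionGT.thompsonA_map (hg.equiv hX)
  ext y
  rw [(hg.restrict hJX).mem_img]
  constructor
  · rintro ⟨_, ⟨t, ht, rfl⟩, rfl⟩
    refine ⟨(hg.equiv hX) t, ?_, ?_⟩
    · rw [← h1]
      exact Subgroup.mem_map_of_mem _ ht
    · exact hg.equiv_coe hX t
  · rintro ⟨t', ht', rfl⟩
    rw [← h1] at ht'
    obtain ⟨t, ht, rfl⟩ := ht'
    exact ⟨t, ⟨t, ht, rfl⟩, hg.equiv_coe hX t⟩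

/-- An element of a normalized subgroup outside `P` normalizing `P`. -/
lemma exists_cnorm [Finite S] (hS : IsPGroup p S) {P C : Subgroup Ω} (hPS : P ≤ S) (hCS : C ≤ S)
    (hPC : ∀ x ∈ P, ∀ c ∈ C, x * c * x⁻¹ ∈ C) (hC : ¬ C ≤ P) :
    ∃ c ∈ C, c ∉ P ∧ c ∈ normalizerIn S P := by
  let Y : Subgroup Ω :=
    { carrier := {y | ∃ x ∈ P, ∃ c ∈ C, y = x * c}
      one_mem' := ⟨1, P.one_mem, 1, C.one_mem, by simp⟩
      mul_mem' := by
        rintro _ _ ⟨x₁, h₁, c₁, h₂, rfl⟩ ⟨x₂, h₃, c₂, h₄, rfl⟩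
        refine ⟨x₁ * x₂, P.mul_mem h₁ h₃, x₂⁻¹ * c₁ * x₂ * c₂, ?_, by group⟩
        refine C.mul_mem ?_ h₄
        have := hPC _ (P.inv_mem h₃) _ h₂
        simpa using this
      inv_mem' := by
        rintro _ ⟨x, h₁, c, h₂, rfl⟩
        refine ⟨x⁻¹, P.inv_mem h₁, x * c⁻¹ * x⁻¹, hPC _ h₁ _ (C.inv_mem h₂), by group⟩ }
  have hYS : Y ≤ S := by
    rintro _ ⟨x, h₁, c, h₂, rfl⟩
    exact S.mul_mem (hPS h₁) (hCS h₂)
  haveI : Finite Y := finite_of_le hYS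
  have hY : IsPGroup p Y := hS.to_le hYS
  have hPY : P ≤ Y := fun x hx => ⟨x, hx, 1, C.one_mem, by simp⟩
  have hCY : C ≤ Y := fun c hc => ⟨1, P.one_mem, c, hc, by simp⟩
  have hlt : P < Y := by
    refine lt_of_le_of_ne hPY (fun he => hC ?_)
    rw [he]
    exact hCY
  have h1 := Cfsg.Agent.Lib.FusionAlperin.lt_normalizerIn hY hlt
  obtain ⟨y, hy, hyP⟩ := SetLike.exists_of_lt h1
  obtain ⟨⟨x, h₁, c, h₂, rfl⟩, hyN⟩ := hy
  refine ⟨c, h₂, fun hcP => hyP (P.mul_mem h₁ hcP), hCS h₂, ?_⟩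
  have hxN : x ∈ Subgroup.normalizer (P : Set Ω) := Subgroup.le_normalizer h₁
  have e : c = x⁻¹ * (x * c) := by group
  rw [e]
  exact Subgroup.mul_mem _ (Subgroup.inv_mem _ hxN) hyN

/-- The centralizer of `J(T)` where `T = N_S(P)` and `J(T) ≤ P`. -/
lemma cent_le_of [Finite S] (hS : IsPGroup p S) {P T : Subgroup Ω} (hTS : T ≤ S) (hPT : P ≤ T)
    (hT : T = normalizerIn S P) (hJP : JJ T ≤ P) (hPN : P ≤ normalizerIn S (JJ T)) :
    centralizerIn S (JJ T) ≤ JJ T := by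
  haveI : Finite T := finite_of_le hTS
  have hPS : P ≤ S := hPT.trans hTS
  have hcT : ∀ c, c ∈ centralizerIn S (JJ T) → c ∈ T → c ∈ JJ T := by
    intro c hc hcT
    exact Cfsg.Agent.Lib.FusionZFactor.cent_JJ_le (S := T)
      (mem_centralizerIn.2 ⟨hcT, (mem_centralizerIn.1 hc).2⟩)
  have hCP : centralizerIn S (JJ T) ≤ P := by
    by_contra hcon
    have hnorm : ∀ x ∈ P, ∀ c ∈ centralizerIn S (JJ T), x * c * x⁻¹ ∈ centralizerIn S (JJ T) := by
      intro x hx c hc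
      obtain ⟨hcS, hcc⟩ := mem_centralizerIn.1 hc
      refine mem_centralizerIn.2 ⟨S.mul_mem (S.mul_mem (hPS hx) hcS) (S.inv_mem (hPS hx)), fun z hz => ?_⟩
      have hxN : x⁻¹ ∈ normalizerIn S (JJ T) := Subgroup.inv_mem _ (hPN hx)
      have hz' : x⁻¹ * z * x⁻¹⁻¹ ∈ JJ T := (Subgroup.mem_normalizer_iff.1 hxN.2 z).1 hz
      have h1 := hcc _ hz'
      calc z * (x * c * x⁻¹) = x * (x⁻¹ * z * x⁻¹⁻¹ * c) * x⁻¹ := by group
        _ = x * (c * (x⁻¹ * z * x⁻¹⁻¹)) * x⁻¹ := by rw [h1]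
        _ = _ := by group
    obtain ⟨c, hc, hcP, hcN⟩ := exists_cnorm hS hPS inf_le_left hnorm hcon
    have hcT' : c ∈ T := by
      rw [hT]
      exact hcN
    exact hcP (hJP (hcT c hc hcT'))
  intro c hc
  exact hcT c hc (hPT (hCP hc))

end Local

section Main

variable {Ω : Type u} [Group Ω] {S : Subgroup Ω} {F : FusionSystem S} {p : ℕ} [hp : Fact p.Prime]

/-- **The generation theorem**. -/
theorem main [Finite S] (hS : IsPGroup p S) (hF : F.IsSaturated p) (E : FusionSystem S)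
    (hCE : ∀ (R : Subgroup Ω) (f : Ω → Ω), Maps F (R ⊔ VV S p) f → (∀ v ∈ VV S p, f v = v) → Maps E R f)
    (hNE : ∀ (R : Subgroup Ω) (f : Ω → Ω), Maps F (R ⊔ JJ S) f → img f (JJ S) = JJ S → Maps E R f) :
    F ≤ E := by
  have hW2 := Cfsg.Agent.S5193.hW2' (p := p)
  refine Cfsg.Agent.Lib.FusionIndexPrime.alperin_goldschmidt' hS hF E (fun P hP IH => ?_)
  by_cases he : P = S
  · subst he
    intro α hα
    rw [mem_autGroup_iff le_rfl]
    have hm := Maps_of_mem_autGroup le_rfl hα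
    refine hNE _ _ ?_ (img_JJ hm (afn_img α))
    rw [sup_eq_left.2 (Subgroup.map_subtype_le _)]
    exact hm
  have hE : F.IsEssential p P := by
    rcases hP with h | h
    · exact absurd h he
    · exact h
  obtain ⟨hPc, hPn, -⟩ := hE
  have hPS := hPc.1
  have hlt : P < S := lt_of_le_of_ne hPS he
  haveI : Finite P := finite_of_le hPS
  intro α hα
  rw [mem_autGroup_iff hPS]
  have hf := Maps_of_mem_autGroup hPS hα
  have hfi := afn_img α
  obtain ⟨f, hfdef⟩ : ∃ f, f = afn α := ⟨_, rfl⟩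
  rw [← hfdef] at hf hfi ⊢
  have hfP : ∀ x ∈ P, f x ∈ P := by
    intro x hx
    rw [hfdef]
    exact afn_mem α hx
  have hPT : P < normalizerIn S P := Cfsg.Agent.Lib.FusionAlperin.lt_normalizerIn hS hlt
  have hTS : normalizerIn S P ≤ S := inf_le_left
  haveI : Finite (normalizerIn S P) := finite_of_le hTS
  by_cases hJT : JJ (normalizerIn S P) ≤ P
  swap
  · -- Case A
    have hf' : Maps F (P ⊔ P) f := by rwa [sup_idem]
    obtain ⟨f₁, f₂, h1, h2, -, h4, h5, h6⟩ := local_factor hS hF hPn (IsCentric_self hPc) hPT.le hf' hfi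
      (fun x hx => hPT.le (hfP x hx))
    have hJS : JJ (normalizerIn S P) ≤ S := (Subgroup.map_subtype_le _).trans hTS
    haveI : Finite ↥(P ⊔ JJ (normalizerIn S P)) := finite_of_le (sup_le hPS hJS)
    have hlt2 : P < P ⊔ JJ (normalizerIn S P) := by
      exact lt_of_le_of_ne le_sup_left (fun he2 => hJT ((le_sup_right : _ ≤ P ⊔ _).trans he2.ge))
    have h7 := IH _ (sup_le hPS hJS) (Cfsg.Agent.Lib.FusionAlperin.card_lt_of_lt hlt2) f₁ h1
    have h8 : Maps E P f₁ := h7.restrict le_sup_left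
    have h9 := hCE _ f₂ h4 h5
    exact (h8.comp h9 (fun x hx => (h1.restrict le_sup_left).mem_img_of_mem hx)).congr h6
  -- Case B
  have hQ₂S : JJ (normalizerIn S P) ≤ S := (Subgroup.map_subtype_le _).trans hTS
  obtain ⟨Q₃, hQ₂₃, hQ₃n⟩ := exists_fullyNormalized_conj (F := F) hQ₂S
  obtain ⟨hQ₃c, hQ₃a⟩ := of_fullyNormalized hS hF hQ₃n
  have hQ₃r := receptive_of_fullyCentralized hS hF hQ₃c
  obtain ⟨ψ, hψ, hψU, hψi⟩ := exists_normalizer_map hS hQ₃a hQ₃r hQ₂₃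
  have hTN : normalizerIn S P ≤ normalizerIn S (JJ (normalizerIn S P)) :=
    (le_normalizerIn hTS).trans (normalizerIn_le_WW (fun (Q : Type u) [Group Q] => thompsonSubgroupA Q) hW2 hTS (hS.to_le hTS))
  haveI : Finite (normalizerIn S (JJ (normalizerIn S P))) := finite_of_le inf_le_left
  have hlt3 : P < normalizerIn S (JJ (normalizerIn S P)) := lt_of_lt_of_le hPT hTN
  have hψE : Maps E (normalizerIn S (JJ (normalizerIn S P))) ψ :=
    IH (normalizerIn S (JJ (normalizerIn S P))) inf_le_left (Cfsg.Agent.Lib.FusionAlperin.card_lt_of_lt hlt3) ψ hψ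
  have hψT : Maps F (normalizerIn S P) ψ := hψ.restrict hTN
  have hψP : Maps F P ψ := hψT.restrict hPT.le
  have hψEP : Maps E P ψ := hψE.restrict (hPT.le.trans hTN)
  obtain ⟨P', hP'def⟩ : ∃ P', P' = img ψ P := ⟨_, rfl⟩
  obtain ⟨T', hT'def⟩ : ∃ T', T' = img ψ (normalizerIn S P) := ⟨_, rfl⟩
  have hT'S : T' ≤ S := by
    rw [hT'def]
    exact hψT.img_le
  have hP'S : P' ≤ S := by
    rw [hP'def]
    exact hψP.img_le
  have hP'T' : P' ≤ T' := by
    rw [hP'def, hT'def]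
    exact hψT.img_mono hPT.le
  haveI : Finite T' := finite_of_le hT'S
  haveI : Finite P' := finite_of_le hP'S
  have hJT' : JJ T' = Q₃ := by
    rw [hT'def, ← img_JJ hψT rfl, hψi]
  have hQ₃P' : Q₃ ≤ P' := by
    rw [← hψi, hP'def]
    exact hψP.img_mono hJT
  have hJP' : JJ P' = Q₃ := by
    rw [JJ_eq_of_le (hJT'.le.trans hQ₃P') hP'T', hJT']
  have hcP' : Nat.card P' = Nat.card P := by
    rw [hP'def]
    exact hψP.card_img
  -- the normalizer of `P'`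
  have hT'N : T' ≤ normalizerIn S P' := by
    intro y hy
    rw [hT'def] at hy
    obtain ⟨t, ht, rfl⟩ := hψT.mem_img.1 hy
    refine ⟨hψT.mem ht, ?_⟩
    apply mem_normalizer_of_conj_mem
    intro z hz
    rw [hP'def] at hz ⊢
    obtain ⟨x, hx, rfl⟩ := hψP.mem_img.1 hz
    have hxT := hPT.le hx
    have h1 := hψT.map_conj ht hxT
    rw [← h1]
    refine hψP.mem_img_of_mem ?_
    exact (Subgroup.mem_normalizer_iff.1 ht.2 x).1 hx
  have hT'eq : T' = normalizerIn S P' := by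
    have hconj : F.IsConj P P' := isConj_iff.2 ⟨ψ, hψP, hP'def.symm⟩
    have h1 := hPn.2 _ hconj
    haveI : Finite (normalizerIn S P') := finite_of_le inf_le_left
    apply Subgroup.eq_of_le_of_card_ge hT'N
    rw [hT'def, hψT.card_img]
    exact h1
  have hP'U : P' ≤ normalizerIn S Q₃ := by
    intro y hy
    rw [hP'def] at hy
    obtain ⟨x, hx, rfl⟩ := hψP.mem_img.1 hy
    exact hψU x (hTN (hPT.le hx))
  have hQ₃C : centralizerIn S Q₃ ≤ Q₃ := by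
    have := cent_le_of hS hT'S hP'T' hT'eq (by rw [hJT']; exact hQ₃P') (by rw [hJT']; exact hP'U)
    rwa [hJT'] at this
  -- the transported map
  obtain ⟨g, hg, hg1, hg2⟩ := hψP.inv
  rw [← hP'def] at hg hg2
  obtain ⟨gE, hgE, hgE1, hgE2⟩ := hψEP.inv
  rw [← hP'def] at hgE hgE2
  have hgEc : Maps E P' g := by
    refine hgE.congr (fun y hy => ?_)
    obtain ⟨h1, h2⟩ := hg2 y hy
    have h3 := hgE1 (g y) h1
    rwa [h2] at h3
  have hψP' : ∀ x ∈ P, ψ x ∈ P' := by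
    intro x hx
    rw [hP'def]
    exact hψP.mem_img_of_mem hx
  have hα' : Maps F P' ((ψ ∘ f) ∘ g) := hg.comp (hf.comp hψP hfP) (fun y hy => (hg2 y hy).1)
  have hα'mem : ∀ y ∈ P', ((ψ ∘ f) ∘ g) y ∈ P' := fun y hy => hψP' _ (hfP _ (hg2 y hy).1)
  have hα'img : img ((ψ ∘ f) ∘ g) P' = P' := img_eq_of_card hα' hP'S hP'S hα'mem le_rfl
  have hα'J : img ((ψ ∘ f) ∘ g) Q₃ = Q₃ := by
    have := img_JJ hα' hα'img
    rwa [hJP'] at this
  have hsup : P' ⊔ Q₃ = P' := sup_eq_left.2 hQ₃P'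
  obtain ⟨f₁, f₂, h1, h2, h3, h4, h5, h6⟩ := local_factor hS hF hQ₃n hQ₃C hP'U (by rw [hsup]; exact hα') hα'J
    (fun y hy => hP'U (hα'mem y hy))
  have hUS : normalizerIn S Q₃ ≤ S := inf_le_left
  haveI : Finite (normalizerIn S Q₃) := finite_of_le hUS
  have hJUS : JJ (normalizerIn S Q₃) ≤ S := (Subgroup.map_subtype_le _).trans hUS
  haveI : Finite ↥(P' ⊔ JJ (normalizerIn S Q₃)) := finite_of_le (sup_le hP'S hJUS)
  have h8 : Maps E P' f₁ := by
    by_cases hJU : JJ (normalizerIn S Q₃) ≤ P'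
    · have hJeq : JJ P' = JJ (normalizerIn S Q₃) := JJ_eq_of_le hJU hP'U
      have hUQ : JJ (normalizerIn S Q₃) = Q₃ := hJeq.symm.trans hJP'
      have hUeq : normalizerIn S Q₃ = S := by
        by_contra hne
        have hlt' : normalizerIn S Q₃ < S := lt_of_le_of_ne hUS hne
        have h9 := Cfsg.Agent.Lib.FusionAlperin.lt_normalizerIn hS hlt'
        obtain ⟨y, hy, hyU⟩ := SetLike.exists_of_lt h9
        apply hyU
        have h10 := normalizerIn_le_WW (fun (Q : Type u) [Group Q] => thompsonSubgroupA Q) hW2 hUS (hS.to_le hUS) hy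
        have h11 : y ∈ normalizerIn S (JJ (normalizerIn S Q₃)) := h10
        rwa [hUQ] at h11
      have hJS : JJ S = Q₃ := by
        rw [← hUQ]
        exact (WW_congr (fun (Q : Type u) [Group Q] => thompsonSubgroupA Q) hUeq).symm
      have hsub : Q₃ ≤ P' ⊔ JJ (normalizerIn S Q₃) := hQ₃P'.trans le_sup_left
      have hQ₃S : Q₃ ≤ S := hQ₃n.1
      refine hNE P' f₁ ?_ ?_
      · rw [hJS, hsup]
        exact h1.restrict le_sup_left
      · rw [hJS]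
        refine img_eq_of_card (h1.restrict hsub) hQ₃S hQ₃S (fun x hx => ?_) le_rfl
        have hx' : x ∈ JJ (normalizerIn S Q₃) := by rwa [hUQ]
        have := h3 x hx'
        rwa [hUQ] at this
    · have hlt2 : P' < P' ⊔ JJ (normalizerIn S Q₃) :=
        lt_of_le_of_ne le_sup_left (fun he2 => hJU ((le_sup_right : _ ≤ P' ⊔ _).trans he2.ge))
      have hc2 := Cfsg.Agent.Lib.FusionAlperin.card_lt_of_lt hlt2
      rw [hcP'] at hc2
      have h7 := IH _ (sup_le hP'S hJUS) hc2 f₁ h1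
      exact h7.restrict le_sup_left
  have h9 := hCE _ f₂ h4 h5
  have hαE : Maps E P' (f₂ ∘ f₁) := h8.comp h9 (fun x hx => (h1.restrict le_sup_left).mem_img_of_mem hx)
  have hmem3 : ∀ y ∈ P', (f₂ ∘ f₁) y ∈ P' := by
    intro y hy
    show f₂ (f₁ y) ∈ P'
    rw [h6 y hy]
    exact hα'mem y hy
  refine (hψEP.comp (hαE.comp hgEc hmem3) hψP').congr (fun x hx => ?_)
  show g (f₂ (f₁ (ψ x))) = f x
  rw [h6 _ (hψP' x hx)]
  show g (ψ (f (g (ψ x)))) = f x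
  rw [hg1 x hx, hg1 _ (hfP x hx)]

end Main

end Cfsg.Agent.Lib.FusionAgemoJ
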