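/-
FusionCentralQuot: the factor system by a central subgroup. Fully normalized centric subgroups lift,
models of normalizer systems pass to the quotient, and freeness of a group passes to the factor system.
-/
import Mathlib
import Cfsg.Prelude.Def_FusionReduction
import Cfsg.Agent.Lib.FusionGT3
import Cfsg.Agent.Lib.FusionMono3
import Cfsg.Agent.Lib.FusionModel
import Cfsg.Agent.Lib.InvolvesAPI
import Cfsg.Agent.Lib.PCore
import Cfsg.Agent.S5091

set_option autoImplicit false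

namespace Cfsg.Agent.Lib.FusionCentralQuot

open Cfsg Cfsg.FusionSystem Cfsg.Agent.Lib.FusionCore Cfsg.Agent.Lib.FusionCore2 Cfsg.Agent.Lib.FusionGT Cfsg.Agent.Lib.FusionFactor
open Cfsg.Agent.Lib.FusionStrongClosed Cfsg.Agent.Lib.FusionQuotSat Cfsg.Agent.Lib.PCore

universe u

section Group

variable {L : Type*} [Group L] {p : ℕ} [hp : Fact p.Prime]

/-- The generalized Fitting condition passes to the quotient by a central `p`-subgroup. -/
theorem centralizer_core_quot [Finite L] (N : Subgroup L) [hNn : N.Normal] (hNc : ∀ z ∈ N, ∀ g : L, g * z = z * g)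
    (hNp : IsPGroup p N) (hC : Subgroup.centralizer ((pCore p L : Subgroup L) : Set L) ≤ pCore p L) :
    Subgroup.centralizer ((pCore p (L ⧸ N) : Subgroup (L ⧸ N)) : Set (L ⧸ N)) ≤ pCore p (L ⧸ N) := by
  let π : L →* L ⧸ N := QuotientGroup.mk' N
  have hπ : Function.Surjective π := QuotientGroup.mk'_surjective N
  have hπ1 : ∀ x, π x = 1 ↔ x ∈ N := fun x => QuotientGroup.eq_one_iff x
  haveI hOn : (pCore p L).Normal := pCore_normal p L
  haveI hOn' : (pCore p (L ⧸ N)).Normal := pCore_normal p (L ⧸ N)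
  have hOp := isPGroup_pCore (G := L) p
  have hOp' := isPGroup_pCore (G := L ⧸ N) p
  -- the image of the core lies in the core
  have hmapO : (pCore p L).map π ≤ pCore p (L ⧸ N) :=
    le_pCore (Subgroup.Normal.map hOn π hπ) (hOp.map π)
  -- a subgroup of the preimage of a `p`-subgroup
  have hcomap : ∀ U : Subgroup (L ⧸ N), IsPGroup p U → IsPGroup p (U.comap π) := by
    intro U hU
    rintro ⟨x, hx⟩
    obtain ⟨k, hk⟩ := hU ⟨π x, hx⟩
    have h1 : π (x ^ p ^ k) = 1 := by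
      rw [map_pow]
      exact congrArg Subtype.val hk
    obtain ⟨m, hm⟩ := hNp ⟨_, (hπ1 _).1 h1⟩
    refine ⟨k + m, Subtype.ext ?_⟩
    show x ^ p ^ (k + m) = 1
    rw [pow_add, pow_mul]
    exact congrArg Subtype.val hm
  -- the exponent of `N`
  obtain ⟨e, he⟩ : ∃ e : ℕ, ∀ z ∈ N, z ^ p ^ e = 1 := by
    obtain ⟨e, he⟩ := IsPGroup.iff_card.1 hNp
    refine ⟨e, fun z hz => ?_⟩
    have := pow_card_eq_one' (x := (⟨z, hz⟩ : N))
    rw [he] at this
    exact congrArg Subtype.val this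
  let K : Subgroup L := (Subgroup.centralizer ((pCore p (L ⧸ N) : Subgroup (L ⧸ N)) : Set (L ⧸ N))).comap π
  have hKn : K.Normal := Subgroup.Normal.comap inferInstance π
  have hKp : IsPGroup p K := by
    rintro ⟨x, hx⟩
    -- `[x, o] ∈ N` for all `o ∈ O`
    have hcomm : ∀ o ∈ pCore p L, x * o * x⁻¹ * o⁻¹ ∈ N := by
      intro o ho
      rw [← hπ1, map_mul, map_mul, map_mul, map_inv, map_inv]
      have h1 : π o ∈ pCore p (L ⧸ N) := hmapO ⟨o, ho, rfl⟩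
      have h2 := Subgroup.mem_centralizer_iff.1 hx (π o) h1
      rw [← h2]
      group
    have hpow : ∀ (n : ℕ) (o : L), o ∈ pCore p L → x ^ n * o * (x ^ n)⁻¹ = (x * o * x⁻¹ * o⁻¹) ^ n * o := by
      intro n
      induction n with
      | zero => intro o _; simp
      | succ n ih =>
        intro o ho
        have hc : x * o * x⁻¹ * o⁻¹ ∈ N := hcomm o ho
        have e1 : x ^ (n + 1) * o * (x ^ (n + 1))⁻¹ = x * (x ^ n * o * (x ^ n)⁻¹) * x⁻¹ := by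
          rw [pow_succ']
          group
        rw [e1, ih o ho]
        have e2 : x * ((x * o * x⁻¹ * o⁻¹) ^ n * o) * x⁻¹
            = (x * (x * o * x⁻¹ * o⁻¹) ^ n * x⁻¹) * (x * o * x⁻¹) := by group
        have e3 : x * (x * o * x⁻¹ * o⁻¹) ^ n * x⁻¹ = (x * o * x⁻¹ * o⁻¹) ^ n := by
          rw [hNc _ (N.pow_mem hc n) x]
          group
        rw [e2, e3]
        have e4 : x * o * x⁻¹ = (x * o * x⁻¹ * o⁻¹) * o := by group
        generalize x * o * x⁻¹ * o⁻¹ = c at e4 ⊢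
        rw [e4, ← mul_assoc, ← pow_succ]
    have h3 : x ^ p ^ e ∈ pCore p L := by
      apply hC
      rw [Subgroup.mem_centralizer_iff]
      intro o ho
      have h4 := hpow (p ^ e) o ho
      rw [he _ (hcomm o ho), one_mul, mul_inv_eq_iff_eq_mul] at h4
      exact h4.symm
    obtain ⟨m, hm⟩ := hOp ⟨_, h3⟩
    refine ⟨e + m, Subtype.ext ?_⟩
    show x ^ p ^ (e + m) = 1
    rw [pow_add, pow_mul]
    exact congrArg Subtype.val hm
  have hKO : K ≤ pCore p L := le_pCore hKn hKp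
  intro y hy
  obtain ⟨x, rfl⟩ := hπ y
  exact hmapO ⟨x, hKO hy, rfl⟩

end Group

section Factor

variable {Ω : Type u} [Group Ω] {S : Subgroup Ω} {F : FusionSystem S} {Z : Subgroup Ω}
  {Ω' : Type u} [Group Ω'] {S' : Subgroup Ω'} {θ : S →* Ω'} {F' : FusionSystem S'}
  {p : ℕ} [hp : Fact p.Prime]

lemma central_fix (hZ : F.IsCentral Z) {P : Subgroup Ω} {f : Ω → Ω} (hf : Maps F P f) {x : Ω} (hxP : x ∈ P)
    (hxZ : x ∈ Z) : f x = x := by
  obtain ⟨-, hC⟩ := isCentral_iff.1 hZ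
  obtain ⟨g, -, h1, h2⟩ := hC P f hf
  rw [← h1 x hxP, h2 x hxZ]

lemma stronglyClosed_central (hZ : F.IsCentral Z) : F.StronglyClosed Z := by
  refine ⟨hZ.1, fun R hR φ hφ x => ?_⟩
  have h := central_fix hZ (Maps.of_mem hφ) x.2 (hR x.2)
  rw [fn_of_mem φ x.2] at h
  rw [show φ x = (x : Ω) from h]
  exact hR x.2

lemma mem_pre {P' : Subgroup Ω'} {x : Ω} : x ∈ preimageAlong θ P' ↔ x ∈ S ∧ qf θ x ∈ P' := by
  rw [mem_preimageAlong]
  constructor
  · rintro ⟨h, h2⟩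
    exact ⟨h, by rwa [qf_of_mem θ h]⟩
  · rintro ⟨h, h2⟩
    exact ⟨h, by rwa [qf_of_mem θ h] at h2⟩

lemma qf_mem (hfac : F.IsFactorSystem Z θ F') {x : Ω} (hx : x ∈ S) : qf θ x ∈ S' := by
  rw [← hfac.2.2.1, qf_of_mem θ hx]
  exact ⟨_, rfl⟩

lemma exists_qf (hfac : F.IsFactorSystem Z θ F') {y : Ω'} (hy : y ∈ S') : ∃ s ∈ S, qf θ s = y := by
  have h : y ∈ θ.range := by
    rw [hfac.2.2.1]
    exact hy
  obtain ⟨s, rfl⟩ := h
  exact ⟨s, s.2, qf_coe θ s⟩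

lemma qf_eq_one (hfac : F.IsFactorSystem Z θ F') {s : Ω} (hs : s ∈ S) : qf θ s = 1 ↔ s ∈ Z := by
  rw [qf_of_mem θ hs]
  exact hfac.2.1 ⟨s, hs⟩

lemma qf_eq_iff (hfac : F.IsFactorSystem Z θ F') {s t : Ω} (hs : s ∈ S) (ht : t ∈ S) :
    qf θ s = qf θ t ↔ s⁻¹ * t ∈ Z := by
  rw [← qf_eq_one hfac (S.mul_mem (S.inv_mem hs) ht), qf_mul θ (S.inv_mem hs) ht, qf_inv θ hs]
  constructor
  · intro h
    rw [h]
    group
  · intro h
    rw [inv_mul_eq_one] at h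
    exact h

lemma Z_le_pre (hfac : F.IsFactorSystem Z θ F') (P' : Subgroup Ω') : Z ≤ preimageAlong θ P' := by
  intro z hz
  have hzS := hfac.1 hz
  refine mem_pre.2 ⟨hzS, ?_⟩
  rw [(qf_eq_one hfac hzS).2 hz]
  exact P'.one_mem

/-- Maps of the factor system lift. -/
lemma maps_lift (hfac : F.IsFactorSystem Z θ F') {P' : Subgroup Ω'} {f' : Ω' → Ω'} (h : Maps F' P' f') :
    ∃ f, Maps F (preimageAlong θ P') f ∧ ∀ x ∈ preimageAlong θ P', qf θ (f x) = f' (qf θ x) := by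
  obtain ⟨φ', hφ', hf'⟩ := id h
  obtain ⟨-, φ, hφ, hP, hv, hP', hind⟩ := (hfac.2.2.2 P' φ').1 hφ'
  refine ⟨fn φ, Maps.of_mem hφ, fun x hx => ?_⟩
  rw [fn_of_mem φ hx, qf_of_mem θ (hv ⟨x, hx⟩), ← hind ⟨x, hx⟩, hf', qf_of_mem θ (hP hx)]

/-- Maps on full preimages descend. -/
lemma maps_desc [Finite S] (hfac : F.IsFactorSystem Z θ F') (hZ : F.IsCentral Z) {P' : Subgroup Ω'} (hP' : P' ≤ S')
    {f : Ω → Ω} (h : Maps F (preimageAlong θ P') f) :
    ∃ f', Maps F' P' f' ∧ ∀ x ∈ preimageAlong θ P', f' (qf θ x) = qf θ (f x) := by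
  obtain ⟨φ, hφ, hf⟩ := id h
  obtain ⟨φ', hind⟩ := exists_induced (stronglyClosed_central hZ) hfac.2.1 hfac.2.2.1 hP' hφ
  have hφ' : φ' ∈ F'.Hom P' := (hfac.2.2.2 P' φ').2 ⟨hP', φ, hφ, hind⟩
  obtain ⟨hP, hv, hP'', heq⟩ := hind
  refine ⟨fn φ', Maps.of_mem hφ', fun x hx => ?_⟩
  have hq : qf θ x ∈ P' := (mem_pre.1 hx).2
  rw [fn_of_mem φ' hq]
  have e1 : (⟨qf θ x, hq⟩ : P') = ⟨θ ⟨x, hP hx⟩, hP'' ⟨x, hx⟩⟩ := Subtype.ext (qf_of_mem θ (hP hx))
  rw [e1, heq ⟨x, hx⟩, ← hf ⟨x, hx⟩, qf_of_mem θ (hv ⟨x, hx⟩)]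

/-- A `p`-group of automorphisms passes to the factor system. -/
lemma isPGroup_autGroup_factor [Finite S] [Finite S'] (hfac : F.IsFactorSystem Z θ F') {Q' : Subgroup Ω'} (hQ' : Q' ≤ S')
    (hA : IsPGroup p (F.autGroup (preimageAlong θ Q'))) : IsPGroup p (F'.autGroup Q') := by
  rintro ⟨χ', hχ'⟩
  have hm' := (mem_autGroup_iff hQ').1 hχ'
  obtain ⟨f, hf, hrel⟩ := maps_lift hfac hm'
  have hQS : preimageAlong θ Q' ≤ S := preimageAlong_le θ Q'
  haveI : Finite (preimageAlong θ Q') := finite_of_le hQS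
  have hval : ∀ x ∈ preimageAlong θ Q', f x ∈ preimageAlong θ Q' := by
    intro x hx
    refine mem_pre.2 ⟨hf.mem hx, ?_⟩
    rw [hrel x hx]
    exact afn_mem χ' (mem_pre.1 hx).2
  have himg := img_eq_of_card hf hQS hQS hval le_rfl
  obtain ⟨k, hk⟩ := hA ⟨hf.toAut himg, hf.toAut_mem himg⟩
  have hk' : (hf.toAut himg) ^ p ^ k = 1 := congrArg Subtype.val hk
  have hrel2 : ∀ x ∈ preimageAlong θ Q', qf θ (afn (hf.toAut himg) x) = afn χ' (qf θ x) := by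
    intro x hx
    rw [hf.afn_toAut himg hx, hrel x hx]
  have hd := rel_dvd θ (fun x hx => (mem_pre.1 hx).2) hrel2 (fun y hy => by
    obtain ⟨s, hs, rfl⟩ := exists_qf hfac (hQ' hy)
    exact ⟨s, mem_pre.2 ⟨hs, hy⟩, rfl⟩)
  refine ⟨k, Subtype.ext ?_⟩
  show χ' ^ p ^ k = 1
  exact orderOf_dvd_iff_pow_eq_one.1 (hd.trans (orderOf_dvd_of_pow_eq_one hk'))




lemma mem_image {P : Subgroup Ω} {y : Ω'} : y ∈ imageAlong θ P ↔ ∃ x ∈ P, x ∈ S ∧ qf θ x = y := by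
  constructor
  · rintro ⟨s, hs, rfl⟩
    exact ⟨s, Subgroup.mem_subgroupOf.1 hs, s.2, qf_coe θ s⟩
  · rintro ⟨x, hx, hxS, rfl⟩
    refine ⟨⟨x, hxS⟩, Subgroup.mem_subgroupOf.2 hx, ?_⟩
    rw [qf_of_mem θ hxS]

/-- Conjugates of full preimages. -/
lemma isConj_image [Finite S] (hfac : F.IsFactorSystem Z θ F') (hZ : F.IsCentral Z) {Q' : Subgroup Ω'}
    (hQ' : Q' ≤ S') {Q₁ : Subgroup Ω} (h : F.IsConj (preimageAlong θ Q') Q₁) :
    Z ≤ Q₁ ∧ preimageAlong θ (imageAlong θ Q₁) = Q₁ ∧ F'.IsConj Q' (imageAlong θ Q₁) := by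
  obtain ⟨f, hf, rfl⟩ := isConj_iff.1 h
  have hZQ₁ : Z ≤ img f (preimageAlong θ Q') := fun z hz => by
    have h1 := central_fix hZ hf (Z_le_pre hfac Q' hz) hz
    rw [← h1]
    exact hf.mem_img_of_mem (Z_le_pre hfac Q' hz)
  refine ⟨hZQ₁, ?_, ?_⟩
  · rw [preimageAlong_imageAlong hfac.1 hfac.2.1 hf.img_le, sup_eq_left.2 hZQ₁]
  · obtain ⟨f', hf', hrel⟩ := maps_desc hfac hZ hQ' hf
    refine isConj_iff.2 ⟨f', hf', ?_⟩
    ext y
    rw [hf'.mem_img, mem_image]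
    constructor
    · rintro ⟨x', hx', rfl⟩
      obtain ⟨s, hs, rfl⟩ := exists_qf hfac (hQ' hx')
      rw [hrel s (mem_pre.2 ⟨hs, hx'⟩)]
      exact ⟨f s, hf.mem_img_of_mem (mem_pre.2 ⟨hs, hx'⟩), hf.mem (mem_pre.2 ⟨hs, hx'⟩), rfl⟩
    · rintro ⟨x, hx, hxS, rfl⟩
      obtain ⟨s, hs, rfl⟩ := hf.mem_img.1 hx
      exact ⟨qf θ s, (mem_pre.1 hs).2, hrel s hs⟩

/-- The cardinality of a full preimage. -/
lemma card_pre (hfac : F.IsFactorSystem Z θ F') {A' : Subgroup Ω'} (hA' : A' ≤ S') :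
    Nat.card (preimageAlong θ A') = Nat.card Z * Nat.card A' := by
  have hle := preimageAlong_le θ A'
  have hmem : ∀ x : preimageAlong θ A', θ ⟨x, hle x.2⟩ ∈ A' := fun x => by
    obtain ⟨_, h⟩ := (mem_preimageAlong θ A' _).mp x.2
    exact h
  let f : preimageAlong θ A' →* A' := ((θ.comp (Subgroup.inclusion hle))).codRestrict A' hmem
  have hf : Function.Surjective f := by
    intro y
    obtain ⟨s, hs⟩ := exists_lift hfac.2.2.1 hA' y
    refine ⟨⟨s, (mem_preimageAlong θ A' _).mpr ⟨s.2, ?_⟩⟩, Subtype.ext hs⟩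
    show θ s ∈ A'
    rw [hs]
    exact y.2
  have h1 := Subgroup.card_mul_index f.ker
  rw [Subgroup.index_ker, MonoidHom.range_eq_top.2 hf, Subgroup.card_top] at h1
  rw [← h1]
  congr 1
  have h2 : f.ker.map (preimageAlong θ A').subtype = Z := by
    ext z
    constructor
    · rintro ⟨x, hx, rfl⟩
      have h3 : θ ⟨x, hle x.2⟩ = 1 := congrArg Subtype.val (MonoidHom.mem_ker.1 hx)
      exact (hfac.2.1 _).1 h3
    · intro hz
      refine ⟨⟨z, Z_le_pre hfac A' hz⟩, MonoidHom.mem_ker.2 (Subtype.ext ?_), rfl⟩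
      exact (hfac.2.1 ⟨z, hfac.1 hz⟩).2 hz
  rw [← h2, Subgroup.card_map_of_injective (preimageAlong θ A').subtype_injective]

/-- Normalizers of full preimages. -/
lemma norm_pre [Finite S] [Finite S'] (hfac : F.IsFactorSystem Z θ F') {A' : Subgroup Ω'} (hA' : A' ≤ S') :
    normalizerIn S (preimageAlong θ A') = preimageAlong θ (normalizerIn S' A') := by
  have hAS := preimageAlong_le θ A'
  haveI : Finite (preimageAlong θ A') := finite_of_le hAS
  haveI : Finite A' := finite_of_le hA'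
  ext x
  constructor
  · rintro ⟨hxS, hxN⟩
    refine mem_pre.2 ⟨hxS, qf_mem hfac hxS, mem_normalizer_of_conj_mem (fun y hy => ?_)⟩
    obtain ⟨s, hs, rfl⟩ := exists_qf hfac (hA' hy)
    have hsp : s ∈ preimageAlong θ A' := mem_pre.2 ⟨hs, hy⟩
    have h1 : x * s * x⁻¹ ∈ preimageAlong θ A' := (Subgroup.mem_normalizer_iff.1 hxN s).1 hsp
    have h2 := (mem_pre.1 h1).2
    rwa [qf_mul θ (S.mul_mem hxS hs) (S.inv_mem hxS), qf_mul θ hxS hs, qf_inv θ hxS] at h2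
  · intro hx
    obtain ⟨hxS, hxN⟩ := mem_pre.1 hx
    refine ⟨hxS, mem_normalizer_of_conj_mem (fun y hy => ?_)⟩
    obtain ⟨hyS, hyA⟩ := mem_pre.1 hy
    refine mem_pre.2 ⟨S.mul_mem (S.mul_mem hxS hyS) (S.inv_mem hxS), ?_⟩
    rw [qf_mul θ (S.mul_mem hxS hyS) (S.inv_mem hxS), qf_mul θ hxS hyS, qf_inv θ hxS]
    exact (Subgroup.mem_normalizer_iff.1 hxN.2 _).1 hyA

/-- Full preimages of centric subgroups are centric. -/
lemma centric_pre [Finite S] (hfac : F.IsFactorSystem Z θ F') (hZ : F.IsCentral Z) {Q' : Subgroup Ω'}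
    (hQ' : F'.IsCentric Q') : F.IsCentric (preimageAlong θ Q') := by
  refine ⟨preimageAlong_le θ Q', fun Q₁ h => ?_⟩
  obtain ⟨hZQ₁, hpre, hconj⟩ := isConj_image hfac hZ hQ'.1 h
  have hQ₁S : Q₁ ≤ S := IsConj_le' h
  intro c hc
  obtain ⟨hcS, hcc⟩ := mem_centralizerIn.1 hc
  rw [← hpre]
  refine mem_pre.2 ⟨hcS, hQ'.2 _ hconj ?_⟩
  refine mem_centralizerIn.2 ⟨qf_mem hfac hcS, fun y hy => ?_⟩
  obtain ⟨x, hx, hxS, rfl⟩ := mem_image.1 hy
  rw [← qf_mul θ hxS hcS, hcc x hx, qf_mul θ hcS hxS]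

/-- Full preimages of fully normalized subgroups are fully normalized. -/
lemma fullyNormalized_pre [Finite S] [Finite S'] (hfac : F.IsFactorSystem Z θ F') (hZ : F.IsCentral Z) {Q' : Subgroup Ω'}
    (hQ' : F'.IsFullyNormalized Q') : F.IsFullyNormalized (preimageAlong θ Q') := by
  refine ⟨preimageAlong_le θ Q', fun Q₁ h => ?_⟩
  obtain ⟨hZQ₁, hpre, hconj⟩ := isConj_image hfac hZ hQ'.1 h
  have hcard := hQ'.2 _ hconj
  have hQ₁' : imageAlong θ Q₁ ≤ S' := IsConj_le' hconj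
  have h1 : normalizerIn S' (imageAlong θ Q₁) ≤ S' := inf_le_left
  have h2 : normalizerIn S' Q' ≤ S' := inf_le_left
  rw [← hpre, norm_pre hfac hQ₁', norm_pre hfac hQ'.1, card_pre hfac h1, card_pre hfac h2]
  exact Nat.mul_le_mul_left _ hcard

/-- The model of a normalizer system in the factor system. -/
theorem isModel_quot [Finite S] [Finite S'] (hS : IsPGroup p S) (hfac : F.IsFactorSystem Z θ F') (hZ : F.IsCentral Z)
    {Q' : Subgroup Ω'} {Q : Subgroup Ω} (hQ' : Q' ≤ S') (hQdef : Q = preimageAlong θ Q')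
    {E : FusionSystem (normalizerIn S Q)} (hE : F.IsNormalizerSystem Q E)
    {E' : FusionSystem (normalizerIn S' Q')} (hE' : F'.IsNormalizerSystem Q' E')
    (hQN : E.IsNormal Q)
    {L : Type*} [Group L] {ι : ↥(normalizerIn S Q) →* L} (hM : E.IsModel p L ι) :
    ∃ (N : Subgroup L) (_ : N.Normal) (ι' : ↥(normalizerIn S' Q') →* L ⧸ N), E'.IsModel p (L ⧸ N) ι' := by
  obtain ⟨hLf, hι, ⟨T₀, hT₀⟩, hcent⟩ := id hM
  have hQS : Q ≤ S := by
    rw [hQdef]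
    exact preimageAlong_le θ Q'
  have hTS : normalizerIn S Q ≤ S := inf_le_left
  haveI hTfin : Finite ↥(normalizerIn S Q) := finite_of_le hTS
  have hQT : Q ≤ normalizerIn S Q := le_normalizerIn hQS
  have hZQ : Z ≤ Q := by
    rw [hQdef]
    exact Z_le_pre hfac Q'
  have hZT : Z ≤ normalizerIn S Q := hZQ.trans hQT
  have hNorm : normalizerIn S Q = preimageAlong θ (normalizerIn S' Q') := by
    rw [hQdef]
    exact norm_pre hfac hQ'
  have hTmem : ∀ x, x ∈ normalizerIn S Q ↔ x ∈ S ∧ qf θ x ∈ normalizerIn S' Q' := by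
    intro x
    rw [hNorm]
    exact mem_pre
  have hQmem : ∀ x, x ∈ Q ↔ x ∈ S ∧ qf θ x ∈ Q' := by
    intro x
    rw [hQdef]
    exact mem_pre
  -- conjugation on `Q`
  have hconjQ : ∀ (g : L) (x : Ω) (hx : x ∈ Q), ∃ y, ∃ (hy : y ∈ normalizerIn S Q), y ∈ Q ∧
      ι ⟨y, hy⟩ = g * ι ⟨x, hQT hx⟩ * g⁻¹ :=
    fun g x hx => Cfsg.Agent.Lib.FusionMono.conj_mem_of_model hM hQN g (hQT hx) hx
  -- the central subgroup
  let N : Subgroup L := (Z.subgroupOf (normalizerIn S Q)).map ι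
  have hNmem : ∀ y, y ∈ N ↔ ∃ z, ∃ (hz : z ∈ Z), ι ⟨z, hZT hz⟩ = y := by
    intro y
    constructor
    · rintro ⟨t, ht, rfl⟩
      exact ⟨t, Subgroup.mem_subgroupOf.1 ht, rfl⟩
    · rintro ⟨z, hz, rfl⟩
      exact ⟨⟨z, hZT hz⟩, Subgroup.mem_subgroupOf.2 hz, rfl⟩
  have hcentZ : ∀ (g : L) (z : Ω) (hz : z ∈ Z), g * ι ⟨z, hZT hz⟩ * g⁻¹ = ι ⟨z, hZT hz⟩ := by
    intro g z hz
    have hm : Maps E Q (Cfsg.Agent.Lib.FusionMono.cf ι g) :=
      Cfsg.Agent.Lib.FusionMono.maps_cf hι hQT g (fun x hx => by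
        obtain ⟨y, hy, -, hye⟩ := hconjQ g x hx
        exact ⟨⟨y, hy⟩, hye⟩)
    have hmF : Maps F Q (Cfsg.Agent.Lib.FusionMono.cf ι g) := ((maps_norm_iff hE).1 hm).1
    have h1 := central_fix hZ hmF (hZQ hz) hz
    have h2 := Cfsg.Agent.Lib.FusionMono.ι_cf (ι := ι) g (hZT hz) (by
      obtain ⟨y, hy, -, hye⟩ := hconjQ g z (hZQ hz)
      exact ⟨⟨y, hy⟩, hye⟩)
    rw [← h2]
    congr 2
  have hNc : ∀ z ∈ N, ∀ g : L, g * z = z * g := by
    intro z hz g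
    obtain ⟨z₀, hz₀, rfl⟩ := (hNmem z).1 hz
    have h1 := hcentZ g z₀ hz₀
    rw [mul_inv_eq_iff_eq_mul] at h1
    exact h1
  haveI hNn : N.Normal := by
    refine ⟨fun z hz g => ?_⟩
    rw [hNc z hz g]
    simpa using hz
  have hNp : IsPGroup p N := by
    have h1 : IsPGroup p (normalizerIn S Q) := hS.to_le hTS
    exact (h1.to_subgroup _).map ι
  let π : L →* L ⧸ N := QuotientGroup.mk' N
  have hπ : Function.Surjective π := QuotientGroup.mk'_surjective N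
  have hπ1 : ∀ x, π x = 1 ↔ x ∈ N := fun x => QuotientGroup.eq_one_iff x
  have hπeq : ∀ x y, π x = π y → ∃ z, ∃ (hz : z ∈ Z), y = x * ι ⟨z, hZT hz⟩ := by
    intro x y h
    have h1 : π (x⁻¹ * y) = 1 := by
      rw [map_mul, map_inv, h, inv_mul_cancel]
    obtain ⟨z, hz, hzy⟩ := (hNmem _).1 ((hπ1 _).1 h1)
    refine ⟨z, hz, ?_⟩
    rw [hzy]
    group
  -- the map on normalizers
  let θT : ↥(normalizerIn S Q) →* ↥(normalizerIn S' Q') :=
    (θ.comp (Subgroup.inclusion hTS)).codRestrict _ (fun t => by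
      have h1 := ((hTmem t).1 t.2).2
      rwa [qf_of_mem θ (hTS t.2)] at h1)
  have hθT : ∀ t : ↥(normalizerIn S Q), ((θT t : ↥(normalizerIn S' Q')) : Ω') = qf θ t := by
    intro t
    rw [qf_of_mem θ (hTS t.2)]
    rfl
  have hθTs : Function.Surjective θT := by
    rintro ⟨y, hy⟩
    obtain ⟨s, hs, rfl⟩ := exists_qf hfac ((inf_le_left : normalizerIn S' Q' ≤ S') hy)
    have hsT : s ∈ normalizerIn S Q := (hTmem s).2 ⟨hs, hy⟩
    exact ⟨⟨s, hsT⟩, Subtype.ext (hθT _)⟩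
  have hker : θT.ker ≤ (π.comp ι).ker := by
    intro t ht
    have h1 : qf θ t = 1 := by
      rw [← hθT]
      exact congrArg Subtype.val (MonoidHom.mem_ker.1 ht)
    have h2 : (t : Ω) ∈ Z := (qf_eq_one hfac (hTS t.2)).1 h1
    rw [MonoidHom.mem_ker]
    exact (hπ1 _).2 ((hNmem _).2 ⟨t, h2, rfl⟩)
  let ι' : ↥(normalizerIn S' Q') →* L ⧸ N := (MonoidHom.liftOfSurjective θT hθTs) ⟨π.comp ι, hker⟩
  have hι' : ∀ t, ι' (θT t) = π (ι t) := fun t =>
    MonoidHom.liftOfRightInverse_comp_apply θT _ (Function.rightInverse_surjInv hθTs) ⟨π.comp ι, hker⟩ t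
  have hι'inj : Function.Injective ι' := by
    rw [injective_iff_map_eq_one]
    intro y hy
    obtain ⟨t, rfl⟩ := hθTs y
    rw [hι'] at hy
    obtain ⟨z, hz, hzt⟩ := (hNmem _).1 ((hπ1 _).1 hy)
    have h1 : (⟨z, hZT hz⟩ : ↥(normalizerIn S Q)) = t := hι.1 hzt
    apply Subtype.ext
    rw [hθT, ← h1]
    exact (qf_eq_one hfac (hfac.1 hz)).2 hz
  have hfinQ : Finite ↥(normalizerIn S' Q') := finite_of_le inf_le_left
  refine ⟨N, hNn, ι', inferInstance, ⟨hι'inj, ?_⟩, ⟨T₀.mapSurjective hπ, ?_⟩, centralizer_core_quot N hNc hNp hcent⟩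
  · intro P hP φ hφ
    have hPS' : P ≤ S' := hP.trans inf_le_left
    have hQ'T' : Q' ≤ normalizerIn S' Q' := le_normalizerIn hQ'
    have hsupT : P ⊔ Q' ≤ normalizerIn S' Q' := sup_le hP hQ'T'
    have hsupS : P ⊔ Q' ≤ S' := hsupT.trans inf_le_left
    obtain ⟨P₂, hP₂⟩ : ∃ P₂, P₂ = preimageAlong θ (P ⊔ Q') := ⟨_, rfl⟩
    have hP₂mem : ∀ x, x ∈ P₂ ↔ x ∈ S ∧ qf θ x ∈ P ⊔ Q' := by
      intro x
      rw [hP₂]
      exact mem_pre
    have hP₂T : P₂ ≤ normalizerIn S Q := fun x hx =>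
      (hTmem x).2 ⟨((hP₂mem x).1 hx).1, hsupT ((hP₂mem x).1 hx).2⟩
    have hQP₂ : Q ≤ P₂ := fun x hx =>
      (hP₂mem x).2 ⟨((hQmem x).1 hx).1, Subgroup.mem_sup_right ((hQmem x).1 hx).2⟩
    have hι'q : ∀ (t : Ω) (ht : t ∈ normalizerIn S Q) (hqt : qf θ t ∈ normalizerIn S' Q'),
        ι' ⟨qf θ t, hqt⟩ = π (ι ⟨t, ht⟩) := by
      intro t ht hqt
      rw [← hι']
      congr 1
      exact Subtype.ext (hθT ⟨t, ht⟩).symm
    constructor
    · intro hφE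
      have hmE' := Maps.of_mem hφE
      obtain ⟨hmF', -, hval', g', hg', h1', h2'⟩ := (maps_norm_iff hE').1 hmE'
      obtain ⟨ψ, hψ, hrel⟩ := maps_lift hfac hg'
      rw [← hP₂] at hψ hrel
      have hg'Q : ∀ x ∈ Q', g' x ∈ Q' := by
        intro x hx
        have h3 := (hg'.restrict le_sup_right).mem_img_of_mem hx
        rwa [h2'] at h3
      have hg'T : ∀ x ∈ P ⊔ Q', g' x ∈ normalizerIn S' Q' := by
        refine hg'.sup_mem (fun x hx => ?_) (fun x hx => hQ'T' (hg'Q x hx))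
        rw [h1' x hx]
        exact hval' x hx
      have hψval : ∀ x ∈ P₂, ψ x ∈ normalizerIn S Q := fun x hx =>
        (hTmem _).2 ⟨hψ.mem hx, by rw [hrel x hx]; exact hg'T _ ((hP₂mem x).1 hx).2⟩
      have hψQ : ∀ x ∈ Q, ψ x ∈ Q := fun x hx =>
        (hQmem _).2 ⟨hψ.mem (hQP₂ hx), by rw [hrel x (hQP₂ hx)]; exact hg'Q _ ((hQmem x).1 hx).2⟩
      have himgψ : img ψ Q = Q := img_eq_of_card (hψ.restrict hQP₂) hQS hQS hψQ le_rfl
      have hsupP₂ : P₂ ⊔ Q = P₂ := sup_eq_left.2 hQP₂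
      have hmE : Maps E P₂ ψ := (maps_norm_iff hE).2 ⟨hψ, hP₂T, hψval, ψ, by rw [hsupP₂]; exact hψ,
        fun _ _ => rfl, himgψ⟩
      obtain ⟨g, hg⟩ := Cfsg.Agent.Lib.FusionMono.real_of_maps hι hmE
      refine ⟨π g, fun x => ?_⟩
      obtain ⟨s, hs, hsx⟩ := exists_qf hfac (hPS' x.2)
      have hsP₂ : s ∈ P₂ := (hP₂mem s).2 ⟨hs, by rw [hsx]; exact Subgroup.mem_sup_left x.2⟩
      have e1 : φ x = qf θ (ψ s) := by
        rw [hrel s hsP₂, hsx, h1' x x.2, fn_of_mem φ x.2]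
      have h3 := hg s hsP₂
      have hsq : qf θ s ∈ normalizerIn S' Q' := by
        rw [hsx]
        exact hP x.2
      have e2 : (⟨φ x, hφ x⟩ : ↥(normalizerIn S' Q')) = ⟨qf θ (ψ s), by rw [← e1]; exact hφ x⟩ := Subtype.ext e1
      have e3 : (⟨(x : Ω'), hP x.2⟩ : ↥(normalizerIn S' Q')) = ⟨qf θ s, hsq⟩ := Subtype.ext hsx.symm
      rw [e2, e3, hι'q (ψ s) (hψval s hsP₂), hι'q s (hP₂T hsP₂) hsq]
      have e4 : (⟨ψ s, hψval s hsP₂⟩ : ↥(normalizerIn S Q)) = ⟨ψ s, hmE.mem hsP₂⟩ := rfl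
      rw [e4, h3, map_mul, map_mul, map_inv]
    · rintro ⟨gb, hgb⟩
      obtain ⟨g, rfl⟩ := hπ gb
      let K : Subgroup ↥(normalizerIn S Q) := (ι.range).comap ((MulAut.conj g).toMonoidHom.comp ι)
      let U : Subgroup Ω := K.map (normalizerIn S Q).subtype
      have hUmem : ∀ x (hx : x ∈ normalizerIn S Q), x ∈ U ↔ g * ι ⟨x, hx⟩ * g⁻¹ ∈ ι.range := by
        intro x hx
        constructor
        · rintro ⟨t, ht, rfl⟩
          exact ht
        · intro h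
          exact ⟨⟨x, hx⟩, h, rfl⟩
      have hZU : Z ≤ U := fun z hz => (hUmem z (hZT hz)).2 (by
        rw [hcentZ g z hz]
        exact ⟨_, rfl⟩)
      have hPU : ∀ t (ht : t ∈ normalizerIn S Q), qf θ t ∈ P → t ∈ U := by
        intro t ht htP
        have htS := hTS ht
        have h1 := hgb ⟨qf θ t, htP⟩
        have hval := hφ ⟨qf θ t, htP⟩
        obtain ⟨t₁, ht₁S, ht₁⟩ := exists_qf hfac ((inf_le_left : normalizerIn S' Q' ≤ S') hval)
        have ht₁T : t₁ ∈ normalizerIn S Q := (hTmem t₁).2 ⟨ht₁S, by rw [ht₁]; exact hval⟩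
        have hq1 : qf θ t₁ ∈ normalizerIn S' Q' := by
          rw [ht₁]
          exact hval
        have e1 : (⟨φ ⟨qf θ t, htP⟩, hval⟩ : ↥(normalizerIn S' Q')) = ⟨qf θ t₁, hq1⟩ := Subtype.ext ht₁.symm
        rw [e1, hι'q t₁ ht₁T hq1, hι'q t ht (hP htP), ← map_inv, ← map_mul, ← map_mul] at h1
        obtain ⟨z, hz, hze⟩ := hπeq _ _ h1
        refine (hUmem t ht).2 ?_
        rw [hze, ← map_mul]
        exact ⟨_, rfl⟩
      have hQU : ∀ t ∈ Q, t ∈ U := by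
        intro t ht
        refine (hUmem t (hQT ht)).2 ?_
        obtain ⟨y, hy, -, hye⟩ := hconjQ g t ht
        exact ⟨⟨y, hy⟩, hye⟩
      have hP₂U : P₂ ≤ U := by
        have h1 : P ⊔ Q' ≤ imageAlong θ U := by
          refine sup_le (fun x hx => ?_) (fun x hx => ?_)
          · obtain ⟨s, hs, rfl⟩ := exists_qf hfac (hPS' hx)
            have hsT : s ∈ normalizerIn S Q := (hTmem s).2 ⟨hs, hP hx⟩
            exact mem_image.2 ⟨s, hPU s hsT hx, hs, rfl⟩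
          · obtain ⟨s, hs, rfl⟩ := exists_qf hfac (hQ' hx)
            exact mem_image.2 ⟨s, hQU s ((hQmem s).2 ⟨hs, hx⟩), hs, rfl⟩
        intro x hx
        obtain ⟨hxS, hxq⟩ := (hP₂mem x).1 hx
        obtain ⟨u, huU, huS, hue⟩ := mem_image.1 (h1 hxq)
        have h2 : u⁻¹ * x ∈ Z := (qf_eq_iff hfac huS hxS).1 hue
        have h3 : x = u * (u⁻¹ * x) := by group
        rw [h3]
        exact U.mul_mem huU (hZU h2)
      have hran : ∀ x (hx : x ∈ P₂), g * ι ⟨x, hP₂T hx⟩ * g⁻¹ ∈ ι.range := fun x hx =>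
        (hUmem x (hP₂T hx)).1 (hP₂U hx)
      have hmE : Maps E P₂ (Cfsg.Agent.Lib.FusionMono.cf ι g) :=
        Cfsg.Agent.Lib.FusionMono.maps_cf hι hP₂T g hran
      have hmF : Maps F P₂ (Cfsg.Agent.Lib.FusionMono.cf ι g) := ((maps_norm_iff hE).1 hmE).1
      have hcf : ∀ x (hx : x ∈ P₂), ι ⟨Cfsg.Agent.Lib.FusionMono.cf ι g x, Cfsg.Agent.Lib.FusionMono.cf_mem g (hP₂T hx)⟩ =
          g * ι ⟨x, hP₂T hx⟩ * g⁻¹ := fun x hx => Cfsg.Agent.Lib.FusionMono.ι_cf g (hP₂T hx) (hran x hx)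
      obtain ⟨g', hg', hrel⟩ := maps_desc hfac hZ hsupS (by rw [← hP₂]; exact hmF)
      rw [← hP₂] at hrel
      have hagree : ∀ x ∈ P, g' x = fn φ x := by
        intro x hx
        obtain ⟨s, hs, rfl⟩ := exists_qf hfac (hPS' hx)
        have hsP₂ : s ∈ P₂ := (hP₂mem s).2 ⟨hs, Subgroup.mem_sup_left hx⟩
        rw [hrel s hsP₂, fn_of_mem φ hx]
        have hcT := Cfsg.Agent.Lib.FusionMono.cf_mem (ι := ι) g (hP₂T hsP₂)
        have hq1 : qf θ (Cfsg.Agent.Lib.FusionMono.cf ι g s) ∈ normalizerIn S' Q' :=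
          ((hTmem _).1 hcT).2
        have h1 := hgb ⟨qf θ s, hx⟩
        have h2 : ι' ⟨qf θ (Cfsg.Agent.Lib.FusionMono.cf ι g s), hq1⟩ = ι' ⟨φ ⟨qf θ s, hx⟩, hφ _⟩ := by
          rw [h1, hι'q _ hcT hq1, hcf s hsP₂, hι'q s (hP₂T hsP₂) (hP hx), map_mul, map_mul, map_inv]
        exact congrArg Subtype.val (hι'inj h2)
      have hQ'val : ∀ x ∈ Q', g' x ∈ Q' := by
        intro x hx
        obtain ⟨s, hs, rfl⟩ := exists_qf hfac (hQ' hx)
        have hsQ : s ∈ Q := (hQmem s).2 ⟨hs, hx⟩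
        have hsP₂ := hQP₂ hsQ
        rw [hrel s hsP₂]
        obtain ⟨y, hy, hyQ, hye⟩ := hconjQ g s hsQ
        have h1 := hcf s hsP₂
        have h2 : (⟨Cfsg.Agent.Lib.FusionMono.cf ι g s, Cfsg.Agent.Lib.FusionMono.cf_mem g (hP₂T hsP₂)⟩ :
            ↥(normalizerIn S Q)) = ⟨y, hy⟩ := hι.1 (h1.trans hye.symm)
        have h3 : Cfsg.Agent.Lib.FusionMono.cf ι g s = y := congrArg Subtype.val h2
        rw [h3]
        exact ((hQmem y).1 hyQ).2
      have himg : img g' Q' = Q' := img_eq_of_card (hg'.restrict le_sup_right) hQ' hQ' hQ'val le_rfl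
      have hmF' : Maps F' P (fn φ) := (hg'.restrict le_sup_left).congr hagree
      have hmE' : Maps E' P (fn φ) := (maps_norm_iff hE').2 ⟨hmF', hP, fun x hx => by
        rw [fn_of_mem φ hx]
        exact hφ ⟨x, hx⟩, g', hg', hagree, himg⟩
      exact hmE'.mem_hom (fun x => (fn_of_mem φ x.2).symm)
  · rw [Sylow.coe_mapSurjective, hT₀]
    ext y
    constructor
    · rintro ⟨_, ⟨t, rfl⟩, rfl⟩
      exact ⟨θT t, hι' t⟩
    · rintro ⟨y, rfl⟩
      obtain ⟨t, rfl⟩ := hθTs y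
      exact ⟨ι t, ⟨t, rfl⟩, (hι' t).symm⟩

/-- Freeness passes to the factor system by a central subgroup. -/
theorem sectionFree_quot [Finite S] [Finite S'] (hS : IsPGroup p S) (hS' : IsPGroup p S') (hF : F.IsSaturated p)
    (hF' : F'.IsSaturated p) (hfac : F.IsFactorSystem Z θ F') (hZ : F.IsCentral Z) {H : Type*} [Group H]
    (hfree : F.IsSectionFree p H) : F'.IsSectionFree p H := by
  intro Q' hQ'n hQ'c E' hE' L' _ ι' hM' hinv
  have hQ' := hQ'n.1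
  obtain ⟨Q, hQdef⟩ : ∃ Q, Q = preimageAlong θ Q' := ⟨_, rfl⟩
  have hQn : F.IsFullyNormalized Q := hQdef ▸ fullyNormalized_pre hfac hZ hQ'n
  have hQc : F.IsCentric Q := hQdef ▸ centric_pre hfac hZ hQ'c
  have hQS := hQn.1
  obtain ⟨E, hE⟩ := exists_normalizerSystem (F := F) hQS
  have hEs := Cfsg.Agent.Lib.FusionSatNorm.saturated_normalizer hS hF hQn hE
  have hQN : E.IsNormal Q := isNormal_normalizerSystem hQS hE
  have hTS : normalizerIn S Q ≤ S := inf_le_left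
  haveI : Finite ↥(normalizerIn S Q) := finite_of_le hTS
  have hT : IsPGroup p (normalizerIn S Q) := hS.to_le hTS
  have hQC : E.IsCentric Q := by
    refine ⟨le_normalizerIn hQS, fun Q₁ hQ₁ => ?_⟩
    rw [conj_eq_of_isNormal hQN hQ₁]
    intro c hc
    exact IsCentric_self hQc (mem_centralizerIn.2 ⟨hTS (mem_centralizerIn.1 hc).1, (mem_centralizerIn.1 hc).2⟩)
  obtain ⟨L, instL, ι, hM⟩ := Cfsg.Agent.Lib.FusionModel.exists_model hT hEs hQN hQC
  have hnot := hfree Q hQn hQc E hE L ι hM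
  obtain ⟨N, hN, ιb, hMb⟩ := isModel_quot hS hfac hZ hQ' hQdef hE hE' hQN hM
  -- the factor normalizer system is constrained
  have hTS' : normalizerIn S' Q' ≤ S' := inf_le_left
  haveI : Finite ↥(normalizerIn S' Q') := finite_of_le hTS'
  have hT' : IsPGroup p (normalizerIn S' Q') := hS'.to_le hTS'
  have hEs' := Cfsg.Agent.Lib.FusionSatNorm.saturated_normalizer hS' hF' hQ'n hE'
  have hQN' : E'.IsNormal Q' := isNormal_normalizerSystem hQ' hE'
  have hQC' : E'.IsCentric Q' := by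
    refine ⟨le_normalizerIn hQ', fun Q₁ hQ₁ => ?_⟩
    rw [conj_eq_of_isNormal hQN' hQ₁]
    intro c hc
    exact IsCentric_self hQ'c (mem_centralizerIn.2 ⟨hTS' (mem_centralizerIn.1 hc).1, (mem_centralizerIn.1 hc).2⟩)
  obtain ⟨e, -⟩ := Cfsg.Agent.S5091.result p hT' E' ⟨hEs', Q', hQN', hQC'⟩ ιb ι' hMb hM'
  apply hnot
  refine Cfsg.Agent.Lib.InvolvesAPI.Involves.trans hinv ?_
  exact Cfsg.Agent.Lib.InvolvesAPI.involves_of_surj_top (e.toMonoidHom.comp (QuotientGroup.mk' N))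
    (e.surjective.comp (QuotientGroup.mk'_surjective N))

end Factor

end Cfsg.Agent.Lib.FusionCentralQuot
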