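/-
FusionSparse: the centralizer system of a normal subgroup; a sparse fusion system is constrained.
-/
import Mathlib
import Cfsg.Agent.S5195
import Cfsg.Agent.S5145
import Cfsg.Agent.Lib.FusionAgemoJ

set_option autoImplicit false

namespace Cfsg.Agent.Lib.FusionSparse

open Cfsg Cfsg.FusionSystem Cfsg.Agent.Lib.FusionCore Cfsg.Agent.Lib.FusionCore2 Cfsg.Agent.Lib.FusionCore3
open Cfsg.Agent.Lib.FusionGT

universe u

section Basic

variable {Ω : Type u} [Group Ω] {S : Subgroup Ω} {F : FusionSystem S}

/-- Maps of the centralizer system. -/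
lemma maps_cent_iff {R : Subgroup Ω} {D : FusionSystem (centralizerIn S R)} (hD : F.IsCentralizerSystem R D)
    {P : Subgroup Ω} {f : Ω → Ω} :
    Maps D P f ↔ Maps F P f ∧ P ≤ centralizerIn S R ∧ (∀ x ∈ P, f x ∈ centralizerIn S R) ∧ CExt F R P f := by
  constructor
  · rintro ⟨φ, hφ, hf⟩
    rw [hD P] at hφ
    obtain ⟨h1, h2, h3, h4⟩ := hφ
    refine ⟨⟨φ, h1, hf⟩, h2, fun x hx => ?_, ?_⟩
    · rw [← hf ⟨x, hx⟩]
      exact h3 _
    · obtain ⟨g, hg, h5, h6⟩ := cExt_iff_exists.1 h4
      refine ⟨g, hg, fun x hx => ?_, h6⟩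
      rw [h5 x hx, fn_of_mem φ hx]
      exact hf ⟨x, hx⟩
  · rintro ⟨⟨φ, hφ, hf⟩, h2, h3, g, hg, h5, h6⟩
    refine ⟨φ, ?_, hf⟩
    rw [hD P]
    refine ⟨hφ, h2, fun x => ?_, ?_⟩
    · rw [hf]
      exact h3 _ x.2
    · rw [cExt_iff_exists]
      refine ⟨g, hg, fun x hx => ?_, h6⟩
      rw [h5 x hx, fn_of_mem φ hx]
      exact (hf ⟨x, hx⟩).symm

/-- A system over a subgroup equal to `S`. -/
lemma exists_system_of_eq {T : Subgroup Ω} (h : T = S) (N : FusionSystem T) (p : ℕ) (hN : N.IsSaturated p) :
    ∃ E : FusionSystem S, (∀ P, E.Hom P = N.Hom P) ∧ E.IsSaturated p := by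
  subst h
  exact ⟨N, fun _ => rfl, hN⟩

end Basic

section Main

variable {Ω : Type u} [Group Ω] {S : Subgroup Ω} [Finite S] {F : FusionSystem S} {p : ℕ} [hp : Fact p.Prime]

/-- The centralizer of a normal subgroup is strongly closed. -/
lemma stronglyClosed_cent {R : Subgroup Ω} (hR : F.IsNormal R) : F.StronglyClosed (centralizerIn S R) := by
  obtain ⟨hRS, hN⟩ := isNormal_iff.1 hR
  refine ⟨inf_le_left, fun Q hQ φ hφ x => ?_⟩
  obtain ⟨g, hg, h1, h2⟩ := hN _ _ (Maps.of_mem hφ)
  have hxQ : (x : Ω) ∈ Q ⊔ R := Subgroup.mem_sup_left x.2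
  have e : φ x = g x := by
    rw [h1 x x.2, fn_coe]
  rw [e]
  refine mem_centralizerIn.2 ⟨hg.mem hxQ, fun r hr => ?_⟩
  rw [← h2] at hr
  obtain ⟨r₀, hr₀, rfl⟩ := (hg.restrict le_sup_right).mem_img.1 hr
  have hr₀' : r₀ ∈ Q ⊔ R := Subgroup.mem_sup_right hr₀
  rw [← hg.map_mul hr₀' hxQ, ← hg.map_mul hxQ hr₀', (mem_centralizerIn.1 (hQ x.2)).2 r₀ hr₀]

/-- If the centralizer system of a normal subgroup `R` is inner, the centralizer of `R` lies in `O_p(F)`. -/
theorem cent_le_core_of_inner (hS : IsPGroup p S) (hF : F.IsSaturated p) {R : Subgroup Ω} (hR : F.IsNormal R)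
    {D : FusionSystem (centralizerIn S R)} (hD : F.IsCentralizerSystem R D)
    (hin : ∀ P : Subgroup Ω, D.Hom P = (innerFusionSystem (centralizerIn S R)).Hom P) :
    centralizerIn S R ≤ F.core := by
  have hRS := hR.1
  haveI : Finite R := finite_of_le hRS
  have hsc := stronglyClosed_of_isNormal hR
  have hCsc := stronglyClosed_cent hR
  have hCS : centralizerIn S R ≤ S := inf_le_left
  haveI : Finite (centralizerIn S R) := finite_of_le hCS
  have hSN := Cfsg.Agent.Lib.FusionNormal.IsNormal.le_normalizer hR
  have hX : F.IsNormal (R ⊔ centralizerIn S R) := by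
    refine isNormal_of_AG hS hF (fun P hP => ?_)
    have hcase : R ≤ P ∧ centralizerIn S R ≤ P := by
      rcases hP with rfl | hP
      · exact ⟨hRS, hCS⟩
      · have hr := radical_of_essential hS hP
        have hc := hP.1
        have hPS := hc.1
        have hRP : R ≤ P := le_of_centric_radical hS hR hc hr
        refine ⟨hRP, ?_⟩
        by_contra hCP
        have hPC : ∀ x ∈ P, ∀ c ∈ centralizerIn S R, x * c * x⁻¹ ∈ centralizerIn S R := by
          intro x hx c hc'
          obtain ⟨hcS, hcc⟩ := mem_centralizerIn.1 hc'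
          have hxS := hPS hx
          refine mem_centralizerIn.2 ⟨S.mul_mem (S.mul_mem hxS hcS) (S.inv_mem hxS), fun z hz => ?_⟩
          have hz' : x⁻¹ * z * x⁻¹⁻¹ ∈ R := (Subgroup.mem_normalizer_iff.1 (Subgroup.inv_mem _ (hSN hxS)) z).1 hz
          have h1 := hcc _ hz'
          calc z * (x * c * x⁻¹) = x * (x⁻¹ * z * x⁻¹⁻¹ * c) * x⁻¹ := by group
            _ = x * (c * (x⁻¹ * z * x⁻¹⁻¹)) * x⁻¹ := by rw [h1]
            _ = _ := by group
        obtain ⟨c, hcC, hcP, hcN⟩ := Cfsg.Agent.Lib.FusionAgemoJ.exists_cnorm hS hPS hCS hPC hCP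
        apply hcP
        haveI := finite_mulAut hPS
        haveI : Finite P := finite_of_le hPS
        -- the stabilizer of `R`
        let D₀ : Subgroup (F.autGroup P) :=
          { carrier := {α | ∀ r ∈ R, afn (α : MulAut P) r = r}
            one_mem' := fun r hr => afn_one (hRP hr)
            mul_mem' := by
              intro a b ha hb r hr
              show afn ((a : MulAut P) * (b : MulAut P)) r = r
              rw [afn_mul _ _ (hRP hr), hb r hr, ha r hr]
            inv_mem' := by
              intro a ha r hr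
              show afn ((a : MulAut P)⁻¹) r = r
              have h1 := afn_inv_afn (a : MulAut P) (hRP hr)
              rwa [ha r hr] at h1 }
        have hD₀mem : ∀ α : F.autGroup P, α ∈ D₀ ↔ ∀ r ∈ R, afn (α : MulAut P) r = r := fun _ => Iff.rfl
        have hR_inv : ∀ α : F.autGroup P, ∀ r ∈ R, afn (α : MulAut P) r ∈ R := by
          intro α r hr
          exact StronglyClosed.maps hsc le_rfl ((Maps_of_mem_autGroup hPS α.2).restrict hRP) hr
        haveI hD₀n : D₀.Normal := by
          refine ⟨fun a ha g r hr => ?_⟩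
          show afn ((g : MulAut P) * (a : MulAut P) * (g : MulAut P)⁻¹) r = r
          have hr' : afn ((g⁻¹ : F.autGroup P) : MulAut P) r ∈ R := hR_inv g⁻¹ r hr
          have e1 : afn ((g : MulAut P)⁻¹) r = afn ((g⁻¹ : F.autGroup P) : MulAut P) r := rfl
          rw [afn_mul _ _ (hRP hr), afn_mul _ _ (afn_mem _ (hRP hr)), e1, ha _ hr', ← e1, afn_afn_inv _ (hRP hr)]
        -- the elements of order prime to `p` in `D₀` are trivial
        have hp' : ∀ β : F.autGroup P, β ∈ D₀ → (orderOf β).Coprime p → β = 1 := by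
          intro β hβ hco
          have hco' : (orderOf (β : MulAut P)).Coprime p := by
            rwa [show orderOf (β : MulAut P) = orderOf β from Subgroup.orderOf_coe β]
          have hβm : Maps F P (afn (β : MulAut P)) := Maps_of_mem_autGroup hPS β.2
          have hYP : P ⊓ centralizerIn S R ≤ P := inf_le_left
          have hYp : IsPGroup p ↥(P ⊓ centralizerIn S R) := hS.to_le (inf_le_left.trans hPS)
          have hYval : ∀ q ∈ P ⊓ centralizerIn S R, afn (β : MulAut P) q ∈ centralizerIn S R := by
            intro q hq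
            exact StronglyClosed.maps hCsc inf_le_right (hβm.restrict hYP) hq
          have hYm : Maps D (P ⊓ centralizerIn S R) (afn (β : MulAut P)) := by
            refine (maps_cent_iff hD).2 ⟨hβm.restrict hYP, inf_le_right, hYval, afn (β : MulAut P),
              hβm.restrict (sup_le hYP hRP), fun _ _ => rfl, (hD₀mem β).1 hβ⟩
          obtain ⟨φ, hφ, hfφ⟩ := hYm
          rw [hin] at hφ
          obtain ⟨-, s, hs, hsφ⟩ := hφ
          have hconj : ∀ q ∈ P ⊓ centralizerIn S R, afn (β : MulAut P) q = s * q * s⁻¹ := by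
            intro q hq
            rw [← hfφ ⟨q, hq⟩, hsφ]
          have hfix : ∀ q ∈ P ⊓ centralizerIn S R, afn (β : MulAut P) q = q := by
            have hpow : ∀ n : ℕ, ∀ q ∈ P ⊓ centralizerIn S R,
                afn ((β : MulAut P) ^ n) q = s ^ n * q * s⁻¹ ^ n ∧ afn ((β : MulAut P) ^ n) q ∈ P ⊓ centralizerIn S R := by
              intro n
              induction n with
              | zero =>
                intro q hq
                rw [pow_zero, afn_one hq.1]
                exact ⟨by group, hq⟩
              | succ n ih =>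
                intro q hq
                obtain ⟨h1, h2⟩ := ih q hq
                have e : afn ((β : MulAut P) ^ (n + 1)) q = afn (β : MulAut P) (afn ((β : MulAut P) ^ n) q) := by
                  rw [pow_succ', afn_mul _ _ hq.1]
                rw [e]
                constructor
                · rw [hconj _ h2, h1, pow_succ' s, pow_succ s⁻¹]
                  simp only [mul_assoc]
                · exact ⟨afn_mem _ h2.1, hYval _ h2⟩
            obtain ⟨k, hk⟩ := (hS.to_le hCS) ⟨s, hs⟩
            have hsk : s ^ p ^ k = 1 := by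
              have := congrArg Subtype.val hk
              exact this
            have hco2 : (orderOf (β : MulAut P)).Coprime (p ^ k) := Nat.Coprime.pow_right k hco'
            obtain ⟨m, hm⟩ := exists_pow_eq_self_of_coprime (x := (β : MulAut P)) hco2.symm
            intro q hq
            have h1 := (hpow (p ^ k) q hq).1
            have hinv : s⁻¹ ^ p ^ k = 1 := by
              rw [inv_pow, hsk, inv_one]
            rw [hsk, hinv, one_mul, mul_one] at h1
            have hmm : ∀ t : ℕ, afn (((β : MulAut P) ^ p ^ k) ^ t) q = q := by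
              intro t
              induction t with
              | zero =>
                rw [pow_zero, afn_one hq.1]
              | succ t ih =>
                rw [pow_succ, afn_mul _ _ hq.1, h1, ih]
            have := hmm m
            rwa [hm] at this
          have hsec : ∀ x ∈ P, x⁻¹ * afn (β : MulAut P) x ∈ P ⊓ centralizerIn S R := by
            intro x hx
            refine ⟨P.mul_mem (P.inv_mem hx) (afn_mem _ hx), mem_centralizerIn.2
              ⟨S.mul_mem (S.inv_mem (hPS hx)) (hPS (afn_mem _ hx)), fun r hr => ?_⟩⟩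
            have hxN := hSN (hPS hx)
            have h1 : x * r * x⁻¹ ∈ R := (Subgroup.mem_normalizer_iff.1 hxN r).1 hr
            have h2 := (hD₀mem β).1 hβ _ h1
            rw [hβm.map_conj hx (hRP hr), (hD₀mem β).1 hβ r hr] at h2
            calc r * (x⁻¹ * afn (β : MulAut P) x) = x⁻¹ * (x * r * x⁻¹) * afn (β : MulAut P) x := by group
              _ = x⁻¹ * (afn (β : MulAut P) x * r * (afn (β : MulAut P) x)⁻¹) * afn (β : MulAut P) x := by rw [h2]
              _ = _ := by group
          apply Subtype.ext
          exact eq_one_of_sections hYP hYp hco' hsec hfix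
        have hD₀p : IsPGroup p D₀ := by
          intro α
          obtain ⟨a, m, hm, hord⟩ := Nat.exists_eq_pow_mul_and_not_dvd (orderOf_pos (α : F.autGroup P)).ne' p hp.out.ne_one
          refine ⟨a, Subtype.ext ?_⟩
          have hdvd : m ∣ orderOf (α : F.autGroup P) := Dvd.intro_left _ hord.symm
          have h1 := orderOf_pow_orderOf_div (orderOf_pos (α : F.autGroup P)).ne' hdvd
          have hdiv : orderOf (α : F.autGroup P) / m = p ^ a := by
            rw [hord]
            exact Nat.mul_div_cancel _ (Nat.pos_of_ne_zero (fun h0 => hm (h0 ▸ dvd_zero p)))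
          rw [hdiv] at h1
          have h2 : (α : F.autGroup P) ^ p ^ a ∈ D₀ := D₀.pow_mem α.2 _
          have h3 : (α : F.autGroup P) ^ p ^ a = 1 :=
            hp' _ h2 (by rw [h1]; exact ((Nat.Prime.coprime_iff_not_dvd hp.out).2 hm).symm)
          simpa using h3
        have hle : D₀ ≤ Cfsg.pCore p (F.autGroup P) := Cfsg.Agent.Lib.PCore.le_pCore hD₀n hD₀p
        let tb : normalizerIn S P := ⟨c, hcN⟩
        have hmem : conjA hPS tb ∈ D₀ := by
          intro r hr
          have e1 : afn (conjA (F := F) hPS tb : MulAut P) r = c * r * c⁻¹ := afn_conjN tb (hRP hr)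
          rw [e1, ← (mem_centralizerIn.1 hcC).2 r hr]
          group
        have h4 : (conjA (F := F) hPS tb : MulAut P) ∈ Inn P := by
          rw [← hr.2]
          exact ⟨_, hle hmem, rfl⟩
        exact (conjA_mem_innA_iff hc tb).1 (Subgroup.mem_subgroupOf.2 h4)
    obtain ⟨hRP, hCP⟩ := hcase
    refine ⟨sup_le hRP hCP, fun α hα => ?_⟩
    have hPS : P ≤ S := by
      rcases hP with rfl | hP
      · exact le_rfl
      · exact hP.1.1
    have hm := Maps_of_mem_autGroup hPS hα
    have hm' : Maps F (R ⊔ centralizerIn S R) (afn α) := hm.restrict (sup_le hRP hCP)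
    rw [hm'.img_sup, StronglyClosed.img_eq hsc hRP hm, StronglyClosed.img_eq hCsc hCP hm]
  have : R ⊔ centralizerIn S R ≤ F.core := le_sSup hX
  exact le_sup_right.trans this

end Main

end Cfsg.Agent.Lib.FusionSparse
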