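/-
FusionSmallExp: a saturated subsystem agreeing with a saturated system on the small-exponent abelian
subgroups of the hyperfocal subgroup is the whole system (S5273, S5296).

`normal_ext`: if `B` is normal in saturated systems `E ≤ F` over the same `S`, and `E`, `F` agree on the maps of `B`
and on the maps (of subgroups between `B` and `C_S(B) B`) fixing `B` elementwise, then `F ≤ E`.
-/
import Mathlib
import Cfsg.Agent.Lib.FusionCore
import Cfsg.Agent.Lib.FusionCore2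
import Cfsg.Agent.Lib.FusionCore3
import Cfsg.Agent.Lib.FusionAlperin
import Cfsg.Agent.Lib.FusionIndexPrime
import Cfsg.Agent.Lib.FusionSatNorm
import Cfsg.Agent.Lib.FusionGT
import Cfsg.Agent.Lib.FusionGT3
import Cfsg.Agent.Lib.FusionSparse
import Cfsg.Agent.Lib.FusionHyperfocal
import Cfsg.Agent.Lib.FusionOPower
import Cfsg.Agent.Lib.FusionFocal
import Cfsg.Agent.Lib.CritAut
import Cfsg.Agent.Lib.PCore

set_option autoImplicit false

namespace Cfsg.Agent.Lib.FusionSmallExp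

open Cfsg Cfsg.FusionSystem Cfsg.Agent.Lib.FusionCore Cfsg.Agent.Lib.FusionCore2
open Cfsg.Agent.Lib.FusionGT Cfsg.Agent.Lib.FusionSparse

variable {Ω : Type*} [Group Ω] {S : Subgroup Ω} {F E : FusionSystem S} {P Q R U T B X : Subgroup Ω} {f g : Ω → Ω}

/-- Elements of a join with a normalized subgroup. -/
lemma mem_sup_mul {A C : Subgroup Ω} (h : A ≤ Subgroup.normalizer (C : Set Ω)) {x : Ω} (hx : x ∈ A ⊔ C) :
    ∃ a ∈ A, ∃ c ∈ C, x = a * c := by
  have hc : ∀ a ∈ A, ∀ c ∈ C, a * c * a⁻¹ ∈ C := fun a ha c hc => by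
    have := (Subgroup.mem_normalizer_iff.1 (h ha) c).1 hc
    exact this
  let M : Subgroup Ω :=
    { carrier := {x | ∃ a ∈ A, ∃ c ∈ C, x = a * c}
      mul_mem' := by
        rintro _ _ ⟨a, ha, c, hc', rfl⟩ ⟨a', ha', c', hc'', rfl⟩
        refine ⟨a * a', A.mul_mem ha ha', a'⁻¹ * c * a' * c', C.mul_mem ?_ hc'', by group⟩
        simpa using hc a'⁻¹ (A.inv_mem ha') c hc'
      one_mem' := ⟨1, A.one_mem, 1, C.one_mem, by simp⟩
      inv_mem' := by
        rintro _ ⟨a, ha, c, hc', rfl⟩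
        exact ⟨a⁻¹, A.inv_mem ha, a * c⁻¹ * a⁻¹, hc a ha _ (C.inv_mem hc'), by group⟩ }
  have hM : A ⊔ C ≤ M := sup_le (fun a ha => ⟨a, ha, 1, C.one_mem, by simp⟩)
    (fun c hc => ⟨1, A.one_mem, c, hc, by simp⟩)
  exact hM hx

section Basic

variable [Finite S]

lemma le_norm_of_isNormal (hB : F.IsNormal B) : S ≤ Subgroup.normalizer (B : Set Ω) := by
  intro s hs
  have hBS := hB.1
  have h1 : img (fun x => s * x * s⁻¹) B = B :=
    conj_eq_of_isNormal hB (isConj_iff.2 ⟨_, Maps.conj hBS hs, rfl⟩)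
  have hmaps : Maps F B (fun x => s * x * s⁻¹) := Maps.conj hBS hs
  rw [Subgroup.mem_normalizer_iff]
  intro y
  constructor
  · intro hy
    have := hmaps.mem_img_of_mem hy
    rwa [h1] at this
  · intro hy
    have : s * y * s⁻¹ ∈ img (fun x => s * x * s⁻¹) B := by rwa [h1]
    obtain ⟨x, hx, hxe⟩ := hmaps.mem_img.1 this
    have : x = y := by
      have h2 : s * x * s⁻¹ = s * y * s⁻¹ := hxe
      exact mul_left_cancel (mul_right_cancel h2)
    rwa [← this]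

lemma img_eq_of_isNormal (hB : F.IsNormal B) (hm : Maps F R f) (hBR : B ≤ R) : img f B = B :=
  conj_eq_of_isNormal hB (isConj_iff.2 ⟨f, hm.restrict hBR, rfl⟩)

lemma maps_mem_of_isNormal (hB : F.IsNormal B) (hm : Maps F R f) (hBR : B ≤ R) {b : Ω} (hb : b ∈ B) : f b ∈ B := by
  have := (hm.restrict hBR).mem_img_of_mem hb
  rwa [img_eq_of_isNormal hB hm hBR] at this

lemma maps_surj_of_isNormal (hB : F.IsNormal B) (hm : Maps F R f) (hBR : B ≤ R) {b : Ω} (hb : b ∈ B) :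
    ∃ b' ∈ B, f b' = b := by
  rw [← img_eq_of_isNormal hB hm hBR] at hb
  exact (hm.restrict hBR).mem_img.1 hb

/-- Elements centralizing `B` are sent to elements centralizing `B`. -/
lemma maps_cent_of_isNormal (hB : F.IsNormal B) (hm : Maps F R f) (hBR : B ≤ R) {t : Ω} (htR : t ∈ R)
    (ht : t ∈ centralizerIn S B) : f t ∈ centralizerIn S B := by
  refine mem_centralizerIn.2 ⟨hm.mem htR, fun b hb => ?_⟩
  obtain ⟨b', hb', rfl⟩ := maps_surj_of_isNormal hB hm hBR hb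
  rw [← hm.map_mul (hBR hb') htR, ← hm.map_mul htR (hBR hb'), (mem_centralizerIn.1 ht).2 b' hb']

/-- The reverse: an element sent to the centralizer of `B` centralizes `B`. -/
lemma cent_of_maps_isNormal (hB : F.IsNormal B) (hm : Maps F R f) (hBR : B ≤ R) {t : Ω} (htR : t ∈ R)
    (ht : f t ∈ centralizerIn S B) : t ∈ centralizerIn S B := by
  refine mem_centralizerIn.2 ⟨hm.le htR, fun b hb => ?_⟩
  apply hm.inj (R.mul_mem (hBR hb) htR) (R.mul_mem htR (hBR hb))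
  rw [hm.map_mul (hBR hb) htR, hm.map_mul htR (hBR hb)]
  exact (mem_centralizerIn.1 ht).2 _ (maps_mem_of_isNormal hB hm hBR hb)

/-- The centralizer of a normal subgroup is normalized by `S`. -/
lemma conj_mem_cent (hB : F.IsNormal B) {s t : Ω} (hs : s ∈ S) (ht : t ∈ centralizerIn S B) :
    s * t * s⁻¹ ∈ centralizerIn S B := by
  obtain ⟨h1, h2⟩ := mem_centralizerIn.1 ht
  refine mem_centralizerIn.2 ⟨S.mul_mem (S.mul_mem hs h1) (S.inv_mem hs), fun b hb => ?_⟩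
  have hb' : s⁻¹ * b * s ∈ B := by
    have := (Subgroup.mem_normalizer_iff.1 (le_norm_of_isNormal hB (S.inv_mem hs)) b).1 hb
    simpa using this
  have h3 := h2 _ hb'
  calc b * (s * t * s⁻¹) = s * ((s⁻¹ * b * s) * t) * s⁻¹ := by group
    _ = s * (t * (s⁻¹ * b * s)) * s⁻¹ := by rw [h3]
    _ = s * t * s⁻¹ * b := by group

end Basic

section Sat

variable [Finite S] {p : ℕ} [Fact p.Prime]

/-- An automorphism stabilizing a two-step invariant chain of a radical subgroup is inner. -/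
lemma chain_inner (hS : IsPGroup p S) (hPS : P ≤ S)
    (hr : (pCore p (F.autGroup P)).map (F.autGroup P).subtype ≤ Inn P) (hXP : X ≤ P)
    (hinv : ∀ α ∈ F.autGroup P, ∀ x ∈ X, afn α x ∈ X) {θ : Ω → Ω} (hθ : Maps F P θ) (himg : img θ P = P)
    (h1 : ∀ x ∈ X, θ x = x) (h2 : ∀ x ∈ P, x⁻¹ * θ x ∈ X) :
    ∃ z ∈ P, ∀ x ∈ P, θ x = z * x * z⁻¹ := by
  haveI := finite_mulAut hPS
  haveI := finite_of_le hPS
  let C' : ℕ → Subgroup P := fun i => Nat.casesOn i ⊤ (fun j => Nat.casesOn j (X.subgroupOf P) (fun _ => ⊥))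
  have hinv' : ∀ δ ∈ F.autGroup P, ∀ i, ∀ x ∈ C' i, δ x ∈ C' i := by
    intro δ hδ i x hx
    rcases i with _ | _ | i
    · exact Subgroup.mem_top _
    · apply Subgroup.mem_subgroupOf.2
      have := hinv δ hδ x (Subgroup.mem_subgroupOf.1 hx)
      rwa [afn_coe] at this
    · have hx' : x = 1 := Subgroup.mem_bot.1 hx
      rw [hx', _root_.map_one]
      exact Subgroup.one_mem _
  have hanti' : ∀ i, C' (i + 1) ≤ C' i := by
    intro i x hx
    rcases i with _ | _ | i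
    · exact Subgroup.mem_top _
    · have hx' : x = 1 := Subgroup.mem_bot.1 hx
      rw [hx']
      exact Subgroup.one_mem _
    · exact hx
  let D := Cfsg.Agent.Lib.FusionAlperin.chainStab (F.autGroup P) C' hinv' hanti'
  have hDp : IsPGroup p D :=
    Cfsg.Agent.Lib.FusionAlperin.chainStab_isPGroup (hS.to_le hPS) _ _ hinv' hanti' (m := 2) rfl rfl
  have hDn : D.Normal := Cfsg.Agent.Lib.FusionAlperin.chainStab_normal _ _ _ _
  have hDle : D ≤ pCore p (F.autGroup P) := Cfsg.Agent.Lib.PCore.le_pCore hDn hDp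
  let τ : F.autGroup P := ⟨hθ.toAut himg, hθ.toAut_mem himg⟩
  have hτ : τ ∈ D := by
    intro i x hx
    rcases i with _ | _ | i
    · apply Subgroup.mem_subgroupOf.2
      have h3 := h2 (x : Ω) x.2
      rw [← hθ.afn_toAut himg x.2, afn_coe] at h3
      exact h3
    · have hxX : (x : Ω) ∈ X := Subgroup.mem_subgroupOf.1 hx
      have h3 := h1 (x : Ω) hxX
      rw [← hθ.afn_toAut himg x.2, afn_coe] at h3
      have h4 : (hθ.toAut himg) x = x := Subtype.ext h3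
      show x⁻¹ * (hθ.toAut himg) x ∈ _
      rw [h4, inv_mul_cancel]
      exact Subgroup.one_mem _
    · have hx' : x = 1 := Subgroup.mem_bot.1 hx
      show x⁻¹ * (hθ.toAut himg) x ∈ _
      rw [hx']
      simp
  have h4 : (τ : MulAut P) ∈ Inn P := hr ⟨_, hDle hτ, rfl⟩
  obtain ⟨z, hz⟩ := h4
  refine ⟨z, z.2, fun x hx => ?_⟩
  rw [← hθ.afn_toAut himg hx, afn_of_mem _ hx]
  have h5 : hθ.toAut himg = MulAut.conj z := hz.symm
  rw [h5]
  rfl

/-- `X = (P ∩ C_S(B)) B` for a centric radical subgroup `P ≥ B`, `B` normal, is centric. -/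
theorem centric_X (hS : IsPGroup p S) (hF : F.IsSaturated p) (hB : F.IsNormal B) (hBP : B ≤ P)
    (hc : F.IsCentric P) (hr : (pCore p (F.autGroup P)).map (F.autGroup P).subtype ≤ Inn P) :
    F.IsCentric ((P ⊓ centralizerIn S B) ⊔ B) := by
  set T := centralizerIn S B with hTdef
  set X := (P ⊓ T) ⊔ B with hXdef
  have hPS := hc.1
  have hXP : X ≤ P := sup_le inf_le_left hBP
  have hXS : X ≤ S := hXP.trans hPS
  have hBX : B ≤ X := le_sup_right
  haveI := finite_of_le hXS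
  have hinv : ∀ {R : Subgroup Ω} {k : Ω → Ω}, P ≤ R → Maps F R k → (∀ y ∈ P, k y ∈ P) → ∀ x ∈ X, k x ∈ X := by
    intro R k hPR hk hkP x hx
    have hk' : Maps F X k := hk.restrict (hXP.trans hPR)
    have hk2 : Maps F ((P ⊓ T) ⊔ B) k := hk'
    refine hk2.sup_mem (T := X) (fun y hy => ?_) (fun y hy => hBX (maps_mem_of_isNormal hB hk (hBP.trans hPR) hy)) x hx
    exact (le_sup_left : P ⊓ T ≤ X) ⟨hkP y hy.1, maps_cent_of_isNormal hB hk (hBP.trans hPR) (hPR hy.1) hy.2⟩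
  obtain ⟨U, hXU, hUn⟩ := exists_fullyNormalized_conj (F := F) hXS
  obtain ⟨hUc, hUa⟩ := of_fullyNormalized hS hF hUn
  have hUR := receptive_of_fullyCentralized hS hF hUc
  have hUS := hUn.1
  obtain ⟨ρ, hρ, hρN, hρimg⟩ := exists_normalizer_map hS hUa hUR hXU
  have hPNX : P ≤ normalizerIn S X := by
    intro y hy
    refine mem_normalizerIn.2 ⟨hPS hy, mem_normalizer_of_conj_mem fun x hx => ?_⟩
    exact hinv le_rfl (Maps.conj hPS (hPS hy)) (fun w hw => P.mul_mem (P.mul_mem hy hw) (P.inv_mem hy)) x hx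
  have hρP : Maps F P ρ := hρ.restrict hPNX
  obtain ⟨i, hi, hi1, hi2⟩ := hρP.inv
  set P₁ := img ρ P with hP₁
  have hP₁S : P₁ ≤ S := hρP.img_le
  have hP₁N : P₁ ≤ normalizerIn S U := by
    intro y hy
    obtain ⟨x, hx, rfl⟩ := hρP.mem_img.1 hy
    exact hρN x (hPNX hx)
  have hUP₁ : U ≤ P₁ := by
    rw [← hρimg]
    exact hρP.img_mono hXP
  have hBU : B ≤ U := by
    intro b hb
    rw [← hρimg]
    have h1 : img ρ B = B := img_eq_of_isNormal hB hρP hBP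
    have h2 : b ∈ img ρ B := by rwa [h1]
    exact (hρP.restrict hXP).img_mono hBX h2
  have hT₁ : ∀ y ∈ P₁, y ∈ T → y ∈ U := by
    intro y hy hyT
    obtain ⟨x, hx, rfl⟩ := hρP.mem_img.1 hy
    have hxT : x ∈ T := cent_of_maps_isNormal hB hρP hBP hx hyT
    rw [← hρimg]
    exact (hρP.restrict hXP).mem_img_of_mem ((le_sup_left : P ⊓ T ≤ X) ⟨hx, hxT⟩)
  have hCU : centralizerIn S U ≤ U := by
    by_contra hCU
    obtain ⟨c₀, hc₀, hc₀U⟩ := SetLike.not_le_iff_exists.1 hCU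
    set C := centralizerIn S U with hCdef
    have hCT : C ≤ T := centralizerIn_anti hBU
    have hCS : C ≤ S := inf_le_left
    haveI := finite_of_le hCS
    have hP₁NC : P₁ ≤ Subgroup.normalizer (C : Set Ω) := by
      intro y hy
      refine mem_normalizer_of_conj_mem fun c hc => ?_
      obtain ⟨hc1, hc2⟩ := mem_centralizerIn.1 hc
      refine mem_centralizerIn.2 ⟨S.mul_mem (S.mul_mem (hP₁S hy) hc1) (S.inv_mem (hP₁S hy)), fun u hu => ?_⟩
      have hu' : y⁻¹ * u * y ∈ U := by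
        have := (Subgroup.mem_normalizer_iff.1 (mem_normalizerIn.1 (hP₁N ((P₁.inv_mem hy)))).2 u).1 hu
        simpa using this
      have h3 := hc2 _ hu'
      calc u * (y * c * y⁻¹) = y * ((y⁻¹ * u * y) * c) * y⁻¹ := by group
        _ = y * (c * (y⁻¹ * u * y)) * y⁻¹ := by rw [h3]
        _ = y * c * y⁻¹ * u := by group
    have hlt : P₁ < P₁ ⊔ C := by
      refine lt_of_le_of_ne le_sup_left fun h => hc₀U ?_
      have hc₀P : c₀ ∈ P₁ := by
        rw [h]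
        exact (le_sup_right : C ≤ P₁ ⊔ C) hc₀
      exact hT₁ c₀ hc₀P (hCT hc₀)
    have hKS : P₁ ⊔ C ≤ S := sup_le hP₁S hCS
    obtain ⟨t, ht1, ht2⟩ := SetLike.exists_of_lt (lt_normalizerIn' hS hKS hlt)
    obtain ⟨y, hy, c, hcC, rfl⟩ := mem_sup_mul hP₁NC (mem_normalizerIn.1 ht1).1
    have hcS := hCS hcC
    have hcN : c ∈ Subgroup.normalizer (P₁ : Set Ω) := by
      have h3 : y⁻¹ * (y * c) = c := by group
      rw [← h3]
      exact Subgroup.mul_mem _ (Subgroup.inv_mem _ (Subgroup.le_normalizer hy)) (mem_normalizerIn.1 ht1).2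
    have hcP₁ : c ∉ P₁ := fun h => ht2 (P₁.mul_mem hy h)
    have hcconj : ∀ w ∈ P₁, c * w * c⁻¹ ∈ P₁ := fun w hw => (Subgroup.mem_normalizer_iff.1 hcN w).1 hw
    have hval1 : ∀ x ∈ P, ρ x ∈ P₁ := fun x hx => hρP.mem_img_of_mem hx
    have hcm : Maps F P₁ (fun x => c * x * c⁻¹) := Maps.conj hP₁S hcS
    have hθ : Maps F P (i ∘ ((fun x => c * x * c⁻¹) ∘ ρ)) :=
      (hρP.comp hcm hval1).comp hi (fun x hx => hcconj _ (hval1 x hx))
    have hθv : ∀ x ∈ P, (i ∘ ((fun x => c * x * c⁻¹) ∘ ρ)) x ∈ P :=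
      fun x hx => (hi2 _ (hcconj _ (hval1 x hx))).1
    have hθimg : img (i ∘ ((fun x => c * x * c⁻¹) ∘ ρ)) P = P := img_eq_of_card hθ hPS hPS hθv le_rfl
    have h1 : ∀ x ∈ X, (i ∘ ((fun x => c * x * c⁻¹) ∘ ρ)) x = x := by
      intro x hx
      have hxU : ρ x ∈ U := by
        rw [← hρimg]
        exact (hρP.restrict hXP).mem_img_of_mem hx
      show i (c * ρ x * c⁻¹) = x
      have h3 := (mem_centralizerIn.1 hcC).2 _ hxU
      rw [← h3, mul_inv_cancel_right, hi1 x (hXP hx)]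
    have h2 : ∀ x ∈ P, x⁻¹ * (i ∘ ((fun x => c * x * c⁻¹) ∘ ρ)) x ∈ X := by
      intro x hx
      have hy1 := hval1 x hx
      have hw1 : (ρ x)⁻¹ * (c * ρ x * c⁻¹) ∈ P₁ := P₁.mul_mem (P₁.inv_mem hy1) (hcconj _ hy1)
      have hw2 : (ρ x)⁻¹ * (c * ρ x * c⁻¹) ∈ T := by
        have h3 : (ρ x)⁻¹ * (c * ρ x * c⁻¹) = ((ρ x)⁻¹ * c * (ρ x)⁻¹⁻¹) * c⁻¹ := by group
        rw [h3]
        exact T.mul_mem (conj_mem_cent hB (S.inv_mem (hP₁S hy1)) (hCT hcC)) (T.inv_mem (hCT hcC))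
      have hw3 := hT₁ _ hw1 hw2
      rw [← hρimg] at hw3
      obtain ⟨x', hx', hx'e⟩ := (hρP.restrict hXP).mem_img.1 hw3
      have h4 : i ((ρ x)⁻¹ * (c * ρ x * c⁻¹)) = x' := by rw [← hx'e, hi1 x' (hXP hx')]
      rw [hi.map_mul (P₁.inv_mem hy1) (hcconj _ hy1), hi.map_inv hy1, hi1 x hx] at h4
      show x⁻¹ * i (c * ρ x * c⁻¹) ∈ X
      rw [h4]
      exact hx'
    have hinvα : ∀ α ∈ F.autGroup P, ∀ x ∈ X, afn α x ∈ X := fun α hα x hx =>
      hinv le_rfl ((mem_autGroup_iff hPS).1 hα) (fun y hy => afn_mem α hy) x hx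
    obtain ⟨z, hz, hzθ⟩ := chain_inner hS hPS hr hXP hinvα hθ hθimg h1 h2
    have hv : (ρ z)⁻¹ * c ∈ centralizerIn S P₁ := by
      refine mem_centralizerIn.2 ⟨S.mul_mem (S.inv_mem (hP₁S (hval1 z hz))) hcS, fun w hw => ?_⟩
      obtain ⟨x, hx, rfl⟩ := hρP.mem_img.1 hw
      have h3 := hzθ x hx
      have h4 : ρ ((i ∘ ((fun x => c * x * c⁻¹) ∘ ρ)) x) = c * ρ x * c⁻¹ := (hi2 _ (hcconj _ (hval1 x hx))).2
      rw [h3, hρP.map_conj hz hx] at h4
      have h5 : ρ x * ((ρ z)⁻¹ * c) = (ρ z)⁻¹ * (ρ z * ρ x * (ρ z)⁻¹) * c := by group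
      rw [h5, h4]
      group
    have hcen : F.IsCentric P₁ := IsCentric_conj hc (isConj_iff.2 ⟨ρ, hρP, rfl⟩)
    have hv2 := IsCentric_self hcen hv
    apply hcP₁
    have h3 : c = ρ z * ((ρ z)⁻¹ * c) := by group
    rw [h3]
    exact P₁.mul_mem (hval1 z hz) hv2
  have hUcen : F.IsCentric U := isCentric_of_fullyCentralized hUc hCU
  exact IsCentric_conj hUcen (IsConj_symm hXU)

/-- `O_p(Aut_F(S))` is `Inn(S)`, in the direction needed. -/
lemma core_le_inn_top (hS : IsPGroup p S) (hF : F.IsSaturated p) :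
    (pCore p (F.autGroup S)).map (F.autGroup S).subtype ≤ Inn S := by
  haveI := finite_mulAut (le_refl S)
  obtain ⟨-, R, hR⟩ := (of_fullyNormalized hS hF (Cfsg.Agent.Lib.FusionFocal.fullyNormalized_top (F := F))).2
  rintro _ ⟨a, ha, rfl⟩
  have h1 : a ∈ (R : Subgroup (F.autGroup S)) := Cfsg.Agent.Lib.PCore.pCore_le_sylow p R ha
  rw [hR, Subgroup.mem_subgroupOf, mem_autInducedBy] at h1
  obtain ⟨s, hs, h2⟩ := h1
  refine ⟨⟨s, hs⟩, ?_⟩
  apply afn_ext
  intro x hx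
  have h3 := h2 x hx
  rw [afn_of_mem _ hx]
  exact h3.symm

lemma isCentric_top : F.IsCentric S := by
  refine ⟨le_rfl, fun Q hQ => ?_⟩
  have h1 : Q = S := by
    obtain ⟨f, hf, rfl⟩ := isConj_iff.1 hQ
    apply Subgroup.eq_of_le_of_card_ge hf.img_le
    rw [hf.card_img]
  rw [h1]
  exact inf_le_left

/-- **The extension theorem for a normal subgroup.** -/
theorem normal_ext (hS : IsPGroup p S) (hF : F.IsSaturated p) (hE : E.IsSaturated p) (hEF : E ≤ F)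
    (hBF : F.IsNormal B) (hBE : E.IsNormal B)
    (h1 : ∀ a, Maps F B a → Maps E B a)
    (h2 : ∀ X, B ≤ X → X ≤ centralizerIn S B ⊔ B → ∀ g, Maps F X g → (∀ b ∈ B, g b = b) → Maps E X g) :
    F ≤ E := by
  set T := centralizerIn S B with hTdef
  have hBS := hBF.1
  have hEtoF : ∀ {R : Subgroup Ω} {k : Ω → Ω}, Maps E R k → Maps F R k := by
    rintro R k ⟨φ, hφ, hk⟩
    exact ⟨φ, hEF R hφ, hk⟩
  have hBfn : E.IsFullyNormalized B := ⟨hBS, fun Q' hQ' => by rw [conj_eq_of_isNormal hBE hQ']⟩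
  obtain ⟨hBc, -⟩ := of_fullyNormalized hS hE hBfn
  have hBR := receptive_of_fullyCentralized hS hE hBc
  have fact1 : ∀ X, B ≤ X → X ≤ T ⊔ B → ∀ g, Maps F X g → Maps E X g := by
    intro X hBX hXT g hg
    have hgB : Maps F B g := hg.restrict hBX
    have hgBE : Maps E B g := h1 g hgB
    have himg : img g B = B := img_eq_of_isNormal hBF hg hBX
    obtain ⟨k, hk, hkg⟩ := IsReceptive.ext hBR hgBE himg
    have hXNf : X ≤ Nf S B g := by
      intro x hx
      rw [mem_Nf]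
      exact ⟨hg.le hx, le_norm_of_isNormal hBF (hg.le hx), g x, hg.mem hx, fun y hy => hg.map_conj hx (hBX hy)⟩
    have hkX := hk.restrict hXNf
    obtain ⟨i, hi, hi1, hi2⟩ := hkX.inv
    have hgi : Maps F (img k X) (g ∘ i) := (hEtoF hi).comp hg (fun y hy => (hi2 y hy).1)
    have hsurj : ∀ b ∈ B, ∃ b' ∈ B, k b' = b := by
      intro b hb
      obtain ⟨b', hb', rfl⟩ := maps_surj_of_isNormal hBF hg hBX hb
      exact ⟨b', hb', hkg b' hb'⟩
    have hfix : ∀ b ∈ B, (g ∘ i) b = b := by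
      intro b hb
      obtain ⟨b', hb', rfl⟩ := hsurj b hb
      show g (i (k b')) = k b'
      rw [hi1 b' (hBX hb'), hkg b' hb']
    have hB' : B ≤ img k X := by
      intro b hb
      obtain ⟨b', hb', rfl⟩ := hsurj b hb
      exact hkX.mem_img_of_mem (hBX hb')
    have hTN : T ≤ Subgroup.normalizer (B : Set Ω) := (inf_le_left : T ≤ S).trans (le_norm_of_isNormal hBF)
    have hX'T : img k X ≤ T ⊔ B := by
      intro y hy
      obtain ⟨x, hx, rfl⟩ := hkX.mem_img.1 hy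
      obtain ⟨t, ht, b, hb, rfl⟩ := mem_sup_mul hTN (hXT hx)
      have htX : t ∈ X := by
        have h3 : t = t * b * b⁻¹ := by group
        rw [h3]
        exact X.mul_mem hx (X.inv_mem (hBX hb))
      rw [hkX.map_mul htX (hBX hb), hkg b hb]
      refine Subgroup.mul_mem_sup ?_ ?_
      · refine mem_centralizerIn.2 ⟨hkX.mem htX, fun b₁ hb₁ => ?_⟩
        obtain ⟨b₂, hb₂, rfl⟩ := hsurj b₁ hb₁
        rw [← hkX.map_mul (hBX hb₂) htX, ← hkX.map_mul htX (hBX hb₂), (mem_centralizerIn.1 ht).2 b₂ hb₂]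
      · exact maps_mem_of_isNormal hBF hg hBX hb
    have hE' := h2 _ hB' hX'T _ hgi hfix
    exact (hkX.comp hE' (fun x hx => hkX.mem_img_of_mem hx)).congr (fun x hx => by
      show g (i (k x)) = g x
      rw [hi1 x hx])
  refine Cfsg.Agent.Lib.FusionIndexPrime.alperin_goldschmidt' hS hF E (fun P hP IH α hα => ?_)
  have hPS : P ≤ S := by
    rcases hP with rfl | hP
    · exact le_rfl
    · exact hP.1.1
  have hm : Maps F P (afn α) := (mem_autGroup_iff hPS).1 hα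
  rw [mem_autGroup_iff hPS]
  by_cases hBP : B ≤ P
  swap
  · obtain ⟨hBS', hN⟩ := isNormal_iff.1 hBF
    obtain ⟨ψ, hψ, e1, -⟩ := hN P _ hm
    have hlt : P < P ⊔ B := lt_of_le_of_ne le_sup_left (fun h => hBP (sup_eq_left.1 h.symm))
    haveI := finite_of_le hψ.le
    have hcard : Nat.card P < Nat.card ↥(P ⊔ B) := Cfsg.Agent.Lib.FusionAlperin.card_lt_of_lt hlt
    exact ((IH _ hψ.le hcard ψ hψ).restrict le_sup_left).congr e1
  have hc : F.IsCentric P := by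
    rcases hP with rfl | hP
    · exact isCentric_top
    · exact hP.1
  have hr : (pCore p (F.autGroup P)).map (F.autGroup P).subtype ≤ Inn P := by
    rcases hP with rfl | hP
    · exact core_le_inn_top hS hF
    · exact (radical_of_essential hS hP).2.le
  have hXc := centric_X hS hF hBF hBP hc hr
  set X := (P ⊓ T) ⊔ B with hXdef
  have hXP : X ≤ P := sup_le inf_le_left hBP
  have hXS : X ≤ S := hXP.trans hPS
  have hBX : B ≤ X := le_sup_right
  have hXT : X ≤ T ⊔ B := sup_le_sup_right inf_le_right B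
  haveI := finite_of_le hXS
  have hinv : ∀ {k : Ω → Ω}, Maps F P k → (∀ y ∈ P, k y ∈ P) → ∀ x ∈ X, k x ∈ X := by
    intro k hk hkP x hx
    have hk' : Maps F X k := hk.restrict hXP
    have hk2 : Maps F ((P ⊓ T) ⊔ B) k := hk'
    refine hk2.sup_mem (T := X) (fun y hy => ?_) (fun y hy => hBX (maps_mem_of_isNormal hBF hk hBP hy)) x hx
    exact (le_sup_left : P ⊓ T ≤ X) ⟨hkP y hy.1, maps_cent_of_isNormal hBF hk hBP (hy.1) hy.2⟩
  have hαX : Maps E X (afn α) := fact1 X hBX hXT _ (hm.restrict hXP)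
  have hαv : ∀ x ∈ X, afn α x ∈ X := hinv hm (fun y hy => afn_mem α hy)
  obtain ⟨U, hXU, hUn⟩ := exists_fullyNormalized_conj (F := E) hXS
  obtain ⟨hUc, hUa⟩ := of_fullyNormalized hS hE hUn
  have hUR := receptive_of_fullyCentralized hS hE hUc
  have hUS := hUn.1
  obtain ⟨ρ, hρ, hρN, hρimg⟩ := exists_normalizer_map hS hUa hUR hXU
  have hPNX : P ≤ normalizerIn S X := by
    intro y hy
    refine mem_normalizerIn.2 ⟨hPS hy, mem_normalizer_of_conj_mem fun x hx => ?_⟩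
    exact hinv (Maps.conj hPS (hPS hy)) (fun w hw => P.mul_mem (P.mul_mem hy hw) (P.inv_mem hy)) x hx
  have hρP : Maps E P ρ := hρ.restrict hPNX
  obtain ⟨i, hi, hi1, hi2⟩ := hρP.inv
  set P₁ := img ρ P with hP₁
  have hP₁S : P₁ ≤ S := hρP.img_le
  have hval1 : ∀ x ∈ P, ρ x ∈ P₁ := fun x hx => hρP.mem_img_of_mem hx
  have hUP₁ : U ≤ P₁ := by
    rw [← hρimg]
    exact hρP.img_mono hXP
  have hP₁N : P₁ ≤ normalizerIn S U := by
    intro y hy
    obtain ⟨x, hx, rfl⟩ := hρP.mem_img.1 hy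
    exact hρN x (hPNX hx)
  -- the transported automorphism
  have hα₁F : Maps F P₁ (ρ ∘ (afn α ∘ i)) :=
    ((hEtoF hi).comp hm (fun y hy => (hi2 y hy).1)).comp (hEtoF hρP) (fun y hy => afn_mem α (hi2 y hy).1)
  have hiU : ∀ u ∈ U, i u ∈ X := by
    intro u hu
    rw [← hρimg] at hu
    obtain ⟨x, hx, rfl⟩ := (hρP.restrict hXP).mem_img.1 hu
    rwa [hi1 x (hXP hx)]
  have hα₁E : Maps E U (ρ ∘ (afn α ∘ i)) :=
    ((hi.restrict hUP₁).comp hαX hiU).comp (hρP.restrict hXP) (fun u hu => hαv _ (hiU u hu))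
  have hα₁v : ∀ u ∈ U, (ρ ∘ (afn α ∘ i)) u ∈ U := by
    intro u hu
    rw [← hρimg]
    exact (hρP.restrict hXP).mem_img_of_mem (hαv _ (hiU u hu))
  have hα₁img : img (ρ ∘ (afn α ∘ i)) U = U := img_eq_of_card hα₁E hUS hUS hα₁v le_rfl
  obtain ⟨k, hk, hka⟩ := IsReceptive.ext hUR hα₁E hα₁img
  have hNf : P₁ ≤ Nf S U (ρ ∘ (afn α ∘ i)) := by
    intro y hy
    rw [mem_Nf]
    exact ⟨hP₁S hy, (mem_normalizerIn.1 (hP₁N hy)).2, _, hα₁F.mem hy, fun u hu => hα₁F.map_conj hy (hUP₁ hu)⟩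
  have hkP : Maps E P₁ k := hk.restrict hNf
  have hUcF : F.IsCentric U := by
    refine IsCentric_conj hXc ?_
    obtain ⟨f, hf, hfe⟩ := isConj_iff.1 hXU
    exact isConj_iff.2 ⟨f, hEtoF hf, hfe⟩
  obtain ⟨z, hz, -, hzeq⟩ := maps_agree hS hF (hEtoF hkP) U hUP₁ hUcF _ hα₁F (fun x hx => hka x hx)
  have hzS := hUS hz
  have hzP₁ := hUP₁ hz
  have hcz : Maps E P₁ (k ∘ fun x => z * x * z⁻¹) :=
    (Maps.conj hP₁S hzS).comp hkP (fun x hx => P₁.mul_mem (P₁.mul_mem hzP₁ hx) (P₁.inv_mem hzP₁))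
  have hα₁P : Maps E P₁ (ρ ∘ (afn α ∘ i)) := hcz.congr (fun x hx => (hzeq x hx).symm)
  have hfinal : Maps E P (i ∘ ((ρ ∘ (afn α ∘ i)) ∘ ρ)) := by
    refine (hρP.comp hα₁P hval1).comp hi (fun x hx => ?_)
    show ρ (afn α (i (ρ x))) ∈ P₁
    rw [hi1 x hx]
    exact hval1 _ (afn_mem α hx)
  refine hfinal.congr (fun x hx => ?_)
  show i (ρ (afn α (i (ρ x)))) = afn α x
  rw [hi1 x hx, hi1 _ (afn_mem α hx)]

end Sat

/-! ### Small subgroups -/

/-- The exponent bound: `p` for odd `p`, `4` for `p = 2`. -/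
def expo (p : ℕ) : ℕ := if p = 2 then 4 else p

/-- Abelian of exponent dividing `expo p`. -/
def Sm (p : ℕ) (A : Subgroup Ω) : Prop :=
  (∀ a ∈ A, ∀ b ∈ A, a * b = b * a) ∧ ∀ a ∈ A, a ^ expo p = 1

lemma Sm.img {p : ℕ} {A : Subgroup Ω} (h : Sm p A) (hm : Maps F A f) : Sm p (img f A) := by
  constructor
  · intro x hx y hy
    obtain ⟨a, ha, rfl⟩ := hm.mem_img.1 hx
    obtain ⟨b, hb, rfl⟩ := hm.mem_img.1 hy
    rw [← hm.map_mul ha hb, ← hm.map_mul hb ha, h.1 a ha b hb]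
  · intro x hx
    obtain ⟨a, ha, rfl⟩ := hm.mem_img.1 hx
    rw [← hm.map_pow ha, h.2 a ha, hm.map_one]

lemma norm_of_comm {A C : Subgroup Ω} (hc : ∀ a ∈ A, ∀ b ∈ C, a * b = b * a) :
    A ≤ Subgroup.normalizer (C : Set Ω) := fun a ha =>
  mem_normalizer_of_conj_eq (fun x hx => by rw [hc a ha x hx, mul_inv_cancel_right])

lemma Sm.sup {p : ℕ} {A C : Subgroup Ω} (hA : Sm p A) (hC : Sm p C) (hc : ∀ a ∈ A, ∀ b ∈ C, a * b = b * a) :
    Sm p (A ⊔ C) := by
  have hN := norm_of_comm hc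
  constructor
  · intro x hx y hy
    obtain ⟨a, ha, b, hb, rfl⟩ := mem_sup_mul hN hx
    obtain ⟨a', ha', b', hb', rfl⟩ := mem_sup_mul hN hy
    have h1 : a * b * (a' * b') = a * (b * a') * b' := by group
    have h2 : a' * b' * (a * b) = a' * (b' * a) * b := by group
    rw [h1, h2, ← hc a' ha' b hb, ← hc a ha b' hb']
    calc a * (a' * b) * b' = (a * a') * (b * b') := by group
      _ = (a' * a) * (b' * b) := by rw [hA.1 a ha a' ha', hC.1 b hb b' hb']
      _ = a' * (a * b') * b := by group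
  · intro x hx
    obtain ⟨a, ha, b, hb, rfl⟩ := mem_sup_mul hN hx
    have hcm : Commute a b := hc a ha b hb
    rw [hcm.mul_pow, hA.2 a ha, hC.2 b hb, one_mul]

section Main

variable [Finite S] {p : ℕ} [Fact p.Prime]

lemma fixed_of_central {Z : Subgroup Ω} (hZ : F.IsCentral Z) (hm : Maps F R f) {z : Ω} (hzR : z ∈ R) (hz : z ∈ Z) :
    f z = z := by
  obtain ⟨-, hC⟩ := isCentral_iff.1 hZ
  obtain ⟨g, -, h1, h2⟩ := hC R f hm
  rw [← h1 z hzR, h2 z hz]

lemma comm_of_central {Z : Subgroup Ω} (hZ : F.IsCentral Z) {z s : Ω} (hz : z ∈ Z) (hs : s ∈ S) : z * s = s * z := by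
  have hZS := hZ.1
  have := fixed_of_central hZ (Maps.conj (F := F) hZS hs) hz hz
  have h2 : s * z * s⁻¹ = z := this
  calc z * s = (s * z * s⁻¹) * s := by rw [h2]
    _ = s * z := by group

/-- Step: the normalizer systems agree once the centralizer systems do. -/
lemma norm_step (hS : IsPGroup p S) (hF : F.IsSaturated p) (hE : E.IsSaturated p) (hEF : E ≤ F) {V : Subgroup Ω}
    (hVF : F.IsFullyNormalized V) (hVE : E.IsFullyNormalized V)
    (hag : ∀ f, Maps F V f → Maps E V f)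
    (hC : ∀ R g, Maps F (R ⊔ V) g → R ≤ centralizerIn S V → (∀ x ∈ R, g x ∈ centralizerIn S V) →
      (∀ v ∈ V, g v = v) → Maps E (R ⊔ V) g)
    {Q₁ : Subgroup Ω} {h : Ω → Ω} (hm : Maps F Q₁ h) (hVQ : V ≤ Q₁) (hQN : Q₁ ≤ normalizerIn S V)
    (hval : ∀ x ∈ Q₁, h x ∈ normalizerIn S V) (himg : img h V = V) : Maps E Q₁ h := by
  have hVS := hVF.1
  obtain ⟨N, hN⟩ := exists_normalizerSystem (F := F) hVS
  obtain ⟨N₀, hN₀⟩ := exists_normalizerSystem (F := E) hVS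
  have hTS : normalizerIn S V ≤ S := inf_le_left
  haveI : Finite ↥(normalizerIn S V) := finite_of_le hTS
  have hT : IsPGroup p ↥(normalizerIn S V) := hS.to_le hTS
  have hNs := Cfsg.Agent.Lib.FusionSatNorm.saturated_normalizer hS hF hVF hN
  have hN₀s := Cfsg.Agent.Lib.FusionSatNorm.saturated_normalizer hS hE hVE hN₀
  have hle : N₀ ≤ N := by
    intro P φ hφ
    rw [hN₀ P] at hφ
    rw [hN P]
    obtain ⟨h1, h2, h3, ψ, hψ, h4, h5⟩ := hφ
    exact ⟨hEF _ h1, h2, h3, ψ, hEF _ hψ, h4, h5⟩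
  have hVT : V ≤ normalizerIn S V := le_normalizerIn hVS
  have hB := isNormal_normalizerSystem hVS hN
  have hB₀ := isNormal_normalizerSystem hVS hN₀
  have hsup : ∀ {X : Subgroup Ω}, V ≤ X → X ⊔ V = X := fun h => sup_eq_left.2 h
  have key : N ≤ N₀ := by
    refine normal_ext hT hNs hN₀s hle hB hB₀ ?_ ?_
    · intro a ha
      obtain ⟨hm1, hVN, hv, g, hg, e1, e2⟩ := (maps_norm_iff hN).1 ha
      refine (maps_norm_iff hN₀).2 ⟨hag a hm1, hVN, hv, a, ?_, fun _ _ => rfl, ?_⟩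
      · rw [sup_idem]
        exact hag a hm1
      · rw [← img_congr e1, e2]
    · intro X hVX hXC g hg hfix
      obtain ⟨hm1, hXN, hv, -⟩ := (maps_norm_iff hN).1 hg
      have hXsup : (X ⊓ centralizerIn S V) ⊔ V = X := by
        apply le_antisymm (sup_le inf_le_left hVX)
        intro x hx
        have hCN : centralizerIn (normalizerIn S V) V ≤ Subgroup.normalizer (V : Set Ω) := fun c hc =>
          (mem_normalizerIn.1 (mem_centralizerIn.1 hc).1).2
        obtain ⟨t, ht, v, hv', rfl⟩ := mem_sup_mul hCN (hXC hx)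
        have htX : t ∈ X := by
          have h3 : t = t * v * v⁻¹ := by group
          rw [h3]
          exact X.mul_mem hx (X.inv_mem (hVX hv'))
        have htC : t ∈ centralizerIn S V :=
          mem_centralizerIn.2 ⟨hTS (mem_centralizerIn.1 ht).1, (mem_centralizerIn.1 ht).2⟩
        exact Subgroup.mul_mem_sup ⟨htX, htC⟩ hv'
      have hm2 : Maps F ((X ⊓ centralizerIn S V) ⊔ V) g := by rwa [hXsup]
      have hE1 := hC _ g hm2 inf_le_right (fun x hx => by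
        refine mem_centralizerIn.2 ⟨hm1.mem hx.1, fun v hv' => ?_⟩
        calc v * g x = g v * g x := by rw [hfix v hv']
          _ = g (v * x) := (hm1.map_mul (hVX hv') hx.1).symm
          _ = g (x * v) := by rw [(mem_centralizerIn.1 hx.2).2 v hv']
          _ = g x * g v := hm1.map_mul hx.1 (hVX hv')
          _ = g x * v := by rw [hfix v hv']) hfix
      rw [hXsup] at hE1
      refine (maps_norm_iff hN₀).2 ⟨hE1, hXN, hv, g, ?_, fun _ _ => rfl, ?_⟩
      · rwa [hsup hVX]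
      · have : img g V = img _root_.id V := img_congr hfix
        rw [this]
        simp [img]
  have hNm : Maps N Q₁ h := (maps_norm_iff hN).2 ⟨hm, hQN, hval, h, by rwa [hsup hVQ], fun _ _ => rfl, himg⟩
  have hNm₀ : Maps N₀ Q₁ h := by
    obtain ⟨φ, hφ, hφe⟩ := hNm
    exact ⟨φ, key _ hφ, hφe⟩
  exact ((maps_norm_iff hN₀).1 hNm₀).1

/-- Step: maps of `Q` with a normal small non-central subgroup of the hyperfocal subgroup lie in `E`. -/
lemma step3 (hS : IsPGroup p S) (hF : F.IsSaturated p) (hE : E.IsSaturated p) (hEF : E ≤ F) {Z : Subgroup Ω}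
    (hZ : F.IsCentral Z)
    (hag : ∀ A, A ≤ F.hyperfocalSubgroup p → Sm p A → ∀ f, Maps F A f → Maps E A f)
    (hC : ∀ V, V ≤ F.hyperfocalSubgroup p → Sm p V → ¬ V ≤ Z → F.IsFullyNormalized V → E.IsFullyNormalized V →
      ∀ R g, Maps F (R ⊔ V) g → R ≤ centralizerIn S V → (∀ x ∈ R, g x ∈ centralizerIn S V) →
      (∀ v ∈ V, g v = v) → Maps E (R ⊔ V) g)
    {A : Subgroup Ω} {φ : Ω → Ω} (hφ : Maps F Q φ) (hAQ : A ≤ Q) (hQN : Q ≤ Subgroup.normalizer (A : Set Ω))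
    (hAH : A ≤ F.hyperfocalSubgroup p) (hSm : Sm p A) (hAZ : ¬ A ≤ Z) : Maps E Q φ := by
  have hEtoF : ∀ {R : Subgroup Ω} {k : Ω → Ω}, Maps E R k → Maps F R k := by
    rintro R k ⟨φ, hφ, hk⟩
    exact ⟨φ, hEF R hφ, hk⟩
  have hHsc := Cfsg.Agent.Lib.FusionHyperfocal.hyperfocal_stronglyClosed hS hF
  have hsc : ∀ {R : Subgroup Ω} {k : Ω → Ω}, R ≤ F.hyperfocalSubgroup p → Maps F R k →
      img k R ≤ F.hyperfocalSubgroup p := by
    intro R k hR hk y hy
    obtain ⟨x, hx, rfl⟩ := hk.mem_img.1 hy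
    have := hHsc.2 R hR hk.hom hk.hom_mem ⟨x, hx⟩
    rwa [hk.hom_apply] at this
  have hAS : A ≤ S := hAQ.trans hφ.le
  have hQS := hφ.le
  obtain ⟨V, hAV, hVn⟩ := exists_fullyNormalized_conj (F := E) hAS
  obtain ⟨hVc, hVa⟩ := of_fullyNormalized hS hE hVn
  have hVR := receptive_of_fullyCentralized hS hE hVc
  have hVS := hVn.1
  obtain ⟨f₁, hf₁, hf₁i⟩ := isConj_iff.1 hAV
  have hVH : V ≤ F.hyperfocalSubgroup p := by
    rw [← hf₁i]
    exact hsc hAH (hEtoF hf₁)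
  have hVSm : Sm p V := by
    rw [← hf₁i]
    exact hSm.img hf₁
  have hVF : F.IsFullyNormalized V := by
    refine ⟨hVS, fun Q' hQ' => hVn.2 Q' ?_⟩
    obtain ⟨k, hk, hki⟩ := isConj_iff.1 hQ'
    exact isConj_iff.2 ⟨k, hag V hVH hVSm k hk, hki⟩
  have hφA : Maps F A φ := hφ.restrict hAQ
  have hφAE : Maps E A φ := hag A hAH hSm φ hφA
  have hA'V : E.IsConj (img φ A) V := IsConj_trans (IsConj_symm (isConj_iff.2 ⟨φ, hφAE, rfl⟩)) hAV
  obtain ⟨ρ₁, hρ₁, hρ₁N, hρ₁i⟩ := exists_normalizer_map hS hVa hVR hAV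
  obtain ⟨ρ₂, hρ₂, hρ₂N, hρ₂i⟩ := exists_normalizer_map hS hVa hVR hA'V
  have hQNA : Q ≤ normalizerIn S A := fun y hy => mem_normalizerIn.2 ⟨hQS hy, hQN hy⟩
  have hA'S : img φ A ≤ S := hφA.img_le
  haveI := finite_of_le hA'S
  have hWN : img φ Q ≤ normalizerIn S (img φ A) := by
    intro y hy
    obtain ⟨x, hx, rfl⟩ := hφ.mem_img.1 hy
    refine mem_normalizerIn.2 ⟨hφ.mem hx, mem_normalizer_of_conj_mem fun u hu => ?_⟩
    obtain ⟨a, ha, rfl⟩ := hφA.mem_img.1 hu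
    rw [← hφ.map_conj hx (hAQ ha)]
    refine hφA.mem_img_of_mem ?_
    exact (Subgroup.mem_normalizer_iff.1 (hQN hx) a).1 ha
  have hρ₁Q : Maps E Q ρ₁ := hρ₁.restrict hQNA
  obtain ⟨i₁, hi₁, hi₁a, hi₁b⟩ := hρ₁Q.inv
  have hρ₂W : Maps E (img φ Q) ρ₂ := hρ₂.restrict hWN
  obtain ⟨i₂, hi₂, hi₂a, hi₂b⟩ := hρ₂W.inv
  set Q₁ := img ρ₁ Q with hQ₁
  have hval₁ : ∀ x ∈ Q, ρ₁ x ∈ Q₁ := fun x hx => hρ₁Q.mem_img_of_mem hx
  have hVQ₁ : V ≤ Q₁ := by
    rw [← hρ₁i]
    exact hρ₁Q.img_mono hAQ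
  have hiV : ∀ v ∈ V, i₁ v ∈ A := by
    intro v hv
    rw [← hρ₁i] at hv
    obtain ⟨a, ha, rfl⟩ := (hρ₁Q.restrict hAQ).mem_img.1 hv
    rwa [hi₁a a (hAQ ha)]
  have hh : Maps F Q₁ (ρ₂ ∘ (φ ∘ i₁)) :=
    ((hEtoF hi₁).comp hφ (fun y hy => (hi₁b y hy).1)).comp (hEtoF hρ₂W)
      (fun y hy => hφ.mem_img_of_mem (hi₁b y hy).1)
  have hhV : ∀ v ∈ V, (ρ₂ ∘ (φ ∘ i₁)) v ∈ V := by
    intro v hv
    rw [← hρ₂i]
    exact (hρ₂W.restrict (hφ.img_mono hAQ)).mem_img_of_mem (hφA.mem_img_of_mem (hiV v hv))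
  have himg : img (ρ₂ ∘ (φ ∘ i₁)) V = V := img_eq_of_card (hh.restrict hVQ₁) hVS hVS hhV le_rfl
  have hVZ : ¬ V ≤ Z := by
    intro hVZ
    apply hAZ
    intro a ha
    have hv : ρ₁ a ∈ V := by
      rw [← hρ₁i]
      exact (hρ₁Q.restrict hAQ).mem_img_of_mem ha
    have h1 := fixed_of_central hZ (hEtoF hi₁) (hVQ₁ hv) (hVZ hv)
    rw [hi₁a a (hAQ ha)] at h1
    rw [h1]
    exact hVZ hv
  have hmain : Maps E Q₁ (ρ₂ ∘ (φ ∘ i₁)) := by
    refine norm_step hS hF hE hEF hVF hVn (hag V hVH hVSm) (hC V hVH hVSm hVZ hVF hVn) hh hVQ₁ ?_ ?_ himg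
    · intro y hy
      obtain ⟨x, hx, rfl⟩ := hρ₁Q.mem_img.1 hy
      exact hρ₁N x (hQNA hx)
    · intro y hy
      exact hρ₂N _ (hWN (hφ.mem_img_of_mem (hi₁b y hy).1))
  have hfin : Maps E Q ((ρ₂ ∘ (φ ∘ i₁)) ∘ ρ₁) := hρ₁Q.comp hmain hval₁
  have hfin2 : Maps E Q (i₂ ∘ ((ρ₂ ∘ (φ ∘ i₁)) ∘ ρ₁)) := by
    refine hfin.comp hi₂ (fun x hx => ?_)
    show ρ₂ (φ (i₁ (ρ₁ x))) ∈ img ρ₂ (img φ Q)
    rw [hi₁a x hx]
    exact hρ₂W.mem_img_of_mem (hφ.mem_img_of_mem hx)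
  refine hfin2.congr (fun x hx => ?_)
  show i₂ (ρ₂ (φ (i₁ (ρ₁ x)))) = φ x
  rw [hi₁a x hx, hi₂a _ (hφ.mem_img_of_mem hx)]

/-- Step: automorphisms of `S` or of an essential subgroup lie in `E`. -/
lemma step4 (hS : IsPGroup p S) (hF : F.IsSaturated p) (hE : E.IsSaturated p) (hEF : E ≤ F) {Z : Subgroup Ω}
    (hZ : F.IsCentral Z)
    (hag : ∀ A, A ≤ F.hyperfocalSubgroup p → Sm p A → ∀ f, Maps F A f → Maps E A f)
    (hC : ∀ V, V ≤ F.hyperfocalSubgroup p → Sm p V → ¬ V ≤ Z → F.IsFullyNormalized V → E.IsFullyNormalized V →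
      ∀ R g, Maps F (R ⊔ V) g → R ≤ centralizerIn S V → (∀ x ∈ R, g x ∈ centralizerIn S V) →
      (∀ v ∈ V, g v = v) → Maps E (R ⊔ V) g)
    (hQS : Q ≤ S) (hQn : F.IsFullyNormalized Q) : F.autGroup Q ≤ E.autGroup Q := by
  classical
  intro α hα
  haveI := finite_of_le hQS
  haveI := finite_mulAut hQS
  have hHsc := Cfsg.Agent.Lib.FusionHyperfocal.hyperfocal_stronglyClosed hS hF
  have hP : IsPGroup p Q := hS.to_le hQS
  set H := F.hyperfocalSubgroup p with hH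
  have hR : Cfsg.Agent.Lib.CritAut.Inv (F.autGroup Q) (H.subgroupOf Q) := by
    intro β hβ x hx
    have hm := (mem_autGroup_iff hQS).1 hβ
    have hxH : (x : Ω) ∈ H := Subgroup.mem_subgroupOf.1 hx
    have hmH : Maps F (H ⊓ Q) (afn β) := hm.restrict inf_le_right
    have h1 := hHsc.2 (H ⊓ Q) inf_le_left hmH.hom hmH.hom_mem ⟨x, hxH, x.2⟩
    rw [hmH.hom_apply] at h1
    apply Subgroup.mem_subgroupOf.2
    have h2 : afn β (x : Ω) = ((β x : Q) : Ω) := afn_coe β x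
    rw [← h2]
    exact h1
  have hRfull : ∀ β ∈ F.autGroup Q, (orderOf β).Coprime p → ∀ x : Q, x⁻¹ * β x ∈ H.subgroupOf Q := by
    intro β hβ hcop x
    apply Subgroup.mem_subgroupOf.2
    have h1 : (⟨β, hβ⟩ : F.autGroup Q) ∈ pResidual p (F.autGroup Q) := by
      apply Subgroup.subset_closure
      show Nat.Coprime (orderOf (⟨β, hβ⟩ : F.autGroup Q)) p
      rwa [Subgroup.orderOf_mk]
    exact Cfsg.Agent.Lib.FusionHyperfocal.gen_mem_hyperfocal hQS h1 x
  obtain ⟨D, -, hDR, hDexp, -, -, hDmax⟩ :=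
    Cfsg.Agent.Lib.CritAut.exists_D hP (F.autGroup Q) (Inn_le_autGroup hQS) (H.subgroupOf Q) hR hRfull
  let Fam : Set (Subgroup Q) := {B | B ≤ D ∧ IsMulCommutative ↥B}
  have hFam : Fam.Nonempty := ⟨⊥, bot_le, ⟨⟨fun a b => by
    have ha : a = 1 := Subtype.ext (Subgroup.mem_bot.1 a.2)
    have hb : b = 1 := Subtype.ext (Subgroup.mem_bot.1 b.2)
    rw [ha, hb]⟩⟩⟩
  obtain ⟨A₀, hA₀⟩ := (Set.toFinite Fam).exists_maximal hFam
  obtain ⟨hA₀n, hA₀p⟩ := hDmax A₀ hA₀.prop.1 hA₀.prop.2 (fun B hAB hBD hBc =>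
    le_antisymm (hA₀.le_of_ge ⟨hBD, hBc⟩ hAB) hAB)
  set A := A₀.map Q.subtype with hAdef
  have hAQ : A ≤ Q := Subgroup.map_subtype_le _
  have hAH : A ≤ H := by
    rintro _ ⟨a, ha, rfl⟩
    exact Subgroup.mem_subgroupOf.1 (hDR (hA₀.prop.1 ha))
  have hAc := hA₀.prop.2
  have hSm : Sm p A := by
    constructor
    · rintro _ ⟨a, ha, rfl⟩ _ ⟨b, hb, rfl⟩
      have h1 := hAc.is_comm.comm (⟨a, ha⟩ : A₀) ⟨b, hb⟩
      have h2 : a * b = b * a := congrArg Subtype.val h1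
      exact congrArg Subtype.val h2
    · rintro _ ⟨a, ha, rfl⟩
      have h1 : a ^ expo p = 1 := by
        rcases hDexp a (hA₀.prop.1 ha) with h | ⟨h2, h⟩
        · by_cases hp : p = 2
          · subst hp
            show a ^ (if 2 = 2 then 4 else 2) = 1
            rw [if_pos rfl]
            calc a ^ 4 = (a ^ 2) ^ 2 := by rw [← pow_mul]
              _ = 1 := by rw [h, one_pow]
          · show a ^ (if p = 2 then 4 else p) = 1
            rw [if_neg hp]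
            exact h
        · show a ^ (if p = 2 then 4 else p) = 1
          rw [if_pos h2]
          exact h
      have h2 := congrArg Subtype.val h1
      simpa using h2
  have hQNA : Q ≤ Subgroup.normalizer (A : Set Ω) := by
    intro y hy
    haveI := finite_of_le (hAQ.trans hQS)
    refine mem_normalizer_of_conj_mem fun a ha => ?_
    obtain ⟨a', ha', rfl⟩ := ha
    refine ⟨(⟨y, hy⟩ : Q) * a' * (⟨y, hy⟩ : Q)⁻¹, hA₀n.conj_mem a' ha' _, rfl⟩
  by_cases hAZ : A ≤ Z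
  · have hGp : IsPGroup p (F.autGroup Q) := by
      intro β
      have h1 : ∀ a ∈ A₀, (β : MulAut Q) a = a := by
        intro a ha
        have h2 := fixed_of_central hZ ((mem_autGroup_iff hQS).1 β.2) a.2 (hAZ ⟨a, ha, rfl⟩)
        rw [afn_coe] at h2
        exact Subtype.ext h2
      obtain ⟨k, hk⟩ := hA₀p _ β.2 h1
      refine ⟨k, ?_⟩
      rw [← hk, Subgroup.orderOf_coe]
      exact pow_orderOf_eq_one β
    obtain ⟨-, R', hR'⟩ := (of_fullyNormalized hS hF hQn).2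
    have h2 : (⊤ : Subgroup (F.autGroup Q)) = R' :=
      R'.is_maximal' (IsPGroup.of_equiv hGp Subgroup.topEquiv.symm) le_top
    have h3 : (⟨α, hα⟩ : F.autGroup Q) ∈ (R' : Subgroup (F.autGroup Q)) := by
      rw [← h2]
      exact Subgroup.mem_top _
    rw [hR', Subgroup.mem_subgroupOf] at h3
    exact autInducedBy_le_autGroup hQS h3
  · have hm := (mem_autGroup_iff hQS).1 hα
    exact (mem_autGroup_iff hQS).2 (step3 hS hF hE hEF hZ hag hC hm hAQ hQNA hAH hSm hAZ)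

end Main

/-- **Main theorem** (induction on `|S| - |Z|`). -/
theorem small_main {p : ℕ} [Fact p.Prime] (n : ℕ) : ∀ (S : Subgroup Ω) [Finite S] (_ : IsPGroup p S) (F E : FusionSystem S)
    (Z : Subgroup Ω), F.IsSaturated p → E.IsSaturated p → E ≤ F → F.IsCentral Z →
    (∀ A, A ≤ F.hyperfocalSubgroup p → Sm p A → ∀ f, Maps F A f → Maps E A f) →
    Nat.card S - Nat.card Z = n → F ≤ E := by
  induction n using Nat.strong_induction_on with
  | _ n ih =>
  intro S _ hS F E Z hF hE hEF hZ hag hn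
  have hEtoF : ∀ {R : Subgroup Ω} {k : Ω → Ω}, Maps E R k → Maps F R k := by
    rintro R k ⟨φ, hφ, hk⟩
    exact ⟨φ, hEF R hφ, hk⟩
  have hZS := hZ.1
  have hC : ∀ V, V ≤ F.hyperfocalSubgroup p → Sm p V → ¬ V ≤ Z → F.IsFullyNormalized V → E.IsFullyNormalized V →
      ∀ R g, Maps F (R ⊔ V) g → R ≤ centralizerIn S V → (∀ x ∈ R, g x ∈ centralizerIn S V) →
      (∀ v ∈ V, g v = v) → Maps E (R ⊔ V) g := by
    intro V hVH hVSm hVZ hVF hVE R g hg hRC hgv hfix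
    have hVS := hVF.1
    have hFc := (of_fullyNormalized hS hF hVF).1
    have hEc := (of_fullyNormalized hS hE hVE).1
    obtain ⟨D, hD⟩ := exists_centralizerSystem (F := F) hVS
    obtain ⟨D₀, hD₀⟩ := exists_centralizerSystem (F := E) hVS
    have hTS : (centralizerIn S V) ≤ S := inf_le_left
    haveI : Finite ↥(centralizerIn S V) := finite_of_le hTS
    have hT : IsPGroup p ↥(centralizerIn S V) := hS.to_le hTS
    have hDs := Cfsg.Agent.Lib.FusionSatNorm.saturated_centralizer hS hF hFc hD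
    have hD₀s := Cfsg.Agent.Lib.FusionSatNorm.saturated_centralizer hS hE hEc hD₀
    have hle : D₀ ≤ D := by
      intro P φ hφ
      rw [hD₀ P] at hφ
      rw [hD P]
      obtain ⟨h1, h2, h3, ψ, hψ, h4, h5⟩ := hφ
      exact ⟨hEF _ h1, h2, h3, ψ, hEF _ hψ, h4, h5⟩
    have hVT : V ≤ (centralizerIn S V) := fun v hv => mem_centralizerIn.2 ⟨hVS hv, fun x hx => hVSm.1 x hx v hv⟩
    have hZT : Z ≤ (centralizerIn S V) := fun z hz => mem_centralizerIn.2 ⟨hZS hz, fun x hx => (comm_of_central hZ hz (hVS hx)).symm⟩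
    have hZVT : Z ⊔ V ≤ (centralizerIn S V) := sup_le hZT hVT
    -- `Z V` is central in the centralizer system
    have hZ' : D.IsCentral (Z ⊔ V) := by
      refine isCentral_iff.2 ⟨hZVT, fun P f hf => ?_⟩
      obtain ⟨hm, hPT, hval, g₁, hg₁, e1, e2⟩ := (maps_cent_iff hD).1 hf
      obtain ⟨g₂, hg₂, e3, e4⟩ := (isCentral_iff.1 hZ).2 _ g₁ hg₁
      have hsup1 : (P ⊔ V) ⊔ Z = P ⊔ (Z ⊔ V) := by
        rw [sup_assoc, sup_comm V Z]
      rw [hsup1] at hg₂
      have hWT : P ⊔ (Z ⊔ V) ≤ (centralizerIn S V) := sup_le hPT hZVT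
      have hfV : ∀ v ∈ V, g₂ v = v := fun v hv => by
        rw [e3 v (mem_sup_of_mem_right hv), e2 v hv]
      have hWv : ∀ y ∈ P ⊔ (Z ⊔ V), g₂ y ∈ (centralizerIn S V) := by
        intro y hy
        refine mem_centralizerIn.2 ⟨hg₂.mem hy, fun v hv => ?_⟩
        have hvW : v ∈ P ⊔ (Z ⊔ V) := mem_sup_of_mem_right (mem_sup_of_mem_right hv)
        calc v * g₂ y = g₂ v * g₂ y := by rw [hfV v hv]
          _ = g₂ (v * y) := (hg₂.map_mul hvW hy).symm
          _ = g₂ (y * v) := by rw [(mem_centralizerIn.1 (hWT hy)).2 v hv]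
          _ = g₂ y * g₂ v := hg₂.map_mul hy hvW
          _ = g₂ y * v := by rw [hfV v hv]
      have hsup2 : (P ⊔ (Z ⊔ V)) ⊔ V = P ⊔ (Z ⊔ V) := sup_eq_left.2 (le_sup_right.trans' le_sup_right)
      refine ⟨g₂, (maps_cent_iff hD).2 ⟨hg₂, hWT, hWv, g₂, by rwa [hsup2], fun _ _ => rfl, hfV⟩, ?_, ?_⟩
      · intro x hx
        rw [e3 x (mem_sup_of_mem_left hx), e1 x hx]
      · intro x hx
        have hZNV : Z ≤ Subgroup.normalizer (V : Set Ω) :=
          norm_of_comm (fun z hz v hv => comm_of_central hZ hz (hVS hv))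
        obtain ⟨z, hz, v, hv, rfl⟩ := mem_sup_mul hZNV hx
        have hzW : z ∈ P ⊔ (Z ⊔ V) := mem_sup_of_mem_right (mem_sup_of_mem_left hz)
        have hvW : v ∈ P ⊔ (Z ⊔ V) := mem_sup_of_mem_right (mem_sup_of_mem_right hv)
        rw [hg₂.map_mul hzW hvW, hfV v hv, e4 z hz]
    -- agreement for the centralizer systems
    have hDsub : D.IsSubsystemOf F := by
      intro P φ hφ
      rw [hD P] at hφ
      exact hφ.1
    have hag' : ∀ A, A ≤ D.hyperfocalSubgroup p → Sm p A → ∀ f, Maps D A f → Maps D₀ A f := by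
      intro A hA hASm f hf
      have hAH : A ≤ F.hyperfocalSubgroup p :=
        hA.trans (Cfsg.Agent.Lib.FusionOPower.hyperfocal_le_of_sub hDsub hTS)
      obtain ⟨hm, hAT, hval, g₁, hg₁, e1, e2⟩ := (maps_cent_iff hD).1 hf
      have hsm : Sm p (A ⊔ V) := hASm.sup hVSm (fun a ha v hv => ((mem_centralizerIn.1 (hAT ha)).2 v hv).symm)
      have hE1 := hag _ (sup_le hAH hVH) hsm g₁ hg₁
      refine (maps_cent_iff hD₀).2 ⟨(hE1.restrict le_sup_left).congr e1, hAT, hval, g₁, hE1, e1, e2⟩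
    have hlt : Nat.card ↥(centralizerIn S V) - Nat.card ↥(Z ⊔ V) < n := by
      have hZlt : Z < Z ⊔ V := lt_of_le_of_ne le_sup_left (fun h => hVZ (sup_eq_left.1 h.symm))
      haveI : Finite ↥(Z ⊔ V) := finite_of_le (sup_le hZS hVS)
      have h1 : Nat.card Z < Nat.card ↥(Z ⊔ V) := Cfsg.Agent.Lib.FusionAlperin.card_lt_of_lt hZlt
      have h2 : Nat.card ↥(centralizerIn S V) ≤ Nat.card S := Subgroup.card_le_of_le hTS
      have h3 : Nat.card ↥(Z ⊔ V) ≤ Nat.card S := Subgroup.card_le_of_le (sup_le hZS hVS)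
      omega
    have key : D ≤ D₀ := ih _ hlt _ hT D D₀ (Z ⊔ V) hDs hD₀s hle hZ' hag' rfl
    have hRm : Maps D R g := (maps_cent_iff hD).2 ⟨hg.restrict le_sup_left, hRC, hgv, g, hg, fun _ _ => rfl, hfix⟩
    have hRm₀ : Maps D₀ R g := by
      obtain ⟨φ, hφ, hφe⟩ := hRm
      exact ⟨φ, key _ hφ, hφe⟩
    obtain ⟨-, -, -, g₃, hg₃, e1, e2⟩ := (maps_cent_iff hD₀).1 hRm₀
    refine hg₃.congr (fun x hx => ?_)
    have hRN : R ≤ Subgroup.normalizer (V : Set Ω) :=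
      norm_of_comm (fun r hr v hv => ((mem_centralizerIn.1 (hRC hr)).2 v hv).symm)
    obtain ⟨r, hr, v, hv, rfl⟩ := mem_sup_mul hRN hx
    rw [hg₃.map_mul (mem_sup_of_mem_left hr) (mem_sup_of_mem_right hv), hg.map_mul (mem_sup_of_mem_left hr)
      (mem_sup_of_mem_right hv), e1 r hr, e2 v hv, hfix v hv]
  refine Cfsg.Agent.Lib.FusionCore2.alperin_goldschmidt hS hF E (fun Q hQ => ?_)
  have hQS : Q ≤ S := by
    rcases hQ with rfl | hQ
    · exact le_rfl
    · exact hQ.1.1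
  have hQn : F.IsFullyNormalized Q := by
    rcases hQ with rfl | hQ
    · exact Cfsg.Agent.Lib.FusionFocal.fullyNormalized_top
    · exact hQ.2.1
  exact step4 hS hF hE hEF hZ hag hC hQS hQn

/-- The theorem in final form. -/
theorem small_exp {p : ℕ} [Fact p.Prime] [Finite S] (hS : IsPGroup p S) (hF : F.IsSaturated p) (hE : E.IsSaturated p) (hEF : E ≤ F)
    (hag : ∀ A, A ≤ F.hyperfocalSubgroup p → Sm p A → ∀ f, Maps F A f → Maps E A f) : F ≤ E := by
  have hZ : F.IsCentral ⊥ := by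
    refine isCentral_iff.2 ⟨bot_le, fun P f hf => ⟨f, ?_, fun _ _ => rfl, fun x hx => ?_⟩⟩
    · rwa [sup_bot_eq]
    · rw [Subgroup.mem_bot.1 hx]
      exact hf.map_one
  exact small_main _ S hS F E ⊥ hF hE hEF hZ hag rfl

end Cfsg.Agent.Lib.FusionSmallExp
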