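/-
FusionCaminaHerzog: a saturated fusion system over a 2-group in which every element is conjugate into the centre
lives on an abelian group (S5274).
-/
import Mathlib
import Cfsg.Agent.Lib.FusionSmallExp
import Cfsg.Agent.Lib.FusionCore3
import Cfsg.Agent.Lib.FusionFactor
import Cfsg.Agent.Lib.FusionStrongClosed
import Cfsg.Agent.Lib.FusionQuotSat
import Cfsg.Agent.Lib.FusionNormalQuot
import Cfsg.Agent.Lib.FusionGT3

set_option autoImplicit false

namespace Cfsg.Agent.Lib.FusionCaminaHerzog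

open Cfsg Cfsg.FusionSystem Cfsg.Agent.Lib.FusionCore Cfsg.Agent.Lib.FusionCore2
open Cfsg.Agent.Lib.FusionSmallExp Cfsg.Agent.Lib.FusionFactor Cfsg.Agent.Lib.FusionStrongClosed
open Cfsg.Agent.Lib.FusionQuotSat Cfsg.Agent.Lib.FusionGT

universe u

section Basic

variable {Ω : Type u} [Group Ω] {S : Subgroup Ω} {F : FusionSystem S}

lemma fullyNormalized_of_normal [Finite S] {B : Subgroup Ω} (hBS : B ≤ S) (hN : S ≤ Subgroup.normalizer (B : Set Ω)) :
    F.IsFullyNormalized B := by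
  refine ⟨hBS, fun Q _ => ?_⟩
  have h1 : normalizerIn S B = S := le_antisymm inf_le_left (fun s hs => ⟨hs, hN hs⟩)
  rw [h1]
  exact Subgroup.card_le_of_le inf_le_left

lemma img_zpowers {x z : Ω} {f : Ω → Ω} (hm : Maps F (Subgroup.zpowers x) f) (hf : f x = z) :
    img f (Subgroup.zpowers x) = Subgroup.zpowers z := by
  ext y
  rw [hm.mem_img]
  constructor
  · rintro ⟨w, ⟨k, rfl⟩, rfl⟩
    refine ⟨k, ?_⟩
    show z ^ k = f (x ^ k)
    rw [hm.map_zpow (Subgroup.mem_zpowers x), hf]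
  · rintro ⟨k, rfl⟩
    refine ⟨x ^ k, ⟨k, rfl⟩, ?_⟩
    show f (x ^ k) = z ^ k
    rw [hm.map_zpow (Subgroup.mem_zpowers x), hf]

/-- A subgroup of `S` generated by central elements is normalized by `S`. -/
lemma norm_zpowers {z : Ω} (hz : z ∈ S ⊓ Subgroup.centralizer (S : Set Ω)) :
    S ≤ Subgroup.normalizer ((Subgroup.zpowers z : Subgroup Ω) : Set Ω) := by
  intro s hs
  refine mem_normalizer_of_conj_eq (fun y hy => ?_)
  obtain ⟨k, rfl⟩ := hy
  have h1 : s * z = z * s := (Subgroup.mem_centralizer_iff.1 hz.2 s hs)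
  have h2 : Commute s (z ^ k) := Commute.zpow_right h1 k
  show s * z ^ k * s⁻¹ = z ^ k
  rw [h2.eq, mul_inv_cancel_right]

variable [Finite S] {p : ℕ} [Fact p.Prime]

/-- An element conjugate into the centre is centralized by everything normalizing its cyclic group. -/
theorem comm_of_norm (hS : IsPGroup p S) (hF : F.IsSaturated p) {x z g : Ω}
    (hz : z ∈ S ⊓ Subgroup.centralizer (S : Set Ω)) (h : F.IsConjElt x z) (hg : g ∈ S)
    (hgx : g * x * g⁻¹ ∈ Subgroup.zpowers x) : g * x * g⁻¹ = x := by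
  obtain ⟨φ, hφ, hφx⟩ := h
  have hm : Maps F (Subgroup.zpowers x) (fn φ) := Maps.of_mem hφ
  have hfx : fn φ x = z := by rw [fn_of_mem φ (Subgroup.mem_zpowers x), hφx]
  have himg := img_zpowers hm hfx
  have hXS : Subgroup.zpowers x ≤ S := hm.le
  have hzS : z ∈ S := hz.1
  have hCS : Subgroup.zpowers z ≤ S := (Subgroup.zpowers_le).2 hzS
  have hCn : F.IsFullyNormalized (Subgroup.zpowers z) := fullyNormalized_of_normal hCS (norm_zpowers hz)
  obtain ⟨hc, ha⟩ := of_fullyNormalized hS hF hCn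
  have hR := receptive_of_fullyCentralized hS hF hc
  obtain ⟨ρ, hρ, -, hρi⟩ := exists_normalizer_map hS ha hR (isConj_iff.2 ⟨_, hm, himg⟩)
  haveI := finite_of_le hXS
  have hgN : g ∈ normalizerIn S (Subgroup.zpowers x) := by
    refine mem_normalizerIn.2 ⟨hg, mem_normalizer_of_conj_mem fun y hy => ?_⟩
    obtain ⟨k, rfl⟩ := hy
    have h1 : g * x ^ k * g⁻¹ = (g * x * g⁻¹) ^ k := by
      rw [conj_zpow]
    show g * x ^ k * g⁻¹ ∈ _
    rw [h1]
    exact Subgroup.zpow_mem _ hgx k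
  have hxN : x ∈ normalizerIn S (Subgroup.zpowers x) :=
    le_normalizerIn hXS (Subgroup.mem_zpowers x)
  have hρx : ρ x ∈ Subgroup.zpowers z := by
    rw [← hρi]
    exact (hρ.restrict (le_normalizerIn hXS)).mem_img_of_mem (Subgroup.mem_zpowers x)
  have hcen : ∀ y ∈ S, y * ρ x = ρ x * y := by
    intro y hy
    obtain ⟨k, hk⟩ := hρx
    have h1 : y * z = z * y := (Subgroup.mem_centralizer_iff.1 hz.2 y hy)
    have h2 : Commute y (z ^ k) := Commute.zpow_right h1 k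
    rw [← hk]
    exact h2
  apply hρ.inj ((normalizerIn S _).mul_mem ((normalizerIn S _).mul_mem hgN hxN) ((normalizerIn S _).inv_mem hgN)) hxN
  rw [hρ.map_conj hgN hxN, hcen _ (hρ.mem hgN), mul_inv_cancel_right]

end Basic

section Involutions

variable {Ω : Type u} [Group Ω] {S : Subgroup Ω} {F : FusionSystem S}

/-- The subgroup of involutions, when they commute. -/
def Om (S : Subgroup Ω) (h : ∀ a ∈ S, ∀ b ∈ S, a ^ 2 = 1 → b ^ 2 = 1 → a * b = b * a) : Subgroup Ω where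
  carrier := {t | t ∈ S ∧ t ^ 2 = 1}
  mul_mem' := by
    rintro a b ⟨ha, ha2⟩ ⟨hb, hb2⟩
    refine ⟨S.mul_mem ha hb, ?_⟩
    have hc : Commute a b := h a ha b hb ha2 hb2
    rw [hc.mul_pow, ha2, hb2, one_mul]
  one_mem' := ⟨S.one_mem, one_pow _⟩
  inv_mem' := by
    rintro a ⟨ha, ha2⟩
    exact ⟨S.inv_mem ha, by rw [inv_pow, ha2, inv_one]⟩

lemma mem_Om {h : ∀ a ∈ S, ∀ b ∈ S, a ^ 2 = 1 → b ^ 2 = 1 → a * b = b * a} {t : Ω} :
    t ∈ Om S h ↔ t ∈ S ∧ t ^ 2 = 1 := Iff.rfl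

/-- Two involutions commute. -/
theorem invol_comm [Finite S] (hS : IsPGroup 2 S) (hF : F.IsSaturated 2)
    (H : ∀ x ∈ S, ∃ z ∈ S ⊓ Subgroup.centralizer (S : Set Ω), F.IsConjElt x z) :
    ∀ a ∈ S, ∀ b ∈ S, a ^ 2 = 1 → b ^ 2 = 1 → a * b = b * a := by
  intro a ha b hb ha2 hb2
  have hainv : a⁻¹ = a := inv_eq_of_mul_eq_one_left (by rw [← sq, ha2])
  have hbinv : b⁻¹ = b := inv_eq_of_mul_eq_one_left (by rw [← sq, hb2])
  obtain ⟨z, hz, hc⟩ := H (a * b) (S.mul_mem ha hb)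
  have h1 : a * (a * b) * a⁻¹ = (a * b)⁻¹ := by
    rw [mul_inv_rev, hainv, hbinv, ← mul_assoc, ← sq, ha2, one_mul]
  have h2 := comm_of_norm hS hF hz hc ha (by rw [h1]; exact Subgroup.inv_mem _ (Subgroup.mem_zpowers _))
  rw [h1] at h2
  have h3 : b * a = a * b := by
    have h4 : (a * b)⁻¹ = b * a := by rw [mul_inv_rev, hainv, hbinv]
    rw [← h4, h2]
  exact h3.symm

end Involutions

section Step

variable {Ω : Type u} [Group Ω] {S : Subgroup Ω} {F : FusionSystem S}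

/-- The last step: `S / E` abelian, `E` abelian and normal in `F`, all elements conjugate into `Z(S)`. -/
theorem abelian_of_quot [Finite S] {p : ℕ} [Fact p.Prime] (hS : IsPGroup p S) (hF : F.IsSaturated p) {E : Subgroup Ω}
    (hE : F.IsNormal E) (hEc : ∀ a ∈ E, ∀ b ∈ E, a * b = b * a) (hq : ∀ a ∈ S, ∀ b ∈ S, a * b * a⁻¹ * b⁻¹ ∈ E)
    (H : ∀ x ∈ S, ∃ z ∈ S ⊓ Subgroup.centralizer (S : Set Ω), F.IsConjElt x z) :
    ∀ a ∈ S, ∀ b ∈ S, a * b = b * a := by
  have hES : E ≤ S := hE.1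
  set Zc := S ⊓ Subgroup.centralizer (S : Set Ω) with hZc
  have hZcS : Zc ≤ S := inf_le_left
  have hZcomm : ∀ c ∈ Zc, ∀ y ∈ S, c * y = y * c := fun c hc y hy =>
    (Subgroup.mem_centralizer_iff.1 hc.2 y hy).symm
  have hZN : Zc ≤ Subgroup.normalizer (E : Set Ω) :=
    norm_of_comm (fun c hc e he => hZcomm c hc e (hES he))
  have hnormY : ∀ Y : Subgroup Ω, E ≤ Y → Y ≤ S → S ≤ Subgroup.normalizer (Y : Set Ω) := by
    intro Y hEY hYS s hs
    haveI := finite_of_le hYS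
    refine mem_normalizer_of_conj_mem fun y hy => ?_
    have h1 : s * y * s⁻¹ = (s * y * s⁻¹ * y⁻¹) * y := by group
    rw [h1]
    exact Y.mul_mem (hEY (hq s hs y (hYS hy))) hy
  have hWS : Zc ⊔ E ≤ S := sup_le hZcS hES
  have hmem : ∀ x ∈ S, x ∈ Zc ⊔ E := by
    intro x hx
    obtain ⟨z, hz, φ, hφ, hφx⟩ := H x hx
    have hm : Maps F (Subgroup.zpowers x) (fn φ) := Maps.of_mem hφ
    have hfx : fn φ x = z := by rw [fn_of_mem φ (Subgroup.mem_zpowers x), hφx]
    have himg := img_zpowers hm hfx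
    obtain ⟨g, hg, e1, e2⟩ := (isNormal_iff.1 hE).2 _ _ hm
    have hBimg : img g (Subgroup.zpowers x ⊔ E) = Subgroup.zpowers z ⊔ E := by
      rw [NExt.aux hg e1 e2, himg]
    have hzS : z ∈ S := hz.1
    have hB'S : Subgroup.zpowers z ⊔ E ≤ S := sup_le ((Subgroup.zpowers_le).2 hzS) hES
    have hBS : Subgroup.zpowers x ⊔ E ≤ S := sup_le ((Subgroup.zpowers_le).2 hx) hES
    have hB'n : F.IsFullyNormalized (Subgroup.zpowers z ⊔ E) :=
      fullyNormalized_of_normal hB'S (hnormY _ le_sup_right hB'S)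
    obtain ⟨hc, ha⟩ := of_fullyNormalized hS hF hB'n
    have hR := receptive_of_fullyCentralized hS hF hc
    obtain ⟨ρ, hρ, -, hρi⟩ := exists_normalizer_map hS ha hR (isConj_iff.2 ⟨_, hg, hBimg⟩)
    have hN : normalizerIn S (Subgroup.zpowers x ⊔ E) = S :=
      le_antisymm inf_le_left (fun s hs => ⟨hs, hnormY _ le_sup_right hBS hs⟩)
    rw [hN] at hρ
    have hρimg : img ρ S = S := img_eq_of_card hρ le_rfl le_rfl (fun y hy => hρ.mem hy) le_rfl
    have hρW : ∀ w ∈ Zc ⊔ E, ρ w ∈ Zc ⊔ E := by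
      have h2 : Maps F (Zc ⊔ E) ρ := hρ.restrict hWS
      refine h2.sup_mem (fun c hc => ?_) (fun e he => ?_)
      · refine (le_sup_left : Zc ≤ Zc ⊔ E) (Subgroup.mem_inf.2 ⟨hρ.mem (hZcS hc), Subgroup.mem_centralizer_iff.2 fun y hy => ?_⟩)
        have hy' : y ∈ img ρ S := by rwa [hρimg]
        obtain ⟨t, ht, rfl⟩ := hρ.mem_img.1 hy'
        rw [← hρ.map_mul ht (hZcS hc), ← hρ.map_mul (hZcS hc) ht, hZcomm c hc t ht]
      · exact (le_sup_right : E ≤ Zc ⊔ E) (maps_mem_of_isNormal hE hρ hES he)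
    have hWimg : img ρ (Zc ⊔ E) = Zc ⊔ E :=
      img_eq_of_card (hρ.restrict hWS) hWS hWS hρW le_rfl
    have hxB : ρ x ∈ Subgroup.zpowers z ⊔ E := by
      rw [← hρi]
      exact (hρ.restrict hBS).mem_img_of_mem ((le_sup_left : _ ≤ Subgroup.zpowers x ⊔ E) (Subgroup.mem_zpowers x))
    have hxW : ρ x ∈ Zc ⊔ E := by
      refine (sup_le ?_ le_sup_right : Subgroup.zpowers z ⊔ E ≤ Zc ⊔ E) hxB
      exact ((Subgroup.zpowers_le).2 hz).trans le_sup_left
    rw [← hWimg] at hxW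
    obtain ⟨w, hw, hwe⟩ := (hρ.restrict hWS).mem_img.1 hxW
    rwa [← hρ.inj (hWS hw) hx hwe]
  intro a ha b hb
  obtain ⟨c, hc, e, he, rfl⟩ := mem_sup_mul hZN (hmem a ha)
  obtain ⟨c', hc', e', he', rfl⟩ := mem_sup_mul hZN (hmem b hb)
  have hcS := hZcS hc
  have hc'S := hZcS hc'
  calc c * e * (c' * e') = c * (e * c') * e' := by group
    _ = c * (c' * e) * e' := by rw [hZcomm c' hc' e (hES he)]
    _ = (c * c') * (e * e') := by group
    _ = (c' * c) * (e' * e) := by rw [hZcomm c hc c' hc'S, hEc e he e' he']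
    _ = c' * (c * e') * e := by group
    _ = c' * (e' * c) * e := by rw [hZcomm c hc e' (hES he')]
    _ = c' * e' * (c * e) := by group

end Step

/-- **Theorem.** -/
theorem main : ∀ (n : ℕ) (Ω : Type u) [Group Ω] (S : Subgroup Ω) [Finite S] (_ : IsPGroup 2 S) (F : FusionSystem S)
    (_ : F.IsSaturated 2) (_ : ∀ x ∈ S, ∃ z ∈ S ⊓ Subgroup.centralizer (S : Set Ω), F.IsConjElt x z),
    Nat.card S = n → ∀ a ∈ S, ∀ b ∈ S, a * b = b * a := by
  intro n
  induction n using Nat.strong_induction_on with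
  | _ n ih =>
  intro Ω _ S _ hS F hF H hn
  by_cases hcard : Nat.card S = 1
  · intro a ha b hb
    haveI : Subsingleton S := (Finite.card_le_one_iff_subsingleton).1 hcard.le
    have h1 : (⟨a, ha⟩ : S) = 1 := Subsingleton.elim _ _
    have h2 : (⟨b, hb⟩ : S) = 1 := Subsingleton.elim _ _
    have h3 : a = 1 := congrArg Subtype.val h1
    have h4 : b = 1 := congrArg Subtype.val h2
    rw [h3, h4]
  have hcomm := invol_comm hS hF H
  set E := Om S hcomm with hEdef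
  have hES : E ≤ S := fun t ht => ht.1
  have hEc : ∀ a ∈ E, ∀ b ∈ E, a * b = b * a := fun a ha b hb => hcomm a ha.1 b hb.1 ha.2 hb.2
  have hsc : F.StronglyClosed E := by
    refine ⟨hES, fun R hR φ hφ x => ⟨(F.le_of_mem hφ).2 x, ?_⟩⟩
    have hx2 : x ^ 2 = 1 := Subtype.ext (hR x.2).2
    rw [← map_pow, hx2, map_one]
  have hEn : F.IsNormal E := by
    let Qn : ℕ → Subgroup Ω := fun i => if i = 0 then ⊥ else E
    refine Cfsg.Agent.Lib.FusionCore3.isNormal_of_chain hS hF 1 Qn rfl rfl ?_ ?_ ?_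
    · intro i hi
      have : i = 0 := by omega
      subst this
      exact bot_le
    · intro i hi
      have : i = 0 := by omega
      subst this
      exact hsc
    · intro i hi
      have : i = 0 := by omega
      subst this
      show ⁅E, E⁆ ≤ ⊥
      rw [le_bot_iff, Subgroup.commutator_eq_bot_iff_le_centralizer]
      intro a ha
      rw [Subgroup.mem_centralizer_iff]
      intro b hb
      exact hEc b hb a ha
  have hNE := Cfsg.Agent.Lib.FusionNormal.IsNormal.le_normalizer hEn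
  -- the factor system
  let K₀ : Subgroup S := E.subgroupOf S
  haveI hK₀n : K₀.Normal := ⟨fun n hn g => Subgroup.mem_subgroupOf.2
    ((Subgroup.mem_normalizer_iff.1 (hNE g.2) n).1 (Subgroup.mem_subgroupOf.1 hn))⟩
  let θ : S →* S ⧸ K₀ := QuotientGroup.mk' K₀
  have hk : ∀ s : S, θ s = 1 ↔ (s : Ω) ∈ E := fun s => by
    rw [← Subgroup.mem_subgroupOf]
    exact QuotientGroup.eq_one_iff s
  have hr' : θ.range = ⊤ := MonoidHom.range_eq_top.2 (QuotientGroup.mk'_surjective K₀)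
  obtain ⟨F', hfac⟩ := exists_factorSystem F hsc hk hr'
  have hS' : IsPGroup 2 ↥(⊤ : Subgroup (S ⧸ K₀)) := (hS.to_quotient K₀).to_subgroup ⊤
  have hmor := isSurjectiveMorphism_of_isFactorSystem hS hF hsc hfac
  have hkerZ : kerAlong θ = E := by
    ext z
    constructor
    · rintro ⟨s, hs, rfl⟩
      exact (hfac.2.1 s).1 hs
    · intro hz
      exact ⟨⟨z, hfac.1 hz⟩, (hfac.2.1 _).2 hz, rfl⟩
  have hF' : F'.IsSaturated 2 := isSaturated_of_surjective hS hF hmor (by rw [hkerZ]; exact hsc)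
  -- the hypothesis passes to the factor system
  have H' : ∀ x ∈ (⊤ : Subgroup (S ⧸ K₀)), ∃ z ∈ (⊤ : Subgroup (S ⧸ K₀)) ⊓
      Subgroup.centralizer ((⊤ : Subgroup (S ⧸ K₀)) : Set (S ⧸ K₀)), F'.IsConjElt x z := by
    intro x' _
    obtain ⟨s, rfl⟩ := QuotientGroup.mk'_surjective K₀ x'
    obtain ⟨z, hz, φ, hφ, hφx⟩ := H s s.2
    obtain ⟨φ', hφ', hind⟩ := hmor.1.2 _ φ hφ
    have hP : imageAlong θ (Subgroup.zpowers (s : Ω)) = Subgroup.zpowers (θ s) := by
      ext y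
      constructor
      · rintro ⟨t, ht, rfl⟩
        obtain ⟨k, hk⟩ := Subgroup.mem_subgroupOf.1 ht
        refine ⟨k, ?_⟩
        have h5 : s ^ k = t := Subtype.ext (by simpa using hk)
        show θ s ^ k = θ t
        rw [← h5, map_zpow]
      · rintro ⟨k, rfl⟩
        refine ⟨s ^ k, Subgroup.mem_subgroupOf.2 ⟨k, by simp⟩, ?_⟩
        show θ (s ^ k) = θ s ^ k
        rw [map_zpow]
    have hm'₀ : Maps F' (imageAlong θ (Subgroup.zpowers (s : Ω))) (fn φ') := Maps.of_mem hφ'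
    obtain ⟨f', hf'⟩ : ∃ f', f' = fn φ' := ⟨_, rfl⟩
    rw [← hf'] at hm'₀
    have hm' : Maps F' (Subgroup.zpowers (θ s)) f' := by rwa [hP] at hm'₀
    refine ⟨θ ⟨z, hz.1⟩, Subgroup.mem_inf.2 ⟨Subgroup.mem_top _, Subgroup.mem_centralizer_iff.2 fun y _ => ?_⟩, hm'.hom, hm'.hom_mem, ?_⟩
    · obtain ⟨t, rfl⟩ := QuotientGroup.mk'_surjective K₀ y
      show θ t * θ ⟨z, hz.1⟩ = θ ⟨z, hz.1⟩ * θ t
      rw [← map_mul, ← map_mul]
      congr 1
      apply Subtype.ext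
      exact Subgroup.mem_centralizer_iff.1 hz.2 _ t.2
    · rw [hm'.hom_apply]
      have hsP : (s : Ω) ∈ Subgroup.zpowers (s : Ω) := Subgroup.mem_zpowers _
      have hzS : φ ⟨s, hsP⟩ ∈ S := by rw [hφx]; exact hz.1
      have h6 := induced_apply hind ⟨s, hsP⟩ s.2 (by
        exact ⟨s, Subgroup.mem_subgroupOf.2 hsP, rfl⟩) hzS
      have hq1 : (θ s) ∈ imageAlong θ (Subgroup.zpowers (s : Ω)) := ⟨s, Subgroup.mem_subgroupOf.2 hsP, rfl⟩
      show f' (θ s) = _
      rw [hf', fn_of_mem φ' hq1]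
      have h7 : (⟨φ ⟨s, hsP⟩, hzS⟩ : S) = ⟨z, hz.1⟩ := Subtype.ext hφx
      rw [h7] at h6
      exact h6
  -- the order drops
  have h2dvd : 2 ∣ Nat.card S := by
    obtain ⟨k, hk⟩ := IsPGroup.iff_card.1 hS
    rw [hk]
    refine dvd_pow_self 2 ?_
    rintro rfl
    exact hcard (by simpa using hk)
  obtain ⟨t, ht⟩ := exists_prime_orderOf_dvd_card' 2 h2dvd
  have htE : (t : Ω) ∈ E := ⟨t.2, by
    have h5 : t ^ 2 = 1 := by rw [← ht]; exact pow_orderOf_eq_one t
    exact congrArg Subtype.val h5⟩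
  have hlt : Nat.card ↥(⊤ : Subgroup (S ⧸ K₀)) < n := by
    rw [Subgroup.card_top, ← hn]
    have h1 := Subgroup.card_mul_index K₀
    have h2 : Nat.card (S ⧸ K₀) = K₀.index := rfl
    rw [h2, ← h1]
    have h3 : 1 < Nat.card K₀ := by
      have h4 : t ∈ K₀ := Subgroup.mem_subgroupOf.2 htE
      have ht1 : t ≠ 1 := by
        rintro rfl
        rw [orderOf_one] at ht
        omega
      haveI : Nontrivial K₀ := ⟨⟨⟨t, h4⟩, 1, fun h => ht1 (congrArg Subtype.val h)⟩⟩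
      exact Finite.one_lt_card
    have h5 : 0 < K₀.index := Nat.pos_of_ne_zero Subgroup.index_ne_zero_of_finite
    nlinarith
  have hab := ih _ hlt _ _ hS' F' hF' H' rfl
  refine abelian_of_quot hS hF hEn hEc (fun a ha b hb => ?_) H
  have h1 := hab (θ ⟨a, ha⟩) (Subgroup.mem_top _) (θ ⟨b, hb⟩) (Subgroup.mem_top _)
  have h2 : θ (⟨a, ha⟩ * ⟨b, hb⟩ * ⟨a, ha⟩⁻¹ * ⟨b, hb⟩⁻¹) = 1 := by
    simp only [map_mul, map_inv]
    rw [h1]
    group
  exact (hk _).1 h2

end Cfsg.Agent.Lib.FusionCaminaHerzog
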