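/-
FusionWeakEmb: a nilpotency criterion for saturated fusion systems via weakly embedded subgroups (S5271).
-/
import Mathlib
import Cfsg.Agent.Lib.FusionSmallExp
import Cfsg.Agent.Lib.FusionCaminaHerzog
import Cfsg.Agent.Lib.FusionCore3
import Cfsg.Agent.Lib.FusionFactor
import Cfsg.Agent.Lib.FusionStrongClosed
import Cfsg.Agent.Lib.FusionQuotSat
import Cfsg.Agent.Lib.FusionNormalQuot
import Cfsg.Agent.Lib.FusionSolvable
import Cfsg.Agent.Lib.FusionGT3
import Cfsg.Agent.Lib.FusionSplit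
import Cfsg.Agent.Lib.FusionHyperfocal
import Cfsg.Agent.Lib.FusionFocal
import Cfsg.Agent.Lib.FusionNormalCrit
import Cfsg.Agent.Lib.PCore
import Cfsg.Agent.Lib.PNormalEA
import Cfsg.Agent.Lib.FusionTrfApps

set_option autoImplicit false

namespace Cfsg.Agent.Lib.FusionWeakEmb

open Cfsg Cfsg.FusionSystem Cfsg.Agent.Lib.FusionCore Cfsg.Agent.Lib.FusionCore2
open Cfsg.Agent.Lib.FusionSmallExp Cfsg.Agent.Lib.FusionFactor Cfsg.Agent.Lib.FusionStrongClosed
open Cfsg.Agent.Lib.FusionQuotSat Cfsg.Agent.Lib.FusionGT Cfsg.Agent.Lib.FusionNormalQuot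

universe u

section Basic

variable {Ω : Type u} [Group Ω] {S : Subgroup Ω} {F : FusionSystem S}

/-- Weak embedding. -/
def WE (F : FusionSystem S) (Q : Subgroup Ω) : Prop :=
  ∃ P : Subgroup Ω, F.StronglyClosed P ∧ F.StronglyClosed (Q ⊔ P) ∧ F.StronglyClosed (Q ⊓ P)

lemma sc_norm [Finite S] {P : Subgroup Ω} (hP : F.StronglyClosed P) : S ≤ Subgroup.normalizer (P : Set Ω) := by
  intro s hs
  haveI := finite_of_le hP.1
  exact mem_normalizer_of_conj_mem fun x hx => stronglyClosed_conj hP hs hx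

lemma sc_mem_of_maps {T P : Subgroup Ω} {f : Ω → Ω} (hP : F.StronglyClosed P) (hf : Maps F T f) {x : Ω}
    (hxT : x ∈ T) (hxP : x ∈ P) : f x ∈ P := by
  have h1 : Maps F (T ⊓ P) f := hf.restrict inf_le_left
  obtain ⟨φ, hφ, he⟩ := h1
  have h2 := hP.2 _ inf_le_right φ hφ ⟨x, hxT, hxP⟩
  rwa [he] at h2

/-- Subgroups of `T` invariant under all maps from `T` to `T`. -/
def Inv (F : FusionSystem S) (T U : Subgroup Ω) : Prop :=
  U ≤ T ∧ ∀ f, Maps F T f → (∀ x ∈ T, f x ∈ T) → ∀ x ∈ U, f x ∈ U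

lemma Inv.bot (T : Subgroup Ω) : Inv F T ⊥ := by
  refine ⟨bot_le, fun f hf _ x hx => ?_⟩
  rw [Subgroup.mem_bot] at hx ⊢
  rw [hx, hf.map_one]

lemma Inv.top {T : Subgroup Ω} : Inv F T T := ⟨le_rfl, fun _ _ h x hx => h x hx⟩

lemma Inv.sc {T P : Subgroup Ω} (hP : F.StronglyClosed P) : Inv F T (T ⊓ P) :=
  ⟨inf_le_left, fun _ hf h x hx => ⟨h x hx.1, sc_mem_of_maps hP hf hx.1 hx.2⟩⟩

lemma Inv.sc' {T P : Subgroup Ω} (hP : F.StronglyClosed P) (hPT : P ≤ T) : Inv F T P :=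
  ⟨hPT, fun _ hf _ x hx => sc_mem_of_maps hP hf (hPT hx) hx⟩

lemma Inv.inf {T U V : Subgroup Ω} (hU : Inv F T U) (hV : Inv F T V) : Inv F T (U ⊓ V) :=
  ⟨inf_le_left.trans hU.1, fun f hf h x hx => ⟨hU.2 f hf h x hx.1, hV.2 f hf h x hx.2⟩⟩

lemma Inv.sup {T U V : Subgroup Ω} (hU : Inv F T U) (hV : Inv F T V) : Inv F T (U ⊔ V) := by
  have hle : U ⊔ V ≤ T := sup_le hU.1 hV.1
  refine ⟨hle, fun f hf h x hx => ?_⟩
  exact (hf.restrict hle).sup_mem (fun y hy => Subgroup.mem_sup_left (hU.2 f hf h y hy))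
    (fun y hy => Subgroup.mem_sup_right (hV.2 f hf h y hy)) x hx

lemma Inv.le_norm [Finite S] {T U : Subgroup Ω} (hT : T ≤ S) (hU : Inv F T U) :
    T ≤ normalizerIn S U := by
  intro t ht
  haveI := finite_of_le (hU.1.trans hT)
  refine mem_normalizerIn.2 ⟨hT ht, mem_normalizer_of_conj_mem fun x hx => ?_⟩
  exact hU.2 _ (Maps.conj hT (hT ht)) (fun y hy => T.mul_mem (T.mul_mem ht hy) (T.inv_mem ht)) x hx

/-- A subgroup of a given `p`-power order between two subgroups. -/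
lemma exists_between [Finite S] {p : ℕ} [Fact p.Prime] (hS : IsPGroup p S) {U V : Subgroup Ω} (hUV : U ≤ V)
    (hV : V ≤ S) {m : ℕ} (h1 : Nat.card U ≤ p ^ m) (h2 : p ^ m ≤ Nat.card V) :
    ∃ H, U ≤ H ∧ H ≤ V ∧ Nat.card H = p ^ m := by
  haveI : Finite V := finite_of_le hV
  haveI : Finite U := finite_of_le (hUV.trans hV)
  have hVp : IsPGroup p V := hS.to_le hV
  have hUp : IsPGroup p U := hS.to_le (hUV.trans hV)
  obtain ⟨a, ha⟩ := IsPGroup.iff_card.1 hVp
  obtain ⟨b, hb⟩ := IsPGroup.iff_card.1 hUp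
  have hp := (Fact.out : p.Prime)
  have hma : m ≤ a := (Nat.pow_le_pow_iff_right hp.one_lt).1 (by rw [← ha]; exact h2)
  have hbm : b ≤ m := (Nat.pow_le_pow_iff_right hp.one_lt).1 (by rw [← hb]; exact h1)
  have hd : p ^ m ∣ Nat.card V := by
    rw [ha]
    exact pow_dvd_pow p hma
  have hU' : Nat.card (U.subgroupOf V) = p ^ b := by
    rw [← hb]
    exact Nat.card_congr (Subgroup.subgroupOfEquivOfLe hUV).toEquiv
  obtain ⟨K, hK, hUK⟩ := Sylow.exists_subgroup_card_pow_prime_le p hd (U.subgroupOf V) hU' hbm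
  refine ⟨K.map V.subtype, fun x hx => ?_, Subgroup.map_subtype_le K, ?_⟩
  · exact ⟨⟨x, hUV hx⟩, hUK (Subgroup.mem_subgroupOf.2 hx), rfl⟩
  · rw [Subgroup.card_map_of_injective V.subtype_injective, hK]

/-- The basic step: an invariant subgroup of every admissible order. -/
theorem exists_inv [Finite S] {p : ℕ} [Fact p.Prime] (hS : IsPGroup p S) {m : ℕ}
    (hW : ∀ Q : Subgroup Ω, Q ≤ S → Nat.card Q = p ^ m → WE F Q) {T : Subgroup Ω} (hT : T ≤ S)
    (hTd : p ^ m ≤ Nat.card T) :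
    ∀ (n : ℕ) (U : Subgroup Ω), Inv F T U → Nat.card U ≤ p ^ m → p ^ m - Nat.card U = n →
      ∃ H, Inv F T H ∧ Nat.card H = p ^ m := by
  haveI : Finite T := finite_of_le hT
  intro n
  induction n using Nat.strong_induction_on with
  | _ n ih =>
  intro U hU hU1 hn
  by_cases hUd : Nat.card U = p ^ m
  · exact ⟨U, hU, hUd⟩
  have hUlt : Nat.card U < p ^ m := lt_of_le_of_ne hU1 hUd
  -- a minimal invariant subgroup above `U`
  have hex : ∃ k, ∃ V, Inv F T V ∧ U < V ∧ Nat.card V = k := by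
    refine ⟨_, T, Inv.top, lt_of_le_of_ne hU.1 ?_, rfl⟩
    rintro rfl
    omega
  classical
  obtain ⟨V, hV, hUV, hVk⟩ := Nat.find_spec hex
  have hVmin : ∀ Y, Inv F T Y → U < Y → Nat.card V ≤ Nat.card Y := by
    intro Y hY hUY
    rw [hVk]
    exact Nat.find_min' hex ⟨Y, hY, hUY, rfl⟩
  have hVT := hV.1
  haveI : Finite V := finite_of_le (hVT.trans hT)
  have hUVc : Nat.card U < Nat.card V := Cfsg.Agent.Lib.FusionAlperin.card_lt_of_lt hUV
  by_cases hVd : Nat.card V ≤ p ^ m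
  · exact ih _ (by omega) V hV hVd rfl
  push Not at hVd
  obtain ⟨H, hUH, hHV, hHc⟩ := exists_between hS hUV.le (hVT.trans hT) hU1 hVd.le
  refine ⟨H, ?_, hHc⟩
  have hHT := hHV.trans hVT
  obtain ⟨P, hP, hHP, hIP⟩ := hW H (hHT.trans hT) hHc
  -- no invariant subgroups between `U` and `V`
  have hbetween : ∀ Y, Inv F T Y → U ≤ Y → Y ≤ V → Y = U ∨ Y = V := by
    intro Y hY hUY hYV
    by_cases h : U = Y
    · exact Or.inl h.symm
    · right
      have h3 := hVmin Y hY (lt_of_le_of_ne hUY h)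
      exact Cfsg.Agent.Lib.FusionAlperin.eq_of_le_of_card_eq hYV h3
  have hPn := sc_norm hP
  have hVP : Inv F T (V ⊓ P) := by
    have := Inv.inf hV (Inv.sc (T := T) hP)
    convert this using 1
    ext x
    constructor
    · rintro ⟨h1, h2⟩
      exact ⟨h1, hVT h1, h2⟩
    · rintro ⟨h1, -, h2⟩
      exact ⟨h1, h2⟩
  have hY := Inv.sup hU hVP
  rcases hbetween _ hY le_sup_left (sup_le hUV.le inf_le_left) with h | h
  · -- `V ∩ P ≤ U`: `H = V ∩ HP`
    have hA : V ⊓ P ≤ U := by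
      rw [← h]
      exact le_sup_right
    have hB : Inv F T (V ⊓ (H ⊔ P)) := by
      have := Inv.inf hV (Inv.sc (T := T) hHP)
      convert this using 1
      ext x
      constructor
      · rintro ⟨h1, h2⟩
        exact ⟨h1, hVT h1, h2⟩
      · rintro ⟨h1, -, h2⟩
        exact ⟨h1, h2⟩
    have hEq : V ⊓ (H ⊔ P) = H := by
      apply le_antisymm
      · rintro x ⟨hxV, hxHP⟩
        obtain ⟨a, ha, c, hc, rfl⟩ := mem_sup_mul ((hHT.trans hT).trans hPn) hxHP
        have hcV : c ∈ V := by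
          have := V.mul_mem (V.inv_mem (hHV ha)) hxV
          simpa using this
        exact H.mul_mem ha (hUH (hA ⟨hcV, hc⟩))
      · exact le_inf hHV le_sup_left
    rwa [hEq] at hB
  · -- `V = U (V ∩ P)`: `H = U (H ∩ P)`
    have hUn : U ≤ S := hU.1.trans hT
    have hEq : U ⊔ (H ⊓ P) = H := by
      apply le_antisymm
      · exact sup_le hUH inf_le_left
      · intro x hx
        have hxV := hHV hx
        rw [← h] at hxV
        have hUnorm : U ≤ Subgroup.normalizer ((V ⊓ P : Subgroup Ω) : Set Ω) := by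
          intro u hu
          haveI : Finite ↥(V ⊓ P) := finite_of_le (inf_le_left.trans (hVT.trans hT))
          refine mem_normalizer_of_conj_mem fun y hy => ?_
          exact ⟨V.mul_mem (V.mul_mem (hUV.le hu) hy.1) (V.inv_mem (hUV.le hu)),
            stronglyClosed_conj hP (hUn hu) hy.2⟩
        obtain ⟨a, ha, c, hc, rfl⟩ := mem_sup_mul hUnorm hxV
        have hcH : c ∈ H := by
          have := H.mul_mem (H.inv_mem (hUH ha)) hx
          simpa using this
        exact Subgroup.mul_mem _ (Subgroup.mem_sup_left ha) (Subgroup.mem_sup_right ⟨hcH, hc.2⟩)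
    rw [← hEq]
    exact Inv.sup hU (Inv.sc' hIP (inf_le_left.trans hHT))

/-- From the invariant subgroup: automorphism groups of large subgroups are `p`-groups. -/
theorem isPGroup_aut [Finite S] {p : ℕ} [hp : Fact p.Prime] (hS : IsPGroup p S) {m : ℕ}
    (hW : ∀ Q : Subgroup Ω, Q ≤ S → Nat.card Q = p ^ m → WE F Q)
    (hN : ∀ Q : Subgroup Ω, Q ≤ S → Nat.card Q = p ^ m → ¬ HasN F p Q) {T : Subgroup Ω} (hT : T ≤ S)
    (hTd : p ^ m ≤ Nat.card T) : IsPGroup p (F.autGroup T) := by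
  haveI := finite_mulAut hT
  obtain ⟨H, hH, hHc⟩ := exists_inv hS hW hT hTd _ ⊥ (Inv.bot T)
    (by rw [Subgroup.card_bot]; exact Nat.one_le_pow _ _ hp.out.pos) rfl
  intro α
  obtain ⟨a, b, hb, hab⟩ := Nat.exists_eq_pow_mul_and_not_dvd (orderOf_pos (α : MulAut T)).ne' p hp.out.ne_one
  refine ⟨a, ?_⟩
  have hcb : b.Coprime p := ((Nat.Prime.coprime_iff_not_dvd hp.out).2 hb).symm
  have hβ : (α : MulAut T) ^ (p ^ a) = 1 := by
    by_contra hne
    apply hN H (hH.1.trans hT) hHc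
    have hm : Maps F T (afn ((α : MulAut T) ^ (p ^ a))) := maps_pow ((mem_autGroup_iff hT).1 α.2) _
    refine ⟨T, (α : MulAut T) ^ (p ^ a), hH.1, Inv.le_norm hT hH, hm, hne, ?_, ?_⟩
    · have h1 : ((α : MulAut T) ^ (p ^ a)) ^ b = 1 := by
        rw [← pow_mul, ← hab, pow_orderOf_eq_one]
      exact Nat.Coprime.coprime_dvd_left (orderOf_dvd_of_pow_eq_one h1) hcb
    · exact hH.2 _ hm (fun x hx => afn_mem _ hx)
  exact Subtype.ext hβ

/-- Essential subgroups do not have `p`-groups of automorphisms. -/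
theorem not_isPGroup_of_essential [Finite S] {p : ℕ} [hp : Fact p.Prime] (hS : IsPGroup p S) {E : Subgroup Ω}
    (hE : F.IsEssential p E) : ¬ IsPGroup p (F.autGroup E) := by
  intro hA
  have hr := radical_of_essential hS hE
  obtain ⟨hc, -, hN, Y, hdvd, -, -⟩ := hE
  have hES := hc.1
  haveI := finite_mulAut hES
  have h1 : pCore p (F.autGroup E) = ⊤ := by
    rw [eq_top_iff]
    exact Cfsg.Agent.Lib.PCore.le_pCore inferInstance (hA.to_subgroup ⊤)
  have h2 := hr.2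
  rw [h1] at h2
  have h3 : (Inn E).subgroupOf (F.autGroup E) = ⊤ := by
    rw [eq_top_iff]
    intro α _
    rw [Subgroup.mem_subgroupOf, ← h2]
    exact ⟨α, Subgroup.mem_top _, rfl⟩
  have h4 : Nat.card (F.autGroup E ⧸ (Inn E).subgroupOf (F.autGroup E)) = 1 := by
    have h5 : Nat.card (F.autGroup E ⧸ (Inn E).subgroupOf (F.autGroup E)) = ((Inn E).subgroupOf (F.autGroup E)).index := rfl
    rw [h5, h3, Subgroup.index_top]
  rw [h4] at hdvd
  exact hp.out.one_lt.ne' (Nat.dvd_one.1 hdvd)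

/-- Maps are inner modulo `X`. -/
def IMod (F : FusionSystem S) (X : Subgroup Ω) : Prop :=
  ∀ P f, Maps F P f → ∃ s ∈ S, ∀ x ∈ P, (s * x * s⁻¹)⁻¹ * f x ∈ X

lemma norm_conj_mem {X : Subgroup Ω} (hX : S ≤ Subgroup.normalizer (X : Set Ω)) {s x : Ω} (hs : s ∈ S) (hx : x ∈ X) :
    s * x * s⁻¹ ∈ X :=
  (Subgroup.mem_normalizer_iff.1 (hX hs) x).1 hx

/-- The fusion system of maps inner modulo `X`. -/
def imodSystem (F : FusionSystem S) (X : Subgroup Ω) (hX : S ≤ Subgroup.normalizer (X : Set Ω)) : FusionSystem S where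
  Hom P := {φ | φ ∈ F.Hom P ∧ ∃ s ∈ S, ∀ x : P, (s * x * s⁻¹)⁻¹ * φ x ∈ X}
  le_of_mem h := F.le_of_mem h.1
  injective_of_mem h := F.injective_of_mem h.1
  conj_mem hP hg := ⟨F.conj_mem hP hg, _, hg, fun x => by
    show (_ * (x : Ω) * _)⁻¹ * (_ * (x : Ω) * _) ∈ X
    rw [inv_mul_cancel]
    exact X.one_mem⟩
  comp_mem := by
    rintro P Q φ ψ ⟨hφ, s, hs, h1⟩ ⟨hψ, t, ht, h2⟩ h
    refine ⟨F.comp_mem hφ hψ h, t * s, S.mul_mem ht hs, fun x => ?_⟩
    have h3 := h2 (φ.codRestrict Q h x)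
    have h4 := h1 x
    have h5 : ((φ.codRestrict Q h x : Q) : Ω) = φ x := rfl
    rw [h5] at h3
    have h6 := norm_conj_mem hX ht h4
    have e : (t * s * (x : Ω) * (t * s)⁻¹)⁻¹ * ψ (φ.codRestrict Q h x) =
        (t * ((s * x * s⁻¹)⁻¹ * φ x) * t⁻¹) * ((t * φ x * t⁻¹)⁻¹ * ψ (φ.codRestrict Q h x)) := by
      group
    show (t * s * (x : Ω) * (t * s)⁻¹)⁻¹ * ψ (φ.codRestrict Q h x) ∈ X
    rw [e]
    exact X.mul_mem h6 h3
  inv_mem := by
    rintro P φ ⟨hφ, s, hs, h1⟩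
    obtain ⟨ψ, hψ, hψe⟩ := F.inv_mem hφ
    refine ⟨ψ, ⟨hψ, s⁻¹, S.inv_mem hs, ?_⟩, hψe⟩
    rintro ⟨_, x, rfl⟩
    have h2 := hψe x
    have h3 := h1 x
    have h4 := norm_conj_mem hX (S.inv_mem hs) (X.inv_mem h3)
    show (s⁻¹ * φ x * s⁻¹⁻¹)⁻¹ * ψ ⟨φ x, ⟨x, rfl⟩⟩ ∈ X
    rw [h2]
    convert h4 using 1
    group

/-- All maps are inner modulo `X` if the essential subgroups lie in `X` and `Aut_F(S)` is a `p`-group. -/
theorem imod_of_essential [Finite S] {p : ℕ} [hp : Fact p.Prime] (hS : IsPGroup p S) (hF : F.IsSaturated p)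
    {X : Subgroup Ω} (hX : S ≤ Subgroup.normalizer (X : Set Ω)) (hAS : IsPGroup p (F.autGroup S))
    (hE : ∀ E, F.IsEssential p E → E ≤ X) : IMod F X := by
  have hle : F ≤ imodSystem F X hX := by
    refine alperin_goldschmidt hS hF _ (fun P hP α hα => ?_)
    have hPS : P ≤ S := by
      rcases hP with rfl | hP
      · exact le_rfl
      · exact hP.1.1
    have hm : Maps F P (afn α) := (mem_autGroup_iff hPS).1 hα
    rw [mem_autGroup_iff hPS]
    obtain ⟨φ, hφ, he⟩ := hm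
    refine ⟨φ, ⟨hφ, ?_⟩, he⟩
    rcases hP with rfl | hP
    · -- `Aut_F(S)` is inner
      haveI := finite_mulAut (le_refl P)
      obtain ⟨-, R, hR⟩ := (of_fullyNormalized hS hF (Cfsg.Agent.Lib.FusionFocal.fullyNormalized_top (F := F))).2
      have htop := Cfsg.Agent.Lib.FusionAlperin.sylow_eq_top_of_isPGroup hAS R
      have h1 : (⟨α, hα⟩ : F.autGroup P) ∈ (R : Subgroup (F.autGroup P)) := by
        rw [htop]
        trivial
      rw [hR] at h1
      obtain ⟨s, hs, hse⟩ := mem_autInducedBy.1 (Subgroup.mem_subgroupOf.1 h1)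
      refine ⟨s, hs, fun x => ?_⟩
      rw [he, hse x x.2, inv_mul_cancel]
      exact X.one_mem
    · refine ⟨1, S.one_mem, fun x => ?_⟩
      have hPX := hE P hP
      have h1 : afn α (x : Ω) ∈ P := afn_mem α x.2
      rw [he]
      exact X.mul_mem (X.inv_mem (X.mul_mem (X.mul_mem (X.one_mem) (hPX x.2)) (X.inv_mem X.one_mem)))
        (hPX h1)
  intro P f hf
  obtain ⟨φ, hφ, he⟩ := hf
  obtain ⟨-, s, hs, h2⟩ := hle P hφ
  refine ⟨s, hs, fun x hx => ?_⟩
  have := h2 ⟨x, hx⟩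
  rwa [he] at this

/-- Powers of maps congruent to conjugations. -/
lemma imod_pow {P X : Subgroup Ω} (hX : S ≤ Subgroup.normalizer (X : Set Ω)) {α : MulAut P} {s : Ω} (hs : s ∈ S)
    (h : ∀ x ∈ P, (s * x * s⁻¹)⁻¹ * afn α x ∈ X) (n : ℕ) :
    ∀ x ∈ P, (s ^ n * x * (s ^ n)⁻¹)⁻¹ * afn (α ^ n) x ∈ X := by
  induction n with
  | zero =>
    intro x hx
    rw [pow_zero, pow_zero, afn_one hx]
    simp
  | succ n ih =>
    intro x hx
    rw [pow_succ' α, afn_mul _ _ hx, pow_succ' s]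
    have h1 := ih x hx
    have h2 := h _ (afn_mem (α ^ n) hx)
    have h3 := norm_conj_mem hX hs h1
    have e : (s * s ^ n * x * (s * s ^ n)⁻¹)⁻¹ * afn α (afn (α ^ n) x) =
        (s * ((s ^ n * x * (s ^ n)⁻¹)⁻¹ * afn (α ^ n) x) * s⁻¹) * ((s * afn (α ^ n) x * s⁻¹)⁻¹ * afn α (afn (α ^ n) x)) := by
      group
    rw [e]
    exact X.mul_mem h3 h2

/-- `g` is a power of `g ^ n` when `n` is prime to the order of `g`. -/
lemma exists_pow_of_coprime {A : Type*} [Group A] {g : A} {n : ℕ} (h : (orderOf g).Coprime n) :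
    ∃ k : ℕ, (g ^ n) ^ k = g := by
  rcases Nat.lt_or_ge 1 (orderOf g) with h1 | h1
  · obtain ⟨k, -, hk⟩ := Nat.exists_mul_mod_eq_one_of_coprime h.symm h1
    refine ⟨k, ?_⟩
    rw [← pow_mul, ← pow_mod_orderOf, hk, pow_one]
  · rcases Nat.eq_zero_or_pos (orderOf g) with h0 | h0
    · rw [h0, Nat.coprime_zero_left] at h
      subst h
      exact ⟨1, by simp⟩
    · have : orderOf g = 1 := by omega
      rw [orderOf_eq_one_iff] at this
      rw [this]
      exact ⟨0, by simp⟩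

/-- The hyperfocal subgroup lies in `X` if all maps are inner modulo `X`. -/
theorem hyp_le_of_imod [Finite S] {p : ℕ} [hp : Fact p.Prime] (hS : IsPGroup p S) {X : Subgroup Ω}
    (hX : S ≤ Subgroup.normalizer (X : Set Ω)) (hI : IMod F X) : F.hyperfocalSubgroup p ≤ X := by
  unfold hyperfocalSubgroup
  rw [Subgroup.closure_le]
  rintro _ ⟨P, α, x, hP, hα, rfl⟩
  let B : Subgroup (F.autGroup P) :=
    { carrier := {β | ∀ y ∈ P, y⁻¹ * afn (β : MulAut P) y ∈ X}
      mul_mem' := by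
        intro a b ha hb y hy
        show y⁻¹ * afn ((a : MulAut P) * (b : MulAut P)) y ∈ X
        rw [afn_mul _ _ hy]
        have e : y⁻¹ * afn (a : MulAut P) (afn (b : MulAut P) y) =
            (y⁻¹ * afn (b : MulAut P) y) * ((afn (b : MulAut P) y)⁻¹ * afn (a : MulAut P) (afn (b : MulAut P) y)) := by group
        rw [e]
        exact X.mul_mem (hb y hy) (ha _ (afn_mem _ hy))
      one_mem' := by
        intro y hy
        show y⁻¹ * afn (1 : MulAut P) y ∈ X
        rw [afn_one hy, inv_mul_cancel]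
        exact X.one_mem
      inv_mem' := by
        intro a ha y hy
        have h1 := ha _ (afn_mem ((a : MulAut P)⁻¹) hy)
        show y⁻¹ * afn ((a : MulAut P)⁻¹) y ∈ X
        rw [afn_afn_inv _ hy] at h1
        have h2 := X.inv_mem h1
        simpa using h2 }
  have hB : pResidual p (F.autGroup P) ≤ B := by
    unfold pResidual
    rw [Subgroup.closure_le]
    intro β hβ
    have hβc : (orderOf β).Coprime p := hβ
    obtain ⟨s, hs, hse⟩ := hI P _ ((mem_autGroup_iff hP).1 β.2)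
    haveI : Finite S := inferInstance
    obtain ⟨j, hj⟩ := (hS ⟨s, hs⟩)
    have hsj : s ^ (p ^ j) = 1 := congrArg Subtype.val hj
    have hpow := imod_pow hX hs hse (p ^ j)
    rw [hsj] at hpow
    obtain ⟨k, hk⟩ := exists_pow_of_coprime (g := β) (n := p ^ j) (Nat.Coprime.pow_right j hβc)
    have hmem : β ^ (p ^ j) ∈ B := by
      intro y hy
      have := hpow y hy
      simpa using this
    have := B.pow_mem hmem k
    rwa [hk] at this
  have h1 := hB hα x.1 x.2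
  rw [afn_of_mem _ x.2] at h1
  exact h1

/-- A normal subgroup above `X` is strongly closed if all maps are inner modulo `X`. -/
lemma sc_of_imod {X Y : Subgroup Ω} (hI : IMod F X) (hXY : X ≤ Y) (hYS : Y ≤ S)
    (hY : S ≤ Subgroup.normalizer (Y : Set Ω)) : F.StronglyClosed Y := by
  refine ⟨hYS, fun R hR φ hφ x => ?_⟩
  obtain ⟨s, hs, h1⟩ := hI R (fn φ) (Maps.of_mem hφ)
  have h2 := hXY (h1 x x.2)
  have h3 := norm_conj_mem hY hs (hR x.2)
  have h4 := Y.mul_mem h3 h2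
  have e : s * (x : Ω) * s⁻¹ * ((s * x * s⁻¹)⁻¹ * fn φ x) = φ x := by
    rw [fn_coe]
    group
  rwa [e] at h4

end Basic

section Decomp

variable {Ω : Type u} [Group Ω] {S : Subgroup Ω} {F : FusionSystem S}

/-- Automorphisms of `E` inner modulo `Y`. -/
def innMod (F : FusionSystem S) (E Y : Subgroup Ω) (hE : E ≤ S) (hY : S ≤ Subgroup.normalizer (Y : Set Ω)) :
    Subgroup (F.autGroup E) where
  carrier := {α | ∃ e ∈ E, ∀ y ∈ E, (e * y * e⁻¹)⁻¹ * afn (α : MulAut E) y ∈ Y}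
  mul_mem' := by
    rintro a b ⟨e, he, h1⟩ ⟨e', he', h2⟩
    refine ⟨e * e', E.mul_mem he he', fun y hy => ?_⟩
    show _ * afn ((a : MulAut E) * (b : MulAut E)) y ∈ Y
    rw [afn_mul _ _ hy]
    have h3 := h2 y hy
    have h4 := h1 _ (afn_mem (b : MulAut E) hy)
    have h5 := norm_conj_mem hY (hE he) h3
    have e1 : (e * e' * y * (e * e')⁻¹)⁻¹ * afn (a : MulAut E) (afn (b : MulAut E) y) =
        (e * ((e' * y * e'⁻¹)⁻¹ * afn (b : MulAut E) y) * e⁻¹) *
          ((e * afn (b : MulAut E) y * e⁻¹)⁻¹ * afn (a : MulAut E) (afn (b : MulAut E) y)) := by group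
    rw [e1]
    exact Y.mul_mem h5 h4
  one_mem' := ⟨1, E.one_mem, fun y hy => by
    show _ * afn (1 : MulAut E) y ∈ Y
    rw [afn_one hy]
    simp⟩
  inv_mem' := by
    rintro a ⟨e, he, h1⟩
    refine ⟨e⁻¹, E.inv_mem he, fun y hy => ?_⟩
    have h2 := h1 _ (afn_mem ((a : MulAut E)⁻¹) hy)
    rw [afn_afn_inv _ hy] at h2
    have h3 := norm_conj_mem hY (S.inv_mem (hE he)) (Y.inv_mem h2)
    show (e⁻¹ * y * e⁻¹⁻¹)⁻¹ * afn ((a : MulAut E)⁻¹) y ∈ Y
    convert h3 using 1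
    group

lemma mem_innMod {E Y : Subgroup Ω} {hE : E ≤ S} {hY : S ≤ Subgroup.normalizer (Y : Set Ω)} {α : F.autGroup E} :
    α ∈ innMod F E Y hE hY ↔ ∃ e ∈ E, ∀ y ∈ E, (e * y * e⁻¹)⁻¹ * afn (α : MulAut E) y ∈ Y := Iff.rfl

lemma innMod_normal {E Y : Subgroup Ω} (hE : E ≤ S) (hY : F.StronglyClosed Y) (hYn : S ≤ Subgroup.normalizer (Y : Set Ω)) :
    (innMod F E Y hE hYn).Normal := by
  constructor
  rintro a ⟨e, he, h1⟩ γ
  refine ⟨afn (γ : MulAut E) e, afn_mem _ he, fun y hy => ?_⟩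
  have hm : Maps F E (afn (γ : MulAut E)) := (mem_autGroup_iff hE).1 γ.2
  set z := afn ((γ : MulAut E)⁻¹) y with hz
  have hzE : z ∈ E := afn_mem _ hy
  have hyz : afn (γ : MulAut E) z = y := afn_afn_inv _ hy
  have h2 := h1 z hzE
  have hw : (e * z * e⁻¹)⁻¹ * afn (a : MulAut E) z ∈ E :=
    E.mul_mem (E.inv_mem (E.mul_mem (E.mul_mem he hzE) (E.inv_mem he))) (afn_mem _ hzE)
  have h3 := sc_mem_of_maps hY hm hw h2
  rw [hm.map_mul (E.inv_mem (E.mul_mem (E.mul_mem he hzE) (E.inv_mem he))) (afn_mem _ hzE),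
    hm.map_inv (E.mul_mem (E.mul_mem he hzE) (E.inv_mem he)), hm.map_conj he hzE, hyz] at h3
  show _ * afn (((γ * a * γ⁻¹ : F.autGroup E)) : MulAut E) y ∈ Y
  have e2 : ((γ * a * γ⁻¹ : F.autGroup E) : MulAut E) = (γ : MulAut E) * ((a : MulAut E) * (γ : MulAut E)⁻¹) := by
    simp [mul_assoc]
  rw [e2, afn_mul _ _ hy, afn_mul _ _ hy]
  exact h3

/-- The decomposition lemma, core: an element of `X` normalizing `E`, whose product with an element of `P` normalizing
`E` lies in `E`, lies in `E`. -/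
theorem mem_of_prod_mem [Finite S] {p : ℕ} [hp : Fact p.Prime] (hS : IsPGroup p S) {E X P : Subgroup Ω}
    (hES : E ≤ S) (hc : centralizerIn S E ≤ E)
    (hr : (pCore p (F.autGroup E)).map (F.autGroup E).subtype ≤ Inn E)
    (hX : F.StronglyClosed X) (hP : F.StronglyClosed P) (hXP : X ⊓ P = ⊥) {a b : Ω} (ha : a ∈ X) (hb : b ∈ P)
    (haN : a ∈ Subgroup.normalizer (E : Set Ω)) (hbc : a * b = b * a) (habE : a * b ∈ E) : a ∈ E := by
  haveI := finite_mulAut hES
  haveI : Finite E := finite_of_le hES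
  have hXn := sc_norm hX
  have hPn := sc_norm hP
  have haS := hX.1 ha
  have hbS := hP.1 hb
  -- the group `D`
  let D₁ := innMod F E X hES hXn
  let D₂ := innMod F E P hES hPn
  haveI hD₁ : D₁.Normal := innMod_normal hES hX hXn
  haveI hD₂ : D₂.Normal := innMod_normal hES hP hPn
  have hDp : IsPGroup p ↥(D₁ ⊓ D₂) := by
    obtain ⟨k, hk⟩ := IsPGroup.iff_card.1 (hS.to_le hES)
    rintro ⟨δ, ⟨e, he, h1⟩, ⟨e', he', h2⟩⟩
    refine ⟨k, Subtype.ext (Subtype.ext ?_)⟩
    show (δ : MulAut E) ^ p ^ k = 1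
    apply afn_ext
    intro y hy
    have hO : ∀ g ∈ E, g ^ p ^ k = 1 := fun g hg => by
      have : (⟨g, hg⟩ : E) ^ Nat.card E = 1 := pow_card_eq_one'
      rw [hk] at this
      exact congrArg Subtype.val this
    have h3 := imod_pow hXn (hES he) h1 (p ^ k) y hy
    have h4 := imod_pow hPn (hES he') h2 (p ^ k) y hy
    rw [hO e he] at h3
    rw [hO e' he'] at h4
    have h5 : y⁻¹ * afn ((δ : MulAut E) ^ p ^ k) y ∈ X ⊓ P := by
      refine ⟨?_, ?_⟩
      · simpa using h3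
      · simpa using h4
    rw [hXP, Subgroup.mem_bot] at h5
    rw [afn_one hy]
    have := mul_eq_one_iff_eq_inv.1 h5
    simpa using h5 |> fun h => (inv_mul_eq_one.1 h).symm
  have hDc : D₁ ⊓ D₂ ≤ pCore p (F.autGroup E) :=
    Cfsg.Agent.Lib.PCore.le_pCore inferInstance hDp
  -- conjugation by `a`
  have haNS : a ∈ normalizerIn S E := mem_normalizerIn.2 ⟨haS, haN⟩
  let γ : MulAut E := conjN S E ⟨a, haNS⟩
  have hγ : ∀ y ∈ E, afn γ y = a * y * a⁻¹ := fun y hy => afn_conjN ⟨a, haNS⟩ hy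
  have hγA : γ ∈ F.autGroup E := autInducedBy_le_autGroup hES (by
    rw [← conjN_range]
    exact ⟨_, rfl⟩)
  have hγ1 : (⟨γ, hγA⟩ : F.autGroup E) ∈ D₁ := by
    refine ⟨1, E.one_mem, fun y hy => ?_⟩
    show _ * afn γ y ∈ X
    rw [hγ y hy]
    have h1 := norm_conj_mem hXn (hES (E.inv_mem hy)) ha
    have e1 : (1 * y * 1⁻¹)⁻¹ * (a * y * a⁻¹) = (y⁻¹ * a * y⁻¹⁻¹) * a⁻¹ := by group
    rw [e1]
    exact X.mul_mem h1 (X.inv_mem ha)
  have hγ2 : (⟨γ, hγA⟩ : F.autGroup E) ∈ D₂ := by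
    refine ⟨a * b, habE, fun y hy => ?_⟩
    show _ * afn γ y ∈ P
    rw [hγ y hy]
    have h1 := norm_conj_mem hPn (hES (E.inv_mem hy)) (P.inv_mem hb)
    have h2 := P.mul_mem hb h1
    have h3 := norm_conj_mem hPn haS h2
    have e1 : (a * b * y * (a * b)⁻¹)⁻¹ * (a * y * a⁻¹) = a * (b * (y⁻¹ * b⁻¹ * y⁻¹⁻¹)) * a⁻¹ := by group
    rw [e1]
    exact h3
  have hγi : γ ∈ Inn E := hr ⟨⟨γ, hγA⟩, hDc ⟨hγ1, hγ2⟩, rfl⟩
  obtain ⟨e, he⟩ := hγi
  have hee : ∀ y ∈ E, a * y * a⁻¹ = (e : Ω) * y * (e : Ω)⁻¹ := by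
    intro y hy
    rw [← hγ y hy, ← he]
    rw [afn_of_mem _ hy]
    rfl
  have h6 : (e : Ω)⁻¹ * a ∈ centralizerIn S E := by
    refine mem_centralizerIn.2 ⟨S.mul_mem (S.inv_mem (hES e.2)) haS, fun y hy => ?_⟩
    have h7 := hee y hy
    have e2 : y * ((e : Ω)⁻¹ * a) = (e : Ω)⁻¹ * ((e : Ω) * y * (e : Ω)⁻¹) * a := by group
    rw [e2, ← h7]
    group
  have h7 := E.mul_mem e.2 (hc h6)
  simpa using h7

/-- The decomposition lemma. -/
theorem decomp [Finite S] {p : ℕ} [hp : Fact p.Prime] (hS : IsPGroup p S) {E X P : Subgroup Ω}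
    (hES : E ≤ S) (hc : centralizerIn S E ≤ E)
    (hr : (pCore p (F.autGroup E)).map (F.autGroup E).subtype ≤ Inn E)
    (hX : F.StronglyClosed X) (hP : F.StronglyClosed P) (hXP : X ⊓ P = ⊥) {z : Ω} (hzE : z ∈ E)
    (hz : z ∈ X ⊔ P) : z ∈ (E ⊓ X) ⊔ (E ⊓ P) := by
  haveI : Finite E := finite_of_le hES
  have hXn := sc_norm hX
  have hPn := sc_norm hP
  haveI hA : (X.subgroupOf E).Normal := ⟨fun n hn g => Subgroup.mem_subgroupOf.2
    (norm_conj_mem hXn (hES g.2) (Subgroup.mem_subgroupOf.1 hn))⟩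
  haveI hB : (P.subgroupOf E).Normal := ⟨fun n hn g => Subgroup.mem_subgroupOf.2
    (norm_conj_mem hPn (hES g.2) (Subgroup.mem_subgroupOf.1 hn))⟩
  have hYn : ∀ s ∈ S, s ∈ Subgroup.normalizer ((X ⊔ P : Subgroup Ω) : Set Ω) := by
    intro s hs
    rw [Subgroup.mem_normalizer_iff_map_conj_eq] at *
    rw [Subgroup.map_sup, (Subgroup.mem_normalizer_iff_map_conj_eq).1 (hXn hs),
      (Subgroup.mem_normalizer_iff_map_conj_eq).1 (hPn hs)]
  haveI hW : ((X ⊔ P).subgroupOf E).Normal := ⟨fun n hn g => Subgroup.mem_subgroupOf.2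
    (norm_conj_mem (fun s hs => hYn s hs) (hES g.2) (Subgroup.mem_subgroupOf.1 hn))⟩
  have hcomm : ∀ a ∈ X, ∀ b ∈ P, a * b = b * a := by
    intro a ha b hb
    have h1 : a * b * a⁻¹ * b⁻¹ ∈ X ⊓ P := by
      refine ⟨?_, ?_⟩
      · have h2 := norm_conj_mem hXn (hP.1 hb) (X.inv_mem ha)
        have e : a * b * a⁻¹ * b⁻¹ = a * (b * a⁻¹ * b⁻¹) := by group
        rw [e]
        exact X.mul_mem ha h2
      · have h2 := norm_conj_mem hPn (hX.1 ha) hb
        exact P.mul_mem h2 (P.inv_mem hb)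
    rw [hXP, Subgroup.mem_bot] at h1
    have e : a * b = (a * b * a⁻¹ * b⁻¹) * (b * a) := by group
    rw [e, h1, one_mul]
  by_contra hcon
  have hne : ¬ (X ⊔ P).subgroupOf E ≤ X.subgroupOf E ⊔ P.subgroupOf E := by
    intro hle
    have h1 := hle (Subgroup.mem_subgroupOf.2 hz : (⟨z, hzE⟩ : E) ∈ (X ⊔ P).subgroupOf E)
    apply hcon
    have h2 : ∀ w ∈ X.subgroupOf E ⊔ P.subgroupOf E, (w : Ω) ∈ (E ⊓ X) ⊔ (E ⊓ P) := by
      intro w hw
      have h3 : X.subgroupOf E ⊔ P.subgroupOf E ≤ ((E ⊓ X) ⊔ (E ⊓ P)).subgroupOf E := by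
        refine sup_le (fun y hy => Subgroup.mem_subgroupOf.2 (Subgroup.mem_sup_left ⟨y.2, Subgroup.mem_subgroupOf.1 hy⟩))
          (fun y hy => Subgroup.mem_subgroupOf.2 (Subgroup.mem_sup_right ⟨y.2, Subgroup.mem_subgroupOf.1 hy⟩))
      exact Subgroup.mem_subgroupOf.1 (h3 hw)
    exact h2 _ h1
  obtain ⟨w, hwW, hwM, hwc⟩ := Cfsg.Agent.Lib.PNormalEA.exists_central_mod (hS.to_le hES) _ _ hne
  obtain ⟨a, ha, b, hb, hab⟩ := mem_sup_mul (hX.1.trans hPn) (Subgroup.mem_subgroupOf.1 hwW)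
  -- `a` normalizes `E`
  have haE : ∀ r ∈ E, r * a * r⁻¹ * a⁻¹ ∈ E := by
    intro r hr
    have h1 := hwc ⟨r, hr⟩
    obtain ⟨a₀, ha₀, b₀, hb₀, h0⟩ := mem_sup_mul (le_of_le_of_eq le_top (Subgroup.normalizer_eq_top_iff.2 hB).symm) h1
    have h0' : r * (w : Ω) * r⁻¹ * (w : Ω)⁻¹ = (a₀ : Ω) * (b₀ : Ω) := congrArg Subtype.val h0
    have ha₀X : (a₀ : Ω) ∈ X := Subgroup.mem_subgroupOf.1 ha₀
    have hb₀P : (b₀ : Ω) ∈ P := Subgroup.mem_subgroupOf.1 hb₀
    have hrS := hES hr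
    have ha' : r * a * r⁻¹ * a⁻¹ ∈ X := X.mul_mem (norm_conj_mem hXn hrS ha) (X.inv_mem ha)
    have hb' : r * b * r⁻¹ * b⁻¹ ∈ P := P.mul_mem (norm_conj_mem hPn hrS hb) (P.inv_mem hb)
    have e1 : r * (w : Ω) * r⁻¹ * (w : Ω)⁻¹ = (r * a * r⁻¹ * a⁻¹) * (r * b * r⁻¹ * b⁻¹) := by
      have h2 : (r * b * r⁻¹ * b⁻¹) * a⁻¹ = a⁻¹ * (r * b * r⁻¹ * b⁻¹) := by
        have := hcomm a⁻¹ (X.inv_mem ha) _ hb'
        exact this.symm
      rw [hab]
      calc r * (a * b) * r⁻¹ * (a * b)⁻¹ = r * a * r⁻¹ * ((r * b * r⁻¹ * b⁻¹) * a⁻¹) := by group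
        _ = r * a * r⁻¹ * (a⁻¹ * (r * b * r⁻¹ * b⁻¹)) := by rw [h2]
        _ = _ := by group
    rw [e1] at h0'
    have h3 : (a₀ : Ω)⁻¹ * (r * a * r⁻¹ * a⁻¹) ∈ X ⊓ P := by
      refine ⟨X.mul_mem (X.inv_mem ha₀X) ha', ?_⟩
      have e2 : (a₀ : Ω)⁻¹ * (r * a * r⁻¹ * a⁻¹) = (b₀ : Ω) * (r * b * r⁻¹ * b⁻¹)⁻¹ := by
        calc (a₀ : Ω)⁻¹ * (r * a * r⁻¹ * a⁻¹)
            = (a₀ : Ω)⁻¹ * ((r * a * r⁻¹ * a⁻¹) * (r * b * r⁻¹ * b⁻¹)) * (r * b * r⁻¹ * b⁻¹)⁻¹ := by group
          _ = (a₀ : Ω)⁻¹ * ((a₀ : Ω) * (b₀ : Ω)) * (r * b * r⁻¹ * b⁻¹)⁻¹ := by rw [h0']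
          _ = _ := by group
      rw [e2]
      exact P.mul_mem hb₀P (P.inv_mem hb')
    rw [hXP, Subgroup.mem_bot] at h3
    have h4 : r * a * r⁻¹ * a⁻¹ = (a₀ : Ω) := by
      have := mul_eq_one_iff_eq_inv.1 h3
      rw [← inv_inj, ← this]
    rw [h4]
    exact a₀.2
  have haN : a ∈ Subgroup.normalizer (E : Set Ω) := by
    refine mem_normalizer_of_conj_mem fun y hy => ?_
    have h1 := haE y⁻¹ (E.inv_mem hy)
    have h2 := E.mul_mem hy h1
    have e : y * (y⁻¹ * a * y⁻¹⁻¹ * a⁻¹) = a * y * a⁻¹ := by group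
    rwa [e] at h2
  have haEE := mem_of_prod_mem hS hES hc hr hX hP hXP ha hb haN (hcomm a ha b hb) (by rw [← hab]; exact w.2)
  apply hwM
  have hb' : b ∈ E := by
    have h1 := E.mul_mem (E.inv_mem haEE) w.2
    rw [hab] at h1
    simpa using h1
  have e : w = ⟨a, haEE⟩ * ⟨b, hb'⟩ := Subtype.ext hab
  rw [e]
  exact Subgroup.mul_mem _ (Subgroup.mem_sup_left (Subgroup.mem_subgroupOf.2 ha))
    (Subgroup.mem_sup_right (Subgroup.mem_subgroupOf.2 hb))

end Decomp

section Quot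

variable {Ω : Type u} [Group Ω] {S : Subgroup Ω} {F : FusionSystem S} {Z : Subgroup Ω}
  {Ω' : Type u} [Group Ω'] {S' : Subgroup Ω'} {θ : S →* Ω'} {F' : FusionSystem S'}
  {p : ℕ} [hp : Fact p.Prime]

lemma pre_mono {A B : Subgroup Ω'} (h : A ≤ B) : preimageAlong θ A ≤ preimageAlong θ B := by
  intro x hx
  obtain ⟨h1, h2⟩ := mem_pre.1 hx
  exact mem_pre.2 ⟨h1, h h2⟩

/-- Nontrivial `p'`-automorphisms normalizing `Q'` lift. -/
theorem hasN_lift [Finite S] [Finite S'] (hfac : F.IsFactorSystem Z θ F') (hsc : F.StronglyClosed Z) {Q' : Subgroup Ω'}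
    (hQ' : Q' ≤ S') (h : HasN F' p Q') : HasN F p (preimageAlong θ Q') := by
  obtain ⟨X', χ', hX⟩ := h
  have hX'S' : X' ≤ S' := hX.maps.le
  obtain ⟨f, hf, hrel⟩ := maps_lift hfac hX.maps
  have hXS : preimageAlong θ X' ≤ S := preimageAlong_le θ X'
  haveI := finite_of_le hXS
  haveI := finite_mulAut hXS
  have hfX : ∀ x ∈ preimageAlong θ X', f x ∈ preimageAlong θ X' := fun x hx =>
    mem_pre.2 ⟨hf.mem hx, by rw [hrel x hx]; exact afn_mem χ' (mem_pre.1 hx).2⟩
  have himg : img f (preimageAlong θ X') = preimageAlong θ X' := img_eq_of_card hf hXS hXS hfX le_rfl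
  let γ := hf.toAut himg
  have hγ : ∀ x ∈ preimageAlong θ X', afn γ x = f x := fun x hx => hf.afn_toAut himg hx
  have hγm : γ ∈ F.autGroup (preimageAlong θ X') := hf.toAut_mem himg
  have hpowrel : ∀ n : ℕ, ∀ x ∈ preimageAlong θ X', qf θ (afn (γ ^ n) x) = afn (χ' ^ n) (qf θ x) := by
    intro n
    induction n with
    | zero =>
      intro x hx
      rw [pow_zero, pow_zero, afn_one hx, afn_one (mem_pre.1 hx).2]
    | succ n ih =>
      intro x hx
      rw [pow_succ' γ, pow_succ' χ', afn_mul _ _ hx, afn_mul _ _ (mem_pre.1 hx).2, hγ _ (afn_mem _ hx),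
        hrel _ (afn_mem _ hx), ih x hx]
  have hrep : ∀ y ∈ X', ∃ s ∈ preimageAlong θ X', qf θ s = y := by
    intro y hy
    obtain ⟨s, hs, rfl⟩ := exists_qf hfac (hX'S' hy)
    exact ⟨s, mem_pre.2 ⟨hs, hy⟩, rfl⟩
  have hord : orderOf χ' ∣ orderOf γ := by
    apply orderOf_dvd_of_pow_eq_one
    apply afn_ext
    intro y hy
    obtain ⟨s, hs, rfl⟩ := hrep y hy
    rw [← hpowrel _ s hs, pow_orderOf_eq_one, afn_one hs, afn_one hy]
  haveI : Finite ↥X' := finite_of_le (hX'S'.trans le_rfl)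
  obtain ⟨m0, hm1, hm2⟩ := exists_pprime_pow p γ (orderOf_pos γ) hord hX.cop
  have hχ' : χ' ^ m0 = χ' := by
    have : χ' ^ m0 = χ' ^ 1 := pow_eq_pow_iff_modEq.2 hm2
    rwa [pow_one] at this
  have hγmaps : Maps F (preimageAlong θ X') (afn γ) := (mem_autGroup_iff hXS).1 hγm
  refine ⟨preimageAlong θ X', γ ^ m0, pre_mono hX.le, ?_, maps_pow hγmaps m0, ?_, hm1, ?_⟩
  · rw [norm_pre hfac hQ']
    exact pre_mono hX.le_norm
  · intro h1
    apply hX.ne
    apply afn_ext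
    intro y hy
    obtain ⟨s, hs, rfl⟩ := hrep y hy
    rw [← hχ', ← hpowrel _ s hs, h1, afn_one hs, afn_one hy]
  · intro x hx
    have hx' : x ∈ preimageAlong θ X' := pre_mono hX.le hx
    refine mem_pre.2 ⟨hXS (afn_mem _ hx'), ?_⟩
    rw [hpowrel _ x hx', hχ']
    exact hX.pres _ (mem_pre.1 hx).2

lemma image_sup {H P : Subgroup Ω} (hH : H ≤ S) (hPn : S ≤ Subgroup.normalizer (P : Set Ω)) :
    imageAlong θ H ⊔ imageAlong θ P = imageAlong θ (H ⊔ P) := by
  apply le_antisymm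
  · refine sup_le ?_ ?_
    · rintro _ ⟨s, hs, rfl⟩
      exact ⟨s, Subgroup.mem_subgroupOf.2 (Subgroup.mem_sup_left (Subgroup.mem_subgroupOf.1 hs)), rfl⟩
    · rintro _ ⟨s, hs, rfl⟩
      exact ⟨s, Subgroup.mem_subgroupOf.2 (Subgroup.mem_sup_right (Subgroup.mem_subgroupOf.1 hs)), rfl⟩
  · rintro _ ⟨s, hs, rfl⟩
    obtain ⟨a, ha, c, hc, hac⟩ := mem_sup_mul (hH.trans hPn) (Subgroup.mem_subgroupOf.1 hs)
    have hcS : c ∈ S := by
      have := S.mul_mem (S.inv_mem (hH ha)) s.2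
      rw [hac] at this
      simpa using this
    have e : s = ⟨a, hH ha⟩ * ⟨c, hcS⟩ := Subtype.ext hac
    rw [e, map_mul]
    exact Subgroup.mul_mem _ (Subgroup.mem_sup_left ⟨⟨a, hH ha⟩, Subgroup.mem_subgroupOf.2 ha, rfl⟩)
      (Subgroup.mem_sup_right ⟨⟨c, hcS⟩, Subgroup.mem_subgroupOf.2 hc, rfl⟩)

lemma image_inf {H P : Subgroup Ω} (hk : ∀ s : S, θ s = 1 ↔ (s : Ω) ∈ Z) (hZH : Z ≤ H) :
    imageAlong θ H ⊓ imageAlong θ P = imageAlong θ (H ⊓ P) := by
  apply le_antisymm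
  · rintro y ⟨⟨s, hs, rfl⟩, ⟨t, ht, hst⟩⟩
    have h1 : θ (s⁻¹ * t) = 1 := by
      rw [map_mul, map_inv]
      have : θ t = θ s := hst
      rw [this, inv_mul_cancel]
    have h2 := hZH ((hk _).1 h1)
    have h3 : (t : Ω) ∈ H := by
      have h4 := H.mul_mem (Subgroup.mem_subgroupOf.1 hs) h2
      simpa using h4
    exact ⟨t, Subgroup.mem_subgroupOf.2 ⟨h3, Subgroup.mem_subgroupOf.1 ht⟩, hst⟩
  · rintro _ ⟨s, hs, rfl⟩
    have hs' := Subgroup.mem_subgroupOf.1 hs
    exact ⟨⟨s, Subgroup.mem_subgroupOf.2 hs'.1, rfl⟩, ⟨s, Subgroup.mem_subgroupOf.2 hs'.2, rfl⟩⟩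

/-- Weak embedding passes to images. -/
theorem we_image [Finite S] (hS : IsPGroup p S) (hF : F.IsSaturated p) (hm : F.IsSurjectiveMorphism F' θ)
    (hsc : F.StronglyClosed Z) (hk : ∀ s : S, θ s = 1 ↔ (s : Ω) ∈ Z) {H : Subgroup Ω} (hZH : Z ≤ H) (hHS : H ≤ S)
    (hWE : WE F H) : WE F' (imageAlong θ H) := by
  obtain ⟨P, hP, hHP, hI⟩ := hWE
  refine ⟨imageAlong θ P, Cfsg.Agent.Lib.FusionSolvable.stronglyClosed_image hS hF hm hsc hk hP, ?_, ?_⟩
  · rw [image_sup hHS (sc_norm hP)]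
    exact Cfsg.Agent.Lib.FusionSolvable.stronglyClosed_image hS hF hm hsc hk hHP
  · rw [image_inf hk hZH]
    exact Cfsg.Agent.Lib.FusionSolvable.stronglyClosed_image hS hF hm hsc hk hI

end Quot

/-- The statement proved by induction. -/
def Goal (p n : ℕ) : Prop :=
  ∀ (Ω : Type u) [Group Ω] (S : Subgroup Ω) [Finite S] (F : FusionSystem S) (m : ℕ), IsPGroup p S → F.IsSaturated p →
    0 < m → p ^ m < Nat.card S → (∀ Q : Subgroup Ω, Q ≤ S → Nat.card Q = p ^ m → WE F Q) →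
    (∀ Q : Subgroup Ω, Q ≤ S → Nat.card Q = p ^ m → ¬ HasN F p Q) → Nat.card S = n → ¬ HasAut F p

section Step

variable {Ω : Type u} [Group Ω] {S : Subgroup Ω} {F : FusionSystem S} {p : ℕ} [hp : Fact p.Prime]

/-- The quotient step. -/
theorem quot_step {n : ℕ} (IH : ∀ k < n, Goal.{u} p k) [Finite S] (hS : IsPGroup p S) (hF : F.IsSaturated p) {m : ℕ}
    (hmS : p ^ m < Nat.card S) (hW : ∀ Q : Subgroup Ω, Q ≤ S → Nat.card Q = p ^ m → WE F Q)
    (hN : ∀ Q : Subgroup Ω, Q ≤ S → Nat.card Q = p ^ m → ¬ HasN F p Q) (hn : Nat.card S = n) {X : Subgroup Ω}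
    (hsc : F.StronglyClosed X) (hX1 : X ≠ ⊥) (hXc : Nat.card X < p ^ m) : IMod F X := by
  have hp' := hp.out
  haveI : Finite X := finite_of_le hsc.1
  have hNE := sc_norm hsc
  let K₀ : Subgroup S := X.subgroupOf S
  haveI hK₀n : K₀.Normal := ⟨fun n hn g => Subgroup.mem_subgroupOf.2
    (norm_conj_mem hNE g.2 (Subgroup.mem_subgroupOf.1 hn))⟩
  let θ : S →* S ⧸ K₀ := QuotientGroup.mk' K₀
  have hk : ∀ s : S, θ s = 1 ↔ (s : Ω) ∈ X := fun s => by
    rw [← Subgroup.mem_subgroupOf]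
    exact QuotientGroup.eq_one_iff s
  have hr' : θ.range = ⊤ := MonoidHom.range_eq_top.2 (QuotientGroup.mk'_surjective K₀)
  obtain ⟨F', hfac⟩ := exists_factorSystem F hsc hk hr'
  have hS' : IsPGroup p ↥(⊤ : Subgroup (S ⧸ K₀)) := (hS.to_quotient K₀).to_subgroup ⊤
  have hmor := isSurjectiveMorphism_of_isFactorSystem hS hF hsc hfac
  have hkerZ : kerAlong θ = X := by
    ext z
    constructor
    · rintro ⟨s, hs, rfl⟩
      exact (hfac.2.1 s).1 hs
    · intro hz
      exact ⟨⟨z, hfac.1 hz⟩, (hfac.2.1 _).2 hz, rfl⟩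
  have hF' : F'.IsSaturated p := isSaturated_of_surjective hS hF hmor (by rw [hkerZ]; exact hsc)
  -- the orders
  obtain ⟨j, hj⟩ := IsPGroup.iff_card.1 (hS.to_le hsc.1)
  have hjm : j < m := (Nat.pow_lt_pow_iff_right hp'.one_lt).1 (by rw [← hj]; exact hXc)
  have hj0 : 0 < j := by
    rcases Nat.eq_zero_or_pos j with h0 | h0
    · exfalso
      apply hX1
      rw [h0, pow_zero] at hj
      exact (Subgroup.eq_bot_iff_card X).2 hj
    · exact h0
  have hcS : Nat.card S = Nat.card X * Nat.card ↥(⊤ : Subgroup (S ⧸ K₀)) := by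
    have h1 := card_pre hfac (A' := ⊤) le_rfl
    have h2 : preimageAlong θ ⊤ = S := by
      apply le_antisymm (preimageAlong_le θ _)
      intro s hs
      exact mem_pre.2 ⟨hs, Subgroup.mem_top _⟩
    rw [h2] at h1
    exact h1
  have hpow : p ^ m = p ^ j * p ^ (m - j) := by
    rw [← pow_add]
    congr 1
    omega
  have hm' : p ^ (m - j) < Nat.card ↥(⊤ : Subgroup (S ⧸ K₀)) := by
    rw [hcS, hj, hpow] at hmS
    exact Nat.lt_of_mul_lt_mul_left hmS
  have hlt : Nat.card ↥(⊤ : Subgroup (S ⧸ K₀)) < n := by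
    rw [← hn, hcS, hj]
    have h1 : 0 < Nat.card ↥(⊤ : Subgroup (S ⧸ K₀)) := Nat.card_pos
    have h2 : 1 < p ^ j := Nat.one_lt_pow hj0.ne' hp'.one_lt
    nlinarith
  have hW' : ∀ Q : Subgroup (S ⧸ K₀), Q ≤ ⊤ → Nat.card Q = p ^ (m - j) → WE F' Q := by
    intro Q hQ hQc
    have hc := card_pre hfac hQ
    rw [hQc, hj, ← hpow] at hc
    have h1 := hW _ (preimageAlong_le θ Q) hc
    have h2 := we_image hS hF hmor hsc hk (Z_le_pre hfac Q) (preimageAlong_le θ Q) h1
    rwa [imageAlong_preimageAlong hfac.2.2.1 hQ] at h2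
  have hN' : ∀ Q : Subgroup (S ⧸ K₀), Q ≤ ⊤ → Nat.card Q = p ^ (m - j) → ¬ HasN F' p Q := by
    intro Q hQ hQc hh
    have hc := card_pre hfac hQ
    rw [hQc, hj, ← hpow] at hc
    exact hN _ (preimageAlong_le θ Q) hc (hasN_lift hfac hsc hQ hh)
  have hnA := IH _ hlt (S ⧸ K₀) ⊤ F' (m - j) hS' hF' (by omega) hm' hW' hN' rfl
  have hinner : ∀ P' : Subgroup (S ⧸ K₀), F'.Hom P' = (innerFusionSystem ⊤).Hom P' := by
    by_contra hcon
    exact hnA (hasAut_of_not_inner hS' hF' hcon)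
  -- pull back
  intro P f hf
  obtain ⟨φ, hφ, he⟩ := hf
  obtain ⟨φ', hφ', hP, hv, hP', hind⟩ := hmor.1.2 P φ hφ
  rw [hinner] at hφ'
  obtain ⟨-, g, -, hg⟩ := hφ'
  obtain ⟨s, rfl⟩ := QuotientGroup.mk'_surjective K₀ g
  refine ⟨s, s.2, fun x hx => ?_⟩
  have h1 := hind ⟨x, hx⟩
  rw [hg] at h1
  rw [← he ⟨x, hx⟩]
  have h2 : θ ((s * ⟨x, hP hx⟩ * s⁻¹)⁻¹ * ⟨φ ⟨x, hx⟩, hv _⟩) = 1 := by
    rw [map_mul, map_inv, map_mul, map_mul, map_inv, ← h1]
    exact inv_mul_cancel _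
  exact (hk _).1 h2

lemma norm_bot : S ≤ Subgroup.normalizer ((⊥ : Subgroup Ω) : Set Ω) := by
  intro s _
  rw [Subgroup.mem_normalizer_iff]
  intro h
  simp only [SetLike.mem_coe, Subgroup.mem_bot]
  constructor
  · rintro rfl
    simp
  · intro h1
    have : s * h * s⁻¹ * s = 1 * s := by rw [h1]
    simpa using this

/-- The product formula. -/
lemma card_sup_inf {H N : Subgroup Ω} (hLE : H ≤ Subgroup.normalizer (N : Set Ω)) :
    Nat.card (H ⊔ N : Subgroup Ω) * Nat.card (H ⊓ N : Subgroup Ω) = Nat.card H * Nat.card N := by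
  haveI := Subgroup.normal_subgroupOf_of_le_normalizer hLE
  haveI := Subgroup.normal_subgroupOf_sup_of_le_normalizer hLE
  have e : (N.subgroupOf H).index = (N.subgroupOf (H ⊔ N)).index :=
    Nat.card_congr (QuotientGroup.quotientInfEquivProdNormalizerQuotient H N hLE).toEquiv
  have h1 := Subgroup.index_mul_card (N.subgroupOf H)
  have h2 := Subgroup.index_mul_card (N.subgroupOf (H ⊔ N))
  have h4 : Nat.card (N.subgroupOf (H ⊔ N)) = Nat.card N :=
    Nat.card_congr (Subgroup.subgroupOfEquivOfLe (le_sup_right : N ≤ H ⊔ N)).toEquiv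
  rw [h4] at h2
  have h3 : Nat.card (N.subgroupOf H) = Nat.card (H ⊓ N : Subgroup Ω) := by
    rw [← Subgroup.inf_subgroupOf_left N H, inf_comm]
    exact Nat.card_congr (Subgroup.subgroupOfEquivOfLe (inf_le_right : N ⊓ H ≤ H)).toEquiv
  rw [h3] at h1
  rw [← h2, ← h1, ← e]
  ring

lemma isPGroup_of_hyp_bot [Finite S] {Q : Subgroup Ω} (hQ : Q ≤ S) (h : F.hyperfocalSubgroup p = ⊥) :
    IsPGroup p (F.autGroup Q) := by
  haveI := finite_mulAut hQ
  intro α
  obtain ⟨a, b, hb, hab⟩ := Nat.exists_eq_pow_mul_and_not_dvd (orderOf_pos α).ne' p hp.out.ne_one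
  refine ⟨a, ?_⟩
  have hcb : b.Coprime p := ((Nat.Prime.coprime_iff_not_dvd hp.out).2 hb).symm
  have h1 : (α ^ p ^ a) ^ b = 1 := by
    rw [← pow_mul, ← hab, pow_orderOf_eq_one]
  have h2 : (orderOf (α ^ p ^ a)).Coprime p := Nat.Coprime.coprime_dvd_left (orderOf_dvd_of_pow_eq_one h1) hcb
  have h3 : α ^ p ^ a ∈ pResidual p (F.autGroup Q) := Subgroup.subset_closure h2
  apply Subtype.ext
  apply afn_ext
  intro x hx
  have h4 := Cfsg.Agent.Lib.FusionHyperfocal.gen_mem_hyperfocal hQ h3 ⟨x, hx⟩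
  rw [h, Subgroup.mem_bot] at h4
  show afn ((α ^ p ^ a : F.autGroup Q) : MulAut Q) x = afn (1 : MulAut Q) x
  rw [afn_of_mem _ hx, afn_one hx]
  have h5 := mul_eq_one_iff_eq_inv.1 h4
  rw [← inv_inj, ← h5]

lemma not_hasAut_of_imod_bot [Finite S] (hS : IsPGroup p S) (hI : IMod F ⊥) : ¬ HasAut F p := by
  rintro ⟨X, χ, hm, hne, hc⟩
  obtain ⟨s, hs, hse⟩ := hI X _ hm
  obtain ⟨j, hj⟩ := (hS ⟨s, hs⟩)
  have hsj : s ^ (p ^ j) = 1 := congrArg Subtype.val hj
  have hpow := imod_pow norm_bot hs hse (p ^ j)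
  rw [hsj] at hpow
  have h1 : χ ^ p ^ j = 1 := by
    apply afn_ext
    intro x hx
    have h2 := hpow x hx
    rw [Subgroup.mem_bot] at h2
    rw [afn_one hx]
    have h5 := mul_eq_one_iff_eq_inv.1 h2
    exact (by simpa using h5 : x = afn (χ ^ p ^ j) x).symm
  have h4 : (orderOf χ).Coprime (p ^ j) := Nat.Coprime.pow_right j hc
  have h2 : orderOf χ = 1 := Nat.eq_one_of_dvd_coprimes h4 (dvd_refl _) (orderOf_dvd_of_pow_eq_one h1)
  exact hne (orderOf_eq_one_iff.1 h2)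

/-- Tate's theorem, in the form we need. -/
theorem hyp_bot_of_le_frattini [Finite S] (hS : IsPGroup p S) (hF : F.IsSaturated p)
    (h : F.hyperfocalSubgroup p ≤ (frattini ↥S).map S.subtype) : F.hyperfocalSubgroup p = ⊥ := by
  have hHF : (innerFusionSystem S).IsSubsystemOf F := fun P => Cfsg.Agent.Lib.FusionAlperin.inner_le F P
  have hH := Cfsg.Agent.Lib.FusionNormalCrit.inner_isSaturated hS
  have hfoc : (innerFusionSystem S).focalSubgroup ≤ F.focalSubgroup := by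
    refine Subgroup.closure_mono ?_
    rintro _ ⟨P, φ, x, hφ, rfl⟩
    exact ⟨P, φ, x, hHF P hφ, rfl⟩
  have hfr : (frattini ↥S).map S.subtype ⊔ F.focalSubgroup =
      (frattini ↥S).map S.subtype ⊔ (innerFusionSystem S).focalSubgroup := by
    apply le_antisymm
    · refine sup_le le_sup_left ?_
      rw [Cfsg.Agent.Lib.FusionFocal.focal_eq hS hF]
      exact sup_le (h.trans le_sup_left)
        (Cfsg.Agent.Lib.FusionTrfApps.commutator_le_focal.trans le_sup_right)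
    · exact sup_le le_sup_left (hfoc.trans le_sup_right)
  have h1 := Cfsg.Agent.Lib.FusionSplit.focal_eq_of_frattini hS hF hHF hfr
  have h2 := Cfsg.Agent.Lib.FusionSplit.hyp_eq_of_focal hS hF hH hHF h1
  rw [h2, eq_bot_iff]
  refine hyp_le_of_imod hS norm_bot ?_
  rintro P f ⟨φ, ⟨-, g, hg, h3⟩, he⟩
  refine ⟨g, hg, fun x hx => ?_⟩
  rw [← he ⟨x, hx⟩, h3 ⟨x, hx⟩, inv_mul_cancel]
  exact Subgroup.one_mem _

/-- A central strongly closed subgroup modulo which maps are inner leaves no essential subgroups. -/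
theorem not_essential_of_central [Finite S] (hS : IsPGroup p S) {X E : Subgroup Ω} (hX : F.StronglyClosed X)
    (hXc : ∀ x ∈ X, ∀ s ∈ S, s * x * s⁻¹ = x) (hI : IMod F X) (hE : F.IsEssential p E) (hES : E ≠ S) : False := by
  have hES' : E ≤ S := hE.1.1
  have hc : centralizerIn S E ≤ E := IsCentric_self hE.1
  have hr := radical_of_essential hS hE
  haveI := finite_mulAut hES'
  haveI : Finite E := finite_of_le hES'
  haveI : Finite X := finite_of_le hX.1
  have hXn := sc_norm hX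
  have hXE : X ≤ E := by
    intro x hx
    refine hc (mem_centralizerIn.2 ⟨hX.1 hx, fun y hy => ?_⟩)
    have h1 := hXc x hx y (hES' hy)
    calc y * x = y * x * y⁻¹ * y := by group
      _ = x * y := by rw [h1]
  let A₀ : Subgroup (F.autGroup E) :=
    { carrier := {α | ∀ z ∈ X, afn (α : MulAut E) z = z}
      mul_mem' := by
        intro a b ha hb z hz
        show afn ((a : MulAut E) * (b : MulAut E)) z = z
        rw [afn_mul _ _ (hXE hz), hb z hz, ha z hz]
      one_mem' := fun z hz => afn_one (hXE hz)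
      inv_mem' := by
        intro a ha z hz
        show afn ((a : MulAut E)⁻¹) z = z
        have h1 := ha z hz
        have h2 := afn_inv_afn (a : MulAut E) (hXE hz)
        rwa [h1] at h2 }
  have hA₀n : A₀.Normal := by
    constructor
    intro a ha γ z hz
    have e2 : ((γ * a * γ⁻¹ : F.autGroup E) : MulAut E) = (γ : MulAut E) * ((a : MulAut E) * (γ : MulAut E)⁻¹) := by
      simp [mul_assoc]
    rw [e2, afn_mul _ _ (hXE hz), afn_mul _ _ (hXE hz)]
    have hγi : Maps F E (afn ((γ : MulAut E)⁻¹)) := (mem_autGroup_iff hES').1 (Subgroup.inv_mem _ γ.2)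
    have h1 : afn ((γ : MulAut E)⁻¹) z ∈ X := sc_mem_of_maps hX hγi (hXE hz) hz
    rw [ha _ h1, afn_afn_inv _ (hXE hz)]
  have hA₀p : IsPGroup p A₀ := by
    rintro ⟨α, hα⟩
    obtain ⟨s, hs, hse⟩ := hI E _ ((mem_autGroup_iff hES').1 α.2)
    obtain ⟨j, hj⟩ := (hS ⟨s, hs⟩)
    have hsj : s ^ (p ^ j) = 1 := congrArg Subtype.val hj
    have hpow := imod_pow hXn hs hse (p ^ j)
    rw [hsj] at hpow
    obtain ⟨a, ha⟩ := IsPGroup.iff_card.1 (hS.to_le hX.1)
    have hfix : ∀ n : ℕ, ∀ z ∈ X, afn ((α : MulAut E) ^ n) z = z := by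
      intro n
      induction n with
      | zero =>
        intro z hz
        rw [pow_zero, afn_one (hXE hz)]
      | succ n ih =>
        intro z hz
        rw [pow_succ', afn_mul _ _ (hXE hz), ih z hz]
        exact hα z hz
    set β := (α : MulAut E) ^ p ^ j with hβ
    have hβm : Maps F E (afn β) := maps_pow ((mem_autGroup_iff hES').1 α.2) _
    have hu : ∀ y ∈ E, y⁻¹ * afn β y ∈ X := by
      intro y hy
      have := hpow y hy
      simpa using this
    have hpow2 : ∀ n : ℕ, ∀ y ∈ E, afn (β ^ n) y = y * (y⁻¹ * afn β y) ^ n := by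
      intro n
      induction n with
      | zero =>
        intro y hy
        rw [pow_zero, afn_one hy]
        simp
      | succ n ih =>
        intro y hy
        rw [pow_succ', afn_mul _ _ hy, ih y hy]
        have hu' := hu y hy
        rw [hβm.map_mul hy (E.pow_mem (hXE hu') n), hβm.map_pow (hXE hu') n]
        have h3 : afn β (y⁻¹ * afn β y) = y⁻¹ * afn β y := hfix _ _ hu'
        rw [h3, pow_succ']
        generalize (y⁻¹ * afn β y) ^ n = v
        group
    refine ⟨j + a, Subtype.ext (Subtype.ext ?_)⟩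
    show (α : MulAut E) ^ p ^ (j + a) = 1
    rw [pow_add, pow_mul, ← hβ]
    apply afn_ext
    intro y hy
    rw [hpow2 _ y hy, afn_one hy]
    have h4 : (⟨y⁻¹ * afn β y, hu y hy⟩ : X) ^ Nat.card X = 1 := pow_card_eq_one'
    rw [ha] at h4
    have h5 : (y⁻¹ * afn β y) ^ p ^ a = 1 := congrArg Subtype.val h4
    rw [h5, mul_one]
  have hA₀c : A₀ ≤ pCore p (F.autGroup E) := Cfsg.Agent.Lib.PCore.le_pCore hA₀n hA₀p
  have hlt := Cfsg.Agent.Lib.FusionAlperin.lt_normalizerIn hS (lt_of_le_of_ne hES' hES)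
  obtain ⟨t, ht, htE⟩ := SetLike.exists_of_lt hlt
  apply htE
  let γ : MulAut E := conjN S E ⟨t, ht⟩
  have hγ : ∀ y ∈ E, afn γ y = t * y * t⁻¹ := fun y hy => afn_conjN ⟨t, ht⟩ hy
  have hγA : γ ∈ F.autGroup E := autInducedBy_le_autGroup hES' (by
    rw [← conjN_range]
    exact ⟨_, rfl⟩)
  have hγ1 : (⟨γ, hγA⟩ : F.autGroup E) ∈ A₀ := by
    intro z hz
    show afn γ z = z
    rw [hγ z (hXE hz)]
    exact hXc z hz t ht.1
  have hγi : γ ∈ Inn E := hr.2 ▸ ⟨⟨γ, hγA⟩, hA₀c hγ1, rfl⟩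
  obtain ⟨e, he⟩ := hγi
  have hee : ∀ y ∈ E, t * y * t⁻¹ = (e : Ω) * y * (e : Ω)⁻¹ := by
    intro y hy
    rw [← hγ y hy, ← he]
    rw [afn_of_mem _ hy]
    rfl
  have h6 : (e : Ω)⁻¹ * t ∈ centralizerIn S E := by
    refine mem_centralizerIn.2 ⟨S.mul_mem (S.inv_mem (hES' e.2)) ht.1, fun y hy => ?_⟩
    have h7 := hee y hy
    have e2 : y * ((e : Ω)⁻¹ * t) = (e : Ω)⁻¹ * ((e : Ω) * y * (e : Ω)⁻¹) * t := by group
    rw [e2, ← h7]
    group
  have h7 := E.mul_mem e.2 (hc h6)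
  simpa using h7

/-- The index of a maximal subgroup. -/
lemma card_coatom [Finite S] (hS : IsPGroup p S) {M : Subgroup S} (hM : IsCoatom M) {k : ℕ} (hk : Nat.card S = p ^ (k + 1)) :
    Nat.card M = p ^ k := by
  have hp' := hp.out
  have hMp : IsPGroup p M := hS.to_subgroup M
  obtain ⟨c, hc⟩ := IsPGroup.iff_card.1 hMp
  have hlt : Nat.card M < Nat.card S := Cfsg.Agent.Lib.FusionAlperin.card_lt_of_lt (lt_top_iff_ne_top.2 hM.1) |>.trans_eq Subgroup.card_top
  have hck : c ≤ k := by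
    rw [hc, hk] at hlt
    have := (Nat.pow_lt_pow_iff_right hp'.one_lt).1 hlt
    omega
  have hd : p ^ k ∣ Nat.card S := by
    rw [hk]
    exact pow_dvd_pow p (by omega)
  obtain ⟨H, hH, hMH⟩ := Sylow.exists_subgroup_card_pow_prime_le p hd M hc hck
  rcases eq_or_lt_of_le hMH with h | h
  · rw [h]
    exact hH
  · have h2 := hM.2 _ h
    rw [h2, Subgroup.card_top, hk] at hH
    have := Nat.pow_right_injective hp'.two_le hH
    omega

/-- Essential subgroups meet `X` nontrivially. -/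
lemma inf_ne_bot_of_centric [Finite S] (hS : IsPGroup p S) {E X : Subgroup Ω} (hES : E ≤ S) (hc : centralizerIn S E ≤ E)
    (hX : F.StronglyClosed X) (hXE : ¬ X ≤ E) : E ⊓ X ≠ ⊥ := by
  intro hb
  have hXn := sc_norm hX
  have hYS : E ⊔ X ≤ S := sup_le hES hX.1
  haveI : Finite ↥(E ⊔ X) := finite_of_le hYS
  have hlt : E < E ⊔ X := lt_of_le_of_ne le_sup_left (fun h => hXE (by rw [h]; exact le_sup_right))
  have h1 := Cfsg.Agent.Lib.FusionAlperin.lt_normalizerIn (hS.to_le hYS) hlt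
  obtain ⟨g, hg, hgE⟩ := SetLike.exists_of_lt h1
  obtain ⟨e, he, c, hc', rfl⟩ := mem_sup_mul (hES.trans hXn) hg.1
  have hcN : c ∈ Subgroup.normalizer (E : Set Ω) := by
    have h2 := Subgroup.mul_mem _ (Subgroup.inv_mem _ (Subgroup.le_normalizer he)) hg.2
    simpa using h2
  apply hgE
  refine E.mul_mem he (hc (mem_centralizerIn.2 ⟨hX.1 hc', fun y hy => ?_⟩))
  have h3 : y * c * y⁻¹ * c⁻¹ ∈ E ⊓ X := by
    refine ⟨?_, X.mul_mem (norm_conj_mem hXn (hES hy) hc') (X.inv_mem hc')⟩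
    have h4 := (Subgroup.mem_normalizer_iff.1 hcN y⁻¹).1 (E.inv_mem hy)
    have e1 : y * c * y⁻¹ * c⁻¹ = y * (c * y⁻¹ * c⁻¹) := by group
    rw [e1]
    exact E.mul_mem hy h4
  rw [hb, Subgroup.mem_bot] at h3
  calc y * c = (y * c * y⁻¹ * c⁻¹) * (c * y) := by group
    _ = c * y := by rw [h3, one_mul]

lemma comm_of_inf_bot [Finite S] {X P : Subgroup Ω} (hX : F.StronglyClosed X) (hP : F.StronglyClosed P) (hXP : X ⊓ P = ⊥)
    {a b : Ω} (ha : a ∈ X) (hb : b ∈ P) : a * b = b * a := by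
  have hXn := sc_norm hX
  have hPn := sc_norm hP
  have h1 : a * b * a⁻¹ * b⁻¹ ∈ X ⊓ P := by
    refine ⟨?_, ?_⟩
    · have h2 := norm_conj_mem hXn (hP.1 hb) (X.inv_mem ha)
      have e : a * b * a⁻¹ * b⁻¹ = a * (b * a⁻¹ * b⁻¹) := by group
      rw [e]
      exact X.mul_mem ha h2
    · have h2 := norm_conj_mem hPn (hX.1 ha) hb
      exact P.mul_mem h2 (P.inv_mem hb)
  rw [hXP, Subgroup.mem_bot] at h1
  have e : a * b = (a * b * a⁻¹ * b⁻¹) * (b * a) := by group
  rw [e, h1, one_mul]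

/-- The case `|X| = p ^ m`: all essential subgroups lie in `X`. -/
theorem essential_le [Finite S] (hS : IsPGroup p S) {m : ℕ} (hmS : p ^ m < Nat.card S)
    (hW : ∀ Q : Subgroup Ω, Q ≤ S → Nat.card Q = p ^ m → WE F Q) {X : Subgroup Ω} (hXsc : F.StronglyClosed X)
    (hXmin : ∀ Y, F.StronglyClosed Y → Y ≤ X → Y = ⊥ ∨ Y = X) (hXc : Nat.card X = p ^ m) {E : Subgroup Ω}
    (hE : F.IsEssential p E) (hEc : Nat.card E < p ^ m) : E ≤ X := by
  by_contra hne
  have hES : E ≤ S := hE.1.1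
  have hc : centralizerIn S E ≤ E := IsCentric_self hE.1
  haveI : Finite X := finite_of_le hXsc.1
  haveI : Finite E := finite_of_le hES
  obtain ⟨H, hEH, hHS, hHc⟩ := exists_between hS hES le_rfl hEc.le hmS.le
  haveI : Finite H := finite_of_le hHS
  obtain ⟨P, hP, hHP, hI⟩ := hW H hHS hHc
  have hXE : ¬ X ≤ E := by
    intro h
    have := Subgroup.card_le_of_le h
    omega
  have h1 := inf_ne_bot_of_centric hS hES hc hXsc hXE
  have hXH : ¬ X ≤ H := by
    intro h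
    have h2 : X = H := Cfsg.Agent.Lib.FusionAlperin.eq_of_le_of_card_eq h (by rw [hXc, hHc])
    exact hne (h2 ▸ hEH)
  have hHX1 : H ⊓ X ≠ ⊥ := by
    intro h
    apply h1
    rw [eq_bot_iff, ← h]
    exact inf_le_inf_right X hEH
  have inf' := @Cfsg.Agent.Lib.FusionSolvable.stronglyClosed_inf _ _ _ F
  have hIX : H ⊓ P ⊓ X = ⊥ := by
    rcases hXmin _ (inf' hI hXsc) inf_le_right with h | h
    · exact h
    · exfalso
      apply hXH
      have h2 : X ≤ H ⊓ P ⊓ X := by rw [h]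
      exact (h2.trans inf_le_left).trans inf_le_left
  have hNX : X ≤ H ⊔ P := by
    rcases hXmin _ (inf' hHP hXsc) inf_le_right with h | h
    · exfalso
      apply hHX1
      rw [eq_bot_iff, ← h]
      exact inf_le_inf_right X le_sup_left
    · have h2 : X ≤ (H ⊔ P) ⊓ X := by rw [h]
      exact h2.trans inf_le_left
  have hPX : X ⊓ P = ⊥ := by
    rcases hXmin _ (inf' hP hXsc) inf_le_right with h | h
    · rwa [inf_comm]
    · exfalso
      have hXP : X ≤ P := by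
        have h2 : X ≤ P ⊓ X := by rw [h]
        exact h2.trans inf_le_left
      apply hHX1
      rw [eq_bot_iff, ← hIX]
      exact fun x hx => ⟨⟨hx.1, hXP hx.2⟩, hx.2⟩
  have hPn := sc_norm hP
  haveI : Finite P := finite_of_le hP.1
  have e1 := card_sup_inf (hHS.trans hPn)
  have e2 := card_sup_inf (hXsc.1.trans hPn)
  rw [hPX, Subgroup.card_bot, mul_one, hXc] at e2
  rw [hHc] at e1
  have hXPS : X ⊔ P ≤ H ⊔ P := sup_le hNX le_sup_right
  haveI : Finite ↥(H ⊔ P) := finite_of_le (sup_le hHS hP.1)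
  have hle := Subgroup.card_le_of_le hXPS
  rw [e2] at hle
  have hPpos : 0 < Nat.card P := Nat.card_pos
  have hpm : 0 < p ^ m := pow_pos hp.out.pos m
  have hIc : Nat.card ↥(H ⊓ P) = 1 := by
    have hIpos : 0 < Nat.card ↥(H ⊓ P) := by
      haveI : Finite ↥(H ⊓ P) := finite_of_le (inf_le_left.trans hHS)
      exact Nat.card_pos
    by_contra hne1
    have h2 : 2 ≤ Nat.card ↥(H ⊓ P) := by omega
    have h3 : p ^ m * Nat.card P * 2 ≤ Nat.card ↥(H ⊔ P) * Nat.card ↥(H ⊓ P) := Nat.mul_le_mul hle h2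
    rw [e1] at h3
    have h4 : 0 < p ^ m * Nat.card P := Nat.mul_pos hpm hPpos
    omega
  have hIb : H ⊓ P = ⊥ := (Subgroup.eq_bot_iff_card _).2 hIc
  rw [hIc, mul_one] at e1
  have hEq : X ⊔ P = H ⊔ P := Cfsg.Agent.Lib.FusionAlperin.eq_of_le_of_card_eq hXPS (by rw [e1, e2])
  apply hne
  intro x hx
  have hx2 : x ∈ X ⊔ P := by
    rw [hEq]
    exact Subgroup.mem_sup_left (hEH hx)
  have hr := radical_of_essential hS hE
  have h3 := decomp hS hES hc hr.2.le hXsc hP hPX hx hx2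
  have hEP : E ⊓ P = ⊥ := by
    rw [eq_bot_iff, ← hIb]
    exact inf_le_inf_right P hEH
  rw [hEP, sup_bot_eq] at h3
  exact h3.2

theorem main_step {n : ℕ} (IH : ∀ k < n, Goal.{u} p k) : Goal.{u} p n := by
  intro Ω _ S _ F m hS hF hm hmS hW hN hn hA
  have hp' := hp.out
  have hpm : 1 < p ^ m := Nat.one_lt_pow hm.ne' hp'.one_lt
  have hP1 : ∀ T : Subgroup Ω, T ≤ S → p ^ m ≤ Nat.card T → IsPGroup p (F.autGroup T) :=
    fun T hT h => isPGroup_aut hS hW hN hT h
  have hAS := hP1 S le_rfl hmS.le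
  have hEsmall : ∀ E, F.IsEssential p E → Nat.card E < p ^ m := by
    intro E hE
    by_contra h
    push Not at h
    exact not_isPGroup_of_essential hS hE (hP1 E hE.1.1 h)
  have hEx : ∃ E, F.IsEssential p E := by
    by_contra hno
    push Not at hno
    exact not_hasAut_of_imod_bot hS (imod_of_essential hS hF norm_bot hAS (fun E hE => absurd hE (hno E))) hA
  obtain ⟨E₀, hE₀⟩ := hEx
  have hKsc : F.StronglyClosed (F.hyperfocalSubgroup p) := Cfsg.Agent.Lib.FusionHyperfocal.hyperfocal_stronglyClosed hS hF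
  have hK1 : F.hyperfocalSubgroup p ≠ ⊥ := fun h => not_isPGroup_of_essential hS hE₀ (isPGroup_of_hyp_bot hE₀.1.1 h)
  classical
  have hexX : ∃ k, ∃ Y, Y ≤ F.hyperfocalSubgroup p ∧ F.StronglyClosed Y ∧ Y ≠ ⊥ ∧ Nat.card Y = k :=
    ⟨_, _, le_rfl, hKsc, hK1, rfl⟩
  obtain ⟨X, hXK, hXsc, hX1, hXk⟩ := Nat.find_spec hexX
  haveI : Finite X := finite_of_le hXsc.1
  have hXmin : ∀ Y, F.StronglyClosed Y → Y ≤ X → Y = ⊥ ∨ Y = X := by
    intro Y hY hYX
    by_cases hYb : Y = ⊥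
    · exact Or.inl hYb
    · right
      refine Cfsg.Agent.Lib.FusionAlperin.eq_of_le_of_card_eq hYX ?_
      rw [hXk]
      exact Nat.find_min' hexX ⟨Y, hYX.trans hXK, hY, hYb, rfl⟩
  have inf' := @Cfsg.Agent.Lib.FusionSolvable.stronglyClosed_inf _ _ _ F
  -- `|X| ≤ p ^ m`
  have hXd : Nat.card X ≤ p ^ m := by
    by_contra hlt
    push Not at hlt
    obtain ⟨H, -, hHX, hHc⟩ := exists_between hS (U := ⊥) (V := X) bot_le hXsc.1
      (by rw [Subgroup.card_bot]; exact hpm.le) hlt.le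
    have hHS := hHX.trans hXsc.1
    obtain ⟨P, hP, hHP, hI⟩ := hW H hHS hHc
    have hH1 : H ≠ ⊥ := by
      intro h
      rw [h, Subgroup.card_bot] at hHc
      omega
    have hHne : H ≠ X := by
      intro h
      rw [h] at hHc
      omega
    rcases hXmin _ (inf' hP hXsc) inf_le_right with h | h
    · have hEq : (H ⊔ P) ⊓ X = H := by
        apply le_antisymm
        · rintro x ⟨hx1, hx2⟩
          obtain ⟨a, ha, c, hc, rfl⟩ := mem_sup_mul (hHS.trans (sc_norm hP)) hx1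
          have hcX : c ∈ X := by
            have := X.mul_mem (X.inv_mem (hHX ha)) hx2
            simpa using this
          have h3 : c ∈ P ⊓ X := ⟨hc, hcX⟩
          rw [h, Subgroup.mem_bot] at h3
          rw [h3, mul_one]
          exact ha
        · exact le_inf le_sup_left hHX
      rcases hXmin _ (inf' hHP hXsc) inf_le_right with h2 | h2
      · rw [hEq] at h2
        exact hH1 h2
      · rw [hEq] at h2
        exact hHne h2
    · have hXP : X ≤ P := by
        have h2 : X ≤ P ⊓ X := by rw [h]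
        exact h2.trans inf_le_left
      rcases hXmin _ hI (inf_le_left.trans hHX) with h2 | h2
      · apply hH1
        rw [eq_bot_iff, ← h2]
        exact le_inf le_rfl (hHX.trans hXP)
      · apply hHne
        apply le_antisymm hHX
        rw [← h2]
        exact inf_le_left
  -- the key dichotomy
  have key : IMod F X ∧ ∀ Q, F.StronglyClosed Q → Q ⊓ X = ⊥ → Q = ⊥ := by
    rcases lt_or_eq_of_le hXd with hlt | heq
    · have hI := quot_step IH hS hF hmS hW hN hn hXsc hX1 hlt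
      refine ⟨hI, fun Q hQ hQX => ?_⟩
      by_contra hQ1
      obtain ⟨z, hzQ, hz1, hzc⟩ := exists_central_of_stronglyClosed hS hQ hQ1
      obtain ⟨j, hj⟩ := (hS ⟨z, hQ.1 hzQ⟩)
      have hzj : z ^ p ^ j = 1 := congrArg Subtype.val hj
      have hzo : orderOf z ≠ 0 := by
        intro h
        have h2 := orderOf_dvd_of_pow_eq_one hzj
        rw [h, zero_dvd_iff] at h2
        exact (pow_pos hp'.pos j).ne' h2
      have hdvd : p ∣ orderOf z := by
        obtain ⟨c, -, hc⟩ := (Nat.dvd_prime_pow hp').1 (orderOf_dvd_of_pow_eq_one hzj)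
        rw [hc]
        refine dvd_pow_self p ?_
        rintro rfl
        rw [pow_zero, orderOf_eq_one_iff] at hc
        exact hz1 hc
      have hwo : orderOf (z ^ (orderOf z / p)) = p := orderOf_pow_orderOf_div hzo hdvd
      set w := z ^ (orderOf z / p) with hw
      have hwQ : w ∈ Q := Q.pow_mem hzQ _
      have hwc : ∀ s ∈ S, s * w = w * s := by
        intro s hs
        have h1 : s * z = z * s := by
          have := hzc s hs
          calc s * z = s * z * s⁻¹ * s := by group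
            _ = z * s := by rw [this]
        exact Commute.pow_right h1 _
      have hZQ : Subgroup.zpowers w ≤ Q := (Subgroup.zpowers_le).2 hwQ
      have hZc : ∀ y ∈ Subgroup.zpowers w, ∀ s ∈ S, s * y = y * s := by
        rintro _ ⟨k, rfl⟩ s hs
        exact Commute.zpow_right (hwc s hs) k
      have hZcard : Nat.card (Subgroup.zpowers w) = p := by rw [Nat.card_zpowers, hwo]
      haveI : Finite (Subgroup.zpowers w) := finite_of_le (hZQ.trans hQ.1)
      have hZn : S ≤ Subgroup.normalizer ((Subgroup.zpowers w : Subgroup Ω) : Set Ω) := by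
        intro s hs
        refine mem_normalizer_of_conj_eq fun y hy => ?_
        rw [hZc y hy s hs, mul_inv_cancel_right]
      have hYn : S ≤ Subgroup.normalizer ((X ⊔ Subgroup.zpowers w : Subgroup Ω) : Set Ω) := by
        intro s hs
        rw [Subgroup.mem_normalizer_iff_map_conj_eq, Subgroup.map_sup,
          (Subgroup.mem_normalizer_iff_map_conj_eq).1 (sc_norm hXsc hs),
          (Subgroup.mem_normalizer_iff_map_conj_eq).1 (hZn hs)]
      have hYsc := sc_of_imod hI (le_sup_left : X ≤ X ⊔ Subgroup.zpowers w)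
        (sup_le hXsc.1 (hZQ.trans hQ.1)) hYn
      have hYQ : (X ⊔ Subgroup.zpowers w) ⊓ Q = Subgroup.zpowers w := by
        apply le_antisymm
        · rintro x ⟨hx1, hx2⟩
          obtain ⟨a, ha, c, hc, rfl⟩ := mem_sup_mul (hXsc.1.trans hZn) hx1
          have haQ : a ∈ Q := by
            have := Q.mul_mem hx2 (Q.inv_mem (hZQ hc))
            simpa using this
          have h3 : a ∈ Q ⊓ X := ⟨haQ, ha⟩
          rw [hQX, Subgroup.mem_bot] at h3
          rw [h3, one_mul]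
          exact hc
        · exact le_inf le_sup_right hZQ
      have hZsc : F.StronglyClosed (Subgroup.zpowers w) := by
        rw [← hYQ]
        exact inf' hYsc hQ
      have hXp : p ≤ Nat.card X := by
        obtain ⟨c, hc⟩ := IsPGroup.iff_card.1 (hS.to_le hXsc.1)
        rw [hc]
        have hc0 : c ≠ 0 := by
          rintro rfl
          rw [pow_zero] at hc
          exact hX1 ((Subgroup.eq_bot_iff_card X).2 hc)
        exact Nat.le_self_pow hc0 p
      have hZ1 : Subgroup.zpowers w ≠ ⊥ := by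
        intro h
        rw [h, Subgroup.card_bot] at hZcard
        exact hp'.one_lt.ne hZcard
      have hI₂ := quot_step IH hS hF hmS hW hN hn hZsc hZ1 (by rw [hZcard]; omega)
      have hle := hyp_le_of_imod hS (sc_norm hZsc) hI₂
      apply hX1
      rw [eq_bot_iff, ← hQX]
      intro x hx
      exact ⟨hZQ (hle (hXK hx)), hx⟩
    · have hEX : ∀ E, F.IsEssential p E → E ≤ X := fun E hE =>
        essential_le hS hmS hW hXsc hXmin heq hE (hEsmall E hE)
      refine ⟨imod_of_essential hS hF (sc_norm hXsc) hAS hEX, fun Q hQ hQX => ?_⟩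
      rw [eq_bot_iff, ← hQX]
      intro q hq
      refine ⟨hq, hEX _ hE₀ (IsCentric_self hE₀.1 (mem_centralizerIn.2 ⟨hQ.1 hq, fun y hy => ?_⟩))⟩
      have hQX' : X ⊓ Q = ⊥ := by rwa [inf_comm]
      exact comm_of_inf_bot hXsc hQ hQX' (hEX _ hE₀ hy) hq
  obtain ⟨hI, hQ⟩ := key
  have hKX : F.hyperfocalSubgroup p = X := le_antisymm (hyp_le_of_imod hS (sc_norm hXsc) hI) hXK
  -- subgroups of order `p ^ m` meet `X` trivially or contain it
  have hHX : ∀ H, H ≤ S → Nat.card H = p ^ m → H ⊓ X = ⊥ ∨ X ≤ H := by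
    intro H hHS hHc
    obtain ⟨P, hP, hHP, hIs⟩ := hW H hHS hHc
    by_contra hcon
    push Not at hcon
    obtain ⟨h1, h2⟩ := hcon
    have hIX : H ⊓ P ⊓ X = ⊥ := by
      rcases hXmin _ (inf' hIs hXsc) inf_le_right with h | h
      · exact h
      · exfalso
        apply h2
        have h3 : X ≤ H ⊓ P ⊓ X := by rw [h]
        exact (h3.trans inf_le_left).trans inf_le_left
    rcases hXmin _ (inf' hP hXsc) inf_le_right with h | h
    · have hPb := hQ P hP h
      rw [hPb, sup_bot_eq] at hHP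
      rcases hXmin _ (inf' hHP hXsc) inf_le_right with h3 | h3
      · exact h1 h3
      · apply h2
        have h4 : X ≤ H ⊓ X := by rw [h3]
        exact h4.trans inf_le_left
    · have hXP : X ≤ P := by
        have h2 : X ≤ P ⊓ X := by rw [h]
        exact h2.trans inf_le_left
      apply h1
      rw [eq_bot_iff, ← hIX]
      exact fun x hx => ⟨⟨hx.1, hXP hx.2⟩, hx.2⟩
  by_cases hXΦ : X ≤ (frattini ↥S).map S.subtype
  · exact hK1 (hyp_bot_of_le_frattini hS hF (hKX.le.trans hXΦ))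
  -- a maximal subgroup not containing `X`
  have hexM : ∃ M : Subgroup S, IsCoatom M ∧ ¬ X.subgroupOf S ≤ M := by
    by_contra hno
    push Not at hno
    apply hXΦ
    intro x hx
    have h1 : X.subgroupOf S ≤ frattini ↥S := by
      refine le_iInf₂ fun M hM => hno M hM
    exact ⟨⟨x, hXsc.1 hx⟩, h1 (Subgroup.mem_subgroupOf.2 hx), rfl⟩
  obtain ⟨M, hM, hXM⟩ := hexM
  obtain ⟨k, hk⟩ := IsPGroup.iff_card.1 hS
  have hk0 : k ≠ 0 := by
    rintro rfl
    rw [pow_zero] at hk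
    omega
  obtain ⟨k', rfl⟩ := Nat.exists_eq_succ_of_ne_zero hk0
  have hMc := card_coatom hS hM (k := k') hk
  set M' := M.map S.subtype with hM'
  have hM'c : Nat.card M' = p ^ k' := by
    rw [hM', Subgroup.card_map_of_injective S.subtype_injective, hMc]
  have hM'S : M' ≤ S := Subgroup.map_subtype_le M
  have hmk : m ≤ k' := by
    rw [hk] at hmS
    have := (Nat.pow_lt_pow_iff_right hp'.one_lt).1 hmS
    omega
  have hmM : p ^ m ≤ Nat.card M' := by
    rw [hM'c]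
    exact Nat.pow_le_pow_right hp'.pos hmk
  have hmemM : ∀ x (hx : x ∈ S), x ∈ M' ↔ (⟨x, hx⟩ : S) ∈ M := by
    intro x hx
    constructor
    · rintro ⟨y, hy, rfl⟩
      exact hy
    · intro h
      exact ⟨_, h, rfl⟩
  have hXnle : ¬ X ≤ M' := by
    intro h
    apply hXM
    intro y hy
    exact (hmemM _ y.2).1 (h (Subgroup.mem_subgroupOf.1 hy))
  by_cases hYb : X ⊓ M' = ⊥
  · -- `|X| = p`, and `X` is central
    have hXcard : Nat.card X ≤ p := by
      have h0 : M.subgroupOf (X.subgroupOf S) = ⊥ := by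
        rw [eq_bot_iff]
        intro y hy
        have h1 : ((y : S) : Ω) ∈ X ⊓ M' :=
          ⟨Subgroup.mem_subgroupOf.1 y.2, (hmemM _ (y : S).2).2 (Subgroup.mem_subgroupOf.1 hy)⟩
        rw [hYb, Subgroup.mem_bot] at h1
        exact Subgroup.mem_bot.2 (Subtype.ext (Subtype.ext h1))
      have h1 : M.relIndex (X.subgroupOf S) = Nat.card X := by
        rw [Subgroup.relIndex, h0, Subgroup.index_bot]
        exact Nat.card_congr (Subgroup.subgroupOfEquivOfLe hXsc.1).toEquiv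
      have hidx : M.index = p := by
        have h2 := Subgroup.card_mul_index M
        rw [hMc, hk, pow_succ] at h2
        exact Nat.eq_of_mul_eq_mul_left (pow_pos hp'.pos k') h2
      have h3 : M.relIndex (X.subgroupOf S) ≤ M.relIndex ⊤ :=
        Subgroup.relIndex_le_of_le_right le_top (by
          rw [Subgroup.relIndex_top_right, hidx]
          exact hp'.ne_zero)
      rw [h1, Subgroup.relIndex_top_right, hidx] at h3
      exact h3
    obtain ⟨z, hzX, hz1, hzc⟩ := exists_central_of_stronglyClosed hS hXsc hX1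
    have hXz : X = Subgroup.zpowers z := by
      have h1 : Subgroup.zpowers z ≤ X := (Subgroup.zpowers_le).2 hzX
      symm
      refine Cfsg.Agent.Lib.FusionAlperin.eq_of_le_of_card_eq h1 ?_
      rw [Nat.card_zpowers]
      have h2 : orderOf z ∣ Nat.card X := by
        have h3 : (⟨z, hzX⟩ : X) ^ Nat.card X = 1 := pow_card_eq_one'
        exact orderOf_dvd_of_pow_eq_one (congrArg Subtype.val h3)
      have h5 : 1 < orderOf z := by
        have h6 : 0 < orderOf z := Nat.pos_of_dvd_of_pos h2 Nat.card_pos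
        have h7 : orderOf z ≠ 1 := fun h => hz1 (orderOf_eq_one_iff.1 h)
        omega
      obtain ⟨c, hc⟩ := IsPGroup.iff_card.1 (hS.to_le hXsc.1)
      have h8 : orderOf z ∣ p ^ c := hc ▸ h2
      obtain ⟨e, -, he⟩ := (Nat.dvd_prime_pow hp').1 h8
      have he0 : e ≠ 0 := by
        rintro rfl
        rw [pow_zero] at he
        omega
      have h9 : p ≤ orderOf z := by
        rw [he]
        exact Nat.le_self_pow he0 p
      omega
    have hXc : ∀ x ∈ X, ∀ s ∈ S, s * x * s⁻¹ = x := by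
      intro x hx s hs
      rw [hXz] at hx
      obtain ⟨j, rfl⟩ := hx
      have h1 : s * z = z * s := by
        have := hzc s hs
        calc s * z = s * z * s⁻¹ * s := by group
          _ = z * s := by rw [this]
      have h2 : Commute s (z ^ j) := Commute.zpow_right h1 j
      show s * z ^ j * s⁻¹ = z ^ j
      rw [h2.eq, mul_inv_cancel_right]
    refine not_essential_of_central hS hXsc hXc hI hE₀ ?_
    intro h
    have h1 := hEsmall _ hE₀
    rw [h] at h1
    omega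
  · -- a subgroup of order `p ^ m` meeting `X` in `X ⊓ M'`
    have hYc : Nat.card ↥(X ⊓ M') ≤ p ^ m := (Subgroup.card_le_of_le inf_le_left).trans hXd
    obtain ⟨H, hYH, hHM, hHc⟩ := exists_between hS (U := X ⊓ M') (V := M') inf_le_right hM'S hYc hmM
    rcases hHX H (hHM.trans hM'S) hHc with h | h
    · apply hYb
      rw [eq_bot_iff, ← h]
      exact fun x hx => ⟨hYH hx, hx.1⟩
    · exact hXnle (h.trans hHM)

/-- **The criterion**, function-level form. -/
theorem main (n : ℕ) : Goal.{u} p n := by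
  induction n using Nat.strong_induction_on with
  | _ n ih => exact main_step ih

end Step

section Forward

open scoped commutatorElement

variable {Ω : Type*} [Group Ω] {S : Subgroup Ω} {F : FusionSystem S} {p : ℕ} [hp : Fact p.Prime]

/-- In an inner system the `S`-normal subgroups are strongly closed. -/
lemma sc_of_inner (hI : ∀ P : Subgroup Ω, F.Hom P = (innerFusionSystem S).Hom P) (Y : Subgroup S) [hY : Y.Normal] :
    F.StronglyClosed (Y.map S.subtype) := by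
  refine ⟨Subgroup.map_subtype_le Y, fun R hR φ hφ x => ?_⟩
  rw [hI R] at hφ
  obtain ⟨-, g, hg, h⟩ := hφ
  rw [h]
  obtain ⟨y, hy, hyx⟩ := hR x.2
  refine ⟨⟨g, hg⟩ * y * ⟨g, hg⟩⁻¹, hY.conj_mem y hy _, ?_⟩
  rw [← hyx]
  rfl

/-- An element of prime order and `S`-normal subgroups: the weak embedding in `p`-groups. -/
theorem exists_complement [Finite S] (hS : IsPGroup p S) (Q : Subgroup S) (hQ : Nat.card Q = p) :
    ∃ P : Subgroup S, P.Normal ∧ (Q ⊔ P).Normal ∧ Q ⊓ P = ⊥ := by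
  haveI : Group.IsNilpotent S := hS.isNilpotent
  let N₀ : Subgroup S := Subgroup.normalClosure (Q : Set S)
  haveI hN₀ : N₀.Normal := Subgroup.normalClosure_normal
  have hQN : Q ≤ N₀ := Subgroup.le_normalClosure
  let P₀ : Subgroup S := ⁅N₀, (⊤ : Subgroup S)⁆
  haveI hP₀ : P₀.Normal := Subgroup.commutator_normal _ _
  have hP₀N : P₀ ≤ N₀ := Subgroup.commutator_le_left _ _
  have hsup : (Q ⊔ P₀).Normal := by
    constructor
    intro n hn g
    have hnN : n ∈ N₀ := (sup_le hQN hP₀N) hn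
    have h1 : g * n * g⁻¹ * n⁻¹ ∈ P₀ := by
      have h2 : ⁅n, g⁻¹⁆ ∈ P₀ := Subgroup.commutator_mem_commutator hnN (Subgroup.mem_top _)
      have h3 := hP₀.conj_mem _ h2 g
      convert h3 using 1
      simp [commutatorElement_def]
      group
    have e : g * n * g⁻¹ = (g * n * g⁻¹ * n⁻¹) * n := by group
    rw [e]
    exact Subgroup.mul_mem _ (Subgroup.mem_sup_right h1) hn
  refine ⟨P₀, hP₀, hsup, ?_⟩
  -- the intersection is trivial
  have hQP : ¬ Q ≤ P₀ := by
    intro h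
    have h1 : N₀ ≤ P₀ := Subgroup.normalClosure_le_normal h
    have h2 : N₀ ≤ ⊥ := by
      refine Cfsg.Agent.Lib.FusionSplit.nakayama (N := N₀) (A := ⊥) ?_
      rw [bot_sup_eq]
      exact h1
    have h3 : Q ≤ ⊥ := hQN.trans h2
    rw [le_bot_iff] at h3
    rw [h3, Subgroup.card_bot] at hQ
    exact hp.out.one_lt.ne hQ
  have hd : Nat.card ↥(Q ⊓ P₀) ∣ p := by
    rw [← hQ]
    exact Subgroup.card_dvd_of_le inf_le_left
  rcases (Nat.dvd_prime hp.out).1 hd with h | h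
  · exact (Subgroup.eq_bot_iff_card _).2 h
  · exfalso
    apply hQP
    have h1 : Q ⊓ P₀ = Q := Cfsg.Agent.Lib.FusionAlperin.eq_of_le_of_card_eq inf_le_left (by rw [h, hQ])
    rw [← h1]
    exact inf_le_right

end Forward

/-- **The theorem**. -/
theorem criterion {Ω : Type*} [Group Ω] {S : Subgroup Ω} [Finite S] (p : ℕ) [hp : Fact p.Prime] (hS : IsPGroup p ↥S)
    (F : Cfsg.FusionSystem S) (hF : F.IsSaturated p) (hcard : p ^ 2 ≤ Nat.card S) :
    (∀ P : Subgroup Ω, F.Hom P = (Cfsg.innerFusionSystem S).Hom P) ↔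
      ∃ D : Subgroup Ω, ⊥ < D ∧ D < S ∧
        (∀ Q : Subgroup Ω, Q ≤ S → Nat.card ↥Q = Nat.card ↥D → ∃ P : Subgroup Ω, F.StronglyClosed P ∧
          F.StronglyClosed (Q ⊔ P) ∧ F.StronglyClosed (Q ⊓ P)) ∧
        (∀ H : Subgroup Ω, F.IsFullyNormalized H → Nat.card ↥H = Nat.card ↥D →
          ∀ N : Cfsg.FusionSystem (Cfsg.FusionSystem.normalizerIn S H), F.IsNormalizerSystem H N →
            ∀ P : Subgroup Ω, N.Hom P = (Cfsg.innerFusionSystem (Cfsg.FusionSystem.normalizerIn S H)).Hom P) := by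
  have hp' := hp.out
  constructor
  · intro hI
    -- `D` of order `p`
    have hdvd : p ∣ Nat.card S := by
      refine Dvd.dvd.trans ?_ (IsPGroup.iff_card.1 hS).choose_spec.symm.dvd
      refine dvd_pow_self p ?_
      intro h0
      have h1 := (IsPGroup.iff_card.1 hS).choose_spec
      rw [h0, pow_zero] at h1
      have h2 : 4 ≤ p ^ 2 := by nlinarith [hp'.two_le]
      omega
    obtain ⟨t, ht⟩ := exists_prime_orderOf_dvd_card' p hdvd
    let D₀ : Subgroup S := Subgroup.zpowers t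
    have hD₀c : Nat.card D₀ = p := by rw [Nat.card_zpowers, ht]
    have hDc : Nat.card ↥(D₀.map S.subtype) = p := by
      rw [Subgroup.card_map_of_injective S.subtype_injective, hD₀c]
    have hDS : D₀.map S.subtype ≤ S := Subgroup.map_subtype_le D₀
    refine ⟨D₀.map S.subtype, ?_, ?_, ?_, ?_⟩
    · rw [bot_lt_iff_ne_bot]
      intro h
      rw [h, Subgroup.card_bot] at hDc
      exact hp'.one_lt.ne hDc
    · refine lt_of_le_of_ne hDS ?_
      intro h
      rw [h] at hDc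
      have h2 : 2 * p ≤ p * p := Nat.mul_le_mul_right p hp'.two_le
      rw [hDc] at hcard
      nlinarith [hp'.two_le]
    · intro Q hQS hQc
      rw [hDc] at hQc
      have hQ₀c : Nat.card (Q.subgroupOf S) = p := by
        rw [← hQc]
        exact Nat.card_congr (Subgroup.subgroupOfEquivOfLe hQS).toEquiv
      obtain ⟨P₀, hP₀, hsup, hinf⟩ := exists_complement hS (Q.subgroupOf S) hQ₀c
      have hQmap : (Q.subgroupOf S).map S.subtype = Q := by
        rw [Subgroup.subgroupOf_map_subtype]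
        exact inf_eq_left.2 hQS
      refine ⟨P₀.map S.subtype, sc_of_inner hI P₀, ?_, ?_⟩
      · have h1 := sc_of_inner hI (Q.subgroupOf S ⊔ P₀)
        rwa [Subgroup.map_sup, hQmap] at h1
      · have h1 := sc_of_inner hI (⊥ : Subgroup S)
        have h2 : Q ⊓ P₀.map S.subtype = (⊥ : Subgroup S).map S.subtype := by
          rw [← hQmap, ← Subgroup.map_inf _ _ _ S.subtype_injective, hinf]
        rwa [h2]
    · intro H hH _ N hN P
      have hHS := hH.1
      ext φ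
      constructor
      · intro hφ
        have hm : Maps N P (fn φ) := Maps.of_mem hφ
        obtain ⟨hmF, hPN, hval, k, hk, h1, h2⟩ := (Cfsg.Agent.Lib.FusionGT.maps_norm_iff hN).1 hm
        obtain ⟨ψ, hψ, he⟩ := hk
        rw [hI] at hψ
        obtain ⟨hle, g, hg, hgk⟩ := hψ
        have hgN : g ∈ normalizerIn S H := by
          haveI := finite_of_le hHS
          refine mem_normalizerIn.2 ⟨hg, mem_normalizer_of_conj_mem fun x hx => ?_⟩
          have hk' : Maps F (P ⊔ H) k := ⟨ψ, (hI _).symm ▸ ⟨hle, g, hg, hgk⟩, he⟩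
          have h3 : k x ∈ img k H := (hk'.restrict le_sup_right).mem_img_of_mem hx
          rw [h2, ← he ⟨x, Subgroup.mem_sup_right hx⟩, hgk] at h3
          exact h3
        refine ⟨hPN, g, hgN, fun x => ?_⟩
        rw [← fn_coe φ x, ← h1 x x.2, ← he ⟨x, Subgroup.mem_sup_left x.2⟩, hgk]
      · rintro ⟨hPN, g, hg, h⟩
        have h1 := N.conj_mem hPN hg
        have h2 : φ = conjHom P g := by
          ext x
          exact h x
        rw [h2]
        exact h1
  · rintro ⟨D, hD1, hDS, hW, hN⟩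
    haveI : Finite D := finite_of_le hDS.le
    obtain ⟨m, hm⟩ := IsPGroup.iff_card.1 (hS.to_le hDS.le)
    have hm0 : 0 < m := by
      rcases Nat.eq_zero_or_pos m with h | h
      · exfalso
        rw [h, pow_zero] at hm
        exact hD1.ne' ((Subgroup.eq_bot_iff_card D).2 hm)
      · exact h
    have hmS : p ^ m < Nat.card S := by
      rw [← hm]
      exact Cfsg.Agent.Lib.FusionAlperin.card_lt_of_lt hDS
    have hW' : ∀ Q : Subgroup Ω, Q ≤ S → Nat.card Q = p ^ m → WE F Q := fun Q hQ hc => hW Q hQ (by rw [hc, hm])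
    have hN' : ∀ Q : Subgroup Ω, Q ≤ S → Nat.card Q = p ^ m → ¬ HasN F p Q := by
      intro Q hQ hc hh
      obtain ⟨Q', hh', hQ'n, -, hQ'c⟩ := HasN.conj hS hF hQ hh
      have hQ'S := hQ'n.1
      obtain ⟨E, hE⟩ := exists_normalizerSystem (F := F) hQ'S
      have hE' := (hasAut_iff_hasN hQ'S hE).2 hh'
      haveI : Finite (normalizerIn S Q') := finite_of_le inf_le_left
      have hT : IsPGroup p ↥(normalizerIn S Q') := hS.to_le inf_le_left
      exact not_hasAut_of_inner hT (hN Q' hQ'n (by rw [hQ'c, hc, hm]) E hE) hE'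
    by_contra hcon
    exact main _ _ S F m hS hF hm0 hmS hW' hN' rfl (hasAut_of_not_inner hS hF hcon)

end Cfsg.Agent.Lib.FusionWeakEmb
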