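/-
AschLift: lifting `O^{p'}(Aut_E(Q))` to `Aut_F(Q C_S(Q))`, acting trivially on `C_S(Q)` modulo `Q`.
-/
import Mathlib
import Cfsg.Agent.Lib.AschCore
import Cfsg.Agent.Lib.FusionIndexPrime
import Cfsg.Agent.Lib.FusionHyperfocal
import Cfsg.Agent.Lib.FusionWeakEmb

set_option autoImplicit false
set_option linter.unusedSectionVars false
set_option linter.unusedVariables false
set_option linter.unusedSimpArgs false

namespace Cfsg.Agent.Lib.AschCore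

open Cfsg Cfsg.FusionSystem Cfsg.Agent.Lib.FusionCore Cfsg.Agent.Lib.FusionCore2
open Cfsg.Agent.Lib.FusionIndexPrime (pEl mem_pEl_of_pow)

universe u

variable {Ω : Type u} [Group Ω] {S T : Subgroup Ω} {F : FusionSystem S} {E : FusionSystem T} {p : ℕ} {Q : Subgroup Ω}

section Ext

variable [Finite S]

lemma exists_pres (hQS : Q ≤ S) (hQR : F.IsReceptive Q) {f : Ω → Ω} (hf : Maps F Q f) (himg : img f Q = Q) :
    ∃ θ : MulAut ↥(KK S Q), Pres F Q θ ∧ ∀ x ∈ Q, afn θ x = f x := by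
  obtain ⟨k, hk, hk1⟩ := IsReceptive.ext hQR hf himg
  have hle : KK S Q ≤ Nf S Q f := sup_le (le_Nf hf) (centralizerIn_le_Nf hf)
  have hk₁ : Maps F (KK S Q) k := hk.restrict hle
  have kQ : ∀ x ∈ Q, k x ∈ Q := fun x hx => by
    rw [hk1 x hx, ← himg]
    exact hf.mem_img_of_mem hx
  have kC : ∀ c ∈ centralizerIn S Q, k c ∈ centralizerIn S Q := by
    intro c hc
    refine mem_centralizerIn.2 ⟨hk₁.mem (Y_le_KK hc), fun z hz => ?_⟩
    rw [← himg] at hz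
    obtain ⟨y, hy, rfl⟩ := hf.mem_img.1 hz
    rw [← hk1 y hy, ← hk₁.map_mul (Q_le_KK hy) (Y_le_KK hc), (mem_centralizerIn.1 hc).2 y hy,
      hk₁.map_mul (Y_le_KK hc) (Q_le_KK hy)]
  have himg' : img k (KK S Q) = KK S Q := img_eq_of_card hk₁ (KK_le hQS) (KK_le hQS)
    (hk₁.sup_mem (fun x hx => Q_le_KK (kQ x hx)) (fun c hc => Y_le_KK (kC c hc))) le_rfl
  refine ⟨hk₁.toAut himg', ⟨hk₁.toAut_mem himg', fun x hx => ?_⟩, fun x hx => ?_⟩
  · rw [hk₁.afn_toAut himg' (Q_le_KK hx)]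
    exact kQ x hx
  · rw [hk₁.afn_toAut himg' (Q_le_KK hx), hk1 x hx]

lemma conj_mem_Y (hQS : Q ≤ S) {t : Ω} (ht : t ∈ S) (hN : t ∈ Subgroup.normalizer (Q : Set Ω)) {y : Ω}
    (hy : y ∈ centralizerIn S Q) : t * y * t⁻¹ ∈ centralizerIn S Q := by
  refine mem_centralizerIn.2 ⟨S.mul_mem (S.mul_mem ht (mem_centralizerIn.1 hy).1) (S.inv_mem ht), fun q hq => ?_⟩
  have hq' : t⁻¹ * q * t ∈ Q := by
    have := (Subgroup.mem_normalizer_iff.1 (Subgroup.inv_mem _ hN) q).1 hq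
    simpa using this
  have h1 := (mem_centralizerIn.1 hy).2 _ hq'
  calc q * (t * y * t⁻¹) = t * ((t⁻¹ * q * t) * y) * t⁻¹ := by group
    _ = t * (y * (t⁻¹ * q * t)) * t⁻¹ := by rw [h1]
    _ = _ := by group

lemma exists_conj_pres (hQS : Q ≤ S) {t : Ω} (ht : t ∈ S) (hN : t ∈ Subgroup.normalizer (Q : Set Ω)) :
    ∃ θ : MulAut ↥(KK S Q), Pres F Q θ ∧ ∀ x ∈ KK S Q, afn θ x = t * x * t⁻¹ := by
  have hm : Maps F (KK S Q) (fun x => t * x * t⁻¹) := Maps.conj (KK_le hQS) ht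
  have himg : img (fun x => t * x * t⁻¹) (KK S Q) = KK S Q := img_eq_of_card hm (KK_le hQS) (KK_le hQS)
    (hm.sup_mem (fun x hx => Q_le_KK ((Subgroup.mem_normalizer_iff.1 hN x).1 hx))
      (fun c hc => Y_le_KK (conj_mem_Y hQS ht hN hc))) le_rfl
  refine ⟨hm.toAut himg, ⟨hm.toAut_mem himg, fun x hx => ?_⟩, fun x hx => hm.afn_toAut himg hx⟩
  rw [hm.afn_toAut himg (Q_le_KK hx)]
  exact (Subgroup.mem_normalizer_iff.1 hN x).1 hx

lemma sc_conj (hT : F.StronglyClosed T) {g t : Ω} (hg : g ∈ S) (ht : t ∈ T) : g * t * g⁻¹ ∈ T :=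
  hT.2 T le_rfl (conjHom T g) (F.conj_mem hT.1 hg) ⟨t, ht⟩

/-- The conjugation by an element of `N_T(Q)` acts trivially on `C_S(Q)` modulo `Q`. -/
lemma conj_hY (hT : F.StronglyClosed T) (hQS : Q ≤ S) (hc : centralizerIn T Q ≤ Q) {t : Ω} (ht : t ∈ T)
    (hN : t ∈ Subgroup.normalizer (Q : Set Ω)) {y : Ω} (hy : y ∈ centralizerIn S Q) :
    y⁻¹ * (t * y * t⁻¹) ∈ Q := by
  have htS : t ∈ S := hT.1 ht
  have hyS : y ∈ S := (mem_centralizerIn.1 hy).1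
  have h1 : y⁻¹ * (t * y * t⁻¹) ∈ T := by
    have := T.mul_mem (sc_conj hT (S.inv_mem hyS) ht) (T.inv_mem ht)
    simpa [mul_assoc] using this
  have h2 : y⁻¹ * (t * y * t⁻¹) ∈ centralizerIn S Q :=
    Subgroup.mul_mem _ (Subgroup.inv_mem _ hy) (conj_mem_Y hQS htS hN hy)
  exact hc (mem_centralizerIn.2 ⟨h1, (mem_centralizerIn.1 h2).2⟩)

/-- `θ` on `Q C_S(Q)` induces `a` on `Q`. -/
def Lifts {Q : Subgroup Ω} (θ : MulAut ↥(KK S Q)) (a : MulAut Q) : Prop := ∀ x ∈ Q, afn θ x = afn a x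

lemma Lifts.mul {θ₁ θ₂ : MulAut ↥(KK S Q)} {a₁ a₂ : MulAut Q} (h1 : Lifts θ₁ a₁) (h2 : Lifts θ₂ a₂) :
    Lifts (θ₁ * θ₂) (a₁ * a₂) := by
  intro x hx
  rw [afn_mul θ₁ θ₂ (Q_le_KK hx), afn_mul a₁ a₂ hx, h2 x hx, h1 _ (afn_mem a₂ hx)]

lemma Lifts.one : Lifts (1 : MulAut ↥(KK S Q)) (1 : MulAut Q) := by
  intro x hx
  rw [afn_one (Q_le_KK hx), afn_one hx]

lemma Lifts.inv {θ : MulAut ↥(KK S Q)} {a : MulAut Q} (h : Lifts θ a) : Lifts θ⁻¹ a⁻¹ := by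
  intro x hx
  have hy := afn_mem a⁻¹ hx
  have e := h _ hy
  rw [afn_afn_inv a hx] at e
  calc afn θ⁻¹ x = afn θ⁻¹ (afn θ (afn a⁻¹ x)) := by rw [e]
    _ = afn a⁻¹ x := afn_inv_afn θ (Q_le_KK hy)

lemma Lifts.pow {θ : MulAut ↥(KK S Q)} {a : MulAut Q} (h : Lifts θ a) (k : ℕ) : Lifts (θ ^ k) (a ^ k) := by
  induction k with
  | zero => simpa using Lifts.one
  | succ k ih =>
    rw [pow_succ', pow_succ']
    exact h.mul ih

/-- A lift of an element of order prime to `p` can be chosen of order prime to `p`. -/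
lemma exists_pprime_lift [Fact p.Prime] (hQS : Q ≤ S) {θ : MulAut ↥(KK S Q)} {a : MulAut Q} (h : Wk F Q θ)
    (hl : Lifts θ a) (ha : (orderOf a).Coprime p) :
    ∃ θ' : MulAut ↥(KK S Q), Wk F Q θ' ∧ Lifts θ' a ∧ ∃ m : ℕ, θ' ^ m = 1 ∧ m.Coprime p := by
  have hp : p.Prime := Fact.out
  haveI : Finite (MulAut ↥(KK S Q)) := finite_mulAut (KK_le hQS)
  have hn : orderOf θ ≠ 0 := (orderOf_pos θ).ne'
  obtain ⟨e, m, hm, hnm⟩ := Nat.exists_eq_pow_mul_and_not_dvd hn p hp.ne_one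
  have hmp : m.Coprime p := ((Nat.Prime.coprime_iff_not_dvd hp).2 hm).symm
  obtain ⟨k, hk⟩ := Cfsg.Agent.Lib.FusionWeakEmb.exists_pow_of_coprime (g := a) (n := p ^ e) (Nat.Coprime.pow_right e ha)
  refine ⟨(θ ^ p ^ e) ^ k, (h.pow hQS _).pow hQS k, ?_, m, ?_, hmp⟩
  · have := ((hl.pow (p ^ e)).pow k)
    rwa [hk] at this
  · rw [← pow_mul, mul_comm k m, pow_mul, ← pow_mul θ, ← hnm, pow_orderOf_eq_one, one_pow]

/-- `p`-elements of `Aut_E(Q)` lift. -/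
lemma exists_lift_of_pow (hT : F.StronglyClosed T) (hEF : E.IsSubsystemOf F) [Fact p.Prime] (hQT : Q ≤ T)
    (hA : E.IsFullyAutomized p Q) (hR : F.IsReceptive Q) (hc : centralizerIn T Q ≤ Q) {a : MulAut Q}
    (haE : a ∈ E.autGroup Q) {k : ℕ} (hk : a ^ p ^ k = 1) :
    ∃ θ : MulAut ↥(KK S Q), Wk F Q θ ∧ Lifts θ a := by
  haveI : Finite T := finite_of_le hT.1
  have hQS : Q ≤ S := hQT.trans hT.1
  have hB : IsPGroup p (Subgroup.zpowers a) := by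
    haveI : Finite (MulAut Q) := finite_mulAut (S := S) hQS
    rw [IsPGroup.iff_card]
    have h1 : orderOf a ∣ p ^ k := orderOf_dvd_of_pow_eq_one hk
    obtain ⟨j, -, hj⟩ := (Nat.dvd_prime_pow (Fact.out : p.Prime)).1 h1
    exact ⟨j, by rw [Nat.card_zpowers, hj]⟩
  have hBA : Subgroup.zpowers a ≤ E.autGroup Q := Subgroup.zpowers_le.2 haE
  obtain ⟨γ, hγ, hγc⟩ := Cfsg.Agent.Lib.FusionCore.IsFullyAutomized.exists_conj hA hB hBA
  obtain ⟨t, ht, htc⟩ := mem_autInducedBy.1 (hγc a (Subgroup.mem_zpowers a))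
  have hN : t ∈ Subgroup.normalizer (Q : Set Ω) := mem_normalizer_of_afn htc
  obtain ⟨ct, hct, hct1⟩ := exists_conj_pres (F := F) hQS (hT.1 ht) hN
  have hWt : Wk F Q ct := ⟨hct, fun y hy => by
    rw [hct1 y (Y_le_KK hy)]
    exact conj_hY hT hQS hc ht hN hy⟩
  have hγF : Maps F Q (afn γ) := Cfsg.Agent.Lib.FusionInvariant.maps_sub hEF ((mem_autGroup_iff hQT).1 hγ)
  obtain ⟨gh, hgh, hgh1⟩ := exists_pres hQS hR hγF (afn_img γ)
  have hl : Lifts ct (γ * a * γ⁻¹) := by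
    intro x hx
    rw [hct1 x (Q_le_KK hx), htc x hx]
  have hlγ : Lifts gh γ := hgh1
  refine ⟨gh⁻¹ * ct * gh, ?_, ?_⟩
  · have := Wk.conj hQS (hgh.inv hQS) hWt
    rwa [inv_inv] at this
  · have := (hlγ.inv.mul hl).mul hlγ
    convert this using 1
    group

/-- All of `O^{p'}(Aut_E(Q))` lifts. -/
lemma exists_lift (hT : F.StronglyClosed T) (hEF : E.IsSubsystemOf F) [Fact p.Prime] (hQT : Q ≤ T)
    (hA : E.IsFullyAutomized p Q) (hR : F.IsReceptive Q) (hc : centralizerIn T Q ≤ Q)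
    (a : ↥(E.autGroup Q)) (ha : a ∈ pEl p ↥(E.autGroup Q)) :
    ∃ θ : MulAut ↥(KK S Q), Wk F Q θ ∧ Lifts θ (a : MulAut Q) := by
  have hQS : Q ≤ S := hQT.trans hT.1
  induction ha using Subgroup.closure_induction with
  | mem x hx =>
    obtain ⟨k, hk⟩ := hx
    have h1 : (x : MulAut Q) ^ p ^ k = 1 := by
      have := pow_orderOf_eq_one x
      rw [hk] at this
      exact congrArg Subtype.val this
    exact exists_lift_of_pow hT hEF hQT hA hR hc x.2 h1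
  | one => exact ⟨1, Wk.one hQS, Lifts.one⟩
  | mul x y _ _ hx hy =>
    obtain ⟨θ₁, h1, h2⟩ := hx
    obtain ⟨θ₂, h3, h4⟩ := hy
    exact ⟨θ₁ * θ₂, h1.mul hQS h3, h2.mul h4⟩
  | inv x _ hx =>
    obtain ⟨θ₁, h1, h2⟩ := hx
    exact ⟨θ₁⁻¹, h1.inv hQS, h2.inv⟩

end Ext

/-! ### Extensions fixing a subgroup -/

section CExt

variable {X P R : Subgroup Ω} {f f' : Ω → Ω}

lemma cext_conj (hPS : P ≤ S) (hXS : X ≤ S) {t : Ω} (ht : t ∈ S) (hc : ∀ x ∈ X, t * x * t⁻¹ = x) :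
    CExt F X P (fun x => t * x * t⁻¹) :=
  ⟨_, Maps.conj (sup_le hPS hXS) ht, fun _ _ => rfl, hc⟩

lemma cext_restrict (h : CExt F X P f) (hRP : R ≤ P) : CExt F X R f := CExt.restrict h hRP

lemma cext_comp (h : CExt F X P f) (h' : CExt F X R f') (hf : ∀ x ∈ P, f x ∈ R) : CExt F X P (f' ∘ f) := by
  obtain ⟨g, hg, h1, h2⟩ := h
  obtain ⟨g', hg', h3, h4⟩ := h'
  have hm : ∀ x ∈ P ⊔ X, g x ∈ R ⊔ X := hg.sup_mem
    (fun x hx => by rw [h1 x hx]; exact (le_sup_left : R ≤ R ⊔ X) (hf x hx))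
    (fun x hx => by rw [h2 x hx]; exact (le_sup_right : X ≤ R ⊔ X) hx)
  refine ⟨g' ∘ g, hg.comp hg' hm, fun x hx => ?_, fun x hx => ?_⟩
  · simp only [Function.comp]
    rw [h1 x hx, h3 _ (hf x hx)]
  · simp only [Function.comp]
    rw [h2 x hx, h4 x hx]

lemma img_of_fix {g : Ω → Ω} (hg : Maps F (P ⊔ X) g) (h : ∀ x ∈ X, g x = x) : img g X = X := by
  have hr := hg.restrict (le_sup_right : X ≤ P ⊔ X)
  ext y
  rw [hr.mem_img]
  constructor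
  · rintro ⟨x, hx, rfl⟩
    rwa [h x hx]
  · intro hy
    exact ⟨y, hy, h y hy⟩

lemma cext_inv (hf : Maps F P f) (h : CExt F X P f) {f' : Ω → Ω} (hf' : ∀ x ∈ P, f' (f x) = x) :
    CExt F X (img f P) f' := by
  obtain ⟨g, hg, h1, h2⟩ := h
  obtain ⟨k, hk, hk1, hk2⟩ := hg.inv
  have himg : img g (P ⊔ X) = img f P ⊔ X := by
    rw [hg.img_sup, img_of_fix hg h2, img_congr h1]
  rw [himg] at hk
  refine ⟨k, hk, fun y hy => ?_, fun x hx => ?_⟩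
  · obtain ⟨x, hx, rfl⟩ := hf.mem_img.1 hy
    rw [hf' x hx, ← h1 x hx, hk1 x ((le_sup_left : P ≤ P ⊔ X) hx)]
  · have := hk1 x ((le_sup_right : X ≤ P ⊔ X) hx)
    rwa [h2 x hx] at this

end CExt

end Cfsg.Agent.Lib.AschCore
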