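/-
AschMain: for `E ⊴ F` on `T`, the focal subgroup of `C_F(T)` centralizes `E`.
-/
import Mathlib
import Cfsg.Agent.Lib.AschLift
import Cfsg.Agent.Lib.FusionAlperin
import Cfsg.Agent.Lib.FusionInvariant
import Cfsg.Agent.S5153

set_option autoImplicit false
set_option linter.unusedSectionVars false
set_option linter.unusedVariables false
set_option linter.unusedSimpArgs false
set_option linter.style.haveILetI false

namespace Cfsg.Agent.Lib.AschCore

open Cfsg Cfsg.FusionSystem Cfsg.Agent.Lib.FusionCore Cfsg.Agent.Lib.FusionCore2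
open Cfsg.Agent.Lib.FusionIndexPrime (pEl mem_pEl_of_pow pEl_normal ofMaps maps_ofMaps)
open Cfsg.Agent.Lib.FusionInvariant (Str Inv Frat isInvariantIn_iff str_of_inv_frat maps_sub StrongMem aut_maps)

universe u

variable {Ω : Type u} [Group Ω] {S T : Subgroup Ω} {F : FusionSystem S} {E : FusionSystem T} {p : ℕ} {Q : Subgroup Ω}

lemma pEl_le_of_sylow {A : Type*} [Group A] [Finite A] [Fact p.Prime] (W : Sylow p A) (M : Subgroup A)
    (hW : (W : Subgroup A) ≤ M) (h : ∀ a ∈ pEl p A, (orderOf a).Coprime p → a ∈ M) : pEl p A ≤ M := by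
  have hWp : (W : Subgroup A) ≤ pEl p A := by
    intro w hw
    obtain ⟨n, hn⟩ := W.isPGroup' ⟨w, hw⟩
    exact mem_pEl_of_pow (n := n) (by simpa using congrArg Subtype.val hn)
  let W' : Sylow p ↥(pEl p A) := W.subtype hWp
  intro g hg
  obtain ⟨κ, hκ, r, hr, e⟩ := Cfsg.Agent.Lib.FusionHyperfocal.exists_pResidual_mul_sylow W' ⟨g, hg⟩
  have h1 : ((κ : ↥(pEl p A)) : A) ∈ M := by
    have : pResidual p ↥(pEl p A) ≤ M.subgroupOf (pEl p A) := by
      rw [pResidual, Subgroup.closure_le]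
      intro x hx
      exact Subgroup.mem_subgroupOf.2 (h x x.2 (by rwa [Subgroup.orderOf_coe]))
    exact Subgroup.mem_subgroupOf.1 (this hκ)
  have h2 : ((r : ↥(pEl p A)) : A) ∈ M := by
    have hr' : r ∈ (W : Subgroup A).subgroupOf (pEl p A) := by
      have := hr
      rwa [Sylow.coe_subtype] at this
    exact hW (Subgroup.mem_subgroupOf.1 hr')
  have e' : g = κ * r := congrArg Subtype.val e
  rw [e']
  exact M.mul_mem h1 h2

section Sub

variable [Finite S] {X : Subgroup Ω}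

lemma cext_aut_one (hQS : Q ≤ S) (hXS : X ≤ S) : CExt F X Q (afn (1 : MulAut Q)) :=
  ⟨_root_.id, Maps.id (sup_le hQS hXS), fun x hx => by rw [afn_one hx]; rfl, fun _ _ => rfl⟩

lemma cext_aut_mul {a b : MulAut Q} (ha : CExt F X Q (afn a)) (hb : CExt F X Q (afn b)) :
    CExt F X Q (afn (a * b)) :=
  cext_congr (cext_comp hb ha (fun x hx => afn_mem b hx)) (fun x hx => (afn_mul a b hx).symm)

lemma cext_aut_inv {a : MulAut Q} (hm : Maps F Q (afn a)) (ha : CExt F X Q (afn a)) : CExt F X Q (afn a⁻¹) := by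
  have := cext_inv hm ha (f' := afn a⁻¹) (fun x hx => afn_inv_afn a hx)
  rwa [afn_img a] at this

/-- The automorphisms in `E` extending to `Q X` and fixing `X`. -/
def extSub (F : FusionSystem S) (E : FusionSystem T) (X Q : Subgroup Ω) (hEF : E.IsSubsystemOf F) (hQT : Q ≤ T) (hTS : T ≤ S)
    (hXS : X ≤ S) : Subgroup (MulAut Q) where
  carrier := {a | a ∈ E.autGroup Q ∧ CExt F X Q (afn a)}
  mul_mem' := fun ⟨h1, h2⟩ ⟨h3, h4⟩ => ⟨Subgroup.mul_mem _ h1 h3, cext_aut_mul h2 h4⟩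
  one_mem' := ⟨Subgroup.one_mem _, cext_aut_one (hQT.trans hTS) hXS⟩
  inv_mem' := fun {a} ⟨h1, h2⟩ => ⟨Subgroup.inv_mem _ h1,
    cext_aut_inv (maps_sub hEF ((mem_autGroup_iff hQT).1 h1)) h2⟩

lemma focal_mono {Q₁ Q₂ : Subgroup Ω} (h : Q₁ ≤ Q₂) {D₁ : FusionSystem (centralizerIn S Q₁)}
    {D₂ : FusionSystem (centralizerIn S Q₂)} (hD₁ : F.IsCentralizerSystem Q₁ D₁) (hD₂ : F.IsCentralizerSystem Q₂ D₂) :
    D₂.focalSubgroup ≤ D₁.focalSubgroup := by
  rw [focalSubgroup, Subgroup.closure_le]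
  rintro _ ⟨P, φ, x, hφ, rfl⟩
  have hm := Maps.of_mem hφ
  obtain ⟨h1, h2, h3, k, hk, hk1, hk2⟩ := (maps_cent hD₂).1 hm
  have hcc : centralizerIn S Q₂ ≤ centralizerIn S Q₁ := centralizerIn_anti h
  have hm' : Maps D₁ P (fn φ) := (maps_cent hD₁).2 ⟨h1, h2.trans hcc, fun y hy => hcc (h3 y hy),
    k, hk.restrict (sup_le_sup_left h P), hk1, fun y hy => hk2 y (h hy)⟩
  have := focal_gen hm' x.2
  rwa [fn_coe] at this

/-- At a fully normalized subgroup, `O^{p'}(Aut_E(Q))` extends, fixing `X`. -/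
theorem level_nf [Fact p.Prime] (hS : IsPGroup p S) (hF : F.IsSaturated p) (hT : F.StronglyClosed T)
    (hEF : E.IsSubsystemOf F) (hEs : E.IsSaturated p) (hQT : Q ≤ T) (hQn : F.IsFullyNormalized Q)
    (hc : centralizerIn T Q ≤ Q) (hXR : X ≤ centralizerIn S T)
    (hXf : ∀ D : FusionSystem (centralizerIn S Q), F.IsCentralizerSystem Q D → X ≤ D.focalSubgroup) :
    ∀ a ∈ pEl p ↥(E.autGroup Q), CExt F X Q (afn (a : MulAut Q)) := by
  have hTS := hT.1
  haveI : Finite T := finite_of_le hTS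
  have hQS : Q ≤ S := hQT.trans hTS
  have hXS : X ≤ S := hXR.trans inf_le_left
  haveI : Finite (MulAut Q) := finite_mulAut (S := S) hQS
  obtain ⟨hfc, -⟩ := of_fullyNormalized hS hF hQn
  have hR : F.IsReceptive Q := receptive_of_fullyCentralized hS hF hfc
  have hTp : IsPGroup p T := hS.to_le hTS
  have hQnE : E.IsFullyNormalized Q := Cfsg.Agent.S5153.fullyNormalized_of_stronglyClosed hS hF hEF hT hQT hQn
  have hA : E.IsFullyAutomized p Q := (of_fullyNormalized hTp hEs hQnE).2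
  obtain ⟨-, R, hRdef⟩ := id hA
  let M : Subgroup ↥(E.autGroup Q) := (extSub F E X Q hEF hQT hTS hXS).subgroupOf (E.autGroup Q)
  have hle : pEl p ↥(E.autGroup Q) ≤ M := by
    refine pEl_le_of_sylow R M ?_ ?_
    · intro r hr
      rw [hRdef] at hr
      obtain ⟨t, ht, htc⟩ := mem_autInducedBy.1 (Subgroup.mem_subgroupOf.1 hr)
      refine Subgroup.mem_subgroupOf.2 ⟨r.2, cext_congr (cext_conj hQS hXS (hTS ht) (fun x hx => ?_)) (fun x hx => (htc x hx).symm)⟩
      have := (mem_centralizerIn.1 (hXR hx)).2 t ht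
      rw [this]
      group
    · intro a ha hcop
      refine Subgroup.mem_subgroupOf.2 ⟨a.2, ?_⟩
      obtain ⟨θ, hθ, hl⟩ := exists_lift hT hEF hQT hA hR hc a ha
      have hcop' : (orderOf (a : MulAut Q)).Coprime p := by rwa [Subgroup.orderOf_coe]
      obtain ⟨θ', hθ', hl', m, hm, hmp⟩ := exists_pprime_lift hQS hθ hl hcop'
      obtain ⟨D, hD⟩ := exists_centralizerSystem (F := F) hQS
      have hfix := core_fix hS hF hQS hfc hD hθ' hm hmp
      have hXD := hXf D hD
      have hXK : X ≤ KK S Q := fun x hx => Y_le_KK (focal_le D (hXD hx))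
      exact ⟨afn θ', (hθ'.toPres.maps hQS).restrict (sup_le le_sup_left hXK), hl', fun x hx => hfix x (hXD hx)⟩
  intro a ha
  exact (Subgroup.mem_subgroupOf.1 (hle ha)).2

lemma sc_conj_eq (hT : F.StronglyClosed T) {Q' : Subgroup Ω} (h : F.IsConj T Q') : Q' = T := by
  obtain ⟨f, hf, rfl⟩ := isConj_iff.1 h
  exact img_eq_of_card hf hT.1 hT.1 (fun x hx => StrongMem hT le_rfl hf hx) le_rfl

lemma sc_fullyNormalized (hT : F.StronglyClosed T) : F.IsFullyNormalized T := by
  refine ⟨hT.1, fun Q' h => ?_⟩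
  rw [sc_conj_eq hT h]

/-- At the level of `T`. -/
theorem level_T [Fact p.Prime] (hS : IsPGroup p S) (hF : F.IsSaturated p) (hE : E.IsNormalIn F p)
    {D : FusionSystem (centralizerIn S T)} (hD : F.IsCentralizerSystem T D) :
    ∀ a ∈ E.autGroup T, CExt F D.focalSubgroup T (afn a) := by
  have hinv := hE.1.2.2
  have hEF : E.IsSubsystemOf F := hinv.1
  have hT : F.StronglyClosed T := hinv.2.1
  have hEs := hE.1.1
  have hTS := hT.1
  haveI : Finite T := finite_of_le hTS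
  haveI : Finite (MulAut T) := finite_mulAut (S := S) hTS
  have hXR : D.focalSubgroup ≤ centralizerIn S T := focal_le D
  have hXS : D.focalSubgroup ≤ S := hXR.trans inf_le_left
  obtain ⟨hfc, -⟩ := of_fullyNormalized hS hF (sc_fullyNormalized hT)
  have hTp : IsPGroup p T := hS.to_le hTS
  have hnE : E.IsFullyNormalized T := Cfsg.Agent.S5153.fullyNormalized_of_stronglyClosed hS hF hEF hT le_rfl (sc_fullyNormalized hT)
  have hA : E.IsFullyAutomized p T := (of_fullyNormalized hTp hEs hnE).2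
  obtain ⟨-, R, hRdef⟩ := id hA
  let M : Subgroup ↥(E.autGroup T) := (extSub F E D.focalSubgroup T hEF le_rfl hTS hXS).subgroupOf (E.autGroup T)
  have hR : (R : Subgroup ↥(E.autGroup T)) ≤ M := by
    intro r hr
    rw [hRdef] at hr
    obtain ⟨t, ht, htc⟩ := mem_autInducedBy.1 (Subgroup.mem_subgroupOf.1 hr)
    refine Subgroup.mem_subgroupOf.2 ⟨r.2, cext_congr (cext_conj hTS hXS (hTS ht) (fun x hx => ?_)) (fun x hx => (htc x hx).symm)⟩
    have := (mem_centralizerIn.1 (hXR hx)).2 t ht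
    rw [this]
    group
  have hres : pResidual p ↥(E.autGroup T) ≤ M := by
    rw [pResidual, Subgroup.closure_le]
    intro a hcop
    refine Subgroup.mem_subgroupOf.2 ⟨a.2, ?_⟩
    obtain ⟨β, hβ, hβ1, hβ2⟩ := hE.2 a a.2
    have hWβ : Wk F T β := by
      refine ⟨⟨hβ, fun x hx => ?_⟩, fun y hy => ?_⟩
      · rw [afn_of_mem β (Q_le_KK hx)]
        have := hβ1 ⟨x, hx⟩
        have e : (Subgroup.inclusion (le_sup_left : T ≤ T ⊔ centralizerIn S T) ⟨x, hx⟩) = ⟨x, Q_le_KK hx⟩ := rfl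
        rw [e] at this
        rw [this]
        exact ((a : MulAut T) ⟨x, hx⟩).2
      · rw [afn_of_mem β (Y_le_KK hy)]
        exact (Subgroup.mem_inf.1 (hβ2 ⟨y, Y_le_KK hy⟩ hy)).1
    have hl : Lifts β (a : MulAut T) := by
      intro x hx
      rw [afn_of_mem β (Q_le_KK hx), afn_of_mem _ hx]
      exact hβ1 ⟨x, hx⟩
    have hcop' : (orderOf (a : MulAut T)).Coprime p := by
      have : (orderOf a).Coprime p := hcop
      rwa [Subgroup.orderOf_coe]
    obtain ⟨θ', hθ', hl', m, hm, hmp⟩ := exists_pprime_lift hTS hWβ hl hcop'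
    have hfix := core_fix hS hF hTS hfc hD hθ' hm hmp
    have hXK : D.focalSubgroup ≤ KK S T := fun x hx => Y_le_KK (focal_le D hx)
    exact ⟨afn θ', (hθ'.toPres.maps hTS).restrict (sup_le le_sup_left hXK), hl', fun x hx => hfix x hx⟩
  intro a ha
  obtain ⟨κ, hκ, r, hr, e⟩ := Cfsg.Agent.Lib.FusionHyperfocal.exists_pResidual_mul_sylow R ⟨a, ha⟩
  have : (⟨a, ha⟩ : ↥(E.autGroup T)) ∈ M := by
    rw [e]
    exact M.mul_mem (hres hκ) (hR hr)
  exact (Subgroup.mem_subgroupOf.1 this).2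

end Sub

end Cfsg.Agent.Lib.AschCore
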