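/-
AschGen: for `E ⊴ F` on `T`, the focal subgroup of `C_F(T)` centralizes `E`: generation by Alperin's theorem.
-/
import Mathlib
import Cfsg.Agent.Lib.AschMain

set_option autoImplicit false
set_option linter.unusedSectionVars false
set_option linter.unusedVariables false
set_option linter.unusedSimpArgs false
set_option linter.style.haveILetI false

namespace Cfsg.Agent.Lib.AschCore

open Cfsg Cfsg.FusionSystem Cfsg.Agent.Lib.FusionCore Cfsg.Agent.Lib.FusionCore2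
open Cfsg.Agent.Lib.FusionIndexPrime (pEl mem_pEl_of_pow pEl_normal ofMaps maps_ofMaps)
open Cfsg.Agent.Lib.FusionInvariant (Str Inv Frat isInvariantIn_iff str_of_inv_frat maps_sub StrongMem aut_maps)

universe u

variable {Ω : Type u} [Group Ω] {S T : Subgroup Ω} {F : FusionSystem S} {E : FusionSystem T} {p : ℕ} {Q : Subgroup Ω}

section Gen

variable [Finite S] {X : Subgroup Ω}

/-- Transport of extensions along a map carrying `X` onto `X`. -/
lemma cext_transport {P₁ : Subgroup Ω} {Φ f f' : Ω → Ω} (hΦ : Maps F (Q ⊔ X) Φ) (himgQ : img Φ Q = P₁)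
    (himgX : img Φ X = X) (hf : CExt F X P₁ f) (hfP : ∀ x ∈ P₁, f x ∈ P₁) (hf'Q : ∀ x ∈ Q, f' x ∈ Q)
    (he : ∀ x ∈ Q, Φ (f' x) = f (Φ x)) : CExt F X Q f' := by
  obtain ⟨ψ, hψ, hψ1, hψ2⟩ := hf
  obtain ⟨Φi, hΦi, hi1, -⟩ := hΦ.inv
  have himg : img Φ (Q ⊔ X) = P₁ ⊔ X := by rw [hΦ.img_sup, himgQ, himgX]
  rw [himg] at hΦi
  have hΦmem : ∀ x ∈ Q ⊔ X, Φ x ∈ P₁ ⊔ X := fun x hx => himg ▸ hΦ.mem_img_of_mem hx
  have hψmem : ∀ x ∈ P₁ ⊔ X, ψ x ∈ P₁ ⊔ X := hψ.sup_mem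
    (fun x hx => by rw [hψ1 x hx]; exact (le_sup_left : P₁ ≤ P₁ ⊔ X) (hfP x hx))
    (fun x hx => by rw [hψ2 x hx]; exact (le_sup_right : X ≤ P₁ ⊔ X) hx)
  refine ⟨Φi ∘ ψ ∘ Φ, hΦ.comp (hψ.comp hΦi hψmem) hΦmem, fun x hx => ?_, fun x hx => ?_⟩
  · simp only [Function.comp]
    have hΦx : Φ x ∈ P₁ := himgQ ▸ (hΦ.restrict le_sup_left).mem_img_of_mem hx
    rw [hψ1 _ hΦx, ← he x hx, hi1 _ ((le_sup_left : Q ≤ Q ⊔ X) (hf'Q x hx))]
  · have hΦx : Φ x ∈ X := himgX ▸ (hΦ.restrict le_sup_right).mem_img_of_mem hx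
    simp only [Function.comp]
    rw [hψ2 _ hΦx, hi1 x ((le_sup_right : X ≤ Q ⊔ X) hx)]

/-- The maps of `E` extending and fixing `X`. -/
def MM (F : FusionSystem S) (E : FusionSystem T) (X P : Subgroup Ω) (f : Ω → Ω) : Prop :=
  Maps E P f ∧ CExt F X P f

/-- The subsystem of `E` of the maps extending and fixing `X`. -/
noncomputable def MMsys (hEF : E.IsSubsystemOf F) (hTS : T ≤ S) (hXS : X ≤ S) (hX : ∀ t ∈ T, ∀ x ∈ X, t * x * t⁻¹ = x) :
    FusionSystem T :=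
  ofMaps E (MM F E X) (fun h => h.1) (fun h hfg => ⟨h.1.congr hfg, cext_congr h.2 hfg⟩)
    (fun {P g} hP hg => ⟨Maps.conj hP hg, cext_conj (hP.trans hTS) hXS (hTS hg) (hX g hg)⟩)
    (fun h1 h2 hfm => ⟨h1.1.comp h2.1 hfm, cext_comp h1.2 h2.2 hfm⟩)
    (fun {P f} h => by
      obtain ⟨g, hg, h1, h2⟩ := h.1.inv
      exact ⟨g, ⟨hg, cext_inv (maps_sub hEF h.1) h.2 h1⟩, h1⟩)

lemma maps_MMsys (hEF : E.IsSubsystemOf F) (hTS : T ≤ S) (hXS : X ≤ S) (hX : ∀ t ∈ T, ∀ x ∈ X, t * x * t⁻¹ = x)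
    {P : Subgroup Ω} {f : Ω → Ω} : Maps (MMsys hEF hTS hXS hX) P f ↔ MM F E X P f := by
  constructor
  · rintro ⟨φ, hφ, h⟩
    have h0 : MM F E X P (fn φ) := hφ
    have hfg : ∀ x ∈ P, fn φ x = f x := fun x hx => by rw [fn_of_mem _ hx]; exact h ⟨x, hx⟩
    exact ⟨h0.1.congr hfg, cext_congr h0.2 hfg⟩
  · intro h
    have hm := h.1
    refine ⟨hm.hom, ?_, hm.hom_apply⟩
    have hfg : ∀ x ∈ P, f x = fn hm.hom x := fun x hx => by rw [fn_of_mem _ hx, hm.hom_apply]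
    exact (⟨h.1.congr hfg, cext_congr h.2 hfg⟩ : MM F E X P (fn hm.hom))

/-- The transport step. -/
theorem transport_step [Fact p.Prime] (hS : IsPGroup p S) (hF : F.IsSaturated p) (hE : E.IsNormalIn F p)
    {D : FusionSystem (centralizerIn S T)} (hD : F.IsCentralizerSystem T D) (hQT : Q ≤ T)
    (hFA : E.IsFullyAutomized p Q) (hRec : E.IsReceptive Q) (hc : centralizerIn T Q ≤ Q) (hlt : Q < T)
    (IH : ∀ (R : Subgroup Ω) (f : Ω → Ω), Nat.card Q < Nat.card R → Maps E R f → CExt F D.focalSubgroup R f)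
    (α : ↥(E.autGroup Q)) {k : ℕ} (hk : orderOf α = p ^ k) : CExt F D.focalSubgroup Q (afn (α : MulAut Q)) := by
  have hinv := hE.1.2.2
  have hEF : E.IsSubsystemOf F := hinv.1
  have hT : F.StronglyClosed T := hinv.2.1
  have hEs := hE.1.1
  have hTS := hT.1
  haveI : Finite T := finite_of_le hTS
  have hQS : Q ≤ S := hQT.trans hTS
  have hTp : IsPGroup p T := hS.to_le hTS
  obtain ⟨-, -, hInv, hFr⟩ := isInvariantIn_iff.1 hinv
  have hStr : Str F E := str_of_inv_frat hT @hInv @hFr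
  set X := D.focalSubgroup with hXdef
  have hXR : X ≤ centralizerIn S T := focal_le D
  have hXS : X ≤ S := hXR.trans inf_le_left
  obtain ⟨P₁, hQP₁, hP₁n⟩ := exists_fullyNormalized_conj (F := F) hQS
  obtain ⟨f₁, hf₁, hf₁img⟩ := isConj_iff.1 hQP₁
  obtain ⟨a, ha, f₀, hf₀, h1⟩ := hFr hQT hf₁
  have hP₁T : P₁ ≤ T := by
    rw [← hf₁img]
    exact Cfsg.Agent.Lib.FusionInvariant.strong_img_le hT hQT hf₁
  have hP₁S : P₁ ≤ S := hP₁T.trans hTS
  have hQ'T : img f₀ Q ≤ T := hf₀.img_le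
  have hcE : E.IsConj (img f₀ Q) Q := IsConj_symm (isConj_iff.2 ⟨f₀, hf₀, rfl⟩)
  obtain ⟨ρ, hρ, -, hρimg⟩ := exists_normalizer_map hTp hFA hRec hcE
  have hcard' : Nat.card (img f₀ Q) = Nat.card Q := hf₀.card_img
  have hQ'lt : img f₀ Q < T := by
    refine lt_of_le_of_ne hQ'T (fun h => ?_)
    have := Cfsg.Agent.Lib.FusionAlperin.card_lt_of_lt hlt
    rw [← h, hcard'] at this
    exact lt_irrefl _ this
  have hNlt := Cfsg.Agent.Lib.FusionAlperin.lt_normalizerIn hTp hQ'lt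
  haveI : Finite (normalizerIn T (img f₀ Q)) := finite_of_le inf_le_left
  have hcN : Nat.card Q < Nat.card (normalizerIn T (img f₀ Q)) := by
    rw [← hcard']
    exact Cfsg.Agent.Lib.FusionAlperin.card_lt_of_lt hNlt
  have hρext := IH _ ρ hcN hρ
  have hρQ' : Maps E (img f₀ Q) ρ := hρ.restrict hNlt.le
  have hρext' : CExt F X (img f₀ Q) ρ := cext_restrict hρext hNlt.le
  obtain ⟨ρi, hρi, hi1, hi2⟩ := hρQ'.inv
  rw [hρimg] at hρi hi2
  have hρiext : CExt F X Q ρi := by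
    have := cext_inv (maps_sub hEF hρQ') hρext' hi1
    rwa [hρimg] at this
  -- the automorphism of `T`
  have hTn := sc_fullyNormalized hT
  have hTc := (of_fullyNormalized hS hF hTn).1
  have hTR : F.IsReceptive T := receptive_of_fullyCentralized hS hF hTc
  obtain ⟨θa, hθa, hθa1⟩ := exists_pres hTS hTR (aut_maps hT ha) (afn_img a)
  obtain ⟨gi, hgi, hgi1, hgi2⟩ := hρiext
  have hgiK : ∀ x ∈ Q ⊔ X, gi x ∈ KK S T := hgi.sup_mem
    (fun x hx => by rw [hgi1 x hx]; exact Q_le_KK (hQ'T (hi2 x hx).1))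
    (fun x hx => by rw [hgi2 x hx]; exact Y_le_KK (hXR hx))
  have hΦ : Maps F (Q ⊔ X) (afn θa ∘ gi) := hgi.comp (hθa.maps hTS) hgiK
  set Φ := afn θa ∘ gi with hΦdef
  have hΦQ : Maps F Q Φ := hΦ.restrict le_sup_left
  have hΦx : ∀ x ∈ Q, Φ x = afn a (ρi x) := fun x hx => by
    simp only [hΦdef, Function.comp]
    rw [hgi1 x hx, hθa1 _ (hQ'T (hi2 x hx).1)]
  have hmemP₁ : ∀ y ∈ img f₀ Q, afn a y ∈ P₁ := by
    intro y hy
    obtain ⟨z, hz, rfl⟩ := hf₀.mem_img.1 hy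
    rw [← h1 z hz, ← hf₁img]
    exact hf₁.mem_img_of_mem hz
  have himgQ : img Φ Q = P₁ := img_eq_of_card hΦQ hQS hP₁S
    (fun x hx => by rw [hΦx x hx]; exact hmemP₁ _ (hi2 x hx).1)
    (by rw [← hf₁img, hf₁.card_img])
  have hΦX : ∀ x ∈ X, Φ x ∈ X := fun x hx => by
    simp only [hΦdef, Function.comp]
    rw [hgi2 x hx]
    exact hθa.focal_inv hTS hD x hx
  have himgX : img Φ X = X := img_eq_of_card (hΦ.restrict le_sup_right) hXS hXS hΦX le_rfl
  -- the transported automorphism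
  have hαE : Maps E Q (afn (α : MulAut Q)) := (mem_autGroup_iff hQT).1 α.2
  obtain ⟨kk, hkk, hkk1⟩ := hStr le_rfl hQT hαE (fun x hx => afn_mem _ hx) hΦQ
  rw [himgQ] at hkk
  let α₂ : MulAut P₁ := MulAut.congr (hΦQ.equiv himgQ) (α : MulAut Q)
  have hα₂ : ∀ x ∈ Q, afn α₂ (Φ x) = Φ (afn (α : MulAut Q) x) := fun x hx => hΦQ.afn_congr himgQ _ hx
  have hα₂E : α₂ ∈ E.autGroup P₁ := by
    refine (mem_autGroup_iff hP₁T).2 (hkk.congr fun y hy => ?_)
    rw [← himgQ] at hy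
    obtain ⟨x, hx, rfl⟩ := hΦQ.mem_img.1 hy
    rw [hkk1 x hx, hα₂ x hx]
  have hα₂p : (⟨α₂, hα₂E⟩ : ↥(E.autGroup P₁)) ∈ pEl p ↥(E.autGroup P₁) := by
    refine Subgroup.subset_closure ⟨k, ?_⟩
    rw [Subgroup.orderOf_mk]
    show orderOf (MulAut.congr (hΦQ.equiv himgQ) (α : MulAut Q)) = _
    rw [MulEquiv.orderOf_eq, Subgroup.orderOf_coe, hk]
  -- the centralizer of `P₁` in `T`
  have hc₁ : centralizerIn T P₁ ≤ P₁ := by
    intro c hcm
    have hcT : c ∈ T := (mem_centralizerIn.1 hcm).1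
    have hai := aut_maps hT (Subgroup.inv_mem _ ha)
    have haa := aut_maps hT ha
    have hdT : afn a⁻¹ c ∈ T := afn_mem a⁻¹ hcT
    have hd : afn a⁻¹ c ∈ centralizerIn T (img f₀ Q) := by
      refine mem_centralizerIn.2 ⟨hdT, fun q hq => ?_⟩
      have hqT := hQ'T hq
      have e := (mem_centralizerIn.1 hcm).2 _ (hmemP₁ q hq)
      have e1 := congrArg (afn a⁻¹) e
      rw [hai.map_mul (afn_mem a hqT) hcT, hai.map_mul hcT (afn_mem a hqT), afn_inv_afn a hqT] at e1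
      exact e1
    have hdN : afn a⁻¹ c ∈ normalizerIn T (img f₀ Q) := le_normalizerIn_of_centralizerIn T _ hd
    have hρd : ρ (afn a⁻¹ c) ∈ centralizerIn T Q := by
      refine mem_centralizerIn.2 ⟨hρ.mem hdN, fun y hy => ?_⟩
      rw [← hρimg] at hy
      obtain ⟨q, hq, rfl⟩ := hρQ'.mem_img.1 hy
      have hqN := hNlt.le hq
      rw [← hρ.map_mul hqN hdN, (mem_centralizerIn.1 hd).2 q hq, hρ.map_mul hdN hqN]
    have hρdQ : ρ (afn a⁻¹ c) ∈ img ρ (img f₀ Q) := by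
      rw [hρimg]
      exact hc hρd
    obtain ⟨q, hq, hqe⟩ := hρQ'.mem_img.1 hρdQ
    have hqd := hρ.inj (hNlt.le hq) hdN hqe
    have := hmemP₁ q hq
    rwa [hqd, afn_afn_inv a hcT] at this
  have hXf : ∀ D₁ : FusionSystem (centralizerIn S P₁), F.IsCentralizerSystem P₁ D₁ → X ≤ D₁.focalSubgroup :=
    fun D₁ hD₁ => focal_mono hP₁T hD₁ hD
  have hlev := level_nf hS hF hT hEF hEs hP₁T hP₁n hc₁ hXR hXf _ hα₂p
  exact cext_transport hΦ himgQ himgX hlev (fun x hx => afn_mem _ hx) (fun x hx => afn_mem _ hx)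
    (fun x hx => (hα₂ x hx).symm)

/-- **Aschbacher.** For `E ⊴ F` on `T`, every map of `E` extends to a map fixing the focal subgroup of `C_F(T)`. -/
theorem focal_centralizes [Fact p.Prime] (hS : IsPGroup p S) (hF : F.IsSaturated p) (hE : E.IsNormalIn F p)
    {D : FusionSystem (centralizerIn S T)} (hD : F.IsCentralizerSystem T D) {P : Subgroup Ω} {f : Ω → Ω}
    (hf : Maps E P f) : CExt F D.focalSubgroup P f := by
  have hinv := hE.1.2.2
  have hEF : E.IsSubsystemOf F := hinv.1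
  have hT : F.StronglyClosed T := hinv.2.1
  have hEs := hE.1.1
  have hTS := hT.1
  haveI : Finite T := finite_of_le hTS
  have hTp : IsPGroup p T := hS.to_le hTS
  have hXR : D.focalSubgroup ≤ centralizerIn S T := focal_le D
  have hXS : D.focalSubgroup ≤ S := hXR.trans inf_le_left
  have hX : ∀ t ∈ T, ∀ x ∈ D.focalSubgroup, t * x * t⁻¹ = x := by
    intro t ht x hx
    rw [(mem_centralizerIn.1 (hXR hx)).2 t ht]
    group
  let M : FusionSystem T := MMsys hEF hTS hXS hX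
  have hM : ∀ {R : Subgroup Ω} {g : Ω → Ω}, Maps M R g ↔ MM F E D.focalSubgroup R g := maps_MMsys hEF hTS hXS hX
  have hEM : ∀ R : Subgroup Ω, M.Hom R ⊆ E.Hom R := by
    intro R φ hφ
    exact (hM.1 (Maps.of_mem hφ)).1.mem_hom (fun x => (fn_coe φ x).symm)
  have hall : ∀ R : Subgroup Ω, E.Hom R ⊆ M.Hom R := by
    refine Cfsg.Agent.Lib.FusionAlperin.alperin hTp hEs hEM ?_
    intro Q hQT hFA hRec hc IH φ hφ hr
    have hmφ := Maps.of_mem hφ
    have himgφ : img (fn φ) Q = Q := by rw [img_eq_range φ (fun x => (fn_coe φ x).symm), hr]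
    have IH' : ∀ (R : Subgroup Ω) (f : Ω → Ω), Nat.card Q < Nat.card R → Maps E R f → CExt F D.focalSubgroup R f := by
      intro R f hc hf
      have h1 := IH R hc hf.hom_mem
      have h2 := (hM.1 (Maps.of_mem h1)).2
      exact cext_congr h2 (fun x hx => by rw [fn_of_mem _ hx, hf.hom_apply])
    by_cases hQeq : Q = T
    · subst hQeq
      have hlev := level_T hS hF hE hD (hmφ.toAut himgφ) (hmφ.toAut_mem himgφ)
      have := cext_congr hlev (fun x hx => hmφ.afn_toAut himgφ hx)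
      exact (hM.2 ⟨hmφ, this⟩).mem_hom (fun x => (fn_coe φ x).symm)
    · have hlt : Q < T := lt_of_le_of_ne hQT hQeq
      have hNlt := Cfsg.Agent.Lib.FusionAlperin.lt_normalizerIn hTp hlt
      obtain ⟨t, htN, htQ⟩ := SetLike.exists_of_lt hNlt
      have htT : t ∈ T := (mem_normalizerIn.1 htN).1
      have htn : t ∈ Subgroup.normalizer (Q : Set Ω) := (mem_normalizerIn.1 htN).2
      have hclaim : ∀ α ∈ pEl p ↥(E.autGroup Q), CExt F D.focalSubgroup Q (afn (α : MulAut Q)) := by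
        have hQS : Q ≤ S := hQT.trans hTS
        have hle : pEl p ↥(E.autGroup Q) ≤ (extSub F E D.focalSubgroup Q hEF hQT hTS hXS).subgroupOf (E.autGroup Q) := by
          rw [pEl, Subgroup.closure_le]
          rintro α ⟨k, hk⟩
          exact Subgroup.mem_subgroupOf.2 ⟨α.2, transport_step hS hF hE hD hQT hFA hRec hc hlt IH' α hk⟩
        intro α hα
        exact (Subgroup.mem_subgroupOf.1 (hle hα)).2
      refine Cfsg.Agent.Lib.FusionAlperin.aut_mem_of_normal hFA hRec IH (pEl p ↥(E.autGroup Q)) ?_ htT htn htQ ?_ φ hφ hr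
      · intro α hα
        have hmα : Maps E Q (afn (α : MulAut Q)) := (mem_autGroup_iff hQT).1 α.2
        exact (hM.2 ⟨hmα, hclaim α hα⟩).mem_hom (fun x => by rw [afn_of_mem _ x.2]; rfl)
      · intro h
        obtain ⟨n, hn⟩ := hTp ⟨t, htT⟩
        have htpow : t ^ p ^ n = 1 := by simpa using congrArg Subtype.val hn
        refine mem_pEl_of_pow (n := n) (Subtype.ext ?_)
        show (Cfsg.Agent.Lib.FusionAlperin.conjAut Q t htn) ^ p ^ n = 1
        have e : Cfsg.Agent.Lib.FusionAlperin.conjAut Q t htn ^ p ^ n = Q.normalizerMonoidHom (⟨t, htn⟩ ^ p ^ n) := by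
          rw [map_pow]
          rfl
        rw [e]
        have e2 : (⟨t, htn⟩ : ↥(Subgroup.normalizer (Q : Set Ω))) ^ p ^ n = 1 := Subtype.ext htpow
        rw [e2, map_one]
  have h1 := hall P hf.hom_mem
  have h2 := (hM.1 (Maps.of_mem h1)).2
  exact cext_congr h2 (fun x hx => by rw [fn_of_mem _ hx, hf.hom_apply])

/-- The maps of `E` lie in the centralizer system of `X`, for `X` as in `focal_centralizes`. -/
theorem mem_centralizerHom (hEF : E.IsSubsystemOf F) (hTS : T ≤ S) (hXR : X ≤ centralizerIn S T) {P : Subgroup Ω}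
    {φ : P →* Ω} (hφ : φ ∈ E.Hom P) (h : CExt F X P (fn φ)) : φ ∈ F.centralizerHom X P := by
  have hXS : X ≤ S := hXR.trans inf_le_left
  have hTC : T ≤ centralizerIn S X := fun t ht => mem_centralizerIn.2 ⟨hTS ht, fun x hx =>
    ((mem_centralizerIn.1 (hXR hx)).2 t ht).symm⟩
  exact ⟨hEF P hφ, (E.le_of_mem hφ).1.trans hTC, fun x => hTC ((E.le_of_mem hφ).2 x), cExt_iff_exists.2 h⟩

end Gen

end Cfsg.Agent.Lib.AschCore
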