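/-
AschFix: the fixed points and the image of an automorphism of `Q C_S(Q)` acting trivially on `C_S(Q)` modulo `Q`.
-/
import Mathlib
import Cfsg.Agent.Lib.AschGen

set_option autoImplicit false
set_option linter.unusedSectionVars false
set_option linter.unusedVariables false
set_option linter.unusedSimpArgs false
set_option linter.style.haveILetI false

namespace Cfsg.Agent.Lib.AschCore

open Cfsg Cfsg.FusionSystem Cfsg.Agent.Lib.FusionCore Cfsg.Agent.Lib.FusionCore2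
open scoped commutatorElement

universe u

variable {Ω : Type u} [Group Ω] {S : Subgroup Ω} {F : FusionSystem S} {p : ℕ} {Q : Subgroup Ω}

section Fix

variable [Finite S] {θ : MulAut ↥(KK S Q)}

local notation "Y" => centralizerIn S Q

/-- Multiplicativity of `y ↦ y⁻¹ θ(y)`. -/
lemma Wk.lam_mul (hQS : Q ≤ S) (h : Wk F Q θ) {a b : Ω} (ha : a ∈ Y) (hb : b ∈ Y) :
    (a * b)⁻¹ * afn θ (a * b) = (a⁻¹ * afn θ a) * (b⁻¹ * afn θ b) := by
  have hgm := h.toPres.maps hQS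
  rw [hgm.map_mul (Y_le_KK ha) (Y_le_KK hb)]
  have e := h.z_comm hQS ha (Subgroup.inv_mem _ hb)
  calc (a * b)⁻¹ * (afn θ a * afn θ b) = b⁻¹ * (a⁻¹ * afn θ a) * afn θ b := by group
    _ = (a⁻¹ * afn θ a) * b⁻¹ * afn θ b := by rw [e]
    _ = _ := by group

/-- The fixed points on `C_S(Q)`. -/
def kerW (hQS : Q ≤ S) (h : Wk F Q θ) : Subgroup Ω where
  carrier := {y | y ∈ Y ∧ afn θ y = y}
  mul_mem' := by
    rintro a b ⟨ha, ha'⟩ ⟨hb, hb'⟩
    exact ⟨Subgroup.mul_mem _ ha hb, by rw [(h.toPres.maps hQS).map_mul (Y_le_KK ha) (Y_le_KK hb), ha', hb']⟩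
  one_mem' := ⟨Subgroup.one_mem _, (h.toPres.maps hQS).map_one⟩
  inv_mem' := by
    rintro a ⟨ha, ha'⟩
    exact ⟨Subgroup.inv_mem _ ha, by rw [(h.toPres.maps hQS).map_inv (Y_le_KK ha), ha']⟩

lemma mem_kerW {hQS : Q ≤ S} {h : Wk F Q θ} {y : Ω} : y ∈ kerW hQS h ↔ y ∈ Y ∧ afn θ y = y := Iff.rfl

/-- The image of `y ↦ y⁻¹ θ(y)`. -/
def imW (hQS : Q ≤ S) (h : Wk F Q θ) : Subgroup Ω where
  carrier := {z | ∃ y ∈ Y, z = y⁻¹ * afn θ y}
  mul_mem' := by
    rintro _ _ ⟨a, ha, rfl⟩ ⟨b, hb, rfl⟩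
    exact ⟨a * b, Subgroup.mul_mem _ ha hb, (h.lam_mul hQS ha hb).symm⟩
  one_mem' := ⟨1, Subgroup.one_mem _, by rw [(h.toPres.maps hQS).map_one]; simp⟩
  inv_mem' := by
    rintro _ ⟨a, ha, rfl⟩
    refine ⟨a⁻¹, Subgroup.inv_mem _ ha, ?_⟩
    have e := h.lam_mul hQS ha (Subgroup.inv_mem _ ha)
    rw [mul_inv_cancel, (h.toPres.maps hQS).map_one] at e
    simp only [inv_one, mul_one] at e
    exact inv_eq_of_mul_eq_one_right e.symm

lemma kerW_le (hQS : Q ≤ S) (h : Wk F Q θ) : kerW hQS h ≤ Y := fun y hy => hy.1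

lemma imW_le (hQS : Q ≤ S) (h : Wk F Q θ) : imW hQS h ≤ Y := by
  rintro _ ⟨a, ha, rfl⟩
  exact h.z_mem_Y hQS ha

lemma imW_mem_Q (hQS : Q ≤ S) (h : Wk F Q θ) {z : Ω} (hz : z ∈ imW hQS h) : z ∈ Q := by
  obtain ⟨a, ha, rfl⟩ := hz
  exact h.hY a ha

/-- The commutators of `C_S(Q)` are fixed. -/
lemma comm_le_kerW (hQS : Q ≤ S) (h : Wk F Q θ) : ⁅Y, Y⁆ ≤ kerW hQS h := by
  have hgm := h.toPres.maps hQS
  rw [Subgroup.commutator_le]
  intro a ha b hb
  refine ⟨?_, ?_⟩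
  · simpa [commutatorElement_def] using
      Subgroup.mul_mem _ (Subgroup.mul_mem _ (Subgroup.mul_mem _ ha hb) (Subgroup.inv_mem _ ha)) (Subgroup.inv_mem _ hb)
  · have hKa := Y_le_KK ha
    have hKb := Y_le_KK hb
    set g := afn θ with hg
    have hca : g a = a * (a⁻¹ * g a) := by group
    have hcb : g b = b * (b⁻¹ * g b) := by group
    have e1 : g ⁅a, b⁆ = ⁅g a, g b⁆ := by
      rw [commutatorElement_def, commutatorElement_def,
        hgm.map_mul (KK S Q |>.mul_mem (KK S Q |>.mul_mem hKa hKb) (KK S Q |>.inv_mem hKa)) (KK S Q |>.inv_mem hKb),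
        hgm.map_mul (KK S Q |>.mul_mem hKa hKb) (KK S Q |>.inv_mem hKa),
        hgm.map_mul hKa hKb, hgm.map_inv hKa, hgm.map_inv hKb]
    rw [e1]
    have hza := h.z_comm hQS ha hb
    have hzb := h.z_comm hQS hb ha
    have hzab := h.z_comm hQS ha (h.z_mem_Y hQS hb)
    have hzb' : (b⁻¹ * g b) * a⁻¹ = a⁻¹ * (b⁻¹ * g b) := h.z_comm hQS hb (Subgroup.inv_mem _ ha)
    set za := a⁻¹ * g a
    set zb := b⁻¹ * g b
    rw [hca, hcb, commutatorElement_def, commutatorElement_def]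
    have e2 : a * za * (b * zb) * (a * za)⁻¹ * (b * zb)⁻¹ = a * (za * b) * zb * za⁻¹ * a⁻¹ * zb⁻¹ * b⁻¹ := by group
    rw [e2, hza]
    have e3 : a * (b * za) * zb * za⁻¹ * a⁻¹ * zb⁻¹ * b⁻¹ = a * b * (za * zb) * za⁻¹ * a⁻¹ * zb⁻¹ * b⁻¹ := by group
    rw [e3, hzab]
    have e4 : a * b * (zb * za) * za⁻¹ * a⁻¹ * zb⁻¹ * b⁻¹ = a * (b * zb * a⁻¹) * zb⁻¹ * b⁻¹ := by group
    rw [e4]
    have e5 : a * (b * zb * a⁻¹) * zb⁻¹ * b⁻¹ = a * b * (zb * a⁻¹) * zb⁻¹ * b⁻¹ := by group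
    rw [e5, hzb']
    group

/-- The part of the image in the focal subgroup is fixed. -/
lemma imW_inf_focal_le [Fact p.Prime] (hS : IsPGroup p S) (hF : F.IsSaturated p) (hQS : Q ≤ S)
    (hQc : F.IsFullyCentralized Q) {D : FusionSystem (centralizerIn S Q)} (hD : F.IsCentralizerSystem Q D)
    (h : Wk F Q θ) : imW hQS h ⊓ D.focalSubgroup ≤ kerW hQS h := by
  have hYS : Y ≤ S := inf_le_left
  have : Finite Y := finite_of_le hYS
  have hDs : D.IsSaturated p := Cfsg.Agent.Lib.FusionSatNorm.saturated_centralizer hS hF hQc hD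
  have hYp : IsPGroup p Y := hS.to_le hYS
  refine Cfsg.Agent.Lib.FusionFocalCtl.mem_of_stable hYp hDs (kerW_le hQS h) (comm_le_kerW hQS h) (imW_le hQS h) ?_
  intro a ha R f hf haR
  rw [maps_cent_fix hD hf haR (imW_mem_Q hQS h ha)]
  simpa using (kerW hQS h).one_mem

/-- A fixed point in the image is trivial if the order of `θ` is prime to `p`. -/
lemma imW_kerW_triv [Fact p.Prime] (hS : IsPGroup p S) (hQS : Q ≤ S) (h : Wk F Q θ) {m : ℕ} (hm : θ ^ m = 1)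
    (hmp : m.Coprime p) {z : Ω} (hz : z ∈ imW hQS h) (hz' : z ∈ kerW hQS h) : z = 1 := by
  obtain ⟨y, hy, rfl⟩ := hz
  have hgm := h.toPres.maps hQS
  have hz := hz'.2
  set g := afn θ with hg
  set z := y⁻¹ * g y with hzdef
  have hzY : z ∈ Y := h.z_mem_Y hQS hy
  have hzKK : z ∈ KK S Q := Y_le_KK hzY
  have hYK := Y_le_KK hy
  have hpow : ∀ k : ℕ, afn (θ ^ k) y = y * z ^ k := by
    intro k
    induction k with
    | zero => rw [pow_zero, pow_zero, afn_one hYK, mul_one]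
    | succ k ih =>
      rw [pow_succ', afn_mul θ (θ ^ k) hYK, ih]
      show g (y * z ^ k) = _
      rw [hgm.map_mul hYK ((KK S Q).pow_mem hzKK k), hgm.map_pow hzKK, hz]
      have e : g y = y * z := by rw [hzdef]; group
      rw [e, pow_succ', mul_assoc]
  have h1 := hpow m
  rw [hm, afn_one hYK] at h1
  have h2 : z ^ m = 1 := by
    have := mul_left_cancel (a := y) (b := 1) (c := z ^ m) (by rw [mul_one]; exact h1)
    exact this.symm
  obtain ⟨n, hn⟩ := hS ⟨z, (inf_le_left : Y ≤ S) hzY⟩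
  have h3 : z ^ p ^ n = 1 := by
    have := congrArg Subtype.val hn
    simpa using this
  have hd : orderOf z ∣ Nat.gcd m (p ^ n) := Nat.dvd_gcd (orderOf_dvd_of_pow_eq_one h2) (orderOf_dvd_of_pow_eq_one h3)
  have hg1 : Nat.gcd m (p ^ n) = 1 := Nat.Coprime.pow_right n hmp
  rw [hg1, Nat.dvd_one, orderOf_eq_one_iff] at hd
  exact hd

/-- If `y⁻¹ θ(y)` lies in the focal subgroup of `C_F(Q)`, with `θ` of order prime to `p`, then `θ` fixes `y`. -/
theorem core_triv [Fact p.Prime] (hS : IsPGroup p S) (hF : F.IsSaturated p) (hQS : Q ≤ S)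
    (hQc : F.IsFullyCentralized Q) {D : FusionSystem (centralizerIn S Q)} (hD : F.IsCentralizerSystem Q D)
    (h : Wk F Q θ) {m : ℕ} (hm : θ ^ m = 1) (hmp : m.Coprime p) {y : Ω} (hy : y ∈ Y)
    (hf : y⁻¹ * afn θ y ∈ D.focalSubgroup) : afn θ y = y := by
  have hzC : y⁻¹ * afn θ y ∈ imW hQS h := ⟨y, hy, rfl⟩
  have := imW_kerW_triv hS hQS h hm hmp hzC (imW_inf_focal_le hS hF hQS hQc hD h ⟨hzC, hf⟩)
  rw [inv_mul_eq_one] at this
  exact this.symm

/-- A version for maps: if `g` on `Q ⊔ W` extends the action of `θ` on `Q` and fixes `W ≤ C_S(Q)`, then `θ` of order prime to `p` fixes `W`. -/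
theorem fix_of_cext [Fact p.Prime] (hS : IsPGroup p S) (hF : F.IsSaturated p) (hQS : Q ≤ S)
    (hQc : F.IsFullyCentralized Q) (h : Wk F Q θ) {m : ℕ} (hm : θ ^ m = 1) (hmp : m.Coprime p)
    {W : Subgroup Ω} (hW : W ≤ Y) (hc : CExt F W Q (afn θ)) : ∀ y ∈ W, afn θ y = y := by
  obtain ⟨D, hD⟩ := exists_centralizerSystem (F := F) hQS
  obtain ⟨g, hg, hg1, hg2⟩ := hc
  have hi := h.inv hQS
  have hiw : (θ⁻¹) ^ m = 1 := by rw [inv_pow, hm, inv_one]
  intro y hy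
  have hyY := hW hy
  have hyK := Y_le_KK hyY
  have hyq : y ∈ Q ⊔ W := (le_sup_right : W ≤ Q ⊔ W) hy
  -- the map `θ⁻¹ ∘ g` fixes `Q`
  have hgK : ∀ x ∈ Q ⊔ W, g x ∈ KK S Q := hg.sup_mem
    (fun x hx => by rw [hg1 x hx]; exact afn_mem θ (Q_le_KK hx))
    (fun x hx => by rw [hg2 x hx]; exact Y_le_KK (hW hx))
  have hcomp : Maps F (Q ⊔ W) (afn θ⁻¹ ∘ g) := hg.comp (hi.toPres.maps hQS) hgK
  have hz : Subgroup.zpowers y ≤ W := Subgroup.zpowers_le.2 hy
  have hzY : Subgroup.zpowers y ≤ Y := hz.trans hW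
  have hmD : Maps D (Subgroup.zpowers y) (afn θ⁻¹ ∘ g) := by
    refine (maps_cent hD).2 ⟨hcomp.restrict (hz.trans le_sup_right), hzY, fun x hx => ?_, ?_⟩
    · simp only [Function.comp]
      rw [hg2 x (hz hx)]
      exact hi.toPres.memY hQS (hzY hx)
    · refine ⟨afn θ⁻¹ ∘ g, ?_, fun _ _ => rfl, fun q hq => ?_⟩
      · refine hcomp.restrict ?_
        rw [sup_comm]
        exact sup_le_sup_left hz Q
      · simp only [Function.comp]
        rw [hg1 q hq, afn_inv_afn θ (Q_le_KK hq)]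
  have hfoc := focal_gen hmD (Subgroup.mem_zpowers y)
  simp only [Function.comp] at hfoc
  rw [hg2 y hy] at hfoc
  have := core_triv hS hF hQS hQc hD hi hiw ((Nat.Coprime.symm hmp).symm) hyY hfoc
  calc afn θ y = afn θ (afn θ⁻¹ y) := by rw [this]
    _ = y := afn_afn_inv θ hyK

end Fix

end Cfsg.Agent.Lib.AschCore
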