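/-
AschFam: for `E ⊴ F` on `T`, the family of the subgroups `Y ≤ C_S(T)` with `E ≤ C_F(Y)` has a largest member.
-/
import Mathlib
import Cfsg.Agent.Lib.AschFix

set_option autoImplicit false
set_option linter.unusedSectionVars false
set_option linter.unusedVariables false
set_option linter.unusedSimpArgs false
set_option linter.style.haveILetI false

namespace Cfsg.Agent.Lib.AschCore

open Cfsg Cfsg.FusionSystem Cfsg.Agent.Lib.FusionCore Cfsg.Agent.Lib.FusionCore2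
open Cfsg.Agent.Lib.FusionIndexPrime (pEl mem_pEl_of_pow pEl_normal ofMaps maps_ofMaps)
open Cfsg.Agent.Lib.FusionInvariant (Str Inv Frat isInvariantIn_iff str_of_inv_frat maps_sub StrongMem aut_maps)

universe u

variable {Ω : Type u} [Group Ω] {S T : Subgroup Ω} {F : FusionSystem S} {E : FusionSystem T} {p : ℕ} {Q : Subgroup Ω}

/-- The abstract properties of a subgroup `X` used for the extension theorem. -/
structure Fx (F : FusionSystem S) (E : FusionSystem T) (p : ℕ) (X : Subgroup Ω) : Prop where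
  le : X ≤ centralizerIn S T
  inv : ∀ θ : MulAut ↥(KK S T), Pres F T θ → ∀ x ∈ X, afn θ x ∈ X
  fix : ∀ Q : Subgroup Ω, Q ≤ T → F.IsFullyNormalized Q → centralizerIn T Q ≤ Q →
    ∀ (θ : MulAut ↥(KK S Q)) (a : MulAut Q), Wk F Q θ → a ∈ E.autGroup Q → Lifts θ a →
      ∀ m : ℕ, θ ^ m = 1 → m.Coprime p → ∀ x ∈ X, afn θ x = x

section Sub

variable [Finite S] {X : Subgroup Ω}

/-- At a fully normalized subgroup, `O^{p'}(Aut_E(Q))` extends, fixing `X`. -/
theorem level_nf' [Fact p.Prime] (hS : IsPGroup p S) (hF : F.IsSaturated p) (hT : F.StronglyClosed T)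
    (hEF : E.IsSubsystemOf F) (hEs : E.IsSaturated p) (hQT : Q ≤ T) (hQn : F.IsFullyNormalized Q)
    (hc : centralizerIn T Q ≤ Q) (hX : Fx F E p X) :
    ∀ a ∈ pEl p ↥(E.autGroup Q), CExt F X Q (afn (a : MulAut Q)) := by
  have hTS := hT.1
  have hXR := hX.le
  haveI : Finite T := finite_of_le hTS
  have hQS : Q ≤ S := hQT.trans hTS
  have hXS : X ≤ S := hXR.trans inf_le_left
  haveI : Finite (MulAut Q) := finite_mulAut (S := S) hQS
  obtain ⟨hfc, -⟩ := of_fullyNormalized hS hF hQn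
  have hR : F.IsReceptive Q := receptive_of_fullyCentralized hS hF hfc
  have hTp : IsPGroup p T := hS.to_le hTS
  have hQnE : E.IsFullyNormalized Q := Cfsg.Agent.S5153.fullyNormalized_of_stronglyClosed hS hF hEF hT hQT hQn
  have hA : E.IsFullyAutomized p Q := (of_fullyNormalized hTp hEs hQnE).2
  obtain ⟨-, R, hRdef⟩ := id hA
  let M : Subgroup ↥(E.autGroup Q) := (extSub F E X Q hEF hQT hTS hXS).subgroupOf (E.autGroup Q)
  have hle : pEl p ↥(E.autGroup Q) ≤ M := by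
    refine pEl_le_of_sylow R M ?_ ?_
    · intro r hr
      rw [hRdef] at hr
      obtain ⟨t, ht, htc⟩ := mem_autInducedBy.1 (Subgroup.mem_subgroupOf.1 hr)
      refine Subgroup.mem_subgroupOf.2 ⟨r.2, cext_congr (cext_conj hQS hXS (hTS ht) (fun x hx => ?_)) (fun x hx => (htc x hx).symm)⟩
      have := (mem_centralizerIn.1 (hXR hx)).2 t ht
      rw [this]
      group
    · intro a ha hcop
      refine Subgroup.mem_subgroupOf.2 ⟨a.2, ?_⟩
      obtain ⟨θ, hθ, hl⟩ := exists_lift hT hEF hQT hA hR hc a ha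
      have hcop' : (orderOf (a : MulAut Q)).Coprime p := by rwa [Subgroup.orderOf_coe]
      obtain ⟨θ', hθ', hl', m, hm, hmp⟩ := exists_pprime_lift hQS hθ hl hcop'
      have hfix := hX.fix Q hQT hQn hc θ' a hθ' a.2 hl' m hm hmp
      have hXK : X ≤ KK S Q := fun x hx => Y_le_KK (centralizerIn_anti hQT (hXR hx))
      exact ⟨afn θ', (hθ'.toPres.maps hQS).restrict (sup_le le_sup_left hXK), hl', fun x hx => hfix x hx⟩
  intro a ha
  exact (Subgroup.mem_subgroupOf.1 (hle ha)).2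

/-- At the level of `T`. -/
theorem level_T' [Fact p.Prime] (hS : IsPGroup p S) (hF : F.IsSaturated p) (hE : E.IsNormalIn F p) (hX : Fx F E p X) :
    ∀ a ∈ E.autGroup T, CExt F X T (afn a) := by
  have hinv := hE.1.2.2
  have hEF : E.IsSubsystemOf F := hinv.1
  have hT : F.StronglyClosed T := hinv.2.1
  have hEs := hE.1.1
  have hTS := hT.1
  haveI : Finite T := finite_of_le hTS
  haveI : Finite (MulAut T) := finite_mulAut (S := S) hTS
  have hXR := hX.le
  have hXS : X ≤ S := hXR.trans inf_le_left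
  obtain ⟨hfc, -⟩ := of_fullyNormalized hS hF (sc_fullyNormalized hT)
  have hTp : IsPGroup p T := hS.to_le hTS
  have hnE : E.IsFullyNormalized T := Cfsg.Agent.S5153.fullyNormalized_of_stronglyClosed hS hF hEF hT le_rfl (sc_fullyNormalized hT)
  have hA : E.IsFullyAutomized p T := (of_fullyNormalized hTp hEs hnE).2
  obtain ⟨-, R, hRdef⟩ := id hA
  let M : Subgroup ↥(E.autGroup T) := (extSub F E X T hEF le_rfl hTS hXS).subgroupOf (E.autGroup T)
  have hR : (R : Subgroup ↥(E.autGroup T)) ≤ M := by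
    intro r hr
    rw [hRdef] at hr
    obtain ⟨t, ht, htc⟩ := mem_autInducedBy.1 (Subgroup.mem_subgroupOf.1 hr)
    refine Subgroup.mem_subgroupOf.2 ⟨r.2, cext_congr (cext_conj hTS hXS (hTS ht) (fun x hx => ?_)) (fun x hx => (htc x hx).symm)⟩
    have := (mem_centralizerIn.1 (hXR hx)).2 t ht
    rw [this]
    group
  have hres : pResidual p ↥(E.autGroup T) ≤ M := by
    rw [pResidual, Subgroup.closure_le]
    intro a hcop
    refine Subgroup.mem_subgroupOf.2 ⟨a.2, ?_⟩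
    obtain ⟨β, hβ, hβ1, hβ2⟩ := hE.2 a a.2
    have hWβ : Wk F T β := by
      refine ⟨⟨hβ, fun x hx => ?_⟩, fun y hy => ?_⟩
      · rw [afn_of_mem β (Q_le_KK hx)]
        have := hβ1 ⟨x, hx⟩
        have e : (Subgroup.inclusion (le_sup_left : T ≤ T ⊔ centralizerIn S T) ⟨x, hx⟩) = ⟨x, Q_le_KK hx⟩ := rfl
        rw [e] at this
        rw [this]
        exact ((a : MulAut T) ⟨x, hx⟩).2
      · rw [afn_of_mem β (Y_le_KK hy)]
        exact (Subgroup.mem_inf.1 (hβ2 ⟨y, Y_le_KK hy⟩ hy)).1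
    have hl : Lifts β (a : MulAut T) := by
      intro x hx
      rw [afn_of_mem β (Q_le_KK hx), afn_of_mem _ hx]
      exact hβ1 ⟨x, hx⟩
    have hcop' : (orderOf (a : MulAut T)).Coprime p := by
      have : (orderOf a).Coprime p := hcop
      rwa [Subgroup.orderOf_coe]
    obtain ⟨θ', hθ', hl', m, hm, hmp⟩ := exists_pprime_lift hTS hWβ hl hcop'
    have hcT : centralizerIn T T ≤ T := inf_le_left
    have hfix := hX.fix T le_rfl (sc_fullyNormalized hT) hcT θ' a hθ' a.2 hl' m hm hmp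
    have hXK : X ≤ KK S T := fun x hx => Y_le_KK (hXR hx)
    exact ⟨afn θ', (hθ'.toPres.maps hTS).restrict (sup_le le_sup_left hXK), hl', fun x hx => hfix x hx⟩
  intro a ha
  obtain ⟨κ, hκ, r, hr, e⟩ := Cfsg.Agent.Lib.FusionHyperfocal.exists_pResidual_mul_sylow R ⟨a, ha⟩
  have : (⟨a, ha⟩ : ↥(E.autGroup T)) ∈ M := by
    rw [e]
    exact M.mul_mem (hres hκ) (hR hr)
  exact (Subgroup.mem_subgroupOf.1 this).2

/-- The transport step. -/
theorem transport_step' [Fact p.Prime] (hS : IsPGroup p S) (hF : F.IsSaturated p) (hE : E.IsNormalIn F p)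
    (hX : Fx F E p X) (hQT : Q ≤ T)
    (hFA : E.IsFullyAutomized p Q) (hRec : E.IsReceptive Q) (hc : centralizerIn T Q ≤ Q) (hlt : Q < T)
    (IH : ∀ (R : Subgroup Ω) (f : Ω → Ω), Nat.card Q < Nat.card R → Maps E R f → CExt F X R f)
    (α : ↥(E.autGroup Q)) {k : ℕ} (hk : orderOf α = p ^ k) : CExt F X Q (afn (α : MulAut Q)) := by
  have hinv := hE.1.2.2
  have hEF : E.IsSubsystemOf F := hinv.1
  have hT : F.StronglyClosed T := hinv.2.1
  have hEs := hE.1.1
  have hTS := hT.1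
  haveI : Finite T := finite_of_le hTS
  have hQS : Q ≤ S := hQT.trans hTS
  have hTp : IsPGroup p T := hS.to_le hTS
  obtain ⟨-, -, hInv, hFr⟩ := isInvariantIn_iff.1 hinv
  have hStr : Str F E := str_of_inv_frat hT @hInv @hFr
  have hXR := hX.le
  have hXS : X ≤ S := hXR.trans inf_le_left
  obtain ⟨P₁, hQP₁, hP₁n⟩ := exists_fullyNormalized_conj (F := F) hQS
  obtain ⟨f₁, hf₁, hf₁img⟩ := isConj_iff.1 hQP₁
  obtain ⟨a, ha, f₀, hf₀, h1⟩ := hFr hQT hf₁
  have hP₁T : P₁ ≤ T := by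
    rw [← hf₁img]
    exact Cfsg.Agent.Lib.FusionInvariant.strong_img_le hT hQT hf₁
  have hP₁S : P₁ ≤ S := hP₁T.trans hTS
  have hQ'T : img f₀ Q ≤ T := hf₀.img_le
  have hcE : E.IsConj (img f₀ Q) Q := IsConj_symm (isConj_iff.2 ⟨f₀, hf₀, rfl⟩)
  obtain ⟨ρ, hρ, -, hρimg⟩ := exists_normalizer_map hTp hFA hRec hcE
  have hcard' : Nat.card (img f₀ Q) = Nat.card Q := hf₀.card_img
  have hQ'lt : img f₀ Q < T := by
    refine lt_of_le_of_ne hQ'T (fun h => ?_)
    have := Cfsg.Agent.Lib.FusionAlperin.card_lt_of_lt hlt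
    rw [← h, hcard'] at this
    exact lt_irrefl _ this
  have hNlt := Cfsg.Agent.Lib.FusionAlperin.lt_normalizerIn hTp hQ'lt
  haveI : Finite (normalizerIn T (img f₀ Q)) := finite_of_le inf_le_left
  have hcN : Nat.card Q < Nat.card (normalizerIn T (img f₀ Q)) := by
    rw [← hcard']
    exact Cfsg.Agent.Lib.FusionAlperin.card_lt_of_lt hNlt
  have hρext := IH _ ρ hcN hρ
  have hρQ' : Maps E (img f₀ Q) ρ := hρ.restrict hNlt.le
  have hρext' : CExt F X (img f₀ Q) ρ := cext_restrict hρext hNlt.le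
  obtain ⟨ρi, hρi, hi1, hi2⟩ := hρQ'.inv
  rw [hρimg] at hρi hi2
  have hρiext : CExt F X Q ρi := by
    have := cext_inv (maps_sub hEF hρQ') hρext' hi1
    rwa [hρimg] at this
  -- the automorphism of `T`
  have hTn := sc_fullyNormalized hT
  have hTc := (of_fullyNormalized hS hF hTn).1
  have hTR : F.IsReceptive T := receptive_of_fullyCentralized hS hF hTc
  obtain ⟨θa, hθa, hθa1⟩ := exists_pres hTS hTR (aut_maps hT ha) (afn_img a)
  obtain ⟨gi, hgi, hgi1, hgi2⟩ := hρiext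
  have hgiK : ∀ x ∈ Q ⊔ X, gi x ∈ KK S T := hgi.sup_mem
    (fun x hx => by rw [hgi1 x hx]; exact Q_le_KK (hQ'T (hi2 x hx).1))
    (fun x hx => by rw [hgi2 x hx]; exact Y_le_KK (hXR hx))
  have hΦ : Maps F (Q ⊔ X) (afn θa ∘ gi) := hgi.comp (hθa.maps hTS) hgiK
  set Φ := afn θa ∘ gi with hΦdef
  have hΦQ : Maps F Q Φ := hΦ.restrict le_sup_left
  have hΦx : ∀ x ∈ Q, Φ x = afn a (ρi x) := fun x hx => by
    simp only [hΦdef, Function.comp]
    rw [hgi1 x hx, hθa1 _ (hQ'T (hi2 x hx).1)]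
  have hmemP₁ : ∀ y ∈ img f₀ Q, afn a y ∈ P₁ := by
    intro y hy
    obtain ⟨z, hz, rfl⟩ := hf₀.mem_img.1 hy
    rw [← h1 z hz, ← hf₁img]
    exact hf₁.mem_img_of_mem hz
  have himgQ : img Φ Q = P₁ := img_eq_of_card hΦQ hQS hP₁S
    (fun x hx => by rw [hΦx x hx]; exact hmemP₁ _ (hi2 x hx).1)
    (by rw [← hf₁img, hf₁.card_img])
  have hΦX : ∀ x ∈ X, Φ x ∈ X := fun x hx => by
    simp only [hΦdef, Function.comp]
    rw [hgi2 x hx]
    exact hX.inv θa hθa x hx
  have himgX : img Φ X = X := img_eq_of_card (hΦ.restrict le_sup_right) hXS hXS hΦX le_rfl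
  -- the transported automorphism
  have hαE : Maps E Q (afn (α : MulAut Q)) := (mem_autGroup_iff hQT).1 α.2
  obtain ⟨kk, hkk, hkk1⟩ := hStr le_rfl hQT hαE (fun x hx => afn_mem _ hx) hΦQ
  rw [himgQ] at hkk
  let α₂ : MulAut P₁ := MulAut.congr (hΦQ.equiv himgQ) (α : MulAut Q)
  have hα₂ : ∀ x ∈ Q, afn α₂ (Φ x) = Φ (afn (α : MulAut Q) x) := fun x hx => hΦQ.afn_congr himgQ _ hx
  have hα₂E : α₂ ∈ E.autGroup P₁ := by
    refine (mem_autGroup_iff hP₁T).2 (hkk.congr fun y hy => ?_)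
    rw [← himgQ] at hy
    obtain ⟨x, hx, rfl⟩ := hΦQ.mem_img.1 hy
    rw [hkk1 x hx, hα₂ x hx]
  have hα₂p : (⟨α₂, hα₂E⟩ : ↥(E.autGroup P₁)) ∈ pEl p ↥(E.autGroup P₁) := by
    refine Subgroup.subset_closure ⟨k, ?_⟩
    rw [Subgroup.orderOf_mk]
    show orderOf (MulAut.congr (hΦQ.equiv himgQ) (α : MulAut Q)) = _
    rw [MulEquiv.orderOf_eq, Subgroup.orderOf_coe, hk]
  -- the centralizer of `P₁` in `T`
  have hc₁ : centralizerIn T P₁ ≤ P₁ := by
    intro c hcm
    have hcT : c ∈ T := (mem_centralizerIn.1 hcm).1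
    have hai := aut_maps hT (Subgroup.inv_mem _ ha)
    have haa := aut_maps hT ha
    have hdT : afn a⁻¹ c ∈ T := afn_mem a⁻¹ hcT
    have hd : afn a⁻¹ c ∈ centralizerIn T (img f₀ Q) := by
      refine mem_centralizerIn.2 ⟨hdT, fun q hq => ?_⟩
      have hqT := hQ'T hq
      have e := (mem_centralizerIn.1 hcm).2 _ (hmemP₁ q hq)
      have e1 := congrArg (afn a⁻¹) e
      rw [hai.map_mul (afn_mem a hqT) hcT, hai.map_mul hcT (afn_mem a hqT), afn_inv_afn a hqT] at e1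
      exact e1
    have hdN : afn a⁻¹ c ∈ normalizerIn T (img f₀ Q) := le_normalizerIn_of_centralizerIn T _ hd
    have hρd : ρ (afn a⁻¹ c) ∈ centralizerIn T Q := by
      refine mem_centralizerIn.2 ⟨hρ.mem hdN, fun y hy => ?_⟩
      rw [← hρimg] at hy
      obtain ⟨q, hq, rfl⟩ := hρQ'.mem_img.1 hy
      have hqN := hNlt.le hq
      rw [← hρ.map_mul hqN hdN, (mem_centralizerIn.1 hd).2 q hq, hρ.map_mul hdN hqN]
    have hρdQ : ρ (afn a⁻¹ c) ∈ img ρ (img f₀ Q) := by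
      rw [hρimg]
      exact hc hρd
    obtain ⟨q, hq, hqe⟩ := hρQ'.mem_img.1 hρdQ
    have hqd := hρ.inj (hNlt.le hq) hdN hqe
    have := hmemP₁ q hq
    rwa [hqd, afn_afn_inv a hcT] at this
  have hlev := level_nf' hS hF hT hEF hEs hP₁T hP₁n hc₁ hX _ hα₂p
  exact cext_transport hΦ himgQ himgX hlev (fun x hx => afn_mem _ hx) (fun x hx => afn_mem _ hx)
    (fun x hx => (hα₂ x hx).symm)

/-- **Extension theorem.** For `E ⊴ F` on `T`, every map of `E` extends to a map fixing `X`, where `X` has the properties of `Fx`. -/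
theorem centralizes_of [Fact p.Prime] (hS : IsPGroup p S) (hF : F.IsSaturated p) (hE : E.IsNormalIn F p)
    (hfx : Fx F E p X) {P : Subgroup Ω} {f : Ω → Ω} (hf : Maps E P f) : CExt F X P f := by
  have hinv := hE.1.2.2
  have hEF : E.IsSubsystemOf F := hinv.1
  have hT : F.StronglyClosed T := hinv.2.1
  have hEs := hE.1.1
  have hTS := hT.1
  haveI : Finite T := finite_of_le hTS
  have hTp : IsPGroup p T := hS.to_le hTS
  have hXR := hfx.le
  have hXS : X ≤ S := hXR.trans inf_le_left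
  have hX : ∀ t ∈ T, ∀ x ∈ X, t * x * t⁻¹ = x := by
    intro t ht x hx
    rw [(mem_centralizerIn.1 (hXR hx)).2 t ht]
    group
  let M : FusionSystem T := MMsys hEF hTS hXS hX
  have hM : ∀ {R : Subgroup Ω} {g : Ω → Ω}, Maps M R g ↔ MM F E X R g := maps_MMsys hEF hTS hXS hX
  have hEM : ∀ R : Subgroup Ω, M.Hom R ⊆ E.Hom R := by
    intro R φ hφ
    exact (hM.1 (Maps.of_mem hφ)).1.mem_hom (fun x => (fn_coe φ x).symm)
  have hall : ∀ R : Subgroup Ω, E.Hom R ⊆ M.Hom R := by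
    refine Cfsg.Agent.Lib.FusionAlperin.alperin hTp hEs hEM ?_
    intro Q hQT hFA hRec hc IH φ hφ hr
    have hmφ := Maps.of_mem hφ
    have himgφ : img (fn φ) Q = Q := by rw [img_eq_range φ (fun x => (fn_coe φ x).symm), hr]
    have IH' : ∀ (R : Subgroup Ω) (f : Ω → Ω), Nat.card Q < Nat.card R → Maps E R f → CExt F X R f := by
      intro R f hc hf
      have h1 := IH R hc hf.hom_mem
      have h2 := (hM.1 (Maps.of_mem h1)).2
      exact cext_congr h2 (fun x hx => by rw [fn_of_mem _ hx, hf.hom_apply])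
    by_cases hQeq : Q = T
    · subst hQeq
      have hlev := level_T' hS hF hE hfx (hmφ.toAut himgφ) (hmφ.toAut_mem himgφ)
      have := cext_congr hlev (fun x hx => hmφ.afn_toAut himgφ hx)
      exact (hM.2 ⟨hmφ, this⟩).mem_hom (fun x => (fn_coe φ x).symm)
    · have hlt : Q < T := lt_of_le_of_ne hQT hQeq
      have hNlt := Cfsg.Agent.Lib.FusionAlperin.lt_normalizerIn hTp hlt
      obtain ⟨t, htN, htQ⟩ := SetLike.exists_of_lt hNlt
      have htT : t ∈ T := (mem_normalizerIn.1 htN).1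
      have htn : t ∈ Subgroup.normalizer (Q : Set Ω) := (mem_normalizerIn.1 htN).2
      have hclaim : ∀ α ∈ pEl p ↥(E.autGroup Q), CExt F X Q (afn (α : MulAut Q)) := by
        have hQS : Q ≤ S := hQT.trans hTS
        have hle : pEl p ↥(E.autGroup Q) ≤ (extSub F E X Q hEF hQT hTS hXS).subgroupOf (E.autGroup Q) := by
          rw [pEl, Subgroup.closure_le]
          rintro α ⟨k, hk⟩
          exact Subgroup.mem_subgroupOf.2 ⟨α.2, transport_step' hS hF hE hfx hQT hFA hRec hc hlt IH' α hk⟩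
        intro α hα
        exact (Subgroup.mem_subgroupOf.1 (hle hα)).2
      refine Cfsg.Agent.Lib.FusionAlperin.aut_mem_of_normal hFA hRec IH (pEl p ↥(E.autGroup Q)) ?_ htT htn htQ ?_ φ hφ hr
      · intro α hα
        have hmα : Maps E Q (afn (α : MulAut Q)) := (mem_autGroup_iff hQT).1 α.2
        exact (hM.2 ⟨hmα, hclaim α hα⟩).mem_hom (fun x => by rw [afn_of_mem _ x.2]; rfl)
      · intro h
        obtain ⟨n, hn⟩ := hTp ⟨t, htT⟩
        have htpow : t ^ p ^ n = 1 := by simpa using congrArg Subtype.val hn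
        refine mem_pEl_of_pow (n := n) (Subtype.ext ?_)
        show (Cfsg.Agent.Lib.FusionAlperin.conjAut Q t htn) ^ p ^ n = 1
        have e : Cfsg.Agent.Lib.FusionAlperin.conjAut Q t htn ^ p ^ n = Q.normalizerMonoidHom (⟨t, htn⟩ ^ p ^ n) := by
          rw [map_pow]
          rfl
        rw [e]
        have e2 : (⟨t, htn⟩ : ↥(Subgroup.normalizer (Q : Set Ω))) ^ p ^ n = 1 := Subtype.ext htpow
        rw [e2, map_one]
  have h1 := hall P hf.hom_mem
  have h2 := (hM.1 (Maps.of_mem h1)).2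
  exact cext_congr h2 (fun x hx => by rw [fn_of_mem _ hx, hf.hom_apply])

/-! ### The family -/

/-- The subgroups `Y ≤ C_S(T)` with `E ≤ C_F(Y)`. -/
def Fam (F : FusionSystem S) (E : FusionSystem T) (Y : Subgroup Ω) : Prop :=
  Y ≤ centralizerIn S T ∧ ∀ (P : Subgroup Ω) (f : Ω → Ω), Maps E P f → CExt F Y P f

lemma fam_iff (hE : E.IsSubsystemOf F) (hTS : T ≤ S) {Y : Subgroup Ω} :
    Fam F E Y ↔ Y ≤ centralizerIn S T ∧ ∀ P : Subgroup Ω, E.Hom P ⊆ F.centralizerHom Y P := by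
  constructor
  · rintro ⟨h1, h2⟩
    refine ⟨h1, fun P φ hφ => ?_⟩
    exact mem_centralizerHom hE hTS h1 hφ (h2 P _ (Maps.of_mem hφ))
  · rintro ⟨h1, h2⟩
    refine ⟨h1, fun P f hf => ?_⟩
    have h3 := h2 P hf.hom_mem
    have h4 := cExt_iff_exists.1 h3.2.2.2
    exact cext_congr h4 (fun x hx => by rw [fn_of_mem _ hx, hf.hom_apply])

/-- Transport of the family along maps of `F` preserving `T`. -/
lemma fam_img (hT : F.StronglyClosed T) (hInv : Inv F E) {Y : Subgroup Ω} (hY : Fam F E Y) {g : Ω → Ω}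
    (hg : Maps F (T ⊔ Y) g) (hgT : img g T = T) : Fam F E (img g Y) := by
  have hTS := hT.1
  have hgTm : Maps F T g := hg.restrict le_sup_left
  have hgY : Maps F Y g := hg.restrict le_sup_right
  have hYR := hY.1
  let a : MulAut T := hgTm.toAut hgT
  have ha : a ∈ F.autGroup T := hgTm.toAut_mem hgT
  have hav : ∀ x ∈ T, afn a x = g x := fun x hx => hgTm.afn_toAut hgT hx
  refine ⟨?_, ?_⟩
  · intro y hy
    obtain ⟨z, hz, rfl⟩ := hgY.mem_img.1 hy
    refine mem_centralizerIn.2 ⟨hg.mem ((le_sup_right : Y ≤ T ⊔ Y) hz), fun t ht => ?_⟩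
    rw [← hgT] at ht
    obtain ⟨u, hu, rfl⟩ := hgTm.mem_img.1 ht
    have h1 := (mem_centralizerIn.1 (hYR hz)).2 u hu
    have hu' := (le_sup_left : T ≤ T ⊔ Y) hu
    have hz' := (le_sup_right : Y ≤ T ⊔ Y) hz
    rw [← hg.map_mul hu' hz', h1, hg.map_mul hz' hu']
  · intro P f hf
    have hPT : P ≤ T := hf.le
    obtain ⟨k, hk, hk1⟩ := hInv hf a⁻¹ (Subgroup.inv_mem _ ha)
    set P₁ := img (afn a⁻¹) P with hP₁
    have hmai : Maps F T (afn a⁻¹) := (mem_autGroup_iff hTS).1 (Subgroup.inv_mem _ ha)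
    have hP₁T : P₁ ≤ T := by
      intro y hy
      obtain ⟨x, hx, rfl⟩ := (hmai.restrict hPT).mem_img.1 hy
      exact afn_mem a⁻¹ (hPT hx)
    obtain ⟨kh, hkh, hkh1, hkh2⟩ := hY.2 P₁ k hk
    have hkhT : ∀ x ∈ P₁ ⊔ Y, kh x ∈ T ⊔ Y := hkh.sup_mem
      (fun x hx => by rw [hkh1 x hx]; exact (le_sup_left : T ≤ T ⊔ Y) (hk.mem hx))
      (fun x hx => by rw [hkh2 x hx]; exact (le_sup_right : Y ≤ T ⊔ Y) hx)
    have hgP₁ : Maps F (P₁ ⊔ Y) g := hg.restrict (sup_le_sup_right hP₁T Y)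
    have hgimg : img g (P₁ ⊔ Y) = P ⊔ img g Y := by
      rw [hgP₁.img_sup]
      congr 1
      ext y
      rw [(hgP₁.restrict le_sup_left).mem_img]
      constructor
      · rintro ⟨x, hx, rfl⟩
        obtain ⟨z, hz, rfl⟩ := (hmai.restrict hPT).mem_img.1 hx
        have hzT := hPT hz
        rw [← hav _ (afn_mem a⁻¹ hzT), afn_afn_inv a hzT]
        exact hz
      · intro hy
        refine ⟨afn a⁻¹ y, (hmai.restrict hPT).mem_img_of_mem hy, ?_⟩
        rw [← hav _ (afn_mem a⁻¹ (hPT hy)), afn_afn_inv a (hPT hy)]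
    obtain ⟨gi, hgi, hgi1, hgi2⟩ := hgP₁.inv
    rw [hgimg] at hgi hgi2
    have hcomp : Maps F (P ⊔ img g Y) (g ∘ kh ∘ gi) :=
      hgi.comp (hkh.comp hg hkhT) (fun y hy => (hgi2 y hy).1)
    refine ⟨_, hcomp, fun x hx => ?_, fun y hy => ?_⟩
    · simp only [Function.comp]
      have hax : afn a⁻¹ x ∈ P₁ := (hmai.restrict hPT).mem_img_of_mem hx
      have e : gi x = afn a⁻¹ x := by
        have h1 := hgi1 (afn a⁻¹ x) ((le_sup_left : P₁ ≤ P₁ ⊔ Y) hax)
        rw [← hav _ (afn_mem a⁻¹ (hPT hx)), afn_afn_inv a (hPT hx)] at h1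
        exact h1
      rw [e, hkh1 _ hax, hk1 x hx, ← hav _ (afn_mem a⁻¹ (hf.mem hx)), afn_afn_inv a (hf.mem hx)]
    · obtain ⟨z, hz, rfl⟩ := hgY.mem_img.1 hy
      simp only [Function.comp]
      rw [hgi1 z ((le_sup_right : Y ≤ P₁ ⊔ Y) hz), hkh2 z hz]

/-- The join of the family. -/
noncomputable def CC (F : FusionSystem S) (E : FusionSystem T) : Subgroup Ω := sSup {Y | Fam F E Y}

lemma fam_le_CC {Y : Subgroup Ω} (h : Fam F E Y) : Y ≤ CC F E := le_sSup h

lemma CC_le : CC F E ≤ centralizerIn S T := sSup_le (fun _ h => h.1)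

lemma CC_inv (hT : F.StronglyClosed T) (hInv : Inv F E) (θ : MulAut ↥(KK S T)) (hθ : Pres F T θ) :
    ∀ x ∈ CC F E, afn θ x ∈ CC F E := by
  have hTS := hT.1
  have hm := hθ.maps hTS
  let W : Subgroup Ω :=
    { carrier := {x | x ∈ KK S T ∧ afn θ x ∈ CC F E}
      mul_mem' := fun {a b} ⟨h1, h2⟩ ⟨h3, h4⟩ => ⟨(KK S T).mul_mem h1 h3, by rw [hm.map_mul h1 h3]; exact Subgroup.mul_mem _ h2 h4⟩
      one_mem' := ⟨(KK S T).one_mem, by rw [hm.map_one]; exact Subgroup.one_mem _⟩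
      inv_mem' := fun {a} ⟨h1, h2⟩ => ⟨(KK S T).inv_mem h1, by rw [hm.map_inv h1]; exact Subgroup.inv_mem _ h2⟩ }
  have hle : CC F E ≤ W := by
    refine sSup_le ?_
    rintro Y hY y hy
    have hyK : y ∈ KK S T := Y_le_KK (hY.1 hy)
    refine ⟨hyK, ?_⟩
    have hg : Maps F (T ⊔ Y) (afn θ) := hm.restrict (sup_le le_sup_left (hY.1.trans le_sup_right))
    have hfam := fam_img hT hInv hY hg (hθ.img_Q hTS)
    exact fam_le_CC hfam ((hg.restrict le_sup_right).mem_img_of_mem hy)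
  intro x hx
  exact (hle hx).2

lemma CC_fix [Fact p.Prime] (hS : IsPGroup p S) (hF : F.IsSaturated p) (hT : F.StronglyClosed T) {Q : Subgroup Ω} (hQT : Q ≤ T)
    (hQn : F.IsFullyNormalized Q) (θ : MulAut ↥(KK S Q)) (a : MulAut Q) (hθ : Wk F Q θ) (ha : a ∈ E.autGroup Q)
    (hl : Lifts θ a) (m : ℕ) (hm : θ ^ m = 1) (hmp : m.Coprime p) : ∀ x ∈ CC F E, afn θ x = x := by
  have hQS : Q ≤ S := hQT.trans hT.1
  obtain ⟨hfc, -⟩ := of_fullyNormalized hS hF hQn
  have hle : CC F E ≤ kerW hQS hθ := by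
    refine sSup_le ?_
    rintro Y hY y hy
    have hYQ : Y ≤ centralizerIn S Q := hY.1.trans (centralizerIn_anti hQT)
    have hc : CExt F Y Q (afn θ) :=
      cext_congr (hY.2 Q (afn a) ((mem_autGroup_iff hQT).1 ha)) (fun x hx => (hl x hx).symm)
    exact ⟨hYQ hy, fix_of_cext hS hF hQS hfc hθ hm hmp hYQ hc y hy⟩
  intro x hx
  exact (hle hx).2

lemma CC_fx [Fact p.Prime] (hS : IsPGroup p S) (hF : F.IsSaturated p) (hT : F.StronglyClosed T) (hInv : Inv F E) :
    Fx F E p (CC F E) :=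
  ⟨CC_le, CC_inv hT hInv, fun _ hQT hQn _ θ a hθ ha hl m hm hmp => CC_fix hS hF hT hQT hQn θ a hθ ha hl m hm hmp⟩

/-- The join of the family belongs to the family. -/
theorem CC_fam [Fact p.Prime] (hS : IsPGroup p S) (hF : F.IsSaturated p) (hE : E.IsNormalIn F p) : Fam F E (CC F E) := by
  have hinv := hE.1.2.2
  obtain ⟨-, -, hInv, -⟩ := isInvariantIn_iff.1 hinv
  exact ⟨CC_le, fun _ _ hf => centralizes_of hS hF hE (CC_fx hS hF hinv.2.1 hInv) hf⟩

lemma Fam.mono {Y Y' : Subgroup Ω} (h : Fam F E Y) (hle : Y' ≤ Y) : Fam F E Y' := by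
  refine ⟨hle.trans h.1, fun P f hf => ?_⟩
  obtain ⟨g, hg, h1, h2⟩ := h.2 P f hf
  exact ⟨g, hg.restrict (sup_le_sup_left hle P), h1, fun x hx => h2 x (hle hx)⟩

/-- `S` normalizes the join of the family. -/
lemma CC_conj (hT : F.StronglyClosed T) (hInv : Inv F E) {g : Ω} (hg : g ∈ S) {x : Ω} (hx : x ∈ CC F E) :
    g * x * g⁻¹ ∈ CC F E := by
  have hTS := hT.1
  haveI : Finite T := finite_of_le hTS
  have hN : g ∈ Subgroup.normalizer (T : Set Ω) := mem_normalizer_of_conj_mem (fun t ht => sc_conj hT hg ht)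
  obtain ⟨θ, hθ, hθ1⟩ := exists_conj_pres (F := F) hTS hg hN
  rw [← hθ1 x (Y_le_KK (CC_le hx))]
  exact CC_inv hT hInv θ hθ x hx

/-- A fully centralized conjugate of a subgroup of the join lies in the join. -/
lemma CC_of_fc [Fact p.Prime] (hS : IsPGroup p S) (hF : F.IsSaturated p) (hT : F.StronglyClosed T) (hInv : Inv F E)
    (hfam : Fam F E (CC F E)) {Z Z₂ : Subgroup Ω} (hZ : Z ≤ CC F E) {f : Ω → Ω} (hf : Maps F Z f) (himg : img f Z = Z₂)
    (hZ₂ : F.IsFullyCentralized Z₂) : Z₂ ≤ CC F E := by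
  have hR := receptive_of_fullyCentralized hS hF hZ₂
  obtain ⟨k, hk, hk1⟩ := IsReceptive.ext hR hf himg
  have hTS := hT.1
  have hTC : T ≤ centralizerIn S Z := by
    intro t ht
    refine mem_centralizerIn.2 ⟨hTS ht, fun z hz => ?_⟩
    exact ((mem_centralizerIn.1 (CC_le (hZ hz))).2 t ht).symm
  have hle : T ⊔ Z ≤ Nf S Z f := sup_le (hTC.trans (centralizerIn_le_Nf hf)) (le_Nf hf)
  have hk' := hk.restrict hle
  have hkT : img k T = T := img_eq_of_card (hk'.restrict le_sup_left) hTS hTS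
    (fun x hx => Cfsg.Agent.Lib.FusionInvariant.StrongMem hT le_rfl (hk'.restrict le_sup_left) hx) le_rfl
  have h2 := fam_img hT hInv (hfam.mono hZ) hk' hkT
  rw [img_congr hk1, himg] at h2
  exact fam_le_CC h2

end Sub

end Cfsg.Agent.Lib.AschCore
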