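/-
AschMu: an `F`-conjugate of an element of the join `C`, centralizing `U ≤ T`, is conjugate to an element of `C` under `C_F(U)`.
-/
import Mathlib
import Cfsg.Agent.Lib.AschFam

set_option autoImplicit false
set_option linter.unusedSectionVars false
set_option linter.unusedVariables false
set_option linter.unusedSimpArgs false
set_option linter.style.haveILetI false

namespace Cfsg.Agent.Lib.AschCore

open Cfsg Cfsg.FusionSystem Cfsg.Agent.Lib.FusionCore Cfsg.Agent.Lib.FusionCore2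
open Cfsg.Agent.Lib.FusionInvariant (Str Inv Frat isInvariantIn_iff str_of_inv_frat maps_sub StrongMem aut_maps)

universe u

variable {Ω : Type u} [Group Ω] {S T : Subgroup Ω} {F : FusionSystem S} {E : FusionSystem T} {p : ℕ}

section Mu

variable [Finite S]

/-- The key step: for `x ∈ C` and `g₀ x = x₁` with `x₁` centralizing `U ≤ T`, there is `x₃ ∈ C` with `x₃⁻¹ x₁` in the focal subgroup of `C_F(U)`. -/
theorem exists_mu [Fact p.Prime] (hS : IsPGroup p S) (hF : F.IsSaturated p) (hE : E.IsNormalIn F p) {U : Subgroup Ω}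
    (hUT : U ≤ T) {D : FusionSystem (centralizerIn S U)} (hD : F.IsCentralizerSystem U D) {x₁ : Ω}
    (hx₁ : x₁ ∈ centralizerIn S U) {R : Subgroup Ω} {g₀ : Ω → Ω} (hg₀ : Maps F R g₀) {x : Ω} (hxR : x ∈ R)
    (hxC : x ∈ CC F E) (hgx : g₀ x = x₁) : ∃ x₃ ∈ CC F E, x₃⁻¹ * x₁ ∈ D.focalSubgroup := by
  have hinv := hE.1.2.2
  have hEF : E.IsSubsystemOf F := hinv.1
  have hT : F.StronglyClosed T := hinv.2.1
  have hTS := hT.1
  obtain ⟨-, -, hInv, hFr⟩ := isInvariantIn_iff.1 hinv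
  have hfam : Fam F E (CC F E) := CC_fam hS hF hE
  have hxS : x ∈ S := hg₀.le hxR
  set Z := Subgroup.zpowers x with hZ
  have hZR : Z ≤ R := Subgroup.zpowers_le.2 hxR
  have hZC : Z ≤ CC F E := Subgroup.zpowers_le.2 hxC
  have hgZ : Maps F Z g₀ := hg₀.restrict hZR
  have hZS : Z ≤ S := hZR.trans hg₀.le
  -- a fully centralized conjugate
  obtain ⟨Z₂, hZZ₂, hZ₂⟩ := exists_fullyCentralized_conj (F := F) hZS
  obtain ⟨f₂, hf₂, hf₂img⟩ := isConj_iff.1 hZZ₂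
  have hZ₂C := CC_of_fc hS hF hT hInv hfam hZC hf₂ hf₂img hZ₂
  have hxZ : x ∈ Z := Subgroup.mem_zpowers x
  set x₂ := f₂ x with hx₂
  have hx₂C : x₂ ∈ CC F E := hZ₂C (hf₂img ▸ hf₂.mem_img_of_mem hxZ)
  -- the map from `Z₁` onto `Z₂`
  set Z₁ := img g₀ Z with hZ₁
  obtain ⟨gi, hgi, hgi1, hgi2⟩ := hgZ.inv
  have hgi_mem : ∀ y ∈ Z₁, gi y ∈ Z := fun y hy => (hgi2 y hy).1
  have he : Maps F Z₁ (f₂ ∘ gi) := hgi.comp hf₂ hgi_mem
  have himg_e : img (f₂ ∘ gi) Z₁ = Z₂ := by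
    rw [← hf₂img]
    ext y
    rw [he.mem_img, hf₂.mem_img]
    constructor
    · rintro ⟨w, hw, rfl⟩
      exact ⟨gi w, hgi_mem w hw, rfl⟩
    · rintro ⟨w, hw, rfl⟩
      exact ⟨g₀ w, hgZ.mem_img_of_mem hw, by simp only [Function.comp]; rw [hgi1 w hw]⟩
  obtain ⟨k, hk, hk1⟩ := IsReceptive.ext (receptive_of_fullyCentralized hS hF hZ₂) he himg_e
  have hx₁Z₁ : x₁ ∈ Z₁ := by
    rw [← hgx]
    exact hgZ.mem_img_of_mem hxZ
  have hkx₁ : k x₁ = x₂ := by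
    rw [hk1 x₁ hx₁Z₁]
    simp only [Function.comp]
    rw [← hgx, hgi1 x hxZ]
  -- `U` centralizes `Z₁`
  have hUS : U ≤ S := hUT.trans hTS
  have hUC : U ≤ centralizerIn S Z₁ := by
    intro u hu
    refine mem_centralizerIn.2 ⟨hUS hu, fun z hz => ?_⟩
    obtain ⟨w, hw, rfl⟩ := hgZ.mem_img.1 hz
    obtain ⟨n, rfl⟩ := Subgroup.mem_zpowers_iff.1 hw
    rw [hgZ.map_zpow hxZ, hgx]
    have h1 : u * x₁ = x₁ * u := (mem_centralizerIn.1 hx₁).2 u hu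
    exact ((Commute.zpow_right h1 n).eq).symm
  have hV₁ : U ⊔ Z₁ ≤ Nf S Z₁ (f₂ ∘ gi) := sup_le (hUC.trans (centralizerIn_le_Nf he)) (le_Nf he)
  have hkV : Maps F (U ⊔ Z₁) k := hk.restrict hV₁
  have hkU : Maps F U k := hkV.restrict le_sup_left
  obtain ⟨ki, hki, hki1, hki2⟩ := hkV.inv
  -- the Frattini decomposition
  obtain ⟨a, ha, f₀, hf₀, hf₀e⟩ := hFr hUT hkU
  have hTn := sc_fullyNormalized hT
  have hTc := (of_fullyNormalized hS hF hTn).1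
  have hTR : F.IsReceptive T := receptive_of_fullyCentralized hS hF hTc
  obtain ⟨θa, hθa, hθa1⟩ := exists_pres hTS hTR (aut_maps hT ha) (afn_img a)
  set x₃ := afn θa⁻¹ x₂ with hx₃
  have hx₂K : x₂ ∈ KK S T := Y_le_KK (CC_le hx₂C)
  have hx₃C : x₃ ∈ CC F E := CC_inv hT hInv θa⁻¹ (hθa.inv hTS) x₂ hx₂C
  have hx₃x₂ : afn θa x₃ = x₂ := afn_afn_inv θa hx₂K
  refine ⟨x₃, hx₃C, ?_⟩
  -- the extension of `f₀` fixing `x₃`
  obtain ⟨gg, hgg, hgg1, hgg2⟩ := hfam.2 U f₀ hf₀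
  set Zx := Subgroup.zpowers x₃ with hZx
  have hZxC : Zx ≤ CC F E := Subgroup.zpowers_le.2 hx₃C
  have hx₃Zx : x₃ ∈ Zx := Subgroup.mem_zpowers x₃
  have hgg' : Maps F (U ⊔ Zx) gg := hgg.restrict (sup_le_sup_left hZxC U)
  have hgg_fix : ∀ y ∈ Zx, gg y = y := fun y hy => hgg2 y (hZxC hy)
  have hggK : ∀ y ∈ U ⊔ Zx, gg y ∈ KK S T := hgg'.sup_mem
    (fun y hy => by rw [hgg1 y hy]; exact Q_le_KK (hf₀.mem hy))
    (fun y hy => by rw [hgg_fix y hy]; exact Y_le_KK (CC_le (hZxC hy)))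
  have hcomp : Maps F (U ⊔ Zx) (afn θa ∘ gg) := hgg'.comp (hθa.maps hTS) hggK
  have hcU : ∀ u ∈ U, (afn θa ∘ gg) u = k u := by
    intro u hu
    simp only [Function.comp]
    rw [hgg1 u hu, hθa1 _ (hf₀.mem hu), hf₀e u hu]
  have hcx : ∀ y ∈ Zx, (afn θa ∘ gg) y ∈ img k (U ⊔ Z₁) := by
    intro y hy
    obtain ⟨n, rfl⟩ := Subgroup.mem_zpowers_iff.1 hy
    have h1 : (afn θa ∘ gg) (x₃ ^ n) = x₂ ^ n := by
      rw [(hcomp.restrict le_sup_right).map_zpow hx₃Zx]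
      simp only [Function.comp]
      rw [hgg_fix x₃ hx₃Zx, hx₃x₂]
    rw [h1, ← hkx₁, ← (hkV.restrict le_sup_right).map_zpow hx₁Z₁]
    exact hkV.mem_img_of_mem ((le_sup_right : Z₁ ≤ U ⊔ Z₁) (Subgroup.zpow_mem _ hx₁Z₁ n))
  have hcimg : ∀ y ∈ U ⊔ Zx, (afn θa ∘ gg) y ∈ img k (U ⊔ Z₁) := hcomp.sup_mem
    (fun u hu => by rw [hcU u hu]; exact hkV.mem_img_of_mem ((le_sup_left : U ≤ U ⊔ Z₁) hu)) hcx
  have hΦ : Maps F (U ⊔ Zx) (ki ∘ (afn θa ∘ gg)) := hcomp.comp hki hcimg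
  set Φ := ki ∘ (afn θa ∘ gg) with hΦdef
  have hΦU : ∀ u ∈ U, Φ u = u := by
    intro u hu
    simp only [hΦdef, Function.comp_apply]
    have := hcU u hu
    simp only [Function.comp_apply] at this
    rw [this, hki1 u ((le_sup_left : U ≤ U ⊔ Z₁) hu)]
  have hΦx : Φ x₃ = x₁ := by
    simp only [hΦdef, Function.comp_apply]
    rw [hgg_fix x₃ hx₃Zx, hx₃x₂, ← hkx₁, hki1 x₁ ((le_sup_right : Z₁ ≤ U ⊔ Z₁) hx₁Z₁)]
  -- a map of `C_F(U)`
  have hYU : centralizerIn S T ≤ centralizerIn S U := centralizerIn_anti hUT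
  have hZxY : Zx ≤ centralizerIn S U := hZxC.trans (CC_le.trans hYU)
  have hmD : Maps D Zx Φ := by
    refine (maps_cent hD).2 ⟨hΦ.restrict le_sup_right, hZxY, fun y hy => ?_, Φ, ?_, fun _ _ => rfl, hΦU⟩
    · obtain ⟨n, rfl⟩ := Subgroup.mem_zpowers_iff.1 hy
      rw [(hΦ.restrict le_sup_right).map_zpow hx₃Zx, hΦx]
      exact Subgroup.zpow_mem _ hx₁ n
    · rw [sup_comm]
      exact hΦ
  have := focal_gen hmD hx₃Zx
  rwa [hΦx] at this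

end Mu

end Cfsg.Agent.Lib.AschCore
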