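/-
AschGL: a transfer lemma for a strongly closed subgroup `V` of a Sylow subgroup whose normal closure has central part outside `V`;
stabilizers of a two step chain.
-/
import Mathlib
import Cfsg.Agent.Lib.AschMu
import Cfsg.Agent.Lib.TransferEval

set_option autoImplicit false
set_option linter.unusedSectionVars false
set_option linter.unusedVariables false
set_option linter.unusedSimpArgs false
set_option linter.style.haveILetI false

namespace Cfsg.Agent.Lib.AschCore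

open Cfsg Cfsg.FusionSystem Cfsg.Agent.Lib.FusionCore Cfsg.Agent.Lib.FusionCore2
open scoped commutatorElement Pointwise

universe u

section Group

variable {G : Type*} [Group G] [Finite G] {p : ℕ} [hp : Fact p.Prime]

/-- The intersection of a Sylow subgroup with a normal subgroup has index prime to `p` in the normal subgroup. -/
lemma not_dvd_index_subgroupOf (W : Sylow p G) (N : Subgroup G) [hN : N.Normal] :
    ¬ p ∣ ((W : Subgroup G).subgroupOf N).index := by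
  obtain ⟨B₀⟩ : Nonempty (Sylow p N) := inferInstance
  have hB₀ : IsPGroup p ((B₀ : Subgroup N).map N.subtype) := B₀.isPGroup'.map _
  obtain ⟨δ, hδ⟩ := Cfsg.Agent.Lib.FusionAlperin.sylow_conj_into W _ hB₀
  let B : Sylow p N := (MulAut.conjNormal δ : MulAut N) • B₀
  have hBA : ∀ b : N, b ∈ (B : Subgroup N) → (b : G) ∈ (W : Subgroup G) := by
    intro b hb
    have h1 : b ∈ (MulAut.conjNormal δ : MulAut N) • (B₀ : Subgroup N) := hb
    obtain ⟨c, hc, rfl⟩ := h1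
    exact hδ _ (Subgroup.mem_map_of_mem _ hc)
  have hWp : IsPGroup p ((W : Subgroup G).subgroupOf N) := W.isPGroup'.comap_of_injective N.subtype Subtype.val_injective
  have hle : (B : Subgroup N) ≤ (W : Subgroup G).subgroupOf N := fun b hb => Subgroup.mem_subgroupOf.2 (hBA b hb)
  have heq : (W : Subgroup G).subgroupOf N = (B : Subgroup N) := B.is_maximal' hWp hle
  rw [heq]
  exact B.not_dvd_index

lemma comm_mul_central {v₁ v₂ d₁ d₂ : G} (c₁ : v₁ * d₁ = d₁ * v₁) (c₂ : v₁ * d₂ = d₂ * v₁) (c₃ : v₂ * d₁ = d₁ * v₂)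
    (c₄ : v₂ * d₂ = d₂ * v₂) (c₅ : d₁ * d₂ = d₂ * d₁) : ⁅v₁ * d₁, v₂ * d₂⁆ = ⁅v₁, v₂⁆ := by
  have h1 : (v₁ * d₁) * (v₂ * d₂) = (v₁ * v₂) * (d₁ * d₂) := by
    calc (v₁ * d₁) * (v₂ * d₂) = v₁ * (d₁ * v₂) * d₂ := by group
      _ = v₁ * (v₂ * d₁) * d₂ := by rw [c₃]
      _ = _ := by group
  have h2 : (v₂ * d₂) * (v₁ * d₁) = (v₂ * v₁) * (d₁ * d₂) := by
    calc (v₂ * d₂) * (v₁ * d₁) = v₂ * (d₂ * v₁) * d₁ := by group
      _ = v₂ * (v₁ * d₂) * d₁ := by rw [c₂]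
      _ = (v₂ * v₁) * (d₂ * d₁) := by group
      _ = _ := by rw [c₅]
  have h3 : ∀ a b : G, ⁅a, b⁆ = a * b * (b * a)⁻¹ := by
    intro a b
    rw [commutatorElement_def]
    group
  rw [h3, h3, h1, h2]
  group

/-- **Transfer lemma.** Let `W` be a Sylow `p`-subgroup of `G`, `V ≤ W` strongly closed in `W`, `N` the normal closure of `V` in `G`. If every element of
`W ∩ N` is a product of an element of `V` and an element centralizing `N`, then `W ∩ N ≤ V`. -/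
theorem gl (W : Sylow p G) (V : Subgroup G) (hVW : V ≤ W) (hV : ∀ v ∈ V, ∀ g : G, g * v * g⁻¹ ∈ (W : Subgroup G) → g * v * g⁻¹ ∈ V)
    (hW₀ : ∀ w ∈ (W : Subgroup G), w ∈ Subgroup.normalClosure (V : Set G) →
      ∃ v ∈ V, ∃ d, d ∈ Subgroup.normalClosure (V : Set G) ∧ (∀ n ∈ Subgroup.normalClosure (V : Set G), n * d * n⁻¹ = d) ∧ w = v * d) :
    ∀ w ∈ (W : Subgroup G), w ∈ Subgroup.normalClosure (V : Set G) → w ∈ V := by
  classical
  set N := Subgroup.normalClosure (V : Set G) with hNdef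
  haveI hNn : N.Normal := Subgroup.normalClosure_normal
  have hVN : V ≤ N := fun x hx => Subgroup.subset_normalClosure hx
  let H : Subgroup ↥N := (W : Subgroup G).subgroupOf N
  have hHmem : ∀ x : ↥N, x ∈ H ↔ (x : G) ∈ (W : Subgroup G) := fun x => Subgroup.mem_subgroupOf
  let V₀ : Subgroup ↥H := (V.subgroupOf N).subgroupOf H
  have hV₀mem : ∀ x : ↥H, x ∈ V₀ ↔ ((x : ↥N) : G) ∈ V := fun x => by
    show (x : ↥N) ∈ V.subgroupOf N ↔ _
    exact Subgroup.mem_subgroupOf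
  let A := Abelianization ↥H ⧸ (V₀.map (Abelianization.of (G := ↥H)))
  let f₀ : ↥H →* A := (QuotientGroup.mk' _).comp Abelianization.of
  -- the commutators of `H` lie in `V₀`
  have hcomm : commutator ↥H ≤ V₀ := by
    rw [commutator_def, Subgroup.commutator_le]
    intro a _ b _
    obtain ⟨v₁, hv₁, d₁, hd₁N, hd₁c, ha⟩ := hW₀ ((a : ↥N) : G) ((hHmem _).1 a.2) (a : ↥N).2
    obtain ⟨v₂, hv₂, d₂, hd₂N, hd₂c, hb⟩ := hW₀ ((b : ↥N) : G) ((hHmem _).1 b.2) (b : ↥N).2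
    rw [hV₀mem]
    have e : (((⁅a, b⁆ : ↥H) : ↥N) : G) = ⁅((a : ↥N) : G), ((b : ↥N) : G)⁆ := rfl
    rw [e, ha, hb]
    have hcm : ∀ {n d : G}, n ∈ N → (∀ n ∈ N, n * d * n⁻¹ = d) → n * d = d * n := by
      intro n d hn h
      have := h n hn
      rw [mul_inv_eq_iff_eq_mul] at this
      exact this
    have e2 : ⁅v₁ * d₁, v₂ * d₂⁆ = ⁅v₁, v₂⁆ :=
      comm_mul_central (hcm (hVN hv₁) hd₁c) (hcm (hVN hv₁) hd₂c) (hcm (hVN hv₂) hd₁c) (hcm (hVN hv₂) hd₂c) (hcm hd₁N hd₂c)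
    rw [e2]
    have h3 : ⁅v₁, v₂⁆ ∈ V := by
      rw [commutatorElement_def]
      exact V.mul_mem (V.mul_mem (V.mul_mem hv₁ hv₂) (V.inv_mem hv₁)) (V.inv_mem hv₂)
    exact h3
  have hf₀ : ∀ s : ↥H, f₀ s = 1 ↔ ((s : ↥N) : G) ∈ V := by
    intro s
    constructor
    · intro h
      have h1 : Abelianization.of s ∈ V₀.map (Abelianization.of (G := ↥H)) := (QuotientGroup.eq_one_iff _).1 h
      obtain ⟨d, hd, hds⟩ := h1
      have h2 : d⁻¹ * s ∈ (Abelianization.of (G := ↥H)).ker := by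
        rw [MonoidHom.mem_ker, map_mul, map_inv]
        show (Abelianization.of d)⁻¹ * Abelianization.of s = 1
        rw [← hds]
        simp
      rw [Abelianization.ker_of] at h2
      have h5 := V₀.mul_mem hd (hcomm h2)
      have h6 : d * (d⁻¹ * s) = s := by group
      rw [h6] at h5
      exact (hV₀mem s).1 h5
    · intro h
      exact (QuotientGroup.eq_one_iff _).2 ⟨s, (hV₀mem s).2 h, rfl⟩
  -- fusion invariance
  have hinv : ∀ (x : ↥H) (g : ↥N) (hg : g⁻¹ * (x : ↥N) * g ∈ H), f₀ ⟨g⁻¹ * (x : ↥N) * g, hg⟩ = f₀ x := by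
    intro x g hg
    obtain ⟨v, hv, d, hdN, hdc, hx⟩ := hW₀ ((x : ↥N) : G) ((hHmem _).1 x.2) (x : ↥N).2
    have hvW : v ∈ (W : Subgroup G) := hVW hv
    have hdW : d ∈ (W : Subgroup G) := by
      have : d = v⁻¹ * ((x : ↥N) : G) := by rw [hx]; group
      rw [this]
      exact Subgroup.mul_mem _ (Subgroup.inv_mem _ hvW) ((hHmem _).1 x.2)
    have hgW : ((g : G)⁻¹ * ((x : ↥N) : G) * g) ∈ (W : Subgroup G) := (hHmem _).1 hg
    have hgd : (g : G)⁻¹ * d * g = d := by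
      have := hdc (g : G)⁻¹ (Subgroup.inv_mem _ g.2)
      simpa using this
    have hve : (g : G)⁻¹ * ((x : ↥N) : G) * g = ((g : G)⁻¹ * v * g) * d := by
      rw [hx]
      calc (g : G)⁻¹ * (v * d) * g = (g : G)⁻¹ * v * g * ((g : G)⁻¹ * d * g) := by group
        _ = _ := by rw [hgd]
    have hvgW : (g : G)⁻¹ * v * g ∈ (W : Subgroup G) := by
      have : (g : G)⁻¹ * v * g = ((g : G)⁻¹ * ((x : ↥N) : G) * g) * d⁻¹ := by rw [hve]; group
      rw [this]
      exact Subgroup.mul_mem _ hgW (Subgroup.inv_mem _ hdW)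
    have hvgV : (g : G)⁻¹ * v * g ∈ V := by
      have := hV v hv (g : G)⁻¹ (by simpa using hvgW)
      simpa using this
    -- evaluate
    let vH : ↥H := ⟨⟨v, hVN hv⟩, (hHmem _).2 hvW⟩
    let dH : ↥H := ⟨⟨d, hdN⟩, (hHmem _).2 hdW⟩
    let wH : ↥H := ⟨⟨(g : G)⁻¹ * v * g, hVN hvgV⟩, (hHmem _).2 hvgW⟩
    have e1 : x = vH * dH := Subtype.ext (Subtype.ext hx)
    have e2 : (⟨g⁻¹ * (x : ↥N) * g, hg⟩ : ↥H) = wH * dH := Subtype.ext (Subtype.ext hve)
    rw [e2, e1, map_mul, map_mul, (hf₀ wH).2 hvgV, (hf₀ vH).2 hv]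
  -- the transfer
  haveI : H.FiniteIndex := inferInstance
  let τ : ↥N →* A := f₀.transfer
  have hτ : ∀ x : ↥H, τ (x : ↥N) = f₀ x ^ H.index := fun x =>
    Cfsg.Agent.Lib.TransferEval.transfer_eq_pow_of_fusion f₀ hinv x
  -- the transfer is trivial
  have hτ1 : ∀ n : ↥N, τ n = 1 := by
    let K : Subgroup G := τ.ker.map N.subtype
    have hK : N ≤ K := by
      rw [hNdef, Subgroup.normalClosure, Subgroup.closure_le]
      intro c hc
      obtain ⟨v, hv, hvc⟩ := Group.mem_conjugatesOfSet_iff.1 hc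
      obtain ⟨g, rfl⟩ := _root_.isConj_iff.1 hvc
      obtain ⟨ν, κ, hκ, hg, hν⟩ := Cfsg.Agent.Lib.FusionAlperin.frattini_inf W N g
      have hw0 : ν * v * ν⁻¹ ∈ (W : Subgroup G) ⊓ N := hν v ⟨hVW hv, hVN hv⟩
      have hwV : ν * v * ν⁻¹ ∈ V := hV v hv ν hw0.1
      have hκ' : ν * κ * ν⁻¹ ∈ N := hNn.conj_mem κ hκ ν
      have hc' : g * v * g⁻¹ = (ν * κ * ν⁻¹) * (ν * v * ν⁻¹) * (ν * κ * ν⁻¹)⁻¹ := by
        rw [hg]
        group
      let κ'' : ↥N := ⟨ν * κ * ν⁻¹, hκ'⟩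
      let w' : ↥N := ⟨ν * v * ν⁻¹, hVN hwV⟩
      have hw'H : w' ∈ H := (hHmem _).2 hw0.1
      have hτw : τ w' = 1 := by
        have h1 := hτ ⟨w', hw'H⟩
        rw [(hf₀ ⟨w', hw'H⟩).2 hwV, one_pow] at h1
        exact h1
      refine ⟨κ'' * w' * κ''⁻¹, ?_, hc'.symm⟩
      show τ (κ'' * w' * κ''⁻¹) = 1
      rw [map_mul, map_mul, hτw, mul_one, map_inv, mul_inv_cancel]
    intro n
    obtain ⟨m, hm, hmn⟩ := hK n.2
    have : m = n := Subtype.ext hmn
    rw [← this]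
    exact hm
  intro w hw hwN
  have hwH : (⟨w, hwN⟩ : ↥N) ∈ H := (hHmem _).2 hw
  let x : ↥H := ⟨⟨w, hwN⟩, hwH⟩
  have h1 : f₀ x ^ H.index = 1 := by
    rw [← hτ x]
    exact hτ1 _
  obtain ⟨k, hk⟩ := W.isPGroup' ⟨w, hw⟩
  have h4 : f₀ x ^ p ^ k = 1 := by
    rw [← map_pow]
    have : x ^ p ^ k = 1 := by
      apply Subtype.ext
      apply Subtype.ext
      have := congrArg Subtype.val hk
      simpa using this
    rw [this, map_one]
  have h5 : H.index.Coprime p := ((Nat.Prime.coprime_iff_not_dvd hp.out).2 (not_dvd_index_subgroupOf W N)).symm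
  have h6 := Cfsg.Agent.Lib.PResid.eq_one_of_pow_eq_one_of_coprime h4 h1 h5
  exact (hf₀ x).1 h6

end Group

end Cfsg.Agent.Lib.AschCore
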