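/-
AschStab: the stabilizer of a two step chain `R ≤ A` in `Aut_F(A)`.
-/
import Mathlib
import Cfsg.Agent.Lib.AschGL

set_option autoImplicit false
set_option linter.unusedSectionVars false
set_option linter.unusedVariables false
set_option linter.unusedSimpArgs false
set_option linter.style.haveILetI false

namespace Cfsg.Agent.Lib.AschCore

open Cfsg Cfsg.FusionSystem Cfsg.Agent.Lib.FusionCore Cfsg.Agent.Lib.FusionCore2

universe u

variable {Ω : Type u} [Group Ω] {S T : Subgroup Ω} {F : FusionSystem S} {E : FusionSystem T} {p : ℕ}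

section Stab

variable [Finite S] {A R : Subgroup Ω}

/-- The automorphisms in `F` of `A` fixing `R` and acting trivially on `A` modulo `R`. -/
def stabK (F : FusionSystem S) (A R : Subgroup Ω) (hRA : R ≤ A) (hAS : A ≤ S)
    (hinv : ∀ g ∈ F.autGroup A, ∀ x ∈ R, afn g x ∈ R) : Subgroup ↥(F.autGroup A) where
  carrier := {g | (∀ x ∈ R, afn (g : MulAut A) x = x) ∧ ∀ a ∈ A, a⁻¹ * afn (g : MulAut A) a ∈ R}
  mul_mem' := by
    rintro g h ⟨g1, g2⟩ ⟨h1, h2⟩
    have hgm := (mem_autGroup_iff hAS).1 g.2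
    refine ⟨fun x hx => ?_, fun a ha => ?_⟩
    · show afn ((g : MulAut A) * (h : MulAut A)) x = x
      rw [afn_mul _ _ (hRA hx), h1 x hx, g1 x hx]
    · show a⁻¹ * afn ((g : MulAut A) * (h : MulAut A)) a ∈ R
      rw [afn_mul _ _ ha]
      have e : afn (h : MulAut A) a = a * (a⁻¹ * afn (h : MulAut A) a) := by group
      rw [e, hgm.map_mul ha (hRA (h2 a ha)), g1 _ (h2 a ha)]
      have := R.mul_mem (g2 a ha) (h2 a ha)
      rwa [mul_assoc] at this
  one_mem' := by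
    refine ⟨fun x hx => afn_one (hRA hx), fun a ha => ?_⟩
    show a⁻¹ * afn (1 : MulAut A) a ∈ R
    rw [afn_one ha, inv_mul_cancel]
    exact R.one_mem
  inv_mem' := by
    rintro g ⟨g1, g2⟩
    refine ⟨fun x hx => ?_, fun a ha => ?_⟩
    · show afn (g : MulAut A)⁻¹ x = x
      have := afn_inv_afn (g : MulAut A) (hRA hx)
      rwa [g1 x hx] at this
    · show a⁻¹ * afn (g : MulAut A)⁻¹ a ∈ R
      have hb : afn (g : MulAut A)⁻¹ a ∈ A := afn_mem _ ha
      have h1 := g2 _ hb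
      rw [afn_afn_inv _ ha] at h1
      have := R.inv_mem h1
      simpa using this

lemma mem_stabK {hRA : R ≤ A} {hAS : A ≤ S} {hinv : ∀ g ∈ F.autGroup A, ∀ x ∈ R, afn g x ∈ R} {g : ↥(F.autGroup A)} :
    g ∈ stabK F A R hRA hAS hinv ↔ (∀ x ∈ R, afn (g : MulAut A) x = x) ∧ ∀ a ∈ A, a⁻¹ * afn (g : MulAut A) a ∈ R := Iff.rfl

instance stabK_normal (hRA : R ≤ A) (hAS : A ≤ S) (hinv : ∀ g ∈ F.autGroup A, ∀ x ∈ R, afn g x ∈ R) :
    (stabK F A R hRA hAS hinv).Normal where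
  conj_mem := by
    rintro g ⟨g1, g2⟩ n
    have hnm := (mem_autGroup_iff hAS).1 n.2
    refine ⟨fun x hx => ?_, fun a ha => ?_⟩
    · show afn ((n : MulAut A) * (g : MulAut A) * (n : MulAut A)⁻¹) x = x
      have hx' : afn (n : MulAut A)⁻¹ x ∈ R := hinv _ (n⁻¹).2 x hx
      rw [afn_mul _ _ (hRA hx), afn_mul _ _ (hRA hx'), g1 _ hx', afn_afn_inv _ (hRA hx)]
    · show a⁻¹ * afn ((n : MulAut A) * (g : MulAut A) * (n : MulAut A)⁻¹) a ∈ R
      have hb : afn (n : MulAut A)⁻¹ a ∈ A := afn_mem _ ha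
      rw [afn_mul _ _ ha, afn_mul _ _ hb]
      have h1 := g2 _ hb
      have h2 := hinv _ n.2 _ h1
      have hgb : afn (g : MulAut A) (afn (n : MulAut A)⁻¹ a) ∈ A := afn_mem _ hb
      rw [hnm.map_mul (A.inv_mem hb) hgb, hnm.map_inv hb, afn_afn_inv _ ha] at h2
      exact h2

lemma stabK_isPGroup [Fact p.Prime] (hS : IsPGroup p S) (hRA : R ≤ A) (hAS : A ≤ S)
    (hinv : ∀ g ∈ F.autGroup A, ∀ x ∈ R, afn g x ∈ R) : IsPGroup p (stabK F A R hRA hAS hinv) := by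
  rintro ⟨g, g1, g2⟩
  have h := isPGroup_zpowers_of_stab hS hAS hRA g1 g2
  obtain ⟨k, hk⟩ := h ⟨(g : MulAut A), Subgroup.mem_zpowers _⟩
  refine ⟨k, ?_⟩
  apply Subtype.ext
  apply Subtype.ext
  simpa using congrArg Subtype.val hk

lemma stabK_le_sylow [Fact p.Prime] (hS : IsPGroup p S) (hRA : R ≤ A) (hAS : A ≤ S)
    (hinv : ∀ g ∈ F.autGroup A, ∀ x ∈ R, afn g x ∈ R) (W : Sylow p ↥(F.autGroup A)) :
    stabK F A R hRA hAS hinv ≤ (W : Subgroup ↥(F.autGroup A)) :=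
  (stabK_isPGroup hS hRA hAS hinv).le_sylow_of_normal W

end Stab

end Cfsg.Agent.Lib.AschCore
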