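/-
AschLA: for `A` fully normalized with `A ∩ T = Q`, `Q` fully normalized with `C_T(Q) ≤ Q`, `A = Q C_A(Q)`, and the automorphisms of `A` stabilizing
`A ≥ Q ≥ 1` inner, maps of `F` on `A` fixing `Q` commute with the action of `N_T(A)`.
-/
import Mathlib
import Cfsg.Agent.Lib.AschStab

set_option autoImplicit false
set_option linter.unusedSectionVars false
set_option linter.unusedVariables false
set_option linter.unusedSimpArgs false
set_option linter.style.haveILetI false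

namespace Cfsg.Agent.Lib.AschCore

open Cfsg Cfsg.FusionSystem Cfsg.Agent.Lib.FusionCore Cfsg.Agent.Lib.FusionCore2
open Cfsg.Agent.Lib.FusionInvariant (Str Inv Frat isInvariantIn_iff str_of_inv_frat maps_sub StrongMem aut_maps)

universe u

variable {Ω : Type u} [Group Ω] {S T : Subgroup Ω} {F : FusionSystem S} {E : FusionSystem T} {p : ℕ}

/-- The hypotheses on `Q ≤ A`. -/
structure LAH (F : FusionSystem S) (T Q A : Subgroup Ω) : Prop where
  hT : F.StronglyClosed T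
  hQT : Q ≤ T
  hc : centralizerIn T Q ≤ Q
  hQA : Q ≤ A
  hAT : ∀ a ∈ A, a ∈ T → a ∈ Q
  hAS : A ≤ S
  hAB : ∀ a ∈ A, ∃ q ∈ Q, ∃ b ∈ A, b ∈ centralizerIn S Q ∧ a = q * b
  hNI : ∀ δ ∈ F.autGroup A, (∀ x ∈ Q, afn δ x = x) → (∀ a ∈ A, a⁻¹ * afn δ a ∈ Q) →
      ∃ b₀ ∈ A, b₀ ∈ centralizerIn S Q ∧ ∀ a ∈ A, afn δ a = b₀ * a * b₀⁻¹

section LA

variable [Finite S] {Q A : Subgroup Ω}

lemma LAH.gm (h : LAH F T Q A) {g : MulAut A} (hg : g ∈ F.autGroup A) : Maps F A (afn g) :=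
  (mem_autGroup_iff h.hAS).1 hg

lemma LAH.gQ (h : LAH F T Q A) {g : MulAut A} (hg : g ∈ F.autGroup A) {x : Ω} (hx : x ∈ Q) : afn g x ∈ Q :=
  h.hAT _ (afn_mem g (h.hQA hx)) (StrongMem h.hT h.hQT ((h.gm hg).restrict h.hQA) hx)

lemma LAH.QS (h : LAH F T Q A) : Q ≤ S := h.hQA.trans h.hAS

lemma LAH.img_Q (h : LAH F T Q A) {g : MulAut A} (hg : g ∈ F.autGroup A) : img (afn g) Q = Q :=
  img_eq_of_card ((h.gm hg).restrict h.hQA) h.QS h.QS (fun _ hx => h.gQ hg hx) le_rfl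

/-- The central elements of `Q` are central in `A`. -/
lemma LAH.z_comm (h : LAH F T Q A) {z a : Ω} (hz : z ∈ Q) (hzc : z ∈ centralizerIn S Q) (ha : a ∈ A) : z * a = a * z := by
  obtain ⟨q, hq, b, -, hb, rfl⟩ := h.hAB a ha
  have h1 : q * z = z * q := (mem_centralizerIn.1 hzc).2 q hq
  have h2 : z * b = b * z := (mem_centralizerIn.1 hb).2 z hz
  calc z * (q * b) = (z * q) * b := by group
    _ = q * (z * b) := by rw [← h1]; group
    _ = q * (b * z) := by rw [h2]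
    _ = _ := by group

/-- The automorphisms in `F` of `A` which on `Q` are in `E` and act trivially on `A` modulo `Q`. -/
def mM (h : LAH F T Q A) (E : FusionSystem T) : Subgroup ↥(F.autGroup A) where
  carrier := {g | Maps E Q (afn (g : MulAut A)) ∧ ∀ a ∈ A, a⁻¹ * afn (g : MulAut A) a ∈ Q}
  mul_mem' := by
    rintro g n ⟨g1, g2⟩ ⟨n1, n2⟩
    refine ⟨?_, fun a ha => ?_⟩
    · refine (n1.comp g1 (fun x hx => h.gQ n.2 hx)).congr (fun x hx => ?_)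
      simp only [Function.comp]
      exact (afn_mul _ _ (h.hQA hx)).symm
    · show a⁻¹ * afn ((g : MulAut A) * (n : MulAut A)) a ∈ Q
      rw [afn_mul _ _ ha]
      have e : afn (n : MulAut A) a = a * (a⁻¹ * afn (n : MulAut A) a) := by group
      rw [e, (h.gm g.2).map_mul ha (h.hQA (n2 a ha))]
      have := Q.mul_mem (g2 a ha) (h.gQ g.2 (n2 a ha))
      rwa [mul_assoc] at this
  one_mem' := by
    refine ⟨(Maps.id h.hQT).congr (fun x hx => (afn_one (h.hQA hx)).symm), fun a ha => ?_⟩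
    show a⁻¹ * afn (1 : MulAut A) a ∈ Q
    rw [afn_one ha, inv_mul_cancel]
    exact Q.one_mem
  inv_mem' := by
    rintro g ⟨g1, g2⟩
    refine ⟨?_, fun a ha => ?_⟩
    · obtain ⟨gi, hgi, hgi1, -⟩ := g1.inv
      rw [h.img_Q g.2] at hgi
      refine hgi.congr (fun x hx => ?_)
      have hx' : afn (g : MulAut A)⁻¹ x ∈ Q := h.gQ (Subgroup.inv_mem _ g.2) hx
      have := hgi1 _ hx'
      rwa [afn_afn_inv _ (h.hQA hx)] at this
    · show a⁻¹ * afn (g : MulAut A)⁻¹ a ∈ Q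
      have hb : afn (g : MulAut A)⁻¹ a ∈ A := afn_mem _ ha
      have h1 := g2 _ hb
      rw [afn_afn_inv _ ha] at h1
      have := Q.inv_mem h1
      simpa using this

lemma mem_mM {h : LAH F T Q A} {g : ↥(F.autGroup A)} :
    g ∈ mM h E ↔ Maps E Q (afn (g : MulAut A)) ∧ ∀ a ∈ A, a⁻¹ * afn (g : MulAut A) a ∈ Q := Iff.rfl

lemma mM_normal (h : LAH F T Q A) (hStr : Str F E) : (mM h E).Normal where
  conj_mem := by
    rintro g ⟨g1, g2⟩ n
    refine ⟨?_, fun a ha => ?_⟩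
    · have hnQ : Maps F Q (afn (n : MulAut A)) := (h.gm n.2).restrict h.hQA
      obtain ⟨kk, hkk, hkk1⟩ := hStr le_rfl h.hQT g1 (fun x hx => h.gQ g.2 hx) hnQ
      rw [h.img_Q n.2] at hkk
      refine hkk.congr (fun x hx => ?_)
      have hx' : afn (n : MulAut A)⁻¹ x ∈ Q := h.gQ (Subgroup.inv_mem _ n.2) hx
      have := hkk1 _ hx'
      rw [afn_afn_inv _ (h.hQA hx)] at this
      rw [this]
      show _ = afn ((n : MulAut A) * (g : MulAut A) * (n : MulAut A)⁻¹) x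
      rw [afn_mul _ _ (h.hQA hx), afn_mul _ _ (h.hQA hx')]
    · show a⁻¹ * afn ((n : MulAut A) * (g : MulAut A) * (n : MulAut A)⁻¹) a ∈ Q
      have hb : afn (n : MulAut A)⁻¹ a ∈ A := afn_mem _ ha
      rw [afn_mul _ _ ha, afn_mul _ _ hb]
      have h1 := g2 _ hb
      have h2 := h.gQ n.2 h1
      have hnm := h.gm n.2
      have hgb : afn (g : MulAut A) (afn (n : MulAut A)⁻¹ a) ∈ A := afn_mem _ hb
      rw [hnm.map_mul (A.inv_mem hb) hgb, hnm.map_inv hb, afn_afn_inv _ ha] at h2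
      exact h2

/-- Conjugation by an element of `N_S(A)`. -/
noncomputable def cG (F : FusionSystem S) (hAS : A ≤ S) (t : Ω) (ht : t ∈ S) (hN : t ∈ Subgroup.normalizer (A : Set Ω)) :
    ↥(F.autGroup A) :=
  ⟨conjN S A ⟨t, mem_normalizerIn.2 ⟨ht, hN⟩⟩, autInducedBy_le_autGroup hAS
    (mem_autInducedBy.2 ⟨t, ht, fun _ hx => afn_conjN _ hx⟩)⟩

lemma afn_cG (hAS : A ≤ S) {t : Ω} (ht : t ∈ S) (hN : t ∈ Subgroup.normalizer (A : Set Ω)) {x : Ω} (hx : x ∈ A) :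
    afn ((cG F hAS t ht hN : ↥(F.autGroup A)) : MulAut A) x = t * x * t⁻¹ := afn_conjN _ hx

/-- The action of `N_T(A)` on `A`. -/
def vV (F : FusionSystem S) (T A : Subgroup Ω) : Subgroup ↥(F.autGroup A) := (autInducedBy T A).subgroupOf (F.autGroup A)

lemma mem_vV {g : ↥(F.autGroup A)} : g ∈ vV F T A ↔ ∃ t ∈ T, ∀ x ∈ A, afn (g : MulAut A) x = t * x * t⁻¹ := by
  rw [vV, Subgroup.mem_subgroupOf, mem_autInducedBy]

lemma vV_le_mM (h : LAH F T Q A) : vV F T A ≤ mM h E := by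
  intro v hv
  obtain ⟨t, ht, htv⟩ := mem_vV.1 hv
  refine ⟨(Maps.conj h.hQT ht).congr (fun x hx => (htv x (h.hQA hx)).symm), fun a ha => ?_⟩
  refine h.hAT _ (A.mul_mem (A.inv_mem ha) (afn_mem _ ha)) ?_
  rw [htv a ha]
  have h1 := sc_conj h.hT (S.inv_mem (h.hAS ha)) ht
  have h2 := T.mul_mem h1 (T.inv_mem ht)
  have e : a⁻¹ * t * a⁻¹⁻¹ * t⁻¹ = a⁻¹ * (t * a * t⁻¹) := by group
  rwa [e] at h2

/-- `V` is strongly closed in `W`. -/
lemma vV_strong (h : LAH F T Q A) (hR : F.IsReceptive A) {v g : ↥(F.autGroup A)} (hv : v ∈ vV F T A)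
    (hW : g * v * g⁻¹ ∈ (autInducedBy S A).subgroupOf (F.autGroup A)) : g * v * g⁻¹ ∈ vV F T A := by
  obtain ⟨t, ht, htv⟩ := mem_vV.1 hv
  obtain ⟨s, hs, hsv⟩ := mem_autInducedBy.1 (Subgroup.mem_subgroupOf.1 hW)
  have hgm := h.gm g.2
  have hAS := h.hAS
  haveI : Finite A := finite_of_le hAS
  obtain ⟨k, hk, hk1⟩ := IsReceptive.ext hR hgm (afn_img _)
  have hvA : ∀ x ∈ A, t * x * t⁻¹ ∈ A := fun x hx => by
    rw [← htv x hx]
    exact afn_mem _ hx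
  have htN : t ∈ Subgroup.normalizer (A : Set Ω) := mem_normalizer_of_conj_mem hvA
  have hgv : ∀ x ∈ A, afn (g : MulAut A) (t * x * t⁻¹) = s * afn (g : MulAut A) x * s⁻¹ := by
    intro x hx
    rw [← htv x hx]
    have hgx : afn (g : MulAut A) x ∈ A := afn_mem _ hx
    have e := hsv _ hgx
    have e2 : ((g * v * g⁻¹ : ↥(F.autGroup A)) : MulAut A) = (g : MulAut A) * (v : MulAut A) * (g : MulAut A)⁻¹ := rfl
    rw [e2, afn_mul _ _ hgx, afn_mul _ _ (afn_mem _ hgx), afn_inv_afn _ hx] at e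
    exact e
  have htNf : t ∈ Nf S A (afn (g : MulAut A)) := mem_Nf.2 ⟨h.hT.1 ht, htN, s, hs, hgv⟩
  have hkt : k t ∈ T := StrongMem h.hT (Subgroup.zpowers_le.2 ht)
    (hk.restrict (Subgroup.zpowers_le.2 htNf)) (Subgroup.mem_zpowers t)
  refine mem_vV.2 ⟨k t, hkt, fun y hy => ?_⟩
  have hyi : afn (g : MulAut A)⁻¹ y ∈ A := afn_mem _ hy
  have hAN : A ≤ Nf S A (afn (g : MulAut A)) := le_Nf hgm
  have hc := hk.map_conj htNf (hAN hyi)
  rw [hk1 _ hyi, afn_afn_inv _ hy, hk1 _ (hvA _ hyi), hgv _ hyi, afn_afn_inv _ hy] at hc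
  rw [← hc, ← hsv y hy]

/-- Fixing `Q` and lying in `M` gives central elements of `M`. -/
lemma central_of_fix (h : LAH F T Q A) {d n : ↥(F.autGroup A)} (hd : d ∈ mM h E) (hdQ : ∀ x ∈ Q, afn (d : MulAut A) x = x)
    (hn : n ∈ mM h E) : n * d * n⁻¹ = d := by
  obtain ⟨b₀, hb₀, hb₀c, hdb⟩ := h.hNI _ d.2 hdQ hd.2
  have hnm := h.gm n.2
  set b₁ := afn (n : MulAut A) b₀ with hb₁
  have hb₁A : b₁ ∈ A := afn_mem _ hb₀
  have hb₁c : b₁ ∈ centralizerIn S Q := by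
    refine mem_centralizerIn.2 ⟨h.hAS hb₁A, fun q hq => ?_⟩
    have hq' : afn (n : MulAut A)⁻¹ q ∈ Q := h.gQ (Subgroup.inv_mem _ n.2) hq
    have hq'A := h.hQA hq'
    have e := (mem_centralizerIn.1 hb₀c).2 _ hq'
    have e1 := congrArg (afn (n : MulAut A)) e
    rw [hnm.map_mul hq'A hb₀, hnm.map_mul hb₀ hq'A, afn_afn_inv _ (h.hQA hq)] at e1
    exact e1
  set z := b₀⁻¹ * b₁ with hz
  have hzQ : z ∈ Q := hn.2 b₀ hb₀
  have hzc : z ∈ centralizerIn S Q := Subgroup.mul_mem _ (Subgroup.inv_mem _ hb₀c) hb₁c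
  have hb₁e : b₁ = b₀ * z := by rw [hz]; group
  apply Subtype.ext
  apply afn_ext
  intro a ha
  show afn ((n : MulAut A) * (d : MulAut A) * (n : MulAut A)⁻¹) a = _
  have hb : afn (n : MulAut A)⁻¹ a ∈ A := afn_mem _ ha
  rw [afn_mul _ _ ha, afn_mul _ _ hb, hdb _ hb,
    hnm.map_mul (A.mul_mem hb₀ hb) (A.inv_mem hb₀), hnm.map_mul hb₀ hb, hnm.map_inv hb₀, afn_afn_inv _ ha, hdb a ha, ← hb₁, hb₁e]
  have e := h.z_comm hzQ hzc ha
  calc b₀ * z * a * (b₀ * z)⁻¹ = b₀ * (z * a) * z⁻¹ * b₀⁻¹ := by group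
    _ = b₀ * (a * z) * z⁻¹ * b₀⁻¹ := by rw [e]
    _ = _ := by group

/-- An element of `N_S(A)` acting on `Q` as an element of `E` acts on `Q` as an element of `N_T(Q)`. -/
lemma exists_T_of_E [Fact p.Prime] (hS : IsPGroup p S) (h : LAH F T Q A) (hEA : E.IsFullyAutomized p Q) {s : Ω} (hs : s ∈ S)
    (hsN : s ∈ Subgroup.normalizer (Q : Set Ω)) (hm : Maps E Q (fun x => s * x * s⁻¹)) :
    ∃ t ∈ T, ∀ x ∈ Q, s * x * s⁻¹ = t * x * t⁻¹ := by
  have hQT := h.hQT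
  have hTS := h.hT.1
  haveI : Finite T := finite_of_le hTS
  haveI : Finite Q := finite_of_le (hQT.trans hTS)
  haveI : Finite (MulAut Q) := finite_mulAut (S := S) (hQT.trans hTS)
  obtain ⟨-, R, hRdef⟩ := hEA
  let a : MulAut Q := conjN S Q ⟨s, mem_normalizerIn.2 ⟨hs, hsN⟩⟩
  have hav : ∀ x ∈ Q, afn a x = s * x * s⁻¹ := fun x hx => afn_conjN _ hx
  have haE : a ∈ E.autGroup Q := (mem_autGroup_iff hQT).2 (hm.congr (fun x hx => (hav x hx).symm))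
  let a' : ↥(E.autGroup Q) := ⟨a, haE⟩
  obtain ⟨k, hk⟩ := hS ⟨s, hs⟩
  have hsk : s ^ p ^ k = 1 := by simpa using congrArg Subtype.val hk
  have hak : a' ^ p ^ k = 1 := by
    apply Subtype.ext
    show a ^ p ^ k = 1
    show (conjN S Q ⟨s, mem_normalizerIn.2 ⟨hs, hsN⟩⟩) ^ p ^ k = 1
    rw [← map_pow]
    have : (⟨s, mem_normalizerIn.2 ⟨hs, hsN⟩⟩ : ↥(normalizerIn S Q)) ^ p ^ k = 1 := Subtype.ext hsk
    rw [this, map_one]
  have hB : IsPGroup p (Subgroup.zpowers a') := by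
    rw [IsPGroup.iff_card]
    have h1 : orderOf a' ∣ p ^ k := orderOf_dvd_of_pow_eq_one hak
    obtain ⟨j, -, hj⟩ := (Nat.dvd_prime_pow (Fact.out : p.Prime)).1 h1
    exact ⟨j, by rw [Nat.card_zpowers, hj]⟩
  have hnorm : a' ∈ Subgroup.normalizer ((R : Subgroup ↥(E.autGroup Q)) : Set ↥(E.autGroup Q)) := by
    apply mem_normalizer_of_conj_mem
    intro r hr
    rw [hRdef] at hr ⊢
    obtain ⟨u, hu, huv⟩ := mem_autInducedBy.1 (Subgroup.mem_subgroupOf.1 hr)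
    refine Subgroup.mem_subgroupOf.2 (mem_autInducedBy.2 ⟨s * u * s⁻¹, sc_conj h.hT hs hu, fun x hx => ?_⟩)
    show afn (a * (r : MulAut Q) * a⁻¹) x = _
    have hx' : afn a⁻¹ x ∈ Q := afn_mem _ hx
    have e : s * (afn a⁻¹ x) * s⁻¹ = x := by
      rw [← hav _ hx', afn_afn_inv _ hx]
    have e2 : afn a⁻¹ x = s⁻¹ * x * s := by
      calc afn a⁻¹ x = s⁻¹ * (s * (afn a⁻¹ x) * s⁻¹) * s := by group
        _ = _ := by rw [e]
    rw [afn_mul _ _ hx, afn_mul _ _ hx', hav _ (afn_mem (r : MulAut Q) hx'), huv _ hx', e2]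
    group
  have hmem : a' ∈ (Subgroup.zpowers a') ⊓ Subgroup.normalizer (R : Set ↥(E.autGroup Q)) := ⟨Subgroup.mem_zpowers _, hnorm⟩
  rw [hB.inf_normalizer_sylow R] at hmem
  have h3 := hmem.2
  rw [hRdef] at h3
  obtain ⟨t, ht, htv⟩ := mem_autInducedBy.1 (Subgroup.mem_subgroupOf.1 h3)
  exact ⟨t, ht, fun x hx => by rw [← hav x hx]; exact htv x hx⟩

/-- An element of `N_T(Q)` normalizes `A`. -/
lemma LAH.normalizes (h : LAH F T Q A) {t : Ω} (ht : t ∈ T) (hN : t ∈ Subgroup.normalizer (Q : Set Ω)) :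
    t ∈ Subgroup.normalizer (A : Set Ω) := by
  haveI : Finite A := finite_of_le h.hAS
  apply mem_normalizer_of_conj_mem
  intro a ha
  obtain ⟨q, hq, b, hbA, hb, rfl⟩ := h.hAB a ha
  have h1 := conj_hY h.hT h.QS h.hc ht hN hb
  have e : t * (q * b) * t⁻¹ = (t * q * t⁻¹) * b * (b⁻¹ * (t * b * t⁻¹)) := by group
  rw [e]
  exact A.mul_mem (A.mul_mem (h.hQA ((Subgroup.mem_normalizer_iff.1 hN q).1 hq)) hbA) (h.hQA h1)

/-- **The key lemma on automorphisms.** -/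
theorem la [Fact p.Prime] (hS : IsPGroup p S) (hF : F.IsSaturated p) (h : LAH F T Q A) (hStr : Str F E)
    (hEA : E.IsFullyAutomized p Q) (hAn : F.IsFullyNormalized A) {k : Ω → Ω} (hk : Maps F A k) (hkimg : img k A = A)
    (hkQ : ∀ q ∈ Q, k q = q) {t : Ω} (htT : t ∈ T) (htN : t ∈ Subgroup.normalizer (A : Set Ω)) :
    ∀ a ∈ A, k (t * a * t⁻¹) = t * k a * t⁻¹ := by
  classical
  have hAS := h.hAS
  have hTS := h.hT.1
  haveI : Finite A := finite_of_le hAS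
  haveI : Finite (MulAut A) := finite_mulAut (S := S) hAS
  obtain ⟨hAc, hAa⟩ := of_fullyNormalized hS hF hAn
  have hR : F.IsReceptive A := receptive_of_fullyCentralized hS hF hAc
  obtain ⟨-, W, hWdef⟩ := hAa
  haveI hMn : (mM h E).Normal := mM_normal h hStr
  have hVW : vV F T A ≤ (W : Subgroup ↥(F.autGroup A)) := by
    rw [hWdef]
    intro g hg
    exact Subgroup.mem_subgroupOf.2 (autInducedBy_mono hTS (Subgroup.mem_subgroupOf.1 hg))
  have hV : ∀ v ∈ vV F T A, ∀ g : ↥(F.autGroup A), g * v * g⁻¹ ∈ (W : Subgroup ↥(F.autGroup A)) → g * v * g⁻¹ ∈ vV F T A := by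
    intro v hv g hg
    rw [hWdef] at hg
    exact vV_strong h hR hv hg
  set N := Subgroup.normalClosure ((vV F T A : Subgroup ↥(F.autGroup A)) : Set ↥(F.autGroup A)) with hNdef
  haveI hNn : N.Normal := Subgroup.normalClosure_normal
  have hVN : vV F T A ≤ N := fun x hx => Subgroup.subset_normalClosure hx
  have hNM : N ≤ mM h E := Subgroup.normalClosure_le_normal (vV_le_mM h)
  have hW₀ : ∀ w ∈ (W : Subgroup ↥(F.autGroup A)), w ∈ N → ∃ v ∈ vV F T A, ∃ d, d ∈ N ∧ (∀ n ∈ N, n * d * n⁻¹ = d) ∧ w = v * d := by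
    intro w hw hwN
    have hwM := hNM hwN
    rw [hWdef] at hw
    obtain ⟨s, hs, hsv⟩ := mem_autInducedBy.1 (Subgroup.mem_subgroupOf.1 hw)
    haveI : Finite Q := finite_of_le h.QS
    have hsN : s ∈ Subgroup.normalizer (Q : Set Ω) := mem_normalizer_of_conj_mem (fun x hx => by
      rw [← hsv x (h.hQA hx)]
      exact h.gQ w.2 hx)
    have hm : Maps E Q (fun x => s * x * s⁻¹) := hwM.1.congr (fun x hx => hsv x (h.hQA hx))
    obtain ⟨t₁, ht₁, ht₁v⟩ := exists_T_of_E hS h hEA hs hsN hm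
    have ht₁N : t₁ ∈ Subgroup.normalizer (Q : Set Ω) := mem_normalizer_of_conj_mem (fun x hx => by
      rw [← ht₁v x hx]
      exact (Subgroup.mem_normalizer_iff.1 hsN x).1 hx)
    have ht₁A := h.normalizes ht₁ ht₁N
    let v := cG F hAS t₁ (hTS ht₁) ht₁A
    have hvV : v ∈ vV F T A := mem_vV.2 ⟨t₁, ht₁, fun x hx => afn_cG hAS (hTS ht₁) ht₁A hx⟩
    have hdN : v⁻¹ * w ∈ N := N.mul_mem (N.inv_mem (hVN hvV)) hwN
    have hdQ : ∀ x ∈ Q, afn ((v⁻¹ * w : ↥(F.autGroup A)) : MulAut A) x = x := by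
      intro x hx
      show afn ((v : MulAut A)⁻¹ * (w : MulAut A)) x = x
      rw [afn_mul _ _ (h.hQA hx), hsv x (h.hQA hx), ht₁v x hx]
      have e := afn_cG (F := F) hAS (hTS ht₁) ht₁A (h.hQA hx)
      rw [← e]
      exact afn_inv_afn _ (h.hQA hx)
    refine ⟨v, hvV, v⁻¹ * w, hdN, fun n hn => central_of_fix h (hNM hdN) hdQ (hNM hn), by group⟩
  have hgl := gl W (vV F T A) hVW hV hW₀
  -- the commutator
  let φ : ↥(F.autGroup A) := ⟨hk.toAut hkimg, hk.toAut_mem hkimg⟩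
  have hφv : ∀ x ∈ A, afn (φ : MulAut A) x = k x := fun x hx => hk.afn_toAut hkimg hx
  have hφQ : ∀ x ∈ Q, afn (φ : MulAut A) x = x := fun x hx => by rw [hφv x (h.hQA hx), hkQ x hx]
  have hφiQ : ∀ x ∈ Q, afn (φ : MulAut A)⁻¹ x = x := fun x hx => by
    have := afn_inv_afn (φ : MulAut A) (h.hQA hx)
    rwa [hφQ x hx] at this
  let τ := cG F hAS t (hTS htT) htN
  have hτv : ∀ x ∈ A, afn (τ : MulAut A) x = t * x * t⁻¹ := fun x hx => afn_cG hAS (hTS htT) htN hx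
  have hτV : τ ∈ vV F T A := mem_vV.2 ⟨t, htT, hτv⟩
  set κ := φ * τ * φ⁻¹ * τ⁻¹ with hκ
  have hκN : κ ∈ N := N.mul_mem (hNn.conj_mem τ (hVN hτV) φ) (N.inv_mem (hVN hτV))
  have hκQ : ∀ x ∈ Q, afn (κ : MulAut A) x = x := by
    intro x hx
    have hxA := h.hQA hx
    have hτi : afn (τ : MulAut A)⁻¹ x ∈ Q := h.gQ (Subgroup.inv_mem _ τ.2) hx
    show afn ((φ : MulAut A) * (τ : MulAut A) * (φ : MulAut A)⁻¹ * (τ : MulAut A)⁻¹) x = x
    rw [afn_mul _ _ hxA, afn_mul _ _ (h.hQA hτi), afn_mul _ _ (afn_mem _ (h.hQA hτi)), hφiQ _ hτi, afn_afn_inv _ hxA, hφQ x hx]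
  have hinvQ : ∀ g ∈ F.autGroup A, ∀ x ∈ Q, afn g x ∈ Q := fun g hg x hx => h.gQ hg hx
  have hκW : κ ∈ (W : Subgroup ↥(F.autGroup A)) :=
    stabK_le_sylow hS h.hQA hAS hinvQ W ⟨hκQ, (hNM hκN).2⟩
  have hκV := hgl κ hκW hκN
  obtain ⟨t₂, ht₂, ht₂v⟩ := mem_vV.1 hκV
  have ht₂c : t₂ ∈ centralizerIn T Q := by
    refine mem_centralizerIn.2 ⟨ht₂, fun x hx => ?_⟩
    have e := ht₂v x (h.hQA hx)
    rw [hκQ x hx] at e
    have e2 : x * t₂ = t₂ * x * t₂⁻¹ * t₂ := by rw [← e]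
    rw [e2]
    group
  have ht₂Q := h.hc ht₂c
  have ht₂Y : t₂ ∈ centralizerIn S Q := mem_centralizerIn.2 ⟨hTS ht₂, (mem_centralizerIn.1 ht₂c).2⟩
  have hκ1 : κ = 1 := by
    apply Subtype.ext
    apply afn_ext
    intro a ha
    rw [ht₂v a ha]
    show _ = afn (1 : MulAut A) a
    rw [afn_one ha, h.z_comm ht₂Q ht₂Y ha]
    group
  have hcomm : φ * τ = τ * φ := by
    have e : φ * τ * φ⁻¹ * τ⁻¹ = 1 := hκ1
    rw [mul_inv_eq_one, mul_inv_eq_iff_eq_mul] at e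
    exact e
  intro a ha
  have e : afn ((φ * τ : ↥(F.autGroup A)) : MulAut A) a = afn ((τ * φ : ↥(F.autGroup A)) : MulAut A) a := by rw [hcomm]
  have e1 : afn ((φ * τ : ↥(F.autGroup A)) : MulAut A) a = afn (φ : MulAut A) (afn (τ : MulAut A) a) := afn_mul _ _ ha
  have e2 : afn ((τ * φ : ↥(F.autGroup A)) : MulAut A) a = afn (τ : MulAut A) (afn (φ : MulAut A) a) := afn_mul _ _ ha
  have h1 : t * a * t⁻¹ ∈ A := by
    rw [← hτv a ha]
    exact afn_mem _ ha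
  have h2 : k a ∈ A := by
    rw [← hφv a ha]
    exact afn_mem _ ha
  rw [e1, e2, hτv a ha, hφv a ha, hφv _ h1, hτv _ h2] at e
  exact e

end LA

end Cfsg.Agent.Lib.AschCore
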