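/-
AschLT: transport of the key lemma on automorphisms to a subgroup `A` which need not be fully normalized.
-/
import Mathlib
import Cfsg.Agent.Lib.AschLA

set_option autoImplicit false
set_option linter.unusedSectionVars false
set_option linter.unusedVariables false
set_option linter.unusedSimpArgs false
set_option linter.style.haveILetI false

namespace Cfsg.Agent.Lib.AschCore

open Cfsg Cfsg.FusionSystem Cfsg.Agent.Lib.FusionCore Cfsg.Agent.Lib.FusionCore2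
open Cfsg.Agent.Lib.FusionInvariant (Str Inv Frat isInvariantIn_iff str_of_inv_frat maps_sub StrongMem aut_maps)

universe u

variable {Ω : Type u} [Group Ω] {S T : Subgroup Ω} {F : FusionSystem S} {E : FusionSystem T} {p : ℕ}

section Transport

variable [Finite S] {Q A : Subgroup Ω}

lemma sc_back (hT : F.StronglyClosed T) {P : Subgroup Ω} {f : Ω → Ω} (hf : Maps F P f) {x : Ω} (hx : x ∈ P) (h : f x ∈ T) :
    x ∈ T := by
  have hz : Subgroup.zpowers x ≤ P := Subgroup.zpowers_le.2 hx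
  have hf' := hf.restrict hz
  obtain ⟨g, hg, h1, -⟩ := hf'.inv
  have himg : img f (Subgroup.zpowers x) ≤ T := by
    intro y hy
    obtain ⟨w, hw, rfl⟩ := hf'.mem_img.1 hy
    obtain ⟨n, rfl⟩ := Subgroup.mem_zpowers_iff.1 hw
    rw [hf'.map_zpow (Subgroup.mem_zpowers x)]
    exact T.zpow_mem h n
  have := StrongMem hT himg hg (hf'.mem_img_of_mem (Subgroup.mem_zpowers x))
  rwa [h1 x (Subgroup.mem_zpowers x)] at this

/-- Moving `A` to a fully normalized subgroup, fixing `Q`. -/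
lemma exists_transport [Fact p.Prime] (hS : IsPGroup p S) (hF : F.IsSaturated p) (hT : F.StronglyClosed T) (hQT : Q ≤ T)
    (hQA : Q ≤ A) (hAS : A ≤ S) (hAT : ∀ a ∈ A, a ∈ T → a ∈ Q) (hQn : F.IsFullyNormalized Q) :
    ∃ A₃ ρ, F.IsFullyNormalized A₃ ∧ Maps F (normalizerIn S A) ρ ∧ (∀ x ∈ normalizerIn S A, ρ x ∈ normalizerIn S A₃) ∧
      img ρ A = A₃ ∧ img ρ Q = Q := by
  have hQS := hQA.trans hAS
  obtain ⟨A₂, hAA₂, hA₂n⟩ := exists_fullyNormalized_conj (F := F) hAS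
  obtain ⟨hA₂c, hA₂a⟩ := of_fullyNormalized hS hF hA₂n
  obtain ⟨ρ₁, hρ₁, hρ₁N, hρ₁img⟩ := exists_normalizer_map hS hA₂a (receptive_of_fullyCentralized hS hF hA₂c) hAA₂
  have hAN : A ≤ normalizerIn S A := le_normalizerIn hAS
  have hρ₁A : Maps F A ρ₁ := hρ₁.restrict hAN
  set Q₂ := img ρ₁ Q with hQ₂
  have hρ₁Q : Maps F Q ρ₁ := hρ₁A.restrict hQA
  have hA₂S : A₂ ≤ S := hA₂n.1
  have hQ₂S : Q₂ ≤ S := hρ₁Q.img_le
  haveI : Finite Q₂ := finite_of_le hQ₂S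
  have hQ₂A : Q₂ ≤ A₂ := by
    rw [← hρ₁img]
    exact hρ₁A.img_mono hQA
  have hQ₂T : Q₂ ≤ T := Cfsg.Agent.Lib.FusionInvariant.strong_img_le hT hQT hρ₁Q
  have hQ₂int : ∀ y ∈ A₂, y ∈ T → y ∈ Q₂ := by
    intro y hy hyT
    rw [← hρ₁img] at hy
    obtain ⟨a, ha, rfl⟩ := hρ₁A.mem_img.1 hy
    exact hρ₁Q.mem_img_of_mem (hAT a ha (sc_back hT hρ₁A ha hyT))
  obtain ⟨hQc, hQa⟩ := of_fullyNormalized hS hF hQn
  have hconj : F.IsConj Q₂ Q := IsConj_symm (isConj_iff.2 ⟨ρ₁, hρ₁Q, rfl⟩)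
  obtain ⟨r, hr, hrN, hrimg⟩ := exists_normalizer_map hS hQa (receptive_of_fullyCentralized hS hF hQc) hconj
  have hNN : normalizerIn S A₂ ≤ normalizerIn S Q₂ := by
    intro g hg
    obtain ⟨hgS, hgN⟩ := mem_normalizerIn.1 hg
    refine mem_normalizerIn.2 ⟨hgS, mem_normalizer_of_conj_mem (fun y hy => ?_)⟩
    exact hQ₂int _ ((Subgroup.mem_normalizer_iff.1 hgN y).1 (hQ₂A hy)) (sc_conj hT hgS (hQ₂T hy))
  have hcomp : ∀ x ∈ normalizerIn S A, ρ₁ x ∈ normalizerIn S Q₂ := fun x hx => hNN (hρ₁N x hx)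
  have hρ : Maps F (normalizerIn S A) (r ∘ ρ₁) := hρ₁.comp hr hcomp
  have hA₂N : A₂ ≤ normalizerIn S A₂ := le_normalizerIn hA₂S
  have hrA : Maps F A₂ r := hr.restrict (hA₂N.trans hNN)
  haveI : Finite (img r A₂) := finite_of_le hrA.img_le
  have hnormr : ∀ g ∈ normalizerIn S A₂, r g ∈ normalizerIn S (img r A₂) := by
    intro g hg
    refine mem_normalizerIn.2 ⟨hr.mem (hNN hg), mem_normalizer_of_conj_mem (fun y hy => ?_)⟩
    obtain ⟨a, ha, rfl⟩ := hrA.mem_img.1 hy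
    rw [← hr.map_conj (hNN hg) (hNN (hA₂N ha))]
    exact hrA.mem_img_of_mem ((Subgroup.mem_normalizer_iff.1 (mem_normalizerIn.1 hg).2 a).1 ha)
  refine ⟨img r A₂, r ∘ ρ₁, ?_, hρ, ?_, ?_, ?_⟩
  · refine ⟨hrA.img_le, fun R hR => ?_⟩
    have h1 : F.IsConj A₂ R := IsConj_trans (isConj_iff.2 ⟨r, hrA, rfl⟩) hR
    exact (hA₂n.2 R h1).trans (card_le_of_maps hr hNN inf_le_left hnormr)
  · exact fun x hx => hnormr _ (hρ₁N x hx)
  · rw [img_comp hρ₁A (by rw [hρ₁img]; exact hrA), hρ₁img]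
  · rw [img_comp hρ₁Q (hr.restrict (le_normalizerIn hQ₂S)), hrimg]

/-- Transport of the hypotheses. -/
lemma LAH.transport (h : LAH F T Q A) {A₃ : Subgroup Ω} {ρ : Ω → Ω} (hρ : Maps F A ρ) (hρA : img ρ A = A₃) (hρQ : img ρ Q = Q) :
    LAH F T Q A₃ := by
  have hQA := h.hQA
  have hρQm : Maps F Q ρ := hρ.restrict hQA
  have hA₃S : A₃ ≤ S := hρA ▸ hρ.img_le
  obtain ⟨ρi, hρi, hi1, hi2⟩ := hρ.inv
  rw [hρA] at hρi hi2
  have hmemA₃ : ∀ {a}, a ∈ A → ρ a ∈ A₃ := fun ha => hρA ▸ hρ.mem_img_of_mem ha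
  have hρQ' : ∀ {q}, q ∈ Q → ρ q ∈ Q := fun hq => hρQ ▸ hρQm.mem_img_of_mem hq
  have hsurjQ : ∀ {q}, q ∈ Q → ∃ x ∈ Q, ρ x = q := fun {q} hq => hρQm.mem_img.1 (by rw [hρQ]; exact hq)
  have hcent : ∀ {b}, b ∈ A → b ∈ centralizerIn S Q → ρ b ∈ centralizerIn S Q := by
    intro b hbA hb
    refine mem_centralizerIn.2 ⟨hA₃S (hmemA₃ hbA), fun q hq => ?_⟩
    obtain ⟨x, hx, rfl⟩ := hsurjQ hq
    rw [← hρ.map_mul (hQA hx) hbA, (mem_centralizerIn.1 hb).2 x hx, hρ.map_mul hbA (hQA hx)]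
  refine ⟨h.hT, h.hQT, h.hc, ?_, ?_, hA₃S, ?_, ?_⟩
  · intro q hq
    obtain ⟨x, hx, rfl⟩ := hsurjQ hq
    exact hmemA₃ (hQA hx)
  · intro a ha haT
    obtain ⟨hb, hb2⟩ := hi2 a ha
    have h1 := h.hAT _ hb (sc_back h.hT hρ hb (by rw [hb2]; exact haT))
    rw [← hb2]
    exact hρQ' h1
  · intro a ha
    obtain ⟨hb, hb2⟩ := hi2 a ha
    obtain ⟨q, hq, b, hbA, hbc, e⟩ := h.hAB _ hb
    refine ⟨ρ q, hρQ' hq, ρ b, hmemA₃ hbA, hcent hbA hbc, ?_⟩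
    rw [← hρ.map_mul (hQA hq) hbA, ← e, hb2]
  · intro δ hδ hδQ hδA
    have hδm : Maps F A₃ (afn δ) := (mem_autGroup_iff hA₃S).1 hδ
    have hcomp : Maps F A (ρi ∘ afn δ ∘ ρ) :=
      hρ.comp (hδm.comp hρi (fun x hx => afn_mem δ hx)) (fun x hx => hmemA₃ hx)
    have hval : ∀ x ∈ A, ρ ((ρi ∘ afn δ ∘ ρ) x) = afn δ (ρ x) := fun x hx => (hi2 _ (afn_mem δ (hmemA₃ hx))).2
    have hin : ∀ x ∈ A, (ρi ∘ afn δ ∘ ρ) x ∈ A := fun x hx => (hi2 _ (afn_mem δ (hmemA₃ hx))).1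
    have hAS := h.hAS
    have himg : img (ρi ∘ afn δ ∘ ρ) A = A := img_eq_of_card hcomp hAS hAS hin le_rfl
    have hfixQ : ∀ x ∈ Q, (ρi ∘ afn δ ∘ ρ) x = x := by
      intro x hx
      simp only [Function.comp]
      rw [hδQ _ (hρQ' hx), hi1 x (hQA hx)]
    have hmodQ : ∀ a ∈ A, a⁻¹ * (ρi ∘ afn δ ∘ ρ) a ∈ Q := by
      intro a ha
      have h1 := hδA _ (hmemA₃ ha)
      have e : (ρ a)⁻¹ * afn δ (ρ a) = ρ (a⁻¹ * (ρi ∘ afn δ ∘ ρ) a) := by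
        rw [hρ.map_mul (A.inv_mem ha) (hin a ha), hρ.map_inv ha, hval a ha]
      rw [e] at h1
      exact h.hAT _ (A.mul_mem (A.inv_mem ha) (hin a ha)) (sc_back h.hT hρ (A.mul_mem (A.inv_mem ha) (hin a ha))
        (h.hQT h1))
    obtain ⟨b₀, hb₀, hb₀c, hb₀v⟩ := h.hNI (hcomp.toAut himg) (hcomp.toAut_mem himg)
      (fun x hx => by rw [hcomp.afn_toAut himg (hQA hx), hfixQ x hx])
      (fun a ha => by rw [hcomp.afn_toAut himg ha]; exact hmodQ a ha)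
    refine ⟨ρ b₀, hmemA₃ hb₀, hcent hb₀ hb₀c, fun a ha => ?_⟩
    obtain ⟨hb, hb2⟩ := hi2 a ha
    have e1 := hb₀v _ hb
    rw [hcomp.afn_toAut himg hb] at e1
    have e2 := hval _ hb
    rw [e1, hb2, hρ.map_conj hb₀ hb, hb2] at e2
    exact e2.symm

/-- The key lemma for a general `A`. -/
theorem la_gen [Fact p.Prime] (hS : IsPGroup p S) (hF : F.IsSaturated p) (h : LAH F T Q A) (hStr : Str F E)
    (hEA : E.IsFullyAutomized p Q) (hQn : F.IsFullyNormalized Q) {k : Ω → Ω} (hk : Maps F A k) (hkimg : img k A = A)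
    (hkQ : ∀ q ∈ Q, k q = q) {t : Ω} (htT : t ∈ T) (htN : t ∈ Subgroup.normalizer (A : Set Ω)) :
    ∀ a ∈ A, k (t * a * t⁻¹) = t * k a * t⁻¹ := by
  have hAS := h.hAS
  have hTS := h.hT.1
  obtain ⟨A₃, ρ, hA₃n, hρ, hρN, hρA, hρQ⟩ := exists_transport hS hF h.hT h.hQT h.hQA hAS h.hAT hQn
  have hAN : A ≤ normalizerIn S A := le_normalizerIn hAS
  have hρm : Maps F A ρ := hρ.restrict hAN
  have h₃ := h.transport hρm hρA hρQ
  obtain ⟨ρi, hρi, hi1, hi2⟩ := hρm.inv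
  rw [hρA] at hρi hi2
  have hmemA₃ : ∀ {a}, a ∈ A → ρ a ∈ A₃ := fun ha => hρA ▸ hρm.mem_img_of_mem ha
  have hkA : ∀ {a}, a ∈ A → k a ∈ A := fun ha => hkimg ▸ hk.mem_img_of_mem ha
  have hk₃ : Maps F A₃ (ρ ∘ k ∘ ρi) := hρi.comp (hk.comp hρm (fun x hx => hkA hx)) (fun x hx => (hi2 x hx).1)
  have hk₃v : ∀ a ∈ A, (ρ ∘ k ∘ ρi) (ρ a) = ρ (k a) := fun a ha => by
    simp only [Function.comp]
    rw [hi1 a ha]
  have hk₃img : img (ρ ∘ k ∘ ρi) A₃ = A₃ :=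
    img_eq_of_card hk₃ h₃.hAS h₃.hAS (fun x hx => hmemA₃ (hkA (hi2 x hx).1)) le_rfl
  have hk₃Q : ∀ q ∈ Q, (ρ ∘ k ∘ ρi) q = q := by
    intro q hq
    have hq' : q ∈ img ρ Q := by rw [hρQ]; exact hq
    obtain ⟨x, hx, rfl⟩ := (hρm.restrict h.hQA).mem_img.1 hq'
    rw [hk₃v x (h.hQA hx), hkQ x hx]
  have htNS : t ∈ normalizerIn S A := mem_normalizerIn.2 ⟨hTS htT, htN⟩
  have ht₃N := hρN t htNS
  have ht₃T : ρ t ∈ T := StrongMem h.hT (Subgroup.zpowers_le.2 htT) (hρ.restrict (Subgroup.zpowers_le.2 htNS)) (Subgroup.mem_zpowers t)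
  have hmain := la hS hF h₃ hStr hEA hA₃n hk₃ hk₃img hk₃Q ht₃T (mem_normalizerIn.1 ht₃N).2
  intro a ha
  have hconjA : t * a * t⁻¹ ∈ A := (Subgroup.mem_normalizer_iff.1 htN a).1 ha
  have e := hmain (ρ a) (hmemA₃ ha)
  rw [← hρ.map_conj htNS (hAN ha), hk₃v _ hconjA, hk₃v a ha, ← hρ.map_conj htNS (hAN (hkA ha))] at e
  exact hρ.inj (hAN (hkA hconjA)) ((normalizerIn S A).mul_mem ((normalizerIn S A).mul_mem htNS (hAN (hkA ha))) ((normalizerIn S A).inv_mem htNS)) e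

end Transport

end Cfsg.Agent.Lib.AschCore
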