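/-
AschLL: for `Q ≤ T` fully normalized with `C_T(Q) ≤ Q`, the group `N_T(Q)` centralizes the focal subgroup of `C_F(Q)`.
-/
import Mathlib
import Cfsg.Agent.Lib.AschLT

set_option autoImplicit false
set_option linter.unusedSectionVars false
set_option linter.unusedVariables false
set_option linter.unusedSimpArgs false
set_option linter.style.haveILetI false

namespace Cfsg.Agent.Lib.AschCore

open Cfsg Cfsg.FusionSystem Cfsg.Agent.Lib.FusionCore Cfsg.Agent.Lib.FusionCore2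
open Cfsg.Agent.Lib.FusionIndexPrime (ofMaps)
open Cfsg.Agent.Lib.FusionInvariant (Str Inv Frat isInvariantIn_iff str_of_inv_frat maps_sub StrongMem aut_maps)

universe u

variable {Ω : Type u} [Group Ω] {S T : Subgroup Ω} {F : FusionSystem S} {E : FusionSystem T} {p : ℕ} {Q : Subgroup Ω}

section LL

variable [Finite S] {θ : MulAut ↥(KK S Q)}

local notation "Y" => centralizerIn S Q

lemma Wk.lam_inv (hQS : Q ≤ S) (h : Wk F Q θ) {y : Ω} (hy : y ∈ Y) :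
    (y⁻¹)⁻¹ * afn θ y⁻¹ = (y⁻¹ * afn θ y)⁻¹ := by
  have e := h.lam_mul hQS hy (Subgroup.inv_mem _ hy)
  rw [mul_inv_cancel, (h.toPres.maps hQS).map_one] at e
  simp only [inv_one, mul_one] at e
  exact (inv_eq_of_mul_eq_one_right e.symm).symm

lemma Wk.lam_conj (hQS : Q ≤ S) (h : Wk F Q θ) {g y : Ω} (hg : g ∈ Y) (hy : y ∈ Y) :
    (g * y * g⁻¹)⁻¹ * afn θ (g * y * g⁻¹) = y⁻¹ * afn θ y := by
  have hgy : g * y ∈ Y := Subgroup.mul_mem _ hg hy
  rw [h.lam_mul hQS hgy (Subgroup.inv_mem _ hg), h.lam_mul hQS hg hy, h.lam_inv hQS hg]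
  have e := h.z_comm hQS hy (h.z_mem_Y hQS hg)
  rw [mul_inv_eq_iff_eq_mul]
  exact e.symm

/-- The maps of `C_F(Q)` on which the action of `θ` is stable. -/
def LM (D : FusionSystem (centralizerIn S Q)) (θ : MulAut ↥(KK S Q)) (R : Subgroup Ω) (f : Ω → Ω) : Prop :=
  Maps D R f ∧ ∀ y ∈ R, (f y)⁻¹ * afn θ (f y) = y⁻¹ * afn θ y

/-- The corresponding subsystem. -/
noncomputable def LMsys (hQS : Q ≤ S) (h : Wk F Q θ) (D : FusionSystem (centralizerIn S Q)) : FusionSystem (centralizerIn S Q) :=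
  ofMaps D (LM D θ) (fun h => h.1)
    (fun h hfg => ⟨h.1.congr hfg, fun y hy => by rw [← hfg y hy]; exact h.2 y hy⟩)
    (fun {P g} hP hg => ⟨Maps.conj hP hg, fun y hy => h.lam_conj hQS hg (hP hy)⟩)
    (fun h1 h2 hfm => ⟨h1.1.comp h2.1 hfm, fun y hy => by
      simp only [Function.comp]
      rw [h2.2 _ (hfm y hy), h1.2 y hy]⟩)
    (fun {P f} hh => by
      obtain ⟨g, hg, h1, h2⟩ := hh.1.inv
      refine ⟨g, ⟨hg, fun y hy => ?_⟩, h1⟩
      obtain ⟨x, hx, rfl⟩ := hh.1.mem_img.1 hy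
      rw [h1 x hx, hh.2 x hx])

lemma maps_LMsys (hQS : Q ≤ S) (h : Wk F Q θ) {D : FusionSystem (centralizerIn S Q)} {R : Subgroup Ω} {f : Ω → Ω} :
    Maps (LMsys hQS h D) R f ↔ LM D θ R f := by
  constructor
  · rintro ⟨φ, hφ, hv⟩
    have h0 : LM D θ R (fn φ) := hφ
    have hfg : ∀ x ∈ R, fn φ x = f x := fun x hx => by rw [fn_of_mem _ hx]; exact hv ⟨x, hx⟩
    exact ⟨h0.1.congr hfg, fun y hy => by rw [← hfg y hy]; exact h0.2 y hy⟩
  · intro hh
    have hm := hh.1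
    refine ⟨hm.hom, ?_, hm.hom_apply⟩
    have hfg : ∀ x ∈ R, f x = fn hm.hom x := fun x hx => by rw [fn_of_mem _ hx, hm.hom_apply]
    exact (⟨hh.1.congr hfg, fun y hy => by rw [← hfg y hy]; exact hh.2 y hy⟩ : LM D θ R (fn hm.hom))

/-- The subgroup `B Q` satisfies the hypotheses of the key lemma. -/
lemma lah_of_B [Fact p.Prime] (hS : IsPGroup p S) (hT : F.StronglyClosed T) (hQT : Q ≤ T) (hc : centralizerIn T Q ≤ Q)
    {D : FusionSystem (centralizerIn S Q)} (hD : F.IsCentralizerSystem Q D) {B : Subgroup Ω} (hBY : B ≤ Y)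
    (hCB : centralizerIn Y B ≤ B) (hFA : D.IsFullyAutomized p B)
    (hNIB : ∀ t₀ ∈ normalizerIn Y B, (∀ x ∈ B, x⁻¹ * (t₀ * x * t₀⁻¹) ∈ Q) → t₀ ∈ B) : LAH F T Q (B ⊔ Q) := by
  have hTS := hT.1
  have hQS : Q ≤ S := hQT.trans hTS
  have hYS : Y ≤ S := inf_le_left
  haveI : Finite Y := finite_of_le hYS
  haveI : Finite B := finite_of_le (hBY.trans hYS)
  have hYp : IsPGroup p Y := hS.to_le hYS
  have hZB : Q ⊓ Y ≤ B := by
    intro z hz
    refine hCB (mem_centralizerIn.2 ⟨hz.2, fun x hx => ?_⟩)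
    exact ((mem_centralizerIn.1 (hBY hx)).2 z hz.1).symm
  have hBN : B ≤ Subgroup.normalizer (Q : Set Ω) := fun b hb => mem_normalizer_of_conj_eq (fun x hx => by
    have := (mem_centralizerIn.1 (hBY hb)).2 x hx
    rw [← this]
    group)
  have hdec : ∀ a ∈ B ⊔ Q, ∃ q ∈ Q, ∃ b ∈ B, a = q * b := by
    intro a ha
    rw [sup_comm] at ha
    have h1 : a ∈ (↑(Q ⊔ B) : Set Ω) := ha
    rw [Subgroup.coe_mul_of_right_le_normalizer_left Q B hBN] at h1
    obtain ⟨q, hq, b, hb, rfl⟩ := h1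
    exact ⟨q, hq, b, hb, rfl⟩
  have hQA : Q ≤ B ⊔ Q := le_sup_right
  have hBA : B ≤ B ⊔ Q := le_sup_left
  have hAS : B ⊔ Q ≤ S := sup_le (hBY.trans hYS) hQS
  refine ⟨hT, hQT, hc, hQA, ?_, hAS, ?_, ?_⟩
  · intro a ha haT
    obtain ⟨q, hq, b, hb, rfl⟩ := hdec a ha
    have hbT : b ∈ T := by
      have := T.mul_mem (T.inv_mem (hQT hq)) haT
      simpa using this
    have hbQ : b ∈ Q := hc (mem_centralizerIn.2 ⟨hbT, (mem_centralizerIn.1 (hBY hb)).2⟩)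
    exact Q.mul_mem hq hbQ
  · intro a ha
    obtain ⟨q, hq, b, hb, rfl⟩ := hdec a ha
    exact ⟨q, hq, b, hBA hb, hBY hb, rfl⟩
  · intro δ hδ hδQ hδA
    have hδm : Maps F (B ⊔ Q) (afn δ) := (mem_autGroup_iff hAS).1 hδ
    have hδY : ∀ b ∈ B, afn δ b ∈ Y := by
      intro b hb
      refine mem_centralizerIn.2 ⟨hAS (afn_mem δ (hBA hb)), fun q hq => ?_⟩
      have e := (mem_centralizerIn.1 (hBY hb)).2 q hq
      have e1 := congrArg (afn δ) e
      rw [hδm.map_mul (hQA hq) (hBA hb), hδm.map_mul (hBA hb) (hQA hq), hδQ q hq] at e1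
      exact e1
    have hδB : ∀ b ∈ B, b⁻¹ * afn δ b ∈ Q ⊓ Y := fun b hb =>
      ⟨hδA b (hBA hb), Subgroup.mul_mem _ (Subgroup.inv_mem _ (hBY hb)) (hδY b hb)⟩
    have hδB' : ∀ b ∈ B, afn δ b ∈ B := by
      intro b hb
      have := B.mul_mem hb (hZB (hδB b hb))
      simpa using this
    have hmD : Maps D B (afn δ) :=
      (maps_cent hD).2 ⟨hδm.restrict hBA, hBY, fun x hx => hδY x hx, afn δ, hδm, fun _ _ => rfl, hδQ⟩
    have himg : img (afn δ) B = B := img_eq_of_card hmD hBY hBY hδB' le_rfl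
    have hinvZ : ∀ g ∈ D.autGroup B, ∀ x ∈ Q ⊓ Y, afn g x ∈ Q ⊓ Y := by
      intro g hg x hx
      have hm := (mem_autGroup_iff hBY).1 hg
      rw [maps_cent_fix hD hm (hZB hx) hx.1]
      exact hx
    obtain ⟨-, W, hW⟩ := hFA
    have hmem : (⟨hmD.toAut himg, hmD.toAut_mem himg⟩ : ↥(D.autGroup B)) ∈ stabK D B (Q ⊓ Y) hZB hBY hinvZ := by
      refine ⟨fun x hx => ?_, fun a ha => ?_⟩
      · show afn (hmD.toAut himg) x = x
        rw [hmD.afn_toAut himg (hZB hx)]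
        exact hδQ x hx.1
      · show a⁻¹ * afn (hmD.toAut himg) a ∈ Q ⊓ Y
        rw [hmD.afn_toAut himg ha]
        exact hδB a ha
    have hW' := stabK_le_sylow hYp hZB hBY hinvZ W hmem
    rw [hW] at hW'
    obtain ⟨y₀, hy₀, hy₀v⟩ := mem_autInducedBy.1 (Subgroup.mem_subgroupOf.1 hW')
    have hy₀e : ∀ x ∈ B, afn δ x = y₀ * x * y₀⁻¹ := fun x hx => by
      rw [← hy₀v x hx]
      exact (hmD.afn_toAut himg hx).symm
    have hy₀N : y₀ ∈ Subgroup.normalizer (B : Set Ω) := mem_normalizer_of_conj_mem (fun x hx => by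
      rw [← hy₀e x hx]
      exact hδB' x hx)
    have hy₀B : y₀ ∈ B := hNIB y₀ (mem_normalizerIn.2 ⟨hy₀, hy₀N⟩) (fun x hx => by
      rw [← hy₀e x hx]
      exact (hδB x hx).1)
    refine ⟨y₀, hBA hy₀B, hy₀, fun a ha => ?_⟩
    obtain ⟨q, hq, b, hb, rfl⟩ := hdec a ha
    rw [hδm.map_mul (hQA hq) (hBA hb), hδQ q hq, hy₀e b hb]
    have e := (mem_centralizerIn.1 hy₀).2 q hq
    calc q * (y₀ * b * y₀⁻¹) = (q * y₀) * b * y₀⁻¹ := by group
      _ = (y₀ * q) * b * y₀⁻¹ := by rw [e]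
      _ = _ := by group

/-- The stability in the case with no element acting trivially outside `B`. -/
theorem ll_case [Fact p.Prime] (hS : IsPGroup p S) (hF : F.IsSaturated p) (hE : E.IsNormalIn F p) (hQT : Q ≤ T)
    (hQn : F.IsFullyNormalized Q) (hc : centralizerIn T Q ≤ Q) {t : Ω} (htT : t ∈ T) (htN : t ∈ Subgroup.normalizer (Q : Set Ω))
    {D : FusionSystem (centralizerIn S Q)} (hD : F.IsCentralizerSystem Q D) {B : Subgroup Ω} (hBY : B ≤ Y)
    (hCB : centralizerIn Y B ≤ B) (hFA : D.IsFullyAutomized p B)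
    (hNIB : ∀ t₀ ∈ normalizerIn Y B, (∀ x ∈ B, x⁻¹ * (t₀ * x * t₀⁻¹) ∈ Q) → t₀ ∈ B) {f : Ω → Ω} (hf : Maps D B f)
    (himg : img f B = B) : ∀ b ∈ B, t * f b * t⁻¹ = f b * (b⁻¹ * (t * b * t⁻¹)) := by
  have hinv := hE.1.2.2
  have hEF : E.IsSubsystemOf F := hinv.1
  have hT : F.StronglyClosed T := hinv.2.1
  have hEs := hE.1.1
  have hTS := hT.1
  haveI : Finite T := finite_of_le hTS
  have hQS : Q ≤ S := hQT.trans hTS
  have hTp : IsPGroup p T := hS.to_le hTS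
  obtain ⟨-, -, hInv, hFr⟩ := isInvariantIn_iff.1 hinv
  have hStr : Str F E := str_of_inv_frat hT @hInv @hFr
  have hQnE : E.IsFullyNormalized Q := Cfsg.Agent.S5153.fullyNormalized_of_stronglyClosed hS hF hEF hT hQT hQn
  have hEA : E.IsFullyAutomized p Q := (of_fullyNormalized hTp hEs hQnE).2
  have hLA := lah_of_B hS hT hQT hc hD hBY hCB hFA hNIB
  obtain ⟨hfF, -, -, k, hk, hk1, hk2⟩ := (maps_cent hD).1 hf
  have hkimg : img k (B ⊔ Q) = B ⊔ Q := by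
    rw [hk.img_sup, img_congr hk1, himg, img_of_fix hk hk2]
  have htA := hLA.normalizes htT htN
  have hmain := la_gen hS hF hLA hStr hEA hQn hk hkimg hk2 htT htA
  intro b hb
  have hbA : b ∈ B ⊔ Q := (le_sup_left : B ≤ B ⊔ Q) hb
  have hz : b⁻¹ * (t * b * t⁻¹) ∈ Q := conj_hY hT hQS hc htT htN (hBY hb)
  have hzA : b⁻¹ * (t * b * t⁻¹) ∈ B ⊔ Q := (le_sup_right : Q ≤ B ⊔ Q) hz
  have e := hmain b hbA
  have e1 : t * b * t⁻¹ = b * (b⁻¹ * (t * b * t⁻¹)) := by group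
  rw [e1, hk.map_mul hbA hzA, hk2 _ hz, hk1 b hb] at e
  exact e.symm

/-- **`N_T(Q)` centralizes the focal subgroup of `C_F(Q)`.** -/
theorem ll [Fact p.Prime] (hS : IsPGroup p S) (hF : F.IsSaturated p) (hE : E.IsNormalIn F p) (hQT : Q ≤ T)
    (hQn : F.IsFullyNormalized Q) (hc : centralizerIn T Q ≤ Q) {t : Ω} (htT : t ∈ T) (htN : t ∈ Subgroup.normalizer (Q : Set Ω))
    {D : FusionSystem (centralizerIn S Q)} (hD : F.IsCentralizerSystem Q D) : ∀ z ∈ D.focalSubgroup, t * z * t⁻¹ = z := by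
  classical
  have hinv := hE.1.2.2
  have hT : F.StronglyClosed T := hinv.2.1
  have hTS := hT.1
  have hQS : Q ≤ S := hQT.trans hTS
  have hYS : Y ≤ S := inf_le_left
  haveI : Finite Y := finite_of_le hYS
  have hYp : IsPGroup p Y := hS.to_le hYS
  obtain ⟨hQc, -⟩ := of_fullyNormalized hS hF hQn
  have hDs : D.IsSaturated p := Cfsg.Agent.Lib.FusionSatNorm.saturated_centralizer hS hF hQc hD
  obtain ⟨ct, hct, hct1⟩ := exists_conj_pres (F := F) hQS (hTS htT) htN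
  have hWt : Wk F Q ct := ⟨hct, fun y hy => by
    rw [hct1 y (Y_le_KK hy)]
    exact conj_hY hT hQS hc htT htN hy⟩
  let L : FusionSystem (centralizerIn S Q) := LMsys hQS hWt D
  have hM : ∀ {R : Subgroup Ω} {g : Ω → Ω}, Maps L R g ↔ LM D ct R g := maps_LMsys hQS hWt
  have hLD : ∀ R : Subgroup Ω, L.Hom R ⊆ D.Hom R := by
    intro R φ hφ
    exact (hM.1 (Maps.of_mem hφ)).1.mem_hom (fun x => (fn_coe φ x).symm)
  have hall : ∀ R : Subgroup Ω, D.Hom R ⊆ L.Hom R := by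
    refine Cfsg.Agent.Lib.FusionAlperin.alperin hYp hDs hLD ?_
    intro B hBY hFA hRec hC IH φ hφ hr
    have hmφ := Maps.of_mem hφ
    have himgφ : img (fn φ) B = B := by rw [img_eq_range φ (fun x => (fn_coe φ x).symm), hr]
    by_cases hcase : ∃ t₀ ∈ normalizerIn Y B, t₀ ∉ B ∧ ∀ x ∈ B, x⁻¹ * (t₀ * x * t₀⁻¹) ∈ Q
    · obtain ⟨t₀, ht₀, ht₀B, ht₀x⟩ := hcase
      obtain ⟨ht₀Y, ht₀N⟩ := mem_normalizerIn.1 ht₀
      have hZB : Q ⊓ Y ≤ B := by
        intro z hz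
        refine hC (mem_centralizerIn.2 ⟨hz.2, fun x hx => ?_⟩)
        exact ((mem_centralizerIn.1 (hBY hx)).2 z hz.1).symm
      have hinvZ : ∀ g ∈ D.autGroup B, ∀ x ∈ Q ⊓ Y, afn g x ∈ Q ⊓ Y := by
        intro g hg x hx
        have hm := (mem_autGroup_iff hBY).1 hg
        rw [maps_cent_fix hD hm (hZB hx) hx.1]
        exact hx
      obtain ⟨-, W, hW⟩ := id hFA
      haveI : (stabK D B (Q ⊓ Y) hZB hBY hinvZ).Normal := stabK_normal hZB hBY hinvZ
      refine Cfsg.Agent.Lib.FusionAlperin.aut_mem_of_normal hFA hRec IH (stabK D B (Q ⊓ Y) hZB hBY hinvZ) ?_ ht₀Y ht₀N ht₀B ?_ φ hφ hr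
      · intro α hα
        have h1 := stabK_le_sylow hYp hZB hBY hinvZ W hα
        rw [hW] at h1
        exact Cfsg.Agent.Lib.FusionAlperin.autInduced_mem_of_mem hBY (Subgroup.mem_subgroupOf.1 h1)
      · intro h
        have hval : ∀ x ∈ B, afn (Cfsg.Agent.Lib.FusionAlperin.conjAut B t₀ ht₀N) x = t₀ * x * t₀⁻¹ := fun x hx => by
          rw [afn_of_mem _ hx]
          rfl
        refine ⟨fun x hx => ?_, fun a ha => ?_⟩
        · show afn (Cfsg.Agent.Lib.FusionAlperin.conjAut B t₀ ht₀N) x = x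
          rw [hval x (hZB hx)]
          have := (mem_centralizerIn.1 ht₀Y).2 x hx.1
          rw [← this]
          group
        · show a⁻¹ * afn (Cfsg.Agent.Lib.FusionAlperin.conjAut B t₀ ht₀N) a ∈ Q ⊓ Y
          rw [hval a ha]
          exact ⟨ht₀x a ha, Subgroup.mul_mem _ (Subgroup.inv_mem _ (hBY ha))
            (Subgroup.mul_mem _ (Subgroup.mul_mem _ ht₀Y (hBY ha)) (Subgroup.inv_mem _ ht₀Y))⟩
    · push Not at hcase
      have hNIB : ∀ t₀ ∈ normalizerIn Y B, (∀ x ∈ B, x⁻¹ * (t₀ * x * t₀⁻¹) ∈ Q) → t₀ ∈ B := by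
        intro t₀ h1 h2
        by_contra h3
        obtain ⟨x, hx, hx'⟩ := hcase t₀ h1 h3
        exact hx' (h2 x hx)
      have hcc := ll_case hS hF hE hQT hQn hc htT htN hD hBY hC hFA hNIB hmφ himgφ
      refine (hM.2 ⟨hmφ, fun y hy => ?_⟩).mem_hom (fun x => (fn_coe φ x).symm)
      have hfy : fn φ y ∈ Y := hmφ.mem hy
      rw [hct1 _ (Y_le_KK hfy), hct1 _ (Y_le_KK (hBY hy)), hcc y hy]
      group
  have hkle : kerW hQS hWt ≤ Y := kerW_le hQS hWt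
  have hfoc : (⊤ : Subgroup Ω) ⊓ Y ⊓ D.focalSubgroup ≤ kerW hQS hWt ∨ True := Or.inr trivial
  have hst : ∀ a ∈ Y, ∀ (R : Subgroup Ω) (f : Ω → Ω), Maps D R f → a ∈ R → a⁻¹ * f a ∈ kerW hQS hWt := by
    intro a ha R f hf haR
    have h1 : Maps L R f := ⟨hf.hom, hall R hf.hom_mem, hf.hom_apply⟩
    have h2 := (hM.1 h1).2 a haR
    have hfa : f a ∈ Y := hf.mem haR
    refine ⟨Subgroup.mul_mem _ (Subgroup.inv_mem _ ha) hfa, ?_⟩
    have h3 := hWt.lam_mul hQS (Subgroup.inv_mem _ ha) hfa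
    rw [hWt.lam_inv hQS ha, h2, inv_mul_cancel] at h3
    rw [inv_mul_eq_one] at h3
    exact h3.symm
  have key := Cfsg.Agent.Lib.FusionFocalCtl.mem_of_stable hYp hDs hkle (comm_le_kerW hQS hWt) le_rfl hst
  intro z hz
  have hzY : z ∈ Y := focal_le D hz
  have := (key ⟨hzY, hz⟩).2
  rwa [hct1 z (Y_le_KK hzY)] at this

end LL

end Cfsg.Agent.Lib.AschCore
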