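/-
AschStrong: for `E ⊴ F` on `T`, the largest subgroup `C` of `C_S(T)` with `E ≤ C_F(C)` is strongly closed in `F`.
-/
import Mathlib
import Cfsg.Agent.Lib.AschLL
import Cfsg.Agent.Lib.FusionStrongClosed
import Cfsg.Agent.Lib.FusionNormal

set_option autoImplicit false
set_option linter.unusedSectionVars false
set_option linter.unusedVariables false
set_option linter.unusedSimpArgs false
set_option linter.style.haveILetI false

namespace Cfsg.Agent.Lib.AschCore

open Cfsg Cfsg.FusionSystem Cfsg.Agent.Lib.FusionCore Cfsg.Agent.Lib.FusionCore2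
open Cfsg.Agent.Lib.FusionInvariant (Str Inv Frat isInvariantIn_iff str_of_inv_frat maps_sub StrongMem aut_maps strong_img_le)

universe u

variable {Ω : Type u} [Group Ω] {S T : Subgroup Ω} {F : FusionSystem S} {E : FusionSystem T} {p : ℕ}

section Strong

variable [Finite S]

lemma mem_cent_zpowers {K : Subgroup Ω} {x u : Ω} : u ∈ centralizerIn K (Subgroup.zpowers x) ↔ u ∈ K ∧ u * x = x * u := by
  rw [mem_centralizerIn]
  constructor
  · rintro ⟨h1, h2⟩
    exact ⟨h1, (h2 x (Subgroup.mem_zpowers x)).symm⟩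
  · rintro ⟨h1, h2⟩
    refine ⟨h1, fun y hy => ?_⟩
    obtain ⟨n, rfl⟩ := Subgroup.mem_zpowers_iff.1 hy
    exact ((Commute.zpow_right (show Commute u x from h2) n).eq).symm

/-- The focal subgroup of `C_F(T)` lies in the join. -/
lemma focal_le_CC [Fact p.Prime] (hS : IsPGroup p S) (hF : F.IsSaturated p) (hE : E.IsNormalIn F p)
    {D : FusionSystem (centralizerIn S T)} (hD : F.IsCentralizerSystem T D) : D.focalSubgroup ≤ CC F E :=
  fam_le_CC ⟨focal_le D, fun _ _ hf => focal_centralizes hS hF hE hD hf⟩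

/-- **The main step.** An `F`-conjugate of an element of the join which centralizes a subgroup `P ≤ T` with all conjugates `P'` having `C_T(P') ≤ P'`, lies in the join. -/
theorem key_conj [Fact p.Prime] (hS : IsPGroup p S) (hF : F.IsSaturated p) (hE : E.IsNormalIn F p) {P : Subgroup Ω} (hPT : P ≤ T)
    (hGood : ∀ P', F.IsConj P P' → centralizerIn T P' ≤ P') {R : Subgroup Ω} {g₀ : Ω → Ω} (hg₀ : Maps F R g₀) {x : Ω} (hxR : x ∈ R)
    (hxC : x ∈ CC F E) (hP : ∀ u ∈ P, u * g₀ x = g₀ x * u) : g₀ x ∈ CC F E := by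
  have hinv := hE.1.2.2
  have hT : F.StronglyClosed T := hinv.2.1
  have hTS := hT.1
  haveI : Finite T := finite_of_le hTS
  have hTp : IsPGroup p T := hS.to_le hTS
  set x₁ := g₀ x with hx₁
  have hx₁S : x₁ ∈ S := hg₀.mem hxR
  set U := centralizerIn T (Subgroup.zpowers x₁) with hU
  have hUT : U ≤ T := inf_le_left
  have hUS : U ≤ S := hUT.trans hTS
  have hPU : P ≤ U := fun u hu => mem_cent_zpowers.2 ⟨hPT hu, hP u hu⟩
  have hUeq : U = T := by
    by_contra hne
    have hlt : U < T := lt_of_le_of_ne hUT hne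
    have hNlt := Cfsg.Agent.Lib.FusionAlperin.lt_normalizerIn hTp hlt
    obtain ⟨t, htN, htU⟩ := SetLike.exists_of_lt hNlt
    obtain ⟨htT, htNn⟩ := mem_normalizerIn.1 htN
    obtain ⟨U', hUU', hU'n⟩ := exists_fullyNormalized_conj (F := F) hUS
    obtain ⟨hU'c, hU'a⟩ := of_fullyNormalized hS hF hU'n
    obtain ⟨ρ, hρ, hρN, hρimg⟩ := exists_normalizer_map hS hU'a (receptive_of_fullyCentralized hS hF hU'c) hUU'
    have hUN : U ≤ normalizerIn S U := le_normalizerIn hUS
    have hρU : Maps F U ρ := hρ.restrict hUN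
    have hU'T : U' ≤ T := by
      rw [← hρimg]
      exact strong_img_le hT hUT hρU
    have hx₁c : x₁ ∈ centralizerIn S U := by
      refine mem_centralizerIn.2 ⟨hx₁S, fun u hu => ?_⟩
      exact (mem_cent_zpowers.1 hu).2
    have hx₁N : x₁ ∈ normalizerIn S U := le_normalizerIn_of_centralizerIn S U hx₁c
    have htNS : t ∈ normalizerIn S U := mem_normalizerIn.2 ⟨hTS htT, htNn⟩
    set t' := ρ t with ht'
    set x₁' := ρ x₁ with hx₁'
    have ht'N := hρN t htNS
    have ht'T : t' ∈ T := StrongMem hT (Subgroup.zpowers_le.2 htT) (hρ.restrict (Subgroup.zpowers_le.2 htNS)) (Subgroup.mem_zpowers t)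
    -- `C_T(U') ≤ U'`
    have hPN : P ≤ normalizerIn S U := hPU.trans hUN
    have hc' : centralizerIn T U' ≤ U' := by
      have h1 : F.IsConj P (img ρ P) := isConj_iff.2 ⟨ρ, hρ.restrict hPN, rfl⟩
      have h2 := hGood _ h1
      have h3 : img ρ P ≤ U' := by
        rw [← hρimg]
        exact hρU.img_mono hPU
      exact (centralizerIn_anti h3).trans (h2.trans h3)
    -- `x₁'` centralizes `U'`
    have hx₁'c : x₁' ∈ centralizerIn S U' := by
      refine mem_centralizerIn.2 ⟨hρ.mem hx₁N, fun y hy => ?_⟩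
      rw [← hρimg] at hy
      obtain ⟨u, hu, rfl⟩ := hρU.mem_img.1 hy
      have e := (mem_centralizerIn.1 hx₁c).2 u hu
      rw [← hρ.map_mul (hUN hu) hx₁N, e, hρ.map_mul hx₁N (hUN hu)]
    obtain ⟨D, hD⟩ := exists_centralizerSystem (F := F) (hU'T.trans hTS)
    -- the map from `x` to `x₁'`
    have hzx : Subgroup.zpowers x ≤ R := Subgroup.zpowers_le.2 hxR
    have hg₀z := hg₀.restrict hzx
    have hvals : ∀ y ∈ Subgroup.zpowers x, g₀ y ∈ normalizerIn S U := by
      intro y hy
      obtain ⟨n, rfl⟩ := Subgroup.mem_zpowers_iff.1 hy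
      rw [hg₀z.map_zpow (Subgroup.mem_zpowers x)]
      exact Subgroup.zpow_mem _ hx₁N n
    have hcomp : Maps F (Subgroup.zpowers x) (ρ ∘ g₀) := hg₀z.comp hρ hvals
    obtain ⟨x₃, hx₃C, hx₃f⟩ := exists_mu hS hF hE hU'T hD hx₁'c hcomp (Subgroup.mem_zpowers x) hxC rfl
    have hfix := ll hS hF hE hU'T hU'n hc' ht'T (mem_normalizerIn.1 ht'N).2 hD _ hx₃f
    have hx₃fix : t' * x₃ * t'⁻¹ = x₃ := by
      have := (mem_centralizerIn.1 (CC_le hx₃C)).2 t' ht'T
      rw [this]
      group
    have hx₁'fix : t' * x₁' * t'⁻¹ = x₁' := by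
      have e : x₁' = x₃ * (x₃⁻¹ * x₁') := by group
      calc t' * x₁' * t'⁻¹ = (t' * x₃ * t'⁻¹) * (t' * (x₃⁻¹ * x₁') * t'⁻¹) := by group
        _ = x₃ * (x₃⁻¹ * x₁') := by rw [hx₃fix, hfix]
        _ = x₁' := by group
    have hback : t * x₁ * t⁻¹ = x₁ := by
      apply hρ.inj (Subgroup.mul_mem _ (Subgroup.mul_mem _ htNS hx₁N) (Subgroup.inv_mem _ htNS)) hx₁N
      rw [hρ.map_conj htNS hx₁N]
      exact hx₁'fix
    apply htU
    refine mem_cent_zpowers.2 ⟨htT, ?_⟩
    rw [mul_inv_eq_iff_eq_mul] at hback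
    exact hback
  -- the case `U = T`
  have hx₁c : x₁ ∈ centralizerIn S T := by
    refine mem_centralizerIn.2 ⟨hx₁S, fun u hu => ?_⟩
    have : u ∈ U := hUeq ▸ hu
    exact (mem_cent_zpowers.1 this).2
  obtain ⟨D, hD⟩ := exists_centralizerSystem (F := F) hTS
  obtain ⟨x₃, hx₃C, hx₃f⟩ := exists_mu hS hF hE le_rfl hD hx₁c hg₀ hxR hxC rfl
  have := (CC F E).mul_mem hx₃C (focal_le_CC hS hF hE hD hx₃f)
  simpa using this

/-- **The join is strongly closed.** -/
theorem CC_stronglyClosed [Fact p.Prime] (hS : IsPGroup p S) (hF : F.IsSaturated p) (hE : E.IsNormalIn F p) :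
    F.StronglyClosed (CC F E) := by
  classical
  have hinv := hE.1.2.2
  have hT : F.StronglyClosed T := hinv.2.1
  have hTS := hT.1
  haveI : Finite T := finite_of_le hTS
  obtain ⟨-, -, hInv, hFr⟩ := isInvariantIn_iff.1 hinv
  have hCS : CC F E ≤ S := CC_le.trans inf_le_left
  have hnorm : ∀ g ∈ S, ∀ y ∈ CC F E, g * y * g⁻¹ ∈ CC F E := fun g hg y hy => CC_conj hT hInv hg hy
  let L : FusionSystem S := Cfsg.Agent.Lib.FusionStrongClosed.preservingSystem F (CC F E) hnorm
  have hall : ∀ P, F.Hom P ⊆ L.Hom P := by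
    refine Cfsg.Agent.Lib.FusionAlperin.alperin hS hF (fun P φ hφ => hφ.1) ?_
    intro A hAS hFA hRec hC IH φ hφ hr
    haveI : Finite A := finite_of_le hAS
    set P := A ⊓ T with hP
    have hPA : P ≤ A := inf_le_left
    have hPT : P ≤ T := inf_le_right
    have hPS : P ≤ S := hPT.trans hTS
    have hAnP : A ≤ normalizerIn S P := by
      intro a ha
      refine mem_normalizerIn.2 ⟨hAS ha, ?_⟩
      haveI : Finite P := finite_of_le hPS
      exact mem_normalizer_of_conj_mem (fun y hy =>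
        ⟨A.mul_mem (A.mul_mem ha hy.1) (A.inv_mem ha), sc_conj hT (hAS ha) hy.2⟩)
    have hinvP : ∀ g ∈ F.autGroup A, ∀ x ∈ P, afn g x ∈ P := by
      intro g hg x hx
      have hm := (mem_autGroup_iff hAS).1 hg
      exact ⟨afn_mem g hx.1, StrongMem hT hPT (hm.restrict hPA) hx⟩
    obtain ⟨P'', hPP'', hP''n⟩ := exists_fullyNormalized_conj (F := F) hPS
    obtain ⟨hP''c, hP''a⟩ := of_fullyNormalized hS hF hP''n
    have hP''r := receptive_of_fullyCentralized hS hF hP''c
    by_cases hgood : centralizerIn T P'' ≤ P''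
    · -- the good case
      have hGood : ∀ P', F.IsConj P P' → centralizerIn T P' ≤ P' := by
        intro P' hP'
        have hc2 : F.IsConj P' P'' := IsConj_trans (IsConj_symm hP') hPP''
        obtain ⟨r, hr', -, hrimg⟩ := exists_normalizer_map hS hP''a hP''r hc2
        have hP'S : P' ≤ S := IsConj_le hc2
        have hP'N : P' ≤ normalizerIn S P' := le_normalizerIn hP'S
        have hrP : Maps F P' r := hr'.restrict hP'N
        intro c hc
        obtain ⟨hcT, hcc⟩ := mem_centralizerIn.1 hc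
        have hcS : c ∈ centralizerIn S P' := mem_centralizerIn.2 ⟨hTS hcT, hcc⟩
        have hcN : c ∈ normalizerIn S P' := le_normalizerIn_of_centralizerIn S P' hcS
        have hrc : r c ∈ centralizerIn T P'' := by
          refine mem_centralizerIn.2 ⟨StrongMem hT (Subgroup.zpowers_le.2 hcT) (hr'.restrict (Subgroup.zpowers_le.2 hcN)) (Subgroup.mem_zpowers c), fun y hy => ?_⟩
          rw [← hrimg] at hy
          obtain ⟨u, hu, rfl⟩ := hrP.mem_img.1 hy
          rw [← hr'.map_mul (hP'N hu) hcN, hcc u hu, hr'.map_mul hcN (hP'N hu)]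
        have h1 := hgood hrc
        rw [← hrimg] at h1
        obtain ⟨u, hu, hue⟩ := hrP.mem_img.1 h1
        rw [← hr'.inj (hP'N hu) hcN hue]
        exact hu
      have hsub : ∀ g₀ : Ω → Ω, Maps F A g₀ → img g₀ A = A → ∀ y ∈ A, y ∈ CC F E → g₀ y ∈ CC F E := by
        intro g₀ hg₀ himg y hy hyC
        refine key_conj hS hF hE hPT hGood hg₀ hy hyC (fun u hu => ?_)
        have hg₀P : Maps F P g₀ := hg₀.restrict hPA
        have hPimg : img g₀ P = P := img_eq_of_card hg₀P hPS hPS
          (fun x hx => ⟨by rw [← himg]; exact hg₀.mem_img_of_mem hx.1, StrongMem hT hPT hg₀P hx⟩) le_rfl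
        have hu' : u ∈ img g₀ P := by rw [hPimg]; exact hu
        obtain ⟨w, hw, rfl⟩ := hg₀P.mem_img.1 hu'
        have e := (mem_centralizerIn.1 (CC_le hyC)).2 w hw.2
        rw [← hg₀.map_mul hw.1 hy, e, hg₀.map_mul hy hw.1]
      have hmφ := Maps.of_mem hφ
      have himgφ : img (fn φ) A = A := by rw [img_eq_range φ (fun x => (fn_coe φ x).symm), hr]
      obtain ⟨gi, hgi, hgi1, hgi2⟩ := hmφ.inv
      rw [himgφ] at hgi hgi2
      have himgi : img gi A = A := img_eq_of_card hgi hAS hAS (fun x hx => (hgi2 x hx).1) le_rfl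
      refine ⟨hφ, fun x => ⟨fun hx => ?_, fun hx => ?_⟩⟩
      · have := hsub _ hmφ himgφ _ x.2 hx
        rwa [fn_coe] at this
      · have hx' : fn φ (x : Ω) ∈ CC F E := by rwa [fn_coe]
        have hxA : fn φ (x : Ω) ∈ A := by
          have h0 := hmφ.mem_img_of_mem x.2
          rwa [himgφ] at h0
        have := hsub gi hgi himgi _ hxA hx'
        rwa [hgi1 _ x.2] at this
    · -- the bad case
      obtain ⟨ρ, hρ, hρN, hρimg⟩ := exists_normalizer_map hS hP''a hP''r hPP''
      have hρA : Maps F A ρ := hρ.restrict hAnP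
      have hρP : Maps F P ρ := hρA.restrict hPA
      set A'' := img ρ A with hA''
      have hA''S : A'' ≤ S := hρA.img_le
      have hP''S : P'' ≤ S := hP''n.1
      have hP''T : P'' ≤ T := by
        rw [← hρimg]
        exact strong_img_le hT hPT hρP
      have hP''A : P'' ≤ A'' := by
        rw [← hρimg]
        exact hρA.img_mono hPA
      have hint : ∀ y ∈ A'', y ∈ T → y ∈ P'' := by
        intro y hy hyT
        obtain ⟨a, ha, rfl⟩ := hρA.mem_img.1 hy
        have := hρP.mem_img_of_mem (show a ∈ P from ⟨ha, sc_back hT hρA ha hyT⟩)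
        rwa [hρimg] at this
      set U := centralizerIn T P'' with hU
      have hUS : U ≤ S := inf_le_left.trans hTS
      haveI : Finite U := finite_of_le hUS
      haveI : Finite P'' := finite_of_le hP''S
      have hn : A'' ≤ Subgroup.normalizer (U : Set Ω) := by
        intro a ha
        obtain ⟨b, hb, rfl⟩ := hρA.mem_img.1 ha
        obtain ⟨haS, haN⟩ := mem_normalizerIn.1 (hρN b (hAnP hb))
        refine mem_normalizer_of_conj_mem (fun c hc => ?_)
        obtain ⟨hcT, hcc⟩ := mem_centralizerIn.1 hc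
        refine mem_centralizerIn.2 ⟨sc_conj hT haS hcT, fun y hy => ?_⟩
        have hy' : (ρ b)⁻¹ * y * (ρ b)⁻¹⁻¹ ∈ P'' := (Subgroup.mem_normalizer_iff.1 (Subgroup.inv_mem _ haN) y).1 hy
        have e := hcc _ hy'
        have e' : (ρ b)⁻¹ * y * ρ b * c = c * ((ρ b)⁻¹ * y * ρ b) := by simpa using e
        calc y * (ρ b * c * (ρ b)⁻¹) = ρ b * ((ρ b)⁻¹ * y * ρ b * c) * (ρ b)⁻¹ := by group
          _ = ρ b * (c * ((ρ b)⁻¹ * y * ρ b)) * (ρ b)⁻¹ := by rw [e']
          _ = _ := by group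
      have hUA : ¬ U ≤ A'' := fun h => hgood (fun c hc => hint c (h hc) (mem_centralizerIn.1 hc).1)
      obtain ⟨t'', ht''U, ht''N, ht''A⟩ := Cfsg.Agent.Lib.FusionNormal.exists_mem_normalizer_not_mem hS hUS hA''S hn hUA
      have ht''T : t'' ∈ T := (mem_centralizerIn.1 ht''U).1
      have ht''NS : t'' ∈ normalizerIn S A'' := mem_normalizerIn.2 ⟨hTS ht''T, ht''N⟩
      have hconj : F.IsConj A'' A := IsConj_symm (isConj_iff.2 ⟨ρ, hρA, rfl⟩)
      obtain ⟨r, hrm, hrN, hrimg⟩ := exists_normalizer_map hS hFA hRec hconj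
      have hA''N : A'' ≤ normalizerIn S A'' := le_normalizerIn hA''S
      have hrA : Maps F A'' r := hrm.restrict hA''N
      obtain ⟨htS, htN⟩ := mem_normalizerIn.1 (hrN t'' ht''NS)
      have htT : r t'' ∈ T := StrongMem hT (Subgroup.zpowers_le.2 ht''T) (hrm.restrict (Subgroup.zpowers_le.2 ht''NS)) (Subgroup.mem_zpowers t'')
      have htA : r t'' ∉ A := by
        intro h
        have h' : r t'' ∈ img r A'' := by rw [hrimg]; exact h
        obtain ⟨y, hy, hye⟩ := hrA.mem_img.1 h'
        rw [← hrm.inj (hA''N hy) ht''NS hye] at ht''A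
        exact ht''A hy
      obtain ⟨-, W, hW⟩ := id hFA
      haveI : (stabK F A P hPA hAS hinvP).Normal := stabK_normal hPA hAS hinvP
      refine Cfsg.Agent.Lib.FusionAlperin.aut_mem_of_normal hFA hRec IH (stabK F A P hPA hAS hinvP) ?_ htS htN htA ?_ φ hφ hr
      · intro α hα
        have h1 := stabK_le_sylow hS hPA hAS hinvP W hα
        rw [hW] at h1
        exact Cfsg.Agent.Lib.FusionAlperin.autInduced_mem_of_mem hAS (Subgroup.mem_subgroupOf.1 h1)
      · intro h
        have hval : ∀ x ∈ A, afn (Cfsg.Agent.Lib.FusionAlperin.conjAut A (r t'') htN) x = r t'' * x * (r t'')⁻¹ := fun x hx => by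
          rw [afn_of_mem _ hx]
          rfl
        refine ⟨fun x hx => ?_, fun a ha => ?_⟩
        · show afn (Cfsg.Agent.Lib.FusionAlperin.conjAut A (r t'') htN) x = x
          rw [hval x hx.1]
          have hx' : x ∈ img r A'' := by rw [hrimg]; exact hx.1
          obtain ⟨y, hy, rfl⟩ := hrA.mem_img.1 hx'
          have hyP : y ∈ P'' := hint y hy (sc_back hT hrA hy hx.2)
          have e := (mem_centralizerIn.1 ht''U).2 y hyP
          rw [← hrm.map_conj ht''NS (hA''N hy)]
          have e2 : t'' * y * t''⁻¹ = y := by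
            rw [← e]
            group
          rw [e2]
        · show a⁻¹ * afn (Cfsg.Agent.Lib.FusionAlperin.conjAut A (r t'') htN) a ∈ P
          rw [hval a ha]
          refine ⟨A.mul_mem (A.inv_mem ha) ((Subgroup.mem_normalizer_iff.1 htN a).1 ha), ?_⟩
          have h1 := sc_conj hT (S.inv_mem (hAS ha)) htT
          have h2 := T.mul_mem h1 (T.inv_mem htT)
          have e : a⁻¹ * r t'' * a⁻¹⁻¹ * (r t'')⁻¹ = a⁻¹ * (r t'' * a * (r t'')⁻¹) := by group
          rwa [e] at h2
  exact ⟨hCS, fun R hRH φ hφ x => ((hall R hφ).2 x).mp (hRH x.2)⟩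

end Strong

end Cfsg.Agent.Lib.AschCore
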