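/-
FusionSatCrit: a saturation criterion (S5110).
For a subgroup `R` let `tl R` be the group of `g ∈ N_S(R)` inducing on `R` an element of `O_p(Aut_F(R))`.
Every conjugacy class for which some member has `R < tl R` and all of whose morphisms come from larger subgroups
(which are assumed to be well behaved) contains a fully automized receptive member.
-/
import Mathlib
import Cfsg.Agent.Lib.FusionCore
import Cfsg.Agent.Lib.FusionAlperin
import Cfsg.Agent.Lib.PCore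

set_option autoImplicit false

namespace Cfsg.Agent.Lib.FusionSatCrit

open Cfsg Cfsg.FusionSystem Cfsg.Agent.Lib.FusionCore Cfsg.Agent.Lib.PCore

variable {Ω : Type*} [Group Ω] {S : Subgroup Ω} {F : FusionSystem S} {P Q R W X Y : Subgroup Ω} {f g : Ω → Ω}
variable {p : ℕ}

/-! ### The subgroup `O_p(Aut_F(R))` -/

/-- `O_p(Aut_F(R))` inside `Aut(R)`. -/
def KK (F : FusionSystem S) (p : ℕ) (R : Subgroup Ω) : Subgroup (MulAut R) :=
  (pCore p (F.autGroup R)).map (F.autGroup R).subtype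

lemma KK_le : KK F p R ≤ F.autGroup R := Subgroup.map_subtype_le _

lemma isP_KK [Finite S] [Fact p.Prime] (hR : R ≤ S) : IsPGroup p (KK F p R) := by
  haveI := finite_mulAut hR
  exact (isPGroup_pCore p).map _

lemma mem_KK {β : MulAut R} : β ∈ KK F p R ↔ ∃ b ∈ pCore p (F.autGroup R), (b : MulAut R) = β := by
  rw [KK, Subgroup.mem_map]
  rfl

lemma KK_conj {α β : MulAut R} (hα : α ∈ F.autGroup R) (hβ : β ∈ KK F p R) : α * β * α⁻¹ ∈ KK F p R := by
  obtain ⟨b, hb, hbe⟩ := mem_KK.1 hβ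
  have hn : (pCore p (F.autGroup R)).Normal := pCore_normal p _
  let a : F.autGroup R := ⟨α, hα⟩
  have h1 : a * b * a⁻¹ ∈ pCore p (F.autGroup R) := hn.conj_mem b hb a
  refine mem_KK.2 ⟨a * b * a⁻¹, h1, ?_⟩
  rw [← hbe, Subgroup.coe_mul, Subgroup.coe_mul, Subgroup.coe_inv]

lemma le_KK {N : Subgroup (MulAut R)} (hN : N ≤ F.autGroup R)
    (hnorm : ∀ α ∈ F.autGroup R, ∀ β ∈ N, α * β * α⁻¹ ∈ N) (hp : IsPGroup p N) : N ≤ KK F p R := by
  have hn : (N.subgroupOf (F.autGroup R)).Normal := by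
    refine ⟨fun x hx g => ?_⟩
    rw [Subgroup.mem_subgroupOf] at hx ⊢
    exact hnorm _ g.2 _ hx
  have hp' : IsPGroup p (N.subgroupOf (F.autGroup R)) := hp.comap_subtype
  have := le_pCore hn hp'
  intro β hβ
  exact ⟨⟨β, hN hβ⟩, this (Subgroup.mem_subgroupOf.2 hβ), rfl⟩

lemma KK_map [Finite S] [Fact p.Prime] (h : Maps F P f) (hQ : img f P = Q) {β : MulAut P}
    (hβ : β ∈ KK F p P) : MulAut.congr (h.equiv hQ) β ∈ KK F p Q := by
  have hPS := h.le
  have hQS : Q ≤ S := hQ ▸ h.img_le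
  have hm := h.map_autGroup hQ
  have hle : (KK F p P).map (MulAut.congr (h.equiv hQ)).toMonoidHom ≤ F.autGroup Q := by
    rw [← hm]
    exact Subgroup.map_mono KK_le
  refine le_KK hle ?_ ((isP_KK hPS).map _) (Subgroup.mem_map_of_mem _ hβ)
  rintro α hα _ ⟨b, hb, rfl⟩
  rw [← hm] at hα
  obtain ⟨a, ha, rfl⟩ := hα
  refine ⟨a * b * a⁻¹, KK_conj ha hb, ?_⟩
  simp [map_mul, map_inv]

/-! ### The subgroup `tl R` -/

/-- `tl R`: the elements of `N_S(R)` inducing an element of `O_p(Aut_F(R))` on `R`. -/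
def tl (F : FusionSystem S) (p : ℕ) (R : Subgroup Ω) : Subgroup Ω where
  carrier := {g | g ∈ normalizerIn S R ∧ ∃ α ∈ KK F p R, ∀ x ∈ R, afn α x = g * x * g⁻¹}
  mul_mem' := by
    rintro a b ⟨ha, α, hα, ha2⟩ ⟨hb, β, hβ, hb2⟩
    refine ⟨Subgroup.mul_mem _ ha hb, α * β, Subgroup.mul_mem _ hα hβ, fun x hx => ?_⟩
    rw [afn_mul _ _ hx, hb2 x hx, ha2 _ (by rw [← hb2 x hx]; exact afn_mem _ hx)]
    group
  one_mem' := ⟨Subgroup.one_mem _, 1, Subgroup.one_mem _, fun x hx => by rw [afn_one hx]; group⟩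
  inv_mem' := by
    rintro a ⟨ha, α, hα, ha2⟩
    refine ⟨Subgroup.inv_mem _ ha, α⁻¹, Subgroup.inv_mem _ hα, fun x hx => ?_⟩
    have hN := (mem_normalizerIn.1 ha).2
    have h1 : a⁻¹ * x * a⁻¹⁻¹ ∈ R := (Subgroup.mem_normalizer_iff.1 (Subgroup.inv_mem _ hN) x).1 hx
    have h2 := ha2 _ h1
    have h3 : a * (a⁻¹ * x * a⁻¹⁻¹) * a⁻¹ = x := by group
    rw [h3] at h2
    calc afn α⁻¹ x = afn α⁻¹ (afn α (a⁻¹ * x * a⁻¹⁻¹)) := by rw [h2]
      _ = _ := afn_inv_afn _ h1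

lemma mem_tl {g : Ω} : g ∈ tl F p R ↔ g ∈ normalizerIn S R ∧ ∃ α ∈ KK F p R, ∀ x ∈ R, afn α x = g * x * g⁻¹ :=
  Iff.rfl

lemma tl_le_normalizerIn : tl F p R ≤ normalizerIn S R := fun _ h => h.1

lemma tl_le_S : tl F p R ≤ S := fun _ h => (mem_normalizerIn.1 h.1).1

lemma inn_le_KK [Finite S] [Fact p.Prime] (hS : IsPGroup p S) (hR : R ≤ S) : Inn R ≤ KK F p R := by
  refine le_KK (Inn_le_autGroup hR) ?_ ?_
  · rintro α - _ ⟨r, rfl⟩
    refine ⟨α r, ?_⟩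
    ext x
    simp
  · have hp : IsPGroup p R := hS.to_le hR
    exact hp.of_surjective _ (MulAut.conj (G := R)).rangeRestrict_surjective

lemma le_tl [Finite S] [Fact p.Prime] (hS : IsPGroup p S) (hR : R ≤ S) : R ≤ tl F p R := by
  intro r hr
  refine ⟨le_normalizerIn hR hr, MulAut.conj (⟨r, hr⟩ : R), inn_le_KK hS hR ⟨_, rfl⟩, fun x hx => ?_⟩
  rw [afn_of_mem _ hx]
  rfl

lemma centralizerIn_le_tl (hR : R ≤ S) : centralizerIn S R ≤ tl F p R := by
  intro c hc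
  have hc' := hc
  rw [mem_centralizerIn] at hc'
  refine ⟨le_normalizerIn_of_centralizerIn S R hc, 1, Subgroup.one_mem _, fun x hx => ?_⟩
  rw [afn_one hx]
  have h3 := hc'.2 x hx
  rw [← h3]
  group

/-- Transport of `tl`. -/
lemma tl_map [Finite S] [Fact p.Prime] (h : Maps F X f) (hRX : R ≤ X) {x : Ω} (hx : x ∈ X) (hxt : x ∈ tl F p R) :
    f x ∈ tl F p (img f R) := by
  have hR := h.restrict hRX
  obtain ⟨hxN, α, hα, hαx⟩ := hxt
  have hfS : f x ∈ S := h.mem hx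
  haveI : Finite (img f R) := finite_of_le hR.img_le
  have hN' := (mem_normalizerIn.1 hxN).2
  have hnorm : f x ∈ Subgroup.normalizer (img f R : Set Ω) := by
    apply mem_normalizer_of_conj_mem
    intro y hy
    obtain ⟨r, hr, rfl⟩ := hR.mem_img.1 hy
    rw [← h.map_conj hx (hRX hr)]
    exact hR.mem_img_of_mem ((Subgroup.mem_normalizer_iff.1 hN' r).1 hr)
  refine ⟨mem_normalizerIn.2 ⟨hfS, hnorm⟩, MulAut.congr (hR.equiv rfl) α, KK_map hR rfl hα, fun y hy => ?_⟩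
  obtain ⟨r, hr, rfl⟩ := hR.mem_img.1 hy
  rw [hR.afn_congr rfl α hr, hαx r hr, h.map_conj hx (hRX hr)]

/-- Existence of an element normalizing `X` in `tl R`, outside `X`. -/
lemma mem_sup_of_normalizes {T : Subgroup Ω} (hN : ∀ x ∈ X, ∀ t ∈ T, x * t * x⁻¹ ∈ T) {g : Ω} (hg : g ∈ X ⊔ T) :
    ∃ x ∈ X, ∃ t ∈ T, g = x * t := by
  let K : Subgroup Ω :=
    { carrier := {g | ∃ x ∈ X, ∃ t ∈ T, g = x * t}
      mul_mem' := by
        rintro _ _ ⟨x₁, h₁, t₁, h₂, rfl⟩ ⟨x₂, h₃, t₂, h₄, rfl⟩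
        refine ⟨x₁ * x₂, X.mul_mem h₁ h₃, x₂⁻¹ * t₁ * x₂⁻¹⁻¹ * t₂, T.mul_mem (hN _ (X.inv_mem h₃) _ h₂) h₄, ?_⟩
        group
      one_mem' := ⟨1, X.one_mem, 1, T.one_mem, by simp⟩
      inv_mem' := by
        rintro _ ⟨x, h₁, t, h₂, rfl⟩
        refine ⟨x⁻¹, X.inv_mem h₁, x * t⁻¹ * x⁻¹, hN _ h₁ _ (T.inv_mem h₂), ?_⟩
        group }
  have hle : X ⊔ T ≤ K := sup_le (fun x hx => ⟨x, hx, 1, T.one_mem, by simp⟩)
    (fun t ht => ⟨1, X.one_mem, t, ht, by simp⟩)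
  exact hle hg

/-- `tl R` is normalized by `N_S(R)`. -/
lemma tl_conj [Finite S] [Fact p.Prime] {g x : Ω} (hg : g ∈ normalizerIn S R) (hR : R ≤ S) (hx : x ∈ tl F p R) :
    g * x * g⁻¹ ∈ tl F p R := by
  have hgg := mem_normalizerIn.1 hg
  have hm : Maps F S (fun y => g * y * g⁻¹) := Maps.conj le_rfl hgg.1
  have e : img (fun y => g * y * g⁻¹) R = R := by
    apply img_eq_of_card (hm.restrict hR) hR hR
    · intro y hy
      exact (Subgroup.mem_normalizer_iff.1 hgg.2 y).1 hy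
    · exact le_rfl
  have := tl_map hm hR (tl_le_S hx) hx
  rwa [e] at this

/-- If `tl R` is not inside `X`, then some element of `tl R` normalizes `X` without being in `X`. -/
lemma exists_c [Finite S] [Fact p.Prime] (hS : IsPGroup p S) (hRS : R ≤ S) (hXN : X ≤ normalizerIn S R)
    (hnle : ¬ tl F p R ≤ X) : ∃ c ∈ normalizerIn S X ⊓ tl F p R, c ∉ X := by
  have hXS : X ≤ S := hXN.trans inf_le_left
  let L : Subgroup Ω := X ⊔ tl F p R
  have hLN : L ≤ normalizerIn S R := sup_le hXN tl_le_normalizerIn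
  have hLS : L ≤ S := hLN.trans inf_le_left
  have hlt : X < L := lt_of_le_of_ne le_sup_left (fun h => hnle (by rw [h]; exact le_sup_right))
  have hLp : IsPGroup p L := hS.to_le hLS
  haveI : Finite L := finite_of_le hLS
  obtain ⟨l, hl, hlX⟩ := SetLike.exists_of_lt (Cfsg.Agent.Lib.FusionAlperin.lt_normalizerIn hLp hlt)
  have hl' := mem_normalizerIn.1 hl
  obtain ⟨x, hx, c, hc, rfl⟩ := mem_sup_of_normalizes (T := tl F p R)
    (fun x hx t ht => tl_conj (hXN hx) hRS ht) hl'.1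
  have hcN : c ∈ Subgroup.normalizer (X : Set Ω) := by
    have h1 : x⁻¹ * (x * c) = c := by group
    rw [← h1]
    exact Subgroup.mul_mem _ (Subgroup.inv_mem _ (Subgroup.le_normalizer hx)) hl'.2
  refine ⟨c, ⟨mem_normalizerIn.2 ⟨tl_le_S hc, hcN⟩, hc⟩, fun hcX => hlX (X.mul_mem hx hcX)⟩

end Cfsg.Agent.Lib.FusionSatCrit
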