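/-
FusionSatCrit2: Sylow and Frattini arguments in `Aut_F(W)` for a fully automized receptive `W`.
-/
import Mathlib
import Cfsg.Agent.Lib.FusionSatCrit

set_option autoImplicit false

namespace Cfsg.Agent.Lib.FusionSatCrit

open Cfsg Cfsg.FusionSystem Cfsg.Agent.Lib.FusionCore Cfsg.Agent.Lib.PCore
open scoped Pointwise

variable {Ω : Type*} [Group Ω] {S : Subgroup Ω} {F : FusionSystem S} {P Q R W X Y : Subgroup Ω} {f g : Ω → Ω}
variable {p : ℕ}

/-! ### Stabilizers -/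

/-- The automorphisms of `W` stabilizing `R`. -/
def stab (W R : Subgroup Ω) : Subgroup (MulAut W) where
  carrier := {α | ∀ x ∈ W, x ∈ R ↔ afn α x ∈ R}
  mul_mem' := by
    intro a b ha hb x hx
    rw [afn_mul _ _ hx]
    exact (hb x hx).trans (ha _ (afn_mem b hx))
  one_mem' := by
    intro x hx
    rw [afn_one hx]
  inv_mem' := by
    intro a ha x hx
    have := ha _ (afn_mem a⁻¹ hx)
    rw [afn_afn_inv a hx] at this
    exact this.symm

lemma mem_stab {α : MulAut W} : α ∈ stab W R ↔ ∀ x ∈ W, x ∈ R ↔ afn α x ∈ R := Iff.rfl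

lemma afn_map_mul (α : MulAut W) {x y : Ω} (hx : x ∈ W) (hy : y ∈ W) : afn α (x * y) = afn α x * afn α y := by
  rw [afn_of_mem α (W.mul_mem hx hy), afn_of_mem α hx, afn_of_mem α hy]
  have : (⟨x * y, W.mul_mem hx hy⟩ : W) = ⟨x, hx⟩ * ⟨y, hy⟩ := rfl
  rw [this, map_mul]
  rfl

/-- Restriction of a stabilizing automorphism. -/
noncomputable def resS (hRW : R ≤ W) : stab W R →* MulAut R :=
  MonoidHom.mk' (fun α =>
    { toFun := fun x => ⟨afn (α : MulAut W) x, (α.2 x (hRW x.2)).1 x.2⟩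
      invFun := fun x => ⟨afn (α : MulAut W)⁻¹ x, ((α⁻¹ : stab W R).2 x (hRW x.2)).1 x.2⟩
      left_inv := fun x => Subtype.ext (afn_inv_afn _ (hRW x.2))
      right_inv := fun x => Subtype.ext (afn_afn_inv _ (hRW x.2))
      map_mul' := fun x y => Subtype.ext (afn_map_mul _ (hRW x.2) (hRW y.2)) })
    (fun a b => by
      ext x
      show afn ((a * b : stab W R) : MulAut W) x = afn (a : MulAut W) (afn (b : MulAut W) x)
      exact afn_mul _ _ (hRW x.2))

lemma afn_resS (hRW : R ≤ W) (α : stab W R) {x : Ω} (hx : x ∈ R) : afn (resS hRW α) x = afn (α : MulAut W) x := by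
  rw [afn_of_mem _ hx]
  rfl

/-- `Aut_F(W)` acting on `R`. -/
def AA (F : FusionSystem S) (W R : Subgroup Ω) : Subgroup (MulAut W) := F.autGroup W ⊓ stab W R

/-- The stabilizer of `R` in `Aut_S(W)` is Sylow in the stabilizer of `R` in `Aut_F(W)`. -/
def IsStabSylow (F : FusionSystem S) (p : ℕ) (W R : Subgroup Ω) : Prop :=
  ¬ p ∣ ((autInducedBy S W).subgroupOf (AA F W R)).index

lemma mem_img_afn (hW : W ≤ S) {γ : MulAut W} (hγ : γ ∈ F.autGroup W) (hRW : R ≤ W) {x : Ω} (hx : x ∈ W) :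
    x ∈ img (afn γ) R ↔ afn γ⁻¹ x ∈ R := by
  have hm := (Maps_of_mem_autGroup hW hγ).restrict hRW
  rw [hm.mem_img]
  constructor
  · rintro ⟨r, hr, rfl⟩
    rwa [afn_inv_afn _ (hRW hr)]
  · intro h
    exact ⟨_, h, afn_afn_inv _ hx⟩

lemma img_afn_le (hW : W ≤ S) {γ : MulAut W} (hγ : γ ∈ F.autGroup W) (hRW : R ≤ W) : img (afn γ) R ≤ W := by
  have hm := (Maps_of_mem_autGroup hW hγ).restrict hRW
  intro y hy
  obtain ⟨r, hr, rfl⟩ := hm.mem_img.1 hy
  exact afn_mem _ (hRW hr)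

/-- Conjugation by `γ` sends the stabilizer of `R` to that of `γ(R)`. -/
lemma conj_mem_AA (hW : W ≤ S) {γ α : MulAut W} (hγ : γ ∈ F.autGroup W) (hRW : R ≤ W) (hα : α ∈ AA F W R) :
    γ * α * γ⁻¹ ∈ AA F W (img (afn γ) R) := by
  refine ⟨Subgroup.mul_mem _ (Subgroup.mul_mem _ hγ hα.1) (Subgroup.inv_mem _ hγ), fun x hx => ?_⟩
  have hx1 : afn γ⁻¹ x ∈ W := afn_mem _ hx
  have hx2 : afn α (afn γ⁻¹ x) ∈ W := afn_mem _ hx1
  have e : afn (γ * α * γ⁻¹) x = afn γ (afn α (afn γ⁻¹ x)) := by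
    rw [afn_mul _ _ hx, afn_mul _ _ hx1]
  rw [mem_img_afn hW hγ hRW hx, e, mem_img_afn hW hγ hRW (afn_mem _ hx2), afn_inv_afn _ hx2]
  exact hα.2 _ hx1

lemma img_afn_img (hW : W ≤ S) {γ : MulAut W} (hγ : γ ∈ F.autGroup W) (hRW : R ≤ W) :
    img (afn γ⁻¹) (img (afn γ) R) = R := by
  have hle := img_afn_le hW hγ hRW
  have hm := (Maps_of_mem_autGroup hW (Subgroup.inv_mem _ hγ)).restrict hle
  ext y
  rw [hm.mem_img]
  constructor
  · rintro ⟨z, hz, rfl⟩
    exact (mem_img_afn hW hγ hRW (hle hz)).1 hz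
  · intro hy
    refine ⟨afn γ y, ?_, afn_inv_afn _ (hRW hy)⟩
    exact ((Maps_of_mem_autGroup hW hγ).restrict hRW).mem_img_of_mem hy

lemma map_AA (hW : W ≤ S) {γ : MulAut W} (hγ : γ ∈ F.autGroup W) (hRW : R ≤ W) :
    (AA F W R).map (MulAut.conj γ).toMonoidHom = AA F W (img (afn γ) R) := by
  ext β
  constructor
  · rintro ⟨α, hα, rfl⟩
    exact conj_mem_AA hW hγ hRW hα
  · intro hβ
    refine ⟨γ⁻¹ * β * γ, ?_, ?_⟩
    · have := conj_mem_AA hW (Subgroup.inv_mem _ hγ) (img_afn_le hW hγ hRW) hβ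
      rw [img_afn_img hW hγ hRW, inv_inv] at this
      exact this
    · show γ * (γ⁻¹ * β * γ) * γ⁻¹ = β
      group

/-- A general Sylow conjugation statement. -/
lemma sylow_conj {G : Type*} [Group G] [Finite G] [Fact p.Prime] {H B Δ : Subgroup G} (hB : IsPGroup p B)
    (h : ¬ p ∣ (B.subgroupOf H).index) (hΔ : IsPGroup p Δ) (hΔH : Δ ≤ H) :
    ∃ a ∈ H, ∀ δ ∈ Δ, a * δ * a⁻¹ ∈ B := by
  have hp : IsPGroup p (B.subgroupOf H) := hB.comap_subtype
  let P : Sylow p H := hp.toSylow h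
  have hΔ' : IsPGroup p (Δ.subgroupOf H) := hΔ.comap_subtype
  obtain ⟨T, hT⟩ := hΔ'.exists_le_sylow
  obtain ⟨a, ha⟩ := MulAction.exists_smul_eq H T P
  refine ⟨a, a.2, fun δ hδ => ?_⟩
  have h1 : (⟨δ, hΔH hδ⟩ : H) ∈ (T : Subgroup H) := hT (Subgroup.mem_subgroupOf.2 hδ)
  have h2 : a * (⟨δ, hΔH hδ⟩ : H) * a⁻¹ ∈ (P : Subgroup H) := by
    rw [← ha]
    exact Subgroup.mem_map_of_mem _ h1
  exact Subgroup.mem_subgroupOf.1 h2

/-- Choice of a representative in an orbit. -/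
theorem exists_rep [Finite S] [Fact p.Prime] (hA : F.IsFullyAutomized p W) (hRW : R ≤ W) :
    ∃ γ ∈ F.autGroup W, IsStabSylow F p W (img (afn γ) R) := by
  have hW := hA.1
  haveI := finite_mulAut hW
  let A₀ := AA F W R
  obtain ⟨T⟩ : Nonempty (Sylow p A₀) := inferInstance
  let T₀ : Subgroup (MulAut W) := (T : Subgroup A₀).map A₀.subtype
  have hT₀ : IsPGroup p T₀ := T.isPGroup'.map _
  have hT₀A : T₀ ≤ A₀ := Subgroup.map_subtype_le _
  obtain ⟨γ, hγ, hγ2⟩ := IsFullyAutomized.exists_conj hA hT₀ (hT₀A.trans inf_le_left)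
  refine ⟨γ, hγ, ?_⟩
  unfold IsStabSylow
  rw [← map_AA hW hγ hRW]
  have hT₁ : T₀.map (MulAut.conj γ).toMonoidHom ≤ autInducedBy S W := by
    rintro _ ⟨β, hβ, rfl⟩
    exact hγ2 β hβ
  have h1 : (autInducedBy S W).relIndex (A₀.map (MulAut.conj γ).toMonoidHom) ∣
      (T₀.map (MulAut.conj γ).toMonoidHom).relIndex (A₀.map (MulAut.conj γ).toMonoidHom) :=
    Subgroup.relIndex_dvd_of_le_left _ hT₁
  have h2 : (T₀.map (MulAut.conj γ).toMonoidHom).relIndex (A₀.map (MulAut.conj γ).toMonoidHom) = T₀.relIndex A₀ :=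
    Subgroup.relIndex_map_map_of_injective _ _ (MulAut.conj γ).injective
  have h3 : T₀.relIndex A₀ = (T : Subgroup A₀).index := by
    have : T₀.subgroupOf A₀ = (T : Subgroup A₀) :=
      Subgroup.comap_map_eq_self_of_injective A₀.subtype_injective _
    rw [Subgroup.relIndex, this]
  intro hd
  apply T.not_dvd_index
  rw [← h3, ← h2]
  exact hd.trans h1

lemma img_afn_self [Finite S] (hW : W ≤ S) (hRW : R ≤ W) {a : MulAut W} (ha : a ∈ AA F W R) :
    img (afn a) R = R := by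
  have hm := (Maps_of_mem_autGroup hW ha.1).restrict hRW
  exact img_eq_of_card hm (hRW.trans hW) (hRW.trans hW) (fun x hx => (ha.2 x (hRW hx)).1 hx) le_rfl

lemma img_afn_mul (hW : W ≤ S) (hRW : R ≤ W) {a b : MulAut W} (ha : a ∈ F.autGroup W) (hb : b ∈ F.autGroup W) :
    img (afn (a * b)) R = img (afn a) (img (afn b) R) := by
  have hm := (Maps_of_mem_autGroup hW hb).restrict hRW
  have hm2 := (Maps_of_mem_autGroup hW ha).restrict (img_afn_le hW hb hRW)
  rw [← img_comp hm hm2]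
  exact img_congr (fun x hx => afn_mul _ _ (hRW hx))

/-- If `b δ b⁻¹ ∈ Aut_S(W)`, with `δ` the conjugation by `g`, then `g` is in `N_b`. -/
lemma mem_Nf_of_conj {b : MulAut W} {g : Ω} (hg : g ∈ normalizerIn S W)
    (h : b * conjN S W ⟨g, hg⟩ * b⁻¹ ∈ autInducedBy S W) : g ∈ Nf S W (afn b) := by
  obtain ⟨h₀, hh₀, h1⟩ := mem_autInducedBy.1 h
  have hgg := mem_normalizerIn.1 hg
  refine mem_Nf.2 ⟨hgg.1, hgg.2, h₀, hh₀, fun x hx => ?_⟩
  have h2 := h1 _ (afn_mem b hx)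
  rw [afn_mul _ _ (afn_mem b hx), afn_inv_afn _ hx, afn_mul _ _ hx, afn_conjN _ hx] at h2
  exact h2

lemma conjN_mem_stab {g : Ω} (hg : g ∈ normalizerIn S W) (hg2 : g ∈ Subgroup.normalizer (R : Set Ω)) :
    conjN S W ⟨g, hg⟩ ∈ stab W R := by
  intro x hx
  rw [afn_conjN _ hx]
  exact Subgroup.mem_normalizer_iff.1 hg2 x

lemma conjN_mem_autInduced {g : Ω} (hg : g ∈ normalizerIn S W) : conjN S W ⟨g, hg⟩ ∈ autInducedBy S W := by
  rw [← conjN_range]
  exact ⟨_, rfl⟩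

/-- Moving `R₁` onto the representative `Rs` so that the map extends. -/
theorem exists_move [Finite S] [Fact p.Prime] (hS : IsPGroup p S) {R₁ Rs : Subgroup Ω}
    (hW : F.IsReceptive W) (hs : IsStabSylow F p W Rs) (hR₁W : R₁ ≤ W)
    {β : MulAut W} (hβ : β ∈ F.autGroup W) (hβR : img (afn β) R₁ = Rs) :
    ∃ b ∈ F.autGroup W, img (afn b) R₁ = Rs ∧ ∃ G, Maps F (normalizerIn S W ⊓ normalizerIn S R₁) G ∧
      (∀ x ∈ W, G x = afn b x) ∧ ∀ x ∈ normalizerIn S W ⊓ normalizerIn S R₁, G x ∈ normalizerIn S W ⊓ normalizerIn S Rs := by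
  have hWS := hW.1
  haveI := finite_mulAut hWS
  have hRsW : Rs ≤ W := hβR ▸ img_afn_le hWS hβ hR₁W
  let Δ₁ : Subgroup (MulAut W) := autInducedBy S W ⊓ stab W R₁
  have hDp : IsPGroup p (autInducedBy S W) := isPGroup_autInducedBy hS
  have hΔ₁ : Δ₁ ≤ AA F W R₁ := fun δ hδ => ⟨autInducedBy_le_autGroup hWS hδ.1, hδ.2⟩
  let Δ : Subgroup (MulAut W) := Δ₁.map (MulAut.conj β).toMonoidHom
  have hΔp : IsPGroup p Δ := (hDp.to_le inf_le_left).map _
  have hΔA : Δ ≤ AA F W Rs := by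
    rw [← hβR, ← map_AA hWS hβ hR₁W]
    exact Subgroup.map_mono hΔ₁
  obtain ⟨a, ha, h1⟩ := sylow_conj hDp hs hΔp hΔA
  have hb : a * β ∈ F.autGroup W := Subgroup.mul_mem _ ha.1 hβ
  have himg : img (afn (a * β)) R₁ = Rs := by
    rw [img_afn_mul hWS hR₁W ha.1 hβ, hβR]
    exact img_afn_self hWS hRsW ha
  refine ⟨a * β, hb, himg, ?_⟩
  have hm := Maps_of_mem_autGroup hWS hb
  have hNf : normalizerIn S W ⊓ normalizerIn S R₁ ≤ Nf S W (afn (a * β)) := by
    intro g hg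
    apply mem_Nf_of_conj hg.1
    have hδ : conjN S W ⟨g, hg.1⟩ ∈ Δ₁ :=
      ⟨conjN_mem_autInduced _, conjN_mem_stab _ (mem_normalizerIn.1 hg.2).2⟩
    have h2 := h1 _ (Subgroup.mem_map_of_mem _ hδ)
    have e : a * β * conjN S W ⟨g, hg.1⟩ * (a * β)⁻¹ =
        a * (MulAut.conj β).toMonoidHom (conjN S W ⟨g, hg.1⟩) * a⁻¹ := by
      simp [mul_assoc]
    rw [e]
    exact h2
  obtain ⟨G₀, hG₀, hG₁⟩ := IsReceptive.ext hW hm (afn_img _)
  haveI : Finite W := finite_of_le hWS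
  haveI : Finite Rs := finite_of_le (hRsW.trans hWS)
  refine ⟨G₀, hG₀.restrict hNf, fun x hx => hG₁ x hx, fun x hx => ?_⟩
  have hxNf := hNf hx
  have hWNf : W ≤ Nf S W (afn (a * β)) := le_Nf hm
  have hxx := mem_normalizerIn.1 hx.1
  have hxr := mem_normalizerIn.1 hx.2
  have hGS : G₀ x ∈ S := hG₀.mem hxNf
  refine ⟨mem_normalizerIn.2 ⟨hGS, mem_normalizer_of_conj_mem fun y hy => ?_⟩,
    mem_normalizerIn.2 ⟨hGS, mem_normalizer_of_conj_mem fun y hy => ?_⟩⟩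
  · have hy' : afn (a * β)⁻¹ y ∈ W := afn_mem _ hy
    have hy2 : G₀ (afn (a * β)⁻¹ y) = y := by rw [hG₁ _ hy', afn_afn_inv _ hy]
    rw [← hy2, ← hG₀.map_conj hxNf (hWNf hy')]
    have h3 : x * afn (a * β)⁻¹ y * x⁻¹ ∈ W := (Subgroup.mem_normalizer_iff.1 hxx.2 _).1 hy'
    rw [hG₁ _ h3]
    exact afn_mem _ h3
  · have hm2 := hm.restrict hR₁W
    rw [← himg] at hy
    obtain ⟨r, hr, rfl⟩ := hm2.mem_img.1 hy
    rw [← hG₁ r (hR₁W hr), ← hG₀.map_conj hxNf (hWNf (hR₁W hr))]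
    have h3 : x * r * x⁻¹ ∈ R₁ := (Subgroup.mem_normalizer_iff.1 hxr.2 _).1 hr
    rw [hG₁ _ (hR₁W h3), ← himg]
    exact hm2.mem_img_of_mem h3

/-- `P ⊓ K` has index prime to `p` in `K`. -/
lemma exists_sylow_inf {D : Type*} [Group D] [Finite D] [Fact p.Prime] (A : Sylow p D) (K : Subgroup D) [K.Normal] :
    ∃ B : Sylow p K, (B : Subgroup K) = ((A : Subgroup D) ⊓ K).subgroupOf K := by
  obtain ⟨B₀⟩ : Nonempty (Sylow p K) := inferInstance
  have hB₀ : IsPGroup p ((B₀ : Subgroup K).map K.subtype) := B₀.isPGroup'.map _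
  obtain ⟨δ, hδ⟩ := Cfsg.Agent.Lib.FusionAlperin.sylow_conj_into A _ hB₀
  let B : Sylow p K := (MulAut.conjNormal δ : MulAut K) • B₀
  have hBA : ∀ b : K, b ∈ (B : Subgroup K) → (b : D) ∈ (A : Subgroup D) := by
    intro b hb
    have h1 : b ∈ (MulAut.conjNormal δ : MulAut K) • (B₀ : Subgroup K) := hb
    obtain ⟨c, hc, rfl⟩ := h1
    exact hδ _ (Subgroup.mem_map_of_mem _ hc)
  let AK : Subgroup K := ((A : Subgroup D) ⊓ K).subgroupOf K
  have hAK : IsPGroup p AK := by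
    have h1 : IsPGroup p (((A : Subgroup D) ⊓ K : Subgroup D)) := A.isPGroup'.to_le inf_le_left
    exact h1.comap_of_injective K.subtype Subtype.val_injective
  have hle : (B : Subgroup K) ≤ AK := by
    intro b hb
    exact Subgroup.mem_subgroupOf.mpr ⟨hBA b hb, b.2⟩
  exact ⟨B, (B.is_maximal' hAK hle).symm⟩

/-- Elements of `K` whose image under `r` lies in a `p`-group are matched by elements of `P ⊓ K`. -/
lemma exists_same_res {D X' : Type*} [Group D] [Group X'] [Finite D] [Fact p.Prime] (A : Sylow p D) (K : Subgroup D)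
    [K.Normal] (r : D →* X') (hr : IsPGroup p (K.map r)) {κ : D} (hκ : κ ∈ K) :
    ∃ d ∈ (A : Subgroup D) ⊓ K, r d = r κ := by
  obtain ⟨B, hB⟩ := exists_sylow_inf A K
  let r' : K →* X' := r.comp K.subtype
  let N : Subgroup K := r'.ker
  have hNn : N.Normal := MonoidHom.normal_ker _
  let H : Subgroup K := (B : Subgroup K) ⊔ N
  have h1 : H.index ∣ (B : Subgroup K).index := Subgroup.index_dvd_of_le le_sup_left
  have h2 : H.index ∣ N.index := Subgroup.index_dvd_of_le le_sup_right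
  have h3 : N.index = Nat.card r'.range := Subgroup.index_ker r'
  have hrange : r'.range = K.map r := by
    ext y
    constructor
    · rintro ⟨x, rfl⟩
      exact ⟨x, x.2, rfl⟩
    · rintro ⟨x, hx, rfl⟩
      exact ⟨⟨x, hx⟩, rfl⟩
  haveI : Finite (K.map r) := Finite.of_surjective (r.subgroupMap K) (r.subgroupMap_surjective K)
  obtain ⟨k, hk⟩ := IsPGroup.iff_card.1 hr
  rw [h3, hrange, hk] at h2
  obtain ⟨j, -, hj⟩ := (Nat.dvd_prime_pow (Fact.out : p.Prime)).1 h2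
  have hH1 : H.index = 1 := by
    rcases j with _ | j
    · simpa using hj
    · exfalso
      apply B.not_dvd_index
      refine dvd_trans ?_ h1
      rw [hj, pow_succ]
      exact dvd_mul_left _ _
  have hH : H = ⊤ := Subgroup.index_eq_one.1 hH1
  have hm : (⟨κ, hκ⟩ : K) ∈ H := by rw [hH]; trivial
  obtain ⟨b, hb, n, hn, hbn⟩ := Subgroup.mem_sup_of_normal_right.1 hm
  have hbA : (b : D) ∈ (A : Subgroup D) ⊓ K := by
    have := hb
    rw [hB] at this
    exact Subgroup.mem_subgroupOf.1 this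
  refine ⟨b, hbA, ?_⟩
  have hn' : r' n = 1 := hn
  have e : r κ = r' (b * n) := by rw [hbn]; rfl
  rw [e, map_mul, hn', mul_one]
  rfl

/-- The automorphism `σ` of `W` stabilizing `R`, as far as `R` is concerned, extends to `N_{tl R}(W)`. -/
theorem exists_sigma [Finite S] [Fact p.Prime] (hS : IsPGroup p S)
    (hW : F.IsReceptive W) (hs : IsStabSylow F p W R) (hRW : R ≤ W) {σ : MulAut W} (hσ : σ ∈ AA F W R) :
    ∃ G, Maps F (normalizerIn S W ⊓ tl F p R) G ∧ ∀ x ∈ R, G x = afn σ x := by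
  have hWS := hW.1
  haveI := finite_mulAut hWS
  let A : Subgroup (MulAut W) := AA F W R
  have hDp : IsPGroup p ((autInducedBy S W).subgroupOf A) := (isPGroup_autInducedBy hS).comap_subtype
  let Pl : Sylow p A := hDp.toSylow hs
  have hPl : ∀ a : A, a ∈ (Pl : Subgroup A) ↔ (a : MulAut W) ∈ autInducedBy S W := fun a =>
    Subgroup.mem_subgroupOf
  let res : A →* MulAut R := (resS hRW).comp (Subgroup.inclusion inf_le_right)
  have hres : ∀ (a : A) {x : Ω}, x ∈ R → afn (res a) x = afn (a : MulAut W) x := fun a x hx =>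
    afn_resS hRW _ hx
  have hresA : ∀ a : A, res a ∈ F.autGroup R := by
    intro a
    rw [mem_autGroup_iff (hRW.trans hWS)]
    exact ((Maps_of_mem_autGroup hWS a.2.1).restrict hRW).congr (fun x hx => (hres a hx).symm)
  let K' : Subgroup A := (KK F p R).comap res
  haveI hK'n : K'.Normal := by
    refine ⟨fun c hc a => ?_⟩
    show res (a * c * a⁻¹) ∈ KK F p R
    rw [map_mul, map_mul, map_inv]
    exact KK_conj (hresA a) hc
  obtain ⟨ν, κ, hκ, hβ, hν⟩ := Cfsg.Agent.Lib.FusionAlperin.frattini_inf Pl K' ⟨σ, hσ⟩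
  have hrp : IsPGroup p (K'.map res) := (isP_KK (hRW.trans hWS)).to_le (Subgroup.map_le_iff_le_comap.2 le_rfl)
  obtain ⟨d, hd, hdκ⟩ := exists_same_res Pl K' res hrp hκ
  have hσ₁ : ∀ x ∈ R, afn ((ν * d : A) : MulAut W) x = afn σ x := by
    intro x hx
    have e : res (ν * d) = res ⟨σ, hσ⟩ := by rw [hβ, map_mul, map_mul, hdκ]
    rw [← hres _ hx, e, hres _ hx]
  have hNf : normalizerIn S W ⊓ tl F p R ≤ Nf S W (afn ((ν * d : A) : MulAut W)) := by
    intro g hg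
    apply mem_Nf_of_conj hg.1
    have hgR := mem_normalizerIn.1 (tl_le_normalizerIn hg.2)
    let a : A := ⟨conjN S W ⟨g, hg.1⟩, autInducedBy_le_autGroup hWS (conjN_mem_autInduced _),
      conjN_mem_stab _ hgR.2⟩
    have ha : a ∈ (Pl : Subgroup A) ⊓ K' := by
      refine ⟨(hPl a).2 (conjN_mem_autInduced _), ?_⟩
      obtain ⟨-, α, hα, hαg⟩ := hg.2
      show res a ∈ KK F p R
      have e : res a = α := by
        apply afn_ext
        intro x hx
        rw [hres a hx, hαg x hx]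
        exact afn_conjN _ (hRW hx)
      rw [e]
      exact hα
    have h1 : d * a * d⁻¹ ∈ (Pl : Subgroup A) ⊓ K' := Subgroup.mul_mem _ (Subgroup.mul_mem _ hd ha) (Subgroup.inv_mem _ hd)
    have h2 := hν _ h1
    have h3 : (ν * d) * a * (ν * d)⁻¹ ∈ (Pl : Subgroup A) := by
      have e : (ν * d) * a * (ν * d)⁻¹ = ν * (d * a * d⁻¹) * ν⁻¹ := by group
      rw [e]
      exact h2.1
    exact (hPl _).1 h3
  have hm := Maps_of_mem_autGroup hWS (ν * d : A).2.1
  obtain ⟨G₀, hG₀, hG₁⟩ := IsReceptive.ext hW hm (afn_img _)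
  refine ⟨G₀, hG₀.restrict hNf, fun x hx => ?_⟩
  rw [hG₁ x (hRW hx), hσ₁ x hx]

end Cfsg.Agent.Lib.FusionSatCrit
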