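/-
FusionSatCrit3: the amalgam lemma.
-/
import Mathlib
import Cfsg.Agent.Lib.FusionSatCrit2

set_option autoImplicit false

namespace Cfsg.Agent.Lib.FusionSatCrit

open Cfsg Cfsg.FusionSystem Cfsg.Agent.Lib.FusionCore Cfsg.Agent.Lib.PCore

variable {Ω : Type*} [Group Ω] {S : Subgroup Ω} {F : FusionSystem S} {P Q R W X Y : Subgroup Ω} {f g : Ω → Ω}
variable {p : ℕ}

/-- Normalizers are transported. -/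
lemma normalizer_map [Finite S] (h : Maps F X f) (hRX : R ≤ X) {x : Ω} (hx : x ∈ X) (hxN : x ∈ normalizerIn S R) :
    f x ∈ normalizerIn S (img f R) := by
  have hR := h.restrict hRX
  haveI : Finite (img f R) := finite_of_le hR.img_le
  have hN' := (mem_normalizerIn.1 hxN).2
  refine mem_normalizerIn.2 ⟨h.mem hx, mem_normalizer_of_conj_mem fun y hy => ?_⟩
  obtain ⟨r, hr, rfl⟩ := hR.mem_img.1 hy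
  rw [← h.map_conj hx (hRX hr)]
  exact hR.mem_img_of_mem ((Subgroup.mem_normalizer_iff.1 hN' r).1 hr)

lemma mem_stab_of_img (hW : W ≤ S) (hRW : R ≤ W) {a : MulAut W} (ha : a ∈ F.autGroup W)
    (h : img (afn a) R = R) : a ∈ stab W R := by
  have hm := (Maps_of_mem_autGroup hW ha).restrict hRW
  intro x hx
  constructor
  · intro hxR
    rw [← h]
    exact hm.mem_img_of_mem hxR
  · intro hxR
    rw [← h] at hxR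
    obtain ⟨r, hr, hre⟩ := hm.mem_img.1 hxR
    have : r = x := (Maps_of_mem_autGroup hW ha).inj (hRW hr) hx hre
    rwa [← this]

/-- The amalgam data. -/
structure Am (F : FusionSystem S) (p : ℕ) (R₁ R₂ X₁ X₂ : Subgroup Ω) (ψ : Ω → Ω) (Rs W : Subgroup Ω)
    (ξ₁ ξ₂ σ : Ω → Ω) : Prop where
  m₁ : Maps F (normalizerIn S X₁ ⊓ normalizerIn S R₁) ξ₁
  m₂ : Maps F (normalizerIn S X₂ ⊓ normalizerIn S R₂) ξ₂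
  i₁ : img ξ₁ R₁ = Rs
  i₂ : img ξ₂ R₂ = Rs
  w₁ : img ξ₁ X₁ = W
  w₂ : img ξ₂ X₂ = W
  n₁ : ∀ x ∈ normalizerIn S X₁ ⊓ normalizerIn S R₁, ξ₁ x ∈ normalizerIn S W ⊓ normalizerIn S Rs
  n₂ : ∀ x ∈ normalizerIn S X₂ ⊓ normalizerIn S R₂, ξ₂ x ∈ normalizerIn S W ⊓ normalizerIn S Rs
  ms : Maps F (normalizerIn S W ⊓ tl F p Rs) σ
  is : img σ Rs = Rs
  e : ∀ x ∈ R₁, σ (ξ₁ x) = ξ₂ (ψ x)

theorem exists_am [Finite S] [Fact p.Prime] (hS : IsPGroup p S) {R₁ X₁ : Subgroup Ω} {ψ : Ω → Ω}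
    (hgood : ∃ W, F.IsConj X₁ W ∧ F.IsFullyAutomized p W ∧ F.IsReceptive W)
    (hψ : Maps F X₁ ψ) (hR₁X : R₁ ≤ X₁) (hXN : X₁ ≤ normalizerIn S R₁) :
    ∃ Rs W ξ₁ ξ₂ σ, Am F p R₁ (img ψ R₁) X₁ (img ψ X₁) ψ Rs W ξ₁ ξ₂ σ := by
  obtain ⟨W, hc, hA, hRc⟩ := hgood
  have hWS := hA.1
  haveI := finite_mulAut hWS
  have hX₁S := hψ.le
  have hR₂X₂ : img ψ R₁ ≤ img ψ X₁ := hψ.img_mono hR₁X
  have hX₂S : img ψ X₁ ≤ S := hψ.img_le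
  have hc₂ : F.IsConj (img ψ X₁) W :=
    IsConj_trans (IsConj_symm (Cfsg.Agent.Lib.FusionCore.isConj_iff.2 ⟨ψ, hψ, rfl⟩)) hc
  obtain ⟨ρ₁, hρ₁, hρ₁N, hρ₁X⟩ := exists_normalizer_map hS hA hRc hc
  obtain ⟨ρ₂, hρ₂, hρ₂N, hρ₂X⟩ := exists_normalizer_map hS hA hRc hc₂
  have hX₁N := le_normalizerIn hX₁S
  have hX₂N := le_normalizerIn hX₂S
  have hρ₁X' := hρ₁.restrict hX₁N
  have hρ₂X' := hρ₂.restrict hX₂N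
  obtain ⟨i₁, hi₁, hi₁1, hi₁2⟩ := hρ₁X'.inv
  rw [hρ₁X] at hi₁ hi₁2
  have hτ : Maps F W (ρ₂ ∘ ψ ∘ i₁) :=
    hi₁.comp (hψ.comp hρ₂X' (fun x hx => hψ.mem_img_of_mem hx)) (fun y hy => (hi₁2 y hy).1)
  have hτW : ∀ y ∈ W, (ρ₂ ∘ ψ ∘ i₁) y ∈ W := by
    intro y hy
    rw [← hρ₂X]
    exact hρ₂X'.mem_img_of_mem (hψ.mem_img_of_mem (hi₁2 y hy).1)
  have hτimg : img (ρ₂ ∘ ψ ∘ i₁) W = W := img_eq_of_card hτ hWS hWS hτW le_rfl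
  let β₀ : MulAut W := hτ.toAut hτimg
  have hβ₀ : β₀ ∈ F.autGroup W := hτ.toAut_mem hτimg
  have hβ₀e : ∀ x ∈ X₁, afn β₀ (ρ₁ x) = ρ₂ (ψ x) := by
    intro x hx
    have hy : ρ₁ x ∈ W := hρ₁X ▸ hρ₁X'.mem_img_of_mem hx
    rw [hτ.afn_toAut hτimg hy]
    show ρ₂ (ψ (i₁ (ρ₁ x))) = _
    rw [hi₁1 x hx]
  have hρ₁R := hρ₁X'.restrict hR₁X
  have hρ₂R := hρ₂X'.restrict hR₂X₂
  have hψR := hψ.restrict hR₁X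
  let R₃ := img ρ₁ R₁
  let R₄ := img ρ₂ (img ψ R₁)
  have hR₃W : R₃ ≤ W := by
    rw [← hρ₁X]
    exact hρ₁X'.img_mono hR₁X
  have hR₄W : R₄ ≤ W := by
    rw [← hρ₂X]
    exact hρ₂X'.img_mono hR₂X₂
  have hβR : img (afn β₀) R₃ = R₄ := by
    have hm := (Maps_of_mem_autGroup hWS hβ₀).restrict hR₃W
    ext y
    rw [hm.mem_img, hρ₂R.mem_img]
    constructor
    · rintro ⟨z, hz, rfl⟩
      obtain ⟨r, hr, rfl⟩ := hρ₁R.mem_img.1 hz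
      exact ⟨ψ r, hψR.mem_img_of_mem hr, (hβ₀e r (hR₁X hr)).symm⟩
    · rintro ⟨z, hz, rfl⟩
      obtain ⟨r, hr, rfl⟩ := hψR.mem_img.1 hz
      exact ⟨ρ₁ r, hρ₁R.mem_img_of_mem hr, hβ₀e r (hR₁X hr)⟩
  obtain ⟨γ, hγ, hs⟩ := exists_rep hA hR₃W
  obtain ⟨b₃, hb₃, himg₃, G₃, hG₃, hG₃W, hG₃n⟩ := exists_move hS hRc hs hR₃W hγ rfl
  have hR₄' : img (afn (γ * β₀⁻¹)) R₄ = img (afn γ) R₃ := by
    rw [img_afn_mul hWS hR₄W hγ (Subgroup.inv_mem _ hβ₀), ← hβR, img_afn_img hWS hβ₀ hR₃W]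
  obtain ⟨b₄, hb₄, himg₄, G₄, hG₄, hG₄W, hG₄n⟩ :=
    exists_move hS hRc hs hR₄W (Subgroup.mul_mem _ hγ (Subgroup.inv_mem _ hβ₀)) hR₄'
  have hRsW : img (afn γ) R₃ ≤ W := img_afn_le hWS hγ hR₃W
  let Rs := img (afn γ) R₃
  let σ₀ : MulAut W := b₄ * β₀ * b₃⁻¹
  have hσ₀ : σ₀ ∈ F.autGroup W :=
    Subgroup.mul_mem _ (Subgroup.mul_mem _ hb₄ hβ₀) (Subgroup.inv_mem _ hb₃)
  have hσ₀img : img (afn σ₀) Rs = Rs := by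
    have h1 : img (afn b₃⁻¹) Rs = R₃ := by
      have := img_afn_img hWS hb₃ hR₃W
      rwa [himg₃] at this
    show img (afn (b₄ * β₀ * b₃⁻¹)) Rs = Rs
    rw [img_afn_mul hWS hRsW (Subgroup.mul_mem _ hb₄ hβ₀) (Subgroup.inv_mem _ hb₃), h1,
      img_afn_mul hWS hR₃W hb₄ hβ₀, hβR]
    exact himg₄
  have hσ₀A : σ₀ ∈ AA F W Rs := ⟨hσ₀, mem_stab_of_img hWS hRsW hσ₀ hσ₀img⟩
  obtain ⟨G₅, hG₅, hG₅R⟩ := exists_sigma hS hRc hs hRsW hσ₀A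
  have hM₁ : ∀ x ∈ normalizerIn S X₁ ⊓ normalizerIn S R₁, ρ₁ x ∈ normalizerIn S W ⊓ normalizerIn S R₃ := by
    intro x hx
    exact ⟨hρ₁N x hx.1, normalizer_map hρ₁ (hR₁X.trans hX₁N) hx.1 hx.2⟩
  have hM₂ : ∀ x ∈ normalizerIn S (img ψ X₁) ⊓ normalizerIn S (img ψ R₁),
      ρ₂ x ∈ normalizerIn S W ⊓ normalizerIn S R₄ := by
    intro x hx
    exact ⟨hρ₂N x hx.1, normalizer_map hρ₂ (hR₂X₂.trans hX₂N) hx.1 hx.2⟩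
  have hξ₁ : Maps F (normalizerIn S X₁ ⊓ normalizerIn S R₁) (G₃ ∘ ρ₁) :=
    (hρ₁.restrict inf_le_left).comp hG₃ hM₁
  have hξ₂ : Maps F (normalizerIn S (img ψ X₁) ⊓ normalizerIn S (img ψ R₁)) (G₄ ∘ ρ₂) :=
    (hρ₂.restrict inf_le_left).comp hG₄ hM₂
  have hX₁M : X₁ ≤ normalizerIn S X₁ ⊓ normalizerIn S R₁ := le_inf hX₁N hXN
  have hX₂M : img ψ X₁ ≤ normalizerIn S (img ψ X₁) ⊓ normalizerIn S (img ψ R₁) := by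
    refine le_inf hX₂N ?_
    intro y hy
    obtain ⟨x, hx, rfl⟩ := hψ.mem_img.1 hy
    exact normalizer_map hψ hR₁X hx (hXN hx)
  have hξ₁W : ∀ x ∈ X₁, (G₃ ∘ ρ₁) x = afn b₃ (ρ₁ x) := fun x hx =>
    hG₃W _ (hρ₁X ▸ hρ₁X'.mem_img_of_mem hx)
  have hξ₂W : ∀ x ∈ img ψ X₁, (G₄ ∘ ρ₂) x = afn b₄ (ρ₂ x) := fun x hx =>
    hG₄W _ (hρ₂X ▸ hρ₂X'.mem_img_of_mem hx)
  have hi₁ : img (G₃ ∘ ρ₁) R₁ = Rs := by
    rw [img_congr (fun x hx => hξ₁W x (hR₁X hx))]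
    have hm3 := (Maps_of_mem_autGroup hWS hb₃).restrict hR₃W
    exact (img_comp hρ₁R hm3).trans himg₃
  have hi₂ : img (G₄ ∘ ρ₂) (img ψ R₁) = Rs := by
    rw [img_congr (fun x hx => hξ₂W x (hR₂X₂ hx))]
    have hm3 := (Maps_of_mem_autGroup hWS hb₄).restrict hR₄W
    exact (img_comp hρ₂R hm3).trans himg₄
  have hw₁ : img (G₃ ∘ ρ₁) X₁ = W := by
    rw [img_congr hξ₁W]
    have hm3 : Maps F (img ρ₁ X₁) (afn b₃) := by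
      rw [hρ₁X]
      exact Maps_of_mem_autGroup hWS hb₃
    have := img_comp hρ₁X' hm3
    rw [show (afn b₃ ∘ ρ₁) = fun x => afn b₃ (ρ₁ x) from rfl] at this
    rw [this, hρ₁X, afn_img]
  have hw₂ : img (G₄ ∘ ρ₂) (img ψ X₁) = W := by
    rw [img_congr hξ₂W]
    have hm3 : Maps F (img ρ₂ (img ψ X₁)) (afn b₄) := by
      rw [hρ₂X]
      exact Maps_of_mem_autGroup hWS hb₄
    have := img_comp hρ₂X' hm3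
    rw [show (afn b₄ ∘ ρ₂) = fun x => afn b₄ (ρ₂ x) from rfl] at this
    rw [this, hρ₂X, afn_img]
  have hn₁ : ∀ x ∈ normalizerIn S X₁ ⊓ normalizerIn S R₁, (G₃ ∘ ρ₁) x ∈ normalizerIn S W ⊓ normalizerIn S Rs :=
    fun x hx => hG₃n _ (hM₁ x hx)
  have hn₂ : ∀ x ∈ normalizerIn S (img ψ X₁) ⊓ normalizerIn S (img ψ R₁),
      (G₄ ∘ ρ₂) x ∈ normalizerIn S W ⊓ normalizerIn S Rs :=
    fun x hx => hG₄n _ (hM₂ x hx)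
  have hG₅img : img G₅ Rs = Rs := by
    rw [img_congr hG₅R]
    exact hσ₀img
  refine ⟨Rs, W, G₃ ∘ ρ₁, G₄ ∘ ρ₂, G₅, hξ₁, hξ₂, hi₁, hi₂, hw₁, hw₂, hn₁, hn₂, hG₅, hG₅img, fun x hx => ?_⟩
  have hr₃ : ρ₁ x ∈ R₃ := hρ₁R.mem_img_of_mem hx
  have hr₃W : ρ₁ x ∈ W := hR₃W hr₃
  have hxs : (G₃ ∘ ρ₁) x ∈ Rs := by
    rw [← hi₁]
    exact (hξ₁.restrict (hR₁X.trans hX₁M)).mem_img_of_mem hx
  show G₅ (G₃ (ρ₁ x)) = G₄ (ρ₂ (ψ x))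
  have hxs' : G₃ (ρ₁ x) ∈ Rs := hxs
  rw [hG₅R _ hxs', hG₃W _ hr₃W]
  show afn (b₄ * β₀ * b₃⁻¹) (afn b₃ (ρ₁ x)) = _
  have hψx : ρ₂ (ψ x) ∈ W := hρ₂X ▸ hρ₂X'.mem_img_of_mem (hψ.mem_img_of_mem (hR₁X hx))
  rw [afn_mul _ _ (afn_mem _ hr₃W), afn_inv_afn _ hr₃W, afn_mul _ _ hr₃W, hβ₀e x (hR₁X hx), hG₄W _ hψx]

end Cfsg.Agent.Lib.FusionSatCrit
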