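/-
FusionSatCrit4: cospans of maps on the `tl`-groups.
-/
import Mathlib
import Cfsg.Agent.Lib.FusionSatCrit3

set_option autoImplicit false

namespace Cfsg.Agent.Lib.FusionSatCrit

open Cfsg Cfsg.FusionSystem Cfsg.Agent.Lib.FusionCore Cfsg.Agent.Lib.PCore

variable {Ω : Type*} [Group Ω] {S : Subgroup Ω} {F : FusionSystem S} {P Q R W X Y : Subgroup Ω} {f g : Ω → Ω}
variable {p : ℕ}

/-- `g : R → R'` is the cospan of two maps on the `tl`-groups. -/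
def CG (F : FusionSystem S) (p : ℕ) (R R' : Subgroup Ω) (g : Ω → Ω) : Prop :=
  Maps F R g ∧ img g R = R' ∧ ∃ f₁ f₂, Maps F (tl F p R) f₁ ∧ Maps F (tl F p R') f₂ ∧ ∀ x ∈ R, f₁ x = f₂ (g x)

lemma CG.symm {R R' : Subgroup Ω} {g g' : Ω → Ω} (h : CG F p R R' g) (hg' : Maps F R' g')
    (h1 : ∀ x ∈ R, g' (g x) = x) : CG F p R' R g' := by
  obtain ⟨hg, hi, f₁, f₂, hf₁, hf₂, hrel⟩ := h
  have hmem : ∀ y ∈ R', ∃ x ∈ R, g x = y := fun y hy => hg.mem_img.1 (hi ▸ hy)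
  refine ⟨hg', ?_, f₂, f₁, hf₂, hf₁, fun y hy => ?_⟩
  · ext z
    rw [hg'.mem_img]
    constructor
    · rintro ⟨y, hy, rfl⟩
      obtain ⟨x, hx, rfl⟩ := hmem y hy
      rwa [h1 x hx]
    · intro hz
      exact ⟨g z, hi ▸ hg.mem_img_of_mem hz, h1 z hz⟩
  · obtain ⟨x, hx, rfl⟩ := hmem y hy
    rw [h1 x hx, hrel x hx]

lemma CG.congr {R R' : Subgroup Ω} {g g' : Ω → Ω} (h : CG F p R R' g) (he : ∀ x ∈ R, g x = g' x) :
    CG F p R R' g' := by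
  obtain ⟨hg, hi, f₁, f₂, hf₁, hf₂, hrel⟩ := h
  exact ⟨hg.congr he, by rw [← hi]; exact (img_congr he).symm, f₁, f₂, hf₁, hf₂,
    fun x hx => by rw [← he x hx]; exact hrel x hx⟩

lemma img_eq_of_rel {R : Subgroup Ω} {f₁ f₂ g : Ω → Ω} (hg : Maps F R g) (hf : Maps F (img g R) f₂)
    (rel : ∀ x ∈ R, f₁ x = f₂ (g x)) : img f₁ R = img f₂ (img g R) := by
  rw [img_congr rel]
  exact img_comp hg hf

section WithS

variable [Finite S] [Fact p.Prime]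

lemma CG.of_left (hS : IsPGroup p S) (h : Maps F (tl F p R) g) (hRS : R ≤ S) : CG F p R (img g R) g := by
  have hR := le_tl (F := F) hS hRS
  have hgR := h.restrict hR
  exact ⟨hgR, rfl, g, _root_.id, h, Maps.id tl_le_S, fun x _ => rfl⟩

lemma CG.of_right (hS : IsPGroup p S) {k : Ω → Ω} (hg : Maps F R g) (h : Maps F (tl F p (img g R)) k)
    (h1 : ∀ x ∈ R, k (g x) = x) : CG F p R (img g R) g :=
  ⟨hg, rfl, _root_.id, k, Maps.id tl_le_S, h, fun x hx => (h1 x hx).symm⟩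

/-- The inductive hypothesis on edges. -/
def EdgeHyp (F : FusionSystem S) (p n₀ m₀ : ℕ) : Prop :=
  ∀ (R X : Subgroup Ω) (ψ : Ω → Ω), Nat.card R = n₀ → R ≤ X → X ≤ normalizerIn S R → n₀ < Nat.card X →
    Maps F X ψ → m₀ < Nat.card (X ⊓ tl F p R : Subgroup Ω) → CG F p R (img ψ R) ψ

lemma comp_of_hyp (hS : IsPGroup p S) {n₀ m₀ : ℕ} (hE : EdgeHyp F p n₀ m₀) {R₁ R₂ R₃ : Subgroup Ω} {g₁ g₂ : Ω → Ω}
    (h₁ : CG F p R₁ R₂ g₁) (h₂ : CG F p R₂ R₃ g₂) (hc : Nat.card R₂ = n₀)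
    (hlt : m₀ < Nat.card (tl F p R₂)) (hn : n₀ < Nat.card (tl F p R₂)) : CG F p R₁ R₃ (g₂ ∘ g₁) := by
  obtain ⟨hg₁, hi₁, f₁, f₂, hf₁, hf₂, hr₁⟩ := h₁
  obtain ⟨hg₂, hi₂, f₃, f₄, hf₃, hf₄, hr₂⟩ := h₂
  have hR₁S := hg₁.le
  have hR₂S := hg₂.le
  have hR₃S : R₃ ≤ S := hi₂ ▸ hg₂.img_le
  have hR₁t := le_tl (F := F) hS hR₁S
  have hR₂t := le_tl (F := F) hS hR₂S
  have hR₃t := le_tl (F := F) hS hR₃S
  have hg₁₂ : ∀ x ∈ R₁, g₁ x ∈ R₂ := fun x hx => hi₁ ▸ hg₁.mem_img_of_mem hx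
  have hg₂₃ : ∀ x ∈ R₂, g₂ x ∈ R₃ := fun x hx => hi₂ ▸ hg₂.mem_img_of_mem hx
  have hgm : Maps F R₁ (g₂ ∘ g₁) := hg₁.comp hg₂ hg₁₂
  have hgi : img (g₂ ∘ g₁) R₁ = R₃ := by
    rw [img_comp hg₁ (hi₁ ▸ hg₂), hi₁, hi₂]
  let T₁ := img f₂ R₂
  let Yν := img f₂ (tl F p R₂)
  obtain ⟨i₂, hi₂m, hi₂1, hi₂2⟩ := hf₂.inv
  have hν : Maps F Yν (f₃ ∘ i₂) := hi₂m.comp hf₃ (fun y hy => (hi₂2 y hy).1)
  have hf₂R := hf₂.restrict hR₂t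
  have hf₃R := hf₃.restrict hR₂t
  have hT₁Y : T₁ ≤ Yν := hf₂.img_mono hR₂t
  have hYt : Yν ≤ tl F p T₁ := by
    intro y hy
    obtain ⟨x, hx, rfl⟩ := hf₂.mem_img.1 hy
    exact tl_map hf₂ hR₂t hx hx
  have hYN : Yν ≤ normalizerIn S T₁ := hYt.trans tl_le_normalizerIn
  have hcT : Nat.card T₁ = n₀ := by
    rw [← hc]
    exact hf₂R.card_img
  have hcY : Nat.card Yν = Nat.card (tl F p R₂) := hf₂.card_img
  have hcY2 : (Yν ⊓ tl F p T₁ : Subgroup Ω) = Yν := inf_eq_left.2 hYt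
  have hCG := hE T₁ Yν (f₃ ∘ i₂) hcT hT₁Y hYN (hcY ▸ hn) hν (by rw [hcY2, hcY]; exact hlt)
  obtain ⟨-, -, f₅, f₆, hf₅, hf₆, hr₃⟩ := hCG
  have himg₁ : img f₁ R₁ = T₁ := by
    have hm : Maps F (img g₁ R₁) f₂ := hi₁ ▸ hf₂R
    rw [img_eq_of_rel hg₁ hm hr₁, hi₁]
  have hrelν : ∀ y ∈ R₂, (f₃ ∘ i₂) (f₂ y) = f₃ y := by
    intro y hy
    show f₃ (i₂ (f₂ y)) = _
    rw [hi₂1 y (hR₂t hy)]
  have himg₃ : img (f₃ ∘ i₂) T₁ = img f₄ R₃ := by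
    have hm1 : Maps F T₁ (f₃ ∘ i₂) := hν.restrict hT₁Y
    have e1 : img f₃ R₂ = img (f₃ ∘ i₂) T₁ := img_eq_of_rel hf₂R hm1 (fun y hy => (hrelν y hy).symm)
    have hm : Maps F (img g₂ R₂) f₄ := hi₂ ▸ (hf₄.restrict hR₃t)
    have e2 := img_eq_of_rel hg₂ hm hr₂
    rw [hi₂] at e2
    rw [← e1, e2]
  have hstep₁ : ∀ x ∈ tl F p R₁, f₁ x ∈ tl F p T₁ := by
    intro x hx
    rw [← himg₁]
    exact tl_map hf₁ hR₁t hx hx
  have hstep₂ : ∀ x ∈ tl F p R₃, f₄ x ∈ tl F p (img (f₃ ∘ i₂) T₁) := by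
    intro x hx
    rw [himg₃]
    exact tl_map hf₄ hR₃t hx hx
  refine ⟨hgm, hgi, f₅ ∘ f₁, f₆ ∘ f₄, hf₁.comp hf₅ hstep₁, hf₄.comp hf₆ hstep₂, fun x hx => ?_⟩
  have h1 : f₁ x ∈ T₁ := himg₁ ▸ (hf₁.restrict hR₁t).mem_img_of_mem hx
  show f₅ (f₁ x) = f₆ (f₄ (g₂ (g₁ x)))
  rw [hr₃ _ h1, hr₁ x hx]
  show f₆ (f₃ (i₂ (f₂ (g₁ x)))) = _
  rw [hi₂1 _ (hR₂t (hg₁₂ x hx)), hr₂ _ (hg₁₂ x hx)]

/-- The main induction: every map on a subgroup normalizing `R` gives a cospan. -/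
theorem edge_main (hS : IsPGroup p S) {n₀ : ℕ}
    (hgood : ∀ X : Subgroup Ω, X ≤ S → n₀ < Nat.card X → ∃ W, F.IsConj X W ∧ F.IsFullyAutomized p W ∧ F.IsReceptive W) :
    ∀ (m : ℕ) (R X : Subgroup Ω) (ψ : Ω → Ω), Nat.card S - Nat.card (X ⊓ tl F p R : Subgroup Ω) = m →
      Nat.card R = n₀ → R ≤ X → X ≤ normalizerIn S R → n₀ < Nat.card X →
      Maps F X ψ → CG F p R (img ψ R) ψ := by
  intro m
  induction' m using Nat.strong_induction_on with m ih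
  intro R X ψ hm hcR hRX hXN hcX hψ
  have hXS := hψ.le
  have hRS := hRX.trans hXS
  have hE : EdgeHyp F p n₀ (Nat.card (X ⊓ tl F p R : Subgroup Ω)) := by
    intro R' X' ψ' h1 h2 h3 h4 h5 h6
    have hle : Nat.card (X' ⊓ tl F p R' : Subgroup Ω) ≤ Nat.card S :=
      Subgroup.card_le_of_le (inf_le_left.trans h5.le)
    exact ih _ (by omega) R' X' ψ' rfl h1 h2 h3 h4 h5
  by_cases hcase1 : tl F p R ≤ X
  · exact (CG.of_left hS (hψ.restrict hcase1) hRS).congr (fun _ _ => rfl)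
  have hX₂S : img ψ X ≤ S := hψ.img_le
  have hR₂X₂ : img ψ R ≤ img ψ X := hψ.img_mono hRX
  have hR₂S : img ψ R ≤ S := hR₂X₂.trans hX₂S
  have hψR := hψ.restrict hRX
  have hX₂N : img ψ X ≤ normalizerIn S (img ψ R) := by
    intro y hy
    obtain ⟨x, hx, rfl⟩ := hψ.mem_img.1 hy
    exact normalizer_map hψ hRX hx (hXN hx)
  obtain ⟨k, hk, hk1, hk2⟩ := hψ.inv
  by_cases hcase2 : tl F p (img ψ R) ≤ img ψ X
  · exact CG.of_right hS hψR (hk.restrict hcase2) (fun x hx => hk1 x (hRX hx))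
  obtain ⟨c₁, hc₁, hc₁X⟩ := exists_c (F := F) hS hRS hXN hcase1
  obtain ⟨c₂, hc₂, hc₂X⟩ := exists_c (F := F) hS hR₂S hX₂N hcase2
  obtain ⟨Rs, W, ξ₁, ξ₂, σ, am⟩ := exists_am hS (hgood X hXS hcX) hψ hRX hXN
  have hXNX := le_normalizerIn hXS
  have hX₂NX := le_normalizerIn hX₂S
  have hRt := le_tl (F := F) hS hRS
  have hR₂t := le_tl (F := F) hS hR₂S
  set m₀ := Nat.card (X ⊓ tl F p R : Subgroup Ω) with hm₀
  -- the domains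
  let Y₁ : Subgroup Ω := (normalizerIn S X ⊓ normalizerIn S R) ⊓ tl F p R
  let Y₂ : Subgroup Ω := (normalizerIn S (img ψ X) ⊓ normalizerIn S (img ψ R)) ⊓ tl F p (img ψ R)
  let U : Subgroup Ω := normalizerIn S W ⊓ tl F p Rs
  haveI hfY₁ : Finite Y₁ := finite_of_le (inf_le_right.trans tl_le_S)
  haveI hfY₂ : Finite Y₂ := finite_of_le (inf_le_right.trans tl_le_S)
  haveI hfU : Finite U := finite_of_le (inf_le_right.trans tl_le_S)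
  have hY₁c : c₁ ∈ Y₁ := ⟨⟨hc₁.1, tl_le_normalizerIn hc₁.2⟩, hc₁.2⟩
  have hY₂c : c₂ ∈ Y₂ := ⟨⟨hc₂.1, tl_le_normalizerIn hc₂.2⟩, hc₂.2⟩
  have hlt₁ : (X ⊓ tl F p R : Subgroup Ω) < Y₁ := by
    refine lt_of_le_of_ne (fun x hx => ⟨⟨hXNX hx.1, hXN hx.1⟩, hx.2⟩) (fun h => hc₁X ?_)
    have : c₁ ∈ (X ⊓ tl F p R : Subgroup Ω) := h ▸ hY₁c
    exact this.1
  have hlt₂ : (img ψ X ⊓ tl F p (img ψ R) : Subgroup Ω) < Y₂ := by
    refine lt_of_le_of_ne (fun x hx => ⟨⟨hX₂NX hx.1, hX₂N hx.1⟩, hx.2⟩) (fun h => hc₂X ?_)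
    have : c₂ ∈ (img ψ X ⊓ tl F p (img ψ R) : Subgroup Ω) := h ▸ hY₂c
    exact this.1
  have hcard₁ : m₀ < Nat.card Y₁ := Cfsg.Agent.Lib.FusionAlperin.card_lt_of_lt hlt₁
  have hcard₂ : m₀ < Nat.card Y₂ := by
    have h1 : m₀ ≤ Nat.card (img ψ X ⊓ tl F p (img ψ R) : Subgroup Ω) := by
      refine card_le_of_maps hψ inf_le_left (inf_le_left.trans hX₂S) (fun x hx => ?_)
      exact ⟨hψ.mem_img_of_mem hx.1, tl_map hψ hRX hx.1 hx.2⟩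
    exact lt_of_le_of_lt h1 (Cfsg.Agent.Lib.FusionAlperin.card_lt_of_lt hlt₂)
  have hn₀m₀ : n₀ ≤ m₀ := by
    rw [← hcR]
    haveI : Finite (X ⊓ tl F p R : Subgroup Ω) := finite_of_le (inf_le_left.trans hXS)
    exact Subgroup.card_le_of_le (le_inf hRX hRt)
  have hRY₁ : R ≤ Y₁ := le_inf (le_inf (hRX.trans hXNX) (hRX.trans hXN)) hRt
  have hR₂Y₂ : img ψ R ≤ Y₂ := le_inf (le_inf (hR₂X₂.trans hX₂NX) (hR₂X₂.trans hX₂N)) hR₂t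
  have hY₁N : Y₁ ≤ normalizerIn S R := inf_le_right.trans tl_le_normalizerIn
  have hY₂N : Y₂ ≤ normalizerIn S (img ψ R) := inf_le_right.trans tl_le_normalizerIn
  have hinf₁ : (Y₁ ⊓ tl F p R : Subgroup Ω) = Y₁ := inf_eq_left.2 inf_le_right
  have hinf₂ : (Y₂ ⊓ tl F p (img ψ R) : Subgroup Ω) = Y₂ := inf_eq_left.2 inf_le_right
  have hξ₁Y : Maps F Y₁ ξ₁ := am.m₁.restrict inf_le_left
  have hξ₂Y : Maps F Y₂ ξ₂ := am.m₂.restrict inf_le_left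
  have hRM₁ : R ≤ normalizerIn S X ⊓ normalizerIn S R := le_inf (hRX.trans hXNX) (hRX.trans hXN)
  have hR₂M₂ : img ψ R ≤ normalizerIn S (img ψ X) ⊓ normalizerIn S (img ψ R) :=
    le_inf (hR₂X₂.trans hX₂NX) (hR₂X₂.trans hX₂N)
  have hCG₁ : CG F p R Rs ξ₁ := by
    have := hE R Y₁ ξ₁ hcR hRY₁ hY₁N (by omega) hξ₁Y (by rw [hinf₁]; exact hcard₁)
    rwa [am.i₁] at this
  have hcR₂ : Nat.card (img ψ R) = n₀ := by rw [← hcR]; exact hψR.card_img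
  have hCG₂ : CG F p (img ψ R) Rs ξ₂ := by
    have := hE _ Y₂ ξ₂ hcR₂ hR₂Y₂ hY₂N (by omega) hξ₂Y (by rw [hinf₂]; exact hcard₂)
    rwa [am.i₂] at this
  -- the target
  have hXW : ∀ x ∈ R, ξ₁ x ∈ Rs := fun x hx => am.i₁ ▸ (am.m₁.restrict hRM₁).mem_img_of_mem hx
  have hcRs : Nat.card Rs = n₀ := by
    rw [← am.i₁, ← hcR]
    exact (am.m₁.restrict hRM₁).card_img
  have hRsS : Rs ≤ S := am.i₁ ▸ (am.m₁.restrict hRM₁).img_le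
  have hRsW : Rs ≤ W := by
    rw [← am.i₁, ← am.w₁]
    exact (am.m₁.restrict (le_inf hXNX hXN)).img_mono hRX
  have hWS : W ≤ S := am.w₁ ▸ (am.m₁.restrict (le_inf hXNX hXN)).img_le
  have hRsU : Rs ≤ U := le_inf (hRsW.trans (le_normalizerIn hWS)) (le_tl hS hRsS)
  have hY₁U : ∀ x ∈ Y₁, ξ₁ x ∈ U := by
    intro x hx
    refine ⟨(am.n₁ x hx.1).1, ?_⟩
    rw [← am.i₁]
    exact tl_map am.m₁ hRM₁ hx.1 hx.2
  have hcardU : Nat.card Y₁ ≤ Nat.card U :=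
    card_le_of_maps am.m₁ inf_le_left (inf_le_right.trans tl_le_S) hY₁U
  have hUinf : (U ⊓ tl F p Rs : Subgroup Ω) = U := inf_eq_left.2 inf_le_right
  have hCG₃ : CG F p Rs Rs σ := by
    have := hE Rs U σ hcRs hRsU (inf_le_right.trans tl_le_normalizerIn) (by omega) am.ms
      (by rw [hUinf]; omega)
    rwa [am.is] at this
  have hcardt : m₀ < Nat.card (tl F p Rs) := by
    haveI : Finite (tl F p Rs) := finite_of_le tl_le_S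
    have : Nat.card U ≤ Nat.card (tl F p Rs) := Subgroup.card_le_of_le inf_le_right
    omega
  have hCG₄ := comp_of_hyp hS hE hCG₁ hCG₃ hcRs hcardt (by omega)
  obtain ⟨i, hi, hi1, hi2⟩ := (am.m₂.restrict hR₂M₂).inv
  rw [am.i₂] at hi hi2
  have hCG₅ : CG F p Rs (img ψ R) i := hCG₂.symm hi hi1
  refine (comp_of_hyp hS hE hCG₄ hCG₅ hcRs hcardt (by omega)).congr (fun x hx => ?_)
  show i (σ (ξ₁ x)) = ψ x
  rw [am.e x hx, hi1 _ (hψR.mem_img_of_mem hx)]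

/-- Edges give cospans. -/
theorem edge (hS : IsPGroup p S) {n₀ : ℕ}
    (hgood : ∀ X : Subgroup Ω, X ≤ S → n₀ < Nat.card X → ∃ W, F.IsConj X W ∧ F.IsFullyAutomized p W ∧ F.IsReceptive W)
    {R X : Subgroup Ω} {ψ : Ω → Ω} (hcR : Nat.card R = n₀) (hRX : R ≤ X) (hXN : X ≤ normalizerIn S R)
    (hcX : n₀ < Nat.card X) (hψ : Maps F X ψ) : CG F p R (img ψ R) ψ :=
  edge_main hS hgood _ R X ψ rfl hcR hRX hXN hcX hψ

/-- Composition of cospans at a subgroup with `R < tl R`. -/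
theorem CG.trans (hS : IsPGroup p S) {n₀ : ℕ}
    (hgood : ∀ X : Subgroup Ω, X ≤ S → n₀ < Nat.card X → ∃ W, F.IsConj X W ∧ F.IsFullyAutomized p W ∧ F.IsReceptive W)
    {R₁ R₂ R₃ : Subgroup Ω} {g₁ g₂ : Ω → Ω}
    (h₁ : CG F p R₁ R₂ g₁) (h₂ : CG F p R₂ R₃ g₂) (hc : Nat.card R₂ = n₀)
    (hn : n₀ < Nat.card (tl F p R₂)) : CG F p R₁ R₃ (g₂ ∘ g₁) :=
  comp_of_hyp (m₀ := n₀) hS (fun _ _ _ h1 h2 h3 h4 h5 _ => edge hS hgood h1 h2 h3 h4 h5) h₁ h₂ hc hn hn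

end WithS

end Cfsg.Agent.Lib.FusionSatCrit
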