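/-
FusionSatCrit5: propagation along morphisms; all morphisms between members with `R < tl R` are cospans.
-/
import Mathlib
import Cfsg.Agent.Lib.FusionSatCrit4
import Cfsg.Agent.Lib.FusionIndexPrime

set_option autoImplicit false

namespace Cfsg.Agent.Lib.FusionSatCrit

open Cfsg Cfsg.FusionSystem Cfsg.Agent.Lib.FusionCore Cfsg.Agent.Lib.PCore
open Cfsg.Agent.Lib.FusionIndexPrime

variable {Ω : Type*} [Group Ω] {S : Subgroup Ω} {F : FusionSystem S} {P Q R W X Y : Subgroup Ω} {f g : Ω → Ω}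
variable {p : ℕ}

/-- `R < tl R`. -/
def Pone (F : FusionSystem S) (p : ℕ) (R : Subgroup Ω) : Prop := ∃ x ∈ tl F p R, x ∉ R

/-- `R` can be moved, together with its normalizer, to a subgroup with `R < tl R`. -/
def Ext (F : FusionSystem S) (p : ℕ) (R : Subgroup Ω) : Prop :=
  ∃ ξ, Maps F (normalizerIn S R) ξ ∧ Pone F p (img ξ R)

/-- A generic induction over the morphisms of `F`. -/
theorem gen_induct [Finite S] {C : Subgroup Ω → Prop} {ℋ : Set (Subgroup Ω)}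
    (hgen : ∀ E : FusionSystem S, (∀ P ∈ ℋ, F.Hom P ⊆ E.Hom P) → F ≤ E)
    (hC : ∀ {R R' f}, C R → R ≤ S → Maps F R f → img f R = R' → C R')
    (hCℋ : ∀ R, C R → R ∉ ℋ) (hCS : ∀ R, C R → R ≠ S)
    {Φ : Subgroup Ω → Subgroup Ω → (Ω → Ω) → Prop}
    (hcongr : ∀ {R R' g g'}, Φ R R' g → (∀ x ∈ R, g x = g' x) → Φ R R' g')
    (hcomp : ∀ {R₁ R₂ R₃ g₁ g₂}, C R₁ → C R₂ → C R₃ → Φ R₁ R₂ g₁ → Φ R₂ R₃ g₂ → Φ R₁ R₃ (g₂ ∘ g₁))
    (hinv : ∀ {R R' g g'}, C R → C R' → Φ R R' g → Maps F R' g' → (∀ x ∈ R, g' (g x) = x) → Φ R' R g')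
    (hedge : ∀ {R X ψ}, C R → R ≤ X → R ≠ X → Maps F X ψ → Φ R (img ψ R) ψ)
    {Q : Subgroup Ω} (hf : Maps F Q f) {R : Subgroup Ω} (hRQ : R ≤ Q) (hR : C R) : Φ R (img f R) f := by
  let M : Subgroup Ω → (Ω → Ω) → Prop := fun Q f => Maps F Q f ∧ ∀ R, R ≤ Q → C R → Φ R (img f R) f
  have hle : ∀ {P f}, M P f → Maps F P f := fun h => h.1
  have hcongr' : ∀ {P f g}, M P f → (∀ x ∈ P, f x = g x) → M P g := by
    intro P f g h he
    refine ⟨h.1.congr he, fun R hR hCR => ?_⟩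
    have e : img f R = img g R := img_congr (fun x hx => he x (hR hx))
    rw [← e]
    exact hcongr (h.2 R hR hCR) (fun x hx => he x (hR hx))
  have hconj : ∀ {P g}, P ≤ S → g ∈ S → M P (fun x => g * x * g⁻¹) := by
    intro P g hP hg
    refine ⟨Maps.conj hP hg, fun R hR hCR => ?_⟩
    exact hedge hCR (hR.trans hP) (hCS R hCR) (Maps.conj le_rfl hg)
  have hcomp' : ∀ {P Q f g}, M P f → M Q g → (∀ x ∈ P, f x ∈ Q) → M P (g ∘ f) := by
    intro P Q f g h1 h2 h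
    refine ⟨h1.1.comp h2.1 h, fun R hR hCR => ?_⟩
    have hfR := h1.1.restrict hR
    have hle2 : img f R ≤ Q := by
      intro y hy
      obtain ⟨x, hx, rfl⟩ := hfR.mem_img.1 hy
      exact h x (hR hx)
    have hCi : C (img f R) := hC hCR (hR.trans h1.1.le) hfR rfl
    have h3 := h1.2 R hR hCR
    have h4 := h2.2 _ hle2 hCi
    have hgi := h2.1.restrict hle2
    rw [img_comp hfR hgi]
    have hCj : C (img g (img f R)) := hC hCi hfR.img_le hgi rfl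
    exact hcomp hCR hCi hCj h3 h4
  have hinv' : ∀ {P f}, M P f → ∃ g, M (img f P) g ∧ ∀ x ∈ P, g (f x) = x := by
    intro P f h
    obtain ⟨g, hg, h1, h2⟩ := h.1.inv
    refine ⟨g, ⟨hg, fun R' hR' hCR' => ?_⟩, h1⟩
    have hgR := hg.restrict hR'
    let R₀ := img g R'
    have hR₀P : R₀ ≤ P := by
      intro y hy
      obtain ⟨x, hx, rfl⟩ := hgR.mem_img.1 hy
      exact (h2 x (hR' hx)).1
    have hfR := h.1.restrict hR₀P
    have hCR₀ : C R₀ := hC hCR' (hR'.trans hg.le) hgR rfl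
    have hfi : img f R₀ = R' := by
      ext y
      rw [hfR.mem_img]
      constructor
      · rintro ⟨z, hz, rfl⟩
        obtain ⟨x, hx, rfl⟩ := hgR.mem_img.1 hz
        rwa [(h2 x (hR' hx)).2]
      · intro hy
        exact ⟨g y, hgR.mem_img_of_mem hy, (h2 y (hR' hy)).2⟩
    have h3 := h.2 R₀ hR₀P hCR₀
    rw [hfi] at h3
    exact hinv hCR₀ hCR' h3 hgR (fun x hx => h1 x (hR₀P hx))
  let E : FusionSystem S := ofMaps F M hle hcongr' hconj hcomp' hinv'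
  have hFE : F ≤ E := by
    refine hgen E (fun P hP φ hφ => ?_)
    have hm : Maps F P (fn φ) := Maps.of_mem hφ
    refine hcongr' (P := P) (f := fn φ) (g := fn φ) ⟨hm, fun R hR hCR => ?_⟩ (fun _ _ => rfl)
    exact hedge hCR hR (fun h => hCℋ R hCR (h ▸ hP)) hm
  have := maps_ofMaps.1 (le_maps hFE hf : Maps E Q f)
  exact this.2 R hRQ hR

section WithS

variable [Finite S] [Fact p.Prime]

lemma exists_x (hS : IsPGroup p S) {R₁ X' : Subgroup Ω} (hP : Pone F p R₁) (hRX : R₁ ≤ X')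
    (hXN : X' ≤ normalizerIn S R₁) :
    ∃ x ∈ normalizerIn S X' ⊓ normalizerIn S R₁, x ∈ tl F p R₁ ∧ x ∉ R₁ := by
  have hXS := hXN.trans inf_le_left
  have hRS := hRX.trans hXS
  by_cases h : tl F p R₁ ≤ X'
  · obtain ⟨x, hx, hxR⟩ := hP
    exact ⟨x, ⟨le_normalizerIn hXS (h hx), hXN (h hx)⟩, hx, hxR⟩
  · obtain ⟨c, hc, hcX⟩ := exists_c (F := F) hS hRS hXN h
    exact ⟨c, ⟨hc.1, tl_le_normalizerIn hc.2⟩, hc.2, fun h2 => hcX (hRX h2)⟩

variable {n₀ : ℕ}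

lemma up_step (hS : IsPGroup p S)
    (hgood : ∀ X : Subgroup Ω, X ≤ S → n₀ < Nat.card X → ∃ W, F.IsConj X W ∧ F.IsFullyAutomized p W ∧ F.IsReceptive W)
    {ξ : Ω → Ω} (hRX : R ≤ X) (hXN : X ≤ normalizerIn S R) (hcX : n₀ < Nat.card X) (hξ : Maps F X ξ)
    (hP : Pone F p (img ξ R)) : ∃ ξp, Maps F (normalizerIn S X ⊓ normalizerIn S R) ξp ∧ Pone F p (img ξp R) := by
  have hXS := hξ.le
  obtain ⟨Rs, W, ξ₁, ξ₂, σ, am⟩ := exists_am hS (hgood X hXS hcX) hξ hRX hXN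
  refine ⟨ξ₁, am.m₁, ?_⟩
  rw [am.i₁]
  have hX₂N : img ξ X ≤ normalizerIn S (img ξ R) := by
    intro y hy
    obtain ⟨x, hx, rfl⟩ := hξ.mem_img.1 hy
    exact normalizer_map hξ hRX hx (hXN hx)
  have hR₂X₂ : img ξ R ≤ img ξ X := hξ.img_mono hRX
  obtain ⟨x, hx, hxt, hxR⟩ := exists_x hS hP hR₂X₂ hX₂N
  have hX₂S : img ξ X ≤ S := hξ.img_le
  have hR₂M : img ξ R ≤ normalizerIn S (img ξ X) ⊓ normalizerIn S (img ξ R) :=
    le_inf (hR₂X₂.trans (le_normalizerIn hX₂S)) (hR₂X₂.trans hX₂N)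
  refine ⟨ξ₂ x, ?_, fun hmem => hxR ?_⟩
  · rw [← am.i₂]
    exact tl_map am.m₂ hR₂M hx hxt
  · rw [← am.i₂] at hmem
    obtain ⟨r, hr, hre⟩ := (am.m₂.restrict hR₂M).mem_img.1 hmem
    rwa [← am.m₂.inj (hR₂M hr) hx hre]

lemma up (hS : IsPGroup p S)
    (hgood : ∀ X : Subgroup Ω, X ≤ S → n₀ < Nat.card X → ∃ W, F.IsConj X W ∧ F.IsFullyAutomized p W ∧ F.IsReceptive W) :
    ∀ (k : ℕ) (X : Subgroup Ω) (ξ : Ω → Ω), Nat.card (normalizerIn S R) - Nat.card X = k →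
      R ≤ X → X ≤ normalizerIn S R → n₀ < Nat.card X → Maps F X ξ → Pone F p (img ξ R) → Ext F p R := by
  intro k
  induction' k using Nat.strong_induction_on with k ih
  intro X ξ hk hRX hXN hcX hξ hP
  by_cases he : X = normalizerIn S R
  · subst he
    exact ⟨ξ, hξ, hP⟩
  have hNS : normalizerIn S R ≤ S := inf_le_left
  have hlt : X < normalizerIn S R := lt_of_le_of_ne hXN he
  haveI hfN : Finite (normalizerIn S R) := finite_of_le hNS
  have hNp : IsPGroup p (normalizerIn S R) := hS.to_le hNS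
  have hlt2 := Cfsg.Agent.Lib.FusionAlperin.lt_normalizerIn hNp hlt
  have hXple : normalizerIn (normalizerIn S R) X ≤ normalizerIn S X ⊓ normalizerIn S R := by
    intro x hx
    have h1 := mem_normalizerIn.1 hx
    exact ⟨mem_normalizerIn.2 ⟨hNS h1.1, h1.2⟩, h1.1⟩
  have hXlt : X < normalizerIn S X ⊓ normalizerIn S R := lt_of_lt_of_le hlt2 hXple
  obtain ⟨ξp, hξp, hPp⟩ := up_step hS hgood hRX hXN hcX hξ hP
  haveI hfM : Finite (normalizerIn S X ⊓ normalizerIn S R : Subgroup Ω) := finite_of_le (inf_le_right.trans hNS)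
  have hc1 : Nat.card X < Nat.card (normalizerIn S X ⊓ normalizerIn S R : Subgroup Ω) :=
    Cfsg.Agent.Lib.FusionAlperin.card_lt_of_lt hXlt
  have hc2 : Nat.card (normalizerIn S X ⊓ normalizerIn S R : Subgroup Ω) ≤ Nat.card (normalizerIn S R) :=
    Subgroup.card_le_of_le inf_le_right
  exact ih _ (by omega) _ ξp rfl (hRX.trans hXlt.le) inf_le_right (by omega) hξp hPp

/-- The part of a proper overgroup normalizing `R`. -/
lemma exists_X₀ (hS : IsPGroup p S) {ψ : Ω → Ω} (hψ : Maps F X ψ) (hRX : R ≤ X) (hne : R ≠ X) :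
    R < X ⊓ normalizerIn S R := by
  have hXS := hψ.le
  haveI := finite_of_le hXS
  have hlt : R < X := lt_of_le_of_ne hRX hne
  have hlt2 := Cfsg.Agent.Lib.FusionAlperin.lt_normalizerIn (hS.to_le hXS) hlt
  refine lt_of_lt_of_le hlt2 ?_
  intro x hx
  have h1 := mem_normalizerIn.1 hx
  exact ⟨h1.1, mem_normalizerIn.2 ⟨hXS h1.1, h1.2⟩⟩

lemma ext_of_map (hS : IsPGroup p S)
    (hgood : ∀ X : Subgroup Ω, X ≤ S → n₀ < Nat.card X → ∃ W, F.IsConj X W ∧ F.IsFullyAutomized p W ∧ F.IsReceptive W)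
    {ψ : Ω → Ω} (hcR : Nat.card R = n₀) (hψ : Maps F X ψ) (hRX : R ≤ X) (hne : R ≠ X)
    (h : Ext F p (img ψ R)) : Ext F p R := by
  obtain ⟨ξ', hξ', hP⟩ := h
  have hXS := hψ.le
  have hlt := exists_X₀ hS hψ hRX hne
  have hX₀X : X ⊓ normalizerIn S R ≤ X := inf_le_left
  have hψ₀ := hψ.restrict hX₀X
  haveI : Finite (X ⊓ normalizerIn S R : Subgroup Ω) := finite_of_le (hX₀X.trans hXS)
  have hm : Maps F (X ⊓ normalizerIn S R) (ξ' ∘ ψ) :=
    hψ₀.comp hξ' (fun x hx => normalizer_map hψ hRX hx.1 hx.2)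
  have hP' : Pone F p (img (ξ' ∘ ψ) R) := by
    have hRS := hRX.trans hXS
    have hψR := hψ.restrict hRX
    have hi := le_normalizerIn (hψR.img_le)
    rw [img_comp hψR (hξ'.restrict hi)]
    exact hP
  refine up hS hgood _ _ _ rfl hlt.le inf_le_right ?_ hm hP'
  rw [← hcR]
  exact Cfsg.Agent.Lib.FusionAlperin.card_lt_of_lt hlt

end WithS

end Cfsg.Agent.Lib.FusionSatCrit
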