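/-
FusionSatCrit6: all morphisms between members with `R < tl R` are cospans.
-/
import Mathlib
import Cfsg.Agent.Lib.FusionSatCrit5

set_option autoImplicit false

namespace Cfsg.Agent.Lib.FusionSatCrit

open Cfsg Cfsg.FusionSystem Cfsg.Agent.Lib.FusionCore Cfsg.Agent.Lib.PCore
open Cfsg.Agent.Lib.FusionIndexPrime

variable {Ω : Type*} [Group Ω] {S : Subgroup Ω} {F : FusionSystem S} {P Q R W X Y : Subgroup Ω} {f g : Ω → Ω}
variable {p : ℕ}

lemma img_id' (R : Subgroup Ω) : img _root_.id R = R := by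
  simp [img]

lemma img_of_inv {R R' : Subgroup Ω} {g g' : Ω → Ω} (hg : Maps F R g) (hi : img g R = R') (hg' : Maps F R' g')
    (h1 : ∀ x ∈ R, g' (g x) = x) : img g' R' = R := by
  have hmem : ∀ y ∈ R', ∃ x ∈ R, g x = y := fun y hy => hg.mem_img.1 (hi ▸ hy)
  ext z
  rw [hg'.mem_img]
  constructor
  · rintro ⟨y, hy, rfl⟩
    obtain ⟨x, hx, rfl⟩ := hmem y hy
    rwa [h1 x hx]
  · intro hz
    exact ⟨g z, hi ▸ hg.mem_img_of_mem hz, h1 z hz⟩

section WithS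

variable [Finite S] [Fact p.Prime] {n₀ : ℕ}

/-- Hypotheses on the class of `P₀`. -/
structure Setup (F : FusionSystem S) (p n₀ : ℕ) (P₀ : Subgroup Ω) (ℋ : Set (Subgroup Ω)) : Prop where
  hS : IsPGroup p S
  hgood : ∀ X : Subgroup Ω, X ≤ S → n₀ < Nat.card X → ∃ W, F.IsConj X W ∧ F.IsFullyAutomized p W ∧ F.IsReceptive W
  hgen : ∀ E : FusionSystem S, (∀ P ∈ ℋ, F.Hom P ⊆ E.Hom P) → F ≤ E
  hℋ : ∀ R, F.IsConj P₀ R → R ∉ ℋ
  hc : Nat.card P₀ = n₀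
  hP₀ : P₀ ≤ S
  hone : ∃ R₀, F.IsConj P₀ R₀ ∧ Pone F p R₀

variable {P₀ : Subgroup Ω} {ℋ : Set (Subgroup Ω)}

lemma Setup.card (h : Setup F p n₀ P₀ ℋ) {R : Subgroup Ω} (hR : F.IsConj P₀ R) : Nat.card R = n₀ := by
  rw [← IsConj_card hR, h.hc]

lemma Setup.le (_ : Setup F p n₀ P₀ ℋ) {R : Subgroup Ω} (hR : F.IsConj P₀ R) : R ≤ S := IsConj_le' hR

lemma conj_of_map {R R' : Subgroup Ω} {f : Ω → Ω} (hC : F.IsConj P₀ R) (_ : R ≤ S) (hf : Maps F R f)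
    (hi : img f R = R') : F.IsConj P₀ R' :=
  IsConj_trans hC (Cfsg.Agent.Lib.FusionCore.isConj_iff.2 ⟨f, hf, hi⟩)

lemma Setup.ne_S (h : Setup F p n₀ P₀ ℋ) {R : Subgroup Ω} (hR : F.IsConj P₀ R) : R ≠ S := by
  rintro rfl
  obtain ⟨R₀, hC, x, hx, hxR⟩ := h.hone
  have h1 : R₀ = R := by
    haveI := finite_of_le (le_refl R)
    have hle : R₀ ≤ R := IsConj_le' hC
    apply Subgroup.eq_of_le_of_card_ge hle
    rw [← IsConj_card (IsConj_trans (IsConj_symm hR) hC)]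
  exact hxR (h1 ▸ tl_le_S hx)

lemma Pone.card_lt {R : Subgroup Ω} (hRS : R ≤ S) (h : Pone F p R) (hS : IsPGroup p S) :
    Nat.card R < Nat.card (tl F p R) := by
  obtain ⟨x, hx, hxR⟩ := h
  haveI : Finite (tl F p R) := finite_of_le tl_le_S
  exact Cfsg.Agent.Lib.FusionAlperin.card_lt_of_lt
    (lt_of_le_of_ne (le_tl hS hRS) (fun e => hxR (e ▸ hx)))

theorem Setup.ext_all (h : Setup F p n₀ P₀ ℋ) {R : Subgroup Ω} (hR : F.IsConj P₀ R) : Ext F p R := by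
  obtain ⟨R₀, hC₀, hP₀⟩ := h.hone
  have hE₀ : Ext F p R₀ := by
    refine ⟨_root_.id, Maps.id inf_le_left, ?_⟩
    rw [img_id']
    exact hP₀
  obtain ⟨f, hf, hi⟩ := Cfsg.Agent.Lib.FusionCore.isConj_iff.1 (IsConj_trans (IsConj_symm hC₀) hR)
  let Φ : Subgroup Ω → Subgroup Ω → (Ω → Ω) → Prop := fun R R' g =>
    Maps F R g ∧ img g R = R' ∧ (Ext F p R ↔ Ext F p R')
  have key : Φ R₀ (img f R₀) f := by
    refine gen_induct (C := fun R => F.IsConj P₀ R) (ℋ := ℋ) h.hgen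
      (fun hC hle hf hi => conj_of_map hC hle hf hi) h.hℋ (fun R hR => h.ne_S hR) ?_ ?_ ?_ ?_ hf le_rfl hC₀
    · intro R R' g g' h1 he
      exact ⟨h1.1.congr he, by rw [← h1.2.1]; exact (img_congr he).symm, h1.2.2⟩
    · rintro R₁ R₂ R₃ g₁ g₂ - - - ⟨h1, h2, h3⟩ ⟨h4, h5, h6⟩
      refine ⟨h1.comp h4 (fun x hx => h2 ▸ h1.mem_img_of_mem hx), ?_, h3.trans h6⟩
      rw [img_comp h1 (h2 ▸ h4), h2, h5]
    · rintro R R' g g' - - ⟨h1, h2, h3⟩ h4 h5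
      exact ⟨h4, img_of_inv h1 h2 h4 h5, h3.symm⟩
    · intro R X ψ hC hRX hne hψ
      have hcR := h.card hC
      refine ⟨hψ.restrict hRX, rfl, ⟨fun hE => ?_, fun hE => ext_of_map h.hS h.hgood hcR hψ hRX hne hE⟩⟩
      obtain ⟨k, hk, hk1, hk2⟩ := hψ.inv
      have hψR := hψ.restrict hRX
      have hi2 : img k (img ψ R) = R :=
        img_of_inv hψR rfl (hk.restrict (hψ.img_mono hRX)) (fun x hx => hk1 x (hRX hx))
      have hne2 : img ψ R ≠ img ψ X := by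
        intro he
        apply hne
        have h3 : Nat.card R = Nat.card X := by
          rw [← hψR.card_img, he, hψ.card_img]
        haveI := finite_of_le hψ.le
        exact Subgroup.eq_of_le_of_card_ge hRX h3.ge
      refine ext_of_map h.hS h.hgood (by rw [hψR.card_img]; exact hcR) hk (hψ.img_mono hRX) hne2 ?_
      rw [hi2]
      exact hE
  rw [hi] at key
  exact key.2.2.1 hE₀

/-- The predicate of morphisms transported to subgroups with `R < tl R`. -/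
def Sh (F : FusionSystem S) (p : ℕ) (R R' : Subgroup Ω) (g : Ω → Ω) : Prop :=
  Maps F R g ∧ img g R = R' ∧ ∀ ξ ξ', Maps F (normalizerIn S R) ξ → Pone F p (img ξ R) →
    Maps F (normalizerIn S R') ξ' → Pone F p (img ξ' R') →
      ∃ g'', CG F p (img ξ R) (img ξ' R') g'' ∧ ∀ x ∈ R, g'' (ξ x) = ξ' (g x)

theorem Setup.sh_all (h : Setup F p n₀ P₀ ℋ) {R : Subgroup Ω} (hR : F.IsConj P₀ R) (hf : Maps F R f) :
    Sh F p R (img f R) f := by
  have hS := h.hS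
  refine gen_induct (C := fun R => F.IsConj P₀ R) (ℋ := ℋ) h.hgen
      (fun hC hle hf hi => conj_of_map hC hle hf hi) h.hℋ (fun R hR => h.ne_S hR) ?_ ?_ ?_ ?_ hf le_rfl hR
  · intro R R' g g' h1 he
    obtain ⟨h2, h3, h4⟩ := h1
    refine ⟨h2.congr he, by rw [← h3]; exact (img_congr he).symm, fun ξ ξ' a b c d => ?_⟩
    obtain ⟨g'', h5, h6⟩ := h4 ξ ξ' a b c d
    exact ⟨g'', h5, fun x hx => by rw [h6 x hx, he x hx]⟩
  · rintro R₁ R₂ R₃ g₁ g₂ - hC₂ - ⟨h1, h2, h3⟩ ⟨h4, h5, h6⟩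
    refine ⟨h1.comp h4 (fun x hx => h2 ▸ h1.mem_img_of_mem hx), ?_, fun ξ₁ ξ₃ a b c d => ?_⟩
    · rw [img_comp h1 (h2 ▸ h4), h2, h5]
    · obtain ⟨ξ₂, hξ₂, hP₂⟩ := h.ext_all hC₂
      obtain ⟨g₁'', h7, h8⟩ := h3 ξ₁ ξ₂ a b hξ₂ hP₂
      obtain ⟨g₂'', h9, h10⟩ := h6 ξ₂ ξ₃ hξ₂ hP₂ c d
      have hR₂N : R₂ ≤ normalizerIn S R₂ := le_normalizerIn h4.le
      have hξ₂R := hξ₂.restrict hR₂N
      have hcc : Nat.card (img ξ₂ R₂) = n₀ := by rw [hξ₂R.card_img]; exact h.card hC₂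
      refine ⟨g₂'' ∘ g₁'', CG.trans hS h.hgood h7 h9 hcc ?_, fun x hx => ?_⟩
      · rw [← hcc]
        exact Pone.card_lt hξ₂R.img_le hP₂ hS
      · show g₂'' (g₁'' (ξ₁ x)) = ξ₃ (g₂ (g₁ x))
        rw [h8 x hx, h10 _ (h2 ▸ h1.mem_img_of_mem hx)]
  · rintro R R' g g' - - ⟨h1, h2, h3⟩ h4 h5
    refine ⟨h4, img_of_inv h1 h2 h4 h5, fun ξ' ξ a b c d => ?_⟩
    obtain ⟨g'', h6, h7⟩ := h3 ξ ξ' c d a b
    obtain ⟨i, hi, hi1, hi2⟩ := h6.1.inv
    rw [h6.2.1] at hi hi2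
    refine ⟨i, h6.symm hi hi1, fun y hy => ?_⟩
    obtain ⟨x, hx, rfl⟩ := h1.mem_img.1 (h2 ▸ hy)
    rw [h5 x hx, ← h7 x hx]
    have hRN : R ≤ normalizerIn S R := le_normalizerIn h1.le
    exact hi1 _ ((c.restrict hRN).mem_img_of_mem hx)
  · intro R X ψ hC hRX hne hψ
    have hcR := h.card hC
    have hψR := hψ.restrict hRX
    refine ⟨hψR, rfl, fun ξ ξ' hξ hP hξ' hP' => ?_⟩
    have hXS := hψ.le
    have hRS := hRX.trans hXS
    have hlt := exists_X₀ hS hψ hRX hne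
    have hRN := le_normalizerIn hRS
    have hR₂N := le_normalizerIn hψR.img_le
    have hX₀N : X ⊓ normalizerIn S R ≤ normalizerIn S R := inf_le_right
    have hξ₀ := hξ.restrict hX₀N
    obtain ⟨i, hi, hi1, hi2⟩ := hξ₀.inv
    have hν : Maps F (img ξ (X ⊓ normalizerIn S R)) (ξ' ∘ ψ ∘ i) := by
      have h1 : Maps F (X ⊓ normalizerIn S R) ψ := hψ.restrict inf_le_left
      have h2 : Maps F (X ⊓ normalizerIn S R) (ξ' ∘ ψ) :=
        h1.comp hξ' (fun x hx => normalizer_map hψ hRX hx.1 hx.2)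
      exact hi.comp h2 (fun y hy => (hi2 y hy).1)
    have hξR := hξ.restrict hRN
    have hsub : R ≤ X ⊓ normalizerIn S R := hlt.le
    have hcR₁ : Nat.card (img ξ R) = n₀ := by rw [hξR.card_img]; exact hcR
    have hY1 : img ξ R ≤ img ξ (X ⊓ normalizerIn S R) := hξ₀.img_mono hsub
    have hY2 : img ξ (X ⊓ normalizerIn S R) ≤ normalizerIn S (img ξ R) := by
      intro y hy
      obtain ⟨x, hx, rfl⟩ := hξ₀.mem_img.1 hy
      exact normalizer_map hξ hRN hx.2 hx.2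
    have hcY : n₀ < Nat.card (img ξ (X ⊓ normalizerIn S R)) := by
      rw [hξ₀.card_img, ← hcR]
      haveI : Finite (X ⊓ normalizerIn S R : Subgroup Ω) := finite_of_le (inf_le_left.trans hXS)
      exact Cfsg.Agent.Lib.FusionAlperin.card_lt_of_lt hlt
    have hCG := edge hS h.hgood hcR₁ hY1 hY2 hcY hν
    have hrel : ∀ x ∈ R, (ξ' ∘ ψ ∘ i) (ξ x) = ξ' (ψ x) := by
      intro x hx
      show ξ' (ψ (i (ξ x))) = _
      rw [hi1 x (hsub hx)]
    have hiR : img (ξ' ∘ ψ ∘ i) (img ξ R) = img ξ' (img ψ R) := by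
      have h1 : img (ξ' ∘ ψ) R = img ξ' (img ψ R) := img_comp hψR (hξ'.restrict hR₂N)
      rw [← h1]
      exact (img_eq_of_rel hξR (hν.restrict hY1) (fun x hx => (hrel x hx).symm)).symm
    rw [hiR] at hCG
    exact ⟨_, hCG, hrel⟩

/-- All morphisms between members with `R < tl R` are cospans. -/
theorem Setup.cg_all (h : Setup F p n₀ P₀ ℋ) {R R' : Subgroup Ω} (hR : F.IsConj P₀ R) (hf : Maps F R f)
    (hi : img f R = R') (hP : Pone F p R) (hP' : Pone F p R') : CG F p R R' f := by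
  obtain ⟨-, -, h3⟩ := h.sh_all hR hf
  rw [hi] at h3
  obtain ⟨g'', h4, h5⟩ := h3 _root_.id _root_.id (Maps.id inf_le_left) (by rw [img_id']; exact hP)
    (Maps.id inf_le_left) (by rw [img_id']; exact hP')
  rw [img_id', img_id'] at h4
  exact h4.congr (fun x hx => h5 x hx)

end WithS

end Cfsg.Agent.Lib.FusionSatCrit
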