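/-
FusionSatCrit7: the criterion (S5110).
-/
import Mathlib
import Cfsg.Agent.Lib.FusionSatCrit6

set_option autoImplicit false

namespace Cfsg.Agent.Lib.FusionSatCrit

open Cfsg Cfsg.FusionSystem Cfsg.Agent.Lib.FusionCore Cfsg.Agent.Lib.PCore
open Cfsg.Agent.Lib.FusionIndexPrime

variable {Ω : Type*} [Group Ω] {S : Subgroup Ω} {F : FusionSystem S} {P Q R W X Y : Subgroup Ω} {f g : Ω → Ω}
variable {p : ℕ}

section WithS

variable [Finite S] [Fact p.Prime] {n₀ : ℕ} {P₀ : Subgroup Ω} {ℋ : Set (Subgroup Ω)}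

lemma exists_top (hP₀ : P₀ ≤ S) : ∃ Q, F.IsConj P₀ Q ∧ ∀ R, F.IsConj P₀ R → Nat.card (tl F p R) ≤ Nat.card (tl F p Q) := by
  let A : Set ℕ := {n | ∃ Q, F.IsConj P₀ Q ∧ n = Nat.card (tl F p Q)}
  have hne : A.Nonempty := ⟨_, P₀, isConj_refl hP₀, rfl⟩
  have hbdd : BddAbove A := by
    refine ⟨Nat.card S, ?_⟩
    rintro n ⟨Q, -, rfl⟩
    exact Subgroup.card_le_of_le tl_le_S
  obtain ⟨Q, hQ, hQn⟩ := Nat.sSup_mem hne hbdd
  refine ⟨Q, hQ, fun R hR => ?_⟩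
  rw [← hQn]
  exact le_csSup hbdd ⟨R, hR, rfl⟩

/-- `Q` has the largest `tl` in the class. -/
def Top (F : FusionSystem S) (p : ℕ) (P₀ Q : Subgroup Ω) : Prop :=
  F.IsConj P₀ Q ∧ ∀ R, F.IsConj P₀ R → Nat.card (tl F p R) ≤ Nat.card (tl F p Q)

lemma Setup.pone_of_card (h : Setup F p n₀ P₀ ℋ) {Q : Subgroup Ω} (hQ : F.IsConj P₀ Q)
    (hc : n₀ < Nat.card (tl F p Q)) : Pone F p Q := by
  by_contra hn
  have hle : tl F p Q ≤ Q := by
    intro x hx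
    by_contra hxQ
    exact hn ⟨x, hx, hxQ⟩
  haveI := finite_of_le (IsConj_le' hQ)
  have := Subgroup.card_le_of_le hle
  rw [h.card hQ] at this
  omega

lemma Setup.lt_card_top (h : Setup F p n₀ P₀ ℋ) {Q : Subgroup Ω} (hQ : Top F p P₀ Q) :
    n₀ < Nat.card (tl F p Q) := by
  obtain ⟨R₀, hC, hP⟩ := h.hone
  have h1 := Pone.card_lt (IsConj_le' hC) hP h.hS
  rw [h.card hC] at h1
  exact lt_of_lt_of_le h1 (hQ.2 R₀ hC)

lemma Setup.top_pone (h : Setup F p n₀ P₀ ℋ) {Q : Subgroup Ω} (hQ : Top F p P₀ Q) : Pone F p Q :=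
  h.pone_of_card hQ.1 (h.lt_card_top hQ)

/-- Maps into a top member extend to the `tl`-groups. -/
theorem Setup.claimA (h : Setup F p n₀ P₀ ℋ) {Q R : Subgroup Ω} (hQ : Top F p P₀ Q) (hR : F.IsConj P₀ R)
    (hf : Maps F R f) (hi : img f R = Q) :
    ∃ μ, Maps F (tl F p R) μ ∧ (∀ x ∈ R, μ x = f x) ∧ ∀ x ∈ tl F p R, μ x ∈ tl F p Q := by
  have hS := h.hS
  have hRS := hf.le
  have hQS : Q ≤ S := IsConj_le' hQ.1
  have hQt := le_tl (F := F) hS hQS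
  by_cases hP : Pone F p R
  · obtain ⟨-, -, f₁, f₂, hf₁, hf₂, hrel⟩ := h.cg_all hR hf hi hP (h.top_pone hQ)
    have hRt := le_tl (F := F) hS hRS
    have hf₂Q := hf₂.restrict hQt
    have hCT : F.IsConj P₀ (img f₂ Q) := conj_of_map hQ.1 hQS hf₂Q rfl
    have hle : img f₂ (tl F p Q) ≤ tl F p (img f₂ Q) := by
      intro y hy
      obtain ⟨x, hx, rfl⟩ := hf₂.mem_img.1 hy
      exact tl_map hf₂ hQt hx hx
    haveI : Finite (tl F p (img f₂ Q)) := finite_of_le tl_le_S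
    have heq : img f₂ (tl F p Q) = tl F p (img f₂ Q) := by
      apply Subgroup.eq_of_le_of_card_ge hle
      rw [hf₂.card_img]
      exact hQ.2 _ hCT
    have himg₁ : img f₁ R = img f₂ Q := by
      have hm : Maps F (img f R) f₂ := hi ▸ hf₂Q
      rw [img_eq_of_rel hf hm hrel, hi]
    obtain ⟨k, hk, hk1, hk2⟩ := hf₂.inv
    have hstep : ∀ x ∈ tl F p R, f₁ x ∈ img f₂ (tl F p Q) := by
      intro x hx
      rw [heq, ← himg₁]
      exact tl_map hf₁ hRt hx hx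
    refine ⟨k ∘ f₁, hf₁.comp hk hstep, fun x hx => ?_, fun x hx => (hk2 _ (hstep x hx)).1⟩
    show k (f₁ x) = f x
    rw [hrel x hx]
    exact hk1 _ (hQt (hi ▸ hf.mem_img_of_mem hx))
  · have hle : tl F p R ≤ R := by
      intro x hx
      by_contra hxR
      exact hP ⟨x, hx, hxR⟩
    exact ⟨f, hf.restrict hle, fun _ _ => rfl, fun x hx => hQt (hi ▸ hf.mem_img_of_mem (hle hx))⟩

/-- The good member. -/
structure Far (F : FusionSystem S) (p : ℕ) (P₀ Q₀ W : Subgroup Ω) : Prop where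
  top : Top F p P₀ Q₀
  tlQ : tl F p Q₀ = W
  hA : F.IsFullyAutomized p W
  hRc : F.IsReceptive W
  hs : IsStabSylow F p W Q₀

theorem Setup.exists_far (h : Setup F p n₀ P₀ ℋ) : ∃ Q₀ W, Far F p P₀ Q₀ W := by
  have hS := h.hS
  obtain ⟨Q₁, hQ₁, hQ₁m⟩ := exists_top (F := F) (p := p) h.hP₀
  have hT₁ : Top F p P₀ Q₁ := ⟨hQ₁, hQ₁m⟩
  have hcQ₁ := h.lt_card_top hT₁
  have hQ₁S := IsConj_le' hQ₁
  obtain ⟨W, hc, hA, hRc⟩ := h.hgood _ tl_le_S hcQ₁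
  obtain ⟨ρ, hρ, -, hρi⟩ := exists_normalizer_map hS hA hRc hc
  have hWS := hA.1
  haveI := finite_of_le hWS
  have htN : tl F p Q₁ ≤ normalizerIn S (tl F p Q₁) := le_normalizerIn tl_le_S
  have hQt := le_tl (F := F) hS hQ₁S
  have hρt := hρ.restrict htN
  have hcW : Nat.card W = Nat.card (tl F p Q₁) := by
    rw [← hρi]
    exact hρt.card_img
  have hQ₂ := hρt.restrict hQt
  have hC₂ : F.IsConj P₀ (img ρ Q₁) := conj_of_map hQ₁ hQ₁S hQ₂ rfl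
  have hW₂ : W ≤ tl F p (img ρ Q₁) := by
    rw [← hρi]
    intro y hy
    obtain ⟨x, hx, rfl⟩ := hρt.mem_img.1 hy
    exact tl_map hρ (hQt.trans htN) (htN hx) hx
  haveI : Finite (tl F p (img ρ Q₁)) := finite_of_le tl_le_S
  have htl₂ : tl F p (img ρ Q₁) = W := by
    symm
    apply Subgroup.eq_of_le_of_card_ge hW₂
    rw [hcW]
    exact hQ₁m _ hC₂
  have hQ₂W : img ρ Q₁ ≤ W := by
    rw [← hρi]
    exact hρt.img_mono hQt
  obtain ⟨γ, hγ, hs⟩ := exists_rep hA hQ₂W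
  have hγm := Maps_of_mem_autGroup hWS hγ
  have hC₀ : F.IsConj P₀ (img (afn γ) (img ρ Q₁)) :=
    conj_of_map hC₂ (hQ₂W.trans hWS) (hγm.restrict hQ₂W) rfl
  have hW₀ : W ≤ tl F p (img (afn γ) (img ρ Q₁)) := by
    intro w hw
    have h1 : afn γ⁻¹ w ∈ W := afn_mem _ hw
    have h2 := tl_map hγm hQ₂W h1 (by rw [htl₂]; exact h1)
    rwa [afn_afn_inv _ hw] at h2
  haveI : Finite (tl F p (img (afn γ) (img ρ Q₁))) := finite_of_le tl_le_S
  have htl₀ : tl F p (img (afn γ) (img ρ Q₁)) = W := by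
    symm
    apply Subgroup.eq_of_le_of_card_ge hW₀
    rw [hcW]
    exact hQ₁m _ hC₀
  refine ⟨img (afn γ) (img ρ Q₁), W, ⟨hC₀, fun R hR => ?_⟩, htl₀, hA, hRc, hs⟩
  rw [htl₀, hcW]
  exact hQ₁m R hR

lemma Far.le (hF : Far F p P₀ Q W) (hS : IsPGroup p S) : Q ≤ W := by
  rw [← hF.tlQ]
  exact le_tl hS (IsConj_le' hF.top.1)

/-- `Q₀` is fully automized. -/
theorem Setup.far_automized (h : Setup F p n₀ P₀ ℋ) {Q₀ W : Subgroup Ω} (hF : Far F p P₀ Q₀ W) :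
    F.IsFullyAutomized p Q₀ := by
  have hS := h.hS
  have hWS := hF.hA.1
  have hQW := hF.le hS
  have hQS := hQW.trans hWS
  haveI := finite_mulAut hWS
  haveI := finite_mulAut hQS
  rw [isFullyAutomized_iff hS hQS]
  let A : Subgroup (MulAut W) := AA F W Q₀
  let r : A →* MulAut Q₀ := (resS hQW).comp (Subgroup.inclusion inf_le_right)
  have hres : ∀ (a : A) {x : Ω}, x ∈ Q₀ → afn (r a) x = afn (a : MulAut W) x := fun a x hx =>
    afn_resS hQW _ hx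
  have hresA : ∀ a : A, r a ∈ F.autGroup Q₀ := by
    intro a
    rw [mem_autGroup_iff hQS]
    exact ((Maps_of_mem_autGroup hWS a.2.1).restrict hQW).congr (fun x hx => (hres a hx).symm)
  let r' : A →* F.autGroup Q₀ := r.codRestrict _ hresA
  have hsurj : Function.Surjective r' := by
    rintro ⟨α, hα⟩
    have hm := Maps_of_mem_autGroup hQS hα
    obtain ⟨μ, hμ, hμ1, hμ2⟩ := h.claimA hF.top hF.top.1 hm (afn_img α)
    rw [hF.tlQ] at hμ hμ2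
    have himg : img μ W = W := img_eq_of_card hμ hWS hWS hμ2 le_rfl
    have hb := hμ.toAut_mem himg
    have hbe : ∀ x ∈ W, afn (hμ.toAut himg) x = μ x := fun x hx => hμ.afn_toAut himg hx
    have hbQ : img (afn (hμ.toAut himg)) Q₀ = Q₀ := by
      rw [img_congr (fun x hx => (hbe x (hQW hx)).trans (hμ1 x hx))]
      exact afn_img α
    refine ⟨⟨_, hb, mem_stab_of_img hWS hQW hb hbQ⟩, Subtype.ext ?_⟩
    apply afn_ext
    intro x hx
    show afn (r _) x = _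
    rw [hres _ hx]
    exact (hbe x (hQW hx)).trans (hμ1 x hx)
  let H : Subgroup A := (autInducedBy S W).subgroupOf A
  have hle : H.map r' ≤ (autInducedBy S Q₀).subgroupOf (F.autGroup Q₀) := by
    rintro _ ⟨d, hd, rfl⟩
    rw [Subgroup.mem_subgroupOf]
    obtain ⟨g₀, hg₀, hg₁⟩ := mem_autInducedBy.1 (Subgroup.mem_subgroupOf.1 hd)
    refine mem_autInducedBy.2 ⟨g₀, hg₀, fun x hx => ?_⟩
    show afn (r d) x = _
    rw [hres _ hx]
    exact hg₁ x (hQW hx)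
  intro hd
  apply hF.hs
  exact hd.trans ((Subgroup.index_dvd_of_le hle).trans (Subgroup.index_map_dvd _ hsurj))

/-- Receptivity for sources with the largest `tl`. -/
theorem Setup.rec_top (h : Setup F p n₀ P₀ ℋ) {Q₀ W R : Subgroup Ω} (hF : Far F p P₀ Q₀ W)
    (hR : F.IsConj P₀ R) (hf : Maps F R f) (hi : img f R = Q₀)
    (hcR : Nat.card (tl F p R) = Nat.card W) :
    ∃ g, Maps F (Nf S R f) g ∧ ∀ x ∈ R, g x = f x := by
  have hS := h.hS
  have hWS := hF.hA.1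
  have hQW := hF.le hS
  have hQS := hQW.trans hWS
  have hRS := hf.le
  haveI := finite_mulAut hWS
  haveI := finite_of_le hWS
  obtain ⟨μ, hμ, hμ1, hμ2⟩ := h.claimA hF.top hR hf hi
  rw [hF.tlQ] at hμ2
  have hRt := le_tl (F := F) hS hRS
  have himg : img μ (tl F p R) = W := img_eq_of_card hμ tl_le_S hWS hμ2 hcR.ge
  let e := hμ.equiv himg
  let T := Nf S R f
  have hTS : T ≤ S := fun x hx => (mem_Nf.1 hx).1
  have hTN : T ≤ normalizerIn S R := fun x hx => mem_normalizerIn.2 ⟨(mem_Nf.1 hx).1, (mem_Nf.1 hx).2.1⟩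
  haveI : Finite (tl F p R) := finite_of_le tl_le_S
  have hTNt : T ≤ Subgroup.normalizer (tl F p R : Set Ω) := fun x hx =>
    mem_normalizer_of_conj_mem (fun y hy => tl_conj (hTN hx) hRS hy)
  let Δ : Subgroup (MulAut W) := (autInducedBy T (tl F p R)).map (MulAut.congr e).toMonoidHom
  have hΔp : IsPGroup p Δ := (isPGroup_autInducedBy (hS.to_le hTS)).map _
  have hΔe : ∀ δ ∈ Δ, ∃ t ∈ T, ∀ y ∈ tl F p R, afn δ (μ y) = μ (t * y * t⁻¹) := by
    rintro _ ⟨c, hc, rfl⟩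
    obtain ⟨t, ht, ht1⟩ := mem_autInducedBy.1 hc
    refine ⟨t, ht, fun y hy => ?_⟩
    have h1 := hμ.afn_congr himg c hy
    rw [ht1 y hy] at h1
    exact h1
  have hΔF : Δ ≤ F.autGroup W := by
    rw [← hμ.map_autGroup himg]
    exact Subgroup.map_mono ((autInducedBy_mono hTS).trans (autInducedBy_le_autGroup tl_le_S))
  have hQμ : ∀ y ∈ tl F p R, (y ∈ R ↔ μ y ∈ Q₀) := by
    intro y hy
    constructor
    · intro hyR
      rw [hμ1 y hyR, ← hi]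
      exact hf.mem_img_of_mem hyR
    · intro hyQ
      rw [← hi] at hyQ
      obtain ⟨r, hr, hre⟩ := hf.mem_img.1 hyQ
      rw [← hμ1 r hr] at hre
      rwa [← hμ.inj (hRt hr) hy hre]
  let A : Subgroup (MulAut W) := AA F W Q₀
  let r : A →* MulAut Q₀ := (resS hQW).comp (Subgroup.inclusion inf_le_right)
  have hres : ∀ (a : A) {x : Ω}, x ∈ Q₀ → afn (r a) x = afn (a : MulAut W) x := fun a x hx =>
    afn_resS hQW _ hx
  let A₂ : Subgroup (MulAut W) := ((autInducedBy S Q₀).comap r).map A.subtype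
  have hA₂A : A₂ ≤ A := Subgroup.map_subtype_le _
  have hDA : autInducedBy S W ⊓ A ≤ A₂ := by
    rintro d ⟨hd1, hd2⟩
    refine ⟨⟨d, hd2⟩, ?_, rfl⟩
    obtain ⟨g₀, hg₀, hg₁⟩ := mem_autInducedBy.1 hd1
    refine mem_autInducedBy.2 ⟨g₀, hg₀, fun x hx => ?_⟩
    rw [hres _ hx]
    exact hg₁ x (hQW hx)
  have hΔA₂ : Δ ≤ A₂ := by
    intro δ hδ
    obtain ⟨t, ht, ht1⟩ := hΔe δ hδ
    have htt := mem_Nf.1 ht
    have htN := htt.2.1
    have hst : δ ∈ stab W Q₀ := by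
      intro x hx
      rw [← himg] at hx
      obtain ⟨y, hy, rfl⟩ := hμ.mem_img.1 hx
      rw [ht1 y hy]
      have hty : t * y * t⁻¹ ∈ tl F p R := (Subgroup.mem_normalizer_iff.1 (hTNt ht) y).1 hy
      rw [← hQμ y hy, ← hQμ _ hty]
      exact Subgroup.mem_normalizer_iff.1 htN y
    refine ⟨⟨δ, hΔF hδ, hst⟩, ?_, rfl⟩
    obtain ⟨-, -, h₀, hh₀, hh₁⟩ := htt
    refine mem_autInducedBy.2 ⟨h₀, hh₀, fun x hx => ?_⟩
    rw [hres _ hx]
    rw [← hi] at hx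
    obtain ⟨y, hy, rfl⟩ := hf.mem_img.1 hx
    show afn δ (f y) = _
    rw [← hμ1 y hy, ht1 y (hRt hy), hμ1 _ ((Subgroup.mem_normalizer_iff.1 htN y).1 hy), hμ1 y hy]
    exact hh₁ y hy
  have hidx : ¬ p ∣ ((autInducedBy S W).subgroupOf A₂).index := by
    intro hd
    apply hF.hs
    have h1 : (autInducedBy S W).relIndex A₂ = (autInducedBy S W ⊓ A).relIndex A₂ := by
      rw [← Subgroup.inf_relIndex_right (autInducedBy S W) A₂]
      congr 1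
      apply le_antisymm
      · exact inf_le_inf_left _ hA₂A
      · exact le_inf inf_le_left hDA
    have h2 := Subgroup.relIndex_mul_relIndex (autInducedBy S W ⊓ A) A₂ A hDA hA₂A
    rw [Subgroup.inf_relIndex_right, ← h1] at h2
    have h3 : (autInducedBy S W).relIndex A₂ ∣ (autInducedBy S W).relIndex A := ⟨_, h2.symm⟩
    exact hd.trans h3
  obtain ⟨a, haA₂, ha⟩ := sylow_conj (isPGroup_autInducedBy hS) hidx hΔp hΔA₂
  obtain ⟨x₀, hx₀, hx₀e⟩ := haA₂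
  obtain ⟨h₀, hh₀, hh₁⟩ := mem_autInducedBy.1 (hx₀ : r x₀ ∈ autInducedBy S Q₀)
  have ha0 : a ∈ F.autGroup W := (hA₂A ⟨x₀, hx₀, hx₀e⟩).1
  have hae : ∀ y ∈ Q₀, afn a y = h₀ * y * h₀⁻¹ := by
    intro y hy
    rw [← hh₁ y hy, hres _ hy, ← hx₀e]
    rfl
  have hh₀N : h₀ ∈ normalizerIn S Q₀ := mem_normalizerIn.2 ⟨hh₀, mem_normalizer_of_afn hh₁⟩
  have hh₀W : h₀ ∈ normalizerIn S W := by
    refine mem_normalizerIn.2 ⟨hh₀, mem_normalizer_of_conj_mem (fun y hy => ?_)⟩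
    rw [← hF.tlQ] at hy ⊢
    exact tl_conj hh₀N hQS hy
  let d₀ : MulAut W := conjN S W ⟨h₀, hh₀W⟩
  have hd₀ : d₀ ∈ autInducedBy S W := conjN_mem_autInduced _
  let c : MulAut W := d₀⁻¹ * a
  have hcF : c ∈ F.autGroup W :=
    Subgroup.mul_mem _ (Subgroup.inv_mem _ (autInducedBy_le_autGroup hWS hd₀)) ha0
  have hcQ : ∀ y ∈ Q₀, afn c y = y := by
    intro y hy
    have e1 : afn d₀ y = h₀ * y * h₀⁻¹ := afn_conjN _ (hQW hy)
    show afn (d₀⁻¹ * a) y = y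
    rw [afn_mul _ _ (hQW hy), hae y hy, ← e1, afn_inv_afn _ (hQW hy)]
  have hcΔ : ∀ δ ∈ Δ, c * δ * c⁻¹ ∈ autInducedBy S W := by
    intro δ hδ
    have e : c * δ * c⁻¹ = d₀⁻¹ * (a * δ * a⁻¹) * d₀ := by
      show d₀⁻¹ * a * δ * (d₀⁻¹ * a)⁻¹ = _
      group
    rw [e]
    exact Subgroup.mul_mem _ (Subgroup.mul_mem _ (Subgroup.inv_mem _ hd₀) (ha δ hδ)) hd₀
  have hcm := Maps_of_mem_autGroup hWS hcF
  have hG : Maps F (tl F p R) (afn c ∘ μ) := hμ.comp hcm hμ2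
  have hGi : img (afn c ∘ μ) (tl F p R) = W := by
    rw [img_comp hμ (himg ▸ hcm), himg, afn_img]
  have hTNf : T ≤ Nf S (tl F p R) (afn c ∘ μ) := by
    intro t ht
    have htN := hTNt ht
    have ht' : t ∈ normalizerIn T (tl F p R) := mem_normalizerIn.2 ⟨ht, htN⟩
    let cc : MulAut (tl F p R) := conjN T (tl F p R) ⟨t, ht'⟩
    have hcc : cc ∈ autInducedBy T (tl F p R) := by
      rw [← conjN_range]
      exact ⟨_, rfl⟩
    have hδ : (MulAut.congr e).toMonoidHom cc ∈ Δ := Subgroup.mem_map_of_mem _ hcc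
    obtain ⟨k, hk, hk1⟩ := mem_autInducedBy.1 (hcΔ _ hδ)
    refine mem_Nf.2 ⟨hTS ht, htN, k, hk, fun y hy => ?_⟩
    have h1 := hk1 _ (hμ2 y hy |> afn_mem c)
    rw [afn_mul _ _ (afn_mem c (hμ2 y hy)), afn_inv_afn _ (hμ2 y hy), afn_mul _ _ (hμ2 y hy)] at h1
    have h2 : afn ((MulAut.congr e).toMonoidHom cc) (μ y) = μ (t * y * t⁻¹) := by
      have h3 := hμ.afn_congr himg cc hy
      have h4 : afn cc y = t * y * t⁻¹ := afn_conjN _ hy
      rw [h4] at h3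
      exact h3
    rw [h2] at h1
    exact h1
  obtain ⟨G, hGm, hG1⟩ := IsReceptive.ext hF.hRc hG hGi
  refine ⟨G, hGm.restrict hTNf, fun x hx => ?_⟩
  rw [hG1 x (hRt hx)]
  show afn c (μ x) = f x
  rw [hμ1 x hx, hcQ _ (hi ▸ hf.mem_img_of_mem hx)]

/-- Moving up towards the largest `tl`. -/
theorem Setup.reach_top (h : Setup F p n₀ P₀ ℋ) {Q₀ W : Subgroup Ω} (hF : Far F p P₀ Q₀ W) :
    ∀ (k : ℕ) (R T : Subgroup Ω), Nat.card W - Nat.card (tl F p R) = k → F.IsConj P₀ R → Pone F p R →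
      R ≤ T → T ≤ normalizerIn S R →
      ∃ ξ, Maps F T ξ ∧ Nat.card (tl F p (img ξ R)) = Nat.card W := by
  have hS := h.hS
  have hWS := hF.hA.1
  have hQW := hF.le hS
  have hQS := hQW.trans hWS
  haveI := finite_of_le hWS
  intro k
  induction' k using Nat.strong_induction_on with k ih
  intro R T hk hR hP hRT hTN
  have hTS := hTN.trans inf_le_left
  have hRS := hRT.trans hTS
  have hle : Nat.card (tl F p R) ≤ Nat.card W := by
    have := hF.top.2 R hR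
    rwa [hF.tlQ] at this
  by_cases he : Nat.card (tl F p R) = Nat.card W
  · refine ⟨_root_.id, Maps.id hTS, ?_⟩
    rw [img_id']
    exact he
  have hlt : Nat.card (tl F p R) < Nat.card W := lt_of_le_of_ne hle he
  obtain ⟨f, hf, hi⟩ := Cfsg.Agent.Lib.FusionCore.isConj_iff.1 (IsConj_trans (IsConj_symm hR) hF.top.1)
  obtain ⟨μ, hμ, hμ1, hμ2⟩ := h.claimA hF.top hR hf hi
  rw [hF.tlQ] at hμ2
  have hRt := le_tl (F := F) hS hRS
  have hcn : n₀ < Nat.card (tl F p R) := by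
    have := Pone.card_lt hRS hP hS
    rwa [h.card hR] at this
  have hU : img μ (tl F p R) < W := by
    refine lt_of_le_of_ne (fun y hy => ?_) (fun e => ?_)
    · obtain ⟨x, hx, rfl⟩ := hμ.mem_img.1 hy
      exact hμ2 x hx
    · have := hμ.card_img
      rw [e] at this
      omega
  obtain ⟨c, hc, hcU⟩ := SetLike.exists_of_lt
    (Cfsg.Agent.Lib.FusionAlperin.lt_normalizerIn (hS.to_le hWS) hU)
  have hc' := mem_normalizerIn.1 hc
  obtain ⟨Rs, W', ξ₁, ξ₂, σ, am⟩ := exists_am hS (h.hgood _ tl_le_S hcn) hμ hRt tl_le_normalizerIn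
  have hi₂ : img μ R = Q₀ := by
    rw [img_congr hμ1]
    exact hi
  have hT₁ : T ≤ normalizerIn S (tl F p R) ⊓ normalizerIn S R := by
    refine le_inf (fun t ht => ?_) hTN
    haveI : Finite (tl F p R) := finite_of_le tl_le_S
    exact mem_normalizerIn.2 ⟨hTS ht, mem_normalizer_of_conj_mem (fun y hy => tl_conj (hTN ht) hRS hy)⟩
  have hRM : R ≤ normalizerIn S (tl F p R) ⊓ normalizerIn S R := hRT.trans hT₁
  have htM : tl F p R ≤ normalizerIn S (tl F p R) ⊓ normalizerIn S R :=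
    le_inf (le_normalizerIn tl_le_S) tl_le_normalizerIn
  have hU₀S : img μ (tl F p R) ≤ S := hμ.img_le
  have hR₂U : img μ R ≤ img μ (tl F p R) := hμ.img_mono hRt
  have hR₂N : img μ (tl F p R) ≤ normalizerIn S (img μ R) := by
    intro y hy
    obtain ⟨x, hx, rfl⟩ := hμ.mem_img.1 hy
    exact normalizer_map hμ hRt hx (tl_le_normalizerIn hx)
  have hR₂M : img μ R ≤ normalizerIn S (img μ (tl F p R)) ⊓ normalizerIn S (img μ R) :=
    le_inf (hR₂U.trans (le_normalizerIn hU₀S)) (hR₂U.trans hR₂N)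
  have hcW : c ∈ tl F p (img μ R) := by
    rw [hi₂, hF.tlQ]
    exact hc'.1
  have hcM : c ∈ normalizerIn S (img μ (tl F p R)) ⊓ normalizerIn S (img μ R) :=
    ⟨mem_normalizerIn.2 ⟨hWS hc'.1, hc'.2⟩, tl_le_normalizerIn hcW⟩
  have h1 : ξ₂ c ∈ tl F p Rs := by
    rw [← am.i₂]
    exact tl_map am.m₂ hR₂M hcM hcW
  have hUM : img μ (tl F p R) ≤ normalizerIn S (img μ (tl F p R)) ⊓ normalizerIn S (img μ R) :=
    le_inf (le_normalizerIn hU₀S) hR₂N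
  have h2 : ξ₂ c ∉ W' := by
    rw [← am.w₂]
    intro hmem
    obtain ⟨r, hr, hre⟩ := (am.m₂.restrict hUM).mem_img.1 hmem
    exact hcU (am.m₂.inj (hUM hr) hcM hre ▸ hr)
  have h3 : W' ≤ tl F p Rs := by
    rw [← am.w₁, ← am.i₁]
    intro y hy
    obtain ⟨x, hx, rfl⟩ := (am.m₁.restrict htM).mem_img.1 hy
    exact tl_map am.m₁ hRM (htM hx) hx
  have hW'c : Nat.card W' = Nat.card (tl F p R) := by
    rw [← am.w₁]
    exact (am.m₁.restrict htM).card_img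
  haveI : Finite (tl F p Rs) := finite_of_le tl_le_S
  have h4 : Nat.card (tl F p R) < Nat.card (tl F p Rs) := by
    rw [← hW'c]
    exact Cfsg.Agent.Lib.FusionAlperin.card_lt_of_lt
      (lt_of_le_of_ne h3 (fun e => h2 (e ▸ h1)))
  have hCs : F.IsConj P₀ Rs := conj_of_map hR hRS (am.m₁.restrict hRM) am.i₁
  have hle2 : Nat.card (tl F p Rs) ≤ Nat.card W := by
    have := hF.top.2 Rs hCs
    rwa [hF.tlQ] at this
  have hPs : Pone F p Rs := h.pone_of_card hCs (by omega)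
  have hTm := am.m₁.restrict hT₁
  have hRsT : Rs ≤ img ξ₁ T := by
    rw [← am.i₁]
    exact hTm.img_mono hRT
  have hTN₂ : img ξ₁ T ≤ normalizerIn S Rs := by
    intro y hy
    obtain ⟨t, ht, rfl⟩ := hTm.mem_img.1 hy
    exact (am.n₁ t (hT₁ ht)).2
  obtain ⟨ξ', hξ', hξ'c⟩ := ih _ (by omega) Rs (img ξ₁ T) rfl hCs hPs hRsT hTN₂
  refine ⟨ξ' ∘ ξ₁, hTm.comp hξ' (fun x hx => hTm.mem_img_of_mem hx), ?_⟩
  rw [img_comp (am.m₁.restrict hRM) (by rw [am.i₁]; exact hξ'.restrict hRsT), am.i₁]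
  exact hξ'c

/-- Receptivity of the good member. -/
theorem Setup.far_receptive (h : Setup F p n₀ P₀ ℋ) {Q₀ W : Subgroup Ω} (hF : Far F p P₀ Q₀ W) :
    F.IsReceptive Q₀ := by
  have hS := h.hS
  have hWS := hF.hA.1
  have hQW := hF.le hS
  have hQS := hQW.trans hWS
  refine isReceptive_of hQS (fun R f hf hi => ?_)
  have hRS := hf.le
  have hR : F.IsConj P₀ R :=
    IsConj_trans hF.top.1 (IsConj_symm (Cfsg.Agent.Lib.FusionCore.isConj_iff.2 ⟨f, hf, hi⟩))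
  let T := Nf S R f
  have hRT : R ≤ T := le_Nf hf
  have hTS : T ≤ S := fun x hx => (mem_Nf.1 hx).1
  have hTN : T ≤ normalizerIn S R := fun x hx => mem_normalizerIn.2 ⟨(mem_Nf.1 hx).1, (mem_Nf.1 hx).2.1⟩
  obtain ⟨ξ₀, hξ₀, hP₀⟩ := h.ext_all hR
  have hT₀ := hξ₀.restrict hTN
  have hRN := hRT.trans hTN
  have hξ₀R := hξ₀.restrict hRN
  have hC₁ : F.IsConj P₀ (img ξ₀ R) := conj_of_map hR hRS hξ₀R rfl
  have hle₁ : img ξ₀ R ≤ img ξ₀ T := hT₀.img_mono hRT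
  have hle₂ : img ξ₀ T ≤ normalizerIn S (img ξ₀ R) := by
    intro y hy
    obtain ⟨t, ht, rfl⟩ := hT₀.mem_img.1 hy
    exact normalizer_map hξ₀ hRN (hTN ht) (hTN ht)
  obtain ⟨ξ₁, hξ₁, hξ₁c⟩ := h.reach_top hF _ _ _ rfl hC₁ hP₀ hle₁ hle₂
  -- the composite
  have hξ : Maps F T (ξ₁ ∘ ξ₀) := hT₀.comp hξ₁ (fun x hx => hT₀.mem_img_of_mem hx)
  have hξR := hξ.restrict hRT
  have hi₁ : img (ξ₁ ∘ ξ₀) R = img ξ₁ (img ξ₀ R) := img_comp hξ₀R (hξ₁.restrict hle₁)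
  have hC₂ : F.IsConj P₀ (img (ξ₁ ∘ ξ₀) R) := conj_of_map hR hRS hξR rfl
  have hcR₂ : Nat.card (tl F p (img (ξ₁ ∘ ξ₀) R)) = Nat.card W := by
    rw [hi₁]
    exact hξ₁c
  obtain ⟨i, hi', hi1, hi2⟩ := hξ.inv
  have hle₃ : img (ξ₁ ∘ ξ₀) R ≤ img (ξ₁ ∘ ξ₀) T := hξ.img_mono hRT
  have hi₂ : ∀ y ∈ img (ξ₁ ∘ ξ₀) R, i y ∈ R := by
    intro y hy
    obtain ⟨x, hx, rfl⟩ := hξR.mem_img.1 hy
    rwa [hi1 x (hRT hx)]
  have hf₂ : Maps F (img (ξ₁ ∘ ξ₀) R) (f ∘ i) := (hi'.restrict hle₃).comp hf hi₂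
  have hf₂i : img (f ∘ i) (img (ξ₁ ∘ ξ₀) R) = Q₀ := by
    rw [← hi]
    exact (img_eq_of_rel hξR hf₂ (fun x hx => by
      show f x = f (i ((ξ₁ ∘ ξ₀) x))
      rw [hi1 x (hRT hx)])).symm
  obtain ⟨G, hG, hG1⟩ := h.rec_top hF hC₂ hf₂ hf₂i hcR₂
  have hTNf : ∀ t ∈ T, (ξ₁ ∘ ξ₀) t ∈ Nf S (img (ξ₁ ∘ ξ₀) R) (f ∘ i) := by
    intro t ht
    obtain ⟨htS, htN, h₀, hh₀, hh₁⟩ := mem_Nf.1 ht
    have hnorm := normalizer_map hξ hRT ht (hTN ht)
    have hnorm' := mem_normalizerIn.1 hnorm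
    refine mem_Nf.2 ⟨hnorm'.1, hnorm'.2, h₀, hh₀, fun y hy => ?_⟩
    obtain ⟨x, hx, rfl⟩ := hξR.mem_img.1 hy
    rw [← hξ.map_conj ht (hRT hx)]
    show f (i ((ξ₁ ∘ ξ₀) (t * x * t⁻¹))) = h₀ * f (i ((ξ₁ ∘ ξ₀) x)) * h₀⁻¹
    have hx2 : t * x * t⁻¹ ∈ R := (Subgroup.mem_normalizer_iff.1 htN x).1 hx
    rw [hi1 _ (hRT hx2), hi1 x (hRT hx)]
    exact hh₁ x hx
  refine ⟨G ∘ (ξ₁ ∘ ξ₀), hξ.comp hG hTNf, fun x hx => ?_⟩
  show G ((ξ₁ ∘ ξ₀) x) = f x
  rw [hG1 _ (hξR.mem_img_of_mem hx)]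
  show f (i ((ξ₁ ∘ ξ₀) x)) = f x
  rw [hi1 x (hRT hx)]

/-- The class of `P₀` has a fully automized receptive member. -/
theorem Setup.exists_good (h : Setup F p n₀ P₀ ℋ) :
    ∃ Q, F.IsConj P₀ Q ∧ F.IsFullyAutomized p Q ∧ F.IsReceptive Q := by
  obtain ⟨Q₀, W, hF⟩ := h.exists_far
  exact ⟨Q₀, hF.top.1, h.far_automized hF, h.far_receptive hF⟩

/-- The saturation criterion. -/
theorem saturated_of_crit (hS : IsPGroup p S) (F : FusionSystem S) (ℋ : Set (Subgroup Ω))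
    (hℋconj : ∀ P ∈ ℋ, ∀ Q, F.IsConj P Q → Q ∈ ℋ)
    (hsat : ∀ P ∈ ℋ, ∃ Q, F.IsConj P Q ∧ F.IsFullyAutomized p Q ∧ F.IsReceptive Q)
    (hgen : ∀ E : FusionSystem S, (∀ P ∈ ℋ, F.Hom P ⊆ E.Hom P) → F ≤ E)
    (hstar : ∀ P : Subgroup Ω, F.IsCentric P → P ∉ ℋ → ∃ Q, F.IsConj P Q ∧
      ¬ (autInducedBy S Q ⊓ (pCore p ↥(F.autGroup Q)).map (F.autGroup Q).subtype ≤ Inn Q)) :
    F.IsSaturated p := by
  have main : ∀ (k : ℕ) (X : Subgroup Ω), Nat.card S - Nat.card X = k → X ≤ S →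
      ∃ Q, F.IsConj X Q ∧ F.IsFullyAutomized p Q ∧ F.IsReceptive Q := by
    intro k
    induction' k using Nat.strong_induction_on with k ih
    intro X hk hXS
    by_cases hX : X ∈ ℋ
    · exact hsat X hX
    have hgood : ∀ Y : Subgroup Ω, Y ≤ S → Nat.card X < Nat.card Y →
        ∃ W, F.IsConj Y W ∧ F.IsFullyAutomized p W ∧ F.IsReceptive W := by
      intro Y hY hc
      have : Nat.card Y ≤ Nat.card S := Subgroup.card_le_of_le hY
      exact ih _ (by omega) Y rfl hY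
    have hone : ∃ R₀, F.IsConj X R₀ ∧ Pone F p R₀ := by
      by_cases hc : F.IsCentric X
      · obtain ⟨Q, hQ, hn⟩ := hstar X hc hX
        have hQS := IsConj_le' hQ
        rw [SetLike.not_le_iff_exists] at hn
        obtain ⟨α, ⟨hα1, hα2⟩, hα3⟩ := hn
        obtain ⟨g₀, hg₀, hg₁⟩ := mem_autInducedBy.1 hα1
        refine ⟨Q, hQ, g₀, ⟨mem_normalizerIn.2 ⟨hg₀, mem_normalizer_of_afn hg₁⟩, α, hα2, hg₁⟩, fun hgQ => hα3 ?_⟩
        refine ⟨⟨g₀, hgQ⟩, ?_⟩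
        apply afn_ext
        intro x hx
        rw [hg₁ x hx, afn_of_mem _ hx]
        rfl
      · by_contra hn
        apply hc
        refine ⟨hXS, fun Q hQ x hx => ?_⟩
        by_contra hxQ
        exact hn ⟨Q, hQ, x, centralizerIn_le_tl (IsConj_le' hQ) hx, hxQ⟩
    have hset : Setup F p (Nat.card X) X ℋ :=
      ⟨hS, hgood, hgen, fun R hR hRℋ => hX (hℋconj R hRℋ X (IsConj_symm hR)), rfl, hXS, hone⟩
    exact hset.exists_good
  exact fun P hP => main _ P rfl hP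

end WithS

end Cfsg.Agent.Lib.FusionSatCrit
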