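/-
FusionPPrimeRes: the subsystems of index prime to `p` (BCGLO, AKO I.7.7); existence of `O^{p'}(F)` (S5140).
-/
import Mathlib
import Cfsg.Agent.Lib.FusionIndexPrime
import Cfsg.Agent.Lib.FusionSatCrit7
import Cfsg.Prelude.Def_FusionComponents

set_option autoImplicit false

namespace Cfsg.Agent.Lib.FusionPPrimeRes

open Cfsg Cfsg.FusionSystem Cfsg.Agent.Lib.FusionCore Cfsg.Agent.Lib.FusionCore2
open Cfsg.Agent.Lib.FusionIndexPrime

variable {Ω : Type*} [Group Ω] {S : Subgroup Ω} {F D : FusionSystem S} {P Q R : Subgroup Ω} {f g : Ω → Ω}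
variable {p : ℕ}

/-- Automorphisms of `S` whose restriction to a centric subgroup lies in the generated system. -/
def Aut0 (F : FusionSystem S) (p : ℕ) : Subgroup (MulAut S) :=
  Subgroup.closure {a | a ∈ F.autGroup S ∧ ∃ P, F.IsCentric P ∧ Gen F p P (afn a)}

lemma Aut0_le : Aut0 F p ≤ F.autGroup S := by
  rw [Aut0, Subgroup.closure_le]
  exact fun a ha => ha.1

lemma mem_Aut0 {a : MulAut S} (ha : a ∈ F.autGroup S) (hc : F.IsCentric P) (h : Gen F p P (afn a)) :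
    a ∈ Aut0 F p := Subgroup.subset_closure ⟨ha, P, hc, h⟩

/-- Predicate of the maps `a ∘ f₀` for `a` in a subgroup `H` of `Aut_F(S)`. -/
def AM (F : FusionSystem S) (p : ℕ) (H : Subgroup (MulAut S)) (P : Subgroup Ω) (φ : Ω → Ω) : Prop :=
  ∃ a ∈ H, ∃ f₀, Gen F p P f₀ ∧ ∀ x ∈ P, φ x = afn a (f₀ x)

section AM

variable {H : Subgroup (MulAut S)}

lemma AM.maps (hH : H ≤ F.autGroup S) (h : AM F p H P f) : Maps F P f := by
  obtain ⟨a, ha, f₀, h0, hf⟩ := h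
  have hm := h0.maps
  exact (hm.comp (sAut_of_mem (hH ha)).mA (fun x hx => hm.mem hx)).congr (fun x hx => (hf x hx).symm)

lemma AM.congr (h : AM F p H P f) (hfg : ∀ x ∈ P, f x = g x) : AM F p H P g := by
  obtain ⟨a, ha, f₀, h0, hf⟩ := h
  exact ⟨a, ha, f₀, h0, fun x hx => by rw [← hfg x hx, hf x hx]⟩

lemma AM.of_gen (h : Gen F p P f) : AM F p H P f :=
  ⟨1, Subgroup.one_mem _, f, h, fun x hx => by rw [afn_one (h.maps.mem hx)]⟩

lemma AM.conj {g : Ω} (hP : P ≤ S) (hg : g ∈ S) : AM F p H P (fun x => g * x * g⁻¹) :=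
  AM.of_gen (Gen.conj hP hg)

lemma AM.comp [Finite S] (hH : H ≤ F.autGroup S) {P Q : Subgroup Ω} (hf : AM F p H P f) (hg : AM F p H Q g)
    (h : ∀ x ∈ P, f x ∈ Q) : AM F p H P (g ∘ f) := by
  obtain ⟨a, ha, f₀, h0, hf⟩ := hf
  obtain ⟨b, hb, g₀, h1, hg⟩ := hg
  have hQS := h1.maps.le
  have hs := sAut_of_mem (hH ha)
  have hsi := Gen.conj_aut hs h1
  have hf0 := h0.maps
  refine ⟨b * a, Subgroup.mul_mem _ hb ha, _, Gen.comp h0 hsi (fun x hx => ?_), fun x hx => ?_⟩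
  · have h2 := hs.mem_of_mem hQS (h x hx)
    rwa [hf x hx, hs.ba _ (hf0.mem hx)] at h2
  · have hfx : afn a (f₀ x) ∈ Q := hf x hx ▸ h x hx
    show g (f x) = afn (b * a) (afn a⁻¹ (g₀ (afn a (f₀ x))))
    rw [hf x hx, hg _ hfx, afn_mul _ _ (hs.mB.mem (h1.maps.mem hfx)), hs.ab _ (h1.maps.mem hfx)]

lemma AM.inv [Finite S] (hH : H ≤ F.autGroup S) (hf : AM F p H P f) :
    ∃ g, AM F p H (img f P) g ∧ ∀ x ∈ P, g (f x) = x := by
  have hfm := hf.maps hH
  obtain ⟨g, hg, h1, h2⟩ := hfm.inv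
  refine ⟨g, ?_, h1⟩
  obtain ⟨a, ha, f₀, h0, hff⟩ := hf
  have hf0 := h0.maps
  obtain ⟨k, hk, hk1, hk2⟩ := hf0.inv
  have hgk := Gen.inv h0 hk hk1
  have hs := sAut_of_mem (hH ha)
  have hPS := hf0.le
  have hgk2 := Gen.conj_aut hs.symm hgk
  have e : img (afn a) (img f₀ P) = img f P := by
    ext y
    rw [hs.symm.mem_img hf0.img_le, hfm.mem_img]
    constructor
    · rintro ⟨z, hz, rfl⟩
      obtain ⟨x, hx, rfl⟩ := hf0.mem_img.1 hz
      exact ⟨x, hx, hff x hx⟩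
    · rintro ⟨x, hx, rfl⟩
      exact ⟨f₀ x, hf0.mem_img_of_mem hx, (hff x hx).symm⟩
  rw [e] at hgk2
  refine ⟨a⁻¹, Subgroup.inv_mem _ ha, _, hgk2, fun y hy => ?_⟩
  obtain ⟨x, hx, rfl⟩ := hfm.mem_img.1 hy
  rw [h1 x hx, hff x hx]
  show x = afn a⁻¹ (afn a (k (afn a⁻¹ (afn a (f₀ x)))))
  rw [hs.ba _ (hf0.mem hx), hk1 x hx, hs.ba _ (hPS hx)]

/-- The system `H E₀`. -/
def subSys [Finite S] (F : FusionSystem S) (p : ℕ) (H : Subgroup (MulAut S)) (hH : H ≤ F.autGroup S) :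
    FusionSystem S :=
  ofMaps F (AM F p H) (AM.maps hH) AM.congr AM.conj (AM.comp hH) (AM.inv hH)

lemma maps_subSys [Finite S] {hH : H ≤ F.autGroup S} : Maps (subSys F p H hH) P f ↔ AM F p H P f :=
  maps_ofMaps

end AM

lemma Gen.restrict (h : Gen F p P f) (hR : R ≤ P) : Gen F p R f :=
  (Gen.comp (Gen.conj (hR.trans h.maps.le) S.one_mem) h (fun x hx => by simpa using hR hx)).congr
    (fun x _ => by simp)

/-- An overgroup of a centric subgroup is centric. -/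
lemma IsCentric.mono (hX : F.IsCentric P) (hPQ : P ≤ Q) (hQ : Q ≤ S) : F.IsCentric Q := by
  refine ⟨hQ, fun Q' hQ' c hc => ?_⟩
  obtain ⟨f, hf, rfl⟩ := Cfsg.Agent.Lib.FusionCore.isConj_iff.1 hQ'
  have h1 := hX.2 (img f P) (Cfsg.Agent.Lib.FusionCore.isConj_iff.2 ⟨f, hf.restrict hPQ, rfl⟩)
  refine hf.img_mono hPQ (h1 (mem_centralizerIn.2 ⟨(mem_centralizerIn.1 hc).1, fun x hx => ?_⟩))
  exact (mem_centralizerIn.1 hc).2 x (hf.img_mono hPQ hx)

/-- `S` is centric. -/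
lemma isCentric_top [Finite S] : F.IsCentric S := by
  refine ⟨le_rfl, fun Q hQ c hc => ?_⟩
  have hQS := IsConj_le' hQ
  haveI := finite_of_le hQS
  have : Q = S := Subgroup.eq_of_le_of_card_ge hQS (le_of_eq (IsConj_card hQ))
  rw [this]
  exact (mem_centralizerIn.1 hc).1

/-- A `p`-element of `Aut_F(P)` lies in a subsystem of index prime to `p`. -/
lemma maps_of_pow (hDF : D.HasPrimeToPIndexIn F p) [Fact p.Prime] [Finite S] (hP : P ≤ S) {α : MulAut P}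
    (hα : α ∈ F.autGroup P) {n : ℕ} (hn : α ^ p ^ n = 1) : Maps D P (afn α) := by
  have h1 : (⟨α, hα⟩ : F.autGroup P) ^ p ^ n = 1 := Subtype.ext hn
  obtain ⟨k, -, hk⟩ := (Nat.dvd_prime_pow (Fact.out : p.Prime)).1 (orderOf_dvd_of_pow_eq_one h1)
  exact (mem_autGroup_iff hP).1 (hDF.2 P hP ⟨_, Subgroup.subset_closure ⟨k, hk⟩, rfl⟩)

/-- An automorphism fixing `W` pointwise and centralizing `Y / W` (in the strong form) has order dividing `|W|`. -/
lemma pow_card_eq_one_of_fix {Y W : Subgroup Ω} [Finite W] (α : MulAut Y) (hWY : W ≤ Y)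
    (h1 : ∀ y ∈ W, afn α y = y) (h2 : ∀ y ∈ Y, y⁻¹ * afn α y ∈ W) : α ^ Nat.card W = 1 := by
  have hmul : ∀ x ∈ Y, ∀ y ∈ Y, afn α (x * y) = afn α x * afn α y := by
    intro x hx y hy
    rw [afn_of_mem α (Y.mul_mem hx hy), afn_of_mem α hx, afn_of_mem α hy]
    have : (⟨x * y, Y.mul_mem hx hy⟩ : Y) = ⟨x, hx⟩ * ⟨y, hy⟩ := rfl
    rw [this, map_mul]
    rfl
  have key : ∀ j : ℕ, ∀ y ∈ Y, afn (α ^ j) y = y * (y⁻¹ * afn α y) ^ j := by
    intro j
    induction j with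
    | zero =>
      intro y hy
      rw [pow_zero, pow_zero, afn_one hy, mul_one]
    | succ j ih =>
      intro y hy
      have hz := h2 y hy
      rw [pow_succ', afn_mul _ _ hy, ih y hy, hmul y hy _ (Y.pow_mem (hWY hz) j)]
      have h3 : ∀ i : ℕ, afn α ((y⁻¹ * afn α y) ^ i) = (y⁻¹ * afn α y) ^ i :=
        fun i => h1 _ (W.pow_mem hz i)
      rw [h3 j, pow_succ', ← mul_assoc, mul_inv_cancel_left]
  apply afn_ext
  intro y hy
  rw [key _ y hy, afn_one hy]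
  have hz := h2 y hy
  have h3 : (⟨_, hz⟩ : W) ^ Nat.card W = 1 := pow_card_eq_one'
  have h4 : (y⁻¹ * afn α y) ^ Nat.card W = 1 := congrArg Subtype.val h3
  rw [h4, mul_one]

/-- One step of the lifting argument. -/
theorem lift_step [Finite S] [Fact p.Prime] (hS : IsPGroup p S) (hD : D.IsSaturated p)
    (hDF : D.HasPrimeToPIndexIn F p) {a : MulAut S} (ha : a ∈ F.autGroup S) {X : Subgroup Ω}
    (hX : F.IsCentric X) (hm : Maps D X (afn a)) : Maps D (normalizerIn S X) (afn a) := by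
  have hdf : ∀ {P : Subgroup Ω} {f : Ω → Ω}, Maps D P f → Maps F P f := fun h =>
    ⟨h.hom, hDF.1 _ h.hom_mem, h.hom_apply⟩
  have hs := sAut_of_mem ha
  have hXS := hX.1
  set X' := img (afn a) X with hX'
  have hX'S : X' ≤ S := hm.img_le
  obtain ⟨Q', hQ', hQa, hQr⟩ := hD X' hX'S
  have hQ'S := IsConj_le' hQ'
  obtain ⟨χ, hχ, hχN, hχimg⟩ := exists_normalizer_map hS hQa hQr hQ'
  have hXX' : ∀ x ∈ X, afn a x ∈ X' := fun x hx => hm.mem_img_of_mem hx
  have hX'N : X' ≤ normalizerIn S X' := le_normalizerIn hX'S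
  have hNS : normalizerIn S X ≤ S := inf_le_left
  haveI := finite_of_le hXS
  haveI := finite_of_le hX'S
  have hAN : ∀ n ∈ normalizerIn S X, afn a n ∈ normalizerIn S X' := by
    intro n hn
    obtain ⟨hnS, hnN⟩ := mem_normalizerIn.1 hn
    refine mem_normalizerIn.2 ⟨hs.mA.mem hnS, mem_normalizer_of_conj_mem (fun y hy => ?_)⟩
    obtain ⟨x, hx, rfl⟩ := hm.mem_img.1 hy
    rw [← hs.mA.map_conj hnS (hXS hx)]
    exact hXX' _ ((Subgroup.mem_normalizer_iff.1 hnN x).1 hx)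
  -- the map `κ`
  have hκ : Maps D X (χ ∘ afn a) :=
    hm.comp hχ (fun x hx => hX'N (hXX' x hx))
  have hκimg : img (χ ∘ afn a) X = Q' := by
    rw [← hχimg]
    ext y
    rw [hκ.mem_img, (hχ.restrict hX'N).mem_img]
    constructor
    · rintro ⟨x, hx, rfl⟩
      exact ⟨_, hXX' x hx, rfl⟩
    · rintro ⟨z, hz, rfl⟩
      obtain ⟨x, hx, rfl⟩ := hm.mem_img.1 hz
      exact ⟨x, hx, rfl⟩
  have hχmap : ∀ {z w}, z ∈ normalizerIn S X' → w ∈ normalizerIn S X' →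
      χ (z * w * z⁻¹) = χ z * χ w * (χ z)⁻¹ := fun hz hw => hχ.map_conj hz hw
  have hNNf : normalizerIn S X ≤ Nf S X (χ ∘ afn a) := by
    intro n hn
    obtain ⟨hnS, hnN⟩ := mem_normalizerIn.1 hn
    refine mem_Nf.2 ⟨hnS, hnN, χ (afn a n), hχ.mem (hAN n hn), fun x hx => ?_⟩
    show χ (afn a (n * x * n⁻¹)) = _ * χ (afn a x) * _
    rw [hs.mA.map_conj hnS (hXS hx), hχmap (hAN n hn) (hX'N (hXX' x hx))]
  obtain ⟨k₀, hk₀, hk₀κ⟩ := IsReceptive.ext hQr hκ hκimg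
  have hk := hk₀.restrict hNNf
  have hXN : X ≤ normalizerIn S X := le_normalizerIn hXS
  set Y := img k₀ (normalizerIn S X) with hY
  have hYS : Y ≤ S := hk.img_le
  have hQ'Y : Q' ≤ Y := by
    intro y hy
    rw [← hκimg] at hy
    obtain ⟨x, hx, rfl⟩ := hκ.mem_img.1 hy
    rw [hk.mem_img]
    exact ⟨x, hXN hx, hk₀κ x hx⟩
  -- centrality
  have hQc : F.IsCentric Q' := by
    refine IsCentric_conj hX (Cfsg.Agent.Lib.FusionCore.isConj_iff.2 ⟨_, hdf hκ, hκimg⟩)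
  have hz : ∀ n ∈ normalizerIn S X, (k₀ n)⁻¹ * χ (afn a n) ∈ Q' := by
    intro n hn
    obtain ⟨hnS, hnN⟩ := mem_normalizerIn.1 hn
    have hkS : k₀ n ∈ S := hk.mem hn
    have hχS : χ (afn a n) ∈ S := hχ.mem (hAN n hn)
    refine hQc.2 Q' (isConj_refl hQ'S) (mem_centralizerIn.2 ⟨S.mul_mem (S.inv_mem hkS) hχS, fun y hy => ?_⟩)
    rw [← hκimg] at hy
    obtain ⟨x, hx, rfl⟩ := hκ.mem_img.1 hy
    have hnx : n * x * n⁻¹ ∈ X := (Subgroup.mem_normalizer_iff.1 hnN x).1 hx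
    have h1 : k₀ n * k₀ x * (k₀ n)⁻¹ = χ (afn a n) * χ (afn a x) * (χ (afn a n))⁻¹ := by
      rw [← hk.map_conj hn (hXN hx), hk₀κ _ hnx]
      show χ (afn a (n * x * n⁻¹)) = _
      rw [hs.mA.map_conj hnS (hXS hx), hχmap (hAN n hn) (hX'N (hXX' x hx))]
    rw [hk₀κ x hx] at h1
    change k₀ n * χ (afn a x) * (k₀ n)⁻¹ = _ at h1
    show χ (afn a x) * ((k₀ n)⁻¹ * χ (afn a n)) = ((k₀ n)⁻¹ * χ (afn a n)) * χ (afn a x)
    have h2 : χ (afn a x) * (k₀ n)⁻¹ * χ (afn a n) = (k₀ n)⁻¹ * χ (afn a n) * χ (afn a x) := by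
      have h3 : k₀ n * χ (afn a x) * (k₀ n)⁻¹ * χ (afn a n)
          = χ (afn a n) * χ (afn a x) := by
        rw [h1]; group
      calc χ (afn a x) * (k₀ n)⁻¹ * χ (afn a n)
          = (k₀ n)⁻¹ * (k₀ n * χ (afn a x) * (k₀ n)⁻¹ * χ (afn a n)) := by group
        _ = _ := by rw [h3]; group
    rw [← mul_assoc, h2]
  -- `γ`
  obtain ⟨ki, hki, hki1, hki2⟩ := hk.inv
  rw [← hY] at hki hki2
  have hkiN : ∀ y ∈ Y, ki y ∈ normalizerIn S X := fun y hy => (hki2 y hy).1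
  have hγ : Maps F Y (χ ∘ afn a ∘ ki) :=
    (hdf hki).comp ((hs.mA.restrict hNS).comp (hdf hχ) hAN) hkiN
  have hγv : ∀ n ∈ normalizerIn S X, (χ ∘ afn a ∘ ki) (k₀ n) = χ (afn a n) := by
    intro n hn
    show χ (afn a (ki (k₀ n))) = _
    rw [hki1 n hn]
  have hγY : ∀ y ∈ Y, (χ ∘ afn a ∘ ki) y ∈ Y := by
    intro y hy
    obtain ⟨n, hn, rfl⟩ := hk.mem_img.1 hy
    rw [hγv n hn]
    have h1 := hz n hn
    have h2 := Y.mul_mem hy (hQ'Y h1)
    rwa [mul_inv_cancel_left] at h2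
  have hγimg : img (χ ∘ afn a ∘ ki) Y = Y := img_eq_of_card hγ hYS hYS hγY le_rfl
  have hγfix : ∀ y ∈ Q', afn (hγ.toAut hγimg) y = y := by
    intro y hy
    rw [hγ.afn_toAut hγimg (hQ'Y hy)]
    have hy' := hy
    rw [← hκimg] at hy'
    obtain ⟨x, hx, rfl⟩ := hκ.mem_img.1 hy'
    have e : (χ ∘ afn a) x = k₀ x := (hk₀κ x hx).symm
    rw [e, hγv x (hXN hx)]
    exact (hk₀κ x hx).symm
  have hγz : ∀ y ∈ Y, y⁻¹ * afn (hγ.toAut hγimg) y ∈ Q' := by
    intro y hy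
    rw [hγ.afn_toAut hγimg hy]
    obtain ⟨n, hn, rfl⟩ := hk.mem_img.1 hy
    rw [hγv n hn]
    exact hz n hn
  haveI := finite_of_le hQ'S
  have hγpow := pow_card_eq_one_of_fix (hγ.toAut hγimg) hQ'Y hγfix hγz
  obtain ⟨m, hm'⟩ := (IsPGroup.iff_card.1 (hS.to_le hQ'S) : ∃ m, Nat.card Q' = p ^ m)
  rw [hm'] at hγpow
  have hγD : Maps D Y (afn (hγ.toAut hγimg)) := maps_of_pow hDF hYS (hγ.toAut_mem hγimg) hγpow
  obtain ⟨χi, hχi, hχi1, -⟩ := hχ.inv
  have hcomp : Maps D (normalizerIn S X) (χi ∘ (afn (hγ.toAut hγimg)) ∘ k₀) := by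
    refine hk.comp (hγD.comp hχi (fun y hy => ?_)) (fun n hn => hk.mem_img_of_mem hn)
    rw [hγ.afn_toAut hγimg hy]
    exact hχ.mem_img_of_mem (hAN _ (hkiN y hy))
  refine hcomp.congr (fun n hn => ?_)
  show χi (afn (hγ.toAut hγimg) (k₀ n)) = afn a n
  rw [hγ.afn_toAut hγimg (hk.mem_img_of_mem hn), hγv n hn, hχi1 _ (hAN n hn)]

/-- Lifting an automorphism of `S` from a centric subgroup. -/
theorem lift_aut [Finite S] [Fact p.Prime] (hS : IsPGroup p S) (hD : D.IsSaturated p)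
    (hDF : D.HasPrimeToPIndexIn F p) {a : MulAut S} (ha : a ∈ F.autGroup S) {X : Subgroup Ω}
    (hX : F.IsCentric X) (hm : Maps D X (afn a)) : Maps D S (afn a) := by
  have main : ∀ (n : ℕ) (X : Subgroup Ω), Nat.card S - Nat.card X = n → F.IsCentric X →
      Maps D X (afn a) → Maps D S (afn a) := by
    intro n
    induction' n using Nat.strong_induction_on with n ih
    intro X hn hX hm
    by_cases he : X = S
    · rwa [he] at hm
    have hlt : X < S := lt_of_le_of_ne hX.1 he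
    have hN := Cfsg.Agent.Lib.FusionAlperin.lt_normalizerIn hS hlt
    have hcN : Nat.card X < Nat.card (normalizerIn S X) := by
      haveI : Finite (normalizerIn S X) := finite_of_le inf_le_left
      exact Cfsg.Agent.Lib.FusionAlperin.card_lt_of_lt hN
    have hNS : normalizerIn S X ≤ S := inf_le_left
    have hc2 : Nat.card (normalizerIn S X) ≤ Nat.card S := Subgroup.card_le_of_le hNS
    exact ih (Nat.card S - Nat.card (normalizerIn S X)) (by omega) _ rfl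
      (IsCentric.mono hX hN.le hNS) (lift_step hS hD hDF ha hX hm)
  exact main _ X rfl hX hm

section Sat

variable {H : Subgroup (MulAut S)}

/-- The subsystem `H E₀` is a subsystem. -/
lemma subSys_le [Finite S] {hH : H ≤ F.autGroup S} : (subSys F p H hH).IsSubsystemOf F := by
  intro P φ hφ
  exact (AM.maps hH (maps_subSys.1 (Maps.of_mem hφ))).mem_hom (fun x => (fn_coe φ x).symm)

/-- The `p`-automorphisms of centric subgroups lie in `H E₀`. -/
lemma subSys_index [Finite S] [Fact p.Prime] (hS : IsPGroup p S) (hF : F.IsSaturated p)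
    {hH : H ≤ F.autGroup S} : (subSys F p H hH).HasPrimeToPIndexIn F p := by
  refine ⟨subSys_le, fun P hP => ?_⟩
  rw [Subgroup.map_le_iff_le_comap, Subgroup.closure_le]
  rintro ⟨α, hα⟩ ⟨k, hk⟩
  have h1 : α ^ p ^ k = 1 := by
    rw [← hk]
    exact congrArg Subtype.val (pow_orderOf_eq_one (⟨α, hα⟩ : F.autGroup P))
  exact (mem_autGroup_iff hP).2 (maps_subSys.2 (AM.of_gen (gen_of_pow hS hF hP hα h1)))

/-- A subsystem on the same `S` has `Aut_S(P)` of index at most that in the bigger system. -/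
lemma isFullyAutomized_of_le [Finite S] [Fact p.Prime] (hS : IsPGroup p S) {E F : FusionSystem S}
    (hEF : E.IsSubsystemOf F) (hP : P ≤ S) (hA : F.IsFullyAutomized p P) : E.IsFullyAutomized p P := by
  rw [isFullyAutomized_iff hS hP] at hA ⊢
  intro hd
  apply hA
  have h1 : autInducedBy S P ≤ E.autGroup P := autInducedBy_le_autGroup hP
  have h2 : E.autGroup P ≤ F.autGroup P := by
    intro α hα
    have hm := (mem_autGroup_iff hP).1 hα
    exact (mem_autGroup_iff hP).2 ⟨hm.hom, hEF _ hm.hom_mem, hm.hom_apply⟩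
  have h3 := Subgroup.relIndex_mul_relIndex _ _ _ h1 h2
  have h4 : ((autInducedBy S P).subgroupOf (F.autGroup P)).index = (autInducedBy S P).relIndex (F.autGroup P) := rfl
  have h5 : ((autInducedBy S P).subgroupOf (E.autGroup P)).index = (autInducedBy S P).relIndex (E.autGroup P) := rfl
  rw [h4, ← h3, ← h5]
  exact Dvd.dvd.mul_right hd _

/-- `a⁻¹ b` for `a, b` with the given property on a centric subgroup lies in `Aut0`. -/
lemma mem_of_two [Finite S] {a c : MulAut S} {R : Subgroup Ω} {φ₀ ψ₀ : Ω → Ω} (ha : a ∈ F.autGroup S)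
    (hc : c ∈ F.autGroup S) (hR : F.IsCentric R) (hφ₀ : Gen F p R φ₀) (hψ₀ : Gen F p R ψ₀)
    (he : ∀ x ∈ R, afn a (φ₀ x) = afn c (ψ₀ x)) : a⁻¹ * c ∈ Aut0 F p := by
  have hs := sAut_of_mem ha
  have hψm := hψ₀.maps
  obtain ⟨ψi, hψi, hψi1, hψi2⟩ := hψm.inv
  have hg := Gen.inv hψ₀ hψi hψi1
  have hP' : F.IsCentric (img ψ₀ R) :=
    IsCentric_conj hR (Cfsg.Agent.Lib.FusionCore.isConj_iff.2 ⟨ψ₀, hψm, rfl⟩)
  have h1 : Gen F p (img ψ₀ R) (φ₀ ∘ ψi) := Gen.comp hg hφ₀ (fun y hy => (hψi2 y hy).1)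
  refine mem_Aut0 (Subgroup.mul_mem _ (Subgroup.inv_mem _ ha) hc) hP' (h1.congr (fun y hy => ?_))
  obtain ⟨x, hx, rfl⟩ := hψm.mem_img.1 hy
  show φ₀ (ψi (ψ₀ x)) = afn (a⁻¹ * c) (ψ₀ x)
  rw [hψi1 x hx, afn_mul _ _ (hψm.mem hx), ← he x hx, hs.ba _ (hφ₀.maps.mem hx)]

/-- Subsystems `H E₀` are saturated when `H` contains `Aut⁰`. -/
theorem subSys_saturated [Finite S] [Fact p.Prime] (hS : IsPGroup p S) (hF : F.IsSaturated p)
    (hH : H ≤ F.autGroup S) (h0 : Aut0 F p ≤ H) : (subSys F p H hH).IsSaturated p := by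
  have hEF : ∀ {P : Subgroup Ω} {f : Ω → Ω}, Maps (subSys F p H hH) P f → Maps F P f := fun h =>
    AM.maps hH (maps_subSys.1 h)
  have hIdx := subSys_index (hH := hH) hS hF
  refine Cfsg.Agent.Lib.FusionSatCrit.saturated_of_crit hS (subSys F p H hH) {P | F.IsCentric P}
    ?_ ?_ ?_ ?_
  · intro P hP Q hQ
    obtain ⟨f, hf, rfl⟩ := Cfsg.Agent.Lib.FusionCore.isConj_iff.1 hQ
    exact IsCentric_conj hP (Cfsg.Agent.Lib.FusionCore.isConj_iff.2 ⟨f, hEF hf, rfl⟩)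
  · intro P hP
    have hP' : F.IsCentric P := hP
    have hPS := hP'.1
    obtain ⟨Q₁, hPQ₁, hQ₁n⟩ := exists_fullyNormalized_conj (F := F) hPS
    obtain ⟨f, hf, rfl⟩ := Cfsg.Agent.Lib.FusionCore.isConj_iff.1 hPQ₁
    obtain ⟨a, ha, f₀, h00, hff⟩ := (maps_ofMaps.1 (le_maps (le_bigSys hS hF) hf) : BigM F p P f)
    have hf0 := h00.maps
    have hs := sAut_of_mem ha
    have hQS : img f₀ P ≤ S := hf0.img_le
    haveI := finite_of_le hQS
    have hFPQ : F.IsConj P (img f₀ P) := Cfsg.Agent.Lib.FusionCore.isConj_iff.2 ⟨f₀, hf0, rfl⟩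
    have hn : F.IsFullyNormalized (img f₀ P) := by
      refine ⟨hQS, fun Q'' hQ'' => ?_⟩
      have h1 : F.IsConj (img f P) Q'' := IsConj_trans (IsConj_symm hPQ₁) (IsConj_trans hFPQ hQ'')
      refine (hQ₁n.2 Q'' h1).trans ?_
      refine card_le_of_maps (hs.mB) inf_le_left inf_le_left (fun x hx => ?_)
      obtain ⟨hxS, hxN⟩ := mem_normalizerIn.1 hx
      refine mem_normalizerIn.2 ⟨hs.mB.mem hxS, mem_normalizer_of_conj_mem (fun y hy => ?_)⟩
      obtain ⟨z, hz, rfl⟩ := hf0.mem_img.1 hy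
      have hzS := hf0.mem hz
      have h2 : x * f z * x⁻¹ ∈ img f P :=
        (Subgroup.mem_normalizer_iff.1 hxN _).1 (hf.mem_img_of_mem hz)
      obtain ⟨w, hw, hwe⟩ := hf.mem_img.1 h2
      have h3 : afn a⁻¹ x * f₀ z * (afn a⁻¹ x)⁻¹ = f₀ w := by
        have h4 : f₀ z = afn a⁻¹ (f z) := by
          rw [hff z hz, hs.ba _ hzS]
        rw [h4, ← hs.mB.map_conj hxS (hf.mem hz), ← hwe, hff w hw, hs.ba _ (hf0.mem hw)]
      rw [h3]
      exact hf0.mem_img_of_mem hw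
    obtain ⟨hFc, hFa⟩ := of_fullyNormalized hS hF hn
    have hFr := receptive_of_fullyCentralized hS hF hFc
    refine ⟨img f₀ P, Cfsg.Agent.Lib.FusionCore.isConj_iff.2
      ⟨f₀, maps_subSys.2 (AM.of_gen h00), rfl⟩, isFullyAutomized_of_le hS subSys_le hQS hFa,
      isReceptive_of hQS (fun R φ hφ himg => ?_)⟩
    obtain ⟨b, hb, φ₀, hφ₀, hφe⟩ := maps_subSys.1 hφ
    have hφF := hEF hφ
    obtain ⟨ψ, hψ, hψφ⟩ := IsReceptive.ext hFr hφF himg
    obtain ⟨c, hc, ψ₀, hψ₀, hψe⟩ := (maps_ofMaps.1 (le_maps (le_bigSys hS hF) hψ) : BigM F p _ ψ)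
    refine ⟨ψ, maps_subSys.2 ⟨c, ?_, ψ₀, hψ₀, hψe⟩, hψφ⟩
    have hRN : R ≤ Nf S R φ := le_Nf hφF
    have hRc : F.IsCentric R :=
      IsCentric_conj hP' (IsConj_trans hFPQ (IsConj_symm
        (Cfsg.Agent.Lib.FusionCore.isConj_iff.2 ⟨φ, hφF, himg⟩)))
    have h5 := mem_of_two (hH hb) hc hRc hφ₀ (Gen.restrict hψ₀ hRN) (fun x hx => by
      rw [← hφe x hx, ← hψφ x hx, hψe x (hRN hx)])
    have h6 := H.mul_mem hb (h0 h5)
    rwa [mul_inv_cancel_left] at h6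
  · intro E' h
    intro P φ hφ
    have hm : Maps (subSys F p H hH) P (fn φ) := Maps.of_mem hφ
    obtain ⟨a, ha, f₀, h00, hff⟩ := maps_subSys.1 hm
    have hgen : ∀ P, F.IsCentric P → ∀ α ∈ F.autGroup P, (∃ n : ℕ, α ^ p ^ n = 1) → Maps E' P (afn α) := by
      intro P hc α hα hn
      have hm : Maps (subSys F p H hH) P (afn α) := maps_subSys.2 (AM.of_gen (Gen.gen hc hα hn le_rfl))
      exact ⟨hm.hom, h P hc hm.hom_mem, hm.hom_apply⟩
    have h1 := Gen.subsys hgen h00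
    have h2 : Maps E' S (afn a) := by
      have hm : Maps (subSys F p H hH) S (afn a) := maps_subSys.2 ⟨a, ha, _root_.id,
        (Gen.conj le_rfl S.one_mem).congr (fun x _ => by simp), fun x _ => rfl⟩
      exact ⟨hm.hom, h S isCentric_top hm.hom_mem, hm.hom_apply⟩
    exact (h1.comp h2 (fun x hx => h1.mem hx)).mem_hom (fun x => (fn_coe φ x).symm.trans (hff x x.2))
  · intro P hc hP
    exfalso
    apply hP
    have hgen : ∀ P : Subgroup Ω, F.IsCentric P → (Subgroup.closure {α : ↥(F.autGroup P) | ∃ k : ℕ, orderOf α = p ^ k}).map (F.autGroup P).subtype ≤ (subSys F p H hH).autGroup P :=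
      fun P hP => hIdx.2 P hP.1
    exact ((main hS hF _ subSys_le hgen).2.2 P).1 hc

/-- Automorphisms in `Aut0` lie in every saturated subsystem of index prime to `p`. -/
theorem Aut0_le_of_index [Finite S] [Fact p.Prime] (hS : IsPGroup p S) (hD : D.IsSaturated p)
    (hDF : D.HasPrimeToPIndexIn F p) : Aut0 F p ≤ D.autGroup S := by
  rw [Aut0, Subgroup.closure_le]
  rintro a ⟨ha, X, hX, h⟩
  have hgen : ∀ P, F.IsCentric P → ∀ α ∈ F.autGroup P, (∃ n : ℕ, α ^ p ^ n = 1) → Maps D P (afn α) := by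
    rintro P hc α hα ⟨n, hn⟩
    exact maps_of_pow hDF hc.1 hα hn
  exact (mem_autGroup_iff le_rfl).2 (lift_aut hS hD hDF ha hX (Gen.subsys hgen h))

/-- Existence of the `p'`-residual. -/
theorem exists_res [Finite S] [Fact p.Prime] (hS : IsPGroup p S) (hF : F.IsSaturated p) :
    F.IsPPrimeResidual p (subSys F p (Aut0 F p) Aut0_le) := by
  refine ⟨subSys_saturated hS hF _ le_rfl, subSys_index hS hF, fun D hD hDF P φ hφ => ?_⟩
  have hm : Maps (subSys F p (Aut0 F p) Aut0_le) P (fn φ) := Maps.of_mem hφ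
  obtain ⟨a, ha, f₀, h00, hff⟩ := maps_subSys.1 hm
  have hgen : ∀ P, F.IsCentric P → ∀ α ∈ F.autGroup P, (∃ n : ℕ, α ^ p ^ n = 1) → Maps D P (afn α) := by
    rintro P hc α hα ⟨n, hn⟩
    exact maps_of_pow hDF hc.1 hα hn
  have h1 := Gen.subsys hgen h00
  have h2 := (mem_autGroup_iff le_rfl).1 (Aut0_le_of_index hS hD hDF ha)
  exact (h1.comp h2 (fun x hx => h1.mem hx)).mem_hom (fun x => (fn_coe φ x).symm.trans (hff x x.2))

end Sat

end Cfsg.Agent.Lib.FusionPPrimeRes
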