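/-
FusionPPrimeMin: `O^{p'}(E)` is contained in every normal subsystem of `F` over `T` (S5142).
-/
import Mathlib
import Cfsg.Agent.Lib.FusionPPrimeRes
import Cfsg.Agent.Lib.FusionInvariant
import Cfsg.Agent.Lib.FusionAbelianDecomp

set_option autoImplicit false

namespace Cfsg.Agent.Lib.FusionPPrimeMin

open Cfsg Cfsg.FusionSystem Cfsg.Agent.Lib.FusionCore Cfsg.Agent.Lib.FusionCore2
open Cfsg.Agent.Lib.FusionIndexPrime Cfsg.Agent.Lib.FusionPPrimeRes Cfsg.Agent.Lib.FusionInvariant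

variable {Ω : Type*} [Group Ω] {S T : Subgroup Ω} {P Q R : Subgroup Ω} {f g : Ω → Ω}
variable {p : ℕ}

lemma afn_map_mul' (α : MulAut T) {x y : Ω} (hx : x ∈ T) (hy : y ∈ T) :
    afn α (x * y) = afn α x * afn α y := Cfsg.Agent.Lib.FusionSatCrit.afn_map_mul α hx hy

lemma afn_map_inv' (α : MulAut T) {x : Ω} (hx : x ∈ T) : afn α x⁻¹ = (afn α x)⁻¹ := by
  rw [eq_inv_iff_mul_eq_one, ← afn_map_mul' α (T.inv_mem hx) hx, inv_mul_cancel, afn_of_mem α T.one_mem]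
  have : (⟨1, T.one_mem⟩ : T) = 1 := rfl
  rw [this, _root_.map_one]
  rfl

lemma afn_map_conj' (α : MulAut T) {x y : Ω} (hx : x ∈ T) (hy : y ∈ T) :
    afn α (x * y * x⁻¹) = afn α x * afn α y * (afn α x)⁻¹ := by
  rw [afn_map_mul' α (T.mul_mem hx hy) (T.inv_mem hx), afn_map_mul' α hx hy, afn_map_inv' α hx]

lemma mem_img_afn' (hP : P ≤ T) (a : MulAut T) {y : Ω} : y ∈ img (afn a) P ↔ ∃ x ∈ P, afn a x = y := by
  rw [← map_subgroupOf_afn hP a]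
  constructor
  · rintro ⟨⟨x, hxT⟩, hx, rfl⟩
    exact ⟨x, Subgroup.mem_subgroupOf.1 hx, by rw [afn_of_mem a hxT]; rfl⟩
  · rintro ⟨x, hx, rfl⟩
    refine ⟨⟨x, hP hx⟩, Subgroup.mem_subgroupOf.2 hx, ?_⟩
    rw [afn_of_mem a (hP hx)]
    rfl

lemma img_afn_le (hP : P ≤ T) (a : MulAut T) : img (afn a) P ≤ T := by
  intro y hy
  obtain ⟨x, hx, rfl⟩ := (mem_img_afn' hP a).1 hy
  exact afn_mem a (hP hx)

section LemmaK

variable {O : FusionSystem T} {L : Subgroup (MulAut T)}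

/-- `L` normalizes the system `O`. -/
def NormBy (O : FusionSystem T) (L : Subgroup (MulAut T)) : Prop :=
  ∀ l ∈ L, ∀ {P : Subgroup Ω} {f : Ω → Ω}, Maps O P f → Maps O (img (afn l⁻¹) P) (afn l⁻¹ ∘ f ∘ afn l)

lemma NormBy.inv (h : NormBy O L) {l : MulAut T} (hl : l ∈ L) (hf : Maps O P f) :
    Maps O (img (afn l) P) (afn l ∘ f ∘ afn l⁻¹) := by
  have := h l⁻¹ (L.inv_mem hl) hf
  rwa [inv_inv] at this

/-- Independence of the choice in the `O`-class. -/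
lemma indep (hn : NormBy O L) {l : MulAut T} (hl : l ∈ L) {Y : Subgroup Ω} (h : Maps O Y (afn l))
    {ω : Ω → Ω} (hω : Maps O Y ω) : Maps O (img ω Y) (afn l) := by
  have hYT := hω.le
  obtain ⟨ωi, hωi, hωi1, hωi2⟩ := hω.inv
  have hω' := hn.inv hl hω
  have hcomp : Maps O (img ω Y) ((afn l ∘ ω ∘ afn l⁻¹) ∘ afn l ∘ ωi) :=
    hωi.comp (h.comp hω' (fun x hx => (mem_img_afn' hYT l).2 ⟨x, hx, rfl⟩)) (fun y hy => (hωi2 y hy).1)
  refine hcomp.congr (fun y hy => ?_)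
  obtain ⟨x, hx, rfl⟩ := hω.mem_img.1 hy
  show afn l (ω (afn l⁻¹ (afn l (ωi (ω x))))) = _
  rw [hωi1 x hx, afn_inv_afn _ (hYT hx)]

/-- The subgroup `Z_Y`. -/
def ZZ (O : FusionSystem T) (L : Subgroup (MulAut T)) (hn : NormBy O L) (Y : Subgroup Ω) (hY : Y ≤ T) :
    Subgroup (MulAut T) where
  carrier := {l | l ∈ L ∧ Maps O Y (afn l)}
  one_mem' := ⟨L.one_mem, (Maps.id hY).congr (fun x hx => (afn_one (hY hx)).symm)⟩
  mul_mem' := by
    rintro a b ⟨ha, hma⟩ ⟨hb, hmb⟩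
    refine ⟨L.mul_mem ha hb, ?_⟩
    have h1 := indep hn ha hma hmb
    refine (hmb.comp h1 (fun x hx => hmb.mem_img_of_mem hx)).congr (fun x hx => ?_)
    exact (afn_mul _ _ (hY hx)).symm
  inv_mem' := by
    rintro a ⟨ha, hma⟩
    refine ⟨L.inv_mem ha, ?_⟩
    obtain ⟨g, hg, hg1, hg2⟩ := hma.inv
    have h1 : Maps O (img (afn a) Y) (afn a⁻¹) := by
      refine hg.congr (fun y hy => ?_)
      obtain ⟨x, hx, rfl⟩ := hma.mem_img.1 hy
      rw [hg1 x hx, afn_inv_afn _ (hY hx)]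
    have h2 := indep hn (L.inv_mem ha) h1 h1
    have e : img (afn a⁻¹) (img (afn a) Y) = Y := by
      ext y
      rw [h1.mem_img]
      constructor
      · rintro ⟨z, hz, rfl⟩
        obtain ⟨x, hx, rfl⟩ := hma.mem_img.1 hz
        rwa [afn_inv_afn _ (hY hx)]
      · intro hy
        exact ⟨afn a y, hma.mem_img_of_mem hy, afn_inv_afn _ (hY hy)⟩
    rwa [e] at h2

lemma mem_ZZ {hn : NormBy O L} {Y : Subgroup Ω} {hY : Y ≤ T} {l : MulAut T} :
    l ∈ ZZ O L hn Y hY ↔ l ∈ L ∧ Maps O Y (afn l) := Iff.rfl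

/-- Coprime powers. -/
lemma mem_of_coprime_pow {G : Type*} [Group G] {H : Subgroup G} {x : G} {a b : ℕ} (hab : Nat.Coprime a b)
    (ha : x ^ a ∈ H) (hb : x ^ b ∈ H) : x ∈ H := by
  have h := Nat.gcd_eq_gcd_ab a b
  rw [hab] at h
  have h1 : x = (x ^ a) ^ (Nat.gcdA a b) * (x ^ b) ^ (Nat.gcdB a b) := by
    rw [← zpow_natCast, ← zpow_natCast, ← zpow_mul, ← zpow_mul, ← zpow_add, ← h]
    simp
  rw [h1]
  exact H.mul_mem (H.zpow_mem ha _) (H.zpow_mem hb _)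

/-- **Lemma K**: a `p`-element of `Aut_K(Y)`, for `K = L O` lies in `Aut_O(Y)`, whenever `O` contains the
`p`-elements of `L`. -/
theorem lemmaK [Finite T] [Fact p.Prime] (hn : NormBy O L)
    (hp : ∀ l ∈ L, ∀ e : ℕ, l ^ p ^ e = 1 → Maps O T (afn l))
    {Y : Subgroup Ω} (hY : Y ≤ T) {γ : MulAut Y} {m : ℕ} (hγ : γ ^ p ^ m = 1) {l : MulAut T} (hl : l ∈ L)
    {ω : Ω → Ω} (hω : Maps O Y ω) (he : ∀ y ∈ Y, afn γ y = afn l (ω y)) : Maps O Y (afn γ) := by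
  have hpowL : ∀ j : ℕ, l ^ j ∈ L := fun j => L.pow_mem hl j
  -- powers
  have key : ∀ j : ℕ, ∃ ωj, Maps O Y ωj ∧ ∀ y ∈ Y, afn (γ ^ j) y = afn (l ^ j) (ωj y) := by
    intro j
    induction j with
    | zero =>
      refine ⟨_root_.id, Maps.id hY, fun y hy => ?_⟩
      rw [pow_zero, pow_zero, afn_one hy]
      show y = afn 1 y
      rw [afn_one (hY hy)]
    | succ j ih =>
      obtain ⟨ωj, hωj, hj⟩ := ih
      have hω' := hn (l ^ j) (hpowL j) hω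
      have hmem : ∀ y ∈ Y, ωj y ∈ img (afn (l ^ j)⁻¹) Y := by
        intro y hy
        refine (mem_img_afn' hY _).2 ⟨afn (γ ^ j) y, afn_mem _ hy, ?_⟩
        rw [hj y hy, afn_inv_afn _ (hωj.mem hy)]
      refine ⟨_, hωj.comp hω' hmem, fun y hy => ?_⟩
      have hy2 : afn (γ ^ j) y ∈ Y := afn_mem _ hy
      have hy3 : ω (afn (γ ^ j) y) ∈ T := hω.mem hy2
      show _ = afn (l ^ (j + 1)) (afn (l ^ j)⁻¹ (ω (afn (l ^ j) (ωj y))))
      have hy4 : ω (afn (l ^ j) (ωj y)) ∈ T := by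
        rw [← hj y hy]
        exact hy3
      rw [pow_succ' γ, afn_mul _ _ hy, he _ hy2, pow_succ' l, afn_mul _ _ (afn_mem _ hy4),
        afn_afn_inv _ hy4, hj y hy]
  obtain ⟨ωq, hωq, hq⟩ := key (p ^ m)
  have h1 : (l ^ p ^ m)⁻¹ ∈ ZZ O L hn Y hY := by
    refine ⟨L.inv_mem (hpowL _), hωq.congr (fun y hy => ?_)⟩
    have h2 := hq y hy
    rw [hγ, afn_one hy] at h2
    conv_rhs => rw [h2]
    rw [afn_inv_afn _ (hωq.mem hy)]
  have h2 : l ^ p ^ m ∈ ZZ O L hn Y hY := by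
    have := Subgroup.inv_mem _ h1
    rwa [inv_inv] at this
  haveI : Finite (MulAut T) := finite_mulAut (S := T) le_rfl
  have hord : orderOf l ≠ 0 := (orderOf_pos l).ne'
  have hpp : p.Prime := Fact.out
  obtain ⟨e, n', hn', hnn⟩ := Nat.exists_eq_pow_mul_and_not_dvd hord p hpp.ne_one
  have h3 : l ^ n' ∈ ZZ O L hn Y hY := by
    refine ⟨hpowL _, (hp _ (hpowL _) e ?_).restrict hY⟩
    rw [← pow_mul, mul_comm, ← hnn, pow_orderOf_eq_one]
  have hcop : Nat.Coprime n' (p ^ m) :=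
    Nat.Coprime.pow_right _ ((Nat.Prime.coprime_iff_not_dvd hpp).2 hn').symm
  have h4 := mem_of_coprime_pow hcop h3 h2
  exact (hω.comp (indep hn hl h4.2 hω) (fun y hy => hω.mem_img_of_mem hy)).congr
    (fun y hy => (he y hy).symm)

/-- Maps `l ∘ ω`. -/
def KM (O : FusionSystem T) (L : Subgroup (MulAut T)) (P : Subgroup Ω) (f : Ω → Ω) : Prop :=
  ∃ l ∈ L, ∃ ω, Maps O P ω ∧ ∀ x ∈ P, f x = afn l (ω x)

lemma KM.of_maps (h : Maps O P f) : KM O L P f :=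
  ⟨1, L.one_mem, f, h, fun x hx => (afn_one (h.mem hx)).symm⟩

lemma KM.of_aut {l : MulAut T} (hl : l ∈ L) (hP : P ≤ T) : KM O L P (afn l) :=
  ⟨l, hl, _root_.id, Maps.id hP, fun _ _ => rfl⟩

lemma KM.comp (hn : NormBy O L) {P Q : Subgroup Ω} (hf : KM O L P f) (hg : KM O L Q g)
    (h : ∀ x ∈ P, f x ∈ Q) : KM O L P (g ∘ f) := by
  obtain ⟨a, ha, f₀, h0, hf⟩ := hf
  obtain ⟨b, hb, g₀, h1, hg⟩ := hg
  have hQT := h1.le
  have h2 := hn a ha h1
  have hmem : ∀ x ∈ P, f₀ x ∈ img (afn a⁻¹) Q := by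
    intro x hx
    refine (mem_img_afn' hQT _).2 ⟨f x, h x hx, ?_⟩
    rw [hf x hx, afn_inv_afn _ (h0.mem hx)]
  refine ⟨b * a, L.mul_mem hb ha, _, h0.comp h2 hmem, fun x hx => ?_⟩
  have hfx : afn a (f₀ x) ∈ Q := hf x hx ▸ h x hx
  have h3 := h1.mem hfx
  show g (f x) = afn (b * a) (afn a⁻¹ (g₀ (afn a (f₀ x))))
  rw [hf x hx, hg _ hfx, afn_mul _ _ (afn_mem _ h3), afn_afn_inv _ h3]

end LemmaK

section Lift

variable {F : FusionSystem S} {D O : FusionSystem T} {L : Subgroup (MulAut T)}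

/-- Subgroups all of whose `F`-conjugates are `T`-centric. -/
def TC (F : FusionSystem S) (T X : Subgroup Ω) : Prop :=
  X ≤ T ∧ ∀ Q', F.IsConj X Q' → centralizerIn T Q' ≤ Q'

lemma TC.mono {X N : Subgroup Ω} (hX : TC F T X) (hXN : X ≤ N) (hN : N ≤ T) : TC F T N := by
  refine ⟨hN, fun Q' hQ' c hc => ?_⟩
  obtain ⟨f, hf, rfl⟩ := Cfsg.Agent.Lib.FusionCore.isConj_iff.1 hQ'
  have h1 := hX.2 (img f X) (Cfsg.Agent.Lib.FusionCore.isConj_iff.2 ⟨f, hf.restrict hXN, rfl⟩)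
  refine hf.img_mono hXN (h1 (mem_centralizerIn.2 ⟨(mem_centralizerIn.1 hc).1, fun x hx => ?_⟩))
  exact (mem_centralizerIn.1 hc).2 x (hf.img_mono hXN hx)

/-- One step of the lifting argument. -/
theorem lift_stepK [Finite S] [Fact p.Prime] (hT : IsPGroup p T) (hTS : T ≤ S)
    (hDF : D.IsSubsystemOf F) (hD : D.IsSaturated p)
    (hOD : ∀ {P : Subgroup Ω} {f : Ω → Ω}, Maps O P f → Maps D P f)
    (hDK : ∀ {P : Subgroup Ω} {f : Ω → Ω}, Maps D P f → KM O L P f)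
    (hn : NormBy O L) (hp : ∀ l ∈ L, ∀ e : ℕ, l ^ p ^ e = 1 → Maps O T (afn l))
    (hLF : L ≤ F.autGroup T) {a : MulAut T} (haL : a ∈ L) {X : Subgroup Ω}
    (hX : TC F T X) (hm : Maps D X (afn a)) : Maps D (normalizerIn T X) (afn a) := by
  haveI : Finite T := finite_of_le hTS
  have hdf : ∀ {P : Subgroup Ω} {f : Ω → Ω}, Maps D P f → Maps F P f := fun h =>
    ⟨h.hom, hDF _ h.hom_mem, h.hom_apply⟩
  have hs : Maps F T (afn a) := (mem_autGroup_iff hTS).1 (hLF haL)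
  have hXS := hX.1
  set X' := img (afn a) X with hX'
  have hX'S : X' ≤ T := hm.img_le
  obtain ⟨Q', hQ', hQa, hQr⟩ := hD X' hX'S
  have hQ'S := IsConj_le' hQ'
  obtain ⟨χ, hχ, hχN, hχimg⟩ := exists_normalizer_map hT hQa hQr hQ'
  have hXX' : ∀ x ∈ X, afn a x ∈ X' := fun x hx => hm.mem_img_of_mem hx
  have hX'N : X' ≤ normalizerIn T X' := le_normalizerIn hX'S
  have hNS : normalizerIn T X ≤ T := inf_le_left
  haveI := finite_of_le hXS
  haveI := finite_of_le hX'S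
  have hAN : ∀ n ∈ normalizerIn T X, afn a n ∈ normalizerIn T X' := by
    intro n hn
    obtain ⟨hnS, hnN⟩ := mem_normalizerIn.1 hn
    refine mem_normalizerIn.2 ⟨afn_mem a hnS, mem_normalizer_of_conj_mem (fun y hy => ?_)⟩
    obtain ⟨x, hx, rfl⟩ := hm.mem_img.1 hy
    rw [← afn_map_conj' a hnS (hXS hx)]
    exact hXX' _ ((Subgroup.mem_normalizer_iff.1 hnN x).1 hx)
  -- the map `κ`
  have hκ : Maps D X (χ ∘ afn a) :=
    hm.comp hχ (fun x hx => hX'N (hXX' x hx))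
  have hκimg : img (χ ∘ afn a) X = Q' := by
    rw [← hχimg]
    ext y
    rw [hκ.mem_img, (hχ.restrict hX'N).mem_img]
    constructor
    · rintro ⟨x, hx, rfl⟩
      exact ⟨_, hXX' x hx, rfl⟩
    · rintro ⟨z, hz, rfl⟩
      obtain ⟨x, hx, rfl⟩ := hm.mem_img.1 hz
      exact ⟨x, hx, rfl⟩
  have hχmap : ∀ {z w}, z ∈ normalizerIn T X' → w ∈ normalizerIn T X' →
      χ (z * w * z⁻¹) = χ z * χ w * (χ z)⁻¹ := fun hz hw => hχ.map_conj hz hw
  have hNNf : normalizerIn T X ≤ Nf T X (χ ∘ afn a) := by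
    intro n hn
    obtain ⟨hnS, hnN⟩ := mem_normalizerIn.1 hn
    refine mem_Nf.2 ⟨hnS, hnN, χ (afn a n), hχ.mem (hAN n hn), fun x hx => ?_⟩
    show χ (afn a (n * x * n⁻¹)) = _ * χ (afn a x) * _
    rw [afn_map_conj' a hnS (hXS hx), hχmap (hAN n hn) (hX'N (hXX' x hx))]
  obtain ⟨k₀, hk₀, hk₀κ⟩ := IsReceptive.ext hQr hκ hκimg
  have hk := hk₀.restrict hNNf
  have hXN : X ≤ normalizerIn T X := le_normalizerIn hXS
  set Y := img k₀ (normalizerIn T X) with hY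
  have hYT : Y ≤ T := hk.img_le
  have hYS : Y ≤ S := hYT.trans hTS
  have hQ'Y : Q' ≤ Y := by
    intro y hy
    rw [← hκimg] at hy
    obtain ⟨x, hx, rfl⟩ := hκ.mem_img.1 hy
    rw [hk.mem_img]
    exact ⟨x, hXN hx, hk₀κ x hx⟩
  -- centrality
  have hQc : centralizerIn T Q' ≤ Q' :=
    hX.2 Q' (Cfsg.Agent.Lib.FusionCore.isConj_iff.2 ⟨_, hdf hκ, hκimg⟩)
  have hz : ∀ n ∈ normalizerIn T X, (k₀ n)⁻¹ * χ (afn a n) ∈ Q' := by
    intro n hn
    obtain ⟨hnS, hnN⟩ := mem_normalizerIn.1 hn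
    have hkS : k₀ n ∈ T := hk.mem hn
    have hχS : χ (afn a n) ∈ T := hχ.mem (hAN n hn)
    refine hQc (mem_centralizerIn.2 ⟨T.mul_mem (T.inv_mem hkS) hχS, fun y hy => ?_⟩)
    rw [← hκimg] at hy
    obtain ⟨x, hx, rfl⟩ := hκ.mem_img.1 hy
    have hnx : n * x * n⁻¹ ∈ X := (Subgroup.mem_normalizer_iff.1 hnN x).1 hx
    have h1 : k₀ n * k₀ x * (k₀ n)⁻¹ = χ (afn a n) * χ (afn a x) * (χ (afn a n))⁻¹ := by
      rw [← hk.map_conj hn (hXN hx), hk₀κ _ hnx]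
      show χ (afn a (n * x * n⁻¹)) = _
      rw [afn_map_conj' a hnS (hXS hx), hχmap (hAN n hn) (hX'N (hXX' x hx))]
    rw [hk₀κ x hx] at h1
    change k₀ n * χ (afn a x) * (k₀ n)⁻¹ = _ at h1
    show χ (afn a x) * ((k₀ n)⁻¹ * χ (afn a n)) = ((k₀ n)⁻¹ * χ (afn a n)) * χ (afn a x)
    have h2 : χ (afn a x) * (k₀ n)⁻¹ * χ (afn a n) = (k₀ n)⁻¹ * χ (afn a n) * χ (afn a x) := by
      have h3 : k₀ n * χ (afn a x) * (k₀ n)⁻¹ * χ (afn a n)
          = χ (afn a n) * χ (afn a x) := by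
        rw [h1]; group
      calc χ (afn a x) * (k₀ n)⁻¹ * χ (afn a n)
          = (k₀ n)⁻¹ * (k₀ n * χ (afn a x) * (k₀ n)⁻¹ * χ (afn a n)) := by group
        _ = _ := by rw [h3]; group
    rw [← mul_assoc, h2]
  -- `γ`
  obtain ⟨ki, hki, hki1, hki2⟩ := hk.inv
  rw [← hY] at hki hki2
  have hkiN : ∀ y ∈ Y, ki y ∈ normalizerIn T X := fun y hy => (hki2 y hy).1
  have hγ : Maps F Y (χ ∘ afn a ∘ ki) :=
    (hdf hki).comp ((hs.restrict hNS).comp (hdf hχ) hAN) hkiN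
  have hKM : KM O L Y ((χ ∘ afn a) ∘ ki) :=
    KM.comp hn (hDK hki) (KM.comp hn (KM.of_aut haL hNS) (hDK hχ) hAN) hkiN
  have hγv : ∀ n ∈ normalizerIn T X, (χ ∘ afn a ∘ ki) (k₀ n) = χ (afn a n) := by
    intro n hn
    show χ (afn a (ki (k₀ n))) = _
    rw [hki1 n hn]
  have hγY : ∀ y ∈ Y, (χ ∘ afn a ∘ ki) y ∈ Y := by
    intro y hy
    obtain ⟨n, hn, rfl⟩ := hk.mem_img.1 hy
    rw [hγv n hn]
    have h1 := hz n hn
    have h2 := Y.mul_mem hy (hQ'Y h1)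
    rwa [mul_inv_cancel_left] at h2
  have hγimg : img (χ ∘ afn a ∘ ki) Y = Y := img_eq_of_card hγ hYS hYS hγY le_rfl
  have hγfix : ∀ y ∈ Q', afn (hγ.toAut hγimg) y = y := by
    intro y hy
    rw [hγ.afn_toAut hγimg (hQ'Y hy)]
    have hy' := hy
    rw [← hκimg] at hy'
    obtain ⟨x, hx, rfl⟩ := hκ.mem_img.1 hy'
    have e : (χ ∘ afn a) x = k₀ x := (hk₀κ x hx).symm
    rw [e, hγv x (hXN hx)]
    exact (hk₀κ x hx).symm
  have hγz : ∀ y ∈ Y, y⁻¹ * afn (hγ.toAut hγimg) y ∈ Q' := by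
    intro y hy
    rw [hγ.afn_toAut hγimg hy]
    obtain ⟨n, hn, rfl⟩ := hk.mem_img.1 hy
    rw [hγv n hn]
    exact hz n hn
  haveI := finite_of_le hQ'S
  have hγpow := pow_card_eq_one_of_fix (hγ.toAut hγimg) hQ'Y hγfix hγz
  obtain ⟨m, hm'⟩ := (IsPGroup.iff_card.1 (hT.to_le hQ'S) : ∃ m, Nat.card Q' = p ^ m)
  rw [hm'] at hγpow
  obtain ⟨l, hl, ω, hω, hle⟩ := hKM
  have hγD : Maps D Y (afn (hγ.toAut hγimg)) :=
    hOD (lemmaK hn hp hYT hγpow hl hω (fun y hy => by rw [hγ.afn_toAut hγimg hy]; exact hle y hy))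
  obtain ⟨χi, hχi, hχi1, -⟩ := hχ.inv
  have hcomp : Maps D (normalizerIn T X) (χi ∘ (afn (hγ.toAut hγimg)) ∘ k₀) := by
    refine hk.comp (hγD.comp hχi (fun y hy => ?_)) (fun n hn => hk.mem_img_of_mem hn)
    rw [hγ.afn_toAut hγimg hy]
    exact hχ.mem_img_of_mem (hAN _ (hkiN y hy))
  refine hcomp.congr (fun n hn => ?_)
  show χi (afn (hγ.toAut hγimg) (k₀ n)) = afn a n
  rw [hγ.afn_toAut hγimg (hk.mem_img_of_mem hn), hγv n hn, hχi1 _ (hAN n hn)]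

/-- Lifting an automorphism of `T` from a `T`-centric subgroup. -/
theorem lift_autK [Finite S] [Fact p.Prime] (hT : IsPGroup p T) (hTS : T ≤ S)
    (hDF : D.IsSubsystemOf F) (hD : D.IsSaturated p)
    (hOD : ∀ {P : Subgroup Ω} {f : Ω → Ω}, Maps O P f → Maps D P f)
    (hDK : ∀ {P : Subgroup Ω} {f : Ω → Ω}, Maps D P f → KM O L P f)
    (hn : NormBy O L) (hp : ∀ l ∈ L, ∀ e : ℕ, l ^ p ^ e = 1 → Maps O T (afn l))
    (hLF : L ≤ F.autGroup T) {a : MulAut T} (haL : a ∈ L) {X : Subgroup Ω}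
    (hX : TC F T X) (hm : Maps D X (afn a)) : Maps D T (afn a) := by
  haveI : Finite T := finite_of_le hTS
  have main : ∀ (n : ℕ) (X : Subgroup Ω), Nat.card T - Nat.card X = n → TC F T X →
      Maps D X (afn a) → Maps D T (afn a) := by
    intro n
    induction' n using Nat.strong_induction_on with n ih
    intro X hn' hX hm
    by_cases he : X = T
    · rwa [he] at hm
    have hlt : X < T := lt_of_le_of_ne hX.1 he
    have hN := Cfsg.Agent.Lib.FusionAlperin.lt_normalizerIn hT hlt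
    have hcN : Nat.card X < Nat.card (normalizerIn T X) := by
      haveI : Finite (normalizerIn T X) := finite_of_le inf_le_left
      exact Cfsg.Agent.Lib.FusionAlperin.card_lt_of_lt hN
    have hNS : normalizerIn T X ≤ T := inf_le_left
    have hc2 : Nat.card (normalizerIn T X) ≤ Nat.card T := Subgroup.card_le_of_le hNS
    exact ih (Nat.card T - Nat.card (normalizerIn T X)) (by omega) _ rfl
      (TC.mono hX hN.le hNS) (lift_stepK hT hTS hDF hD hOD hDK hn hp hLF haL hX hm)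
  exact main _ X rfl hX hm

end Lift

section App

variable {F : FusionSystem S} {E D' : FusionSystem T}

/-- `p`-elements of `Aut_E(P)` lie in `D'`, for `E` saturated and `D'` having the Frattini property. -/
lemma pel_transfer [Finite T] [Fact p.Prime] (hT : IsPGroup p T) (hE : E.IsSaturated p)
    (hEF : E.IsSubsystemOf F) (hfr : Frat F D') (hPT : P ≤ T) {τ : MulAut P} (hτ : τ ∈ E.autGroup P)
    {n : ℕ} (hn : τ ^ p ^ n = 1) : Maps D' P (afn τ) := by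
  obtain ⟨Q, hPQ, hQn⟩ := exists_fullyNormalized_conj (F := E) hPT
  obtain ⟨-, hQa⟩ := of_fullyNormalized hT hE hQn
  have hW : IsPGroup p (Subgroup.zpowers τ) := by
    rintro ⟨g, hg⟩
    obtain ⟨z, rfl⟩ := Subgroup.mem_zpowers_iff.1 hg
    refine ⟨n, Subtype.ext ?_⟩
    show (τ ^ z) ^ p ^ n = 1
    rw [← zpow_natCast, zpow_comm, zpow_natCast, hn, one_zpow]
  obtain ⟨φ, hφ, hφimg, hφW⟩ := Cfsg.Agent.Lib.FusionStancu.exists_good_map hPQ hQa hW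
    (Subgroup.zpowers_le.2 hτ)
  obtain ⟨s, hs, h1⟩ := hφW τ (Subgroup.mem_zpowers τ)
  obtain ⟨b, hb, δ, hδ, hδe⟩ := hfr hPT (maps_sub hEF hφ)
  have ht : afn b⁻¹ s ∈ T := afn_mem _ hs
  have key : ∀ x ∈ P, δ (afn τ x) = afn b⁻¹ s * δ x * (afn b⁻¹ s)⁻¹ := by
    intro x hx
    have h2 := h1 x hx
    rw [hδe _ (afn_mem τ hx), hδe x hx] at h2
    have h3 := congrArg (afn b⁻¹) h2
    rw [afn_inv_afn _ (hδ.mem (afn_mem τ hx)), afn_map_conj' _ hs (afn_mem _ (hδ.mem hx)),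
      afn_inv_afn _ (hδ.mem hx)] at h3
    exact h3
  obtain ⟨k, hk, hk1, hk2⟩ := hδ.inv
  refine ((hδ.comp (Maps.conj hδ.img_le ht) (fun x hx => hδ.mem_img_of_mem hx)).comp hk
    (fun x hx => ?_)).congr (fun x hx => ?_)
  · show afn b⁻¹ s * δ x * (afn b⁻¹ s)⁻¹ ∈ _
    rw [← key x hx]
    exact hδ.mem_img_of_mem (afn_mem τ hx)
  · show k (afn b⁻¹ s * δ x * (afn b⁻¹ s)⁻¹) = _
    rw [← key x hx, hk1 _ (afn_mem τ hx)]

lemma maps_genSys [Finite T] : Maps (genSys E p) P f ↔ Gen E p P f := by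
  constructor
  · rintro ⟨φ, hφ, h⟩
    exact Gen.congr hφ (fun x hx => by rw [fn_of_mem _ hx]; exact h ⟨x, hx⟩)
  · intro h
    have hm := h.maps
    refine ⟨hm.hom, Gen.congr h (fun x hx => ?_), fun x => hm.hom_apply x⟩
    rw [fn_of_mem _ hx, hm.hom_apply]

lemma gen_transfer [Finite T] [Fact p.Prime] (hT : IsPGroup p T) (hE : E.IsSaturated p)
    (hD' : D'.IsSaturated p) (hEF : E.IsSubsystemOf F) (hfr : Frat F D') (h : Gen E p P f) :
    Gen D' p P f := by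
  have hgen : ∀ P, E.IsCentric P → ∀ α ∈ E.autGroup P, (∃ n : ℕ, α ^ p ^ n = 1) →
      Maps (genSys D' p) P (afn α) := by
    rintro P hc α hα ⟨n, hn⟩
    have h1 := pel_transfer hT hE hEF hfr hc.1 hα hn
    exact maps_genSys.2 (gen_of_pow hT hD' hc.1 ((mem_autGroup_iff hc.1).2 h1) hn)
  exact maps_genSys.1 (Gen.subsys hgen h)

/-- Conjugation of `Gen` by the product of two automorphisms. -/
lemma conj_mul {G : FusionSystem T} [Finite T] {a b : MulAut T}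
    (ha : ∀ {P : Subgroup Ω} {f : Ω → Ω}, Gen G p P f → Gen G p (img (afn a⁻¹) P) (afn a⁻¹ ∘ f ∘ afn a))
    (hb : ∀ {P : Subgroup Ω} {f : Ω → Ω}, Gen G p P f → Gen G p (img (afn b⁻¹) P) (afn b⁻¹ ∘ f ∘ afn b))
    (h : Gen G p P f) : Gen G p (img (afn (a * b)⁻¹) P) (afn (a * b)⁻¹ ∘ f ∘ afn (a * b)) := by
  have h2 := hb (ha h)
  have hPT := h.maps.le
  have e : img (afn b⁻¹) (img (afn a⁻¹) P) = img (afn (a * b)⁻¹) P := by
    ext y
    rw [mem_img_afn' (img_afn_le hPT _), mem_img_afn' hPT]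
    constructor
    · rintro ⟨z, hz, rfl⟩
      obtain ⟨x, hx, rfl⟩ := (mem_img_afn' hPT _).1 hz
      refine ⟨x, hx, ?_⟩
      rw [mul_inv_rev, afn_mul _ _ (hPT hx)]
    · rintro ⟨x, hx, rfl⟩
      refine ⟨_, (mem_img_afn' hPT _).2 ⟨x, hx, rfl⟩, ?_⟩
      rw [mul_inv_rev, afn_mul _ _ (hPT hx)]
  rw [e] at h2
  refine h2.congr (fun y hy => ?_)
  obtain ⟨x, hx, rfl⟩ := (mem_img_afn' hPT _).1 hy
  have hxT := hPT hx
  show afn b⁻¹ (afn a⁻¹ (f (afn a (afn b _)))) = afn (a * b)⁻¹ (f (afn (a * b) _))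
  have h3 : afn (a * b) (afn (a * b)⁻¹ x) = x := afn_afn_inv _ hxT
  have h4 : afn a (afn b (afn (a * b)⁻¹ x)) = x := by
    rw [← afn_mul _ _ (afn_mem _ hxT), h3]
  rw [h4, h3, mul_inv_rev, afn_mul _ _ (h.maps.mem hx)]

/-- `Aut_E(T) ⊔ Aut_{D'}(T)` normalizes `O`. -/
lemma normBy_sup [Finite T] [Fact p.Prime] (hT : IsPGroup p T) (hE : E.IsSaturated p)
    (hD' : D'.IsSaturated p) (hEF : E.IsSubsystemOf F) (hDF : D'.IsSubsystemOf F) (hfrE : Frat F E)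
    (hfrD : Frat F D') : NormBy (genSys E p) (E.autGroup T ⊔ D'.autGroup T) := by
  have hA : ∀ a ∈ E.autGroup T, ∀ {P : Subgroup Ω} {f : Ω → Ω}, Gen E p P f →
      Gen E p (img (afn a⁻¹) P) (afn a⁻¹ ∘ f ∘ afn a) :=
    fun a ha _ _ h => Gen.conj_aut (sAut_of_mem ha) h
  have hB : ∀ a ∈ D'.autGroup T, ∀ {P : Subgroup Ω} {f : Ω → Ω}, Gen E p P f →
      Gen E p (img (afn a⁻¹) P) (afn a⁻¹ ∘ f ∘ afn a) :=
    fun a ha _ _ h => gen_transfer hT hD' hE hDF hfrE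
      (Gen.conj_aut (sAut_of_mem ha) (gen_transfer hT hE hD' hEF hfrD h))
  have key : ∀ l ∈ E.autGroup T ⊔ D'.autGroup T,
      (∀ {P : Subgroup Ω} {f : Ω → Ω}, Gen E p P f → Gen E p (img (afn l⁻¹) P) (afn l⁻¹ ∘ f ∘ afn l)) ∧
      (∀ {P : Subgroup Ω} {f : Ω → Ω}, Gen E p P f → Gen E p (img (afn l⁻¹⁻¹) P) (afn l⁻¹⁻¹ ∘ f ∘ afn l⁻¹)) := by
    intro l hl
    rw [Subgroup.sup_eq_closure] at hl
    induction hl using Subgroup.closure_induction with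
    | mem x hx =>
      rcases hx with hx | hx
      · exact ⟨fun h => hA x hx h, fun h => hA x⁻¹ (Subgroup.inv_mem _ hx) h⟩
      · exact ⟨fun h => hB x hx h, fun h => hB x⁻¹ (Subgroup.inv_mem _ hx) h⟩
    | one =>
      have h1 : (1 : MulAut T) ∈ E.autGroup T := Subgroup.one_mem _
      have h2 : (1 : MulAut T)⁻¹ ∈ E.autGroup T := Subgroup.inv_mem _ h1
      exact ⟨fun h => hA 1 h1 h, fun h => hA _ h2 h⟩
    | mul a b _ _ ha hb =>
      refine ⟨fun h => conj_mul ha.1 hb.1 h, fun h => ?_⟩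
      have e : (a * b)⁻¹ = b⁻¹ * a⁻¹ := mul_inv_rev a b
      rw [e]
      exact conj_mul hb.2 ha.2 h
    | inv a _ ha =>
      refine ⟨ha.2, fun h => ?_⟩
      rw [inv_inv]
      exact ha.1 h
  intro l hl P f hf
  exact maps_genSys.2 ((key l hl).1 (maps_genSys.1 hf))

lemma autInducedBy_self_normal : (autInducedBy T T).Normal := by
  constructor
  intro t ht a
  obtain ⟨g, hg, hgt⟩ := mem_autInducedBy.1 ht
  refine mem_autInducedBy.2 ⟨afn a g, afn_mem _ hg, fun y hy => ?_⟩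
  have hy' : afn a⁻¹ y ∈ T := afn_mem _ hy
  rw [afn_mul _ _ hy, afn_mul _ _ hy', hgt _ hy', afn_map_conj' _ hg hy', afn_afn_inv _ hy]

/-- `p`-elements of `A ⊔ B`. -/
lemma pel_sup [Fact p.Prime] {A B I : Subgroup (MulAut T)} [I.Normal]
    (hBn : ∀ a ∈ A, ∀ b ∈ B, a * b * a⁻¹ ∈ B) (hIB : I ≤ B)
    (h1 : ¬ p ∣ (I.subgroupOf A).index) (h2 : ¬ p ∣ (I.subgroupOf B).index)
    {l : MulAut T} (hl : l ∈ A ⊔ B) {e : ℕ} (he : l ^ p ^ e = 1) : l ∈ I := by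
  have hBB : ∀ x ∈ B, x ^ (I.subgroupOf B).index ∈ I := by
    intro x hx
    exact Subgroup.mem_subgroupOf.1 (Subgroup.pow_index_mem (I.subgroupOf B) (⟨x, hx⟩ : B))
  have hAA : ∀ x ∈ A, x ^ (I.subgroupOf A).index ∈ I := by
    intro x hx
    exact Subgroup.mem_subgroupOf.1 (Subgroup.pow_index_mem (I.subgroupOf A) (⟨x, hx⟩ : A))
  have hdec : ∃ a ∈ A, ∃ b ∈ B, l = a * b := by
    clear he
    rw [Subgroup.sup_eq_closure] at hl
    induction hl using Subgroup.closure_induction with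
    | mem x hx =>
      rcases hx with hx | hx
      · exact ⟨x, hx, 1, B.one_mem, by simp⟩
      · exact ⟨1, A.one_mem, x, hx, by simp⟩
    | one => exact ⟨1, A.one_mem, 1, B.one_mem, by simp⟩
    | mul x y _ _ hx hy =>
      obtain ⟨a, ha, b, hb, rfl⟩ := hx
      obtain ⟨c, hc, d, hd, rfl⟩ := hy
      refine ⟨a * c, A.mul_mem ha hc, c⁻¹ * b * c⁻¹⁻¹ * d, B.mul_mem (hBn _ (A.inv_mem hc) _ hb) hd, ?_⟩
      group
    | inv x _ hx =>
      obtain ⟨a, ha, b, hb, rfl⟩ := hx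
      refine ⟨a⁻¹, A.inv_mem ha, a * b⁻¹ * a⁻¹, hBn _ ha _ (B.inv_mem hb), ?_⟩
      group
  obtain ⟨a, ha, b, hb, rfl⟩ := hdec
  have hpow : ∀ k : ℕ, ∃ b' ∈ B, (a * b) ^ k = a ^ k * b' := by
    intro k
    induction k with
    | zero => exact ⟨1, B.one_mem, by simp⟩
    | succ k ih =>
      obtain ⟨b', hb', h3⟩ := ih
      refine ⟨a⁻¹ * b' * a⁻¹⁻¹ * b, B.mul_mem (hBn _ (A.inv_mem ha) _ hb') hb, ?_⟩
      rw [pow_succ, h3, pow_succ]
      group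
  obtain ⟨b', hb', h3⟩ := hpow (I.subgroupOf A).index
  have h4 : (a * b) ^ (I.subgroupOf A).index ∈ B := by
    rw [h3]
    exact B.mul_mem (hIB (hAA a ha)) hb'
  have h5 := hBB _ h4
  rw [← pow_mul] at h5
  have hpp : p.Prime := Fact.out
  have hcop : Nat.Coprime ((I.subgroupOf A).index * (I.subgroupOf B).index) (p ^ e) :=
    Nat.Coprime.pow_right _ (Nat.Coprime.symm ((Nat.Prime.coprime_iff_not_dvd hpp).2
      (fun h => (hpp.dvd_mul.1 h).elim h1 h2)))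
  refine mem_of_coprime_pow hcop h5 ?_
  rw [he]
  exact I.one_mem

/-- `E`-centric subgroups have only `T`-centric `F`-conjugates. -/
lemma tc_of_centric (hfr : Frat F E) {X : Subgroup Ω} (hX : E.IsCentric X) : TC F T X := by
  refine ⟨hX.1, fun Q' hQ' c hc => ?_⟩
  obtain ⟨f, hf, rfl⟩ := Cfsg.Agent.Lib.FusionCore.isConj_iff.1 hQ'
  obtain ⟨a, ha, f₀, h0, hff⟩ := hfr hX.1 hf
  have h1 := hX.2 (img f₀ X) (Cfsg.Agent.Lib.FusionCore.isConj_iff.2 ⟨f₀, h0, rfl⟩)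
  obtain ⟨hcT, hcC⟩ := mem_centralizerIn.1 hc
  have hc2 : afn a⁻¹ c ∈ centralizerIn T (img f₀ X) := by
    refine mem_centralizerIn.2 ⟨afn_mem _ hcT, fun y hy => ?_⟩
    obtain ⟨x, hx, rfl⟩ := h0.mem_img.1 hy
    have hxT : f₀ x ∈ T := h0.mem hx
    have h2 := hcC (f x) (hf.mem_img_of_mem hx)
    rw [hff x hx] at h2
    have h3 := congrArg (afn a⁻¹) h2
    rw [afn_map_mul' _ (afn_mem _ hxT) hcT, afn_map_mul' _ hcT (afn_mem _ hxT), afn_inv_afn _ hxT] at h3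
    exact h3
  obtain ⟨x, hx, hxe⟩ := h0.mem_img.1 (h1 hc2)
  rw [hf.mem_img]
  refine ⟨x, hx, ?_⟩
  rw [hff x hx, hxe, afn_afn_inv _ hcT]

/-- The main theorem: `O^{p'}(E) ≤ D'`, for `E` and `D'` weakly normal on the same `T`. -/
theorem main [Finite S] [Fact p.Prime] (hS : IsPGroup p S) {D : FusionSystem T}
    (hE : E.IsWeaklyNormalIn F p) (hD' : D'.IsWeaklyNormalIn F p) (hD : E.IsPPrimeResidual p D) :
    D.IsSubsystemOf D' := by
  obtain ⟨hEs, -, hEi⟩ := hE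
  obtain ⟨hDs, -, hDi⟩ := hD'
  obtain ⟨hEF, hst, hEinv, hEfrat⟩ := isInvariantIn_iff.1 hEi
  obtain ⟨hDF, -, hDinv, hDfrat⟩ := isInvariantIn_iff.1 hDi
  have hTS : T ≤ S := hst.1
  have hT : IsPGroup p T := hS.to_le hTS
  haveI : Finite T := finite_of_le hTS
  have hgenT : ∀ {P : Subgroup Ω} {f : Ω → Ω}, Gen E p P f → Maps D' P f := fun h =>
    (gen_transfer hT hEs hDs hEF hDfrat h).maps
  -- the group `L`
  have hAF : E.autGroup T ≤ F.autGroup T := by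
    intro α hα
    have hm := (mem_autGroup_iff le_rfl).1 hα
    exact (mem_autGroup_iff hTS).2 (maps_sub hEF hm)
  have hBF : D'.autGroup T ≤ F.autGroup T := by
    intro α hα
    have hm := (mem_autGroup_iff le_rfl).1 hα
    exact (mem_autGroup_iff hTS).2 (maps_sub hDF hm)
  have hBn : ∀ a ∈ E.autGroup T, ∀ b ∈ D'.autGroup T, a * b * a⁻¹ ∈ D'.autGroup T := by
    intro a ha b hb
    have hm := (mem_autGroup_iff le_rfl).1 hb
    obtain ⟨k, hk, hk1⟩ := hDinv hm a (hAF ha)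
    rw [afn_img] at hk
    refine (mem_autGroup_iff le_rfl).2 (hk.congr (fun y hy => ?_))
    have hy' : afn a⁻¹ y ∈ T := afn_mem _ hy
    have h1 := hk1 _ hy'
    rw [afn_afn_inv _ hy] at h1
    rw [h1, afn_mul _ _ hy, afn_mul _ _ hy']
  haveI : (autInducedBy T T).Normal := autInducedBy_self_normal
  have hp : ∀ l ∈ E.autGroup T ⊔ D'.autGroup T, ∀ e : ℕ, l ^ p ^ e = 1 → Maps (genSys E p) T (afn l) := by
    intro l hl e he
    have h1 := (isFullyAutomized_iff hT le_rfl).1 (Cfsg.Agent.Lib.FusionAbelianDecomp.fullyAutomized_top hEs)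
    have h2 := (isFullyAutomized_iff hT le_rfl).1 (Cfsg.Agent.Lib.FusionAbelianDecomp.fullyAutomized_top hDs)
    have h3 := pel_sup hBn (autInducedBy_le_autGroup le_rfl) h1 h2 hl he
    obtain ⟨g, hg, hgl⟩ := mem_autInducedBy.1 h3
    exact maps_genSys.2 ((Gen.conj le_rfl hg).congr (fun x hx => (hgl x hx).symm))
  have hn := normBy_sup hT hEs hDs hEF hDF hEfrat hDfrat
  have hOD : ∀ {P : Subgroup Ω} {f : Ω → Ω}, Maps (genSys E p) P f → Maps D' P f :=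
    fun h => hgenT (maps_genSys.1 h)
  have hDK : ∀ {P : Subgroup Ω} {f : Ω → Ω}, Maps D' P f →
      KM (genSys E p) (E.autGroup T ⊔ D'.autGroup T) P f := by
    intro P f hf
    obtain ⟨a, ha, f₀, h0, hff⟩ := (maps_ofMaps.1 (le_maps (le_bigSys hT hDs) hf) : BigM D' p P f)
    exact ⟨a, (le_sup_right : D'.autGroup T ≤ _) ha, f₀,
      maps_genSys.2 (gen_transfer hT hDs hEs hDF hEfrat h0), hff⟩
  -- `Aut⁰_E(T) ≤ Aut_{D'}(T)`
  have hAut0 : Aut0 E p ≤ D'.autGroup T := by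
    rw [Aut0, Subgroup.closure_le]
    rintro a ⟨ha, X, hX, h⟩
    exact (mem_autGroup_iff le_rfl).2 (lift_autK hT hTS hDF hDs hOD hDK hn hp (sup_le hAF hBF)
      ((le_sup_left : E.autGroup T ≤ _) ha) (tc_of_centric hEfrat hX) (hgenT h))
  -- conclusion
  have h1 := hD.2.2 _ (subSys_saturated hT hEs (Aut0_le (F := E) (p := p)) le_rfl) (subSys_index hT hEs)
  intro P φ hφ
  have hm : Maps (subSys E p (Aut0 E p) Aut0_le) P (fn φ) := Maps.of_mem (h1 P hφ)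
  obtain ⟨a, ha, f₀, h00, hff⟩ := maps_subSys.1 hm
  have h2 := hgenT h00
  have h3 := (mem_autGroup_iff le_rfl).1 (hAut0 ha)
  exact (h2.comp h3 (fun x hx => h2.mem hx)).mem_hom (fun x => (fn_coe φ x).symm.trans (hff x x.2))

end App

end Cfsg.Agent.Lib.FusionPPrimeMin
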