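/-
FusionPPrimeNormal: for `T` strongly closed, extending automorphisms of `X C_S(T)` that fix `X` pointwise
and have order prime to `p` up to `T C_S(T)` (for S5141).
-/
import Mathlib
import Cfsg.Agent.Lib.FusionPPrimeMin

set_option autoImplicit false

namespace Cfsg.Agent.Lib.FusionPPrimeNormal

open Cfsg Cfsg.FusionSystem Cfsg.Agent.Lib.FusionCore Cfsg.Agent.Lib.FusionCore2
open Cfsg.Agent.Lib.FusionIndexPrime Cfsg.Agent.Lib.FusionPPrimeRes Cfsg.Agent.Lib.FusionInvariant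
open Cfsg.Agent.Lib.FusionPPrimeMin Cfsg.Agent.Lib.FusionSatCrit

variable {Ω : Type*} [Group Ω] {S T : Subgroup Ω} {F : FusionSystem S} {P Q R X Y : Subgroup Ω} {f g : Ω → Ω}
variable {p : ℕ}

/-- `T` is normalized by `S`. -/
lemma conj_mem_T (hT : F.StronglyClosed T) {s t : Ω} (hs : s ∈ S) (ht : t ∈ T) : s * t * s⁻¹ ∈ T :=
  StrongMem hT le_rfl (Maps.conj hT.1 hs) ht

lemma inv_conj_mem_T (hT : F.StronglyClosed T) {s t : Ω} (hs : s ∈ S) (ht : t ∈ T) : s⁻¹ * t * s ∈ T := by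
  have := conj_mem_T hT (S.inv_mem hs) ht
  rwa [inv_inv] at this

/-- A decomposition of the product of commuting subgroups. -/
lemma mem_sup_comm {A B : Subgroup Ω} (h : ∀ a ∈ A, ∀ b ∈ B, a * b = b * a) {x : Ω} (hx : x ∈ A ⊔ B) :
    ∃ a ∈ A, ∃ b ∈ B, x = a * b := by
  rw [Subgroup.sup_eq_closure] at hx
  induction hx using Subgroup.closure_induction with
  | mem x hx =>
    rcases hx with hx | hx
    · exact ⟨x, hx, 1, B.one_mem, by simp⟩
    · exact ⟨1, A.one_mem, x, hx, by simp⟩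
  | one => exact ⟨1, A.one_mem, 1, B.one_mem, by simp⟩
  | mul x y _ _ hx hy =>
    obtain ⟨a, ha, b, hb, rfl⟩ := hx
    obtain ⟨c, hc, d, hd, rfl⟩ := hy
    refine ⟨a * c, A.mul_mem ha hc, b * d, B.mul_mem hb hd, ?_⟩
    calc a * b * (c * d) = a * (b * c) * d := by group
      _ = a * (c * b) * d := by rw [h c hc b hb]
      _ = _ := by group
  | inv x _ hx =>
    obtain ⟨a, ha, b, hb, rfl⟩ := hx
    refine ⟨a⁻¹, A.inv_mem ha, b⁻¹, B.inv_mem hb, ?_⟩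
    have e := h a⁻¹ (A.inv_mem ha) b⁻¹ (B.inv_mem hb)
    rw [mul_inv_rev, e]

/-- Elements of `T` commute with elements of `C_S(T)`. -/
lemma comm_cent {c x : Ω} (hc : c ∈ centralizerIn S T) (hx : x ∈ T) : x * c = c * x :=
  (mem_centralizerIn.1 hc).2 x hx

lemma mem_sup_cent (hX : X ≤ T) {x : Ω} (hx : x ∈ X ⊔ centralizerIn S T) :
    ∃ a ∈ X, ∃ c ∈ centralizerIn S T, x = a * c :=
  mem_sup_comm (fun _ ha _ hb => comm_cent hb (hX ha)) hx

/-- The group of automorphisms of `R` fixing `R ∩ T` and acting trivially on the image in `S / T`. -/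
def ZG (F : FusionSystem S) (T R : Subgroup Ω) : Subgroup (MulAut R) where
  carrier := {ζ | ζ ∈ F.autGroup R ∧ (∀ x ∈ R ⊓ T, afn ζ x = x) ∧ ∀ r ∈ R, r⁻¹ * afn ζ r ∈ T}
  one_mem' := ⟨Subgroup.one_mem _, fun x hx => afn_one hx.1, fun r hr => by
    rw [afn_one hr, inv_mul_cancel]; exact T.one_mem⟩
  mul_mem' := by
    rintro a b ⟨ha, ha1, ha2⟩ ⟨hb, hb1, hb2⟩
    refine ⟨Subgroup.mul_mem _ ha hb, fun x hx => ?_, fun r hr => ?_⟩
    · rw [afn_mul _ _ hx.1, hb1 x hx, ha1 x hx]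
    · rw [afn_mul _ _ hr]
      have h1 := T.mul_mem (hb2 r hr) (ha2 _ (afn_mem b hr))
      rwa [← mul_assoc, mul_inv_cancel_right] at h1
  inv_mem' := by
    rintro a ⟨ha, ha1, ha2⟩
    refine ⟨Subgroup.inv_mem _ ha, fun x hx => ?_, fun r hr => ?_⟩
    · conv_lhs => rw [← ha1 x hx]
      exact afn_inv_afn a hx.1
    · have hs : afn a⁻¹ r ∈ R := afn_mem _ hr
      have h1 := T.inv_mem (ha2 _ hs)
      rwa [afn_afn_inv a hr, mul_inv_rev, inv_inv] at h1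

lemma mem_ZG {ζ : MulAut R} : ζ ∈ ZG F T R ↔ ζ ∈ F.autGroup R ∧ (∀ x ∈ R ⊓ T, afn ζ x = x) ∧
    ∀ r ∈ R, r⁻¹ * afn ζ r ∈ T := Iff.rfl

/-- Automorphisms preserve `R ∩ T`. -/
lemma afn_mem_inf (hT : F.StronglyClosed T) (hR : R ≤ S) {α : MulAut R} (hα : α ∈ F.autGroup R) {x : Ω}
    (hx : x ∈ R ⊓ T) : afn α x ∈ R ⊓ T :=
  ⟨afn_mem α hx.1, StrongMem hT inf_le_right (((mem_autGroup_iff hR).1 hα).restrict inf_le_left) hx⟩

lemma ZG_conj (hT : F.StronglyClosed T) (hR : R ≤ S) {α β : MulAut R} (hα : α ∈ F.autGroup R) (hβ : β ∈ ZG F T R) :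
    α * β * α⁻¹ ∈ ZG F T R := by
  obtain ⟨hb, hb1, hb2⟩ := hβ
  have hαi : α⁻¹ ∈ F.autGroup R := Subgroup.inv_mem _ hα
  refine ⟨Subgroup.mul_mem _ (Subgroup.mul_mem _ hα hb) hαi, fun x hx => ?_, fun r hr => ?_⟩
  · have hx' := afn_mem_inf hT hR hαi hx
    rw [afn_mul _ _ hx.1, afn_mul _ _ (afn_mem _ hx.1), hb1 _ hx', afn_afn_inv _ hx.1]
  · have hs : afn α⁻¹ r ∈ R := afn_mem _ hr
    have hw : (afn α⁻¹ r)⁻¹ * afn β (afn α⁻¹ r) ∈ R ⊓ T :=
      ⟨R.mul_mem (R.inv_mem hs) (afn_mem _ hs), hb2 _ hs⟩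
    have h1 := (afn_mem_inf hT hR hα hw).2
    rw [afn_mul _ _ hr, afn_mul _ _ hs]
    rw [afn_map_mul' α (R.inv_mem hs) (afn_mem _ hs), afn_map_inv' α hs, afn_afn_inv _ hr] at h1
    exact h1

/-- `afn` of powers of an automorphism that fixes `W` and moves `y` by an element of `W`. -/
lemma afn_pow_of_fix {W : Subgroup Ω} (α : MulAut Y) (hWY : W ≤ Y) (h1 : ∀ w ∈ W, afn α w = w) {y : Ω}
    (hy : y ∈ Y) (hz : y⁻¹ * afn α y ∈ W) (j : ℕ) : afn (α ^ j) y = y * (y⁻¹ * afn α y) ^ j := by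
  induction j with
  | zero => rw [pow_zero, pow_zero, afn_one hy, mul_one]
  | succ j ih =>
    rw [pow_succ', afn_mul _ _ hy, ih, afn_map_mul' α hy (Y.pow_mem (hWY hz) j),
      h1 _ (W.pow_mem hz j), pow_succ', ← mul_assoc, mul_inv_cancel_left]

lemma ZG_pGroup [Finite S] [Fact p.Prime] (hS : IsPGroup p S) (hR : R ≤ S) : IsPGroup p (ZG F T R) := by
  rintro ⟨ζ, hζ⟩
  haveI := finite_of_le (inf_le_left.trans hR : R ⊓ T ≤ S)
  obtain ⟨m, hm⟩ := (IsPGroup.iff_card.1 (hS.to_le (inf_le_left.trans hR : R ⊓ T ≤ S)) : ∃ m, Nat.card ↥(R ⊓ T) = p ^ m)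
  refine ⟨m, Subtype.ext ?_⟩
  obtain ⟨-, h1, h2⟩ := hζ
  have := pow_card_eq_one_of_fix ζ (inf_le_left : R ⊓ T ≤ R) h1
    (fun y hy => ⟨R.mul_mem (R.inv_mem hy) (afn_mem _ hy), h2 y hy⟩)
  rw [hm] at this
  exact this

/-- `ZG` lies in `Aut_S(R)` when `R` is fully automized. -/
lemma ZG_le [Finite S] [Fact p.Prime] (hS : IsPGroup p S) (hT : F.StronglyClosed T) (hA : F.IsFullyAutomized p R) :
    ZG F T R ≤ autInducedBy S R := by
  have hR := hA.1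
  haveI := finite_mulAut hR
  have h1 : ZG F T R ≤ KK F p R := le_KK (fun _ h => h.1)
    (fun α hα β hβ => ZG_conj hT hR hα hβ) (ZG_pGroup hS hR)
  intro β hβ
  obtain ⟨b, hb, rfl⟩ := mem_KK.1 (h1 hβ)
  obtain ⟨-, V, hV⟩ := hA
  have h2 := Cfsg.Agent.Lib.PCore.pCore_le_sylow p V hb
  rw [hV] at h2
  exact Subgroup.mem_subgroupOf.1 h2

/-- The commutator of an automorphism fixing `R ∩ T` with a conjugation by an element of `T`. -/
lemma comm_mem_ZG (hT : F.StronglyClosed T) (hR : R ≤ S) {ν c : MulAut R} (hν : ν ∈ F.autGroup R)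
    (hfix : ∀ x ∈ R ⊓ T, afn ν x = x) (hc : c ∈ F.autGroup R) {y : Ω} (hy : y ∈ T)
    (hcy : ∀ r ∈ R, afn c r = y * r * y⁻¹) : ν * c * ν⁻¹ * c⁻¹ ∈ ZG F T R := by
  have hνi : ν⁻¹ ∈ F.autGroup R := Subgroup.inv_mem _ hν
  have hci : c⁻¹ ∈ F.autGroup R := Subgroup.inv_mem _ hc
  have hcm : ∀ r ∈ R, r⁻¹ * afn c r ∈ T := by
    intro r hr
    rw [hcy r hr]
    have h1 := inv_conj_mem_T hT (hR hr) hy
    have h2 := T.mul_mem h1 (T.inv_mem hy)
    convert h2 using 1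
    group
  have hcim : ∀ r ∈ R, r⁻¹ * afn c⁻¹ r ∈ T := by
    intro r hr
    have hs : afn c⁻¹ r ∈ R := afn_mem _ hr
    have h1 := T.inv_mem (hcm _ hs)
    rwa [afn_afn_inv c hr, mul_inv_rev, inv_inv] at h1
  -- transport of the congruence under an automorphism
  have htr : ∀ {α : MulAut R}, α ∈ F.autGroup R → ∀ {a b : Ω}, a ∈ R → b ∈ R → a⁻¹ * b ∈ T →
      (afn α a)⁻¹ * afn α b ∈ T := by
    intro α hα a b ha hb hab
    have h1 := (afn_mem_inf hT hR hα (⟨R.mul_mem (R.inv_mem ha) hb, hab⟩ : a⁻¹ * b ∈ R ⊓ T)).2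
    rwa [afn_map_mul' α (R.inv_mem ha) hb, afn_map_inv' α ha] at h1
  refine ⟨Subgroup.mul_mem _ (Subgroup.mul_mem _ (Subgroup.mul_mem _ hν hc) hνi) hci, fun x hx => ?_, fun r hr => ?_⟩
  · have h1 : afn c⁻¹ x ∈ R ⊓ T := afn_mem_inf hT hR hci hx
    have h2 : afn ν⁻¹ (afn c⁻¹ x) = afn c⁻¹ x := by
      conv_lhs => rw [← hfix _ h1]
      exact afn_inv_afn ν h1.1
    rw [afn_mul _ _ hx.1, afn_mul _ _ (afn_mem _ hx.1), afn_mul _ _ (afn_mem _ (afn_mem _ hx.1)), h2,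
      afn_afn_inv c hx.1, hfix x hx]
  · have h0 := afn_mem c⁻¹ hr
    have h1 := afn_mem ν⁻¹ h0
    have h2 := afn_mem c h1
    rw [afn_mul _ _ hr, afn_mul _ _ h0, afn_mul _ _ h1]
    -- chain of congruences
    have e1 : r⁻¹ * afn c⁻¹ r ∈ T := hcim r hr
    have e2 : (afn ν⁻¹ r)⁻¹ * afn ν⁻¹ (afn c⁻¹ r) ∈ T := htr hνi hr h0 e1
    have e3 : (afn ν⁻¹ (afn c⁻¹ r))⁻¹ * afn c (afn ν⁻¹ (afn c⁻¹ r)) ∈ T := hcm _ h1
    have e4 : (afn ν⁻¹ r)⁻¹ * afn c (afn ν⁻¹ (afn c⁻¹ r)) ∈ T := by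
      have := T.mul_mem e2 e3
      rwa [← mul_assoc, mul_inv_cancel_right] at this
    have e5 := htr hν (afn_mem _ hr) h2 e4
    rwa [afn_afn_inv ν hr] at e5

/-- Chinese remainder in the form used here. -/
lemma exists_mul_crt {a b : ℕ} (h : Nat.Coprime a b) : ∃ m, a ∣ m ∧ m % b = 1 % b := by
  let k := Nat.chineseRemainder h 0 1
  refine ⟨k, ?_, k.2.2⟩
  exact (Nat.modEq_zero_iff_dvd).1 k.2.1

lemma pow_eq_self_of_mod {G : Type*} [Group G] {x : G} {q m : ℕ} (hq : x ^ q = 1) (hm : m % q = 1 % q) :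
    x ^ m = x := by
  have h1 : orderOf x ∣ q := orderOf_dvd_of_pow_eq_one hq
  have h2 : m ≡ 1 [MOD orderOf x] := Nat.ModEq.of_dvd h1 hm
  have := pow_eq_pow_iff_modEq.2 h2
  rwa [pow_one] at this

/-- One step of the extension of `κ`. -/
theorem ext_step' [Finite S] [Fact p.Prime] (hS : IsPGroup p S) (hF : F.IsSaturated p)
    (hT : F.StronglyClosed T) (hX : TC F T X) {C R N A : Subgroup Ω} (hCdef : C = centralizerIn S T)
    (hRdef : R = X ⊔ C) (hNdef : N = normalizerIn T X) (hAdef : A = N ⊔ C) {κ : MulAut R}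
    (hκ : κ ∈ F.autGroup R) (hfix : ∀ x ∈ X, afn κ x = x) {q : ℕ}
    (hq : q.Coprime p) (hκq : κ ^ q = 1) :
    ∃ κ₁ : MulAut A, κ₁ ∈ F.autGroup A ∧ (∀ n ∈ N, afn κ₁ n = n) ∧
      (∀ r ∈ R, afn κ₁ r = afn κ r) ∧ κ₁ ^ q = 1 := by
  have hTS := hT.1
  have hCS : C ≤ S := by rw [hCdef]; exact inf_le_left
  have hXT := hX.1
  have hXS := hXT.trans hTS
  have hNT : N ≤ T := by rw [hNdef]; exact inf_le_left
  have hRS : R ≤ S := by rw [hRdef]; exact sup_le hXS hCS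
  have hAS : A ≤ S := by rw [hAdef]; exact sup_le (hNT.trans hTS) hCS
  have hXN : X ≤ N := by rw [hNdef]; exact le_normalizerIn hXT
  have hRA : R ≤ A := by rw [hRdef, hAdef]; exact sup_le_sup_right hXN C
  haveI := finite_of_le hRS
  have hCA : C ≤ A := by rw [hAdef]; exact le_sup_right
  have hNA : N ≤ A := by rw [hAdef]; exact le_sup_left
  have hCR : C ≤ R := by rw [hRdef]; exact le_sup_right
  have hXR : X ≤ R := by rw [hRdef]; exact le_sup_left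
  have hRdec : ∀ r ∈ R, ∃ a ∈ X, ∃ c ∈ C, r = a * c := by
    subst hCdef hRdef
    exact fun r hr => mem_sup_cent hXT hr
  have hAdec : ∀ r ∈ A, ∃ a ∈ N, ∃ c ∈ C, r = a * c := by
    subst hCdef hAdef
    exact fun r hr => mem_sup_cent hNT hr
  have hcC : ∀ c ∈ C, c ∈ centralizerIn S T := by rw [hCdef]; exact fun _ h => h
  have hnN : ∀ {n : Ω}, n ∈ N → n ∈ normalizerIn T X := by rw [hNdef]; exact fun h => h
  -- `A` normalizes `R`
  have hANorm : A ≤ normalizerIn S R := by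
    rw [hAdef]
    refine sup_le (fun n hn => ?_) (fun c hc => ?_)
    · obtain ⟨hnT, hnN⟩ := mem_normalizerIn.1 (hnN hn)
      refine mem_normalizerIn.2 ⟨hTS hnT, mem_normalizer_of_conj_mem (fun r hr => ?_)⟩
      obtain ⟨x, hx, c, hc, rfl⟩ := hRdec r hr
      have hnx := (Subgroup.mem_normalizer_iff.1 hnN x).1 hx
      have e : n * (x * c) * n⁻¹ = (n * x * n⁻¹) * c := by
        calc n * (x * c) * n⁻¹ = n * x * (c * n⁻¹) := by group
          _ = n * x * (n⁻¹ * c) := by rw [comm_cent (hcC c hc) (T.inv_mem hnT)]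
          _ = _ := by group
      rw [e]
      exact R.mul_mem (hXR hnx) (hCR hc)
    · refine mem_normalizerIn.2 ⟨hCS hc, mem_normalizer_of_conj_mem (fun r hr => ?_)⟩
      obtain ⟨x, hx, c', hc', rfl⟩ := hRdec r hr
      have e : c * (x * c') * c⁻¹ = x * (c * c' * c⁻¹) := by
        have h1 := comm_cent (hcC c hc) (hXT hx)
        calc c * (x * c') * c⁻¹ = (c * x) * c' * c⁻¹ := by group
          _ = (x * c) * c' * c⁻¹ := by rw [h1]
          _ = _ := by group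
      rw [e]
      exact R.mul_mem (hXR hx) (hCR (C.mul_mem (C.mul_mem hc hc') (C.inv_mem hc)))
  -- the good conjugate
  obtain ⟨R₂, hR₂, hR₂a, hR₂r⟩ := hF R hRS
  have hR₂S := IsConj_le' hR₂
  obtain ⟨g, hg, hgN, hgimg⟩ := exists_normalizer_map hS hR₂a hR₂r hR₂
  have hRN : R ≤ normalizerIn S R := le_normalizerIn hRS
  have hκm : Maps F R (afn κ) := (mem_autGroup_iff hRS).1 hκ
  have hgR := hg.restrict hRN
  have hgi : ∀ {y : Ω}, y ∈ img g R ↔ ∃ x ∈ R, g x = y := fun {y} => hgR.mem_img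
  have hf' : Maps F R (g ∘ afn κ) := hκm.comp hgR (fun r hr => afn_mem κ hr)
  have hf'img : img (g ∘ afn κ) R = R₂ := by
    rw [← hgimg]
    ext y
    rw [hf'.mem_img, hgi]
    constructor
    · rintro ⟨r, hr, rfl⟩
      exact ⟨_, afn_mem κ hr, rfl⟩
    · rintro ⟨r, hr, rfl⟩
      exact ⟨afn κ⁻¹ r, afn_mem _ hr, by show g (afn κ (afn κ⁻¹ r)) = _; rw [afn_afn_inv _ hr]⟩
  -- the automorphism `κ₂`
  let κ₂ : MulAut R₂ := MulAut.congr (hgR.equiv hgimg) κ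
  have hκ₂ : κ₂ ∈ F.autGroup R₂ := by
    rw [← hgR.map_autGroup hgimg]
    exact Subgroup.mem_map_of_mem _ hκ
  have hκ₂e : ∀ r ∈ R, afn κ₂ (g r) = g (afn κ r) := fun r hr => hgR.afn_congr hgimg κ hr
  have hκ₂fix : ∀ x ∈ R₂ ⊓ T, afn κ₂ x = x := by
    rintro x ⟨hx1, hx2⟩
    rw [← hgimg] at hx1
    obtain ⟨r, hr, rfl⟩ := hgi.1 hx1
    obtain ⟨gi₀, hgi₀, hgi₁, hgi₂⟩ := hgR.inv
    have hrT : r ∈ T := by
      have h1 := StrongMem hT inf_le_right (hgi₀.restrict (inf_le_left : img g R ⊓ T ≤ img g R))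
        (⟨hgR.mem_img_of_mem hr, hx2⟩ : g r ∈ img g R ⊓ T)
      rwa [hgi₁ r hr] at h1
    obtain ⟨x, hx, c, hc, rfl⟩ := hRdec r hr
    have hcT : c ∈ T := by
      have := T.mul_mem (T.inv_mem (hXT hx)) hrT
      rwa [inv_mul_cancel_left] at this
    have hcX : c ∈ X := by
      refine hX.2 X (isConj_refl hXS) (mem_centralizerIn.2 ⟨hcT, fun y hy => comm_cent (hcC c hc) (hXT hy)⟩)
    have hmem : x * c ∈ X := X.mul_mem hx hcX
    rw [hκ₂e _ hr, hfix _ hmem]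
  -- `N ≤ N_{g κ}`
  have hNg : ∀ n ∈ N, g n ∈ T := fun n hn =>
    StrongMem hT hNT (hg.restrict (hNA.trans hANorm)) hn
  have hNNf : N ≤ Nf S R (g ∘ afn κ) := by
    intro n hn
    have hnN : n ∈ normalizerIn S R := hANorm (hNA hn)
    have hgnN := hgN n hnN
    let cy : MulAut R₂ := conjN S R₂ ⟨g n, hgnN⟩
    have hcy : cy ∈ F.autGroup R₂ := autInducedBy_le_autGroup hR₂S (by
      rw [← conjN_range]
      exact ⟨_, rfl⟩)
    have hcye : ∀ r ∈ R₂, afn cy r = g n * r * (g n)⁻¹ := fun r hr => afn_conjN _ hr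
    have hζ := comm_mem_ZG hT hR₂S hκ₂ hκ₂fix hcy (hNg n hn) hcye
    obtain ⟨h₀, hh₀, hh₀e⟩ := mem_autInducedBy.1 (ZG_le hS hT hR₂a hζ)
    refine mem_Nf.2 ⟨hAS (hNA hn), (mem_normalizerIn.1 hnN).2, h₀ * g n, S.mul_mem hh₀ (hg.mem hnN), fun r hr => ?_⟩
    have hr2 : g r ∈ R₂ := hgimg ▸ hgR.mem_img_of_mem hr
    have hnr : n * r * n⁻¹ ∈ R := (Subgroup.mem_normalizer_iff.1 (mem_normalizerIn.1 hnN).2 r).1 hr
    have e0 : g (n * r * n⁻¹) = g n * g r * (g n)⁻¹ := hg.map_conj hnN (hRN hr)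
    have e1 : κ₂ * cy = (κ₂ * cy * κ₂⁻¹ * cy⁻¹) * cy * κ₂ := by group
    have e2 : afn (κ₂ * cy) (g r) = afn ((κ₂ * cy * κ₂⁻¹ * cy⁻¹) * cy * κ₂) (g r) := by rw [← e1]
    rw [afn_mul _ _ hr2, afn_mul _ _ hr2, afn_mul _ _ (afn_mem _ hr2), hcye _ hr2, hcye _ (afn_mem _ hr2),
      ← e0, hκ₂e _ hnr, hκ₂e _ hr] at e2
    have hmem : g n * g (afn κ r) * (g n)⁻¹ ∈ R₂ := by
      rw [← hcye _ (hκ₂e _ hr ▸ afn_mem κ₂ hr2)]
      exact afn_mem _ (hκ₂e _ hr ▸ afn_mem κ₂ hr2)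
    rw [hh₀e _ hmem] at e2
    show g (afn κ (n * r * n⁻¹)) = _ * g (afn κ r) * _
    rw [e2]
    group
  have hANf : A ≤ Nf S R (g ∘ afn κ) := by
    rw [hAdef]
    exact sup_le hNNf (hCR.trans (le_Nf hf'))
  obtain ⟨k₀, hk₀, hk₀e⟩ := IsReceptive.ext hR₂r hf' hf'img
  have hk := hk₀.restrict hANf
  -- the values of `k₀`
  have hkN : ∀ n ∈ N, ∃ x ∈ X, k₀ n = g (n * x) := by
    intro n hn
    obtain ⟨hnT, hnN⟩ := mem_normalizerIn.1 (hnN hn)
    have hnA := hNA hn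
    have hgn := hANorm hnA
    have hgX : Maps F X g := hgR.restrict hXR
    have hcent := hX.2 (img g X) (Cfsg.Agent.Lib.FusionCore.isConj_iff.2 ⟨g, hgX, rfl⟩)
    have hkT : k₀ n ∈ T := StrongMem hT hNT (hk.restrict hNA) hn
    have hz : (g n)⁻¹ * k₀ n ∈ centralizerIn T (img g X) := by
      refine mem_centralizerIn.2 ⟨T.mul_mem (T.inv_mem (hNg n hn)) hkT, fun y hy => ?_⟩
      obtain ⟨x, hx, rfl⟩ := hgX.mem_img.1 hy
      have hnx : n * x * n⁻¹ ∈ X := (Subgroup.mem_normalizer_iff.1 hnN x).1 hx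
      have e1 : k₀ (n * x * n⁻¹) = k₀ n * k₀ x * (k₀ n)⁻¹ := hk.map_conj hnA (hRA (hXR hx))
      have e2 : k₀ (n * x * n⁻¹) = g (afn κ (n * x * n⁻¹)) := hk₀e _ (hXR hnx)
      have e3 : k₀ x = g (afn κ x) := hk₀e _ (hXR hx)
      rw [hfix _ hnx, hg.map_conj hgn (hRN (hXR hx))] at e2
      rw [e3, hfix _ hx] at e1
      have e4 : g n * g x * (g n)⁻¹ = k₀ n * g x * (k₀ n)⁻¹ := e2.symm.trans e1
      have e6 : g x * ((g n)⁻¹ * k₀ n) = ((g n)⁻¹ * k₀ n) * g x := by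
        have e7 : g n * g x * (g n)⁻¹ * k₀ n = k₀ n * g x := by
          rw [e4]; group
        calc g x * ((g n)⁻¹ * k₀ n) = (g n)⁻¹ * (g n * g x * (g n)⁻¹ * k₀ n) := by group
          _ = (g n)⁻¹ * (k₀ n * g x) := by rw [e7]
          _ = _ := by group
      exact e6
    obtain ⟨x, hx, hxe⟩ := hgX.mem_img.1 (hcent hz)
    refine ⟨x, hx, ?_⟩
    rw [hg.map_mul (hANorm hnA) (hRN (hXR hx)), hxe, mul_inv_cancel_left]
  have hkA : ∀ a ∈ A, ∃ w ∈ A, k₀ a = g w := by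
    intro a ha
    obtain ⟨n, hn, c, hc, rfl⟩ := hAdec a ha
    obtain ⟨x, hx, hxe⟩ := hkN n hn
    have hnx : n * x ∈ A := A.mul_mem (hNA hn) (hRA (hXR hx))
    have hκc : afn κ c ∈ A := hRA (afn_mem κ (hCR hc))
    refine ⟨n * x * afn κ c, A.mul_mem hnx hκc, ?_⟩
    rw [hk.map_mul (hNA hn) (hCA hc), hxe, hk₀e _ (hCR hc)]
    exact (hg.map_mul (hANorm hnx) (hANorm hκc)).symm
  obtain ⟨gi, hgi', hgi1, hgi2⟩ := hg.inv
  have hkmem : ∀ a ∈ A, gi (k₀ a) ∈ A := by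
    intro a ha
    obtain ⟨w, hw, hwe⟩ := hkA a ha
    rw [hwe, hgi1 w (hANorm hw)]
    exact hw
  have hkh : Maps F A (gi ∘ k₀) := hk.comp hgi' (fun a ha => by
    obtain ⟨w, hw, hwe⟩ := hkA a ha
    rw [hwe]
    exact hg.mem_img_of_mem (hANorm hw))
  have hkhimg : img (gi ∘ k₀) A = A := img_eq_of_card hkh hAS hAS hkmem le_rfl
  let kt : MulAut A := hkh.toAut hkhimg
  have hkt : kt ∈ F.autGroup A := hkh.toAut_mem hkhimg
  have hkte : ∀ a ∈ A, afn kt a = gi (k₀ a) := fun a ha => hkh.afn_toAut hkhimg ha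
  have hktR : ∀ r ∈ R, afn kt r = afn κ r := by
    intro r hr
    rw [hkte r (hRA hr), hk₀e r hr]
    exact hgi1 _ (hRN (afn_mem κ hr))
  have hktfix : ∀ x ∈ X, afn kt x = x := fun x hx => by rw [hktR x (hXR hx), hfix x hx]
  have hktN : ∀ n ∈ N, n⁻¹ * afn kt n ∈ X := by
    intro n hn
    obtain ⟨x, hx, hxe⟩ := hkN n hn
    rw [hkte n (hNA hn), hxe, hgi1 _ (hANorm (A.mul_mem (hNA hn) (hRA (hXR hx)))), inv_mul_cancel_left]
    exact hx
  -- the exponent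
  have hXA : X ≤ A := hXR.trans hRA
  haveI := finite_of_le hXS
  obtain ⟨mm, hmm⟩ := (IsPGroup.iff_card.1 (hS.to_le hXS) : ∃ mm, Nat.card X = p ^ mm)
  have hcop : Nat.Coprime (Nat.card X) q := by
    rw [hmm]
    exact Nat.Coprime.pow_left _ hq.symm
  obtain ⟨m, hm1, hm2⟩ := exists_mul_crt hcop
  have hpowR : ∀ j : ℕ, ∀ r ∈ R, afn (kt ^ j) r = afn (κ ^ j) r := by
    intro j
    induction j with
    | zero =>
      intro r hr
      rw [pow_zero, pow_zero, afn_one (hRA hr), afn_one hr]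
    | succ j ih =>
      intro r hr
      rw [pow_succ' kt, pow_succ' κ, afn_mul _ _ (hRA hr), afn_mul _ _ hr, ih r hr, hktR _ (afn_mem _ hr)]
  have hpowN : ∀ n ∈ N, afn (kt ^ m) n = n := by
    intro n hn
    have h1 := afn_pow_of_fix kt hXA hktfix (hNA hn) (hktN n hn) m
    rw [h1]
    have h2 : (n⁻¹ * afn kt n) ^ m = 1 := by
      obtain ⟨d, rfl⟩ := hm1
      rw [pow_mul]
      have h3 : (⟨_, hktN n hn⟩ : X) ^ Nat.card X = 1 := pow_card_eq_one'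
      have h4 : (n⁻¹ * afn kt n) ^ Nat.card X = 1 := congrArg Subtype.val h3
      rw [h4, one_pow]
    rw [h2, mul_one]
  have hmκ : κ ^ m = κ := pow_eq_self_of_mod hκq hm2
  refine ⟨kt ^ m, Subgroup.pow_mem _ hkt m, hpowN, fun r hr => ?_, ?_⟩
  · rw [hpowR m r hr, hmκ]
  · apply afn_ext
    intro a ha
    obtain ⟨n, hn, c, hc, rfl⟩ := hAdec a ha
    have h1 : ∀ j : ℕ, afn ((kt ^ m) ^ j) n = n := by
      intro j
      induction j with
      | zero => rw [pow_zero, afn_one (hNA hn)]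
      | succ j ih => rw [pow_succ', afn_mul _ _ (hNA hn), ih, hpowN n hn]
    have h2 : afn ((kt ^ m) ^ q) c = c := by
      rw [← pow_mul, hpowR _ c (hCR hc), pow_mul, hmκ, hκq, afn_one (hCR hc)]
    rw [afn_map_mul' _ (hNA hn) (hCA hc), h1 q, h2, afn_one ha]

/-- One step of the extension of `κ`. -/
theorem ext_step [Finite S] [Fact p.Prime] (hS : IsPGroup p S) (hF : F.IsSaturated p)
    (hT : F.StronglyClosed T) (hX : TC F T X) {κ : MulAut ↥(X ⊔ centralizerIn S T)}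
    (hκ : κ ∈ F.autGroup (X ⊔ centralizerIn S T)) (hfix : ∀ x ∈ X, afn κ x = x) {q : ℕ}
    (hq : q.Coprime p) (hκq : κ ^ q = 1) :
    ∃ κ₁ : MulAut ↥(normalizerIn T X ⊔ centralizerIn S T),
      κ₁ ∈ F.autGroup (normalizerIn T X ⊔ centralizerIn S T) ∧ (∀ n ∈ normalizerIn T X, afn κ₁ n = n) ∧
      (∀ r ∈ X ⊔ centralizerIn S T, afn κ₁ r = afn κ r) ∧ κ₁ ^ q = 1 :=
  ext_step' hS hF hT hX rfl rfl rfl rfl hκ hfix hq hκq

/-- Extension up to `T C_S(T)`. -/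
theorem ext_chain [Finite S] [Fact p.Prime] (hS : IsPGroup p S) (hF : F.IsSaturated p)
    (hT : F.StronglyClosed T) {X : Subgroup Ω} (hX : TC F T X) {κ : MulAut ↥(X ⊔ centralizerIn S T)}
    (hκ : κ ∈ F.autGroup (X ⊔ centralizerIn S T)) (hfix : ∀ x ∈ X, afn κ x = x) {q : ℕ}
    (hq : q.Coprime p) (hκq : κ ^ q = 1) :
    ∃ κ₁ : MulAut ↥(T ⊔ centralizerIn S T),
      κ₁ ∈ F.autGroup (T ⊔ centralizerIn S T) ∧ (∀ n ∈ T, afn κ₁ n = n) ∧
      (∀ r ∈ X ⊔ centralizerIn S T, afn κ₁ r = afn κ r) := by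
  have hTS := hT.1
  haveI : Finite T := finite_of_le hTS
  have hTp : IsPGroup p T := hS.to_le hTS
  have main : ∀ (k : ℕ) (X : Subgroup Ω), Nat.card T - Nat.card X = k → TC F T X →
      ∀ κ : MulAut ↥(X ⊔ centralizerIn S T), κ ∈ F.autGroup (X ⊔ centralizerIn S T) →
      (∀ x ∈ X, afn κ x = x) → κ ^ q = 1 →
      ∃ κ₁ : MulAut ↥(T ⊔ centralizerIn S T),
        κ₁ ∈ F.autGroup (T ⊔ centralizerIn S T) ∧ (∀ n ∈ T, afn κ₁ n = n) ∧
        (∀ r ∈ X ⊔ centralizerIn S T, afn κ₁ r = afn κ r) := by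
    intro k
    induction' k using Nat.strong_induction_on with k ih
    intro X hk hX κ hκ hfix hκq
    by_cases he : X = T
    · subst he
      exact ⟨κ, hκ, hfix, fun _ _ => rfl⟩
    have hlt : X < T := lt_of_le_of_ne hX.1 he
    have hN := Cfsg.Agent.Lib.FusionAlperin.lt_normalizerIn hTp hlt
    have hNT : normalizerIn T X ≤ T := inf_le_left
    have hcN : Nat.card X < Nat.card (normalizerIn T X) := by
      haveI : Finite (normalizerIn T X) := finite_of_le hNT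
      exact Cfsg.Agent.Lib.FusionAlperin.card_lt_of_lt hN
    have hc2 : Nat.card (normalizerIn T X) ≤ Nat.card T := Subgroup.card_le_of_le hNT
    obtain ⟨κ₁, h1, h2, h3, h4⟩ := ext_step hS hF hT hX hκ hfix hq hκq
    obtain ⟨κ₂, h5, h6, h7⟩ := ih (Nat.card T - Nat.card (normalizerIn T X)) (by omega) _ rfl
      (TC.mono hX hN.le hNT) κ₁ h1 h2 h4
    refine ⟨κ₂, h5, h6, fun r hr => ?_⟩
    rw [h7 r (sup_le_sup_right hN.le _ hr), h3 r hr]
  exact main _ X rfl hX κ hκ hfix hκq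

end Cfsg.Agent.Lib.FusionPPrimeNormal
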