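/-
FusionPPrimeNormal2: the subgroup `A₀` of `Aut_F(T)` of automorphisms extending to `T C_S(T)` with trivial
action on the image in `S / T`; a criterion for membership in `A₀` (for S5141).
-/
import Mathlib
import Cfsg.Agent.Lib.FusionPPrimeNormal

set_option autoImplicit false

namespace Cfsg.Agent.Lib.FusionPPrimeNormal

open Cfsg Cfsg.FusionSystem Cfsg.Agent.Lib.FusionCore Cfsg.Agent.Lib.FusionCore2
open Cfsg.Agent.Lib.FusionIndexPrime Cfsg.Agent.Lib.FusionPPrimeRes Cfsg.Agent.Lib.FusionInvariant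
open Cfsg.Agent.Lib.FusionPPrimeMin Cfsg.Agent.Lib.FusionSatCrit

variable {Ω : Type*} [Group Ω] {S T : Subgroup Ω} {F : FusionSystem S} {P Q R X Y : Subgroup Ω} {f g : Ω → Ω}
variable {p : ℕ}

/-- `A₀`. -/
def A0 (F : FusionSystem S) (T : Subgroup Ω) : Subgroup (MulAut T) where
  carrier := {α | ∃ β : MulAut ↥(T ⊔ centralizerIn S T), β ∈ F.autGroup (T ⊔ centralizerIn S T) ∧
    (∀ t ∈ T, afn β t = afn α t) ∧ ∀ u ∈ T ⊔ centralizerIn S T, u⁻¹ * afn β u ∈ T}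
  one_mem' := ⟨1, Subgroup.one_mem _, fun t ht => by
    rw [afn_one ((le_sup_left : T ≤ T ⊔ centralizerIn S T) ht), afn_one ht], fun u hu => by
    rw [afn_one hu, inv_mul_cancel]; exact T.one_mem⟩
  mul_mem' := by
    rintro a b ⟨β₁, h₁, h₂, h₃⟩ ⟨β₂, h₄, h₅, h₆⟩
    have hTT : T ≤ T ⊔ centralizerIn S T := le_sup_left
    refine ⟨β₁ * β₂, Subgroup.mul_mem _ h₁ h₄, fun t ht => ?_, fun u hu => ?_⟩
    · rw [afn_mul _ _ (hTT ht), h₅ t ht, h₂ _ (afn_mem _ ht), afn_mul _ _ ht]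
    · rw [afn_mul _ _ hu]
      have h7 := T.mul_mem (h₆ u hu) (h₃ _ (afn_mem β₂ hu))
      rwa [← mul_assoc, mul_inv_cancel_right] at h7
  inv_mem' := by
    rintro a ⟨β, h₁, h₂, h₃⟩
    have hTT : T ≤ T ⊔ centralizerIn S T := le_sup_left
    refine ⟨β⁻¹, Subgroup.inv_mem _ h₁, fun t ht => ?_, fun u hu => ?_⟩
    · have hs : afn a⁻¹ t ∈ T := afn_mem _ ht
      have e : afn β (afn a⁻¹ t) = t := by rw [h₂ _ hs, afn_afn_inv _ ht]
      conv_lhs => rw [← e]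
      exact afn_inv_afn β (hTT hs)
    · have hs : afn β⁻¹ u ∈ T ⊔ centralizerIn S T := afn_mem _ hu
      have h7 := T.inv_mem (h₃ _ hs)
      rwa [afn_afn_inv β hu, mul_inv_rev, inv_inv] at h7

lemma mem_A0 {α : MulAut T} : α ∈ A0 F T ↔ ∃ β : MulAut ↥(T ⊔ centralizerIn S T),
    β ∈ F.autGroup (T ⊔ centralizerIn S T) ∧
    (∀ t ∈ T, afn β t = afn α t) ∧ ∀ u ∈ T ⊔ centralizerIn S T, u⁻¹ * afn β u ∈ T := Iff.rfl

/-- A strongly closed subgroup is fully normalized. -/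
lemma fullyNormalized_T [Finite S] (hT : F.StronglyClosed T) : F.IsFullyNormalized T := by
  refine ⟨hT.1, fun Q hQ => ?_⟩
  obtain ⟨f, hf, rfl⟩ := Cfsg.Agent.Lib.FusionCore.isConj_iff.1 hQ
  have h1 : img f T ≤ T := strong_img_le hT le_rfl hf
  haveI := finite_of_le hT.1
  have h2 : img f T = T := Subgroup.eq_of_le_of_card_ge h1 (le_of_eq hf.card_img.symm)
  rw [h2]

lemma receptive_T [Finite S] [Fact p.Prime] (hS : IsPGroup p S) (hF : F.IsSaturated p)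
    (hT : F.StronglyClosed T) : F.IsReceptive T :=
  receptive_of_fullyCentralized hS hF (of_fullyNormalized hS hF (fullyNormalized_T hT)).1

/-- A congruence mod `T` is preserved by an automorphism of `R` preserving `T`. -/
lemma cong_of_aut {ν : MulAut R} (hν : ∀ t ∈ T, t ∈ R → afn ν t ∈ T) {a b : Ω} (ha : a ∈ R) (hb : b ∈ R)
    (hab : a⁻¹ * b ∈ T) : (afn ν a)⁻¹ * afn ν b ∈ T := by
  have h1 := hν _ hab (R.mul_mem (R.inv_mem ha) hb)
  rwa [afn_map_mul' ν (R.inv_mem ha) hb, afn_map_inv' ν ha] at h1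

/-- The criterion for membership in `A₀`. -/
theorem mem_A0_of_ext [Finite S] [Fact p.Prime] (hS : IsPGroup p S) (hF : F.IsSaturated p)
    (hT : F.StronglyClosed T) {a : MulAut T} (ha : a ∈ F.autGroup T) {n' : ℕ} (hn' : n'.Coprime p)
    (han : a ^ n' = 1) {X : Subgroup Ω} (hX : TC F T X) {ω : Ω → Ω}
    (hω : Maps F (X ⊔ centralizerIn S T) ω) (hωa : ∀ x ∈ X, ω x = afn a x)
    (hωT : ∀ u ∈ X ⊔ centralizerIn S T, u⁻¹ * ω u ∈ T) : a ∈ A0 F T := by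
  have hTS := hT.1
  have hCS : centralizerIn S T ≤ S := inf_le_left
  have hXT := hX.1
  have hTT : T ⊔ centralizerIn S T ≤ S := sup_le hTS hCS
  have hRT : X ⊔ centralizerIn S T ≤ T ⊔ centralizerIn S T := sup_le_sup_right hXT _
  have hRS := hRT.trans hTT
  have hTle : T ≤ T ⊔ centralizerIn S T := le_sup_left
  have hCle : centralizerIn S T ≤ T ⊔ centralizerIn S T := le_sup_right
  have hXR : X ≤ X ⊔ centralizerIn S T := le_sup_left
  have hCR : centralizerIn S T ≤ X ⊔ centralizerIn S T := le_sup_right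
  haveI : Finite T := finite_of_le hTS
  haveI := finite_of_le hXT
  haveI := finite_of_le hTT
  -- the first extension
  have hTr := receptive_T hS hF hT
  have hmA : Maps F T (afn a) := (mem_autGroup_iff hTS).1 ha
  obtain ⟨b, hb, hbe⟩ := IsReceptive.ext hTr hmA (afn_img a)
  have hle : T ⊔ centralizerIn S T ≤ Nf S T (afn a) := sup_le (le_Nf hmA) (centralizerIn_le_Nf hmA)
  have hb' := hb.restrict hle
  have hbC : ∀ c ∈ centralizerIn S T, b c ∈ centralizerIn S T := by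
    intro c hc
    refine mem_centralizerIn.2 ⟨hb'.mem (hCle hc), fun t ht => ?_⟩
    have hs : afn a⁻¹ t ∈ T := afn_mem _ ht
    have e : b (afn a⁻¹ t) = t := by rw [hbe _ hs, afn_afn_inv _ ht]
    calc t * b c = b (afn a⁻¹ t) * b c := by rw [e]
      _ = b (afn a⁻¹ t * c) := (hb'.map_mul (hTle hs) (hCle hc)).symm
      _ = b (c * afn a⁻¹ t) := by rw [comm_cent hc hs]
      _ = b c * b (afn a⁻¹ t) := hb'.map_mul (hCle hc) (hTle hs)
      _ = b c * t := by rw [e]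
  have hbmem : ∀ u ∈ T ⊔ centralizerIn S T, b u ∈ T ⊔ centralizerIn S T := by
    intro u hu
    obtain ⟨t, ht, c, hc, rfl⟩ := mem_sup_cent (le_refl T) hu
    rw [hb'.map_mul (hTle ht) (hCle hc), hbe t ht]
    exact Subgroup.mul_mem _ (hTle (afn_mem a ht)) (hCle (hbC c hc))
  have hbimg : img b (T ⊔ centralizerIn S T) = T ⊔ centralizerIn S T :=
    img_eq_of_card hb' hTT hTT hbmem le_rfl
  let β₀ : MulAut ↥(T ⊔ centralizerIn S T) := hb'.toAut hbimg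
  have hβ₀ : β₀ ∈ F.autGroup (T ⊔ centralizerIn S T) := hb'.toAut_mem hbimg
  have hβ₀T : ∀ t ∈ T, afn β₀ t = afn a t := fun t ht => by
    rw [hb'.afn_toAut hbimg (hTle ht), hbe t ht]
  haveI := finite_mulAut hTT
  have hpp : p.Prime := Fact.out
  -- the `p'`-part of `β₀`
  obtain ⟨e, q, hqp, hord⟩ := Nat.exists_eq_pow_mul_and_not_dvd (orderOf_pos β₀).ne' p hpp.ne_one
  have hqc : q.Coprime p := ((Nat.Prime.coprime_iff_not_dvd hpp).2 hqp).symm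
  have hcop : Nat.Coprime (p ^ e) (n' * q) := Nat.Coprime.pow_left _ (Nat.Coprime.mul_right hn'.symm hqc.symm)
  obtain ⟨m, hm1, hm2⟩ := exists_mul_crt hcop
  have hβ₀pow : ∀ j : ℕ, ∀ t ∈ T, afn (β₀ ^ j) t = afn (a ^ j) t := by
    intro j
    induction j with
    | zero =>
      intro t ht
      rw [pow_zero, pow_zero, afn_one (hTle ht), afn_one ht]
    | succ j ih =>
      intro t ht
      rw [pow_succ', pow_succ', afn_mul _ _ (hTle ht), afn_mul _ _ ht, ih t ht, hβ₀T _ (afn_mem _ ht)]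
  have hanq : a ^ (n' * q) = 1 := by rw [pow_mul, han, one_pow]
  have ham : a ^ m = a := pow_eq_self_of_mod hanq hm2
  obtain ⟨β₁, hβ₁d⟩ : ∃ β₁, β₁ = β₀ ^ m := ⟨_, rfl⟩
  have hβ₁ : β₁ ∈ F.autGroup (T ⊔ centralizerIn S T) := by rw [hβ₁d]; exact Subgroup.pow_mem _ hβ₀ m
  have hβ₁q : β₁ ^ q = 1 := by
    rw [hβ₁d, ← pow_mul]
    apply orderOf_dvd_iff_pow_eq_one.1
    rw [hord]
    exact mul_dvd_mul hm1 (dvd_refl q)
  have hβ₁T : ∀ t ∈ T, afn β₁ t = afn a t := fun t ht => by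
    rw [hβ₁d, hβ₀pow m t ht, ham]
  have hβ₁iT : ∀ t ∈ T, afn β₁⁻¹ t = afn a⁻¹ t := by
    intro t ht
    have hs : afn a⁻¹ t ∈ T := afn_mem _ ht
    have e1 : afn β₁ (afn a⁻¹ t) = t := by rw [hβ₁T _ hs, afn_afn_inv _ ht]
    conv_lhs => rw [← e1]
    exact afn_inv_afn β₁ (hTle hs)
  have hβ₁im : Maps F (T ⊔ centralizerIn S T) (afn β₁⁻¹) :=
    (mem_autGroup_iff hTT).1 (Subgroup.inv_mem _ hβ₁)
  have hβ₁T' : ∀ t ∈ T, t ∈ T ⊔ centralizerIn S T → afn β₁ t ∈ T := fun t ht _ => by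
    rw [hβ₁T t ht]; exact afn_mem _ ht
  have hβ₁iT' : ∀ t ∈ T, t ∈ T ⊔ centralizerIn S T → afn β₁⁻¹ t ∈ T := fun t ht _ => by
    rw [hβ₁iT t ht]; exact afn_mem _ ht
  -- the automorphism `κ`
  have hωŤ : ∀ u ∈ X ⊔ centralizerIn S T, ω u ∈ T ⊔ centralizerIn S T := by
    intro u hu
    have h1 := Subgroup.mul_mem _ (hRT hu) (hTle (hωT u hu))
    rwa [mul_inv_cancel_left] at h1
  have hf₂ : Maps F (X ⊔ centralizerIn S T) (afn β₁⁻¹ ∘ ω) := hω.comp hβ₁im hωŤ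
  have hf₂X : ∀ x ∈ X, (afn β₁⁻¹ ∘ ω) x = x := by
    intro x hx
    show afn β₁⁻¹ (ω x) = x
    rw [hωa x hx, ← hβ₁T x (hXT hx)]
    exact afn_inv_afn β₁ (hTle (hXT hx))
  have hf₂C : ∀ c ∈ centralizerIn S T, (afn β₁⁻¹ ∘ ω) c ∈ X ⊔ centralizerIn S T := by
    intro c hc
    have hd : (afn β₁⁻¹ ∘ ω) c ∈ T ⊔ centralizerIn S T := afn_mem _ (hωŤ c (hCR hc))
    obtain ⟨t₁, ht₁, c₁, hc₁, hdec⟩ := mem_sup_cent (le_refl T) hd
    have hcent : ∀ y ∈ X, y * (afn β₁⁻¹ ∘ ω) c = (afn β₁⁻¹ ∘ ω) c * y := by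
      intro y hy
      have e0 := hf₂X y hy
      calc y * (afn β₁⁻¹ ∘ ω) c = (afn β₁⁻¹ ∘ ω) y * (afn β₁⁻¹ ∘ ω) c := by rw [e0]
        _ = (afn β₁⁻¹ ∘ ω) (y * c) := (hf₂.map_mul (hXR hy) (hCR hc)).symm
        _ = (afn β₁⁻¹ ∘ ω) (c * y) := by rw [comm_cent hc (hXT hy)]
        _ = (afn β₁⁻¹ ∘ ω) c * (afn β₁⁻¹ ∘ ω) y := hf₂.map_mul (hCR hc) (hXR hy)
        _ = _ := by rw [e0]
    have ht₁X : t₁ ∈ X := by
      refine hX.2 X (isConj_refl (hXT.trans hTS)) (mem_centralizerIn.2 ⟨ht₁, fun y hy => ?_⟩)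
      have h1 := hcent y hy
      rw [hdec] at h1
      have h2 : y * c₁ = c₁ * y := comm_cent hc₁ (hXT hy)
      calc y * t₁ = y * (t₁ * c₁) * c₁⁻¹ := by group
        _ = t₁ * c₁ * y * c₁⁻¹ := by rw [h1]
        _ = t₁ * (c₁ * y) * c₁⁻¹ := by group
        _ = t₁ * (y * c₁) * c₁⁻¹ := by rw [h2]
        _ = _ := by group
    rw [hdec]
    exact Subgroup.mul_mem _ (hXR ht₁X) (hCR hc₁)
  have hf₂R : ∀ u ∈ X ⊔ centralizerIn S T, (afn β₁⁻¹ ∘ ω) u ∈ X ⊔ centralizerIn S T := by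
    intro u hu
    obtain ⟨x, hx, c, hc, rfl⟩ := mem_sup_cent hXT hu
    rw [hf₂.map_mul (hXR hx) (hCR hc), hf₂X x hx]
    exact Subgroup.mul_mem _ (hXR hx) (hf₂C c hc)
  have himg₂ : img (afn β₁⁻¹ ∘ ω) (X ⊔ centralizerIn S T) = X ⊔ centralizerIn S T :=
    img_eq_of_card hf₂ hRS hRS hf₂R le_rfl
  let κ' : MulAut ↥(X ⊔ centralizerIn S T) := hf₂.toAut himg₂
  have hκ' : κ' ∈ F.autGroup (X ⊔ centralizerIn S T) := hf₂.toAut_mem himg₂
  have hκ'e : ∀ u ∈ X ⊔ centralizerIn S T, afn κ' u = afn β₁⁻¹ (ω u) := fun u hu => hf₂.afn_toAut himg₂ hu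
  have hκ'fix : ∀ x ∈ X, afn κ' x = x := fun x hx => by
    rw [hκ'e x (hXR hx)]
    exact hf₂X x hx
  have hrel1 : ∀ u ∈ X ⊔ centralizerIn S T, (afn β₁⁻¹ u)⁻¹ * afn κ' u ∈ T := by
    intro u hu
    rw [hκ'e u hu]
    exact cong_of_aut hβ₁iT' (hRT hu) (hωŤ u hu) (hωT u hu)
  have hrelj : ∀ j : ℕ, ∀ u ∈ X ⊔ centralizerIn S T, (afn (β₁⁻¹ ^ j) u)⁻¹ * afn (κ' ^ j) u ∈ T := by
    intro j
    induction j with
    | zero =>
      intro u hu
      rw [pow_zero, pow_zero, afn_one hu, afn_one (hRT hu), inv_mul_cancel]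
      exact T.one_mem
    | succ j ih =>
      intro u hu
      have hv : afn (κ' ^ j) u ∈ X ⊔ centralizerIn S T := afn_mem _ hu
      have hw : afn (β₁⁻¹ ^ j) u ∈ T ⊔ centralizerIn S T := afn_mem _ (hRT hu)
      rw [pow_succ' β₁⁻¹, pow_succ' κ', afn_mul _ _ (hRT hu), afn_mul _ _ hu]
      have h1 := cong_of_aut hβ₁iT' hw (hRT hv) (ih u hu)
      have h2 := hrel1 _ hv
      have h3 := T.mul_mem h1 h2
      rwa [← mul_assoc, mul_inv_cancel_right] at h3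
  -- the `p'`-part of `κ'`
  haveI := finite_mulAut hRS
  obtain ⟨e₂, q₂, hq₂p, hord₂⟩ := Nat.exists_eq_pow_mul_and_not_dvd (orderOf_pos κ').ne' p hpp.ne_one
  have hq₂c : q₂.Coprime p := ((Nat.Prime.coprime_iff_not_dvd hpp).2 hq₂p).symm
  have hcop₂ : Nat.Coprime (p ^ e₂) q := Nat.Coprime.pow_left _ hqc.symm
  obtain ⟨m₂, hm₂1, hm₂2⟩ := exists_mul_crt hcop₂
  have hβ₁iq : β₁⁻¹ ^ q = 1 := by rw [inv_pow, hβ₁q, inv_one]
  have hβ₁im₂ : β₁⁻¹ ^ m₂ = β₁⁻¹ := pow_eq_self_of_mod hβ₁iq hm₂2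
  obtain ⟨κ₀, hκ₀d⟩ : ∃ κ₀, κ₀ = κ' ^ m₂ := ⟨_, rfl⟩
  have hκ₀ : κ₀ ∈ F.autGroup (X ⊔ centralizerIn S T) := by rw [hκ₀d]; exact Subgroup.pow_mem _ hκ' m₂
  have hκ₀q : κ₀ ^ q₂ = 1 := by
    rw [hκ₀d, ← pow_mul]
    apply orderOf_dvd_iff_pow_eq_one.1
    rw [hord₂]
    exact mul_dvd_mul hm₂1 (dvd_refl q₂)
  have hrel₀ : ∀ u ∈ X ⊔ centralizerIn S T, (afn β₁⁻¹ u)⁻¹ * afn κ₀ u ∈ T := by
    intro u hu
    have := hrelj m₂ u hu
    rwa [hβ₁im₂, ← hκ₀d] at this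
  have hκ₀fix : ∀ x ∈ X, afn κ₀ x = x := by
    have h1 : ∀ j : ℕ, ∀ x ∈ X, afn (κ' ^ j) x = x := by
      intro j
      induction j with
      | zero =>
        intro x hx
        rw [pow_zero, afn_one (hXR hx)]
      | succ j ih =>
        intro x hx
        rw [pow_succ', afn_mul _ _ (hXR hx), ih x hx, hκ'fix x hx]
    intro x hx
    rw [hκ₀d]
    exact h1 m₂ x hx
  obtain ⟨κT, hκT, hκTfix, hκTr⟩ := ext_chain hS hF hT hX hκ₀ hκ₀fix hq₂c hκ₀q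
  refine ⟨β₁ * κT, Subgroup.mul_mem _ hβ₁ hκT, fun t ht => ?_, fun u hu => ?_⟩
  · rw [afn_mul _ _ (hTle ht), hκTfix t ht, hβ₁T t ht]
  · obtain ⟨t, ht, c, hc, rfl⟩ := mem_sup_cent (le_refl T) hu
    have hcc : c⁻¹ * afn (β₁ * κT) c ∈ T := by
      rw [afn_mul _ _ (hCle hc), hκTr c (hCR hc)]
      have h1 := cong_of_aut hβ₁T' (afn_mem β₁⁻¹ (hCle hc)) (hRT (afn_mem κ₀ (hCR hc))) (hrel₀ c (hCR hc))
      rwa [afn_afn_inv β₁ (hCle hc)] at h1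
    have hβt : afn (β₁ * κT) t = afn a t := by
      rw [afn_mul _ _ (hTle ht), hκTfix t ht, hβ₁T t ht]
    rw [afn_map_mul' _ (hTle ht) (hCle hc), hβt]
    have h2 : t⁻¹ * afn a t ∈ T := T.mul_mem (T.inv_mem ht) (afn_mem a ht)
    have h3 := T.mul_mem (inv_conj_mem_T hT (hCS hc) h2) hcc
    convert h3 using 1
    group

end Cfsg.Agent.Lib.FusionPPrimeNormal
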