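/-
FusionPPrimeNormal3: `O^{p'}(E)` is normal in `F` when `E` is weakly normal in `F` (S5141).
-/
import Mathlib
import Cfsg.Agent.Lib.FusionPPrimeNormal2
import Cfsg.Agent.Lib.FusionStancu

set_option autoImplicit false

namespace Cfsg.Agent.Lib.FusionPPrimeNormal

open Cfsg Cfsg.FusionSystem Cfsg.Agent.Lib.FusionCore Cfsg.Agent.Lib.FusionCore2
open Cfsg.Agent.Lib.FusionIndexPrime Cfsg.Agent.Lib.FusionPPrimeRes Cfsg.Agent.Lib.FusionInvariant
open Cfsg.Agent.Lib.FusionPPrimeMin Cfsg.Agent.Lib.FusionSatCrit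

variable {Ω : Type*} [Group Ω] {S T : Subgroup Ω} {F : FusionSystem S} {E : FusionSystem T}
  {P Q R X Y : Subgroup Ω} {f g : Ω → Ω} {p : ℕ}

/-- The `p`-automorphisms of centric subgroups extend, with trivial action modulo `T`. -/
theorem exists_hat [Finite S] [Fact p.Prime] (hS : IsPGroup p S) (hF : F.IsSaturated p)
    (hT : F.StronglyClosed T) (hE : E.IsSaturated p) (hEF : E.IsSubsystemOf F) (hinv : Inv F E)
    (hfr : Frat F E) {P₀ : Subgroup Ω} (hc : E.IsCentric P₀) {τ : MulAut P₀} (hτ : τ ∈ E.autGroup P₀)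
    {n : ℕ} (hn : τ ^ p ^ n = 1) :
    ∃ τh, Maps F (P₀ ⊔ centralizerIn S T) τh ∧ (∀ x ∈ P₀, τh x = afn τ x) ∧
      ∀ u ∈ P₀ ⊔ centralizerIn S T, u⁻¹ * τh u ∈ T := by
  have hTS := hT.1
  have hPT := hc.1
  have hPS := hPT.trans hTS
  haveI : Finite T := finite_of_le hTS
  have hTp : IsPGroup p T := hS.to_le hTS
  have hTC : TC F T P₀ := tc_of_centric hfr hc
  obtain ⟨Q, hPQ, hQn⟩ := exists_fullyNormalized_conj (F := F) hPS
  obtain ⟨φ₀, hφ₀, hφ₀img⟩ := Cfsg.Agent.Lib.FusionCore.isConj_iff.1 hPQ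
  have hQT : Q ≤ T := hφ₀img ▸ strong_img_le hT hPT hφ₀
  obtain ⟨hQc, hQa⟩ := of_fullyNormalized hS hF hQn
  have hQr := receptive_of_fullyCentralized hS hF hQc
  have hQnE : E.IsFullyNormalized Q := by
    refine ⟨hQT, fun Q'' hQ'' => ?_⟩
    obtain ⟨f, hf, rfl⟩ := Cfsg.Agent.Lib.FusionCore.isConj_iff.1 hQ''
    have hFc : F.IsConj Q (img f Q) :=
      Cfsg.Agent.Lib.FusionCore.isConj_iff.2 ⟨f, maps_sub hEF hf, rfl⟩
    obtain ⟨χ, hχ, hχN, -⟩ := exists_normalizer_map hS hQa hQr (IsConj_symm hFc)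
    have hle : normalizerIn T (img f Q) ≤ normalizerIn S (img f Q) := inf_le_inf_right _ hTS
    refine card_le_of_maps hχ hle (inf_le_left.trans hTS) (fun x hx => ?_)
    exact mem_normalizerIn.2 ⟨StrongMem hT inf_le_left (hχ.restrict hle) hx,
      (mem_normalizerIn.1 (hχN x (hle hx))).2⟩
  obtain ⟨-, hQaE⟩ := of_fullyNormalized hTp hE hQnE
  obtain ⟨k, hk, hk1⟩ := str_of_inv_frat hT hinv hfr (le_refl P₀) hPT ((mem_autGroup_iff hPT).1 hτ)
    (fun x hx => afn_mem τ hx) hφ₀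
  rw [hφ₀img] at hk
  have hQφ : ∀ x ∈ P₀, φ₀ x ∈ Q := fun x hx => hφ₀img ▸ hφ₀.mem_img_of_mem hx
  have hkQ : ∀ y ∈ Q, k y ∈ Q := by
    intro y hy
    rw [← hφ₀img] at hy
    obtain ⟨x, hx, rfl⟩ := hφ₀.mem_img.1 hy
    rw [hk1 x hx]
    exact hQφ _ (afn_mem τ hx)
  have hkimg : img k Q = Q := img_eq_of_card hk hQT hQT hkQ le_rfl
  let τ' : MulAut Q := hk.toAut hkimg
  have hτ' : τ' ∈ E.autGroup Q := hk.toAut_mem hkimg
  have hτ'e : ∀ x ∈ P₀, afn τ' (φ₀ x) = φ₀ (afn τ x) := fun x hx => by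
    rw [hk.afn_toAut hkimg (hQφ x hx), hk1 x hx]
  have hpow : ∀ j : ℕ, ∀ x ∈ P₀, afn (τ' ^ j) (φ₀ x) = φ₀ (afn (τ ^ j) x) := by
    intro j
    induction j with
    | zero =>
      intro x hx
      rw [pow_zero, pow_zero, afn_one (hQφ x hx), afn_one hx]
    | succ j ih =>
      intro x hx
      rw [pow_succ', pow_succ', afn_mul _ _ (hQφ x hx), afn_mul _ _ hx, ih x hx, hτ'e _ (afn_mem _ hx)]
  have hτ'n : τ' ^ p ^ n = 1 := by
    apply afn_ext
    intro y hy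
    have hy' := hy
    rw [← hφ₀img] at hy'
    obtain ⟨x, hx, rfl⟩ := hφ₀.mem_img.1 hy'
    rw [hpow _ x hx, hn, afn_one hx, afn_one hy]
  have hW : IsPGroup p (Subgroup.zpowers τ') := by
    rintro ⟨g, hg⟩
    obtain ⟨z, rfl⟩ := Subgroup.mem_zpowers_iff.1 hg
    refine ⟨n, Subtype.ext ?_⟩
    show (τ' ^ z) ^ p ^ n = 1
    rw [← zpow_natCast, zpow_comm, zpow_natCast, hτ'n, one_zpow]
  obtain ⟨γ, hγ, hγ2⟩ := IsFullyAutomized.exists_conj hQaE hW (Subgroup.zpowers_le.2 hτ')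
  obtain ⟨t, ht, hte⟩ := mem_autInducedBy.1 (hγ2 τ' (Subgroup.mem_zpowers τ'))
  have hγm : Maps F Q (afn γ) := maps_sub hEF ((mem_autGroup_iff hQT).1 hγ)
  have hφ : Maps F P₀ (afn γ ∘ φ₀) := hφ₀.comp hγm hQφ
  have hφQ : ∀ x ∈ P₀, (afn γ ∘ φ₀) x ∈ Q := fun x hx => afn_mem γ (hQφ x hx)
  have hφimg : img (afn γ ∘ φ₀) P₀ = Q := by
    ext y
    rw [hφ.mem_img]
    constructor
    · rintro ⟨x, hx, rfl⟩
      exact hφQ x hx
    · intro hy
      have h1 : afn γ⁻¹ y ∈ img φ₀ P₀ := by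
        rw [hφ₀img]
        exact afn_mem _ hy
      obtain ⟨x, hx, hxe⟩ := hφ₀.mem_img.1 h1
      refine ⟨x, hx, ?_⟩
      show afn γ (φ₀ x) = y
      rw [hxe, afn_afn_inv _ hy]
  have hφτ : ∀ x ∈ P₀, (afn γ ∘ φ₀) (afn τ x) = t * (afn γ ∘ φ₀) x * t⁻¹ := by
    intro x hx
    have h0 := hQφ x hx
    have h1 := hte _ (afn_mem γ h0)
    rw [afn_mul _ _ (afn_mem γ h0), afn_mul _ _ (afn_mem _ (afn_mem γ h0)), afn_inv_afn _ h0,
      hτ'e x hx] at h1
    exact h1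
  obtain ⟨φh, hφh, hφhe⟩ := IsReceptive.ext hQr hφ hφimg
  have hCP : centralizerIn S T ≤ centralizerIn S P₀ := fun c hc' =>
    mem_centralizerIn.2 ⟨(mem_centralizerIn.1 hc').1, fun x hx => comm_cent hc' (hPT hx)⟩
  have hA : P₀ ⊔ centralizerIn S T ≤ Nf S P₀ (afn γ ∘ φ₀) :=
    sup_le (le_Nf hφ) (hCP.trans (centralizerIn_le_Nf hφ))
  have h1 := hφh.restrict hA
  have hPA : P₀ ≤ P₀ ⊔ centralizerIn S T := le_sup_left
  have hCA : centralizerIn S T ≤ P₀ ⊔ centralizerIn S T := le_sup_right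
  haveI := finite_of_le hQT
  have htN : t ∈ Subgroup.normalizer (Q : Set Ω) := mem_normalizer_of_afn hte
  have hcentQ := hTC.2 Q hPQ
  have htS := hTS ht
  -- the main computation
  have key : ∀ c ∈ centralizerIn S T, ∃ z ∈ P₀, t * φh c * t⁻¹ = φh c * φh z := by
    intro c hc'
    have hdS : φh c ∈ S := h1.mem (hCA hc')
    have hdc : ∀ y ∈ Q, y * φh c = φh c * y := by
      intro y hy
      rw [← hφimg] at hy
      obtain ⟨x, hx, rfl⟩ := hφ.mem_img.1 hy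
      rw [← hφhe x hx, ← h1.map_mul (hPA hx) (hCA hc'), ← h1.map_mul (hCA hc') (hPA hx),
        comm_cent hc' (hPT hx)]
    have hu : (φh c)⁻¹ * (t * φh c * t⁻¹) ∈ centralizerIn T Q := by
      refine mem_centralizerIn.2 ⟨?_, fun y hy => ?_⟩
      · have h2 := T.mul_mem (inv_conj_mem_T hT hdS ht) (T.inv_mem ht)
        convert h2 using 1
        group
      · have hy' : t⁻¹ * y * t ∈ Q := by
          have := (Subgroup.mem_normalizer_iff.1 (Subgroup.inv_mem _ htN) y).1 hy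
          rwa [inv_inv] at this
        have h3 := hdc _ hy'
        have h4 := hdc _ hy
        have h5 : y * (t * φh c * t⁻¹) = (t * φh c * t⁻¹) * y := by
          calc y * (t * φh c * t⁻¹) = t * ((t⁻¹ * y * t) * φh c) * t⁻¹ := by group
            _ = t * (φh c * (t⁻¹ * y * t)) * t⁻¹ := by rw [h3]
            _ = _ := by group
        calc y * ((φh c)⁻¹ * (t * φh c * t⁻¹)) = (φh c)⁻¹ * (φh c * y) * (φh c)⁻¹ * (t * φh c * t⁻¹) := by group
          _ = (φh c)⁻¹ * (y * φh c) * (φh c)⁻¹ * (t * φh c * t⁻¹) := by rw [h4]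
          _ = (φh c)⁻¹ * (y * (t * φh c * t⁻¹)) := by group
          _ = (φh c)⁻¹ * ((t * φh c * t⁻¹) * y) := by rw [h5]
          _ = _ := by group
    have hu2 := hcentQ hu
    rw [← hφimg] at hu2
    obtain ⟨z, hz, hze⟩ := hφ.mem_img.1 hu2
    refine ⟨z, hz, ?_⟩
    rw [hφhe z hz, hze, mul_inv_cancel_left]
  have hstab : ∀ a ∈ P₀ ⊔ centralizerIn S T, ∃ a' ∈ P₀ ⊔ centralizerIn S T,
      t * φh a * t⁻¹ = φh a' ∧ a⁻¹ * a' ∈ T := by
    intro a ha
    obtain ⟨x, hx, c, hc', rfl⟩ := mem_sup_cent hPT ha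
    obtain ⟨z, hz, hze⟩ := key c hc'
    have hτx := afn_mem τ hx
    refine ⟨afn τ x * c * z, Subgroup.mul_mem _ (Subgroup.mul_mem _ (hPA hτx) (hCA hc')) (hPA hz), ?_, ?_⟩
    · rw [h1.map_mul (Subgroup.mul_mem _ (hPA hτx) (hCA hc')) (hPA hz), h1.map_mul (hPA hτx) (hCA hc'),
        h1.map_mul (hPA hx) (hCA hc')]
      have e1 := hφτ x hx
      rw [← hφhe _ hτx, ← hφhe x hx] at e1
      calc t * (φh x * φh c) * t⁻¹ = (t * φh x * t⁻¹) * (t * φh c * t⁻¹) := by group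
        _ = _ := by rw [← e1, hze]; group
    · have h2 : x⁻¹ * afn τ x ∈ T := T.mul_mem (T.inv_mem (hPT hx)) (hPT hτx)
      have h3 := T.mul_mem (inv_conj_mem_T hT (mem_centralizerIn.1 hc').1 h2) (hPT hz)
      convert h3 using 1
      group
  obtain ⟨gi, hgi, hgi1, hgi2⟩ := h1.inv
  have hmem1 : ∀ y ∈ img φh (P₀ ⊔ centralizerIn S T), t * y * t⁻¹ ∈ img φh (P₀ ⊔ centralizerIn S T) := by
    intro y hy
    obtain ⟨a, ha, rfl⟩ := h1.mem_img.1 hy
    obtain ⟨a', ha', h2, -⟩ := hstab a ha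
    rw [h2]
    exact h1.mem_img_of_mem ha'
  have hm : Maps F (P₀ ⊔ centralizerIn S T) ((gi ∘ fun y => t * y * t⁻¹) ∘ φh) :=
    h1.comp ((Maps.conj h1.img_le htS).comp hgi hmem1) (fun a ha => h1.mem_img_of_mem ha)
  refine ⟨_, hm, fun x hx => ?_, fun u hu => ?_⟩
  · show gi (t * φh x * t⁻¹) = _
    have e1 := hφτ x hx
    rw [← hφhe _ (afn_mem τ hx), ← hφhe x hx] at e1
    rw [← e1, hgi1 _ (hPA (afn_mem τ hx))]
  · obtain ⟨a', ha', h2, h3⟩ := hstab u hu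
    show u⁻¹ * gi (t * φh u * t⁻¹) ∈ T
    rw [h2, hgi1 _ ha']
    exact h3

/-- The maps extending to `X C_S(T)` trivially modulo `T`. -/
def WW (F : FusionSystem S) (T X : Subgroup Ω) (f : Ω → Ω) : Prop :=
  ∃ fh, Maps F (X ⊔ centralizerIn S T) fh ∧ (∀ x ∈ X, fh x = f x) ∧
    ∀ u ∈ X ⊔ centralizerIn S T, u⁻¹ * fh u ∈ T

lemma WW.restrict {X₀ : Subgroup Ω} (h : WW F T X f) (hX : X₀ ≤ X) : WW F T X₀ f := by
  obtain ⟨fh, h1, h2, h3⟩ := h
  have hle : X₀ ⊔ centralizerIn S T ≤ X ⊔ centralizerIn S T := sup_le_sup_right hX _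
  exact ⟨fh, h1.restrict hle, fun x hx => h2 x (hX hx), fun u hu => h3 u (hle hu)⟩

/-- The image of the extension. -/
lemma WW_image (hT : F.StronglyClosed T) (hX : TC F T X) (hf : Maps F X f) {fh : Ω → Ω}
    (h1 : Maps F (X ⊔ centralizerIn S T) fh) (h2 : ∀ x ∈ X, fh x = f x)
    (h3 : ∀ u ∈ X ⊔ centralizerIn S T, u⁻¹ * fh u ∈ T) :
    img fh (X ⊔ centralizerIn S T) = img f X ⊔ centralizerIn S T := by
  have hXT := hX.1
  have hXR : X ≤ X ⊔ centralizerIn S T := le_sup_left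
  have hCR : centralizerIn S T ≤ X ⊔ centralizerIn S T := le_sup_right
  have hfT : img f X ≤ T := strong_img_le hT hXT hf
  have hA : ∀ c ∈ centralizerIn S T, c⁻¹ * fh c ∈ img f X := by
    intro c hc
    refine hX.2 _ (Cfsg.Agent.Lib.FusionCore.isConj_iff.2 ⟨f, hf, rfl⟩)
      (mem_centralizerIn.2 ⟨h3 c (hCR hc), fun y hy => ?_⟩)
    obtain ⟨x, hx, rfl⟩ := hf.mem_img.1 hy
    have e1 : f x * c = c * f x := comm_cent hc (hfT (hf.mem_img_of_mem hx))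
    have e2 : f x * fh c = fh c * f x := by
      rw [← h2 x hx, ← h1.map_mul (hXR hx) (hCR hc), ← h1.map_mul (hCR hc) (hXR hx), comm_cent hc (hXT hx)]
    calc f x * (c⁻¹ * fh c) = (f x * c⁻¹) * fh c := by group
      _ = c⁻¹ * f x * fh c := by rw [comm_cent (Subgroup.inv_mem _ hc) (hfT (hf.mem_img_of_mem hx))]
      _ = c⁻¹ * (f x * fh c) := by group
      _ = c⁻¹ * (fh c * f x) := by rw [e2]
      _ = _ := by group
  have hle1 : img f X ≤ img f X ⊔ centralizerIn S T := le_sup_left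
  have hle2 : centralizerIn S T ≤ img f X ⊔ centralizerIn S T := le_sup_right
  apply le_antisymm
  · intro y hy
    obtain ⟨u, hu, rfl⟩ := h1.mem_img.1 hy
    obtain ⟨x, hx, c, hc, rfl⟩ := mem_sup_cent hXT hu
    rw [h1.map_mul (hXR hx) (hCR hc), h2 x hx]
    refine Subgroup.mul_mem _ (hle1 (hf.mem_img_of_mem hx)) ?_
    have h4 := Subgroup.mul_mem _ (hle2 hc) (hle1 (hA c hc))
    rwa [mul_inv_cancel_left] at h4
  · have hfimg : img f X ≤ img fh (X ⊔ centralizerIn S T) := by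
      intro y hy
      obtain ⟨x, hx, rfl⟩ := hf.mem_img.1 hy
      rw [← h2 x hx]
      exact h1.mem_img_of_mem (hXR hx)
    refine sup_le hfimg (fun c hc => ?_)
    have h4 := Subgroup.mul_mem _ (h1.mem_img_of_mem (hCR hc)) (Subgroup.inv_mem _ (hfimg (hA c hc)))
    rwa [mul_inv_rev, inv_inv, mul_inv_cancel_left] at h4

lemma WW.comp (hT : F.StronglyClosed T) (hX : TC F T X) (hf : Maps F X f) (h : WW F T X f)
    (hg : WW F T (img f X) g) : WW F T X (g ∘ f) := by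
  obtain ⟨fh, h1, h2, h3⟩ := h
  obtain ⟨gh, h4, h5, h6⟩ := hg
  have himg := WW_image hT hX hf h1 h2 h3
  have hmem : ∀ u ∈ X ⊔ centralizerIn S T, fh u ∈ img f X ⊔ centralizerIn S T := fun u hu =>
    himg ▸ h1.mem_img_of_mem hu
  refine ⟨gh ∘ fh, h1.comp h4 hmem, fun x hx => ?_, fun u hu => ?_⟩
  · show gh (fh x) = g (f x)
    rw [h2 x hx]
    exact h5 _ (hf.mem_img_of_mem hx)
  · have h7 := T.mul_mem (h3 u hu) (h6 _ (hmem u hu))
    rwa [← mul_assoc, mul_inv_cancel_right] at h7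

lemma WW.inv (hT : F.StronglyClosed T) (hX : TC F T X) (hf : Maps F X f) (h : WW F T X f)
    (hg : ∀ x ∈ X, g (f x) = x) : WW F T (img f X) g := by
  obtain ⟨fh, h1, h2, h3⟩ := h
  have himg := WW_image hT hX hf h1 h2 h3
  obtain ⟨gi, hgi, hgi1, hgi2⟩ := h1.inv
  rw [himg] at hgi hgi2
  refine ⟨gi, hgi, fun y hy => ?_, fun u hu => ?_⟩
  · obtain ⟨x, hx, rfl⟩ := hf.mem_img.1 hy
    have hxR : x ∈ X ⊔ centralizerIn S T := (le_sup_left : X ≤ _) hx
    rw [← h2 x hx, hgi1 x hxR, h2 x hx, hg x hx]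
  · obtain ⟨a, h4⟩ := hgi2 u hu
    have h5 := T.inv_mem (h3 _ a)
    rwa [h4, mul_inv_rev, inv_inv] at h5

/-- The maps of the generated system have extensions. -/
theorem ww_of_gen [Finite S] [Fact p.Prime] (hS : IsPGroup p S) (hF : F.IsSaturated p)
    (hT : F.StronglyClosed T) (hE : E.IsSaturated p) (hEF : E.IsSubsystemOf F) (hinv : Inv F E)
    (hfr : Frat F E) (h : Gen E p P f) : ∀ X, X ≤ P → E.IsCentric X → WW F T X f := by
  have hTS := hT.1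
  induction h with
  | @gen P₀ R τ hc hτ hn hR =>
    intro X hX _
    obtain ⟨n, hn⟩ := hn
    exact WW.restrict (exists_hat hS hF hT hE hEF hinv hfr hc hτ hn) (hX.trans hR)
  | @conj P₀ g₀ hP hg =>
    intro X hX hXc
    have hle : X ⊔ centralizerIn S T ≤ S := sup_le (hXc.1.trans hTS) inf_le_left
    refine ⟨fun x => g₀ * x * g₀⁻¹, Maps.conj hle (hTS hg), fun _ _ => rfl, fun u hu => ?_⟩
    have h1 := T.mul_mem (inv_conj_mem_T hT (hle hu) hg) (T.inv_mem hg)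
    convert h1 using 1
    group
  | @comp P₀ Q₀ f₀ g₀ hf hg h ihf ihg =>
    intro X hX hXc
    have hfX := hf.maps.restrict hX
    have h1 := ihf X hX hXc
    have hc' : E.IsCentric (img f₀ X) :=
      IsCentric_conj hXc (Cfsg.Agent.Lib.FusionCore.isConj_iff.2 ⟨f₀, hfX, rfl⟩)
    have hle : img f₀ X ≤ Q₀ := by
      intro y hy
      obtain ⟨x, hx, rfl⟩ := hfX.mem_img.1 hy
      exact h x (hX hx)
    exact WW.comp hT (tc_of_centric hfr hXc) (maps_sub hEF hfX) h1 (ihg _ hle hc')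
  | @inv P₀ f₀ g₀ hf hg h ih =>
    intro X hX hXc
    have hgX := hg.restrict hX
    have hc' : E.IsCentric (img g₀ X) :=
      IsCentric_conj hXc (Cfsg.Agent.Lib.FusionCore.isConj_iff.2 ⟨g₀, hgX, rfl⟩)
    have hle : img g₀ X ≤ P₀ := by
      intro y hy
      obtain ⟨x, hx, rfl⟩ := hgX.mem_img.1 hy
      obtain ⟨w, hw, rfl⟩ := hf.maps.mem_img.1 (hX hx)
      rw [h w hw]
      exact hw
    have hfm := hf.maps.restrict hle
    have h1 := ih _ hle hc'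
    have e : img f₀ (img g₀ X) = X := by
      ext y
      rw [hfm.mem_img]
      constructor
      · rintro ⟨z, hz, rfl⟩
        obtain ⟨x, hx, rfl⟩ := hgX.mem_img.1 hz
        obtain ⟨w, hw, rfl⟩ := hf.maps.mem_img.1 (hX hx)
        rw [h w hw]
        exact hx
      · intro hy
        obtain ⟨w, hw, rfl⟩ := hf.maps.mem_img.1 (hX hy)
        exact ⟨g₀ (f₀ w), hgX.mem_img_of_mem hy, by rw [h w hw]⟩
    have h2 := WW.inv (g := g₀) hT (tc_of_centric hfr hc') (maps_sub hEF hfm) h1 (fun x hx => by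
      exact h x (hle hx))
    rwa [e] at h2
  | @congr P₀ f₀ g₀ hf h ih =>
    intro X hX hXc
    obtain ⟨fh, h1, h2, h3⟩ := ih X hX hXc
    exact ⟨fh, h1, fun x hx => by rw [h2 x hx, h x (hX hx)], h3⟩

end Cfsg.Agent.Lib.FusionPPrimeNormal
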