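/-
FusionPPrimeNormal4: `O^{p'}(E)` is normal in `F` when `E` is weakly normal in `F` (S5141), conclusion.
-/
import Mathlib
import Cfsg.Agent.Lib.FusionPPrimeNormal3

set_option autoImplicit false

namespace Cfsg.Agent.Lib.FusionPPrimeNormal

open Cfsg Cfsg.FusionSystem Cfsg.Agent.Lib.FusionCore Cfsg.Agent.Lib.FusionCore2
open Cfsg.Agent.Lib.FusionIndexPrime Cfsg.Agent.Lib.FusionPPrimeRes Cfsg.Agent.Lib.FusionInvariant
open Cfsg.Agent.Lib.FusionPPrimeMin Cfsg.Agent.Lib.FusionSatCrit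

variable {Ω : Type*} [Group Ω] {S T : Subgroup Ω} {F : FusionSystem S} {E : FusionSystem T}
  {P Q R X Y : Subgroup Ω} {f g : Ω → Ω} {p : ℕ}

/-- Maps of `T C_S(T)` fixing `T C_S(T)` modulo `T` are automorphisms. -/
theorem A0_of_gen [Finite S] [Fact p.Prime] (hS : IsPGroup p S) (hF : F.IsSaturated p)
    (hT : F.StronglyClosed T) (hE : E.IsSaturated p) (hEF : E.IsSubsystemOf F) (hinv : Inv F E)
    (hfr : Frat F E) {α : MulAut T} (h : Gen E p T (afn α)) : α ∈ A0 F T := by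
  have hTS := hT.1
  haveI : Finite T := finite_of_le hTS
  obtain ⟨fh, h1, h2, h3⟩ := ww_of_gen hS hF hT hE hEF hinv hfr h T le_rfl isCentric_top
  have hRS : T ⊔ centralizerIn S T ≤ S := sup_le hTS inf_le_left
  have hTR : T ≤ T ⊔ centralizerIn S T := le_sup_left
  have hmem : ∀ u ∈ T ⊔ centralizerIn S T, fh u ∈ T ⊔ centralizerIn S T := by
    intro u hu
    have h4 := Subgroup.mul_mem _ hu (hTR (h3 u hu))
    rwa [mul_inv_cancel_left] at h4
  have himg : img fh (T ⊔ centralizerIn S T) = T ⊔ centralizerIn S T :=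
    img_eq_of_card h1 hRS hRS hmem le_rfl
  refine mem_A0.2 ⟨h1.toAut himg, h1.toAut_mem himg, fun t ht => ?_, fun u hu => ?_⟩
  · rw [h1.afn_toAut himg (hTR ht), h2 t ht]
  · rw [h1.afn_toAut himg hu]
    exact h3 u hu

/-- Transport of a map by an automorphism of `T` in `F`. -/
lemma conjM (hinv : Inv F E) {a : MulAut T} (ha : a ∈ F.autGroup T) (hf : Maps E P f) :
    Maps E (img (afn a) P) (afn a ∘ f ∘ afn a⁻¹) := by
  obtain ⟨k, hk, hk1⟩ := hinv hf a ha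
  refine hk.congr (fun y hy => ?_)
  obtain ⟨x, hx, rfl⟩ := (mem_img_afn' hf.le a).1 hy
  show k (afn a x) = afn a (f (afn a⁻¹ (afn a x)))
  rw [hk1 x hx, afn_inv_afn a (hf.le hx)]

lemma img_afn_inv_img (hP : P ≤ T) (a : MulAut T) : img (afn a⁻¹) (img (afn a) P) = P := by
  ext y
  rw [mem_img_afn' (img_afn_le hP a)]
  constructor
  · rintro ⟨z, hz, rfl⟩
    obtain ⟨x, hx, rfl⟩ := (mem_img_afn' hP a).1 hz
    rwa [afn_inv_afn a (hP hx)]
  · intro hy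
    exact ⟨afn a y, (mem_img_afn' hP a).2 ⟨y, hy, rfl⟩, afn_inv_afn a (hP hy)⟩

lemma img_afn_img_inv (hP : P ≤ T) (a : MulAut T) : img (afn a) (img (afn a⁻¹) P) = P := by
  ext y
  rw [mem_img_afn' (img_afn_le hP a⁻¹)]
  constructor
  · rintro ⟨z, hz, rfl⟩
    obtain ⟨x, hx, rfl⟩ := (mem_img_afn' hP a⁻¹).1 hz
    rwa [afn_afn_inv a (hP hx)]
  · intro hy
    exact ⟨afn a⁻¹ y, (mem_img_afn' hP a⁻¹).2 ⟨y, hy, rfl⟩, afn_afn_inv a (hP hy)⟩

/-- Centric subgroups are permuted by `Aut_F(T)`. -/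
lemma centric_conjF (hinv : Inv F E) {a : MulAut T} (ha : a ∈ F.autGroup T) (hP : E.IsCentric P) :
    E.IsCentric (img (afn a) P) := by
  have hPT := hP.1
  refine ⟨img_afn_le hPT a, fun Q' hQ' c hc => ?_⟩
  obtain ⟨g₀, hg₀, rfl⟩ := Cfsg.Agent.Lib.FusionCore.isConj_iff.1 hQ'
  have hm := conjM hinv (Subgroup.inv_mem _ ha) hg₀
  rw [img_afn_inv_img hPT a] at hm
  have hQT : img g₀ (img (afn a) P) ≤ T := hg₀.img_le
  have h1 := hP.2 _ (Cfsg.Agent.Lib.FusionCore.isConj_iff.2 ⟨_, hm, rfl⟩)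
  have hcT : c ∈ T := (mem_centralizerIn.1 hc).1
  have h2 : afn a⁻¹ c ∈ centralizerIn T (img (afn a⁻¹ ∘ g₀ ∘ afn a⁻¹⁻¹) P) := by
    refine mem_centralizerIn.2 ⟨afn_mem _ hcT, fun y hy => ?_⟩
    obtain ⟨x, hx, rfl⟩ := hm.mem_img.1 hy
    have hz : g₀ (afn a⁻¹⁻¹ x) ∈ img g₀ (img (afn a) P) := by
      refine hg₀.mem_img_of_mem ((mem_img_afn' hPT a).2 ⟨x, hx, ?_⟩)
      rw [inv_inv]
    have h3 := (mem_centralizerIn.1 hc).2 _ hz
    have hzT := hQT hz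
    show afn a⁻¹ (g₀ (afn a⁻¹⁻¹ x)) * afn a⁻¹ c = afn a⁻¹ c * afn a⁻¹ (g₀ (afn a⁻¹⁻¹ x))
    rw [← afn_map_mul' _ hzT hcT, ← afn_map_mul' _ hcT hzT, h3]
  obtain ⟨z, hz, hze⟩ := hm.mem_img.1 (h1 h2)
  have hze' : c = g₀ (afn a⁻¹⁻¹ z) := by
    have h4 := congrArg (afn a) hze
    have hzQ : g₀ (afn a⁻¹⁻¹ z) ∈ T := hQT (hg₀.mem_img_of_mem ((mem_img_afn' hPT a).2 ⟨z, hz, by rw [inv_inv]⟩))
    show c = _
    have e : afn a ((afn a⁻¹ ∘ g₀ ∘ afn a⁻¹⁻¹) z) = g₀ (afn a⁻¹⁻¹ z) := afn_afn_inv a hzQ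
    rw [e, afn_afn_inv a hcT] at h4
    exact h4.symm
  rw [hze']
  exact hg₀.mem_img_of_mem ((mem_img_afn' hPT a).2 ⟨z, hz, by rw [inv_inv]⟩)

/-- Transport of the generated system. -/
lemma Gen.conjF [Finite T] (hinv : Inv F E) {a : MulAut T} (ha : a ∈ F.autGroup T) (h : Gen E p P f) :
    Gen E p (img (afn a) P) (afn a ∘ f ∘ afn a⁻¹) := by
  induction h with
  | @gen P' R τ hc hτ hn hR =>
    have hP'T := hc.1
    have hm := conjM hinv ha ((mem_autGroup_iff hP'T).1 hτ)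
    have hRT : img (afn a) P' ≤ T := img_afn_le hP'T a
    have hmem : ∀ y ∈ img (afn a) P', (afn a ∘ afn τ ∘ afn a⁻¹) y ∈ img (afn a) P' := by
      intro y hy
      obtain ⟨x, hx, rfl⟩ := (mem_img_afn' hP'T a).1 hy
      refine (mem_img_afn' hP'T a).2 ⟨afn τ x, afn_mem τ hx, ?_⟩
      show _ = afn a (afn τ (afn a⁻¹ (afn a x)))
      rw [afn_inv_afn a (hP'T hx)]
    have himg : img (afn a ∘ afn τ ∘ afn a⁻¹) (img (afn a) P') = img (afn a) P' :=
      img_eq_of_card hm hRT hRT hmem le_rfl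
    have hτ' := hm.toAut_mem himg
    have hτe : ∀ x ∈ P', afn (hm.toAut himg) (afn a x) = afn a (afn τ x) := by
      intro x hx
      rw [hm.afn_toAut himg ((mem_img_afn' hP'T a).2 ⟨x, hx, rfl⟩)]
      show afn a (afn τ (afn a⁻¹ (afn a x))) = _
      rw [afn_inv_afn a (hP'T hx)]
    have hpow : ∀ j : ℕ, ∀ x ∈ P', afn (hm.toAut himg ^ j) (afn a x) = afn a (afn (τ ^ j) x) := by
      intro j
      induction j with
      | zero =>
        intro x hx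
        rw [pow_zero, pow_zero, afn_one ((mem_img_afn' hP'T a).2 ⟨x, hx, rfl⟩), afn_one hx]
      | succ j ih =>
        intro x hx
        rw [pow_succ', pow_succ', afn_mul _ _ ((mem_img_afn' hP'T a).2 ⟨x, hx, rfl⟩), afn_mul _ _ hx,
          ih x hx, hτe _ (afn_mem _ hx)]
    obtain ⟨n, hn⟩ := hn
    have hn' : hm.toAut himg ^ p ^ n = 1 := by
      apply afn_ext
      intro y hy
      obtain ⟨x, hx, rfl⟩ := (mem_img_afn' hP'T a).1 hy
      rw [hpow _ x hx, hn, afn_one hx, afn_one hy]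
    have hR' : img (afn a) R ≤ img (afn a) P' := by
      intro y hy
      obtain ⟨x, hx, rfl⟩ := (mem_img_afn' (hR.trans hP'T) a).1 hy
      exact (mem_img_afn' hP'T a).2 ⟨x, hR hx, rfl⟩
    refine (Gen.gen (centric_conjF hinv ha hc) hτ' ⟨n, hn'⟩ hR').congr (fun y hy => ?_)
    exact hm.afn_toAut himg (hR' hy)
  | @conj P₀ g₀ hP hg =>
    refine (Gen.conj (img_afn_le hP a) (show afn a g₀ ∈ T from afn_mem a hg)).congr (fun y hy => ?_)
    obtain ⟨x, hx, rfl⟩ := (mem_img_afn' hP a).1 hy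
    have hxT := hP hx
    show _ = afn a (g₀ * afn a⁻¹ (afn a x) * g₀⁻¹)
    rw [afn_inv_afn a hxT, afn_map_conj' a hg hxT]
  | @comp P₀ Q₀ f₀ g₀ hf hg h ihf ihg =>
    have hPT := hf.maps.le
    have hQT := hg.maps.le
    have hfT := hf.maps
    refine (ihf.comp ihg (fun y hy => ?_)).congr (fun y hy => ?_)
    · obtain ⟨x, hx, rfl⟩ := (mem_img_afn' hPT a).1 hy
      show afn a (f₀ (afn a⁻¹ (afn a x))) ∈ _
      rw [afn_inv_afn a (hPT hx)]
      exact (mem_img_afn' hQT a).2 ⟨f₀ x, h x hx, rfl⟩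
    · obtain ⟨x, hx, rfl⟩ := (mem_img_afn' hPT a).1 hy
      show afn a (g₀ (afn a⁻¹ (afn a (f₀ (afn a⁻¹ (afn a x)))))) = afn a (g₀ (f₀ (afn a⁻¹ (afn a x))))
      rw [afn_inv_afn a (hPT hx), afn_inv_afn a (hfT.mem hx)]
  | @inv P₀ f₀ g₀ hf hg h ih =>
    have hPT := hf.maps.le
    have hfT := hf.maps
    have hiT : img f₀ P₀ ≤ T := hfT.img_le
    have e : img (afn a ∘ f₀ ∘ afn a⁻¹) (img (afn a) P₀) = img (afn a) (img f₀ P₀) := by
      ext y
      rw [ih.maps.mem_img, mem_img_afn' hiT]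
      constructor
      · rintro ⟨z, hz, rfl⟩
        obtain ⟨x, hx, rfl⟩ := (mem_img_afn' hPT a).1 hz
        refine ⟨f₀ x, hfT.mem_img_of_mem hx, ?_⟩
        show _ = afn a (f₀ (afn a⁻¹ (afn a x)))
        rw [afn_inv_afn a (hPT hx)]
      · rintro ⟨z, hz, rfl⟩
        obtain ⟨x, hx, rfl⟩ := hfT.mem_img.1 hz
        refine ⟨afn a x, (mem_img_afn' hPT a).2 ⟨x, hx, rfl⟩, ?_⟩
        show afn a (f₀ (afn a⁻¹ (afn a x))) = _
        rw [afn_inv_afn a (hPT hx)]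
    have hU := conjM hinv ha hg
    have := Gen.inv ih (e.symm ▸ hU) (fun y hy => ?_)
    · rwa [e] at this
    · obtain ⟨x, hx, rfl⟩ := (mem_img_afn' hPT a).1 hy
      show afn a (g₀ (afn a⁻¹ (afn a (f₀ (afn a⁻¹ (afn a x)))))) = afn a x
      rw [afn_inv_afn a (hPT hx), afn_inv_afn a (hfT.mem hx), h x hx]
  | @congr P₀ f₀ g₀ hf h ih =>
    have hPT := hf.maps.le
    refine ih.congr (fun y hy => ?_)
    obtain ⟨x, hx, rfl⟩ := (mem_img_afn' hPT a).1 hy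
    show afn a (f₀ (afn a⁻¹ (afn a x))) = afn a (g₀ (afn a⁻¹ (afn a x)))
    rw [afn_inv_afn a (hPT hx), h x hx]

/-- `Aut⁰(E)` is normalized by `Aut_F(T)`. -/
lemma Aut0_conjF [Finite T] (hinv : Inv F E) {a b : MulAut T} (ha : a ∈ F.autGroup T)
    (hb : b ∈ Aut0 E p) : a * b * a⁻¹ ∈ Aut0 E p := by
  induction hb using Subgroup.closure_induction with
  | mem b hb =>
    obtain ⟨hb1, X, hX, hbX⟩ := hb
    have e : ∀ y ∈ T, (afn a ∘ afn b ∘ afn a⁻¹) y = afn (a * b * a⁻¹) y := by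
      intro y hy
      rw [afn_mul _ _ hy, afn_mul _ _ (afn_mem _ hy)]
      rfl
    have h1 : a * b * a⁻¹ ∈ E.autGroup T := by
      rw [mem_autGroup_iff le_rfl]
      have h2 := conjM hinv ha ((mem_autGroup_iff le_rfl).1 hb1)
      rw [afn_img] at h2
      exact h2.congr e
    have h3 := Gen.conjF hinv ha hbX
    exact mem_Aut0 h1 (centric_conjF hinv ha hX) (h3.congr (fun y hy => e y (img_afn_le hX.1 a hy)))
  | one =>
    rw [mul_one, mul_inv_cancel]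
    exact Subgroup.one_mem _
  | mul b c _ _ hb hc =>
    have e : a * (b * c) * a⁻¹ = (a * b * a⁻¹) * (a * c * a⁻¹) := by group
    rw [e]
    exact Subgroup.mul_mem _ hb hc
  | inv b _ hb =>
    have e : a * b⁻¹ * a⁻¹ = (a * b * a⁻¹)⁻¹ := by group
    rw [e]
    exact Subgroup.inv_mem _ hb

/-- `Aut⁰(E)` extends. -/
theorem Aut0_le_A0 [Finite S] [Fact p.Prime] (hS : IsPGroup p S) (hF : F.IsSaturated p)
    (hT : F.StronglyClosed T) (hE : E.IsSaturated p) (hEF : E.IsSubsystemOf F) (hinv : Inv F E)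
    (hfr : Frat F E) : Aut0 E p ≤ A0 F T := by
  have hTS := hT.1
  haveI : Finite T := finite_of_le hTS
  have hTp : IsPGroup p T := hS.to_le hTS
  have hp : p.Prime := Fact.out
  rw [Aut0, Subgroup.closure_le]
  rintro a ⟨ha, X, hX, h⟩
  haveI : Finite (MulAut T) := finite_mulAut hTS
  obtain ⟨e, n', hn', hfac⟩ := Nat.exists_eq_pow_mul_and_not_dvd (orderOf_pos a).ne' p hp.ne_one
  have hcop : n'.Coprime p := ((Nat.Prime.coprime_iff_not_dvd hp).2 hn').symm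
  have hcop' : (p ^ e).Coprime n' := (hcop.symm).pow_left e
  obtain ⟨s, hs1, hs2⟩ := exists_mul_crt hcop'
  have hord : a ^ (p ^ e * n') = 1 := by rw [← hfac]; exact pow_orderOf_eq_one a
  -- the two parts
  obtain ⟨aq, haqd⟩ : ∃ aq, aq = a ^ s := ⟨_, rfl⟩
  obtain ⟨ap, hapd⟩ : ∃ ap, ap = a * aq⁻¹ := ⟨_, rfl⟩
  have hcomm : Commute a aq := by
    rw [haqd]
    exact (Commute.refl a).pow_right s
  have hqpow : aq ^ n' = 1 := by
    obtain ⟨w, rfl⟩ := hs1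
    rw [haqd, ← pow_mul]
    have : p ^ e * w * n' = p ^ e * n' * w := by ring
    rw [this, pow_mul, hord, one_pow]
  have hx1 : (a ^ p ^ e) ^ n' = 1 := by rw [← pow_mul, hord]
  have hx2 := pow_eq_self_of_mod hx1 hs2
  have hppow : ap ^ p ^ e = 1 := by
    rw [hapd, hcomm.inv_right.mul_pow, inv_pow, haqd, ← pow_mul, mul_comm s, pow_mul, hx2, mul_inv_cancel]
  have hEap : aq ∈ E.autGroup T := by
    rw [haqd]
    exact Subgroup.pow_mem _ ha s
  have hap : ap ∈ E.autGroup T := by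
    rw [hapd]
    exact Subgroup.mul_mem _ ha (Subgroup.inv_mem _ hEap)
  have hgp := gen_of_pow hTp hE le_rfl hap hppow
  have h1 : ap ∈ A0 F T := A0_of_gen hS hF hT hE hEF hinv hfr hgp
  have hapi : ap⁻¹ ∈ E.autGroup T := Subgroup.inv_mem _ hap
  have hgpi := gen_of_pow (n := e) hTp hE le_rfl hapi (by rw [inv_pow, hppow, inv_one])
  have haeq : aq = ap⁻¹ * a := by
    rw [hapd, mul_inv_rev, inv_inv, inv_mul_cancel_right]
  have hgq : Gen E p X (afn aq) := by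
    refine (Gen.comp h hgpi (fun x hx => afn_mem a (hX.1 hx))).congr (fun x hx => ?_)
    rw [haeq, afn_mul _ _ (hX.1 hx)]
    rfl
  obtain ⟨ω, hω, hωa, hωT⟩ := ww_of_gen hS hF hT hE hEF hinv hfr hgq X le_rfl hX
  have hFq : aq ∈ F.autGroup T := (mem_autGroup_iff hTS).2 (maps_sub hEF ((mem_autGroup_iff le_rfl).1 hEap))
  have h2 : aq ∈ A0 F T := mem_A0_of_ext hS hF hT hFq hcop hqpow (tc_of_centric hfr hX) hω hωa hωT
  have h3 := Subgroup.mul_mem _ h1 h2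
  rwa [hapd, inv_mul_cancel_right] at h3

/-- **`O^{p'}(E)` is normal in `F`.** -/
theorem main [Finite S] [Fact p.Prime] (hS : IsPGroup p S) (hF : F.IsSaturated p) {D : FusionSystem T}
    (hE : E.IsWeaklyNormalIn F p) (hD : E.IsPPrimeResidual p D) : D.IsNormalIn F p := by
  obtain ⟨hEs, -, hEi⟩ := hE
  obtain ⟨hEF, hst, hinv, hfr⟩ := isInvariantIn_iff.1 hEi
  have hTS := hst.1
  haveI : Finite T := finite_of_le hTS
  have hTp : IsPGroup p T := hS.to_le hTS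
  have hDp := exists_res (p := p) hTp hEs
  have hDDp := hD.2.2 _ hDp.1 hDp.2.1
  have hDpD := hDp.2.2 D hD.1 hD.2.1
  have hDm : ∀ {P : Subgroup Ω} {f : Ω → Ω}, Maps D P f ↔ AM E p (Aut0 E p) P f := by
    intro P f
    constructor
    · intro h
      exact maps_subSys.1 ⟨h.hom, hDDp _ h.hom_mem, h.hom_apply⟩
    · intro h
      have h1 := (maps_subSys (hH := Aut0_le)).2 h
      exact ⟨h1.hom, hDpD _ h1.hom_mem, h1.hom_apply⟩
  have hDF : D.IsSubsystemOf F := fun P _ hφ => hEF P (hD.2.1.1 P hφ)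
  have hEautF : ∀ {c : MulAut T}, c ∈ E.autGroup T → c ∈ F.autGroup T := fun hc =>
    (mem_autGroup_iff hTS).2 (maps_sub hEF ((mem_autGroup_iff le_rfl).1 hc))
  have hinvD : Inv F D := by
    intro P f h a ha
    obtain ⟨b, hb, f₀, h0, hff⟩ := hDm.1 h
    have hPT := h0.maps.le
    refine ⟨afn (a * b * a⁻¹) ∘ (afn a ∘ f₀ ∘ afn a⁻¹), hDm.2 ⟨a * b * a⁻¹, Aut0_conjF hinv ha hb, _,
      Gen.conjF hinv ha h0, fun _ _ => rfl⟩, fun x hx => ?_⟩
    show afn (a * b * a⁻¹) (afn a (f₀ (afn a⁻¹ (afn a x)))) = _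
    have hT0 := h0.maps.mem hx
    rw [afn_inv_afn a (hPT hx), hff x hx, afn_mul _ _ (afn_mem _ hT0), afn_mul _ _ (afn_mem _ (afn_mem _ hT0)),
      afn_inv_afn a hT0]
  have hfrD : Frat F D := by
    intro P f hP hf
    obtain ⟨a, ha, f₁, h1, hff⟩ := hfr hP hf
    obtain ⟨c, hc, f₀, h0, hff'⟩ : BigM E p P f₁ :=
      maps_ofMaps.1 (le_maps (le_bigSys hTp hEs) h1)
    refine ⟨a * c, Subgroup.mul_mem _ ha (hEautF hc), f₀, hDm.2 (AM.of_gen h0), fun x hx => ?_⟩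
    rw [hff x hx, hff' x hx, afn_mul _ _ (h0.maps.mem hx)]
  refine ⟨⟨hD.1, hF, isInvariantIn_iff.2 ⟨hDF, hst, hinvD, hfrD⟩⟩, fun α hα => ?_⟩
  obtain ⟨b, hb, f₀, h0, hff⟩ := hDm.1 ((mem_autGroup_iff le_rfl).1 hα)
  have hA := Aut0_le_A0 hS hF hst hEs hEF hinv hfr
  have hb' : b ∈ A0 F T := hA hb
  have hg : Gen E p T (afn (b⁻¹ * α)) := by
    refine h0.congr (fun x hx => ?_)
    rw [afn_mul _ _ hx, hff x hx, afn_inv_afn _ (h0.maps.mem hx)]
  have hα0 := A0_of_gen hS hF hst hEs hEF hinv hfr hg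
  have hαA : α ∈ A0 F T := by
    have := Subgroup.mul_mem _ hb' hα0
    rwa [mul_inv_cancel_left] at this
  obtain ⟨β, hβ1, hβ2, hβ3⟩ := mem_A0.1 hαA
  have hTR : T ≤ T ⊔ centralizerIn S T := le_sup_left
  have hCR : centralizerIn S T ≤ T ⊔ centralizerIn S T := le_sup_right
  refine ⟨β, hβ1, fun x => ?_, fun c hc => ?_⟩
  · have h1 := hβ2 x x.2
    rw [afn_of_mem β (hTR x.2), afn_of_mem α x.2] at h1
    exact h1
  · have h1 := hβ3 c c.2
    rw [afn_of_mem β c.2] at h1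
    refine ⟨h1, Subgroup.mem_centralizer_iff.2 (fun t ht => ?_)⟩
    have ht' : t ∈ T := ht
    have hs : afn α⁻¹ t ∈ T := afn_mem _ ht'
    have e1 : afn β (afn α⁻¹ t) = t := by rw [hβ2 _ hs, afn_afn_inv α ht']
    have hβm : Maps F (T ⊔ centralizerIn S T) (afn β) :=
      (mem_autGroup_iff (sup_le hTS inf_le_left)).1 hβ1
    have e2 : t * afn β (c : Ω) = afn β (c : Ω) * t := by
      conv_lhs => rw [← e1]
      conv_rhs => rw [← e1]
      rw [← hβm.map_mul (hTR hs) c.2, ← hβm.map_mul c.2 (hTR hs), comm_cent hc hs]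
    rw [afn_of_mem β c.2] at e2
    have e3 : t * (c : Ω)⁻¹ = (c : Ω)⁻¹ * t := comm_cent (Subgroup.inv_mem _ hc) ht'
    calc t * ((c : Ω)⁻¹ * (β c : Ω)) = (t * (c : Ω)⁻¹) * (β c : Ω) := by group
      _ = (c : Ω)⁻¹ * (t * (β c : Ω)) := by rw [e3]; group
      _ = (c : Ω)⁻¹ * ((β c : Ω) * t) := by rw [e2]
      _ = _ := by group

end Cfsg.Agent.Lib.FusionPPrimeNormal
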