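/-
AschCF: the normal subsystem `C_F(E)` over `C_S(E)`.
-/
import Mathlib
import Cfsg.Agent.Lib.AschStrong
import Cfsg.Agent.S5113
import Cfsg.Agent.S5120
import Cfsg.Agent.S5140
import Cfsg.Agent.S5141

set_option autoImplicit false
set_option linter.unusedSectionVars false
set_option linter.unusedVariables false
set_option linter.unusedSimpArgs false
set_option linter.style.haveILetI false

namespace Cfsg.Agent.Lib.AschCore

open Cfsg Cfsg.FusionSystem Cfsg.Agent.Lib.FusionCore Cfsg.Agent.Lib.FusionCore2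
open Cfsg.Agent.Lib.FusionIndexPrime (ofMaps)
open Cfsg.Agent.Lib.FusionInvariant (Str Inv Frat isInvariantIn_iff str_of_inv_frat maps_sub StrongMem aut_maps strong_img_le)

universe u

variable {Ω : Type u} [Group Ω] {S T : Subgroup Ω} {F : FusionSystem S} {E : FusionSystem T} {p : ℕ}

section CF

variable [Finite S] {Y : Subgroup Ω}

/-- A map of `F` between subgroups of a strongly closed `Y ≤ C_S(T)` extends to a map on `P T` preserving `T`. -/
lemma exists_ext_T [Fact p.Prime] (hS : IsPGroup p S) (hF : F.IsSaturated p) (hT : F.StronglyClosed T) (hY : F.StronglyClosed Y)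
    (hYR : Y ≤ centralizerIn S T) {P : Subgroup Ω} (hPY : P ≤ Y) {g : Ω → Ω} (hg : Maps F P g) :
    ∃ gh, Maps F (P ⊔ T) gh ∧ (∀ x ∈ P, gh x = g x) ∧ img gh T = T := by
  have hTS := hT.1
  have hYS := hY.1
  have hPS : P ≤ S := hPY.trans hYS
  haveI : Finite T := finite_of_le hTS
  obtain ⟨P₂, hPP₂, hP₂⟩ := exists_fullyCentralized_conj (F := F) hPS
  have hR := receptive_of_fullyCentralized hS hF hP₂
  obtain ⟨f, hf, hfimg⟩ := isConj_iff.1 hPP₂
  have hP₂Y : P₂ ≤ Y := by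
    rw [← hfimg]
    exact strong_img_le hY hPY hf
  set R₁ := img g P with hR₁
  have hR₁Y : R₁ ≤ Y := strong_img_le hY hPY hg
  obtain ⟨gi, hgi, hgi1, hgi2⟩ := hg.inv
  have he : Maps F R₁ (f ∘ gi) := hgi.comp hf (fun y hy => (hgi2 y hy).1)
  have himg_e : img (f ∘ gi) R₁ = P₂ := by
    rw [← hfimg]
    ext y
    rw [he.mem_img, hf.mem_img]
    constructor
    · rintro ⟨w, hw, rfl⟩
      exact ⟨gi w, (hgi2 w hw).1, rfl⟩
    · rintro ⟨w, hw, rfl⟩
      exact ⟨g w, hg.mem_img_of_mem hw, by simp only [Function.comp]; rw [hgi1 w hw]⟩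
  obtain ⟨fh, hfh, hfh1⟩ := IsReceptive.ext hR hf hfimg
  obtain ⟨eh, heh, heh1⟩ := IsReceptive.ext hR he himg_e
  have hTC : ∀ {Z : Subgroup Ω}, Z ≤ Y → T ≤ centralizerIn S Z := by
    intro Z hZ t ht
    exact mem_centralizerIn.2 ⟨hTS ht, fun z hz => ((mem_centralizerIn.1 (hYR (hZ hz))).2 t ht).symm⟩
  have hfhm : Maps F (P ⊔ T) fh := hfh.restrict (sup_le (le_Nf hf) ((hTC hPY).trans (centralizerIn_le_Nf hf)))
  have hehm : Maps F (R₁ ⊔ T) eh := heh.restrict (sup_le (le_Nf he) ((hTC hR₁Y).trans (centralizerIn_le_Nf he)))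
  have hTimg : ∀ {k : Ω → Ω} {Z : Subgroup Ω}, Maps F (Z ⊔ T) k → img k T = T := by
    intro k Z hk
    have hkT : Maps F T k := hk.restrict le_sup_right
    exact img_eq_of_card hkT hTS hTS (fun x hx => StrongMem hT le_rfl hkT hx) le_rfl
  have himgeh : img eh (R₁ ⊔ T) = P₂ ⊔ T := by
    rw [hehm.img_sup, hTimg hehm, img_congr heh1, himg_e]
  obtain ⟨ei, hei, hei1, hei2⟩ := hehm.inv
  rw [himgeh] at hei hei2
  have hfhv : ∀ x ∈ P ⊔ T, fh x ∈ P₂ ⊔ T := hfhm.sup_mem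
    (fun x hx => by
      rw [hfh1 x hx]
      exact (le_sup_left : P₂ ≤ P₂ ⊔ T) (hfimg ▸ hf.mem_img_of_mem hx))
    (fun x hx => (le_sup_right : T ≤ P₂ ⊔ T) (StrongMem hT le_rfl (hfhm.restrict le_sup_right) hx))
  have hcomp : Maps F (P ⊔ T) (ei ∘ fh) := hfhm.comp hei hfhv
  refine ⟨ei ∘ fh, hcomp, fun x hx => ?_, ?_⟩
  · simp only [Function.comp]
    have hgx : g x ∈ R₁ := hg.mem_img_of_mem hx
    have e1 : fh x = eh (g x) := by
      rw [hfh1 x hx, heh1 _ hgx]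
      simp only [Function.comp]
      rw [hgi1 x hx]
    rw [e1, hei1 _ ((le_sup_left : R₁ ≤ R₁ ⊔ T) hgx)]
  · exact hTimg hcomp

/-- Conjugation by an automorphism of `Y` preserves `C_F(T)`. -/
lemma conj_mapsD [Fact p.Prime] (hS : IsPGroup p S) (hF : F.IsSaturated p) (hT : F.StronglyClosed T) (hY : F.StronglyClosed Y)
    (hYR : Y ≤ centralizerIn S T) {D₀ : FusionSystem (centralizerIn S T)} (hD₀ : F.IsCentralizerSystem T D₀) {a : MulAut Y}
    (ha : a ∈ F.autGroup Y) {P : Subgroup Ω} (hPY : P ≤ Y) {ψ : Ω → Ω} (hψ : Maps D₀ P ψ) (hψY : ∀ x ∈ P, ψ x ∈ Y) :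
    Maps D₀ (img (afn a) P) (afn a ∘ ψ ∘ afn a⁻¹) := by
  have hYS := hY.1
  have hTS := hT.1
  haveI : Finite Y := finite_of_le hYS
  have ham : Maps F Y (afn a) := (mem_autGroup_iff hYS).1 ha
  have hai : Maps F Y (afn a⁻¹) := (mem_autGroup_iff hYS).1 (Subgroup.inv_mem _ ha)
  obtain ⟨ah, hah, hah1, hah2⟩ := exists_ext_T hS hF hT hY hYR le_rfl ham
  have himg : img ah (Y ⊔ T) = Y ⊔ T := by
    rw [hah.img_sup, hah2, img_congr hah1, afn_img]
  obtain ⟨ai, hai', hai1, hai2⟩ := hah.inv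
  rw [himg] at hai' hai2
  have haiv : ∀ y ∈ Y, ai y = afn a⁻¹ y := by
    intro y hy
    have hy' := afn_mem a⁻¹ hy
    have := hai1 _ ((le_sup_left : Y ≤ Y ⊔ T) hy')
    rwa [hah1 _ hy', afn_afn_inv _ hy] at this
  have haiT : ∀ t ∈ T, ai t ∈ T := fun t ht =>
    StrongMem hT le_rfl (hai'.restrict le_sup_right) ht
  have hamP : Maps F P (afn a) := ham.restrict hPY
  set P₂ := img (afn a) P with hP₂
  have hP₂Y : P₂ ≤ Y := by
    intro y hy
    obtain ⟨x, hx, rfl⟩ := hamP.mem_img.1 hy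
    exact afn_mem a (hPY hx)
  obtain ⟨hψF, hPR, hψR, k, hk, hk1, hk2⟩ := (maps_cent hD₀).1 hψ
  have hback : ∀ y ∈ P₂, afn a⁻¹ y ∈ P := by
    intro y hy
    obtain ⟨x, hx, rfl⟩ := hamP.mem_img.1 hy
    rw [afn_inv_afn a (hPY hx)]
    exact hx
  have hmem1 : ∀ x ∈ P₂ ⊔ T, ai x ∈ P ⊔ T := by
    have hr := hai'.restrict (sup_le_sup_right hP₂Y T)
    exact hr.sup_mem
      (fun x hx => by
        rw [haiv x (hP₂Y hx)]
        exact (le_sup_left : P ≤ P ⊔ T) (hback x hx))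
      (fun x hx => (le_sup_right : T ≤ P ⊔ T) (haiT x hx))
  have hmem2 : ∀ x ∈ P ⊔ T, k x ∈ Y ⊔ T := hk.sup_mem
    (fun x hx => by rw [hk1 x hx]; exact (le_sup_left : Y ≤ Y ⊔ T) (hψY x hx))
    (fun x hx => by rw [hk2 x hx]; exact (le_sup_right : T ≤ Y ⊔ T) hx)
  have hcomp : Maps F (P₂ ⊔ T) (ah ∘ k ∘ ai) :=
    (hai'.restrict (sup_le_sup_right hP₂Y T)).comp (hk.comp hah hmem2) hmem1
  have hval : ∀ y ∈ P₂, (ah ∘ k ∘ ai) y = (afn a ∘ ψ ∘ afn a⁻¹) y := by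
    intro y hy
    simp only [Function.comp]
    rw [haiv y (hP₂Y hy), hk1 _ (hback y hy), hah1 _ (hψY _ (hback y hy))]
  refine (maps_cent hD₀).2 ⟨?_, hP₂Y.trans hYR, fun y hy => ?_, ah ∘ k ∘ ai, hcomp, hval, fun t ht => ?_⟩
  · exact (hcomp.restrict le_sup_left).congr hval
  · simp only [Function.comp]
    exact hYR (afn_mem a (hψY _ (hback y hy)))
  · simp only [Function.comp]
    have h1 : ai t ∈ T := haiT t ht
    rw [hk2 _ h1]
    exact (hai2 t ((le_sup_right : T ≤ Y ⊔ T) ht)).2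

/-- The maps of `D₁` whose transports under `a` are in `D₁`. -/
def TM (D₁ : FusionSystem Y) (a : MulAut Y) (R : Subgroup Ω) (f : Ω → Ω) : Prop :=
  Maps D₁ R f ∧ ∃ k, Maps D₁ (img (afn a) R) k ∧ ∀ x ∈ R, k (afn a x) = afn a (f x)

/-- The corresponding subsystem. -/
noncomputable def TMsys (hYS : Y ≤ S) (D₁ : FusionSystem Y) (a : MulAut Y) (ham : Maps F Y (afn a)) : FusionSystem Y :=
  ofMaps D₁ (TM D₁ a) (fun h => h.1)
    (fun {P f g} h hfg => ⟨h.1.congr hfg, by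
      obtain ⟨k, hk, hk1⟩ := h.2
      exact ⟨k, hk, fun x hx => by rw [hk1 x hx, hfg x hx]⟩⟩)
    (fun {P g} hP hg => ⟨Maps.conj hP hg, fun y => afn a g * y * (afn a g)⁻¹, by
      refine Maps.conj ?_ (afn_mem a hg)
      intro y hy
      obtain ⟨x, hx, rfl⟩ := (ham.restrict hP).mem_img.1 hy
      exact afn_mem a (hP hx), fun x hx => by
        rw [ham.map_conj hg (hP hx)]⟩)
    (fun {P Q f g} h1 h2 hfm => by
      obtain ⟨k₁, hk₁, hk₁v⟩ := h1.2
      obtain ⟨k₂, hk₂, hk₂v⟩ := h2.2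
      have hPY : P ≤ Y := h1.1.le
      have hQY : Q ≤ Y := h2.1.le
      refine ⟨h1.1.comp h2.1 hfm, k₂ ∘ k₁, hk₁.comp hk₂ (fun y hy => ?_), fun x hx => ?_⟩
      · obtain ⟨x, hx, rfl⟩ := (ham.restrict hPY).mem_img.1 hy
        rw [hk₁v x hx]
        exact (ham.restrict hQY).mem_img_of_mem (hfm x hx)
      · simp only [Function.comp]
        rw [hk₁v x hx, hk₂v _ (hfm x hx)])
    (fun {P f} h => by
      obtain ⟨g, hg, h1, h2⟩ := h.1.inv
      obtain ⟨k, hk, hkv⟩ := h.2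
      have hPY : P ≤ Y := h.1.le
      obtain ⟨ki, hki, hki1, hki2⟩ := hk.inv
      have hfY : img f P ≤ Y := h.1.img_le
      have hrest : ∀ y, y ∈ img (afn a) (img f P) → y ∈ img k (img (afn a) P) := by
        intro y hy
        obtain ⟨z, hz, rfl⟩ := (ham.restrict hfY).mem_img.1 hy
        obtain ⟨x, hx, rfl⟩ := h.1.mem_img.1 hz
        rw [← hkv x hx]
        exact hk.mem_img_of_mem ((ham.restrict hPY).mem_img_of_mem hx)
      refine ⟨g, ⟨hg, ki, hki.restrict hrest, fun y hy => ?_⟩, h1⟩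
      obtain ⟨x, hx, rfl⟩ := h.1.mem_img.1 hy
      rw [← hkv x hx, hki1 _ ((ham.restrict hPY).mem_img_of_mem hx), h1 x hx])

lemma maps_TMsys (hYS : Y ≤ S) {D₁ : FusionSystem Y} {a : MulAut Y} (ham : Maps F Y (afn a)) {R : Subgroup Ω} {f : Ω → Ω} :
    Maps (TMsys hYS D₁ a ham) R f ↔ TM D₁ a R f := by
  constructor
  · rintro ⟨φ, hφ, hv⟩
    have h0 : TM D₁ a R (fn φ) := hφ
    have hfg : ∀ x ∈ R, fn φ x = f x := fun x hx => by rw [fn_of_mem _ hx]; exact hv ⟨x, hx⟩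
    obtain ⟨k, hk, hk1⟩ := h0.2
    exact ⟨h0.1.congr hfg, k, hk, fun x hx => by rw [hk1 x hx, hfg x hx]⟩
  · intro hh
    have hm := hh.1
    refine ⟨hm.hom, ?_, hm.hom_apply⟩
    have hfg : ∀ x ∈ R, f x = fn hm.hom x := fun x hx => by rw [fn_of_mem _ hx, hm.hom_apply]
    obtain ⟨k, hk, hk1⟩ := hh.2
    exact (⟨hh.1.congr hfg, k, hk, fun x hx => by rw [hk1 x hx, hfg x hx]⟩ : TM D₁ a R (fn hm.hom))

/-- Invariance under `Aut_F(Y)` of a saturated subsystem of `p`-power index in `C_F(T)` over `Y`. -/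
lemma inv_of_index [Fact p.Prime] (hS : IsPGroup p S) (hF : F.IsSaturated p) (hT : F.StronglyClosed T) (hY : F.StronglyClosed Y)
    (hYR : Y ≤ centralizerIn S T) {D₀ : FusionSystem (centralizerIn S T)} (hD₀ : F.IsCentralizerSystem T D₀)
    {D₁ : FusionSystem Y} (hD₁s : D₁.IsSaturated p) (hD₁i : D₁.HasPPowerIndexIn D₀ p) : Inv F D₁ := by
  classical
  have hYS := hY.1
  haveI : Finite Y := finite_of_le hYS
  have hYp : IsPGroup p Y := hS.to_le hYS
  intro P f hf a ha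
  have ham : Maps F Y (afn a) := (mem_autGroup_iff hYS).1 ha
  let L : FusionSystem Y := TMsys hYS D₁ a ham
  have hM : ∀ {R : Subgroup Ω} {g : Ω → Ω}, Maps L R g ↔ TM D₁ a R g := maps_TMsys hYS ham
  have hLD : ∀ R : Subgroup Ω, L.Hom R ⊆ D₁.Hom R := by
    intro R φ hφ
    exact (hM.1 (Maps.of_mem hφ)).1.mem_hom (fun x => (fn_coe φ x).symm)
  have hsubD : ∀ {R : Subgroup Ω} {g : Ω → Ω}, Maps D₁ R g → Maps D₀ R g := fun {R g} hg => ⟨hg.hom, hD₁i.1 R hg.hom_mem, hg.hom_apply⟩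
  have hall : ∀ R : Subgroup Ω, D₁.Hom R ⊆ L.Hom R := by
    refine Cfsg.Agent.Lib.FusionAlperin.alperin hYp hD₁s hLD ?_
    intro B hBY hFA hRec hC IH φ hφ hr
    have hmφ := Maps.of_mem hφ
    have himgφ : img (fn φ) B = B := by rw [img_eq_range φ (fun x => (fn_coe φ x).symm), hr]
    haveI : Finite B := finite_of_le (hBY.trans hYS)
    haveI : Finite (MulAut B) := finite_mulAut (S := Y) hBY
    obtain ⟨-, R, hR⟩ := hFA
    let K : Subgroup ↥(D₁.autGroup B) := (L.autGroup B).subgroupOf (D₁.autGroup B)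
    have hRK : (R : Subgroup ↥(D₁.autGroup B)) ≤ K := by
      rw [hR]
      intro r hr
      exact Subgroup.mem_subgroupOf.2 (autInducedBy_le_autGroup hBY (Subgroup.mem_subgroupOf.1 hr))
    have hamB : Maps F B (afn a) := ham.restrict hBY
    have hPK : pResidual p ↥(D₁.autGroup B) ≤ K := by
      rw [pResidual, Subgroup.closure_le]
      intro α hcop
      have hαm : Maps D₁ B (afn (α : MulAut B)) := (mem_autGroup_iff hBY).1 α.2
      set B₂ := img (afn a) B with hB₂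
      have hB₂Y : B₂ ≤ Y := by
        intro y hy
        obtain ⟨x, hx, rfl⟩ := hamB.mem_img.1 hy
        exact afn_mem a (hBY hx)
      have hαY : ∀ x ∈ B, afn (α : MulAut B) x ∈ Y := fun x hx => hBY (afn_mem _ hx)
      have hc := conj_mapsD hS hF hT hY hYR hD₀ ha hBY (hsubD hαm) hαY
      let α₂ : MulAut B₂ := MulAut.congr (hamB.equiv rfl) (α : MulAut B)
      have hα₂v : ∀ x ∈ B, afn α₂ (afn a x) = afn a (afn (α : MulAut B) x) := fun x hx => hamB.afn_congr rfl _ hx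
      have hα₂D : α₂ ∈ D₀.autGroup B₂ := by
        refine (mem_autGroup_iff (hB₂Y.trans hYR)).2 (hc.congr (fun y hy => ?_))
        obtain ⟨x, hx, rfl⟩ := hamB.mem_img.1 hy
        simp only [Function.comp]
        rw [afn_inv_afn a (hBY hx), hα₂v x hx]
      have hordα₂ : (orderOf (⟨α₂, hα₂D⟩ : ↥(D₀.autGroup B₂))).Coprime p := by
        rw [Subgroup.orderOf_mk]
        show (orderOf (MulAut.congr (hamB.equiv rfl) (α : MulAut B))).Coprime p
        rw [MulEquiv.orderOf_eq, Subgroup.orderOf_coe]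
        exact hcop
      have hres : (⟨α₂, hα₂D⟩ : ↥(D₀.autGroup B₂)) ∈ pResidual p ↥(D₀.autGroup B₂) := Subgroup.subset_closure hordα₂
      have hα₂D₁ : α₂ ∈ D₁.autGroup B₂ := hD₁i.2.2 B₂ hB₂Y ⟨_, hres, rfl⟩
      have hα₂m : Maps D₁ B₂ (afn α₂) := (mem_autGroup_iff hB₂Y).1 hα₂D₁
      exact Subgroup.mem_subgroupOf.2 ((mem_autGroup_iff hBY).2 (hM.2 ⟨hαm, afn α₂, hα₂m, hα₂v⟩))
    have hmem : ∀ α : ↥(D₁.autGroup B), α ∈ K := by
      intro α
      obtain ⟨κ, hκ, r, hr', e⟩ := Cfsg.Agent.Lib.FusionHyperfocal.exists_pResidual_mul_sylow R α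
      rw [e]
      exact K.mul_mem (hPK hκ) (hRK hr')
    have h1 := hmem ⟨hmφ.toAut himgφ, hmφ.toAut_mem himgφ⟩
    have h2 : Maps L B (afn (hmφ.toAut himgφ)) := (mem_autGroup_iff hBY).1 (Subgroup.mem_subgroupOf.1 h1)
    exact (h2.congr (fun x hx => hmφ.afn_toAut himgφ hx)).mem_hom (fun x => (fn_coe φ x).symm)
  have h1 : Maps L P f := ⟨hf.hom, hall P hf.hom_mem, hf.hom_apply⟩
  exact (hM.1 h1).2

/-- The Frattini condition for a normal subsystem of `C_F(T)` over `Y`. -/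
lemma frat_of_normal [Fact p.Prime] (hS : IsPGroup p S) (hF : F.IsSaturated p) (hT : F.StronglyClosed T) (hY : F.StronglyClosed Y)
    (hYR : Y ≤ centralizerIn S T) (hYθ : ∀ θ : MulAut ↥(KK S T), Pres F T θ → ∀ x ∈ Y, afn θ x ∈ Y)
    {D₀ : FusionSystem (centralizerIn S T)} (hD₀ : F.IsCentralizerSystem T D₀)
    {D₁ : FusionSystem Y} (hFr : Frat D₀ D₁) : Frat F D₁ := by
  intro P f hPY hf
  have hTS := hT.1
  have hYS := hY.1
  haveI : Finite Y := finite_of_le hYS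
  have hfY : ∀ x ∈ P, f x ∈ Y := fun x hx => StrongMem hY hPY hf hx
  obtain ⟨fh, hfh, hfh1, hfh2⟩ := exists_ext_T hS hF hT hY hYR hPY hf
  have hfhT : Maps F T fh := hfh.restrict le_sup_right
  let α : MulAut T := hfhT.toAut hfh2
  have hα : α ∈ F.autGroup T := hfhT.toAut_mem hfh2
  have hαv : ∀ x ∈ T, afn α x = fh x := fun x hx => hfhT.afn_toAut hfh2 hx
  have hTc := (of_fullyNormalized hS hF (sc_fullyNormalized hT)).1
  have hTR : F.IsReceptive T := receptive_of_fullyCentralized hS hF hTc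
  obtain ⟨θ, hθ, hθ1⟩ := exists_pres hTS hTR (aut_maps hT hα) (afn_img α)
  have hθm := hθ.maps hTS
  have hθi := hθ.inv hTS
  have hfhK : ∀ x ∈ P ⊔ T, fh x ∈ KK S T := hfh.sup_mem
    (fun x hx => by rw [hfh1 x hx]; exact Y_le_KK (hYR (hfY x hx)))
    (fun x hx => Q_le_KK (StrongMem hT le_rfl hfhT hx))
  have hcomp : Maps F (P ⊔ T) (afn θ⁻¹ ∘ fh) := hfh.comp (hθi.maps hTS) hfhK
  have hfixT : ∀ t ∈ T, (afn θ⁻¹ ∘ fh) t = t := by
    intro t ht
    simp only [Function.comp]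
    rw [← hαv t ht, ← hθ1 t ht, afn_inv_afn θ (Q_le_KK ht)]
  have hvalP : ∀ x ∈ P, (afn θ⁻¹ ∘ fh) x = afn θ⁻¹ (f x) := fun x hx => by
    simp only [Function.comp]
    rw [hfh1 x hx]
  have hm₁ : Maps D₀ P (afn θ⁻¹ ∘ fh) :=
    (maps_cent hD₀).2 ⟨hcomp.restrict le_sup_left, hPY.trans hYR, fun x hx => by
      rw [hvalP x hx]
      exact hθi.memY hTS (hYR (hfY x hx)), _, hcomp, fun _ _ => rfl, hfixT⟩
  obtain ⟨a₁, ha₁, f₀, hf₀, hf₀v⟩ := hFr hPY hm₁
  have hYK : Y ≤ KK S T := hYR.trans le_sup_right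
  have hθY : Maps F Y (afn θ) := hθm.restrict hYK
  have hθimg : img (afn θ) Y = Y := img_eq_of_card hθY hYS hYS (fun x hx => hYθ θ hθ x hx) le_rfl
  have ha₁F : a₁ ∈ F.autGroup Y := by
    have h1 : Maps D₀ Y (afn a₁) := (mem_autGroup_iff (hYR)).1 ha₁
    have h2 : Maps F Y (afn a₁) := ((maps_cent hD₀).1 h1).1
    exact (mem_autGroup_iff hYS).2 h2
  refine ⟨hθY.toAut hθimg * a₁, Subgroup.mul_mem _ (hθY.toAut_mem hθimg) ha₁F, f₀, hf₀, fun x hx => ?_⟩
  have hf₀Y : f₀ x ∈ Y := hf₀.mem hx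
  rw [afn_mul _ _ hf₀Y, hθY.afn_toAut hθimg (afn_mem _ hf₀Y), ← hf₀v x hx, hvalP x hx,
    afn_afn_inv θ (Y_le_KK (hYR (hfY x hx)))]

/-- The focal subgroup contains the hyperfocal subgroup. -/
lemma hyperfocal_le_focal {T : Subgroup Ω} (D : FusionSystem T) : D.hyperfocalSubgroup p ≤ D.focalSubgroup := by
  rw [hyperfocalSubgroup, Subgroup.closure_le]
  rintro _ ⟨P, α, x, hP, -, rfl⟩
  have hm : Maps D P (afn (α : MulAut P)) := (mem_autGroup_iff hP).1 α.2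
  have := focal_gen hm x.2
  rwa [afn_coe] at this

/-- **The normal subsystem.** -/
theorem exists_normal_CC [Fact p.Prime] (hS : IsPGroup p S) (hF : F.IsSaturated p) (hE : E.IsNormalIn F p) :
    ∃ D : FusionSystem (CC F E), D.IsNormalIn F p ∧ ∀ P : Subgroup Ω, D.Hom P ⊆ F.centralizerHom T P := by
  have hinv := hE.1.2.2
  have hT : F.StronglyClosed T := hinv.2.1
  have hTS := hT.1
  obtain ⟨-, -, hInv, -⟩ := isInvariantIn_iff.1 hinv
  have hY : F.StronglyClosed (CC F E) := CC_stronglyClosed hS hF hE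
  have hYR : CC F E ≤ centralizerIn S T := CC_le
  have hRS : centralizerIn S T ≤ S := inf_le_left
  haveI : Finite (centralizerIn S T) := finite_of_le hRS
  have hRp : IsPGroup p (centralizerIn S T) := hS.to_le hRS
  obtain ⟨D₀, hD₀⟩ := exists_centralizerSystem (F := F) hTS
  have hTc := (of_fullyNormalized hS hF (sc_fullyNormalized hT)).1
  have hD₀s : D₀.IsSaturated p := Cfsg.Agent.Lib.FusionSatNorm.saturated_centralizer hS hF hTc hD₀
  have hfoc : D₀.focalSubgroup ≤ CC F E := focal_le_CC hS hF hE hD₀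
  have hhyp : D₀.hyperfocalSubgroup p ≤ CC F E := (hyperfocal_le_focal D₀).trans hfoc
  obtain ⟨D₁, ⟨hD₁s, hD₁i⟩, -⟩ := Cfsg.Agent.S5113.result p hRp D₀ hD₀s (CC F E) hYR hhyp
  have hYn : ((CC F E).subgroupOf (centralizerIn S T)).Normal := by
    refine ⟨fun y hy r => Subgroup.mem_subgroupOf.2 ?_⟩
    exact CC_conj hT hInv (hRS r.2) (Subgroup.mem_subgroupOf.1 hy)
  have hD₁n : D₁.IsNormalIn D₀ p := Cfsg.Agent.S5120.result p hRp D₀ hD₀s (CC F E) hYR hYn hhyp D₁ hD₁s hD₁i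
  obtain ⟨-, -, -, hFr₀⟩ := isInvariantIn_iff.1 hD₁n.1.2.2
  have hD₀F : ∀ P : Subgroup Ω, D₀.Hom P ⊆ F.Hom P := fun P φ hφ => by
    rw [hD₀ P] at hφ
    exact hφ.1
  have hD₁F : D₁.IsSubsystemOf F := fun P φ hφ => hD₀F P (hD₁i.1 P hφ)
  have hI : Inv F D₁ := inv_of_index hS hF hT hY hYR hD₀ hD₁s hD₁i
  have hFrat : Frat F D₁ := frat_of_normal hS hF hT hY hYR (CC_inv hT hInv) hD₀ hFr₀
  have hW : D₁.IsWeaklyNormalIn F p := ⟨hD₁s, hF, isInvariantIn_iff.2 ⟨hD₁F, hY, hI, hFrat⟩⟩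
  have hYS := hY.1
  haveI : Finite (CC F E) := finite_of_le hYS
  have hYp : IsPGroup p (CC F E) := hS.to_le hYS
  obtain ⟨D, hD⟩ := Cfsg.Agent.S5140.result p hYp D₁ hD₁s
  refine ⟨D, Cfsg.Agent.S5141.result p hS F hF D₁ hW D hD, fun P φ hφ => ?_⟩
  rw [← hD₀ P]
  exact hD₁i.1 P (hD.2.1.1 P hφ)

end CF

end Cfsg.Agent.Lib.AschCore
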