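/-
AschOddGrp: group theory for the odd-prime centralizer theorem: Thompson subgroups when adjoining a central element, the reduction
through Glauberman's local theorem, a kernel from the focal subgroup, and a norm argument.
-/
import Mathlib
import Cfsg.Agent.Lib.FusionJLocal2
import Cfsg.Agent.Lib.FusionConstrSub
import Cfsg.Agent.Lib.FusionHyperfocal
import Cfsg.Agent.Lib.SylowNum
import Cfsg.Agent.Lib.PResid

set_option autoImplicit false
set_option linter.unusedSectionVars false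
set_option linter.unusedVariables false
set_option linter.unusedSimpArgs false
set_option linter.style.haveILetI false

namespace Cfsg.Agent.Lib.AschOdd

open Cfsg Cfsg.Agent.Lib.PCore Cfsg.Agent.Lib.AlperinControl Cfsg.Agent.Lib.FusionJLocal
open scoped commutatorElement

universe u

section Cob

/-- A cocycle trivial on a subgroup of index coprime to the order of the module is a coboundary. -/
theorem coboundary {M A : Type*} [Group M] [CommGroup A] [Finite A] (ρ : M → (A →* A)) (T₀ : Subgroup M) [Finite (M ⧸ T₀)] (ζ : M → A)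
    (hζ : ∀ m n, ζ (m * n) = ρ m (ζ n) * ζ m) (hT : ∀ t ∈ T₀, ζ t = 1) (hc : (Nat.card (M ⧸ T₀)).Coprime (Nat.card A)) :
    ∃ z : A, ∀ m, ρ m z = z * (ζ m)⁻¹ := by
  classical
  letI : Fintype (M ⧸ T₀) := Fintype.ofFinite _
  have hconst : ∀ m t, t ∈ T₀ → ζ (m * t) = ζ m := by
    intro m t ht
    rw [hζ, hT t ht, _root_.map_one, one_mul]
  have h1 : ∀ (m : M) (q : M ⧸ T₀), ρ m (ζ (Quotient.out q)) = ζ (Quotient.out (m • q)) * (ζ m)⁻¹ := by
    intro m q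
    have e : (QuotientGroup.mk (m * Quotient.out q) : M ⧸ T₀) = QuotientGroup.mk (Quotient.out (m • q)) := by
      rw [QuotientGroup.out_eq']
      conv_rhs => rw [← QuotientGroup.out_eq' q]
      rfl
    have e1 := QuotientGroup.eq.1 e
    have e2 : Quotient.out (m • q) = (m * Quotient.out q) * ((m * Quotient.out q)⁻¹ * Quotient.out (m • q)) := by group
    rw [e2, hconst _ _ e1, hζ]
    group
  set n := Nat.card (M ⧸ T₀) with hn
  set w := ∏ q : M ⧸ T₀, ζ (Quotient.out q) with hw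
  have h2 : ∀ m, ρ m w = w * ((ζ m)⁻¹) ^ n := by
    intro m
    rw [hw, map_prod]
    simp_rw [h1 m]
    rw [Finset.prod_mul_distrib, Finset.prod_const, Finset.card_univ, ← Nat.card_eq_fintype_card]
    congr 1
    exact Equiv.prod_comp (MulAction.toPerm m : Equiv.Perm (M ⧸ T₀)) (fun q : M ⧸ T₀ => ζ (Quotient.out q))
  have hexp : ∃ e : ℕ, ∀ c : A, (c ^ n) ^ e = c := by
    rcases Nat.lt_or_ge 1 (Nat.card A) with h3 | h3
    · obtain ⟨e, -, he⟩ := Nat.exists_mul_mod_eq_one_of_coprime hc h3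
      refine ⟨e, fun c => ?_⟩
      rw [← pow_mul, ← pow_mod_natCard, he, pow_one]
    · have hA : Nat.card A = 1 := by
        have : 0 < Nat.card A := Nat.card_pos
        omega
      haveI : Subsingleton A := (Nat.card_eq_one_iff_unique.1 hA).1
      exact ⟨0, fun c => Subsingleton.elim _ _⟩
  obtain ⟨e, he⟩ := hexp
  refine ⟨w ^ e, fun m => ?_⟩
  rw [_root_.map_pow, h2, mul_pow, he]

/-- The norm argument. -/
theorem norm_fix {L : Type*} [Group L] [Finite L] {p : ℕ} [Fact p.Prime] {M T₀ Z : Subgroup L} (hTM : T₀ ≤ M) (hZ : IsPGroup p Z)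
    (hZc : ∀ a ∈ Z, ∀ b ∈ Z, a * b = b * a) (hMZ : ∀ m ∈ M, ∀ z ∈ Z, m * z * m⁻¹ ∈ Z) {a : L} (haZ : ∀ z ∈ Z, a * z = z * a)
    (hζ : ∀ m ∈ M, m * a * m⁻¹ * a⁻¹ ∈ Z) (hTa : ∀ t ∈ T₀, t * a * t⁻¹ = a) (hind : ¬ p ∣ T₀.relIndex M) :
    ∃ z ∈ Z, ∀ m ∈ M, m * (a * z) * m⁻¹ = a * z := by
  classical
  letI : CommGroup ↥Z := { (inferInstance : Group ↥Z) with mul_comm := fun x y => Subtype.ext (hZc x x.2 y y.2) }
  let ρ : ↥M → (↥Z →* ↥Z) := fun m =>
    { toFun := fun z => ⟨(m : L) * z * (m : L)⁻¹, hMZ m m.2 z z.2⟩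
      map_one' := Subtype.ext (by simp)
      map_mul' := fun x y => Subtype.ext (by
        show (m : L) * ((x : L) * y) * (m : L)⁻¹ = (m : L) * x * (m : L)⁻¹ * ((m : L) * y * (m : L)⁻¹)
        group) }
  let ζ : ↥M → ↥Z := fun m => ⟨(m : L) * a * (m : L)⁻¹ * a⁻¹, hζ m m.2⟩
  have hcop : (Nat.card (↥M ⧸ T₀.subgroupOf M)).Coprime (Nat.card ↥Z) := by
    obtain ⟨k, hk⟩ := IsPGroup.iff_card.1 hZ
    rw [hk]
    refine Nat.Coprime.pow_right k ?_
    refine ((Nat.Prime.coprime_iff_not_dvd Fact.out).2 ?_).symm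
    exact hind
  obtain ⟨z, hz⟩ := coboundary ρ (T₀.subgroupOf M) ζ
    (fun m n => Subtype.ext (by
      show ((m : L) * n) * a * ((m : L) * n)⁻¹ * a⁻¹ = (m : L) * ((n : L) * a * (n : L)⁻¹ * a⁻¹) * (m : L)⁻¹ * ((m : L) * a * (m : L)⁻¹ * a⁻¹)
      group))
    (fun t ht => Subtype.ext (by
      show (t : L) * a * (t : L)⁻¹ * a⁻¹ = 1
      rw [hTa t (Subgroup.mem_subgroupOf.1 ht)]
      group))
    hcop
  refine ⟨z, z.2, fun m hm => ?_⟩
  have h1 := congrArg Subtype.val (hz ⟨m, hm⟩)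
  have h1' : m * (z : L) * m⁻¹ = (z : L) * (m * a * m⁻¹ * a⁻¹)⁻¹ := h1
  have h2 := haZ _ (hζ m hm)
  have h3 := hZc _ z.2 _ (hζ m hm)
  calc m * (a * (z : L)) * m⁻¹ = (m * a * m⁻¹) * (m * (z : L) * m⁻¹) := by group
    _ = (m * a * m⁻¹) * ((z : L) * (m * a * m⁻¹ * a⁻¹)⁻¹) := by rw [h1']
    _ = ((m * a * m⁻¹ * a⁻¹) * a) * ((z : L) * (m * a * m⁻¹ * a⁻¹)⁻¹) := by group
    _ = (a * (m * a * m⁻¹ * a⁻¹)) * ((z : L) * (m * a * m⁻¹ * a⁻¹)⁻¹) := by rw [h2]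
    _ = a * ((m * a * m⁻¹ * a⁻¹) * (z : L)) * (m * a * m⁻¹ * a⁻¹)⁻¹ := by group
    _ = a * ((z : L) * (m * a * m⁻¹ * a⁻¹)) * (m * a * m⁻¹ * a⁻¹)⁻¹ := by rw [h3]
    _ = a * z := by group

end Cob

section Idx

variable {L : Type*} [Group L] [Finite L] {p : ℕ} [Fact p.Prime]

lemma relIndex_eq_sup (C N : Subgroup L) [N.Normal] : C.relIndex N = C.relIndex (C ⊔ N) := by
  open Cfsg.Agent.Lib.SylowNum in
  have h1 : N.relIndex (C ⊔ N) = N.relIndex C := Subgroup.relIndex_sup_right C N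
  have h2 := card_mul_relIndex (C ⊓ N) N inf_le_right
  rw [Subgroup.inf_relIndex_right] at h2
  have h3 := card_mul_relIndex (C ⊓ N) C inf_le_left
  rw [Subgroup.inf_relIndex_left] at h3
  have h4 := card_mul_relIndex N (C ⊔ N) le_sup_right
  rw [h1] at h4
  have h5 := card_mul_relIndex C (C ⊔ N) le_sup_left
  have ha : 0 < Nat.card (C ⊓ N : Subgroup L) := Nat.card_pos
  have hc : 0 < Nat.card C := Nat.card_pos
  have hb : 0 < Nat.card (C ⊔ N : Subgroup L) := Nat.card_pos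
  have hr : 0 < N.relIndex C := by
    rcases Nat.eq_zero_or_pos (N.relIndex C) with h | h
    · rw [h] at h3; omega
    · exact h
  have : Nat.card (C ⊓ N : Subgroup L) * N.relIndex C * C.relIndex N
      = Nat.card (C ⊓ N : Subgroup L) * N.relIndex C * C.relIndex (C ⊔ N) := by
    calc Nat.card (C ⊓ N : Subgroup L) * N.relIndex C * C.relIndex N
        = (Nat.card (C ⊓ N : Subgroup L) * C.relIndex N) * N.relIndex C := by ring
      _ = Nat.card (C ⊔ N : Subgroup L) := by rw [h2, h4]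
      _ = Nat.card C * C.relIndex (C ⊔ N) := h5.symm
      _ = _ := by rw [h3]
  exact Nat.eq_of_mul_eq_mul_left (Nat.mul_pos ha hr) this

/-- The index of `P` in `P K` is prime to `p`, if `K ∩ P₀ ≤ P ≤ P₀`. -/
lemma not_dvd_relIndex (P₀ : Sylow p L) (K : Subgroup L) [K.Normal] {P : Subgroup L} (hP : P ≤ P₀) (hK : K ⊓ P₀ ≤ P) :
    ¬ p ∣ P.relIndex (P ⊔ K) := by
  rw [← relIndex_eq_sup]
  have e : P ⊓ K = (P₀ : Subgroup L) ⊓ K := by
    apply le_antisymm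
    · exact inf_le_inf_right K hP
    · rintro y ⟨h1, h2⟩
      exact ⟨hK ⟨h2, h1⟩, h2⟩
  have e1 : P.relIndex K = (P₀ : Subgroup L).relIndex K := by
    rw [← Subgroup.inf_relIndex_right P K, e, Subgroup.inf_relIndex_right]
  rw [e1]
  intro h
  exact P₀.not_dvd_index (h.trans (Cfsg.Agent.Lib.SylowNum.relIndex_normal_dvd_index _ K))

end Idx

section Thompson

variable {L : Type*} [Group L] {T : Subgroup L} {x : L}

lemma zpow_comm_of (hc : ∀ t ∈ T, t * x = x * t) (n : ℤ) : ∀ t ∈ T, t * x ^ n = x ^ n * t := fun t ht =>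
  (Commute.zpow_right (show Commute t x from hc t ht) n).eq

/-- Elements of `H ⟨x⟩` for `x` centralizing `H`. -/
lemma exists_mul_zpow {H : Subgroup L} (hc : ∀ t ∈ H, t * x = x * t) {y : L} (hy : y ∈ H ⊔ Subgroup.zpowers x) :
    ∃ h ∈ H, ∃ n : ℤ, y = h * x ^ n := by
  let W : Subgroup L :=
    { carrier := {y | ∃ h ∈ H, ∃ n : ℤ, y = h * x ^ n}
      mul_mem' := by
        rintro _ _ ⟨h₁, hh₁, n₁, rfl⟩ ⟨h₂, hh₂, n₂, rfl⟩
        refine ⟨h₁ * h₂, H.mul_mem hh₁ hh₂, n₁ + n₂, ?_⟩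
        rw [zpow_add, mul_assoc, mul_assoc, ← mul_assoc (x ^ n₁), ← zpow_comm_of hc n₁ h₂ hh₂]
        group
      one_mem' := ⟨1, H.one_mem, 0, by simp⟩
      inv_mem' := by
        rintro _ ⟨h₁, hh₁, n₁, rfl⟩
        refine ⟨h₁⁻¹, H.inv_mem hh₁, -n₁, ?_⟩
        rw [mul_inv_rev, zpow_neg]
        exact (Commute.inv_left (show Commute (x ^ n₁) h₁⁻¹ from (zpow_comm_of hc n₁ h₁⁻¹ (H.inv_mem hh₁)).symm)).eq }
  have hle : H ⊔ Subgroup.zpowers x ≤ W := sup_le (fun h hh => ⟨h, hh, 0, by simp⟩) (fun y hy => by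
    obtain ⟨n, rfl⟩ := Subgroup.mem_zpowers_iff.1 hy
    exact ⟨1, H.one_mem, n, by simp⟩)
  exact hle hy

variable [Finite L]

/-- The order of a subgroup of `T ⟨x⟩` containing `x`. -/
lemma card_of_mem (hc : ∀ t ∈ T, t * x = x * t) {A : Subgroup L} (hAP : A ≤ T ⊔ Subgroup.zpowers x) (hxA : x ∈ A) :
    Nat.card A = Nat.card ↥(A ⊓ T) * T.relIndex (T ⊔ Subgroup.zpowers x) := by
  set P := T ⊔ Subgroup.zpowers x with hP
  have hTP : T ≤ P := le_sup_left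
  let T' : Subgroup ↥P := T.subgroupOf P
  let A' : Subgroup ↥P := A.subgroupOf P
  have hn : T'.Normal := by
    refine ⟨fun t ht g => ?_⟩
    obtain ⟨h, hh, n, hg⟩ := exists_mul_zpow hc g.2
    have ht' : (t : L) ∈ T := Subgroup.mem_subgroupOf.1 ht
    refine Subgroup.mem_subgroupOf.2 ?_
    show (g : L) * t * (g : L)⁻¹ ∈ T
    rw [hg]
    have e := zpow_comm_of hc n t ht'
    have e1 : h * x ^ n * (t : L) * (h * x ^ n)⁻¹ = h * t * h⁻¹ := by
      calc h * x ^ n * (t : L) * (h * x ^ n)⁻¹ = h * (x ^ n * t) * (x ^ n)⁻¹ * h⁻¹ := by group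
        _ = h * (t * x ^ n) * (x ^ n)⁻¹ * h⁻¹ := by rw [e]
        _ = _ := by group
    rw [e1]
    exact T.mul_mem (T.mul_mem hh ht') (T.inv_mem hh)
  have hsup : A' ⊔ T' = ⊤ := by
    rw [eq_top_iff]
    rintro ⟨y, hy⟩ -
    obtain ⟨h, hh, n, hg⟩ := exists_mul_zpow hc hy
    have e : (⟨y, hy⟩ : ↥P) = (⟨x ^ n, hP ▸ hAP (A.zpow_mem hxA n)⟩ : ↥P) * ⟨h, hTP hh⟩ := by
      apply Subtype.ext
      show y = x ^ n * h
      rw [hg, zpow_comm_of hc n h hh]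
    rw [e]
    refine Subgroup.mul_mem _ (Subgroup.mem_sup_left ?_) (Subgroup.mem_sup_right ?_)
    · exact Subgroup.mem_subgroupOf.2 (A.zpow_mem hxA n)
    · exact Subgroup.mem_subgroupOf.2 hh
  have h1 : T'.relIndex (A' ⊔ T') = T'.relIndex A' := Subgroup.relIndex_sup_right A' T'
  rw [hsup, Subgroup.relIndex_top_right] at h1
  have h2 : T'.relIndex A' = T.relIndex A := Subgroup.relIndex_subgroupOf hAP
  have h3 : T.relIndex P = T'.index := rfl
  have h4 := Cfsg.Agent.Lib.SylowNum.card_mul_relIndex (A ⊓ T) A inf_le_left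
  rw [Subgroup.inf_relIndex_left] at h4
  rw [h3, h1, h2, h4]

lemma zp_comm (a b : L) (ha : a ∈ Subgroup.zpowers x) (hb : b ∈ Subgroup.zpowers x) : a * b = b * a := by
  obtain ⟨m, rfl⟩ := Subgroup.mem_zpowers_iff.1 ha
  obtain ⟨n, rfl⟩ := Subgroup.mem_zpowers_iff.1 hb
  rw [← zpow_add, ← zpow_add, add_comm]

lemma ab_sup {B : Subgroup L} (hB : ∀ a ∈ B, ∀ b ∈ B, a * b = b * a) (hc : ∀ t ∈ B, t * x = x * t) :
    ∀ a ∈ B ⊔ Subgroup.zpowers x, ∀ b ∈ B ⊔ Subgroup.zpowers x, a * b = b * a :=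
  Cfsg.Agent.Lib.AbReplace.comm_sup B _ hB (fun a ha b hb => zp_comm a b ha hb) (fun a ha b hb => by
    obtain ⟨n, rfl⟩ := Subgroup.mem_zpowers_iff.1 hb
    exact zpow_comm_of hc n a ha)

lemma rel_pos {T P : Subgroup L} (h : T ≤ P) : 0 < T.relIndex P := Nat.pos_of_ne_zero (by
  intro h0
  have := Cfsg.Agent.Lib.SylowNum.card_mul_relIndex T P h
  rw [h0, mul_zero] at this
  exact (Nat.card_pos (α := P)).ne this)

lemma ma_sup (hc : ∀ t ∈ T, t * x = x * t) {C : Subgroup L} (hC : MA T C) : MA (T ⊔ Subgroup.zpowers x) (C ⊔ Subgroup.zpowers x) := by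
  have hcC : ∀ t ∈ C, t * x = x * t := fun t ht => hc t (hC.le ht)
  refine ⟨sup_le_sup_right hC.le _, ab_sup hC.comm hcC, fun B hB hBc => ?_⟩
  have hx1 : x ∈ B ⊔ Subgroup.zpowers x := Subgroup.mem_sup_right (Subgroup.mem_zpowers x)
  have hx2 : x ∈ C ⊔ Subgroup.zpowers x := Subgroup.mem_sup_right (Subgroup.mem_zpowers x)
  have hB₁P : B ⊔ Subgroup.zpowers x ≤ T ⊔ Subgroup.zpowers x := sup_le hB le_sup_right
  have hC₁P : C ⊔ Subgroup.zpowers x ≤ T ⊔ Subgroup.zpowers x := sup_le_sup_right hC.le _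
  have hxc : ∀ t ∈ T ⊔ Subgroup.zpowers x, t * x = x * t := by
    intro t ht
    obtain ⟨h, hh, n, rfl⟩ := exists_mul_zpow hc ht
    rw [mul_assoc, (Commute.zpow_left (Commute.refl x) n).eq, ← mul_assoc, hc h hh, mul_assoc]
  have hBab : ∀ a ∈ B ⊔ Subgroup.zpowers x, ∀ b ∈ B ⊔ Subgroup.zpowers x, a * b = b * a :=
    ab_sup hBc (fun t ht => hxc t (hB ht))
  have e1 := card_of_mem hc hB₁P hx1
  have e2 := card_of_mem hc hC₁P hx2
  have h3 : Nat.card ↥((B ⊔ Subgroup.zpowers x) ⊓ T) ≤ Nat.card C := hC.max _ inf_le_right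
    (fun a ha b hb => hBab a ha.1 b hb.1)
  have h4 : Nat.card C ≤ Nat.card ↥((C ⊔ Subgroup.zpowers x) ⊓ T) :=
    Subgroup.card_le_of_le (le_inf le_sup_left hC.le)
  calc Nat.card B ≤ Nat.card ↥(B ⊔ Subgroup.zpowers x) := Subgroup.card_le_of_le le_sup_left
    _ = _ := e1
    _ ≤ Nat.card ↥((C ⊔ Subgroup.zpowers x) ⊓ T) * T.relIndex (T ⊔ Subgroup.zpowers x) := Nat.mul_le_mul_right _ (h3.trans h4)
    _ = _ := e2.symm

lemma xc_sup (hc : ∀ t ∈ T, t * x = x * t) : ∀ t ∈ T ⊔ Subgroup.zpowers x, t * x = x * t := by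
  intro t ht
  obtain ⟨h, hh, n, rfl⟩ := exists_mul_zpow hc ht
  rw [mul_assoc, (Commute.zpow_left (Commute.refl x) n).eq, ← mul_assoc, hc h hh, mul_assoc]

lemma ma_inf (hc : ∀ t ∈ T, t * x = x * t) {A : Subgroup L} (hA : MA (T ⊔ Subgroup.zpowers x) A) : MA T (A ⊓ T) := by
  have hxP : x ∈ T ⊔ Subgroup.zpowers x := Subgroup.mem_sup_right (Subgroup.mem_zpowers x)
  have hxA : x ∈ A := hA.mem_of_central hxP (xc_sup hc)
  refine ⟨inf_le_right, fun a ha b hb => hA.comm a ha.1 b hb.1, fun B hB hBc => ?_⟩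
  have hB₁P : B ⊔ Subgroup.zpowers x ≤ T ⊔ Subgroup.zpowers x := sup_le_sup_right hB _
  have hx1 : x ∈ B ⊔ Subgroup.zpowers x := Subgroup.mem_sup_right (Subgroup.mem_zpowers x)
  have e1 := card_of_mem hc hB₁P hx1
  have e2 := card_of_mem hc hA.le hxA
  have h3 := hA.max _ hB₁P (ab_sup hBc (fun t ht => hc t (hB ht)))
  rw [e1, e2] at h3
  have h4 := Nat.le_of_mul_le_mul_right h3 (rel_pos (le_sup_left : T ≤ T ⊔ Subgroup.zpowers x))
  exact (Subgroup.card_le_of_le (le_inf le_sup_left hB)).trans h4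

lemma exists_MA (T : Subgroup L) : ∃ A, MA T A := by
  obtain ⟨A, hA⟩ := Cfsg.Agent.Lib.AbReplace.exists_mem_max (S := ↥T)
  exact ⟨_, MA.of_mem hA⟩

lemma JJ_le_sup (hc : ∀ t ∈ T, t * x = x * t) : JJ T ≤ JJ (T ⊔ Subgroup.zpowers x) :=
  JJ_le (fun C hC => le_sup_left.trans (ma_sup hc hC).le_JJ)

lemma sup_le_JJ (hc : ∀ t ∈ T, t * x = x * t) : JJ (T ⊔ Subgroup.zpowers x) ≤ JJ T ⊔ Subgroup.zpowers x := by
  refine JJ_le (fun A hA a ha => ?_)
  have hxP : x ∈ T ⊔ Subgroup.zpowers x := Subgroup.mem_sup_right (Subgroup.mem_zpowers x)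
  have hxA : x ∈ A := hA.mem_of_central hxP (xc_sup hc)
  obtain ⟨t, ht, n, rfl⟩ := exists_mul_zpow hc (hA.le ha)
  have htA : t ∈ A := by
    have := A.mul_mem ha (A.zpow_mem hxA (-n))
    simpa [zpow_neg] using this
  have hm : t ∈ JJ T := (ma_inf hc hA).le_JJ ⟨htA, ht⟩
  exact Subgroup.mul_mem _ (Subgroup.mem_sup_left hm) (Subgroup.mem_sup_right (Subgroup.zpow_mem_zpowers x n))

omit [Finite L] in
lemma JJ_le_self (T : Subgroup L) : JJ T ≤ T := Subgroup.map_subtype_le _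

lemma inf_sup_le_JJ (hc : ∀ t ∈ T, t * x = x * t) {y : L} (hy : y ∈ T) (hy' : y ∈ JJ T ⊔ Subgroup.zpowers x) : y ∈ JJ T := by
  obtain ⟨j, hj, n, rfl⟩ := exists_mul_zpow (fun t ht => hc t (JJ_le_self T ht)) hy'
  have hxT : x ^ n ∈ T := by
    have := T.mul_mem (T.inv_mem (JJ_le_self T hj)) hy
    simpa using this
  obtain ⟨A, hA⟩ := exists_MA T
  have : x ^ n ∈ A := hA.mem_of_central hxT (fun t ht => zpow_comm_of hc n t ht)
  exact Subgroup.mul_mem _ hj (hA.le_JJ this)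

/-- `C_T(J(T)) ≤ J(T)`. -/
lemma cent_JJ_le {c : L} (hcT : c ∈ T) (hc : ∀ v ∈ JJ T, c * v = v * c) : c ∈ JJ T := by
  obtain ⟨A, hA⟩ := exists_MA T
  have h1 : Subgroup.zpowers c ≤ A := by
    refine hA.le_of_comm (Subgroup.zpowers_le.2 hcT) (fun a ha b hb => zp_comm a b ha hb) (fun a ha b hb => ?_)
    obtain ⟨n, rfl⟩ := Subgroup.mem_zpowers_iff.1 hb
    exact (Commute.zpow_right (show Commute a c from (hc a (hA.le_JJ ha)).symm) n).eq
  exact hA.le_JJ (h1 (Subgroup.mem_zpowers c))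

end Thompson

section GroupA

variable {L : Type u} [Group L] [Finite L] {p : ℕ} [hp : Fact p.Prime]

/-- A `p'`-element of `K P` with `P` a `p`-group lies in `K`. -/
lemma mem_normal_of_coprime {K P : Subgroup L} [K.Normal] (hP : IsPGroup p P) {y : L} (hy : y ∈ K ⊔ P) (hc : (orderOf y).Coprime p) :
    y ∈ K := by
  obtain ⟨k, hk, q, hq, rfl⟩ := Subgroup.mem_sup_of_normal_left.1 hy
  obtain ⟨n, hn⟩ := hP ⟨q, hq⟩
  have hq' : q ^ p ^ n = 1 := by simpa using congrArg Subtype.val hn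
  have h1 : (QuotientGroup.mk (k * q) : L ⧸ K) = QuotientGroup.mk q := by
    rw [QuotientGroup.eq]
    have : (k * q)⁻¹ * q = q⁻¹ * k⁻¹ * q⁻¹⁻¹ * q⁻¹⁻¹⁻¹ * q := by group
    simp only [mul_inv_rev, inv_inv]
    have e : q⁻¹ * k⁻¹ * q = q⁻¹ * k⁻¹ * q⁻¹⁻¹ := by simp
    rw [e]
    exact (inferInstance : K.Normal).conj_mem _ (K.inv_mem hk) q⁻¹
  have h2 : (QuotientGroup.mk q : L ⧸ K) ^ p ^ n = 1 := by
    rw [← QuotientGroup.mk_pow, hq']
    rfl
  have h3 : (QuotientGroup.mk (k * q) : L ⧸ K) ^ orderOf (k * q) = 1 := by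
    rw [← QuotientGroup.mk_pow, pow_orderOf_eq_one]
    rfl
  rw [h1] at h3
  have h4 := Cfsg.Agent.Lib.PResid.eq_one_of_pow_eq_one_of_coprime h2 h3 hc
  rw [← h1] at h4
  exact (QuotientGroup.eq_one_iff _).1 h4

/-- **The reduction through Glauberman's theorem.** -/
theorem group_A (hp2 : p ≠ 2) (P₀ : Sylow p L) {T K : Subgroup L} [hK : K.Normal] (hT : T ≤ P₀) (hKT : K ⊓ P₀ ≤ T) {x : L} (hxP : x ∈ P₀)
    (hxc : ∀ t ∈ T, t * x = x * t) (hxO : x ∈ pCore p L)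
    (H : ∀ k ∈ K, (orderOf k).Coprime p → (∀ v ∈ JJ T, k * v * k⁻¹ ∈ JJ T) → k * x * k⁻¹ = x) : ∀ k ∈ K, k * x * k⁻¹ = x := by
  classical
  set X := Subgroup.zpowers x with hX
  set P := T ⊔ X with hPdef
  have hPP₀ : P ≤ P₀ := sup_le hT (Subgroup.zpowers_le.2 hxP)
  have hPp : IsPGroup p P := P₀.isPGroup'.to_le hPP₀
  have hK' : K ⊓ P₀ ≤ P := hKT.trans le_sup_left
  have hind := not_dvd_relIndex P₀ K hPP₀ hK'
  set L₁ := P ⊔ K with hL₁
  have hPL₁ : P ≤ L₁ := le_sup_left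
  have hKL₁ : K ≤ L₁ := le_sup_right
  have hxL₁ : x ∈ L₁ := hPL₁ (Subgroup.mem_sup_right (Subgroup.mem_zpowers x))
  let P₁ : Subgroup ↥L₁ := P.subgroupOf L₁
  have hP₁p : IsPGroup p P₁ := hPp.comap_of_injective L₁.subtype L₁.subtype_injective
  have hP₁ind : ¬ p ∣ P₁.index := hind
  let Sy : Sylow p ↥L₁ := hP₁p.toSylow hP₁ind
  have hSy : (Sy : Subgroup ↥L₁) = P₁ := IsPGroup.toSylow_coe hP₁p hP₁ind
  have hP₁S : IsSyl p P₁ ⊤ := by
    rw [← hSy]
    exact isSyl_of_sylow Sy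
  let v : ↥L₁ := ⟨x, hxL₁⟩
  have hvO : v ∈ pCore p ↥L₁ := by
    have hle : (pCore p L).subgroupOf L₁ ≤ pCore p ↥L₁ := le_pCore
      (Subgroup.Normal.subgroupOf (pCore_normal p L) L₁) ((isPGroup_pCore p).comap_of_injective L₁.subtype L₁.subtype_injective)
    exact hle (Subgroup.mem_subgroupOf.2 hxO)
  have hvc : ∀ y ∈ P₁, y * v = v * y := fun y hy => Subtype.ext (xc_sup hxc y (Subgroup.mem_subgroupOf.1 hy))
  -- the Thompson subgroups
  have hJ₁ : (JJ P₁).map L₁.subtype = JJ P := by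
    rw [JJ_map L₁.subtype L₁.subtype_injective, Subgroup.map_subgroupOf_eq_of_le hPL₁]
  have hJmem : ∀ {y : ↥L₁}, y ∈ JJ P₁ ↔ (y : L) ∈ JJ P := by
    intro y
    rw [← hJ₁]
    constructor
    · intro h
      exact ⟨y, h, rfl⟩
    · rintro ⟨z, hz, e⟩
      have : z = y := Subtype.ext e
      rwa [← this]
  have hvN : ∀ g ∈ NN (JJ P₁), g * v * g⁻¹ = v := by
    set N : Subgroup ↥L₁ := NN (JJ P₁) with hN
    have hP₁N : P₁ ≤ N := fun y hy => mem_NN_JJ (mem_NN_of_forall (fun z hz => P₁.mul_mem (P₁.mul_mem hy hz) (P₁.inv_mem hy)))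
    have hR₁p : IsPGroup p (P₁.subgroupOf N) := hP₁p.comap_of_injective N.subtype N.subtype_injective
    have hR₁ind : ¬ p ∣ (P₁.subgroupOf N).index := fun h => hP₁ind (h.trans (Subgroup.relIndex_dvd_index_of_le hP₁N))
    let R : Sylow p ↥N := hR₁p.toSylow hR₁ind
    have hR : (R : Subgroup ↥N) = P₁.subgroupOf N := IsPGroup.toSylow_coe hR₁p hR₁ind
    let Cv : Subgroup ↥N :=
      { carrier := {g | (g : ↥L₁) * v * (g : ↥L₁)⁻¹ = v}
        mul_mem' := by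
          intro a b ha hb
          show ((a : ↥L₁) * b) * v * ((a : ↥L₁) * b)⁻¹ = v
          have ha' : (a : ↥L₁) * v * (a : ↥L₁)⁻¹ = v := ha
          have hb' : (b : ↥L₁) * v * (b : ↥L₁)⁻¹ = v := hb
          calc ((a : ↥L₁) * b) * v * ((a : ↥L₁) * b)⁻¹ = (a : ↥L₁) * ((b : ↥L₁) * v * (b : ↥L₁)⁻¹) * (a : ↥L₁)⁻¹ := by group
            _ = v := by rw [hb', ha']
        one_mem' := by
          show ((1 : ↥N) : ↥L₁) * v * ((1 : ↥N) : ↥L₁)⁻¹ = v
          simp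
        inv_mem' := by
          intro a ha
          have ha' : (a : ↥L₁) * v * (a : ↥L₁)⁻¹ = v := ha
          show ((a⁻¹ : ↥N) : ↥L₁) * v * ((a⁻¹ : ↥N) : ↥L₁)⁻¹ = v
          simp only [InvMemClass.coe_inv, inv_inv]
          calc (a : ↥L₁)⁻¹ * v * (a : ↥L₁) = (a : ↥L₁)⁻¹ * ((a : ↥L₁) * v * (a : ↥L₁)⁻¹) * (a : ↥L₁) := by rw [ha']
            _ = v := by group }
    have hCR : ∀ r ∈ (R : Subgroup ↥N), r ∈ Cv := by
      intro r hr
      rw [hR] at hr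
      have h1 := hvc _ (Subgroup.mem_subgroupOf.1 hr)
      show (r : ↥L₁) * v * (r : ↥L₁)⁻¹ = v
      rw [h1]
      group
    have hCres : pResidual p ↥N ≤ Cv := by
      rw [pResidual, Subgroup.closure_le]
      intro y hy
      have hy₁ : (orderOf y).Coprime p := hy
      have hyL : (orderOf ((y : ↥L₁) : L)).Coprime p := by
        rw [Subgroup.orderOf_coe, Subgroup.orderOf_coe]
        exact hy₁
      have hyK : ((y : ↥L₁) : L) ∈ K := by
        have hm : ((y : ↥L₁) : L) ∈ K ⊔ P := by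
          rw [sup_comm]
          exact (y : ↥L₁).2
        exact mem_normal_of_coprime hPp hm hyL
      have hynorm : ∀ w ∈ JJ P, ((y : ↥L₁) : L) * w * ((y : ↥L₁) : L)⁻¹ ∈ JJ P := by
        intro w hw
        have hwL : w ∈ L₁ := hPL₁ (JJ_le_self P hw)
        have h1 : (⟨w, hwL⟩ : ↥L₁) ∈ JJ P₁ := hJmem.2 hw
        have h2 := conj_mem_of_mem_NN y.2 h1
        exact hJmem.1 h2
      have hyJ : ∀ w ∈ JJ T, ((y : ↥L₁) : L) * w * ((y : ↥L₁) : L)⁻¹ ∈ JJ T := by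
        intro w hw
        have hwP := JJ_le_sup hxc hw
        have h1 := hynorm w hwP
        set yy := ((y : ↥L₁) : L) with hyy
        have hcK : yy * w * yy⁻¹ * w⁻¹ ∈ K := by
          have e : yy * w * yy⁻¹ * w⁻¹ = yy * (w * yy⁻¹ * w⁻¹) := by group
          rw [e]
          exact K.mul_mem hyK (hK.conj_mem _ (K.inv_mem hyK) w)
        have hcP : yy * w * yy⁻¹ * w⁻¹ ∈ (P₀ : Subgroup L) :=
          Subgroup.mul_mem _ (hPP₀ (JJ_le_self P h1)) (Subgroup.inv_mem _ (hPP₀ (JJ_le_self P hwP)))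
        have hcT := hKT ⟨hcK, hcP⟩
        have hT₁ : yy * w * yy⁻¹ ∈ T := by
          have := T.mul_mem hcT (JJ_le_self T hw)
          simpa using this
        exact inf_sup_le_JJ hxc hT₁ (sup_le_JJ hxc h1)
      have hfix := H _ hyK hyL hyJ
      show (y : ↥L₁) * v * (y : ↥L₁)⁻¹ = v
      exact Subtype.ext hfix
    intro g hg
    obtain ⟨κ, hκ, r, hr, e⟩ := Cfsg.Agent.Lib.FusionHyperfocal.exists_pResidual_mul_sylow R ⟨g, hg⟩
    have h1 := Cv.mul_mem (hCres hκ) (hCR r hr)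
    rw [← e] at h1
    exact h1
  intro k hk
  have := Cfsg.Agent.Lib.FusionJLocal2.local_J (p := p) _ ↥L₁ rfl (Or.inl hp2) P₁ v hP₁S hvO hvc hvN ⟨k, hKL₁ hk⟩
  exact congrArg Subtype.val this

end GroupA

section Kernel

variable {L : Type u} [Group L] [Finite L] {p : ℕ} [hp : Fact p.Prime]

/-- The normal subgroup with small intersection with a Sylow subgroup, through the focal subgroup theorem. -/
theorem group_K (P₀ : Sylow p L) (Kk : Subgroup L) [hKk : Kk.Normal] {T : Subgroup L} (hTK : T ≤ Kk) (hTP : T ≤ P₀)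
    (hfoc : ∀ x ∈ Kk, x ∈ (P₀ : Subgroup L) → ∀ u ∈ Kk, u * x * u⁻¹ ∈ (P₀ : Subgroup L) → x * (u * x * u⁻¹)⁻¹ ∈ T) :
    ∃ K : Subgroup L, K.Normal ∧ K ≤ Kk ∧ K ⊓ P₀ ≤ T ∧ ∀ y ∈ Kk, (orderOf y).Coprime p → y ∈ K := by
  obtain ⟨R, hR⟩ := Cfsg.Agent.Lib.SylowNum.exists_sylow_subgroupOf Kk P₀
  have hTR : T.subgroupOf Kk ≤ (R : Subgroup Kk) := by
    rw [hR]
    intro z hz
    exact Subgroup.mem_subgroupOf.2 (hTP (Subgroup.mem_subgroupOf.1 hz))
  have hf : (R : Subgroup Kk).focalSubgroup ≤ T.subgroupOf Kk := by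
    rw [Subgroup.focalSubgroup_def, Subgroup.closure_le]
    rintro g ⟨hg, x, hx, u, rfl⟩
    rw [hR] at hg hx
    have hx1 : (x : L) ∈ (P₀ : Subgroup L) := Subgroup.mem_subgroupOf.1 hx
    have hg1 : ((⁅x, u⁆ : Kk) : L) ∈ (P₀ : Subgroup L) := Subgroup.mem_subgroupOf.1 hg
    have hg2 : ((⁅x, u⁆ : Kk) : L) = (x : L) * ((u : L) * (x : L) * (u : L)⁻¹)⁻¹ := by
      show (x : L) * u * (x : L)⁻¹ * (u : L)⁻¹ = _
      group
    have hz : (u : L) * (x : L) * (u : L)⁻¹ ∈ (P₀ : Subgroup L) := by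
      have h1 : (x : L)⁻¹ * ((⁅x, u⁆ : Kk) : L) = ((u : L) * (x : L) * (u : L)⁻¹)⁻¹ := by
        rw [hg2]
        group
      have h2 := Subgroup.mul_mem _ (Subgroup.inv_mem _ hx1) hg1
      rw [h1] at h2
      exact (Subgroup.inv_mem_iff _).1 h2
    refine Subgroup.mem_subgroupOf.2 ?_
    rw [hg2]
    exact hfoc _ x.2 hx1 _ u.2 hz
  obtain ⟨K, -, hK1, hK2⟩ := Cfsg.Agent.Lib.FusionConstrSub.exists_kernel R (T.subgroupOf Kk) hTR hf
  have hres : pResidual p ↥Kk ≤ K := by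
    rw [pResidual, Subgroup.closure_le]
    exact fun y hy => hK2 y hy
  have hconj : ∀ (g : L) (y : ↥Kk), y ∈ pResidual p ↥Kk → g * (y : L) * g⁻¹ ∈ (pResidual p ↥Kk).map Kk.subtype := by
    intro g y hy
    induction hy using Subgroup.closure_induction with
    | mem z hz =>
      refine ⟨⟨_, hKk.conj_mem _ z.2 g⟩, Subgroup.subset_closure ?_, rfl⟩
      show (orderOf (⟨g * z * g⁻¹, hKk.conj_mem _ z.2 g⟩ : ↥Kk)).Coprime p
      rw [← Subgroup.orderOf_coe]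
      have h1 : orderOf (g * (z : L) * g⁻¹) = orderOf (z : L) := MulEquiv.orderOf_eq (MulAut.conj g) (z : L)
      show (orderOf (g * (z : L) * g⁻¹)).Coprime p
      rw [h1, Subgroup.orderOf_coe]
      exact hz
    | one => simp
    | mul a b _ _ ha hb =>
      have e : g * ((a * b : ↥Kk) : L) * g⁻¹ = (g * (a : L) * g⁻¹) * (g * (b : L) * g⁻¹) := by
        show g * ((a : L) * b) * g⁻¹ = _
        group
      rw [e]
      exact Subgroup.mul_mem _ ha hb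
    | inv a _ ha =>
      have e : g * ((a⁻¹ : ↥Kk) : L) * g⁻¹ = (g * (a : L) * g⁻¹)⁻¹ := by
        show g * (a : L)⁻¹ * g⁻¹ = _
        group
      rw [e]
      exact Subgroup.inv_mem _ ha
  refine ⟨(pResidual p ↥Kk).map Kk.subtype, ⟨fun n hn g => ?_⟩, ?_, ?_, fun y hy hc => ?_⟩
  · obtain ⟨y, hy, rfl⟩ := hn
    exact hconj g y hy
  · rintro _ ⟨y, -, rfl⟩
    exact y.2
  · rintro _ ⟨⟨y, hy, rfl⟩, h2⟩
    have h1 : y ∈ K ⊓ (R : Subgroup Kk) := by
      refine ⟨hres hy, ?_⟩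
      rw [hR]
      exact Subgroup.mem_subgroupOf.2 h2
    rw [hK1] at h1
    exact Subgroup.mem_subgroupOf.1 h1
  · refine ⟨⟨y, hy⟩, Subgroup.subset_closure ?_, rfl⟩
    show (orderOf (⟨y, hy⟩ : ↥Kk)).Coprime p
    rw [← Subgroup.orderOf_coe]
    exact hc

end Kernel

end Cfsg.Agent.Lib.AschOdd
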