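/-
AschOddMod: the local model at a fully normalized subgroup `Q`: a model of `N_{N_F(Q)}(Q C_S(Q))`, read through an abstract interface;
the reduction of the fixed-point property to `N_T(Q)`-normalizing automorphisms, and the norm step.
-/
import Mathlib
import Cfsg.Agent.Lib.AschOddGrp
import Cfsg.Agent.Lib.AschStrong
import Cfsg.Agent.Lib.FusionCompH
import Cfsg.Agent.Lib.FusionModel
import Cfsg.Agent.Lib.FusionMono3
import Cfsg.Agent.Lib.FusionCentralElt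
import Cfsg.Agent.Lib.FusionGT
import Cfsg.Agent.Lib.FusionConstrSub2

set_option autoImplicit false
set_option linter.unusedSectionVars false
set_option linter.unusedVariables false
set_option linter.unusedSimpArgs false
set_option linter.style.haveILetI false

namespace Cfsg.Agent.Lib.AschOdd

open Cfsg Cfsg.FusionSystem Cfsg.Agent.Lib.FusionCore Cfsg.Agent.Lib.FusionCore2 Cfsg.Agent.Lib.AschCore
open Cfsg.Agent.Lib.FusionInvariant (Str Inv Frat isInvariantIn_iff str_of_inv_frat maps_sub StrongMem aut_maps strong_img_le)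
open Cfsg.Agent.Lib.PCore Cfsg.Agent.Lib.AlperinControl Cfsg.Agent.Lib.FusionJLocal
open Cfsg.Agent.Lib.FusionCompA (aut_norm aut_norm_pres str_conj fullyNormalized_of_le_normalizer)

universe u

variable {Ω : Type u} [Group Ω] {S T : Subgroup Ω} {F : FusionSystem S} {E : FusionSystem T} {p : ℕ} {Q : Subgroup Ω}

lemma KK_le_N (hQS : Q ≤ S) : KK S Q ≤ normalizerIn S Q := sup_le (le_normalizerIn hQS) (le_normalizerIn_of_centralizerIn S Q)

/-- The interface of a local model at `Q`. -/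
structure Loc (F : FusionSystem S) (p : ℕ) (Q : Subgroup Ω) (hQS : Q ≤ S) {L : Type u} [Group L] (ι : ↥(normalizerIn S Q) →* L)
    (act : L →* MulAut ↥(KK S Q)) : Prop where
  finite : Finite L
  inj : Function.Injective ι
  syl : ∃ P₀ : Sylow p L, (P₀ : Subgroup L) = ι.range
  act_eq : ∀ (g : L) (x : Ω) (hx : x ∈ KK S Q), ι ⟨afn (act g) x, KK_le_N hQS (afn_mem (act g) hx)⟩ = g * ι ⟨x, KK_le_N hQS hx⟩ * g⁻¹
  pres : ∀ g, Pres F Q (act g)
  surj : ∀ θ, Pres F Q θ → ∃ g, act g = θ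
  maps : ∀ (P : Subgroup Ω) (hP : P ≤ normalizerIn S Q) (g : L), (∀ x (hx : x ∈ P), g * ι ⟨x, hP hx⟩ * g⁻¹ ∈ ι.range) →
    ∃ f : Ω → Ω, Maps F P f ∧ ∀ x (hx : x ∈ P), ∃ h, ι ⟨f x, h⟩ = g * ι ⟨x, hP hx⟩ * g⁻¹
  core : ∀ x (hx : x ∈ KK S Q), ι ⟨x, KK_le_N hQS hx⟩ ∈ pCore p L

lemma conj_mem_KK [Finite S] (hQS : Q ≤ S) {s : Ω} (hs : s ∈ normalizerIn S Q) : ∀ x ∈ KK S Q, s * x * s⁻¹ ∈ KK S Q := by
  obtain ⟨hsS, hsN⟩ := mem_normalizerIn.1 hs
  have hKS : KK S Q ≤ S := KK_le hQS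
  intro x hx
  let W : Subgroup Ω := (KK S Q).comap (MulAut.conj s).toMonoidHom
  have hle : KK S Q ≤ W := sup_le (fun y hy => Q_le_KK ((Subgroup.mem_normalizer_iff.1 hsN y).1 hy))
    (fun y hy => Y_le_KK (conj_mem_Y hQS hsS hsN hy))
  exact hle hx

/-- **Existence of the local model.** -/
theorem exists_Loc [Finite S] [Fact p.Prime] (hS : IsPGroup p S) (hF : F.IsSaturated p) (hQS : Q ≤ S) (hQn : F.IsFullyNormalized Q) :
    ∃ (L : Type u) (_ : Group L) (ι : ↥(normalizerIn S Q) →* L) (act : L →* MulAut ↥(KK S Q)), Loc F p Q hQS ι act := by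
  obtain ⟨D₁, hD₁⟩ := exists_normalizerSystem (F := F) hQS
  have hD₁s := Cfsg.Agent.Lib.FusionSatNorm.saturated_normalizer hS hF hQn hD₁
  have hS₁S : normalizerIn S Q ≤ S := inf_le_left
  haveI : Finite (normalizerIn S Q) := finite_of_le hS₁S
  have hS₁p : IsPGroup p (normalizerIn S Q) := hS.to_le hS₁S
  have hRS₁ : KK S Q ≤ normalizerIn S Q := KK_le_N hQS
  have hQR : Q ≤ KK S Q := le_sup_left
  have hS₁N : normalizerIn S Q ≤ Subgroup.normalizer ((KK S Q : Subgroup Ω) : Set Ω) := fun s hs =>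
    haveI : Finite (KK S Q) := finite_of_le (KK_le hQS)
    mem_normalizer_of_conj_mem (conj_mem_KK hQS hs)
  have hRn : D₁.IsFullyNormalized (KK S Q) := fullyNormalized_of_le_normalizer hRS₁ hS₁N
  obtain ⟨D₂, hD₂⟩ := exists_normalizerSystem (F := D₁) hRS₁
  have hD₂s := Cfsg.Agent.Lib.FusionSatNorm.saturated_normalizer hS₁p hD₁s hRn hD₂
  have hRN : D₂.IsNormal (KK S Q) := Cfsg.Agent.Lib.FusionGT.isNormal_normalizerSystem hRS₁ hD₂
  have hS₁S₂ : normalizerIn S Q ≤ normalizerIn (normalizerIn S Q) (KK S Q) := fun s hs => mem_normalizerIn.2 ⟨hs, hS₁N hs⟩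
  have hS₂S₁ : normalizerIn (normalizerIn S Q) (KK S Q) ≤ normalizerIn S Q := inf_le_left
  haveI : Finite (normalizerIn (normalizerIn S Q) (KK S Q)) := finite_of_le (hS₂S₁.trans hS₁S)
  have hS₂p : IsPGroup p (normalizerIn (normalizerIn S Q) (KK S Q)) := hS₁p.to_le hS₂S₁
  have hRS₂ : KK S Q ≤ normalizerIn (normalizerIn S Q) (KK S Q) := hRS₁.trans hS₁S₂
  have hRC : D₂.IsCentric (KK S Q) := by
    refine ⟨hRS₂, fun Q' hQ' => ?_⟩
    rw [Cfsg.Agent.Lib.FusionGT.conj_eq_of_isNormal hRN hQ']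
    intro c hc
    obtain ⟨hc1, hc2⟩ := mem_centralizerIn.1 hc
    exact Y_le_KK (mem_centralizerIn.2 ⟨hS₁S (hS₂S₁ hc1), fun y hy => hc2 y (hQR hy)⟩)
  obtain ⟨L, instL, ι₂, hM⟩ := Cfsg.Agent.Lib.FusionModel.exists_model hS₂p hD₂s hRN hRC
  have hLf : Finite L := hM.1
  have hι := hM.2.1
  refine ⟨L, instL, ι₂.comp (Subgroup.inclusion hS₁S₂),
    (D₂.autGroup (KK S Q)).subtype.comp (Cfsg.Agent.Lib.FusionMono.rh hM hRN), ?_⟩
  refine ⟨hLf, hι.1.comp (Subgroup.inclusion_injective hS₁S₂), ?_, ?_, ?_, ?_, ?_, ?_⟩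
  · obtain ⟨P₀, hP₀⟩ := hM.2.2.1
    refine ⟨P₀, ?_⟩
    rw [hP₀]
    ext y
    constructor
    · rintro ⟨s, rfl⟩
      exact ⟨⟨s, hS₂S₁ s.2⟩, rfl⟩
    · rintro ⟨s, rfl⟩
      exact ⟨_, rfl⟩
  · intro g x hx
    exact Cfsg.Agent.Lib.FusionMono.ι_rh hM hRN g hx
  · intro g
    obtain ⟨h1, -⟩ := aut_norm_pres hD₂ (le_rfl : KK S Q ≤ KK S Q) hRS₂ (Cfsg.Agent.Lib.FusionMono.rh hM hRN g).2
    obtain ⟨h2, h3⟩ := aut_norm_pres hD₁ hQR hRS₁ h1
    exact ⟨h2, h3⟩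
  · intro θ hθ
    have h1 : θ ∈ D₁.autGroup (KK S Q) := aut_norm hD₁ hQR hRS₁ hθ.mem hθ.hQ
    have h2 : θ ∈ D₂.autGroup (KK S Q) := aut_norm hD₂ (le_rfl : KK S Q ≤ KK S Q) hRS₂ h1 (fun y hy => afn_mem θ hy)
    obtain ⟨g, hg⟩ := Cfsg.Agent.Lib.FusionMono.rh_surj hM hRN ⟨θ, h2⟩
    refine ⟨g, ?_⟩
    show ((Cfsg.Agent.Lib.FusionMono.rh hM hRN g : D₂.autGroup (KK S Q)) : MulAut ↥(KK S Q)) = θ
    rw [hg]
  · intro P hP g hg
    have hP₂ : P ≤ normalizerIn (normalizerIn S Q) (KK S Q) := hP.trans hS₁S₂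
    have hg' : ∀ x (hx : x ∈ P), g * ι₂ ⟨x, hP₂ hx⟩ * g⁻¹ ∈ ι₂.range := by
      intro x hx
      obtain ⟨s, hs⟩ := hg x hx
      exact ⟨_, hs⟩
    have hm := Cfsg.Agent.Lib.FusionMono.maps_cf hι hP₂ g hg'
    have hm₁ := ((Cfsg.Agent.Lib.FusionGT.maps_norm_iff hD₂).1 hm).1
    have hm₂ := ((Cfsg.Agent.Lib.FusionGT.maps_norm_iff hD₁).1 hm₁).1
    refine ⟨_, hm₂, fun x hx => ⟨hS₂S₁ (hm.mem hx), ?_⟩⟩
    exact Cfsg.Agent.Lib.FusionMono.ι_cf g (hP₂ hx) (hg' x hx)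
  · intro x hx
    let Rh : Subgroup L := ((KK S Q).subgroupOf (normalizerIn (normalizerIn S Q) (KK S Q))).map ι₂
    have hRh : Rh.Normal := by
      refine ⟨?_⟩
      rintro _ ⟨s, hs, rfl⟩ g
      obtain ⟨y, hy, hyR, h1⟩ := Cfsg.Agent.Lib.FusionMono.conj_mem_of_model hM hRN g s.2 (Subgroup.mem_subgroupOf.1 hs)
      exact ⟨⟨y, hy⟩, Subgroup.mem_subgroupOf.2 hyR, h1⟩
    have hRp : IsPGroup p Rh :=
      ((hS.to_le (KK_le hQS)).comap_of_injective (Subgroup.subtype _) (Subgroup.subtype_injective _)).map _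
    exact le_pCore hRh hRp ⟨⟨x, hRS₂ hx⟩, Subgroup.mem_subgroupOf.2 hx, rfl⟩

end Cfsg.Agent.Lib.AschOdd
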