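/-
AschOddLoc: the normal subgroups of the local model and the reduction of the fixed point property.
-/
import Mathlib
import Cfsg.Agent.Lib.AschOddMod

set_option autoImplicit false
set_option linter.unusedSectionVars false
set_option linter.unusedVariables false
set_option linter.unusedSimpArgs false
set_option linter.style.haveILetI false

namespace Cfsg.Agent.Lib.AschOdd

open Cfsg Cfsg.FusionSystem Cfsg.Agent.Lib.FusionCore Cfsg.Agent.Lib.FusionCore2 Cfsg.Agent.Lib.AschCore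
open Cfsg.Agent.Lib.FusionInvariant (Str Inv Frat isInvariantIn_iff str_of_inv_frat maps_sub StrongMem aut_maps strong_img_le)
open Cfsg.Agent.Lib.PCore Cfsg.Agent.Lib.AlperinControl Cfsg.Agent.Lib.FusionJLocal
open Cfsg.Agent.Lib.FusionCompA (aut_norm aut_norm_pres str_conj fullyNormalized_of_le_normalizer)

universe u

variable {Ω : Type u} [Group Ω] {S T : Subgroup Ω} {F : FusionSystem S} {E : FusionSystem T} {p : ℕ} {Q : Subgroup Ω}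

section LocLemmas

variable {L : Type u} [Group L] {ι : ↥(normalizerIn S Q) →* L} {act : L →* MulAut ↥(KK S Q)} {hQS : Q ≤ S}

/-- The elements of the local model inducing lifts of automorphisms in `E`. -/
def Kk [Finite S] (hQS : Q ≤ S) (F : FusionSystem S) (E : FusionSystem T) (act : L →* MulAut ↥(KK S Q)) : Subgroup L where
  carrier := {g | Wk F Q (act g) ∧ ∃ a ∈ E.autGroup Q, Lifts (act g) a}
  mul_mem' := by
    rintro g g' ⟨h1, a, ha, h2⟩ ⟨h3, b, hb, h4⟩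
    refine ⟨?_, a * b, Subgroup.mul_mem _ ha hb, ?_⟩
    · rw [_root_.map_mul]
      exact h1.mul hQS h3
    · rw [_root_.map_mul]
      exact h2.mul h4
  one_mem' := ⟨by rw [_root_.map_one]; exact Wk.one hQS, 1, Subgroup.one_mem _, by rw [_root_.map_one]; exact Lifts.one⟩
  inv_mem' := by
    rintro g ⟨h1, a, ha, h2⟩
    exact ⟨by rw [_root_.map_inv]; exact h1.inv hQS, a⁻¹, Subgroup.inv_mem _ ha, by rw [_root_.map_inv]; exact h2.inv⟩

lemma exists_res [Finite S] (hQS : Q ≤ S) {θ : MulAut ↥(KK S Q)} (hP : Pres F Q θ) : ∃ c ∈ F.autGroup Q, Lifts θ c := by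
  have hm := hP.maps_Q hQS
  have himg := hP.img_Q hQS
  exact ⟨hm.toAut himg, hm.toAut_mem himg, fun x hx => (hm.afn_toAut himg hx).symm⟩

lemma Kk_normal [Finite S] (h : Loc F p Q hQS ι act) (hStr : Str F E) (hQT : Q ≤ T) : (Kk hQS F E act).Normal := by
  refine ⟨?_⟩
  rintro g ⟨h1, a, ha, h2⟩ k
  obtain ⟨c, hc, hcl⟩ := exists_res hQS (h.pres k)
  refine ⟨?_, c * a * c⁻¹, str_conj hStr hQT hQS ha hc, ?_⟩
  · rw [_root_.map_mul, _root_.map_mul, _root_.map_inv]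
    exact Wk.conj hQS (h.pres k) h1
  · rw [_root_.map_mul, _root_.map_mul, _root_.map_inv]
    exact (hcl.mul h2).mul hcl.inv

lemma act_ι (h : Loc F p Q hQS ι act) (s : ↥(normalizerIn S Q)) {x : Ω} (hx : x ∈ KK S Q) : afn (act (ι s)) x = s * x * (s : Ω)⁻¹ := by
  have h1 := h.act_eq (ι s) x hx
  have e : ι s * ι ⟨x, KK_le_N hQS hx⟩ * (ι s)⁻¹ = ι (s * ⟨x, KK_le_N hQS hx⟩ * s⁻¹) := by
    simp only [_root_.map_mul, _root_.map_inv]
  rw [e] at h1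
  exact congrArg Subtype.val (h.inj h1)

/-- The image of `N_T(Q)`. -/
def Th (T Q S : Subgroup Ω) (ι : ↥(normalizerIn S Q) →* L) : Subgroup L := ((normalizerIn T Q).subgroupOf (normalizerIn S Q)).map ι

lemma mem_Th {y : L} : y ∈ Th T Q S ι ↔ ∃ (t : Ω) (hs : t ∈ normalizerIn S Q), t ∈ normalizerIn T Q ∧ y = ι ⟨t, hs⟩ := by
  constructor
  · rintro ⟨⟨t, hs⟩, ht, rfl⟩
    exact ⟨t, hs, Subgroup.mem_subgroupOf.1 ht, rfl⟩
  · rintro ⟨t, hs, ht, rfl⟩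
    exact ⟨⟨t, hs⟩, Subgroup.mem_subgroupOf.2 ht, rfl⟩

lemma T₁_le (hTS : T ≤ S) : normalizerIn T Q ≤ normalizerIn S Q := fun t ht =>
  mem_normalizerIn.2 ⟨hTS (mem_normalizerIn.1 ht).1, (mem_normalizerIn.1 ht).2⟩

lemma Th_le_range : Th T Q S ι ≤ ι.range := by
  rintro _ ⟨s, -, rfl⟩
  exact ⟨s, rfl⟩

lemma Th_le_Kk [Finite S] (h : Loc F p Q hQS ι act) (hT : F.StronglyClosed T) (hQT : Q ≤ T) (hc : centralizerIn T Q ≤ Q) :
    Th T Q S ι ≤ Kk hQS F E act := by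
  intro y hy
  obtain ⟨t, hs, ht, rfl⟩ := mem_Th.1 hy
  obtain ⟨htT, htN⟩ := mem_normalizerIn.1 ht
  refine ⟨⟨h.pres _, fun z hz => ?_⟩, ?_⟩
  · rw [act_ι h _ (Y_le_KK hz)]
    exact conj_hY hT hQS hc htT htN hz
  · haveI : Finite T := finite_of_le hT.1
    obtain ⟨κ, hκ, hκv⟩ := Cfsg.Agent.Lib.FusionCompA.exists_conjAut (F := E) hQT htT htN
    refine ⟨κ, hκ, fun x hx => ?_⟩
    rw [act_ι h _ (Q_le_KK hx), hκv x hx]

/-- The focal property. -/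
lemma foc_le [Finite S] [Fact p.Prime] (h : Loc F p Q hQS ι act) (hS : IsPGroup p S) (hT : F.StronglyClosed T) (hQT : Q ≤ T)
    (hEA : E.IsFullyAutomized p Q) :
    ∀ y ∈ Kk hQS F E act, y ∈ ι.range → ∀ u ∈ Kk hQS F E act, u * y * u⁻¹ ∈ ι.range → y * (u * y * u⁻¹)⁻¹ ∈ Th T Q S ι := by
  rintro _ ⟨hWs, a, ha, hl⟩ ⟨⟨s, hsN⟩, rfl⟩ u ⟨hWu, -⟩ huR
  haveI : Finite T := finite_of_le hT.1
  haveI : Finite Q := finite_of_le hQS
  obtain ⟨hsS, hsn⟩ := mem_normalizerIn.1 hsN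
  have hact : ∀ x ∈ KK S Q, afn (act (ι ⟨s, hsN⟩)) x = s * x * s⁻¹ := fun x hx => act_ι h _ hx
  have hav : ∀ x ∈ Q, afn a x = s * x * s⁻¹ := fun x hx => by rw [← hl x hx, hact x (Q_le_KK hx)]
  have hai : ∀ x ∈ Q, afn a⁻¹ x = s⁻¹ * x * s := by
    intro x hx
    have h1 := hav _ (afn_mem a⁻¹ hx)
    rw [afn_afn_inv a hx] at h1
    calc afn a⁻¹ x = s⁻¹ * (s * afn a⁻¹ x * s⁻¹) * s := by group
      _ = s⁻¹ * x * s := by rw [← h1]
  obtain ⟨n, hn⟩ := hS ⟨s, hsS⟩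
  have hspow : s ^ p ^ n = 1 := by simpa using congrArg Subtype.val hn
  have hpow : ∀ (k : ℕ), ∀ x ∈ Q, afn (a ^ k) x = s ^ k * x * (s ^ k)⁻¹ := by
    intro k
    induction k with
    | zero =>
      intro x hx
      rw [pow_zero, pow_zero, afn_one hx]
      group
    | succ k ih =>
      intro x hx
      rw [pow_succ', afn_mul _ _ hx, hav _ (afn_mem _ hx), ih x hx, pow_succ']
      group
  have hapow : (⟨a, ha⟩ : E.autGroup Q) ^ p ^ n = 1 := by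
    refine Subtype.ext (afn_ext (fun r hr => ?_))
    show afn (a ^ p ^ n) r = afn 1 r
    rw [hpow _ r hr, hspow, afn_one hr]
    group
  haveI := finite_mulAut (P := Q) hQT
  obtain ⟨-, A, hA⟩ := hEA
  have hmem : (⟨a, ha⟩ : E.autGroup Q) ∈ (A : Subgroup (E.autGroup Q)) := by
    refine Cfsg.Agent.Lib.FusionConstrSub.mem_sylow_of_normalizes A hapow (fun b hb => ?_)
    rw [hA] at hb ⊢
    obtain ⟨t, ht, h2⟩ := mem_autInducedBy.1 (Subgroup.mem_subgroupOf.1 hb)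
    refine Subgroup.mem_subgroupOf.2 (mem_autInducedBy.2 ⟨s * t * s⁻¹, sc_conj hT hsS ht, fun r hr => ?_⟩)
    show afn (a * (b : MulAut Q) * a⁻¹) r = _
    have h3 := afn_mem (b : MulAut Q) (afn_mem a⁻¹ hr)
    rw [afn_mul _ _ hr, afn_mul _ _ (afn_mem _ hr), hav _ h3, h2 _ (afn_mem _ hr), hai r hr]
    group
  rw [hA] at hmem
  obtain ⟨t, htT, htv⟩ := mem_autInducedBy.1 (Subgroup.mem_subgroupOf.1 hmem)
  have htv' : ∀ r ∈ Q, s * r * s⁻¹ = t * r * t⁻¹ := fun r hr => by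
    rw [← hav r hr]
    exact htv r hr
  have htn : t ∈ Subgroup.normalizer (Q : Set Ω) := mem_normalizer_of_conj_mem (fun r hr => by
    rw [← htv' r hr]
    exact (Subgroup.mem_normalizer_iff.1 hsn r).1 hr)
  have htT₁ : t ∈ normalizerIn T Q := mem_normalizerIn.2 ⟨htT, htn⟩
  have htN : t ∈ normalizerIn S Q := T₁_le hT.1 htT₁
  set w := t⁻¹ * s with hw
  have hwY : w ∈ centralizerIn S Q := by
    refine mem_centralizerIn.2 ⟨S.mul_mem (S.inv_mem (hT.1 htT)) hsS, fun r hr => ?_⟩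
    have e := htv' r hr
    have e1 : s * r = t * r * t⁻¹ * s := by
      rw [← e]
      group
    calc r * (t⁻¹ * s) = t⁻¹ * (t * r * t⁻¹ * s) := by group
      _ = t⁻¹ * (s * r) := by rw [e1]
      _ = t⁻¹ * s * r := by group
  have hwK : w ∈ KK S Q := Y_le_KK hwY
  have hwN : w ∈ normalizerIn S Q := KK_le_N hQS hwK
  have hsw : (⟨s, hsN⟩ : ↥(normalizerIn S Q)) = ⟨t, htN⟩ * ⟨w, hwN⟩ := Subtype.ext (by
    show s = t * (t⁻¹ * s)
    group)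
  have hr := hWu.hY w hwY
  set r := w⁻¹ * afn (act u) w with hrdef
  have hrN : r ∈ normalizerIn S Q := le_normalizerIn hQS hr
  have hθw : afn (act u) w = w * r := by rw [hrdef]; group
  have h1 : u * ι ⟨w, hwN⟩ * u⁻¹ = ι ⟨w, hwN⟩ * ι ⟨r, hrN⟩ := by
    have h2 := h.act_eq u w hwK
    have e : (⟨afn (act u) w, KK_le_N hQS (afn_mem (act u) hwK)⟩ : ↥(normalizerIn S Q)) = ⟨w, hwN⟩ * ⟨r, hrN⟩ :=
      Subtype.ext hθw
    rw [e, _root_.map_mul] at h2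
    exact h2.symm
  have e0 : ι ⟨s, hsN⟩ = ι ⟨t, htN⟩ * ι ⟨w, hwN⟩ := by rw [hsw, _root_.map_mul]
  have h2 : u * ι ⟨t, htN⟩ * u⁻¹ ∈ ι.range := by
    have e1 : u * ι ⟨t, htN⟩ * u⁻¹ = (u * ι ⟨s, hsN⟩ * u⁻¹) * (ι ⟨w, hwN⟩ * ι ⟨r, hrN⟩)⁻¹ := by
      rw [← h1, e0]
      group
    rw [e1]
    exact Subgroup.mul_mem _ huR (Subgroup.inv_mem _ (Subgroup.mul_mem _ ⟨_, rfl⟩ ⟨_, rfl⟩))
  obtain ⟨⟨t', ht'N⟩, ht'e⟩ := h2
  have ht'T : t' ∈ T := by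
    have hle : Subgroup.zpowers t ≤ normalizerIn S Q := Subgroup.zpowers_le.2 htN
    have hg : ∀ x (hx : x ∈ Subgroup.zpowers t), u * ι ⟨x, hle hx⟩ * u⁻¹ ∈ ι.range := by
      intro x hx
      obtain ⟨n, rfl⟩ := Subgroup.mem_zpowers_iff.1 hx
      have e : (⟨t ^ n, hle hx⟩ : ↥(normalizerIn S Q)) = (⟨t, htN⟩ : ↥(normalizerIn S Q)) ^ n := Subtype.ext (by simp)
      rw [e, _root_.map_zpow, ← conj_zpow, ← ht'e]
      exact Subgroup.zpow_mem ι.range ⟨⟨t', ht'N⟩, rfl⟩ n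
    obtain ⟨f, hf, hfv⟩ := h.maps _ hle u hg
    obtain ⟨hh, hfe⟩ := hfv t (Subgroup.mem_zpowers t)
    have e1 : f t = t' := by
      have e2 : ι ⟨f t, hh⟩ = ι ⟨t', ht'N⟩ := by
        rw [hfe, ht'e]
      exact congrArg Subtype.val (h.inj e2)
    rw [← e1]
    exact StrongMem hT (Subgroup.zpowers_le.2 htT) hf (Subgroup.mem_zpowers t)
  have ht'T₁ : t' ∈ normalizerIn T Q := mem_normalizerIn.2 ⟨ht'T, (mem_normalizerIn.1 ht'N).2⟩
  have hrT₁ : r ∈ normalizerIn T Q := le_normalizerIn hQT hr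
  have hcomm : r * w = w * r := (mem_centralizerIn.1 hwY).2 r hr
  refine mem_Th.2 ⟨t * r⁻¹ * t'⁻¹, Subgroup.mul_mem _ (Subgroup.mul_mem _ htN (Subgroup.inv_mem _ hrN)) (Subgroup.inv_mem _ ht'N),
    Subgroup.mul_mem _ (Subgroup.mul_mem _ htT₁ (Subgroup.inv_mem _ hrT₁)) (Subgroup.inv_mem _ ht'T₁), ?_⟩
  have e1 : u * ι ⟨s, hsN⟩ * u⁻¹ = ι ⟨t', ht'N⟩ * (ι ⟨w, hwN⟩ * ι ⟨r, hrN⟩) := by
    rw [← h1, ht'e, e0]
    group
  have e2 : ι ⟨r, hrN⟩ * ι ⟨w, hwN⟩ = ι ⟨w, hwN⟩ * ι ⟨r, hrN⟩ := by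
    rw [← _root_.map_mul, ← _root_.map_mul]
    congr 1
    exact Subtype.ext hcomm
  have e3 : ι ⟨t * r⁻¹ * t'⁻¹, Subgroup.mul_mem _ (Subgroup.mul_mem _ htN (Subgroup.inv_mem _ hrN)) (Subgroup.inv_mem _ ht'N)⟩ =
      ι ⟨t, htN⟩ * (ι ⟨r, hrN⟩)⁻¹ * (ι ⟨t', ht'N⟩)⁻¹ := by
    rw [← _root_.map_inv, ← _root_.map_inv, ← _root_.map_mul, ← _root_.map_mul]
    rfl
  rw [e1, e3, e0]
  have e4 : ι ⟨t, htN⟩ * ι ⟨w, hwN⟩ * (ι ⟨t', ht'N⟩ * (ι ⟨w, hwN⟩ * ι ⟨r, hrN⟩))⁻¹ =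
      ι ⟨t, htN⟩ * (ι ⟨w, hwN⟩ * (ι ⟨w, hwN⟩ * ι ⟨r, hrN⟩)⁻¹) * (ι ⟨t', ht'N⟩)⁻¹ := by group
  rw [e4, ← e2]
  group

/-- The normal subgroup of the local model. -/
lemma exists_kernel_loc [Finite S] [Fact p.Prime] (h : Loc F p Q hQS ι act) (hS : IsPGroup p S) (hF : F.IsSaturated p) (hE : E.IsNormalIn F p)
    (hQT : Q ≤ T) (hQn : F.IsFullyNormalized Q) (hc : centralizerIn T Q ≤ Q) :
    ∃ P₀ : Sylow p L, (P₀ : Subgroup L) = ι.range ∧ ∃ K : Subgroup L, K.Normal ∧ K ≤ Kk hQS F E act ∧ K ⊓ P₀ ≤ Th T Q S ι ∧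
      ∀ y ∈ Kk hQS F E act, (orderOf y).Coprime p → y ∈ K := by
  obtain ⟨hEF, hT, hInv, hFr⟩ := isInvariantIn_iff.1 hE.1.2.2
  have hEs := hE.1.1
  have hStr : Str F E := str_of_inv_frat hT @hInv @hFr
  haveI : Finite T := finite_of_le hT.1
  haveI : Finite L := h.finite
  have hTp : IsPGroup p T := hS.to_le hT.1
  have hQnE : E.IsFullyNormalized Q := Cfsg.Agent.S5153.fullyNormalized_of_stronglyClosed hS hF hEF hT hQT hQn
  have hEA : E.IsFullyAutomized p Q := (of_fullyNormalized hTp hEs hQnE).2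
  obtain ⟨P₀, hP₀⟩ := h.syl
  haveI := Kk_normal (E := E) h hStr hQT
  refine ⟨P₀, hP₀, ?_⟩
  refine Cfsg.Agent.Lib.AschOdd.group_K P₀ (Kk hQS F E act) (Th_le_Kk h hT hQT hc) (by rw [hP₀]; exact Th_le_range) ?_
  rw [hP₀]
  exact foc_le h hS hT hQT hEA

/-- A lift of order prime to `p` comes from a `p'`-element of the local model. -/
lemma exists_rep [Finite S] [Fact p.Prime] (h : Loc F p Q hQS ι act) {θ : MulAut ↥(KK S Q)} {a : MulAut Q} (hW : Wk F Q θ)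
    (ha : a ∈ E.autGroup Q) (hl : Lifts θ a) {m : ℕ} (hm : θ ^ m = 1) (hmp : m.Coprime p) :
    ∃ k ∈ Kk hQS F E act, (orderOf k).Coprime p ∧ act k = θ := by
  haveI : Finite L := h.finite
  obtain ⟨g, hg⟩ := h.surj θ hW.toPres
  have hgK : g ∈ Kk hQS F E act := by
    refine ⟨by rw [hg]; exact hW, a, ha, by rw [hg]; exact hl⟩
  have h1 : orderOf θ ∣ orderOf g := by
    rw [← hg]
    exact orderOf_map_dvd act g
  have h2 : (orderOf θ).Coprime p := Nat.Coprime.coprime_dvd_left (orderOf_dvd_of_pow_eq_one hm) hmp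
  obtain ⟨n, hn1, hn2⟩ := Cfsg.Agent.Lib.FusionGT.exists_pprime_pow p g (orderOf_pos g) h1 h2
  refine ⟨g ^ n, Subgroup.pow_mem _ hgK n, hn1, ?_⟩
  rw [_root_.map_pow, hg]
  have hpe := pow_eq_pow_iff_modEq.2 hn2
  rwa [pow_one] at hpe

/-- **The reduction**: for `p` odd, to fix an element of `C_S(T)` it is enough to treat automorphisms normalizing `J(N_T(Q))`. -/
theorem fix_of_H [Finite S] [Fact p.Prime] (hp2 : p ≠ 2) (hS : IsPGroup p S) (hF : F.IsSaturated p) (hE : E.IsNormalIn F p)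
    (hQT : Q ≤ T) (hQn : F.IsFullyNormalized Q) (hc : centralizerIn T Q ≤ Q) {x : Ω} (hx : x ∈ centralizerIn S T)
    (hH : ∀ (θ : MulAut ↥(KK S Q)) (a : MulAut Q) (m : ℕ) (c : Ω → Ω), Wk F Q θ → a ∈ E.autGroup Q → Lifts θ a → θ ^ m = 1 → m.Coprime p →
      Maps F (Q ⊔ JJ (normalizerIn T Q)) c → (∀ q ∈ Q, c q = afn θ q) → img c (JJ (normalizerIn T Q)) = JJ (normalizerIn T Q) → afn θ x = x)
    (θ : MulAut ↥(KK S Q)) (a : MulAut Q) (hW : Wk F Q θ) (ha : a ∈ E.autGroup Q) (hl : Lifts θ a) (m : ℕ) (hm : θ ^ m = 1) (hmp : m.Coprime p) :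
    afn θ x = x := by
  classical
  have hQS : Q ≤ S := hQT.trans (isInvariantIn_iff.1 hE.1.2.2).2.1.1
  obtain ⟨L, instL, ι, act, h⟩ := exists_Loc hS hF hQS hQn
  obtain ⟨P₀, hP₀, K, hKn, hKk, hKP, hKc⟩ := exists_kernel_loc (E := E) h hS hF hE hQT hQn hc
  obtain ⟨hEF, hT, hInv, hFr⟩ := isInvariantIn_iff.1 hE.1.2.2
  haveI : Finite L := h.finite
  have hxY : x ∈ centralizerIn S Q := centralizerIn_anti hQT hx
  have hxK : x ∈ KK S Q := Y_le_KK hxY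
  have hxN : x ∈ normalizerIn S Q := KK_le_N hQS hxK
  set xh := ι ⟨x, hxN⟩ with hxh
  -- the Thompson subgroups
  set T₁' := (normalizerIn T Q).subgroupOf (normalizerIn S Q) with hT₁'
  have hT₁N := T₁_le (Q := Q) hT.1
  have hJ₁ : JJ (Th T Q S ι) = (JJ T₁').map ι := (JJ_map ι h.inj T₁').symm
  have hJ₂ : (JJ T₁').map (normalizerIn S Q).subtype = JJ (normalizerIn T Q) := by
    rw [JJ_map _ (Subgroup.subtype_injective _), hT₁', Subgroup.map_subgroupOf_eq_of_le hT₁N]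
  have hmemJ : ∀ {v : Ω} (hv : v ∈ normalizerIn S Q), v ∈ JJ (normalizerIn T Q) ↔ ι ⟨v, hv⟩ ∈ JJ (Th T Q S ι) := by
    intro v hv
    rw [hJ₁, ← hJ₂]
    constructor
    · rintro ⟨w, hw, rfl⟩
      exact ⟨w, hw, rfl⟩
    · rintro ⟨w, hw, e⟩
      have e1 : w = ⟨v, hv⟩ := h.inj e
      exact ⟨w, hw, by rw [e1]; rfl⟩
  have hJle : JJ (normalizerIn T Q) ≤ normalizerIn S Q := (JJ_le_self _).trans hT₁N
  have hkey := group_A hp2 P₀ (T := Th T Q S ι) (K := K) (by rw [hP₀]; exact Th_le_range) hKP (x := xh) (show xh ∈ (P₀ : Subgroup L) by rw [hP₀]; exact ⟨_, rfl⟩)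
    (fun t ht => by
      obtain ⟨t₀, hs, ht₀, rfl⟩ := mem_Th.1 ht
      rw [hxh, ← _root_.map_mul, ← _root_.map_mul]
      congr 1
      exact Subtype.ext (mem_centralizerIn.1 hx |>.2 t₀ (mem_normalizerIn.1 ht₀).1))
    (h.core x hxK)
    (by
      intro k hk hkc hkJ
      obtain ⟨hWk, ak, hak, hlk⟩ := hKk hk
      have hkm : (act k) ^ orderOf k = 1 := by
        rw [← _root_.map_pow, pow_orderOf_eq_one, _root_.map_one]
      have hsup : Q ⊔ JJ (normalizerIn T Q) ≤ normalizerIn S Q := sup_le (le_normalizerIn hQS) hJle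
      -- conjugation by `k` on `Q ⊔ J`
      let W₀ : Subgroup Ω := ((ι.range).comap ((MulAut.conj k).toMonoidHom.comp ι)).map (normalizerIn S Q).subtype
      have hle₀ : Q ⊔ JJ (normalizerIn T Q) ≤ W₀ := by
        refine sup_le (fun q hq => ?_) (fun v hv => ?_)
        · refine ⟨⟨q, le_normalizerIn hQS hq⟩, ?_, rfl⟩
          show k * ι ⟨q, le_normalizerIn hQS hq⟩ * k⁻¹ ∈ ι.range
          rw [← h.act_eq k q (Q_le_KK hq)]
          exact ⟨_, rfl⟩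
        · refine ⟨⟨v, hJle hv⟩, ?_, rfl⟩
          show k * ι ⟨v, hJle hv⟩ * k⁻¹ ∈ ι.range
          exact Th_le_range (JJ_le_self _ (hkJ _ ((hmemJ (hJle hv)).1 hv)))
      have hg : ∀ z (hz : z ∈ Q ⊔ JJ (normalizerIn T Q)), k * ι ⟨z, hsup hz⟩ * k⁻¹ ∈ ι.range := by
        intro z hz
        obtain ⟨w, hw, e⟩ := hle₀ hz
        have e1 : w = ⟨z, hsup hz⟩ := Subtype.ext e
        rw [← e1]
        exact hw
      obtain ⟨f, hf, hfv⟩ := h.maps _ hsup k hg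
      have hfQ : ∀ q ∈ Q, f q = afn (act k) q := by
        intro q hq
        have hqs : q ∈ Q ⊔ JJ (normalizerIn T Q) := Subgroup.mem_sup_left hq
        obtain ⟨h₁, h₂⟩ := hfv q hqs
        rw [← h.act_eq k q (Q_le_KK hq)] at h₂
        exact congrArg Subtype.val (h.inj h₂)
      have hfJ : ∀ v ∈ JJ (normalizerIn T Q), f v ∈ JJ (normalizerIn T Q) := by
        intro v hv
        have hvs : v ∈ Q ⊔ JJ (normalizerIn T Q) := Subgroup.mem_sup_right hv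
        obtain ⟨h₁, h₂⟩ := hfv v hvs
        rw [hmemJ h₁, h₂]
        exact hkJ _ ((hmemJ (hJle hv)).1 hv)
      have hJS : JJ (normalizerIn T Q) ≤ S := hJle.trans inf_le_left
      have himg : img f (JJ (normalizerIn T Q)) = JJ (normalizerIn T Q) :=
        img_eq_of_card (hf.restrict le_sup_right) hJS hJS hfJ le_rfl
      have hfix := hH (act k) ak _ f hWk hak hlk hkm hkc hf hfQ himg
      have e := h.act_eq k x hxK
      have e1 : (⟨afn (act k) x, KK_le_N hQS (afn_mem (act k) hxK)⟩ : ↥(normalizerIn S Q)) = ⟨x, hxN⟩ := Subtype.ext hfix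
      rw [e1] at e
      exact e.symm)
  obtain ⟨k, hk, hkc, hka⟩ := exists_rep h hW ha hl hm hmp
  have h1 := hkey k (hKc k hk hkc)
  have e := h.act_eq k x hxK
  have e' : ι ⟨afn (act k) x, KK_le_N hQS (afn_mem (act k) hxK)⟩ = ι ⟨x, hxN⟩ := e.trans h1
  have := congrArg Subtype.val (h.inj e')
  rw [hka] at this
  exact this

/-- **The norm step.** If `T` normalizes `Q`, every element of `C_S(T)` is, modulo an element of `Z(Q) ∩ C_S(T)`, fixed by all lifts of order prime to `p`. -/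
theorem stepA [Finite S] [Fact p.Prime] (hS : IsPGroup p S) (hF : F.IsSaturated p) (hE : E.IsNormalIn F p)
    (hQT : Q ≤ T) (hQn : F.IsFullyNormalized Q) (hc : centralizerIn T Q ≤ Q) (hTN : T ≤ Subgroup.normalizer (Q : Set Ω)) {a : Ω}
    (ha : a ∈ centralizerIn S T) : ∃ z ∈ Q ⊓ centralizerIn S Q, z ∈ centralizerIn S T ∧
      ∀ (θ : MulAut ↥(KK S Q)) (b : MulAut Q) (m : ℕ), Wk F Q θ → b ∈ E.autGroup Q → Lifts θ b → θ ^ m = 1 → m.Coprime p → afn θ (a * z) = a * z := by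
  classical
  have hTS : T ≤ S := (isInvariantIn_iff.1 hE.1.2.2).2.1.1
  have hQS : Q ≤ S := hQT.trans hTS
  obtain ⟨L, instL, ι, act, h⟩ := exists_Loc hS hF hQS hQn
  obtain ⟨P₀, hP₀, K, hKn, hKk, hKP, hKc⟩ := exists_kernel_loc (E := E) h hS hF hE hQT hQn hc
  obtain ⟨hEF, hT, hInv, hFr⟩ := isInvariantIn_iff.1 hE.1.2.2
  haveI : Finite L := h.finite
  have haY : a ∈ centralizerIn S Q := centralizerIn_anti hQT ha
  have haK : a ∈ KK S Q := Y_le_KK haY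
  have haN : a ∈ normalizerIn S Q := KK_le_N hQS haK
  have hT₁N := T₁_le (Q := Q) hTS
  set ah := ι ⟨a, haN⟩ with hah
  have hZle : Q ⊓ centralizerIn S Q ≤ S := inf_le_left.trans hQS
  have hZN : Q ⊓ centralizerIn S Q ≤ normalizerIn S Q := inf_le_left.trans (le_normalizerIn hQS)
  let Z₀ : Subgroup L := ((Q ⊓ centralizerIn S Q).subgroupOf (normalizerIn S Q)).map ι
  have hmemZ : ∀ {y : L}, y ∈ Z₀ ↔ ∃ (z : Ω) (hz : z ∈ normalizerIn S Q), z ∈ Q ⊓ centralizerIn S Q ∧ y = ι ⟨z, hz⟩ := by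
    intro y
    constructor
    · rintro ⟨⟨z, hs⟩, hz, rfl⟩
      exact ⟨z, hs, Subgroup.mem_subgroupOf.1 hz, rfl⟩
    · rintro ⟨z, hs, hz, rfl⟩
      exact ⟨⟨z, hs⟩, Subgroup.mem_subgroupOf.2 hz, rfl⟩
  have hZp : IsPGroup p Z₀ := ((hS.to_le hZle).comap_of_injective (Subgroup.subtype _) (Subgroup.subtype_injective _)).map _
  have hZc : ∀ u ∈ Z₀, ∀ v ∈ Z₀, u * v = v * u := by
    intro u hu v hv
    obtain ⟨z₁, hz₁, hz₁m, rfl⟩ := hmemZ.1 hu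
    obtain ⟨z₂, hz₂, hz₂m, rfl⟩ := hmemZ.1 hv
    rw [← _root_.map_mul, ← _root_.map_mul]
    congr 1
    exact Subtype.ext ((mem_centralizerIn.1 hz₂m.2).2 z₁ hz₁m.1)
  have hMZ : ∀ m ∈ Th T Q S ι ⊔ K, ∀ z ∈ Z₀, m * z * m⁻¹ ∈ Z₀ := by
    intro m _ z hz
    obtain ⟨z₁, hz₁, hz₁m, rfl⟩ := hmemZ.1 hz
    have hzK : z₁ ∈ KK S Q := Q_le_KK hz₁m.1
    have e := h.act_eq m z₁ hzK
    rw [show (⟨z₁, hz₁⟩ : ↥(normalizerIn S Q)) = ⟨z₁, KK_le_N hQS hzK⟩ from rfl, ← e]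
    exact hmemZ.2 ⟨_, _, ⟨(h.pres m).hQ z₁ hz₁m.1, (h.pres m).memY hQS hz₁m.2⟩, rfl⟩
  have haZ : ∀ z ∈ Z₀, ah * z = z * ah := by
    intro z hz
    obtain ⟨z₁, hz₁, hz₁m, rfl⟩ := hmemZ.1 hz
    rw [hah, ← _root_.map_mul, ← _root_.map_mul]
    congr 1
    exact Subtype.ext ((mem_centralizerIn.1 haY).2 z₁ hz₁m.1).symm
  have hMK : Th T Q S ι ⊔ K ≤ Kk hQS F E act := sup_le (Th_le_Kk h hT hQT hc) hKk
  have hζ : ∀ m ∈ Th T Q S ι ⊔ K, m * ah * m⁻¹ * ah⁻¹ ∈ Z₀ := by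
    intro m hm
    obtain ⟨hWm, -⟩ := hMK hm
    have h1 := hWm.hY a haY
    have h2 := hWm.z_mem_Y hQS haY
    set u := a⁻¹ * afn (act m) a with hu
    have hcu : a * u = u * a := ((mem_centralizerIn.1 haY).2 u h1).symm
    have e1 : afn (act m) a = u * a := by
      rw [← hcu, hu]
      group
    have huN : u ∈ normalizerIn S Q := le_normalizerIn hQS h1
    have e := h.act_eq m a haK
    have e2 : (⟨afn (act m) a, KK_le_N hQS (afn_mem (act m) haK)⟩ : ↥(normalizerIn S Q)) = ⟨u, huN⟩ * ⟨a, haN⟩ := Subtype.ext e1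
    rw [e2, _root_.map_mul] at e
    have e3 : m * ah * m⁻¹ * ah⁻¹ = ι ⟨u, huN⟩ := by
      have e4 : m * ah * m⁻¹ = ι ⟨u, huN⟩ * ah := e.symm
      rw [e4]
      group
    rw [e3]
    exact hmemZ.2 ⟨u, huN, ⟨h1, h2⟩, rfl⟩
  have hTa : ∀ t ∈ Th T Q S ι, t * ah * t⁻¹ = ah := by
    intro t ht
    obtain ⟨t₀, hs, ht₀, rfl⟩ := mem_Th.1 ht
    have e : ι ⟨t₀, hs⟩ * ah = ah * ι ⟨t₀, hs⟩ := by
      rw [hah, ← _root_.map_mul, ← _root_.map_mul]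
      congr 1
      exact Subtype.ext ((mem_centralizerIn.1 ha).2 t₀ (mem_normalizerIn.1 ht₀).1)
    rw [e]
    group
  have hThP : Th T Q S ι ≤ P₀ := by
    rw [hP₀]
    exact Th_le_range
  have hind := not_dvd_relIndex P₀ K hThP hKP
  obtain ⟨z₀, hz₀, hfix⟩ := norm_fix (le_sup_left : Th T Q S ι ≤ Th T Q S ι ⊔ K) hZp hZc hMZ haZ hζ hTa hind
  obtain ⟨z, hzN, hzm, rfl⟩ := hmemZ.1 hz₀
  have hzK : z ∈ KK S Q := Q_le_KK hzm.1
  have hazK : a * z ∈ KK S Q := Subgroup.mul_mem _ haK hzK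
  have hazN : a * z ∈ normalizerIn S Q := KK_le_N hQS hazK
  have ehaz : ι ⟨a * z, hazN⟩ = ah * ι ⟨z, hzN⟩ := by
    rw [hah, ← _root_.map_mul]
    rfl
  refine ⟨z, hzm, ?_, ?_⟩
  · refine mem_centralizerIn.2 ⟨(mem_centralizerIn.1 hzm.2).1, fun t ht => ?_⟩
    have htT₁ : t ∈ normalizerIn T Q := mem_normalizerIn.2 ⟨ht, hTN ht⟩
    have htN := hT₁N htT₁
    have hth : ι ⟨t, htN⟩ ∈ Th T Q S ι := mem_Th.2 ⟨t, htN, htT₁, rfl⟩
    have h1 := hfix _ (Subgroup.mem_sup_left hth)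
    have h2 := hTa _ hth
    have h3 : ι ⟨t, htN⟩ * ι ⟨z, hzN⟩ * (ι ⟨t, htN⟩)⁻¹ = ι ⟨z, hzN⟩ := by
      have e1 : ι ⟨t, htN⟩ * (ah * ι ⟨z, hzN⟩) * (ι ⟨t, htN⟩)⁻¹ = (ι ⟨t, htN⟩ * ah * (ι ⟨t, htN⟩)⁻¹) * (ι ⟨t, htN⟩ * ι ⟨z, hzN⟩ * (ι ⟨t, htN⟩)⁻¹) := by group
      rw [e1, h2] at h1
      exact mul_left_cancel h1
    rw [mul_inv_eq_iff_eq_mul, ← _root_.map_mul, ← _root_.map_mul] at h3
    exact congrArg Subtype.val (h.inj h3)
  · intro θ b m hW hb hl hm hmp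
    obtain ⟨k, hk, hkc, hka⟩ := exists_rep h hW hb hl hm hmp
    have h1 := hfix k (Subgroup.mem_sup_right (hKc k hk hkc))
    have e := h.act_eq k (a * z) hazK
    have e' : ι ⟨afn (act k) (a * z), KK_le_N hQS (afn_mem (act k) hazK)⟩ = ι ⟨a * z, hazN⟩ := by
      rw [e, ← ehaz] at *
      exact h1
    have := congrArg Subtype.val (h.inj e')
    rw [hka] at this
    exact this

end LocLemmas

end Cfsg.Agent.Lib.AschOdd
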