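/-
AschOddLev: the extension theorem at a level: maps of `E` with large source extend, fixing `X`, if the fixed point property holds at the
fully normalized subgroups of that size.
-/
import Mathlib
import Cfsg.Agent.Lib.AschOddLoc

set_option autoImplicit false
set_option linter.unusedSectionVars false
set_option linter.unusedVariables false
set_option linter.unusedSimpArgs false
set_option linter.style.haveILetI false

namespace Cfsg.Agent.Lib.AschOdd

open Cfsg Cfsg.FusionSystem Cfsg.Agent.Lib.FusionCore Cfsg.Agent.Lib.FusionCore2 Cfsg.Agent.Lib.AschCore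
open Cfsg.Agent.Lib.FusionIndexPrime (pEl mem_pEl_of_pow pEl_normal ofMaps maps_ofMaps)
open Cfsg.Agent.Lib.FusionInvariant (Str Inv Frat isInvariantIn_iff str_of_inv_frat maps_sub StrongMem aut_maps strong_img_le)

universe u

variable {Ω : Type u} [Group Ω] {S T : Subgroup Ω} {F : FusionSystem S} {E : FusionSystem T} {p : ℕ} {Q : Subgroup Ω}

/-- The fixed point property at level `k₀`. -/
structure FxL (F : FusionSystem S) (E : FusionSystem T) (p : ℕ) (X : Subgroup Ω) (k₀ : ℕ) : Prop where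
  le : X ≤ centralizerIn S T
  inv : ∀ θ : MulAut ↥(KK S T), Pres F T θ → ∀ x ∈ X, afn θ x ∈ X
  fix : ∀ Q : Subgroup Ω, Q ≤ T → F.IsFullyNormalized Q → centralizerIn T Q ≤ Q → k₀ ≤ Nat.card Q →
    ∀ (θ : MulAut ↥(KK S Q)) (a : MulAut Q), Wk F Q θ → a ∈ E.autGroup Q → Lifts θ a →
      ∀ m : ℕ, θ ^ m = 1 → m.Coprime p → ∀ x ∈ X, afn θ x = x

section Sub

variable [Finite S] {X : Subgroup Ω}

/-- The maps of `E` extending and fixing `X`, when large. -/
def MML (F : FusionSystem S) (E : FusionSystem T) (X : Subgroup Ω) (k₀ : ℕ) (P : Subgroup Ω) (f : Ω → Ω) : Prop :=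
  Maps E P f ∧ (k₀ ≤ Nat.card P → CExt F X P f)

lemma card_le_of_maps [Finite T] {P R : Subgroup Ω} {f g : Ω → Ω} (h1 : Maps E P f) (h2 : Maps E R g) (hfm : ∀ x ∈ P, f x ∈ R) :
    Nat.card P ≤ Nat.card R := by
  haveI : Finite R := finite_of_le h2.le
  rw [← h1.card_img]
  refine Subgroup.card_le_of_le (fun y hy => ?_)
  obtain ⟨x, hx, rfl⟩ := h1.mem_img.1 hy
  exact hfm x hx

/-- The subsystem of `E` of the maps extending and fixing `X`, at the large subgroups. -/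
noncomputable def MMLsys (hEF : E.IsSubsystemOf F) (hTS : T ≤ S) (hXS : X ≤ S) (hX : ∀ t ∈ T, ∀ x ∈ X, t * x * t⁻¹ = x) (k₀ : ℕ) :
    FusionSystem T :=
  ofMaps E (MML F E X k₀) (fun h => h.1) (fun h hfg => ⟨h.1.congr hfg, fun hk => cext_congr (h.2 hk) hfg⟩)
    (fun {P g} hP hg => ⟨Maps.conj hP hg, fun _ => cext_conj (hP.trans hTS) hXS (hTS hg) (hX g hg)⟩)
    (fun h1 h2 hfm => ⟨h1.1.comp h2.1 hfm, fun hk => cext_comp (h1.2 hk) (h2.2 (hk.trans (haveI : Finite T := finite_of_le hTS; card_le_of_maps h1.1 h2.1 hfm))) hfm⟩)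
    (fun {P f} h => by
      obtain ⟨g, hg, h1, h2⟩ := h.1.inv
      exact ⟨g, ⟨hg, fun hk => cext_inv (maps_sub hEF h.1) (h.2 (by rwa [h.1.card_img] at hk)) h1⟩, h1⟩)

lemma maps_MMLsys (hEF : E.IsSubsystemOf F) (hTS : T ≤ S) (hXS : X ≤ S) (hX : ∀ t ∈ T, ∀ x ∈ X, t * x * t⁻¹ = x) {k₀ : ℕ}
    {P : Subgroup Ω} {f : Ω → Ω} : Maps (MMLsys hEF hTS hXS hX k₀) P f ↔ MML F E X k₀ P f := by
  constructor
  · rintro ⟨φ, hφ, h⟩
    have h0 : MML F E X k₀ P (fn φ) := hφ
    have hfg : ∀ x ∈ P, fn φ x = f x := fun x hx => by rw [fn_of_mem _ hx]; exact h ⟨x, hx⟩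
    exact ⟨h0.1.congr hfg, fun hk => cext_congr (h0.2 hk) hfg⟩
  · intro h
    have hm := h.1
    refine ⟨hm.hom, ?_, hm.hom_apply⟩
    have hfg : ∀ x ∈ P, f x = fn hm.hom x := fun x hx => by rw [fn_of_mem _ hx, hm.hom_apply]
    exact (⟨h.1.congr hfg, fun hk => cext_congr (h.2 hk) hfg⟩ : MML F E X k₀ P (fn hm.hom))

/-- At a fully normalized subgroup, `O^{p'}(Aut_E(Q))` extends, fixing `X`. -/
theorem level_nfL [Fact p.Prime] (hS : IsPGroup p S) (hF : F.IsSaturated p) (hT : F.StronglyClosed T)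
    (hEF : E.IsSubsystemOf F) (hEs : E.IsSaturated p) (hQT : Q ≤ T) (hQn : F.IsFullyNormalized Q)
    (hc : centralizerIn T Q ≤ Q) {k₀ : ℕ} (hX : FxL F E p X k₀) (hk₀ : k₀ ≤ Nat.card Q) :
    ∀ a ∈ pEl p ↥(E.autGroup Q), CExt F X Q (afn (a : MulAut Q)) := by
  have hTS := hT.1
  have hXR := hX.le
  haveI : Finite T := finite_of_le hTS
  have hQS : Q ≤ S := hQT.trans hTS
  have hXS : X ≤ S := hXR.trans inf_le_left
  haveI : Finite (MulAut Q) := finite_mulAut (S := S) hQS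
  obtain ⟨hfc, -⟩ := of_fullyNormalized hS hF hQn
  have hR : F.IsReceptive Q := receptive_of_fullyCentralized hS hF hfc
  have hTp : IsPGroup p T := hS.to_le hTS
  have hQnE : E.IsFullyNormalized Q := Cfsg.Agent.S5153.fullyNormalized_of_stronglyClosed hS hF hEF hT hQT hQn
  have hA : E.IsFullyAutomized p Q := (of_fullyNormalized hTp hEs hQnE).2
  obtain ⟨-, R, hRdef⟩ := id hA
  let M : Subgroup ↥(E.autGroup Q) := (extSub F E X Q hEF hQT hTS hXS).subgroupOf (E.autGroup Q)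
  have hle : pEl p ↥(E.autGroup Q) ≤ M := by
    refine pEl_le_of_sylow R M ?_ ?_
    · intro r hr
      rw [hRdef] at hr
      obtain ⟨t, ht, htc⟩ := mem_autInducedBy.1 (Subgroup.mem_subgroupOf.1 hr)
      refine Subgroup.mem_subgroupOf.2 ⟨r.2, cext_congr (cext_conj hQS hXS (hTS ht) (fun x hx => ?_)) (fun x hx => (htc x hx).symm)⟩
      have := (mem_centralizerIn.1 (hXR hx)).2 t ht
      rw [this]
      group
    · intro a ha hcop
      refine Subgroup.mem_subgroupOf.2 ⟨a.2, ?_⟩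
      obtain ⟨θ, hθ, hl⟩ := exists_lift hT hEF hQT hA hR hc a ha
      have hcop' : (orderOf (a : MulAut Q)).Coprime p := by rwa [Subgroup.orderOf_coe]
      obtain ⟨θ', hθ', hl', m, hm, hmp⟩ := exists_pprime_lift hQS hθ hl hcop'
      have hfix := hX.fix Q hQT hQn hc hk₀ θ' a hθ' a.2 hl' m hm hmp
      have hXK : X ≤ KK S Q := fun x hx => Y_le_KK (centralizerIn_anti hQT (hXR hx))
      exact ⟨afn θ', (hθ'.toPres.maps hQS).restrict (sup_le le_sup_left hXK), hl', fun x hx => hfix x hx⟩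
  intro a ha
  exact (Subgroup.mem_subgroupOf.1 (hle ha)).2

/-- At the level of `T`. -/
theorem level_TL [Fact p.Prime] (hS : IsPGroup p S) (hF : F.IsSaturated p) (hE : E.IsNormalIn F p) {k₀ : ℕ} (hX : FxL F E p X k₀) (hk₀ : k₀ ≤ Nat.card T) :
    ∀ a ∈ E.autGroup T, CExt F X T (afn a) := by
  have hinv := hE.1.2.2
  have hEF : E.IsSubsystemOf F := hinv.1
  have hT : F.StronglyClosed T := hinv.2.1
  have hEs := hE.1.1
  have hTS := hT.1
  haveI : Finite T := finite_of_le hTS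
  haveI : Finite (MulAut T) := finite_mulAut (S := S) hTS
  have hXR := hX.le
  have hXS : X ≤ S := hXR.trans inf_le_left
  obtain ⟨hfc, -⟩ := of_fullyNormalized hS hF (sc_fullyNormalized hT)
  have hTp : IsPGroup p T := hS.to_le hTS
  have hnE : E.IsFullyNormalized T := Cfsg.Agent.S5153.fullyNormalized_of_stronglyClosed hS hF hEF hT le_rfl (sc_fullyNormalized hT)
  have hA : E.IsFullyAutomized p T := (of_fullyNormalized hTp hEs hnE).2
  obtain ⟨-, R, hRdef⟩ := id hA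
  let M : Subgroup ↥(E.autGroup T) := (extSub F E X T hEF le_rfl hTS hXS).subgroupOf (E.autGroup T)
  have hR : (R : Subgroup ↥(E.autGroup T)) ≤ M := by
    intro r hr
    rw [hRdef] at hr
    obtain ⟨t, ht, htc⟩ := mem_autInducedBy.1 (Subgroup.mem_subgroupOf.1 hr)
    refine Subgroup.mem_subgroupOf.2 ⟨r.2, cext_congr (cext_conj hTS hXS (hTS ht) (fun x hx => ?_)) (fun x hx => (htc x hx).symm)⟩
    have := (mem_centralizerIn.1 (hXR hx)).2 t ht
    rw [this]
    group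
  have hres : pResidual p ↥(E.autGroup T) ≤ M := by
    rw [pResidual, Subgroup.closure_le]
    intro a hcop
    refine Subgroup.mem_subgroupOf.2 ⟨a.2, ?_⟩
    obtain ⟨β, hβ, hβ1, hβ2⟩ := hE.2 a a.2
    have hWβ : Wk F T β := by
      refine ⟨⟨hβ, fun x hx => ?_⟩, fun y hy => ?_⟩
      · rw [afn_of_mem β (Q_le_KK hx)]
        have := hβ1 ⟨x, hx⟩
        have e : (Subgroup.inclusion (le_sup_left : T ≤ T ⊔ centralizerIn S T) ⟨x, hx⟩) = ⟨x, Q_le_KK hx⟩ := rfl
        rw [e] at this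
        rw [this]
        exact ((a : MulAut T) ⟨x, hx⟩).2
      · rw [afn_of_mem β (Y_le_KK hy)]
        exact (Subgroup.mem_inf.1 (hβ2 ⟨y, Y_le_KK hy⟩ hy)).1
    have hl : Lifts β (a : MulAut T) := by
      intro x hx
      rw [afn_of_mem β (Q_le_KK hx), afn_of_mem _ hx]
      exact hβ1 ⟨x, hx⟩
    have hcop' : (orderOf (a : MulAut T)).Coprime p := by
      have : (orderOf a).Coprime p := hcop
      rwa [Subgroup.orderOf_coe]
    obtain ⟨θ', hθ', hl', m, hm, hmp⟩ := exists_pprime_lift hTS hWβ hl hcop'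
    have hcT : centralizerIn T T ≤ T := inf_le_left
    have hfix := hX.fix T le_rfl (sc_fullyNormalized hT) hcT hk₀ θ' a hθ' a.2 hl' m hm hmp
    have hXK : X ≤ KK S T := fun x hx => Y_le_KK (hXR hx)
    exact ⟨afn θ', (hθ'.toPres.maps hTS).restrict (sup_le le_sup_left hXK), hl', fun x hx => hfix x hx⟩
  intro a ha
  obtain ⟨κ, hκ, r, hr, e⟩ := Cfsg.Agent.Lib.FusionHyperfocal.exists_pResidual_mul_sylow R ⟨a, ha⟩
  have : (⟨a, ha⟩ : ↥(E.autGroup T)) ∈ M := by
    rw [e]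
    exact M.mul_mem (hres hκ) (hR hr)
  exact (Subgroup.mem_subgroupOf.1 this).2

/-- The transport step. -/
theorem transport_stepL [Fact p.Prime] (hS : IsPGroup p S) (hF : F.IsSaturated p) (hE : E.IsNormalIn F p)
    {k₀ : ℕ} (hX : FxL F E p X k₀) (hk₀ : k₀ ≤ Nat.card Q) (hQT : Q ≤ T)
    (hFA : E.IsFullyAutomized p Q) (hRec : E.IsReceptive Q) (hc : centralizerIn T Q ≤ Q) (hlt : Q < T)
    (IH : ∀ (R : Subgroup Ω) (f : Ω → Ω), Nat.card Q < Nat.card R → Maps E R f → CExt F X R f)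
    (α : ↥(E.autGroup Q)) {k : ℕ} (hk : orderOf α = p ^ k) : CExt F X Q (afn (α : MulAut Q)) := by
  have hinv := hE.1.2.2
  have hEF : E.IsSubsystemOf F := hinv.1
  have hT : F.StronglyClosed T := hinv.2.1
  have hEs := hE.1.1
  have hTS := hT.1
  haveI : Finite T := finite_of_le hTS
  have hQS : Q ≤ S := hQT.trans hTS
  have hTp : IsPGroup p T := hS.to_le hTS
  obtain ⟨-, -, hInv, hFr⟩ := isInvariantIn_iff.1 hinv
  have hStr : Str F E := str_of_inv_frat hT @hInv @hFr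
  have hXR := hX.le
  have hXS : X ≤ S := hXR.trans inf_le_left
  obtain ⟨P₁, hQP₁, hP₁n⟩ := exists_fullyNormalized_conj (F := F) hQS
  obtain ⟨f₁, hf₁, hf₁img⟩ := isConj_iff.1 hQP₁
  obtain ⟨a, ha, f₀, hf₀, h1⟩ := hFr hQT hf₁
  have hP₁T : P₁ ≤ T := by
    rw [← hf₁img]
    exact Cfsg.Agent.Lib.FusionInvariant.strong_img_le hT hQT hf₁
  have hP₁S : P₁ ≤ S := hP₁T.trans hTS
  have hQ'T : img f₀ Q ≤ T := hf₀.img_le
  have hcE : E.IsConj (img f₀ Q) Q := IsConj_symm (isConj_iff.2 ⟨f₀, hf₀, rfl⟩)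
  obtain ⟨ρ, hρ, -, hρimg⟩ := exists_normalizer_map hTp hFA hRec hcE
  have hcard' : Nat.card (img f₀ Q) = Nat.card Q := hf₀.card_img
  have hQ'lt : img f₀ Q < T := by
    refine lt_of_le_of_ne hQ'T (fun h => ?_)
    have := Cfsg.Agent.Lib.FusionAlperin.card_lt_of_lt hlt
    rw [← h, hcard'] at this
    exact lt_irrefl _ this
  have hNlt := Cfsg.Agent.Lib.FusionAlperin.lt_normalizerIn hTp hQ'lt
  haveI : Finite (normalizerIn T (img f₀ Q)) := finite_of_le inf_le_left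
  have hcN : Nat.card Q < Nat.card (normalizerIn T (img f₀ Q)) := by
    rw [← hcard']
    exact Cfsg.Agent.Lib.FusionAlperin.card_lt_of_lt hNlt
  have hρext := IH _ ρ hcN hρ
  have hρQ' : Maps E (img f₀ Q) ρ := hρ.restrict hNlt.le
  have hρext' : CExt F X (img f₀ Q) ρ := cext_restrict hρext hNlt.le
  obtain ⟨ρi, hρi, hi1, hi2⟩ := hρQ'.inv
  rw [hρimg] at hρi hi2
  have hρiext : CExt F X Q ρi := by
    have := cext_inv (maps_sub hEF hρQ') hρext' hi1
    rwa [hρimg] at this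
  -- the automorphism of `T`
  have hTn := sc_fullyNormalized hT
  have hTc := (of_fullyNormalized hS hF hTn).1
  have hTR : F.IsReceptive T := receptive_of_fullyCentralized hS hF hTc
  obtain ⟨θa, hθa, hθa1⟩ := exists_pres hTS hTR (aut_maps hT ha) (afn_img a)
  obtain ⟨gi, hgi, hgi1, hgi2⟩ := hρiext
  have hgiK : ∀ x ∈ Q ⊔ X, gi x ∈ KK S T := hgi.sup_mem
    (fun x hx => by rw [hgi1 x hx]; exact Q_le_KK (hQ'T (hi2 x hx).1))
    (fun x hx => by rw [hgi2 x hx]; exact Y_le_KK (hXR hx))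
  have hΦ : Maps F (Q ⊔ X) (afn θa ∘ gi) := hgi.comp (hθa.maps hTS) hgiK
  set Φ := afn θa ∘ gi with hΦdef
  have hΦQ : Maps F Q Φ := hΦ.restrict le_sup_left
  have hΦx : ∀ x ∈ Q, Φ x = afn a (ρi x) := fun x hx => by
    simp only [hΦdef, Function.comp]
    rw [hgi1 x hx, hθa1 _ (hQ'T (hi2 x hx).1)]
  have hmemP₁ : ∀ y ∈ img f₀ Q, afn a y ∈ P₁ := by
    intro y hy
    obtain ⟨z, hz, rfl⟩ := hf₀.mem_img.1 hy
    rw [← h1 z hz, ← hf₁img]
    exact hf₁.mem_img_of_mem hz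
  have himgQ : img Φ Q = P₁ := img_eq_of_card hΦQ hQS hP₁S
    (fun x hx => by rw [hΦx x hx]; exact hmemP₁ _ (hi2 x hx).1)
    (by rw [← hf₁img, hf₁.card_img])
  have hΦX : ∀ x ∈ X, Φ x ∈ X := fun x hx => by
    simp only [hΦdef, Function.comp]
    rw [hgi2 x hx]
    exact hX.inv θa hθa x hx
  have himgX : img Φ X = X := img_eq_of_card (hΦ.restrict le_sup_right) hXS hXS hΦX le_rfl
  -- the transported automorphism
  have hαE : Maps E Q (afn (α : MulAut Q)) := (mem_autGroup_iff hQT).1 α.2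
  obtain ⟨kk, hkk, hkk1⟩ := hStr le_rfl hQT hαE (fun x hx => afn_mem _ hx) hΦQ
  rw [himgQ] at hkk
  let α₂ : MulAut P₁ := MulAut.congr (hΦQ.equiv himgQ) (α : MulAut Q)
  have hα₂ : ∀ x ∈ Q, afn α₂ (Φ x) = Φ (afn (α : MulAut Q) x) := fun x hx => hΦQ.afn_congr himgQ _ hx
  have hα₂E : α₂ ∈ E.autGroup P₁ := by
    refine (mem_autGroup_iff hP₁T).2 (hkk.congr fun y hy => ?_)
    rw [← himgQ] at hy
    obtain ⟨x, hx, rfl⟩ := hΦQ.mem_img.1 hy
    rw [hkk1 x hx, hα₂ x hx]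
  have hα₂p : (⟨α₂, hα₂E⟩ : ↥(E.autGroup P₁)) ∈ pEl p ↥(E.autGroup P₁) := by
    refine Subgroup.subset_closure ⟨k, ?_⟩
    rw [Subgroup.orderOf_mk]
    show orderOf (MulAut.congr (hΦQ.equiv himgQ) (α : MulAut Q)) = _
    rw [MulEquiv.orderOf_eq, Subgroup.orderOf_coe, hk]
  -- the centralizer of `P₁` in `T`
  have hc₁ : centralizerIn T P₁ ≤ P₁ := by
    intro c hcm
    have hcT : c ∈ T := (mem_centralizerIn.1 hcm).1
    have hai := aut_maps hT (Subgroup.inv_mem _ ha)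
    have haa := aut_maps hT ha
    have hdT : afn a⁻¹ c ∈ T := afn_mem a⁻¹ hcT
    have hd : afn a⁻¹ c ∈ centralizerIn T (img f₀ Q) := by
      refine mem_centralizerIn.2 ⟨hdT, fun q hq => ?_⟩
      have hqT := hQ'T hq
      have e := (mem_centralizerIn.1 hcm).2 _ (hmemP₁ q hq)
      have e1 := congrArg (afn a⁻¹) e
      rw [hai.map_mul (afn_mem a hqT) hcT, hai.map_mul hcT (afn_mem a hqT), afn_inv_afn a hqT] at e1
      exact e1
    have hdN : afn a⁻¹ c ∈ normalizerIn T (img f₀ Q) := le_normalizerIn_of_centralizerIn T _ hd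
    have hρd : ρ (afn a⁻¹ c) ∈ centralizerIn T Q := by
      refine mem_centralizerIn.2 ⟨hρ.mem hdN, fun y hy => ?_⟩
      rw [← hρimg] at hy
      obtain ⟨q, hq, rfl⟩ := hρQ'.mem_img.1 hy
      have hqN := hNlt.le hq
      rw [← hρ.map_mul hqN hdN, (mem_centralizerIn.1 hd).2 q hq, hρ.map_mul hdN hqN]
    have hρdQ : ρ (afn a⁻¹ c) ∈ img ρ (img f₀ Q) := by
      rw [hρimg]
      exact hc hρd
    obtain ⟨q, hq, hqe⟩ := hρQ'.mem_img.1 hρdQ
    have hqd := hρ.inj (hNlt.le hq) hdN hqe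
    have := hmemP₁ q hq
    rwa [hqd, afn_afn_inv a hcT] at this
  have hcard₁ : Nat.card P₁ = Nat.card Q := by
    rw [← hf₁img]
    exact hf₁.card_img
  have hlev := level_nfL hS hF hT hEF hEs hP₁T hP₁n hc₁ hX (by rw [hcard₁]; exact hk₀) _ hα₂p
  exact cext_transport hΦ himgQ himgX hlev (fun x hx => afn_mem _ hx) (fun x hx => afn_mem _ hx)
    (fun x hx => (hα₂ x hx).symm)

/-- **Extension theorem.** For `E ⊴ F` on `T`, every map of `E` extends to a map fixing `X`, where `X` has the properties of `Fx`. -/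
theorem centralizes_lev [Fact p.Prime] (hS : IsPGroup p S) (hF : F.IsSaturated p) (hE : E.IsNormalIn F p)
    {k₀ : ℕ} (hfx : FxL F E p X k₀) {P : Subgroup Ω} {f : Ω → Ω} (hf : Maps E P f) (hk₀ : k₀ ≤ Nat.card P) : CExt F X P f := by
  have hinv := hE.1.2.2
  have hEF : E.IsSubsystemOf F := hinv.1
  have hT : F.StronglyClosed T := hinv.2.1
  have hEs := hE.1.1
  have hTS := hT.1
  haveI : Finite T := finite_of_le hTS
  have hTp : IsPGroup p T := hS.to_le hTS
  have hXR := hfx.le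
  have hXS : X ≤ S := hXR.trans inf_le_left
  have hX : ∀ t ∈ T, ∀ x ∈ X, t * x * t⁻¹ = x := by
    intro t ht x hx
    rw [(mem_centralizerIn.1 (hXR hx)).2 t ht]
    group
  let M : FusionSystem T := MMLsys hEF hTS hXS hX k₀
  have hM : ∀ {R : Subgroup Ω} {g : Ω → Ω}, Maps M R g ↔ MML F E X k₀ R g := maps_MMLsys hEF hTS hXS hX
  have hEM : ∀ R : Subgroup Ω, M.Hom R ⊆ E.Hom R := by
    intro R φ hφ
    exact (hM.1 (Maps.of_mem hφ)).1.mem_hom (fun x => (fn_coe φ x).symm)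
  have hall : ∀ R : Subgroup Ω, E.Hom R ⊆ M.Hom R := by
    refine Cfsg.Agent.Lib.FusionAlperin.alperin hTp hEs hEM ?_
    intro Q hQT hFA hRec hc IH φ hφ hr
    have hmφ := Maps.of_mem hφ
    have himgφ : img (fn φ) Q = Q := by rw [img_eq_range φ (fun x => (fn_coe φ x).symm), hr]
    by_cases hkQ : k₀ ≤ Nat.card Q
    swap
    · exact (hM.2 ⟨hmφ, fun h => absurd h hkQ⟩).mem_hom (fun x => (fn_coe φ x).symm)
    have IH' : ∀ (R : Subgroup Ω) (f : Ω → Ω), Nat.card Q < Nat.card R → Maps E R f → CExt F X R f := by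
      intro R f hc hf
      have h1 := IH R hc hf.hom_mem
      have h2 := (hM.1 (Maps.of_mem h1)).2 (hkQ.trans hc.le)
      exact cext_congr h2 (fun x hx => by rw [fn_of_mem _ hx, hf.hom_apply])
    by_cases hQeq : Q = T
    · subst hQeq
      have hlev := level_TL hS hF hE hfx hkQ (hmφ.toAut himgφ) (hmφ.toAut_mem himgφ)
      have := cext_congr hlev (fun x hx => hmφ.afn_toAut himgφ hx)
      exact (hM.2 ⟨hmφ, fun _ => this⟩).mem_hom (fun x => (fn_coe φ x).symm)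
    · have hlt : Q < T := lt_of_le_of_ne hQT hQeq
      have hNlt := Cfsg.Agent.Lib.FusionAlperin.lt_normalizerIn hTp hlt
      obtain ⟨t, htN, htQ⟩ := SetLike.exists_of_lt hNlt
      have htT : t ∈ T := (mem_normalizerIn.1 htN).1
      have htn : t ∈ Subgroup.normalizer (Q : Set Ω) := (mem_normalizerIn.1 htN).2
      have hclaim : ∀ α ∈ pEl p ↥(E.autGroup Q), CExt F X Q (afn (α : MulAut Q)) := by
        have hQS : Q ≤ S := hQT.trans hTS
        have hle : pEl p ↥(E.autGroup Q) ≤ (extSub F E X Q hEF hQT hTS hXS).subgroupOf (E.autGroup Q) := by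
          rw [pEl, Subgroup.closure_le]
          rintro α ⟨k, hk⟩
          exact Subgroup.mem_subgroupOf.2 ⟨α.2, transport_stepL hS hF hE hfx hkQ hQT hFA hRec hc hlt IH' α hk⟩
        intro α hα
        exact (Subgroup.mem_subgroupOf.1 (hle hα)).2
      refine Cfsg.Agent.Lib.FusionAlperin.aut_mem_of_normal hFA hRec IH (pEl p ↥(E.autGroup Q)) ?_ htT htn htQ ?_ φ hφ hr
      · intro α hα
        have hmα : Maps E Q (afn (α : MulAut Q)) := (mem_autGroup_iff hQT).1 α.2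
        exact (hM.2 ⟨hmα, fun _ => hclaim α hα⟩).mem_hom (fun x => by rw [afn_of_mem _ x.2]; rfl)
      · intro h
        obtain ⟨n, hn⟩ := hTp ⟨t, htT⟩
        have htpow : t ^ p ^ n = 1 := by simpa using congrArg Subtype.val hn
        refine mem_pEl_of_pow (n := n) (Subtype.ext ?_)
        show (Cfsg.Agent.Lib.FusionAlperin.conjAut Q t htn) ^ p ^ n = 1
        have e : Cfsg.Agent.Lib.FusionAlperin.conjAut Q t htn ^ p ^ n = Q.normalizerMonoidHom (⟨t, htn⟩ ^ p ^ n) := by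
          rw [map_pow]
          rfl
        rw [e]
        have e2 : (⟨t, htn⟩ : ↥(Subgroup.normalizer (Q : Set Ω))) ^ p ^ n = 1 := Subtype.ext htpow
        rw [e2, map_one]
  have h1 := hall P hf.hom_mem
  have h2 := (hM.1 (Maps.of_mem h1)).2 hk₀
  exact cext_congr h2 (fun x hx => by rw [fn_of_mem _ hx, hf.hom_apply])

end Sub

end Cfsg.Agent.Lib.AschOdd
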