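/-
AschOddTr: transport to fully normalized conjugates, fixing `X`.
-/
import Mathlib
import Cfsg.Agent.Lib.AschOddLev

set_option autoImplicit false
set_option linter.unusedSectionVars false
set_option linter.unusedVariables false
set_option linter.unusedSimpArgs false
set_option linter.style.haveILetI false

namespace Cfsg.Agent.Lib.AschOdd

open Cfsg Cfsg.FusionSystem Cfsg.Agent.Lib.FusionCore Cfsg.Agent.Lib.FusionCore2 Cfsg.Agent.Lib.AschCore
open Cfsg.Agent.Lib.FusionIndexPrime (pEl mem_pEl_of_pow pEl_normal ofMaps maps_ofMaps)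
open Cfsg.Agent.Lib.FusionInvariant (Str Inv Frat isInvariantIn_iff str_of_inv_frat maps_sub StrongMem aut_maps strong_img_le)
open Cfsg.Agent.Lib.FusionPPrimeMin (TC)
open Cfsg.Agent.Lib.FusionCompA (fullyNormalized_of_le_normalizer)
open Cfsg.Agent.Lib.FusionJLocal

universe u

variable {Ω : Type u} [Group Ω] {S T : Subgroup Ω} {F : FusionSystem S} {E : FusionSystem T} {p : ℕ} {Q : Subgroup Ω}

/-- The fixed point property at `Q`. -/
def FixAt (F : FusionSystem S) (E : FusionSystem T) (p : ℕ) (X Q : Subgroup Ω) : Prop :=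
  ∀ (θ : MulAut ↥(KK S Q)) (a : MulAut Q), Wk F Q θ → a ∈ E.autGroup Q → Lifts θ a → ∀ m : ℕ, θ ^ m = 1 → m.Coprime p → ∀ x ∈ X, afn θ x = x

section Tr

variable [Finite S] [Fact p.Prime]

/-- A fully normalized subgroup, centric in `T`, has all conjugates centric in `T`. -/
lemma tc_of_fn (hS : IsPGroup p S) (hF : F.IsSaturated p) (hT : F.StronglyClosed T) (hQT : Q ≤ T) (hQn : F.IsFullyNormalized Q)
    (hc : centralizerIn T Q ≤ Q) : TC F T Q := by
  have hTS := hT.1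
  obtain ⟨hfc, hfa⟩ := of_fullyNormalized hS hF hQn
  have hrec := receptive_of_fullyCentralized hS hF hfc
  refine ⟨hQT, fun P' hP' => ?_⟩
  have hc2 : F.IsConj P' Q := IsConj_symm hP'
  obtain ⟨r, hr', -, hrimg⟩ := exists_normalizer_map hS hfa hrec hc2
  have hP'S : P' ≤ S := IsConj_le hc2
  have hP'N : P' ≤ normalizerIn S P' := le_normalizerIn hP'S
  have hrP : Maps F P' r := hr'.restrict hP'N
  intro c hc'
  obtain ⟨hcT, hcc⟩ := mem_centralizerIn.1 hc'
  have hcS : c ∈ centralizerIn S P' := mem_centralizerIn.2 ⟨hTS hcT, hcc⟩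
  have hcN : c ∈ normalizerIn S P' := le_normalizerIn_of_centralizerIn S P' hcS
  have hrc : r c ∈ centralizerIn T Q := by
    refine mem_centralizerIn.2 ⟨StrongMem hT (Subgroup.zpowers_le.2 hcT) (hr'.restrict (Subgroup.zpowers_le.2 hcN)) (Subgroup.mem_zpowers c), fun y hy => ?_⟩
    rw [← hrimg] at hy
    obtain ⟨u, hu, rfl⟩ := hrP.mem_img.1 hy
    rw [← hr'.map_mul (hP'N hu) hcN, hcc u hu, hr'.map_mul hcN (hP'N hu)]
  have h1 := hc hrc
  rw [← hrimg] at h1
  obtain ⟨u, hu, hue⟩ := hrP.mem_img.1 h1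
  rw [← hr'.inj (hP'N hu) hcN hue]
  exact hu

/-- `N_T` of a conjugate of a fully normalized subgroup is not larger. -/
lemma card_NT_le (hS : IsPGroup p S) (hF : F.IsSaturated p) (hT : F.StronglyClosed T) (hQn : F.IsFullyNormalized Q) {Q₀ : Subgroup Ω}
    (hc2 : F.IsConj Q₀ Q) : Nat.card (normalizerIn T Q₀) ≤ Nat.card (normalizerIn T Q) := by
  have hTS := hT.1
  haveI : Finite T := finite_of_le hTS
  haveI : Finite (normalizerIn T Q) := finite_of_le inf_le_left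
  obtain ⟨hfc, hfa⟩ := of_fullyNormalized hS hF hQn
  have hrec := receptive_of_fullyCentralized hS hF hfc
  obtain ⟨r, hr', hrN, hrimg⟩ := exists_normalizer_map hS hfa hrec hc2
  have hle : normalizerIn T Q₀ ≤ normalizerIn S Q₀ := fun t ht => mem_normalizerIn.2 ⟨hTS (mem_normalizerIn.1 ht).1, (mem_normalizerIn.1 ht).2⟩
  have hr₁ := hr'.restrict hle
  rw [← hr₁.card_img]
  refine Subgroup.card_le_of_le (fun y hy => ?_)
  obtain ⟨t, ht, rfl⟩ := hr₁.mem_img.1 hy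
  exact mem_normalizerIn.2 ⟨StrongMem hT inf_le_left hr₁ ht, (mem_normalizerIn.1 (hrN t (hle ht))).2⟩

omit [Fact p.Prime] in
lemma card_NT_aut (hT : F.StronglyClosed T) {a : MulAut T} (ha : a ∈ F.autGroup T) {Y : Subgroup Ω} (hYT : Y ≤ T) :
    Nat.card (normalizerIn T Y) ≤ Nat.card (normalizerIn T (img (afn a) Y)) := by
  have hTS := hT.1
  haveI : Finite T := finite_of_le hTS
  haveI : Finite (normalizerIn T (img (afn a) Y)) := finite_of_le inf_le_left
  have hm := aut_maps hT ha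
  have hN : Maps F (normalizerIn T Y) (afn a) := hm.restrict inf_le_left
  have hY : Maps F Y (afn a) := hm.restrict hYT
  haveI : Finite (img (afn a) Y) := finite_of_le (hY.img_le)
  rw [← hN.card_img]
  refine Subgroup.card_le_of_le (fun y hy => ?_)
  obtain ⟨t, ht, rfl⟩ := hN.mem_img.1 hy
  obtain ⟨ht1, ht2⟩ := mem_normalizerIn.1 ht
  refine mem_normalizerIn.2 ⟨afn_mem a ht1, mem_normalizer_of_conj_mem (fun z hz => ?_)⟩
  obtain ⟨w, hw, rfl⟩ := hY.mem_img.1 hz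
  rw [← hm.map_conj ht1 (hYT hw)]
  exact hY.mem_img_of_mem ((Subgroup.mem_normalizer_iff.1 ht2 w).1 hw)

omit [Fact p.Prime] in
/-- Transport of full normalization in `E` by `Aut_F(T)`. -/
lemma fn_aut (hT : F.StronglyClosed T) (hInv : Inv F E) {a : MulAut T} (ha : a ∈ F.autGroup T) {W' P₁ : Subgroup Ω} (hW'T : W' ≤ T)
    (himg : img (afn a) W' = P₁) (hP₁n : E.IsFullyNormalized P₁) : E.IsFullyNormalized W' := by
  refine ⟨hW'T, fun R hR => ?_⟩
  obtain ⟨r, hr, hrimg⟩ := isConj_iff.1 hR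
  obtain ⟨k, hk, hk1⟩ := hInv hr a ha
  rw [himg] at hk
  have h1 := hP₁n.2 _ (isConj_iff.2 ⟨k, hk, rfl⟩)
  have hRT : R ≤ T := hrimg ▸ hr.img_le
  have hm := aut_maps hT ha
  have himgk : img k P₁ = img (afn a) R := by
    ext y
    rw [hk.mem_img, (hm.restrict hRT).mem_img]
    constructor
    · rintro ⟨z, hz, rfl⟩
      rw [← himg] at hz
      obtain ⟨w, hw, rfl⟩ := (hm.restrict hW'T).mem_img.1 hz
      rw [hk1 w hw]
      exact ⟨r w, by rw [← hrimg]; exact hr.mem_img_of_mem hw, rfl⟩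
    · rintro ⟨z, hz, rfl⟩
      rw [← hrimg] at hz
      obtain ⟨w, hw, rfl⟩ := hr.mem_img.1 hz
      refine ⟨afn a w, ?_, hk1 w hw⟩
      rw [← himg]
      exact (hm.restrict hW'T).mem_img_of_mem hw
  rw [himgk] at h1
  have h2 := card_NT_aut hT ha hRT
  have hP₁T : P₁ ≤ T := himg ▸ (hm.restrict hW'T).img_le |>.trans (le_of_eq rfl) |> fun h => hP₁n.1
  have h3 := card_NT_aut hT (Subgroup.inv_mem _ ha) hP₁T
  have himgi : img (afn a⁻¹) P₁ = W' := by
    ext y
    rw [((aut_maps hT (Subgroup.inv_mem _ ha)).restrict hP₁T).mem_img]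
    constructor
    · rintro ⟨z, hz, rfl⟩
      rw [← himg] at hz
      obtain ⟨w, hw, rfl⟩ := (hm.restrict hW'T).mem_img.1 hz
      rw [afn_inv_afn a (hW'T hw)]
      exact hw
    · intro hy
      refine ⟨afn a y, ?_, afn_inv_afn a (hW'T hy)⟩
      rw [← himg]
      exact (hm.restrict hW'T).mem_img_of_mem hy
  rw [himgi] at h3
  exact h2.trans (h1.trans h3)

/-- Transport to a fully normalized conjugate, fixing `X`. -/
lemma exists_transport (hS : IsPGroup p S) (hF : F.IsSaturated p) (hE : E.IsNormalIn F p) {X : Subgroup Ω} (hXle : X ≤ centralizerIn S T)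
    (hXinv : ∀ θ : MulAut ↥(KK S T), Pres F T θ → ∀ x ∈ X, afn θ x ∈ X) {V' : Subgroup Ω} (hV'T : V' ≤ T) {k₀ : ℕ}
    (hlev : ∀ (R : Subgroup Ω) (f : Ω → Ω), Maps E R f → k₀ ≤ Nat.card R → CExt F X R f) (hk : k₀ ≤ Nat.card (normalizerIn T V')) :
    ∃ (P₁ : Subgroup Ω) (Φ : Ω → Ω), Maps F (V' ⊔ X) Φ ∧ img Φ V' = P₁ ∧ img Φ X = X ∧ F.IsFullyNormalized P₁ ∧
      Nat.card (normalizerIn T V') ≤ Nat.card (normalizerIn T P₁) := by
  obtain ⟨hEF, hT, hInv, hFr⟩ := isInvariantIn_iff.1 hE.1.2.2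
  have hEs := hE.1.1
  have hTS := hT.1
  haveI : Finite T := finite_of_le hTS
  have hV'S := hV'T.trans hTS
  have hTp : IsPGroup p T := hS.to_le hTS
  have hXS : X ≤ S := hXle.trans inf_le_left
  obtain ⟨P₁, hVP₁, hP₁n⟩ := exists_fullyNormalized_conj (F := F) hV'S
  obtain ⟨f₁, hf₁, hf₁img⟩ := isConj_iff.1 hVP₁
  obtain ⟨a, ha, f₀, hf₀, h1⟩ := hFr hV'T hf₁
  have hP₁T : P₁ ≤ T := by
    rw [← hf₁img]
    exact strong_img_le hT hV'T hf₁
  have hP₁S : P₁ ≤ S := hP₁T.trans hTS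
  have hW'T : img f₀ V' ≤ T := hf₀.img_le
  have hma := aut_maps hT ha
  have himga : img (afn a) (img f₀ V') = P₁ := by
    ext y
    rw [(hma.restrict hW'T).mem_img, ← hf₁img, hf₁.mem_img]
    constructor
    · rintro ⟨w, hw, rfl⟩
      obtain ⟨v, hv, rfl⟩ := hf₀.mem_img.1 hw
      exact ⟨v, hv, h1 v hv⟩
    · rintro ⟨v, hv, rfl⟩
      exact ⟨f₀ v, hf₀.mem_img_of_mem hv, (h1 v hv).symm⟩
  have hP₁nE : E.IsFullyNormalized P₁ := Cfsg.Agent.S5153.fullyNormalized_of_stronglyClosed hS hF hEF hT hP₁T hP₁n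
  have hW'n : E.IsFullyNormalized (img f₀ V') := fn_aut hT hInv ha hW'T himga hP₁nE
  obtain ⟨hW'c, hW'a⟩ := of_fullyNormalized hTp hEs hW'n
  have hW'r := receptive_of_fullyCentralized hTp hEs hW'c
  have hcE : E.IsConj V' (img f₀ V') := isConj_iff.2 ⟨f₀, hf₀, rfl⟩
  obtain ⟨ρ, hρ, hρN, hρimg⟩ := exists_normalizer_map hTp hW'a hW'r hcE
  have hV'N : V' ≤ normalizerIn T V' := le_normalizerIn hV'T
  have hρV : Maps E V' ρ := hρ.restrict hV'N
  obtain ⟨g, hg, hg1, hg2⟩ := cext_restrict (hlev _ ρ hρ hk) hV'N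
  have hXR := hXle
  obtain ⟨hTn, -⟩ := And.intro (sc_fullyNormalized hT) True.intro
  have hTc := (of_fullyNormalized hS hF hTn).1
  have hTR : F.IsReceptive T := receptive_of_fullyCentralized hS hF hTc
  obtain ⟨θa, hθa, hθa1⟩ := exists_pres hTS hTR hma (afn_img a)
  have hgv : ∀ v ∈ V', ρ v ∈ img f₀ V' := fun v hv => by
    rw [← hρimg]
    exact hρV.mem_img_of_mem hv
  have hgK : ∀ x ∈ V' ⊔ X, g x ∈ KK S T := hg.sup_mem
    (fun x hx => by rw [hg1 x hx]; exact Q_le_KK (hW'T (hgv x hx)))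
    (fun x hx => by rw [hg2 x hx]; exact Y_le_KK (hXR hx))
  have hΦ : Maps F (V' ⊔ X) (afn θa ∘ g) := hg.comp (hθa.maps hTS) hgK
  have hΦv : ∀ v ∈ V', (afn θa ∘ g) v = afn a (ρ v) := fun v hv => by
    simp only [Function.comp]
    rw [hg1 v hv, hθa1 _ (hW'T (hgv v hv))]
  have hΦV : Maps F V' (afn θa ∘ g) := hΦ.restrict le_sup_left
  have hmemP₁ : ∀ y ∈ img f₀ V', afn a y ∈ P₁ := fun y hy => by
    rw [← himga]
    exact (hma.restrict hW'T).mem_img_of_mem hy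
  have hcardP : Nat.card P₁ = Nat.card V' := by
    rw [← hf₁img]
    exact hf₁.card_img
  have himgV : img (afn θa ∘ g) V' = P₁ := img_eq_of_card hΦV hV'S hP₁S
    (fun x hx => by rw [hΦv x hx]; exact hmemP₁ _ (hgv x hx)) (by rw [hcardP])
  have hΦX : ∀ x ∈ X, (afn θa ∘ g) x ∈ X := fun x hx => by
    simp only [Function.comp]
    rw [hg2 x hx]
    exact hXinv θa hθa x hx
  have himgX : img (afn θa ∘ g) X = X := img_eq_of_card (hΦ.restrict le_sup_right) hXS hXS hΦX le_rfl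
  refine ⟨P₁, _, hΦ, himgV, himgX, hP₁n, ?_⟩
  have h2 : Nat.card (normalizerIn T V') ≤ Nat.card (normalizerIn T (img f₀ V')) := by
    haveI : Finite (normalizerIn T (img f₀ V')) := finite_of_le inf_le_left
    rw [← hρ.card_img]
    refine Subgroup.card_le_of_le (fun y hy => ?_)
    obtain ⟨t, ht, rfl⟩ := hρ.mem_img.1 hy
    exact hρN t ht
  have h3 := card_NT_aut hT ha hW'T
  rw [himga] at h3
  exact h2.trans h3

/-- **Extension at a fully normalized subgroup.** If `X` has the fixed point property there, every automorphism in `E` extends. -/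
lemma cext_of_fix (hS : IsPGroup p S) (hF : F.IsSaturated p) (hE : E.IsNormalIn F p) {X P₁ : Subgroup Ω} (hXle : X ≤ centralizerIn S T)
    (hP₁n : F.IsFullyNormalized P₁) (hTC : TC F T P₁) (hfix : FixAt F E p X P₁) {α : MulAut P₁} (hα : α ∈ E.autGroup P₁) :
    CExt F X P₁ (afn α) := by
  obtain ⟨hEF, hT, hInv, hFr⟩ := isInvariantIn_iff.1 hE.1.2.2
  have hEs := hE.1.1
  have hTS := hT.1
  haveI : Finite T := finite_of_le hTS
  have hP₁T := hTC.1
  have hP₁S := hP₁T.trans hTS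
  haveI : Finite (MulAut P₁) := finite_mulAut (S := S) hP₁S
  have hXS : X ≤ S := hXle.trans inf_le_left
  have hTp : IsPGroup p T := hS.to_le hTS
  have hnE : E.IsFullyNormalized P₁ := Cfsg.Agent.S5153.fullyNormalized_of_stronglyClosed hS hF hEF hT hP₁T hP₁n
  have hA : E.IsFullyAutomized p P₁ := (of_fullyNormalized hTp hEs hnE).2
  obtain ⟨-, R, hRdef⟩ := id hA
  let M : Subgroup ↥(E.autGroup P₁) := (extSub F E X P₁ hEF hP₁T hTS hXS).subgroupOf (E.autGroup P₁)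
  have hR : (R : Subgroup ↥(E.autGroup P₁)) ≤ M := by
    intro r hr
    rw [hRdef] at hr
    obtain ⟨t, ht, htc⟩ := mem_autInducedBy.1 (Subgroup.mem_subgroupOf.1 hr)
    refine Subgroup.mem_subgroupOf.2 ⟨r.2, cext_congr (cext_conj hP₁S hXS (hTS ht) (fun x hx => ?_)) (fun x hx => (htc x hx).symm)⟩
    have := (mem_centralizerIn.1 (hXle hx)).2 t ht
    rw [this]
    group
  have hres : pResidual p ↥(E.autGroup P₁) ≤ M := by
    rw [pResidual, Subgroup.closure_le]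
    intro a hcop
    refine Subgroup.mem_subgroupOf.2 ⟨a.2, ?_⟩
    obtain ⟨β, hβ, hl⟩ := Cfsg.Agent.Lib.FusionCompA.exists_hat hS hF hE hTC a.2
    have hcop' : (orderOf (a : MulAut P₁)).Coprime p := by
      have : (orderOf a).Coprime p := hcop
      rwa [Subgroup.orderOf_coe]
    obtain ⟨θ', hθ', hl', m, hm, hmp⟩ := exists_pprime_lift hP₁S hβ hl hcop'
    have hfx := hfix θ' a hθ' a.2 hl' m hm hmp
    have hXK : X ≤ KK S P₁ := fun x hx => Y_le_KK (centralizerIn_anti hP₁T (hXle hx))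
    exact ⟨afn θ', (hθ'.toPres.maps hP₁S).restrict (sup_le le_sup_left hXK), hl', fun x hx => hfx x hx⟩
  obtain ⟨κ, hκ, r, hr, e⟩ := Cfsg.Agent.Lib.FusionHyperfocal.exists_pResidual_mul_sylow R ⟨α, hα⟩
  have : (⟨α, hα⟩ : ↥(E.autGroup P₁)) ∈ M := by
    rw [e]
    exact M.mul_mem (hres hκ) (hR hr)
  exact (Subgroup.mem_subgroupOf.1 this).2

/-- Extension along a transport. -/
lemma cext_of_transport (hS : IsPGroup p S) (hF : F.IsSaturated p) (hE : E.IsNormalIn F p) {X W₁ P₁ : Subgroup Ω} (hXle : X ≤ centralizerIn S T)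
    (hW₁T : W₁ ≤ T) {Φ : Ω → Ω} (hΦ : Maps F (W₁ ⊔ X) Φ) (himgW : img Φ W₁ = P₁) (himgX : img Φ X = X) (hP₁n : F.IsFullyNormalized P₁)
    (hTC : TC F T P₁) (hfix : FixAt F E p X P₁) {α : MulAut W₁} (hα : α ∈ E.autGroup W₁) : CExt F X W₁ (afn α) := by
  obtain ⟨hEF, hT, hInv, hFr⟩ := isInvariantIn_iff.1 hE.1.2.2
  have hStr : Str F E := str_of_inv_frat hT @hInv @hFr
  have hTS := hT.1
  have hΦW : Maps F W₁ Φ := hΦ.restrict le_sup_left
  have hαE : Maps E W₁ (afn α) := (mem_autGroup_iff hW₁T).1 hα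
  obtain ⟨kk, hkk, hkk1⟩ := hStr le_rfl hW₁T hαE (fun x hx => afn_mem _ hx) hΦW
  rw [himgW] at hkk
  let α₂ : MulAut P₁ := MulAut.congr (hΦW.equiv himgW) α
  have hα₂ : ∀ x ∈ W₁, afn α₂ (Φ x) = Φ (afn α x) := fun x hx => hΦW.afn_congr himgW _ hx
  have hP₁T := hTC.1
  have hα₂E : α₂ ∈ E.autGroup P₁ := by
    refine (mem_autGroup_iff hP₁T).2 (hkk.congr fun y hy => ?_)
    rw [← himgW] at hy
    obtain ⟨x, hx, rfl⟩ := hΦW.mem_img.1 hy
    rw [hkk1 x hx, hα₂ x hx]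
  have hlev := cext_of_fix hS hF hE hXle hP₁n hTC hfix hα₂E
  exact cext_transport hΦ himgW himgX hlev (fun x hx => afn_mem _ hx) (fun x hx => afn_mem _ hx) (fun x hx => (hα₂ x hx).symm)

end Tr

end Cfsg.Agent.Lib.AschOdd
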