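/-
AschOddCase: the case `J(N_T(Q)) ≤ Q` of the induction.
-/
import Mathlib
import Cfsg.Agent.Lib.AschOddTr

set_option autoImplicit false
set_option linter.unusedSectionVars false
set_option linter.unusedVariables false
set_option linter.unusedSimpArgs false
set_option linter.style.haveILetI false

namespace Cfsg.Agent.Lib.AschOdd

open Cfsg Cfsg.FusionSystem Cfsg.Agent.Lib.FusionCore Cfsg.Agent.Lib.FusionCore2 Cfsg.Agent.Lib.AschCore
open Cfsg.Agent.Lib.FusionIndexPrime (pEl mem_pEl_of_pow pEl_normal ofMaps maps_ofMaps)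
open Cfsg.Agent.Lib.FusionInvariant (Str Inv Frat isInvariantIn_iff str_of_inv_frat maps_sub StrongMem aut_maps strong_img_le)
open Cfsg.Agent.Lib.FusionPPrimeMin (TC)
open Cfsg.Agent.Lib.FusionCompA (fullyNormalized_of_le_normalizer)
open Cfsg.Agent.Lib.FusionJLocal Cfsg.Agent.Lib.AlperinControl

universe u

variable {Ω : Type u} [Group Ω] {S T : Subgroup Ω} {F : FusionSystem S} {E : FusionSystem T} {p : ℕ} {Q : Subgroup Ω}

section Case2

variable [Finite S] [Fact p.Prime]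

/-- The main computation when `Z(Q) ≤ V ≤ Q`, `a` preserves `V` and `V` has a transport to a fully normalized `P₁` with the fixed point
property. -/
theorem caseII (hS : IsPGroup p S) (hF : F.IsSaturated p) (hE : E.IsNormalIn F p) {X V P₁ : Subgroup Ω} (hXle : X ≤ centralizerIn S T) (hQT : Q ≤ T)
    (hVQ : V ≤ Q) (hZV : Q ⊓ centralizerIn S Q ≤ V) {Φ : Ω → Ω} (hΦ : Maps F (V ⊔ X) Φ) (himgV : img Φ V = P₁) (himgX : img Φ X = X)
    (hP₁n : F.IsFullyNormalized P₁) (hTC : TC F T P₁) (hfix : FixAt F E p X P₁) {θ : MulAut ↥(KK S Q)} {a : MulAut Q} (hW : Wk F Q θ)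
    (ha : a ∈ E.autGroup Q) (hl : Lifts θ a) {m : ℕ} (hm : θ ^ m = 1) (hmp : m.Coprime p) (haV : ∀ v ∈ V, afn a v ∈ V) {x : Ω} (hx : x ∈ X) :
    afn θ x = x := by
  obtain ⟨hEF, hT, hInv, hFr⟩ := isInvariantIn_iff.1 hE.1.2.2
  have hStr : Str F E := str_of_inv_frat hT @hInv @hFr
  have hTS := hT.1
  haveI : Finite T := finite_of_le hTS
  have hQS : Q ≤ S := hQT.trans hTS
  have hVS : V ≤ S := hVQ.trans hQS
  have hVT : V ≤ T := hVQ.trans hQT
  have hXS : X ≤ S := hXle.trans inf_le_left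
  have hP₁T := hTC.1
  have hP₁S := hP₁T.trans hTS
  have hXY : X ≤ centralizerIn S Q := hXle.trans (centralizerIn_anti hQT)
  have hxY := hXY hx
  have hxK := Y_le_KK hxY
  have hXY₁ : X ≤ centralizerIn S P₁ := hXle.trans (centralizerIn_anti hP₁T)
  -- the element `u`
  set u := x⁻¹ * afn θ x with hu
  have huQ : u ∈ Q := hW.hY x hxY
  have huY : u ∈ centralizerIn S Q := hW.z_mem_Y hQS hxY
  have huV : u ∈ V := hZV ⟨huQ, huY⟩
  have hθx : afn θ x = x * u := by rw [hu]; group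
  -- the restriction to `V`
  have hmaQ : Maps E Q (afn a) := (mem_autGroup_iff hQT).1 ha
  have hmV : Maps E V (afn a) := hmaQ.restrict hVQ
  have himgaV : img (afn a) V = V := img_eq_of_card hmV hVT hVT haV le_rfl
  set α₀ := hmV.toAut himgaV with hα₀
  have hα₀E : α₀ ∈ E.autGroup V := hmV.toAut_mem himgaV
  have hα₀v : ∀ v ∈ V, afn α₀ v = afn a v := fun v hv => hmV.afn_toAut himgaV hv
  have haθ : ∀ v ∈ V, afn a v = afn θ v := fun v hv => (hl v (hVQ hv)).symm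
  have hapow : ∀ k : ℕ, ∀ v ∈ V, afn (α₀ ^ k) v = afn (θ ^ k) v := by
    intro k
    induction k with
    | zero =>
      intro v hv
      rw [pow_zero, pow_zero, afn_one hv, afn_one (Q_le_KK (hVQ hv))]
    | succ k ih =>
      intro v hv
      have h1 := afn_mem (α₀ ^ k) hv
      rw [pow_succ', pow_succ', afn_mul _ _ hv, afn_mul _ _ (Q_le_KK (hVQ hv)), hα₀v _ h1, haθ _ h1, ih v hv]
  have hα₀pow : α₀ ^ m = 1 := afn_ext (fun v hv => by
    rw [hapow m v hv, hm, afn_one hv, afn_one (Q_le_KK (hVQ hv))])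
  have hα₀c : (orderOf α₀).Coprime p := Nat.Coprime.coprime_dvd_left (orderOf_dvd_of_pow_eq_one hα₀pow) hmp
  -- the transported automorphism
  have hΦV : Maps F V Φ := hΦ.restrict le_sup_left
  obtain ⟨kk, hkk, hkk1⟩ := hStr le_rfl hVT ((mem_autGroup_iff hVT).1 hα₀E) (fun y hy => afn_mem _ hy) hΦV
  rw [himgV] at hkk
  let α₂ : MulAut P₁ := MulAut.congr (hΦV.equiv himgV) α₀
  have hα₂ : ∀ y ∈ V, afn α₂ (Φ y) = Φ (afn α₀ y) := fun y hy => hΦV.afn_congr himgV _ hy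
  have hα₂E : α₂ ∈ E.autGroup P₁ := by
    refine (mem_autGroup_iff hP₁T).2 (hkk.congr fun y hy => ?_)
    rw [← himgV] at hy
    obtain ⟨z, hz, rfl⟩ := hΦV.mem_img.1 hy
    rw [hkk1 z hz, hα₂ z hz]
  have hα₂c : (orderOf α₂).Coprime p := by
    have e : orderOf α₂ = orderOf α₀ := MulEquiv.orderOf_eq (MulAut.congr (hΦV.equiv himgV)) α₀
    rwa [e]
  obtain ⟨θ₁, hθ₁, hl₁⟩ := Cfsg.Agent.Lib.FusionCompA.exists_hat hS hF hE hTC hα₂E
  obtain ⟨θ', hθ', hl', m', hm', hmp'⟩ := exists_pprime_lift hP₁S hθ₁ hl₁ hα₂c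
  have hfx := hfix θ' α₂ hθ' hα₂E hl' m' hm' hmp'
  obtain ⟨D, hD⟩ := exists_centralizerSystem (F := F) hP₁S
  have hfc := (of_fullyNormalized hS hF hP₁n).1
  -- the image of `x` and `u`
  have hxs : x ∈ V ⊔ X := Subgroup.mem_sup_right hx
  set x' := Φ x with hx'
  have hx'X : x' ∈ X := by
    rw [← himgX]
    exact (hΦ.restrict le_sup_right).mem_img_of_mem hx
  have hx'Y₁ := hXY₁ hx'X
  have hx'K : x' ∈ KK S P₁ := Y_le_KK hx'Y₁
  have hus : u ∈ V ⊔ X := Subgroup.mem_sup_left huV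
  set u' := Φ u with hu'
  have hu'P : u' ∈ P₁ := by
    rw [← himgV]
    exact hΦV.mem_img_of_mem huV
  have hu'K : u' ∈ KK S P₁ := Q_le_KK hu'P
  -- the inverse of `Φ`
  obtain ⟨Φi, hΦi, hi1, hi2⟩ := hΦ.inv
  have himgs : img Φ (V ⊔ X) = P₁ ⊔ X := by rw [hΦ.img_sup, himgV, himgX]
  rw [himgs] at hΦi hi2
  -- the domain
  set Ξ' := Subgroup.zpowers x' ⊔ P₁ with hΞ'
  have hzle : Subgroup.zpowers x' ≤ X := Subgroup.zpowers_le.2 hx'X
  have hΞle : Ξ' ≤ P₁ ⊔ X := sup_le (hzle.trans le_sup_right) le_sup_left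
  have hΦi₁ : Maps F Ξ' Φi := hΦi.restrict hΞle
  -- `Ξ`
  set Ξ := Subgroup.zpowers x ⊔ V with hΞ
  have hzxle : Subgroup.zpowers x ≤ X := Subgroup.zpowers_le.2 hx
  have hΞsup : Ξ ≤ V ⊔ X := sup_le (hzxle.trans le_sup_right) le_sup_left
  have hi₁x : Φi x' = x := hi1 x hxs
  have hiv : ∀ y ∈ P₁, Φi y ∈ V := by
    intro y hy
    rw [← himgV] at hy
    obtain ⟨v, hv, rfl⟩ := hΦV.mem_img.1 hy
    rw [hi1 v (Subgroup.mem_sup_left hv)]
    exact hv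
  have hiΞ : ∀ y ∈ Ξ', Φi y ∈ Ξ := hΦi₁.sup_mem
    (fun y hy => by
      obtain ⟨n, rfl⟩ := Subgroup.mem_zpowers_iff.1 hy
      rw [(hΦi₁.restrict le_sup_left).map_zpow (Subgroup.mem_zpowers x'), hi₁x]
      exact Subgroup.mem_sup_left (Subgroup.zpow_mem_zpowers x n))
    (fun y hy => Subgroup.mem_sup_right (hiv y hy))
  have hΞK : Ξ ≤ KK S Q := sup_le (Subgroup.zpowers_le.2 hxK) (hVQ.trans le_sup_left)
  have hθΞ₀ : Maps F Ξ (afn θ) := (hW.toPres.maps hQS).restrict hΞK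
  have hθΞ : ∀ y ∈ Ξ, afn θ y ∈ Ξ := hθΞ₀.sup_mem
    (fun y hy => by
      obtain ⟨n, rfl⟩ := Subgroup.mem_zpowers_iff.1 hy
      rw [(hθΞ₀.restrict le_sup_left).map_zpow (Subgroup.mem_zpowers x), hθx]
      refine Subgroup.zpow_mem _ (Subgroup.mul_mem _ (Subgroup.mem_sup_left (Subgroup.mem_zpowers x)) (Subgroup.mem_sup_right huV)) n)
    (fun y hy => by
      rw [← haθ y hy]
      exact Subgroup.mem_sup_right (haV y hy))
  -- the conjugate of `θ`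
  have hG : Maps F Ξ' (Φ ∘ afn θ ∘ Φi) :=
    hΦi₁.comp (hθΞ₀.comp (hΦ.restrict hΞsup) hθΞ) hiΞ
  have hGP : ∀ y ∈ P₁, (Φ ∘ afn θ ∘ Φi) y = afn θ' y := by
    intro y hy
    rw [← himgV] at hy
    obtain ⟨v, hv, rfl⟩ := hΦV.mem_img.1 hy
    simp only [Function.comp]
    rw [hi1 v (Subgroup.mem_sup_left hv), ← haθ v hv, ← hα₀v v hv, ← hα₂ v hv, hl' _ (himgV ▸ hΦV.mem_img_of_mem hv)]
  have hGx : (Φ ∘ afn θ ∘ Φi) x' = x' * u' := by
    simp only [Function.comp]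
    rw [hi₁x, hθx, hΦ.map_mul hxs hus]
  have hGK : ∀ y ∈ Ξ', (Φ ∘ afn θ ∘ Φi) y ∈ KK S P₁ := hG.sup_mem
    (fun y hy => by
      obtain ⟨n, rfl⟩ := Subgroup.mem_zpowers_iff.1 hy
      rw [(hG.restrict le_sup_left).map_zpow (Subgroup.mem_zpowers x'), hGx]
      exact Subgroup.zpow_mem _ (Subgroup.mul_mem _ hx'K hu'K) n)
    (fun y hy => by
      rw [hGP y hy]
      exact afn_mem θ' (Q_le_KK hy))
  have hθ'i := hθ'.inv hP₁S
  have hψ : Maps F Ξ' (afn θ'⁻¹ ∘ (Φ ∘ afn θ ∘ Φi)) := hG.comp (hθ'i.toPres.maps hP₁S) hGK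
  have hψP : ∀ y ∈ P₁, (afn θ'⁻¹ ∘ (Φ ∘ afn θ ∘ Φi)) y = y := by
    intro y hy
    simp only [Function.comp]
    have := hGP y hy
    simp only [Function.comp] at this
    rw [this, afn_inv_afn θ' (Q_le_KK hy)]
  have hθ'ix : afn θ'⁻¹ x' = x' := by
    have e := afn_inv_afn θ' hx'K
    rwa [hfx x' hx'X] at e
  have hψx : (afn θ'⁻¹ ∘ (Φ ∘ afn θ ∘ Φi)) x' = x' * afn θ'⁻¹ u' := by
    have e := hGx
    simp only [Function.comp] at e ⊢
    rw [e, (hθ'i.toPres.maps hP₁S).map_mul hx'K hu'K, hθ'ix]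
  -- the focal generator
  have hzY : Subgroup.zpowers x' ≤ centralizerIn S P₁ := Subgroup.zpowers_le.2 hx'Y₁
  have hzΞ : Subgroup.zpowers x' ≤ Ξ' := le_sup_left
  have hPΞ : P₁ ≤ Ξ' := le_sup_right
  set ψ := afn θ'⁻¹ ∘ (Φ ∘ afn θ ∘ Φi) with hψdef
  have hmD : Maps D (Subgroup.zpowers x') ψ := by
    refine (maps_cent hD).2 ⟨hψ.restrict hzΞ, hzY, fun y hy => ?_, ψ, hψ, fun _ _ => rfl, hψP⟩
    refine mem_centralizerIn.2 ⟨hψ.mem (hzΞ hy), fun q hq => ?_⟩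
    have e := (mem_centralizerIn.1 (hzY hy)).2 q hq
    have e1 := congrArg ψ e
    rw [hψ.map_mul (hPΞ hq) (hzΞ hy), hψ.map_mul (hzΞ hy) (hPΞ hq), hψP q hq] at e1
    exact e1
  have hfoc := focal_gen hmD (Subgroup.mem_zpowers x')
  rw [hψx] at hfoc
  have hfoc' : afn θ'⁻¹ u' ∈ D.focalSubgroup := by simpa using hfoc
  have hcf := core_fix hS hF hP₁S hfc hD hθ' hm' hmp' _ hfoc'
  rw [afn_afn_inv θ' hu'K] at hcf
  -- conclusion
  have hθ'u : afn θ' u' = u' := by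
    have e := congrArg (afn θ') hcf
    rw [afn_afn_inv θ' hu'K] at e
    exact e
  have hθu : Φ (afn θ u) = Φ u := by
    have e := hl' u' hu'P
    rw [hθ'u, hα₂ u huV, hα₀v u huV, haθ u huV] at e
    exact e.symm
  have hθu' : afn θ u = u := by
    refine hΦ.inj (Subgroup.mem_sup_left ?_) hus hθu
    rw [← haθ u huV]
    exact haV u huV
  have hone := imW_kerW_triv hS hQS hW hm hmp (z := u) ⟨x, hxY, rfl⟩ ⟨huY, hθu'⟩
  rw [hθx, hone, mul_one]

end Case2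

end Cfsg.Agent.Lib.AschOdd
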