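/-
AschOddMain: the induction giving the fixed point property at all fully normalized subgroups centric in `T`.
-/
import Mathlib
import Cfsg.Agent.Lib.AschOddCase

set_option autoImplicit false
set_option linter.unusedSectionVars false
set_option linter.unusedVariables false
set_option linter.unusedSimpArgs false
set_option linter.style.haveILetI false

namespace Cfsg.Agent.Lib.AschOdd

open Cfsg Cfsg.FusionSystem Cfsg.Agent.Lib.FusionCore Cfsg.Agent.Lib.FusionCore2 Cfsg.Agent.Lib.AschCore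
open Cfsg.Agent.Lib.FusionIndexPrime (pEl mem_pEl_of_pow pEl_normal ofMaps maps_ofMaps)
open Cfsg.Agent.Lib.FusionInvariant (Str Inv Frat isInvariantIn_iff str_of_inv_frat maps_sub StrongMem aut_maps strong_img_le)
open Cfsg.Agent.Lib.FusionPPrimeMin (TC)
open Cfsg.Agent.Lib.FusionCompA (fullyNormalized_of_le_normalizer)
open Cfsg.Agent.Lib.FusionJLocal Cfsg.Agent.Lib.AlperinControl

universe u

variable {Ω : Type u} [Group Ω] {S T : Subgroup Ω} {F : FusionSystem S} {E : FusionSystem T} {p : ℕ} {Q : Subgroup Ω}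

section JJFin

lemma exists_MA' (T : Subgroup Ω) [Finite T] : ∃ A, MA T A := by
  obtain ⟨A, hA⟩ := Cfsg.Agent.Lib.AbReplace.exists_mem_max (S := ↥T)
  exact ⟨_, MA.of_mem hA⟩

lemma MA_le_of_comm' {P A C : Subgroup Ω} [Finite P] (h : MA P A) (hCP : C ≤ P)
    (hC : ∀ a ∈ C, ∀ b ∈ C, a * b = b * a) (hAC : ∀ a ∈ A, ∀ b ∈ C, a * b = b * a) : C ≤ A := by
  have hc := Cfsg.Agent.Lib.AbReplace.comm_sup A C h.comm hC hAC
  have hle : A ⊔ C ≤ P := sup_le h.le hCP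
  haveI : Finite ↥(A ⊔ C) := Finite.of_injective (Subgroup.inclusion hle) (Subgroup.inclusion_injective hle)
  have h1 := h.max (A ⊔ C) hle hc
  have h2 : A = A ⊔ C := Subgroup.eq_of_le_of_card_ge le_sup_left h1
  rw [h2]
  exact le_sup_right

/-- `C_T(J(T)) ≤ J(T)`. -/
lemma cent_JJ_le' {T₁ : Subgroup Ω} [Finite T₁] {c : Ω} (hcT : c ∈ T₁) (hc : ∀ v ∈ JJ T₁, c * v = v * c) : c ∈ JJ T₁ := by
  obtain ⟨A, hA⟩ := exists_MA' T₁
  have h1 : Subgroup.zpowers c ≤ A := by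
    refine MA_le_of_comm' hA (Subgroup.zpowers_le.2 hcT) (fun a ha b hb => ?_) (fun a ha b hb => ?_)
    · obtain ⟨m, rfl⟩ := Subgroup.mem_zpowers_iff.1 ha
      obtain ⟨n, rfl⟩ := Subgroup.mem_zpowers_iff.1 hb
      rw [← zpow_add, ← zpow_add, add_comm]
    · obtain ⟨n, rfl⟩ := Subgroup.mem_zpowers_iff.1 hb
      exact (Commute.zpow_right (show Commute a c from (hc a (hA.le_JJ ha)).symm) n).eq
  exact hA.le_JJ (h1 (Subgroup.mem_zpowers c))

lemma mem_norm_JJ {T₁ : Subgroup Ω} [Finite T₁] {g : Ω} (hg : g ∈ Subgroup.normalizer (T₁ : Set Ω)) :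
    g ∈ Subgroup.normalizer (JJ T₁ : Set Ω) := by
  haveI : Finite ↥(JJ T₁) := Finite.of_injective (Subgroup.inclusion (Subgroup.map_subtype_le _ : JJ T₁ ≤ T₁))
    (Subgroup.inclusion_injective _)
  refine mem_normalizer_of_conj_mem ?_
  rintro _ ⟨t, ht, rfl⟩
  let φ : MulAut ↥T₁ := Subgroup.normalizerMonoidHom T₁ ⟨g, hg⟩
  have h1 := Cfsg.Agent.Lib.FusionGT.thompsonA_map φ
  have h2 : φ t ∈ thompsonSubgroupA ↥T₁ := by
    rw [← h1]
    exact ⟨t, ht, rfl⟩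
  exact ⟨_, h2, rfl⟩

lemma JJ_eq_of_le {T₁ : Subgroup Ω} [Finite T₁] (hQT₁ : Q ≤ T₁) (hV : JJ T₁ ≤ Q) : JJ Q = JJ T₁ := by
  apply le_antisymm
  · refine JJ_le (fun A hA => MA.le_JJ ⟨hA.le.trans hQT₁, hA.comm, fun B hB hBc => ?_⟩)
    obtain ⟨A₀, hA₀⟩ := exists_MA' T₁
    exact (hA₀.max B hB hBc).trans (hA.max A₀ (hA₀.le_JJ.trans hV) hA₀.comm)
  · exact JJ_le (fun A hA => (hA.mono (hA.le_JJ.trans hV) hQT₁).le_JJ)

lemma JJ_afn (a : MulAut Q) : ∀ v ∈ JJ Q, afn a v ∈ JJ Q := by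
  rintro _ ⟨w, hw, rfl⟩
  have h1 := Cfsg.Agent.Lib.FusionGT.thompsonA_map a
  have h2 : a w ∈ thompsonSubgroupA ↥Q := by
    rw [← h1]
    exact ⟨w, hw, rfl⟩
  have e : afn a (Q.subtype w) = ((a w : ↥Q) : Ω) := by
    rw [show Q.subtype w = (w : Ω) from rfl, afn_coe]
  rw [e]
  exact ⟨_, h2, rfl⟩

end JJFin

section TCV

variable [Finite S] [Fact p.Prime]

/-- The key point: `J(N_T(Q)) ≤ Q` forces `J(N_T(Q))` and all its conjugates to be centric in `T`. -/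
theorem tc_V (hS : IsPGroup p S) (hF : F.IsSaturated p) (hT : F.StronglyClosed T) (hQT : Q ≤ T) (hQn : F.IsFullyNormalized Q)
    (hVQ : JJ (normalizerIn T Q) ≤ Q) : TC F T (JJ (normalizerIn T Q)) := by
  have hTS := hT.1
  haveI : Finite T := finite_of_le hTS
  haveI hT₁f : Finite (normalizerIn T Q) := finite_of_le inf_le_left
  set T₁ := normalizerIn T Q with hT₁
  set V := JJ T₁ with hV
  have hVT₁ : V ≤ T₁ := Subgroup.map_subtype_le _
  have hT₁T : T₁ ≤ T := inf_le_left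
  have hVT : V ≤ T := hVT₁.trans hT₁T
  have hVS : V ≤ S := hVT.trans hTS
  have hQS : Q ≤ S := hQT.trans hTS
  have hQT₁ : Q ≤ T₁ := le_normalizerIn hQT
  obtain ⟨P₀, hVP, hPn⟩ := exists_fullyNormalized_conj (F := F) hVS
  obtain ⟨hPc, hPa⟩ := of_fullyNormalized hS hF hPn
  have hPr := receptive_of_fullyCentralized hS hF hPc
  obtain ⟨ρ, hρ, hρN, hρimg⟩ := exists_normalizer_map hS hPa hPr hVP
  have hT₁NV : T₁ ≤ normalizerIn S V := fun t ht => mem_normalizerIn.2 ⟨hTS (hT₁T ht),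
    mem_norm_JJ (mem_normalizer_of_conj_mem (fun z hz => T₁.mul_mem (T₁.mul_mem ht hz) (T₁.inv_mem ht)))⟩
  have hρT₁ : Maps F T₁ ρ := hρ.restrict hT₁NV
  have hρQ : Maps F Q ρ := hρT₁.restrict hQT₁
  have hρV : Maps F V ρ := hρT₁.restrict hVT₁
  have hP₀V : ∀ v ∈ V, ρ v ∈ P₀ := fun v hv => by
    rw [← hρimg]
    exact hρV.mem_img_of_mem hv
  have hP₀S : P₀ ≤ S := hPn.1
  have hP₀T : P₀ ≤ T := by
    rw [← hρimg]
    exact strong_img_le hT hVT hρV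
  set Q₀ := img ρ Q with hQ₀
  have hQ₀T : Q₀ ≤ T := strong_img_le hT hQT hρQ
  have hQ₀S : Q₀ ≤ S := hQ₀T.trans hTS
  have hcard := card_NT_le hS hF hT hQn (IsConj_symm (isConj_iff.2 ⟨ρ, hρQ, rfl⟩) : F.IsConj Q₀ Q)
  have hT₂ : img ρ T₁ ≤ normalizerIn T Q₀ := by
    intro y hy
    obtain ⟨t, ht, rfl⟩ := hρT₁.mem_img.1 hy
    refine mem_normalizerIn.2 ⟨StrongMem hT hT₁T hρT₁ ht, ?_⟩
    haveI : Finite Q₀ := finite_of_le hQ₀S
    refine mem_normalizer_of_conj_mem (fun z hz => ?_)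
    obtain ⟨q, hq, rfl⟩ := hρQ.mem_img.1 hz
    rw [← hρT₁.map_conj ht (hQT₁ hq)]
    exact hρQ.mem_img_of_mem ((Subgroup.mem_normalizer_iff.1 (mem_normalizerIn.1 ht).2 q).1 hq)
  haveI : Finite (normalizerIn T Q₀) := finite_of_le inf_le_left
  have hT₂eq : img ρ T₁ = normalizerIn T Q₀ := Subgroup.eq_of_le_of_card_ge hT₂ (by rw [hρT₁.card_img]; exact hcard)
  set U := centralizerIn T P₀ with hU
  have hUS : U ≤ S := inf_le_left.trans hTS
  have hclaim : ∀ t ∈ T₁, ρ t ∈ U → ρ t ∈ P₀ := by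
    intro t ht h
    have hcomm : ∀ v ∈ V, t * v = v * t := by
      intro v hv
      have e := (mem_centralizerIn.1 h).2 _ (hP₀V v hv)
      rw [← hρT₁.map_mul (hVT₁ hv) ht, ← hρT₁.map_mul ht (hVT₁ hv)] at e
      exact (hρT₁.inj (T₁.mul_mem (hVT₁ hv) ht) (T₁.mul_mem ht (hVT₁ hv)) e).symm
    exact hP₀V t (cent_JJ_le' ht hcomm)
  have hn : Q₀ ≤ Subgroup.normalizer (U : Set Ω) := by
    intro y hy
    obtain ⟨q, hq, rfl⟩ := hρQ.mem_img.1 hy
    have hqNS := hT₁NV (hQT₁ hq)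
    obtain ⟨hqS, hqN⟩ := mem_normalizerIn.1 (hρN q hqNS)
    have hqT : ρ q ∈ T := hQ₀T hy
    haveI : Finite U := finite_of_le hUS
    refine mem_normalizer_of_conj_mem (fun c hc => ?_)
    obtain ⟨hcT, hcc⟩ := mem_centralizerIn.1 hc
    refine mem_centralizerIn.2 ⟨T.mul_mem (T.mul_mem hqT hcT) (T.inv_mem hqT), fun z hz => ?_⟩
    have hqN' : ρ q ∈ Subgroup.normalizer (P₀ : Set Ω) := by
      simpa [hρimg] using hqN
    have hz' : (ρ q)⁻¹ * z * (ρ q)⁻¹⁻¹ ∈ P₀ := (Subgroup.mem_normalizer_iff.1 (Subgroup.inv_mem _ hqN') z).1 hz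
    have e := hcc _ hz'
    have e' : (ρ q)⁻¹ * z * ρ q * c = c * ((ρ q)⁻¹ * z * ρ q) := by simpa using e
    calc z * (ρ q * c * (ρ q)⁻¹) = ρ q * ((ρ q)⁻¹ * z * ρ q * c) * (ρ q)⁻¹ := by group
      _ = ρ q * (c * ((ρ q)⁻¹ * z * ρ q)) * (ρ q)⁻¹ := by rw [e']
      _ = _ := by group
  have hUQ₀ : U ≤ Q₀ := by
    by_contra hUA
    obtain ⟨t'', ht''U, ht''N, ht''A⟩ := Cfsg.Agent.Lib.FusionNormal.exists_mem_normalizer_not_mem hS hUS hQ₀S hn hUA
    have ht''T : t'' ∈ T := (mem_centralizerIn.1 ht''U).1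
    have h1 : t'' ∈ img ρ T₁ := by
      rw [hT₂eq]
      exact mem_normalizerIn.2 ⟨ht''T, ht''N⟩
    obtain ⟨t, ht, rfl⟩ := hρT₁.mem_img.1 h1
    have h2 := hclaim t ht ht''U
    apply ht''A
    rw [← hρimg] at h2
    exact (hρQ.img_mono hVQ) h2
  have hC : centralizerIn T P₀ ≤ P₀ := by
    intro c hc
    have h1 := hUQ₀ hc
    obtain ⟨q, hq, rfl⟩ := hρQ.mem_img.1 h1
    exact hclaim q (hQT₁ hq) hc
  have hTC₀ := tc_of_fn hS hF hT hP₀T hPn hC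
  exact ⟨hVT, fun Q' hQ' => hTC₀.2 Q' (IsConj_trans (IsConj_symm hVP) hQ')⟩

end TCV

end Cfsg.Agent.Lib.AschOdd
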