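/-
AschOddStep: the inductive step and the fixed point property at every fully normalized subgroup centric in `T`.
-/
import Mathlib
import Cfsg.Agent.Lib.AschOddMain

set_option autoImplicit false
set_option linter.unusedSectionVars false
set_option linter.unusedVariables false
set_option linter.unusedSimpArgs false
set_option linter.style.haveILetI false

namespace Cfsg.Agent.Lib.AschOdd

open Cfsg Cfsg.FusionSystem Cfsg.Agent.Lib.FusionCore Cfsg.Agent.Lib.FusionCore2 Cfsg.Agent.Lib.AschCore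
open Cfsg.Agent.Lib.FusionIndexPrime (pEl mem_pEl_of_pow pEl_normal ofMaps maps_ofMaps)
open Cfsg.Agent.Lib.FusionInvariant (Str Inv Frat isInvariantIn_iff str_of_inv_frat maps_sub StrongMem aut_maps strong_img_le)
open Cfsg.Agent.Lib.FusionPPrimeMin (TC)
open Cfsg.Agent.Lib.FusionCompA (fullyNormalized_of_le_normalizer)
open Cfsg.Agent.Lib.FusionJLocal Cfsg.Agent.Lib.AlperinControl

universe u

variable {Ω : Type u} [Group Ω] {S T : Subgroup Ω} {F : FusionSystem S} {E : FusionSystem T} {p : ℕ} {Q : Subgroup Ω}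

/-- The induction measure. -/
noncomputable def mu (T Q : Subgroup Ω) : ℕ := (Nat.card T + 1) * Nat.card (normalizerIn T Q) + Nat.card Q

lemma mu_lt₁ {n a a' b b' : ℕ} (h1 : a < a') (h2 : b ≤ n) : (n + 1) * a + b < (n + 1) * a' + b' := by
  have : (n + 1) * (a + 1) ≤ (n + 1) * a' := Nat.mul_le_mul_left _ h1
  have e : (n + 1) * (a + 1) = (n + 1) * a + n + 1 := by ring
  omega

lemma mu_lt₂ {n a a' b b' : ℕ} (h1 : a ≤ a') (h2 : b < b') : (n + 1) * a + b < (n + 1) * a' + b' := by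
  have : (n + 1) * a ≤ (n + 1) * a' := Nat.mul_le_mul_left _ h1
  omega

lemma card_lt_of_lt' {A B : Subgroup Ω} [Finite B] (h : A < B) : Nat.card A < Nat.card B :=
  lt_of_le_of_ne (Subgroup.card_le_of_le h.le) (fun e => h.ne (Subgroup.eq_of_le_of_card_ge h.le e.ge))

lemma img_idd (R : Subgroup Ω) : img _root_.id R = R := by
  simp [img]

section Step

variable [Finite S] [Fact p.Prime]

/-- The level property in the induction. -/
lemma level_of_IH (hS : IsPGroup p S) (hF : F.IsSaturated p) (hE : E.IsNormalIn F p) {X : Subgroup Ω}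
    (hXle : X ≤ centralizerIn S T) (hXinv : ∀ θ : MulAut ↥(KK S T), Pres F T θ → ∀ x ∈ X, afn θ x ∈ X)
    (hQT : Q ≤ T) (hQne : Q ≠ T)
    (IH : ∀ Q' : Subgroup Ω, Q' ≤ T → F.IsFullyNormalized Q' → centralizerIn T Q' ≤ Q' → mu T Q < mu T Q' → FixAt F E p X Q')
    (R : Subgroup Ω) (f : Ω → Ω) (hf : Maps E R f) (hk : Nat.card (normalizerIn T Q) ≤ Nat.card R) : CExt F X R f := by
  obtain ⟨hEF, hT, hInv, hFr⟩ := isInvariantIn_iff.1 hE.1.2.2
  have hTS := hT.1
  haveI : Finite T := finite_of_le hTS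
  have hTp : IsPGroup p T := hS.to_le hTS
  have hfx : FxL F E p X (Nat.card (normalizerIn T Q)) := by
    refine ⟨hXle, hXinv, fun Q' h1 h2 h3 h4 θ a hW ha hl m hm hmp x hx => IH Q' h1 h2 h3 ?_ θ a hW ha hl m hm hmp x hx⟩
    have hQlt : Nat.card Q < Nat.card T := card_lt_of_lt' (lt_of_le_of_ne hQT hQne)
    rcases eq_or_lt_of_le h1 with h5 | h5
    · subst h5
      haveI : Finite (normalizerIn Q' Q') := finite_of_le inf_le_left
      refine mu_lt₂ (Subgroup.card_le_of_le ?_) hQlt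
      exact fun t ht => mem_normalizerIn.2 ⟨(mem_normalizerIn.1 ht).1, mem_normalizer_of_conj_mem (fun z hz => Q'.mul_mem (Q'.mul_mem (mem_normalizerIn.1 ht).1 hz) (Q'.inv_mem (mem_normalizerIn.1 ht).1))⟩
    · have h6 := Cfsg.Agent.Lib.FusionAlperin.lt_normalizerIn hTp h5
      haveI : Finite (normalizerIn T Q') := finite_of_le inf_le_left
      have h7 : Nat.card Q' < Nat.card (normalizerIn T Q') := card_lt_of_lt' h6
      exact mu_lt₁ (lt_of_le_of_lt h4 h7) (le_of_lt hQlt)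
  exact centralizes_lev hS hF hE hfx hf hk

/-- The case `J(N_T(Q)) ≤ Q`. -/
lemma step_II (hS : IsPGroup p S) (hF : F.IsSaturated p) (hE : E.IsNormalIn F p) {X : Subgroup Ω}
    (hXle : X ≤ centralizerIn S T) (hXinv : ∀ θ : MulAut ↥(KK S T), Pres F T θ → ∀ x ∈ X, afn θ x ∈ X)
    (hJ : FixAt F E p X (JJ T)) (hQT : Q ≤ T) (hQn : F.IsFullyNormalized Q) (hc : centralizerIn T Q ≤ Q)
    (IH : ∀ Q' : Subgroup Ω, Q' ≤ T → F.IsFullyNormalized Q' → centralizerIn T Q' ≤ Q' → mu T Q < mu T Q' → FixAt F E p X Q')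
    (hVQ : JJ (normalizerIn T Q) ≤ Q) : FixAt F E p X Q := by
  obtain ⟨hEF, hT, hInv, hFr⟩ := isInvariantIn_iff.1 hE.1.2.2
  have hTS := hT.1
  haveI : Finite T := finite_of_le hTS
  have hTp : IsPGroup p T := hS.to_le hTS
  haveI hT₁f : Finite (normalizerIn T Q) := finite_of_le inf_le_left
  intro θ a hW ha hl m hm hmp x hx
  have hTCV : TC F T (JJ (normalizerIn T Q)) := tc_V hS hF hT hQT hQn hVQ
  set T₁ := normalizerIn T Q with hT₁
  set V := JJ T₁ with hV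
  have hVT₁ : V ≤ T₁ := Subgroup.map_subtype_le _
  have hT₁T : T₁ ≤ T := inf_le_left
  have hVT : V ≤ T := hVT₁.trans hT₁T
  have hQT₁ : Q ≤ T₁ := le_normalizerIn hQT
  have hVS := hVT.trans hTS
  have hXS : X ≤ S := hXle.trans inf_le_left
  have hZV : Q ⊓ centralizerIn S Q ≤ V := fun z hz => cent_JJ_le' (hQT₁ hz.1) (fun v hv => ((mem_centralizerIn.1 hz.2).2 v (hVQ hv)).symm)
  have hVJ : JJ Q = V := JJ_eq_of_le hQT₁ hVQ
  have haV : ∀ v ∈ V, afn a v ∈ V := by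
    rw [← hVJ]
    exact JJ_afn a
  by_cases hT₁eq : T₁ = T
  · have hVeq : V = JJ T := by rw [hV, hT₁eq]
    have hVn : F.IsFullyNormalized V := by
      refine fullyNormalized_of_le_normalizer hVS (fun g hg => ?_)
      rw [hVeq]
      exact mem_norm_JJ (mem_normalizer_of_conj_mem (fun t ht => sc_conj hT hg ht))
    exact caseII hS hF hE hXle hQT hVQ hZV (Maps.id (sup_le hVS hXS)) (img_idd V) (img_idd X) hVn hTCV (hVeq ▸ hJ) hW ha hl hm hmp haV hx
  · have hlt : T₁ < T := lt_of_le_of_ne hT₁T hT₁eq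
    have hQne : Q ≠ T := by
      rintro rfl
      exact hT₁eq (le_antisymm hT₁T hQT₁)
    have hT₁NV : T₁ ≤ normalizerIn T V := fun t ht => mem_normalizerIn.2 ⟨hT₁T ht,
      mem_norm_JJ (mem_normalizer_of_conj_mem (fun z hz => T₁.mul_mem (T₁.mul_mem ht hz) (T₁.inv_mem ht)))⟩
    haveI : Finite (normalizerIn T V) := finite_of_le inf_le_left
    obtain ⟨P₁, Φ, hΦ, himgV, himgX, hP₁n, hcard⟩ := exists_transport hS hF hE hXle hXinv hVT (k₀ := Nat.card T₁)
      (level_of_IH hS hF hE hXle hXinv hQT hQne IH) (Subgroup.card_le_of_le hT₁NV)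
    have hVP₁ : F.IsConj V P₁ := isConj_iff.2 ⟨Φ, hΦ.restrict le_sup_left, himgV⟩
    have hTC₁ : TC F T P₁ := ⟨strong_img_le hT hVT (hΦ.restrict le_sup_left) |>.trans' (himgV ▸ le_rfl), fun Q' h => hTCV.2 Q' (IsConj_trans hVP₁ h)⟩
    have hC₁ : centralizerIn T P₁ ≤ P₁ := hTCV.2 P₁ hVP₁
    have hmu : mu T Q < mu T P₁ := by
      have h1 : T₁ < normalizerIn T T₁ := Cfsg.Agent.Lib.FusionAlperin.lt_normalizerIn hTp hlt
      have h2 : normalizerIn T T₁ ≤ normalizerIn T V := fun t ht => mem_normalizerIn.2 ⟨(mem_normalizerIn.1 ht).1, mem_norm_JJ (mem_normalizerIn.1 ht).2⟩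
      have h3 : Nat.card T₁ < Nat.card (normalizerIn T V) := card_lt_of_lt' (lt_of_lt_of_le h1 h2)
      exact mu_lt₁ (lt_of_lt_of_le h3 hcard) (Subgroup.card_le_of_le hQT)
    have hfix := IH P₁ hTC₁.1 hP₁n hC₁ hmu
    exact caseII hS hF hE hXle hQT hVQ hZV hΦ himgV himgX hP₁n hTC₁ hfix hW ha hl hm hmp haV hx

/-- The case `J(N_T(Q)) ≰ Q`. -/
lemma step_I (hp2 : p ≠ 2) (hS : IsPGroup p S) (hF : F.IsSaturated p) (hE : E.IsNormalIn F p) {X : Subgroup Ω}
    (hXle : X ≤ centralizerIn S T) (hXinv : ∀ θ : MulAut ↥(KK S T), Pres F T θ → ∀ x ∈ X, afn θ x ∈ X)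
    (hQT : Q ≤ T) (hQn : F.IsFullyNormalized Q) (hc : centralizerIn T Q ≤ Q)
    (IH : ∀ Q' : Subgroup Ω, Q' ≤ T → F.IsFullyNormalized Q' → centralizerIn T Q' ≤ Q' → mu T Q < mu T Q' → FixAt F E p X Q')
    (hVQ : ¬ JJ (normalizerIn T Q) ≤ Q) : FixAt F E p X Q := by
  obtain ⟨hEF, hT, hInv, hFr⟩ := isInvariantIn_iff.1 hE.1.2.2
  have hEs := hE.1.1
  have hTS := hT.1
  haveI : Finite T := finite_of_le hTS
  have hTp : IsPGroup p T := hS.to_le hTS
  haveI hT₁f : Finite (normalizerIn T Q) := finite_of_le inf_le_left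
  have hQS := hQT.trans hTS
  have hTC : TC F T Q := tc_of_fn hS hF hT hQT hQn hc
  intro θ a hW ha hl m hm hmp x hx
  refine fix_of_H hp2 hS hF hE hQT hQn hc (hXle hx) ?_ θ a hW ha hl m hm hmp
  intro θ' a' m' c hW' ha' hl' hm' hmp' hcm hcQ hcV
  set T₁ := normalizerIn T Q with hT₁
  set V := JJ T₁ with hV
  have hVT₁ : V ≤ T₁ := Subgroup.map_subtype_le _
  have hT₁T : T₁ ≤ T := inf_le_left
  have hVT : V ≤ T := hVT₁.trans hT₁T
  have hQT₁ : Q ≤ T₁ := le_normalizerIn hQT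
  have hVS := hVT.trans hTS
  have hXS : X ≤ S := hXle.trans inf_le_left
  have hQne : Q ≠ T := by
    rintro rfl
    exact hVQ hVT
  set W₁ := Q ⊔ V with hW₁
  have hW₁T₁ : W₁ ≤ T₁ := sup_le hQT₁ hVT₁
  have hW₁T : W₁ ≤ T := hW₁T₁.trans hT₁T
  have hW₁S := hW₁T.trans hTS
  have hca : ∀ q ∈ Q, c q = afn a' q := fun q hq => (hcQ q hq).trans (hl' q hq)
  -- `c` preserves `W₁`
  have hcW : ∀ w ∈ W₁, c w ∈ W₁ := hcm.sup_mem
    (fun q hq => by rw [hca q hq]; exact Subgroup.mem_sup_left (afn_mem a' hq))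
    (fun v hv => Subgroup.mem_sup_right (by rw [← hcV]; exact (hcm.restrict le_sup_right).mem_img_of_mem hv))
  -- the extension of `a'` in `E`
  have hQnE : E.IsFullyNormalized Q := Cfsg.Agent.S5153.fullyNormalized_of_stronglyClosed hS hF hEF hT hQT hQn
  have hQRE : E.IsReceptive Q := receptive_of_fullyCentralized hTp hEs (of_fullyNormalized hTp hEs hQnE).1
  have hmaE : Maps E Q (afn a') := (mem_autGroup_iff hQT).1 ha'
  obtain ⟨g, hg, hga⟩ := IsReceptive.ext hQRE hmaE (afn_img a')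
  have hcon : ∀ w ∈ W₁, ∀ q ∈ Q, afn a' (w * q * w⁻¹) = c w * afn a' q * (c w)⁻¹ := by
    intro w hw q hq
    have hwn := (mem_normalizerIn.1 (hW₁T₁ hw)).2
    have hwq := (Subgroup.mem_normalizer_iff.1 hwn q).1 hq
    rw [← hca _ hwq, ← hca q hq]
    exact hcm.map_conj hw (Subgroup.mem_sup_left hq)
  have hW₁Nf : W₁ ≤ Nf T Q (afn a') := fun w hw => mem_Nf.2
    ⟨hW₁T hw, (mem_normalizerIn.1 (hW₁T₁ hw)).2, c w, StrongMem hT hW₁T hcm hw, fun q hq => hcon w hw q hq⟩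
  have hgW : Maps E W₁ g := hg.restrict hW₁Nf
  have hgmem : ∀ w ∈ W₁, g w ∈ W₁ := by
    intro w hw
    have hwn := (mem_normalizerIn.1 (hW₁T₁ hw)).2
    have hgwT : g w ∈ T := hgW.mem hw
    have hcwT : c w ∈ T := StrongMem hT hW₁T hcm hw
    have h1 : (c w)⁻¹ * g w ∈ centralizerIn T Q := by
      refine mem_centralizerIn.2 ⟨T.mul_mem (T.inv_mem hcwT) hgwT, fun y hy => ?_⟩
      have hq : afn a'⁻¹ y ∈ Q := afn_mem a'⁻¹ hy
      have hay : afn a' (afn a'⁻¹ y) = y := afn_afn_inv a' hy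
      have hwq := (Subgroup.mem_normalizer_iff.1 hwn _).1 hq
      have e1 := hg.map_conj (hW₁Nf hw) (hW₁Nf (Subgroup.mem_sup_left hq))
      rw [hga _ hwq, hga _ hq, hcon w hw _ hq, hay] at e1
      have e2 : c w * y * (c w)⁻¹ * g w = g w * y := by rw [e1]; group
      calc y * ((c w)⁻¹ * g w) = (c w)⁻¹ * (c w * y * (c w)⁻¹ * g w) := by group
        _ = (c w)⁻¹ * g w * y := by rw [e2]; group
    have h2 := hc h1
    have e3 : g w = c w * ((c w)⁻¹ * g w) := by group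
    rw [e3]
    exact W₁.mul_mem (hcW w hw) (Subgroup.mem_sup_left h2)
  have himgg : img g W₁ = W₁ := img_eq_of_card hgW hW₁T hW₁T hgmem le_rfl
  have hα₁E := hgW.toAut_mem himgg
  have hα₁v : ∀ w ∈ W₁, afn (hgW.toAut himgg) w = g w := fun w hw => hgW.afn_toAut himgg hw
  have hTCW : TC F T W₁ := Cfsg.Agent.Lib.FusionPPrimeMin.TC.mono hTC le_sup_left hW₁T
  have hT₁NW : T₁ ≤ normalizerIn T W₁ := by
    intro t ht
    have htn := (mem_normalizerIn.1 ht).2
    refine mem_normalizerIn.2 ⟨hT₁T ht, ?_⟩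
    have htm : ∀ w ∈ W₁, t * w * t⁻¹ ∈ W₁ := (Maps.conj (F := F) (hW₁T.trans hTS) (hTS (hT₁T ht))).sup_mem
      (fun q hq => Subgroup.mem_sup_left ((Subgroup.mem_normalizer_iff.1 htn q).1 hq))
      (fun v hv => Subgroup.mem_sup_right ((Subgroup.mem_normalizer_iff.1
        (mem_norm_JJ (mem_normalizer_of_conj_mem (fun z hz => T₁.mul_mem (T₁.mul_mem ht hz) (T₁.inv_mem ht))) : t ∈ Subgroup.normalizer (V : Set Ω)) v).1 hv))
    haveI : Finite W₁ := finite_of_le hW₁S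
    exact mem_normalizer_of_conj_mem htm
  haveI : Finite (normalizerIn T W₁) := finite_of_le inf_le_left
  obtain ⟨P₁, Φ, hΦ, himgW, himgX, hP₁n, hcard⟩ := exists_transport hS hF hE hXle hXinv hW₁T (k₀ := Nat.card T₁)
    (level_of_IH hS hF hE hXle hXinv hQT hQne IH) (Subgroup.card_le_of_le hT₁NW)
  have hW₁P₁ : F.IsConj W₁ P₁ := isConj_iff.2 ⟨Φ, hΦ.restrict le_sup_left, himgW⟩
  have hTC₁ : TC F T P₁ := ⟨himgW ▸ strong_img_le hT hW₁T (hΦ.restrict le_sup_left), fun Q' h => hTCW.2 Q' (IsConj_trans hW₁P₁ h)⟩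
  have hC₁ : centralizerIn T P₁ ≤ P₁ := hTCW.2 P₁ hW₁P₁
  have hmu : mu T Q < mu T P₁ := by
    have hQW : Q < W₁ := lt_of_le_of_ne le_sup_left (fun e => hVQ (by rw [e]; exact le_sup_right))
    haveI : Finite W₁ := finite_of_le hW₁S
    have h1 : Nat.card Q < Nat.card W₁ := card_lt_of_lt' hQW
    have h2 : Nat.card P₁ = Nat.card W₁ := by
      rw [← himgW]
      exact (hΦ.restrict le_sup_left).card_img
    exact mu_lt₂ ((Subgroup.card_le_of_le hT₁NW).trans hcard) (h2 ▸ h1)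
  have hfix := IH P₁ hTC₁.1 hP₁n hC₁ hmu
  have hcext := cext_of_transport hS hF hE hXle hW₁T hΦ himgW himgX hP₁n hTC₁ hfix hα₁E
  have hcext₂ : CExt F X Q (afn θ') := cext_congr (cext_restrict hcext le_sup_left) (fun q hq => by
    rw [hα₁v q (Subgroup.mem_sup_left hq), hga q hq]
    exact (hl' q hq).symm)
  have hfc := (of_fullyNormalized hS hF hQn).1
  exact fix_of_cext hS hF hQS hfc hW' hm' hmp' (hXle.trans (centralizerIn_anti hQT)) hcext₂ x hx

/-- The inductive step. -/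
theorem step (hp2 : p ≠ 2) (hS : IsPGroup p S) (hF : F.IsSaturated p) (hE : E.IsNormalIn F p) {X : Subgroup Ω}
    (hXle : X ≤ centralizerIn S T) (hXinv : ∀ θ : MulAut ↥(KK S T), Pres F T θ → ∀ x ∈ X, afn θ x ∈ X)
    (hJ : FixAt F E p X (JJ T)) (hQT : Q ≤ T) (hQn : F.IsFullyNormalized Q) (hc : centralizerIn T Q ≤ Q)
    (IH : ∀ Q' : Subgroup Ω, Q' ≤ T → F.IsFullyNormalized Q' → centralizerIn T Q' ≤ Q' → mu T Q < mu T Q' → FixAt F E p X Q') :
    FixAt F E p X Q := by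
  by_cases hVQ : JJ (normalizerIn T Q) ≤ Q
  · exact step_II hS hF hE hXle hXinv hJ hQT hQn hc IH hVQ
  · exact step_I hp2 hS hF hE hXle hXinv hQT hQn hc IH hVQ

/-- **The fixed point property** at every fully normalized subgroup centric in `T`. -/
theorem main_fix (hp2 : p ≠ 2) (hS : IsPGroup p S) (hF : F.IsSaturated p) (hE : E.IsNormalIn F p) {X : Subgroup Ω}
    (hXle : X ≤ centralizerIn S T) (hXinv : ∀ θ : MulAut ↥(KK S T), Pres F T θ → ∀ x ∈ X, afn θ x ∈ X)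
    (hJ : FixAt F E p X (JJ T)) : ∀ Q : Subgroup Ω, Q ≤ T → F.IsFullyNormalized Q → centralizerIn T Q ≤ Q → FixAt F E p X Q := by
  have hTS : T ≤ S := (isInvariantIn_iff.1 hE.1.2.2).2.1.1
  haveI : Finite T := finite_of_le hTS
  have hbd : ∀ Q : Subgroup Ω, Q ≤ T → mu T Q ≤ (Nat.card T + 1) * Nat.card T + Nat.card T := by
    intro Q hQ
    refine Nat.add_le_add (Nat.mul_le_mul_left _ ?_) (Subgroup.card_le_of_le hQ)
    exact Subgroup.card_le_of_le inf_le_left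
  have key : ∀ n : ℕ, ∀ Q : Subgroup Ω, (Nat.card T + 1) * Nat.card T + Nat.card T - mu T Q = n → Q ≤ T → F.IsFullyNormalized Q →
      centralizerIn T Q ≤ Q → FixAt F E p X Q := by
    intro n
    induction n using Nat.strong_induction_on with
    | _ n ih =>
      intro Q hn hQT hQn hc
      refine step hp2 hS hF hE hXle hXinv hJ hQT hQn hc (fun Q' h1 h2 h3 h4 => ?_)
      have h5 := hbd Q' h1
      have h6 := hbd Q hQT
      exact ih _ (by omega) Q' rfl h1 h2 h3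
  exact fun Q h1 h2 h3 => key _ Q rfl h1 h2 h3

end Step

end Cfsg.Agent.Lib.AschOdd
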