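/-
AschOddFin: the theorem of Aschbacher: for `E ⊴ F` with `C_F(E)` trivial modulo `T`, the quotient `T C_S(T) / T` is abelian, and `C_S(T) ≤ T` for `p` odd.
-/
import Mathlib
import Cfsg.Agent.Lib.AschOddStep
import Cfsg.Agent.Lib.AschStrong

set_option autoImplicit false
set_option linter.unusedSectionVars false
set_option linter.unusedVariables false
set_option linter.unusedSimpArgs false
set_option linter.style.haveILetI false

namespace Cfsg.Agent.Lib.AschOdd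

open Cfsg Cfsg.FusionSystem Cfsg.Agent.Lib.FusionCore Cfsg.Agent.Lib.FusionCore2 Cfsg.Agent.Lib.AschCore
open Cfsg.Agent.Lib.FusionIndexPrime (pEl mem_pEl_of_pow pEl_normal ofMaps maps_ofMaps)
open Cfsg.Agent.Lib.FusionInvariant (Str Inv Frat isInvariantIn_iff str_of_inv_frat maps_sub StrongMem aut_maps strong_img_le)
open Cfsg.Agent.Lib.FusionPPrimeMin (TC)
open Cfsg.Agent.Lib.FusionCompA (fullyNormalized_of_le_normalizer sup_ind str_conj)
open Cfsg.Agent.Lib.FusionJLocal Cfsg.Agent.Lib.AlperinControl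
open scoped commutatorElement

universe u

variable {Ω : Type u} [Group Ω] {S T : Subgroup Ω} {F : FusionSystem S} {E : FusionSystem T} {p : ℕ} {Q : Subgroup Ω}

section Fin

variable [Finite S]

/-- The subgroup of elements of `C_S(T)` fixed by the relevant automorphisms at `J`. -/
def XX (F : FusionSystem S) (E : FusionSystem T) (p : ℕ) (J : Subgroup Ω) (hJT : J ≤ T) (hTS : T ≤ S) : Subgroup Ω where
  carrier := {x | x ∈ centralizerIn S T ∧ ∀ (θ : MulAut ↥(KK S J)) (a : MulAut J), Wk F J θ → a ∈ E.autGroup J → Lifts θ a →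
    ∀ m : ℕ, θ ^ m = 1 → m.Coprime p → afn θ x = x}
  mul_mem' := by
    rintro x y ⟨hx, hx'⟩ ⟨hy, hy'⟩
    refine ⟨Subgroup.mul_mem _ hx hy, fun θ a hW ha hl m hm hmp => ?_⟩
    rw [(hW.toPres.maps (hJT.trans hTS)).map_mul (Y_le_KK (centralizerIn_anti hJT hx)) (Y_le_KK (centralizerIn_anti hJT hy)),
      hx' θ a hW ha hl m hm hmp, hy' θ a hW ha hl m hm hmp]
  one_mem' := ⟨Subgroup.one_mem _, fun θ a hW ha hl m hm hmp => (hW.toPres.maps (hJT.trans hTS)).map_one⟩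
  inv_mem' := by
    rintro x ⟨hx, hx'⟩
    refine ⟨Subgroup.inv_mem _ hx, fun θ a hW ha hl m hm hmp => ?_⟩
    rw [(hW.toPres.maps (hJT.trans hTS)).map_inv (Y_le_KK (centralizerIn_anti hJT hx)), hx' θ a hW ha hl m hm hmp]

variable [Fact p.Prime]

lemma XX_inv (hS : IsPGroup p S) (hF : F.IsSaturated p) (hE : E.IsNormalIn F p) (hJT : JJ T ≤ T) (hTS : T ≤ S) :
    ∀ θa : MulAut ↥(KK S T), Pres F T θa → ∀ x ∈ XX F E p (JJ T) hJT hTS, afn θa x ∈ XX F E p (JJ T) hJT hTS := by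
  intro θa hθa x hx
  obtain ⟨hEF, hT, hInv, hFr⟩ := isInvariantIn_iff.1 hE.1.2.2
  have hStr : Str F E := str_of_inv_frat hT @hInv @hFr
  haveI : Finite T := finite_of_le hTS
  have hJS : JJ T ≤ S := hJT.trans hTS
  have hJn : F.IsFullyNormalized (JJ T) := fullyNormalized_of_le_normalizer hJS
    (fun g hg => mem_norm_JJ (mem_normalizer_of_conj_mem (fun t ht => sc_conj hT hg ht)))
  have hfc := (of_fullyNormalized hS hF hJn).1
  have hJR := receptive_of_fullyCentralized hS hF hfc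
  have hM := hθa.maps hTS
  obtain ⟨c, hc, hlc⟩ := exists_res hTS hθa
  have hJK : JJ T ≤ KK S T := hJT.trans le_sup_left
  have hθaJ : ∀ v ∈ JJ T, afn θa v ∈ JJ T := fun v hv => by
    rw [hlc v (hJT hv)]
    exact JJ_afn c v hv
  have hbm : Maps F (JJ T) (afn θa) := hM.restrict hJK
  have himg : img (afn θa) (JJ T) = JJ T := img_eq_of_card hbm hJS hJS hθaJ le_rfl
  obtain ⟨bh, hbh, hbh1⟩ := exists_pres hJS hJR hbm himg
  have hbF := hbm.toAut_mem himg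
  have hbv : ∀ v ∈ JJ T, afn (hbm.toAut himg) v = afn bh v := fun v hv => by rw [hbm.afn_toAut himg hv, hbh1 v hv]
  generalize hbm.toAut himg = b at hbF hbv
  have hbi := hbh.inv hJS
  have hbiv : ∀ v ∈ JJ T, afn b⁻¹ v = afn bh⁻¹ v := fun v hv => by
    have h1 := afn_mem b⁻¹ hv
    have h2 := afn_afn_inv b hv
    rw [hbv _ h1] at h2
    have h3 := afn_inv_afn bh (Q_le_KK h1)
    rw [h2] at h3
    exact h3.symm
  obtain ⟨hxC, hxfix⟩ := hx
  have hxY : x ∈ centralizerIn S (JJ T) := centralizerIn_anti hJT hxC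
  have hxK : x ∈ KK S (JJ T) := Y_le_KK hxY
  have hxKT : x ∈ KK S T := Y_le_KK hxC
  refine ⟨hθa.memY hTS hxC, fun θ a hW ha hl m hm hmp => ?_⟩
  -- conjugating `θ`
  have hθ' : Wk F (JJ T) (bh⁻¹ * θ * bh) := by
    have := Wk.conj hJS hbi hW
    rwa [inv_inv] at this
  have hl' : Lifts (bh⁻¹ * θ * bh) (b⁻¹ * a * b) := by
    intro v hv
    have hv' : afn bh v ∈ JJ T := by rw [hbh1 v hv]; exact hθaJ v hv
    have hbvv : afn b v ∈ JJ T := afn_mem b hv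
    rw [afn_mul _ _ (Q_le_KK hv), afn_mul _ _ (Q_le_KK hv'), afn_mul _ _ hv, afn_mul _ _ hbvv, ← hbv v hv, hl _ hbvv,
      hbiv _ (afn_mem a hbvv)]
  have hm' : (bh⁻¹ * θ * bh) ^ m = 1 := by
    have := conj_pow (a := bh⁻¹) (b := θ) (i := m)
    rw [inv_inv] at this
    rw [this, hm]
    simp
  have ha' : b⁻¹ * a * b ∈ E.autGroup (JJ T) := by
    have := str_conj hStr hJT hJS ha (Subgroup.inv_mem _ hbF)
    rwa [inv_inv] at this
  have hfx' := hxfix _ _ hθ' ha' hl' m hm' hmp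
  have hbxK : afn bh x ∈ KK S (JJ T) := Y_le_KK (hbh.memY hJS hxY)
  have hbx : afn θ (afn bh x) = afn bh x := by
    rw [afn_mul _ _ hxK, afn_mul _ _ hbxK] at hfx'
    have e := congrArg (afn bh) hfx'
    rwa [afn_afn_inv bh (afn_mem θ hbxK)] at e
  -- the focal element
  obtain ⟨D, hD⟩ := exists_centralizerSystem (F := F) hJS
  have hzK : Subgroup.zpowers x ≤ KK S T := Subgroup.zpowers_le.2 hxKT
  have hΞK : Subgroup.zpowers x ⊔ JJ T ≤ KK S T := sup_le hzK hJK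
  have hθaΞ : Maps F (Subgroup.zpowers x ⊔ JJ T) (afn θa) := hM.restrict hΞK
  have hθax : afn θa x ∈ centralizerIn S (JJ T) := centralizerIn_anti hJT (hθa.memY hTS hxC)
  have hK : ∀ y ∈ Subgroup.zpowers x ⊔ JJ T, afn θa y ∈ KK S (JJ T) := hθaΞ.sup_mem
    (fun y hy => by
      obtain ⟨n, rfl⟩ := Subgroup.mem_zpowers_iff.1 hy
      rw [(hθaΞ.restrict le_sup_left).map_zpow (Subgroup.mem_zpowers x)]
      exact Subgroup.zpow_mem _ (Y_le_KK hθax) n)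
    (fun y hy => Q_le_KK (hθaJ y hy))
  have hφ : Maps F (Subgroup.zpowers x ⊔ JJ T) (afn bh⁻¹ ∘ afn θa) := hθaΞ.comp (hbi.maps hJS) hK
  generalize hφdef : afn bh⁻¹ ∘ afn θa = φ at hφ
  have hφJ : ∀ v ∈ JJ T, φ v = v := fun v hv => by
    rw [← hφdef]
    simp only [Function.comp]
    rw [← hbh1 v hv, afn_inv_afn bh (Q_le_KK hv)]
  have hzY : Subgroup.zpowers x ≤ centralizerIn S (JJ T) := Subgroup.zpowers_le.2 hxY
  have hzΞ : Subgroup.zpowers x ≤ Subgroup.zpowers x ⊔ JJ T := le_sup_left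
  have hJΞ : JJ T ≤ Subgroup.zpowers x ⊔ JJ T := le_sup_right
  have hmD : Maps D (Subgroup.zpowers x) φ := by
    refine (maps_cent hD).2 ⟨hφ.restrict hzΞ, hzY, fun y hy => ?_, φ, hφ, fun _ _ => rfl, hφJ⟩
    refine mem_centralizerIn.2 ⟨hφ.mem (hzΞ hy), fun q hq => ?_⟩
    have e := (mem_centralizerIn.1 (hzY hy)).2 q hq
    have e1 := congrArg φ e
    rw [hφ.map_mul (hJΞ hq) (hzΞ hy), hφ.map_mul (hzΞ hy) (hJΞ hq), hφJ q hq] at e1
    exact e1
  have hfoc := focal_gen hmD (Subgroup.mem_zpowers x)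
  have hφx : φ x = x * (x⁻¹ * φ x) := by group
  have hbf₀ := Pres.focal_inv hJS hbh hD _ hfoc
  have hbf₀Y := focal_le D hbf₀
  have hf₀Y := focal_le D hfoc
  have hfix₀ := core_fix hS hF hJS hfc hD hW hm hmp _ hbf₀
  have hθae : afn θa x = afn bh x * afn bh (x⁻¹ * φ x) := by
    have e : afn bh (φ x) = afn θa x := by
      rw [← hφdef]
      simp only [Function.comp]
      exact afn_afn_inv bh (Y_le_KK hθax)
    rw [← e, ← (hbh.maps hJS).map_mul hxK (Y_le_KK hf₀Y), ← hφx]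
  rw [hθae, (hW.toPres.maps hJS).map_mul hbxK (Y_le_KK hbf₀Y), hbx, hfix₀]

/-- The odd part of the theorem. -/
theorem centralizer_le_of_odd (hp2 : p ≠ 2) (hS : IsPGroup p S) (hF : F.IsSaturated p) (hE : E.IsNormalIn F p) (hCC : CC F E ≤ T) :
    centralizerIn S T ≤ T := by
  obtain ⟨hEF, hT, hInv, hFr⟩ := isInvariantIn_iff.1 hE.1.2.2
  have hTS := hT.1
  haveI : Finite T := finite_of_le hTS
  have hJT : JJ T ≤ T := Subgroup.map_subtype_le _
  have hJS := hJT.trans hTS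
  have hJn : F.IsFullyNormalized (JJ T) := fullyNormalized_of_le_normalizer hJS
    (fun g hg => mem_norm_JJ (mem_normalizer_of_conj_mem (fun t ht => sc_conj hT hg ht)))
  have hcJ : centralizerIn T (JJ T) ≤ JJ T := fun c hc =>
    cent_JJ_le' (mem_centralizerIn.1 hc).1 (fun v hv => ((mem_centralizerIn.1 hc).2 v hv).symm)
  have hTN : T ≤ Subgroup.normalizer (JJ T : Set Ω) := fun t ht =>
    mem_norm_JJ (mem_normalizer_of_conj_mem (fun z hz => T.mul_mem (T.mul_mem ht hz) (T.inv_mem ht)))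
  have hXle : XX F E p (JJ T) hJT hTS ≤ centralizerIn S T := fun x hx => hx.1
  have hXinv := XX_inv hS hF hE hJT hTS
  have hJfix : FixAt F E p (XX F E p (JJ T) hJT hTS) (JJ T) := fun θ a hW ha hl m hm hmp x hx => hx.2 θ a hW ha hl m hm hmp
  have hfx : Fx F E p (XX F E p (JJ T) hJT hTS) := ⟨hXle, hXinv, fun Q h1 h2 h3 θ a hW ha hl m hm hmp =>
    main_fix hp2 hS hF hE hXle hXinv hJfix Q h1 h2 h3 θ a hW ha hl m hm hmp⟩
  have hfam : Fam F E (XX F E p (JJ T) hJT hTS) := ⟨hXle, fun P f hf => centralizes_of hS hF hE hfx hf⟩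
  have hXT : XX F E p (JJ T) hJT hTS ≤ T := (fam_le_CC hfam).trans hCC
  intro a ha
  obtain ⟨z, hz, hzC, hzfix⟩ := stepA hS hF hE hJT hJn hcJ hTN ha
  have h1 : a * z ∈ XX F E p (JJ T) hJT hTS :=
    ⟨Subgroup.mul_mem _ ha hzC, fun θ b hW hb hl m hm hmp => hzfix θ b m hW hb hl hm hmp⟩
  have h2 := hXT h1
  have h3 : z ∈ T := hJT hz.1
  have e : a = a * z * z⁻¹ := by group
  rw [e]
  exact T.mul_mem h2 (T.inv_mem h3)

/-- The commutator part of the theorem. -/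
theorem comm_le_of_CC (hS : IsPGroup p S) (hF : F.IsSaturated p) (hE : E.IsNormalIn F p) (hCC : CC F E ≤ T) :
    ⁅T ⊔ centralizerIn S T, T ⊔ centralizerIn S T⁆ ≤ T := by
  obtain ⟨hEF, hT, hInv, hFr⟩ := isInvariantIn_iff.1 hE.1.2.2
  have hTS := hT.1
  obtain ⟨D, hD⟩ := exists_centralizerSystem (F := F) hTS
  have hfoc : D.focalSubgroup ≤ T := (focal_le_CC hS hF hE hD).trans hCC
  have hcomm : ∀ x ∈ centralizerIn S T, ∀ y ∈ centralizerIn S T, ⁅x, y⁆ ∈ T := by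
    intro x hx y hy
    have hm : Maps D (Subgroup.zpowers x⁻¹) (fun u => y * u * y⁻¹) :=
      Maps.conj (Subgroup.zpowers_le.2 (Subgroup.inv_mem _ hx)) hy
    have h := hfoc (focal_gen hm (Subgroup.mem_zpowers x⁻¹))
    have e : ⁅x, y⁆ = x⁻¹⁻¹ * (y * x⁻¹ * y⁻¹) := by
      rw [commutatorElement_def]
      group
    rw [e]
    exact h
  have hdec : ∀ g ∈ T ⊔ centralizerIn S T, ∃ t ∈ T, ∃ c ∈ centralizerIn S T, g = t * c := by
    refine sup_ind (fun x hx => ⟨x, hx, 1, Subgroup.one_mem _, (mul_one x).symm⟩)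
      (fun x hx => ⟨1, Subgroup.one_mem _, x, hx, (one_mul x).symm⟩) ?_ ?_ ⟨1, Subgroup.one_mem _, 1, Subgroup.one_mem _, (one_mul 1).symm⟩
    · rintro _ - _ - ⟨t₁, ht₁, c₁, hc₁, rfl⟩ ⟨t₂, ht₂, c₂, hc₂, rfl⟩
      refine ⟨t₁ * t₂, T.mul_mem ht₁ ht₂, c₁ * c₂, Subgroup.mul_mem _ hc₁ hc₂, ?_⟩
      have h21 : t₂ * c₁ = c₁ * t₂ := (mem_centralizerIn.1 hc₁).2 t₂ ht₂
      calc t₁ * c₁ * (t₂ * c₂) = t₁ * (c₁ * t₂) * c₂ := by group
        _ = t₁ * (t₂ * c₁) * c₂ := by rw [h21]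
        _ = _ := by group
    · rintro _ - ⟨t, ht, c, hc, rfl⟩
      refine ⟨t⁻¹, T.inv_mem ht, c⁻¹, Subgroup.inv_mem _ hc, ?_⟩
      have h : Commute t c := (mem_centralizerIn.1 hc).2 t ht
      rw [mul_inv_rev]
      exact (h.inv_inv).eq.symm
  rw [Subgroup.commutator_le]
  intro g₁ h₁ g₂ h₂
  obtain ⟨t₁, ht₁, c₁, hc₁, rfl⟩ := hdec g₁ h₁
  obtain ⟨t₂, ht₂, c₂, hc₂, rfl⟩ := hdec g₂ h₂
  have h21 : t₂ * c₁ = c₁ * t₂ := (mem_centralizerIn.1 hc₁).2 t₂ ht₂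
  have h12 : Commute t₁ c₂ := (mem_centralizerIn.1 hc₂).2 t₁ ht₁
  have h12' : t₁⁻¹ * c₂⁻¹ = c₂⁻¹ * t₁⁻¹ := h12.inv_inv.eq
  have e : ⁅t₁ * c₁, t₂ * c₂⁆ = t₁ * t₂ * ⁅c₁, c₂⁆ * t₁⁻¹ * t₂⁻¹ := by
    calc ⁅t₁ * c₁, t₂ * c₂⁆ = t₁ * (c₁ * t₂) * c₂ * c₁⁻¹ * (t₁⁻¹ * c₂⁻¹) * t₂⁻¹ := by
          rw [commutatorElement_def]
          group
      _ = t₁ * (t₂ * c₁) * c₂ * c₁⁻¹ * (c₂⁻¹ * t₁⁻¹) * t₂⁻¹ := by rw [h21, h12']
      _ = _ := by
          rw [commutatorElement_def]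
          group
  rw [e]
  exact T.mul_mem (T.mul_mem (T.mul_mem (T.mul_mem ht₁ ht₂) (hcomm c₁ hc₁ c₂ hc₂)) (T.inv_mem ht₁)) (T.inv_mem ht₂)

end Fin

end Cfsg.Agent.Lib.AschOdd
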