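import Mathlib
import Cfsg.Prelude.Def_Sporadic_a

set_option autoImplicit false

namespace Cfsg.Agent.Lib.SteinerDesign

open Cfsg

variable {α : Type*} [Fintype α] [DecidableEq α]

/-- The number of members of `B` containing `I` and disjoint from `J`. -/
noncomputable def blockCount (B : Set (Finset α)) (I J : Finset α) : ℕ :=
  {c : Finset α | c ∈ B ∧ I ⊆ c ∧ Disjoint c J}.ncard

/-- The recurrence of the Leech triangle. -/
theorem blockCount_recurrence (B : Set (Finset α)) (I J : Finset α) (x : α) :
    blockCount B I J = blockCount B I (insert x J) + blockCount B (insert x I) J := by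
  classical
  unfold blockCount
  rw [← Set.ncard_union_eq _ (Set.toFinite _) (Set.toFinite _)]
  · congr 1
    ext c
    simp only [Set.mem_ofPred_eq, Set.mem_union, Finset.insert_subset_iff,
      Finset.disjoint_insert_right]
    by_cases hx : x ∈ c
    · simp [hx]
    · simp [hx]
  · rw [Set.disjoint_left]
    rintro c ⟨_, _, h1⟩ ⟨_, h2, _⟩
    have hx : x ∈ c := h2 (Finset.mem_insert_self x I)
    have : x ∉ c := fun h => (Finset.disjoint_left.mp h1 h) (Finset.mem_insert_self x J)
    exact this hx

/-- Number of `t`-subsets of `u` containing `I`. -/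
theorem card_supersets (I u : Finset α) (hI : I ⊆ u) (t : ℕ) (ht : I.card ≤ t) :
    ((u.powersetCard t).filter (fun s => I ⊆ s)).card
      = Nat.choose (u.card - I.card) (t - I.card) := by
  have h : ((u.powersetCard t).filter (fun s => I ⊆ s)).card
      = ((u \ I).powersetCard (t - I.card)).card := by
    apply Finset.card_nbij' (fun s => s \ I) (fun s => s ∪ I)
    · intro s hs
      simp only [Finset.mem_coe, Finset.mem_filter, Finset.mem_powersetCard] at hs
      simp only [Finset.mem_coe, Finset.mem_powersetCard, Set.mem_preimage]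
      obtain ⟨⟨h1, h2⟩, h3⟩ := hs
      refine ⟨Finset.sdiff_subset_sdiff h1 (le_refl _), ?_⟩
      rw [Finset.card_sdiff_of_subset h3, h2]
    · intro s hs
      simp only [Finset.mem_coe, Finset.mem_powersetCard] at hs
      simp only [Finset.mem_coe, Finset.mem_filter, Finset.mem_powersetCard, Set.mem_preimage]
      obtain ⟨h1, h2⟩ := hs
      refine ⟨⟨Finset.union_subset (h1.trans Finset.sdiff_subset) hI, ?_⟩,
        Finset.subset_union_right⟩
      have hd : Disjoint s I := by
        rw [Finset.disjoint_left]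
        intro a ha haI
        have := h1 ha
        simp only [Finset.mem_sdiff] at this
        exact this.2 haI
      rw [Finset.card_union_of_disjoint hd, h2]
      omega
    · intro s hs
      simp only [Finset.mem_coe, Finset.mem_filter, Finset.mem_powersetCard] at hs
      exact Finset.sdiff_union_of_subset hs.2
    · intro s hs
      simp only [Finset.mem_coe, Finset.mem_powersetCard] at hs
      obtain ⟨h1, h2⟩ := hs
      ext a
      simp only [Finset.mem_sdiff, Finset.mem_union]
      constructor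
      · rintro ⟨h | h, h'⟩
        · exact h
        · exact absurd h h'
      · intro h
        refine ⟨Or.inl h, ?_⟩
        have := h1 h
        simp only [Finset.mem_sdiff] at this
        exact this.2
  rw [h, Finset.card_powersetCard, Finset.card_sdiff_of_subset hI]

/-- Double counting: the number of blocks through an `i`-subset (`i ≤ t`). -/
theorem blockCount_mul_choose {t k : ℕ} {B : Set (Finset α)} (hB : IsSteinerSystem t k B)
    (I : Finset α) (hI : I.card ≤ t) :
    blockCount B I ∅ * Nat.choose (k - I.card) (t - I.card)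
      = Nat.choose (Fintype.card α - I.card) (t - I.card) := by
  classical
  let Cs : Finset (Finset α) := Finset.univ.filter (fun c => c ∈ B ∧ I ⊆ c)
  let Ss : Finset (Finset α) := ((Finset.univ : Finset α).powersetCard t).filter (fun s => I ⊆ s)
  have hCs : blockCount B I ∅ = Cs.card := by
    unfold blockCount
    rw [← Set.ncard_coe_finset]
    congr 1
    ext c
    simp [Cs]
  have hSs : Ss.card = Nat.choose (Fintype.card α - I.card) (t - I.card) := by
    have := card_supersets I (Finset.univ : Finset α) (Finset.subset_univ _) t hI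
    simpa [Ss] using this
  have hdc := Finset.sum_card_bipartiteAbove_eq_sum_card_bipartiteBelow
    (s := Cs) (t := Ss) (fun (c s : Finset α) => s ⊆ c)
  have h1 : ∀ c ∈ Cs, (Finset.bipartiteAbove (fun (c s : Finset α) => s ⊆ c) Ss c).card
      = Nat.choose (k - I.card) (t - I.card) := by
    intro c hc
    simp only [Cs, Finset.mem_filter, Finset.mem_univ, true_and] at hc
    have hk : c.card = k := hB.1 c hc.1
    have := card_supersets I c hc.2 t hI
    rw [hk] at this
    rw [← this]
    congr 1
    ext s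
    simp only [Finset.bipartiteAbove, Ss, Finset.mem_filter, Finset.mem_powersetCard]
    constructor
    · rintro ⟨⟨⟨_, h2⟩, h3⟩, h4⟩
      exact ⟨⟨h4, h2⟩, h3⟩
    · rintro ⟨⟨h1, h2⟩, h3⟩
      exact ⟨⟨⟨Finset.subset_univ _, h2⟩, h3⟩, h1⟩
  have h2 : ∀ s ∈ Ss, (Finset.bipartiteBelow (fun (c s : Finset α) => s ⊆ c) Cs s).card = 1 := by
    intro s hs
    simp only [Ss, Finset.mem_filter, Finset.mem_powersetCard] at hs
    obtain ⟨b, ⟨hb, hsb⟩, huniq⟩ := hB.2 s hs.1.2
    rw [Finset.card_eq_one]
    refine ⟨b, ?_⟩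
    ext c
    simp only [Finset.bipartiteBelow, Cs, Finset.mem_filter, Finset.mem_univ, true_and,
      Finset.mem_singleton]
    constructor
    · rintro ⟨⟨hc, _⟩, hsc⟩
      exact huniq c ⟨hc, hsc⟩
    · rintro rfl
      exact ⟨⟨hb, hs.2.trans hsb⟩, hsb⟩
  rw [Finset.sum_congr rfl h1, Finset.sum_congr rfl h2] at hdc
  simp only [Finset.sum_const, smul_eq_mul, mul_one] at hdc
  rw [hCs, hdc, hSs]

/-- Through a subset of a block containing at least `t` points passes only that block. -/
theorem blockCount_of_le {t k : ℕ} {B : Set (Finset α)} (hB : IsSteinerSystem t k B)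
    {b : Finset α} (hb : b ∈ B) (I : Finset α) (hIb : I ⊆ b) (hI : t ≤ I.card) :
    blockCount B I ∅ = 1 := by
  obtain ⟨s, hsI, hs⟩ := Finset.exists_subset_card_eq hI
  obtain ⟨b', ⟨hb', hsb'⟩, huniq⟩ := hB.2 s hs
  have hbb' : b = b' := huniq b ⟨hb, hsI.trans hIb⟩
  subst hbb'
  unfold blockCount
  rw [Set.ncard_eq_one]
  refine ⟨b, ?_⟩
  ext c
  simp only [Set.mem_ofPred_eq, Finset.disjoint_empty_right, and_true, Set.mem_singleton_iff]
  constructor
  · rintro ⟨hc, hIc⟩
    exact huniq c ⟨hc, hsI.trans hIc⟩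
  · rintro rfl
    exact ⟨hb, hIb⟩

/-- The triangle built from the first row of block counts. -/
def tri (lam : ℕ → ℤ) : ℕ → ℕ → ℤ
  | i, 0 => lam i
  | i, j + 1 => tri lam i j - tri lam (i + 1) j

/-- The Leech triangle: the number of blocks containing `I` and missing `J`, for disjoint subsets
of a block, depends only on the sizes. -/
theorem blockCount_eq_tri {B : Set (Finset α)} (lam : ℕ → ℤ) {b : Finset α}
    (hlam : ∀ I, I ⊆ b → (blockCount B I ∅ : ℤ) = lam I.card) :
    ∀ (j : ℕ) (J I : Finset α), J.card = j → I ⊆ b → J ⊆ b → Disjoint I J →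
      (blockCount B I J : ℤ) = tri lam I.card j := by
  intro j
  induction j with
  | zero =>
    intro J I hJ hI _ _
    have : J = ∅ := Finset.card_eq_zero.mp hJ
    subst this
    simpa [tri] using hlam I hI
  | succ j ih =>
    intro J I hJ hI hJb hd
    obtain ⟨x, J', hx, rfl, hJ'⟩ := Finset.card_eq_succ.mp hJ
    have hrec := blockCount_recurrence B I J' x
    have hxb : x ∈ b := hJb (Finset.mem_insert_self _ _)
    have hJ'b : J' ⊆ b := fun a ha => hJb (Finset.mem_insert_of_mem ha)
    have hxI : x ∉ I := fun h =>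
      (Finset.disjoint_left.mp hd h) (Finset.mem_insert_self _ _)
    have hd' : Disjoint I J' := Finset.disjoint_of_subset_right (Finset.subset_insert _ _) hd
    have hd'' : Disjoint (insert x I) J' := by
      rw [Finset.disjoint_insert_left]
      exact ⟨hx, hd'⟩
    have h1 := ih J' I hJ' hI hJ'b hd'
    have h2 := ih J' (insert x I) hJ' (Finset.insert_subset hxb hI) hJ'b hd''
    rw [Finset.card_insert_of_notMem hxI] at h2
    simp only [tri]
    rw [← h1, ← h2]
    push_cast [hrec]
    ring

/-- Intersection count: a block `c` different from `b` shows that the triangle entry for the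
intersection is positive. -/
theorem tri_inter_pos {B : Set (Finset α)} (lam : ℕ → ℤ) {b c : Finset α}
    (hlam : ∀ I, I ⊆ b → (blockCount B I ∅ : ℤ) = lam I.card) (hc : c ∈ B) :
    0 < tri lam (b ∩ c).card (b.card - (b ∩ c).card) := by
  have hI : b ∩ c ⊆ b := Finset.inter_subset_left
  have hJ : b \ c ⊆ b := Finset.sdiff_subset
  have hd : Disjoint (b ∩ c) (b \ c) := by
    rw [Finset.disjoint_left]
    intro a ha hb'
    simp only [Finset.mem_inter, Finset.mem_sdiff] at ha hb'
    exact hb'.2 ha.2
  have hcard : (b \ c).card = b.card - (b ∩ c).card := by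
    have h := Finset.card_sdiff_add_card_inter b c
    omega
  have h := blockCount_eq_tri lam hlam _ (b \ c) (b ∩ c) hcard hI hJ hd
  rw [← h]
  have : 0 < blockCount B (b ∩ c) (b \ c) := by
    unfold blockCount
    rw [Set.ncard_pos (Set.toFinite _)]
    refine ⟨c, hc, Finset.inter_subset_right, ?_⟩
    rw [Finset.disjoint_left]
    intro a hac hab
    simp only [Finset.mem_sdiff] at hab
    exact hab.2 hac
  exact_mod_cast this

/-- Distinct blocks share fewer than `t` points. -/
theorem card_inter_lt {t k : ℕ} {B : Set (Finset α)} (hB : IsSteinerSystem t k B)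
    {b c : Finset α} (hb : b ∈ B) (hc : c ∈ B) (hbc : b ≠ c) : (b ∩ c).card < t := by
  by_contra h
  push Not at h
  obtain ⟨s, hs, hsc⟩ := Finset.exists_subset_card_eq h
  obtain ⟨b', _, huniq⟩ := hB.2 s hsc
  have h1 : b = b' := huniq b ⟨hb, hs.trans Finset.inter_subset_left⟩
  have h2 : c = b' := huniq c ⟨hc, hs.trans Finset.inter_subset_right⟩
  exact hbc (h1.trans h2.symm)

/-- The count of blocks missing the block `b`. -/
theorem blockCount_disjoint_eq {B : Set (Finset α)} (lam : ℕ → ℤ) {b : Finset α}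
    (hlam : ∀ I, I ⊆ b → (blockCount B I ∅ : ℤ) = lam I.card) :
    ({c : Finset α | c ∈ B ∧ Disjoint b c}.ncard : ℤ) = tri lam 0 b.card := by
  have h := blockCount_eq_tri lam hlam b.card b ∅ rfl (Finset.empty_subset _)
    (Finset.Subset.refl _) (Finset.disjoint_empty_left _)
  simp only [Finset.card_empty] at h
  rw [← h]
  unfold blockCount
  congr 2
  ext c
  simp [disjoint_comm]

/-- S(5,8,24): first row. -/
def lam5824 : ℕ → ℤ
  | 0 => 759 | 1 => 253 | 2 => 77 | 3 => 21 | 4 => 5 | _ => 1

/-- S(4,7,23): first row. -/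
def lam4723 : ℕ → ℤ
  | 0 => 253 | 1 => 77 | 2 => 21 | 3 => 5 | _ => 1

/-- S(3,6,22): first row. -/
def lam3622 : ℕ → ℤ
  | 0 => 77 | 1 => 21 | 2 => 5 | _ => 1

/-- S(5,6,12): first row. -/
def lam5612 : ℕ → ℤ
  | 0 => 132 | 1 => 66 | 2 => 30 | 3 => 12 | 4 => 4 | _ => 1

theorem hlam5824 (hα : Fintype.card α = 24) {B : Set (Finset α)}
    (hB : IsSteinerSystem 5 8 B) {b : Finset α} (hb : b ∈ B) :
    ∀ I, I ⊆ b → (blockCount B I ∅ : ℤ) = lam5824 I.card := by
  intro I hI
  by_cases h : 5 ≤ I.card
  · have h1 := blockCount_of_le hB hb I hI h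
    rw [h1]
    obtain ⟨n, hn⟩ : ∃ n, I.card = n + 5 := ⟨I.card - 5, by omega⟩
    rw [hn]
    simp [lam5824]
  · have hm := blockCount_mul_choose hB I (by omega)
    rw [hα] at hm
    have : I.card < 5 := by omega
    generalize I.card = i at *
    interval_cases i <;> norm_num [Nat.choose, lam5824] at hm ⊢ <;> omega

theorem hlam4723 (hα : Fintype.card α = 23) {B : Set (Finset α)}
    (hB : IsSteinerSystem 4 7 B) {b : Finset α} (hb : b ∈ B) :
    ∀ I, I ⊆ b → (blockCount B I ∅ : ℤ) = lam4723 I.card := by
  intro I hI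
  by_cases h : 4 ≤ I.card
  · have h1 := blockCount_of_le hB hb I hI h
    rw [h1]
    obtain ⟨n, hn⟩ : ∃ n, I.card = n + 4 := ⟨I.card - 4, by omega⟩
    rw [hn]
    simp [lam4723]
  · have hm := blockCount_mul_choose hB I (by omega)
    rw [hα] at hm
    have : I.card < 4 := by omega
    generalize I.card = i at *
    interval_cases i <;> norm_num [Nat.choose, lam4723] at hm ⊢ <;> omega

theorem hlam3622 (hα : Fintype.card α = 22) {B : Set (Finset α)}
    (hB : IsSteinerSystem 3 6 B) {b : Finset α} (hb : b ∈ B) :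
    ∀ I, I ⊆ b → (blockCount B I ∅ : ℤ) = lam3622 I.card := by
  intro I hI
  by_cases h : 3 ≤ I.card
  · have h1 := blockCount_of_le hB hb I hI h
    rw [h1]
    obtain ⟨n, hn⟩ : ∃ n, I.card = n + 3 := ⟨I.card - 3, by omega⟩
    rw [hn]
    simp [lam3622]
  · have hm := blockCount_mul_choose hB I (by omega)
    rw [hα] at hm
    have : I.card < 3 := by omega
    generalize I.card = i at *
    interval_cases i <;> norm_num [Nat.choose, lam3622] at hm ⊢ <;> omega

theorem hlam5612 (hα : Fintype.card α = 12) {B : Set (Finset α)}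
    (hB : IsSteinerSystem 5 6 B) {b : Finset α} (hb : b ∈ B) :
    ∀ I, I ⊆ b → (blockCount B I ∅ : ℤ) = lam5612 I.card := by
  intro I hI
  by_cases h : 5 ≤ I.card
  · have h1 := blockCount_of_le hB hb I hI h
    rw [h1]
    obtain ⟨n, hn⟩ : ∃ n, I.card = n + 5 := ⟨I.card - 5, by omega⟩
    rw [hn]
    simp [lam5612]
  · have hm := blockCount_mul_choose hB I (by omega)
    rw [hα] at hm
    have : I.card < 5 := by omega
    generalize I.card = i at *
    interval_cases i <;> norm_num [Nat.choose, lam5612] at hm ⊢ <;> omega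

/-- S(5,8,24): blocks meet evenly (distinct). -/
theorem inter_5824 (hα : Fintype.card α = 24) {B : Set (Finset α)}
    (hB : IsSteinerSystem 5 8 B) {b c : Finset α} (hb : b ∈ B) (hc : c ∈ B) (hbc : b ≠ c) :
    (b ∩ c).card = 0 ∨ (b ∩ c).card = 2 ∨ (b ∩ c).card = 4 := by
  have h1 := card_inter_lt hB hb hc hbc
  have h2 := tri_inter_pos lam5824 (hlam5824 hα hB hb) hc
  rw [hB.1 b hb] at h2
  generalize (b ∩ c).card = i at *
  interval_cases i
  · simp
  · exfalso; revert h2; decide
  · simp
  · exfalso; revert h2; decide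
  · simp

/-- In an S(5,8,24) any two blocks meet in an even number of points. -/
theorem even_inter_5824 (hα : Fintype.card α = 24) {B : Set (Finset α)}
    (hB : IsSteinerSystem 5 8 B) {b c : Finset α} (hb : b ∈ B) (hc : c ∈ B) :
    Even (b ∩ c).card := by
  by_cases hbc : b = c
  · subst hbc
    rw [Finset.inter_self, hB.1 b hb]
    decide
  · rcases inter_5824 hα hB hb hc hbc with h | h | h <;> rw [h] <;> decide

/-- The cardinality identity for an intersection with a symmetric difference. -/
theorem card_inter_symmDiff (x y z : Finset α) :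
    (x ∩ symmDiff y z).card + 2 * (x ∩ y ∩ z).card = (x ∩ y).card + (x ∩ z).card := by
  have h1 : x ∩ y = ((x ∩ y) \ z) ∪ (x ∩ y ∩ z) := by
    ext a; simp only [Finset.mem_inter, Finset.mem_sdiff, Finset.mem_union]; tauto
  have h2 : x ∩ z = ((x ∩ z) \ y) ∪ (x ∩ y ∩ z) := by
    ext a; simp only [Finset.mem_inter, Finset.mem_sdiff, Finset.mem_union]; tauto
  have h3 : x ∩ symmDiff y z = ((x ∩ y) \ z) ∪ ((x ∩ z) \ y) := by
    ext a; simp only [Finset.mem_inter, Finset.mem_sdiff, Finset.mem_union, Finset.mem_symmDiff]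
    tauto
  have d1 : Disjoint ((x ∩ y) \ z) (x ∩ y ∩ z) := by
    rw [Finset.disjoint_left]; intro a; simp only [Finset.mem_inter, Finset.mem_sdiff]; tauto
  have d2 : Disjoint ((x ∩ z) \ y) (x ∩ y ∩ z) := by
    rw [Finset.disjoint_left]; intro a; simp only [Finset.mem_inter, Finset.mem_sdiff]; tauto
  have d3 : Disjoint ((x ∩ y) \ z) ((x ∩ z) \ y) := by
    rw [Finset.disjoint_left]; intro a; simp only [Finset.mem_inter, Finset.mem_sdiff]; tauto
  have e1 := congrArg Finset.card h1
  have e2 := congrArg Finset.card h2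
  have e3 := congrArg Finset.card h3
  rw [Finset.card_union_of_disjoint d1] at e1
  rw [Finset.card_union_of_disjoint d2] at e2
  rw [Finset.card_union_of_disjoint d3] at e3
  omega

/-- In an S(5,8,24) no 4-set meets every block evenly. -/
theorem no_even_tetrad (hα : Fintype.card α = 24) {B : Set (Finset α)}
    (hB : IsSteinerSystem 5 8 B) (Q : Finset α) (hQ : Q.card = 4)
    (heven : ∀ o ∈ B, Even (o ∩ Q).card) : False := by
  -- a point outside `Q`
  have hcomp : (Qᶜ).card = 20 := by rw [Finset.card_compl, hα, hQ]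
  obtain ⟨x, hx⟩ : ∃ x, x ∈ Qᶜ := by
    apply Finset.card_pos.mp; omega
  have hxQ : x ∉ Q := Finset.mem_compl.mp hx
  -- the block through `Q ∪ {x}`
  obtain ⟨d, ⟨hd, hQd⟩, hduniq⟩ := hB.2 (insert x Q) (by
    rw [Finset.card_insert_of_notMem hxQ, hQ])
  have hdcard : d.card = 8 := hB.1 d hd
  -- a point outside `Q ∪ d`
  obtain ⟨y, hy⟩ : ∃ y, y ∈ (Q ∪ d)ᶜ := by
    apply Finset.card_pos.mp
    rw [Finset.card_compl, hα]
    have := Finset.card_union_le Q d
    omega
  simp only [Finset.mem_compl, Finset.mem_union, not_or] at hy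
  obtain ⟨hyQ, hyd⟩ := hy
  have hxy : x ≠ y := by
    rintro rfl
    exact hyd (hQd (Finset.mem_insert_self _ _))
  -- a 3-subset of `Q`
  obtain ⟨T, hTQ, hT⟩ := Finset.exists_subset_card_eq (show 3 ≤ Q.card by omega)
  have hxT : x ∉ T := fun h => hxQ (hTQ h)
  have hyT : y ∉ T := fun h => hyQ (hTQ h)
  obtain ⟨f, ⟨hf, hTf⟩, _⟩ := hB.2 (insert x (insert y T)) (by
    rw [Finset.card_insert_of_notMem, Finset.card_insert_of_notMem hyT, hT]
    simp [hxy, hxT])
  have hsub : T ⊆ f ∩ Q := by
    intro a ha
    refine Finset.mem_inter.mpr ⟨hTf ?_, hTQ ha⟩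
    simp [ha]
  have h3 : 3 ≤ (f ∩ Q).card := hT ▸ Finset.card_le_card hsub
  have h4 : (f ∩ Q).card ≤ 4 := hQ ▸ Finset.card_le_card Finset.inter_subset_right
  have hev := heven f hf
  have h5 : (f ∩ Q).card = 4 := by
    rcases hev with ⟨r, hr⟩
    omega
  have hQf : Q ⊆ f := by
    have : f ∩ Q = Q := Finset.eq_of_subset_of_card_le Finset.inter_subset_right (by omega)
    exact Finset.inter_eq_right.mp this
  have hxf : x ∈ f := hTf (Finset.mem_insert_self _ _)
  have hyf : y ∈ f := hTf (by simp)
  have hfd : f = d := hduniq f ⟨hf, Finset.insert_subset hxf hQf⟩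
  exact hyd (hfd ▸ hyf)

/-- In an S(5,8,24), the symmetric difference of two blocks meeting in four points is a block. -/
theorem symmDiff_mem_5824 (hα : Fintype.card α = 24) {B : Set (Finset α)}
    (hB : IsSteinerSystem 5 8 B) {b c : Finset α} (hb : b ∈ B) (hc : c ∈ B)
    (h4 : (b ∩ c).card = 4) : symmDiff b c ∈ B := by
  have hbc8 : b.card = 8 := hB.1 b hb
  have hcc8 : c.card = 8 := hB.1 c hc
  have hvcard : (symmDiff b c).card = 8 := by
    have h1 := card_inter_symmDiff (b ∪ c) b c
    have h2 : (b ∪ c) ∩ symmDiff b c = symmDiff b c := by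
      ext a; simp only [Finset.mem_inter, Finset.mem_union, Finset.mem_symmDiff]; tauto
    have h3 : (b ∪ c) ∩ b = b := by
      ext a; simp only [Finset.mem_inter, Finset.mem_union]; tauto
    have h4' : (b ∪ c) ∩ c = c := by
      ext a; simp only [Finset.mem_inter, Finset.mem_union]; tauto
    have h5 : (b ∪ c) ∩ b ∩ c = b ∩ c := by
      ext a; simp only [Finset.mem_inter, Finset.mem_union]; tauto
    rw [h2, h5, h3, h4', h4, hbc8, hcc8] at h1
    omega
  set v := symmDiff b c with hv
  have hevenv : ∀ o ∈ B, Even (o ∩ v).card := by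
    intro o ho
    have h1 := card_inter_symmDiff o b c
    have h2 := even_inter_5824 hα hB ho hb
    have h3 := even_inter_5824 hα hB ho hc
    rw [← hv] at h1
    rcases h2 with ⟨r, hr⟩
    rcases h3 with ⟨s, hs⟩
    refine ⟨r + s - (o ∩ b ∩ c).card, ?_⟩
    omega
  obtain ⟨s, hsv, hs⟩ := Finset.exists_subset_card_eq (show 5 ≤ v.card by omega)
  obtain ⟨o, ⟨ho, hso⟩, _⟩ := hB.2 s hs
  have ho8 : o.card = 8 := hB.1 o ho
  have hsub : s ⊆ o ∩ v := Finset.subset_inter hso hsv
  have h5 : 5 ≤ (o ∩ v).card := hs ▸ Finset.card_le_card hsub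
  have h8 : (o ∩ v).card ≤ 8 := hvcard ▸ Finset.card_le_card Finset.inter_subset_right
  rcases hevenv o ho with ⟨r, hr⟩
  by_cases h : (o ∩ v).card = 8
  · have h1 : o ∩ v = v := Finset.eq_of_subset_of_card_le Finset.inter_subset_right (by omega)
    have h2 : o ∩ v = o := Finset.eq_of_subset_of_card_le Finset.inter_subset_left (by omega)
    have : v = o := h1.symm.trans h2
    rw [this]; exact ho
  · exfalso
    have h6 : (o ∩ v).card = 6 := by omega
    apply no_even_tetrad hα hB (symmDiff o v)
    · have h1 := card_inter_symmDiff (o ∪ v) o v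
      have h2 : (o ∪ v) ∩ symmDiff o v = symmDiff o v := by
        ext a; simp only [Finset.mem_inter, Finset.mem_union, Finset.mem_symmDiff]; tauto
      have h3 : (o ∪ v) ∩ o = o := by
        ext a; simp only [Finset.mem_inter, Finset.mem_union]; tauto
      have h4' : (o ∪ v) ∩ v = v := by
        ext a; simp only [Finset.mem_inter, Finset.mem_union]; tauto
      have h5' : (o ∪ v) ∩ o ∩ v = o ∩ v := by
        ext a; simp only [Finset.mem_inter, Finset.mem_union]; tauto
      rw [h2, h5', h3, h4', h6, ho8, hvcard] at h1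
      omega
    · intro o' ho'
      have h1 := card_inter_symmDiff o' o v
      have h2 := even_inter_5824 hα hB ho' ho
      have h3 := hevenv o' ho'
      rcases h2 with ⟨r', hr'⟩
      rcases h3 with ⟨s', hs'⟩
      refine ⟨r' + s' - (o' ∩ o ∩ v).card, ?_⟩
      omega

end Cfsg.Agent.Lib.SteinerDesign
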