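import Mathlib
import Cfsg.Prelude.Def_Sporadic_a
import Cfsg.Agent.Lib.SteinerDesign

set_option autoImplicit false
set_option linter.unusedSectionVars false
set_option linter.unusedSimpArgs false
set_option linter.unusedVariables false
set_option linter.unnecessarySimpa false

/-!
# A verified exhaustive search for Steiner systems

Blocks on `Fin v` (`v ≤ 24`) are coded by bitmasks.  A *state* is a list `L` of masks; `Good L` says
that every Steiner system containing `L` is the image of a fixed system by a permutation (fixing the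
first `F` points).  `Good L` follows from `Good (C :: L)` for all candidates `C` of the block through
a `t`-subset `T`, and from `Good L'` when a permutation carries `L'` into `L`.
The check runs in the kernel; the functions it evaluates are written with recursors and raw
arithmetic on purpose.
-/

namespace Cfsg.Agent.Lib.SteinerSearch
open Finset Cfsg

/-! ### Masks -/

theorem nbeq_false {a b : ℕ} (h : a ≠ b) : Nat.beq a b = false := by
  cases h' : Nat.beq a b with
  | false => rfl
  | true => exact absurd (Nat.eq_of_beq_eq_true h') h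

theorem nbeq_self (a : ℕ) : Nat.beq a a = true := Nat.beq_refl a

theorem blt_lt {a b : ℕ} (h : Nat.blt a b = true) : a < b := by
  rwa [Nat.blt_eq] at h

theorem blt_true {a b : ℕ} (h : a < b) : Nat.blt a b = true := by
  rw [Nat.blt_eq]; exact h

/-- The subset of `Fin v` coded by a mask. -/
def ofMask (v m : ℕ) : Finset (Fin v) := univ.filter fun i => m.testBit i = true

theorem mem_ofMask {v m : ℕ} {i : Fin v} : i ∈ ofMask v m ↔ m.testBit i = true := by
  simp [ofMask]

/-- Number of set bits among the first `n` (specification). -/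
def popS : ℕ → ℕ → ℕ
  | 0, _ => 0
  | n + 1, m => m % 2 + popS n (m / 2)

theorem popS_of_zero (n : ℕ) : popS n 0 = 0 := by
  induction n with
  | zero => rfl
  | succ n ih => simp [popS, ih]

theorem card_ofMask_S (n m : ℕ) : (ofMask n m).card = popS n m := by
  induction n generalizing m with
  | zero => simp [ofMask, popS]
  | succ n ih =>
    rw [popS, ← ih, ofMask, ofMask, Finset.card_filter, Finset.card_filter, Fin.sum_univ_succ]
    congr 1
    · simp only [Fin.val_zero, Nat.testBit_zero]
      rcases Nat.mod_two_eq_zero_or_one m with h | h <;> simp [h]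
    · apply Finset.sum_congr rfl
      intro i _
      simp [Fin.val_succ, Nat.testBit_succ]

theorem popS_extend (n j m : ℕ) (hm : m < 2 ^ n) : popS (n + j) m = popS n m := by
  induction n generalizing m with
  | zero =>
    have : m = 0 := by simpa using hm
    subst this
    rw [popS_of_zero, popS_of_zero]
  | succ n ih =>
    have h1 : m / 2 < 2 ^ n := by
      rw [pow_succ] at hm
      omega
    have h2 : n + 1 + j = (n + j) + 1 := by omega
    rw [h2, popS, popS, ih _ h1]

/-- Counts of four bits. -/
def tbl (x : ℕ) : ℕ :=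
  Nat.land (Nat.shiftRight (nat_lit 0x8da691691448) (Nat.mul (nat_lit 3) x)) (nat_lit 7)

theorem tbl_spec : ∀ x : Fin 16, tbl x.1 = x.1 % 2 + (x.1 / 2) % 2 + (x.1 / 4) % 2 + (x.1 / 8) % 2 := by
  decide

theorem popS_add_four (n m : ℕ) : popS (n + 4) m = tbl (m % 16) + popS n (m / 16) := by
  have h1 : n + 4 = (((n + 1) + 1) + 1) + 1 := rfl
  rw [h1, popS, popS, popS, popS]
  have h2 := tbl_spec ⟨m % 16, Nat.mod_lt _ (by norm_num)⟩
  simp only at h2
  rw [h2]
  have h3 : m / 2 / 2 / 2 / 2 = m / 16 := by omega
  rw [h3]
  have h4 : m % 16 < 16 := Nat.mod_lt _ (by norm_num)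
  obtain ⟨q, r, hr, rfl⟩ : ∃ q r, r < 16 ∧ m = 16 * q + r := ⟨m / 16, m % 16, h4, by omega⟩
  interval_cases r <;> omega

/-- Number of set bits among the first `4 * f`, computed by nibbles. -/
noncomputable def popN (f m : ℕ) : ℕ :=
  Nat.rec (motive := fun _ => ℕ → ℕ) (fun _ => nat_lit 0)
    (fun _ ih m => Nat.rec (motive := fun _ => ℕ) (nat_lit 0)
      (fun m' _ => Nat.add (tbl (Nat.mod (Nat.succ m') (nat_lit 16)))
        (ih (Nat.div (Nat.succ m') (nat_lit 16)))) m) f m

theorem popN_eq (f m : ℕ) : popN f m = popS (4 * f) m := by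
  induction f generalizing m with
  | zero => rfl
  | succ f ih =>
    have h1 : 4 * (f + 1) = 4 * f + 4 := by ring
    rw [h1, popS_add_four]
    cases m with
    | zero =>
      rw [popS_of_zero (4 * f)]
      rfl
    | succ m =>
      rw [← ih]
      rfl

/-- The count used by the search, valid for masks below `2 ^ 24`. -/
theorem card_ofMask {v m : ℕ} (hv : v ≤ 24) (hm : m < 2 ^ v) : (ofMask v m).card = popN 6 m := by
  rw [card_ofMask_S, popN_eq]
  obtain ⟨j, hj⟩ : ∃ j, 4 * 6 = v + j := ⟨24 - v, by omega⟩
  rw [hj, popS_extend _ _ _ hm]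

theorem ofMask_land (v a b : ℕ) : ofMask v (Nat.land a b) = ofMask v a ∩ ofMask v b := by
  ext i
  have : Nat.land a b = a &&& b := rfl
  simp [mem_ofMask, this, Nat.testBit_land]

/-- Test of a bit, in raw arithmetic. -/
def tb (m i : ℕ) : Bool := Nat.beq (Nat.land (Nat.shiftRight m i) (nat_lit 1)) (nat_lit 1)

theorem tb_eq (m i : ℕ) : tb m i = m.testBit i := by
  have h1 : Nat.land (Nat.shiftRight m i) 1 = (m >>> i) % 2 := Nat.and_one_is_mod _
  have h2 : m.testBit i = decide ((m >>> i) % 2 = 1) := by
    rw [← Nat.testBit_zero, Nat.testBit_shiftRight]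
    simp
  rw [h2, tb]
  show Nat.beq (Nat.land (Nat.shiftRight m i) 1) 1 = _
  rw [h1]
  by_cases h : (m >>> i) % 2 = 1
  · rw [h]; simp [nbeq_self]
  · rw [nbeq_false h]; simp [h]

/-! ### Enumeration of candidates -/

/-- Keep a candidate if it passes the filter. -/
def leafL (f : ℕ → Bool) (cur : ℕ) (acc : List ℕ) : List ℕ :=
  Bool.rec acc (cur :: acc) (f cur)

/-- All masks obtained from `cur` by adding `need` points below `n` outside `ex` and passing the
filter `f`, put in front of `acc`. -/
noncomputable def gen (ex : ℕ) (f : ℕ → Bool) (n : ℕ) : ℕ → ℕ → List ℕ → List ℕ :=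
  Nat.rec (motive := fun _ => ℕ → ℕ → List ℕ → List ℕ)
    (fun need cur acc => Nat.rec (motive := fun _ => List ℕ) (leafL f cur acc) (fun _ _ => acc) need)
    (fun i ih need cur acc =>
      Nat.rec (motive := fun _ => List ℕ) (leafL f cur acc)
        (fun need' _ =>
          Bool.rec (ih need' (Nat.lor cur (Nat.pow (nat_lit 2) i)) (ih (Nat.succ need') cur acc))
            (ih (Nat.succ need') cur acc) (tb ex i)) need) n

theorem gen_zero_zero (ex : ℕ) (f : ℕ → Bool) (cur : ℕ) (acc : List ℕ) :
    gen ex f 0 0 cur acc = leafL f cur acc := rfl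

theorem gen_zero_succ (ex : ℕ) (f : ℕ → Bool) (need cur : ℕ) (acc : List ℕ) :
    gen ex f 0 (need + 1) cur acc = acc := rfl

theorem gen_succ_zero (ex : ℕ) (f : ℕ → Bool) (n cur : ℕ) (acc : List ℕ) :
    gen ex f (n + 1) 0 cur acc = leafL f cur acc := rfl

theorem gen_succ_succ_true (ex : ℕ) (f : ℕ → Bool) (n need cur : ℕ) (acc : List ℕ)
    (h : ex.testBit n = true) :
    gen ex f (n + 1) (need + 1) cur acc = gen ex f n (need + 1) cur acc := by
  rw [← tb_eq] at h
  have h0 : gen ex f (n + 1) (need + 1) cur acc = Bool.rec (motive := fun _ => List ℕ)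
      (gen ex f n need (Nat.lor cur (Nat.pow 2 n)) (gen ex f n (need + 1) cur acc))
      (gen ex f n (need + 1) cur acc) (tb ex n) := rfl
  rw [h0, h]

theorem gen_succ_succ_false (ex : ℕ) (f : ℕ → Bool) (n need cur : ℕ) (acc : List ℕ)
    (h : ex.testBit n = false) :
    gen ex f (n + 1) (need + 1) cur acc =
      gen ex f n need (cur ||| 2 ^ n) (gen ex f n (need + 1) cur acc) := by
  rw [← tb_eq] at h
  have h0 : gen ex f (n + 1) (need + 1) cur acc = Bool.rec (motive := fun _ => List ℕ)
      (gen ex f n need (Nat.lor cur (Nat.pow 2 n)) (gen ex f n (need + 1) cur acc))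
      (gen ex f n (need + 1) cur acc) (tb ex n) := rfl
  rw [h0, h]
  rfl

theorem mem_leafL_of_mem {f : ℕ → Bool} {cur x : ℕ} {acc : List ℕ} (hx : x ∈ acc) :
    x ∈ leafL f cur acc := by
  unfold leafL
  cases f cur
  · exact hx
  · exact List.mem_cons_of_mem _ hx

theorem mem_leafL_self {f : ℕ → Bool} {cur : ℕ} {acc : List ℕ} (h : f cur = true) :
    cur ∈ leafL f cur acc := by
  unfold leafL
  rw [h]
  exact List.mem_cons_self

theorem gen_acc (ex : ℕ) (f : ℕ → Bool) (n need cur : ℕ) (acc : List ℕ) {x : ℕ} (hx : x ∈ acc) :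
    x ∈ gen ex f n need cur acc := by
  induction n generalizing need cur acc with
  | zero =>
    cases need with
    | zero => exact mem_leafL_of_mem hx
    | succ need => exact hx
  | succ n ih =>
    cases need with
    | zero => exact mem_leafL_of_mem hx
    | succ need =>
      cases hb : ex.testBit n with
      | true =>
        rw [gen_succ_succ_true _ _ _ _ _ _ hb]
        exact ih _ _ _ hx
      | false =>
        rw [gen_succ_succ_false _ _ _ _ _ _ hb]
        exact ih _ _ _ (ih _ _ _ hx)

theorem gen_complete (ex : ℕ) (f : ℕ → Bool) (n need cur : ℕ) (acc : List ℕ) (S : Finset ℕ)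
    (hS : ∀ x ∈ S, x < n ∧ ex.testBit x = false) (hc : S.card = need) :
    ∃ m, (∀ j, m.testBit j = true ↔ (cur.testBit j = true ∨ j ∈ S)) ∧
      (f m = true → m ∈ gen ex f n need cur acc) := by
  induction n generalizing need cur acc S with
  | zero =>
    have hS0 : S = ∅ := by
      apply Finset.eq_empty_of_forall_notMem
      intro x hx
      have := hS x hx
      omega
    subst hS0
    simp at hc
    subst hc
    exact ⟨cur, fun j => by simp, fun h => mem_leafL_self h⟩
  | succ n ih =>
    cases need with
    | zero =>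
      have hS0 : S = ∅ := Finset.card_eq_zero.1 hc
      subst hS0
      exact ⟨cur, fun j => by simp, fun h => mem_leafL_self h⟩
    | succ need =>
      by_cases hi : n ∈ S
      · have hex : ex.testBit n = false := (hS n hi).2
        obtain ⟨m, hbits, hm⟩ := ih need (cur ||| 2 ^ n) (gen ex f n (need + 1) cur acc) (S.erase n)
          (fun x hx => by
            have h1 := Finset.mem_erase.1 hx
            have h2 := hS x h1.2
            have h3 : x ≠ n := h1.1
            exact ⟨by omega, h2.2⟩)
          (by rw [Finset.card_erase_of_mem hi, hc]; rfl)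
        refine ⟨m, fun j => ?_, fun h => ?_⟩
        · rw [hbits]
          simp only [Nat.testBit_or, Bool.or_eq_true, Nat.testBit_two_pow, decide_eq_true_eq,
            Finset.mem_erase]
          constructor
          · rintro ((h | h) | h)
            · exact Or.inl h
            · subst h; exact Or.inr hi
            · exact Or.inr h.2
          · rintro (h | h)
            · exact Or.inl (Or.inl h)
            · by_cases hj : j = n
              · exact Or.inl (Or.inr hj.symm)
              · exact Or.inr ⟨hj, h⟩
        · rw [gen_succ_succ_false _ _ _ _ _ _ hex]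
          exact hm h
      · obtain ⟨m, hbits, hm⟩ := ih (need + 1) cur acc S
          (fun x hx => by
            have h2 := hS x hx
            have : x ≠ n := fun h => hi (h ▸ hx)
            exact ⟨by omega, h2.2⟩) hc
        refine ⟨m, hbits, fun h => ?_⟩
        cases hb : ex.testBit n with
        | true =>
          rw [gen_succ_succ_true _ _ _ _ _ _ hb]
          exact hm h
        | false =>
          rw [gen_succ_succ_false _ _ _ _ _ _ hb]
          exact gen_acc _ _ _ _ _ _ (hm h)

/-- Points that the block through `T` must avoid, collected on `acc`. -/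
noncomputable def forb (t T : ℕ) (L : List ℕ) : ℕ → ℕ :=
  List.rec (motive := fun _ => ℕ → ℕ) (fun acc => acc)
    (fun c _ ih acc => Bool.rec (ih acc) (ih (Nat.lor acc c))
      (Nat.beq (Nat.succ (popN (nat_lit 6) (Nat.land T c))) t)) L

theorem testBit_forb {t T : ℕ} {L : List ℕ} {acc j : ℕ} (h : (forb t T L acc).testBit j = true) :
    acc.testBit j = true ∨ ∃ c ∈ L, popN 6 (Nat.land T c) + 1 = t ∧ c.testBit j = true := by
  induction L generalizing acc with
  | nil => exact Or.inl h
  | cons c L ih =>
    have h0 : forb t T (c :: L) acc = Bool.rec (forb t T L acc) (forb t T L (Nat.lor acc c))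
      (Nat.beq (Nat.succ (popN 6 (Nat.land T c))) t) := rfl
    rw [h0] at h
    by_cases hc : popN 6 (Nat.land T c) + 1 = t
    · have h1 : Nat.beq (Nat.succ (popN 6 (Nat.land T c))) t = true := by
        rw [Nat.beq_eq]; exact hc
      rw [h1] at h
      rcases ih h with h2 | ⟨c', hc', h3⟩
      · have h2' : (acc ||| c).testBit j = true := h2
        rw [Nat.testBit_or, Bool.or_eq_true] at h2'
        rcases h2' with h3 | h3
        · exact Or.inl h3
        · exact Or.inr ⟨c, List.mem_cons_self, hc, h3⟩
      · exact Or.inr ⟨c', List.mem_cons_of_mem _ hc', h3⟩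
    · have h1 : Nat.beq (Nat.succ (popN 6 (Nat.land T c))) t = false := nbeq_false hc
      rw [h1] at h
      rcases ih h with h2 | ⟨c', hc', h3⟩
      · exact Or.inl h2
      · exact Or.inr ⟨c', List.mem_cons_of_mem _ hc', h3⟩

/-- Compatibility with a list of blocks. -/
noncomputable def compat (t k C : ℕ) (L : List ℕ) : Bool :=
  List.rec (motive := fun _ => Bool) true
    (fun c _ ih => Bool.rec (Bool.rec false ih (Nat.beq (popN (nat_lit 6) (Nat.land C c)) k)) ih
      (Nat.ble (Nat.succ (popN (nat_lit 6) (Nat.land C c))) t)) L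

theorem compat_of {t k C : ℕ} {L : List ℕ}
    (h : ∀ c ∈ L, popN 6 (Nat.land C c) < t ∨ popN 6 (Nat.land C c) = k) :
    compat t k C L = true := by
  induction L with
  | nil => rfl
  | cons c L ih =>
    have ih' := ih fun c' hc' => h c' (List.mem_cons_of_mem _ hc')
    have h0 : compat t k C (c :: L) = Bool.rec (Bool.rec false (compat t k C L)
      (Nat.beq (popN 6 (Nat.land C c)) k)) (compat t k C L)
      (Nat.ble (Nat.succ (popN 6 (Nat.land C c))) t) := rfl
    rw [h0, ih']
    rcases h c List.mem_cons_self with h1 | h1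
    · have : Nat.ble (Nat.succ (popN 6 (Nat.land C c))) t = true := Nat.ble_eq_true_of_le h1
      rw [this]
    · rw [h1, nbeq_self]
      cases Nat.ble (Nat.succ k) t <;> rfl

/-- The candidates for the block through `T`, given the known blocks `L`. -/
noncomputable def cands (v t k T : ℕ) (L : List ℕ) : List ℕ :=
  gen (Nat.lor T (forb t T L (nat_lit 0))) (fun C => compat t k C L) v (Nat.sub k t) T []

/-! ### The predicate `Good` -/

/-- Every Steiner system containing the masks of `L` is the image of `Std` by a permutation fixing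
the first `F` points. -/
def Good (v t k F : ℕ) (Std : Set (Finset (Fin v))) (L : List ℕ) : Prop :=
  ∀ B : Set (Finset (Fin v)), IsSteinerSystem t k B → (∀ m ∈ L, ofMask v m ∈ B) →
    ∃ σ : Equiv.Perm (Fin v), (∀ i : Fin v, i.1 < F → σ i = i) ∧ (fun b => b.image σ) '' Std = B

variable {v t k F : ℕ} {Std : Set (Finset (Fin v))}

theorem land_lt {a b v : ℕ} (h : a < 2 ^ v) : Nat.land a b < 2 ^ v := by
  show a &&& b < 2 ^ v
  rw [Nat.and_comm]
  exact Nat.and_lt_two_pow b h

/-- The block through `T` is among the candidates. -/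
theorem exists_cand {B : Set (Finset (Fin v))} (hv : v ≤ 24) (hB : IsSteinerSystem t k B) {T : ℕ}
    {L : List ℕ} (hT : popN 6 T = t) (hTlt : T < 2 ^ v) (hL : ∀ m ∈ L, ofMask v m ∈ B)
    (ht : 1 ≤ t) : ∃ C ∈ cands v t k T L, ofMask v C ∈ B := by
  classical
  have hTc : (ofMask v T).card = t := by rw [card_ofMask hv hTlt, hT]
  obtain ⟨b, ⟨hb, hTb⟩, -⟩ := hB.2 (ofMask v T) hTc
  have hbk : b.card = k := hB.1 b hb
  have hle : t ≤ k := by
    have := Finset.card_le_card hTb
    omega
  -- blocks in `L` meet `b` in few points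
  have hinter : ∀ c ∈ L, ofMask v c ≠ b → (b ∩ ofMask v c).card < t := fun c hc hne =>
    Cfsg.Agent.Lib.SteinerDesign.card_inter_lt hB hb (hL c hc) hne.symm
  -- the points to add
  let S : Finset ℕ := (b \ ofMask v T).image Fin.val
  have hScard : S.card = Nat.sub k t := by
    rw [Finset.card_image_of_injective _ Fin.val_injective, Finset.card_sdiff_of_subset hTb, hbk,
      hTc]
    rfl
  have hSmem : ∀ x ∈ S, ∃ i : Fin v, i ∈ b ∧ i ∉ ofMask v T ∧ i.1 = x := by
    intro x hx
    obtain ⟨i, hi, rfl⟩ := Finset.mem_image.1 hx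
    have := Finset.mem_sdiff.1 hi
    exact ⟨i, this.1, this.2, rfl⟩
  have hS : ∀ x ∈ S, x < v ∧ (Nat.lor T (forb t T L 0)).testBit x = false := by
    intro x hx
    obtain ⟨i, hib, hiT, rfl⟩ := hSmem x hx
    refine ⟨i.2, ?_⟩
    have h0 : Nat.lor T (forb t T L 0) = T ||| forb t T L 0 := rfl
    rw [h0, Nat.testBit_or, Bool.or_eq_false_iff]
    constructor
    · rw [mem_ofMask] at hiT
      simpa using hiT
    · by_contra hc
      simp only [Bool.not_eq_false] at hc
      rcases testBit_forb hc with h00 | ⟨c, hcL, hpop, hbit⟩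
      · simp at h00
      have hic : i ∈ ofMask v c := mem_ofMask.2 hbit
      have h1 : (ofMask v T ∩ ofMask v c).card + 1 = t := by
        rw [← ofMask_land, card_ofMask hv (land_lt hTlt), hpop]
      by_cases hcb : ofMask v c = b
      · -- then `T` is inside `c`
        have h2 : ofMask v T ∩ ofMask v c = ofMask v T := by
          rw [hcb]; exact Finset.inter_eq_left.2 hTb
        rw [h2, hTc] at h1
        omega
      · have h3 := hinter c hcL hcb
        have h4 : insert i (ofMask v T ∩ ofMask v c) ⊆ b ∩ ofMask v c := by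
          intro y hy
          rcases Finset.mem_insert.1 hy with rfl | hy
          · exact Finset.mem_inter.2 ⟨hib, hic⟩
          · have := Finset.mem_inter.1 hy
            exact Finset.mem_inter.2 ⟨hTb this.1, this.2⟩
        have h5 := Finset.card_le_card h4
        rw [Finset.card_insert_of_notMem (fun h => hiT (Finset.mem_inter.1 h).1)] at h5
        omega
  obtain ⟨m, hbits, hm⟩ := gen_complete (Nat.lor T (forb t T L 0)) (fun C => compat t k C L)
    v (Nat.sub k t) T [] S hS hScard
  have hmb : ofMask v m = b := by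
    ext i
    rw [mem_ofMask, hbits]
    constructor
    · rintro (h | h)
      · exact hTb (mem_ofMask.2 h)
      · obtain ⟨i', hi', -, hii⟩ := hSmem _ h
        have : i' = i := Fin.ext hii
        exact this ▸ hi'
    · intro h
      by_cases hiT : i ∈ ofMask v T
      · exact Or.inl (mem_ofMask.1 hiT)
      · exact Or.inr (Finset.mem_image.2 ⟨i, Finset.mem_sdiff.2 ⟨h, hiT⟩, rfl⟩)
  have hmlt : m < 2 ^ v := by
    apply Nat.lt_pow_two_of_testBit
    intro i hi
    cases hmi : m.testBit i with
    | false => rfl
    | true =>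
      exfalso
      rcases (hbits i).1 hmi with h | h
      · have h2 : T < 2 ^ i := hTlt.trans_le (Nat.pow_le_pow_right (by norm_num) hi)
        rw [Nat.testBit_lt_two_pow h2] at h
        cases h
      · obtain ⟨i', -, -, hii⟩ := hSmem _ h
        have := i'.2
        omega
  refine ⟨m, ?_, by rw [hmb]; exact hb⟩
  apply hm
  apply compat_of
  intro c hc
  rw [← card_ofMask hv (land_lt hmlt), ofMask_land, hmb]
  by_cases hcb : ofMask v c = b
  · right
    rw [hcb, Finset.inter_self, hbk]
  · left
    exact hinter c hc hcb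

/-! ### Permutation codes -/

/-- The image of a point under a permutation code (five bits per point). -/
def pt (p i : ℕ) : ℕ :=
  Nat.mod (Nat.shiftRight p (Nat.mul (nat_lit 5) i)) (nat_lit 32)

/-- The image of a mask under a permutation code: the bits below `n` are used. -/
noncomputable def app (p m n : ℕ) : ℕ :=
  Nat.rec (motive := fun _ => ℕ) (nat_lit 0)
    (fun i ih => Bool.rec ih (Nat.lor (Nat.pow (nat_lit 2) (pt p i)) ih) (tb m i)) n

theorem testBit_app (p m n j : ℕ) :
    (app p m n).testBit j = true ↔ ∃ l, l < n ∧ m.testBit l = true ∧ pt p l = j := by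
  induction n with
  | zero =>
    have : app p m 0 = 0 := rfl
    simp [this]
  | succ n ih =>
    have h0 : app p m (n + 1) = Bool.rec (app p m n) (Nat.lor (Nat.pow 2 (pt p n)) (app p m n))
      (tb m n) := rfl
    rw [h0, tb_eq]
    constructor
    · intro h
      cases hb : m.testBit n with
      | false =>
        rw [hb] at h
        obtain ⟨l, hl, h2, h3⟩ := ih.1 h
        exact ⟨l, by omega, h2, h3⟩
      | true =>
        rw [hb] at h
        have h1 : ((2 ^ pt p n) ||| app p m n).testBit j = true := h
        rw [Nat.testBit_or, Bool.or_eq_true, Nat.testBit_two_pow] at h1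
        rcases h1 with h1 | h1
        · exact ⟨n, by omega, hb, by simpa using h1⟩
        · obtain ⟨l, hl, h2, h3⟩ := ih.1 h1
          exact ⟨l, by omega, h2, h3⟩
    · rintro ⟨l, hl, h2, h3⟩
      by_cases hln : l = n
      · subst hln
        rw [h2]
        show ((2 ^ pt p l) ||| app p m l).testBit j = true
        rw [Nat.testBit_or, Bool.or_eq_true, Nat.testBit_two_pow]
        left
        simpa using h3
      · have h4 : (app p m n).testBit j = true := ih.2 ⟨l, by omega, h2, h3⟩
        cases hb : m.testBit n with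
        | false => exact h4
        | true =>
          show ((2 ^ pt p n) ||| app p m n).testBit j = true
          rw [Nat.testBit_or, Bool.or_eq_true]
          exact Or.inr h4

/-- A code is valid when it permutes the `v` points. -/
noncomputable def validCode (v p : ℕ) : Bool :=
  Nat.beq (app p (Nat.sub (Nat.pow (nat_lit 2) v) (nat_lit 1)) v)
    (Nat.sub (Nat.pow (nat_lit 2) v) (nat_lit 1))

theorem validCode_eq {v p : ℕ} (h : validCode v p = true) :
    app p (2 ^ v - 1) v = 2 ^ v - 1 := Nat.eq_of_beq_eq_true h

theorem pt_lt {v p : ℕ} (h : validCode v p = true) {i : ℕ} (hi : i < v) : pt p i < v := by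
  have h1 := validCode_eq h
  have h2 : (app p (2 ^ v - 1) v).testBit (pt p i) = true := by
    rw [testBit_app]
    refine ⟨i, hi, ?_, rfl⟩
    rw [Nat.testBit_two_pow_sub_one]
    simpa using hi
  rw [h1, Nat.testBit_two_pow_sub_one] at h2
  simpa using h2

theorem pt_surj {v p : ℕ} (h : validCode v p = true) {j : ℕ} (hj : j < v) :
    ∃ i, i < v ∧ pt p i = j := by
  have h1 := validCode_eq h
  have h2 : (app p (2 ^ v - 1) v).testBit j = true := by
    rw [h1, Nat.testBit_two_pow_sub_one]
    simpa using hj
  rw [testBit_app] at h2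
  obtain ⟨l, hl, -, h3⟩ := h2
  exact ⟨l, hl, h3⟩

/-- The permutation of a valid code. -/
noncomputable def permOf {v p : ℕ} (h : validCode v p = true) : Equiv.Perm (Fin v) :=
  Equiv.ofBijective (fun i => ⟨pt p i, pt_lt h i.2⟩)
    (Finite.surjective_iff_bijective.1 fun j => by
      obtain ⟨i, hi, h2⟩ := pt_surj h j.2
      exact ⟨⟨i, hi⟩, Fin.ext h2⟩)

@[simp] theorem permOf_val {v p : ℕ} (h : validCode v p = true) (i : Fin v) :
    (permOf h i).1 = pt p i := rfl

theorem ofMask_app {v p : ℕ} (h : validCode v p = true) (m : ℕ) :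
    ofMask v (app p m v) = (ofMask v m).image (permOf h) := by
  ext j
  rw [mem_ofMask, testBit_app, Finset.mem_image]
  constructor
  · rintro ⟨l, hl, h2, h3⟩
    exact ⟨⟨l, hl⟩, mem_ofMask.2 h2, Fin.ext h3⟩
  · rintro ⟨i, hi, rfl⟩
    exact ⟨i.1, i.2, mem_ofMask.1 hi, rfl⟩

/-! ### Transport of Steiner systems -/

theorem steiner_preimage {α β : Type*} [DecidableEq α] [DecidableEq β] {t k : ℕ}
    {B : Set (Finset α)} (hB : IsSteinerSystem t k B) (σ : β ≃ α) :
    IsSteinerSystem t k ((fun b : Finset β => b.image σ) ⁻¹' B) := by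
  refine ⟨fun b hb => ?_, fun s hs => ?_⟩
  · have := hB.1 _ hb
    rwa [Finset.card_image_of_injective _ σ.injective] at this
  · have hs' : (s.image σ).card = t := by
      rw [Finset.card_image_of_injective _ σ.injective, hs]
    obtain ⟨b, ⟨hb, hsb⟩, huniq⟩ := hB.2 _ hs'
    have himg : (b.image σ.symm).image σ = b := by
      rw [Finset.image_image]
      simp
    refine ⟨b.image σ.symm, ⟨?_, ?_⟩, ?_⟩
    · show (b.image σ.symm).image σ ∈ B
      rw [himg]; exact hb
    · intro x hx
      have : σ x ∈ b := hsb (Finset.mem_image_of_mem _ hx)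
      exact Finset.mem_image.2 ⟨σ x, this, by simp⟩
    · rintro c ⟨hc, hsc⟩
      have h1 : c.image σ = b := huniq _ ⟨hc, Finset.image_subset_image hsc⟩
      rw [← h1, Finset.image_image]
      simp

theorem image_image_perm {α : Type*} [DecidableEq α] (σ τ : Equiv.Perm α) (b : Finset α) :
    (b.image τ).image σ = b.image (σ * τ) := by
  rw [Finset.image_image]
  rfl

/-! ### The steps -/

/-- The jump rule. -/
theorem good_of_jump {L L' : List ℕ} {p : ℕ} (h : validCode v p = true)
    (hfix : ∀ i, i < F → pt p i = i) (hg : Good v t k F Std L')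
    (hsub : ∀ g ∈ L', app p g v ∈ L) : Good v t k F Std L := by
  intro B hB hL
  have hB' := steiner_preimage hB (permOf h)
  obtain ⟨τ, hτ, hτB⟩ := hg _ hB' (fun g hg' => by
    show (ofMask v g).image (permOf h) ∈ B
    rw [← ofMask_app h]
    exact hL _ (hsub g hg'))
  refine ⟨permOf h * τ, fun i hi => ?_, ?_⟩
  · rw [Equiv.Perm.mul_apply, hτ i hi]
    apply Fin.ext
    rw [permOf_val]
    exact hfix _ hi
  · ext b
    constructor
    · rintro ⟨s, hs, rfl⟩
      have h1 : s.image τ ∈ (fun b : Finset (Fin v) => b.image (permOf h)) ⁻¹' B :=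
        hτB ▸ ⟨s, hs, rfl⟩
      have h2 : (s.image τ).image (permOf h) ∈ B := h1
      rwa [image_image_perm] at h2
    · intro hb
      have h1 : b.image (permOf h).symm ∈ (fun b : Finset (Fin v) => b.image (permOf h)) ⁻¹' B := by
        show (b.image (permOf h).symm).image (permOf h) ∈ B
        rw [Finset.image_image]
        simpa using hb
      rw [← hτB] at h1
      obtain ⟨s, hs, hs2⟩ := h1
      refine ⟨s, hs, ?_⟩
      show s.image (permOf h * τ) = b
      rw [← image_image_perm]
      have : s.image τ = b.image (permOf h).symm := hs2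
      rw [this, Finset.image_image]
      simp

/-- The branching rule. -/
theorem good_of_cands {T : ℕ} {L : List ℕ} (hv : v ≤ 24) (hT : popN 6 T = t) (hTlt : T < 2 ^ v)
    (ht : 1 ≤ t)
    (h : ∀ C ∈ cands v t k T L, Good v t k F Std (C :: L)) : Good v t k F Std L := by
  intro B hB hL
  obtain ⟨C, hC, hCB⟩ := exists_cand hv hB hT hTlt hL ht
  refine h C hC B hB fun m hm => ?_
  rcases List.mem_cons.1 hm with rfl | hm
  · exact hCB
  · exact hL m hm

/-! ### The table -/

/-- Does the code fix the first `F` points? -/
def fixes : ℕ → ℕ → Bool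
  | 0, _ => true
  | F + 1, p => Nat.beq (pt p F) F && fixes F p

theorem fixes_spec {F p : ℕ} (h : fixes F p = true) {i : ℕ} (hi : i < F) : pt p i = i := by
  induction F with
  | zero => omega
  | succ F ih =>
    simp only [fixes, Bool.and_eq_true] at h
    by_cases hiF : i = F
    · subst hiF
      exact Nat.eq_of_beq_eq_true h.1
    · exact ih h.2 (by omega)

/-- Lookup. -/
def lookup : List (List ℕ) → ℕ → Option (List ℕ)
  | [], _ => none
  | g :: _, 0 => some g
  | _ :: E, j + 1 => lookup E j

theorem lookup_mem {E : List (List ℕ)} {j : ℕ} {g : List ℕ} (h : lookup E j = some g) : g ∈ E := by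
  induction E generalizing j with
  | nil => simp [lookup] at h
  | cons a E ih =>
    cases j with
    | zero =>
      simp only [lookup, Option.some.injEq] at h
      exact h ▸ List.mem_cons_self
    | succ j => exact List.mem_cons_of_mem _ (ih h)

/-- Kernel-friendly membership. -/
noncomputable def memNat (x : ℕ) (L : List ℕ) : Bool :=
  List.rec (motive := fun _ => Bool) false (fun a _ ih => Bool.rec ih true (Nat.beq x a)) L

theorem memNat_spec {x : ℕ} {L : List ℕ} (h : memNat x L = true) : x ∈ L := by
  induction L with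
  | nil => exact absurd h (by simp [memNat])
  | cons a L ih =>
    have h0 : memNat x (a :: L) = Bool.rec (memNat x L) true (Nat.beq x a) := rfl
    rw [h0] at h
    cases hb : Nat.beq x a with
    | true => exact Nat.eq_of_beq_eq_true hb ▸ List.mem_cons_self
    | false =>
      rw [hb] at h
      exact List.mem_cons_of_mem _ (ih h)

/-- All images are in `L`. -/
noncomputable def allImg (v p : ℕ) (L gs : List ℕ) : Bool :=
  List.rec (motive := fun _ => Bool) true
    (fun g _ ih => Bool.rec false ih (memNat (app p g v) L)) gs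

theorem allImg_spec {v p : ℕ} {L gs : List ℕ} (h : allImg v p L gs = true) :
    ∀ g ∈ gs, app p g v ∈ L := by
  induction gs with
  | nil => simp
  | cons a gs ih =>
    have h0 : allImg v p L (a :: gs) = Bool.rec false (allImg v p L gs) (memNat (app p a v) L) := rfl
    rw [h0] at h
    cases hb : memNat (app p a v) L with
    | false =>
      rw [hb] at h
      exact absurd h (by simp)
    | true =>
      rw [hb] at h
      intro g hg
      rcases List.mem_cons.1 hg with rfl | hg
      · exact memNat_spec hb
      · exact ih h g hg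

/-- One jump. -/
noncomputable def jumpOK (v F : ℕ) (E : List (List ℕ)) (L : List ℕ) (j p : ℕ) : Bool :=
  validCode v p && fixes F p &&
    (match lookup E j with
     | some g => allImg v p L g
     | none => false)

theorem good_of_jumpOK {E : List (List ℕ)} {L : List ℕ} {j p : ℕ}
    (hE : ∀ g ∈ E, Good v t k F Std g) (h : jumpOK v F E L j p = true) : Good v t k F Std L := by
  simp only [jumpOK, Bool.and_eq_true] at h
  obtain ⟨⟨h1, h2⟩, h3⟩ := h
  cases hj : lookup E j with
  | none => simp [hj] at h3
  | some g =>
    rw [hj] at h3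
    exact good_of_jump h1 (fun i hi => fixes_spec h2 hi) (hE g (lookup_mem hj)) (allImg_spec h3)

/-- The candidates against the children. -/
noncomputable def kidsOK (v F : ℕ) (E : List (List ℕ)) (L : List ℕ) : List ℕ → List (ℕ × ℕ) → Bool
  | [], [] => true
  | C :: Cs, (j, p) :: ks => jumpOK v F E (C :: L) j p && kidsOK v F E L Cs ks
  | _, _ => false

theorem good_of_kidsOK {E : List (List ℕ)} {L Cs : List ℕ} {ks : List (ℕ × ℕ)}
    (hE : ∀ g ∈ E, Good v t k F Std g) (h : kidsOK v F E L Cs ks = true) :
    ∀ C ∈ Cs, Good v t k F Std (C :: L) := by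
  induction Cs generalizing ks with
  | nil => simp
  | cons a Cs ih =>
    cases ks with
    | nil => simp [kidsOK] at h
    | cons x ks =>
      obtain ⟨j, p⟩ := x
      simp only [kidsOK, Bool.and_eq_true] at h
      intro C hC
      rcases List.mem_cons.1 hC with rfl | hC
      · exact good_of_jumpOK hE h.1
      · exact ih h.2 C hC

/-- The end of a chain. -/
noncomputable def lastOK (v t k F : ℕ) (E : List (List ℕ)) (L : List ℕ) (T : ℕ) (ks : List (ℕ × ℕ)) : Bool :=
  bif Nat.beq T 0 then
    (match ks with
     | [(j, p)] => jumpOK v F E L j p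
     | _ => false)
  else
    Nat.beq (popN 6 T) t && Nat.blt T (2 ^ v) && kidsOK v F E L (cands v t k T L) ks

/-- A chain of forced steps followed by the end. -/
noncomputable def chainOK (v t k F : ℕ) (E : List (List ℕ)) (T' : ℕ) (ks : List (ℕ × ℕ)) :
    List ℕ → List ℕ → Bool
  | [], L => lastOK v t k F E L T' ks
  | T :: Ts, L =>
    Nat.beq (popN 6 T) t && Nat.blt T (2 ^ v) &&
      (match cands v t k T L with
       | [] => true
       | [C] => chainOK v t k F E T' ks Ts (C :: L)
       | _ => false)

theorem good_of_lastOK {E : List (List ℕ)} {L : List ℕ} {T : ℕ} {ks : List (ℕ × ℕ)} (hv : v ≤ 24)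
    (ht : 1 ≤ t)
    (hE : ∀ g ∈ E, Good v t k F Std g) (h : lastOK v t k F E L T ks = true) :
    Good v t k F Std L := by
  unfold lastOK at h
  by_cases hT : T = 0
  · subst hT
    rw [nbeq_self] at h
    simp only [cond_true] at h
    match ks, h with
    | [(j, p)], h => exact good_of_jumpOK hE h
  · rw [nbeq_false hT] at h
    simp only [cond_false, Bool.and_eq_true] at h
    obtain ⟨⟨h1, h2⟩, h3⟩ := h
    exact good_of_cands hv (Nat.eq_of_beq_eq_true h1) (blt_lt h2) ht (good_of_kidsOK hE h3)

theorem good_of_chainOK {E : List (List ℕ)} {T' : ℕ} {ks : List (ℕ × ℕ)} {Ts L : List ℕ}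
    (hv : v ≤ 24) (ht : 1 ≤ t) (hE : ∀ g ∈ E, Good v t k F Std g) (h : chainOK v t k F E T' ks Ts L = true) :
    Good v t k F Std L := by
  induction Ts generalizing L with
  | nil => exact good_of_lastOK hv ht hE h
  | cons T Ts ih =>
    simp only [chainOK, Bool.and_eq_true] at h
    obtain ⟨⟨h1, h2⟩, h3⟩ := h
    apply good_of_cands hv (Nat.eq_of_beq_eq_true h1) (blt_lt h2) ht
    intro C hC
    cases hc : cands v t k T L with
    | nil => simp [hc] at hC
    | cons a l =>
      cases l with
      | nil =>
        rw [hc] at h3 hC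
        simp only [List.mem_singleton] at hC
        subst hC
        exact ih h3
      | cons b l =>
        rw [hc] at h3
        simp at h3

/-- One entry of the table: a state, the forced steps, and the end. -/
structure Entry where
  gens : List ℕ
  chain : List ℕ
  last : ℕ
  kids : List (ℕ × ℕ)

/-- The table is verified from the front; entries may refer to the earlier ones. -/
noncomputable def tableOK (v t k F : ℕ) : List (List ℕ) → List Entry → Bool
  | _, [] => true
  | E, e :: es =>
    chainOK v t k F E e.last e.kids e.chain e.gens && tableOK v t k F (e.gens :: E) es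

theorem good_of_tableOK {E : List (List ℕ)} {es : List Entry} (hv : v ≤ 24) (ht : 1 ≤ t)
    (hE : ∀ g ∈ E, Good v t k F Std g) (h : tableOK v t k F E es = true) :
    ∀ e ∈ es, Good v t k F Std e.gens := by
  induction es generalizing E with
  | nil => simp
  | cons a es ih =>
    simp only [tableOK, Bool.and_eq_true] at h
    have h1 : Good v t k F Std a.gens := good_of_chainOK hv ht hE h.1
    intro e he
    rcases List.mem_cons.1 he with rfl | he
    · exact h1
    · refine ih (E := a.gens :: E) ?_ h.2 e he
      intro g hg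
      rcases List.mem_cons.1 hg with rfl | hg
      · exact h1
      · exact hE g hg

/-! ### The final state -/

/-- Strictly increasing lists of masks below `2 ^ v`. -/
def stdOK (v : ℕ) : List ℕ → Bool
  | [] => true
  | [a] => Nat.blt a (2 ^ v)
  | a :: b :: L => Nat.blt a b && stdOK v (b :: L)

theorem stdOK_spec {v : ℕ} {L : List ℕ} (h : stdOK v L = true) :
    L.Pairwise (· < ·) ∧ ∀ a ∈ L, a < 2 ^ v := by
  induction L with
  | nil => simp
  | cons a L ih =>
    cases L with
    | nil =>
      simp only [stdOK] at h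
      simpa using blt_lt h
    | cons b L =>
      simp only [stdOK, Bool.and_eq_true] at h
      obtain ⟨hnd, hlt⟩ := ih h.2
      have hab : a < b := blt_lt h.1
      refine ⟨List.pairwise_cons.2 ⟨fun x hx => ?_, hnd⟩, fun x hx => ?_⟩
      · rcases List.mem_cons.1 hx with rfl | hx
        · exact hab
        · exact hab.trans ((List.pairwise_cons.1 hnd).1 x hx)
      · rcases List.mem_cons.1 hx with rfl | hx
        · exact hab.trans (hlt b List.mem_cons_self)
        · exact hlt x hx

theorem ofMask_inj {v a b : ℕ} (ha : a < 2 ^ v) (hb : b < 2 ^ v) (h : ofMask v a = ofMask v b) :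
    a = b := by
  apply Nat.eq_of_testBit_eq
  intro j
  by_cases hj : j < v
  · have : (⟨j, hj⟩ : Fin v) ∈ ofMask v a ↔ (⟨j, hj⟩ : Fin v) ∈ ofMask v b := by rw [h]
    rw [mem_ofMask, mem_ofMask] at this
    exact Bool.eq_iff_iff.2 this
  · have h1 : 2 ^ v ≤ 2 ^ j := Nat.pow_le_pow_right (by norm_num) (by omega)
    rw [Nat.testBit_lt_two_pow (ha.trans_le h1), Nat.testBit_lt_two_pow (hb.trans_le h1)]

/-- The system coded by a list of masks. -/
def stdSet (v : ℕ) (L : List ℕ) : Set (Finset (Fin v)) := ofMask v '' {m | m ∈ L}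

theorem ncard_stdSet {v : ℕ} {L : List ℕ} (h : stdOK v L = true) :
    (stdSet v L).ncard = L.length := by
  obtain ⟨h1, h2⟩ := stdOK_spec h
  have hnd : L.Nodup := h1.imp (fun h => ne_of_lt h)
  have hinj : Set.InjOn (ofMask v) {m | m ∈ L} := fun a ha b hb hab =>
    ofMask_inj (h2 a ha) (h2 b hb) hab
  rw [stdSet, Set.InjOn.ncard_image hinj]
  have : {m | m ∈ L} = (↑L.toFinset : Set ℕ) := by
    ext m; simp
  rw [this, Set.ncard_coe_finset, List.toFinset_card_of_nodup hnd]

/-- A Steiner system containing a system of the right size is equal to it. -/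
theorem good_std {v t k F : ℕ} {L : List ℕ} (h : stdOK v L = true)
    (hlen : L.length * Nat.choose k t = Nat.choose v t) (hpos : 0 < Nat.choose k t) :
    Good v t k F (stdSet v L) L := by
  intro B hB hL
  refine ⟨1, fun _ _ => rfl, ?_⟩
  have hsub : stdSet v L ⊆ B := by
    rintro _ ⟨m, hm, rfl⟩
    exact hL m hm
  have hcount : B.ncard * Nat.choose k t = Nat.choose v t := by
    have h0 := Cfsg.Agent.Lib.SteinerDesign.blockCount_mul_choose hB ∅ (by simp)
    simp only [Finset.card_empty, Nat.sub_zero, Fintype.card_fin] at h0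
    rw [← h0]
    congr 1
    unfold Cfsg.Agent.Lib.SteinerDesign.blockCount
    congr 1
    ext c
    simp
  have hcard : B.ncard = (stdSet v L).ncard := by
    rw [ncard_stdSet h]
    exact Nat.eq_of_mul_eq_mul_right hpos (hcount.trans hlen.symm)
  have heq : stdSet v L = B := Set.eq_of_subset_of_ncard_le hsub hcard.le (Set.toFinite _)
  ext b
  simp only [Set.mem_image, Equiv.Perm.coe_one, Finset.image_id]
  constructor
  · rintro ⟨s, hs, rfl⟩
    have := heq ▸ hs
    simpa using this
  · intro hb
    exact ⟨b, heq ▸ hb, by simp⟩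

/-- The main theorem of the search. -/
theorem main_search {v t k F : ℕ} {L : List ℕ} {es : List Entry} (hv : v ≤ 24) (ht : 1 ≤ t)
    (hstd : stdOK v L = true) (hlen : L.length * Nat.choose k t = Nat.choose v t)
    (hpos : 0 < Nat.choose k t) (htab : tableOK v t k F [L] es = true) {e : Entry} (he : e ∈ es)
    (hgens : e.gens = []) : Good v t k F (stdSet v L) [] := by
  have h1 := good_of_tableOK (Std := stdSet v L) (E := [L]) hv ht (by
    intro g hg
    rw [List.mem_singleton] at hg
    subst hg
    exact good_std hstd hlen hpos) htab e he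
  rwa [hgens] at h1

/-! ### Isomorphisms -/

theorem setIso_symm {α β : Type*} [DecidableEq α] [DecidableEq β] {B : Set (Finset α)}
    {C : Set (Finset β)} (h : SetSystemIso B C) : SetSystemIso C B := by
  obtain ⟨e, rfl⟩ := h
  refine ⟨e.symm, ?_⟩
  rw [Set.image_image]
  convert Set.image_id B using 2
  rw [Finset.image_image]
  simp

theorem setIso_trans {α β γ : Type*} [DecidableEq β] [DecidableEq γ] {A : Set (Finset α)}
    {B : Set (Finset β)} {C : Set (Finset γ)} (h₁ : SetSystemIso A B) (h₂ : SetSystemIso B C) :
    SetSystemIso A C := by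
  obtain ⟨e, rfl⟩ := h₁
  obtain ⟨f, rfl⟩ := h₂
  refine ⟨e.trans f, ?_⟩
  rw [Set.image_image]
  refine Set.image_congr fun b _ => ?_
  rw [Finset.image_image]
  rfl

theorem steiner_image {α β : Type*} [DecidableEq α] [DecidableEq β] {t k : ℕ}
    {B : Set (Finset α)} (hB : IsSteinerSystem t k B) (e : α ≃ β) :
    IsSteinerSystem t k ((fun b : Finset α => b.image e) '' B) := by
  have h := steiner_preimage hB e.symm
  have heq : (fun b : Finset α => b.image e) '' B =
      (fun b : Finset β => b.image e.symm) ⁻¹' B := by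
    ext c
    constructor
    · rintro ⟨b, hb, rfl⟩
      show (b.image e).image e.symm ∈ B
      rw [Finset.image_image]
      simpa using hb
    · intro hc
      refine ⟨c.image e.symm, hc, ?_⟩
      show (c.image e.symm).image e = c
      rw [Finset.image_image]
      simp
  rw [heq]
  exact h

/-- Uniqueness for a pair of systems over arbitrary types. -/
theorem iso_of_good {v t k F : ℕ} {Std : Set (Finset (Fin v))} (H : Good v t k F Std [])
    {α β : Type*} [Fintype α] [DecidableEq α] [Fintype β] [DecidableEq β]
    (hα : Fintype.card α = v) (hβ : Fintype.card β = v) {B : Set (Finset α)} {B' : Set (Finset β)}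
    (hB : IsSteinerSystem t k B) (hB' : IsSteinerSystem t k B') : SetSystemIso B B' := by
  let e₁ : α ≃ Fin v := Fintype.equivFinOfCardEq hα
  let e₂ : β ≃ Fin v := Fintype.equivFinOfCardEq hβ
  obtain ⟨σ₁, -, h1⟩ := H _ (steiner_image hB e₁) (by simp)
  obtain ⟨σ₂, -, h2⟩ := H _ (steiner_image hB' e₂) (by simp)
  have i1 : SetSystemIso B ((fun b : Finset α => b.image e₁) '' B) := ⟨e₁, rfl⟩
  have i2 : SetSystemIso B' ((fun b : Finset β => b.image e₂) '' B') := ⟨e₂, rfl⟩
  have i3 : SetSystemIso Std ((fun b : Finset α => b.image e₁) '' B) := ⟨σ₁, h1⟩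
  have i4 : SetSystemIso Std ((fun b : Finset β => b.image e₂) '' B') := ⟨σ₂, h2⟩
  exact setIso_trans (setIso_trans i1 (setIso_symm i3)) (setIso_trans i4 (setIso_symm i2))

end Cfsg.Agent.Lib.SteinerSearch
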