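import Mathlib
import Cfsg.Prelude.Def_Sporadic_a
import Cfsg.Agent.Lib.SteinerSearch

set_option autoImplicit false
set_option linter.unusedSectionVars false
set_option linter.unusedSimpArgs false
set_option linter.unusedVariables false
set_option linter.unnecessarySimpa false

/-!
# Automorphism groups of Steiner systems

Transport of automorphism groups along isomorphisms of set systems, relabelling with prescribed
points (from `Good` with fixed points), and a verified depth-first enumeration of the automorphisms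
of a concrete system fixing the first `F` points.
-/

namespace Cfsg.Agent.Lib.SteinerAut
open Finset Cfsg Cfsg.Agent.Lib.SteinerSearch
open scoped Pointwise

section Transport

variable {α β : Type*} [DecidableEq α] [DecidableEq β]

theorem mem_aut_iff {B : Set (Finset α)} {g : Equiv.Perm α} :
    g ∈ setSystemAut B ↔ (fun b : Finset α => b.image g) '' B = B := by
  rw [setSystemAut, MulAction.mem_stabilizer_iff]
  have h1 : g • B = (fun b : Finset α => g • b) '' B := rfl
  have h2 : (fun b : Finset α => g • b) = fun b : Finset α => b.image g := by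
    funext b
    rfl
  rw [h1, h2]

theorem image_conj (e : α ≃ β) (g : Equiv.Perm α) (b : Finset α) :
    (b.image e).image (e.permCongr g) = (b.image g).image e := by
  rw [Finset.image_image, Finset.image_image]
  apply Finset.image_congr
  intro x _
  simp [Equiv.permCongr_apply]

theorem conj_mem_aut {B : Set (Finset α)} {B' : Set (Finset β)} (e : α ≃ β)
    (h : (fun b : Finset α => b.image e) '' B = B') {g : Equiv.Perm α} (hg : g ∈ setSystemAut B) :
    e.permCongr g ∈ setSystemAut B' := by
  rw [mem_aut_iff] at hg ⊢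
  subst h
  rw [Set.image_image]
  simp only [image_conj]
  have : (fun a : Finset α => (a.image g).image e) =
      (fun b : Finset α => b.image e) ∘ (fun b : Finset α => b.image g) := rfl
  rw [this, Set.image_comp, hg]

theorem symm_image {B : Set (Finset α)} {B' : Set (Finset β)} (e : α ≃ β)
    (h : (fun b : Finset α => b.image e) '' B = B') :
    (fun b : Finset β => b.image e.symm) '' B' = B := by
  subst h
  rw [Set.image_image]
  convert Set.image_id B using 2
  rw [Finset.image_image]
  simp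

/-- Isomorphic systems have isomorphic automorphism groups. -/
noncomputable def autEquiv {B : Set (Finset α)} {B' : Set (Finset β)} (e : α ≃ β)
    (h : (fun b : Finset α => b.image e) '' B = B') : setSystemAut B ≃* setSystemAut B' where
  toFun g := ⟨e.permCongr g.1, conj_mem_aut e h g.2⟩
  invFun g := ⟨e.symm.permCongr g.1, conj_mem_aut e.symm (symm_image e h) g.2⟩
  left_inv g := by
    apply Subtype.ext
    ext x
    simp [Equiv.permCongr_apply]
  right_inv g := by
    apply Subtype.ext
    ext x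
    simp [Equiv.permCongr_apply]
  map_mul' g g' := by
    apply Subtype.ext
    ext x
    simp [Equiv.permCongr_apply]

theorem autEquiv_apply {B : Set (Finset α)} {B' : Set (Finset β)} (e : α ≃ β)
    (h : (fun b : Finset α => b.image e) '' B = B') (g : setSystemAut B) (x : α) :
    (autEquiv e h g).1 (e x) = e (g.1 x) := by
  simp [autEquiv, Equiv.permCongr_apply]

theorem pretrans_transport {B : Set (Finset α)} {B' : Set (Finset β)} (e : α ≃ β)
    (h : (fun b : Finset α => b.image e) '' B = B') (n : ℕ)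
    [hp : MulAction.IsMultiplyPretransitive (setSystemAut B') β n] :
    MulAction.IsMultiplyPretransitive (setSystemAut B) α n := by
  refine ⟨fun x y => ?_⟩
  let x' : Fin n ↪ β := x.trans e.toEmbedding
  let y' : Fin n ↪ β := y.trans e.toEmbedding
  obtain ⟨g, hg⟩ := MulAction.exists_smul_eq (setSystemAut B') x' y'
  refine ⟨(autEquiv e h).symm g, ?_⟩
  ext i
  have h1 : (g • x') i = y' i := by rw [hg]
  have h2 : g.1 (e (x i)) = e (y i) := h1
  have h3 := autEquiv_apply e h ((autEquiv e h).symm g) (x i)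
  rw [MulEquiv.apply_symm_apply, h2] at h3
  exact (e.injective h3).symm

end Transport

section Labelled

variable {v t k F : ℕ} {Std : Set (Finset (Fin v))}

/-- The standard tuple. -/
def stdTuple (hF : F ≤ v) : Fin F ↪ Fin v := Fin.castLEEmb hF

/-- A system with prescribed points is carried to the standard one, the points going to the first
labels. -/
theorem exists_label (H : Good v t k F Std []) (hF : F ≤ v) {α : Type*} [Fintype α]
    [DecidableEq α] (hα : Fintype.card α = v) {B : Set (Finset α)} (hB : IsSteinerSystem t k B)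
    (x : Fin F ↪ α) :
    ∃ f : α ≃ Fin v, (fun b : Finset α => b.image f) '' B = Std ∧ ∀ i, f (x i) = stdTuple hF i := by
  classical
  let e₀ : α ≃ Fin v := Fintype.equivFinOfCardEq hα
  have hpt : MulAction.IsMultiplyPretransitive (Equiv.Perm (Fin v)) (Fin v) F :=
    Equiv.Perm.isMultiplyPretransitive (Fin v) F
  obtain ⟨π, hπ⟩ := MulAction.exists_smul_eq (Equiv.Perm (Fin v))
    (x.trans e₀.toEmbedding) (stdTuple hF)
  let e₁ : α ≃ Fin v := e₀.trans π
  have he₁ : ∀ i, e₁ (x i) = stdTuple hF i := fun i => by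
    have := congrArg (fun z : Fin F ↪ Fin v => z i) hπ
    exact this
  obtain ⟨σ, hσ, hσB⟩ := H _ (steiner_image hB e₁) (by simp)
  refine ⟨e₁.trans σ.symm, ?_, fun i => ?_⟩
  · have hinv := symm_image σ hσB
    rw [← hinv]
    ext c
    simp only [Set.mem_image]
    constructor
    · rintro ⟨b, hb, rfl⟩
      refine ⟨b.image e₁, ⟨b, hb, rfl⟩, ?_⟩
      rw [Finset.image_image]
      rfl
    · rintro ⟨_, ⟨b, hb, rfl⟩, rfl⟩
      refine ⟨b, hb, ?_⟩
      rw [Finset.image_image]
      rfl
  · show σ.symm (e₁ (x i)) = stdTuple hF i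
    rw [he₁, Equiv.symm_apply_eq]
    exact (hσ _ (by simp [stdTuple])).symm

/-- `F`-transitivity of the automorphism group. -/
theorem pretrans_of_good (H : Good v t k F Std []) (hF : F ≤ v) {α : Type*} [Fintype α]
    [DecidableEq α] (hα : Fintype.card α = v) {B : Set (Finset α)} (hB : IsSteinerSystem t k B) :
    MulAction.IsMultiplyPretransitive (setSystemAut B) α F := by
  refine ⟨fun x y => ?_⟩
  obtain ⟨f, hf, hfx⟩ := exists_label H hF hα hB x
  obtain ⟨f', hf', hfy⟩ := exists_label H hF hα hB y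
  let g : Equiv.Perm α := f.trans f'.symm
  have hg : g ∈ setSystemAut B := by
    rw [mem_aut_iff]
    have h2 : (fun b : Finset α => b.image g) =
        (fun b : Finset (Fin v) => b.image f'.symm) ∘ (fun b : Finset α => b.image f) := by
      funext b
      simp only [Function.comp]
      rw [Finset.image_image]
      rfl
    rw [h2, Set.image_comp, hf, symm_image f' hf']
  refine ⟨⟨g, hg⟩, ?_⟩
  ext i
  show f'.symm (f (x i)) = y i
  rw [hfx, Equiv.symm_apply_eq, hfy]

/-- A relabelling carries automorphisms fixing the tuple to automorphisms fixing the first labels. -/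
theorem conj_fix (hF : F ≤ v) {α : Type*} (f : α ≃ Fin v)
    (x : Fin F ↪ α) (hfx : ∀ i, f (x i) = stdTuple hF i) {g : Equiv.Perm α}
    (hg : ∀ i, g (x i) = x i) (i : Fin v) (hi : i.1 < F) : f.permCongr g i = i := by
  have h1 : stdTuple hF ⟨i.1, hi⟩ = i := Fin.ext rfl
  rw [← h1, ← hfx, Equiv.permCongr_apply]
  simp [hg]

end Labelled

/-! ### Depth-first enumeration of automorphisms -/

section Enumeration

/-- Evaluate a number before using it (the kernel is lazy). -/
noncomputable def forceN {β : Type} (n : ℕ) (g : ℕ → β) : β :=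
  Nat.rec (motive := fun _ => β) (g (nat_lit 0)) (fun k _ => g (Nat.succ k)) n

theorem forceN_eq {β : Type} (n : ℕ) (g : ℕ → β) : forceN n g = g n := by
  cases n <;> rfl

/-- Is the mask `I` inside a block of `L`? -/
noncomputable def supIn (I : ℕ) (L : List ℕ) : Bool :=
  List.rec (motive := fun _ => Bool) false
    (fun b _ ih => Bool.rec ih true (Nat.beq (Nat.land I b) I)) L

theorem supIn_of {I : ℕ} {L : List ℕ} {b : ℕ} (hb : b ∈ L) (h : Nat.land I b = I) :
    supIn I L = true := by
  induction L with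
  | nil => simp at hb
  | cons a L ih =>
    have h0 : supIn I (a :: L) = Bool.rec (supIn I L) true (Nat.beq (Nat.land I a) I) := rfl
    rw [h0]
    rcases List.mem_cons.1 hb with rfl | hb
    · rw [h, nbeq_self]
    · rw [ih hb]
      cases Nat.beq (Nat.land I a) I <;> rfl

/-- Consistency of a partial assignment of the points up to `i` (with the mask of assigned points). -/
noncomputable def consAux (t : ℕ) (L0 : List ℕ) (c i A : ℕ) (L : List ℕ) : Bool :=
  List.rec (motive := fun _ => Bool) true
    (fun b _ ih =>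
      Bool.rec ih
        (forceN (Nat.land b A) fun S =>
          Bool.rec
            (Bool.rec false ih (forceN (app c S (Nat.succ i)) fun I => supIn I L0))
            ih
            (Nat.ble (popN (nat_lit 6) S) t))
        (tb b i)) L

/-- Consistency of a partial assignment of the points up to `i`. -/
noncomputable def consOK (t : ℕ) (L0 : List ℕ) (c i : ℕ) (L : List ℕ) : Bool :=
  forceN (Nat.sub (Nat.pow (nat_lit 2) (Nat.succ i)) (nat_lit 1)) fun A => consAux t L0 c i A L

theorem consOK_of {t c i : ℕ} {L0 L : List ℕ}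
    (h : ∀ b ∈ L, supIn (app c (Nat.land b (Nat.sub (Nat.pow 2 (Nat.succ i)) 1))
      (Nat.succ i)) L0 = true) : consOK t L0 c i L = true := by
  unfold consOK
  rw [forceN_eq]
  generalize Nat.sub (Nat.pow 2 (Nat.succ i)) 1 = A at h
  induction L with
  | nil => rfl
  | cons a L' ih =>
    have ih' := ih fun b hb => h b (List.mem_cons_of_mem _ hb)
    have h1 := h a List.mem_cons_self
    have h0 : consAux t L0 c i A (a :: L') = Bool.rec (motive := fun _ => Bool) (consAux t L0 c i A L')
        (forceN (Nat.land a A) fun S =>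
          Bool.rec (motive := fun _ => Bool)
            (Bool.rec (motive := fun _ => Bool) false (consAux t L0 c i A L')
              (forceN (app c S (Nat.succ i)) fun I => supIn I L0))
            (consAux t L0 c i A L') (Nat.ble (popN 6 S) t)) (tb a i) := rfl
    rw [h0, ih']
    simp only [forceN_eq]
    rw [h1]
    cases tb a i <;> cases Nat.ble (popN 6 (Nat.land a A)) t <;> rfl

/-- Try the image `x` for the point `i`. -/
noncomputable def stepX (t : ℕ) (L LC : List ℕ) (ih : ℕ → ℕ → ℕ → List ℕ → List ℕ) (i c u x : ℕ)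
    (acc : List ℕ) : List ℕ :=
  Bool.rec
    (forceN (Nat.add c (Nat.mul x (Nat.pow (nat_lit 32) i))) fun c' =>
      Bool.rec acc
        (forceN (Nat.lor u (Nat.pow (nat_lit 2) x)) fun u' => ih (Nat.succ i) c' u' acc)
        (consOK t L c' i LC))
    acc (tb u x)

theorem stepX_eq (t : ℕ) (L LC : List ℕ) (ih : ℕ → ℕ → ℕ → List ℕ → List ℕ) (i c u x : ℕ)
    (acc : List ℕ) : stepX t L LC ih i c u x acc = Bool.rec (motive := fun _ => List ℕ)
      (Bool.rec (motive := fun _ => List ℕ) acc
        (ih (Nat.succ i) (Nat.add c (Nat.mul x (Nat.pow 32 i))) (Nat.lor u (Nat.pow 2 x)) acc)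
        (consOK t L (Nat.add c (Nat.mul x (Nat.pow 32 i))) i LC))
      acc (tb u x) := by
  unfold stepX
  simp only [forceN_eq]

/-- Try all images below `m`. -/
noncomputable def loopX (t : ℕ) (L LC : List ℕ) (ih : ℕ → ℕ → ℕ → List ℕ → List ℕ) (i c u m : ℕ)
    (acc : List ℕ) : List ℕ :=
  Nat.rec (motive := fun _ => List ℕ → List ℕ) (fun acc => acc)
    (fun x irec acc => irec (stepX t L LC ih i c u x acc)) m acc

/-- The enumeration. -/
noncomputable def dfs (v t : ℕ) (L LC : List ℕ) (n : ℕ) : ℕ → ℕ → ℕ → List ℕ → List ℕ :=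
  Nat.rec (motive := fun _ => ℕ → ℕ → ℕ → List ℕ → List ℕ)
    (fun _ c _ acc => c :: acc)
    (fun _ ih i c u acc => loopX t L LC ih i c u v acc) n

theorem stepX_mono {t : ℕ} {L LC : List ℕ} {ih : ℕ → ℕ → ℕ → List ℕ → List ℕ}
    (hm : ∀ i c u acc y, y ∈ acc → y ∈ ih i c u acc) {i c u x : ℕ} {acc : List ℕ} {y : ℕ}
    (hy : y ∈ acc) : y ∈ stepX t L LC ih i c u x acc := by
  rw [stepX_eq]
  cases tb u x with
  | true => exact hy
  | false =>
    cases consOK t L (Nat.add c (Nat.mul x (Nat.pow 32 i))) i LC with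
    | false => exact hy
    | true => exact hm _ _ _ _ _ hy

theorem loopX_mono {t : ℕ} {L LC : List ℕ} {ih : ℕ → ℕ → ℕ → List ℕ → List ℕ}
    (hm : ∀ i c u acc y, y ∈ acc → y ∈ ih i c u acc) {i c u m : ℕ} {acc : List ℕ} {y : ℕ}
    (hy : y ∈ acc) : y ∈ loopX t L LC ih i c u m acc := by
  induction m generalizing acc with
  | zero => exact hy
  | succ x ih' => exact ih' (stepX_mono hm hy)

theorem loopX_hit {t : ℕ} {L LC : List ℕ} {ih : ℕ → ℕ → ℕ → List ℕ → List ℕ}
    (hm : ∀ i c u acc y, y ∈ acc → y ∈ ih i c u acc) {i c u m x : ℕ} {acc : List ℕ} {y : ℕ}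
    (hx : x < m) (h1 : tb u x = false)
    (h2 : consOK t L (Nat.add c (Nat.mul x (Nat.pow 32 i))) i LC = true)
    (h3 : ∀ acc, y ∈ ih (Nat.succ i) (Nat.add c (Nat.mul x (Nat.pow 32 i)))
      (Nat.lor u (Nat.pow 2 x)) acc) : y ∈ loopX t L LC ih i c u m acc := by
  induction m generalizing acc with
  | zero => omega
  | succ m ih' =>
    show y ∈ loopX t L LC ih i c u m (stepX t L LC ih i c u m acc)
    by_cases hxm : x = m
    · subst hxm
      apply loopX_mono hm
      have h4 : stepX t L LC ih i c u x acc = ih (Nat.succ i)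
          (Nat.add c (Nat.mul x (Nat.pow 32 i))) (Nat.lor u (Nat.pow 2 x)) acc := by
        rw [stepX_eq, h1]
        show Bool.rec (motive := fun _ => List ℕ) acc
            (ih (Nat.succ i) (Nat.add c (Nat.mul x (Nat.pow 32 i))) (Nat.lor u (Nat.pow 2 x)) acc)
            (consOK t L (Nat.add c (Nat.mul x (Nat.pow 32 i))) i LC) = _
        rw [h2]
      rw [h4]
      exact h3 _
    · exact ih' (by omega)

theorem dfs_mono (v t : ℕ) (L LC : List ℕ) (n i c u : ℕ) {acc : List ℕ} {y : ℕ} (hy : y ∈ acc) :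
    y ∈ dfs v t L LC n i c u acc := by
  induction n generalizing i c u acc y with
  | zero => exact List.mem_cons_of_mem _ hy
  | succ n ih =>
    exact loopX_mono (ih := dfs v t L LC n) (fun i c u acc y hy => ih i c u hy) hy

variable {v : ℕ}

/-- The image of a number under a permutation (zero out of range). -/
def imgOf (σ : Equiv.Perm (Fin v)) (i : ℕ) : ℕ := if h : i < v then (σ ⟨i, h⟩).1 else 0

/-- The code of the first `i` images. -/
def codeOf (σ : Equiv.Perm (Fin v)) : ℕ → ℕ
  | 0 => 0
  | i + 1 => codeOf σ i + imgOf σ i * 32 ^ i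

theorem imgOf_lt (σ : Equiv.Perm (Fin v)) {i : ℕ} (hi : i < v) : imgOf σ i < v := by
  simp [imgOf, hi]

theorem imgOf_lt32 (hv : v ≤ 24) (σ : Equiv.Perm (Fin v)) (i : ℕ) : imgOf σ i < 32 := by
  by_cases hi : i < v
  · have := imgOf_lt σ hi
    omega
  · simp [imgOf, hi]

theorem codeOf_lt (hv : v ≤ 24) (σ : Equiv.Perm (Fin v)) (i : ℕ) : codeOf σ i < 32 ^ i := by
  induction i with
  | zero => simp [codeOf]
  | succ i ih =>
    have h1 := imgOf_lt32 hv σ i
    rw [codeOf, pow_succ]
    have h2 : imgOf σ i * 32 ^ i ≤ 31 * 32 ^ i := Nat.mul_le_mul_right _ (by omega)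
    omega

theorem pt_eq (p j : ℕ) : pt p j = p / 32 ^ j % 32 := by
  show (p >>> (5 * j)) % 32 = _
  rw [Nat.shiftRight_eq_div_pow, pow_mul]
  norm_num

theorem pt_append {c x i j : ℕ} (hc : c < 32 ^ i) (hx : x < 32) (hj : j ≤ i) :
    pt (c + x * 32 ^ i) j = if j = i then x else pt c j := by
  rw [pt_eq]
  by_cases hji : j = i
  · subst hji
    rw [if_pos rfl, Nat.add_mul_div_right _ _ (by positivity), Nat.div_eq_of_lt hc, zero_add,
      Nat.mod_eq_of_lt hx]
  · rw [if_neg hji, pt_eq]
    obtain ⟨d, rfl⟩ : ∃ d, i = j + (d + 1) := ⟨i - j - 1, by omega⟩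
    have h1 : x * 32 ^ (j + (d + 1)) = (x * 32 ^ d * 32) * 32 ^ j := by ring
    rw [h1, Nat.add_mul_div_right _ _ (by positivity), Nat.add_mul_mod_self_right]

theorem pt_codeOf (hv : v ≤ 24) (σ : Equiv.Perm (Fin v)) {i j : ℕ} (hj : j < i) :
    pt (codeOf σ i) j = imgOf σ j := by
  induction i with
  | zero => omega
  | succ i ih =>
    rw [codeOf, pt_append (codeOf_lt hv σ i) (imgOf_lt32 hv σ i) (by omega)]
    by_cases hji : j = i
    · rw [if_pos hji, hji]
    · rw [if_neg hji]
      exact ih (by omega)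

/-- `σ` permutes the blocks of `L`. -/
def IsAutOf (L : List ℕ) (σ : Equiv.Perm (Fin v)) : Prop :=
  ∀ m ∈ L, ∃ m' ∈ L, (ofMask v m).image σ = ofMask v m'

theorem land_of_bits {I m : ℕ} (h : ∀ j, I.testBit j = true → m.testBit j = true) :
    Nat.land I m = I := by
  apply Nat.eq_of_testBit_eq
  intro j
  show (I &&& m).testBit j = _
  rw [Nat.testBit_land]
  cases hI : I.testBit j with
  | false => simp
  | true => simp [h j hI]

theorem consOK_codeOf (hv : v ≤ 24) {t : ℕ} {L LC : List ℕ} {σ : Equiv.Perm (Fin v)}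
    (hσ : IsAutOf L σ) (hLC : ∀ b ∈ LC, b ∈ L) {i : ℕ} (hi : i < v) :
    consOK t L (codeOf σ (i + 1)) i LC = true := by
  apply consOK_of
  intro b hb
  obtain ⟨m', hm', himg⟩ := hσ b (hLC b hb)
  apply supIn_of hm'
  apply land_of_bits
  intro j hj
  rw [testBit_app] at hj
  obtain ⟨l, hl, h2, h3⟩ := hj
  have hl' : l < i + 1 := hl
  rw [pt_codeOf hv σ hl'] at h3
  have h4 : b.testBit l = true := by
    have h5 : Nat.land b (Nat.sub (Nat.pow 2 (Nat.succ i)) 1) =
      b &&& (2 ^ (i + 1) - 1) := rfl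
    rw [h5, Nat.testBit_land] at h2
    simp only [Bool.and_eq_true] at h2
    exact h2.1
  have hlv : l < v := by omega
  have h6 : (⟨l, hlv⟩ : Fin v) ∈ ofMask v b := mem_ofMask.2 h4
  have h7 : σ ⟨l, hlv⟩ ∈ ofMask v m' := by
    rw [← himg]
    exact Finset.mem_image_of_mem _ h6
  have h8 := mem_ofMask.1 h7
  have h9 : imgOf σ l = (σ ⟨l, hlv⟩).1 := by simp [imgOf, hlv]
  rw [h9] at h3
  rw [← h3]
  exact h8

theorem dfs_complete (hv : v ≤ 24) {t : ℕ} {L LC : List ℕ} {σ : Equiv.Perm (Fin v)}
    (hσ : IsAutOf L σ) (hLC : ∀ b ∈ LC, b ∈ L) (n i u : ℕ) (hin : i + n = v) (hu : ∀ j, u.testBit j = true → ∃ l, l < i ∧ imgOf σ l = j)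
    (acc : List ℕ) : codeOf σ v ∈ dfs v t L LC n i (codeOf σ i) u acc := by
  induction n generalizing i u acc with
  | zero =>
    have : i = v := by omega
    subst this
    exact List.mem_cons_self
  | succ n ih =>
    have hi : i < v := by omega
    have hx := imgOf_lt σ hi
    have h1 : tb u (imgOf σ i) = false := by
      rw [tb_eq]
      cases hb : u.testBit (imgOf σ i) with
      | false => rfl
      | true =>
        exfalso
        obtain ⟨l, hl, h2⟩ := hu _ hb
        have hlv : l < v := by omega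
        have h3 : imgOf σ l = (σ ⟨l, hlv⟩).1 := by simp [imgOf, hlv]
        have h4 : imgOf σ i = (σ ⟨i, hi⟩).1 := by simp [imgOf, hi]
        rw [h3, h4] at h2
        have h5 := σ.injective (Fin.ext h2)
        have h6 : l = i := congrArg Fin.val h5
        omega
    have hcode : Nat.add (codeOf σ i) (Nat.mul (imgOf σ i) (Nat.pow 32 i)) = codeOf σ (i + 1) := rfl
    apply loopX_hit (x := imgOf σ i) (fun i c u acc y hy => dfs_mono v t L LC n i c u hy) hx h1
    · rw [hcode]
      exact consOK_codeOf hv hσ hLC hi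
    · intro acc'
      rw [hcode]
      apply ih (i + 1) _ (by omega)
      intro j hj
      have h5 : Nat.lor u (Nat.pow 2 (imgOf σ i)) = u ||| 2 ^ imgOf σ i := rfl
      rw [h5, Nat.testBit_or, Bool.or_eq_true, Nat.testBit_two_pow] at hj
      rcases hj with hj | hj
      · obtain ⟨l, hl, h2⟩ := hu j hj
        exact ⟨l, by omega, h2⟩
      · exact ⟨i, by omega, by simpa using hj⟩

/-- The code of the identity on the first points. -/
def idCode : ℕ → ℕ
  | 0 => 0
  | i + 1 => idCode i + i * 32 ^ i

/-- All codes of automorphisms fixing the first `F` points. -/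
noncomputable def dfsRoot (v t : ℕ) (L LC : List ℕ) (F : ℕ) : List ℕ :=
  dfs v t L LC (Nat.sub v F) F (idCode F) (Nat.sub (Nat.pow 2 F) 1) []

theorem imgOf_fix {F : ℕ} {σ : Equiv.Perm (Fin v)} (hF : F ≤ v) (hfix : ∀ i : Fin v, i.1 < F → σ i = i)
    {j : ℕ} (hj : j < F) : imgOf σ j = j := by
  have hjv : j < v := by omega
  simp [imgOf, hjv, hfix ⟨j, hjv⟩ hj]

theorem codeOf_fix {F : ℕ} {σ : Equiv.Perm (Fin v)} (hF : F ≤ v)
    (hfix : ∀ i : Fin v, i.1 < F → σ i = i) {n : ℕ} (hn : n ≤ F) : codeOf σ n = idCode n := by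
  induction n with
  | zero => rfl
  | succ n ih =>
    rw [codeOf, idCode, ih (by omega), imgOf_fix hF hfix (by omega)]

theorem mem_dfsRoot (hv : v ≤ 24) {t F : ℕ} {L LC : List ℕ} {σ : Equiv.Perm (Fin v)} (hF : F ≤ v)
    (hσ : IsAutOf L σ) (hLC : ∀ b ∈ LC, b ∈ L) (hfix : ∀ i : Fin v, i.1 < F → σ i = i) :
    codeOf σ v ∈ dfsRoot v t L LC F := by
  unfold dfsRoot
  have h1 := dfs_complete hv (t := t) hσ hLC (Nat.sub v F) F (Nat.sub (Nat.pow 2 F) 1)
    (by show F + (v - F) = v; omega) (by
      intro j hj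
      have h2 : Nat.sub (Nat.pow 2 F) 1 = 2 ^ F - 1 := rfl
      rw [h2, Nat.testBit_two_pow_sub_one] at hj
      have hjF : j < F := by simpa using hj
      exact ⟨j, hjF, imgOf_fix hF hfix hjF⟩) []
  rwa [codeOf_fix hF hfix le_rfl] at h1

theorem eq_of_codeOf (hv : v ≤ 24) {σ τ : Equiv.Perm (Fin v)} (h : codeOf σ v = codeOf τ v) :
    σ = τ := by
  ext i
  have h1 := pt_codeOf hv σ i.2
  have h2 := pt_codeOf hv τ i.2
  rw [h, h2] at h1
  simpa [imgOf, i.2] using h1.symm

theorem one_of_root (hv : v ≤ 24) {t F : ℕ} {L LC : List ℕ} {σ : Equiv.Perm (Fin v)} (hF : F ≤ v)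
    (hσ : IsAutOf L σ) (hLC : ∀ b ∈ LC, b ∈ L) (hfix : ∀ i : Fin v, i.1 < F → σ i = i)
    (hroot : dfsRoot v t L LC F = [idCode v]) : σ = 1 := by
  have h1 := mem_dfsRoot (t := t) hv hF hσ hLC hfix
  rw [hroot, List.mem_singleton] at h1
  apply eq_of_codeOf hv
  rw [h1]
  exact (codeOf_fix (F := v) le_rfl (fun i _ => rfl) le_rfl).symm

/-- Recompute a code from its images. -/
noncomputable def recode (p : ℕ) : ℕ → ℕ
  | 0 => 0
  | i + 1 => recode p i + pt p i * 32 ^ i

theorem codeOf_permOf {p : ℕ} (h : validCode v p = true) {i : ℕ} (hi : i ≤ v) :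
    codeOf (permOf h) i = recode p i := by
  induction i with
  | zero => rfl
  | succ i ih =>
    rw [codeOf, recode, ih (by omega)]
    have hiv : i < v := by omega
    have : imgOf (permOf h) i = pt p i := by
      simp [imgOf, hiv]
    rw [this]

/-- The test of a code: a permutation fixing the first points, preserving the blocks. -/
noncomputable def rOK (v F : ℕ) (L : List ℕ) (r : ℕ) : Bool :=
  validCode v r && fixes F r && allImg v r L L && Nat.beq (recode r v) r

theorem isAutOf_of_rOK {F r : ℕ} {L : List ℕ} (h : validCode v r = true)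
    (h2 : allImg v r L L = true) : IsAutOf L (permOf h) := by
  intro m hm
  refine ⟨app r m v, allImg_spec h2 m hm, ?_⟩
  rw [ofMask_app h]

/-- The exact number of automorphisms fixing the first points. -/
theorem card_autFix (hv : v ≤ 24) {t F : ℕ} {L LC : List ℕ} (hF : F ≤ v) (hLC : ∀ b ∈ LC, b ∈ L)
    (hR : ∀ r ∈ dfsRoot v t L LC F, rOK v F L r = true) (hnd : (dfsRoot v t L LC F).Nodup) :
    Nat.card {σ : Equiv.Perm (Fin v) // IsAutOf L σ ∧ ∀ i : Fin v, i.1 < F → σ i = i} =
      (dfsRoot v t L LC F).length := by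
  classical
  set R := dfsRoot v t L LC F with hRdef
  have hval : ∀ r ∈ R, validCode v r = true ∧ fixes F r = true ∧ allImg v r L L = true ∧
      Nat.beq (recode r v) r = true := by
    intro r hr
    have := hR r hr
    simp only [rOK, Bool.and_eq_true] at this
    exact ⟨this.1.1.1, this.1.1.2, this.1.2, this.2⟩
  let Φ : {σ : Equiv.Perm (Fin v) // IsAutOf L σ ∧ ∀ i : Fin v, i.1 < F → σ i = i} → {r // r ∈ R} :=
    fun σ => ⟨codeOf σ.1 v, mem_dfsRoot hv hF σ.2.1 hLC σ.2.2⟩
  have hΦ : Function.Bijective Φ := by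
    constructor
    · intro σ τ h
      apply Subtype.ext
      apply eq_of_codeOf hv
      exact congrArg Subtype.val h
    · rintro ⟨r, hr⟩
      obtain ⟨h1, h2, h3, h4⟩ := hval r hr
      refine ⟨⟨permOf h1, isAutOf_of_rOK (F := F) h1 h3, fun i hi => ?_⟩, ?_⟩
      · apply Fin.ext
        rw [permOf_val]
        exact fixes_spec h2 hi
      · apply Subtype.ext
        show codeOf (permOf h1) v = r
        rw [codeOf_permOf h1 le_rfl]
        exact Nat.eq_of_beq_eq_true h4
  rw [Nat.card_congr (Equiv.ofBijective Φ hΦ)]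
  rw [Nat.card_eq_fintype_card]
  have : Fintype.card {r // r ∈ R} = R.toFinset.card := by
    rw [← Fintype.card_coe]
    apply Fintype.card_congr
    exact Equiv.subtypeEquivRight (by simp)
  rw [this, List.toFinset_card_of_nodup hnd]

theorem isAutOf_of_mem {L : List ℕ} {σ : Equiv.Perm (Fin v)} (h : σ ∈ setSystemAut (stdSet v L)) :
    IsAutOf L σ := by
  rw [mem_aut_iff] at h
  intro m hm
  have h1 : (ofMask v m).image σ ∈ (fun b : Finset (Fin v) => b.image σ) '' stdSet v L :=
    ⟨ofMask v m, ⟨m, hm, rfl⟩, rfl⟩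
  rw [h] at h1
  obtain ⟨m', hm', h2⟩ := h1
  exact ⟨m', hm', h2.symm⟩

theorem mem_of_isAutOf {L : List ℕ} {σ : Equiv.Perm (Fin v)} (h : IsAutOf L σ) :
    σ ∈ setSystemAut (stdSet v L) := by
  rw [mem_aut_iff]
  have hsub : (fun b : Finset (Fin v) => b.image σ) '' stdSet v L ⊆ stdSet v L := by
    rintro _ ⟨_, ⟨m, hm, rfl⟩, rfl⟩
    obtain ⟨m', hm', h2⟩ := h m hm
    exact ⟨m', hm', h2.symm⟩
  have hinj : Function.Injective (fun b : Finset (Fin v) => b.image σ) := by
    intro a b hab
    exact Finset.image_injective σ.injective hab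
  apply Set.eq_of_subset_of_ncard_le hsub _ (Set.toFinite _)
  rw [Set.ncard_image_of_injective _ hinj]

/-- The order of the automorphism group, by orbit and stabiliser. -/
theorem card_aut_std (hv : v ≤ 24) {t F : ℕ} {L LC : List ℕ} (hF : F ≤ v) (hLC : ∀ b ∈ LC, b ∈ L)
    (hR : ∀ r ∈ dfsRoot v t L LC F, rOK v F L r = true) (hnd : (dfsRoot v t L LC F).Nodup)
    [hp : MulAction.IsMultiplyPretransitive (setSystemAut (stdSet v L)) (Fin v) F] :
    Nat.card (setSystemAut (stdSet v L)) = v.descFactorial F * (dfsRoot v t L LC F).length := by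
  have h1 := Subgroup.index_mul_card (MulAction.stabilizer (setSystemAut (stdSet v L)) (stdTuple hF))
  rw [MulAction.index_stabilizer] at h1
  have key : ∀ (O : Set (Fin F ↪ Fin v)) (S N : ℕ), O.ncard * S = N → (∀ y, y ∈ O) →
      v.descFactorial F * S = N := by
    intro O S N h hy
    have : O = Set.univ := Set.eq_univ_of_forall hy
    rw [this, Set.ncard_univ, Nat.card_eq_fintype_card, Fintype.card_embedding_eq] at h
    simpa using h
  have h3 := key _ _ _ h1 (fun y => by
    obtain ⟨g, hg⟩ := hp.exists_smul_eq (stdTuple hF) y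
    exact ⟨g, hg⟩)
  rw [← h3, ← card_autFix hv hF hLC hR hnd]
  congr 1
  apply Nat.card_congr
  refine
    { toFun := fun g => ⟨g.1.1, isAutOf_of_mem g.1.2, fun i hi => ?_⟩
      invFun := fun σ => ⟨⟨σ.1, mem_of_isAutOf σ.2.1⟩, ?_⟩
      left_inv := fun g => rfl
      right_inv := fun σ => rfl }
  · have h3 : g • stdTuple hF = stdTuple hF := g.2
    have h4 := congrArg (fun z : Fin F ↪ Fin v => z ⟨i.1, hi⟩) h3
    exact h4
  · show _ = _
    ext i
    have h5 := σ.2.2 (stdTuple hF i) (by simp [stdTuple])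
    exact congrArg Fin.val h5

end Enumeration

/-- Sharpness: when the enumeration finds only the identity, the stabiliser of a tuple is trivial. -/
theorem stab_bot {v t k F : ℕ} {L LC : List ℕ} (H : Good v t k F (stdSet v L) []) (hF : F ≤ v)
    (hv : v ≤ 24) (hLC : ∀ b ∈ LC, b ∈ L) (hroot : dfsRoot v t L LC F = [idCode v]) {α : Type*}
    [Fintype α] [DecidableEq α] (hα : Fintype.card α = v) {B : Set (Finset α)}
    (hB : IsSteinerSystem t k B) (x : Fin F ↪ α) :
    MulAction.stabilizer (setSystemAut B) x = ⊥ := by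
  obtain ⟨f, hf, hfx⟩ := exists_label H hF hα hB x
  rw [eq_bot_iff]
  intro g hg
  have hg' : ∀ i, g.1 (x i) = x i := fun i => by
    have h1 : g • x = x := hg
    exact congrArg (fun z : Fin F ↪ α => z i) h1
  have h1 : f.permCongr g.1 ∈ setSystemAut (stdSet v L) := conj_mem_aut f hf g.2
  have h2 : f.permCongr g.1 = 1 :=
    one_of_root hv hF (isAutOf_of_mem h1) hLC (conj_fix hF f x hfx hg') hroot
  rw [Subgroup.mem_bot]
  apply Subtype.ext
  ext a
  have h3 := congrArg (fun z : Equiv.Perm (Fin v) => z (f a)) h2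
  simp [Equiv.permCongr_apply] at h3
  simp [h3]

/-- The order of the automorphism group of any system. -/
theorem card_aut {v t k F : ℕ} {L LC : List ℕ} (H : Good v t k F (stdSet v L) []) (hF : F ≤ v)
    (hv : v ≤ 24) (hLC : ∀ b ∈ LC, b ∈ L) (hR : ∀ r ∈ dfsRoot v t L LC F, rOK v F L r = true)
    (hnd : (dfsRoot v t L LC F).Nodup) {α : Type*}
    [Fintype α] [DecidableEq α] (hα : Fintype.card α = v) {B : Set (Finset α)}
    (hB : IsSteinerSystem t k B) :
    Nat.card (setSystemAut B) = v.descFactorial F * (dfsRoot v t L LC F).length := by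
  obtain ⟨f, hf, -⟩ := exists_label H hF hα hB
    ((Fin.castLEEmb hF).trans (Fintype.equivFinOfCardEq hα).symm.toEmbedding)
  have hS : IsSteinerSystem t k (stdSet v L) := hf ▸ steiner_image hB f
  have hp : MulAction.IsMultiplyPretransitive (setSystemAut (stdSet v L)) (Fin v) F :=
    pretrans_of_good H hF (by simp) hS
  rw [Nat.card_congr (autEquiv f hf).toEquiv]
  exact card_aut_std hv hF hLC hR hnd

end Cfsg.Agent.Lib.SteinerAut
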