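import Mathlib
import Cfsg.Agent.Lib.SteinerAut
import Cfsg.Agent.Lib.SteinerF3622

set_option autoImplicit false
set_option maxRecDepth 1000000

/-!
# The automorphisms of the standard system fixing the first points, enumerated
-/

namespace Cfsg.Agent.Lib.AutF3622
open Cfsg.Agent.Lib.SteinerSearch Cfsg.Agent.Lib.SteinerAut Cfsg.Agent.Lib.SteinerF3622

/-- The codes of the automorphisms fixing the first points. -/
def R : List ℕ := [0x2b49ca307b9ac5a928398a418820,0x1525d1286b1ee9d63031ca418820,0x1a96464752eb373e86820a418820,0x1c87c0f29d56a6b0d48a4a418820,0xf3a2dcd446099198faa8a418820,0x2953a9ec8a130349ae9aca418820,0x22f436aba1e4682553730a418820,0x10e8b26a3d0d24c1757b4a418820,0x12d83d5391a87446ab638a418820,0x20c4b975348f48a26a6bca418820,0x1f172686acd4b63647440a418820,0x1906a0d45aa757b8f24c4a418820,0x267a990973d8d52e11a48a418820,0x24a355ae4c2283d1ec5cca418820,0x16651e11635cfacd09950a418820,0xcb94d8f82511a1dcd554a418820,0x17499dcd4c608aa9ec9188518820,0x2725998f8a510555aea1c851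8820,0x1c964175a48e66bd538a08518820,0x1a87c6ab31e547326a8248518820,0x253a5630639af399095a88518820,0xd53cd096bd8ea4a3052c8518820,0x20f438f2555738a6866b08518820,0x12e8be865cd55440f26348518820,0x10d830d4aaa6b4c6477b88518820,0x22c4b6479aeaa820d473c8518820,0x1917226a950c77b6ab4c08518820,0x1f06a55339a92639754448518820,0x147ad1ec821319adcd3488518820,0xea32e117b5cc95128acc8518820,0x2a6549ae442295cd8f3d08518820,0x28b92928731ed31e119d48518820,0x2ab7c1529b907a452d618a320820,0x1536a2b45b2069262f71ca320820,0x1ae51df162cd04ca959a0a320820,0x1cd9c9907d69141ccb524a320820,0xf2434cba45f59b9904a8a320820,0x2868b24a3a1d3abda982ca320820,0x230a2d2d41e6e7d552330a320820,0x1093aa0c8d2af74d66934a320820,0x12894e2f8196c6aab43b8a320820,0x2113550e4c94d62e67a3ca320820,0x1eca99a974ce88d24a5c0a320820,0x18f5d1c86aa49818f3ac4a320820,0x26a72566abe343a20c6c8a320820,0x2474ba953418b535f144ca320820,0x17564667535323410e7d0a320820,0xd483cf3925aa5b1c88d4a320820,0x28b7b1c84aa4dac6678186520820,0x2536b9908d68f5256641c6520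820,0x12e54d66a3e356c9903a06520820,0x10d9aab43320b71df19246520820,0x2724262f619703ba956a86520820,0x2a68c10e6c949a3cf362c6520820,0x1f0a18f3525b28d50e5b06520820,0x1c93ca955c18644e2f5346520820,0x1a891ccbac5f44aa0c9b86520820,0x1913524a9a1c782d2dabc6520820,0x22caae679352a7d1c83406520820,0x20f5d5523b913619a9a446520820,0xea735f182ccc9a2b44c86520820,0x1474a20c7d2b1934cb74c6520820,0xd563da944cee5c1528d06520820,0x1748452d71e683324a7d46520820,0x1754b5479c592a39f04188328820,0x26a8bea65a5d4931a881c8328820,0x1cda55f064a714ad473208328820,0x1ae32d9179d5045672a248328820,0x247640d5a392b9c50d7a88328820,0xd46a6533be0aaa22c72c8328820,0x2115492e454cd79e8b9b08328820,0x12859a0f8ce4c750eaab48328820,0x109ad22c828ef69a535b88328820,0x23099d0d4ae8e648d553c8328820,0x18f929a8751698cea63c08328820,0x1ec3cdc969aa8829749448328820,0x15383174aa1a63bdc98c88328820,0xf27c68b335155412e64c8328820,0x2ab43a72541e7335914d08328820,0x286720ea932335a60f6d48328820,0x2954a22c7a8f05ba726986428820,0x24a8c12e6d4c89b17479c6428820,0x12da1a5353e0772d91aa06428820,0x10e350ea9b2326d5f05a46428820,0x26763dc941aad9468b8286428820,0x2b46b9f08ca6c320ea4ac6428820,0x1f154ea6a25cb81d0d9306428820,0x1c85d6723c1ea4d22c3346428820,0x1a9aad479459341a0fa386428820,0x1909a974321b58c92e3bc6428820,0x22f91e8bab50664dc95406428820,0x20c3c8d55b9347a9a89c46428820,0xf38450d72e8953ea66486428820,0x1527b1a84d16e3c0d58cc6428820,0xcb4260f64e51ab5477506428820,0x1667359181d4fa26534546428820]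

theorem root_eq : dfsRoot 22 3 Lstd Lstd 3 = R := by decide +kernel

theorem R_ok : ∀ r ∈ dfsRoot 22 3 Lstd Lstd 3, rOK 22 3 Lstd r = true := by
  rw [root_eq]
  decide +kernel

theorem R_nodup : (dfsRoot 22 3 Lstd Lstd 3).Nodup := by
  rw [root_eq]
  decide +kernel

theorem R_len : (dfsRoot 22 3 Lstd Lstd 3).length = 96 := by
  rw [root_eq]
  decide +kernel

end Cfsg.Agent.Lib.AutF3622
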