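import Mathlib
import Cfsg.Prelude.Def_ClassicalGeometry
import Cfsg.Agent.S0769

/-!
# The Borel subgroup of the symplectic group
-/

set_option autoImplicit false
set_option linter.unusedSectionVars false
set_option linter.unusedSimpArgs false

namespace Cfsg.Agent.Lib.SpBorel

open Matrix Cfsg
open scoped MatrixGroups

variable {F : Type*} [Field F] {m : ℕ}

/-- The flag. -/
abbrev Wk (m : ℕ) (F : Type*) [Field F] (k : Fin m) : Set (Fin m ⊕ Fin m → F) :=
  {v | (∀ i : Fin m, (k : ℕ) < (i : ℕ) → v (Sum.inl i) = 0) ∧ ∀ i : Fin m, v (Sum.inr i) = 0}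

/-- Its stabiliser. -/
abbrev Bor (m : ℕ) (F : Type*) [Field F] : Subgroup (symplecticGroup (Fin m) F) :=
  ⨅ k : Fin m, stabilizing (spToMat m F) (Wk m F k)

/-- The shape of the elements of the Borel subgroup. -/
def Shape (M : Matrix (Fin m ⊕ Fin m) (Fin m ⊕ Fin m) F) : Prop :=
  (∀ i j, M (Sum.inr i) (Sum.inl j) = 0) ∧ ∀ i j : Fin m, j < i → M (Sum.inl i) (Sum.inl j) = 0

/-- The label. -/
def lab (m : ℕ) : Fin m ⊕ Fin m → ℕ := Sum.elim (fun i => (i : ℕ)) (fun _ => m)

theorem shape_iff (M : Matrix (Fin m ⊕ Fin m) (Fin m ⊕ Fin m) F) : Shape M ↔ M.BlockTriangular (lab m) := by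
  constructor
  · rintro ⟨h1, h2⟩ i j hij
    rcases i with i | i <;> rcases j with j | j <;> simp only [lab, Sum.elim_inl, Sum.elim_inr] at hij
    · exact h2 _ _ hij
    · have := i.2
      omega
    · exact h1 _ _
    · omega
  · intro h
    constructor
    · intro i j
      apply h
      simp [lab]
    · intro i j hij
      apply h
      simpa [lab] using hij

theorem mulVec_mem {M : Matrix (Fin m ⊕ Fin m) (Fin m ⊕ Fin m) F} (h : Shape M) {k : Fin m}
    {v : Fin m ⊕ Fin m → F} (hv : v ∈ Wk m F k) : M *ᵥ v ∈ Wk m F k := by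
  constructor
  · intro i hi
    simp only [Matrix.mulVec, dotProduct, Fintype.sum_sum_type]
    rw [Finset.sum_eq_zero, Finset.sum_eq_zero, add_zero]
    · intro j _
      rw [hv.2 j, mul_zero]
    · intro j _
      by_cases hj : (k : ℕ) < (j : ℕ)
      · rw [hv.1 j hj, mul_zero]
      · rw [h.2 i j (Fin.lt_def.2 (by omega)), zero_mul]
  · intro i
    simp only [Matrix.mulVec, dotProduct, Fintype.sum_sum_type]
    rw [Finset.sum_eq_zero, Finset.sum_eq_zero, add_zero]
    · intro j _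
      rw [hv.2 j, mul_zero]
    · intro j _
      rw [h.1 i j, zero_mul]

theorem single_mem (j : Fin m) : (Pi.single (Sum.inl j) 1 : Fin m ⊕ Fin m → F) ∈ Wk m F j := by
  constructor
  · intro i hi
    apply Pi.single_eq_of_ne
    intro h
    have : i = j := Sum.inl.inj h
    subst this
    omega
  · intro i
    apply Pi.single_eq_of_ne
    simp

theorem mem_Bor_iff (g : symplecticGroup (Fin m) F) : g ∈ Bor m F ↔ Shape g.1 := by
  rw [Subgroup.mem_iInf]
  constructor
  · intro h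
    constructor
    · intro i j
      have := ((h j (Pi.single (Sum.inl j) 1)).1 (single_mem j)).2 i
      simpa [Matrix.mulVec_single_one] using this
    · intro i j hij
      have := ((h j (Pi.single (Sum.inl j) 1)).1 (single_mem j)).1 i hij
      simpa [Matrix.mulVec_single_one] using this
  · intro h k v
    refine ⟨mulVec_mem h, fun hv => ?_⟩
    have hdet : IsUnit g.1.det := SymplecticGroup.symplectic_det g.2
    let _ : Invertible g.1 := Matrix.invertibleOfIsUnitDet _ hdet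
    have h2 : Shape (g⁻¹ : symplecticGroup (Fin m) F).1 := by
      rw [SymplecticGroup.coe_inv', shape_iff]
      exact Matrix.blockTriangular_inv_of_blockTriangular ((shape_iff _).1 h)
    have h3 := mulVec_mem h2 hv
    have h4 : (g⁻¹ : symplecticGroup (Fin m) F).1 * g.1 = 1 := congrArg Subtype.val (inv_mul_cancel g)
    change (g⁻¹ : symplecticGroup (Fin m) F).1 *ᵥ (g.1 *ᵥ v) ∈ _ at h3
    rwa [Matrix.mulVec_mulVec, h4, Matrix.one_mulVec] at h3

theorem sp_blocks (A B D : Matrix (Fin m) (Fin m) F) :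
    fromBlocks A B 0 D ∈ symplecticGroup (Fin m) F ↔ Aᵀ * D = 1 ∧ Dᵀ * A = 1 ∧ Dᵀ * B = Bᵀ * D := by
  rw [SymplecticGroup.mem_iff', J, fromBlocks_transpose, fromBlocks_multiply, fromBlocks_multiply]
  simp
  intro _ _
  rw [add_neg_eq_zero]

/-- Upper triangular invertible matrices. -/
abbrev Upper (m : ℕ) (F : Type*) [Field F] : Type _ :=
  {g : GL (Fin m) F // ∀ i j : Fin m, j < i → (g : Matrix (Fin m) (Fin m) F) i j = 0}

/-- Symmetric matrices. -/
abbrev Symm (m : ℕ) (F : Type*) : Type _ := {S : Fin m → Fin m → F // ∀ a b, S a b = S b a}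

theorem hM (g : ↥(Bor m F)) : fromBlocks g.1.1.toBlocks₁₁ g.1.1.toBlocks₁₂ 0 g.1.1.toBlocks₂₂ = g.1.1 := by
  have hS : Shape g.1.1 := (mem_Bor_iff g.1).1 g.2
  have h0 : g.1.1.toBlocks₂₁ = 0 := by
    ext i j
    exact hS.1 i j
  rw [← h0, Matrix.fromBlocks_toBlocks]

theorem hsp (g : ↥(Bor m F)) :
    g.1.1.toBlocks₁₁ᵀ * g.1.1.toBlocks₂₂ = 1 ∧ g.1.1.toBlocks₂₂ᵀ * g.1.1.toBlocks₁₁ = 1 ∧
      g.1.1.toBlocks₂₂ᵀ * g.1.1.toBlocks₁₂ = g.1.1.toBlocks₁₂ᵀ * g.1.1.toBlocks₂₂ :=
  (sp_blocks _ _ _).1 (by rw [hM]; exact g.1.2)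

theorem hAD (g : ↥(Bor m F)) : g.1.1.toBlocks₁₁ * g.1.1.toBlocks₂₂ᵀ = 1 :=
  mul_eq_one_comm.1 (hsp g).2.1

/-- Parametrisation of the Borel subgroup. -/
noncomputable def equivBor : ↥(Bor m F) ≃ Upper m F × Symm m F where
  toFun g :=
    (⟨⟨g.1.1.toBlocks₁₁, g.1.1.toBlocks₂₂ᵀ, hAD g, (hsp g).2.1⟩,
        fun i j hij => ((mem_Bor_iff g.1).1 g.2).2 i j hij⟩,
      ⟨fun a b => (g.1.1.toBlocks₂₂ᵀ * g.1.1.toBlocks₁₂) a b, fun a b => by
        have h1 : (g.1.1.toBlocks₂₂ᵀ * g.1.1.toBlocks₁₂)ᵀ = g.1.1.toBlocks₂₂ᵀ * g.1.1.toBlocks₁₂ := by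
          rw [Matrix.transpose_mul, Matrix.transpose_transpose]
          exact (hsp g).2.2.symm
        exact (congrFun (congrFun h1 a) b).symm⟩)
  invFun x :=
    have hA : ((x.1.1⁻¹ : GL (Fin m) F) : Matrix (Fin m) (Fin m) F) * (x.1.1 : Matrix (Fin m) (Fin m) F) = 1 := by
      rw [← Units.val_mul, inv_mul_cancel]; rfl
    ⟨⟨fromBlocks (x.1.1 : Matrix (Fin m) (Fin m) F) ((x.1.1 : Matrix (Fin m) (Fin m) F) * Matrix.of x.2.1) 0
        ((x.1.1⁻¹ : GL (Fin m) F) : Matrix (Fin m) (Fin m) F)ᵀ, by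
      rw [sp_blocks]
      refine ⟨?_, ?_, ?_⟩
      · rw [← Matrix.transpose_mul, hA]; simp
      · rw [Matrix.transpose_transpose, hA]
      · rw [Matrix.transpose_transpose, ← Matrix.mul_assoc, hA, Matrix.one_mul, Matrix.transpose_mul,
          Matrix.mul_assoc, ← Matrix.transpose_mul, hA, Matrix.transpose_one, Matrix.mul_one]
        ext i j
        simp only [Matrix.transpose_apply, Matrix.of_apply]
        exact x.2.2 i j⟩, by
      rw [mem_Bor_iff]
      constructor
      · intro i j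
        rfl
      · intro i j hij
        exact x.1.2 i j hij⟩
  left_inv g := by
    apply Subtype.ext
    apply Subtype.ext
    change fromBlocks g.1.1.toBlocks₁₁ (g.1.1.toBlocks₁₁ * (g.1.1.toBlocks₂₂ᵀ * g.1.1.toBlocks₁₂)) 0
      (g.1.1.toBlocks₂₂ᵀ)ᵀ = g.1.1
    rw [Matrix.transpose_transpose, ← Matrix.mul_assoc, hAD, Matrix.one_mul]
    exact hM g
  right_inv x := by
    have hA : ((x.1.1⁻¹ : GL (Fin m) F) : Matrix (Fin m) (Fin m) F) * (x.1.1 : Matrix (Fin m) (Fin m) F) = 1 := by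
      rw [← Units.val_mul, inv_mul_cancel]; rfl
    refine Prod.ext (Subtype.ext (Units.ext rfl)) (Subtype.ext ?_)
    funext a b
    change ((((x.1.1⁻¹ : GL (Fin m) F) : Matrix (Fin m) (Fin m) F)ᵀ)ᵀ * ((x.1.1 : Matrix (Fin m) (Fin m) F) * Matrix.of x.2.1)) a b = x.2.1 a b
    rw [Matrix.transpose_transpose, ← Matrix.mul_assoc, hA, Matrix.one_mul]
    rfl

/-- Upper and lower triangular matrices. -/
def upperEquivLower : Upper m F ≃
    {g : GL (Fin m) F // ∀ i j : Fin m, i < j → (g : Matrix (Fin m) (Fin m) F) i j = 0} where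
  toFun g := ⟨⟨(g.1 : Matrix (Fin m) (Fin m) F)ᵀ, ((g.1⁻¹ : GL (Fin m) F) : Matrix (Fin m) (Fin m) F)ᵀ, by
      rw [← Matrix.transpose_mul, ← Units.val_mul, inv_mul_cancel]; simp, by
      rw [← Matrix.transpose_mul, ← Units.val_mul, mul_inv_cancel]; simp⟩, fun i j hij => g.2 j i hij⟩
  invFun g := ⟨⟨(g.1 : Matrix (Fin m) (Fin m) F)ᵀ, ((g.1⁻¹ : GL (Fin m) F) : Matrix (Fin m) (Fin m) F)ᵀ, by
      rw [← Matrix.transpose_mul, ← Units.val_mul, inv_mul_cancel]; simp, by
      rw [← Matrix.transpose_mul, ← Units.val_mul, mul_inv_cancel]; simp⟩, fun i j hij => g.2 j i hij⟩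
  left_inv g := by
    apply Subtype.ext
    apply Units.ext
    exact Matrix.transpose_transpose _
  right_inv g := by
    apply Subtype.ext
    apply Units.ext
    exact Matrix.transpose_transpose _

theorem card_Symm [Fintype F] : Nat.card (Symm m F) = Fintype.card F ^ ((m + 1) * m / 2) := by
  classical
  rw [Nat.card_congr (Sym2.lift (α := Fin m) (β := F)), Nat.card_fun, Nat.card_eq_fintype_card,
    Nat.card_eq_fintype_card, Sym2.card, Nat.choose_two_right, Fintype.card_fin]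
  simp

/-- The order of the Borel subgroup. -/
theorem card_Bor [Fintype F] {q : ℕ} (hF : Fintype.card F = q) (m : ℕ) :
    Nat.card ↥(Bor m F) = q ^ (m ^ 2) * (q - 1) ^ m := by
  rw [Nat.card_congr equivBor, Nat.card_prod, Nat.card_congr upperEquivLower, Cfsg.Agent.S0769.result hF,
    card_Symm, hF]
  have h1 : (m + 1) * m / 2 = m * (m - 1) / 2 + m := by
    have := Nat.triangle_succ m
    simpa using this
  have h2 : m * (m - 1) / 2 * 2 = m * (m - 1) := Nat.div_two_mul_two_of_even (Nat.even_mul_pred_self m)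
  have h3 : m * (m - 1) / 2 + ((m + 1) * m / 2) = m ^ 2 := by
    rcases m with _ | k
    · simp
    · have : (k + 1) * (k + 1 - 1) / 2 * 2 = (k + 1) * k := by simpa using h2
      rw [h1]
      simp only [Nat.add_sub_cancel]
      have h4 : (k + 1) ^ 2 = (k + 1) * k + (k + 1) := by ring
      simp only [Nat.add_sub_cancel] at this
      omega
  rw [← h3, pow_add]
  ring

end Cfsg.Agent.Lib.SpBorel
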