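import Mathlib

/-!
# Linearised polynomials over a finite field of characteristic two

Every additive map of the field `F` with `2^n` elements is uniquely of the form
`x ↦ ∑_{a<n} c a * x ^ 2 ^ a`.
-/

set_option autoImplicit false
set_option linter.unusedSectionVars false
set_option linter.unusedVariables false
set_option linter.style.haveILetI false

namespace Cfsg.Agent.Lib.LinPoly

variable {F : Type*} [Field F] [Fintype F] [CharP F 2] {n : ℕ}

/-- The linearised polynomial with coefficients `c`. -/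
def lin (n : ℕ) (c : ℕ → F) (x : F) : F := ∑ a ∈ Finset.range n, c a * x ^ 2 ^ a

lemma frob_add (a : ℕ) (x y : F) : (x + y) ^ 2 ^ a = x ^ 2 ^ a + y ^ 2 ^ a :=
  add_pow_char_pow x y 2 a

lemma lin_add (c : ℕ → F) (x y : F) : lin n c (x + y) = lin n c x + lin n c y := by
  unfold lin
  rw [← Finset.sum_add_distrib]
  refine Finset.sum_congr rfl fun a _ => ?_
  rw [frob_add, mul_add]

lemma lin_zero (c : ℕ → F) : lin n c 0 = 0 := by
  unfold lin
  refine Finset.sum_eq_zero fun a _ => ?_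
  simp

/-- Uniqueness of the coefficients. -/
theorem lin_eq_zero (hF : Fintype.card F = 2 ^ n) (c : ℕ → F) (h : ∀ x, lin n c x = 0) :
    ∀ a < n, c a = 0 := by
  classical
  intro a ha
  let P : Polynomial F := ∑ b ∈ Finset.range n, Polynomial.C (c b) * Polynomial.X ^ 2 ^ b
  have hn : 0 < n := by omega
  have hdeg : P.natDegree < Fintype.card F := by
    have h1 : P.natDegree ≤ 2 ^ (n - 1) := by
      apply Polynomial.natDegree_sum_le_of_forall_le
      intro b hb
      refine (Polynomial.natDegree_C_mul_X_pow_le _ _).trans ?_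
      apply Nat.pow_le_pow_right (by norm_num)
      have := Finset.mem_range.mp hb
      omega
    rw [hF]
    refine lt_of_le_of_lt h1 ?_
    exact Nat.pow_lt_pow_right (by norm_num) (by omega)
  have hzero : P = 0 := by
    apply Polynomial.eq_zero_of_natDegree_lt_card_of_eval_eq_zero P
      (f := fun x : F => x) Function.injective_id
    · intro x
      simp only [P, Polynomial.eval_finsetSum, Polynomial.eval_mul, Polynomial.eval_C,
        Polynomial.eval_pow, Polynomial.eval_X]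
      exact h x
    · simpa using hdeg
  have h2 : P.coeff (2 ^ a) = c a := by
    simp only [P, Polynomial.finsetSum_coeff, Polynomial.coeff_C_mul, Polynomial.coeff_X_pow]
    rw [Finset.sum_eq_single a]
    · simp
    · intro b _ hb
      have : 2 ^ a ≠ 2 ^ b := fun e => hb (Nat.pow_right_injective (le_refl 2) e).symm
      simp [this]
    · intro h3
      exact absurd (Finset.mem_range.mpr ha) h3
  rw [← h2, hzero]
  simp

/-- Coefficient comparison. -/
theorem lin_inj (hF : Fintype.card F = 2 ^ n) {c d : ℕ → F} (h : ∀ x, lin n c x = lin n d x) :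
    ∀ a < n, c a = d a := by
  intro a ha
  have := lin_eq_zero hF (fun a => c a - d a) (fun x => by
    unfold lin at h ⊢
    have h1 := h x
    simp only [sub_mul]
    rw [Finset.sum_sub_distrib, h1, sub_self]) a ha
  exact sub_eq_zero.mp this

/-- The number of additive self-maps. -/
lemma card_addHom (hF : Fintype.card F = 2 ^ n) : Nat.card (F →+ F) = (2 ^ n) ^ n := by
  classical
  haveI hp : Fact (Nat.Prime 2) := ⟨Nat.prime_two⟩
  letI : Algebra (ZMod 2) F := ZMod.algebra F 2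
  letI : Module (ZMod 2) F := Algebra.toModule
  haveI : Finite (F →ₗ[ZMod 2] F) := Finite.of_injective (fun g : F →ₗ[ZMod 2] F => (g : F → F)) DFunLike.coe_injective
  have hfr : Module.finrank (ZMod 2) F = n := by
    have h1 := Module.card_eq_pow_finrank (K := ZMod 2) (V := F)
    rw [hF, ZMod.card] at h1
    exact (Nat.pow_right_injective (le_refl 2) h1).symm
  have e : (F →+ F) ≃ (F →ₗ[ZMod 2] F) := (AddMonoidHom.toZModLinearMapEquiv (n := 2)).toEquiv
  rw [Nat.card_congr e]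
  have h2 := Module.finrank_linearMap (ZMod 2) (ZMod 2) F F
  have h3 : Nat.card (F →ₗ[ZMod 2] F) = 2 ^ Module.finrank (ZMod 2) (F →ₗ[ZMod 2] F) := by
    haveI : Fintype (F →ₗ[ZMod 2] F) := Fintype.ofFinite _
    rw [Nat.card_eq_fintype_card, Module.card_eq_pow_finrank (K := ZMod 2), ZMod.card]
  rw [h3, h2, hfr, ← pow_mul]

/-- Every additive map is linearised. -/
theorem exists_lin (hF : Fintype.card F = 2 ^ n) (f : F → F) (hf : ∀ x y, f (x + y) = f x + f y) :
    ∃ c : ℕ → F, ∀ x, f x = lin n c x := by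
  classical
  let Φ : (Fin n → F) → (F →+ F) := fun c =>
    { toFun := lin n (fun a => if h : a < n then c ⟨a, h⟩ else 0)
      map_zero' := lin_zero _
      map_add' := lin_add _ }
  have hΦ : Function.Injective Φ := by
    intro c d h
    funext a
    have h1 : ∀ x, lin n (fun a => if h : a < n then c ⟨a, h⟩ else 0) x
        = lin n (fun a => if h : a < n then d ⟨a, h⟩ else 0) x := fun x =>
      DFunLike.congr_fun h x
    have h2 := lin_inj hF h1 a a.2
    simpa using h2
  have hcard : Nat.card (Fin n → F) = Nat.card (F →+ F) := by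
    rw [card_addHom hF, Nat.card_fun, Nat.card_eq_fintype_card (α := F), hF]
    simp
  haveI : Finite (F →+ F) := by
    apply Finite.of_injective (fun g : F →+ F => (g : F → F))
    exact DFunLike.coe_injective
  have hbij : Function.Bijective Φ :=
    (Nat.bijective_iff_injective_and_card Φ).mpr ⟨hΦ, hcard⟩
  let f' : F →+ F := AddMonoidHom.mk' f hf
  obtain ⟨c, hc⟩ := hbij.2 f'
  refine ⟨fun a => if h : a < n then c ⟨a, h⟩ else 0, fun x => ?_⟩
  have := DFunLike.congr_fun hc x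
  exact this.symm

/-- Frobenius powers of units: exponent arithmetic. Two exponents agreeing on all of `Fˣ`
are congruent modulo `q - 1`. -/
theorem modEq_of_pow_eq (hF : Fintype.card F = 2 ^ n) {u v : ℕ}
    (h : ∀ x : F, x ≠ 0 → x ^ u = x ^ v) : u ≡ v [MOD 2 ^ n - 1] := by
  classical
  obtain ⟨g, hg⟩ := IsCyclic.exists_generator (α := Fˣ)
  have hord : orderOf g = 2 ^ n - 1 := by
    rw [orderOf_eq_card_of_forall_mem_zpowers hg, Nat.card_eq_fintype_card, Fintype.card_units, hF]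
  have h1 : g ^ u = g ^ v := by
    apply Units.ext
    push_cast
    exact h _ g.ne_zero
  have := (pow_eq_pow_iff_modEq).mp h1
  rwa [hord] at this

/-! ### Arithmetic of sums of two powers of two -/

lemma two_pow_sum_aux {u v w y : ℕ} (huv : u ≤ v) (hwy : w ≤ y) (huw : u < w) :
    2 ^ u + 2 ^ v ≠ 2 ^ w + 2 ^ y := by
  intro h
  obtain ⟨A, rfl⟩ : ∃ A, w = u + 1 + A := ⟨w - u - 1, by omega⟩
  obtain ⟨B, rfl⟩ : ∃ B, y = u + 1 + B := ⟨y - u - 1, by omega⟩
  have hpos : 0 < 2 ^ u := by positivity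
  have hA : 0 < 2 ^ A := by positivity
  have hB : 0 < 2 ^ B := by positivity
  rcases Nat.lt_or_ge u v with hlt | hge
  · obtain ⟨C, rfl⟩ : ∃ C, v = u + 1 + C := ⟨v - u - 1, by omega⟩
    have e : 2 ^ u * (1 + 2 * 2 ^ C) = 2 ^ u * (2 * (2 ^ A + 2 ^ B)) := by
      have e1 : 2 ^ (u + 1 + C) = 2 ^ u * (2 * 2 ^ C) := by rw [pow_add, pow_succ]; ring
      have e2 : 2 ^ (u + 1 + A) = 2 ^ u * (2 * 2 ^ A) := by rw [pow_add, pow_succ]; ring
      have e3 : 2 ^ (u + 1 + B) = 2 ^ u * (2 * 2 ^ B) := by rw [pow_add, pow_succ]; ring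
      rw [e1, e2, e3] at h
      linarith
    have := Nat.eq_of_mul_eq_mul_left hpos e
    omega
  · have hv : v = u := le_antisymm hge huv
    subst hv
    have e : 2 ^ v * 2 = 2 ^ v * (2 * (2 ^ A + 2 ^ B)) := by
      have e2 : 2 ^ (v + 1 + A) = 2 ^ v * (2 * 2 ^ A) := by rw [pow_add, pow_succ]; ring
      have e3 : 2 ^ (v + 1 + B) = 2 ^ v * (2 * 2 ^ B) := by rw [pow_add, pow_succ]; ring
      rw [e2, e3] at h
      linarith
    have := Nat.eq_of_mul_eq_mul_left hpos e
    omega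

lemma two_pow_sum_eq {u v w y : ℕ} (h : 2 ^ u + 2 ^ v = 2 ^ w + 2 ^ y) :
    (u = w ∧ v = y) ∨ (u = y ∧ v = w) := by
  have key : ∀ {u v w y : ℕ}, u ≤ v → w ≤ y → 2 ^ u + 2 ^ v = 2 ^ w + 2 ^ y → u = w ∧ v = y := by
    intro u v w y huv hwy h
    have h1 : u = w := by
      rcases lt_trichotomy u w with h2 | h2 | h2
      · exact absurd h (two_pow_sum_aux huv hwy h2)
      · exact h2
      · exact absurd h.symm (two_pow_sum_aux hwy huv h2)
    subst h1
    refine ⟨rfl, ?_⟩
    have h2 : 2 ^ v = 2 ^ y := by omega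
    exact Nat.pow_right_injective (le_refl 2) h2
  rcases Nat.le_total u v with huv | huv <;> rcases Nat.le_total w y with hwy | hwy
  · exact Or.inl (key huv hwy h)
  · have := key huv hwy (by rw [h]; ring)
    exact Or.inr this
  · have := key huv hwy (by rw [add_comm, h])
    exact Or.inr ⟨this.2, this.1⟩
  · have := key huv hwy (by rw [add_comm, h]; ring)
    exact Or.inl ⟨this.2, this.1⟩

lemma two_pow_lt_mod {n u : ℕ} (hu : u < n) : 2 ^ u ≤ 2 ^ (n - 1) :=
  Nat.pow_le_pow_right (by norm_num) (by omega)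

/-- Representations as a sum of two powers of two are unique modulo `2^n - 1`. -/
lemma binary_mod {n u v w y : ℕ} (hn : 2 ≤ n) (hu : u < n) (hv : v < n) (hw : w < n) (hy : y < n)
    (h : 2 ^ u + 2 ^ v ≡ 2 ^ w + 2 ^ y [MOD 2 ^ n - 1]) :
    (u = w ∧ v = y) ∨ (u = y ∧ v = w) := by
  apply two_pow_sum_eq
  have e : 2 ^ n = 2 * 2 ^ (n - 1) := by
    rw [← pow_succ']
    congr 1
    omega
  have h1 := two_pow_lt_mod hu
  have h2 := two_pow_lt_mod hv
  have h3 := two_pow_lt_mod hw
  have h4 := two_pow_lt_mod hy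
  have pu : 0 < 2 ^ u := by positivity
  have pv : 0 < 2 ^ v := by positivity
  have pw : 0 < 2 ^ w := by positivity
  have py : 0 < 2 ^ y := by positivity
  rcases Nat.le_total (2 ^ u + 2 ^ v) (2 ^ w + 2 ^ y) with hle | hle
  · have hd := (Nat.modEq_iff_dvd' hle).mp h
    have hlt : 2 ^ w + 2 ^ y - (2 ^ u + 2 ^ v) < 2 ^ n - 1 := by omega
    have := Nat.eq_zero_of_dvd_of_lt hd hlt
    omega
  · have hd := (Nat.modEq_iff_dvd' hle).mp h.symm
    have hlt : 2 ^ u + 2 ^ v - (2 ^ w + 2 ^ y) < 2 ^ n - 1 := by omega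
    have := Nat.eq_zero_of_dvd_of_lt hd hlt
    omega

/-- Reduction of exponents modulo `n`. -/
lemma pow_modEq_mod {n : ℕ} (k : ℕ) : 2 ^ k ≡ 2 ^ (k % n) [MOD 2 ^ n - 1] := by
  have h1 : 2 ^ n ≡ 1 [MOD 2 ^ n - 1] := by
    have hp : 1 ≤ 2 ^ n := Nat.one_le_two_pow
    exact ((Nat.modEq_iff_dvd' hp).mpr (dvd_refl _)).symm
  conv_lhs => rw [← Nat.div_add_mod k n, pow_add, pow_mul]
  have h2 := (h1.pow (k / n)).mul_right (2 ^ (k % n))
  simpa using h2

/-- Representations modulo `2^n - 1`, general exponents. -/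
lemma binary_mod' {n : ℕ} (hn : 2 ≤ n) {a b c d : ℕ}
    (h : 2 ^ a + 2 ^ b ≡ 2 ^ c + 2 ^ d [MOD 2 ^ n - 1]) :
    (a % n = c % n ∧ b % n = d % n) ∨ (a % n = d % n ∧ b % n = c % n) := by
  have hn0 : 0 < n := by omega
  apply binary_mod hn (Nat.mod_lt _ hn0) (Nat.mod_lt _ hn0) (Nat.mod_lt _ hn0) (Nat.mod_lt _ hn0)
  exact ((pow_modEq_mod a).add (pow_modEq_mod b)).symm.trans
    (h.trans ((pow_modEq_mod c).add (pow_modEq_mod d)))

/-- The arithmetic input for the uniqueness of a monomial. -/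
lemma unique_exp {n k k' b : ℕ} (hn : 2 ≤ n) (hk : 0 < k) (hkn : k < n) (hk' : 0 < k') (hkn' : k' < n)
    (h : 2 ^ b + 2 ^ k' ≡ 1 + 2 ^ (k + b) [MOD 2 ^ n - 1]) : k' = k := by
  have h1 : 2 ^ b + 2 ^ k' ≡ 2 ^ 0 + 2 ^ (k + b) [MOD 2 ^ n - 1] := by simpa using h
  rcases binary_mod' hn h1 with ⟨h2, h3⟩ | ⟨h2, h3⟩
  · rw [Nat.zero_mod] at h2
    rw [Nat.mod_eq_of_lt hkn', Nat.add_mod, h2, add_zero, Nat.mod_mod, Nat.mod_eq_of_lt hkn] at h3
    exact h3
  · rw [Nat.zero_mod, Nat.mod_eq_of_lt hkn'] at h3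
    omega

/-- Two powers of two summing to one. -/
lemma sum_eq_one {n k b : ℕ} (hn : 2 ≤ n) (hb : b < n) (hk : k < n)
    (h : 2 ^ b + 2 ^ k ≡ 1 [MOD 2 ^ n - 1]) : b = n - 1 ∧ k = n - 1 := by
  have e : 2 ^ (n - 1) + 2 ^ (n - 1) ≡ 1 [MOD 2 ^ n - 1] := by
    have hp : 1 ≤ 2 ^ n := Nat.one_le_two_pow
    have e1 : 2 ^ (n - 1) + 2 ^ (n - 1) = 2 ^ n := by
      rw [← two_mul, ← pow_succ']
      congr 1
      omega
    rw [e1]
    exact ((Nat.modEq_iff_dvd' hp).mpr (dvd_refl _)).symm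
  have h1 := binary_mod hn hb hk (by omega : n - 1 < n) (by omega : n - 1 < n) (h.trans e.symm)
  rcases h1 with h1 | h1 <;> omega

end Cfsg.Agent.Lib.LinPoly
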