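import Mathlib
import Cfsg.Prelude.Def_Solvable
import Cfsg.Prelude.Def_Transfer
import Cfsg.Agent.Lib.LinPoly
import Cfsg.Agent.Lib.PCore

/-!
# Automorphisms of the 2-groups `(d, e) * (d', e') = (d + d', e + e' + φ(d) d')`

`φ` a nontrivial power of the Frobenius map of a finite field `F`. An automorphism induces on `F` a
map `A` and on the centre a map `B` with `A(x)^φ A(x) = B(x^φ x)`, and this forces `A(x) = c x^(2^i)`.
-/

set_option autoImplicit false
set_option linter.unusedSectionVars false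
set_option linter.unusedVariables false
set_option linter.style.haveILetI false

namespace Cfsg.Agent.Lib.AutQuad

open Cfsg Cfsg.Agent.Lib.LinPoly

section field

variable {F : Type*} [Field F] [Fintype F] [CharP F 2] {N : ℕ}

lemma pow_card_iter' (hF : Fintype.card F = 2 ^ N) (k : ℕ) (x : F) : x ^ 2 ^ (N * k) = x := by
  induction k with
  | zero => simp
  | succ k ih =>
    rw [Nat.mul_succ, pow_add, pow_mul, ih, ← hF, FiniteField.pow_card]

lemma pow_two_pow_mod (hF : Fintype.card F = 2 ^ N) (k : ℕ) (x : F) :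
    x ^ 2 ^ k = x ^ 2 ^ (k % N) := by
  conv_lhs => rw [← Nat.mod_add_div k N, pow_add, mul_comm, pow_mul, pow_card_iter' hF]

lemma shift_mod {a s : ℕ} (ha : a < N) (hs : s ≤ N) : ((a + s) % N + N - s) % N = a := by
  have hN : 0 < N := by omega
  rcases lt_or_ge (a + s) N with h | h
  · rw [Nat.mod_eq_of_lt h]
    have : a + s + N - s = a + N := by omega
    rw [this, Nat.add_mod_right, Nat.mod_eq_of_lt ha]
  · have h1 : (a + s) % N = a + s - N := by
      rw [Nat.mod_eq_sub_mod h, Nat.mod_eq_of_lt (by omega)]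
    rw [h1]
    have : a + s - N + N - s = a := by omega
    rw [this, Nat.mod_eq_of_lt ha]

lemma shift_mod' {b s : ℕ} (hb : b < N) (hs : s ≤ N) : ((b + N - s) % N + s) % N = b := by
  have hN : 0 < N := by omega
  rcases lt_or_ge (b + N - s) N with h | h
  · rw [Nat.mod_eq_of_lt h]
    have : b + N - s + s = b + N := by omega
    rw [this, Nat.add_mod_right, Nat.mod_eq_of_lt hb]
  · have h1 : (b + N - s) % N = b + N - s - N := by
      rw [Nat.mod_eq_sub_mod h, Nat.mod_eq_of_lt (by omega)]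
    rw [h1]
    have : b + N - s - N + s = b := by omega
    rw [this, Nat.mod_eq_of_lt hb]

/-- The Frobenius twist of a linearised polynomial. -/
lemma lin_frob (hF : Fintype.card F = 2 ^ N) {s : ℕ} (hs : s ≤ N) (c : ℕ → F) (x : F) :
    (lin N c x) ^ 2 ^ s = lin N (fun b => (c ((b + N - s) % N)) ^ 2 ^ s) x := by
  unfold lin
  rw [sum_pow_char_pow]
  refine Finset.sum_nbij' (fun a => (a + s) % N) (fun b => (b + N - s) % N) ?_ ?_ ?_ ?_ ?_
  · intro a ha
    have ha' := Finset.mem_range.mp ha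
    exact Finset.mem_range.mpr (Nat.mod_lt _ (by omega))
  · intro b hb
    have hb' := Finset.mem_range.mp hb
    exact Finset.mem_range.mpr (Nat.mod_lt _ (by omega))
  · intro a ha
    exact shift_mod (Finset.mem_range.mp ha) hs
  · intro b hb
    exact shift_mod' (Finset.mem_range.mp hb) hs
  · intro a ha
    have ha' := Finset.mem_range.mp ha
    show (c a * x ^ 2 ^ a) ^ 2 ^ s = (c (((a + s) % N + N - s) % N)) ^ 2 ^ s * x ^ 2 ^ ((a + s) % N)
    rw [shift_mod ha' hs, mul_pow, ← pow_two_pow_mod hF, ← pow_mul, ← pow_add]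

/-- Extraction of coefficients. -/
lemma extract (hF : Fintype.card F = 2 ^ N) (hN : 2 ≤ N) (γ : ℕ → ℕ → F)
    (h : ∀ x : F, ∑ a ∈ Finset.range N, ∑ b ∈ Finset.range N, γ a b * x ^ (2 ^ a + 2 ^ b) = 0)
    {a₀ b₀ : ℕ} (ha : a₀ < N) (hb : b₀ < N) :
    (if a₀ = b₀ then γ a₀ a₀ else γ a₀ b₀ + γ b₀ a₀) = 0 := by
  classical
  have hp1 : 2 ^ a₀ ≤ 2 ^ (N - 1) := Nat.pow_le_pow_right (by norm_num) (by omega)
  have hp2 : 2 ^ b₀ ≤ 2 ^ (N - 1) := Nat.pow_le_pow_right (by norm_num) (by omega)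
  have hp3 : 2 ^ N = 2 * 2 ^ (N - 1) := by
    rw [← pow_succ']; congr 1; omega
  have hp4 : 2 ≤ 2 ^ (N - 1) := by
    calc 2 = 2 ^ 1 := by norm_num
      _ ≤ 2 ^ (N - 1) := Nat.pow_le_pow_right (by norm_num) (by omega)
  obtain ⟨M, hM⟩ : ∃ M, 2 ^ a₀ + 2 ^ b₀ + M = 2 * (2 ^ N - 1) :=
    ⟨2 * (2 ^ N - 1) - (2 ^ a₀ + 2 ^ b₀), by omega⟩
  have hcard1 : Fintype.card F - 1 = 2 ^ N - 1 := by rw [hF]
  have key : ∑ u : Fˣ, ((u : F) ^ M * ∑ a ∈ Finset.range N, ∑ b ∈ Finset.range N,
      γ a b * (u : F) ^ (2 ^ a + 2 ^ b)) = 0 := by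
    refine Finset.sum_eq_zero fun u _ => ?_
    rw [h, mul_zero]
  have hsum : ∀ i : ℕ, ∑ u : Fˣ, (u : F) ^ i = if 2 ^ N - 1 ∣ i then -1 else 0 := by
    intro i
    have := FiniteField.sum_pow_units F i
    rw [hcard1] at this
    simpa using this
  have key2 : ∑ a ∈ Finset.range N, ∑ b ∈ Finset.range N,
      γ a b * (if 2 ^ N - 1 ∣ 2 ^ a + 2 ^ b + M then -1 else 0) = 0 := by
    have e1 : ∀ a b, γ a b * (if 2 ^ N - 1 ∣ 2 ^ a + 2 ^ b + M then -1 else 0) =
        ∑ u : Fˣ, (u : F) ^ M * (γ a b * (u : F) ^ (2 ^ a + 2 ^ b)) := by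
      intro a b
      rw [← hsum, Finset.mul_sum]
      refine Finset.sum_congr rfl fun u _ => ?_
      rw [pow_add]; ring
    simp_rw [e1]
    calc ∑ a ∈ Finset.range N, ∑ b ∈ Finset.range N, ∑ u : Fˣ,
          (u : F) ^ M * (γ a b * (u : F) ^ (2 ^ a + 2 ^ b))
        = ∑ a ∈ Finset.range N, ∑ u : Fˣ, ∑ b ∈ Finset.range N,
          (u : F) ^ M * (γ a b * (u : F) ^ (2 ^ a + 2 ^ b)) :=
          Finset.sum_congr rfl fun a _ => Finset.sum_comm
      _ = ∑ u : Fˣ, ∑ a ∈ Finset.range N, ∑ b ∈ Finset.range N,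
          (u : F) ^ M * (γ a b * (u : F) ^ (2 ^ a + 2 ^ b)) := Finset.sum_comm
      _ = 0 := by
          rw [← key]
          refine Finset.sum_congr rfl fun u _ => ?_
          simp only [Finset.mul_sum]
  have hiff : ∀ a b, a < N → b < N → (2 ^ N - 1 ∣ 2 ^ a + 2 ^ b + M ↔
      (a = a₀ ∧ b = b₀) ∨ (a = b₀ ∧ b = a₀)) := by
    intro a b ha' hb'
    constructor
    · intro hd
      have hmod : 2 ^ a + 2 ^ b ≡ 2 ^ a₀ + 2 ^ b₀ [MOD 2 ^ N - 1] := by
        have h1 : 2 ^ a + 2 ^ b + M ≡ 2 ^ a₀ + 2 ^ b₀ + M [MOD 2 ^ N - 1] := by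
          refine Nat.ModEq.trans ((Nat.modEq_zero_iff_dvd).mpr hd) ?_
          rw [hM]
          exact ((Nat.modEq_zero_iff_dvd).mpr (Dvd.intro_left 2 rfl)).symm
        exact Nat.ModEq.add_right_cancel' M h1
      exact binary_mod hN ha' hb' ha hb hmod
    · rintro (⟨h1, h2⟩ | ⟨h1, h2⟩)
      · rw [h1, h2, hM]; exact Dvd.intro_left 2 rfl
      · rw [h1, h2, add_comm (2 ^ b₀), hM]; exact Dvd.intro_left 2 rfl
  have hneg : ∀ y : F, -y = y := fun y => by
    rw [neg_eq_iff_add_eq_zero]; exact CharTwo.add_self_eq_zero y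
  by_cases hab : a₀ = b₀
  · subst hab
    rw [if_pos rfl]
    have h1 := key2
    rw [Finset.sum_eq_single a₀, Finset.sum_eq_single a₀] at h1
    · rw [if_pos ((hiff a₀ a₀ ha ha).mpr (Or.inl ⟨rfl, rfl⟩)), mul_neg, mul_one, hneg] at h1
      exact h1
    · intro b hb' hne
      rw [if_neg, mul_zero]
      rw [hiff a₀ b ha (Finset.mem_range.mp hb')]
      rintro (⟨-, h2⟩ | ⟨-, h2⟩) <;> exact hne h2
    · intro hn; exact absurd (Finset.mem_range.mpr ha) hn
    · intro a ha' hne
      refine Finset.sum_eq_zero fun b hb' => ?_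
      rw [if_neg, mul_zero]
      rw [hiff a b (Finset.mem_range.mp ha') (Finset.mem_range.mp hb')]
      rintro (⟨h2, -⟩ | ⟨h2, -⟩) <;> exact hne h2
    · intro hn; exact absurd (Finset.mem_range.mpr ha) hn
  · rw [if_neg hab]
    have h1 := key2
    rw [Finset.sum_eq_add a₀ b₀ hab] at h1
    · rw [Finset.sum_eq_single b₀, Finset.sum_eq_single a₀] at h1
      · rw [if_pos ((hiff a₀ b₀ ha hb).mpr (Or.inl ⟨rfl, rfl⟩)),
          if_pos ((hiff b₀ a₀ hb ha).mpr (Or.inr ⟨rfl, rfl⟩)), mul_neg, mul_one, mul_neg, mul_one,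
          hneg, hneg] at h1
        exact h1
      · intro b hb' hne
        rw [if_neg, mul_zero]
        rw [hiff b₀ b hb (Finset.mem_range.mp hb')]
        rintro (⟨h2, -⟩ | ⟨-, h2⟩)
        · exact hab h2.symm
        · exact hne h2
      · intro hn; exact absurd (Finset.mem_range.mpr ha) hn
      · intro b hb' hne
        rw [if_neg, mul_zero]
        rw [hiff a₀ b ha (Finset.mem_range.mp hb')]
        rintro (⟨-, h2⟩ | ⟨h2, -⟩)
        · exact hne h2
        · exact hab h2
      · intro hn; exact absurd (Finset.mem_range.mpr hb) hn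
    · intro a ha' hne
      refine Finset.sum_eq_zero fun b hb' => ?_
      rw [if_neg, mul_zero]
      rw [hiff a b (Finset.mem_range.mp ha') (Finset.mem_range.mp hb')]
      rintro (⟨h2, -⟩ | ⟨h2, -⟩)
      · exact hne.1 h2
      · exact hne.2 h2
    · intro hn; exact absurd (Finset.mem_range.mpr ha) hn
    · intro hn; exact absurd (Finset.mem_range.mpr hb) hn

/-- The classification of the pairs `(A, B)`. -/
theorem classify (hF : Fintype.card F = 2 ^ N) (hN : 2 ≤ N) {s : ℕ} (hs0 : 0 < s) (hsN : s < N)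
    (hs : ∀ i j, i < N → j < N → i ≠ j → (j + 2 * s) % N ≠ i ∨ (i + 2 * s) % N ≠ j)
    (A B : F → F) (hA : ∀ x y, A (x + y) = A x + A y) (hB : ∀ x y, B (x + y) = B x + B y)
    (hA0 : ∃ x, A x ≠ 0) (h : ∀ x, (A x) ^ 2 ^ s * A x = B (x ^ 2 ^ s * x)) :
    ∃ c : F, c ≠ 0 ∧ ∃ i < N, ∀ x, A x = c * x ^ 2 ^ i := by
  classical
  obtain ⟨c, hc⟩ := exists_lin hF A hA
  obtain ⟨d, hd⟩ := exists_lin hF B hB
  let c' : ℕ → F := fun b => (c ((b + N - s) % N)) ^ 2 ^ s
  have hc' : ∀ x, (A x) ^ 2 ^ s = lin N c' x := fun x => by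
    rw [hc, lin_frob hF hsN.le]
  let γ : ℕ → ℕ → F := fun a b => c a * c' b + (if b = (a + s) % N then d a else 0)
  have hγ : ∀ x : F, ∑ a ∈ Finset.range N, ∑ b ∈ Finset.range N,
      γ a b * x ^ (2 ^ a + 2 ^ b) = 0 := by
    intro x
    have h1 : ∑ a ∈ Finset.range N, ∑ b ∈ Finset.range N,
        (c a * c' b) * x ^ (2 ^ a + 2 ^ b) = (A x) ^ 2 ^ s * A x := by
      rw [hc', hc x]
      unfold lin
      rw [mul_comm, Finset.sum_mul_sum]
      refine Finset.sum_congr rfl fun a _ => Finset.sum_congr rfl fun b _ => ?_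
      rw [pow_add]; ring
    have h2 : ∑ a ∈ Finset.range N, ∑ b ∈ Finset.range N,
        (if b = (a + s) % N then d a else 0) * x ^ (2 ^ a + 2 ^ b) = B (x ^ 2 ^ s * x) := by
      rw [hd]
      unfold lin
      refine Finset.sum_congr rfl fun a ha => ?_
      have ha' := Finset.mem_range.mp ha
      rw [Finset.sum_eq_single ((a + s) % N)]
      · rw [if_pos rfl]
        have e : (x ^ 2 ^ s * x) ^ 2 ^ a = x ^ (2 ^ a + 2 ^ ((a + s) % N)) := by
          rw [mul_pow, ← pow_mul, ← pow_add 2 s a, add_comm s a, pow_add x,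
            ← pow_two_pow_mod hF]
          ring
        rw [e]
      · intro b _ hne
        rw [if_neg hne, zero_mul]
      · intro hn
        exact absurd (Finset.mem_range.mpr (Nat.mod_lt _ (by omega))) hn
    have h3 : ∀ a b, γ a b * x ^ (2 ^ a + 2 ^ b) = (c a * c' b) * x ^ (2 ^ a + 2 ^ b) +
        (if b = (a + s) % N then d a else 0) * x ^ (2 ^ a + 2 ^ b) := fun a b => add_mul _ _ _
    simp_rw [h3, Finset.sum_add_distrib]
    rw [h1, h2, h]
    exact CharTwo.add_self_eq_zero _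
  have hne : ∀ a, a < N → a ≠ (a + s) % N := by
    intro a ha he
    have h1 := shift_mod ha hsN.le
    rw [← he] at h1
    rcases lt_or_ge (a + s) N with h2 | h2
    · rw [Nat.mod_eq_of_lt h2] at he; omega
    · rw [Nat.mod_eq_sub_mod h2, Nat.mod_eq_of_lt (by omega)] at he; omega
  have hD : ∀ a, a < N → c a * c' a = 0 := by
    intro a ha
    have h1 := extract hF hN γ hγ ha ha
    rw [if_pos rfl] at h1
    have h2 : γ a a = c a * c' a := by
      show c a * c' a + (if a = (a + s) % N then d a else 0) = c a * c' a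
      rw [if_neg (hne a ha), add_zero]
    rwa [h2] at h1
  have hE : ∀ a b, a < N → b < N → a ≠ b → b ≠ (a + s) % N → a ≠ (b + s) % N →
      c a * c' b + c b * c' a = 0 := by
    intro a b ha hb hab h1 h2
    have h3 := extract hF hN γ hγ ha hb
    rw [if_neg hab] at h3
    have h4 : γ a b = c a * c' b := by
      show c a * c' b + (if b = (a + s) % N then d a else 0) = c a * c' b
      rw [if_neg h1, add_zero]
    have h5 : γ b a = c b * c' a := by
      show c b * c' a + (if a = (b + s) % N then d b else 0) = c b * c' a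
      rw [if_neg h2, add_zero]
    rwa [h4, h5] at h3
  have hkey : ∀ i j, i < N → j < N → i ≠ j → c i ≠ 0 → c j ≠ 0 → (j + 2 * s) % N ≠ i → False := by
    intro i j hi hj hij hci hcj hh
    have hci' : c' i = 0 := (mul_eq_zero.mp (hD i hi)).resolve_left hci
    have hb : (j + s) % N < N := Nat.mod_lt _ (by omega)
    have hcb : c' ((j + s) % N) = (c j) ^ 2 ^ s := by
      show (c (((j + s) % N + N - s) % N)) ^ 2 ^ s = _
      rw [shift_mod hj hsN.le]
    have h1 : i ≠ (j + s) % N := by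
      intro he
      rw [← he] at hcb
      rw [hci'] at hcb
      exact (pow_ne_zero _ hcj) hcb.symm
    have h2 : (j + s) % N ≠ (i + s) % N := by
      intro he
      have h3 := shift_mod hj hsN.le
      rw [he, shift_mod hi hsN.le] at h3
      exact hij h3
    have h3 : i ≠ ((j + s) % N + s) % N := by
      rw [Nat.mod_add_mod, add_assoc, ← two_mul]
      exact hh.symm
    have h4 := hE i ((j + s) % N) hi hb h1 h2 h3
    rw [hci', mul_zero, add_zero, hcb] at h4
    exact (mul_ne_zero hci (pow_ne_zero _ hcj)) h4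
  have huniq : ∀ i j, i < N → j < N → c i ≠ 0 → c j ≠ 0 → i = j := by
    intro i j hi hj hci hcj
    by_contra hij
    rcases hs i j hi hj hij with h1 | h1
    · exact hkey i j hi hj hij hci hcj h1
    · exact hkey j i hj hi (Ne.symm hij) hcj hci h1
  obtain ⟨x₀, hx₀⟩ := hA0
  have hex : ∃ i, i < N ∧ c i ≠ 0 := by
    by_contra hno
    push Not at hno
    apply hx₀
    rw [hc]
    unfold lin
    refine Finset.sum_eq_zero fun a ha => ?_
    rw [hno a (Finset.mem_range.mp ha), zero_mul]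
  obtain ⟨i, hi, hci⟩ := hex
  refine ⟨c i, hci, i, hi, fun x => ?_⟩
  rw [hc]
  unfold lin
  rw [Finset.sum_eq_single i]
  · intro b hb hbi
    by_cases hcb : c b = 0
    · rw [hcb, zero_mul]
    · exact absurd (huniq b i (Finset.mem_range.mp hb) hi hcb hci) hbi
  · intro hn; exact absurd (Finset.mem_range.mpr hi) hn

end field

section cardHom

/-- The number of additive maps between two elementary abelian 2-groups. -/
lemma card_addHom2 {U W : Type*} [AddCommGroup U] [AddCommGroup W] [Finite U] [Finite W]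
    (hU : ∀ x : U, 2 • x = 0) (hW : ∀ x : W, 2 • x = 0) {a b : ℕ}
    (ha : Nat.card U = 2 ^ a) (hb : Nat.card W = 2 ^ b) : Nat.card (U →+ W) = 2 ^ (a * b) := by
  classical
  haveI hp : Fact (Nat.Prime 2) := ⟨Nat.prime_two⟩
  letI : Module (ZMod 2) U := AddCommGroup.zmodModule hU
  letI : Module (ZMod 2) W := AddCommGroup.zmodModule hW
  haveI : Module.Finite (ZMod 2) U := Module.Finite.of_finite
  haveI : Module.Finite (ZMod 2) W := Module.Finite.of_finite
  haveI : Finite (U →ₗ[ZMod 2] W) :=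
    Finite.of_injective (fun g : U →ₗ[ZMod 2] W => (g : U → W)) DFunLike.coe_injective
  have hfrU : Module.finrank (ZMod 2) U = a := by
    have h1 := Module.natCard_eq_pow_finrank (K := ZMod 2) (V := U)
    rw [ha, Nat.card_zmod] at h1
    exact (Nat.pow_right_injective (le_refl 2) h1).symm
  have hfrW : Module.finrank (ZMod 2) W = b := by
    have h1 := Module.natCard_eq_pow_finrank (K := ZMod 2) (V := W)
    rw [hb, Nat.card_zmod] at h1
    exact (Nat.pow_right_injective (le_refl 2) h1).symm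
  have e : (U →+ W) ≃ (U →ₗ[ZMod 2] W) := (AddMonoidHom.toZModLinearMapEquiv (n := 2)).toEquiv
  rw [Nat.card_congr e]
  have h2 := Module.finrank_linearMap (ZMod 2) (ZMod 2) U W
  have h3 : Nat.card (U →ₗ[ZMod 2] W) = 2 ^ Module.finrank (ZMod 2) (U →ₗ[ZMod 2] W) := by
    rw [Module.natCard_eq_pow_finrank (K := ZMod 2), Nat.card_zmod]
  rw [h3, h2, hfrU, hfrW]

/-- Extension of additive maps in characteristic two. -/
lemma exists_extend {F : Type*} [Field F] [CharP F 2] (E : AddSubgroup F) (f : E →+ F) :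
    ∃ g : F →+ F, ∀ y : E, g y = f y := by
  classical
  haveI hp : Fact (Nat.Prime 2) := ⟨Nat.prime_two⟩
  letI : Algebra (ZMod 2) F := ZMod.algebra F 2
  letI : Module (ZMod 2) F := Algebra.toModule
  let p : Submodule (ZMod 2) F := AddSubgroup.toZModSubmodule 2 E
  have hp' : ∀ y : F, y ∈ p ↔ y ∈ E := fun y => Iff.rfl
  let f' : p →+ F :=
    { toFun := fun y => f ⟨y.1, (hp' _).mp y.2⟩
      map_zero' := by
        have : (⟨(0 : F), (hp' _).mp p.zero_mem⟩ : E) = 0 := rfl
        exact (congrArg f this).trans (map_zero f)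
      map_add' := fun x y => by
        have : (⟨(x + y : p).1, (hp' _).mp (x + y).2⟩ : E) =
          ⟨x.1, (hp' _).mp x.2⟩ + ⟨y.1, (hp' _).mp y.2⟩ := rfl
        exact (congrArg f this).trans (map_add f _ _) }
  obtain ⟨g, hg⟩ := LinearMap.exists_extend (AddMonoidHom.toZModLinearMap 2 f')
  refine ⟨g.toAddMonoidHom, fun y => ?_⟩
  have h1 := LinearMap.congr_fun hg ⟨y.1, (hp' _).mpr y.2⟩
  exact h1

end cardHom

section grp

universe u v

/-- Coordinates on the group. -/
structure Coord (S : Type u) [Group S] (F : Type v) [Field F] (s : ℕ) where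
  δ : S → F
  η : S → F
  R : F → F → Prop
  δ_mul : ∀ x y, δ (x * y) = δ x + δ y
  η_mul : ∀ x y, η (x * y) = η x + η y + δ x ^ 2 ^ s * δ y
  ext : ∀ x y, δ x = δ y → η x = η y → x = y
  rel : ∀ x, R (δ x) (η x)
  exists_mk : ∀ d e, R d e → ∃ x, δ x = d ∧ η x = e
  R_scale : ∀ c : F, c ≠ 0 → ∀ i d e, R d e → R (c * d ^ 2 ^ i) (c ^ (2 ^ s + 1) * e ^ 2 ^ i)
  surj : ∀ d, ∃ e, R d e
  center_iff : ∀ x, x ∈ Subgroup.center S ↔ δ x = 0
  sq_surj : ∀ z ∈ Subgroup.center S, ∃ x, x ^ 2 = z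

variable {S : Type u} [Group S] {F : Type v} [Field F] [CharP F 2] {s : ℕ} (C : Coord S F s)

namespace Coord

include C

lemma add_self' (y : F) : y + y = 0 := CharTwo.add_self_eq_zero y

lemma δ_one : C.δ 1 = 0 := by
  have h := C.δ_mul 1 1
  rw [mul_one] at h
  have h2 := add_self' C (C.δ 1)
  rw [← h] at h2
  exact h2

lemma η_one (hs : 2 ^ s ≠ 0) : C.η 1 = 0 := by
  have h := C.η_mul 1 1
  rw [mul_one, δ_one C, mul_zero, add_zero] at h
  have h2 := add_self' C (C.η 1)
  rw [← h] at h2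
  exact h2

lemma δ_inv (x : S) : C.δ x⁻¹ = C.δ x := by
  have h := C.δ_mul x x⁻¹
  rw [mul_inv_cancel, δ_one C] at h
  exact (CharTwo.add_eq_zero.mp h.symm).symm

lemma δ_sq (x : S) : C.δ (x ^ 2) = 0 := by
  rw [pow_two, C.δ_mul]; exact add_self' C _

lemma η_sq (x : S) : C.η (x ^ 2) = C.δ x ^ 2 ^ s * C.δ x := by
  rw [pow_two, C.η_mul, add_self' C, zero_add]

lemma sq_mem_center (x : S) : x ^ 2 ∈ Subgroup.center S :=
  (C.center_iff _).mpr (δ_sq C x)

lemma central_sq {z : S} (hz : z ∈ Subgroup.center S) : z ^ 2 = 1 := by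
  have hz' := (C.center_iff z).mp hz
  apply C.ext
  · rw [δ_sq, δ_one]
  · rw [η_sq, hz', mul_zero, η_one C (by positivity)]

lemma map_center (α : MulAut S) {z : S} (hz : z ∈ Subgroup.center S) : α z ∈ Subgroup.center S := by
  rw [Subgroup.mem_center_iff] at hz ⊢
  intro g
  have h := hz (α.symm g)
  have h2 := congrArg α h
  simpa using h2

lemma exists_δ (d : F) : ∃ x, C.δ x = d := by
  obtain ⟨e, he⟩ := C.surj d
  obtain ⟨x, hx, -⟩ := C.exists_mk d e he
  exact ⟨x, hx⟩

omit C in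
/-- A section of `δ`. -/
noncomputable def sec (C : Coord S F s) (d : F) : S := (exists_δ C d).choose

lemma δ_sec (d : F) : C.δ (sec C d) = d := (exists_δ C d).choose_spec

lemma mem_center_of_δ_eq {x y : S} (h : C.δ x = C.δ y) : y⁻¹ * x ∈ Subgroup.center S := by
  rw [C.center_iff, C.δ_mul, δ_inv, h]
  exact add_self' C _

lemma δ_map_eq (α : MulAut S) {x y : S} (h : C.δ x = C.δ y) : C.δ (α x) = C.δ (α y) := by
  have h1 := map_center C α (mem_center_of_δ_eq C h)
  rw [C.center_iff, map_mul, map_inv, C.δ_mul, δ_inv] at h1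
  exact (CharTwo.add_eq_zero.mp h1).symm

omit C in
/-- The map induced on `F`. -/
noncomputable def A (C : Coord S F s) (α : MulAut S) (d : F) : F := C.δ (α (sec C d))

lemma A_δ (α : MulAut S) (x : S) : A C α (C.δ x) = C.δ (α x) :=
  δ_map_eq C α (δ_sec C _)

lemma A_add (α : MulAut S) (d d' : F) : A C α (d + d') = A C α d + A C α d' := by
  obtain ⟨x, rfl⟩ := exists_δ C d
  obtain ⟨y, rfl⟩ := exists_δ C d'
  rw [← C.δ_mul, A_δ, A_δ, A_δ, map_mul, C.δ_mul]

omit C in
/-- The action on `F`. -/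
noncomputable def Ψ (C : Coord S F s) : MulAut S →* Equiv.Perm F where
  toFun α :=
    { toFun := A C α
      invFun := A C α⁻¹
      left_inv := fun d => by
        obtain ⟨x, rfl⟩ := exists_δ C d
        rw [A_δ, A_δ]
        simp
      right_inv := fun d => by
        obtain ⟨x, rfl⟩ := exists_δ C d
        rw [A_δ, A_δ]
        simp }
  map_one' := by
    ext d
    obtain ⟨x, rfl⟩ := exists_δ C d
    show A C 1 (C.δ x) = C.δ x
    rw [A_δ]; rfl
  map_mul' α β := by
    ext d
    obtain ⟨x, rfl⟩ := exists_δ C d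
    show A C (α * β) (C.δ x) = A C α (A C β (C.δ x))
    rw [A_δ, A_δ, A_δ]; rfl

lemma Ψ_apply (α : MulAut S) (d : F) : Ψ C α d = A C α d := rfl

lemma Ψ_δ (α : MulAut S) (x : S) : Ψ C α (C.δ x) = C.δ (α x) := A_δ C α x

lemma mem_ker_iff (α : MulAut S) : α ∈ (Ψ C).ker ↔ ∀ x, C.δ (α x) = C.δ x := by
  rw [MonoidHom.mem_ker]
  constructor
  · intro h x
    rw [← Ψ_δ, h]; rfl
  · intro h
    ext d
    obtain ⟨x, rfl⟩ := exists_δ C d
    rw [Ψ_δ, h]; rfl

/-- The core equation. -/
lemma core (α : MulAut S) : ∃ B : F →+ F, ∀ d, (Ψ C α d) ^ 2 ^ s * Ψ C α d = B (d ^ 2 ^ s * d) := by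
  classical
  have hs : 2 ^ s ≠ 0 := by positivity
  let E : AddSubgroup F :=
    { carrier := {e | ∃ z ∈ Subgroup.center S, C.η z = e}
      zero_mem' := ⟨1, Subgroup.one_mem _, η_one C hs⟩
      add_mem' := by
        rintro _ _ ⟨z, hz, rfl⟩ ⟨w, hw, rfl⟩
        refine ⟨z * w, Subgroup.mul_mem _ hz hw, ?_⟩
        rw [C.η_mul, (C.center_iff z).mp hz, (C.center_iff w).mp hw, mul_zero, add_zero]
      neg_mem' := by
        rintro _ ⟨z, hz, rfl⟩
        refine ⟨z, hz, ?_⟩
        rw [CharTwo.neg_eq] }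
  have hE : ∀ e : E, ∃ z, z ∈ Subgroup.center S ∧ C.η z = e.1 := fun e => e.2
  choose zz hz1 hz2 using hE
  have huniq : ∀ {z w : S}, z ∈ Subgroup.center S → w ∈ Subgroup.center S → C.η z = C.η w → z = w := by
    intro z w hz hw h
    apply C.ext _ _ _ h
    rw [(C.center_iff z).mp hz, (C.center_iff w).mp hw]
  let B₀ : E →+ F :=
    { toFun := fun e => C.η (α (zz e))
      map_zero' := by
        have h1 : zz 0 = 1 := huniq (hz1 0) (Subgroup.one_mem _) (by rw [hz2, η_one C hs]; rfl)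
        rw [h1, map_one, η_one C hs]
      map_add' := fun e e' => by
        have h1 : zz (e + e') = zz e * zz e' := by
          apply huniq (hz1 _) (Subgroup.mul_mem _ (hz1 _) (hz1 _))
          rw [hz2, C.η_mul, hz2, hz2, (C.center_iff _).mp (hz1 e), (C.center_iff _).mp (hz1 e'),
            mul_zero, add_zero]
          rfl
        rw [h1, map_mul, C.η_mul, (C.center_iff _).mp (map_center C α (hz1 e)),
          (C.center_iff _).mp (map_center C α (hz1 e')), mul_zero, add_zero] }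
  obtain ⟨B, hB⟩ := exists_extend E B₀
  refine ⟨B, fun d => ?_⟩
  obtain ⟨x, rfl⟩ := exists_δ C d
  have h1 : C.δ x ^ 2 ^ s * C.δ x ∈ E := ⟨x ^ 2, sq_mem_center C x, η_sq C x⟩
  have h2 := hB ⟨_, h1⟩
  have h3 : zz ⟨_, h1⟩ = x ^ 2 := by
    apply huniq (hz1 _) (sq_mem_center C x)
    rw [hz2, η_sq]
  show _ = B (C.δ x ^ 2 ^ s * C.δ x)
  rw [h2, Ψ_δ]
  show _ = C.η (α (zz ⟨_, h1⟩))
  rw [h3, map_pow, η_sq]

variable [Fintype F] {N : ℕ}

/-- Each automorphism acts as `c x^(2^i)`. -/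
lemma classification (hF : Fintype.card F = 2 ^ N) (hN : 2 ≤ N) (hs0 : 0 < s) (hsN : s < N)
    (hs : ∀ i j, i < N → j < N → i ≠ j → (j + 2 * s) % N ≠ i ∨ (i + 2 * s) % N ≠ j)
    (α : MulAut S) : ∃ c : F, c ≠ 0 ∧ ∃ i < N, ∀ d, Ψ C α d = c * d ^ 2 ^ i := by
  obtain ⟨B, hB⟩ := core C α
  refine classify hF hN hs0 hsN hs (Ψ C α) B (A_add C α) (map_add B) ?_ hB
  refine ⟨1, ?_⟩
  intro h
  have h1 : Ψ C α 1 = Ψ C α 0 := by
    rw [h]
    show 0 = A C α 0
    have h2 := A_add C α 0 0
    rw [add_zero] at h2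
    have h3 := add_self' C (A C α 0)
    rw [← h2] at h3
    exact h3.symm
  have h2 := (Ψ C α).injective h1
  exact one_ne_zero h2

lemma pow_frob_inj {i : ℕ} {x y : F} (h : x ^ 2 ^ i = y ^ 2 ^ i) : x = y := by
  have h1 : (x + y) ^ 2 ^ i = 0 := by
    rw [add_pow_char_pow, h]; exact add_self' C _
  have h2 : x + y = 0 := by
    exact pow_eq_zero_iff (by positivity) |>.mp h1
  exact CharTwo.add_eq_zero.mp h2

/-- The realisation of the maps `c x^(2^i)`. -/
lemma realize [Finite S] {c : F} (hc : c ≠ 0) (i : ℕ) :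
    ∃ α : MulAut S, ∀ d, Ψ C α d = c * d ^ 2 ^ i := by
  have hx : ∀ x, ∃ y, C.δ y = c * C.δ x ^ 2 ^ i ∧ C.η y = c ^ (2 ^ s + 1) * C.η x ^ 2 ^ i :=
    fun x => C.exists_mk _ _ (C.R_scale c hc i _ _ (C.rel x))
  choose f hf1 hf2 using hx
  have hmul : ∀ x y, f (x * y) = f x * f y := by
    intro x y
    apply C.ext
    · rw [hf1, C.δ_mul, C.δ_mul, hf1, hf1, add_pow_char_pow]; ring
    · rw [hf2, C.η_mul, C.η_mul, hf1, hf1, hf2, hf2, add_pow_char_pow, add_pow_char_pow, mul_pow,
        mul_pow]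
      have e : (C.δ x ^ 2 ^ i) ^ 2 ^ s = (C.δ x ^ 2 ^ s) ^ 2 ^ i := by
        rw [← pow_mul, ← pow_mul, mul_comm]
      rw [e]
      ring
  have hinj : Function.Injective f := by
    intro x y h
    apply C.ext
    · have h1 := hf1 x
      rw [h, hf1 y] at h1
      exact (pow_frob_inj C (mul_left_cancel₀ hc h1)).symm
    · have h1 := hf2 x
      rw [h, hf2 y] at h1
      exact (pow_frob_inj C (mul_left_cancel₀ (pow_ne_zero _ hc) h1)).symm
  have hbij : Function.Bijective f := Finite.injective_iff_bijective.mp hinj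
  refine ⟨MulEquiv.ofBijective (MulHom.mk f hmul) hbij, fun d => ?_⟩
  obtain ⟨x, rfl⟩ := exists_δ C d
  rw [Ψ_δ]
  exact hf1 x

end Coord

namespace Coord

include C

lemma disp_center {α : MulAut S} (hα : α ∈ (Ψ C).ker) (x : S) :
    x⁻¹ * α x ∈ Subgroup.center S :=
  mem_center_of_δ_eq C ((mem_ker_iff C α).mp hα x)

lemma ker_fix_center {α : MulAut S} (hα : α ∈ (Ψ C).ker) {z : S} (hz : z ∈ Subgroup.center S) :
    α z = z := by
  obtain ⟨y, rfl⟩ := C.sq_surj z hz
  have hh := disp_center C hα y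
  have h1 := central_sq C hh
  have hc : ∀ g, (y⁻¹ * α y) * g = g * (y⁻¹ * α y) := fun g => (Subgroup.mem_center_iff.mp hh g).symm
  have h2 : α y = y * (y⁻¹ * α y) := by group
  rw [map_pow, h2, pow_two, pow_two]
  calc y * (y⁻¹ * α y) * (y * (y⁻¹ * α y)) = y * ((y⁻¹ * α y) * y) * (y⁻¹ * α y) := by group
    _ = y * (y * (y⁻¹ * α y)) * (y⁻¹ * α y) := by rw [hc]
    _ = y * y * ((y⁻¹ * α y) ^ 2) := by rw [pow_two]; group
    _ = y * y := by rw [h1, mul_one]

lemma disp_eq {α : MulAut S} (hα : α ∈ (Ψ C).ker) {x y : S} (h : C.δ x = C.δ y) :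
    x⁻¹ * α x = y⁻¹ * α y := by
  have hz := mem_center_of_δ_eq C h
  have h1 := ker_fix_center C hα hz
  have h2 : x = y * (y⁻¹ * x) := by group
  set z := y⁻¹ * x with hzdef
  have hc : ∀ g, z * g = g * z := fun g => (Subgroup.mem_center_iff.mp hz g).symm
  rw [h2, map_mul, h1]
  calc (y * z)⁻¹ * (α y * z) = z⁻¹ * (y⁻¹ * α y) * z := by group
    _ = z⁻¹ * (z * (y⁻¹ * α y)) := by rw [mul_assoc, ← hc]
    _ = y⁻¹ * α y := by group

lemma disp_mul {α : MulAut S} (hα : α ∈ (Ψ C).ker) (x y : S) :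
    (x * y)⁻¹ * α (x * y) = (x⁻¹ * α x) * (y⁻¹ * α y) := by
  have hh := disp_center C hα x
  have hc : ∀ g, (x⁻¹ * α x) * g = g * (x⁻¹ * α x) := fun g => (Subgroup.mem_center_iff.mp hh g).symm
  rw [map_mul]
  calc (x * y)⁻¹ * (α x * α y) = y⁻¹ * ((x⁻¹ * α x) * α y) := by group
    _ = (y⁻¹ * (x⁻¹ * α x)) * α y := by simp only [mul_assoc]
    _ = ((x⁻¹ * α x) * y⁻¹) * α y := by rw [hc y⁻¹]
    _ = (x⁻¹ * α x) * (y⁻¹ * α y) := by simp only [mul_assoc]

lemma ker_sq {α : MulAut S} (hα : α ∈ (Ψ C).ker) : α ^ 2 = 1 := by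
  ext x
  have hh := disp_center C hα x
  have h1 := central_sq C hh
  have h2 := ker_fix_center C hα hh
  have h3 : α x = x * (x⁻¹ * α x) := by group
  rw [pow_two, MulAut.mul_apply, MulAut.one_apply]
  generalize hhh : x⁻¹ * α x = h at *
  rw [h3, map_mul, h2, h3, mul_assoc, ← pow_two, h1, mul_one]

omit C in
/-- The automorphism attached to an additive map. -/
noncomputable def autOf (C : Coord S F s) (g : F →+ Additive (Subgroup.center S)) : MulAut S :=
  let hg : ∀ d, ((Additive.toMul (g d) : Subgroup.center S) : S) ∈ Subgroup.center S :=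
    fun d => (Additive.toMul (g d) : Subgroup.center S).2
  { toFun := fun x => x * (Additive.toMul (g (C.δ x)) : Subgroup.center S).1
    invFun := fun x => x * (Additive.toMul (g (C.δ x)) : Subgroup.center S).1
    left_inv := fun x => by
      have h1 : C.δ (x * (Additive.toMul (g (C.δ x)) : Subgroup.center S).1) = C.δ x := by
        rw [C.δ_mul, (C.center_iff _).mp (hg _), add_zero]
      show x * _ * (Additive.toMul (g (C.δ (x * _))) : Subgroup.center S).1 = x
      rw [h1, mul_assoc, ← pow_two, central_sq C (hg _), mul_one]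
    right_inv := fun x => by
      have h1 : C.δ (x * (Additive.toMul (g (C.δ x)) : Subgroup.center S).1) = C.δ x := by
        rw [C.δ_mul, (C.center_iff _).mp (hg _), add_zero]
      show x * _ * (Additive.toMul (g (C.δ (x * _))) : Subgroup.center S).1 = x
      rw [h1, mul_assoc, ← pow_two, central_sq C (hg _), mul_one]
    map_mul' := fun x y => by
      show x * y * (Additive.toMul (g (C.δ (x * y))) : Subgroup.center S).1 = _
      rw [C.δ_mul, map_add, toMul_add, Subgroup.coe_mul]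
      show _ = x * (Additive.toMul (g (C.δ x)) : Subgroup.center S).1 *
        (y * (Additive.toMul (g (C.δ y)) : Subgroup.center S).1)
      have hc := Subgroup.mem_center_iff.mp (hg (C.δ x)) y
      calc x * y * ((Additive.toMul (g (C.δ x)) : Subgroup.center S).1 *
            (Additive.toMul (g (C.δ y)) : Subgroup.center S).1)
          = x * (y * (Additive.toMul (g (C.δ x)) : Subgroup.center S).1) *
            (Additive.toMul (g (C.δ y)) : Subgroup.center S).1 := by group
        _ = x * ((Additive.toMul (g (C.δ x)) : Subgroup.center S).1 * y) *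
            (Additive.toMul (g (C.δ y)) : Subgroup.center S).1 := by rw [hc]
        _ = _ := by group }

lemma autOf_apply (g : F →+ Additive (Subgroup.center S)) (x : S) :
    autOf C g x = x * (Additive.toMul (g (C.δ x)) : Subgroup.center S).1 := rfl

lemma autOf_mem (g : F →+ Additive (Subgroup.center S)) : autOf C g ∈ (Ψ C).ker := by
  rw [mem_ker_iff]
  intro x
  rw [autOf_apply, C.δ_mul, (C.center_iff _).mp (Additive.toMul (g (C.δ x)) : Subgroup.center S).2,
    add_zero]

omit C in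
/-- The kernel is the group of additive maps. -/
noncomputable def kerEquiv (C : Coord S F s) :
    (Ψ C).ker ≃ (F →+ Additive (Subgroup.center S)) where
  toFun α := AddMonoidHom.mk'
    (fun d => Additive.ofMul (⟨(sec C d)⁻¹ * α.1 (sec C d), disp_center C α.2 _⟩ : Subgroup.center S))
    (fun d d' => by
      apply Additive.toMul.injective
      apply Subtype.ext
      show (sec C (d + d'))⁻¹ * α.1 (sec C (d + d')) =
        ((sec C d)⁻¹ * α.1 (sec C d)) * ((sec C d')⁻¹ * α.1 (sec C d'))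
      rw [← disp_mul C α.2]
      apply disp_eq C α.2
      rw [C.δ_mul, δ_sec, δ_sec, δ_sec])
  invFun g := ⟨autOf C g, autOf_mem C g⟩
  left_inv α := by
    apply Subtype.ext
    ext x
    show x * ((sec C (C.δ x))⁻¹ * α.1 (sec C (C.δ x))) = α.1 x
    rw [disp_eq C α.2 (δ_sec C (C.δ x))]
    group
  right_inv g := by
    ext d
    show (sec C d)⁻¹ * (sec C d * (Additive.toMul (g (C.δ (sec C d))) : Subgroup.center S).1) =
      (Additive.toMul (g d) : Subgroup.center S).1
    rw [δ_sec]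
    group

variable [Fintype F] {N r : ℕ}

lemma card_ker [Finite S] (hF : Fintype.card F = 2 ^ N) (hZ : Nat.card (Subgroup.center S) = 2 ^ r) :
    Nat.card (Ψ C).ker = 2 ^ (N * r) := by
  rw [Nat.card_congr (kerEquiv C)]
  letI : CommGroup (Subgroup.center S) :=
    { (inferInstance : Group (Subgroup.center S)) with
      mul_comm := fun a b => Subtype.ext (Subgroup.mem_center_iff.mp a.2 b.1).symm }
  have h1 : ∀ x : F, 2 • x = 0 := fun x => by rw [two_nsmul]; exact CharTwo.add_self_eq_zero x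
  have h2 : ∀ x : Additive (Subgroup.center S), 2 • x = 0 := by
    intro x
    rw [two_nsmul]
    apply Additive.toMul.injective
    apply Subtype.ext
    show (Additive.toMul x : Subgroup.center S).1 * (Additive.toMul x : Subgroup.center S).1 = 1
    rw [← pow_two, central_sq C (Additive.toMul x : Subgroup.center S).2]
  have h3 : Nat.card F = 2 ^ N := by rw [Nat.card_eq_fintype_card, hF]
  have h4 : Nat.card (Additive (Subgroup.center S)) = 2 ^ r := by
    rw [← hZ]; exact Nat.card_congr Additive.toMul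
  exact card_addHom2 h1 h2 h3 h4

lemma exp_inj (hF : Fintype.card F = 2 ^ N) {i i' : ℕ} (hi : i < N) (hi' : i' < N)
    (h : ∀ x : F, x ^ 2 ^ i = x ^ 2 ^ i') : i = i' := by
  classical
  have hl : ∀ j, j < N → ∀ x : F, lin N (fun a => if a = j then 1 else 0) x = x ^ 2 ^ j := by
    intro j hj x
    unfold lin
    rw [Finset.sum_eq_single j]
    · simp
    · intro b _ hb
      simp [hb]
    · intro hn; exact absurd (Finset.mem_range.mpr hj) hn
  have h1 := lin_inj hF (c := fun a => if a = i then (1 : F) else 0)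
    (d := fun a => if a = i' then (1 : F) else 0) (fun x => by rw [hl i hi, hl i' hi', h]) i hi
  by_contra hne
  simp [hne] at h1

lemma card_range [Finite S] (hF : Fintype.card F = 2 ^ N) (hN : 2 ≤ N) (hs0 : 0 < s) (hsN : s < N)
    (hs : ∀ i j, i < N → j < N → i ≠ j → (j + 2 * s) % N ≠ i ∨ (i + 2 * s) % N ≠ j) :
    Nat.card (Ψ C).range = N * (2 ^ N - 1) := by
  classical
  have hre : ∀ p : Fˣ × Fin N, ∃ α : MulAut S, ∀ d, Ψ C α d = (p.1 : F) * d ^ 2 ^ (p.2 : ℕ) :=
    fun p => realize C p.1.ne_zero _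
  choose aa haa using hre
  let φ : Fˣ × Fin N → (Ψ C).range := fun p => ⟨Ψ C (aa p), ⟨aa p, rfl⟩⟩
  have hφ : Function.Bijective φ := by
    constructor
    · rintro ⟨c, i⟩ ⟨c', i'⟩ h
      have h1 : ∀ d, (c : F) * d ^ 2 ^ (i : ℕ) = (c' : F) * d ^ 2 ^ (i' : ℕ) := by
        intro d
        rw [← haa (c, i) d, ← haa (c', i') d]
        have := congrArg Subtype.val h
        exact congrFun (congrArg DFunLike.coe this) d
      have h2 : (c : F) = c' := by simpa using h1 1
      have h3 : ∀ x : F, x ^ 2 ^ (i : ℕ) = x ^ 2 ^ (i' : ℕ) := by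
        intro x
        have := h1 x
        rw [← h2] at this
        exact mul_left_cancel₀ c.ne_zero this
      have h4 := exp_inj C hF i.2 i'.2 h3
      rw [Prod.mk.injEq]
      exact ⟨Units.ext h2, Fin.ext h4⟩
    · rintro ⟨_, α, rfl⟩
      obtain ⟨c, hc, i, hi, h⟩ := classification C hF hN hs0 hsN hs α
      refine ⟨(Units.mk0 c hc, ⟨i, hi⟩), ?_⟩
      apply Subtype.ext
      ext d
      show Ψ C (aa _) d = Ψ C α d
      rw [haa, h]
      rfl
  rw [← Nat.card_congr (Equiv.ofBijective φ hφ), Nat.card_prod, Nat.card_eq_fintype_card,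
    Fintype.card_units, hF, Nat.card_fin, mul_comm]

omit C in
lemma perm_pow {P : Equiv.Perm F} {w : F} (h : ∀ y, P y = w * y) (n : ℕ) (y : F) :
    (P ^ n) y = w ^ n * y := by
  induction n with
  | zero => simp
  | succ n ih =>
    rw [pow_succ', Equiv.Perm.mul_apply, h, ih]
    ring

omit C in
lemma odd_order_trivial (hF : Fintype.card F = 2 ^ N) (hN0 : N ≠ 0) {w : F} (hw : w ≠ 0) {k : ℕ}
    (h : w ^ 2 ^ k = 1) : w = 1 := by
  have h1 : w ^ (2 ^ N - 1) = 1 := by
    have := FiniteField.pow_card_sub_one_eq_one w hw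
    rwa [hF] at this
  have hcop : Nat.Coprime (2 ^ k) (2 ^ N - 1) := by
    apply Nat.Coprime.pow_left
    rw [Nat.coprime_two_left]
    have hN1 : 0 < 2 ^ N := by positivity
    have : Even (2 ^ N) := (Nat.even_pow' hN0).mpr even_two
    exact Nat.Even.sub_odd hN1 this odd_one
  have h2 := (pow_gcd_eq_one (a := w)).mpr ⟨h, h1⟩
  rw [hcop, pow_one] at h2
  exact h2

/-- The main theorem. -/
theorem main [Finite S] (hF : Fintype.card F = 2 ^ N) (hN : 2 ≤ N) (hs0 : 0 < s) (hsN : s < N)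
    (hs : ∀ i j, i < N → j < N → i ≠ j → (j + 2 * s) % N ≠ i ∨ (i + 2 * s) % N ≠ j)
    (hZ : Nat.card (Subgroup.center S) = 2 ^ r) :
    IsElementaryAbelian 2 (pCore 2 (MulAut S)) ∧ Nat.card (pCore 2 (MulAut S)) = 2 ^ (N * r) ∧
      Nat.card (MulAut S) = 2 ^ (N * r) * (N * (2 ^ N - 1)) := by
  classical
  haveI hp : Fact (Nat.Prime 2) := ⟨Nat.prime_two⟩
  have hkp : IsPGroup 2 (Ψ C).ker := by
    intro α
    exact ⟨1, Subtype.ext (by simpa using ker_sq C α.2)⟩
  have hle : (Ψ C).ker ≤ pCore 2 (MulAut S) :=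
    Cfsg.Agent.Lib.PCore.le_pCore inferInstance hkp
  have hge : pCore 2 (MulAut S) ≤ (Ψ C).ker := by
    intro α hα
    have hP := Cfsg.Agent.Lib.PCore.isPGroup_pCore (G := MulAut S) 2
    have hfin : ∀ κ ∈ pCore 2 (MulAut S), ∃ k, (Ψ C κ) ^ 2 ^ k = 1 := by
      intro κ hκ
      obtain ⟨k, hk⟩ := hP ⟨κ, hκ⟩
      refine ⟨k, ?_⟩
      rw [← map_pow]
      have : κ ^ 2 ^ k = 1 := congrArg Subtype.val hk
      rw [this, map_one]
    obtain ⟨c, hc, i, hi, hα'⟩ := classification C hF hN hs0 hsN hs α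
    have hneg : ∀ y : F, ∀ j, ∃ z : F, z ^ 2 ^ j = y := by
      intro y j
      have hinj : Function.Injective (fun z : F => z ^ 2 ^ j) :=
        fun a b h => pow_frob_inj C h
      exact (Finite.injective_iff_surjective.mp hinj) y
    -- the commutators
    have hu : ∀ u : F, u ≠ 0 → u ^ 2 ^ i = u := by
      intro u hu0
      obtain ⟨β, hβ⟩ := realize C hu0 0
      have hβ' : ∀ d, Ψ C β d = u * d := fun d => by rw [hβ]; simp
      have hβi : ∀ d, Ψ C β⁻¹ d = u⁻¹ * d := by
        intro d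
        rw [map_inv]
        apply (Ψ C β).injective
        show Ψ C β ((Ψ C β).symm d) = _
        rw [Equiv.apply_symm_apply, hβ', mul_inv_cancel_left₀ hu0]
      have hmem : β * α * β⁻¹ * α⁻¹ ∈ pCore 2 (MulAut S) := by
        apply Subgroup.mul_mem _ _ (Subgroup.inv_mem _ hα)
        exact (Cfsg.Agent.Lib.PCore.pCore_normal 2).conj_mem α hα β
      obtain ⟨k, hk⟩ := hfin _ hmem
      set w : F := u * (u⁻¹) ^ 2 ^ i with hw
      have hw0 : w ≠ 0 := mul_ne_zero hu0 (pow_ne_zero _ (inv_ne_zero hu0))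
      have hact : ∀ y, Ψ C (β * α * β⁻¹ * α⁻¹) y = w * y := by
        intro y
        obtain ⟨z, hz⟩ := hneg (c⁻¹ * y) i
        have hy : y = Ψ C α z := by
          rw [hα', hz, mul_inv_cancel_left₀ hc]
        have hinv : ∀ (P : Equiv.Perm F) (y : F), P⁻¹ (P y) = y :=
          fun P y => Equiv.symm_apply_apply P y
        rw [hy, map_mul, map_mul, map_mul, Equiv.Perm.mul_apply, Equiv.Perm.mul_apply,
          Equiv.Perm.mul_apply, map_inv (Ψ C) α, hinv, hβi, hα', hβ', hα',
          mul_pow, hw]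
        ring
      have h1 := perm_pow hact (2 ^ k) 1
      rw [hk] at h1
      have h2 : w ^ 2 ^ k = 1 := by
        have : (1 : Equiv.Perm F) 1 = 1 := rfl
        rw [this, mul_one] at h1
        exact h1.symm
      have h3 := odd_order_trivial hF (by omega) hw0 h2
      have h4 : u * (u ^ 2 ^ i)⁻¹ = 1 := by
        rw [← inv_pow, ← hw, h3]
      have h5 : u ^ 2 ^ i ≠ 0 := pow_ne_zero _ hu0
      field_simp at h4
      exact h4.symm
    have hi0 : i = 0 := by
      have h1 : ∀ x : F, x ^ 2 ^ i = x ^ 2 ^ 0 := by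
        intro x
        by_cases hx : x = 0
        · subst hx
          simp
        · rw [hu x hx]; simp
      exact exp_inj C hF hi (by omega) h1
    subst hi0
    have hact : ∀ y, Ψ C α y = c * y := fun y => by rw [hα']; simp
    obtain ⟨k, hk⟩ := hfin α hα
    have h1 := perm_pow hact (2 ^ k) 1
    rw [hk] at h1
    have h2 : c ^ 2 ^ k = 1 := by
      have : (1 : Equiv.Perm F) 1 = 1 := rfl
      rw [this, mul_one] at h1
      exact h1.symm
    have h3 := odd_order_trivial hF (by omega) hc h2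
    rw [MonoidHom.mem_ker]
    ext y
    rw [hact, h3, one_mul]
    rfl
  have heq : pCore 2 (MulAut S) = (Ψ C).ker := le_antisymm hge hle
  rw [heq]
  refine ⟨⟨⟨⟨?_⟩⟩, fun a ha => ker_sq C ha⟩, card_ker C hF hZ, ?_⟩
  · intro a b
    have h1 : ∀ x : (Ψ C).ker, x * x = 1 := fun x =>
      Subtype.ext (by rw [← pow_two]; simpa using ker_sq C x.2)
    have h2 := h1 (a * b)
    have h3 := h1 a
    have h4 := h1 b
    calc a * b = a * b * (b * a * (b * a)) := by
          rw [show b * a * (b * a) = 1 from h1 _, mul_one]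
      _ = a * (b * b) * a * (b * a) := by group
      _ = b * a := by rw [h4, mul_one, h3, one_mul]
  · have h1 := Subgroup.card_mul_index (Ψ C).ker
    rw [Subgroup.index_ker, card_ker C hF hZ, card_range C hF hN hs0 hsN hs] at h1
    exact h1.symm

end Coord

/-- Transport of coordinates along an isomorphism. -/
def Coord.ofEquiv {S' : Type*} [Group S'] (f : S ≃* S') (C' : Coord S' F s) : Coord S F s where
  δ x := C'.δ (f x)
  η x := C'.η (f x)
  R := C'.R
  δ_mul x y := by rw [map_mul, C'.δ_mul]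
  η_mul x y := by rw [map_mul, C'.η_mul]
  ext x y h1 h2 := f.injective (C'.ext _ _ h1 h2)
  rel x := C'.rel _
  exists_mk d e h := by
    obtain ⟨x, hx⟩ := C'.exists_mk d e h
    exact ⟨f.symm x, by simpa using hx⟩
  R_scale := C'.R_scale
  surj := C'.surj
  center_iff x := by
    rw [← C'.center_iff, Subgroup.mem_center_iff, Subgroup.mem_center_iff]
    constructor
    · intro h g
      have := h (f.symm g)
      simpa using congrArg f this
    · intro h g
      apply f.injective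
      rw [map_mul, map_mul]
      exact h (f g)
  sq_surj z hz := by
    have hz' : f z ∈ Subgroup.center S' := by
      rw [Subgroup.mem_center_iff] at hz ⊢
      intro g
      have := hz (f.symm g)
      simpa using congrArg f this
    obtain ⟨x, hx⟩ := C'.sq_surj (f z) hz'
    refine ⟨f.symm x, f.injective ?_⟩
    rw [map_pow, MulEquiv.apply_symm_apply, hx]

end grp

end Cfsg.Agent.Lib.AutQuad
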