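import Mathlib
import Cfsg.Prelude.Def_CaseTheorems
import Cfsg.Agent.Lib.OddPGroup
import Cfsg.Agent.Lib.Frat

/-!
# Primes dividing `|Aut R|`, `R` a `p`-group of rank at most two
-/

set_option autoImplicit false

open scoped commutatorElement

namespace Cfsg.Agent.Lib.AutRankTwo

variable {D : Type*} [Group D] [Finite D] {p q : ℕ} [hp : Fact p.Prime]

/-- Proper inclusion in a `p`-group multiplies the order by at least `p`. -/
lemma card_mul_le_of_lt (hD : IsPGroup p D) {H K : Subgroup D} (h : H < K) :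
    p * Nat.card H ≤ Nat.card K := by
  have hpp : p.Prime := hp.out
  obtain ⟨a, ha⟩ := IsPGroup.iff_card.mp (hD.to_subgroup H)
  obtain ⟨b, hb⟩ := IsPGroup.iff_card.mp (hD.to_subgroup K)
  have hdvd : Nat.card H ∣ Nat.card K := Subgroup.card_dvd_of_le h.le
  rw [ha, hb] at hdvd ⊢
  have hle : a ≤ b := (Nat.pow_dvd_pow_iff_le_right hpp.one_lt).mp hdvd
  rcases hle.eq_or_lt with rfl | hlt
  · exfalso
    have : Nat.card H = Nat.card K := by rw [ha, hb]
    exact h.ne (Subgroup.eq_of_le_of_card_ge h.le this.ge)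
  · rw [← pow_succ']
    exact Nat.pow_le_pow_right hpp.pos hlt

/-- The closure of a pairwise commuting set is commutative. -/
lemma comm_of_closure {S : Set D} (hS : ∀ a ∈ S, ∀ b ∈ S, a * b = b * a) :
    ∀ a ∈ Subgroup.closure S, ∀ b ∈ Subgroup.closure S, a * b = b * a := by
  intro a ha b hb
  have := (Subgroup.isMulCommutative_closure hS).is_comm.comm (⟨a, ha⟩ : Subgroup.closure S) ⟨b, hb⟩
  exact congrArg Subtype.val this

/-- Class two, all abelian subgroups of order at most `p²`: `|D : Z(D)| ≤ p²`. -/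
lemma index_center_bound (hD : IsPGroup p D) [Nontrivial D]
    (hcc : ∀ x y : D, y * x * y⁻¹ * x⁻¹ ∈ Subgroup.center D)
    (hnc : ¬ ∀ x y : D, x * y = y * x)
    (hab : ∀ A : Subgroup D, (∀ a ∈ A, ∀ b ∈ A, a * b = b * a) → Nat.card A ≤ p ^ 2) :
    Nat.card D ≤ p ^ 2 * Nat.card (Subgroup.center D) := by
  classical
  have hpp : p.Prime := hp.out
  push Not at hnc
  obtain ⟨x, y₀, hxy⟩ := hnc
  set Z := Subgroup.center D with hZdef
  have hxZ : x ∉ Z := fun h => hxy (Subgroup.mem_center_iff.mp h y₀).symm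
  have hZcard : p ≤ Nat.card Z := by
    obtain ⟨k, hk⟩ := IsPGroup.iff_card.mp (hD.to_subgroup Z)
    have hnt : Nontrivial Z := hD.center_nontrivial
    have hne : k ≠ 0 := by
      rintro rfl
      rw [pow_zero] at hk
      have := Finite.one_lt_card (α := Z)
      omega
    rw [hk]
    exact Nat.le_self_pow hne p
  let A₁ : Subgroup D := Subgroup.closure ((Z : Set D) ∪ {x})
  have hA₁comm : ∀ a ∈ ((Z : Set D) ∪ {x}), ∀ b ∈ ((Z : Set D) ∪ {x}), a * b = b * a := by
    rintro a (ha | ha) b hb
    · exact (Subgroup.mem_center_iff.mp ha b).symm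
    · rcases hb with hb | hb
      · exact Subgroup.mem_center_iff.mp hb a
      · rw [Set.mem_singleton_iff] at ha hb
        rw [ha, hb]
  have hZA₁ : Z < A₁ := by
    refine lt_of_le_of_ne ?_ ?_
    · exact (Subgroup.subset_closure.trans' Set.subset_union_left : (Z : Set D) ⊆ A₁)
    · intro h
      apply hxZ
      rw [h]
      exact Subgroup.subset_closure (Or.inr rfl)
  have hCle : Subgroup.centralizer {x} ≤ A₁ := by
    intro y hy
    by_contra hyA
    have hyx : ∀ a ∈ ((Z : Set D) ∪ {x}), y * a = a * y := by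
      rintro a (ha | rfl)
      · exact Subgroup.mem_center_iff.mp ha y
      · exact (Subgroup.mem_centralizer_singleton_iff.mp hy)
    let A₂ : Subgroup D := Subgroup.closure (((Z : Set D) ∪ {x}) ∪ {y})
    have hA₂comm : ∀ a ∈ (((Z : Set D) ∪ {x}) ∪ {y}), ∀ b ∈ (((Z : Set D) ∪ {x}) ∪ {y}), a * b = b * a := by
      rintro a (ha | ha) b (hb | hb)
      · exact hA₁comm a ha b hb
      · rw [Set.mem_singleton_iff] at hb
        rw [hb]
        exact (hyx a ha).symm
      · rw [Set.mem_singleton_iff] at ha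
        rw [ha]
        exact hyx b hb
      · rw [Set.mem_singleton_iff] at ha hb
        rw [ha, hb]
    have hA₁A₂ : A₁ < A₂ := by
      refine lt_of_le_of_ne ?_ ?_
      · exact Subgroup.closure_mono Set.subset_union_left
      · intro h
        apply hyA
        show y ∈ A₁
        rw [h]
        exact Subgroup.subset_closure (Or.inr rfl)
    have h1 := card_mul_le_of_lt hD hZA₁
    have h2 := card_mul_le_of_lt hD hA₁A₂
    have h3 := hab A₂ (comm_of_closure hA₂comm)
    have h4 : p * (p * Nat.card Z) ≤ p ^ 2 :=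
      (Nat.mul_le_mul_left p h1).trans (h2.trans h3)
    have h5 : p * (p * p) ≤ p * (p * Nat.card Z) :=
      Nat.mul_le_mul_left p (Nat.mul_le_mul_left p hZcard)
    have h6 : p * (p * p) ≤ p ^ 2 := h5.trans h4
    have h7 := hpp.two_le
    nlinarith
  have hCcard : Nat.card (Subgroup.centralizer {x}) ≤ p ^ 2 :=
    (Subgroup.card_le_of_le hCle).trans (hab A₁ (comm_of_closure hA₁comm))
  -- the commutator map
  let f : D →* Z := MonoidHom.mk' (fun y => ⟨y * x * y⁻¹ * x⁻¹, hcc x y⟩) (by
    intro a b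
    apply Subtype.ext
    show a * b * x * (a * b)⁻¹ * x⁻¹ = (a * x * a⁻¹ * x⁻¹) * (b * x * b⁻¹ * x⁻¹)
    have hc := Subgroup.mem_center_iff.mp (hcc x b) (a * x * a⁻¹ * x⁻¹)
    rw [hc]
    have hc2 := Subgroup.mem_center_iff.mp (hcc x b) a
    calc a * b * x * (a * b)⁻¹ * x⁻¹ = a * (b * x * b⁻¹ * x⁻¹) * x * a⁻¹ * x⁻¹ := by group
      _ = (b * x * b⁻¹ * x⁻¹) * a * x * a⁻¹ * x⁻¹ := by rw [← hc2]
      _ = (b * x * b⁻¹ * x⁻¹) * (a * x * a⁻¹ * x⁻¹) := by group)
  have hker : f.ker ≤ Subgroup.centralizer {x} := by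
    intro y hy
    rw [MonoidHom.mem_ker] at hy
    have h1 : y * x * y⁻¹ * x⁻¹ = 1 := congrArg Subtype.val hy
    rw [Subgroup.mem_centralizer_singleton_iff]
    have h2 : y * x * y⁻¹ = x := by
      calc y * x * y⁻¹ = (y * x * y⁻¹ * x⁻¹) * x := by group
        _ = x := by rw [h1, one_mul]
    calc y * x = (y * x * y⁻¹) * y := by group
      _ = x * y := by rw [h2]
  have h1 : Nat.card D = Nat.card f.ker * Nat.card f.range := by
    rw [← Subgroup.index_ker, Subgroup.card_mul_index]
  rw [h1]
  refine Nat.mul_le_mul ((Subgroup.card_le_of_le hker).trans hCcard) ?_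
  have : Nat.card f.range ≤ Nat.card (⊤ : Subgroup Z) := Subgroup.card_le_of_le le_top
  rwa [Nat.card_congr (Subgroup.topEquiv (G := Z)).toEquiv] at this

/-- If `c = x⁻¹ α x` is fixed by an automorphism of `p'`-order then `c = 1`. -/
lemma eq_of_fixed (hD : IsPGroup p D) (hq : q.Prime) (hqp : q ≠ p) (α : MulAut D) (hαq : α ^ q = 1)
    (x : D) (hc : α (x⁻¹ * α x) = x⁻¹ * α x) : α x = x := by
  have hpp : p.Prime := hp.out
  set c := x⁻¹ * α x with hcdef
  have hx : α x = x * c := by rw [hcdef]; group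
  have hiter : ∀ n : ℕ, (α ^ n) x = x * c ^ n := by
    intro n
    induction n with
    | zero => simp
    | succ n ih =>
      have hcn : α (c ^ n) = c ^ n := by rw [map_pow, hc]
      rw [pow_succ', MulAut.mul_apply, ih, map_mul, hx, hcn, pow_succ']
      group
  have h1 : c ^ q = 1 := by
    have := hiter q
    rw [hαq] at this
    have h2 : x * c ^ q = x * 1 := by rw [← this, mul_one]; rfl
    exact mul_left_cancel h2
  have h2 : c = 1 := by
    obtain ⟨k, hk⟩ := IsPGroup.iff_orderOf.mp hD c
    have h3 : orderOf c ∣ q := orderOf_dvd_of_pow_eq_one h1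
    rw [hk] at h3
    rcases k with _ | k
    · rw [pow_zero, orderOf_eq_one_iff] at hk
      exact hk
    · exfalso
      have h4 : p ∣ q := (dvd_pow_self p (Nat.succ_ne_zero k)).trans h3
      exact hqp ((Nat.prime_dvd_prime_iff_eq hpp hq).mp h4).symm
  rw [hx, h2, mul_one]

/-- The main theorem for critical groups. -/
theorem critical_main (hD : IsPGroup p D) (hodd : p ≠ 2) (hq : q.Prime) (hqp : q ≠ p) (α : MulAut D)
    (hαq : α ^ q = 1) (hα : α ≠ 1)
    (hcrit : ∀ H : Subgroup D, H ≠ ⊤ → (∀ x ∈ H, α x ∈ H) → ∀ x ∈ H, α x = x)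
    (hrk : Cfsg.PRankLE p 2 D) : q ∣ p ^ 2 - 1 := by
  classical
  have hpp : p.Prime := hp.out
  have hodd' : Odd p := hpp.odd_of_ne_two hodd
  have hnontriv : ∃ x : D, α x ≠ x := by
    by_contra h
    push Not at h
    exact hα (MulEquiv.ext h)
  have hnt : Nontrivial D := by
    obtain ⟨x, hx⟩ := hnontriv
    refine ⟨x, 1, ?_⟩
    rintro rfl
    exact hx (map_one α)
  -- `[D, α] = D`
  have hgen : Subgroup.closure (Set.range fun x : D => x⁻¹ * α x) = ⊤ := by
    by_contra hne
    obtain ⟨x, hx⟩ := hnontriv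
    refine hx (eq_of_fixed hD hq hqp α hαq x ?_)
    refine hcrit _ hne ?_ _ (Subgroup.subset_closure ⟨x, rfl⟩)
    intro y hy
    induction hy using Subgroup.closure_induction with
    | mem y hy =>
      obtain ⟨z, rfl⟩ := hy
      refine Subgroup.subset_closure ⟨α z, ?_⟩
      simp
    | one => simp
    | mul a b _ _ ha hb =>
      rw [map_mul]
      exact Subgroup.mul_mem _ ha hb
    | inv a _ ha =>
      rw [map_inv]
      exact Subgroup.inv_mem _ ha
  -- the Frattini subgroup
  have hΦne : frattini D ≠ ⊤ := by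
    intro h
    obtain ⟨M, hM⟩ : ∃ M : Subgroup D, IsCoatom M := by
      obtain ⟨M, hM, -⟩ := (eq_top_or_exists_le_coatom (⊥ : Subgroup D)).resolve_left bot_ne_top
      exact ⟨M, hM⟩
    apply hM.1
    rw [eq_top_iff, ← h]
    exact iInf₂_le M hM
  have hΦfix : ∀ z ∈ frattini D, α z = z := by
    refine hcrit _ hΦne ?_
    intro z hz
    have : (frattini D).map α.toMonoidHom = frattini D :=
      Subgroup.characteristic_iff_map_eq.mp inferInstance α
    rw [← this]
    exact ⟨z, hz, rfl⟩
  have hΦn : (frattini D).Normal := inferInstance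
  -- the Frattini subgroup is central
  have hcen : frattini D ≤ Subgroup.center D := by
    intro z hz
    rw [Subgroup.mem_center_iff]
    intro g
    have hg : g ∈ Subgroup.centralizer {z} := by
      have h1 : Subgroup.closure (Set.range fun x : D => x⁻¹ * α x) ≤ Subgroup.centralizer {z} := by
        rw [Subgroup.closure_le]
        rintro _ ⟨x, rfl⟩
        have h2 : x * z * x⁻¹ ∈ frattini D := hΦn.conj_mem z hz x
        have h3 := hΦfix _ h2
        rw [map_mul, map_mul, map_inv, hΦfix z hz] at h3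
        show _ ∈ Subgroup.centralizer _
        rw [Subgroup.mem_centralizer_singleton_iff]
        calc x⁻¹ * α x * z = x⁻¹ * (α x * z * (α x)⁻¹) * α x := by group
          _ = x⁻¹ * (x * z * x⁻¹) * α x := by rw [h3]
          _ = z * (x⁻¹ * α x) := by group
      rw [hgen] at h1
      exact h1 (Subgroup.mem_top g)
    exact Subgroup.mem_centralizer_singleton_iff.mp hg
  have hcomm : ∀ x y : D, x⁻¹ * y⁻¹ * x * y ∈ Subgroup.center D := by
    intro x y
    apply hcen
    apply Cfsg.Agent.Lib.Frat.commutator_le_frattini hD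
    have : x⁻¹ * y⁻¹ * x * y = ⁅x⁻¹, y⁻¹⁆ := by
      rw [commutatorElement_def]
      group
    rw [this]
    exact Subgroup.commutator_mem_commutator (Subgroup.mem_top _) (Subgroup.mem_top _)
  have hpow : ∀ x : D, x ^ p ∈ Subgroup.center D := fun x =>
    hcen (Cfsg.Agent.Lib.Frat.pow_mem_frattini hD x)
  have hmulpow := Cfsg.Agent.Lib.OddPGroup.mul_pow_odd hodd' hpow hcomm
  -- exponent `p`
  have hexp : ∀ x : D, x ^ p = 1 := by
    let K : Subgroup D :=
      { carrier := {x | x ^ p = 1}
        mul_mem' := by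
          intro a b ha hb
          show (a * b) ^ p = 1
          rw [hmulpow, show a ^ p = 1 from ha, show b ^ p = 1 from hb, one_mul]
        one_mem' := one_pow p
        inv_mem' := by
          intro a ha
          show a⁻¹ ^ p = 1
          rw [inv_pow, show a ^ p = 1 from ha, inv_one] }
    by_contra hne
    have hKne : K ≠ ⊤ := by
      intro h
      apply hne
      intro x
      have : x ∈ K := by rw [h]; exact Subgroup.mem_top x
      exact this
    have hKfix := hcrit K hKne (by
      intro x hx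
      show (α x) ^ p = 1
      rw [← map_pow, show x ^ p = 1 from hx, map_one])
    obtain ⟨x, hx⟩ := hnontriv
    apply hx
    apply eq_of_fixed hD hq hqp α hαq x
    apply hKfix
    show (x⁻¹ * α x) ^ p = 1
    rw [hmulpow, inv_pow, ← map_pow, hΦfix _ (Cfsg.Agent.Lib.Frat.pow_mem_frattini hD x), inv_mul_cancel]
  -- the fixed points
  let Fix : Subgroup D :=
    { carrier := {x | α x = x}
      mul_mem' := by
        intro a b ha hb
        show α (a * b) = a * b
        rw [map_mul, show α a = a from ha, show α b = b from hb]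
      one_mem' := map_one α
      inv_mem' := by
        intro a ha
        show α a⁻¹ = a⁻¹
        rw [map_inv, show α a = a from ha] }
  have hFixne : Fix ≠ ⊤ := by
    intro h
    obtain ⟨x, hx⟩ := hnontriv
    apply hx
    have : x ∈ Fix := by rw [h]; exact Subgroup.mem_top x
    exact this
  have hab : ∀ A : Subgroup D, (∀ a ∈ A, ∀ b ∈ A, a * b = b * a) → Nat.card A ≤ p ^ 2 := by
    intro A hA
    refine hrk A ⟨⟨fun a b => Subtype.ext (hA a a.2 b b.2)⟩⟩ (fun a _ => hexp a)
  -- the index bound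
  have hindex : Nat.card D ≤ p ^ 2 * Nat.card Fix := by
    by_cases hc : ∀ x y : D, x * y = y * x
    · have h1 := hab ⊤ (fun a _ b _ => hc a b)
      rw [Nat.card_congr (Subgroup.topEquiv (G := D)).toEquiv] at h1
      exact h1.trans (Nat.le_mul_of_pos_right _ Nat.card_pos)
    · have h1 := index_center_bound hD (by
        intro x y
        have : y * x * y⁻¹ * x⁻¹ = y⁻¹⁻¹ * x⁻¹⁻¹ * y⁻¹ * x⁻¹ := by group
        rw [this]
        exact hcomm _ _) hc hab
      have hZne : Subgroup.center D ≠ ⊤ := by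
        intro h
        apply hc
        intro x y
        have : x ∈ Subgroup.center D := by rw [h]; exact Subgroup.mem_top x
        exact (Subgroup.mem_center_iff.mp this y).symm
      have hZfix := hcrit _ hZne (by
        intro z hz
        have : (Subgroup.center D).map α.toMonoidHom = Subgroup.center D :=
          Subgroup.characteristic_iff_map_eq.mp inferInstance α
        rw [← this]
        exact ⟨z, hz, rfl⟩)
      have hZF : Subgroup.center D ≤ Fix := hZfix
      exact h1.trans (Nat.mul_le_mul_left _ (Subgroup.card_le_of_le hZF))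
  -- the count
  have : Fact q.Prime := ⟨hq⟩
  have hordα : orderOf α = q := orderOf_eq_prime hαq hα
  have hG : IsPGroup q (Subgroup.zpowers α) := by
    apply IsPGroup.of_card (n := 1)
    rw [Nat.card_zpowers, hordα, pow_one]
  have hmod := hG.card_modEq_card_fixedPoints D
  have hfp : Nat.card (MulAction.fixedPoints (Subgroup.zpowers α) D) = Nat.card Fix := by
    refine Nat.card_congr (Equiv.subtypeEquivRight ?_)
    intro x
    rw [MulAction.mem_fixedPoints]
    constructor
    · intro h
      exact h ⟨α, Subgroup.mem_zpowers α⟩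
    · intro h
      rintro ⟨g, hg⟩
      have hle : Subgroup.zpowers α ≤ MulAction.stabilizer (MulAut D) x := by
        rw [Subgroup.zpowers_le]
        exact h
      exact hle hg
  rw [hfp] at hmod
  obtain ⟨a, ha⟩ := IsPGroup.iff_card.mp hD
  obtain ⟨b, hb⟩ := IsPGroup.iff_card.mp (hD.to_subgroup Fix)
  rw [ha, hb] at hmod
  rw [ha, hb] at hindex
  have hlt : b < a := by
    by_contra hle
    push Not at hle
    apply hFixne
    apply Subgroup.eq_top_of_card_eq
    have hdvd : Nat.card Fix ∣ Nat.card D := Subgroup.card_subgroup_dvd_card Fix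
    rw [hb, ha] at hdvd
    rw [hb, ha]
    have h2 := (Nat.pow_dvd_pow_iff_le_right hpp.one_lt).mp hdvd
    rw [le_antisymm h2 hle]
  have hle : a ≤ b + 2 := by
    rw [← pow_add, add_comm 2 b] at hindex
    exact (Nat.pow_le_pow_iff_right hpp.one_lt).mp hindex
  have hcop : Nat.Coprime q (p ^ b) :=
    Nat.Coprime.pow_right b ((Nat.coprime_primes hq hpp).mpr hqp)
  have hdvd1 : q ∣ p ^ a - p ^ b := (Nat.modEq_iff_dvd' (Nat.pow_le_pow_right hpp.pos hlt.le)).mp hmod.symm
  have hcase : a = b + 1 ∨ a = b + 2 := by omega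
  have hp1 : 1 ≤ p := hpp.pos
  rcases hcase with rfl | rfl
  · have h3 : p ^ (b + 1) - p ^ b = p ^ b * (p - 1) := by
      rw [pow_succ, Nat.mul_sub, mul_one]
    rw [h3] at hdvd1
    have h4 := hcop.dvd_of_dvd_mul_left hdvd1
    have h5 : p ^ 2 - 1 = (p - 1) * (p + 1) := by
      obtain ⟨m, rfl⟩ := Nat.exists_eq_add_of_le hp1
      simp only [Nat.add_sub_cancel_left]
      rw [pow_two]
      have : (1 + m) * (1 + m) = m * (1 + m + 1) + 1 := by ring
      rw [this, Nat.add_sub_cancel]
    rw [h5]
    exact h4.trans (Nat.dvd_mul_right _ _)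
  · have h3 : p ^ (b + 2) - p ^ b = p ^ b * (p ^ 2 - 1) := by
      rw [pow_add, Nat.mul_sub, mul_one]
    rw [h3] at hdvd1
    exact hcop.dvd_of_dvd_mul_left hdvd1

end Cfsg.Agent.Lib.AutRankTwo
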