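import Mathlib
import Cfsg.Prelude.Def_Transfer

/-!
# Averaging over cosets of a subgroup of index prime to `p`, on a normal elementary abelian subgroup
-/

set_option autoImplicit false
set_option linter.unusedSectionVars false
set_option linter.style.haveILetI false

open scoped commutatorElement

namespace Cfsg.Agent.Lib.Averaging

variable {G : Type*} [Group G] [Finite G] {p : ℕ} [hp : Fact p.Prime]

/-- Let `V` be a normal elementary abelian `p`-subgroup, `T` a subgroup of index prime to `p` with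
`G = O T`. Any `w ∈ C_V(T)` is a product `c u` with `c ∈ C_V(G)` and `u ∈ [V, O]`. -/
theorem exists_fixed_mul_comm {V T O : Subgroup G} [hV : V.Normal]
    (hVab : ∀ a ∈ V, ∀ b ∈ V, a * b = b * a) (hVp : ∀ a ∈ V, a ^ p = 1) (hT : ¬ p ∣ T.index)
    (hfac : ∀ g : G, ∃ o ∈ O, ∃ t ∈ T, g = o * t) {w : G} (hw : w ∈ V)
    (hwT : ∀ t ∈ T, t * w * t⁻¹ = w) :
    ∃ c ∈ V, (∀ g : G, g * c * g⁻¹ = c) ∧ ∃ u ∈ ⁅V, O⁆, w = c * u := by
  classical
  have hp' : p.Prime := Fact.out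
  letI iV : CommGroup V :=
    { (inferInstance : Group V) with mul_comm := fun a b => Subtype.ext (hVab a a.2 b b.2) }
  letI : Fintype (G ⧸ T) := Fintype.ofFinite _
  let rep : G ⧸ T → G := Quotient.out
  have hrep : ∀ x : G ⧸ T, ((rep x : G) : G ⧸ T) = x := fun x => Quotient.out_eq' x
  let f : G ⧸ T → V := fun x => ⟨rep x * w * (rep x)⁻¹, hV.conj_mem w hw _⟩
  have hf : ∀ a : G, ((f (a : G ⧸ T) : V) : G) = a * w * a⁻¹ := by
    intro a
    have h1 := hrep (a : G ⧸ T)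
    rw [QuotientGroup.eq] at h1
    set t := (rep (a : G ⧸ T))⁻¹ * a with ht
    have hat : a = rep (a : G ⧸ T) * t := by rw [ht]; group
    have h2 := hwT t h1
    show rep (a : G ⧸ T) * w * (rep (a : G ⧸ T))⁻¹ = a * w * a⁻¹
    conv_rhs => rw [hat]
    calc rep (a : G ⧸ T) * w * (rep (a : G ⧸ T))⁻¹
        = rep (a : G ⧸ T) * (t * w * t⁻¹) * (rep (a : G ⧸ T))⁻¹ := by rw [h2]
      _ = _ := by group
  let N : V := ∏ x : G ⧸ T, f x
  -- `N` is fixed by conjugation
  have hNfix : ∀ g : G, g * (N : G) * g⁻¹ = N := by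
    intro g
    let φ : V →* V :=
      { toFun := fun v => ⟨g * v * g⁻¹, hV.conj_mem _ v.2 g⟩
        map_one' := Subtype.ext (by simp)
        map_mul' := fun a b => Subtype.ext (by
          show g * ((a : G) * b) * g⁻¹ = g * a * g⁻¹ * (g * b * g⁻¹)
          group) }
    have h1 : φ N = ∏ x : G ⧸ T, φ (f x) := map_prod φ f Finset.univ
    have h2 : ∀ x : G ⧸ T, φ (f x) = f (g • x) := by
      intro x
      obtain ⟨a, rfl⟩ := QuotientGroup.mk_surjective x
      apply Subtype.ext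
      have e1 : g • (a : G ⧸ T) = ((g * a : G) : G ⧸ T) := rfl
      rw [e1, hf (g * a)]
      show g * ((f (a : G ⧸ T) : V) : G) * g⁻¹ = _
      rw [hf a]
      group
    have h3 : ∏ x : G ⧸ T, f (g • x) = ∏ x : G ⧸ T, f x :=
      Equiv.prod_comp (MulAction.toPerm g) f
    have h4 : φ N = N := by rw [h1, Finset.prod_congr rfl (fun x _ => h2 x), h3]
    exact congrArg Subtype.val h4
  -- `f x * w⁻¹ ∈ [V, O]`
  have hUV : ⁅V, O⁆ ≤ V := by
    rw [Subgroup.commutator_le]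
    intro a ha b _
    have e : ⁅a, b⁆ = a * (b * a⁻¹ * b⁻¹) := by rw [commutatorElement_def]; group
    rw [e]
    exact V.mul_mem ha (hV.conj_mem _ (V.inv_mem ha) b)
  let wV : V := ⟨w, hw⟩
  have hgU : ∀ x : G ⧸ T, ((f x * wV⁻¹ : V) : G) ∈ ⁅V, O⁆ := by
    intro x
    obtain ⟨a, rfl⟩ := QuotientGroup.mk_surjective x
    obtain ⟨o, ho, t, ht, rfl⟩ := hfac a
    show ((f ((o * t : G) : G ⧸ T) : V) : G) * w⁻¹ ∈ ⁅V, O⁆
    rw [hf (o * t)]
    have h2 := hwT t ht
    have e : o * t * w * (o * t)⁻¹ * w⁻¹ = (⁅w, o⁆)⁻¹ := by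
      rw [commutatorElement_def]
      calc o * t * w * (o * t)⁻¹ * w⁻¹ = o * (t * w * t⁻¹) * o⁻¹ * w⁻¹ := by group
        _ = o * w * o⁻¹ * w⁻¹ := by rw [h2]
        _ = _ := by group
    rw [e]
    exact Subgroup.inv_mem _ (Subgroup.commutator_mem_commutator hw ho)
  let U' : Subgroup V := (⁅V, O⁆ : Subgroup G).subgroupOf V
  have hN : N = (∏ x : G ⧸ T, (f x * wV⁻¹)) * wV ^ T.index := by
    have h1 : ∀ x : G ⧸ T, f x = (f x * wV⁻¹) * wV := fun x => by
      rw [inv_mul_cancel_right]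
    have h2 : ∏ x : G ⧸ T, f x = ∏ x : G ⧸ T, ((f x * wV⁻¹) * wV) :=
      Finset.prod_congr rfl (fun x _ => h1 x)
    show ∏ x : G ⧸ T, f x = _
    rw [h2, Finset.prod_mul_distrib, Finset.prod_const, Finset.card_univ, Subgroup.index_eq_card,
      Nat.card_eq_fintype_card]
  have hprodU : (∏ x : G ⧸ T, (f x * wV⁻¹)) ∈ U' :=
    Subgroup.prod_mem _ (fun x _ => hgU x)
  set P : V := ∏ x : G ⧸ T, (f x * wV⁻¹) with hP
  have hcop : Nat.Coprime T.index p :=
    ((Nat.Prime.coprime_iff_not_dvd hp').mpr hT).symm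
  obtain ⟨m', -, hm'⟩ := Nat.exists_mul_mod_eq_one_of_coprime hcop hp'.one_lt
  have hwpow : wV ^ (T.index * m') = wV := by
    have h1 : wV ^ p = 1 := Subtype.ext (hVp w hw)
    have h2 : orderOf wV ∣ p := orderOf_dvd_of_pow_eq_one h1
    have hp1 : (T.index * m') % p = 1 := hm'
    have h3 : wV ^ (T.index * m') = wV ^ ((T.index * m') % p) := by
      conv_lhs => rw [← Nat.div_add_mod (T.index * m') p]
      rw [pow_add, pow_mul, h1, one_pow, one_mul]
    rw [h3, hp1, pow_one]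
  refine ⟨((N ^ m' : V) : G), (N ^ m' : V).2, ?_, ((P ^ m')⁻¹ : V), ?_, ?_⟩
  · intro g
    have h1 : ((N ^ m' : V) : G) = (N : G) ^ m' := by
      rw [Subgroup.coe_pow]
    rw [h1, ← conj_pow, hNfix g]
  · exact U'.inv_mem (U'.pow_mem hprodU _)
  · have h1 : N ^ m' = P ^ m' * wV := by
      rw [hN, mul_pow, ← pow_mul, hwpow]
    have h2 : wV = N ^ m' * (P ^ m')⁻¹ := by
      rw [h1, mul_comm (P ^ m'), mul_assoc, mul_inv_cancel, mul_one]
    exact congrArg Subtype.val h2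

end Cfsg.Agent.Lib.Averaging
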