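import Mathlib
import Cfsg.Agent.Lib.AxZJ
import Cfsg.Agent.Lib.ZJNPC

/-!
# The Glauberman–Thompson normal `p`-complement theorem for an axiomatic family of abelian subgroups.
-/

set_option autoImplicit false
set_option linter.unusedSectionVars false

open Cfsg

namespace Cfsg.Agent.Lib.AxGT

open Cfsg.Agent.Lib.PCore Cfsg.Agent.Lib.AxZJ Cfsg.Agent.Lib.ZJCore3 Cfsg.Agent.Lib.ZJCore
open Cfsg.Agent.Lib.AlperinControl
open Cfsg.Agent.Lib.ZJControl Cfsg.Agent.Lib.NPCBasic Cfsg.Agent.Lib.NPCConfig Cfsg.Agent.Lib.NPCReduction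
open Cfsg.Agent.Lib.SylowConjLemmas Cfsg.Agent.Lib.ZJNPC

universe u

variable {p : ℕ} [hpp : Fact p.Prime]

/-- The axioms of a family of abelian subgroups of `T`. -/
structure AxFam {X : Type*} [Group X] (T : Subgroup X) (𝒜 : Set (Subgroup X)) : Prop where
  ne : 𝒜.Nonempty
  le : ∀ A ∈ 𝒜, A ≤ T
  ab : ∀ A ∈ 𝒜, ∀ x ∈ A, ∀ y ∈ A, x * y = y * x
  inv : ∀ Q : Subgroup X, Q ≤ T → (∃ A ∈ 𝒜, A ≤ Q) → ∀ g : X, (∀ x ∈ Q, g * x * g⁻¹ ∈ Q) →
      ∀ x ∈ Ifam 𝒜 Q, g * x * g⁻¹ ∈ Ifam 𝒜 Q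
  rep : ∀ B : Subgroup X, B ≤ T → (∀ t ∈ T, ∀ b ∈ B, t * b * t⁻¹ ∈ B) →
      ⁅⁅B, B⁆, B⁆ = ⊥ → ∀ U ∈ 𝒜, ⁅B, B⁆ ≤ U → ¬ B ≤ U →
      ∃ A ∈ 𝒜, ⁅B, B⁆ ≤ A ∧ ¬ B ≤ A ∧ B ≤ Subgroup.normalizer (A : Set X)

theorem mem_Ifam {X : Type*} [Group X] {𝒜 : Set (Subgroup X)} {Q : Subgroup X} {x : X} :
    x ∈ Ifam 𝒜 Q ↔ ∀ A ∈ 𝒜, A ≤ Q → x ∈ A := by
  rw [Ifam, Subgroup.mem_sInf]
  exact ⟨fun h A hA hQ => h A ⟨hA, hQ⟩, fun h A hA => h A hA.1 hA.2⟩

theorem comm_le_of_le {X : Type*} [Group X] {B T : Subgroup X} (h : B ≤ T) : ⁅B, B⁆ ≤ T :=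
  (Subgroup.commutator_mono h h).trans (by
    rw [Subgroup.commutator_le]
    intro a ha b hb
    rw [commutatorElement_def]
    exact T.mul_mem (T.mul_mem (T.mul_mem ha hb) (T.inv_mem ha)) (T.inv_mem hb))

theorem Ifam_eq_sInf {X : Type*} [Group X] {T : Subgroup X} {𝒜 : Set (Subgroup X)} (h : ∀ A ∈ 𝒜, A ≤ T) :
    Ifam 𝒜 T = sInf 𝒜 := by
  ext x
  rw [mem_Ifam, Subgroup.mem_sInf]
  exact ⟨fun h1 A hA => h1 A hA (h A hA), fun h1 A hA _ => h1 A hA⟩

section Pull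

variable {X Y : Type*} [Group X] [Group Y] [Finite X] [Finite Y]

/-- The pulled back family. -/
def pullFam (f : Y →* X) (T' : Subgroup Y) (𝒜 : Set (Subgroup X)) : Set (Subgroup Y) :=
  {A | A ≤ T' ∧ A.map f ∈ 𝒜}

theorem map_pull {f : Y →* X} {T' : Subgroup Y} {T : Subgroup X} (hT : T'.map f = T) {A : Subgroup X}
    (hA : A ≤ T) : (A.comap f ⊓ T').map f = A := by
  apply le_antisymm
  · rintro _ ⟨y, hy, rfl⟩
    exact hy.1
  · intro x hx
    have h1 : x ∈ T'.map f := hT ▸ hA hx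
    obtain ⟨y, hy, rfl⟩ := h1
    exact ⟨y, ⟨hx, hy⟩, rfl⟩

theorem AxFam.pull {f : Y →* X} {T' : Subgroup Y} {T : Subgroup X} {𝒜 : Set (Subgroup X)} (h : AxFam T 𝒜)
    (hT : T'.map f = T) (hinj : ∀ x ∈ T', ∀ y ∈ T', f x = f y → x = y) :
    AxFam T' (pullFam f T' 𝒜) := by
  have hmem : ∀ A ∈ 𝒜, A.comap f ⊓ T' ∈ pullFam f T' 𝒜 := fun A hA =>
    ⟨inf_le_right, by rw [map_pull hT (h.le A hA)]; exact hA⟩
  refine ⟨?_, fun A hA => hA.1, ?_, ?_, ?_⟩
  · obtain ⟨A, hA⟩ := h.ne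
    exact ⟨_, hmem A hA⟩
  · intro A hA x hx y hy
    have h1 := h.ab _ hA.2 (f x) ⟨x, hx, rfl⟩ (f y) ⟨y, hy, rfl⟩
    apply hinj _ (T'.mul_mem (hA.1 hx) (hA.1 hy)) _ (T'.mul_mem (hA.1 hy) (hA.1 hx))
    rw [map_mul, map_mul, h1]
  · rintro Q hQ ⟨A₀, hA₀, hA₀Q⟩ g hg x hx
    rw [mem_Ifam] at hx
    have hxQ : x ∈ Q := hA₀Q (hx A₀ hA₀ hA₀Q)
    have hQT : Q.map f ≤ T := hT ▸ Subgroup.map_mono hQ
    have h1 : f x ∈ Ifam 𝒜 (Q.map f) := by
      rw [mem_Ifam]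
      intro A hA hAQ
      have h2 : A.comap f ⊓ T' ≤ Q := by
        rintro y ⟨hy1, hy2⟩
        obtain ⟨q, hq, hqy⟩ := hAQ hy1
        rwa [← hinj q (hQ hq) y hy2 hqy]
      have h3 := hx _ (hmem A hA) h2
      exact h3.1
    have h2 := h.inv _ hQT ⟨_, hA₀.2, Subgroup.map_mono hA₀Q⟩ (f g) (by
      rintro _ ⟨q, hq, rfl⟩
      exact ⟨_, hg q hq, by simp⟩) _ h1
    rw [mem_Ifam]
    intro A hA hAQ
    rw [mem_Ifam] at h2
    obtain ⟨a, ha, hae⟩ := h2 _ hA.2 (Subgroup.map_mono hAQ)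
    have h3 : g * x * g⁻¹ = a := by
      apply hinj _ (hQ (hg x hxQ)) _ (hA.1 ha)
      rw [hae]
      simp
    rw [h3]
    exact ha
  · intro B hBT hBn hB2 U hU hBU hBnU
    have hcm : ⁅B.map f, B.map f⁆ = ⁅B, B⁆.map f := (Subgroup.map_commutator _ _ _).symm
    obtain ⟨A, hA, h1, h2, h3⟩ := h.rep (B.map f) (hT ▸ Subgroup.map_mono hBT) (by
        intro t ht b hb
        rw [← hT] at ht
        obtain ⟨t', ht', rfl⟩ := ht
        obtain ⟨b', hb', rfl⟩ := hb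
        exact ⟨_, hBn t' ht' b' hb', by simp⟩) (by
        rw [hcm, ← Subgroup.map_commutator, hB2, Subgroup.map_bot]) _ hU.2
      (by rw [hcm]; exact Subgroup.map_mono hBU) (by
        intro h4
        apply hBnU
        intro b hb
        obtain ⟨u, hu, hue⟩ := h4 ⟨b, hb, rfl⟩
        rwa [← hinj u (hU.1 hu) b (hBT hb) hue])
    refine ⟨_, hmem A hA, ?_, ?_, ?_⟩
    · refine le_inf ?_ ?_
      · intro y hy
        apply h1
        rw [hcm]
        exact ⟨y, hy, rfl⟩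
      · exact comm_le_of_le hBT
    · intro h4
      apply h2
      rintro _ ⟨b, hb, rfl⟩
      exact (h4 hb).1
    · intro b hb
      apply mem_NN_of_forall
      rintro a ⟨ha1, ha2⟩
      have hbT := hBT hb
      refine ⟨?_, T'.mul_mem (T'.mul_mem hbT ha2) (T'.inv_mem hbT)⟩
      have h5 := conj_mem_of_mem_NN (h3 ⟨b, hb, rfl⟩) ha1
      show f (b * a * b⁻¹) ∈ A
      simpa using h5

theorem map_sInf_pull {f : Y →* X} {T' : Subgroup Y} {T : Subgroup X} {𝒜 : Set (Subgroup X)} (h : AxFam T 𝒜)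
    (hT : T'.map f = T) (hinj : ∀ x ∈ T', ∀ y ∈ T', f x = f y → x = y) :
    (sInf (pullFam f T' 𝒜)).map f = sInf 𝒜 := by
  apply le_antisymm
  · rintro _ ⟨y, hy, rfl⟩
    rw [Subgroup.mem_sInf]
    intro A hA
    have h1 : A.comap f ⊓ T' ∈ pullFam f T' 𝒜 := ⟨inf_le_right, by rw [map_pull hT (h.le A hA)]; exact hA⟩
    exact (Subgroup.mem_sInf.mp hy _ h1).1
  · intro x hx
    rw [Subgroup.mem_sInf] at hx
    obtain ⟨A₀, hA₀⟩ := h.ne
    have h1 : x ∈ T'.map f := hT ▸ h.le A₀ hA₀ (hx A₀ hA₀)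
    obtain ⟨y, hy, rfl⟩ := h1
    refine ⟨y, Subgroup.mem_sInf.mpr ?_, rfl⟩
    intro A hA
    obtain ⟨a, ha, hae⟩ := hx _ hA.2
    rwa [← hinj a (hA.1 ha) y hy hae]

/-- The normal complement passes along an injective pull back. -/
theorem hasNPC_pull {f : Y →* X} (hf : Function.Injective f) {I' : Subgroup Y} {I : Subgroup X} (hI : I'.map f = I)
    (h : HasNormalPComplement p ↥(Subgroup.normalizer ((I : Subgroup X) : Set X))) :
    HasNormalPComplement p ↥(Subgroup.normalizer ((I' : Subgroup Y) : Set Y)) := by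
  let φ : ↥(Subgroup.normalizer ((I' : Subgroup Y) : Set Y)) →* ↥(Subgroup.normalizer ((I : Subgroup X) : Set X)) :=
    { toFun := fun y => ⟨f y, by
        apply mem_NN_of_forall
        intro x hx
        rw [← hI] at hx ⊢
        obtain ⟨z, hz, rfl⟩ := hx
        exact ⟨_, conj_mem_of_mem_NN y.2 hz, by simp⟩⟩
      map_one' := Subtype.ext (map_one f)
      map_mul' := fun a b => Subtype.ext (map_mul f (a : Y) (b : Y)) }
  have hφ : Function.Injective φ := by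
    intro a b hab
    apply Subtype.ext
    exact hf (congrArg Subtype.val hab)
  exact hasNPC_of_injective φ hφ h

end Pull

section Quot

variable {X : Type*} [Group X] [Finite X]

/-- The family in the quotient. -/
def quotFam (M : Subgroup X) [M.Normal] (𝒜 : Set (Subgroup X)) : Set (Subgroup (X ⧸ M)) :=
  (fun A => A.map (QuotientGroup.mk' M)) '' 𝒜

theorem exists_comap (M : Subgroup X) [M.Normal] {T : Subgroup X} {Q : Subgroup (X ⧸ M)}
    (hQ : Q ≤ T.map (QuotientGroup.mk' M)) : (Q.comap (QuotientGroup.mk' M) ⊓ T).map (QuotientGroup.mk' M) = Q := by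
  apply le_antisymm
  · rintro _ ⟨y, hy, rfl⟩
    exact hy.1
  · intro x hx
    obtain ⟨y, hy, rfl⟩ := hQ hx
    exact ⟨y, ⟨hx, hy⟩, rfl⟩

theorem AxFam.quot {M : Subgroup X} [hM : M.Normal] (hMc : (Nat.card M).Coprime p) {T : Subgroup X}
    (hTp : IsPGroup p T) {𝒜 : Set (Subgroup X)} (h : AxFam T 𝒜) :
    AxFam (T.map (QuotientGroup.mk' M)) (quotFam M 𝒜) := by
  set π : X →* X ⧸ M := QuotientGroup.mk' M with hπ
  have hπs : Function.Surjective π := QuotientGroup.mk'_surjective M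
  have hTM : T ⊓ M = ⊥ := by
    apply eq_bot_of_isPGroup_of_coprime (hTp.to_le inf_le_left)
    exact Nat.Coprime.coprime_dvd_left (Subgroup.card_dvd_of_le inf_le_right) hMc
  have hinj : ∀ x ∈ T, ∀ y ∈ T, π x = π y → x = y := by
    intro x hx y hy hxy
    have h1 : x⁻¹ * y ∈ M := QuotientGroup.eq.mp hxy
    have h2 : x⁻¹ * y ∈ T ⊓ M := ⟨T.mul_mem (T.inv_mem hx) hy, h1⟩
    rw [hTM, Subgroup.mem_bot] at h2
    exact inv_mul_eq_one.mp h2
  refine ⟨?_, ?_, ?_, ?_, ?_⟩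
  · obtain ⟨A, hA⟩ := h.ne
    exact ⟨_, A, hA, rfl⟩
  · rintro _ ⟨A, hA, rfl⟩
    exact Subgroup.map_mono (h.le A hA)
  · rintro _ ⟨A, hA, rfl⟩ _ ⟨x, hx, rfl⟩ _ ⟨y, hy, rfl⟩
    show π x * π y = π y * π x
    rw [← map_mul, ← map_mul, h.ab A hA x hx y hy]
  · rintro Qb hQb ⟨_, ⟨A₀, hA₀, rfl⟩, hA₀Q⟩ gb hgb xb hxb
    set Q : Subgroup X := Qb.comap π ⊓ T with hQ
    have hQm : Q.map π = Qb := exists_comap M hQb
    have hQT : Q ≤ T := inf_le_right
    have hleQ : ∀ A ∈ 𝒜, A.map π ≤ Qb → A ≤ Q := by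
      intro A hA hAQ x hx
      exact ⟨hAQ ⟨x, hx, rfl⟩, h.le A hA hx⟩
    have hQp : IsPGroup p Q := hTp.to_le hQT
    obtain ⟨g₁, rfl⟩ := hπs gb
    have hg₁ : ∀ t ∈ Q, g₁ * t * g₁⁻¹ ∈ Q ⊔ M := by
      intro t ht
      have h1 : π (g₁ * t * g₁⁻¹) ∈ Qb := by
        have := hgb (π t) ht.1
        simpa using this
      rw [← hQm] at h1
      obtain ⟨q, hq, hqe⟩ := h1
      have h2 : q⁻¹ * (g₁ * t * g₁⁻¹) ∈ M := QuotientGroup.eq.mp hqe
      have h3 : g₁ * t * g₁⁻¹ = q * (q⁻¹ * (g₁ * t * g₁⁻¹)) := by group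
      rw [h3]
      exact Subgroup.mul_mem_sup hq h2
    obtain ⟨o, ho, hoN⟩ := exists_adjust_normal M hMc Q hQp g₁ hg₁
    have hoo : π o = 1 := (QuotientGroup.eq_one_iff o).mpr ho
    have hxQb : xb ∈ Qb := hA₀Q (by
      rw [mem_Ifam] at hxb
      exact hxb _ ⟨A₀, hA₀, rfl⟩ hA₀Q)
    rw [← hQm] at hxQb
    obtain ⟨x, hx, rfl⟩ := hxQb
    have hxI : x ∈ Ifam 𝒜 Q := by
      rw [mem_Ifam]
      intro A hA hAQ
      rw [mem_Ifam] at hxb
      have h1 := hxb _ ⟨A, hA, rfl⟩ (by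
        rw [← hQm]
        exact Subgroup.map_mono hAQ)
      obtain ⟨a, ha, hae⟩ := h1
      rwa [← hinj a (h.le A hA ha) x (hQT hx) hae]
    have h2 := h.inv Q hQT ⟨A₀, hA₀, hleQ A₀ hA₀ hA₀Q⟩ (o * g₁)
      (fun y hy => conj_mem_of_mem_NN hoN hy) x hxI
    rw [mem_Ifam] at h2 ⊢
    rintro _ ⟨A, hA, rfl⟩ hAQ
    have h3 := h2 A hA (hleQ A hA hAQ)
    have h4 : π (o * g₁ * x * (o * g₁)⁻¹) = π g₁ * π x * (π g₁)⁻¹ := by
      simp [map_mul, map_inv, hoo]
    rw [← h4]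
    exact ⟨_, h3, rfl⟩
  · rintro Bb hBb hBbn hB2 _ ⟨U, hU, rfl⟩ hBU hBnU
    set B : Subgroup X := Bb.comap π ⊓ T with hB
    have hBm : B.map π = Bb := exists_comap M hBb
    have hBT : B ≤ T := inf_le_right
    have hcm : ⁅Bb, Bb⁆ = ⁅B, B⁆.map π := by
      rw [← hBm, Subgroup.map_commutator]
    have hBBT : ⁅B, B⁆ ≤ T := comm_le_of_le hBT
    have hleU : ∀ A ∈ 𝒜, ⁅Bb, Bb⁆ ≤ A.map π → ⁅B, B⁆ ≤ A := by
      intro A hA hle y hy
      have h1 : π y ∈ A.map π := hle (by rw [hcm]; exact ⟨y, hy, rfl⟩)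
      obtain ⟨a, ha, hae⟩ := h1
      rwa [← hinj a (h.le A hA ha) y (hBBT hy) hae]
    have hnle : ∀ A ∈ 𝒜, ¬ Bb ≤ A.map π → ¬ B ≤ A := by
      intro A _ hn hle
      apply hn
      rw [← hBm]
      exact Subgroup.map_mono hle
    obtain ⟨A, hA, h1, h2, h3⟩ := h.rep B hBT (by
        intro t ht b hb
        refine ⟨?_, T.mul_mem (T.mul_mem ht (hBT hb)) (T.inv_mem ht)⟩
        have := hBbn (π t) ⟨t, ht, rfl⟩ (π b) hb.1
        simpa using this) (by
        rw [eq_bot_iff]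
        intro y hy
        have hyT : y ∈ T := (Subgroup.commutator_mono hBBT hBT |>.trans (comm_le_of_le le_rfl)) hy
        have h1 : π y ∈ ⁅⁅Bb, Bb⁆, Bb⁆ := by
          have e : ⁅⁅Bb, Bb⁆, Bb⁆ = ⁅⁅B, B⁆, B⁆.map π := by
            rw [Subgroup.map_commutator, ← hcm, hBm]
          rw [e]
          exact ⟨y, hy, rfl⟩
        rw [hB2, Subgroup.mem_bot] at h1
        rw [Subgroup.mem_bot]
        exact hinj y hyT 1 T.one_mem (by rw [h1, map_one])) U hU (hleU U hU hBU) (hnle U hU hBnU)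
    refine ⟨_, ⟨A, hA, rfl⟩, ?_, ?_, ?_⟩
    · rw [hcm]
      exact Subgroup.map_mono h1
    · intro h4
      apply h2
      intro b hb
      obtain ⟨a, ha, hae⟩ := h4 (show π b ∈ Bb from hb.1)
      rwa [← hinj a (h.le A hA ha) b (hBT hb) hae]
    · intro bb hbb
      rw [← hBm] at hbb
      obtain ⟨b, hb, rfl⟩ := hbb
      apply mem_NN_of_forall
      rintro _ ⟨a, ha, rfl⟩
      refine ⟨b * a * b⁻¹, conj_mem_of_mem_NN (h3 hb) ha, ?_⟩
      show π (b * a * b⁻¹) = π b * π a * (π b)⁻¹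
      simp only [map_mul, map_inv]

theorem map_sInf_quot {M : Subgroup X} [hM : M.Normal] (hMc : (Nat.card M).Coprime p) {T : Subgroup X}
    (hTp : IsPGroup p T) {𝒜 : Set (Subgroup X)} (h : AxFam T 𝒜) :
    (sInf 𝒜).map (QuotientGroup.mk' M) = sInf (quotFam M 𝒜) := by
  set π : X →* X ⧸ M := QuotientGroup.mk' M with hπ
  have hTM : T ⊓ M = ⊥ := by
    apply eq_bot_of_isPGroup_of_coprime (hTp.to_le inf_le_left)
    exact Nat.Coprime.coprime_dvd_left (Subgroup.card_dvd_of_le inf_le_right) hMc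
  have hinj : ∀ x ∈ T, ∀ y ∈ T, π x = π y → x = y := by
    intro x hx y hy hxy
    have h1 : x⁻¹ * y ∈ M := QuotientGroup.eq.mp hxy
    have h2 : x⁻¹ * y ∈ T ⊓ M := ⟨T.mul_mem (T.inv_mem hx) hy, h1⟩
    rw [hTM, Subgroup.mem_bot] at h2
    exact inv_mul_eq_one.mp h2
  apply le_antisymm
  · rintro _ ⟨x, hx, rfl⟩
    rw [Subgroup.mem_sInf]
    rintro _ ⟨A, hA, rfl⟩
    exact ⟨x, Subgroup.mem_sInf.mp hx A hA, rfl⟩
  · intro y hy
    rw [Subgroup.mem_sInf] at hy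
    obtain ⟨A₀, hA₀⟩ := h.ne
    obtain ⟨x, hx, rfl⟩ := hy _ ⟨A₀, hA₀, rfl⟩
    refine ⟨x, Subgroup.mem_sInf.mpr ?_, rfl⟩
    intro A hA
    obtain ⟨a, ha, hae⟩ := hy _ ⟨A, hA, rfl⟩
    rwa [← hinj a (h.le A hA ha) x (h.le A₀ hA₀ hx) hae]

/-- The normal complement passes to the quotient. -/
theorem hasNPC_quot {M : Subgroup X} [hM : M.Normal] (hMc : (Nat.card M).Coprime p) {W : Subgroup X}
    (hW : IsPGroup p W)
    (h : HasNormalPComplement p ↥(Subgroup.normalizer ((W : Subgroup X) : Set X))) :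
    HasNormalPComplement p ↥(Subgroup.normalizer ((W.map (QuotientGroup.mk' M) : Subgroup (X ⧸ M)) : Set (X ⧸ M))) := by
  set π : X →* X ⧸ M := QuotientGroup.mk' M with hπ
  have hπs : Function.Surjective π := QuotientGroup.mk'_surjective M
  let f : ↥(Subgroup.normalizer ((W : Subgroup X) : Set X)) →*
      ↥(Subgroup.normalizer ((W.map π : Subgroup (X ⧸ M)) : Set (X ⧸ M))) :=
    { toFun := fun y => ⟨π (y : X), by
        apply mem_NN_of_forall
        rintro _ ⟨x₀, hx₀, rfl⟩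
        refine ⟨_, conj_mem_of_mem_NN y.2 hx₀, ?_⟩
        simp [map_mul, map_inv]⟩
      map_one' := by
        apply Subtype.ext
        simp
      map_mul' := fun a b => Subtype.ext (map_mul π (a : X) (b : X)) }
  have hf : Function.Surjective f := by
    rintro ⟨y, hy⟩
    obtain ⟨g, rfl⟩ := hπs y
    have h1 : ∀ t ∈ W, g * t * g⁻¹ ∈ W ⊔ M := by
      intro t ht
      have h2 := conj_mem_of_mem_NN hy (⟨t, ht, rfl⟩ : π t ∈ W.map π)
      obtain ⟨v, hv, hvt⟩ := h2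
      have hvt' : π v = π (g * t * g⁻¹) := by
        rw [hvt]; simp [map_mul, map_inv]
      have h5 : v⁻¹ * (g * t * g⁻¹) ∈ M := QuotientGroup.eq.mp hvt'
      have h6 : g * t * g⁻¹ = v * (v⁻¹ * (g * t * g⁻¹)) := by group
      rw [h6]
      exact Subgroup.mul_mem_sup hv h5
    obtain ⟨o, ho, hoN⟩ := exists_adjust_normal M hMc W hW g h1
    refine ⟨⟨o * g, hoN⟩, ?_⟩
    apply Subtype.ext
    have hoo : π o = 1 := (QuotientGroup.eq_one_iff o).mpr ho
    show π (o * g) = π g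
    rw [map_mul, hoo, one_mul]
  exact hasNPC_of_surjective f hf h

end Quot


section Max

variable {X : Type*} [Group X] [Finite X]

/-- The family of abelian subgroups of largest order has the axioms. -/
theorem axFam_max (hp : p ≠ 2) {T : Subgroup X} (hT : IsPGroup p T) : AxFam T (maxFam (clsE 0) T) := by
  refine ⟨maxFam_clsE_nonempty 0 T, fun A hA => hA.1, fun A hA => clsE_comm hA.2.1, ?_, ?_⟩
  · rintro Q hQ _ g hg x hx
    rw [mem_Ifam] at hx ⊢
    intro A hA hAQ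
    have hgN : g ∈ NN Q := mem_NN_of_forall hg
    have hg' : g⁻¹ ∈ NN Q := Subgroup.inv_mem _ hgN
    have hcQ : cj g⁻¹ A ≤ Q := cj_le_iff.mpr (fun a ha => conj_mem_of_mem_NN hg' (hAQ ha))
    have hmem : cj g⁻¹ A ∈ maxFam (clsE 0) T := by
      refine ⟨hcQ.trans hQ, clsE_map _ hA.2.1, ?_⟩
      intro C hC hCc
      rw [card_cj]
      exact hA.2.2 C hC hCc
    have h1 := hx _ hmem hcQ
    rw [mem_cj] at h1
    simpa using h1
  · intro B hBP hBn hB2 U hU hB'U hBU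
    have hsub : Function.Injective T.subtype := T.subtype_injective
    let B0 : Subgroup T := B.subgroupOf T
    have hB0n : B0.Normal := by
      constructor
      intro n hn g
      exact hBn g g.2 n hn
    have hB0map : B0.map T.subtype = B := Subgroup.map_subgroupOf_eq_of_le hBP
    let 𝒰 : Set (Subgroup T) := {A0 | A0.map T.subtype ∈ maxFam (clsE 0) T}
    let U0 : Subgroup T := U.subgroupOf T
    have hU0map : U0.map T.subtype = U := Subgroup.map_subgroupOf_eq_of_le hU.1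
    have hU0 : U0 ∈ 𝒰 := by
      show U0.map T.subtype ∈ maxFam (clsE 0) T
      rw [hU0map]; exact hU
    have hcomm0 : ⁅B0, B0⁆.map T.subtype = ⁅B, B⁆ := by
      rw [Subgroup.map_commutator, hB0map]
    have h1 : ⁅B0, B0⁆ ≤ U0 := by
      rw [← Subgroup.map_le_map_iff_of_injective hsub, hcomm0, hU0map]
      exact hB'U
    have h2 : ¬ B0 ≤ U0 := by
      intro h
      apply hBU
      rw [← hU0map, ← hB0map]
      exact Subgroup.map_mono h
    have hcard_T : ∀ T0 : Subgroup T, Nat.card (T0.map T.subtype) = Nat.card T0 := fun T0 =>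
      Subgroup.card_map_of_injective hsub
    obtain ⟨A0, hA0, h3, h4, h5⟩ := replacement_general hT hp 𝒰 (by
        intro U1 hU1
        have hU1' := clsE_comm hU1.2.1
        exact ⟨⟨fun x y => by
          apply Subtype.ext
          have := hU1' (x : T) ⟨x, x.2, rfl⟩ (y : T) ⟨y, y.2, rfl⟩
          apply Subtype.ext
          exact this⟩⟩) (by
        intro U1 hU1 b T' hT' hcard hcomm hexp
        show T'.map T.subtype ∈ maxFam (clsE 0) T
        refine ⟨Subgroup.map_subtype_le _, hrep_clsE T U1 T' hU1.2.1 hcomm hexp, ?_⟩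
        intro C hC hCc
        rw [hcard_T, hcard, ← hcard_T]
        exact hU1.2.2 C hC hCc) B0 U0 hU0 h1 h2
    refine ⟨A0.map T.subtype, hA0, ?_, ?_, ?_⟩
    · rw [← hcomm0]
      exact Subgroup.map_mono h3
    · intro h
      apply h4
      rw [← hB0map] at h
      exact (Subgroup.map_le_map_iff_of_injective hsub).mp h
    · intro b hb
      have hbP : b ∈ T := hBP hb
      have hb0 : (⟨b, hbP⟩ : T) ∈ B0 := hb
      have hb1 := Subgroup.mem_normalizer_iff.mp (h5 hb0)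
      apply mem_NN_of_forall
      rintro _ ⟨y, hy, rfl⟩
      exact ⟨_, (hb1 y).mp hy, rfl⟩

end Max

/-- The condition of the reduction. -/
def Cond (p : ℕ) (X : Type u) [Group X] (T : Subgroup X) : Prop :=
  ∃ 𝒜 : Set (Subgroup X), AxFam T 𝒜 ∧ HasNormalPComplement p ↥(Subgroup.normalizer ((sInf 𝒜 : Subgroup X) : Set X))

/-- The axioms of the reduction hold for the condition. -/
theorem axioms (hp : p ≠ 2) : Axioms.{u} p (fun _ _ => True) (Cond p) where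
  sec_sub := fun _ _ _ _ => trivial
  sec_quot := fun _ _ _ _ _ => trivial
  conj := by
    rintro X _ _ T T' ⟨𝒜, h𝒜, hN⟩
    obtain ⟨k, _, hk⟩ := (isSyl_of_sylow T).exists_eq_cj (isSyl_of_sylow T')
    let f : X →* X := (MulAut.conj k⁻¹).toMonoidHom
    have hf : Function.Injective f := (MulAut.conj k⁻¹).injective
    have hTm : (T' : Subgroup X).map f = T := by
      rw [hk]
      ext y
      constructor
      · rintro ⟨x, hx, rfl⟩
        have hx' : x ∈ cj k (T : Subgroup X) := hx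
        rw [mem_cj] at hx'
        show k⁻¹ * x * k⁻¹⁻¹ ∈ (T : Subgroup X)
        simpa using hx'
      · intro hy
        refine ⟨k * y * k⁻¹, ?_, ?_⟩
        · exact conj_mem_cj hy
        · show k⁻¹ * (k * y * k⁻¹) * k⁻¹⁻¹ = y
          group
    have hinj : ∀ x ∈ (T' : Subgroup X), ∀ y ∈ (T' : Subgroup X), f x = f y → x = y := fun x _ y _ h => hf h
    refine ⟨pullFam f T' 𝒜, h𝒜.pull hTm hinj, ?_⟩
    exact hasNPC_pull hf (map_sInf_pull h𝒜 hTm hinj) hN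
  sub := by
    rintro X _ _ T Y hTY ⟨𝒜, h𝒜, hN⟩
    have hTm : ((T : Subgroup X).subgroupOf Y).map Y.subtype = T := Subgroup.map_subgroupOf_eq_of_le hTY
    have hinj : ∀ x ∈ (T : Subgroup X).subgroupOf Y, ∀ y ∈ (T : Subgroup X).subgroupOf Y,
        Y.subtype x = Y.subtype y → x = y := fun x _ y _ h => Y.subtype_injective h
    refine ⟨pullFam Y.subtype _ 𝒜, h𝒜.pull hTm hinj, ?_⟩
    exact hasNPC_pull Y.subtype_injective (map_sInf_pull h𝒜 hTm hinj) hN
  quot := by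
    rintro X _ _ T M hM hMc ⟨𝒜, h𝒜, hN⟩
    refine ⟨quotFam M 𝒜, h𝒜.quot hMc T.isPGroup', ?_⟩
    rw [← map_sInf_quot hMc T.isPGroup' h𝒜]
    obtain ⟨A₀, hA₀⟩ := h𝒜.ne
    exact hasNPC_quot hMc (T.isPGroup'.to_le ((sInf_le hA₀).trans (h𝒜.le A₀ hA₀))) hN
  char := by
    intro X _ _ _ T hT1 hC
    refine ⟨maxFam (clsE 0) (T : Subgroup X), axFam_max hp T.isPGroup', ?_⟩
    apply hC
    · exact WW_ne_bot (dvd_zero p) T.isPGroup' hT1
    · exact WW_le 0 _
    · -- characteristic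
      rw [Subgroup.characteristic_iff_map_eq]
      intro φ
      have hmap : (WW 0 (⊤ : Subgroup ↥(T : Subgroup X))).map (T : Subgroup X).subtype = WW 0 (T : Subgroup X) := by
        rw [map_WW 0 (T : Subgroup X).subtype (fun x _ y _ h => (T : Subgroup X).subtype_injective h)]
        congr 1
        ext x
        simp
      have hsub : (WW 0 (T : Subgroup X)).subgroupOf (T : Subgroup X) = WW 0 (⊤ : Subgroup ↥(T : Subgroup X)) := by
        rw [← hmap]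
        exact Subgroup.comap_map_eq_self_of_injective (T : Subgroup X).subtype_injective _
      have h0 : sInf (maxFam (clsE 0) (T : Subgroup X)) = WW 0 (T : Subgroup X) := rfl
      rw [h0, hsub, map_WW 0 φ.toMonoidHom (fun x _ y _ h => φ.injective h)]
      congr 1
      ext x
      simp only [Subgroup.mem_map, Subgroup.mem_top, true_and, iff_true]
      exact ⟨φ.symm x, by simp⟩
  normal := by
    rintro X _ _ _ T hTn ⟨𝒜, h𝒜, hN⟩
    apply hasNPC_of_normal _ hN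
    constructor
    intro n hn g
    rw [← Ifam_eq_sInf h𝒜.le] at hn ⊢
    obtain ⟨A₀, hA₀⟩ := h𝒜.ne
    exact h𝒜.inv _ le_rfl ⟨A₀, hA₀, h𝒜.le A₀ hA₀⟩ g (fun x hx => hTn.conj_mem x hx g) n hn
  final := by
    rintro X _ _ T K _ hC ⟨𝒜, h𝒜, hN⟩
    apply hasNPC_of_normal _ hN
    have hKn : K.Normal := hC.normal
    obtain ⟨N, hNc, hpow⟩ := hC.pow
    have hidx : ∃ j, K.index = p ^ j := by
      have h1 : K.relIndex (T : Subgroup X) = K.index := by
        have h2 : K.relIndex (K ⊔ (T : Subgroup X)) = K.relIndex (T : Subgroup X) :=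
          Subgroup.relIndex_sup_left _ _
        rw [← h2, hC.sup_eq, Subgroup.relIndex_top_right]
      obtain ⟨n, hn⟩ := IsPGroup.iff_card.mp T.isPGroup'
      have h3 : K.index ∣ p ^ n := by
        rw [← h1, ← hn]
        exact Subgroup.index_dvd_card (K.subgroupOf (T : Subgroup X))
      obtain ⟨j, _, hj⟩ := (Nat.dvd_prime_pow hpp.out).mp h3
      exact ⟨j, hj⟩
    obtain ⟨j, hj⟩ := hidx
    have hst : ∀ (V : Subgroup X) [V.Normal], IsPGroup p V → IsPStableOn p V := by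
      intro V _ hV
      exact Cfsg.Agent.Lib.PStableAb.isPStableOn_of_abelian hp (isPGroup_pCore p) hC.comm hNc hpow hj V hV
    exact zj_ax T 𝒜 h𝒜.ne h𝒜.le h𝒜.ab h𝒜.inv h𝒜.rep hC.cent hst

/-- The normal `p`-complement theorem for an axiomatic family. -/
theorem npc_ax {G : Type u} [Group G] [Finite G] (hp : p ≠ 2) (P : Sylow p G) {𝒜 : Set (Subgroup G)}
    (h𝒜 : AxFam (P : Subgroup G) 𝒜)
    (h : HasNormalPComplement p ↥(Subgroup.normalizer ((sInf 𝒜 : Subgroup G) : Set G))) :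
    HasNormalPComplement p G :=
  reduction (axioms hp) trivial P ⟨𝒜, h𝒜, h⟩

end Cfsg.Agent.Lib.AxGT
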