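import Mathlib
import Cfsg.Agent.Lib.CharBasic
import Cfsg.Agent.Lib.CharInd
import Cfsg.Agent.Lib.CharValues
import Cfsg.Agent.Lib.CharTable
import Cfsg.Agent.Lib.CharCodegP

/-!
# Irreducible characters of a finite commutative group: orthogonality in plain form
-/

set_option autoImplicit false

namespace Cfsg.Agent.Lib.BSWAb

open Cfsg Cfsg.Agent.Lib.CharBasic Cfsg.Agent.Lib.CharInd
open scoped ComplexConjugate Classical

universe u

variable {A : Type u} [Group A] [Fintype A] (hc : ∀ a b : A, a * b = b * a)

/-- The trivial character. -/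
noncomputable def triv : IrrCharacter A := ⟨fun _ => 1, isIrrCharacter_one⟩

/-- The conjugate character. -/
noncomputable def bar (l : IrrCharacter A) : IrrCharacter A :=
  ⟨fun g => conj ((l : A → ℂ) g), Cfsg.Agent.Lib.CharTable.isIrrCharacter_conj l.2⟩

theorem bar_apply (l : IrrCharacter A) (g : A) :
    ((bar l : IrrCharacter A) : A → ℂ) g = (l : A → ℂ) g⁻¹ :=
  char_conj_eq_inv (IsIrrCharacter.isCharacter l.2) g

theorem bar_bar (l : IrrCharacter A) : bar (bar l) = l := by
  apply Subtype.ext
  funext g
  show conj (conj ((l : A → ℂ) g)) = _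
  simp

include hc in
theorem deg_one (l : IrrCharacter A) : (l : A → ℂ) 1 = 1 :=
  Cfsg.Agent.Lib.CharCodegP.irr_one_of_comm hc l.2

include hc in
/-- Irreducible characters are homomorphisms. -/
theorem exists_hom (l : IrrCharacter A) : ∃ f : A →* ℂˣ, ∀ g, (l : A → ℂ) g = f g :=
  exists_hom_of_degree_one (IsIrrCharacter.isCharacter l.2) (deg_one hc l)

include hc in
theorem map_mul_irr (l : IrrCharacter A) (a b : A) :
    (l : A → ℂ) (a * b) = (l : A → ℂ) a * (l : A → ℂ) b := by
  obtain ⟨f, hf⟩ := exists_hom hc l
  simp [hf]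

include hc in
theorem mul_inv_irr (l : IrrCharacter A) (a : A) :
    (l : A → ℂ) a * (l : A → ℂ) a⁻¹ = 1 := by
  rw [← map_mul_irr hc, mul_inv_cancel, deg_one hc]

theorem inner_row (l m : IrrCharacter A) :
    ∑ x : A, (l : A → ℂ) x * (m : A → ℂ) x⁻¹ = if l = m then (Nat.card A : ℂ) else 0 := by
  classical
  have h1 : ∀ x : A, (l : A → ℂ) x * (m : A → ℂ) x⁻¹ = (l : A → ℂ) x * conj ((m : A → ℂ) x) := by
    intro x
    rw [char_conj_eq_inv (IsIrrCharacter.isCharacter m.2)]
  simp only [h1]
  have h2 := classInner_irr l.2 m.2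
  unfold classInner at h2
  have h3 : (Nat.card A : ℂ) ≠ 0 := natCard_ne_zero'
  by_cases h : l = m
  · rw [if_pos h]
    rw [if_pos (congrArg Subtype.val h)] at h2
    field_simp at h2
    exact h2
  · rw [if_neg h]
    rw [if_neg (fun h' => h (Subtype.ext h'))] at h2
    have := mul_eq_zero.mp h2
    rcases this with h4 | h4
    · exact absurd (inv_eq_zero.mp h4) h3
    · exact h4

/-- Sum of a nontrivial character. -/
theorem sum_eq (l : IrrCharacter A) :
    ∑ x : A, (l : A → ℂ) x = if l = triv then (Nat.card A : ℂ) else 0 := by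
  have h := inner_row l triv
  simpa [triv] using h

include hc in
theorem column (x y : A) :
    ∑ l : IrrCharacter A, (l : A → ℂ) x * (l : A → ℂ) y⁻¹ =
      if x = y then (Nat.card A : ℂ) else 0 := by
  classical
  have h1 := sum_irr_mul_conj x y
  have h2 : ∀ l : IrrCharacter A, (l : A → ℂ) x * conj ((l : A → ℂ) y) =
      (l : A → ℂ) x * (l : A → ℂ) y⁻¹ := by
    intro l
    rw [char_conj_eq_inv (IsIrrCharacter.isCharacter l.2)]
  simp only [h2] at h1
  rw [h1]
  have h3 : IsConj x y ↔ x = y := by
    rw [isConj_iff]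
    constructor
    · rintro ⟨c, rfl⟩
      rw [hc c x, mul_assoc, mul_inv_cancel, mul_one]
    · rintro rfl
      exact ⟨1, by simp⟩
  by_cases h : x = y
  · subst h
    rw [if_pos (IsConj.refl x), if_pos rfl]
    have : Subgroup.centralizer ({x} : Set A) = ⊤ := by
      ext g
      simp only [Subgroup.mem_top, iff_true]
      rw [Subgroup.mem_centralizer_singleton_iff]
      exact hc g x
    rw [this, Subgroup.card_top]
  · rw [if_neg (fun h' => h (h3.mp h')), if_neg h]

include hc in
theorem card_irr : Nat.card (IrrCharacter A) = Nat.card A := by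
  have h := column hc (1 : A) 1
  simp only [inv_one, deg_one hc, mul_one, Finset.sum_const, Finset.card_univ, nsmul_eq_mul,
    ] at h
  rw [Fintype.card_eq_nat_card] at h
  exact_mod_cast h

include hc in
/-- Sum over characters at `x ≠ 1`. -/
theorem column_one (x : A) :
    ∑ l : IrrCharacter A, (l : A → ℂ) x = if x = 1 then (Nat.card A : ℂ) else 0 := by
  have h := column hc x 1
  simp only [inv_one, deg_one hc, mul_one] at h
  exact h

include hc in
/-- The number of real characters is the number of elements of square one. -/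
theorem card_real :
    (Finset.univ.filter fun l : IrrCharacter A => bar l = l).card =
      (Finset.univ.filter fun x : A => x * x = 1).card := by
  classical
  have hA : (Nat.card A : ℂ) ≠ 0 := natCard_ne_zero'
  have h1 : ∑ l : IrrCharacter A, ∑ x : A, (l : A → ℂ) x * (l : A → ℂ) x =
      ((Finset.univ.filter fun l : IrrCharacter A => bar l = l).card : ℂ) * (Nat.card A : ℂ) := by
    have : ∀ l : IrrCharacter A, ∑ x : A, (l : A → ℂ) x * (l : A → ℂ) x =
        if bar l = l then (Nat.card A : ℂ) else 0 := by
      intro l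
      have h2 := inner_row l (bar l)
      have h3 : ∀ x : A, ((bar l : IrrCharacter A) : A → ℂ) x⁻¹ = (l : A → ℂ) x := by
        intro x
        rw [bar_apply, inv_inv]
      simp only [h3] at h2
      rw [h2]
      by_cases h : bar l = l
      · rw [if_pos h, if_pos h.symm]
      · rw [if_neg h, if_neg (fun h' => h h'.symm)]
    simp only [this]
    rw [Finset.sum_ite, Finset.sum_const, Finset.sum_const_zero, add_zero, nsmul_eq_mul]
  have h2 : ∑ l : IrrCharacter A, ∑ x : A, (l : A → ℂ) x * (l : A → ℂ) x =
      ((Finset.univ.filter fun x : A => x * x = 1).card : ℂ) * (Nat.card A : ℂ) := by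
    rw [Finset.sum_comm]
    have : ∀ x : A, ∑ l : IrrCharacter A, (l : A → ℂ) x * (l : A → ℂ) x =
        if x * x = 1 then (Nat.card A : ℂ) else 0 := by
      intro x
      have h3 := column hc x x⁻¹
      simp only [inv_inv] at h3
      rw [h3]
      by_cases h : x * x = 1
      · rw [if_pos (eq_inv_of_mul_eq_one_left h), if_pos h]
      · rw [if_neg, if_neg h]
        intro h'
        apply h
        nth_rewrite 1 [h']
        simp
    simp only [this]
    rw [Finset.sum_ite, Finset.sum_const, Finset.sum_const_zero, add_zero, nsmul_eq_mul]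
  rw [h1] at h2
  have h3 := mul_right_cancel₀ hA h2
  exact_mod_cast h3

end Cfsg.Agent.Lib.BSWAb
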