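import Mathlib
import Cfsg.Prelude.Def_Blocks
import Cfsg.Agent.Lib.BlockLocal

/-!
# The local ring at a maximal ideal of the algebraic integers is a valuation ring

Elementary proofs: for an algebraic number `x`, either `x` or `x⁻¹` lies in the local ring; every
element of the local ideal has a power divisible by `p`.
-/

set_option autoImplicit false
set_option linter.unusedSectionVars false
set_option linter.unusedVariables false
set_option linter.style.haveILetI false

namespace Cfsg.Agent.Lib.BlkVal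

open Cfsg Cfsg.Agent.Lib.BlockLocal Polynomial

variable {M : Ideal AlgInt} {p : ℕ}

/-- Iterated `divX`. -/
noncomputable def qPoly (P : ℤ[X]) : ℕ → ℤ[X]
  | 0 => P
  | m + 1 => divX (qPoly P m)

theorem qPoly_zero (P : ℤ[X]) : qPoly P 0 = P := rfl

theorem qPoly_succ (P : ℤ[X]) (m : ℕ) : qPoly P (m + 1) = divX (qPoly P m) := rfl

theorem qPoly_coeff (P : ℤ[X]) (m n : ℕ) : (qPoly P m).coeff n = P.coeff (n + m) := by
  induction m generalizing n with
  | zero => simp [qPoly_zero]
  | succ m ih =>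
    rw [qPoly_succ, coeff_divX, ih]
    congr 1
    ring

theorem qPoly_eq_zero (P : ℤ[X]) {m : ℕ} (h : P.natDegree < m) : qPoly P m = 0 := by
  ext n
  rw [qPoly_coeff, coeff_zero]
  apply coeff_eq_zero_of_natDegree_lt
  omega

theorem qPoly_rec (P : ℤ[X]) (m : ℕ) :
    qPoly P m = qPoly P (m + 1) * X + C (P.coeff m) := by
  conv_lhs => rw [← divX_mul_X_add (qPoly P m)]
  rw [qPoly_succ, qPoly_coeff, zero_add]

theorem qPoly_decomp (P : ℤ[X]) (m : ℕ) :
    ∃ T : ℤ[X], T.degree < m ∧ P = qPoly P m * X ^ m + T := by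
  induction m with
  | zero => exact ⟨0, by simp [degree_zero], by simp [qPoly_zero]⟩
  | succ m ih =>
    obtain ⟨T, hT, hP⟩ := ih
    refine ⟨C (P.coeff m) * X ^ m + T, ?_, ?_⟩
    · apply lt_of_le_of_lt (degree_add_le _ _)
      apply max_lt
      · apply lt_of_le_of_lt (degree_C_mul_X_pow_le _ _)
        exact_mod_cast Nat.lt_succ_self m
      · apply lt_trans hT
        exact_mod_cast Nat.lt_succ_self m
    · conv_lhs => rw [hP, qPoly_rec P m]
      ring

/-- The value of the iterated quotient. -/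
noncomputable def qVal (x : ℂ) (P : ℤ[X]) (m : ℕ) : ℂ := aeval x (qPoly P m)

theorem qVal_rec (x : ℂ) (P : ℤ[X]) (m : ℕ) :
    qVal x P m = qVal x P (m + 1) * x + (P.coeff m : ℂ) := by
  unfold qVal
  conv_lhs => rw [qPoly_rec P m]
  simp

/-- The numbers `q_m = c_n x^(n-m) + ... + c_m` are algebraic integers whenever `P(x) = 0`. -/
theorem isIntegral_qVal {x : ℂ} {P : ℤ[X]} (hP : aeval x P = 0) (m : ℕ) :
    IsIntegral ℤ (qVal x P m) := by
  have key : ∀ k m : ℕ, m + k = P.natDegree + 1 → IsIntegral ℤ (qVal x P m) := by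
    intro k
    induction k with
    | zero =>
      intro m hm
      have : qPoly P m = 0 := qPoly_eq_zero P (by omega)
      unfold qVal
      rw [this]
      simp [isIntegral_zero]
    | succ k ih =>
      intro m hm
      have h1 := ih (m + 1) (by omega)
      rw [qVal_rec]
      refine IsIntegral.add ?_ isIntegral_algebraMap
      by_cases h0 : qVal x P (m + 1) = 0
      · rw [h0, zero_mul]
        exact isIntegral_zero
      obtain ⟨T, hT, hPT⟩ := qPoly_decomp P (m + 1)
      let u : AlgInt := ⟨qVal x P (m + 1), h1⟩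
      have hu : u ≠ 0 := fun h => h0 (congrArg Subtype.val h)
      let R : AlgInt[X] := C u * X ^ (m + 1) + T.map (algebraMap ℤ AlgInt)
      have hT' : (T.map (algebraMap ℤ AlgInt)).degree < (C u * X ^ (m + 1)).degree := by
        rw [degree_C_mul_X_pow _ hu]
        exact lt_of_le_of_lt degree_map_le hT
      have hlead : R.leadingCoeff = u := by
        simp only [R]
        rw [leadingCoeff_add_of_degree_lt' hT', leadingCoeff_mul_X_pow, leadingCoeff_C]
      have hR : aeval x R = 0 := by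
        have h2 : aeval x P = qVal x P (m + 1) * x ^ (m + 1) + aeval x T := by
          conv_lhs => rw [hPT]
          simp [qVal]
        rw [hP] at h2
        simp only [R, map_add, map_mul, aeval_C, aeval_X_pow]
        rw [aeval_map_algebraMap]
        exact h2.symm
      have h3 := isIntegral_leadingCoeff_smul R x hR
      rw [hlead] at h3
      have h4 : IsIntegral ℤ (u • x) := isIntegral_trans _ h3
      exact h4
  by_cases hm : m ≤ P.natDegree + 1
  · exact key (P.natDegree + 1 - m) m (by omega)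
  · have : qPoly P m = 0 := qPoly_eq_zero P (by omega)
    unfold qVal
    rw [this]
    simp [isIntegral_zero]

section Local

variable [hM : M.IsPrime]

theorem memLocalRing_div_of_not_mem {a b : ℂ} (ha : IsIntegral ℤ a) (hb : IsIntegral ℤ b)
    (hb' : (⟨b, hb⟩ : AlgInt) ∉ M) : MemLocalRing M (a / b) :=
  ⟨⟨a, ha⟩, ⟨b, hb⟩, hb', rfl⟩

end Local

section PMod

theorem intCast_not_mem (hM : IsPModular p M) {c : ℤ} (hc : ¬ (p : ℤ) ∣ c) :
    (algebraMap ℤ AlgInt c) ∉ M := by
  haveI := hM.2.1.isPrime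
  intro h
  have h1 := memLocalIdeal_coe h
  have h2 : ((algebraMap ℤ AlgInt c : AlgInt) : ℂ) = (c : ℂ) := by simp
  rw [h2] at h1
  exact hc ((memLocalIdeal_intCast_iff hM).mp h1)

/-- **The local ring is a valuation ring.** -/
theorem memLocalRing_or_inv (hM : IsPModular p M) {x : ℂ} (hx : IsAlgebraic ℤ x) :
    MemLocalRing M x ∨ MemLocalRing M x⁻¹ := by
  classical
  haveI := hM.2.1.isPrime
  have hp := hM.1
  by_cases hx0 : x = 0
  · left
    rw [hx0]
    exact memLocalRing_zero
  obtain ⟨P₀, hP₀, hP₀x⟩ := hx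
  -- a primitive polynomial
  set P := P₀.primPart with hPdef
  have hcont : (algebraMap ℤ ℂ) P₀.content ≠ 0 := by
    intro h
    have h1 : P₀.content = 0 := by simpa using h
    exact hP₀ (content_eq_zero_iff.mp h1)
  have hPx : aeval x P = 0 := by
    have h1 := P₀.eq_C_content_mul_primPart
    rw [h1, map_mul, aeval_C] at hP₀x
    exact (mul_eq_zero.mp hP₀x).resolve_left hcont
  have hprim : P.IsPrimitive := P₀.isPrimitive_primPart
  obtain ⟨j, hj⟩ : ∃ j, ¬ (p : ℤ) ∣ P.coeff j := by
    by_contra hcon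
    push Not at hcon
    have h1 : C (p : ℤ) ∣ P := (C_dvd_iff_dvd_coeff _ _).mpr hcon
    have h2 := hprim _ h1
    have h3 : (p : ℤ) = 1 ∨ (p : ℤ) = -1 := Int.isUnit_iff.mp h2
    rcases h3 with h3 | h3
    · have : p = 1 := by exact_mod_cast h3
      exact hp.one_lt.ne' this
    · have : (0 : ℤ) < p := by exact_mod_cast hp.pos
      omega
  have hint := isIntegral_qVal hPx
  have hcj := intCast_not_mem hM hj
  let qq : ℕ → AlgInt := fun m => ⟨qVal x P m, hint m⟩
  by_cases h1 : qq (j + 1) ∉ M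
  · -- `x = (x * q_{j+1}) / q_{j+1}`
    left
    have hne : qVal x P (j + 1) ≠ 0 := coe_ne_zero_of_not_mem h1
    have h2 : x * qVal x P (j + 1) = qVal x P j - (P.coeff j : ℂ) := by
      rw [qVal_rec x P j]
      ring
    have hint2 : IsIntegral ℤ (x * qVal x P (j + 1)) := by
      rw [h2]
      exact (hint j).sub isIntegral_algebraMap
    refine ⟨⟨_, hint2⟩, qq (j + 1), h1, ?_⟩
    show x * qVal x P (j + 1) / qVal x P (j + 1) = x
    field_simp
  · rw [not_not] at h1
    by_cases h2 : qq j ∈ M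
    · -- `x⁻¹ = q_{j+1} / (x q_{j+1})`
      right
      have h3 : (x * qVal x P (j + 1)) = qVal x P j - (P.coeff j : ℂ) := by
        rw [qVal_rec x P j]
        ring
      have hint2 : IsIntegral ℤ (x * qVal x P (j + 1)) := by
        rw [h3]
        exact (hint j).sub isIntegral_algebraMap
      have h4 : (⟨_, hint2⟩ : AlgInt) ∉ M := by
        intro h5
        have h6 : algebraMap ℤ AlgInt (P.coeff j) = qq j - ⟨_, hint2⟩ := by
          apply Subtype.ext
          show ((P.coeff j : ℤ) : ℂ) = qVal x P j - x * qVal x P (j + 1)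
          rw [h3]
          ring
        rw [h6] at hcj
        exact hcj (M.sub_mem h2 h5)
      refine ⟨qq (j + 1), ⟨_, hint2⟩, h4, ?_⟩
      have hne : x * qVal x P (j + 1) ≠ 0 := coe_ne_zero_of_not_mem h4
      have hne2 : qVal x P (j + 1) ≠ 0 := right_ne_zero_of_mul hne
      show qVal x P (j + 1) / (x * qVal x P (j + 1)) = x⁻¹
      field_simp
    · -- `x = (x q_j) / q_j`
      left
      have hne : qVal x P j ≠ 0 := coe_ne_zero_of_not_mem h2
      rcases Nat.eq_zero_or_pos j with rfl | hj0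
      · exfalso
        apply h2
        have : qq 0 = 0 := by
          apply Subtype.ext
          show qVal x P 0 = 0
          unfold qVal
          rw [qPoly_zero]
          exact hPx
        rw [this]
        exact M.zero_mem
      obtain ⟨i, rfl⟩ : ∃ i, j = i + 1 := ⟨j - 1, by omega⟩
      have h3 : x * qVal x P (i + 1) = qVal x P i - (P.coeff i : ℂ) := by
        rw [qVal_rec x P i]
        ring
      have hint2 : IsIntegral ℤ (x * qVal x P (i + 1)) := by
        rw [h3]
        exact (hint i).sub isIntegral_algebraMap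
      refine ⟨⟨_, hint2⟩, qq (i + 1), h2, ?_⟩
      show x * qVal x P (i + 1) / qVal x P (i + 1) = x
      field_simp

/-- Any two algebraic numbers are comparable in the local ring. -/
theorem memLocalRing_div_or_div (hM : IsPModular p M) {x y : ℂ} (hx : IsAlgebraic ℤ x)
    (hy : IsAlgebraic ℤ y) : MemLocalRing M (x / y) ∨ MemLocalRing M (y / x) := by
  have h := memLocalRing_or_inv hM (x := x / y) (by
    exact hx.mul hy.inv)
  rcases h with h | h
  · exact Or.inl h
  · right
    rwa [inv_div] at h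

/-- An algebraic integer in `M` has a power divisible by `p` in the local ring. -/
theorem exists_pow_div_of_mem (hM : IsPModular p M) (a : AlgInt) (ha : a ∈ M) :
    ∃ k : ℕ, MemLocalRing M ((a : ℂ) ^ k / (p : ℂ)) := by
  classical
  haveI := hM.2.1.isPrime
  have hp := hM.1
  obtain ⟨P, hPm, hPa⟩ := a.2
  have hPa' : aeval (a : ℂ) P = 0 := by
    rw [aeval_def]
    exact hPa
  have hex : ∃ j, ¬ (p : ℤ) ∣ P.coeff j := by
    refine ⟨P.natDegree, ?_⟩
    rw [coeff_natDegree, hPm.leadingCoeff]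
    intro h
    have h2 := Int.eq_one_of_dvd_one (by positivity) h
    have : p = 1 := by exact_mod_cast h2
    exact hp.one_lt.ne' this
  set k := Nat.find hex with hk
  have hk1 : ¬ (p : ℤ) ∣ P.coeff k := Nat.find_spec hex
  have hk2 : ∀ j < k, (p : ℤ) ∣ P.coeff j := fun j hj => not_not.mp (Nat.find_min hex hj)
  obtain ⟨T, hT, hPT⟩ := qPoly_decomp P k
  have hTdvd : C (p : ℤ) ∣ T := by
    rw [C_dvd_iff_dvd_coeff]
    intro j
    by_cases hj : j < k
    · have h1 : P.coeff j = T.coeff j := by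
        conv_lhs => rw [hPT]
        rw [coeff_add, coeff_mul_X_pow', if_neg (by omega), zero_add]
      rw [← h1]
      exact hk2 j hj
    · rw [coeff_eq_zero_of_degree_lt]
      · exact dvd_zero _
      · apply lt_of_lt_of_le hT
        exact_mod_cast not_lt.mp hj
  obtain ⟨T', rfl⟩ := hTdvd
  have hint := isIntegral_qVal hPa'
  have hTint : IsIntegral ℤ (aeval (a : ℂ) T') := by
    have : IsIntegral ℤ (a : ℂ) := a.2
    exact IsIntegral.of_mem_of_fg _ (IsIntegral.fg_adjoin_singleton this) _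
      (Polynomial.aeval_mem_adjoin_singleton _ _)
  have hrel : qVal (a : ℂ) P k * (a : ℂ) ^ k + (p : ℂ) * aeval (a : ℂ) T' = 0 := by
    have h2 : aeval (a : ℂ) P = qVal (a : ℂ) P k * (a : ℂ) ^ k + (p : ℂ) * aeval (a : ℂ) T' := by
      conv_lhs => rw [hPT]
      simp [qVal]
    rw [← h2, hPa']
  -- `q_k` is not in `M`
  have hq : (⟨_, hint k⟩ : AlgInt) ∉ M := by
    intro h
    have h1 : IsIntegral ℤ (qVal (a : ℂ) P (k + 1)) := hint (k + 1)
    have h2 : algebraMap ℤ AlgInt (P.coeff k) =
        ⟨_, hint k⟩ - (⟨_, h1⟩ : AlgInt) * a := by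
      apply Subtype.ext
      show ((P.coeff k : ℤ) : ℂ) = qVal (a : ℂ) P k - qVal (a : ℂ) P (k + 1) * (a : ℂ)
      rw [qVal_rec (a : ℂ) P k]
      ring
    have h3 := intCast_not_mem hM hk1
    rw [h2] at h3
    exact h3 (M.sub_mem h (M.mul_mem_left _ ha))
  refine ⟨k, ⟨-⟨_, hTint⟩, ⟨_, hint k⟩, hq, ?_⟩⟩
  have hne : qVal (a : ℂ) P k ≠ 0 := coe_ne_zero_of_not_mem hq
  have hpne : (p : ℂ) ≠ 0 := by exact_mod_cast hp.ne_zero
  show -(aeval (a : ℂ) T') / qVal (a : ℂ) P k = (a : ℂ) ^ k / (p : ℂ)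
  rw [div_eq_div_iff hne hpne]
  linear_combination -hrel

/-- Elements of the local ideal have powers divisible by any given power of `p`. -/
theorem exists_pow_div_of_memLocalIdeal (hM : IsPModular p M) {z : ℂ} (hz : MemLocalIdeal M z)
    (t : ℕ) : ∃ N : ℕ, ∀ n, N ≤ n → MemLocalRing M (z ^ n / (p : ℂ) ^ t) := by
  classical
  haveI := hM.2.1.isPrime
  obtain ⟨a, b, ha, hb, rfl⟩ := hz
  obtain ⟨k, hk⟩ := exists_pow_div_of_mem hM a ha
  have hzR : MemLocalRing M ((a : ℂ) / (b : ℂ)) := ⟨a, b, hb, rfl⟩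
  have hbinv : MemLocalRing M ((b : ℂ)⁻¹) := by
    rw [show ((b : ℂ)⁻¹) = (1 : AlgInt) / (b : ℂ) by simp]
    exact ⟨1, b, hb, rfl⟩
  refine ⟨k * t, fun n hn => ?_⟩
  obtain ⟨m, rfl⟩ := Nat.exists_eq_add_of_le hn
  have h1 : ((a : ℂ) / (b : ℂ)) ^ (k * t + m) / (p : ℂ) ^ t =
      ((a : ℂ) ^ k / (p : ℂ)) ^ t * ((b : ℂ)⁻¹) ^ (k * t) * ((a : ℂ) / (b : ℂ)) ^ m := by
    have hb0 : (b : ℂ) ≠ 0 := coe_ne_zero_of_not_mem hb
    have hp0 : (p : ℂ) ≠ 0 := by exact_mod_cast hM.1.ne_zero
    rw [pow_add]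
    simp only [div_pow, inv_pow, pow_mul]
    field_simp
  rw [h1]
  exact memLocalRing_mul (memLocalRing_mul (memLocalRing_pow hk t) (memLocalRing_pow hbinv _))
    (memLocalRing_pow hzR m)

end PMod

end Cfsg.Agent.Lib.BlkVal
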