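import Mathlib
import Cfsg.Prelude.Def_Blocks
import Cfsg.Agent.Lib.BlkOrth
import Cfsg.Agent.Lib.BlkVal
import Cfsg.Agent.Lib.BlockVal

/-!
# Regular inner products; linking; block idempotents are combinations of the `zReg χ`

The functions `zReg p χ` (regular part of the complex conjugate of `χ`) generate the
space of central functions supported on `p`-regular elements.  A set `A` of irreducible characters
closed under linking has an idempotent with local coefficients.  Hence blocks are the connected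
components of the linking relation; in particular they do not depend on `M`.
-/

set_option autoImplicit false
set_option linter.unusedSectionVars false
set_option linter.unusedVariables false
set_option linter.style.haveILetI false

namespace Cfsg.Agent.Lib.BlkLink

open Cfsg Cfsg.Agent.Lib.CharBasic Cfsg.Agent.Lib.CharInd Cfsg.Agent.Lib.CharIntegrality
open Cfsg.Agent.Lib.BlockLocal Cfsg.Agent.Lib.BlockIdem Cfsg.Agent.Lib.BlkBasic
open Cfsg.Agent.Lib.BlkTrace Cfsg.Agent.Lib.BlkOrth
open scoped ComplexConjugate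

universe u

variable {G : Type u} [Group G] {p : ℕ} {M : Ideal AlgInt}

section Fin

variable [Fintype G]

/-- The inner product over regular elements. -/
noncomputable def regInner (p : ℕ) (χ ψ : G → ℂ) : ℂ :=
  ∑ x : G, @ite ℂ (¬ p ∣ orderOf x) (Classical.propDecidable _) (χ x * conj (ψ x)) 0

/-- The regular part of the conjugate of `χ`. -/
noncomputable def zReg (p : ℕ) (χ : G → ℂ) : G → ℂ :=
  fun x => @ite ℂ (¬ p ∣ orderOf x) (Classical.propDecidable _) (conj (χ x)) 0

theorem regInner_conj (p : ℕ) (χ ψ : G → ℂ) : conj (regInner p χ ψ) = regInner p ψ χ := by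
  classical
  unfold regInner
  rw [map_sum]
  refine Finset.sum_congr rfl fun x _ => ?_
  by_cases h : ¬ p ∣ orderOf x
  · rw [if_pos h, if_pos h, map_mul, Complex.conj_conj, mul_comm]
  · rw [if_neg h, if_neg h, map_zero]

theorem regInner_eq_zero_symm {χ ψ : G → ℂ} (h : regInner p χ ψ = 0) : regInner p ψ χ = 0 := by
  rw [← regInner_conj, h, map_zero]

theorem zReg_isClassFunction {χ : G → ℂ} (hχ : IsCharacter G χ) :
    IsClassFunction G (zReg p χ) := by
  intro g h
  unfold zReg
  have h1 : orderOf (h * g * h⁻¹) = orderOf g := (MulAut.conj h).orderOf_eq g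
  rw [isClassFunction_of_isCharacter hχ g h]
  by_cases h2 : ¬ p ∣ orderOf g
  · rw [if_pos h2, if_pos (by rwa [h1])]
  · rw [if_neg h2, if_neg (by rwa [h1])]

theorem omega_zReg (χ ψ : G → ℂ) : omega ψ (zReg p χ) = regInner p ψ χ / ψ 1 := by
  classical
  unfold omega zReg regInner
  congr 1
  refine Finset.sum_congr rfl fun x _ => ?_
  by_cases h : ¬ p ∣ orderOf x
  · rw [if_pos h, if_pos h, mul_comm]
  · rw [if_neg h, if_neg h, zero_mul]

theorem memLocalRing_zReg [M.IsPrime] (χ : IrrCharacter G) (x : G) :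
    MemLocalRing M (zReg p (χ : G → ℂ) x) := by
  classical
  unfold zReg
  by_cases h : ¬ p ∣ orderOf x
  · rw [if_pos h, char_conj_eq_inv (IsIrrCharacter.isCharacter χ.2)]
    exact memLocalRing_of_isIntegral (Cfsg.Agent.Lib.BlockVal.isIntegral_irr χ _)
  · rw [if_neg h]
    exact memLocalRing_zero

/-- A combination of irreducible characters with `p`-local rational coefficients, which is `δ_1` on
regular elements. -/
def RegDecomp (p : ℕ) (r : IrrCharacter G → ℂ) : Prop :=
  (∀ χ, ∃ n m : ℕ, ¬ p ∣ m ∧ r χ = (n : ℂ) / (m : ℂ)) ∧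
    (∑ χ : IrrCharacter G, r χ * (χ : G → ℂ) 1 = 1) ∧
      ∀ g : G, ¬ p ∣ orderOf g → g ≠ 1 → ∑ χ : IrrCharacter G, r χ * (χ : G → ℂ) g = 0

/-- The Sylow element: combination of irreducible characters equal on regular elements to `δ_1`. -/
theorem exists_regDecomp (hp : p.Prime) : ∃ r : IrrCharacter G → ℂ, RegDecomp p r := by
  classical
  haveI : Fact p.Prime := ⟨hp⟩
  obtain ⟨P⟩ := (inferInstance : Nonempty (Sylow p G))
  letI : Fintype (P : Subgroup G) := Fintype.ofFinite _
  set H : Subgroup G := (P : Subgroup G) with hH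
  set θ : H → ℂ := fun _ => 1 with hθ
  have hθc : IsCharacter H θ := isCharacter_one
  have hΘc : IsClassFunction G (indFun H θ) := indFun_isClassFunction H θ
  have hidx : ¬ p ∣ H.index := P.not_dvd_index
  have hidx0 : (H.index : ℂ) ≠ 0 := by
    intro h
    have : H.index = 0 := by exact_mod_cast h
    exact hidx (this ▸ dvd_zero p)
  have hsum : ∀ g : G, ∑ χ : IrrCharacter G,
      classInner (indFun H θ) (χ : G → ℂ) / (H.index : ℂ) * (χ : G → ℂ) g =
        indFun H θ g / (H.index : ℂ) := by
    intro g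
    have h1 := congrFun (classFunction_eq_sum hΘc) g
    simp only [Finset.sum_apply, Pi.smul_apply, smul_eq_mul] at h1
    rw [h1, Finset.sum_div]
    refine Finset.sum_congr rfl fun χ _ => ?_
    ring
  refine ⟨fun χ => classInner (indFun H θ) (χ : G → ℂ) / (H.index : ℂ), fun χ => ?_, ?_, fun g hg hg1 => ?_⟩
  · have hχ : IsCharacter G (χ : G → ℂ) := IsIrrCharacter.isCharacter χ.2
    obtain ⟨n, hn⟩ := classInner_char_char (indFun_isCharacter H hθc) hχ
    exact ⟨n, H.index, hidx, by simp only [hn]⟩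
  · rw [hsum, indFun_one]
    simp [hθ, hidx0]
  · rw [hsum, indFun_apply]
    have h3 : ∀ x : G, extendByZero H θ (x⁻¹ * g * x) = 0 := by
      intro x
      apply extendByZero_of_not_mem
      intro hmem
      apply hg1
      -- the element is a p-element
      have h4 : IsPGroup p H := P.isPGroup'
      obtain ⟨k, hk⟩ := h4 ⟨_, hmem⟩
      have h5 : (x⁻¹ * g * x) ^ (p ^ k) = 1 := by
        have := congrArg Subtype.val hk
        simpa using this
      have h6 : (x⁻¹ * g * x) = (MulAut.conj x⁻¹) g := by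
        simp
      have h7 : orderOf g ∣ p ^ k := by
        rw [← (MulAut.conj x⁻¹).orderOf_eq g, ← h6]
        exact orderOf_dvd_of_pow_eq_one h5
      obtain ⟨j, -, hj⟩ := (Nat.dvd_prime_pow hp).mp h7
      cases j with
      | zero =>
        rw [pow_zero] at hj
        exact orderOf_eq_one_iff.mp hj
      | succ j =>
        exact absurd (hj ▸ Dvd.intro_left _ (pow_succ p j).symm) hg
    simp only [h3, Finset.sum_const_zero, mul_zero, zero_div]

theorem sum_r_regInner {r : IrrCharacter G → ℂ} (hr : RegDecomp p r) (hp : p.Prime) (ψ : G → ℂ) :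
    ∑ χ : IrrCharacter G, r χ * regInner p ψ (χ : G → ℂ) = ψ 1 := by
  classical
  obtain ⟨hr1, hr2, hr3⟩ := hr
  have hreal : ∀ χ, conj (r χ) = r χ := by
    intro χ
    obtain ⟨n, m, -, h⟩ := hr1 χ
    rw [h, map_div₀, Complex.conj_natCast, Complex.conj_natCast]
  unfold regInner
  simp_rw [Finset.mul_sum]
  rw [Finset.sum_comm, Finset.sum_eq_single (1 : G)]
  · have h1 : ¬ p ∣ orderOf (1 : G) := by
      rw [orderOf_one]
      intro h
      exact hp.one_lt.ne' (Nat.dvd_one.mp h)
    simp_rw [if_pos h1]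
    have h2 : ∀ χ : IrrCharacter G, r χ * (ψ 1 * conj ((χ : G → ℂ) 1)) =
        ψ 1 * conj (r χ * (χ : G → ℂ) 1) := by
      intro χ
      rw [map_mul, hreal]
      ring
    simp_rw [h2]
    rw [← Finset.mul_sum, ← map_sum, hr2, map_one, mul_one]
  · intro g _ hg
    by_cases h : ¬ p ∣ orderOf g
    · simp_rw [if_pos h]
      have h2 : ∀ χ : IrrCharacter G, r χ * (ψ g * conj ((χ : G → ℂ) g)) =
          ψ g * conj (r χ * (χ : G → ℂ) g) := by
        intro χ
        rw [map_mul, hreal]
        ring
      simp_rw [h2]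
      rw [← Finset.mul_sum, ← map_sum, hr3 g h hg, map_zero, mul_zero]
    · simp_rw [if_neg h, mul_zero, Finset.sum_const_zero]
  · intro h
    exact absurd (Finset.mem_univ _) h

/-- **Idempotents of sets of characters closed under linking.** -/
theorem blockCoeff_eq_sum_zReg {r : IrrCharacter G → ℂ} (hr : RegDecomp p r) (hp : p.Prime)
    {A : Set (IrrCharacter G)}
    (hA : ∀ χ ∈ A, ∀ ψ, ψ ∉ A → regInner p (ψ : G → ℂ) (χ : G → ℂ) = 0) :
    blockCoeff A = ∑ χ : IrrCharacter G, (blkInd A χ * r χ) • zReg p (χ : G → ℂ) := by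
  classical
  have hcl : IsClassFunction G (∑ χ : IrrCharacter G, (blkInd A χ * r χ) • zReg p (χ : G → ℂ)) := by
    intro g h
    simp only [Finset.sum_apply, Pi.smul_apply, smul_eq_mul]
    refine Finset.sum_congr rfl fun χ _ => ?_
    rw [zReg_isClassFunction (IsIrrCharacter.isCharacter χ.2) g h]
  apply classFunction_eq_of_omega (blockCoeff_isClassFunction A) hcl
  intro ψ
  rw [omega_blockCoeff, omega_sum]
  simp_rw [omega_smul, omega_zReg]
  have hψ1 := irr_one_ne_zero' ψ.2
  by_cases hψ : ψ ∈ A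
  · rw [blkInd_of_mem hψ]
    have h1 : ∀ χ : IrrCharacter G, blkInd A χ * r χ * (regInner p (ψ : G → ℂ) (χ : G → ℂ) / (ψ : G → ℂ) 1) =
        r χ * regInner p (ψ : G → ℂ) (χ : G → ℂ) / (ψ : G → ℂ) 1 := by
      intro χ
      by_cases hχ : χ ∈ A
      · rw [blkInd_of_mem hχ]
        ring
      · rw [blkInd_of_not_mem hχ, regInner_eq_zero_symm (hA ψ hψ χ hχ)]
        simp
    simp_rw [h1]
    rw [← Finset.sum_div, sum_r_regInner hr hp, div_self hψ1]
  · rw [blkInd_of_not_mem hψ]
    symm
    refine Finset.sum_eq_zero fun χ _ => ?_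
    by_cases hχ : χ ∈ A
    · rw [hA χ hχ ψ hψ]
      simp
    · rw [blkInd_of_not_mem hχ]
      simp

theorem memLocalRing_blockCoeff_of_closed (hM : IsPModular p M) {A : Set (IrrCharacter G)}
    (hA : ∀ χ ∈ A, ∀ ψ, ψ ∉ A → regInner p (ψ : G → ℂ) (χ : G → ℂ) = 0) (g : G) :
    MemLocalRing M (blockCoeff A g) := by
  classical
  haveI := hM.2.1.isPrime
  obtain ⟨r, hr⟩ := exists_regDecomp (G := G) hM.1
  rw [blockCoeff_eq_sum_zReg hr hM.1 hA, Finset.sum_apply]
  refine memLocalRing_sum _ _ fun χ _ => ?_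
  simp only [Pi.smul_apply, smul_eq_mul]
  refine memLocalRing_mul (memLocalRing_mul ?_ ?_) (memLocalRing_zReg χ g)
  · by_cases hχ : χ ∈ A
    · rw [blkInd_of_mem hχ]
      exact memLocalRing_one
    · rw [blkInd_of_not_mem hχ]
      exact memLocalRing_zero
  · obtain ⟨n, m, hm, h⟩ := hr.1 χ
    rw [h]
    exact memLocalRing_mul (memLocalRing_natCast n) (by
      exact memLocalRing_inv_natCast hM hm) |> fun h2 => by
        rwa [div_eq_mul_inv]

/-- If the idempotent of `A` has local coefficients, then `A` contains the blocks of its members. -/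
theorem blockOf_subset_of_local [M.IsPrime] {A : Set (IrrCharacter G)}
    (hA : ∀ g : G, MemLocalRing M (blockCoeff A g)) {χ : IrrCharacter G} (hχ : χ ∈ A) :
    blockOf M (χ : G → ℂ) ⊆ A := by
  intro ψ hψ
  by_contra hψA
  have hc : blkInd A ∈ Zc (G := G) M := by
    intro g
    rw [← blockCoeff_eq_invF']
    exact hA g
  have h1 := memLocalIdeal_sub_of_mem_Zc hc hψ
  rw [blkInd_of_mem hχ, blkInd_of_not_mem hψA, sub_zero] at h1
  exact not_memLocalIdeal_one h1

/-- The linking relation. -/
def Linked (p : ℕ) (χ ψ : IrrCharacter G) : Prop := regInner p (χ : G → ℂ) (ψ : G → ℂ) ≠ 0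

/-- The connected component of `χ` for the linking relation. -/
def linkClass (p : ℕ) (χ : IrrCharacter G) : Set (IrrCharacter G) :=
  {ψ | Relation.EqvGen (Linked p) χ ψ}

theorem linkClass_closed (χ : IrrCharacter G) :
    ∀ χ' ∈ linkClass p χ, ∀ ψ, ψ ∉ linkClass p χ → regInner p (ψ : G → ℂ) (χ' : G → ℂ) = 0 := by
  intro χ' hχ' ψ hψ
  by_contra h
  exact hψ (Relation.EqvGen.trans _ _ _ hχ' (Relation.EqvGen.symm _ _ (Relation.EqvGen.rel _ _ h)))

theorem sameBlock_of_linked (hM : IsPModular p M) {χ ψ : IrrCharacter G}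
    (h : Relation.EqvGen (Linked p) χ ψ) : SameBlock M (χ : G → ℂ) (ψ : G → ℂ) := by
  haveI := hM.2.1.isPrime
  induction h with
  | rel x y hxy =>
    by_contra h2
    exact hxy (sum_regular_eq_zero hM x y h2)
  | refl x => exact sameBlock_refl _
  | symm x y _ ih => exact sameBlock_symm ih
  | trans x y z _ _ ih1 ih2 => exact sameBlock_trans ih1 ih2

/-- **Blocks are the connected components of the linking relation.** -/
theorem sameBlock_iff_linked (hM : IsPModular p M) {χ ψ : IrrCharacter G} :
    SameBlock M (χ : G → ℂ) (ψ : G → ℂ) ↔ Relation.EqvGen (Linked p) χ ψ := by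
  haveI := hM.2.1.isPrime
  refine ⟨fun h => ?_, sameBlock_of_linked hM⟩
  have h1 := blockOf_subset_of_local (M := M) (A := linkClass p χ)
    (memLocalRing_blockCoeff_of_closed hM (linkClass_closed χ)) (χ := χ)
    (Relation.EqvGen.refl χ)
  exact h1 h

/-- Blocks do not depend on the choice of the maximal ideal. -/
theorem sameBlock_of_sameBlock (hM : IsPModular p M) {M' : Ideal AlgInt} (hM' : IsPModular p M')
    {χ ψ : IrrCharacter G} (h : SameBlock M (χ : G → ℂ) (ψ : G → ℂ)) :
    SameBlock M' (χ : G → ℂ) (ψ : G → ℂ) :=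
  (sameBlock_iff_linked hM').mpr ((sameBlock_iff_linked hM).mp h)

end Fin

end Cfsg.Agent.Lib.BlkLink
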