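import Mathlib
import Cfsg.Prelude.Def_Blocks
import Cfsg.Agent.Lib.BlkLink
import Cfsg.Agent.Lib.BlockOsima
import Cfsg.Agent.Lib.BlockOrtho

/-!
# The solutions of `x ^ p = 1`, and a Frobenius congruence in the group algebra

We let `s` be the sum of all `x` with `x ^ p = 1`.  For a class function `w`, the congruence
`(s w)(g)^p ≡ (w^p)(g^p)` holds modulo `p`.  It follows that a block on which `s` acts invertibly
contains only one character, so that a character vanishing on all elements of order `p` is of defect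
zero.
-/

set_option autoImplicit false
set_option linter.unusedSectionVars false
set_option linter.unusedVariables false
set_option linter.style.haveILetI false

namespace Cfsg.Agent.Lib.BlkFrob

open Cfsg Cfsg.Agent.Lib.CharBasic Cfsg.Agent.Lib.CharInd Cfsg.Agent.Lib.CharIntegrality
open Cfsg.Agent.Lib.BlockLocal Cfsg.Agent.Lib.BlockIdem Cfsg.Agent.Lib.BlkBasic
open Cfsg.Agent.Lib.BlkTrace Cfsg.Agent.Lib.BlkOrth Cfsg.Agent.Lib.BlkVal Cfsg.Agent.Lib.BlkLink
open scoped ComplexConjugate

universe u v

section Fixed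

variable {X : Type v} [Fintype X] [DecidableEq X] {p : ℕ}

/-- A sum over a set with a permutation of prime order is congruent to the sum over the fixed
points. -/
theorem sum_eq_fixed_add (hp : p.Prime) (σ : Equiv.Perm X) (hσ : σ ^ p = 1) (f : X → ℂ)
    (hf : ∀ x, f (σ x) = f x) (R : Subring ℂ) (hR : ∀ x, f x ∈ R) :
    ∃ r ∈ R, ∑ x, f x = (∑ x, if σ x = x then f x else 0) + (p : ℂ) * r := by
  classical
  haveI : NeZero p := ⟨hp.ne_zero⟩
  -- the free part
  let P : X → Prop := fun x => σ x ≠ x
  have hPσ : ∀ x, P (σ x) ↔ P x := by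
    intro x
    simp only [P, ne_eq, EmbeddingLike.apply_eq_iff_eq]
  let σ' : Equiv.Perm {x // P x} := σ.subtypePerm hPσ
  have hpow : ∀ (m : ℕ) (x : {x // P x}), ((σ' ^ m) x : X) = (σ ^ m) (x : X) := by
    intro m x
    induction m with
    | zero => simp
    | succ m ih =>
      rw [pow_succ', pow_succ', Equiv.Perm.mul_apply, Equiv.Perm.mul_apply]
      show σ (((σ' ^ m) x : {x // P x}) : X) = _
      rw [ih]
  have hσ' : σ' ^ p = 1 := by
    ext x
    rw [hpow, hσ]
    rfl
  have hfree : ∀ (x : {x // P x}) (m : ℕ), (σ' ^ m) x = x → p ∣ m := by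
    intro x m hm
    by_contra hpm
    have h1 : (σ ^ m) (x : X) = x := by
      rw [← hpow, hm]
    have hcop : Nat.Coprime m p := ((Nat.Prime.coprime_iff_not_dvd hp).mpr hpm).symm
    have h2 : σ (x : X) = x := by
      have hA : ∀ k : ℕ, (σ ^ (m * k)) (x : X) = x := by
        intro k
        induction k with
        | zero => simp
        | succ k ih =>
          rw [mul_add, mul_one, add_comm, pow_add, Equiv.Perm.mul_apply, ih, h1]
      have hB : ∀ k : ℕ, (σ ^ (p * k)) (x : X) = x := by
        intro k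
        rw [pow_mul, hσ]
        simp
      obtain ⟨t, -, ht⟩ := Nat.exists_mul_mod_eq_of_coprime 1 hcop hp.ne_zero
      have h3 : (σ ^ (m * t)) (x : X) = x := hA t
      have h4 : m * t = p * (m * t / p) + 1 := by
        have := Nat.div_add_mod (m * t) p
        rw [ht, Nat.mod_eq_of_lt hp.one_lt] at this
        exact this.symm
      rw [h4, add_comm, pow_add, Equiv.Perm.mul_apply, hB, pow_one] at h3
      exact h3
    exact x.2 h2
  obtain ⟨ι, _, _, t, ht⟩ := Cfsg.Agent.Lib.BlockOsima.exists_transversal σ' hσ' hfree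
  have hinv : ∀ (m : ℕ) (x : X), f ((σ ^ m) x) = f x := by
    intro m x
    induction m with
    | zero => simp
    | succ m ih =>
      rw [pow_succ', Equiv.Perm.mul_apply, hf, ih]
  refine ⟨∑ i, f (t i), R.sum_mem fun i _ => hR _, ?_⟩
  have h1 : ∑ x : {x // P x}, f x = (p : ℂ) * ∑ i, f (t i) := by
    have h2 := Function.Bijective.sum_comp ht (fun x : {x // P x} => f x)
    rw [← h2, Fintype.sum_prod_type]
    simp only [hpow, hinv]
    rw [Finset.mul_sum]
    refine Finset.sum_congr rfl fun i _ => ?_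
    simp [ZMod.card]
  rw [← h1]
  have h3 : ∑ x, f x = ∑ x, (if σ x = x then f x else 0) + ∑ x, (if P x then f x else 0) := by
    rw [← Finset.sum_add_distrib]
    refine Finset.sum_congr rfl fun x _ => ?_
    by_cases hx : σ x = x
    · simp [hx, P]
    · simp [hx, P]
  rw [h3]
  congr 1
  rw [← Finset.sum_filter]
  exact Finset.sum_subtype _ (by simp) _

/-- Frobenius in a subring. -/
theorem sum_pow_eq (hp : p.Prime) {ι : Type*} (s : Finset ι) (f : ι → ℂ) (R : Subring ℂ)
    (hR : ∀ i ∈ s, f i ∈ R) :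
    ∃ r ∈ R, (∑ i ∈ s, f i) ^ p = ∑ i ∈ s, f i ^ p + (p : ℂ) * r := by
  classical
  induction s using Finset.induction_on with
  | empty =>
    refine ⟨0, R.zero_mem, ?_⟩
    simp [hp.ne_zero]
  | insert a s ha ih =>
    obtain ⟨r, hr, h⟩ := ih fun i hi => hR i (Finset.mem_insert_of_mem hi)
    have hfa := hR a (Finset.mem_insert_self a s)
    have hsum : ∑ i ∈ s, f i ∈ R := R.sum_mem fun i hi => hR i (Finset.mem_insert_of_mem hi)
    -- work inside `R`
    obtain ⟨q, hq⟩ := exists_add_pow_prime_eq hp (⟨f a, hfa⟩ : R) ⟨_, hsum⟩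
    have hq' := congrArg (Subtype.val) hq
    simp only [Subring.coe_add, Subring.coe_pow, Subring.coe_mul, Subring.coe_natCast] at hq'
    refine ⟨r + f a * (∑ i ∈ s, f i) * q, R.add_mem hr (R.mul_mem (R.mul_mem hfa hsum) q.2), ?_⟩
    rw [Finset.sum_insert ha, Finset.sum_insert ha, hq', h]
    ring

end Fixed

section Tuples

variable {G : Type u} [Group G] [Fintype G] [DecidableEq G] {p : ℕ}

/-- Convolution powers. -/
noncomputable def pw (a : G → ℂ) : ℕ → G → ℂ
  | 0 => delta
  | n + 1 => conv a (pw a n)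

theorem pw_zero (a : G → ℂ) : pw a 0 = delta := rfl

theorem pw_succ (a : G → ℂ) (n : ℕ) : pw a (n + 1) = conv a (pw a n) := rfl

theorem pw_isClassFunction {a : G → ℂ} (ha : IsClassFunction G a) (n : ℕ) :
    IsClassFunction G (pw a n) := by
  induction n with
  | zero => exact delta_isClassFunction
  | succ n ih => exact conv_isClassFunction ha ih

/-- The convolution power of a translate of a central function. -/
theorem pw_translate {w : G → ℂ} (hw : IsClassFunction G w) (g : G) (n : ℕ) (z : G) :
    pw (fun y => w (y * g)) n z = pw w n (z * g ^ n) := by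
  induction n generalizing z with
  | zero => simp [pw_zero]
  | succ n ih =>
    rw [pw_succ, pw_succ]
    unfold conv
    refine Fintype.sum_equiv (Equiv.mulRight g) _ _ fun x => ?_
    simp only [Equiv.coe_mulRight]
    congr 1
    rw [ih]
    have h1 : (x * g)⁻¹ * (z * g ^ (n + 1)) = g⁻¹ * (x⁻¹ * z * g ^ n) * g := by
      rw [pow_succ]
      group
    rw [h1]
    have h2 := pw_isClassFunction hw n (x⁻¹ * z * g ^ n) g⁻¹
    rw [inv_inv] at h2
    exact h2.symm

/-- Weighted product along a vector. -/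
noncomputable def vecProd (a : G → ℂ) {n : ℕ} (v : List.Vector G n) : ℂ := (v.toList.map a).prod

theorem pw_eq_sum_vector (a : G → ℂ) (n : ℕ) (z : G) :
    pw a n z = ∑ v : List.Vector G n, if v.toList.prod = z then vecProd a v else 0 := by
  classical
  induction n generalizing z with
  | zero =>
    rw [pw_zero]
    rw [Fintype.sum_eq_single (List.Vector.nil : List.Vector G 0)]
    · simp only [List.Vector.toList_nil, List.prod_nil, vecProd, List.map_nil]
      unfold delta
      by_cases hz : z = 1
      · simp [hz]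
      · have : (1 : G) ≠ z := fun h => hz h.symm
        simp [hz, this]
    · intro v hv
      exact absurd v.eq_nil hv
  | succ n ih =>
    rw [pw_succ]
    unfold conv
    let e : List.Vector G (n + 1) ≃ G × List.Vector G n :=
      { toFun := fun v => (v.head, v.tail)
        invFun := fun x => x.1 ::ᵥ x.2
        left_inv := fun v => v.cons_head_tail
        right_inv := fun x => by simp }
    have h1 := e.symm.sum_comp (fun v : List.Vector G (n + 1) =>
      if v.toList.prod = z then vecProd a v else 0)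
    rw [← h1, Fintype.sum_prod_type]
    refine Finset.sum_congr rfl fun x _ => ?_
    rw [ih, Finset.mul_sum]
    refine Finset.sum_congr rfl fun v _ => ?_
    show _ = if (x ::ᵥ v).toList.prod = z then vecProd a (x ::ᵥ v) else 0
    have h2 : (x ::ᵥ v).toList.prod = x * v.toList.prod := by simp
    have h3 : vecProd a (x ::ᵥ v) = a x * vecProd a v := by simp [vecProd]
    have h4 : v.toList.prod = x⁻¹ * z ↔ x * v.toList.prod = z := by
      constructor
      · intro h
        rw [h]
        group
      · intro h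
        rw [← h]
        group
    rw [h2, h3]
    by_cases h5 : x * v.toList.prod = z
    · rw [if_pos h5, if_pos (h4.mpr h5)]
    · rw [if_neg h5, if_neg (fun h6 => h5 (h4.mp h6)), mul_zero]

/-- The key congruence: the coefficient at `1` of the `p`-th power. -/
theorem pw_one_eq (hp : p.Prime) (a : G → ℂ) (R : Subring ℂ) (hR : ∀ y, a y ∈ R) :
    ∃ r ∈ R, pw a p 1 = (∑ y : G, if y ^ p = 1 then a y ^ p else 0) + (p : ℂ) * r := by
  classical
  haveI : Fact p.Prime := ⟨hp⟩
  rw [pw_eq_sum_vector]
  set X := {v : List.Vector G p // v.toList.prod = 1} with hX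
  have hsum : (∑ v : List.Vector G p, if v.toList.prod = 1 then vecProd a v else 0) =
      ∑ v : X, vecProd a v.1 := by
    rw [← Finset.sum_filter]
    exact Finset.sum_subtype _ (by simp) _
  rw [hsum]
  -- rotation
  let rot : ℕ → X → X := fun k v =>
    ⟨⟨_, (v.1.1.length_rotate k).trans v.1.2⟩, List.prod_rotate_eq_one_of_prod_eq_one v.2 k⟩
  have hrot0 : ∀ v, rot 0 v = v := fun v => Subtype.ext (Subtype.ext v.1.1.rotate_zero)
  have hrot2 : ∀ j k v, rot k (rot j v) = rot (j + k) v := fun j k v =>
    Subtype.ext (Subtype.ext (v.1.1.rotate_rotate j k))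
  have hrotp : ∀ v, rot p v = v := fun v =>
    Subtype.ext (Subtype.ext ((congr_arg _ v.1.2.symm).trans v.1.1.rotate_length))
  let σ : Equiv.Perm X := ⟨rot 1, rot (p - 1),
    fun s => by
      rw [hrot2, add_tsub_cancel_of_le hp.one_lt.le, hrotp],
    fun s => by
      rw [hrot2, tsub_add_cancel_of_le hp.one_lt.le, hrotp]⟩
  have hσk : ∀ k v, (σ ^ k) v = rot k v := by
    intro k
    induction k with
    | zero => intro v; rw [hrot0]; rfl
    | succ k ih =>
      intro v
      rw [pow_succ, Equiv.Perm.mul_apply, ih, add_comm, ← hrot2]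
      rfl
  have hσp : σ ^ p = 1 := by
    ext v
    rw [hσk, hrotp]
    rfl
  have hinv : ∀ v : X, vecProd a (σ v).1 = vecProd a v.1 := by
    intro v
    show ((v.1.1.rotate 1).map a).prod = (v.1.1.map a).prod
    exact ((List.rotate_perm v.1.1 1).map a).prod_eq
  obtain ⟨r, hr, h⟩ := sum_eq_fixed_add hp σ hσp (fun v : X => vecProd a v.1) hinv R (fun v => by
    unfold vecProd
    apply Subring.list_prod_mem
    intro x hx
    obtain ⟨y, -, rfl⟩ := List.mem_map.mp hx
    exact hR y)
  refine ⟨r, hr, ?_⟩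
  rw [h]
  congr 1
  -- the fixed points
  have hfix : (∑ v : X, if σ v = v then vecProd a v.1 else 0) =
      ∑ v ∈ Finset.univ.filter (fun v : X => σ v = v), vecProd a v.1 := by
    rw [Finset.sum_filter]
  rw [hfix, ← Finset.sum_filter]
  symm
  have hrep : ∀ y : G, y ^ p = 1 → (List.replicate p y).length = p := fun y _ => by simp
  refine Finset.sum_bij (fun y hy => (⟨⟨List.replicate p y, by simp⟩, by
    have hy' : y ^ p = 1 := (Finset.mem_filter.mp hy).2
    simpa using hy'⟩ : X)) ?_ ?_ ?_ ?_
  · intro y hy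
    rw [Finset.mem_filter]
    refine ⟨Finset.mem_univ _, ?_⟩
    apply Subtype.ext
    apply Subtype.ext
    exact List.rotate_replicate y p 1
  · intro y hy y' hy' h
    have h1 := congrArg (fun v : X => v.1.1) h
    simp only at h1
    have h2 := List.replicate_right_injective (n := p) hp.ne_zero h1
    exact h2
  · intro v hv
    have hv' : σ v = v := (Finset.mem_filter.mp hv).2
    have h1 : v.1.1.rotate 1 = v.1.1 := congrArg (fun v : X => v.1.1) hv'
    obtain ⟨y, hy⟩ := List.rotate_one_eq_self_iff_eq_replicate.mp h1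
    have hlen : v.1.1.length = p := v.1.2
    rw [hlen] at hy
    have hyp : y ^ p = 1 := by
      have := v.2
      show y ^ p = 1
      have h3 : v.1.1.prod = 1 := this
      rw [hy] at h3
      simpa using h3
    refine ⟨y, Finset.mem_filter.mpr ⟨Finset.mem_univ _, hyp⟩, ?_⟩
    apply Subtype.ext
    apply Subtype.ext
    exact hy.symm
  · intro y hy
    show a y ^ p = ((List.replicate p y).map a).prod
    simp

end Tuples

section Frob

variable {G : Type u} [Group G] [Fintype G] [DecidableEq G] {p : ℕ} {M : Ideal AlgInt}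

/-- **The Frobenius congruence**. -/
theorem frob_congr (hM : IsPModular p M) {w : G → ℂ} (hw : IsClassFunction G w)
    (hloc : ∀ g, MemLocalRing M (w g)) (hpw : ∀ z, MemLocalIdeal M (pw w p z)) (g : G) :
    MemLocalIdeal M (∑ y : G, if y ^ p = 1 then w (y * g) else 0) := by
  classical
  haveI := hM.2.1.isPrime
  have hp := hM.1
  obtain ⟨r, hr, h1⟩ := pw_one_eq hp (fun y => w (y * g)) (localSubring M) (fun y => hloc _)
  rw [pw_translate hw, one_mul] at h1
  obtain ⟨r2, hr2, h2⟩ := sum_pow_eq hp (Finset.univ.filter fun y : G => y ^ p = 1)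
    (fun y => w (y * g)) (localSubring M) (fun y _ => hloc _)
  have hpm : MemLocalIdeal M (p : ℂ) := memLocalIdeal_natCast_of_dvd hM dvd_rfl
  rw [← Finset.sum_filter]
  have hR : MemLocalRing M (∑ y ∈ Finset.univ.filter fun y : G => y ^ p = 1, w (y * g)) :=
    memLocalRing_sum _ _ fun y _ => hloc _
  rw [← memLocalIdeal_pow_iff hR hp.ne_zero, h2]
  rw [← Finset.sum_filter] at h1
  have h3 : ∑ i ∈ Finset.univ.filter fun y : G => y ^ p = 1, w (i * g) ^ p =
      pw w p (g ^ p) - (p : ℂ) * r := by
    rw [h1]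
    ring
  rw [h3]
  refine memLocalIdeal_add (memLocalIdeal_sub (hpw _) (memLocalIdeal_mul_right hpm hr))
    (memLocalIdeal_mul_right hpm hr2)

end Frob

section Block

variable {G : Type u} [Group G] [Fintype G] [DecidableEq G] {p : ℕ} {M : Ideal AlgInt}

/-- The indicator function of the solutions of `x ^ p = 1`. -/
noncomputable def solFun (p : ℕ) : G → ℂ := fun x => if x ^ p = 1 then 1 else 0

theorem solFun_isClassFunction (p : ℕ) : IsClassFunction G (solFun p : G → ℂ) := by
  intro g h
  unfold solFun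
  have h1 : (h * g * h⁻¹) ^ p = h * g ^ p * h⁻¹ := conj_pow
  have h2 : (h * g * h⁻¹) ^ p = 1 ↔ g ^ p = 1 := by
    rw [h1]
    constructor
    · intro h3
      have : g ^ p = h⁻¹ * (h * g ^ p * h⁻¹) * h := by group
      rw [this, h3]
      group
    · intro h3
      rw [h3]
      group
  simp only [h2]

/-- All coefficients of the central element `c` are in the local ideal. -/
def Cf (M : Ideal AlgInt) (c : IrrCharacter G → ℂ) : Prop := ∀ g : G, MemLocalIdeal M (invF c g)

theorem Cf_mul [M.IsPrime] {c d : IrrCharacter G → ℂ} (hc : c ∈ Zc (G := G) M) (hd : Cf M d) :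
    Cf M (c * d) := by
  intro g
  rw [invF_mul]
  unfold conv
  exact memLocalIdeal_sum _ _ fun x _ => memLocalIdeal_mul_left (hc x) (hd _)

theorem invF_pow (y : IrrCharacter G → ℂ) (n : ℕ) : invF (y ^ n) = pw (invF y) n := by
  induction n with
  | zero => rw [pow_zero, invF_one, pw_zero]
  | succ n ih => rw [pow_succ', invF_mul, ih, pw_succ]

/-- The central character of `solFun`. -/
noncomputable def cs (p : ℕ) : IrrCharacter G → ℂ := fun θ => omega (θ : G → ℂ) (solFun p)

theorem invF_cs (p : ℕ) : invF (cs p : IrrCharacter G → ℂ) = solFun p :=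
  invF_omega (solFun_isClassFunction p)

theorem cs_mem_Zc [M.IsPrime] (p : ℕ) : (cs p : IrrCharacter G → ℂ) ∈ Zc (G := G) M := by
  apply mem_Zc_of_classFunction (solFun_isClassFunction p)
  intro g
  unfold solFun
  split_ifs
  · exact memLocalRing_one
  · exact memLocalRing_zero

theorem Cf_of_Cf_pow [M.IsPrime] (hM : IsPModular p M) {y : IrrCharacter G → ℂ}
    (hy : y ∈ Zc (G := G) M) (h : Cf M (y ^ p)) : Cf M (cs p * y) := by
  intro g
  rw [invF_mul, invF_cs]
  have h1 := frob_congr hM (invF_isClassFunction y) hy (fun z => by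
    rw [← invF_pow]
    exact h z) g
  unfold conv solFun
  convert h1 using 1
  refine Fintype.sum_equiv (Equiv.inv G) _ _ fun x => ?_
  simp only [Equiv.inv_apply, inv_pow, inv_eq_one]
  split_ifs
  · simp
  · simp

theorem Cf_pow_large (hM : IsPModular p M) {c : IrrCharacter G → ℂ} (h : ∀ θ, MemLocalIdeal M (c θ)) :
    ∃ N : ℕ, ∀ n, N ≤ n → Cf M (c ^ n) := by
  classical
  haveI := hM.2.1.isPrime
  have hp := hM.1
  obtain ⟨a, m, hm, hcard⟩ := Nat.exists_eq_pow_mul_and_not_dvd (Nat.card_pos (α := G)).ne' p hp.ne_one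
  have hN : ∀ θ, ∃ N : ℕ, ∀ n, N ≤ n → MemLocalRing M ((c θ) ^ n / (p : ℂ) ^ (a + 1)) :=
    fun θ => exists_pow_div_of_memLocalIdeal hM (h θ) (a + 1)
  choose N hN using hN
  refine ⟨∑ θ, N θ, fun n hn g => ?_⟩
  unfold invF
  refine memLocalIdeal_sum _ _ fun θ _ => ?_
  have h1 : n ≥ N θ := le_trans (Finset.single_le_sum (fun _ _ => Nat.zero_le _) (Finset.mem_univ θ)) hn
  have h2 := hN θ n h1
  have hp0 : (p : ℂ) ≠ 0 := by exact_mod_cast hp.ne_zero
  have hm0 : (m : ℂ) ≠ 0 := by
    intro h
    have : m = 0 := by exact_mod_cast h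
    exact hm (this ▸ dvd_zero p)
  have h3 : (c ^ n) θ * ec (θ : G → ℂ) g = ((c θ) ^ n / (p : ℂ) ^ (a + 1)) *
      ((p : ℂ) * ((m : ℂ)⁻¹ * ((θ : G → ℂ) 1 * (θ : G → ℂ) g⁻¹))) := by
    unfold ec
    rw [hcard, Pi.pow_apply]
    push_cast
    field_simp
    ring
  rw [h3]
  refine memLocalIdeal_mul_left h2 (memLocalIdeal_mul_right (memLocalIdeal_natCast_of_dvd hM dvd_rfl) ?_)
  refine memLocalRing_mul (memLocalRing_inv_natCast hM hm)
    (memLocalRing_mul (memLocalRing_of_isIntegral (Cfsg.Agent.Lib.BlockVal.isIntegral_irr θ _))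
      (memLocalRing_of_isIntegral (Cfsg.Agent.Lib.BlockVal.isIntegral_irr θ _)))

/-- **Statement B**: in a block on which `s` acts invertibly, an element with all central characters
in the local ideal has all its coefficients in the local ideal. -/
theorem Cf_of_block [M.IsPrime] (hM : IsPModular p M) {B : Set (IrrCharacter G)} (hB : IsPBlock M B)
    (hs : ∀ θ ∈ B, ¬ MemLocalIdeal M (cs p θ)) {y : IrrCharacter G → ℂ}
    (hy : y ∈ Zc (G := G) M) (hyB : ∀ θ, θ ∉ B → y θ = 0) (h : ∀ θ, MemLocalIdeal M (y θ)) :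
    Cf M y := by
  classical
  have hp := hM.1
  -- the inverse of `s` on `B`
  set d : IrrCharacter G → ℂ := blkInd B * cs p + (1 - blkInd B) with hd
  have hdZ : d ∈ Zc (G := G) M := (Zc M).add_mem ((Zc M).mul_mem (blkInd_mem_Zc hB) (cs_mem_Zc p))
    ((Zc M).sub_mem (Zc M).one_mem (blkInd_mem_Zc hB))
  have hdval : ∀ θ, θ ∈ B → d θ = cs p θ := by
    intro θ hθ
    simp [hd, blkInd_of_mem hθ]
  have hdval2 : ∀ θ, θ ∉ B → d θ = 1 := by
    intro θ hθ
    simp [hd, blkInd_of_not_mem hθ]
  have hdU : ∀ θ, ¬ MemLocalIdeal M (d θ) := by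
    intro θ
    by_cases hθ : θ ∈ B
    · rw [hdval θ hθ]
      exact hs θ hθ
    · rw [hdval2 θ hθ]
      exact not_memLocalIdeal_one
  have hdi := inv_mem_Zc hdZ hdU
  have step : ∀ z ∈ Zc (G := G) M, (∀ θ, θ ∉ B → z θ = 0) → Cf M (z ^ p) → Cf M z := by
    intro z hz hzB hzp
    have h1 := Cf_of_Cf_pow hM hz hzp
    have h2 := Cf_mul hdi h1
    have h3 : ((fun θ => (d θ)⁻¹) * (cs p * z)) = z := by
      funext θ
      simp only [Pi.mul_apply]
      by_cases hθ : θ ∈ B
      · rw [hdval θ hθ, ← mul_assoc, inv_mul_cancel₀, one_mul]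
        exact ne_zero_of_not_memLocalIdeal (hs θ hθ)
      · rw [hzB θ hθ]
        simp
    rwa [h3] at h2
  obtain ⟨N, hN⟩ := Cf_pow_large hM h
  have key : ∀ k : ℕ, Cf M (y ^ (p ^ k)) → Cf M y := by
    intro k
    induction k with
    | zero => simp
    | succ k ih =>
      intro hk
      apply ih
      apply step (y ^ (p ^ k)) (Subring.pow_mem _ hy _)
      · intro θ hθ
        rw [Pi.pow_apply, hyB θ hθ, zero_pow (pow_pos hp.pos k).ne']
      · rw [← pow_mul, ← pow_succ]
        exact hk
  refine key N (hN _ ?_)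
  exact (Nat.lt_pow_self hp.one_lt).le

/-- Comparing finitely many algebraic numbers. -/
theorem exists_gcd (hM : IsPModular p M) {ι : Type*} [Fintype ι] (x : ι → ℂ)
    (hx : ∀ i, IsAlgebraic ℤ (x i)) (h : ∃ i, x i ≠ 0) :
    ∃ i₀, x i₀ ≠ 0 ∧ ∀ i, MemLocalRing M (x i / x i₀) := by
  classical
  haveI := hM.2.1.isPrime
  have key : ∀ S : Finset ι, (∃ i ∈ S, x i ≠ 0) → ∃ i₀ ∈ S, x i₀ ≠ 0 ∧
      ∀ i ∈ S, MemLocalRing M (x i / x i₀) := by
    intro S
    induction S using Finset.induction_on with
    | empty => rintro ⟨i, hi, -⟩; exact absurd hi (Finset.notMem_empty i)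
    | insert a S ha ih =>
      intro hex
      by_cases hS : ∃ i ∈ S, x i ≠ 0
      · obtain ⟨i₀, hi₀, hne, hi⟩ := ih hS
        by_cases hxa : x a = 0
        · refine ⟨i₀, Finset.mem_insert_of_mem hi₀, hne, fun i hi2 => ?_⟩
          rcases Finset.mem_insert.mp hi2 with rfl | hi3
          · rw [hxa, zero_div]
            exact memLocalRing_zero
          · exact hi i hi3
        · rcases memLocalRing_div_or_div hM (hx a) (hx i₀) with h1 | h1
          · refine ⟨i₀, Finset.mem_insert_of_mem hi₀, hne, fun i hi2 => ?_⟩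
            rcases Finset.mem_insert.mp hi2 with rfl | hi3
            · exact h1
            · exact hi i hi3
          · refine ⟨a, Finset.mem_insert_self a S, hxa, fun i hi2 => ?_⟩
            rcases Finset.mem_insert.mp hi2 with rfl | hi3
            · rw [div_self hxa]
              exact memLocalRing_one
            · have := memLocalRing_mul (hi i hi3) h1
              rwa [div_mul_div_cancel₀ hne] at this
      · obtain ⟨i₁, hi₁, hne⟩ := hex
        have hi1a : i₁ = a := by
          rcases Finset.mem_insert.mp hi₁ with h1 | h1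
          · exact h1
          · exact absurd ⟨i₁, h1, hne⟩ hS
        subst hi1a
        refine ⟨i₁, Finset.mem_insert_self _ _, hne, fun i hi2 => ?_⟩
        rcases Finset.mem_insert.mp hi2 with rfl | hi3
        · rw [div_self hne]
          exact memLocalRing_one
        · have : x i = 0 := by
            by_contra h5
            exact hS ⟨i, hi3, h5⟩
          rw [this, zero_div]
          exact memLocalRing_zero
  obtain ⟨i, hi⟩ := h
  obtain ⟨i₀, -, hne, h2⟩ := key Finset.univ ⟨i, Finset.mem_univ i, hi⟩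
  exact ⟨i₀, hne, fun j => h2 j (Finset.mem_univ j)⟩

/-- If `s` acts invertibly on the block of `χ` then `χ` is alone in its block. -/
theorem blockOf_eq_singleton (hM : IsPModular p M) (χ : IrrCharacter G)
    (hs : ¬ MemLocalIdeal M (cs p χ)) : blockOf M (χ : G → ℂ) = {χ} := by
  classical
  haveI := hM.2.1.isPrime
  have hp := hM.1
  have hB : IsPBlock M (blockOf M (χ : G → ℂ)) := ⟨χ, rfl⟩
  have hsB : ∀ θ ∈ blockOf M (χ : G → ℂ), ¬ MemLocalIdeal M (cs p θ) := by
    intro θ hθ h
    apply hs
    have h1 := memLocalIdeal_sub_of_mem_Zc (cs_mem_Zc (G := G) (M := M) p) hθ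
    have h2 := memLocalIdeal_add h1 h
    rwa [sub_add_cancel] at h2
  -- the gcd of the values of `χ`
  obtain ⟨g₀, hτ, hg₀⟩ := exists_gcd hM (fun g : G => (χ : G → ℂ) g⁻¹)
    (fun g => (Cfsg.Agent.Lib.BlockVal.isIntegral_irr χ _).isAlgebraic)
    ⟨1, by
      rw [inv_one]
      exact irr_one_ne_zero' χ.2⟩
  set τ := (χ : G → ℂ) g₀⁻¹ with hτdef
  have hχ1 := irr_one_ne_zero' χ.2
  have hG : (Nat.card G : ℂ) ≠ 0 := natCard_ne_zero'
  set q : ℂ := (Nat.card G : ℂ) / (χ : G → ℂ) 1 with hq
  have hq0 : q ≠ 0 := div_ne_zero hG hχ1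
  -- the scaled idempotent
  set y : IrrCharacter G → ℂ := fun θ => if θ = χ then q / τ else 0 with hy
  have hyinv : ∀ g, invF y g = (χ : G → ℂ) g⁻¹ / τ := by
    intro g
    unfold invF
    rw [Finset.sum_eq_single χ]
    · simp only [hy, if_true]
      unfold ec
      rw [hq]
      field_simp
    · intro θ _ hθ
      simp [hy, hθ]
    · intro h
      exact absurd (Finset.mem_univ _) h
  have hyZ : y ∈ Zc (G := G) M := by
    intro g
    rw [hyinv]
    exact hg₀ g
  have hyχ : y χ = q / τ := by simp [hy]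
  have hqR : MemLocalRing M (q / τ) := by
    rw [← hyχ]
    exact memLocalRing_of_mem_Zc hyZ χ
  have hqU : ¬ MemLocalIdeal M (q / τ) := by
    intro hmem
    have h1 : Cf M y := by
      refine Cf_of_block hM hB hsB hyZ (fun θ hθ => ?_) (fun θ => ?_)
      · have : θ ≠ χ := by
          rintro rfl
          exact hθ (mem_blockOf_self _)
        simp [hy, this]
      · by_cases hθ : θ = χ
        · simp only [hy, hθ, if_true]
          exact hmem
        · simp only [hy, hθ, if_false]
          exact memLocalIdeal_zero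
    have h2 := h1 g₀
    rw [hyinv, ← hτdef, div_self hτ] at h2
    exact not_memLocalIdeal_one h2
  -- the idempotent of `χ`
  have hind : blkInd ({χ} : Set (IrrCharacter G)) ∈ Zc (G := G) M := by
    have h1 := smul_mem_Zc (memLocalRing_inv hqR hqU) hyZ
    convert h1 using 1
    funext θ
    by_cases hθ : θ = χ
    · rw [hθ, blkInd_of_mem (Set.mem_singleton χ)]
      simp only [Pi.smul_apply, smul_eq_mul, hy, if_true]
      rw [inv_mul_cancel₀ (ne_zero_of_not_memLocalIdeal hqU)]
    · rw [blkInd_of_not_mem (fun h => hθ (Set.mem_singleton_iff.mp h))]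
      simp [hy, hθ]
  apply Set.Subset.antisymm
  · refine blockOf_subset_of_local (A := {χ}) (fun g => ?_) (Set.mem_singleton χ)
    rw [blockCoeff_eq_invF']
    exact hind g
  · rintro θ rfl
    exact mem_blockOf_self _

end Block

end Cfsg.Agent.Lib.BlkFrob
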