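import Mathlib

/-!
# Sylow subgroups of subgroups, seen inside the whole group
-/

set_option autoImplicit false
set_option linter.unusedSectionVars false
set_option linter.unusedVariables false
set_option linter.style.haveILetI false

namespace Cfsg.Agent.Lib.BlkSylow

variable {G : Type*} [Group G] [Finite G] {p : ℕ} [hp : Fact p.Prime]

/-- `P` is a Sylow `p`-subgroup of the subgroup `K`, all seen in `G`. -/
def IsSylowIn (p : ℕ) (P K : Subgroup G) : Prop :=
  IsPGroup p P ∧ P ≤ K ∧ ¬ p ∣ P.relIndex K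

theorem subgroupOf_map_subtype_self {K : Subgroup G} (S : Subgroup K) :
    (S.map K.subtype).subgroupOf K = S :=
  Subgroup.comap_map_eq_self_of_injective K.subtype_injective S

theorem isSylowIn_of_sylow {K : Subgroup G} (S : Sylow p K) :
    IsSylowIn p ((S : Subgroup K).map K.subtype) K := by
  refine ⟨S.isPGroup'.map _, Subgroup.map_subtype_le _, ?_⟩
  rw [Subgroup.relIndex, subgroupOf_map_subtype_self]
  exact S.not_dvd_index

theorem exists_sylow_of_isSylowIn {K P : Subgroup G} (h : IsSylowIn p P K) :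
    ∃ S : Sylow p K, (S : Subgroup K).map K.subtype = P := by
  obtain ⟨h1, h2, h3⟩ := h
  have h4 : IsPGroup p (P.subgroupOf K) := IsPGroup.comap_of_injective h1 K.subtype K.subtype_injective
  refine ⟨h4.toSylow h3, ?_⟩
  show (P.subgroupOf K).map K.subtype = P
  rw [Subgroup.map_subgroupOf_eq_of_le h2]

theorem exists_isSylowIn (K : Subgroup G) : ∃ P : Subgroup G, IsSylowIn p P K := by
  obtain ⟨S⟩ : Nonempty (Sylow p K) := inferInstance
  exact ⟨_, isSylowIn_of_sylow S⟩

/-- A `p`-subgroup of `K` lies in a Sylow subgroup of `K`. -/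
theorem exists_isSylowIn_ge {K Q : Subgroup G} (hQ : IsPGroup p Q) (hle : Q ≤ K) :
    ∃ S : Subgroup G, IsSylowIn p S K ∧ Q ≤ S := by
  have h4 : IsPGroup p (Q.subgroupOf K) := IsPGroup.comap_of_injective hQ K.subtype K.subtype_injective
  obtain ⟨S, hS⟩ := h4.exists_le_sylow
  refine ⟨_, isSylowIn_of_sylow S, fun x hx => ?_⟩
  exact ⟨⟨x, hle hx⟩, hS hx, rfl⟩

theorem conj_mem_map {Q : Subgroup G} {u x : G} :
    x ∈ Q.map (MulAut.conj u).toMonoidHom ↔ u⁻¹ * x * u ∈ Q := by
  constructor
  · rintro ⟨y, hy, rfl⟩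
    simpa [mul_assoc] using hy
  · intro h
    exact ⟨_, h, by simp [mul_assoc]⟩

theorem map_conj_one (Q : Subgroup G) : Q.map (MulAut.conj (1 : G)).toMonoidHom = Q := by
  ext x; simp

theorem map_conj_mul (Q : Subgroup G) (u v : G) :
    (Q.map (MulAut.conj v).toMonoidHom).map (MulAut.conj u).toMonoidHom =
      Q.map (MulAut.conj (u * v)).toMonoidHom := by
  ext x; simp only [conj_mem_map]; simp [mul_assoc]

theorem map_conj_le {Q R : Subgroup G} (u : G) (h : Q ≤ R) :
    Q.map (MulAut.conj u).toMonoidHom ≤ R.map (MulAut.conj u).toMonoidHom :=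
  Subgroup.map_mono h

theorem map_conj_eq_self_of_mem {K : Subgroup G} {u : G} (hu : u ∈ K) :
    K.map (MulAut.conj u).toMonoidHom = K := by
  ext x
  rw [conj_mem_map]
  constructor
  · intro h
    have := K.mul_mem (K.mul_mem hu h) (K.inv_mem hu)
    simpa [mul_assoc] using this
  · intro h
    exact K.mul_mem (K.mul_mem (K.inv_mem hu) h) hu

theorem card_map_conj (Q : Subgroup G) (u : G) :
    Nat.card (Q.map (MulAut.conj u).toMonoidHom) = Nat.card Q :=
  Subgroup.card_map_of_injective (MulAut.conj u).injective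

theorem relIndex_conj (P K : Subgroup G) (u : G) :
    (P.map (MulAut.conj u).toMonoidHom).relIndex (K.map (MulAut.conj u).toMonoidHom) =
      P.relIndex K := by
  exact Subgroup.relIndex_map_map_of_injective _ _ (MulAut.conj u).injective

theorem IsSylowIn.conj {P K : Subgroup G} (h : IsSylowIn p P K) (u : G) :
    IsSylowIn p (P.map (MulAut.conj u).toMonoidHom) (K.map (MulAut.conj u).toMonoidHom) := by
  refine ⟨h.1.map _, Subgroup.map_mono h.2.1, ?_⟩
  rw [relIndex_conj]
  exact h.2.2

/-- All Sylow subgroups of `K` are `K`-conjugate. -/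
theorem exists_conj_of_isSylowIn {K P P' : Subgroup G} (h : IsSylowIn p P K) (h' : IsSylowIn p P' K) :
    ∃ w ∈ K, P' = P.map (MulAut.conj w).toMonoidHom := by
  obtain ⟨S, rfl⟩ := exists_sylow_of_isSylowIn h
  obtain ⟨S', rfl⟩ := exists_sylow_of_isSylowIn h'
  obtain ⟨u, rfl⟩ := MulAction.exists_smul_eq K S S'
  refine ⟨u, u.2, ?_⟩
  ext x
  rw [Sylow.coe_subgroup_smul, conj_mem_map]
  constructor
  · rintro ⟨y, hy, rfl⟩
    obtain ⟨z, hz, rfl⟩ := hy
    refine ⟨z, hz, ?_⟩
    simp [mul_assoc]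
  · rintro ⟨y, hy, hyx⟩
    refine ⟨u * y * u⁻¹, ⟨y, hy, rfl⟩, ?_⟩
    have hyx' : (y : G) = (u : G)⁻¹ * x * u := hyx
    simp only [Subgroup.coe_subtype, Subgroup.coe_mul, InvMemClass.coe_inv]
    rw [hyx']; simp [mul_assoc]

/-- A `p`-subgroup of `K` lies in a `K`-conjugate of a given Sylow subgroup of `K`. -/
theorem exists_conj_ge_of_isSylowIn {K P Q : Subgroup G} (h : IsSylowIn p P K)
    (hQ : IsPGroup p Q) (hle : Q ≤ K) :
    ∃ u ∈ K, Q ≤ P.map (MulAut.conj u).toMonoidHom := by
  obtain ⟨S, hS, hQS⟩ := exists_isSylowIn_ge (p := p) hQ hle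
  obtain ⟨w, hw, rfl⟩ := exists_conj_of_isSylowIn h hS
  exact ⟨w, hw, hQS⟩

theorem centralizer_map_conj (g u : G) :
    (Subgroup.centralizer ({g} : Set G)).map (MulAut.conj u).toMonoidHom =
      Subgroup.centralizer ({u * g * u⁻¹} : Set G) := by
  ext x
  rw [conj_mem_map, Subgroup.mem_centralizer_singleton_iff, Subgroup.mem_centralizer_singleton_iff]
  constructor
  · intro h
    calc x * (u * g * u⁻¹) = u * ((u⁻¹ * x * u) * g) * u⁻¹ := by group
      _ = u * (g * (u⁻¹ * x * u)) * u⁻¹ := by rw [h]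
      _ = _ := by group
  · intro h
    calc u⁻¹ * x * u * g = u⁻¹ * (x * (u * g * u⁻¹)) * u := by group
      _ = u⁻¹ * ((u * g * u⁻¹) * x) * u := by rw [h]
      _ = _ := by group

/-- A `p`-subgroup of the right order is Sylow. -/
theorem isSylowIn_of_card {K P P' : Subgroup G} (h : IsSylowIn p P K)
    (hP' : IsPGroup p P') (hle : P' ≤ K) (hc : Nat.card P' = Nat.card P) : IsSylowIn p P' K := by
  refine ⟨hP', hle, ?_⟩
  have h1 : P.relIndex K * Nat.card P = Nat.card K := by
    rw [Subgroup.relIndex, mul_comm]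
    rw [← Nat.card_congr (Subgroup.subgroupOfEquivOfLe h.2.1).toEquiv]
    exact Subgroup.card_mul_index _
  have h2 : P'.relIndex K * Nat.card P' = Nat.card K := by
    rw [Subgroup.relIndex, mul_comm]
    rw [← Nat.card_congr (Subgroup.subgroupOfEquivOfLe hle).toEquiv]
    exact Subgroup.card_mul_index _
  have hpos : 0 < Nat.card P := Nat.card_pos
  have h3 : P'.relIndex K = P.relIndex K := by
    apply Nat.eq_of_mul_eq_mul_right hpos
    rw [h1, ← h2, hc]
  rw [h3]
  exact h.2.2

/-- A Sylow subgroup of `K` conjugated by anything: if `x` conjugates `K` into `K'`... -/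
theorem isSylowIn_centralizer_conj {g u : G} {P : Subgroup G}
    (h : IsSylowIn p P (Subgroup.centralizer ({g} : Set G))) :
    IsSylowIn p (P.map (MulAut.conj u).toMonoidHom) (Subgroup.centralizer ({u * g * u⁻¹} : Set G)) := by
  rw [← centralizer_map_conj]
  exact h.conj u

theorem relIndex_mul_card {P K : Subgroup G} (h : P ≤ K) : P.relIndex K * Nat.card P = Nat.card K := by
  rw [Subgroup.relIndex, mul_comm]
  rw [← Nat.card_congr (Subgroup.subgroupOfEquivOfLe h).toEquiv]
  exact Subgroup.card_mul_index _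

theorem IsSylowIn.card_eq {P K : Subgroup G} (h : IsSylowIn p P K) :
    Nat.card P = p ^ (Nat.card K).factorization p := by
  obtain ⟨S, rfl⟩ := exists_sylow_of_isSylowIn h
  rw [Subgroup.card_map_of_injective K.subtype_injective]
  exact S.card_eq_multiplicity

/-- A `p`-subgroup whose order has the right exponent is Sylow. -/
theorem isSylowIn_of_card_eq {K P : Subgroup G} (hP : IsPGroup p P) (hle : P ≤ K)
    (hc : Nat.card P = p ^ (Nat.card K).factorization p) : IsSylowIn p P K := by
  obtain ⟨S, hS⟩ := exists_isSylowIn (p := p) K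
  exact isSylowIn_of_card hS hP hle (by rw [hc, hS.card_eq])

end Cfsg.Agent.Lib.BlkSylow
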