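import Mathlib
import Cfsg.Prelude.Def_Blocks
import Cfsg.Agent.Lib.BlkLink
import Cfsg.Agent.Lib.BlkFrob
import Cfsg.Agent.Lib.BlkSylow
import Cfsg.Agent.Lib.BlockOrtho
import Cfsg.Agent.Lib.BlockNormal
import Cfsg.Agent.Lib.BlockDefect
import Cfsg.Agent.Lib.PCore
import Cfsg.Agent.Lib.CharValues

/-!
# Defect groups: character values

`χ(xy) ≡ χ(y)` modulo `M` for `x` a `p`-element commuting with `y`.  Vanishing of characters on
sections missing the defect groups, height zero characters and defect classes.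
-/

set_option autoImplicit false
set_option linter.unusedSectionVars false
set_option linter.unusedVariables false
set_option linter.style.haveILetI false

namespace Cfsg.Agent.Lib.BlkDefect

open Cfsg Cfsg.Agent.Lib.CharBasic Cfsg.Agent.Lib.CharInd Cfsg.Agent.Lib.CharIntegrality
open Cfsg.Agent.Lib.BlockLocal Cfsg.Agent.Lib.BlockIdem Cfsg.Agent.Lib.BlkBasic
open Cfsg.Agent.Lib.BlkTrace Cfsg.Agent.Lib.BlkOrth Cfsg.Agent.Lib.BlkLink
open Cfsg.Agent.Lib.BlkFrob Cfsg.Agent.Lib.BlkSylow
open Cfsg.Agent.Lib.BlockVal Cfsg.Agent.Lib.BlockDefect Cfsg.Agent.Lib.BlockOrtho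
open Cfsg.Agent.Lib.CharKernel
open scoped ComplexConjugate

universe u

variable {G : Type u} [Group G] {p : ℕ} {M : Ideal AlgInt}

section Frobenius

theorem memLocalIdeal_of_pow [M.IsPrime] {z : ℂ} (hz : MemLocalRing M z) {n : ℕ}
    (h : MemLocalIdeal M (z ^ n)) : MemLocalIdeal M z := by
  by_contra hz'
  have h1 := memLocalRing_inv hz hz'
  have h2 : MemLocalIdeal M (z ^ n * (z⁻¹) ^ n) := memLocalIdeal_mul_right h (memLocalRing_pow h1 n)
  rw [← mul_pow, mul_inv_cancel₀ (ne_zero_of_not_memLocalIdeal hz'), one_pow] at h2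
  exact not_memLocalIdeal_one h2

theorem memLocalIdeal_natCast_prime (hM : IsPModular p M) : MemLocalIdeal M (p : ℂ) := by
  haveI := hM.2.1.isPrime
  have := memLocalIdeal_coe (M := M) hM.2.2
  simpa using this

theorem memLocalIdeal_pow_sub_pow [M.IsPrime] {a b : ℂ} (ha : MemLocalRing M a) (hb : MemLocalRing M b)
    (h : MemLocalIdeal M (a - b)) (n : ℕ) : MemLocalIdeal M (a ^ n - b ^ n) := by
  have h1 : a ^ n - b ^ n = (a - b) * ∑ i ∈ Finset.range n, a ^ i * b ^ (n - 1 - i) :=
    (Commute.all a b).mul_geom_sum₂ n |>.symm ▸ rfl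
  rw [h1]
  refine memLocalIdeal_mul_right h (memLocalRing_sum _ _ fun i _ => ?_)
  exact memLocalRing_mul (memLocalRing_pow ha _) (memLocalRing_pow hb _)

/-- The Frobenius congruence in the local ring, for subtraction. -/
theorem memLocalIdeal_sub_pow (hM : IsPModular p M) {a b : ℂ} (ha : MemLocalRing M a)
    (hb : MemLocalRing M b) : MemLocalIdeal M ((a - b) ^ p - (a ^ p - b ^ p)) := by
  haveI := hM.2.1.isPrime
  have hp := hM.1
  obtain ⟨r, hr, h⟩ := sum_pow_eq hp (Finset.univ : Finset (Fin 2)) ![a, -b] (localSubring M) (by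
    intro i _
    fin_cases i
    · exact ha
    · exact memLocalRing_neg hb)
  simp only [Fin.sum_univ_two, Matrix.cons_val_zero, Matrix.cons_val_one] at h
  have hpM := memLocalIdeal_natCast_prime hM
  have h1 : (a - b) ^ p = a ^ p + (-b) ^ p + (p : ℂ) * r := by
    rw [sub_eq_add_neg, h]
  have hneg : MemLocalIdeal M ((-b) ^ p + b ^ p) := by
    rcases hp.eq_two_or_odd' with h2 | h2
    · subst h2
      have : (-b) ^ 2 + b ^ 2 = ((2 : ℕ) : ℂ) * b ^ 2 := by push_cast; ring
      rw [this]
      exact memLocalIdeal_mul_right hpM (memLocalRing_pow hb 2)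
    · rw [h2.neg_pow]
      simp [memLocalIdeal_zero]
  have h3 : (a - b) ^ p - (a ^ p - b ^ p) = ((-b) ^ p + b ^ p) + (p : ℂ) * r := by
    rw [h1]; ring
  rw [h3]
  exact memLocalIdeal_add hneg (memLocalIdeal_mul_right hpM hr)

theorem memLocalIdeal_of_pow_sub_pow (hM : IsPModular p M) {a b : ℂ} (ha : MemLocalRing M a)
    (hb : MemLocalRing M b) (n : ℕ) (h : MemLocalIdeal M (a ^ p ^ n - b ^ p ^ n)) :
    MemLocalIdeal M (a - b) := by
  haveI := hM.2.1.isPrime
  induction n with
  | zero => simpa using h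
  | succ n ih =>
    apply ih
    have h1 := memLocalIdeal_sub_pow hM (memLocalRing_pow ha (p ^ n)) (memLocalRing_pow hb (p ^ n))
    have h2 : (a ^ p ^ n) ^ p - (b ^ p ^ n) ^ p = a ^ p ^ (n + 1) - b ^ p ^ (n + 1) := by
      rw [← pow_mul, ← pow_mul, pow_succ]
    rw [h2] at h1
    have h3 := memLocalIdeal_add h1 h
    rw [sub_add_cancel] at h3
    exact memLocalIdeal_of_pow (memLocalRing_sub (memLocalRing_pow ha _) (memLocalRing_pow hb _)) h3

variable [Finite G]

theorem char_pow_congr (hM : IsPModular p M) {χ : G → ℂ} (hχ : IsCharacter G χ) (g : G) :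
    MemLocalIdeal M (χ g ^ p - χ (g ^ p)) := by
  haveI := hM.2.1.isPrime
  obtain ⟨n, ρ, rfl⟩ := hχ
  obtain ⟨b, μ, h1, h2, h3, h4⟩ := CharValues.exists_eigenbasis_rep ρ g
  have hμ : ∀ i, μ i ∈ localSubring M := fun i =>
    memLocalRing_of_isIntegral (IsIntegral.of_pow Nat.card_pos (by rw [h2 i]; exact isIntegral_one))
  obtain ⟨r, hr, hsum⟩ := sum_pow_eq hM.1 Finset.univ μ (localSubring M) (fun i _ => hμ i)
  have h5 : ρ.character (g ^ p) = ∑ i, μ i ^ p := by
    have h6 : ∀ (k : ℕ) i, ρ (g ^ k) (b i) = μ i ^ k • b i := by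
      intro k i
      induction k with
      | zero => simp
      | succ k ih =>
        rw [pow_succ, map_mul, Module.End.mul_apply, h1 i, map_smul, ih, smul_smul, pow_succ, mul_comm]
    exact CharValues.trace_eq_sum_of_eigenbasis (ρ (g ^ p)) b (fun i => μ i ^ p) (h6 p)
  rw [h4, h5, hsum, add_sub_cancel_left]
  exact memLocalIdeal_mul_right (memLocalIdeal_natCast_prime hM) hr

theorem isIntegral_char' {χ : G → ℂ} (hχ : IsCharacter G χ) (g : G) : IsIntegral ℤ (χ g) :=
  isIntegral_char hχ g

theorem char_pow_pow_congr (hM : IsPModular p M) {χ : G → ℂ} (hχ : IsCharacter G χ) (g : G) (n : ℕ) :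
    MemLocalIdeal M (χ g ^ p ^ n - χ (g ^ p ^ n)) := by
  haveI := hM.2.1.isPrime
  have hR : ∀ u, MemLocalRing M (χ u) := fun u => memLocalRing_of_isIntegral (isIntegral_char hχ u)
  induction n with
  | zero => simpa using memLocalIdeal_zero (M := M)
  | succ n ih =>
    have h1 := memLocalIdeal_pow_sub_pow (memLocalRing_pow (hR g) _) (hR _) ih p
    have h2 := char_pow_congr hM hχ (g ^ p ^ n)
    have h3 := memLocalIdeal_add h1 h2
    have h4 : (χ g ^ p ^ n) ^ p - χ (g ^ p ^ n) ^ p + (χ (g ^ p ^ n) ^ p - χ ((g ^ p ^ n) ^ p)) =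
        χ g ^ p ^ (n + 1) - χ (g ^ p ^ (n + 1)) := by
      rw [← pow_mul, ← pow_mul, ← pow_succ]
      ring
    rwa [h4] at h3

/-- **Brauer's congruence**: `χ(xy) ≡ χ(y)` modulo `M` if `x` is a `p`-element commuting with `y`. -/
theorem char_mul_congr (hM : IsPModular p M) {χ : G → ℂ} (hχ : IsCharacter G χ) {x y : G}
    (hxy : Commute x y) {k : ℕ} (hx : x ^ p ^ k = 1) : MemLocalIdeal M (χ (x * y) - χ y) := by
  haveI := hM.2.1.isPrime
  have hR : ∀ u, MemLocalRing M (χ u) := fun u => memLocalRing_of_isIntegral (isIntegral_char hχ u)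
  apply memLocalIdeal_of_pow_sub_pow hM (hR _) (hR _) k
  have h1 := char_pow_pow_congr hM hχ (x * y) k
  have h2 := char_pow_pow_congr hM hχ y k
  have h3 : (x * y) ^ p ^ k = y ^ p ^ k := by
    rw [hxy.mul_pow, hx, one_mul]
  rw [h3] at h1
  have h4 := memLocalIdeal_sub h1 h2
  have h5 : χ (x * y) ^ p ^ k - χ (y ^ p ^ k) - (χ y ^ p ^ k - χ (y ^ p ^ k)) =
      χ (x * y) ^ p ^ k - χ y ^ p ^ k := by ring
  rwa [h5] at h4

end Frobenius

section Vanish

variable [Fintype G]

/-- A sum of `ψ g ψ g⁻¹` over a set of irreducible characters vanishes only if each term does. -/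
theorem eq_zero_of_finsum_mem_eq_zero {B : Set (IrrCharacter G)} {g : G}
    (h : ∑ᶠ χ ∈ B, (χ : G → ℂ) g * (χ : G → ℂ) g⁻¹ = 0) {χ : IrrCharacter G} (hχ : χ ∈ B) :
    (χ : G → ℂ) g = 0 := by
  classical
  rw [finsum_mem_eq_sum_blkInd] at h
  have h1 : ∀ ψ : IrrCharacter G, blkInd B ψ * ((ψ : G → ℂ) g * (ψ : G → ℂ) g⁻¹) =
      ((@ite ℝ (ψ ∈ B) (Classical.propDecidable _) (Complex.normSq ((ψ : G → ℂ) g)) 0 : ℝ) : ℂ) := by
    intro ψ
    rw [← char_conj_eq_inv (IsIrrCharacter.isCharacter ψ.2), Complex.mul_conj]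
    by_cases hψ : ψ ∈ B
    · rw [blkInd_of_mem hψ, if_pos hψ, one_mul]
    · rw [blkInd_of_not_mem hψ, if_neg hψ, zero_mul]; simp
  simp_rw [h1] at h
  rw [← Complex.ofReal_sum] at h
  have h2 : ∑ ψ : IrrCharacter G, @ite ℝ (ψ ∈ B) (Classical.propDecidable _) (Complex.normSq ((ψ : G → ℂ) g)) 0 = 0 := by
    exact_mod_cast h
  have h3 := (Finset.sum_eq_zero_iff_of_nonneg (fun ψ _ => by
    split_ifs
    · exact Complex.normSq_nonneg _
    · exact le_refl _)).mp h2 χ (Finset.mem_univ _)
  rw [if_pos hχ] at h3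
  exact Complex.normSq_eq_zero.mp h3

/-- **Vanishing on sections**: if the `p`-part of `g` lies in no defect group of `B` then every
member of `B` vanishes at `g`. -/
theorem char_eq_zero_of_not_mem_defect [hp : Fact p.Prime] (hM : IsPModular p M)
    {B : Set (IrrCharacter G)} (hB : IsPBlock M B) {g x : G} (hx : IsPPart p g x)
    (hD : ∀ D : Subgroup G, IsDefectGroup p M B D → x ∉ D) {χ : IrrCharacter G} (hχ : χ ∈ B) :
    (χ : G → ℂ) g = 0 := by
  classical
  haveI := hM.2.1.isPrime
  apply eq_zero_of_finsum_mem_eq_zero (B := B) (g := g) _ hχ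
  rw [← sum_blockCoeff_conj]
  obtain ⟨D, hDD⟩ := exists_isDefectGroup hM hB
  have hcomm := pPart_commute hM.1 hx
  refine trace_lemma hM (blockCoeff B) (memLocalRing_blockCoeff hB) (conv_blockCoeff B) g g
    (fun t => ?_) (Subgroup.centralizer ({x} : Set G) : Set G) (fun y => ?_) (fun y hy k hk => ?_)
    (fun u hu v hv => ?_)
  · have := BlkBasic.blockCoeff_isClassFunction B t g⁻¹
    simpa using this
  · have hgC : g ∈ Subgroup.centralizer ({x} : Set G) := Subgroup.mem_centralizer_singleton_iff.mpr hcomm.eq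
    constructor
    · intro h
      have := (Subgroup.centralizer ({x} : Set G)).mul_mem
        ((Subgroup.centralizer ({x} : Set G)).mul_mem hgC h) ((Subgroup.centralizer ({x} : Set G)).inv_mem hgC)
      simpa [mul_assoc] using this
    · intro h
      exact (Subgroup.centralizer ({x} : Set G)).mul_mem
        ((Subgroup.centralizer ({x} : Set G)).mul_mem ((Subgroup.centralizer ({x} : Set G)).inv_mem hgC) h) hgC
  · by_contra hpk
    obtain ⟨N, h1, -⟩ := exists_exponent_pParts hM.1 hx hx hpk
    apply hy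
    have h2 : g ^ k * y = y * g ^ k := by
      calc g ^ k * y = g ^ k * ((g ^ k)⁻¹ * y * g ^ k) := by rw [hk]
        _ = y * g ^ k := by group
    rw [SetLike.mem_coe, Subgroup.mem_centralizer_singleton_iff, ← h1, pow_mul]
    exact ((Commute.pow_right (show Commute y (g ^ k) from h2.symm) N)).eq
  · by_contra hcon
    have hc : u * v⁻¹ ∈ Subgroup.centralizer ({x} : Set G) :=
      (Subgroup.centralizer ({x} : Set G)).mul_mem hu ((Subgroup.centralizer ({x} : Set G)).inv_mem hv)
    have hL := IsDefectGroup.sylow_conj hM hB hDD hcon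
    -- the cyclic group generated by `x`
    obtain ⟨y, -, -, ⟨a, ha⟩, -⟩ := hx
    have hzp : IsPGroup p (Subgroup.zpowers x) := by
      apply IsPGroup.of_card (n := a)
      rw [Nat.card_zpowers, ha]
    have hzle : Subgroup.zpowers x ≤ Subgroup.centralizer ({u * v⁻¹} : Set G) := by
      rw [Subgroup.zpowers_le, Subgroup.mem_centralizer_singleton_iff]
      exact (Subgroup.mem_centralizer_singleton_iff.mp hc).symm
    obtain ⟨t, ht⟩ := hL _ hzp hzle
    have hxD : t * x * t⁻¹ ∈ D := ht ⟨x, Subgroup.mem_zpowers x, rfl⟩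
    have h9 : x ∈ D.map (MulAut.conj t⁻¹).toMonoidHom := by
      rw [conj_mem_map]
      simpa using hxD
    exact hD _ (IsDefectGroup.conj hDD t⁻¹) h9

end Vanish

section Height

variable [Fintype G]

theorem sameBlock_of_mem' [M.IsPrime] {B : Set (IrrCharacter G)} (hB : IsPBlock M B)
    {χ ψ : IrrCharacter G} (hχ : χ ∈ B) (hψ : ψ ∈ B) : SameBlock M (χ : G → ℂ) (ψ : G → ℂ) :=
  sameBlock_of_mem hB hχ hψ

/-- The minimal exponent of the degrees in a block, from a defect class. -/
theorem sInf_eq_factorization_index [hp : Fact p.Prime] (hM : IsPModular p M)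
    {B : Set (IrrCharacter G)} (hB : IsPBlock M B) {y : G} (hy : IsDefectClass M B y) :
    sInf ((fun χ : IrrCharacter G => (charDegree (χ : G → ℂ)).factorization p) '' B) =
      (Subgroup.centralizer ({y} : Set G)).index.factorization p := by
  classical
  haveI := hM.2.1.isPrime
  obtain ⟨P⟩ : Nonempty (Sylow p (Subgroup.centralizer ({y} : Set G))) := inferInstance
  have hDG : IsDefectGroup p M B ((P : Subgroup (Subgroup.centralizer ({y} : Set G))).map
      (Subgroup.centralizer ({y} : Set G)).subtype) := ⟨y, hy, P, rfl⟩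
  have h1 := card_isDefectGroup hM hB hDG
  have h2 := (isSylowIn_of_sylow P).card_eq
  rw [h2] at h1
  have h3 := Nat.pow_right_injective hM.1.two_le h1
  unfold blockDefect at h3
  obtain ⟨χ₀, hχ₀B⟩ := id hB
  have hχ₀ : χ₀ ∈ B := by
    rw [hχ₀B]
    exact mem_blockOf_self χ₀
  set s := sInf ((fun χ : IrrCharacter G => (charDegree (χ : G → ℂ)).factorization p) '' B) with hs
  have h4 : s ≤ (charDegree (χ₀ : G → ℂ)).factorization p := Nat.sInf_le ⟨χ₀, hχ₀, rfl⟩
  have h5 : (charDegree (χ₀ : G → ℂ)).factorization p ≤ (Nat.card G).factorization p :=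
    (Nat.factorization_le_iff_dvd (charDegree_ne_zero χ₀.2) Nat.card_pos.ne').mpr
      (charDegree_dvd_card χ₀.2) p
  have h6 : (Nat.card G).factorization p = (Nat.card (Subgroup.centralizer ({y} : Set G))).factorization p +
      (Subgroup.centralizer ({y} : Set G)).index.factorization p := by
    rw [← Finsupp.add_apply, ← Nat.factorization_mul Nat.card_pos.ne' Subgroup.index_ne_zero_of_finite,
      Subgroup.card_mul_index]
  omega

theorem factorization_le_of_height_zero [hp : Fact p.Prime] (hM : IsPModular p M)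
    {B : Set (IrrCharacter G)} (hB : IsPBlock M B) {y : G} (hy : IsDefectClass M B y)
    {χ : IrrCharacter G} (h0 : blockHeight p B (χ : G → ℂ) = 0) :
    (charDegree (χ : G → ℂ)).factorization p ≤ (Subgroup.centralizer ({y} : Set G)).index.factorization p := by
  unfold blockHeight at h0
  rw [sInf_eq_factorization_index hM hB hy] at h0
  omega

theorem index_factorization_le [hp : Fact p.Prime] (hM : IsPModular p M)
    {B : Set (IrrCharacter G)} (hB : IsPBlock M B) {y : G} (hy : IsDefectClass M B y)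
    {χ : IrrCharacter G} (hχ : χ ∈ B) :
    (Subgroup.centralizer ({y} : Set G)).index.factorization p ≤ (charDegree (χ : G → ℂ)).factorization p := by
  rw [← sInf_eq_factorization_index hM hB hy]
  exact Nat.sInf_le ⟨χ, hχ, rfl⟩

theorem memLocalRing_index_div [hp : Fact p.Prime] (hM : IsPModular p M) {χ : IrrCharacter G} {n : ℕ}
    (h : (charDegree (χ : G → ℂ)).factorization p ≤ n.factorization p) (hn : n ≠ 0) :
    MemLocalRing M ((n : ℂ) / (χ : G → ℂ) 1) := by
  rw [one_eq_charDegree (IsIrrCharacter.isCharacter χ.2)]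
  apply memLocalRing_natCast_div_of_dvd hM (charDegree_ne_zero χ.2)
  exact (pow_dvd_pow p h).trans (Nat.ordProj_dvd _ _)

theorem memLocalRing_deg_div [hp : Fact p.Prime] (hM : IsPModular p M) {χ : IrrCharacter G} {n : ℕ}
    (h : n.factorization p ≤ (charDegree (χ : G → ℂ)).factorization p) (hn : n ≠ 0) :
    MemLocalRing M ((χ : G → ℂ) 1 / (n : ℂ)) := by
  rw [one_eq_charDegree (IsIrrCharacter.isCharacter χ.2)]
  apply memLocalRing_natCast_div_of_dvd hM hn
  exact (pow_dvd_pow p h).trans (Nat.ordProj_dvd _ _)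

theorem centralChar_eq_div_mul (χ : G → ℂ) (g : G) :
    centralChar χ g = ((Subgroup.centralizer ({g} : Set G)).index : ℂ) / χ 1 * χ g := by
  unfold centralChar; ring

/-- If `χ(1)` and the class of `y` have the same `p`-part of their order, `χ(y)` and the central
character at `y` are units simultaneously. -/
theorem memLocalIdeal_centralChar_of_char [hp : Fact p.Prime] (hM : IsPModular p M) {χ : IrrCharacter G}
    {y : G} (h : (charDegree (χ : G → ℂ)).factorization p ≤
      (Subgroup.centralizer ({y} : Set G)).index.factorization p)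
    (hy : MemLocalIdeal M ((χ : G → ℂ) y)) : MemLocalIdeal M (centralChar (χ : G → ℂ) y) := by
  haveI := hM.2.1.isPrime
  rw [centralChar_eq_div_mul]
  exact memLocalIdeal_mul_left (memLocalRing_index_div hM h Subgroup.index_ne_zero_of_finite) hy

theorem memLocalIdeal_char_of_centralChar [hp : Fact p.Prime] (hM : IsPModular p M) {χ : IrrCharacter G}
    {y : G} (h : (Subgroup.centralizer ({y} : Set G)).index.factorization p ≤
      (charDegree (χ : G → ℂ)).factorization p)
    (hy : MemLocalIdeal M (centralChar (χ : G → ℂ) y)) : MemLocalIdeal M ((χ : G → ℂ) y) := by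
  haveI := hM.2.1.isPrime
  have h1 := memLocalIdeal_mul_left (memLocalRing_deg_div hM h Subgroup.index_ne_zero_of_finite) hy
  have h2 : (χ : G → ℂ) 1 / ((Subgroup.centralizer ({y} : Set G)).index : ℂ) * centralChar (χ : G → ℂ) y =
      (χ : G → ℂ) y := by
    rw [centralChar_eq_div_mul]
    have h3 : (χ : G → ℂ) 1 ≠ 0 := irr_one_ne_zero' χ.2
    have h4 : ((Subgroup.centralizer ({y} : Set G)).index : ℂ) ≠ 0 := by
      exact_mod_cast Subgroup.index_ne_zero_of_finite
    field_simp
  rwa [h2] at h1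

theorem regular_of_isDefectClass (hM : IsPModular p M) {B : Set (IrrCharacter G)} (hB : IsPBlock M B)
    {y : G} (hy : IsDefectClass M B y) : ¬ p ∣ orderOf y := by
  haveI := hM.2.1.isPrime
  intro h
  apply hy.2.1
  rw [blockCoeff_eq_zero hM hB h]
  exact memLocalIdeal_zero

/-- Height zero characters take unit values on `p`-sections of a defect class. -/
theorem char_not_mem_of_height_zero [hp : Fact p.Prime] (hM : IsPModular p M)
    {B : Set (IrrCharacter G)} (hB : IsPBlock M B) {y : G} (hy : IsDefectClass M B y)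
    {χ : IrrCharacter G} (hχ : χ ∈ B) (h0 : blockHeight p B (χ : G → ℂ) = 0) {x : G}
    (hxy : Commute x y) {k : ℕ} (hx : x ^ p ^ k = 1) : ¬ MemLocalIdeal M ((χ : G → ℂ) (x * y)) := by
  haveI := hM.2.1.isPrime
  intro h
  have h1 := char_mul_congr hM (IsIrrCharacter.isCharacter χ.2) hxy hx
  have h2 := memLocalIdeal_sub h h1
  rw [sub_sub_cancel] at h2
  exact hy.2.2 χ hχ (memLocalIdeal_centralChar_of_char hM (factorization_le_of_height_zero hM hB hy h0) h2)

theorem pow_eq_one_of_mem_isPGroup {P : Subgroup G} (hP : IsPGroup p P) {x : G} (hx : x ∈ P) :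
    ∃ k : ℕ, x ^ p ^ k = 1 := by
  obtain ⟨k, hk⟩ := hP ⟨x, hx⟩
  exact ⟨k, by simpa [Subtype.ext_iff] using hk⟩

theorem exists_height_zero [hp : Fact p.Prime] (hM : IsPModular p M)
    {B : Set (IrrCharacter G)} (hB : IsPBlock M B) :
    ∃ χ ∈ B, blockHeight p B (χ : G → ℂ) = 0 := by
  haveI := hM.2.1.isPrime
  obtain ⟨χ₀, hχ₀B⟩ := id hB
  have hχ₀ : χ₀ ∈ B := by
    rw [hχ₀B]
    exact mem_blockOf_self χ₀
  have hne : ((fun χ : IrrCharacter G => (charDegree (χ : G → ℂ)).factorization p) '' B).Nonempty :=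
    ⟨_, χ₀, hχ₀, rfl⟩
  obtain ⟨χ, hχ, h⟩ := Nat.sInf_mem hne
  refine ⟨χ, hχ, ?_⟩
  unfold blockHeight
  rw [← h]
  simp

/-- `y` is a power of `x * y` for `x` a `p`-element commuting with the `p`-regular `y`. -/
theorem centralizer_mul_le (hp : p.Prime) {x y : G} (hxy : Commute x y) {k : ℕ} (hx : orderOf x = p ^ k)
    (hy : ¬ p ∣ orderOf y) : Subgroup.centralizer ({x * y} : Set G) ≤ Subgroup.centralizer ({y} : Set G) := by
  intro c hc
  have h1 : IsPPart p (x * y) x := pPart_of_mul hxy ⟨k, hx⟩ hy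
  obtain ⟨N, hN⟩ := pPart_exists_pow hp h1
  have h2 : Commute c (x * y) := Subgroup.mem_centralizer_singleton_iff.mp hc
  have h3 : Commute c x := by
    rw [← hN]
    exact h2.pow_right N
  have h4 : Commute c y := by
    have h5 : y = x⁻¹ * (x * y) := by group
    rw [h5]
    exact h3.inv_right.mul_right h2
  exact Subgroup.mem_centralizer_singleton_iff.mpr h4.eq

/-- **Part (b)**: `x` central in a Sylow subgroup of the centralizer of the defect class `y`. -/
theorem centralChar_not_mem_of_center [hp : Fact p.Prime] (hM : IsPModular p M)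
    {B : Set (IrrCharacter G)} (hB : IsPBlock M B) {y : G} (hy : IsDefectClass M B y)
    {P : Subgroup G} (hP : IsSylowIn p P (Subgroup.centralizer ({y} : Set G))) {x : G} (hx : x ∈ P)
    (hz : ∀ w ∈ P, Commute x w) {χ : IrrCharacter G} (hχ : χ ∈ B) :
    ¬ MemLocalIdeal M (centralChar (χ : G → ℂ) (x * y)) := by
  classical
  haveI := hM.2.1.isPrime
  have hyreg := regular_of_isDefectClass hM hB hy
  have hxC : Commute x y := Subgroup.mem_centralizer_singleton_iff.mp (hP.2.1 hx)
  obtain ⟨k, hk⟩ := hP.1 ⟨x, hx⟩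
  have hk1 : x ^ p ^ k = 1 := by simpa [Subtype.ext_iff] using hk
  obtain ⟨j, hj⟩ : ∃ j, orderOf x = p ^ j := by
    have := (IsPGroup.iff_orderOf.mp hP.1) ⟨x, hx⟩
    simpa [Subgroup.orderOf_coe] using this
  have hle := centralizer_mul_le hM.1 hxC hj hyreg
  have hPle : P ≤ Subgroup.centralizer ({x * y} : Set G) := by
    intro w hw
    rw [Subgroup.mem_centralizer_singleton_iff]
    have h1 : Commute w y := Subgroup.mem_centralizer_singleton_iff.mp (hP.2.1 hw)
    exact ((hz w hw).symm.mul_right h1).eq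
  -- `P` is Sylow in the smaller centralizer
  have hfac : (Nat.card (Subgroup.centralizer ({x * y} : Set G))).factorization p =
      (Nat.card (Subgroup.centralizer ({y} : Set G))).factorization p := by
    apply le_antisymm
    · exact (Nat.factorization_le_iff_dvd Nat.card_pos.ne' Nat.card_pos.ne').mpr (Subgroup.card_dvd_of_le hle) p
    · have h1 : Nat.card P ∣ Nat.card (Subgroup.centralizer ({x * y} : Set G)) := Subgroup.card_dvd_of_le hPle
      rw [hP.card_eq] at h1
      exact (hM.1.pow_dvd_iff_le_factorization Nat.card_pos.ne').mp h1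
  have hidx : (Subgroup.centralizer ({x * y} : Set G)).index.factorization p =
      (Subgroup.centralizer ({y} : Set G)).index.factorization p := by
    have h6 : ∀ z : G, (Nat.card G).factorization p = (Nat.card (Subgroup.centralizer ({z} : Set G))).factorization p +
        (Subgroup.centralizer ({z} : Set G)).index.factorization p := by
      intro z
      rw [← Finsupp.add_apply, ← Nat.factorization_mul Nat.card_pos.ne' Subgroup.index_ne_zero_of_finite,
        Subgroup.card_mul_index]
    have h7 := h6 (x * y)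
    have h8 := h6 y
    omega
  obtain ⟨χ₀, hχ₀, h0⟩ := exists_height_zero hM hB
  intro hcon
  have h1 : MemLocalIdeal M (centralChar (χ₀ : G → ℂ) (x * y)) := by
    have h2 := sameBlock_of_mem hB hχ₀ hχ (x * y)
    have h3 := memLocalIdeal_add h2 hcon
    rwa [sub_add_cancel] at h3
  have h4 : (Subgroup.centralizer ({x * y} : Set G)).index.factorization p ≤
      (charDegree (χ₀ : G → ℂ)).factorization p := by
    rw [hidx]
    exact index_factorization_le hM hB hy hχ₀
  exact char_not_mem_of_height_zero hM hB hy hχ₀ h0 hxC hk1 (memLocalIdeal_char_of_centralChar hM h4 h1)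

end Height

end Cfsg.Agent.Lib.BlkDefect
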