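import Mathlib
import Cfsg.Agent.Lib.BlkDefect
import Cfsg.Agent.Lib.BlockInduced
import Cfsg.Agent.Lib.BrauerMap
import Cfsg.Agent.Lib.BlockSecond

/-!
# The Brauer homomorphism for subgroups between `P C(P)` and `N(P)`

Truncating a class function of `G` to `C_G(P)` gives a class function of `H`, multiplicative modulo `M`.
Composition with the central character of `ξ ∈ Irr H` is a ring homomorphism modulo `M`, so it is the central
character of a unique block of `G`: this is the block induced from `ξ`.
-/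

set_option autoImplicit false
set_option linter.unusedSectionVars false
set_option linter.unusedVariables false
set_option linter.style.haveILetI false

namespace Cfsg.Agent.Lib.BlkBrauer

open Cfsg Cfsg.Agent.Lib.CharBasic Cfsg.Agent.Lib.CharInd Cfsg.Agent.Lib.CharIntegrality
open Cfsg.Agent.Lib.BlockLocal Cfsg.Agent.Lib.BlockIdem Cfsg.Agent.Lib.BlkBasic
open Cfsg.Agent.Lib.BlkOrth Cfsg.Agent.Lib.BlkLink
open Cfsg.Agent.Lib.BlkFrob Cfsg.Agent.Lib.BlkSylow
open Cfsg.Agent.Lib.BlockVal Cfsg.Agent.Lib.BlockOrtho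
open Cfsg.Agent.Lib.BrauerMap
open scoped ComplexConjugate

universe u

section Abstract

variable {G : Type u} [Group G] [Fintype G] {p : ℕ} {M : Ideal AlgInt}

/-- Ring homomorphisms from the centre of `R G` modulo `M`. -/
structure IsBrauerHom (M : Ideal AlgInt) [M.IsPrime] (Λ : (IrrCharacter G → ℂ) → ℂ) : Prop where
  map_add : ∀ c d, Λ (c + d) = Λ c + Λ d
  map_smul : ∀ (r : ℂ) c, Λ (r • c) = r * Λ c
  map_one : Λ 1 = 1
  mem : ∀ c ∈ Zc (G := G) M, MemLocalRing M (Λ c)
  map_mul : ∀ c ∈ Zc (G := G) M, ∀ d ∈ Zc (G := G) M, MemLocalIdeal M (Λ (c * d) - Λ c * Λ d)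
  nil : ∀ c ∈ Zc (G := G) M, Cf M c → MemLocalIdeal M (Λ c)

namespace IsBrauerHom

variable [M.IsPrime] {Λ : (IrrCharacter G → ℂ) → ℂ} (hΛ : IsBrauerHom M Λ)

include hΛ

theorem map_zero' : Λ 0 = 0 := by
  have h := hΛ.map_smul 0 0
  simpa using h

theorem map_sub (c d) : Λ (c - d) = Λ c - Λ d := by
  have h1 := hΛ.map_add (c - d) d
  rw [sub_add_cancel] at h1
  rw [h1]
  ring

theorem map_sum' {ι : Type*} (s : Finset ι) (f : ι → IrrCharacter G → ℂ) :
    Λ (∑ i ∈ s, f i) = ∑ i ∈ s, Λ (f i) := by
  classical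
  induction s using Finset.induction_on with
  | empty => simpa using hΛ.map_zero'
  | insert a s ha ih => rw [Finset.sum_insert ha, Finset.sum_insert ha, hΛ.map_add, ih]

theorem map_pow_sub {c} (hc : c ∈ Zc (G := G) M) (n : ℕ) :
    MemLocalIdeal M (Λ (c ^ n) - Λ c ^ n) := by
  induction n with
  | zero =>
    rw [pow_zero, pow_zero, hΛ.map_one, sub_self]
    exact memLocalIdeal_zero
  | succ n ih =>
    have hpow : c ^ n ∈ Zc (G := G) M := (Zc M).pow_mem hc n
    have h1 := hΛ.map_mul c hc (c ^ n) hpow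
    have h2 := memLocalIdeal_mul_left (hΛ.mem c hc) ih
    have h3 := memLocalIdeal_add h1 h2
    rw [pow_succ', pow_succ']
    convert h3 using 1
    ring

/-- An element with all central characters in `M` is sent into `M`. -/
theorem mem_of_forall (hM : IsPModular p M) {c} (hc : c ∈ Zc (G := G) M)
    (h : ∀ θ, MemLocalIdeal M (c θ)) : MemLocalIdeal M (Λ c) := by
  classical
  obtain ⟨N, hN⟩ := Cf_pow_large hM h
  have h1 := hN (N + 1) (Nat.le_succ N)
  have h2 := hΛ.nil _ ((Zc M).pow_mem hc (N + 1)) h1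
  have h3 := hΛ.map_pow_sub hc (N + 1)
  have h4 := memLocalIdeal_sub h2 h3
  rw [sub_sub_cancel] at h4
  exact Cfsg.Agent.Lib.BlkDefect.memLocalIdeal_of_pow (hΛ.mem c hc) h4

/-- Some block is not killed. -/
theorem exists_block : ∃ B : Set (IrrCharacter G), IsPBlock M B ∧ ¬ MemLocalIdeal M (Λ (blkInd B)) := by
  classical
  by_contra hcon
  push Not at hcon
  -- the sum over all blocks of the indicator functions
  let S : Finset (Set (IrrCharacter G)) := Finset.univ.image (fun χ : IrrCharacter G => blockOf M (χ : G → ℂ))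
  have hS : ∀ B ∈ S, IsPBlock M B := by
    intro B hB
    obtain ⟨χ, -, rfl⟩ := Finset.mem_image.mp hB
    exact ⟨χ, rfl⟩
  have hsum : ∑ B ∈ S, blkInd B = (1 : IrrCharacter G → ℂ) := by
    funext χ
    rw [Finset.sum_apply, Pi.one_apply]
    rw [Finset.sum_eq_single (blockOf M (χ : G → ℂ))]
    · exact blkInd_of_mem (mem_blockOf_self χ)
    · intro B hB hne
      apply blkInd_of_not_mem
      intro hχ
      apply hne
      obtain ⟨ψ, -, rfl⟩ := Finset.mem_image.mp hB
      exact (blockOf_eq_of_mem hχ).symm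
    · intro h
      exact absurd (Finset.mem_image_of_mem _ (Finset.mem_univ χ)) h
  have h1 : Λ 1 = ∑ B ∈ S, Λ (blkInd B) := by
    rw [← hsum, hΛ.map_sum']
  have h2 : MemLocalIdeal M (Λ 1) := by
    rw [h1]
    exact memLocalIdeal_sum _ _ fun B hB => hcon B (hS B hB)
  rw [hΛ.map_one] at h2
  exact not_memLocalIdeal_one h2

/-- The values on a block not killed are the central characters. -/
theorem sub_mem_of_block (hM : IsPModular p M) {B : Set (IrrCharacter G)} (hB : IsPBlock M B)
    (hnot : ¬ MemLocalIdeal M (Λ (blkInd B))) {χ : IrrCharacter G} (hχ : χ ∈ B) {c}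
    (hc : c ∈ Zc (G := G) M) : MemLocalIdeal M (Λ c - c χ) := by
  classical
  have hind : blkInd B ∈ Zc (G := G) M := blkInd_mem_Zc hB
  have hcχ : MemLocalRing M (c χ) := memLocalRing_of_mem_Zc hc χ
  have hconst : (fun _ : IrrCharacter G => c χ) ∈ Zc (G := G) M := const_mem_Zc hcχ
  have hsub : c - (fun _ : IrrCharacter G => c χ) ∈ Zc (G := G) M := (Zc M).sub_mem hc hconst
  set y : IrrCharacter G → ℂ := (c - (fun _ : IrrCharacter G => c χ)) * blkInd B with hy
  have hyZ : y ∈ Zc (G := G) M := (Zc M).mul_mem hsub hind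
  have hyI : ∀ θ, MemLocalIdeal M (y θ) := by
    intro θ
    simp only [hy, Pi.mul_apply, Pi.sub_apply]
    by_cases hθ : θ ∈ B
    · rw [blkInd_of_mem hθ, mul_one]
      apply memLocalIdeal_sub_of_mem_Zc hc
      exact Cfsg.Agent.Lib.BlockDefect.sameBlock_of_mem hB hθ hχ
    · rw [blkInd_of_not_mem hθ, mul_zero]
      exact memLocalIdeal_zero
  have h1 := hΛ.mem_of_forall hM hyZ hyI
  have h2 := hΛ.map_mul _ hsub _ hind
  have h3 : MemLocalIdeal M (Λ (c - fun _ : IrrCharacter G => c χ) * Λ (blkInd B)) := by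
    have h4 := memLocalIdeal_sub h1 h2
    rwa [sub_sub_cancel] at h4
  have h5 : MemLocalIdeal M (Λ (c - fun _ : IrrCharacter G => c χ)) :=
    memLocalIdeal_of_mul_right_unit h3 (hΛ.mem _ hind) hnot
  have h6 : Λ (c - fun _ : IrrCharacter G => c χ) = Λ c - c χ := by
    have : (fun _ : IrrCharacter G => c χ) = (c χ) • (1 : IrrCharacter G → ℂ) := by
      funext θ
      simp
    rw [hΛ.map_sub, this, hΛ.map_smul, hΛ.map_one, mul_one]
  rwa [h6] at h5

/-- A block not killed is sent to `1`. -/
theorem blkInd_sub_one (hM : IsPModular p M) {B : Set (IrrCharacter G)} (hB : IsPBlock M B)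
    (hnot : ¬ MemLocalIdeal M (Λ (blkInd B))) : MemLocalIdeal M (Λ (blkInd B) - 1) := by
  obtain ⟨χ, rfl⟩ := id hB
  have h := hΛ.sub_mem_of_block hM hB hnot (mem_blockOf_self χ) (blkInd_mem_Zc hB)
  rwa [blkInd_of_mem (mem_blockOf_self χ)] at h

/-- Uniqueness of the block not killed. -/
theorem block_unique (hM : IsPModular p M) {B B' : Set (IrrCharacter G)} (hB : IsPBlock M B)
    (hB' : IsPBlock M B') (hnot : ¬ MemLocalIdeal M (Λ (blkInd B)))
    (hnot' : ¬ MemLocalIdeal M (Λ (blkInd B'))) : B = B' := by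
  classical
  obtain ⟨χ, rfl⟩ := id hB
  have h1 := hΛ.sub_mem_of_block hM hB hnot (mem_blockOf_self χ) (blkInd_mem_Zc hB')
  by_contra hne
  have hχ : χ ∉ B' := by
    intro h
    apply hne
    obtain ⟨ψ, rfl⟩ := id hB'
    exact (blockOf_eq_of_mem h).symm.trans (by rfl) |>.symm ▸ by
      rw [blockOf_eq_of_mem h]
  rw [blkInd_of_not_mem hχ, sub_zero] at h1
  exact hnot' h1

end IsBrauerHom

end Abstract

section Trunc

variable {G : Type u} [Group G] {p : ℕ} {M : Ideal AlgInt}

/-- Membership in the centralizer is conjugation invariant for a normalizer element. -/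
theorem conj_mem_centralizer_of_mem_normalizer {P : Subgroup G} {h : G}
    (hh : h ∈ Subgroup.normalizer (P : Set G)) {x : G} (hx : x ∈ Subgroup.centralizer (P : Set G)) :
    h * x * h⁻¹ ∈ Subgroup.centralizer (P : Set G) := by
  rw [Subgroup.mem_centralizer_iff] at hx ⊢
  intro u hu
  have h1 : h⁻¹ * u * h ∈ P := by
    have h2 := (Subgroup.normalizer (P : Set G)).inv_mem hh
    rw [Subgroup.mem_normalizer_iff] at h2
    have := (h2 u).mp hu
    simpa using this
  have h3 := hx _ h1
  calc u * (h * x * h⁻¹) = h * ((h⁻¹ * u * h) * x) * h⁻¹ := by group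
    _ = h * (x * (h⁻¹ * u * h)) * h⁻¹ := by rw [h3]
    _ = h * x * h⁻¹ * u := by group

theorem conj_mem_centralizer_iff' {P : Subgroup G} {h : G}
    (hh : h ∈ Subgroup.normalizer (P : Set G)) {x : G} :
    h * x * h⁻¹ ∈ Subgroup.centralizer (P : Set G) ↔ x ∈ Subgroup.centralizer (P : Set G) := by
  refine ⟨fun hx => ?_, conj_mem_centralizer_of_mem_normalizer hh⟩
  have := conj_mem_centralizer_of_mem_normalizer ((Subgroup.normalizer (P : Set G)).inv_mem hh) hx
  simpa [mul_assoc] using this

/-- The truncation of a function on `G` to `C_G(P)`, as a function on `H`. -/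
noncomputable def trunc (P H : Subgroup G) (f : G → ℂ) : H → ℂ :=
  fun h => @ite ℂ ((h : G) ∈ Subgroup.centralizer (P : Set G)) (Classical.propDecidable _) (f h) 0

theorem trunc_of_mem {P H : Subgroup G} (f : G → ℂ) {h : H}
    (hh : (h : G) ∈ Subgroup.centralizer (P : Set G)) : trunc P H f h = f h := by
  unfold trunc
  rw [if_pos hh]

theorem trunc_of_not_mem {P H : Subgroup G} (f : G → ℂ) {h : H}
    (hh : (h : G) ∉ Subgroup.centralizer (P : Set G)) : trunc P H f h = 0 := by
  unfold trunc
  rw [if_neg hh]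

theorem trunc_isClassFunction {P H : Subgroup G} (hHN : H ≤ Subgroup.normalizer (P : Set G))
    {f : G → ℂ} (hf : IsClassFunction G f) : IsClassFunction H (trunc P H f) := by
  intro g h
  by_cases hg : (g : G) ∈ Subgroup.centralizer (P : Set G)
  · rw [trunc_of_mem f hg, trunc_of_mem f]
    · exact hf (g : G) (h : G)
    · exact conj_mem_centralizer_of_mem_normalizer (hHN h.2) hg
  · rw [trunc_of_not_mem f hg, trunc_of_not_mem f]
    intro h1
    exact hg ((conj_mem_centralizer_iff' (hHN h.2)).mp h1)

theorem trunc_memLocalRing [M.IsPrime] {P H : Subgroup G} {f : G → ℂ} (hf : ∀ x, MemLocalRing M (f x))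
    (h : H) : MemLocalRing M (trunc P H f h) := by
  unfold trunc
  split_ifs
  · exact hf _
  · exact memLocalRing_zero

theorem trunc_memLocalIdeal [M.IsPrime] {P H : Subgroup G} {f : G → ℂ} (hf : ∀ x, MemLocalIdeal M (f x))
    (h : H) : MemLocalIdeal M (trunc P H f h) := by
  unfold trunc
  split_ifs
  · exact hf _
  · exact memLocalIdeal_zero

variable [Fintype G] [hp : Fact p.Prime] {P H : Subgroup G}

theorem trunc_delta : trunc P H (delta : G → ℂ) = (delta : H → ℂ) := by
  classical
  funext h
  by_cases hh : h = 1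
  · subst hh
    rw [trunc_of_mem _ ((Subgroup.centralizer (P : Set G)).one_mem)]
    simp [delta]
  · have h1 : (h : G) ≠ 1 := fun h2 => hh (Subtype.ext h2)
    unfold trunc delta
    split_ifs <;> simp_all

theorem normal_subgroupOf (hPH : P ≤ H) (hHN : H ≤ Subgroup.normalizer (P : Set G)) :
    (P.subgroupOf H).Normal := by
  constructor
  intro x hx h
  rw [Subgroup.mem_subgroupOf] at hx ⊢
  have := (Subgroup.mem_normalizer_iff.mp (hHN h.2) (x : G)).mp hx
  simpa using this

theorem centralizer_subgroupOf_iff (hPH : P ≤ H) (h : H) :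
    h ∈ Subgroup.centralizer ((P.subgroupOf H : Subgroup H) : Set H) ↔
      (h : G) ∈ Subgroup.centralizer (P : Set G) := by
  rw [Subgroup.mem_centralizer_iff, Subgroup.mem_centralizer_iff]
  constructor
  · intro h1 u hu
    have := h1 ⟨u, hPH hu⟩ (by simpa [Subgroup.mem_subgroupOf] using hu)
    exact congrArg Subtype.val this
  · intro h1 u hu
    apply Subtype.ext
    exact h1 u hu

variable [Fintype H]

/-- Elements of `H` outside `C_G(P)` do not contribute modulo `M`. -/
theorem omega_res_sub_trunc (hM : IsPModular p M) (hP : IsPGroup p P) (hPH : P ≤ H)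
    (hHN : H ≤ Subgroup.normalizer (P : Set G)) {f : G → ℂ} (hf : IsClassFunction G f)
    (hR : ∀ x, MemLocalRing M (f x)) (ξ : IrrCharacter H) :
    MemLocalIdeal M (omega (ξ : H → ℂ) (fun h => f h) - omega (ξ : H → ℂ) (trunc P H f)) := by
  classical
  haveI := hM.2.1.isPrime
  letI : Fintype (ConjClasses H) := Fintype.ofFinite _
  letI : Fintype (P.subgroupOf H) := Fintype.ofFinite _
  haveI := normal_subgroupOf hPH hHN
  have hP' : IsPGroup p (P.subgroupOf H) := IsPGroup.comap_of_injective hP H.subtype H.subtype_injective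
  have hf' : IsClassFunction H (fun h : H => f h) := fun g h => hf (g : G) (h : G)
  rw [omega_eq_sum_classes ξ hf', omega_eq_sum_classes ξ (trunc_isClassFunction hHN hf),
    ← Finset.sum_sub_distrib]
  refine memLocalIdeal_sum _ _ fun K _ => ?_
  by_cases hK : ((Quotient.out K : H) : G) ∈ Subgroup.centralizer (P : Set G)
  · rw [trunc_of_mem f hK, sub_self]
    exact memLocalIdeal_zero
  · rw [trunc_of_not_mem f hK, zero_mul, sub_zero]
    refine memLocalIdeal_mul_left (hR _) ?_
    refine Cfsg.Agent.Lib.BlockNormal.memLocalIdeal_centralChar_of_not_mem (P.subgroupOf H) hP' hM ξ _ ?_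
    rw [centralizer_subgroupOf_iff hPH]
    exact hK

/-- The truncation is multiplicative modulo `M`. -/
theorem trunc_conv_congr (hM : IsPModular p M) (hP : IsPGroup p P)
    (hCH : Subgroup.centralizer (P : Set G) ≤ H) {β γ : G → ℂ} (hβP : Inv P β) (hγP : Inv P γ)
    (hβR : ∀ x, MemLocalRing M (β x)) (hγR : ∀ x, MemLocalRing M (γ x)) (y : H) :
    MemLocalIdeal M (trunc P H (conv β γ) y - conv (trunc P H β) (trunc P H γ) y) := by
  classical
  haveI := hM.2.1.isPrime
  letI : Fintype (Subgroup.centralizer (P : Set G)) := Fintype.ofFinite _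
  by_cases hy : (y : G) ∈ Subgroup.centralizer (P : Set G)
  · have h1 := conv_resC_congr P hP hM hβP hγP hβR hγR ⟨y, hy⟩
    rw [trunc_of_mem _ hy]
    have h2 : conv (trunc P H β) (trunc P H γ) y = conv (resC _ β) (resC _ γ) (⟨y, hy⟩ : Subgroup.centralizer (P : Set G)) := by
      unfold conv
      symm
      refine Fintype.sum_of_injective (fun x : Subgroup.centralizer (P : Set G) => (⟨x, hCH x.2⟩ : H)) ?_ _ _ ?_ ?_
      · intro a b hab
        apply Subtype.ext
        exact congrArg (fun z : H => (z : G)) hab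
      · intro x hx
        have hx' : (x : G) ∉ Subgroup.centralizer (P : Set G) := by
          intro h3
          exact hx ⟨⟨x, h3⟩, rfl⟩
        rw [trunc_of_not_mem _ hx', zero_mul]
      · intro x
        have h4 : ((⟨x, hCH x.2⟩ : H) : G) ∈ Subgroup.centralizer (P : Set G) := x.2
        rw [trunc_of_mem _ h4, trunc_of_mem]
        · rfl
        · exact (Subgroup.centralizer (P : Set G)).mul_mem ((Subgroup.centralizer (P : Set G)).inv_mem x.2) hy
    rw [h2]
    exact h1
  · rw [trunc_of_not_mem _ hy, zero_sub]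
    have h2 : conv (trunc P H β) (trunc P H γ) y = 0 := by
      unfold conv
      refine Finset.sum_eq_zero fun x _ => ?_
      by_cases hx : (x : G) ∈ Subgroup.centralizer (P : Set G)
      · rw [trunc_of_not_mem γ, mul_zero]
        intro h3
        apply hy
        have := (Subgroup.centralizer (P : Set G)).mul_mem hx h3
        simpa using this
      · rw [trunc_of_not_mem _ hx, zero_mul]
    rw [h2, neg_zero]
    exact memLocalIdeal_zero

/-- The composition of the central character of `ξ` with the truncation. -/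
noncomputable def lam (P H : Subgroup G) [Fintype H] (ξ : IrrCharacter H) (c : IrrCharacter G → ℂ) : ℂ :=
  omega (ξ : H → ℂ) (trunc P H (invF c))

theorem trunc_add (f g : G → ℂ) : trunc P H (f + g) = trunc P H f + trunc P H g := by
  funext h
  by_cases hh : (h : G) ∈ Subgroup.centralizer (P : Set G)
  · simp [trunc_of_mem _ hh]
  · simp [trunc_of_not_mem _ hh]

theorem trunc_smul (r : ℂ) (f : G → ℂ) : trunc P H (r • f) = r • trunc P H f := by
  funext h
  by_cases hh : (h : G) ∈ Subgroup.centralizer (P : Set G)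
  · simp [trunc_of_mem _ hh]
  · simp [trunc_of_not_mem _ hh]

theorem isBrauerHom_lam [M.IsPrime] (hM : IsPModular p M) (hP : IsPGroup p P)
    (hCH : Subgroup.centralizer (P : Set G) ≤ H) (hHN : H ≤ Subgroup.normalizer (P : Set G))
    (ξ : IrrCharacter H) : IsBrauerHom M (lam P H ξ) where
  map_add c d := by
    unfold lam
    rw [invF_add, trunc_add, omega_add]
  map_smul r c := by
    unfold lam
    rw [invF_smul, trunc_smul, omega_smul]
  map_one := by
    unfold lam
    rw [invF_one, trunc_delta, omega_delta ξ.2]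
  mem c hc := by
    have h := memLocalRing_of_mem_Zc (mem_Zc_of_classFunction (M := M)
      (trunc_isClassFunction hHN (invF_isClassFunction c)) (trunc_memLocalRing hc)) ξ
    exact h
  map_mul c hc d hd := by
    unfold lam
    rw [invF_mul]
    rw [← omega_conv ξ.2 (trunc_isClassFunction hHN (invF_isClassFunction c))
      (trunc_isClassFunction hHN (invF_isClassFunction d))]
    refine memLocalIdeal_omega_sub H (trunc_isClassFunction hHN
      (conv_isClassFunction (invF_isClassFunction c) (invF_isClassFunction d)))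
      (conv_isClassFunction (trunc_isClassFunction hHN (invF_isClassFunction c))
        (trunc_isClassFunction hHN (invF_isClassFunction d))) ?_ ξ
    exact trunc_conv_congr hM hP hCH (inv_of_isClassFunction (invF_isClassFunction c) P)
      (inv_of_isClassFunction (invF_isClassFunction d) P) hc hd
  nil c hc hcf := memLocalIdeal_omega_of_values H (trunc_isClassFunction hHN (invF_isClassFunction c))
    (trunc_memLocalIdeal hcf) ξ

end Trunc

section Induced

variable {G : Type u} [Group G] [Fintype G] {p : ℕ} {M : Ideal AlgInt}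

theorem inducedCentralChar_sub_of_sameBlock [M.IsPrime] (H : Subgroup G) [Fintype H] {ξ ξ' : IrrCharacter H}
    (h : SameBlock M (ξ : H → ℂ) (ξ' : H → ℂ)) (g : G) :
    MemLocalIdeal M (inducedCentralChar H (ξ : H → ℂ) g - inducedCentralChar H (ξ' : H → ℂ) g) := by
  classical
  rw [inducedCentralChar_eq_omega, inducedCentralChar_eq_omega]
  have hcl : IsClassFunction H (fun h : H => (classIndicator g (h : G) : ℂ)) := by
    intro u c
    have := classIndicator_mem g (u : G) (c : G)
    simp only [Subgroup.coe_mul, InvMemClass.coe_inv]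
    rw [this]
  have hZ := mem_Zc_of_classFunction (M := M) hcl (fun _ => memLocalRing_intCast _)
  exact memLocalIdeal_sub_of_mem_Zc hZ h

/-- If the induced central character at `g` is not in the ideal, then some element of `H` conjugate
to `g` has central character outside the ideal. -/
theorem exists_of_inducedCentralChar [M.IsPrime] (H : Subgroup G) [Fintype H] (ξ : IrrCharacter H) {g : G}
    (h : ¬ MemLocalIdeal M (inducedCentralChar H (ξ : H → ℂ) g)) :
    ∃ u : H, IsConj g (u : G) ∧ ¬ MemLocalIdeal M (centralChar (ξ : H → ℂ) u) := by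
  classical
  letI : Fintype (ConjClasses H) := Fintype.ofFinite _
  by_contra hcon
  push Not at hcon
  apply h
  rw [inducedCentralChar_eq_omega]
  have hcl : IsClassFunction H (fun h : H => (classIndicator g (h : G) : ℂ)) := by
    intro u c
    have := classIndicator_mem g (u : G) (c : G)
    simp only [Subgroup.coe_mul, InvMemClass.coe_inv]
    rw [this]
  rw [omega_eq_sum_classes ξ hcl]
  refine memLocalIdeal_sum _ _ fun K _ => ?_
  by_cases hK : IsConj g ((Quotient.out K : H) : G)
  · exact memLocalIdeal_mul_left (memLocalRing_intCast _) (hcon _ hK)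
  · rw [classIndicator_of_not_conj hK]
    simpa using memLocalIdeal_zero (M := M)

variable [hp : Fact p.Prime] {P H : Subgroup G} [Fintype H]

theorem brauerCentralChar_eq_lam (ξ : IrrCharacter H) (g : G) :
    brauerCentralChar P H (ξ : H → ℂ) g =
      lam P H ξ (fun χ : IrrCharacter G => centralChar (χ : G → ℂ) g) := by
  classical
  unfold lam
  rw [invF_centralChar]
  unfold brauerCentralChar omega
  rw [finsum_mem_eq_sum_ite, Finset.sum_div]
  refine Finset.sum_congr rfl fun h _ => ?_
  by_cases hh : (h : G) ∈ Subgroup.centralizer (P : Set G)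
  · rw [trunc_of_mem _ hh]
    by_cases hc : IsConj g (h : G)
    · rw [if_pos (show h ∈ {h : H | IsConj g (h : G) ∧ (h : G) ∈ Subgroup.centralizer (P : Set G)} from ⟨hc, hh⟩)]
      simp [castFun, classIndicator_of_conj hc]
    · rw [if_neg (fun h1 => hc h1.1)]
      simp [castFun, classIndicator_of_not_conj hc]
  · rw [trunc_of_not_mem _ hh, if_neg (fun h1 => hh h1.2)]
    simp

/-- The induced and the Brauer central characters agree modulo `M`. -/
theorem induced_sub_brauer (hM : IsPModular p M) (hP : IsPGroup p P) (hPH : P ≤ H)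
    (hHN : H ≤ Subgroup.normalizer (P : Set G)) (ξ : IrrCharacter H) (g : G) :
    MemLocalIdeal M (inducedCentralChar H (ξ : H → ℂ) g - brauerCentralChar P H (ξ : H → ℂ) g) := by
  classical
  haveI := hM.2.1.isPrime
  have h := omega_res_sub_trunc hM hP hPH hHN (f := castFun (classIndicator g))
    (castFun_isClassFunction (classIndicator_mem g)) (fun _ => memLocalRing_intCast _) ξ
  rw [brauerCentralChar_eq_lam, inducedCentralChar_eq_omega]
  unfold lam
  rw [invF_centralChar]
  exact h

theorem brauer_sub_central_of_lam (hM : IsPModular p M) (hP : IsPGroup p P)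
    (hCH : Subgroup.centralizer (P : Set G) ≤ H) (hHN : H ≤ Subgroup.normalizer (P : Set G))
    (ξ : IrrCharacter H) {B : Set (IrrCharacter G)} (hB : IsPBlock M B)
    (hnot : ¬ MemLocalIdeal M (lam P H ξ (blkInd B))) {χ : IrrCharacter G} (hχ : χ ∈ B) (g : G) :
    MemLocalIdeal M (brauerCentralChar P H (ξ : H → ℂ) g - centralChar (χ : G → ℂ) g) := by
  haveI := hM.2.1.isPrime
  rw [brauerCentralChar_eq_lam]
  exact (isBrauerHom_lam hM hP hCH hHN ξ).sub_mem_of_block hM hB hnot hχ (centralChar_mem_Zc g)

/-- If `ξ` does not kill the idempotent of `B` then the block of `ξ` induces `B`. -/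
theorem isInducedBlock_of_lam (hM : IsPModular p M) (hP : IsPGroup p P) (hPH : P ≤ H)
    (hCH : Subgroup.centralizer (P : Set G) ≤ H) (hHN : H ≤ Subgroup.normalizer (P : Set G))
    (ξ : IrrCharacter H) {B : Set (IrrCharacter G)} (hB : IsPBlock M B)
    (hnot : ¬ MemLocalIdeal M (lam P H ξ (blkInd B))) :
    IsInducedBlock M H (blockOf M (ξ : H → ℂ)) B := by
  haveI := hM.2.1.isPrime
  refine ⟨⟨ξ, rfl⟩, hB, fun ξ' hξ' χ hχ g => ?_⟩
  have h1 := inducedCentralChar_sub_of_sameBlock (M := M) H hξ' g
  have h2 := induced_sub_brauer hM hP hPH hHN ξ g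
  have h3 := brauer_sub_central_of_lam hM hP hCH hHN ξ hB hnot hχ g
  have h4 := memLocalIdeal_add (memLocalIdeal_add (memLocalIdeal_neg h1) h2) h3
  convert h4 using 1
  ring

/-- A block of `H` between `P C(P)` and `N(P)` induces a block. -/
theorem exists_block_of_irr (hM : IsPModular p M) (hP : IsPGroup p P)
    (hCH : Subgroup.centralizer (P : Set G) ≤ H) (hHN : H ≤ Subgroup.normalizer (P : Set G))
    (ξ : IrrCharacter H) : ∃ B : Set (IrrCharacter G), IsPBlock M B ∧ ¬ MemLocalIdeal M (lam P H ξ (blkInd B)) := by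
  haveI := hM.2.1.isPrime
  exact (isBrauerHom_lam hM hP hCH hHN ξ).exists_block

/-- If the block of `ξ` induces `B` then `ξ` does not kill the idempotent of `B`. -/
theorem lam_not_mem_of_induced (hM : IsPModular p M) (hP : IsPGroup p P) (hPH : P ≤ H)
    (hHN : H ≤ Subgroup.normalizer (P : Set G)) {ξ : IrrCharacter H} {b : Set (IrrCharacter H)}
    {B : Set (IrrCharacter G)} (hind : IsInducedBlock M H b B) (hξ : ξ ∈ b) :
    ¬ MemLocalIdeal M (lam P H ξ (blkInd B)) := by
  classical
  haveI := hM.2.1.isPrime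
  obtain ⟨χ, hχB⟩ := id hind.2.1
  have hχ : χ ∈ B := by
    rw [hχB]
    exact mem_blockOf_self χ
  intro hcon
  have hcl := BlkBasic.blockCoeff_isClassFunction B
  have hR := memLocalRing_blockCoeff hind.2.1
  have h1 := Cfsg.Agent.Lib.BlockInduced.memLocalIdeal_trunc_sub H (ξ : H → ℂ) χ (hind.2.2 ξ hξ χ hχ) hcl hR
  have h2 := omega_res_sub_trunc hM hP hPH hHN hcl hR ξ
  unfold lam at hcon
  rw [← blockCoeff_eq_invF'] at hcon
  rw [omega_blockCoeff, blkInd_of_mem hχ] at h1
  have h3 := memLocalIdeal_add h2 hcon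
  rw [sub_add_cancel] at h3
  have h4 : ∑ h : H, blockCoeff B (h : G) * (ξ : H → ℂ) h / (ξ : H → ℂ) 1 = omega (ξ : H → ℂ) (fun h => blockCoeff B h) := by
    unfold omega
    rw [Finset.sum_div]
  rw [h4] at h1
  have h5 := memLocalIdeal_sub h3 h1
  rw [sub_sub_cancel] at h5
  exact not_memLocalIdeal_one h5

/-- The truncated idempotent detects blocks. -/
theorem exists_lam_not_mem (hM : IsPModular p M) (hP : IsPGroup p P)
    (hCH : Subgroup.centralizer (P : Set G) ≤ H) (hHN : H ≤ Subgroup.normalizer (P : Set G))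
    {B : Set (IrrCharacter G)} (hB : IsPBlock M B) {y : H}
    (hy : (y : G) ∈ Subgroup.centralizer (P : Set G)) (hyB : ¬ MemLocalIdeal M (blockCoeff B (y : G))) :
    ∃ ξ : IrrCharacter H, ¬ MemLocalIdeal M (lam P H ξ (blkInd B)) := by
  classical
  haveI := hM.2.1.isPrime
  by_contra hcon
  push Not at hcon
  apply hyB
  have hcl := BlkBasic.blockCoeff_isClassFunction B
  have hR := memLocalRing_blockCoeff hB
  have h1 := Cfsg.Agent.Lib.BlockSecond.memLocalIdeal_of_idem_of_omega (M := M)
    (v := trunc P H (blockCoeff B)) (trunc_isClassFunction hHN hcl) (trunc_memLocalRing hR) ?_ ?_ y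
  · rwa [trunc_of_mem _ hy] at h1
  · intro x
    have h2 := trunc_conv_congr hM hP hCH (inv_of_isClassFunction hcl P) (inv_of_isClassFunction hcl P) hR hR x
    rwa [conv_blockCoeff] at h2
  · intro ξ
    have := hcon ξ
    unfold lam at this
    rwa [← blockCoeff_eq_invF'] at this

end Induced

end Cfsg.Agent.Lib.BlkBrauer
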