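import Mathlib
import Cfsg.Agent.Lib.BlkBasic
import Cfsg.Agent.Lib.BlkOrth
import Cfsg.Agent.Lib.BlockOrtho
import Cfsg.Agent.Lib.BrauerPair
import Cfsg.Agent.Lib.CharClifford
import Cfsg.Agent.Lib.BlkBrauer

/-!
# Blocks and normal subgroups: constituents, orbits of characters, covering of blocks
-/

set_option autoImplicit false
set_option linter.unusedSectionVars false
set_option linter.unusedVariables false
set_option linter.style.haveILetI false

namespace Cfsg.Agent.Lib.BlkNormalSub

open Cfsg Cfsg.Agent.Lib.CharBasic Cfsg.Agent.Lib.CharInd Cfsg.Agent.Lib.CharIntegrality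
open Cfsg.Agent.Lib.BlockLocal Cfsg.Agent.Lib.BlockIdem
open Cfsg.Agent.Lib.BlkBasic Cfsg.Agent.Lib.CharInduction Cfsg.Agent.Lib.CharClifford
open Cfsg.Agent.Lib.BrauerPair
open scoped ComplexConjugate

universe u

variable {G : Type u} [Group G] [Fintype G]

/-- A central element acts on a character by its central character value. -/
theorem sum_mul_char_eq_omega_mul {χ : G → ℂ} (hχ : IsIrrCharacter G χ) {F : G → ℂ}
    (hF : IsClassFunction G F) (x : G) :
    ∑ z : G, F z * χ (z * x) = omega χ F * χ x := by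
  have hχ1 : χ 1 ≠ 0 := irr_one_ne_zero' hχ
  have hG : (Nat.card G : ℂ) ≠ 0 := natCard_ne_zero'
  have hc := IsIrrCharacter.isCharacter hχ
  have h1 : ∀ b : G, ∑ z : G, F z * χ (x * (b * z * b⁻¹)) = ∑ z : G, F z * χ (z * x) := by
    intro b
    refine Fintype.sum_equiv (MulAut.conj b).toEquiv _ _ fun z => ?_
    simp only [MulEquiv.toEquiv_eq_coe, EquivLike.coe_coe, MulAut.conj_apply]
    rw [hF z b, char_mul_comm' hc x]
  have h2 : (Nat.card G : ℂ) * ∑ z : G, F z * χ (z * x) =
      ∑ z : G, F z * ∑ b : G, χ (x * (b * z * b⁻¹)) := by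
    calc (Nat.card G : ℂ) * ∑ z : G, F z * χ (z * x)
        = ∑ b : G, ∑ z : G, F z * χ (x * (b * z * b⁻¹)) := by
          simp_rw [h1]
          rw [Finset.sum_const, Finset.card_univ, nsmul_eq_mul, Nat.card_eq_fintype_card]
      _ = _ := by
          rw [Finset.sum_comm]
          simp_rw [Finset.mul_sum]
  have h3 : χ 1 * ((Nat.card G : ℂ) * ∑ z : G, F z * χ (z * x)) =
      (Nat.card G : ℂ) * (∑ z : G, F z * χ z) * χ x := by
    rw [h2, Finset.mul_sum, Finset.mul_sum, Finset.sum_mul]
    refine Finset.sum_congr rfl fun z _ => ?_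
    have := Cfsg.Agent.Lib.CharAvg.irr_avg hχ x z
    linear_combination F z * this
  unfold omega
  have h4 : ∑ z : G, F z * χ (z * x) = (∑ z : G, F z * χ z) * χ x / χ 1 := by
    field_simp
    have h5 : (Nat.card G : ℂ) * (χ 1 * ∑ z : G, F z * χ (z * x)) =
        (Nat.card G : ℂ) * ((∑ z : G, F z * χ z) * χ x) := by
      linear_combination h3
    have := mul_left_cancel₀ hG h5
    linear_combination this
  rw [h4]
  ring

section Normal

variable (N : Subgroup G) (hN : N.Normal)

/-- Functions on a normal subgroup invariant under conjugation by the whole group. -/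
def GInv (f : N → ℂ) : Prop :=
  ∀ (g : G) (n : N), f ⟨g * n * g⁻¹, hN.conj_mem n n.2 g⟩ = f n

variable {N hN}

theorem GInv.isClassFunction {f : N → ℂ} (hf : GInv N hN f) : IsClassFunction N f := by
  intro n m
  have := hf (m : G) n
  exact this

theorem GInv.ext0 {f : N → ℂ} (hf : GInv N hN f) : IsClassFunction G (ext0 N f) := by
  intro x g
  by_cases hx : x ∈ N
  · have h1 : g * x * g⁻¹ ∈ N := hN.conj_mem x hx g
    rw [ext0_of_mem N f h1, ext0_of_mem N f hx]
    exact hf g ⟨x, hx⟩
  · have h1 : g * x * g⁻¹ ∉ N := by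
      intro h
      apply hx
      have := hN.conj_mem _ h g⁻¹
      simpa [mul_assoc] using this
    rw [ext0_of_not_mem N f h1, ext0_of_not_mem N f hx]

variable (N hN)

/-- Conjugation of irreducible characters of a normal subgroup. -/
noncomputable def conjIrr (g : G) (ψ : IrrCharacter N) : IrrCharacter N :=
  ⟨conjBy N hN g ψ, isIrrCharacter_conjBy N hN g ψ.2⟩

@[simp] theorem conjIrr_coe (g : G) (ψ : IrrCharacter N) :
    (conjIrr N hN g ψ : N → ℂ) = conjBy N hN g ψ := rfl

theorem conjIrr_conjIrr (a b : G) (ψ : IrrCharacter N) :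
    conjIrr N hN b (conjIrr N hN a ψ) = conjIrr N hN (a * b) ψ :=
  Subtype.ext (conjBy_conjBy N hN a b ψ)

theorem conjIrr_one (ψ : IrrCharacter N) : conjIrr N hN 1 ψ = ψ :=
  Subtype.ext (conjBy_one N hN ψ)

theorem conjIrr_inv_conjIrr (g : G) (ψ : IrrCharacter N) :
    conjIrr N hN g⁻¹ (conjIrr N hN g ψ) = ψ := by
  rw [conjIrr_conjIrr, mul_inv_cancel, conjIrr_one]

theorem conjIrr_conjIrr_inv (g : G) (ψ : IrrCharacter N) :
    conjIrr N hN g (conjIrr N hN g⁻¹ ψ) = ψ := by
  rw [conjIrr_conjIrr, inv_mul_cancel, conjIrr_one]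

/-- Conjugation as a permutation of the irreducible characters. -/
noncomputable def conjEquiv (g : G) : IrrCharacter N ≃ IrrCharacter N where
  toFun := conjIrr N hN g
  invFun := conjIrr N hN g⁻¹
  left_inv := conjIrr_inv_conjIrr N hN g
  right_inv := conjIrr_conjIrr_inv N hN g

/-- Sets of irreducible characters stable under conjugation. -/
def Stable (S : Set (IrrCharacter N)) : Prop := ∀ g : G, ∀ ψ ∈ S, conjIrr N hN g ψ ∈ S

/-- The orbit of a set of irreducible characters under conjugation. -/
def orbitSet (T : Set (IrrCharacter N)) : Set (IrrCharacter N) :=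
  {ψ | ∃ g : G, conjIrr N hN g ψ ∈ T}

theorem subset_orbitSet (T : Set (IrrCharacter N)) : T ⊆ orbitSet N hN T :=
  fun ψ hψ => ⟨1, by rwa [conjIrr_one]⟩

theorem stable_orbitSet (T : Set (IrrCharacter N)) : Stable N hN (orbitSet N hN T) := by
  rintro g ψ ⟨h, hh⟩
  refine ⟨g⁻¹ * h, ?_⟩
  rw [conjIrr_conjIrr]
  simpa using hh

variable {N hN}

section FinN

variable [Fintype N]

theorem ginv_ec_conj (g : G) (ψ : IrrCharacter N) (n : N) :
    ec (ψ : N → ℂ) ⟨g * n * g⁻¹, hN.conj_mem n n.2 g⟩ = ec (conjIrr N hN g ψ : N → ℂ) n := by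
  unfold ec
  simp only [conjIrr_coe, conjBy_apply]
  have h1 : (⟨g * (1 : N) * g⁻¹, hN.conj_mem _ (1 : N).2 g⟩ : N) = 1 := by
    ext; simp
  have h2 : (⟨g * (n⁻¹ : N) * g⁻¹, hN.conj_mem _ (n⁻¹ : N).2 g⟩ : N) =
      (⟨g * n * g⁻¹, hN.conj_mem n n.2 g⟩ : N)⁻¹ := by
    ext; simp [mul_assoc]
  rw [h1, h2]

/-- The idempotent attached to a stable set is invariant. -/
theorem ginv_blockCoeff {S : Set (IrrCharacter N)} (hS : Stable N hN S) :
    GInv N hN (blockCoeff S) := by
  intro g n
  rw [blockCoeff_apply, blockCoeff_apply]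
  simp_rw [ginv_ec_conj]
  refine Fintype.sum_equiv (conjEquiv N hN g) _ _ fun ψ => ?_
  change _ = blkInd S (conjIrr N hN g ψ) * ec (conjIrr N hN g ψ : N → ℂ) n
  congr 1
  by_cases hψ : ψ ∈ S
  · rw [blkInd_of_mem hψ, blkInd_of_mem (hS g ψ hψ)]
  · rw [blkInd_of_not_mem hψ, blkInd_of_not_mem]
    intro h
    apply hψ
    have := hS g⁻¹ _ h
    rwa [conjIrr_inv_conjIrr] at this

/-- **Key formula**: a constituent of the restriction sees the same central character. -/
theorem omega_eq_of_constituent (χ : IrrCharacter G) (ψ : IrrCharacter N)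
    (hc : classInner (fun n : N => (χ : G → ℂ) n) (ψ : N → ℂ) ≠ 0) {f : N → ℂ}
    (hf : GInv N hN f) :
    omega (ψ : N → ℂ) f = omega (χ : G → ℂ) (ext0 N f) := by
  classical
  set R : N → ℂ := fun n : N => (χ : G → ℂ) n with hR
  set c := omega (χ : G → ℂ) (ext0 N f) with hcdef
  have hχc := IsIrrCharacter.isCharacter χ.2
  have hRc : IsClassFunction N R := isClassFunction_of_isCharacter (isCharacter_restrict N hχc)
  have hfc := hf.isClassFunction
  -- the action on the restriction
  have h1 : ∀ x : N, ∑ z : N, f z * R (z * x) = c * R x := by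
    intro x
    have h2 := sum_mul_char_eq_omega_mul χ.2 hf.ext0 (x : G)
    rw [← h2]
    have h3 := sum_subgroup_eq_sum' N (fun z : G => ext0 N f z * (χ : G → ℂ) (z * x))
      (fun y hy => by rw [ext0_of_not_mem N f hy, zero_mul])
    rw [← h3]
    refine Finset.sum_congr rfl fun z _ => ?_
    rw [ext0_coe]
    rfl
  have hexp := classFunction_eq_sum hRc
  have h4 : ∀ x : N, ∑ z : N, f z * R (z * x) =
      ∑ i : IrrCharacter N, (classInner R (i : N → ℂ) * omega (i : N → ℂ) f) * (i : N → ℂ) x := by
    intro x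
    have h5 : ∀ z : N, R (z * x) =
        ∑ i : IrrCharacter N, classInner R (i : N → ℂ) * (i : N → ℂ) (z * x) := by
      intro z
      conv_lhs => rw [hexp]
      simp [Finset.sum_apply]
    simp_rw [h5, Finset.mul_sum]
    rw [Finset.sum_comm]
    refine Finset.sum_congr rfl fun i _ => ?_
    have h6 := sum_mul_char_eq_omega_mul i.2 hfc x
    rw [mul_assoc, ← h6, Finset.mul_sum]
    refine Finset.sum_congr rfl fun z _ => ?_
    ring
  -- compare both expressions for the function, take the inner product with `ψ`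
  have h7 : (fun x : N => c * R x) = ∑ i : IrrCharacter N,
      (classInner R (i : N → ℂ) * omega (i : N → ℂ) f) • (i : N → ℂ) := by
    funext x
    rw [← h1 x, h4 x]
    simp [Finset.sum_apply]
  have h8 := congrArg (fun F : N → ℂ => classInner F (ψ : N → ℂ)) h7
  beta_reduce at h8
  rw [classInner_sum_left] at h8
  have h9 : (fun x : N => c * R x) = c • R := by
    funext x
    rfl
  rw [h9, classInner_smul_left] at h8
  rw [Finset.sum_eq_single ψ] at h8
  · rw [classInner_smul_left, classInner_irr_self ψ.2, mul_one] at h8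
    have : c = omega (ψ : N → ℂ) f := by
      have h10 : classInner R (ψ : N → ℂ) * (c - omega (ψ : N → ℂ) f) = 0 := by
        linear_combination h8
      rcases mul_eq_zero.mp h10 with h | h
      · exact absurd h hc
      · exact sub_eq_zero.mp h
    exact this.symm
  · intro i _ hi
    rw [classInner_smul_left,
      classInner_irr_ne i.2 ψ.2 (fun h => hi (Subtype.ext h)), mul_zero]
  · intro h
    exact absurd (Finset.mem_univ _) h

/-- The constituents of the restriction. -/
theorem exists_constituent (χ : IrrCharacter G) :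
    ∃ ψ : IrrCharacter N, classInner (fun n : N => (χ : G → ℂ) n) (ψ : N → ℂ) ≠ 0 := by
  by_contra hcon
  push Not at hcon
  have hχc := IsIrrCharacter.isCharacter χ.2
  have hRc : IsClassFunction N (fun n : N => (χ : G → ℂ) n) :=
    isClassFunction_of_isCharacter (isCharacter_restrict N hχc)
  have hexp := classFunction_eq_sum hRc
  simp_rw [hcon, zero_smul, Finset.sum_const_zero] at hexp
  have := congrFun hexp 1
  simp only [Pi.zero_apply, OneMemClass.coe_one] at this
  exact irr_one_ne_zero' χ.2 this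

/-- The value of the central character of `χ` on the extension of the idempotent of a stable set. -/
theorem omega_ext0_blockCoeff {S : Set (IrrCharacter N)} (hS : Stable N hN S) (χ : IrrCharacter G)
    (ψ : IrrCharacter N) (hc : classInner (fun n : N => (χ : G → ℂ) n) (ψ : N → ℂ) ≠ 0) :
    omega (χ : G → ℂ) (ext0 N (blockCoeff S)) = blkInd S ψ := by
  rw [← omega_eq_of_constituent χ ψ hc (ginv_blockCoeff hS), BlkBasic.omega_blockCoeff]

/-- The restricted class indicator is invariant. -/
theorem ginv_classIndicator (x : G) :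
    GInv N hN (fun h : N => (classIndicator x (h : G) : ℂ)) := by
  intro g n
  have : IsConj x (g * (n : G) * g⁻¹) ↔ IsConj x (n : G) := by
    constructor
    · intro h
      exact h.trans (isConj_iff.mpr ⟨g⁻¹, by group⟩)
    · intro h
      exact h.trans (isConj_iff.mpr ⟨g, rfl⟩)
  by_cases hx : IsConj x (n : G)
  · change ((classIndicator x (g * (n : G) * g⁻¹) : ℤ) : ℂ) = (classIndicator x (n : G) : ℤ)
    rw [classIndicator_of_conj hx, classIndicator_of_conj (this.mpr hx)]
  · change ((classIndicator x (g * (n : G) * g⁻¹) : ℤ) : ℂ) = (classIndicator x (n : G) : ℤ)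
    rw [classIndicator_of_not_conj hx, classIndicator_of_not_conj (fun h => hx (this.mp h))]

/-- The extension of a restricted class indicator, for elements of the normal subgroup. -/
theorem ext0_classIndicator (hN : N.Normal) (x : N) :
    ext0 N (fun h : N => (classIndicator (x : G) (h : G) : ℂ)) =
      fun y => (classIndicator (x : G) y : ℂ) := by
  funext y
  by_cases hy : y ∈ N
  · rw [ext0_of_mem N _ hy]
  · rw [ext0_of_not_mem N _ hy, classIndicator_of_not_conj]
    · simp
    · intro h
      apply hy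
      obtain ⟨c, hc⟩ := isConj_iff.mp h
      rw [← hc]
      exact hN.conj_mem _ x.2 c

/-- The central character and the induced central character of a constituent agree. -/
theorem centralChar_eq_induced_of_constituent (hN : N.Normal) (χ : IrrCharacter G) (ψ : IrrCharacter N)
    (hc : classInner (fun n : N => (χ : G → ℂ) n) (ψ : N → ℂ) ≠ 0) (x : N) :
    centralChar (χ : G → ℂ) (x : G) = inducedCentralChar N (ψ : N → ℂ) (x : G) := by
  rw [inducedCentralChar_eq_omega, omega_eq_of_constituent χ ψ hc (ginv_classIndicator (hN := hN) (x : G)),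
    ext0_classIndicator hN]
  exact (omega_classIndicator χ (x : G)).symm

/-- The difference of `omega`s as a sum over classes. -/
theorem omega_ext0_sub [Fintype (ConjClasses G)] (χ : IrrCharacter G) (θ : N → ℂ) {f : N → ℂ}
    (hf : GInv N hN f) :
    omega (χ : G → ℂ) (ext0 N f) - omega θ f =
      ∑ K : ConjClasses G, ext0 N f (Quotient.out K) *
        (centralChar (χ : G → ℂ) (Quotient.out K) - inducedCentralChar N θ (Quotient.out K)) := by
  classical
  rw [omega_eq_sum_classes χ hf.ext0]
  simp_rw [mul_sub]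
  rw [Finset.sum_sub_distrib]
  congr 1
  simp_rw [inducedCentralChar_eq_sum, Finset.mul_sum]
  rw [Finset.sum_comm]
  unfold omega
  rw [Finset.sum_div]
  refine Finset.sum_congr rfl fun n _ => ?_
  rw [Finset.sum_eq_single (ConjClasses.mk (n : G))]
  · have h1 : IsConj (Quotient.out (ConjClasses.mk (n : G))) (n : G) := by
      exact ConjClasses.mk_eq_mk_iff_isConj.mp (Quotient.out_eq _)
    obtain ⟨c, hc⟩ := isConj_iff.mp h1
    have h2 := hf.ext0 (Quotient.out (ConjClasses.mk (n : G))) c
    rw [hc, ext0_coe] at h2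
    rw [classIndicator_of_conj h1, ← h2]
    push_cast
    ring
  · intro K _ hK
    have h1 : ¬ IsConj (Quotient.out K) (n : G) := by
      intro h
      apply hK
      rw [← ConjClasses.mk_eq_mk_iff_isConj.mpr h]
      exact (Quotient.out_eq K).symm
    rw [classIndicator_of_not_conj h1]
    simp
  · intro h
    exact absurd (Finset.mem_univ _) h

/-- Congruences of central characters give congruences of `omega` on invariant functions. -/
theorem memLocalIdeal_omega_ext0_sub {M : Ideal AlgInt} [M.IsPrime] (χ : IrrCharacter G) (θ : N → ℂ)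
    {f : N → ℂ} (hf : GInv N hN f) (hloc : ∀ n, MemLocalRing M (f n))
    (h : ∀ n : N, MemLocalIdeal M (centralChar (χ : G → ℂ) (n : G) - inducedCentralChar N θ (n : G))) :
    MemLocalIdeal M (omega (χ : G → ℂ) (ext0 N f) - omega θ f) := by
  classical
  letI : Fintype (ConjClasses G) := Fintype.ofFinite _
  rw [omega_ext0_sub χ θ hf]
  refine memLocalIdeal_sum _ _ fun K _ => ?_
  by_cases hK : Quotient.out K ∈ N
  · rw [ext0_of_mem N f hK]
    exact memLocalIdeal_mul_left (hloc _) (h ⟨_, hK⟩)
  · rw [ext0_of_not_mem N f hK, zero_mul]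
    exact memLocalIdeal_zero

/-- Equality of central characters gives equality of `omega` on invariant functions. -/
theorem omega_ext0_eq (χ : IrrCharacter G) (θ : N → ℂ) {f : N → ℂ} (hf : GInv N hN f)
    (h : ∀ n : N, centralChar (χ : G → ℂ) (n : G) = inducedCentralChar N θ (n : G)) :
    omega (χ : G → ℂ) (ext0 N f) = omega θ f := by
  classical
  letI : Fintype (ConjClasses G) := Fintype.ofFinite _
  rw [← sub_eq_zero, omega_ext0_sub χ θ hf]
  refine Finset.sum_eq_zero fun K _ => ?_
  by_cases hK : Quotient.out K ∈ N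
  · rw [h ⟨_, hK⟩, sub_self, mul_zero]
  · rw [ext0_of_not_mem N f hK, zero_mul]

/-- `θ` is a constituent of the restriction of `χ` iff the central characters agree. -/
theorem constituent_iff (hN : N.Normal) (χ : IrrCharacter G) (θ : IrrCharacter N) :
    classInner (fun n : N => (χ : G → ℂ) n) (θ : N → ℂ) ≠ 0 ↔
      ∀ n : N, centralChar (χ : G → ℂ) (n : G) = inducedCentralChar N (θ : N → ℂ) (n : G) := by
  refine ⟨fun hc n => centralChar_eq_induced_of_constituent hN χ θ hc n, fun h => ?_⟩
  obtain ⟨ψ, hψ⟩ := exists_constituent (N := N) χ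
  have hS := stable_orbitSet N hN {θ}
  have h1 := omega_ext0_eq χ (θ : N → ℂ) (ginv_blockCoeff hS) h
  rw [omega_ext0_blockCoeff hS χ ψ hψ, BlkBasic.omega_blockCoeff,
    blkInd_of_mem (subset_orbitSet N hN {θ} (Set.mem_singleton θ))] at h1
  have h2 : ψ ∈ orbitSet N hN {θ} := by
    by_contra hcon
    rw [blkInd_of_not_mem hcon] at h1
    exact zero_ne_one h1
  obtain ⟨g, hg⟩ := h2
  rw [Set.mem_singleton_iff] at hg
  rw [← hg]
  intro h0
  apply hψ
  rw [conjIrr_coe, classInner_restrict_conjBy N hN g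
    (isClassFunction_of_isCharacter (IsIrrCharacter.isCharacter χ.2))] at h0
  exact h0

end FinN

end Normal

section BlockClosed

variable {H : Type u} [Group H] [Fintype H] {M : Ideal AlgInt}

/-- Unions of blocks. -/
def BlockClosed (M : Ideal AlgInt) (S : Set (IrrCharacter H)) : Prop :=
  ∀ ψ ∈ S, ∀ ψ' : IrrCharacter H, SameBlock M (ψ : H → ℂ) (ψ' : H → ℂ) → ψ' ∈ S

theorem blkInd_mem_Zc_of_closed [M.IsPrime] {S : Set (IrrCharacter H)} (hS : BlockClosed M S) :
    blkInd S ∈ Zc (G := H) M := by
  classical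
  have h1 : blkInd S = ∑ F : BlockT M H,
      @ite (IrrCharacter H → ℂ) (F.1 ⊆ S) (Classical.propDecidable _) (blkInd F.1) 0 := by
    funext χ
    rw [Finset.sum_apply, Finset.sum_eq_single (⟨blockOf M (χ : H → ℂ), ⟨χ, rfl⟩⟩ : BlockT M H)]
    · by_cases hχ : χ ∈ S
      · have h2 : blockOf M (χ : H → ℂ) ⊆ S := fun ψ hψ => hS χ hχ ψ hψ
        rw [if_pos h2, blkInd_of_mem hχ, blkInd_of_mem (mem_blockOf_self χ)]
      · have h2 : ¬ blockOf M (χ : H → ℂ) ⊆ S := fun h => hχ (h (mem_blockOf_self χ))
        rw [if_neg h2, blkInd_of_not_mem hχ]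
        rfl
    · intro F _ hF
      have h2 : χ ∉ F.1 := by
        intro hχ
        apply hF
        apply Subtype.ext
        rcases eq_or_disjoint_of_isPBlock F.2 (⟨χ, rfl⟩ : IsPBlock M (blockOf M (χ : H → ℂ))) with h | h
        · exact h
        · exact absurd (mem_blockOf_self χ) (Set.disjoint_left.1 h hχ)
      split_ifs with h3
      · exact blkInd_of_not_mem h2
      · rfl
    · intro h
      exact absurd (Finset.mem_univ _) h
  rw [h1]
  refine sum_mem fun F _ => ?_
  split_ifs with h3
  · exact blkInd_mem_Zc F.2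
  · exact zero_mem _

theorem memLocalRing_blockCoeff_of_closed [M.IsPrime] {S : Set (IrrCharacter H)}
    (hS : BlockClosed M S) (g : H) : MemLocalRing M (blockCoeff S g) := by
  rw [blockCoeff_eq_invF']
  exact blkInd_mem_Zc_of_closed hS g

theorem blockClosed_of_isPBlock [M.IsPrime] {S : Set (IrrCharacter H)} (hS : IsPBlock M S) : BlockClosed M S := by
  obtain ⟨χ, rfl⟩ := hS
  intro ψ hψ ψ' h
  exact sameBlock_trans hψ h

end BlockClosed

section Cover

variable {N : Subgroup G} {hN : N.Normal} [Fintype N] {M : Ideal AlgInt} {p : ℕ}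

theorem sameBlock_conjIrr {ψ ψ' : IrrCharacter N} (h : SameBlock M (ψ : N → ℂ) (ψ' : N → ℂ))
    (g : G) : SameBlock M (conjIrr N hN g ψ : N → ℂ) (conjIrr N hN g ψ' : N → ℂ) := by
  have := sameBlock_twist (CharInduction.conjAut N hN g).symm h
  exact this

theorem blockClosed_orbitSet {b : Set (IrrCharacter N)} (hb : BlockClosed M b) :
    BlockClosed M (orbitSet N hN b) := by
  rintro ψ ⟨g, hg⟩ ψ' h
  exact ⟨g, hb _ hg _ (sameBlock_conjIrr h g)⟩

/-- If a member of a block of `G` covers a member of a block of `N`, then the central characters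
of the blocks are congruent. -/
theorem memLocalIdeal_of_covers (hN : N.Normal) [M.IsPrime] {χ₀ χ : IrrCharacter G}
    {θ₀ θ : IrrCharacter N} (h1 : SameBlock M (χ₀ : G → ℂ) (χ : G → ℂ))
    (h2 : SameBlock M (θ₀ : N → ℂ) (θ : N → ℂ))
    (hc : classInner (fun n : N => (χ₀ : G → ℂ) n) (θ₀ : N → ℂ) ≠ 0) (n : N) :
    MemLocalIdeal M (centralChar (χ : G → ℂ) (n : G) - inducedCentralChar N (θ : N → ℂ) (n : G)) := by
  have h3 := memLocalIdeal_sub_comm (h1 (n : G))
  have h4 := Cfsg.Agent.Lib.BlkBrauer.inducedCentralChar_sub_of_sameBlock (M := M) N h2 (n : G)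
  rw [centralChar_eq_induced_of_constituent hN χ₀ θ₀ hc n] at h3
  exact memLocalIdeal_sub_trans h3 h4

/-- Under the congruences, all constituents lie in the orbit of the block. -/
theorem mem_orbitSet_of_congr (hN : N.Normal) [M.IsPrime] {b : Set (IrrCharacter N)}
    (hb : BlockClosed M b) {χ : IrrCharacter G} {θ : IrrCharacter N} (hθ : θ ∈ b)
    (h : ∀ n : N, MemLocalIdeal M (centralChar (χ : G → ℂ) (n : G) -
      inducedCentralChar N (θ : N → ℂ) (n : G))) {ψ : IrrCharacter N}
    (hc : classInner (fun n : N => (χ : G → ℂ) n) (ψ : N → ℂ) ≠ 0) : ψ ∈ orbitSet N hN b := by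
  have hS := stable_orbitSet N hN b
  have hcl := blockClosed_orbitSet (hN := hN) hb
  have h1 := memLocalIdeal_omega_ext0_sub (M := M) χ (θ : N → ℂ) (ginv_blockCoeff hS)
    (memLocalRing_blockCoeff_of_closed hcl) h
  rw [omega_ext0_blockCoeff hS χ ψ hc, BlkBasic.omega_blockCoeff,
    blkInd_of_mem (subset_orbitSet N hN b hθ)] at h1
  by_contra hcon
  rw [blkInd_of_not_mem hcon, zero_sub] at h1
  apply not_memLocalIdeal_one (M := M)
  simpa using memLocalIdeal_neg h1

/-- Constituents are preserved under conjugation. -/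
theorem constituent_conjIrr (hN : N.Normal) (χ : IrrCharacter G) (ψ : IrrCharacter N) (g : G)
    (hc : classInner (fun n : N => (χ : G → ℂ) n) (ψ : N → ℂ) ≠ 0) :
    classInner (fun n : N => (χ : G → ℂ) n) (conjIrr N hN g ψ : N → ℂ) ≠ 0 := by
  rw [conjIrr_coe, classInner_restrict_conjBy N hN g
    (isClassFunction_of_isCharacter (IsIrrCharacter.isCharacter χ.2))]
  exact hc

/-- Regular elements lie in subgroups of index a power of `p`. -/
theorem mem_of_regular_of_index [Fact p.Prime] (hidx : ∃ k : ℕ, N.index = p ^ k) {g : G}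
    (hN : N.Normal) (hg : ¬ p ∣ orderOf g) : g ∈ N := by
  obtain ⟨k, hk⟩ := hidx
  have h1 : g ^ (p ^ k) ∈ N := by
    rw [← hk]
    exact Subgroup.pow_index_mem N g
  have hcop : (p ^ k).Coprime (orderOf g) :=
    Nat.Coprime.pow_left _ ((Nat.Prime.coprime_iff_not_dvd Fact.out).mpr hg)
  obtain ⟨m, hm⟩ := exists_pow_eq_self_of_coprime hcop
  rw [← hm]
  exact N.pow_mem h1 m

/-- Over a normal subgroup of `p`-power index, covering determines the block. -/
theorem sameBlock_of_covers_of_index [Fact p.Prime] (hM : IsPModular p M) (hN : N.Normal)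
    (hidx : ∃ k : ℕ, N.index = p ^ k) {χ₁ χ₂ : IrrCharacter G} {θ₁ θ₂ : IrrCharacter N}
    (h : SameBlock M (θ₁ : N → ℂ) (θ₂ : N → ℂ))
    (h1 : classInner (fun n : N => (χ₁ : G → ℂ) n) (θ₁ : N → ℂ) ≠ 0)
    (h2 : classInner (fun n : N => (χ₂ : G → ℂ) n) (θ₂ : N → ℂ) ≠ 0) :
    SameBlock M (χ₁ : G → ℂ) (χ₂ : G → ℂ) := by
  classical
  haveI := hM.2.1.isPrime
  set B := blockOf M (χ₁ : G → ℂ) with hB
  have hBb : IsPBlock M B := ⟨χ₁, rfl⟩
  have hvan : ∀ x, x ∉ N → blockCoeff B x = 0 := by
    intro x hx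
    apply Cfsg.Agent.Lib.BlockOrtho.blockCoeff_eq_zero hM hBb
    by_contra hcon
    exact hx (mem_of_regular_of_index hidx hN hcon)
  set f : N → ℂ := BrauerMap.resC N (blockCoeff B) with hf
  have hcl := blockCoeff_isClassFunction B
  have hfG : GInv N hN f := fun g n => hcl (n : G) g
  have hext : ext0 N f = blockCoeff B := ext0_resC N hvan
  have hloc : ∀ n : N, MemLocalRing M (f n) := fun n => memLocalRing_blockCoeff hBb (n : G)
  have e1 := omega_eq_of_constituent χ₁ θ₁ h1 hfG
  have e2 := omega_eq_of_constituent χ₂ θ₂ h2 hfG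
  rw [hext, BlkBasic.omega_blockCoeff, blkInd_of_mem (mem_blockOf_self χ₁)] at e1
  rw [hext, BlkBasic.omega_blockCoeff] at e2
  have h3 := memLocalIdeal_sub_of_mem_Zc (mem_Zc_of_classFunction hfG.isClassFunction hloc) h
  beta_reduce at h3
  rw [e1, e2] at h3
  have : χ₂ ∈ B := by
    by_contra hcon
    rw [blkInd_of_not_mem hcon, sub_zero] at h3
    exact not_memLocalIdeal_one h3
  exact this

/-- Idempotents of sets of characters of a `p'`-group are local integers. -/
theorem memLocalRing_blockCoeff_of_coprime (hM : IsPModular p M) (hN' : ¬ p ∣ Nat.card N)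
    (S : Set (IrrCharacter N)) (n : N) : MemLocalRing M (blockCoeff S n) := by
  haveI := hM.2.1.isPrime
  rw [blockCoeff_apply]
  refine memLocalRing_sum _ _ fun χ _ => memLocalRing_mul ?_ ?_
  · unfold blkInd
    split_ifs
    · exact memLocalRing_one
    · exact memLocalRing_zero
  · unfold ec
    rw [div_eq_mul_inv]
    refine memLocalRing_mul (memLocalRing_of_isIntegral ?_) (memLocalRing_inv_natCast hM hN')
    exact (Cfsg.Agent.Lib.BlockVal.isIntegral_irr χ _).mul (Cfsg.Agent.Lib.BlockVal.isIntegral_irr χ _)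

/-- Over a normal `p'`-subgroup, constituents are the same in a block. -/
theorem constituent_of_sameBlock_of_coprime (hM : IsPModular p M) (hN : N.Normal)
    (hN' : ¬ p ∣ Nat.card N) {χ ψ : IrrCharacter G} (h : SameBlock M (χ : G → ℂ) (ψ : G → ℂ))
    {θ : IrrCharacter N} (hc : classInner (fun n : N => (χ : G → ℂ) n) (θ : N → ℂ) ≠ 0) :
    classInner (fun n : N => (ψ : G → ℂ) n) (θ : N → ℂ) ≠ 0 := by
  classical
  haveI := hM.2.1.isPrime
  obtain ⟨θ', hθ'⟩ := exists_constituent (N := N) ψ
  have hS := stable_orbitSet N hN {θ}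
  have hE := ginv_blockCoeff hS
  have hloc := memLocalRing_blockCoeff_of_coprime (M := M) hM hN' (orbitSet N hN {θ})
  have h1 := omega_ext0_blockCoeff hS χ θ hc
  have h2 := omega_ext0_blockCoeff hS ψ θ' hθ'
  have h3 := memLocalIdeal_sub_of_mem_Zc (mem_Zc_of_classFunction hE.ext0 (memLocalRing_ext0 N hloc)) h
  beta_reduce at h3
  rw [h1, h2, blkInd_of_mem (subset_orbitSet N hN {θ} (Set.mem_singleton θ))] at h3
  have h4 : θ' ∈ orbitSet N hN {θ} := by
    by_contra hcon
    rw [blkInd_of_not_mem hcon, sub_zero] at h3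
    exact not_memLocalIdeal_one h3
  obtain ⟨g, hg⟩ := h4
  rw [Set.mem_singleton_iff] at hg
  rw [← hg]
  exact constituent_conjIrr hN ψ θ' g hθ'

/-- Every irreducible character of a normal subgroup is covered. -/
theorem exists_cover (hN : N.Normal) (θ : IrrCharacter N) :
    ∃ χ : IrrCharacter G, classInner (fun n : N => (χ : G → ℂ) n) (θ : N → ℂ) ≠ 0 := by
  classical
  by_contra hcon
  push Not at hcon
  have h1 : IsClassFunction G (indFun N (θ : N → ℂ)) :=
    isClassFunction_of_isCharacter (indFun_isCharacter N (IsIrrCharacter.isCharacter θ.2))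
  have hexp := classFunction_eq_sum h1
  have h2 : ∀ χ : IrrCharacter G, classInner (indFun N (θ : N → ℂ)) (χ : G → ℂ) = 0 := by
    intro χ
    rw [frobenius N (θ : N → ℂ)
      (isClassFunction_of_isCharacter (IsIrrCharacter.isCharacter χ.2))]
    have h3 := hcon χ
    have h4 := congrArg (starRingEnd ℂ) h3
    rwa [classInner_conj_symm, map_zero] at h4
  simp_rw [h2, zero_smul, Finset.sum_const_zero] at hexp
  have h3 := congrFun hexp 1
  rw [indFun_one] at h3
  simp only [Pi.zero_apply, mul_eq_zero] at h3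
  rcases h3 with h3 | h3
  · have h4 := Subgroup.card_mul_index N
    have h5 : N.index = 0 := by exact_mod_cast h3
    rw [h5, mul_zero] at h4
    exact Nat.card_pos.ne' h4.symm
  · exact irr_one_ne_zero' θ.2 h3

/-- The trivial character of `N`. -/
noncomputable def oneIrr (N : Subgroup G) : IrrCharacter N := ⟨fun _ => 1, isIrrCharacter_one⟩

/-- If the trivial character is a constituent of the restriction, then `N` is in the kernel. -/
theorem eq_of_constituent_one (hN : N.Normal) (χ : IrrCharacter G)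
    (h : classInner (fun n : N => (χ : G → ℂ) n) (oneIrr N : N → ℂ) ≠ 0) (n : N) :
    (χ : G → ℂ) n = (χ : G → ℂ) 1 := by
  classical
  have hχc := IsIrrCharacter.isCharacter χ.2
  have hRc : IsClassFunction N (fun n : N => (χ : G → ℂ) n) :=
    isClassFunction_of_isCharacter (isCharacter_restrict N hχc)
  have hexp := classFunction_eq_sum hRc
  have h0 : ∀ i : IrrCharacter N, i ≠ oneIrr N →
      classInner (fun n : N => (χ : G → ℂ) n) (i : N → ℂ) = 0 := by
    intro i hi
    by_contra hne
    obtain ⟨g, hg⟩ := exists_conj_of_constituents N hN χ.2 (oneIrr N).2 i.2 h hne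
    apply hi
    apply Subtype.ext
    rw [hg]
    rfl
  have h1 : ∀ m : N, (χ : G → ℂ) m =
      classInner (fun n : N => (χ : G → ℂ) n) (oneIrr N : N → ℂ) := by
    intro m
    have h2 := congrFun hexp m
    rw [Finset.sum_apply, Finset.sum_eq_single (oneIrr N)] at h2
    · simpa [oneIrr] using h2
    · intro b _ hb
      simp [h0 b hb]
    · intro h3
      exact absurd (Finset.mem_univ _) h3
  have h2 := h1 1
  have h3 := h1 n
  rw [h3, ← h2]
  rfl

/-- If `N` is in the kernel then the trivial character is a constituent of the restriction. -/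
theorem constituent_one_of_forall (χ : IrrCharacter G)
    (h : ∀ n : N, (χ : G → ℂ) n = (χ : G → ℂ) 1) :
    classInner (fun n : N => (χ : G → ℂ) n) (oneIrr N : N → ℂ) ≠ 0 := by
  unfold classInner
  simp_rw [h]
  simp only [oneIrr, map_one, mul_one, Finset.sum_const, Finset.card_univ, nsmul_eq_mul]
  have h1 : ((Fintype.card N : ℕ) : ℂ) ≠ 0 := by
    exact_mod_cast Fintype.card_ne_zero
  have h2 := irr_one_ne_zero' χ.2
  have h3 : ((Nat.card N : ℕ) : ℂ) ≠ 0 := by
    rw [Nat.card_eq_fintype_card]; exact h1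
  simp [h1, h2]

end Cover

end Cfsg.Agent.Lib.BlkNormalSub
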