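import Mathlib
import Cfsg.Agent.Lib.BlkNormalSub
import Cfsg.Agent.Lib.CharKernel
import Cfsg.Agent.Lib.CharIto

/-!
# Blocks and quotient groups: inflation of characters
-/

set_option autoImplicit false
set_option linter.unusedSectionVars false
set_option linter.unusedVariables false
set_option linter.style.haveILetI false

namespace Cfsg.Agent.Lib.BlkQuot

open Cfsg Cfsg.Agent.Lib.CharBasic Cfsg.Agent.Lib.CharInd Cfsg.Agent.Lib.CharIntegrality
open Cfsg.Agent.Lib.BlockLocal Cfsg.Agent.Lib.BlockIdem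
open Cfsg.Agent.Lib.BlkBasic Cfsg.Agent.Lib.BlkOrth Cfsg.Agent.Lib.BlkNormalSub
open Cfsg.Agent.Lib.BlockOrtho
open scoped ComplexConjugate

universe u

variable {G : Type u} [Group G] {p : ℕ} {M : Ideal AlgInt}

/-- Blocks are determined by the regular classes. -/
theorem sameBlock_of_regular [Fintype G] (hM : IsPModular p M) {χ ψ : IrrCharacter G}
    (h : ∀ g : G, ¬ p ∣ orderOf g →
      MemLocalIdeal M (centralChar (χ : G → ℂ) g - centralChar (ψ : G → ℂ) g)) :
    SameBlock M (χ : G → ℂ) (ψ : G → ℂ) := by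
  classical
  haveI := hM.2.1.isPrime
  letI : Fintype (ConjClasses G) := Fintype.ofFinite _
  set B := blockOf M (χ : G → ℂ) with hBdef
  have hB : IsPBlock M B := ⟨χ, rfl⟩
  have h1 := omega_eq_sum_classes χ (blockCoeff_isClassFunction B)
  have h2 := omega_eq_sum_classes ψ (blockCoeff_isClassFunction B)
  rw [BlkBasic.omega_blockCoeff] at h1 h2
  rw [blkInd_of_mem (mem_blockOf_self χ)] at h1
  have h3 : MemLocalIdeal M (1 - blkInd B ψ) := by
    rw [h1, h2, ← Finset.sum_sub_distrib]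
    refine memLocalIdeal_sum _ _ fun K _ => ?_
    rw [← mul_sub]
    by_cases hK : p ∣ orderOf (Quotient.out K)
    · rw [BlockOrtho.blockCoeff_eq_zero hM hB hK, zero_mul]
      exact memLocalIdeal_zero
    · exact memLocalIdeal_mul_left (memLocalRing_blockCoeff hB _) (h _ hK)
  by_contra hcon
  have hψ : ψ ∉ B := hcon
  rw [blkInd_of_not_mem hψ, sub_zero] at h3
  exact not_memLocalIdeal_one h3

/-- The sum over a block of `χ(1)²` is nonzero. -/
theorem sum_blkInd_sq_ne_zero [Fintype G] {B : Set (IrrCharacter G)} {χ : IrrCharacter G}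
    (hχ : χ ∈ B) :
    ∑ ψ : IrrCharacter G, blkInd B ψ * ((ψ : G → ℂ) 1 * conj ((ψ : G → ℂ) 1)) ≠ 0 := by
  classical
  have h3 : ∑ ψ : IrrCharacter G, blkInd B ψ * ((ψ : G → ℂ) 1 * conj ((ψ : G → ℂ) 1)) =
      (((∑ ψ : IrrCharacter G, if ψ ∈ B then (charDegree (ψ : G → ℂ)) ^ 2 else 0) : ℕ) : ℂ) := by
    push_cast
    refine Finset.sum_congr rfl fun ψ _ => ?_
    rw [Cfsg.Agent.Lib.CharKernel.one_eq_charDegree (IsIrrCharacter.isCharacter ψ.2)]
    by_cases hψ : ψ ∈ B
    · rw [blkInd_of_mem hψ, if_pos hψ, one_mul]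
      simp [sq]
    · rw [blkInd_of_not_mem hψ, if_neg hψ, zero_mul]
  rw [h3]
  intro h0
  have h4 : (∑ ψ : IrrCharacter G, if ψ ∈ B then (charDegree (ψ : G → ℂ)) ^ 2 else 0) = 0 := by
    exact_mod_cast h0
  rw [Finset.sum_eq_zero_iff] at h4
  have h5 := h4 χ (Finset.mem_univ _)
  rw [if_pos hχ] at h5
  exact Cfsg.Agent.Lib.CharKernel.charDegree_ne_zero χ.2 (pow_eq_zero_iff (two_ne_zero) |>.mp h5)

/-- Every block contains a character whose kernel contains a given normal `p`-subgroup. -/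
theorem exists_mem_block_ker [Fintype G] (hM : IsPModular p M) {B : Set (IrrCharacter G)}
    (hB : IsPBlock M B) (P : Subgroup G) (hPn : P.Normal) (hP : IsPGroup p P) :
    ∃ χ ∈ B, ∀ u ∈ P, (χ : G → ℂ) u = (χ : G → ℂ) 1 := by
  classical
  letI : Fintype P := Fintype.ofFinite _
  haveI := hM.2.1.isPrime
  obtain ⟨χ₀, rfl⟩ := id hB
  have hχ₀ := mem_blockOf_self (M := M) χ₀
  set B := blockOf M (χ₀ : G → ℂ) with hBdef
  haveI : Fact p.Prime := ⟨hM.1⟩
  -- the double sum
  have h1 : ∀ u : P, u ≠ 1 → ∑ ψ : IrrCharacter G, blkInd B ψ *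
      ((ψ : G → ℂ) 1 * conj ((ψ : G → ℂ) u)) = 0 := by
    intro u hu
    have hreg : ¬ p ∣ orderOf (1 : G) := by
      rw [orderOf_one]
      exact fun h => hM.1.one_lt.ne' (Nat.dvd_one.mp h)
    have hsing : p ∣ orderOf ((u : P) : G) := by
      rw [Subgroup.orderOf_coe]
      obtain ⟨k, hk⟩ := hP u
      have h2 : orderOf u ∣ p ^ k := orderOf_dvd_of_pow_eq_one hk
      obtain ⟨j, -, hj⟩ := (Nat.dvd_prime_pow hM.1).mp h2
      rw [hj]
      have hj0 : j ≠ 0 := by
        rintro rfl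
        apply hu
        rw [pow_zero] at hj
        exact orderOf_eq_one_iff.mp hj
      exact dvd_pow_self p hj0
    have h3 := block_orth_weak hM hB hreg hsing
    rwa [finsum_mem_eq_sum_blkInd] at h3
  have h2 : ∑ u : P, ∑ ψ : IrrCharacter G, blkInd B ψ *
      ((ψ : G → ℂ) 1 * conj ((ψ : G → ℂ) u)) ≠ 0 := by
    rw [Finset.sum_eq_single (1 : P)]
    · simpa using sum_blkInd_sq_ne_zero hχ₀
    · intro u _ hu
      exact h1 u hu
    · intro h
      exact absurd (Finset.mem_univ _) h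
  rw [Finset.sum_comm] at h2
  obtain ⟨ψ, -, hψ⟩ := Finset.exists_ne_zero_of_sum_ne_zero h2
  have hψB : ψ ∈ B := by
    by_contra hcon
    apply hψ
    refine Finset.sum_eq_zero fun u _ => ?_
    rw [blkInd_of_not_mem hcon, zero_mul]
  refine ⟨ψ, hψB, fun u hu => ?_⟩
  have h3 : ∑ u : P, conj ((ψ : G → ℂ) u) ≠ 0 := by
    intro h0
    apply hψ
    simp_rw [← mul_assoc]
    rw [← Finset.mul_sum, h0, mul_zero]
  have h4 : classInner (fun n : P => (ψ : G → ℂ) n) (oneIrr P : P → ℂ) ≠ 0 := by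
    intro h0
    apply h3
    unfold classInner at h0
    simp only [oneIrr, map_one, mul_one] at h0
    have hc : (Nat.card P : ℂ) ≠ 0 := natCard_ne_zero'
    have h5 : ∑ u : P, (ψ : G → ℂ) u = 0 := by
      rcases mul_eq_zero.mp h0 with h6 | h6
      · simp at h6
      · exact h6
    rw [← map_sum, h5, map_zero]
  exact eq_of_constituent_one hPn ψ h4 ⟨u, hu⟩

section Infl

variable (N : Subgroup G) [N.Normal]

/-- The inflation of an irreducible character. -/
noncomputable def infl (χ : IrrCharacter (G ⧸ N)) : IrrCharacter G :=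
  ⟨(χ : G ⧸ N → ℂ) ∘ QuotientGroup.mk' N,
    isIrrCharacter_comp_of_surjective _ (QuotientGroup.mk'_surjective N) χ.2⟩

@[simp] theorem infl_apply (χ : IrrCharacter (G ⧸ N)) (g : G) :
    (infl N χ : G → ℂ) g = (χ : G ⧸ N → ℂ) (g : G ⧸ N) := rfl

theorem infl_coe (χ : IrrCharacter (G ⧸ N)) :
    (infl N χ : G → ℂ) = (χ : G ⧸ N → ℂ) ∘ QuotientGroup.mk := rfl

/-- The preimage in `G` of a class of the quotient. -/
noncomputable def preF (y : G ⧸ N) : G → ℂ := fun x => (classIndicator y (x : G ⧸ N) : ℂ)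

theorem preF_isClassFunction (y : G ⧸ N) : IsClassFunction G (preF N y) := by
  intro x c
  unfold preF
  have h1 : ((c * x * c⁻¹ : G) : G ⧸ N) = (c : G ⧸ N) * (x : G ⧸ N) * (c : G ⧸ N)⁻¹ := rfl
  rw [h1]
  have h2 := classIndicator_mem y (x : G ⧸ N) (c : G ⧸ N)
  exact_mod_cast h2

theorem omega_infl_preF [Fintype G] [Fintype N] [Fintype (G ⧸ N)] (χ : IrrCharacter (G ⧸ N))
    (y : G ⧸ N) :
    omega (infl N χ : G → ℂ) (preF N y) = (Nat.card N : ℂ) * centralChar (χ : G ⧸ N → ℂ) y := by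
  rw [← omega_classIndicator χ y]
  unfold omega
  have h1 := Cfsg.Agent.Lib.CharIto.sum_eq_card_mul_sum_quotient N
    (fun x : G => preF N y x * (infl N χ : G → ℂ) x) (fun x z hz => by
      have : ((x * z : G) : G ⧸ N) = (x : G ⧸ N) := QuotientGroup.mk_mul_of_mem x hz
      simp only [preF, infl_apply, this])
  rw [h1]
  have h2 : ∀ q : G ⧸ N, preF N y (Quotient.out q) * (infl N χ : G → ℂ) (Quotient.out q) =
      castFun (classIndicator y) q * (χ : G ⧸ N → ℂ) q := by
    intro q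
    have h3 : ((Quotient.out q : G) : G ⧸ N) = q := QuotientGroup.out_eq' q
    simp only [preF, infl_apply, h3]
    rfl
  simp_rw [h2]
  have h3 : (infl N χ : G → ℂ) 1 = (χ : G ⧸ N → ℂ) 1 := rfl
  rw [h3]
  ring

/-- Same block of inflations and `p'` kernel: same block in the quotient. -/
theorem sameBlock_of_infl_coprime [Finite G] (hM : IsPModular p M) (hN : ¬ p ∣ Nat.card N)
    {χ ψ : IrrCharacter (G ⧸ N)}
    (h : SameBlock M (infl N χ : G → ℂ) (infl N ψ : G → ℂ)) :
    SameBlock M (χ : G ⧸ N → ℂ) (ψ : G ⧸ N → ℂ) := by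
  classical
  letI : Fintype G := Fintype.ofFinite _
  letI : Fintype N := Fintype.ofFinite _
  letI : Fintype (G ⧸ N) := Fintype.ofFinite _
  haveI := hM.2.1.isPrime
  intro y
  have h1 := memLocalIdeal_sub_of_mem_Zc (mem_Zc_of_classFunction (M := M) (preF_isClassFunction N y)
    (fun x => memLocalRing_intCast _)) h
  beta_reduce at h1
  rw [omega_infl_preF, omega_infl_preF, ← mul_sub] at h1
  have h2 := memLocalIdeal_mul_left (memLocalRing_inv_natCast hM hN) h1
  rwa [← mul_assoc, inv_mul_cancel₀ (natCard_subgroup_ne_zero N), one_mul] at h2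

/-- The central character of an inflation. -/
theorem centralChar_infl [Finite G] (χ : IrrCharacter (G ⧸ N)) (g : G) :
    centralChar (infl N χ : G → ℂ) g =
      (((Subgroup.centralizer ({g} : Set G)).relIndex
        ((Subgroup.centralizer ({(g : G ⧸ N)} : Set (G ⧸ N))).comap (QuotientGroup.mk' N)) : ℕ) : ℂ) *
        centralChar (χ : G ⧸ N → ℂ) (g : G ⧸ N) := by
  set L := (Subgroup.centralizer ({(g : G ⧸ N)} : Set (G ⧸ N))).comap (QuotientGroup.mk' N) with hL
  have hle : Subgroup.centralizer ({g} : Set G) ≤ L := by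
    intro x hx
    rw [hL, Subgroup.mem_comap, Subgroup.mem_centralizer_singleton_iff]
    rw [Subgroup.mem_centralizer_singleton_iff] at hx
    have := congrArg (QuotientGroup.mk' N) hx
    simpa using this
  have h1 := Subgroup.relIndex_mul_index hle
  have h2 : L.index = (Subgroup.centralizer ({(g : G ⧸ N)} : Set (G ⧸ N))).index :=
    Subgroup.index_comap_of_surjective _ (QuotientGroup.mk'_surjective N)
  unfold centralChar
  rw [← h1, h2]
  simp only [infl_apply]
  have h3 : (χ : G ⧸ N → ℂ) ((1 : G) : G ⧸ N) = (χ : G ⧸ N → ℂ) 1 := rfl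
  rw [h3]
  push_cast
  ring

/-- Regular elements of the quotient lift to regular elements. -/
theorem exists_regular_lift [Finite G] (hp : p.Prime) (y : G ⧸ N) (hy : ¬ p ∣ orderOf y) :
    ∃ g : G, (g : G ⧸ N) = y ∧ ¬ p ∣ orderOf g := by
  obtain ⟨h, rfl⟩ := QuotientGroup.mk_surjective y
  obtain ⟨x, hx⟩ := exists_isPPart hp h
  obtain ⟨k, hk⟩ := pPart_exists_pow hp hx
  obtain ⟨w, hw, -, ⟨j, hj⟩, hreg⟩ := hx
  refine ⟨w, ?_, hreg⟩
  have h1 : orderOf (x : G ⧸ N) ∣ p ^ j := by
    rw [← hj]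
    exact orderOf_dvd_of_pow_eq_one (by rw [← QuotientGroup.mk_pow, pow_orderOf_eq_one]; rfl)
  have h2 : orderOf (x : G ⧸ N) ∣ orderOf (h : G ⧸ N) := by
    apply orderOf_dvd_of_pow_eq_one
    rw [← hk, QuotientGroup.mk_pow, ← pow_mul, mul_comm, pow_mul, pow_orderOf_eq_one, one_pow]
  have h3 : orderOf (x : G ⧸ N) = 1 := by
    have hcop : (p ^ j).Coprime (orderOf (h : G ⧸ N)) :=
      Nat.Coprime.pow_left _ ((Nat.Prime.coprime_iff_not_dvd hp).mpr hy)
    exact Nat.Coprime.eq_one_of_dvd (Nat.Coprime.coprime_dvd_left h1 hcop) h2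
  have h4 : (x : G ⧸ N) = 1 := orderOf_eq_one_iff.mp h3
  rw [← hw, QuotientGroup.mk_mul, h4, one_mul]

/-- For a regular element and a normal `p`-subgroup whose centralizer has `p`-power index, commuting
modulo the subgroup means commuting. -/
theorem commute_of_mk_commute [Finite G] [Fact p.Prime] (hP : IsPGroup p N)
    (hC : ∃ k : ℕ, (Subgroup.centralizer (N : Set G)).index = p ^ k) {g x : G}
    (hg : ¬ p ∣ orderOf g) (h : (x : G ⧸ N) * (g : G ⧸ N) = (g : G ⧸ N) * (x : G ⧸ N)) :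
    x * g = g * x := by
  letI : Fintype G := Fintype.ofFinite G
  letI : Fintype (Subgroup.centralizer (N : Set G)) := Fintype.ofFinite _
  have hgC : g ∈ Subgroup.centralizer (N : Set G) :=
    mem_of_regular_of_index hC (inferInstance) hg
  -- `u = g⁻¹ x g x⁻¹ ∈ N`
  set u := g⁻¹ * (x * g * x⁻¹) with hu
  have huN : u ∈ N := by
    have h1 : ((g⁻¹ : G) : G ⧸ N) * ((x * g * x⁻¹ : G) : G ⧸ N) = 1 := by
      have h2 : ((x * g : G) : G ⧸ N) = ((g * x : G) : G ⧸ N) := h
      have h3 : ((x * g * x⁻¹ : G) : G ⧸ N) = ((g * x * x⁻¹ : G) : G ⧸ N) := by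
        have e1 : ((x * g * x⁻¹ : G) : G ⧸ N) = ((x * g : G) : G ⧸ N) * ((x⁻¹ : G) : G ⧸ N) := rfl
        have e2 : ((g * x * x⁻¹ : G) : G ⧸ N) = ((g * x : G) : G ⧸ N) * ((x⁻¹ : G) : G ⧸ N) := rfl
        rw [e1, e2, h2]
      rw [h3]
      simp
    exact (QuotientGroup.eq_one_iff _).mp (by simpa [hu] using h1)
  have hcomm : Commute g u := (Subgroup.mem_centralizer_iff.mp hgC u huN).symm
  have hy : x * g * x⁻¹ = g * u := by rw [hu]; group
  set n := orderOf g with hn
  have h1 : (x * g * x⁻¹) ^ n = 1 := by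
    have : (x * g * x⁻¹) = (MulAut.conj x) g := rfl
    rw [this, ← map_pow, hn, pow_orderOf_eq_one, map_one]
  rw [hy, hcomm.mul_pow, hn, pow_orderOf_eq_one, one_mul, ← hn] at h1
  obtain ⟨k, hk⟩ := hP ⟨u, huN⟩
  have hk' : u ^ p ^ k = 1 := by
    have := congrArg Subtype.val hk
    simpa using this
  have h2 : orderOf u ∣ n := orderOf_dvd_of_pow_eq_one h1
  have h3 : orderOf u ∣ p ^ k := orderOf_dvd_of_pow_eq_one hk'
  have hcop : (p ^ k).Coprime n :=
    Nat.Coprime.pow_left _ ((Nat.Prime.coprime_iff_not_dvd Fact.out).mpr hg)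
  have h4 : orderOf u = 1 := Nat.Coprime.eq_one_of_dvd (Nat.Coprime.coprime_dvd_left h3 hcop) h2
  have h5 : u = 1 := orderOf_eq_one_iff.mp h4
  rw [h5, mul_one] at hy
  calc x * g = x * g * x⁻¹ * x := by group
    _ = g * x := by rw [hy]

/-- The multiplicity in the formula for the central character of an inflation is one at regular
elements. -/
theorem relIndex_eq_one [Finite G] [Fact p.Prime] (hP : IsPGroup p N)
    (hC : ∃ k : ℕ, (Subgroup.centralizer (N : Set G)).index = p ^ k) {g : G}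
    (hg : ¬ p ∣ orderOf g) :
    (Subgroup.centralizer ({g} : Set G)).relIndex
        ((Subgroup.centralizer ({(g : G ⧸ N)} : Set (G ⧸ N))).comap (QuotientGroup.mk' N)) = 1 := by
  rw [Subgroup.relIndex_eq_one]
  intro x hx
  rw [Subgroup.mem_comap, Subgroup.mem_centralizer_singleton_iff] at hx
  rw [Subgroup.mem_centralizer_singleton_iff]
  exact commute_of_mk_commute N hP hC hg hx

/-- Inflation of blocks for normal `p`-subgroups whose centralizer has `p`-power index. -/
theorem sameBlock_infl_iff [Finite G] [Fact p.Prime] (hM : IsPModular p M) (hP : IsPGroup p N)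
    (hC : ∃ k : ℕ, (Subgroup.centralizer (N : Set G)).index = p ^ k)
    (χ ψ : IrrCharacter (G ⧸ N)) :
    SameBlock M (χ : G ⧸ N → ℂ) (ψ : G ⧸ N → ℂ) ↔
      SameBlock M (infl N χ : G → ℂ) (infl N ψ : G → ℂ) := by
  classical
  haveI := hM.2.1.isPrime
  letI : Fintype (G ⧸ N) := Fintype.ofFinite _
  constructor
  · intro h g
    rw [centralChar_infl, centralChar_infl, ← mul_sub]
    exact memLocalIdeal_mul_left (memLocalRing_natCast _) (h _)
  · intro h
    refine sameBlock_of_regular hM fun y hy => ?_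
    obtain ⟨g, rfl, hg⟩ := exists_regular_lift N hM.1 y hy
    have h1 := h g
    rw [centralChar_infl, centralChar_infl, relIndex_eq_one N hP hC hg] at h1
    simpa using h1

end Infl

end Cfsg.Agent.Lib.BlkQuot
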