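import Mathlib
import Cfsg.Agent.Lib.BlkBrauer
import Cfsg.Agent.S0912
import Cfsg.Agent.S0916
import Cfsg.Agent.S0917

/-!
# Brauer's first main theorem and consequences
-/

set_option autoImplicit false
set_option linter.unusedSectionVars false
set_option linter.unusedVariables false
set_option linter.style.haveILetI false

namespace Cfsg.Agent.Lib.BlkFirst

open Cfsg Cfsg.Agent.Lib.CharBasic Cfsg.Agent.Lib.CharInd Cfsg.Agent.Lib.CharIntegrality
open Cfsg.Agent.Lib.BlockLocal Cfsg.Agent.Lib.BlockIdem Cfsg.Agent.Lib.BlkBasic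
open Cfsg.Agent.Lib.BlkOrth Cfsg.Agent.Lib.BlkSylow
open Cfsg.Agent.Lib.BlkBrauer Cfsg.Agent.Lib.BlkDefect Cfsg.Agent.Lib.BlockDefect
open scoped ComplexConjugate

universe u

variable {G : Type u} [Group G] [Fintype G] {p : ℕ} [hp : Fact p.Prime] {M : Ideal AlgInt}

theorem mem_self_of_block [M.IsPrime] {B : Set (IrrCharacter G)} {χ : IrrCharacter G}
    (h : B = blockOf M (χ : G → ℂ)) : χ ∈ B := by
  rw [h]
  exact mem_blockOf_self χ

/-- A normal `p`-subgroup of a group lies in every defect group. -/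
theorem normal_le_defect {K : Type u} [Group K] [Finite K] (hM : IsPModular p M) {Q : Subgroup K} (hQ : Q.Normal)
    (hQp : IsPGroup p Q) {b : Set (IrrCharacter K)} (hb : IsPBlock M b) {D : Subgroup K}
    (hD : IsDefectGroup p M b D) : Q ≤ D :=
  (Cfsg.Agent.Lib.PCore.le_pCore hQ hQp).trans (Cfsg.Agent.S0912.result p M hM b hb D hD)

variable {P H : Subgroup G} [Fintype H]

/-- The defect group of a block of `H` inducing a block with defect group `P` is `P` itself. -/
theorem defect_eq_of_induced (hM : IsPModular p M) {B : Set (IrrCharacter G)} (hB : IsPBlock M B)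
    (hPdef : IsDefectGroup p M B P) (hPH : P ≤ H) (hHN : H ≤ Subgroup.normalizer (P : Set G))
    {b : Set (IrrCharacter H)} (hind : IsInducedBlock M H b B) {D : Subgroup H}
    (hD : IsDefectGroup p M b D) : D = P.subgroupOf H := by
  classical
  have hPp : IsPGroup p P := by
    obtain ⟨g, -, S, rfl⟩ := hPdef
    exact (isSylowIn_of_sylow S).1
  have hle : P.subgroupOf H ≤ D := normal_le_defect hM (normal_subgroupOf hPH hHN)
    (IsPGroup.comap_of_injective hPp H.subtype H.subtype_injective) hind.1 hD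
  symm
  apply Subgroup.eq_of_le_of_card_ge hle
  obtain ⟨E, hE, hDE⟩ := Cfsg.Agent.S0917.result p M hM H b hind.1 B hB hind D hD
  have h1 : Nat.card D = Nat.card (D.map H.subtype) := (Subgroup.card_map_of_injective H.subtype_injective).symm
  have h2 : Nat.card E = Nat.card P := by
    rw [card_isDefectGroup hM hB hE, card_isDefectGroup hM hB hPdef]
  have h3 : Nat.card (P.subgroupOf H) = Nat.card P := Nat.card_congr (Subgroup.subgroupOfEquivOfLe hPH).toEquiv
  rw [h1, h3, ← h2]
  exact Nat.le_of_dvd Nat.card_pos (Subgroup.card_dvd_of_le hDE)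

/-- If the central character at `g` of the Brauer map is not in the ideal, an element of `H` conjugate
to `g` in `C(P)` has central character outside the ideal. -/
theorem exists_of_brauerCentralChar [M.IsPrime] (hHN : H ≤ Subgroup.normalizer (P : Set G))
    (ξ : IrrCharacter H) {g : G} (h : ¬ MemLocalIdeal M (brauerCentralChar P H (ξ : H → ℂ) g)) :
    ∃ u : H, IsConj g (u : G) ∧ (u : G) ∈ Subgroup.centralizer (P : Set G) ∧
      ¬ MemLocalIdeal M (centralChar (ξ : H → ℂ) u) := by
  classical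
  letI : Fintype (ConjClasses H) := Fintype.ofFinite _
  by_contra hcon
  push Not at hcon
  apply h
  rw [brauerCentralChar_eq_lam]
  unfold lam
  rw [invF_centralChar]
  have hcl : IsClassFunction G (castFun (classIndicator g)) := castFun_isClassFunction (classIndicator_mem g)
  rw [omega_eq_sum_classes ξ (trunc_isClassFunction hHN hcl)]
  refine memLocalIdeal_sum _ _ fun K _ => ?_
  by_cases hK : ((Quotient.out K : H) : G) ∈ Subgroup.centralizer (P : Set G)
  · rw [trunc_of_mem _ hK]
    by_cases hK2 : IsConj g ((Quotient.out K : H) : G)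
    · exact memLocalIdeal_mul_left (memLocalRing_intCast _) (hcon _ hK2 hK)
    · simp only [castFun]
      rw [classIndicator_of_not_conj hK2]
      simpa using memLocalIdeal_zero (M := M)
  · rw [trunc_of_not_mem _ hK, zero_mul]
    exact memLocalIdeal_zero

/-- An element `y` with a unit idempotent coefficient, `P` conjugate in the centralizer of `y`. -/
theorem exists_conj_mem_centralizer {P D : Subgroup G} {y x : G}
    (hD : D ≤ Subgroup.centralizer ({y} : Set G)) (hx : P.map (MulAut.conj x).toMonoidHom ≤ D) :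
    x⁻¹ * y * x ∈ Subgroup.centralizer (P : Set G) := by
  rw [Subgroup.mem_centralizer_iff]
  intro u hu
  have h1 : x * u * x⁻¹ ∈ Subgroup.centralizer ({y} : Set G) := hD (hx ⟨u, hu, rfl⟩)
  have h2 := Subgroup.mem_centralizer_singleton_iff.mp h1
  calc u * (x⁻¹ * y * x) = x⁻¹ * ((x * u * x⁻¹) * y) * x := by group
    _ = x⁻¹ * (y * (x * u * x⁻¹)) * x := by rw [h2]
    _ = _ := by group

/-- If a conjugate of `P` lies in a defect group of `B`, then there is `ξ ∈ Irr H` inducing `B`. -/
theorem exists_irr_of_defect (hM : IsPModular p M) (hP : IsPGroup p P)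
    (hCH : Subgroup.centralizer (P : Set G) ≤ H) (hHN : H ≤ Subgroup.normalizer (P : Set G))
    {B : Set (IrrCharacter G)} (hB : IsPBlock M B) {D : Subgroup G} (hD : IsDefectGroup p M B D) {x : G}
    (hx : P.map (MulAut.conj x).toMonoidHom ≤ D) :
    ∃ ξ : IrrCharacter H, ¬ MemLocalIdeal M (lam P H ξ (blkInd B)) := by
  haveI := hM.2.1.isPrime
  obtain ⟨y, hy, Q, rfl⟩ := hD
  have hyC := exists_conj_mem_centralizer (isSylowIn_of_sylow Q).2.1 hx
  refine exists_lam_not_mem hM hP hCH hHN hB (y := ⟨x⁻¹ * y * x, hCH hyC⟩) hyC ?_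
  intro hcon
  apply hy.2.1
  have h1 := Cfsg.Agent.Lib.BlkBasic.blockCoeff_isClassFunction B (x⁻¹ * y * x) x
  have h2 : x * (x⁻¹ * y * x) * x⁻¹ = y := by group
  rw [h2] at h1
  rw [h1]
  exact hcon

/-- A defect class of `B` is conjugate into `C(P)` for a defect group `P`. -/
theorem exists_irr_of_isDefectGroup (hM : IsPModular p M) (hPH : P ≤ H)
    (hCH : Subgroup.centralizer (P : Set G) ≤ H) (hHN : H ≤ Subgroup.normalizer (P : Set G))
    {B : Set (IrrCharacter G)} (hB : IsPBlock M B) (hPdef : IsDefectGroup p M B P) :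
    ∃ ξ : IrrCharacter H, ¬ MemLocalIdeal M (lam P H ξ (blkInd B)) := by
  have hPp : IsPGroup p P := by
    obtain ⟨g, -, S, rfl⟩ := hPdef
    exact (isSylowIn_of_sylow S).1
  exact exists_irr_of_defect hM hPp hCH hHN hB hPdef (x := 1) (by rw [map_conj_one])

/-- **Existence of the induced block with defect group `P`.** -/
theorem exists_induced_of_isDefectGroup (hM : IsPModular p M) (hPH : P ≤ H)
    (hCH : Subgroup.centralizer (P : Set G) ≤ H) (hHN : H ≤ Subgroup.normalizer (P : Set G))
    {B : Set (IrrCharacter G)} (hB : IsPBlock M B) (hPdef : IsDefectGroup p M B P) :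
    ∃ ξ : IrrCharacter H, IsInducedBlock M H (blockOf M (ξ : H → ℂ)) B ∧
      IsDefectGroup p M (blockOf M (ξ : H → ℂ)) (P.subgroupOf H) := by
  have hPp : IsPGroup p P := by
    obtain ⟨g, -, S, rfl⟩ := hPdef
    exact (isSylowIn_of_sylow S).1
  obtain ⟨ξ, hξ⟩ := exists_irr_of_isDefectGroup hM hPH hCH hHN hB hPdef
  have hind := isInducedBlock_of_lam hM hPp hPH hCH hHN ξ hB hξ
  refine ⟨ξ, hind, ?_⟩
  obtain ⟨D, hD⟩ := exists_isDefectGroup hM hind.1
  rwa [defect_eq_of_induced hM hB hPdef hPH hHN hind hD] at hD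

/-- **Part of Brauer's theorems**: the classes with unit central characters. -/
theorem exists_center_of_central (hM : IsPModular p M) (hPH : P ≤ H)
    (hCH : Subgroup.centralizer (P : Set G) ≤ H) (hHN : H ≤ Subgroup.normalizer (P : Set G))
    {B : Set (IrrCharacter G)} (hB : IsPBlock M B) (hPdef : IsDefectGroup p M B P) {χ : IrrCharacter G}
    (hχ : χ ∈ B) {g : G} (hg : ¬ MemLocalIdeal M (centralChar (χ : G → ℂ) g)) :
    ∃ x : G, IsConj g x ∧ x ∈ Subgroup.centralizer (P : Set G) ∧
      ∀ z : G, IsPPart p x z → z ∈ P ∧ ∀ w ∈ P, z * w = w * z := by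
  classical
  haveI := hM.2.1.isPrime
  have hPp : IsPGroup p P := by
    obtain ⟨g, -, S, rfl⟩ := hPdef
    exact (isSylowIn_of_sylow S).1
  obtain ⟨ξ, hξ⟩ := exists_irr_of_isDefectGroup hM hPH hCH hHN hB hPdef
  have h1 := brauer_sub_central_of_lam hM hPp hCH hHN ξ hB hξ hχ g
  have h2 : ¬ MemLocalIdeal M (brauerCentralChar P H (ξ : H → ℂ) g) := fun h => hg (by
    have := memLocalIdeal_sub h h1
    rwa [sub_sub_cancel] at this)
  obtain ⟨u, hu, huC, hu2⟩ := exists_of_brauerCentralChar hHN ξ h2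
  refine ⟨u, hu, huC, fun z hz => ?_⟩
  have hind := isInducedBlock_of_lam hM hPp hPH hCH hHN ξ hB hξ
  obtain ⟨N, hN⟩ := pPart_exists_pow hM.1 hz
  have hzC : z ∈ Subgroup.centralizer (P : Set G) := by
    rw [← hN]
    exact (Subgroup.centralizer (P : Set G)).pow_mem huC N
  refine ⟨?_, fun w hw => (Subgroup.mem_centralizer_iff.mp hzC w hw).symm⟩
  by_contra hzP
  -- the `p`-part in `H`
  have hzH : z ∈ H := hCH hzC
  obtain ⟨y, hy1, hy2, hy3, hy4⟩ := hz
  have hyH : y ∈ H := by
    have : y = z⁻¹ * u := by rw [← hy1]; group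
    rw [this]
    exact H.mul_mem (H.inv_mem hzH) u.2
  have hpart : IsPPart p u (⟨z, hzH⟩ : H) := by
    refine ⟨⟨y, hyH⟩, Subtype.ext hy1, Subtype.ext hy2.eq, ?_, ?_⟩
    · obtain ⟨a, ha⟩ := hy3
      refine ⟨a, ?_⟩
      rw [← ha]
      exact Subgroup.orderOf_mk _ _
    · rwa [Subgroup.orderOf_mk]
  have hzero := char_eq_zero_of_not_mem_defect hM (B := blockOf M (ξ : H → ℂ)) ⟨ξ, rfl⟩ hpart (fun D hD hmem => by
    rw [defect_eq_of_induced hM hB hPdef hPH hHN hind hD, Subgroup.mem_subgroupOf] at hmem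
    exact hzP hmem) (mem_blockOf_self ξ)
  apply hu2
  unfold centralChar
  rw [hzero, mul_zero, zero_div]
  exact memLocalIdeal_zero

end Cfsg.Agent.Lib.BlkFirst
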