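import Mathlib
import Cfsg.Agent.Lib.BlkFirst

/-!
# Brauer's first main theorem
-/

set_option autoImplicit false
set_option linter.unusedSectionVars false
set_option linter.unusedVariables false
set_option linter.style.haveILetI false

namespace Cfsg.Agent.Lib.BlkFMT

open Cfsg Cfsg.Agent.Lib.CharBasic Cfsg.Agent.Lib.CharInd Cfsg.Agent.Lib.CharIntegrality
open Cfsg.Agent.Lib.BlockLocal Cfsg.Agent.Lib.BlockIdem Cfsg.Agent.Lib.BlkBasic
open Cfsg.Agent.Lib.BlkOrth Cfsg.Agent.Lib.BlkSylow
open Cfsg.Agent.Lib.BlkBrauer Cfsg.Agent.Lib.BlkDefect Cfsg.Agent.Lib.BlockDefect Cfsg.Agent.Lib.BlkFirst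
open Cfsg.Agent.Lib.BrauerMap
open Cfsg.Agent.S0916
open scoped ComplexConjugate

universe u

variable {G : Type u} [Group G] [Fintype G] {p : ℕ} [hp : Fact p.Prime] {M : Ideal AlgInt}

section Sylow

variable {D : Subgroup G}

local notation "N" => Subgroup.normalizer (D : Set G)

/-- A Sylow subgroup of a centralizer in the normalizer is Sylow in the whole centralizer. -/
theorem isSylowIn_of_normalizer (hDp : IsPGroup p D) {u : N}
    (hS : IsSylowIn p (D.subgroupOf N) (Subgroup.centralizer ({u} : Set N))) :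
    IsSylowIn p D (Subgroup.centralizer ({(u : G)} : Set G)) := by
  have hDN : D ≤ N := Subgroup.le_normalizer
  have hu : (u : G) ∈ Subgroup.centralizer (D : Set G) := by
    rw [Subgroup.mem_centralizer_iff]
    intro w hw
    have h1 : (⟨w, hDN hw⟩ : N) ∈ D.subgroupOf N := by simpa [Subgroup.mem_subgroupOf] using hw
    have h2 := Subgroup.mem_centralizer_singleton_iff.mp (hS.2.1 h1)
    exact congrArg Subtype.val h2
  apply part_two hDp hu
  refine ⟨hDp, le_inf (le_centralizer_of_mem hu) hDN, ?_⟩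
  have h1 : D = (D.subgroupOf N).map (Subgroup.subtype _) := (Subgroup.map_subgroupOf_eq_of_le hDN).symm
  have h2 : Subgroup.centralizer ({(u : G)} : Set G) ⊓ N =
      (Subgroup.centralizer ({u} : Set N)).map (Subgroup.subtype _) := by
    ext x
    constructor
    · rintro ⟨hx1, hx2⟩
      refine ⟨⟨x, hx2⟩, ?_, rfl⟩
      have hx1' : x ∈ Subgroup.centralizer ({(u : G)} : Set G) := hx1
      rw [Subgroup.mem_centralizer_singleton_iff] at hx1'
      show (⟨x, hx2⟩ : N) ∈ Subgroup.centralizer ({u} : Set N)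
      rw [Subgroup.mem_centralizer_singleton_iff]
      exact Subtype.ext hx1'
    · rintro ⟨y, hy, rfl⟩
      refine ⟨?_, y.2⟩
      have hy' : y ∈ Subgroup.centralizer ({u} : Set N) := hy
      rw [Subgroup.mem_centralizer_singleton_iff] at hy'
      show (y : G) ∈ Subgroup.centralizer ({(u : G)} : Set G)
      rw [Subgroup.mem_centralizer_singleton_iff]
      exact congrArg Subtype.val hy'
  rw [h2]
  nth_rewrite 1 [h1]
  rw [Subgroup.relIndex_map_map_of_injective _ _ (Subgroup.subtype_injective _)]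
  exact hS.2.2

theorem exists_normalizer_conj (hDp : IsPGroup p D) {g c₁ c₂ : G}
    (hS : IsSylowIn p D (Subgroup.centralizer ({g} : Set G))) (h₁ : IsConj g c₁) (h₂ : IsConj g c₂)
    (hc₁ : c₁ ∈ Subgroup.centralizer (D : Set G)) (hc₂ : c₂ ∈ Subgroup.centralizer (D : Set G)) :
    ∃ n ∈ N, n * c₁ * n⁻¹ = c₂ :=
  ((Cfsg.Agent.S0916.result p D hDp).1 g (exists_sylow_of_isSylowIn hS)).2 c₁ c₂ h₁ h₂ hc₁ hc₂

/-- On classes having `D` as a defect group, the truncation of the class sum is the class sum in the normalizer. -/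
theorem trunc_classIndicator_eq [Fintype N] (hDp : IsPGroup p D) {u : N}
    (huC : (u : G) ∈ Subgroup.centralizer (D : Set G))
    (hS : IsSylowIn p D (Subgroup.centralizer ({(u : G)} : Set G))) :
    trunc D N (castFun (classIndicator (u : G))) = castFun (classIndicator u) := by
  classical
  funext h
  by_cases hh : (h : G) ∈ Subgroup.centralizer (D : Set G)
  · rw [trunc_of_mem _ hh]
    simp only [castFun]
    by_cases hc : IsConj (u : G) (h : G)
    · obtain ⟨n, hn, hn2⟩ := exists_normalizer_conj hDp hS (IsConj.refl _) hc huC hh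
      have hc2 : IsConj u h := isConj_iff.mpr ⟨⟨n, hn⟩, Subtype.ext hn2⟩
      rw [classIndicator_of_conj hc, classIndicator_of_conj hc2]
    · have hc2 : ¬ IsConj u h := by
        intro h1
        apply hc
        obtain ⟨c, hc⟩ := isConj_iff.mp h1
        exact isConj_iff.mpr ⟨c, congrArg Subtype.val hc⟩
      rw [classIndicator_of_not_conj hc, classIndicator_of_not_conj hc2]
  · rw [trunc_of_not_mem _ hh]
    simp only [castFun]
    have hc2 : ¬ IsConj u h := by
      intro h1
      apply hh
      obtain ⟨c, hc⟩ := isConj_iff.mp h1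
      rw [← hc]
      exact conj_mem_centralizer_of_mem_normalizer c.2 huC
    rw [classIndicator_of_not_conj hc2]
    simp

theorem brauerCentralChar_eq_centralChar [Fintype N] (hDp : IsPGroup p D) {u : N}
    (huC : (u : G) ∈ Subgroup.centralizer (D : Set G))
    (hS : IsSylowIn p D (Subgroup.centralizer ({(u : G)} : Set G))) (ξ : IrrCharacter N) :
    brauerCentralChar D N (ξ : N → ℂ) u = centralChar (ξ : N → ℂ) u := by
  rw [brauerCentralChar_eq_lam]
  unfold lam
  rw [invF_centralChar, trunc_classIndicator_eq hDp huC hS, omega_classIndicator]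

/-- **Brauer's first main theorem, (i).** -/
theorem fmt_one [Fintype N] (hM : IsPModular p M) (hDp : IsPGroup p D) {b : Set (IrrCharacter N)}
    (hb : IsPBlock M b) (hdef : IsDefectGroup p M b (D.subgroupOf N)) :
    ∃ B : Set (IrrCharacter G), IsPBlock M B ∧ IsDefectGroup p M B D ∧ IsInducedBlock M N b B := by
  classical
  haveI := hM.2.1.isPrime
  have hDN : D ≤ N := Subgroup.le_normalizer
  have hCN : Subgroup.centralizer (D : Set G) ≤ N := Subgroup.centralizer_le_normalizer _
  obtain ⟨ξ₀, hξ₀⟩ := id hb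
  have hξ₀b : ξ₀ ∈ b := mem_self_of_block hξ₀
  obtain ⟨B, hB, hnot⟩ := exists_block_of_irr hM hDp hCN le_rfl ξ₀
  have hind := isInducedBlock_of_lam hM hDp hDN hCN le_rfl ξ₀ hB hnot
  rw [← hξ₀] at hind
  refine ⟨B, hB, ?_, hind⟩
  obtain ⟨u, hu, S, hS⟩ := id hdef
  have hSyl : IsSylowIn p (D.subgroupOf N) (Subgroup.centralizer ({u} : Set N)) := by
    have := isSylowIn_of_sylow S
    rwa [← hS] at this
  have hSG := isSylowIn_of_normalizer hDp hSyl
  have huC : (u : G) ∈ Subgroup.centralizer (D : Set G) := mem_of_eq_map hSG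
  have hbr := brauerCentralChar_eq_centralChar hDp huC hSG ξ₀
  obtain ⟨χ, hχB⟩ := id hB
  have hχ : χ ∈ B := mem_self_of_block hχB
  have h1 := brauer_sub_central_of_lam hM hDp hCN le_rfl ξ₀ hB hnot hχ u
  rw [hbr] at h1
  have h2 : ¬ MemLocalIdeal M (centralChar (χ : G → ℂ) (u : G)) := by
    intro hcon
    apply hu.2.2 ξ₀ hξ₀b
    have := memLocalIdeal_add h1 hcon
    rwa [sub_add_cancel] at this
  obtain ⟨E, hE, hDE⟩ := Cfsg.Agent.S0917.result p M hM N b hb B hB hind _ hdef
  rw [Subgroup.map_subgroupOf_eq_of_le hDN] at hDE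
  have hL : LeDefect p (u : G) D := leDefect_of_isDefectGroup_data hSG.2.1 hSG.card_eq
  obtain ⟨t, ht⟩ := IsDefectGroup.exists_conj_le hM hB hE hχ h2 hL
  have h3 := Subgroup.card_dvd_of_le ht
  rw [card_map_conj] at h3
  have h4 : D = E := Subgroup.eq_of_le_of_card_ge hDE (Nat.le_of_dvd Nat.card_pos h3)
  rwa [h4]

/-- The elements having `D` as a defect group. -/
def T (p : ℕ) (D : Subgroup G) (u : G) : Prop :=
  u ∈ Subgroup.centralizer (D : Set G) ∧ IsSylowIn p D (Subgroup.centralizer ({u} : Set G))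

variable (p) (D) in
/-- The class function of `G` lifting the part of a function of `N` on elements having `D` as defect group. -/
noncomputable def liftF (b : Set (IrrCharacter N)) : G → ℂ := fun g =>
  @dite ℂ (∃ u : N, IsConj g (u : G) ∧ T p D u) (Classical.propDecidable _)
    (fun h => blockCoeff b (Classical.choose h)) (fun _ => 0)

theorem liftF_eq [Fintype N] (hDp : IsPGroup p D) (b : Set (IrrCharacter N)) {g : G} {u : N} (hu : T p D u)
    (hg : IsConj g (u : G)) : liftF p D b g = blockCoeff b u := by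
  classical
  unfold liftF
  have h : ∃ u : N, IsConj g (u : G) ∧ T p D u := ⟨u, hg, hu⟩
  rw [dif_pos h]
  obtain ⟨h1, h2⟩ := Classical.choose_spec h
  set u' := Classical.choose h
  -- `u'` and `u` are conjugate in `N`
  obtain ⟨n, hn, hn2⟩ := exists_normalizer_conj hDp h2.2 (IsConj.refl _) (h1.symm.trans hg) h2.1 hu.1
  have h3 := BlkBasic.blockCoeff_isClassFunction b u' ⟨n, hn⟩
  rw [← h3]
  congr 1
  exact Subtype.ext hn2

theorem liftF_of_not [Fintype N] (b : Set (IrrCharacter N)) {g : G} (h : ¬ ∃ u : N, IsConj g (u : G) ∧ T p D u) :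
    liftF p D b g = 0 := by
  unfold liftF
  rw [dif_neg h]

theorem liftF_isClassFunction [Fintype N] (hDp : IsPGroup p D) (b : Set (IrrCharacter N)) :
    IsClassFunction G (liftF p D b) := by
  intro g c
  have hconj : IsConj g (c * g * c⁻¹) := isConj_iff.mpr ⟨c, rfl⟩
  by_cases h : ∃ u : N, IsConj g (u : G) ∧ T p D u
  · obtain ⟨u, hu1, hu2⟩ := h
    rw [liftF_eq hDp b hu2 hu1, liftF_eq hDp b hu2 (hconj.symm.trans hu1)]
  · rw [liftF_of_not b h, liftF_of_not b]
    rintro ⟨u, hu1, hu2⟩
    exact h ⟨u, hconj.trans hu1, hu2⟩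

theorem liftF_memLocalRing [Fintype N] [M.IsPrime] {b : Set (IrrCharacter N)} (hb : IsPBlock M b) (g : G) :
    MemLocalRing M (liftF p D b g) := by
  unfold liftF
  split_ifs
  · exact memLocalRing_blockCoeff hb _
  · exact memLocalRing_zero

/-- The truncation of the lifted function is congruent to the idempotent, if `D` is the defect group. -/
theorem trunc_liftF_sub [Fintype N] (hM : IsPModular p M) (hDp : IsPGroup p D) {b : Set (IrrCharacter N)}
    (hb : IsPBlock M b) (hdef : IsDefectGroup p M b (D.subgroupOf N)) (h : N) :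
    MemLocalIdeal M (trunc D N (liftF p D b) h - blockCoeff b h) := by
  classical
  haveI := hM.2.1.isPrime
  have hDN : D ≤ N := Subgroup.le_normalizer
  by_cases hh : (h : G) ∈ Subgroup.centralizer (D : Set G)
  · rw [trunc_of_mem _ hh]
    by_cases hT : T p D (h : G)
    · rw [liftF_eq hDp b hT (IsConj.refl _), sub_self]
      exact memLocalIdeal_zero
    · have hF : liftF p D b (h : G) = 0 := by
        apply liftF_of_not
        rintro ⟨u, hu1, hu2⟩
        exact hT ⟨hh, isSylowIn_of_conj hDp hu2.2 hu1.symm hh⟩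
      rw [hF, zero_sub]
      apply memLocalIdeal_neg
      by_contra hz
      apply hT
      refine ⟨hh, ?_⟩
      apply isSylowIn_of_normalizer hDp
      have hL := IsDefectGroup.sylow_conj hM hb hdef hz
      have hp' : IsPGroup p (D.subgroupOf N) := IsPGroup.comap_of_injective hDp (Subgroup.subtype _) (Subgroup.subtype_injective _)
      have hle : D.subgroupOf N ≤ Subgroup.centralizer ({h} : Set N) := by
        intro w hw
        rw [Subgroup.mem_centralizer_singleton_iff]
        apply Subtype.ext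
        exact (Subgroup.mem_centralizer_iff.mp hh (w : G) (by simpa [Subgroup.mem_subgroupOf] using hw))
      obtain ⟨S, hS, hDS⟩ := exists_isSylowIn_ge hp' hle
      obtain ⟨t, ht⟩ := hL S hS.1 hS.2.1
      have h3 := Subgroup.card_dvd_of_le ht
      rw [card_map_conj] at h3
      have h4 : D.subgroupOf N = S := Subgroup.eq_of_le_of_card_ge hDS (Nat.le_of_dvd Nat.card_pos h3)
      rwa [h4]
  · rw [trunc_of_not_mem _ hh, zero_sub]
    apply memLocalIdeal_neg
    letI : Fintype (D.subgroupOf N) := Fintype.ofFinite _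
    haveI := normal_subgroupOf hDN le_rfl
    have hp' : IsPGroup p (D.subgroupOf N) := IsPGroup.comap_of_injective hDp (Subgroup.subtype _) (Subgroup.subtype_injective _)
    rw [Cfsg.Agent.Lib.BlockNormal.blockCoeff_eq_zero_of_not_mem_centralizer (D.subgroupOf N) hp' hM b hb h (by
      rw [centralizer_subgroupOf_iff hDN]
      exact hh)]
    exact memLocalIdeal_zero

/-- **Brauer's first main theorem, uniqueness.** -/
theorem fmt_unique [Fintype N] (hM : IsPModular p M) (hDp : IsPGroup p D) {b b' : Set (IrrCharacter N)}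
    (hb : IsPBlock M b) (hb' : IsPBlock M b') (hdef : IsDefectGroup p M b (D.subgroupOf N))
    {B : Set (IrrCharacter G)} (hB : IsPBlock M B) (hind : IsInducedBlock M N b B)
    (hind' : IsInducedBlock M N b' B) : b = b' := by
  classical
  haveI := hM.2.1.isPrime
  have hDN : D ≤ N := Subgroup.le_normalizer
  have hCN : Subgroup.centralizer (D : Set G) ≤ N := Subgroup.centralizer_le_normalizer _
  obtain ⟨ξ, hξb⟩ := id hb
  have hξ : ξ ∈ b := mem_self_of_block hξb
  obtain ⟨ξ', hξ'b⟩ := id hb'
  have hξ' : ξ' ∈ b' := mem_self_of_block hξ'b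
  obtain ⟨χ, hχB⟩ := id hB
  have hχ : χ ∈ B := mem_self_of_block hχB
  set F := liftF p D b with hF
  have hFcl : IsClassFunction G F := liftF_isClassFunction hDp b
  have hFR : ∀ g, MemLocalRing M (F g) := liftF_memLocalRing hb
  set c : IrrCharacter G → ℂ := fun θ => omega (θ : G → ℂ) F with hc
  have hcZ : c ∈ Zc (G := G) M := mem_Zc_of_classFunction hFcl hFR
  have hinv : invF c = F := invF_omega hFcl
  have h1 := (isBrauerHom_lam hM hDp hCN le_rfl ξ).sub_mem_of_block hM hB
    (lam_not_mem_of_induced hM hDp hDN le_rfl hind hξ) hχ hcZ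
  have h2 := (isBrauerHom_lam hM hDp hCN le_rfl ξ').sub_mem_of_block hM hB
    (lam_not_mem_of_induced hM hDp hDN le_rfl hind' hξ') hχ hcZ
  unfold lam at h1 h2
  rw [hinv] at h1 h2
  have hcl2 : IsClassFunction N (trunc D N F) := trunc_isClassFunction le_rfl hFcl
  have h3 := memLocalIdeal_omega_sub N hcl2 (BlkBasic.blockCoeff_isClassFunction b)
    (trunc_liftF_sub hM hDp hb hdef) ξ
  have h4 := memLocalIdeal_omega_sub N hcl2 (BlkBasic.blockCoeff_isClassFunction b)
    (trunc_liftF_sub hM hDp hb hdef) ξ'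
  rw [omega_blockCoeff, blkInd_of_mem hξ] at h3
  rw [omega_blockCoeff] at h4
  have h5 : ξ' ∈ b := by
    by_contra hcon
    rw [blkInd_of_not_mem hcon, sub_zero] at h4
    -- `ω_ξ'(trunc F) ≡ c χ ≡ ω_ξ(trunc F) ≡ 1`
    have h6 := memLocalIdeal_sub h3 (memLocalIdeal_sub h1 h2)
    have h7 := memLocalIdeal_add h6 h4
    have h8 : omega (ξ : N → ℂ) (trunc D N F) - 1 -
        (omega (ξ : N → ℂ) (trunc D N F) - c χ - (omega (ξ' : N → ℂ) (trunc D N F) - c χ)) +
        (-omega (ξ' : N → ℂ) (trunc D N F) + 0) = -1 := by ring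
    have h9 := memLocalIdeal_add h6 (memLocalIdeal_neg h4)
    have h10 : omega (ξ : N → ℂ) (trunc D N F) - 1 -
        (omega (ξ : N → ℂ) (trunc D N F) - c χ - (omega (ξ' : N → ℂ) (trunc D N F) - c χ)) -
        omega (ξ' : N → ℂ) (trunc D N F) = -1 := by ring
    rw [← sub_eq_add_neg, h10] at h9
    have h11 := memLocalIdeal_neg h9
    rw [neg_neg] at h11
    exact not_memLocalIdeal_one h11
  rw [hξb, hξ'b]
  rw [hξb] at h5
  exact (blockOf_eq_of_mem h5).symm

end Sylow

end Cfsg.Agent.Lib.BlkFMT
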