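import Mathlib
import Cfsg.Agent.Lib.BlkFMT
import Cfsg.Agent.Lib.BlkNormalSub
import Cfsg.Agent.Lib.BlockInduced
import Cfsg.Agent.Lib.BlockNormal

/-!
# The extended first main theorem: blocks of `P C_G(P)` inducing a block with defect group `P`
-/

set_option autoImplicit false
set_option linter.unusedSectionVars false
set_option linter.unusedVariables false
set_option linter.style.haveILetI false

namespace Cfsg.Agent.Lib.BlkExtFMT

open Cfsg Cfsg.Agent.Lib.CharBasic Cfsg.Agent.Lib.CharInd Cfsg.Agent.Lib.CharIntegrality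
open Cfsg.Agent.Lib.BlockLocal Cfsg.Agent.Lib.BlockIdem Cfsg.Agent.Lib.BlkBasic
open Cfsg.Agent.Lib.BlkBrauer Cfsg.Agent.Lib.BlockDefect Cfsg.Agent.Lib.BlkFirst
open Cfsg.Agent.Lib.BlkFMT Cfsg.Agent.Lib.BlkNormalSub
open Cfsg.Agent.Lib.BrauerPair

universe u

section Pull

variable {A A' : Type u} [Group A] [Group A']

/-- Transport of an irreducible character along a group isomorphism. -/
noncomputable def pull (e : A ≃* A') (θ : IrrCharacter A') : IrrCharacter A :=
  ⟨(θ : A' → ℂ) ∘ e.toMonoidHom, isIrrCharacter_comp_of_surjective _ e.surjective θ.2⟩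

@[simp] theorem pull_apply (e : A ≃* A') (θ : IrrCharacter A') (x : A) :
    (pull e θ : A → ℂ) x = (θ : A' → ℂ) (e x) := rfl

theorem index_centralizer_map (e : A ≃* A') (x : A) :
    (Subgroup.centralizer ({x} : Set A)).index = (Subgroup.centralizer ({e x} : Set A')).index := by
  have h1 : (Subgroup.centralizer ({e x} : Set A')).comap e.toMonoidHom =
      Subgroup.centralizer ({x} : Set A) := by
    ext a
    simp only [Subgroup.mem_comap, Subgroup.mem_centralizer_singleton_iff]
    constructor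
    · intro h
      apply e.injective
      simpa using h
    · intro h
      have := congrArg e h
      simpa using this
  rw [← h1]
  exact Subgroup.index_comap_of_surjective _ e.surjective

theorem centralChar_pull (e : A ≃* A') (θ : IrrCharacter A') (x : A) :
    centralChar (pull e θ : A → ℂ) x = centralChar (θ : A' → ℂ) (e x) := by
  unfold centralChar
  rw [index_centralizer_map e x, pull_apply, pull_apply, map_one]

theorem sameBlock_pull {M : Ideal AlgInt} (e : A ≃* A') {θ ψ : IrrCharacter A'}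
    (h : SameBlock M (θ : A' → ℂ) (ψ : A' → ℂ)) :
    SameBlock M (pull e θ : A → ℂ) (pull e ψ : A → ℂ) := by
  intro x
  rw [centralChar_pull, centralChar_pull]
  exact h _

theorem sameBlock_of_pull {M : Ideal AlgInt} (e : A ≃* A') {θ ψ : IrrCharacter A'}
    (h : SameBlock M (pull e θ : A → ℂ) (pull e ψ : A → ℂ)) :
    SameBlock M (θ : A' → ℂ) (ψ : A' → ℂ) := by
  intro x
  have h1 := h (e.symm x)
  rw [centralChar_pull, centralChar_pull, e.apply_symm_apply] at h1
  exact h1

end Pull

section Covers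

variable {K : Type u} [Group K] [Fintype K] {p : ℕ} [Fact p.Prime] {M : Ideal AlgInt}

/-- A block of `K` covering a block of `H ⊇ Q C_K(Q)` is induced by it. -/
theorem induced_sub_central_of_covers (hM : IsPModular p M) {Q H : Subgroup K} [Fintype H]
    [hQ : Q.Normal] (hQp : IsPGroup p Q) (hHn : H.Normal)
    (hCH : Subgroup.centralizer (Q : Set K) ≤ H) (χ : IrrCharacter K) (θ : IrrCharacter H)
    (hc : classInner (fun n : H => (χ : K → ℂ) n) (θ : H → ℂ) ≠ 0) (g : K) :
    MemLocalIdeal M (inducedCentralChar H (θ : H → ℂ) g - centralChar (χ : K → ℂ) g) := by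
  classical
  haveI := hM.2.1.isPrime
  by_cases hg : g ∈ H
  · rw [← centralChar_eq_induced_of_constituent hHn χ θ hc ⟨g, hg⟩, sub_self]
    exact memLocalIdeal_zero
  · have h3 : inducedCentralChar H (θ : H → ℂ) g = 0 := by
      rw [inducedCentralChar_eq_sum]
      refine Finset.sum_eq_zero fun h _ => ?_
      rw [classIndicator_of_not_conj]
      · simp
      · intro hcon
        obtain ⟨c, hc'⟩ := isConj_iff.mp hcon.symm
        apply hg
        rw [← hc']
        exact hHn.conj_mem _ h.2 c
    rw [h3, zero_sub]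
    refine memLocalIdeal_neg ?_
    refine Cfsg.Agent.Lib.BlockNormal.memLocalIdeal_centralChar_of_not_mem Q hQp hM χ g ?_
    exact fun h => hg (hCH h)

end Covers

section Trans

variable {G : Type u} [Group G] [Fintype G] {M : Ideal AlgInt} {L N : Subgroup G}
  [Fintype L] [Fintype N] [Fintype (L.subgroupOf N)]

/-- Transitivity of induction of central characters through `L ≤ N`. -/
theorem induced_sub_induced [M.IsPrime] (hLN : L ≤ N) (θ : IrrCharacter L) (χ : IrrCharacter N)
    (h : ∀ x : N, MemLocalIdeal M (inducedCentralChar (L.subgroupOf N)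
      (pull (Subgroup.subgroupOfEquivOfLe hLN) θ : L.subgroupOf N → ℂ) x - centralChar (χ : N → ℂ) x))
    (g : G) :
    MemLocalIdeal M (inducedCentralChar L (θ : L → ℂ) g - inducedCentralChar N (χ : N → ℂ) g) := by
  classical
  letI : Fintype (ConjClasses N) := Fintype.ofFinite _
  set e := Subgroup.subgroupOfEquivOfLe hLN with he
  set f : N → ℂ := fun n : N => (classIndicator g (n : G) : ℂ) with hf
  have hfc : IsClassFunction N f := by
    intro a b
    have h2 : IsConj g ((b * a * b⁻¹ : N) : G) ↔ IsConj g (a : G) := by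
      constructor
      · intro h
        refine h.trans (isConj_iff.mpr ⟨(b : G)⁻¹, ?_⟩)
        simp [mul_assoc]
      · intro h
        refine h.trans (isConj_iff.mpr ⟨(b : G), ?_⟩)
        simp
    by_cases hx : IsConj g (a : G)
    · simp only [hf]
      rw [classIndicator_of_conj hx, classIndicator_of_conj (h2.mpr hx)]
    · simp only [hf]
      rw [classIndicator_of_not_conj hx, classIndicator_of_not_conj (fun h => hx (h2.mp h))]
  have h1 : inducedCentralChar N (χ : N → ℂ) g = ∑ K : ConjClasses N, f (Quotient.out K) *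
      centralChar (χ : N → ℂ) (Quotient.out K) := by
    rw [inducedCentralChar_eq_omega]
    exact omega_eq_sum_classes χ hfc
  have h2 : inducedCentralChar L (θ : L → ℂ) g = ∑ K : ConjClasses N, f (Quotient.out K) *
      inducedCentralChar (L.subgroupOf N) (pull e θ : L.subgroupOf N → ℂ) (Quotient.out K) := by
    rw [← Cfsg.Agent.Lib.BlockInduced.sum_restrict_eq (L.subgroupOf N) _ hfc,
      inducedCentralChar_eq_sum]
    refine (Fintype.sum_equiv e.toEquiv _ _ fun x => ?_).symm
    have h3 : ((e x : L) : G) = ((x : N) : G) := rfl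
    simp only [hf, pull_apply, MulEquiv.toEquiv_eq_coe, EquivLike.coe_coe, map_one, h3]
  rw [h1, h2, ← Finset.sum_sub_distrib]
  refine memLocalIdeal_sum _ _ fun K _ => ?_
  rw [← mul_sub]
  exact memLocalIdeal_mul_left (memLocalRing_intCast _) (h _)

end Trans

section Main

variable {G : Type u} [Group G] [Fintype G] {p : ℕ} [Fact p.Prime] {M : Ideal AlgInt}
  {P : Subgroup G}

theorem le_normalizer_sup : P ⊔ Subgroup.centralizer (P : Set G) ≤ Subgroup.normalizer (P : Set G) :=
  sup_le Subgroup.le_normalizer (Subgroup.centralizer_le_normalizer _)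

/-- `N(P)` normalizes `P C(P)`. -/
theorem conj_mem_sup {n x : G} (hn : n ∈ Subgroup.normalizer (P : Set G))
    (hx : x ∈ P ⊔ Subgroup.centralizer (P : Set G)) :
    n * x * n⁻¹ ∈ P ⊔ Subgroup.centralizer (P : Set G) := by
  have h1 : (P ⊔ Subgroup.centralizer (P : Set G)).map (MulAut.conj n).toMonoidHom ≤
      P ⊔ Subgroup.centralizer (P : Set G) := by
    rw [Subgroup.map_sup]
    refine sup_le ?_ ?_
    · rintro _ ⟨y, hy, rfl⟩
      exact Subgroup.mem_sup_left ((Subgroup.mem_normalizer_iff.mp hn y).mp hy)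
    · rintro _ ⟨y, hy, rfl⟩
      exact Subgroup.mem_sup_right (conj_mem_centralizer_of_mem_normalizer hn hy)
  exact h1 ⟨x, hx, rfl⟩

theorem mem_normalizer_sup {n : G} (hn : n ∈ Subgroup.normalizer (P : Set G)) :
    n ∈ Subgroup.normalizer ((P ⊔ Subgroup.centralizer (P : Set G) : Subgroup G) : Set G) := by
  rw [Subgroup.mem_normalizer_iff]
  intro x
  refine ⟨fun hx => conj_mem_sup hn hx, fun hx => ?_⟩
  have := conj_mem_sup ((Subgroup.normalizer (P : Set G)).inv_mem hn) hx
  simpa [mul_assoc] using this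

local notation "N" => Subgroup.normalizer (P : Set G)

/-- **Extended first main theorem**, conjugacy part. -/
theorem exists_conj_of_induced (hM : IsPModular p M) (hP : IsPGroup p P)
    {B : Set (IrrCharacter G)} (hB : IsPBlock M B) (hPdef : IsDefectGroup p M B P)
    {L : Subgroup G} [Fintype L] (hLN : L ≤ N) (hCL : Subgroup.centralizer (P : Set G) ≤ L)
    (hnorm : ∀ n ∈ N, n ∈ Subgroup.normalizer (L : Set G))
    {b b' : Set (IrrCharacter L)}
    (hind : IsInducedBlock M L b B) (hind' : IsInducedBlock M L b' B) :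
    ∃ n ∈ N, ∀ θ ∈ b, ∃ θ' ∈ b', ∀ x : L, ∀ hx : n * (x : G) * n⁻¹ ∈ L,
      (θ' : L → ℂ) x = (θ : L → ℂ) ⟨n * (x : G) * n⁻¹, hx⟩ := by
  classical
  haveI := hM.2.1.isPrime
  have hPN : P ≤ N := Subgroup.le_normalizer
  letI : Fintype N := Fintype.ofFinite _
  letI : Fintype (L.subgroupOf N) := Fintype.ofFinite _
  set e := Subgroup.subgroupOfEquivOfLe hLN with he
  have hHn : (L.subgroupOf N).Normal := by
    constructor
    intro x hx n
    rw [Subgroup.mem_subgroupOf] at hx ⊢
    simpa using (Subgroup.mem_normalizer_iff.mp (hnorm n n.2) _).mp hx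
  haveI hQn : (P.subgroupOf N).Normal := normal_subgroupOf hPN le_rfl
  have hQp : IsPGroup p (P.subgroupOf N) :=
    IsPGroup.comap_of_injective hP (Subgroup.subtype _) (Subgroup.subtype_injective _)
  have hCH : Subgroup.centralizer ((P.subgroupOf N : Subgroup N) : Set N) ≤ L.subgroupOf N := by
    intro x hx
    rw [Subgroup.mem_subgroupOf]
    exact hCL ((centralizer_subgroupOf_iff hPN x).mp hx)
  -- a block of the normalizer over a block of `L`, inducing `B`
  have key : ∀ {c : Set (IrrCharacter L)}, IsInducedBlock M L c B → ∀ θ ∈ c, ∃ χ : IrrCharacter N,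
      classInner (fun n : L.subgroupOf N => (χ : N → ℂ) n) (pull e θ : L.subgroupOf N → ℂ) ≠ 0 ∧
      IsPBlock M (blockOf M (χ : N → ℂ)) ∧
      IsDefectGroup p M (blockOf M (χ : N → ℂ)) (P.subgroupOf N) ∧
      IsInducedBlock M N (blockOf M (χ : N → ℂ)) B := by
    intro c hc θ hθ
    obtain ⟨χ, hχ⟩ := exists_cover hHn (pull e θ)
    have h1 : ∀ x : N, MemLocalIdeal M (inducedCentralChar (L.subgroupOf N)
        (pull e θ : L.subgroupOf N → ℂ) x - centralChar (χ : N → ℂ) x) :=
      fun x => induced_sub_central_of_covers hM hQp hHn hCH χ _ hχ x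
    have h2 := induced_sub_induced hLN θ χ h1
    have hbl : IsPBlock M (blockOf M (χ : N → ℂ)) := ⟨χ, rfl⟩
    have hind2 : IsInducedBlock M N (blockOf M (χ : N → ℂ)) B := by
      refine ⟨hbl, hB, fun ξ hξ ψ hψ g => ?_⟩
      have h3 := inducedCentralChar_sub_of_sameBlock (M := M) N
        (sameBlock_symm (M := M) hξ) g
      have h4 := memLocalIdeal_sub_comm (h2 g)
      have h5 := hc.2.2 θ hθ ψ hψ g
      exact memLocalIdeal_sub_trans (memLocalIdeal_sub_trans h3 h4) h5
    refine ⟨χ, hχ, hbl, ?_, hind2⟩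
    obtain ⟨D, hD⟩ := exists_isDefectGroup hM hbl
    rwa [defect_eq_of_induced hM hB hPdef hPN le_rfl hind2 hD] at hD
  -- the two blocks
  obtain ⟨θ₀, hθ₀⟩ := id hind.1
  have hθ₀b : θ₀ ∈ b := mem_self_of_block hθ₀
  obtain ⟨θ₀', hθ₀'⟩ := id hind'.1
  have hθ₀b' : θ₀' ∈ b' := mem_self_of_block hθ₀'
  obtain ⟨χ, hχc, hχb, hχd, hχi⟩ := key hind θ₀ hθ₀b
  obtain ⟨χ', hχc', hχb', hχd', hχi'⟩ := key hind' θ₀' hθ₀b'
  have heq := fmt_unique hM hP hχb hχb' hχd hB hχi hχi'
  have hsb : SameBlock M (χ : N → ℂ) (χ' : N → ℂ) := by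
    have : χ' ∈ blockOf M (χ : N → ℂ) := by
      rw [heq]
      exact mem_blockOf_self χ'
    exact this
  -- conjugacy
  have hcong := memLocalIdeal_of_covers hHn hsb (sameBlock_refl (M := M) _) hχc
  have hcl : BlockClosed M (blockOf M (pull e θ₀ : L.subgroupOf N → ℂ)) :=
    blockClosed_of_isPBlock ⟨_, rfl⟩
  obtain ⟨g, hg⟩ := mem_orbitSet_of_congr hHn hcl (mem_blockOf_self (pull e θ₀)) hcong hχc'
  refine ⟨((g⁻¹ : N) : G), (g⁻¹ : N).2, fun θ hθ => ?_⟩
  set σ := (conjAut L ((g⁻¹ : N) : G) (hnorm _ (g⁻¹ : N).2)).symm with hσ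
  refine ⟨twist σ θ, ?_, fun x hx => ?_⟩
  · -- `θ` and `θ₀` in the same block, conjugate by `g⁻¹`
    have h1 : SameBlock M (θ₀ : L → ℂ) (θ : L → ℂ) := by
      rw [hθ₀] at hθ
      exact hθ
    have h2 : SameBlock M (pull e θ₀ : L.subgroupOf N → ℂ) (pull e θ : L.subgroupOf N → ℂ) :=
      sameBlock_pull e h1
    have h3 : SameBlock M (pull e θ₀ : L.subgroupOf N → ℂ)
        (conjIrr (L.subgroupOf N) hHn g (pull e θ₀') : L.subgroupOf N → ℂ) := hg
    have h4 := sameBlock_conjIrr (hN := hHn) (sameBlock_trans (sameBlock_symm h2) h3) g⁻¹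
    rw [conjIrr_inv_conjIrr] at h4
    have h5 : conjIrr (L.subgroupOf N) hHn g⁻¹ (pull e θ) = pull e (twist σ θ) := by
      apply Subtype.ext
      funext x
      rfl
    rw [h5] at h4
    have h6 := sameBlock_of_pull e h4
    rw [hθ₀']
    exact sameBlock_symm h6
  · rfl

end Main

end Cfsg.Agent.Lib.BlkExtFMT
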