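import Mathlib
import Cfsg.Prelude.Def_BrauerPairs
import Cfsg.Agent.Lib.BlockQ
import Cfsg.Agent.Lib.BlockDefect
import Cfsg.Agent.Lib.BrauerPair
import Cfsg.Agent.Lib.BlkOrth

/-!
# Blocks with central defect group

For a block `B` whose defect group `P` is central, all members of `B` agree on `p`-regular elements
with the unique member `χ₀` having `P` in its kernel.
-/

set_option autoImplicit false
set_option linter.unusedSectionVars false
set_option linter.unusedVariables false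
set_option linter.style.haveILetI false

namespace Cfsg.Agent.Lib.BlockCentral

open Cfsg Cfsg.Agent.Lib.CharBasic Cfsg.Agent.Lib.CharInd Cfsg.Agent.Lib.CharIntegrality
open Cfsg.Agent.Lib.BlockLocal Cfsg.Agent.Lib.BlockVal Cfsg.Agent.Lib.BlockIdem
open Cfsg.Agent.Lib.BlockOrtho Cfsg.Agent.Lib.BlockDefect Cfsg.Agent.Lib.BlockQ
open Cfsg.Agent.Lib.BrauerPair
open scoped ComplexConjugate

universe u

section Push

variable {G K : Type u} [Group G] [Fintype G] [Group K] [Fintype K] (π : G →* K)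

/-- The image in `ℂ K` of the element of `ℂ G` with coefficient function `a`. -/
noncomputable def pushF (a : G → ℂ) : K → ℂ :=
  fun z => ∑ y : G, @ite ℂ (π y = z) (Classical.propDecidable _) (a y) 0

theorem sum_pushF_mul (a : G → ℂ) (F : K → ℂ) :
    ∑ z : K, pushF π a z * F z = ∑ y : G, a y * F (π y) := by
  classical
  simp only [pushF, Finset.sum_mul]
  rw [Finset.sum_comm]
  refine Finset.sum_congr rfl fun y _ => ?_
  rw [Finset.sum_eq_single (π y)]
  · simp
  · intro z _ hz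
    rw [if_neg (fun h => hz h.symm), zero_mul]
  · intro h
    exact absurd (Finset.mem_univ _) h

theorem pushF_isClassFunction (hπ : Function.Surjective π) {a : G → ℂ}
    (ha : IsClassFunction G a) : IsClassFunction K (pushF π a) := by
  classical
  intro z b
  obtain ⟨b₀, rfl⟩ := hπ b
  unfold pushF
  rw [← Equiv.sum_comp (MulAut.conj b₀).toEquiv]
  refine Finset.sum_congr rfl fun y _ => ?_
  have h1 : (MulAut.conj b₀).toEquiv y = b₀ * y * b₀⁻¹ := rfl
  have h2 : π ((MulAut.conj b₀).toEquiv y) = π b₀ * z * (π b₀)⁻¹ ↔ π y = z := by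
    rw [h1, map_mul, map_mul, map_inv]
    constructor
    · intro h
      have := mul_left_cancel (mul_right_cancel h)
      exact this
    · intro h
      rw [h]
  by_cases hy : π y = z
  · refine (if_pos (h2.mpr hy)).trans ?_
    rw [if_pos hy, h1, ha]
  · refine (if_neg (fun h => hy (h2.mp h))).trans ?_
    rw [if_neg hy]

/-- Inflation of irreducible characters. -/
noncomputable def infl (hπ : Function.Surjective π) (ξ : IrrCharacter K) : IrrCharacter G :=
  ⟨(ξ : K → ℂ) ∘ π, isIrrCharacter_comp_of_surjective π hπ ξ.2⟩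

theorem infl_apply (hπ : Function.Surjective π) (ξ : IrrCharacter K) (x : G) :
    (infl π hπ ξ : G → ℂ) x = (ξ : K → ℂ) (π x) := rfl

theorem infl_one (hπ : Function.Surjective π) (ξ : IrrCharacter K) :
    (infl π hπ ξ : G → ℂ) 1 = (ξ : K → ℂ) 1 := by
  rw [infl_apply, map_one]

theorem charDegree_infl (hπ : Function.Surjective π) (ξ : IrrCharacter K) :
    charDegree (infl π hπ ξ : G → ℂ) = charDegree (ξ : K → ℂ) := by
  unfold charDegree
  rw [infl_one]

theorem omega_pushF (hπ : Function.Surjective π) (a : G → ℂ) (ξ : IrrCharacter K) :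
    omega (ξ : K → ℂ) (pushF π a) = omega (infl π hπ ξ : G → ℂ) a := by
  unfold omega
  rw [sum_pushF_mul, infl_one]
  rfl

end Push

section Regular

variable {G : Type u} [Group G] [Fintype G] {p : ℕ}

theorem eq_one_of_reg_mul (hp : p.Prime) {x u : G} (hx : ¬ p ∣ orderOf x) (hc : Commute x u)
    (hu : ∃ k : ℕ, orderOf u = p ^ k) (h : ¬ p ∣ orderOf (x * u)) : u = 1 := by
  obtain ⟨k, hk⟩ := hu
  have hcop : (orderOf x).Coprime (orderOf u) := by
    rw [hk]
    exact ((Nat.Prime.coprime_iff_not_dvd hp).mpr hx).symm.pow_right k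
  rw [hc.orderOf_mul_eq_mul_orderOf_of_coprime hcop, hk] at h
  have hk0 : k = 0 := by
    by_contra hne
    exact h (Dvd.dvd.mul_left (dvd_pow_self p hne) _)
  rw [hk0, pow_zero, orderOf_eq_one_iff] at hk
  exact hk

variable (P : Subgroup G)

theorem orderOf_of_mem_isPGroup (hp : p.Prime) (hPp : IsPGroup p P) {u : G} (hu : u ∈ P) :
    ∃ k : ℕ, orderOf u = p ^ k := by
  haveI : Fact p.Prime := ⟨hp⟩
  obtain ⟨k, hk⟩ := (IsPGroup.iff_orderOf.mp hPp) ⟨u, hu⟩
  exact ⟨k, by rw [← hk, Subgroup.orderOf_mk]⟩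

theorem normal_of_le_center (hPZ : P ≤ Subgroup.center G) : P.Normal := by
  refine ⟨fun n hn g => ?_⟩
  have h1 : g * n = n * g := (Subgroup.mem_center_iff.mp (hPZ hn)) g
  rw [h1, mul_inv_cancel_right]
  exact hn

variable [hPn : P.Normal]

/-- Regular elements of `G / P` lift to regular elements. -/
theorem exists_regular_lift (hp : p.Prime) (hPp : IsPGroup p P) (z : G ⧸ P)
    (hz : ¬ p ∣ orderOf z) : ∃ x : G, (x : G ⧸ P) = z ∧ ¬ p ∣ orderOf x := by
  obtain ⟨y, rfl⟩ := QuotientGroup.mk_surjective z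
  obtain ⟨w, hw⟩ := Cfsg.Agent.Lib.BlkOrth.exists_isPPart hp y
  obtain ⟨N, hN⟩ := Cfsg.Agent.Lib.BlkOrth.pPart_exists_pow hp hw
  obtain ⟨v, h1, h2, ⟨k, h3⟩, h4⟩ := hw
  refine ⟨v, ?_, h4⟩
  have h5 : ((w : G) : G ⧸ P) = 1 := by
    have h6 : ((w : G) : G ⧸ P) = ((y : G) : G ⧸ P) ^ N := by
      rw [← hN]
      rfl
    have h7 : orderOf ((w : G) : G ⧸ P) ∣ orderOf ((y : G) : G ⧸ P) := by
      rw [h6]
      exact orderOf_pow_dvd N
    have h8 : orderOf ((w : G) : G ⧸ P) ∣ p ^ k := by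
      rw [← h3]
      exact orderOf_map_dvd (QuotientGroup.mk' P) w
    obtain ⟨j, -, hj⟩ := (Nat.dvd_prime_pow hp).mp h8
    have hj0 : j = 0 := by
      by_contra hne
      exact hz ((dvd_pow_self p hne).trans (hj ▸ h7))
    rw [hj0, pow_zero, orderOf_eq_one_iff] at hj
    exact hj
  have h9 : ((w * v : G) : G ⧸ P) = (w : G ⧸ P) * (v : G ⧸ P) := rfl
  rw [← h1, h9, h5, one_mul]

theorem regular_lift_unique (hp : p.Prime) (hPp : IsPGroup p P) (hPZ : P ≤ Subgroup.center G)
    {x x' : G} (hx : ¬ p ∣ orderOf x) (hx' : ¬ p ∣ orderOf x') (h : (x : G ⧸ P) = (x' : G ⧸ P)) :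
    x = x' := by
  have h1 : x⁻¹ * x' ∈ P := QuotientGroup.eq.mp h
  have hc : Commute x (x⁻¹ * x') := (Subgroup.mem_center_iff.mp (hPZ h1)) x
  have h2 := eq_one_of_reg_mul hp hx hc (orderOf_of_mem_isPGroup P hp hPp h1) (by simpa using hx')
  rw [inv_mul_eq_one] at h2
  exact h2

theorem not_dvd_orderOf_mk {x : G} (hx : ¬ p ∣ orderOf x) : ¬ p ∣ orderOf (x : G ⧸ P) :=
  fun h => hx (h.trans (orderOf_map_dvd (QuotientGroup.mk' P) x))

/-- Summation over regular elements of `G` and of `G / P`. -/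
theorem sum_pRegularPart_comp [Fintype (G ⧸ P)] (hp : p.Prime) (hPp : IsPGroup p P)
    (hPZ : P ≤ Subgroup.center G) (H : G ⧸ P → ℂ) (hH : ∀ z, p ∣ orderOf z → H z = 0) :
    ∑ x : G, pRegularPart p (fun y : G => H (y : G ⧸ P)) x = ∑ z : G ⧸ P, H z := by
  classical
  have h1 : ∑ x : G, pRegularPart p (fun y : G => H (y : G ⧸ P)) x =
      ∑ x ∈ Finset.univ.filter (fun x : G => ¬ p ∣ orderOf x), H (x : G ⧸ P) := by
    rw [Finset.sum_filter]
    refine Finset.sum_congr rfl fun x _ => ?_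
    by_cases hx : p ∣ orderOf x
    · rw [pRegularPart_of_sing _ hx, if_neg (by simpa using hx)]
    · rw [pRegularPart_of_reg _ hx, if_pos hx]
  have h2 : ∑ z : G ⧸ P, H z =
      ∑ z ∈ Finset.univ.filter (fun z : G ⧸ P => ¬ p ∣ orderOf z), H z := by
    rw [Finset.sum_filter]
    refine Finset.sum_congr rfl fun z _ => ?_
    by_cases hz : p ∣ orderOf z
    · rw [hH z hz, if_neg (by simpa using hz)]
    · rw [if_pos hz]
  rw [h1, h2]
  refine Finset.sum_bij (fun x _ => (x : G ⧸ P)) ?_ ?_ ?_ ?_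
  · intro x hx
    simp only [Finset.mem_filter, Finset.mem_univ, true_and] at hx ⊢
    exact not_dvd_orderOf_mk P hx
  · intro x hx x' hx' h
    simp only [Finset.mem_filter, Finset.mem_univ, true_and] at hx hx'
    exact regular_lift_unique P hp hPp hPZ hx hx' h
  · intro z hz
    simp only [Finset.mem_filter, Finset.mem_univ, true_and] at hz
    obtain ⟨x, hx, hx'⟩ := exists_regular_lift P hp hPp z hz
    exact ⟨x, by simpa using hx', hx⟩
  · intro _ _
    rfl

end Regular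

section Main

variable {G : Type u} [Group G] [Fintype G] {p : ℕ} {M : Ideal AlgInt}

/-- `Σ_{τ ∈ B} τ(1) τ(y) = |G| a(y⁻¹)`, where `a` are the coefficients of the idempotent of `B`. -/
theorem sum_bF_mul_char (B : Set (IrrCharacter G)) (y : G) :
    ∑ τ ∈ bF B, (τ : G → ℂ) 1 * (τ : G → ℂ) y = (Nat.card G : ℂ) * blockCoeff B y⁻¹ := by
  have hG : (Nat.card G : ℂ) ≠ 0 := natCard_ne_zero'
  unfold blockCoeff
  rw [mul_inv_cancel_left₀ hG, finsum_mem_eq_sum_bF]
  refine Finset.sum_congr rfl fun τ _ => ?_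
  rw [char_conj_eq_inv (IsIrrCharacter.isCharacter τ.2), inv_inv]

/-- The structure of the idempotent of a block with central defect group. -/
theorem exists_char_of_central [hp : Fact p.Prime] (hM : IsPModular p M) {B : Set (IrrCharacter G)}
    (hB : IsPBlock M B) {P : Subgroup G} (hD : IsDefectGroup p M B P)
    (hPZ : P ≤ Subgroup.center G) : ∃ χ₀ ∈ B, ∀ x : G, blockCoeff B x =
      ((χ₀ : G → ℂ) 1 * (Nat.card P : ℂ) / (Nat.card G : ℂ)) * regInv p (χ₀ : G → ℂ) x := by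
  classical
  have hMp := hM.2.1.isPrime
  have hpp : p.Prime := hM.1
  have hcard := card_isDefectGroup hM hB hD
  have hPp : IsPGroup p P := isPGroup_of_card hcard
  haveI hPn : P.Normal := normal_of_le_center P hPZ
  letI : Fintype (G ⧸ P) := Fintype.ofFinite _
  let π : G →* (G ⧸ P) := QuotientGroup.mk' P
  have hπ : Function.Surjective π := QuotientGroup.mk'_surjective P
  set a := blockCoeff B with ha
  have hacl : IsClassFunction G a := blockCoeff_isClassFunction B
  have hasing : ∀ y, p ∣ orderOf y → a y = 0 := fun y hy => blockCoeff_eq_zero hM hB hy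
  have hāc := pushF_isClassFunction π hπ hacl
  have hpush : ∀ x, ¬ p ∣ orderOf x → pushF π a (π x) = a x := by
    intro x hx
    unfold pushF
    rw [Finset.sum_eq_single x]
    · rw [if_pos rfl]
    · intro y _ hy
      by_cases h : π y = π x
      · rw [if_pos h]
        apply hasing
        by_contra h2
        exact hy (regular_lift_unique P hpp hPp hPZ h2 hx h)
      · rw [if_neg h]
    · intro h
      exact absurd (Finset.mem_univ _) h
  have hω : ∀ ξ : IrrCharacter (G ⧸ P), omega (ξ : G ⧸ P → ℂ) (pushF π a) =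
      ind B (infl π hπ ξ) := by
    intro ξ
    rw [omega_pushF π hπ, ha, omega_blockCoeff]
  obtain ⟨g, hg, -⟩ := id hD
  have hg0 : a g ≠ 0 := ne_zero_of_not_memLocalIdeal hg.2.1
  have hgreg : ¬ p ∣ orderOf g := fun h => hg0 (hasing g h)
  have hā0 : pushF π a ≠ 0 := fun h => hg0 (by rw [← hpush g hgreg, h]; rfl)
  have hex : ∃ θ : IrrCharacter (G ⧸ P), infl π hπ θ ∈ B := by
    by_contra hcon
    push Not at hcon
    apply hā0
    rw [← invF_omega hāc]
    have : (fun χ : IrrCharacter (G ⧸ P) => omega (χ : G ⧸ P → ℂ) (pushF π a)) = 0 :=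
      funext fun ξ => by rw [hω, ind_of_not_mem (hcon ξ)]; rfl
    rw [this, invF_zero]
  obtain ⟨θ, hθ⟩ := hex
  -- defect zero
  have hcardK : Nat.card G = Nat.card (G ⧸ P) * Nat.card P :=
    Subgroup.card_eq_card_quotient_mul_card_subgroup P
  have hKfac : (Nat.card (G ⧸ P)).factorization p = minExp p B := by
    have h1 := card_factorization_eq (M := M) (p := p) hB
    rw [hcardK, Nat.factorization_mul Nat.card_pos.ne' Nat.card_pos.ne', hcard,
      Nat.factorization_pow] at h1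
    simp only [Finsupp.add_apply, Finsupp.smul_apply, hpp.factorization_self, smul_eq_mul,
      mul_one] at h1
    omega
  have hdz : ∀ ξ : IrrCharacter (G ⧸ P), infl π hπ ξ ∈ B →
      p ^ (Nat.card (G ⧸ P)).factorization p ∣ charDegree (ξ : G ⧸ P → ℂ) := by
    intro ξ hξ
    rw [hKfac, hpp.pow_dvd_iff_le_factorization (Cfsg.Agent.Lib.CharKernel.charDegree_ne_zero ξ.2),
      ← charDegree_infl π hπ ξ]
    exact minExp_le hξ
  have hsingle : blockOf M (θ : G ⧸ P → ℂ) = {θ} := by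
    ext ψ
    constructor
    · intro h
      exact eq_of_mem_blockOf_of_dvd hM (hdz θ hθ) h
    · rintro rfl
      exact mem_blockOf_self _
  have hbl : IsPBlock M ({θ} : Set (IrrCharacter (G ⧸ P))) := ⟨θ, hsingle.symm⟩
  have hec : blockCoeff ({θ} : Set (IrrCharacter (G ⧸ P))) = ec (θ : G ⧸ P → ℂ) := by
    apply classFunction_eq_of_omega (blockCoeff_isClassFunction _) (ec_isClassFunction θ.2)
    intro ξ
    rw [omega_blockCoeff, omega_ec θ.2 ξ.2]
    by_cases h : ξ = θ
    · rw [if_pos (congrArg _ h), ind_of_mem (by simp [h])]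
    · rw [if_neg (fun h2 => h (Subtype.ext h2)), ind_of_not_mem (by simpa using h)]
  set e := ec (θ : G ⧸ P → ℂ) with he
  have he0 : ∀ z, p ∣ orderOf z → e z = 0 := fun z hz => by
    rw [← hec]
    exact blockCoeff_eq_zero hM hbl hz
  have heR : ∀ z, MemLocalRing M (e z) := fun z => by
    rw [← hec]
    exact memLocalRing_blockCoeff hbl z
  have hecl : IsClassFunction (G ⧸ P) e := ec_isClassFunction θ.2
  -- the regular lift of `e`
  set f : G → ℂ := pRegularPart p (fun y : G => e (y : G ⧸ P)) with hf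
  have hfcl : IsClassFunction G f := by
    apply pRegularPart_isClassFunction
    intro x b
    show e ((b * x * b⁻¹ : G) : G ⧸ P) = e x
    exact hecl (x : G ⧸ P) (b : G ⧸ P)
  have hfR : ∀ x, MemLocalRing M (f x) := by
    intro x
    by_cases hx : p ∣ orderOf x
    · rw [hf, pRegularPart_of_sing _ hx]
      exact memLocalRing_zero
    · rw [hf, pRegularPart_of_reg _ hx]
      exact heR _
  have hfω : ∀ ξ : IrrCharacter (G ⧸ P), omega (infl π hπ ξ : G → ℂ) f =
      omega (ξ : G ⧸ P → ℂ) e := by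
    intro ξ
    unfold omega
    rw [infl_one]
    congr 1
    have h1 := sum_pRegularPart_comp P hpp hPp hPZ (fun z => e z * (ξ : G ⧸ P → ℂ) z)
      (fun z hz => by rw [he0 z hz, zero_mul])
    rw [← h1]
    refine Finset.sum_congr rfl fun x _ => ?_
    by_cases hx : p ∣ orderOf x
    · rw [hf, pRegularPart_of_sing _ hx, pRegularPart_of_sing _ hx, zero_mul]
    · rw [hf, pRegularPart_of_reg _ hx, pRegularPart_of_reg _ hx]
      rfl
  have huniq : ∀ ξ : IrrCharacter (G ⧸ P), infl π hπ ξ ∈ B → ξ = θ := by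
    intro ξ hξ
    by_contra hne
    have h1 := memLocalIdeal_sub_of_mem_Zc (mem_Zc_of_classFunction hfcl hfR)
      (sameBlock_of_mem hB hθ hξ)
    rw [hfω, hfω, he, omega_ec θ.2 θ.2, omega_ec θ.2 ξ.2, if_pos rfl,
      if_neg (fun h2 => hne (Subtype.ext h2)), sub_zero] at h1
    exact not_memLocalIdeal_one h1
  have hāe : pushF π a = e := by
    apply classFunction_eq_of_omega hāc hecl
    intro ξ
    rw [hω, he, omega_ec θ.2 ξ.2]
    by_cases h : ξ = θ
    · subst h
      rw [if_pos rfl, ind_of_mem hθ]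
    · rw [if_neg (fun h2 => h (Subtype.ext h2)), ind_of_not_mem (fun h2 => h (huniq ξ h2))]
  refine ⟨infl π hπ θ, hθ, fun x => ?_⟩
  have hGK : (Nat.card P : ℂ) / (Nat.card G : ℂ) = ((Nat.card (G ⧸ P) : ℕ) : ℂ)⁻¹ := by
    have h1 : (Nat.card P : ℂ) ≠ 0 := by exact_mod_cast Nat.card_pos.ne'
    have h2 : ((Nat.card (G ⧸ P) : ℕ) : ℂ) ≠ 0 := by exact_mod_cast Nat.card_pos.ne'
    rw [hcardK]
    push_cast
    field_simp
  unfold regInv
  by_cases hx : p ∣ orderOf x
  · have hx' : p ∣ orderOf x⁻¹ := by rwa [orderOf_inv]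
    rw [hasing x hx, pRegularPart_of_sing _ hx', mul_zero]
  · have hx' : ¬ p ∣ orderOf x⁻¹ := by rwa [orderOf_inv]
    rw [pRegularPart_of_reg _ hx', ← hpush x hx, hāe, infl_one, infl_apply, he]
    unfold ec
    have h3 : (θ : G ⧸ P → ℂ) 1 * (Nat.card P : ℂ) / (Nat.card G : ℂ) =
        (θ : G ⧸ P → ℂ) 1 * ((Nat.card (G ⧸ P) : ℕ) : ℂ)⁻¹ := by
      rw [mul_div_assoc, hGK]
    rw [map_inv, h3]
    ring

/-- The degrees of the members of a block with central defect group are multiples of `χ₀(1)`. -/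
theorem one_eq_mul_Q [hp : Fact p.Prime] (hM : IsPModular p M) {B : Set (IrrCharacter G)}
    (hB : IsPBlock M B) {P : Subgroup G} (hD : IsDefectGroup p M B P) {χ₀ : IrrCharacter G}
    (hχ₀ : ∀ x : G, blockCoeff B x =
      ((χ₀ : G → ℂ) 1 * (Nat.card P : ℂ) / (Nat.card G : ℂ)) * regInv p (χ₀ : G → ℂ) x)
    {τ : IrrCharacter G} (hτ : τ ∈ B) :
    (τ : G → ℂ) 1 = (χ₀ : G → ℂ) 1 * (Q p B χ₀ τ : ℂ) := by
  have hτ1 := irr_one_ne_zero' τ.2
  have h1 := omega_blockCoeff B τ
  rw [ind_of_mem hτ] at h1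
  unfold omega at h1
  rw [div_eq_one_iff_eq hτ1] at h1
  set S := ∑ g : G, regInv p (χ₀ : G → ℂ) g * (τ : G → ℂ) g with hS
  have h2 : (τ : G → ℂ) 1 = ((χ₀ : G → ℂ) 1 * (Nat.card P : ℂ) / (Nat.card G : ℂ)) * S := by
    rw [← h1, hS, Finset.mul_sum]
    refine Finset.sum_congr rfl fun g _ => ?_
    rw [hχ₀, mul_assoc]
  have h3 : (Q p B χ₀ τ : ℂ) = (Nat.card P : ℂ) * S / (Nat.card G : ℂ) := by
    rw [← Q_spec hM hB χ₀ hτ, classInner_eq_omega, card_isDefectGroup hM hB hD]
    unfold omega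
    rw [div_mul_cancel₀ _ hτ1]
    push_cast
    ring
  rw [h3]
  conv_lhs => rw [h2]
  ring

/-- **All members of a block with central defect group agree on `p`-regular elements.** -/
theorem eq_on_regular_of_central [hp : Fact p.Prime] (hM : IsPModular p M)
    {B : Set (IrrCharacter G)} (hB : IsPBlock M B) {P : Subgroup G} (hD : IsDefectGroup p M B P)
    (hPZ : P ≤ Subgroup.center G) : ∃ χ₀ ∈ B, ∀ τ ∈ B, ∀ x : G, ¬ p ∣ orderOf x →
      (τ : G → ℂ) x = (χ₀ : G → ℂ) x := by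
  classical
  have hMp := hM.2.1.isPrime
  have hpp : p.Prime := hM.1
  obtain ⟨χ₀, hχ₀B, hχ₀⟩ := exists_char_of_central hM hB hD hPZ
  refine ⟨χ₀, hχ₀B, fun τ hτ x hx => ?_⟩
  have hcard := card_isDefectGroup hM hB hD
  have hPp : IsPGroup p P := isPGroup_of_card hcard
  letI : Fintype P := Fintype.ofFinite P
  have hPC : (Nat.card P : ℂ) ≠ 0 := by exact_mod_cast Nat.card_pos.ne'
  have hG : (Nat.card G : ℂ) ≠ 0 := natCard_ne_zero'
  set n := (χ₀ : G → ℂ) 1 with hn
  have hn0 : n ≠ 0 := irr_one_ne_zero' χ₀.2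
  -- linear characters of `P`
  have hcomm : ∀ (ξ : IrrCharacter G) (y : G) (u : P),
      (ξ : G → ℂ) 1 * (ξ : G → ℂ) (y * u) = (ξ : G → ℂ) y * (ξ : G → ℂ) u := by
    intro ξ y u
    refine Cfsg.Agent.Lib.CharAvg.irr_mul_of_const ξ.2 y u _ fun b => ?_
    have h1 : b * (u : G) = u * b := (Subgroup.mem_center_iff.mp (hPZ u.2)) b
    rw [h1, mul_inv_cancel_right]
  set L : IrrCharacter G → P → ℂ := fun ξ u => (ξ : G → ℂ) u / (ξ : G → ℂ) 1 with hL
  have hL1 : ∀ ξ, L ξ 1 = 1 := fun ξ => by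
    simp only [hL, Subgroup.coe_one]
    exact div_self (irr_one_ne_zero' ξ.2)
  have hLm : ∀ ξ (u v : P), L ξ (u * v) = L ξ u * L ξ v := by
    intro ξ u v
    have h1 := hcomm ξ u v
    have h2 := irr_one_ne_zero' ξ.2
    simp only [hL, Subgroup.coe_mul]
    field_simp
    linear_combination h1
  have hxL : ∀ (ξ : IrrCharacter G) (y : G) (u : P),
      (ξ : G → ℂ) y * L ξ u = (ξ : G → ℂ) (y * u) := by
    intro ξ y u
    have h1 := hcomm ξ y u
    have h2 := irr_one_ne_zero' ξ.2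
    simp only [hL]
    field_simp
    linear_combination -h1
  set c : IrrCharacter G → ℂ := fun ξ => (Nat.card P : ℂ)⁻¹ * ∑ u : P, L ξ u * L τ u⁻¹ with hc
  have hcprop : ∀ ξ, c ξ = 0 ∨ c ξ = 1 := by
    intro ξ
    by_cases h : ∀ u : P, L ξ u * L τ u⁻¹ = 1
    · right
      simp only [hc, h, Finset.sum_const, Finset.card_univ, nsmul_eq_mul, mul_one]
      rw [Nat.card_eq_fintype_card] at hPC ⊢
      exact inv_mul_cancel₀ hPC
    · left
      push Not at h
      obtain ⟨v, hv⟩ := h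
      have h1 : (∑ u : P, L ξ u * L τ u⁻¹) * (L ξ v * L τ v⁻¹) = ∑ u : P, L ξ u * L τ u⁻¹ := by
        rw [Finset.sum_mul]
        conv_rhs => rw [← Equiv.sum_comp (Equiv.mulRight v)]
        refine Finset.sum_congr rfl fun u _ => ?_
        simp only [Equiv.coe_mulRight]
        have hab : (u * v)⁻¹ = u⁻¹ * v⁻¹ := by
          apply Subtype.ext
          have h2 : (u : G) * v = v * u := ((Subgroup.mem_center_iff.mp (hPZ v.2)) u).symm ▸ rfl
          simp only [Subgroup.coe_inv, Subgroup.coe_mul, mul_inv_rev]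
          have h3 : (v : G)⁻¹ * (u : G)⁻¹ = (u : G)⁻¹ * (v : G)⁻¹ := by
            rw [← mul_inv_rev, ← mul_inv_rev, h2]
          exact h3
        rw [hLm, hab, hLm]
        ring
      have h2 : ∑ u : P, L ξ u * L τ u⁻¹ = 0 := by
        have h3 : (∑ u : P, L ξ u * L τ u⁻¹) * (L ξ v * L τ v⁻¹ - 1) = 0 := by
          rw [mul_sub, h1, mul_one, sub_self]
        exact (mul_eq_zero.mp h3).resolve_right (sub_ne_zero.mpr hv)
      simp only [hc, h2, mul_zero]
  have hcτ : c τ = 1 := by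
    have h1 : ∀ u : P, L τ u * L τ u⁻¹ = 1 := fun u => by
      rw [← hLm, mul_inv_cancel, hL1]
    simp only [hc, h1, Finset.sum_const, Finset.card_univ, nsmul_eq_mul, mul_one]
    rw [Nat.card_eq_fintype_card] at hPC ⊢
    exact inv_mul_cancel₀ hPC
  -- the sum identity
  have hstar : ∀ y : G, ¬ p ∣ orderOf y → ∑ ξ ∈ bF B, (ξ : G → ℂ) 1 * (ξ : G → ℂ) y * c ξ =
      n * (χ₀ : G → ℂ) y := by
    intro y hy
    have h1 : ∀ ξ ∈ bF B, (ξ : G → ℂ) 1 * (ξ : G → ℂ) y * c ξ = (Nat.card P : ℂ)⁻¹ *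
        ∑ u : P, (ξ : G → ℂ) 1 * (ξ : G → ℂ) (y * u) * L τ u⁻¹ := by
      intro ξ _
      simp only [hc]
      rw [mul_left_comm, Finset.mul_sum]
      congr 1
      refine Finset.sum_congr rfl fun u _ => ?_
      rw [← hxL]
      ring
    rw [Finset.sum_congr rfl h1, ← Finset.mul_sum, Finset.sum_comm]
    have h2 : ∀ u : P, ∑ ξ ∈ bF B, (ξ : G → ℂ) 1 * (ξ : G → ℂ) (y * u) * L τ u⁻¹ =
        (Nat.card G : ℂ) * blockCoeff B (y * u)⁻¹ * L τ u⁻¹ := by
      intro u
      rw [← Finset.sum_mul, sum_bF_mul_char]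
    rw [Finset.sum_congr rfl (fun u _ => h2 u), Finset.sum_eq_single (1 : P)]
    · simp only [Subgroup.coe_one, mul_one, inv_one, hL1]
      rw [hχ₀, regInv, inv_inv, pRegularPart_of_reg _ hy]
      field_simp
    · intro u _ hu
      have hu1 : (u : G) ≠ 1 := fun h => hu (Subtype.ext h)
      have h3 : p ∣ orderOf (y * u) := by
        by_contra h4
        exact hu1 (eq_one_of_reg_mul hpp hy ((Subgroup.mem_center_iff.mp (hPZ u.2)) y)
          (orderOf_of_mem_isPGroup P hpp hPp u.2) h4)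
      rw [blockCoeff_eq_zero hM hB (by rwa [orderOf_inv]), mul_zero, zero_mul]
    · intro h
      exact absurd (Finset.mem_univ _) h
  -- at `1`
  have hone := hstar 1 (by simp [hpp.one_lt.ne'])
  have hdeg : ∀ ξ ∈ bF B, (ξ : G → ℂ) 1 = n * (Q p B χ₀ ξ : ℂ) := fun ξ hξ =>
    one_eq_mul_Q hM hB hD hχ₀ (mem_bF.mp hξ)
  have hone' : ∑ ξ ∈ bF B, ((Q p B χ₀ ξ : ℂ)) ^ 2 * c ξ = 1 := by
    have h1 : ∑ ξ ∈ bF B, (ξ : G → ℂ) 1 * (ξ : G → ℂ) 1 * c ξ = n * n * ∑ ξ ∈ bF B, ((Q p B χ₀ ξ : ℂ)) ^ 2 * c ξ := by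
      rw [Finset.mul_sum]
      refine Finset.sum_congr rfl fun ξ hξ => ?_
      rw [hdeg ξ hξ]
      ring
    rw [h1] at hone
    have h2 : n * n ≠ 0 := mul_ne_zero hn0 hn0
    apply mul_left_cancel₀ h2
    rw [hone, mul_one]
  -- so `τ` is alone
  have hτT : τ ∈ bF B := mem_bF.mpr hτ
  have hQne : ∀ ξ ∈ bF B, Q p B χ₀ ξ ≠ 0 := by
    intro ξ hξ h0
    have := hdeg ξ hξ
    rw [h0] at this
    simp only [Int.cast_zero, mul_zero] at this
    exact irr_one_ne_zero' ξ.2 this
  set S := (bF B).filter (fun ξ => c ξ = 1) with hS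
  have hsumS : ∑ ξ ∈ bF B, ((Q p B χ₀ ξ : ℂ)) ^ 2 * c ξ = ((∑ ξ ∈ S, (Q p B χ₀ ξ) ^ 2 : ℤ) : ℂ) := by
    rw [hS, Finset.sum_filter]
    push_cast
    refine Finset.sum_congr rfl fun ξ _ => ?_
    rcases hcprop ξ with h | h
    · rw [h, if_neg (by simp), mul_zero]
    · rw [h, if_pos rfl, mul_one]
  rw [hsumS] at hone'
  have hone'' : ∑ ξ ∈ S, (Q p B χ₀ ξ) ^ 2 = 1 := by exact_mod_cast hone'
  have hτS : τ ∈ S := by
    rw [hS, Finset.mem_filter]
    exact ⟨hτT, hcτ⟩
  have hpos : ∀ ξ ∈ S, 1 ≤ (Q p B χ₀ ξ) ^ 2 := by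
    intro ξ hξ
    have h1 := hQne ξ (Finset.mem_of_mem_filter ξ hξ)
    have h2 : 0 < (Q p B χ₀ ξ) ^ 2 := by positivity
    omega
  have huniq : ∀ ξ ∈ S, ξ = τ := by
    intro ξ hξ
    by_contra hne
    have h1 : ({τ, ξ} : Finset (IrrCharacter G)) ⊆ S := by
      intro a ha
      rcases Finset.mem_insert.mp ha with rfl | ha
      · exact hτS
      · rw [Finset.mem_singleton.mp ha]
        exact hξ
    have h2 := Finset.sum_le_sum_of_subset_of_nonneg h1
      (f := fun ξ => (Q p B χ₀ ξ) ^ 2) (fun i _ _ => sq_nonneg _)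
    rw [Finset.sum_pair (Ne.symm hne), hone''] at h2
    have h3 := hpos τ hτS
    have h4 := hpos ξ hξ
    omega
  have hSτ : S = {τ} := by
    ext ξ
    constructor
    · intro h
      exact Finset.mem_singleton.mpr (huniq ξ h)
    · intro h
      rw [Finset.mem_singleton.mp h]
      exact hτS
  rw [hSτ, Finset.sum_singleton] at hone''
  -- `τ(1) = n`
  have hQ1 : Q p B χ₀ τ = 1 := by
    have h1 := hdeg τ hτT
    have h2 : Q p B χ₀ τ = 1 ∨ Q p B χ₀ τ = -1 := by
      exact sq_eq_one_iff.mp hone''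
    rcases h2 with h2 | h2
    · exact h2
    · exfalso
      rw [h2] at h1
      have h3 : (τ : G → ℂ) 1 = (charDegree (τ : G → ℂ) : ℂ) :=
        Cfsg.Agent.Lib.CharKernel.one_eq_charDegree (IsIrrCharacter.isCharacter τ.2)
      have h4 : n = (charDegree (χ₀ : G → ℂ) : ℂ) :=
        Cfsg.Agent.Lib.CharKernel.one_eq_charDegree (IsIrrCharacter.isCharacter χ₀.2)
      rw [h3, h4] at h1
      have h5 : (charDegree (τ : G → ℂ) : ℤ) = (charDegree (χ₀ : G → ℂ) : ℤ) * (-1) := by
        exact_mod_cast h1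
      have h6 := Cfsg.Agent.Lib.CharKernel.charDegree_pos τ.2
      have h7 := Cfsg.Agent.Lib.CharKernel.charDegree_pos χ₀.2
      omega
  have hτn : (τ : G → ℂ) 1 = n := by
    rw [hdeg τ hτT, hQ1]
    simp
  -- conclusion
  have hfin := hstar x hx
  have h1 : ∑ ξ ∈ bF B, (ξ : G → ℂ) 1 * (ξ : G → ℂ) x * c ξ = (τ : G → ℂ) 1 * (τ : G → ℂ) x := by
    have h2 : ∑ ξ ∈ bF B, (ξ : G → ℂ) 1 * (ξ : G → ℂ) x * c ξ =
        ∑ ξ ∈ S, (ξ : G → ℂ) 1 * (ξ : G → ℂ) x := by
      rw [hS, Finset.sum_filter]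
      refine Finset.sum_congr rfl fun ξ _ => ?_
      rcases hcprop ξ with h | h
      · rw [h, if_neg (by simp), mul_zero]
      · rw [h, if_pos rfl, mul_one]
    rw [h2, hSτ, Finset.sum_singleton]
  rw [h1, hτn] at hfin
  exact mul_left_cancel₀ hn0 hfin

/-- A block with central defect group has `p`-regular rank one. -/
theorem blockRank_eq_one_of_central [hp : Fact p.Prime] (hM : IsPModular p M)
    {B : Set (IrrCharacter G)} (hB : IsPBlock M B) {P : Subgroup G} (hD : IsDefectGroup p M B P)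
    (hPZ : P ≤ Subgroup.center G) : blockRank p B = 1 := by
  classical
  obtain ⟨χ₀, hχ₀, h⟩ := eq_on_regular_of_central hM hB hD hPZ
  have hMp := hM.2.1.isPrime
  have himg : (fun χ : IrrCharacter G => pRegularPart p (χ : G → ℂ)) '' B =
      {pRegularPart p (χ₀ : G → ℂ)} := by
    ext f
    constructor
    · rintro ⟨τ, hτ, rfl⟩
      apply Set.mem_singleton_iff.mpr
      funext x
      show pRegularPart p (τ : G → ℂ) x = pRegularPart p (χ₀ : G → ℂ) x
      by_cases hx : p ∣ orderOf x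
      · rw [pRegularPart_of_sing _ hx, pRegularPart_of_sing _ hx]
      · rw [pRegularPart_of_reg _ hx, pRegularPart_of_reg _ hx, h τ hτ x hx]
    · intro hf
      exact ⟨χ₀, hχ₀, (Set.mem_singleton_iff.mp hf).symm⟩
  unfold blockRank
  rw [himg]
  apply finrank_span_singleton
  intro h0
  have h1 := congrFun h0 1
  rw [pRegularPart_of_reg _ (by simp [hM.1.one_lt.ne'])] at h1
  exact irr_one_ne_zero' χ₀.2 h1

end Main

end Cfsg.Agent.Lib.BlockCentral
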