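import Mathlib

/-!
# The arithmetic-geometric mean inequality over cyclotomic fields

If `R i` are non-zero algebraic integers in the field generated by `n`-th roots of unity and
`∑ R i * conj (R i)` is a rational number `N`, then the number of the `R i` is at most `N`.
-/

set_option autoImplicit false

namespace Cfsg.Agent.Lib.GalAmgm

open scoped ComplexConjugate
open Polynomial

/-- The subfield of `ℂ` generated by the `n`-th roots of unity. -/
noncomputable abbrev cycF (n : ℕ) : IntermediateField ℚ ℂ :=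
  IntermediateField.adjoin ℚ {z : ℂ | z ^ n = 1}

theorem conj_eq_inv_of_pow {n : ℕ} (hn : n ≠ 0) {z : ℂ} (hz : z ^ n = 1) : conj z = z⁻¹ := by
  have h1 : ‖z‖ = 1 := Complex.norm_eq_one_of_pow_eq_one hz hn
  rw [Complex.inv_eq_conj h1]

theorem rootSet_eq (n : ℕ) [NeZero n] :
    (X ^ n - 1 : ℚ[X]).rootSet ℂ = {z : ℂ | z ^ n = 1} := by
  ext z
  have hne : (X ^ n - 1 : ℚ[X]) ≠ 0 := by
    have := X_pow_sub_C_ne_zero (NeZero.pos n) (1 : ℚ)
    simpa using this
  simp [Polynomial.mem_rootSet, hne, sub_eq_zero]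

instance normal_cycF (n : ℕ) [NeZero n] : Normal ℚ (cycF n) := by
  have h := IntermediateField.adjoin_rootSet_isSplittingField (K := ℚ) (L := ℂ)
    (p := (X ^ n - 1 : ℚ[X])) (IsAlgClosed.splits _)
  rw [rootSet_eq n] at h
  haveI : IsSplittingField ℚ (cycF n) (X ^ n - 1 : ℚ[X]) := h
  exact Normal.of_isSplittingField (X ^ n - 1 : ℚ[X])

instance finite_cycF (n : ℕ) [NeZero n] : FiniteDimensional ℚ (cycF n) := by
  have h := IntermediateField.adjoin_rootSet_isSplittingField (K := ℚ) (L := ℂ)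
    (p := (X ^ n - 1 : ℚ[X])) (IsAlgClosed.splits _)
  rw [rootSet_eq n] at h
  haveI : IsSplittingField ℚ (cycF n) (X ^ n - 1 : ℚ[X]) := h
  exact Polynomial.IsSplittingField.finiteDimensional _ (X ^ n - 1 : ℚ[X])

/-- Complex conjugation as a `ℚ`-algebra map. -/
noncomputable def conjQ : ℂ →ₐ[ℚ] ℂ := (Complex.conjAe.restrictScalars ℚ : ℂ ≃ₐ[ℚ] ℂ).toAlgHom

theorem conjQ_apply (z : ℂ) : conjQ z = conj z := rfl

/-- Complex conjugation on the cyclotomic field. -/
noncomputable def conjF (n : ℕ) [NeZero n] : cycF n →ₐ[ℚ] cycF n := conjQ.restrictNormal (cycF n)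

theorem coe_conjF (n : ℕ) [NeZero n] (x : cycF n) : ((conjF n x : cycF n) : ℂ) = conj (x : ℂ) :=
  AlgHom.restrictNormal_commutes conjQ (cycF n) x

/-- Embeddings commute with the complex conjugation. -/
theorem emb_conjF (n : ℕ) [NeZero n] (φ : cycF n →ₐ[ℚ] ℂ) (x : cycF n) :
    φ (conjF n x) = conj (φ x) := by
  have h : φ.comp (conjF n) = conjQ.comp φ := by
    refine IntermediateField.algHom_ext_of_eq_adjoin _ rfl fun z hz => ?_
    have hz' : z ^ n = 1 := hz
    set a : cycF n := ⟨z, IntermediateField.subset_adjoin _ _ hz⟩ with ha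
    have h1 : a ^ n = 1 := by
      apply Subtype.ext
      simp [ha, hz']
    have h2 : conjF n a = a⁻¹ := by
      apply Subtype.ext
      rw [coe_conjF]
      simp only [IntermediateField.coe_inv]
      exact conj_eq_inv_of_pow (NeZero.ne n) hz'
    have h3 : (φ a) ^ n = 1 := by
      rw [← map_pow, h1, map_one]
    show φ (conjF n a) = conjQ (φ a)
    rw [h2, map_inv₀, conjQ_apply, conj_eq_inv_of_pow (NeZero.ne n) h3]
  exact DFunLike.congr_fun h x

/-- Elementary form of the arithmetic-geometric mean inequality. -/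
theorem card_le_sum_of_one_le_prod {κ : Type*} (s : Finset κ) (a : κ → ℝ)
    (ha : ∀ i ∈ s, 0 < a i) (hp : 1 ≤ ∏ i ∈ s, a i) : (s.card : ℝ) ≤ ∑ i ∈ s, a i := by
  have h1 : ∑ i ∈ s, Real.log (a i) = Real.log (∏ i ∈ s, a i) :=
    (Real.log_prod (fun i hi => (ha i hi).ne')).symm
  have h2 : 0 ≤ Real.log (∏ i ∈ s, a i) := Real.log_nonneg hp
  have h3 : ∑ i ∈ s, Real.log (a i) ≤ ∑ i ∈ s, (a i - 1) :=
    Finset.sum_le_sum fun i hi => Real.log_le_sub_one_of_pos (ha i hi)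
  rw [Finset.sum_sub_distrib] at h3
  simp only [Finset.sum_const, nsmul_eq_mul, mul_one] at h3
  linarith

/-- Over all the embeddings, a non-zero algebraic integer has mean square at least one. -/
theorem card_le_sum_norm_sq (n : ℕ) [NeZero n] (x : cycF n) (hint : IsIntegral ℤ (x : ℂ))
    (hne : x ≠ 0) :
    (Fintype.card (cycF n →ₐ[ℚ] ℂ) : ℝ) ≤ ∑ φ : cycF n →ₐ[ℚ] ℂ, ‖φ x‖ ^ 2 := by
  classical
  have hint' : IsIntegral ℤ x := by
    have : Function.Injective (algebraMap (cycF n) ℂ) := (algebraMap (cycF n) ℂ).injective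
    exact (isIntegral_algebraMap_iff this).mp hint
  have hnormint : IsIntegral ℤ (Algebra.norm ℚ x) := Algebra.isIntegral_norm ℚ hint'
  obtain ⟨z, hz⟩ := IsIntegrallyClosed.isIntegral_iff.mp hnormint
  have hz0 : z ≠ 0 := by
    intro h0
    have h1 : Algebra.norm ℚ x ≠ 0 := (Algebra.norm_ne_zero_iff).mpr hne
    apply h1
    rw [← hz, h0]
    simp
  have hprod : ∏ φ : cycF n →ₐ[ℚ] ℂ, φ x = (z : ℂ) := by
    rw [← Algebra.norm_eq_prod_embeddings ℚ ℂ x, ← hz]
    simp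
  have hpos : ∀ φ ∈ (Finset.univ : Finset (cycF n →ₐ[ℚ] ℂ)), 0 < ‖φ x‖ ^ 2 := by
    intro φ _
    have h2 : φ x ≠ 0 := by
      rwa [Ne, map_eq_zero]
    positivity
  have h := card_le_sum_of_one_le_prod Finset.univ (fun φ : cycF n →ₐ[ℚ] ℂ => ‖φ x‖ ^ 2) hpos ?_
  · simpa [Finset.card_univ] using h
  · rw [Finset.prod_pow, ← norm_prod, hprod, Complex.norm_intCast]
    have h3 : (1 : ℝ) ≤ |(z : ℝ)| := by
      exact_mod_cast Int.one_le_abs hz0
    nlinarith

/-- **Galois averaging.** -/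
theorem card_le_of_sum_mul_conj (n : ℕ) [NeZero n] {ι : Type*} (s : Finset ι) (R : ι → ℂ)
    (hR : ∀ i ∈ s, R i ∈ cycF n) (hint : ∀ i ∈ s, IsIntegral ℤ (R i)) (hne : ∀ i ∈ s, R i ≠ 0)
    (N : ℚ) (hN : ∑ i ∈ s, R i * conj (R i) = (N : ℂ)) : (s.card : ℝ) ≤ N := by
  classical
  -- lift to the field
  let α : ι → cycF n := fun i => if h : i ∈ s then ⟨R i, hR i h⟩ else 0
  have hα : ∀ i ∈ s, ((α i : cycF n) : ℂ) = R i := by
    intro i hi
    simp [α, hi]
  have hsum : ∑ i ∈ s, α i * conjF n (α i) = algebraMap ℚ (cycF n) N := by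
    apply Subtype.ext
    push_cast
    rw [show ((algebraMap ℚ (cycF n) N : cycF n) : ℂ) = (N : ℂ) from by simp]
    rw [← hN]
    refine Finset.sum_congr rfl fun i hi => ?_
    rw [coe_conjF, hα i hi]
  have hφ : ∀ φ : cycF n →ₐ[ℚ] ℂ, ∑ i ∈ s, ‖φ (α i)‖ ^ 2 = (N : ℝ) := by
    intro φ
    have h1 := congrArg φ hsum
    rw [map_sum, AlgHom.commutes] at h1
    have h2 : ∀ i ∈ s, φ (α i * conjF n (α i)) = ((‖φ (α i)‖ ^ 2 : ℝ) : ℂ) := by
      intro i _
      rw [map_mul, emb_conjF, Complex.mul_conj, Complex.normSq_eq_norm_sq]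
    rw [Finset.sum_congr rfl h2] at h1
    have h3 : ((∑ i ∈ s, ‖φ (α i)‖ ^ 2 : ℝ) : ℂ) = ((N : ℝ) : ℂ) := by
      push_cast at h1 ⊢
      rw [h1]
      simp
    exact Complex.ofReal_injective h3
  have hcard : (0 : ℝ) < Fintype.card (cycF n →ₐ[ℚ] ℂ) := by
    have : Nonempty (cycF n →ₐ[ℚ] ℂ) := ⟨(cycF n).val⟩
    exact_mod_cast Fintype.card_pos
  have h4 : ∀ i ∈ s, (Fintype.card (cycF n →ₐ[ℚ] ℂ) : ℝ) ≤ ∑ φ : cycF n →ₐ[ℚ] ℂ, ‖φ (α i)‖ ^ 2 := by
    intro i hi
    refine card_le_sum_norm_sq n (α i) ?_ ?_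
    · rw [hα i hi]
      exact hint i hi
    · intro h0
      apply hne i hi
      rw [← hα i hi, h0]
      simp
  have h5 := Finset.sum_le_sum h4
  rw [Finset.sum_const, Finset.sum_comm, nsmul_eq_mul] at h5
  simp_rw [hφ] at h5
  rw [Finset.sum_const, Finset.card_univ, nsmul_eq_mul, mul_comm] at h5
  exact le_of_mul_le_mul_left h5 hcard

/-- Roots of unity lie in the cyclotomic field. -/
theorem mem_cycF_of_pow {n : ℕ} {z : ℂ} (hz : z ^ n = 1) : z ∈ cycF n :=
  IntermediateField.subset_adjoin _ _ hz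

theorem natCast_mem_cycF (n m : ℕ) : (m : ℂ) ∈ cycF n := natCast_mem _ m

theorem intCast_mem_cycF (n : ℕ) (m : ℤ) : (m : ℂ) ∈ cycF n := intCast_mem _ m

end Cfsg.Agent.Lib.GalAmgm
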