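import Mathlib
import Cfsg.Agent.Lib.BlockSection
import Cfsg.Agent.Lib.BlockQ
import Cfsg.Agent.Lib.BlockInduced
import Cfsg.Agent.Lib.BlockOsima
import Cfsg.Agent.Lib.GalAmgm

/-!
# The contribution matrix of a major subsection

For a `p`-element `y` with centralizer `H`, a block `b` of `H` inducing the block `B` of `G`:
* `not_memLocalIdeal_W`: `ω_χ (χ⁰ inverse)` is a unit for a character of height zero;
* `not_memLocalIdeal_sum_Q`: the rank one property of `Q` modulo `M`.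
-/

set_option autoImplicit false
set_option linter.unusedSectionVars false
set_option linter.unusedVariables false
set_option linter.style.haveILetI false

namespace Cfsg.Agent.Lib.BlockMajor

open Cfsg Cfsg.Agent.Lib.CharBasic Cfsg.Agent.Lib.CharInd Cfsg.Agent.Lib.CharIntegrality
open Cfsg.Agent.Lib.BlockLocal Cfsg.Agent.Lib.BlockIdem Cfsg.Agent.Lib.BlockQ
open Cfsg.Agent.Lib.BlockOrtho Cfsg.Agent.Lib.BlockVal
open scoped ComplexConjugate

universe u

section Rank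
variable {G : Type u} [Group G] [Fintype G] {p : ℕ} {M : Ideal AlgInt}

/-- For a character of height zero, `ω_χ (χ⁰ inverse)` is a unit. -/
theorem not_memLocalIdeal_W (hM : IsPModular p M) {B : Set (IrrCharacter G)} (hB : IsPBlock M B)
    {χ₀ : IrrCharacter G} (hχ₀ : χ₀ ∈ B)
    (h0 : (charDegree (χ₀ : G → ℂ)).factorization p = minExp p B) :
    ¬ MemLocalIdeal M (omega (χ₀ : G → ℂ) (regInv p (χ₀ : G → ℂ))) := by
  classical
  have hMp := hM.2.1.isPrime
  have hp := hM.1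
  haveI : Fact p.Prime := ⟨hp⟩
  have hpC : (p : ℂ) ≠ 0 := by exact_mod_cast hp.ne_zero
  have hc := omega_regInv_mem_Zc (M := M) (p := p) (IsIrrCharacter.isCharacter χ₀.2)
  have hχ₀B : B = blockOf M (χ₀ : G → ℂ) := by
    obtain ⟨ξ, rfl⟩ := hB
    exact (blockOf_eq_of_mem hχ₀).symm
  have hsame : ∀ {ψ : IrrCharacter G}, ψ ∈ B → SameBlock M (χ₀ : G → ℂ) (ψ : G → ℂ) := by
    intro ψ hψ
    rw [hχ₀B] at hψ
    exact hψ
  intro hW
  have h1 : ∀ ψ ∈ bF B, (p : ℤ) ∣ Q p B χ₀ ψ := by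
    intro ψ hψ
    have hψ' := mem_bF.mp hψ
    obtain ⟨u, hu1, hu2, hu3⟩ := Q_formula hM hB hψ'
    rw [← memLocalIdeal_intCast_iff hM, hu3 χ₀]
    have h2 := memLocalIdeal_sub_of_mem_Zc hc (hsame hψ')
    have h3 : MemLocalIdeal M (omega (ψ : G → ℂ) (regInv p (χ₀ : G → ℂ))) := by
      have h4 := memLocalIdeal_sub hW h2
      simpa using h4
    exact memLocalIdeal_mul_left (memLocalRing_mul (memLocalRing_pow (memLocalRing_natCast _) _) hu1) h3
  choose! n hn using h1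
  have h5 := pow_dvd_sum_of_vanish (G := G) hp (bF B) n (by
    intro g hg
    have h6 := pow_mul_pRegularPart hM hB hχ₀ g
    rw [pRegularPart_of_sing _ hg, mul_zero] at h6
    have h7 : ∑ τ ∈ bF B, (Q p B χ₀ τ : ℂ) * (τ : G → ℂ) g =
        (p : ℂ) * ∑ τ ∈ bF B, (n τ : ℂ) * (τ : G → ℂ) g := by
      rw [Finset.mul_sum]
      refine Finset.sum_congr rfl fun τ hτ => ?_
      rw [hn τ hτ]
      push_cast
      ring
    rw [h7] at h6
    exact (mul_eq_zero.mp h6.symm).resolve_left hpC)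
  -- degree identity
  have h8 := pow_mul_pRegularPart hM hB hχ₀ 1
  rw [pRegularPart_of_reg _ (by simp [hp.one_lt.ne'])] at h8
  have h9 : (((p : ℤ) ^ blockDefect p B * (charDegree (χ₀ : G → ℂ) : ℤ) : ℤ) : ℂ) =
      (((p : ℤ) * ∑ τ ∈ bF B, n τ * (charDegree (τ : G → ℂ) : ℤ) : ℤ) : ℂ) := by
    push_cast
    rw [← Cfsg.Agent.Lib.CharKernel.one_eq_charDegree (IsIrrCharacter.isCharacter χ₀.2), h8,
      Finset.mul_sum]
    refine Finset.sum_congr rfl fun τ hτ => ?_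
    rw [hn τ hτ, Cfsg.Agent.Lib.CharKernel.one_eq_charDegree (IsIrrCharacter.isCharacter τ.2)]
    push_cast
    ring
  have h10 : (p : ℤ) ^ blockDefect p B * (charDegree (χ₀ : G → ℂ) : ℤ) =
      (p : ℤ) * ∑ τ ∈ bF B, n τ * (charDegree (τ : G → ℂ) : ℤ) := by exact_mod_cast h9
  have h11 : (p : ℤ) ^ ((Nat.card G).factorization p + 1) ∣
      (p : ℤ) ^ blockDefect p B * (charDegree (χ₀ : G → ℂ) : ℤ) := by
    rw [h10, pow_succ, mul_comm]
    exact mul_dvd_mul_left _ h5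
  have hd0 : charDegree (χ₀ : G → ℂ) ≠ 0 := Cfsg.Agent.Lib.CharKernel.charDegree_ne_zero χ₀.2
  have h12 : p ^ ((Nat.card G).factorization p + 1) ∣ p ^ blockDefect p B * charDegree (χ₀ : G → ℂ) := by
    exact_mod_cast h11
  have h13 := (hp.pow_dvd_iff_le_factorization (mul_ne_zero (pow_ne_zero _ hp.ne_zero) hd0)).mp h12
  rw [Nat.factorization_mul (pow_ne_zero _ hp.ne_zero) hd0, Nat.factorization_pow] at h13
  simp only [Finsupp.add_apply, Finsupp.smul_apply, hp.factorization_self, smul_eq_mul, mul_one] at h13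
  have h14 := card_factorization_eq (M := M) (p := p) hB
  omega

/-- The factor `p ^ d ξ(1) / |G|`. -/
noncomputable def gg (p : ℕ) (b : Set (IrrCharacter G)) (ξ : IrrCharacter G) : ℂ :=
  (p : ℂ) ^ blockDefect p b * (ξ : G → ℂ) 1 / (Nat.card G : ℂ)

theorem Q_eq_gg_mul (hM : IsPModular p M) {b : Set (IrrCharacter G)} (hb : IsPBlock M b)
    (ξ : IrrCharacter G) {ξ' : IrrCharacter G} (hξ' : ξ' ∈ b) :
    (Q p b ξ ξ' : ℂ) = gg p b ξ' * omega (ξ' : G → ℂ) (regInv p (ξ : G → ℂ)) := by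
  rw [← Q_spec hM hb ξ hξ', classInner_eq_omega]
  unfold gg
  ring

theorem memLocalRing_gg (hM : IsPModular p M) {b : Set (IrrCharacter G)} (hb : IsPBlock M b)
    {ξ : IrrCharacter G} (hξ : ξ ∈ b) : MemLocalRing M (gg p b ξ) := by
  have hMp := hM.2.1.isPrime
  obtain ⟨u, hu1, hu2, hu3⟩ := exists_unit_formula hM hb hξ
  unfold gg
  rw [hu3]
  exact memLocalRing_mul (memLocalRing_pow (memLocalRing_natCast _) _) hu1

theorem not_memLocalIdeal_gg (hM : IsPModular p M) {b : Set (IrrCharacter G)} (hb : IsPBlock M b)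
    {ξ : IrrCharacter G} (hξ : ξ ∈ b) (h0 : (charDegree (ξ : G → ℂ)).factorization p = minExp p b) :
    ¬ MemLocalIdeal M (gg p b ξ) := by
  have hMp := hM.2.1.isPrime
  obtain ⟨u, hu1, hu2, hu3⟩ := exists_unit_formula hM hb hξ
  have hh : blockHeight p b (ξ : G → ℂ) = 0 := by
    have := charDegree_factorization_eq (p := p) hξ
    omega
  unfold gg
  rw [hu3, hh, pow_zero, one_mul]
  exact hu2

/-- The rank one property of `Q` modulo `M`. -/
theorem not_memLocalIdeal_sum_Q (hM : IsPModular p M) {b : Set (IrrCharacter G)} (hb : IsPBlock M b)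
    {ξ₀ : IrrCharacter G} (hξ₀ : ξ₀ ∈ b)
    (h0 : (charDegree (ξ₀ : G → ℂ)).factorization p = minExp p b)
    (v w : IrrCharacter G → ℂ) (hv : ∀ ξ, MemLocalRing M (v ξ)) (hw : ∀ ξ, MemLocalRing M (w ξ))
    (hTv : ¬ MemLocalIdeal M (∑ ξ ∈ bF b, v ξ * omega (ξ₀ : G → ℂ) (regInv p (ξ : G → ℂ))))
    (hTw : ¬ MemLocalIdeal M (∑ ξ ∈ bF b, w ξ * omega (ξ₀ : G → ℂ) (regInv p (ξ : G → ℂ)))) :
    ¬ MemLocalIdeal M (∑ ξ ∈ bF b, ∑ ξ' ∈ bF b, v ξ * w ξ' * (Q p b ξ ξ' : ℂ)) := by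
  classical
  have hMp := hM.2.1.isPrime
  set W : IrrCharacter G → IrrCharacter G → ℂ :=
    fun ξ ξ' => omega (ξ' : G → ℂ) (regInv p (ξ : G → ℂ)) with hWdef
  have hWc : ∀ ξ : IrrCharacter G, (fun ψ : IrrCharacter G => W ξ ψ) ∈ Zc M := fun ξ =>
    omega_regInv_mem_Zc (IsIrrCharacter.isCharacter ξ.2)
  have hWR : ∀ ξ ξ', MemLocalRing M (W ξ ξ') := fun ξ ξ' => memLocalRing_of_mem_Zc (hWc ξ) ξ'
  have hsame : ∀ {ψ : IrrCharacter G}, ψ ∈ b → SameBlock M (ψ : G → ℂ) (ξ₀ : G → ℂ) := by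
    intro ψ hψ
    have hb0 : b = blockOf M (ψ : G → ℂ) := by
      obtain ⟨ξ, rfl⟩ := hb
      exact (blockOf_eq_of_mem hψ).symm
    rw [hb0] at hξ₀
    exact hξ₀
  have hWsub : ∀ ξ {ψ : IrrCharacter G}, ψ ∈ b → MemLocalIdeal M (W ξ ψ - W ξ ξ₀) := fun ξ _ hψ =>
    memLocalIdeal_sub_of_mem_Zc (hWc ξ) (hsame hψ)
  set T : (IrrCharacter G → ℂ) → ℂ := fun u => ∑ ξ ∈ bF b, u ξ * W ξ ξ₀ with hT
  set D : (IrrCharacter G → ℂ) → ℂ := fun u => ∑ ξ ∈ bF b, u ξ * gg p b ξ with hD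
  have hTR : ∀ u : IrrCharacter G → ℂ, (∀ ξ, MemLocalRing M (u ξ)) → MemLocalRing M (T u) := fun u hu =>
    memLocalRing_sum _ _ fun ξ _ => memLocalRing_mul (hu ξ) (hWR _ _)
  have hDR : ∀ u : IrrCharacter G → ℂ, (∀ ξ, MemLocalRing M (u ξ)) → MemLocalRing M (D u) := fun u hu =>
    memLocalRing_sum _ _ fun ξ hξ => memLocalRing_mul (hu ξ) (memLocalRing_gg hM hb (mem_bF.mp hξ))
  -- step 1
  have h1 : MemLocalIdeal M ((∑ ξ ∈ bF b, ∑ ξ' ∈ bF b, v ξ * w ξ' * (Q p b ξ ξ' : ℂ)) - T v * D w) := by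
    have h2 : T v * D w = ∑ ξ ∈ bF b, ∑ ξ' ∈ bF b, v ξ * w ξ' * (gg p b ξ' * W ξ ξ₀) := by
      simp only [hT, hD]
      rw [Finset.sum_mul_sum]
      refine Finset.sum_congr rfl fun ξ _ => Finset.sum_congr rfl fun ξ' _ => ?_
      ring
    rw [h2, ← Finset.sum_sub_distrib]
    refine memLocalIdeal_sum _ _ fun ξ _ => ?_
    rw [← Finset.sum_sub_distrib]
    refine memLocalIdeal_sum _ _ fun ξ' hξ' => ?_
    have hξ'b := mem_bF.mp hξ'
    rw [Q_eq_gg_mul hM hb ξ hξ'b, ← mul_sub, ← mul_sub]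
    exact memLocalIdeal_mul_left (memLocalRing_mul (hv ξ) (hw ξ'))
      (memLocalIdeal_mul_left (memLocalRing_gg hM hb hξ'b) (hWsub ξ hξ'b))
  -- step 2
  have h2 : MemLocalIdeal M (gg p b ξ₀ * T w - D w * W ξ₀ ξ₀) := by
    have h3 : gg p b ξ₀ * T w = ∑ ξ ∈ bF b, w ξ * (gg p b ξ * W ξ₀ ξ) := by
      simp only [hT]
      rw [Finset.mul_sum]
      refine Finset.sum_congr rfl fun ξ hξ => ?_
      have hξb := mem_bF.mp hξ
      have h4 := Q_eq_gg_mul hM hb ξ hξ₀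
      have h5 := Q_eq_gg_mul hM hb ξ₀ hξb
      rw [Q_symm hM hb hξb hξ₀, h5] at h4
      simp only [hWdef]
      rw [mul_left_comm, ← h4]
    have h4 : D w * W ξ₀ ξ₀ = ∑ ξ ∈ bF b, w ξ * (gg p b ξ * W ξ₀ ξ₀) := by
      simp only [hD]
      rw [Finset.sum_mul]
      refine Finset.sum_congr rfl fun ξ _ => ?_
      ring
    rw [h3, h4, ← Finset.sum_sub_distrib]
    refine memLocalIdeal_sum _ _ fun ξ hξ => ?_
    have hξb := mem_bF.mp hξ
    rw [← mul_sub, ← mul_sub]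
    exact memLocalIdeal_mul_left (hw ξ)
      (memLocalIdeal_mul_left (memLocalRing_gg hM hb hξb) (hWsub ξ₀ hξb))
  -- conclusion
  have hg := not_memLocalIdeal_gg hM hb hξ₀ h0
  have h3 : ¬ MemLocalIdeal M (gg p b ξ₀ * T w) := by
    intro h
    rcases (memLocalIdeal_mul_iff (memLocalRing_gg hM hb hξ₀) (hTR w hw)).mp h with h4 | h4
    · exact hg h4
    · exact hTw h4
  have h4 : ¬ MemLocalIdeal M (D w * W ξ₀ ξ₀) := not_memLocalIdeal_of_sub (memLocalIdeal_sub_comm h2) h3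
  have h5 : ¬ MemLocalIdeal M (D w) := fun h => h4 (memLocalIdeal_mul_right h (hWR _ _))
  have h6 : ¬ MemLocalIdeal M (T v * D w) := by
    intro h
    rcases (memLocalIdeal_mul_iff (hTR v hv) (hDR w hw)).mp h with h7 | h7
    · exact hTv h7
    · exact h5 h7
  exact not_memLocalIdeal_of_sub h1 h6

end Rank

section Central
variable {X : Type u} [Group X] [Fintype X]

theorem irr_mul_central {ξ : X → ℂ} (hξ : IsIrrCharacter X ξ) {z : X} (hz : ∀ c, z * c = c * z)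
    (c : X) : ξ (c * z) = ξ c * (ξ z / ξ 1) := by
  have h1 := Cfsg.Agent.Lib.CharAvg.irr_mul_of_const hξ c z (ξ (c * z)) (fun b => by
    rw [show b * z * b⁻¹ = z by rw [← hz b]; group])
  have h2 : ξ 1 ≠ 0 := irr_one_ne_zero' hξ
  field_simp
  rw [mul_comm, h1]

theorem om_pow {ξ : X → ℂ} (hξ : IsIrrCharacter X ξ) {z : X} (hz : ∀ c, z * c = c * z) (n : ℕ) :
    (ξ z / ξ 1) ^ n = ξ (z ^ n) / ξ 1 := by
  have h2 : ξ 1 ≠ 0 := irr_one_ne_zero' hξ
  induction n with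
  | zero => simp [h2]
  | succ n ih =>
    rw [pow_succ, ih, pow_succ, irr_mul_central hξ hz]
    ring

theorem om_root {ξ : X → ℂ} (hξ : IsIrrCharacter X ξ) {z : X} (hz : ∀ c, z * c = c * z) {n : ℕ}
    (hn : z ^ n = 1) : (ξ z / ξ 1) ^ n = 1 := by
  have h2 : ξ 1 ≠ 0 := irr_one_ne_zero' hξ
  rw [om_pow hξ hz, hn, div_self h2]

end Central

section Section
variable {G : Type u} [Group G] [Fintype G] {p : ℕ} [hpF : Fact p.Prime] {M : Ideal AlgInt}
variable {y : G} {H : Subgroup G} [Fintype H]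

open Cfsg.Agent.Lib.BlockSubsection

theorem mem_of_centralizer (hH : H = Subgroup.centralizer ({y} : Set G)) : y ∈ H :=
  mem_of_commute hH rfl

/-- `y` as an element of its centralizer. -/
def yH (hH : H = Subgroup.centralizer ({y} : Set G)) : H := ⟨y, mem_of_centralizer hH⟩

theorem yH_central (hH : H = Subgroup.centralizer ({y} : Set G)) (c : H) :
    yH hH * c = c * yH hH := by
  apply Subtype.ext
  exact commute_of_mem hH c.2

/-- The multiplicity of `ξ` in the restriction of `χ`. -/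
noncomputable def mult (H : Subgroup G) [Fintype H] (χ : IrrCharacter G) (ξ : IrrCharacter H) : ℕ :=
  Classical.choose (classInner_char_irr (isCharacter_restrict H (IsIrrCharacter.isCharacter χ.2)) ξ.2)

theorem mult_spec (χ : IrrCharacter G) (ξ : IrrCharacter H) :
    classInner (fun h : H => (χ : G → ℂ) h) (ξ : H → ℂ) = (mult H χ ξ : ℂ) :=
  Classical.choose_spec
    (classInner_char_irr (isCharacter_restrict H (IsIrrCharacter.isCharacter χ.2)) ξ.2)

/-- The root of unity of `ξ` at `y`. -/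
noncomputable def om (hH : H = Subgroup.centralizer ({y} : Set G)) (ξ : IrrCharacter H) : ℂ :=
  (ξ : H → ℂ) (yH hH) / (ξ : H → ℂ) 1

theorem om_pow_eq_one (hH : H = Subgroup.centralizer ({y} : Set G)) (ξ : IrrCharacter H) {n : ℕ}
    (hn : y ^ n = 1) : om hH ξ ^ n = 1 := by
  apply om_root ξ.2 (yH_central hH)
  apply Subtype.ext
  simpa [yH] using hn

theorem classInner_thetaZ (hH : H = Subgroup.centralizer ({y} : Set G)) (χ : IrrCharacter G)
    (ξ : IrrCharacter H) :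
    classInner (thetaZ (χ : G → ℂ) y H) (ξ : H → ℂ) = (mult H χ ξ : ℂ) * om hH ξ := by
  rw [← mult_spec]
  unfold classInner
  rw [mul_assoc]
  congr 1
  have hξc := IsIrrCharacter.isCharacter ξ.2
  rw [← Equiv.sum_comp (Equiv.mulLeft (yH hH)⁻¹)]
  rw [Finset.sum_mul]
  refine Finset.sum_congr rfl fun c _ => ?_
  simp only [Equiv.coe_mulLeft, thetaZ]
  have h1 : y * (((yH hH)⁻¹ * c : H) : G) = c := by
    simp [yH]
  rw [h1, mul_assoc]
  congr 1
  rw [char_conj_eq_inv hξc, char_conj_eq_inv hξc]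
  have h2 : ((yH hH)⁻¹ * c)⁻¹ = c⁻¹ * yH hH := by group
  rw [h2, irr_mul_central ξ.2 (yH_central hH)]
  rfl

/-- The coefficient of `ξ` in the `b`-part of `c ↦ χ (y c)`. -/
noncomputable def vv (hH : H = Subgroup.centralizer ({y} : Set G)) (χ : IrrCharacter G)
    (ξ : IrrCharacter H) : ℂ := (mult H χ ξ : ℂ) * om hH ξ

theorem blockPart_eq_bF (b : Set (IrrCharacter H)) (ϑ : H → ℂ) (s : H) :
    blockPart b ϑ s = ∑ ξ ∈ bF b, classInner ϑ (ξ : H → ℂ) * (ξ : H → ℂ) s := by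
  classical
  rw [Cfsg.Agent.Lib.BlkOrth.blockPart_eq', ← finsum_mem_eq_sum_bF,
    Cfsg.Agent.Lib.BlkBasic.finsum_mem_eq_sum_blkInd]
  refine Finset.sum_congr rfl fun ξ _ => ?_
  ring

/-- The `b`-part of `c ↦ χ (y c)`. -/
noncomputable def th (hH : H = Subgroup.centralizer ({y} : Set G)) (b : Set (IrrCharacter H))
    (χ : IrrCharacter G) : H → ℂ := blockPart b (thetaZ (χ : G → ℂ) y H)

theorem th_eq (hH : H = Subgroup.centralizer ({y} : Set G)) (b : Set (IrrCharacter H))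
    (χ : IrrCharacter G) (s : H) :
    th hH b χ s = ∑ ξ ∈ bF b, vv hH χ ξ * (ξ : H → ℂ) s := by
  unfold th vv
  rw [blockPart_eq_bF]
  refine Finset.sum_congr rfl fun ξ _ => ?_
  rw [classInner_thetaZ]

/-- Bilinear expansion of the regular inner product. -/
theorem classInner_pReg_expand {X : Type u} [Group X] [Fintype X] (F : Finset (IrrCharacter X))
    (a c : IrrCharacter X → ℂ) {α β : X → ℂ}
    (hα : ∀ s, α s = ∑ ξ ∈ F, a ξ * (ξ : X → ℂ) s) (hβ : ∀ s, β s = ∑ ξ ∈ F, c ξ * (ξ : X → ℂ) s) :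
    classInner (pRegularPart p α) β = ∑ ξ ∈ F, ∑ ξ' ∈ F, a ξ * conj (c ξ') *
      classInner (pRegularPart p (ξ : X → ℂ)) (ξ' : X → ℂ) := by
  classical
  have h1 : ∀ s, pRegularPart p α s = ∑ ξ ∈ F, a ξ * pRegularPart p (ξ : X → ℂ) s := by
    intro s
    by_cases hs : p ∣ orderOf s
    · simp [pRegularPart_of_sing _ hs]
    · simp only [pRegularPart_of_reg _ hs]
      exact hα s
  unfold classInner
  simp_rw [h1, hβ, map_sum, Finset.sum_mul_sum, map_mul]
  simp_rw [Finset.mul_sum]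
  rw [Finset.sum_comm]
  refine Finset.sum_congr rfl fun ξ _ => ?_
  rw [Finset.sum_comm]
  refine Finset.sum_congr rfl fun ξ' _ => ?_
  refine Finset.sum_congr rfl fun s _ => ?_
  ring

/-- The contribution `p ^ d (χ_y⁰, ψ_y)`. -/
noncomputable def RR (p : ℕ) (hH : H = Subgroup.centralizer ({y} : Set G)) (b : Set (IrrCharacter H))
    (χ ψ : IrrCharacter G) : ℂ :=
  (p : ℂ) ^ blockDefect p b * classInner (pRegularPart p (th hH b χ)) (th hH b ψ)

theorem RR_eq (hM : IsPModular p M) (hH : H = Subgroup.centralizer ({y} : Set G))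
    {b : Set (IrrCharacter H)} (hb : IsPBlock M b) (χ ψ : IrrCharacter G) :
    RR p hH b χ ψ = ∑ ξ ∈ bF b, ∑ ξ' ∈ bF b, vv hH χ ξ * conj (vv hH ψ ξ') * (Q p b ξ ξ' : ℂ) := by
  unfold RR
  rw [classInner_pReg_expand (bF b) (vv hH χ) (vv hH ψ) (th_eq hH b χ) (th_eq hH b ψ), Finset.mul_sum]
  refine Finset.sum_congr rfl fun ξ _ => ?_
  rw [Finset.mul_sum]
  refine Finset.sum_congr rfl fun ξ' hξ' => ?_
  rw [← Q_spec hM hb ξ (mem_bF.mp hξ')]
  ring

theorem conj_om_pow (hH : H = Subgroup.centralizer ({y} : Set G)) (ξ : IrrCharacter H) {n : ℕ}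
    (hn : y ^ n = 1) : conj (om hH ξ) ^ n = 1 := by
  rw [← map_pow, om_pow_eq_one hH ξ hn, map_one]

theorem conj_vv (hH : H = Subgroup.centralizer ({y} : Set G)) (ψ : IrrCharacter G) (ξ : IrrCharacter H) :
    conj (vv hH ψ ξ) = (mult H ψ ξ : ℂ) * conj (om hH ξ) := by
  unfold vv
  rw [map_mul, map_natCast]

theorem isIntegral_of_root {z : ℂ} {n : ℕ} (hn : n ≠ 0) (hz : z ^ n = 1) : IsIntegral ℤ z :=
  IsIntegral.of_pow (Nat.pos_of_ne_zero hn) (by rw [hz]; exact isIntegral_one)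

/-- Integrality of the contribution. -/
theorem isIntegral_RR (hM : IsPModular p M) (hH : H = Subgroup.centralizer ({y} : Set G))
    {b : Set (IrrCharacter H)} (hb : IsPBlock M b) (χ ψ : IrrCharacter G) {n : ℕ} (hn0 : n ≠ 0)
    (hn : y ^ n = 1) : IsIntegral ℤ (RR p hH b χ ψ) := by
  rw [RR_eq hM hH hb]
  refine IsIntegral.sum _ fun ξ _ => IsIntegral.sum _ fun ξ' _ => ?_
  rw [conj_vv]
  unfold vv
  refine IsIntegral.mul (IsIntegral.mul (IsIntegral.mul (isIntegral_natCast _) ?_) (IsIntegral.mul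
    (isIntegral_natCast _) ?_)) (isIntegral_intCast _)
  · exact isIntegral_of_root hn0 (om_pow_eq_one hH ξ hn)
  · exact isIntegral_of_root hn0 (conj_om_pow hH ξ' hn)

open Cfsg.Agent.Lib.GalAmgm in
/-- The contribution lies in a cyclotomic field. -/
theorem RR_mem_cycF (hM : IsPModular p M) (hH : H = Subgroup.centralizer ({y} : Set G))
    {b : Set (IrrCharacter H)} (hb : IsPBlock M b) (χ ψ : IrrCharacter G) {n : ℕ}
    (hn : y ^ n = 1) : RR p hH b χ ψ ∈ cycF n := by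
  rw [RR_eq hM hH hb]
  refine sum_mem fun ξ _ => sum_mem fun ξ' _ => ?_
  rw [conj_vv]
  unfold vv
  refine mul_mem (mul_mem (mul_mem (natCast_mem_cycF n _) ?_) (mul_mem (natCast_mem_cycF n _) ?_))
    (intCast_mem_cycF n _)
  · exact mem_cycF_of_pow (om_pow_eq_one hH ξ hn)
  · exact mem_cycF_of_pow (conj_om_pow hH ξ' hn)

omit [Fintype G] in
theorem regInv_restrict [Fintype G] (H : Subgroup G) [Fintype H] (χ : G → ℂ) :
    regInv p (fun h : H => χ h) = fun h : H => regInv p χ h := by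
  funext h
  unfold regInv
  by_cases hh : p ∣ orderOf h⁻¹
  · rw [pRegularPart_of_sing _ hh, pRegularPart_of_sing]
    rw [orderOf_inv] at hh ⊢
    rwa [Subgroup.orderOf_coe]
  · rw [pRegularPart_of_reg _ hh, pRegularPart_of_reg]
    · simp
    · rw [orderOf_inv] at hh ⊢
      rwa [Subgroup.orderOf_coe]

theorem omega_regInv_eq_zero (hM : IsPModular p M) {b : Set (IrrCharacter H)} (hb : IsPBlock M b)
    {ξ₀ κ : IrrCharacter H} (hξ₀ : ξ₀ ∈ b) (hκ : κ ∉ b) :
    omega (ξ₀ : H → ℂ) (regInv p (κ : H → ℂ)) = 0 := by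
  have hMp := hM.2.1.isPrime
  have h1 : ξ₀ ∉ blockOf M (κ : H → ℂ) := by
    intro h
    apply hκ
    obtain ⟨ξ, rfl⟩ := hb
    have h2 := blockOf_eq_of_mem hξ₀
    rw [← h2]
    exact sameBlock_symm h
  have h2 := classInner_pRegularPart_eq_zero hM (B := blockOf M (κ : H → ℂ)) ⟨κ, rfl⟩
    (mem_blockOf_self κ) h1
  rw [classInner_eq_omega] at h2
  have h3 := irr_one_ne_zero' ξ₀.2
  have h4 : (Nat.card H : ℂ) ≠ 0 := by exact_mod_cast Nat.card_pos.ne'
  rw [div_eq_zero_iff] at h2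
  rcases h2 with h2 | h2
  · exact (mul_eq_zero.mp h2).resolve_right h3
  · exact absurd h2 h4

theorem sum_mult_W (hM : IsPModular p M) {b : Set (IrrCharacter H)} (hb : IsPBlock M b)
    {ξ₀ : IrrCharacter H} (hξ₀ : ξ₀ ∈ b) (χ : IrrCharacter G) :
    ∑ ξ ∈ bF b, (mult H χ ξ : ℂ) * omega (ξ₀ : H → ℂ) (regInv p (ξ : H → ℂ)) =
      omega (ξ₀ : H → ℂ) (fun h : H => regInv p (χ : G → ℂ) h) := by
  classical
  have hcl := isClassFunction_of_isCharacter (isCharacter_restrict H (IsIrrCharacter.isCharacter χ.2))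
  have h1 := classFunction_eq_sum hcl
  have h2 : regInv p (fun h : H => (χ : G → ℂ) h) =
      ∑ κ : IrrCharacter H, (mult H χ κ : ℂ) • regInv p (κ : H → ℂ) := by
    funext h
    rw [Finset.sum_apply]
    simp only [Pi.smul_apply, smul_eq_mul]
    unfold regInv
    by_cases hh : p ∣ orderOf h⁻¹
    · simp [pRegularPart_of_sing _ hh]
    · simp only [pRegularPart_of_reg _ hh]
      have h3 := congrFun h1 h⁻¹
      rw [Finset.sum_apply] at h3
      rw [h3]
      refine Finset.sum_congr rfl fun κ _ => ?_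
      simp only [Pi.smul_apply, smul_eq_mul]
      rw [mult_spec]
  rw [← regInv_restrict, h2, omega_sum]
  simp_rw [omega_smul]
  apply Finset.sum_subset (Finset.subset_univ _)
  intro κ _ hκ
  rw [omega_regInv_eq_zero hM hb hξ₀ (fun h => hκ (mem_bF.mpr h)), mul_zero]

theorem not_memLocalIdeal_T (hM : IsPModular p M) {b : Set (IrrCharacter H)}
    {B : Set (IrrCharacter G)} (hind : IsInducedBlock M H b B) {ξ₀ : IrrCharacter H} (hξ₀ : ξ₀ ∈ b)
    {χ : IrrCharacter G} (hχ : χ ∈ B)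
    (h0 : (charDegree (χ : G → ℂ)).factorization p = minExp p B)
    (o : IrrCharacter H → ℂ) (ho : ∀ ξ, MemLocalIdeal M (o ξ - 1)) :
    ¬ MemLocalIdeal M (∑ ξ ∈ bF b, ((mult H χ ξ : ℂ) * o ξ) *
      omega (ξ₀ : H → ℂ) (regInv p (ξ : H → ℂ))) := by
  classical
  have hMp := hM.2.1.isPrime
  have hb := hind.1
  have hW := not_memLocalIdeal_W hM hind.2.1 hχ h0
  have hWR : ∀ ξ : IrrCharacter H, MemLocalRing M (omega (ξ₀ : H → ℂ) (regInv p (ξ : H → ℂ))) := fun ξ =>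
    memLocalRing_of_mem_Zc (omega_regInv_mem_Zc (IsIrrCharacter.isCharacter ξ.2)) ξ₀
  have h1 : MemLocalIdeal M ((∑ ξ ∈ bF b, ((mult H χ ξ : ℂ) * o ξ) *
      omega (ξ₀ : H → ℂ) (regInv p (ξ : H → ℂ))) -
      ∑ ξ ∈ bF b, (mult H χ ξ : ℂ) * omega (ξ₀ : H → ℂ) (regInv p (ξ : H → ℂ))) := by
    rw [← Finset.sum_sub_distrib]
    refine memLocalIdeal_sum _ _ fun ξ _ => ?_
    have h2 : ((mult H χ ξ : ℂ) * o ξ) * omega (ξ₀ : H → ℂ) (regInv p (ξ : H → ℂ)) -
        (mult H χ ξ : ℂ) * omega (ξ₀ : H → ℂ) (regInv p (ξ : H → ℂ)) =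
        (mult H χ ξ : ℂ) * ((o ξ - 1) * omega (ξ₀ : H → ℂ) (regInv p (ξ : H → ℂ))) := by ring
    rw [h2]
    exact memLocalIdeal_mul_left (memLocalRing_natCast _) (memLocalIdeal_mul_right (ho ξ) (hWR ξ))
  rw [sum_mult_W hM hb hξ₀] at h1
  have h3 := Cfsg.Agent.Lib.BlockInduced.memLocalIdeal_trunc_sub H (ξ₀ : H → ℂ) χ
    (hind.2.2 ξ₀ hξ₀ χ hχ)
    (regInv_isClassFunction (p := p) (isClassFunction_of_isCharacter (IsIrrCharacter.isCharacter χ.2)))
    (memLocalRing_regInv (p := p) (IsIrrCharacter.isCharacter χ.2))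
  have h4 : omega (ξ₀ : H → ℂ) (fun h : H => regInv p (χ : G → ℂ) h) =
      ∑ h : H, regInv p (χ : G → ℂ) h * (ξ₀ : H → ℂ) h / (ξ₀ : H → ℂ) 1 := by
    unfold omega
    rw [Finset.sum_div]
  rw [← h4] at h3
  exact not_memLocalIdeal_of_sub h1 (not_memLocalIdeal_of_sub h3 hW)

theorem not_memLocalIdeal_RR (hM : IsPModular p M) (hH : H = Subgroup.centralizer ({y} : Set G))
    (hy : ∃ k : ℕ, orderOf y = p ^ k) {b : Set (IrrCharacter H)}
    {B : Set (IrrCharacter G)} (hind : IsInducedBlock M H b B) {χ ψ : IrrCharacter G}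
    (hχ : χ ∈ B) (hψ : ψ ∈ B)
    (h0χ : (charDegree (χ : G → ℂ)).factorization p = minExp p B)
    (h0ψ : (charDegree (ψ : G → ℂ)).factorization p = minExp p B) :
    ¬ MemLocalIdeal M (RR p hH b χ ψ) := by
  classical
  have hMp := hM.2.1.isPrime
  have hb := hind.1
  obtain ⟨k, hk⟩ := hy
  have hn : y ^ (p ^ k) = 1 := by rw [← hk]; exact pow_orderOf_eq_one y
  obtain ⟨ξ₀, hξ₀, h0⟩ := exists_minExp (p := p) hb
  have hv : ∀ ξ, MemLocalRing M (vv hH χ ξ) := fun ξ => by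
    unfold vv
    refine memLocalRing_mul (memLocalRing_natCast _) (memLocalRing_of_isIntegral ?_)
    exact isIntegral_of_root (pow_ne_zero _ hpF.out.ne_zero) (om_pow_eq_one hH ξ hn)
  have hw : ∀ ξ, MemLocalRing M (conj (vv hH ψ ξ)) := fun ξ => by
    rw [conj_vv]
    refine memLocalRing_mul (memLocalRing_natCast _) (memLocalRing_of_isIntegral ?_)
    exact isIntegral_of_root (pow_ne_zero _ hpF.out.ne_zero) (conj_om_pow hH ξ hn)
  rw [RR_eq hM hH hb]
  refine not_memLocalIdeal_sum_Q hM hb hξ₀ h0 (vv hH χ) (fun ξ => conj (vv hH ψ ξ)) hv hw ?_ ?_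
  · exact not_memLocalIdeal_T hM hind hξ₀ hχ h0χ (om hH)
      (fun ξ => Cfsg.Agent.Lib.BlockOsima.memLocalIdeal_sub_one_of_pow hM (om_pow_eq_one hH ξ hn))
  · simp_rw [conj_vv]
    exact not_memLocalIdeal_T hM hind hξ₀ hψ h0ψ (fun ξ => conj (om hH ξ))
      (fun ξ => Cfsg.Agent.Lib.BlockOsima.memLocalIdeal_sub_one_of_pow hM (conj_om_pow hH ξ hn))

/-- Orthonormality in kernel form. -/
theorem kernel_sum {X : Type u} [Group X] [Fintype X] (F : Finset (IrrCharacter X))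
    (a c : IrrCharacter X → ℂ) :
    (Nat.card X : ℂ)⁻¹ * ∑ g : X, (∑ ψ ∈ F, a ψ * (ψ : X → ℂ) g) *
      (∑ φ ∈ F, c φ * conj ((φ : X → ℂ) g)) = ∑ ψ ∈ F, a ψ * c ψ := by
  classical
  simp_rw [Finset.sum_mul_sum]
  rw [Finset.sum_comm, Finset.mul_sum]
  refine Finset.sum_congr rfl fun ψ hψ => ?_
  rw [Finset.sum_comm, Finset.mul_sum]
  rw [Finset.sum_eq_single ψ]
  · have h1 : ∑ g : X, a ψ * (ψ : X → ℂ) g * (c ψ * conj ((ψ : X → ℂ) g)) =
        a ψ * c ψ * ∑ g : X, (ψ : X → ℂ) g * conj ((ψ : X → ℂ) g) := by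
      rw [Finset.mul_sum]
      refine Finset.sum_congr rfl fun g _ => ?_
      ring
    have h2 := classInner_irr_self ψ.2
    unfold classInner at h2
    rw [h1, mul_left_comm, h2, mul_one]
  · intro φ _ hφ
    have h1 : ∑ g : X, a ψ * (ψ : X → ℂ) g * (c φ * conj ((φ : X → ℂ) g)) =
        a ψ * c φ * ∑ g : X, (ψ : X → ℂ) g * conj ((φ : X → ℂ) g) := by
      rw [Finset.mul_sum]
      refine Finset.sum_congr rfl fun g _ => ?_
      ring
    have h2 := classInner_irr_ne ψ.2 φ.2 (fun h => hφ (Subtype.ext h.symm))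
    unfold classInner at h2
    rw [h1, mul_left_comm, h2, mul_zero]
  · intro h
    exact absurd hψ h

/-- Vanishing of the `b`-part for characters outside of `B`. -/
theorem th_eq_zero_of_not_mem (hM : IsPModular p M) (hy : ∃ k : ℕ, orderOf y = p ^ k)
    (hH : H = Subgroup.centralizer ({y} : Set G)) {b : Set (IrrCharacter H)}
    {B : Set (IrrCharacter G)} (hind : IsInducedBlock M H b B) {ζ : IrrCharacter G} (hζ : ζ ∉ B)
    {s : H} (hs : ¬ p ∣ orderOf s) : th hH b ζ s = 0 := by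
  unfold th
  rw [← Cfsg.Agent.Lib.BlockSecond.sum_blockCoeff_mul_eq_blockPart b
    (thetaZ_isClassFunction hH (isClassFunction_of_isCharacter (IsIrrCharacter.isCharacter ζ.2))) s]
  exact sum_thetaZ_eq_zero hM hy hH hind hζ s hs

/-- The kernel of the section. -/
theorem sum_th_mul_conj (hM : IsPModular p M) (hy : ∃ k : ℕ, orderOf y = p ^ k)
    (hH : H = Subgroup.centralizer ({y} : Set G)) {b : Set (IrrCharacter H)} (hb : IsPBlock M b)
    {s s' : H} (hs : ¬ p ∣ orderOf s) (hs' : ¬ p ∣ orderOf s') :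
    ∑ ζ : IrrCharacter G, th hH b ζ s * conj (th hH b ζ s') =
      ∑ ξ ∈ bF b, (ξ : H → ℂ) s * conj ((ξ : H → ℂ) s') := by
  classical
  have hMp := hM.2.1.isPrime
  set W : H → ℂ := fun c => ∑ᶠ ψ ∈ b, (ψ : H → ℂ) s' * (ψ : H → ℂ) c⁻¹ with hW
  have hWsing : ∀ c : H, p ∣ orderOf c → W c = 0 := fun c hc =>
    Cfsg.Agent.Lib.BlockOrth.weak_block_orthogonality hM hb hs' hc
  have h1 : ∀ ζ : IrrCharacter G, conj (th hH b ζ s') =
      (Nat.card H : ℂ)⁻¹ * ∑ c : H, conj ((ζ : G → ℂ) (y * c)) * conj (W c) := by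
    intro ζ
    unfold th
    rw [Cfsg.Agent.Lib.BlkOrth.blockPart_eq, map_mul, map_inv₀, map_natCast, map_sum]
    congr 1
    refine Finset.sum_congr rfl fun c _ => ?_
    rw [map_mul]
    rfl
  simp_rw [h1]
  have h2 : ∑ ζ : IrrCharacter G, th hH b ζ s *
      ((Nat.card H : ℂ)⁻¹ * ∑ c : H, conj ((ζ : G → ℂ) (y * c)) * conj (W c)) =
      (Nat.card H : ℂ)⁻¹ * ∑ c : H, conj (W c) *
        ∑ ζ : IrrCharacter G, th hH b ζ s * conj ((ζ : G → ℂ) (y * c)) := by
    simp_rw [Finset.mul_sum]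
    rw [Finset.sum_comm]
    refine Finset.sum_congr rfl fun c _ => Finset.sum_congr rfl fun ζ _ => ?_
    ring
  rw [h2]
  have h3 : ∀ c : H, conj (W c) * ∑ ζ : IrrCharacter G, th hH b ζ s *
      conj ((ζ : G → ℂ) (y * c)) =
      (∑ ψ ∈ bF b, conj ((ψ : H → ℂ) s') * (ψ : H → ℂ) c) *
        (∑ φ ∈ bF b, (φ : H → ℂ) s * conj ((φ : H → ℂ) c)) := by
    intro c
    have h4 : conj (W c) = ∑ ψ ∈ bF b, conj ((ψ : H → ℂ) s') * (ψ : H → ℂ) c := by
      simp only [hW]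
      rw [finsum_mem_eq_sum_bF, map_sum]
      refine Finset.sum_congr rfl fun ψ _ => ?_
      rw [map_mul, char_conj_eq_inv (IsIrrCharacter.isCharacter ψ.2) c⁻¹, inv_inv]
    by_cases hc : p ∣ orderOf c
    · rw [hWsing c hc] at h4 ⊢
      rw [map_zero] at h4 ⊢
      rw [← h4]
      simp
    · rw [h4]
      congr 1
      unfold th
      rw [sum_blockPart_conj hM hy hH hb hs hc, finsum_mem_eq_sum_bF]
  simp_rw [h3]
  rw [kernel_sum]
  refine Finset.sum_congr rfl fun ξ _ => ?_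
  ring

/-- The kernel of the section, over `B`. -/
theorem sum_B_th_mul_conj (hM : IsPModular p M) (hy : ∃ k : ℕ, orderOf y = p ^ k)
    (hH : H = Subgroup.centralizer ({y} : Set G)) {b : Set (IrrCharacter H)}
    {B : Set (IrrCharacter G)} (hind : IsInducedBlock M H b B)
    {s s' : H} (hs : ¬ p ∣ orderOf s) (hs' : ¬ p ∣ orderOf s') :
    ∑ ζ ∈ bF B, th hH b ζ s * conj (th hH b ζ s') =
      ∑ ξ ∈ bF b, (ξ : H → ℂ) s * conj ((ξ : H → ℂ) s') := by
  classical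
  rw [← sum_th_mul_conj hM hy hH hind.1 hs hs']
  apply Finset.sum_subset (Finset.subset_univ _)
  intro ζ _ hζ
  rw [th_eq_zero_of_not_mem hM hy hH hind (fun h => hζ (mem_bF.mpr h)) hs, zero_mul]

/-- The regular inner product as a sum over the regular elements. -/
theorem classInner_pReg_eq_sum {X : Type u} [Group X] [Fintype X] [DecidablePred fun s : X => ¬ p ∣ orderOf s]
    (α β : X → ℂ) :
    classInner (pRegularPart p α) β = (Nat.card X : ℂ)⁻¹ *
      ∑ s ∈ Finset.univ.filter (fun s : X => ¬ p ∣ orderOf s), α s * conj (β s) := by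
  unfold classInner
  congr 1
  rw [Finset.sum_filter]
  refine Finset.sum_congr rfl fun s _ => ?_
  by_cases hs : p ∣ orderOf s
  · rw [pRegularPart_of_sing _ hs, if_neg (not_not.mpr hs), zero_mul]
  · rw [pRegularPart_of_reg _ hs, if_pos hs]

/-- The sum of the squares of the contributions. -/
theorem sum_AA (hM : IsPModular p M) (hy : ∃ k : ℕ, orderOf y = p ^ k)
    (hH : H = Subgroup.centralizer ({y} : Set G)) {b : Set (IrrCharacter H)}
    {B : Set (IrrCharacter G)} (hind : IsInducedBlock M H b B) :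
    ∑ χ ∈ bF B, ∑ ψ ∈ bF B, classInner (pRegularPart p (th hH b χ)) (th hH b ψ) *
      conj (classInner (pRegularPart p (th hH b χ)) (th hH b ψ)) = (blockRank p b : ℂ) := by
  classical
  have hb := hind.1
  set reg := Finset.univ.filter (fun s : H => ¬ p ∣ orderOf s) with hreg
  have hcard : (Nat.card H : ℂ) ≠ 0 := by exact_mod_cast Nat.card_pos.ne'
  set T : H → H → ℂ := fun s s' => ∑ ξ ∈ bF b, (ξ : H → ℂ) s * conj ((ξ : H → ℂ) s') with hT
  have h1 : ∀ χ ψ : IrrCharacter G, classInner (pRegularPart p (th hH b χ)) (th hH b ψ) *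
      conj (classInner (pRegularPart p (th hH b χ)) (th hH b ψ)) =
      ((Nat.card H : ℂ)⁻¹) ^ 2 * ∑ s ∈ reg, ∑ s' ∈ reg,
        (th hH b χ s * conj (th hH b χ s')) * (th hH b ψ s' * conj (th hH b ψ s)) := by
    intro χ ψ
    rw [classInner_pReg_eq_sum, map_mul, map_inv₀, map_natCast, map_sum, mul_mul_mul_comm, sq,
      Finset.sum_mul_sum]
    congr 1
    refine Finset.sum_congr rfl fun s _ => Finset.sum_congr rfl fun s' _ => ?_
    rw [map_mul, Complex.conj_conj]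
    ring
  simp_rw [h1, ← Finset.mul_sum]
  have h2 : ∑ χ ∈ bF B, ∑ ψ ∈ bF B, ∑ s ∈ reg, ∑ s' ∈ reg,
        (th hH b χ s * conj (th hH b χ s')) * (th hH b ψ s' * conj (th hH b ψ s)) =
      ∑ s ∈ reg, ∑ s' ∈ reg, T s s' * T s' s := by
    have h3 : ∀ s ∈ reg, ∀ s' ∈ reg, T s s' * T s' s = ∑ χ ∈ bF B, ∑ ψ ∈ bF B,
        (th hH b χ s * conj (th hH b χ s')) * (th hH b ψ s' * conj (th hH b ψ s)) := by
      intro s hs s' hs'
      have hs1 : ¬ p ∣ orderOf s := (Finset.mem_filter.mp hs).2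
      have hs2 : ¬ p ∣ orderOf s' := (Finset.mem_filter.mp hs').2
      simp only [hT]
      rw [← sum_B_th_mul_conj hM hy hH hind hs1 hs2, ← sum_B_th_mul_conj hM hy hH hind hs2 hs1,
        Finset.sum_mul_sum]
    rw [Finset.sum_congr rfl fun s hs => Finset.sum_congr rfl fun s' hs' => h3 s hs s' hs']
    calc ∑ χ ∈ bF B, ∑ ψ ∈ bF B, ∑ s ∈ reg, ∑ s' ∈ reg,
        (th hH b χ s * conj (th hH b χ s')) * (th hH b ψ s' * conj (th hH b ψ s))
        = ∑ χ ∈ bF B, ∑ s ∈ reg, ∑ s' ∈ reg, ∑ ψ ∈ bF B,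
        (th hH b χ s * conj (th hH b χ s')) * (th hH b ψ s' * conj (th hH b ψ s)) :=
          Finset.sum_congr rfl fun χ _ => by
            rw [Finset.sum_comm]
            exact Finset.sum_congr rfl fun s _ => Finset.sum_comm
      _ = ∑ s ∈ reg, ∑ χ ∈ bF B, ∑ s' ∈ reg, ∑ ψ ∈ bF B,
        (th hH b χ s * conj (th hH b χ s')) * (th hH b ψ s' * conj (th hH b ψ s)) :=
          Finset.sum_comm
      _ = _ := Finset.sum_congr rfl fun s _ => Finset.sum_comm
  rw [h2]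
  -- the reproducing kernel
  have h4 : ∀ s ∈ reg, ∑ s' ∈ reg, T s s' * T s' s = (Nat.card H : ℂ) * T s s := by
    intro s hs
    have hs1 : ¬ p ∣ orderOf s := (Finset.mem_filter.mp hs).2
    have h5 : ∑ s' ∈ reg, T s s' * T s' s = ∑ s' : H, T s s' * T s' s := by
      apply Finset.sum_subset (Finset.subset_univ _)
      intro s' _ hs'
      have hs2 : p ∣ orderOf s' := by
        by_contra hcon
        exact hs' (Finset.mem_filter.mpr ⟨Finset.mem_univ _, hcon⟩)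
      have h6 := Cfsg.Agent.Lib.BlockOrth.weak_block_orthogonality hM hb hs1 hs2
      have h7 : T s s' = 0 := by
        rw [← h6, finsum_mem_eq_sum_bF]
        simp only [hT]
        refine Finset.sum_congr rfl fun ξ _ => ?_
        rw [char_conj_eq_inv (IsIrrCharacter.isCharacter ξ.2)]
      rw [h7, zero_mul]
    rw [h5]
    have h8 := kernel_sum (bF b) (fun ψ : IrrCharacter H => conj ((ψ : H → ℂ) s))
      (fun φ : IrrCharacter H => (φ : H → ℂ) s)
    have h9 : ∑ s' : H, T s s' * T s' s = ∑ g : H, (∑ ψ ∈ bF b, conj ((ψ : H → ℂ) s) * (ψ : H → ℂ) g) *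
        (∑ φ ∈ bF b, (φ : H → ℂ) s * conj ((φ : H → ℂ) g)) := by
      refine Finset.sum_congr rfl fun g _ => ?_
      rw [mul_comm]
      congr 1
      simp only [hT]
      refine Finset.sum_congr rfl fun ξ _ => ?_
      ring
    rw [h9]
    have h10 : T s s = ∑ ψ ∈ bF b, conj ((ψ : H → ℂ) s) * (ψ : H → ℂ) s := by
      simp only [hT]
      refine Finset.sum_congr rfl fun ξ _ => ?_
      ring
    rw [h10, ← h8, ← mul_assoc, mul_inv_cancel₀ hcard, one_mul]
  rw [Finset.sum_congr rfl h4, ← Finset.mul_sum]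
  have h5 : (Nat.card H : ℂ) * (blockRank p b : ℂ) = ∑ s ∈ reg, T s s := by
    rw [card_mul_blockRank hM hb, Finset.sum_filter]
    refine Finset.sum_congr rfl fun g _ => ?_
    rw [← finsum_mem_eq_sum_indB, finsum_mem_eq_sum_bF]
    by_cases hg : p ∣ orderOf g
    · simp [pRegularPart_of_sing _ hg, hg]
    · simp only [pRegularPart_of_reg _ hg, hg, not_false_eq_true, if_true, hT]
  rw [← h5, sq, ← mul_assoc, mul_assoc ((Nat.card H : ℂ)⁻¹) ((Nat.card H : ℂ)⁻¹), inv_mul_cancel₀ hcard,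
    mul_one, inv_mul_cancel_left₀ hcard]

end Section

end Cfsg.Agent.Lib.BlockMajor
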