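import Mathlib
import Cfsg.Agent.Lib.BlockMajor

/-!
# Blocks whose members all agree on the regular elements

If all members of the block `b` of `X` agree on the `p`-regular elements then `b` has exactly
`p ^ d` members (`d` its defect) and `Q` is identically one on `b`.
For a `p`-element `y` with centralizer `H` and a block `b` of `H` of this kind, the `b`-part of
`c ↦ χ (y c)` is a multiple `cc χ` of a fixed function.
-/

set_option autoImplicit false
set_option linter.unusedSectionVars false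
set_option linter.unusedVariables false
set_option linter.style.haveILetI false

namespace Cfsg.Agent.Lib.BlockUniform

open Cfsg Cfsg.Agent.Lib.CharBasic Cfsg.Agent.Lib.CharInd Cfsg.Agent.Lib.CharIntegrality
open Cfsg.Agent.Lib.BlockLocal Cfsg.Agent.Lib.BlockIdem Cfsg.Agent.Lib.BlockQ
open Cfsg.Agent.Lib.BlockOrtho Cfsg.Agent.Lib.BlockVal Cfsg.Agent.Lib.BlockMajor
open Cfsg.Agent.Lib.BlockSubsection
open scoped ComplexConjugate

universe u

section General
variable {X : Type u} [Group X] [Fintype X] {p : ℕ} {M : Ideal AlgInt}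

/-- The diagonal entry of `Q` at a height zero member is prime to `p`. -/
theorem not_dvd_Q_self (hM : IsPModular p M) {b : Set (IrrCharacter X)} (hb : IsPBlock M b)
    {ξ : IrrCharacter X} (hξ : ξ ∈ b)
    (h0 : (charDegree (ξ : X → ℂ)).factorization p = minExp p b) : ¬ (p : ℤ) ∣ Q p b ξ ξ := by
  have hMp := hM.2.1.isPrime
  rw [← memLocalIdeal_intCast_iff hM, Q_eq_gg_mul hM hb ξ hξ]
  intro h
  have h1 := not_memLocalIdeal_gg hM hb hξ h0
  have h2 := not_memLocalIdeal_W hM hb hξ h0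
  have hWR : MemLocalRing M (omega (ξ : X → ℂ) (regInv p (ξ : X → ℂ))) :=
    memLocalRing_of_mem_Zc (omega_regInv_mem_Zc (IsIrrCharacter.isCharacter ξ.2)) ξ
  rcases (memLocalIdeal_mul_iff (memLocalRing_gg hM hb hξ) hWR).mp h with h3 | h3
  · exact h1 h3
  · exact h2 h3

/-- If all members of a block agree on the regular elements, `Q` is one and the block has
`p ^ d` members. -/
theorem uniform (hM : IsPModular p M) {b : Set (IrrCharacter X)} (hb : IsPBlock M b)
    {θ : IrrCharacter X} (hθ : θ ∈ b)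
    (hreg : ∀ ξ ∈ b, ∀ s : X, ¬ p ∣ orderOf s → (ξ : X → ℂ) s = (θ : X → ℂ) s) :
    (∀ ξ ∈ b, ∀ ξ' ∈ b, Q p b ξ ξ' = 1) ∧ (bF b).card = p ^ blockDefect p b := by
  classical
  have hMp := hM.2.1.isPrime
  have hp := hM.1
  haveI : Fact p.Prime := ⟨hp⟩
  have h1reg : ¬ p ∣ orderOf (1 : X) := by simp [hp.one_lt.ne']
  -- all entries of `Q` are equal
  have hQ : ∀ ξ ∈ b, ∀ ξ' ∈ b, Q p b ξ ξ' = Q p b θ θ := by
    intro ξ hξ ξ' hξ'
    have h1 := Q_spec hM hb ξ hξ'
    have h2 := Q_spec hM hb θ hθ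
    have h3 : classInner (pRegularPart p (ξ : X → ℂ)) (ξ' : X → ℂ) =
        classInner (pRegularPart p (θ : X → ℂ)) (θ : X → ℂ) := by
      rw [classInner_pReg_eq_sum, classInner_pReg_eq_sum]
      congr 1
      refine Finset.sum_congr rfl fun s hs => ?_
      have hs' : ¬ p ∣ orderOf s := (Finset.mem_filter.mp hs).2
      rw [hreg ξ hξ s hs', hreg ξ' hξ' s hs']
    have h4 : (Q p b ξ ξ' : ℂ) = (Q p b θ θ : ℂ) := by
      rw [← h1, ← h2, h3]
    exact_mod_cast h4
  set q := Q p b θ θ with hq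
  have hqpos : 0 < q := Q_self_pos hM hb hθ
  have h1 := sum_Q_mul_Q hM hb hθ hθ
  have h2 : ∑ ψ ∈ bF b, Q p b θ ψ * Q p b ψ θ = ((bF b).card : ℤ) * (q * q) := by
    rw [Finset.sum_congr rfl (g := fun _ => q * q) fun ψ hψ => by
      rw [hQ θ hθ ψ (mem_bF.mp hψ), hQ ψ (mem_bF.mp hψ) θ hθ]]
    simp
  rw [h2, ← hq] at h1
  have h3 : ((bF b).card : ℤ) * q = (p : ℤ) ^ blockDefect p b := by
    have : q * (((bF b).card : ℤ) * q) = q * (p : ℤ) ^ blockDefect p b := by linarith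
    exact mul_left_cancel₀ hqpos.ne' this
  -- `θ` has height zero
  have hdeg : ∀ ξ ∈ b, charDegree (ξ : X → ℂ) = charDegree (θ : X → ℂ) := by
    intro ξ hξ
    unfold charDegree
    rw [hreg ξ hξ 1 h1reg]
  have h0 : (charDegree (θ : X → ℂ)).factorization p = minExp p b := by
    obtain ⟨ξ, hξ, h⟩ := exists_minExp (p := p) hb
    rw [← hdeg ξ hξ, h]
  have hnd := not_dvd_Q_self hM hb hθ h0
  have hq1 : q = 1 := by
    have h4 : q ∣ (p : ℤ) ^ blockDefect p b := ⟨_, by rw [← h3]; ring⟩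
    have h5 : IsCoprime q (p : ℤ) := by
      have hpi : Prime (p : ℤ) := Nat.prime_iff_prime_int.mp hp
      exact (hpi.irreducible.coprime_iff_not_dvd.mpr hnd).symm
    have h6 : IsUnit q := by
      have := (h5.pow_right (n := blockDefect p b)).isUnit_of_dvd' dvd_rfl h4
      exact this
    rcases Int.isUnit_iff.mp h6 with h7 | h7
    · exact h7
    · omega
  refine ⟨fun ξ hξ ξ' hξ' => by rw [hQ ξ hξ ξ' hξ', hq1], ?_⟩
  rw [hq1, mul_one] at h3
  exact_mod_cast h3

end General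

section Section
variable {G : Type u} [Group G] [Fintype G] {p : ℕ} [hpF : Fact p.Prime] {M : Ideal AlgInt}
variable {y : G} {H : Subgroup G} [Fintype H]

/-- The coefficient of the `b`-part. -/
noncomputable def cc (hH : H = Subgroup.centralizer ({y} : Set G)) (b : Set (IrrCharacter H))
    (χ : IrrCharacter G) : ℂ := ∑ ξ ∈ bF b, vv hH χ ξ

theorem th_eq_cc (hH : H = Subgroup.centralizer ({y} : Set G)) {b : Set (IrrCharacter H)}
    {θ : IrrCharacter H}
    (hreg : ∀ ξ ∈ b, ∀ s : H, ¬ p ∣ orderOf s → (ξ : H → ℂ) s = (θ : H → ℂ) s)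
    (χ : IrrCharacter G) {s : H} (hs : ¬ p ∣ orderOf s) :
    th hH b χ s = cc hH b χ * (θ : H → ℂ) s := by
  rw [th_eq, cc, Finset.sum_mul]
  refine Finset.sum_congr rfl fun ξ hξ => ?_
  rw [hreg ξ (mem_bF.mp hξ) s hs]

/-- The sum of the squares. -/
theorem sum_cc (hM : IsPModular p M) (hy : ∃ k : ℕ, orderOf y = p ^ k)
    (hH : H = Subgroup.centralizer ({y} : Set G)) {b : Set (IrrCharacter H)}
    {B : Set (IrrCharacter G)} (hind : IsInducedBlock M H b B) {θ : IrrCharacter H} (hθ : θ ∈ b)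
    (hreg : ∀ ξ ∈ b, ∀ s : H, ¬ p ∣ orderOf s → (ξ : H → ℂ) s = (θ : H → ℂ) s) :
    ∑ χ ∈ bF B, cc hH b χ * conj (cc hH b χ) = ((p ^ blockDefect p b : ℕ) : ℂ) := by
  classical
  have hp := hpF.out
  have h1reg : ¬ p ∣ orderOf (1 : H) := by simp [hp.one_lt.ne']
  have h1 := sum_B_th_mul_conj hM hy hH hind h1reg h1reg
  have h2 : ∀ χ ∈ bF B, th hH b χ 1 * conj (th hH b χ 1) =
      (cc hH b χ * conj (cc hH b χ)) * ((θ : H → ℂ) 1 * conj ((θ : H → ℂ) 1)) := by
    intro χ _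
    rw [th_eq_cc hH hreg χ h1reg, map_mul]
    ring
  rw [Finset.sum_congr rfl h2, ← Finset.sum_mul] at h1
  have h3 : ∑ ξ ∈ bF b, (ξ : H → ℂ) 1 * conj ((ξ : H → ℂ) 1) =
      ((bF b).card : ℂ) * ((θ : H → ℂ) 1 * conj ((θ : H → ℂ) 1)) := by
    rw [Finset.sum_congr rfl (g := fun _ => (θ : H → ℂ) 1 * conj ((θ : H → ℂ) 1))
      fun ξ hξ => by rw [hreg ξ (mem_bF.mp hξ) 1 h1reg]]
    simp
  rw [h3] at h1
  have hne : (θ : H → ℂ) 1 * conj ((θ : H → ℂ) 1) ≠ 0 := by
    have := irr_one_ne_zero' θ.2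
    simp [this]
  have h4 := mul_right_cancel₀ hne h1
  rw [h4, (uniform hM hind.1 hθ hreg).2]

/-- The contribution. -/
theorem RR_eq_cc (hM : IsPModular p M) (hH : H = Subgroup.centralizer ({y} : Set G))
    {b : Set (IrrCharacter H)} (hb : IsPBlock M b) {θ : IrrCharacter H} (hθ : θ ∈ b)
    (hreg : ∀ ξ ∈ b, ∀ s : H, ¬ p ∣ orderOf s → (ξ : H → ℂ) s = (θ : H → ℂ) s)
    (χ ψ : IrrCharacter G) :
    RR p hH b χ ψ = cc hH b χ * conj (cc hH b ψ) := by
  have hQ := (uniform hM hb hθ hreg).1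
  rw [RR_eq hM hH hb, cc, cc, map_sum, Finset.sum_mul_sum]
  refine Finset.sum_congr rfl fun ξ hξ => Finset.sum_congr rfl fun ξ' hξ' => ?_
  rw [hQ ξ (mem_bF.mp hξ) ξ' (mem_bF.mp hξ')]
  simp

/-- The contribution is a unit at height zero characters. -/
theorem not_memLocalIdeal_cc (hM : IsPModular p M) (hy : ∃ k : ℕ, orderOf y = p ^ k)
    (hH : H = Subgroup.centralizer ({y} : Set G)) {b : Set (IrrCharacter H)}
    {B : Set (IrrCharacter G)} (hind : IsInducedBlock M H b B) {θ : IrrCharacter H} (hθ : θ ∈ b)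
    (hreg : ∀ ξ ∈ b, ∀ s : H, ¬ p ∣ orderOf s → (ξ : H → ℂ) s = (θ : H → ℂ) s)
    {χ ψ : IrrCharacter G} (hχ : χ ∈ B) (hψ : ψ ∈ B)
    (h0χ : (charDegree (χ : G → ℂ)).factorization p = minExp p B)
    (h0ψ : (charDegree (ψ : G → ℂ)).factorization p = minExp p B) :
    ¬ MemLocalIdeal M (cc hH b χ * conj (cc hH b ψ)) := by
  rw [← RR_eq_cc hM hH hind.1 hθ hreg]
  exact not_memLocalIdeal_RR hM hH hy hind hχ hψ h0χ h0ψ

/-- For an involution, the coefficient is an integer. -/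
theorem exists_int_cc (hH : H = Subgroup.centralizer ({y} : Set G)) (hy : y ^ 2 = 1)
    (b : Set (IrrCharacter H)) (χ : IrrCharacter G) : ∃ n : ℤ, cc hH b χ = n := by
  have h1 : ∀ ξ : IrrCharacter H, ∃ n : ℤ, vv hH χ ξ = n := by
    intro ξ
    have h2 := om_pow_eq_one hH ξ hy
    rcases sq_eq_one_iff.mp h2 with h3 | h3
    · exact ⟨mult H χ ξ, by unfold vv; rw [h3]; simp⟩
    · exact ⟨-(mult H χ ξ : ℤ), by unfold vv; rw [h3]; simp⟩
  choose n hn using h1
  exact ⟨∑ ξ ∈ bF b, n ξ, by unfold cc; push_cast; exact Finset.sum_congr rfl fun ξ _ => hn ξ⟩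

/-- The decomposition of `c ↦ χ (y c)`: when `b` is the only block of `H` inducing `B`. -/
theorem mul_eq_th_of_unique (hM : IsPModular p M) (hy : ∃ k : ℕ, orderOf y = p ^ k)
    (hH : H = Subgroup.centralizer ({y} : Set G)) {b : Set (IrrCharacter H)}
    {B : Set (IrrCharacter G)}
    (huniq : ∀ F : Set (IrrCharacter H), IsInducedBlock M H F B → F = b)
    {χ : IrrCharacter G} (hχ : χ ∈ B) {s : H} (hs : ¬ p ∣ orderOf s) (hB : IsPBlock M B)
    (hbb : IsPBlock M b) :
    (χ : G → ℂ) (y * (s : G)) = th hH b χ s := by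
  classical
  haveI := isPrime_of_isPModular hM
  have hyg : IsPGroup p (Subgroup.zpowers y) := by
    obtain ⟨k, hk⟩ := hy
    apply IsPGroup.of_card (n := k)
    rw [Nat.card_zpowers, hk]
  have hH' : H = Subgroup.centralizer ((Subgroup.zpowers y : Subgroup G) : Set G) := by
    rw [Cfsg.Agent.Lib.BlockSecond.centralizer_zpowers_eq, hH]
  have hexists : ∀ F : Cfsg.Agent.Lib.BrauerPair.BlockT M H, ∃ B' : Set (IrrCharacter G),
      IsInducedBlock M H F.1 B' :=
    fun F => Cfsg.Agent.Lib.BlockSecond.exists_isInducedBlock_centralizer hM hyg hH' F.2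
  have h2 := sum_blocks_mul (M := M) (thetaZ (χ : G → ℂ) y H) s
  have h3 : thetaZ (χ : G → ℂ) y H s = (χ : G → ℂ) (y * (s : G)) := rfl
  rw [← h3, ← h2, Finset.sum_eq_single (⟨b, hbb⟩ : Cfsg.Agent.Lib.BrauerPair.BlockT M H)]
  · unfold th
    exact Cfsg.Agent.Lib.BlockSecond.sum_blockCoeff_mul_eq_blockPart b
      (thetaZ_isClassFunction hH (isClassFunction_of_isCharacter (IsIrrCharacter.isCharacter χ.2))) s
  · intro F _ hF
    obtain ⟨B', hB'⟩ := hexists F
    have hne : B' ≠ B := fun h => hF (Subtype.ext (huniq F.1 (h ▸ hB')))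
    have hχ' : χ ∉ B' := by
      rcases eq_or_disjoint_of_isPBlock hB'.2.1 hB with h | h
      · exact absurd h hne
      · exact fun h1 => Set.disjoint_left.1 h h1 hχ
    exact sum_thetaZ_eq_zero hM hy hH hB' hχ' s hs
  · intro h
    exact absurd (Finset.mem_univ _) h

end Section

/-- Arithmetic: nonzero integers whose squares sum to two. -/
theorem exists_two_of_sum_sq {α : Type*} [DecidableEq α] (F : Finset α) (n : α → ℤ)
    (h0 : ∀ a ∈ F, n a ≠ 0) (h : ∑ a ∈ F, n a ^ 2 = 2) :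
    ∃ a ∈ F, ∃ b ∈ F, a ≠ b ∧ F = {a, b} ∧ n a ^ 2 = 1 ∧ n b ^ 2 = 1 := by
  have hge : ∀ a ∈ F, 1 ≤ n a ^ 2 := fun a ha => by
    have := h0 a ha
    have h1 : 0 < n a ^ 2 := by positivity
    omega
  have hcard : (F.card : ℤ) ≤ 2 := by
    have := Finset.card_nsmul_le_sum F (fun a => n a ^ 2) 1 hge
    simp only [nsmul_eq_mul, mul_one] at this
    linarith
  have hcases : F.card = 0 ∨ F.card = 1 ∨ F.card = 2 := by omega
  rcases hcases with h1 | h1 | h1
  · rw [Finset.card_eq_zero] at h1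
    subst h1
    simp at h
  · obtain ⟨a, rfl⟩ := Finset.card_eq_one.mp h1
    simp only [Finset.sum_singleton] at h
    exfalso
    have h2 : (n a).natAbs ^ 2 = 2 := by
      zify
      rw [sq_abs]
      exact h
    have h3 : (n a).natAbs ≤ 1 ∨ 2 ≤ (n a).natAbs := by omega
    rcases h3 with h3 | h3
    · have : (n a).natAbs ^ 2 ≤ 1 ^ 2 := Nat.pow_le_pow_left h3 2
      omega
    · have : 2 ^ 2 ≤ (n a).natAbs ^ 2 := Nat.pow_le_pow_left h3 2
      omega
  · obtain ⟨a, b, hab, rfl⟩ := Finset.card_eq_two.mp h1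
    rw [Finset.sum_pair hab] at h
    have h2 := hge a (by simp)
    have h3 := hge b (by simp)
    exact ⟨a, by simp, b, by simp, hab, rfl, by omega, by omega⟩

/-- Arithmetic: odd integers whose squares sum to four. -/
theorem card_eq_four_of_sum_sq {α : Type*} [DecidableEq α] (F : Finset α) (n : α → ℤ)
    (h0 : ∀ a ∈ F, ¬ (2 : ℤ) ∣ n a) (h : ∑ a ∈ F, n a ^ 2 = 4) :
    F.card = 4 ∧ ∀ a ∈ F, n a ^ 2 = 1 := by
  classical
  have hge : ∀ a ∈ F, 1 ≤ n a ^ 2 := fun a ha => by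
    have h1 : n a ≠ 0 := fun h2 => h0 a ha (by rw [h2]; exact dvd_zero _)
    have h2 : 0 < n a ^ 2 := by positivity
    omega
  have hmod : ∀ a ∈ F, n a ^ 2 % 8 = 1 := fun a ha => by
    have h1 := h0 a ha
    have h2 : n a % 8 = 1 ∨ n a % 8 = 3 ∨ n a % 8 = 5 ∨ n a % 8 = 7 := by omega
    rcases h2 with h2 | h2 | h2 | h2 <;> simp [pow_two, Int.mul_emod, h2]
  have hle : (F.card : ℤ) ≤ 4 := by
    have := Finset.card_nsmul_le_sum F (fun a => n a ^ 2) 1 hge
    simp only [nsmul_eq_mul, mul_one] at this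
    linarith
  have hsum : ∀ (S : Finset α), S ⊆ F → (∑ a ∈ S, n a ^ 2) % 8 = (S.card : ℤ) % 8 := by
    intro S
    induction S using Finset.induction_on with
    | empty => simp
    | insert a S ha ih =>
      intro hS
      rw [Finset.sum_insert ha, Finset.card_insert_of_notMem ha]
      have h1 := ih ((Finset.subset_insert _ _).trans hS)
      have h2 := hmod a (hS (Finset.mem_insert_self _ _))
      push_cast
      omega
  have h1 := hsum F subset_rfl
  rw [h] at h1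
  have hcard : F.card = 4 := by omega
  refine ⟨hcard, fun a ha => ?_⟩
  by_contra hne
  have h2 : 2 ≤ n a ^ 2 := by
    have := hge a ha
    omega
  have h3 : ∑ b ∈ F.erase a, (1 : ℤ) ≤ ∑ b ∈ F.erase a, n b ^ 2 :=
    Finset.sum_le_sum fun b hb => hge b (Finset.mem_of_mem_erase hb)
  rw [← Finset.add_sum_erase F _ ha] at h
  simp only [Finset.sum_const, nsmul_eq_mul, mul_one, Finset.card_erase_of_mem ha, hcard] at h3
  norm_num at h3
  omega

end Cfsg.Agent.Lib.BlockUniform
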