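import Mathlib
import Cfsg.Agent.Lib.BlockUniform
import Cfsg.Agent.Lib.BlockCentral
import Cfsg.Agent.Lib.BlkExtFMT
import Cfsg.Agent.S4710

/-!
# Two-blocks whose defect group is generated by an involution

`B` has exactly two members, which agree on the odd order elements.
-/

set_option autoImplicit false
set_option linter.unusedSectionVars false
set_option linter.unusedVariables false
set_option linter.style.haveILetI false

namespace Cfsg.Agent.Lib.BlockInvol

open Cfsg Cfsg.Agent.Lib.CharBasic Cfsg.Agent.Lib.CharInd Cfsg.Agent.Lib.CharIntegrality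
open Cfsg.Agent.Lib.BlockLocal Cfsg.Agent.Lib.BlockIdem Cfsg.Agent.Lib.BlockQ
open Cfsg.Agent.Lib.BlockOrtho Cfsg.Agent.Lib.BlockVal Cfsg.Agent.Lib.BlockMajor
open Cfsg.Agent.Lib.BlockSubsection Cfsg.Agent.Lib.BlockUniform Cfsg.Agent.Lib.BlockDefect
open scoped ComplexConjugate

universe u

variable {G : Type u} [Group G] [Fintype G] {M : Ideal AlgInt} {x : G} {H : Subgroup G} [Fintype H]

instance factTwo : Fact (Nat.Prime 2) := ⟨Nat.prime_two⟩

theorem pow_two_of_order (hx : orderOf x = 2) : x ^ 2 = 1 := by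
  rw [← hx]; exact pow_orderOf_eq_one x

theorem isPGroup_zpowers (hx : orderOf x = 2) : IsPGroup 2 (Subgroup.zpowers x) := by
  apply IsPGroup.of_card (n := 1)
  rw [Nat.card_zpowers, hx, pow_one]

theorem zpowers_le (hH : H = Subgroup.centralizer ({x} : Set G)) : Subgroup.zpowers x ≤ H :=
  (Subgroup.zpowers_le).mpr (mem_of_centralizer hH)

theorem le_normalizer (hH : H = Subgroup.centralizer ({x} : Set G)) :
    H ≤ Subgroup.normalizer ((Subgroup.zpowers x : Subgroup G) : Set G) := by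
  intro c hc
  rw [Subgroup.mem_normalizer_iff]
  intro h
  have hcx : x * c = c * x := commute_of_mem hH hc
  have h1 : ∀ u ∈ Subgroup.zpowers x, c * u * c⁻¹ = u := by
    intro u hu
    obtain ⟨k, rfl⟩ := Subgroup.mem_zpowers_iff.mp hu
    have h2 : Commute c (x ^ k) := (Commute.zpow_right (show Commute c x from hcx.symm) k)
    rw [h2.eq, mul_inv_cancel_right]
  constructor
  · intro hh
    rw [h1 h hh]
    exact hh
  · intro hh
    change c * h * c⁻¹ ∈ Subgroup.zpowers x at hh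
    have h3 : ∀ (c : G), x * c = c * x → ∀ u ∈ Subgroup.zpowers x, c * u * c⁻¹ = u := by
      intro c hcx u hu
      obtain ⟨k, rfl⟩ := Subgroup.mem_zpowers_iff.mp hu
      have h2 : Commute c (x ^ k) := (Commute.zpow_right (show Commute c x from hcx.symm) k)
      rw [h2.eq, mul_inv_cancel_right]
    have hc' : x * c⁻¹ = c⁻¹ * x := by
      have : c⁻¹ ∈ H := H.inv_mem hc
      exact commute_of_mem hH this
    have h4 := h3 c⁻¹ hc' _ hh
    have h5 : c⁻¹ * (c * h * c⁻¹) * c⁻¹⁻¹ = h := by group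
    rw [h5] at h4
    rw [h4]
    exact hh

theorem normalizer_le (hx : orderOf x = 2) (hH : H = Subgroup.centralizer ({x} : Set G)) :
    Subgroup.normalizer ((Subgroup.zpowers x : Subgroup G) : Set G) ≤ H := by
  intro n hn
  have h1 : n * x * n⁻¹ ∈ Subgroup.zpowers x :=
    (Subgroup.mem_normalizer_iff.mp hn x).mp (Subgroup.mem_zpowers x)
  have hx2 := pow_two_of_order hx
  have h2 : n * x * n⁻¹ = 1 ∨ n * x * n⁻¹ = x := by
    obtain ⟨k, hk⟩ := Subgroup.mem_zpowers_iff.mp h1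
    rcases Int.even_or_odd k with ⟨m, rfl⟩ | ⟨m, rfl⟩
    · left
      rw [← hk, ← two_mul, zpow_mul]
      have : x ^ (2 : ℤ) = 1 := by exact_mod_cast hx2
      rw [this, one_zpow]
    · right
      rw [← hk, zpow_add, zpow_mul, zpow_one]
      have : x ^ (2 : ℤ) = 1 := by exact_mod_cast hx2
      rw [this, one_zpow, one_mul]
  rcases h2 with h2 | h2
  · exfalso
    have h3 : x = 1 := by
      have : n * x * n⁻¹ = n * 1 * n⁻¹ := by rw [h2]; group
      have h4 := mul_right_cancel this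
      exact mul_left_cancel h4
    rw [h3, orderOf_one] at hx
    omega
  · apply mem_of_commute hH
    have : n * x = x * n := by
      calc n * x = n * x * n⁻¹ * n := by group
        _ = x * n := by rw [h2]
    exact this.symm

/-- The block of the centralizer inducing `B` is unique. -/
theorem induced_unique (hM : IsPModular 2 M) (hx : orderOf x = 2) {B : Set (IrrCharacter G)}
    (hB : IsPBlock M B) (hBD : IsDefectGroup 2 M B (Subgroup.zpowers x))
    (hH : H = Subgroup.centralizer ({x} : Set G)) {b F : Set (IrrCharacter H)}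
    (hb : IsInducedBlock M H b B) (hF : IsInducedBlock M H F B) : F = b := by
  classical
  haveI := isPrime_of_isPModular hM
  have hcen : Subgroup.centralizer ((Subgroup.zpowers x : Subgroup G) : Set G) = H := by
    rw [Cfsg.Agent.Lib.BlockSecond.centralizer_zpowers_eq, hH]
  have hnH := normalizer_le hx hH
  obtain ⟨n, hn, hnb⟩ := Cfsg.Agent.Lib.BlkExtFMT.exists_conj_of_induced hM (isPGroup_zpowers hx) hB hBD
    (L := H) (le_normalizer hH) hcen.le
    (fun n hn => Subgroup.le_normalizer (hnH hn)) hb hF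
  obtain ⟨θ, hθ⟩ := isPBlock_nonempty hb.1
  obtain ⟨θ', hθ', hθθ⟩ := hnb θ hθ
  have hnH' : n ∈ H := hnH hn
  have heq : θ' = θ := by
    apply Subtype.ext
    funext c
    have hc : n * (c : G) * n⁻¹ ∈ H := H.mul_mem (H.mul_mem hnH' c.2) (H.inv_mem hnH')
    rw [hθθ c hc]
    have h1 := isClassFunction_of_isCharacter (IsIrrCharacter.isCharacter θ.2) c ⟨n, hnH'⟩
    have h2 : (⟨n * (c : G) * n⁻¹, hc⟩ : H) = (⟨n, hnH'⟩ : H) * c * (⟨n, hnH'⟩ : H)⁻¹ := by
      apply Subtype.ext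
      simp
    rw [h2]
    exact h1
  rw [heq] at hθ'
  rcases eq_or_disjoint_of_isPBlock hF.1 hb.1 with h | h
  · exact h
  · exact absurd hθ (Set.disjoint_left.1 h hθ')

/-- The members of `b` agree on the regular elements, and `b` has defect one. -/
theorem reg_of_central (hM : IsPModular 2 M) (hx : orderOf x = 2) {B : Set (IrrCharacter G)}
    (hB : IsPBlock M B) (hBD : IsDefectGroup 2 M B (Subgroup.zpowers x))
    (hH : H = Subgroup.centralizer ({x} : Set G)) {b : Set (IrrCharacter H)}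
    (hb : IsInducedBlock M H b B) :
    ∃ θ₀ ∈ b, (∀ ξ ∈ b, ∀ s : H, ¬ 2 ∣ orderOf s → (ξ : H → ℂ) s = (θ₀ : H → ℂ) s) ∧
      blockDefect 2 b = 1 := by
  classical
  obtain ⟨D, hD⟩ := exists_isDefectGroup hM hb.1
  have hDeq := Cfsg.Agent.Lib.BlkFirst.defect_eq_of_induced hM hB hBD (zpowers_le hH)
    (le_normalizer hH) hb hD
  have hPZ : D ≤ Subgroup.center H := by
    intro u hu
    rw [hDeq, Subgroup.mem_subgroupOf] at hu
    rw [Subgroup.mem_center_iff]
    intro c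
    apply Subtype.ext
    obtain ⟨k, hk⟩ := Subgroup.mem_zpowers_iff.mp hu
    have hcx : Commute x (c : G) := commute_of_mem hH c.2
    have h1 : Commute (x ^ k) (c : G) := hcx.zpow_left k
    simp only [Subgroup.coe_mul]
    rw [← hk]
    exact h1.eq.symm
  obtain ⟨θ₀, hθ₀, h⟩ := Cfsg.Agent.Lib.BlockCentral.eq_on_regular_of_central hM hb.1 hD hPZ
  refine ⟨θ₀, hθ₀, h, ?_⟩
  have h1 := card_isDefectGroup hM hb.1 hD
  rw [hDeq, Nat.card_congr (Subgroup.subgroupOfEquivOfLe (zpowers_le hH)).toEquiv, Nat.card_zpowers,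
    hx] at h1
  have h2 : (2 : ℕ) ^ 1 = 2 ^ blockDefect 2 b := by simpa using h1
  exact (Nat.pow_right_injective (le_refl 2) h2).symm

/-- The defect of `B` is one. -/
theorem blockDefect_eq_one (hM : IsPModular 2 M) (hx : orderOf x = 2) {B : Set (IrrCharacter G)}
    (hB : IsPBlock M B) (hBD : IsDefectGroup 2 M B (Subgroup.zpowers x)) : blockDefect 2 B = 1 := by
  have h1 := card_isDefectGroup hM hB hBD
  rw [Nat.card_zpowers, hx] at h1
  have h2 : (2 : ℕ) ^ 1 = 2 ^ blockDefect 2 B := by simpa using h1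
  exact (Nat.pow_right_injective (le_refl 2) h2).symm

/-- In a block of defect at most `1`, or `2`, the members have height zero. -/
theorem height_zero_of_defect_le (hM : IsPModular 2 M) {B : Set (IrrCharacter G)}
    (hB : IsPBlock M B) (hd : blockDefect 2 B ≤ 2) {χ : IrrCharacter G} (hχ : χ ∈ B) :
    (charDegree (χ : G → ℂ)).factorization 2 = minExp 2 B := by
  have h1 := charDegree_factorization_eq (p := 2) hχ
  by_cases h2 : blockHeight 2 B (χ : G → ℂ) = 0
  · omega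
  · have := Cfsg.Agent.S4710.height_add_two_le hM hB hχ (Nat.pos_of_ne_zero h2)
    omega

/-- **Blocks of defect one at the prime two.** -/
theorem main (hM : IsPModular 2 M) (hx : orderOf x = 2) {B : Set (IrrCharacter G)}
    (hB : IsPBlock M B) (hBD : IsDefectGroup 2 M B (Subgroup.zpowers x))
    (hH : H = Subgroup.centralizer ({x} : Set G)) {b : Set (IrrCharacter H)}
    (hb : IsInducedBlock M H b B) {θ : IrrCharacter H} (hθ : θ ∈ b) :
    Nat.card B = 2 ∧ (∀ χ ∈ B, ∀ ψ ∈ B, ∀ g : G, ¬ 2 ∣ orderOf g → (χ : G → ℂ) g = (ψ : G → ℂ) g) ∧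
      ∃ χ₁ ∈ B, ∃ χ₂ ∈ B, χ₁ ≠ χ₂ ∧ ∃ ε₁ ε₂ : ℤ, (ε₁ = 1 ∨ ε₁ = -1) ∧ (ε₂ = 1 ∨ ε₂ = -1) ∧
        ε₁ * ε₂ = -1 ∧
        ∀ y : H, ¬ 2 ∣ orderOf y →
          (χ₁ : G → ℂ) (x * y) = (ε₁ : ℂ) * (θ : H → ℂ) y ∧
          (χ₂ : G → ℂ) (x * y) = (ε₂ : ℂ) * (θ : H → ℂ) y := by
  classical
  have hMp := hM.2.1.isPrime
  have hy : ∃ k : ℕ, orderOf x = 2 ^ k := ⟨1, by rw [hx, pow_one]⟩
  obtain ⟨θ₀, hθ₀, hreg₀, hdb⟩ := reg_of_central hM hx hB hBD hH hb
  have hreg : ∀ ξ ∈ b, ∀ s : H, ¬ 2 ∣ orderOf s → (ξ : H → ℂ) s = (θ : H → ℂ) s :=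
    fun ξ hξ s hs => by rw [hreg₀ ξ hξ s hs, hreg₀ θ hθ s hs]
  have hdB := blockDefect_eq_one hM hx hB hBD
  have h0 : ∀ χ ∈ B, (charDegree (χ : G → ℂ)).factorization 2 = minExp 2 B := fun χ hχ =>
    height_zero_of_defect_le hM hB (by omega) hχ
  have hx2 := pow_two_of_order hx
  -- the integers
  choose n hn using exists_int_cc (b := b) hH hx2
  have hval : ∀ χ ∈ B, ∀ y : H, ¬ 2 ∣ orderOf y →
      (χ : G → ℂ) (x * y) = (n χ : ℂ) * (θ : H → ℂ) y := by
    intro χ hχ y hy'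
    rw [mul_eq_th_of_unique hM hy hH (fun F hF => induced_unique hM hx hB hBD hH hb hF) hχ hy' hB hb.1,
      th_eq_cc hH hreg χ hy', hn]
  have hconj : ∀ χ, cc hH b χ * conj (cc hH b χ) = ((n χ ^ 2 : ℤ) : ℂ) := by
    intro χ
    rw [hn, map_intCast]
    push_cast
    ring
  have hsum : ∑ χ ∈ bF B, n χ ^ 2 = 2 := by
    have h1 := sum_cc hM hy hH hb hθ hreg
    rw [hdb, Finset.sum_congr rfl fun χ _ => hconj χ] at h1
    have h2 : ((∑ χ ∈ bF B, n χ ^ 2 : ℤ) : ℂ) = ((2 : ℤ) : ℂ) := by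
      push_cast at h1 ⊢
      exact h1
    exact_mod_cast h2
  have hne : ∀ χ ∈ bF B, n χ ≠ 0 := by
    intro χ hχ h1
    have hχ' := mem_bF.mp hχ
    have h2 := not_memLocalIdeal_cc hM hy hH hb hθ hreg hχ' hχ' (h0 χ hχ') (h0 χ hχ')
    rw [hconj, h1] at h2
    exact h2 (by simpa using memLocalIdeal_zero)
  obtain ⟨χ₁, h1F, χ₂, h2F, hne12, hF, hs1, hs2⟩ := exists_two_of_sum_sq (bF B) n hne hsum
  have hχ₁ : χ₁ ∈ B := mem_bF.mp h1F
  have hχ₂ : χ₂ ∈ B := mem_bF.mp h2F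
  have hcard : Nat.card B = 2 := by
    rw [Cfsg.Agent.S4710.card_eq_bF, hF, Finset.card_pair hne12]
  have hs1' : n χ₁ = 1 ∨ n χ₁ = -1 := sq_eq_one_iff.mp hs1
  have hs2' : n χ₂ = 1 ∨ n χ₂ = -1 := sq_eq_one_iff.mp hs2
  -- orthogonality
  have horth : ∀ g : G, ¬ 2 ∣ orderOf g →
      (χ₁ : G → ℂ) g * (n χ₁ : ℂ) + (χ₂ : G → ℂ) g * (n χ₂ : ℂ) = 0 := by
    intro g hg
    have h1 := Cfsg.Agent.Lib.BlockOrth.weak_block_orthogonality hM hB (y := x) hg (by rw [hx])
    rw [finsum_mem_eq_sum_bF, hF, Finset.sum_pair hne12] at h1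
    have hxinv : x⁻¹ = x := by
      rw [inv_eq_iff_mul_eq_one, ← pow_two, hx2]
    have h1reg : ¬ 2 ∣ orderOf (1 : H) := by simp
    have hv1 := hval χ₁ hχ₁ 1 h1reg
    have hv2 := hval χ₂ hχ₂ 1 h1reg
    simp only [OneMemClass.coe_one, mul_one] at hv1 hv2
    rw [hxinv, hv1, hv2] at h1
    have hne : (θ : H → ℂ) 1 ≠ 0 := irr_one_ne_zero' θ.2
    apply mul_right_cancel₀ hne
    rw [zero_mul, ← h1]
    ring
  have h1reg : ¬ 2 ∣ orderOf (1 : G) := by simp
  have hdeg1 : (χ₁ : G → ℂ) 1 = (charDegree (χ₁ : G → ℂ) : ℂ) :=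
    Cfsg.Agent.Lib.CharKernel.one_eq_charDegree (IsIrrCharacter.isCharacter χ₁.2)
  have hdeg2 : (χ₂ : G → ℂ) 1 = (charDegree (χ₂ : G → ℂ) : ℂ) :=
    Cfsg.Agent.Lib.CharKernel.one_eq_charDegree (IsIrrCharacter.isCharacter χ₂.2)
  have hpos1 := Nat.pos_of_ne_zero (Cfsg.Agent.Lib.CharKernel.charDegree_ne_zero χ₁.2)
  have hpos2 := Nat.pos_of_ne_zero (Cfsg.Agent.Lib.CharKernel.charDegree_ne_zero χ₂.2)
  have hopp : n χ₁ * n χ₂ = -1 := by
    have h1 := horth 1 h1reg
    rw [hdeg1, hdeg2] at h1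
    have h2 : ((charDegree (χ₁ : G → ℂ) : ℤ) * n χ₁ + (charDegree (χ₂ : G → ℂ) : ℤ) * n χ₂ : ℤ) = 0 := by
      exact_mod_cast h1
    rcases hs1' with h3 | h3 <;> rcases hs2' with h4 | h4 <;> rw [h3, h4] at h2 ⊢ <;> norm_num <;> omega
  have hagree : ∀ g : G, ¬ 2 ∣ orderOf g → (χ₁ : G → ℂ) g = (χ₂ : G → ℂ) g := by
    intro g hg
    have h1 := horth g hg
    have h2 : n χ₂ = - n χ₁ := by
      rcases hs1' with h3 | h3 <;> rcases hs2' with h4 | h4 <;> rw [h3, h4] at hopp ⊢ <;> omega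
    rw [h2] at h1
    push_cast at h1
    have h3 : (n χ₁ : ℂ) ≠ 0 := by
      rcases hs1' with h3 | h3 <;> rw [h3] <;> norm_num
    apply mul_right_cancel₀ h3
    linear_combination h1
  refine ⟨hcard, ?_, χ₁, hχ₁, χ₂, hχ₂, hne12, n χ₁, n χ₂, hs1', hs2', hopp, fun y hy' =>
    ⟨hval χ₁ hχ₁ y hy', hval χ₂ hχ₂ y hy'⟩⟩
  have hmem : ∀ χ ∈ B, χ = χ₁ ∨ χ = χ₂ := by
    intro χ hχ
    have : χ ∈ bF B := mem_bF.mpr hχ
    rw [hF] at this
    simpa using this
  intro χ hχ ψ hψ g hg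
  rcases hmem χ hχ with rfl | rfl <;> rcases hmem ψ hψ with rfl | rfl
  · rfl
  · exact hagree g hg
  · exact (hagree g hg).symm
  · rfl

/-- A block with a defect group of order two: the members agree on the regular elements. -/
theorem agree_of_card_two (hM : IsPModular 2 M) {B : Set (IrrCharacter G)}
    (hB : IsPBlock M B) {D : Subgroup G} (hD : IsDefectGroup 2 M B D) (hD2 : Nat.card D = 2) :
    Nat.card B = 2 ∧ ∀ χ ∈ B, ∀ ψ ∈ B, ∀ g : G, ¬ 2 ∣ orderOf g → (χ : G → ℂ) g = (ψ : G → ℂ) g := by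
  classical
  have hMp := hM.2.1.isPrime
  -- a generator
  obtain ⟨x, hx⟩ : ∃ x : G, D = Subgroup.zpowers x ∧ orderOf x = 2 := by
    haveI : Fact (Nat.Prime (Nat.card D)) := ⟨by rw [hD2]; exact Nat.prime_two⟩
    obtain ⟨g, hg⟩ := isCyclic_of_prime_card (α := D) (p := Nat.card D) rfl |>.exists_generator
    refine ⟨(g : G), ?_, ?_⟩
    · apply le_antisymm
      · intro u hu
        obtain ⟨k, hk⟩ := Subgroup.mem_zpowers_iff.mp (hg ⟨u, hu⟩)
        rw [Subgroup.mem_zpowers_iff]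
        refine ⟨k, ?_⟩
        have := congrArg (Subtype.val) hk
        simpa using this
      · exact (Subgroup.zpowers_le).mpr g.2
    · have h1 := orderOf_eq_card_of_forall_mem_zpowers hg
      rw [Subgroup.orderOf_coe, h1, hD2]
  obtain ⟨hDx, hx⟩ := hx
  subst hDx
  letI : Fintype (Subgroup.centralizer ({x} : Set G)) := Fintype.ofFinite _
  have hH : Subgroup.centralizer ({x} : Set G) = Subgroup.centralizer ({x} : Set G) := rfl
  have hcen : Subgroup.centralizer ((Subgroup.zpowers x : Subgroup G) : Set G) =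
      Subgroup.centralizer ({x} : Set G) := Cfsg.Agent.Lib.BlockSecond.centralizer_zpowers_eq x
  obtain ⟨ξ, hind, -⟩ := Cfsg.Agent.Lib.BlkFirst.exists_induced_of_isDefectGroup hM (zpowers_le hH)
    hcen.le (le_normalizer hH) hB hD
  obtain ⟨h1, h2, -⟩ := main hM hx hB hD hH hind (mem_blockOf_self ξ)
  exact ⟨h1, h2⟩

end Cfsg.Agent.Lib.BlockInvol
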