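import Mathlib
import Cfsg.Agent.Lib.BlockInvol
import Cfsg.Agent.Lib.BlkQuot

/-!
# Two-blocks of defect two with a central involution in the group

If `z` is a central involution of `X` and `b` is a `2`-block of `X` of defect two, then all members
of `b` agree on the elements of odd order.
-/

set_option autoImplicit false
set_option linter.unusedSectionVars false
set_option linter.unusedVariables false
set_option linter.style.haveILetI false

namespace Cfsg.Agent.Lib.BlockCentralInvol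

open Cfsg Cfsg.Agent.Lib.CharBasic Cfsg.Agent.Lib.CharInd Cfsg.Agent.Lib.CharIntegrality
open Cfsg.Agent.Lib.BlockLocal Cfsg.Agent.Lib.BlockIdem Cfsg.Agent.Lib.BlockQ
open Cfsg.Agent.Lib.BlockOrtho Cfsg.Agent.Lib.BlockVal Cfsg.Agent.Lib.BlockMajor
open Cfsg.Agent.Lib.BlockUniform Cfsg.Agent.Lib.BlockDefect Cfsg.Agent.Lib.BlockInvol
open scoped ComplexConjugate

universe u

variable {X : Type u} [Group X] [Fintype X] {M : Ideal AlgInt} {z : X}

/-- The sign of `ξ` at `z`. -/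
noncomputable def sg (z : X) (ξ : IrrCharacter X) : ℂ := (ξ : X → ℂ) z / (ξ : X → ℂ) 1

theorem sg_cases (hz : orderOf z = 2) (hzc : ∀ c, z * c = c * z) (ξ : IrrCharacter X) :
    sg z ξ = 1 ∨ sg z ξ = -1 := by
  have h := om_root ξ.2 hzc (n := 2) (pow_two_of_order hz)
  exact sq_eq_one_iff.mp h

theorem mul_z (hzc : ∀ c, z * c = c * z) (ξ : IrrCharacter X) (c : X) :
    (ξ : X → ℂ) (c * z) = (ξ : X → ℂ) c * sg z ξ := irr_mul_central ξ.2 hzc c

theorem sg_eq_one_iff (ξ : IrrCharacter X) : sg z ξ = 1 ↔ (ξ : X → ℂ) z = (ξ : X → ℂ) 1 := by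
  unfold sg
  exact div_eq_one_iff_eq (irr_one_ne_zero' ξ.2)

theorem two_dvd_orderOf_mul (hz : orderOf z = 2) (hzc : ∀ c, z * c = c * z) {g : X}
    (hg : ¬ 2 ∣ orderOf g) : 2 ∣ orderOf (g * z) := by
  have hc : Commute g z := (hzc g).symm
  have hco : (orderOf g).Coprime (orderOf z) := by
    rw [hz]
    exact ((Nat.Prime.coprime_iff_not_dvd Nat.prime_two).2 hg).symm
  rw [hc.orderOf_mul_eq_mul_orderOf_of_coprime hco, hz]
  exact dvd_mul_left _ _

/-- The signed sum vanishes. -/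
theorem sum_sg_eq_zero (hM : IsPModular 2 M) (hz : orderOf z = 2) (hzc : ∀ c, z * c = c * z)
    {b : Set (IrrCharacter X)} (hb : IsPBlock M b) {s g : X} (hs : ¬ 2 ∣ orderOf s)
    (hg : ¬ 2 ∣ orderOf g) :
    ∑ ξ ∈ bF b, sg z ξ * ((ξ : X → ℂ) s * conj ((ξ : X → ℂ) g)) = 0 := by
  have h1 := Cfsg.Agent.Lib.BlockOrth.weak_block_orthogonality hM hb hs (two_dvd_orderOf_mul hz hzc hg)
  rw [finsum_mem_eq_sum_bF] at h1
  rw [← h1]
  refine Finset.sum_congr rfl fun ξ _ => ?_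
  rw [← char_conj_eq_inv (IsIrrCharacter.isCharacter ξ.2), mul_z hzc, map_mul]
  have h2 : conj (sg z ξ) = sg z ξ := by
    rcases sg_cases hz hzc ξ with h | h <;> rw [h] <;> simp
  rw [h2]
  ring

/-- Half of the sum comes from the characters with `z` in the kernel. -/
theorem sum_eq_two_mul (hM : IsPModular 2 M) (hz : orderOf z = 2) (hzc : ∀ c, z * c = c * z)
    {b : Set (IrrCharacter X)} (hb : IsPBlock M b) {s g : X} (hs : ¬ 2 ∣ orderOf s)
    (hg : ¬ 2 ∣ orderOf g) [DecidablePred fun ξ : IrrCharacter X => sg z ξ = 1] :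
    ∑ ξ ∈ bF b, (ξ : X → ℂ) s * conj ((ξ : X → ℂ) g) =
      2 * ∑ ξ ∈ (bF b).filter (fun ξ => sg z ξ = 1), (ξ : X → ℂ) s * conj ((ξ : X → ℂ) g) := by
  have h1 := sum_sg_eq_zero hM hz hzc hb hs hg
  rw [← Finset.sum_filter_add_sum_filter_not (bF b) (fun ξ => sg z ξ = 1)] at h1 ⊢
  have h2 : ∑ ξ ∈ (bF b).filter (fun ξ => sg z ξ = 1),
      sg z ξ * ((ξ : X → ℂ) s * conj ((ξ : X → ℂ) g)) =
      ∑ ξ ∈ (bF b).filter (fun ξ => sg z ξ = 1), (ξ : X → ℂ) s * conj ((ξ : X → ℂ) g) := by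
    refine Finset.sum_congr rfl fun ξ hξ => ?_
    rw [(Finset.mem_filter.mp hξ).2, one_mul]
  have h3 : ∑ ξ ∈ (bF b).filter (fun ξ => ¬ sg z ξ = 1),
      sg z ξ * ((ξ : X → ℂ) s * conj ((ξ : X → ℂ) g)) =
      - ∑ ξ ∈ (bF b).filter (fun ξ => ¬ sg z ξ = 1), (ξ : X → ℂ) s * conj ((ξ : X → ℂ) g) := by
    rw [← Finset.sum_neg_distrib]
    refine Finset.sum_congr rfl fun ξ hξ => ?_
    rw [(sg_cases hz hzc ξ).resolve_left (Finset.mem_filter.mp hξ).2]
    ring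
  rw [h2, h3] at h1
  linear_combination -h1

/-- Elements of `⟨z⟩`. -/
theorem mem_zpowers_cases (hz : orderOf z = 2) {u : X} (hu : u ∈ Subgroup.zpowers z) :
    u = 1 ∨ u = z := by
  obtain ⟨k, rfl⟩ := Subgroup.mem_zpowers_iff.mp hu
  have h2 : z ^ (2 : ℤ) = 1 := by exact_mod_cast pow_two_of_order hz
  rcases Int.even_or_odd k with ⟨m, rfl⟩ | ⟨m, rfl⟩
  · left
    rw [← two_mul, zpow_mul, h2, one_zpow]
  · right
    rw [zpow_add, zpow_mul, zpow_one, h2, one_zpow, one_mul]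

section Quot

variable (hM : IsPModular 2 M) (hz : orderOf z = 2) (hzc : ∀ c, z * c = c * z)
include hM hz hzc

theorem normal_zpowers : (Subgroup.zpowers z).Normal := by
  refine ⟨fun u hu c => ?_⟩
  rcases mem_zpowers_cases hz hu with rfl | rfl
  · simp
  · rw [← hzc c, mul_inv_cancel_right]
    exact hu

theorem centralizer_index : ∃ k : ℕ, (Subgroup.centralizer ((Subgroup.zpowers z : Subgroup X) : Set X)).index = 2 ^ k := by
  refine ⟨0, ?_⟩
  have h : Subgroup.centralizer ((Subgroup.zpowers z : Subgroup X) : Set X) = ⊤ := by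
    rw [eq_top_iff]
    intro c _
    rw [Subgroup.mem_centralizer_iff]
    intro u hu
    rcases mem_zpowers_cases hz hu with rfl | rfl
    · simp
    · exact (hzc c).symm ▸ rfl
  rw [h, Subgroup.index_top, pow_zero]

end Quot

/-- The main computation in the quotient. -/
theorem exists_theta (hM : IsPModular 2 M) (hz : orderOf z = 2) (hzc : ∀ c, z * c = c * z)
    {b : Set (IrrCharacter X)} (hb : IsPBlock M b) (hd : blockDefect 2 b = 2) :
    ∃ θ ∈ b, ∀ s g : X, ¬ 2 ∣ orderOf s → ¬ 2 ∣ orderOf g →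
      ∑ ξ ∈ bF b, (ξ : X → ℂ) s * conj ((ξ : X → ℂ) g) =
        4 * ((θ : X → ℂ) s * conj ((θ : X → ℂ) g)) := by
  classical
  have hMp := hM.2.1.isPrime
  set N : Subgroup X := Subgroup.zpowers z with hN
  haveI hNn : N.Normal := normal_zpowers hM hz hzc
  have hNp : IsPGroup 2 N := isPGroup_zpowers hz
  letI : Fintype (X ⧸ N) := Fintype.ofFinite _
  obtain ⟨ξ₀, hξ₀, hker₀⟩ := Cfsg.Agent.Lib.BlkQuot.exists_mem_block_ker hM hb N hNn hNp
  obtain ⟨ψ₀', hψ₀irr, hψ₀eq⟩ := Cfsg.Agent.Lib.CharKernel.exists_quotient_irr N ξ₀.2 hker₀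
  set ψ₀ : IrrCharacter (X ⧸ N) := ⟨ψ₀', hψ₀irr⟩ with hψ₀
  set b' : Set (IrrCharacter (X ⧸ N)) := blockOf M (ψ₀ : X ⧸ N → ℂ) with hb'def
  have hb' : IsPBlock M b' := ⟨ψ₀, rfl⟩
  have hinfl₀ : Cfsg.Agent.Lib.BlkQuot.infl N ψ₀ = ξ₀ := by
    apply Subtype.ext
    funext g
    exact hψ₀eq g
  have hbξ : b = blockOf M (ξ₀ : X → ℂ) := by
    obtain ⟨ξ, rfl⟩ := hb
    exact (blockOf_eq_of_mem hξ₀).symm
  have hmem : ∀ ψ : IrrCharacter (X ⧸ N), ψ ∈ b' ↔ Cfsg.Agent.Lib.BlkQuot.infl N ψ ∈ b := by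
    intro ψ
    have h1 := Cfsg.Agent.Lib.BlkQuot.sameBlock_infl_iff N hM hNp (centralizer_index hM hz hzc) ψ₀ ψ
    rw [hinfl₀] at h1
    rw [hbξ]
    exact h1
  -- degrees
  have hdeg : ∀ ψ : IrrCharacter (X ⧸ N), charDegree (Cfsg.Agent.Lib.BlkQuot.infl N ψ : X → ℂ) =
      charDegree (ψ : X ⧸ N → ℂ) := by
    intro ψ
    unfold charDegree
    simp only [Cfsg.Agent.Lib.BlkQuot.infl_apply]
    rfl
  have hminb : ∀ χ ∈ b, (charDegree (χ : X → ℂ)).factorization 2 = minExp 2 b := fun χ hχ =>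
    height_zero_of_defect_le hM hb (by omega) hχ
  have hmin : minExp 2 b' = minExp 2 b := by
    obtain ⟨ψ₁, hψ₁, h1⟩ := exists_minExp (p := 2) hb'
    rw [← h1, ← hdeg, hminb _ ((hmem ψ₁).1 hψ₁)]
  have hcardX : Nat.card X = 2 * Nat.card (X ⧸ N) := by
    rw [Subgroup.card_eq_card_quotient_mul_card_subgroup N, hN, Nat.card_zpowers, hz, mul_comm]
  have hdb' : blockDefect 2 b' = 1 := by
    have h1 := card_factorization_eq (M := M) (p := 2) hb
    have h2 := card_factorization_eq (M := M) (p := 2) hb'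
    have h3 : (Nat.card X).factorization 2 = (Nat.card (X ⧸ N)).factorization 2 + 1 := by
      rw [hcardX, Nat.factorization_mul (by norm_num) Nat.card_pos.ne']
      simp [Nat.prime_two.factorization_self]
      omega
    omega
  obtain ⟨D', hD'⟩ := exists_isDefectGroup hM hb'
  have hcardD : Nat.card D' = 2 := by
    rw [card_isDefectGroup hM hb' hD', hdb', pow_one]
  obtain ⟨hcb', hagree⟩ := agree_of_card_two hM hb' hD' hcardD
  have hcb'' : (bF b').card = 2 := by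
    rw [← Cfsg.Agent.S4710.card_eq_bF]
    exact hcb'
  -- the image
  have himg : (bF b).filter (fun ξ => sg z ξ = 1) = (bF b').image (Cfsg.Agent.Lib.BlkQuot.infl N) := by
    ext ξ
    simp only [Finset.mem_filter, mem_bF, Finset.mem_image]
    constructor
    · rintro ⟨h1, h2⟩
      have h3 : ∀ u ∈ N, (ξ : X → ℂ) u = (ξ : X → ℂ) 1 := by
        intro u hu
        rcases mem_zpowers_cases hz hu with rfl | rfl
        · rfl
        · exact (sg_eq_one_iff ξ).1 h2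
      obtain ⟨ψ', hψirr, hψeq⟩ := Cfsg.Agent.Lib.CharKernel.exists_quotient_irr N ξ.2 h3
      have h4 : Cfsg.Agent.Lib.BlkQuot.infl N ⟨ψ', hψirr⟩ = ξ := by
        apply Subtype.ext
        funext g
        exact hψeq g
      refine ⟨⟨ψ', hψirr⟩, ?_, h4⟩
      rw [hmem, h4]
      exact h1
    · rintro ⟨ψ, hψ, rfl⟩
      refine ⟨(hmem ψ).1 hψ, ?_⟩
      rw [sg_eq_one_iff]
      simp only [Cfsg.Agent.Lib.BlkQuot.infl_apply]
      have h5 : ((z : X) : X ⧸ N) = ((1 : X) : X ⧸ N) := by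
        rw [QuotientGroup.eq]
        simpa using N.inv_mem (Subgroup.mem_zpowers z)
      rw [h5]
  have hinj : Function.Injective (Cfsg.Agent.Lib.BlkQuot.infl N) := by
    intro ψ ψ' h
    apply Subtype.ext
    funext y
    obtain ⟨g, rfl⟩ := QuotientGroup.mk_surjective y
    have := congrArg (fun φ : IrrCharacter X => (φ : X → ℂ) g) h
    simpa using this
  refine ⟨ξ₀, hξ₀, fun s g hs hg => ?_⟩
  rw [sum_eq_two_mul hM hz hzc hb hs hg, himg, Finset.sum_image (fun _ _ _ _ h => hinj h)]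
  have hreg : ∀ y : X, ¬ 2 ∣ orderOf y → ¬ 2 ∣ orderOf ((y : X) : X ⧸ N) := by
    intro y hy h
    exact hy (h.trans (orderOf_map_dvd (QuotientGroup.mk' N) y))
  have h6 : ∀ ψ ∈ bF b', (Cfsg.Agent.Lib.BlkQuot.infl N ψ : X → ℂ) s *
      conj ((Cfsg.Agent.Lib.BlkQuot.infl N ψ : X → ℂ) g) =
      (ξ₀ : X → ℂ) s * conj ((ξ₀ : X → ℂ) g) := by
    intro ψ hψ
    have hψ' := mem_bF.mp hψ
    have hψ₀b : ψ₀ ∈ b' := mem_blockOf_self ψ₀
    have e1 := hagree ψ hψ' ψ₀ hψ₀b _ (hreg s hs)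
    have e2 := hagree ψ hψ' ψ₀ hψ₀b _ (hreg g hg)
    simp only [Cfsg.Agent.Lib.BlkQuot.infl_apply]
    rw [e1, e2, ← hinfl₀]
    simp only [Cfsg.Agent.Lib.BlkQuot.infl_apply]
  rw [Finset.sum_congr rfl h6, Finset.sum_const, hcb'']
  simp only [nsmul_eq_mul]
  push_cast
  ring

/-- Cauchy-Schwarz: the members of `b` are proportional to `θ` on the regular elements. -/
theorem proportional (hM : IsPModular 2 M) {b : Set (IrrCharacter X)} {θ : IrrCharacter X}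
    (hT : ∀ s g : X, ¬ 2 ∣ orderOf s → ¬ 2 ∣ orderOf g →
      ∑ ξ ∈ bF b, (ξ : X → ℂ) s * conj ((ξ : X → ℂ) g) =
        4 * ((θ : X → ℂ) s * conj ((θ : X → ℂ) g)))
    {s : X} (hs : ¬ 2 ∣ orderOf s) {ξ : IrrCharacter X} (hξ : ξ ∈ b) :
    (ξ : X → ℂ) s * (θ : X → ℂ) 1 = (θ : X → ℂ) s * (ξ : X → ℂ) 1 := by
  classical
  have h1 : ¬ 2 ∣ orderOf (1 : X) := by simp
  set a := (θ : X → ℂ) 1 with ha
  set t := (θ : X → ℂ) s with ht
  have hsum : ∑ ξ ∈ bF b, ((ξ : X → ℂ) s * a - t * (ξ : X → ℂ) 1) *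
      conj ((ξ : X → ℂ) s * a - t * (ξ : X → ℂ) 1) = 0 := by
    have e1 : ∀ ξ ∈ bF b, ((ξ : X → ℂ) s * a - t * (ξ : X → ℂ) 1) *
        conj ((ξ : X → ℂ) s * a - t * (ξ : X → ℂ) 1) =
        a * conj a * ((ξ : X → ℂ) s * conj ((ξ : X → ℂ) s)) -
        a * conj t * ((ξ : X → ℂ) s * conj ((ξ : X → ℂ) 1)) -
        t * conj a * ((ξ : X → ℂ) 1 * conj ((ξ : X → ℂ) s)) +
        t * conj t * ((ξ : X → ℂ) 1 * conj ((ξ : X → ℂ) 1)) := by
      intro ξ _
      rw [map_sub, map_mul, map_mul]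
      ring
    rw [Finset.sum_congr rfl e1, Finset.sum_add_distrib, Finset.sum_sub_distrib,
      Finset.sum_sub_distrib, ← Finset.mul_sum, ← Finset.mul_sum, ← Finset.mul_sum, ← Finset.mul_sum,
      hT s s hs hs, hT s 1 hs h1, hT 1 s h1 hs, hT 1 1 h1 h1]
    ring
  have h2 : ∑ ξ ∈ bF b, Complex.normSq ((ξ : X → ℂ) s * a - t * (ξ : X → ℂ) 1) = 0 := by
    have e2 : ∑ ξ ∈ bF b, ((Complex.normSq ((ξ : X → ℂ) s * a - t * (ξ : X → ℂ) 1) : ℝ) : ℂ) = 0 := by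
      rw [← hsum]
      refine Finset.sum_congr rfl fun ξ _ => ?_
      rw [Complex.mul_conj]
    exact_mod_cast e2
  have h3 := (Finset.sum_eq_zero_iff_of_nonneg (fun ξ _ => Complex.normSq_nonneg _)).1 h2 ξ (mem_bF.mpr hξ)
  have h4 := Complex.normSq_eq_zero.1 h3
  exact sub_eq_zero.1 h4

/-- **All members of `b` agree on the regular elements.** -/
theorem uniform_of_central (hM : IsPModular 2 M) (hz : orderOf z = 2) (hzc : ∀ c, z * c = c * z)
    {b : Set (IrrCharacter X)} (hb : IsPBlock M b) (hd : blockDefect 2 b = 2) :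
    ∃ θ ∈ b, ∀ ξ ∈ b, ∀ s : X, ¬ 2 ∣ orderOf s → (ξ : X → ℂ) s = (θ : X → ℂ) s := by
  classical
  have hMp := hM.2.1.isPrime
  obtain ⟨θ, hθ, hT⟩ := exists_theta hM hz hzc hb hd
  refine ⟨θ, hθ, ?_⟩
  have h1reg : ¬ 2 ∣ orderOf (1 : X) := by simp
  have hθ1 : (θ : X → ℂ) 1 ≠ 0 := irr_one_ne_zero' θ.2
  -- the ratio
  set r : IrrCharacter X → ℂ := fun ξ => (ξ : X → ℂ) 1 / (θ : X → ℂ) 1 with hr
  have hprop : ∀ ξ ∈ b, ∀ s : X, ¬ 2 ∣ orderOf s → (ξ : X → ℂ) s = r ξ * (θ : X → ℂ) s := by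
    intro ξ hξ s hs
    have := proportional hM hT hs hξ
    simp only [hr]
    field_simp
    rw [this]
    ring
  have hdξ : ∀ ξ : IrrCharacter X, (ξ : X → ℂ) 1 = (charDegree (ξ : X → ℂ) : ℂ) := fun ξ =>
    Cfsg.Agent.Lib.CharKernel.one_eq_charDegree (IsIrrCharacter.isCharacter ξ.2)
  have hconjr : ∀ ξ, conj (r ξ) = r ξ := by
    intro ξ
    simp only [hr]
    rw [map_div₀, hdξ ξ, hdξ θ, map_natCast, map_natCast]
  -- the inner products
  set w : ℂ := classInner (pRegularPart 2 (θ : X → ℂ)) (θ : X → ℂ) with hw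
  have hinner : ∀ ξ ∈ b, ∀ ξ' ∈ b, classInner (pRegularPart 2 (ξ : X → ℂ)) (ξ' : X → ℂ) =
      r ξ * r ξ' * w := by
    intro ξ hξ ξ' hξ'
    rw [hw, classInner_pReg_eq_sum, classInner_pReg_eq_sum]
    have e1 : ∑ s ∈ Finset.univ.filter (fun s : X => ¬ 2 ∣ orderOf s), (ξ : X → ℂ) s * conj ((ξ' : X → ℂ) s) =
        (r ξ * r ξ') * ∑ s ∈ Finset.univ.filter (fun s : X => ¬ 2 ∣ orderOf s),
          (θ : X → ℂ) s * conj ((θ : X → ℂ) s) := by
      rw [Finset.mul_sum]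
      refine Finset.sum_congr rfl fun s hs => ?_
      have hs' : ¬ 2 ∣ orderOf s := (Finset.mem_filter.mp hs).2
      rw [hprop ξ hξ s hs', hprop ξ' hξ' s hs', map_mul, hconjr]
      ring
    rw [e1]
    ring
  set q := Q 2 b θ θ with hq
  have hd2 : (2 : ℂ) ^ blockDefect 2 b = 4 := by rw [hd]; norm_num
  have hQ : ∀ ξ ∈ b, ∀ ξ' ∈ b, (Q 2 b ξ ξ' : ℂ) = r ξ * r ξ' * (q : ℂ) := by
    intro ξ hξ ξ' hξ'
    have h1 := Q_spec hM hb ξ hξ'
    have h2 := Q_spec hM hb θ hθ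
    have h3 : r θ = 1 := by
      simp only [hr]
      exact div_self hθ1
    rw [hinner ξ hξ ξ' hξ'] at h1
    rw [hinner θ hθ θ hθ, h3] at h2
    rw [hq, ← h2, ← h1]
    push_cast
    ring
  have hrθ : r θ = 1 := by
    simp only [hr]
    exact div_self hθ1
  -- the sum of the squares
  have hsum : ∑ ξ ∈ bF b, r ξ * r ξ = 4 := by
    have h1 := hT 1 1 h1reg h1reg
    have h2 : (θ : X → ℂ) 1 * conj ((θ : X → ℂ) 1) ≠ 0 := by simp [hθ1]
    have h3 : ∀ ξ ∈ bF b, (ξ : X → ℂ) 1 * conj ((ξ : X → ℂ) 1) =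
        (r ξ * r ξ) * ((θ : X → ℂ) 1 * conj ((θ : X → ℂ) 1)) := by
      intro ξ hξ
      have h4 := hprop ξ (mem_bF.mp hξ) 1 h1reg
      rw [h4, map_mul, hconjr]
      ring
    rw [Finset.sum_congr rfl h3, ← Finset.sum_mul] at h1
    exact mul_right_cancel₀ h2 h1
  -- `q = 1`
  have hqpos : 0 < q := Q_self_pos hM hb hθ
  have hq1 : q = 1 := by
    have h1 := sum_Q_mul_Q hM hb hθ hθ
    have h2 : ((∑ ψ ∈ bF b, Q 2 b θ ψ * Q 2 b ψ θ : ℤ) : ℂ) = 4 * (q : ℂ) * (q : ℂ) := by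
      push_cast
      have h3 : ∀ ψ ∈ bF b, (Q 2 b θ ψ : ℂ) * (Q 2 b ψ θ : ℂ) = (r ψ * r ψ) * ((q : ℂ) * (q : ℂ)) := by
        intro ψ hψ
        have hψ' := mem_bF.mp hψ
        rw [hQ θ hθ ψ hψ', hQ ψ hψ' θ hθ, hrθ]
        ring
      rw [Finset.sum_congr rfl h3, ← Finset.sum_mul, hsum]
      ring
    rw [h1] at h2
    have h4 : (((2 : ℕ) : ℤ) ^ blockDefect 2 b * Q 2 b θ θ : ℤ) = 4 * q * q := by
      have : (((((2 : ℕ) : ℤ) ^ blockDefect 2 b * Q 2 b θ θ : ℤ)) : ℂ) = ((4 * q * q : ℤ) : ℂ) := by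
        rw [h2]
        push_cast
        ring
      exact_mod_cast this
    rw [hd] at h4
    have h5 : q * (4 * q) = q * 4 := by
      rw [← hq] at h4
      push_cast at h4
      linarith
    have h6 := mul_left_cancel₀ hqpos.ne' h5
    omega
  -- the integers
  set n : IrrCharacter X → ℤ := fun ξ => Q 2 b θ ξ with hn
  have hnr : ∀ ξ ∈ b, (n ξ : ℂ) = r ξ := by
    intro ξ hξ
    simp only [hn]
    rw [hQ θ hθ ξ hξ, hrθ, hq1]
    simp
  have hsum' : ∑ ξ ∈ bF b, n ξ ^ 2 = 4 := by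
    have : ((∑ ξ ∈ bF b, n ξ ^ 2 : ℤ) : ℂ) = ((4 : ℤ) : ℂ) := by
      push_cast
      rw [← hsum]
      refine Finset.sum_congr rfl fun ξ hξ => ?_
      rw [hnr ξ (mem_bF.mp hξ)]
      ring
    exact_mod_cast this
  have hodd : ∀ ξ ∈ bF b, ¬ (2 : ℤ) ∣ n ξ := by
    intro ξ hξ h2
    have hξ' := mem_bF.mp hξ
    have h1 := not_dvd_Q_self hM hb hξ' (height_zero_of_defect_le hM hb (by omega) hξ')
    apply h1
    have h3 : Q 2 b ξ ξ = n ξ ^ 2 := by
      have : ((Q 2 b ξ ξ : ℤ) : ℂ) = ((n ξ ^ 2 : ℤ) : ℂ) := by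
        rw [hQ ξ hξ' ξ hξ', hq1]
        push_cast
        rw [hnr ξ hξ']
        ring
      exact_mod_cast this
    rw [h3]
    push_cast
    exact dvd_pow h2 (by norm_num)
  obtain ⟨-, hsq⟩ := card_eq_four_of_sum_sq (bF b) n hodd hsum'
  have hn1 : ∀ ξ ∈ b, n ξ = 1 := by
    intro ξ hξ
    have h1 := hsq ξ (mem_bF.mpr hξ)
    have h2 : (n ξ : ℂ) * (charDegree (θ : X → ℂ) : ℂ) = (charDegree (ξ : X → ℂ) : ℂ) := by
      rw [hnr ξ hξ]
      simp only [hr]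
      rw [← hdξ ξ, ← hdξ θ]
      field_simp
    have h3 : n ξ * (charDegree (θ : X → ℂ) : ℤ) = (charDegree (ξ : X → ℂ) : ℤ) := by exact_mod_cast h2
    have h4 : 0 < (charDegree (ξ : X → ℂ) : ℤ) := by
      exact_mod_cast Nat.pos_of_ne_zero (Cfsg.Agent.Lib.CharKernel.charDegree_ne_zero ξ.2)
    have h5 : 0 < (charDegree (θ : X → ℂ) : ℤ) := by
      exact_mod_cast Nat.pos_of_ne_zero (Cfsg.Agent.Lib.CharKernel.charDegree_ne_zero θ.2)
    rcases sq_eq_one_iff.mp h1 with h6 | h6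
    · exact h6
    · rw [h6] at h3
      omega
  intro ξ hξ s hs
  rw [hprop ξ hξ s hs, ← hnr ξ hξ, hn1 ξ hξ]
  simp

end Cfsg.Agent.Lib.BlockCentralInvol
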