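import Mathlib
import Cfsg.Agent.Lib.BlockSubsection
import Cfsg.Agent.Lib.BlockQ

/-!
# The number `k(B) - l(B)` via sections

`|G| (k(B) - l(B)) = ∑_{z ≠ 1} |C(z)| ∑_{F, F^G = B} l(F)`.
-/

set_option autoImplicit false
set_option linter.unusedSectionVars false
set_option linter.unusedVariables false
set_option linter.style.haveILetI false

namespace Cfsg.Agent.Lib.BlockKL

open Cfsg Cfsg.Agent.Lib.CharBasic Cfsg.Agent.Lib.CharInd Cfsg.Agent.Lib.CharIntegrality
open Cfsg.Agent.Lib.BlockLocal Cfsg.Agent.Lib.BlockIdem Cfsg.Agent.Lib.BlockQ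
open Cfsg.Agent.Lib.BlockOrtho Cfsg.Agent.Lib.BlockSubsection Cfsg.Agent.Lib.BrauerPair
open Cfsg.Agent.Lib.BlkOrth
open scoped ComplexConjugate Classical

universe u

variable {G : Type u} [Group G] [Fintype G] {p : ℕ} {M : Ideal AlgInt}

noncomputable instance fintypeCen (z : G) : Fintype (Subgroup.centralizer ({z} : Set G)) :=
  Fintype.ofFinite _

theorem orderOf_conj_eq' (y g : G) : orderOf (y * g * y⁻¹) = orderOf g := by
  have h := orderOf_injective (MulAut.conj y).toMonoidHom (MulAut.conj y).injective g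
  simpa [MulAut.conj_apply] using h

/-- The sum over `p`-sections. -/
theorem sum_section (hp : p.Prime) (f : G → ℂ) :
    ∑ g : G, f g = ∑ z : G, if ∃ k : ℕ, orderOf z = p ^ k then
      ∑ s : Subgroup.centralizer ({z} : Set G), if ¬ p ∣ orderOf s then f (z * (s : G)) else 0
      else 0 := by
  choose pp hpp using fun g : G => exists_isPPart (p := p) hp g
  rw [← Finset.sum_fiberwise Finset.univ pp f]
  refine Finset.sum_congr rfl fun z _ => ?_
  by_cases hz : ∃ k : ℕ, orderOf z = p ^ k
  · rw [if_pos hz, ← Finset.sum_filter]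
    symm
    refine Finset.sum_bij (fun s _ => z * (s : G)) ?_ ?_ ?_ ?_
    · intro s hs
      have hs' : ¬ p ∣ orderOf s := (Finset.mem_filter.mp hs).2
      have hc : Commute z (s : G) := by
        have := (commute_of_mem (H := Subgroup.centralizer ({z} : Set G)) rfl s.2)
        exact this
      have h1 : IsPPart p (z * (s : G)) z :=
        pPart_of_mul hc hz (by rwa [Subgroup.orderOf_coe])
      refine Finset.mem_filter.mpr ⟨Finset.mem_univ _, ?_⟩
      exact pPart_unique hp (hpp _) h1
    · intro s _ s' _ h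
      exact Subtype.ext (mul_left_cancel h)
    · intro g hg
      have hg' : pp g = z := (Finset.mem_filter.mp hg).2
      obtain ⟨y, hy1, hy2, -, hy4⟩ := id (hg' ▸ hpp g)
      have hyC : y ∈ Subgroup.centralizer ({z} : Set G) :=
        mem_of_commute (H := Subgroup.centralizer ({z} : Set G)) rfl hy2
      refine ⟨⟨y, hyC⟩, Finset.mem_filter.mpr ⟨Finset.mem_univ _, ?_⟩, hy1⟩
      rwa [Subgroup.orderOf_mk]
    · intro s _
      rfl
  · rw [if_neg hz]
    apply Finset.sum_eq_zero
    intro g hg
    exfalso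
    have hg' : pp g = z := (Finset.mem_filter.mp hg).2
    obtain ⟨y, -, -, hk, -⟩ := id (hg' ▸ hpp g)
    exact hz hk

/-- The contribution of the section of `z`. -/
noncomputable def vz (p : ℕ) (B : Set (IrrCharacter G)) (z : G) : ℂ :=
  ∑ s : Subgroup.centralizer ({z} : Set G), if ¬ p ∣ orderOf s then
    ∑ χ ∈ bF B, (χ : G → ℂ) (z * (s : G)) * conj ((χ : G → ℂ) (z * (s : G))) else 0

/-- The contribution in terms of the blocks of the centralizer. -/
theorem vz_eq (hM : IsPModular p M) {B : Set (IrrCharacter G)} (hB : IsPBlock M B) {z : G}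
    (hz : ∃ k : ℕ, orderOf z = p ^ k) :
    vz p B z = (Nat.card (Subgroup.centralizer ({z} : Set G)) : ℂ) *
      ∑ F : BlockT M (Subgroup.centralizer ({z} : Set G)),
        if IsInducedBlock M (Subgroup.centralizer ({z} : Set G)) F.1 B then
          (blockRank p F.1 : ℂ) else 0 := by
  haveI := isPrime_of_isPModular hM
  haveI : Fact p.Prime := ⟨hM.1⟩
  set H := Subgroup.centralizer ({z} : Set G) with hH
  have h1 : ∀ s : H, (if ¬ p ∣ orderOf s then
      ∑ χ ∈ bF B, (χ : G → ℂ) (z * (s : G)) * conj ((χ : G → ℂ) (z * (s : G))) else 0) =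
      ∑ F : BlockT M H, if IsInducedBlock M H F.1 B then
        (if ¬ p ∣ orderOf s then ∑ᶠ ψ ∈ F.1, (ψ : H → ℂ) s * conj ((ψ : H → ℂ) s) else 0) else 0 := by
    intro s
    by_cases hs : ¬ p ∣ orderOf s
    · simp only [if_pos hs]
      rw [← finsum_mem_eq_sum_bF, sum_block_mul_conj hM hz hH hB hs hs]
    · simp only [if_neg hs]
      simp
  unfold vz
  rw [Finset.sum_congr rfl fun s _ => h1 s, Finset.sum_comm, Finset.mul_sum]
  refine Finset.sum_congr rfl fun F _ => ?_
  by_cases hF : IsInducedBlock M H F.1 B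
  · simp only [if_pos hF]
    have h2 := card_mul_blockRank (p := p) hM F.2
    rw [h2]
    refine Finset.sum_congr rfl fun s _ => ?_
    by_cases hs : ¬ p ∣ orderOf s
    · rw [if_pos hs, finsum_mem_eq_sum_indB]
      refine Finset.sum_congr rfl fun χ _ => ?_
      rw [pRegularPart_of_reg _ hs]
    · rw [if_neg hs]
      symm
      apply Finset.sum_eq_zero
      intro χ _
      rw [pRegularPart_of_sing _ (not_not.mp hs)]
      simp
  · simp only [if_neg hF]
    simp

theorem vz_eq' (hM : IsPModular p M) {B : Set (IrrCharacter G)} (hB : IsPBlock M B) {z : G}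
    (hz : ∃ k : ℕ, orderOf z = p ^ k) {H : Subgroup G}
    (hH : H = Subgroup.centralizer ({z} : Set G)) :
    vz p B z = (Nat.card H : ℂ) *
      ∑ F : BlockT M H, if IsInducedBlock M H F.1 B then (blockRank p F.1 : ℂ) else 0 := by
  subst hH
  exact vz_eq hM hB hz

/-- Conjugation invariance of the contribution. -/
theorem vz_conj (B : Set (IrrCharacter G)) (y z : G) : vz p B (y * z * y⁻¹) = vz p B z := by
  have hmem : ∀ s : Subgroup.centralizer ({z} : Set G),
      y * (s : G) * y⁻¹ ∈ Subgroup.centralizer ({y * z * y⁻¹} : Set G) := by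
    intro s
    rw [Subgroup.mem_centralizer_singleton_iff]
    have h := Subgroup.mem_centralizer_singleton_iff.mp s.2
    calc y * (s : G) * y⁻¹ * (y * z * y⁻¹) = y * ((s : G) * z) * y⁻¹ := by group
      _ = y * (z * (s : G)) * y⁻¹ := by rw [h]
      _ = _ := by group
  have hmem' : ∀ s : Subgroup.centralizer ({y * z * y⁻¹} : Set G),
      y⁻¹ * (s : G) * y ∈ Subgroup.centralizer ({z} : Set G) := by
    intro s
    rw [Subgroup.mem_centralizer_singleton_iff]
    have h := Subgroup.mem_centralizer_singleton_iff.mp s.2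
    calc y⁻¹ * (s : G) * y * z = y⁻¹ * ((s : G) * (y * z * y⁻¹)) * y := by group
      _ = y⁻¹ * ((y * z * y⁻¹) * (s : G)) * y := by rw [h]
      _ = _ := by group
  let e : Subgroup.centralizer ({z} : Set G) ≃ Subgroup.centralizer ({y * z * y⁻¹} : Set G) :=
    { toFun := fun s => ⟨y * (s : G) * y⁻¹, hmem s⟩
      invFun := fun s => ⟨y⁻¹ * (s : G) * y, hmem' s⟩
      left_inv := fun s => Subtype.ext (by simp; group)
      right_inv := fun s => Subtype.ext (by simp; group) }
  unfold vz
  rw [← Equiv.sum_comp e]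
  refine Finset.sum_congr rfl fun s _ => ?_
  have ho : orderOf (e s) = orderOf s := by
    rw [← Subgroup.orderOf_coe, ← Subgroup.orderOf_coe (a := s)]
    exact orderOf_conj_eq' y (s : G)
  rw [ho]
  by_cases hs : ¬ p ∣ orderOf s
  · rw [if_pos hs, if_pos hs]
    refine Finset.sum_congr rfl fun χ _ => ?_
    have h1 : (y * z * y⁻¹) * ((e s : _) : G) = y * (z * (s : G)) * y⁻¹ := by
      show (y * z * y⁻¹) * (y * (s : G) * y⁻¹) = _
      group
    rw [h1]
    have h2 := isClassFunction_of_isCharacter (IsIrrCharacter.isCharacter χ.2) (z * (s : G)) y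
    rw [h2]
  · rw [if_neg hs, if_neg hs]

/-- **The difference `k(B) - l(B)` via sections.** -/
theorem card_sub_rank (hM : IsPModular p M) {B : Set (IrrCharacter G)} (hB : IsPBlock M B) :
    (Nat.card G : ℂ) * (((bF B).card : ℂ) - (blockRank p B : ℂ)) =
      ∑ z : G, if (∃ k : ℕ, orderOf z = p ^ k) ∧ z ≠ 1 then vz p B z else 0 := by
  have hp := hM.1
  haveI : Fact p.Prime := ⟨hp⟩
  set f : G → ℂ := fun g => ∑ χ ∈ bF B, (χ : G → ℂ) g * conj ((χ : G → ℂ) g) with hf
  have h1 : ∑ g : G, f g = (Nat.card G : ℂ) * ((bF B).card : ℂ) := by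
    simp only [hf]
    rw [Finset.sum_comm]
    have h2 : ∀ χ ∈ bF B, ∑ g : G, (χ : G → ℂ) g * conj ((χ : G → ℂ) g) = (Nat.card G : ℂ) := by
      intro χ _
      have h3 := classInner_irr_self χ.2
      unfold classInner at h3
      have hne : (Nat.card G : ℂ) ≠ 0 := natCard_ne_zero'
      field_simp at h3
      exact h3
    rw [Finset.sum_congr rfl h2, Finset.sum_const, nsmul_eq_mul, mul_comm]
  have h2 : (Nat.card G : ℂ) * (blockRank p B : ℂ) = ∑ g : G, if ¬ p ∣ orderOf g then f g else 0 := by
    rw [card_mul_blockRank hM hB]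
    refine Finset.sum_congr rfl fun g _ => ?_
    by_cases hg : ¬ p ∣ orderOf g
    · rw [if_pos hg]
      simp only [hf]
      rw [← finsum_mem_eq_sum_bF, finsum_mem_eq_sum_indB]
      refine Finset.sum_congr rfl fun χ _ => ?_
      rw [pRegularPart_of_reg _ hg]
    · rw [if_neg hg]
      apply Finset.sum_eq_zero
      intro χ _
      rw [pRegularPart_of_sing _ (not_not.mp hg)]
      simp
  rw [mul_sub, ← h1, h2, ← Finset.sum_sub_distrib]
  have h3 : ∀ g : G, f g - (if ¬ p ∣ orderOf g then f g else 0) = if p ∣ orderOf g then f g else 0 := by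
    intro g
    by_cases hg : p ∣ orderOf g
    · simp [hg]
    · simp [hg]
  simp_rw [h3]
  rw [sum_section hp]
  refine Finset.sum_congr rfl fun z _ => ?_
  by_cases hz : ∃ k : ℕ, orderOf z = p ^ k
  · rw [if_pos hz]
    by_cases hz1 : z = 1
    · subst hz1
      rw [if_neg (by simp)]
      apply Finset.sum_eq_zero
      intro s _
      by_cases hs : ¬ p ∣ orderOf s
      · rw [if_pos hs, if_neg]
        rw [one_mul, Subgroup.orderOf_coe]
        exact hs
      · rw [if_neg hs]
    · rw [if_pos ⟨hz, hz1⟩]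
      unfold vz
      refine Finset.sum_congr rfl fun s _ => ?_
      by_cases hs : ¬ p ∣ orderOf s
      · rw [if_pos hs, if_pos hs, if_pos]
        have hc : Commute z (s : G) :=
          commute_of_mem (H := Subgroup.centralizer ({z} : Set G)) rfl s.2
        have h4 : IsPPart p (z * (s : G)) z := pPart_of_mul hc hz (by rwa [Subgroup.orderOf_coe])
        by_contra h5
        exact hz1 ((pPart_regular_iff hp h4).mp h5)
      · rw [if_neg hs, if_neg hs]
  · rw [if_neg hz, if_neg (fun h => hz h.1)]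

end Cfsg.Agent.Lib.BlockKL
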