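import Mathlib
import Cfsg.Prelude.Def_BrauerPairs
import Cfsg.Agent.Lib.BrauerSub

/-!
# Transport of blocks along isomorphisms and conjugation of Brauer pairs
-/

set_option autoImplicit false
set_option linter.unusedSectionVars false
set_option linter.unusedVariables false
set_option linter.style.haveILetI false

namespace Cfsg.Agent.Lib.BrauerConj

open Cfsg Cfsg.Agent.Lib.CharBasic Cfsg.Agent.Lib.CharInd Cfsg.Agent.Lib.CharIntegrality
open Cfsg.Agent.Lib.BlockLocal Cfsg.Agent.Lib.BlockIdem Cfsg.Agent.Lib.BlockNormal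
open Cfsg.Agent.Lib.BrauerMap Cfsg.Agent.Lib.BrauerPair Cfsg.Agent.Lib.BrauerSub
open scoped ComplexConjugate

universe u

section TwistE

variable {H H' : Type u} [Group H] [Group H']

/-- Transport of an irreducible character along an isomorphism. -/
noncomputable def twistE (σ : H ≃* H') (χ : IrrCharacter H) : IrrCharacter H' :=
  ⟨(χ : H → ℂ) ∘ σ.symm.toMonoidHom,
    isIrrCharacter_comp_of_surjective _ σ.symm.surjective χ.2⟩

@[simp] theorem twistE_apply (σ : H ≃* H') (χ : IrrCharacter H) (x : H') :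
    (twistE σ χ : H' → ℂ) x = (χ : H → ℂ) (σ.symm x) := rfl

theorem twistE_injective (σ : H ≃* H') : Function.Injective (twistE σ) := by
  intro χ ψ h
  apply Subtype.ext
  funext x
  have := congrFun (congrArg Subtype.val h) (σ x)
  simpa using this

theorem twistE_symm_twistE (σ : H ≃* H') (χ : IrrCharacter H') : twistE σ (twistE σ.symm χ) = χ := by
  apply Subtype.ext
  funext x
  simp

theorem twistE_twistE_symm (σ : H ≃* H') (χ : IrrCharacter H) : twistE σ.symm (twistE σ χ) = χ := by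
  apply Subtype.ext
  funext x
  simp

theorem index_centralizer_symmE (σ : H ≃* H') (c : H') :
    (Subgroup.centralizer ({σ.symm c} : Set H)).index =
      (Subgroup.centralizer ({c} : Set H')).index := by
  have h1 : (Subgroup.centralizer ({c} : Set H')).comap σ.toMonoidHom =
      Subgroup.centralizer ({σ.symm c} : Set H) := by
    ext x
    simp only [Subgroup.mem_comap, Subgroup.mem_centralizer_iff, Set.mem_singleton_iff, forall_eq]
    constructor
    · intro h
      have := congrArg σ.symm h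
      simpa using this
    · intro h
      have := congrArg σ h
      simpa using this
  rw [← h1]
  exact Subgroup.index_comap_of_surjective _ σ.surjective

theorem centralChar_twistE (σ : H ≃* H') (χ : IrrCharacter H) (c : H') :
    centralChar (twistE σ χ : H' → ℂ) c = centralChar (χ : H → ℂ) (σ.symm c) := by
  simp only [centralChar, twistE_apply, index_centralizer_symmE]
  simp

theorem sameBlock_twistE {M : Ideal AlgInt} (σ : H ≃* H') {χ ψ : IrrCharacter H}
    (h : SameBlock M (χ : H → ℂ) ψ) : SameBlock M (twistE σ χ : H' → ℂ) (twistE σ ψ) := by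
  intro c
  rw [centralChar_twistE, centralChar_twistE]
  exact h _

/-- The image of a set of irreducible characters under an isomorphism. -/
def twistSetE (σ : H ≃* H') (f : Set (IrrCharacter H)) : Set (IrrCharacter H') := twistE σ '' f

theorem mem_twistSetE_iff (σ : H ≃* H') (f : Set (IrrCharacter H)) (χ : IrrCharacter H) :
    twistE σ χ ∈ twistSetE σ f ↔ χ ∈ f :=
  (twistE_injective σ).mem_set_image

theorem blockOf_twistE {M : Ideal AlgInt} (σ : H ≃* H') (χ : IrrCharacter H) :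
    blockOf M (twistE σ χ : H' → ℂ) = twistSetE σ (blockOf M (χ : H → ℂ)) := by
  ext ψ
  constructor
  · intro hψ
    refine ⟨twistE σ.symm ψ, ?_, twistE_symm_twistE σ ψ⟩
    have h := sameBlock_twistE σ.symm hψ
    rwa [twistE_twistE_symm] at h
  · rintro ⟨ψ', hψ', rfl⟩
    exact sameBlock_twistE σ hψ'

theorem isPBlock_twistSetE {M : Ideal AlgInt} (σ : H ≃* H') {f : Set (IrrCharacter H)}
    (hf : IsPBlock M f) : IsPBlock M (twistSetE σ f) := by
  obtain ⟨χ, rfl⟩ := hf
  exact ⟨twistE σ χ, (blockOf_twistE σ χ).symm⟩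

theorem blockCoeff_twistSetE (σ : H ≃* H') (f : Set (IrrCharacter H)) (x : H) :
    blockCoeff (twistSetE σ f) (σ x) = blockCoeff f x := by
  unfold blockCoeff twistSetE
  rw [Nat.card_congr σ.toEquiv]
  congr 1
  rw [finsum_mem_image (fun a _ b _ h => twistE_injective σ h)]
  refine finsum_mem_congr rfl fun χ _ => ?_
  simp

/-- The principal character is preserved. -/
theorem twistE_irrOne_mem (M : Ideal AlgInt) (σ : H ≃* H') (χ : IrrCharacter H)
    (h : (χ : H → ℂ) = fun _ => 1) : (twistE σ χ : H' → ℂ) = fun _ => 1 := by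
  funext x
  simp [h]

theorem twistSetE_principal (M : Ideal AlgInt) (σ : H ≃* H') :
    twistSetE σ (principalBlock M H) = principalBlock M H' := by
  have h1 : (twistE σ (irrOne H) : H' → ℂ) = fun _ => 1 := twistE_irrOne_mem M σ _ rfl
  unfold principalBlock
  rw [← h1]
  have := blockOf_twistE (M := M) σ (irrOne H)
  exact this.symm

end TwistE

section Conj

variable {G : Type u} [Group G]

local notation "𝐂[" R "]" => Subgroup.centralizer ((R : Subgroup G) : Set G)
local notation Q "^^" x => Subgroup.map (MulEquiv.toMonoidHom (MulAut.conj (x : G))) (Q : Subgroup G)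

theorem mem_conj_iff (Q : Subgroup G) (x y : G) : y ∈ (Q ^^ x) ↔ x⁻¹ * y * x ∈ Q := by
  constructor
  · rintro ⟨q, hq, rfl⟩
    simpa [MulAut.conj_apply, mul_assoc] using hq
  · intro h
    exact ⟨_, h, by simp [MulAut.conj_apply, mul_assoc]⟩

theorem conj_mem_conj (Q : Subgroup G) (x : G) {q : G} (h : q ∈ Q) : x * q * x⁻¹ ∈ (Q ^^ x) :=
  ⟨q, h, by simp [MulAut.conj_apply]⟩

theorem conj_mem_centralizer (Q : Subgroup G) (x : G) {c : G} (h : c ∈ 𝐂[Q]) :
    x * c * x⁻¹ ∈ 𝐂[Q ^^ x] := by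
  rw [Subgroup.mem_centralizer_iff] at h ⊢
  intro q' hq'
  have h1 := h _ ((mem_conj_iff Q x q').1 hq')
  calc q' * (x * c * x⁻¹) = x * ((x⁻¹ * q' * x) * c) * x⁻¹ := by group
    _ = x * (c * (x⁻¹ * q' * x)) * x⁻¹ := by rw [h1]
    _ = x * c * x⁻¹ * q' := by group

theorem conj_inv_mem_centralizer (Q : Subgroup G) (x : G) {c : G} (h : c ∈ 𝐂[Q ^^ x]) :
    x⁻¹ * c * x ∈ 𝐂[Q] := by
  rw [Subgroup.mem_centralizer_iff] at h ⊢
  intro q hq
  have h1 := h _ (conj_mem_conj Q x hq)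
  calc q * (x⁻¹ * c * x) = x⁻¹ * ((x * q * x⁻¹) * c) * x := by group
    _ = x⁻¹ * (c * (x * q * x⁻¹)) * x := by rw [h1]
    _ = x⁻¹ * c * x * q := by group

/-- Conjugation as an isomorphism of centralizers. -/
noncomputable def cenIso (Q : Subgroup G) (x : G) : 𝐂[Q] ≃* 𝐂[Q ^^ x] where
  toFun c := ⟨x * c * x⁻¹, conj_mem_centralizer Q x c.2⟩
  invFun c := ⟨x⁻¹ * c * x, conj_inv_mem_centralizer Q x c.2⟩
  left_inv c := by
    apply Subtype.ext
    change x⁻¹ * (x * c * x⁻¹) * x = c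
    group
  right_inv c := by
    apply Subtype.ext
    change x * (x⁻¹ * c * x) * x⁻¹ = c
    group
  map_mul' a b := by
    apply Subtype.ext
    change x * (a * b) * x⁻¹ = (x * a * x⁻¹) * (x * b * x⁻¹)
    group

@[simp] theorem coe_cenIso (Q : Subgroup G) (x : G) (c : 𝐂[Q]) :
    ((cenIso Q x c : 𝐂[Q ^^ x]) : G) = x * c * x⁻¹ := rfl

@[simp] theorem coe_cenIso_symm (Q : Subgroup G) (x : G) (c : 𝐂[Q ^^ x]) :
    (((cenIso Q x).symm c : 𝐂[Q]) : G) = x⁻¹ * c * x := rfl

/-- The conjugate of a set of characters, with a target subgroup as a parameter. -/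
def conjBlockTo (Q R : Subgroup G) (x : G) (f : Set (IrrCharacter 𝐂[Q])) : Set (IrrCharacter 𝐂[R]) :=
  {ξ' | ∃ ξ ∈ f, ∀ (c : 𝐂[Q]) (c' : 𝐂[R]), (c' : G) = x * (c : G) * x⁻¹ →
    (ξ' : _ → ℂ) c' = (ξ : 𝐂[Q] → ℂ) c}

theorem conjBlock_eq_to (Q : Subgroup G) (x : G) (f : Set (IrrCharacter 𝐂[Q])) :
    conjBlock Q x f = conjBlockTo Q (Q ^^ x) x f := rfl

theorem conjBlock_eq_twistSetE (Q : Subgroup G) (x : G) (f : Set (IrrCharacter 𝐂[Q])) :
    conjBlock Q x f = twistSetE (cenIso Q x) f := by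
  ext ξ'
  constructor
  · rintro ⟨ξ, hξ, h⟩
    refine ⟨ξ, hξ, ?_⟩
    apply Subtype.ext
    funext c'
    rw [twistE_apply]
    symm
    apply h
    rw [coe_cenIso_symm]
    group
  · rintro ⟨ξ, hξ, rfl⟩
    refine ⟨ξ, hξ, fun c c' hc => ?_⟩
    rw [twistE_apply]
    have e : (cenIso Q x).symm c' = c := Subtype.ext (by rw [coe_cenIso_symm, hc]; group)
    rw [e]

theorem isPBlock_conjBlock {M : Ideal AlgInt} (Q : Subgroup G) (x : G)
    {f : Set (IrrCharacter 𝐂[Q])} (hf : IsPBlock M f) : IsPBlock M (conjBlock Q x f) := by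
  rw [conjBlock_eq_twistSetE]
  exact isPBlock_twistSetE _ hf

/-- The action of `G` on Brauer pair indices. -/
def cp (x : G) (a : BrauerPairIdx G) : BrauerPairIdx G := ⟨a.1 ^^ x, conjBlock a.1 x a.2⟩

theorem map_conj_mul' (Q : Subgroup G) (x y : G) : (Q ^^ (y * x)) = ((Q ^^ x) ^^ y) := by
  ext z
  rw [mem_conj_iff, mem_conj_iff, mem_conj_iff]
  have e : (y * x)⁻¹ * z * (y * x) = x⁻¹ * (y⁻¹ * z * y) * x := by group
  rw [e]

theorem map_conj_one' (Q : Subgroup G) : (Q ^^ (1 : G)) = Q := by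
  ext z
  rw [mem_conj_iff]
  simp

theorem heq_conjBlockTo (Q : Subgroup G) {R R' : Subgroup G} (h : R = R') (x : G)
    (f : Set (IrrCharacter 𝐂[Q])) : HEq (conjBlockTo Q R x f) (conjBlockTo Q R' x f) := by
  subst h
  rfl

theorem conjBlockTo_mul (Q : Subgroup G) (x y : G) (f : Set (IrrCharacter 𝐂[Q])) :
    conjBlockTo Q ((Q ^^ x) ^^ y) (y * x) f =
      conjBlockTo (Q ^^ x) ((Q ^^ x) ^^ y) y (conjBlockTo Q (Q ^^ x) x f) := by
  ext ξ''
  constructor
  · rintro ⟨ξ, hξ, h⟩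
    refine ⟨twistE (cenIso Q x) ξ, ?_, fun c' c'' hc => ?_⟩
    · rw [← conjBlock_eq_to, conjBlock_eq_twistSetE]
      exact ⟨ξ, hξ, rfl⟩
    · rw [twistE_apply]
      apply h
      rw [hc, coe_cenIso_symm]
      group
  · rintro ⟨ξ', hξ', h⟩
    obtain ⟨ξ, hξ, h2⟩ := hξ'
    refine ⟨ξ, hξ, fun c c'' hc => ?_⟩
    rw [h (cenIso Q x c) c'' (by rw [hc, coe_cenIso]; group)]
    exact h2 c _ rfl

theorem cp_mul (x y : G) (a : BrauerPairIdx G) : cp (y * x) a = cp y (cp x a) := by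
  obtain ⟨Q, f⟩ := a
  apply Sigma.ext (map_conj_mul' Q x y)
  change HEq (conjBlockTo Q (Q ^^ (y * x)) (y * x) f)
    (conjBlockTo (Q ^^ x) ((Q ^^ x) ^^ y) y (conjBlockTo Q (Q ^^ x) x f))
  rw [← conjBlockTo_mul]
  exact heq_conjBlockTo Q (map_conj_mul' Q x y) _ f

theorem conjBlockTo_one (Q : Subgroup G) (f : Set (IrrCharacter 𝐂[Q])) :
    conjBlockTo Q Q 1 f = f := by
  ext ξ'
  constructor
  · rintro ⟨ξ, hξ, h⟩
    have : ξ' = ξ := by
      apply Subtype.ext
      funext c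
      apply h
      simp
    rwa [this]
  · intro h
    refine ⟨ξ', h, fun c c' hc => ?_⟩
    have : c' = c := by
      apply Subtype.ext
      rw [hc]
      simp
    rw [this]

theorem cp_one (a : BrauerPairIdx G) : cp 1 a = a := by
  obtain ⟨Q, f⟩ := a
  apply Sigma.ext (map_conj_one' Q)
  change HEq (conjBlockTo Q (Q ^^ (1 : G)) 1 f) f
  refine (heq_conjBlockTo Q (map_conj_one' Q) _ f).trans ?_
  rw [conjBlockTo_one]

theorem cp_inv_cp (x : G) (a : BrauerPairIdx G) : cp x⁻¹ (cp x a) = a := by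
  rw [← cp_mul, inv_mul_cancel, cp_one]

theorem cp_cp_inv (x : G) (a : BrauerPairIdx G) : cp x (cp x⁻¹ a) = a := by
  rw [← cp_mul, mul_inv_cancel, cp_one]

/-- The subgroup is preserved by its normalizer. -/
theorem map_conj_of_normalizer {P : Subgroup G} {n : G} (hn : n ∈ Subgroup.normalizer (P : Set G)) :
    (P ^^ n) = P := by
  ext z
  rw [mem_conj_iff]
  have h := Subgroup.mem_normalizer_iff.1 hn (n⁻¹ * z * n)
  have e : n * (n⁻¹ * z * n) * n⁻¹ = z := by group
  rw [e] at h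
  exact h

/-- Conjugation by a normalizer element is a twist. -/
theorem conjBlockTo_self_eq_twistSet {P : Subgroup G} {n : G}
    (hn : n ∈ Subgroup.normalizer (P : Set G))
    (hn' : n ∈ Subgroup.normalizer ((𝐂[P] : Subgroup G) : Set G)) (e : Set (IrrCharacter 𝐂[P])) :
    conjBlockTo P P n e = twistSet (conjAut 𝐂[P] n hn') e := by
  ext ξ'
  constructor
  · rintro ⟨ξ, hξ, h⟩
    refine ⟨ξ, hξ, ?_⟩
    apply Subtype.ext
    funext c'
    rw [twist_apply]
    symm
    apply h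
    rw [coe_conjAut_symm]
    group
  · rintro ⟨ξ, hξ, rfl⟩
    refine ⟨ξ, hξ, fun c c' hc => ?_⟩
    rw [twist_apply]
    have e : (conjAut 𝐂[P] n hn').symm c' = c := Subtype.ext (by rw [coe_conjAut_symm, hc]; group)
    rw [e]

theorem cp_of_normalizer {P : Subgroup G} {n : G} (hn : n ∈ Subgroup.normalizer (P : Set G))
    (hn' : n ∈ Subgroup.normalizer ((𝐂[P] : Subgroup G) : Set G)) (e : Set (IrrCharacter 𝐂[P])) :
    cp n ⟨P, e⟩ = ⟨P, twistSet (conjAut 𝐂[P] n hn') e⟩ := by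
  apply Sigma.ext (map_conj_of_normalizer hn)
  change HEq (conjBlockTo P (P ^^ n) n e) _
  refine (heq_conjBlockTo P (map_conj_of_normalizer hn) _ e).trans ?_
  rw [conjBlockTo_self_eq_twistSet hn hn']

end Conj

section Transport

variable {G : Type u} [Group G] [Fintype G] {p : ℕ} [hp : Fact p.Prime] {M : Ideal AlgInt}

local notation "𝐂[" R "]" => Subgroup.centralizer ((R : Subgroup G) : Set G)
local notation Q "^^" x => Subgroup.map (MulEquiv.toMonoidHom (MulAut.conj (x : G))) (Q : Subgroup G)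

noncomputable local instance fintypeSub (K : Subgroup G) : Fintype K := Fintype.ofFinite K

/-- Transport of `brO` under conjugation. -/
theorem brO_conj (Q : Subgroup G) (x : G) {α α' : G → ℂ} (h : ∀ g, α' (x * g * x⁻¹) = α g)
    (ξ : IrrCharacter 𝐂[Q]) : brO (Q ^^ x) α' (twistE (cenIso Q x) ξ) = brO Q α ξ := by
  unfold brO omega
  have e1 : (twistE (cenIso Q x) ξ : 𝐂[Q ^^ x] → ℂ) 1 = (ξ : 𝐂[Q] → ℂ) 1 := by
    rw [twistE_apply, map_one]
  rw [e1]
  congr 1
  refine Fintype.sum_equiv (cenIso Q x).symm.toEquiv _ _ fun c => ?_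
  simp only [resC_apply, twistE_apply]
  have e2 : α' c = α ((cenIso Q x).symm c) := by
    rw [← h]
    congr 1
    simp only [coe_cenIso_symm]
    group
  rw [e2]
  rfl

theorem inv_conj (x : G) {S : Subgroup G} {α α' : G → ℂ} (h : ∀ g, α' (x * g * x⁻¹) = α g)
    (hα : Inv S α) : Inv (S ^^ x) α' := by
  rintro _ ⟨s, hs, rfl⟩ g
  simp only [MulEquiv.coe_toMonoidHom, MulAut.conj_apply]
  have e1 : x * s * x⁻¹ * g * (x * s * x⁻¹)⁻¹ = x * (s * (x⁻¹ * g * x) * s⁻¹) * x⁻¹ := by group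
  have e2 : g = x * (x⁻¹ * g * x) * x⁻¹ := by group
  rw [e1, h]
  conv_rhs => rw [e2, h]
  exact hα s hs _

/-- Coefficients of the conjugate block. -/
theorem sbc_conj (Q : Subgroup G) (x : G) (f : Set (IrrCharacter 𝐂[Q])) (g : G) :
    subgroupBlockCoeff 𝐂[Q ^^ x] (conjBlock Q x f) (x * g * x⁻¹) = subgroupBlockCoeff 𝐂[Q] f g := by
  simp only [subgroupBlockCoeff_eq_ext0]
  by_cases hg : g ∈ 𝐂[Q]
  · have h1 := conj_mem_centralizer Q x hg
    rw [ext0_of_mem _ _ h1, ext0_of_mem _ _ hg, conjBlock_eq_twistSetE]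
    exact blockCoeff_twistSetE (cenIso Q x) f ⟨g, hg⟩
  · have h1 : x * g * x⁻¹ ∉ 𝐂[Q ^^ x] := by
      intro h2
      apply hg
      have := conj_inv_mem_centralizer Q x h2
      simpa [mul_assoc] using this
    rw [ext0_of_not_mem _ _ hg, ext0_of_not_mem _ _ h1]

theorem isBrauerPair_conj (hM : IsPModular p M) {Q : Subgroup G} {f : Set (IrrCharacter 𝐂[Q])}
    (h : IsBrauerPair p M Q f) (x : G) : IsBrauerPair p M (Q ^^ x) (conjBlock Q x f) :=
  ⟨h.1.map _, isPBlock_conjBlock Q x h.2⟩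

theorem occ_conj {Q : Subgroup G} {f : Set (IrrCharacter 𝐂[Q])} {α α' : G → ℂ} (x : G)
    (h : ∀ g, α' (x * g * x⁻¹) = α g) (hocc : Occ M Q f α) : Occ M (Q ^^ x) (conjBlock Q x f) α' := by
  intro ξ' hξ'
  rw [conjBlock_eq_twistSetE] at hξ'
  obtain ⟨ξ, hξ, rfl⟩ := hξ'
  rw [brO_conj Q x h]
  exact hocc ξ hξ

theorem isBrauerPairOf_conj (hM : IsPModular p M) {B : Set (IrrCharacter G)} {Q : Subgroup G}
    {f : Set (IrrCharacter 𝐂[Q])} (h : IsBrauerPairOf p M B Q f) (x : G) :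
    IsBrauerPairOf p M B (Q ^^ x) (conjBlock Q x f) := by
  refine ⟨isBrauerPair_conj hM h.1 x, h.2.1, ?_⟩
  rw [← occ_iff]
  apply occ_conj x (α := blockCoeff B)
  · intro g
    have := blockCoeff_isClassFunction B g x
    exact this
  · rw [occ_iff]
    exact h.2.2

theorem normalizer_conj {R S : Subgroup G} (h : S ≤ Subgroup.normalizer (R : Set G)) (x : G) :
    (S ^^ x) ≤ Subgroup.normalizer ((R ^^ x : Subgroup G) : Set G) := by
  rintro _ ⟨s, hs, rfl⟩
  rw [Subgroup.mem_normalizer_iff]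
  intro z
  rw [mem_conj_iff, mem_conj_iff]
  simp only [MulEquiv.coe_toMonoidHom, MulAut.conj_apply]
  have e : x⁻¹ * ((x * s * x⁻¹) * z * (x * s * x⁻¹)⁻¹) * x = s * (x⁻¹ * z * x) * s⁻¹ := by group
  rw [e]
  exact Subgroup.mem_normalizer_iff.1 (h hs) _

/-- Stabilizers transported by conjugation. -/
theorem stabilizes_conj {Q : Subgroup G} {f : Set (IrrCharacter 𝐂[Q])} {u : G}
    (h : StabilizesBlock 𝐂[Q] f u) (hu : u ∈ Subgroup.normalizer (Q : Set G)) (x : G) :
    StabilizesBlock 𝐂[Q ^^ x] (conjBlock Q x f) (x * u * x⁻¹) := by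
  have h1 : x * u * x⁻¹ ∈ Subgroup.normalizer ((Q ^^ x : Subgroup G) : Set G) :=
    normalizer_conj (S := Subgroup.normalizer (Q : Set G)) le_rfl x
      ⟨u, hu, by simp [MulAut.conj_apply]⟩
  refine ⟨le_normalizer_centralizer (P := Subgroup.normalizer ((Q ^^ x : Subgroup G) : Set G)) le_rfl h1,
    ?_⟩
  rw [conjBlock_eq_twistSetE]
  rintro _ ⟨ξ, hξ, rfl⟩
  obtain ⟨ξ', hξ', hc⟩ := h.2 ξ hξ
  refine ⟨twistE (cenIso Q x) ξ', ⟨ξ', hξ', rfl⟩, fun k k' hk => ?_⟩
  rw [twistE_apply, twistE_apply]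
  apply hc
  rw [coe_cenIso_symm, coe_cenIso_symm, hk]
  group

/-- Normal inclusion is preserved by conjugation. -/
theorem isNormalSubpair_conj (hM : IsPModular p M) {R P : Subgroup G} {g : Set (IrrCharacter 𝐂[R])}
    {e : Set (IrrCharacter 𝐂[P])} (h : IsNormalSubpair p M R g P e) (x : G) :
    IsNormalSubpair p M (R ^^ x) (conjBlock R x g) (P ^^ x) (conjBlock P x e) := by
  obtain ⟨hg, he, hle, hn, hst, hocc⟩ := h
  refine ⟨isBrauerPair_conj hM hg x, isBrauerPair_conj hM he x, Subgroup.map_mono hle,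
    normalizer_conj hn x, ?_, ?_⟩
  · rintro _ ⟨u, hu, rfl⟩
    exact stabilizes_conj (hst u hu) (hn hu) x
  · rw [← occ_iff]
    apply occ_conj x (α := subgroupBlockCoeff 𝐂[R] g) (sbc_conj R x g)
    rw [occ_iff]
    exact hocc

theorem relationCp (hM : IsPModular p M) (x : G) {a b : BrauerPairIdx G}
    (h : Relation.ReflTransGen (NormalSubpairRel (G := G) p M) a b) :
    Relation.ReflTransGen (NormalSubpairRel (G := G) p M) (cp x a) (cp x b) := by
  induction h with
  | refl => exact Relation.ReflTransGen.refl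
  | tail _ hbc ih => exact ih.tail (isNormalSubpair_conj hM hbc x)

theorem subpairLE_conj (hM : IsPModular p M) {R P : Subgroup G} {g : Set (IrrCharacter 𝐂[R])}
    {e : Set (IrrCharacter 𝐂[P])} (h : SubpairLE p M R g P e) (x : G) :
    SubpairLE p M (R ^^ x) (conjBlock R x g) (P ^^ x) (conjBlock P x e) :=
  relationCp hM x h

end Transport

end Cfsg.Agent.Lib.BrauerConj
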