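import Mathlib
import Cfsg.Prelude.Def_BlockFusion
import Cfsg.Agent.Lib.BrauerConj
import Cfsg.Agent.Lib.BrauerThird
import Cfsg.Agent.Lib.BlockDefect

/-!
# Maximal Brauer pairs: defect groups and the Sylow theorem for Brauer pairs
-/

set_option autoImplicit false
set_option linter.unusedSectionVars false
set_option linter.unusedVariables false
set_option linter.style.haveILetI false

namespace Cfsg.Agent.Lib.BrauerMax

open Cfsg Cfsg.Agent.Lib.CharBasic Cfsg.Agent.Lib.CharInd Cfsg.Agent.Lib.CharIntegrality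
open Cfsg.Agent.Lib.BlockLocal Cfsg.Agent.Lib.BlockIdem Cfsg.Agent.Lib.BlockNormal
open Cfsg.Agent.Lib.BrauerMap Cfsg.Agent.Lib.BrauerPair Cfsg.Agent.Lib.BrauerSub
open Cfsg.Agent.Lib.BrauerConj Cfsg.Agent.Lib.BrauerThird
open Cfsg.Agent.Lib.BlockDefect
open Cfsg.Agent.S4646
open scoped ComplexConjugate

universe u

section Nil

variable {H : Type u} [Group H] [Fintype H] {M : Ideal AlgInt} [hMp : M.IsPrime]

/-- A central element, idempotent modulo `M`, with all central characters in `M`, has all its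
coefficients in `M`. -/
theorem coeff_mem_of_idem_nil {a : H → ℂ} (hcl : IsClassFunction H a) (hR : ∀ x, MemLocalRing M (a x))
    (hidem : ∀ x, MemLocalIdeal M (CharIntegrality.conv a a x - a x))
    (hω : ∀ ξ : IrrCharacter H, MemLocalIdeal M (omega (ξ : H → ℂ) a)) (x : H) :
    MemLocalIdeal M (a x) := by
  classical
  set c : IrrCharacter H → ℂ := fun χ => omega (χ : H → ℂ) a with hc
  have hcZ : c ∈ Zc M := mem_Zc_of_classFunction hcl hR
  have hinvF : invF c = a := invF_omega hcl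
  have hpow : ∀ k : ℕ, ∀ x, MemLocalIdeal M (convPow a (k + 1) x - a x) := by
    intro k
    induction k with
    | zero =>
      intro x
      have : convPow a 1 = a := by
        conv_lhs => rw [← hinvF]
        rw [convPow_invF, pow_one, hinvF]
      rw [this, sub_self]
      exact memLocalIdeal_zero
    | succ k ih =>
      intro x
      have e : convPow a (k + 1 + 1) x - a x =
          ∑ y, a y * (convPow a (k + 1) (y⁻¹ * x) - a (y⁻¹ * x)) +
            (CharIntegrality.conv a a x - a x) := by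
        have h1 : convPow a (k + 1 + 1) = CharIntegrality.conv a (convPow a (k + 1)) := rfl
        rw [h1]
        unfold CharIntegrality.conv
        simp only [mul_sub, Finset.sum_sub_distrib]
        ring
      rw [e]
      refine memLocalIdeal_add (memLocalIdeal_sum _ _ fun y _ => ?_) (hidem x)
      exact memLocalIdeal_mul_left (hR y) (ih _)
  have hk : Fintype.card (IrrCharacter H) ≠ 0 := by
    have : Nonempty (IrrCharacter H) := ⟨irrOne H⟩
    exact Fintype.card_ne_zero
  obtain ⟨k, hk'⟩ := Nat.exists_eq_succ_of_ne_zero hk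
  have h1 := hpow k x
  have h2 : MemLocalIdeal M (convPow a (k + 1) x) := by
    have e : convPow a (k + 1) = invF (c ^ (k + 1)) := by
      conv_lhs => rw [← hinvF]
      rw [convPow_invF]
    rw [e]
    have := inI_pow hcZ hω x
    rwa [hk'] at this
  have h3 := memLocalIdeal_sub h2 h1
  have e : convPow a (k + 1) x - (convPow a (k + 1) x - a x) = a x := by ring
  rwa [e] at h3

end Nil

section Main

variable {G : Type u} [Group G] [Fintype G] {p : ℕ} [hp : Fact p.Prime] {M : Ideal AlgInt}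

local notation "𝐂[" R "]" => Subgroup.centralizer ((R : Subgroup G) : Set G)
local notation Q "^^" x => Subgroup.map (MulEquiv.toMonoidHom (MulAut.conj (x : G))) (Q : Subgroup G)

noncomputable local instance fintypeSub (K : Subgroup G) : Fintype K := Fintype.ofFinite K

/-- An idempotent with a unit coefficient on `C_G(S)` is detected by a central character. -/
theorem exists_occ_of_unit (hM : IsPModular p M) {S : Subgroup G} (hS : IsPGroup p S) {α : G → ℂ}
    (hαS : Inv S α) (hαC : Inv 𝐂[S] α) (hαR : ∀ x, MemLocalRing M (α x))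
    (hconv : CharIntegrality.conv α α = α) {y : G} (hy : y ∈ 𝐂[S])
    (hny : ¬ MemLocalIdeal M (α y)) : ∃ ξ, MemLocalIdeal M (brO S α ξ - 1) := by
  haveI := isPrime_of_isPModular hM
  by_contra h
  push Not at h
  have hω : ∀ ξ : IrrCharacter 𝐂[S], MemLocalIdeal M (brO S α ξ) := fun ξ =>
    (memLocalIdeal_or_of_idem (memLocalRing_brO hαC hαR ξ)
      (brO_idem_of_conv hM hS hαS hαC hαR hconv ξ)).resolve_right (h ξ)
  apply hny
  have := coeff_mem_of_idem_nil (M := M) (a := resC 𝐂[S] α) (resC_isClassFunction hαC) (fun x => hαR x)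
    (fun x => by
      have h1 := conv_resC_congr S hS hM hαS hαS hαR hαR x
      rw [hconv] at h1
      have h2 := memLocalIdeal_neg h1
      simpa using h2) hω ⟨y, hy⟩
  exact this

/-- `Occ` on the block of a character. -/
theorem occ_blockOf [M.IsPrime] {S : Subgroup G} {α : G → ℂ} (hαC : Inv 𝐂[S] α)
    (hαR : ∀ x, MemLocalRing M (α x)) {ξ₁ : IrrCharacter 𝐂[S]}
    (h : MemLocalIdeal M (brO S α ξ₁ - 1)) :
    Occ M S (blockOf M (ξ₁ : 𝐂[S] → ℂ)) α := by
  intro ξ hξ
  have h1 := brO_sub_of_sameBlock hαC hαR hξ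
  have h2 := memLocalIdeal_sub h h1
  have e : brO S α ξ₁ - 1 - (brO S α ξ₁ - brO S α ξ) = brO S α ξ - 1 := by ring
  rwa [e] at h2

/-- No proper normal extension. -/
def NMax (p : ℕ) (M : Ideal AlgInt) (a : BrauerPairIdx G) : Prop :=
  ∀ b : BrauerPairIdx G, NormalSubpairRel p M a b → b.1 = a.1

theorem NMax.cp (hM : IsPModular p M) {a : BrauerPairIdx G} (h : NMax p M a) (x : G) :
    NMax p M (cp x a) := by
  intro b hb
  have h1 : NormalSubpairRel p M (BrauerConj.cp x⁻¹ (BrauerConj.cp x a)) (BrauerConj.cp x⁻¹ b) :=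
    isNormalSubpair_conj hM hb x⁻¹
  rw [cp_inv_cp] at h1
  have h2 := h _ h1
  have h3 : b = BrauerConj.cp x (BrauerConj.cp x⁻¹ b) := (cp_cp_inv x b).symm
  rw [h3]
  change ((BrauerConj.cp x⁻¹ b).1 ^^ x) = (a.1 ^^ x)
  rw [h2]

theorem nmax_of_maximal (hM : IsPModular p M) {B : Set (IrrCharacter G)} {P : Subgroup G}
    {e : Set (IrrCharacter 𝐂[P])} (h : IsMaximalBrauerPair p M B P e) : NMax p M ⟨P, e⟩ := by
  rintro ⟨R, g⟩ hb
  have hb' : IsNormalSubpair p M P e R g := hb
  refine h.2 R g ((isBrauerPairOf_iff_of_normal hM h.1.2.1 hb').1 h.1) ?_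
  exact Relation.ReflTransGen.single hb

/-- The extension of a pair by a unit coefficient. -/
theorem eq_of_unit (hM : IsPModular p M) {P : Subgroup G} {F : Set (IrrCharacter 𝐂[P])}
    (hF : IsBrauerPair p M P F) (hmax : NMax p M ⟨P, F⟩) {S : Subgroup G} (hS : IsPGroup p S)
    (hPS : P ≤ S) (hSN : S ≤ Subgroup.normalizer (P : Set G))
    (hst : ∀ u ∈ S, StabilizesBlock 𝐂[P] F u) {y : G} (hyS : y ∈ 𝐂[S])
    (hny : ¬ MemLocalIdeal M (subgroupBlockCoeff 𝐂[P] F y)) : S = P := by
  haveI := isPrime_of_isPModular hM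
  have hαS : Inv S (subgroupBlockCoeff 𝐂[P] F) := inv_subgroupBlockCoeff_of_stable _ S hF.2 hst
  have hαC : Inv 𝐂[S] (subgroupBlockCoeff 𝐂[P] F) :=
    (inv_subgroupBlockCoeff _ F).mono (centralizer_le_centralizer hPS)
  have hαR : ∀ x, MemLocalRing M (subgroupBlockCoeff 𝐂[P] F x) :=
    memLocalRing_subgroupBlockCoeff _ hF.2
  obtain ⟨ξ₁, hξ₁⟩ := exists_occ_of_unit hM hS hαS hαC hαR
    (by rw [conv_subgroupBlockCoeff, Set.inter_self]) hyS hny
  have hn : IsNormalSubpair p M P F S (blockOf M (ξ₁ : 𝐂[S] → ℂ)) :=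
    ⟨hF, ⟨hS, ⟨ξ₁, rfl⟩⟩, hPS, hSN, hst, (occ_iff _ _ _).1 (occ_blockOf hαC hαR hξ₁)⟩
  exact hmax ⟨S, _⟩ hn

/-- Coefficient formula for a twisted block. -/
theorem sbc_twistSet (K : Subgroup G) (F : Set (IrrCharacter K)) {u : G}
    (hu : u ∈ Subgroup.normalizer (K : Set G)) (x : G) :
    subgroupBlockCoeff K (twistSet (conjAut K u hu) F) (u * x * u⁻¹) = subgroupBlockCoeff K F x := by
  simp only [subgroupBlockCoeff_eq_ext0]
  by_cases hx : x ∈ K
  · have h1 : u * x * u⁻¹ ∈ K := (Subgroup.mem_normalizer_iff.1 hu x).1 hx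
    rw [ext0_of_mem K _ h1, ext0_of_mem K _ hx]
    have e : (⟨u * x * u⁻¹, h1⟩ : K) = conjAut K u hu ⟨x, hx⟩ := rfl
    rw [e]
    exact blockCoeff_twistSet (conjAut K u hu) F ⟨x, hx⟩
  · have h1 : u * x * u⁻¹ ∉ K := fun h2 => hx ((Subgroup.mem_normalizer_iff.1 hu x).2 h2)
    rw [ext0_of_not_mem K _ hx, ext0_of_not_mem K _ h1]

section Orbit

variable (M) (P : Subgroup G)

theorem normalizer_le_normalizer_centralizer :
    Subgroup.normalizer (P : Set G) ≤ Subgroup.normalizer ((𝐂[P] : Subgroup G) : Set G) :=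
  le_normalizer_centralizer le_rfl

/-- The set of conjugates of a block under the normalizer of `P`. -/
noncomputable def orb (e : Set (IrrCharacter 𝐂[P])) : Finset (BlockT M 𝐂[P]) :=
  @Finset.filter _ (fun F : BlockT M 𝐂[P] => ∃ (n : G) (hn : n ∈ Subgroup.normalizer (P : Set G)),
    F.1 = twistSet (conjAut 𝐂[P] n (normalizer_le_normalizer_centralizer P hn)) e)
    (Classical.decPred _) Finset.univ

/-- The sum of the idempotents of the conjugates of `e`. -/
noncomputable def eps (e : Set (IrrCharacter 𝐂[P])) : G → ℂ :=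
  ∑ F ∈ orb M P e, subgroupBlockCoeff 𝐂[P] F.1

variable {M P} {e : Set (IrrCharacter (Subgroup.centralizer (P : Set G)))}

theorem mem_orb {F : BlockT M 𝐂[P]} : F ∈ orb M P e ↔ ∃ (n : G) (hn : n ∈ Subgroup.normalizer (P : Set G)),
    F.1 = twistSet (conjAut 𝐂[P] n (normalizer_le_normalizer_centralizer P hn)) e := by
  classical
  simp [orb]

theorem eps_apply (x : G) : eps M P e x = ∑ F ∈ orb M P e, subgroupBlockCoeff 𝐂[P] F.1 x := by
  simp [eps, Finset.sum_apply]

/-- The block action of `S ≤ N_G(P)`. -/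
theorem smul_mem_orb {S : Subgroup G} (hSN : S ≤ Subgroup.normalizer (P : Set G)) (u : S)
    (F : BlockT M 𝐂[P]) :
    (letI := blockAction M S 𝐂[P] (hSN.trans (normalizer_le_normalizer_centralizer P));
      u • F ∈ orb M P e) ↔ F ∈ orb M P e := by
  letI := blockAction M S 𝐂[P] (hSN.trans (normalizer_le_normalizer_centralizer P))
  have hsmul : ∀ (u : S) (F : BlockT M 𝐂[P]), (u • F : BlockT M 𝐂[P]).1 =
      twistSet (conjAut 𝐂[P] u (hSN.trans (normalizer_le_normalizer_centralizer P) u.2)) F.1 :=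
    fun _ _ => rfl
  have key : ∀ (u : S) (F : BlockT M 𝐂[P]), F ∈ orb M P e → u • F ∈ orb M P e := by
    intro u F hF
    obtain ⟨n, hn, hF⟩ := mem_orb.1 hF
    refine mem_orb.2 ⟨u * n, Subgroup.mul_mem _ (hSN u.2) hn, ?_⟩
    rw [hsmul, hF, ← twistSet_mul, conjAut_mul]
  refine ⟨fun h => ?_, key u F⟩
  have := key u⁻¹ _ h
  rwa [inv_smul_smul] at this

/-- Invariance of `ε` under the normalizer of `P`. -/
theorem eps_conj {m : G} (hm : m ∈ Subgroup.normalizer (P : Set G)) (y : G) :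
    eps M P e (m * y * m⁻¹) = eps M P e y := by
  classical
  letI := blockAction M (Subgroup.normalizer (P : Set G)) 𝐂[P] (normalizer_le_normalizer_centralizer P)
  let u : Subgroup.normalizer (P : Set G) := ⟨m, hm⟩
  rw [eps_apply, eps_apply]
  refine Finset.sum_equiv (MulAction.toPerm u⁻¹) ?_ ?_
  · intro F
    exact (smul_mem_orb le_rfl u⁻¹ F).symm
  · intro F _
    have h1 : F = u • (MulAction.toPerm u⁻¹ F) := by
      simp [MulAction.toPerm]
    conv_lhs => rw [h1]
    exact sbc_twistSet 𝐂[P] _ (normalizer_le_normalizer_centralizer P hm) y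

theorem memLocalRing_eps [M.IsPrime] (x : G) : MemLocalRing M (eps M P e x) := by
  rw [eps_apply]
  exact memLocalRing_sum _ _ fun F _ => memLocalRing_subgroupBlockCoeff _ F.2 x

theorem inv_eps : Inv 𝐂[P] (eps M P e) := by
  intro s hs x
  exact eps_conj (Subgroup.centralizer_le_normalizer _ hs) x

/-- `brO` of a block idempotent of `C_G(P)`. -/
theorem brO_sbc_self (F : Set (IrrCharacter 𝐂[P])) (ξ : IrrCharacter 𝐂[P]) :
    brO P (subgroupBlockCoeff 𝐂[P] F) ξ = ind F ξ := by
  unfold brO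
  rw [subgroupBlockCoeff_eq_ext0, resC_ext0, omega_blockCoeff]

theorem brO_eps (ξ : IrrCharacter 𝐂[P]) :
    brO P (eps M P e) ξ = ∑ F ∈ orb M P e, ind F.1 ξ := by
  unfold eps
  rw [brO_sum]
  simp only [brO_sbc_self]

theorem mem_orb_self [M.IsPrime] (he : IsPBlock M e) : (⟨e, he⟩ : BlockT M 𝐂[P]) ∈ orb M P e := by
  refine mem_orb.2 ⟨1, Subgroup.one_mem _, ?_⟩
  rw [conjAut_one, twistSet_one]

/-- The value of `ε` on members of the block. -/
theorem brO_eps_of_mem [M.IsPrime] (he : IsPBlock M e) {ξ : IrrCharacter 𝐂[P]} (hξ : ξ ∈ e) :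
    brO P (eps M P e) ξ = 1 := by
  classical
  rw [brO_eps, Finset.sum_eq_single (⟨e, he⟩ : BlockT M 𝐂[P])]
  · exact ind_of_mem hξ
  · intro F _ hF
    apply ind_of_not_mem
    intro hξF
    apply hF
    apply Subtype.ext
    rcases eq_or_disjoint_of_isPBlock F.2 he with h | h
    · exact h
    · exact absurd hξ (Set.disjoint_left.1 h hξF)
  · intro h
    exact absurd (mem_orb_self he) h

/-- Fixed point argument: `S` fixes a conjugate of `e` with unit coefficient. -/
theorem eq_of_eps_unit (hM : IsPModular p M) (he : IsBrauerPair p M P e) (hmax : NMax p M ⟨P, e⟩)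
    {S : Subgroup G} (hS : IsPGroup p S) (hPS : P ≤ S) (hSN : S ≤ Subgroup.normalizer (P : Set G))
    {y : G} (hyS : y ∈ 𝐂[S]) (hny : ¬ MemLocalIdeal M (eps M P e y)) : S = P := by
  classical
  haveI := isPrime_of_isPModular hM
  have hSK := hSN.trans (normalizer_le_normalizer_centralizer P)
  letI act : MulAction S (BlockT M 𝐂[P]) := blockAction M S 𝐂[P] hSK
  have hsmul : ∀ (u : S) (F : BlockT M 𝐂[P]), (u • F : BlockT M 𝐂[P]).1 =
      twistSet (conjAut 𝐂[P] u (hSK u.2)) F.1 := fun _ _ => rfl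
  let f : BlockT M 𝐂[P] → ℂ := fun F => if F ∈ orb M P e then subgroupBlockCoeff 𝐂[P] F.1 y else 0
  have hinv : ∀ (u : S) (F : BlockT M 𝐂[P]), f (u • F) = f F := by
    intro u F
    simp only [f]
    have h1 : (u • F ∈ orb M P e) ↔ F ∈ orb M P e := smul_mem_orb hSN u F
    by_cases hF : F ∈ orb M P e
    · rw [if_pos hF, if_pos (h1.2 hF), hsmul]
      apply subgroupBlockCoeff_twist_of_centralizes
      have := (Subgroup.mem_centralizer_iff.1 hyS) u u.2
      rw [this]
      group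
    · rw [if_neg hF, if_neg (fun h => hF (h1.1 h))]
  have hR : ∀ F, MemLocalRing M (f F) := by
    intro F
    simp only [f]
    split_ifs
    · exact memLocalRing_subgroupBlockCoeff _ F.2 y
    · exact memLocalRing_zero
  have h1 := memLocalIdeal_sum_sub_sum_fixed (Q := S) hS hM f hinv hR
  have h2 : ∑ F, f F = eps M P e y := by
    rw [eps_apply, ← Finset.sum_filter_add_sum_filter_not Finset.univ (fun F => F ∈ orb M P e)]
    have h3 : ∑ x ∈ Finset.univ.filter (fun F => ¬ F ∈ orb M P e), f x = 0 :=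
      Finset.sum_eq_zero fun F hF => if_neg (Finset.mem_filter.1 hF).2
    rw [h3, add_zero, Finset.filter_mem_eq_inter, Finset.univ_inter]
    exact Finset.sum_congr rfl fun F hF => if_pos hF
  rw [h2] at h1
  have h3 : ∃ F ∈ Finset.univ.filter (fun F : BlockT M 𝐂[P] =>
      F ∈ MulAction.fixedPoints S (BlockT M 𝐂[P])), ¬ MemLocalIdeal M (f F) := by
    by_contra hcon
    push Not at hcon
    exact hny (by
      have h4 := memLocalIdeal_add h1 (memLocalIdeal_sum _ _ hcon)
      simpa using h4)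
  obtain ⟨F, hF, hFn⟩ := h3
  have hFfix := (Finset.mem_filter.1 hF).2
  have hFmem : F ∈ orb M P e := by
    by_contra hn
    apply hFn
    simp only [f]
    rw [if_neg hn]
    exact memLocalIdeal_zero
  have hFn' : ¬ MemLocalIdeal M (subgroupBlockCoeff 𝐂[P] F.1 y) := by
    simp only [f] at hFn
    rwa [if_pos hFmem] at hFn
  have hst : ∀ u ∈ S, StabilizesBlock 𝐂[P] F.1 u := by
    intro u hu
    have h5 := congrArg Subtype.val ((MulAction.mem_fixedPoints).1 hFfix ⟨u, hu⟩)
    rw [hsmul] at h5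
    exact stabilizes_of_twistSet_eq (hSK hu) h5
  obtain ⟨n, hn, hFe⟩ := mem_orb.1 hFmem
  have hmax' : NMax p M ⟨P, F.1⟩ := by
    have h6 := hmax.cp hM n
    rw [cp_of_normalizer hn (normalizer_le_normalizer_centralizer P hn), ← hFe] at h6
    exact h6
  exact eq_of_unit hM ⟨he.1, F.2⟩ hmax' hS hPS hSN hst hyS hFn'

/-- `P` is a maximal `p`-subgroup of the centralizer of `y`. -/
def MaxIn (p : ℕ) (y : G) (P : Subgroup G) : Prop :=
  IsPGroup p P ∧ P ≤ Subgroup.centralizer ({y} : Set G) ∧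
    ∀ S : Subgroup G, IsPGroup p S → P ≤ S → S ≤ Subgroup.centralizer ({y} : Set G) → S = P

theorem mem_centralizer_comm {y : G} {S : Subgroup G} :
    y ∈ 𝐂[S] ↔ S ≤ Subgroup.centralizer ({y} : Set G) := by
  constructor
  · intro h u hu
    rw [Subgroup.mem_centralizer_singleton_iff]
    exact (Subgroup.mem_centralizer_iff.1 h u hu)
  · intro h
    rw [Subgroup.mem_centralizer_iff]
    intro u hu
    exact Subgroup.mem_centralizer_singleton_iff.1 (h hu)

/-- A unit coefficient of `ε` gives a class with defect group `P`. -/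
theorem maxIn_of_eps_unit (hM : IsPModular p M) (he : IsBrauerPair p M P e)
    (hmax : NMax p M ⟨P, e⟩) {y : G} (hyP : y ∈ 𝐂[P]) (hny : ¬ MemLocalIdeal M (eps M P e y)) :
    MaxIn p y P := by
  refine ⟨he.1, mem_centralizer_comm.1 hyP, fun S hS hPS hSy => ?_⟩
  rcases lt_or_eq_of_le hPS with hlt | h
  swap
  · exact h.symm
  exfalso
  have h1 := lt_inf_normalizer hS hlt
  have h2 := eq_of_eps_unit hM he hmax (S := S ⊓ Subgroup.normalizer (P : Set G))
    (hS.to_le inf_le_left) h1.le inf_le_right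
    (mem_centralizer_comm.2 (inf_le_left.trans hSy)) hny
  exact absurd h2 (ne_of_gt h1)

/-- A maximal `p`-subgroup of the centralizer as a Sylow subgroup. -/
noncomputable def MaxIn.sylow {y : G} (h : MaxIn p y P) : Sylow p (Subgroup.centralizer ({y} : Set G)) where
  toSubgroup := P.subgroupOf (Subgroup.centralizer ({y} : Set G))
  isPGroup' := IsPGroup.comap_of_injective h.1 _ Subtype.val_injective
  is_maximal' := by
    intro Q hQ hle
    have hS : IsPGroup p (Q.map (Subgroup.centralizer ({y} : Set G)).subtype) := hQ.map _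
    have h1 : P ≤ Q.map (Subgroup.centralizer ({y} : Set G)).subtype := by
      intro u hu
      exact ⟨⟨u, h.2.1 hu⟩, hle (Subgroup.mem_subgroupOf.2 hu), rfl⟩
    have h2 := h.2.2 _ hS h1 (Subgroup.map_subtype_le _)
    rw [← h2]
    ext x
    rw [Subgroup.mem_subgroupOf]
    constructor
    · intro hx
      exact ⟨x, hx, rfl⟩
    · rintro ⟨z, hz, hzx⟩
      have : z = x := Subtype.ext hzx
      rwa [← this]

theorem MaxIn.map_sylow {y : G} (h : MaxIn p y P) :
    ((h.sylow : Subgroup (Subgroup.centralizer ({y} : Set G)))).map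
      (Subgroup.centralizer ({y} : Set G)).subtype = P :=
  Subgroup.map_subgroupOf_eq_of_le h.2.1

theorem MaxIn.leDefect {y : G} (h : MaxIn p y P) : LeDefect p y P := by
  have := leDefect_of_sylow (p := p) y h.sylow
  rwa [h.map_sylow] at this

theorem MaxIn.conj {y : G} (h : MaxIn p y P) (g : G) : MaxIn p (g * y * g⁻¹) (P ^^ g) := by
  have hC : ∀ {Q : Subgroup G}, Q ≤ Subgroup.centralizer ({y} : Set G) →
      (Q ^^ g) ≤ Subgroup.centralizer ({g * y * g⁻¹} : Set G) := by
    intro Q hQ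
    rw [centralizer_conj]
    exact Subgroup.map_mono hQ
  refine ⟨h.1.map _, hC h.2.1, fun S hS hPS hSy => ?_⟩
  have h1 : (S ^^ g⁻¹) = P := by
    apply h.2.2 _ (hS.map _)
    · intro u hu
      have := hPS (conj_mem_conj P g hu)
      refine ⟨_, this, ?_⟩
      simp [MulAut.conj_apply, mul_assoc]
    · rintro _ ⟨s, hs, rfl⟩
      have h2 := hSy hs
      rw [Subgroup.mem_centralizer_singleton_iff] at h2 ⊢
      simp only [MulEquiv.coe_toMonoidHom, MulAut.conj_apply]
      calc g⁻¹ * s * g⁻¹⁻¹ * y = g⁻¹ * (s * (g * y * g⁻¹)) * g := by group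
        _ = g⁻¹ * ((g * y * g⁻¹) * s) * g := by rw [h2]
        _ = y * (g⁻¹ * s * g⁻¹⁻¹) := by group
  rw [← h1, ← map_conj_mul', mul_inv_cancel, map_conj_one']

theorem mem_normalizer_of_map_eq {m : G} (h : (P ^^ m) = P) : m ∈ Subgroup.normalizer (P : Set G) := by
  rw [Subgroup.mem_normalizer_iff]
  intro z
  constructor
  · intro hz
    rw [← h]
    exact conj_mem_conj P m hz
  · intro hz
    rw [← h, mem_conj_iff] at hz
    have e : m⁻¹ * (m * z * m⁻¹) * m = z := by group
    rwa [e] at hz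

/-- If `P` is a Sylow subgroup of `C_G(y)`, the class of `y` meets `C_G(P)` in a single
`N_G(P)`-class. -/
theorem exists_normalizer_conj {y y' : G} (h : MaxIn p y P) (hy' : y' ∈ 𝐂[P]) (hc : IsConj y y') :
    ∃ n ∈ Subgroup.normalizer (P : Set G), n * y * n⁻¹ = y' := by
  classical
  obtain ⟨g, rfl⟩ := isConj_iff.1 hc
  have hm := h.conj g
  -- work inside the centralizer of `y'`
  set y' := g * y * g⁻¹ with hy'def
  let T₁ := hm.sylow
  have hP' : IsPGroup p (P.subgroupOf (Subgroup.centralizer ({y'} : Set G))) :=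
    IsPGroup.comap_of_injective h.1 _ Subtype.val_injective
  obtain ⟨T₃, hT₃⟩ := hP'.exists_le_sylow
  obtain ⟨c, hc⟩ := MulAction.exists_smul_eq (Subgroup.centralizer ({y'} : Set G)) T₃ T₁
  have hPle : (P ^^ (c : G)) ≤ (P ^^ g) := by
    rintro _ ⟨u, hu, rfl⟩
    have hu1 : (⟨u, mem_centralizer_comm.1 hy' hu⟩ : Subgroup.centralizer ({y'} : Set G)) ∈
        (T₃ : Subgroup (Subgroup.centralizer ({y'} : Set G))) :=
      hT₃ (Subgroup.mem_subgroupOf.2 hu)
    have hu2 : c * (⟨u, mem_centralizer_comm.1 hy' hu⟩ : Subgroup.centralizer ({y'} : Set G)) * c⁻¹ ∈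
        (T₁ : Subgroup (Subgroup.centralizer ({y'} : Set G))) := by
      rw [← hc, Sylow.coe_subgroup_smul]
      have := Subgroup.smul_mem_pointwise_smul _ (MulAut.conj c) _ hu1
      simpa [MulAut.smul_def, MulAut.conj_apply] using this
    have hu3 := Subgroup.mem_subgroupOf.1 hu2
    simpa [MulAut.conj_apply] using hu3
  have hcard : Nat.card (P ^^ (c : G)) = Nat.card (P ^^ g) := by
    rw [Subgroup.card_map_of_injective (MulAut.conj (c : G)).injective,
      Subgroup.card_map_of_injective (MulAut.conj g).injective]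
  have heq : (P ^^ (c : G)) = (P ^^ g) := Subgroup.eq_of_le_of_card_ge hPle hcard.ge
  refine ⟨(c : G)⁻¹ * g, ?_, ?_⟩
  · have h2 : (P ^^ ((c : G)⁻¹ * g)) = P := by
      rw [map_conj_mul', ← heq, ← map_conj_mul', inv_mul_cancel, map_conj_one']
    exact mem_normalizer_of_map_eq h2
  · have hcy : (c : G)⁻¹ * y' * (c : G) = y' := by
      have h5 : (c : G) * y' = y' * (c : G) := Subgroup.mem_centralizer_singleton_iff.1 c.2
      calc (c : G)⁻¹ * y' * (c : G) = (c : G)⁻¹ * (y' * (c : G)) := by group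
        _ = (c : G)⁻¹ * ((c : G) * y') := by rw [h5]
        _ = y' := by group
    calc (c : G)⁻¹ * g * y * ((c : G)⁻¹ * g)⁻¹ = (c : G)⁻¹ * (g * y * g⁻¹) * (c : G) := by group
      _ = (c : G)⁻¹ * y' * (c : G) := rfl
      _ = y' := hcy

section Classes

variable (P)

/-- Conjugation action of the normalizer of `P` on `C_G(P)`. -/
@[instance_reducible] noncomputable def cAct : MulAction (Subgroup.normalizer (P : Set G)) 𝐂[P] where
  smul n c := conjAut 𝐂[P] n (normalizer_le_normalizer_centralizer P n.2) c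
  one_smul c := by
    apply Subtype.ext
    change ((1 : Subgroup.normalizer (P : Set G)) : G) * c * ((1 : Subgroup.normalizer (P : Set G)) : G)⁻¹ = c
    simp
  mul_smul a b c := by
    apply Subtype.ext
    change ((a * b : Subgroup.normalizer (P : Set G)) : G) * c * ((a * b : Subgroup.normalizer (P : Set G)) : G)⁻¹ =
      (a : G) * ((b : G) * c * (b : G)⁻¹) * (a : G)⁻¹
    simp only [Subgroup.coe_mul]
    group

/-- The orbits of the normalizer on `C_G(P)`. -/
abbrev NCl : Type u :=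
  letI := cAct P
  MulAction.orbitRel.Quotient (Subgroup.normalizer (P : Set G)) 𝐂[P]

noncomputable instance : Fintype (NCl P) := Fintype.ofFinite _

/-- The orbit of an element. -/
noncomputable def nclOf (c : 𝐂[P]) : NCl P :=
  letI := cAct P
  Quotient.mk _ c

noncomputable def nclRep (L : NCl P) : 𝐂[P] := Quotient.out L

theorem nclOf_rep (L : NCl P) : nclOf P (nclRep P L) = L := Quotient.out_eq L

theorem nclOf_eq_iff (c d : 𝐂[P]) : nclOf P c = nclOf P d ↔
    ∃ n ∈ Subgroup.normalizer (P : Set G), n * (d : G) * n⁻¹ = c := by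
  letI := cAct P
  constructor
  · intro h
    have h1 : c ∈ MulAction.orbit (Subgroup.normalizer (P : Set G)) d :=
      MulAction.orbitRel_apply.1 (Quotient.exact h)
    obtain ⟨n, rfl⟩ := h1
    exact ⟨n, n.2, rfl⟩
  · rintro ⟨n, hn, h⟩
    apply Quotient.sound
    apply MulAction.orbitRel_apply.2
    refine ⟨⟨n, hn⟩, ?_⟩
    apply Subtype.ext
    exact h

/-- The indicator of an orbit. -/
noncomputable def nclInd (L : NCl P) : 𝐂[P] → ℂ :=
  fun c => @ite ℂ (nclOf P c = L) (Classical.propDecidable _) 1 0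

variable {P}

theorem nclInd_isClassFunction (L : NCl P) : IsClassFunction 𝐂[P] (nclInd P L) := by
  intro c d
  have h : nclOf P (d * c * d⁻¹) = nclOf P c :=
    (nclOf_eq_iff P _ _).2 ⟨d, Subgroup.centralizer_le_normalizer _ d.2, rfl⟩
  simp only [nclInd]
  by_cases hc : nclOf P c = L
  · rw [if_pos (h.trans hc), if_pos hc]
  · rw [if_neg (fun h2 => hc (h.symm.trans h2)), if_neg hc]

theorem memLocalRing_nclInd [M.IsPrime] (L : NCl P) (c : 𝐂[P]) : MemLocalRing M (nclInd P L c) := by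
  simp only [nclInd]
  split_ifs
  · exact memLocalRing_one
  · exact memLocalRing_zero

/-- Decomposition of an `N_G(P)`-invariant function on `C_G(P)` into orbits. -/
theorem resC_eq_sum_ncl {a : G → ℂ} (ha : ∀ m ∈ Subgroup.normalizer (P : Set G), ∀ y, a (m * y * m⁻¹) = a y) :
    resC 𝐂[P] a = ∑ L : NCl P, a (nclRep P L) • nclInd P L := by
  classical
  funext c
  rw [Finset.sum_apply, Finset.sum_eq_single (nclOf P c)]
  · have h1 := (nclOf_eq_iff P c (nclRep P (nclOf P c))).1 (nclOf_rep P _).symm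
    obtain ⟨n, hn, hc⟩ := h1
    simp only [resC_apply, Pi.smul_apply, smul_eq_mul, nclInd, if_true, mul_one]
    rw [← hc, ha n hn]
  · intro L _ hL
    simp only [Pi.smul_apply, smul_eq_mul, nclInd]
    rw [if_neg (fun h => hL h.symm), mul_zero]
  · intro h
    exact absurd (Finset.mem_univ _) h

theorem omega_nclInd_local [M.IsPrime] (L : NCl P) (ξ : IrrCharacter 𝐂[P]) :
    MemLocalRing M (omega (ξ : 𝐂[P] → ℂ) (nclInd P L)) :=
  memLocalRing_of_mem_Zc (mem_Zc_of_classFunction (nclInd_isClassFunction L) (memLocalRing_nclInd L)) ξ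

/-- For a class with defect group `P`, the orbit indicator is a truncated class indicator. -/
theorem nclInd_eq_resC {L : NCl P} (h : MaxIn p (nclRep P L : G) P) :
    nclInd P L = resC 𝐂[P] (castFun (classIndicator (nclRep P L : G))) := by
  classical
  funext c
  simp only [nclInd, resC_apply, castFun, classIndicator]
  by_cases hc : nclOf P c = L
  · rw [if_pos hc]
    have h1 : IsConj (nclRep P L : G) (c : G) := by
      have h2 : nclOf P c = nclOf P (nclRep P L) := by rw [hc, nclOf_rep]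
      obtain ⟨n, hn, hnc⟩ := (nclOf_eq_iff P _ _).1 h2
      exact isConj_iff.2 ⟨n, hnc⟩
    rw [if_pos h1]
    simp
  · rw [if_neg hc]
    have h1 : ¬ IsConj (nclRep P L : G) (c : G) := by
      intro h2
      obtain ⟨n, hn, hnc⟩ := exists_normalizer_conj h c.2 h2
      apply hc
      rw [← nclOf_rep P L]
      exact (nclOf_eq_iff P _ _).2 ⟨n, hn, hnc⟩
    rw [if_neg h1]
    simp

end Classes

/-- The key congruence: all pairs of `B` on `P` see the same value of `ε`. -/
theorem exists_W (hM : IsPModular p M) {B : Set (IrrCharacter G)} (he : IsBrauerPairOf p M B P e)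
    (hmax : NMax p M ⟨P, e⟩) {χ : IrrCharacter G} (hχ : χ ∈ B) :
    ∃ W : ℂ, (∀ (e₁ : Set (IrrCharacter 𝐂[P])) (ξ₁ : IrrCharacter 𝐂[P]), IsBrauerPairOf p M B P e₁ →
      ξ₁ ∈ e₁ → MemLocalIdeal M (brO P (eps M P e) ξ₁ - W)) ∧
      (¬ MemLocalIdeal M W → ∃ y : G, y ∈ 𝐂[P] ∧ MaxIn p y P ∧
        ¬ MemLocalIdeal M (centralChar (χ : G → ℂ) y)) := by
  classical
  haveI := isPrime_of_isPModular hM
  have hmaxin : ∀ L : NCl P, ¬ MemLocalIdeal M (eps M P e (nclRep P L)) → MaxIn p (nclRep P L : G) P :=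
    fun L hL => maxIn_of_eps_unit hM he.1 hmax (nclRep P L).2 hL
  let Sup : Finset (NCl P) := Finset.univ.filter fun L => ¬ MemLocalIdeal M (eps M P e (nclRep P L))
  refine ⟨∑ L ∈ Sup, eps M P e (nclRep P L) * centralChar (χ : G → ℂ) (nclRep P L), ?_, ?_⟩
  · intro e₁ ξ₁ he₁ hξ₁
    have h1 : brO P (eps M P e) ξ₁ = ∑ L : NCl P, eps M P e (nclRep P L) *
        omega (ξ₁ : 𝐂[P] → ℂ) (nclInd P L) := by
      unfold brO
      rw [resC_eq_sum_ncl (fun m hm y => eps_conj hm y), omega_sum]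
      simp only [omega_smul]
    rw [h1, ← Finset.sum_filter_add_sum_filter_not Finset.univ
      (fun L => ¬ MemLocalIdeal M (eps M P e (nclRep P L)))]
    have h2 : MemLocalIdeal M (∑ L ∈ Finset.univ.filter (fun L : NCl P =>
        ¬ ¬ MemLocalIdeal M (eps M P e (nclRep P L))), eps M P e (nclRep P L) *
        omega (ξ₁ : 𝐂[P] → ℂ) (nclInd P L)) :=
      memLocalIdeal_sum _ _ fun L hL => memLocalIdeal_mul_right (not_not.1 (Finset.mem_filter.1 hL).2)
        (omega_nclInd_local L ξ₁)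
    have h3 : MemLocalIdeal M (∑ L ∈ Sup, eps M P e (nclRep P L) *
        omega (ξ₁ : 𝐂[P] → ℂ) (nclInd P L) - ∑ L ∈ Sup, eps M P e (nclRep P L) *
          centralChar (χ : G → ℂ) (nclRep P L)) := by
      rw [← Finset.sum_sub_distrib]
      refine memLocalIdeal_sum _ _ fun L hL => ?_
      rw [← mul_sub]
      refine memLocalIdeal_mul_left (memLocalRing_eps _) ?_
      have hL' := (Finset.mem_filter.1 hL).2
      rw [nclInd_eq_resC (hmaxin L hL')]
      have h4 := brO_sub_omega_of_pair hM he₁ hξ₁ hχ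
        (a := castFun (classIndicator (nclRep P L : G)))
        (castFun_isClassFunction (classIndicator_mem _)) (fun g => memLocalRing_intCast _)
      rw [omega_classIndicator] at h4
      exact h4
    have h5 := memLocalIdeal_add h3 h2
    convert h5 using 1
    ring
  · intro hW
    have h1 : ∃ L ∈ Sup, ¬ MemLocalIdeal M (centralChar (χ : G → ℂ) (nclRep P L)) := by
      by_contra hcon
      push Not at hcon
      exact hW (memLocalIdeal_sum _ _ fun L hL => memLocalIdeal_mul_left (memLocalRing_eps _) (hcon L hL))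
    obtain ⟨L, hL, hLn⟩ := h1
    exact ⟨_, (nclRep P L).2, hmaxin L (Finset.mem_filter.1 hL).2, hLn⟩

/-- A pair of `B` contains a nonzero coefficient of the idempotent of `B` on `C_G(P)`. -/
theorem exists_unit_of_pair (hM : IsPModular p M) {B : Set (IrrCharacter G)}
    (he : IsBrauerPairOf p M B P e) : ∃ z ∈ 𝐂[P], ¬ MemLocalIdeal M (blockCoeff B z) := by
  classical
  haveI := isPrime_of_isPModular hM
  by_contra hcon
  push Not at hcon
  obtain ⟨ξ, hξ⟩ : ∃ ξ, ξ ∈ e := by
    obtain ⟨ξ₀, h0⟩ := he.1.2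
    rw [h0]
    exact ⟨ξ₀, mem_blockOf_self ξ₀⟩
  have h1 := he.2.2 ξ hξ
  rw [brauerOmega_eq] at h1
  have h2 : MemLocalIdeal M (brO P (blockCoeff B) ξ) :=
    BrauerMap.memLocalIdeal_omega_of_values _
      (resC_isClassFunction (inv_blockCoeff B _)) (fun x => hcon x x.2) ξ
  have h3 := memLocalIdeal_sub h2 h1
  have e1 : brO P (blockCoeff B) ξ - (brO P (blockCoeff B) ξ - 1) = 1 := by ring
  rw [e1] at h3
  exact not_memLocalIdeal_one h3

/-- **A pair with no proper normal extension is on a defect group.** -/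
theorem isDefectGroup_of_nmax (hM : IsPModular p M) {B : Set (IrrCharacter G)}
    (he : IsBrauerPairOf p M B P e) (hmax : NMax p M ⟨P, e⟩) : IsDefectGroup p M B P := by
  classical
  haveI := isPrime_of_isPModular hM
  have hB : IsPBlock M B := he.2.1
  obtain ⟨χ, hχ⟩ : ∃ χ, χ ∈ B := by
    obtain ⟨χ₀, h0⟩ := hB
    rw [h0]
    exact ⟨χ₀, mem_blockOf_self χ₀⟩
  obtain ⟨W, hW1, hW2⟩ := exists_W hM he hmax hχ
  obtain ⟨ξ, hξ⟩ : ∃ ξ, ξ ∈ e := by
    obtain ⟨ξ₀, h0⟩ := he.1.2
    rw [h0]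
    exact ⟨ξ₀, mem_blockOf_self ξ₀⟩
  have h1 := hW1 e ξ he hξ
  rw [brO_eps_of_mem he.1.2 hξ] at h1
  have hW : ¬ MemLocalIdeal M W := by
    intro h
    have h2 := memLocalIdeal_add h1 h
    rw [sub_add_cancel] at h2
    exact not_memLocalIdeal_one h2
  obtain ⟨y, hyP, hy, hyχ⟩ := hW2 hW
  obtain ⟨D, hD⟩ := exists_isDefectGroup hM hB
  -- `D` is conjugate into `P`
  obtain ⟨t, ht⟩ := IsDefectGroup.exists_conj_le hM hB hD hχ hyχ hy.leDefect
  -- `P` is conjugate into `D`
  obtain ⟨z, hzP, hz⟩ := exists_unit_of_pair hM he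
  obtain ⟨t', ht'⟩ := IsDefectGroup.sylow_conj hM hB hD hz P he.1.1 (mem_centralizer_comm.1 hzP)
  have hc1 : Nat.card (D ^^ t) ≤ Nat.card P := Subgroup.card_le_of_le ht
  have hc2 : Nat.card (P ^^ t') ≤ Nat.card D := Subgroup.card_le_of_le ht'
  rw [Subgroup.card_map_of_injective (MulAut.conj t).injective] at hc1
  rw [Subgroup.card_map_of_injective (MulAut.conj t').injective] at hc2
  have h3 : (D ^^ t) = P := Subgroup.eq_of_le_of_card_ge ht (by
    rw [Subgroup.card_map_of_injective (MulAut.conj t).injective]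
    exact hc2)
  rw [← h3]
  exact IsDefectGroup.conj hD t

/-- **Two pairs of `B` on the same subgroup are conjugate, if one has no proper normal extension.** -/
theorem exists_conj_of_nmax (hM : IsPModular p M) {B : Set (IrrCharacter G)}
    (he : IsBrauerPairOf p M B P e) (hmax : NMax p M ⟨P, e⟩) {e' : Set (IrrCharacter 𝐂[P])}
    (he' : IsBrauerPairOf p M B P e') :
    ∃ n ∈ Subgroup.normalizer (P : Set G), cp n ⟨P, e⟩ = ⟨P, e'⟩ := by
  classical
  haveI := isPrime_of_isPModular hM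
  have hB : IsPBlock M B := he.2.1
  obtain ⟨χ, hχ⟩ : ∃ χ, χ ∈ B := by
    obtain ⟨χ₀, h0⟩ := hB
    rw [h0]
    exact ⟨χ₀, mem_blockOf_self χ₀⟩
  obtain ⟨W, hW1, hW2⟩ := exists_W hM he hmax hχ
  obtain ⟨ξ, hξ⟩ : ∃ ξ, ξ ∈ e := by
    obtain ⟨ξ₀, h0⟩ := he.1.2
    rw [h0]
    exact ⟨ξ₀, mem_blockOf_self ξ₀⟩
  obtain ⟨ξ', hξ'⟩ : ∃ ξ, ξ ∈ e' := by
    obtain ⟨ξ₀, h0⟩ := he'.1.2
    rw [h0]
    exact ⟨ξ₀, mem_blockOf_self ξ₀⟩
  have h1 := hW1 e ξ he hξ
  have h2 := hW1 e' ξ' he' hξ'
  rw [brO_eps_of_mem he.1.2 hξ] at h1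
  have h3 : ¬ MemLocalIdeal M (brO P (eps M P e) ξ') := by
    intro h
    have h4 := memLocalIdeal_add (memLocalIdeal_sub h1 h2) h
    have e1 : 1 - W - (brO P (eps M P e) ξ' - W) + brO P (eps M P e) ξ' = 1 := by ring
    rw [e1] at h4
    exact not_memLocalIdeal_one h4
  rw [brO_eps] at h3
  obtain ⟨F, hF, hξF⟩ : ∃ F ∈ orb M P e, ξ' ∈ F.1 := by
    by_contra hcon
    push Not at hcon
    apply h3
    rw [Finset.sum_eq_zero fun F hF => ind_of_not_mem (hcon F hF)]
    exact memLocalIdeal_zero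
  have hFe' : F.1 = e' := by
    rcases eq_or_disjoint_of_isPBlock F.2 he'.1.2 with h | h
    · exact h
    · exact absurd hξ' (Set.disjoint_left.1 h hξF)
  obtain ⟨n, hn, hFn⟩ := mem_orb.1 hF
  refine ⟨n, hn, ?_⟩
  rw [cp_of_normalizer hn (normalizer_le_normalizer_centralizer P hn), ← hFn, hFe']

end Orbit

/-- Every pair of `B` lies below a maximal pair of `B`. -/
theorem exists_maximal_above (hM : IsPModular p M) {B : Set (IrrCharacter G)} {Q : Subgroup G}
    {f : Set (IrrCharacter 𝐂[Q])} (h : IsBrauerPairOf p M B Q f) :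
    ∃ (R : Subgroup G) (g : Set (IrrCharacter 𝐂[R])), IsMaximalBrauerPair p M B R g ∧
      SubpairLE p M Q f R g := by
  classical
  let X : Set (Subgroup G) := {R | ∃ g : Set (IrrCharacter 𝐂[R]), IsBrauerPairOf p M B R g ∧
    SubpairLE p M Q f R g}
  have hne : X.Nonempty := ⟨Q, f, h, Relation.ReflTransGen.refl⟩
  obtain ⟨R, ⟨g, hg, hle⟩, hR⟩ := Set.exists_max_image X (fun R => Nat.card R) (Set.toFinite _) hne
  refine ⟨R, g, ⟨hg, fun R' g' hg' hle' => ?_⟩, hle⟩
  have h1 : R' ∈ X := ⟨g', hg', hle.trans hle'⟩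
  exact (Subgroup.eq_of_le_of_card_ge (le_of_subpairLE hle') (hR R' h1)).symm

/-- Defect groups are conjugate. -/
theorem exists_conj_of_isDefectGroup (hM : IsPModular p M) {B : Set (IrrCharacter G)} (hB : IsPBlock M B)
    {D₁ D₂ : Subgroup G} (h₁ : IsDefectGroup p M B D₁) (h₂ : IsDefectGroup p M B D₂) :
    ∃ x : G, (D₁ ^^ x) = D₂ := by
  have key : ∀ {D D' : Subgroup G}, IsDefectGroup p M B D → IsDefectGroup p M B D' →
      ∃ t : G, (D ^^ t) ≤ D' := by
    intro D D' hD hD'
    obtain ⟨g, hg, hle, hc⟩ := isDefectGroup_iff.1 hD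
    exact IsDefectGroup.sylow_conj hM hB hD' hg.2.1 D (isPGroup_of_card hc) hle
  obtain ⟨t, ht⟩ := key h₁ h₂
  obtain ⟨t', ht'⟩ := key h₂ h₁
  have hc : Nat.card (D₂ ^^ t') ≤ Nat.card D₁ := Subgroup.card_le_of_le ht'
  rw [Subgroup.card_map_of_injective (MulAut.conj t').injective] at hc
  refine ⟨t, Subgroup.eq_of_le_of_card_ge ht ?_⟩
  rw [Subgroup.card_map_of_injective (MulAut.conj t).injective]
  exact hc

/-- **Maximal pairs are on defect groups.** -/
theorem isDefectGroup_of_maximal (hM : IsPModular p M) {B : Set (IrrCharacter G)} {P : Subgroup G}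
    {e : Set (IrrCharacter 𝐂[P])} (h : IsMaximalBrauerPair p M B P e) : IsDefectGroup p M B P :=
  isDefectGroup_of_nmax hM h.1 (nmax_of_maximal hM h)

/-- Maximal pairs of a block are conjugate. -/
theorem exists_cp_eq_of_maximal (hM : IsPModular p M) {B : Set (IrrCharacter G)} {P R : Subgroup G}
    {e : Set (IrrCharacter 𝐂[P])} {g : Set (IrrCharacter 𝐂[R])} (hP : IsMaximalBrauerPair p M B P e)
    (hR : IsMaximalBrauerPair p M B R g) : ∃ y : G, cp y ⟨R, g⟩ = ⟨P, e⟩ := by
  obtain ⟨x, hx⟩ := exists_conj_of_isDefectGroup hM hP.1.2.1 (isDefectGroup_of_maximal hM hR)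
    (isDefectGroup_of_maximal hM hP)
  have h2 : IsBrauerPairOf p M B (cp x ⟨R, g⟩).1 (cp x ⟨R, g⟩).2 := isBrauerPairOf_conj hM hR.1 x
  have h1 : (cp x ⟨R, g⟩).1 = P := hx
  generalize hc : cp x ⟨R, g⟩ = c at h1 h2
  obtain ⟨P₂, c₂⟩ := c
  dsimp only at h1 h2
  subst h1
  obtain ⟨n, hn, hne⟩ := exists_conj_of_nmax hM hP.1 (nmax_of_maximal hM hP) h2
  refine ⟨n⁻¹ * x, ?_⟩
  rw [cp_mul, hc, ← hne, cp_inv_cp]

/-- **The Sylow theorem for Brauer pairs.** -/
theorem exists_conj_subpairLE (hM : IsPModular p M) {B : Set (IrrCharacter G)} {P Q : Subgroup G}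
    {e : Set (IrrCharacter 𝐂[P])} {f : Set (IrrCharacter 𝐂[Q])} (hmax : IsMaximalBrauerPair p M B P e)
    (hQf : IsBrauerPairOf p M B Q f) :
    ∃ x : G, SubpairLE p M (Q ^^ x) (conjBlock Q x f) P e := by
  obtain ⟨R, g, hR, hle⟩ := exists_maximal_above hM hQf
  obtain ⟨y, hy⟩ := exists_cp_eq_of_maximal hM hmax hR
  refine ⟨y, ?_⟩
  have := relationCp hM y hle
  rw [hy] at this
  exact this

end Main

end Cfsg.Agent.Lib.BrauerMax
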