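import Mathlib
import Cfsg.Prelude.Def_BlockFusion
import Cfsg.Agent.Lib.BrauerMax

/-!
# Stabilizers of blocks, transfer between `G` and subgroups
-/

set_option autoImplicit false
set_option linter.unusedSectionVars false
set_option linter.unusedVariables false
set_option linter.style.haveILetI false

namespace Cfsg.Agent.Lib.BrauerStab

open Cfsg Cfsg.Agent.Lib.CharBasic Cfsg.Agent.Lib.CharInd Cfsg.Agent.Lib.CharIntegrality
open Cfsg.Agent.Lib.BlockLocal Cfsg.Agent.Lib.BlockIdem Cfsg.Agent.Lib.BlockNormal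
open Cfsg.Agent.Lib.BrauerMap Cfsg.Agent.Lib.BrauerPair Cfsg.Agent.Lib.BrauerSub
open Cfsg.Agent.Lib.BrauerConj Cfsg.Agent.Lib.BrauerThird Cfsg.Agent.Lib.BrauerMax
open Cfsg.Agent.Lib.BlockDefect
open Cfsg.Agent.S4646
open scoped ComplexConjugate

universe u

section Idem

variable {H : Type u} [Group H] [Fintype H] {M : Ideal AlgInt}

/-- An idempotent central function is the idempotent of a set of irreducible characters. -/
theorem eq_blockCoeff_of_conv {a : H → ℂ} (hcl : IsClassFunction H a)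
    (hconv : CharIntegrality.conv a a = a) :
    a = blockCoeff {χ : IrrCharacter H | omega (χ : H → ℂ) a = 1} := by
  classical
  have h1 : (fun χ : IrrCharacter H => omega (χ : H → ℂ) a) =
      ind {χ : IrrCharacter H | omega (χ : H → ℂ) a = 1} := by
    funext χ
    have h2 := omega_conv χ.2 hcl hcl
    rw [hconv] at h2
    by_cases h3 : omega (χ : H → ℂ) a = 1
    · rw [ind_of_mem h3]
      exact h3
    · rw [ind_of_not_mem h3]
      have h4 : omega (χ : H → ℂ) a * (omega (χ : H → ℂ) a - 1) = 0 := by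
        rw [mul_sub, mul_one, ← h2, sub_self]
      rcases mul_eq_zero.1 h4 with h5 | h5
      · exact h5
      · exact absurd (sub_eq_zero.1 h5) h3
  rw [blockCoeff_eq_invF_ind, ← h1, invF_omega hcl]

theorem omega_eq_ind_of_conv {a : H → ℂ} (hcl : IsClassFunction H a)
    (hconv : CharIntegrality.conv a a = a) (χ : IrrCharacter H) :
    omega (χ : H → ℂ) a = ind {χ : IrrCharacter H | omega (χ : H → ℂ) a = 1} χ := by
  conv_lhs => rw [eq_blockCoeff_of_conv hcl hconv]
  rw [omega_blockCoeff]

theorem blockCoeff_ne_zero_of_mem {B : Set (IrrCharacter H)} {χ : IrrCharacter H} (h : χ ∈ B) :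
    blockCoeff B ≠ 0 := by
  intro h0
  have h1 := omega_blockCoeff B χ
  rw [h0, ind_of_mem h] at h1
  have h2 : omega (χ : H → ℂ) (0 : H → ℂ) = 0 := by
    unfold omega
    simp
  rw [h2] at h1
  exact zero_ne_one h1

/-- A nonzero central idempotent, local, below the idempotent of a block is the idempotent of the
block. -/
theorem eq_blockCoeff_of_idem [M.IsPrime] {B : Set (IrrCharacter H)} (hB : IsPBlock M B) {a : H → ℂ}
    (hcl : IsClassFunction H a) (hconv : CharIntegrality.conv a a = a)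
    (hR : ∀ x, MemLocalRing M (a x)) (hle : CharIntegrality.conv a (blockCoeff B) = a) (hne : a ≠ 0) :
    a = blockCoeff B := by
  classical
  set A := {χ : IrrCharacter H | omega (χ : H → ℂ) a = 1} with hA
  have haA := eq_blockCoeff_of_conv hcl hconv
  have hsub : A ⊆ B := by
    intro χ hχ
    by_contra hn
    have h1 := omega_conv χ.2 hcl (BlockNormal.blockCoeff_isClassFunction B)
    rw [hle, omega_blockCoeff, ind_of_not_mem hn, mul_zero] at h1
    rw [hA, Set.mem_ofPred_eq, h1] at hχ
    exact zero_ne_one hχ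
  have hne' : A.Nonempty := by
    by_contra hn
    rw [Set.not_nonempty_iff_eq_empty] at hn
    apply hne
    rw [haA, ← hA, hn, blockCoeff_empty]
  obtain ⟨χ₀, hχ₀⟩ := hne'
  have hZ := mem_Zc_of_classFunction (M := M) hcl hR
  have hsup : B ⊆ A := by
    intro ψ hψ
    by_contra hn
    have hsb : SameBlock M (χ₀ : H → ℂ) ψ := by
      obtain ⟨χ₁, rfl⟩ := hB
      exact sameBlock_trans (sameBlock_symm (hsub hχ₀)) hψ
    have h1 := memLocalIdeal_sub_of_mem_Zc hZ hsb
    rw [hχ₀, omega_eq_ind_of_conv hcl hconv ψ, ind_of_not_mem hn, sub_zero] at h1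
    exact not_memLocalIdeal_one h1
  rw [haA, ← hA, Set.Subset.antisymm hsub hsup]

end Idem

section Core

variable {G : Type u} [Group G] [Fintype G] {p : ℕ} [hp : Fact p.Prime] {M : Ideal AlgInt}

local notation "𝐂[" R "]" => Subgroup.centralizer ((R : Subgroup G) : Set G)
local notation Q "^^" x => Subgroup.map (MulEquiv.toMonoidHom (MulAut.conj (x : G))) (Q : Subgroup G)

noncomputable local instance fintypeSub (K : Subgroup G) : Fintype K := Fintype.ofFinite K

/-- An element of `G` supported on `C` is the extension by zero of its restriction. -/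
theorem ext0_resC_blockCoeff (hM : IsPModular p M) (P : Subgroup G) [P.Normal] (hP : IsPGroup p P)
    {E : Set (IrrCharacter G)} (hE : IsPBlock M E) :
    ext0 𝐂[P] (resC 𝐂[P] (blockCoeff E)) = blockCoeff E :=
  ext0_resC _ fun x hx => blockCoeff_eq_zero_of_not_mem_centralizer P hP hM E hE x hx

theorem ext0_injective (K : Subgroup G) : Function.Injective (ext0 K) := by
  intro a b h
  funext x
  have := congrFun h x
  rwa [ext0_coe, ext0_coe] at this

/-- **A `G`-stable block of `C_G(P)`, `P` normal, has the idempotent of a block of `G`.** -/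
theorem exists_block_of_stable (hM : IsPModular p M) (P : Subgroup G) [P.Normal] (hP : IsPGroup p P)
    {e : Set (IrrCharacter 𝐂[P])} (he : IsPBlock M e) (hst : ∀ x : G, StabilizesBlock 𝐂[P] e x) :
    ∃ E : Set (IrrCharacter G), IsPBlock M E ∧ blockCoeff E = subgroupBlockCoeff 𝐂[P] e := by
  classical
  haveI := isPrime_of_isPModular hM
  set ε := subgroupBlockCoeff 𝐂[P] e with hε
  have hεinv : Inv ⊤ ε := inv_subgroupBlockCoeff_of_stable _ ⊤ he (fun u _ => hst u)
  have hεcl : IsClassFunction G ε := fun g h => hεinv h (Subgroup.mem_top h) g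
  have hεconv : CharIntegrality.conv ε ε = ε := by
    rw [hε, conv_subgroupBlockCoeff, Set.inter_self]
  have hεR : ∀ x, MemLocalRing M (ε x) := memLocalRing_subgroupBlockCoeff _ he
  have hεne : ε ≠ 0 := by
    intro h0
    obtain ⟨ξ, hξ⟩ : ∃ ξ, ξ ∈ e := by
      obtain ⟨ξ₀, rfl⟩ := he
      exact ⟨ξ₀, mem_blockOf_self ξ₀⟩
    apply blockCoeff_ne_zero_of_mem hξ
    apply ext0_injective 𝐂[P]
    rw [← subgroupBlockCoeff_eq_ext0, ← hε, h0, ext0_zero]
  set A := {χ : IrrCharacter G | omega (χ : G → ℂ) ε = 1} with hA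
  have hεA : ε = blockCoeff A := eq_blockCoeff_of_conv hεcl hεconv
  obtain ⟨χ₀, hχ₀⟩ : A.Nonempty := by
    by_contra hn
    rw [Set.not_nonempty_iff_eq_empty] at hn
    apply hεne
    rw [hεA, hn, blockCoeff_empty]
  refine ⟨blockOf M (χ₀ : G → ℂ), ⟨χ₀, rfl⟩, ?_⟩
  -- `blockOf χ₀ ⊆ A`
  have hZ := mem_Zc_of_classFunction (M := M) hεcl hεR
  have hsub : blockOf M (χ₀ : G → ℂ) ⊆ A := by
    intro ψ hψ
    by_contra hn
    have h1 := memLocalIdeal_sub_of_mem_Zc hZ hψ
    rw [hχ₀, omega_eq_ind_of_conv hεcl hεconv ψ, ind_of_not_mem hn, sub_zero] at h1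
    exact not_memLocalIdeal_one h1
  set E := blockOf M (χ₀ : G → ℂ) with hE
  have hEb : IsPBlock M E := ⟨χ₀, rfl⟩
  -- the restriction of the idempotent of `E`
  set a := resC 𝐂[P] (blockCoeff E) with ha
  have hext : ext0 𝐂[P] a = blockCoeff E := ext0_resC_blockCoeff hM P hP hEb
  have hacl : IsClassFunction 𝐂[P] a :=
    resC_isClassFunction (inv_of_isClassFunction (BlockNormal.blockCoeff_isClassFunction E) _)
  have haconv : CharIntegrality.conv a a = a := by
    apply ext0_injective 𝐂[P]
    rw [← conv_ext0, hext, conv_blockCoeff_self]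
  have haR : ∀ x, MemLocalRing M (a x) := fun x => memLocalRing_blockCoeff hEb x
  have hale : CharIntegrality.conv a (blockCoeff e) = a := by
    apply ext0_injective 𝐂[P]
    rw [← conv_ext0, hext, ← subgroupBlockCoeff_eq_ext0, ← hε, hεA, conv_blockCoeff,
      Set.inter_eq_left.2 hsub]
  have hane : a ≠ 0 := by
    intro h0
    apply blockCoeff_ne_zero_of_mem (mem_blockOf_self χ₀ (M := M))
    rw [← hE, ← hext, h0, ext0_zero]
  have h2 := eq_blockCoeff_of_idem he hacl haconv haR hale hane
  rw [← hext, h2, hε, subgroupBlockCoeff_eq_ext0]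

end Core

section Match

variable {G : Type u} [Group G] [Fintype G] {p : ℕ} [hp : Fact p.Prime] {M : Ideal AlgInt}

local notation "𝐂[" R "]" => Subgroup.centralizer ((R : Subgroup G) : Set G)
local notation Q "^^" x => Subgroup.map (MulEquiv.toMonoidHom (MulAut.conj (x : G))) (Q : Subgroup G)

noncomputable local instance fintypeSub2 (K : Subgroup G) : Fintype K := Fintype.ofFinite K

variable {T : Subgroup G}

/-- Matching of the centralizer in `T` of a subgroup of `T` with the centralizer in `G` of a subgroup of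
`G`. -/
structure CenMatch (Rh : Subgroup T) (R' : Subgroup G) : Prop where
  le : 𝐂[R'] ≤ T
  iff : ∀ t : T, t ∈ Subgroup.centralizer (Rh : Set T) ↔ (t : G) ∈ 𝐂[R']

/-- The isomorphism of matched centralizers. -/
noncomputable def CenMatch.iso {Rh : Subgroup T} {R' : Subgroup G} (h : CenMatch Rh R') :
    Subgroup.centralizer (Rh : Set T) ≃* 𝐂[R'] where
  toFun c := ⟨(c : T), (h.iff c).1 c.2⟩
  invFun c := ⟨⟨c, h.le c.2⟩, (h.iff _).2 c.2⟩
  left_inv c := rfl
  right_inv c := rfl
  map_mul' a b := rfl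

@[simp] theorem CenMatch.coe_iso {Rh : Subgroup T} {R' : Subgroup G} (h : CenMatch Rh R')
    (c : Subgroup.centralizer (Rh : Set T)) : ((h.iso c : 𝐂[R']) : G) = ((c : T) : G) := rfl

@[simp] theorem CenMatch.coe_iso_symm {Rh : Subgroup T} {R' : Subgroup G} (h : CenMatch Rh R')
    (c : 𝐂[R']) : (((h.iso.symm c : Subgroup.centralizer (Rh : Set T)) : T) : G) = (c : G) := rfl

/-- The map `brO` under the matching. -/
theorem CenMatch.brO_eq {Rh : Subgroup T} {R' : Subgroup G} (h : CenMatch Rh R') {αh : T → ℂ} {α : G → ℂ}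
    (hα : ∀ t : T, αh t = α t) (ξ : IrrCharacter (Subgroup.centralizer (Rh : Set T))) :
    brO Rh αh ξ = brO R' α (twistE h.iso ξ) := by
  unfold brO omega
  have e1 : (twistE h.iso ξ : 𝐂[R'] → ℂ) 1 = (ξ : Subgroup.centralizer (Rh : Set T) → ℂ) 1 := by
    rw [twistE_apply, map_one]
  rw [e1]
  congr 1
  refine Fintype.sum_equiv h.iso.toEquiv _ _ fun c => ?_
  simp only [resC_apply, twistE_apply, MulEquiv.toEquiv_eq_coe, MulEquiv.coe_toEquiv,
    MulEquiv.symm_apply_apply]
  rw [hα]
  rfl

/-- Block coefficients under the matching. -/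
theorem CenMatch.sbc_eq {Rh : Subgroup T} {R' : Subgroup G} (h : CenMatch Rh R')
    (g : Set (IrrCharacter (Subgroup.centralizer (Rh : Set T)))) (t : T) :
    subgroupBlockCoeff (Subgroup.centralizer (Rh : Set T)) g t =
      subgroupBlockCoeff 𝐂[R'] (twistSetE h.iso g) t := by
  classical
  simp only [subgroupBlockCoeff_eq_ext0]
  by_cases ht : t ∈ Subgroup.centralizer (Rh : Set T)
  · rw [ext0_of_mem _ _ ht, ext0_of_mem _ _ ((h.iff t).1 ht)]
    exact (blockCoeff_twistSetE h.iso g ⟨t, ht⟩).symm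
  · rw [ext0_of_not_mem _ _ ht, ext0_of_not_mem _ _ (fun h2 => ht ((h.iff t).2 h2))]

/-- The twisted block under the matching. -/
theorem CenMatch.isPBlock {Rh : Subgroup T} {R' : Subgroup G} (h : CenMatch Rh R')
    {g : Set (IrrCharacter (Subgroup.centralizer (Rh : Set T)))} (hg : IsPBlock M g) :
    IsPBlock M (twistSetE h.iso g) := isPBlock_twistSetE _ hg

/-- Stabilizers under the matching. -/
theorem CenMatch.stabilizes_of_hat {Rh : Subgroup T} {R' : Subgroup G} (h : CenMatch Rh R')
    {g : Set (IrrCharacter (Subgroup.centralizer (Rh : Set T)))} {u : T}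
    (hu : StabilizesBlock (Subgroup.centralizer (Rh : Set T)) g u) :
    StabilizesBlock 𝐂[R'] (twistSetE h.iso g) (u : G) := by
  refine ⟨?_, ?_⟩
  · rw [Subgroup.mem_normalizer_iff]
    have key := Subgroup.mem_normalizer_iff.1 hu.1
    intro x
    constructor
    · intro hx
      have hxT : x ∈ T := h.le hx
      have h1 := (key ⟨x, hxT⟩).1 ((h.iff ⟨x, hxT⟩).2 hx)
      exact (h.iff _).1 h1
    · intro hx
      have hxT' : (u : G) * x * (u : G)⁻¹ ∈ T := h.le hx
      have hxT : x ∈ T := by
        have := T.mul_mem (T.mul_mem (T.inv_mem u.2) hxT') u.2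
        simpa [mul_assoc] using this
      have h1 := (key ⟨x, hxT⟩).2 ((h.iff _).2 hx)
      exact (h.iff ⟨x, hxT⟩).1 h1
  · rintro _ ⟨ξ, hξ, rfl⟩
    obtain ⟨ξ', hξ', hc⟩ := hu.2 ξ hξ
    refine ⟨twistE h.iso ξ', ⟨ξ', hξ', rfl⟩, fun k k' hk => ?_⟩
    rw [twistE_apply, twistE_apply]
    apply hc
    apply Subtype.ext
    rw [h.coe_iso_symm, hk]
    simp

theorem CenMatch.stabilizes_hat {Rh : Subgroup T} {R' : Subgroup G} (h : CenMatch Rh R')
    {g : Set (IrrCharacter 𝐂[R'])} {u : T} (hu : StabilizesBlock 𝐂[R'] g (u : G)) :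
    StabilizesBlock (Subgroup.centralizer (Rh : Set T)) (twistSetE h.iso.symm g) u := by
  refine ⟨?_, ?_⟩
  · rw [Subgroup.mem_normalizer_iff]
    have key := Subgroup.mem_normalizer_iff.1 hu.1
    intro x
    constructor
    · intro hx
      have h1 := (key x).1 ((h.iff x).1 hx)
      exact (h.iff _).2 h1
    · intro hx
      have h1 := (key x).2 ((h.iff _).1 hx)
      exact (h.iff x).2 h1
  · rintro _ ⟨ξ, hξ, rfl⟩
    obtain ⟨ξ', hξ', hc⟩ := hu.2 ξ hξ
    refine ⟨twistE h.iso.symm ξ', ⟨ξ', hξ', rfl⟩, fun k k' hk => ?_⟩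
    rw [twistE_apply, twistE_apply]
    apply hc
    simp only [MulEquiv.symm_symm, h.coe_iso]
    simp [hk]

theorem CenMatch.twistSetE_symm {Rh : Subgroup T} {R' : Subgroup G} (h : CenMatch Rh R')
    (g : Set (IrrCharacter 𝐂[R'])) : twistSetE h.iso (twistSetE h.iso.symm g) = g := by
  unfold twistSetE
  rw [Set.image_image]
  simp [twistE_symm_twistE]

end Match

section Normal

variable {G : Type u} [Group G] [Fintype G] {p : ℕ} [hp : Fact p.Prime] {M : Ideal AlgInt}

local notation "𝐂[" R "]" => Subgroup.centralizer ((R : Subgroup G) : Set G)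
local notation Q "^^" x => Subgroup.map (MulEquiv.toMonoidHom (MulAut.conj (x : G))) (Q : Subgroup G)

noncomputable local instance fintypeSub3 (K : Subgroup G) : Fintype K := Fintype.ofFinite K

/-- An element of `C_G(P)` stabilizes any block of `C_G(P)`. -/
theorem stabilizes_of_mem_centralizer {K : Subgroup G} {u : G} (hu : u ∈ K)
    (F : Set (IrrCharacter K)) : StabilizesBlock K F u := by
  refine ⟨Subgroup.mem_normalizer_iff.2 fun x => ?_, fun χ hχ => ⟨χ, hχ, fun k k' hk => ?_⟩⟩
  · constructor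
    · intro hx
      exact K.mul_mem (K.mul_mem hu hx) (K.inv_mem hu)
    · intro hx
      have := K.mul_mem (K.mul_mem (K.inv_mem hu) hx) hu
      simpa [mul_assoc] using this
  · have e1 : k' = ⟨u, hu⟩ * k * (⟨u, hu⟩ : K)⁻¹ := Subtype.ext hk
    rw [e1]
    exact isClassFunction_of_isCharacter (IsIrrCharacter.isCharacter χ.2) k ⟨u, hu⟩

/-- An element centralizing `K` and normalizing it stabilizes any block of `K`. -/
theorem stabilizes_of_centralizes {K : Subgroup G} {u : G} (hu : ∀ k ∈ K, u * k * u⁻¹ = k)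
    (F : Set (IrrCharacter K)) : StabilizesBlock K F u := by
  refine ⟨Subgroup.mem_normalizer_iff.2 fun x => ?_, fun χ hχ => ⟨χ, hχ, fun k k' hk => ?_⟩⟩
  · constructor
    · intro hx
      rw [hu x hx]
      exact hx
    · intro hx
      have h1 := hu _ hx
      have h2 : u * x * u⁻¹ = x := mul_left_cancel (mul_right_cancel h1)
      rwa [h2] at hx
  · have e1 : k' = k := Subtype.ext (by rw [hk, hu k k.2])
    rw [e1]

variable {P : Subgroup G} {e : Set (IrrCharacter (Subgroup.centralizer (P : Set G)))}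

/-- The union of the conjugates of `e`. -/
noncomputable def orbU (M : Ideal AlgInt) (P : Subgroup G) (e : Set (IrrCharacter 𝐂[P])) :
    Set (IrrCharacter 𝐂[P]) :=
  {ξ | ∃ F ∈ orb M P e, ξ ∈ F.1}

theorem ind_orbU [M.IsPrime] (ξ : IrrCharacter 𝐂[P]) :
    ind (orbU M P e) ξ = ∑ F ∈ orb M P e, ind F.1 ξ := by
  classical
  by_cases hξ : ξ ∈ orbU M P e
  · rw [ind_of_mem hξ]
    obtain ⟨F, hF, hξF⟩ := hξ
    rw [Finset.sum_eq_single F]
    · exact (ind_of_mem hξF).symm
    · intro F' _ hF'
      apply ind_of_not_mem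
      intro hξF'
      apply hF'
      apply Subtype.ext
      rcases eq_or_disjoint_of_isPBlock F'.2 F.2 with h | h
      · exact h
      · exact absurd hξF (Set.disjoint_left.1 h hξF')
    · intro h
      exact absurd hF h
  · rw [ind_of_not_mem hξ]
    symm
    apply Finset.sum_eq_zero
    intro F hF
    exact ind_of_not_mem fun h => hξ ⟨F, hF, h⟩

theorem eps_eq_sbc [M.IsPrime] : eps M P e = subgroupBlockCoeff 𝐂[P] (orbU M P e) := by
  unfold eps
  simp only [subgroupBlockCoeff_eq_ext0]
  rw [← ext0_sum]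
  congr 1
  simp only [blockCoeff_eq_invF_ind]
  funext x
  rw [Finset.sum_apply]
  unfold invF
  rw [Finset.sum_comm]
  refine Finset.sum_congr rfl fun ξ _ => ?_
  rw [ind_orbU, Finset.sum_mul]

theorem eps_conv [M.IsPrime] : CharIntegrality.conv (eps M P e) (eps M P e) = eps M P e := by
  rw [eps_eq_sbc, conv_subgroupBlockCoeff, Set.inter_self]

/-- Conjugates of a pair of `B` are pairs of `B`. -/
theorem pairOf_of_mem_orb (hM : IsPModular p M) {B : Set (IrrCharacter G)}
    (he : IsBrauerPairOf p M B P e) {F : BlockT M 𝐂[P]} (hF : F ∈ orb M P e) :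
    IsBrauerPairOf p M B P F.1 := by
  obtain ⟨n, hn, hFe⟩ := mem_orb.1 hF
  have h : IsBrauerPairOf p M B (cp n ⟨P, e⟩).1 (cp n ⟨P, e⟩).2 := isBrauerPairOf_conj hM he n
  rw [cp_of_normalizer hn (normalizer_le_normalizer_centralizer P hn), ← hFe] at h
  exact h

/-- On a set of blocks occurring in the idempotent of `B` and for `P` normal, the truncation of the
idempotent of `B` acts as the identity. -/
theorem conv_eps_blockCoeff (hM : IsPModular p M) [P.Normal] (hP : IsPGroup p P)
    {B : Set (IrrCharacter G)} (he : IsBrauerPairOf p M B P e) :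
    CharIntegrality.conv (eps M P e) (blockCoeff B) = eps M P e := by
  classical
  haveI := isPrime_of_isPModular hM
  have hB := he.2.1
  rw [eps_eq_sbc]
  set a := resC 𝐂[P] (blockCoeff B) with ha
  have hext : ext0 𝐂[P] a = blockCoeff B := ext0_resC_blockCoeff hM P hP hB
  have hacl : IsClassFunction 𝐂[P] a :=
    resC_isClassFunction (inv_of_isClassFunction (BlockNormal.blockCoeff_isClassFunction B) _)
  have haconv : CharIntegrality.conv a a = a := by
    apply ext0_injective 𝐂[P]
    rw [← conv_ext0, hext, conv_blockCoeff_self]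
  conv_lhs => rw [← hext]
  rw [subgroupBlockCoeff_eq_ext0, conv_ext0]
  congr 1
  have hom : ∀ ξ ∈ orbU M P e, omega (ξ : 𝐂[P] → ℂ) a = 1 := by
    rintro ξ ⟨F, hF, hξF⟩
    have h1 := (pairOf_of_mem_orb hM he hF).2.2 ξ hξF
    rw [brauerOmega_eq] at h1
    change MemLocalIdeal M (omega (ξ : 𝐂[P] → ℂ) a - 1) at h1
    rw [omega_eq_ind_of_conv hacl haconv ξ] at h1 ⊢
    by_contra hn
    have h2 : ξ ∉ {χ : IrrCharacter 𝐂[P] | omega (χ : 𝐂[P] → ℂ) a = 1} := by
      intro h3
      apply hn
      exact ind_of_mem h3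
    rw [ind_of_not_mem h2] at h1
    have h4 := memLocalIdeal_neg h1
    simp only [zero_sub, neg_neg] at h4
    exact not_memLocalIdeal_one h4
  have hcl2 : IsClassFunction 𝐂[P] (CharIntegrality.conv (blockCoeff (orbU M P e)) a) :=
    conv_isClassFunction (BlockNormal.blockCoeff_isClassFunction _) hacl
  calc CharIntegrality.conv (blockCoeff (orbU M P e)) a
      = invF (fun ξ : IrrCharacter 𝐂[P] => omega (ξ : 𝐂[P] → ℂ)
          (CharIntegrality.conv (blockCoeff (orbU M P e)) a)) := (invF_omega hcl2).symm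
    _ = invF (ind (orbU M P e)) := by
        congr 1
        funext ξ
        rw [omega_conv ξ.2 (BlockNormal.blockCoeff_isClassFunction _) hacl, omega_blockCoeff]
        by_cases hξ : ξ ∈ orbU M P e
        · rw [ind_of_mem hξ, hom ξ hξ, mul_one]
        · rw [ind_of_not_mem hξ, zero_mul]
    _ = blockCoeff (orbU M P e) := (blockCoeff_eq_invF_ind _).symm

/-- **`e_B` is the orbit sum.** -/
theorem eps_eq_blockCoeff (hM : IsPModular p M) [hN : P.Normal] (hP : IsPGroup p P)
    {B : Set (IrrCharacter G)} (he : IsBrauerPairOf p M B P e) : eps M P e = blockCoeff B := by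
  classical
  haveI := isPrime_of_isPModular hM
  have hnorm : ∀ x : G, x ∈ Subgroup.normalizer (P : Set G) := fun x =>
    Subgroup.le_normalizer_of_normal (H := P) (K := ⊤) (Subgroup.mem_top x)
  refine eq_blockCoeff_of_idem he.2.1 ?_ eps_conv memLocalRing_eps (conv_eps_blockCoeff hM hP he) ?_
  · intro g h
    exact eps_conj (hnorm h) g
  · intro h0
    obtain ⟨ξ, hξ⟩ : ∃ ξ, ξ ∈ e := by
      obtain ⟨ξ₀, h1⟩ := he.1.2
      rw [h1]
      exact ⟨ξ₀, mem_blockOf_self ξ₀⟩
    have h1 := brO_eps_of_mem he.1.2 hξ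
    rw [h0, brO_zero] at h1
    exact zero_ne_one h1

/-- Counting the conjugates of a block under an element of the normalizer. -/
theorem card_mul_eps [hN : P.Normal] (he : IsPBlock M e) [M.IsPrime] {T : Subgroup G}
    (hT : ∀ x : G, x ∈ T ↔ StabilizesBlock 𝐂[P] e x) (g : G) :
    (Nat.card T : ℂ) * eps M P e g = ∑ x : G, subgroupBlockCoeff 𝐂[P] e (x⁻¹ * g * x) := by
  classical
  have hnorm : ∀ x : G, x ∈ Subgroup.normalizer (P : Set G) := fun x =>
    Subgroup.le_normalizer_of_normal (H := P) (K := ⊤) (Subgroup.mem_top x)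
  let σ : G → MulAut 𝐂[P] := fun x =>
    conjAut 𝐂[P] x (normalizer_le_normalizer_centralizer P (hnorm x))
  have hσmul : ∀ x y, σ (x * y) = σ x * σ y := fun x y => conjAut_mul _ _ _ _ _ _
  have hσone : σ 1 = 1 := conjAut_one _ _
  let τ : G → BlockT M 𝐂[P] := fun x => ⟨twistSet (σ x) e, isPBlock_twistSet _ he⟩
  have hτ : ∀ x, τ x ∈ orb M P e := fun x => mem_orb.2 ⟨x, hnorm x, rfl⟩
  have hsbc : ∀ x, subgroupBlockCoeff 𝐂[P] e (x⁻¹ * g * x) = subgroupBlockCoeff 𝐂[P] (τ x).1 g := by
    intro x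
    have h1 := sbc_twistSet 𝐂[P] e (normalizer_le_normalizer_centralizer P (hnorm x)) (x⁻¹ * g * x)
    have e1 : x * (x⁻¹ * g * x) * x⁻¹ = g := by group
    rw [e1] at h1
    exact h1.symm
  simp_rw [hsbc]
  rw [← Finset.sum_fiberwise_of_maps_to (s := Finset.univ) (t := orb M P e) (g := τ)
    (fun x _ => hτ x), eps_apply, Finset.mul_sum]
  refine Finset.sum_congr rfl fun F hF => ?_
  rw [Finset.sum_congr rfl (g := fun _ => subgroupBlockCoeff 𝐂[P] F.1 g)
    (fun x hx => by rw [(Finset.mem_filter.1 hx).2]), Finset.sum_const, nsmul_eq_mul]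
  congr 2
  obtain ⟨n, hn, hFe⟩ := mem_orb.1 hF
  have hF2 : F = τ n := Subtype.ext hFe
  subst hF2
  -- the fibre is a coset of `T`
  have hmem : ∀ x : G, τ x = τ n ↔ n⁻¹ * x ∈ T := by
    intro x
    rw [hT]
    constructor
    · intro h
      have h1 := congrArg Subtype.val h
      change twistSet (σ x) e = twistSet (σ n) e at h1
      apply stabilizes_of_twistSet_eq (normalizer_le_normalizer_centralizer P (hnorm (n⁻¹ * x)))
      change twistSet (σ (n⁻¹ * x)) e = e
      rw [hσmul, twistSet_mul, h1, ← twistSet_mul, ← hσmul, inv_mul_cancel, hσone, twistSet_one]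
    · intro h
      have h1 := twistSet_eq_of_stabilizes he h
      change twistSet (σ (n⁻¹ * x)) e = e at h1
      apply Subtype.ext
      change twistSet (σ x) e = twistSet (σ n) e
      have e1 : x = n * (n⁻¹ * x) := by group
      conv_lhs => rw [e1, hσmul, twistSet_mul, h1]
  rw [Nat.card_eq_fintype_card]
  rw [Fintype.card_subtype]
  apply Finset.card_bij (fun x _ => n * x)
  · intro x hx
    simp only [Finset.mem_filter, Finset.mem_univ, true_and] at hx ⊢
    rw [hmem]
    simpa using hx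
  · intro a _ b _ h
    exact mul_left_cancel h
  · intro x hx
    simp only [Finset.mem_filter, Finset.mem_univ, true_and] at hx
    refine ⟨n⁻¹ * x, ?_, by group⟩
    simp only [Finset.mem_filter, Finset.mem_univ, true_and]
    exact (hmem x).1 hx

/-- The group `P` inside the stabilizer. -/
theorem cenMatch_of_stable {T : Subgroup G} (hPT : P ≤ T) (hCT : 𝐂[P] ≤ T) :
    CenMatch (P.subgroupOf T) P := by
  refine ⟨hCT, fun t => ?_⟩
  rw [Subgroup.mem_centralizer_iff, Subgroup.mem_centralizer_iff]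
  constructor
  · intro h u hu
    have := h ⟨u, hPT hu⟩ (Subgroup.mem_subgroupOf.2 hu)
    exact congrArg Subtype.val this
  · intro h u hu
    exact Subtype.ext (h u (Subgroup.mem_subgroupOf.1 hu))

/-- The block of the stabilizer with the idempotent of `e`. -/
theorem exists_block_of_stabilizer (hM : IsPModular p M) {T : Subgroup G} (hP : IsPGroup p P)
    (hPT : P ≤ T) (hCT : 𝐂[P] ≤ T) (hPn : T ≤ Subgroup.normalizer (P : Set G))
    (he : IsPBlock M e) (hT : ∀ x ∈ T, StabilizesBlock 𝐂[P] e x) :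
    ∃ E : Set (IrrCharacter T), IsPBlock M E ∧
      ∀ t : T, blockCoeff E t = subgroupBlockCoeff 𝐂[P] e (t : G) := by
  haveI := isPrime_of_isPModular hM
  have hm := cenMatch_of_stable hPT hCT
  haveI hN : (P.subgroupOf T).Normal := by
    apply Subgroup.normal_subgroupOf_iff hPT |>.2
    intro h k hh hk
    exact (Subgroup.mem_normalizer_iff.1 (hPn hk) h).1 hh
  have hPh : IsPGroup p (P.subgroupOf T) := IsPGroup.comap_of_injective hP _ Subtype.val_injective
  obtain ⟨E, hE, hEe⟩ := exists_block_of_stable hM (P.subgroupOf T) hPh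
    (e := twistSetE hm.iso.symm e) (isPBlock_twistSetE _ he)
    (fun x => hm.stabilizes_hat (hT x x.2))
  refine ⟨E, hE, fun t => ?_⟩
  rw [hEe, hm.sbc_eq, hm.twistSetE_symm]

end Normal

end Cfsg.Agent.Lib.BrauerStab
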