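import Mathlib
import Cfsg.Prelude.Def_BlockFusion
import Cfsg.Agent.Lib.BrauerStab

/-!
# Fully centralized and fully normalized pairs
-/

set_option autoImplicit false
set_option linter.unusedSectionVars false
set_option linter.unusedVariables false
set_option linter.style.haveILetI false

namespace Cfsg.Agent.Lib.BrauerCen

open Cfsg Cfsg.Agent.Lib.CharBasic Cfsg.Agent.Lib.CharInd Cfsg.Agent.Lib.CharIntegrality
open Cfsg.Agent.Lib.BlockLocal Cfsg.Agent.Lib.BlockIdem Cfsg.Agent.Lib.BlockNormal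
open Cfsg.Agent.Lib.BrauerMap Cfsg.Agent.Lib.BrauerPair Cfsg.Agent.Lib.BrauerSub
open Cfsg.Agent.Lib.BrauerConj Cfsg.Agent.Lib.BrauerThird Cfsg.Agent.Lib.BrauerMax
open Cfsg.Agent.Lib.BrauerStab Cfsg.Agent.Lib.BlockDefect
open Cfsg.Agent.S4646
open scoped ComplexConjugate

universe u

variable {G : Type u} [Group G] [Fintype G] {p : ℕ} [hp : Fact p.Prime] {M : Ideal AlgInt}

local notation "𝐂[" R "]" => Subgroup.centralizer ((R : Subgroup G) : Set G)
local notation "𝐍[" R "]" => Subgroup.normalizer ((R : Subgroup G) : Set G)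
local notation Q "^^" x => Subgroup.map (MulEquiv.toMonoidHom (MulAut.conj (x : G))) (Q : Subgroup G)

noncomputable local instance fintypeSubC (K : Subgroup G) : Fintype K := Fintype.ofFinite K

/-- A subgroup normalizes itself. -/
theorem le_normalizer_self (Q : Subgroup G) : Q ≤ 𝐍[Q] := by
  intro x hx
  rw [Subgroup.mem_normalizer_iff]
  intro a
  constructor
  · intro ha
    exact Q.mul_mem (Q.mul_mem hx ha) (Q.inv_mem hx)
  · intro ha
    have := Q.mul_mem (Q.mul_mem (Q.inv_mem hx) ha) hx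
    simpa [mul_assoc] using this

theorem isBrauerPair_of_chain {a b : BrauerPairIdx G}
    (h : Relation.ReflTransGen (NormalSubpairRel (G := G) p M) a b)
    (hb : IsBrauerPair p M b.1 b.2) : IsBrauerPair p M a.1 a.2 := by
  rcases Relation.ReflTransGen.cases_head h with rfl | ⟨c, hc, -⟩
  · exact hb
  · exact hc.1

theorem isBrauerPair_of_subpairLE {Q P : Subgroup G} {f : Set (IrrCharacter 𝐂[Q])}
    {e : Set (IrrCharacter 𝐂[P])} (h : SubpairLE p M Q f P e) (he : IsBrauerPair p M P e) :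
    IsBrauerPair p M Q f :=
  isBrauerPair_of_chain (a := ⟨Q, f⟩) (b := ⟨P, e⟩) h he

theorem subpairLE_of_normal {Q P : Subgroup G} {f : Set (IrrCharacter 𝐂[Q])}
    {e : Set (IrrCharacter 𝐂[P])} (h : IsNormalSubpair p M Q f P e) : SubpairLE p M Q f P e :=
  Relation.ReflTransGen.single h

/-- Uniqueness of the pair below a pair on a given subgroup. -/
theorem eq_of_two_subpairLE (hM : IsPModular p M) {Q P : Subgroup G} {f f' : Set (IrrCharacter 𝐂[Q])}
    {e : Set (IrrCharacter 𝐂[P])} (he : IsBrauerPair p M P e) (h1 : SubpairLE p M Q f P e)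
    (h2 : SubpairLE p M Q f' P e) : f' = f :=
  (existsUnique_subpairLE hM he (le_of_subpairLE h1)).unique
    ⟨(isBrauerPair_of_subpairLE h2 he).2, h2⟩ ⟨(isBrauerPair_of_subpairLE h1 he).2, h1⟩

/-- Comparable pairs below a pair with a normal inclusion of subgroups are normally included. -/
theorem normalSubpair_of_le (hM : IsPModular p M) {Q R P : Subgroup G} {f : Set (IrrCharacter 𝐂[Q])}
    {g : Set (IrrCharacter 𝐂[R])} {e : Set (IrrCharacter 𝐂[P])} (he : IsBrauerPair p M P e)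
    (h1 : SubpairLE p M Q f P e) (h2 : SubpairLE p M R g P e) (hQR : Q ≤ R) (hRN : R ≤ 𝐍[Q]) :
    IsNormalSubpair p M Q f R g := by
  have hRg := isBrauerPair_of_subpairLE h2 he
  obtain ⟨f', hf', -⟩ := existsUnique_normalSubpair hM hRg hQR hRN
  have h3 : SubpairLE p M Q f' P e :=
    Relation.ReflTransGen.head (show NormalSubpairRel p M ⟨Q, f'⟩ ⟨R, g⟩ from hf') h2
  have h4 := eq_of_two_subpairLE hM he h1 h3
  rwa [h4] at hf'

/-- The stabilizer of a block as a subgroup. -/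
def stabSub (K : Subgroup G) (F : Set (IrrCharacter K)) (hF : IsPBlock M F) [M.IsPrime] : Subgroup G where
  carrier := {x | StabilizesBlock K F x}
  one_mem' := stabilizes_of_mem_centralizer K.one_mem F
  mul_mem' := by
    intro a b ha hb
    have h1 := twistSet_eq_of_stabilizes hF ha
    have h2 := twistSet_eq_of_stabilizes hF hb
    apply stabilizes_of_twistSet_eq (Subgroup.mul_mem _ ha.1 hb.1)
    rw [conjAut_mul K a b ha.1 hb.1, twistSet_mul, h2, h1]
  inv_mem' := by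
    intro a ha
    have h1 := twistSet_eq_of_stabilizes hF ha
    have hinv : a⁻¹ ∈ Subgroup.normalizer (K : Set G) := Subgroup.inv_mem _ ha.1
    apply stabilizes_of_twistSet_eq hinv
    have e1 : twistSet (conjAut K a⁻¹ hinv) F =
        twistSet (conjAut K a⁻¹ hinv) (twistSet (conjAut K a ha.1) F) := by rw [h1]
    have e2 : conjAut K a⁻¹ hinv * conjAut K a ha.1 = 1 := by
      ext c
      simp only [MulAut.mul_apply, coe_conjAut, MulAut.one_apply]
      group
    rw [e1, ← twistSet_mul, e2, twistSet_one]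

theorem mem_stabSub {K : Subgroup G} {F : Set (IrrCharacter K)} {hF : IsPBlock M F} [M.IsPrime] {x : G} :
    x ∈ stabSub K F hF ↔ StabilizesBlock K F x := Iff.rfl

/-- Centralizers of joins. -/
theorem mem_centralizer_sup {A B : Subgroup G} {x : G} :
    x ∈ 𝐂[A ⊔ B] ↔ x ∈ 𝐂[A] ∧ x ∈ 𝐂[B] := by
  simp only [mem_centralizer_comm, sup_le_iff]

theorem normalizer_sup_of {A B : Subgroup G} {s : G} (h1 : s ∈ 𝐍[A]) (h2 : s ∈ 𝐍[B]) :
    s ∈ 𝐍[A ⊔ B] := by
  apply mem_normalizer_of_map_eq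
  rw [Subgroup.map_sup, map_conj_of_normalizer h1, map_conj_of_normalizer h2]

theorem mem_normalizer_of_mem_centralizer {Q : Subgroup G} {s : G} (h : s ∈ 𝐂[Q]) : s ∈ 𝐍[Q] :=
  Subgroup.centralizer_le_normalizer _ h

/-- Elements of a `P` normalizing `Q` stabilize the block below `(P, e)`. -/
theorem stabilizes_of_mem_inf (hM : IsPModular p M) {Q P : Subgroup G} {f : Set (IrrCharacter 𝐂[Q])}
    {e : Set (IrrCharacter 𝐂[P])} (he : IsBrauerPair p M P e) (h : SubpairLE p M Q f P e) {u : G}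
    (huP : u ∈ P) (huN : u ∈ 𝐍[Q]) : StabilizesBlock 𝐂[Q] f u := by
  haveI := isPrime_of_isPModular hM
  have hstP : StabilizesBlock 𝐂[P] e u := stabilizes_of_centralizes (fun k hk => by
    rw [(Subgroup.mem_centralizer_iff.1 hk) u huP]
    group) e
  have h1 := relationCp hM u h
  have h2 : cp u ⟨P, e⟩ = ⟨P, e⟩ := by
    rw [cp_of_normalizer (le_normalizer_self P huP)
      (normalizer_le_normalizer_centralizer P (le_normalizer_self P huP)),
      twistSet_eq_of_stabilizes he.2 hstP]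
  rw [h2, cp_of_normalizer huN (normalizer_le_normalizer_centralizer Q huN)] at h1
  have h3 := eq_of_two_subpairLE hM he h h1
  exact stabilizes_of_twistSet_eq _ h3

/-- The pair `(Rh, ĝ)` in a subgroup `T`. -/
theorem exists_pair_hat (hM : IsPModular p M) {T : Subgroup G} {Q R' : Subgroup G}
    {f : Set (IrrCharacter 𝐂[Q])} {g : Set (IrrCharacter 𝐂[R'])} {F : Set (IrrCharacter T)}
    (hF : IsPBlock M F) (hFc : ∀ t : T, blockCoeff F t = subgroupBlockCoeff 𝐂[Q] f (t : G))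
    {Rh : Subgroup T} (hRh : IsPGroup p Rh) (m : CenMatch Rh R') (hn : IsNormalSubpair p M Q f R' g) :
    IsBrauerPairOf p M F Rh (twistSetE m.iso.symm g) := by
  refine ⟨⟨hRh, isPBlock_twistSetE _ hn.2.1.2⟩, hF, ?_⟩
  rintro _ ⟨ξ, hξ, rfl⟩
  rw [brauerOmega_eq, m.brO_eq hFc, twistE_symm_twistE, ← brauerOmega_eq]
  exact hn.2.2.2.2.2 ξ hξ

/-- Lifting normal steps from `T` to `G`. -/
theorem normalSubpair_lift {T : Subgroup G} {Rh Sh : Subgroup T} {R' S' : Subgroup G}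
    (mR : CenMatch Rh R') (mS : CenMatch Sh S')
    {gh : Set (IrrCharacter (Subgroup.centralizer (Rh : Set T)))}
    {hh : Set (IrrCharacter (Subgroup.centralizer (Sh : Set T)))}
    (h : IsNormalSubpair p M Rh gh Sh hh) (hRp : IsPGroup p R') (hSp : IsPGroup p S') (hle : R' ≤ S')
    (hN : S' ≤ 𝐍[R']) (hst : ∀ x ∈ S', StabilizesBlock 𝐂[R'] (twistSetE mR.iso gh) x) :
    IsNormalSubpair p M R' (twistSetE mR.iso gh) S' (twistSetE mS.iso hh) := by
  refine ⟨⟨hRp, isPBlock_twistSetE _ h.1.2⟩, ⟨hSp, isPBlock_twistSetE _ h.2.1.2⟩, hle, hN, hst, ?_⟩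
  rintro _ ⟨ξ, hξ, rfl⟩
  have h1 := h.2.2.2.2.2 ξ hξ
  rw [brauerOmega_eq, mS.brO_eq (mR.sbc_eq gh)] at h1
  rw [brauerOmega_eq]
  exact h1

/-- A pair gives a defect group containing its subgroup. -/
theorem exists_defect_ge {H : Type u} [Group H] [Fintype H] (hM : IsPModular p M) {B : Set (IrrCharacter H)}
    {R : Subgroup H} {e : Set (IrrCharacter (Subgroup.centralizer (R : Set H)))}
    (he : IsBrauerPairOf p M B R e) : ∃ D : Subgroup H, IsDefectGroup p M B D ∧ R ≤ D := by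
  obtain ⟨z, hzR, hz⟩ := exists_unit_of_pair hM he
  obtain ⟨D, hD⟩ := exists_isDefectGroup hM he.2.1
  obtain ⟨t, ht⟩ := IsDefectGroup.sylow_conj hM he.2.1 hD hz R he.1.1 (mem_centralizer_comm.1 hzR)
  refine ⟨_, IsDefectGroup.conj hD t⁻¹, ?_⟩
  intro r hr
  have h1 := ht ⟨r, hr, rfl⟩
  refine ⟨_, h1, ?_⟩
  simp [MulAut.conj_apply, mul_assoc]

/-- Choosing a conjugate maximizing an integer quantity. -/
theorem exists_max_conj (hM : IsPModular p M) (m : Subgroup G → ℕ) {Q P : Subgroup G}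
    {f : Set (IrrCharacter 𝐂[Q])} {e : Set (IrrCharacter 𝐂[P])} (hle : SubpairLE p M Q f P e) :
    ∃ x : G, SubpairLE p M (Q ^^ x) (conjBlock Q x f) P e ∧
      ∀ y : G, SubpairLE p M ((Q ^^ x) ^^ y) (conjBlock (Q ^^ x) y (conjBlock Q x f)) P e →
        m ((Q ^^ x) ^^ y) ≤ m (Q ^^ x) := by
  classical
  let X : Set G := {x | Relation.ReflTransGen (NormalSubpairRel (G := G) p M) (cp x ⟨Q, f⟩) ⟨P, e⟩}
  have h1 : (1 : G) ∈ X := by
    change Relation.ReflTransGen _ (cp 1 ⟨Q, f⟩) _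
    rw [cp_one]
    exact hle
  obtain ⟨x, hx, hmax⟩ := Set.exists_max_image X (fun x => m (cp x ⟨Q, f⟩).1) (Set.toFinite _) ⟨1, h1⟩
  refine ⟨x, hx, fun y hy => ?_⟩
  have h2 : y * x ∈ X := by
    change Relation.ReflTransGen _ (cp (y * x) ⟨Q, f⟩) _
    rw [cp_mul]
    exact hy
  have h3 := hmax _ h2
  rw [cp_mul] at h3
  exact h3

/-- Normalizers in a subgroup. -/
theorem mem_normalizer_map {T : Subgroup G} {Rh : Subgroup T} {u : T}
    (hu : u ∈ Subgroup.normalizer (Rh : Set T)) :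
    (u : G) ∈ 𝐍[Rh.map T.subtype] := by
  rw [Subgroup.mem_normalizer_iff]
  intro z
  have key := Subgroup.mem_normalizer_iff.1 hu
  constructor
  · rintro ⟨r, hr, rfl⟩
    exact ⟨_, (key r).1 hr, by simp⟩
  · rintro ⟨r, hr, hzr⟩
    have hzT : z ∈ T := by
      have h1 := T.mul_mem (T.mul_mem (T.inv_mem u.2) r.2) u.2
      have h2 : (u : G)⁻¹ * (r : G) * (u : G) = z := by
        have h3 : (r : G) = (u : G) * z * (u : G)⁻¹ := hzr
        rw [h3]
        group
      rwa [h2] at h1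
    have h4 : u * (⟨z, hzT⟩ : T) * u⁻¹ ∈ Rh := by
      have h5 : u * (⟨z, hzT⟩ : T) * u⁻¹ = r := Subtype.ext hzr.symm
      rwa [h5]
    exact ⟨⟨z, hzT⟩, (key _).2 h4, rfl⟩

theorem map_le_map_of_le {T : Subgroup G} {Rh Sh : Subgroup T} (h : Rh ≤ Sh) :
    Rh.map T.subtype ≤ Sh.map T.subtype := Subgroup.map_mono h

/-- The matching for `T = C_G(Q)`. -/
theorem cenMatch_cen (Q : Subgroup G) (Sh : Subgroup 𝐂[Q]) :
    CenMatch Sh (Q ⊔ Sh.map 𝐂[Q].subtype) := by
  refine ⟨centralizer_le_centralizer le_sup_left, fun t => ?_⟩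
  rw [mem_centralizer_sup]
  constructor
  · intro h
    refine ⟨t.2, ?_⟩
    rw [Subgroup.mem_centralizer_iff]
    rintro _ ⟨s, hs, rfl⟩
    exact congrArg Subtype.val ((Subgroup.mem_centralizer_iff.1 h) s hs)
  · rintro ⟨-, h⟩
    rw [Subgroup.mem_centralizer_iff]
    intro s hs
    exact Subtype.ext ((Subgroup.mem_centralizer_iff.1 h) s ⟨s, hs, rfl⟩)

/-- **`C_P(Q)` is contained in a defect group of `f`.** -/
theorem exists_defect_cen (hM : IsPModular p M) {B : Set (IrrCharacter G)} {P Q : Subgroup G}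
    {e : Set (IrrCharacter 𝐂[P])} {f : Set (IrrCharacter 𝐂[Q])} (he : IsBrauerPair p M P e)
    (hf : IsPBlock M f) (hle : SubpairLE p M Q f P e) :
    ∃ D : Subgroup 𝐂[Q], IsDefectGroup p M f D ∧ (P ⊓ 𝐂[Q]).subgroupOf 𝐂[Q] ≤ D := by
  haveI := isPrime_of_isPModular hM
  have hQP := le_of_subpairLE hle
  set Rh := (P ⊓ 𝐂[Q]).subgroupOf 𝐂[Q] with hRh
  have hRmap : Rh.map 𝐂[Q].subtype = P ⊓ 𝐂[Q] := Subgroup.map_subgroupOf_eq_of_le inf_le_right
  have hR'P : Q ⊔ Rh.map 𝐂[Q].subtype ≤ P := sup_le hQP (hRmap ▸ inf_le_left)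
  obtain ⟨g, hg, hRg⟩ := exists_subpairLE hM he hR'P
  have hn := normalSubpair_of_le hM he hle hRg le_sup_left
    (sup_le (le_normalizer_self Q) (fun s hs => by
      rw [hRmap] at hs
      exact mem_normalizer_of_mem_centralizer hs.2))
  have hRhp : IsPGroup p Rh := IsPGroup.comap_of_injective (he.1.to_le inf_le_left) _ Subtype.val_injective
  exact exists_defect_ge hM (exists_pair_hat hM hf
    (fun t => (subgroupBlockCoeff_eq_ext0 _ f ▸ (ext0_coe _ _ t).symm)) hRhp (cenMatch_cen Q Rh) hn)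

/-- **`C_P(Q)` is a defect group of `f` if `|C_P(Q)|` is maximal.** -/
theorem isDefectGroup_cen_of_max (hM : IsPModular p M) {B : Set (IrrCharacter G)} {P Q : Subgroup G}
    {e : Set (IrrCharacter 𝐂[P])} {f : Set (IrrCharacter 𝐂[Q])} (hmax : IsMaximalBrauerPair p M B P e)
    (hf : IsPBlock M f) (hle : SubpairLE p M Q f P e)
    (hfc : ∀ y : G, SubpairLE p M (Q ^^ y) (conjBlock Q y f) P e →
      Nat.card (P ⊓ 𝐂[Q ^^ y] : Subgroup G) ≤ Nat.card (P ⊓ 𝐂[Q] : Subgroup G)) :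
    IsDefectGroup p M f ((P ⊓ 𝐂[Q]).subgroupOf 𝐂[Q]) := by
  haveI := isPrime_of_isPModular hM
  have he := hmax.1.1
  have hQP := le_of_subpairLE hle
  set Rh := (P ⊓ 𝐂[Q]).subgroupOf 𝐂[Q] with hRh
  have hRmap : Rh.map 𝐂[Q].subtype = P ⊓ 𝐂[Q] := Subgroup.map_subgroupOf_eq_of_le inf_le_right
  have hR'P : Q ⊔ Rh.map 𝐂[Q].subtype ≤ P := sup_le hQP (hRmap ▸ inf_le_left)
  obtain ⟨g, hg, hRg⟩ := exists_subpairLE hM he hR'P
  have hn := normalSubpair_of_le hM he hle hRg le_sup_left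
    (sup_le (le_normalizer_self Q) (fun s hs => by
      rw [hRmap] at hs
      exact mem_normalizer_of_mem_centralizer hs.2))
  have hRhp : IsPGroup p Rh := IsPGroup.comap_of_injective (he.1.to_le inf_le_left) _ Subtype.val_injective
  have m := cenMatch_cen Q Rh
  have hpair := exists_pair_hat hM hf
    (fun t => (subgroupBlockCoeff_eq_ext0 _ f ▸ (ext0_coe _ _ t).symm)) hRhp m hn
  refine isDefectGroup_of_nmax hM hpair ?_
  rintro ⟨Sh, hh⟩ hb
  have hb' : IsNormalSubpair p M Rh (twistSetE m.iso.symm g) Sh hh := hb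
  change Sh = Rh
  set S := Sh.map 𝐂[Q].subtype with hS
  have mS := cenMatch_cen Q Sh
  have hRS : Rh ≤ Sh := hb'.2.2.1
  have hSC : S ≤ 𝐂[Q] := Subgroup.map_subtype_le _
  have hSp : IsPGroup p S := hb'.2.1.1.map _
  have hQp : IsPGroup p Q := he.1.to_le hQP
  have hS'p : IsPGroup p (Q ⊔ S : Subgroup G) := IsPGroup.to_sup_of_normal_right' hSp hQp
    (hSC.trans (Subgroup.centralizer_le_normalizer _)) |> fun h => by
      rwa [sup_comm] at h
  have hgbl : twistSetE m.iso (twistSetE m.iso.symm g) = g := m.twistSetE_symm g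
  have hSN : S ≤ 𝐍[Q ⊔ Rh.map 𝐂[Q].subtype] := by
    rintro _ ⟨s, hs, rfl⟩
    exact normalizer_sup_of (mem_normalizer_of_mem_centralizer s.2)
      (mem_normalizer_map (hb'.2.2.2.1 hs))
  have hS'N : (Q ⊔ S : Subgroup G) ≤ 𝐍[Q ⊔ Rh.map 𝐂[Q].subtype] :=
    sup_le ((le_sup_left (a := Q) (b := Rh.map 𝐂[Q].subtype)).trans (le_normalizer_self _)) hSN
  have hst : ∀ x ∈ (Q ⊔ S : Subgroup G), StabilizesBlock 𝐂[Q ⊔ Rh.map 𝐂[Q].subtype] g x := by
    have hgb : IsPBlock M g := hg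
    have : (Q ⊔ S : Subgroup G) ≤ stabSub 𝐂[Q ⊔ Rh.map 𝐂[Q].subtype] g hgb := by
      refine sup_le (fun q hq => ?_) ?_
      · apply stabilizes_of_centralizes
        intro k hk
        have h1 := (mem_centralizer_sup.1 hk).1
        rw [(Subgroup.mem_centralizer_iff.1 h1) q hq]
        group
      · rintro _ ⟨s, hs, rfl⟩
        have h1 := m.stabilizes_of_hat (hb'.2.2.2.2.1 s hs)
        rw [hgbl] at h1
        exact h1
    exact fun x hx => this hx
  have hstep := normalSubpair_lift m mS hb' (he.1.to_le hR'P) hS'p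
    (sup_le_sup_left (map_le_map_of_le hRS) Q) hS'N (by rw [hgbl]; exact hst)
  rw [hgbl] at hstep
  -- now extend to a maximal pair and conjugate
  have hQf : IsBrauerPairOf p M B Q f := (isBrauerPairOf_iff_of_le hM hmax.1.2.1 hle).2 hmax.1
  have hchain : SubpairLE p M Q f (Q ⊔ S) (twistSetE mS.iso hh) :=
    Relation.ReflTransGen.trans (subpairLE_of_normal hn) (subpairLE_of_normal hstep)
  have hS'B := (isBrauerPairOf_iff_of_le hM hmax.1.2.1 hchain).1 hQf
  obtain ⟨P₂, e₂, hP₂, hle₂⟩ := exists_maximal_above hM hS'B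
  obtain ⟨y, hy⟩ := exists_cp_eq_of_maximal hM hmax hP₂
  have h1 := relationCp hM y (hchain.trans hle₂)
  rw [hy] at h1
  have h2 : (P₂ ^^ y) = P := congrArg Sigma.fst hy
  have h3 : (S ^^ y) ≤ P ⊓ 𝐂[Q ^^ y] := by
    refine le_inf ?_ ?_
    · rw [← h2]
      exact Subgroup.map_mono (le_sup_right.trans (le_of_subpairLE hle₂))
    · rintro _ ⟨s, hs, rfl⟩
      exact conj_mem_centralizer Q y (hSC hs)
  have h4 : Nat.card S ≤ Nat.card (P ⊓ 𝐂[Q] : Subgroup G) := by
    calc Nat.card S = Nat.card (S ^^ y) :=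
          (Subgroup.card_map_of_injective (MulAut.conj y).injective).symm
      _ ≤ Nat.card (P ⊓ 𝐂[Q ^^ y] : Subgroup G) := Subgroup.card_le_of_le h3
      _ ≤ _ := hfc y h1
  have h5 : P ⊓ 𝐂[Q] ≤ S := by
    rw [← hRmap]
    exact map_le_map_of_le hRS
  have h6 : S = P ⊓ 𝐂[Q] := (Subgroup.eq_of_le_of_card_ge h5 h4).symm
  apply Subgroup.map_injective (f := 𝐂[Q].subtype) Subtype.val_injective
  rw [hRmap, ← h6]

section Nor

variable {T : Subgroup G}

/-- The matching for `T ≥ C_G(Q)`. -/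
theorem cenMatch_nor {Q : Subgroup G} (hCT : 𝐂[Q] ≤ T) (Sh : Subgroup T) (hQ : Q ≤ Sh.map T.subtype) :
    CenMatch Sh (Sh.map T.subtype) := by
  refine ⟨(centralizer_le_centralizer hQ).trans hCT, fun t => ?_⟩
  constructor
  · intro h
    rw [Subgroup.mem_centralizer_iff]
    rintro _ ⟨s, hs, rfl⟩
    exact congrArg Subtype.val ((Subgroup.mem_centralizer_iff.1 h) s hs)
  · intro h
    rw [Subgroup.mem_centralizer_iff]
    intro s hs
    exact Subtype.ext ((Subgroup.mem_centralizer_iff.1 h) s ⟨s, hs, rfl⟩)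

/-- The facts about the stabilizer of `f`. -/
theorem stab_facts {Q : Subgroup G} {f : Set (IrrCharacter 𝐂[Q])}
    (hT : ∀ y : G, y ∈ T ↔ y ∈ 𝐍[Q] ∧ StabilizesBlock 𝐂[Q] f y) :
    Q ≤ T ∧ 𝐂[Q] ≤ T ∧ T ≤ 𝐍[Q] := by
  refine ⟨fun q hq => (hT q).2 ⟨le_normalizer_self Q hq, stabilizes_of_centralizes (fun k hk => by
    rw [(Subgroup.mem_centralizer_iff.1 hk) q hq]
    group) f⟩, fun c hc => (hT c).2 ⟨mem_normalizer_of_mem_centralizer hc,
      stabilizes_of_mem_centralizer hc f⟩, fun y hy => ((hT y).1 hy).1⟩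

/-- The block of the stabilizer. -/
theorem exists_block_stab (hM : IsPModular p M) {Q : Subgroup G} {f : Set (IrrCharacter 𝐂[Q])}
    (hQ : IsPGroup p Q) (hf : IsPBlock M f)
    (hT : ∀ y : G, y ∈ T ↔ y ∈ 𝐍[Q] ∧ StabilizesBlock 𝐂[Q] f y) :
    ∃ E : Set (IrrCharacter T), IsPBlock M E ∧
      ∀ t : T, blockCoeff E t = subgroupBlockCoeff 𝐂[Q] f (t : G) := by
  obtain ⟨h1, h2, h3⟩ := stab_facts hT
  exact exists_block_of_stabilizer hM hQ h1 h2 h3 hf fun x hx => ((hT x).1 hx).2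

/-- **`N_P(Q)` is contained in a defect group.** -/
theorem exists_defect_nor (hM : IsPModular p M) {P Q : Subgroup G}
    {e : Set (IrrCharacter 𝐂[P])} {f : Set (IrrCharacter 𝐂[Q])} (he : IsBrauerPair p M P e)
    (hf : IsPBlock M f) (hle : SubpairLE p M Q f P e)
    (hT : ∀ y : G, y ∈ T ↔ y ∈ 𝐍[Q] ∧ StabilizesBlock 𝐂[Q] f y)
    {F : Set (IrrCharacter T)} (hF : IsPBlock M F)
    (hFc : ∀ t : T, blockCoeff F t = subgroupBlockCoeff 𝐂[Q] f (t : G)) :
    ∃ D : Subgroup T, IsDefectGroup p M F D ∧ (P ⊓ 𝐍[Q]).subgroupOf T ≤ D := by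
  haveI := isPrime_of_isPModular hM
  have hQP := le_of_subpairLE hle
  obtain ⟨hQT, hCT, hTN⟩ := stab_facts hT
  have hRT : P ⊓ 𝐍[Q] ≤ T := fun u hu =>
    (hT u).2 ⟨hu.2, stabilizes_of_mem_inf hM he hle hu.1 hu.2⟩
  set Rh := (P ⊓ 𝐍[Q]).subgroupOf T with hRh
  have hRmap : Rh.map T.subtype = P ⊓ 𝐍[Q] := Subgroup.map_subgroupOf_eq_of_le hRT
  have hQR : Q ≤ Rh.map T.subtype := by
    rw [hRmap]
    exact le_inf hQP (le_normalizer_self Q)
  have hR'P : Rh.map T.subtype ≤ P := hRmap ▸ inf_le_left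
  obtain ⟨g, hg, hRg⟩ := exists_subpairLE hM he hR'P
  have hn := normalSubpair_of_le hM he hle hRg hQR (hRmap ▸ inf_le_right)
  have hRhp : IsPGroup p Rh := IsPGroup.comap_of_injective (he.1.to_le inf_le_left) _ Subtype.val_injective
  exact exists_defect_ge hM (exists_pair_hat hM hF hFc hRhp (cenMatch_nor hCT Rh hQR) hn)

/-- **`N_P(Q)` is a defect group if `|N_P(Q)|` is maximal.** -/
theorem isDefectGroup_nor_of_max (hM : IsPModular p M) {B : Set (IrrCharacter G)} {P Q : Subgroup G}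
    {e : Set (IrrCharacter 𝐂[P])} {f : Set (IrrCharacter 𝐂[Q])} (hmax : IsMaximalBrauerPair p M B P e)
    (hf : IsPBlock M f) (hle : SubpairLE p M Q f P e)
    (hT : ∀ y : G, y ∈ T ↔ y ∈ 𝐍[Q] ∧ StabilizesBlock 𝐂[Q] f y)
    {F : Set (IrrCharacter T)} (hF : IsPBlock M F)
    (hFc : ∀ t : T, blockCoeff F t = subgroupBlockCoeff 𝐂[Q] f (t : G))
    (hfn : ∀ y : G, SubpairLE p M (Q ^^ y) (conjBlock Q y f) P e →
      Nat.card (P ⊓ 𝐍[Q ^^ y] : Subgroup G) ≤ Nat.card (P ⊓ 𝐍[Q] : Subgroup G)) :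
    IsDefectGroup p M F ((P ⊓ 𝐍[Q]).subgroupOf T) := by
  haveI := isPrime_of_isPModular hM
  have he := hmax.1.1
  have hQP := le_of_subpairLE hle
  obtain ⟨hQT, hCT, hTN⟩ := stab_facts hT
  have hRT : P ⊓ 𝐍[Q] ≤ T := fun u hu =>
    (hT u).2 ⟨hu.2, stabilizes_of_mem_inf hM he hle hu.1 hu.2⟩
  set Rh := (P ⊓ 𝐍[Q]).subgroupOf T with hRh
  have hRmap : Rh.map T.subtype = P ⊓ 𝐍[Q] := Subgroup.map_subgroupOf_eq_of_le hRT
  have hQR : Q ≤ Rh.map T.subtype := by
    rw [hRmap]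
    exact le_inf hQP (le_normalizer_self Q)
  have hR'P : Rh.map T.subtype ≤ P := hRmap ▸ inf_le_left
  obtain ⟨g, hg, hRg⟩ := exists_subpairLE hM he hR'P
  have hn := normalSubpair_of_le hM he hle hRg hQR (hRmap ▸ inf_le_right)
  have hRhp : IsPGroup p Rh := IsPGroup.comap_of_injective (he.1.to_le inf_le_left) _ Subtype.val_injective
  have m := cenMatch_nor hCT Rh hQR
  have hpair := exists_pair_hat hM hF hFc hRhp m hn
  refine isDefectGroup_of_nmax hM hpair ?_
  rintro ⟨Sh, hh⟩ hb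
  have hb' : IsNormalSubpair p M Rh (twistSetE m.iso.symm g) Sh hh := hb
  change Sh = Rh
  set S := Sh.map T.subtype with hS
  have hRS : Rh ≤ Sh := hb'.2.2.1
  have hRS' : Rh.map T.subtype ≤ S := map_le_map_of_le hRS
  have mS := cenMatch_nor hCT Sh (hQR.trans hRS')
  have hSp : IsPGroup p S := hb'.2.1.1.map _
  have hgbl : twistSetE m.iso (twistSetE m.iso.symm g) = g := m.twistSetE_symm g
  have hSN : S ≤ 𝐍[Rh.map T.subtype] := by
    rintro _ ⟨s, hs, rfl⟩
    exact mem_normalizer_map (hb'.2.2.2.1 hs)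
  have hst : ∀ x ∈ S, StabilizesBlock 𝐂[Rh.map T.subtype] g x := by
    rintro _ ⟨s, hs, rfl⟩
    have h1 := m.stabilizes_of_hat (hb'.2.2.2.2.1 s hs)
    rw [hgbl] at h1
    exact h1
  have hstep := normalSubpair_lift m mS hb' (he.1.to_le hR'P) hSp hRS' hSN (by rw [hgbl]; exact hst)
  rw [hgbl] at hstep
  have hQf : IsBrauerPairOf p M B Q f := (isBrauerPairOf_iff_of_le hM hmax.1.2.1 hle).2 hmax.1
  have hchain : SubpairLE p M Q f S (twistSetE mS.iso hh) :=
    Relation.ReflTransGen.trans (subpairLE_of_normal hn) (subpairLE_of_normal hstep)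
  have hS'B := (isBrauerPairOf_iff_of_le hM hmax.1.2.1 hchain).1 hQf
  obtain ⟨P₂, e₂, hP₂, hle₂⟩ := exists_maximal_above hM hS'B
  obtain ⟨y, hy⟩ := exists_cp_eq_of_maximal hM hmax hP₂
  have h1 := relationCp hM y (hchain.trans hle₂)
  rw [hy] at h1
  have h2 : (P₂ ^^ y) = P := congrArg Sigma.fst hy
  have h3 : (S ^^ y) ≤ P ⊓ 𝐍[Q ^^ y] := by
    refine le_inf ?_ ?_
    · rw [← h2]
      exact Subgroup.map_mono (le_of_subpairLE hle₂)
    · refine (normalizer_conj (R := Q) (S := S) ?_ y)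
      rintro _ ⟨s, hs, rfl⟩
      exact hTN s.2
  have h4 : Nat.card S ≤ Nat.card (P ⊓ 𝐍[Q] : Subgroup G) := by
    calc Nat.card S = Nat.card (S ^^ y) :=
          (Subgroup.card_map_of_injective (MulAut.conj y).injective).symm
      _ ≤ Nat.card (P ⊓ 𝐍[Q ^^ y] : Subgroup G) := Subgroup.card_le_of_le h3
      _ ≤ _ := hfn y h1
  have h5 : P ⊓ 𝐍[Q] ≤ S := by
    rw [← hRmap]
    exact hRS'
  have h6 : S = P ⊓ 𝐍[Q] := (Subgroup.eq_of_le_of_card_ge h5 h4).symm
  apply Subgroup.map_injective (f := T.subtype) Subtype.val_injective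
  rw [hRmap, ← h6]

end Nor

end Cfsg.Agent.Lib.BrauerCen
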