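import Mathlib
import Cfsg.Prelude.Def_BlockFusion
import Cfsg.Agent.Lib.BrauerCen

/-!
# Fully centralized, fully normalized and centric pairs in the fusion system of a block
-/

set_option autoImplicit false
set_option linter.unusedSectionVars false
set_option linter.unusedVariables false
set_option linter.style.haveILetI false

namespace Cfsg.Agent.Lib.BrauerFull

open Cfsg Cfsg.Agent.Lib.CharBasic Cfsg.Agent.Lib.CharInd Cfsg.Agent.Lib.CharIntegrality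
open Cfsg.Agent.Lib.BlockLocal Cfsg.Agent.Lib.BlockIdem Cfsg.Agent.Lib.BlockNormal
open Cfsg.Agent.Lib.BrauerMap Cfsg.Agent.Lib.BrauerPair Cfsg.Agent.Lib.BrauerSub
open Cfsg.Agent.Lib.BrauerConj Cfsg.Agent.Lib.BrauerThird Cfsg.Agent.Lib.BrauerMax
open Cfsg.Agent.Lib.BrauerStab Cfsg.Agent.Lib.BlockDefect Cfsg.Agent.Lib.BrauerCen
open scoped ComplexConjugate

universe u

theorem blockDefect_twistSetE {p : ℕ} {H H' : Type u} [Group H] [Group H'] (σ : H ≃* H')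
    (f : Set (IrrCharacter H)) : blockDefect p (twistSetE σ f) = blockDefect p f := by
  unfold blockDefect
  rw [Nat.card_congr σ.toEquiv]
  congr 2
  ext n
  constructor
  · rintro ⟨_, ⟨χ, hχ, rfl⟩, rfl⟩
    exact ⟨χ, hχ, by simp [charDegree]⟩
  · rintro ⟨χ, hχ, rfl⟩
    exact ⟨twistE σ χ, ⟨χ, hχ, rfl⟩, by simp [charDegree]⟩

theorem card_subgroupOf_of_le {H : Type u} [Group H] {A K : Subgroup H} (h : A ≤ K) :
    Nat.card (A.subgroupOf K) = Nat.card A :=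
  Nat.card_congr (Subgroup.subgroupOfEquivOfLe h).toEquiv

variable {G : Type u} [Group G] [Fintype G] {p : ℕ} [hp : Fact p.Prime] {M : Ideal AlgInt}

local notation "𝐂[" R "]" => Subgroup.centralizer ((R : Subgroup G) : Set G)
local notation "𝐍[" R "]" => Subgroup.normalizer ((R : Subgroup G) : Set G)
local notation Q "^^" x => Subgroup.map (MulEquiv.toMonoidHom (MulAut.conj (x : G))) (Q : Subgroup G)

noncomputable local instance fintypeSubF (K : Subgroup G) : Fintype K := Fintype.ofFinite K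

theorem range_conjHom (Q : Subgroup G) (g : G) : (conjHom Q g).range = (Q ^^ g) := by
  ext z
  constructor
  · rintro ⟨q, rfl⟩
    exact ⟨q, q.2, rfl⟩
  · rintro ⟨q, hq, rfl⟩
    exact ⟨⟨q, hq⟩, rfl⟩

theorem isConj_iff (hM : IsPModular p M) {B : Set (IrrCharacter G)} {P Q Q' : Subgroup G}
    {e : Set (IrrCharacter 𝐂[P])} {F : FusionSystem P} (hF : IsBlockFusionSystemOn p M B P e F)
    {f : Set (IrrCharacter 𝐂[Q])} (hle : SubpairLE p M Q f P e) :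
    F.IsConj Q Q' ↔ ∃ g : G, Q' = (Q ^^ g) ∧ SubpairLE p M (Q ^^ g) (conjBlock Q g f) P e := by
  constructor
  · rintro ⟨φ, hφ, rfl⟩
    obtain ⟨-, g, hg, -, f₁, h1, h2⟩ := (hF.2 Q φ).1 hφ
    have : f₁ = f := eq_of_two_subpairLE hM hF.1.1.1 hle h1
    subst this
    refine ⟨g, ?_, h2⟩
    have : φ = conjHom Q g := by
      ext u
      exact hg u
    rw [this, range_conjHom]
  · rintro ⟨g, rfl, hg⟩
    refine ⟨conjHom Q g, (hF.2 Q _).2 ⟨le_of_subpairLE hle, g, fun u => rfl, le_of_subpairLE hg, f, hle, hg⟩,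
      range_conjHom Q g⟩

/-- Fully centralized pairs: `S4678`. -/
theorem isFullyCentralized_iff (hM : IsPModular p M) {B : Set (IrrCharacter G)} {P Q : Subgroup G}
    {e : Set (IrrCharacter 𝐂[P])} (hmax : IsMaximalBrauerPair p M B P e) {F : FusionSystem P}
    (hF : IsBlockFusionSystemOn p M B P e F) {f : Set (IrrCharacter 𝐂[Q])} (hQP : Q ≤ P)
    (hf : IsPBlock M f) (hle : SubpairLE p M Q f P e) :
    F.IsFullyCentralized Q ↔ IsDefectGroup p M f ((P ⊓ 𝐂[Q]).subgroupOf 𝐂[Q]) := by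
  constructor
  · intro h
    exact isDefectGroup_cen_of_max hM hmax hf hle
      fun y hy => h.2 _ ((isConj_iff hM hF hle).2 ⟨y, rfl, hy⟩)
  · intro hD
    refine ⟨hQP, fun Q' hQ' => ?_⟩
    obtain ⟨g, rfl, hg⟩ := (isConj_iff hM hF hle).1 hQ'
    obtain ⟨D', hD', hle'⟩ := exists_defect_cen (B := B) hM hmax.1.1 (isPBlock_conjBlock Q g hf) hg
    have h1 := card_isDefectGroup hM (isPBlock_conjBlock Q g hf) hD'
    have h2 := card_isDefectGroup hM hf hD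
    rw [conjBlock_eq_twistSetE, blockDefect_twistSetE, ← h2] at h1
    rw [card_subgroupOf_of_le (inf_le_right : P ⊓ 𝐂[Q] ≤ 𝐂[Q])] at h1
    calc Nat.card (FusionSystem.centralizerIn P (Q ^^ g))
        = Nat.card ((P ⊓ 𝐂[Q ^^ g]).subgroupOf 𝐂[Q ^^ g]) :=
          (card_subgroupOf_of_le inf_le_right).symm
      _ ≤ Nat.card D' := Subgroup.card_le_of_le hle'
      _ = _ := h1

/-- Centric pairs: `S4680`. -/
theorem isCentric_iff (hM : IsPModular p M) {B : Set (IrrCharacter G)} {P Q : Subgroup G}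
    {e : Set (IrrCharacter 𝐂[P])} (hmax : IsMaximalBrauerPair p M B P e) {F : FusionSystem P}
    (hF : IsBlockFusionSystemOn p M B P e F) {f : Set (IrrCharacter 𝐂[Q])} (hQP : Q ≤ P)
    (hf : IsPBlock M f) (hle : SubpairLE p M Q f P e) :
    F.IsCentric Q ↔ IsDefectGroup p M f ((Q ⊓ 𝐂[Q]).subgroupOf 𝐂[Q]) := by
  have hkey : ∀ A : Subgroup G, A ≤ P → FusionSystem.centralizerIn P A ≤ A →
      P ⊓ 𝐂[A] = A ⊓ 𝐂[A] := fun A hA h => by
    apply le_antisymm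
    · exact le_inf h inf_le_right
    · exact inf_le_inf_right _ hA
  have hcardZ : ∀ g : G, Nat.card (((Q ^^ g) ⊓ 𝐂[Q ^^ g] : Subgroup G)) = Nat.card (Q ⊓ 𝐂[Q] : Subgroup G) := by
    intro g
    have : ((Q ^^ g) ⊓ 𝐂[Q ^^ g] : Subgroup G) = ((Q ⊓ 𝐂[Q] : Subgroup G) ^^ g) := by
      ext z
      constructor
      · rintro ⟨h1, h2⟩
        exact (mem_conj_iff _ g z).2 ⟨(mem_conj_iff _ g z).1 h1, conj_inv_mem_centralizer Q g h2⟩
      · intro h
        have := (mem_conj_iff _ g z).1 h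
        refine ⟨(mem_conj_iff _ g z).2 this.1, ?_⟩
        have h3 := conj_mem_centralizer Q g this.2
        have e1 : g * (g⁻¹ * z * g) * g⁻¹ = z := by group
        rwa [e1] at h3
    rw [this]
    exact (Nat.card_congr (Subgroup.equivMapOfInjective _ _
      (MulAut.conj g).injective).toEquiv).symm
  constructor
  · intro h
    have h1 := hkey Q hQP (h.2 Q ((isConj_iff hM hF hle).2 ⟨1, (map_conj_one' Q).symm, by
      have := cp_one (⟨Q, f⟩ : BrauerPairIdx G)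
      change Relation.ReflTransGen _ (cp 1 ⟨Q, f⟩) _
      rw [cp_one]
      exact hle⟩))
    rw [← h1]
    refine isDefectGroup_cen_of_max hM hmax hf hle fun y hy => ?_
    have hc := h.2 _ ((isConj_iff hM hF hle).2 ⟨y, rfl, hy⟩)
    have h2 := hkey _ (le_of_subpairLE hy) hc
    rw [h2, h1, hcardZ]
  · intro hD
    refine ⟨hQP, fun Q' hQ' => ?_⟩
    obtain ⟨g, rfl, hg⟩ := (isConj_iff hM hF hle).1 hQ'
    obtain ⟨D', hD', hle'⟩ := exists_defect_cen (B := B) hM hmax.1.1 (isPBlock_conjBlock Q g hf) hg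
    have h1 := card_isDefectGroup hM (isPBlock_conjBlock Q g hf) hD'
    have h2 := card_isDefectGroup hM hf hD
    rw [conjBlock_eq_twistSetE, blockDefect_twistSetE, ← h2] at h1
    rw [card_subgroupOf_of_le (inf_le_right : Q ⊓ 𝐂[Q] ≤ 𝐂[Q]), ← hcardZ g] at h1
    -- `Z(Q^g) ≤ C_P(Q^g) ≤ D'`
    have hZP : ((Q ^^ g) ⊓ 𝐂[Q ^^ g] : Subgroup G) ≤ P ⊓ 𝐂[Q ^^ g] :=
      inf_le_inf_right _ (le_of_subpairLE hg)
    have hZD : (((Q ^^ g) ⊓ 𝐂[Q ^^ g] : Subgroup G)).subgroupOf 𝐂[Q ^^ g] ≤ D' :=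
      le_trans (fun z hz => hZP hz) hle'
    have hcardA : Nat.card D' ≤ Nat.card ((((Q ^^ g) ⊓ 𝐂[Q ^^ g] : Subgroup G)).subgroupOf 𝐂[Q ^^ g]) := by
      rw [card_subgroupOf_of_le inf_le_right, h1]
    have hEq := Subgroup.eq_of_le_of_card_ge hZD hcardA
    intro z hz
    have hz' : (⟨z, hz.2⟩ : 𝐂[Q ^^ g]) ∈ D' := hle' (show (⟨z, hz.2⟩ : 𝐂[Q ^^ g]) ∈ _ from hz)
    rw [← hEq] at hz'
    exact hz'.1

theorem stabilizes_congr {a b : BrauerPairIdx G} (h : a = b) {u : G}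
    (hu : StabilizesBlock 𝐂[a.1] a.2 u) : StabilizesBlock 𝐂[b.1] b.2 u := by
  subst h
  exact hu

/-- The stabilizer of the conjugate pair. -/
theorem mem_conj_stab {T Q : Subgroup G} {f : Set (IrrCharacter 𝐂[Q])}
    (hT : ∀ y : G, y ∈ T ↔ y ∈ 𝐍[Q] ∧ StabilizesBlock 𝐂[Q] f y) (g : G) (y : G) :
    y ∈ (T ^^ g) ↔ y ∈ 𝐍[Q ^^ g] ∧ StabilizesBlock 𝐂[Q ^^ g] (conjBlock Q g f) y := by
  constructor
  · rintro ⟨t, ht, rfl⟩
    obtain ⟨h1, h2⟩ := (hT t).1 ht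
    refine ⟨normalizer_conj (S := 𝐍[Q]) le_rfl g ⟨t, h1, rfl⟩, ?_⟩
    exact stabilizes_conj h2 h1 g
  · rintro ⟨h1, h2⟩
    have h3 := stabilizes_conj h2 h1 g⁻¹
    have e1 : g⁻¹ * y * g⁻¹⁻¹ = g⁻¹ * y * g := by group
    rw [e1] at h3
    have h4 : StabilizesBlock 𝐂[Q] f (g⁻¹ * y * g) :=
      stabilizes_congr (a := cp g⁻¹ (cp g ⟨Q, f⟩)) (b := ⟨Q, f⟩) (cp_inv_cp g ⟨Q, f⟩) h3
    have h5 : g⁻¹ * y * g ∈ 𝐍[Q] := by
      have h6 : g⁻¹ * y * g⁻¹⁻¹ ∈ _ := normalizer_conj (S := 𝐍[Q ^^ g]) le_rfl g⁻¹ ⟨y, h1, rfl⟩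
      rw [e1] at h6
      rwa [← map_conj_mul', inv_mul_cancel, map_conj_one'] at h6
    refine (mem_conj_iff T g y).2 ((hT _).2 ⟨h5, h4⟩)

/-- Fully normalized pairs: `S4679`. -/
theorem isFullyNormalized_iff (hM : IsPModular p M) {B : Set (IrrCharacter G)} {P Q T : Subgroup G}
    {e : Set (IrrCharacter 𝐂[P])} (hmax : IsMaximalBrauerPair p M B P e) {F : FusionSystem P}
    (hF : IsBlockFusionSystemOn p M B P e F) {f : Set (IrrCharacter 𝐂[Q])} (hQP : Q ≤ P)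
    (hf : IsPBlock M f) (hle : SubpairLE p M Q f P e)
    (hT : ∀ y : G, y ∈ T ↔ y ∈ 𝐍[Q] ∧ StabilizesBlock 𝐂[Q] f y) :
    F.IsFullyNormalized Q ↔ ∃ F' : Set (IrrCharacter T), IsPBlock M F' ∧
      (∀ t : T, blockCoeff F' t = subgroupBlockCoeff 𝐂[Q] f (t : G)) ∧
      IsDefectGroup p M F' ((P ⊓ 𝐍[Q]).subgroupOf T) := by
  haveI := isPrime_of_isPModular hM
  have he := hmax.1.1
  constructor
  · intro h
    obtain ⟨E, hE, hEc⟩ := exists_block_stab hM (he.1.to_le hQP) hf hT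
    refine ⟨E, hE, hEc, isDefectGroup_nor_of_max hM hmax hf hle hT hE hEc fun y hy => ?_⟩
    exact h.2 _ ((isConj_iff hM hF hle).2 ⟨y, rfl, hy⟩)
  · rintro ⟨E, hE, hEc, hD⟩
    refine ⟨hQP, fun Q' hQ' => ?_⟩
    obtain ⟨g, rfl, hg⟩ := (isConj_iff hM hF hle).1 hQ'
    have hT' := mem_conj_stab hT g
    let σ : T ≃* (T ^^ g) := T.equivMapOfInjective _ (MulAut.conj g).injective
    have hσ : ∀ t : T, ((σ t : (T ^^ g)) : G) = g * t * g⁻¹ := fun t => rfl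
    have hE'c : ∀ t : (T ^^ g), blockCoeff (twistSetE σ E) t =
        subgroupBlockCoeff 𝐂[Q ^^ g] (conjBlock Q g f) (t : G) := by
      intro t
      obtain ⟨t₀, rfl⟩ := σ.surjective t
      rw [blockCoeff_twistSetE, hEc, hσ, sbc_conj]
    have hRT : P ⊓ 𝐍[Q ^^ g] ≤ (T ^^ g) := fun u hu =>
      (hT' u).2 ⟨hu.2, stabilizes_of_mem_inf hM he hg hu.1 hu.2⟩
    have hfg := isPBlock_conjBlock (M := M) Q g hf
    obtain ⟨D', hD', hle'⟩ := exists_defect_nor hM he hfg hg hT' (isPBlock_twistSetE σ hE) hE'c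
    have h1 := card_isDefectGroup hM (isPBlock_twistSetE σ hE) hD'
    have h2 := card_isDefectGroup hM hE hD
    rw [blockDefect_twistSetE, ← h2] at h1
    have hRT0 : P ⊓ 𝐍[Q] ≤ T := fun u hu =>
      (hT u).2 ⟨hu.2, stabilizes_of_mem_inf hM he hle hu.1 hu.2⟩
    rw [card_subgroupOf_of_le hRT0] at h1
    calc Nat.card (FusionSystem.normalizerIn P (Q ^^ g))
        = Nat.card ((P ⊓ 𝐍[Q ^^ g]).subgroupOf (T ^^ g)) :=
          (card_subgroupOf_of_le hRT).symm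
      _ ≤ Nat.card D' := Subgroup.card_le_of_le hle'
      _ = _ := h1

end Cfsg.Agent.Lib.BrauerFull
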