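import Mathlib
import Cfsg.Prelude.Def_BrauerPairs
import Cfsg.Agent.Lib.BrauerPair
import Cfsg.Agent.Lib.BlockOrtho
import Cfsg.Agent.Lib.BlockDefect
import Cfsg.Agent.Lib.PResid
import Cfsg.Agent.Lib.BlockQ

/-!
# Stable blocks of normal subgroups of `p`-power index

* `sum_mul_char`, `omega_eq_of_constituent`: a `G`-central element supported on `N` acts on `χ` as on
  any constituent of the restriction of `χ` to `N`;
* `exists_block_of_stable`: the idempotent of a `G`-stable block of `N` (`|G : N|` a power of `p`) is a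
  block idempotent of `G`;
* `isDefectClass_of_stable`, `defect_of_stable`.
-/

set_option autoImplicit false
set_option linter.unusedSectionVars false
set_option linter.unusedVariables false
set_option linter.style.haveILetI false

namespace Cfsg.Agent.Lib.BlockExt

open Cfsg Cfsg.Agent.Lib.CharBasic Cfsg.Agent.Lib.CharInd Cfsg.Agent.Lib.CharIntegrality
open Cfsg.Agent.Lib.BlockLocal Cfsg.Agent.Lib.BlockIdem Cfsg.Agent.Lib.BlockVal
open Cfsg.Agent.Lib.BlockOrtho Cfsg.Agent.Lib.BlockDefect Cfsg.Agent.Lib.BrauerMap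
open Cfsg.Agent.Lib.BrauerPair
open scoped ComplexConjugate Pointwise

universe u

variable {G : Type u} [Group G] [Fintype G] {M : Ideal AlgInt} {p : ℕ}

/-- Schur's lemma in coefficient form. -/
theorem sum_mul_char {f : G → ℂ} (hf : IsClassFunction G f) (χ : IrrCharacter G) (w : G) :
    ∑ x : G, f x * (χ : G → ℂ) (w * x) = omega (χ : G → ℂ) f * (χ : G → ℂ) w := by
  classical
  have hec := ec_isClassFunction χ.2
  have hs : IsClassFunction G (omega (χ : G → ℂ) f • ec (χ : G → ℂ)) := by
    intro g h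
    simp only [Pi.smul_apply]
    rw [hec]
  have h1 : conv f (ec (χ : G → ℂ)) = omega (χ : G → ℂ) f • ec (χ : G → ℂ) := by
    apply classFunction_eq_of_omega (conv_isClassFunction hf hec) hs
    intro ψ
    rw [omega_conv ψ.2 hf hec, omega_smul, omega_ec χ.2 ψ.2]
    by_cases h : (ψ : G → ℂ) = χ
    · rw [if_pos h, mul_one, mul_one, h]
    · rw [if_neg h, mul_zero, mul_zero]
  have h2 := congrFun h1 w⁻¹
  simp only [conv, ec, Pi.smul_apply, smul_eq_mul] at h2
  have hne := irr_one_ne_zero' χ.2
  have hG : (Nat.card G : ℂ) ≠ 0 := natCard_ne_zero'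
  have h3 : ∀ x : G, f x * ((χ : G → ℂ) 1 * (χ : G → ℂ) (x⁻¹ * w⁻¹)⁻¹ / (Nat.card G : ℂ)) =
      ((χ : G → ℂ) 1 / (Nat.card G : ℂ)) * (f x * (χ : G → ℂ) (w * x)) := by
    intro x
    have : (x⁻¹ * w⁻¹)⁻¹ = w * x := by group
    rw [this]
    ring
  rw [Finset.sum_congr rfl (fun x _ => h3 x), ← Finset.mul_sum, inv_inv] at h2
  have h4 : ((χ : G → ℂ) 1 / (Nat.card G : ℂ)) ≠ 0 := div_ne_zero hne hG
  apply mul_left_cancel₀ h4
  rw [h2]
  ring

/-- A `G`-central element supported on `N` acts on `χ` as on any constituent of the restriction. -/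
theorem omega_eq_of_constituent (N : Subgroup G) [Fintype N] {f : G → ℂ} (hf : IsClassFunction G f)
    (hs : ∀ x, x ∉ N → f x = 0) (χ : IrrCharacter G) (θ : IrrCharacter N)
    (h : classInner (fun n : N => (χ : G → ℂ) n) (θ : N → ℂ) ≠ 0) :
    omega (χ : G → ℂ) f = omega (θ : N → ℂ) (fun n : N => f n) := by
  classical
  have hfN : IsClassFunction N (fun n : N => f n) := by
    intro g k
    simp only [Subgroup.coe_mul, Subgroup.coe_inv]
    exact hf _ _
  have hθc := IsIrrCharacter.isCharacter θ.2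
  have hN : (Nat.card N : ℂ) ≠ 0 := natCard_ne_zero'
  apply mul_right_cancel₀ h
  unfold classInner
  rw [mul_left_comm, mul_left_comm (omega (θ : N → ℂ) (fun n : N => f n))]
  congr 1
  have h1 : ∀ w : N, omega (χ : G → ℂ) f * (χ : G → ℂ) w = ∑ n : N, f n * (χ : G → ℂ) ((w : G) * n) := by
    intro w
    rw [← sum_mul_char hf χ (w : G)]
    exact (Cfsg.Agent.Lib.BrauerPair.sum_subgroup_eq_sum' N
      (fun x => f x * (χ : G → ℂ) ((w : G) * x)) (fun y hy => by rw [hs y hy, zero_mul])).symm
  rw [Finset.mul_sum, Finset.mul_sum]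
  calc ∑ w : N, omega (χ : G → ℂ) f * ((χ : G → ℂ) w * conj ((θ : N → ℂ) w))
      = ∑ w : N, ∑ n : N, f n * ((χ : G → ℂ) ((w * n : N) : G) * conj ((θ : N → ℂ) w)) := by
        refine Finset.sum_congr rfl fun w _ => ?_
        rw [← mul_assoc, h1 w, Finset.sum_mul]
        refine Finset.sum_congr rfl fun n _ => ?_
        rw [mul_assoc]
        rfl
    _ = ∑ n : N, ∑ w : N, f n * ((χ : G → ℂ) ((w * n : N) : G) * conj ((θ : N → ℂ) w)) :=
        Finset.sum_comm
    _ = ∑ n : N, ∑ w : N, f n * ((χ : G → ℂ) (w : G) * (θ : N → ℂ) (w⁻¹ * n)) := by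
        refine Finset.sum_congr rfl fun n _ => ?_
        rw [← Equiv.sum_comp (Equiv.mulRight n⁻¹)]
        refine Finset.sum_congr rfl fun w _ => ?_
        simp only [Equiv.coe_mulRight, inv_mul_cancel_right]
        rw [char_conj_eq_inv hθc]
        congr 2
        have : (w * n⁻¹)⁻¹ = n * w⁻¹ := by group
        rw [this, char_mul_comm' hθc]
    _ = ∑ w : N, ∑ n : N, f n * ((χ : G → ℂ) (w : G) * (θ : N → ℂ) (w⁻¹ * n)) :=
        Finset.sum_comm
    _ = ∑ w : N, omega (θ : N → ℂ) (fun n : N => f n) * ((χ : G → ℂ) w * conj ((θ : N → ℂ) w)) := by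
        refine Finset.sum_congr rfl fun w _ => ?_
        have h4 := sum_mul_char hfN θ w⁻¹
        rw [char_conj_eq_inv hθc, mul_left_comm, ← h4, Finset.mul_sum]
        refine Finset.sum_congr rfl fun n _ => ?_
        ring

/-- Values of central characters on idempotents. -/
theorem omega_idem [M.IsPrime] {a : G → ℂ} (ha : IsClassFunction G a)
    (haR : ∀ g, MemLocalRing M (a g)) (hidem : conv a a = a) :
    (∀ χ : IrrCharacter G, omega (χ : G → ℂ) a = 0 ∨ omega (χ : G → ℂ) a = 1) ∧
      ∀ χ ψ : IrrCharacter G, SameBlock M (χ : G → ℂ) (ψ : G → ℂ) →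
        omega (χ : G → ℂ) a = omega (ψ : G → ℂ) a := by
  have h0 : ∀ χ : IrrCharacter G, omega (χ : G → ℂ) a = 0 ∨ omega (χ : G → ℂ) a = 1 := by
    intro χ
    have h1 := omega_conv χ.2 ha ha
    rw [hidem] at h1
    by_cases h2 : omega (χ : G → ℂ) a = 0
    · exact Or.inl h2
    · right
      have h3 : omega (χ : G → ℂ) a * omega (χ : G → ℂ) a = omega (χ : G → ℂ) a * 1 := by
        rw [mul_one]
        exact h1.symm
      exact mul_left_cancel₀ h2 h3
  refine ⟨h0, fun χ ψ hs => ?_⟩
  have h1 := memLocalIdeal_sub_of_mem_Zc (mem_Zc_of_classFunction ha haR) hs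
  rcases h0 χ with h2 | h2 <;> rcases h0 ψ with h3 | h3
  · rw [h2, h3]
  · exfalso
    rw [h2, h3, zero_sub] at h1
    have := memLocalIdeal_neg h1
    rw [neg_neg] at this
    exact not_memLocalIdeal_one this
  · exfalso
    rw [h2, h3, sub_zero] at h1
    exact not_memLocalIdeal_one h1
  · rw [h2, h3]

/-- A `p`-regular element lies in a normal subgroup of `p`-power index. -/
theorem dvd_orderOf_of_not_mem (hp : p.Prime) (N : Subgroup G) [N.Normal]
    (hN : ∃ k : ℕ, N.index = p ^ k) {x : G} (hx : x ∉ N) : p ∣ orderOf x := by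
  by_contra h
  obtain ⟨k, hk⟩ := hN
  apply hx
  have h1 : x ^ N.index ∈ N := Subgroup.pow_index_mem N x
  rw [hk] at h1
  have hc : Nat.Coprime (orderOf x) (p ^ k) :=
    ((Nat.Prime.coprime_iff_not_dvd hp).mpr h).symm.pow_right k
  rcases Nat.lt_or_ge 1 (orderOf x) with h3 | h3
  · obtain ⟨m, -, hm⟩ := Nat.exists_mul_mod_eq_one_of_coprime hc.symm h3
    have h4 : x = (x ^ p ^ k) ^ m := by
      rw [← pow_mul]
      conv_lhs => rw [← pow_one x]
      rw [← hm]
      exact (pow_mod_orderOf x _)
    rw [h4]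
    exact N.pow_mem h1 m
  · have h5 : orderOf x = 1 := by
      have := orderOf_pos x
      omega
    rw [orderOf_eq_one_iff] at h5
    rw [h5]
    exact N.one_mem

theorem blockCoeff_ne_zero [M.IsPrime] {B : Set (IrrCharacter G)} (hB : IsPBlock M B) :
    blockCoeff B ≠ 0 := by
  intro h
  obtain ⟨χ, rfl⟩ := hB
  have h1 := omega_blockCoeff (blockOf M (χ : G → ℂ)) χ
  rw [h, ind_of_mem (mem_blockOf_self χ)] at h1
  simp [omega] at h1

/-- The idempotent of a `G`-stable block of a normal subgroup of `p`-power index is a block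
idempotent of `G`. -/
theorem exists_block_of_stable (hM : IsPModular p M) (N : Subgroup G) [N.Normal]
    (hN : ∃ k : ℕ, N.index = p ^ k) {c : Set (IrrCharacter N)} (hc : IsPBlock M c)
    (hst : ∀ x : G, StabilizesBlock N c x) :
    ∃ B : Set (IrrCharacter G), IsPBlock M B ∧ ∀ g, blockCoeff B g = subgroupBlockCoeff N c g := by
  classical
  letI : Fintype N := Fintype.ofFinite N
  have hMp := hM.2.1.isPrime
  set a := subgroupBlockCoeff N c with ha
  have haE : a = ext0 N (blockCoeff c) := rfl
  have hacl : IsClassFunction G a := by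
    intro g x
    exact subgroupBlockCoeff_conj N c x (hst x).1 (twistSet_eq_of_stabilizes hc (hst x)) g
  have haR : ∀ g, MemLocalRing M (a g) := memLocalRing_subgroupBlockCoeff N hc
  have haI : conv a a = a := by rw [ha, conv_subgroupBlockCoeff, Set.inter_self]
  obtain ⟨h01, hcst⟩ := omega_idem (M := M) hacl haR haI
  have hane : a ≠ 0 := by
    intro h0
    apply blockCoeff_ne_zero hc
    have := resC_ext0 N (blockCoeff c)
    rw [← this, ← haE, h0]
    rfl
  have hex : ∃ χ : IrrCharacter G, omega (χ : G → ℂ) a = 1 := by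
    by_contra hcon
    push Not at hcon
    apply hane
    rw [← invF_omega hacl]
    have : (fun χ : IrrCharacter G => omega (χ : G → ℂ) a) = 0 :=
      funext fun χ => (h01 χ).resolve_right (hcon χ)
    rw [this, invF_zero]
  obtain ⟨χ, hχ⟩ := hex
  have hB : IsPBlock M (blockOf M (χ : G → ℂ)) := ⟨χ, rfl⟩
  set B := blockOf M (χ : G → ℂ) with hBdef
  have hBa : ∀ ψ ∈ B, omega (ψ : G → ℂ) a = 1 := fun ψ hψ => by rw [← hcst χ ψ hψ, hχ]
  set b := blockCoeff B with hb
  have hbcl : IsClassFunction G b := blockCoeff_isClassFunction B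
  have hbs : ∀ x, x ∉ N → b x = 0 := fun x hx =>
    blockCoeff_eq_zero hM hB (dvd_orderOf_of_not_mem hM.1 N hN hx)
  have hbE : ext0 N (resC N b) = b := ext0_resC N hbs
  set bN := resC N b with hbN
  have hbNcl : IsClassFunction N bN := by
    intro g k
    show b ((k * g * k⁻¹ : N) : G) = b g
    simp only [Subgroup.coe_mul, Subgroup.coe_inv]
    exact hbcl _ _
  have hbNR : ∀ g, MemLocalRing M (bN g) := fun g => memLocalRing_blockCoeff hB _
  have hbNI : conv bN bN = bN := by
    have h1 := conv_ext0 N bN bN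
    rw [hbE, hb, conv_blockCoeff_self, ← hb] at h1
    have h2 := congrArg (resC N) h1
    rw [resC_ext0] at h2
    exact h2.symm
  obtain ⟨h01N, hcstN⟩ := omega_idem (M := M) hbNcl hbNR hbNI
  have hcN : IsClassFunction N (blockCoeff c) := blockCoeff_isClassFunction c
  -- `a b = b`
  have hab : conv a b = b := by
    apply classFunction_eq_of_omega (conv_isClassFunction hacl hbcl) hbcl
    intro ψ
    rw [omega_conv ψ.2 hacl hbcl, hb, omega_blockCoeff]
    by_cases hψ : ψ ∈ B
    · rw [ind_of_mem hψ, hBa ψ hψ, one_mul]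
    · rw [ind_of_not_mem hψ, mul_zero]
  have habN : conv (blockCoeff c) bN = bN := by
    have h1 := conv_ext0 N (blockCoeff c) bN
    rw [← haE, hbE, hab] at h1
    have h2 := congrArg (resC N) h1
    rw [resC_ext0] at h2
    exact h2.symm
  have hbNne : bN ≠ 0 := by
    intro h0
    apply blockCoeff_ne_zero hB
    rw [← hb, ← hbE, h0]
    funext g
    by_cases hg : g ∈ N
    · rw [ext0_of_mem N _ hg]
      rfl
    · rw [ext0_of_not_mem N _ hg]
      rfl
  have hexθ : ∃ θ : IrrCharacter N, omega (θ : N → ℂ) bN = 1 := by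
    by_contra hcon
    push Not at hcon
    apply hbNne
    rw [← invF_omega hbNcl]
    have : (fun χ : IrrCharacter N => omega (χ : N → ℂ) bN) = 0 :=
      funext fun χ => (h01N χ).resolve_right (hcon χ)
    rw [this, invF_zero]
  obtain ⟨θ, hθ⟩ := hexθ
  have hθc : θ ∈ c := by
    have h1 := omega_conv θ.2 hcN hbNcl
    rw [habN, hθ, mul_one, omega_blockCoeff] at h1
    by_contra h2
    rw [ind_of_not_mem h2] at h1
    exact one_ne_zero h1
  have hbc : ∀ θ' ∈ c, omega (θ' : N → ℂ) bN = 1 := fun θ' hθ' => by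
    rw [← hcstN θ θ' (sameBlock_of_mem hc hθc hθ'), hθ]
  have hbaN : conv bN (blockCoeff c) = blockCoeff c := by
    apply classFunction_eq_of_omega (conv_isClassFunction hbNcl hcN) hcN
    intro θ'
    rw [omega_conv θ'.2 hbNcl hcN, omega_blockCoeff]
    by_cases h : θ' ∈ c
    · rw [ind_of_mem h, hbc θ' h, one_mul]
    · rw [ind_of_not_mem h, mul_zero]
  have hba : conv b a = a := by
    have h1 := conv_ext0 N bN (blockCoeff c)
    rw [hbE, ← haE, hbaN, ← haE] at h1
    exact h1
  refine ⟨B, hB, fun g => ?_⟩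
  have hfin : a = b := by
    apply classFunction_eq_of_omega hacl hbcl
    intro ψ
    rw [hb, omega_blockCoeff]
    by_cases hψ : ψ ∈ B
    · rw [ind_of_mem hψ, hBa ψ hψ]
    · rw [ind_of_not_mem hψ]
      have h1 := omega_conv ψ.2 hbcl hacl
      rw [hba, hb, omega_blockCoeff, ind_of_not_mem hψ, zero_mul] at h1
      exact h1
  rw [← hb, ← hfin]

/-- Every irreducible character of a subgroup is a constituent of some restriction. -/
theorem exists_constituent (N : Subgroup G) [Fintype N] (θ : IrrCharacter N) :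
    ∃ χ : IrrCharacter G, classInner (fun n : N => (χ : G → ℂ) n) (θ : N → ℂ) ≠ 0 := by
  classical
  by_contra hcon
  push Not at hcon
  have hcl := indFun_isClassFunction N (θ : N → ℂ)
  have h1 := classFunction_eq_sum hcl
  have h2 : ∀ χ : IrrCharacter G, classInner (indFun N (θ : N → ℂ)) (χ : G → ℂ) = 0 := by
    intro χ
    rw [frobenius N _ (isClassFunction_of_isCharacter (IsIrrCharacter.isCharacter χ.2)),
      ← classInner_conj_symm, hcon χ, map_zero]
  have h3 := congrFun h1 1
  rw [Finset.sum_apply, indFun_one] at h3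
  simp only [h2, zero_smul, Pi.zero_apply, Finset.sum_const_zero] at h3
  have h4 : (N.index : ℂ) ≠ 0 := by
    have := Subgroup.index_ne_zero_of_finite (H := N)
    exact_mod_cast this
  exact mul_ne_zero h4 (irr_one_ne_zero' θ.2) h3

section GroupPart

variable (N : Subgroup G) [hNn : N.Normal] (g : G)

/-- The conjugate of an element of `N`, in `N`. -/
def conjIn (hg : g ∈ N) (y : G) : N := ⟨y * g * y⁻¹, hNn.conj_mem g hg y⟩

theorem mk_conjIn_eq_iff (hg : g ∈ N) (y y' : G) :
    ConjClasses.mk (conjIn N g hg y) = ConjClasses.mk (conjIn N g hg y') ↔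
      y⁻¹ * y' ∈ N ⊔ Subgroup.centralizer ({g} : Set G) := by
  rw [ConjClasses.mk_eq_mk_iff_isConj, isConj_iff]
  constructor
  · rintro ⟨n, hn⟩
    have h1 : (n : G) * (y * g * y⁻¹) * (n : G)⁻¹ = y' * g * y'⁻¹ := congrArg Subtype.val hn
    have h2 : y'⁻¹ * (n : G) * y ∈ Subgroup.centralizer ({g} : Set G) := by
      rw [Subgroup.mem_centralizer_singleton_iff]
      have h3 : y'⁻¹ * ((n : G) * (y * g * y⁻¹) * (n : G)⁻¹) * y' = g := by
        rw [h1]
        group
      calc y'⁻¹ * (n : G) * y * g = (y'⁻¹ * ((n : G) * (y * g * y⁻¹) * (n : G)⁻¹) * y') *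
              (y'⁻¹ * (n : G) * y) := by group
        _ = g * (y'⁻¹ * (n : G) * y) := by rw [h3]
    have h4 : y⁻¹ * y' = (y⁻¹ * (n : G) * y) * (y'⁻¹ * (n : G) * y)⁻¹ := by group
    rw [h4]
    refine Subgroup.mul_mem _ (Subgroup.mem_sup_left ?_) (Subgroup.mem_sup_right (Subgroup.inv_mem _ h2))
    have := hNn.conj_mem (n : G) n.2 y⁻¹
    simpa using this
  · intro h
    have h1 : y⁻¹ * y' ∈ ((N : Set G) * (Subgroup.centralizer ({g} : Set G) : Set G)) := by
      rw [← Subgroup.normal_mul]
      exact h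
    obtain ⟨n, hn, c, hc, hnc⟩ := Set.mem_mul.mp h1
    have hc' : c * g = g * c := by
      have := Subgroup.mem_centralizer_singleton_iff.mp hc
      exact this
    refine ⟨⟨y * n * y⁻¹, hNn.conj_mem n hn y⟩, ?_⟩
    apply Subtype.ext
    show (y * n * y⁻¹) * (y * g * y⁻¹) * (y * n * y⁻¹)⁻¹ = y' * g * y'⁻¹
    have h2 : y' = y * (n * c) := by
      rw [hnc]
      group
    rw [h2]
    calc (y * n * y⁻¹) * (y * g * y⁻¹) * (y * n * y⁻¹)⁻¹ = y * n * g * n⁻¹ * y⁻¹ := by group
      _ = y * n * (c * g * c⁻¹) * n⁻¹ * y⁻¹ := by rw [hc', mul_inv_cancel_right]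
      _ = y * (n * c) * g * (y * (n * c))⁻¹ := by group

/-- The number of `N`-classes in the `G`-class of `g`. -/
theorem card_classes_eq_index [Fintype (ConjClasses N)]
    [DecidablePred (fun K : ConjClasses N => IsConj g ((Quotient.out K : N) : G))] (hg : g ∈ N) :
    (Finset.univ.filter (fun K : ConjClasses N => IsConj g ((Quotient.out K : N) : G))).card =
      (N ⊔ Subgroup.centralizer ({g} : Set G)).index := by
  classical
  set T := N ⊔ Subgroup.centralizer ({g} : Set G) with hT
  letI : Fintype (G ⧸ T) := Fintype.ofFinite _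
  set ψ : G ⧸ T → ConjClasses N := fun q => ConjClasses.mk (conjIn N g hg q.out) with hψ
  have hinj : Function.Injective ψ := by
    intro q q' h
    have h1 := (mk_conjIn_eq_iff N g hg q.out q'.out).mp h
    have h2 : (QuotientGroup.mk q.out : G ⧸ T) = QuotientGroup.mk q'.out :=
      QuotientGroup.eq.mpr h1
    simpa using h2
  have himg : Finset.univ.filter (fun K : ConjClasses N => IsConj g ((Quotient.out K : N) : G)) =
      Finset.univ.image ψ := by
    ext K
    simp only [Finset.mem_filter, Finset.mem_univ, true_and, Finset.mem_image]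
    constructor
    · intro h
      obtain ⟨y, hy⟩ := isConj_iff.mp h
      refine ⟨(QuotientGroup.mk y : G ⧸ T), ?_⟩
      have h1 : ψ (QuotientGroup.mk y) = ConjClasses.mk (conjIn N g hg y) := by
        apply (mk_conjIn_eq_iff N g hg _ _).mpr
        have h2 : ((QuotientGroup.mk y : G ⧸ T)).out⁻¹ * y ∈ T := by
          apply QuotientGroup.eq.mp
          simp
        exact h2
      rw [h1]
      have h3 : conjIn N g hg y = Quotient.out K := Subtype.ext hy
      rw [h3]
      exact Quotient.out_eq K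
    · rintro ⟨q, rfl⟩
      have h1 : ConjClasses.mk (Quotient.out (ψ q)) = ψ q := Quotient.out_eq _
      have h2 := ConjClasses.mk_eq_mk_iff_isConj.mp h1
      obtain ⟨n, hn⟩ := isConj_iff.mp h2
      have h3 : (n : G) * (Quotient.out (ψ q) : N) * (n : G)⁻¹ = q.out * g * q.out⁻¹ :=
        congrArg Subtype.val hn
      refine isConj_iff.mpr ⟨(n : G)⁻¹ * q.out, ?_⟩
      calc (n : G)⁻¹ * q.out * g * ((n : G)⁻¹ * q.out)⁻¹ = (n : G)⁻¹ * (q.out * g * q.out⁻¹) * (n : G) := by
            group
        _ = _ := by rw [← h3]; group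
  rw [himg, Finset.card_image_of_injective _ hinj, Finset.card_univ, Subgroup.index,
    Nat.card_eq_fintype_card]

end GroupPart

theorem sup_centralizer_eq_top_of_not_dvd (hp : p.Prime) (N : Subgroup G) [N.Normal]
    (hN : ∃ k : ℕ, N.index = p ^ k) {T : Subgroup G} (hle : N ≤ T) (h : ¬ p ∣ T.index) : T = ⊤ := by
  obtain ⟨k, hk⟩ := hN
  have h1 : T.index ∣ p ^ k := hk ▸ Subgroup.index_dvd_of_le hle
  obtain ⟨j, -, hj⟩ := (Nat.dvd_prime_pow hp).mp h1
  have hj0 : j = 0 := by
    by_contra hne
    exact h (hj ▸ dvd_pow_self p hne)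
  rw [hj0, pow_zero] at hj
  exact Subgroup.index_eq_one.mp hj

/-- A defect class of the block of `G` is a defect class of the stable block `c` of `N` and its
centralizer covers `G / N`. -/
theorem isDefectClass_of_stable (hM : IsPModular p M) (N : Subgroup G) [N.Normal]
    (hN : ∃ k : ℕ, N.index = p ^ k) {c : Set (IrrCharacter N)} (hc : IsPBlock M c)
    (hst : ∀ x : G, StabilizesBlock N c x) {B : Set (IrrCharacter G)} (hB : IsPBlock M B)
    (hBc : ∀ g, blockCoeff B g = subgroupBlockCoeff N c g) {g : G} (hg : IsDefectClass M B g) :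
    ∃ hgN : g ∈ N, IsDefectClass M c (⟨g, hgN⟩ : N) ∧
      N ⊔ Subgroup.centralizer ({g} : Set G) = ⊤ := by
  classical
  letI : Fintype N := Fintype.ofFinite N
  letI : Fintype (ConjClasses N) := Fintype.ofFinite _
  have hMp := hM.2.1.isPrime
  obtain ⟨hg1, hg2, hg3⟩ := hg
  set a := subgroupBlockCoeff N c with ha
  have haE : a = ext0 N (blockCoeff c) := rfl
  have hacl : IsClassFunction G a := by
    intro g x
    exact subgroupBlockCoeff_conj N c x (hst x).1 (twistSet_eq_of_stabilizes hc (hst x)) g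
  have hgN : g ∈ N := by
    by_contra h
    apply hg2
    rw [hBc, ha, subgroupBlockCoeff_eq_ext0, ext0_of_not_mem N _ h]
    exact memLocalIdeal_zero
  set g' : N := ⟨g, hgN⟩ with hg'
  have hcoef : blockCoeff c g' = blockCoeff B g := by
    rw [hBc, ha, subgroupBlockCoeff_eq_ext0, ext0_of_mem N _ hgN]
  set Ω := Finset.univ.filter (fun K : ConjClasses N => IsConj g ((Quotient.out K : N) : G)) with hΩ
  have key : ∀ θ ∈ c, ¬ MemLocalIdeal M (centralChar (θ : N → ℂ) g') ∧ ¬ p ∣ Ω.card := by
    intro θ hθ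
    obtain ⟨χ, hχ⟩ := exists_constituent N θ
    have hχa := omega_eq_of_constituent N hacl
      (fun x hx => by rw [haE, ext0_of_not_mem N _ hx]) χ θ hχ
    have h1 : (fun n : N => a n) = blockCoeff c := by
      funext n
      rw [haE, ext0_coe]
    rw [h1, omega_blockCoeff, ind_of_mem hθ] at hχa
    have h2 : a = blockCoeff B := by
      funext x
      rw [hBc]
    rw [h2, omega_blockCoeff] at hχa
    have hχB : χ ∈ B := by
      by_contra h3
      rw [ind_of_not_mem h3] at hχa
      exact zero_ne_one hχa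
    have h3 := hg3 χ hχB
    set f : G → ℂ := castFun (classIndicator g) with hf
    have hfcl : IsClassFunction G f := castFun_isClassFunction (classIndicator_mem g)
    have hfval : ∀ x : G, f x = @ite ℂ (IsConj g x) (Classical.propDecidable _) 1 0 := by
      intro x
      simp only [hf, castFun, classIndicator]
      split_ifs <;> simp
    have hfs : ∀ x, x ∉ N → f x = 0 := by
      intro x hx
      rw [hfval, if_neg]
      intro h4
      obtain ⟨y, hy⟩ := isConj_iff.mp h4
      apply hx
      rw [← hy]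
      exact ‹N.Normal›.conj_mem g hgN y
    have h4 := omega_eq_of_constituent N hfcl hfs χ θ hχ
    rw [hf, omega_classIndicator, ← hf] at h4
    have hfNcl : IsClassFunction N (fun n : N => f n) := by
      intro x k
      simp only [Subgroup.coe_mul, Subgroup.coe_inv]
      exact hfcl _ _
    rw [omega_eq_sum_classes θ hfNcl] at h4
    -- congruence
    have h5 : MemLocalIdeal M (centralChar (χ : G → ℂ) g - (Ω.card : ℂ) * centralChar (θ : N → ℂ) g') := by
      rw [h4]
      have h6 : (Ω.card : ℂ) * centralChar (θ : N → ℂ) g' = ∑ K : ConjClasses N,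
          f ((Quotient.out K : N) : G) * centralChar (θ : N → ℂ) g' := by
        rw [← Finset.sum_mul]
        congr 1
        simp only [hfval]
        rw [hΩ, Finset.card_filter]
        push_cast
        refine Finset.sum_congr rfl fun K _ => ?_
        split_ifs <;> rfl
      rw [h6, ← Finset.sum_sub_distrib]
      refine memLocalIdeal_sum _ _ fun K _ => ?_
      rw [← mul_sub]
      by_cases hK : IsConj g ((Quotient.out K : N) : G)
      · rw [hfval, if_pos hK, one_mul]
        obtain ⟨y, hy⟩ := isConj_iff.mp hK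
        have hy1 := (hst y⁻¹)
        set τ := conjAut N y⁻¹ hy1.1 with hτ
        have h7 : τ.symm g' = Quotient.out K := by
          apply Subtype.ext
          rw [hτ, coe_conjAut_symm, ← hy]
          simp [hg']
        have h8 : centralChar (twist τ θ : N → ℂ) g' = centralChar (θ : N → ℂ) (Quotient.out K) := by
          rw [centralChar_twist, h7]
        rw [← h8]
        have h9 : twist τ θ ∈ c := by
          have h10 := twistSet_eq_of_stabilizes hc hy1
          rw [← h10]
          exact ⟨θ, hθ, rfl⟩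
        exact sameBlock_of_mem hc h9 hθ g'
      · rw [hfval, if_neg hK, zero_mul]
        exact memLocalIdeal_zero
    have hcR : MemLocalRing M (centralChar (θ : N → ℂ) g') :=
      memLocalRing_of_isIntegral (isIntegral_centralChar θ g')
    constructor
    · intro h6
      apply h3
      have h7 := memLocalIdeal_mul_left (memLocalRing_natCast (M := M) Ω.card) h6
      have h8 := memLocalIdeal_add h5 h7
      simpa using h8
    · intro h6
      apply h3
      have h7 := memLocalIdeal_mul_right (memLocalIdeal_natCast_of_dvd hM h6) hcR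
      have h8 := memLocalIdeal_add h5 h7
      simpa using h8
  refine ⟨hgN, ⟨?_, ?_, fun θ hθ => (key θ hθ).1⟩, ?_⟩
  · rw [hcoef]
    exact hg1
  · rw [hcoef]
    exact hg2
  · obtain ⟨θ₀, hθ₀⟩ := Cfsg.Agent.Lib.BlockQ.isPBlock_nonempty hc
    have h1 := (key θ₀ hθ₀).2
    rw [hΩ, card_classes_eq_index N g hgN] at h1
    exact sup_centralizer_eq_top_of_not_dvd hM.1 N hN le_sup_left h1

/-- `G = N P` when `G = N C`, `P` a Sylow subgroup of `C` and `G / N` a `p`-group. -/
theorem sup_sylow_eq_top [Fact p.Prime] (N : Subgroup G) [N.Normal] (hN : ∃ k : ℕ, N.index = p ^ k)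
    {C : Subgroup G} (hNC : N ⊔ C = ⊤) (Q : Sylow p C) :
    N ⊔ (Q : Subgroup C).map C.subtype = ⊤ := by
  classical
  letI : Fintype C := Fintype.ofFinite C
  have hp : p.Prime := Fact.out
  set K := N.subgroupOf C with hK
  have hKi : K.index = N.index := by
    have h1 : K.index = N.relIndex C := rfl
    rw [h1, ← Subgroup.relIndex_sup_left C N, hNC, Subgroup.relIndex_top_right]
  have hH : (Q : Subgroup C) ⊔ K = ⊤ := by
    apply sup_centralizer_eq_top_of_not_dvd hp K (by rwa [hKi]) le_sup_right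
    intro h
    exact Q.not_dvd_index (h.trans (Subgroup.index_dvd_of_le le_sup_left))
  rw [eq_top_iff, ← hNC]
  refine sup_le le_sup_left ?_
  intro c hc
  have h1 : (⟨c, hc⟩ : C) ∈ (Q : Subgroup C) ⊔ K := by
    rw [hH]
    trivial
  have h2 : c ∈ ((Q : Subgroup C) ⊔ K).map C.subtype := ⟨⟨c, hc⟩, h1, rfl⟩
  rw [Subgroup.map_sup] at h2
  refine (sup_le ?_ ?_ : _ ≤ N ⊔ (Q : Subgroup C).map C.subtype) h2
  · exact le_sup_right
  · refine le_trans ?_ le_sup_left
    rintro _ ⟨k, hk, rfl⟩
    exact hk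

/-- The intersection with `N` of a Sylow subgroup of the centralizer of `g` is a Sylow subgroup of
the centralizer of `g` in `N`. -/
theorem exists_sylow_centralizer_in [Fact p.Prime] (N : Subgroup G) [N.Normal] (g' : N)
    (C : Subgroup G) (hC : C = Subgroup.centralizer ({(g' : G)} : Set G)) (Q : Sylow p C) :
    ∃ R : Sylow p (Subgroup.centralizer ({g'} : Set N)),
      ((Q : Subgroup _).map C.subtype ⊓ N).subgroupOf N =
        (R : Subgroup _).map (Subgroup.centralizer ({g'} : Set N)).subtype := by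
  classical
  set K := N.subgroupOf C with hK
  obtain ⟨S, hS⟩ := Cfsg.Agent.Lib.PResid.exists_sylow_inf_of_normal Q K
  set C' := Subgroup.centralizer ({g'} : Set N) with hC'
  have hmem : ∀ k : K, (⟨((k : C) : G), k.2⟩ : N) ∈ C' := by
    intro k
    rw [hC', Subgroup.mem_centralizer_singleton_iff]
    apply Subtype.ext
    have h0 : ((k : C) : G) ∈ Subgroup.centralizer ({(g' : G)} : Set G) := hC ▸ (k : C).2
    exact Subgroup.mem_centralizer_singleton_iff.mp h0
  let φ : K →* C' :=
    { toFun := fun k => ⟨⟨((k : C) : G), k.2⟩, hmem k⟩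
      map_one' := rfl
      map_mul' := fun _ _ => rfl }
  have hφ : Function.Surjective φ := by
    rintro ⟨⟨x, hxN⟩, hxC⟩
    have hxC' : x ∈ C := by
      rw [hC, Subgroup.mem_centralizer_singleton_iff]
      exact congrArg Subtype.val (Subgroup.mem_centralizer_singleton_iff.mp hxC)
    exact ⟨⟨⟨x, hxC'⟩, hxN⟩, rfl⟩
  refine ⟨S.mapSurjective hφ, ?_⟩
  ext n
  rw [Subgroup.mem_subgroupOf, Sylow.coe_mapSurjective]
  constructor
  · rintro ⟨⟨q, hq, hqn⟩, -⟩
    have hqK : q ∈ K := by
      rw [hK, Subgroup.mem_subgroupOf]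
      have : ((q : C) : G) = n := hqn
      rw [this]
      exact n.2
    have h1 : q ∈ (Q : Subgroup C) ⊓ K := ⟨hq, hqK⟩
    rw [← hS] at h1
    obtain ⟨s, hs, hsq⟩ := h1
    refine ⟨φ s, ⟨s, hs, rfl⟩, ?_⟩
    apply Subtype.ext
    show ((s : C) : G) = n
    have h2 : (s : C) = q := hsq
    rw [h2]
    exact hqn
  · rintro ⟨_, ⟨s, hs, rfl⟩, rfl⟩
    have h1 : (s : C) ∈ (Q : Subgroup C) ⊓ K := by
      rw [← hS]
      exact ⟨s, hs, rfl⟩
    refine ⟨⟨(s : C), h1.1, rfl⟩, ?_⟩
    exact Subtype.property _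

/-- The defect groups of the block of `G` attached to a stable block of `N`. -/
theorem defect_of_stable [Fact p.Prime] (hM : IsPModular p M) (N : Subgroup G) [N.Normal]
    (hN : ∃ k : ℕ, N.index = p ^ k) {c : Set (IrrCharacter N)} (hc : IsPBlock M c)
    (hst : ∀ x : G, StabilizesBlock N c x) {B : Set (IrrCharacter G)} (hB : IsPBlock M B)
    (hBc : ∀ g, blockCoeff B g = subgroupBlockCoeff N c g) {P : Subgroup G}
    (hP : IsDefectGroup p M B P) :
    N ⊔ P = ⊤ ∧ IsDefectGroup p M c ((P ⊓ N).subgroupOf N) := by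
  obtain ⟨g, hg, Q, rfl⟩ := hP
  obtain ⟨hgN, hdef, htop⟩ := isDefectClass_of_stable hM N hN hc hst hB hBc hg
  refine ⟨sup_sylow_eq_top N hN htop Q, ⟨⟨g, hgN⟩, hdef, ?_⟩⟩
  obtain ⟨R, hR⟩ := exists_sylow_centralizer_in N (⟨g, hgN⟩ : N) _ rfl Q
  exact ⟨R, hR⟩

end Cfsg.Agent.Lib.BlockExt
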