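import Mathlib
import Cfsg.Prelude.Def_BrauerPairs
import Cfsg.Agent.Lib.BlockExt

/-!
# The index of `D N` for a defect group `D` of a block with the idempotent of a stable block of `N`
-/

set_option autoImplicit false
set_option linter.unusedSectionVars false
set_option linter.unusedVariables false
set_option linter.style.haveILetI false

namespace Cfsg.Agent.Lib.BrauerIdx

open Cfsg Cfsg.Agent.Lib.CharBasic Cfsg.Agent.Lib.CharInd Cfsg.Agent.Lib.CharIntegrality
open Cfsg.Agent.Lib.BlockLocal Cfsg.Agent.Lib.BlockIdem Cfsg.Agent.Lib.BlockVal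
open Cfsg.Agent.Lib.BlockOrtho Cfsg.Agent.Lib.BlockDefect Cfsg.Agent.Lib.BrauerMap
open Cfsg.Agent.Lib.BrauerPair Cfsg.Agent.Lib.BlockExt
open scoped ComplexConjugate Pointwise

universe u

variable {G : Type u} [Group G] [Fintype G] {M : Ideal AlgInt} {p : ℕ}

/-- A defect class of the block of `G` with the idempotent of a stable block `c` of `N`. -/
theorem not_dvd_index_of_defectClass (hM : IsPModular p M) (N : Subgroup G) [N.Normal]
    {c : Set (IrrCharacter N)} (hc : IsPBlock M c)
    (hst : ∀ x : G, StabilizesBlock N c x) {B : Set (IrrCharacter G)} (hB : IsPBlock M B)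
    (hBc : ∀ g, blockCoeff B g = subgroupBlockCoeff N c g) {g : G} (hg : IsDefectClass M B g) :
    ¬ p ∣ (N ⊔ Subgroup.centralizer ({g} : Set G)).index := by
  classical
  letI : Fintype N := Fintype.ofFinite N
  letI : Fintype (ConjClasses N) := Fintype.ofFinite _
  have hMp := hM.2.1.isPrime
  obtain ⟨hg1, hg2, hg3⟩ := hg
  set a := subgroupBlockCoeff N c with ha
  have haE : a = ext0 N (blockCoeff c) := rfl
  have hacl : IsClassFunction G a := by
    intro g x
    exact subgroupBlockCoeff_conj N c x (hst x).1 (twistSet_eq_of_stabilizes hc (hst x)) g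
  have hgN : g ∈ N := by
    by_contra h
    apply hg2
    rw [hBc, ha, subgroupBlockCoeff_eq_ext0, ext0_of_not_mem N _ h]
    exact memLocalIdeal_zero
  set g' : N := ⟨g, hgN⟩ with hg'
  have hcoef : blockCoeff c g' = blockCoeff B g := by
    rw [hBc, ha, subgroupBlockCoeff_eq_ext0, ext0_of_mem N _ hgN]
  set Ω := Finset.univ.filter (fun K : ConjClasses N => IsConj g ((Quotient.out K : N) : G)) with hΩ
  have key : ∀ θ ∈ c, ¬ p ∣ Ω.card := by
    intro θ hθ
    obtain ⟨χ, hχ⟩ := exists_constituent N θ
    have hχa := omega_eq_of_constituent N hacl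
      (fun x hx => by rw [haE, ext0_of_not_mem N _ hx]) χ θ hχ
    have h1 : (fun n : N => a n) = blockCoeff c := by
      funext n
      rw [haE, ext0_coe]
    rw [h1, omega_blockCoeff, ind_of_mem hθ] at hχa
    have h2 : a = blockCoeff B := by
      funext x
      rw [hBc]
    rw [h2, omega_blockCoeff] at hχa
    have hχB : χ ∈ B := by
      by_contra h3
      rw [ind_of_not_mem h3] at hχa
      exact zero_ne_one hχa
    have h3 := hg3 χ hχB
    set f : G → ℂ := castFun (classIndicator g) with hf
    have hfcl : IsClassFunction G f := castFun_isClassFunction (classIndicator_mem g)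
    have hfval : ∀ x : G, f x = @ite ℂ (IsConj g x) (Classical.propDecidable _) 1 0 := by
      intro x
      simp only [hf, castFun, classIndicator]
      split_ifs <;> simp
    have hfs : ∀ x, x ∉ N → f x = 0 := by
      intro x hx
      rw [hfval, if_neg]
      intro h4
      obtain ⟨y, hy⟩ := isConj_iff.mp h4
      apply hx
      rw [← hy]
      exact ‹N.Normal›.conj_mem g hgN y
    have h4 := omega_eq_of_constituent N hfcl hfs χ θ hχ
    rw [hf, omega_classIndicator, ← hf] at h4
    have hfNcl : IsClassFunction N (fun n : N => f n) := by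
      intro x k
      simp only [Subgroup.coe_mul, Subgroup.coe_inv]
      exact hfcl _ _
    rw [omega_eq_sum_classes θ hfNcl] at h4
    -- congruence
    have h5 : MemLocalIdeal M (centralChar (χ : G → ℂ) g - (Ω.card : ℂ) * centralChar (θ : N → ℂ) g') := by
      rw [h4]
      have h6 : (Ω.card : ℂ) * centralChar (θ : N → ℂ) g' = ∑ K : ConjClasses N,
          f ((Quotient.out K : N) : G) * centralChar (θ : N → ℂ) g' := by
        rw [← Finset.sum_mul]
        congr 1
        simp only [hfval]
        rw [hΩ, Finset.card_filter]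
        push_cast
        refine Finset.sum_congr rfl fun K _ => ?_
        split_ifs <;> rfl
      rw [h6, ← Finset.sum_sub_distrib]
      refine memLocalIdeal_sum _ _ fun K _ => ?_
      rw [← mul_sub]
      by_cases hK : IsConj g ((Quotient.out K : N) : G)
      · rw [hfval, if_pos hK, one_mul]
        obtain ⟨y, hy⟩ := isConj_iff.mp hK
        have hy1 := (hst y⁻¹)
        set τ := conjAut N y⁻¹ hy1.1 with hτ
        have h7 : τ.symm g' = Quotient.out K := by
          apply Subtype.ext
          rw [hτ, coe_conjAut_symm, ← hy]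
          simp [hg']
        have h8 : centralChar (twist τ θ : N → ℂ) g' = centralChar (θ : N → ℂ) (Quotient.out K) := by
          rw [centralChar_twist, h7]
        rw [← h8]
        have h9 : twist τ θ ∈ c := by
          have h10 := twistSet_eq_of_stabilizes hc hy1
          rw [← h10]
          exact ⟨θ, hθ, rfl⟩
        exact sameBlock_of_mem hc h9 hθ g'
      · rw [hfval, if_neg hK, zero_mul]
        exact memLocalIdeal_zero
    have hcR : MemLocalRing M (centralChar (θ : N → ℂ) g') :=
      memLocalRing_of_isIntegral (isIntegral_centralChar θ g')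
    intro h6
    apply h3
    have h7 := memLocalIdeal_mul_right (memLocalIdeal_natCast_of_dvd hM h6) hcR
    have h8 := memLocalIdeal_add h5 h7
    simpa using h8
  obtain ⟨θ₀, hθ₀⟩ := Cfsg.Agent.Lib.BlockQ.isPBlock_nonempty hc
  have h1 := key θ₀ hθ₀
  rwa [hΩ, card_classes_eq_index N g hgN] at h1

theorem not_dvd_index_sup_of_le [Fact p.Prime] {A D N : Subgroup G} [N.Normal] (hDA : D ≤ A)
    (hDrel : ¬ p ∣ D.relIndex A) (h1 : ¬ p ∣ (N ⊔ A).index) : ¬ p ∣ (D ⊔ N).index := by
  have hp : p.Prime := Fact.out
  set W := D ⊔ N with hW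
  set Y := A ⊔ N with hY
  have hWY : W ≤ Y := sup_le_sup_right hDA N
  have hNW : N ≤ W := le_sup_right
  have h2 : N.relIndex Y = N.relIndex A := Subgroup.relIndex_sup_right A N
  have h3 : N.relIndex W = N.relIndex D := Subgroup.relIndex_sup_right D N
  have h4 : N.relIndex W * W.relIndex Y = N.relIndex Y := Subgroup.relIndex_mul_relIndex N W Y hNW hWY
  have h5 : (N ⊓ D).relIndex D = N.relIndex D := Subgroup.inf_relIndex_right N D
  have h6 : (N ⊓ A).relIndex A = N.relIndex A := Subgroup.inf_relIndex_right N A
  have h7 : (N ⊓ D).relIndex D * D.relIndex A = (N ⊓ D).relIndex A :=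
    Subgroup.relIndex_mul_relIndex _ D A inf_le_right hDA
  have h8 : (N ⊓ D).relIndex (N ⊓ A) * (N ⊓ A).relIndex A = (N ⊓ D).relIndex A :=
    Subgroup.relIndex_mul_relIndex _ (N ⊓ A) A (inf_le_inf_left N hDA) inf_le_right
  have hne : N.relIndex D ≠ 0 := by
    rw [Subgroup.relIndex]
    exact Subgroup.index_ne_zero_of_finite
  have h9 : D.relIndex A = (N ⊓ D).relIndex (N ⊓ A) * W.relIndex Y := by
    apply mul_left_cancel₀ hne
    calc N.relIndex D * D.relIndex A = (N ⊓ D).relIndex (N ⊓ A) * N.relIndex A := by
          rw [← h5, h7, ← h8, h6]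
      _ = N.relIndex D * ((N ⊓ D).relIndex (N ⊓ A) * W.relIndex Y) := by
          rw [← h2, ← h4, h3]
          ring
  have h10 : W.relIndex Y * Y.index = W.index := Subgroup.relIndex_mul_index hWY
  have h11 : Y = N ⊔ A := sup_comm _ _
  rw [← h10]
  intro h12
  rcases (Nat.Prime.dvd_mul hp).1 h12 with h13 | h13
  · exact hDrel (h9 ▸ Dvd.dvd.mul_left h13 _)
  · exact h1 (h11 ▸ h13)

/-- **Sylow property:** if `D` is a defect group of the block of `G` with the idempotent of the stable
block `c` of `N`, then `D N / N` is a Sylow subgroup of `G / N`. -/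
theorem not_dvd_index_sup_of_isDefectGroup [Fact p.Prime] (hM : IsPModular p M) (N : Subgroup G)
    [N.Normal] {c : Set (IrrCharacter N)} (hc : IsPBlock M c)
    (hst : ∀ x : G, StabilizesBlock N c x) {B : Set (IrrCharacter G)} (hB : IsPBlock M B)
    (hBc : ∀ g, blockCoeff B g = subgroupBlockCoeff N c g) {D : Subgroup G}
    (hD : IsDefectGroup p M B D) : ¬ p ∣ (D ⊔ N).index := by
  obtain ⟨g, hg, Q, rfl⟩ := hD
  refine not_dvd_index_sup_of_le (Subgroup.map_subtype_le _) ?_
    (not_dvd_index_of_defectClass hM N hc hst hB hBc hg)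
  have : ((Q : Subgroup _).map (Subgroup.centralizer ({g} : Set G)).subtype).subgroupOf
      (Subgroup.centralizer ({g} : Set G)) = (Q : Subgroup _) :=
    Subgroup.comap_map_eq_self_of_injective Subtype.val_injective _
  rw [Subgroup.relIndex, this]
  exact Q.not_dvd_index

end Cfsg.Agent.Lib.BrauerIdx
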