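import Mathlib
import Cfsg.Prelude.Def_BlockFusion
import Cfsg.Agent.Lib.BrauerFull
import Cfsg.Agent.Lib.BrauerIdx

/-!
# Pairs in intermediate subgroups `C_G(Q) ≤ S ≤ N_G(Q)` and the Sylow theorem there
-/

set_option autoImplicit false
set_option linter.unusedSectionVars false
set_option linter.unusedVariables false
set_option linter.style.haveILetI false

namespace Cfsg.Agent.Lib.BrauerLift

open Cfsg Cfsg.Agent.Lib.CharBasic Cfsg.Agent.Lib.CharInd Cfsg.Agent.Lib.CharIntegrality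
open Cfsg.Agent.Lib.BlockLocal Cfsg.Agent.Lib.BlockIdem Cfsg.Agent.Lib.BlockNormal
open Cfsg.Agent.Lib.BrauerMap Cfsg.Agent.Lib.BrauerPair Cfsg.Agent.Lib.BrauerSub
open Cfsg.Agent.Lib.BrauerConj Cfsg.Agent.Lib.BrauerThird Cfsg.Agent.Lib.BrauerMax
open Cfsg.Agent.Lib.BrauerStab Cfsg.Agent.Lib.BlockDefect Cfsg.Agent.Lib.BrauerCen
open Cfsg.Agent.Lib.BrauerFull
open scoped ComplexConjugate

universe u

variable {G : Type u} [Group G] [Fintype G] {p : ℕ} [hp : Fact p.Prime] {M : Ideal AlgInt}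

local notation "𝐂[" R "]" => Subgroup.centralizer ((R : Subgroup G) : Set G)
local notation "𝐍[" R "]" => Subgroup.normalizer ((R : Subgroup G) : Set G)
local notation Q "^^" x => Subgroup.map (MulEquiv.toMonoidHom (MulAut.conj (x : G))) (Q : Subgroup G)

noncomputable local instance fintypeSubL (K : Subgroup G) : Fintype K := Fintype.ofFinite K

/-- A pair of a block on a defect group is maximal. -/
theorem isMaximal_of_isDefectGroup {H : Type u} [Group H] [Fintype H] (hM : IsPModular p M)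
    {E : Set (IrrCharacter H)} {R : Subgroup H}
    {g : Set (IrrCharacter (Subgroup.centralizer (R : Set H)))} (hE : IsBrauerPairOf p M E R g)
    (hD : IsDefectGroup p M E R) : IsMaximalBrauerPair p M E R g := by
  refine ⟨hE, fun R' g' hR' hle => ?_⟩
  have h1 := le_of_subpairLE hle
  obtain ⟨D₁, hD₁, h2⟩ := exists_defect_ge hM hR'
  have h3 := card_isDefectGroup hM hE.2.1 hD
  have h4 := card_isDefectGroup hM hE.2.1 hD₁
  have h5 : R = D₁ := Subgroup.eq_of_le_of_card_ge (h1.trans h2) (by rw [h3, h4])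
  exact le_antisymm (h5 ▸ h2) h1

/-- **`N_P(Q)` is a defect group in any `S` with `C_G(Q), N_P(Q) ≤ S ≤ N_G(Q)`.** -/
theorem isDefectGroup_nor_of_max' (hM : IsPModular p M) {B : Set (IrrCharacter G)} {P Q S : Subgroup G}
    {e : Set (IrrCharacter 𝐂[P])} {f : Set (IrrCharacter 𝐂[Q])} (hmax : IsMaximalBrauerPair p M B P e)
    (hf : IsPBlock M f) (hle : SubpairLE p M Q f P e) (hQS : Q ≤ S) (hCS : 𝐂[Q] ≤ S)
    (hSN : S ≤ 𝐍[Q]) (hRS : P ⊓ 𝐍[Q] ≤ S)
    {F : Set (IrrCharacter S)} (hF : IsPBlock M F)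
    (hFc : ∀ t : S, blockCoeff F t = subgroupBlockCoeff 𝐂[Q] f (t : G))
    (hfn : ∀ y : G, SubpairLE p M (Q ^^ y) (conjBlock Q y f) P e →
      Nat.card (P ⊓ 𝐍[Q ^^ y] : Subgroup G) ≤ Nat.card (P ⊓ 𝐍[Q] : Subgroup G)) :
    IsDefectGroup p M F ((P ⊓ 𝐍[Q]).subgroupOf S) := by
  haveI := isPrime_of_isPModular hM
  have he := hmax.1.1
  have hQP := le_of_subpairLE hle
  set Rh := (P ⊓ 𝐍[Q]).subgroupOf S with hRh
  have hRmap : Rh.map S.subtype = P ⊓ 𝐍[Q] := Subgroup.map_subgroupOf_eq_of_le hRS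
  have hQR : Q ≤ Rh.map S.subtype := by
    rw [hRmap]
    exact le_inf hQP (le_normalizer_self Q)
  have hR'P : Rh.map S.subtype ≤ P := hRmap ▸ inf_le_left
  obtain ⟨g, hg, hRg⟩ := exists_subpairLE hM he hR'P
  have hn := normalSubpair_of_le hM he hle hRg hQR (hRmap ▸ inf_le_right)
  have hRhp : IsPGroup p Rh := IsPGroup.comap_of_injective (he.1.to_le inf_le_left) _ Subtype.val_injective
  have m := cenMatch_nor hCS Rh hQR
  have hpair := exists_pair_hat hM hF hFc hRhp m hn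
  refine isDefectGroup_of_nmax hM hpair ?_
  rintro ⟨Sh, hh⟩ hb
  have hb' : IsNormalSubpair p M Rh (twistSetE m.iso.symm g) Sh hh := hb
  change Sh = Rh
  set S' := Sh.map S.subtype with hS'
  have hRS' : Rh ≤ Sh := hb'.2.2.1
  have hRS'' : Rh.map S.subtype ≤ S' := map_le_map_of_le hRS'
  have mS := cenMatch_nor hCS Sh (hQR.trans hRS'')
  have hSp : IsPGroup p S' := hb'.2.1.1.map _
  have hgbl : twistSetE m.iso (twistSetE m.iso.symm g) = g := m.twistSetE_symm g
  have hSN' : S' ≤ 𝐍[Rh.map S.subtype] := by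
    rintro _ ⟨s, hs, rfl⟩
    exact mem_normalizer_map (hb'.2.2.2.1 hs)
  have hst : ∀ x ∈ S', StabilizesBlock 𝐂[Rh.map S.subtype] g x := by
    rintro _ ⟨s, hs, rfl⟩
    have h1 := m.stabilizes_of_hat (hb'.2.2.2.2.1 s hs)
    rw [hgbl] at h1
    exact h1
  have hstep := normalSubpair_lift m mS hb' (he.1.to_le hR'P) hSp hRS'' hSN' (by rw [hgbl]; exact hst)
  rw [hgbl] at hstep
  have hQf : IsBrauerPairOf p M B Q f := (isBrauerPairOf_iff_of_le hM hmax.1.2.1 hle).2 hmax.1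
  have hchain : SubpairLE p M Q f S' (twistSetE mS.iso hh) :=
    Relation.ReflTransGen.trans (subpairLE_of_normal hn) (subpairLE_of_normal hstep)
  have hS'B := (isBrauerPairOf_iff_of_le hM hmax.1.2.1 hchain).1 hQf
  obtain ⟨P₂, e₂, hP₂, hle₂⟩ := exists_maximal_above hM hS'B
  obtain ⟨y, hy⟩ := exists_cp_eq_of_maximal hM hmax hP₂
  have h1 := relationCp hM y (hchain.trans hle₂)
  rw [hy] at h1
  have h2 : (P₂ ^^ y) = P := congrArg Sigma.fst hy
  have h3 : (S' ^^ y) ≤ P ⊓ 𝐍[Q ^^ y] := by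
    refine le_inf ?_ ?_
    · rw [← h2]
      exact Subgroup.map_mono (le_of_subpairLE hle₂)
    · refine (normalizer_conj (R := Q) (S := S') ?_ y)
      rintro _ ⟨s, hs, rfl⟩
      exact hSN s.2
  have h4 : Nat.card S' ≤ Nat.card (P ⊓ 𝐍[Q] : Subgroup G) := by
    calc Nat.card S' = Nat.card (S' ^^ y) :=
          (Subgroup.card_map_of_injective (MulAut.conj y).injective).symm
      _ ≤ Nat.card (P ⊓ 𝐍[Q ^^ y] : Subgroup G) := Subgroup.card_le_of_le h3
      _ ≤ _ := hfn y h1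
  have h5 : P ⊓ 𝐍[Q] ≤ S' := by
    rw [← hRmap]
    exact hRS''
  have h6 : S' = P ⊓ 𝐍[Q] := (Subgroup.eq_of_le_of_card_ge h5 h4).symm
  apply Subgroup.map_injective (f := S.subtype) Subtype.val_injective
  rw [hRmap, ← h6]

section Lift

variable {S Q : Subgroup G}

/-- Lifting chains from `S ⊇ C_G(Q)` to `G`. -/
theorem chain_lift (hCS : 𝐂[Q] ≤ S) {a b : BrauerPairIdx S}
    (h : Relation.ReflTransGen (NormalSubpairRel (G := S) p M) a b)
    (hQa : Q ≤ a.1.map S.subtype) :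
    ∃ hQb : Q ≤ b.1.map S.subtype, Relation.ReflTransGen (NormalSubpairRel (G := G) p M)
      ⟨a.1.map S.subtype, twistSetE (cenMatch_nor hCS a.1 hQa).iso a.2⟩
      ⟨b.1.map S.subtype, twistSetE (cenMatch_nor hCS b.1 hQb).iso b.2⟩ := by
  induction h with
  | refl => exact ⟨hQa, .refl⟩
  | @tail b c hab hbc ih =>
    obtain ⟨hQb, ih⟩ := ih
    have hbc' : IsNormalSubpair p M b.1 b.2 c.1 c.2 := hbc
    have hle : b.1 ≤ c.1 := hbc'.2.2.1
    have hQc := hQb.trans (map_le_map_of_le hle)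
    refine ⟨hQc, ih.tail ?_⟩
    have mb := cenMatch_nor hCS b.1 hQb
    exact normalSubpair_lift mb (cenMatch_nor hCS c.1 hQc) hbc' (hbc'.1.1.map _) (hbc'.2.1.1.map _)
      (map_le_map_of_le hle)
      (by
        rintro _ ⟨s, hs, rfl⟩
        exact mem_normalizer_map (hbc'.2.2.2.1 hs))
      (by
        rintro _ ⟨s, hs, rfl⟩
        exact mb.stabilizes_of_hat (hbc'.2.2.2.2.1 s hs))

/-- The matching for a subgroup of `S`. -/
theorem cenMatch_of_le (hCS : 𝐂[Q] ≤ S) {N : Subgroup G} (hNS : N ≤ S) (hQN : Q ≤ N) :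
    CenMatch (N.subgroupOf S) N := by
  have h := cenMatch_nor hCS (N.subgroupOf S) (by rwa [Subgroup.map_subgroupOf_eq_of_le hNS])
  rwa [Subgroup.map_subgroupOf_eq_of_le hNS] at h

theorem sigma_lift_eq {Rh : Subgroup S} {A B : Subgroup G} (hAB : A = B) (mA : CenMatch Rh A)
    (mB : CenMatch Rh B) (gh : Set (IrrCharacter (Subgroup.centralizer (Rh : Set S)))) :
    (⟨A, twistSetE mA.iso gh⟩ : BrauerPairIdx G) = ⟨B, twistSetE mB.iso gh⟩ := by
  subst hAB
  rfl

/-- The conjugate of a matched pair is matched. -/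
theorem cenMatch_conj {Rh : Subgroup S} {R' : Subgroup G} (m : CenMatch Rh R') (c : S) :
    CenMatch (Rh.map (MulAut.conj c).toMonoidHom) (R' ^^ (c : G)) := by
  refine ⟨fun x hx => ?_, fun t => ?_⟩
  · have h1 := m.le (conj_inv_mem_centralizer R' (c : G) hx)
    have h2 := S.mul_mem (S.mul_mem c.2 h1) (S.inv_mem c.2)
    have e1 : (c : G) * ((c : G)⁻¹ * x * (c : G)) * (c : G)⁻¹ = x := by group
    rwa [e1] at h2
  · constructor
    · intro h
      have h1 := conj_inv_mem_centralizer Rh c h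
      have h2 := (m.iff _).1 h1
      have h3 := conj_mem_centralizer R' (c : G) h2
      have e1 : (c : G) * ((c⁻¹ * t * c : S) : G) * (c : G)⁻¹ = t := by
        simp only [Subgroup.coe_mul, Subgroup.coe_inv]
        group
      rwa [e1] at h3
    · intro h
      have h1 := conj_inv_mem_centralizer R' (c : G) h
      have e1 : (c : G)⁻¹ * (t : G) * (c : G) = ((c⁻¹ * t * c : S) : G) := by
        simp only [Subgroup.coe_mul, Subgroup.coe_inv]
      rw [e1] at h1
      have h2 := (m.iff _).2 h1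
      have h3 := conj_mem_centralizer Rh c h2
      have e2 : c * (c⁻¹ * t * c) * c⁻¹ = t := by group
      rwa [e2] at h3

theorem twistSetE_conj {Rh : Subgroup S} {R' : Subgroup G} (m : CenMatch Rh R') (c : S)
    (m' : CenMatch (Rh.map (MulAut.conj c).toMonoidHom) (R' ^^ (c : G)))
    (gh : Set (IrrCharacter (Subgroup.centralizer (Rh : Set S)))) :
    twistSetE m'.iso (conjBlock Rh c gh) = conjBlock R' (c : G) (twistSetE m.iso gh) := by
  rw [conjBlock_eq_twistSetE, conjBlock_eq_twistSetE]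
  ext ξ
  constructor
  · rintro ⟨_, ⟨χ, hχ, rfl⟩, rfl⟩
    refine ⟨_, ⟨χ, hχ, rfl⟩, ?_⟩
    apply Subtype.ext
    funext x
    simp only [twistE_apply]
    congr 1
  · rintro ⟨_, ⟨χ, hχ, rfl⟩, rfl⟩
    refine ⟨_, ⟨χ, hχ, rfl⟩, ?_⟩
    apply Subtype.ext
    funext x
    simp only [twistE_apply]
    congr 1

/-- A chain below a pair, lifted from `S` to `G`. -/
theorem lift_conj_chain {N D : Subgroup G} (hCS : 𝐂[Q] ≤ S) (hQS : S ≤ 𝐍[Q]) (hNS : N ≤ S) (hDS : D ≤ S)
    (hQN : Q ≤ N) {g : Set (IrrCharacter 𝐂[N])} {gD : Set (IrrCharacter 𝐂[D])} (c : S)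
    (mN : CenMatch (N.subgroupOf S) N) (mD : CenMatch (D.subgroupOf S) D)
    (h : SubpairLE p M ((N.subgroupOf S).map (MulAut.conj c).toMonoidHom)
      (conjBlock (N.subgroupOf S) c (twistSetE mN.iso.symm g)) (D.subgroupOf S)
      (twistSetE mD.iso.symm gD)) :
    SubpairLE p M (N ^^ (c : G)) (conjBlock N (c : G) g) D gD := by
  have mc := cenMatch_conj mN c
  have hmap : ((N.subgroupOf S).map (MulAut.conj c).toMonoidHom).map S.subtype = (N ^^ (c : G)) := by
    ext z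
    constructor
    · rintro ⟨_, ⟨n, hn, rfl⟩, rfl⟩
      exact ⟨n, hn, rfl⟩
    · rintro ⟨n, hn, rfl⟩
      exact ⟨c * ⟨n, hNS hn⟩ * c⁻¹, ⟨⟨n, hNS hn⟩, hn, rfl⟩, rfl⟩
  have hQc : Q ≤ (N ^^ (c : G)) := by
    intro q hq
    have h1 := hQS c.2
    have h2 : (c : G)⁻¹ * q * (c : G) ∈ Q := by
      have := (Subgroup.mem_normalizer_iff''.1 (hQS c.2) q).1 hq
      exact this
    exact ⟨_, hQN h2, by simp [MulAut.conj_apply, mul_assoc]⟩
  obtain ⟨hQb, hch⟩ := chain_lift hCS h (by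
    change Q ≤ ((N.subgroupOf S).map (MulAut.conj c).toMonoidHom).map S.subtype
    rw [hmap]
    exact hQc)
  have e1 := sigma_lift_eq hmap (cenMatch_nor hCS _ (by rw [hmap]; exact hQc)) mc
    (conjBlock (N.subgroupOf S) c (twistSetE mN.iso.symm g))
  have e2 := sigma_lift_eq (Subgroup.map_subgroupOf_eq_of_le hDS) (cenMatch_nor hCS _ hQb) mD
    (twistSetE mD.iso.symm gD)
  have e3 : twistSetE mc.iso (conjBlock (N.subgroupOf S) c (twistSetE mN.iso.symm g)) =
      conjBlock N (c : G) g := by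
    rw [twistSetE_conj mN c mc, mN.twistSetE_symm]
  have e4 : twistSetE mD.iso (twistSetE mD.iso.symm gD) = gD := mD.twistSetE_symm gD
  change Relation.ReflTransGen _ _ _ at hch
  rw [e1, e2, e3, e4] at hch
  exact hch

end Lift

/-- **The Sylow theorem in `S`**, read in `G`. -/
theorem exists_conj_below (hM : IsPModular p M) {B : Set (IrrCharacter G)} {P Q S : Subgroup G}
    {e : Set (IrrCharacter 𝐂[P])} {f : Set (IrrCharacter 𝐂[Q])} (hmax : IsMaximalBrauerPair p M B P e)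
    (hf : IsPBlock M f) (hle : SubpairLE p M Q f P e) (hQS : Q ≤ S) (hCS : 𝐂[Q] ≤ S)
    (hSN : S ≤ 𝐍[Q]) (hst : ∀ x ∈ S, StabilizesBlock 𝐂[Q] f x) (hRS : P ⊓ 𝐍[Q] ≤ S)
    (hfn : ∀ y : G, SubpairLE p M (Q ^^ y) (conjBlock Q y f) P e →
      Nat.card (P ⊓ 𝐍[Q ^^ y] : Subgroup G) ≤ Nat.card (P ⊓ 𝐍[Q] : Subgroup G))
    {N : Subgroup G} {g : Set (IrrCharacter 𝐂[N])} (hNS : N ≤ S) (hn : IsNormalSubpair p M Q f N g)
    {gD : Set (IrrCharacter 𝐂[P ⊓ 𝐍[Q]])} (hgD : SubpairLE p M (P ⊓ 𝐍[Q]) gD P e) :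
    ∃ c ∈ S, SubpairLE p M (N ^^ c) (conjBlock N c g) (P ⊓ 𝐍[Q]) gD := by
  haveI := isPrime_of_isPModular hM
  have he := hmax.1.1
  have hQP := le_of_subpairLE hle
  have hQD : Q ≤ P ⊓ 𝐍[Q] := le_inf hQP (le_normalizer_self Q)
  have hn2 := normalSubpair_of_le hM he hle hgD hQD inf_le_right
  obtain ⟨E, hE, hEc⟩ := exists_block_of_stabilizer hM (he.1.to_le hQP) hQS hCS hSN hf hst
  have hDdef := isDefectGroup_nor_of_max' hM hmax hf hle hQS hCS hSN hRS hE hEc hfn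
  have hQN : Q ≤ N := hn.2.2.1
  have mD := cenMatch_of_le hCS hRS hQD
  have mN := cenMatch_of_le hCS hNS hQN
  have hDp : IsPGroup p ((P ⊓ 𝐍[Q]).subgroupOf S) :=
    IsPGroup.comap_of_injective (he.1.to_le inf_le_left) _ Subtype.val_injective
  have hNp : IsPGroup p (N.subgroupOf S) :=
    IsPGroup.comap_of_injective hn.2.1.1 _ Subtype.val_injective
  have hpD := exists_pair_hat hM hE hEc hDp mD hn2
  have hpN := exists_pair_hat hM hE hEc hNp mN hn
  have hmaxD := isMaximal_of_isDefectGroup hM hpD hDdef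
  obtain ⟨c, hc⟩ := exists_conj_subpairLE hM hmaxD hpN
  exact ⟨c, c.2, lift_conj_chain hCS hSN hNS hRS hQN c mN mD hc⟩

end Cfsg.Agent.Lib.BrauerLift
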