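import Mathlib
import Cfsg.Prelude.Def_BlockFusion
import Cfsg.Agent.Lib.BrauerLift

/-!
# Saturation of the fusion system of a block
-/

set_option autoImplicit false
set_option linter.unusedSectionVars false
set_option linter.unusedVariables false
set_option linter.style.haveILetI false

namespace Cfsg.Agent.Lib.BrauerSat

open Cfsg Cfsg.Agent.Lib.CharBasic Cfsg.Agent.Lib.CharInd Cfsg.Agent.Lib.CharIntegrality
open Cfsg.Agent.Lib.BlockLocal Cfsg.Agent.Lib.BlockIdem Cfsg.Agent.Lib.BlockNormal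
open Cfsg.Agent.Lib.BrauerMap Cfsg.Agent.Lib.BrauerPair Cfsg.Agent.Lib.BrauerSub
open Cfsg.Agent.Lib.BrauerConj Cfsg.Agent.Lib.BrauerThird Cfsg.Agent.Lib.BrauerMax
open Cfsg.Agent.Lib.BrauerStab Cfsg.Agent.Lib.BlockDefect Cfsg.Agent.Lib.BrauerCen
open Cfsg.Agent.Lib.BrauerFull Cfsg.Agent.Lib.BrauerLift Cfsg.Agent.Lib.BrauerIdx
open scoped ComplexConjugate

universe u

variable {G : Type u} [Group G] [Fintype G] {p : ℕ} [hp : Fact p.Prime] {M : Ideal AlgInt}

local notation "𝐂[" R "]" => Subgroup.centralizer ((R : Subgroup G) : Set G)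
local notation "𝐍[" R "]" => Subgroup.normalizer ((R : Subgroup G) : Set G)
local notation Q "^^" x => Subgroup.map (MulEquiv.toMonoidHom (MulAut.conj (x : G))) (Q : Subgroup G)

noncomputable local instance fintypeSubS (K : Subgroup G) : Fintype K := Fintype.ofFinite K

/-- An element of `P` fixes `(P, e)`. -/
theorem cp_self_of_mem (hM : IsPModular p M) {P : Subgroup G} {e : Set (IrrCharacter 𝐂[P])}
    (he : IsBrauerPair p M P e) {u : G} (hu : u ∈ P) : cp u ⟨P, e⟩ = ⟨P, e⟩ := by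
  haveI := isPrime_of_isPModular hM
  have hstP : StabilizesBlock 𝐂[P] e u := stabilizes_of_centralizes (fun k hk => by
    rw [(Subgroup.mem_centralizer_iff.1 hk) u hu]
    group) e
  rw [cp_of_normalizer (le_normalizer_self P hu)
      (normalizer_le_normalizer_centralizer P (le_normalizer_self P hu)),
      twistSet_eq_of_stabilizes he.2 hstP]

section Sys

variable {B : Set (IrrCharacter G)} {P : Subgroup G}
  {e : Set (IrrCharacter (Subgroup.centralizer (P : Set G)))}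

/-- The fusion system of a block. -/
noncomputable def blockFusion (hM : IsPModular p M) (hmax : IsMaximalBrauerPair p M B P e) :
    FusionSystem P where
  Hom Q := {φ | Q ≤ P ∧ ∃ g : G, (∀ u : Q, φ u = g * (u : G) * g⁻¹) ∧
        Q.map (MulAut.conj g).toMonoidHom ≤ P ∧
        ∃ f : Set (IrrCharacter (Subgroup.centralizer (Q : Set G))),
          SubpairLE p M Q f P e ∧
            SubpairLE p M (Q.map (MulAut.conj g).toMonoidHom) (conjBlock Q g f) P e}
  le_of_mem := by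
    rintro Q φ ⟨hQ, g, hg, hgP, -⟩
    refine ⟨hQ, fun x => ?_⟩
    rw [hg]
    exact hgP ⟨x, x.2, rfl⟩
  injective_of_mem := by
    rintro Q φ ⟨-, g, hg, -⟩ a b hab
    have h : g * (a : G) * g⁻¹ = g * (b : G) * g⁻¹ := ((hg a).symm.trans hab).trans (hg b)
    exact Subtype.ext (mul_left_cancel (mul_right_cancel h))
  conj_mem := by
    intro Q g hQ hg
    have he := hmax.1.1
    obtain ⟨f, -, hf⟩ := exists_subpairLE hM he hQ
    have h1 := relationCp hM g hf
    rw [cp_self_of_mem hM he hg] at h1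
    exact ⟨hQ, g, fun u => rfl, le_of_chain h1, f, hf, h1⟩
  comp_mem := by
    rintro Q₁ Q₂ φ ψ ⟨hQ₁, g, hg, hgP, f₁, h1, h2⟩ ⟨hQ₂, k, hk, hkP, f₂, h3, h4⟩ h
    have he := hmax.1.1
    have hle : (Q₁ ^^ g) ≤ Q₂ := by
      rintro _ ⟨u, hu, rfl⟩
      have := h ⟨u, hu⟩
      rw [hg] at this
      exact this
    obtain ⟨f', -, hf'⟩ := exists_subpairLE hM (isBrauerPair_of_subpairLE h3 he) hle
    have h5 := eq_of_two_subpairLE hM he h2 (hf'.trans h3)
    rw [h5] at hf'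
    have h6 := relationCp hM k hf'
    have h7 : Relation.ReflTransGen (NormalSubpairRel (G := G) p M) (cp (k * g) ⟨Q₁, f₁⟩) ⟨P, e⟩ := by
      rw [cp_mul]
      exact h6.trans h4
    have hcomp : ∀ x : Q₁, (ψ.comp (φ.codRestrict Q₂ h)) x = (k * g) * (x : G) * (k * g)⁻¹ := by
      intro x
      change ψ (φ.codRestrict Q₂ h x) = _
      rw [hk]
      change k * φ x * k⁻¹ = _
      rw [hg]
      group
    exact ⟨hQ₁, k * g, hcomp, le_of_chain h7, f₁, h1, h7⟩
  inv_mem := by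
    rintro Q φ ⟨hQ, g, hg, hgP, f, h1, h2⟩
    have he := hmax.1.1
    have hr : φ.range = (Q ^^ g) := by
      have : φ = conjHom Q g := by
        ext u
        exact hg u
      rw [this, range_conjHom]
    refine ⟨conjHom φ.range g⁻¹, ?_, fun x => ?_⟩
    · have hrange : φ.range ≤ P := hr ▸ hgP
      have aux : ∀ {R : Subgroup G}, R = (Q ^^ g) →
          ∃ f' : Set (IrrCharacter 𝐂[R]), SubpairLE p M R f' P e ∧
            SubpairLE p M (R ^^ g⁻¹) (conjBlock R g⁻¹ f') P e := by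
        rintro R rfl
        refine ⟨conjBlock Q g f, h2, ?_⟩
        change Relation.ReflTransGen _ (cp g⁻¹ (cp g ⟨Q, f⟩)) _
        rw [cp_inv_cp]
        exact h1
      obtain ⟨f', h3, h4⟩ := aux hr
      exact ⟨hrange, g⁻¹, fun u => rfl, le_of_subpairLE h4, f', h3, h4⟩
    · change g⁻¹ * φ x * g⁻¹⁻¹ = x
      rw [hg]
      group

theorem isBlockFusionSystemOn_blockFusion (hM : IsPModular p M)
    (hmax : IsMaximalBrauerPair p M B P e) :
    IsBlockFusionSystemOn p M B P e (blockFusion hM hmax) :=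
  ⟨hmax, fun Q φ => Iff.rfl⟩

end Sys

section Aut

variable {B : Set (IrrCharacter G)} {P Q T : Subgroup G}
  {e : Set (IrrCharacter (Subgroup.centralizer (P : Set G)))}
  {f : Set (IrrCharacter (Subgroup.centralizer (Q : Set G)))} {F : FusionSystem P}

/-- A map to a group with a surjective hom. -/
theorem exists_sylow_of_map {H K : Type*} [Group H] [Group K] [Finite H] (θ : H →* K) {A W : Subgroup K}
    (hA : A = θ.range) (D : Subgroup H) (hW : W = D.map θ) (hDp : IsPGroup p D)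
    (hidx : ¬ p ∣ (D ⊔ θ.ker).index) : ∃ R : Sylow p A, (R : Subgroup A) = W.subgroupOf A := by
  subst hA hW
  have h1 : (D.map θ).subgroupOf θ.range = D.map θ.rangeRestrict := by
    ext ⟨z, hz⟩
    constructor
    · rintro ⟨d, hd, hdz⟩
      exact ⟨d, hd, Subtype.ext hdz⟩
    · rintro ⟨d, hd, hdz⟩
      exact ⟨d, hd, congrArg Subtype.val hdz⟩
  have h2 : IsPGroup p (D.map θ.rangeRestrict) := hDp.map _
  have h3 : ¬ p ∣ (D.map θ.rangeRestrict).index := by
    rw [Subgroup.index_map, MonoidHom.ker_rangeRestrict, MonoidHom.range_eq_top.2 θ.rangeRestrict_surjective,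
      Subgroup.index_top, mul_one]
    exact hidx
  refine ⟨h2.toSylow h3, ?_⟩
  rw [h1]
  rfl

/-- Criterion for elements of the normalizer. -/
theorem chain_cp_iff_stabilizes (hM : IsPModular p M) (he : IsBrauerPair p M P e)
    (hf : IsPBlock M f) (hle : SubpairLE p M Q f P e) {g : G} (hg : g ∈ 𝐍[Q]) :
    SubpairLE p M (Q ^^ g) (conjBlock Q g f) P e ↔ StabilizesBlock 𝐂[Q] f g := by
  haveI := isPrime_of_isPModular hM
  have hn' := normalizer_le_normalizer_centralizer Q hg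
  have e1 := cp_of_normalizer hg hn' f
  change Relation.ReflTransGen _ (cp g ⟨Q, f⟩) _ ↔ _
  rw [e1]
  constructor
  · intro h
    exact stabilizes_of_twistSet_eq _ (eq_of_two_subpairLE hM he hle h)
  · intro h
    rw [twistSet_eq_of_stabilizes hf h]
    exact hle

/-- Conjugation action on `Q`. -/
noncomputable def theta (hTN : T ≤ 𝐍[Q]) : T →* MulAut Q :=
  MonoidHom.mk' (fun t => conjAut Q t (hTN t.2)) (fun a b => conjAut_mul Q _ _ _ _ _)

@[simp] theorem coe_theta (hTN : T ≤ 𝐍[Q]) (t : T) (q : Q) :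
    ((theta hTN t q : Q) : G) = t * q * (t : G)⁻¹ := rfl

theorem mem_ker_theta (hTN : T ≤ 𝐍[Q]) (t : T) :
    t ∈ (theta hTN).ker ↔ (t : G) ∈ 𝐂[Q] := by
  rw [MonoidHom.mem_ker]
  constructor
  · intro h
    rw [Subgroup.mem_centralizer_iff]
    intro q hq
    have h1 := congrArg (fun α : MulAut Q => ((α ⟨q, hq⟩ : Q) : G)) h
    simp only [coe_theta, MulAut.one_apply] at h1
    calc q * (t : G) = (t * q * (t : G)⁻¹) * t := by rw [h1]
      _ = t * q := by group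
  · intro h
    ext ⟨q, hq⟩
    simp only [coe_theta, MulAut.one_apply]
    rw [← (Subgroup.mem_centralizer_iff.1 h) q hq]
    group

/-- `α`, a conjugation by `g` on `Q`, comes from the normalizer. -/
theorem mem_normalizer_of_aut {α : MulAut Q} {g : G} (h : ∀ u : Q, ((α u : Q) : G) = g * u * g⁻¹) :
    g ∈ 𝐍[Q] := by
  apply mem_normalizer_of_map_eq
  ext z
  constructor
  · rintro ⟨u, hu, rfl⟩
    have := h ⟨u, hu⟩
    change g * u * g⁻¹ ∈ Q
    rw [← this]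
    exact (α _).2
  · intro hz
    refine ⟨((α.symm ⟨z, hz⟩ : Q) : G), (α.symm ⟨z, hz⟩ : Q).2, ?_⟩
    have h1 := h (α.symm ⟨z, hz⟩)
    simp only [MulEquiv.apply_symm_apply] at h1
    exact h1.symm

/-- `Aut_F(Q)` is the image of the stabilizer `T`. -/
theorem autGroup_eq_range (hM : IsPModular p M) (hF : IsBlockFusionSystemOn p M B P e F)
    (hf : IsPBlock M f) (hle : SubpairLE p M Q f P e) (hT : ∀ y : G, y ∈ T ↔ y ∈ 𝐍[Q] ∧ StabilizesBlock 𝐂[Q] f y)
    (hTN : T ≤ 𝐍[Q]) : F.autGroup Q = (theta hTN).range := by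
  have he := hF.1.1.1
  unfold FusionSystem.autGroup
  have : {α : MulAut Q | Q.subtype.comp α.toMonoidHom ∈ F.Hom Q} = ((theta hTN).range : Set (MulAut Q)) := by
    ext α
    constructor
    · intro h
      obtain ⟨hQP, g, hg, hgP, f₁, h1, h2⟩ := (hF.2 Q _).1 h
      have h3 : f₁ = f := eq_of_two_subpairLE hM he hle h1
      subst h3
      have hg' : ∀ u : Q, ((α u : Q) : G) = g * u * g⁻¹ := hg
      have hgN := mem_normalizer_of_aut hg'
      have hgT : g ∈ T := (hT g).2 ⟨hgN, (chain_cp_iff_stabilizes hM he hf hle hgN).1 h2⟩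
      refine ⟨⟨g, hgT⟩, ?_⟩
      ext u
      simp only [coe_theta]
      exact (hg' u).symm
    · rintro ⟨t, rfl⟩
      obtain ⟨h1, h2⟩ := (hT t).1 t.2
      have h3 := (chain_cp_iff_stabilizes hM he hf hle h1).2 h2
      exact (hF.2 Q _).2 ⟨le_of_subpairLE hle, t, fun u => rfl, le_of_subpairLE h3, f, hle, h3⟩
  rw [this]
  exact Subgroup.closure_eq _

/-- `Aut_P(Q)` is the image of `N_P(Q)`. -/
theorem autInducedBy_eq_map (hTN : T ≤ 𝐍[Q]) (hDT : P ⊓ 𝐍[Q] ≤ T) :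
    autInducedBy P Q = ((P ⊓ 𝐍[Q]).subgroupOf T).map (theta hTN) := by
  unfold autInducedBy
  have : {α : MulAut Q | ∃ g ∈ P, ∀ x : Q, ((α x : Q) : G) = g * (x : G) * g⁻¹} =
      (((P ⊓ 𝐍[Q]).subgroupOf T).map (theta hTN) : Set (MulAut Q)) := by
    ext α
    constructor
    · rintro ⟨g, hgP, hg⟩
      have hgN := mem_normalizer_of_aut hg
      refine ⟨⟨g, hDT ⟨hgP, hgN⟩⟩, ⟨hgP, hgN⟩, ?_⟩
      ext u
      simp only [coe_theta]
      exact (hg u).symm
    · rintro ⟨t, ⟨h1, h2⟩, rfl⟩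
      exact ⟨t, h1, fun x => rfl⟩
  rw [this]
  exact Subgroup.closure_eq _

/-- The centralizer of `Q` inside `T`. -/
theorem normal_centralizer_subgroupOf (hTN : T ≤ 𝐍[Q]) (hQT : Q ≤ T) :
    (Subgroup.centralizer ((Q.subgroupOf T : Subgroup T) : Set T)).Normal := by
  have : (Q.subgroupOf T).Normal := by
    refine ⟨fun n hn t => ?_⟩
    rw [Subgroup.mem_subgroupOf] at hn ⊢
    exact (Subgroup.mem_normalizer_iff.1 (hTN t.2) _).1 hn
  infer_instance

/-- **Fully normalized implies fully automized.** -/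
theorem isFullyAutomized_of_max (hM : IsPModular p M) (hF : IsBlockFusionSystemOn p M B P e F)
    (hf : IsPBlock M f) (hle : SubpairLE p M Q f P e)
    (hfn : ∀ y : G, SubpairLE p M (Q ^^ y) (conjBlock Q y f) P e →
      Nat.card (P ⊓ 𝐍[Q ^^ y] : Subgroup G) ≤ Nat.card (P ⊓ 𝐍[Q] : Subgroup G)) :
    F.IsFullyAutomized p Q := by
  haveI := isPrime_of_isPModular hM
  have hmax := hF.1
  have he := hmax.1.1
  have hQP := le_of_subpairLE hle
  refine ⟨hQP, ?_⟩
  -- the stabilizer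
  let T : Subgroup G := 𝐍[Q] ⊓ stabSub 𝐂[Q] f hf
  have hT : ∀ y : G, y ∈ T ↔ y ∈ 𝐍[Q] ∧ StabilizesBlock 𝐂[Q] f y := fun y => Iff.rfl
  have hTN : T ≤ 𝐍[Q] := inf_le_left
  obtain ⟨hQT, hCT, -⟩ := stab_facts hT
  have hDT : P ⊓ 𝐍[Q] ≤ T := fun u hu =>
    (hT u).2 ⟨hu.2, stabilizes_of_mem_inf hM he hle hu.1 hu.2⟩
  obtain ⟨E, hE, hEc⟩ := exists_block_stab hM (he.1.to_le hQP) hf hT
  have hD := isDefectGroup_nor_of_max hM hmax hf hle hT hE hEc hfn
  have m : CenMatch (Q.subgroupOf T) Q := cenMatch_of_stable hQT hCT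
  haveI := normal_centralizer_subgroupOf hTN hQT
  have hidx := not_dvd_index_sup_of_isDefectGroup hM
    (Subgroup.centralizer ((Q.subgroupOf T : Subgroup T) : Set T))
    (c := twistSetE m.iso.symm f) (isPBlock_twistSetE _ hf)
    (fun x => m.stabilizes_hat ((hT x).1 x.2).2) hE
    (fun t => by rw [hEc, m.sbc_eq, m.twistSetE_symm]) hD
  have hker : (theta hTN).ker = Subgroup.centralizer ((Q.subgroupOf T : Subgroup T) : Set T) := by
    ext t
    rw [mem_ker_theta, m.iff]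
  rw [← hker] at hidx
  refine exists_sylow_of_map (theta hTN) (autGroup_eq_range hM hF hf hle hT hTN) _
    (autInducedBy_eq_map hTN hDT) ?_ hidx
  exact IsPGroup.comap_of_injective (he.1.to_le inf_le_left) _ Subtype.val_injective

/-- The product `D C` for `D` normalizing `C`. -/
def prodSub (D C : Subgroup G) (hDC : D ≤ Subgroup.normalizer (C : Set G)) : Subgroup G where
  carrier := {s | ∃ d ∈ D, d⁻¹ * s ∈ C}
  one_mem' := ⟨1, D.one_mem, by simp [C.one_mem]⟩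
  mul_mem' := by
    rintro a b ⟨d₁, hd₁, h₁⟩ ⟨d₂, hd₂, h₂⟩
    refine ⟨d₁ * d₂, D.mul_mem hd₁ hd₂, ?_⟩
    have h3 : d₂⁻¹ * (d₁⁻¹ * a) * d₂ ∈ C := by
      have := (Subgroup.mem_normalizer_iff''.1 (hDC hd₂) _).1 h₁
      exact this
    have e : (d₁ * d₂)⁻¹ * (a * b) = (d₂⁻¹ * (d₁⁻¹ * a) * d₂) * (d₂⁻¹ * b) := by group
    rw [e]
    exact C.mul_mem h3 h₂
  inv_mem' := by
    rintro a ⟨d, hd, h⟩
    refine ⟨d⁻¹, D.inv_mem hd, ?_⟩
    have h3 : d * (d⁻¹ * a)⁻¹ * d⁻¹ ∈ C :=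
      (Subgroup.mem_normalizer_iff.1 (hDC hd) _).1 (C.inv_mem h)
    have e : d⁻¹⁻¹ * a⁻¹ = d * (d⁻¹ * a)⁻¹ * d⁻¹ := by group
    rw [e]
    exact h3

theorem left_le_prodSub (D C : Subgroup G) (hDC : D ≤ Subgroup.normalizer (C : Set G)) :
    D ≤ prodSub D C hDC := fun d hd => ⟨d, hd, by simp [C.one_mem]⟩

theorem right_le_prodSub (D C : Subgroup G) (hDC : D ≤ Subgroup.normalizer (C : Set G)) :
    C ≤ prodSub D C hDC := fun c hc => ⟨1, D.one_mem, by simpa using hc⟩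

/-- **Fully normalized implies receptive.** -/
theorem isReceptive_of_max (hM : IsPModular p M) (hF : IsBlockFusionSystemOn p M B P e F)
    (hf : IsPBlock M f) (hle : SubpairLE p M Q f P e)
    (hfn : ∀ y : G, SubpairLE p M (Q ^^ y) (conjBlock Q y f) P e →
      Nat.card (P ⊓ 𝐍[Q ^^ y] : Subgroup G) ≤ Nat.card (P ⊓ 𝐍[Q] : Subgroup G)) :
    F.IsReceptive Q := by
  haveI := isPrime_of_isPModular hM
  have hmax := hF.1
  have he := hmax.1.1
  have hQP := le_of_subpairLE hle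
  refine ⟨hQP, fun R φ hφ hr => ?_⟩
  obtain ⟨hRP, x, hx, hRxP, fR, hfR, hfRx⟩ := (hF.2 R φ).1 hφ
  have hφc : φ = conjHom R x := by
    ext u
    exact hx u
  have hQ : Q = (R ^^ x) := by rw [← hr, hφc, range_conjHom]
  subst hQ
  have hfe := eq_of_two_subpairLE hM he hle hfRx
  subst hfe
  set Q := (R ^^ x) with hQdef
  set f := conjBlock R x fR with hfdef
  set N := FusionSystem.extender P R φ with hN
  have hNP : N ≤ P ⊓ 𝐍[R] := by
    rw [hN, FusionSystem.extender, Subgroup.closure_le]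
    rintro g ⟨h1, h2, -⟩
    exact ⟨h1, h2⟩
  have hRN : R ≤ N := by
    intro r hr'
    refine Subgroup.subset_closure ⟨hRP hr', le_normalizer_self R hr', x * r * x⁻¹, ?_, ?_⟩
    · exact hQP (conj_mem_conj R x hr')
    · intro u hu
      rw [hx, hx]
      group
  obtain ⟨g, -, hg⟩ := exists_subpairLE hM he (hNP.trans inf_le_left)
  have hRn := normalSubpair_of_le hM he hfR hg hRN (hNP.trans inf_le_right)
  have hconj := isNormalSubpair_conj hM hRn x
  -- the group `S = N_P(Q) C_G(Q)`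
  set D := P ⊓ 𝐍[Q] with hD
  have hDC : D ≤ Subgroup.normalizer ((𝐂[Q] : Subgroup G) : Set G) :=
    (inf_le_right : D ≤ 𝐍[Q]).trans (normalizer_le_normalizer_centralizer Q)
  set S := prodSub D 𝐂[Q] hDC with hS
  let T : Subgroup G := 𝐍[Q] ⊓ stabSub 𝐂[Q] f hf
  have hT : ∀ y : G, y ∈ T ↔ y ∈ 𝐍[Q] ∧ StabilizesBlock 𝐂[Q] f y := fun y => Iff.rfl
  obtain ⟨hQT, hCT, hTN⟩ := stab_facts hT
  have hDT : D ≤ T := fun u hu =>
    (hT u).2 ⟨hu.2, stabilizes_of_mem_inf hM he hle hu.1 hu.2⟩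
  have hST : S ≤ T := by
    rintro s ⟨d, hd, hc⟩
    have := T.mul_mem (hDT hd) (hCT hc)
    simpa using this
  have hCS : 𝐂[Q] ≤ S := right_le_prodSub _ _ _
  have hDS : D ≤ S := left_le_prodSub _ _ _
  have hQD : Q ≤ D := le_inf hQP (le_normalizer_self Q)
  have hNS : (N ^^ x) ≤ S := by
    rw [Subgroup.map_le_iff_le_comap, hN, FusionSystem.extender, Subgroup.closure_le]
    rintro g₀ ⟨hg₀P, hg₀N, h, hhP, hh⟩
    have hyN : x * g₀ * x⁻¹ ∈ 𝐍[Q] :=
      normalizer_conj (S := 𝐍[R]) le_rfl x ⟨g₀, hg₀N, rfl⟩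
    have hcen : h⁻¹ * (x * g₀ * x⁻¹) ∈ 𝐂[Q] := by
      rw [Subgroup.mem_centralizer_iff]
      rintro _ ⟨r, hr', rfl⟩
      have hr2 : g₀ * r * g₀⁻¹ ∈ R := (Subgroup.mem_normalizer_iff.1 hg₀N r).1 hr'
      have h1 := hh ⟨r, hr'⟩ hr2
      rw [hx, hx] at h1
      change x * r * x⁻¹ * (h⁻¹ * (x * g₀ * x⁻¹)) = h⁻¹ * (x * g₀ * x⁻¹) * (x * r * x⁻¹)
      have h2 : (x * g₀ * x⁻¹) * (x * r * x⁻¹) = h * (x * r * x⁻¹) * h⁻¹ * (x * g₀ * x⁻¹) := by
        rw [← h1]
        group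
      calc x * r * x⁻¹ * (h⁻¹ * (x * g₀ * x⁻¹))
          = h⁻¹ * (h * (x * r * x⁻¹) * h⁻¹ * (x * g₀ * x⁻¹)) := by group
        _ = h⁻¹ * ((x * g₀ * x⁻¹) * (x * r * x⁻¹)) := by rw [h2]
        _ = _ := by group
    have hhN : h ∈ 𝐍[Q] := by
      have h1 := 𝐍[Q].mul_mem hyN (𝐍[Q].inv_mem (mem_normalizer_of_mem_centralizer hcen))
      have e1 : (x * g₀ * x⁻¹) * (h⁻¹ * (x * g₀ * x⁻¹))⁻¹ = h := by group
      rwa [e1] at h1
    exact ⟨h, ⟨hhP, hhN⟩, hcen⟩
  obtain ⟨gD, -, hgD⟩ := exists_subpairLE hM he (inf_le_left : D ≤ P)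
  obtain ⟨c, ⟨d, hd, hdc⟩, hc⟩ := exists_conj_below hM hmax hf hle (hQD.trans hDS) hCS (hST.trans hTN)
    (fun s hs => ((hT s).1 (hST hs)).2) hDS hfn hNS hconj hgD
  have hDe : IsBrauerPair p M D gD := isBrauerPair_of_subpairLE hgD he
  have h1 := relationCp hM d⁻¹ hc
  rw [cp_self_of_mem hM hDe (D.inv_mem hd)] at h1
  have h2 : Relation.ReflTransGen (NormalSubpairRel (G := G) p M) (cp (d⁻¹ * c * x) ⟨N, g⟩) ⟨P, e⟩ := by
    rw [cp_mul, cp_mul]
    exact h1.trans hgD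
  refine ⟨conjHom N (d⁻¹ * c * x), (hF.2 N _).2 ⟨hNP.trans inf_le_left, _, fun u => rfl,
    le_of_chain h2, g, hg, h2⟩, fun y hyR hyN => ?_⟩
  change (d⁻¹ * c * x) * y * (d⁻¹ * c * x)⁻¹ = φ ⟨y, hyR⟩
  rw [hx]
  have h3 := (Subgroup.mem_centralizer_iff.1 hdc) (x * y * x⁻¹) (conj_mem_conj R x hyR)
  calc (d⁻¹ * c * x) * y * (d⁻¹ * c * x)⁻¹ = (d⁻¹ * c) * (x * y * x⁻¹) * (d⁻¹ * c)⁻¹ := by group
    _ = (x * y * x⁻¹) * (d⁻¹ * c) * (d⁻¹ * c)⁻¹ := by rw [← h3]
    _ = _ := by group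

/-- **The fusion system of a block is saturated.** -/
theorem isSaturated_of_isBlockFusionSystemOn (hM : IsPModular p M)
    (hF : IsBlockFusionSystemOn p M B P e F) : F.IsSaturated p := by
  intro Q₀ hQ₀
  have hmax := hF.1
  have he := hmax.1.1
  obtain ⟨f₀, hf₀b, hf₀⟩ := exists_subpairLE hM he hQ₀
  obtain ⟨x, hx, hxm⟩ := exists_max_conj hM
    (fun A : Subgroup G => Nat.card (P ⊓ 𝐍[A] : Subgroup G)) hf₀
  have hfx := isPBlock_conjBlock (M := M) Q₀ x hf₀b
  exact ⟨_, (isConj_iff hM hF hf₀).2 ⟨x, rfl, hx⟩, isFullyAutomized_of_max hM hF hfx hx hxm,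
    isReceptive_of_max hM hF hfx hx hxm⟩

end Aut

end Cfsg.Agent.Lib.BrauerSat
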