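import Mathlib
import Cfsg.Prelude.Def_BlockFusion
import Cfsg.Agent.Lib.BrauerSat

/-!
# Nilpotent blocks and the inner fusion system
-/

set_option autoImplicit false
set_option linter.unusedSectionVars false
set_option linter.unusedVariables false
set_option linter.style.haveILetI false

namespace Cfsg.Agent.Lib.BrauerNil

open Cfsg Cfsg.Agent.Lib.CharBasic Cfsg.Agent.Lib.CharInd Cfsg.Agent.Lib.CharIntegrality
open Cfsg.Agent.Lib.BlockLocal Cfsg.Agent.Lib.BlockIdem Cfsg.Agent.Lib.BlockNormal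
open Cfsg.Agent.Lib.BrauerMap Cfsg.Agent.Lib.BrauerPair Cfsg.Agent.Lib.BrauerSub
open Cfsg.Agent.Lib.BrauerConj Cfsg.Agent.Lib.BrauerThird Cfsg.Agent.Lib.BrauerMax
open Cfsg.Agent.Lib.BrauerStab Cfsg.Agent.Lib.BlockDefect Cfsg.Agent.Lib.BrauerCen
open Cfsg.Agent.Lib.BrauerFull Cfsg.Agent.Lib.BrauerLift Cfsg.Agent.Lib.BrauerIdx
open Cfsg.Agent.Lib.BrauerSat
open scoped ComplexConjugate Pointwise

universe u

variable {G : Type u} [Group G] [Fintype G] {p : ℕ} [hp : Fact p.Prime] {M : Ideal AlgInt}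

local notation "𝐂[" R "]" => Subgroup.centralizer ((R : Subgroup G) : Set G)
local notation "𝐍[" R "]" => Subgroup.normalizer ((R : Subgroup G) : Set G)
local notation Q "^^" x => Subgroup.map (MulEquiv.toMonoidHom (MulAut.conj (x : G))) (Q : Subgroup G)

noncomputable local instance fintypeSubN (K : Subgroup G) : Fintype K := Fintype.ofFinite K

variable {B : Set (IrrCharacter G)} {P Q T : Subgroup G}
  {e : Set (IrrCharacter (Subgroup.centralizer (P : Set G)))}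
  {f : Set (IrrCharacter (Subgroup.centralizer (Q : Set G)))} {F : FusionSystem P}

/-- The `p`-power of an element is `p`-regular for a suitable exponent. -/
theorem exists_pow_isPRegular {H : Type*} [Group H] [Finite H] (t : H) :
    ∃ k : ℕ, IsPRegular p (t ^ p ^ k) := by
  have hpp : p.Prime := Fact.out
  have h0 : orderOf t ≠ 0 := (orderOf_pos t).ne'
  obtain ⟨a, m, hm, hfac⟩ := Nat.exists_eq_pow_mul_and_not_dvd h0 p hpp.ne_one
  refine ⟨a, ?_⟩
  have h1 : m ∣ orderOf t := ⟨p ^ a, by rw [hfac]; ring⟩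
  have h2 : orderOf t / m = p ^ a := by
    rw [hfac]
    have hm0 : 0 < m := Nat.pos_of_ne_zero (by rintro rfl; exact hm (dvd_zero p))
    exact Nat.mul_div_cancel _ hm0
  have h3 := orderOf_pow_orderOf_div h0 h1
  rw [h2] at h3
  unfold IsPRegular
  rwa [h3]

/-- If all `p`-regular elements lie in the normal subgroup `N`, the quotient is a `p`-group. -/
theorem isPGroup_quotient_of_regular {H : Type*} [Group H] [Finite H] (N : Subgroup H) [N.Normal]
    (h : ∀ x : H, IsPRegular p x → x ∈ N) : IsPGroup p (H ⧸ N) := by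
  intro q
  obtain ⟨t, rfl⟩ := QuotientGroup.mk_surjective q
  obtain ⟨k, hk⟩ := exists_pow_isPRegular (p := p) t
  refine ⟨k, ?_⟩
  rw [← QuotientGroup.mk_pow, QuotientGroup.eq_one_iff]
  exact h _ hk

/-- A subgroup of index prime to `p` above `N` is everything. -/
theorem eq_top_of_regular {H : Type*} [Group H] [Finite H] (N W : Subgroup H) [N.Normal] (hNW : N ≤ W)
    (h : ∀ x : H, IsPRegular p x → x ∈ N) (hW : ¬ p ∣ W.index) : W = ⊤ := by
  have h1 := isPGroup_quotient_of_regular N h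
  have h2 : (W.map (QuotientGroup.mk' N)).index = W.index :=
    Subgroup.index_map_eq _ (QuotientGroup.mk'_surjective N) (by simpa using hNW)
  obtain ⟨n, hn⟩ := h1.index (W.map (QuotientGroup.mk' N))
  rw [h2] at hn
  have hn0 : n = 0 := by
    by_contra hne
    exact hW (hn ▸ dvd_pow_self p hne)
  rw [hn0, pow_zero] at hn
  exact Subgroup.index_eq_one.1 hn

/-- The index statement in `T`. -/
theorem not_dvd_index_stab (hM : IsPModular p M) (hmax : IsMaximalBrauerPair p M B P e)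
    (hf : IsPBlock M f) (hle : SubpairLE p M Q f P e)
    (hT : ∀ y : G, y ∈ T ↔ y ∈ 𝐍[Q] ∧ StabilizesBlock 𝐂[Q] f y) (hTN : T ≤ 𝐍[Q])
    (hfn : ∀ y : G, SubpairLE p M (Q ^^ y) (conjBlock Q y f) P e →
      Nat.card (P ⊓ 𝐍[Q ^^ y] : Subgroup G) ≤ Nat.card (P ⊓ 𝐍[Q] : Subgroup G)) :
    ¬ p ∣ (((P ⊓ 𝐍[Q]).subgroupOf T) ⊔ (theta hTN).ker).index := by
  haveI := isPrime_of_isPModular hM
  have he := hmax.1.1
  have hQP := le_of_subpairLE hle
  obtain ⟨hQT, hCT, -⟩ := stab_facts hT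
  obtain ⟨E, hE, hEc⟩ := exists_block_stab hM (he.1.to_le hQP) hf hT
  have hD := isDefectGroup_nor_of_max hM hmax hf hle hT hE hEc hfn
  have m : CenMatch (Q.subgroupOf T) Q := cenMatch_of_stable hQT hCT
  haveI := normal_centralizer_subgroupOf hTN hQT
  have hidx := not_dvd_index_sup_of_isDefectGroup hM
    (Subgroup.centralizer ((Q.subgroupOf T : Subgroup T) : Set T))
    (c := twistSetE m.iso.symm f) (isPBlock_twistSetE _ hf)
    (fun x => m.stabilizes_hat ((hT x).1 x.2).2) hE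
    (fun t => by rw [hEc, m.sbc_eq, m.twistSetE_symm]) hD
  have hker : (theta hTN).ker = Subgroup.centralizer ((Q.subgroupOf T : Subgroup T) : Set T) := by
    ext t
    rw [mem_ker_theta, m.iff]
  rwa [← hker] at hidx

/-- **`T = N_P(Q) C_G(Q)`** for `Q` fully normalized, if all `p`-regular elements of `T` centralize `Q`. -/
theorem exists_decomp_of_regular (hM : IsPModular p M) (hmax : IsMaximalBrauerPair p M B P e)
    (hf : IsPBlock M f) (hle : SubpairLE p M Q f P e)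
    (hfn : ∀ y : G, SubpairLE p M (Q ^^ y) (conjBlock Q y f) P e →
      Nat.card (P ⊓ 𝐍[Q ^^ y] : Subgroup G) ≤ Nat.card (P ⊓ 𝐍[Q] : Subgroup G))
    (hreg : ∀ x : G, x ∈ 𝐍[Q] → StabilizesBlock 𝐂[Q] f x → IsPRegular p x → x ∈ 𝐂[Q])
    {t : G} (htN : t ∈ 𝐍[Q]) (hts : StabilizesBlock 𝐂[Q] f t) :
    ∃ d ∈ P ⊓ 𝐍[Q], d⁻¹ * t ∈ 𝐂[Q] := by
  haveI := isPrime_of_isPModular hM
  have he := hmax.1.1
  let T : Subgroup G := 𝐍[Q] ⊓ stabSub 𝐂[Q] f hf
  have hT : ∀ y : G, y ∈ T ↔ y ∈ 𝐍[Q] ∧ StabilizesBlock 𝐂[Q] f y := fun y => Iff.rfl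
  have hTN : T ≤ 𝐍[Q] := inf_le_left
  have hidx := not_dvd_index_stab hM hmax hf hle hT hTN hfn
  have hker : ∀ z : T, IsPRegular p z → z ∈ (theta hTN).ker := by
    intro z hz
    rw [mem_ker_theta]
    have h1 := (hT z).1 z.2
    refine hreg z h1.1 h1.2 ?_
    unfold IsPRegular at hz ⊢
    rwa [Subgroup.orderOf_coe] at *
  have htop := eq_top_of_regular (p := p) (theta hTN).ker _ le_sup_right hker hidx
  have htT : t ∈ T := (hT t).2 ⟨htN, hts⟩
  have h1 : (⟨t, htT⟩ : T) ∈ ((P ⊓ 𝐍[Q]).subgroupOf T) ⊔ (theta hTN).ker := by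
    rw [htop]
    trivial
  have h2 : (⟨t, htT⟩ : T) ∈ (((P ⊓ 𝐍[Q]).subgroupOf T : Set T) * ((theta hTN).ker : Set T)) := by
    rw [← Subgroup.mul_normal]
    exact h1
  obtain ⟨d, hd, c, hc, hdc⟩ := Set.mem_mul.1 h2
  refine ⟨d, hd, ?_⟩
  have h3 : (c : G) ∈ 𝐂[Q] := (mem_ker_theta hTN c).1 hc
  have h4 : t = (d : G) * c := congrArg Subtype.val hdc.symm
  rw [h4]
  simpa using h3

/-- `(Q, f)` below `(P, e)` with `B` nilpotent: the regular elements of the stabilizer centralize. -/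
theorem reg_of_nil (hM : IsPModular p M) (hmax : IsMaximalBrauerPair p M B P e)
    (hnil : IsNilpotentBlock p M B) (hle : SubpairLE p M Q f P e) {x : G} (hxN : x ∈ 𝐍[Q])
    (hxs : StabilizesBlock 𝐂[Q] f x) (hxr : IsPRegular p x) : x ∈ 𝐂[Q] :=
  hnil.2 Q f ((isBrauerPairOf_iff_of_le hM hmax.1.2.1 hle).2 hmax.1) x hxN hxs hxr

/-- The fully normalized hypothesis on pair indices. -/
def Hfn (p : ℕ) (M : Ideal AlgInt) (P : Subgroup G)
    (e : Set (IrrCharacter (Subgroup.centralizer (P : Set G)))) (a : BrauerPairIdx G) : Prop :=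
  ∀ z : G, Relation.ReflTransGen (NormalSubpairRel (G := G) p M) (cp z a) ⟨P, e⟩ →
    Nat.card (P ⊓ 𝐍[(cp z a).1] : Subgroup G) ≤ Nat.card (P ⊓ 𝐍[a.1] : Subgroup G)

/-- The inner property. -/
def Star (p : ℕ) (M : Ideal AlgInt) (P : Subgroup G)
    (e : Set (IrrCharacter (Subgroup.centralizer (P : Set G)))) (Q : Subgroup G) : Prop :=
  ∀ (f : Set (IrrCharacter 𝐂[Q])) (x : G), SubpairLE p M Q f P e →
    SubpairLE p M (Q ^^ x) (conjBlock Q x f) P e →
    ∃ u ∈ P, ∀ q ∈ Q, x * q * x⁻¹ = u * q * u⁻¹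

/-- The inductive step. -/
theorem starStar (hM : IsPModular p M) (hF : IsBlockFusionSystemOn p M B P e F)
    (hnil : IsNilpotentBlock p M B) (hIH : ∀ R : Subgroup G, Q < R → R ≤ P → Star p M P e R)
    (hle : SubpairLE p M Q f P e) (hf : IsPBlock M f) {y : G}
    (hy : SubpairLE p M (Q ^^ y) (conjBlock Q y f) P e)
    (hfn : Hfn p M P e (cp y ⟨Q, f⟩)) :
    ∃ u ∈ P, ∀ q ∈ Q, y * q * y⁻¹ = u * q * u⁻¹ := by
  haveI := isPrime_of_isPModular hM
  have hmax := hF.1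
  have he := hmax.1.1
  have hQP := le_of_subpairLE hle
  have hfy := isPBlock_conjBlock (M := M) Q y hf
  rcases lt_or_eq_of_le hQP with hlt | rfl
  · -- `Q < P`
    have hφ : conjHom Q y ∈ F.Hom Q :=
      (hF.2 Q _).2 ⟨hQP, y, fun u => rfl, le_of_subpairLE hy, f, hle, hy⟩
    have hrec := isReceptive_of_max hM hF hfy hy hfn
    set N := FusionSystem.extender P Q (conjHom Q y) with hN
    obtain ⟨ψ, hψ, hψφ⟩ : ∃ ψ ∈ F.Hom N, ∀ (x : G) (hP : x ∈ Q) (hN : x ∈ N),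
        ψ ⟨x, hN⟩ = conjHom Q y ⟨x, hP⟩ := hrec.2 Q (conjHom Q y) hφ (range_conjHom Q y)
    have hDN : P ⊓ 𝐍[Q] ≤ N := by
      rintro g ⟨hgP, hgN⟩
      refine Subgroup.subset_closure ⟨hgP, hgN, ?_⟩
      have hsg := stabilizes_of_mem_inf hM he hle hgP hgN
      have h1 := stabilizes_conj hsg hgN y
      have h2 : y * g * y⁻¹ ∈ 𝐍[Q ^^ y] := normalizer_conj (S := 𝐍[Q]) le_rfl y ⟨g, hgN, rfl⟩
      obtain ⟨d, hd, hdc⟩ := exists_decomp_of_regular hM hmax hfy hy hfn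
        (fun x hxN hxs hxr => reg_of_nil hM hmax hnil hy hxN hxs hxr) h2 h1
      refine ⟨d, hd.1, fun r hr => ?_⟩
      change y * (g * r * g⁻¹) * y⁻¹ = d * (y * r * y⁻¹) * d⁻¹
      have h3 := (Subgroup.mem_centralizer_iff.1 hdc) (y * r * y⁻¹) (conj_mem_conj Q y r.2)
      have h4 : (y * g * y⁻¹) * (y * r * y⁻¹) = d * (y * r * y⁻¹) * (d⁻¹ * (y * g * y⁻¹)) := by
        calc (y * g * y⁻¹) * (y * r * y⁻¹) = d * ((d⁻¹ * (y * g * y⁻¹)) * (y * r * y⁻¹)) := by group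
          _ = d * ((y * r * y⁻¹) * (d⁻¹ * (y * g * y⁻¹))) := by rw [h3]
          _ = _ := by group
      calc y * (g * r * g⁻¹) * y⁻¹ = (y * g * y⁻¹) * (y * r * y⁻¹) * (y * g * y⁻¹)⁻¹ := by group
        _ = d * (y * r * y⁻¹) * (d⁻¹ * (y * g * y⁻¹)) * (y * g * y⁻¹)⁻¹ := by rw [h4]
        _ = _ := by group
    have hQD : Q ≤ P ⊓ 𝐍[Q] := le_inf hQP (le_normalizer_self Q)
    have hQN : Q < N :=
      lt_of_lt_of_le (lt_inf_normalizer he.1 hlt) hDN
    have hNP : N ≤ P := ((hF.2 N ψ).1 hψ).1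
    obtain ⟨-, z, hz, -, g, hg, hgz⟩ := (hF.2 N ψ).1 hψ
    obtain ⟨u, hu, huz⟩ := hIH N hQN hNP g z hg hgz
    refine ⟨u, hu, fun q hq => ?_⟩
    have h1 := hψφ q hq (hQN.le hq)
    rw [hz] at h1
    change z * q * z⁻¹ = y * q * y⁻¹ at h1
    rw [← h1]
    exact huz q (hQN.le hq)
  · -- `Q = P`
    have hQe : (Q ^^ y) = Q := Subgroup.eq_of_le_of_card_ge (le_of_subpairLE hy)
      (by rw [Subgroup.card_map_of_injective (MulAut.conj y).injective])
    have hyN : y ∈ 𝐍[Q] := mem_normalizer_of_map_eq hQe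
    have hys := (chain_cp_iff_stabilizes hM he hf hle hyN).1 hy
    obtain ⟨d, hd, hdc⟩ := exists_decomp_of_regular hM hmax hf hle
      (fun x _ => Subgroup.card_le_of_le (le_inf inf_le_left (by
        intro z hz
        exact le_normalizer_self Q hz.1)))
      (fun x hxN hxs hxr => reg_of_nil hM hmax hnil hle hxN hxs hxr) hyN hys
    refine ⟨d, hd.1, fun q hq => ?_⟩
    have h3 := (Subgroup.mem_centralizer_iff.1 hdc) q hq
    calc y * q * y⁻¹ = d * ((d⁻¹ * y) * q) * y⁻¹ := by group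
      _ = d * (q * (d⁻¹ * y)) * y⁻¹ := by rw [← h3]
      _ = _ := by group

theorem card_map_conj (Q : Subgroup G) (x : G) : Nat.card (Q ^^ x : Subgroup G) = Nat.card Q :=
  Subgroup.card_map_of_injective (MulAut.conj x).injective

/-- **Nilpotent blocks have inner fusion.** -/
theorem star_of_nil (hM : IsPModular p M) (hF : IsBlockFusionSystemOn p M B P e F)
    (hnil : IsNilpotentBlock p M B) : ∀ Q : Subgroup G, Q ≤ P → Star p M P e Q := by
  have hmax := hF.1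
  have he := hmax.1.1
  have key : ∀ n : ℕ, ∀ Q : Subgroup G, Q ≤ P → Nat.card P - Nat.card Q = n → Star p M P e Q := by
    intro n
    induction n using Nat.strong_induction_on with
    | _ n ih =>
      intro Q hQP hn f x hle hx
      have hIH : ∀ A : Subgroup G, Nat.card A = Nat.card Q → ∀ R : Subgroup G, A < R → R ≤ P →
          Star p M P e R := by
        intro A hA R hAR hRP
        have h1 : Nat.card A < Nat.card R := card_lt_card_of_lt hAR
        have h2 : Nat.card R ≤ Nat.card P := Subgroup.card_le_of_le hRP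
        exact ih (Nat.card P - Nat.card R) (by omega) R hRP rfl
      have hf : IsPBlock M f := (isBrauerPair_of_subpairLE hle he).2
      have hfx := isPBlock_conjBlock (M := M) Q x hf
      obtain ⟨y, hy, hym⟩ := exists_max_conj hM
        (fun A : Subgroup G => Nat.card (P ⊓ 𝐍[A] : Subgroup G)) hle
      have hfn : Hfn p M P e (cp y ⟨Q, f⟩) := hym
      obtain ⟨u₁, hu₁, h₁⟩ := starStar hM hF hnil (hIH Q rfl) hle hf hy hfn
      have e1 : cp (y * x⁻¹) (cp x ⟨Q, f⟩) = cp y ⟨Q, f⟩ := by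
        rw [← cp_mul, inv_mul_cancel_right]
      have hy' : SubpairLE p M ((Q ^^ x) ^^ (y * x⁻¹)) (conjBlock (Q ^^ x) (y * x⁻¹) (conjBlock Q x f)) P e := by
        change Relation.ReflTransGen _ (cp (y * x⁻¹) (cp x ⟨Q, f⟩)) _
        rw [e1]
        exact hy
      have hfn' : Hfn p M P e (cp (y * x⁻¹) (cp x ⟨Q, f⟩)) := by
        rw [e1]
        exact hfn
      obtain ⟨u₂, hu₂, h₂⟩ := starStar hM hF hnil (hIH (Q ^^ x) (card_map_conj Q x)) hx hfx hy' hfn'
      refine ⟨u₂⁻¹ * u₁, P.mul_mem (P.inv_mem hu₂) hu₁, fun q hq => ?_⟩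
      have h3 := h₂ _ (conj_mem_conj Q x hq)
      have h4 := h₁ q hq
      have h5 : (y * x⁻¹) * (x * q * x⁻¹) * (y * x⁻¹)⁻¹ = y * q * y⁻¹ := by group
      rw [h5, h4] at h3
      calc x * q * x⁻¹ = u₂⁻¹ * (u₂ * (x * q * x⁻¹) * u₂⁻¹) * u₂ := by group
        _ = u₂⁻¹ * (u₁ * q * u₁⁻¹) * u₂ := by rw [h3]
        _ = _ := by group
  exact fun Q hQ => key _ Q hQ rfl

theorem hom_eq_inner_of_nil (hM : IsPModular p M) (hF : IsBlockFusionSystemOn p M B P e F)
    (hnil : IsNilpotentBlock p M B) (Q : Subgroup G) : F.Hom Q = (innerFusionSystem P).Hom Q := by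
  ext φ
  constructor
  · intro hφ
    obtain ⟨hQ, g, hg, hgP, f, h1, h2⟩ := (hF.2 Q φ).1 hφ
    obtain ⟨u, hu, huq⟩ := star_of_nil hM hF hnil Q hQ f g h1 h2
    exact ⟨hQ, u, hu, fun x => by rw [hg]; exact huq x x.2⟩
  · rintro ⟨hQ, u, hu, huφ⟩
    have : φ = conjHom Q u := by
      ext x
      exact huφ x
    rw [this]
    exact F.conj_mem hQ hu

/-- **Inner fusion implies nilpotent.** -/
theorem nil_of_inner (hM : IsPModular p M) (hF : IsBlockFusionSystemOn p M B P e F)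
    (h : ∀ Q : Subgroup G, F.Hom Q = (innerFusionSystem P).Hom Q) : IsNilpotentBlock p M B := by
  haveI := isPrime_of_isPModular hM
  have hmax := hF.1
  have he := hmax.1.1
  have hpp : p.Prime := Fact.out
  refine ⟨hmax.1.2.1, fun Q f hQf x hxN hxs hxr => ?_⟩
  obtain ⟨y, hy⟩ := exists_conj_subpairLE hM hmax hQf
  have hf'b := isPBlock_conjBlock (M := M) Q y hQf.1.2
  have hx'N : y * x * y⁻¹ ∈ 𝐍[Q ^^ y] := normalizer_conj (S := 𝐍[Q]) le_rfl y ⟨x, hxN, rfl⟩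
  have hs' := stabilizes_conj hxs hxN y
  have h1 := (chain_cp_iff_stabilizes hM he hf'b hy hx'N).2 hs'
  have hφ : conjHom (Q ^^ y) (y * x * y⁻¹) ∈ F.Hom (Q ^^ y) :=
    (hF.2 _ _).2 ⟨le_of_subpairLE hy, _, fun u => rfl, le_of_subpairLE h1, _, hy, h1⟩
  rw [h] at hφ
  obtain ⟨-, u, huP, hu⟩ := hφ
  have hu' : ∀ q : (Q ^^ y : Subgroup G), ((theta (T := 𝐍[Q ^^ y]) le_rfl ⟨y * x * y⁻¹, hx'N⟩ q : (Q ^^ y : Subgroup G)) : G) =
      u * q * u⁻¹ := hu
  have huN : u ∈ 𝐍[Q ^^ y] := mem_normalizer_of_aut hu'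
  have heq : theta (T := 𝐍[Q ^^ y]) le_rfl ⟨y * x * y⁻¹, hx'N⟩ = theta (T := 𝐍[Q ^^ y]) le_rfl ⟨u, huN⟩ := by
    ext q
    exact hu' q
  set α := theta (T := 𝐍[Q ^^ y]) le_rfl ⟨y * x * y⁻¹, hx'N⟩ with hα
  have h2 : orderOf α ∣ orderOf x := by
    have h3 : orderOf α ∣ orderOf (⟨y * x * y⁻¹, hx'N⟩ : (𝐍[Q ^^ y] : Subgroup G)) :=
      orderOf_map_dvd _ _
    rw [Subgroup.orderOf_mk] at h3
    have h4 : orderOf (y * x * y⁻¹) = orderOf x :=
      orderOf_injective (MulAut.conj y).toMonoidHom (MulAut.conj y).injective x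
    rwa [h4] at h3
  obtain ⟨k, hk⟩ := (IsPGroup.iff_orderOf.1 he.1) ⟨u, huP⟩
  have h5 : orderOf α ∣ p ^ k := by
    rw [← hk, heq]
    have h3 : orderOf (theta (T := 𝐍[Q ^^ y]) le_rfl ⟨u, huN⟩) ∣ orderOf (⟨u, huN⟩ : (𝐍[Q ^^ y] : Subgroup G)) :=
      orderOf_map_dvd _ _
    rw [Subgroup.orderOf_mk] at h3
    rwa [Subgroup.orderOf_mk]
  obtain ⟨j, -, hj⟩ := (Nat.dvd_prime_pow hpp).1 h5
  have hj0 : j = 0 := by
    by_contra hne
    exact hxr (dvd_trans (hj ▸ dvd_pow_self p hne) h2)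
  rw [hj0, pow_zero, orderOf_eq_one_iff] at hj
  have h6 := (mem_ker_theta (T := 𝐍[Q ^^ y]) le_rfl ⟨y * x * y⁻¹, hx'N⟩).1 hj
  have h7 := conj_inv_mem_centralizer Q y h6
  have e1 : y⁻¹ * (y * x * y⁻¹) * y = x := by group
  rwa [e1] at h7

/-- **A block is nilpotent iff its fusion system is inner.** -/
theorem isNilpotentBlock_iff_inner (hM : IsPModular p M) (hF : IsBlockFusionSystemOn p M B P e F) :
    IsNilpotentBlock p M B ↔ ∀ Q : Subgroup G, F.Hom Q = (innerFusionSystem P).Hom Q :=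
  ⟨fun h => hom_eq_inner_of_nil hM hF h, nil_of_inner hM hF⟩

section Abelian

/-- An abelian group normalizes all its subgroups. -/
theorem le_normalizer_of_abelian (hab : ∀ x ∈ P, ∀ y ∈ P, x * y = y * x) {Q : Subgroup G} (hQ : Q ≤ P) :
    P ≤ 𝐍[Q] := by
  intro a ha
  rw [Subgroup.mem_normalizer_iff]
  intro r
  constructor
  · intro hr
    rw [hab a ha r (hQ hr), mul_inv_cancel_right]
    exact hr
  · intro h
    have h1 : a⁻¹ * (a * r * a⁻¹) * a ∈ Q := by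
      have hr' := hQ h
      rw [hab _ (P.inv_mem ha) _ hr', inv_mul_cancel_right]
      exact h
    simpa [mul_assoc] using h1

/-- **Burnside's fusion theorem for blocks with abelian defect.** -/
theorem abelian_extend (hM : IsPModular p M) (hF : IsBlockFusionSystemOn p M B P e F)
    (hab : ∀ x ∈ P, ∀ y ∈ P, x * y = y * x) (hle : SubpairLE p M Q f P e) {x : G}
    (hx : SubpairLE p M (Q ^^ x) (conjBlock Q x f) P e) :
    ∃ z ∈ 𝐍[P], StabilizesBlock 𝐂[P] e z ∧ ∀ q ∈ Q, z * q * z⁻¹ = x * q * x⁻¹ := by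
  haveI := isPrime_of_isPModular hM
  have hmax := hF.1
  have he := hmax.1.1
  have hQP := le_of_subpairLE hle
  have hf : IsPBlock M f := (isBrauerPair_of_subpairLE hle he).2
  have hfx := isPBlock_conjBlock (M := M) Q x hf
  have hfn : ∀ y : G, SubpairLE p M ((Q ^^ x) ^^ y) (conjBlock (Q ^^ x) y (conjBlock Q x f)) P e →
      Nat.card (P ⊓ 𝐍[(Q ^^ x) ^^ y] : Subgroup G) ≤ Nat.card (P ⊓ 𝐍[Q ^^ x] : Subgroup G) := by
    intro y hy
    apply Subgroup.card_le_of_le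
    exact fun a ha => ⟨ha.1, le_normalizer_of_abelian hab (le_of_subpairLE hx) ha.1⟩
  have hφ : conjHom Q x ∈ F.Hom Q :=
    (hF.2 Q _).2 ⟨hQP, x, fun u => rfl, le_of_subpairLE hx, f, hle, hx⟩
  have hrec := isReceptive_of_max hM hF hfx hx hfn
  set N := FusionSystem.extender P Q (conjHom Q x) with hN
  obtain ⟨ψ, hψ, hψφ⟩ : ∃ ψ ∈ F.Hom N, ∀ (y : G) (hP : y ∈ Q) (hN : y ∈ N),
      ψ ⟨y, hN⟩ = conjHom Q x ⟨y, hP⟩ := hrec.2 Q (conjHom Q x) hφ (range_conjHom Q x)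
  obtain ⟨hNP, z, hz, -, g, hg, hgz⟩ := (hF.2 N ψ).1 hψ
  have hPN : P ≤ N := by
    intro a ha
    refine Subgroup.subset_closure ⟨ha, le_normalizer_of_abelian hab hQP ha, 1, P.one_mem, fun r hr => ?_⟩
    change x * (a * r * a⁻¹) * x⁻¹ = 1 * (x * r * x⁻¹) * 1⁻¹
    rw [hab a ha r (hQP r.2)]
    group
  have hNe : N = P := le_antisymm hNP hPN
  have key : ∀ A : Subgroup G, A = P → ∀ g' : Set (IrrCharacter 𝐂[A]), SubpairLE p M A g' P e →
      SubpairLE p M (A ^^ z) (conjBlock A z g') P e → z ∈ 𝐍[P] ∧ StabilizesBlock 𝐂[P] e z := by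
    rintro A rfl g' h1 h2
    have h3 : g' = e := eq_of_two_subpairLE hM he .refl h1
    subst h3
    have h4 : (A ^^ z) = A := Subgroup.eq_of_le_of_card_ge (le_of_subpairLE h2) (card_map_conj A z).ge
    have h5 : z ∈ 𝐍[A] := mem_normalizer_of_map_eq h4
    exact ⟨h5, (chain_cp_iff_stabilizes hM he he.2 .refl h5).1 h2⟩
  obtain ⟨h1, h2⟩ := key N hNe g hg hgz
  refine ⟨z, h1, h2, fun q hq => ?_⟩
  have h3 := hψφ q hq (hPN (hQP hq))
  rw [hz] at h3
  exact h3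

/-- **S4687.** -/
theorem isNilpotentBlock_iff_of_abelian (hM : IsPModular p M) (hmax : IsMaximalBrauerPair p M B P e)
    (hab : ∀ x ∈ P, ∀ y ∈ P, x * y = y * x) :
    IsNilpotentBlock p M B ↔
      ∀ x : G, x ∈ 𝐍[P] → StabilizesBlock 𝐂[P] e x → x ∈ 𝐂[P] := by
  haveI := isPrime_of_isPModular hM
  have he := hmax.1.1
  have hF := isBlockFusionSystemOn_blockFusion hM hmax
  constructor
  · intro hnil x hxN hxs
    have h1 := (chain_cp_iff_stabilizes hM he he.2 .refl hxN).2 hxs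
    obtain ⟨u, hu, huq⟩ := star_of_nil hM hF hnil P le_rfl e x .refl h1
    rw [Subgroup.mem_centralizer_iff]
    intro q hq
    have h2 := huq q hq
    rw [hab u hu q hq, mul_inv_cancel_right] at h2
    calc q * x = (x * q * x⁻¹) * x := by rw [h2]
      _ = x * q := by group
  · intro hT
    refine nil_of_inner hM hF fun Q => ?_
    ext φ
    constructor
    · intro hφ
      obtain ⟨hQ, g, hg, hgP, f, h1, h2⟩ := ((hF.2 Q φ).1 hφ)
      obtain ⟨z, hzN, hzs, hz⟩ := abelian_extend hM hF hab h1 h2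
      have hzC := hT z hzN hzs
      refine ⟨hQ, 1, P.one_mem, fun x => ?_⟩
      rw [hg, ← hz _ x.2]
      have := (Subgroup.mem_centralizer_iff.1 hzC) x (hQ x.2)
      rw [← this]
      group
    · rintro ⟨hQ, u, hu, huφ⟩
      have : φ = conjHom Q u := by
        ext x
        exact huφ x
      rw [this]
      exact (blockFusion hM hmax).conj_mem hQ hu

/-- **S4682.** -/
theorem stabilizers_of_abelian (hM : IsPModular p M) (hmax : IsMaximalBrauerPair p M B P e)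
    (hab : ∀ x ∈ P, ∀ y ∈ P, x * y = y * x) (hf : IsPBlock M f) (hle : SubpairLE p M Q f P e)
    {TQ TP : Subgroup G} (hTQ : ∀ y : G, y ∈ TQ ↔ y ∈ 𝐍[Q] ∧ StabilizesBlock 𝐂[Q] f y)
    (hTP : ∀ y : G, y ∈ TP ↔ y ∈ 𝐍[P] ∧ StabilizesBlock 𝐂[P] e y) :
    (∀ x ∈ TQ, ∃ y ∈ TP, ∃ c ∈ 𝐂[Q], x = y * c) ∧
      ((𝐂[Q]).subgroupOf TQ).index = ((TP ⊓ 𝐂[Q]).subgroupOf (TP ⊓ 𝐍[Q])).index := by
  haveI := isPrime_of_isPModular hM
  have he := hmax.1.1
  have hF := isBlockFusionSystemOn_blockFusion hM hmax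
  have hdec : ∀ x ∈ TQ, ∃ y ∈ TP, ∃ c ∈ 𝐂[Q], x = y * c := by
    intro x hx
    obtain ⟨h1, h2⟩ := (hTQ x).1 hx
    have h3 := (chain_cp_iff_stabilizes hM he hf hle h1).2 h2
    obtain ⟨z, hzN, hzs, hz⟩ := abelian_extend hM hF hab hle h3
    refine ⟨z, (hTP z).2 ⟨hzN, hzs⟩, z⁻¹ * x, ?_, by group⟩
    rw [Subgroup.mem_centralizer_iff]
    intro q hq
    have h4 := hz q hq
    calc q * (z⁻¹ * x) = z⁻¹ * (z * q * z⁻¹) * x := by group
      _ = z⁻¹ * (x * q * x⁻¹) * x := by rw [h4]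
      _ = z⁻¹ * x * q := by group
  refine ⟨hdec, ?_⟩
  obtain ⟨hQT, hCT, hTN⟩ := stab_facts hTQ
  have hATQ : TP ⊓ 𝐍[Q] ≤ TQ := by
    rintro y ⟨hy1, hy2⟩
    obtain ⟨h1, h2⟩ := (hTP y).1 hy1
    have h3 := relationCp hM y hle
    rw [cp_of_normalizer h1 (normalizer_le_normalizer_centralizer P h1),
      twistSet_eq_of_stabilizes he.2 h2] at h3
    exact (hTQ y).2 ⟨hy2, (chain_cp_iff_stabilizes hM he hf hle hy2).1 h3⟩
  have hKn : ((𝐂[Q]).subgroupOf TQ).Normal := by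
    refine ⟨fun n hn t => ?_⟩
    rw [Subgroup.mem_subgroupOf] at hn ⊢
    have := (Subgroup.mem_normalizer_iff.1 (normalizer_le_normalizer_centralizer Q (hTN t.2)) _).1 hn
    simpa using this
  set K := (𝐂[Q]).subgroupOf TQ with hK
  let f' : ↥(TP ⊓ 𝐍[Q]) →* TQ ⧸ K := (QuotientGroup.mk' K).comp (Subgroup.inclusion hATQ)
  have hsurj : Function.Surjective f' := by
    intro q
    obtain ⟨x, rfl⟩ := QuotientGroup.mk_surjective q
    obtain ⟨y, hy, c, hc, hxyc⟩ := hdec x x.2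
    have hyN : y ∈ 𝐍[Q] := by
      have h1 : y = (x : G) * c⁻¹ := by rw [hxyc]; group
      rw [h1]
      exact 𝐍[Q].mul_mem (hTN x.2) (𝐍[Q].inv_mem (mem_normalizer_of_mem_centralizer hc))
    refine ⟨⟨y, hy, hyN⟩, ?_⟩
    change ((QuotientGroup.mk' K) (Subgroup.inclusion hATQ ⟨y, hy, hyN⟩)) = _
    rw [QuotientGroup.mk'_apply, QuotientGroup.eq]
    rw [hK, Subgroup.mem_subgroupOf]
    change ((Subgroup.inclusion hATQ ⟨y, hy, hyN⟩ : TQ) : G)⁻¹ * x ∈ _
    change y⁻¹ * x ∈ _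
    rw [hxyc]
    simpa using hc
  have hker : f'.ker = (TP ⊓ 𝐂[Q]).subgroupOf (TP ⊓ 𝐍[Q]) := by
    ext t
    rw [MonoidHom.mem_ker, Subgroup.mem_subgroupOf]
    change (QuotientGroup.mk' K) (Subgroup.inclusion hATQ t) = 1 ↔ _
    rw [QuotientGroup.mk'_apply, QuotientGroup.eq_one_iff, hK, Subgroup.mem_subgroupOf]
    change (t : G) ∈ 𝐂[Q] ↔ _
    exact ⟨fun h => ⟨t.2.1, h⟩, fun h => h.2⟩
  rw [← hker, Subgroup.index_ker, MonoidHom.range_eq_top.2 hsurj, Subgroup.card_top]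
  rfl

end Abelian

/-- **S4688.** -/
theorem isNilpotentBlock_of_pair (hM : IsPModular p M) (hnil : IsNilpotentBlock p M B)
    (hQf : IsBrauerPairOf p M B Q f) : IsNilpotentBlock p M f := by
  haveI := isPrime_of_isPModular hM
  refine ⟨hQf.1.2, fun Rh g hg x hxN hxs hxr => ?_⟩
  set R' := Q ⊔ Rh.map (𝐂[Q]).subtype with hR'
  have m : CenMatch (T := 𝐂[Q]) Rh R' := by
    refine ⟨centralizer_le_centralizer le_sup_left, fun t => ?_⟩
    constructor
    · intro h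
      refine mem_centralizer_sup.2 ⟨t.2, ?_⟩
      rw [Subgroup.mem_centralizer_iff]
      rintro _ ⟨s, hs, rfl⟩
      exact congrArg Subtype.val ((Subgroup.mem_centralizer_iff.1 h) s hs)
    · intro h
      rw [Subgroup.mem_centralizer_iff]
      intro s hs
      apply Subtype.ext
      exact (Subgroup.mem_centralizer_iff.1 h) s (Subgroup.mem_sup_right ⟨s, hs, rfl⟩)
  have hRm : Rh.map (𝐂[Q]).subtype ≤ 𝐍[Q] := by
    rintro _ ⟨s, hs, rfl⟩
    exact mem_normalizer_of_mem_centralizer s.2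
  have hRp : IsPGroup p R' :=
    IsPGroup.to_sup_of_normal_left' hQf.1.1 (hg.1.1.map _) hRm
  have hn : IsNormalSubpair p M Q f R' (twistSetE m.iso g) := by
    refine ⟨hQf.1, ⟨hRp, isPBlock_twistSetE _ hg.1.2⟩, le_sup_left,
      sup_le (le_normalizer_self Q) hRm, ?_, ?_⟩
    · intro s hs
      have h1 : R' ≤ stabSub 𝐂[Q] f hQf.1.2 := by
        refine sup_le (fun q hq => ?_) ?_
        · refine stabilizes_of_centralizes (fun k hk => ?_) f
          rw [(Subgroup.mem_centralizer_iff.1 hk) q hq]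
          group
        · rintro _ ⟨c, -, rfl⟩
          exact stabilizes_of_mem_centralizer c.2 f
      exact h1 hs
    · rintro _ ⟨ξ, hξ, rfl⟩
      have h1 := hg.2.2 ξ hξ
      rw [brauerOmega_eq, m.brO_eq (α := subgroupBlockCoeff 𝐂[Q] f)
        (fun t => (subgroupBlockCoeff_eq_ext0 _ f ▸ (ext0_coe _ _ t).symm))] at h1
      rw [brauerOmega_eq]
      exact h1
  have hR'B := (isBrauerPairOf_iff_of_normal hM hnil.1 hn).1 hQf
  have hxN' : (x : G) ∈ 𝐍[R'] :=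
    normalizer_sup_of (mem_normalizer_of_mem_centralizer x.2) (mem_normalizer_map hxN)
  have hxs' := m.stabilizes_of_hat hxs
  have hxr' : IsPRegular p (x : G) := by
    unfold IsPRegular at hxr ⊢
    rwa [Subgroup.orderOf_coe] at *
  exact (m.iff x).2 (hnil.2 R' _ hR'B x hxN' hxs' hxr')

/-- The order of `C_P(Q)` along inner fusion. -/
theorem card_inf_centralizer_conj {u : G} (hu : u ∈ P) (Q : Subgroup G) :
    Nat.card (P ⊓ 𝐂[Q ^^ u] : Subgroup G) = Nat.card (P ⊓ 𝐂[Q] : Subgroup G) := by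
  have : (P ⊓ 𝐂[Q ^^ u] : Subgroup G) = ((P ⊓ 𝐂[Q] : Subgroup G) ^^ u) := by
    ext z
    rw [mem_conj_iff]
    constructor
    · rintro ⟨h1, h2⟩
      exact ⟨P.mul_mem (P.mul_mem (P.inv_mem hu) h1) hu, conj_inv_mem_centralizer Q u h2⟩
    · rintro ⟨h1, h2⟩
      refine ⟨?_, ?_⟩
      · have := P.mul_mem (P.mul_mem hu h1) (P.inv_mem hu)
        have e1 : u * (u⁻¹ * z * u) * u⁻¹ = z := by group
        rwa [e1] at this
      · have := conj_mem_centralizer Q u h2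
        have e1 : u * (u⁻¹ * z * u) * u⁻¹ = z := by group
        rwa [e1] at this
  rw [this, card_map_conj]

/-- `C_P(Q)` is a defect group for a nilpotent block. -/
theorem isDefectGroup_cen_of_nil (hM : IsPModular p M) (hmax : IsMaximalBrauerPair p M B P e)
    (hnil : IsNilpotentBlock p M B) (hf : IsPBlock M f) (hle : SubpairLE p M Q f P e) :
    IsDefectGroup p M f ((P ⊓ 𝐂[Q]).subgroupOf 𝐂[Q]) := by
  have hF := isBlockFusionSystemOn_blockFusion hM hmax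
  refine isDefectGroup_cen_of_max hM hmax hf hle fun y hy => ?_
  obtain ⟨u, hu, huq⟩ := star_of_nil hM hF hnil Q (le_of_subpairLE hle) f y hle hy
  have h1 : (Q ^^ y) = (Q ^^ u) := by
    ext z
    constructor
    · rintro ⟨q, hq, rfl⟩
      exact ⟨q, hq, (huq q hq).symm⟩
    · rintro ⟨q, hq, rfl⟩
      exact ⟨q, hq, huq q hq⟩
  rw [h1, card_inf_centralizer_conj hu]

end Cfsg.Agent.Lib.BrauerNil
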