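import Mathlib
import Cfsg.Agent.Lib.BlockCentralInvol
import Cfsg.Agent.Lib.BlockKL
import Cfsg.Agent.Lib.BrauerNil
import Cfsg.Agent.S4683
import Cfsg.Agent.Lib.InvolutionFusion
import Cfsg.Agent.Lib.RealChars

/-!
# Blocks with a Klein four defect group
-/

set_option autoImplicit false
set_option linter.unusedSectionVars false
set_option linter.unusedVariables false
set_option linter.style.haveILetI false

namespace Cfsg.Agent.Lib.KleinDefect

open Cfsg Cfsg.Agent.Lib.CharBasic Cfsg.Agent.Lib.CharInd Cfsg.Agent.Lib.CharIntegrality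
open Cfsg.Agent.Lib.BlockLocal Cfsg.Agent.Lib.BlockIdem Cfsg.Agent.Lib.BlockQ
open Cfsg.Agent.Lib.BlockOrtho Cfsg.Agent.Lib.BlockVal Cfsg.Agent.Lib.BlockMajor
open Cfsg.Agent.Lib.BlockUniform Cfsg.Agent.Lib.BlockDefect Cfsg.Agent.Lib.BlockInvol
open Cfsg.Agent.Lib.BrauerMap Cfsg.Agent.Lib.BrauerPair Cfsg.Agent.Lib.BrauerSub
open Cfsg.Agent.Lib.BrauerConj Cfsg.Agent.Lib.BrauerThird Cfsg.Agent.Lib.BrauerMax
open Cfsg.Agent.Lib.BrauerStab Cfsg.Agent.Lib.BrauerCen
open Cfsg.Agent.Lib.BrauerFull Cfsg.Agent.Lib.BrauerLift Cfsg.Agent.Lib.BrauerIdx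
open Cfsg.Agent.Lib.BrauerSat Cfsg.Agent.Lib.BrauerNil
open scoped ComplexConjugate

universe u

variable {G : Type u} [Group G] [Fintype G] {M : Ideal AlgInt}

local notation "𝐂[" R "]" => Subgroup.centralizer ((R : Subgroup G) : Set G)
local notation "𝐍[" R "]" => Subgroup.normalizer ((R : Subgroup G) : Set G)
local notation Q "^^" x => Subgroup.map (MulEquiv.toMonoidHom (MulAut.conj (x : G))) (Q : Subgroup G)

noncomputable local instance fintypeSubK (K : Subgroup G) : Fintype K := Fintype.ofFinite K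

section Klein

variable {P : Subgroup G} (hV : IsKleinFour P)
include hV

theorem order_of_mem {w : G} (hw : w ∈ P) (hw1 : w ≠ 1) : orderOf w = 2 := by
  have h1 : (⟨w, hw⟩ : P) ^ 2 = 1 := by
    have := Monoid.pow_exponent_eq_one (⟨w, hw⟩ : P)
    rwa [IsKleinFour.exponent_two] at this
  have h2 : w ^ 2 = 1 := by
    have := congrArg (Subtype.val) h1
    simpa using this
  exact orderOf_eq_prime h2 hw1

theorem comm_of_mem {x y : G} (hx : x ∈ P) (hy : y ∈ P) : x * y = y * x := by
  have h := (IsKleinFour.isMulCommutative (G := P)).is_comm.comm ⟨x, hx⟩ ⟨y, hy⟩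
  have := congrArg (Subtype.val) h
  simpa using this

theorem isPGroup_P : IsPGroup 2 P := by
  apply IsPGroup.of_card (n := 2)
  rw [IsKleinFour.card_four]
  norm_num

open scoped Classical in
/-- The nonidentity elements. -/
noncomputable def PS (P : Subgroup G) : Finset G :=
  Finset.univ.filter (fun w => w ∈ P ∧ w ≠ 1)

omit hV in
@[simp] theorem mem_PS {w : G} : w ∈ PS P ↔ w ∈ P ∧ w ≠ 1 := by
  classical
  simp [PS]

theorem card_PS : (PS P).card = 3 := by
  classical
  have h1 : (Finset.univ.filter (fun w => w ∈ P) : Finset G).card = 4 := by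
    have h2 := IsKleinFour.card_four (G := P)
    rw [Nat.card_eq_fintype_card, Fintype.card_subtype] at h2
    exact h2
  have h3 : (Finset.univ.filter (fun w => w ∈ P) : Finset G) = insert 1 (PS P) := by
    ext w
    simp only [Finset.mem_filter, Finset.mem_univ, true_and, Finset.mem_insert, mem_PS]
    constructor
    · intro h
      by_cases hw : w = 1
      · exact Or.inl hw
      · exact Or.inr ⟨h, hw⟩
    · rintro (rfl | h)
      · exact P.one_mem
      · exact h.1
  rw [h3, Finset.card_insert_of_notMem (by simp)] at h1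
  omega

theorem exists_mem_PS : ∃ w, w ∈ PS P := by
  have h := card_PS hV
  exact Finset.card_pos.mp (by omega)

/-- Three distinct elements fill `PS`. -/
theorem eq_of_three {a b c : G} (ha : a ∈ PS P) (hb : b ∈ PS P) (hc : c ∈ PS P) (hab : a ≠ b)
    (hac : a ≠ c) (hbc : b ≠ c) {w : G} (hw : w ∈ PS P) : w = a ∨ w = b ∨ w = c := by
  classical
  have h1 : ({a, b, c} : Finset G) ⊆ PS P := by
    intro x hx
    simp only [Finset.mem_insert, Finset.mem_singleton] at hx
    rcases hx with rfl | rfl | rfl <;> assumption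
  have h2 : ({a, b, c} : Finset G).card = 3 := Finset.card_eq_three.mpr ⟨a, b, c, hab, hac, hbc, rfl⟩
  have h3 := Finset.eq_of_subset_of_card_le h1 (by rw [card_PS hV, h2])
  rw [← h3] at hw
  simpa using hw

theorem mul_mem_PS {w u : G} (hw : w ∈ PS P) (hu : u ∈ PS P) (hne : w ≠ u) : w * u ∈ PS P := by
  rw [mem_PS] at hw hu ⊢
  refine ⟨P.mul_mem hw.1 hu.1, fun h => hne ?_⟩
  have h2 := order_of_mem hV hu.1 hu.2
  have h3 : u ^ 2 = 1 := pow_two_of_order h2
  calc w = w * (u * u) := by rw [← pow_two, h3, mul_one]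
    _ = (w * u) * u := by group
    _ = u := by rw [h, one_mul]

/-- An element centralizing two different nonidentity elements centralizes `P`. -/
theorem mem_centralizer_of_two {w u : G} (hw : w ∈ PS P) (hu : u ∈ PS P) (hne : w ≠ u) {t : G}
    (h1 : t * w * t⁻¹ = w) (h2 : t * u * t⁻¹ = u) : t ∈ 𝐂[P] := by
  have hwu := mul_mem_PS hV hw hu hne
  have hne1 : w ≠ w * u := fun h => (mem_PS.mp hu).2 (by simpa using h)
  have hne2 : u ≠ w * u := fun h => (mem_PS.mp hw).2 (by simpa using h)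
  rw [Subgroup.mem_centralizer_iff]
  intro v hv
  have hfix : t * v * t⁻¹ = v := by
    by_cases hv1 : v = 1
    · subst hv1
      simp
    · rcases eq_of_three hV hw hu hwu hne hne1 hne2 (mem_PS.mpr ⟨hv, hv1⟩) with rfl | rfl | rfl
      · exact h1
      · exact h2
      · calc t * (w * u) * t⁻¹ = (t * w * t⁻¹) * (t * u * t⁻¹) := by group
          _ = w * u := by rw [h1, h2]
  calc v * t = (t * v * t⁻¹) * t := by rw [hfix]
    _ = t * v := by group

end Klein

section Pair

variable {B : Set (IrrCharacter G)} {P : Subgroup G}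
  {e : Set (IrrCharacter (Subgroup.centralizer (P : Set G)))}

/-- The pair `(P, c)` is maximal. -/
theorem isMaximal (hM : IsPModular 2 M) (hPD : IsDefectGroup 2 M B P) (hPp : IsPGroup 2 P)
    (hc : IsInducedBlock M 𝐂[P] e B) : IsMaximalBrauerPair 2 M B P e := by
  have hB := hc.2.1
  refine ⟨Cfsg.Agent.Lib.BlockSection.isBrauerPairOf_of_isInducedBlock hM hPp hc, fun R g hR hle => ?_⟩
  obtain ⟨R', g', hmax', hle'⟩ := exists_maximal_above hM hR
  have hD' := isDefectGroup_of_maximal hM hmax'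
  have h1 := card_isDefectGroup hM hB hD'
  have h2 := card_isDefectGroup hM hB hPD
  have hPR := le_of_subpairLE hle
  have hRR' := le_of_subpairLE hle'
  symm
  apply Subgroup.eq_of_le_of_card_ge hPR
  calc Nat.card R ≤ Nat.card R' := Subgroup.card_le_of_le hRR'
    _ = Nat.card P := by rw [h1, h2]

variable (hV : IsKleinFour P) (hM : IsPModular 2 M)
  (hmax : IsMaximalBrauerPair 2 M B P e)
include hV hM hmax

/-- The local block below `(P, c)`. -/
theorem exists_local {w : G} (hw : w ∈ PS P) :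
    ∃ f : Set (IrrCharacter 𝐂[Subgroup.zpowers w]), IsPBlock M f ∧
      SubpairLE 2 M (Subgroup.zpowers w) f P e ∧ blockDefect 2 f = 2 ∧
      IsInducedBlock M 𝐂[Subgroup.zpowers w] f B ∧
      ∃ θ ∈ f, ∀ ξ ∈ f, ∀ s : 𝐂[Subgroup.zpowers w], ¬ 2 ∣ orderOf s →
        (ξ : 𝐂[Subgroup.zpowers w] → ℂ) s = (θ : 𝐂[Subgroup.zpowers w] → ℂ) s := by
  classical
  have hMp := hM.2.1.isPrime
  obtain ⟨hwP, hw1⟩ := mem_PS.mp hw
  have horder := order_of_mem hV hwP hw1
  have hQP : Subgroup.zpowers w ≤ P := (Subgroup.zpowers_le).mpr hwP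
  obtain ⟨f, hf, hle⟩ := exists_subpairLE hM hmax.1.1 hQP
  have hPC : P ≤ 𝐂[Subgroup.zpowers w] := by
    intro a ha
    rw [Subgroup.mem_centralizer_iff]
    intro q hq
    exact comm_of_mem hV (hQP hq) ha
  have hinf : P ⊓ 𝐂[Subgroup.zpowers w] = P := inf_eq_left.mpr hPC
  have hD := isDefectGroup_cen_of_max hM hmax hf hle (fun y hy => by
    rw [hinf]
    exact Subgroup.card_le_of_le inf_le_left)
  have hdf : blockDefect 2 f = 2 := by
    have h1 := card_isDefectGroup hM hf hD
    rw [hinf, Nat.card_congr (Subgroup.subgroupOfEquivOfLe hPC).toEquiv, IsKleinFour.card_four] at h1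
    have h2 : (2 : ℕ) ^ 2 = 2 ^ blockDefect 2 f := by simpa using h1
    exact (Nat.pow_right_injective (le_refl 2) h2).symm
  have hQf : IsBrauerPairOf 2 M B (Subgroup.zpowers w) f :=
    (isBrauerPairOf_iff_of_le hM hmax.1.2.1 hle).2 hmax.1
  have hind := Cfsg.Agent.S4683.isInducedBlock_of_isBrauerPairOf hM hQf
  refine ⟨f, hf, hle, hdf, hind, ?_⟩
  -- the central involution
  set zH : 𝐂[Subgroup.zpowers w] := ⟨w, by
    rw [Subgroup.mem_centralizer_iff]
    intro q hq
    obtain ⟨k, rfl⟩ := Subgroup.mem_zpowers_iff.mp hq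
    exact (Commute.zpow_left (Commute.refl w) k)⟩ with hzH
  have hzo : orderOf zH = 2 := by
    rw [← Subgroup.orderOf_coe]
    exact horder
  have hzc : ∀ c' : 𝐂[Subgroup.zpowers w], zH * c' = c' * zH := by
    intro c'
    apply Subtype.ext
    have := (Subgroup.mem_centralizer_iff.mp c'.2) w (Subgroup.mem_zpowers w)
    exact this
  exact Cfsg.Agent.Lib.BlockCentralInvol.uniform_of_central hM hzo hzc hf hdf

/-- The defect of `B` is two. -/
theorem blockDefect_eq (hPD : IsDefectGroup 2 M B P) : blockDefect 2 B = 2 := by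
  have h1 := card_isDefectGroup hM hmax.1.2.1 hPD
  rw [IsKleinFour.card_four] at h1
  have h2 : (2 : ℕ) ^ 2 = 2 ^ blockDefect 2 B := by simpa using h1
  exact (Nat.pow_right_injective (le_refl 2) h2).symm

/-- **The block has four members.** -/
theorem card_bF_eq (hPD : IsDefectGroup 2 M B P) : (bF B).card = 4 := by
  classical
  have hMp := hM.2.1.isPrime
  obtain ⟨w, hw⟩ := exists_mem_PS hV
  obtain ⟨hwP, hw1⟩ := mem_PS.mp hw
  have horder := order_of_mem hV hwP hw1
  obtain ⟨f, hf, hle, hdf, hind, θ, hθ, hreg⟩ := exists_local hV hM hmax hw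
  have hH : 𝐂[Subgroup.zpowers w] = Subgroup.centralizer ({w} : Set G) :=
    Cfsg.Agent.Lib.BlockSecond.centralizer_zpowers_eq w
  have hy : ∃ k : ℕ, orderOf w = 2 ^ k := ⟨1, by rw [horder, pow_one]⟩
  choose n hn using exists_int_cc (b := f) hH (pow_two_of_order horder)
  have hconj : ∀ χ, cc hH f χ * conj (cc hH f χ) = ((n χ ^ 2 : ℤ) : ℂ) := by
    intro χ
    rw [hn, map_intCast]
    push_cast
    ring
  have hsum : ∑ χ ∈ bF B, n χ ^ 2 = 4 := by
    have h1 := sum_cc hM hy hH hind hθ hreg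
    rw [hdf, Finset.sum_congr rfl fun χ _ => hconj χ] at h1
    have h2 : ((∑ χ ∈ bF B, n χ ^ 2 : ℤ) : ℂ) = ((4 : ℤ) : ℂ) := by
      push_cast at h1 ⊢
      rw [h1]
    exact_mod_cast h2
  have hdB := blockDefect_eq hV hM hmax hPD
  have hodd : ∀ χ ∈ bF B, ¬ (2 : ℤ) ∣ n χ := by
    intro χ hχ h2
    have hχ' := mem_bF.mp hχ
    have h0 := height_zero_of_defect_le hM hmax.1.2.1 (by omega) hχ'
    have h1 := not_memLocalIdeal_cc hM hy hH hind hθ hreg hχ' hχ' h0 h0
    rw [hconj] at h1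
    apply h1
    have h3 := (memLocalIdeal_intCast_iff hM (n := n χ ^ 2)).2
    exact h3 (by push_cast; exact dvd_pow h2 (by norm_num))
  exact (card_eq_four_of_sum_sq (bF B) n hodd hsum).1

end Pair

section Rank

variable {p : ℕ} {X : Type u} [Group X] [Fintype X]

theorem blockRank_pos (hM : IsPModular p M) {F : Set (IrrCharacter X)} (hF : IsPBlock M F) :
    1 ≤ blockRank p F := by
  haveI := isPrime_of_isPModular hM
  obtain ⟨ξ, hξ⟩ := isPBlock_nonempty hF
  unfold blockRank
  have h1 : 0 < Module.finrank ℂ ↥(Submodule.span ℂ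
      ((fun χ : IrrCharacter X => pRegularPart p (χ : X → ℂ)) '' F)) := by
    rw [Module.finrank_pos_iff_exists_ne_zero]
    refine ⟨⟨pRegularPart p (ξ : X → ℂ), Submodule.subset_span ⟨ξ, hξ, rfl⟩⟩, fun h => ?_⟩
    have h2 := congrArg Subtype.val h
    have h3 := congrFun h2 1
    change pRegularPart p (ξ : X → ℂ) 1 = 0 at h3
    rw [pRegularPart_of_reg _ (by simp [hM.1.one_lt.ne'])] at h3
    exact irr_one_ne_zero' ξ.2 h3
  exact h1

theorem blockRank_eq_one_of_agree (hM : IsPModular p M) {b : Set (IrrCharacter X)}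
    {θ : IrrCharacter X} (hθ : θ ∈ b)
    (h : ∀ τ ∈ b, ∀ x : X, ¬ p ∣ orderOf x → (τ : X → ℂ) x = (θ : X → ℂ) x) :
    blockRank p b = 1 := by
  classical
  have himg : (fun χ : IrrCharacter X => pRegularPart p (χ : X → ℂ)) '' b =
      {pRegularPart p (θ : X → ℂ)} := by
    ext f
    constructor
    · rintro ⟨τ, hτ, rfl⟩
      apply Set.mem_singleton_iff.mpr
      funext x
      show pRegularPart p (τ : X → ℂ) x = pRegularPart p (θ : X → ℂ) x
      by_cases hx : p ∣ orderOf x
      · rw [pRegularPart_of_sing _ hx, pRegularPart_of_sing _ hx]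
      · rw [pRegularPart_of_reg _ hx, pRegularPart_of_reg _ hx, h τ hτ x hx]
    · intro hf
      exact ⟨θ, hθ, (Set.mem_singleton_iff.mp hf).symm⟩
  unfold blockRank
  rw [himg]
  apply finrank_span_singleton
  intro h0
  have h1 := congrFun h0 1
  rw [pRegularPart_of_reg _ (by simp [hM.1.one_lt.ne'])] at h1
  exact irr_one_ne_zero' θ.2 h1

end Rank

section Sum

open scoped Classical in
/-- The sum over a conjugacy class of the order of the centralizer. -/
theorem sum_conj_card (w : G) :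
    ∑ z : G, (if IsConj w z then Nat.card 𝐂[Subgroup.zpowers z] else 0) = Nat.card G := by
  classical
  have h1 : ∀ z : G, (if IsConj w z then Nat.card 𝐂[Subgroup.zpowers z] else 0) =
      if IsConj w z then Nat.card (Subgroup.centralizer ({w} : Set G)) else 0 := by
    intro z
    by_cases hz : IsConj w z
    · rw [if_pos hz, if_pos hz, Cfsg.Agent.Lib.BlockSecond.centralizer_zpowers_eq z]
      obtain ⟨c, rfl⟩ := _root_.isConj_iff.mp hz
      exact Cfsg.Agent.Lib.RealChars.card_centralizer_conj c w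
    · rw [if_neg hz, if_neg hz]
  rw [Finset.sum_congr rfl fun z _ => h1 z, ← Finset.sum_filter, Finset.sum_const, smul_eq_mul]
  rw [← Cfsg.Agent.Lib.InvolutionFusion.card_conj_mul_card_centralizer w]
  congr 1
  rw [Nat.card_eq_fintype_card, Fintype.card_subtype]

end Sum

section Index

variable {P T : Subgroup G} (hV : IsKleinFour P)
include hV

/-- Conjugacy by a non-central element with `t ^ 3` central. -/
theorem exists_conj_of_three (hTN : T ≤ 𝐍[P]) {t : G} (htT : t ∈ T) (htC : t ∉ 𝐂[P])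
    (ht3 : t ^ 3 ∈ 𝐂[P]) {w w' : G} (hw : w ∈ PS P) (hw' : w' ∈ PS P) :
    ∃ s ∈ T, s * w * s⁻¹ = w' := by
  classical
  have hconj : ∀ u ∈ PS P, t * u * t⁻¹ ∈ PS P := by
    intro u hu
    obtain ⟨hu1, hu2⟩ := mem_PS.mp hu
    refine mem_PS.mpr ⟨(Subgroup.mem_normalizer_iff.mp (hTN htT) u).mp hu1, fun h => hu2 ?_⟩
    have : t * u * t⁻¹ = t * 1 * t⁻¹ := by rw [h]; group
    exact mul_left_cancel (mul_right_cancel this)
  have hinj : ∀ a b : G, t * a * t⁻¹ = t * b * t⁻¹ → a = b := fun a b h =>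
    mul_left_cancel (mul_right_cancel h)
  have hcube : ∀ u ∈ P, t * (t * (t * u * t⁻¹) * t⁻¹) * t⁻¹ = u := by
    intro u hu
    have h1 := (Subgroup.mem_centralizer_iff.mp ht3) u hu
    calc t * (t * (t * u * t⁻¹) * t⁻¹) * t⁻¹ = t ^ 3 * u * (t ^ 3)⁻¹ := by
          simp only [pow_succ, pow_zero, one_mul, mul_inv_rev]; group
      _ = u := by rw [← h1]; group
  have hnofix : ∀ u ∈ PS P, t * u * t⁻¹ ≠ u := by
    intro u hu hfix
    -- a second element
    obtain ⟨v, hv, hvu⟩ : ∃ v ∈ PS P, v ≠ u := by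
      have h3 := card_PS hV
      by_contra hcon
      push Not at hcon
      have : PS P ⊆ {u} := fun x hx => by simpa using hcon x hx
      have h4 := Finset.card_le_card this
      simp at h4
      omega
    have huv : u ≠ v := hvu.symm
    have huvm := mul_mem_PS hV hu hv huv
    have hne1 : u ≠ u * v := fun h => (mem_PS.mp hv).2 (by simpa using h)
    have hne2 : v ≠ u * v := fun h => (mem_PS.mp hu).2 (by simpa using h)
    have hv' := hconj v hv
    have hv'u : t * v * t⁻¹ ≠ u := fun h => huv (by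
      have := hinj u v (by rw [hfix, h])
      exact this)
    rcases eq_of_three hV hu hv huvm huv hne1 hne2 hv' with h | h | h
    · exact absurd h hv'u
    · exact htC (mem_centralizer_of_two hV hu hv huv hfix h)
    · have hu2 : u * u = 1 := by
        rw [← pow_two]
        exact pow_two_of_order (order_of_mem hV (mem_PS.mp hu).1 (mem_PS.mp hu).2)
      have h5 : t * (u * v) * t⁻¹ = v := by
        calc t * (u * v) * t⁻¹ = (t * u * t⁻¹) * (t * v * t⁻¹) := by group
          _ = u * (u * v) := by rw [hfix, h]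
          _ = v := by rw [← mul_assoc, hu2, one_mul]
      have h6 := hcube v (mem_PS.mp hv).1
      rw [h, h5, h] at h6
      exact hne2 h6.symm
  -- three distinct elements
  have h1 := hconj w hw
  have h2 := hconj _ h1
  have hne1 : w ≠ t * w * t⁻¹ := (hnofix w hw).symm
  have hne2 : t * w * t⁻¹ ≠ t * (t * w * t⁻¹) * t⁻¹ := (hnofix _ h1).symm
  have hne3 : w ≠ t * (t * w * t⁻¹) * t⁻¹ := by
    intro h
    have h3 := hcube w (mem_PS.mp hw).1
    rw [← h] at h3
    exact hne1 h3.symm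
  rcases eq_of_three hV hw h1 h2 hne1 hne3 hne2 hw' with h | h | h
  · exact ⟨1, T.one_mem, by rw [h]; group⟩
  · exact ⟨t, htT, h.symm⟩
  · refine ⟨t * t, T.mul_mem htT htT, ?_⟩
    rw [h]
    group

/-- The order of the image of the action on `P` divides six. -/
theorem index_dvd_six (hTN : T ≤ 𝐍[P]) : ((theta hTN).ker).index ∣ 6 := by
  classical
  rw [Subgroup.index_ker]
  -- the action on the nonidentity elements
  let φ : MulAut P →* Equiv.Perm {w : P // w ≠ 1} :=
    { toFun := fun σ => σ.toEquiv.subtypeEquiv (fun w => by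
        simp only [ne_eq, MulEquiv.toEquiv_eq_coe, EquivLike.coe_coe, map_eq_one_iff σ σ.injective])
      map_one' := by
        ext w
        rfl
      map_mul' := fun a b => by
        ext w
        rfl }
  have hφ : Function.Injective φ := by
    intro a b hab
    ext w
    by_cases hw : w = 1
    · subst hw
      simp
    · have := congrArg (fun π : Equiv.Perm {w : P // w ≠ 1} => ((π ⟨w, hw⟩ : P) : G)) hab
      exact this
  have hcard : Nat.card (Equiv.Perm {w : P // w ≠ 1}) = 6 := by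
    have h1 : Fintype.card {w : P // w ≠ 1} = 3 := by
      rw [Fintype.card_subtype_compl, Fintype.card_subtype_eq]
      have h2 := IsKleinFour.card_four (G := P)
      rw [Nat.card_eq_fintype_card] at h2
      omega
    rw [Nat.card_eq_fintype_card, Fintype.card_perm, h1]
    rfl
  rw [← hcard]
  let g : (theta hTN).range →* Equiv.Perm {w : P // w ≠ 1} := φ.comp (theta hTN).range.subtype
  exact Subgroup.card_dvd_of_injective g (hφ.comp Subtype.val_injective)

end Index

section Main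

open Cfsg.Agent.Lib.BlockKL

variable {B : Set (IrrCharacter G)} {P : Subgroup G}
  {e : Set (IrrCharacter (Subgroup.centralizer (P : Set G)))}

theorem exists_eq_pair (a : BrauerPairIdx G) {Q : Subgroup G} (h : a.1 = Q) :
    ∃ F : Set (IrrCharacter 𝐂[Q]), a = ⟨Q, F⟩ := by
  subst h
  exact ⟨a.2, rfl⟩

theorem map_zpowers (w x : G) : (Subgroup.zpowers w ^^ x) = Subgroup.zpowers (x * w * x⁻¹) := by
  ext y
  rw [mem_conj_iff, Subgroup.mem_zpowers_iff, Subgroup.mem_zpowers_iff]
  constructor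
  · rintro ⟨k, hk⟩
    refine ⟨k, ?_⟩
    have h1 : (x * w * x⁻¹) ^ k = x * w ^ k * x⁻¹ := conj_zpow
    rw [h1, hk]
    group
  · rintro ⟨k, hk⟩
    refine ⟨k, ?_⟩
    have h1 : (x * w * x⁻¹) ^ k = x * w ^ k * x⁻¹ := conj_zpow
    rw [← hk, h1]
    group

theorem isBrauerPairOf_transport {a b : BrauerPairIdx G} (h : a = b)
    (ha : IsBrauerPairOf 2 M B a.1 a.2) : IsBrauerPairOf 2 M B b.1 b.2 := h ▸ ha

theorem chain_transport {a b : BrauerPairIdx G} {R : Subgroup G} {g : Set (IrrCharacter 𝐂[R])}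
    (h : a = b) (ha : SubpairLE 2 M a.1 a.2 R g) : SubpairLE 2 M b.1 b.2 R g := h ▸ ha

variable (hV : IsKleinFour P) (hM : IsPModular 2 M)
  (hmax : IsMaximalBrauerPair 2 M B P e)
include hV hM hmax

/-- **No fusion**: the pair of `w` is conjugate to the pair of `w'` by an element of the stabilizer. -/
theorem exists_stab_of_cp {w w' : G} (hw : w ∈ PS P) {f : Set (IrrCharacter 𝐂[Subgroup.zpowers w])}
    {f' : Set (IrrCharacter 𝐂[Subgroup.zpowers w'])} (hle : SubpairLE 2 M (Subgroup.zpowers w) f P e)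
    (hle' : SubpairLE 2 M (Subgroup.zpowers w') f' P e) {y : G}
    (hy : cp y ⟨Subgroup.zpowers w, f⟩ = ⟨Subgroup.zpowers w', f'⟩) (hyw : y * w * y⁻¹ = w') :
    ∃ t ∈ 𝐍[P], StabilizesBlock 𝐂[P] e t ∧ t * w * t⁻¹ = w' := by
  haveI := isPrime_of_isPModular hM
  have hF := isBlockFusionSystemOn_blockFusion hM hmax
  have hab : ∀ x ∈ P, ∀ y ∈ P, x * y = y * x := fun x hx y hy => comm_of_mem hV hx hy
  have hx : SubpairLE 2 M (Subgroup.zpowers w ^^ y) (conjBlock (Subgroup.zpowers w) y f) P e :=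
    chain_transport (a := ⟨Subgroup.zpowers w', f'⟩) (b := cp y ⟨Subgroup.zpowers w, f⟩) hy.symm hle'
  obtain ⟨t, ht1, ht2, ht3⟩ := abelian_extend hM hF hab hle hx
  exact ⟨t, ht1, ht2, by rw [ht3 w (Subgroup.mem_zpowers w), hyw]⟩

open scoped Classical in
/-- The sum of the ranks of the blocks of the centralizer inducing `B`. -/
noncomputable def Ln (M : Ideal AlgInt) (B : Set (IrrCharacter G)) (z : G) : ℕ :=
  ∑ F : BlockT M 𝐂[Subgroup.zpowers z],
    if IsInducedBlock M 𝐂[Subgroup.zpowers z] F.1 B then blockRank 2 F.1 else 0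

omit hV hM hmax in
theorem vz_eq_Ln (hM : IsPModular 2 M) (hB : IsPBlock M B) {z : G} (hz : ∃ k : ℕ, orderOf z = 2 ^ k) :
    vz 2 B z = ((Nat.card 𝐂[Subgroup.zpowers z] * Ln M B z : ℕ) : ℂ) := by
  classical
  rw [vz_eq' hM hB hz (Cfsg.Agent.Lib.BlockSecond.centralizer_zpowers_eq z), Ln, Nat.cast_mul,
    Nat.cast_sum]
  congr 1
  refine Finset.sum_congr rfl fun F _ => ?_
  by_cases hF : IsInducedBlock M 𝐂[Subgroup.zpowers z] F.1 B
  · rw [if_pos hF, if_pos hF]
  · rw [if_neg hF, if_neg hF, Nat.cast_zero]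

open scoped Classical in
/-- Lower bound in the case of a trivial stabilizer. -/
theorem card_le_Ln (htriv : ∀ t ∈ 𝐍[P], StabilizesBlock 𝐂[P] e t → t ∈ 𝐂[P]) (z : G) :
    ((PS P).filter (fun w => IsConj w z)).card ≤ Ln M B z := by
  classical
  haveI := isPrime_of_isPModular hM
  have hB := hmax.1.2.1
  have hloc := fun w (hw : w ∈ PS P) => exists_local hV hM hmax hw
  choose! f hf using hloc
  -- the conjugating elements
  have hex : ∀ w ∈ (PS P).filter (fun w => IsConj w z), ∃ x : G, x * w * x⁻¹ = z := by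
    intro w hw
    exact _root_.isConj_iff.mp (Finset.mem_filter.mp hw).2
  choose! x hx using hex
  have hpair : ∀ w ∈ (PS P).filter (fun w => IsConj w z),
      ∃ F : Set (IrrCharacter 𝐂[Subgroup.zpowers z]),
        cp (x w) ⟨Subgroup.zpowers w, f w⟩ = ⟨Subgroup.zpowers z, F⟩ := by
    intro w hw
    apply exists_eq_pair
    change (Subgroup.zpowers w ^^ (x w)) = _
    rw [map_zpowers, hx w hw]
  choose! F hF using hpair
  have hFB : ∀ w ∈ (PS P).filter (fun w => IsConj w z), IsBrauerPairOf 2 M B (Subgroup.zpowers z) (F w) := by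
    intro w hw
    have hw' := (Finset.mem_filter.mp hw).1
    obtain ⟨h1, h2, h3, h4, h5⟩ := hf w hw'
    have hQf : IsBrauerPairOf 2 M B (Subgroup.zpowers w) (f w) :=
      (isBrauerPairOf_iff_of_le hM hmax.1.2.1 h2).2 hmax.1
    have h6 := isBrauerPairOf_conj hM hQf (x w)
    exact isBrauerPairOf_transport (a := cp (x w) ⟨Subgroup.zpowers w, f w⟩)
      (b := ⟨Subgroup.zpowers z, F w⟩) (hF w hw) h6
  -- the map to blocks
  let Φ : G → BlockT M 𝐂[Subgroup.zpowers z] := fun w =>
    if hw : w ∈ (PS P).filter (fun w => IsConj w z) then ⟨F w, (hFB w hw).1.2⟩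
    else ⟨blockOf M ((Cfsg.Agent.Lib.BlockNormal.irrOne _ : IrrCharacter 𝐂[Subgroup.zpowers z]) : 𝐂[Subgroup.zpowers z] → ℂ), ⟨_, rfl⟩⟩
  have hΦ : ∀ w (hw : w ∈ (PS P).filter (fun w => IsConj w z)), (Φ w).1 = F w := by
    intro w hw
    simp only [Φ, dif_pos hw]
  have hinj : Set.InjOn Φ ((PS P).filter (fun w => IsConj w z)) := by
    intro w hw w' hw' hΦΦ
    have hw1 : w ∈ (PS P).filter (fun w => IsConj w z) := hw
    have hw2 : w' ∈ (PS P).filter (fun w => IsConj w z) := hw'
    have h1 : F w = F w' := by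
      rw [← hΦ w hw1, ← hΦ w' hw2, hΦΦ]
    have h2 : cp (x w) ⟨Subgroup.zpowers w, f w⟩ = cp (x w') ⟨Subgroup.zpowers w', f w'⟩ := by
      rw [hF w hw1, hF w' hw2, h1]
    have h3 : cp ((x w')⁻¹ * x w) ⟨Subgroup.zpowers w, f w⟩ = ⟨Subgroup.zpowers w', f w'⟩ := by
      rw [cp_mul, h2, cp_inv_cp]
    have h4 : ((x w')⁻¹ * x w) * w * ((x w')⁻¹ * x w)⁻¹ = w' := by
      have e1 := hx w hw1
      have e2 := hx w' hw2
      calc ((x w')⁻¹ * x w) * w * ((x w')⁻¹ * x w)⁻¹ = (x w')⁻¹ * (x w * w * (x w)⁻¹) * x w' := by group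
        _ = (x w')⁻¹ * (x w' * w' * (x w')⁻¹) * x w' := by rw [e1, e2]
        _ = w' := by group
    have hwPS := (Finset.mem_filter.mp hw1).1
    have hw'PS := (Finset.mem_filter.mp hw2).1
    obtain ⟨t, ht1, ht2, ht3⟩ := exists_stab_of_cp hV hM hmax hwPS (hf w hwPS).2.1 (hf w' hw'PS).2.1 h3 h4
    have h5 := htriv t ht1 ht2
    have h6 := (Subgroup.mem_centralizer_iff.mp h5) w (mem_PS.mp hwPS).1
    rw [← ht3, ← h6]
    group
  have hle := Finset.card_le_card_of_injOn Φ (s := (PS P).filter (fun w => IsConj w z))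
    (t := Finset.univ.filter (fun F : BlockT M 𝐂[Subgroup.zpowers z] =>
      IsInducedBlock M 𝐂[Subgroup.zpowers z] F.1 B)) (fun w hw => by
        have hw1 : w ∈ (PS P).filter (fun w => IsConj w z) := hw
        refine Finset.mem_coe.mpr (Finset.mem_filter.mpr ⟨Finset.mem_univ _, ?_⟩)
        rw [hΦ w hw1]
        exact Cfsg.Agent.S4683.isInducedBlock_of_isBrauerPairOf hM (hFB w hw1)) hinj
  refine hle.trans ?_
  unfold Ln
  rw [← Finset.sum_filter, Finset.card_eq_sum_ones]
  exact Finset.sum_le_sum fun F _ => blockRank_pos hM F.2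

/-- **The rank in the case of a trivial stabilizer.** -/
theorem blockRank_eq_one (hPD : IsDefectGroup 2 M B P)
    (htriv : ∀ t ∈ 𝐍[P], StabilizesBlock 𝐂[P] e t → t ∈ 𝐂[P]) : blockRank 2 B = 1 := by
  classical
  have hB := hmax.1.2.1
  have h1 := card_sub_rank hM hB
  rw [card_bF_eq hV hM hmax hPD] at h1
  set A : ℕ := ∑ z : G, if (∃ k : ℕ, orderOf z = 2 ^ k) ∧ z ≠ 1 then
    Nat.card 𝐂[Subgroup.zpowers z] * Ln M B z else 0 with hA
  have h2 : (∑ z : G, if (∃ k : ℕ, orderOf z = 2 ^ k) ∧ z ≠ 1 then vz 2 B z else 0) = (A : ℂ) := by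
    rw [hA]
    push_cast
    refine Finset.sum_congr rfl fun z _ => ?_
    by_cases hz : (∃ k : ℕ, orderOf z = 2 ^ k) ∧ z ≠ 1
    · rw [if_pos hz, if_pos hz, vz_eq_Ln hM hB hz.1]
      push_cast
      rfl
    · rw [if_neg hz, if_neg hz]
  rw [h2] at h1
  have h3 : Nat.card G * 4 = Nat.card G * blockRank 2 B + A := by
    have : ((Nat.card G * 4 : ℕ) : ℂ) = ((Nat.card G * blockRank 2 B + A : ℕ) : ℂ) := by
      push_cast
      rw [← h1]
      ring
    exact_mod_cast this
  have h4 : 3 * Nat.card G ≤ A := by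
    have h5 : ∑ z : G, Nat.card 𝐂[Subgroup.zpowers z] * ((PS P).filter (fun w => IsConj w z)).card ≤ A := by
      rw [hA]
      refine Finset.sum_le_sum fun z _ => ?_
      by_cases hz : (∃ k : ℕ, orderOf z = 2 ^ k) ∧ z ≠ 1
      · rw [if_pos hz]
        exact Nat.mul_le_mul_left _ (card_le_Ln hV hM hmax htriv z)
      · rw [if_neg hz]
        have h6 : (PS P).filter (fun w => IsConj w z) = ∅ := by
          rw [Finset.filter_eq_empty_iff]
          intro w hw hwz
          apply hz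
          obtain ⟨hw1, hw2⟩ := mem_PS.mp hw
          obtain ⟨c, rfl⟩ := _root_.isConj_iff.mp hwz
          refine ⟨⟨1, ?_⟩, ?_⟩
          · rw [orderOf_conj_eq', order_of_mem hV hw1 hw2, pow_one]
          · intro h
            apply hw2
            have : c * w * c⁻¹ = c * 1 * c⁻¹ := by rw [h]; group
            exact mul_left_cancel (mul_right_cancel this)
        rw [h6]
        simp
    have h7 : ∑ z : G, Nat.card 𝐂[Subgroup.zpowers z] * ((PS P).filter (fun w => IsConj w z)).card =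
        3 * Nat.card G := by
      have h8 : ∀ z : G, Nat.card 𝐂[Subgroup.zpowers z] * ((PS P).filter (fun w => IsConj w z)).card =
          ∑ w ∈ PS P, if IsConj w z then Nat.card 𝐂[Subgroup.zpowers z] else 0 := by
        intro z
        rw [Finset.card_filter, Finset.mul_sum]
        refine Finset.sum_congr rfl fun w _ => ?_
        split_ifs <;> simp
      rw [Finset.sum_congr rfl fun z _ => h8 z, Finset.sum_comm,
        Finset.sum_congr rfl fun w _ => sum_conj_card w, Finset.sum_const, card_PS hV, smul_eq_mul]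
    rw [h7] at h5
    exact h5
  have h5 := blockRank_pos (p := 2) hM hB
  have hG : 0 < Nat.card G := Nat.card_pos
  have h6 : Nat.card G * blockRank 2 B ≤ Nat.card G * 1 := by
    rw [mul_one]
    omega
  have h7 := Nat.le_of_mul_le_mul_left h6 hG
  omega

/-- **The rank in the transitive case.** -/
theorem blockRank_eq_three (hPD : IsDefectGroup 2 M B P)
    (htrans : ∀ w ∈ PS P, ∀ w' ∈ PS P, ∃ t ∈ 𝐍[P], StabilizesBlock 𝐂[P] e t ∧ t * w * t⁻¹ = w') :
    blockRank 2 B = 3 := by
  classical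
  haveI := isPrime_of_isPModular hM
  have hB := hmax.1.2.1
  have h1 := card_sub_rank hM hB
  rw [card_bF_eq hV hM hmax hPD] at h1
  obtain ⟨z₁, hz₁⟩ := exists_mem_PS hV
  obtain ⟨hz₁P, hz₁1⟩ := mem_PS.mp hz₁
  have hz₁o := order_of_mem hV hz₁P hz₁1
  have hz₁k : ∃ k : ℕ, orderOf z₁ = 2 ^ k := ⟨1, by rw [hz₁o, pow_one]⟩
  obtain ⟨f₁, hf₁, hle₁, hd₁, hind₁, θ₁, hθ₁, hreg₁⟩ := exists_local hV hM hmax hz₁
  -- every pair is conjugate to `(z₁, f₁)`
  have hconj : ∀ z : G, ∀ F : Set (IrrCharacter 𝐂[Subgroup.zpowers z]),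
      (∃ k : ℕ, orderOf z = 2 ^ k) → z ≠ 1 → IsInducedBlock M 𝐂[Subgroup.zpowers z] F B →
      ∃ y : G, y * z * y⁻¹ = z₁ ∧ cp y ⟨Subgroup.zpowers z, F⟩ = ⟨Subgroup.zpowers z₁, f₁⟩ := by
    intro z F hzk hz1 hind
    have hQp : IsPGroup 2 (Subgroup.zpowers z) := by
      obtain ⟨k, hk⟩ := hzk
      apply IsPGroup.of_card (n := k)
      rw [Nat.card_zpowers, hk]
    have hQF := Cfsg.Agent.Lib.BlockSection.isBrauerPairOf_of_isInducedBlock hM hQp hind
    obtain ⟨x, hx⟩ := exists_conj_subpairLE hM hmax hQF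
    have hxP : x * z * x⁻¹ ∈ P := by
      have h2 := le_of_subpairLE hx
      rw [map_zpowers] at h2
      exact (Subgroup.zpowers_le).mp h2
    have hxPS : x * z * x⁻¹ ∈ PS P := by
      refine mem_PS.mpr ⟨hxP, fun h => hz1 ?_⟩
      have : x * z * x⁻¹ = x * 1 * x⁻¹ := by rw [h]; group
      exact mul_left_cancel (mul_right_cancel this)
    obtain ⟨t, ht1, ht2, ht3⟩ := htrans _ hxPS z₁ hz₁
    have hcpt : cp t ⟨P, e⟩ = ⟨P, e⟩ := by
      rw [cp_of_normalizer ht1 (normalizer_le_normalizer_centralizer P ht1),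
        twistSet_eq_of_stabilizes hmax.1.1.2 ht2]
    have h3 := relationCp hM t hx
    rw [hcpt] at h3
    have hyz : (t * x) * z * (t * x)⁻¹ = z₁ := by
      rw [← ht3]
      group
    have h4 : (cp t (cp x ⟨Subgroup.zpowers z, F⟩)).1 = Subgroup.zpowers z₁ := by
      change ((Subgroup.zpowers z ^^ x) ^^ t) = _
      rw [map_zpowers, map_zpowers, ht3]
    obtain ⟨F', hF'⟩ := exists_eq_pair _ h4
    have h5 : SubpairLE 2 M (Subgroup.zpowers z₁) F' P e := by
      have h6 : Relation.ReflTransGen (NormalSubpairRel (G := G) 2 M)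
          (cp t (cp x ⟨Subgroup.zpowers z, F⟩)) ⟨P, e⟩ := h3
      rw [hF'] at h6
      exact h6
    have h7 := eq_of_two_subpairLE hM hmax.1.1 hle₁ h5
    refine ⟨t * x, hyz, ?_⟩
    rw [cp_mul, hF', h7]
  -- the block at `z₁`
  have hLn₁ : Ln M B z₁ = 1 := by
    have huniq : ∀ F : BlockT M 𝐂[Subgroup.zpowers z₁],
        IsInducedBlock M 𝐂[Subgroup.zpowers z₁] F.1 B → F.1 = f₁ := by
      intro F hF
      obtain ⟨y, hy1, hy2⟩ := hconj z₁ F.1 hz₁k hz₁1 hF
      have hyC : y ∈ 𝐂[Subgroup.zpowers z₁] := by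
        rw [Cfsg.Agent.Lib.BlockSecond.centralizer_zpowers_eq, Subgroup.mem_centralizer_singleton_iff]
        calc y * z₁ = (y * z₁ * y⁻¹) * y := by group
          _ = z₁ * y := by rw [hy1]
      have hyN := mem_normalizer_of_mem_centralizer hyC
      have hst := stabilizes_of_mem_centralizer hyC F.1
      rw [cp_of_normalizer hyN (normalizer_le_normalizer_centralizer _ hyN),
        twistSet_eq_of_stabilizes F.2 hst] at hy2
      have := eq_of_heq (Sigma.mk.inj_iff.mp hy2).2
      exact this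
    unfold Ln
    rw [Finset.sum_eq_single (⟨f₁, hf₁⟩ : BlockT M 𝐂[Subgroup.zpowers z₁])]
    · rw [if_pos hind₁]
      exact blockRank_eq_one_of_agree hM hθ₁ hreg₁
    · intro F _ hne
      rw [if_neg]
      intro hF
      exact hne (Subtype.ext (huniq F hF))
    · intro h
      exact absurd (Finset.mem_univ _) h
  have hvz₁ : vz 2 B z₁ = (Nat.card (Subgroup.centralizer ({z₁} : Set G)) : ℂ) := by
    rw [vz_eq_Ln hM hB hz₁k, hLn₁, mul_one, Cfsg.Agent.Lib.BlockSecond.centralizer_zpowers_eq]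
  -- the sum
  have hterm : ∀ z : G, (if (∃ k : ℕ, orderOf z = 2 ^ k) ∧ z ≠ 1 then vz 2 B z else 0) =
      if IsConj z₁ z then vz 2 B z₁ else 0 := by
    intro z
    by_cases hz : IsConj z₁ z
    · rw [if_pos hz]
      obtain ⟨c, rfl⟩ := _root_.isConj_iff.mp hz
      rw [if_pos, vz_conj]
      refine ⟨⟨1, ?_⟩, fun h => hz₁1 ?_⟩
      · rw [orderOf_conj_eq', hz₁o, pow_one]
      · have : c * z₁ * c⁻¹ = c * 1 * c⁻¹ := by rw [h]; group
        exact mul_left_cancel (mul_right_cancel this)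
    · rw [if_neg hz]
      by_cases hz2 : (∃ k : ℕ, orderOf z = 2 ^ k) ∧ z ≠ 1
      · rw [if_pos hz2, vz_eq_Ln hM hB hz2.1]
        have hLn : Ln M B z = 0 := by
          unfold Ln
          apply Finset.sum_eq_zero
          intro F _
          rw [if_neg]
          intro hF
          obtain ⟨y, hy1, -⟩ := hconj z F.1 hz2.1 hz2.2 hF
          apply hz
          rw [_root_.isConj_iff]
          refine ⟨y⁻¹, ?_⟩
          rw [← hy1]
          group
        rw [hLn]
        simp
      · rw [if_neg hz2]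
  have hsum : (∑ z : G, if (∃ k : ℕ, orderOf z = 2 ^ k) ∧ z ≠ 1 then vz 2 B z else 0) =
      (Nat.card G : ℂ) := by
    rw [Finset.sum_congr rfl fun z _ => hterm z, ← Finset.sum_filter, Finset.sum_const, hvz₁,
      nsmul_eq_mul, ← Cfsg.Agent.Lib.InvolutionFusion.card_conj_mul_card_centralizer z₁]
    push_cast
    congr 1
    rw [Nat.card_eq_fintype_card, Fintype.card_subtype]
  rw [hsum] at h1
  have hG : (Nat.card G : ℂ) ≠ 0 := natCard_ne_zero'
  have h2 : ((4 : ℕ) : ℂ) - (blockRank 2 B : ℂ) = 1 := by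
    apply mul_left_cancel₀ hG
    rw [h1, mul_one]
  have h3 : ((4 : ℕ) : ℂ) = ((blockRank 2 B + 1 : ℕ) : ℂ) := by
    push_cast
    rw [← h2]
    ring
  have h4 : 4 = blockRank 2 B + 1 := by exact_mod_cast h3
  omega

end Main

end Cfsg.Agent.Lib.KleinDefect
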