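import Mathlib
import Cfsg.Agent.Lib.KleinDefect

/-!
# Blocks with transitive fusion on an abelian defect group

If a block has an abelian defect group, the stabilizer of a maximal pair acts transitively on the
nonidentity elements, and the local block at one of them has rank one, then `k(B) = l(B) + 1`.
-/

set_option autoImplicit false
set_option linter.unusedSectionVars false
set_option linter.unusedVariables false
set_option linter.style.haveILetI false

namespace Cfsg.Agent.Lib.BlockTrans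

open Cfsg Cfsg.Agent.Lib.CharBasic Cfsg.Agent.Lib.CharInd Cfsg.Agent.Lib.CharIntegrality
open Cfsg.Agent.Lib.BlockLocal Cfsg.Agent.Lib.BlockIdem Cfsg.Agent.Lib.BlockQ
open Cfsg.Agent.Lib.BlockOrtho Cfsg.Agent.Lib.BlockVal Cfsg.Agent.Lib.BlockMajor
open Cfsg.Agent.Lib.BlockUniform Cfsg.Agent.Lib.BlockDefect Cfsg.Agent.Lib.BlockInvol
open Cfsg.Agent.Lib.BrauerMap Cfsg.Agent.Lib.BrauerPair Cfsg.Agent.Lib.BrauerSub
open Cfsg.Agent.Lib.BrauerConj Cfsg.Agent.Lib.BrauerThird Cfsg.Agent.Lib.BrauerMax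
open Cfsg.Agent.Lib.BrauerStab Cfsg.Agent.Lib.BrauerCen
open Cfsg.Agent.Lib.BrauerFull Cfsg.Agent.Lib.BrauerLift Cfsg.Agent.Lib.BrauerIdx
open Cfsg.Agent.Lib.BrauerSat Cfsg.Agent.Lib.BrauerNil Cfsg.Agent.Lib.BlockKL
open Cfsg.Agent.Lib.KleinDefect
open scoped ComplexConjugate

universe u

variable {G : Type u} [Group G] [Fintype G] {M : Ideal AlgInt} {p : ℕ}

local notation "𝐂[" R "]" => Subgroup.centralizer ((R : Subgroup G) : Set G)
local notation "𝐍[" R "]" => Subgroup.normalizer ((R : Subgroup G) : Set G)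
local notation Q "^^" x => Subgroup.map (MulEquiv.toMonoidHom (MulAut.conj (x : G))) (Q : Subgroup G)

noncomputable local instance fintypeSubBT (K : Subgroup G) : Fintype K := Fintype.ofFinite K

variable {B : Set (IrrCharacter G)} {P : Subgroup G}
  {e : Set (IrrCharacter (Subgroup.centralizer (P : Set G)))}

theorem isPGroup_of_isDefectGroup {B : Set (IrrCharacter G)} {P : Subgroup G}
    (hD : IsDefectGroup p M B P) : IsPGroup p P := by
  obtain ⟨g, -, S, rfl⟩ := hD
  exact S.isPGroup'.map _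

/-- **The count in the transitive case.** -/
theorem card_eq_rank_add_one [Fact p.Prime] (hM : IsPModular p M) (hmax : IsMaximalBrauerPair p M B P e)
    (hab : ∀ x ∈ P, ∀ y ∈ P, x * y = y * x) {z₁ : G} (hz₁P : z₁ ∈ P) (hz₁1 : z₁ ≠ 1)
    (htrans : ∀ w ∈ P, w ≠ 1 → ∃ t ∈ 𝐍[P], StabilizesBlock 𝐂[P] e t ∧ t * w * t⁻¹ = z₁)
    {f₁ : Set (IrrCharacter 𝐂[Subgroup.zpowers z₁])} (hf₁ : IsPBlock M f₁)
    (hle₁ : SubpairLE p M (Subgroup.zpowers z₁) f₁ P e) (hr : blockRank p f₁ = 1) :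
    (bF B).card = blockRank p B + 1 := by
  classical
  haveI := isPrime_of_isPModular hM
  have hp := hM.1
  have hB := hmax.1.2.1
  have h1 := card_sub_rank hM hB
  have hPp : IsPGroup p P := isPGroup_of_isDefectGroup (isDefectGroup_of_maximal hM hmax)
  have hz₁k : ∃ k : ℕ, orderOf z₁ = p ^ k := by
    have := hPp ⟨z₁, hz₁P⟩
    obtain ⟨k, hk⟩ := this
    have h2 : orderOf (⟨z₁, hz₁P⟩ : P) ∣ p ^ k := orderOf_dvd_of_pow_eq_one hk
    obtain ⟨j, -, hj⟩ := (Nat.dvd_prime_pow hp).1 h2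
    exact ⟨j, (Subgroup.orderOf_coe (⟨z₁, hz₁P⟩ : P)).trans hj⟩
  have hQf : IsBrauerPairOf p M B (Subgroup.zpowers z₁) f₁ :=
    (isBrauerPairOf_iff_of_le hM hmax.1.2.1 hle₁).2 hmax.1
  have hind₁ := Cfsg.Agent.S4683.isInducedBlock_of_isBrauerPairOf hM hQf
  -- every pair is conjugate to `(z₁, f₁)`
  have hconj : ∀ z : G, ∀ F : Set (IrrCharacter 𝐂[Subgroup.zpowers z]),
      (∃ k : ℕ, orderOf z = p ^ k) → z ≠ 1 → IsInducedBlock M 𝐂[Subgroup.zpowers z] F B →
      ∃ y : G, y * z * y⁻¹ = z₁ ∧ cp y ⟨Subgroup.zpowers z, F⟩ = ⟨Subgroup.zpowers z₁, f₁⟩ := by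
    intro z F hzk hz1 hind
    have hQp : IsPGroup p (Subgroup.zpowers z) := by
      obtain ⟨k, hk⟩ := hzk
      apply IsPGroup.of_card (n := k)
      rw [Nat.card_zpowers, hk]
    have hQF := Cfsg.Agent.Lib.BlockSection.isBrauerPairOf_of_isInducedBlock hM hQp hind
    obtain ⟨x, hx⟩ := exists_conj_subpairLE hM hmax hQF
    have hxP : x * z * x⁻¹ ∈ P := by
      have h2 := le_of_subpairLE hx
      rw [map_zpowers] at h2
      exact (Subgroup.zpowers_le).mp h2
    have hxne : x * z * x⁻¹ ≠ 1 := fun h => hz1 (by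
      have : x * z * x⁻¹ = x * 1 * x⁻¹ := by rw [h]; group
      exact mul_left_cancel (mul_right_cancel this))
    obtain ⟨t, ht1, ht2, ht3⟩ := htrans _ hxP hxne
    have hcpt : cp t ⟨P, e⟩ = ⟨P, e⟩ := by
      rw [cp_of_normalizer ht1 (normalizer_le_normalizer_centralizer P ht1),
        twistSet_eq_of_stabilizes hmax.1.1.2 ht2]
    have h3 := relationCp hM t hx
    rw [hcpt] at h3
    have hyz : (t * x) * z * (t * x)⁻¹ = z₁ := by
      rw [← ht3]
      group
    have h4 : (cp t (cp x ⟨Subgroup.zpowers z, F⟩)).1 = Subgroup.zpowers z₁ := by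
      change ((Subgroup.zpowers z ^^ x) ^^ t) = _
      rw [map_zpowers, map_zpowers, ht3]
    obtain ⟨F', hF'⟩ := exists_eq_pair _ h4
    have h5 : SubpairLE p M (Subgroup.zpowers z₁) F' P e := by
      have h6 : Relation.ReflTransGen (NormalSubpairRel (G := G) p M)
          (cp t (cp x ⟨Subgroup.zpowers z, F⟩)) ⟨P, e⟩ := h3
      rw [hF'] at h6
      exact h6
    have h7 := eq_of_two_subpairLE hM hmax.1.1 hle₁ h5
    refine ⟨t * x, hyz, ?_⟩
    rw [cp_mul, hF', h7]
  -- the block at `z₁`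
  have hLn₁ : (∑ F : BlockT M 𝐂[Subgroup.zpowers z₁],
      if IsInducedBlock M 𝐂[Subgroup.zpowers z₁] F.1 B then (blockRank p F.1 : ℂ) else 0) = 1 := by
    have huniq : ∀ F : BlockT M 𝐂[Subgroup.zpowers z₁],
        IsInducedBlock M 𝐂[Subgroup.zpowers z₁] F.1 B → F.1 = f₁ := by
      intro F hF
      obtain ⟨y, hy1, hy2⟩ := hconj z₁ F.1 hz₁k hz₁1 hF
      have hyC : y ∈ 𝐂[Subgroup.zpowers z₁] := by
        rw [Cfsg.Agent.Lib.BlockSecond.centralizer_zpowers_eq, Subgroup.mem_centralizer_singleton_iff]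
        calc y * z₁ = (y * z₁ * y⁻¹) * y := by group
          _ = z₁ * y := by rw [hy1]
      have hyN := mem_normalizer_of_mem_centralizer hyC
      have hst := stabilizes_of_mem_centralizer hyC F.1
      rw [cp_of_normalizer hyN (normalizer_le_normalizer_centralizer _ hyN),
        twistSet_eq_of_stabilizes F.2 hst] at hy2
      have := eq_of_heq (Sigma.mk.inj_iff.mp hy2).2
      exact this
    rw [Finset.sum_eq_single (⟨f₁, hf₁⟩ : BlockT M 𝐂[Subgroup.zpowers z₁])]
    · rw [if_pos hind₁, hr]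
      simp
    · intro F _ hne
      rw [if_neg]
      intro hF
      exact hne (Subtype.ext (huniq F hF))
    · intro h
      exact absurd (Finset.mem_univ _) h
  have hvz₁ : vz p B z₁ = (Nat.card (Subgroup.centralizer ({z₁} : Set G)) : ℂ) := by
    rw [vz_eq' hM hB hz₁k (Cfsg.Agent.Lib.BlockSecond.centralizer_zpowers_eq z₁), hLn₁, mul_one,
      Cfsg.Agent.Lib.BlockSecond.centralizer_zpowers_eq]
  -- the sum
  have hterm : ∀ z : G, (if (∃ k : ℕ, orderOf z = p ^ k) ∧ z ≠ 1 then vz p B z else 0) =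
      if IsConj z₁ z then vz p B z₁ else 0 := by
    intro z
    by_cases hz : IsConj z₁ z
    · rw [if_pos hz]
      obtain ⟨c, rfl⟩ := _root_.isConj_iff.mp hz
      rw [if_pos, vz_conj]
      refine ⟨?_, fun h => hz₁1 ?_⟩
      · obtain ⟨k, hk⟩ := hz₁k
        exact ⟨k, by rw [orderOf_conj_eq', hk]⟩
      · have : c * z₁ * c⁻¹ = c * 1 * c⁻¹ := by rw [h]; group
        exact mul_left_cancel (mul_right_cancel this)
    · rw [if_neg hz]
      by_cases hz2 : (∃ k : ℕ, orderOf z = p ^ k) ∧ z ≠ 1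
      · rw [if_pos hz2, vz_eq' hM hB hz2.1 (Cfsg.Agent.Lib.BlockSecond.centralizer_zpowers_eq z)]
        have hLn : (∑ F : BlockT M 𝐂[Subgroup.zpowers z],
            if IsInducedBlock M 𝐂[Subgroup.zpowers z] F.1 B then (blockRank p F.1 : ℂ) else 0) = 0 := by
          apply Finset.sum_eq_zero
          intro F _
          rw [if_neg]
          intro hF
          obtain ⟨y, hy1, -⟩ := hconj z F.1 hz2.1 hz2.2 hF
          apply hz
          rw [_root_.isConj_iff]
          refine ⟨y⁻¹, ?_⟩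
          rw [← hy1]
          group
        rw [hLn]
        simp
      · rw [if_neg hz2]
  have hsum : (∑ z : G, if (∃ k : ℕ, orderOf z = p ^ k) ∧ z ≠ 1 then vz p B z else 0) =
      (Nat.card G : ℂ) := by
    rw [Finset.sum_congr rfl fun z _ => hterm z, ← Finset.sum_filter, Finset.sum_const, hvz₁,
      nsmul_eq_mul, ← Cfsg.Agent.Lib.InvolutionFusion.card_conj_mul_card_centralizer z₁]
    push_cast
    congr 1
    rw [Nat.card_eq_fintype_card, Fintype.card_subtype]
  rw [hsum] at h1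
  have hG : (Nat.card G : ℂ) ≠ 0 := natCard_ne_zero'
  have h2 : (((bF B).card : ℕ) : ℂ) - (blockRank p B : ℂ) = 1 := by
    apply mul_left_cancel₀ hG
    rw [h1, mul_one]
  have h3 : (((bF B).card : ℕ) : ℂ) = ((blockRank p B + 1 : ℕ) : ℂ) := by
    push_cast
    rw [← h2]
    ring
  exact_mod_cast h3

end Cfsg.Agent.Lib.BlockTrans
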