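import Mathlib
import Cfsg.Prelude.Def_BlockFusion
import Cfsg.Agent.Lib.BrauerLift
import Cfsg.Agent.Lib.BlockSecond

/-!
# The Brauer correspondence over a subgroup containing the normalizer
-/

set_option autoImplicit false
set_option linter.unusedSectionVars false
set_option linter.unusedVariables false
set_option linter.style.haveILetI false

namespace Cfsg.Agent.Lib.BrauerCorr

open Cfsg Cfsg.Agent.Lib.CharBasic Cfsg.Agent.Lib.CharInd Cfsg.Agent.Lib.CharIntegrality
open Cfsg.Agent.Lib.BlockLocal Cfsg.Agent.Lib.BlockIdem Cfsg.Agent.Lib.BlockNormal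
open Cfsg.Agent.Lib.BrauerMap Cfsg.Agent.Lib.BrauerPair Cfsg.Agent.Lib.BrauerSub
open Cfsg.Agent.Lib.BrauerConj Cfsg.Agent.Lib.BrauerThird Cfsg.Agent.Lib.BrauerMax
open Cfsg.Agent.Lib.BrauerStab Cfsg.Agent.Lib.BlockDefect Cfsg.Agent.Lib.BrauerCen
open Cfsg.Agent.Lib.BrauerFull Cfsg.Agent.Lib.BrauerLift
open scoped ComplexConjugate

universe u

section Coeff

variable {K : Type u} [Group K] [Fintype K] {p : ℕ} {M : Ideal AlgInt} [hMp : M.IsPrime]

attribute [local instance] Classical.propDecidable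

theorem memLocalIdeal_omega_of_values' {d : K → ℂ} (hd : IsClassFunction K d)
    (hR : ∀ x, MemLocalIdeal M (d x)) (ξ : IrrCharacter K) :
    MemLocalIdeal M (omega (ξ : K → ℂ) d) := by
  classical
  letI : Fintype (ConjClasses K) := Fintype.ofFinite _
  rw [omega_eq_sum_classes ξ hd]
  exact memLocalIdeal_sum _ _ fun K _ => memLocalIdeal_mul_right (hR _)
    (memLocalRing_of_isIntegral (isIntegral_centralChar ξ _))

/-- A union of blocks. -/
def IsBlockUnion (M : Ideal AlgInt) (U : Set (IrrCharacter K)) : Prop :=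
  ∀ χ ∈ U, ∀ ψ : IrrCharacter K, SameBlock M (χ : K → ℂ) (ψ : K → ℂ) → ψ ∈ U

theorem ind_union {U : Set (IrrCharacter K)} (hU : IsBlockUnion M U) (χ : IrrCharacter K) :
    ind U χ = ∑ F ∈ (Finset.univ.filter fun F : BlockT M K => F.1 ⊆ U), ind F.1 χ := by
  classical
  by_cases hχ : χ ∈ U
  · rw [ind_of_mem hχ, Finset.sum_eq_single (⟨blockOf M (χ : K → ℂ), ⟨χ, rfl⟩⟩ : BlockT M K)]
    · exact (ind_of_mem (mem_blockOf_self χ)).symm
    · intro F _ hF
      apply ind_of_not_mem
      intro hχF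
      apply hF
      apply Subtype.ext
      rcases eq_or_disjoint_of_isPBlock F.2 (⟨χ, rfl⟩ : IsPBlock M (blockOf M (χ : K → ℂ))) with h | h
      · exact h
      · exact absurd (mem_blockOf_self χ) (Set.disjoint_left.1 h hχF)
    · intro h
      exfalso
      apply h
      rw [Finset.mem_filter]
      exact ⟨Finset.mem_univ _, fun ψ hψ => hU χ hχ ψ hψ⟩
  · rw [ind_of_not_mem hχ]
    symm
    refine Finset.sum_eq_zero fun F hF => ?_
    apply ind_of_not_mem
    exact fun h => hχ ((Finset.mem_filter.1 hF).2 h)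

theorem blockCoeff_union {U : Set (IrrCharacter K)} (hU : IsBlockUnion M U) :
    blockCoeff U = ∑ F ∈ (Finset.univ.filter fun F : BlockT M K => F.1 ⊆ U), blockCoeff F.1 := by
  classical
  have h1 : IsClassFunction K (∑ F ∈ (Finset.univ.filter fun F : BlockT M K => F.1 ⊆ U), blockCoeff F.1) := by
    intro g x
    simp only [Finset.sum_apply]
    exact Finset.sum_congr rfl fun F _ => BlockNormal.blockCoeff_isClassFunction F.1 g x
  apply classFunction_eq_of_omega (BlockNormal.blockCoeff_isClassFunction U) h1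
  intro χ
  rw [omega_blockCoeff, omega_sum, ind_union hU]
  refine Finset.sum_congr rfl fun F _ => ?_
  rw [omega_blockCoeff]

theorem memLocalRing_blockCoeff_of_union {U : Set (IrrCharacter K)} (hU : IsBlockUnion M U) (x : K) :
    MemLocalRing M (blockCoeff U x) := by
  rw [blockCoeff_union hU, Finset.sum_apply]
  exact memLocalRing_sum _ _ fun F _ => memLocalRing_blockCoeff F.2 x

/-- The set of characters on which a central element is congruent to `1`. -/
def oneSet (M : Ideal AlgInt) (b : K → ℂ) : Set (IrrCharacter K) :=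
  {ξ | MemLocalIdeal M (omega (ξ : K → ℂ) b - 1)}

theorem isBlockUnion_oneSet {b : K → ℂ} (hcl : IsClassFunction K b) (hR : ∀ x, MemLocalRing M (b x)) :
    IsBlockUnion M (oneSet M b) := by
  intro χ hχ ψ hψ
  have h1 := memLocalIdeal_sub_of_mem_Zc (mem_Zc_of_classFunction hcl hR) hψ
  have h2 := memLocalIdeal_sub hχ h1
  change MemLocalIdeal M (omega (ψ : K → ℂ) b - 1)
  have e : omega (χ : K → ℂ) b - 1 - (omega (χ : K → ℂ) b - omega (ψ : K → ℂ) b) =
      omega (ψ : K → ℂ) b - 1 := by ring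
  rwa [e] at h2

theorem omega_sub_ind_oneSet {b : K → ℂ} (hcl : IsClassFunction K b) (hR : ∀ x, MemLocalRing M (b x))
    (hid : ∀ x, MemLocalIdeal M (b x - CharIntegrality.conv b b x)) (ξ : IrrCharacter K) :
    MemLocalIdeal M (omega (ξ : K → ℂ) b - ind (oneSet M b) ξ) := by
  have hR' : MemLocalRing M (omega (ξ : K → ℂ) b) :=
    memLocalRing_of_mem_Zc (mem_Zc_of_classFunction hcl hR) ξ
  have hidem : MemLocalIdeal M (omega (ξ : K → ℂ) b * omega (ξ : K → ℂ) b - omega (ξ : K → ℂ) b) := by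
    have h1 : omega (ξ : K → ℂ) (b - CharIntegrality.conv b b) =
        omega (ξ : K → ℂ) b - omega (ξ : K → ℂ) (CharIntegrality.conv b b) := omega_sub_eq _ _ _
    rw [omega_conv ξ.2 hcl hcl] at h1
    have h2 : MemLocalIdeal M (omega (ξ : K → ℂ) (b - CharIntegrality.conv b b)) :=
      memLocalIdeal_omega_of_values'
        (isClassFunction_sub hcl (conv_isClassFunction hcl hcl)) hid ξ
    rw [h1] at h2
    have h3 := memLocalIdeal_neg h2
    convert h3 using 1
    ring
  rcases memLocalIdeal_or_of_idem hR' hidem with h | h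
  · by_cases hξ : ξ ∈ oneSet M b
    · exfalso
      have h1 := memLocalIdeal_sub h hξ
      have e : omega (ξ : K → ℂ) b - (omega (ξ : K → ℂ) b - 1) = 1 := by ring
      rw [e] at h1
      exact not_memLocalIdeal_one h1
    · rw [ind_of_not_mem hξ, sub_zero]
      exact h
  · have hξ : ξ ∈ oneSet M b := h
    rw [ind_of_mem hξ]
    exact h

open Cfsg.Agent.Lib.BlockSecond in
/-- **A central element idempotent modulo `M` is congruent to the idempotent of a union of blocks.** -/
theorem coeff_sub_blockCoeff_oneSet {b : K → ℂ} (hcl : IsClassFunction K b)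
    (hR : ∀ x, MemLocalRing M (b x))
    (hid : ∀ x, MemLocalIdeal M (b x - CharIntegrality.conv b b x)) (x : K) :
    MemLocalIdeal M (b x - blockCoeff (oneSet M b) x) := by
  set U := oneSet M b with hU
  have hUb : IsBlockUnion M U := isBlockUnion_oneSet hcl hR
  set ε := blockCoeff U with hε
  have hεcl : IsClassFunction K ε := BlockNormal.blockCoeff_isClassFunction U
  have hεR : ∀ x, MemLocalRing M (ε x) := memLocalRing_blockCoeff_of_union hUb
  have hεi : CharIntegrality.conv ε ε = ε := conv_blockCoeff_self U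
  have hω := omega_sub_ind_oneSet (M := M) hcl hR hid
  have hωε : ∀ ξ : IrrCharacter K, omega (ξ : K → ℂ) ε = ind U ξ := omega_blockCoeff U
  have hδcl : IsClassFunction K (delta : K → ℂ) := delta_isClassFunction
  have hδR : ∀ x : K, MemLocalRing M ((delta : K → ℂ) x) := by
    intro x
    unfold delta
    split_ifs
    · exact memLocalRing_one
    · exact memLocalRing_zero
  -- `u = b (1 - ε)`, `v = ε (1 - b)`
  set w := CharIntegrality.conv b ε with hw
  have hwcl : IsClassFunction K w := conv_isClassFunction hcl hεcl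
  have hwR : ∀ x, MemLocalRing M (w x) := memLocalRing_conv hR hεR
  have hcomm : CharIntegrality.conv ε b = w := conv_comm_of_class hεcl b
  have hbw : CharIntegrality.conv b w = CharIntegrality.conv (CharIntegrality.conv b b) ε :=
    (conv_assoc' b b ε).symm
  have hwb : CharIntegrality.conv w b = CharIntegrality.conv (CharIntegrality.conv b b) ε := by
    rw [hw, conv_assoc', hcomm, hbw]
  have hwε : CharIntegrality.conv w ε = w := by
    rw [hw, conv_assoc', hεi]
  have hεw : CharIntegrality.conv ε w = w := by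
    rw [← hcomm, ← conv_assoc', hεi]
  have hww : CharIntegrality.conv w w = CharIntegrality.conv (CharIntegrality.conv b b) ε := by
    conv_lhs => rw [hw]
    rw [conv_assoc', hεw, hbw]
  have hd : ∀ x, MemLocalIdeal M ((b - CharIntegrality.conv b b) x) := hid
  have hdε : ∀ x, MemLocalIdeal M (CharIntegrality.conv (b - CharIntegrality.conv b b) ε x) :=
    memLocalIdeal_conv_left hd hεR
  have hω' : ∀ ξ : IrrCharacter K, omega (ξ : K → ℂ) w = omega (ξ : K → ℂ) b * ind U ξ := fun ξ => by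
    rw [hw, omega_conv ξ.2 hcl hεcl, hωε]
  have hu : ∀ x, MemLocalIdeal M ((b - w) x) := by
    refine memLocalIdeal_of_idem_of_omega (isClassFunction_sub hcl hwcl)
      (fun x => memLocalRing_sub (hR x) (hwR x)) (fun x => ?_) (fun ξ => ?_)
    · have e : CharIntegrality.conv (b - w) (b - w) = CharIntegrality.conv b b -
          CharIntegrality.conv (CharIntegrality.conv b b) ε := by
        rw [conv_sub_left', conv_sub_right', conv_sub_right', hbw, hwb, hww]
        abel
      have e2 : (b - w) x - CharIntegrality.conv (b - w) (b - w) x =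
          (b - CharIntegrality.conv b b) x - CharIntegrality.conv (b - CharIntegrality.conv b b) ε x := by
        rw [e, conv_sub_left']
        simp only [Pi.sub_apply]
        rw [hw]
        ring
      rw [e2]
      exact memLocalIdeal_sub (hd x) (hdε x)
    · rw [omega_sub_eq, hω']
      by_cases hξ : ξ ∈ U
      · rw [ind_of_mem hξ, mul_one, sub_self]
        exact memLocalIdeal_zero
      · rw [ind_of_not_mem hξ, mul_zero, sub_zero]
        have := hω ξ
        rwa [ind_of_not_mem hξ, sub_zero] at this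
  have hv : ∀ x, MemLocalIdeal M ((ε - w) x) := by
    refine memLocalIdeal_of_idem_of_omega (isClassFunction_sub hεcl hwcl)
      (fun x => memLocalRing_sub (hεR x) (hwR x)) (fun x => ?_) (fun ξ => ?_)
    · have e : CharIntegrality.conv (ε - w) (ε - w) = ε - w - w +
          CharIntegrality.conv (CharIntegrality.conv b b) ε := by
        rw [conv_sub_left', conv_sub_right', conv_sub_right', hεi, hεw, hwε, hww]
        abel
      have e2 : (ε - w) x - CharIntegrality.conv (ε - w) (ε - w) x =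
          CharIntegrality.conv (b - CharIntegrality.conv b b) ε x := by
        rw [e, conv_sub_left']
        simp only [Pi.sub_apply, Pi.add_apply]
        rw [hw]
        ring
      rw [e2]
      exact hdε x
    · rw [omega_sub_eq, hω', hωε]
      by_cases hξ : ξ ∈ U
      · rw [ind_of_mem hξ, mul_one]
        have := memLocalIdeal_neg (hω ξ)
        rw [ind_of_mem hξ] at this
        convert this using 1
        ring
      · rw [ind_of_not_mem hξ, mul_zero, sub_zero]
        exact memLocalIdeal_zero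
  have h := memLocalIdeal_sub (hu x) (hv x)
  simp only [Pi.sub_apply] at h
  convert h using 1
  ring

end Coeff

section Main

variable {G : Type u} [Group G] [Fintype G] {p : ℕ} [hp : Fact p.Prime] {M : Ideal AlgInt}

local notation "𝐂[" R "]" => Subgroup.centralizer ((R : Subgroup G) : Set G)
local notation "𝐍[" R "]" => Subgroup.normalizer ((R : Subgroup G) : Set G)
local notation Q "^^" x => Subgroup.map (MulEquiv.toMonoidHom (MulAut.conj (x : G))) (Q : Subgroup G)

noncomputable local instance fintypeSubCr (K : Subgroup G) : Fintype K := Fintype.ofFinite K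

/-- A block with defect group `D` has a maximal pair on `D`. -/
theorem exists_maximal_of_isDefectGroup (hM : IsPModular p M) {B : Set (IrrCharacter G)}
    (hB : IsPBlock M B) {D : Subgroup G} (hD : IsDefectGroup p M B D) :
    ∃ e : Set (IrrCharacter 𝐂[D]), IsMaximalBrauerPair p M B D e := by
  haveI := isPrime_of_isPModular hM
  have hD' := hD
  obtain ⟨g, hg, Q, rfl⟩ := hD
  set D := (Q : Subgroup (Subgroup.centralizer ({g} : Set G))).map
    (Subgroup.centralizer ({g} : Set G)).subtype with hDdef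
  have hDp : IsPGroup p D := Q.isPGroup'.map _
  have hgD : g ∈ 𝐂[D] := by
    rw [Subgroup.mem_centralizer_iff]
    rintro _ ⟨q, -, rfl⟩
    exact Subgroup.mem_centralizer_singleton_iff.1 q.2
  have hloc : ∀ x, MemLocalRing M (blockCoeff B x) := fun x => memLocalRing_blockCoeff hB x
  obtain ⟨ξ, hξ⟩ := exists_occ_of_unit hM hDp (inv_blockCoeff B D) (inv_blockCoeff B _) hloc
    (conv_blockCoeff_self B) hgD hg.2.1
  have hocc := occ_blockOf (inv_blockCoeff B _) hloc hξ
  have hpair : IsBrauerPairOf p M B D (blockOf M (ξ : 𝐂[D] → ℂ)) :=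
    ⟨⟨hDp, ⟨ξ, rfl⟩⟩, hB, (occ_iff _ _ _).1 hocc⟩
  exact ⟨_, isMaximal_of_isDefectGroup hM hpair hD'⟩

/-- Descent of normal steps from `G` to `T`. -/
theorem normalSubpair_hat {T : Subgroup G} {Rh Sh : Subgroup T} {R' S' : Subgroup G}
    (mR : CenMatch Rh R') (mS : CenMatch Sh S') {g' : Set (IrrCharacter 𝐂[R'])}
    {h' : Set (IrrCharacter 𝐂[S'])} (h : IsNormalSubpair p M R' g' S' h')
    (hRh : IsPGroup p Rh) (hSh : IsPGroup p Sh) (hle : Rh ≤ Sh)
    (hN : Sh ≤ Subgroup.normalizer (Rh : Set T)) (hst : ∀ x ∈ Sh, (x : G) ∈ S') :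
    IsNormalSubpair p M Rh (twistSetE mR.iso.symm g') Sh (twistSetE mS.iso.symm h') := by
  refine ⟨⟨hRh, isPBlock_twistSetE _ h.1.2⟩, ⟨hSh, isPBlock_twistSetE _ h.2.1.2⟩, hle, hN,
    fun x hx => mR.stabilizes_hat (h.2.2.2.2.1 _ (hst x hx)), ?_⟩
  rintro _ ⟨ξ, hξ, rfl⟩
  rw [brauerOmega_eq, mS.brO_eq (α := subgroupBlockCoeff 𝐂[R'] g')
    (fun t => by rw [mR.sbc_eq, mR.twistSetE_symm]), twistE_symm_twistE, ← brauerOmega_eq]
  exact h.2.2.2.2.2 ξ hξ

theorem twistSetE_symm_twistSetE {H H' : Type u} [Group H] [Group H'] (σ : H ≃* H')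
    (f : Set (IrrCharacter H)) : twistSetE σ.symm (twistSetE σ f) = f := by
  ext χ
  constructor
  · rintro ⟨_, ⟨ψ, hψ, rfl⟩, rfl⟩
    rwa [twistE_twistE_symm]
  · intro h
    exact ⟨_, ⟨χ, h, rfl⟩, twistE_twistE_symm σ χ⟩

variable {P H : Subgroup G}

theorem nmax_hat (hp' : IsPGroup p P) (hCH : 𝐂[P] ≤ H) (hPH : P ≤ H)
    (m : CenMatch (P.subgroupOf H) P) {e : Set (IrrCharacter 𝐂[P])} (hn : NMax p M ⟨P, e⟩) :
    NMax p M ⟨P.subgroupOf H, twistSetE m.iso.symm e⟩ := by
  rintro ⟨Sh, hh⟩ hb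
  have hb' : IsNormalSubpair p M (P.subgroupOf H) (twistSetE m.iso.symm e) Sh hh := hb
  change Sh = P.subgroupOf H
  set S' := Sh.map H.subtype with hS'
  have hPS' : P ≤ S' := fun q hq => ⟨⟨q, hPH hq⟩, hb'.2.2.1 hq, rfl⟩
  have mS := cenMatch_nor hCH Sh hPS'
  have hSN : S' ≤ 𝐍[P] := by
    rintro _ ⟨s, hs, rfl⟩
    have h1 := mem_normalizer_map (hb'.2.2.2.1 hs)
    rwa [Subgroup.map_subgroupOf_eq_of_le hPH] at h1
  have hstep := normalSubpair_lift m mS hb' hp' (hb'.2.1.1.map _) hPS' hSN (by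
    rintro _ ⟨s, hs, rfl⟩
    exact m.stabilizes_of_hat (hb'.2.2.2.2.1 s hs))
  rw [m.twistSetE_symm] at hstep
  have h2 : S' = P := hn ⟨S', _⟩ hstep
  apply Subgroup.map_injective (f := H.subtype) Subtype.val_injective
  rw [Subgroup.map_subgroupOf_eq_of_le hPH]
  exact h2

theorem nmax_unhat (hH : 𝐍[P] ≤ H) (hCH : 𝐂[P] ≤ H) (hPH : P ≤ H)
    (m : CenMatch (P.subgroupOf H) P)
    {eh : Set (IrrCharacter (Subgroup.centralizer ((P.subgroupOf H : Subgroup H) : Set H)))}
    (hn : NMax p M ⟨P.subgroupOf H, eh⟩) : NMax p M ⟨P, twistSetE m.iso eh⟩ := by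
  rintro ⟨S, h⟩ hb
  have hb' : IsNormalSubpair p M P (twistSetE m.iso eh) S h := hb
  change S = P
  have hSH : S ≤ H := hb'.2.2.2.1.trans hH
  have hPS : P ≤ S := hb'.2.2.1
  have mS := cenMatch_of_le hCH hSH hPS
  have hstep := normalSubpair_hat m mS hb'
    (IsPGroup.comap_of_injective hb'.1.1 _ Subtype.val_injective)
    (IsPGroup.comap_of_injective hb'.2.1.1 _ Subtype.val_injective)
    (fun x hx => hPS hx)
    (by
      intro s hs
      rw [Subgroup.mem_normalizer_iff]
      intro x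
      have h1 := Subgroup.mem_normalizer_iff.1 (hb'.2.2.2.1 hs) x
      simpa [Subgroup.mem_subgroupOf] using h1)
    (fun x hx => hx)
  rw [twistSetE_symm_twistSetE] at hstep
  have h2 : S.subgroupOf H = P.subgroupOf H := hn ⟨S.subgroupOf H, _⟩ hstep
  have h3 := congrArg (Subgroup.map H.subtype) h2
  rwa [Subgroup.map_subgroupOf_eq_of_le hSH, Subgroup.map_subgroupOf_eq_of_le hPH] at h3

/-- Compatibility of the matching with conjugation. -/
theorem twistSetE_conjAut (m : CenMatch (P.subgroupOf H) P) (n : H)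
    (h₁ : n ∈ Subgroup.normalizer
      ((Subgroup.centralizer ((P.subgroupOf H : Subgroup H) : Set H) : Subgroup H) : Set H))
    (h₂ : (n : G) ∈ Subgroup.normalizer ((𝐂[P] : Subgroup G) : Set G))
    (f : Set (IrrCharacter (Subgroup.centralizer ((P.subgroupOf H : Subgroup H) : Set H)))) :
    twistSetE m.iso (twistSet (conjAut _ n h₁) f) = twistSet (conjAut 𝐂[P] (n : G) h₂) (twistSetE m.iso f) := by
  ext ξ
  constructor
  · rintro ⟨_, ⟨χ, hχ, rfl⟩, rfl⟩
    refine ⟨_, ⟨χ, hχ, rfl⟩, ?_⟩
    apply Subtype.ext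
    funext x
    simp only [twist_apply, twistE_apply]
    congr 1
  · rintro ⟨_, ⟨χ, hχ, rfl⟩, rfl⟩
    refine ⟨_, ⟨χ, hχ, rfl⟩, ?_⟩
    apply Subtype.ext
    funext x
    simp only [twist_apply, twistE_apply]
    congr 1

/-- The conjugate of a pair by a normalizer element, as a twist. -/
theorem isBrauerPairOf_twist {K : Type u} [Group K] [Fintype K] (hM : IsPModular p M)
    {c : Set (IrrCharacter K)} {R : Subgroup K}
    {f : Set (IrrCharacter (Subgroup.centralizer (R : Set K)))} (h : IsBrauerPairOf p M c R f) {n : K}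
    (hn : n ∈ Subgroup.normalizer (R : Set K)) :
    IsBrauerPairOf p M c R (twistSet (conjAut _ n (normalizer_le_normalizer_centralizer R hn)) f) := by
  have h1 := isBrauerPairOf_conj hM h n
  have aux : ∀ {a b : BrauerPairIdx K}, a = b → IsBrauerPairOf p M c a.1 a.2 → IsBrauerPairOf p M c b.1 b.2 := by
    rintro a b rfl h
    exact h
  exact aux (cp_of_normalizer hn (normalizer_le_normalizer_centralizer R hn) f) h1

theorem eq_of_cp_of_normalizer {K : Type u} [Group K] [Fintype K] {R : Subgroup K} {n : K}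
    (hn : n ∈ Subgroup.normalizer (R : Set K)) {f f' : Set (IrrCharacter (Subgroup.centralizer (R : Set K)))}
    (h : cp n ⟨R, f⟩ = ⟨R, f'⟩) :
    twistSet (conjAut _ n (normalizer_le_normalizer_centralizer R hn)) f = f' := by
  rw [cp_of_normalizer hn (normalizer_le_normalizer_centralizer R hn)] at h
  exact eq_of_heq (Sigma.mk.inj h).2

/-- Pairs in `H` and in `G` along the correspondence. -/
theorem oneSet_eq (hM : IsPModular p M) (hH : 𝐍[P] ≤ H) (hPH : P ≤ H)
    (m : CenMatch (P.subgroupOf H) P) {B : Set (IrrCharacter G)} {c : Set (IrrCharacter H)}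
    {e : Set (IrrCharacter 𝐂[P])} (hBe : IsBrauerPairOf p M B P e) (hnG : NMax p M ⟨P, e⟩)
    (hce : IsBrauerPairOf p M c (P.subgroupOf H) (twistSetE m.iso.symm e))
    (hnH : NMax p M ⟨P.subgroupOf H, twistSetE m.iso.symm e⟩) :
    oneSet M (resC 𝐂[P] (blockCoeff B)) =
      twistSetE m.iso (oneSet M (resC (Subgroup.centralizer
        ((P.subgroupOf H : Subgroup H) : Set H)) (blockCoeff c))) := by
  haveI := isPrime_of_isPModular hM
  have hNH : ∀ (n : G) (hn : n ∈ 𝐍[P]), (⟨n, hH hn⟩ : H) ∈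
      Subgroup.normalizer ((P.subgroupOf H : Subgroup H) : Set H) := by
    intro n hn
    rw [Subgroup.mem_normalizer_iff]
    intro x
    have h1 := Subgroup.mem_normalizer_iff.1 hn x
    simpa [Subgroup.mem_subgroupOf] using h1
  ext ξ
  constructor
  · intro hξ
    -- the pair `(P, block of ξ)`
    have hloc : ∀ x, MemLocalRing M (blockCoeff B x) := fun x => memLocalRing_blockCoeff hBe.2.1 x
    have hocc := occ_blockOf (S := P) (inv_blockCoeff B _) hloc hξ
    have hpair : IsBrauerPairOf p M B P (blockOf M (ξ : 𝐂[P] → ℂ)) :=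
      ⟨⟨hBe.1.1, ⟨ξ, rfl⟩⟩, hBe.2.1, (occ_iff _ _ _).1 hocc⟩
    obtain ⟨n, hn, hcp⟩ := exists_conj_of_nmax hM hBe hnG hpair
    have h1 := eq_of_cp_of_normalizer hn hcp
    have hnh := hNH n hn
    have h2 := isBrauerPairOf_twist hM hce hnh
    have h3 := twistSetE_conjAut m ⟨n, hH hn⟩ (normalizer_le_normalizer_centralizer _ hnh)
      (normalizer_le_normalizer_centralizer P hn) (twistSetE m.iso.symm e)
    rw [m.twistSetE_symm] at h3
    have h4 : ξ ∈ twistSetE m.iso (twistSet (conjAut _ (⟨n, hH hn⟩ : H)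
        (normalizer_le_normalizer_centralizer _ hnh)) (twistSetE m.iso.symm e)) := by
      rw [h3]
      change ξ ∈ twistSet (conjAut 𝐂[P] n (normalizer_le_normalizer_centralizer P hn)) e
      rw [h1]
      exact mem_blockOf_self ξ
    obtain ⟨χ, hχ, rfl⟩ := h4
    refine ⟨χ, ?_, rfl⟩
    have h5 := h2.2.2 χ hχ
    rwa [brauerOmega_eq] at h5
  · rintro ⟨χ, hχ, rfl⟩
    have hloc : ∀ x, MemLocalRing M (blockCoeff c x) := fun x => memLocalRing_blockCoeff hce.2.1 x
    have hocc := occ_blockOf (S := P.subgroupOf H) (inv_blockCoeff c _) hloc hχ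
    have hpair : IsBrauerPairOf p M c (P.subgroupOf H) (blockOf M (χ : _ → ℂ)) :=
      ⟨⟨hce.1.1, ⟨χ, rfl⟩⟩, hce.2.1, (occ_iff _ _ _).1 hocc⟩
    obtain ⟨n, hn, hcp⟩ := exists_conj_of_nmax hM hce hnH hpair
    have h1 := eq_of_cp_of_normalizer hn hcp
    have hnG' : (n : G) ∈ 𝐍[P] := by
      have h1 := mem_normalizer_map hn
      rwa [Subgroup.map_subgroupOf_eq_of_le hPH] at h1
    have h2 := isBrauerPairOf_twist hM hBe hnG'
    have h3 := twistSetE_conjAut m n (normalizer_le_normalizer_centralizer _ hn)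
      (normalizer_le_normalizer_centralizer P hnG') (twistSetE m.iso.symm e)
    rw [m.twistSetE_symm, h1] at h3
    have h4 : twistE m.iso χ ∈ twistSet (conjAut 𝐂[P] n
        (normalizer_le_normalizer_centralizer P hnG')) e := by
      rw [← h3]
      exact ⟨χ, mem_blockOf_self χ, rfl⟩
    have h5 := h2.2.2 _ h4
    rwa [brauerOmega_eq] at h5

/-- Congruence of idempotents on `C_G(P)` from corresponding maximal pairs. -/
theorem congr_of_pairs (hM : IsPModular p M) (hP : IsPGroup p P) (hH : 𝐍[P] ≤ H) (hPH : P ≤ H)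
    (m : CenMatch (P.subgroupOf H) P) {B : Set (IrrCharacter G)} {c : Set (IrrCharacter H)}
    {e : Set (IrrCharacter 𝐂[P])} (hBe : IsBrauerPairOf p M B P e) (hnG : NMax p M ⟨P, e⟩)
    (hce : IsBrauerPairOf p M c (P.subgroupOf H) (twistSetE m.iso.symm e))
    (hnH : NMax p M ⟨P.subgroupOf H, twistSetE m.iso.symm e⟩) {x : G} (hx : x ∈ 𝐂[P]) :
    MemLocalIdeal M (blockCoeff B x - subgroupBlockCoeff H c x) := by
  haveI := isPrime_of_isPModular hM
  have hB := hBe.2.1
  have hc := hce.2.1
  have hlocB : ∀ y, MemLocalRing M (blockCoeff B y) := fun y => memLocalRing_blockCoeff hB y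
  have hlocc : ∀ y, MemLocalRing M (blockCoeff c y) := fun y => memLocalRing_blockCoeff hc y
  have hPh : IsPGroup p (P.subgroupOf H) := IsPGroup.comap_of_injective hP _ Subtype.val_injective
  have hGid : ∀ y, MemLocalIdeal M (resC 𝐂[P] (blockCoeff B) y -
      CharIntegrality.conv (resC 𝐂[P] (blockCoeff B)) (resC 𝐂[P] (blockCoeff B)) y) := by
    intro y
    have h1 := conv_resC_congr P hP hM (inv_blockCoeff B _) (inv_blockCoeff B _) hlocB hlocB y
    rwa [conv_blockCoeff_self] at h1
  have hHid : ∀ y, MemLocalIdeal M (resC (Subgroup.centralizer ((P.subgroupOf H : Subgroup H) : Set H)) (blockCoeff c) y -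
      CharIntegrality.conv (resC _ (blockCoeff c)) (resC _ (blockCoeff c)) y) := by
    intro y
    have h1 := conv_resC_congr (P.subgroupOf H) hPh hM (inv_blockCoeff c _) (inv_blockCoeff c _) hlocc hlocc y
    rwa [conv_blockCoeff_self] at h1
  have h1 := coeff_sub_blockCoeff_oneSet (M := M) (resC_isClassFunction (inv_blockCoeff B _))
    (fun y => hlocB y) hGid ⟨x, hx⟩
  have h2 := coeff_sub_blockCoeff_oneSet (M := M) (resC_isClassFunction (inv_blockCoeff c _))
    (fun y => hlocc y) hHid (m.iso.symm ⟨x, hx⟩)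
  rw [oneSet_eq hM hH hPH m hBe hnG hce hnH] at h1
  have h3 : blockCoeff (twistSetE m.iso (oneSet M (resC (Subgroup.centralizer
        ((P.subgroupOf H : Subgroup H) : Set H)) (blockCoeff c)))) ⟨x, hx⟩ =
      blockCoeff (oneSet M (resC (Subgroup.centralizer
        ((P.subgroupOf H : Subgroup H) : Set H)) (blockCoeff c))) (m.iso.symm ⟨x, hx⟩) := by
    rw [← blockCoeff_twistSetE m.iso, MulEquiv.apply_symm_apply]
  rw [h3] at h1
  have h4 := memLocalIdeal_sub h1 h2
  have h5 : subgroupBlockCoeff H c x = resC (Subgroup.centralizer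
        ((P.subgroupOf H : Subgroup H) : Set H)) (blockCoeff c) (m.iso.symm ⟨x, hx⟩) := by
    rw [subgroupBlockCoeff_eq_ext0, ext0_of_mem H _ (m.le hx)]
    rfl
  rw [h5]
  convert h4 using 1
  have h6 : resC 𝐂[P] (blockCoeff B) ⟨x, hx⟩ = blockCoeff B x := rfl
  rw [h6]
  ring

/-- Pairs on `P` for corresponding blocks. -/
theorem pair_hat_iff (hM : IsPModular p M) (hP : IsPGroup p P)
    (m : CenMatch (P.subgroupOf H) P) {B : Set (IrrCharacter G)} {c : Set (IrrCharacter H)}
    (hB : IsPBlock M B) (hc : IsPBlock M c) {e : Set (IrrCharacter 𝐂[P])} (he : IsPBlock M e)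
    (hcongr : ∀ x : G, x ∈ 𝐂[P] → MemLocalIdeal M (blockCoeff B x - subgroupBlockCoeff H c x)) :
    IsBrauerPairOf p M B P e ↔ IsBrauerPairOf p M c (P.subgroupOf H) (twistSetE m.iso.symm e) := by
  haveI := isPrime_of_isPModular hM
  have hPh : IsPGroup p (P.subgroupOf H) := IsPGroup.comap_of_injective hP _ Subtype.val_injective
  have hsbc : ∀ t : H, blockCoeff c t = subgroupBlockCoeff H c (t : G) := fun t => by
    rw [subgroupBlockCoeff_eq_ext0, ext0_coe]
  have hval : ∀ ξ : IrrCharacter 𝐂[P], brauerOmega (P.subgroupOf H) (blockCoeff c)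
      ((twistE m.iso.symm ξ : IrrCharacter _) : _ → ℂ) = brO P (subgroupBlockCoeff H c) ξ := by
    intro ξ
    rw [brauerOmega_eq, m.brO_eq hsbc, twistE_symm_twistE]
  have hdiff : ∀ ξ : IrrCharacter 𝐂[P], MemLocalIdeal M
      (brO P (blockCoeff B) ξ - brO P (subgroupBlockCoeff H c) ξ) := by
    intro ξ
    refine BrauerMap.memLocalIdeal_omega_sub _ (resC_isClassFunction (inv_blockCoeff B _))
      (resC_isClassFunction ?_) (fun y => hcongr y y.2) ξ
    intro u hu y
    have hH : u ∈ H := m.le hu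
    have h1 := inv_subgroupBlockCoeff H c u hH y
    exact h1
  constructor
  · intro h
    refine ⟨⟨hPh, isPBlock_twistSetE _ he⟩, hc, ?_⟩
    rintro _ ⟨ξ, hξ, rfl⟩
    rw [hval]
    have h1 := h.2.2 ξ hξ
    rw [brauerOmega_eq] at h1
    have h2 := memLocalIdeal_sub h1 (hdiff ξ)
    convert h2 using 1
    ring
  · intro h
    refine ⟨⟨hP, he⟩, hB, fun ξ hξ => ?_⟩
    have h1 := h.2.2 _ ⟨ξ, hξ, rfl⟩
    rw [hval] at h1
    rw [brauerOmega_eq]
    have h2 := memLocalIdeal_add h1 (hdiff ξ)
    convert h2 using 1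
    ring

/-- **S4670: the Brauer correspondence over `H ≥ N_G(P)`.** -/
theorem brauer_correspondence (hM : IsPModular p M) (hP : IsPGroup p P) (hH : 𝐍[P] ≤ H) :
    (∀ B : Set (IrrCharacter G), IsPBlock M B → IsDefectGroup p M B P →
      ∃! c : Set (IrrCharacter H), IsPBlock M c ∧ IsDefectGroup p M c (P.subgroupOf H) ∧
        ∀ x : G, x ∈ 𝐂[P] → MemLocalIdeal M (blockCoeff B x - subgroupBlockCoeff H c x)) ∧
    (∀ c : Set (IrrCharacter H), IsPBlock M c → IsDefectGroup p M c (P.subgroupOf H) →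
      ∃! B : Set (IrrCharacter G), IsPBlock M B ∧ IsDefectGroup p M B P ∧
        ∀ x : G, x ∈ 𝐂[P] → MemLocalIdeal M (blockCoeff B x - subgroupBlockCoeff H c x)) := by
  haveI := isPrime_of_isPModular hM
  have hPH : P ≤ H := (le_normalizer_self P).trans hH
  have hCH : 𝐂[P] ≤ H := fun x hx => hH (mem_normalizer_of_mem_centralizer hx)
  have m : CenMatch (P.subgroupOf H) P := cenMatch_of_le hCH hPH le_rfl
  have hPh : IsPGroup p (P.subgroupOf H) := IsPGroup.comap_of_injective hP _ Subtype.val_injective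
  constructor
  · intro B hB hD
    obtain ⟨e, hmaxe⟩ := exists_maximal_of_isDefectGroup hM hB hD
    have hnG := nmax_of_maximal hM hmaxe
    have hnH := nmax_hat hP hCH hPH m hnG
    have he := hmaxe.1.1.2
    have hpe : IsBrauerPair p M (P.subgroupOf H) (twistSetE m.iso.symm e) :=
      ⟨hPh, isPBlock_twistSetE _ he⟩
    obtain ⟨c, hc, huniq⟩ := existsUnique_isBrauerPairOf hM hpe
    refine ⟨c, ⟨hc.2.1, isDefectGroup_of_nmax hM hc hnH, fun x hx =>
      congr_of_pairs hM hP hH hPH m hmaxe.1 hnG hc hnH hx⟩, ?_⟩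
    rintro c' ⟨hc', -, hcongr⟩
    exact huniq c' ((pair_hat_iff hM hP m hB hc' he hcongr).1 hmaxe.1)
  · intro c hc hD
    obtain ⟨eh, hmaxe⟩ := exists_maximal_of_isDefectGroup hM hc hD
    have hnH0 := nmax_of_maximal hM hmaxe
    have hnG := nmax_unhat hH hCH hPH m hnH0
    have he : IsPBlock M (twistSetE m.iso eh) := isPBlock_twistSetE _ hmaxe.1.1.2
    have hpe : IsBrauerPair p M P (twistSetE m.iso eh) := ⟨hP, he⟩
    have hE : twistSetE m.iso.symm (twistSetE m.iso eh) = eh := twistSetE_symm_twistSetE _ _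
    obtain ⟨B, hB, huniq⟩ := existsUnique_isBrauerPairOf hM hpe
    refine ⟨B, ⟨hB.2.1, isDefectGroup_of_nmax hM hB hnG, fun x hx =>
      congr_of_pairs hM hP hH hPH m hB hnG (by rw [hE]; exact hmaxe.1) (by rw [hE]; exact hnH0) hx⟩, ?_⟩
    rintro B' ⟨hB', -, hcongr⟩
    refine huniq B' ((pair_hat_iff hM hP m hB' hc he hcongr).2 ?_)
    rw [hE]
    exact hmaxe.1

end Main

end Cfsg.Agent.Lib.BrauerCorr
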