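import Mathlib
import Cfsg.Agent.Lib.BlockLocal

/-!
# Reduction of group algebras modulo a valuation ring of `ℂ`

We choose a valuation subring `V` of `ℂ` containing the local ring at `M`, whose nonunits contain the
local ideal at `M`.  Its residue field is algebraically closed.  We compare the group algebras over
`V`, over `ℂ` and over the residue field.
-/

set_option autoImplicit false
set_option linter.unusedSectionVars false
set_option linter.unusedVariables false

namespace Cfsg.Agent.Lib.BlockResidue

open Cfsg Cfsg.Agent.Lib.BlockLocal IsLocalRing Module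

/-- the local ideal as an ideal of the local subring -/
def localIdeal (M : Ideal AlgInt) [M.IsPrime] : Ideal (localSubring M) where
  carrier := {z | MemLocalIdeal M (z : ℂ)}
  add_mem' := fun ha hb => memLocalIdeal_add ha hb
  zero_mem' := memLocalIdeal_zero
  smul_mem' := fun c _ hx => memLocalIdeal_mul_left c.2 hx

/-- A valuation ring of `ℂ` dominating the local ring at `M`. -/
theorem exists_val (M : Ideal AlgInt) [M.IsPrime] :
    ∃ V : ValuationSubring ℂ, (∀ z, MemLocalRing M z → z ∈ V) ∧
      (∀ z, MemLocalIdeal M z → z ∈ V.nonunits) := by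
  have hI : localIdeal M ≠ ⊤ := by
    intro h
    have : (1 : localSubring M) ∈ localIdeal M := by rw [h]; exact Submodule.mem_top
    exact not_memLocalIdeal_one this
  obtain ⟨V, hV1, hV2⟩ := Ideal.image_subset_nonunits_valuationSubring (localIdeal M) hI
  refine ⟨V, fun z hz => hV1 hz, fun z hz => hV2 ?_⟩
  exact ⟨⟨z, memLocalRing_of_memLocalIdeal hz⟩, hz, rfl⟩

variable (V : ValuationSubring ℂ)

theorem residue_eq_zero_iff' (z : V) : residue V z = 0 ↔ (z : ℂ) ∈ V.nonunits := by
  rw [IsLocalRing.residue_eq_zero_iff, ValuationSubring.mem_nonunits_iff_exists_mem_maximalIdeal]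
  constructor
  · intro h; exact ⟨z.2, h⟩
  · rintro ⟨_, h⟩; exact h

/-- The residue field of a valuation ring of `ℂ` is algebraically closed. -/
theorem isAlgClosed_residue : IsAlgClosed (ResidueField V) := by
  refine IsAlgClosed.of_exists_root _ fun p hp hirr => ?_
  have hlift : p ∈ Polynomial.lifts (residue V) := by
    rw [Polynomial.mem_lifts]
    exact Polynomial.map_surjective _ (residue_surjective) p
  obtain ⟨q, hq, hdeg, hmon⟩ := Polynomial.lifts_and_degree_eq_and_monic hlift hp
  have hdegne : (q.map V.subtype).degree ≠ 0 := by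
    rw [Polynomial.degree_map_eq_of_injective V.subtype_injective, hdeg]
    exact (Polynomial.degree_pos_of_irreducible hirr).ne'
  obtain ⟨α, hα⟩ := IsAlgClosed.exists_root (q.map V.subtype) hdegne
  have hint : IsIntegral V α := by
    refine ⟨q, hmon, ?_⟩
    rw [Polynomial.IsRoot.def, Polynomial.eval_map] at hα
    exact hα
  obtain ⟨y, rfl⟩ := IsIntegrallyClosed.isIntegral_iff.1 hint
  refine ⟨residue V y, ?_⟩
  have h0 : Polynomial.eval y q = 0 := by
    have := hα
    rw [Polynomial.IsRoot.def] at this
    have h1 : (q.map V.subtype).eval (V.subtype y) = V.subtype (q.eval y) :=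
      Polynomial.eval_map_apply ..
    have h2 : (algebraMap V ℂ y) = V.subtype y := rfl
    rw [h2, h1] at this
    exact V.subtype_injective (by simpa using this)
  rw [← hq, Polynomial.eval_map_apply, h0, map_zero]

/-- Scaling a nonzero family of complex numbers into `V` with one coordinate equal to one. -/
theorem exists_scale {J : Type*} [Fintype J] (c : J → ℂ) (hc : ∃ j, c j ≠ 0) :
    ∃ (d : ℂ) (c' : J → V) (j₀ : J), d ≠ 0 ∧ (∀ j, (c' j : ℂ) = d * c j) ∧ c' j₀ = 1 := by
  classical
  obtain ⟨j₁, hj₁⟩ := hc
  obtain ⟨j₀, -, hj₀⟩ := Finset.exists_max_image Finset.univ (fun j => V.valuation (c j))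
    ⟨j₁, Finset.mem_univ _⟩
  have h0 : c j₀ ≠ 0 := by
    intro h
    have := hj₀ j₁ (Finset.mem_univ _)
    rw [h, map_zero] at this
    exact (map_ne_zero _ |>.2 hj₁) (le_antisymm this zero_le)
  have hmem : ∀ j, (c j₀)⁻¹ * c j ∈ V := by
    intro j
    rw [← ValuationSubring.valuation_le_one_iff, map_mul, map_inv₀]
    rw [inv_mul_le_iff₀ (zero_lt_iff.2 ((map_ne_zero _).2 h0)), mul_one]
    exact hj₀ j (Finset.mem_univ _)
  refine ⟨(c j₀)⁻¹, fun j => ⟨_, hmem j⟩, j₀, inv_ne_zero h0, fun j => rfl, ?_⟩
  apply Subtype.ext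
  simp [h0]

section GroupAlgebra

variable {S : Type*} [CommRing S] {G : Type*} [Group G] [Fintype G]

open MonoidAlgebra

/-- The element of the group algebra with a given coefficient function. -/
noncomputable def ofFun (f : G → S) : MonoidAlgebra S G :=
  .ofCoeff (Finsupp.equivFunOnFinite.symm f)

@[simp] theorem coeff_ofFun (f : G → S) (g : G) : (ofFun f).coeff g = f g := rfl

theorem ext_coeff {a b : MonoidAlgebra S G} (h : ∀ g, a.coeff g = b.coeff g) : a = b :=
  MonoidAlgebra.ext (Finsupp.ext h)

/-- Coefficients of a product. -/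
theorem coeff_mul_eq (a b : MonoidAlgebra S G) (z : G) :
    (a * b).coeff z = ∑ x : G, a.coeff x * b.coeff (x⁻¹ * z) := by
  classical
  rw [MonoidAlgebra.coeff_mul, Finsupp.sum_fintype _ _ (fun _ => by simp)]
  refine Finset.sum_congr rfl fun x _ => ?_
  rw [Finsupp.sum_fintype _ _ (fun _ => by simp)]
  rw [Finset.sum_eq_single (x⁻¹ * z)]
  · simp
  · intro y _ hy
    rw [if_neg]
    rintro rfl
    simp at hy
  · simp

theorem coeff_one_mul_comm (a b : MonoidAlgebra S G) : (a * b).coeff 1 = (b * a).coeff 1 := by
  rw [coeff_mul_eq, coeff_mul_eq]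
  rw [← Equiv.sum_comp (Equiv.inv G)]
  refine Finset.sum_congr rfl fun x _ => ?_
  simp [mul_comm]

theorem coeff_mul_single' (a : MonoidAlgebra S G) (g h : G) :
    (a * single g (1 : S)).coeff h = a.coeff (h * g⁻¹) := by
  classical
  rw [coeff_mul_eq, Finset.sum_eq_single (h * g⁻¹)]
  · simp
  · intro y _ hy
    rw [coeff_single, Finsupp.single_apply, if_neg, mul_zero]
    intro h'
    apply hy
    have : y⁻¹ * h = g := h'.symm
    rw [← this]; group
  · simp

theorem coeff_single_mul' (a : MonoidAlgebra S G) (g h : G) :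
    (single g (1 : S) * a).coeff h = a.coeff (g⁻¹ * h) := by
  classical
  rw [coeff_mul_eq, Finset.sum_eq_single g]
  · simp
  · intro y _ hy
    rw [coeff_single, Finsupp.single_apply, if_neg, zero_mul]
    exact fun h' => hy h'.symm
  · simp

/-- Induction principle on group algebras over finite groups: an additive identity checked on group
elements with coefficients. -/
theorem eq_sum_single (a : MonoidAlgebra S G) :
    a = ∑ g : G, single g (a.coeff g) := by
  classical
  refine ext_coeff fun h => ?_
  rw [MonoidAlgebra.coeff_sum, Finsupp.finsetSum_apply, Finset.sum_eq_single h]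
  · simp
  · intro y _ hy
    simp [hy]
  · simp

theorem single_eq_smul (g : G) (r : S) : (single g r : MonoidAlgebra S G) = r • single g (1 : S) := by
  simp

/-- Central elements are the class functions. -/
theorem central_of_class {c : MonoidAlgebra S G} (h : ∀ g x : G, c.coeff (x * g * x⁻¹) = c.coeff g)
    (a : MonoidAlgebra S G) : c * a = a * c := by
  rw [eq_sum_single a, Finset.mul_sum, Finset.sum_mul]
  refine Finset.sum_congr rfl fun g _ => ?_
  rw [single_eq_smul, mul_smul_comm, smul_mul_assoc]
  congr 1
  refine ext_coeff fun y => ?_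
  rw [coeff_mul_single', coeff_single_mul']
  have := h (y * g⁻¹) g⁻¹
  rw [← this]
  congr 1
  group

theorem class_of_central {c : MonoidAlgebra S G} (h : ∀ a, c * a = a * c) (g x : G) :
    c.coeff (x * g * x⁻¹) = c.coeff g := by
  have h1 := congrArg (fun w : MonoidAlgebra S G => w.coeff (x * g)) (h (single x (1 : S)))
  simp only [coeff_mul_single', coeff_single_mul'] at h1
  rw [show x⁻¹ * (x * g) = g by group] at h1
  exact h1

end GroupAlgebra

section Reduction

variable {G : Type*} [Group G] [Fintype G]

open MonoidAlgebra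

/-- The residue field. -/
abbrev Kf (V : ValuationSubring ℂ) := ResidueField V

/-- inclusion of group algebras -/
noncomputable def iotaV : MonoidAlgebra V G →+* MonoidAlgebra ℂ G :=
  MonoidAlgebra.mapRingHom G V.subtype

/-- reduction of group algebras -/
noncomputable def rhoV : MonoidAlgebra V G →+* MonoidAlgebra (Kf V) G :=
  MonoidAlgebra.mapRingHom G (residue V)

variable {V}

@[simp] theorem coeff_iotaV (a : MonoidAlgebra V G) (g : G) :
    (iotaV V a).coeff g = (a.coeff g : ℂ) := by
  simp [iotaV]

@[simp] theorem coeff_rhoV (a : MonoidAlgebra V G) (g : G) :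
    (rhoV V a).coeff g = residue V (a.coeff g) := by
  simp [rhoV]

theorem iotaV_injective : Function.Injective (iotaV V : MonoidAlgebra V G → _) := by
  intro a b h
  refine ext_coeff fun g => ?_
  apply Subtype.ext
  rw [← coeff_iotaV, ← coeff_iotaV, h]

theorem rhoV_surjective : Function.Surjective (rhoV V : MonoidAlgebra V G → _) := by
  intro x
  choose f hf using fun g => residue_surjective (R := V) (x.coeff g)
  refine ⟨ofFun f, ext_coeff fun g => ?_⟩
  simp [hf]

theorem iotaV_smul (r : V) (a : MonoidAlgebra V G) :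
    iotaV V (r • a) = (r : ℂ) • iotaV V a := by
  refine ext_coeff fun g => ?_
  simp

theorem rhoV_smul (r : V) (a : MonoidAlgebra V G) :
    rhoV V (r • a) = residue V r • rhoV V a := by
  refine ext_coeff fun g => ?_
  simp

/-- An element with coefficients in `V`. -/
theorem exists_lift (f : G → ℂ) (h : ∀ g, f g ∈ V) :
    ∃ a : MonoidAlgebra V G, iotaV V a = ofFun f := by
  refine ⟨ofFun fun g => ⟨f g, h g⟩, ext_coeff fun g => ?_⟩
  simp

/-- The reductions of the elements whose product with `x` vanishes. -/
noncomputable def Ki (x : MonoidAlgebra ℂ G) : Submodule (Kf V) (MonoidAlgebra (Kf V) G) where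
  carrier := {y | ∃ a : MonoidAlgebra V G, iotaV V a * x = 0 ∧ rhoV V a = y}
  add_mem' := by
    rintro _ _ ⟨a, ha, rfl⟩ ⟨b, hb, rfl⟩
    exact ⟨a + b, by rw [map_add, add_mul, ha, hb, add_zero], map_add _ _ _⟩
  zero_mem' := ⟨0, by simp, map_zero _⟩
  smul_mem' := by
    rintro c _ ⟨a, ha, rfl⟩
    obtain ⟨r, rfl⟩ := residue_surjective (R := V) c
    exact ⟨r • a, by rw [iotaV_smul, smul_mul_assoc, ha, smul_zero], rhoV_smul _ _⟩

theorem mem_Ki {x : MonoidAlgebra ℂ G} {y : MonoidAlgebra (Kf V) G} :
    y ∈ Ki (V := V) x ↔ ∃ a : MonoidAlgebra V G, iotaV V a * x = 0 ∧ rhoV V a = y := Iff.rfl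

/-- The dimension bound. -/
theorem finrank_add_Ki_le (x : MonoidAlgebra ℂ G) :
    finrank (Kf V) (MonoidAlgebra (Kf V) G) ≤
      finrank (Kf V) (Ki (V := V) x) + finrank ℂ (LinearMap.range (LinearMap.mulRight ℂ x)) := by
  classical
  obtain ⟨X, hX⟩ := Submodule.exists_isCompl (Ki (V := V) x)
  have h1 := Submodule.finrank_add_eq_of_isCompl hX
  suffices h2 : finrank (Kf V) X ≤ finrank ℂ (LinearMap.range (LinearMap.mulRight ℂ x)) by omega
  let b := Module.finBasis (Kf V) X
  choose a ha using fun j => rhoV_surjective (V := V) ((b j : X) : MonoidAlgebra (Kf V) G)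
  let T : Fin (finrank (Kf V) X) → LinearMap.range (LinearMap.mulRight ℂ x) := fun j =>
    ⟨iotaV V (a j) * x, ⟨iotaV V (a j), rfl⟩⟩
  have hT : LinearIndependent ℂ T := by
    rw [Fintype.linearIndependent_iff]
    intro c hc
    by_contra hne
    push Not at hne
    obtain ⟨d, c', j₀, hd, hc', hj₀⟩ := exists_scale V c hne
    have h3 : iotaV V (∑ j, c' j • a j) * x = 0 := by
      have h4 := congrArg (fun w : LinearMap.range (LinearMap.mulRight ℂ x) =>
        (w : MonoidAlgebra ℂ G)) hc
      simp only [T, Submodule.coe_sum, Submodule.coe_smul, Submodule.coe_zero] at h4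
      rw [map_sum, Finset.sum_mul]
      calc ∑ j, iotaV V (c' j • a j) * x = d • ∑ j, c j • (iotaV V (a j) * x) := by
            rw [Finset.smul_sum]
            refine Finset.sum_congr rfl fun j _ => ?_
            rw [iotaV_smul, hc', smul_smul, smul_mul_assoc]
        _ = 0 := by rw [h4, smul_zero]
    have h5 : rhoV V (∑ j, c' j • a j) ∈ Ki (V := V) x := ⟨_, h3, rfl⟩
    have h6 : rhoV V (∑ j, c' j • a j) ∈ X := by
      rw [map_sum]
      refine X.sum_mem fun j _ => ?_
      rw [rhoV_smul, ha]
      exact X.smul_mem _ (b j).2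
    have h7 : rhoV V (∑ j, c' j • a j) = 0 := by
      have := hX.disjoint.le_bot ⟨h5, h6⟩
      simpa using this
    have h8 : ∑ j, residue V (c' j) • b j = 0 := by
      apply Subtype.ext
      rw [Submodule.coe_sum]
      simp only [Submodule.coe_smul, Submodule.coe_zero]
      rw [← h7, map_sum]
      refine Finset.sum_congr rfl fun j _ => ?_
      rw [rhoV_smul, ha]
    have h9 := Fintype.linearIndependent_iff.1 b.linearIndependent _ h8 j₀
    rw [hj₀, map_one] at h9
    exact one_ne_zero h9
  have := hT.fintype_card_le_finrank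
  simpa using this

/-- Independent reductions come from independent elements. -/
theorem linearIndependent_of_reduction {J : Type*} [Fintype J] (a : J → MonoidAlgebra V G)
    (h : LinearIndependent (Kf V) (fun j => rhoV V (a j))) :
    LinearIndependent ℂ (fun j => iotaV V (a j)) := by
  classical
  rw [Fintype.linearIndependent_iff]
  intro c hc
  by_contra hne
  push Not at hne
  obtain ⟨d, c', j₀, hd, hc', hj₀⟩ := exists_scale V c hne
  have h3 : iotaV V (∑ j, c' j • a j) = 0 := by
    rw [map_sum]
    calc ∑ j, iotaV V (c' j • a j) = d • ∑ j, c j • iotaV V (a j) := by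
          rw [Finset.smul_sum]
          refine Finset.sum_congr rfl fun j _ => ?_
          rw [iotaV_smul, hc', smul_smul]
      _ = 0 := by rw [hc, smul_zero]
  have h4 : ∑ j, c' j • a j = 0 := iotaV_injective (by rw [h3, map_zero])
  have h5 : ∑ j, residue V (c' j) • rhoV V (a j) = 0 := by
    have := congrArg (rhoV V) h4
    rw [map_sum, map_zero] at this
    rw [← this]
    refine Finset.sum_congr rfl fun j _ => ?_
    rw [rhoV_smul]
  have h9 := Fintype.linearIndependent_iff.1 h _ h5 j₀
  rw [hj₀, map_one] at h9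
  exact one_ne_zero h9

/-- Every nonzero element of `ℂ[G]` has a nonzero multiple coming from `V[G]`
with nonzero reduction. -/
theorem exists_scale_elem (x : MonoidAlgebra ℂ G) (hx : x ≠ 0) :
    ∃ (d : ℂ) (b : MonoidAlgebra V G), d ≠ 0 ∧ iotaV V b = d • x ∧ rhoV V b ≠ 0 := by
  classical
  have hne : ∃ g, x.coeff g ≠ 0 := by
    by_contra hcon
    push Not at hcon
    exact hx (ext_coeff fun g => by simpa using hcon g)
  obtain ⟨d, c', j₀, hd, hc', hj₀⟩ := exists_scale V (fun g => x.coeff g) hne
  refine ⟨d, ofFun c', hd, ext_coeff fun g => ?_, ?_⟩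
  · simp [hc']
  · intro h
    have := congrArg (fun w : MonoidAlgebra (Kf V) G => w.coeff j₀) h
    simp [hj₀] at this

/-- Lifts of central elements. -/
theorem exists_central_lift (c : MonoidAlgebra (Kf V) G)
    (hc : ∀ a, c * a = a * c) :
    ∃ a : MonoidAlgebra V G, (∀ b, a * b = b * a) ∧ rhoV V a = c := by
  classical
  -- choose lifts on conjugacy classes
  choose f hf using fun K : ConjClasses G =>
    residue_surjective (R := V) (c.coeff (Quotient.out K))
  have hrep : ∀ g, c.coeff (Quotient.out (ConjClasses.mk g)) = c.coeff g := by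
    intro g
    have h : IsConj (Quotient.out (ConjClasses.mk g)) g :=
      ConjClasses.mk_eq_mk_iff_isConj.1 (Quotient.out_eq (ConjClasses.mk g))
    obtain ⟨x, hx⟩ := isConj_iff.1 h
    calc c.coeff (Quotient.out (ConjClasses.mk g))
        = c.coeff (x * Quotient.out (ConjClasses.mk g) * x⁻¹) := (class_of_central hc _ x).symm
      _ = c.coeff g := by rw [hx]
  refine ⟨ofFun fun g => f (ConjClasses.mk g), central_of_class ?_, ext_coeff fun g => ?_⟩
  · intro g x
    simp only [coeff_ofFun]
    congr 1
    exact ConjClasses.mk_eq_mk_iff_isConj.2 (isConj_iff.2 ⟨x, rfl⟩ |>.symm)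
  · simp [hf, hrep]

end Reduction

end Cfsg.Agent.Lib.BlockResidue
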