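import Mathlib

/-!
# Symmetric algebras with two-dimensional local centre

`A` is a finite-dimensional algebra over an algebraically closed field, with a nondegenerate
symmetric trace form.  If its centre has dimension at most two and has no nontrivial idempotents,
then every proper two-sided ideal has square zero, so it has at most half the dimension of `A`.
-/

namespace Cfsg.Agent.Lib.LocalSymAlg

open Module

variable {k A : Type*} [Field k] [Ring A] [Algebra k A]

/-- `y` is killed by every product of `m` elements of `S` on the left. -/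
def Pn (S : Set A) : ℕ → A → Prop
  | 0, y => y = 0
  | (m + 1), y => ∀ n ∈ S, Pn S m (n * y)

theorem Pn_mono {S T : Set A} (h : S ⊆ T) : ∀ (m : ℕ) (y : A), Pn T m y → Pn S m y
  | 0, _, hy => hy
  | (m + 1), y, hy => fun n hn => Pn_mono h m (n * y) (hy n (h hn))

/-- A nondegenerate form represents every functional. -/
theorem exists_form_eq [FiniteDimensional k A] (t : A →ₗ[k] k)
    (hnd : ∀ a, (∀ b, t (a * b) = 0) → a = 0) (f : A →ₗ[k] k) :
    ∃ z, ∀ b, f b = t (z * b) := by
  let φ : A →ₗ[k] Module.Dual k A := (LinearMap.mul k A).compr₂ t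
  have hφ : Function.Injective φ := by
    rw [← LinearMap.ker_eq_bot, LinearMap.ker_eq_bot']
    intro a ha
    apply hnd
    intro b
    have := congrArg (fun g : Module.Dual k A => g b) ha
    simpa [φ] using this
  have hs : Function.Surjective φ :=
    (LinearMap.injective_iff_surjective_of_finrank_eq_finrank
      (Subspace.dual_finrank_eq (K := k) (V := A)).symm).1 hφ
  obtain ⟨z, hz⟩ := hs f
  refine ⟨z, fun b => ?_⟩
  rw [← hz]
  simp [φ]

theorem central_of_trace (t : A →ₗ[k] k) (ht : ∀ a b, t (a * b) = t (b * a))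
    (hnd : ∀ a, (∀ b, t (a * b) = 0) → a = 0) (f : A →ₗ[k] k)
    (hf : ∀ a b, f (a * b) = f (b * a)) (z : A) (hz : ∀ b, f b = t (z * b)) (b : A) :
    z * b = b * z := by
  have := hnd (z * b - b * z) (fun c => ?_)
  · exact sub_eq_zero.1 this
  · have h1 : t ((z * b - b * z) * c) = t (z * (b * c)) - t ((b * z) * c) := by
      rw [sub_mul, map_sub, mul_assoc]
    have h2 : t ((b * z) * c) = t (z * (c * b)) := by
      rw [mul_assoc, ht, mul_assoc]
    rw [h1, h2, ← hz, ← hz, hf, sub_self]

section Corner

set_option linter.unusedSectionVars false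

variable (t : A →ₗ[k] k) (ht : ∀ a b, t (a * b) = t (b * a))
  (hnd : ∀ a, (∀ b, t (a * b) = 0) → a = 0)
  (J : Submodule k A) (hJl : ∀ a x, x ∈ J → a * x ∈ J) (hJr : ∀ a x, x ∈ J → x * a ∈ J)
  (e : A) (he : e * e = e) (heJ : e ∉ J)
  (hdec : ∀ a, ∃ c : k, e * a * e - c • e ∈ J)
  {ι : Type*} [Fintype ι] (α β : ι → A) (h1 : ∑ i, α i * e * β i = 1)

/-- the corner of the radical -/
def InN (J : Submodule k A) (e y : A) : Prop := y ∈ J ∧ e * y = y ∧ y * e = y

include he hdec in
theorem exists_corner (a : A) : ∃ (c : k) (n : A), InN J e n ∧ e * a * e = c • e + n := by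
  obtain ⟨c, hc⟩ := hdec a
  refine ⟨c, e * a * e - c • e, ⟨hc, ?_, ?_⟩, by abel⟩
  · rw [mul_sub, mul_smul_comm, he, ← mul_assoc, ← mul_assoc, he]
  · rw [sub_mul, smul_mul_assoc, he, mul_assoc, he]

include ht hnd hJl hJr he hdec in
/-- First lemma: an element of the corner radical killed by `N * N` is central in the corner. -/
theorem comm_of_kill (y : A) (hy : InN J e y) (hk : ∀ n n', InN J e n → InN J e n' → n * (n' * y) = 0)
    (n : A) (hn : InN J e n) : n * y = y * n := by
  rcases hy with ⟨hyJ, hey, hye⟩
  rcases hn with ⟨hnJ, hen, hne⟩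
  have := hnd (n * y - y * n) (fun a => ?_)
  · exact sub_eq_zero.1 this
  · obtain ⟨c, n', hn', hc⟩ := exists_corner J e he hdec a
    have h1 : t (n * y * a) = c * t (n * y) := by
      have : t (n * y * a) = t (n * y * (e * a * e)) := by
        calc t (n * y * a) = t (e * (n * y * e * a)) := by
              rw [mul_assoc n y e, hye, ← mul_assoc e, ← mul_assoc e, hen]
          _ = t ((n * y * e * a) * e) := ht _ _
          _ = t (n * y * (e * a * e)) := by simp only [mul_assoc]
      rw [this, hc, mul_add, map_add, mul_smul_comm, map_smul, mul_assoc n y e, hye, ht (n * y) n',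
        ← mul_assoc n' n y, mul_assoc n' n y, hk n' n hn' ⟨hnJ, hen, hne⟩, map_zero, add_zero,
        smul_eq_mul]
    have h2 : t (y * n * a) = c * t (y * n) := by
      have : t (y * n * a) = t (y * n * (e * a * e)) := by
        calc t (y * n * a) = t (e * (y * n * e * a)) := by
              rw [mul_assoc y n e, hne, ← mul_assoc e, ← mul_assoc e, hey]
          _ = t ((y * n * e * a) * e) := ht _ _
          _ = t (y * n * (e * a * e)) := by simp only [mul_assoc]
      rw [this, hc, mul_add, map_add, mul_smul_comm, map_smul, mul_assoc y n e, hne, mul_assoc y n n',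
        ht y (n * n'), mul_assoc n n' y, hk n n' ⟨hnJ, hen, hne⟩ hn', map_zero, add_zero, smul_eq_mul]
    rw [sub_mul, map_sub, h1, h2, ht n y, sub_self]

include hJl hJr he hdec in
theorem comm_corner (y : A) (hy : InN J e y) (hc : ∀ n, InN J e n → n * y = y * n) (a : A) :
    (e * a * e) * y = y * (e * a * e) := by
  obtain ⟨c, n, hn, h⟩ := exists_corner J e he hdec a
  rcases hy with ⟨hyJ, hey, hye⟩
  rw [h, add_mul, mul_add, smul_mul_assoc, mul_smul_comm, hey, hye, hc n hn]

include hJl hJr he hdec h1 in
/-- Second lemma: an element central in the corner comes from the centre of `A`. -/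
theorem exists_central (y : A) (hy : InN J e y) (hc : ∀ n, InN J e n → n * y = y * n) :
    ∃ z : A, (∀ b, z * b = b * z) ∧ z * e = y := by
  have hcc := comm_corner J hJl hJr e he hdec y hy hc
  rcases hy with ⟨hyJ, hey, hye⟩
  refine ⟨∑ j, α j * y * β j, fun c => ?_, ?_⟩
  · calc (∑ j, α j * y * β j) * c
        = (∑ j, α j * y * β j) * c * (∑ i, α i * e * β i) := by rw [h1, mul_one]
      _ = ∑ j, ∑ i, (α j * y * β j) * c * (α i * e * β i) := by
          rw [Finset.sum_mul, Finset.sum_mul_sum]
      _ = ∑ j, ∑ i, (α j * e * β j) * c * (α i * y * β i) := by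
          refine Finset.sum_congr rfl fun j _ => Finset.sum_congr rfl fun i _ => ?_
          have := hcc (β j * c * α i)
          have h3 : y * (β j * c * α i) * e = e * (β j * c * α i) * y := by
            calc y * (β j * c * α i) * e = y * e * (β j * c * α i) * e := by rw [hye]
              _ = y * (e * (β j * c * α i) * e) := by simp only [mul_assoc]
              _ = (e * (β j * c * α i) * e) * y := this.symm
              _ = e * (β j * c * α i) * (e * y) := by simp only [mul_assoc]
              _ = e * (β j * c * α i) * y := by rw [hey]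
          calc α j * y * β j * c * (α i * e * β i)
              = α j * (y * (β j * c * α i) * e) * β i := by simp only [mul_assoc]
            _ = α j * (e * (β j * c * α i) * y) * β i := by rw [h3]
            _ = α j * e * β j * c * (α i * y * β i) := by simp only [mul_assoc]
      _ = (∑ j, α j * e * β j) * c * (∑ i, α i * y * β i) := by
          rw [Finset.sum_mul, Finset.sum_mul_sum]
      _ = c * ∑ j, α j * y * β j := by rw [h1, one_mul]
  · have hcomm : ∀ j, e * (α j * y * β j) * e = y * (e * α j * e * β j * e) := by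
      intro j
      have := hcc (α j)
      calc e * (α j * y * β j) * e = (e * α j * (e * y)) * β j * e := by
            rw [hey]; simp only [mul_assoc]
        _ = ((e * α j * e) * y) * β j * e := by simp only [mul_assoc]
        _ = (y * (e * α j * e)) * β j * e := by rw [this]
        _ = y * (e * α j * e * β j * e) := by simp only [mul_assoc]
    have hzc : (∑ j, α j * y * β j) * e = e * (∑ j, α j * y * β j) * e := by
      -- centrality proved above is not yet available here, recompute
      have hcent : (∑ j, α j * y * β j) * e = e * ∑ j, α j * y * β j := by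
        calc (∑ j, α j * y * β j) * e
            = (∑ j, α j * y * β j) * e * (∑ i, α i * e * β i) := by rw [h1, mul_one]
          _ = ∑ j, ∑ i, (α j * y * β j) * e * (α i * e * β i) := by
              rw [Finset.sum_mul, Finset.sum_mul_sum]
          _ = ∑ j, ∑ i, (α j * e * β j) * e * (α i * y * β i) := by
              refine Finset.sum_congr rfl fun j _ => Finset.sum_congr rfl fun i _ => ?_
              have := hcc (β j * e * α i)
              have h3 : y * (β j * e * α i) * e = e * (β j * e * α i) * y := by
                calc y * (β j * e * α i) * e = y * e * (β j * e * α i) * e := by rw [hye]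
                  _ = y * (e * (β j * e * α i) * e) := by simp only [mul_assoc]
                  _ = (e * (β j * e * α i) * e) * y := this.symm
                  _ = e * (β j * e * α i) * (e * y) := by simp only [mul_assoc]
                  _ = e * (β j * e * α i) * y := by rw [hey]
              calc α j * y * β j * e * (α i * e * β i)
                  = α j * (y * (β j * e * α i) * e) * β i := by simp only [mul_assoc]
                _ = α j * (e * (β j * e * α i) * y) * β i := by rw [h3]
                _ = α j * e * β j * e * (α i * y * β i) := by simp only [mul_assoc]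
          _ = (∑ j, α j * e * β j) * e * (∑ i, α i * y * β i) := by
              rw [Finset.sum_mul, Finset.sum_mul_sum]
          _ = e * ∑ j, α j * y * β j := by rw [h1, one_mul]
      calc (∑ j, α j * y * β j) * e = (∑ j, α j * y * β j) * e * e := by rw [mul_assoc, he]
        _ = e * (∑ j, α j * y * β j) * e := by rw [hcent]
    rw [hzc, Finset.mul_sum, Finset.sum_mul]
    simp_rw [hcomm]
    rw [← Finset.mul_sum]
    have h4 : ∑ j, e * α j * e * β j * e = e := by
      have : ∀ j, e * α j * e * β j * e = e * (α j * e * β j) * e := by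
        intro j; simp only [mul_assoc]
      simp_rw [this]
      rw [← Finset.sum_mul, ← Finset.mul_sum, h1, mul_one, he]
    rw [h4, hye]

variable (hZ : ∀ z : Fin 3 → A, (∀ i b, z i * b = b * z i) → ¬ LinearIndependent k z)

include hJl hJr he heJ hdec h1 hZ in
/-- Third lemma: two elements central in the corner, inside the radical, are dependent. -/
theorem dep_of_central (y y' : A) (hy : InN J e y) (hy' : InN J e y')
    (hc : ∀ n, InN J e n → n * y = y * n) (hc' : ∀ n, InN J e n → n * y' = y' * n) :
    ∃ a b : k, (a ≠ 0 ∨ b ≠ 0) ∧ a • y + b • y' = 0 := by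
  obtain ⟨z, hz, hze⟩ := exists_central J hJl hJr e he hdec α β h1 y hy hc
  obtain ⟨z', hz', hze'⟩ := exists_central J hJl hJr e he hdec α β h1 y' hy' hc'
  have hn := hZ ![1, z, z'] (by
    intro i b
    fin_cases i
    · simp
    · simpa using hz b
    · simpa using hz' b)
  rw [Fintype.not_linearIndependent_iff] at hn
  obtain ⟨g, hg, i, hi⟩ := hn
  rw [Fin.sum_univ_three] at hg
  simp only [Matrix.cons_val_zero, Matrix.cons_val_one, Matrix.cons_val] at hg
  have h2 : g 0 • e + g 1 • y + g 2 • y' = 0 := by
    have := congrArg (· * e) hg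
    simp only [add_mul, smul_mul_assoc, one_mul, hze, hze', zero_mul] at this
    exact this
  have h0 : g 0 = 0 := by
    by_contra h0
    apply heJ
    have h3 : g 0 • e = -(g 1 • y + g 2 • y') := by
      rw [eq_neg_iff_add_eq_zero, ← add_assoc, h2]
    have h4 : g 0 • e ∈ J := by
      rw [h3]
      exact J.neg_mem (J.add_mem (J.smul_mem _ hy.1) (J.smul_mem _ hy'.1))
    exact (J.smul_mem_iff h0).1 h4
  refine ⟨g 1, g 2, ?_, by simpa [h0] using h2⟩
  by_contra hcon
  push Not at hcon
  fin_cases i
  · exact hi h0
  · exact hi hcon.1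
  · exact hi hcon.2

include hJl hJr in
theorem InN.mul {n y : A} (hn : InN J e n) (hy : InN J e y) : InN J e (n * y) :=
  ⟨hJl _ _ hy.1, by rw [← mul_assoc, hn.2.1], by rw [mul_assoc, hy.2.2]⟩

include ht hnd hJl hJr he heJ hdec h1 hZ in
/-- An element of the corner radical killed by `N * N` is killed by `N`. -/
theorem kill_of_kill (y : A) (hy : InN J e y)
    (hk : ∀ n n', InN J e n → InN J e n' → n * (n' * y) = 0) (n : A) (hn : InN J e n) :
    n * y = 0 := by
  by_contra hne
  have hy1 : InN J e (n * y) := InN.mul J hJl hJr e hn hy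
  have hc := comm_of_kill t ht hnd J hJl hJr e he hdec y hy hk
  have hc1 := comm_of_kill t ht hnd J hJl hJr e he hdec (n * y) hy1 (by
    intro a b ha hb
    rw [hk b n hb hn, mul_zero])
  obtain ⟨a, b, hab, hd⟩ := dep_of_central J hJl hJr e he heJ hdec α β h1 hZ y (n * y) hy hy1 hc hc1
  have h2 := congrArg (n * ·) hd
  simp only [mul_add, mul_smul_comm, hk n n hn hn, smul_zero, add_zero, mul_zero] at h2
  have ha : a = 0 := by
    rcases smul_eq_zero.1 h2 with h | h
    · exact h
    · exact absurd h hne
  subst ha
  rcases hab with h | h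
  · exact h rfl
  · simp only [zero_smul, zero_add] at hd
    rcases smul_eq_zero.1 hd with h' | h'
    · exact h h'
    · exact hne h'

include ht hnd hJl hJr he heJ hdec h1 hZ in
theorem kill_all (j : ℕ) : ∀ y : A, InN J e y → Pn {n | InN J e n} (j + 1) y →
    ∀ n, InN J e n → n * y = 0 := by
  induction j with
  | zero => exact fun y _ h n hn => h n hn
  | succ j ih =>
    intro y hy h n hn
    refine kill_of_kill t ht hnd J hJl hJr e he heJ hdec α β h1 hZ y hy ?_ n hn
    intro a b ha hb
    exact ih (b * y) (InN.mul J hJl hJr e hb hy) (h b hb) a ha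

include ht hnd hJl hJr he heJ hdec h1 hZ in
/-- The radical has square zero. -/
theorem rad_sq (m : ℕ) (hnil : ∀ y, Pn (J : Set A) m y) {x y : A} (hx : x ∈ J) (hy : y ∈ J) :
    x * y = 0 := by
  have hNN : ∀ n y, InN J e n → InN J e y → n * y = 0 := by
    intro n y hn hy
    have hS : {n | InN J e n} ⊆ (J : Set A) := fun n hn => hn.1
    refine kill_all t ht hnd J hJl hJr e he heJ hdec α β h1 hZ m y hy ?_ n hn
    intro a ha
    exact Pn_mono hS m _ (hnil _)
  have hcor : ∀ (w : A) (u v : A), w ∈ J → InN J e (e * u * w * v * e) := by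
    intro w u v hw
    refine ⟨?_, ?_, ?_⟩
    · exact hJr _ _ (hJr _ _ (hJl _ _ hw))
    · simp only [← mul_assoc, he]
    · simp only [mul_assoc, he]
  have h3 : ∀ u v : A, e * u * (x * y) * v * e = 0 := by
    intro u v
    have : e * u * (x * y) * v * e
        = ∑ i, (e * u * x * α i * e) * (e * β i * y * v * e) := by
      calc e * u * (x * y) * v * e = e * u * x * (∑ i, α i * e * β i) * y * v * e := by
            rw [h1, mul_one]; simp only [mul_assoc]
        _ = ∑ i, (e * u * x * (α i * e * β i)) * y * v * e := by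
            rw [Finset.mul_sum, Finset.sum_mul, Finset.sum_mul, Finset.sum_mul]
        _ = ∑ i, (e * u * x * α i * e) * (e * β i * y * v * e) := by
            refine Finset.sum_congr rfl fun i _ => ?_
            have : e * β i * y * v * e = e * (β i * y * v * e) := by simp only [mul_assoc]
            rw [this, ← mul_assoc (e * u * x * α i * e) e, mul_assoc (e * u * x * α i) e e, he]
            simp only [mul_assoc]
    rw [this]
    refine Finset.sum_eq_zero fun i _ => ?_
    refine hNN _ _ ?_ ?_
    · exact hcor x u (α i) hx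
    · have := hcor y (β i) v hy
      exact this
  calc x * y = (∑ i, α i * e * β i) * (x * y) * (∑ i, α i * e * β i) := by
        rw [h1, one_mul, mul_one]
    _ = ∑ i, ∑ j, (α i * e * β i) * (x * y) * (α j * e * β j) := by
        rw [Finset.sum_mul, Finset.sum_mul_sum]
    _ = 0 := by
        refine Finset.sum_eq_zero fun i _ => Finset.sum_eq_zero fun j _ => ?_
        have := h3 (β i) (α j)
        calc α i * e * β i * (x * y) * (α j * e * β j)
            = α i * (e * β i * (x * y) * α j * e) * β j := by simp only [mul_assoc]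
          _ = 0 := by rw [this]; simp

end Corner

/-- half-dimension bound for an ideal of square zero -/
theorem two_mul_finrank_le [FiniteDimensional k A] (t : A →ₗ[k] k)
    (hnd : ∀ a, (∀ b, t (a * b) = 0) → a = 0) (I : Submodule k A)
    (hI : ∀ x ∈ I, ∀ y ∈ I, x * y = 0) : 2 * finrank k I ≤ finrank k A := by
  let B : LinearMap.BilinForm k A := (LinearMap.mul k A).compr₂ t
  have hker : LinearMap.ker B = ⊥ := by
    rw [LinearMap.ker_eq_bot']
    intro a ha
    apply hnd
    intro b
    have := congrArg (fun g : A →ₗ[k] k => g b) ha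
    simpa [B] using this
  have h1 := LinearMap.BilinForm.finrank_add_finrank_orthogonal' (B := B) I
  rw [hker, inf_bot_eq, finrank_bot, add_zero] at h1
  have h2 : I ≤ B.orthogonal I := by
    intro x hx y hy
    change B y x = 0
    simp [B, hI y hy x hx]
  have h3 := Submodule.finrank_mono h2
  omega

theorem pow_mul_of_Pn {S : Set A} {x : A} (hx : x ∈ S) : ∀ (m : ℕ) (y : A), Pn S m y → x ^ m * y = 0
  | 0, y, h => by rw [pow_zero, one_mul]; exact h
  | (m + 1), y, h => by
      rw [pow_succ, mul_assoc]
      exact pow_mul_of_Pn hx m _ (h x hx)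

theorem mat_case [FiniteDimensional k A] (t : A →ₗ[k] k) (ht : ∀ a b, t (a * b) = t (b * a))
    (hnd : ∀ a, (∀ b, t (a * b) = 0) → a = 0) {g : ℕ} [NeZero g]
    (π : A →ₐ[k] Matrix (Fin g) (Fin g) k) (hπ : Function.Surjective π) (m : ℕ)
    (hnil : ∀ y, Pn ((LinearMap.ker π.toLinearMap : Submodule k A) : Set A) m y)
    (hZ : ∀ z : Fin 3 → A, (∀ i b, z i * b = b * z i) → ¬ LinearIndependent k z)
    (I : Submodule k A) (hIl : ∀ a x, x ∈ I → a * x ∈ I) (hIr : ∀ a x, x ∈ I → x * a ∈ I)
    (h1I : (1 : A) ∉ I) : 2 * finrank k I ≤ finrank k A := by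
  classical
  set J : Submodule k A := LinearMap.ker π.toLinearMap with hJ
  have memJ : ∀ x, x ∈ J ↔ π x = 0 := fun x => by simp [hJ]
  have hJl : ∀ a x, x ∈ J → a * x ∈ J := fun a x hx => by
    rw [memJ] at hx ⊢; rw [map_mul, hx, mul_zero]
  have hJr : ∀ a x, x ∈ J → x * a ∈ J := fun a x hx => by
    rw [memJ] at hx ⊢; rw [map_mul, hx, zero_mul]
  have hnilp : ∀ x ∈ J, IsNilpotent x := fun x hx =>
    ⟨m, by simpa using pow_mul_of_Pn (S := (J : Set A)) hx m 1 (hnil 1)⟩
  let i₀ : Fin g := ⟨0, Nat.pos_of_ne_zero (NeZero.ne g)⟩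
  let E : Fin g → Fin g → Matrix (Fin g) (Fin g) k := fun i j => Matrix.single i j 1
  have hEE : ∀ i j r s, E i j * E r s = if j = r then E i s else 0 := by
    intro i j r s
    by_cases h : j = r
    · subst h; simp [E, Matrix.single_mul_single_same]
    · simp [E, h, Matrix.single_mul_single_of_ne]
  -- the primitive idempotent
  obtain ⟨e, he, hπe⟩ := exists_isIdempotentElem_eq_of_ker_isNilpotent
      (π : A →+* Matrix (Fin g) (Fin g) k)
      (fun x hx => hnilp x ((memJ x).2 (by simpa [RingHom.mem_ker] using hx)))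
      (E i₀ i₀) (by obtain ⟨a, ha⟩ := hπ (E i₀ i₀); exact ⟨a, ha⟩)
      (by unfold IsIdempotentElem; rw [hEE]; simp)
  replace hπe : π e = E i₀ i₀ := hπe
  have he' : e * e = e := he
  have heJ : e ∉ J := by
    rw [memJ, hπe]
    intro h
    have := congrFun (congrFun h i₀) i₀
    simp [E] at this
  have hdec : ∀ a, ∃ c : k, e * a * e - c • e ∈ J := by
    intro a
    refine ⟨π a i₀ i₀, ?_⟩
    rw [memJ, map_sub, map_smul, map_mul, map_mul, hπe]
    simp only [E, Matrix.single_mul_mul_single, one_mul, mul_one]
    rw [Matrix.smul_single, smul_eq_mul, mul_one, sub_self]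
  -- the matrix units
  choose u hu using fun p : Fin g × Fin g => hπ (E p.1 p.2)
  -- invertibility
  have hunit : ∀ x, π x = 1 → IsUnit x := by
    intro x hx
    have h1 : (1 : A) - x ∈ J := by rw [memJ, map_sub, map_one, hx, sub_self]
    have := (hnilp _ h1).isUnit_one_sub
    simpa using this
  have hπx : π (∑ j, u (j, i₀) * e * u (i₀, j)) = 1 := by
    rw [map_sum, ← Matrix.sum_single_one (α := k)]
    refine Finset.sum_congr rfl fun j _ => ?_
    rw [map_mul, map_mul, hu, hu, hπe]
    simp [E]
  obtain ⟨v, hv⟩ := (hunit _ hπx).exists_left_inv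
  have h1 : ∑ j, (v * u (j, i₀)) * e * u (i₀, j) = 1 := by
    rw [← hv, Finset.mul_sum]
    refine Finset.sum_congr rfl fun j _ => ?_
    simp only [mul_assoc]
  have hsq : ∀ x ∈ J, ∀ y ∈ J, x * y = 0 := fun x hx y hy =>
    rad_sq t ht hnd J hJl hJr e he' heJ hdec (fun j => v * u (j, i₀)) (fun j => u (i₀, j)) h1 hZ m
      hnil hx hy
  -- a proper ideal lies in the radical
  have hIJ : I ≤ J := by
    intro x hx
    rw [memJ]
    by_contra hne
    obtain ⟨r, s, hrs⟩ : ∃ r s, π x r s ≠ 0 := by
      by_contra hcon
      push Not at hcon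
      exact hne (by ext r s; simpa using hcon r s)
    have hw : π (∑ j, u (j, r) * x * u (s, j)) = (π x r s) • (1 : Matrix (Fin g) (Fin g) k) := by
      rw [map_sum, ← Matrix.sum_single_one (α := k), Finset.smul_sum]
      refine Finset.sum_congr rfl fun j _ => ?_
      rw [map_mul, map_mul, hu, hu]
      simp [E, Matrix.smul_single]
    have hw' : π ((π x r s)⁻¹ • ∑ j, u (j, r) * x * u (s, j)) = 1 := by
      rw [map_smul, hw, smul_smul, inv_mul_cancel₀ hrs, one_smul]
    have hmem : (π x r s)⁻¹ • ∑ j, u (j, r) * x * u (s, j) ∈ I :=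
      I.smul_mem _ (I.sum_mem fun j _ => hIr _ _ (hIl _ _ hx))
    obtain ⟨w, hw''⟩ := (hunit _ hw').exists_left_inv
    apply h1I
    rw [← hw'']
    exact hIl _ _ hmem
  exact two_mul_finrank_le t hnd I fun x hx y hy => hsq x (hIJ hx) y (hIJ hy)

theorem main [IsAlgClosed k] [FiniteDimensional k A] [Nontrivial A] (t : A →ₗ[k] k)
    (ht : ∀ a b, t (a * b) = t (b * a)) (hnd : ∀ a, (∀ b, t (a * b) = 0) → a = 0)
    (hZ : ∀ z : Fin 3 → A, (∀ i b, z i * b = b * z i) → ¬ LinearIndependent k z)
    (hloc : ∀ z : A, (∀ a, z * a = a * z) → z * z = z → z = 0 ∨ z = 1)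
    (I : Submodule k A) (hIl : ∀ a x, x ∈ I → a * x ∈ I) (hIr : ∀ a x, x ∈ I → x * a ∈ I)
    (h1I : (1 : A) ∉ I) : 2 * finrank k I ≤ finrank k A := by
  classical
  have : IsArtinianRing A := IsArtinianRing.of_finite k A
  have : FiniteDimensional k (A ⧸ Ring.jacobson A) :=
    Module.Finite.of_surjective (Ideal.Quotient.mkₐ k (Ring.jacobson A)).toLinearMap
      (Ideal.Quotient.mkₐ_surjective k _)
  obtain ⟨n, d, hd, ⟨φ⟩⟩ :=
    IsSemisimpleRing.exists_algEquiv_pi_matrix_of_isAlgClosed k (A ⧸ Ring.jacobson A)
  let Pm : A →ₐ[k] (∀ i, Matrix (Fin (d i)) (Fin (d i)) k) :=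
    (φ : (A ⧸ Ring.jacobson A) →ₐ[k] _).comp (Ideal.Quotient.mkₐ k (Ring.jacobson A))
  have hPs : Function.Surjective Pm :=
    φ.surjective.comp (Ideal.Quotient.mkₐ_surjective k _)
  have hPk : ∀ x, Pm x = 0 ↔ x ∈ Ring.jacobson A := by
    intro x
    rw [← Ideal.Quotient.eq_zero_iff_mem]
    simp [Pm]
  -- nilpotency
  obtain ⟨m, hm⟩ : IsNilpotent (Ring.jacobson A) := IsSemiprimaryRing.isNilpotent
  have hP : ∀ (S : Set A), S ⊆ (Ring.jacobson A : Set A) → ∀ y, Pn S m y := by
    intro S hS
    have key : ∀ i, i ≤ m → ∀ y, y ∈ (Ring.jacobson A) ^ (m - i) → Pn S i y := by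
      intro i
      induction i with
      | zero =>
        intro _ y hy
        rw [Nat.sub_zero, hm] at hy
        exact (Submodule.mem_bot A).1 hy
      | succ i ih =>
        intro hi y hy n hn
        apply ih (by omega)
        have : m - i = (m - (i + 1)) + 1 := by omega
        rw [this, Ideal.IsTwoSided.pow_succ]
        exact Ideal.mul_mem_mul (hS hn) hy
    intro y
    exact key m le_rfl y (by
      rw [Nat.sub_self, Submodule.pow_zero, Ideal.one_eq_top]; exact Submodule.mem_top)
  have hnilp : ∀ x ∈ Ring.jacobson A, IsNilpotent x := fun x hx =>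
    ⟨m, by simpa using pow_mul_of_Pn (S := (Ring.jacobson A : Set A)) hx m 1 (hP _ subset_rfl 1)⟩
  -- traces
  have hd' : ∀ i, 0 < d i := fun i => Nat.pos_of_ne_zero (hd i).ne
  let τ : Fin n → (A →ₗ[k] k) := fun i =>
    (Matrix.traceLinearMap (Fin (d i)) k k) ∘ₗ
      (LinearMap.proj (R := k) (φ := fun i => Matrix (Fin (d i)) (Fin (d i)) k) i) ∘ₗ
        Pm.toLinearMap
  have hτ : ∀ i a, τ i a = Matrix.trace (Pm a i) := fun i a => rfl
  have hτc : ∀ i a b, τ i (a * b) = τ i (b * a) := by
    intro i a b
    rw [hτ, hτ, map_mul, map_mul, Pi.mul_apply, Pi.mul_apply, Matrix.trace_mul_comm]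
  choose z hz using fun i => exists_form_eq t hnd (τ i)
  have hzc : ∀ i b, z i * b = b * z i := fun i b =>
    central_of_trace t ht hnd (τ i) (hτc i) (z i) (hz i) b
  choose a ha using fun i => hPs (Pi.single i (Matrix.single ⟨0, hd' i⟩ ⟨0, hd' i⟩ 1))
  have hτa : ∀ i j, τ j (a i) = if i = j then 1 else 0 := by
    intro i j
    rw [hτ, ha]
    by_cases h : i = j
    · subst h
      simp [Matrix.trace_single_eq_same]
    · simp [h, Pi.single_apply, Ne.symm h]
  have hind : LinearIndependent k z := by
    rw [Fintype.linearIndependent_iff]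
    intro c hc j
    have h1 := congrArg (fun w => t (w * a j)) hc
    simp only [Finset.sum_mul, map_sum, smul_mul_assoc, map_smul, zero_mul, map_zero] at h1
    simp only [← hz, hτa, smul_eq_mul, mul_ite, mul_one, mul_zero] at h1
    simpa using h1
  have hn3 : n ≤ 2 := by
    by_contra hcon
    have h3 : 3 ≤ n := by omega
    exact hZ (z ∘ Fin.castLE h3) (fun i b => hzc _ b)
      (hind.comp _ (Fin.castLE_injective h3))
  obtain rfl | rfl | rfl : n = 0 ∨ n = 1 ∨ n = 2 := by omega
  · -- no simple components: impossible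
    exfalso
    have h1 : (1 : A) ∈ Ring.jacobson A := by
      rw [← hPk]
      exact Subsingleton.elim _ _
    obtain ⟨r, hr⟩ := hnilp 1 h1
    rw [one_pow] at hr
    exact one_ne_zero hr
  · -- the main case
    have := hd 0
    let π : A →ₐ[k] Matrix (Fin (d 0)) (Fin (d 0)) k :=
      (Pi.evalAlgHom k (fun i => Matrix (Fin (d i)) (Fin (d i)) k) 0).comp Pm
    have hπs : Function.Surjective π := by
      intro M
      obtain ⟨x, hx⟩ := hPs (fun i => (Subsingleton.elim i 0 ▸ M : Matrix (Fin (d i)) (Fin (d i)) k))
      exact ⟨x, by simp [π, hx]⟩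
    have hπk : ∀ x, π x = 0 ↔ x ∈ Ring.jacobson A := by
      intro x
      rw [← hPk]
      constructor
      · intro h
        funext i
        rw [Subsingleton.elim i 0]
        exact h
      · intro h
        simp [π, h]
    refine mat_case t ht hnd π hπs m ?_ hZ I hIl hIr h1I
    apply hP
    intro x hx
    exact (hπk x).1 (by simpa using hx)
  · -- two simple components: `A` is semisimple, contradiction
    exfalso
    have hn := hZ ![z 0, z 1, 1] (by
      intro i b
      fin_cases i
      · simpa using hzc 0 b
      · simpa using hzc 1 b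
      · simp)
    rw [Fintype.not_linearIndependent_iff] at hn
    obtain ⟨g, hg, i, hi⟩ := hn
    rw [Fin.sum_univ_three] at hg
    simp only [Matrix.cons_val_zero, Matrix.cons_val_one, Matrix.cons_val] at hg
    have hg2 : g 2 ≠ 0 := by
      intro h2
      rw [h2, zero_smul, add_zero] at hg
      have := Fintype.linearIndependent_iff.1 hind ![g 0, g 1] (by simpa [Fin.sum_univ_two] using hg)
      have h0 := this 0
      have h1 := this 1
      simp at h0 h1
      fin_cases i
      · exact hi h0
      · exact hi h1
      · exact hi h2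
    -- `t` vanishes on the radical
    have htJ : ∀ x ∈ Ring.jacobson A, t x = 0 := by
      intro x hx
      have hx0 : Pm x = 0 := (hPk x).2 hx
      have hτ0 : ∀ i, τ i x = 0 := fun i => by rw [hτ, hx0]; simp
      have h1 := congrArg (fun w => t (w * x)) hg
      simp only [add_mul, smul_mul_assoc, map_add, map_smul, one_mul, zero_mul, map_zero] at h1
      rw [← hz, ← hz, hτ0, hτ0, smul_zero, smul_zero, zero_add, zero_add] at h1
      exact (smul_eq_zero.1 h1).resolve_left hg2
    have hJ0 : ∀ x, Pm x = 0 → x = 0 := by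
      intro x hx
      apply hnd
      intro b
      apply htJ
      rw [← hPk, map_mul, hx, zero_mul]
    have hinj : Function.Injective Pm := by
      intro x y hxy
      have := hJ0 (x - y) (by rw [map_sub, hxy, sub_self])
      exact sub_eq_zero.1 this
    obtain ⟨w, hw⟩ := hPs (Pi.single 0 1)
    have hwc : ∀ b, w * b = b * w := by
      intro b
      apply hinj
      rw [map_mul, map_mul, hw]
      funext i
      by_cases h : i = 0
      · subst h; simp
      · simp [Pi.single_apply, h]
    have hww : w * w = w := by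
      apply hinj
      rw [map_mul, hw]
      funext i
      by_cases h : i = 0
      · subst h; simp
      · simp [Pi.single_apply, h]
    have := hd 0
    have := hd 1
    rcases hloc w hwc hww with h | h
    · rw [h, map_zero] at hw
      have := congrFun hw 0
      simp at this
    · rw [h, map_one] at hw
      have := congrFun hw 1
      simp at this

end Cfsg.Agent.Lib.LocalSymAlg
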