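import Mathlib
import Cfsg.Agent.Lib.LocalSymAlg
import Cfsg.Agent.Lib.BlockResidue

/-!
# Ideals of the block algebra

A central idempotent `f` of a group algebra over an algebraically closed field such that the centre
of `K f` has dimension at most two and is local: two-sided ideals not containing `f` are small.
-/

set_option autoImplicit false
set_option linter.unusedSectionVars false
set_option linter.unusedVariables false

namespace Cfsg.Agent.Lib.CornerSym

open Module MonoidAlgebra Cfsg.Agent.Lib.BlockResidue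

variable {k G : Type*} [Field k] [Group G] [Fintype G]

local notation "K" => MonoidAlgebra k G

/-- The half-dimension bound in the block algebra. -/
theorem half_bound [IsAlgClosed k] (f : MonoidAlgebra k G) (hf : f * f = f) (hc : ∀ x, f * x = x * f)
    (hZ2 : ∀ c : Fin 3 → MonoidAlgebra k G, (∀ i x, c i * x = x * c i) → (∀ i, c i * f = c i) →
      ¬ LinearIndependent k c)
    (hZn : ∀ c : MonoidAlgebra k G, (∀ x, c * x = x * c) → c * f = c →
      ∃ l : k, IsNilpotent (c - l • f))
    (W : Submodule k (MonoidAlgebra k G)) (hWl : ∀ a x, x ∈ W → a * x ∈ W)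
    (hWr : ∀ a x, x ∈ W → x * a ∈ W) (hW : ∀ x, x * f = 0 → x ∈ W) (hfW : f ∉ W) :
    2 * finrank k W ≤ finrank k (MonoidAlgebra k G) +
      finrank k (LinearMap.ker (LinearMap.mulRight k f)) := by
  classical
  let I : Ideal K :=
    { carrier := {x | x * f = 0}
      add_mem' := fun {a b} ha hb => by
        simp only [Set.mem_ofPred_eq] at ha hb ⊢
        rw [add_mul, ha, hb, add_zero]
      zero_mem' := by simp
      smul_mem' := fun c x hx => by
        simp only [Set.mem_ofPred_eq, smul_eq_mul] at hx ⊢
        rw [mul_assoc, hx, mul_zero] }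
  have memI : ∀ x, x ∈ I ↔ x * f = 0 := fun x => Iff.rfl
  have : I.IsTwoSided := ⟨fun {a} b ha => by
    rw [memI] at ha ⊢
    rw [mul_assoc, ← hc b, ← mul_assoc, ha, zero_mul]⟩
  let p : K →ₐ[k] (K ⧸ I) := Ideal.Quotient.mkₐ k I
  have hps : Function.Surjective p := Ideal.Quotient.mkₐ_surjective k I
  have hp0 : ∀ x, p x = 0 ↔ x * f = 0 := fun x => by
    rw [← memI, ← Ideal.Quotient.eq_zero_iff_mem]
    rfl
  have hpf : p f = 1 := by
    rw [← map_one p, ← sub_eq_zero, ← map_sub, hp0, sub_mul, hf, one_mul, sub_self]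
  have : FiniteDimensional k (K ⧸ I) := Module.Finite.of_surjective p.toLinearMap hps
  have hne : (1 : K ⧸ I) ≠ 0 := by
    intro h
    rw [← hpf, hp0, hf] at h
    exact hfW (h ▸ W.zero_mem)
  have : Nontrivial (K ⧸ I) := ⟨⟨1, 0, hne⟩⟩
  -- the trace form
  let t' : K →ₗ[k] k :=
    { toFun := fun x => (x * f).coeff 1
      map_add' := fun x y => by rw [add_mul]; simp
      map_smul' := fun r x => by rw [smul_mul_assoc]; simp }
  have ht'0 : ∀ x, p x = 0 → t' x = 0 := by
    intro x hx
    rw [hp0] at hx
    change (x * f).coeff 1 = 0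
    rw [hx]; simp
  obtain ⟨s, hs⟩ := LinearMap.exists_rightInverse_of_surjective p.toLinearMap
    (LinearMap.range_eq_top.2 hps)
  have hs' : ∀ y, p (s y) = y := fun y => LinearMap.congr_fun hs y
  let t : (K ⧸ I) →ₗ[k] k := t' ∘ₗ s
  have ht_p : ∀ x, t (p x) = t' x := by
    intro x
    have h1 : p (s (p x) - x) = 0 := by rw [map_sub, hs', sub_self]
    have := ht'0 _ h1
    rw [map_sub, sub_eq_zero] at this
    exact this
  have ht : ∀ a b, t (a * b) = t (b * a) := by
    intro a b
    obtain ⟨a, rfl⟩ := hps a
    obtain ⟨b, rfl⟩ := hps b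
    rw [← map_mul, ← map_mul, ht_p, ht_p]
    change ((a * b) * f).coeff 1 = ((b * a) * f).coeff 1
    rw [mul_assoc, coeff_one_mul_comm a (b * f), mul_assoc b f a, hc a, mul_assoc]
  have hnd : ∀ a, (∀ b, t (a * b) = 0) → a = 0 := by
    intro a h
    obtain ⟨a, rfl⟩ := hps a
    rw [hp0]
    refine ext_coeff fun g => ?_
    have h1 := h (p (single g⁻¹ (1 : k)))
    rw [← map_mul, ht_p] at h1
    change ((a * single g⁻¹ (1 : k)) * f).coeff 1 = 0 at h1
    rw [mul_assoc, ← hc, ← mul_assoc, coeff_mul_single'] at h1
    simpa using h1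
  have hZ : ∀ z : Fin 3 → (K ⧸ I), (∀ i b, z i * b = b * z i) → ¬ LinearIndependent k z := by
    intro z hz hind
    choose x hx using fun i => hps (z i)
    have hcen : ∀ i a, (x i * f) * a = a * (x i * f) := by
      intro i a
      have h1 : p (x i * a - a * x i) = 0 := by
        rw [map_sub, map_mul, map_mul, hx, sub_eq_zero]
        exact hz i _
      rw [hp0, sub_mul, sub_eq_zero] at h1
      rw [mul_assoc, hc, ← mul_assoc, h1, mul_assoc]
    refine hZ2 (fun i => x i * f) hcen (fun i => by rw [mul_assoc, hf]) ?_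
    have h2 : z = p.toLinearMap ∘ (fun i => x i * f) := by
      funext i
      simp [hpf, hx]
    rw [h2] at hind
    exact LinearIndependent.of_comp _ hind
  have hloc : ∀ z : K ⧸ I, (∀ a, z * a = a * z) → z * z = z → z = 0 ∨ z = 1 := by
    intro z hz hzz
    obtain ⟨x, rfl⟩ := hps z
    have hcen : ∀ a, (x * f) * a = a * (x * f) := by
      intro a
      have h1 : p (x * a - a * x) = 0 := by
        rw [map_sub, map_mul, map_mul, sub_eq_zero]
        exact hz _
      rw [hp0, sub_mul, sub_eq_zero] at h1
      rw [mul_assoc, hc, ← mul_assoc, h1, mul_assoc]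
    obtain ⟨l, hl⟩ := hZn (x * f) hcen (by rw [mul_assoc, hf])
    have hn : IsNilpotent (p x - l • 1) := by
      have := hl.map p.toRingHom
      simpa [hpf] using this
    by_cases hl0 : l = 0
    · left
      subst hl0
      rw [zero_smul, sub_zero] at hn
      obtain ⟨r, hr⟩ := hn
      have hpow : ∀ j, (p x) ^ (j + 1) = p x := by
        intro j
        induction j with
        | zero => simp
        | succ j ih => rw [pow_succ, ih, hzz]
      rcases r with - | r
      · rw [pow_zero] at hr
        exact absurd hr hne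
      · rw [hpow] at hr
        exact hr
    · right
      have hu : IsUnit (1 + l⁻¹ • (p x - l • 1)) := (hn.smul l⁻¹).isUnit_one_add
      have heq : l⁻¹ • p x = 1 + l⁻¹ • (p x - l • 1) := by
        rw [smul_sub, smul_smul, inv_mul_cancel₀ hl0, one_smul]; abel
      obtain ⟨w, hw⟩ := hu.exists_right_inv
      have h3 : p x * (l⁻¹ • p x) = l⁻¹ • p x := by rw [mul_smul_comm, hzz]
      rw [heq] at h3
      have h4 := congrArg (· * w) h3
      simp only [mul_assoc, hw, mul_one] at h4
      exact h4
  -- the ideal
  let W' : Submodule k (K ⧸ I) := W.map p.toLinearMap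
  have hmain := LocalSymAlg.main t ht hnd hZ hloc W'
    (by
      rintro a _ ⟨x, hx, rfl⟩
      obtain ⟨a, rfl⟩ := hps a
      exact ⟨a * x, hWl _ _ hx, by simp⟩)
    (by
      rintro a _ ⟨x, hx, rfl⟩
      obtain ⟨a, rfl⟩ := hps a
      exact ⟨x * a, hWr _ _ hx, by simp⟩)
    (by
      rintro ⟨w, hw, hw1⟩
      have h1 : p (w - 1) = 0 := by
        rw [map_sub, map_one, sub_eq_zero]
        exact hw1
      rw [hp0, sub_mul, one_mul, sub_eq_zero] at h1
      exact hfW (h1 ▸ hWr _ _ hw))
  have hkerp : LinearMap.ker p.toLinearMap = LinearMap.ker (LinearMap.mulRight k f) := by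
    ext x
    simp only [LinearMap.mem_ker, LinearMap.mulRight_apply]
    exact hp0 x
  have hA : finrank k (K ⧸ I) + finrank k (LinearMap.ker (LinearMap.mulRight k f)) = finrank k K := by
    have h1 := LinearMap.finrank_range_add_finrank_ker p.toLinearMap
    rw [LinearMap.range_eq_top.2 hps, finrank_top, hkerp] at h1
    exact h1
  have hW' : finrank k W' + finrank k (LinearMap.ker (LinearMap.mulRight k f)) = finrank k W := by
    have h1 := LinearMap.finrank_range_add_finrank_ker (p.toLinearMap.domRestrict W)
    have h2 : LinearMap.range (p.toLinearMap.domRestrict W) = W' := by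
      rw [LinearMap.range_domRestrict]
    have hle : LinearMap.ker (LinearMap.mulRight k f) ≤ W := by
      intro x hx
      exact hW x (by simpa using hx)
    have h3 : LinearMap.ker (p.toLinearMap.domRestrict W) =
        (LinearMap.ker (LinearMap.mulRight k f)).comap W.subtype := by
      rw [LinearMap.ker_domRestrict, hkerp]
    rw [h2, h3] at h1
    rw [← h1]
    congr 1
    exact (LinearEquiv.finrank_eq (Submodule.comapSubtypeEquivOfLe hle)).symm
  omega

end Cfsg.Agent.Lib.CornerSym
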