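import Mathlib
import Cfsg.Agent.Lib.BlockResidue
import Cfsg.Agent.Lib.CornerSym
import Cfsg.Agent.Lib.BlkBasic
import Cfsg.Agent.Lib.BrauerPair
import Cfsg.Agent.Lib.CharKernel
import Cfsg.Agent.Lib.CharInd

/-!
# Blocks with two irreducible characters: the two degrees agree

We reduce the block idempotent modulo a valuation ring of `ℂ`.  The reduced block algebra is a
symmetric algebra with local centre of dimension at most two, so its proper ideals have at most half
its dimension.  The kernels of the two irreducible constituents produce ideals which are too big unless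
the two degrees agree.
-/

set_option autoImplicit false
set_option linter.unusedSectionVars false
set_option linter.unusedVariables false

namespace Cfsg.Agent.Lib.BlockBrandt

open Cfsg Module MonoidAlgebra IsLocalRing
open Cfsg.Agent.Lib.CharBasic Cfsg.Agent.Lib.CharInd Cfsg.Agent.Lib.CharIntegrality
open Cfsg.Agent.Lib.BlockLocal Cfsg.Agent.Lib.BlockIdem Cfsg.Agent.Lib.BlockResidue
open Cfsg.Agent.Lib.BlkBasic Cfsg.Agent.Lib.BrauerPair Cfsg.Agent.Lib.CharKernel

universe u

variable {G : Type u} [Group G] [Fintype G]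

/-- The central element of `ℂ[G]` with given central characters. -/
noncomputable def Phi (c : IrrCharacter G → ℂ) : MonoidAlgebra ℂ G := ofFun (invF c)

theorem coeff_Phi (c : IrrCharacter G → ℂ) (g : G) : (Phi c).coeff g = invF c g := rfl

theorem Phi_mul (c d : IrrCharacter G → ℂ) : Phi (c * d) = Phi c * Phi d := by
  refine ext_coeff fun z => ?_
  rw [coeff_mul_eq, coeff_Phi, invF_mul]
  rfl

theorem Phi_add (c d : IrrCharacter G → ℂ) : Phi (c + d) = Phi c + Phi d := by
  refine ext_coeff fun z => ?_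
  rw [coeff_Phi, invF_add]
  rfl

theorem Phi_smul (r : ℂ) (c : IrrCharacter G → ℂ) : Phi (r • c) = r • Phi c := by
  refine ext_coeff fun z => ?_
  rw [coeff_Phi, invF_smul]
  rfl

theorem Phi_one : Phi (1 : IrrCharacter G → ℂ) = 1 := by
  classical
  refine ext_coeff fun z => ?_
  rw [coeff_Phi, invF_one, MonoidAlgebra.one_def, coeff_single, Finsupp.single_apply]
  unfold delta
  by_cases h : z = 1
  · simp [h]
  · simp [h, Ne.symm h]

theorem Phi_sub (c d : IrrCharacter G → ℂ) : Phi (c - d) = Phi c - Phi d := by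
  have h : c - d = c + (-1 : ℂ) • d := by
    funext χ; simp [sub_eq_add_neg]
  rw [h, Phi_add, Phi_smul]
  simp [sub_eq_add_neg]

theorem Phi_pow (c : IrrCharacter G → ℂ) (n : ℕ) : Phi (c ^ n) = Phi c ^ n := by
  induction n with
  | zero => simp [Phi_one]
  | succ n ih => rw [pow_succ, pow_succ, Phi_mul, ih]

theorem Phi_central (c : IrrCharacter G → ℂ) (a : MonoidAlgebra ℂ G) : Phi c * a = a * Phi c :=
  central_of_class (fun g x => invF_isClassFunction c g x) a

theorem Phi_injective : Function.Injective (Phi : (IrrCharacter G → ℂ) → _) := by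
  intro c d h
  apply invF_injective
  funext g
  rw [← coeff_Phi, ← coeff_Phi, h]

/-- Central elements of `ℂ[G]`. -/
theorem central_eq_Phi {x : MonoidAlgebra ℂ G} (hx : ∀ a, x * a = a * x) :
    x = Phi (fun χ : IrrCharacter G => omega (χ : G → ℂ) (fun g => x.coeff g)) := by
  refine ext_coeff fun g => ?_
  rw [coeff_Phi, invF_omega (f := fun g => x.coeff g) (fun g y => class_of_central hx g y)]

/-- The rank of multiplication by an idempotent. -/
theorem finrank_range_mulRight (x : MonoidAlgebra ℂ G) (hx : x * x = x) :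
    (finrank ℂ (LinearMap.range (LinearMap.mulRight ℂ x)) : ℂ) = (Nat.card G : ℂ) * x.coeff 1 := by
  classical
  have hid : IsIdempotentElem (LinearMap.mulRight ℂ x : Module.End ℂ (MonoidAlgebra ℂ G)) := by
    unfold IsIdempotentElem
    ext y
    simp [mul_assoc, hx]
  rw [← (LinearMap.IsIdempotentElem.isProj_range _ hid).trace, LinearMap.trace_eq_matrix_trace ℂ (MonoidAlgebra.basis G ℂ)]
  unfold Matrix.trace
  have : ∀ g : G, Matrix.diag (LinearMap.toMatrix (MonoidAlgebra.basis G ℂ)
      (MonoidAlgebra.basis G ℂ) (LinearMap.mulRight ℂ x)) g = x.coeff 1 := by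
    intro g
    rw [Matrix.diag_apply, LinearMap.toMatrix_apply]
    rw [MonoidAlgebra.basis_apply]
    simp only [LinearMap.mulRight_apply]
    have : (MonoidAlgebra.basis G ℂ).repr (single g (1 : ℂ) * x) g =
        (single g (1 : ℂ) * x).coeff g := rfl
    rw [this, coeff_single_mul']
    simp
  simp_rw [this]
  rw [Finset.sum_const, Finset.card_univ, Nat.card_eq_fintype_card]
  simp

/-- Idempotents of sets of characters. -/
theorem blkInd_mul_self (S : Set (IrrCharacter G)) : blkInd S * blkInd S = blkInd S := by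
  funext χ
  by_cases h : χ ∈ S
  · simp [blkInd_of_mem h]
  · simp [blkInd_of_not_mem h]

theorem coeff_Phi_blkInd_one (S : Set (IrrCharacter G)) :
    (Nat.card G : ℂ) * (Phi (blkInd S)).coeff 1 =
      ∑ χ : IrrCharacter G, blkInd S χ * ((χ : G → ℂ) 1) ^ 2 := by
  rw [coeff_Phi]
  unfold invF ec
  rw [Finset.mul_sum]
  refine Finset.sum_congr rfl fun χ _ => ?_
  have hne : (Nat.card G : ℂ) ≠ 0 := natCard_ne_zero'
  rw [inv_one]
  field_simp

theorem finrank_Phi (S : Set (IrrCharacter G)) :
    (finrank ℂ (LinearMap.range (LinearMap.mulRight ℂ (Phi (blkInd S)))) : ℂ) =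
      ∑ χ : IrrCharacter G, blkInd S χ * ((χ : G → ℂ) 1) ^ 2 := by
  rw [finrank_range_mulRight _ (by rw [← Phi_mul, blkInd_mul_self]), coeff_Phi_blkInd_one]

theorem blkInd_singleton_mul {S : Set (IrrCharacter G)} {χ : IrrCharacter G} (h : χ ∈ S) :
    blkInd S * blkInd {χ} = blkInd {χ} := by
  funext ψ
  by_cases hψ : ψ = χ
  · subst hψ
    simp [blkInd_of_mem h, blkInd_of_mem (Set.mem_singleton ψ)]
  · have : ψ ∉ ({χ} : Set (IrrCharacter G)) := hψ
    simp [blkInd_of_not_mem this]

theorem Phi_singleton_ne_zero (χ : IrrCharacter G) : Phi (blkInd {χ}) ≠ 0 := by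
  intro h
  have h0 : Phi (0 : IrrCharacter G → ℂ) = 0 := by
    have := Phi_smul (0 : ℂ) (0 : IrrCharacter G → ℂ)
    simpa using this
  have := congrFun (Phi_injective (h.trans h0.symm)) χ
  rw [blkInd_of_mem (Set.mem_singleton χ)] at this
  simp at this

section Main

variable {p : ℕ} {M : Ideal AlgInt} [hMp : M.IsPrime]
variable {V : ValuationSubring ℂ}

local notation "Om" => MonoidAlgebra V G
local notation "Kk" => MonoidAlgebra (Kf V) G

theorem central_of_iota {a : Om} (h : ∀ b : Om, iotaV V a * iotaV V b = iotaV V b * iotaV V a)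
    (b : Om) : a * b = b * a := by
  apply iotaV_injective
  rw [map_mul, map_mul, h]

theorem rho_central {a : Om} (h : ∀ b : Om, a * b = b * a) (x : Kk) :
    rhoV V a * x = x * rhoV V a := by
  obtain ⟨b, rfl⟩ := rhoV_surjective x
  rw [← map_mul, ← map_mul, h]

theorem exists_liftZ (hV1 : ∀ z, MemLocalRing M z → z ∈ V) {c : IrrCharacter G → ℂ} (hc : c ∈ Zc M) :
    ∃ a : Om, iotaV V a = Phi c ∧ ∀ b : Om, a * b = b * a := by
  obtain ⟨a, ha⟩ := exists_lift (V := V) (invF c) (fun g => hV1 _ (hc g))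
  refine ⟨a, ha, central_of_iota fun b => ?_⟩
  have ha' : iotaV V a = Phi c := ha
  rw [ha', Phi_central]

/-- Elements of `Z(R G)` with all central characters in the local ideal reduce to nilpotents. -/
theorem isNilpotent_rho (hV2 : ∀ z, MemLocalIdeal M z → z ∈ V.nonunits) {c : IrrCharacter G → ℂ}
    (hc : c ∈ Zc M) (hm : ∀ χ, MemLocalIdeal M (c χ)) {y : Om} (hy : iotaV V y = Phi c) :
    IsNilpotent (rhoV V y) := by
  have h1 := inI_pow hc hm
  refine ⟨Fintype.card (IrrCharacter G), ?_⟩
  rw [← map_pow]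
  refine ext_coeff fun g => ?_
  rw [coeff_rhoV]
  have h2 : (((y ^ Fintype.card (IrrCharacter G)).coeff g : V) : ℂ) =
      invF (c ^ Fintype.card (IrrCharacter G)) g := by
    rw [← coeff_iotaV, map_pow, hy, ← Phi_pow, coeff_Phi]
  have h3 := (residue_eq_zero_iff' V ((y ^ Fintype.card (IrrCharacter G)).coeff g)).2
    (by rw [h2]; exact hV2 _ (h1 g))
  rw [h3]
  simp

/-- The central elements of the reduced block algebra are scalars plus nilpotents. -/
theorem exists_nil (hV1 : ∀ z, MemLocalRing M z → z ∈ V)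
    (hV2 : ∀ z, MemLocalIdeal M z → z ∈ V.nonunits) {B : Set (IrrCharacter G)} (hB : IsPBlock M B)
    {e : Om} (he : iotaV V e = Phi (blkInd B)) {χ₀ : IrrCharacter G} (hχ₀ : χ₀ ∈ B)
    (c : Kk) (hc : ∀ x, c * x = x * c) (hcf : c * rhoV V e = c) :
    ∃ l : Kf V, IsNilpotent (c - l • rhoV V e) := by
  classical
  let _ : Fintype (ConjClasses G) := Fintype.ofFinite _
  have hBeq : B = blockOf M (χ₀ : G → ℂ) := by
    obtain ⟨χ, rfl⟩ := hB
    exact (blockOf_eq_of_mem hχ₀).symm
  -- class sums
  choose z hz hzc using fun g : G => exists_liftZ (V := V) hV1 (centralChar_mem_Zc (M := M) g)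
  have hzcoef : ∀ g y, (rhoV V (z g)).coeff y = if IsConj g y then 1 else 0 := by
    intro g y
    rw [coeff_rhoV]
    have h1 : (((z g).coeff y : V) : ℂ) = (classIndicator g y : ℂ) := by
      rw [← coeff_iotaV, hz, coeff_Phi, invF_centralChar]
      rfl
    by_cases h : IsConj g y
    · have h2 : (z g).coeff y = 1 := by
        apply Subtype.ext
        rw [h1, classIndicator_of_conj h]
        simp
      rw [h2, if_pos h, map_one]
    · have h2 : (z g).coeff y = 0 := by
        apply Subtype.ext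
        rw [h1, classIndicator_of_not_conj h]
        simp
      rw [h2, if_neg h, map_zero]
  -- the scalars
  have hω : ∀ g, centralChar (χ₀ : G → ℂ) g ∈ V := fun g =>
    hV1 _ (memLocalRing_of_isIntegral (isIntegral_centralChar χ₀ g))
  -- the nilpotent parts
  let y : G → Om := fun g => z g * e - (⟨_, hω g⟩ : V) • e
  have hyn : ∀ g, IsNilpotent (rhoV V (y g)) := by
    intro g
    let cg : IrrCharacter G → ℂ :=
      (fun χ : IrrCharacter G => centralChar (χ : G → ℂ) g) * blkInd B -
        (centralChar (χ₀ : G → ℂ) g) • blkInd B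
    have hcg : cg ∈ Zc M := by
      refine (Zc M).sub_mem ((Zc M).mul_mem (centralChar_mem_Zc g) (blkInd_mem_Zc hB)) ?_
      exact smul_mem_Zc (memLocalRing_of_isIntegral (isIntegral_centralChar χ₀ g)) (blkInd_mem_Zc hB)
    refine isNilpotent_rho hV2 hcg ?_ ?_
    · intro χ
      by_cases hχ : χ ∈ B
      · have h1 : cg χ = centralChar (χ : G → ℂ) g - centralChar (χ₀ : G → ℂ) g := by
          simp [cg, blkInd_of_mem hχ]
        rw [h1]
        have h2 : χ ∈ blockOf M (χ₀ : G → ℂ) := hBeq ▸ hχ
        have h3 := h2 g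
        have h4 := memLocalIdeal_neg h3
        rwa [neg_sub] at h4
      · have h1 : cg χ = 0 := by
          simp [cg, blkInd_of_not_mem hχ]
        rw [h1]
        exact memLocalIdeal_zero
    · simp only [y, cg]
      rw [map_sub, map_mul, iotaV_smul, hz, he, Phi_sub, Phi_mul, Phi_smul]
  have hyc : ∀ g (x : Kk), rhoV V (y g) * x = x * rhoV V (y g) := by
    intro g
    refine rho_central fun b => ?_
    have hec : ∀ b : Om, e * b = b * e := central_of_iota fun b => by
      rw [he, Phi_central]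
    simp only [y, sub_mul, mul_sub, smul_mul_assoc, mul_smul_comm]
    rw [mul_assoc, hec, ← mul_assoc, hzc, mul_assoc]
  -- decomposition along the classes
  let r : ConjClasses G → G := fun K => Quotient.out K
  have hdec : c = ∑ K : ConjClasses G, c.coeff (r K) • rhoV V (z (r K)) := by
    refine ext_coeff fun w => ?_
    rw [MonoidAlgebra.coeff_sum, Finsupp.finsetSum_apply, Finset.sum_eq_single (ConjClasses.mk w)]
    · rw [coeff_smul_apply, hzcoef]
      have h : IsConj (r (ConjClasses.mk w)) w :=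
        ConjClasses.mk_eq_mk_iff_isConj.1 (Quotient.out_eq (ConjClasses.mk w))
      rw [if_pos h, smul_eq_mul, mul_one]
      obtain ⟨x, hx⟩ := isConj_iff.1 h
      symm
      calc c.coeff (r (ConjClasses.mk w)) = c.coeff (x * r (ConjClasses.mk w) * x⁻¹) :=
            (class_of_central hc _ x).symm
        _ = c.coeff w := by rw [hx]
    · intro K _ hK
      rw [coeff_smul_apply, hzcoef, if_neg, smul_zero]
      intro h
      apply hK
      have h1 : ConjClasses.mk (r K) = K := Quotient.out_eq K
      rw [← h1]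
      exact ConjClasses.mk_eq_mk_iff_isConj.2 h
    · simp
  refine ⟨∑ K : ConjClasses G, c.coeff (r K) * residue V (⟨_, hω (r K)⟩ : V), ?_⟩
  have heq : c - (∑ K : ConjClasses G, c.coeff (r K) * residue V (⟨_, hω (r K)⟩ : V)) • rhoV V e =
      ∑ K : ConjClasses G, c.coeff (r K) • rhoV V (y (r K)) := by
    have h1 : c = (∑ K : ConjClasses G, c.coeff (r K) • rhoV V (z (r K))) * rhoV V e := by
      rw [← hdec, hcf]
    rw [Finset.sum_smul]
    refine (sub_eq_iff_eq_add.2 ?_)
    refine h1.trans ?_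
    rw [Finset.sum_mul, ← Finset.sum_add_distrib]
    refine Finset.sum_congr rfl fun K _ => ?_
    simp only [y]
    rw [map_sub, map_mul, rhoV_smul, smul_sub, smul_mul_assoc, smul_smul, sub_add_cancel]
  rw [heq]
  refine Commute.isNilpotent_sum (fun K _ => (hyn _).smul _) fun K K' _ _ => ?_
  show _ * _ = _ * _
  rw [smul_mul_assoc, mul_smul_comm, smul_smul, hyc]
  rw [mul_smul_comm, smul_mul_assoc, smul_smul, mul_comm]

/-- Central elements of the reduced algebra of a block with two characters are dependent. -/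
theorem not_indep {B : Set (IrrCharacter G)} {e : Om} (he : iotaV V e = Phi (blkInd B))
    {χ₁ χ₂ : IrrCharacter G} (hne : χ₁ ≠ χ₂) (hB2 : B = {χ₁, χ₂})
    (c : Fin 3 → Kk) (hc : ∀ i x, c i * x = x * c i) (hcf : ∀ i, c i * rhoV V e = c i) :
    ¬ LinearIndependent (Kf V) c := by
  classical
  intro hind
  choose a ha ha' using fun i => exists_central_lift (c i) (hc i)
  have h1 : LinearIndependent ℂ (fun i => iotaV V (a i * e)) := by
    refine linearIndependent_of_reduction _ ?_
    have : (fun i => rhoV V (a i * e)) = c := by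
      funext i
      rw [map_mul, ha', hcf]
    rw [this]
    exact hind
  let v : Fin 2 → MonoidAlgebra ℂ G := ![Phi (blkInd {χ₁}), Phi (blkInd {χ₂})]
  have hmem : ∀ i, iotaV V (a i * e) ∈ Submodule.span ℂ (Set.range v) := by
    intro i
    have hcen : ∀ x, iotaV V (a i) * x = x * iotaV V (a i) := by
      intro x
      have := central_of_class (c := iotaV V (a i)) (fun g y => ?_) x
      · exact this
      · rw [coeff_iotaV, coeff_iotaV, class_of_central (ha i)]
    set om : IrrCharacter G → ℂ :=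
      fun χ => omega (χ : G → ℂ) (fun g => (iotaV V (a i)).coeff g) with hom
    have h2 : iotaV V (a i * e) = Phi (om * blkInd B) := by
      rw [map_mul, he, Phi_mul, ← central_eq_Phi hcen]
    have h3 : om * blkInd B = om χ₁ • blkInd {χ₁} + om χ₂ • blkInd {χ₂} := by
      funext ψ
      by_cases h4 : ψ = χ₁
      · subst h4
        have h5 : ψ ∉ ({χ₂} : Set (IrrCharacter G)) := hne
        have h6 : ψ ∈ B := by rw [hB2]; simp
        simp [blkInd_of_mem h6, blkInd_of_mem (Set.mem_singleton ψ), blkInd_of_not_mem h5]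
      · by_cases h5 : ψ = χ₂
        · subst h5
          have h6 : ψ ∉ ({χ₁} : Set (IrrCharacter G)) := h4
          have h7 : ψ ∈ B := by rw [hB2]; simp
          simp [blkInd_of_mem h7, blkInd_of_mem (Set.mem_singleton ψ), blkInd_of_not_mem h6]
        · have h6 : ψ ∉ ({χ₁} : Set (IrrCharacter G)) := h4
          have h7 : ψ ∉ ({χ₂} : Set (IrrCharacter G)) := h5
          have h8 : ψ ∉ B := by rw [hB2]; simp [h4, h5]
          simp [blkInd_of_not_mem h8, blkInd_of_not_mem h6, blkInd_of_not_mem h7]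
    rw [h2, h3, Phi_add, Phi_smul, Phi_smul]
    refine Submodule.add_mem _ (Submodule.smul_mem _ _ (Submodule.subset_span ⟨0, rfl⟩))
      (Submodule.smul_mem _ _ (Submodule.subset_span ⟨1, rfl⟩))
  let T : Fin 3 → Submodule.span ℂ (Set.range v) := fun i => ⟨_, hmem i⟩
  have hT : LinearIndependent ℂ T :=
    LinearIndependent.of_comp (Submodule.span ℂ (Set.range v)).subtype h1
  have h3 := hT.fintype_card_le_finrank
  have h4 : Set.finrank ℂ (Set.range v) ≤ Fintype.card (Fin 2) := finrank_range_le_card v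
  have h5 : finrank ℂ (Submodule.span ℂ (Set.range v)) ≤ 2 := by simpa [Set.finrank] using h4
  simp at h3
  omega

/-- The reduction of the block idempotent does not lie in the kernel ideal of a member. -/
theorem not_mem_Ki {B : Set (IrrCharacter G)} {e : Om} (he : iotaV V e = Phi (blkInd B))
    {χ : IrrCharacter G} (hχ : χ ∈ B) : rhoV V e ∉ Ki (V := V) (Phi (blkInd {χ})) := by
  rintro ⟨a, ha, haf⟩
  obtain ⟨d, b, hd, hb, hbne⟩ := exists_scale_elem (V := V) (Phi (blkInd {χ})) (Phi_singleton_ne_zero χ)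
  apply hbne
  have hE : iotaV V e * Phi (blkInd {χ}) = Phi (blkInd {χ}) := by
    rw [he, ← Phi_mul, blkInd_singleton_mul hχ]
  have h1 : iotaV V ((a - e) * b) = iotaV V (-b) := by
    rw [map_mul, map_sub, hb, map_neg, hb, mul_smul_comm, sub_mul, ha, hE, zero_sub, smul_neg]
  have h2 : (a - e) * b = -b := iotaV_injective h1
  have h3 := congrArg (rhoV V) h2
  rw [map_mul, map_sub, haf, sub_self, zero_mul, map_neg] at h3
  exact neg_eq_zero.1 h3.symm

theorem Ki_mul_left {x : MonoidAlgebra ℂ G} (a y : Kk) (hy : y ∈ Ki (V := V) x) :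
    a * y ∈ Ki (V := V) x := by
  obtain ⟨b, hb, rfl⟩ := hy
  obtain ⟨a, rfl⟩ := rhoV_surjective a
  exact ⟨a * b, by rw [map_mul, mul_assoc, hb, mul_zero], map_mul _ _ _⟩

theorem Ki_mul_right {c : IrrCharacter G → ℂ} (a y : Kk) (hy : y ∈ Ki (V := V) (Phi c)) :
    y * a ∈ Ki (V := V) (Phi c) := by
  obtain ⟨b, hb, rfl⟩ := hy
  obtain ⟨a, rfl⟩ := rhoV_surjective a
  refine ⟨b * a, ?_, map_mul _ _ _⟩
  rw [map_mul, mul_assoc, ← Phi_central, ← mul_assoc, hb, zero_mul]

/-- **A block with exactly two characters: the two degrees agree.** -/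
theorem charDegree_eq (hV1 : ∀ z, MemLocalRing M z → z ∈ V)
    (hV2 : ∀ z, MemLocalIdeal M z → z ∈ V.nonunits) {B : Set (IrrCharacter G)} (hB : IsPBlock M B)
    {χ₁ χ₂ : IrrCharacter G} (hne : χ₁ ≠ χ₂) (hB2 : B = {χ₁, χ₂}) :
    charDegree (χ₁ : G → ℂ) = charDegree (χ₂ : G → ℂ) := by
  classical
  have : IsAlgClosed (Kf V) := isAlgClosed_residue V
  obtain ⟨e, he, hec⟩ := exists_liftZ (V := V) hV1 (blkInd_mem_Zc hB)
  set f : Kk := rhoV V e with hf
  have hχ₁ : χ₁ ∈ B := by rw [hB2]; simp
  have hχ₂ : χ₂ ∈ B := by rw [hB2]; simp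
  have hee : e * e = e := by
    apply iotaV_injective
    rw [map_mul, he, ← Phi_mul, blkInd_mul_self]
  have hff : f * f = f := by rw [hf, ← map_mul, hee]
  have hfc : ∀ x, f * x = x * f := rho_central hec
  have hcardK : finrank (Kf V) Kk = Nat.card G := by
    rw [Module.finrank_eq_card_basis (MonoidAlgebra.basis G (Kf V)), Nat.card_eq_fintype_card]
  -- the key bound for a member
  have hkey : ∀ χ ∈ B, (finrank ℂ (LinearMap.range (LinearMap.mulRight ℂ (Phi (blkInd Bᶜ))))) +
      2 * finrank ℂ (LinearMap.range (LinearMap.mulRight ℂ (Phi (blkInd {χ})))) ≥ Nat.card G := by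
    intro χ hχ
    have h1 := CornerSym.half_bound f hff hfc
      (fun c hc hcf => not_indep he hne hB2 c hc hcf)
      (fun c hc hcf => exists_nil hV1 hV2 hB he hχ c hc hcf)
      (Ki (V := V) (Phi (blkInd {χ}))) (Ki_mul_left) (Ki_mul_right)
      (by
        intro x hx
        obtain ⟨x', rfl⟩ := rhoV_surjective x
        refine ⟨x' * (1 - e), ?_, ?_⟩
        · rw [map_mul, mul_assoc, map_sub, map_one, he, sub_mul, one_mul, ← Phi_mul,
            blkInd_singleton_mul hχ, sub_self, mul_zero]
        · rw [map_mul, map_sub, map_one, mul_sub, mul_one, ← hf, hx, sub_zero])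
      (not_mem_Ki he hχ)
    have h2 := finrank_add_Ki_le (V := V) (Phi (blkInd {χ}))
    have h3 := finrank_add_Ki_le (V := V) (Phi (blkInd Bᶜ))
    -- the complementary ideal
    have hcomp : Phi (blkInd Bᶜ) = 1 - Phi (blkInd B) := by
      rw [← Phi_one, ← Phi_sub]
      congr 1
      funext ψ
      by_cases hψ : ψ ∈ B
      · have : ψ ∉ Bᶜ := fun h => h hψ
        simp [blkInd_of_not_mem this, blkInd_of_mem hψ]
      · have : ψ ∈ Bᶜ := hψ
        simp [blkInd_of_mem this, blkInd_of_not_mem hψ]
    have h4 : Ki (V := V) (Phi (blkInd Bᶜ)) ≤ LinearMap.ker (LinearMap.mulRight (Kf V) (1 - f)) := by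
      rintro _ ⟨a, ha, rfl⟩
      rw [LinearMap.mem_ker, LinearMap.mulRight_apply]
      have h5 : a * (1 - e) = 0 := by
        apply iotaV_injective
        rw [map_mul, map_sub, map_one, he, ← hcomp, ha, map_zero]
      have h6 := congrArg (rhoV V) h5
      rwa [map_mul, map_sub, map_one, map_zero] at h6
    have h7 := Submodule.finrank_mono h4
    have h8 : LinearMap.ker (LinearMap.mulRight (Kf V) f) =
        LinearMap.range (LinearMap.mulRight (Kf V) (1 - f)) := by
      ext x
      simp only [LinearMap.mem_ker, LinearMap.mulRight_apply, LinearMap.mem_range]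
      constructor
      · intro hx
        exact ⟨x, by rw [mul_sub, mul_one, hx, sub_zero]⟩
      · rintro ⟨y, rfl⟩
        rw [mul_assoc, sub_mul, one_mul, hff, sub_self, mul_zero]
    have h9 := LinearMap.finrank_range_add_finrank_ker (LinearMap.mulRight (Kf V) (1 - f))
    rw [← h8] at h9
    rw [hcardK] at h1 h2 h3 h9
    omega
  -- the degrees
  have hdeg : ∀ χ : IrrCharacter G,
      finrank ℂ (LinearMap.range (LinearMap.mulRight ℂ (Phi (blkInd {χ})))) =
        charDegree (χ : G → ℂ) ^ 2 := by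
    intro χ
    have h1 := finrank_Phi ({χ} : Set (IrrCharacter G))
    rw [Finset.sum_eq_single χ] at h1
    · rw [blkInd_of_mem (Set.mem_singleton χ), one_mul,
        one_eq_charDegree (IsIrrCharacter.isCharacter χ.2)] at h1
      exact_mod_cast h1
    · intro ψ _ hψ
      have : ψ ∉ ({χ} : Set (IrrCharacter G)) := hψ
      rw [blkInd_of_not_mem this, zero_mul]
    · simp
  have hsum : finrank ℂ (LinearMap.range (LinearMap.mulRight ℂ (Phi (blkInd Bᶜ)))) +
      charDegree (χ₁ : G → ℂ) ^ 2 + charDegree (χ₂ : G → ℂ) ^ 2 = Nat.card G := by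
    have h1 := finrank_Phi (Bᶜ : Set (IrrCharacter G))
    have h2 : ∑ χ : IrrCharacter G, ((χ : G → ℂ) 1) ^ 2 = (Nat.card G : ℂ) := by
      rw [← sum_irr_degree_sq (G := G)]
      refine Finset.sum_congr rfl fun χ _ => ?_
      rw [one_eq_charDegree (IsIrrCharacter.isCharacter χ.2)]
      simp [sq]
    have h3 : ∀ χ : IrrCharacter G, ((χ : G → ℂ) 1) ^ 2 =
        blkInd Bᶜ χ * ((χ : G → ℂ) 1) ^ 2 +
          (blkInd {χ₁} χ * ((χ₁ : G → ℂ) 1) ^ 2 + blkInd {χ₂} χ * ((χ₂ : G → ℂ) 1) ^ 2) := by
      intro ψ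
      by_cases h4 : ψ = χ₁
      · subst h4
        have h5 : ψ ∉ ({χ₂} : Set (IrrCharacter G)) := hne
        have h6 : ψ ∉ Bᶜ := fun h => h hχ₁
        simp [blkInd_of_mem (Set.mem_singleton ψ), blkInd_of_not_mem h5, blkInd_of_not_mem h6]
      · by_cases h5 : ψ = χ₂
        · subst h5
          have h6 : ψ ∉ ({χ₁} : Set (IrrCharacter G)) := h4
          have h7 : ψ ∉ Bᶜ := fun h => h hχ₂
          simp [blkInd_of_mem (Set.mem_singleton ψ), blkInd_of_not_mem h6, blkInd_of_not_mem h7]
        · have h6 : ψ ∉ ({χ₁} : Set (IrrCharacter G)) := h4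
          have h7 : ψ ∉ ({χ₂} : Set (IrrCharacter G)) := h5
          have h8 : ψ ∈ Bᶜ := by
            intro h9
            rw [hB2] at h9
            rcases h9 with h9 | h9
            · exact h4 h9
            · exact h5 h9
          simp [blkInd_of_mem h8, blkInd_of_not_mem h6, blkInd_of_not_mem h7]
    rw [Finset.sum_congr rfl fun χ _ => h3 χ, Finset.sum_add_distrib, ← h1,
      Finset.sum_add_distrib, Finset.sum_eq_single χ₁, Finset.sum_eq_single χ₂] at h2
    · rw [blkInd_of_mem (Set.mem_singleton χ₁), blkInd_of_mem (Set.mem_singleton χ₂), one_mul, one_mul,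
        one_eq_charDegree (IsIrrCharacter.isCharacter χ₁.2),
        one_eq_charDegree (IsIrrCharacter.isCharacter χ₂.2), ← add_assoc] at h2
      exact_mod_cast h2
    · intro ψ _ hψ
      have : ψ ∉ ({χ₂} : Set (IrrCharacter G)) := hψ
      rw [blkInd_of_not_mem this, zero_mul]
    · simp
    · intro ψ _ hψ
      have : ψ ∉ ({χ₁} : Set (IrrCharacter G)) := hψ
      rw [blkInd_of_not_mem this, zero_mul]
    · simp
  have h1 := hkey χ₁ hχ₁
  have h2 := hkey χ₂ hχ₂
  rw [hdeg] at h1 h2
  have h3 : charDegree (χ₂ : G → ℂ) ^ 2 ≤ charDegree (χ₁ : G → ℂ) ^ 2 := by omega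
  have h4 : charDegree (χ₁ : G → ℂ) ^ 2 ≤ charDegree (χ₂ : G → ℂ) ^ 2 := by omega
  have h5 := le_antisymm h4 h3
  exact Nat.pow_left_injective (n := 2) (by norm_num) h5

end Main

end Cfsg.Agent.Lib.BlockBrandt
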