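import Mathlib
import Cfsg.Agent.Lib.LocalSymAlg

/-!
# Symmetric local algebras with small centre

`Λ = F·1 ⊕ J` with `J` a nilpotent two-sided ideal and a nondegenerate symmetric trace form.  If the
centre of `Λ` has dimension at most four, then `Λ` is commutative.
-/

set_option autoImplicit false
set_option linter.unusedSectionVars false
set_option linter.unusedVariables false

namespace Cfsg.Agent.Lib.LocalCore4

open Module Cfsg.Agent.Lib.LocalSymAlg

variable {F Λ : Type*} [Field F] [Ring Λ] [Algebra F Λ]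

section Powers

variable {J : Submodule F Λ}

theorem pow_left (hJl : ∀ a x, x ∈ J → a * x ∈ J) :
    ∀ (n : ℕ) (a x : Λ), x ∈ J ^ (n + 1) → a * x ∈ J ^ (n + 1)
  | 0, a, x, hx => by
      rw [zero_add, pow_one] at hx ⊢
      exact hJl a x hx
  | n + 1, a, x, hx => by
      rw [pow_succ] at hx ⊢
      refine Submodule.mul_induction_on (C := fun r => a * r ∈ J ^ (n + 1) * J) hx
        (fun u hu v hv => ?_) (fun y z hy hz => ?_)
      · rw [← mul_assoc]
        exact Submodule.mul_mem_mul (pow_left hJl n a u hu) hv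
      · rw [mul_add]
        exact add_mem hy hz

theorem pow_right (hJr : ∀ a x, x ∈ J → x * a ∈ J) :
    ∀ (n : ℕ) (a x : Λ), x ∈ J ^ (n + 1) → x * a ∈ J ^ (n + 1)
  | 0, a, x, hx => by
      rw [zero_add, pow_one] at hx ⊢
      exact hJr a x hx
  | n + 1, a, x, hx => by
      rw [pow_succ'] at hx ⊢
      refine Submodule.mul_induction_on (C := fun r => r * a ∈ J * J ^ (n + 1)) hx
        (fun u hu v hv => ?_) (fun y z hy hz => ?_)
      · rw [mul_assoc]
        exact Submodule.mul_mem_mul hu (pow_right hJr n a v hv)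
      · rw [add_mul]
        exact add_mem hy hz

theorem pow_succ_le (hJl : ∀ a x, x ∈ J → a * x ∈ J) (n : ℕ) : J ^ (n + 2) ≤ J ^ (n + 1) := by
  rw [pow_succ' J (n + 1), Submodule.mul_le]
  intro u _ v hv
  exact pow_left hJl n u v hv

theorem mem_pow_mul {i j : ℕ} {u v : Λ} (hu : u ∈ J ^ i) (hv : v ∈ J ^ j) : u * v ∈ J ^ (i + j) := by
  rw [pow_add]
  exact Submodule.mul_mem_mul hu hv

theorem eq_bot_of_stable {m : ℕ} (hm : J ^ m = ⊥) {n : ℕ} (h : J ^ (n + 1) = J ^ (n + 2)) :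
    J ^ (n + 1) = ⊥ := by
  have h1 : ∀ k, J ^ (n + 1 + k) = J ^ (n + 1) := by
    intro k
    induction k with
    | zero => rfl
    | succ k ih =>
      rw [← add_assoc, pow_succ, ih, ← pow_succ, ← h]
  rw [← h1 m, pow_add, hm]
  simp

end Powers

section Socle

variable [FiniteDimensional F Λ] (t : Λ →ₗ[F] F) (ht : ∀ a b, t (a * b) = t (b * a))
  (hnd : ∀ a, (∀ b, t (a * b) = 0) → a = 0)
  {J : Submodule F Λ} (hJl : ∀ a x, x ∈ J → a * x ∈ J) (hJr : ∀ a x, x ∈ J → x * a ∈ J)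
  (h1J : (1 : Λ) ∉ J) (hdec : ∀ a : Λ, ∃ c : F, a - c • 1 ∈ J)

include ht hnd hJl hJr h1J hdec in
/-- The socle. -/
theorem exists_socle : ∃ σ : Λ, t σ = 1 ∧ (∀ j ∈ J, σ * j = 0) ∧ (∀ j ∈ J, j * σ = 0) ∧
    (∀ s, (∀ j ∈ J, j * s = 0) → s = t s • σ) ∧ (∀ s, (∀ j ∈ J, s * j = 0) → s = t s • σ) := by
  obtain ⟨f, hf1, hf2⟩ := Submodule.exists_le_ker_of_notMem h1J
  let φ : Λ →ₗ[F] F := (f 1)⁻¹ • f
  have hφ1 : φ 1 = 1 := by
    simp only [φ, LinearMap.smul_apply, smul_eq_mul]
    exact inv_mul_cancel₀ hf1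
  have hφJ : ∀ j ∈ J, φ j = 0 := by
    intro j hj
    have : f j = 0 := hf2 hj
    simp [φ, this]
  obtain ⟨σ, hσ⟩ := exists_form_eq t hnd φ
  have hφdec : ∀ b : Λ, ∀ c : F, b - c • 1 ∈ J → φ b = c := by
    intro b c h
    have h1 := hφJ _ h
    rw [map_sub, map_smul, hφ1, smul_eq_mul, mul_one, sub_eq_zero] at h1
    exact h1
  have htσ : t σ = 1 := by
    have := hσ 1
    rw [mul_one, hφ1] at this
    exact this.symm
  have hσ1 : ∀ j ∈ J, σ * j = 0 := by
    intro j hj
    apply hnd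
    intro b
    rw [mul_assoc, ← hσ]
    exact hφJ _ (hJr _ _ hj)
  have hσ2 : ∀ j ∈ J, j * σ = 0 := by
    intro j hj
    apply hnd
    intro b
    rw [mul_assoc, ht, mul_assoc, ← hσ]
    exact hφJ _ (hJl _ _ hj)
  have huniq : ∀ s, (∀ j ∈ J, t (s * j) = 0) → s = t s • σ := by
    intro s hs
    rw [← sub_eq_zero]
    apply hnd
    intro b
    obtain ⟨c, hc⟩ := hdec b
    have h1 : b = c • 1 + (b - c • 1) := by abel
    have h2 : t (s * b) = c * t s := by
      rw [h1, mul_add, map_add, hs _ hc, add_zero, mul_smul_comm, mul_one, map_smul, smul_eq_mul]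
    have h3 : t ((s - t s • σ) * b) = t (s * b) - t s * t (σ * b) := by
      rw [sub_mul, map_sub, smul_mul_assoc, map_smul, smul_eq_mul]
    rw [h3, h2, ← hσ, hφdec b c hc]
    ring
  refine ⟨σ, htσ, hσ1, hσ2, fun s hs => huniq s fun j hj => ?_, fun s hs => huniq s fun j hj => ?_⟩
  · rw [ht, hs j hj, map_zero]
  · rw [hs j hj, map_zero]

variable {σ : Λ} (hσt : t σ = 1) (hσu : ∀ s, (∀ j ∈ J, j * s = 0) → s = t s • σ)

include hσu in
theorem soc_mem_aux {I : Submodule F Λ} (hI : ∀ j ∈ J, ∀ x ∈ I, j * x ∈ I) :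
    ∀ (n : ℕ) (y : Λ), y ∈ I → y ≠ 0 → (∀ w ∈ J ^ n, w * y = 0) → σ ∈ I
  | 0, y, _, hy0, h => by
      exfalso
      have := h 1 (by rw [pow_zero]; exact Submodule.one_le.mp le_rfl)
      rw [one_mul] at this
      exact hy0 this
  | n + 1, y, hyI, hy0, h => by
      by_cases h1 : ∀ j ∈ J, j * y = 0
      · have h2 := hσu y h1
        have h3 : t y ≠ 0 := by
          intro h0
          rw [h0, zero_smul] at h2
          exact hy0 h2
        have h4 : σ = (t y)⁻¹ • y := by
          rw [eq_inv_smul_iff₀ h3]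
          exact h2.symm
        rw [h4]
        exact I.smul_mem _ hyI
      · push Not at h1
        obtain ⟨j, hj, hjy⟩ := h1
        refine soc_mem_aux hI n (j * y) (hI j hj y hyI) hjy fun w hw => ?_
        rw [← mul_assoc]
        exact h _ (by rw [pow_succ]; exact Submodule.mul_mem_mul hw hj)

include hσu in
theorem soc_mem {I : Submodule F Λ} (hI : ∀ j ∈ J, ∀ x ∈ I, j * x ∈ I) (hI0 : I ≠ ⊥) {m : ℕ}
    (hm : J ^ m = ⊥) : σ ∈ I := by
  obtain ⟨y, hy, hy0⟩ := Submodule.exists_mem_ne_zero_of_ne_bot hI0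
  refine soc_mem_aux t hσu hI m y hy hy0 fun w hw => ?_
  rw [hm, Submodule.mem_bot] at hw
  rw [hw, zero_mul]

end Socle

section Commutators

variable (F Λ)

/-- The span of commutators. -/
def KK : Submodule F Λ := Submodule.span F {z | ∃ a b : Λ, z = a * b - b * a}

variable {F Λ}

theorem mem_KK (a b : Λ) : a * b - b * a ∈ KK F Λ := Submodule.subset_span ⟨a, b, rfl⟩

theorem trace_KK (t : Λ →ₗ[F] F) (ht : ∀ a b, t (a * b) = t (b * a)) {z : Λ} (hz : z ∈ KK F Λ) :
    t z = 0 := by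
  have h : KK F Λ ≤ LinearMap.ker t := by
    rw [KK, Submodule.span_le]
    rintro _ ⟨a, b, rfl⟩
    simp [ht a b]
  exact h hz

theorem finrank_le_KK_add_center [FiniteDimensional F Λ] (t : Λ →ₗ[F] F)
    (ht : ∀ a b, t (a * b) = t (b * a)) (hnd : ∀ a, (∀ b, t (a * b) = 0) → a = 0) :
    finrank F Λ ≤ finrank F (KK F Λ) + finrank F (Subalgebra.center F Λ) := by
  let φ : (Subalgebra.center F Λ) →ₗ[F] Module.Dual F Λ :=
    ((LinearMap.mul F Λ).compr₂ t) ∘ₗ (Subalgebra.center F Λ).val.toLinearMap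
  have h1 : (KK F Λ).dualAnnihilator ≤ LinearMap.range φ := by
    intro f hf
    rw [Submodule.mem_dualAnnihilator] at hf
    obtain ⟨z, hz⟩ := exists_form_eq t hnd f
    have hcomm : ∀ a b, f (a * b) = f (b * a) := by
      intro a b
      have := hf _ (mem_KK a b)
      rw [map_sub, sub_eq_zero] at this
      exact this
    have hc := central_of_trace t ht hnd f hcomm z hz
    refine ⟨⟨z, Subalgebra.mem_center_iff.2 fun b => (hc b).symm⟩, ?_⟩
    ext b
    simp [φ, hz]
  have h2 := Subspace.finrank_add_finrank_dualAnnihilator_eq (KK F Λ)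
  have h3 := Submodule.finrank_mono h1
  have h4 := LinearMap.finrank_range_le φ
  omega

end Commutators

section Gens

variable [FiniteDimensional F Λ]

theorem finrank_span_sup {W : Submodule F Λ} {x : Λ} (hx : x ∉ W) :
    finrank F (Submodule.span F {x} ⊔ W : Submodule F Λ) = finrank F W + 1 := by
  have h0 : x ≠ 0 := fun h => hx (h ▸ W.zero_mem)
  have h1 := Submodule.finrank_sup_add_finrank_inf_eq (Submodule.span F {x}) W
  have h2 : Submodule.span F {x} ⊓ W = ⊥ := by
    rw [eq_bot_iff]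
    intro y hy
    obtain ⟨hy1, hy2⟩ := hy
    obtain ⟨c, rfl⟩ := Submodule.mem_span_singleton.1 hy1
    by_cases hc : c = 0
    · simp [hc]
    · exact absurd ((W.smul_mem_iff hc).1 hy2) hx
  rw [h2, finrank_bot, finrank_span_singleton h0] at h1
  omega

theorem exists_gen1 {W J : Submodule F Λ} (hWJ : W ≤ J) (h : finrank F J ≤ finrank F W + 1) :
    ∃ x ∈ J, J ≤ Submodule.span F {x} ⊔ W := by
  by_cases h' : J ≤ W
  · exact ⟨0, J.zero_mem, h'.trans le_sup_right⟩
  · obtain ⟨x, hx, hxW⟩ := SetLike.not_le_iff_exists.1 h'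
    refine ⟨x, hx, ?_⟩
    have hle : Submodule.span F {x} ⊔ W ≤ J :=
      sup_le ((Submodule.span_singleton_le_iff_mem _ _).2 hx) hWJ
    exact (Submodule.eq_of_le_of_finrank_le hle (by rw [finrank_span_sup hxW]; exact h)).ge

theorem exists_gen2 {W J : Submodule F Λ} (hWJ : W ≤ J) (h : finrank F J ≤ finrank F W + 2) :
    ∃ x ∈ J, ∃ y ∈ J, J ≤ Submodule.span F {x, y} ⊔ W := by
  by_cases h' : J ≤ W
  · exact ⟨0, J.zero_mem, 0, J.zero_mem, h'.trans le_sup_right⟩
  · obtain ⟨x, hx, hxW⟩ := SetLike.not_le_iff_exists.1 h'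
    have hle : Submodule.span F {x} ⊔ W ≤ J :=
      sup_le ((Submodule.span_singleton_le_iff_mem _ _).2 hx) hWJ
    obtain ⟨y, hy, hJ⟩ := exists_gen1 hle (by rw [finrank_span_sup hxW]; omega)
    refine ⟨x, hx, y, hy, hJ.trans ?_⟩
    rw [Submodule.span_insert, ← sup_assoc, sup_comm (Submodule.span F {y})]

end Gens

section CommCases

variable {J : Submodule F Λ} (hJl : ∀ a x, x ∈ J → a * x ∈ J) (hJr : ∀ a x, x ∈ J → x * a ∈ J)
  (hdec : ∀ a : Λ, ∃ c : F, a - c • 1 ∈ J)

include hdec in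
theorem comm_of_J (h : ∀ x ∈ J, ∀ y ∈ J, x * y = y * x) (a b : Λ) : a * b = b * a := by
  obtain ⟨c, hc⟩ := hdec a
  obtain ⟨d, hd⟩ := hdec b
  have h1 : a = c • 1 + (a - c • 1) := by abel
  have h2 : b = d • 1 + (b - d • 1) := by abel
  have h3 := h _ hc _ hd
  rw [h1, h2]
  generalize a - c • 1 = u at *
  generalize b - d • 1 = v at *
  simp only [add_mul, mul_add, smul_mul_assoc, mul_smul_comm, one_mul, mul_one, h3]
  module

include hdec in
theorem comm_mem_sq (a b : Λ) : a * b - b * a ∈ J ^ 2 := by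
  obtain ⟨c, hc⟩ := hdec a
  obtain ⟨d, hd⟩ := hdec b
  have h1 : a = c • 1 + (a - c • 1) := by abel
  have h2 : b = d • 1 + (b - d • 1) := by abel
  have h3 : (a - c • 1) * (b - d • 1) - (b - d • 1) * (a - c • 1) ∈ J ^ 2 := by
    rw [pow_two]
    exact sub_mem (Submodule.mul_mem_mul hc hd) (Submodule.mul_mem_mul hd hc)
  have h4 : a * b - b * a = (a - c • 1) * (b - d • 1) - (b - d • 1) * (a - c • 1) := by
    generalize hu : a - c • 1 = u at *
    generalize hv : b - d • 1 = v at *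
    rw [h1, h2]
    simp only [add_mul, mul_add, smul_mul_assoc, mul_smul_comm, one_mul, mul_one]
    module
  rw [h4]
  exact h3

include hJl in
/-- One generator: commutative. -/
theorem comm_of_gen1 {x : Λ} (hx : x ∈ J) (hJ : J ≤ Submodule.span F {x} ⊔ J ^ 2) {m : ℕ}
    (hm : J ^ m = ⊥) (u : Λ) (hu : u ∈ J) (v : Λ) (hv : v ∈ J) : u * v = v * u := by
  have h1 : ∀ n : ℕ, J ^ (n + 1) ≤ Submodule.span F {x ^ (n + 1)} ⊔ J ^ (n + 2) := by
    intro n
    induction n with
    | zero =>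
      rw [zero_add, pow_one, pow_one]
      exact hJ
    | succ n ih =>
      rw [pow_succ' J (n + 1)]
      refine (mul_le_mul' hJ ih).trans ?_
      rw [Submodule.sup_mul, Submodule.mul_sup, Submodule.mul_sup]
      refine sup_le (sup_le ?_ ?_) (sup_le ?_ ?_)
      · rw [Submodule.span_mul_span, Set.singleton_mul_singleton, ← pow_succ']
        exact le_sup_left
      · refine le_trans ?_ le_sup_right
        rw [Submodule.mul_le]
        intro a ha b hb
        have ha' : a ∈ J := ((Submodule.span_singleton_le_iff_mem _ _).2 hx) ha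
        have := mem_pow_mul (i := 1) (j := n + 2) (by simpa using ha') hb
        rwa [show 1 + (n + 2) = n + 1 + 2 by ring] at this
      · refine le_trans ?_ le_sup_right
        rw [Submodule.mul_le]
        intro a ha b hb
        have hb' : b ∈ J ^ (n + 1) := by
          obtain ⟨c, rfl⟩ := Submodule.mem_span_singleton.1 hb
          exact Submodule.smul_mem _ _ (Submodule.pow_mem_pow _ hx _)
        have := mem_pow_mul ha hb'
        rwa [show 2 + (n + 1) = n + 1 + 2 by ring] at this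
      · refine le_trans ?_ le_sup_right
        rw [Submodule.mul_le]
        intro a ha b hb
        have := mem_pow_mul ha hb
        rw [show 2 + (n + 2) = (n + 2) + 2 by ring] at this
        exact pow_succ_le hJl _ this
  let S : Submodule F Λ := Submodule.span F (Set.range fun i : ℕ => x ^ (i + 1))
  have h2 : ∀ n : ℕ, J ≤ S ⊔ J ^ (n + 1) := by
    intro n
    induction n with
    | zero =>
      rw [zero_add, pow_one]
      exact le_sup_right
    | succ n ih =>
      refine ih.trans (sup_le le_sup_left ((h1 n).trans (sup_le ?_ le_sup_right)))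
      exact le_trans (Submodule.span_mono (by
        rintro _ rfl
        exact ⟨n, rfl⟩)) le_sup_left
  have h3 : J ≤ S := by
    have := h2 m
    rwa [pow_succ, hm, Submodule.bot_mul, sup_bot_eq] at this
  have h4 : ∀ i : ℕ, ∀ b ∈ S, x ^ (i + 1) * b = b * x ^ (i + 1) := by
    intro i b hb
    refine Submodule.span_induction (p := fun b _ => x ^ (i + 1) * b = b * x ^ (i + 1)) ?_ ?_ ?_ ?_ hb
    · rintro _ ⟨j, rfl⟩
      exact ((Commute.refl x).pow_pow _ _)
    · simp
    · intro a b _ _ ha hb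
      rw [mul_add, add_mul, ha, hb]
    · intro c a _ ha
      rw [mul_smul_comm, smul_mul_assoc, ha]
  have h5 : ∀ a ∈ S, ∀ b ∈ S, a * b = b * a := by
    intro a ha b hb
    refine Submodule.span_induction (p := fun a _ => a * b = b * a) ?_ ?_ ?_ ?_ ha
    · rintro _ ⟨j, rfl⟩
      exact h4 j b hb
    · simp
    · intro a c _ _ ha hc
      rw [add_mul, mul_add, ha, hc]
    · intro c a _ ha
      rw [mul_smul_comm, smul_mul_assoc, ha]
  exact h5 u (h3 hu) v (h3 hv)

end CommCases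

/-- The linear system for the degree-three layer. -/
theorem solve8 {α β γ A B C D : F} (h1 : β * A = α * D) (h2 : (β - 1) * A = β * C)
    (h3 : α * B = (β - 1) * C) (h4 : (β - 1) * B = γ * C) (h5 : β * B = (β - 1) * D)
    (h6 : γ * A = β * D) (h7 : α * A = α * C) (h8 : γ * B = γ * D) :
    A = 0 ∧ B = 0 ∧ C = 0 ∧ D = 0 := by
  by_cases hb0 : β = 0
  · subst hb0
    have hA : A = 0 := by linear_combination -h2
    have hD : D = 0 := by linear_combination h5
    subst hA hD
    by_cases ha : α = 0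
    · subst ha
      have hC : C = 0 := by linear_combination h3
      subst hC
      have hB : B = 0 := by linear_combination -h4
      exact ⟨rfl, hB, rfl, rfl⟩
    · have hC : C = 0 := by
        have : α * C = 0 := by linear_combination -h7
        exact (mul_eq_zero.1 this).resolve_left ha
      subst hC
      have hB : B = 0 := by linear_combination -h4
      exact ⟨rfl, hB, rfl, rfl⟩
  by_cases hb1 : β = 1
  · subst hb1
    have hC : C = 0 := by linear_combination -h2
    have hB : B = 0 := by linear_combination h5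
    subst hC hB
    by_cases ha : α = 0
    · subst ha
      have hA : A = 0 := by linear_combination h1
      subst hA
      have hD : D = 0 := by linear_combination -h6
      exact ⟨rfl, rfl, rfl, hD⟩
    · have hA : A = 0 := by
        have : α * A = 0 := by linear_combination h7
        exact (mul_eq_zero.1 this).resolve_left ha
      subst hA
      have hD : D = 0 := by linear_combination -h6
      exact ⟨rfl, rfl, rfl, hD⟩
  have hb1' : β - 1 ≠ 0 := sub_ne_zero.2 hb1
  have hAC : A = 0 ∧ C = 0 := by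
    by_cases ha : α = 0
    · subst ha
      have hA : β * A = 0 := by linear_combination h1
      have hC : (β - 1) * C = 0 := by linear_combination -h3
      exact ⟨(mul_eq_zero.1 hA).resolve_left hb0, (mul_eq_zero.1 hC).resolve_left hb1'⟩
    · have hAC : A = C := by
        have : α * (A - C) = 0 := by linear_combination h7
        exact sub_eq_zero.1 ((mul_eq_zero.1 this).resolve_left ha)
      subst hAC
      have hA : A = 0 := by linear_combination -h2
      exact ⟨hA, hA⟩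
  obtain ⟨rfl, rfl⟩ := hAC
  have hB : (β - 1) * B = 0 := by linear_combination h4
  have hD : β * D = 0 := by linear_combination -h6
  exact ⟨rfl, (mul_eq_zero.1 hB).resolve_left hb1', rfl, (mul_eq_zero.1 hD).resolve_left hb0⟩

section Two

variable [FiniteDimensional F Λ] (t : Λ →ₗ[F] F) (ht : ∀ a b, t (a * b) = t (b * a))
  {J : Submodule F Λ} (hJl : ∀ a x, x ∈ J → a * x ∈ J) (hJr : ∀ a x, x ∈ J → x * a ∈ J)
  (hdec : ∀ a : Λ, ∃ c : F, a - c • 1 ∈ J)
  {σ : Λ} (hσt : t σ = 1) (hσu : ∀ s, (∀ j ∈ J, j * s = 0) → s = t s • σ)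

include ht hJl hJr hdec hσu in
/-- Two generators, with the commutators and the socle spanning the square of the radical. -/
theorem comm_of_gen2 {x y : Λ} (hx : x ∈ J) (hy : y ∈ J)
    (hJ : J ≤ Submodule.span F {x, y} ⊔ J ^ 2) (hK : J ^ 2 ≤ KK F Λ ⊔ Submodule.span F {σ})
    {m : ℕ} (hm : J ^ m = ⊥) (a b : Λ) : a * b = b * a := by
  classical
  set w : Λ := x * y - y * x with hw
  have m3a : ∀ {u v : Λ}, u ∈ J → v ∈ J ^ 2 → u * v ∈ J ^ 3 := by
    intro u v hu hv
    rw [pow_succ' J 2]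
    exact Submodule.mul_mem_mul hu hv
  have m3b : ∀ {u v : Λ}, u ∈ J ^ 2 → v ∈ J → u * v ∈ J ^ 3 := by
    intro u v hu hv
    rw [pow_succ J 2]
    exact Submodule.mul_mem_mul hu hv
  have m4a : ∀ {u v : Λ}, u ∈ J → v ∈ J ^ 3 → u * v ∈ J ^ 4 := by
    intro u v hu hv
    rw [pow_succ' J 3]
    exact Submodule.mul_mem_mul hu hv
  have m4b : ∀ {u v : Λ}, u ∈ J ^ 3 → v ∈ J → u * v ∈ J ^ 4 := by
    intro u v hu hv
    rw [pow_succ J 3]
    exact Submodule.mul_mem_mul hu hv
  have m4c : ∀ {u v : Λ}, u ∈ J ^ 2 → v ∈ J ^ 2 → u * v ∈ J ^ 4 := by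
    intro u v hu hv
    have := mem_pow_mul hu hv
    rwa [show 2 + 2 = 4 by norm_num] at this
  have m5c : ∀ {u v : Λ}, u ∈ J ^ 2 → v ∈ J ^ 3 → u * v ∈ J ^ 4 := by
    intro u v hu hv
    have h5 : u * v ∈ J ^ (3 + 2) := by
      have := mem_pow_mul hu hv
      rwa [show 2 + 3 = 3 + 2 by norm_num] at this
    exact pow_succ_le hJl 3 h5
  have le32 : J ^ 3 ≤ J ^ 2 := pow_succ_le hJl 1
  have le43 : J ^ 4 ≤ J ^ 3 := pow_succ_le hJl 2
  have le21 : J ^ 2 ≤ J := by
    have := pow_succ_le hJl 0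
    simpa using this
  have hdecJ : ∀ j ∈ J, ∃ (α β : F) (u : Λ), u ∈ J ^ 2 ∧ j = α • x + β • y + u := by
    intro j hj
    obtain ⟨j₁, hj₁, u, hu, rfl⟩ := Submodule.mem_sup.1 (hJ hj)
    obtain ⟨α, β, rfl⟩ := Submodule.mem_span_pair.1 hj₁
    exact ⟨α, β, u, hu, rfl⟩
  -- commutators
  have hbrJ : ∀ j ∈ J, ∀ j' ∈ J, j * j' - j' * j ∈ Submodule.span F {w} ⊔ J ^ 3 := by
    intro j hj j' hj'
    obtain ⟨α, β, u, hu, rfl⟩ := hdecJ j hj
    obtain ⟨γ, δ, v, hv, rfl⟩ := hdecJ j' hj'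
    have h1 : (α • x + β • y + u) * (γ • x + δ • y + v) - (γ • x + δ • y + v) * (α • x + β • y + u) =
        (α * δ - β * γ) • w + (α • (x * v - v * x) + β • (y * v - v * y) + γ • (u * x - x * u) +
          δ • (u * y - y * u) + (u * v - v * u)) := by
      simp only [hw, add_mul, mul_add, smul_mul_assoc, mul_smul_comm, smul_smul, mul_sub, sub_mul,
        smul_sub, smul_add]
      module
    rw [h1]
    refine Submodule.add_mem_sup (Submodule.smul_mem _ _ (Submodule.mem_span_singleton_self w)) ?_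
    refine add_mem (add_mem (add_mem (add_mem ?_ ?_) ?_) ?_) ?_
    · exact Submodule.smul_mem _ _ (sub_mem (m3a hx hv) (m3b hv hx))
    · exact Submodule.smul_mem _ _ (sub_mem (m3a hy hv) (m3b hv hy))
    · exact Submodule.smul_mem _ _ (sub_mem (m3b hu hx) (m3a hx hu))
    · exact Submodule.smul_mem _ _ (sub_mem (m3b hu hy) (m3a hy hu))
    · exact sub_mem (le43 (m4c hu hv)) (le43 (m4c hv hu))
  have hbr : KK F Λ ≤ Submodule.span F {w} ⊔ J ^ 3 := by
    rw [KK, Submodule.span_le]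
    rintro _ ⟨a, b, rfl⟩
    obtain ⟨c, hc⟩ := hdec a
    obtain ⟨d, hd⟩ := hdec b
    have h4 : a * b - b * a = (a - c • 1) * (b - d • 1) - (b - d • 1) * (a - c • 1) := by
      have h1 : a = c • 1 + (a - c • 1) := by abel
      have h2 : b = d • 1 + (b - d • 1) := by abel
      generalize hu : a - c • 1 = u at *
      generalize hv : b - d • 1 = v at *
      rw [h1, h2]
      simp only [add_mul, mul_add, smul_mul_assoc, mul_smul_comm, one_mul, mul_one]
      module
    change a * b - b * a ∈ _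
    rw [h4]
    exact hbrJ _ hc _ hd
  have hcommKK : KK F Λ = ⊥ → a * b = b * a := by
    intro h
    have := mem_KK (F := F) a b
    rw [h, Submodule.mem_bot] at this
    exact sub_eq_zero.1 this
  by_cases h3 : J ^ 3 = ⊥
  · -- the square of the radical lies in the socle
    apply hcommKK
    have hwJ2 : w ∈ J ^ 2 := by
      rw [pow_two]
      exact sub_mem (Submodule.mul_mem_mul hx hy) (Submodule.mul_mem_mul hy hx)
    have hw0 : w = 0 := by
      have h5 := hσu w fun j hj => by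
        have := m3a hj hwJ2
        rwa [h3, Submodule.mem_bot] at this
      have h6 : t w = 0 := by
        rw [hw, map_sub, ht, sub_self]
      rwa [h6, zero_smul] at h5
    rw [eq_bot_iff]
    refine hbr.trans ?_
    rw [h3, hw0]
    simp
  -- otherwise, contradiction
  exfalso
  have hσ3 : σ ∈ J ^ 3 := soc_mem t hσu (fun j hj x hx => pow_left hJl 2 j x hx) h3 hm
  have hJ2 : J ^ 2 ≤ Submodule.span F {w} ⊔ J ^ 3 := by
    refine hK.trans (sup_le hbr ?_)
    exact le_trans ((Submodule.span_singleton_le_iff_mem _ _).2 hσ3) le_sup_right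
  have hw3 : w ∉ J ^ 3 := by
    intro hw3
    have h5 : J ^ 2 ≤ J ^ 3 := by
      refine hJ2.trans (sup_le ?_ le_rfl)
      exact (Submodule.span_singleton_le_iff_mem _ _).2 hw3
    have h6 : J ^ 2 = ⊥ := eq_bot_of_stable (n := 1) hm (le_antisymm h5 le32)
    exact h3 (eq_bot_iff.2 (le32.trans h6.le))
  have hdec2 : ∀ z ∈ J ^ 2, ∃ (c : F) (q : Λ), q ∈ J ^ 3 ∧ z = c • w + q := by
    intro z hz
    obtain ⟨z₁, hz₁, q, hq, rfl⟩ := Submodule.mem_sup.1 (hJ2 hz)
    obtain ⟨c, rfl⟩ := Submodule.mem_span_singleton.1 hz₁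
    exact ⟨c, q, hq, rfl⟩
  have mem2 : ∀ {u v : Λ}, u ∈ J → v ∈ J → u * v ∈ J ^ 2 := by
    intro u v hu hv
    rw [pow_two]
    exact Submodule.mul_mem_mul hu hv
  obtain ⟨α, p₁, hp₁, hxx⟩ := hdec2 _ (mem2 hx hx)
  obtain ⟨β, p₂, hp₂, hxy⟩ := hdec2 _ (mem2 hx hy)
  obtain ⟨β', p₃, hp₃, hyx⟩ := hdec2 _ (mem2 hy hx)
  obtain ⟨γ, p₄, hp₄, hyy⟩ := hdec2 _ (mem2 hy hy)
  have hβ : β' = β - 1 := by
    have h5 : (1 - β + β') • w = p₂ - p₃ := by
      have h6 : w = x * y - y * x := hw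
      rw [hxy, hyx] at h6
      have h7 : (1 - β + β') • w = w - β • w + β' • w := by module
      rw [h7]
      nth_rw 1 [h6]
      abel
    by_contra hne
    have h6 : (1 - β + β') ≠ 0 := by
      intro h0
      apply hne
      linear_combination h0
    apply hw3
    have h7 := Submodule.smul_mem (J ^ 3) (1 - β + β')⁻¹ (sub_mem hp₂ hp₃)
    rwa [← h5, smul_smul, inv_mul_cancel₀ h6, one_smul] at h7
  subst hβ
  have hw2 : w ∈ J ^ 2 := by
    rw [hw]
    exact sub_mem (mem2 hx hy) (mem2 hy hx)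
  -- the degree-three layer vanishes
  have hall : ∀ ℓ : Module.Dual F Λ, J ^ 4 ≤ LinearMap.ker ℓ →
      ℓ (x * w) = 0 ∧ ℓ (y * w) = 0 ∧ ℓ (w * x) = 0 ∧ ℓ (w * y) = 0 := by
    intro ℓ hℓ
    have hℓ0 : ∀ z ∈ J ^ 4, ℓ z = 0 := fun z hz => hℓ hz
    have key : ∀ (u v : Λ) (c₁ c₂ : F) (q₁ q₂ : Λ), u ∈ J → v ∈ J → q₁ ∈ J ^ 3 → q₂ ∈ J ^ 3 →
        u * (c₁ • w + q₁) = (c₂ • w + q₂) * v → c₁ * ℓ (u * w) = c₂ * ℓ (w * v) := by
      intro u v c₁ c₂ q₁ q₂ hu hv hq₁ hq₂ h
      have h1 := congrArg ℓ h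
      rw [mul_add, add_mul, mul_smul_comm, smul_mul_assoc, map_add, map_add, map_smul, map_smul,
        hℓ0 _ (m4a hu hq₁), hℓ0 _ (m4b hq₂ hv), add_zero, add_zero] at h1
      exact h1
    have r1 := key x y β α p₂ p₁ hx hy hp₂ hp₁ (by rw [← hxy, ← hxx, mul_assoc])
    have r2 := key x x (β - 1) β p₃ p₂ hx hx hp₃ hp₂ (by rw [← hyx, ← hxy, mul_assoc])
    have r3 := key y x α (β - 1) p₁ p₃ hy hx hp₁ hp₃ (by rw [← hxx, ← hyx, mul_assoc])
    have r4 := key y x (β - 1) γ p₃ p₄ hy hx hp₃ hp₄ (by rw [← hyx, ← hyy, mul_assoc])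
    have r5 := key y y β (β - 1) p₂ p₃ hy hy hp₂ hp₃ (by rw [← hxy, ← hyx, mul_assoc])
    have r6 := key x y γ β p₄ p₂ hx hy hp₄ hp₂ (by rw [← hyy, ← hxy, mul_assoc])
    have r7 := key x x α α p₁ p₁ hx hx hp₁ hp₁ (by rw [← hxx, mul_assoc])
    have r8 := key y y γ γ p₄ p₄ hy hy hp₄ hp₄ (by rw [← hyy, mul_assoc])
    exact solve8 r1 r2 r3 r4 r5 r6 r7 r8
  have hmem4 : ∀ z, (∀ ℓ : Module.Dual F Λ, J ^ 4 ≤ LinearMap.ker ℓ → ℓ z = 0) → z ∈ J ^ 4 := by
    intro z hz
    by_contra hne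
    obtain ⟨ℓ, h1, h2⟩ := Submodule.exists_le_ker_of_notMem hne
    exact h1 (hz ℓ h2)
  have hxw : x * w ∈ J ^ 4 := hmem4 _ fun ℓ hℓ => (hall ℓ hℓ).1
  have hyw : y * w ∈ J ^ 4 := hmem4 _ fun ℓ hℓ => (hall ℓ hℓ).2.1
  -- hence the third power is stable
  have h34 : J ^ 3 ≤ J ^ 4 := by
    rw [pow_succ' J 2, Submodule.mul_le]
    intro j hj z hz
    obtain ⟨a₁, b₁, u, hu, rfl⟩ := hdecJ j hj
    obtain ⟨c, q, hq, rfl⟩ := hdec2 z hz
    have h1 : (a₁ • x + b₁ • y + u) * (c • w + q) = (a₁ * c) • (x * w) + a₁ • (x * q) +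
        (b₁ * c) • (y * w) + b₁ • (y * q) + c • (u * w) + u * q := by
      simp only [add_mul, mul_add, smul_mul_assoc, mul_smul_comm, smul_smul]
      module
    rw [h1]
    refine add_mem (add_mem (add_mem (add_mem (add_mem ?_ ?_) ?_) ?_) ?_) ?_
    · exact Submodule.smul_mem _ _ hxw
    · exact Submodule.smul_mem _ _ (m4a hx hq)
    · exact Submodule.smul_mem _ _ hyw
    · exact Submodule.smul_mem _ _ (m4a hy hq)
    · exact Submodule.smul_mem _ _ (m4c hu hw2)
    · exact m5c hu hq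
  exact h3 (eq_bot_of_stable (n := 2) hm (le_antisymm h34 le43))

end Two

/-- **A symmetric local algebra whose centre has dimension at most four is commutative.** -/
theorem core [FiniteDimensional F Λ] (t : Λ →ₗ[F] F) (ht : ∀ a b, t (a * b) = t (b * a))
    (hnd : ∀ a, (∀ b, t (a * b) = 0) → a = 0)
    (J : Submodule F Λ) (hJl : ∀ a x, x ∈ J → a * x ∈ J) (hJr : ∀ a x, x ∈ J → x * a ∈ J)
    (h1J : (1 : Λ) ∉ J) (hdec : ∀ a : Λ, ∃ c : F, a - c • 1 ∈ J) {m : ℕ} (hm : J ^ m = ⊥)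
    (hZ : finrank F (Subalgebra.center F Λ) ≤ 4) (a b : Λ) : a * b = b * a := by
  classical
  by_contra hne
  obtain ⟨σ, hσt, hσ1, hσ2, hσu, hσu'⟩ := exists_socle t ht hnd hJl hJr h1J hdec
  have hJ2 : J ^ 2 ≠ ⊥ := by
    intro h
    apply hne
    refine comm_of_J hdec (fun x hx y hy => ?_) a b
    have h1 : x * y ∈ J ^ 2 := by
      rw [pow_two]
      exact Submodule.mul_mem_mul hx hy
    have h2 : y * x ∈ J ^ 2 := by
      rw [pow_two]
      exact Submodule.mul_mem_mul hy hx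
    rw [h, Submodule.mem_bot] at h1 h2
    rw [h1, h2]
  have hσ2' : σ ∈ J ^ 2 := soc_mem t hσu (fun j hj x hx => pow_left hJl 1 j x hx) hJ2 hm
  have hσK : σ ∉ KK F Λ := by
    intro h
    have := trace_KK t ht h
    rw [hσt] at this
    exact one_ne_zero this
  have hK2 : KK F Λ ≤ J ^ 2 := by
    rw [KK, Submodule.span_le]
    rintro _ ⟨a, b, rfl⟩
    exact comm_mem_sq hdec a b
  have hK' : Submodule.span F {σ} ⊔ KK F Λ ≤ J ^ 2 :=
    sup_le ((Submodule.span_singleton_le_iff_mem _ _).2 hσ2') hK2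
  have hf1 := finrank_span_sup hσK
  have hf2 := finrank_le_KK_add_center t ht hnd
  have hf3 : finrank F J < finrank F Λ := by
    have hlt : J < ⊤ := lt_top_iff_ne_top.2 fun h => h1J (h ▸ Submodule.mem_top)
    have := Submodule.finrank_lt_finrank_of_lt hlt
    rwa [finrank_top] at this
  have le21 : J ^ 2 ≤ J := by
    have := pow_succ_le hJl 0
    simpa using this
  by_cases hcase : finrank F J ≤ finrank F (J ^ 2 : Submodule F Λ) + 1
  · obtain ⟨x, hx, hJ⟩ := exists_gen1 le21 hcase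
    apply hne
    exact comm_of_J hdec (fun u hu v hv => comm_of_gen1 hJl hx hJ hm u hu v hv) a b
  · have h1 : finrank F (J ^ 2 : Submodule F Λ) ≤
        finrank F (Submodule.span F {σ} ⊔ KK F Λ : Submodule F Λ) := by omega
    have h2 := Submodule.eq_of_le_of_finrank_le hK' h1
    obtain ⟨x, hx, y, hy, hJ⟩ := exists_gen2 le21 (by rw [← h2]; omega)
    apply hne
    refine comm_of_gen2 t ht hJl hJr hdec hσu hx hy hJ ?_ hm a b
    rw [← h2, sup_comm]

end Cfsg.Agent.Lib.LocalCore4
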