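import Mathlib
import Cfsg.Agent.Lib.LocalCore4

/-!
# Symmetric algebras with one simple factor

`A` is a finite-dimensional algebra over an algebraically closed field with a nondegenerate symmetric
trace form, and its trace functionals are determined by one value.  Then `A / rad A` is a matrix
algebra.  A corner `e A e` at a primitive idempotent is a symmetric local algebra, and its centre embeds
in the centre of `A`.  If the corner is commutative, then `A` is generated by `g²` elements over its
centre.
-/

set_option autoImplicit false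
set_option linter.unusedSectionVars false
set_option linter.unusedVariables false

namespace Cfsg.Agent.Lib.MatCorner

open Module Cfsg.Agent.Lib.LocalSymAlg Cfsg.Agent.Lib.LocalCore4

variable {F A : Type*} [Field F] [Ring A] [Algebra F A]

/-- A trace functional killing the nilpotent elements. -/
def IsTr (τ : A →ₗ[F] F) : Prop := (∀ x y, τ (x * y) = τ (y * x)) ∧ ∀ x, IsNilpotent x → τ x = 0

/-- The quotient by the radical is a matrix algebra when trace functionals are determined by one
value. -/
theorem exists_mat [IsAlgClosed F] [FiniteDimensional F A] [Nontrivial A] (a₀ : A)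
    (hT : ∀ τ : A →ₗ[F] F, IsTr τ → τ a₀ = 0 → τ = 0) :
    ∃ (g : ℕ) (_ : NeZero g) (π : A →ₐ[F] Matrix (Fin g) (Fin g) F), Function.Surjective π ∧
      (∀ x, π x = 0 ↔ x ∈ Ring.jacobson A) := by
  classical
  have : IsArtinianRing A := IsArtinianRing.of_finite F A
  have : FiniteDimensional F (A ⧸ Ring.jacobson A) :=
    Module.Finite.of_surjective (Ideal.Quotient.mkₐ F (Ring.jacobson A)).toLinearMap
      (Ideal.Quotient.mkₐ_surjective F _)
  obtain ⟨n, d, hd, ⟨φ⟩⟩ :=
    IsSemisimpleRing.exists_algEquiv_pi_matrix_of_isAlgClosed F (A ⧸ Ring.jacobson A)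
  let Pm : A →ₐ[F] (∀ i, Matrix (Fin (d i)) (Fin (d i)) F) :=
    (φ : (A ⧸ Ring.jacobson A) →ₐ[F] _).comp (Ideal.Quotient.mkₐ F (Ring.jacobson A))
  have hPs : Function.Surjective Pm :=
    φ.surjective.comp (Ideal.Quotient.mkₐ_surjective F _)
  have hPk : ∀ x, Pm x = 0 ↔ x ∈ Ring.jacobson A := by
    intro x
    rw [← Ideal.Quotient.eq_zero_iff_mem]
    simp [Pm]
  have hd' : ∀ i, 0 < d i := fun i => Nat.pos_of_ne_zero (hd i).ne
  let τ : Fin n → (A →ₗ[F] F) := fun i =>
    (Matrix.traceLinearMap (Fin (d i)) F F) ∘ₗ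
      (LinearMap.proj (R := F) (φ := fun i => Matrix (Fin (d i)) (Fin (d i)) F) i) ∘ₗ
        Pm.toLinearMap
  have hτ : ∀ i a, τ i a = Matrix.trace (Pm a i) := fun i a => rfl
  have hτc : ∀ i a b, τ i (a * b) = τ i (b * a) := by
    intro i a b
    rw [hτ, hτ, map_mul, map_mul, Pi.mul_apply, Pi.mul_apply, Matrix.trace_mul_comm]
  have hτn : ∀ i x, IsNilpotent x → τ i x = 0 := by
    intro i x hx
    rw [hτ]
    have h1 : IsNilpotent (Pm x i) := by
      obtain ⟨r, hr⟩ := hx
      refine ⟨r, ?_⟩
      have := congrArg Pm hr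
      rw [map_pow, map_zero] at this
      have h2 := congrFun this i
      simpa using h2
    exact (Matrix.isNilpotent_trace_of_isNilpotent h1).eq_zero
  have hτtr : ∀ i, IsTr (τ i) := fun i => ⟨hτc i, hτn i⟩
  choose a ha using fun i => hPs (Pi.single i (Matrix.single ⟨0, hd' i⟩ ⟨0, hd' i⟩ 1))
  have hτa : ∀ i j, τ j (a i) = if i = j then 1 else 0 := by
    intro i j
    rw [hτ, ha]
    by_cases h : i = j
    · subst h
      simp [Matrix.trace_single_eq_same]
    · simp [h, Pi.single_apply, Ne.symm h]
  have hn1 : n ≤ 1 := by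
    by_contra hcon
    have h2 : 1 < n := by omega
    let i₀ : Fin n := ⟨0, by omega⟩
    let i₁ : Fin n := ⟨1, h2⟩
    have hne : i₀ ≠ i₁ := by
      intro h
      have := congrArg Fin.val h
      simp [i₀, i₁] at this
    let τ' : A →ₗ[F] F := (τ i₁ a₀) • τ i₀ - (τ i₀ a₀) • τ i₁
    have hτ' : IsTr τ' := by
      refine ⟨fun x y => ?_, fun x hx => ?_⟩
      · simp only [τ', LinearMap.sub_apply, LinearMap.smul_apply, hτc]
      · simp only [τ', LinearMap.sub_apply, LinearMap.smul_apply, hτn _ _ hx, smul_zero, sub_zero]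
    have h0 : τ' a₀ = 0 := by
      simp only [τ', LinearMap.sub_apply, LinearMap.smul_apply, smul_eq_mul]
      ring
    have h1 := hT τ' hτ' h0
    have h3 : τ i₁ a₀ = 0 := by
      have := congrArg (fun f : A →ₗ[F] F => f (a i₀)) h1
      simp only [τ', LinearMap.sub_apply, LinearMap.smul_apply, hτa, smul_eq_mul, LinearMap.zero_apply,
        if_neg hne, if_true] at this
      simpa using this
    have h4 : τ i₀ a₀ = 0 := by
      have := congrArg (fun f : A →ₗ[F] F => f (a i₁)) h1
      simp only [τ', LinearMap.sub_apply, LinearMap.smul_apply, hτa, smul_eq_mul, LinearMap.zero_apply,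
        if_neg (Ne.symm hne), if_true] at this
      simpa using this
    have h5 := hT (τ i₀) (hτtr i₀) h4
    have h6 := hτa i₀ i₀
    rw [h5] at h6
    simp at h6
  obtain rfl | rfl : n = 0 ∨ n = 1 := by omega
  · exfalso
    have h1 : (1 : A) ∈ Ring.jacobson A := by
      rw [← hPk]
      exact Subsingleton.elim _ _
    obtain ⟨m, hm⟩ : IsNilpotent (Ring.jacobson A) := IsSemiprimaryRing.isNilpotent
    have h3 : ∀ n : ℕ, (1 : A) ∈ (Ring.jacobson A) ^ n := by
      intro n
      induction n with
      | zero =>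
        rw [Submodule.pow_zero, Ideal.one_eq_top]
        exact Submodule.mem_top
      | succ n ih =>
        rw [Ideal.IsTwoSided.pow_succ]
        have := Ideal.mul_mem_mul h1 ih
        rwa [one_mul] at this
    have h4 := h3 m
    rw [hm] at h4
    simp at h4
  · have := hd 0
    let π : A →ₐ[F] Matrix (Fin (d 0)) (Fin (d 0)) F :=
      (Pi.evalAlgHom F (fun i => Matrix (Fin (d i)) (Fin (d i)) F) 0).comp Pm
    have hπs : Function.Surjective π := by
      intro M
      obtain ⟨x, hx⟩ := hPs (fun i => (Subsingleton.elim i 0 ▸ M : Matrix (Fin (d i)) (Fin (d i)) F))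
      exact ⟨x, by simp [π, hx]⟩
    have hπk : ∀ x, π x = 0 ↔ x ∈ Ring.jacobson A := by
      intro x
      rw [← hPk]
      constructor
      · intro h
        funext i
        rw [Subsingleton.elim i 0]
        exact h
      · intro h
        simp [π, h]
    exact ⟨d 0, this, π, hπs, hπk⟩

section Data

/-- Elementary data on a corner. -/
theorem exists_corner_data {g : ℕ} [NeZero g] (π : A →ₐ[F] Matrix (Fin g) (Fin g) F)
    (hπ : Function.Surjective π) (hnilp : ∀ x, π x = 0 → IsNilpotent x) :
    ∃ (e : A) (α β : Fin g → A), e * e = e ∧ π e ≠ 0 ∧ (∀ a, ∃ c : F, π (e * a * e - c • e) = 0) ∧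
      ∑ j, α j * e * β j = 1 := by
  classical
  let i₀ : Fin g := ⟨0, Nat.pos_of_ne_zero (NeZero.ne g)⟩
  let E : Fin g → Fin g → Matrix (Fin g) (Fin g) F := fun i j => Matrix.single i j 1
  have hEE : ∀ i j r s, E i j * E r s = if j = r then E i s else 0 := by
    intro i j r s
    by_cases h : j = r
    · subst h; simp [E, Matrix.single_mul_single_same]
    · simp [E, h, Matrix.single_mul_single_of_ne]
  obtain ⟨e, he, hπe⟩ := exists_isIdempotentElem_eq_of_ker_isNilpotent
      (π : A →+* Matrix (Fin g) (Fin g) F)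
      (fun x hx => hnilp x (by simpa [RingHom.mem_ker] using hx))
      (E i₀ i₀) (by obtain ⟨a, ha⟩ := hπ (E i₀ i₀); exact ⟨a, ha⟩)
      (by unfold IsIdempotentElem; rw [hEE]; simp)
  replace hπe : π e = E i₀ i₀ := hπe
  have he' : e * e = e := he
  have heJ : π e ≠ 0 := by
    rw [hπe]
    intro h
    have := congrFun (congrFun h i₀) i₀
    simp [E] at this
  have hdec : ∀ a, ∃ c : F, π (e * a * e - c • e) = 0 := by
    intro a
    refine ⟨π a i₀ i₀, ?_⟩
    rw [map_sub, map_smul, map_mul, map_mul, hπe]
    simp only [E, Matrix.single_mul_mul_single, one_mul, mul_one]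
    rw [Matrix.smul_single, smul_eq_mul, mul_one, sub_self]
  choose u hu using fun p : Fin g × Fin g => hπ (E p.1 p.2)
  have hunit : ∀ x, π x = 1 → IsUnit x := by
    intro x hx
    have h1 : π ((1 : A) - x) = 0 := by rw [map_sub, map_one, hx, sub_self]
    have := (hnilp _ h1).isUnit_one_sub
    simpa using this
  have hπx : π (∑ j, u (j, i₀) * e * u (i₀, j)) = 1 := by
    rw [map_sum, ← Matrix.sum_single_one (α := F)]
    refine Finset.sum_congr rfl fun j _ => ?_
    rw [map_mul, map_mul, hu, hu, hπe]
    simp [E]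
  obtain ⟨v, hv⟩ := (hunit _ hπx).exists_left_inv
  refine ⟨e, fun j => v * u (j, i₀), fun j => u (i₀, j), he', heJ, hdec, ?_⟩
  rw [← hv, Finset.mul_sum]
  refine Finset.sum_congr rfl fun j _ => ?_
  simp only [mul_assoc]

/-- Proper ideals lie in the kernel. -/
theorem le_ker {g : ℕ} [NeZero g] (π : A →ₐ[F] Matrix (Fin g) (Fin g) F)
    (hπ : Function.Surjective π) (hnilp : ∀ x, π x = 0 → IsNilpotent x)
    (I : Submodule F A) (hIl : ∀ a x, x ∈ I → a * x ∈ I) (hIr : ∀ a x, x ∈ I → x * a ∈ I)
    (h1I : (1 : A) ∉ I) (x : A) (hx : x ∈ I) : π x = 0 := by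
  classical
  let E : Fin g → Fin g → Matrix (Fin g) (Fin g) F := fun i j => Matrix.single i j 1
  choose u hu using fun p : Fin g × Fin g => hπ (E p.1 p.2)
  have hunit : ∀ x, π x = 1 → IsUnit x := by
    intro x hx
    have h1 : π ((1 : A) - x) = 0 := by rw [map_sub, map_one, hx, sub_self]
    have := (hnilp _ h1).isUnit_one_sub
    simpa using this
  by_contra hne
  obtain ⟨r, s, hrs⟩ : ∃ r s, π x r s ≠ 0 := by
    by_contra hcon
    push Not at hcon
    exact hne (by ext r s; simpa using hcon r s)
  have hw : π (∑ j, u (j, r) * x * u (s, j)) = (π x r s) • (1 : Matrix (Fin g) (Fin g) F) := by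
    rw [map_sum, ← Matrix.sum_single_one (α := F), Finset.smul_sum]
    refine Finset.sum_congr rfl fun j _ => ?_
    rw [map_mul, map_mul, hu, hu]
    simp [E, Matrix.smul_single]
  have hw' : π ((π x r s)⁻¹ • ∑ j, u (j, r) * x * u (s, j)) = 1 := by
    rw [map_smul, hw, smul_smul, inv_mul_cancel₀ hrs, one_smul]
  have hmem : (π x r s)⁻¹ • ∑ j, u (j, r) * x * u (s, j) ∈ I :=
    I.smul_mem _ (I.sum_mem fun j _ => hIr _ _ (hIl _ _ hx))
  obtain ⟨w, hw''⟩ := (hunit _ hw').exists_left_inv
  apply h1I
  rw [← hw'']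
  exact hIl _ _ hmem

/-- An element central in the corner comes from the centre. -/
theorem central_of_corner {ι : Type*} [Fintype ι] {e : A} (he : e * e = e) {α β : ι → A}
    (h1 : ∑ i, α i * e * β i = 1) (y : A) (hey : e * y = y) (hye : y * e = y)
    (hcc : ∀ a : A, (e * a * e) * y = y * (e * a * e)) :
    (∀ b, (∑ j, α j * y * β j) * b = b * (∑ j, α j * y * β j)) ∧ (∑ j, α j * y * β j) * e = y := by
  have hc : ∀ b, (∑ j, α j * y * β j) * b = b * (∑ j, α j * y * β j) := by
    intro c
    calc (∑ j, α j * y * β j) * c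
        = (∑ j, α j * y * β j) * c * (∑ i, α i * e * β i) := by rw [h1, mul_one]
      _ = ∑ j, ∑ i, (α j * y * β j) * c * (α i * e * β i) := by
          rw [Finset.sum_mul, Finset.sum_mul_sum]
      _ = ∑ j, ∑ i, (α j * e * β j) * c * (α i * y * β i) := by
          refine Finset.sum_congr rfl fun j _ => Finset.sum_congr rfl fun i _ => ?_
          have := hcc (β j * c * α i)
          have h3 : y * (β j * c * α i) * e = e * (β j * c * α i) * y := by
            calc y * (β j * c * α i) * e = y * e * (β j * c * α i) * e := by rw [hye]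
              _ = y * (e * (β j * c * α i) * e) := by simp only [mul_assoc]
              _ = (e * (β j * c * α i) * e) * y := this.symm
              _ = e * (β j * c * α i) * (e * y) := by simp only [mul_assoc]
              _ = e * (β j * c * α i) * y := by rw [hey]
          calc α j * y * β j * c * (α i * e * β i)
              = α j * (y * (β j * c * α i) * e) * β i := by simp only [mul_assoc]
            _ = α j * (e * (β j * c * α i) * y) * β i := by rw [h3]
            _ = α j * e * β j * c * (α i * y * β i) := by simp only [mul_assoc]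
      _ = (∑ j, α j * e * β j) * c * (∑ i, α i * y * β i) := by
          rw [Finset.sum_mul, Finset.sum_mul_sum]
      _ = c * ∑ j, α j * y * β j := by rw [h1, one_mul]
  refine ⟨hc, ?_⟩
  have hcomm : ∀ j, e * (α j * y * β j) * e = y * (e * α j * e * β j * e) := by
    intro j
    have := hcc (α j)
    calc e * (α j * y * β j) * e = (e * α j * (e * y)) * β j * e := by
          rw [hey]; simp only [mul_assoc]
      _ = ((e * α j * e) * y) * β j * e := by simp only [mul_assoc]
      _ = (y * (e * α j * e)) * β j * e := by rw [this]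
      _ = y * (e * α j * e * β j * e) := by simp only [mul_assoc]
  have hzc : (∑ j, α j * y * β j) * e = e * (∑ j, α j * y * β j) * e := by
    calc (∑ j, α j * y * β j) * e = (∑ j, α j * y * β j) * e * e := by rw [mul_assoc, he]
      _ = e * (∑ j, α j * y * β j) * e := by rw [hc e]
  rw [hzc, Finset.mul_sum, Finset.sum_mul]
  simp_rw [hcomm]
  rw [← Finset.mul_sum]
  have h4 : ∑ j, e * α j * e * β j * e = e := by
    have : ∀ j, e * α j * e * β j * e = e * (α j * e * β j) * e := by
      intro j; simp only [mul_assoc]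
    simp_rw [this]
    rw [← Finset.sum_mul, ← Finset.mul_sum, h1, mul_one, he]
  rw [h4, hye]

end Data

section Corner

variable {e : A} (he : IsIdempotentElem e)

/-- The corner is an algebra. -/
@[reducible] noncomputable def cornerAlg : Algebra F he.Corner :=
  RingHom.toAlgebra'
    { toFun := fun c => ⟨c • e, by
        rw [Subsemigroup.mem_corner_iff he]
        constructor
        · rw [mul_smul_comm, he.eq]
        · rw [smul_mul_assoc, he.eq]⟩
      map_one' := by
        apply Subtype.ext
        exact one_smul _ _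
      map_mul' := fun a b => by
        apply Subtype.ext
        change (a * b) • e = (a • e) * (b • e)
        rw [smul_mul_assoc, mul_smul_comm, he.eq, smul_smul]
      map_zero' := by
        apply Subtype.ext
        exact zero_smul _ _
      map_add' := fun a b => by
        apply Subtype.ext
        exact add_smul _ _ _ }
    (fun c x => by
      apply Subtype.ext
      change (c • e) * x.1 = x.1 * (c • e)
      have h1 := ((Subsemigroup.mem_corner_iff he).mp x.2)
      rw [smul_mul_assoc, mul_smul_comm, h1.1, h1.2])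

attribute [local instance] cornerAlg

theorem val_smul (c : F) (x : he.Corner) : (c • x).1 = c • x.1 := by
  change (c • e) * x.1 = c • x.1
  have h1 := ((Subsemigroup.mem_corner_iff he).mp x.2)
  rw [smul_mul_assoc, h1.1]

variable (F) in
/-- The inclusion of the corner. -/
noncomputable def valL : he.Corner →ₗ[F] A where
  toFun := fun x => x.1
  map_add' := fun _ _ => rfl
  map_smul' := fun c x => val_smul he c x

@[simp] theorem valL_apply (x : he.Corner) : valL F he x = x.1 := rfl

theorem valL_injective : Function.Injective (valL F he) := fun _ _ h => Subtype.ext h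

/-- Elements of the corner. -/
def mkC (a : A) : he.Corner := ⟨e * a * e, by
  rw [Subsemigroup.mem_corner_iff he]
  constructor
  · rw [← mul_assoc, ← mul_assoc, he.eq]
  · rw [mul_assoc, he.eq]⟩

theorem mkC_val (x : he.Corner) : mkC he x.1 = x := by
  apply Subtype.ext
  have h1 := ((Subsemigroup.mem_corner_iff he).mp x.2)
  change e * x.1 * e = x.1
  rw [h1.1, h1.2]

variable [FiniteDimensional F A] (t : A →ₗ[F] F) (ht : ∀ a b, t (a * b) = t (b * a))
  (hnd : ∀ a, (∀ b, t (a * b) = 0) → a = 0)
  {ι : Type*} [Fintype ι] {α β : ι → A} (h1 : ∑ i, α i * e * β i = 1)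

include ht hnd in
/-- The form on the corner is nondegenerate. -/
theorem corner_nd (a : he.Corner) (h : ∀ b : he.Corner, t (a.1 * b.1) = 0) : a = 0 := by
  apply Subtype.ext
  apply hnd
  intro x
  have ha := ((Subsemigroup.mem_corner_iff he).mp a.2)
  have h2 := h (mkC he x)
  change t (a.1 * (e * x * e)) = 0 at h2
  calc t (a.1 * x) = t ((e * a.1) * x) := by rw [ha.1]
    _ = t (e * (a.1 * x)) := by rw [mul_assoc]
    _ = t ((a.1 * x) * e) := ht _ _
    _ = t (((a.1 * e) * x) * e) := by rw [ha.2]
    _ = t (a.1 * (e * x * e)) := by simp only [mul_assoc]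
    _ = 0 := h2

include he h1 in
/-- The centre of the corner embeds in the centre of `A`. -/
theorem finrank_center_corner_le :
    finrank F (Subalgebra.center F he.Corner) ≤ finrank F (Subalgebra.center F A) := by
  classical
  have he' : e * e = e := he.eq
  let ψ₀ : A →ₗ[F] A := ∑ j, (LinearMap.mulLeft F (α j)) ∘ₗ (LinearMap.mulRight F (β j))
  have hψ₀ : ∀ y, ψ₀ y = ∑ j, α j * y * β j := by
    intro y
    simp [ψ₀, LinearMap.sum_apply, mul_assoc]
  let ψ : Subalgebra.center F he.Corner →ₗ[F] A :=
    ψ₀ ∘ₗ valL F he ∘ₗ (Subalgebra.center F he.Corner).val.toLinearMap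
  have hψ : ∀ y : Subalgebra.center F he.Corner,
      (∀ b, ψ y * b = b * ψ y) ∧ ψ y * e = ((y : he.Corner)).1 := by
    intro y
    have hy := ((Subsemigroup.mem_corner_iff he).mp (y : he.Corner).2)
    have hcc : ∀ a : A, (e * a * e) * (y : he.Corner).1 = (y : he.Corner).1 * (e * a * e) := by
      intro a
      have h2 := Subalgebra.mem_center_iff.1 y.2 (mkC he a)
      exact congrArg Subtype.val h2
    have h3 := central_of_corner he' h1 (y : he.Corner).1 hy.1 hy.2 hcc
    have h4 : ψ y = ∑ j, α j * (y : he.Corner).1 * β j := hψ₀ _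
    rw [h4]
    exact h3
  have hinj : Function.Injective ψ := by
    intro y y' hyy
    apply Subtype.ext
    apply Subtype.ext
    rw [← (hψ y).2, ← (hψ y').2, hyy]
  have hle : LinearMap.range ψ ≤ Subalgebra.toSubmodule (Subalgebra.center F A) := by
    rintro _ ⟨y, rfl⟩
    exact (Subalgebra.mem_center_iff (R := F)).2 fun b => ((hψ y).1 b).symm
  have h2 := Submodule.finrank_mono hle
  rw [LinearMap.finrank_range_of_inj hinj] at h2
  exact h2

end Corner

section CornerCore

attribute [local instance] cornerAlg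

variable [FiniteDimensional F A] (t : A →ₗ[F] F) (ht : ∀ a b, t (a * b) = t (b * a))
  (hnd : ∀ a, (∀ b, t (a * b) = 0) → a = 0)
  {e : A} (he : IsIdempotentElem e) {ι : Type*} [Fintype ι] {α β : ι → A}
  (h1 : ∑ i, α i * e * β i = 1)
  (N : Submodule F A) (hNl : ∀ a x, x ∈ N → a * x ∈ N) (hNr : ∀ a x, x ∈ N → x * a ∈ N)
  (heN : e ∉ N) (hdec : ∀ a, ∃ c : F, e * a * e - c • e ∈ N) {m : ℕ} (hm : N ^ m = ⊥)

/-- The radical of the corner. -/
noncomputable def JC : Submodule F he.Corner := N.comap (valL F he)

theorem mem_JC {x : he.Corner} : x ∈ JC he N ↔ x.1 ∈ N := Iff.rfl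

include hNl hNr in
theorem JC_pow : ∀ (n : ℕ) (y : he.Corner), y ∈ JC he N ^ (n + 1) → y.1 ∈ N ^ (n + 1)
  | 0, y, hy => by
      rw [zero_add, pow_one] at hy ⊢
      exact hy
  | n + 1, y, hy => by
      rw [pow_succ] at hy ⊢
      refine Submodule.mul_induction_on (C := fun r : he.Corner => r.1 ∈ N ^ (n + 1) * N) hy
        (fun u hu v hv => ?_) (fun a b ha hb => ?_)
      · exact Submodule.mul_mem_mul (JC_pow n u hu) hv
      · exact add_mem ha hb

include ht hnd he h1 hNl hNr heN hdec hm in
/-- The corner is commutative if the centre has dimension at most four. -/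
theorem corner_comm (hZ : finrank F (Subalgebra.center F A) ≤ 4) (a b : A) :
    (e * a * e) * (e * b * e) = (e * b * e) * (e * a * e) := by
  have hfd : FiniteDimensional F he.Corner :=
    FiniteDimensional.of_injective (valL F he) (valL_injective he)
  let t' : he.Corner →ₗ[F] F := t ∘ₗ valL F he
  have ht' : ∀ x y : he.Corner, t' (x * y) = t' (y * x) := fun x y => ht x.1 y.1
  have hnd' : ∀ x : he.Corner, (∀ y, t' (x * y) = 0) → x = 0 := fun x hx =>
    corner_nd he t ht hnd x fun y => hx y
  have hJl : ∀ (x y : he.Corner), y ∈ JC he N → x * y ∈ JC he N := fun x y hy => hNl x.1 y.1 hy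
  have hJr : ∀ (x y : he.Corner), y ∈ JC he N → y * x ∈ JC he N := fun x y hy => hNr x.1 y.1 hy
  have h1J : (1 : he.Corner) ∉ JC he N := heN
  have hdec' : ∀ x : he.Corner, ∃ c : F, x - c • 1 ∈ JC he N := by
    intro x
    obtain ⟨c, hc⟩ := hdec x.1
    refine ⟨c, ?_⟩
    have hx := ((Subsemigroup.mem_corner_iff he).mp x.2)
    rw [mem_JC]
    have h2 : (x - c • (1 : he.Corner)).1 = e * x.1 * e - c • e := by
      rw [hx.1, hx.2]
      change x.1 - (c • (1 : he.Corner)).1 = _
      rw [val_smul]
      rfl
    rw [h2]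
    exact hc
  have hm' : JC he N ^ (m + 1) = ⊥ := by
    rw [eq_bot_iff]
    intro y hy
    have h2 := JC_pow he N hNl hNr m y hy
    rw [pow_succ, hm, Submodule.bot_mul, Submodule.mem_bot] at h2
    rw [Submodule.mem_bot]
    exact Subtype.ext h2
  have hZ' := (finrank_center_corner_le he h1).trans hZ
  have := core t' ht' hnd' (JC he N) hJl hJr h1J hdec' hm' hZ' (mkC he a) (mkC he b)
  exact congrArg Subtype.val this

end CornerCore

section Bound

variable [FiniteDimensional F A] {g : ℕ} {e : A} (he : e * e = e) {α β : Fin g → A}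
  (h1 : ∑ i, α i * e * β i = 1)

include he h1 in
/-- If the corner is commutative, then `A` is generated by `g²` elements over its centre. -/
theorem finrank_le_of_comm (hcomm : ∀ a b : A, (e * a * e) * (e * b * e) = (e * b * e) * (e * a * e)) :
    finrank F A ≤ g ^ 2 * finrank F (Subalgebra.center F A) := by
  classical
  let L : (Fin g × Fin g → Subalgebra.center F A) →ₗ[F] A :=
    ∑ p : Fin g × Fin g, (LinearMap.mulRight F (α p.1 * e * β p.2)) ∘ₗ
      (Subalgebra.center F A).val.toLinearMap ∘ₗ (LinearMap.proj p)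
  have hLa : ∀ z, L z = ∑ p : Fin g × Fin g, ((z p : Subalgebra.center F A) : A) * (α p.1 * e * β p.2) := by
    intro z
    simp [L, LinearMap.sum_apply, mul_assoc]
  have hs : Function.Surjective L := by
    intro a
    have hlam : ∀ j m : Fin g, ∃ z : Subalgebra.center F A, (z : A) * e = e * (β j * a * α m) * e := by
      intro j m
      set y := e * (β j * a * α m) * e with hy
      have hey : e * y = y := by rw [hy, ← mul_assoc, ← mul_assoc, he]
      have hye : y * e = y := by rw [hy, mul_assoc, he]
      have h2 := central_of_corner he h1 y hey hye (fun c => hcomm c _)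
      exact ⟨⟨_, Subalgebra.mem_center_iff.2 fun b => (h2.1 b).symm⟩, h2.2⟩
    choose z hz using hlam
    refine ⟨fun p => z p.1 p.2, ?_⟩
    rw [hLa, Fintype.sum_prod_type]
    simp only
    calc ∑ j, ∑ m, (z j m : A) * (α j * e * β m)
        = ∑ j, ∑ m, α j * ((z j m : A) * e) * β m := by
          refine Finset.sum_congr rfl fun j _ => Finset.sum_congr rfl fun m _ => ?_
          have hc := Subalgebra.mem_center_iff.1 (z j m).2 (α j)
          rw [← mul_assoc, ← mul_assoc, ← hc]
          simp only [mul_assoc]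
      _ = ∑ j, ∑ m, α j * (e * (β j * a * α m) * e) * β m := by
          simp only [hz]
      _ = ∑ j, ∑ m, (α j * e * β j) * a * (α m * e * β m) := by
          refine Finset.sum_congr rfl fun j _ => Finset.sum_congr rfl fun m _ => ?_
          simp only [mul_assoc]
      _ = (∑ j, α j * e * β j) * a * (∑ m, α m * e * β m) := by
          rw [Finset.sum_mul, Finset.sum_mul_sum]
      _ = a := by rw [h1, one_mul, mul_one]
  have h2 := LinearMap.finrank_le_finrank_of_surjective hs
  rw [Module.finrank_pi_fintype] at h2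
  simp only [Finset.sum_const, Finset.card_univ, Fintype.card_prod, Fintype.card_fin, smul_eq_mul] at h2
  calc finrank F A ≤ g * g * finrank F (Subalgebra.center F A) := h2
    _ = _ := by ring

end Bound

/-- **Main bound**: for a symmetric algebra with one simple factor and centre of dimension at most
four. -/
theorem mat_bound [IsAlgClosed F] [FiniteDimensional F A] [Nontrivial A] (t : A →ₗ[F] F)
    (ht : ∀ a b, t (a * b) = t (b * a)) (hnd : ∀ a, (∀ b, t (a * b) = 0) → a = 0) (a₀ : A)
    (hT : ∀ τ : A →ₗ[F] F, IsTr τ → τ a₀ = 0 → τ = 0)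
    (hZ : finrank F (Subalgebra.center F A) ≤ 4) :
    ∃ g : ℕ, 0 < g ∧ (∀ W : Submodule F A, (∀ a x, x ∈ W → a * x ∈ W) → (∀ a x, x ∈ W → x * a ∈ W) →
        (1 : A) ∉ W → finrank F W + g ^ 2 ≤ finrank F A) ∧
      finrank F A ≤ g ^ 2 * finrank F (Subalgebra.center F A) := by
  classical
  have : IsArtinianRing A := IsArtinianRing.of_finite F A
  obtain ⟨g, hg, π, hπ, hk⟩ := exists_mat a₀ hT
  obtain ⟨m, hm⟩ : IsNilpotent (Ring.jacobson A) := IsSemiprimaryRing.isNilpotent
  let N : Submodule F A := LinearMap.ker π.toLinearMap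
  have memN : ∀ x, x ∈ N ↔ π x = 0 := fun x => by simp [N]
  have hNl : ∀ a x, x ∈ N → a * x ∈ N := fun a x hx => by
    rw [memN] at hx ⊢; rw [map_mul, hx, mul_zero]
  have hNr : ∀ a x, x ∈ N → x * a ∈ N := fun a x hx => by
    rw [memN] at hx ⊢; rw [map_mul, hx, zero_mul]
  have hNJ : ∀ n : ℕ, ∀ x ∈ N ^ n, x ∈ (Ring.jacobson A) ^ n := by
    intro n
    induction n with
    | zero =>
      intro x _
      rw [Submodule.pow_zero, Ideal.one_eq_top]
      exact Submodule.mem_top
    | succ n ih =>
      intro x hx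
      rw [pow_succ'] at hx
      refine Submodule.mul_induction_on (C := fun r => r ∈ (Ring.jacobson A) ^ (n + 1)) hx
        (fun u hu v hv => ?_) (fun a b ha hb => add_mem ha hb)
      rw [Ideal.IsTwoSided.pow_succ]
      exact Ideal.mul_mem_mul ((hk u).1 ((memN u).1 hu)) (ih v hv)
  have hm' : N ^ m = ⊥ := by
    rw [eq_bot_iff]
    intro x hx
    have := hNJ m x hx
    rw [hm] at this
    simpa using this
  have hnilp : ∀ x, π x = 0 → IsNilpotent x := by
    intro x hx
    refine ⟨m, ?_⟩
    have h1 : x ^ m ∈ N ^ m := Submodule.pow_mem_pow _ ((memN x).2 hx) _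
    rw [hm'] at h1
    simpa using h1
  obtain ⟨e, α, β, he, heN, hdec, h1⟩ := exists_corner_data π hπ hnilp
  have hcomm := corner_comm t ht hnd (he : IsIdempotentElem e) h1 N hNl hNr
    (fun h => heN ((memN e).1 h)) (fun a => by
      obtain ⟨c, hc⟩ := hdec a
      exact ⟨c, (memN _).2 hc⟩) hm' hZ
  refine ⟨g, Nat.pos_of_ne_zero (NeZero.ne g), ?_, finrank_le_of_comm he h1 hcomm⟩
  intro W hWl hWr h1W
  have hle : W ≤ N := fun x hx => (memN x).2 (le_ker π hπ hnilp W hWl hWr h1W x hx)
  have h2 := Submodule.finrank_mono hle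
  have h3 := LinearMap.finrank_range_add_finrank_ker π.toLinearMap
  have h4 : LinearMap.range π.toLinearMap = ⊤ := LinearMap.range_eq_top.2 hπ
  rw [h4, finrank_top, Module.finrank_matrix] at h3
  simp only [Fintype.card_fin, Module.finrank_self, mul_one] at h3
  have h5 : g ^ 2 = g * g := by ring
  rw [h5]
  have h6 : finrank F N = finrank F (LinearMap.ker π.toLinearMap) := rfl
  omega

end Cfsg.Agent.Lib.MatCorner
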