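import Mathlib
import Cfsg.Agent.Lib.MatCorner
import Cfsg.Agent.Lib.BlockBrandt
import Cfsg.Agent.Lib.BlockUniform
import Cfsg.Agent.Lib.BlkOrth

/-!
# Blocks of rank one with at most four characters: all members agree on regular elements

The reduced block algebra has one simple factor, since the trace functionals are determined by one value.
A corner at a primitive idempotent is a symmetric local algebra whose centre has dimension at most four,
hence it is commutative.  Counting dimensions then shows that all members of the block have the same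
degree.
-/

set_option autoImplicit false
set_option linter.unusedSectionVars false
set_option linter.unusedVariables false
set_option linter.unusedSimpArgs false

namespace Cfsg.Agent.Lib.BlockRankOne

open Cfsg Module MonoidAlgebra IsLocalRing
open Cfsg.Agent.Lib.CharBasic Cfsg.Agent.Lib.CharInd Cfsg.Agent.Lib.CharIntegrality
open Cfsg.Agent.Lib.BlockLocal Cfsg.Agent.Lib.BlockIdem Cfsg.Agent.Lib.BlockResidue
open Cfsg.Agent.Lib.BlkBasic Cfsg.Agent.Lib.BrauerPair Cfsg.Agent.Lib.CharKernel
open Cfsg.Agent.Lib.BlockBrandt Cfsg.Agent.Lib.MatCorner Cfsg.Agent.Lib.BlockQ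
open Cfsg.Agent.Lib.BlockOrtho Cfsg.Agent.Lib.BlkOrth Cfsg.Agent.Lib.LocalSymAlg

universe u

variable {G : Type u} [Group G] [Fintype G]

section Abs

variable {k : Type*} [Field k]

local notation "K" => MonoidAlgebra k G

/-- The dimension bounds for the block algebra. -/
theorem block_bound_abs [IsAlgClosed k] (f : K) (hf : f * f = f) (hc : ∀ x, f * x = x * f) (hf0 : f ≠ 0)
    (n : ℕ) (hn : n ≤ 4)
    (hZ : ∀ c : Fin (n + 1) → K, (∀ i x, c i * x = x * c i) → (∀ i, c i * f = c i) →
      ¬ LinearIndependent k c)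
    (a₀ : K)
    (hT : ∀ μ : K →ₗ[k] k, (∀ x y, μ (x * y) = μ (y * x)) → (∀ x, IsNilpotent x → μ x = 0) →
      (∀ x, μ (x * f) = μ x) → μ a₀ = 0 → μ = 0) :
    ∃ g : ℕ, 0 < g ∧
      (∀ W : Submodule k K, (∀ a x, x ∈ W → a * x ∈ W) → (∀ a x, x ∈ W → x * a ∈ W) →
        (∀ x, x * f = 0 → x ∈ W) → f ∉ W → finrank k W + g ^ 2 ≤ finrank k K) ∧
      finrank k K ≤ finrank k (LinearMap.ker (LinearMap.mulRight k f)) + g ^ 2 * n := by
  classical
  let I : Ideal K :=
    { carrier := {x | x * f = 0}
      add_mem' := fun {a b} ha hb => by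
        simp only [Set.mem_ofPred_eq] at ha hb ⊢
        rw [add_mul, ha, hb, add_zero]
      zero_mem' := by simp
      smul_mem' := fun c x hx => by
        simp only [Set.mem_ofPred_eq, smul_eq_mul] at hx ⊢
        rw [mul_assoc, hx, mul_zero] }
  have memI : ∀ x, x ∈ I ↔ x * f = 0 := fun x => Iff.rfl
  have : I.IsTwoSided := ⟨fun {a} b ha => by
    rw [memI] at ha ⊢
    rw [mul_assoc, ← hc b, ← mul_assoc, ha, zero_mul]⟩
  let p : K →ₐ[k] (K ⧸ I) := Ideal.Quotient.mkₐ k I
  have hps : Function.Surjective p := Ideal.Quotient.mkₐ_surjective k I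
  have hp0 : ∀ x, p x = 0 ↔ x * f = 0 := fun x => by
    rw [← memI, ← Ideal.Quotient.eq_zero_iff_mem]
    rfl
  have hpf : p f = 1 := by
    rw [← map_one p, ← sub_eq_zero, ← map_sub, hp0, sub_mul, hf, one_mul, sub_self]
  have : FiniteDimensional k (K ⧸ I) := Module.Finite.of_surjective p.toLinearMap hps
  have hne : (1 : K ⧸ I) ≠ 0 := by
    intro h
    rw [← hpf, hp0, hf] at h
    exact hf0 h
  have : Nontrivial (K ⧸ I) := ⟨⟨1, 0, hne⟩⟩
  -- the trace form
  let t' : K →ₗ[k] k :=
    { toFun := fun x => (x * f).coeff 1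
      map_add' := fun x y => by rw [add_mul]; simp
      map_smul' := fun r x => by rw [smul_mul_assoc]; simp }
  have ht'0 : ∀ x, p x = 0 → t' x = 0 := by
    intro x hx
    rw [hp0] at hx
    change (x * f).coeff 1 = 0
    rw [hx]; simp
  obtain ⟨s, hs⟩ := LinearMap.exists_rightInverse_of_surjective p.toLinearMap
    (LinearMap.range_eq_top.2 hps)
  have hs' : ∀ y, p (s y) = y := fun y => LinearMap.congr_fun hs y
  let t : (K ⧸ I) →ₗ[k] k := t' ∘ₗ s
  have ht_p : ∀ x, t (p x) = t' x := by
    intro x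
    have h1 : p (s (p x) - x) = 0 := by rw [map_sub, hs', sub_self]
    have := ht'0 _ h1
    rw [map_sub, sub_eq_zero] at this
    exact this
  have ht : ∀ a b, t (a * b) = t (b * a) := by
    intro a b
    obtain ⟨a, rfl⟩ := hps a
    obtain ⟨b, rfl⟩ := hps b
    rw [← map_mul, ← map_mul, ht_p, ht_p]
    change ((a * b) * f).coeff 1 = ((b * a) * f).coeff 1
    rw [mul_assoc, coeff_one_mul_comm a (b * f), mul_assoc b f a, hc a, mul_assoc]
  have hnd : ∀ a, (∀ b, t (a * b) = 0) → a = 0 := by
    intro a h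
    obtain ⟨a, rfl⟩ := hps a
    rw [hp0]
    refine ext_coeff fun g => ?_
    have h1 := h (p (single g⁻¹ (1 : k)))
    rw [← map_mul, ht_p] at h1
    change ((a * single g⁻¹ (1 : k)) * f).coeff 1 = 0 at h1
    rw [mul_assoc, ← hc, ← mul_assoc, coeff_mul_single'] at h1
    simpa using h1
  -- the centre
  have hZ' : finrank k (Subalgebra.center k (K ⧸ I)) ≤ n := by
    by_contra hcon
    push Not at hcon
    have hle : n + 1 ≤ finrank k (Subalgebra.center k (K ⧸ I)) := hcon
    let b := Module.finBasis k (Subalgebra.center k (K ⧸ I))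
    let z : Fin (n + 1) → (K ⧸ I) :=
      fun i => ((b (Fin.castLE hle i) : Subalgebra.center k (K ⧸ I)) : K ⧸ I)
    have hzc : ∀ i c, z i * c = c * z i := fun i c =>
      (Subalgebra.mem_center_iff.1 (b (Fin.castLE hle i)).2 c).symm
    have hzi : LinearIndependent k z := by
      have h1 := b.linearIndependent.comp (Fin.castLE hle) (Fin.castLE_injective hle)
      exact h1.map' (Subalgebra.toSubmodule (Subalgebra.center k (K ⧸ I))).subtype
        (Submodule.ker_subtype _)
    choose x hx using fun i => hps (z i)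
    have hcen : ∀ i a, (x i * f) * a = a * (x i * f) := by
      intro i a
      have h1 : p (x i * a - a * x i) = 0 := by
        rw [map_sub, map_mul, map_mul, hx, sub_eq_zero]
        exact hzc i _
      rw [hp0, sub_mul, sub_eq_zero] at h1
      rw [mul_assoc, hc, ← mul_assoc, h1, mul_assoc]
    refine hZ (fun i => x i * f) hcen (fun i => by rw [mul_assoc, hf]) ?_
    have h2 : z = p.toLinearMap ∘ (fun i => x i * f) := by
      funext i
      simp [hpf, hx]
    rw [h2] at hzi
    exact LinearIndependent.of_comp _ hzi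
  -- the functionals
  have hT' : ∀ τ : (K ⧸ I) →ₗ[k] k, IsTr τ → τ (p a₀) = 0 → τ = 0 := by
    intro τ hτ h0
    have h1 := hT (τ ∘ₗ p.toLinearMap) (fun x y => by
        change τ (p (x * y)) = τ (p (y * x))
        rw [map_mul p, map_mul p, hτ.1]) (fun x hx => by
        change τ (p x) = 0
        exact hτ.2 _ (hx.map p)) (fun x => by
        change τ (p (x * f)) = τ (p x)
        rw [map_mul p, hpf, mul_one]) h0
    refine LinearMap.ext fun y => ?_
    obtain ⟨y, rfl⟩ := hps y
    exact congrArg (fun φ : K →ₗ[k] k => φ y) h1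
  obtain ⟨g, hg, h1, h2⟩ := mat_bound t ht hnd (p a₀) hT' (hZ'.trans hn)
  have hkerp : LinearMap.ker p.toLinearMap = LinearMap.ker (LinearMap.mulRight k f) := by
    ext x
    simp only [LinearMap.mem_ker, LinearMap.mulRight_apply]
    exact hp0 x
  have hA : finrank k (K ⧸ I) + finrank k (LinearMap.ker (LinearMap.mulRight k f)) = finrank k K := by
    have h1 := LinearMap.finrank_range_add_finrank_ker p.toLinearMap
    rw [LinearMap.range_eq_top.2 hps, finrank_top, hkerp] at h1
    exact h1
  refine ⟨g, hg, ?_, ?_⟩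
  · intro W hWl hWr hW hfW
    let W' : Submodule k (K ⧸ I) := W.map p.toLinearMap
    have h3 := h1 W'
      (by
        rintro a _ ⟨x, hx, rfl⟩
        obtain ⟨a, rfl⟩ := hps a
        exact ⟨a * x, hWl _ _ hx, by simp⟩)
      (by
        rintro a _ ⟨x, hx, rfl⟩
        obtain ⟨a, rfl⟩ := hps a
        exact ⟨x * a, hWr _ _ hx, by simp⟩)
      (by
        rintro ⟨w, hw, hw1⟩
        have h1 : p (w - 1) = 0 := by
          rw [map_sub, map_one, sub_eq_zero]
          exact hw1
        rw [hp0, sub_mul, one_mul, sub_eq_zero] at h1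
        exact hfW (h1 ▸ hWr _ _ hw))
    have hW' : finrank k W' + finrank k (LinearMap.ker (LinearMap.mulRight k f)) = finrank k W := by
      have h1 := LinearMap.finrank_range_add_finrank_ker (p.toLinearMap.domRestrict W)
      have h2 : LinearMap.range (p.toLinearMap.domRestrict W) = W' := by
        rw [LinearMap.range_domRestrict]
      have hle : LinearMap.ker (LinearMap.mulRight k f) ≤ W := by
        intro x hx
        exact hW x (by simpa using hx)
      have h3 : LinearMap.ker (p.toLinearMap.domRestrict W) =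
          (LinearMap.ker (LinearMap.mulRight k f)).comap W.subtype := by
        rw [LinearMap.ker_domRestrict, hkerp]
      rw [h2, h3] at h1
      rw [← h1]
      congr 1
      exact (LinearEquiv.finrank_eq (Submodule.comapSubtypeEquivOfLe hle)).symm
    omega
  · have h3 : finrank k (K ⧸ I) ≤ g ^ 2 * n := h2.trans (Nat.mul_le_mul_left _ hZ')
    omega

end Abs

/-- The action of a central element on a character. -/
theorem sum_Phi_mul_char (c : IrrCharacter G → ℂ) (χ : IrrCharacter G) (g : G) :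
    ∑ h : G, (Phi c).coeff h * (χ : G → ℂ) (g * h) = c χ * (χ : G → ℂ) g := by
  classical
  have h1 : invF (blkInd {χ}) = ec (χ : G → ℂ) := by
    funext z
    unfold invF
    rw [Finset.sum_eq_single χ]
    · rw [blkInd_of_mem (Set.mem_singleton χ), one_mul]
    · intro ψ _ hψ
      have : ψ ∉ ({χ} : Set (IrrCharacter G)) := hψ
      rw [blkInd_of_not_mem this, zero_mul]
    · simp
  have h2 : c * blkInd {χ} = c χ • blkInd {χ} := by
    funext ψ
    by_cases h : ψ = χ
    · subst h
      simp [blkInd_of_mem (Set.mem_singleton ψ)]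
    · have : ψ ∉ ({χ} : Set (IrrCharacter G)) := h
      simp [blkInd_of_not_mem this]
  have h3 : conv (invF c) (ec (χ : G → ℂ)) = c χ • ec (χ : G → ℂ) := by
    rw [← h1, ← invF_mul, h2, invF_smul]
  have h4 := congrFun h3 g⁻¹
  have hne1 : (χ : G → ℂ) 1 ≠ 0 := irr_one_ne_zero' χ.2
  have hneG : (Nat.card G : ℂ) ≠ 0 := natCard_ne_zero'
  unfold conv at h4
  simp only [ec, Pi.smul_apply, smul_eq_mul, inv_inv, mul_inv_rev] at h4
  have h5 : ∀ h : G, (Phi c).coeff h * (χ : G → ℂ) (g * h) =
      ((Nat.card G : ℂ) / (χ : G → ℂ) 1) * (invF c h * ((χ : G → ℂ) 1 * (χ : G → ℂ) (g * h) /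
        (Nat.card G : ℂ))) := by
    intro h
    rw [coeff_Phi]
    field_simp
  rw [Finset.sum_congr rfl fun h _ => h5 h, ← Finset.mul_sum, h4]
  field_simp

section Reduction

variable {p : ℕ} {M : Ideal AlgInt} [hMp : M.IsPrime] {V : ValuationSubring ℂ}

local notation "Om" => MonoidAlgebra V G
local notation "Kk" => MonoidAlgebra (Kf V) G

/-- Reduced class functions vanish on elements all of whose character values vanish. -/
theorem trace_kill {B : Set (IrrCharacter G)} {e : Om} (he : iotaV V e = Phi (blkInd B))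
    (m : G → Kf V) (hm : ∀ g x : G, m (x * g * x⁻¹) = m g) (x : Om)
    (hx : ∀ χ ∈ B, ∑ g : G, ((x.coeff g : V) : ℂ) * (χ : G → ℂ) g = 0) :
    ∑ g : G, residue V ((x * e).coeff g) * m g = 0 := by
  classical
  have hs := residue_surjective (R := V)
  let s : Kf V → V := Function.surjInv hs
  have hs' : ∀ y, residue V (s y) = y := Function.surjInv_eq hs
  let ψ : G → ℂ := fun g => ((s (m g) : V) : ℂ)
  have hψ : IsClassFunction G ψ := fun g h => by
    simp only [ψ]
    rw [hm]
  have h1 : ∀ χ : IrrCharacter G, ∑ u : G, ((iotaV V (x * e)).coeff u) * (χ : G → ℂ) u = 0 := by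
    intro χ
    rw [map_mul, he]
    simp only [coeff_mul_eq, Finset.sum_mul]
    rw [Finset.sum_comm]
    have h2 : ∀ g : G, ∑ u : G, (iotaV V x).coeff g * (Phi (blkInd B)).coeff (g⁻¹ * u) * (χ : G → ℂ) u =
        (iotaV V x).coeff g * (blkInd B χ * (χ : G → ℂ) g) := by
      intro g
      rw [← sum_Phi_mul_char, Finset.mul_sum, ← Equiv.sum_comp (Equiv.mulLeft g)]
      refine Finset.sum_congr rfl fun h _ => ?_
      simp [mul_assoc]
    simp only [h2]
    by_cases hχ : χ ∈ B
    · rw [blkInd_of_mem hχ]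
      simpa using hx χ hχ
    · rw [blkInd_of_not_mem hχ]
      simp
  have h3 : ∑ u : G, (iotaV V (x * e)).coeff u * ψ u = 0 := by
    have h4 := classFunction_eq_sum hψ
    have h5 : ∀ u : G, (iotaV V (x * e)).coeff u * ψ u =
        ∑ χ : IrrCharacter G, classInner ψ (χ : G → ℂ) *
          ((iotaV V (x * e)).coeff u * (χ : G → ℂ) u) := by
      intro u
      conv_lhs => rw [h4]
      simp only [Finset.sum_apply, Pi.smul_apply, smul_eq_mul, Finset.mul_sum]
      refine Finset.sum_congr rfl fun χ _ => ?_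
      ring
    simp only [h5]
    rw [Finset.sum_comm]
    refine Finset.sum_eq_zero fun χ _ => ?_
    rw [← Finset.mul_sum, h1, mul_zero]
  have h5 : ∑ u : G, (x * e).coeff u * s (m u) = 0 := by
    apply Subtype.ext
    have h6 : ((∑ u : G, (x * e).coeff u * s (m u) : V) : ℂ) =
        ∑ u : G, (iotaV V (x * e)).coeff u * ψ u := by
      push_cast
      refine Finset.sum_congr rfl fun u _ => ?_
      rw [coeff_iotaV]
    rw [h6, h3]
    rfl
  have h6 := congrArg (residue V) h5
  rw [map_sum, map_zero] at h6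
  rw [← h6]
  refine Finset.sum_congr rfl fun u _ => ?_
  rw [map_mul, hs']

theorem mu_eq_sum (μ : Kk →ₗ[Kf V] Kf V) (y : Kk) :
    μ y = ∑ g : G, y.coeff g * μ (single g (1 : Kf V)) := by
  classical
  conv_lhs => rw [eq_sum_single y]
  rw [map_sum]
  refine Finset.sum_congr rfl fun g _ => ?_
  rw [single_eq_smul, map_smul, smul_eq_mul]

/-- Trace functionals on the block vanish on elements with vanishing character values. -/
theorem mu_kill {B : Set (IrrCharacter G)} {e : Om} (he : iotaV V e = Phi (blkInd B))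
    (μ : Kk →ₗ[Kf V] Kf V) (h1 : ∀ x y, μ (x * y) = μ (y * x)) (h3 : ∀ x, μ (x * rhoV V e) = μ x)
    (x : Om) (hx : ∀ χ ∈ B, ∑ g : G, ((x.coeff g : V) : ℂ) * (χ : G → ℂ) g = 0) :
    μ (rhoV V x) = 0 := by
  classical
  rw [← h3, ← map_mul, mu_eq_sum]
  have h4 := trace_kill he (fun g => μ (single g (1 : Kf V))) (fun g y => by
    have h5 : (single (y * g * y⁻¹) (1 : Kf V) : Kk) =
        single y 1 * (single g 1 * single y⁻¹ 1) := by
      rw [single_mul_single, single_mul_single, mul_assoc]
      simp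
    have h6 : (single y⁻¹ (1 : Kf V) : Kk) * single y 1 = 1 := by
      rw [single_mul_single]
      simp [MonoidAlgebra.one_def]
    rw [h5, h1, mul_assoc, h6, mul_one]) x hx
  rw [← h4]
  refine Finset.sum_congr rfl fun g _ => ?_
  rw [coeff_rhoV]

/-- Sections: trace functionals only see the regular part. -/
theorem mu_section [hpF : Fact p.Prime] (hpV : ((p : ℕ) : Kf V) = 0)
    (μ : Kk →ₗ[Kf V] Kf V) (h2 : ∀ x, IsNilpotent x → μ x = 0) {g x y : G} (hxy : x * y = g)
    (hc : Commute x y) (hx : ∃ k : ℕ, orderOf x = p ^ k) :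
    μ (single g (1 : Kf V)) = μ (single y (1 : Kf V)) := by
  classical
  obtain ⟨n, hn⟩ := hx
  have hchar : CharP Kk p := by
    rw [CharP.charP_iff_prime_eq_zero hpF.out]
    have : ((p : ℕ) : Kk) = algebraMap (Kf V) Kk ((p : ℕ) : Kf V) := by
      rw [map_natCast]
    rw [this, hpV, map_zero]
  have hcomm : Commute (single g (1 : Kf V) : Kk) (single y (1 : Kf V)) := by
    have hgy : g * y = y * g := by
      rw [← hxy]
      exact (hc.mul_left (Commute.refl y)).eq
    show _ * _ = _ * _
    rw [single_mul_single, single_mul_single, hgy]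
  have hnil : IsNilpotent ((single g (1 : Kf V) : Kk) - single y (1 : Kf V)) := by
    refine ⟨p ^ n, ?_⟩
    rw [sub_pow_char_pow_of_commute p n hcomm, MonoidAlgebra.single_pow, MonoidAlgebra.single_pow,
      one_pow, ← hxy, hc.mul_pow]
    have : x ^ (p ^ n) = 1 := by
      rw [← hn]
      exact pow_orderOf_eq_one x
    rw [this, one_mul, sub_self]
  have := h2 _ hnil
  rw [map_sub, sub_eq_zero] at this
  exact this

theorem sum_coeff_aux (r j : G) (c : V) (φ : G → ℂ) :
    ∑ g : G, ((((single r (1 : V) - c • single j (1 : V) : Om)).coeff g : V) : ℂ) * φ g =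
      φ r - (c : ℂ) * φ j := by
  classical
  have h : ∀ g : G, (((single r (1 : V) - c • single j (1 : V) : Om).coeff g : V) : ℂ) =
      (if r = g then 1 else 0) - (c : ℂ) * (if j = g then 1 else 0) := by
    intro g
    by_cases h1 : r = g <;> by_cases h2 : j = g <;> simp [coeff_single, Finsupp.single_apply, h1, h2]
  simp only [h, sub_mul, Finset.sum_sub_distrib, mul_assoc, ← Finset.mul_sum, ite_mul, one_mul, zero_mul,
    Finset.sum_ite_eq, Finset.mem_univ, if_true]

/-- In a block of rank one, regular parts are proportional. -/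
theorem exists_mul_of_rank_one {B : Set (IrrCharacter G)} {χ₀ : IrrCharacter G} (hχ₀ : χ₀ ∈ B)
    (hl : blockRank p B = 1) (hξ : pRegularPart p (χ₀ : G → ℂ) ≠ 0) (χ : IrrCharacter G) (hχ : χ ∈ B) :
    ∃ c : ℂ, pRegularPart p (χ : G → ℂ) = c • pRegularPart p (χ₀ : G → ℂ) := by
  unfold blockRank at hl
  let v : Submodule.span ℂ ((fun χ : IrrCharacter G => pRegularPart p (χ : G → ℂ)) '' B) :=
    ⟨_, Submodule.subset_span ⟨χ₀, hχ₀, rfl⟩⟩
  have hv : v ≠ 0 := fun h => hξ (congrArg Subtype.val h)
  rw [finrank_eq_one_iff_of_nonzero' v hv] at hl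
  obtain ⟨c, hc⟩ := hl ⟨_, Submodule.subset_span ⟨χ, hχ, rfl⟩⟩
  exact ⟨c, (congrArg Subtype.val hc).symm⟩

/-- In a block of rank one, trace functionals are determined by one value. -/
theorem exists_a0 [hpF : Fact p.Prime] (hpV : ((p : ℕ) : Kf V) = 0) {B : Set (IrrCharacter G)}
    {χ₀ : IrrCharacter G} (hχ₀ : χ₀ ∈ B) (hl : blockRank p B = 1) {e : Om}
    (he : iotaV V e = Phi (blkInd B)) :
    ∃ a₀ : Kk, ∀ μ : Kk →ₗ[Kf V] Kf V, (∀ x y, μ (x * y) = μ (y * x)) →
      (∀ x, IsNilpotent x → μ x = 0) → (∀ x, μ (x * rhoV V e) = μ x) → μ a₀ = 0 → μ = 0 := by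
  classical
  have hp := hpF.out
  have hreg1 : ¬ p ∣ orderOf (1 : G) := by simp [hp.one_lt.ne']
  set ξ := pRegularPart p (χ₀ : G → ℂ) with hξdef
  have hξ1 : ξ 1 ≠ 0 := by
    rw [hξdef, pRegularPart_of_reg _ hreg1]
    exact irr_one_ne_zero' χ₀.2
  have hξne : ξ ≠ 0 := fun h => hξ1 (by rw [h]; rfl)
  have hmul := exists_mul_of_rank_one hχ₀ hl hξne
  obtain ⟨d, c', j₀, hd, hc', hj₀⟩ := exists_scale V ξ ⟨1, hξ1⟩
  have hξj : d * ξ j₀ = 1 := by
    rw [← hc', hj₀]
    rfl
  have hj₀reg : ¬ p ∣ orderOf j₀ := by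
    intro h
    rw [hξdef, pRegularPart_of_sing _ h, mul_zero] at hξj
    exact zero_ne_one hξj
  refine ⟨single j₀ 1, fun μ h1 h2 h3 h0 => ?_⟩
  have hreg : ∀ r : G, ¬ p ∣ orderOf r → μ (single r 1) = 0 := by
    intro r hr
    let x : Om := single r 1 - c' r • single j₀ 1
    have hx : ∀ χ ∈ B, ∑ g : G, ((x.coeff g : V) : ℂ) * (χ : G → ℂ) g = 0 := by
      intro χ hχ
      rw [sum_coeff_aux]
      obtain ⟨c, hc⟩ := hmul χ hχ
      have e1 : (χ : G → ℂ) r = c * ξ r := by
        have := congrFun hc r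
        rwa [pRegularPart_of_reg _ hr] at this
      have e2 : (χ : G → ℂ) j₀ = c * ξ j₀ := by
        have := congrFun hc j₀
        rwa [pRegularPart_of_reg _ hj₀reg] at this
      rw [e1, e2, hc' r]
      linear_combination (-(c * ξ r)) * hξj
    have h4 := mu_kill he μ h1 h3 x hx
    have h5 : rhoV V x = single r 1 - residue V (c' r) • single j₀ 1 := by
      simp only [x]
      rw [map_sub, rhoV_smul]
      congr 1
      · refine ext_coeff fun g => ?_
        rw [coeff_rhoV]
        by_cases hg : r = g <;> simp [coeff_single, Finsupp.single_apply, hg]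
      · congr 1
        refine ext_coeff fun g => ?_
        rw [coeff_rhoV]
        by_cases hg : j₀ = g <;> simp [coeff_single, Finsupp.single_apply, hg]
    rw [h5, map_sub, map_smul, h0, smul_zero, sub_zero] at h4
    exact h4
  refine LinearMap.ext fun y => ?_
  rw [mu_eq_sum, LinearMap.zero_apply]
  refine Finset.sum_eq_zero fun g _ => ?_
  obtain ⟨x, w, hxw, hc, hxp, hw⟩ := exists_isPPart hp g
  rw [mu_section hpV μ h2 hxw hc hxp, hreg w hw, mul_zero]

/-- Central elements of the reduced block algebra: at most `k(B)` independent ones. -/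
theorem not_indep' {B : Set (IrrCharacter G)} {e : Om} (he : iotaV V e = Phi (blkInd B))
    (c : Fin ((bF B).card + 1) → Kk) (hc : ∀ i x, c i * x = x * c i)
    (hcf : ∀ i, c i * rhoV V e = c i) : ¬ LinearIndependent (Kf V) c := by
  classical
  intro hind
  choose a ha ha' using fun i => exists_central_lift (c i) (hc i)
  have h1 : LinearIndependent ℂ (fun i => iotaV V (a i * e)) := by
    refine linearIndependent_of_reduction _ ?_
    have : (fun i => rhoV V (a i * e)) = c := by
      funext i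
      rw [map_mul, ha', hcf]
    rw [this]
    exact hind
  let v : bF B → MonoidAlgebra ℂ G := fun χ => Phi (blkInd {(χ : IrrCharacter G)})
  let PhiL : (IrrCharacter G → ℂ) →ₗ[ℂ] MonoidAlgebra ℂ G :=
    { toFun := Phi, map_add' := Phi_add, map_smul' := Phi_smul }
  have hmem : ∀ i, iotaV V (a i * e) ∈ Submodule.span ℂ (Set.range v) := by
    intro i
    have hcen : ∀ x, iotaV V (a i) * x = x * iotaV V (a i) := by
      intro x
      have := central_of_class (c := iotaV V (a i)) (fun g y => ?_) x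
      · exact this
      · rw [coeff_iotaV, coeff_iotaV, class_of_central (ha i)]
    set om : IrrCharacter G → ℂ :=
      fun χ => omega (χ : G → ℂ) (fun g => (iotaV V (a i)).coeff g) with hom
    have h2 : iotaV V (a i * e) = Phi (om * blkInd B) := by
      rw [map_mul, he, Phi_mul, ← central_eq_Phi hcen]
    have h3 : om * blkInd B = ∑ χ : bF B, om χ • blkInd {(χ : IrrCharacter G)} := by
      funext ψ
      rw [Finset.sum_apply]
      by_cases hψ : ψ ∈ B
      · rw [Finset.sum_eq_single (⟨ψ, mem_bF.2 hψ⟩ : bF B)]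
        · simp [blkInd_of_mem hψ, blkInd_of_mem (Set.mem_singleton ψ)]
        · intro χ _ hχ
          have : ψ ∉ ({(χ : IrrCharacter G)} : Set (IrrCharacter G)) := by
            intro h
            apply hχ
            apply Subtype.ext
            exact (Set.mem_singleton_iff.1 h).symm
          simp [blkInd_of_not_mem this]
        · simp
      · have h4 : ∀ χ : bF B, ψ ∉ ({(χ : IrrCharacter G)} : Set (IrrCharacter G)) := by
          intro χ h
          apply hψ
          rw [Set.mem_singleton_iff.1 h]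
          exact mem_bF.1 χ.2
        simp [blkInd_of_not_mem hψ, blkInd_of_not_mem (h4 _)]
    rw [h2, h3]
    change PhiL _ ∈ _
    rw [map_sum]
    refine Submodule.sum_mem _ fun χ _ => ?_
    rw [map_smul]
    exact Submodule.smul_mem _ _ (Submodule.subset_span ⟨χ, rfl⟩)
  let T : Fin ((bF B).card + 1) → Submodule.span ℂ (Set.range v) := fun i => ⟨_, hmem i⟩
  have hT : LinearIndependent ℂ T :=
    LinearIndependent.of_comp (Submodule.span ℂ (Set.range v)).subtype h1
  have h3 := hT.fintype_card_le_finrank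
  have h4 : Set.finrank ℂ (Set.range v) ≤ Fintype.card (bF B) := finrank_range_le_card v
  have h5 : finrank ℂ (Submodule.span ℂ (Set.range v)) ≤ (bF B).card := by
    rw [Fintype.card_coe] at h4
    exact h4
  simp at h3
  omega

/-- **Blocks of rank one with at most four characters: all members agree on regular elements.** -/
theorem agree_of_rank_one [hpF : Fact p.Prime] (hV1 : ∀ z, MemLocalRing M z → z ∈ V)
    (hV2 : ∀ z, MemLocalIdeal M z → z ∈ V.nonunits) (hpV : ((p : ℕ) : Kf V) = 0)
    {B : Set (IrrCharacter G)} (hB : IsPBlock M B) (hl : blockRank p B = 1) (hk : (bF B).card ≤ 4)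
    {χ₀ : IrrCharacter G} (hχ₀ : χ₀ ∈ B) (ξ : IrrCharacter G) (hξ : ξ ∈ B) (s : G)
    (hs : ¬ p ∣ orderOf s) : (ξ : G → ℂ) s = (χ₀ : G → ℂ) s := by
  classical
  have : IsAlgClosed (Kf V) := isAlgClosed_residue V
  have hp := hpF.out
  obtain ⟨e, he, hec⟩ := exists_liftZ (V := V) hV1 (blkInd_mem_Zc hB)
  set f : Kk := rhoV V e with hf
  have hee : e * e = e := by
    apply iotaV_injective
    rw [map_mul, he, ← Phi_mul, blkInd_mul_self]
  have hff : f * f = f := by rw [hf, ← map_mul, hee]
  have hfc : ∀ x, f * x = x * f := rho_central hec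
  have hcardK : finrank (Kf V) Kk = Nat.card G := by
    rw [Module.finrank_eq_card_basis (MonoidAlgebra.basis G (Kf V)), Nat.card_eq_fintype_card]
  have hf0 : f ≠ 0 := fun h => not_mem_Ki he hχ₀ (by
    rw [← hf, h]
    exact Submodule.zero_mem _)
  obtain ⟨a₀, ha₀⟩ := exists_a0 hpV hχ₀ hl he
  obtain ⟨g, hg, h1, h2⟩ := block_bound_abs f hff hfc hf0 (bF B).card hk
    (fun c hc hcf => not_indep' he c hc hcf) a₀ ha₀
  have hdeg : ∀ χ : IrrCharacter G,
      finrank ℂ (LinearMap.range (LinearMap.mulRight ℂ (Phi (blkInd {χ})))) =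
        charDegree (χ : G → ℂ) ^ 2 := by
    intro χ
    have h1 := finrank_Phi ({χ} : Set (IrrCharacter G))
    rw [Finset.sum_eq_single χ] at h1
    · rw [blkInd_of_mem (Set.mem_singleton χ), one_mul,
        one_eq_charDegree (IsIrrCharacter.isCharacter χ.2)] at h1
      exact_mod_cast h1
    · intro ψ _ hψ
      have : ψ ∉ ({χ} : Set (IrrCharacter G)) := hψ
      rw [blkInd_of_not_mem this, zero_mul]
    · simp
  have hlow : ∀ χ ∈ B, g ^ 2 ≤ charDegree (χ : G → ℂ) ^ 2 := by
    intro χ hχ
    have h3 := h1 (Ki (V := V) (Phi (blkInd {χ}))) Ki_mul_left Ki_mul_right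
      (by
        intro x hx
        obtain ⟨x', rfl⟩ := rhoV_surjective x
        refine ⟨x' * (1 - e), ?_, ?_⟩
        · rw [map_mul, mul_assoc, map_sub, map_one, he, sub_mul, one_mul, ← Phi_mul,
            blkInd_singleton_mul hχ, sub_self, mul_zero]
        · rw [map_mul, map_sub, map_one, mul_sub, mul_one, ← hf, hx, sub_zero])
      (not_mem_Ki he hχ)
    have h4 := finrank_add_Ki_le (V := V) (Phi (blkInd {χ}))
    rw [hdeg] at h4
    omega
  -- the sum of the squares
  have hsum : finrank ℂ (LinearMap.range (LinearMap.mulRight ℂ (Phi (blkInd Bᶜ)))) +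
      ∑ χ ∈ bF B, charDegree (χ : G → ℂ) ^ 2 = Nat.card G := by
    have h3 := finrank_Phi (Bᶜ : Set (IrrCharacter G))
    have h4 : ∑ χ : IrrCharacter G, ((χ : G → ℂ) 1) ^ 2 = (Nat.card G : ℂ) := by
      rw [← sum_irr_degree_sq (G := G)]
      refine Finset.sum_congr rfl fun χ _ => ?_
      rw [one_eq_charDegree (IsIrrCharacter.isCharacter χ.2)]
      simp [sq]
    have h5 : ∑ χ : IrrCharacter G, ((χ : G → ℂ) 1) ^ 2 =
        ∑ χ : IrrCharacter G, blkInd Bᶜ χ * ((χ : G → ℂ) 1) ^ 2 +
          ∑ χ : IrrCharacter G, blkInd B χ * ((χ : G → ℂ) 1) ^ 2 := by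
      rw [← Finset.sum_add_distrib]
      refine Finset.sum_congr rfl fun χ _ => ?_
      by_cases hχ : χ ∈ B
      · have : χ ∉ Bᶜ := fun h => h hχ
        rw [blkInd_of_mem hχ, blkInd_of_not_mem this]
        ring
      · have : χ ∈ Bᶜ := hχ
        rw [blkInd_of_not_mem hχ, blkInd_of_mem this]
        ring
    have h6 : ∑ χ : IrrCharacter G, blkInd B χ * ((χ : G → ℂ) 1) ^ 2 =
        ∑ χ ∈ bF B, ((χ : G → ℂ) 1) ^ 2 := by
      rw [← finsum_mem_eq_sum_blkInd, finsum_mem_eq_sum_bF]
    rw [h4, h6, ← h3] at h5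
    have h7 : ∑ χ ∈ bF B, ((χ : G → ℂ) 1) ^ 2 = ((∑ χ ∈ bF B, charDegree (χ : G → ℂ) ^ 2 : ℕ) : ℂ) := by
      push_cast
      refine Finset.sum_congr rfl fun χ _ => ?_
      rw [one_eq_charDegree (IsIrrCharacter.isCharacter χ.2)]
    rw [h7] at h5
    exact_mod_cast h5.symm
  -- the complementary ideal
  have hker : finrank (Kf V) (LinearMap.ker (LinearMap.mulRight (Kf V) f)) ≤
      finrank ℂ (LinearMap.range (LinearMap.mulRight ℂ (Phi (blkInd Bᶜ)))) := by
    have h3 := finrank_add_Ki_le (V := V) (Phi (blkInd Bᶜ))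
    have hcomp : Phi (blkInd Bᶜ) = 1 - Phi (blkInd B) := by
      rw [← Phi_one, ← Phi_sub]
      congr 1
      funext ψ
      by_cases hψ : ψ ∈ B
      · have : ψ ∉ Bᶜ := fun h => h hψ
        simp [blkInd_of_not_mem this, blkInd_of_mem hψ]
      · have : ψ ∈ Bᶜ := hψ
        simp [blkInd_of_mem this, blkInd_of_not_mem hψ]
    have h4 : Ki (V := V) (Phi (blkInd Bᶜ)) ≤ LinearMap.ker (LinearMap.mulRight (Kf V) (1 - f)) := by
      rintro _ ⟨a, ha, rfl⟩
      rw [LinearMap.mem_ker, LinearMap.mulRight_apply]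
      have h5 : a * (1 - e) = 0 := by
        apply iotaV_injective
        rw [map_mul, map_sub, map_one, he, ← hcomp, ha, map_zero]
      have h6 := congrArg (rhoV V) h5
      rwa [map_mul, map_sub, map_one, map_zero] at h6
    have h7 := Submodule.finrank_mono h4
    have h8 : LinearMap.ker (LinearMap.mulRight (Kf V) f) =
        LinearMap.range (LinearMap.mulRight (Kf V) (1 - f)) := by
      ext x
      simp only [LinearMap.mem_ker, LinearMap.mulRight_apply, LinearMap.mem_range]
      constructor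
      · intro hx
        exact ⟨x, by rw [mul_sub, mul_one, hx, sub_zero]⟩
      · rintro ⟨y, rfl⟩
        rw [mul_assoc, sub_mul, one_mul, hff, sub_self, mul_zero]
    have h9 := LinearMap.finrank_range_add_finrank_ker (LinearMap.mulRight (Kf V) (1 - f))
    rw [← h8] at h9
    rw [hcardK] at h3 h9
    omega
  rw [hcardK] at h2
  have hsumle : ∑ χ ∈ bF B, charDegree (χ : G → ℂ) ^ 2 ≤ g ^ 2 * (bF B).card := by omega
  have heq : ∀ χ ∈ B, charDegree (χ : G → ℂ) ^ 2 = g ^ 2 := by
    intro χ hχ
    by_contra hne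
    have hlt : g ^ 2 < charDegree (χ : G → ℂ) ^ 2 := lt_of_le_of_ne (hlow χ hχ) (Ne.symm hne)
    have h3 : ∑ _χ ∈ bF B, g ^ 2 < ∑ χ ∈ bF B, charDegree (χ : G → ℂ) ^ 2 :=
      Finset.sum_lt_sum (fun χ hχ => hlow χ (mem_bF.1 hχ)) ⟨χ, mem_bF.2 hχ, hlt⟩
    rw [Finset.sum_const, smul_eq_mul, mul_comm] at h3
    omega
  have hdegeq : charDegree (ξ : G → ℂ) = charDegree (χ₀ : G → ℂ) := by
    have h3 := (heq ξ hξ).trans (heq χ₀ hχ₀).symm
    exact Nat.pow_left_injective (n := 2) (by norm_num) h3
  have hreg1 : ¬ p ∣ orderOf (1 : G) := by simp [hp.one_lt.ne']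
  have hξ1 : pRegularPart p (χ₀ : G → ℂ) ≠ 0 := by
    intro h
    have := congrFun h 1
    rw [pRegularPart_of_reg _ hreg1] at this
    exact irr_one_ne_zero' χ₀.2 this
  obtain ⟨c, hc⟩ := exists_mul_of_rank_one hχ₀ hl hξ1 ξ hξ
  have hc1 : c = 1 := by
    have h3 := congrFun hc 1
    simp only [Pi.smul_apply, smul_eq_mul] at h3
    rw [pRegularPart_of_reg _ hreg1, pRegularPart_of_reg _ hreg1,
      one_eq_charDegree (IsIrrCharacter.isCharacter ξ.2),
      one_eq_charDegree (IsIrrCharacter.isCharacter χ₀.2), hdegeq] at h3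
    have h4 : ((charDegree (χ₀ : G → ℂ) : ℕ) : ℂ) ≠ 0 := by
      rw [← one_eq_charDegree (IsIrrCharacter.isCharacter χ₀.2)]
      exact irr_one_ne_zero' χ₀.2
    field_simp at h3
    exact h3.symm
  have h3 := congrFun hc s
  simp only [Pi.smul_apply, smul_eq_mul] at h3
  rw [pRegularPart_of_reg _ hs, pRegularPart_of_reg _ hs, hc1, one_mul] at h3
  exact h3

end Reduction

end Cfsg.Agent.Lib.BlockRankOne
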