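import Mathlib
import Cfsg.Agent.Lib.MatCorner

/-!
# Modules induced from a local corner

Let `A` be an algebra with an idempotent `e` such that `A e A = A`.  A module `V` over the corner
`e A e` gives an `A`-module `W = Hom_{eAe}(eA, V)`, with `dim V ≤ dim W`, and `End_A(W)` embeds in
`End_{eAe}(V)`.  If the radical of a local corner needs two generators, this yields `A`-modules with
local endomorphism rings of arbitrarily large dimension.
-/

set_option autoImplicit false
set_option linter.unusedSectionVars false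
set_option linter.unusedVariables false
set_option linter.style.haveILetI false

namespace Cfsg.Agent.Lib.CornerMod

open Module Polynomial Cfsg.Agent.Lib.MatCorner Cfsg.Agent.Lib.LocalCore4

universe u v

section Induce

variable {F : Type v} {A : Type u} [Field F] [Ring A] [Algebra F A] {e : A}
  (he : IsIdempotentElem e)

attribute [local instance] cornerAlg

theorem mkC_add (a b : A) : mkC he (a + b) = mkC he a + mkC he b := by
  apply Subtype.ext
  change e * (a + b) * e = e * a * e + e * b * e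
  rw [mul_add, add_mul]

theorem mkC_smul (c : F) (a : A) : mkC he (c • a) = c • mkC he a := by
  apply Subtype.ext
  rw [val_smul]
  change e * (c • a) * e = c • (e * a * e)
  rw [mul_smul_comm, smul_mul_assoc]

theorem mkC_e : mkC he e = 1 := by
  apply Subtype.ext
  change e * e * e = e
  rw [he.eq, he.eq]

theorem one_val : ((1 : he.Corner)).1 = e := rfl

theorem mul_val (x y : he.Corner) : (x * y).1 = x.1 * y.1 := rfl

theorem val_left (x : he.Corner) : e * x.1 = x.1 := ((Subsemigroup.mem_corner_iff he).mp x.2).1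

theorem val_right (x : he.Corner) : x.1 * e = x.1 := ((Subsemigroup.mem_corner_iff he).mp x.2).2

theorem mkC_mul_left (l : he.Corner) (x : A) : mkC he (l.1 * x) = l * mkC he x := by
  apply Subtype.ext
  rw [mul_val]
  change e * (l.1 * x) * e = l.1 * (e * x * e)
  calc e * (l.1 * x) * e = (e * l.1) * x * e := by simp only [mul_assoc]
    _ = l.1 * x * e := by rw [val_left]
    _ = (l.1 * e) * x * e := by rw [val_right]
    _ = l.1 * (e * x * e) := by simp only [mul_assoc]

theorem mkC_mul_right (l : he.Corner) (x : A) : mkC he (x * l.1) = mkC he x * l := by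
  apply Subtype.ext
  rw [mul_val]
  change e * (x * l.1) * e = (e * x * e) * l.1
  calc e * (x * l.1) * e = e * x * (l.1 * e) := by simp only [mul_assoc]
    _ = e * x * l.1 := by rw [val_right]
    _ = e * x * (e * l.1) := by rw [val_left]
    _ = (e * x * e) * l.1 := by simp only [mul_assoc]

variable {V : Type v} [AddCommGroup V] [Module F V] (ν : he.Corner →ₐ[F] Module.End F V)

/-- The induced module. -/
def WW : Submodule F (A →ₗ[F] V) where
  carrier := {φ | ∀ (l : he.Corner) (x : A), φ (l.1 * x) = ν l (φ x)}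
  add_mem' := fun {a b} ha hb l x => by
    simp only [LinearMap.add_apply, map_add, ha l x, hb l x]
  zero_mem' := fun l x => by simp
  smul_mem' := fun c a ha l x => by
    simp only [LinearMap.smul_apply, map_smul, ha l x]

variable {ν} in
theorem mem_WW {φ : A →ₗ[F] V} : φ ∈ WW he ν ↔ ∀ (l : he.Corner) (x : A), φ (l.1 * x) = ν l (φ x) :=
  Iff.rfl

/-- The action on the induced module. -/
noncomputable def rhoW : A →ₐ[F] Module.End F (WW he ν) where
  toFun := fun a =>
    { toFun := fun φ => ⟨(φ : A →ₗ[F] V) ∘ₗ LinearMap.mulRight F a, fun l x => by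
        simp only [LinearMap.comp_apply, LinearMap.mulRight_apply]
        rw [mul_assoc]
        exact φ.2 l _⟩
      map_add' := fun a b => rfl
      map_smul' := fun c b => rfl }
  map_one' := by
    ext φ x
    simp
  map_mul' := fun a b => by
    ext φ x
    simp [Module.End.mul_apply, mul_assoc]
  map_zero' := by
    ext φ x
    simp
  map_add' := fun a b => by
    ext φ x
    simp [mul_add]
  commutes' := fun c => by
    ext φ x
    simp [Algebra.algebraMap_eq_smul_one, Module.algebraMap_end_apply]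

theorem rhoW_apply (a : A) (φ : WW he ν) (x : A) : ((rhoW he ν a φ : WW he ν) : A →ₗ[F] V) x = (φ : A →ₗ[F] V) (x * a) := rfl

/-- The inclusion of `V`. -/
noncomputable def iotaW : V →ₗ[F] WW he ν where
  toFun := fun v => ⟨{ toFun := fun x => ν (mkC he x) v
                       map_add' := fun a b => by rw [mkC_add, map_add]; rfl
                       map_smul' := fun c a => by rw [mkC_smul, map_smul]; rfl }, fun l x => by
      change ν (mkC he (l.1 * x)) v = ν l (ν (mkC he x) v)
      rw [mkC_mul_left, map_mul]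
      rfl⟩
  map_add' := fun a b => by
    ext x
    change ν (mkC he x) (a + b) = ν (mkC he x) a + ν (mkC he x) b
    rw [map_add]
  map_smul' := fun c a => by
    ext x
    change ν (mkC he x) (c • a) = c • ν (mkC he x) a
    rw [map_smul]

theorem iotaW_apply (v : V) (x : A) : ((iotaW he ν v : WW he ν) : A →ₗ[F] V) x = ν (mkC he x) v := rfl

/-- The projection to `V`. -/
noncomputable def piW : WW he ν →ₗ[F] V where
  toFun := fun φ => (φ : A →ₗ[F] V) e
  map_add' := fun a b => rfl
  map_smul' := fun c a => rfl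

theorem piW_apply (φ : WW he ν) : piW he ν φ = (φ : A →ₗ[F] V) e := rfl

theorem phi_left (φ : WW he ν) (x : A) : (φ : A →ₗ[F] V) (e * x) = (φ : A →ₗ[F] V) x := by
  have := φ.2 1 x
  rw [one_val, map_one] at this
  exact this

theorem pi_iota (v : V) : piW he ν (iotaW he ν v) = v := by
  rw [piW_apply, iotaW_apply, mkC_e, map_one]
  rfl

theorem iota_pi (φ : WW he ν) : iotaW he ν (piW he ν φ) = rhoW he ν e φ := by
  ext x
  rw [iotaW_apply, rhoW_apply, piW_apply]
  have h1 := φ.2 (mkC he x) e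
  rw [← h1]
  change (φ : A →ₗ[F] V) (e * x * e * e) = _
  rw [mul_assoc (e * x), he.eq, mul_assoc e x e, phi_left]

theorem rho_iota (l : he.Corner) (v : V) :
    rhoW he ν l.1 (iotaW he ν v) = iotaW he ν (ν l v) := by
  ext x
  rw [rhoW_apply, iotaW_apply, iotaW_apply, mkC_mul_right, map_mul]
  rfl

theorem pi_rho (l : he.Corner) (φ : WW he ν) :
    piW he ν (rhoW he ν l.1 φ) = ν l (piW he ν φ) := by
  rw [piW_apply, rhoW_apply, piW_apply, ← φ.2 l e, val_left, val_right]

theorem pi_rho_e (φ : WW he ν) : piW he ν (rhoW he ν e φ) = piW he ν φ := by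
  rw [piW_apply, rhoW_apply, piW_apply, he.eq]

theorem rho_e_iota (v : V) : rhoW he ν e (iotaW he ν v) = iotaW he ν v := by
  rw [← iota_pi, pi_iota]

theorem iotaW_injective : Function.Injective (iotaW he ν) := by
  intro x y h
  rw [← pi_iota he ν x, ← pi_iota he ν y, h]

/-- The reduction of an endomorphism. -/
noncomputable def red (ψ : Module.End F (WW he ν)) : Module.End F V := piW he ν ∘ₗ ψ ∘ₗ iotaW he ν

theorem red_apply (ψ : Module.End F (WW he ν)) (v : V) :
    red he ν ψ v = piW he ν (ψ (iotaW he ν v)) := rfl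

theorem red_commute {ψ : Module.End F (WW he ν)} (hψ : ∀ a, ψ * rhoW he ν a = rhoW he ν a * ψ)
    (l : he.Corner) : red he ν ψ * ν l = ν l * red he ν ψ := by
  ext v
  simp only [Module.End.mul_apply, red_apply]
  rw [← rho_iota, ← pi_rho]
  have := congrArg (fun T => T (iotaW he ν v)) (hψ l.1)
  simp only [Module.End.mul_apply] at this
  rw [this]

theorem red_mul {ψ₁ ψ₂ : Module.End F (WW he ν)} (h1 : ∀ a, ψ₁ * rhoW he ν a = rhoW he ν a * ψ₁) :
    red he ν (ψ₁ * ψ₂) = red he ν ψ₁ * red he ν ψ₂ := by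
  ext v
  simp only [Module.End.mul_apply, red_apply]
  rw [iota_pi]
  have := congrArg (fun T => T (ψ₂ (iotaW he ν v))) (h1 e)
  simp only [Module.End.mul_apply] at this
  rw [this, pi_rho_e]

theorem red_sub_scalar (ψ : Module.End F (WW he ν)) (c : F) :
    red he ν (ψ - algebraMap F _ c) = red he ν ψ - algebraMap F _ c := by
  ext v
  simp only [LinearMap.sub_apply, red_apply, Module.algebraMap_end_apply, map_sub, map_smul, pi_iota]

theorem red_one : red he ν 1 = 1 := by
  ext v
  simp only [red_apply, Module.End.one_apply, pi_iota]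

theorem red_pow {ψ : Module.End F (WW he ν)} (h1 : ∀ a, ψ * rhoW he ν a = rhoW he ν a * ψ) (n : ℕ) :
    red he ν (ψ ^ n) = red he ν ψ ^ n := by
  induction n with
  | zero => simp [red_one]
  | succ n ih => rw [pow_succ', red_mul he ν h1, ih, pow_succ']

theorem eq_zero_of_red {ι : Type*} [Fintype ι] {α β : ι → A} (h1 : ∑ i, α i * e * β i = 1)
    {ψ : Module.End F (WW he ν)} (hψ : ∀ a, ψ * rhoW he ν a = rhoW he ν a * ψ)
    (h0 : red he ν ψ = 0) : ψ = 0 := by
  have hkill : ∀ v, ψ (iotaW he ν v) = 0 := by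
    intro v
    have h2 : rhoW he ν e (ψ (iotaW he ν v)) = ψ (iotaW he ν v) := by
      have := congrArg (fun T => T (iotaW he ν v)) (hψ e)
      simp only [Module.End.mul_apply] at this
      rw [← this, rho_e_iota]
    rw [← h2, ← iota_pi]
    have h3 : piW he ν (ψ (iotaW he ν v)) = 0 := by
      have := congrArg (fun T => T v) h0
      simpa [red_apply] using this
    rw [h3, map_zero]
  ext φ
  have h2 : φ = ∑ i, rhoW he ν (α i) (rhoW he ν e (rhoW he ν (β i) φ)) := by
    have h3 : rhoW he ν (∑ i, α i * e * β i) φ = φ := by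
      rw [h1, map_one]
      rfl
    rw [map_sum, LinearMap.sum_apply] at h3
    conv_lhs => rw [← h3]
    refine Finset.sum_congr rfl fun i _ => ?_
    rw [map_mul, map_mul]
    rfl
  have h3 : ψ φ = 0 := by
    rw [h2, map_sum]
    refine Finset.sum_eq_zero fun i _ => ?_
    have h4 := congrArg (fun T => T (rhoW he ν e (rhoW he ν (β i) φ))) (hψ (α i))
    simp only [Module.End.mul_apply] at h4
    rw [h4, ← iota_pi, hkill, map_zero]
  rw [h3]
  rfl

/-- Endomorphism rings stay local. -/
theorem induced_local {ι : Type*} [Fintype ι] {α β : ι → A} (h1 : ∑ i, α i * e * β i = 1)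
    (hV : ∀ ψ : Module.End F V, (∀ l, ψ * ν l = ν l * ψ) → ∃ c : F, IsNilpotent (ψ - algebraMap F _ c))
    (ψ : Module.End F (WW he ν)) (hψ : ∀ a, ψ * rhoW he ν a = rhoW he ν a * ψ) :
    ∃ c : F, IsNilpotent (ψ - algebraMap F _ c) := by
  obtain ⟨c, r, hr⟩ := hV _ (red_commute he ν hψ)
  refine ⟨c, r, ?_⟩
  have hχ : ∀ a, (ψ - algebraMap F _ c) * rhoW he ν a = rhoW he ν a * (ψ - algebraMap F _ c) := by
    intro a
    refine LinearMap.ext fun φ => ?_
    have h2 := congrArg (fun T => T φ) (hψ a)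
    simp only [Module.End.mul_apply] at h2
    simp only [Module.End.mul_apply, LinearMap.sub_apply, Module.algebraMap_end_apply, map_sub,
      map_smul, h2]
  have hχr : ∀ a, (ψ - algebraMap F _ c) ^ r * rhoW he ν a = rhoW he ν a * (ψ - algebraMap F _ c) ^ r :=
    fun a => ((show Commute _ _ from hχ a).pow_left r).eq
  apply eq_zero_of_red he ν h1 hχr
  rw [red_pow he ν hχ, red_sub_scalar, hr]

end Induce

section Kron

variable {F : Type v} [Field F]

/-- The truncated polynomial ring. -/
abbrev TT (F : Type v) [Field F] (n : ℕ) := F[X] ⧸ Ideal.span {(X ^ n : F[X])}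

/-- The class of the variable. -/
noncomputable def tt (F : Type v) [Field F] (n : ℕ) : TT F n := Ideal.Quotient.mk _ X

theorem tt_pow (n : ℕ) : tt F n ^ n = 0 := by
  unfold tt
  rw [← map_pow, Ideal.Quotient.eq_zero_iff_mem]
  exact Ideal.subset_span rfl

theorem exists_poly {n : ℕ} (u : TT F n) : ∃ p : F[X], u = aeval (tt F n) p := by
  obtain ⟨p, rfl⟩ := Ideal.Quotient.mk_surjective u
  refine ⟨p, ?_⟩
  induction p using Polynomial.induction_on' with
  | add p q hp hq => rw [map_add, map_add, hp, hq]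
  | monomial m a =>
    rw [aeval_monomial, ← C_mul_X_pow_eq_monomial, map_mul, map_pow]
    rfl

theorem finrank_TT (n : ℕ) : finrank F (TT F n) = n := by
  rw [finrank_quotient_span_eq_natDegree, natDegree_X_pow]

theorem finite_TT (n : ℕ) (hn : 0 < n) : FiniteDimensional F (TT F n) := by
  apply Module.finite_of_finrank_pos
  rw [finrank_TT]
  exact hn

/-- The module attached to a derivation. -/
noncomputable def kron {Λ T : Type*} [Ring Λ] [Algebra F Λ] [CommRing T] [Algebra F T] (c₀ : Λ →ₐ[F] F)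
    (D : Λ →ₗ[F] T) (hD : ∀ x y, D (x * y) = c₀ x • D y + c₀ y • D x) :
    Λ →ₐ[F] Module.End F (T × T) where
  toFun := fun l =>
    { toFun := fun v => (c₀ l • v.1, c₀ l • v.2 + D l * v.1)
      map_add' := fun a b => by
        refine Prod.ext ?_ ?_
        · simp only [Prod.fst_add, smul_add]
        · simp only [Prod.snd_add, Prod.fst_add, smul_add, mul_add]
          abel
      map_smul' := fun c a => by
        refine Prod.ext ?_ ?_
        · simp only [Prod.smul_fst, RingHom.id_apply]
          rw [smul_comm]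
        · simp only [Prod.smul_snd, Prod.smul_fst, RingHom.id_apply, smul_add, mul_smul_comm]
          rw [smul_comm] }
  map_one' := by
    have h1 : D 1 = 0 := by
      have h := hD 1 1
      rw [mul_one, map_one c₀, one_smul] at h
      have h' : D 1 + 0 = D 1 + D 1 := by rw [add_zero]; exact h
      exact (add_left_cancel h').symm
    refine LinearMap.ext fun v => Prod.ext ?_ ?_
    · change c₀ 1 • v.1 = v.1
      rw [map_one, one_smul]
    · change c₀ 1 • v.2 + D 1 * v.1 = v.2
      rw [map_one, one_smul, h1, zero_mul, add_zero]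
  map_mul' := fun x y => by
    refine LinearMap.ext fun v => Prod.ext ?_ ?_
    · change c₀ (x * y) • v.1 = c₀ x • (c₀ y • v.1)
      rw [map_mul, mul_smul]
    · change c₀ (x * y) • v.2 + D (x * y) * v.1 =
        c₀ x • (c₀ y • v.2 + D y * v.1) + D x * (c₀ y • v.1)
      rw [map_mul, hD, mul_smul, smul_add, add_mul, smul_mul_assoc, smul_mul_assoc, mul_smul_comm]
      abel
  map_zero' := by
    refine LinearMap.ext fun v => Prod.ext ?_ ?_
    · change c₀ 0 • v.1 = 0
      rw [map_zero, zero_smul]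
    · change c₀ 0 • v.2 + D 0 * v.1 = 0
      rw [map_zero, map_zero, zero_smul, zero_mul, add_zero]
  map_add' := fun x y => by
    refine LinearMap.ext fun v => Prod.ext ?_ ?_
    · change c₀ (x + y) • v.1 = c₀ x • v.1 + c₀ y • v.1
      rw [map_add, add_smul]
    · change c₀ (x + y) • v.2 + D (x + y) * v.1 = (c₀ x • v.2 + D x * v.1) + (c₀ y • v.2 + D y * v.1)
      rw [map_add, map_add, add_smul, add_mul]
      abel
  commutes' := fun c => by
    have h1 : D 1 = 0 := by
      have h := hD 1 1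
      rw [mul_one, map_one c₀, one_smul] at h
      have h' : D 1 + 0 = D 1 + D 1 := by rw [add_zero]; exact h
      exact (add_left_cancel h').symm
    refine LinearMap.ext fun v => Prod.ext ?_ ?_
    · change c₀ (algebraMap F Λ c) • v.1 = c • v.1
      rw [AlgHom.commutes]
      rfl
    · change c₀ (algebraMap F Λ c) • v.2 + D (algebraMap F Λ c) * v.1 = c • v.2
      have h2 : c₀ (algebraMap F Λ c) = c := by
        rw [AlgHom.commutes]
        rfl
      have h3 : D (algebraMap F Λ c) = 0 := by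
        rw [Algebra.algebraMap_eq_smul_one, map_smul, h1, smul_zero]
      rw [h2, h3, zero_mul, add_zero]

theorem kron_apply {Λ T : Type*} [Ring Λ] [Algebra F Λ] [CommRing T] [Algebra F T] (c₀ : Λ →ₐ[F] F)
    (D : Λ →ₗ[F] T) (hD : ∀ x y, D (x * y) = c₀ x • D y + c₀ y • D x) (l : Λ) (v : T × T) :
    kron c₀ D hD l v = (c₀ l • v.1, c₀ l • v.2 + D l * v.1) := rfl

/-- The commutant of the two square-zero maps. -/
theorem kron_local (n : ℕ) (Ψ : Module.End F (TT F n × TT F n))
    (h1 : ∀ v, Ψ (0, v.1) = (0, (Ψ v).1))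
    (h2 : ∀ v, Ψ (0, tt F n * v.1) = (0, tt F n * (Ψ v).1)) :
    ∃ c : F, IsNilpotent (Ψ - algebraMap F _ c) := by
  set t := tt F n with ht
  let A : TT F n →ₗ[F] TT F n :=
    LinearMap.fst F _ _ ∘ₗ Ψ ∘ₗ LinearMap.inl F _ _
  have hA : ∀ a, A a = (Ψ (a, 0)).1 := fun a => rfl
  have hA1 : ∀ a, Ψ (0, a) = (0, A a) := fun a => h1 (a, 0)
  have hA2 : ∀ v, (Ψ v).1 = A v.1 := by
    intro v
    have h3 := h1 v
    rw [hA1] at h3
    exact (congrArg Prod.snd h3).symm
  have hAt : ∀ a, A (t * a) = t * A a := by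
    intro a
    have h3 := h2 (a, 0)
    rw [hA1] at h3
    exact congrArg Prod.snd h3
  have hApow : ∀ m : ℕ, A (t ^ m) = t ^ m * A 1 := by
    intro m
    induction m with
    | zero => simp
    | succ m ih => rw [pow_succ', hAt, ih, mul_assoc]
  have hAp : ∀ p : F[X], A (aeval t p) = aeval t p * A 1 := by
    intro p
    induction p using Polynomial.induction_on' with
    | add p q hp hq => rw [map_add, map_add, hp, hq, add_mul]
    | monomial m a =>
      rw [aeval_monomial, ← Algebra.smul_def, map_smul, hApow, smul_mul_assoc]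
  set q := A 1 with hq
  have hAq : ∀ a, A a = a * q := by
    intro a
    obtain ⟨p, rfl⟩ := exists_poly a
    exact hAp p
  obtain ⟨p₀, hp₀⟩ := exists_poly q
  set c := p₀.coeff 0 with hc
  set w := q - algebraMap F (TT F n) c with hw
  have hwn : w ^ n = 0 := by
    have h3 : w = aeval t (divX p₀) * t := by
      rw [hw, hp₀]
      conv_lhs => rw [← divX_mul_X_add p₀]
      simp [hc]
      rfl
    rw [h3, mul_pow, tt_pow, mul_zero]
  let Ψ₀ := Ψ - algebraMap F (Module.End F (TT F n × TT F n)) c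
  have hΨ₀ : ∀ v, Ψ₀ v = Ψ v - c • v := fun v => rfl
  have hf : ∀ v, (Ψ₀ v).1 = w * v.1 := by
    intro v
    rw [hΨ₀, Prod.fst_sub, hA2, hAq, Prod.smul_fst, hw, sub_mul, mul_comm]
    congr 1
    exact Algebra.smul_def (A := TT F n) c v.1
  have hs : ∀ b, Ψ₀ (0, b) = (0, w * b) := by
    intro b
    rw [hΨ₀, hA1, hAq]
    refine Prod.ext ?_ ?_
    · simp
    · simp only [Prod.snd_sub, Prod.smul_snd]
      rw [hw, sub_mul, mul_comm b q]
      congr 1
      exact Algebra.smul_def (A := TT F n) c b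
  have hfk : ∀ (k : ℕ) v, ((Ψ₀ ^ k) v).1 = w ^ k * v.1 := by
    intro k
    induction k with
    | zero => simp
    | succ k ih =>
      intro v
      rw [pow_succ', Module.End.mul_apply, hf, ih, pow_succ', mul_assoc]
  have hsk : ∀ (k : ℕ) b, (Ψ₀ ^ k) (0, b) = (0, w ^ k * b) := by
    intro k
    induction k with
    | zero => simp
    | succ k ih =>
      intro b
      rw [pow_succ', Module.End.mul_apply, ih, hs, pow_succ', mul_assoc]
  refine ⟨c, n + n, ?_⟩
  refine LinearMap.ext fun v => ?_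
  rw [pow_add, Module.End.mul_apply]
  have h3 : ((Ψ₀ ^ n) v).1 = 0 := by rw [hfk, hwn, zero_mul]
  have h4 : (Ψ₀ ^ n) v = (0, ((Ψ₀ ^ n) v).2) := Prod.ext h3 rfl
  change (Ψ₀ ^ n) ((Ψ₀ ^ n) v) = 0
  rw [h4, hsk, hwn, zero_mul]
  rfl

end Kron

section Main

attribute [local instance] cornerAlg

variable {F : Type v} {A : Type u} [Field F] [Ring A] [Algebra F A] [FiniteDimensional F A]

/-- **Bounded modules force commutative corners.** -/
theorem corner_comm_of_bounded (C : ℕ)
    (hC : ∀ (W : Type (max u v)) [AddCommGroup W] [Module F W] [FiniteDimensional F W]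
      (ρ : A →ₐ[F] Module.End F W),
      (∀ ψ : Module.End F W, (∀ a, ψ * ρ a = ρ a * ψ) →
        ∃ c : F, IsNilpotent (ψ - algebraMap F _ c)) →
      finrank F W ≤ C)
    {e : A} (he : IsIdempotentElem e) {ι : Type*} [Fintype ι] {α β : ι → A}
    (h1 : ∑ i, α i * e * β i = 1)
    (N : Submodule F A) (hNl : ∀ a x, x ∈ N → a * x ∈ N) (hNr : ∀ a x, x ∈ N → x * a ∈ N)
    (heN : e ∉ N) (hdec : ∀ a, ∃ c : F, e * a * e - c • e ∈ N) {m : ℕ} (hm : N ^ m = ⊥) (a b : A) :
    (e * a * e) * (e * b * e) = (e * b * e) * (e * a * e) := by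
  classical
  have hJl : ∀ (x y : he.Corner), y ∈ JC he N → x * y ∈ JC he N := fun x y hy => hNl x.1 y.1 hy
  have hJr : ∀ (x y : he.Corner), y ∈ JC he N → y * x ∈ JC he N := fun x y hy => hNr x.1 y.1 hy
  have h1J : (1 : he.Corner) ∉ JC he N := heN
  have hdec' : ∀ x : he.Corner, ∃ c : F, x - c • 1 ∈ JC he N := by
    intro x
    obtain ⟨c, hc⟩ := hdec x.1
    refine ⟨c, ?_⟩
    have hx := ((Subsemigroup.mem_corner_iff he).mp x.2)
    rw [mem_JC]
    have h2 : (x - c • (1 : he.Corner)).1 = e * x.1 * e - c • e := by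
      rw [hx.1, hx.2]
      change x.1 - (c • (1 : he.Corner)).1 = _
      rw [val_smul]
      rfl
    rw [h2]
    exact hc
  have hm' : JC he N ^ (m + 1) = ⊥ := by
    rw [eq_bot_iff]
    intro y hy
    have h2 := JC_pow he N hNl hNr m y hy
    rw [pow_succ, hm, Submodule.bot_mul, Submodule.mem_bot] at h2
    rw [Submodule.mem_bot]
    exact Subtype.ext h2
  set J := JC he N with hJ
  by_cases hgen : ∃ x ∈ J, J ≤ Submodule.span F {x} ⊔ J ^ 2
  · obtain ⟨x, hx, hJx⟩ := hgen
    have h2 := comm_of_gen1 hJl hx hJx hm'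
    have h3 := comm_of_J hdec' h2 (mkC he a) (mkC he b)
    exact congrArg Subtype.val h3
  exfalso
  push Not at hgen
  obtain ⟨j₁, hj₁, hj₁'⟩ := SetLike.not_le_iff_exists.1 (hgen 0 J.zero_mem)
  have hj₁2 : j₁ ∉ J ^ 2 := fun h => hj₁' (Submodule.mem_sup_right h)
  obtain ⟨j₂, hj₂, hj₂'⟩ := SetLike.not_le_iff_exists.1 (hgen j₁ hj₁)
  have hj₁3 : j₁ ∉ Submodule.span F {j₂} ⊔ J ^ 2 := by
    intro h
    obtain ⟨y, hy, w, hw, hyw⟩ := Submodule.mem_sup.1 h
    obtain ⟨c, rfl⟩ := Submodule.mem_span_singleton.1 hy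
    by_cases hc : c = 0
    · subst hc
      rw [zero_smul, zero_add] at hyw
      exact hj₁2 (hyw ▸ hw)
    · apply hj₂'
      have h2 : j₂ = c⁻¹ • j₁ - c⁻¹ • w := by
        rw [← hyw, smul_add, smul_smul, inv_mul_cancel₀ hc, one_smul]
        abel
      rw [h2]
      exact Submodule.sub_mem _
        (Submodule.mem_sup_left (Submodule.smul_mem _ _ (Submodule.mem_span_singleton_self _)))
        (Submodule.mem_sup_right (Submodule.smul_mem _ _ hw))
  -- the functionals
  obtain ⟨f₂, hf₂, hf₂'⟩ := Submodule.exists_le_ker_of_notMem hj₂'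
  obtain ⟨f₁, hf₁, hf₁'⟩ := Submodule.exists_le_ker_of_notMem hj₁3
  obtain ⟨f₀, hf₀, hf₀'⟩ := Submodule.exists_le_ker_of_notMem h1J
  let η : he.Corner →ₗ[F] F := (f₂ j₂)⁻¹ • f₂
  let ξ : he.Corner →ₗ[F] F := (f₁ j₁)⁻¹ • f₁
  let φ : he.Corner →ₗ[F] F := (f₀ 1)⁻¹ • f₀
  have hη2 : η j₂ = 1 := by simp [η, hf₂]
  have hξ1 : ξ j₁ = 1 := by simp [ξ, hf₁]
  have hφ1 : φ 1 = 1 := by simp [φ, hf₀]
  have hη1 : η j₁ = 0 := by
    have h2 : f₂ j₁ = 0 := hf₂' (Submodule.mem_sup_left (Submodule.mem_span_singleton_self _))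
    simp [η, h2]
  have hξ2 : ξ j₂ = 0 := by
    have h2 : f₁ j₂ = 0 := hf₁' (Submodule.mem_sup_left (Submodule.mem_span_singleton_self _))
    simp [ξ, h2]
  have hηS : ∀ y ∈ J ^ 2, η y = 0 := by
    intro y hy
    have h2 : f₂ y = 0 := hf₂' (Submodule.mem_sup_right hy)
    simp [η, h2]
  have hξS : ∀ y ∈ J ^ 2, ξ y = 0 := by
    intro y hy
    have h2 : f₁ y = 0 := hf₁' (Submodule.mem_sup_right hy)
    simp [ξ, h2]
  have hφJ : ∀ y ∈ J, φ y = 0 := by
    intro y hy
    have h2 : f₀ y = 0 := hf₀' hy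
    simp [φ, h2]
  have hpr : ∀ x, x - φ x • 1 ∈ J := by
    intro x
    obtain ⟨d, hd⟩ := hdec' x
    have h2 := hφJ _ hd
    rw [map_sub, map_smul, hφ1, smul_eq_mul, mul_one, sub_eq_zero] at h2
    rw [h2]
    exact hd
  have hdecomp : ∀ x y : he.Corner, x * y =
      (φ x * φ y) • 1 + φ x • (y - φ y • 1) + φ y • (x - φ x • 1) + (x - φ x • 1) * (y - φ y • 1) := by
    intro x y
    simp only [sub_mul, mul_sub, smul_mul_assoc, mul_smul_comm, one_mul, mul_one, smul_sub, smul_smul]
    rw [mul_comm (φ y) (φ x)]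
    abel
  have hφm : ∀ x y, φ (x * y) = φ x * φ y := by
    intro x y
    rw [hdecomp x y, map_add, map_add, map_add, map_smul, map_smul, map_smul, hφ1, hφJ _ (hpr y),
      hφJ _ (hpr x), hφJ _ (hJl _ _ (hpr y))]
    simp
  let c₀ : he.Corner →ₐ[F] F := AlgHom.ofLinearMap φ hφ1 hφm
  have hc₀ : ∀ x, c₀ x = φ x := fun x => rfl
  let n := C + 1
  have hn : 0 < n := Nat.succ_pos C
  haveI := finite_TT (F := F) n hn
  let pr : he.Corner →ₗ[F] he.Corner := LinearMap.id - (LinearMap.toSpanSingleton F _ 1) ∘ₗ φ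
  have hpra : ∀ x, pr x = x - φ x • 1 := fun x => rfl
  let D : he.Corner →ₗ[F] TT F n :=
    (LinearMap.toSpanSingleton F _ 1) ∘ₗ ξ ∘ₗ pr + (LinearMap.toSpanSingleton F _ (tt F n)) ∘ₗ η ∘ₗ pr
  have hDa : ∀ x, D x = ξ (pr x) • 1 + η (pr x) • tt F n := fun x => rfl
  have hprm : ∀ x y, pr (x * y) = φ x • pr y + φ y • pr x + pr x * pr y := by
    intro x y
    rw [hpra, hpra, hpra, hφm]
    conv_lhs => rw [hdecomp x y]
    abel
  have hmS : ∀ x y, pr x * pr y ∈ J ^ 2 := by
    intro x y
    rw [pow_two]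
    exact Submodule.mul_mem_mul (hpr x) (hpr y)
  have hD : ∀ x y, D (x * y) = c₀ x • D y + c₀ y • D x := by
    intro x y
    rw [hDa, hDa, hDa, hprm, hc₀, hc₀, map_add, map_add, map_add, map_add, map_smul, map_smul,
      map_smul, map_smul, hξS _ (hmS x y), hηS _ (hmS x y)]
    simp only [smul_eq_mul, add_zero, smul_add, add_smul, mul_smul]
    abel
  let ν := kron c₀ D hD
  have hφj : ∀ y ∈ J, pr y = y := by
    intro y hy
    rw [hpra, hφJ y hy]
    have h2 : (0 : F) • (1 : he.Corner) = 0 := by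
      apply Subtype.ext
      rw [val_smul, zero_smul]
      rfl
    rw [h2, sub_zero]
  have hν₁ : ∀ v, ν j₁ v = (0, v.1) := by
    intro v
    rw [kron_apply, hc₀, hφJ _ hj₁, zero_smul, zero_smul, zero_add, hDa, hφj _ hj₁, hξ1, hη1, one_smul,
      zero_smul, add_zero, one_mul]
  have hν₂ : ∀ v, ν j₂ v = (0, tt F n * v.1) := by
    intro v
    rw [kron_apply, hc₀, hφJ _ hj₂, zero_smul, zero_smul, zero_add, hDa, hφj _ hj₂, hξ2, hη2, one_smul,
      zero_smul, zero_add]
  have hV : ∀ ψ : Module.End F (TT F n × TT F n), (∀ l, ψ * ν l = ν l * ψ) →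
      ∃ c : F, IsNilpotent (ψ - algebraMap F _ c) := by
    intro ψ hψ
    refine kron_local n ψ (fun v => ?_) (fun v => ?_)
    · have h2 := congrArg (fun T => T v) (hψ j₁)
      simp only [Module.End.mul_apply, hν₁] at h2
      exact h2
    · have h2 := congrArg (fun T => T v) (hψ j₂)
      simp only [Module.End.mul_apply, hν₂] at h2
      exact h2
  have hloc := induced_local he ν h1 hV
  have hbd := hC (WW he ν) (rhoW he ν) hloc
  have hle := LinearMap.finrank_le_finrank_of_injective (iotaW_injective he ν)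
  rw [Module.finrank_prod, finrank_TT] at hle
  omega

end Main

end Cfsg.Agent.Lib.CornerMod
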