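import Mathlib

/-!
# Higman's bound

If a central element of the group algebra acting as the identity on `W` has its support on classes
whose centralizers have cyclic `p`-complemented subgroups, and `End_G(W)` is local, then
`dim W ≤ |G|`.
-/

set_option autoImplicit false
set_option linter.unusedSectionVars false
set_option linter.unusedVariables false

namespace Cfsg.Agent.Lib.HigmanBound

open Module Polynomial

universe u v w

section Decomp

variable {k : Type v} [Field k] {W : Type w} [AddCommGroup W] [Module k W]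

/-- An operator of finite order on a finite-dimensional space decomposes into cyclic pieces. -/
theorem exists_cyclic_decomp [FiniteDimensional k W] (T : Module.End k W) (n : ℕ) (hn : 0 < n)
    (hT : T ^ n = 1) :
    ∃ (ι : Type v) (_ : Fintype ι) (π : ι → Module.End k W), ∑ i, π i = 1 ∧
      (∀ i, π i * T = T * π i) ∧ ∀ i, finrank k (LinearMap.range (π i)) ≤ n := by
  classical
  let N := Module.AEval' T
  have hTors : Module.IsTorsion k[X] N := Module.AEval.isTorsion_of_finiteDimensional k W T
  obtain ⟨ι, hι, p, hp, e, ⟨Φ⟩⟩ := Module.equiv_directSum_of_isTorsion hTors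
  let _ : Fintype ι := hι
  let of' := Module.AEval'.of T
  -- the projections on `N`
  let pr : ι → (N →ₗ[k[X]] N) := fun i =>
    (Φ.symm.toLinearMap) ∘ₗ (DirectSum.lof k[X] ι _ i) ∘ₗ
      (DirectSum.component k[X] ι _ i) ∘ₗ Φ.toLinearMap
  have hsum : ∑ i, pr i = LinearMap.id := by
    ext x
    simp only [LinearMap.sum_apply, LinearMap.id_apply]
    apply Φ.injective
    simp only [pr, LinearMap.comp_apply, LinearEquiv.coe_coe, map_sum, LinearEquiv.apply_symm_apply]
    conv_rhs => rw [← DirectSum.sum_univ_of (Φ x)]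
    rfl
  let π : ι → Module.End k W := fun i =>
    { toFun := fun v => of'.symm (pr i (of' v))
      map_add' := fun a b => by simp
      map_smul' := fun c a => by
        have h1 : pr i (of' (c • a)) = c • pr i (of' a) := by
          rw [map_smul]
          exact (pr i).map_smul_of_tower c _
        rw [h1, map_smul]
        rfl }
  have hπ : ∀ i v, π i v = of'.symm (pr i (of' v)) := fun i v => rfl
  refine ⟨ι, hι, π, ?_, ?_, ?_⟩
  · ext v
    rw [LinearMap.sum_apply]
    simp only [hπ]
    rw [← map_sum, ← LinearMap.sum_apply, hsum]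
    simp
  · intro i
    ext v
    simp only [Module.End.mul_apply, hπ]
    have h1 : of' (T v) = (X : k[X]) • of' v := (Module.AEval'.X_smul_of T v).symm
    rw [h1, map_smul]
    exact Module.AEval'.of_symm_X_smul T _
  · intro i
    -- the generator
    let w : N := Φ.symm (DirectSum.lof k[X] ι _ i (Submodule.Quotient.mk 1))
    let v₀ : W := of'.symm w
    have hmem : ∀ v, π i v ∈ Submodule.span k (Set.range fun j : Fin n => (T ^ (j : ℕ)) v₀) := by
      intro v
      obtain ⟨r, hr⟩ := Submodule.Quotient.mk_surjective _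
        (DirectSum.component k[X] ι _ i (Φ (of' v)))
      have h1 : pr i (of' v) = r • w := by
        simp only [pr, w, LinearMap.comp_apply, LinearEquiv.coe_coe]
        rw [← hr, ← map_smul, ← map_smul]
        congr 2
        rw [← Submodule.Quotient.mk_smul, smul_eq_mul, mul_one]
      rw [hπ, h1]
      -- reduce modulo `X ^ n - 1`
      have hmon : (X ^ n - C 1 : k[X]).Monic := monic_X_pow_sub_C (1 : k) hn.ne'
      have h2 : of'.symm (r • w) = (aeval T r) v₀ := by
        have h3 : w = of' v₀ := by simp [v₀]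
        rw [h3]
        have h4 := Module.AEval.of_aeval_smul (R := k) (M := W) T r v₀
        rw [← h4]
        simp [of']
      rw [h2]
      have h3 : aeval T r = aeval T (r %ₘ (X ^ n - C 1 : k[X])) := by
        conv_lhs => rw [← modByMonic_add_div r (X ^ n - C 1 : k[X])]
        have : aeval T (X ^ n - C 1 : k[X]) = 0 := by
          simp [hT]
        rw [map_add, map_mul, this, zero_mul, add_zero]
      have hdeg : (r %ₘ (X ^ n - C 1 : k[X])).natDegree < n := by
        have hd : (X ^ n - C 1 : k[X]).natDegree = n := natDegree_X_pow_sub_C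
        have h4 := natDegree_modByMonic_lt r hmon (by
          intro h
          rw [h, natDegree_one] at hd
          omega)
        rwa [hd] at h4
      rw [h3, aeval_eq_sum_range' hdeg, LinearMap.sum_apply]
      refine Submodule.sum_mem _ fun j hj => ?_
      rw [LinearMap.smul_apply]
      exact Submodule.smul_mem _ _ (Submodule.subset_span ⟨⟨j, Finset.mem_range.1 hj⟩, rfl⟩)
    have hle : LinearMap.range (π i) ≤ Submodule.span k (Set.range fun j : Fin n => (T ^ (j : ℕ)) v₀) := by
      rintro _ ⟨v, rfl⟩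
      exact hmem v
    have h1 := Submodule.finrank_mono hle
    have h2 := finrank_range_le_card (R := k) fun j : Fin n => (T ^ (j : ℕ)) v₀
    simp only [Fintype.card_fin, Set.finrank] at h2
    omega

end Decomp

section Trace

variable {G : Type u} [Group G] [Fintype G] {k : Type v} [Field k] {W : Type w} [AddCommGroup W]
  [Module k W]

noncomputable local instance fintypeQuotHB (Q : Subgroup G) : Fintype (G ⧸ Q) := Fintype.ofFinite _
noncomputable local instance fintypeSubHB (Q : Subgroup G) : Fintype Q := Fintype.ofFinite _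

/-- The relative trace of an endomorphism. -/
noncomputable def relTr (R : G →* Module.End k W) (Q : Subgroup G) (β : Module.End k W) :
    Module.End k W :=
  ∑ c : G ⧸ Q, R c.out * β * R (c.out)⁻¹

theorem term_eq (R : G →* Module.End k W) {Q : Subgroup G} {β : Module.End k W}
    (hβ : ∀ q ∈ Q, R q * β = β * R q) (t : G) :
    R (t : G ⧸ Q).out * β * R ((t : G ⧸ Q).out)⁻¹ = R t * β * R t⁻¹ := by
  obtain ⟨h, hh⟩ := QuotientGroup.mk_out_eq_mul Q t
  rw [hh, mul_inv_rev, map_mul, map_mul]
  have h0 : R h * β = β * R h := hβ h h.2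
  have h1 : R h * R (h : G)⁻¹ = 1 := by rw [← map_mul]; simp
  calc R t * R h * β * (R (h : G)⁻¹ * R t⁻¹) = R t * (R h * β) * (R (h : G)⁻¹ * R t⁻¹) := by
        simp only [mul_assoc]
    _ = R t * (β * R h) * (R (h : G)⁻¹ * R t⁻¹) := by rw [h0]
    _ = R t * β * (R h * R (h : G)⁻¹) * R t⁻¹ := by simp only [mul_assoc]
    _ = _ := by rw [h1, mul_one]

theorem relTr_commute (R : G →* Module.End k W) {Q : Subgroup G} {β : Module.End k W}
    (hβ : ∀ q ∈ Q, R q * β = β * R q) (s : G) : relTr R Q β * R s = R s * relTr R Q β := by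
  unfold relTr
  rw [Finset.sum_mul, Finset.mul_sum, ← Equiv.sum_comp (MulAction.toPerm s : Equiv.Perm (G ⧸ Q))]
  refine Finset.sum_congr rfl fun c _ => ?_
  have h1 : (MulAction.toPerm s : Equiv.Perm (G ⧸ Q)) c = ((s * c.out : G) : G ⧸ Q) := by
    conv_lhs => rw [← QuotientGroup.out_eq' c]
    rfl
  rw [h1, term_eq R hβ]
  have h2 : R (s * c.out)⁻¹ * R s = R (c.out)⁻¹ := by
    rw [← map_mul]
    congr 1
    group
  rw [mul_assoc _ _ (R s), h2, map_mul]
  simp only [mul_assoc]

theorem relTr_add (R : G →* Module.End k W) (Q : Subgroup G) (β γ : Module.End k W) :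
    relTr R Q (β + γ) = relTr R Q β + relTr R Q γ := by
  unfold relTr
  rw [← Finset.sum_add_distrib]
  refine Finset.sum_congr rfl fun c _ => ?_
  rw [mul_add, add_mul]

theorem relTr_sum (R : G →* Module.End k W) (Q : Subgroup G) {ι : Type*} (s : Finset ι)
    (β : ι → Module.End k W) :
    relTr R Q (∑ i ∈ s, β i) = ∑ i ∈ s, relTr R Q (β i) := by
  unfold relTr
  rw [Finset.sum_comm]
  refine Finset.sum_congr rfl fun c _ => ?_
  rw [Finset.mul_sum, Finset.sum_mul]

/-- The dimension bound from an injective relative trace. -/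
theorem finrank_le_of_injective [FiniteDimensional k W] (R : G →* Module.End k W) (Q : Subgroup G)
    {W' : Type*} [AddCommGroup W'] [Module k W'] [FiniteDimensional k W']
    (π : W →ₗ[k] W') (β : W' →ₗ[k] W) (h : Function.Injective (relTr R Q (β ∘ₗ π))) :
    finrank k W ≤ Fintype.card (G ⧸ Q) * finrank k W' := by
  let L : W →ₗ[k] (G ⧸ Q → W') := LinearMap.pi fun c => π ∘ₗ R (c.out)⁻¹
  have hL : Function.Injective L := by
    intro x y hxy
    apply h
    unfold relTr
    simp only [LinearMap.sum_apply]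
    refine Finset.sum_congr rfl fun c _ => ?_
    have h1 : π (R (c.out)⁻¹ x) = π (R (c.out)⁻¹ y) := congrFun hxy c
    simp only [Module.End.mul_apply, LinearMap.comp_apply]
    rw [h1]
  have h2 := LinearMap.finrank_le_finrank_of_injective hL
  rw [Module.finrank_pi_fintype] at h2
  simpa using h2

theorem sum_cosets (Q : Subgroup G) (F : G → ℕ) :
    ∑ t : G, F t = ∑ c : G ⧸ Q, ∑ q : Q, F (c.out * q) := by
  classical
  let E : (G ⧸ Q) × Q → G := fun p => p.1.out * p.2
  have hE : Function.Bijective E := by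
    constructor
    · rintro ⟨c, q⟩ ⟨c', q'⟩ h
      simp only [E] at h
      have h1 : ((c.out * q : G) : G ⧸ Q) = ((c'.out * q' : G) : G ⧸ Q) := by rw [h]
      have h2 : ((c.out * q : G) : G ⧸ Q) = c := by
        rw [QuotientGroup.mk_mul_of_mem _ q.2, QuotientGroup.out_eq']
      have h3 : ((c'.out * q' : G) : G ⧸ Q) = c' := by
        rw [QuotientGroup.mk_mul_of_mem _ q'.2, QuotientGroup.out_eq']
      rw [h2, h3] at h1
      subst h1
      have h4 : q = q' := Subtype.ext (mul_left_cancel h)
      rw [h4]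
    · intro t
      obtain ⟨h, hh⟩ := QuotientGroup.mk_out_eq_mul Q t
      refine ⟨((t : G ⧸ Q), h⁻¹), ?_⟩
      simp only [E, hh]
      simp
  rw [← (Equiv.ofBijective E hE).sum_comp, Fintype.sum_prod_type]
  rfl

/-- The class sum as a relative trace. -/
theorem relTr_eq_classSum [DecidableEq G] (R : G →* Module.End k W) {Q : Subgroup G} {g : G}
    (hQ : Q ≤ Subgroup.centralizer ({g} : Set G)) {m : ℕ}
    (hm : Nat.card (Subgroup.centralizer ({g} : Set G)) = m * Nat.card Q) :
    relTr R Q (R g) = m • ∑ h ∈ Finset.univ.filter (fun h => IsConj g h), R h := by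
  classical
  have hQc : ∀ q ∈ Q, q * g = g * q := fun q hq =>
    Subgroup.mem_centralizer_singleton_iff.1 (hQ hq)
  let φ : G ⧸ Q → G := fun c => c.out * g * (c.out)⁻¹
  have h1 : relTr R Q (R g) = ∑ c : G ⧸ Q, R (φ c) := by
    unfold relTr
    refine Finset.sum_congr rfl fun c _ => ?_
    simp only [φ, map_mul]
  have hφ : ∀ (c : G ⧸ Q) (q : Q), (c.out * q) * g * (c.out * q)⁻¹ = φ c := by
    intro c q
    simp only [φ]
    have := hQc q q.2
    calc (c.out * q) * g * (c.out * q)⁻¹ = c.out * ((q : G) * g) * (q : G)⁻¹ * (c.out)⁻¹ := by group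
      _ = c.out * (g * (q : G)) * (q : G)⁻¹ * (c.out)⁻¹ := by rw [this]
      _ = _ := by group
  have hcount : ∀ h : G, IsConj g h →
      (Finset.univ.filter (fun c : G ⧸ Q => φ c = h)).card = m := by
    intro h hh
    obtain ⟨t₀, rfl⟩ := _root_.isConj_iff.1 hh
    have h2 := sum_cosets Q (fun t => if t * g * t⁻¹ = t₀ * g * t₀⁻¹ then 1 else 0)
    have h3 : ∑ t : G, (if t * g * t⁻¹ = t₀ * g * t₀⁻¹ then 1 else 0) =
        Nat.card (Subgroup.centralizer ({g} : Set G)) := by
      rw [← Finset.card_filter, Nat.card_eq_fintype_card, Fintype.card_subtype]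
      refine Finset.card_bij (fun t _ => t₀⁻¹ * t) ?_ ?_ ?_
      · intro t ht
        simp only [Finset.mem_filter, Finset.mem_univ, true_and] at ht ⊢
        rw [Subgroup.mem_centralizer_singleton_iff]
        have : t = t * g * t⁻¹ * t * g⁻¹ := by group
        calc t₀⁻¹ * t * g = t₀⁻¹ * (t * g * t⁻¹) * t := by group
          _ = t₀⁻¹ * (t₀ * g * t₀⁻¹) * t := by rw [ht]
          _ = g * (t₀⁻¹ * t) := by group
      · intro a _ b _ hab
        exact mul_left_cancel hab
      · intro b hb
        simp only [Finset.mem_filter, Finset.mem_univ, true_and] at hb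
        rw [Subgroup.mem_centralizer_singleton_iff] at hb
        refine ⟨t₀ * b, ?_, by group⟩
        simp only [Finset.mem_filter, Finset.mem_univ, true_and]
        calc t₀ * b * g * (t₀ * b)⁻¹ = t₀ * (b * g) * b⁻¹ * t₀⁻¹ := by group
          _ = t₀ * (g * b) * b⁻¹ * t₀⁻¹ := by rw [hb]
          _ = _ := by group
    have h4 : ∑ c : G ⧸ Q, ∑ q : Q, (if (c.out * q) * g * (c.out * q)⁻¹ = t₀ * g * t₀⁻¹ then 1 else 0)
        = (Finset.univ.filter (fun c : G ⧸ Q => φ c = t₀ * g * t₀⁻¹)).card * Nat.card Q := by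
      rw [Finset.card_filter, Finset.sum_mul]
      refine Finset.sum_congr rfl fun c _ => ?_
      simp only [hφ]
      split_ifs
      · simp [Nat.card_eq_fintype_card]
      · simp
    rw [h3, hm, h4] at h2
    have hQ0 : 0 < Nat.card Q := Nat.card_pos
    exact (Nat.eq_of_mul_eq_mul_right hQ0 h2).symm
  rw [h1, ← Finset.sum_fiberwise (s := Finset.univ) (g := φ) (f := fun c => R (φ c)), Finset.smul_sum]
  rw [Finset.sum_filter]
  refine Finset.sum_congr rfl fun h _ => ?_
  by_cases hh : IsConj g h
  · rw [if_pos hh, ← hcount h hh, ← Finset.sum_const]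
    refine Finset.sum_congr rfl fun c hc => ?_
    rw [(Finset.mem_filter.1 hc).2]
  · rw [if_neg hh]
    apply Finset.sum_eq_zero
    intro c hc
    exfalso
    apply hh
    rw [← (Finset.mem_filter.1 hc).2]
    exact _root_.isConj_iff.2 ⟨c.out, rfl⟩

end Trace

section Local

variable {k : Type v} [Field k] {W : Type w} [AddCommGroup W] [Module k W] [Nontrivial W]
  [FiniteDimensional k W]

/-- In a subalgebra whose members are scalars plus nilpotents, one summand of the identity is a
unit. -/
theorem exists_isUnit_of_sum (S : Subalgebra k (Module.End k W))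
    (hS : ∀ ψ ∈ S, ∃ c : k, IsNilpotent (ψ - algebraMap k _ c)) {ι : Type*} (s : Finset ι)
    (T : ι → Module.End k W) (hT : ∀ i ∈ s, T i ∈ S) (h1 : ∑ i ∈ s, T i = 1) :
    ∃ i ∈ s, IsUnit (T i) := by
  classical
  have : Nontrivial S := ⟨⟨0, 1, by
    intro h
    have h2 : ((0 : S) : Module.End k W) = ((1 : S) : Module.End k W) := congrArg Subtype.val h
    exact zero_ne_one h2⟩⟩
  have hloc : IsLocalRing S := by
    refine IsLocalRing.of_isUnit_or_isUnit_one_sub_self fun a => ?_
    obtain ⟨c, hc⟩ := hS a a.2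
    have hc' : IsNilpotent (a - algebraMap k S c) := by
      obtain ⟨n, hn⟩ := hc
      refine ⟨n, Subtype.ext ?_⟩
      simpa using hn
    by_cases hc0 : c = 0
    · right
      subst hc0
      rw [map_zero, sub_zero] at hc'
      exact hc'.isUnit_one_sub
    · left
      have h2 : IsUnit (algebraMap k S c) := (IsUnit.mk0 c hc0).map _
      have h3 := hc'.isUnit_add_left_of_commute h2 (Algebra.commute_algebraMap_right _ _)
      simpa using h3
  by_contra hcon
  push Not at hcon
  have h2 : ∀ (s' : Finset ι), s' ⊆ s → ∃ h : ∑ i ∈ s', T i ∈ S, (⟨_, h⟩ : S) ∈ nonunits S := by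
    intro s'
    induction s' using Finset.induction_on with
    | empty =>
      intro _
      refine ⟨by simp [Subalgebra.zero_mem], ?_⟩
      exact zero_mem_nonunits.2 (zero_ne_one (α := S))
    | insert a s' ha ih =>
      intro hs
      obtain ⟨h3, h4⟩ := ih (fun x hx => hs (Finset.mem_insert_of_mem hx))
      have ha' := hs (Finset.mem_insert_self a s')
      have h5 : (⟨T a, hT a ha'⟩ : S) ∈ nonunits S := by
        intro hu
        exact hcon a ha' (hu.map S.val)
      have h6 := IsLocalRing.nonunits_add h5 h4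
      rw [Finset.sum_insert ha]
      exact ⟨S.add_mem (hT a ha') h3, h6⟩
  obtain ⟨h3, h4⟩ := h2 s subset_rfl
  apply h4
  have h5 : (⟨∑ i ∈ s, T i, h3⟩ : S) = 1 := Subtype.ext h1
  rw [h5]
  exact isUnit_one

end Local

section Main

variable {G : Type u} [Group G] [Fintype G] {k : Type v} [Field k] {W : Type w} [AddCommGroup W]
  [Module k W]

noncomputable local instance fintypeQuotHB' (Q : Subgroup G) : Fintype (G ⧸ Q) := Fintype.ofFinite _

/-- **Higman's bound.** -/
theorem finrank_le_card [FiniteDimensional k W] (R : G →* Module.End k W) (a : G → k)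
    (ha : ∀ g x : G, a (x * g * x⁻¹) = a g) (hsum : ∑ g, a g • R g = 1)
    (hdef : ∀ g, a g ≠ 0 → ∃ Q : Subgroup G, Q ≤ Subgroup.centralizer ({g} : Set G) ∧ IsCyclic Q ∧
      ∃ m : ℕ, (m : k) ≠ 0 ∧ Nat.card (Subgroup.centralizer ({g} : Set G)) = m * Nat.card Q)
    (hloc : ∀ ψ : Module.End k W, (∀ g, ψ * R g = R g * ψ) →
      ∃ c : k, IsNilpotent (ψ - algebraMap k _ c)) :
    finrank k W ≤ Nat.card G := by
  classical
  by_cases hW : Subsingleton W
  · rw [Module.finrank_zero_of_subsingleton]
    exact Nat.zero_le _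
  rw [not_subsingleton_iff_nontrivial] at hW
  -- the commutant
  let S : Subalgebra k (Module.End k W) :=
    { carrier := {ψ | ∀ g, ψ * R g = R g * ψ}
      mul_mem' := fun {x y} hx hy g => by
        rw [mul_assoc, hy g, ← mul_assoc, hx g, mul_assoc]
      add_mem' := fun {x y} hx hy g => by
        rw [add_mul, mul_add, hx g, hy g]
      algebraMap_mem' := fun c g => Algebra.commutes c (R g) }
  have hS : ∀ ψ ∈ S, ∃ c : k, IsNilpotent (ψ - algebraMap k _ c) := fun ψ hψ => hloc ψ hψ
  have hrep : ∀ g, a g ≠ 0 → ∃ (Q : Subgroup G) (m : ℕ), Q ≤ Subgroup.centralizer ({g} : Set G) ∧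
      IsCyclic Q ∧ (m : k) ≠ 0 ∧ Nat.card (Subgroup.centralizer ({g} : Set G)) = m * Nat.card Q := by
    intro g hg
    obtain ⟨Q, h1, h2, m, h3, h4⟩ := hdef g hg
    exact ⟨Q, m, h1, h2, h3, h4⟩
  -- grouping by classes
  let rp : ConjClasses G → G := fun C => Quotient.out C
  have hrp : ∀ C, ConjClasses.mk (rp C) = C := fun C => Quotient.out_eq C
  let Cl : ConjClasses G → Module.End k W := fun C =>
    ∑ h ∈ Finset.univ.filter (fun h => IsConj (rp C) h), R h
  have hCl : ∑ C, a (rp C) • Cl C = 1 := by
    rw [← hsum, ← Finset.sum_fiberwise (s := Finset.univ) (g := ConjClasses.mk)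
      (f := fun g => a g • R g)]
    refine Finset.sum_congr rfl fun C _ => ?_
    simp only [Cl, Finset.smul_sum]
    have hiff : ∀ h, ConjClasses.mk h = C ↔ IsConj (rp C) h := by
      intro h
      conv_lhs => rw [← hrp C]
      rw [ConjClasses.mk_eq_mk_iff_isConj]
      exact ⟨fun hh => hh.symm, fun hh => hh.symm⟩
    refine Finset.sum_congr ?_ fun h hh => ?_
    · ext h
      simp only [Finset.mem_filter, Finset.mem_univ, true_and]
      exact (hiff h).symm
    · simp only [Finset.mem_filter, Finset.mem_univ, true_and] at hh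
      obtain ⟨t, rfl⟩ := _root_.isConj_iff.1 ((hiff h).1 hh)
      rw [ha]
  have hmemS : ∀ C, a (rp C) • Cl C ∈ S := by
    intro C
    by_cases h0 : a (rp C) = 0
    · rw [h0, zero_smul]
      exact S.zero_mem
    · obtain ⟨Q, m, h1, h2, h3, h4⟩ := hrep _ h0
      have h5 := relTr_eq_classSum R h1 h4
      have hQc : ∀ q ∈ Q, R q * R (rp C) = R (rp C) * R q := by
        intro q hq
        rw [← map_mul, ← map_mul, Subgroup.mem_centralizer_singleton_iff.1 (h1 hq)]
      have h6 : ∀ g, relTr R Q (R (rp C)) * R g = R g * relTr R Q (R (rp C)) :=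
        relTr_commute R hQc
      rw [h5] at h6
      have h7 : (m : k)⁻¹ • (m • Cl C) = Cl C := by
        rw [← Nat.cast_smul_eq_nsmul k, smul_smul, inv_mul_cancel₀ h3, one_smul]
      intro g
      change (a (rp C) • Cl C) * R g = R g * (a (rp C) • Cl C)
      rw [← h7, smul_mul_assoc, smul_mul_assoc, mul_smul_comm, mul_smul_comm]
      rw [h6 g]
  obtain ⟨C, -, hC⟩ := exists_isUnit_of_sum S hS Finset.univ (fun C => a (rp C) • Cl C)
    (fun C _ => hmemS C) hCl
  have h0 : a (rp C) ≠ 0 := by
    intro h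
    rw [h, zero_smul] at hC
    exact not_isUnit_zero hC
  obtain ⟨Q, m, h1, h2, h3, h4⟩ := hrep _ h0
  set g := rp C with hg
  have hQc : ∀ q ∈ Q, R q * R g = R g * R q := by
    intro q hq
    rw [← map_mul, ← map_mul, Subgroup.mem_centralizer_singleton_iff.1 (h1 hq)]
  -- the unit
  have hunit : IsUnit (relTr R Q (R g)) := by
    rw [relTr_eq_classSum R h1 h4, ← Nat.cast_smul_eq_nsmul k]
    have h5 : IsUnit (Cl C) := by
      have h6 : Cl C = (a g)⁻¹ • (a g • Cl C) := by
        rw [smul_smul, inv_mul_cancel₀ h0, one_smul]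
      rw [h6]
      have h7 : IsUnit (algebraMap k (Module.End k W) (a g)⁻¹) :=
        (IsUnit.mk0 _ (inv_ne_zero h0)).map _
      rw [Algebra.smul_def]
      exact h7.mul hC
    have h7 : IsUnit (algebraMap k (Module.End k W) (m : k)) := (IsUnit.mk0 _ h3).map _
    rw [Algebra.smul_def]
    exact h7.mul h5
  -- the decomposition
  obtain ⟨y, hy⟩ := IsCyclic.exists_generator (α := Q)
  have hn : 0 < Nat.card Q := Nat.card_pos
  have hTn : (R y) ^ Nat.card Q = 1 := by
    rw [← map_pow]
    have : (y : G) ^ Nat.card Q = 1 := by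
      have h5 : y ^ Nat.card Q = 1 := pow_card_eq_one'
      exact congrArg Subtype.val h5
    rw [this, map_one]
  obtain ⟨ι, hι, π, hπ1, hπ2, hπ3⟩ := exists_cyclic_decomp (R y) _ hn hTn
  have hπQ : ∀ i, ∀ q ∈ Q, R q * π i = π i * R q := by
    intro i q hq
    have h5 : (⟨q, hq⟩ : Q) ∈ Submonoid.powers y := by
      rw [mem_powers_iff_mem_zpowers]
      exact hy _
    obtain ⟨r, hr⟩ := h5
    have h6 : q = (y : G) ^ r := by
      have := congrArg Subtype.val hr
      simpa using this.symm
    rw [h6, map_pow]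
    exact ((show Commute (π i) (R y) from hπ2 i).pow_right r).symm.eq
  have hβ : ∀ i, ∀ q ∈ Q, R q * (R g * π i) = (R g * π i) * R q := by
    intro i q hq
    rw [← mul_assoc, hQc q hq, mul_assoc, hπQ i q hq, mul_assoc]
  have hsum2 : relTr R Q (R g) = ∑ i, relTr R Q (R g * π i) := by
    rw [← relTr_sum, ← Finset.mul_sum, hπ1, mul_one]
  obtain ⟨U, hU⟩ := hunit
  have hUS : ((U⁻¹ : (Module.End k W)ˣ) : Module.End k W) ∈ S := by
    intro g'
    have h5 : Commute (U : Module.End k W) (R g') := by
      rw [hU]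
      exact relTr_commute R hQc g'
    exact h5.units_inv_left.eq
  obtain ⟨i, -, hi⟩ := exists_isUnit_of_sum S hS Finset.univ
    (fun i => ((U⁻¹ : (Module.End k W)ˣ) : Module.End k W) * relTr R Q (R g * π i))
    (fun i _ => S.mul_mem hUS (relTr_commute R (hβ i)))
    (by rw [← Finset.mul_sum, ← hsum2, ← hU, Units.inv_mul])
  have hi' : IsUnit (relTr R Q (R g * π i)) := by
    have h5 : relTr R Q (R g * π i) =
        (U : Module.End k W) * (((U⁻¹ : (Module.End k W)ˣ) : Module.End k W) * relTr R Q (R g * π i)) := by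
      rw [Units.mul_inv_cancel_left]
    rw [h5]
    exact U.isUnit.mul hi
  have hinj : Function.Injective (relTr R Q (R g * π i)) :=
    ((Module.End.isUnit_iff _).1 hi').1
  have hfac : R g * π i = (R g ∘ₗ (LinearMap.range (π i)).subtype) ∘ₗ (π i).rangeRestrict := by
    ext v
    rfl
  rw [hfac] at hinj
  have h5 := finrank_le_of_injective R Q _ _ hinj
  have h6 : Nat.card G = Nat.card (G ⧸ Q) * Nat.card Q := Subgroup.card_eq_card_quotient_mul_card_subgroup Q
  rw [Nat.card_eq_fintype_card (α := G ⧸ Q)] at h6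
  rw [h6]
  exact h5.trans (Nat.mul_le_mul_left _ (hπ3 i))

end Main

end Cfsg.Agent.Lib.HigmanBound
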