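import Mathlib
import Cfsg.Agent.Lib.BlockRankOne
import Cfsg.Agent.Lib.CornerMod
import Cfsg.Agent.Lib.HigmanBound
import Cfsg.Agent.Lib.BlockDefect

/-!
# Blocks of rank one all of whose modules with local endomorphism rings are bounded

If the modules with local endomorphism rings in a block of rank one have bounded dimension, then the
radical of a corner at a primitive idempotent needs one generator, the corner is commutative and all
members of the block agree on regular elements.
-/

set_option autoImplicit false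
set_option linter.unusedSectionVars false
set_option linter.unusedVariables false
set_option linter.unusedSimpArgs false

namespace Cfsg.Agent.Lib.CycRankOne

open Cfsg Module MonoidAlgebra IsLocalRing
open Cfsg.Agent.Lib.CharBasic Cfsg.Agent.Lib.CharInd Cfsg.Agent.Lib.CharIntegrality
open Cfsg.Agent.Lib.BlockLocal Cfsg.Agent.Lib.BlockIdem Cfsg.Agent.Lib.BlockResidue
open Cfsg.Agent.Lib.BlkBasic Cfsg.Agent.Lib.BrauerPair Cfsg.Agent.Lib.CharKernel
open Cfsg.Agent.Lib.BlockBrandt Cfsg.Agent.Lib.MatCorner Cfsg.Agent.Lib.BlockQ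
open Cfsg.Agent.Lib.BlockOrtho Cfsg.Agent.Lib.BlkOrth Cfsg.Agent.Lib.LocalSymAlg
open Cfsg.Agent.Lib.BlockRankOne Cfsg.Agent.Lib.CornerMod

universe u v

section Mat

variable {F : Type v} {A : Type u} [Field F] [Ring A] [Algebra F A]

/-- **Main bound**: for a symmetric algebra with one simple factor and centre of dimension at most
four. -/
theorem mat_bound_bdd [IsAlgClosed F] [FiniteDimensional F A] [Nontrivial A] (t : A →ₗ[F] F)
    (ht : ∀ a b, t (a * b) = t (b * a)) (hnd : ∀ a, (∀ b, t (a * b) = 0) → a = 0) (a₀ : A)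
    (hT : ∀ τ : A →ₗ[F] F, IsTr τ → τ a₀ = 0 → τ = 0)
    (C : ℕ)
    (hC : ∀ (W : Type (max u v)) [AddCommGroup W] [Module F W] [FiniteDimensional F W]
      (ρ : A →ₐ[F] Module.End F W),
      (∀ ψ : Module.End F W, (∀ a, ψ * ρ a = ρ a * ψ) →
        ∃ c : F, IsNilpotent (ψ - algebraMap F _ c)) →
      finrank F W ≤ C) :
    ∃ g : ℕ, 0 < g ∧ (∀ W : Submodule F A, (∀ a x, x ∈ W → a * x ∈ W) → (∀ a x, x ∈ W → x * a ∈ W) →
        (1 : A) ∉ W → finrank F W + g ^ 2 ≤ finrank F A) ∧
      finrank F A ≤ g ^ 2 * finrank F (Subalgebra.center F A) := by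
  classical
  have : IsArtinianRing A := IsArtinianRing.of_finite F A
  obtain ⟨g, hg, π, hπ, hk⟩ := exists_mat a₀ hT
  obtain ⟨m, hm⟩ : IsNilpotent (Ring.jacobson A) := IsSemiprimaryRing.isNilpotent
  let N : Submodule F A := LinearMap.ker π.toLinearMap
  have memN : ∀ x, x ∈ N ↔ π x = 0 := fun x => by simp [N]
  have hNl : ∀ a x, x ∈ N → a * x ∈ N := fun a x hx => by
    rw [memN] at hx ⊢; rw [map_mul, hx, mul_zero]
  have hNr : ∀ a x, x ∈ N → x * a ∈ N := fun a x hx => by
    rw [memN] at hx ⊢; rw [map_mul, hx, zero_mul]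
  have hNJ : ∀ n : ℕ, ∀ x ∈ N ^ n, x ∈ (Ring.jacobson A) ^ n := by
    intro n
    induction n with
    | zero =>
      intro x _
      rw [Submodule.pow_zero, Ideal.one_eq_top]
      exact Submodule.mem_top
    | succ n ih =>
      intro x hx
      rw [pow_succ'] at hx
      refine Submodule.mul_induction_on (C := fun r => r ∈ (Ring.jacobson A) ^ (n + 1)) hx
        (fun u hu v hv => ?_) (fun a b ha hb => add_mem ha hb)
      rw [Ideal.IsTwoSided.pow_succ]
      exact Ideal.mul_mem_mul ((hk u).1 ((memN u).1 hu)) (ih v hv)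
  have hm' : N ^ m = ⊥ := by
    rw [eq_bot_iff]
    intro x hx
    have := hNJ m x hx
    rw [hm] at this
    simpa using this
  have hnilp : ∀ x, π x = 0 → IsNilpotent x := by
    intro x hx
    refine ⟨m, ?_⟩
    have h1 : x ^ m ∈ N ^ m := Submodule.pow_mem_pow _ ((memN x).2 hx) _
    rw [hm'] at h1
    simpa using h1
  obtain ⟨e, α, β, he, heN, hdec, h1⟩ := exists_corner_data π hπ hnilp
  have hcomm := corner_comm_of_bounded C hC (he : IsIdempotentElem e) h1 N hNl hNr
    (fun h => heN ((memN e).1 h)) (fun a => by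
      obtain ⟨c, hc⟩ := hdec a
      exact ⟨c, (memN _).2 hc⟩) hm'
  refine ⟨g, Nat.pos_of_ne_zero (NeZero.ne g), ?_, finrank_le_of_comm he h1 hcomm⟩
  intro W hWl hWr h1W
  have hle : W ≤ N := fun x hx => (memN x).2 (le_ker π hπ hnilp W hWl hWr h1W x hx)
  have h2 := Submodule.finrank_mono hle
  have h3 := LinearMap.finrank_range_add_finrank_ker π.toLinearMap
  have h4 : LinearMap.range π.toLinearMap = ⊤ := LinearMap.range_eq_top.2 hπ
  rw [h4, finrank_top, Module.finrank_matrix] at h3
  simp only [Fintype.card_fin, Module.finrank_self, mul_one] at h3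
  have h5 : g ^ 2 = g * g := by ring
  rw [h5]
  have h6 : finrank F N = finrank F (LinearMap.ker π.toLinearMap) := rfl
  omega

end Mat

variable {G : Type u} [Group G] [Fintype G]

section Abs

variable {k : Type v} [Field k]

local notation "K" => MonoidAlgebra k G

/-- The dimension bounds for the block algebra. -/
theorem block_bound_bdd [IsAlgClosed k] (f : K) (hf : f * f = f) (hc : ∀ x, f * x = x * f) (hf0 : f ≠ 0)
    (n : ℕ) (C : ℕ)
    (hC : ∀ (W : Type (max u v)) [AddCommGroup W] [Module k W] [FiniteDimensional k W]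
      (R : G →* Module.End k W), (∑ g, f.coeff g • R g = 1) →
      (∀ ψ : Module.End k W, (∀ g, ψ * R g = R g * ψ) → ∃ c : k, IsNilpotent (ψ - algebraMap k _ c)) →
      finrank k W ≤ C)
    (hZ : ∀ c : Fin (n + 1) → K, (∀ i x, c i * x = x * c i) → (∀ i, c i * f = c i) →
      ¬ LinearIndependent k c)
    (a₀ : K)
    (hT : ∀ μ : K →ₗ[k] k, (∀ x y, μ (x * y) = μ (y * x)) → (∀ x, IsNilpotent x → μ x = 0) →
      (∀ x, μ (x * f) = μ x) → μ a₀ = 0 → μ = 0) :
    ∃ g : ℕ, 0 < g ∧
      (∀ W : Submodule k K, (∀ a x, x ∈ W → a * x ∈ W) → (∀ a x, x ∈ W → x * a ∈ W) →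
        (∀ x, x * f = 0 → x ∈ W) → f ∉ W → finrank k W + g ^ 2 ≤ finrank k K) ∧
      finrank k K ≤ finrank k (LinearMap.ker (LinearMap.mulRight k f)) + g ^ 2 * n := by
  classical
  let I : Ideal K :=
    { carrier := {x | x * f = 0}
      add_mem' := fun {a b} ha hb => by
        simp only [Set.mem_ofPred_eq] at ha hb ⊢
        rw [add_mul, ha, hb, add_zero]
      zero_mem' := by simp
      smul_mem' := fun c x hx => by
        simp only [Set.mem_ofPred_eq, smul_eq_mul] at hx ⊢
        rw [mul_assoc, hx, mul_zero] }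
  have memI : ∀ x, x ∈ I ↔ x * f = 0 := fun x => Iff.rfl
  have : I.IsTwoSided := ⟨fun {a} b ha => by
    rw [memI] at ha ⊢
    rw [mul_assoc, ← hc b, ← mul_assoc, ha, zero_mul]⟩
  let p : K →ₐ[k] (K ⧸ I) := Ideal.Quotient.mkₐ k I
  have hps : Function.Surjective p := Ideal.Quotient.mkₐ_surjective k I
  have hp0 : ∀ x, p x = 0 ↔ x * f = 0 := fun x => by
    rw [← memI, ← Ideal.Quotient.eq_zero_iff_mem]
    rfl
  have hpf : p f = 1 := by
    rw [← map_one p, ← sub_eq_zero, ← map_sub, hp0, sub_mul, hf, one_mul, sub_self]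
  have : FiniteDimensional k (K ⧸ I) := Module.Finite.of_surjective p.toLinearMap hps
  have hne : (1 : K ⧸ I) ≠ 0 := by
    intro h
    rw [← hpf, hp0, hf] at h
    exact hf0 h
  have : Nontrivial (K ⧸ I) := ⟨⟨1, 0, hne⟩⟩
  -- the trace form
  let t' : K →ₗ[k] k :=
    { toFun := fun x => (x * f).coeff 1
      map_add' := fun x y => by rw [add_mul]; simp
      map_smul' := fun r x => by rw [smul_mul_assoc]; simp }
  have ht'0 : ∀ x, p x = 0 → t' x = 0 := by
    intro x hx
    rw [hp0] at hx
    change (x * f).coeff 1 = 0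
    rw [hx]; simp
  obtain ⟨s, hs⟩ := LinearMap.exists_rightInverse_of_surjective p.toLinearMap
    (LinearMap.range_eq_top.2 hps)
  have hs' : ∀ y, p (s y) = y := fun y => LinearMap.congr_fun hs y
  let t : (K ⧸ I) →ₗ[k] k := t' ∘ₗ s
  have ht_p : ∀ x, t (p x) = t' x := by
    intro x
    have h1 : p (s (p x) - x) = 0 := by rw [map_sub, hs', sub_self]
    have := ht'0 _ h1
    rw [map_sub, sub_eq_zero] at this
    exact this
  have ht : ∀ a b, t (a * b) = t (b * a) := by
    intro a b
    obtain ⟨a, rfl⟩ := hps a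
    obtain ⟨b, rfl⟩ := hps b
    rw [← map_mul, ← map_mul, ht_p, ht_p]
    change ((a * b) * f).coeff 1 = ((b * a) * f).coeff 1
    rw [mul_assoc, coeff_one_mul_comm a (b * f), mul_assoc b f a, hc a, mul_assoc]
  have hnd : ∀ a, (∀ b, t (a * b) = 0) → a = 0 := by
    intro a h
    obtain ⟨a, rfl⟩ := hps a
    rw [hp0]
    refine ext_coeff fun g => ?_
    have h1 := h (p (single g⁻¹ (1 : k)))
    rw [← map_mul, ht_p] at h1
    change ((a * single g⁻¹ (1 : k)) * f).coeff 1 = 0 at h1
    rw [mul_assoc, ← hc, ← mul_assoc, coeff_mul_single'] at h1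
    simpa using h1
  -- the centre
  have hZ' : finrank k (Subalgebra.center k (K ⧸ I)) ≤ n := by
    by_contra hcon
    push Not at hcon
    have hle : n + 1 ≤ finrank k (Subalgebra.center k (K ⧸ I)) := hcon
    let b := Module.finBasis k (Subalgebra.center k (K ⧸ I))
    let z : Fin (n + 1) → (K ⧸ I) :=
      fun i => ((b (Fin.castLE hle i) : Subalgebra.center k (K ⧸ I)) : K ⧸ I)
    have hzc : ∀ i c, z i * c = c * z i := fun i c =>
      (Subalgebra.mem_center_iff.1 (b (Fin.castLE hle i)).2 c).symm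
    have hzi : LinearIndependent k z := by
      have h1 := b.linearIndependent.comp (Fin.castLE hle) (Fin.castLE_injective hle)
      exact h1.map' (Subalgebra.toSubmodule (Subalgebra.center k (K ⧸ I))).subtype
        (Submodule.ker_subtype _)
    choose x hx using fun i => hps (z i)
    have hcen : ∀ i a, (x i * f) * a = a * (x i * f) := by
      intro i a
      have h1 : p (x i * a - a * x i) = 0 := by
        rw [map_sub, map_mul, map_mul, hx, sub_eq_zero]
        exact hzc i _
      rw [hp0, sub_mul, sub_eq_zero] at h1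
      rw [mul_assoc, hc, ← mul_assoc, h1, mul_assoc]
    refine hZ (fun i => x i * f) hcen (fun i => by rw [mul_assoc, hf]) ?_
    have h2 : z = p.toLinearMap ∘ (fun i => x i * f) := by
      funext i
      simp [hpf, hx]
    rw [h2] at hzi
    exact LinearIndependent.of_comp _ hzi
  -- the functionals
  have hT' : ∀ τ : (K ⧸ I) →ₗ[k] k, IsTr τ → τ (p a₀) = 0 → τ = 0 := by
    intro τ hτ h0
    have h1 := hT (τ ∘ₗ p.toLinearMap) (fun x y => by
        change τ (p (x * y)) = τ (p (y * x))
        rw [map_mul p, map_mul p, hτ.1]) (fun x hx => by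
        change τ (p x) = 0
        exact hτ.2 _ (hx.map p)) (fun x => by
        change τ (p (x * f)) = τ (p x)
        rw [map_mul p, hpf, mul_one]) h0
    refine LinearMap.ext fun y => ?_
    obtain ⟨y, rfl⟩ := hps y
    exact congrArg (fun φ : K →ₗ[k] k => φ y) h1
  have hC' : ∀ (W : Type (max u v)) [AddCommGroup W] [Module k W] [FiniteDimensional k W]
      (ρ : (K ⧸ I) →ₐ[k] Module.End k W),
      (∀ ψ : Module.End k W, (∀ a, ψ * ρ a = ρ a * ψ) → ∃ c : k, IsNilpotent (ψ - algebraMap k _ c)) →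
      finrank k W ≤ C := by
    intro W _ _ _ ρ hρ
    let ρ' : K →ₐ[k] Module.End k W := ρ.comp p
    let R : G →* Module.End k W :=
      { toFun := fun g => ρ' (single g (1 : k))
        map_one' := by
          rw [← MonoidAlgebra.one_def, map_one]
        map_mul' := fun x y => by
          rw [← map_mul, single_mul_single, one_mul] }
    have hRx : ∀ x : K, ρ' x = ∑ g, x.coeff g • R g := by
      intro x
      conv_lhs => rw [eq_sum_single x]
      rw [map_sum]
      refine Finset.sum_congr rfl fun g _ => ?_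
      rw [single_eq_smul, map_smul]
      rfl
    refine hC W R ?_ ?_
    · rw [← hRx]
      change ρ (p f) = 1
      rw [hpf, map_one]
    · intro ψ hψ
      refine hρ ψ fun a => ?_
      obtain ⟨x, rfl⟩ := hps a
      change ψ * ρ' x = ρ' x * ψ
      rw [hRx, Finset.mul_sum, Finset.sum_mul]
      refine Finset.sum_congr rfl fun g _ => ?_
      rw [mul_smul_comm, smul_mul_assoc, hψ g]
  obtain ⟨g, hg, h1, h2⟩ := mat_bound_bdd t ht hnd (p a₀) hT' C hC'
  have hkerp : LinearMap.ker p.toLinearMap = LinearMap.ker (LinearMap.mulRight k f) := by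
    ext x
    simp only [LinearMap.mem_ker, LinearMap.mulRight_apply]
    exact hp0 x
  have hA : finrank k (K ⧸ I) + finrank k (LinearMap.ker (LinearMap.mulRight k f)) = finrank k K := by
    have h1 := LinearMap.finrank_range_add_finrank_ker p.toLinearMap
    rw [LinearMap.range_eq_top.2 hps, finrank_top, hkerp] at h1
    exact h1
  refine ⟨g, hg, ?_, ?_⟩
  · intro W hWl hWr hW hfW
    let W' : Submodule k (K ⧸ I) := W.map p.toLinearMap
    have h3 := h1 W'
      (by
        rintro a _ ⟨x, hx, rfl⟩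
        obtain ⟨a, rfl⟩ := hps a
        exact ⟨a * x, hWl _ _ hx, by simp⟩)
      (by
        rintro a _ ⟨x, hx, rfl⟩
        obtain ⟨a, rfl⟩ := hps a
        exact ⟨x * a, hWr _ _ hx, by simp⟩)
      (by
        rintro ⟨w, hw, hw1⟩
        have h1 : p (w - 1) = 0 := by
          rw [map_sub, map_one, sub_eq_zero]
          exact hw1
        rw [hp0, sub_mul, one_mul, sub_eq_zero] at h1
        exact hfW (h1 ▸ hWr _ _ hw))
    have hW' : finrank k W' + finrank k (LinearMap.ker (LinearMap.mulRight k f)) = finrank k W := by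
      have h1 := LinearMap.finrank_range_add_finrank_ker (p.toLinearMap.domRestrict W)
      have h2 : LinearMap.range (p.toLinearMap.domRestrict W) = W' := by
        rw [LinearMap.range_domRestrict]
      have hle : LinearMap.ker (LinearMap.mulRight k f) ≤ W := by
        intro x hx
        exact hW x (by simpa using hx)
      have h3 : LinearMap.ker (p.toLinearMap.domRestrict W) =
          (LinearMap.ker (LinearMap.mulRight k f)).comap W.subtype := by
        rw [LinearMap.ker_domRestrict, hkerp]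
      rw [h2, h3] at h1
      rw [← h1]
      congr 1
      exact (LinearEquiv.finrank_eq (Submodule.comapSubtypeEquivOfLe hle)).symm
    omega
  · have h3 : finrank k (K ⧸ I) ≤ g ^ 2 * n := h2.trans (Nat.mul_le_mul_left _ hZ')
    omega

end Abs

section Reduction

variable {p : ℕ} {M : Ideal AlgInt} [hMp : M.IsPrime] {V : ValuationSubring ℂ}

local notation "Om" => MonoidAlgebra V G
local notation "Kk" => MonoidAlgebra (Kf V) G

/-- **Blocks of rank one with bounded modules: all members agree on regular elements.** -/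
theorem agree_of_rank_one_bdd [hpF : Fact p.Prime] (hV1 : ∀ z, MemLocalRing M z → z ∈ V)
    (hV2 : ∀ z, MemLocalIdeal M z → z ∈ V.nonunits) (hpV : ((p : ℕ) : Kf V) = 0)
    {B : Set (IrrCharacter G)} (hB : IsPBlock M B) (hl : blockRank p B = 1) (C : ℕ)
    (hC : ∀ (f : Kk) (e : Om), iotaV V e = Phi (blkInd B) → rhoV V e = f →
      ∀ (W : Type u) [AddCommGroup W] [Module (Kf V) W] [FiniteDimensional (Kf V) W]
      (R : G →* Module.End (Kf V) W), (∑ g, f.coeff g • R g = 1) →
      (∀ ψ : Module.End (Kf V) W, (∀ g, ψ * R g = R g * ψ) →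
        ∃ c : Kf V, IsNilpotent (ψ - algebraMap (Kf V) _ c)) →
      finrank (Kf V) W ≤ C)
    {χ₀ : IrrCharacter G} (hχ₀ : χ₀ ∈ B) (ξ : IrrCharacter G) (hξ : ξ ∈ B) (s : G)
    (hs : ¬ p ∣ orderOf s) : (ξ : G → ℂ) s = (χ₀ : G → ℂ) s := by
  classical
  have : IsAlgClosed (Kf V) := isAlgClosed_residue V
  have hp := hpF.out
  obtain ⟨e, he, hec⟩ := exists_liftZ (V := V) hV1 (blkInd_mem_Zc hB)
  set f : Kk := rhoV V e with hf
  have hee : e * e = e := by
    apply iotaV_injective
    rw [map_mul, he, ← Phi_mul, blkInd_mul_self]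
  have hff : f * f = f := by rw [hf, ← map_mul, hee]
  have hfc : ∀ x, f * x = x * f := rho_central hec
  have hcardK : finrank (Kf V) Kk = Nat.card G := by
    rw [Module.finrank_eq_card_basis (MonoidAlgebra.basis G (Kf V)), Nat.card_eq_fintype_card]
  have hf0 : f ≠ 0 := fun h => not_mem_Ki he hχ₀ (by
    rw [← hf, h]
    exact Submodule.zero_mem _)
  obtain ⟨a₀, ha₀⟩ := exists_a0 hpV hχ₀ hl he
  obtain ⟨g, hg, h1, h2⟩ := block_bound_bdd f hff hfc hf0 (bF B).card C
    (fun W _ _ _ R h1 h2 => hC f e he rfl W R h1 h2)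
    (fun c hc hcf => not_indep' he c hc hcf) a₀ ha₀
  have hdeg : ∀ χ : IrrCharacter G,
      finrank ℂ (LinearMap.range (LinearMap.mulRight ℂ (Phi (blkInd {χ})))) =
        charDegree (χ : G → ℂ) ^ 2 := by
    intro χ
    have h1 := finrank_Phi ({χ} : Set (IrrCharacter G))
    rw [Finset.sum_eq_single χ] at h1
    · rw [blkInd_of_mem (Set.mem_singleton χ), one_mul,
        one_eq_charDegree (IsIrrCharacter.isCharacter χ.2)] at h1
      exact_mod_cast h1
    · intro ψ _ hψ
      have : ψ ∉ ({χ} : Set (IrrCharacter G)) := hψ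
      rw [blkInd_of_not_mem this, zero_mul]
    · simp
  have hlow : ∀ χ ∈ B, g ^ 2 ≤ charDegree (χ : G → ℂ) ^ 2 := by
    intro χ hχ
    have h3 := h1 (Ki (V := V) (Phi (blkInd {χ}))) Ki_mul_left Ki_mul_right
      (by
        intro x hx
        obtain ⟨x', rfl⟩ := rhoV_surjective x
        refine ⟨x' * (1 - e), ?_, ?_⟩
        · rw [map_mul, mul_assoc, map_sub, map_one, he, sub_mul, one_mul, ← Phi_mul,
            blkInd_singleton_mul hχ, sub_self, mul_zero]
        · rw [map_mul, map_sub, map_one, mul_sub, mul_one, ← hf, hx, sub_zero])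
      (not_mem_Ki he hχ)
    have h4 := finrank_add_Ki_le (V := V) (Phi (blkInd {χ}))
    rw [hdeg] at h4
    omega
  -- the sum of the squares
  have hsum : finrank ℂ (LinearMap.range (LinearMap.mulRight ℂ (Phi (blkInd Bᶜ)))) +
      ∑ χ ∈ bF B, charDegree (χ : G → ℂ) ^ 2 = Nat.card G := by
    have h3 := finrank_Phi (Bᶜ : Set (IrrCharacter G))
    have h4 : ∑ χ : IrrCharacter G, ((χ : G → ℂ) 1) ^ 2 = (Nat.card G : ℂ) := by
      rw [← sum_irr_degree_sq (G := G)]
      refine Finset.sum_congr rfl fun χ _ => ?_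
      rw [one_eq_charDegree (IsIrrCharacter.isCharacter χ.2)]
      simp [sq]
    have h5 : ∑ χ : IrrCharacter G, ((χ : G → ℂ) 1) ^ 2 =
        ∑ χ : IrrCharacter G, blkInd Bᶜ χ * ((χ : G → ℂ) 1) ^ 2 +
          ∑ χ : IrrCharacter G, blkInd B χ * ((χ : G → ℂ) 1) ^ 2 := by
      rw [← Finset.sum_add_distrib]
      refine Finset.sum_congr rfl fun χ _ => ?_
      by_cases hχ : χ ∈ B
      · have : χ ∉ Bᶜ := fun h => h hχ
        rw [blkInd_of_mem hχ, blkInd_of_not_mem this]
        ring
      · have : χ ∈ Bᶜ := hχ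
        rw [blkInd_of_not_mem hχ, blkInd_of_mem this]
        ring
    have h6 : ∑ χ : IrrCharacter G, blkInd B χ * ((χ : G → ℂ) 1) ^ 2 =
        ∑ χ ∈ bF B, ((χ : G → ℂ) 1) ^ 2 := by
      rw [← finsum_mem_eq_sum_blkInd, finsum_mem_eq_sum_bF]
    rw [h4, h6, ← h3] at h5
    have h7 : ∑ χ ∈ bF B, ((χ : G → ℂ) 1) ^ 2 = ((∑ χ ∈ bF B, charDegree (χ : G → ℂ) ^ 2 : ℕ) : ℂ) := by
      push_cast
      refine Finset.sum_congr rfl fun χ _ => ?_
      rw [one_eq_charDegree (IsIrrCharacter.isCharacter χ.2)]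
    rw [h7] at h5
    exact_mod_cast h5.symm
  -- the complementary ideal
  have hker : finrank (Kf V) (LinearMap.ker (LinearMap.mulRight (Kf V) f)) ≤
      finrank ℂ (LinearMap.range (LinearMap.mulRight ℂ (Phi (blkInd Bᶜ)))) := by
    have h3 := finrank_add_Ki_le (V := V) (Phi (blkInd Bᶜ))
    have hcomp : Phi (blkInd Bᶜ) = 1 - Phi (blkInd B) := by
      rw [← Phi_one, ← Phi_sub]
      congr 1
      funext ψ
      by_cases hψ : ψ ∈ B
      · have : ψ ∉ Bᶜ := fun h => h hψ
        simp [blkInd_of_not_mem this, blkInd_of_mem hψ]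
      · have : ψ ∈ Bᶜ := hψ
        simp [blkInd_of_mem this, blkInd_of_not_mem hψ]
    have h4 : Ki (V := V) (Phi (blkInd Bᶜ)) ≤ LinearMap.ker (LinearMap.mulRight (Kf V) (1 - f)) := by
      rintro _ ⟨a, ha, rfl⟩
      rw [LinearMap.mem_ker, LinearMap.mulRight_apply]
      have h5 : a * (1 - e) = 0 := by
        apply iotaV_injective
        rw [map_mul, map_sub, map_one, he, ← hcomp, ha, map_zero]
      have h6 := congrArg (rhoV V) h5
      rwa [map_mul, map_sub, map_one, map_zero] at h6
    have h7 := Submodule.finrank_mono h4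
    have h8 : LinearMap.ker (LinearMap.mulRight (Kf V) f) =
        LinearMap.range (LinearMap.mulRight (Kf V) (1 - f)) := by
      ext x
      simp only [LinearMap.mem_ker, LinearMap.mulRight_apply, LinearMap.mem_range]
      constructor
      · intro hx
        exact ⟨x, by rw [mul_sub, mul_one, hx, sub_zero]⟩
      · rintro ⟨y, rfl⟩
        rw [mul_assoc, sub_mul, one_mul, hff, sub_self, mul_zero]
    have h9 := LinearMap.finrank_range_add_finrank_ker (LinearMap.mulRight (Kf V) (1 - f))
    rw [← h8] at h9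
    rw [hcardK] at h3 h9
    omega
  rw [hcardK] at h2
  have hsumle : ∑ χ ∈ bF B, charDegree (χ : G → ℂ) ^ 2 ≤ g ^ 2 * (bF B).card := by omega
  have heq : ∀ χ ∈ B, charDegree (χ : G → ℂ) ^ 2 = g ^ 2 := by
    intro χ hχ
    by_contra hne
    have hlt : g ^ 2 < charDegree (χ : G → ℂ) ^ 2 := lt_of_le_of_ne (hlow χ hχ) (Ne.symm hne)
    have h3 : ∑ _χ ∈ bF B, g ^ 2 < ∑ χ ∈ bF B, charDegree (χ : G → ℂ) ^ 2 :=
      Finset.sum_lt_sum (fun χ hχ => hlow χ (mem_bF.1 hχ)) ⟨χ, mem_bF.2 hχ, hlt⟩
    rw [Finset.sum_const, smul_eq_mul, mul_comm] at h3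
    omega
  have hdegeq : charDegree (ξ : G → ℂ) = charDegree (χ₀ : G → ℂ) := by
    have h3 := (heq ξ hξ).trans (heq χ₀ hχ₀).symm
    exact Nat.pow_left_injective (n := 2) (by norm_num) h3
  have hreg1 : ¬ p ∣ orderOf (1 : G) := by simp [hp.one_lt.ne']
  have hξ1 : pRegularPart p (χ₀ : G → ℂ) ≠ 0 := by
    intro h
    have := congrFun h 1
    rw [pRegularPart_of_reg _ hreg1] at this
    exact irr_one_ne_zero' χ₀.2 this
  obtain ⟨c, hc⟩ := exists_mul_of_rank_one hχ₀ hl hξ1 ξ hξ
  have hc1 : c = 1 := by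
    have h3 := congrFun hc 1
    simp only [Pi.smul_apply, smul_eq_mul] at h3
    rw [pRegularPart_of_reg _ hreg1, pRegularPart_of_reg _ hreg1,
      one_eq_charDegree (IsIrrCharacter.isCharacter ξ.2),
      one_eq_charDegree (IsIrrCharacter.isCharacter χ₀.2), hdegeq] at h3
    have h4 : ((charDegree (χ₀ : G → ℂ) : ℕ) : ℂ) ≠ 0 := by
      rw [← one_eq_charDegree (IsIrrCharacter.isCharacter χ₀.2)]
      exact irr_one_ne_zero' χ₀.2
    field_simp at h3
    exact h3.symm
  have h3 := congrFun hc s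
  simp only [Pi.smul_apply, smul_eq_mul] at h3
  rw [pRegularPart_of_reg _ hs, pRegularPart_of_reg _ hs, hc1, one_mul] at h3
  exact h3

/-- **Cyclic defect groups bound the modules in a block.** -/
theorem module_bound [hpF : Fact p.Prime] (hM : IsPModular p M)
    (hV2 : ∀ z, MemLocalIdeal M z → z ∈ V.nonunits) (hpV : ((p : ℕ) : Kf V) = 0)
    {B : Set (IrrCharacter G)} (hB : IsPBlock M B) {D : Subgroup G} (hD : IsDefectGroup p M B D)
    (hcyc : IsCyclic D) (f : Kk) (e : Om) (he : iotaV V e = Phi (blkInd B)) (hf : rhoV V e = f)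
    (W : Type u) [AddCommGroup W] [Module (Kf V) W] [FiniteDimensional (Kf V) W]
    (R : G →* Module.End (Kf V) W) (h1 : ∑ g, f.coeff g • R g = 1)
    (h2 : ∀ ψ : Module.End (Kf V) W, (∀ g, ψ * R g = R g * ψ) →
      ∃ c : Kf V, IsNilpotent (ψ - algebraMap (Kf V) _ c)) :
    finrank (Kf V) W ≤ Nat.card G := by
  classical
  have hec : ∀ b : Om, e * b = b * e := central_of_iota fun b => by
    rw [he, Phi_central]
  have hfc : ∀ x, f * x = x * f := by
    rw [← hf]
    exact rho_central hec
  refine Cfsg.Agent.Lib.HigmanBound.finrank_le_card R (fun g => f.coeff g) (fun g x => class_of_central hfc g x) h1 ?_ h2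
  intro g hg
  have hz : ¬ MemLocalIdeal M (blockCoeff B g) := by
    intro hmem
    apply hg
    have h3 := hV2 _ hmem
    have h4 : ((e.coeff g : V) : ℂ) = blockCoeff B g := by
      rw [← coeff_iotaV, he, coeff_Phi, blockCoeff_eq_invF']
    rw [← h4] at h3
    rw [← hf, coeff_rhoV]
    exact (residue_eq_zero_iff' V _).2 h3
  have hle := Cfsg.Agent.Lib.BlockDefect.IsDefectGroup.sylow_conj hM hB hD hz
  -- a Sylow subgroup of the centralizer
  letI : Fintype (Subgroup.centralizer ({g} : Set G)) := Fintype.ofFinite _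
  obtain ⟨S⟩ : Nonempty (Sylow p (Subgroup.centralizer ({g} : Set G))) := inferInstance
  let Q : Subgroup G := (S : Subgroup (Subgroup.centralizer ({g} : Set G))).map
    (Subgroup.centralizer ({g} : Set G)).subtype
  have hQle : Q ≤ Subgroup.centralizer ({g} : Set G) := by
    rintro _ ⟨x, -, rfl⟩
    exact x.2
  have hQp : IsPGroup p Q := S.isPGroup'.map _
  obtain ⟨t, ht⟩ := hle Q hQp hQle
  have hQc : IsCyclic Q := by
    let φ : Q →* D :=
      { toFun := fun q => ⟨t * q * t⁻¹, ht ⟨q, q.2, rfl⟩⟩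
        map_one' := by
          apply Subtype.ext
          simp
        map_mul' := fun a b => by
          apply Subtype.ext
          simp [mul_assoc] }
    refine isCyclic_of_injective φ ?_
    intro a b hab
    have h3 : t * (a : G) * t⁻¹ = t * (b : G) * t⁻¹ := congrArg Subtype.val hab
    exact Subtype.ext (mul_left_cancel (mul_right_cancel h3))
  refine ⟨Q, hQle, hQc, (S : Subgroup (Subgroup.centralizer ({g} : Set G))).index, ?_, ?_⟩
  · have hchar : CharP (Kf V) p := (CharP.charP_iff_prime_eq_zero hpF.out).2 hpV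
    rw [Ne, CharP.cast_eq_zero_iff (Kf V) p]
    exact S.not_dvd_index
  · have h3 : Nat.card Q = Nat.card (S : Subgroup (Subgroup.centralizer ({g} : Set G))) :=
      Nat.card_congr (Subgroup.equivMapOfInjective _ _ Subtype.val_injective).toEquiv.symm
    rw [h3, mul_comm]
    exact (Subgroup.card_mul_index _).symm

end Reduction

end Cfsg.Agent.Lib.CycRankOne
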