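import Mathlib
import Cfsg.Prelude.Def_BlockFusion
import Cfsg.Agent.Lib.BrauerNil
import Cfsg.Agent.Lib.BlockSection
import Cfsg.Agent.Lib.BlockSecond

/-!
# Blocks induced inside a centralizer
-/

set_option autoImplicit false
set_option linter.unusedSectionVars false
set_option linter.unusedVariables false
set_option linter.style.haveILetI false

namespace Cfsg.Agent.Lib.BrauerIn

open Cfsg Cfsg.Agent.Lib.CharBasic Cfsg.Agent.Lib.CharInd Cfsg.Agent.Lib.CharIntegrality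
open Cfsg.Agent.Lib.BlockLocal Cfsg.Agent.Lib.BlockIdem Cfsg.Agent.Lib.BlockNormal
open Cfsg.Agent.Lib.BrauerMap Cfsg.Agent.Lib.BrauerPair Cfsg.Agent.Lib.BrauerSub
open Cfsg.Agent.Lib.BrauerConj Cfsg.Agent.Lib.BrauerThird Cfsg.Agent.Lib.BrauerMax
open Cfsg.Agent.Lib.BrauerStab Cfsg.Agent.Lib.BlockDefect Cfsg.Agent.Lib.BrauerCen
open Cfsg.Agent.Lib.BrauerFull Cfsg.Agent.Lib.BrauerLift Cfsg.Agent.Lib.BrauerIdx
open Cfsg.Agent.Lib.BrauerSat Cfsg.Agent.Lib.BrauerNil Cfsg.Agent.Lib.BlockSection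
open Cfsg.Agent.Lib.BlockSecond
open scoped ComplexConjugate Pointwise

universe u

variable {G : Type u} [Group G] [Fintype G] {p : ℕ} [hp : Fact p.Prime] {M : Ideal AlgInt}

local notation "𝐂[" R "]" => Subgroup.centralizer ((R : Subgroup G) : Set G)
local notation "𝐍[" R "]" => Subgroup.normalizer ((R : Subgroup G) : Set G)

noncomputable local instance fintypeSubIn {A : Type*} [Group A] [Finite A] (K : Subgroup A) : Fintype K :=
  Fintype.ofFinite K

variable {P Q : Subgroup G}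

/-- The centralizer of `P` inside `C_G(Q)`. -/
theorem cenMatch_in (hQP : Q ≤ P) (hPC : P ≤ 𝐂[Q]) :
    CenMatch (T := 𝐂[Q]) (P.subgroupOf 𝐂[Q]) P := by
  refine ⟨Subgroup.centralizer_le hQP, fun t => ?_⟩
  rw [Subgroup.mem_centralizer_iff, Subgroup.mem_centralizer_iff]
  constructor
  · intro h x hx
    exact congrArg Subtype.val (h ⟨x, hPC hx⟩ (by simpa [Subgroup.mem_subgroupOf] using hx))
  · intro h x hx
    exact Subtype.ext (h x hx)

/-- The two induced central characters. -/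
theorem inducedCentralCharIn_eq (hQP : Q ≤ P) (hPC : P ≤ 𝐂[Q]) (ξ : IrrCharacter 𝐂[P]) (h : 𝐂[Q]) :
    inducedCentralChar (Subgroup.centralizer ((P.subgroupOf 𝐂[Q] : Subgroup 𝐂[Q]) : Set 𝐂[Q]))
        (twistE (cenMatch_in hQP hPC).iso.symm ξ : _ → ℂ) h =
      inducedCentralCharIn 𝐂[Q] 𝐂[P] (ξ : 𝐂[P] → ℂ) (h : G) := by
  classical
  set m := cenMatch_in hQP hPC
  unfold inducedCentralChar inducedCentralCharIn
  rw [finsum_mem_def, finsum_mem_def, finsum_eq_sum_of_fintype, finsum_eq_sum_of_fintype]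
  refine Fintype.sum_equiv m.iso.toEquiv _ _ fun c => ?_
  have h2 : ((m.iso.toEquiv c : 𝐂[P]) : G) = (((c : Subgroup.centralizer ((P.subgroupOf 𝐂[Q] : Subgroup 𝐂[Q]) : Set 𝐂[Q])) : 𝐂[Q]) : G) := rfl
  have hmem : IsConj h (c : 𝐂[Q]) ↔
      ∃ x : 𝐂[Q], (x : G) * ((m.iso.toEquiv c : 𝐂[P]) : G) * (x : G)⁻¹ = (h : G) := by
    rw [_root_.isConj_iff, h2]
    constructor
    · rintro ⟨x, hx⟩
      refine ⟨x⁻¹, ?_⟩
      have := congrArg Subtype.val hx
      simp only [Subgroup.coe_mul, InvMemClass.coe_inv] at this ⊢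
      rw [← this]
      group
    · rintro ⟨x, hx⟩
      refine ⟨x⁻¹, Subtype.ext ?_⟩
      simp only [Subgroup.coe_mul, InvMemClass.coe_inv]
      rw [← hx]
      group
  rw [Set.indicator_apply, Set.indicator_apply]
  simp only [Set.mem_ofPred_eq]
  by_cases hc : IsConj h (c : 𝐂[Q])
  · rw [if_pos hc, if_pos (hmem.1 hc)]
    simp [twistE_apply]
  · rw [if_neg hc, if_neg (fun h3 => hc (hmem.2 h3))]

/-- Induction inside `C_G(Q)` is induction in the group `C_G(Q)`. -/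
theorem isInducedBlockIn_iff (hQP : Q ≤ P) (hPC : P ≤ 𝐂[Q]) {c : Set (IrrCharacter 𝐂[P])}
    {f : Set (IrrCharacter 𝐂[Q])} :
    IsInducedBlockIn M 𝐂[Q] 𝐂[P] c f ↔
      IsInducedBlock M (Subgroup.centralizer ((P.subgroupOf 𝐂[Q] : Subgroup 𝐂[Q]) : Set 𝐂[Q]))
        (twistSetE (cenMatch_in hQP hPC).iso.symm c) f := by
  set m := cenMatch_in hQP hPC
  constructor
  · rintro ⟨h1, h2, h3⟩
    refine ⟨isPBlock_twistSetE _ h1, h2, ?_⟩
    rintro _ ⟨ξ, hξ, rfl⟩ χ hχ g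
    rw [inducedCentralCharIn_eq hQP hPC]
    exact h3 ξ hξ χ hχ g
  · rintro ⟨h1, h2, h3⟩
    have h1' : IsPBlock M c := by
      have := isPBlock_twistSetE m.iso h1
      rwa [m.twistSetE_symm] at this
    refine ⟨h1', h2, fun ξ hξ χ hχ g => ?_⟩
    rw [← inducedCentralCharIn_eq hQP hPC]
    exact h3 _ ⟨ξ, hξ, rfl⟩ χ hχ g

/-- There is an induced block inside `C_G(Q)`. -/
theorem exists_isInducedBlockIn (hM : IsPModular p M) (hPp : IsPGroup p P) (hQP : Q ≤ P) (hPC : P ≤ 𝐂[Q])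
    {c : Set (IrrCharacter 𝐂[P])} (hc : IsPBlock M c) :
    ∃ f : Set (IrrCharacter 𝐂[Q]), IsInducedBlockIn M 𝐂[Q] 𝐂[P] c f := by
  have hPh : IsPGroup p (P.subgroupOf 𝐂[Q]) := hPp.comap_of_injective (𝐂[Q]).subtype Subtype.val_injective
  obtain ⟨f, hf⟩ := exists_isInducedBlock_centralizer (G := 𝐂[Q]) (p := p) hM hPh rfl
    (isPBlock_twistSetE (cenMatch_in hQP hPC).iso.symm hc)
  exact ⟨f, (isInducedBlockIn_iff hQP hPC).2 hf⟩

/-- An induced block gives a Brauer pair of the block of `C_G(Q)`. -/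
theorem isBrauerPairOf_in (hM : IsPModular p M) (hPp : IsPGroup p P) (hQP : Q ≤ P) (hPC : P ≤ 𝐂[Q])
    {c : Set (IrrCharacter 𝐂[P])} {f : Set (IrrCharacter 𝐂[Q])} (h : IsInducedBlockIn M 𝐂[Q] 𝐂[P] c f) :
    IsBrauerPairOf p M f (P.subgroupOf 𝐂[Q]) (twistSetE (cenMatch_in hQP hPC).iso.symm c) := by
  have hPh : IsPGroup p (P.subgroupOf 𝐂[Q]) := hPp.comap_of_injective (𝐂[Q]).subtype Subtype.val_injective
  exact isBrauerPairOf_of_isInducedBlock hM hPh ((isInducedBlockIn_iff hQP hPC).1 h)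

/-- The normal inclusion obtained from an induced block. -/
theorem isNormalSubpair_of_in (hPp : IsPGroup p P) (hQP : Q ≤ P) (hPC : P ≤ 𝐂[Q])
    {c : Set (IrrCharacter 𝐂[P])} {f : Set (IrrCharacter 𝐂[Q])}
    (h : IsBrauerPairOf p M f (P.subgroupOf 𝐂[Q]) (twistSetE (cenMatch_in hQP hPC).iso.symm c))
    (hc : IsPBlock M c) (hf : IsPBlock M f) : IsNormalSubpair p M Q f P c := by
  set m := cenMatch_in hQP hPC
  refine ⟨⟨hPp.to_le hQP, hf⟩, ⟨hPp, hc⟩, hQP, fun x hx => mem_normalizer_of_mem_centralizer (hPC hx),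
    fun x hx => stabilizes_of_mem_centralizer (hPC hx) f, fun ξ hξ => ?_⟩
  have h1 := h.2.2 _ ⟨ξ, hξ, rfl⟩
  rw [brauerOmega_eq, m.brO_eq (α := subgroupBlockCoeff 𝐂[Q] f)
    (fun t => (subgroupBlockCoeff_eq_ext0 _ f ▸ (ext0_coe _ _ t).symm)), twistE_symm_twistE] at h1
  rw [brauerOmega_eq]
  exact h1

/-- The maximality of the pair inside `C_G(Q)`. -/
theorem isMaximal_in (hM : IsPModular p M) {B : Set (IrrCharacter G)} (hPD : IsDefectGroup p M B P)
    (hQP : Q ≤ P) (hPC : P ≤ 𝐂[Q])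
    {c : Set (IrrCharacter 𝐂[P])} {f : Set (IrrCharacter 𝐂[Q])} (hcB : IsBrauerPairOf p M B P c)
    (h : IsBrauerPairOf p M f (P.subgroupOf 𝐂[Q]) (twistSetE (cenMatch_in hQP hPC).iso.symm c))
    (hf : IsPBlock M f) :
    IsMaximalBrauerPair p M f (P.subgroupOf 𝐂[Q]) (twistSetE (cenMatch_in hQP hPC).iso.symm c) := by
  haveI := isPrime_of_isPModular hM
  have hPp : IsPGroup p P := hcB.1.1
  have hn := isNormalSubpair_of_in hPp hQP hPC h hcB.1.2 hf
  have hQf : IsBrauerPairOf p M B Q f := (isBrauerPairOf_iff_of_normal hM hcB.2.1 hn).2 hcB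
  refine ⟨h, fun Rh g hg hle => ?_⟩
  have hle1 := le_of_subpairLE hle
  set R' := Q ⊔ Rh.map (𝐂[Q]).subtype with hR'
  have m : CenMatch (T := 𝐂[Q]) Rh R' := by
    refine ⟨centralizer_le_centralizer le_sup_left, fun t => ?_⟩
    constructor
    · intro h
      refine mem_centralizer_sup.2 ⟨t.2, ?_⟩
      rw [Subgroup.mem_centralizer_iff]
      rintro _ ⟨s, hs, rfl⟩
      exact congrArg Subtype.val ((Subgroup.mem_centralizer_iff.1 h) s hs)
    · intro h
      rw [Subgroup.mem_centralizer_iff]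
      intro s hs
      apply Subtype.ext
      exact (Subgroup.mem_centralizer_iff.1 h) s (Subgroup.mem_sup_right ⟨s, hs, rfl⟩)
  have hRm : Rh.map (𝐂[Q]).subtype ≤ 𝐍[Q] := by
    rintro _ ⟨s, hs, rfl⟩
    exact mem_normalizer_of_mem_centralizer s.2
  have hRp : IsPGroup p R' :=
    IsPGroup.to_sup_of_normal_left' hQf.1.1 (hg.1.1.map _) hRm
  have hn' : IsNormalSubpair p M Q f R' (twistSetE m.iso g) := by
    refine ⟨hQf.1, ⟨hRp, isPBlock_twistSetE _ hg.1.2⟩, le_sup_left,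
      sup_le (le_normalizer_self Q) hRm, ?_, ?_⟩
    · intro s hs
      have h1 : R' ≤ stabSub 𝐂[Q] f hQf.1.2 := by
        refine sup_le (fun q hq => ?_) ?_
        · refine stabilizes_of_centralizes (fun k hk => ?_) f
          rw [(Subgroup.mem_centralizer_iff.1 hk) q hq]
          group
        · rintro _ ⟨c, -, rfl⟩
          exact stabilizes_of_mem_centralizer c.2 f
      exact h1 hs
    · rintro _ ⟨ξ, hξ, rfl⟩
      have h1 := hg.2.2 ξ hξ
      rw [brauerOmega_eq, m.brO_eq (α := subgroupBlockCoeff 𝐂[Q] f)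
        (fun t => (subgroupBlockCoeff_eq_ext0 _ f ▸ (ext0_coe _ _ t).symm))] at h1
      rw [brauerOmega_eq]
      exact h1
  have hR'B := (isBrauerPairOf_iff_of_normal hM hcB.2.1 hn').1 hQf
  obtain ⟨D₁, hD₁, h2⟩ := exists_defect_ge hM hR'B
  have h3 := card_isDefectGroup hM hcB.2.1 hPD
  have h4 := card_isDefectGroup hM hcB.2.1 hD₁
  have hPR : P ≤ R' := by
    intro x hx
    have : (⟨x, hPC hx⟩ : 𝐂[Q]) ∈ Rh := hle1 (by simpa [Subgroup.mem_subgroupOf] using hx)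
    exact Subgroup.mem_sup_right ⟨_, this, rfl⟩
  have h5 : P = R' := by
    refine Subgroup.eq_of_le_of_card_ge hPR ?_
    rw [h3, ← h4]
    exact Subgroup.card_le_of_le h2
  refine le_antisymm (fun x hx => ?_) hle1
  have : (x : G) ∈ R' := Subgroup.mem_sup_right ⟨x, hx, rfl⟩
  rw [← h5] at this
  simpa [Subgroup.mem_subgroupOf] using this

end Cfsg.Agent.Lib.BrauerIn
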