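import Mathlib
import Cfsg.Agent.Lib.CharInd
import Cfsg.Prelude.Def_ParabolicCharacters

set_option autoImplicit false

namespace Cfsg.Agent.Lib.GL2Char

open Cfsg Cfsg.Agent.Lib.CharBasic Cfsg.Agent.Lib.CharInd Matrix
open scoped ComplexConjugate

section Reps

variable {G : Type*} [Group G] [Fintype G]

/-- Summing a right-`H`-invariant function along a transversal. -/
theorem sum_eq_card_mul_sum_reps (H : Subgroup G) [Fintype H] {I : Type*} [Fintype I]
    (r : I → G) (hr : Function.Bijective (fun i => (QuotientGroup.mk (r i) : G ⧸ H)))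
    (f : G → ℂ) (hf : ∀ x, ∀ h ∈ H, f (x * h) = f x) :
    ∑ x : G, f x = (Fintype.card H : ℂ) * ∑ i : I, f (r i) := by
  classical
  have hbij : Function.Bijective (fun p : I × H => r p.1 * (p.2 : G)) := by
    constructor
    · rintro ⟨i, h⟩ ⟨j, k⟩ hE
      simp only at hE
      have h1 : (QuotientGroup.mk (r i) : G ⧸ H) = QuotientGroup.mk (r j) := by
        rw [QuotientGroup.eq]
        have : (r i)⁻¹ * r j = h * (k : G)⁻¹ := by
          rw [eq_mul_inv_iff_mul_eq, mul_assoc, inv_mul_eq_iff_eq_mul]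
          exact hE.symm
        rw [this]
        exact H.mul_mem h.2 (H.inv_mem k.2)
      have hij : i = j := hr.1 h1
      subst hij
      have : (h : G) = k := mul_left_cancel hE
      rw [Subtype.ext this]
    · intro x
      obtain ⟨i, hi⟩ := hr.2 (QuotientGroup.mk x : G ⧸ H)
      have hi' : (QuotientGroup.mk (r i) : G ⧸ H) = QuotientGroup.mk x := hi
      rw [QuotientGroup.eq] at hi'
      exact ⟨(i, ⟨_, hi'⟩), by simp⟩
  rw [← Function.Bijective.sum_comp hbij, Fintype.sum_prod_type]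
  have : ∀ i : I, ∑ h : H, f (r i * (h : G)) = (Fintype.card H : ℂ) * f (r i) := by
    intro i
    rw [Finset.sum_congr rfl (fun (h : H) _ => hf (r i) (h : G) h.2)]
    simp [Finset.card_univ]
  simp only [this, Finset.mul_sum]

/-- The induced function along a transversal. -/
theorem indFun_eq_sum_reps (H : Subgroup G) [Fintype H] {I : Type*} [Fintype I]
    (r : I → G) (hr : Function.Bijective (fun i => (QuotientGroup.mk (r i) : G ⧸ H)))
    (θ : H → ℂ) (hθ : IsClassFunction H θ) (g : G) :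
    indFun H θ g = ∑ i : I, extendByZero H θ ((r i)⁻¹ * g * r i) := by
  rw [indFun_apply, sum_eq_card_mul_sum_reps H r hr]
  · rw [Nat.card_eq_fintype_card, ← mul_assoc, inv_mul_cancel₀, one_mul]
    exact_mod_cast Fintype.card_ne_zero
  · intro x h hh
    have := extendByZero_conj_of_mem H hθ (x⁻¹ * g * x) (H.inv_mem hh)
    rw [inv_inv] at this
    rw [← this]
    congr 1
    group

end Reps

section GL2

variable {F : Type*} [Field F]

local notation "G2" => Matrix.GeneralLinearGroup (Fin 2) F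
local notation "B2" => Cfsg.upperTriangularGL 2 F

theorem mem_B_iff (x : G2) : x ∈ B2 ↔ (x : Matrix (Fin 2) (Fin 2) F) 1 0 = 0 := by
  constructor
  · intro h
    exact h (by simp)
  · intro h i j hij
    simp only [id] at hij
    have hi : i = 1 := by omega
    have hj : j = 0 := by omega
    subst hi hj
    exact h

theorem det_ne (x : G2) : (x : Matrix (Fin 2) (Fin 2) F).det ≠ 0 :=
  ((Matrix.isUnit_iff_isUnit_det _).mp x.isUnit).ne_zero

/-- The matrix entries of the inverse. -/
theorem inv_coe (x : G2) : ((x⁻¹ : G2) : Matrix (Fin 2) (Fin 2) F) =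
    ((x : Matrix (Fin 2) (Fin 2) F).det)⁻¹ • !![(x : Matrix (Fin 2) (Fin 2) F) 1 1, -(x : Matrix (Fin 2) (Fin 2) F) 0 1;
      -(x : Matrix (Fin 2) (Fin 2) F) 1 0, (x : Matrix (Fin 2) (Fin 2) F) 0 0] := by
  rw [Matrix.coe_units_inv, Matrix.inv_def, Matrix.adjugate_fin_two]
  simp

/-- An explicit invertible matrix. -/
noncomputable def mk2 (a b c d : F) (h : a * d - b * c ≠ 0) : G2 :=
  Matrix.GeneralLinearGroup.mkOfDetNeZero !![a, b; c, d] (by rwa [Matrix.det_fin_two_of])

@[simp] theorem coe_mk2 (a b c d : F) (h : a * d - b * c ≠ 0) :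
    ((mk2 a b c d h : G2) : Matrix (Fin 2) (Fin 2) F) = !![a, b; c, d] := rfl

theorem mk2_apply00 (a b c d : F) (h : a * d - b * c ≠ 0) :
    ((mk2 a b c d h : G2) : Matrix (Fin 2) (Fin 2) F) 0 0 = a := rfl
theorem mk2_apply01 (a b c d : F) (h : a * d - b * c ≠ 0) :
    ((mk2 a b c d h : G2) : Matrix (Fin 2) (Fin 2) F) 0 1 = b := rfl
theorem mk2_apply10 (a b c d : F) (h : a * d - b * c ≠ 0) :
    ((mk2 a b c d h : G2) : Matrix (Fin 2) (Fin 2) F) 1 0 = c := rfl
theorem mk2_apply11 (a b c d : F) (h : a * d - b * c ≠ 0) :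
    ((mk2 a b c d h : G2) : Matrix (Fin 2) (Fin 2) F) 1 1 = d := rfl

theorem ext2 {x y : G2}
    (h00 : (x : Matrix (Fin 2) (Fin 2) F) 0 0 = (y : Matrix (Fin 2) (Fin 2) F) 0 0)
    (h01 : (x : Matrix (Fin 2) (Fin 2) F) 0 1 = (y : Matrix (Fin 2) (Fin 2) F) 0 1)
    (h10 : (x : Matrix (Fin 2) (Fin 2) F) 1 0 = (y : Matrix (Fin 2) (Fin 2) F) 1 0)
    (h11 : (x : Matrix (Fin 2) (Fin 2) F) 1 1 = (y : Matrix (Fin 2) (Fin 2) F) 1 1) : x = y := by
  apply Units.ext
  ext i j
  fin_cases i <;> fin_cases j <;> assumption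

/-- entries of a product -/
theorem mul_entries (x y : G2) :
    ((x * y : G2) : Matrix (Fin 2) (Fin 2) F) 0 0 = (x : Matrix (Fin 2) (Fin 2) F) 0 0 * (y : Matrix (Fin 2) (Fin 2) F) 0 0 + (x : Matrix (Fin 2) (Fin 2) F) 0 1 * (y : Matrix (Fin 2) (Fin 2) F) 1 0 ∧
    ((x * y : G2) : Matrix (Fin 2) (Fin 2) F) 0 1 = (x : Matrix (Fin 2) (Fin 2) F) 0 0 * (y : Matrix (Fin 2) (Fin 2) F) 0 1 + (x : Matrix (Fin 2) (Fin 2) F) 0 1 * (y : Matrix (Fin 2) (Fin 2) F) 1 1 ∧
    ((x * y : G2) : Matrix (Fin 2) (Fin 2) F) 1 0 = (x : Matrix (Fin 2) (Fin 2) F) 1 0 * (y : Matrix (Fin 2) (Fin 2) F) 0 0 + (x : Matrix (Fin 2) (Fin 2) F) 1 1 * (y : Matrix (Fin 2) (Fin 2) F) 1 0 ∧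
    ((x * y : G2) : Matrix (Fin 2) (Fin 2) F) 1 1 = (x : Matrix (Fin 2) (Fin 2) F) 1 0 * (y : Matrix (Fin 2) (Fin 2) F) 0 1 + (x : Matrix (Fin 2) (Fin 2) F) 1 1 * (y : Matrix (Fin 2) (Fin 2) F) 1 1 := by
  rw [Units.val_mul]
  simp [Matrix.mul_apply, Fin.sum_univ_two]

/-- The coset representatives of `B` in `GL₂`. -/
noncomputable def rep : Option F → G2
  | none => 1
  | some t => mk2 t 1 1 0 (by simp)

/-- The point of the projective line determined by the first column. -/
noncomputable def col (x : G2) : Option F := by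
  classical
  exact if (x : Matrix (Fin 2) (Fin 2) F) 1 0 = 0 then none
    else some ((x : Matrix (Fin 2) (Fin 2) F) 0 0 / (x : Matrix (Fin 2) (Fin 2) F) 1 0)

theorem col_of_eq (x : G2) (h : (x : Matrix (Fin 2) (Fin 2) F) 1 0 = 0) : col x = none := by
  simp [col, h]

theorem col_of_ne (x : G2) (h : (x : Matrix (Fin 2) (Fin 2) F) 1 0 ≠ 0) :
    col x = some ((x : Matrix (Fin 2) (Fin 2) F) 0 0 / (x : Matrix (Fin 2) (Fin 2) F) 1 0) := by
  simp [col, h]

theorem col_rep (o : Option F) : col (rep o : G2) = o := by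
  cases o with
  | none => exact col_of_eq _ (by simp [rep])
  | some t =>
    rw [col_of_ne]
    · simp [rep, mk2_apply00, mk2_apply10]
    · simp [rep, mk2_apply10]

theorem col_eq_iff (x y : G2) : col x = col y ↔ x⁻¹ * y ∈ B2 := by
  classical
  have hx := det_ne x
  rw [Matrix.det_fin_two] at hx
  have hy := det_ne y
  rw [Matrix.det_fin_two] at hy
  have hmem : x⁻¹ * y ∈ B2 ↔ (x : Matrix (Fin 2) (Fin 2) F) 0 0 * (y : Matrix (Fin 2) (Fin 2) F) 1 0 -
      (x : Matrix (Fin 2) (Fin 2) F) 1 0 * (y : Matrix (Fin 2) (Fin 2) F) 0 0 = 0 := by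
    rw [mem_B_iff, (mul_entries _ _).2.2.1, inv_coe, Matrix.det_fin_two]
    simp only [Matrix.smul_apply, Matrix.of_apply, Matrix.cons_val', Matrix.cons_val_zero,
      Matrix.cons_val_one, Matrix.cons_val_fin_one, smul_eq_mul]
    constructor
    · intro h
      field_simp at h
      linear_combination h
    · intro h
      field_simp
      linear_combination h
  rw [hmem]
  by_cases hc : (x : Matrix (Fin 2) (Fin 2) F) 1 0 = 0
  · have ha : (x : Matrix (Fin 2) (Fin 2) F) 0 0 ≠ 0 := by
      intro h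
      apply hx
      rw [h, hc]
      ring
    rw [col_of_eq x hc, hc, zero_mul, sub_zero, mul_eq_zero]
    by_cases hc' : (y : Matrix (Fin 2) (Fin 2) F) 1 0 = 0
    · rw [col_of_eq y hc']
      simp [hc']
    · rw [col_of_ne y hc']
      simp [ha, hc']
  · rw [col_of_ne x hc]
    by_cases hc' : (y : Matrix (Fin 2) (Fin 2) F) 1 0 = 0
    · rw [col_of_eq y hc', hc', mul_zero, zero_sub, neg_eq_zero, mul_eq_zero]
      simp only [reduceCtorEq, false_iff]
      rintro (h | h)
      · exact hc h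
      · apply hy
        rw [h, hc']
        ring
    · rw [col_of_ne y hc', Option.some.injEq, div_eq_div_iff hc hc']
      constructor
      · intro h; linear_combination h
      · intro h; linear_combination h

theorem rep_bijective :
    Function.Bijective (fun o : Option F => (QuotientGroup.mk (rep o) : G2 ⧸ B2)) := by
  constructor
  · intro o o' h
    have h2 : (rep o : G2)⁻¹ * rep o' ∈ B2 := QuotientGroup.eq.mp h
    have := (col_eq_iff _ _).mpr h2
    rwa [col_rep, col_rep] at this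
  · intro q
    induction q using QuotientGroup.induction_on with
    | H x =>
      refine ⟨col x, ?_⟩
      apply QuotientGroup.eq.mpr
      rw [← col_eq_iff, col_rep]

/-- The matrix entries of a conjugate by a coset representative. -/
theorem conj_rep_entries (t : F) (g : G2) :
    let M : G2 := (rep (some t))⁻¹ * g * rep (some t)
    (M : Matrix (Fin 2) (Fin 2) F) 0 0 = (g : Matrix (Fin 2) (Fin 2) F) 1 0 * t + (g : Matrix (Fin 2) (Fin 2) F) 1 1 ∧
    (M : Matrix (Fin 2) (Fin 2) F) 1 0 = (g : Matrix (Fin 2) (Fin 2) F) 0 0 * t + (g : Matrix (Fin 2) (Fin 2) F) 0 1 -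
      t * ((g : Matrix (Fin 2) (Fin 2) F) 1 0 * t + (g : Matrix (Fin 2) (Fin 2) F) 1 1) ∧
    (M : Matrix (Fin 2) (Fin 2) F) 1 1 = (g : Matrix (Fin 2) (Fin 2) F) 0 0 - t * (g : Matrix (Fin 2) (Fin 2) F) 1 0 := by
  intro M
  have h1 : ((rep (some t))⁻¹ : G2) = mk2 0 1 1 (-t) (by simp) := by
    rw [inv_eq_iff_mul_eq_one]
    apply ext2
    · simp [(mul_entries _ _).1, rep, mk2_apply00, mk2_apply01, mk2_apply10, mk2_apply11]
    · simp [(mul_entries _ _).2.1, rep, mk2_apply00, mk2_apply01, mk2_apply10, mk2_apply11]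
    · simp [(mul_entries _ _).2.2.1, rep, mk2_apply00, mk2_apply01, mk2_apply10, mk2_apply11]
    · simp [(mul_entries _ _).2.2.2, rep, mk2_apply00, mk2_apply01, mk2_apply10, mk2_apply11]
  have hM : M = mk2 0 1 1 (-t) (by simp) * g * mk2 t 1 1 0 (by simp) := by
    simp only [M, h1]
    rfl
  rw [hM]
  simp only [(mul_entries _ _).1, (mul_entries _ _).2.1, (mul_entries _ _).2.2.1, (mul_entries _ _).2.2.2,
    mk2_apply00, mk2_apply01, mk2_apply10, mk2_apply11]
  refine ⟨by ring, by ring, by ring⟩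

/-! ### Principal series -/

variable (α β : MulChar F ℂ)

/-- The linear character of `B` attached to two multiplicative characters. -/
noncomputable def lam (α β : MulChar F ℂ) : B2 → ℂ := fun b =>
  α (((b : G2) : Matrix (Fin 2) (Fin 2) F) 0 0) * β (((b : G2) : Matrix (Fin 2) (Fin 2) F) 1 1)

theorem B_diag_ne (b : B2) : ((b : G2) : Matrix (Fin 2) (Fin 2) F) 0 0 ≠ 0 ∧
    ((b : G2) : Matrix (Fin 2) (Fin 2) F) 1 1 ≠ 0 := by
  have h := det_ne (b : G2)
  have h2 := (mem_B_iff (b : G2)).mp b.2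
  rw [Matrix.det_fin_two, h2, mul_zero, sub_zero] at h
  exact ⟨left_ne_zero_of_mul h, right_ne_zero_of_mul h⟩

theorem B_mul_diag (a b : B2) :
    (((a * b : B2) : G2) : Matrix (Fin 2) (Fin 2) F) 0 0 =
      ((a : G2) : Matrix (Fin 2) (Fin 2) F) 0 0 * ((b : G2) : Matrix (Fin 2) (Fin 2) F) 0 0 ∧
    (((a * b : B2) : G2) : Matrix (Fin 2) (Fin 2) F) 1 1 =
      ((a : G2) : Matrix (Fin 2) (Fin 2) F) 1 1 * ((b : G2) : Matrix (Fin 2) (Fin 2) F) 1 1 := by
  have ha := (mem_B_iff (a : G2)).mp a.2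
  have hb := (mem_B_iff (b : G2)).mp b.2
  have e : ((a * b : B2) : G2) = (a : G2) * (b : G2) := rfl
  rw [e, (mul_entries _ _).1, (mul_entries _ _).2.2.2, ha, hb]
  simp

/-- The diagonal homomorphism. -/
noncomputable def dhom1 : B2 →* Fˣ where
  toFun b := Units.mk0 _ (B_diag_ne b).1
  map_one' := by ext; simp
  map_mul' a b := Units.ext (B_mul_diag a b).1

/-- The diagonal homomorphism. -/
noncomputable def dhom2 : B2 →* Fˣ where
  toFun b := Units.mk0 _ (B_diag_ne b).2
  map_one' := by ext; simp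
  map_mul' a b := Units.ext (B_mul_diag a b).2

theorem coe_dhom1 (b : B2) : ((dhom1 b : Fˣ) : F) = ((b : G2) : Matrix (Fin 2) (Fin 2) F) 0 0 := rfl
theorem coe_dhom2 (b : B2) : ((dhom2 b : Fˣ) : F) = ((b : G2) : Matrix (Fin 2) (Fin 2) F) 1 1 := rfl

/-- `lam` is a homomorphism to the units of ℂ. -/
noncomputable def lamHom (α β : MulChar F ℂ) : B2 →* ℂˣ :=
  (α.toUnitHom.comp dhom1) * (β.toUnitHom.comp dhom2)

theorem coe_lamHom (b : B2) : ((lamHom α β b : ℂˣ) : ℂ) = lam α β b := by
  simp [lamHom, lam, MulChar.coe_toUnitHom, coe_dhom1, coe_dhom2]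

theorem lam_isIrr : IsIrrCharacter B2 (lam α β) := by
  have := isIrrCharacter_of_hom (lamHom α β)
  have e : (fun g => ((lamHom α β g : ℂˣ) : ℂ)) = lam α β := funext (coe_lamHom α β)
  rwa [e] at this

theorem lam_isChar : IsCharacter B2 (lam α β) :=
  Cfsg.Agent.Lib.CharBasic.IsIrrCharacter.isCharacter (lam_isIrr α β)

theorem lam_class : IsClassFunction B2 (lam α β) := isClassFunction_of_isCharacter (lam_isChar α β)

variable [DecidableEq F]

/-- The extension by zero of `lam`. -/
theorem ext_lam (x : G2) : extendByZero B2 (lam α β) x =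
    if (x : Matrix (Fin 2) (Fin 2) F) 1 0 = 0 then
      α ((x : Matrix (Fin 2) (Fin 2) F) 0 0) * β ((x : Matrix (Fin 2) (Fin 2) F) 1 1) else 0 := by
  split_ifs with h
  · rw [extendByZero_of_mem _ _ ((mem_B_iff x).mpr h)]
    rfl
  · rw [extendByZero_of_not_mem _ _ (fun h2 => h ((mem_B_iff x).mp h2))]

variable [Fintype F]

/-- The principal series induced function. -/
noncomputable def chi (α β : MulChar F ℂ) : G2 → ℂ := indFun B2 (lam α β)

theorem chi_isChar : IsCharacter G2 (chi α β) := indFun_isCharacter _ (lam_isChar α β)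

/-- The general value formula. -/
theorem chi_apply (g : G2) : chi α β g =
    (if (g : Matrix (Fin 2) (Fin 2) F) 1 0 = 0 then
      α ((g : Matrix (Fin 2) (Fin 2) F) 0 0) * β ((g : Matrix (Fin 2) (Fin 2) F) 1 1) else 0) +
    ∑ t : F, if (g : Matrix (Fin 2) (Fin 2) F) 0 0 * t + (g : Matrix (Fin 2) (Fin 2) F) 0 1 -
      t * ((g : Matrix (Fin 2) (Fin 2) F) 1 0 * t + (g : Matrix (Fin 2) (Fin 2) F) 1 1) = 0 then
      α ((g : Matrix (Fin 2) (Fin 2) F) 1 0 * t + (g : Matrix (Fin 2) (Fin 2) F) 1 1) *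
        β ((g : Matrix (Fin 2) (Fin 2) F) 0 0 - t * (g : Matrix (Fin 2) (Fin 2) F) 1 0) else 0 := by
  classical
  haveI : Fintype B2 := Fintype.ofFinite _
  rw [chi, indFun_eq_sum_reps B2 (rep : Option F → G2) rep_bijective _ (lam_class α β) g,
    Fintype.sum_option]
  congr 1
  · rw [ext_lam]
    simp [rep]
  · refine Finset.sum_congr rfl fun t _ => ?_
    rw [ext_lam]
    obtain ⟨h1, h2, h3⟩ := conj_rep_entries t g
    rw [h1, h2, h3]

/-! ### Sums over the Borel subgroup -/

omit [Fintype F] [DecidableEq F] in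
theorem mk2_det_ne (a d : Fˣ) (s : F) : (a : F) * d - s * 0 ≠ 0 := by
  simp

/-- The elements of `B`. -/
noncomputable def bmk (a d : Fˣ) (s : F) : B2 :=
  ⟨mk2 a s 0 d (mk2_det_ne a d s), (mem_B_iff _).mpr rfl⟩

omit [Fintype F] [DecidableEq F] in
@[simp] theorem bmk_00 (a d : Fˣ) (s : F) :
    ((bmk a d s : B2) : G2).1 0 0 = a := rfl
omit [Fintype F] [DecidableEq F] in
@[simp] theorem bmk_01 (a d : Fˣ) (s : F) :
    ((bmk a d s : B2) : G2).1 0 1 = s := rfl
omit [Fintype F] [DecidableEq F] in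
@[simp] theorem bmk_10 (a d : Fˣ) (s : F) :
    ((bmk a d s : B2) : G2).1 1 0 = 0 := rfl
omit [Fintype F] [DecidableEq F] in
@[simp] theorem bmk_11 (a d : Fˣ) (s : F) :
    ((bmk a d s : B2) : G2).1 1 1 = d := rfl

omit [Fintype F] [DecidableEq F] in
theorem bmk_bijective : Function.Bijective (fun p : Fˣ × Fˣ × F => bmk p.1 p.2.1 p.2.2) := by
  constructor
  · rintro ⟨a, d, s⟩ ⟨a', d', s'⟩ h
    have h0 := congrArg (fun b : B2 => ((b : G2) : Matrix (Fin 2) (Fin 2) F)) h
    have h00 : (a : F) = a' := congrFun (congrFun h0 0) 0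
    have h01 : s = s' := congrFun (congrFun h0 0) 1
    have h11 : (d : F) = d' := congrFun (congrFun h0 1) 1
    rw [Units.ext h00, Units.ext h11, h01]
  · intro b
    refine ⟨(dhom1 b, dhom2 b, ((b : G2) : Matrix (Fin 2) (Fin 2) F) 0 1), ?_⟩
    apply Subtype.ext
    apply ext2
    · rfl
    · rfl
    · exact ((mem_B_iff (b : G2)).mp b.2).symm
    · rfl

theorem sum_B [Fintype B2] (f : B2 → ℂ) :
    ∑ b : B2, f b = ∑ a : Fˣ, ∑ d : Fˣ, ∑ s : F, f (bmk a d s) := by
  classical
  rw [← Function.Bijective.sum_comp bmk_bijective, Fintype.sum_prod_type]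
  refine Finset.sum_congr rfl fun a _ => ?_
  rw [Fintype.sum_prod_type]

omit [DecidableEq F] in
theorem card_B : Nat.card B2 = (Fintype.card F - 1) ^ 2 * Fintype.card F := by
  classical
  have h := Nat.card_congr (Equiv.ofBijective _ (bmk_bijective (F := F)))
  rw [← h, Nat.card_eq_fintype_card, Fintype.card_prod, Fintype.card_prod, Fintype.card_units]
  ring

/-! ### Orthogonality of multiplicative characters -/

omit [Fintype F] [DecidableEq F] in
theorem mulChar_conj [Finite F] (γ : MulChar F ℂ) (a : F) : conj (γ a) = γ⁻¹ a :=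
  MulChar.star_apply' γ a

theorem sum_units_mulChar (γ : MulChar F ℂ) :
    ∑ a : Fˣ, γ a = if γ = 1 then ((Fintype.card F : ℂ) - 1) else 0 := by
  classical
  split_ifs with h
  · subst h
    simp only [MulChar.one_apply_coe, Finset.sum_const, Finset.card_univ, Fintype.card_units,
      nsmul_eq_mul, mul_one]
    rw [Nat.cast_sub Fintype.card_pos]
    simp
  · obtain ⟨b, hb⟩ : ∃ b : Fˣ, γ b ≠ 1 := by
      by_contra hcon
      push Not at hcon
      apply h
      ext a
      simp [hcon]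
    have h1 : ∑ a : Fˣ, γ a = γ b * ∑ a : Fˣ, γ a := by
      rw [Finset.mul_sum, ← Equiv.sum_comp (Equiv.mulLeft b)]
      refine Finset.sum_congr rfl fun a _ => ?_
      simp
    have h2 : (1 - γ b) * ∑ a : Fˣ, γ a = 0 := by
      rw [sub_mul, one_mul]
      exact sub_eq_zero.mpr h1
    exact (mul_eq_zero.mp h2).resolve_left (sub_ne_zero.mpr hb.symm)

/-- Orthogonality of multiplicative characters. -/
theorem orth_mulChar (α β : MulChar F ℂ) :
    ∑ a : Fˣ, α a * conj (β a) = if α = β then ((Fintype.card F : ℂ) - 1) else 0 := by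
  have h := sum_units_mulChar (α * β⁻¹)
  have h2 : (α * β⁻¹ = 1) ↔ α = β := by
    rw [mul_inv_eq_one]
  simp only [h2] at h
  rw [← h]
  refine Finset.sum_congr rfl fun a _ => ?_
  rw [mulChar_conj, MulChar.mul_apply]

/-- The key computation: the sum of a principal series character along the cosets of `U` in `B`. -/
theorem sum_chi_bmk (a d : Fˣ) :
    ∑ s : F, chi α β ((bmk a d s : B2) : G2) =
      (Fintype.card F : ℂ) * (α a * β d + α d * β a) := by
  have h : ∀ s : F, chi α β ((bmk a d s : B2) : G2) = α a * β d +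
      ∑ t : F, if (a : F) * t + s - t * d = 0 then α d * β a else 0 := by
    intro s
    rw [chi_apply]
    simp
  simp only [h, Finset.sum_add_distrib, Finset.sum_const, Finset.card_univ, nsmul_eq_mul]
  rw [Finset.sum_comm]
  have h2 : ∀ t : F, (∑ s : F, if (a : F) * t + s - t * d = 0 then α d * β a else 0) = α d * β a := by
    intro t
    rw [Finset.sum_eq_single (t * d - a * t)]
    · rw [if_pos (by ring)]
    · intro s _ hs
      rw [if_neg]
      intro h0
      apply hs
      linear_combination h0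
    · intro h0
      exact absurd (Finset.mem_univ _) h0
  simp only [h2, Finset.sum_const, Finset.card_univ, nsmul_eq_mul]
  ring

omit [DecidableEq F] in
theorem card_sub_one_ne : (Fintype.card F : ℂ) - 1 ≠ 0 := by
  have h : 1 < Fintype.card F := Fintype.one_lt_card
  rw [sub_ne_zero]
  exact_mod_cast h.ne'

omit [DecidableEq F] in
theorem card_ne : (Fintype.card F : ℂ) ≠ 0 := by
  have h : 1 < Fintype.card F := Fintype.one_lt_card
  exact_mod_cast (by omega : Fintype.card F ≠ 0)

omit [DecidableEq F] in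
theorem natCard_B_complex : (Nat.card B2 : ℂ) = ((Fintype.card F : ℂ) - 1) ^ 2 * Fintype.card F := by
  rw [card_B]
  push_cast
  rw [Nat.cast_sub Fintype.card_pos]
  simp

/-- The inner product of `chi` with a class function, in terms of the sums along the `U`-cosets. -/
theorem classInner_chi_left {ψ : G2 → ℂ} (hψ : IsClassFunction G2 ψ) :
    classInner (chi α β) ψ = (((Fintype.card F : ℂ) - 1) ^ 2 * Fintype.card F)⁻¹ *
      ∑ a : Fˣ, ∑ d : Fˣ, α a * β d * conj (∑ s : F, ψ ((bmk a d s : B2) : G2)) := by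
  classical
  haveI : Fintype B2 := Fintype.ofFinite _
  unfold chi
  rw [frobenius B2 (lam α β) hψ]
  unfold classInner
  rw [natCard_B_complex, sum_B]
  congr 1
  refine Finset.sum_congr rfl fun a _ => Finset.sum_congr rfl fun d _ => ?_
  rw [map_sum, Finset.mul_sum]
  refine Finset.sum_congr rfl fun s _ => ?_
  rfl

theorem chi_isClass : IsClassFunction G2 (chi α β) := indFun_isClassFunction _ _

omit [Fintype F] [DecidableEq F] in
theorem ite_calc {q Q : ℂ} (hq : q ≠ 0) (hQ : Q ≠ 0) (p₁ p₂ p₃ p₄ : Prop) [Decidable p₁]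
    [Decidable p₂] [Decidable p₃] [Decidable p₄] :
    (Q ^ 2 * q)⁻¹ * (q * ((if p₁ then Q else 0) * (if p₂ then Q else 0) +
      (if p₃ then Q else 0) * (if p₄ then Q else 0))) =
    (if p₁ ∧ p₂ then 1 else 0) + (if p₃ ∧ p₄ then 1 else 0) := by
  by_cases h1 : p₁ <;> by_cases h2 : p₂ <;> by_cases h3 : p₃ <;> by_cases h4 : p₄ <;>
    simp only [h1, h2, h3, h4, if_true, if_false, and_self, and_true, true_and, and_false,
      false_and, mul_zero, zero_mul, add_zero, zero_add] <;>
    field_simp <;> try ring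

/-- Orthogonality relation for the principal series. -/
theorem classInner_chi_chi (α' β' : MulChar F ℂ) :
    classInner (chi α β) (chi α' β') =
      (if α = α' ∧ β = β' then 1 else 0) + (if α = β' ∧ β = α' then 1 else 0) := by
  rw [classInner_chi_left α β (chi_isClass α' β')]
  simp only [sum_chi_bmk, map_mul, map_add, map_natCast]
  have h : ∀ (a d : Fˣ), α a * β d * ((Fintype.card F : ℂ) *
      (conj (α' a) * conj (β' d) + conj (α' d) * conj (β' a))) =
      (Fintype.card F : ℂ) * ((α a * conj (α' a)) * (β d * conj (β' d)) +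
        (α a * conj (β' a)) * (β d * conj (α' d))) := by
    intros; ring
  have h1 : ∑ a : Fˣ, ∑ d : Fˣ, α a * β d * ((Fintype.card F : ℂ) *
      (conj (α' a) * conj (β' d) + conj (α' d) * conj (β' a))) =
      (Fintype.card F : ℂ) * ((∑ a : Fˣ, α a * conj (α' a)) * (∑ d : Fˣ, β d * conj (β' d)) +
        (∑ a : Fˣ, α a * conj (β' a)) * (∑ d : Fˣ, β d * conj (α' d))) := by
    simp only [h, ← Finset.mul_sum, Finset.sum_add_distrib, Finset.sum_mul_sum]
  rw [h1]
  simp only [orth_mulChar]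
  have hq := card_ne (F := F)
  have hq1 := card_sub_one_ne (F := F)
  exact ite_calc hq hq1 _ _ _ _

theorem chi_isIrr (h : α ≠ β) : IsIrrCharacter G2 (chi α β) := by
  apply isIrrCharacter_of_norm_one (chi_isChar α β)
  rw [classInner_chi_chi]
  simp [h]

theorem chi_comm : chi α β = chi β α := by
  have h : classInner (chi α β - chi β α) (chi α β - chi β α) = 0 := by
    rw [classInner_sub_left, classInner_sub_right, classInner_sub_right,
      classInner_chi_chi, classInner_chi_chi, classInner_chi_chi, classInner_chi_chi]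
    by_cases h : α = β
    · subst h; simp
    · have h' : β ≠ α := fun e => h e.symm
      simp [h, h']
  exact sub_eq_zero.mp (classInner_self_eq_zero h)

theorem chi_eq_iff (α' β' : MulChar F ℂ) :
    chi α β = chi α' β' ↔ (α = α' ∧ β = β') ∨ (α = β' ∧ β = α') := by
  constructor
  · intro h
    have h1 := classInner_chi_chi α β α' β'
    rw [← h, classInner_chi_chi] at h1
    by_contra hcon
    push Not at hcon
    have h2 : ¬ (α = α' ∧ β = β') := fun e => hcon.1 e.1 e.2
    have h3 : ¬ (α = β' ∧ β = α') := fun e => hcon.2 e.1 e.2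
    simp only [h2, h3, if_false, add_zero] at h1
    by_cases h4 : α = β
    · subst h4; simp at h1
    · simp [h4] at h1
  · rintro (⟨rfl, rfl⟩ | ⟨rfl, rfl⟩)
    · rfl
    · exact chi_comm _ _

end GL2

end Cfsg.Agent.Lib.GL2Char
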