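import Mathlib
import Cfsg.Agent.Lib.BlkBasic
import Cfsg.Agent.Lib.BlockDefect
import Cfsg.Agent.Lib.BlockNormal
import Cfsg.Agent.Lib.CharInduction
import Cfsg.Agent.Lib.BlockSection
import Cfsg.Agent.Lib.BlkBrauer
import Cfsg.Agent.Lib.GL2Char

/-!
# The Fong–Reynolds correspondence

`N ⊴ G`, `b` a block of `N`, `T` its stabilizer.  The map `ψ ↦ ψ^G` is an isometry on characters of
`T` lying over `b`, and the central characters of `ψ` are recovered from those of `ψ^G` by class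
functions with coefficients in the local ring.
-/

set_option autoImplicit false
set_option linter.unusedSectionVars false
set_option linter.unusedVariables false
set_option linter.style.haveILetI false

namespace Cfsg.Agent.Lib.FongReynolds

open Cfsg Cfsg.Agent.Lib.CharBasic Cfsg.Agent.Lib.CharInd Cfsg.Agent.Lib.CharIntegrality
open Cfsg.Agent.Lib.BlockLocal Cfsg.Agent.Lib.BlockIdem Cfsg.Agent.Lib.BlkBasic
open Cfsg.Agent.Lib.CharInduction
open scoped ComplexConjugate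

universe u v

section Idem

variable {A : Type u} [Group A] [Fintype A] {H : Type v} [Group H] [Fintype H]

theorem blockCoeff_conv (c d : Set (IrrCharacter A)) :
    conv (blockCoeff c) (blockCoeff d) = blockCoeff (c ∩ d) := by
  classical
  rw [blockCoeff_eq_invF', blockCoeff_eq_invF', blockCoeff_eq_invF', ← invF_mul]
  congr 1
  funext χ
  by_cases h1 : χ ∈ c <;> by_cases h2 : χ ∈ d
  · simp [blkInd, h1, h2]
  · simp [blkInd, h1, h2]
  · simp [blkInd, h1, h2]
  · simp [blkInd, h1, h2]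

theorem blockCoeff_add_compl (c : Set (IrrCharacter A)) (m : A) :
    blockCoeff c m + blockCoeff cᶜ m = delta m := by
  classical
  rw [blockCoeff_eq_invF', blockCoeff_eq_invF', ← invF_one, ← Pi.add_apply, ← invF_add]
  congr 2
  funext χ
  by_cases h1 : χ ∈ c
  · simp [blkInd, h1]
  · simp [blkInd, h1]

/-- The trace of the idempotent attached to `c` on a function. -/
theorem sum_blockCoeff_mul (c : Set (IrrCharacter A)) (χ : A → ℂ) :
    ∑ m : A, blockCoeff c m * χ m =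
      ∑ θ : IrrCharacter A, blkInd c θ * (θ : A → ℂ) 1 * classInner χ (θ : A → ℂ) := by
  classical
  simp_rw [blockCoeff_apply, Finset.sum_mul]
  rw [Finset.sum_comm]
  refine Finset.sum_congr rfl fun θ _ => ?_
  unfold classInner ec
  rw [mul_assoc (blkInd c θ), Finset.mul_sum, Finset.mul_sum, Finset.mul_sum]
  refine Finset.sum_congr rfl fun m _ => ?_
  rw [char_conj_eq_inv (IsIrrCharacter.isCharacter θ.2) m]
  ring

theorem blockCoeff_inv_eq_conj (c : Set (IrrCharacter A)) (m : A) :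
    blockCoeff c m⁻¹ = conj (blockCoeff c m) := by
  classical
  rw [blockCoeff_apply, blockCoeff_apply, map_sum]
  refine Finset.sum_congr rfl fun θ _ => ?_
  unfold ec
  have h1 : conj (blkInd c θ) = blkInd c θ := by
    by_cases h : θ ∈ c
    · rw [blkInd_of_mem h, map_one]
    · rw [blkInd_of_not_mem h, map_zero]
  have h2 : conj ((θ : A → ℂ) 1) = (θ : A → ℂ) 1 := by
    rw [char_conj_eq_inv (IsIrrCharacter.isCharacter θ.2) 1, inv_one]
  rw [map_mul, map_div₀, map_mul, h1, h2, char_conj_eq_inv (IsIrrCharacter.isCharacter θ.2) m⁻¹]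
  simp

/-- The operator of the idempotent attached to `c` on a representation of `H`, through `φ : A →* H`. -/
noncomputable def idemOp {V : Type*} [AddCommGroup V] [Module ℂ V] (ρ : Representation ℂ H V)
    (φ : A →* H) (c : Set (IrrCharacter A)) : V →ₗ[ℂ] V :=
  sumOp (ρ.comp φ) (blockCoeff c)

variable {V : Type*} [AddCommGroup V] [Module ℂ V] (ρ : Representation ℂ H V) (φ : A →* H)

theorem idemOp_comp (c d : Set (IrrCharacter A)) :
    idemOp ρ φ c ∘ₗ idemOp ρ φ d = idemOp ρ φ (c ∩ d) := by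
  unfold idemOp
  rw [sumOp_mul, blockCoeff_conv]

theorem idemOp_apply_sum (c : Set (IrrCharacter A)) :
    idemOp ρ φ c = ∑ m : A, blockCoeff c m • ρ (φ m) := rfl

theorem trace_idemOp [FiniteDimensional ℂ V] (c : Set (IrrCharacter A)) :
    LinearMap.trace ℂ V (idemOp ρ φ c) =
      ∑ θ : IrrCharacter A, blkInd c θ * (θ : A → ℂ) 1 *
        classInner (ρ.character ∘ φ) (θ : A → ℂ) := by
  rw [← sum_blockCoeff_mul, idemOp_apply_sum, map_sum]
  refine Finset.sum_congr rfl fun m _ => ?_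
  rw [map_smul]
  rfl

theorem idemOp_eq_zero [FiniteDimensional ℂ V] {c : Set (IrrCharacter A)}
    (h : ∀ θ ∈ c, classInner (ρ.character ∘ φ) (θ : A → ℂ) = 0) : idemOp ρ φ c = 0 := by
  have hid : IsIdempotentElem (idemOp ρ φ c) := by
    have := idemOp_comp ρ φ c c
    rw [Set.inter_self] at this
    exact this
  apply LinearMap.IsIdempotentElem.eq_zero_of_trace_eq_zero hid
  rw [trace_idemOp]
  refine Finset.sum_eq_zero fun θ _ => ?_
  by_cases hθ : θ ∈ c
  · rw [h θ hθ, mul_zero]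
  · rw [blkInd_of_not_mem hθ]
    simp

theorem idemOp_singleton_eq_zero_iff [FiniteDimensional ℂ V] (θ : IrrCharacter A) :
    idemOp ρ φ {θ} = 0 ↔ classInner (ρ.character ∘ φ) (θ : A → ℂ) = 0 := by
  constructor
  · intro h
    have h1 := trace_idemOp ρ φ {θ}
    rw [h, map_zero, Finset.sum_eq_single θ] at h1
    · rw [blkInd_of_mem (Set.mem_singleton θ), one_mul] at h1
      have h2 : (θ : A → ℂ) 1 ≠ 0 := irr_one_ne_zero' θ.2
      exact (mul_eq_zero.mp h1.symm).resolve_left h2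
    · intro θ' _ hne
      rw [blkInd_of_not_mem (by simpa using hne)]
      simp
    · simp
  · intro h
    apply idemOp_eq_zero
    rintro θ' rfl
    exact h

/-- **Vanishing lemma**. -/
theorem sum_blockCoeff_char_mul_eq_zero {ψ : H → ℂ} (hψ : IsCharacter H ψ)
    {c : Set (IrrCharacter A)} (h : ∀ θ ∈ c, classInner (ψ ∘ φ) (θ : A → ℂ) = 0) (y : H) :
    ∑ m : A, blockCoeff c m * ψ (y * φ m) = 0 := by
  obtain ⟨n, ρ, rfl⟩ := hψ
  have h0 := idemOp_eq_zero ρ φ h
  have h1 : LinearMap.trace ℂ _ (ρ y ∘ₗ idemOp ρ φ c) = 0 := by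
    rw [h0, LinearMap.comp_zero, map_zero]
  have h2 : ρ y ∘ₗ idemOp ρ φ c = ∑ m : A, blockCoeff c m • ρ (y * φ m) := by
    apply LinearMap.ext
    intro v
    simp only [idemOp_apply_sum, LinearMap.comp_apply, LinearMap.sum_apply, LinearMap.smul_apply,
      map_sum, map_smul, map_mul, Module.End.mul_apply]
  rw [← h1, h2, map_sum]
  refine Finset.sum_congr rfl fun m _ => ?_
  rw [map_smul]
  rfl

theorem delta_mul_sum (f : A → ℂ) : ∑ m : A, delta m * f m = f 1 := by
  classical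
  rw [Finset.sum_eq_single (1 : A)]
  · simp [delta]
  · intro m _ hm
    simp [delta, hm]
  · simp

/-- The complementary form of the vanishing lemma. -/
theorem sum_blockCoeff_char_mul_eq_self {ψ : H → ℂ} (hψ : IsCharacter H ψ)
    {c : Set (IrrCharacter A)} (h : ∀ θ, θ ∉ c → classInner (ψ ∘ φ) (θ : A → ℂ) = 0) (y : H) :
    ∑ m : A, blockCoeff c m * ψ (y * φ m) = ψ y := by
  have h1 := sum_blockCoeff_char_mul_eq_zero φ hψ (c := cᶜ) (fun θ hθ => h θ hθ) y
  have h2 : ∑ m : A, (blockCoeff c m + blockCoeff cᶜ m) * ψ (y * φ m) = ψ y := by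
    simp_rw [blockCoeff_add_compl]
    rw [delta_mul_sum]
    simp
  rw [← h2]
  simp_rw [add_mul]
  rw [Finset.sum_add_distrib, h1, add_zero]

end Idem

section Conj

variable {G : Type u} [Group G] [Fintype G] (N : Subgroup G) [hN : N.Normal] [Fintype N]

/-- The permutation of `Irr(N)` given by conjugation. -/
noncomputable def cjE (g : G) : IrrCharacter N ≃ IrrCharacter N where
  toFun θ := ⟨conjBy N hN g θ, isIrrCharacter_conjBy N hN g θ.2⟩
  invFun θ := ⟨conjBy N hN g⁻¹ θ, isIrrCharacter_conjBy N hN g⁻¹ θ.2⟩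
  left_inv θ := by
    apply Subtype.ext
    show conjBy N hN g⁻¹ (conjBy N hN g θ) = θ
    rw [conjBy_conjBy, mul_inv_cancel, conjBy_one]
  right_inv θ := by
    apply Subtype.ext
    show conjBy N hN g (conjBy N hN g⁻¹ θ) = θ
    rw [conjBy_conjBy, inv_mul_cancel, conjBy_one]

theorem cjE_apply (g : G) (θ : IrrCharacter N) (n : N) :
    (cjE N g θ : N → ℂ) n = (θ : N → ℂ) ⟨g * n * g⁻¹, hN.conj_mem n n.2 g⟩ := rfl

theorem cjE_cjE (a b : G) (θ : IrrCharacter N) : cjE N b (cjE N a θ) = cjE N (a * b) θ := by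
  apply Subtype.ext
  exact conjBy_conjBy N hN a b θ

theorem cjE_inv_cjE (g : G) (θ : IrrCharacter N) : cjE N g⁻¹ (cjE N g θ) = θ :=
  (cjE N g).symm_apply_apply θ

theorem cjE_cjE_inv (g : G) (θ : IrrCharacter N) : cjE N g (cjE N g⁻¹ θ) = θ :=
  (cjE N g).apply_symm_apply θ

theorem centralChar_comp_equiv {A : Type*} [Group A] (α : A ≃* A) (θ : A → ℂ) (n : A) :
    centralChar (θ ∘ α) n = centralChar θ (α n) := by
  unfold centralChar
  have h1 : Subgroup.centralizer ({α n} : Set A) =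
      (Subgroup.centralizer ({n} : Set A)).map (α : A →* A) := by
    ext x
    obtain ⟨y, rfl⟩ := α.surjective x
    rw [Subgroup.mem_centralizer_singleton_iff, Subgroup.mem_map]
    constructor
    · intro h
      refine ⟨y, ?_, rfl⟩
      rw [Subgroup.mem_centralizer_singleton_iff]
      apply α.injective
      rw [map_mul, map_mul]
      exact h
    · rintro ⟨z, hz, hzy⟩
      have hzy' : z = y := α.injective hzy
      subst hzy'
      rw [Subgroup.mem_centralizer_singleton_iff] at hz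
      rw [← map_mul, ← map_mul, hz]
  rw [h1, Subgroup.index_map_equiv]
  simp only [Function.comp, map_one]

theorem sameBlock_cjE {M : Ideal AlgInt} {θ θ' : IrrCharacter N}
    (h : SameBlock M (θ : N → ℂ) (θ' : N → ℂ)) (g : G) :
    SameBlock M (cjE N g θ : N → ℂ) (cjE N g θ' : N → ℂ) := by
  intro n
  have h1 : (cjE N g θ : N → ℂ) = (θ : N → ℂ) ∘ conjAut N hN g := rfl
  have h2 : (cjE N g θ' : N → ℂ) = (θ' : N → ℂ) ∘ conjAut N hN g := rfl
  rw [h1, h2, centralChar_comp_equiv, centralChar_comp_equiv]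
  exact h _

theorem blockCoeff_conj (c : Set (IrrCharacter N)) (g : G) (m : N) :
    blockCoeff c ⟨g * m * g⁻¹, hN.conj_mem m m.2 g⟩ = blockCoeff {θ | cjE N g⁻¹ θ ∈ c} m := by
  classical
  rw [blockCoeff_apply, blockCoeff_apply, ← (cjE N g).sum_comp (fun θ =>
    blkInd {θ | cjE N g⁻¹ θ ∈ c} θ * ec (θ : N → ℂ) m)]
  refine Finset.sum_congr rfl fun θ _ => ?_
  have h1 : blkInd {θ | cjE N g⁻¹ θ ∈ c} (cjE N g θ) = blkInd c θ := by
    by_cases h : θ ∈ c
    · rw [blkInd_of_mem h, blkInd_of_mem]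
      show cjE N g⁻¹ (cjE N g θ) ∈ c
      rwa [cjE_inv_cjE]
    · rw [blkInd_of_not_mem h, blkInd_of_not_mem]
      show ¬ cjE N g⁻¹ (cjE N g θ) ∈ c
      rwa [cjE_inv_cjE]
  rw [h1]
  congr 1
  unfold ec
  have h2 : (cjE N g θ : N → ℂ) 1 = (θ : N → ℂ) 1 :=
    congrArg (θ : N → ℂ) (Subtype.ext (by simp))
  have h3 : (cjE N g θ : N → ℂ) m⁻¹ = (θ : N → ℂ) (⟨g * m * g⁻¹, hN.conj_mem m m.2 g⟩)⁻¹ :=
    congrArg (θ : N → ℂ) (Subtype.ext (by simp [mul_assoc]))
  rw [h2, h3]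

end Conj

section Stab

variable {G : Type u} [Group G] [Fintype G] {N : Subgroup G} [hN : N.Normal] [Fintype N]
  {b : Set (IrrCharacter N)} {T : Subgroup G} [Fintype T]

/-- `T` is the stabilizer of `b`. -/
def IsStab (b : Set (IrrCharacter N)) (T : Subgroup G) : Prop :=
  ∀ g : G, g ∈ T ↔ ∀ θ ∈ b, cjE N g θ ∈ b

theorem IsStab.cjE_mem (hT : IsStab b T) {g : G} (hg : g ∈ T) {θ : IrrCharacter N} (hθ : θ ∈ b) :
    cjE N g θ ∈ b := (hT g).mp hg θ hθ

theorem IsStab.cjE_not_mem (hT : IsStab b T) {M : Ideal AlgInt} [M.IsPrime] (hb : IsPBlock M b)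
    {g : G} (hg : g ∉ T) {θ : IrrCharacter N} (hθ : θ ∈ b) : cjE N g θ ∉ b := by
  intro h
  apply hg
  rw [hT g]
  intro θ₁ hθ₁
  have h1 := Cfsg.Agent.Lib.BlockDefect.sameBlock_of_mem hb hθ hθ₁
  have h2 := sameBlock_cjE N h1 g
  obtain ⟨χ₀, rfl⟩ := hb
  exact sameBlock_trans h h2

theorem IsStab.set_eq (hT : IsStab b T) {g : G} (hg : g ∈ T) : {θ | cjE N g⁻¹ θ ∈ b} = b := by
  ext θ
  constructor
  · intro h
    have := hT.cjE_mem hg h
    rwa [cjE_cjE_inv] at this
  · intro h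
    exact hT.cjE_mem (T.inv_mem hg) h

theorem IsStab.blockCoeff_conj (hT : IsStab b T) {g : G} (hg : g ∈ T) (m : N) :
    blockCoeff b ⟨g * m * g⁻¹, hN.conj_mem m m.2 g⟩ = blockCoeff b m := by
  rw [Cfsg.Agent.Lib.FongReynolds.blockCoeff_conj, hT.set_eq hg]

variable (hNT : N ≤ T)

/-- The restriction to `N` of a function on `T`, as composition with the inclusion. -/
abbrev incl (hNT : N ≤ T) : N →* T := Subgroup.inclusion hNT

/-- All `N`-constituents of `ψ` lie in `b`. -/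
def OverB (hNT : N ≤ T) (b : Set (IrrCharacter N)) (ψ : T → ℂ) : Prop :=
  ∀ θ, θ ∉ b → classInner (ψ ∘ incl hNT) (θ : N → ℂ) = 0

/-- **Key local identity**. -/
theorem sum_extendByZero_conj (hT : IsStab b T) {M : Ideal AlgInt} [M.IsPrime] (hb : IsPBlock M b)
    {ψ : T → ℂ} (hψ : IsCharacter T ψ) (hO : OverB hNT b ψ) (g : G) (x : T) :
    ∑ n : N, blockCoeff b n * extendByZero T ψ (g⁻¹ * ((x : G) * n) * g) =
      @ite ℂ (g ∈ T) (Classical.propDecidable _) (ψ x) 0 := by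
  classical
  have hcl := isClassFunction_of_isCharacter hψ
  by_cases hy : g⁻¹ * (x : G) * g ∈ T
  · have h1 : ∀ m : N, blockCoeff b ⟨g * m * g⁻¹, hN.conj_mem m m.2 g⟩ *
        extendByZero T ψ (g⁻¹ * ((x : G) * (g * m * g⁻¹)) * g) =
        blockCoeff {θ | cjE N g⁻¹ θ ∈ b} m * ψ (⟨_, hy⟩ * incl hNT m) := by
      intro m
      rw [Cfsg.Agent.Lib.FongReynolds.blockCoeff_conj]
      congr 1
      have h2 : g⁻¹ * ((x : G) * (g * m * g⁻¹)) * g =
          ((⟨_, hy⟩ * incl hNT m : T) : G) := by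
        simp [Subgroup.inclusion]
        group
      rw [h2, extendByZero_coe]
    have h3 : ∑ n : N, blockCoeff b n * extendByZero T ψ (g⁻¹ * ((x : G) * n) * g) =
        ∑ m : N, blockCoeff {θ | cjE N g⁻¹ θ ∈ b} m * ψ (⟨_, hy⟩ * incl hNT m) := by
      simp_rw [← h1]
      exact ((conjAut N hN g).toEquiv.sum_comp
        (fun n : N => blockCoeff b n * extendByZero T ψ (g⁻¹ * ((x : G) * n) * g))).symm
    rw [h3]
    by_cases hg : g ∈ T
    · rw [if_pos hg, sum_blockCoeff_char_mul_eq_self (incl hNT) hψ]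
      · have h4 := hcl x ⟨g, hg⟩⁻¹
        refine Eq.trans ?_ h4
        congr 1
        ext
        simp
      · intro θ hθ
        apply hO
        rw [hT.set_eq hg] at hθ
        exact hθ
    · rw [if_neg hg, sum_blockCoeff_char_mul_eq_zero (incl hNT) hψ]
      intro θ hθ
      apply hO
      intro hθb
      have h5 := hT.cjE_not_mem hb (g := g⁻¹) (fun h => hg (by simpa using T.inv_mem h)) hθb
      exact h5 hθ
  · have hg : g ∉ T := by
      intro hg
      exact hy (T.mul_mem (T.mul_mem (T.inv_mem hg) x.2) hg)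
    rw [if_neg hg]
    refine Finset.sum_eq_zero fun n _ => ?_
    rw [extendByZero_of_not_mem, mul_zero]
    intro h
    apply hy
    have h6 : g⁻¹ * (n : G) * g ∈ T := by
      apply hNT
      simpa using hN.conj_mem n n.2 g⁻¹
    have h7 : g⁻¹ * (x : G) * g = g⁻¹ * ((x : G) * n) * g * (g⁻¹ * (n : G) * g)⁻¹ := by group
    rw [h7]
    exact T.mul_mem h (T.inv_mem h6)

theorem sum_ite_mem (T : Subgroup G) [Fintype T] (c : ℂ) :
    ∑ g : G, @ite ℂ (g ∈ T) (Classical.propDecidable _) c 0 = (Nat.card T : ℂ) * c := by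
  classical
  rw [Finset.sum_ite, Finset.sum_const, Finset.sum_const_zero, add_zero, nsmul_eq_mul]
  congr 1
  rw [Nat.card_eq_fintype_card, Fintype.card_subtype]

/-- **Recovering `ψ` from `ψ^G`.** -/
theorem sum_blockCoeff_indFun (hT : IsStab b T) {M : Ideal AlgInt} [M.IsPrime] (hb : IsPBlock M b)
    {ψ : T → ℂ} (hψ : IsCharacter T ψ) (hO : OverB hNT b ψ) (x : T) :
    ∑ n : N, blockCoeff b n * indFun T ψ ((x : G) * n) = ψ x := by
  classical
  have hne := natCard_subgroup_ne_zero T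
  simp_rw [indFun_apply]
  have h1 : ∀ n : N, blockCoeff b n * ((Nat.card T : ℂ)⁻¹ * ∑ g : G,
      extendByZero T ψ (g⁻¹ * ((x : G) * n) * g)) = (Nat.card T : ℂ)⁻¹ * ∑ g : G,
        blockCoeff b n * extendByZero T ψ (g⁻¹ * ((x : G) * n) * g) := by
    intro n
    rw [Finset.mul_sum, Finset.mul_sum, Finset.mul_sum]
    refine Finset.sum_congr rfl fun g _ => ?_
    ring
  simp_rw [h1]
  rw [← Finset.mul_sum, Finset.sum_comm]
  simp_rw [sum_extendByZero_conj hNT hT hb hψ hO]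
  rw [sum_ite_mem, inv_mul_cancel_left₀ hne]

/-- The induction from `T` is an isometry on characters over `b`. -/
theorem classInner_indFun_indFun_of_over (hT : IsStab b T) {M : Ideal AlgInt} [M.IsPrime]
    (hb : IsPBlock M b) {ψ₁ ψ₂ : T → ℂ} (hψ₁ : IsCharacter T ψ₁) (hψ₂ : IsCharacter T ψ₂)
    (hO₁ : OverB hNT b ψ₁) (hO₂ : OverB hNT b ψ₂) :
    classInner (indFun T ψ₁) (indFun T ψ₂) = classInner ψ₁ ψ₂ := by
  classical
  rw [frobenius T ψ₁ (indFun_isClassFunction T ψ₂)]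
  set f : T → ℂ := fun h => indFun T ψ₂ h with hf
  unfold classInner
  congr 1
  have h1 : ∀ x : T, ψ₁ x = ∑ m : N, blockCoeff b m * ψ₁ (x * incl hNT m) := fun x =>
    (sum_blockCoeff_char_mul_eq_self (incl hNT) hψ₁ hO₁ x).symm
  have h2 : ∀ x : T, conj (ψ₂ x) = ∑ m : N, blockCoeff b m⁻¹ * conj (f (x * incl hNT m)) := by
    intro x
    rw [← sum_blockCoeff_indFun hNT hT hb hψ₂ hO₂ x, map_sum]
    refine Finset.sum_congr rfl fun m _ => ?_
    rw [map_mul, blockCoeff_inv_eq_conj]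
    rfl
  have h5 : ∀ m : N, ∑ x : T, blockCoeff b m * ψ₁ (x * incl hNT m) * conj (f x) =
      ∑ y : T, blockCoeff b m * ψ₁ y * conj (f (y * incl hNT m⁻¹)) := by
    intro m
    rw [← Equiv.sum_comp (Equiv.mulRight (incl hNT m))
      (fun y => blockCoeff b m * ψ₁ y * conj (f (y * incl hNT m⁻¹)))]
    refine Finset.sum_congr rfl fun x _ => ?_
    have h7 : x * incl hNT m * incl hNT m⁻¹ = x := by
      rw [map_inv, mul_inv_cancel_right]
    show _ = blockCoeff b m * ψ₁ (x * incl hNT m) * conj (f (x * incl hNT m * incl hNT m⁻¹))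
    rw [h7]
  have h6 : ∀ y : T, ∑ m : N, blockCoeff b m * ψ₁ y * conj (f (y * incl hNT m⁻¹)) =
      ψ₁ y * conj (ψ₂ y) := by
    intro y
    rw [h2 y, Finset.mul_sum, ← Equiv.sum_comp (Equiv.inv N)
      (fun m => ψ₁ y * (blockCoeff b m⁻¹ * conj (f (y * incl hNT m))))]
    refine Finset.sum_congr rfl fun m _ => ?_
    simp only [Equiv.inv_apply, inv_inv]
    ring
  calc ∑ x : T, ψ₁ x * conj (f x)
      = ∑ x : T, ∑ m : N, blockCoeff b m * ψ₁ (x * incl hNT m) * conj (f x) := by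
        refine Finset.sum_congr rfl fun x _ => ?_
        nth_rewrite 1 [h1 x]
        rw [Finset.sum_mul]
    _ = ∑ m : N, ∑ x : T, blockCoeff b m * ψ₁ (x * incl hNT m) * conj (f x) := Finset.sum_comm
    _ = ∑ m : N, ∑ y : T, blockCoeff b m * ψ₁ y * conj (f (y * incl hNT m⁻¹)) :=
        Finset.sum_congr rfl fun m _ => h5 m
    _ = ∑ y : T, ∑ m : N, blockCoeff b m * ψ₁ y * conj (f (y * incl hNT m⁻¹)) := Finset.sum_comm
    _ = ∑ y : T, ψ₁ y * conj (ψ₂ y) := Finset.sum_congr rfl fun y _ => h6 y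

/-- **Dichotomy**: a character of `T` with a constituent in `b` has all its constituents in `b`. -/
theorem over_of_cover (hT : IsStab b T) {ψ : T → ℂ} (hψ : IsIrrCharacter T ψ)
    {θ₀ : IrrCharacter N} (hθ₀ : θ₀ ∈ b) (h : classInner (ψ ∘ incl hNT) (θ₀ : N → ℂ) ≠ 0) :
    OverB hNT b ψ := by
  classical
  obtain ⟨n, ρ, hρ, rfl⟩ := hψ
  have hcomm : ∀ t : T, idemOp ρ (incl hNT) b ∘ₗ ρ t = ρ t ∘ₗ idemOp ρ (incl hNT) b := by
    intro t
    have h1 : idemOp ρ (incl hNT) b ∘ₗ ρ t = ∑ m : N, blockCoeff b m • ρ (incl hNT m * t) := by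
      apply LinearMap.ext
      intro v
      simp only [idemOp_apply_sum, LinearMap.comp_apply, LinearMap.sum_apply, LinearMap.smul_apply,
        map_mul, Module.End.mul_apply]
    have h2 : ρ t ∘ₗ idemOp ρ (incl hNT) b = ∑ m : N, blockCoeff b m • ρ (t * incl hNT m) := by
      apply LinearMap.ext
      intro v
      simp only [idemOp_apply_sum, LinearMap.comp_apply, LinearMap.sum_apply, LinearMap.smul_apply,
        map_sum, map_smul, map_mul, Module.End.mul_apply]
    rw [h1, h2, ← (conjAut N hN (t : G)).toEquiv.sum_comp]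
    refine Finset.sum_congr rfl fun m _ => ?_
    have h3 : incl hNT ((conjAut N hN (t : G)).toEquiv m) * t = t * incl hNT m := by
      apply Subtype.ext
      simp [conjAut, Subgroup.inclusion]
    have h4 : blockCoeff b ((conjAut N hN (t : G)).toEquiv m) = blockCoeff b m :=
      hT.blockCoeff_conj t.2 m
    rw [h3, h4]
  obtain ⟨c, hc⟩ := schur_scalar hρ _ hcomm
  have hθ₀' : idemOp ρ (incl hNT) {θ₀} ≠ 0 := fun h0 =>
    h ((idemOp_singleton_eq_zero_iff ρ (incl hNT) θ₀).mp h0)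
  have hprod : ∀ c' : Set (IrrCharacter N), idemOp ρ (incl hNT) c' ∘ₗ idemOp ρ (incl hNT) b =
      c • idemOp ρ (incl hNT) c' := by
    intro c'
    rw [hc]
    apply LinearMap.ext
    intro v
    simp
  have hc0 : c ≠ 0 := by
    rintro rfl
    apply hθ₀'
    have h1 := hprod {θ₀}
    rw [idemOp_comp, Set.inter_eq_left.mpr (Set.singleton_subset_iff.mpr hθ₀), zero_smul] at h1
    exact h1
  intro θ hθ
  have h1 := hprod {θ}
  have h2 : ({θ} : Set (IrrCharacter N)) ∩ b = ∅ := by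
    ext x
    simp only [Set.mem_inter_iff, Set.mem_singleton_iff, Set.mem_empty_iff_false, iff_false, not_and]
    rintro rfl
    exact hθ
  rw [idemOp_comp, h2, idemOp_eq_zero ρ (incl hNT) (by simp)] at h1
  have h3 := (smul_eq_zero.mp h1.symm).resolve_left hc0
  exact (idemOp_singleton_eq_zero_iff ρ (incl hNT) θ).mp h3

/-- The coefficient function of the idempotent of `b`, on `T`. -/
noncomputable def aT (b : Set (IrrCharacter N)) (T : Subgroup G) : T → ℂ :=
  fun y => extendByZero N (blockCoeff b) (y : G)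

theorem aT_isClassFunction (hT : IsStab b T) : IsClassFunction T (aT b T) := by
  intro y t
  unfold aT
  by_cases hy : (y : G) ∈ N
  · have h1 : ((t * y * t⁻¹ : T) : G) ∈ N := by
      simpa using hN.conj_mem y hy t
    rw [extendByZero_of_mem N _ h1, extendByZero_of_mem N _ hy]
    have h2 := hT.blockCoeff_conj t.2 ⟨(y : G), hy⟩
    refine Eq.trans ?_ h2
    congr 1
  · have h1 : ((t * y * t⁻¹ : T) : G) ∉ N := by
      intro h
      apply hy
      have := hN.conj_mem _ h (t : G)⁻¹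
      simpa [mul_assoc] using this
    rw [extendByZero_of_not_mem N _ h1, extendByZero_of_not_mem N _ hy]

theorem memLocalRing_aT {M : Ideal AlgInt} [M.IsPrime] (hb : IsPBlock M b) (y : T) :
    MemLocalRing M (aT b T y) := by
  unfold aT
  by_cases hy : (y : G) ∈ N
  · rw [extendByZero_of_mem N _ hy]
    exact memLocalRing_blockCoeff hb _
  · rw [extendByZero_of_not_mem N _ hy]
    exact memLocalRing_zero

theorem sum_aT_mul (f : T → ℂ) :
    ∑ y : T, aT b T y * f y = ∑ n : N, blockCoeff b n * f (incl hNT n) := by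
  refine (Fintype.sum_of_injective (incl hNT) (Subgroup.inclusion_injective hNT) _ _ ?_ ?_).symm
  · intro y hy
    have h1 : (y : G) ∉ N := by
      intro h
      exact hy ⟨⟨y, h⟩, rfl⟩
    unfold aT
    rw [extendByZero_of_not_mem N _ h1, zero_mul]
  · intro n
    unfold aT
    congr 1
    exact (extendByZero_coe N _ n).symm

include hNT in
theorem sum_conv_aT_mul (z : T → ℂ) (χ : G → ℂ) :
    ∑ y : T, conv z (aT b T) y * χ y =
      ∑ j : T, z j * ∑ n : N, blockCoeff b n * χ ((j : G) * n) := by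
  unfold conv
  simp_rw [Finset.sum_mul]
  rw [Finset.sum_comm]
  refine Finset.sum_congr rfl fun j _ => ?_
  have h1 := sum_aT_mul hNT (b := b) (fun y : T => χ ((j : G) * y))
  rw [show ∑ n : N, blockCoeff b n * χ ((j : G) * n) = _ from h1.symm, Finset.mul_sum,
    ← Equiv.sum_comp (Equiv.mulLeft j)]
  refine Finset.sum_congr rfl fun y _ => ?_
  simp only [Equiv.coe_mulLeft, inv_mul_cancel_left, Subgroup.coe_mul]
  ring

theorem sum_indFun_mul_class (h : T → ℂ) {χ : G → ℂ} (hχ : IsClassFunction G χ) :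
    ∑ x : G, indFun T h x * χ x = (T.index : ℂ) * ∑ y : T, h y * χ y := by
  have hcl : IsClassFunction G (fun g => conj (χ g)) := by
    intro g c
    simp only
    rw [hχ g c]
  have h1 := frobenius T h hcl
  unfold classInner at h1
  simp only [Complex.conj_conj] at h1
  have hG := Subgroup.card_mul_index T
  have hT0 := natCard_subgroup_ne_zero T
  have hG0 : (Nat.card G : ℂ) ≠ 0 := by exact_mod_cast Nat.card_pos.ne'
  have hG1 : (Nat.card G : ℂ) = (Nat.card T : ℂ) * (T.index : ℂ) := by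
    rw [← hG]
    push_cast
    rfl
  field_simp at h1
  rw [hG1] at h1
  have hT1 : (T.index : ℂ) ≠ 0 := by
    intro h0
    rw [hG1, h0, mul_zero] at hG0
    exact hG0 rfl
  have h2 := mul_left_cancel₀ hT0 (a := (Nat.card T : ℂ))
    (b := ∑ x : G, indFun T h x * χ x) (c := (T.index : ℂ) * ∑ y : T, h y * χ y)
  apply h2
  linear_combination h1

theorem index_ne_zero' (T : Subgroup G) : (T.index : ℂ) ≠ 0 := by
  exact_mod_cast Subgroup.index_ne_zero_of_finite

include hNT in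
theorem omega_indFun_conv (z : T → ℂ) {χ : G → ℂ} (hχ : IsClassFunction G χ) :
    omega χ (indFun T (conv z (aT b T))) =
      (T.index : ℂ) * (∑ j : T, z j * ∑ n : N, blockCoeff b n * χ ((j : G) * n)) / χ 1 := by
  unfold omega
  rw [sum_indFun_mul_class _ hχ, sum_conv_aT_mul hNT]

theorem omega_indFun_of_over (hT : IsStab b T) {M : Ideal AlgInt} [M.IsPrime]
    (hb : IsPBlock M b) (z : T → ℂ) {ψ : T → ℂ} (hψ : IsCharacter T ψ) (hO : OverB hNT b ψ) :
    omega (indFun T ψ) (indFun T (conv z (aT b T))) = omega ψ z := by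
  rw [omega_indFun_conv hNT z (indFun_isClassFunction T ψ), indFun_one]
  simp_rw [sum_blockCoeff_indFun hNT hT hb hψ hO]
  unfold omega
  rw [mul_div_mul_left _ _ (index_ne_zero' T)]

include hNT in
theorem omega_indFun_of_not_cover (z : T → ℂ) {χ : G → ℂ} (hχ : IsCharacter G χ)
    (h : ∀ θ ∈ b, classInner (fun n : N => χ n) (θ : N → ℂ) = 0) :
    omega χ (indFun T (conv z (aT b T))) = 0 := by
  rw [omega_indFun_conv hNT z (isClassFunction_of_isCharacter hχ)]
  have h1 : ∀ j : T, ∑ n : N, blockCoeff b n * χ ((j : G) * n) = 0 := by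
    intro j
    exact sum_blockCoeff_char_mul_eq_zero N.subtype hχ h (j : G)
  simp_rw [h1]
  simp

omit [Fintype N] in
theorem memLocalRing_indFun {M : Ideal AlgInt} [M.IsPrime] {h : T → ℂ} (hcl : IsClassFunction T h)
    (hR : ∀ y, MemLocalRing M (h y)) (x : G) : MemLocalRing M (indFun T h x) := by
  classical
  letI : Fintype (G ⧸ T) := Fintype.ofFinite _
  have hr : Function.Bijective (fun i : G ⧸ T => (QuotientGroup.mk (Quotient.out i) : G ⧸ T)) := by
    have h1 : (fun i : G ⧸ T => (QuotientGroup.mk (Quotient.out i) : G ⧸ T)) = id := by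
      funext i
      exact QuotientGroup.out_eq' i
    rw [h1]
    exact Function.bijective_id
  rw [Cfsg.Agent.Lib.GL2Char.indFun_eq_sum_reps T (fun i : G ⧸ T => Quotient.out i) hr h hcl x]
  refine memLocalRing_sum _ _ fun i _ => ?_
  by_cases hy : (Quotient.out i)⁻¹ * x * Quotient.out i ∈ T
  · rw [extendByZero_of_mem T _ hy]
    exact hR _
  · rw [extendByZero_of_not_mem T _ hy]
    exact memLocalRing_zero

theorem memLocalRing_conv {A : Type*} [Group A] [Fintype A] {M : Ideal AlgInt} [M.IsPrime]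
    {f h : A → ℂ} (hf : ∀ y, MemLocalRing M (f y)) (hh : ∀ y, MemLocalRing M (h y)) (x : A) :
    MemLocalRing M (conv f h x) :=
  memLocalRing_sum _ _ fun y _ => memLocalRing_mul (hf _) (hh _)

/-- **The correspondence reflects blocks.** -/
theorem sameBlock_of_sameBlock_indFun (hT : IsStab b T) {M : Ideal AlgInt} [M.IsPrime]
    (hb : IsPBlock M b) {ψ₁ ψ₂ : IrrCharacter T}
    (hO₁ : OverB hNT b (ψ₁ : T → ℂ)) (hO₂ : OverB hNT b (ψ₂ : T → ℂ))
    {χ₁ χ₂ : IrrCharacter G} (h₁ : (χ₁ : G → ℂ) = indFun T (ψ₁ : T → ℂ))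
    (h₂ : (χ₂ : G → ℂ) = indFun T (ψ₂ : T → ℂ))
    (hS : SameBlock M (χ₁ : G → ℂ) (χ₂ : G → ℂ)) :
    SameBlock M (ψ₁ : T → ℂ) (ψ₂ : T → ℂ) := by
  classical
  intro t
  set z : T → ℂ := castFun (classIndicator t) with hz
  have hzcl : IsClassFunction T z := castFun_isClassFunction (classIndicator_mem t)
  have hzR : ∀ y, MemLocalRing M (z y) := fun y => memLocalRing_intCast _
  set h : T → ℂ := conv z (aT b T) with hh
  have hhcl : IsClassFunction T h := conv_isClassFunction hzcl (aT_isClassFunction hT)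
  have hhR : ∀ y, MemLocalRing M (h y) := memLocalRing_conv hzR (memLocalRing_aT hb)
  have hZ := mem_Zc_of_classFunction (M := M) (indFun_isClassFunction T h)
    (memLocalRing_indFun hhcl hhR)
  have h3 := memLocalIdeal_sub_of_mem_Zc hZ hS
  rw [h₁, h₂, omega_indFun_of_over hNT hT hb z (IsIrrCharacter.isCharacter ψ₁.2) hO₁,
    omega_indFun_of_over hNT hT hb z (IsIrrCharacter.isCharacter ψ₂.2) hO₂, hz,
    omega_classIndicator, omega_classIndicator] at h3
  exact h3

/-- Covering is a property of blocks of `T`. -/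
theorem cover_of_sameBlock_T (hT : IsStab b T) {M : Ideal AlgInt} [M.IsPrime] (hb : IsPBlock M b)
    {ψ ψ' : IrrCharacter T} (hS : SameBlock M (ψ : T → ℂ) (ψ' : T → ℂ))
    (hO : OverB hNT b (ψ : T → ℂ)) :
    ∃ θ ∈ b, classInner ((ψ' : T → ℂ) ∘ incl hNT) (θ : N → ℂ) ≠ 0 := by
  classical
  by_contra hcon
  push Not at hcon
  have hZ := mem_Zc_of_classFunction (M := M) (aT_isClassFunction hT) (memLocalRing_aT hb)
  have h3 := memLocalIdeal_sub_of_mem_Zc hZ hS
  have h1 : omega (ψ : T → ℂ) (aT b T) = 1 := by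
    unfold omega
    rw [sum_aT_mul hNT]
    have h2 := sum_blockCoeff_char_mul_eq_self (incl hNT) (IsIrrCharacter.isCharacter ψ.2) hO 1
    simp only [one_mul] at h2
    rw [h2]
    exact div_self (irr_one_ne_zero' ψ.2)
  have h2 : omega (ψ' : T → ℂ) (aT b T) = 0 := by
    unfold omega
    rw [sum_aT_mul hNT]
    have h2 := sum_blockCoeff_char_mul_eq_zero (incl hNT) (IsIrrCharacter.isCharacter ψ'.2) hcon 1
    simp only [one_mul] at h2
    rw [h2, zero_div]
  rw [h1, h2, sub_zero] at h3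
  exact not_memLocalIdeal_one h3

/-- Covering in `G` for the block of an induced character. -/
theorem cover_of_sameBlock_G (hT : IsStab b T) {M : Ideal AlgInt} [M.IsPrime] (hb : IsPBlock M b)
    {ψ : T → ℂ} (hψ : IsCharacter T ψ) (hψ1 : ψ 1 ≠ 0) (hO : OverB hNT b ψ)
    {χ₀ χ : IrrCharacter G} (h₀ : (χ₀ : G → ℂ) = indFun T ψ)
    (hS : SameBlock M (χ₀ : G → ℂ) (χ : G → ℂ)) :
    ∃ θ ∈ b, classInner (fun n : N => (χ : G → ℂ) n) (θ : N → ℂ) ≠ 0 := by
  classical
  by_contra hcon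
  push Not at hcon
  have hzcl : IsClassFunction T (delta : T → ℂ) := delta_isClassFunction
  have hzR : ∀ y, MemLocalRing M ((delta : T → ℂ) y) := by
    intro y
    unfold delta
    split_ifs
    · exact memLocalRing_one
    · exact memLocalRing_zero
  have hhcl : IsClassFunction T (conv delta (aT b T)) :=
    conv_isClassFunction hzcl (aT_isClassFunction hT)
  have hhR : ∀ y, MemLocalRing M ((conv delta (aT b T)) y) :=
    memLocalRing_conv hzR (memLocalRing_aT hb)
  have hZ := mem_Zc_of_classFunction (M := M) (indFun_isClassFunction T _)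
    (memLocalRing_indFun hhcl hhR)
  have h3 := memLocalIdeal_sub_of_mem_Zc hZ hS
  rw [h₀, omega_indFun_of_over hNT hT hb delta hψ hO,
    omega_indFun_of_not_cover hNT delta (IsIrrCharacter.isCharacter χ.2) hcon, sub_zero] at h3
  have h4 : omega ψ (delta : T → ℂ) = 1 := by
    unfold omega
    rw [delta_mul_sum]
    exact div_self hψ1
  rw [h4] at h3
  exact not_memLocalIdeal_one h3

/-- The induced character of an irreducible character over `b` is irreducible. -/
theorem isIrrCharacter_indFun_of_over (hT : IsStab b T) {M : Ideal AlgInt} [M.IsPrime]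
    (hb : IsPBlock M b) {ψ : T → ℂ} (hψ : IsIrrCharacter T ψ) (hO : OverB hNT b ψ) :
    IsIrrCharacter G (indFun T ψ) := by
  have hc := IsIrrCharacter.isCharacter hψ
  rw [isIrrCharacter_iff_norm_one]
  refine ⟨indFun_isCharacter T hc, ?_⟩
  rw [classInner_indFun_indFun_of_over hNT hT hb hc hc hO hO, classInner_irr_self hψ]

/-- A constituent over `θ` of the restriction to `T`. -/
theorem exists_constituent {χ : G → ℂ} (hχ : IsCharacter G χ) {θ : N → ℂ}
    (hθ : IsIrrCharacter N θ)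
    (h : classInner (fun n : N => χ n) θ ≠ 0) :
    ∃ ψ : IrrCharacter T, classInner ((ψ : T → ℂ) ∘ incl hNT) θ ≠ 0 ∧
      classInner (fun t : T => χ t) (ψ : T → ℂ) ≠ 0 := by
  classical
  have hχT := isCharacter_restrict T hχ
  obtain ⟨k, hk⟩ := exists_nat_decomp hχT
  have h10 : (fun n : N => χ n) =
      ∑ ψ' : IrrCharacter T, (k ψ' : ℂ) • ((ψ' : T → ℂ) ∘ incl hNT) := by
    funext n
    have h11 := congrFun hk (incl hNT n)
    refine h11.trans ?_
    simp [Finset.sum_apply]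
  obtain ⟨ψ, hkψ, hrψ⟩ : ∃ ψ : IrrCharacter T, k ψ ≠ 0 ∧
      classInner ((ψ : T → ℂ) ∘ incl hNT) θ ≠ 0 := by
    by_contra hall
    push Not at hall
    apply h
    rw [h10, classInner_sum_left]
    apply Finset.sum_eq_zero
    intro ψ' _
    rw [classInner_smul_left]
    by_cases h1 : k ψ' = 0
    · simp [h1]
    · rw [hall ψ' h1, mul_zero]
  refine ⟨ψ, hrψ, ?_⟩
  have h2 := classInner_nat_decomp k (ψ : T → ℂ) ψ.2
  rw [hk, h2]
  exact_mod_cast hkψ

/-- A character over `b` whose induced character contains `χ` induces to `χ`. -/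
theorem eq_indFun_of_constituent (hT : IsStab b T) {M : Ideal AlgInt} [M.IsPrime]
    (hb : IsPBlock M b) {χ : G → ℂ} (hχ : IsIrrCharacter G χ) {ψ : T → ℂ}
    (hψ : IsIrrCharacter T ψ) (hO : OverB hNT b ψ)
    (h : classInner (fun t : T => χ t) ψ ≠ 0) : χ = indFun T ψ := by
  classical
  by_contra hne
  have h1 := classInner_irr_ne hχ (isIrrCharacter_indFun_of_over hNT hT hb hψ hO) hne
  have h2 := frobenius T ψ (isClassFunction_of_isCharacter (IsIrrCharacter.isCharacter hχ))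
  have h3 := classInner_irr_ne (isIrrCharacter_indFun_of_over hNT hT hb hψ hO) hχ (Ne.symm hne)
  rw [h2, ← classInner_conj_symm] at h3
  have h4 : classInner (fun t : T => χ t) ψ = 0 := by
    have := congrArg conj h3
    simpa using this
  exact h h4

/-- **Fong–Reynolds (i)**: the block induced by a block of `T` covering `b`. -/
theorem exists_induced (hT : IsStab b T) {M : Ideal AlgInt} [M.IsPrime] (hb : IsPBlock M b)
    {B' : Set (IrrCharacter T)} (hB' : IsPBlock M B')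
    (hcov : ∃ ψ ∈ B', ∃ θ ∈ b, classInner ((ψ : T → ℂ) ∘ incl hNT) (θ : N → ℂ) ≠ 0) :
    ∃ B : Set (IrrCharacter G), IsInducedBlock M T B' B ∧
      (∃ χ ∈ B, ∃ θ ∈ b, classInner (fun n : N => (χ : G → ℂ) n) (θ : N → ℂ) ≠ 0) ∧
      (∀ ψ ∈ B', IsIrrCharacter G (indFun T (ψ : T → ℂ))) ∧
      (∀ χ : IrrCharacter G, χ ∈ B ↔ ∃ ψ ∈ B', (χ : G → ℂ) = indFun T (ψ : T → ℂ)) := by
  classical
  obtain ⟨ψ₀, hψ₀, θ₀, hθ₀, hne⟩ := hcov
  have hO₀ := over_of_cover hNT hT ψ₀.2 hθ₀ hne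
  have hOall : ∀ ψ ∈ B', OverB hNT b (ψ : T → ℂ) := by
    intro ψ hψ
    obtain ⟨θ, hθ, hne'⟩ := cover_of_sameBlock_T hNT hT hb
      (Cfsg.Agent.Lib.BlockDefect.sameBlock_of_mem hB' hψ₀ hψ) hO₀
    exact over_of_cover hNT hT ψ.2 hθ hne'
  have hirr : ∀ ψ ∈ B', IsIrrCharacter G (indFun T (ψ : T → ℂ)) := fun ψ hψ =>
    isIrrCharacter_indFun_of_over hNT hT hb ψ.2 (hOall ψ hψ)
  let χ₀ : IrrCharacter G := ⟨indFun T (ψ₀ : T → ℂ), hirr ψ₀ hψ₀⟩
  have hχ₀ : (χ₀ : G → ℂ) = indFun T (ψ₀ : T → ℂ) := rfl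
  have hsub : ∀ ψ ∈ B', ∀ g : G, MemLocalIdeal M (inducedCentralChar T (ψ : T → ℂ) g -
      inducedCentralChar T (ψ₀ : T → ℂ) g) := fun ψ hψ g =>
    Cfsg.Agent.Lib.BlkBrauer.inducedCentralChar_sub_of_sameBlock T
      (Cfsg.Agent.Lib.BlockDefect.sameBlock_of_mem hB' hψ hψ₀) g
  have hχ₀c : ∀ g, centralChar (χ₀ : G → ℂ) g = inducedCentralChar T (ψ₀ : T → ℂ) g := fun g =>
    centralChar_indFun T _ g
  refine ⟨blockOf M (χ₀ : G → ℂ), ⟨hB', ⟨χ₀, rfl⟩, ?_⟩, ?_, hirr, ?_⟩
  · intro ξ hξ χ hχ g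
    have h1 := hsub ξ hξ g
    have h2 : MemLocalIdeal M (inducedCentralChar T (ψ₀ : T → ℂ) g - centralChar (χ : G → ℂ) g) := by
      rw [← hχ₀c]
      exact hχ g
    exact memLocalIdeal_sub_trans h1 h2
  · obtain ⟨θ, hθ, hne'⟩ := cover_of_sameBlock_G hNT hT hb (IsIrrCharacter.isCharacter ψ₀.2)
      (irr_one_ne_zero' ψ₀.2) hO₀ hχ₀ (sameBlock_refl _)
    exact ⟨χ₀, mem_blockOf_self χ₀, θ, hθ, hne'⟩
  · intro χ
    constructor
    · intro hχ
      obtain ⟨θ, hθ, hne'⟩ := cover_of_sameBlock_G hNT hT hb (IsIrrCharacter.isCharacter ψ₀.2)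
        (irr_one_ne_zero' ψ₀.2) hO₀ hχ₀ hχ
      obtain ⟨ψ', h1, h2⟩ := exists_constituent hNT (IsIrrCharacter.isCharacter χ.2) θ.2 hne'
      have hO' := over_of_cover hNT hT ψ'.2 hθ h1
      have h3 := eq_indFun_of_constituent hNT hT hb χ.2 ψ'.2 hO' h2
      refine ⟨ψ', ?_, h3⟩
      have h4 := sameBlock_of_sameBlock_indFun hNT hT hb hO₀ hO' hχ₀ h3 hχ
      obtain ⟨ξ, rfl⟩ := hB'
      exact sameBlock_trans hψ₀ h4
    · rintro ⟨ψ, hψ, h⟩
      intro g
      rw [hχ₀c, h, centralChar_indFun]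
      exact memLocalIdeal_sub_comm (hsub ψ hψ g)

/-- **Fong–Reynolds (ii)**. -/
theorem eq_of_induced_eq (hT : IsStab b T) {M : Ideal AlgInt} [M.IsPrime] (hb : IsPBlock M b)
    {B₁ B₂ : Set (IrrCharacter T)}
    (hcov₁ : ∃ ψ ∈ B₁, ∃ θ ∈ b, classInner ((ψ : T → ℂ) ∘ incl hNT) (θ : N → ℂ) ≠ 0)
    (hcov₂ : ∃ ψ ∈ B₂, ∃ θ ∈ b, classInner ((ψ : T → ℂ) ∘ incl hNT) (θ : N → ℂ) ≠ 0)
    {B : Set (IrrCharacter G)} (h₁ : IsInducedBlock M T B₁ B) (h₂ : IsInducedBlock M T B₂ B) :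
    B₁ = B₂ := by
  classical
  obtain ⟨ψ₁, hψ₁, θ₁, hθ₁, hne₁⟩ := hcov₁
  obtain ⟨ψ₂, hψ₂, θ₂, hθ₂, hne₂⟩ := hcov₂
  have hO₁ := over_of_cover hNT hT ψ₁.2 hθ₁ hne₁
  have hO₂ := over_of_cover hNT hT ψ₂.2 hθ₂ hne₂
  let χ₁ : IrrCharacter G := ⟨_, isIrrCharacter_indFun_of_over hNT hT hb ψ₁.2 hO₁⟩
  let χ₂ : IrrCharacter G := ⟨_, isIrrCharacter_indFun_of_over hNT hT hb ψ₂.2 hO₂⟩
  obtain ⟨χ, hχ⟩ := Cfsg.Agent.Lib.BlockSection.exists_mem_of_isPBlock h₁.2.1
  have hS : SameBlock M (χ₁ : G → ℂ) (χ₂ : G → ℂ) := by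
    intro g
    have h3 := h₁.2.2 ψ₁ hψ₁ χ hχ g
    have h4 := h₂.2.2 ψ₂ hψ₂ χ hχ g
    have h5 : centralChar (χ₁ : G → ℂ) g = inducedCentralChar T (ψ₁ : T → ℂ) g :=
      centralChar_indFun T _ g
    have h6 : centralChar (χ₂ : G → ℂ) g = inducedCentralChar T (ψ₂ : T → ℂ) g :=
      centralChar_indFun T _ g
    rw [h5, h6]
    exact memLocalIdeal_sub_trans h3 (memLocalIdeal_sub_comm h4)
  have h7 := sameBlock_of_sameBlock_indFun hNT hT hb hO₁ hO₂ rfl rfl hS
  have h8 := h₁.1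
  have h9 := h₂.1
  rcases eq_or_disjoint_of_isPBlock h8 h9 with h | h
  · exact h
  · exfalso
    have h10 : ψ₂ ∈ B₁ := by
      obtain ⟨ξ, rfl⟩ := h8
      exact sameBlock_trans hψ₁ h7
    exact Set.disjoint_left.mp h h10 hψ₂

/-- **Fong–Reynolds (iii)**. -/
theorem exists_induced_of_cover (hT : IsStab b T) {M : Ideal AlgInt} [M.IsPrime] (hb : IsPBlock M b)
    {B : Set (IrrCharacter G)} (hB : IsPBlock M B)
    (hcov : ∃ χ ∈ B, ∃ θ ∈ b, classInner (fun n : N => (χ : G → ℂ) n) (θ : N → ℂ) ≠ 0) :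
    ∃ B' : Set (IrrCharacter T), IsPBlock M B' ∧
      (∃ ψ ∈ B', ∃ θ ∈ b, classInner ((ψ : T → ℂ) ∘ incl hNT) (θ : N → ℂ) ≠ 0) ∧
      IsInducedBlock M T B' B := by
  classical
  obtain ⟨χ, hχ, θ, hθ, hne⟩ := hcov
  obtain ⟨ψ, h1, h2⟩ := exists_constituent hNT (IsIrrCharacter.isCharacter χ.2) θ.2 hne
  have hO := over_of_cover hNT hT ψ.2 hθ h1
  have h3 := eq_indFun_of_constituent hNT hT hb χ.2 ψ.2 hO h2
  have hB' : IsPBlock M (blockOf M (ψ : T → ℂ)) := ⟨ψ, rfl⟩
  have hcov' : ∃ ψ' ∈ blockOf M (ψ : T → ℂ), ∃ θ ∈ b,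
      classInner ((ψ' : T → ℂ) ∘ incl hNT) (θ : N → ℂ) ≠ 0 :=
    ⟨ψ, mem_blockOf_self ψ, θ, hθ, h1⟩
  obtain ⟨B₁, h4, -, -, h5⟩ := exists_induced hNT hT hb hB' hcov'
  refine ⟨_, hB', hcov', ?_⟩
  have h6 : χ ∈ B₁ := (h5 χ).mpr ⟨ψ, mem_blockOf_self ψ, h3⟩
  rcases eq_or_disjoint_of_isPBlock h4.2.1 hB with h | h
  · rwa [h] at h4
  · exact absurd hχ (Set.disjoint_left.mp h h6)

end Stab

end Cfsg.Agent.Lib.FongReynolds
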