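import Mathlib

/-!
# A nilpotence criterion in group algebras graded by a quotient

Let `N ⊴ G`, `k` a field.  An idempotent `e` of `k[G]` commuting with `N`, all of whose products of
homogeneous components of total degree `1` are nilpotent, is zero.  The pigeonhole principle gives
that each long product of homogeneous components contains a product of degree `1`; the nilpotent
elements in the centre of `k[N]` generate a nilpotent ideal of `k[G]`.
-/

set_option autoImplicit false
set_option linter.unusedSectionVars false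
set_option linter.unusedVariables false
set_option linter.style.haveILetI false

namespace Cfsg.Agent.Lib.GroupAlgNil

section Lists

variable {Γ : Type*} [Group Γ] [Fintype Γ]

/-- A list at least as long as the group contains a nonempty block with product `1`. -/
theorem exists_block (l : List Γ) (hl : Fintype.card Γ ≤ l.length) :
    ∃ l₁ l₂ l₃ : List Γ, l = l₁ ++ (l₂ ++ l₃) ∧ l₂ ≠ [] ∧ l₂.prod = 1 := by
  classical
  let f : Fin (l.length + 1) → Γ := fun i => (l.take i).prod
  have hc : Fintype.card Γ < Fintype.card (Fin (l.length + 1)) := by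
    rw [Fintype.card_fin]
    omega
  obtain ⟨i, j, hij, hf⟩ := Fintype.exists_ne_map_eq_of_card_lt f hc
  have key : ∀ i j : Fin (l.length + 1), (i : ℕ) < j → f i = f j →
      ∃ l₁ l₂ l₃ : List Γ, l = l₁ ++ (l₂ ++ l₃) ∧ l₂ ≠ [] ∧ l₂.prod = 1 := by
    intro i j hlt hf
    have hj : (j : ℕ) ≤ l.length := Nat.lt_succ_iff.mp j.2
    have h1 : (l.drop i).take (j - i) ++ l.drop j = l.drop i := by
      have h2 : l.drop j = (l.drop i).drop (j - i) := by
        rw [List.drop_drop]
        congr 1
        omega
      rw [h2, List.take_append_drop]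
    have h3 : l.take j = l.take i ++ (l.drop i).take (j - i) := by
      have h4 : (j : ℕ) = i + (j - i) := by omega
      conv_lhs => rw [h4]
      rw [List.take_add]
    refine ⟨l.take i, (l.drop i).take (j - i), l.drop j, ?_, ?_, ?_⟩
    · rw [h1, List.take_append_drop]
    · intro h0
      have := congrArg List.length h0
      simp only [List.length_take, List.length_drop, List.length_nil] at this
      omega
    · have h5 : f j = f i * ((l.drop i).take (j - i)).prod := by
        show (l.take j).prod = _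
        rw [h3, List.prod_append]
      rw [← hf] at h5
      exact (mul_eq_left.mp h5.symm)
  rcases lt_or_gt_of_ne (fun h => hij (Fin.ext h) : (i : ℕ) ≠ j) with h | h
  · exact key i j h hf
  · exact key j i h hf.symm

variable {Q : Type*} [Ring Q]

theorem pow_sum_mem_aux (V : Γ → Q) (W : AddSubgroup Q) (m : ℕ) :
    ∀ l₀ : List Γ, (∀ l : List Γ, l.length = m → ((l₀ ++ l).map V).prod ∈ W) →
      (l₀.map V).prod * (∑ x, V x) ^ m ∈ W := by
  induction m with
  | zero =>
    intro l₀ h
    simpa using h [] rfl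
  | succ m ih =>
    intro l₀ h
    rw [pow_succ', ← mul_assoc, Finset.mul_sum, Finset.sum_mul]
    refine sum_mem fun x _ => ?_
    have h1 := ih (l₀ ++ [x]) (fun l hl => by
      have h2 := h (x :: l) (by simp [hl])
      simpa [List.append_assoc] using h2)
    simpa [List.map_append, List.prod_append] using h1

/-- The power of a sum lies in an additive subgroup containing all products of the right length. -/
theorem pow_sum_mem (V : Γ → Q) (W : AddSubgroup Q) (m : ℕ)
    (h : ∀ l : List Γ, l.length = m → (l.map V).prod ∈ W) : (∑ x, V x) ^ m ∈ W := by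
  have := pow_sum_mem_aux V W m [] (fun l hl => by simpa using h l hl)
  simpa using this

end Lists

open MonoidAlgebra

section Coeff

variable {S : Type*} [CommRing S] {G : Type*} [Group G] [Fintype G]

theorem coeff_mul_fintype (x y : MonoidAlgebra S G) (g : G) :
    (x * y).coeff g = ∑ h : G, x.coeff h * y.coeff (h⁻¹ * g) := by
  rw [MonoidAlgebra.coeff_mul_apply_left, Finsupp.sum_fintype]
  intro i
  simp

/-- The element with a given coefficient function. -/
noncomputable def ofFun (f : G → S) : MonoidAlgebra S G :=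
  MonoidAlgebra.ofCoeff (Finsupp.equivFunOnFinite.symm f)

@[simp] theorem coeff_ofFun (f : G → S) (g : G) : (ofFun f).coeff g = f g := rfl

theorem ext_coeff {x y : MonoidAlgebra S G} (h : ∀ g, x.coeff g = y.coeff g) : x = y :=
  MonoidAlgebra.coeff_injective (Finsupp.ext h)

theorem eq_sum_single (a : MonoidAlgebra S G) : a = ∑ g : G, a.coeff g • single g (1 : S) := by
  classical
  apply ext_coeff
  intro u
  rw [MonoidAlgebra.coeff_sum, Finsupp.finsetSum_apply, Finset.sum_eq_single u]
  · simp
  · intro g _ hg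
    simp [MonoidAlgebra.coeff_single, hg]
  · simp

end Coeff

section Graded

variable {S : Type*} [CommRing S] {G : Type*} [Group G] [Fintype G] (N : Subgroup G) [hN : N.Normal]

/-- The homogeneous component of `a` on the coset `x`. -/
noncomputable def comp (x : G ⧸ N) (a : MonoidAlgebra S G) : MonoidAlgebra S G :=
  ofFun fun g => @ite S ((g : G ⧸ N) = x) (Classical.propDecidable _) (a.coeff g) 0

theorem coeff_comp (x : G ⧸ N) (a : MonoidAlgebra S G) (g : G) :
    (comp N x a).coeff g = @ite S ((g : G ⧸ N) = x) (Classical.propDecidable _) (a.coeff g) 0 := rfl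

theorem coeff_comp_self (a : MonoidAlgebra S G) (g : G) :
    (comp N (g : G ⧸ N) a).coeff g = a.coeff g := by
  rw [coeff_comp, if_pos rfl]

theorem sum_comp [Fintype (G ⧸ N)] (a : MonoidAlgebra S G) : ∑ x : G ⧸ N, comp N x a = a := by
  classical
  apply ext_coeff
  intro g
  rw [MonoidAlgebra.coeff_sum, Finsupp.finsetSum_apply, Finset.sum_eq_single (g : G ⧸ N)]
  · exact coeff_comp_self N a g
  · intro x _ hx
    rw [coeff_comp, if_neg (Ne.symm hx)]
  · simp

/-- `a` is supported on the coset `x`. -/
def IsHom (x : G ⧸ N) (a : MonoidAlgebra S G) : Prop := ∀ g, a.coeff g ≠ 0 → (g : G ⧸ N) = x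

theorem isHom_comp (x : G ⧸ N) (a : MonoidAlgebra S G) : IsHom N x (comp N x a) := by
  intro g hg
  by_contra h
  apply hg
  rw [coeff_comp, if_neg h]

theorem IsHom.mul {x y : G ⧸ N} {a b : MonoidAlgebra S G} (ha : IsHom N x a) (hb : IsHom N y b) :
    IsHom N (x * y) (a * b) := by
  intro g hg
  rw [coeff_mul_fintype] at hg
  obtain ⟨h, _, hh⟩ := Finset.exists_ne_zero_of_sum_ne_zero hg
  have h1 := ha h (left_ne_zero_of_mul hh)
  have h2 := hb _ (right_ne_zero_of_mul hh)
  rw [← h1, ← h2]
  rw [← QuotientGroup.mk_mul, mul_inv_cancel_left]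

theorem isHom_one : IsHom N (1 : G ⧸ N) (1 : MonoidAlgebra S G) := by
  classical
  intro g hg
  rw [MonoidAlgebra.one_def] at hg
  have h1 : g = 1 := by
    by_contra h
    apply hg
    simp [MonoidAlgebra.coeff_single, Ne.symm h]
  rw [h1]
  rfl

theorem comp_mul_of_isHom_one {β : MonoidAlgebra S G} (hβ : IsHom N (1 : G ⧸ N) β) (x : G ⧸ N)
    (a : MonoidAlgebra S G) : comp N x (a * β) = comp N x a * β := by
  classical
  apply ext_coeff
  intro g
  rw [coeff_comp, coeff_mul_fintype, coeff_mul_fintype]
  by_cases hg : (g : G ⧸ N) = x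
  · rw [if_pos hg]
    refine Finset.sum_congr rfl fun h _ => ?_
    by_cases hβ0 : β.coeff (h⁻¹ * g) = 0
    · rw [hβ0, mul_zero, mul_zero]
    · have h1 := hβ _ hβ0
      have h2 : (h : G ⧸ N) = x := by
        rw [← hg]
        have h3 : (g : G ⧸ N) = (h : G ⧸ N) * ((h⁻¹ * g : G) : G ⧸ N) := by
          rw [← QuotientGroup.mk_mul, mul_inv_cancel_left]
        rw [h3, h1, mul_one]
      rw [coeff_comp, if_pos h2]
  · rw [if_neg hg]
    symm
    refine Finset.sum_eq_zero fun h _ => ?_
    by_cases hβ0 : β.coeff (h⁻¹ * g) = 0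
    · rw [hβ0, mul_zero]
    · have h1 := hβ _ hβ0
      have h2 : (h : G ⧸ N) ≠ x := by
        intro h4
        apply hg
        have h3 : (g : G ⧸ N) = (h : G ⧸ N) * ((h⁻¹ * g : G) : G ⧸ N) := by
          rw [← QuotientGroup.mk_mul, mul_inv_cancel_left]
        rw [h3, h1, mul_one, h4]
      rw [coeff_comp, if_neg h2, zero_mul]

theorem mul_comp_of_isHom_one {β : MonoidAlgebra S G} (hβ : IsHom N (1 : G ⧸ N) β) (x : G ⧸ N)
    (a : MonoidAlgebra S G) : comp N x (β * a) = β * comp N x a := by
  classical
  apply ext_coeff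
  intro g
  rw [coeff_comp, coeff_mul_fintype, coeff_mul_fintype]
  by_cases hg : (g : G ⧸ N) = x
  · rw [if_pos hg]
    refine Finset.sum_congr rfl fun h _ => ?_
    by_cases hβ0 : β.coeff h = 0
    · rw [hβ0, zero_mul, zero_mul]
    · have h1 := hβ _ hβ0
      have h2 : ((h⁻¹ * g : G) : G ⧸ N) = x := by
        rw [QuotientGroup.mk_mul, QuotientGroup.mk_inv, h1, inv_one, one_mul, hg]
      rw [coeff_comp, if_pos h2]
  · rw [if_neg hg]
    symm
    refine Finset.sum_eq_zero fun h _ => ?_
    by_cases hβ0 : β.coeff h = 0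
    · rw [hβ0, zero_mul]
    · have h1 := hβ _ hβ0
      have h2 : ((h⁻¹ * g : G) : G ⧸ N) ≠ x := by
        rw [QuotientGroup.mk_mul, QuotientGroup.mk_inv, h1, inv_one, one_mul]
        exact hg
      rw [coeff_comp, if_neg h2, mul_zero]

/-- `a` commutes with `N`. -/
def CommN (a : MonoidAlgebra S G) : Prop :=
  ∀ n ∈ N, single n (1 : S) * a = a * single n (1 : S)

omit [Fintype G] hN in
theorem commN_iff {a : MonoidAlgebra S G} :
    CommN N a ↔ ∀ n ∈ N, ∀ g, a.coeff (n⁻¹ * g) = a.coeff (g * n⁻¹) := by
  constructor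
  · intro h n hn g
    have h1 := congrArg (fun x => x.coeff g) (h n hn)
    simpa using h1
  · intro h n hn
    apply MonoidAlgebra.coeff_injective
    ext g
    simpa using h n hn g

theorem CommN.comp {a : MonoidAlgebra S G} (ha : CommN N a) (x : G ⧸ N) :
    CommN N (comp N x a) := by
  rw [commN_iff] at ha ⊢
  intro n hn g
  have h1 : ((n⁻¹ * g : G) : G ⧸ N) = (g : G ⧸ N) := by
    rw [QuotientGroup.eq]
    simpa [mul_assoc] using hN.conj_mem _ hn g⁻¹
  have h2 : ((g * n⁻¹ : G) : G ⧸ N) = (g : G ⧸ N) := by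
    rw [QuotientGroup.mk_mul, (QuotientGroup.eq_one_iff _).mpr (N.inv_mem hn), mul_one]
  rw [coeff_comp, coeff_comp, h1, h2, ha n hn g]

omit [Fintype G] hN in
theorem CommN.mul {a b : MonoidAlgebra S G} (ha : CommN N a) (hb : CommN N b) :
    CommN N (a * b) := by
  intro n hn
  rw [← mul_assoc, ha n hn, mul_assoc, hb n hn, mul_assoc]

omit [Fintype G] hN in
theorem commN_one : CommN N (1 : MonoidAlgebra S G) := by
  intro n _
  rw [one_mul, mul_one]

theorem isHom_prod (e : MonoidAlgebra S G) (l : List (G ⧸ N)) :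
    IsHom N l.prod ((l.map (fun x => comp N x e)).prod) := by
  induction l with
  | nil => exact isHom_one N
  | cons x l ih =>
    simp only [List.map_cons, List.prod_cons]
    exact (isHom_comp N x e).mul N ih

theorem commN_prod {e : MonoidAlgebra S G} (he : CommN N e) (l : List (G ⧸ N)) :
    CommN N ((l.map (fun x => comp N x e)).prod) := by
  induction l with
  | nil => exact commN_one N
  | cons x l ih =>
    simp only [List.map_cons, List.prod_cons]
    exact (he.comp N x).mul N ih

theorem map_comp {S' : Type*} [CommRing S'] (φ : S →+* S') (x : G ⧸ N) (a : MonoidAlgebra S G) :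
    mapRingHom G φ (comp N x a) = comp N x (mapRingHom G φ a) := by
  apply ext_coeff
  intro g
  rw [coeff_mapRingHom, coeff_comp, coeff_comp, coeff_mapRingHom]
  split_ifs
  · rfl
  · exact map_zero φ

end Graded

section Field

variable {k : Type*} [Field k] {G : Type*} [Group G] [Fintype G] (N : Subgroup G) [hN : N.Normal]

/-- The centre of `k[N]` inside `k[G]`. -/
def ZN : Subalgebra k (MonoidAlgebra k G) where
  carrier := {a | IsHom N (1 : G ⧸ N) a ∧ CommN N a}
  mul_mem' := by
    rintro a b ⟨h1, h2⟩ ⟨h3, h4⟩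
    refine ⟨?_, h2.mul N h4⟩
    have := h1.mul N h3
    rwa [mul_one] at this
  add_mem' := by
    rintro a b ⟨h1, h2⟩ ⟨h3, h4⟩
    refine ⟨?_, ?_⟩
    · intro g hg
      rw [MonoidAlgebra.coeff_add, Finsupp.add_apply] at hg
      by_cases h : a.coeff g = 0
      · rw [h, zero_add] at hg
        exact h3 g hg
      · exact h1 g h
    · intro n hn
      rw [mul_add, add_mul, h2 n hn, h4 n hn]
  algebraMap_mem' := by
    intro r
    have h0 : algebraMap k (MonoidAlgebra k G) r = r • (1 : MonoidAlgebra k G) :=
      Algebra.algebraMap_eq_smul_one r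
    rw [h0]
    refine ⟨?_, ?_⟩
    · intro g hg
      apply isHom_one (S := k) N g
      intro h
      apply hg
      rw [MonoidAlgebra.coeff_smul_apply, h, smul_zero]
    · intro n _
      rw [mul_smul_comm, smul_mul_assoc, mul_one, one_mul]

theorem mem_ZN {a : MonoidAlgebra k G} : a ∈ ZN N ↔ IsHom N (1 : G ⧸ N) a ∧ CommN N a := Iff.rfl

theorem ZN_comm {a b : MonoidAlgebra k G} (ha : a ∈ ZN N) (hb : b ∈ ZN N) : a * b = b * a := by
  have h1 : ∀ g, a.coeff g ≠ 0 → g ∈ N := fun g hg =>
    (QuotientGroup.eq_one_iff g).mp (ha.1 g hg)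
  rw [eq_sum_single a, Finset.sum_mul, Finset.mul_sum]
  refine Finset.sum_congr rfl fun g _ => ?_
  by_cases hg : a.coeff g = 0
  · simp [hg]
  · rw [smul_mul_assoc, mul_smul_comm, hb.2 g (h1 g hg)]

/-- The commutative ring structure on the centre of `k[N]`. -/
@[reducible] noncomputable def ZNcomm : CommRing (ZN (k := k) N) :=
  { (inferInstance : Ring (ZN (k := k) N)) with
    mul_comm := by
      intro a b
      apply Subtype.ext
      exact ZN_comm N a.2 b.2 }

/-- Conjugation by `g`. -/
noncomputable def conjZ (g : G) : ZN (k := k) N →+* ZN (k := k) N where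
  toFun a := ⟨single g (1 : k) * a.1 * single g⁻¹ (1 : k), by
    have hc : ∀ u, (single g (1 : k) * a.1 * single g⁻¹ (1 : k)).coeff u = a.1.coeff (g⁻¹ * u * g) := by
      intro u
      simp [mul_assoc]
    refine ⟨?_, ?_⟩
    · intro u hu
      rw [hc] at hu
      have h1 := a.2.1 _ hu
      rw [QuotientGroup.eq_one_iff] at h1 ⊢
      have := hN.conj_mem _ h1 g
      simpa [mul_assoc] using this
    · refine (commN_iff N).mpr ?_
      intro n hn u
      rw [hc, hc]
      have h2 : g⁻¹ * n ∈ N → True := fun _ => trivial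
      have hm : g⁻¹ * n * g ∈ N := by
        simpa using hN.conj_mem n hn g⁻¹
      have h3 := (commN_iff N).mp a.2.2 _ hm (g⁻¹ * u * g)
      have e1 : (g⁻¹ * n * g)⁻¹ * (g⁻¹ * u * g) = g⁻¹ * (n⁻¹ * u) * g := by group
      have e2 : (g⁻¹ * u * g) * (g⁻¹ * n * g)⁻¹ = g⁻¹ * (u * n⁻¹) * g := by group
      rwa [e1, e2] at h3⟩
  map_one' := by
    apply Subtype.ext
    show single g (1 : k) * 1 * single g⁻¹ (1 : k) = 1
    rw [mul_one, MonoidAlgebra.single_mul_single, mul_inv_cancel, mul_one, MonoidAlgebra.one_def]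
  map_mul' a b := by
    apply Subtype.ext
    show single g (1 : k) * (a.1 * b.1) * single g⁻¹ (1 : k) =
      single g (1 : k) * a.1 * single g⁻¹ (1 : k) * (single g (1 : k) * b.1 * single g⁻¹ (1 : k))
    have h1 : single g⁻¹ (1 : k) * single g (1 : k) = 1 := by
      rw [MonoidAlgebra.single_mul_single, inv_mul_cancel, mul_one, MonoidAlgebra.one_def]
    calc single g (1 : k) * (a.1 * b.1) * single g⁻¹ (1 : k)
        = single g (1 : k) * a.1 * 1 * b.1 * single g⁻¹ (1 : k) := by
          simp only [mul_one, mul_assoc]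
      _ = _ := by
          rw [← h1]
          simp only [mul_assoc]
  map_zero' := by
    apply Subtype.ext
    show single g (1 : k) * 0 * single g⁻¹ (1 : k) = 0
    simp
  map_add' a b := by
    apply Subtype.ext
    show single g (1 : k) * (a.1 + b.1) * single g⁻¹ (1 : k) =
      single g (1 : k) * a.1 * single g⁻¹ (1 : k) + single g (1 : k) * b.1 * single g⁻¹ (1 : k)
    rw [mul_add, add_mul]

theorem single_mul_eq (g : G) (z : ZN (k := k) N) :
    single g (1 : k) * z.1 = (conjZ N g z).1 * single g (1 : k) := by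
  show _ = single g (1 : k) * z.1 * single g⁻¹ (1 : k) * single g (1 : k)
  have h1 : single g⁻¹ (1 : k) * single g (1 : k) = 1 := by
    rw [MonoidAlgebra.single_mul_single, inv_mul_cancel, mul_one, MonoidAlgebra.one_def]
  rw [mul_assoc, h1, mul_one]

attribute [local instance] ZNcomm

theorem conj_mem_pow (g : G) (r : ℕ) {y : ZN (k := k) N} (hy : y ∈ (nilradical (ZN (k := k) N)) ^ r) :
    conjZ N g y ∈ (nilradical (ZN (k := k) N)) ^ r := by
  have h1 : Ideal.map (conjZ N g) (nilradical (ZN (k := k) N)) ≤ nilradical (ZN (k := k) N) := by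
    rw [Ideal.map_le_iff_le_comap]
    intro z hz
    rw [Ideal.mem_comap, mem_nilradical]
    exact IsNilpotent.map (mem_nilradical.mp hz) (conjZ N g)
  have h2 := Ideal.mem_map_of_mem (conjZ N g) hy
  rw [Ideal.map_pow] at h2
  exact Ideal.pow_right_mono h1 r h2

/-- The ideal of `k[G]` generated by the `r`th power of the nilradical of the centre of `k[N]`. -/
noncomputable def KK (r : ℕ) : AddSubgroup (MonoidAlgebra k G) :=
  AddSubgroup.closure {u | ∃ y : ZN (k := k) N, y ∈ (nilradical (ZN (k := k) N)) ^ r ∧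
    ∃ a : MonoidAlgebra k G, u = y.1 * a}

theorem KK_gen {r : ℕ} {y : ZN (k := k) N} (hy : y ∈ (nilradical (ZN (k := k) N)) ^ r)
    (a : MonoidAlgebra k G) : y.1 * a ∈ KK (k := k) N r :=
  AddSubgroup.subset_closure ⟨y, hy, a, rfl⟩

theorem KK_left (r : ℕ) (a : MonoidAlgebra k G) {u : MonoidAlgebra k G} (hu : u ∈ KK (k := k) N r) :
    a * u ∈ KK (k := k) N r := by
  induction hu using AddSubgroup.closure_induction with
  | mem u hu =>
    obtain ⟨y, hy, b, rfl⟩ := hu
    rw [eq_sum_single a, Finset.sum_mul]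
    refine sum_mem fun g _ => ?_
    have h1 : a.coeff g • single g (1 : k) * (y.1 * b) =
        (conjZ N g y).1 * (a.coeff g • (single g (1 : k) * b)) := by
      rw [smul_mul_assoc, ← mul_assoc, single_mul_eq, mul_smul_comm, mul_assoc]
    rw [h1]
    exact KK_gen N (conj_mem_pow N g r hy) _
  | zero =>
    rw [mul_zero]
    exact zero_mem _
  | add u v _ _ hu hv =>
    rw [mul_add]
    exact add_mem hu hv
  | neg u _ hu =>
    rw [mul_neg]
    exact neg_mem hu

theorem KK_mul (r : ℕ) {u v : MonoidAlgebra k G} (hu : u ∈ KK (k := k) N 1)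
    (hv : v ∈ KK (k := k) N r) : u * v ∈ KK (k := k) N (r + 1) := by
  induction hu using AddSubgroup.closure_induction with
  | mem u hu =>
    obtain ⟨y, hy, b, rfl⟩ := hu
    rw [mul_assoc]
    have hw := KK_left N r b hv
    rw [pow_one] at hy
    generalize b * v = w at hw ⊢
    induction hw using AddSubgroup.closure_induction with
    | mem w hw =>
      obtain ⟨y', hy', c, rfl⟩ := hw
      rw [← mul_assoc]
      have h1 : y * y' ∈ (nilradical (ZN (k := k) N)) ^ (r + 1) := by
        rw [pow_succ']
        exact Ideal.mul_mem_mul hy hy'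
      exact KK_gen N h1 c
    | zero =>
      rw [mul_zero]
      exact zero_mem _
    | add u v _ _ hu hv =>
      rw [mul_add]
      exact add_mem hu hv
    | neg u _ hu =>
      rw [mul_neg]
      exact neg_mem hu
  | zero =>
    rw [zero_mul]
    exact zero_mem _
  | add u v _ _ hu hv =>
    rw [add_mul]
    exact add_mem hu hv
  | neg u _ hu =>
    rw [neg_mul]
    exact neg_mem hu

theorem isNoeth : IsNoetherianRing (ZN (k := k) N) := by
  have hfin : Module.Finite k (ZN (k := k) N) := inferInstance
  have hST : IsScalarTower k (ZN (k := k) N) (ZN (k := k) N) :=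
    ⟨fun r a b => Subtype.ext (smul_mul_assoc r a.1 b.1)⟩
  rw [isNoetherianRing_iff]
  refine @isNoetherian_of_tower k (ZN (k := k) N) (ZN (k := k) N) _ _ _ _ _ _ _ ?_
  exact isNoetherian_of_isNoetherianRing_of_finite k _

theorem isNilpotent_nil : IsNilpotent (nilradical (ZN (k := k) N)) :=
  haveI := isNoeth (k := k) N
  IsNoetherianRing.isNilpotent_nilradical _

/-- **Main criterion.** -/
theorem eq_zero_of_nil {e : MonoidAlgebra k G} (he : e * e = e) (hc : CommN N e)
    (H : ∀ l : List (G ⧸ N), l ≠ [] → l.prod = 1 →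
      IsNilpotent ((l.map (fun x => comp N x e)).prod)) : e = 0 := by
  classical
  letI : Fintype (G ⧸ N) := Fintype.ofFinite _
  have hcard : Fintype.card (G ⧸ N) ≠ 0 := Fintype.card_ne_zero
  have h1 : ∀ l : List (G ⧸ N), l.length = Fintype.card (G ⧸ N) →
      (l.map (fun x => comp N x e)).prod ∈ KK (k := k) N 1 := by
    intro l hl
    obtain ⟨l₁, l₂, l₃, rfl, h₂, hp⟩ := exists_block l hl.ge
    rw [List.map_append, List.map_append, List.prod_append, List.prod_append]
    have hZ : (l₂.map (fun x => comp N x e)).prod ∈ ZN (k := k) N := by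
      refine ⟨?_, commN_prod N hc l₂⟩
      have := isHom_prod N e l₂
      rwa [hp] at this
    have hnil : (⟨_, hZ⟩ : ZN (k := k) N) ∈ nilradical (ZN (k := k) N) := by
      rw [mem_nilradical]
      obtain ⟨m, hm⟩ := H l₂ h₂ hp
      exact ⟨m, Subtype.ext hm⟩
    have h6 : ((⟨_, hZ⟩ : ZN (k := k) N) : ZN (k := k) N) ∈ (nilradical (ZN (k := k) N)) ^ 1 := by
      rw [pow_one]
      exact hnil
    exact KK_left N 1 _ (KK_gen N h6 _)
  have hpow : ∀ m, e ^ (m + 1) = e := by
    intro m
    induction m with
    | zero => simp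
    | succ m ih => rw [pow_succ, ih, he]
  have h3 : e ∈ KK (k := k) N 1 := by
    have h4 := pow_sum_mem (fun x => comp N x e) (KK (k := k) N 1) _ h1
    rw [sum_comp] at h4
    obtain ⟨m, hm⟩ := Nat.exists_eq_succ_of_ne_zero hcard
    rw [hm, hpow] at h4
    exact h4
  have h4 : ∀ r, e ∈ KK (k := k) N (r + 1) := by
    intro r
    induction r with
    | zero => simpa using h3
    | succ r ih =>
      have := KK_mul N (r + 1) h3 ih
      rwa [he] at this
  obtain ⟨r, hr⟩ := isNilpotent_nil (k := k) N
  have h5 : ∀ u ∈ KK (k := k) N (r + 1), u = 0 := by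
    intro u hu
    induction hu using AddSubgroup.closure_induction with
    | mem u hu =>
      obtain ⟨y, hy, b, rfl⟩ := hu
      have h6 : y ∈ nilradical (ZN (k := k) N) ^ r := Ideal.pow_le_pow_right (Nat.le_succ r) hy
      rw [hr] at h6
      have h7 : y = 0 := h6
      rw [h7]
      simp
    | zero => rfl
    | add u v _ _ hu hv =>
      rw [hu, hv, add_zero]
    | neg u _ hu =>
      rw [hu, neg_zero]
  exact h5 e (h4 r)

end Field

end Cfsg.Agent.Lib.GroupAlgNil
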