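import Mathlib
import Cfsg.Agent.Lib.GroupAlgNil
import Cfsg.Agent.Lib.FongReynolds
import Cfsg.Agent.Lib.BlkNormalSub
import Cfsg.Agent.Lib.BlkTrace

/-!
# Blocks of normal subgroups covered by a block

`N ⊴ G`, `B` a block of `G` covering the block `b` of `N`, `e = e_B e_b`.  Then some product of degree
`1` of homogeneous components of `e` (for the grading of `R[G]` by `G/N`) has central characters
outside the maximal ideal on `b`.  Consequently every member of `b` lies under a member of `B`.
-/

set_option autoImplicit false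
set_option linter.unusedSectionVars false
set_option linter.unusedVariables false
set_option linter.style.haveILetI false

namespace Cfsg.Agent.Lib.BlockCover

open Cfsg Cfsg.Agent.Lib.CharBasic Cfsg.Agent.Lib.CharInd Cfsg.Agent.Lib.CharIntegrality
open Cfsg.Agent.Lib.BlockLocal Cfsg.Agent.Lib.BlockIdem Cfsg.Agent.Lib.BlkBasic
open Cfsg.Agent.Lib.GroupAlgNil Cfsg.Agent.Lib.FongReynolds
open MonoidAlgebra
open scoped ComplexConjugate

universe u

variable {M : Ideal AlgInt} [hMp : M.IsPrime]

section Reduction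

variable {X : Type*} [Group X] [Fintype X]

/-- The complex coefficient function of an element of `R[X]`. -/
def coeF (x : MonoidAlgebra (localSubring M) X) : X → ℂ := fun g => ((x.coeff g : localSubring M) : ℂ)

theorem coeF_apply (x : MonoidAlgebra (localSubring M) X) (g : X) :
    coeF x g = ((x.coeff g : localSubring M) : ℂ) := rfl

theorem coeF_local (x : MonoidAlgebra (localSubring M) X) (g : X) : MemLocalRing M (coeF x g) :=
  (x.coeff g).2

theorem coeF_injective : Function.Injective (coeF : MonoidAlgebra (localSubring M) X → X → ℂ) := by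
  intro x y h
  apply ext_coeff
  intro g
  exact Subtype.ext (congrFun h g)

theorem coeF_mul (x y : MonoidAlgebra (localSubring M) X) :
    coeF (x * y) = conv (coeF x) (coeF y) := by
  funext g
  unfold conv
  simp only [coeF_apply]
  rw [coeff_mul_fintype]
  push_cast
  rfl

theorem coeF_one : coeF (1 : MonoidAlgebra (localSubring M) X) = delta := by
  classical
  funext g
  rw [coeF_apply, MonoidAlgebra.one_def]
  unfold delta
  by_cases h : g = 1
  · subst h
    simp [MonoidAlgebra.coeff_single]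
  · simp [MonoidAlgebra.coeff_single, h]

/-- The element of `R[X]` with a given local coefficient function. -/
noncomputable def toR (f : X → ℂ) (hf : ∀ g, MemLocalRing M (f g)) : MonoidAlgebra (localSubring M) X :=
  ofFun fun g => ⟨f g, hf g⟩

theorem coeF_toR (f : X → ℂ) (hf : ∀ g, MemLocalRing M (f g)) : coeF (toR f hf) = f := rfl

/-- Reduction modulo the maximal ideal. -/
noncomputable def redR : MonoidAlgebra (localSubring M) X →+*
    MonoidAlgebra (IsLocalRing.ResidueField (localSubring M)) X :=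
  mapRingHom X (IsLocalRing.residue (localSubring M))

theorem coeff_redR (x : MonoidAlgebra (localSubring M) X) (g : X) :
    (redR x).coeff g = IsLocalRing.residue (localSubring M) (x.coeff g) :=
  coeff_mapRingHom _ _ _

theorem redR_eq_zero_of {x : MonoidAlgebra (localSubring M) X}
    (h : ∀ g, MemLocalIdeal M (coeF x g)) : redR x = 0 := by
  apply ext_coeff
  intro g
  rw [coeff_redR]
  exact (IsLocalRing.residue_eq_zero_iff _).mpr
    (Cfsg.Agent.Lib.BlkTrace.maxIdeal_of_memLocalIdeal _ (h g))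

/-- **Nakayama**: an idempotent reducing to `0` is `0`. -/
theorem eq_zero_of_redR_eq_zero {u : MonoidAlgebra (localSubring M) X} (hu : u * u = u)
    (h0 : redR u = 0) : u = 0 := by
  classical
  have hmem : ∀ g, u.coeff g ∈ IsLocalRing.maximalIdeal (localSubring M) := by
    intro g
    rw [← IsLocalRing.residue_eq_zero_iff, ← coeff_redR, h0]
    rfl
  set 𝔞 : Ideal (localSubring M) := Ideal.span (Set.range fun g => u.coeff g) with h𝔞
  have hFG : 𝔞.FG := ⟨(Finset.univ.image fun g => u.coeff g), by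
    rw [h𝔞]
    congr 1
    ext y
    simp⟩
  have hle : 𝔞 ≤ IsLocalRing.maximalIdeal (localSubring M) • 𝔞 := by
    rw [h𝔞, Ideal.span_le]
    rintro _ ⟨g, rfl⟩
    have h1 := coeff_mul_fintype u u g
    rw [hu] at h1
    show u.coeff g ∈ _
    rw [h1]
    refine sum_mem fun h _ => ?_
    exact Submodule.smul_mem_smul (hmem h) (Ideal.subset_span ⟨_, rfl⟩)
  have hbot := Submodule.eq_bot_of_le_smul_of_le_jacobson_bot _ _ hFG hle (by
    rw [IsLocalRing.jacobson_eq_maximalIdeal ⊥ bot_ne_top])
  apply ext_coeff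
  intro g
  have h1 : u.coeff g ∈ 𝔞 := Ideal.subset_span ⟨g, rfl⟩
  rw [hbot] at h1
  exact h1

/-- Products of elements in `Zc` of the functions with values in the maximal ideal. -/
theorem invF_sub_prod_mem {c : IrrCharacter X → ℂ} (hc : c ∈ Zc M)
    (hc0 : ∀ θ, MemLocalIdeal M (c θ)) (s : Finset (IrrCharacter X)) :
    ∀ g, MemLocalIdeal M (invF (c ^ s.card - ∏ θ ∈ s, (c - fun _ => c θ)) g) := by
  classical
  have hZ : ∀ θ, (c - fun _ => c θ) ∈ Zc M := fun θ =>
    (Zc M).sub_mem hc (const_mem_Zc (memLocalRing_of_memLocalIdeal (hc0 θ)))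
  induction s using Finset.induction_on with
  | empty =>
    intro g
    simp only [Finset.card_empty, pow_zero, Finset.prod_empty, sub_self, invF_zero]
    exact memLocalIdeal_zero
  | insert a s ha ih =>
    intro g
    rw [Finset.card_insert_of_notMem ha, Finset.prod_insert ha]
    have hP : (∏ θ ∈ s, (c - fun _ => c θ)) ∈ Zc M :=
      Subring.prod_mem _ fun θ _ => hZ θ
    have h1 : c ^ (s.card + 1) - (c - fun _ => c a) * ∏ θ ∈ s, (c - fun _ => c θ) =
        c * (c ^ s.card - ∏ θ ∈ s, (c - fun _ => c θ)) +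
          (c a) • ∏ θ ∈ s, (c - fun _ => c θ) := by
      funext θ'
      simp only [Pi.sub_apply, Pi.pow_apply, Pi.mul_apply, Pi.add_apply, Pi.smul_apply, smul_eq_mul,
        Finset.prod_apply]
      ring
    rw [h1, invF_add, Pi.add_apply, invF_mul, invF_smul]
    refine memLocalIdeal_add ?_ ?_
    · unfold conv
      exact memLocalIdeal_sum _ _ fun x _ => memLocalIdeal_mul_left (hc x) (ih _)
    · exact memLocalIdeal_mul_right (hc0 a) (hP g)

theorem invF_pow_mem {c : IrrCharacter X → ℂ} (hc : c ∈ Zc M)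
    (hc0 : ∀ θ, MemLocalIdeal M (c θ)) (g : X) :
    MemLocalIdeal M (invF (c ^ (Finset.univ : Finset (IrrCharacter X)).card) g) := by
  have h1 := invF_sub_prod_mem hc hc0 Finset.univ g
  have h2 : (∏ θ : IrrCharacter X, (c - fun _ => c θ)) = 0 := by
    funext θ'
    rw [Finset.prod_apply, Finset.prod_eq_zero (Finset.mem_univ θ')]
    · rfl
    · simp
  rwa [h2, sub_zero] at h1

end Reduction

section Nil

variable {G : Type u} [Group G] [Fintype G] (N : Subgroup G) [hN : N.Normal] [Fintype N]

theorem sum_of_isHom_one {x : MonoidAlgebra (localSubring M) G}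
    (hx : IsHom N (1 : G ⧸ N) x) (F : G → ℂ) :
    ∑ h : G, coeF x h * F h = ∑ u : N, coeF x (u : G) * F u := by
  refine (Fintype.sum_of_injective N.subtype N.subtype_injective _ _ ?_ ?_).symm
  · intro h hh
    have h1 : x.coeff h = 0 := by
      by_contra h2
      have h3 := hx h h2
      rw [QuotientGroup.eq_one_iff] at h3
      exact hh ⟨⟨h, h3⟩, rfl⟩
    rw [coeF_apply, h1]
    simp
  · intro u
    rfl

theorem classFun_of_commN {x : MonoidAlgebra (localSubring M) G} (hc : CommN N x) :
    IsClassFunction N (fun n : N => coeF x (n : G)) := by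
  intro n m
  have h1 := (commN_iff N).mp hc (m : G) m.2 ((m : G) * n)
  have e1 : (m : G)⁻¹ * ((m : G) * n) = n := by group
  have e2 : ((m : G) * n) * (m : G)⁻¹ = ((m * n * m⁻¹ : N) : G) := by simp
  rw [e1, e2] at h1
  simp only [coeF_apply]
  rw [h1]

/-- **Nilpotence**: an element of the centre of `R[N]` whose central characters all lie in the
maximal ideal reduces to a nilpotent element. -/
theorem isNilpotent_of_omega {x : MonoidAlgebra (localSubring M) G}
    (h1 : IsHom N (1 : G ⧸ N) x) (h2 : CommN N x)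
    (hω : ∀ θ : IrrCharacter N, MemLocalIdeal M (omega (θ : N → ℂ) (fun n : N => coeF x (n : G)))) :
    IsNilpotent (redR x) := by
  classical
  set f : N → ℂ := fun n => coeF x (n : G) with hf
  have hcl : IsClassFunction N f := classFun_of_commN N h2
  have hloc : ∀ n, MemLocalRing M (f n) := fun n => coeF_local x _
  set c : IrrCharacter N → ℂ := fun θ => omega (θ : N → ℂ) f with hc
  have hcZ : c ∈ Zc M := mem_Zc_of_classFunction hcl hloc
  have hinv : invF c = f := invF_omega hcl
  have hpow : ∀ m : ℕ, IsHom N (1 : G ⧸ N) (x ^ m) ∧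
      ∀ n : N, coeF (x ^ m) (n : G) = invF (c ^ m) n := by
    intro m
    induction m with
    | zero =>
      refine ⟨by simpa using isHom_one N, ?_⟩
      intro n
      rw [pow_zero, pow_zero, coeF_one, invF_one]
      unfold delta
      by_cases h : n = 1
      · subst h
        simp
      · have h' : (n : G) ≠ 1 := fun h0 => h (Subtype.ext h0)
        simp [h, h']
    | succ m ih =>
      obtain ⟨ih1, ih2⟩ := ih
      refine ⟨by
        rw [pow_succ]
        have := ih1.mul N h1
        rwa [mul_one] at this, ?_⟩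
      intro n
      rw [pow_succ, pow_succ, coeF_mul, invF_mul, hinv]
      unfold conv
      rw [sum_of_isHom_one N ih1]
      refine Finset.sum_congr rfl fun u _ => ?_
      rw [ih2]
      rfl
  obtain ⟨hd1, hd2⟩ := hpow (Finset.univ : Finset (IrrCharacter N)).card
  refine ⟨(Finset.univ : Finset (IrrCharacter N)).card, ?_⟩
  rw [← map_pow]
  apply redR_eq_zero_of
  intro g
  by_cases hg : g ∈ N
  · have h3 := hd2 ⟨g, hg⟩
    simp only at h3
    rw [h3]
    exact invF_pow_mem hcZ hω _
  · have h4 : (x ^ (Finset.univ : Finset (IrrCharacter N)).card).coeff g = 0 := by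
      by_contra h5
      have h6 := hd1 g h5
      exact hg ((QuotientGroup.eq_one_iff g).mp h6)
    rw [coeF_apply, h4]
    simpa using memLocalIdeal_zero (M := M)

end Nil

section Key

variable {G : Type u} [Group G] [Fintype G]

/-- Elements with class function coefficients are central. -/
theorem central_of_class {S : Type*} [CommRing S] (a : MonoidAlgebra S G)
    (hcl : ∀ g c : G, a.coeff (c * g * c⁻¹) = a.coeff g) (y : MonoidAlgebra S G) : a * y = y * a := by
  rw [eq_sum_single y, Finset.mul_sum, Finset.sum_mul]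
  refine Finset.sum_congr rfl fun h _ => ?_
  rw [mul_smul_comm, smul_mul_assoc]
  congr 1
  apply ext_coeff
  intro g
  rw [coeff_mul_single_apply, coeff_single_mul_apply, mul_one, one_mul]
  have h1 := hcl (g * h⁻¹) h⁻¹
  rw [← h1]
  congr 1
  group

theorem ofFun_mul_ofFun (f h : G → ℂ) : ofFun f * ofFun h = ofFun (conv f h) := by
  apply ext_coeff
  intro g
  rw [coeff_mul_fintype]
  rfl

variable (N : Subgroup G) [hN : N.Normal] [Fintype N]

theorem conv_ext_left (f : N → ℂ) (y : G → ℂ) (g : G) :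
    conv (extendByZero N f) y g = ∑ m : N, f m * y ((m : G)⁻¹ * g) := by
  unfold conv
  refine (Fintype.sum_of_injective N.subtype N.subtype_injective _ _ ?_ ?_).symm
  · intro h hh
    have h1 : h ∉ N := fun h2 => hh ⟨⟨h, h2⟩, rfl⟩
    rw [extendByZero_of_not_mem N _ h1, zero_mul]
  · intro u
    show _ = extendByZero N f (u : G) * y ((u : G)⁻¹ * g)
    rw [extendByZero_coe]

theorem conv_ext_ext (f h : N → ℂ) :
    conv (extendByZero N f) (extendByZero N h) = extendByZero N (conv f h) := by
  funext g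
  rw [conv_ext_left]
  by_cases hg : g ∈ N
  · rw [extendByZero_of_mem N _ hg]
    unfold conv
    refine Finset.sum_congr rfl fun m _ => ?_
    have h1 : (m : G)⁻¹ * g ∈ N := N.mul_mem (N.inv_mem m.2) hg
    rw [extendByZero_of_mem N _ h1]
    congr 2
  · rw [extendByZero_of_not_mem N _ hg]
    refine Finset.sum_eq_zero fun m _ => ?_
    have h1 : (m : G)⁻¹ * g ∉ N := by
      intro h2
      apply hg
      have := N.mul_mem m.2 h2
      simpa using this
    rw [extendByZero_of_not_mem N _ h1, mul_zero]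

variable {N}

/-- The element `e_B` of `R[G]`. -/
noncomputable def aB {B : Set (IrrCharacter G)} (hB : IsPBlock M B) : MonoidAlgebra (localSubring M) G :=
  toR (blockCoeff B) (memLocalRing_blockCoeff hB)

theorem extB_local {b : Set (IrrCharacter N)} (hb : IsPBlock M b) (g : G) :
    MemLocalRing M (extendByZero N (blockCoeff b) g) := by
  by_cases hg : g ∈ N
  · rw [extendByZero_of_mem N _ hg]
    exact memLocalRing_blockCoeff hb _
  · rw [extendByZero_of_not_mem N _ hg]
    exact memLocalRing_zero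

/-- The element `e_b` of `R[N]`, in `R[G]`. -/
noncomputable def aN {b : Set (IrrCharacter N)} (hb : IsPBlock M b) : MonoidAlgebra (localSubring M) G :=
  toR (extendByZero N (blockCoeff b)) (extB_local hb)

variable {B : Set (IrrCharacter G)} {b : Set (IrrCharacter N)} (hB : IsPBlock M B) (hb : IsPBlock M b)

theorem aB_mul_self : aB hB * aB hB = aB hB := by
  apply coeF_injective
  rw [coeF_mul]
  show conv (blockCoeff B) (blockCoeff B) = blockCoeff B
  rw [blockCoeff_conv, Set.inter_self]

theorem aN_mul_self : aN hb * aN hb = aN hb := by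
  apply coeF_injective
  rw [coeF_mul]
  show conv (extendByZero N (blockCoeff b)) (extendByZero N (blockCoeff b)) =
    extendByZero N (blockCoeff b)
  rw [conv_ext_ext, blockCoeff_conv, Set.inter_self]

theorem aB_central (y : MonoidAlgebra (localSubring M) G) : aB hB * y = y * aB hB := by
  apply central_of_class
  intro g c
  apply Subtype.ext
  exact blockCoeff_isClassFunction B g c

theorem aN_isHom : IsHom N (1 : G ⧸ N) (aN hb) := by
  intro g hg
  rw [QuotientGroup.eq_one_iff]
  by_contra h
  apply hg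
  apply Subtype.ext
  show extendByZero N (blockCoeff b) g = 0
  rw [extendByZero_of_not_mem N _ h]

theorem aN_commN : CommN N (aN hb) := by
  refine (commN_iff N).mpr ?_
  intro n hn g
  apply Subtype.ext
  show extendByZero N (blockCoeff b) (n⁻¹ * g) = extendByZero N (blockCoeff b) (g * n⁻¹)
  by_cases hg : g ∈ N
  · rw [extendByZero_of_mem N _ (N.mul_mem (N.inv_mem hn) hg),
      extendByZero_of_mem N _ (N.mul_mem hg (N.inv_mem hn))]
    have h1 := blockCoeff_isClassFunction b ⟨g * n⁻¹, N.mul_mem hg (N.inv_mem hn)⟩ ⟨n⁻¹, N.inv_mem hn⟩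
    rw [← h1]
    congr 1
    apply Subtype.ext
    simp only [Subgroup.coe_mul, InvMemClass.coe_inv, inv_inv]
    group
  · have h1 : n⁻¹ * g ∉ N := fun h => hg (by simpa using N.mul_mem hn h)
    have h2 : g * n⁻¹ ∉ N := fun h => hg (by simpa using N.mul_mem h hn)
    rw [extendByZero_of_not_mem N _ h1, extendByZero_of_not_mem N _ h2]

/-- `e = e_B e_b`. -/
noncomputable def eBb : MonoidAlgebra (localSubring M) G := aB hB * aN hb

theorem eBb_mul_self : eBb hB hb * eBb hB hb = eBb hB hb := by
  unfold eBb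
  calc aB hB * aN hb * (aB hB * aN hb) = aB hB * (aN hb * aB hB) * aN hb := by
        simp only [mul_assoc]
    _ = aB hB * (aB hB * aN hb) * aN hb := by rw [aB_central hB (aN hb)]
    _ = (aB hB * aB hB) * (aN hb * aN hb) := by simp only [mul_assoc]
    _ = aB hB * aN hb := by rw [aB_mul_self, aN_mul_self]

theorem aB_commN : CommN N (aB hB) := fun n _ => (aB_central hB _).symm

theorem eBb_commN : CommN N (eBb hB hb) := (aB_commN hB).mul N (aN_commN hb)

theorem eBb_mul_aN : eBb hB hb * aN hb = eBb hB hb := by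
  unfold eBb
  rw [mul_assoc, aN_mul_self]

/-- The product of homogeneous components of `e` along a list. -/
noncomputable def Pl (e : MonoidAlgebra (localSubring M) G) (N : Subgroup G) [N.Normal]
    (l : List (G ⧸ N)) : MonoidAlgebra (localSubring M) G :=
  (l.map (fun x => comp N x e)).prod

theorem redR_Pl (e : MonoidAlgebra (localSubring M) G) (l : List (G ⧸ N)) :
    redR (Pl e N l) = (l.map (fun x => comp N x (redR e))).prod := by
  unfold Pl
  rw [map_list_prod, List.map_map]
  congr 1
  apply List.map_congr_left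
  intro x _
  exact map_comp N _ x e

theorem redR_commN {e : MonoidAlgebra (localSubring M) G} (h : CommN N e) : CommN N (redR e) := by
  refine (commN_iff N).mpr ?_
  intro n hn g
  rw [coeff_redR, coeff_redR, (commN_iff N).mp h n hn g]

/-- The inclusion of `R[G]` in `ℂ[G]`. -/
noncomputable def jC : MonoidAlgebra (localSubring M) G →+* MonoidAlgebra ℂ G :=
  mapRingHom G (localSubring M).subtype

theorem coeff_jC (x : MonoidAlgebra (localSubring M) G) (g : G) : (jC x).coeff g = coeF x g :=
  coeff_mapRingHom _ _ _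

theorem jC_eq_ofFun (x : MonoidAlgebra (localSubring M) G) : jC x = ofFun (coeF x) := by
  apply ext_coeff
  intro g
  rw [coeff_jC]
  rfl

theorem jC_comp (x : G ⧸ N) (a : MonoidAlgebra (localSubring M) G) : jC (comp N x a) = comp N x (jC a) :=
  map_comp N _ x a

/-- The idempotent of the single character `θ` of `N`, in `ℂ[G]`. -/
noncomputable def Eθ (θ : IrrCharacter N) : MonoidAlgebra ℂ G :=
  ofFun (extendByZero N (blockCoeff {θ}))

theorem Eθ_isHom (θ : IrrCharacter N) : IsHom N (1 : G ⧸ N) (Eθ θ) := by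
  intro g hg
  rw [QuotientGroup.eq_one_iff]
  by_contra h
  apply hg
  show extendByZero N (blockCoeff {θ}) g = 0
  rw [extendByZero_of_not_mem N _ h]

theorem Eθ_mul_aN {θ : IrrCharacter N} (hθ : θ ∈ b) : Eθ θ * jC (aN hb) = Eθ θ := by
  rw [jC_eq_ofFun]
  unfold Eθ
  rw [ofFun_mul_ofFun]
  show ofFun (conv (extendByZero N (blockCoeff {θ})) (extendByZero N (blockCoeff b))) = _
  rw [conv_ext_ext, blockCoeff_conv, Set.inter_eq_left.mpr (Set.singleton_subset_iff.mpr hθ)]

theorem jC_aB_central (y : MonoidAlgebra ℂ G) : jC (aB hB) * y = y * jC (aB hB) := by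
  apply central_of_class
  intro g c
  rw [coeff_jC, coeff_jC]
  exact blockCoeff_isClassFunction B g c

/-- `ε_θ e_B` is the sum formula. -/
theorem coeff_Eθ_mul_aB (θ : IrrCharacter N) (g : G) :
    (Eθ θ * jC (aB hB)).coeff g = ∑ m : N, blockCoeff {θ} m * blockCoeff B ((m : G)⁻¹ * g) := by
  rw [jC_eq_ofFun]
  unfold Eθ
  rw [ofFun_mul_ofFun]
  show conv (extendByZero N (blockCoeff {θ})) (blockCoeff B) g = _
  rw [conv_ext_left]

/-- If `θ` is under no member of `B`, then `ε_θ e_B = 0`. -/
theorem Eθ_mul_aB_eq_zero (θ : IrrCharacter N)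
    (h : ∀ χ ∈ B, classInner (fun n : N => (χ : G → ℂ) n) (θ : N → ℂ) = 0) :
    Eθ θ * jC (aB hB) = 0 := by
  classical
  apply ext_coeff
  intro g
  rw [coeff_Eθ_mul_aB]
  simp_rw [blockCoeff_apply B]
  simp_rw [Finset.mul_sum]
  rw [Finset.sum_comm]
  refine Finset.sum_eq_zero fun χ _ => ?_
  by_cases hχ : χ ∈ B
  · have h1 := sum_blockCoeff_char_mul_eq_zero N.subtype (IsIrrCharacter.isCharacter χ.2)
      (c := {θ}) (by
        rintro θ' rfl
        exact h χ hχ) g⁻¹
    have h2 : ∀ m : N, blockCoeff {θ} m * (blkInd B χ * ec (χ : G → ℂ) ((m : G)⁻¹ * g)) =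
        (blkInd B χ * ((χ : G → ℂ) 1 / (Nat.card G : ℂ))) *
          (blockCoeff {θ} m * (χ : G → ℂ) (g⁻¹ * N.subtype m)) := by
      intro m
      unfold ec
      have h3 : ((m : G)⁻¹ * g)⁻¹ = g⁻¹ * N.subtype m := by
        simp
      rw [h3]
      ring
    simp_rw [h2]
    rw [← Finset.mul_sum, h1, mul_zero]
  · simp [blkInd_of_not_mem hχ]

/-- If `θ` is under a member of `B`, then `ε_θ e_B ≠ 0`. -/
theorem Eθ_mul_aB_ne_zero {θ : IrrCharacter N} {χ : IrrCharacter G} (hχ : χ ∈ B)
    (h : classInner (fun n : N => (χ : G → ℂ) n) (θ : N → ℂ) ≠ 0) :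
    Eθ θ * jC (aB hB) ≠ 0 := by
  classical
  intro h0
  have hcl : IsClassFunction G (blockCoeff B) := blockCoeff_isClassFunction B
  have h1 : ∀ g : G, ∑ m : N, blockCoeff {θ} m * blockCoeff B ((m : G)⁻¹ * g) = 0 := by
    intro g
    rw [← coeff_Eθ_mul_aB hB, h0]
    rfl
  have h2 : ∑ g : G, (∑ m : N, blockCoeff {θ} m * blockCoeff B ((m : G)⁻¹ * g)) * (χ : G → ℂ) g = 0 := by
    simp_rw [h1]
    simp
  simp_rw [Finset.sum_mul] at h2
  rw [Finset.sum_comm] at h2
  have hc := IsIrrCharacter.isCharacter χ.2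
  have h3 : ∀ m : N, ∑ g : G, blockCoeff {θ} m * blockCoeff B ((m : G)⁻¹ * g) * (χ : G → ℂ) g =
      blockCoeff {θ} m * (χ : G → ℂ) m := by
    intro m
    have h4 := Cfsg.Agent.Lib.BlkNormalSub.sum_mul_char_eq_omega_mul χ.2 hcl (m : G)
    rw [omega_blockCoeff, blkInd_of_mem hχ, one_mul] at h4
    rw [← h4, Finset.mul_sum, ← Equiv.sum_comp (Equiv.mulLeft (m : G))]
    refine Finset.sum_congr rfl fun z _ => ?_
    simp only [Equiv.coe_mulLeft, inv_mul_cancel_left]
    rw [mul_assoc, char_mul_comm' hc]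
  simp_rw [h3] at h2
  have h5 := sum_blockCoeff_mul {θ} (fun n : N => (χ : G → ℂ) n)
  rw [h2, Finset.sum_eq_single θ] at h5
  · rw [blkInd_of_mem (Set.mem_singleton θ), one_mul] at h5
    have h6 : (θ : N → ℂ) 1 ≠ 0 := irr_one_ne_zero' θ.2
    exact h ((mul_eq_zero.mp h5.symm).resolve_left h6)
  · intro θ' _ hne
    rw [blkInd_of_not_mem (by simpa using hne)]
    simp
  · simp

/-- The equation `ε_θ e = ε_θ e_B` for `θ ∈ b`. -/
theorem Eθ_mul_eBb {θ : IrrCharacter N} (hθ : θ ∈ b) :
    Eθ θ * jC (eBb hB hb) = Eθ θ * jC (aB hB) := by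
  unfold eBb
  rw [map_mul, ← mul_assoc, ← jC_aB_central hB (Eθ θ), mul_assoc, Eθ_mul_aN hb hθ,
    jC_aB_central]

theorem eBb_ne_zero (hcov : ∃ χ ∈ B, ∃ θ ∈ b, classInner (fun n : N => (χ : G → ℂ) n) (θ : N → ℂ) ≠ 0) :
    eBb hB hb ≠ 0 := by
  obtain ⟨χ, hχ, θ, hθ, hne⟩ := hcov
  intro h0
  apply Eθ_mul_aB_ne_zero hB hχ hne
  rw [← Eθ_mul_eBb hB hb hθ, h0, map_zero, mul_zero]

/-- **The key lemma on covering blocks.** -/
theorem exists_list_unit
    (hcov : ∃ χ ∈ B, ∃ θ ∈ b, classInner (fun n : N => (χ : G → ℂ) n) (θ : N → ℂ) ≠ 0) :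
    ∃ l : List (G ⧸ N), l ≠ [] ∧ l.prod = 1 ∧ ∃ θ : IrrCharacter N,
      ¬ MemLocalIdeal M (omega (θ : N → ℂ) (fun n : N => coeF (Pl (eBb hB hb) N l) (n : G))) := by
  classical
  by_contra H
  push Not at H
  apply eBb_ne_zero hB hb hcov
  apply eq_zero_of_redR_eq_zero (eBb_mul_self hB hb)
  apply eq_zero_of_nil N (by rw [← map_mul, eBb_mul_self]) (redR_commN (eBb_commN hB hb))
  intro l hl hp
  rw [← redR_Pl]
  refine isNilpotent_of_omega N ?_ ?_ (H l hl hp)
  · have := isHom_prod N (eBb hB hb) l
    rwa [hp] at this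
  · exact commN_prod N (eBb_commN hB hb) l

theorem Pl_isHom (l : List (G ⧸ N)) (hp : l.prod = 1) : IsHom N (1 : G ⧸ N) (Pl (eBb hB hb) N l) := by
  have := isHom_prod N (eBb hB hb) l
  rwa [hp] at this

theorem Pl_commN (l : List (G ⧸ N)) : CommN N (Pl (eBb hB hb) N l) :=
  commN_prod N (eBb_commN hB hb) l

theorem comp_eBb_mul_aN (x : G ⧸ N) : comp N x (eBb hB hb) * aN hb = comp N x (eBb hB hb) := by
  rw [← comp_mul_of_isHom_one N (aN_isHom hb), eBb_mul_aN]

theorem Pl_mul_aN (l : List (G ⧸ N)) (hl : l ≠ []) :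
    Pl (eBb hB hb) N l * aN hb = Pl (eBb hB hb) N l := by
  induction l with
  | nil => exact absurd rfl hl
  | cons x l ih =>
    unfold Pl
    rw [List.map_cons, List.prod_cons]
    by_cases h : l = []
    · subst h
      simp only [List.map_nil, List.prod_nil, mul_one]
      exact comp_eBb_mul_aN hB hb x
    · have := ih h
      unfold Pl at this
      rw [mul_assoc, this]

/-- The function on `N` defined by an element of `R[G]`. -/
def resN (N : Subgroup G) (x : MonoidAlgebra (localSubring M) G) : N → ℂ := fun n => coeF x (n : G)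

theorem resN_mul_of_isHom {x y : MonoidAlgebra (localSubring M) G} (hx : IsHom N (1 : G ⧸ N) x)
    (hy : IsHom N (1 : G ⧸ N) y) : resN N (x * y) = conv (resN N x) (resN N y) := by
  funext n
  show coeF (x * y) (n : G) = _
  rw [coeF_mul]
  unfold conv
  rw [sum_of_isHom_one N hx]
  rfl

theorem resN_aN : resN N (aN hb) = blockCoeff b := by
  funext n
  show extendByZero N (blockCoeff b) (n : G) = _
  rw [extendByZero_coe]

/-- The omega value vanishes off `b`. -/
theorem omega_Pl_eq_zero {l : List (G ⧸ N)} (hl : l ≠ []) (hp : l.prod = 1) {θ : IrrCharacter N}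
    (hθ : θ ∉ b) : omega (θ : N → ℂ) (resN N (Pl (eBb hB hb) N l)) = 0 := by
  have h1 := Pl_mul_aN hB hb l hl
  have h2 := resN_mul_of_isHom (Pl_isHom hB hb l hp) (aN_isHom hb)
  rw [h1, resN_aN] at h2
  have hcl : IsClassFunction N (resN N (Pl (eBb hB hb) N l)) := classFun_of_commN N (Pl_commN hB hb l)
  rw [h2, omega_conv θ.2 hcl (blockCoeff_isClassFunction b),
    omega_blockCoeff, blkInd_of_not_mem hθ, mul_zero]

include hB hb in
/-- **Every member of `b` lies under a member of `B`.** -/
theorem exists_constituent_of_cover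
    (hcov : ∃ χ ∈ B, ∃ θ ∈ b, classInner (fun n : N => (χ : G → ℂ) n) (θ : N → ℂ) ≠ 0)
    {θ : IrrCharacter N} (hθ : θ ∈ b) :
    ∃ χ ∈ B, classInner (fun n : N => (χ : G → ℂ) n) (θ : N → ℂ) ≠ 0 := by
  classical
  by_contra hcon
  push Not at hcon
  obtain ⟨l, hl, hp, θ₁, hθ₁⟩ := exists_list_unit hB hb hcov
  have hcl := classFun_of_commN N (Pl_commN hB hb l)
  have hloc : ∀ n : N, MemLocalRing M (resN N (Pl (eBb hB hb) N l) n) := fun n => coeF_local _ _
  have hθ₁b : θ₁ ∈ b := by
    by_contra h
    apply hθ₁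
    have := omega_Pl_eq_zero hB hb hl hp h
    unfold resN at this
    rw [this]
    exact memLocalIdeal_zero
  have hZ := mem_Zc_of_classFunction (M := M) hcl hloc
  have hS := Cfsg.Agent.Lib.BlockDefect.sameBlock_of_mem hb hθ₁b hθ
  have h1 := memLocalIdeal_sub_of_mem_Zc hZ hS
  -- the value at `θ` vanishes
  have h0 : omega (θ : N → ℂ) (resN N (Pl (eBb hB hb) N l)) = 0 := by
    have h2 : Eθ θ * jC (eBb hB hb) = 0 := by
      rw [Eθ_mul_eBb hB hb hθ, Eθ_mul_aB_eq_zero hB θ hcon]
    have h3 : ∀ x : G ⧸ N, Eθ θ * jC (comp N x (eBb hB hb)) = 0 := by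
      intro x
      rw [jC_comp, ← mul_comp_of_isHom_one N (Eθ_isHom θ), h2]
      apply ext_coeff
      intro g
      rw [coeff_comp]
      simp
    have h4 : Eθ θ * jC (Pl (eBb hB hb) N l) = 0 := by
      cases l with
      | nil => exact absurd rfl hl
      | cons x l =>
        unfold Pl
        rw [List.map_cons, List.prod_cons, map_mul, ← mul_assoc, h3, zero_mul]
    have h5 : conv (blockCoeff {θ}) (resN N (Pl (eBb hB hb) N l)) = 0 := by
      funext n
      have h6 := congrArg (fun y => y.coeff (n : G)) h4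
      rw [jC_eq_ofFun] at h6
      unfold Eθ at h6
      rw [ofFun_mul_ofFun] at h6
      show conv (blockCoeff {θ}) (resN N (Pl (eBb hB hb) N l)) n = 0
      have h7 : conv (extendByZero N (blockCoeff {θ})) (coeF (Pl (eBb hB hb) N l)) (n : G) = 0 := h6
      rw [conv_ext_left] at h7
      unfold conv resN
      refine Eq.trans ?_ h7
      refine Finset.sum_congr rfl fun m _ => ?_
      simp
    have h8 := omega_conv θ.2 (blockCoeff_isClassFunction {θ}) hcl
    rw [show conv (blockCoeff {θ}) (fun n : N => coeF (Pl (eBb hB hb) N l) (n : G)) = 0 from h5,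
      omega_blockCoeff, blkInd_of_mem (Set.mem_singleton θ), one_mul] at h8
    have h9 : omega (θ : N → ℂ) (0 : N → ℂ) = 0 := by
      simp [omega]
    rw [h9] at h8
    exact h8.symm
  apply hθ₁
  have h10 : omega (θ₁ : N → ℂ) (fun n : N => coeF (Pl (eBb hB hb) N l) (n : G)) -
      omega (θ : N → ℂ) (fun n : N => coeF (Pl (eBb hB hb) N l) (n : G)) =
      omega (θ₁ : N → ℂ) (fun n : N => coeF (Pl (eBb hB hb) N l) (n : G)) := by
    rw [show omega (θ : N → ℂ) (fun n : N => coeF (Pl (eBb hB hb) N l) (n : G)) = 0 from h0, sub_zero]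
  rw [← h10]
  exact h1

end Key

end Cfsg.Agent.Lib.BlockCover
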