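import Mathlib
import Cfsg.Agent.Lib.CharTable
import Cfsg.Agent.Lib.RealChars

/-!
# Automorphisms acting on irreducible characters and on conjugacy classes

Automorphisms of `K` act on `Irr K` and on the classes of `K`, compatibly with complex conjugation
and inversion.  The twisted Brauer permutation lemma; Burnside's count for actions given by
functions; odd-order arguments for real characters.
-/

set_option autoImplicit false
set_option linter.unusedSectionVars false
set_option linter.unusedVariables false

namespace Cfsg.Agent.Lib.CharAut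

open Cfsg Cfsg.Agent.Lib.CharBasic Cfsg.Agent.Lib.CharInd Cfsg.Agent.Lib.CharTable
open Cfsg.Agent.Lib.RealChars
open scoped ComplexConjugate

universe u v

section Abstract

variable {A : Type u} [Group A] {Z : Type v}

/-- Burnside, for an action given by a function. -/
theorem sum_card_fixed [Finite A] [Finite Z] (a : A → Z → Z) (h1 : ∀ z, a 1 z = z)
    (hmul : ∀ g h z, a (g * h) z = a g (a h z)) :
    ∑ᶠ g : A, Nat.card {z : Z // a g z = z} = Nat.card (Quot fun z w : Z => ∃ g, a g z = w) * Nat.card A := by
  classical
  letI : Fintype A := Fintype.ofFinite A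
  letI : Fintype Z := Fintype.ofFinite Z
  letI act : MulAction A Z := { smul := a, one_smul := h1, mul_smul := hmul }
  letI : Fintype (Quotient (MulAction.orbitRel A Z)) := Fintype.ofFinite _
  have h := MulAction.sum_card_fixedBy_eq_card_orbits_mul_card_group A Z
  rw [finsum_eq_sum_of_fintype]
  have h2 : (fun z w : Z => ∃ g, a g z = w) = (MulAction.orbitRel A Z).r := by
    funext z w
    apply propext
    constructor
    · rintro ⟨g, rfl⟩
      show z ∈ MulAction.orbit A (a g z)
      exact ⟨g⁻¹, by
        show a g⁻¹ (a g z) = z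
        rw [← hmul, inv_mul_cancel, h1]⟩
    · rintro ⟨g, hg⟩
      refine ⟨g⁻¹, ?_⟩
      have hg' : a g w = z := hg
      rw [← hg', ← hmul, inv_mul_cancel, h1]
  rw [h2, Nat.card_eq_fintype_card (α := A)]
  have h3 : Nat.card (Quot (MulAction.orbitRel A Z).r) =
      Fintype.card (Quotient (MulAction.orbitRel A Z)) := by
    show Nat.card (Quotient (MulAction.orbitRel A Z)) = _
    rw [Nat.card_eq_fintype_card]
  rw [h3]
  simp only [Nat.card_eq_fintype_card]
  rw [← h]
  refine Finset.sum_congr rfl fun g _ => ?_
  apply Fintype.card_congr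
  rfl

/-- Real points under a commuting involution with an odd twist. -/
theorem eq_of_twist_fixed (a : A → Z → Z) (h1 : ∀ z, a 1 z = z)
    (hmul : ∀ g h z, a (g * h) z = a g (a h z)) (ι : Z → Z) (hι : ∀ z, ι (ι z) = z)
    (hcomm : ∀ g z, a g (ι z) = ι (a g z)) (o : ℕ) (ho : Odd o) (hK : ∀ g z, a (g ^ o) z = z)
    {g : A} {z : Z} (h : a g (ι z) = z) : ι z = z := by
  have hiter : ∀ n : ℕ, a (g ^ n) (ι^[n] z) = z := by
    intro n
    induction n with
    | zero => simpa using h1 z
    | succ n ih =>
      rw [pow_succ', hmul, Function.iterate_succ_apply', hcomm (g ^ n), ih, h]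
  have h2 := hiter o
  rw [hK] at h2
  obtain ⟨m, rfl⟩ := ho
  have h3 : ∀ k : ℕ, ι^[2 * k] z = z := by
    intro k
    induction k with
    | zero => rfl
    | succ k ih =>
      have : 2 * (k + 1) = 2 + 2 * k := by ring
      rw [this, Function.iterate_add_apply, ih]
      simp [hι]
  rw [show 2 * m + 1 = (2 * m).succ from rfl, Function.iterate_succ_apply', h3] at h2
  exact h2

end Abstract

section Aut

variable {K : Type u} [Group K] [Finite K]

/-- An automorphism acting on irreducible characters. -/
noncomputable def irrAut (f : MulAut K) (θ : IrrCharacter K) : IrrCharacter K :=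
  ⟨fun k => (θ : K → ℂ) (f.symm k),
    isIrrCharacter_comp_of_surjective f.symm.toMonoidHom f.symm.surjective θ.2⟩

theorem irrAut_apply (f : MulAut K) (θ : IrrCharacter K) (k : K) :
    (irrAut f θ : K → ℂ) k = (θ : K → ℂ) (f.symm k) := rfl

theorem irrAut_one (θ : IrrCharacter K) : irrAut (1 : MulAut K) θ = θ := by
  apply Subtype.ext
  funext k
  rfl

theorem irrAut_mul (f g : MulAut K) (θ : IrrCharacter K) :
    irrAut (f * g) θ = irrAut f (irrAut g θ) := by
  apply Subtype.ext
  funext k
  rfl

theorem irrAut_conjIrr (f : MulAut K) (θ : IrrCharacter K) :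
    irrAut f (conjIrr θ) = conjIrr (irrAut f θ) := by
  apply Subtype.ext
  funext k
  rfl

/-- An automorphism acting on conjugacy classes. -/
def classAut (f : MulAut K) (C : ConjClasses K) : ConjClasses K :=
  ConjClasses.map f.toMonoidHom C

theorem classAut_mk (f : MulAut K) (k : K) :
    classAut f (ConjClasses.mk k) = ConjClasses.mk (f k) := rfl

theorem classAut_one (C : ConjClasses K) : classAut (1 : MulAut K) C = C := by
  obtain ⟨k, rfl⟩ := ConjClasses.mk_surjective C
  rfl

theorem classAut_mul (f g : MulAut K) (C : ConjClasses K) :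
    classAut (f * g) C = classAut f (classAut g C) := by
  obtain ⟨k, rfl⟩ := ConjClasses.mk_surjective C
  rfl

/-- Inversion on classes. -/
def classInv : ConjClasses K → ConjClasses K :=
  Quotient.lift (fun x => ConjClasses.mk x⁻¹) (fun a b h =>
    ConjClasses.mk_eq_mk_iff_isConj.mpr (isConj_inv_inv h))

theorem classInv_mk (k : K) : classInv (ConjClasses.mk k) = ConjClasses.mk k⁻¹ := rfl

theorem classInv_classInv (C : ConjClasses K) : classInv (classInv C) = C := by
  obtain ⟨k, rfl⟩ := ConjClasses.mk_surjective C
  simp [classInv_mk]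

theorem classAut_classInv (f : MulAut K) (C : ConjClasses K) :
    classAut f (classInv C) = classInv (classAut f C) := by
  obtain ⟨k, rfl⟩ := ConjClasses.mk_surjective C
  simp [classInv_mk, classAut_mk]

theorem classInv_mk_eq_iff (k : K) : classInv (ConjClasses.mk k) = ConjClasses.mk k ↔ IsConj k k⁻¹ := by
  rw [classInv_mk, ConjClasses.mk_eq_mk_iff_isConj]
  exact ⟨fun h => h.symm, fun h => h.symm⟩

/-- Brauer: fixed points of an automorphism on `Irr` and on the classes. -/
theorem card_fixed_aut (f : MulAut K) :
    Nat.card {θ : IrrCharacter K // irrAut f θ = θ} = Nat.card {C : ConjClasses K // classAut f C = C} := by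
  classical
  haveI : Fintype K := Fintype.ofFinite K
  have h := card_fixed_irr_eq_card_fixed_class (G := K) (irrAut f) (classAut f⁻¹) (by
    intro χ g
    rw [irrAut_apply, classAut_mk]
    exact char_eq_of_isConj (IsIrrCharacter.isCharacter χ.2) (isConj_out_mk _).symm)
  rw [h]
  apply Nat.card_congr
  apply Equiv.subtypeEquivRight
  intro C
  constructor
  · intro h1
    conv_lhs => rw [← h1]
    rw [← classAut_mul, mul_inv_cancel, classAut_one]
  · intro h1
    conv_lhs => rw [← h1]
    rw [← classAut_mul, inv_mul_cancel, classAut_one]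

/-- Twisted Brauer: fixed points of `θ ↦ conj (θ^f)` and `C ↦ (C^f)⁻¹`. -/
theorem card_fixed_twist (f : MulAut K) :
    Nat.card {θ : IrrCharacter K // irrAut f (conjIrr θ) = θ} =
      Nat.card {C : ConjClasses K // classAut f (classInv C) = C} := by
  classical
  haveI : Fintype K := Fintype.ofFinite K
  have h := card_fixed_irr_eq_card_fixed_class (G := K) (fun θ => irrAut f (conjIrr θ))
    (fun C => classAut f⁻¹ (classInv C)) (by
    intro χ g
    rw [irrAut_apply]
    show conj ((χ : K → ℂ) (f.symm g)) = _
    rw [char_conj_eq_inv (IsIrrCharacter.isCharacter χ.2), classInv_mk, classAut_mk]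
    have : f.symm g⁻¹ = (f⁻¹ : MulAut K) g⁻¹ := rfl
    rw [← map_inv, this]
    exact char_eq_of_isConj (IsIrrCharacter.isCharacter χ.2) (isConj_out_mk _).symm)
  rw [h]
  apply Nat.card_congr
  apply Equiv.subtypeEquivRight
  intro C
  constructor
  · intro h1
    have h2 : classAut f (classAut f⁻¹ (classInv C)) = classAut f C := by rw [h1]
    rw [← classAut_mul, mul_inv_cancel, classAut_one] at h2
    rw [classAut_classInv, ← h2, classInv_classInv]
  · intro h1
    have h2 : classInv (classAut f (classInv C)) = classInv C := by rw [h1]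
    rw [← classAut_classInv, classInv_classInv] at h2
    rw [← h2, ← classAut_mul, inv_mul_cancel, classAut_one]

end Aut

theorem irrAut_conj {K : Type u} [Group K] [Finite K] (k : K) (θ : IrrCharacter K) :
    irrAut (MulAut.conj k) θ = θ := by
  apply Subtype.ext
  funext n
  rw [irrAut_apply]
  have := isClassFunction_of_isCharacter (IsIrrCharacter.isCharacter θ.2) n k⁻¹
  simpa using this

theorem classAut_conj {K : Type u} [Group K] [Finite K] (k : K) (C : ConjClasses K) :
    classAut (MulAut.conj k) C = C := by
  obtain ⟨n, rfl⟩ := ConjClasses.mk_surjective C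
  rw [classAut_mk, ConjClasses.mk_eq_mk_iff_isConj]
  exact (isConj_iff.mpr ⟨k, rfl⟩).symm

/-- The count for normal subgroups of odd index: the number of orbits on real characters
and on real classes of a normal subgroup are the same, in the abstract form. -/
theorem card_quot_real_eq {A : Type u} [Group A] [Finite A] {K : Type v} [Group K] [Finite K]
    (φ : A →* MulAut K) (o : ℕ) (ho : Odd o) (htriv : ∀ a : A, ∃ k : K, φ (a ^ o) = MulAut.conj k) :
    Nat.card (Quot fun θ η : {θ : IrrCharacter K // conjIrr θ = θ} => ∃ g, irrAut (φ g) θ.1 = η.1) =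
      Nat.card (Quot fun C D : {C : ConjClasses K // classInv C = C} => ∃ g, classAut (φ g) C.1 = D.1) := by
  classical
  haveI : Finite (ConjClasses K) := Quotient.finite _
  -- the action on the real characters
  let aX : A → {θ : IrrCharacter K // conjIrr θ = θ} → {θ : IrrCharacter K // conjIrr θ = θ} :=
    fun g θ => ⟨irrAut (φ g) θ.1, by rw [← irrAut_conjIrr, θ.2]⟩
  let aY : A → {C : ConjClasses K // classInv C = C} → {C : ConjClasses K // classInv C = C} :=
    fun g C => ⟨classAut (φ g) C.1, by rw [← classAut_classInv, C.2]⟩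
  have hX := sum_card_fixed aX (fun z => Subtype.ext (by
    show irrAut (φ 1) z.1 = z.1
    rw [map_one, irrAut_one])) (fun g h z => Subtype.ext (by
    show irrAut (φ (g * h)) z.1 = irrAut (φ g) (irrAut (φ h) z.1)
    rw [map_mul, irrAut_mul]))
  have hY := sum_card_fixed aY (fun z => Subtype.ext (by
    show classAut (φ 1) z.1 = z.1
    rw [map_one, classAut_one])) (fun g h z => Subtype.ext (by
    show classAut (φ (g * h)) z.1 = classAut (φ g) (classAut (φ h) z.1)
    rw [map_mul, classAut_mul]))
  have hrelX : (fun θ η : {θ : IrrCharacter K // conjIrr θ = θ} => ∃ g, irrAut (φ g) θ.1 = η.1) =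
      fun z w => ∃ g, aX g z = w := by
    funext z w
    apply propext
    constructor
    · rintro ⟨g, hg⟩
      exact ⟨g, Subtype.ext hg⟩
    · rintro ⟨g, hg⟩
      exact ⟨g, congrArg Subtype.val hg⟩
  have hrelY : (fun C D : {C : ConjClasses K // classInv C = C} => ∃ g, classAut (φ g) C.1 = D.1) =
      fun z w => ∃ g, aY g z = w := by
    funext z w
    apply propext
    constructor
    · rintro ⟨g, hg⟩
      exact ⟨g, Subtype.ext hg⟩
    · rintro ⟨g, hg⟩
      exact ⟨g, congrArg Subtype.val hg⟩
  rw [hrelX, hrelY]
  have hfixX : ∀ g : A, Nat.card {z // aX g z = z} = Nat.card {θ : IrrCharacter K // irrAut (φ g) (conjIrr θ) = θ} := by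
    intro g
    apply Nat.card_congr
    refine ⟨fun z => ⟨z.1.1, ?_⟩, fun z => ⟨⟨z.1, ?_⟩, ?_⟩, ?_, ?_⟩
    · rw [z.1.2]
      exact congrArg Subtype.val z.2
    · refine eq_of_twist_fixed (fun g θ => irrAut (φ g) θ) ?_ ?_ conjIrr conjIrr_conjIrr ?_ o ho ?_ z.2
      · intro z
        simp [irrAut_one]
      · intro g h z
        simp [irrAut_mul]
      · intro g z
        exact irrAut_conjIrr _ _
      · intro g z
        obtain ⟨k, hk⟩ := htriv g
        simp only [hk, irrAut_conj]
    · apply Subtype.ext
      have h1 : conjIrr z.1 = z.1 := by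
        refine eq_of_twist_fixed (fun g θ => irrAut (φ g) θ) ?_ ?_ conjIrr conjIrr_conjIrr ?_ o ho ?_ z.2
        · intro z
          simp [irrAut_one]
        · intro g h z
          simp [irrAut_mul]
        · intro g z
          exact irrAut_conjIrr _ _
        · intro g z
          obtain ⟨k, hk⟩ := htriv g
          simp only [hk, irrAut_conj]
      have h2 := z.2
      rw [h1] at h2
      exact h2
    · intro z; rfl
    · intro z; rfl
  have hfixY : ∀ g : A, Nat.card {z // aY g z = z} = Nat.card {C : ConjClasses K // classAut (φ g) (classInv C) = C} := by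
    intro g
    have key : ∀ z : ConjClasses K, classAut (φ g) (classInv z) = z → classInv z = z := by
      intro z hz
      refine eq_of_twist_fixed (fun g θ => classAut (φ g) θ) ?_ ?_ classInv classInv_classInv ?_ o ho ?_ hz
      · intro z
        simp [classAut_one]
      · intro g h z
        simp [classAut_mul]
      · intro g z
        exact classAut_classInv _ _
      · intro g z
        obtain ⟨k, hk⟩ := htriv g
        simp only [hk, classAut_conj]
    apply Nat.card_congr
    refine ⟨fun z => ⟨z.1.1, ?_⟩, fun z => ⟨⟨z.1, key _ z.2⟩, ?_⟩, ?_, ?_⟩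
    · rw [z.1.2]
      exact congrArg Subtype.val z.2
    · apply Subtype.ext
      have h2 := z.2
      rw [key _ z.2] at h2
      exact h2
    · intro z; rfl
    · intro z; rfl
  have hsum : ∀ g : A, Nat.card {z // aX g z = z} = Nat.card {z // aY g z = z} := by
    intro g
    rw [hfixX, hfixY, card_fixed_twist]
  have hAne : 0 < Nat.card A := Nat.card_pos
  have h3 : Nat.card (Quot fun z w => ∃ g, aX g z = w) * Nat.card A =
      Nat.card (Quot fun z w => ∃ g, aY g z = w) * Nat.card A := by
    rw [← hX, ← hY]
    exact finsum_congr hsum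
  exact Nat.eq_of_mul_eq_mul_right hAne h3

end Cfsg.Agent.Lib.CharAut
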