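import Mathlib
import Cfsg.Agent.Lib.CharAut
import Cfsg.Agent.Lib.BlockVal
import Cfsg.Agent.Lib.CharValues

/-!
# A `p`-group acting on a group of order prime to `p`

The part of the character table indexed by invariant characters and invariant classes is an
invertible matrix: its reduction modulo a maximal ideal of the algebraic integers over `p` has
left and right inverses, by the two orthogonality relations.  Hence the numbers of invariant
characters and of invariant classes agree, also for real characters and real classes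
(Glauberman's counting lemma).
-/

set_option autoImplicit false
set_option linter.unusedSectionVars false
set_option linter.unusedVariables false
set_option linter.style.haveILetI false

namespace Cfsg.Agent.Lib.CharAutP

open Cfsg Cfsg.Agent.Lib.CharBasic Cfsg.Agent.Lib.CharInd Cfsg.Agent.Lib.CharTable
open Cfsg.Agent.Lib.RealChars Cfsg.Agent.Lib.CharAut
open scoped ComplexConjugate

universe u v w

section Sum

variable {A : Type u} [Group A] [Finite A] {Z : Type v} [Finite Z] {S : Type w} [CommRing S]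

/-- The sum of an invariant function over a set with an action of a `p`-group is, in a ring
where `p = 0`, the sum over the fixed points. -/
theorem sum_eq_sum_fixed (p : ℕ) [hp : Fact p.Prime] (hA : IsPGroup p A) [Fintype Z]
    (hS : (p : S) = 0) (a : A → Z → Z) (h1 : ∀ z, a 1 z = z)
    (hmul : ∀ g h z, a (g * h) z = a g (a h z)) (f : Z → S) (hf : ∀ g z, f (a g z) = f z)
    [Fintype {z // ∀ g, a g z = z}] :
    ∑ z, f z = ∑ z : {z // ∀ g, a g z = z}, f z.1 := by
  classical
  have hcast : ∀ {m n : ℕ}, m ≡ n [MOD p] → (m : S) = (n : S) := by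
    intro m n h
    obtain ⟨c, hc⟩ := (Nat.modEq_iff_dvd.mp h)
    have h2 : (n : S) - (m : S) = (p : S) * (c : S) := by
      have := congrArg (Int.cast : ℤ → S) hc
      push_cast at this
      exact this
    rw [hS, zero_mul] at h2
    exact (sub_eq_zero.mp h2).symm
  have hcard : ∀ v : S, (Nat.card {z // f z = v} : S) =
      (Nat.card {z : {z // ∀ g, a g z = z} // f z.1 = v} : S) := by
    intro v
    letI : MulAction A {z // f z = v} :=
      { smul := fun g z => ⟨a g z.1, (hf g z.1).trans z.2⟩
        one_smul := fun z => Subtype.ext (h1 z.1)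
        mul_smul := fun g h z => Subtype.ext (hmul g h z.1) }
    have h2 := hA.card_modEq_card_fixedPoints {z // f z = v}
    rw [hcast h2]
    congr 1
    apply Nat.card_congr
    refine ⟨fun z => ⟨⟨z.1.1, fun g => ?_⟩, z.1.2⟩, fun z => ⟨⟨z.1.1, z.2⟩, fun g => ?_⟩, ?_, ?_⟩
    · exact congrArg Subtype.val (z.2 g)
    · exact Subtype.ext (z.1.2 g)
    · intro z; rfl
    · intro z; rfl
  let T : Finset S := Finset.univ.image f
  have hL : ∑ z, f z = ∑ v ∈ T, (Nat.card {z // f z = v} : S) * v := by
    rw [← Finset.sum_fiberwise_of_maps_to (s := Finset.univ) (t := T) (g := f)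
      (fun z _ => Finset.mem_image_of_mem _ (Finset.mem_univ z))]
    refine Finset.sum_congr rfl fun v _ => ?_
    rw [Finset.sum_congr rfl (g := fun _ => v) (fun z hz => (Finset.mem_filter.mp hz).2)]
    rw [Finset.sum_const, nsmul_eq_mul, Nat.card_eq_fintype_card, Fintype.card_subtype]
  have hR : ∑ z : {z // ∀ g, a g z = z}, f z.1 =
      ∑ v ∈ T, (Nat.card {z : {z // ∀ g, a g z = z} // f z.1 = v} : S) * v := by
    rw [← Finset.sum_fiberwise_of_maps_to (s := Finset.univ) (t := T) (g := fun z : {z // ∀ g, a g z = z} => f z.1)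
      (fun z _ => Finset.mem_image_of_mem _ (Finset.mem_univ z.1))]
    refine Finset.sum_congr rfl fun v _ => ?_
    rw [Finset.sum_congr rfl (g := fun _ => v) (fun z hz => (Finset.mem_filter.mp hz).2)]
    rw [Finset.sum_const, nsmul_eq_mul, Nat.card_eq_fintype_card, Fintype.card_subtype]
  rw [hL, hR]
  exact Finset.sum_congr rfl fun v _ => by rw [hcard]

end Sum

section Main

variable {A : Type u} [Group A] [Finite A] {K : Type v} [Group K] [Finite K]

/-- The invariant irreducible characters. -/
abbrev FixIrr (φ : A →* MulAut K) := {θ : IrrCharacter K // ∀ a, irrAut (φ a) θ = θ}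

/-- The invariant classes. -/
abbrev FixCl (φ : A →* MulAut K) := {C : ConjClasses K // ∀ a, classAut (φ a) C = C}

theorem isIntegral_irr (θ : IrrCharacter K) (g : K) : IsIntegral ℤ ((θ : K → ℂ) g) := by
  haveI : Fintype K := Fintype.ofFinite K
  obtain ⟨θ, n, ρ, hρ, rfl⟩ := θ
  exact Cfsg.Agent.Lib.CharValues.isIntegral_character ρ g

/-- The values of a character, as algebraic integers. -/
noncomputable def valR (θ : IrrCharacter K) (g : K) : AlgInt := ⟨(θ : K → ℂ) g, isIntegral_irr θ g⟩

theorem valR_coe (θ : IrrCharacter K) (g : K) : (valR θ g : ℂ) = (θ : K → ℂ) g := rfl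

theorem valR_conj (θ : IrrCharacter K) {g h : K} (hgh : IsConj g h) : valR θ g = valR θ h := by
  haveI : Fintype K := Fintype.ofFinite K
  apply Subtype.ext
  exact char_eq_of_isConj (IsIrrCharacter.isCharacter θ.2) hgh

theorem valR_irrAut (f : MulAut K) (θ : IrrCharacter K) (g : K) :
    valR (irrAut f θ) g = valR θ (f.symm g) := rfl

variable (φ : A →* MulAut K)

theorem isConj_symm_out (C : FixCl φ) (a : A) :
    IsConj ((φ a).symm (Quotient.out C.1)) (Quotient.out C.1) := by
  rw [← ConjClasses.mk_eq_mk_iff_isConj]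
  have h1 : ConjClasses.mk (Quotient.out C.1) = C.1 := Quotient.out_eq _
  have h2 : ConjClasses.mk ((φ a).symm (Quotient.out C.1)) = classAut (φ a⁻¹) (ConjClasses.mk (Quotient.out C.1)) := by
    rw [classAut_mk, map_inv]
    rfl
  rw [h2, h1, C.2]

theorem apply_eq_of_fix (θ : FixIrr φ) (a : A) (k : K) :
    valR θ.1 (φ a k) = valR θ.1 k := by
  have h1 := congrArg (fun η => valR η k) (θ.2 a⁻¹)
  simp only [valR_irrAut] at h1
  rw [← h1, map_inv]
  rfl

section Residue

variable {p : ℕ} {M : Ideal AlgInt} (hM : IsPModular p M)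
include hM

theorem residue_natCast_eq_zero : (Ideal.Quotient.mk M (p : AlgInt)) = 0 :=
  Ideal.Quotient.eq_zero_iff_mem.mpr hM.2.2

theorem residue_natCast_ne_zero {m : ℕ} (hm : ¬ p ∣ m) : (Ideal.Quotient.mk M (m : AlgInt)) ≠ 0 := by
  intro h0
  have hm' : (m : AlgInt) ∈ M := Ideal.Quotient.eq_zero_iff_mem.mp h0
  have hco : IsCoprime (p : ℤ) (m : ℤ) :=
    Nat.isCoprime_iff_coprime.mpr ((Nat.Prime.coprime_iff_not_dvd hM.1).mpr hm)
  obtain ⟨a, b, hab⟩ := hco
  have h1 : ((a : AlgInt) * (p : AlgInt) + (b : AlgInt) * (m : AlgInt)) = 1 := by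
    have := congrArg (Int.cast : ℤ → AlgInt) hab
    push_cast at this
    exact this
  have h2 : (1 : AlgInt) ∈ M := by
    rw [← h1]
    exact M.add_mem (M.mul_mem_left _ hM.2.2) (M.mul_mem_left _ hm')
  exact hM.2.1.ne_top ((Ideal.eq_top_iff_one M).mpr h2)

end Residue

/-- The restricted table has inverses: the computation over a residue field. -/
theorem exists_fix_table_inv_aux (p : ℕ) [hp : Fact p.Prime] (hA : IsPGroup p A) (hK : ¬ p ∣ Nat.card K)
    [Fintype (FixIrr φ)] [Fintype (FixCl φ)] [DecidableEq (FixIrr φ)] [DecidableEq (FixCl φ)]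
    {F : Type*} [Field F] (π : AlgInt →+* F) (hp0 : ((p : ℕ) : F) = 0)
    (hn0 : ∀ {m : ℕ}, ¬ p ∣ m → ((m : ℕ) : F) ≠ 0) :
    ∃ Y : Matrix (FixCl φ) (FixIrr φ) ℂ,
      (Matrix.of fun (θ : FixIrr φ) (C : FixCl φ) => (θ.1 : K → ℂ) (Quotient.out C.1)) * Y = 1 ∧
      Y * (Matrix.of fun (θ : FixIrr φ) (C : FixCl φ) => (θ.1 : K → ℂ) (Quotient.out C.1)) = 1 := by
  classical
  haveI : Fintype K := Fintype.ofFinite K
  -- the entries
  let tF : IrrCharacter K → K → F := fun θ g => π (valR θ g)
  have htF_conj : ∀ θ {g h : K}, IsConj g h → tF θ g = tF θ h := by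
    intro θ g h hgh
    exact congrArg π (valR_conj θ hgh)
  -- first relation
  have hcol : ∀ C D : FixCl φ, ∑ θ : FixIrr φ, tF θ.1 (Quotient.out D.1)⁻¹ * tF θ.1 (Quotient.out C.1) =
      if C = D then ((Nat.card (Subgroup.centralizer ({Quotient.out D.1} : Set K)) : ℕ) : F) else 0 := by
    intro C D
    set c := Quotient.out C.1 with hc
    set d := Quotient.out D.1 with hd
    have h0 : ∑ θ : IrrCharacter K, valR θ d⁻¹ * valR θ c =
        if IsConj c d then ((Nat.card (Subgroup.centralizer ({d} : Set K)) : ℕ) : AlgInt) else 0 := by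
      apply Subtype.ext
      have h1 := sum_irr_mul_conj c d
      have h2 : ((∑ θ : IrrCharacter K, valR θ d⁻¹ * valR θ c : AlgInt) : ℂ) =
          ∑ θ : IrrCharacter K, (θ : K → ℂ) c * conj ((θ : K → ℂ) d) := by
        rw [AddSubmonoidClass.coe_finsetSum]
        refine Finset.sum_congr rfl fun θ _ => ?_
        rw [MulMemClass.coe_mul, valR_coe, valR_coe,
          char_conj_eq_inv (IsIrrCharacter.isCharacter θ.2), mul_comm]
      rw [h2, h1]
      split_ifs <;> simp
    have h3 : ∑ θ : IrrCharacter K, tF θ d⁻¹ * tF θ c =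
        if IsConj c d then ((Nat.card (Subgroup.centralizer ({d} : Set K)) : ℕ) : F) else 0 := by
      have := congrArg π h0
      rw [map_sum] at this
      simp only [map_mul] at this
      rw [this]
      split_ifs <;> simp
    have h4 := sum_eq_sum_fixed (S := F) p hA hp0 (fun g θ => irrAut (φ g) θ)
      (fun z => by simp [irrAut_one]) (fun g h z => by simp [irrAut_mul])
      (fun θ => tF θ d⁻¹ * tF θ c) (by
        intro g θ
        show π (valR θ ((φ g).symm d⁻¹)) * π (valR θ ((φ g).symm c)) = _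
        congr 1
        · apply congrArg π
          apply valR_conj
          rw [map_inv]
          exact isConj_inv_inv (isConj_symm_out φ D g)
        · apply congrArg π
          apply valR_conj
          exact isConj_symm_out φ C g)
    rw [h3] at h4
    have h5 : IsConj c d ↔ C = D := by
      constructor
      · intro h
        apply Subtype.ext
        have := ConjClasses.mk_eq_mk_iff_isConj.mpr h
        rwa [hc, hd, show ConjClasses.mk (Quotient.out C.1) = C.1 from Quotient.out_eq _,
          show ConjClasses.mk (Quotient.out D.1) = D.1 from Quotient.out_eq _] at this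
      · rintro rfl
        exact IsConj.refl _
    simp only [h5] at h4
    rw [h4]
  -- second relation
  have hrow : ∀ θ ψ : FixIrr φ, ∑ k : {k : K // ∀ a, φ a k = k},
      tF θ.1 k.1 * tF ψ.1 (k.1)⁻¹ = if θ = ψ then ((Nat.card K : ℕ) : F) else 0 := by
    intro θ ψ
    have h0 : ∑ k : K, valR θ.1 k * valR ψ.1 k⁻¹ =
        if θ = ψ then ((Nat.card K : ℕ) : AlgInt) else 0 := by
      apply Subtype.ext
      have h2 : ((∑ k : K, valR θ.1 k * valR ψ.1 k⁻¹ : AlgInt) : ℂ) =
          ∑ k : K, (θ.1 : K → ℂ) k * conj ((ψ.1 : K → ℂ) k) := by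
        rw [AddSubmonoidClass.coe_finsetSum]
        refine Finset.sum_congr rfl fun k _ => ?_
        rw [MulMemClass.coe_mul, valR_coe, valR_coe,
          char_conj_eq_inv (IsIrrCharacter.isCharacter ψ.1.2)]
      rw [h2]
      have hG : (Nat.card K : ℂ) ≠ 0 := natCard_ne_zero'
      by_cases hθψ : θ = ψ
      · rw [if_pos hθψ]
        subst hθψ
        have h1 := classInner_irr_self θ.1.2
        unfold classInner at h1
        field_simp at h1
        rw [h1]
        simp
      · rw [if_neg hθψ]
        have h1 := classInner_irr_ne θ.1.2 ψ.1.2 (fun h => hθψ (Subtype.ext (Subtype.ext h)))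
        unfold classInner at h1
        rcases mul_eq_zero.mp h1 with h3 | h3
        · exact absurd h3 (inv_ne_zero hG)
        · rw [h3]
          simp
    have h3 : ∑ k : K, tF θ.1 k * tF ψ.1 k⁻¹ =
        if θ = ψ then ((Nat.card K : ℕ) : F) else 0 := by
      have := congrArg π h0
      rw [map_sum] at this
      simp only [map_mul] at this
      rw [this]
      split_ifs <;> simp
    have h4 := sum_eq_sum_fixed (S := F) p hA hp0 (fun g k => φ g k)
      (fun z => by simp) (fun g h z => by simp)
      (fun k => tF θ.1 k * tF ψ.1 k⁻¹) (by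
        intro g k
        show π (valR θ.1 (φ g k)) * π (valR ψ.1 (φ g k)⁻¹) = _
        rw [← map_inv, apply_eq_of_fix, apply_eq_of_fix])
    rw [h3] at h4
    rw [h4]
  -- the matrices over the residue field
  let U : Matrix (FixIrr φ) (FixCl φ) (F) := Matrix.of fun θ C => tF θ.1 (Quotient.out C.1)
  let V : Matrix (FixCl φ) (FixIrr φ) (F) := Matrix.of fun C θ => tF θ.1 (Quotient.out C.1)⁻¹
  let cent : FixCl φ → F := fun D =>
    ((Nat.card (Subgroup.centralizer ({Quotient.out D.1} : Set K)) : ℕ) : F)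
  have hcent : ∀ D, cent D ≠ 0 := by
    intro D
    apply hn0
    intro h
    apply hK
    exact h.trans (Subgroup.card_subgroup_dvd_card _)
  let W' : Matrix (FixCl φ) (FixIrr φ) (F) := Matrix.diagonal (fun D => (cent D)⁻¹) * V
  have hW' : W' * U = 1 := by
    have hVU : ∀ D C, (V * U) D C = if C = D then cent D else 0 := by
      intro D C
      simp only [Matrix.mul_apply, U, V, Matrix.of_apply]
      exact hcol C D
    ext D C
    show (Matrix.diagonal (fun D => (cent D)⁻¹) * V * U) D C = _
    rw [Matrix.mul_assoc, Matrix.diagonal_mul, hVU]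
    by_cases hCD : C = D
    · subst hCD
      rw [if_pos rfl, Matrix.one_apply_eq, inv_mul_cancel₀ (hcent C)]
    · rw [if_neg hCD, mul_zero, Matrix.one_apply_ne (Ne.symm hCD)]
  -- fibres over the classes
  let cnt : FixCl φ → F := fun C =>
    ((Nat.card {k : {k : K // ∀ a, φ a k = k} // ConjClasses.mk k.1 = C.1} : ℕ) : F)
  have hmk : ∀ k : {k : K // ∀ a, φ a k = k}, ∀ a, classAut (φ a) (ConjClasses.mk k.1) = ConjClasses.mk k.1 := by
    intro k a
    rw [classAut_mk, k.2 a]
  let mm : {k : K // ∀ a, φ a k = k} → FixCl φ := fun k => ⟨ConjClasses.mk k.1, hmk k⟩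
  have hrow' : ∀ θ ψ : FixIrr φ, ∑ C : FixCl φ, tF θ.1 (Quotient.out C.1) * (cnt C * tF ψ.1 (Quotient.out C.1)⁻¹) =
      if θ = ψ then ((Nat.card K : ℕ) : F) else 0 := by
    intro θ ψ
    rw [← hrow θ ψ, ← Finset.sum_fiberwise_of_maps_to (s := Finset.univ) (t := Finset.univ) (g := mm)
      (fun _ _ => Finset.mem_univ _)]
    refine Finset.sum_congr rfl fun C _ => ?_
    have hval : ∀ k ∈ Finset.univ.filter (fun k => mm k = C),
        tF θ.1 k.1 * tF ψ.1 (k.1)⁻¹ = tF θ.1 (Quotient.out C.1) * tF ψ.1 (Quotient.out C.1)⁻¹ := by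
      intro k hk
      have h1 : mm k = C := (Finset.mem_filter.mp hk).2
      have h2 : ConjClasses.mk k.1 = C.1 := congrArg Subtype.val h1
      have h3 : IsConj k.1 (Quotient.out C.1) := by
        rw [← ConjClasses.mk_eq_mk_iff_isConj, h2]
        exact (Quotient.out_eq _).symm
      rw [htF_conj _ h3, htF_conj _ (isConj_inv_inv h3)]
    rw [Finset.sum_congr rfl hval, Finset.sum_const, nsmul_eq_mul]
    have hc : (Finset.univ.filter (fun k => mm k = C)).card =
        Nat.card {k : {k : K // ∀ a, φ a k = k} // ConjClasses.mk k.1 = C.1} := by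
      rw [Nat.card_eq_fintype_card, Fintype.card_subtype]
      congr 1
      ext k
      simp only [Finset.mem_filter, Finset.mem_univ, true_and, mm]
      constructor
      · intro h; exact congrArg Subtype.val h
      · intro h; exact Subtype.ext h
    rw [hc]
    ring
  have hK0 : ((Nat.card K : ℕ) : F) ≠ 0 := hn0 hK
  let W : Matrix (FixCl φ) (FixIrr φ) (F) :=
    ((Nat.card K : ℕ) : F)⁻¹ • (Matrix.diagonal cnt * V)
  have hW : U * W = 1 := by
    have hUV : ∀ θ ψ, (U * (Matrix.diagonal cnt * V)) θ ψ = if θ = ψ then ((Nat.card K : ℕ) : F) else 0 := by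
      intro θ ψ
      rw [← hrow' θ ψ, Matrix.mul_apply]
      refine Finset.sum_congr rfl fun C _ => ?_
      rw [Matrix.diagonal_mul]
      rfl
    ext θ ψ
    show (U * (((Nat.card K : ℕ) : F)⁻¹ • (Matrix.diagonal cnt * V))) θ ψ = _
    rw [Matrix.mul_smul, Matrix.smul_apply, smul_eq_mul, hUV]
    by_cases h : θ = ψ
    · subst h
      rw [if_pos rfl, Matrix.one_apply_eq, inv_mul_cancel₀ hK0]
    · rw [if_neg h, mul_zero, Matrix.one_apply_ne h]
  -- the sizes agree
  have hle1 : Fintype.card (FixIrr φ) ≤ Fintype.card (FixCl φ) := by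
    have h1 := Matrix.rank_mul_le_left U W
    rw [hW, Matrix.rank_one] at h1
    exact h1.trans (Matrix.rank_le_card_width U)
  have hle2 : Fintype.card (FixCl φ) ≤ Fintype.card (FixIrr φ) := by
    have h1 := Matrix.rank_mul_le_right W' U
    rw [hW', Matrix.rank_one] at h1
    exact h1.trans (Matrix.rank_le_card_height U)
  let e : FixIrr φ ≃ FixCl φ := Fintype.equivOfCardEq (le_antisymm hle1 hle2)
  -- a determinant
  let TR : Matrix (FixIrr φ) (FixIrr φ) AlgInt := Matrix.of fun θ ψ => valR θ.1 (Quotient.out (e ψ).1)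
  have hdetF : π TR.det ≠ 0 := by
    have h1 : (U.submatrix id e) * (W.submatrix e id) = 1 := by
      rw [Matrix.submatrix_mul_equiv, hW]
      simp
    have h2 : IsUnit (U.submatrix id e).det := Matrix.isUnit_det_of_right_inverse h1
    have h3 : π.mapMatrix TR = U.submatrix id e := by
      ext θ ψ
      rfl
    rw [RingHom.map_det, h3]
    exact h2.ne_zero
  have hdetR : TR.det ≠ 0 := by
    intro h
    apply hdetF
    rw [h, map_zero]
  let ι : AlgInt →+* ℂ := (algebraMap AlgInt ℂ)
  let TC : Matrix (FixIrr φ) (FixIrr φ) ℂ := ι.mapMatrix TR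
  have hdetC : IsUnit TC.det := by
    rw [isUnit_iff_ne_zero]
    show (ι.mapMatrix TR).det ≠ 0
    rw [← RingHom.map_det]
    intro h
    apply hdetR
    exact Subtype.ext h
  let Y : Matrix (FixCl φ) (FixIrr φ) ℂ := TC⁻¹.submatrix e.symm id
  have hT : (Matrix.of fun (θ : FixIrr φ) (C : FixCl φ) => (θ.1 : K → ℂ) (Quotient.out C.1)) = TC.submatrix id e.symm := by
    ext θ C
    show _ = ((valR θ.1 (Quotient.out (e (e.symm C)).1) : AlgInt) : ℂ)
    rw [Equiv.apply_symm_apply]
    rfl
  refine ⟨Y, ?_, ?_⟩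
  · rw [hT, Matrix.submatrix_mul_equiv, Matrix.mul_nonsing_inv _ hdetC]
    simp
  · rw [hT]
    show (TC⁻¹.submatrix e.symm id) * (TC.submatrix id e.symm) = 1
    rw [← Matrix.submatrix_mul _ _ _ _ _ Function.bijective_id, Matrix.nonsing_inv_mul _ hdetC]
    simp

/-- The restricted table has inverses. -/
theorem exists_fix_table_inv (p : ℕ) [hp : Fact p.Prime] (hA : IsPGroup p A) (hK : ¬ p ∣ Nat.card K)
    [Fintype (FixIrr φ)] [Fintype (FixCl φ)] [DecidableEq (FixIrr φ)] [DecidableEq (FixCl φ)] :
    ∃ Y : Matrix (FixCl φ) (FixIrr φ) ℂ,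
      (Matrix.of fun (θ : FixIrr φ) (C : FixCl φ) => (θ.1 : K → ℂ) (Quotient.out C.1)) * Y = 1 ∧
      Y * (Matrix.of fun (θ : FixIrr φ) (C : FixCl φ) => (θ.1 : K → ℂ) (Quotient.out C.1)) = 1 := by
  obtain ⟨M, hM⟩ := Cfsg.Agent.Lib.BlockVal.exists_isPModular hp.out
  haveI hMm : M.IsMaximal := hM.2.1
  letI : Field (AlgInt ⧸ M) := Ideal.Quotient.field M
  refine exists_fix_table_inv_aux φ p hA hK (F := AlgInt ⧸ M) (Ideal.Quotient.mk M) ?_ ?_
  · have := residue_natCast_eq_zero hM
    rw [map_natCast] at this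
    exact this
  · intro m hm
    have := residue_natCast_ne_zero hM hm
    rw [map_natCast] at this
    exact this

/-- Glauberman's counting: a `p`-group acting on a `p'`-group has equally many invariant irreducible
characters and invariant classes. -/
theorem card_fixIrr_eq (p : ℕ) [hp : Fact p.Prime] (hA : IsPGroup p A) (hK : ¬ p ∣ Nat.card K) :
    Nat.card (FixIrr φ) = Nat.card (FixCl φ) := by
  classical
  haveI : Finite (ConjClasses K) := Quotient.finite _
  haveI : Fintype (FixIrr φ) := Fintype.ofFinite _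
  haveI : Fintype (FixCl φ) := Fintype.ofFinite _
  obtain ⟨Y, h1, h2⟩ := exists_fix_table_inv φ p hA hK
  rw [Nat.card_eq_fintype_card, Nat.card_eq_fintype_card]
  have h3 := Matrix.rank_mul_le_left (Matrix.of fun (θ : FixIrr φ) (C : FixCl φ) => (θ.1 : K → ℂ) (Quotient.out C.1)) Y
  rw [h1, Matrix.rank_one] at h3
  have h4 := Matrix.rank_mul_le_right Y (Matrix.of fun (θ : FixIrr φ) (C : FixCl φ) => (θ.1 : K → ℂ) (Quotient.out C.1))
  rw [h2, Matrix.rank_one] at h4
  exact le_antisymm (h3.trans (Matrix.rank_le_card_width _)) (h4.trans (Matrix.rank_le_card_height _))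

/-- The same for the real ones. -/
theorem card_fixIrr_real_eq (p : ℕ) [hp : Fact p.Prime] (hA : IsPGroup p A) (hK : ¬ p ∣ Nat.card K) :
    Nat.card {θ : FixIrr φ // conjIrr θ.1 = θ.1} = Nat.card {C : FixCl φ // classInv C.1 = C.1} := by
  classical
  haveI : Fintype K := Fintype.ofFinite K
  haveI : Finite (ConjClasses K) := Quotient.finite _
  haveI : Fintype (FixIrr φ) := Fintype.ofFinite _
  haveI : Fintype (FixCl φ) := Fintype.ofFinite _
  obtain ⟨Y, h1, h2⟩ := exists_fix_table_inv φ p hA hK
  let σ : FixIrr φ → FixIrr φ := fun θ => ⟨conjIrr θ.1, fun a => by rw [irrAut_conjIrr, θ.2 a]⟩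
  let τ : FixCl φ → FixCl φ := fun C => ⟨classInv C.1, fun a => by rw [classAut_classInv, C.2 a]⟩
  have h := card_fixed_eq (Matrix.of fun (θ : FixIrr φ) (C : FixCl φ) => (θ.1 : K → ℂ) (Quotient.out C.1))
    Y h1 h2 σ τ (by
      intro θ C
      show conj ((θ.1 : K → ℂ) (Quotient.out C.1)) = (θ.1 : K → ℂ) (Quotient.out (classInv C.1))
      rw [char_conj_eq_inv (IsIrrCharacter.isCharacter θ.1.2)]
      apply char_eq_of_isConj (IsIrrCharacter.isCharacter θ.1.2)
      rw [← ConjClasses.mk_eq_mk_iff_isConj, ← classInv_mk, show ConjClasses.mk (Quotient.out C.1) = C.1 from Quotient.out_eq _]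
      exact (Quotient.out_eq _).symm)
  rw [Nat.card_eq_fintype_card, Nat.card_eq_fintype_card, Fintype.card_subtype, Fintype.card_subtype]
  convert h using 2
  · ext θ
    simp only [Finset.mem_filter, Finset.mem_univ, true_and, σ]
    constructor
    · intro h; exact Subtype.ext h
    · intro h; exact congrArg Subtype.val h
  · ext C
    simp only [Finset.mem_filter, Finset.mem_univ, true_and, τ]
    constructor
    · intro h; exact Subtype.ext h
    · intro h; exact congrArg Subtype.val h

end Main

end Cfsg.Agent.Lib.CharAutP
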