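import Mathlib

/-!
# Fitting decompositions over a local ring with split polynomials

An abstract layer for the Broué–Puig construction: `A` is an algebra over the local ring `R`, with a
reduction `φ` to a ring `B` killing the maximal ideal, for which all elements are roots of split
monic polynomials.  We obtain Fitting decompositions, locality of corner rings of primitive
idempotents and decompositions into primitive idempotents.
-/

set_option autoImplicit false
set_option linter.unusedSectionVars false
set_option linter.unusedVariables false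
set_option linter.style.haveILetI false

namespace Cfsg.Agent.Lib.StarFit

open Polynomial IsLocalRing

universe u v w

/-- The data of a local system. -/
structure LocSys (R : Type u) (A : Type v) (B : Type w) [CommRing R] [IsLocalRing R] [Ring A]
    [Algebra R A] [Ring B] where
  φ : A →+* B
  map_m : ∀ r ∈ maximalIdeal R, φ (algebraMap R A r) = 0
  inv : ∀ x : A, φ x = 0 → ∃ y, (1 + x) * y = 1 ∧ y * (1 + x) = 1
  roots : ∀ x : A, ∃ (n : ℕ) (r : Fin n → R), aeval x (∏ j, (X - C (r j))) = 0
  rk : A → ℕ
  rk_lt : ∀ a b : A, a * a = a → b * b = b → a * b = 0 → b * a = 0 → b ≠ 0 → rk a < rk (a + b)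

variable {R : Type u} {A : Type v} {B : Type w} [CommRing R] [IsLocalRing R] [Ring A]
  [Algebra R A] [Ring B] (L : LocSys R A B)

namespace LocSys

include L in
/-- An idempotent reducing to zero is zero. -/
theorem eq_zero_of_phi_eq_zero {i : A} (hi : i * i = i) (h0 : L.φ i = 0) : i = 0 := by
  obtain ⟨y, h1, h2⟩ := L.inv (-i) (by rw [map_neg, h0, neg_zero])
  have h3 : y * (1 + -i) * i = 0 := by
    rw [mul_assoc, add_mul, one_mul, neg_mul, hi, add_neg_cancel, mul_zero]
  rw [h2, one_mul] at h3
  exact h3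

/-- Congruent coefficients give congruent values. -/
theorem phi_eq_of_residue_eq {a b : R} (h : residue R a = residue R b) :
    L.φ (algebraMap R A a) = L.φ (algebraMap R A b) := by
  have h1 : a - b ∈ maximalIdeal R := by
    rw [← residue_eq_zero_iff, map_sub, h, sub_self]
  have h2 := L.map_m _ h1
  rw [map_sub, map_sub, sub_eq_zero] at h2
  exact h2

open scoped Classical in
/-- The general Fitting decomposition. -/
theorem fit_all {ι : Type*} (J : Finset ι) (hJ : J.Nonempty) (r : ι → R) (y : A)
    (hy : aeval y (∏ j ∈ J, (X - C (r j))) = 0) :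
    ∃ P : ResidueField R → R[X],
      (∑ μ ∈ J.image (fun j => residue R (r j)) , aeval y (P μ) = 1) ∧
      (∀ μ ∈ J.image (fun j => residue R (r j)), ∀ ν ∈ J.image (fun j => residue R (r j)), μ ≠ ν →
        aeval y (P μ) * aeval y (P ν) = 0) ∧
      (∀ μ ∈ J.image (fun j => residue R (r j)), ∀ c : R, residue R c = μ →
        L.φ ((y - algebraMap R A c) ^ J.card * aeval y (P μ)) = 0) ∧
      (∀ μ ∈ J.image (fun j => residue R (r j)), ∀ c : R, residue R c ≠ μ →
        ∃ h : R[X], (y - algebraMap R A c) * aeval y (h * P μ) = aeval y (P μ)) := by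
  set T := J.image (fun j => residue R (r j)) with hT
  have hTn : T.Nonempty := hJ.image _
  set F : ResidueField R → R[X] := fun μ => ∏ j ∈ J.filter (fun j => residue R (r j) = μ), (X - C (r j))
    with hF
  have hunit : ∀ a b : R, residue R a ≠ residue R b → IsUnit (a - b) := by
    intro a b hab
    rw [← IsLocalRing.residue_ne_zero_iff_isUnit, map_sub]
    exact sub_ne_zero.2 hab
  have hcop : ∀ μ ν, μ ≠ ν → IsCoprime (F μ) (F ν) := by
    intro μ ν hne
    refine IsCoprime.prod_left fun j hj => IsCoprime.prod_right fun l hl => ?_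
    rw [Finset.mem_filter] at hj hl
    apply isCoprime_X_sub_C_of_isUnit_sub
    apply hunit
    rw [hj.2, hl.2]
    exact hne
  have hprod : ∏ μ ∈ T, F μ = ∏ j ∈ J, (X - C (r j)) :=
    Finset.prod_fiberwise_of_maps_to (fun j hj => Finset.mem_image_of_mem _ hj) _
  have hpair : Pairwise (Function.onFun IsCoprime (fun μ : T => F μ)) := by
    intro a b hab
    exact hcop _ _ (fun h => hab (Subtype.ext h))
  obtain ⟨c, hc⟩ := (exists_sum_eq_one_iff_pairwise_coprime hTn).2 hpair
  set P : ResidueField R → R[X] := fun μ => c μ * ∏ ν ∈ T \ {μ}, F ν with hP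
  have hFP : ∀ μ ∈ T, aeval y (F μ) * aeval y (P μ) = 0 := by
    intro μ hμ
    rw [← map_mul]
    have h1 : F μ * P μ = c μ * ∏ ν ∈ T, F ν := by
      simp only [hP]
      rw [Finset.sdiff_singleton_eq_erase, ← Finset.mul_prod_erase T F hμ]
      ring
    rw [h1, hprod, map_mul, hy, mul_zero]
  have hdvd : ∀ μ ∈ T, ∀ ν ∈ T, μ ≠ ν → ∃ Q : R[X], P ν = F μ * Q := by
    intro μ hμ ν hν hne
    have h1 : F μ ∣ ∏ κ ∈ T \ {ν}, F κ := by
      apply Finset.dvd_prod_of_mem
      simp [hμ, hne]
    obtain ⟨Q, hQ⟩ := h1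
    refine ⟨c ν * Q, ?_⟩
    simp only [hP]
    rw [hQ]
    ring
  refine ⟨P, ?_, ?_, ?_, ?_⟩
  · rw [← map_sum]
    have : ∑ μ ∈ T, P μ = 1 := by
      have h2 := hc
      rw [Finset.sum_congr rfl (fun μ _ => rfl)] at h2
      simpa [hP] using h2
    rw [this, map_one]
  · intro μ hμ ν hν hne
    obtain ⟨Q, hQ⟩ := hdvd ν hν μ hμ hne.symm
    have hFP' := hFP ν hν
    rw [hQ, map_mul]
    calc aeval y (F ν) * aeval y Q * aeval y (P ν)
        = aeval y Q * (aeval y (F ν) * aeval y (P ν)) := by
          rw [← map_mul, ← map_mul, ← map_mul, ← map_mul]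
          congr 1
          ring
      _ = 0 := by rw [hFP', mul_zero]
  · intro μ hμ c' hc'
    have h1 : L.φ (aeval y (F μ)) =
        (L.φ y - L.φ (algebraMap R A c')) ^ (J.filter (fun j => residue R (r j) = μ)).card := by
      have hgen : ∀ s : Finset ι, (∀ j ∈ s, residue R (r j) = μ) →
          L.φ (aeval y (∏ j ∈ s, (X - C (r j)))) =
            (L.φ y - L.φ (algebraMap R A c')) ^ s.card := by
        intro s
        induction s using Finset.induction_on with
        | empty => intro _; simp
        | insert a s ha ih =>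
          intro hs
          rw [Finset.prod_insert ha, Finset.card_insert_of_notMem ha, map_mul, map_mul, pow_succ',
            ih (fun j hj => hs j (Finset.mem_insert_of_mem hj))]
          congr 1
          rw [map_sub, map_sub, aeval_X, aeval_C,
            L.phi_eq_of_residue_eq ((hs a (Finset.mem_insert_self _ _)).trans hc'.symm)]
      exact hgen _ (fun j hj => (Finset.mem_filter.1 hj).2)
    have hle : (J.filter (fun j => residue R (r j) = μ)).card ≤ J.card := Finset.card_filter_le _ _
    obtain ⟨n, hn⟩ := Nat.exists_eq_add_of_le hle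
    rw [map_mul, map_pow, map_sub]
    rw [hn, add_comm, pow_add, mul_assoc, ← h1, ← map_mul, hFP μ hμ, map_zero, mul_zero]
  · intro μ hμ c' hc'
    have h1 : IsCoprime (X - C c') (F μ) := by
      refine IsCoprime.prod_right fun j hj => ?_
      rw [Finset.mem_filter] at hj
      apply isCoprime_X_sub_C_of_isUnit_sub
      apply hunit
      rw [hj.2]
      exact hc'
    obtain ⟨a, b, hab⟩ := h1
    refine ⟨a, ?_⟩
    have h2 : aeval y (a * (X - C c')) + aeval y (b * F μ) = 1 := by
      rw [← map_add, hab, map_one]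
    have h3 : aeval y (X - C c' : R[X]) = y - algebraMap R A c' := by
      rw [map_sub, aeval_X, aeval_C]
    have h4 : (y - algebraMap R A c') * aeval y (a * P μ) =
        aeval y (a * (X - C c')) * aeval y (P μ) := by
      rw [← h3, ← map_mul, ← map_mul]
      congr 1
      ring
    rw [h4]
    have h5 : aeval y (a * (X - C c')) * aeval y (P μ) =
        (1 - aeval y (b * F μ)) * aeval y (P μ) := by
      rw [← h2]
      congr 1
      abel
    rw [h5, sub_mul, one_mul, map_mul (aeval y) b (F μ), mul_assoc, hFP μ hμ, mul_zero, sub_zero]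

/-- Fitting at one eigenvalue. -/
theorem fit_one (y : A) (c : R) :
    ∃ (g h : R[X]) (N : ℕ), aeval y g * aeval y g = aeval y g ∧
      L.φ ((y - algebraMap R A c) ^ N * aeval y g) = 0 ∧
      (y - algebraMap R A c) * aeval y h = 1 - aeval y g := by
  classical
  obtain ⟨n, r, hr⟩ := L.roots y
  -- add a root to get a nonempty index set
  let r' : Option (Fin n) → R := fun o => o.elim 0 r
  have hr' : aeval y (∏ j ∈ (Finset.univ : Finset (Option (Fin n))), (X - C (r' j))) = 0 := by
    rw [Fintype.prod_option]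
    simp only [r', Option.elim]
    rw [map_mul, hr, mul_zero]
  obtain ⟨P, h1, h2, h3, h4⟩ := L.fit_all Finset.univ ⟨none, Finset.mem_univ _⟩ r' y hr'
  set T := (Finset.univ : Finset (Option (Fin n))).image (fun j => residue R (r' j)) with hT
  have hid : ∀ μ ∈ T, aeval y (P μ) * aeval y (P μ) = aeval y (P μ) := by
    intro μ hμ
    have h5 : aeval y (P μ) * ∑ ν ∈ T, aeval y (P ν) = aeval y (P μ) := by rw [h1, mul_one]
    rw [Finset.mul_sum, Finset.sum_eq_single μ] at h5
    · exact h5
    · intro ν hν hne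
      exact h2 μ hμ ν hν hne.symm
    · intro h
      exact absurd hμ h
  -- the complement
  have hcomp : ∃ h : R[X], (y - algebraMap R A c) * aeval y h =
      ∑ ν ∈ T.erase (residue R c), aeval y (P ν) := by
    choose! H hH using fun ν (hν : ν ∈ T.erase (residue R c)) =>
      h4 ν (Finset.mem_of_mem_erase hν) c (fun e => Finset.ne_of_mem_erase hν e.symm)
    refine ⟨∑ ν ∈ T.erase (residue R c), H ν * P ν, ?_⟩
    rw [map_sum, Finset.mul_sum]
    exact Finset.sum_congr rfl hH
  obtain ⟨h, hh⟩ := hcomp
  by_cases hc : residue R c ∈ T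
  · refine ⟨P (residue R c), h, (Finset.univ : Finset (Option (Fin n))).card, hid _ hc,
      h3 _ hc c rfl, ?_⟩
    rw [hh, ← h1, ← Finset.add_sum_erase T _ hc]
    abel
  · refine ⟨0, h, 0, by simp, by simp, ?_⟩
    rw [hh, Finset.erase_eq_of_notMem hc, h1]
    simp


section Prim

variable (S : Subalgebra R A)

omit [IsLocalRing R] in
theorem aeval_mem {y : A} (hy : y ∈ S) (g : R[X]) : aeval y g ∈ S := by
  have := (aeval (⟨y, hy⟩ : S) g).2
  rwa [aeval_subalgebra_coe] at this

omit [IsLocalRing R] in
theorem commute_aeval {a y : A} (h : Commute a y) (g : R[X]) : Commute a (aeval y g) := by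
  have h1 : y ∈ Subalgebra.centralizer R ({a} : Set A) := by
    rw [Subalgebra.mem_centralizer_iff]
    intro z hz
    rw [Set.mem_singleton_iff] at hz
    subst hz
    exact h.eq
  have h2 := aeval_mem (Subalgebra.centralizer R ({a} : Set A)) h1 g
  rw [Subalgebra.mem_centralizer_iff] at h2
  exact h2 a (Set.mem_singleton a)

omit [IsLocalRing R] in
theorem commute_aeval_self (y : A) (g : R[X]) : Commute y (aeval y g) :=
  commute_aeval (Commute.refl y) g

/-- Primitive idempotents of a subalgebra. -/
structure PrimIn (S : Subalgebra R A) (i : A) : Prop where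
  mem : i ∈ S
  idem : i * i = i
  ne : i ≠ 0
  prim : ∀ p ∈ S, p * p = p → i * p = p → p * i = p → p = 0 ∨ p = i

/-- Elements nilpotent modulo the maximal ideal, in a corner. -/
def Nil (i x : A) : Prop := ∃ N : ℕ, L.φ ((i * x * i) ^ (N + 1)) = 0

/-- Elements with a left inverse in a corner. -/
def LInv (S : Subalgebra R A) (i x : A) : Prop := ∃ w ∈ S, i * w * i = w ∧ w * (i * x * i) = i

variable {S} {L}
variable {i x y : A}

theorem PrimIn.phi_ne (h : PrimIn S i) : L.φ i ≠ 0 := fun h0 =>
  h.ne (L.eq_zero_of_phi_eq_zero h.idem h0)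

omit [IsLocalRing R] [Algebra R A] in
theorem corner_left {i x : A} (hi : i * i = i) : i * (i * x * i) = i * x * i := by
  rw [← mul_assoc, ← mul_assoc, hi]

omit [IsLocalRing R] [Algebra R A] in
theorem corner_right {i x : A} (hi : i * i = i) : (i * x * i) * i = i * x * i := by
  rw [mul_assoc, hi]

variable (L) in
/-- Dichotomy in the corner of a primitive idempotent. -/
theorem nil_or_linv (h : PrimIn S i) (hx : x ∈ S) : L.Nil i x ∨ LInv S i x := by
  classical
  have hi := h.idem
  set y := i * x * i with hy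
  have hyS : y ∈ S := S.mul_mem (S.mul_mem h.mem hx) h.mem
  have hiy : i * y = y := corner_left hi
  have hyi : y * i = y := corner_right hi
  have hcom : Commute i y := by
    show i * y = y * i
    rw [hiy, hyi]
  obtain ⟨g, f, N, h1, h2, h3⟩ := L.fit_one y 0
  rw [map_zero, sub_zero] at h2 h3
  set π := aeval y g with hπ
  have hπi : Commute i π := commute_aeval hcom g
  have hπy : Commute y π := commute_aeval_self y g
  have hfy : Commute y (aeval y f) := commute_aeval_self y f
  have hfi : Commute i (aeval y f) := commute_aeval hcom f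
  have hπS : π ∈ S := aeval_mem S hyS g
  have hfS : aeval y f ∈ S := aeval_mem S hyS f
  have hp : (i * π) * (i * π) = i * π := by
    calc (i * π) * (i * π) = i * (π * i) * π := by noncomm_ring
      _ = i * (i * π) * π := by rw [hπi.eq]
      _ = (i * i) * (π * π) := by noncomm_ring
      _ = i * π := by rw [hi, h1]
  have hp1 : i * (i * π) = i * π := by rw [← mul_assoc, hi]
  have hp2 : (i * π) * i = i * π := by
    rw [mul_assoc, ← hπi.eq, ← mul_assoc, hi]
  rcases h.prim _ (S.mul_mem h.mem hπS) hp hp1 hp2 with h0 | h0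
  · -- `i π = 0`: a left inverse
    right
    have h4 : aeval y f * y = i := by
      have h5 : y * aeval y f = 1 - π := h3
      have h6 : i * (y * aeval y f) = i * (1 - π) := by rw [h5]
      rw [mul_sub, mul_one, h0, sub_zero, ← mul_assoc, hiy] at h6
      rw [← hfy.eq]
      exact h6
    refine ⟨i * aeval y f * i, S.mul_mem (S.mul_mem h.mem hfS) h.mem, ?_, ?_⟩
    · rw [corner_left hi, corner_right hi]
    · show i * aeval y f * i * y = i
      rw [mul_assoc, hiy, mul_assoc, h4, hi]
  · -- `i π = i`: nilpotent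
    left
    refine ⟨N, ?_⟩
    have h5 : y = π * y := by
      calc y = y * i := hyi.symm
        _ = y * (i * π) := by rw [h0]
        _ = (y * i) * π := (mul_assoc y i π).symm
        _ = y * π := by rw [hyi]
        _ = π * y := hπy.eq
    have h6 : y ^ (N + 1) = (y ^ N * π) * y := by
      rw [pow_succ, mul_assoc, ← h5]
    show L.φ (y ^ (N + 1)) = 0
    rw [h6, map_mul, h2, zero_mul]

omit [IsLocalRing R] [Algebra R A] in
/-- A left invertible element is not nilpotent. -/
theorem left_nil {C : Type*} [Ring C] {ι η ω : C} {N : ℕ} (h1 : ω * η = ι) (h2 : ι * η = η)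
    (h3 : η ^ (N + 1) = 0) : ι = 0 := by
  have h4 : ∀ n : ℕ, ω ^ (n + 1) * η ^ (n + 1) = ι := by
    intro n
    induction n with
    | zero => simpa using h1
    | succ n ih =>
      have h5 : ι * η ^ (n + 1) = η ^ (n + 1) := by
        rw [pow_succ', ← mul_assoc, h2]
      calc ω ^ (n + 1 + 1) * η ^ (n + 1 + 1) = ω ^ (n + 1) * (ω * η) * η ^ (n + 1) := by
            rw [pow_succ ω, pow_succ' η]
            noncomm_ring
        _ = ω ^ (n + 1) * (ι * η ^ (n + 1)) := by rw [h1, mul_assoc]
        _ = ι := by rw [h5, ih]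
  rw [← h4 N, h3, mul_zero]

theorem not_nil_of_phi_linv (h : L.φ i ≠ 0) (hi : i * i = i) {ω : B}
    (hw : ω * L.φ (i * x * i) = L.φ i) : ¬ L.Nil i x := by
  rintro ⟨N, hN⟩
  rw [map_pow] at hN
  exact h (left_nil hw (by rw [← map_mul, corner_left hi]) hN)

theorem PrimIn.not_nil_and_linv (h : PrimIn S i) (h1 : L.Nil i x) (h2 : LInv S i x) : False := by
  obtain ⟨w, -, -, hw⟩ := h2
  exact not_nil_of_phi_linv h.phi_ne h.idem (ω := L.φ w) (by rw [← map_mul, hw]) h1

theorem PrimIn.not_nil_self (h : PrimIn S i) : ¬ L.Nil i i := by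
  rintro ⟨N, hN⟩
  have hi := h.idem
  have h1 : i * i * i = i := by rw [hi, hi]
  have h2 : ∀ n : ℕ, i ^ (n + 1) = i := by
    intro n
    induction n with
    | zero => simp
    | succ n ih => rw [pow_succ, ih, hi]
  rw [h1, h2] at hN
  exact h.phi_ne hN

theorem nil_of_phi_eq_zero {x : A} (h : L.φ x = 0) : L.Nil i x :=
  ⟨0, by rw [pow_one, map_mul, map_mul, h, mul_zero, zero_mul]⟩

/-- Elements of a corner of a primitive idempotent which are not units form an ideal. -/
theorem nil_add (h : PrimIn S i) (hx : x ∈ S) (hy : y ∈ S) (h1 : L.Nil i x) (h2 : L.Nil i y) :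
    L.Nil i (x + y) := by
  rcases nil_or_linv L (x := x + y) h (S.add_mem hx hy) with h3 | ⟨w, hwS, hw1, hw2⟩
  · exact h3
  exfalso
  have hi := h.idem
  set X := i * x * i with hX
  set Y := i * y * i with hY
  have hXS : X ∈ S := S.mul_mem (S.mul_mem h.mem hx) h.mem
  have hYS : Y ∈ S := S.mul_mem (S.mul_mem h.mem hy) h.mem
  have hsum : w * X + w * Y = i := by
    rw [← mul_add, hX, hY, ← add_mul, ← mul_add, hw2]
  have hiw : i * w = w := by rw [← hw1, corner_left hi]
  have hwi : w * i = w := by rw [← hw1, corner_right hi]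
  have hiX : i * X = X := corner_left hi
  have hXi : X * i = X := corner_right hi
  set a := w * X with ha
  have haS : a ∈ S := S.mul_mem hwS hXS
  have hia : i * a = a := by rw [ha, ← mul_assoc, hiw]
  have hai : a * i = a := by rw [ha, mul_assoc, hXi]
  have hiai : i * a * i = a := by rw [hia, hai]
  rcases nil_or_linv L (x := a) h haS with ⟨N, hN⟩ | ⟨w', hw'S, -, hw'⟩
  · -- `a` nilpotent: then `w Y` is left invertible modulo `φ`
    rw [hiai, map_pow] at hN
    set α := L.φ a with hα
    set ι := L.φ i with hι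
    have hια : ι * α = α := by rw [hα, hι, ← map_mul, hia]
    have hαι : α * ι = α := by rw [hα, hι, ← map_mul, hai]
    have hιι : ι * ι = ι := by rw [hι, ← map_mul, hi]
    have hgeo : (∑ k ∈ Finset.range (N + 1), α ^ k) * (1 - α) = 1 := by
      rw [geom_sum_mul_neg, hN, sub_zero]
    have h3 : (ι * ∑ k ∈ Finset.range (N + 1), α ^ k) * (ι - α) = ι := by
      have h4 : ι - α = (1 - α) * ι := by rw [sub_mul, one_mul, hαι]
      rw [h4, mul_assoc, ← mul_assoc _ (1 - α), hgeo, one_mul, hιι]
    have h5 : ι - α = L.φ w * L.φ Y := by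
      have h6 := congrArg L.φ hsum
      rw [map_add, map_mul L.φ w Y] at h6
      rw [hι, ← h6, hα]
      abel
    rw [h5, ← mul_assoc] at h3
    exact not_nil_of_phi_linv h.phi_ne hi h3 h2
  · -- `a` left invertible: then `X` is left invertible
    rw [hiai, ha, ← mul_assoc] at hw'
    exact not_nil_of_phi_linv h.phi_ne hi (ω := L.φ (w' * w)) (by rw [← map_mul, hw']) h1

theorem nil_sum {κ : Type*} (h : PrimIn S i) (s : Finset κ) (f : κ → A) (hf : ∀ j ∈ s, f j ∈ S)
    (hn : ∀ j ∈ s, L.Nil i (f j)) : L.Nil i (∑ j ∈ s, f j) := by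
  classical
  induction s using Finset.induction_on with
  | empty => simpa using nil_of_phi_eq_zero (L := L) (i := i) (x := 0) (map_zero _)
  | insert a s ha ih =>
    rw [Finset.sum_insert ha]
    exact nil_add h (hf a (Finset.mem_insert_self _ _))
      (S.sum_mem fun j hj => hf j (Finset.mem_insert_of_mem hj))
      (hn a (Finset.mem_insert_self _ _))
      (ih (fun j hj => hf j (Finset.mem_insert_of_mem hj))
        (fun j hj => hn j (Finset.mem_insert_of_mem hj)))

variable (L) in
/-- If a finite sum is congruent to `i` in the corner, some term has a left inverse. -/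
theorem exists_linv_of_sum {κ : Type*} (h : PrimIn S i) (s : Finset κ) (f : κ → A)
    (hf : ∀ j ∈ s, f j ∈ S) (hsum : L.φ (i * (∑ j ∈ s, f j) * i) = L.φ i) :
    ∃ j ∈ s, LInv S i (f j) := by
  by_contra hne
  push Not at hne
  have hn : ∀ j ∈ s, L.Nil i (f j) := by
    intro j hj
    rcases nil_or_linv L h (hf j hj) with h1 | h1
    · exact h1
    · exact absurd h1 (hne j hj)
  have h2 := nil_sum h s f hf hn
  exact not_nil_of_phi_linv h.phi_ne h.idem (ω := 1) (by rw [one_mul, hsum]) h2

/-- Maps multiplicative on a subalgebra and compatible with reduction. -/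
structure HomOn {C : Type*} [Ring C] (L : LocSys R A B) (S : Subalgebra R A) (ψ : A →+ C) : Prop where
  mul : ∀ a ∈ S, ∀ b ∈ S, ψ (a * b) = ψ a * ψ b
  one : ψ 1 = 1
  ker : ∀ a ∈ S, L.φ a = 0 → ψ a = 0

section HomOn

variable {C : Type*} [Ring C] {ψ : A →+ C}

theorem HomOn.pow (hψ : HomOn L S ψ) {a : A} (ha : a ∈ S) (n : ℕ) : ψ (a ^ n) = ψ a ^ n := by
  induction n with
  | zero => rw [pow_zero, pow_zero, hψ.one]
  | succ n ih => rw [pow_succ, pow_succ, hψ.mul _ (S.pow_mem ha n) _ ha, ih]

/-- Lifting of idempotents of the image. -/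
theorem exists_lift (hψ : HomOn L S ψ) {x : A} (hx : x ∈ S) (he : ψ x * ψ x = ψ x) :
    ∃ g : R[X], aeval x g * aeval x g = aeval x g ∧ ψ (aeval x g) = ψ x := by
  obtain ⟨g, f, N, h1, h2, h3⟩ := L.fit_one x 1
  rw [map_one] at h2 h3
  refine ⟨g, h1, ?_⟩
  set π := aeval x g with hπ
  have hπS : π ∈ S := aeval_mem S hx g
  have hfS : aeval x f ∈ S := aeval_mem S hx f
  have hsub : x - 1 ∈ S := S.sub_mem hx S.one_mem
  have hs : ψ (x - 1) = ψ x - 1 := by rw [map_sub, hψ.one]
  have h4 : (ψ x - 1) ^ N * ψ π = 0 := by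
    rw [← hs, ← hψ.pow hsub, ← hψ.mul _ (S.pow_mem hsub N) _ hπS]
    exact hψ.ker _ (S.mul_mem (S.pow_mem hsub N) hπS) h2
  set e := ψ x with hev
  have h5 : ∀ n : ℕ, (e - 1) ^ (n + 1) = (-1) ^ n * (e - 1) := by
    intro n
    induction n with
    | zero => simp
    | succ n ih =>
      rw [pow_succ, ih, pow_succ, mul_assoc, mul_assoc]
      congr 1
      have : (e - 1) * (e - 1) = -1 * (e - 1) := by
        calc (e - 1) * (e - 1) = e * e - e - e + 1 := by noncomm_ring
          _ = -1 * (e - 1) := by
            rw [he, neg_mul, one_mul]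
            abel
      rw [this]
  have h6 : (e - 1) * ψ π = 0 := by
    have h7 : (e - 1) ^ (N + 1) * ψ π = 0 := by
      rw [pow_succ', mul_assoc, h4, mul_zero]
    rw [h5, mul_assoc] at h7
    have h8 : ((-1 : C) ^ N) * ((-1 : C) ^ N) = 1 := by
      rw [← pow_add, Even.neg_one_pow ⟨N, rfl⟩]
    calc (e - 1) * ψ π = ((-1 : C) ^ N * (-1 : C) ^ N) * ((e - 1) * ψ π) := by rw [h8, one_mul]
      _ = (-1 : C) ^ N * ((-1 : C) ^ N * ((e - 1) * ψ π)) := by rw [mul_assoc]
      _ = 0 := by rw [h7, mul_zero]
  have h9 : (e - 1) * ψ (aeval x f) = 1 - ψ π := by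
    rw [← hs, ← hψ.mul _ hsub _ hfS, h3, map_sub, hψ.one]
  have h10 : e * (1 - ψ π) = 0 := by
    rw [← h9, ← mul_assoc]
    have : e * (e - 1) = 0 := by
      rw [mul_sub, he, mul_one, sub_self]
    rw [this, zero_mul]
  have h11 : ψ π = e * ψ π := by
    have := h6
    rw [sub_mul, one_mul, sub_eq_zero] at this
    exact this.symm
  rw [mul_sub, mul_one, sub_eq_zero] at h10
  rw [h11, ← h10]

/-- Lifting in a corner. -/
theorem exists_lift_corner (hψ : HomOn L S ψ) {a x : A} (ha : a ∈ S) (haa : a * a = a) (hx : x ∈ S)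
    (hax : a * x = x) (hxa : x * a = x) (he : ψ x * ψ x = ψ x) :
    ∃ p ∈ S, p * p = p ∧ a * p = p ∧ p * a = p ∧ ψ p = ψ x := by
  obtain ⟨g, h1, h2⟩ := exists_lift hψ hx he
  set π := aeval x g with hπ
  have hπS : π ∈ S := aeval_mem S hx g
  have hcom : Commute a x := by
    show a * x = x * a
    rw [hax, hxa]
  have haπ : Commute a π := commute_aeval hcom g
  refine ⟨a * π, S.mul_mem ha hπS, ?_, ?_, ?_, ?_⟩
  · calc a * π * (a * π) = a * (π * a) * π := by noncomm_ring
      _ = a * (a * π) * π := by rw [haπ.eq]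
      _ = (a * a) * (π * π) := by noncomm_ring
      _ = a * π := by rw [haa, h1]
  · rw [← mul_assoc, haa]
  · rw [mul_assoc, ← haπ.eq, ← mul_assoc, haa]
  · rw [hψ.mul _ ha _ hπS, h2, ← hψ.mul _ ha _ hx, hax]

end HomOn

variable (L) in
include L in
/-- Induction on idempotents. -/
theorem idem_induction {P : A → Prop} (h0 : P 0)
    (hadd : ∀ a b, a ∈ S → b ∈ S → a * a = a → b * b = b → a * b = 0 → b * a = 0 → P a → P b → P (a + b))
    (hprim : ∀ i, PrimIn S i → P i) : ∀ a ∈ S, a * a = a → P a := by
  have key : ∀ n : ℕ, ∀ a ∈ S, a * a = a → L.rk a = n → P a := by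
    intro n
    induction n using Nat.strong_induction_on with
    | _ n ih =>
      intro a ha haa hn
      by_cases ha0 : a = 0
      · rw [ha0]; exact h0
      by_cases hp : PrimIn S a
      · exact hprim a hp
      -- a proper sub-idempotent
      have : ∃ p ∈ S, p * p = p ∧ a * p = p ∧ p * a = p ∧ p ≠ 0 ∧ p ≠ a := by
        by_contra hne
        push Not at hne
        apply hp
        refine ⟨ha, haa, ha0, ?_⟩
        intro p hpS hpp h1 h2
        by_cases h3 : p = 0
        · exact Or.inl h3
        · exact Or.inr (hne p hpS hpp h1 h2 h3)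
      obtain ⟨p, hpS, hpp, h1, h2, h3, h4⟩ := this
      set b := a - p with hb
      have hbS : b ∈ S := S.sub_mem ha hpS
      have hbb : b * b = b := by
        rw [hb, mul_sub, sub_mul, sub_mul, haa, h1, h2, hpp]
        abel
      have hpb : p * b = 0 := by rw [hb, mul_sub, h2, hpp, sub_self]
      have hbp : b * p = 0 := by rw [hb, sub_mul, h1, hpp, sub_self]
      have hb0 : b ≠ 0 := fun h => h4 (sub_eq_zero.1 h).symm
      have hsum : p + b = a := by rw [hb]; abel
      have hsum' : b + p = a := by rw [hb]; abel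
      have r1 := L.rk_lt p b hpp hbb hpb hbp hb0
      have r2 := L.rk_lt b p hbb hpp hbp hpb h3
      rw [hsum, hn] at r1
      rw [hsum', hn] at r2
      rw [← hsum]
      exact hadd p b hpS hbS hpp hbb hpb hbp (ih _ r1 p hpS hpp rfl) (ih _ r2 b hbS hbb rfl)
  intro a ha haa
  exact key _ a ha haa rfl

variable (L) in
include L in
/-- A decomposition into primitive idempotents. -/
theorem exists_prim_decomp {a : A} (ha : a ∈ S) (haa : a * a = a) :
    ∃ (κ : Type) (_ : Fintype κ) (e : κ → A), (∀ j, PrimIn S (e j)) ∧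
      (∀ j k, j ≠ k → e j * e k = 0) ∧ ∑ j, e j = a := by
  classical
  refine idem_induction L (S := S) (P := fun a => ∃ (κ : Type) (_ : Fintype κ) (e : κ → A),
    (∀ j, PrimIn S (e j)) ∧ (∀ j k, j ≠ k → e j * e k = 0) ∧ ∑ j, e j = a) ?_ ?_ ?_ a ha haa
  · exact ⟨Empty, inferInstance, fun _ => 0, fun j => j.elim, fun j => j.elim, by simp⟩
  · rintro a b ha hb haa hbb hab hba ⟨κ, _, e, he1, he2, he3⟩ ⟨κ', _, e', he1', he2', he3'⟩
    have h1 : ∀ j, e j * a = e j := by
      intro j
      rw [← he3, Finset.mul_sum, Finset.sum_eq_single j]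
      · exact (he1 j).idem
      · intro k _ hk
        exact he2 j k hk.symm
      · simp
    have h2 : ∀ j, b * e' j = e' j := by
      intro j
      rw [← he3', Finset.sum_mul, Finset.sum_eq_single j]
      · exact (he1' j).idem
      · intro k _ hk
        exact he2' k j hk
      · simp
    have h3 : ∀ j, a * e j = e j := by
      intro j
      rw [← he3, Finset.sum_mul, Finset.sum_eq_single j]
      · exact (he1 j).idem
      · intro k _ hk
        exact he2 k j hk
      · simp
    have h4 : ∀ j, e' j * b = e' j := by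
      intro j
      rw [← he3', Finset.mul_sum, Finset.sum_eq_single j]
      · exact (he1' j).idem
      · intro k _ hk
        exact he2' j k hk.symm
      · simp
    refine ⟨κ ⊕ κ', inferInstance, Sum.elim e e', ?_, ?_, ?_⟩
    · rintro (j | j)
      · exact he1 j
      · exact he1' j
    · rintro (j | j) (k | k) hne
      · exact he2 j k (fun h => hne (by rw [h]))
      · show e j * e' k = 0
        rw [← h1 j, ← h2 k, mul_assoc, ← mul_assoc a, hab, zero_mul, mul_zero]
      · show e' j * e k = 0
        rw [← h4 j, ← h3 k, mul_assoc, ← mul_assoc b, hba, zero_mul, mul_zero]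
      · exact he2' j k (fun h => hne (by rw [h]))
    · rw [Fintype.sum_sum_type]
      simp only [Sum.elim_inl, Sum.elim_inr]
      rw [he3, he3']
  · intro i hi
    exact ⟨Unit, inferInstance, fun _ => i, fun _ => hi, fun j k h => absurd rfl h, by simp⟩

end Prim

end LocSys

end Cfsg.Agent.Lib.StarFit
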