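import Mathlib
import Cfsg.Agent.Lib.StarFit

/-!
# An Artin–Schreier argument for traces from a normal subgroup of index `p`

`σ` is an automorphism of order dividing `p` (conjugation by `t`) of a subalgebra `S`, and
`a = ∑ σ^k w` an idempotent fixed by `σ`.  Then there is an idempotent `j ≤ a` in `S` whose
conjugates under `σ` are orthogonal with sum `a`, modulo the maximal ideal.
-/

set_option autoImplicit false
set_option linter.unusedSectionVars false
set_option linter.unusedVariables false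
set_option linter.style.haveILetI false

namespace Cfsg.Agent.Lib.StarFit

open Polynomial IsLocalRing

universe u v w

namespace LocSys

variable {R : Type u} {A : Type v} {B : Type w} [CommRing R] [IsLocalRing R] [Ring A]
  [Algebra R A] [Ring B] (L : LocSys R A B)

omit [IsLocalRing R] [Algebra R A] in
theorem conj_step {t t' : A} (x : A) (k : ℕ) :
    t * (t ^ k * x * t' ^ k) * t' = t ^ (k + 1) * x * t' ^ (k + 1) := by
  rw [pow_succ' t, pow_succ t']
  noncomm_ring

/-- The translation of eigenvalues. -/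
theorem shift_core {τ τ' Y ι α c : B} (h1 : τ * τ' = 1) (h2 : τ' * τ = 1)
    (hY : τ * Y = (Y - ι) * τ) (hι : τ * ι = ι * τ) (hαY : Commute α Y) (hια : ι * α = α)
    (hαι : α * ι = α) (hcτ : Commute c τ) (hcτ' : Commute c τ') (hcα : Commute c α) {N : ℕ}
    (hN : (Y - c) ^ N * α = 0) :
    (Y - 1 - c) ^ N * (τ * α * τ') = 0 ∧ Commute (τ * α * τ') (Y - 1 - c) ∧
      ι * (τ * α * τ') = τ * α * τ' ∧ (τ * α * τ') * ι = τ * α * τ' := by
  generalize hb : τ * α * τ' = b
  have hι' : τ' * ι = ι * τ' := by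
    calc τ' * ι = τ' * ι * (τ * τ') := by rw [h1, mul_one]
      _ = τ' * (ι * τ) * τ' := by noncomm_ring
      _ = τ' * (τ * ι) * τ' := by rw [hι]
      _ = (τ' * τ) * ι * τ' := by noncomm_ring
      _ = ι * τ' := by rw [h2, one_mul]
  have hYτ : Y * τ = τ * (Y + ι) := by
    rw [mul_add, hY, hι]
    noncomm_ring
  have hτ'Y : τ' * Y = (Y + ι) * τ' := by
    calc τ' * Y = τ' * Y * (τ * τ') := by rw [h1, mul_one]
      _ = τ' * (Y * τ) * τ' := by noncomm_ring
      _ = τ' * (τ * (Y + ι)) * τ' := by rw [hYτ]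
      _ = (τ' * τ) * (Y + ι) * τ' := by noncomm_ring
      _ = (Y + ι) * τ' := by rw [h2, one_mul]
  have hιb : ι * b = b := by
    rw [← hb]
    calc ι * (τ * α * τ') = (ι * τ) * α * τ' := by noncomm_ring
      _ = τ * (ι * α) * τ' := by rw [← hι]; noncomm_ring
      _ = τ * α * τ' := by rw [hια]
  have hbι : b * ι = b := by
    rw [← hb]
    calc τ * α * τ' * ι = τ * α * (τ' * ι) := by noncomm_ring
      _ = τ * (α * ι) * τ' := by rw [hι']; noncomm_ring
      _ = τ * α * τ' := by rw [hαι]
  have hbY : Commute b Y := by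
    show b * Y = Y * b
    rw [← hb]
    calc τ * α * τ' * Y = τ * α * (τ' * Y) := by noncomm_ring
      _ = τ * (α * (Y + ι)) * τ' := by rw [hτ'Y]; noncomm_ring
      _ = τ * (α * Y + α) * τ' := by rw [mul_add, hαι]
      _ = τ * (Y * α + ι * α) * τ' := by rw [hαY.eq, hια]
      _ = (Y * τ) * α * τ' := by rw [hYτ]; noncomm_ring
      _ = Y * (τ * α * τ') := by noncomm_ring
  have hbc : Commute b c := by
    have h3 : Commute c (τ * α * τ') := (hcτ.mul_right hcα).mul_right hcτ'
    rw [hb] at h3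
    exact h3.symm
  have hbz : Commute b (Y - 1 - c) := ((hbY.sub_right (Commute.one_right b))).sub_right hbc
  refine ⟨?_, hbz, hιb, hbι⟩
  -- from `Y - c` to `Y - ι - c`
  have hz : SemiconjBy τ (Y - c) (Y - ι - c) := by
    show τ * (Y - c) = (Y - ι - c) * τ
    rw [mul_sub, hY, sub_mul (Y - ι), hcτ.eq]
  have hz2 : (Y - ι - c) ^ N * τ = τ * (Y - c) ^ N := ((hz.pow_right N).eq).symm
  have h3 : (Y - ι - c) ^ N * b = 0 := by
    rw [← hb]
    calc (Y - ι - c) ^ N * (τ * α * τ') = ((Y - ι - c) ^ N * τ) * α * τ' := by noncomm_ring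
      _ = τ * ((Y - c) ^ N * α) * τ' := by rw [hz2]; noncomm_ring
      _ = 0 := by rw [hN, mul_zero, zero_mul]
  have h4 : (Y - ι - c) * b = (Y - 1 - c) * b := by
    rw [sub_mul, sub_mul, sub_mul, sub_mul, hιb, one_mul]
  have h5 : ∀ n : ℕ, (Y - ι - c) ^ n * b = (Y - 1 - c) ^ n * b := by
    intro n
    induction n with
    | zero => simp
    | succ n ih =>
      calc (Y - ι - c) ^ (n + 1) * b = (Y - ι - c) ^ n * ((Y - ι - c) * b) := by
            rw [pow_succ, mul_assoc]
        _ = (Y - ι - c) ^ n * (b * (Y - 1 - c)) := by rw [h4, hbz.eq]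
        _ = ((Y - ι - c) ^ n * b) * (Y - 1 - c) := by rw [mul_assoc]
        _ = (Y - 1 - c) ^ n * (b * (Y - 1 - c)) := by rw [ih, mul_assoc]
        _ = (Y - 1 - c) ^ (n + 1) * b := by rw [hbz.eq, pow_succ, mul_assoc]
  rw [← h5, h3]

/-- Killing by an eigenvalue gap. -/
theorem gap_core {z H ϖ b : B} {N : ℕ} (hzH : Commute z H) (h1 : z * H = ϖ) (hϖ : ϖ * ϖ = ϖ)
    (hb : z ^ N * b = 0) (hbz : Commute b z) : b * ϖ = 0 := by
  have h2 : ∀ n : ℕ, ϖ ^ (n + 1) = ϖ := by
    intro n
    induction n with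
    | zero => simp
    | succ n ih => rw [pow_succ, ih, hϖ]
  have h3 : ϖ ^ (N + 1) = z ^ (N + 1) * H ^ (N + 1) := by
    rw [← h1, hzH.mul_pow]
  have h4 : (hbz.pow_right N).eq = (hbz.pow_right N).eq := rfl
  calc b * ϖ = b * ϖ ^ (N + 1) := by rw [h2]
    _ = b * (z ^ N * z * H ^ (N + 1)) := by rw [h3, pow_succ z]
    _ = (b * z ^ N) * (z * H ^ (N + 1)) := by noncomm_ring
    _ = (z ^ N * b) * (z * H ^ (N + 1)) := by rw [(hbz.pow_right N).eq]
    _ = 0 := by rw [hb, zero_mul]

variable {S : Subalgebra R A}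

/-- The main splitting, in terms of a chosen family. -/
theorem exists_as (p : ℕ) [hp : Fact p.Prime] (hpm : (p : R) ∈ maximalIdeal R)
    {t t' a w : A} (htt : t * t' = 1) (htt' : t' * t = 1)
    (hσS : ∀ x ∈ S, t * x * t' ∈ S) (hσp : ∀ x ∈ S, t ^ p * x * t' ^ p = x)
    (ha : a ∈ S) (haa : a * a = a) (hσa : t * a * t' = a)
    (hw : w ∈ S) (haw : a * w = w) (hwa : w * a = w)
    (hTr : ∑ k ∈ Finset.range p, t ^ k * w * t' ^ k = a) :
    ∃ j ∈ S, j * j = j ∧ a * j = j ∧ j * a = j ∧
      (∀ k < p, ∀ l < p, k ≠ l → L.φ ((t ^ k * j * t' ^ k) * (t ^ l * j * t' ^ l)) = 0) ∧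
      L.φ (∑ k ∈ Finset.range p, t ^ k * j * t' ^ k) = L.φ a := by
  classical
  have hpp : p.Prime := hp.out
  -- conjugates
  set W : ℕ → A := fun k => t ^ k * w * t' ^ k with hW
  have hWS : ∀ k, W k ∈ S := by
    intro k
    induction k with
    | zero => simpa [hW] using hw
    | succ k ih =>
      have := hσS _ ih
      rwa [hW, conj_step] at this
  have hWstep : ∀ k, t * W k * t' = W (k + 1) := fun k => conj_step w k
  have hWp : W p = w := hσp w hw
  have hat : a * t = t * a := by
    calc a * t = t * a * t' * t := by rw [hσa]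
      _ = t * a * (t' * t) := by noncomm_ring
      _ = t * a := by rw [htt', mul_one]
  have hat' : a * t' = t' * a := by
    calc a * t' = (t' * t) * a * t' := by rw [htt', one_mul]
      _ = t' * (t * a * t') := by noncomm_ring
      _ = t' * a := by rw [hσa]
  have hatk : ∀ k, a * t ^ k = t ^ k * a := fun k => ((Commute.pow_right hat k)).eq
  have hatk' : ∀ k, a * t' ^ k = t' ^ k * a := fun k => ((Commute.pow_right hat' k)).eq
  have haW : ∀ k, a * W k = W k := by
    intro k
    simp only [hW]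
    rw [← mul_assoc, ← mul_assoc, hatk, mul_assoc (t ^ k), haw]
  have hWa : ∀ k, W k * a = W k := by
    intro k
    simp only [hW]
    rw [mul_assoc, ← hatk', ← mul_assoc, mul_assoc (t ^ k), hwa]
  -- the element `y`
  set y : A := ∑ k ∈ Finset.range p, k • W k with hy
  have hyS : y ∈ S := S.sum_mem fun k _ => S.nsmul_mem (hWS k) k
  have hay : a * y = y := by
    rw [hy, Finset.mul_sum]
    refine Finset.sum_congr rfl fun k _ => ?_
    rw [mul_smul_comm, haW]
  have hya : y * a = y := by
    rw [hy, Finset.sum_mul]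
    refine Finset.sum_congr rfl fun k _ => ?_
    rw [smul_mul_assoc, hWa]
  have hcomay : Commute a y := by
    show a * y = y * a
    rw [hay, hya]
  -- `t y t' = y + p w - a`
  have hsh : t * y * t' = y + p • w - a := by
    have h1 : t * y * t' = ∑ k ∈ Finset.range p, k • W (k + 1) := by
      rw [hy, Finset.mul_sum, Finset.sum_mul]
      refine Finset.sum_congr rfl fun k _ => ?_
      rw [mul_smul_comm, smul_mul_assoc, hWstep]
    have h2 : ∑ k ∈ Finset.range p, W (k + 1) = a := by
      rw [← hσa]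
      conv_rhs => rw [← hTr]
      rw [Finset.mul_sum, Finset.sum_mul]
      exact Finset.sum_congr rfl fun k _ => (hWstep k).symm
    have h3 : ∑ k ∈ Finset.range p, (k + 1) • W (k + 1) = y + p • w := by
      have h4 := Finset.sum_range_succ' (fun k => k • W k) p
      have h5 := Finset.sum_range_succ (fun k => k • W k) p
      rw [h5] at h4
      simp only [zero_smul, add_zero] at h4
      rw [hWp] at h4
      exact h4.symm
    have h6 : ∑ k ∈ Finset.range p, (k + 1) • W (k + 1) =
        ∑ k ∈ Finset.range p, k • W (k + 1) + ∑ k ∈ Finset.range p, W (k + 1) := by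
      rw [← Finset.sum_add_distrib]
      refine Finset.sum_congr rfl fun k _ => ?_
      rw [add_smul, one_smul]
    rw [h1, ← h3, h6, h2, add_sub_cancel_right]
  set ι := L.φ a with hι
  set Y := L.φ y with hY
  set τ := L.φ t with hτ
  set τ' := L.φ t' with hτ'
  have h11 : τ * τ' = 1 := by rw [hτ, hτ', ← map_mul, htt, map_one]
  have h12 : τ' * τ = 1 := by rw [hτ, hτ', ← map_mul, htt', map_one]
  have hpφ : L.φ (p • w) = 0 := by
    rw [nsmul_eq_mul, map_mul]
    have : L.φ ((p : ℕ) : A) = 0 := by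
      have h3 := L.map_m _ hpm
      rwa [map_natCast] at h3
    rw [this, zero_mul]
  have hτY : τ * Y = (Y - ι) * τ := by
    have h3 : L.φ (t * y * t') = Y - ι := by
      rw [hsh, map_sub, map_add, hpφ, add_zero]
    calc τ * Y = τ * Y * (τ' * τ) := by rw [h12, mul_one]
      _ = (τ * Y * τ') * τ := by noncomm_ring
      _ = (Y - ι) * τ := by rw [← h3, map_mul, map_mul]
  have hτι : τ * ι = ι * τ := by
    rw [hτ, hι, ← map_mul, ← map_mul, hat]
  -- the roots
  obtain ⟨n, r, hr⟩ := L.roots y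
  let r₀ : Option (Fin n) → R := fun o => o.elim 0 r
  let r' : Option (Fin n) × Fin p → R := fun x => r₀ x.1 + ((x.2 : ℕ) : R)
  have hr' : aeval y (∏ x ∈ (Finset.univ : Finset (Option (Fin n) × Fin p)), (X - C (r' x))) = 0 := by
    let z0 : Fin p := ⟨0, hpp.pos⟩
    have hinj : Function.Injective (fun j : Fin n => ((some j, z0) : Option (Fin n) × Fin p)) := by
      intro a b hab
      simpa using congrArg Prod.fst hab
    have hval : ∀ j : Fin n, r' (some j, z0) = r j := by
      intro j
      simp [r', r₀, z0]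
    have h3 : (∏ j : Fin n, (X - C (r j))) ∣
        ∏ x ∈ (Finset.univ : Finset (Option (Fin n) × Fin p)), (X - C (r' x)) := by
      have h4 := Finset.prod_dvd_prod_of_subset
        (Finset.univ.image (fun j : Fin n => ((some j, z0) : Option (Fin n) × Fin p)))
        Finset.univ (fun x => (X - C (r' x) : R[X])) (Finset.subset_univ _)
      rw [Finset.prod_image (fun a _ b _ h => hinj h)] at h4
      simpa only [hval] using h4
    obtain ⟨Q, hQ⟩ := h3
    rw [hQ, map_mul, hr, zero_mul]
  obtain ⟨P, hP1, hP2, hP3, hP4⟩ := L.fit_all Finset.univ ⟨(none, ⟨0, hpp.pos⟩), Finset.mem_univ _⟩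
    r' y hr'
  set T := (Finset.univ : Finset (Option (Fin n) × Fin p)).image (fun x => residue R (r' x)) with hT
  set N := (Finset.univ : Finset (Option (Fin n) × Fin p)).card with hN
  set π : ResidueField R → A := fun μ => aeval y (P μ) with hπ
  have hp0 : ((p : ℕ) : ResidueField R) = 0 := by
    rw [← map_natCast (residue R)]
    exact (residue_eq_zero_iff _).2 hpm
  have hT1 : ∀ μ ∈ T, μ + 1 ∈ T := by
    intro μ hμ
    obtain ⟨⟨o, k⟩, -, rfl⟩ := Finset.mem_image.1 hμ
    by_cases hk : (k : ℕ) + 1 < p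
    · refine Finset.mem_image.2 ⟨(o, ⟨k + 1, hk⟩), Finset.mem_univ _, ?_⟩
      simp only [r', map_add, map_natCast, Nat.cast_add, Nat.cast_one, add_assoc, map_one]
    · have hk' : (k : ℕ) + 1 = p := by
        have := k.2
        omega
      refine Finset.mem_image.2 ⟨(o, ⟨0, hpp.pos⟩), Finset.mem_univ _, ?_⟩
      have h3 : ((k : ℕ) : ResidueField R) + 1 = 0 := by
        have h4 : (((k : ℕ) + 1 : ℕ) : ResidueField R) = 0 := by
          rw [hk', hp0]
        exact_mod_cast h4
      simp only [r', map_add, map_natCast, add_assoc, h3]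
      simp
  have hTk : ∀ μ ∈ T, ∀ k : ℕ, μ + (k : ResidueField R) ∈ T := by
    intro μ hμ k
    induction k with
    | zero => simpa using hμ
    | succ k ih =>
      have := hT1 _ ih
      rwa [add_assoc, ← Nat.cast_add_one] at this
  have hπid : ∀ μ ∈ T, π μ * π μ = π μ := by
    intro μ hμ
    have h5 : π μ * ∑ ν ∈ T, π ν = π μ := by
      have h6 : ∑ ν ∈ T, π ν = 1 := hP1
      rw [h6, mul_one]
    rw [Finset.mul_sum, Finset.sum_eq_single μ] at h5
    · exact h5
    · intro ν hν hne
      exact hP2 μ hμ ν hν hne.symm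
    · intro h
      exact absurd hμ h
  have hπa : ∀ μ, Commute a (π μ) := fun μ => commute_aeval hcomay (P μ)
  have hπy : ∀ μ, Commute y (π μ) := fun μ => commute_aeval_self y (P μ)
  -- the idempotents of the corner
  set a' : ResidueField R → A := fun μ => a * π μ with ha'
  have ha'id : ∀ μ ∈ T, a' μ * a' μ = a' μ := by
    intro μ hμ
    simp only [ha']
    calc a * π μ * (a * π μ) = a * (π μ * a) * π μ := by noncomm_ring
      _ = (a * a) * (π μ * π μ) := by rw [← (hπa μ).eq]; noncomm_ring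
      _ = a * π μ := by rw [haa, hπid μ hμ]
  have ha'orth : ∀ μ ∈ T, ∀ ν ∈ T, μ ≠ ν → a' μ * a' ν = 0 := by
    intro μ hμ ν hν hne
    simp only [ha']
    calc a * π μ * (a * π ν) = a * (π μ * a) * π ν := by noncomm_ring
      _ = a * a * (π μ * π ν) := by rw [← (hπa μ).eq]; noncomm_ring
      _ = 0 := by
        have h5 : π μ * π ν = 0 := hP2 μ hμ ν hν hne
        rw [h5, mul_zero]
  have ha'sum : ∑ μ ∈ T, a' μ = a := by
    simp only [ha']
    rw [← Finset.mul_sum]
    have h6 : ∑ ν ∈ T, π ν = 1 := hP1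
    rw [h6, mul_one]
  set α : ResidueField R → B := fun μ => L.φ (a' μ) with hα
  have hαid : ∀ μ ∈ T, α μ * α μ = α μ := by
    intro μ hμ
    simp only [hα]
    rw [← map_mul, ha'id μ hμ]
  have hαorth : ∀ μ ∈ T, ∀ ν ∈ T, μ ≠ ν → α μ * α ν = 0 := by
    intro μ hμ ν hν hne
    simp only [hα]
    rw [← map_mul, ha'orth μ hμ ν hν hne, map_zero]
  have hαsum : ∑ μ ∈ T, α μ = ι := by
    simp only [hα]
    rw [← map_sum, ha'sum]
  have hιϖ : ∀ μ, α μ = ι * L.φ (π μ) := by
    intro μ
    simp only [hα, ha']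
    rw [map_mul]
  have hια : ∀ μ, ι * α μ = α μ := by
    intro μ
    simp only [hα, ha']
    rw [hι, ← map_mul, ← mul_assoc, haa]
  have hαι : ∀ μ, α μ * ι = α μ := by
    intro μ
    simp only [hα, ha']
    rw [hι, ← map_mul, mul_assoc, ← (hπa μ).eq, ← mul_assoc, haa]
  have hαY : ∀ μ, Commute (α μ) Y := by
    intro μ
    have h5 : Commute (a' μ) y := by
      simp only [ha']
      exact (hcomay.mul_left (hπy μ).symm)
    exact h5.map L.φ
  have hscal : ∀ (c : R) (x : A), Commute (L.φ (algebraMap R A c)) (L.φ x) := by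
    intro c x
    exact (show Commute (algebraMap R A c) x from Algebra.commutes c x).map L.φ
  -- vanishing
  have hb0 : ∀ μ ∈ T, ∀ ν ∈ T, ν ≠ μ + 1 → (τ * α μ * τ') * α ν = 0 := by
    intro μ hμ ν hν hne
    obtain ⟨c, hc⟩ := residue_surjective μ
    have h1 := hP3 μ hμ c hc
    have hN' : (Y - L.φ (algebraMap R A c)) ^ N * α μ = 0 := by
      have h5 : α μ = L.φ (π μ) * ι := by
        simp only [hα, ha']
        rw [(hπa μ).eq, map_mul]
      rw [h5, ← mul_assoc]
      have h6 : (Y - L.φ (algebraMap R A c)) ^ N * L.φ (π μ) = 0 := by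
        rw [← h1, map_mul, map_pow, map_sub]
      rw [h6, zero_mul]
    obtain ⟨hz, hbz, hιb, hbι⟩ := shift_core h11 h12 hτY hτι (hαY μ) (hια μ) (hαι μ)
      (hscal c t) (hscal c t') (hscal c (a' μ)) hN'
    have hc1 : residue R (c + 1) ≠ ν := by
      rw [map_add, map_one, hc]
      exact fun h => hne h.symm
    obtain ⟨h, hh⟩ := hP4 ν hν (c + 1) hc1
    have hzval : L.φ (y - algebraMap R A (c + 1)) = Y - 1 - L.φ (algebraMap R A c) := by
      rw [map_sub, map_add, map_add, map_one, map_one]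
      abel
    have hϖ : L.φ (π ν) * L.φ (π ν) = L.φ (π ν) := by
      rw [← map_mul, hπid ν hν]
    have hcomm : Commute (Y - 1 - L.φ (algebraMap R A c)) (L.φ (aeval y (h * P ν))) := by
      rw [← hzval]
      have h5 : Commute (y - algebraMap R A (c + 1)) (aeval y (h * P ν)) := by
        refine (commute_aeval_self y _).sub_left ?_
        exact (Algebra.commutes (c + 1) _ : Commute (algebraMap R A (c + 1)) _)
      exact h5.map L.φ
    have h6 : (Y - 1 - L.φ (algebraMap R A c)) * L.φ (aeval y (h * P ν)) = L.φ (π ν) := by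
      rw [← hzval, ← map_mul, hh]
    have h7 := gap_core hcomm h6 hϖ hz hbz
    rw [hιϖ ν, ← mul_assoc, hbι, h7]
  have hsumb : ∑ μ ∈ T, τ * α μ * τ' = ι := by
    rw [← Finset.sum_mul, ← Finset.mul_sum, hαsum, hτι, mul_assoc, h11, mul_one]
  -- the shift
  have hshift : ∀ μ ∈ T, τ * α μ * τ' = α (μ + 1) := by
    intro ν hν
    have hν1 := hT1 ν hν
    have h1 : (τ * α ν * τ') * ι = τ * α ν * τ' := by
      have hι' : τ' * ι = ι * τ' := by
        calc τ' * ι = τ' * ι * (τ * τ') := by rw [h11, mul_one]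
          _ = τ' * (ι * τ) * τ' := by noncomm_ring
          _ = τ' * (τ * ι) * τ' := by rw [hτι]
          _ = (τ' * τ) * ι * τ' := by noncomm_ring
          _ = ι * τ' := by rw [h12, one_mul]
      calc τ * α ν * τ' * ι = τ * α ν * (τ' * ι) := by noncomm_ring
        _ = τ * (α ν * ι) * τ' := by rw [hι']; noncomm_ring
        _ = τ * α ν * τ' := by rw [hαι]
    have h2 : τ * α ν * τ' = (τ * α ν * τ') * α (ν + 1) := by
      conv_lhs => rw [← h1, ← hαsum, Finset.mul_sum]
      rw [Finset.sum_eq_single (ν + 1)]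
      · intro κ hκ hne
        exact hb0 ν hν κ hκ hne
      · intro h
        exact absurd hν1 h
    have h3 : α (ν + 1) = (τ * α ν * τ') * α (ν + 1) := by
      conv_lhs => rw [← hια (ν + 1), ← hsumb, Finset.sum_mul]
      rw [Finset.sum_eq_single ν]
      · intro κ hκ hne
        refine hb0 κ hκ (ν + 1) hν1 ?_
        intro h
        exact hne (add_right_cancel h).symm
      · intro h
        exact absurd hν h
    rw [h2, ← h3]
  have hiter : ∀ k : ℕ, ∀ μ ∈ T, τ ^ k * α μ * τ' ^ k = α (μ + (k : ResidueField R)) := by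
    intro k
    induction k with
    | zero =>
      intro μ _
      simp
    | succ k ih =>
      intro μ hμ
      have h1 := conj_step (t := τ) (t' := τ') (α μ) k
      rw [← h1, ih μ hμ, hshift _ (hTk μ hμ k), add_assoc, ← Nat.cast_add_one]
  -- a transversal
  let st : Setoid (ResidueField R) :=
    { r := fun μ ν => ∃ n : ℕ, ν = μ + (n : ResidueField R)
      iseqv := {
        refl := fun μ => ⟨0, by simp⟩
        symm := by
          rintro μ ν ⟨n, rfl⟩
          refine ⟨(p - 1) * n, ?_⟩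
          have h1 : ((n : ℕ) : ResidueField R) + (((p - 1) * n : ℕ) : ResidueField R) = 0 := by
            rw [← Nat.cast_add, show n + (p - 1) * n = p * n by
              have := hpp.one_le
              obtain ⟨q, rfl⟩ : ∃ q, p = q + 1 := ⟨p - 1, by omega⟩
              simp only [Nat.add_sub_cancel]
              ring]
            rw [Nat.cast_mul, hp0, zero_mul]
          rw [add_assoc, h1, add_zero]
        trans := by
          rintro μ ν κ ⟨n, rfl⟩ ⟨m, rfl⟩
          exact ⟨n + m, by rw [Nat.cast_add, add_assoc]⟩ } }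
  let rep : ResidueField R → ResidueField R := fun μ => (Quotient.mk st μ).out
  have hrep : ∀ μ, st.r (rep μ) μ := fun μ => Quotient.mk_out (s := st) μ
  have hrepEq : ∀ μ ν, st.r μ ν → rep μ = rep ν := by
    intro μ ν h
    show (Quotient.mk st μ).out = (Quotient.mk st ν).out
    rw [Quotient.sound (s := st) h]
  set T₀ := T.filter (fun μ => rep μ = μ) with hT₀
  haveI hchar : CharP (ResidueField R) p := by
    have h1 := CharP.ringChar_of_prime_eq_zero hpp hp0
    have h2 := ringChar.charP (ResidueField R)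
    rwa [h1] at h2
  have huniq : ∀ ν ∈ T₀, ∀ ν' ∈ T₀, ∀ k l : ℕ, k < p → l < p →
      ν + (k : ResidueField R) = ν' + (l : ResidueField R) → ν = ν' ∧ k = l := by
    intro ν hν ν' hν' k l hk hl h
    have h1 : st.r ν ν' := by
      refine ⟨k + (p - 1) * l, ?_⟩
      have h2 : ((l : ℕ) : ResidueField R) + (((p - 1) * l : ℕ) : ResidueField R) = 0 := by
        rw [← Nat.cast_add, show l + (p - 1) * l = p * l by
          have := hpp.one_le
          obtain ⟨q, rfl⟩ : ∃ q, p = q + 1 := ⟨p - 1, by omega⟩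
          simp only [Nat.add_sub_cancel]
          ring]
        rw [Nat.cast_mul, hp0, zero_mul]
      rw [Nat.cast_add, ← add_assoc, h, add_assoc, h2, add_zero]
    have h3 : ν = ν' := by
      have h4 := hrepEq ν ν' h1
      rw [(Finset.mem_filter.1 hν).2, (Finset.mem_filter.1 hν').2] at h4
      exact h4
    refine ⟨h3, ?_⟩
    rw [h3] at h
    have h5 := add_left_cancel h
    have h6 := (CharP.natCast_eq_natCast (ResidueField R) p).1 h5
    exact Nat.ModEq.eq_of_lt_of_lt h6 hk hl
  have hexist : ∀ μ ∈ T, ∃ ν ∈ T₀, ∃ k : ℕ, k < p ∧ μ = ν + (k : ResidueField R) := by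
    intro μ hμ
    obtain ⟨n, hn⟩ := hrep μ
    have hsym : st.r μ (rep μ) := st.symm (hrep μ)
    obtain ⟨n', hn'⟩ := hsym
    refine ⟨rep μ, Finset.mem_filter.2 ⟨by rw [hn']; exact hTk μ hμ n', ?_⟩, n % p,
      Nat.mod_lt _ hpp.pos, ?_⟩
    · exact (hrepEq _ _ (hrep μ))
    · refine hn.trans ?_
      congr 1
      conv_lhs => rw [← Nat.mod_add_div n p]
      rw [Nat.cast_add, Nat.cast_mul, hp0, zero_mul, add_zero]
  have hsumbij : ∀ f : ResidueField R → B,
      ∑ k ∈ Finset.range p, ∑ ν ∈ T₀, f (ν + (k : ResidueField R)) = ∑ μ ∈ T, f μ := by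
    intro f
    rw [← Finset.sum_product']
    refine Finset.sum_bij (fun x _ => x.2 + (x.1 : ResidueField R)) ?_ ?_ ?_ ?_
    · intro x hx
      rw [Finset.mem_product] at hx
      exact hTk _ (Finset.mem_filter.1 hx.2).1 _
    · intro x hx x' hx' h
      rw [Finset.mem_product] at hx hx'
      obtain ⟨h1, h2⟩ := huniq _ hx.2 _ hx'.2 _ _ (Finset.mem_range.1 hx.1) (Finset.mem_range.1 hx'.1) h
      exact Prod.ext h2 h1
    · intro μ hμ
      obtain ⟨ν, hν, k, hk, rfl⟩ := hexist μ hμ
      exact ⟨(k, ν), Finset.mem_product.2 ⟨Finset.mem_range.2 hk, hν⟩, rfl⟩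
    · intro x hx
      rfl
  -- the idempotent
  refine ⟨∑ ν ∈ T₀, a' ν, S.sum_mem fun ν _ => S.mul_mem ha (aeval_mem S hyS _), ?_, ?_, ?_, ?_, ?_⟩
  · rw [Finset.sum_mul]
    refine Finset.sum_congr rfl fun ν hν => ?_
    have hνT := (Finset.mem_filter.1 hν).1
    rw [Finset.mul_sum, Finset.sum_eq_single ν]
    · exact ha'id ν hνT
    · intro κ hκ hne
      exact ha'orth ν hνT κ (Finset.mem_filter.1 hκ).1 hne.symm
    · intro h
      exact absurd hν h
  · rw [Finset.mul_sum]
    refine Finset.sum_congr rfl fun ν _ => ?_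
    simp only [ha']
    rw [← mul_assoc, haa]
  · rw [Finset.sum_mul]
    refine Finset.sum_congr rfl fun ν _ => ?_
    simp only [ha']
    rw [mul_assoc, ← (hπa ν).eq, ← mul_assoc, haa]
  · intro k hk l hl hkl
    have hval : ∀ m : ℕ, L.φ (t ^ m * (∑ ν ∈ T₀, a' ν) * t' ^ m) =
        ∑ ν ∈ T₀, α (ν + (m : ResidueField R)) := by
      intro m
      rw [Finset.mul_sum, Finset.sum_mul, map_sum]
      refine Finset.sum_congr rfl fun ν hν => ?_
      rw [← hiter m ν (Finset.mem_filter.1 hν).1, map_mul, map_mul, map_pow, map_pow]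
    rw [map_mul, hval, hval, Finset.sum_mul]
    refine Finset.sum_eq_zero fun ν hν => ?_
    rw [Finset.mul_sum]
    refine Finset.sum_eq_zero fun ν' hν' => ?_
    refine hαorth _ (hTk _ (Finset.mem_filter.1 hν).1 _) _ (hTk _ (Finset.mem_filter.1 hν').1 _) ?_
    intro h
    exact hkl (huniq _ hν _ hν' _ _ hk hl h).2
  · rw [map_sum]
    have hval : ∀ m : ℕ, L.φ (t ^ m * (∑ ν ∈ T₀, a' ν) * t' ^ m) =
        ∑ ν ∈ T₀, α (ν + (m : ResidueField R)) := by
      intro m
      rw [Finset.mul_sum, Finset.sum_mul, map_sum]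
      refine Finset.sum_congr rfl fun ν hν => ?_
      rw [← hiter m ν (Finset.mem_filter.1 hν).1, map_mul, map_mul, map_pow, map_pow]
    simp only [hval]
    rw [hsumbij α, hαsum]

end LocSys

end Cfsg.Agent.Lib.StarFit
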