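import Mathlib
import Cfsg.Agent.Lib.StarAS
import Cfsg.Agent.Lib.BlockResidue
import Cfsg.Agent.Lib.CharAutP

/-!
# Group algebras over a local ring: the Brauer homomorphism and relative traces
-/

set_option autoImplicit false
set_option linter.unusedSectionVars false
set_option linter.unusedVariables false
set_option linter.style.haveILetI false

namespace Cfsg.Agent.Lib.StarGrp

open MonoidAlgebra Polynomial IsLocalRing Cfsg.Agent.Lib.StarFit Cfsg.Agent.Lib.BlockResidue

universe u v

variable {R : Type v} [CommRing R] [IsLocalRing R] {G : Type u} [Group G] [Fintype G]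

section Basic

variable (R) in
/-- The basis element. -/
noncomputable def ofG (g : G) : MonoidAlgebra R G := single g 1

omit [IsLocalRing R] [Fintype G] in
@[simp] theorem ofG_mul (g h : G) : (ofG R (g * h)) = ofG R g * ofG R h := by
  simp [ofG, single_mul_single]

omit [IsLocalRing R] [Fintype G] in
@[simp] theorem ofG_one : (ofG R (1 : G)) = 1 := rfl

omit [IsLocalRing R] [Fintype G] in
theorem ofG_mul_inv (g : G) : ofG R g * ofG R g⁻¹ = 1 := by
  rw [← ofG_mul, mul_inv_cancel, ofG_one]

omit [IsLocalRing R] [Fintype G] in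
theorem ofG_inv_mul (g : G) : ofG R g⁻¹ * ofG R g = 1 := by
  rw [← ofG_mul, inv_mul_cancel, ofG_one]

omit [IsLocalRing R] in
theorem coeff_conj (e : G) (x : MonoidAlgebra R G) (g : G) :
    (ofG R e * x * ofG R e⁻¹).coeff g = x.coeff (e⁻¹ * g * e) := by
  show ((single e (1 : R)) * x * (single e⁻¹ (1 : R))).coeff g = _
  rw [coeff_mul_single', coeff_single_mul', inv_inv, mul_assoc]

variable (R) in
/-- The centralizer in the group algebra of a set of elements. -/
noncomputable def cen (E : Set G) : Subalgebra R (MonoidAlgebra R G) :=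
  Subalgebra.centralizer R (ofG R '' E)

omit [IsLocalRing R] [Fintype G] in
theorem mem_cen {E : Set G} {x : MonoidAlgebra R G} :
    x ∈ cen R E ↔ ∀ e ∈ E, ofG R e * x = x * ofG R e := by
  unfold cen
  rw [Subalgebra.mem_centralizer_iff]
  constructor
  · intro h e he
    exact h _ ⟨e, he, rfl⟩
  · rintro h _ ⟨e, he, rfl⟩
    exact h e he

omit [IsLocalRing R] [Fintype G] in
theorem mem_cen_conj {E : Set G} {x : MonoidAlgebra R G} :
    x ∈ cen R E ↔ ∀ e ∈ E, ofG R e * x * ofG R e⁻¹ = x := by
  rw [mem_cen]
  refine forall₂_congr fun e _ => ?_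
  constructor
  · intro h
    rw [h, mul_assoc, ofG_mul_inv, mul_one]
  · intro h
    calc ofG R e * x = (ofG R e * x * ofG R e⁻¹) * ofG R e := by
          rw [mul_assoc (ofG R e * x), ofG_inv_mul, mul_one]
      _ = x * ofG R e := by rw [h]

omit [IsLocalRing R] in
theorem mem_cen_coeff {E : Set G} {x : MonoidAlgebra R G} :
    x ∈ cen R E ↔ ∀ e ∈ E, ∀ g, x.coeff (e⁻¹ * g * e) = x.coeff g := by
  rw [mem_cen_conj]
  refine forall₂_congr fun e _ => ?_
  constructor
  · intro h g
    rw [← coeff_conj, h]
  · intro h
    apply ext_coeff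
    intro g
    rw [coeff_conj, h]

omit [IsLocalRing R] [Fintype G] in
theorem cen_anti {E E' : Set G} (h : E ⊆ E') : cen R E' ≤ cen R E := by
  intro x hx
  rw [mem_cen] at hx ⊢
  exact fun e he => hx e (h he)

/-- Inverses stay in centralizers. -/
theorem inv_mem_cen {E : Set G} {x y : MonoidAlgebra R G} (hx : x ∈ cen R E) (h1 : x * y = 1)
    (h2 : y * x = 1) : y ∈ cen R E := by
  rw [mem_cen] at hx ⊢
  intro e he
  calc ofG R e * y = (y * x) * (ofG R e * y) := by rw [h2, one_mul]
    _ = y * (x * ofG R e) * y := by noncomm_ring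
    _ = y * (ofG R e * x) * y := by rw [hx e he]
    _ = y * ofG R e * (x * y) := by noncomm_ring
    _ = y * ofG R e := by rw [h1, mul_one]

/-- Reduction. -/
noncomputable def red : MonoidAlgebra R G →+* MonoidAlgebra (ResidueField R) G :=
  mapRingHom G (residue R)

theorem coeff_red (x : MonoidAlgebra R G) (g : G) : (red x).coeff g = residue R (x.coeff g) :=
  coeff_mapRingHom _ _ _

theorem red_ofG (g : G) : red (ofG R g) = ofG (ResidueField R) g := by
  simp [red, ofG]

theorem red_conj (e : G) (x : MonoidAlgebra R G) :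
    red (ofG R e * x * ofG R e⁻¹) = ofG _ e * red x * ofG _ e⁻¹ := by
  rw [map_mul, map_mul, red_ofG, red_ofG]

theorem red_eq_zero_iff {x : MonoidAlgebra R G} : red x = 0 ↔ ∀ g, x.coeff g ∈ maximalIdeal R := by
  constructor
  · intro h g
    rw [← residue_eq_zero_iff, ← coeff_red, h]
    rfl
  · intro h
    apply ext_coeff
    intro g
    rw [coeff_red]
    exact (residue_eq_zero_iff _).2 (h g)

/-- The reduction kernel is `𝔪 A`. -/
theorem mem_smul_top_of_red {x : MonoidAlgebra R G} (h : red x = 0) :
    x ∈ (maximalIdeal R) • (⊤ : Submodule R (MonoidAlgebra R G)) := by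
  rw [eq_sum_single x]
  refine Submodule.sum_mem _ fun g _ => ?_
  rw [single_eq_smul]
  exact Submodule.smul_mem_smul (red_eq_zero_iff.1 h g) Submodule.mem_top

/-- Nakayama: elements congruent to `1` have a right inverse. -/
theorem exists_right_inv {x : MonoidAlgebra R G} (h : red x = 0) : ∃ y, (1 + x) * y = 1 := by
  classical
  set N : Submodule R (MonoidAlgebra R G) := LinearMap.range (LinearMap.mulLeft R (1 + x)) with hN
  have htop : (⊤ : Submodule R (MonoidAlgebra R G)) ≤ N := by
    apply Submodule.le_of_le_smul_of_le_jacobson_bot (I := maximalIdeal R) Module.Finite.fg_top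
    · rw [IsLocalRing.jacobson_eq_maximalIdeal ⊥ bot_ne_top]
    · intro z _
      have h1 : z = (1 + x) * z + (-(x * z)) := by noncomm_ring
      rw [h1]
      refine Submodule.add_mem_sup ⟨z, rfl⟩ ?_
      apply mem_smul_top_of_red
      rw [map_neg, map_mul, h, zero_mul, neg_zero]
  obtain ⟨y, hy⟩ := htop (Submodule.mem_top (x := (1 : MonoidAlgebra R G)))
  exact ⟨y, hy⟩

end Basic

section System

variable [IsDomain R]

omit [IsDomain R] [IsLocalRing R] [CommRing R] in
theorem prod_get {M α : Type*} [CommMonoid M] (l : List α) (g : α → M) :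
    ∏ j : Fin l.length, g (l.get j) = (l.map g).prod := by
  rw [← Fin.prod_ofFn]
  congr 1
  apply List.ext_get
  · simp
  · intro n h1 h2
    simp

/-- Split monic polynomials. -/
def SplitR (R : Type v) [CommRing R] : Prop := ∀ f : R[X], f.Monic → f.Splits

variable (R G) in
/-- The local system of the group algebra. -/
noncomputable def sys (hs : SplitR R) :
    LocSys R (MonoidAlgebra R G) (MonoidAlgebra (ResidueField R) G) where
  φ := red
  map_m := by
    intro r hr
    have h1 : algebraMap R (MonoidAlgebra R G) r = single 1 r := rfl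
    have h2 : residue R r = 0 := (residue_eq_zero_iff _).2 hr
    rw [h1]
    simp [red, h2]
  inv := by
    intro x hx
    obtain ⟨y, hy⟩ := exists_right_inv hx
    -- the right inverse is also reducing to `1`, hence has a right inverse
    have h1 : red (y - 1) = 0 := by
      have h2 := congrArg red hy
      rw [map_mul, map_add, hx, add_zero, map_one, one_mul] at h2
      rw [map_sub, h2, map_one, sub_self]
    obtain ⟨z, hz⟩ := exists_right_inv h1
    have h3 : 1 + (y - 1) = y := by noncomm_ring
    rw [h3] at hz
    have h4 : 1 + x = z := by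
      calc 1 + x = (1 + x) * (y * z) := by rw [hz, mul_one]
        _ = ((1 + x) * y) * z := by rw [mul_assoc]
        _ = z := by rw [hy, one_mul]
    refine ⟨y, hy, ?_⟩
    rw [h4]
    exact hz
  roots := by
    intro x
    classical
    set f := (LinearMap.mulLeft R x).charpoly with hf
    have hmon : f.Monic := LinearMap.charpoly_monic _
    have h1 : aeval x f = 0 := by
      have h2 : aeval (LinearMap.mulLeft R x) f = 0 := LinearMap.aeval_self_charpoly _
      have h3 : aeval (Algebra.lmul R (MonoidAlgebra R G) x) f =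
          Algebra.lmul R (MonoidAlgebra R G) (aeval x f) := aeval_algHom_apply _ _ _
      have h4 : (Algebra.lmul R (MonoidAlgebra R G) x) = LinearMap.mulLeft R x := rfl
      rw [h4, h2] at h3
      have h5 := congrArg (fun T : Module.End R (MonoidAlgebra R G) => T 1) h3
      simpa using h5.symm
    have h2 := (hs f hmon).eq_prod_roots_of_monic hmon
    refine ⟨(f.roots.toList).length, fun j => (f.roots.toList).get j, ?_⟩
    have h3 : ∏ j : Fin (f.roots.toList).length, (X - C ((f.roots.toList).get j)) = f := by
      conv_rhs => rw [h2, ← Multiset.coe_toList f.roots]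
      rw [Multiset.map_coe, Multiset.prod_coe]
      exact prod_get (M := R[X]) f.roots.toList (fun a => X - C a)
    rw [h3, h1]
  rk := fun a => Module.finrank (ResidueField R) (LinearMap.range (LinearMap.mulLeft (ResidueField R) (red a)))
  rk_lt := by
    intro a b haa hbb hab hba hb0
    have haa' : red a * red a = red a := by rw [← map_mul, haa]
    have hbb' : red b * red b = red b := by rw [← map_mul, hbb]
    have hab' : red a * red b = 0 := by rw [← map_mul, hab, map_zero]
    have hba' : red b * red a = 0 := by rw [← map_mul, hba, map_zero]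
    have hbne : red b ≠ 0 := by
      intro h0
      apply hb0
      obtain ⟨y, hy⟩ := exists_right_inv (x := -b) (by rw [map_neg, h0, neg_zero])
      calc b = b * ((1 + -b) * y) := by rw [hy, mul_one]
        _ = (b - b * b) * y := by noncomm_ring
        _ = 0 := by rw [hbb, sub_self, zero_mul]
    apply Submodule.finrank_lt_finrank_of_lt
    rw [map_add, SetLike.lt_iff_le_and_exists]
    constructor
    · rintro _ ⟨w, rfl⟩
      refine ⟨red a * w, ?_⟩
      show (red a + red b) * (red a * w) = red a * w
      rw [add_mul, ← mul_assoc, ← mul_assoc, haa', hba', zero_mul, add_zero]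
    · refine ⟨red b, ⟨red b, ?_⟩, ?_⟩
      · show (red a + red b) * red b = red b
        rw [add_mul, hab', hbb', zero_add]
      · rintro ⟨w, hw⟩
        have h1 : red a * w = red b := hw
        apply hbne
        calc red b = red b * red b := hbb'.symm
          _ = red b * (red a * w) := by rw [h1]
          _ = (red b * red a) * w := (mul_assoc _ _ _).symm
          _ = 0 := by rw [hba', zero_mul]

end System

section Br

variable {p : ℕ} [hp : Fact p.Prime]

open scoped Classical in
/-- The Brauer map. -/
noncomputable def br (D : Subgroup G) : MonoidAlgebra R G →+ MonoidAlgebra (ResidueField R) G where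
  toFun x := ofFun fun g => if g ∈ Subgroup.centralizer (D : Set G) then residue R (x.coeff g) else 0
  map_zero' := by
    apply ext_coeff
    intro g
    simp
  map_add' x y := by
    apply ext_coeff
    intro g
    simp only [coeff_ofFun, MonoidAlgebra.coeff_add, Finsupp.add_apply, map_add]
    split_ifs <;> simp

theorem br_coeff_mem (D : Subgroup G) (x : MonoidAlgebra R G) {g : G}
    (hg : g ∈ Subgroup.centralizer (D : Set G)) : (br D x).coeff g = residue R (x.coeff g) := by
  show (ofFun _).coeff g = _
  rw [coeff_ofFun, if_pos hg]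

theorem br_coeff_not_mem (D : Subgroup G) (x : MonoidAlgebra R G) {g : G}
    (hg : g ∉ Subgroup.centralizer (D : Set G)) : (br D x).coeff g = 0 := by
  show (ofFun _).coeff g = _
  rw [coeff_ofFun, if_neg hg]

omit [Fintype G] in
theorem mem_cen_iff_forall_commute {D : Subgroup G} {a : G} :
    a ∈ Subgroup.centralizer (D : Set G) ↔ ∀ d : D, (d : G) * a * (d : G)⁻¹ = a := by
  rw [Subgroup.mem_centralizer_iff]
  constructor
  · intro h d
    rw [h d d.2]
    group
  · intro h d hd
    have := h ⟨d, hd⟩
    calc d * a = (d * a * d⁻¹) * d := by group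
      _ = a * d := by rw [this]

/-- The Brauer map is multiplicative on fixed elements. -/
theorem br_mul (hpm : (p : R) ∈ maximalIdeal R) {D : Subgroup G} (hD : IsPGroup p D)
    {x y : MonoidAlgebra R G} (hx : x ∈ cen R (D : Set G)) (hy : y ∈ cen R (D : Set G)) :
    br D (x * y) = br D x * br D y := by
  classical
  have hk : ((p : ℕ) : ResidueField R) = 0 := by
    rw [← map_natCast (residue R)]
    exact (residue_eq_zero_iff _).2 hpm
  rw [mem_cen_coeff] at hx hy
  apply ext_coeff
  intro z
  rw [coeff_mul_eq]
  by_cases hz : z ∈ Subgroup.centralizer (D : Set G)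
  · rw [br_coeff_mem D _ hz, coeff_mul_eq, map_sum]
    set f : G → ResidueField R := fun a => residue R (x.coeff a) * residue R (y.coeff (a⁻¹ * z)) with hf
    have hinv : ∀ (d : D) (a : G), f ((d : G) * a * (d : G)⁻¹) = f a := by
      intro d a
      simp only [hf]
      have h1 := hx (d : G) d.2 ((d : G) * a * (d : G)⁻¹)
      have h2 : (d : G)⁻¹ * ((d : G) * a * (d : G)⁻¹) * (d : G) = a := by group
      rw [h2] at h1
      have h3 := hy (d : G) d.2 (((d : G) * a * (d : G)⁻¹)⁻¹ * z)
      have h4 : (d : G)⁻¹ * (((d : G) * a * (d : G)⁻¹)⁻¹ * z) * (d : G) = a⁻¹ * z := by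
        have h5 := (mem_cen_iff_forall_commute.1 hz) d
        have h6 : ((d : G) * a * (d : G)⁻¹)⁻¹ * z = (d : G) * a⁻¹ * (d : G)⁻¹ * z := by group
        rw [h6]
        have h7 : (d : G)⁻¹ * ((d : G) * a⁻¹ * (d : G)⁻¹ * z) * (d : G) =
            a⁻¹ * ((d : G)⁻¹ * z * (d : G)) := by group
        rw [h7]
        congr 1
        calc (d : G)⁻¹ * z * (d : G) = (d : G)⁻¹ * ((d : G) * z * (d : G)⁻¹) * (d : G) := by rw [h5]
          _ = z := by group
      rw [h4] at h3
      rw [← h1, ← h3]
    have key := Cfsg.Agent.Lib.CharAutP.sum_eq_sum_fixed (S := ResidueField R) p hD hk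
      (fun (d : D) (a : G) => (d : G) * a * (d : G)⁻¹) (by simp) (by
        intro g h a
        simp only [Subgroup.coe_mul]
        group) f hinv
    have hLHS : ∑ i, residue R (x.coeff i * y.coeff (i⁻¹ * z)) = ∑ a, f a :=
      Finset.sum_congr rfl fun a _ => by simp only [hf, map_mul]
    rw [hLHS, key]
    have hconv : ∑ a : {a : G // ∀ d : D, (d : G) * a * (d : G)⁻¹ = a}, f a.1 =
        ∑ a ∈ Finset.univ.filter (fun a : G => ∀ d : D, (d : G) * a * (d : G)⁻¹ = a), f a :=
      (Finset.sum_subtype _ (by simp) f).symm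
    rw [hconv, Finset.sum_filter]
    refine Finset.sum_congr rfl fun a _ => ?_
    by_cases ha : ∀ d : D, (d : G) * a * (d : G)⁻¹ = a
    · have ha' : a ∈ Subgroup.centralizer (D : Set G) := mem_cen_iff_forall_commute.2 ha
      have hb' : a⁻¹ * z ∈ Subgroup.centralizer (D : Set G) :=
        Subgroup.mul_mem _ (Subgroup.inv_mem _ ha') hz
      rw [if_pos ha, br_coeff_mem D _ ha', br_coeff_mem D _ hb']
    · have ha' : a ∉ Subgroup.centralizer (D : Set G) := fun h => ha (mem_cen_iff_forall_commute.1 h)
      rw [if_neg ha, br_coeff_not_mem D _ ha', zero_mul]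
  · rw [br_coeff_not_mem D _ hz]
    symm
    refine Finset.sum_eq_zero fun a _ => ?_
    by_cases ha : a ∈ Subgroup.centralizer (D : Set G)
    · have hb' : a⁻¹ * z ∉ Subgroup.centralizer (D : Set G) := by
        intro h
        apply hz
        have := Subgroup.mul_mem _ ha h
        simpa using this
      rw [br_coeff_not_mem D _ hb', mul_zero]
    · rw [br_coeff_not_mem D _ ha, zero_mul]

theorem br_one (D : Subgroup G) : br D (1 : MonoidAlgebra R G) = 1 := by
  classical
  apply ext_coeff
  intro z
  by_cases hz : z ∈ Subgroup.centralizer (D : Set G)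
  · rw [br_coeff_mem D _ hz, MonoidAlgebra.one_def, MonoidAlgebra.one_def]
    by_cases h1 : z = 1
    · subst h1
      simp
    · simp [h1, coeff_single]
  · rw [br_coeff_not_mem D _ hz, MonoidAlgebra.one_def]
    have h1 : z ≠ 1 := fun h => hz (h ▸ Subgroup.one_mem _)
    simp [coeff_single, Ne.symm h1]

theorem br_eq_zero_of_red {D : Subgroup G} {x : MonoidAlgebra R G} (h : red x = 0) : br D x = 0 := by
  classical
  apply ext_coeff
  intro z
  by_cases hz : z ∈ Subgroup.centralizer (D : Set G)
  · rw [br_coeff_mem D _ hz, ← coeff_red, h]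
  · rw [br_coeff_not_mem D _ hz]
    rfl

/-- The Brauer map on a centralizer subalgebra. -/
theorem homOn_br [IsDomain R] (hs : SplitR R) (hpm : (p : R) ∈ maximalIdeal R) {D : Subgroup G}
    (hD : IsPGroup p D) {E : Set G} (hE : (D : Set G) ⊆ E) :
    LocSys.HomOn (sys R G hs) (cen R E) (br D : MonoidAlgebra R G →+ _) where
  mul a ha b hb := br_mul hpm hD (cen_anti hE ha) (cen_anti hE hb)
  one := br_one D
  ker a _ h := br_eq_zero_of_red h

end Br

end Cfsg.Agent.Lib.StarGrp
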