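import Mathlib
import Cfsg.Agent.Lib.StarGrp
import Cfsg.Agent.Lib.BlkOrth

/-!
# Relative traces in group algebras
-/

set_option autoImplicit false
set_option linter.unusedSectionVars false
set_option linter.unusedVariables false
set_option linter.style.haveILetI false

namespace Cfsg.Agent.Lib.StarGrp

open MonoidAlgebra Polynomial IsLocalRing Cfsg.Agent.Lib.StarFit Cfsg.Agent.Lib.BlockResidue

universe u v

variable {R : Type v} [CommRing R] [IsLocalRing R] {G : Type u} [Group G] [Fintype G]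

noncomputable local instance fintypeSubT {A : Type*} [Group A] [Finite A] (K : Subgroup A) : Fintype K :=
  Fintype.ofFinite K

noncomputable local instance fintypeQuotT {A : Type*} [Group A] [Finite A] (K : Subgroup A) :
    Fintype (A ⧸ K) := Fintype.ofFinite _

section Trace

/-- Conjugation in the group algebra. -/
noncomputable def cj (g : G) (x : MonoidAlgebra R G) : MonoidAlgebra R G := ofG R g * x * ofG R g⁻¹

omit [IsLocalRing R] [Fintype G] in
theorem cj_one (x : MonoidAlgebra R G) : cj 1 x = x := by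
  simp [cj]

omit [IsLocalRing R] [Fintype G] in
theorem cj_mul (g h : G) (x : MonoidAlgebra R G) : cj (g * h) x = cj g (cj h x) := by
  simp only [cj, mul_inv_rev, ofG_mul]
  noncomm_ring

omit [IsLocalRing R] [Fintype G] in
theorem cj_add (g : G) (x y : MonoidAlgebra R G) : cj g (x + y) = cj g x + cj g y := by
  simp only [cj]
  noncomm_ring

omit [IsLocalRing R] [Fintype G] in
theorem cj_mul' (g : G) (x y : MonoidAlgebra R G) : cj g (x * y) = cj g x * cj g y := by
  simp only [cj]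
  calc ofG R g * (x * y) * ofG R g⁻¹ = ofG R g * x * 1 * y * ofG R g⁻¹ := by noncomm_ring
    _ = ofG R g * x * (ofG R g⁻¹ * ofG R g) * y * ofG R g⁻¹ := by rw [ofG_inv_mul]
    _ = _ := by noncomm_ring

omit [IsLocalRing R] [Fintype G] in
theorem cj_sum {ι : Type*} (g : G) (s : Finset ι) (f : ι → MonoidAlgebra R G) :
    cj g (∑ i ∈ s, f i) = ∑ i ∈ s, cj g (f i) := by
  simp only [cj, Finset.mul_sum, Finset.sum_mul]

omit [IsLocalRing R] [Fintype G] in
theorem cj_eq_of_mem {E : Set G} {x : MonoidAlgebra R G} (hx : x ∈ cen R E) {e : G} (he : e ∈ E) :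
    cj e x = x := mem_cen_conj.1 hx e he

omit [IsLocalRing R] in
theorem coeff_cj (g : G) (x : MonoidAlgebra R G) (h : G) : (cj g x).coeff h = x.coeff (g⁻¹ * h * g) :=
  coeff_conj g x h

/-- The relative trace. -/
noncomputable def rtr (X Y : Subgroup G) (w : MonoidAlgebra R G) : MonoidAlgebra R G :=
  ∑ q : Y ⧸ X.subgroupOf Y, cj (q.out : G) w

omit [IsLocalRing R] in
/-- The term attached to a coset does not depend on the representative. -/
theorem cj_out {X Y : Subgroup G} {w : MonoidAlgebra R G} (hw : w ∈ cen R (X : Set G)) (y : Y) :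
    cj ((QuotientGroup.mk y : Y ⧸ X.subgroupOf Y).out : G) w = cj (y : G) w := by
  have h1 : (y⁻¹ * (QuotientGroup.mk y : Y ⧸ X.subgroupOf Y).out) ∈ X.subgroupOf Y := by
    rw [← QuotientGroup.eq]
    simp
  rw [Subgroup.mem_subgroupOf] at h1
  have h2 : ((QuotientGroup.mk y : Y ⧸ X.subgroupOf Y).out : G) =
      (y : G) * ((y⁻¹ * (QuotientGroup.mk y : Y ⧸ X.subgroupOf Y).out : Y) : G) := by
    simp
  rw [h2, cj_mul, cj_eq_of_mem hw h1]

omit [IsLocalRing R] in
/-- The basic formula for traces. -/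
theorem card_smul_rtr {X Y : Subgroup G} {w : MonoidAlgebra R G} (hw : w ∈ cen R (X : Set G))
    (hXY : X ≤ Y) : Nat.card X • rtr X Y w = ∑ y : Y, cj (y : G) w := by
  classical
  have hcard : Nat.card X = Nat.card (X.subgroupOf Y) :=
    Nat.card_congr (Subgroup.subgroupOfEquivOfLe hXY).symm.toEquiv
  unfold rtr
  rw [Finset.smul_sum]
  rw [← Finset.sum_fiberwise (Finset.univ : Finset Y) (fun y : Y => (QuotientGroup.mk y : Y ⧸ X.subgroupOf Y))]
  refine Finset.sum_congr rfl fun q _ => ?_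
  have h1 : ∀ y ∈ Finset.univ.filter (fun y : Y => (QuotientGroup.mk y : Y ⧸ X.subgroupOf Y) = q),
      cj (y : G) w = cj (q.out : G) w := by
    intro y hy
    have hy' := (Finset.mem_filter.1 hy).2
    rw [← hy', cj_out hw]
  rw [Finset.sum_congr rfl h1, Finset.sum_const]
  congr 1
  have h2 := QuotientGroup.card_preimage_mk (X.subgroupOf Y) ({q} : Set (Y ⧸ X.subgroupOf Y))
  have h3 : Nat.card (({q} : Set (Y ⧸ X.subgroupOf Y))) = 1 := by simp
  rw [h3, mul_one] at h2
  rw [hcard, ← h2, Nat.card_eq_fintype_card, Fintype.card_of_subtype]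
  intro y
  simp

omit [IsLocalRing R] in
theorem rtr_add (X Y : Subgroup G) (a b : MonoidAlgebra R G) :
    rtr X Y (a + b) = rtr X Y a + rtr X Y b := by
  classical
  unfold rtr
  rw [← Finset.sum_add_distrib]
  exact Finset.sum_congr rfl fun q _ => cj_add _ _ _

omit [IsLocalRing R] in
theorem rtr_zero (X Y : Subgroup G) : rtr X Y (0 : MonoidAlgebra R G) = 0 := by
  classical
  unfold rtr
  refine Finset.sum_eq_zero fun q _ => ?_
  simp [cj]

omit [IsLocalRing R] in
theorem rtr_sum {ι : Type*} (X Y : Subgroup G) (s : Finset ι) (f : ι → MonoidAlgebra R G) :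
    rtr X Y (∑ i ∈ s, f i) = ∑ i ∈ s, rtr X Y (f i) := by
  classical
  induction s using Finset.induction_on with
  | empty => simp [rtr_zero]
  | insert a s ha ih => rw [Finset.sum_insert ha, Finset.sum_insert ha, rtr_add, ih]

omit [IsLocalRing R] in
theorem rtr_mul_left {X Y : Subgroup G} {x : MonoidAlgebra R G} (hx : x ∈ cen R (Y : Set G))
    (w : MonoidAlgebra R G) : rtr X Y (x * w) = x * rtr X Y w := by
  classical
  unfold rtr
  rw [Finset.mul_sum]
  refine Finset.sum_congr rfl fun q _ => ?_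
  rw [cj_mul', cj_eq_of_mem hx (q.out).2]

omit [IsLocalRing R] in
theorem rtr_mul_right {X Y : Subgroup G} {x : MonoidAlgebra R G} (hx : x ∈ cen R (Y : Set G))
    (w : MonoidAlgebra R G) : rtr X Y (w * x) = rtr X Y w * x := by
  classical
  unfold rtr
  rw [Finset.sum_mul]
  refine Finset.sum_congr rfl fun q _ => ?_
  rw [cj_mul', cj_eq_of_mem hx (q.out).2]

omit [IsLocalRing R] in
theorem coeff_rtr (X Y : Subgroup G) (w : MonoidAlgebra R G) (g : G) :
    (rtr X Y w).coeff g = ∑ q : Y ⧸ X.subgroupOf Y, w.coeff ((q.out : G)⁻¹ * g * (q.out : G)) := by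
  classical
  unfold rtr
  rw [MonoidAlgebra.coeff_sum, Finsupp.finsetSum_apply]
  refine Finset.sum_congr rfl fun q _ => ?_
  rw [coeff_cj]

section Cancel

variable [IsDomain R] [CharZero R]

omit [IsLocalRing R] in
theorem nsmul_cancel {n : ℕ} (hn : n ≠ 0) {a b : MonoidAlgebra R G} (h : n • a = n • b) : a = b := by
  apply ext_coeff
  intro g
  have h1 := congrArg (fun x : MonoidAlgebra R G => x.coeff g) h
  have h2 : ∀ (m : ℕ) (c : MonoidAlgebra R G), (m • c).coeff g = (m : R) * c.coeff g := by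
    intro m c
    induction m with
    | zero => simp
    | succ m ih =>
      rw [succ_nsmul, MonoidAlgebra.coeff_add, Finsupp.add_apply, ih]
      push_cast
      ring
  simp only [h2] at h1
  exact mul_left_cancel₀ (Nat.cast_ne_zero.2 hn) h1

omit [IsLocalRing R] in
theorem card_ne_zero' (X : Subgroup G) : Nat.card X ≠ 0 := Nat.card_pos.ne'

omit [IsLocalRing R] in
theorem cj_rtr {X Y : Subgroup G} {w : MonoidAlgebra R G} (hw : w ∈ cen R (X : Set G)) (hXY : X ≤ Y)
    {y : G} (hy : y ∈ Y) : cj y (rtr X Y w) = rtr X Y w := by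
  apply nsmul_cancel (card_ne_zero' X)
  have h1 : Nat.card X • cj y (rtr X Y w) = cj y (Nat.card X • rtr X Y w) := by
    simp only [cj, mul_smul_comm, smul_mul_assoc]
  rw [h1, card_smul_rtr hw hXY, cj_sum]
  refine Fintype.sum_equiv (Equiv.mulLeft (⟨y, hy⟩ : Y)) _ _ fun z => ?_
  simp only [Equiv.coe_mulLeft, Subgroup.coe_mul]
  rw [cj_mul]

omit [IsLocalRing R] in
/-- Relative traces are fixed. -/
theorem rtr_mem {X Y : Subgroup G} {H : Set G} {w : MonoidAlgebra R G}
    (hw : w ∈ cen R ((X : Set G) ∪ H)) (hXY : X ≤ Y) (hHY : ∀ h ∈ H, ∀ y ∈ Y, h * y = y * h) :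
    rtr X Y w ∈ cen R ((Y : Set G) ∪ H) := by
  classical
  have hwX : w ∈ cen R (X : Set G) := cen_anti Set.subset_union_left hw
  rw [mem_cen_conj]
  rintro e (he | he)
  · exact cj_rtr hwX hXY he
  · show cj e (rtr X Y w) = rtr X Y w
    unfold rtr
    rw [cj_sum]
    refine Finset.sum_congr rfl fun q _ => ?_
    rw [← cj_mul, hHY e he _ (q.out).2, cj_mul, cj_eq_of_mem hw (Or.inr he)]

omit [IsLocalRing R] in
theorem rtr_self {X : Subgroup G} {w : MonoidAlgebra R G} (hw : w ∈ cen R (X : Set G)) :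
    rtr X X w = w := by
  apply nsmul_cancel (card_ne_zero' X)
  rw [card_smul_rtr hw le_rfl]
  have h1 : ∀ y : X, cj (y : G) w = w := fun y => cj_eq_of_mem hw y.2
  simp_rw [h1]
  rw [Finset.sum_const, Finset.card_univ, Nat.card_eq_fintype_card]

omit [IsLocalRing R] in
/-- Transitivity of relative traces. -/
theorem rtr_trans {X Y W : Subgroup G} {w : MonoidAlgebra R G} (hw : w ∈ cen R (X : Set G))
    (hXY : X ≤ Y) (hYW : Y ≤ W) : rtr Y W (rtr X Y w) = rtr X W w := by
  have hm : rtr X Y w ∈ cen R (Y : Set G) := by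
    rw [mem_cen_conj]
    exact fun e he => cj_rtr hw hXY he
  apply nsmul_cancel (mul_ne_zero (card_ne_zero' X) (card_ne_zero' Y))
  have h1 : (Nat.card X * Nat.card Y) • rtr Y W (rtr X Y w) =
      Nat.card X • (Nat.card Y • rtr Y W (rtr X Y w)) := mul_smul _ _ _
  have h2 : (Nat.card X * Nat.card Y) • rtr X W w = Nat.card Y • (Nat.card X • rtr X W w) := by
    rw [mul_comm, mul_smul]
  rw [h1, h2, card_smul_rtr hm (hYW), card_smul_rtr hw (hXY.trans hYW), Finset.smul_sum]
  have h3 : ∀ z : W, Nat.card X • cj (z : G) (rtr X Y w) =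
      ∑ y : Y, cj ((z : G) * (y : G)) w := by
    intro z
    have h4 : Nat.card X • cj (z : G) (rtr X Y w) = cj (z : G) (Nat.card X • rtr X Y w) := by
      simp only [cj, mul_smul_comm, smul_mul_assoc]
    rw [h4, card_smul_rtr hw hXY, cj_sum]
    exact Finset.sum_congr rfl fun y _ => (cj_mul _ _ _).symm
  simp_rw [h3]
  rw [Finset.sum_comm]
  have h5 : ∀ y : Y, ∑ z : W, cj ((z : G) * (y : G)) w = ∑ z : W, cj (z : G) w := by
    intro y
    refine Fintype.sum_equiv (Equiv.mulRight (⟨y, hYW y.2⟩ : W)) _ _ fun z => ?_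
    simp only [Equiv.coe_mulRight, Subgroup.coe_mul]
  simp_rw [h5]
  rw [Finset.sum_const, Finset.card_univ, Nat.card_eq_fintype_card]

end Cancel

end Trace

section TrBr

variable {p : ℕ} [hp : Fact p.Prime]

theorem residue_p_zero (hpm : (p : R) ∈ maximalIdeal R) : ((p : ℕ) : ResidueField R) = 0 := by
  rw [← map_natCast (residue R)]
  exact (residue_eq_zero_iff _).2 hpm

/-- Traces from proper subgroups are killed by the Brauer map. -/
theorem br_rtr_eq_zero (hpm : (p : R) ∈ maximalIdeal R) {X Y : Subgroup G} (hY : IsPGroup p Y)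
    (hXY : X ≤ Y) (hne : X ≠ Y) (w : MonoidAlgebra R G) : br Y (rtr X Y w) = 0 := by
  classical
  apply ext_coeff
  intro z
  by_cases hz : z ∈ Subgroup.centralizer (Y : Set G)
  · rw [br_coeff_mem Y _ hz, coeff_rtr, map_sum]
    have h1 : ∀ q : Y ⧸ X.subgroupOf Y,
        residue R (w.coeff ((q.out : G)⁻¹ * z * (q.out : G))) = residue R (w.coeff z) := by
      intro q
      congr 2
      have h2 := Subgroup.mem_centralizer_iff.1 hz (q.out : G) (q.out).2
      rw [mul_assoc, ← h2]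
      group
    simp_rw [h1]
    rw [Finset.sum_const, Finset.card_univ, nsmul_eq_mul]
    obtain ⟨k, hk⟩ := hY.index (X.subgroupOf Y)
    have hk0 : k ≠ 0 := by
      rintro rfl
      apply hne
      rw [pow_zero, Subgroup.index_eq_one, Subgroup.subgroupOf_eq_top] at hk
      exact le_antisymm hXY hk
    have h3 : (Fintype.card (Y ⧸ X.subgroupOf Y) : ℕ) = p ^ k := by
      rw [← Nat.card_eq_fintype_card, ← hk]
      rfl
    rw [h3]
    push_cast
    rw [residue_p_zero hpm, zero_pow hk0, zero_mul]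
    rfl
  · rw [br_coeff_not_mem Y _ hz]
    rfl

/-- A subgroup of index `p` in a `p`-group is normal. -/
theorem normal_of_index_p {Z Q : Subgroup G} (hQ : IsPGroup p Q) (hi : (Z.subgroupOf Q).index = p) :
    (Z.subgroupOf Q).Normal := by
  have hpp := hp.out
  apply Subgroup.normal_of_index_eq_minFac_card
  rw [hi]
  have h1 : Nat.card Q ≠ 1 := by
    intro h
    have h2 := Subgroup.index_dvd_card (Z.subgroupOf Q)
    rw [hi, h] at h2
    exact hpp.one_lt.ne' (Nat.dvd_one.1 h2)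
  obtain ⟨k, hk⟩ := IsPGroup.iff_card.1 hQ
  rw [hk]
  have hk0 : k ≠ 0 := by
    rintro rfl
    exact h1 (by rw [hk, pow_zero])
  exact (hpp.pow_minFac hk0).symm

/-- Proper subgroups of `p`-groups lie in subgroups of index `p`. -/
theorem exists_index_p {Y Q : Subgroup G} (hQ : IsPGroup p Q) (hYQ : Y ≤ Q) (hne : Y ≠ Q) :
    ∃ Z : Subgroup G, Y ≤ Z ∧ Z ≤ Q ∧ (Z.subgroupOf Q).index = p := by
  classical
  have hpp := hp.out
  obtain ⟨m, hm⟩ := IsPGroup.iff_card.1 hQ
  have hY' : IsPGroup p (Y.subgroupOf Q) := hQ.to_subgroup _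
  obtain ⟨l, hl⟩ := IsPGroup.iff_card.1 hY'
  have hlm : l < m := by
    have h1 : Nat.card (Y.subgroupOf Q) ∣ Nat.card Q := Subgroup.card_subgroup_dvd_card _
    rw [hl, hm] at h1
    have h2 : l ≤ m := (Nat.pow_dvd_pow_iff_le_right hpp.one_lt).1 h1
    refine lt_of_le_of_ne h2 ?_
    rintro rfl
    apply hne
    have h3 : Y.subgroupOf Q = ⊤ := Subgroup.eq_top_of_card_eq _ (by rw [hl, hm])
    rw [Subgroup.subgroupOf_eq_top] at h3
    exact le_antisymm hYQ h3
  obtain ⟨m', rfl⟩ : ∃ m', m = m' + 1 := ⟨m - 1, by omega⟩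
  obtain ⟨K, hK2, hK1⟩ := Sylow.exists_subgroup_card_pow_prime_le p (n := l) (m := m')
    (G := Q) (by rw [hm]; exact pow_dvd_pow _ (Nat.le_succ _)) (Y.subgroupOf Q) hl (by omega)
  refine ⟨K.map Q.subtype, ?_, ?_, ?_⟩
  · intro y hy
    exact ⟨⟨y, hYQ hy⟩, hK1 hy, rfl⟩
  · rw [Subgroup.map_le_iff_le_comap]
    intro x _
    exact x.2
  · have h1 : (K.map Q.subtype).subgroupOf Q = K :=
      Subgroup.comap_map_eq_self_of_injective Q.subtype_injective K
    rw [h1]
    have h2 := K.card_mul_index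
    rw [hK2, hm, pow_succ] at h2
    exact Nat.eq_of_mul_eq_mul_left (pow_pos hpp.pos _) h2

/-- Index `p`: traces are sums over powers of an element outside. -/
theorem rtr_eq_sum_pow {Z Q : Subgroup G} (hQ : IsPGroup p Q) (hZQ : Z ≤ Q)
    (hi : (Z.subgroupOf Q).index = p) {t : G} (htQ : t ∈ Q) (htZ : t ∉ Z) {w : MonoidAlgebra R G}
    (hw : w ∈ cen R (Z : Set G)) : rtr Z Q w = ∑ k ∈ Finset.range p, cj (t ^ k) w := by
  classical
  haveI := normal_of_index_p hQ hi
  have hpp := hp.out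
  set t' : Q := ⟨t, htQ⟩ with ht'
  set q₀ : Q ⧸ Z.subgroupOf Q := QuotientGroup.mk t' with hq₀
  have hcard : Nat.card (Q ⧸ Z.subgroupOf Q) = p := hi
  have hne : q₀ ≠ 1 := by
    intro h
    rw [hq₀, QuotientGroup.eq_one_iff, Subgroup.mem_subgroupOf] at h
    exact htZ h
  have hord : orderOf q₀ = p := by
    haveI : Fact p.Prime := hp
    apply orderOf_eq_prime
    · rw [← hcard]
      exact pow_card_eq_one'
    · exact hne
  have hinj : Set.InjOn (fun k : ℕ => q₀ ^ k) (Finset.range p : Set ℕ) := by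
    intro a ha b hb hab
    have ha' : a < orderOf q₀ := by
      rw [hord]
      exact Finset.mem_range.1 ha
    have hb' : b < orderOf q₀ := by
      rw [hord]
      exact Finset.mem_range.1 hb
    exact pow_injOn_Iio_orderOf ha' hb' hab
  have himg : (Finset.range p).image (fun k : ℕ => q₀ ^ k) = Finset.univ := by
    apply Finset.eq_univ_of_card
    rw [Finset.card_image_of_injOn hinj, Finset.card_range, ← Nat.card_eq_fintype_card, hcard]
  unfold rtr
  rw [← himg, Finset.sum_image hinj]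
  refine Finset.sum_congr rfl fun k _ => ?_
  have h1 : q₀ ^ k = QuotientGroup.mk (t' ^ k) := by
    rw [hq₀, QuotientGroup.mk_pow]
  rw [h1, cj_out hw]
  rfl

/-- Traces from a subgroup not containing a normal subgroup are killed. -/
theorem br_rtr_eq_zero_of_not_le (hpm : (p : R) ∈ maximalIdeal R) {D Z Q : Subgroup G}
    (hQ : IsPGroup p Q) (hZQ : Z ≤ Q) (hi : (Z.subgroupOf Q).index = p) (hDQ : D ≤ Q) (hDZ : ¬ D ≤ Z)
    {w : MonoidAlgebra R G} (hw : w ∈ cen R (Z : Set G)) : br D (rtr Z Q w) = 0 := by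
  classical
  obtain ⟨t, htD, htZ⟩ := SetLike.not_le_iff_exists.1 hDZ
  rw [rtr_eq_sum_pow hQ hZQ hi (hDQ htD) htZ hw]
  apply ext_coeff
  intro z
  by_cases hz : z ∈ Subgroup.centralizer (D : Set G)
  · rw [br_coeff_mem D _ hz, MonoidAlgebra.coeff_sum, Finsupp.finsetSum_apply, map_sum]
    have h1 : ∀ k ∈ Finset.range p, residue R ((cj (t ^ k) w).coeff z) = residue R (w.coeff z) := by
      intro k _
      rw [coeff_cj]
      congr 2
      have h2 : (t ^ k) ∈ D := D.pow_mem htD k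
      have h3 := Subgroup.mem_centralizer_iff.1 hz _ h2
      rw [mul_assoc, ← h3]
      group
    rw [Finset.sum_congr rfl h1, Finset.sum_const, Finset.card_range, nsmul_eq_mul,
      residue_p_zero hpm, zero_mul]
    rfl
  · rw [br_coeff_not_mem D _ hz]
    rfl

/-- Compatibility of the Brauer map with conjugation. -/
theorem br_cj {D : Subgroup G} {t : G} (ht : t ∈ Subgroup.normalizer (D : Set G))
    (x : MonoidAlgebra R G) : br D (cj t x) = cj t (br D x) := by
  classical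
  have hmem : ∀ z : G, z ∈ Subgroup.centralizer (D : Set G) ↔
      t⁻¹ * z * t ∈ Subgroup.centralizer (D : Set G) := by
    intro z
    rw [Subgroup.mem_normalizer_iff] at ht
    simp only [Subgroup.mem_centralizer_iff, SetLike.mem_coe]
    constructor
    · intro h d hd
      have h1 := h (t * d * t⁻¹) ((ht d).1 hd)
      calc d * (t⁻¹ * z * t) = t⁻¹ * ((t * d * t⁻¹) * z) * t := by group
        _ = t⁻¹ * (z * (t * d * t⁻¹)) * t := by rw [h1]
        _ = t⁻¹ * z * t * d := by group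
    · intro h d hd
      have h0 : t⁻¹ * d * t ∈ D := by
        rw [ht]
        have : t * (t⁻¹ * d * t) * t⁻¹ = d := by group
        rwa [this]
      have h1 := h _ h0
      calc d * z = t * ((t⁻¹ * d * t) * (t⁻¹ * z * t)) * t⁻¹ := by group
        _ = t * ((t⁻¹ * z * t) * (t⁻¹ * d * t)) * t⁻¹ := by rw [h1]
        _ = z * d := by group
  apply ext_coeff
  intro z
  rw [coeff_cj]
  by_cases hz : z ∈ Subgroup.centralizer (D : Set G)
  · rw [br_coeff_mem D _ hz, br_coeff_mem D _ ((hmem z).1 hz), coeff_cj]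
  · rw [br_coeff_not_mem D _ hz, br_coeff_not_mem D _ (fun h => hz ((hmem z).2 h))]

/-- A coset of a group with a fixed point property. -/
theorem mem_normalizer_of_conj_le {D : Subgroup G} {y : G}
    (h : ∀ d ∈ D, y⁻¹ * d * y ∈ D) : y ∈ Subgroup.normalizer (D : Set G) := by
  classical
  rw [Subgroup.mem_normalizer_iff]
  -- the map is an injective self-map of the finite set `D`
  let f : D → D := fun d => ⟨y⁻¹ * d * y, h d d.2⟩
  have hf : Function.Injective f := by
    intro a b hab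
    have h1 : y⁻¹ * (a : G) * y = y⁻¹ * (b : G) * y := congrArg Subtype.val hab
    apply Subtype.ext
    simpa using h1
  have hs := Finite.surjective_of_injective hf
  intro d
  constructor
  · intro hd
    obtain ⟨c, hc⟩ := hs ⟨d, hd⟩
    have h1 : y⁻¹ * (c : G) * y = d := congrArg Subtype.val hc
    have h2 : y * d * y⁻¹ = c := by
      rw [← h1]
      group
    rw [h2]
    exact c.2
  · intro hd
    have := h _ hd
    have h3 : y⁻¹ * (y * d * y⁻¹) * y = d := by group
    rwa [h3] at this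

/-- The Brauer map at `D` of a trace from `D` only sees the normalizer. -/
theorem br_rtr_normalizer (hpm : (p : R) ∈ maximalIdeal R) {D Q : Subgroup G} (hQ : IsPGroup p Q)
    (hDQ : D ≤ Q) {w : MonoidAlgebra R G} (hw : w ∈ cen R (D : Set G)) :
    br D (rtr D Q w) = br D (rtr D (Q ⊓ Subgroup.normalizer (D : Set G)) w) := by
  classical
  set N := Q ⊓ Subgroup.normalizer (D : Set G) with hN
  have hDN : D ≤ N := le_inf hDQ Subgroup.le_normalizer
  rw [mem_cen_coeff] at hw
  apply ext_coeff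
  intro z
  by_cases hz : z ∈ Subgroup.centralizer (D : Set G)
  · rw [br_coeff_mem D _ hz, br_coeff_mem D _ hz, coeff_rtr, coeff_rtr, map_sum, map_sum]
    set f : Q ⧸ D.subgroupOf Q → ResidueField R :=
      fun q => residue R (w.coeff ((q.out : G)⁻¹ * z * (q.out : G))) with hf
    have hfmk : ∀ y : Q, f (QuotientGroup.mk y) = residue R (w.coeff ((y : G)⁻¹ * z * (y : G))) := by
      intro y
      have h1 : (y⁻¹ * (QuotientGroup.mk y : Q ⧸ D.subgroupOf Q).out) ∈ D.subgroupOf Q := by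
        rw [← QuotientGroup.eq]
        simp
      rw [Subgroup.mem_subgroupOf] at h1
      set c : G := ((y⁻¹ * (QuotientGroup.mk y : Q ⧸ D.subgroupOf Q).out : Q) : G) with hc
      have h2 : (((QuotientGroup.mk y : Q ⧸ D.subgroupOf Q).out : Q) : G) = (y : G) * c := by
        simp [hc]
      simp only [hf]
      rw [h2]
      have h3 := hw c h1 ((y : G)⁻¹ * z * (y : G))
      rw [← h3]
      congr 2
      group
    -- the action of `D` on the cosets
    let act : D → (Q ⧸ D.subgroupOf Q) → (Q ⧸ D.subgroupOf Q) :=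
      fun d q => (⟨(d : G), hDQ d.2⟩ : Q) • q
    have hk := residue_p_zero (R := R) hpm
    have hfinv : ∀ (d : D) q, f (act d q) = f q := by
      intro d q
      obtain ⟨y, rfl⟩ := QuotientGroup.mk_surjective q
      have h1 : act d (QuotientGroup.mk y) = QuotientGroup.mk ((⟨(d : G), hDQ d.2⟩ : Q) * y) := rfl
      rw [h1, hfmk, hfmk]
      congr 2
      have h2 := (mem_cen_iff_forall_commute.1 hz) d
      simp only [Subgroup.coe_mul]
      calc ((d : G) * (y : G))⁻¹ * z * ((d : G) * (y : G))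
          = (y : G)⁻¹ * ((d : G)⁻¹ * z * (d : G)) * (y : G) := by group
        _ = (y : G)⁻¹ * ((d : G)⁻¹ * ((d : G) * z * (d : G)⁻¹) * (d : G)) * (y : G) := by rw [h2]
        _ = (y : G)⁻¹ * z * (y : G) := by group
    have hDp : IsPGroup p D := hQ.to_le hDQ
    have key := Cfsg.Agent.Lib.CharAutP.sum_eq_sum_fixed (S := ResidueField R) p hDp hk act
      (fun q => by
        show ((⟨((1 : D) : G), hDQ (1 : D).2⟩ : Q)) • q = q
        have : (⟨((1 : D) : G), hDQ (1 : D).2⟩ : Q) = 1 := rfl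
        rw [this, one_smul])
      (fun g h q => by
        show (⟨((g * h : D) : G), hDQ (g * h : D).2⟩ : Q) • q =
          (⟨(g : G), hDQ g.2⟩ : Q) • ((⟨(h : G), hDQ h.2⟩ : Q) • q)
        rw [smul_smul]
        rfl) f hfinv
    rw [key]
    have hNQ : N ≤ Q := inf_le_left
    have hNN : N ≤ Subgroup.normalizer (D : Set G) := inf_le_right
    have hfix : ∀ y : N, ∀ d : D, act d (QuotientGroup.mk (⟨y, hNQ y.2⟩ : Q)) =
        QuotientGroup.mk (⟨y, hNQ y.2⟩ : Q) := by
      intro y d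
      have h1 : act d (QuotientGroup.mk (⟨y, hNQ y.2⟩ : Q)) =
          QuotientGroup.mk ((⟨(d : G), hDQ d.2⟩ : Q) * (⟨y, hNQ y.2⟩ : Q)) := rfl
      rw [h1, QuotientGroup.eq, Subgroup.mem_subgroupOf]
      have h2 := hNN y.2
      rw [Subgroup.mem_normalizer_iff] at h2
      have h3 : (y : G)⁻¹ * (d : G)⁻¹ * (y : G) ∈ D := by
        rw [h2]
        have : (y : G) * ((y : G)⁻¹ * (d : G)⁻¹ * (y : G)) * (y : G)⁻¹ = (d : G)⁻¹ := by group
        rw [this]
        exact D.inv_mem d.2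
      simpa [mul_assoc] using h3
    let i : (N ⧸ D.subgroupOf N) → {q : Q ⧸ D.subgroupOf Q // ∀ d : D, act d q = q} :=
      fun q' => ⟨QuotientGroup.mk (⟨(q'.out : N), hNQ (q'.out).2⟩ : Q), hfix (q'.out)⟩
    have hi : Function.Bijective i := by
      constructor
      · intro q₁ q₂ h
        have h1 := congrArg Subtype.val h
        simp only [i] at h1
        rw [QuotientGroup.eq, Subgroup.mem_subgroupOf] at h1
        rw [← QuotientGroup.out_eq' q₁, ← QuotientGroup.out_eq' q₂]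
        show (QuotientGroup.mk (q₁.out) : N ⧸ D.subgroupOf N) = QuotientGroup.mk (q₂.out)
        rw [QuotientGroup.eq, Subgroup.mem_subgroupOf]
        exact h1
      · rintro ⟨q, hq⟩
        obtain ⟨y, rfl⟩ := QuotientGroup.mk_surjective q
        have hyN : (y : G) ∈ Subgroup.normalizer (D : Set G) := by
          apply mem_normalizer_of_conj_le
          intro d hd
          have h1 := hq ⟨d⁻¹, D.inv_mem hd⟩
          have h2 : act ⟨d⁻¹, D.inv_mem hd⟩ (QuotientGroup.mk y) =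
              QuotientGroup.mk ((⟨d⁻¹, hDQ (D.inv_mem hd)⟩ : Q) * y) := rfl
          rw [h2, QuotientGroup.eq, Subgroup.mem_subgroupOf] at h1
          simpa [mul_assoc] using h1
        have hyNN : (y : G) ∈ N := ⟨y.2, hyN⟩
        refine ⟨QuotientGroup.mk (⟨y, hyNN⟩ : N), ?_⟩
        apply Subtype.ext
        simp only [i]
        rw [QuotientGroup.eq, Subgroup.mem_subgroupOf]
        have h1 : ((⟨y, hyNN⟩ : N)⁻¹ * (QuotientGroup.mk (⟨y, hyNN⟩ : N) : N ⧸ D.subgroupOf N).out) ∈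
            D.subgroupOf N := by
          rw [← QuotientGroup.eq]
          simp
        rw [Subgroup.mem_subgroupOf] at h1
        have h2 := D.inv_mem h1
        simpa [mul_assoc] using h2
    symm
    refine Fintype.sum_bijective i hi _ _ fun q' => ?_
    simp only [i]
    rw [hfmk]
  · rw [br_coeff_not_mem D _ hz, br_coeff_not_mem D _ hz]

open scoped Classical in
/-- Multiple of the indicator of an `H`-orbit. -/
noncomputable def orbH (H : Subgroup G) (g₀ : G) (c : R) : MonoidAlgebra R G :=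
  ofFun fun h => if ∃ s ∈ H, h = s * g₀ * s⁻¹ then c else 0

omit [IsLocalRing R] in
theorem orbH_mem {Q H : Subgroup G} (hQH : ∀ τ ∈ Q, ∀ s ∈ H, τ * s = s * τ) (g₀ : G) (c : R) :
    orbH H g₀ c ∈ cen R (((Q ⊓ Subgroup.centralizer ({g₀} : Set G) : Subgroup G) : Set G) ∪ H) := by
  classical
  rw [mem_cen_coeff]
  have hgen : ∀ (e : G), (∀ h : G, (∃ s ∈ H, e⁻¹ * h * e = s * g₀ * s⁻¹) ↔ ∃ s ∈ H, h = s * g₀ * s⁻¹) →
      ∀ g, (orbH H g₀ c).coeff (e⁻¹ * g * e) = (orbH H g₀ c).coeff g := by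
    intro e he g
    simp only [orbH, coeff_ofFun]
    simp only [he]
  rintro e (⟨he1, he2⟩ | he) g
  · apply hgen
    intro h
    have he2' : e * g₀ = g₀ * e := (Subgroup.mem_centralizer_singleton_iff.1 he2)
    constructor
    · rintro ⟨s, hs, h1⟩
      refine ⟨s, hs, ?_⟩
      have h2 : h = e * (s * g₀ * s⁻¹) * e⁻¹ := by
        rw [← h1]
        group
      rw [h2]
      have h3 := hQH e he1 s hs
      calc e * (s * g₀ * s⁻¹) * e⁻¹ = (e * s) * g₀ * s⁻¹ * e⁻¹ := by group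
        _ = s * (e * g₀) * s⁻¹ * e⁻¹ := by rw [h3]; group
        _ = s * g₀ * (e * s⁻¹ * e⁻¹) := by rw [he2']; group
        _ = s * g₀ * s⁻¹ := by
          have h4 : e * s⁻¹ = s⁻¹ * e := by
            have := hQH e he1 s⁻¹ (H.inv_mem hs)
            exact this
          rw [h4]
          group
    · rintro ⟨s, hs, rfl⟩
      refine ⟨s, hs, ?_⟩
      have h3 := hQH e he1 s hs
      have h4 : e * s⁻¹ = s⁻¹ * e := hQH e he1 s⁻¹ (H.inv_mem hs)
      have h5 : e⁻¹ * s = s * e⁻¹ := by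
        have := hQH e⁻¹ (Q.inv_mem he1) s hs
        exact this
      have h6 : e⁻¹ * g₀ = g₀ * e⁻¹ := by
        calc e⁻¹ * g₀ = e⁻¹ * (g₀ * e) * e⁻¹ := by group
          _ = e⁻¹ * (e * g₀) * e⁻¹ := by rw [he2']
          _ = g₀ * e⁻¹ := by group
      calc e⁻¹ * (s * g₀ * s⁻¹) * e = s * (e⁻¹ * g₀) * s⁻¹ * e := by
            rw [← mul_assoc, ← mul_assoc, h5]
            group
        _ = s * g₀ * (e⁻¹ * s⁻¹ * e) := by rw [h6]; group
        _ = s * g₀ * s⁻¹ := by
          have h7 : e⁻¹ * s⁻¹ = s⁻¹ * e⁻¹ := hQH e⁻¹ (Q.inv_mem he1) s⁻¹ (H.inv_mem hs)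
          rw [h7]
          group
  · apply hgen
    intro h
    constructor
    · rintro ⟨s, hs, h1⟩
      refine ⟨e * s, H.mul_mem he hs, ?_⟩
      have h2 : h = e * (e⁻¹ * h * e) * e⁻¹ := by group
      rw [h2, h1]
      group
    · rintro ⟨s, hs, rfl⟩
      refine ⟨e⁻¹ * s, H.mul_mem (H.inv_mem he) hs, ?_⟩
      group

omit [IsLocalRing R] in
/-- A trace of an orbit vanishes outside the large orbit. -/
theorem coeff_rtr_orb_zero {Q H : Subgroup G} {g₀ g : G} (c : R)
    (hg : ¬ ∃ τ ∈ Q, ∃ s ∈ H, g = τ * s * g₀ * s⁻¹ * τ⁻¹) (Y : Subgroup G) :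
    (rtr Y Q (orbH H g₀ c)).coeff g = 0 := by
  classical
  rw [coeff_rtr]
  refine Finset.sum_eq_zero fun q _ => ?_
  simp only [orbH, coeff_ofFun]
  rw [if_neg]
  rintro ⟨s, hs, h1⟩
  apply hg
  refine ⟨(q.out : G), (q.out).2, s, hs, ?_⟩
  calc g = (q.out : G) * ((q.out : G)⁻¹ * g * (q.out : G)) * (q.out : G)⁻¹ := by group
    _ = _ := by rw [h1]; group

omit [IsLocalRing R] in
/-- The trace of an orbit on the large orbit. -/
theorem coeff_rtr_orb_eq {Q H : Subgroup G} (hQ : IsPGroup p Q) (hH : ∀ s ∈ H, ¬ p ∣ orderOf s)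
    (hQH : ∀ τ ∈ Q, ∀ s ∈ H, τ * s = s * τ) {g₀ : G} (c : R) {τ s : G} (hτ : τ ∈ Q) (hs : s ∈ H) :
    (rtr (Q ⊓ Subgroup.centralizer ({g₀} : Set G)) Q (orbH H g₀ c)).coeff
      (τ * s * g₀ * s⁻¹ * τ⁻¹) = c := by
  classical
  have hpp := hp.out
  set Y := Q ⊓ Subgroup.centralizer ({g₀} : Set G) with hY
  have hYQ : Y ≤ Q := inf_le_left
  have hmemY : ∀ y ∈ Y, y * g₀ = g₀ * y := fun y hy => Subgroup.mem_centralizer_singleton_iff.1 hy.2
  rw [coeff_rtr]
  set τ' : Q := ⟨τ, hτ⟩ with hτ'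
  rw [Finset.sum_eq_single (QuotientGroup.mk τ')]
  · -- the main term
    have h1 : (τ'⁻¹ * (QuotientGroup.mk τ' : Q ⧸ Y.subgroupOf Q).out) ∈ Y.subgroupOf Q := by
      rw [← QuotientGroup.eq]
      simp
    rw [Subgroup.mem_subgroupOf] at h1
    set y : G := ((τ'⁻¹ * (QuotientGroup.mk τ' : Q ⧸ Y.subgroupOf Q).out : Q) : G) with hy
    have h2 : (((QuotientGroup.mk τ' : Q ⧸ Y.subgroupOf Q).out : Q) : G) = τ * y := by
      simp [hy, hτ']
    simp only [orbH, coeff_ofFun]
    rw [if_pos]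
    rw [h2]
    refine ⟨s, hs, ?_⟩
    have h3 : y * s = s * y := hQH y (hYQ h1) s hs
    have h4 := hmemY y h1
    have h5 : y⁻¹ * s = s * y⁻¹ := hQH y⁻¹ (Q.inv_mem (hYQ h1)) s hs
    have h6 : y⁻¹ * g₀ = g₀ * y⁻¹ := by
      calc y⁻¹ * g₀ = y⁻¹ * (g₀ * y) * y⁻¹ := by group
        _ = y⁻¹ * (y * g₀) * y⁻¹ := by rw [h4]
        _ = g₀ * y⁻¹ := by group
    have h7 : y⁻¹ * s⁻¹ = s⁻¹ * y⁻¹ := hQH y⁻¹ (Q.inv_mem (hYQ h1)) s⁻¹ (H.inv_mem hs)
    calc (τ * y)⁻¹ * (τ * s * g₀ * s⁻¹ * τ⁻¹) * (τ * y)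
        = y⁻¹ * s * g₀ * s⁻¹ * y := by group
      _ = s * (y⁻¹ * g₀) * s⁻¹ * y := by rw [h5]; group
      _ = s * g₀ * (y⁻¹ * s⁻¹) * y := by rw [h6]; group
      _ = s * g₀ * s⁻¹ := by rw [h7]; group
  · -- other cosets
    intro q _ hq
    simp only [orbH, coeff_ofFun]
    rw [if_neg]
    rintro ⟨s', hs', h1⟩
    apply hq
    set t : G := ((q.out : Q) : G) with ht
    set u : G := t⁻¹ * τ with hu
    have huQ : u ∈ Q := Q.mul_mem (Q.inv_mem (q.out).2) hτ
    set r : G := s'⁻¹ * s with hr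
    have hrH : r ∈ H := H.mul_mem (H.inv_mem hs') hs
    have hur : Commute u r := hQH u huQ r hrH
    have h2 : (u * r) * g₀ * (u * r)⁻¹ = g₀ := by
      have h3 : u * s' = s' * u := hQH u huQ s' hs'
      have h3' : u * s'⁻¹ = s'⁻¹ * u := hQH u huQ s'⁻¹ (H.inv_mem hs')
      have h4 : u * s * g₀ * s⁻¹ * u⁻¹ = s' * g₀ * s'⁻¹ := by
        rw [← h1, hu]
        group
      calc (u * r) * g₀ * (u * r)⁻¹ = (u * s'⁻¹) * s * g₀ * s⁻¹ * (s' * u⁻¹) := by
            rw [hr]
            group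
        _ = s'⁻¹ * (u * s * g₀ * s⁻¹ * (u⁻¹ * (u * s') * u⁻¹)) := by rw [h3']; group
        _ = s'⁻¹ * (u * s * g₀ * s⁻¹ * u⁻¹) * s' := by rw [h3]; group
        _ = g₀ := by rw [h4]; group
    have huord : ∃ k : ℕ, orderOf u = p ^ k := by
      obtain ⟨k, hk⟩ := (IsPGroup.iff_orderOf.1 hQ) ⟨u, huQ⟩
      exact ⟨k, by rw [← Subgroup.orderOf_coe] at hk; exact hk⟩
    obtain ⟨N, hN⟩ := Cfsg.Agent.Lib.BlkOrth.pPart_exists_pow hpp
      (Cfsg.Agent.Lib.BlkOrth.pPart_of_mul (p := p) hur huord (hH r hrH))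
    have h5 : Commute (u * r) g₀ := by
      show (u * r) * g₀ = g₀ * (u * r)
      calc (u * r) * g₀ = ((u * r) * g₀ * (u * r)⁻¹) * (u * r) := by group
        _ = g₀ * (u * r) := by rw [h2]
    have h6 : Commute u g₀ := by
      rw [← hN]
      exact h5.pow_left N
    have huY : u ∈ Y := ⟨huQ, Subgroup.mem_centralizer_singleton_iff.2 h6.eq⟩
    rw [← QuotientGroup.out_eq' q]
    show (QuotientGroup.mk q.out : Q ⧸ Y.subgroupOf Q) = QuotientGroup.mk τ'
    rw [QuotientGroup.eq, Subgroup.mem_subgroupOf]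
    exact huY
  · intro h
    exact absurd (Finset.mem_univ _) h

/-- The kernel of the Brauer map. -/
theorem exists_rtr_of_br_eq_zero {Q H : Subgroup G} (hQ : IsPGroup p Q)
    (hH : ∀ s ∈ H, ¬ p ∣ orderOf s) (hQH : ∀ τ ∈ Q, ∀ s ∈ H, τ * s = s * τ)
    {x : MonoidAlgebra R G} (hx : x ∈ cen R ((Q : Set G) ∪ H)) (hbr : br Q x = 0) :
    ∃ (κ : Type u) (_ : Fintype κ) (Y : κ → Subgroup G) (w : κ → MonoidAlgebra R G),
      (∀ j, Y j ≤ Q ∧ Y j ≠ Q) ∧ (∀ j, w j ∈ cen R ((Y j : Set G) ∪ H)) ∧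
        red (x - ∑ j, rtr (Y j) Q (w j)) = 0 := by
  classical
  have hcomm' : ∀ τ ∈ Q, ∀ s ∈ H, τ⁻¹ * s⁻¹ = s⁻¹ * τ⁻¹ := fun τ hτ s hs =>
    hQH τ⁻¹ (Q.inv_mem hτ) s⁻¹ (H.inv_mem hs)
  let st : Setoid G :=
    { r := fun g g' => ∃ τ ∈ Q, ∃ s ∈ H, g = τ * s * g' * s⁻¹ * τ⁻¹
      iseqv := {
        refl := fun g => ⟨1, Q.one_mem, 1, H.one_mem, by simp⟩
        symm := by
          rintro g g' ⟨τ, hτ, s, hs, rfl⟩
          refine ⟨τ⁻¹, Q.inv_mem hτ, s⁻¹, H.inv_mem hs, ?_⟩
          have h3 : τ * s = s * τ := hQH τ hτ s hs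
          have h1 : τ⁻¹ * s⁻¹ * (τ * s) = 1 := by
            rw [h3]
            group
          have h2 : s⁻¹ * τ⁻¹ * (s * τ) = 1 := by
            rw [← h3]
            group
          calc g' = (τ⁻¹ * s⁻¹ * (τ * s)) * g' * (s⁻¹ * τ⁻¹ * (s * τ)) := by rw [h1, h2]; group
            _ = _ := by group
        trans := by
          rintro g g' g'' ⟨τ, hτ, s, hs, rfl⟩ ⟨τ₁, hτ₁, s₁, hs₁, rfl⟩
          refine ⟨τ * τ₁, Q.mul_mem hτ hτ₁, s * s₁, H.mul_mem hs hs₁, ?_⟩
          have h1 : τ₁ * s = s * τ₁ := hQH τ₁ hτ₁ s hs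
          calc τ * s * (τ₁ * s₁ * g'' * s₁⁻¹ * τ₁⁻¹) * s⁻¹ * τ⁻¹
              = τ * (s * τ₁) * (s₁ * g'' * s₁⁻¹) * (s * τ₁)⁻¹ * τ⁻¹ := by group
            _ = τ * (τ₁ * s) * (s₁ * g'' * s₁⁻¹) * (τ₁ * s)⁻¹ * τ⁻¹ := by rw [h1]
            _ = _ := by group } }
  have hxcoeff : ∀ {g g' : G}, st.r g g' → x.coeff g = x.coeff g' := by
    rintro g g' ⟨τ, hτ, s, hs, rfl⟩
    have hc := mem_cen_coeff.1 hx
    have h1 := hc τ⁻¹ (Or.inl (Q.inv_mem hτ)) (s * g' * s⁻¹)
    have h2 := hc s⁻¹ (Or.inr (H.inv_mem hs)) g'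
    simp only [inv_inv] at h1 h2
    rw [← h2, ← h1]
    congr 1
    group
  let κ := {O : Quotient st // O.out ∉ Subgroup.centralizer (Q : Set G)}
  letI : Fintype κ := Fintype.ofFinite κ
  refine ⟨κ, inferInstance, fun j => Q ⊓ Subgroup.centralizer ({j.1.out} : Set G),
    fun j => orbH H j.1.out (x.coeff j.1.out), ?_, ?_, ?_⟩
  · intro j
    refine ⟨inf_le_left, ?_⟩
    intro h
    apply j.2
    rw [Subgroup.mem_centralizer_iff]
    intro d hd
    have h' : Q ⊓ Subgroup.centralizer ({j.1.out} : Set G) = Q := h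
    have h1 : d ∈ Q ⊓ Subgroup.centralizer ({j.1.out} : Set G) := by
      rw [h']
      exact hd
    exact Subgroup.mem_centralizer_singleton_iff.1 h1.2
  · intro j
    exact orbH_mem hQH _ _
  · apply ext_coeff
    intro g
    rw [coeff_red, MonoidAlgebra.coeff_sub, Finsupp.sub_apply, MonoidAlgebra.coeff_sum,
      Finsupp.finsetSum_apply, map_sub]
    have hrel : st.r g (Quotient.mk st g).out := st.symm (Quotient.mk_out (s := st) g)
    by_cases hO : (Quotient.mk st g).out ∈ Subgroup.centralizer (Q : Set G)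
    · -- central orbit
      have hg : g ∈ Subgroup.centralizer (Q : Set G) := by
        obtain ⟨τ, hτ, s, hs, h1⟩ := hrel
        set g₁ := (Quotient.mk st g).out with hg₁
        have hsC : s ∈ Subgroup.centralizer (Q : Set G) := by
          rw [Subgroup.mem_centralizer_iff]
          exact fun d hd => hQH d hd s hs
        have hg₂ : s * g₁ * s⁻¹ ∈ Subgroup.centralizer (Q : Set G) :=
          Subgroup.mul_mem _ (Subgroup.mul_mem _ hsC hO) (Subgroup.inv_mem _ hsC)
        have h2 : g = s * g₁ * s⁻¹ := by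
          rw [h1]
          have h3 := Subgroup.mem_centralizer_iff.1 hg₂ τ hτ
          calc τ * s * g₁ * s⁻¹ * τ⁻¹ = (τ * (s * g₁ * s⁻¹)) * τ⁻¹ := by group
            _ = (s * g₁ * s⁻¹) * τ * τ⁻¹ := by rw [h3]
            _ = s * g₁ * s⁻¹ := by group
        rw [h2]
        exact hg₂
      have h1 : ∀ j : κ, (rtr (Q ⊓ Subgroup.centralizer ({j.1.out} : Set G)) Q
          (orbH H j.1.out (x.coeff j.1.out))).coeff g = 0 := by
        intro j
        apply coeff_rtr_orb_zero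
        rintro ⟨τ, hτ, s, hs, h2⟩
        have h3 : st.r g j.1.out := ⟨τ, hτ, s, hs, h2⟩
        have h4 : Quotient.mk st g = j.1 := by
          rw [← Quotient.out_eq j.1]
          exact Quotient.sound h3
        apply j.2
        rw [← h4]
        exact hO
      simp only [h1, Finset.sum_const_zero, map_zero, sub_zero]
      rw [← br_coeff_mem Q x hg, hbr]
    · set j₀ : κ := ⟨Quotient.mk st g, hO⟩ with hj₀
      rw [Finset.sum_eq_single j₀]
      · obtain ⟨τ, hτ, s, hs, h1⟩ := hrel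
        have h2 : (rtr (Q ⊓ Subgroup.centralizer ({j₀.1.out} : Set G)) Q
            (orbH H j₀.1.out (x.coeff j₀.1.out))).coeff g = x.coeff j₀.1.out := by
          conv_lhs => rw [h1]
          exact coeff_rtr_orb_eq hQ hH hQH _ hτ hs
        rw [h2, hxcoeff (st.symm (Quotient.mk_out (s := st) g)), sub_self]
        rfl
      · intro j _ hj
        apply coeff_rtr_orb_zero
        rintro ⟨τ, hτ, s, hs, h2⟩
        have h3 : st.r g j.1.out := ⟨τ, hτ, s, hs, h2⟩
        have h4 : Quotient.mk st g = j.1 := by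
          rw [← Quotient.out_eq j.1]
          exact Quotient.sound h3
        exact hj (Subtype.ext h4.symm)
      · intro h
        exact absurd (Finset.mem_univ _) h

variable [IsDomain R] [CharZero R]

/-- **Rosenberg's lemma** for relative traces. -/
theorem rosenberg (hs : SplitR R) {Q H : Subgroup G} (hQ : IsPGroup p Q)
    (hH : ∀ s ∈ H, ¬ p ∣ orderOf s) (hQH : ∀ τ ∈ Q, ∀ s ∈ H, τ * s = s * τ)
    {i : MonoidAlgebra R G} (hi : LocSys.PrimIn (cen R ((Q : Set G) ∪ H)) i) (h0 : br Q i = 0) :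
    ∃ Z : Subgroup G, Z ≤ Q ∧ (Z.subgroupOf Q).index = p ∧ ∃ w ∈ cen R ((Z : Set G) ∪ H),
      i * w = w ∧ w * i = w ∧ rtr Z Q w = i := by
  classical
  obtain ⟨κ, _, Y, w, hY, hw, hred⟩ := exists_rtr_of_br_eq_zero hQ hH hQH hi.mem h0
  have hHQ' : ∀ h ∈ (H : Set G), ∀ y ∈ Q, h * y = y * h := fun h hh y hy => (hQH y hy h hh).symm
  have hf : ∀ j ∈ (Finset.univ : Finset κ), rtr (Y j) Q (w j) ∈ cen R ((Q : Set G) ∪ H) :=
    fun j _ => rtr_mem (hw j) (hY j).1 hHQ'
  have hsum : (sys R G hs).φ (i * (∑ j, rtr (Y j) Q (w j)) * i) = (sys R G hs).φ i := by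
    show red _ = red _
    have h1 : red (∑ j, rtr (Y j) Q (w j)) = red i := by
      rw [map_sub, sub_eq_zero] at hred
      exact hred.symm
    rw [map_mul, map_mul, h1, ← map_mul, ← map_mul, hi.idem, hi.idem]
  obtain ⟨j, -, w', hw'S, hw'1, hw'2⟩ := LocSys.exists_linv_of_sum (sys R G hs) hi Finset.univ _ hf hsum
  have hiQ : i ∈ cen R (Q : Set G) := cen_anti Set.subset_union_left hi.mem
  have hw'Q : w' ∈ cen R (Q : Set G) := cen_anti Set.subset_union_left hw'S
  have hYZ := (hY j).1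
  have hmemY : ∀ {a : MonoidAlgebra R G}, a ∈ cen R ((Q : Set G) ∪ H) → a ∈ cen R ((Y j : Set G) ∪ H) :=
    fun ha => cen_anti (Set.union_subset_union_left _ hYZ) ha
  set w₁ := w' * (i * w j * i) with hw₁
  have hw₁S : w₁ ∈ cen R ((Y j : Set G) ∪ H) :=
    (cen R _).mul_mem (hmemY hw'S) ((cen R _).mul_mem ((cen R _).mul_mem (hmemY hi.mem) (hw j)) (hmemY hi.mem))
  have hiw' : i * w' = w' := by rw [← hw'1, LocSys.corner_left hi.idem]
  have hw₁l : i * w₁ = w₁ := by rw [hw₁, ← mul_assoc, hiw']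
  have hw₁r : w₁ * i = w₁ := by
    rw [hw₁, mul_assoc, LocSys.corner_right hi.idem]
  have htr : rtr (Y j) Q w₁ = i := by
    rw [hw₁, rtr_mul_left hw'Q, rtr_mul_right hiQ, rtr_mul_left hiQ]
    exact hw'2
  obtain ⟨Z, hYZ', hZQ, hZi⟩ := exists_index_p hQ hYZ (hY j).2
  refine ⟨Z, hZQ, hZi, rtr (Y j) Z w₁, ?_, ?_, ?_, ?_⟩
  · exact rtr_mem hw₁S hYZ' (fun h hh y hy => (hQH y (hZQ hy) h hh).symm)
  · rw [← rtr_mul_left (cen_anti (fun x hx => hZQ hx) hiQ), hw₁l]
  · rw [← rtr_mul_right (cen_anti (fun x hx => hZQ hx) hiQ), hw₁r]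
  · rw [rtr_trans (cen_anti Set.subset_union_left hw₁S) hYZ' hZQ, htr]

end TrBr

end Cfsg.Agent.Lib.StarGrp
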