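import Mathlib
import Cfsg.Agent.Lib.StarTr
import Cfsg.Agent.Lib.BlockCover
import Cfsg.Agent.Lib.BrauerSub

/-!
# The local ring at `M`: splitting of monic polynomials; block idempotents in the group algebra
-/

set_option autoImplicit false
set_option linter.unusedSectionVars false
set_option linter.unusedVariables false
set_option linter.style.haveILetI false

namespace Cfsg.Agent.Lib.StarLoc

open Polynomial IsLocalRing Cfsg Cfsg.Agent.Lib.StarFit Cfsg.Agent.Lib.StarGrp
open Cfsg.Agent.Lib.BlockLocal

variable {M : Ideal AlgInt} [hMp : M.IsPrime]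

/-- Common denominators of a finite family of local integers. -/
theorem exists_common_den (s : Finset ℕ) (c : ℕ → ℂ) (hc : ∀ i ∈ s, MemLocalRing M (c i)) :
    ∃ d : AlgInt, d ∉ M ∧ ∀ i ∈ s, ∃ a : AlgInt, (d : ℂ) * c i = a := by
  classical
  induction s using Finset.induction_on with
  | empty => exact ⟨1, one_not_mem, by simp⟩
  | insert j s hj ih =>
    obtain ⟨d, hd, hd'⟩ := ih fun i hi => hc i (Finset.mem_insert_of_mem hi)
    obtain ⟨a, b, hb, hab⟩ := hc j (Finset.mem_insert_self _ _)
    refine ⟨d * b, mul_not_mem hd hb, ?_⟩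
    intro i hi
    rw [Finset.mem_insert] at hi
    rcases hi with rfl | hi
    · refine ⟨d * a, ?_⟩
      have hb0 : (b : ℂ) ≠ 0 := coe_ne_zero_of_not_mem hb
      rw [← hab]
      push_cast
      field_simp
    · obtain ⟨a', ha'⟩ := hd' i hi
      refine ⟨a' * b, ?_⟩
      push_cast
      rw [← ha']
      ring

/-- The local ring at `M` is integrally closed in `ℂ`. -/
theorem memLocalRing_of_root {f : (localSubring M)[X]} (hf : f.Monic) {α : ℂ}
    (hα : eval₂ (localSubring M).subtype α f = 0) : MemLocalRing M α := by
  classical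
  set n := f.natDegree with hn
  obtain ⟨d, hd, hda⟩ := exists_common_den (M := M) (Finset.range (n + 1))
    (fun i => ((f.coeff i : localSubring M) : ℂ)) (fun i _ => (f.coeff i).2)
  set F : ℂ[X] := f.map (localSubring M).subtype with hF
  have hFm : F.Monic := hf.map _
  have hFn : F.natDegree = n := by
    rw [hF, natDegree_map_eq_of_injective (Subtype.coe_injective)]
  have hroot : aeval α F = 0 := by
    rw [hF, aeval_def, eval₂_map]
    have : (algebraMap ℂ ℂ).comp (localSubring M).subtype = (localSubring M).subtype := rfl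
    rw [this]
    exact hα
  set g : ℂ[X] := scaleRoots F (d : ℂ) with hg
  have hgm : g.Monic := (monic_scaleRoots_iff _).2 hFm
  have hgroot : aeval ((d : ℂ) * α) g = 0 := by
    have := scaleRoots_aeval_eq_zero (R := ℂ) (A := ℂ) (p := F) (a := α) (r := (d : ℂ)) hroot
    simpa [mul_comm] using this
  have hlift : g ∈ lifts (algebraMap AlgInt ℂ) := by
    rw [lifts_iff_coeff_lifts]
    intro i
    rw [hg, coeff_scaleRoots, hFn]
    by_cases hi : i ≤ n
    · by_cases hin : i = n
      · subst hin
        have h1 : F.coeff n = 1 := by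
          rw [← hFn]
          exact hFm.coeff_natDegree
        rw [h1, one_mul, Nat.sub_self, pow_zero]
        exact ⟨1, by simp⟩
      · obtain ⟨a, ha⟩ := hda i (Finset.mem_range.2 (by omega))
        have hpos : n - i = (n - i - 1) + 1 := by omega
        refine ⟨a * d ^ (n - i - 1), ?_⟩
        have h2 : F.coeff i = ((f.coeff i : localSubring M) : ℂ) := by
          rw [hF, coeff_map]
          rfl
        rw [h2, hpos]
        simp only [Nat.add_sub_cancel]
        show ((a * d ^ (n - i - 1) : AlgInt) : ℂ) = _
        push_cast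
        rw [← ha]
        ring
    · have h1 : F.coeff i = 0 := by
        apply coeff_eq_zero_of_natDegree_lt
        omega
      rw [h1, zero_mul]
      exact ⟨0, by simp⟩
  obtain ⟨q, hq, -, hqm⟩ := lifts_and_natDegree_eq_and_monic hlift hgm
  have hint0 : IsIntegral AlgInt ((d : ℂ) * α) := by
    refine ⟨q, hqm, ?_⟩
    rw [← aeval_def]
    have : aeval ((d : ℂ) * α) (q.map (algebraMap AlgInt ℂ)) = aeval ((d : ℂ) * α) q := by
      rw [aeval_map_algebraMap]
    rw [← hq] at hgroot
    rw [← this]
    exact hgroot
  have hint : IsIntegral ℤ ((d : ℂ) * α) := by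
    haveI : Algebra.IsIntegral ℤ AlgInt := ⟨fun x => integralClosure.isIntegral x⟩
    exact isIntegral_trans (R := ℤ) (A := AlgInt) _ hint0
  refine ⟨⟨_, hint⟩, d, hd, ?_⟩
  have hd0 : (d : ℂ) ≠ 0 := coe_ne_zero_of_not_mem hd
  show ((d : ℂ) * α) / (d : ℂ) = α
  field_simp

/-- Monic polynomials split over the local ring at `M`. -/
theorem splitR_local : SplitR (localSubring M) := by
  intro f hf
  apply Splits.of_splits_map_of_injective (i := (localSubring M).subtype) Subtype.coe_injective
    (IsAlgClosed.splits _)
  intro a ha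
  have h1 : IsRoot (f.map (localSubring M).subtype) a := isRoot_of_mem_roots ha
  have h2 : eval₂ (localSubring M).subtype a f = 0 := by
    rw [← eval_map]
    exact h1
  have h3 := memLocalRing_of_root hf h2
  exact ⟨⟨a, h3⟩, rfl⟩

end Cfsg.Agent.Lib.StarLoc
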