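import Mathlib
import Cfsg.Agent.Lib.StarLoc
import Cfsg.Agent.Lib.BrauerCen

/-!
# Block idempotents in the group algebra over the local ring at `M`
-/

set_option autoImplicit false
set_option linter.unusedSectionVars false
set_option linter.unusedVariables false
set_option linter.style.haveILetI false

namespace Cfsg.Agent.Lib.StarBlk

open Polynomial IsLocalRing Cfsg Cfsg.Agent.Lib.StarFit Cfsg.Agent.Lib.StarGrp
open Cfsg.Agent.Lib.StarLoc Cfsg.Agent.Lib.BlockLocal Cfsg.Agent.Lib.BlockCover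
open Cfsg.Agent.Lib.BlockResidue Cfsg.Agent.Lib.BrauerMap Cfsg.Agent.Lib.BrauerPair
open Cfsg.Agent.Lib.BrauerSub Cfsg.Agent.Lib.BlockIdem Cfsg.Agent.Lib.CharIntegrality
open Cfsg.Agent.Lib.BlkBasic

universe u

variable {G : Type u} [Group G] [Fintype G] {p : ℕ} [hp : Fact p.Prime] {M : Ideal AlgInt}
  [hMp : M.IsPrime]

local notation "𝐂[" R "]" => Subgroup.centralizer ((R : Subgroup G) : Set G)

noncomputable local instance fintypeSubBk {A : Type*} [Group A] [Finite A] (K : Subgroup A) : Fintype K :=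
  Fintype.ofFinite K

instance : CharZero (localSubring M) := inferInstance
instance : IsDomain (localSubring M) := inferInstance

section Idem

/-- The group algebra element of the idempotent of a block of the subgroup `K`. -/
noncomputable def eB (K : Subgroup G) (F : BlockT M K) : MonoidAlgebra (localSubring M) G :=
  toR (subgroupBlockCoeff K F.1) (memLocalRing_subgroupBlockCoeff K F.2)

theorem coeF_eB (K : Subgroup G) (F : BlockT M K) : coeF (eB K F) = subgroupBlockCoeff K F.1 := rfl

theorem eB_idem (K : Subgroup G) (F : BlockT M K) : eB K F * eB K F = eB K F := by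
  apply coeF_injective
  rw [coeF_mul, coeF_eB, conv_subgroupBlockCoeff, Set.inter_self]

theorem eB_orth (K : Subgroup G) {F F' : BlockT M K} (h : F ≠ F') : eB K F * eB K F' = 0 := by
  apply coeF_injective
  rw [coeF_mul, coeF_eB, coeF_eB, conv_subgroupBlockCoeff]
  rcases eq_or_disjoint_of_isPBlock F.2 F'.2 with h1 | h1
  · exact absurd (Subtype.ext h1) h
  · rw [Set.disjoint_iff_inter_eq_empty.1 h1, subgroupBlockCoeff_empty]
    funext g
    rfl

theorem coeF_sum {X : Type*} [Group X] [Fintype X] {ι : Type*} (s : Finset ι)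
    (f : ι → MonoidAlgebra (localSubring M) X) : coeF (∑ j ∈ s, f j) = ∑ j ∈ s, coeF (f j) := by
  classical
  funext g
  rw [Finset.sum_apply]
  simp only [coeF_apply]
  rw [MonoidAlgebra.coeff_sum, Finsupp.finsetSum_apply]
  push_cast
  rfl

theorem sum_eB (K : Subgroup G) : ∑ F : BlockT M K, eB K F = 1 := by
  apply coeF_injective
  rw [coeF_sum, coeF_one]
  simp only [coeF_eB]
  exact sum_subgroupBlockCoeff K

theorem eB_ne_zero (K : Subgroup G) (F : BlockT M K) : eB K F ≠ 0 := by
  intro h0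
  obtain ⟨χ, hχ⟩ := F.2
  have hmem : χ ∈ F.1 := by
    rw [hχ]
    exact mem_blockOf_self χ
  apply BrauerStab.blockCoeff_ne_zero_of_mem hmem
  funext x
  have h1 := congrFun (coeF_eB K F) (x : G)
  rw [h0] at h1
  have h2 : subgroupBlockCoeff K F.1 (x : G) = blockCoeff F.1 x := by
    rw [subgroupBlockCoeff_eq_ext0, ext0_coe]
  rw [← h2, ← h1]
  rfl

theorem eB_inj (K : Subgroup G) {F F' : BlockT M K} (h : eB K F = eB K F') : F = F' := by
  by_contra hne
  have h1 := eB_orth K hne
  rw [h, eB_idem] at h1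
  exact eB_ne_zero K F' h1

theorem eB_mem_cen (K : Subgroup G) (F : BlockT M K) : eB K F ∈ cen (localSubring M) (K : Set G) := by
  rw [mem_cen_coeff]
  intro e he g
  have h1 := inv_subgroupBlockCoeff K F.1 e⁻¹ (K.inv_mem he) g
  rw [inv_inv] at h1
  exact Subtype.ext h1

theorem eB_coeff_of_not_mem (K : Subgroup G) (F : BlockT M K) {g : G} (hg : g ∉ K) :
    (eB K F).coeff g = 0 := by
  apply Subtype.ext
  show subgroupBlockCoeff K F.1 g = 0
  rw [subgroupBlockCoeff_eq_ext0, ext0_of_not_mem K _ hg]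

/-- Elements centralizing `K` commute with the block idempotents of `K`. -/
theorem eB_mem_cen_of_centralizes (K : Subgroup G) (F : BlockT M K) :
    eB K F ∈ cen (localSubring M) (𝐂[K] : Set G) := by
  rw [mem_cen_coeff]
  intro e he g
  by_cases hg : g ∈ K
  · have h1 : e⁻¹ * g * e = g := by
      have := (Subgroup.mem_centralizer_iff.1 he) g hg
      rw [mul_assoc, this]
      group
    rw [h1]
  · have h1 : e⁻¹ * g * e ∉ K := by
      intro h2
      have := (Subgroup.mem_centralizer_iff.1 he) _ h2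
      apply hg
      have h3 : g = e⁻¹ * g * e := by
        calc g = e * (e⁻¹ * g * e) * e⁻¹ := by group
          _ = (e⁻¹ * g * e) * e * e⁻¹ := by rw [← this]
          _ = e⁻¹ * g * e := by group
      rw [h3]
      exact h2
    rw [eB_coeff_of_not_mem K F h1, eB_coeff_of_not_mem K F hg]

theorem coeF_cj (t : G) (x : MonoidAlgebra (localSubring M) G) (g : G) :
    coeF (cj t x) g = coeF x (t⁻¹ * g * t) := by
  simp only [coeF_apply]
  rw [coeff_cj]

/-- Conjugating block idempotents. -/
theorem cj_eB (K : Subgroup G) {t : G} (ht : t ∈ Subgroup.normalizer (K : Set G)) (F : BlockT M K) :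
    cj t (eB K F) = eB K ⟨twistSet (conjAut K t ht) F.1, isPBlock_twistSet _ F.2⟩ := by
  apply coeF_injective
  funext g
  rw [coeF_cj, coeF_eB, coeF_eB]
  simp only [subgroupBlockCoeff_eq_ext0]
  have hmem : ∀ g : G, g ∈ K ↔ t⁻¹ * g * t ∈ K := by
    intro g
    have := (Subgroup.mem_normalizer_iff.1 ((Subgroup.normalizer (K : Set G)).inv_mem ht)) g
    rw [inv_inv] at this
    exact this
  by_cases hg : g ∈ K
  · have h1 := (hmem g).1 hg
    rw [ext0_of_mem K _ hg, ext0_of_mem K _ h1]
    have e : (⟨g, hg⟩ : K) = conjAut K t ht ⟨t⁻¹ * g * t, h1⟩ := by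
      apply Subtype.ext
      simp only [coe_conjAut]
      group
    rw [e, blockCoeff_twistSet]
  · have h1 : t⁻¹ * g * t ∉ K := fun h => hg ((hmem g).2 h)
    rw [ext0_of_not_mem K _ hg, ext0_of_not_mem K _ h1]

/-- Stability of a block from the fixedness of the idempotent. -/
theorem stabilizes_of_cj (K : Subgroup G) {t : G} (ht : t ∈ Subgroup.normalizer (K : Set G))
    {F : BlockT M K} (h : cj t (eB K F) = eB K F) : StabilizesBlock K F.1 t := by
  rw [cj_eB K ht] at h
  have h1 := congrArg Subtype.val (eB_inj K h)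
  exact stabilizes_of_twistSet_eq ht h1

/-- `p` lies in the maximal ideal. -/
theorem hpm_of (hM : IsPModular p M) : (p : localSubring M) ∈ maximalIdeal (localSubring M) := by
  apply Cfsg.Agent.Lib.BlkTrace.maxIdeal_of_memLocalIdeal
  push_cast
  exact (memLocalIdeal_natCast_iff hM).2 dvd_rfl

end Idem

/-- A nilpotent idempotent vanishes. -/
theorem eq_zero_of_idem_pow {C : Type*} [Ring C] {a : C} (h : a * a = a) {k : ℕ} (hk : k ≠ 0)
    (h0 : a ^ k = 0) : a = 0 := by
  have h1 : ∀ n : ℕ, a ^ (n + 1) = a := by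
    intro n
    induction n with
    | zero => simp
    | succ n ih => rw [pow_succ, ih, h]
  obtain ⟨n, rfl⟩ := Nat.exists_eq_succ_of_ne_zero hk
  rw [← h1 n]
  exact h0

section BrFacts

variable {R : Type*} [CommRing R] [IsLocalRing R]

theorem br_eq_of_br_eq {D Q : Subgroup G} (hDQ : D ≤ Q) {x y : MonoidAlgebra R G}
    (h : br D x = br D y) : br Q x = br Q y := by
  classical
  apply ext_coeff
  intro z
  by_cases hz : z ∈ 𝐂[Q]
  · have hz' : z ∈ 𝐂[D] := Subgroup.centralizer_le hDQ hz
    rw [br_coeff_mem Q x hz, br_coeff_mem Q y hz, ← br_coeff_mem D x hz', ← br_coeff_mem D y hz', h]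
  · rw [br_coeff_not_mem Q x hz, br_coeff_not_mem Q y hz]

theorem br_eq_zero_of_br_eq_zero {D Q : Subgroup G} (hDQ : D ≤ Q) {x : MonoidAlgebra R G}
    (h : br D x = 0) : br Q x = 0 := by
  have h1 : br D x = br D (0 : MonoidAlgebra R G) := by rw [h, map_zero]
  have h2 := br_eq_of_br_eq hDQ h1
  rwa [map_zero] at h2

theorem red_mem_cen {E : Set G} {x : MonoidAlgebra R G} (hx : x ∈ cen R E) :
    red x ∈ cen (ResidueField R) E := by
  rw [mem_cen] at hx ⊢
  intro e he
  rw [← red_ofG, ← map_mul, hx e he, map_mul]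

/-- Elements supported on `C(D)` commute with everything commuting with `C(D)`. -/
theorem br_commute {D : Subgroup G} (x : MonoidAlgebra R G) {y : MonoidAlgebra (ResidueField R) G}
    (hy : y ∈ cen (ResidueField R) (𝐂[D] : Set G)) : Commute (br D x) y := by
  classical
  rw [mem_cen] at hy
  rw [BlockResidue.eq_sum_single (br D x)]
  apply Commute.sum_left
  intro g _
  by_cases hg : g ∈ 𝐂[D]
  · rw [BlockResidue.single_eq_smul]
    apply Commute.smul_left
    exact hy g hg
  · rw [br_coeff_not_mem D x hg]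
    simp

end BrFacts

section Bb

/-- The image of the idempotent of a block of `C(D)` under the Brauer map. -/
noncomputable def bb (D : Subgroup G) (b : BlockT M 𝐂[D]) :
    MonoidAlgebra (ResidueField (localSubring M)) G :=
  br D (eB 𝐂[D] b)

theorem br_eB (D : Subgroup G) (b : BlockT M 𝐂[D]) : br D (eB 𝐂[D] b) = red (eB 𝐂[D] b) := by
  classical
  apply ext_coeff
  intro z
  by_cases hz : z ∈ 𝐂[D]
  · rw [br_coeff_mem D _ hz, coeff_red]
  · rw [br_coeff_not_mem D _ hz, coeff_red, eB_coeff_of_not_mem _ _ hz, map_zero]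

theorem bb_eq (D : Subgroup G) (b : BlockT M 𝐂[D]) : bb D b = red (eB 𝐂[D] b) := br_eB D b

theorem bb_idem (D : Subgroup G) (b : BlockT M 𝐂[D]) : bb D b * bb D b = bb D b := by
  rw [bb_eq, ← map_mul, eB_idem]

theorem bb_orth (D : Subgroup G) {b b' : BlockT M 𝐂[D]} (h : b ≠ b') : bb D b * bb D b' = 0 := by
  rw [bb_eq, bb_eq, ← map_mul, eB_orth _ h, map_zero]

theorem sum_bb (D : Subgroup G) : ∑ b : BlockT M 𝐂[D], bb D b = 1 := by
  unfold bb
  rw [← map_sum, sum_eB, br_one]

theorem bb_commute (D : Subgroup G) (x : MonoidAlgebra (localSubring M) G) (b : BlockT M 𝐂[D]) :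
    Commute (br D x) (bb D b) := by
  rw [bb_eq]
  exact br_commute x (red_mem_cen (eB_mem_cen _ b))

theorem coeF_pow {X : Type*} [Group X] [Fintype X] (x : MonoidAlgebra (localSubring M) X) (k : ℕ) :
    coeF (x ^ k) = convPow (coeF x) k := by
  induction k with
  | zero => rw [pow_zero, coeF_one]; rfl
  | succ k ih => rw [pow_succ', coeF_mul, ih]; rfl

theorem inv_coeF_of_mem_cen {S : Subgroup G} {x : MonoidAlgebra (localSubring M) G}
    (hx : x ∈ cen (localSubring M) (S : Set G)) : Inv S (coeF x) := by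
  rw [mem_cen_coeff] at hx
  intro s hs y
  have h1 := hx s⁻¹ (S.inv_mem hs) y
  rw [inv_inv] at h1
  simp only [coeF_apply]
  rw [h1]

/-- A nilpotence statement for central functions. -/
theorem red_nil_of_omega (X : Subgroup G) {y : MonoidAlgebra (localSubring M) G} {f : X → ℂ}
    (hcoe : coeF y = ext0 X f) (hfcl : IsClassFunction X f)
    (hω : ∀ ξ' : IrrCharacter X, MemLocalIdeal M (omega (ξ' : X → ℂ) f)) :
    red (y ^ Fintype.card (IrrCharacter X)) = 0 := by
  classical
  have hfR : ∀ g, MemLocalRing M (f g) := by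
    intro g
    have := coeF_local y (g : G)
    rwa [hcoe, ext0_coe] at this
  have hZ := mem_Zc_of_classFunction (M := M) hfcl hfR
  have hinv := invF_omega hfcl
  have hpow := inI_pow hZ hω
  apply red_eq_zero_iff.2
  intro g
  apply Cfsg.Agent.Lib.BlkTrace.maxIdeal_of_memLocalIdeal
  have h1 := congrFun (coeF_pow y (Fintype.card (IrrCharacter X))) g
  rw [hcoe, convPow_ext0] at h1
  have h2 : ∀ z, MemLocalIdeal M (convPow f (Fintype.card (IrrCharacter X)) z) := by
    intro z
    have h3 := hpow z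
    rw [← convPow_invF, hinv] at h3
    exact h3
  have h3 := memLocalIdeal_ext0 X h2 g
  rw [← h1] at h3
  exact h3

/-- If an idempotent of `R[G]` fixed by `Q` and commuting with `C(Q)` has nonzero Brauer image on
the block `c`, then `c` occurs in it. -/
theorem occ_of_br_ne (hM : IsPModular p M) {Q : Subgroup G} (hQ : IsPGroup p Q)
    {x : MonoidAlgebra (localSubring M) G} (hx : x * x = x)
    (hxQ : x ∈ cen (localSubring M) (Q : Set G)) (hxC : x ∈ cen (localSubring M) (𝐂[Q] : Set G))
    (c : BlockT M 𝐂[Q]) (h : br Q x * bb Q c ≠ 0) :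
    ∀ ξ ∈ c.1, MemLocalIdeal M (brO Q (coeF x) ξ - 1) := by
  classical
  intro ξ hξ
  have hβQ : Inv Q (coeF x) := inv_coeF_of_mem_cen hxQ
  have hβC : Inv 𝐂[Q] (coeF x) := inv_coeF_of_mem_cen hxC
  have hR : ∀ g, MemLocalRing M (coeF x g) := fun g => coeF_local x g
  have hconv : conv (coeF x) (coeF x) = coeF x := by
    rw [← coeF_mul, hx]
  rcases memLocalIdeal_or_of_idem (memLocalRing_brO hβC hR ξ)
    (brO_idem_of_conv hM hQ hβQ hβC hR hconv ξ) with hz | hz
  swap
  · exact hz
  exfalso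
  apply h
  -- the functions on `C(Q)`
  have hrcl : IsClassFunction 𝐂[Q] (resC 𝐂[Q] (coeF x)) := resC_isClassFunction hβC
  have hrR : ∀ g, MemLocalRing M (resC 𝐂[Q] (coeF x) g) := fun g => hR g
  obtain ⟨y₁, hy₁⟩ : ∃ y₁ : MonoidAlgebra (localSubring M) G, coeF y₁ = ext0 𝐂[Q] (resC 𝐂[Q] (coeF x)) :=
    ⟨toR _ (memLocalRing_ext0 𝐂[Q] hrR), rfl⟩
  have hcoe : coeF (y₁ * eB 𝐂[Q] c) = ext0 𝐂[Q] (conv (resC 𝐂[Q] (coeF x)) (blockCoeff c.1)) := by
    rw [coeF_mul, coeF_eB, hy₁, subgroupBlockCoeff_eq_ext0, conv_ext0]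
  have hfcl : IsClassFunction 𝐂[Q] (conv (resC 𝐂[Q] (coeF x)) (blockCoeff c.1)) :=
    conv_isClassFunction hrcl (BlockNormal.blockCoeff_isClassFunction c.1)
  have hω : ∀ ξ' : IrrCharacter 𝐂[Q], MemLocalIdeal M
      (omega (ξ' : 𝐂[Q] → ℂ) (conv (resC 𝐂[Q] (coeF x)) (blockCoeff c.1))) := by
    intro ξ'
    rw [omega_conv ξ'.2 hrcl (BlockNormal.blockCoeff_isClassFunction c.1),
      BrauerPair.omega_blockCoeff]
    by_cases hξ' : ξ' ∈ c.1
    · rw [ind_of_mem hξ', mul_one]
      have hsb : SameBlock M (ξ : 𝐂[Q] → ℂ) ξ' := by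
        obtain ⟨χ₁, hχ₁⟩ := c.2
        rw [hχ₁] at hξ hξ'
        exact sameBlock_trans (sameBlock_symm hξ) hξ'
      have h1 := brO_sub_of_sameBlock hβC hR hsb
      have h2 := memLocalIdeal_sub hz h1
      have e : brO Q (coeF x) ξ - (brO Q (coeF x) ξ - brO Q (coeF x) ξ') = brO Q (coeF x) ξ' := by ring
      rw [e] at h2
      exact h2
    · rw [ind_of_not_mem hξ', mul_zero]
      exact memLocalIdeal_zero
  -- the reduction
  have hredy : red (y₁ * eB 𝐂[Q] c) = br Q x * bb Q c := by
    rw [map_mul, bb_eq]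
    congr 1
    apply ext_coeff
    intro z
    by_cases hz' : z ∈ 𝐂[Q]
    · rw [br_coeff_mem Q x hz', coeff_red]
      congr 1
      apply Subtype.ext
      show coeF y₁ z = coeF x z
      rw [hy₁, ext0_of_mem _ _ hz']
      rfl
    · rw [br_coeff_not_mem Q x hz', coeff_red]
      have : y₁.coeff z = 0 := by
        apply Subtype.ext
        show coeF y₁ z = 0
        rw [hy₁, ext0_of_not_mem _ _ hz']
      rw [this, map_zero]
  have hk : Fintype.card (IrrCharacter 𝐂[Q]) ≠ 0 := by
    have : Nonempty (IrrCharacter 𝐂[Q]) := ⟨c.2.choose⟩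
    exact Fintype.card_ne_zero
  have hnil := red_nil_of_omega 𝐂[Q] hcoe hfcl hω
  rw [map_pow, hredy] at hnil
  -- the product is idempotent
  have hbrx : br Q x * br Q x = br Q x := by
    rw [← br_mul (hpm_of hM) hQ hxQ hxQ, hx]
  have hidem : (br Q x * bb Q c) * (br Q x * bb Q c) = br Q x * bb Q c := by
    calc (br Q x * bb Q c) * (br Q x * bb Q c) = br Q x * (bb Q c * br Q x) * bb Q c := by
          simp only [mul_assoc]
      _ = br Q x * (br Q x * bb Q c) * bb Q c := by rw [(bb_commute Q x c).eq]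
      _ = (br Q x * br Q x) * (bb Q c * bb Q c) := by simp only [mul_assoc]
      _ = br Q x * bb Q c := by rw [hbrx, bb_idem]
  exact eq_zero_of_idem_pow hidem hk hnil

end Bb

end Cfsg.Agent.Lib.StarBlk
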