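import Mathlib
import Cfsg.Agent.Lib.StarBlk

/-!
# Primitive idempotents and Brauer pairs

If `i` is primitive in `R[G]^{Q H}` with `Br_Q(i)` in the block `c` of `C(Q)`, and
`(D, b) ≤ (Q, c)`, then `Br_D(i)` lies in the block `b` of `C(D)`.
-/

set_option autoImplicit false
set_option linter.unusedSectionVars false
set_option linter.unusedVariables false
set_option linter.style.haveILetI false

namespace Cfsg.Agent.Lib.StarP

open Polynomial IsLocalRing Cfsg Cfsg.Agent.Lib.StarFit Cfsg.Agent.Lib.StarGrp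
open Cfsg.Agent.Lib.StarLoc Cfsg.Agent.Lib.BlockLocal Cfsg.Agent.Lib.BlockCover
open Cfsg.Agent.Lib.BlockResidue Cfsg.Agent.Lib.BrauerMap Cfsg.Agent.Lib.BrauerPair
open Cfsg.Agent.Lib.BrauerSub Cfsg.Agent.Lib.BlockIdem Cfsg.Agent.Lib.CharIntegrality
open Cfsg.Agent.Lib.BlkBasic Cfsg.Agent.Lib.StarBlk Cfsg.Agent.Lib.BrauerCen
open Cfsg.Agent.Lib.StarFit.LocSys

universe u

variable {G : Type u} [Group G] [Fintype G] {p : ℕ} [hp : Fact p.Prime] {M : Ideal AlgInt}
  [hMp : M.IsPrime]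

local notation "𝐂[" R "]" => Subgroup.centralizer ((R : Subgroup G) : Set G)
local notation "𝐍[" R "]" => Subgroup.normalizer ((R : Subgroup G) : Set G)

noncomputable local instance fintypeSubP {A : Type*} [Group A] [Finite A] (K : Subgroup A) : Fintype K :=
  Fintype.ofFinite K

/-- The fixed points of `Q` and `H`. -/
noncomputable abbrev SS (M : Ideal AlgInt) [M.IsPrime] (Q H : Subgroup G) :
    Subalgebra (localSubring M) (MonoidAlgebra (localSubring M) G) :=
  cen (localSubring M) ((Q : Set G) ∪ (H : Set G))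

/-- The local system of the group algebra. -/
noncomputable abbrev LL (M : Ideal AlgInt) [M.IsPrime] (G : Type u) [Group G] [Fintype G] :
    LocSys (localSubring M) (MonoidAlgebra (localSubring M) G)
      (MonoidAlgebra (ResidueField (localSubring M)) G) :=
  sys (localSubring M) G splitR_local

theorem homD (hM : IsPModular p M) {D Q H : Subgroup G} (hD : IsPGroup p D) (hDQ : D ≤ Q) :
    LocSys.HomOn (LL M G) (SS M Q H) (br D : MonoidAlgebra (localSubring M) G →+ _) :=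
  homOn_br splitR_local (hpm_of hM) hD (fun x hx => Or.inl (hDQ hx))

theorem SS_anti {D Q H : Subgroup G} (hDQ : D ≤ Q) : SS M Q H ≤ SS M D H :=
  cen_anti (Set.union_subset_union_left _ hDQ)

theorem SS_left {Q H : Subgroup G} {x : MonoidAlgebra (localSubring M) G} (hx : x ∈ SS M Q H) :
    x ∈ cen (localSubring M) (Q : Set G) :=
  cen_anti Set.subset_union_left hx

section Abstract

variable {C : Type*} [Ring C] {ε ē Ω η : C}

theorem absorb (hc : ε * ē = ē * ε) (hē : ē * ē = ē) (h : Ω * (ε * ē * ε) = ε) : ε * ē = ε := by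
  have h1 : ε * ē * ε * ē = ε * ē * ε := by
    calc ε * ē * ε * ē = ε * (ē * ε) * ē := by simp only [mul_assoc]
      _ = ε * (ε * ē) * ē := by rw [hc]
      _ = ε * ε * (ē * ē) := by simp only [mul_assoc]
      _ = ε * (ε * ē) := by rw [hē, mul_assoc]
      _ = ε * (ē * ε) := by rw [hc]
      _ = ε * ē * ε := by rw [mul_assoc]
  calc ε * ē = (Ω * (ε * ē * ε)) * ē := by rw [h]
    _ = Ω * (ε * ē * ε * ē) := by simp only [mul_assoc]
    _ = Ω * (ε * ē * ε) := by rw [h1]
    _ = ε := h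

theorem nil_bar (hc : Commute η ē) (hε : (ε * ē) * (ε * ē) = ε * ē) (hη : η * ē = ε * ē) {N : ℕ}
    (h0 : η ^ (N + 1) = 0) : ε * ē = 0 := by
  apply eq_zero_of_idem_pow hε (Nat.succ_ne_zero N)
  rw [← hη, hc.mul_pow, h0, zero_mul]

end Abstract

section Basic

variable {D Q H : Subgroup G}

theorem comm_of_le (hDQ : D ≤ Q) (hQH : ∀ τ ∈ Q, ∀ s ∈ H, τ * s = s * τ) :
    ∀ τ ∈ D, ∀ s ∈ H, τ * s = s * τ := fun τ hτ s hs => hQH τ (hDQ hτ) s hs

theorem mem_C_of_comm (hQH : ∀ τ ∈ Q, ∀ s ∈ H, τ * s = s * τ) {s : G} (hs : s ∈ H) : s ∈ 𝐂[Q] := by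
  rw [Subgroup.mem_centralizer_iff]
  intro τ hτ
  exact hQH τ hτ s hs

theorem eB_mem_SS (hQH : ∀ τ ∈ Q, ∀ s ∈ H, τ * s = s * τ) (b : BlockT M 𝐂[Q]) :
    eB 𝐂[Q] b ∈ SS M Q H := by
  rw [mem_cen]
  rintro e (he | he)
  · have h1 : e ∈ (𝐂[𝐂[Q]] : Subgroup G) := by
      rw [Subgroup.mem_centralizer_iff]
      intro c hc
      exact ((Subgroup.mem_centralizer_iff.1 hc) e he).symm
    exact mem_cen.1 (eB_mem_cen_of_centralizes 𝐂[Q] b) e h1
  · exact mem_cen.1 (eB_mem_cen 𝐂[Q] b) e (mem_C_of_comm hQH he)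

/-- The Brauer image of a primitive idempotent lies in one block. -/
theorem exists_block (hM : IsPModular p M) (hQ : IsPGroup p Q)
    (hQH : ∀ τ ∈ Q, ∀ s ∈ H, τ * s = s * τ) {i : MonoidAlgebra (localSubring M) G}
    (hi : PrimIn (SS M Q H) i) : ∃ c : BlockT M 𝐂[Q], br Q i * bb Q c = br Q i := by
  classical
  have hψ := homD (H := H) hM hQ (le_refl Q)
  obtain ⟨c, -, w, hwS, -, hw⟩ := exists_linv_of_sum (LL M G) hi Finset.univ
    (fun c : BlockT M 𝐂[Q] => eB 𝐂[Q] c) (fun c _ => eB_mem_SS hQH c) (by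
      rw [sum_eB, mul_one, hi.idem])
  refine ⟨c, absorb (Ω := br Q w) (bb_commute Q i c).eq (bb_idem Q c) ?_⟩
  have h1 := congrArg (br Q) hw
  have hc := eB_mem_SS hQH c
  rw [hψ.mul _ hwS _ ((SS M Q H).mul_mem ((SS M Q H).mul_mem hi.mem hc) hi.mem),
    hψ.mul _ ((SS M Q H).mul_mem hi.mem hc) _ hi.mem, hψ.mul _ hi.mem _ hc] at h1
  exact h1

end Basic

section Stab

/-- The stabilizer in `Q` of an element under conjugation. -/
def stabY (Q : Subgroup G) (x : MonoidAlgebra (localSubring M) G) : Subgroup G where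
  carrier := {t | t ∈ Q ∧ cj t x = x}
  one_mem' := ⟨Q.one_mem, cj_one x⟩
  mul_mem' := by
    rintro a b ⟨ha, ha'⟩ ⟨hb, hb'⟩
    exact ⟨Q.mul_mem ha hb, by rw [cj_mul, hb', ha']⟩
  inv_mem' := by
    rintro a ⟨ha, ha'⟩
    refine ⟨Q.inv_mem ha, ?_⟩
    calc cj a⁻¹ x = cj a⁻¹ (cj a x) := by rw [ha']
      _ = x := by rw [← cj_mul, inv_mul_cancel, cj_one]

theorem stabY_le (Q : Subgroup G) (x : MonoidAlgebra (localSubring M) G) : stabY Q x ≤ Q :=
  fun _ h => h.1

variable {D Q H : Subgroup G}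

/-- Conjugates of the idempotent of a block of `C(D)` which are not fixed are orthogonal to it. -/
theorem red_cj_mul_bb (hQN : Q ≤ 𝐍[D]) (b : BlockT M 𝐂[D]) {t : G} (ht : t ∈ Q)
    (hne : cj t (eB 𝐂[D] b) ≠ eB 𝐂[D] b) : br D (cj t (eB 𝐂[D] b)) * bb D b = 0 := by
  have htN : t ∈ 𝐍[𝐂[D]] := le_normalizer_centralizer hQN ht
  rw [cj_eB _ htN] at hne ⊢
  have hne' : (⟨twistSet (conjAut 𝐂[D] t htN) b.1, isPBlock_twistSet _ b.2⟩ : BlockT M 𝐂[D]) ≠ b := by
    intro h
    apply hne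
    rw [h]
  exact bb_orth D hne'

theorem br_rtr_mul_bb (hQN : Q ≤ 𝐍[D]) {Y : Subgroup G} (hYQ : Y ≤ Q) (b : BlockT M 𝐂[D])
    (hY : ∀ t, t ∈ Y ↔ t ∈ Q ∧ cj t (eB 𝐂[D] b) = eB 𝐂[D] b) :
    br D (rtr Y Q (eB 𝐂[D] b)) * bb D b = bb D b := by
  classical
  unfold rtr
  rw [map_sum, Finset.sum_mul]
  have hmk : ∀ q : Q ⧸ Y.subgroupOf Q, ((q.out : Q) : G) ∈ Y ↔ q = QuotientGroup.mk (1 : Q) := by
    intro q
    have h2 : (QuotientGroup.mk q.out : Q ⧸ Y.subgroupOf Q) = q := QuotientGroup.out_eq' q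
    constructor
    · intro h
      rw [← h2, QuotientGroup.eq, Subgroup.mem_subgroupOf]
      simpa using Y.inv_mem h
    · intro h
      have h3 : (QuotientGroup.mk q.out : Q ⧸ Y.subgroupOf Q) = QuotientGroup.mk (1 : Q) := by
        rw [h2, h]
      rw [QuotientGroup.eq, Subgroup.mem_subgroupOf] at h3
      simpa using Y.inv_mem h3
  rw [Finset.sum_eq_single (QuotientGroup.mk (1 : Q) : Q ⧸ Y.subgroupOf Q)]
  · have h1 := (hmk (QuotientGroup.mk (1 : Q))).2 rfl
    rw [((hY _).1 h1).2]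
    exact bb_idem D b
  · intro q _ hq
    apply red_cj_mul_bb hQN b (q.out).2
    intro h
    exact hq ((hmk q).1 ((hY _).2 ⟨(q.out).2, h⟩))
  · intro h
    exact (h (@Finset.mem_univ _ (_) _)).elim

end Stab

section NS

variable {D Q H : Subgroup G}

/-- **The normal step.** -/
theorem normal_step (hM : IsPModular p M) (hQ : IsPGroup p Q) (hDQ : D ≤ Q) (hQN : Q ≤ 𝐍[D])
    (hQH : ∀ τ ∈ Q, ∀ s ∈ H, τ * s = s * τ) {i : MonoidAlgebra (localSubring M) G}
    (hi : PrimIn (SS M Q H) i) (h0 : br Q i ≠ 0) {c : BlockT M 𝐂[Q]}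
    (hc : br Q i * bb Q c = br Q i) :
    ∃ b : BlockT M 𝐂[D], IsNormalSubpair p M D b.1 Q c.1 ∧ br D i * bb D b = br D i := by
  classical
  have hD : IsPGroup p D := hQ.to_le hDQ
  have hψ := homD (H := H) hM hD hDQ
  have hψQ := homD (H := H) hM hQ (le_refl Q)
  have hεε : br D i * br D i = br D i := by
    rw [← hψ.mul _ hi.mem _ hi.mem, hi.idem]
  have hε0 : br D i ≠ 0 := fun h => h0 (br_eq_zero_of_br_eq_zero hDQ h)
  obtain ⟨b, hb⟩ : ∃ b : BlockT M 𝐂[D], br D i * bb D b ≠ 0 := by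
    by_contra hne
    push Not at hne
    apply hε0
    calc br D i = br D i * ∑ b : BlockT M 𝐂[D], bb D b := by rw [sum_bb, mul_one]
      _ = 0 := by
        rw [Finset.mul_sum]
        exact Finset.sum_eq_zero fun b _ => hne b
  have hidem : ∀ b' : BlockT M 𝐂[D], (br D i * bb D b') * (br D i * bb D b') = br D i * bb D b' := by
    intro b'
    calc (br D i * bb D b') * (br D i * bb D b') = br D i * (bb D b' * br D i) * bb D b' := by
          simp only [mul_assoc]
      _ = br D i * (br D i * bb D b') * bb D b' := by rw [(bb_commute D i b').eq]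
      _ = (br D i * br D i) * (bb D b' * bb D b') := by simp only [mul_assoc]
      _ = br D i * bb D b' := by rw [hεε, bb_idem]
  set e := eB 𝐂[D] b with he
  -- the stabilizer is all of `Q`
  have hY : stabY Q e = Q := by
    by_contra hne
    set Y := stabY Q e with hYdef
    have hYQ : Y ≤ Q := stabY_le Q e
    have heY : e ∈ SS M Y H := by
      rw [mem_cen_conj]
      rintro t (ht | ht)
      · exact ht.2
      · exact mem_cen_conj.1 (eB_mem_SS (comm_of_le hDQ hQH) b) t (Or.inr ht)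
    have hHQ' : ∀ h ∈ (H : Set G), ∀ y ∈ Q, h * y = y * h := fun h hh y hy => (hQH y hy h hh).symm
    have hrS : rtr Y Q e ∈ SS M Q H := rtr_mem heY hYQ hHQ'
    have hbr0 : br Q (rtr Y Q e) = 0 := br_rtr_eq_zero (hpm_of hM) hQ hYQ hne e
    have hnil : (LL M G).Nil i (rtr Y Q e) := by
      rcases nil_or_linv (LL M G) hi hrS with h1 | ⟨w, hwS, -, hw⟩
      · exact h1
      exfalso
      apply h0
      have h2 := congrArg (br Q) hw
      rw [hψQ.mul _ hwS _ ((SS M Q H).mul_mem ((SS M Q H).mul_mem hi.mem hrS) hi.mem),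
        hψQ.mul _ ((SS M Q H).mul_mem hi.mem hrS) _ hi.mem, hψQ.mul _ hi.mem _ hrS, hbr0] at h2
      rw [← h2]
      simp
    obtain ⟨N, hN⟩ := hnil
    have hyS := (SS M Q H).mul_mem ((SS M Q H).mul_mem hi.mem hrS) hi.mem
    have h1 : (br D (i * rtr Y Q e * i)) ^ (N + 1) = 0 := by
      rw [← hψ.pow hyS]
      exact hψ.ker _ ((SS M Q H).pow_mem hyS _) hN
    apply hb
    refine nil_bar (η := br D (i * rtr Y Q e * i)) (bb_commute D _ b) (hidem b) ?_ h1
    rw [hψ.mul _ ((SS M Q H).mul_mem hi.mem hrS) _ hi.mem, hψ.mul _ hi.mem _ hrS]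
    have h2 : br D (rtr Y Q e) * bb D b = bb D b :=
      br_rtr_mul_bb hQN hYQ b (fun t => Iff.rfl)
    calc br D i * br D (rtr Y Q e) * br D i * bb D b
        = br D i * br D (rtr Y Q e) * (br D i * bb D b) := by rw [mul_assoc]
      _ = br D i * br D (rtr Y Q e) * (bb D b * br D i) := by rw [(bb_commute D i b).eq]
      _ = br D i * (br D (rtr Y Q e) * bb D b) * br D i := by simp only [mul_assoc]
      _ = br D i * (bb D b * br D i) := by rw [h2, mul_assoc]
      _ = br D i * (br D i * bb D b) := by rw [(bb_commute D i b).eq]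
      _ = br D i * bb D b := by rw [← mul_assoc, hεε]
  have hfix : ∀ t ∈ Q, cj t e = e := by
    intro t ht
    have : t ∈ stabY Q e := by rw [hY]; exact ht
    exact this.2
  have heS : e ∈ SS M Q H := by
    rw [mem_cen_conj]
    rintro t (ht | ht)
    · exact hfix t ht
    · exact mem_cen_conj.1 (eB_mem_SS (comm_of_le hDQ hQH) b) t (Or.inr ht)
  have hnotnil : ¬ (LL M G).Nil i e := by
    rintro ⟨N, hN⟩
    have hyS := (SS M Q H).mul_mem ((SS M Q H).mul_mem hi.mem heS) hi.mem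
    have h1 : (br D (i * e * i)) ^ (N + 1) = 0 := by
      rw [← hψ.pow hyS]
      exact hψ.ker _ ((SS M Q H).pow_mem hyS _) hN
    apply hb
    refine nil_bar (η := br D (i * e * i)) (bb_commute D _ b) (hidem b) ?_ h1
    rw [hψ.mul _ ((SS M Q H).mul_mem hi.mem heS) _ hi.mem, hψ.mul _ hi.mem _ heS]
    show br D i * bb D b * br D i * bb D b = br D i * bb D b
    calc br D i * bb D b * br D i * bb D b = br D i * (bb D b * br D i) * bb D b := by
          simp only [mul_assoc]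
      _ = br D i * (br D i * bb D b) * bb D b := by rw [(bb_commute D i b).eq]
      _ = (br D i * br D i) * (bb D b * bb D b) := by simp only [mul_assoc]
      _ = br D i * bb D b := by rw [hεε, bb_idem]
  have habs : br D i * bb D b = br D i := by
    rcases nil_or_linv (LL M G) hi heS with h1 | ⟨w, hwS, -, hw⟩
    · exact absurd h1 hnotnil
    refine absorb (Ω := br D w) (bb_commute D i b).eq (bb_idem D b) ?_
    have h2 := congrArg (br D) hw
    rw [hψ.mul _ hwS _ ((SS M Q H).mul_mem ((SS M Q H).mul_mem hi.mem heS) hi.mem),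
      hψ.mul _ ((SS M Q H).mul_mem hi.mem heS) _ hi.mem, hψ.mul _ hi.mem _ heS] at h2
    exact h2
  refine ⟨b, ?_, habs⟩
  refine ⟨⟨hD, b.2⟩, ⟨hQ, c.2⟩, hDQ, hQN, ?_, ?_⟩
  · intro x hx
    exact stabilizes_of_cj 𝐂[D] (le_normalizer_centralizer hQN hx) (hfix x hx)
  · -- the occurrence
    intro ξ hξ
    rw [brauerOmega_eq]
    have hidemE : e * e = e := eB_idem _ _
    have hmemC : e ∈ cen (localSubring M) (𝐂[Q] : Set G) := by
      refine cen_anti ?_ (eB_mem_cen 𝐂[D] b)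
      exact fun x hx => Subgroup.centralizer_le hDQ hx
    have h1 : br Q (i * e) = br Q i := by
      apply br_eq_of_br_eq hDQ
      rw [hψ.mul _ hi.mem _ heS]
      exact habs
    have hne : br Q e * bb Q c ≠ 0 := by
      intro h2
      apply h0
      have h3 : br Q i = br Q i * br Q e := by
        rw [← hψQ.mul _ hi.mem _ heS, h1]
      calc br Q i = br Q i * br Q e := h3
        _ = (br Q i * bb Q c) * br Q e := by rw [hc]
        _ = br Q i * (bb Q c * br Q e) := by rw [mul_assoc]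
        _ = br Q i * (br Q e * bb Q c) := by rw [(bb_commute Q e c).eq]
        _ = 0 := by rw [h2, mul_zero]
    have := occ_of_br_ne hM hQ hidemE (SS_left heS) hmemC c hne ξ hξ
    exact this

end NS

section Claim

variable {D N H : Subgroup G}

theorem bb_cj (hM : IsPModular p M) {b : BlockT M 𝐂[D]} {t : G} (ht : t ∈ 𝐍[D])
    (h : cj t (eB 𝐂[D] b) = eB 𝐂[D] b) : cj t (bb D b) = bb D b := by
  unfold bb
  rw [← br_cj ht, h]

theorem cj_eB_of_stabilizes {K : Subgroup G} {F : BlockT M K} {t : G}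
    (h : StabilizesBlock K F.1 t) : cj t (eB K F) = eB K F := by
  rw [cj_eB K h.1]
  congr 1
  exact Subtype.ext (twistSet_eq_of_stabilizes F.2 h)

/-- Idempotents below a sum of orthogonal idempotents. -/
theorem sum_left {A : Type*} [Ring A] {κ : Type*} [Fintype κ] {e : κ → A} {a : A}
    (h1 : ∀ j, e j * e j = e j) (h2 : ∀ j k, j ≠ k → e j * e k = 0) (h3 : ∑ j, e j = a) (j : κ) :
    a * e j = e j := by
  classical
  rw [← h3, Finset.sum_mul, Finset.sum_eq_single j]
  · exact h1 j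
  · intro k _ hk
    exact h2 k j hk
  · simp

theorem sum_right {A : Type*} [Ring A] {κ : Type*} [Fintype κ] {e : κ → A} {a : A}
    (h1 : ∀ j, e j * e j = e j) (h2 : ∀ j k, j ≠ k → e j * e k = 0) (h3 : ∑ j, e j = a) (j : κ) :
    e j * a = e j := by
  classical
  rw [← h3, Finset.mul_sum, Finset.sum_eq_single j]
  · exact h1 j
  · intro k _ hk
    exact h2 j k hk.symm
  · simp

/-- Absorption by relative traces in a corner. -/
theorem rtr_corner {X R : Subgroup G} {W ι v : MonoidAlgebra (localSubring M) G}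
    (hW : W ∈ cen (localSubring M) (R : Set G)) (hι : ι ∈ cen (localSubring M) (R : Set G))
    (hι2 : ι * ι = ι) (hW1 : ι * W * ι = W) (hW2 : W * (ι * rtr X R v * ι) = ι) :
    rtr X R (W * v * ι) = ι := by
  have hWι : W * ι = W := by
    rw [← hW1, mul_assoc, hι2]
  rw [rtr_mul_right hι, rtr_mul_left hW]
  calc W * rtr X R v * ι = (W * ι) * rtr X R v * ι := by rw [hWι]
    _ = W * (ι * rtr X R v * ι) := by simp only [mul_assoc]
    _ = ι := hW2

/-- The dichotomy for primitive idempotents below `i`. -/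
theorem type12 (hM : IsPModular p M) (hNN : N ≤ 𝐍[D]) (hNp : IsPGroup p N)
    (hHp : ∀ s ∈ H, ¬ p ∣ orderOf s) (hNH : ∀ τ ∈ N, ∀ s ∈ H, τ * s = s * τ) (b : BlockT M 𝐂[D])
    (hstab : ∀ t ∈ N, cj t (eB 𝐂[D] b) = eB 𝐂[D] b) {i : MonoidAlgebra (localSubring M) G}
    (hlocal : ∀ R, D < R → R ≤ N → ∀ ι, PrimIn (SS M R H) ι → i * ι = ι → ι * i = ι → br R ι ≠ 0 →
      br D ι * bb D b = br D ι) :
    ∀ (n : ℕ) (R : Subgroup G), Nat.card R = n → D ≤ R → R ≤ N → ∀ ι, PrimIn (SS M R H) ι →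
      i * ι = ι → ι * i = ι →
      (br D ι * bb D b = br D ι ∨ ∃ w ∈ SS M D H, ι * w = w ∧ w * ι = w ∧ rtr D R w = ι) := by
  classical
  intro n
  induction n using Nat.strong_induction_on with
  | _ n ih =>
  intro R hn hDR hRN ι hι h1 h2
  rcases eq_or_lt_of_le hDR with rfl | hlt
  · exact Or.inr ⟨ι, hι.mem, hι.idem, hι.idem, rtr_self (SS_left hι.mem)⟩
  by_cases h0 : br R ι = 0
  swap
  · exact Or.inl (hlocal R hlt hRN ι hι h1 h2 h0)
  have hR : IsPGroup p R := hNp.to_le hRN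
  have hD : IsPGroup p D := hR.to_le hDR
  have hRH := comm_of_le hRN hNH
  have hHR' : ∀ h ∈ (H : Set G), ∀ y ∈ R, h * y = y * h := fun h hh y hy => (hRH y hy h hh).symm
  obtain ⟨Z, hZR, hidx, w, hwS, hιw, hwι, hrtr⟩ := rosenberg splitR_local hR hHp hRH hι h0
  by_cases hDZ : D ≤ Z
  swap
  · left
    rw [← hrtr, br_rtr_eq_zero_of_not_le (hpm_of hM) hR hZR hidx hDR hDZ (SS_left hwS), zero_mul]
  have hZne : Z ≠ R := by
    rintro rfl
    have : (Z.subgroupOf Z).index = 1 := by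
      rw [Subgroup.subgroupOf_self, Subgroup.index_top]
    rw [this] at hidx
    exact hp.out.one_lt.ne hidx
  have hZlt : Nat.card Z < n := by
    rw [← hn]
    exact card_lt_card_of_lt (lt_of_le_of_ne hZR hZne)
  have hιZ : ι ∈ SS M Z H := SS_anti hZR hι.mem
  obtain ⟨κ, _, e, he1, he2, he3⟩ := exists_prim_decomp (LL M G) hιZ hι.idem
  have hidem : ∀ j, e j * e j = e j := fun j => (he1 j).idem
  have hl : ∀ j, ι * e j = e j := sum_left hidem he2 he3
  have hr : ∀ j, e j * ι = e j := sum_right hidem he2 he3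
  have hl' : ∀ j, i * e j = e j := fun j => by
    rw [← hl j, ← mul_assoc, h1]
  have hr' : ∀ j, e j * i = e j := fun j => by
    rw [← hr j, mul_assoc, h2]
  have hty := fun j => ih _ hZlt Z rfl hDZ (hZR.trans hRN) (e j) (he1 j) (hl' j) (hr' j)
  have hxS : ∀ j, rtr Z R (e j * w) ∈ SS M R H := fun j =>
    rtr_mem ((SS M Z H).mul_mem (he1 j).mem hwS) hZR hHR'
  have hsumx : ∑ j, rtr Z R (e j * w) = ι := by
    rw [← rtr_sum, ← Finset.sum_mul, he3, hιw, hrtr]
  have hwD : w ∈ SS M D H := SS_anti hDZ hwS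
  have hιD : ι ∈ SS M D H := SS_anti hDR hι.mem
  set T2 : κ → Prop := fun j => ∃ w' ∈ SS M D H, e j * w' = w' ∧ w' * e j = w' ∧ rtr D Z w' = e j with hT2
  by_cases hcase : ∃ j, T2 j ∧ LInv (SS M R H) ι (rtr Z R (e j * w))
  · right
    obtain ⟨j, ⟨w', hw'S, h1', h2', h3'⟩, W, hWS, hW1, hW2⟩ := hcase
    have hWD : W ∈ SS M D H := SS_anti hDR hWS
    have hιW : ι * W = W := by
      rw [← hW1, ← mul_assoc, ← mul_assoc, hι.idem]
    have hWι : W * ι = W := by
      rw [← hW1, mul_assoc, hι.idem]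
    refine ⟨W * (w' * w) * ι, (SS M D H).mul_mem ((SS M D H).mul_mem hWD
      ((SS M D H).mul_mem hw'S hwD)) hιD, ?_, ?_, ?_⟩
    · rw [← mul_assoc, ← mul_assoc, hιW]
    · rw [mul_assoc, hι.idem]
    · apply rtr_corner (SS_left hWS) (SS_left hι.mem) hι.idem hW1
      have hw'w : w' * w ∈ cen (localSubring M) (D : Set G) := SS_left ((SS M D H).mul_mem hw'S hwD)
      rw [← rtr_trans hw'w hDZ hZR, rtr_mul_right (SS_left hwS), h3']
      exact hW2
  · left
    push Not at hcase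
    set 𝒜 := Finset.univ.filter T2 with h𝒜
    set ℬ := Finset.univ.filter (fun j => ¬ T2 j) with hℬ
    have hnilA : (LL M G).Nil ι (∑ j ∈ 𝒜, rtr Z R (e j * w)) := by
      apply nil_sum hι 𝒜 _ (fun j _ => hxS j)
      intro j hj
      rcases nil_or_linv (LL M G) hι (hxS j) with h3 | h3
      · exact h3
      · exact absurd h3 (hcase j (Finset.mem_filter.1 hj).2)
    have hsplit : (∑ j ∈ 𝒜, rtr Z R (e j * w)) + ∑ j ∈ ℬ, rtr Z R (e j * w) = ι := by
      rw [← hsumx]
      exact Finset.sum_filter_add_sum_filter_not Finset.univ T2 _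
    have hyS : (∑ j ∈ ℬ, rtr Z R (e j * w)) ∈ SS M R H := (SS M R H).sum_mem fun j _ => hxS j
    have hAS : (∑ j ∈ 𝒜, rtr Z R (e j * w)) ∈ SS M R H := (SS M R H).sum_mem fun j _ => hxS j
    rcases nil_or_linv (LL M G) hι hyS with h3 | ⟨W, hWS, hW1, hW2⟩
    · exfalso
      have h4 := nil_add hι hAS hyS hnilA h3
      rw [hsplit] at h4
      exact hι.not_nil_self h4
    -- the element `w₁`
    have hy_eq : ∑ j ∈ ℬ, rtr Z R (e j * w) = rtr Z R (∑ j ∈ ℬ, e j * w) := (rtr_sum _ _ _ _).symm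
    have hwB : (∑ j ∈ ℬ, e j * w) ∈ SS M Z H :=
      (SS M Z H).sum_mem fun j _ => (SS M Z H).mul_mem (he1 j).mem hwS
    rw [hy_eq] at hW2
    have hw1 := rtr_corner (SS_left hWS) (SS_left hι.mem) hι.idem hW1 hW2
    have hW1S : W ∈ SS M Z H := SS_anti hZR hWS
    have hw1S : W * (∑ j ∈ ℬ, e j * w) * ι ∈ SS M Z H :=
      (SS M Z H).mul_mem ((SS M Z H).mul_mem hW1S hwB) hιZ
    have hψ := homD (H := H) hM hD hDZ
    set ē := bb D b with hē
    have hB : br D (∑ j ∈ ℬ, e j * w) * ē = br D (∑ j ∈ ℬ, e j * w) := by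
      rw [map_sum, Finset.sum_mul]
      refine Finset.sum_congr rfl fun j hj => ?_
      have h5 : br D (e j) * ē = br D (e j) := by
        rcases hty j with h6 | h6
        · exact h6
        · exact absurd h6 (Finset.mem_filter.1 hj).2
      rw [hψ.mul _ (he1 j).mem _ hwS]
      calc br D (e j) * br D w * ē = br D (e j) * (br D w * ē) := mul_assoc _ _ _
        _ = br D (e j) * (ē * br D w) := by rw [(bb_commute D w b).eq]
        _ = (br D (e j) * ē) * br D w := (mul_assoc _ _ _).symm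
        _ = br D (e j) * br D w := by rw [h5]
    have hw1abs : br D (W * (∑ j ∈ ℬ, e j * w) * ι) * ē = br D (W * (∑ j ∈ ℬ, e j * w) * ι) := by
      rw [hψ.mul _ ((SS M Z H).mul_mem hW1S hwB) _ hιZ, hψ.mul _ hW1S _ hwB]
      calc br D W * br D (∑ j ∈ ℬ, e j * w) * br D ι * ē
          = br D W * br D (∑ j ∈ ℬ, e j * w) * (br D ι * ē) := mul_assoc _ _ _
        _ = br D W * br D (∑ j ∈ ℬ, e j * w) * (ē * br D ι) := by rw [(bb_commute D ι b).eq]
        _ = br D W * (br D (∑ j ∈ ℬ, e j * w) * ē) * br D ι := by simp only [mul_assoc]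
        _ = br D W * br D (∑ j ∈ ℬ, e j * w) * br D ι := by rw [hB]
    -- a generator of `R` modulo `Z`
    obtain ⟨t, htR, htZ⟩ : ∃ t ∈ R, t ∉ Z := by
      by_contra hne
      push Not at hne
      exact hZne (le_antisymm hZR hne)
    have hsum := rtr_eq_sum_pow hR hZR hidx htR htZ (SS_left hw1S)
    rw [hw1] at hsum
    have htN : ∀ k : ℕ, t ^ k ∈ N := fun k => N.pow_mem (hRN htR) k
    rw [hsum, map_sum, Finset.sum_mul]
    refine Finset.sum_congr rfl fun k _ => ?_
    rw [br_cj (hNN (htN k))]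
    have h6 : cj (t ^ k) ē = ē := bb_cj hM (hNN (htN k)) (hstab _ (htN k))
    calc cj (t ^ k) (br D (W * (∑ j ∈ ℬ, e j * w) * ι)) * ē
        = cj (t ^ k) (br D (W * (∑ j ∈ ℬ, e j * w) * ι)) * cj (t ^ k) ē := by rw [h6]
      _ = cj (t ^ k) (br D (W * (∑ j ∈ ℬ, e j * w) * ι) * ē) := (cj_mul' _ _ _).symm
      _ = cj (t ^ k) (br D (W * (∑ j ∈ ℬ, e j * w) * ι)) := by rw [hw1abs]

end Claim

section Main

variable {H : Subgroup G}

/-- The non-normal step of the main theorem. -/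
theorem step_B (hM : IsPModular p M) {D Q : Subgroup G} (hQ : IsPGroup p Q) (hDQ : D < Q)
    (hHp : ∀ s ∈ H, ¬ p ∣ orderOf s) (hQH : ∀ τ ∈ Q, ∀ s ∈ H, τ * s = s * τ) (b : BlockT M 𝐂[D])
    (hstab : ∀ t ∈ Q ⊓ 𝐍[D], cj t (eB 𝐂[D] b) = eB 𝐂[D] b) {i : MonoidAlgebra (localSubring M) G}
    (hi : PrimIn (SS M Q H) i) (h0 : br Q i ≠ 0)
    (hlocal : ∀ R, D < R → R ≤ Q ⊓ 𝐍[D] → ∀ ι, PrimIn (SS M R H) ι → i * ι = ι → ι * i = ι →
      br R ι ≠ 0 → br D ι * bb D b = br D ι) :
    br D i * bb D b = br D i := by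
  classical
  set N := Q ⊓ 𝐍[D] with hN
  have hNQ : N ≤ Q := inf_le_left
  have hNN : N ≤ 𝐍[D] := inf_le_right
  have hDN : D < N := lt_inf_normalizer hQ hDQ
  have hD : IsPGroup p D := hQ.to_le hDQ.le
  have hNp : IsPGroup p N := hQ.to_le hNQ
  have hNH := comm_of_le hNQ hQH
  have hHQ' : ∀ h ∈ (H : Set G), ∀ y ∈ Q, h * y = y * h := fun h hh y hy => (hQH y hy h hh).symm
  have hiN : i ∈ SS M N H := SS_anti hNQ hi.mem
  obtain ⟨κ, _, e, he1, he2, he3⟩ := exists_prim_decomp (LL M G) hiN hi.idem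
  have hidem : ∀ j, e j * e j = e j := fun j => (he1 j).idem
  have hl : ∀ j, i * e j = e j := sum_left hidem he2 he3
  have hr : ∀ j, e j * i = e j := sum_right hidem he2 he3
  have hty := fun j => type12 hM hNN hNp hHp hNH b hstab hlocal _ N rfl hDN.le le_rfl (e j) (he1 j)
    (hl j) (hr j)
  have hψQ := homD (H := H) hM hD hDQ.le
  have hψN := homD (H := H) hM hD hDN.le
  set T2 : κ → Prop := fun j => ∃ w ∈ SS M D H, e j * w = w ∧ w * e j = w ∧ rtr D N w = e j with hT2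
  have hT2' : ∀ j, T2 j → ∃ w ∈ SS M D H, rtr D N w = e j := fun j ⟨w, hw, _, _, h⟩ => ⟨w, hw, h⟩
  choose! W hWS hWr using hT2'
  set 𝒦 := Finset.univ.filter T2 with h𝒦
  set a := ∑ j ∈ 𝒦, e j with ha
  set WW := ∑ j ∈ 𝒦, W j with hWW
  have hWWS : WW ∈ SS M D H := (SS M D H).sum_mem fun j hj => hWS j (Finset.mem_filter.1 hj).2
  have haN : rtr D N WW = a := by
    rw [hWW, rtr_sum]
    exact Finset.sum_congr rfl fun j hj => hWr j (Finset.mem_filter.1 hj).2
  have haS : a ∈ SS M N H := (SS M N H).sum_mem fun j _ => (he1 j).mem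
  have hia : i * a = a := by
    rw [ha, Finset.mul_sum]
    exact Finset.sum_congr rfl fun j _ => hl j
  have hai : a * i = a := by
    rw [ha, Finset.sum_mul]
    exact Finset.sum_congr rfl fun j _ => hr j
  have haa : a * a = a := by
    rw [ha, Finset.sum_mul_sum]
    refine Finset.sum_congr rfl fun j hj => ?_
    rw [Finset.sum_eq_single j]
    · exact hidem j
    · intro k _ hk
      exact he2 j k hk.symm
    · intro h
      exact absurd hj h
  have hc'S : rtr D Q WW ∈ SS M Q H := rtr_mem hWWS hDQ.le hHQ'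
  have hbrQ : br Q (rtr D Q WW) = 0 := br_rtr_eq_zero (hpm_of hM) hQ hDQ.le hDQ.ne WW
  have hψQQ := homD (H := H) hM hQ (le_refl Q)
  have hnil : (LL M G).Nil i (rtr D Q WW) := by
    rcases nil_or_linv (LL M G) hi hc'S with h1 | ⟨w, hwS, -, hw⟩
    · exact h1
    exfalso
    apply h0
    have h2 := congrArg (br Q) hw
    rw [hψQQ.mul _ hwS _ ((SS M Q H).mul_mem ((SS M Q H).mul_mem hi.mem hc'S) hi.mem),
      hψQQ.mul _ ((SS M Q H).mul_mem hi.mem hc'S) _ hi.mem, hψQQ.mul _ hi.mem _ hc'S, hbrQ] at h2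
    rw [← h2]
    simp
  obtain ⟨n, hn⟩ := hnil
  have hbrD : br D (rtr D Q WW) = br D a := by
    rw [br_rtr_normalizer (hpm_of hM) hQ hDQ.le (SS_left hWWS), haN]
  have hyS := (SS M Q H).mul_mem ((SS M Q H).mul_mem hi.mem hc'S) hi.mem
  have h3 : (br D (i * rtr D Q WW * i)) ^ (n + 1) = 0 := by
    rw [← hψQ.pow hyS]
    exact hψQ.ker _ ((SS M Q H).pow_mem hyS _) hn
  have hψN' := hψN
  have hE : br D (i * rtr D Q WW * i) = br D a := by
    rw [hψQ.mul _ ((SS M Q H).mul_mem hi.mem hc'S) _ hi.mem, hψQ.mul _ hi.mem _ hc'S, hbrD,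
      ← hψN.mul _ hiN _ haS, hia, ← hψN.mul _ haS _ hiN, hai]
  rw [hE] at h3
  have hbaa : br D a * br D a = br D a := by
    rw [← hψN.mul _ haS _ haS, haa]
  have hb0 : br D a = 0 := eq_zero_of_idem_pow hbaa (Nat.succ_ne_zero n) h3
  -- conclusion
  have hsplit : br D i = ∑ j ∈ Finset.univ.filter (fun j => ¬ T2 j), br D (e j) := by
    have h4 : i = a + ∑ j ∈ Finset.univ.filter (fun j => ¬ T2 j), e j := by
      rw [← he3]
      exact (Finset.sum_filter_add_sum_filter_not Finset.univ T2 _).symm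
    rw [h4, map_add, hb0, zero_add, map_sum]
  rw [hsplit, Finset.sum_mul]
  refine Finset.sum_congr rfl fun j hj => ?_
  rcases hty j with h6 | h6
  · exact h6
  · exact absurd h6 (Finset.mem_filter.1 hj).2

/-- **Primitive idempotents and Brauer pairs.** -/
theorem local_below (hM : IsPModular p M) (hHp : ∀ s ∈ H, ¬ p ∣ orderOf s) :
    ∀ (n : ℕ) (Q : Subgroup G), Nat.card Q = n → IsPGroup p Q →
      (∀ τ ∈ Q, ∀ s ∈ H, τ * s = s * τ) → ∀ (i : MonoidAlgebra (localSubring M) G)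
      (c : BlockT M 𝐂[Q]), PrimIn (SS M Q H) i → br Q i ≠ 0 → br Q i * bb Q c = br Q i →
      ∀ (D : Subgroup G) (b : BlockT M 𝐂[D]), D ≤ Q → SubpairLE p M D b.1 Q c.1 →
        br D i * bb D b = br D i := by
  classical
  intro n
  induction n using Nat.strong_induction_on with
  | _ n ihO =>
  intro Q hn hQ hQH i c hi h0 hc
  have hQc : IsBrauerPair p M Q c.1 := ⟨hQ, c.2⟩
  -- the inner induction
  have inner : ∀ (m : ℕ) (D : Subgroup G) (b : BlockT M 𝐂[D]), Nat.card Q - Nat.card D = m → D ≤ Q →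
      SubpairLE p M D b.1 Q c.1 → br D i * bb D b = br D i := by
    intro m
    induction m using Nat.strong_induction_on with
    | _ m ihI =>
    intro D b hm hDQ hle
    rcases eq_or_lt_of_le hDQ with rfl | hlt
    · have h1 : b = c := Subtype.ext (eq_of_two_subpairLE hM hQc hle Relation.ReflTransGen.refl).symm
      rw [h1]
      exact hc
    have hD : IsPGroup p D := hQ.to_le hDQ
    by_cases hQN : Q ≤ 𝐍[D]
    · obtain ⟨b₀, hb₀, hb₁⟩ := normal_step hM hQ hDQ hQN hQH hi h0 hc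
      have h1 : b₀ = b := Subtype.ext (eq_of_two_subpairLE hM hQc hle (subpairLE_of_normal hb₀))
      rw [← h1]
      exact hb₁
    -- the non-normal case
    refine step_B hM hQ hlt hHp hQH b ?_ hi h0 ?_
    · intro t ht
      exact cj_eB_of_stabilizes (stabilizes_of_mem_inf hM hQc hle ht.1 ht.2)
    · intro R hDR hRN ι hι h1 h2 hι0
      have hRQ : R ≤ Q := hRN.trans inf_le_left
      have hR : IsPGroup p R := hQ.to_le hRQ
      have hRH := comm_of_le hRQ hQH
      have hRne : R ≠ Q := by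
        rintro rfl
        exact hQN (hRN.trans inf_le_right)
      obtain ⟨c_R, hc_R⟩ := exists_block hM hR hRH hι
      obtain ⟨b_R, hb_R, hle_R⟩ := exists_subpairLE hM hQc hRQ
      have hcard1 : Nat.card D < Nat.card R := card_lt_card_of_lt hDR
      have hcard2 : Nat.card R ≤ Nat.card Q :=
        (card_lt_card_of_lt (lt_of_le_of_ne hRQ hRne)).le
      have h3 := ihI (Nat.card Q - Nat.card R) (by
          rw [← hm]
          have := card_lt_card_of_lt hlt
          omega) R ⟨b_R, hb_R⟩ rfl hRQ hle_R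
      have hψ := homD (H := H) hM hR (le_refl R)
      have hiR : i ∈ SS M R H := SS_anti hRQ hi.mem
      have h4 : c_R = ⟨b_R, hb_R⟩ := by
        by_contra hne
        apply hι0
        calc br R ι = br R (ι * i) := by rw [h2]
          _ = br R ι * br R i := hψ.mul _ hι.mem _ hiR
          _ = br R ι * (br R i * bb R ⟨b_R, hb_R⟩) := by rw [h3]
          _ = (br R ι * br R i) * bb R ⟨b_R, hb_R⟩ := (mul_assoc _ _ _).symm
          _ = br R ι * bb R ⟨b_R, hb_R⟩ := by rw [← hψ.mul _ hι.mem _ hiR, h2]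
          _ = (br R ι * bb R c_R) * bb R ⟨b_R, hb_R⟩ := by rw [hc_R]
          _ = br R ι * (bb R c_R * bb R ⟨b_R, hb_R⟩) := mul_assoc _ _ _
          _ = 0 := by rw [bb_orth R hne, mul_zero]
      subst h4
      have hRb : IsBrauerPair p M R b_R := ⟨hR, hb_R⟩
      obtain ⟨b', hb', hle'⟩ := exists_subpairLE hM hRb hDR.le
      have h5 : (⟨b', hb'⟩ : BlockT M 𝐂[D]) = b :=
        Subtype.ext (eq_of_two_subpairLE hM hQc hle (hle'.trans hle_R))
      rw [← h5]
      exact ihO (Nat.card R) (by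
        rw [← hn]
        exact card_lt_card_of_lt (lt_of_le_of_ne hRQ hRne)) R rfl hR hRH ι ⟨b_R, hb_R⟩ hι hι0 hc_R
        D ⟨b', hb'⟩ hDR.le hle'
  intro D b hDQ hle
  exact inner _ D b rfl hDQ hle

end Main

end Cfsg.Agent.Lib.StarP
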