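import Mathlib
import Cfsg.Prelude.Def_BlockFusion
import Cfsg.Agent.Lib.BrauerNil
import Cfsg.Agent.Lib.BlockSection
import Cfsg.Agent.Lib.BrauerIn
import Cfsg.Agent.Lib.StarP

/-!
# Coprime automorphisms of cyclic `p`-groups
-/

set_option autoImplicit false
set_option linter.unusedSectionVars false
set_option linter.unusedVariables false
set_option linter.style.haveILetI false

namespace Cfsg.Agent.Lib.BrauerCyc

open Cfsg

/-- A `p'`-automorphism of a cyclic `p`-group fixing a nontrivial element is trivial. -/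
theorem eq_one_of_fix {p : ℕ} [hp : Fact p.Prime] {P : Type*} [Group P] [Finite P] [IsCyclic P]
    (hP : IsPGroup p P) (a : MulAut P) {m : ℕ} (hm : a ^ m = 1) (hcop : ¬ p ∣ m) {x : P} (hx : x ≠ 1)
    (hax : a x = x) : a = 1 := by
  obtain ⟨g, hg⟩ := IsCyclic.exists_generator (α := P)
  have hpow : ∀ y : P, ∃ j : ℤ, g ^ j = y := fun y => Subgroup.mem_zpowers_iff.1 (hg y)
  obtain ⟨k, hk⟩ := hpow (a g)
  have hazp : ∀ j : ℤ, a (g ^ j) = g ^ (j * k) := by
    intro j
    rw [map_zpow, ← hk, ← zpow_mul, mul_comm]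
  have hapow : ∀ i : ℕ, (a ^ i) g = g ^ (k ^ i) := by
    intro i
    induction i with
    | zero => simp
    | succ i ih =>
      rw [pow_succ', MulAut.mul_apply, ih, hazp, pow_succ]
  obtain ⟨s, hs⟩ := hP.exists_card_eq
  have hord : orderOf g = p ^ s := by
    rw [← hs, orderOf_eq_card_of_forall_mem_zpowers hg]
  obtain ⟨j, rfl⟩ := hpow x
  have h1 : (p ^ s : ℤ) ∣ j * (k - 1) := by
    rw [← Nat.cast_pow, ← hord, orderOf_dvd_iff_zpow_eq_one, mul_sub, mul_one, zpow_sub, ← hazp, hax, mul_inv_cancel]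
  have h2 : ¬ ((p ^ s : ℤ) ∣ j) := by
    intro h
    apply hx
    rw [← Nat.cast_pow, ← hord, orderOf_dvd_iff_zpow_eq_one] at h
    exact h
  have hpz : Prime (p : ℤ) := Nat.prime_iff_prime_int.1 hp.out
  have h3 : (p : ℤ) ∣ k - 1 := by
    by_contra h
    exact h2 ((IsCoprime.dvd_of_dvd_mul_right
      (IsCoprime.pow_left ((Prime.coprime_iff_not_dvd hpz).2 h)) h1))
  have h4 : (p ^ s : ℤ) ∣ k ^ m - 1 := by
    have h5 := hapow m
    rw [hm, MulAut.one_apply] at h5
    rw [← Nat.cast_pow, ← hord, orderOf_dvd_iff_zpow_eq_one, zpow_sub, ← h5, zpow_one, mul_inv_cancel]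
  have h6 : (k ^ m - 1) = (k - 1) * ∑ i ∈ Finset.range m, k ^ i := by
    rw [mul_comm, geom_sum_mul]
  have h7 : (p : ℤ) ∣ (∑ i ∈ Finset.range m, k ^ i) - m := by
    have : (∑ i ∈ Finset.range m, k ^ i) - m = ∑ i ∈ Finset.range m, (k ^ i - 1) := by
      rw [Finset.sum_sub_distrib]
      simp
    rw [this]
    refine Finset.dvd_sum fun i _ => ?_
    exact h3.trans (sub_one_dvd_pow_sub_one k i)
  have h8 : ¬ (p : ℤ) ∣ ∑ i ∈ Finset.range m, k ^ i := by
    intro h
    apply hcop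
    have h9 : (p : ℤ) ∣ m := by
      have := dvd_sub h h7
      simpa using this
    exact Int.natCast_dvd_natCast.1 h9
  have h10 : (p ^ s : ℤ) ∣ k - 1 := by
    rw [h6] at h4
    exact IsCoprime.dvd_of_dvd_mul_right
      (IsCoprime.pow_left ((Prime.coprime_iff_not_dvd hpz).2 h8)) h4
  have h11 : g ^ k = g := by
    rw [← Nat.cast_pow, ← hord, orderOf_dvd_iff_zpow_eq_one, zpow_sub, zpow_one] at h10
    exact mul_inv_eq_one.1 h10
  ext y
  obtain ⟨j', rfl⟩ := hpow y
  rw [hazp, mul_comm, zpow_mul, h11, MulAut.one_apply]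

/-- The structure of a `p'`-group of automorphisms of a cyclic `p`-group. -/
theorem cyc_aut {p : ℕ} [hp : Fact p.Prime] {P T : Type*} [Group P] [Finite P] [IsCyclic P] [Group T]
    [Finite T] (hP : IsPGroup p P) (θ : T →* MulAut P) (hidx : ¬ p ∣ θ.ker.index) :
    IsCyclic (T ⧸ θ.ker) ∧ θ.ker.index ∣ p - 1 ∧
      ∀ (t : T) (x : P), x ≠ 1 → θ t x = x → θ t = 1 := by
  obtain ⟨s, hs⟩ := hP.exists_card_eq
  have hd : θ.ker.index ∣ p - 1 := by
    have h2 : θ.ker.index ∣ Nat.card (MulAut P) := by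
      rw [Subgroup.index_ker]
      exact Subgroup.card_subgroup_dvd_card _
    rw [IsCyclic.card_mulAut, hs] at h2
    rcases Nat.eq_zero_or_pos s with rfl | hs0
    · simp only [pow_zero, Nat.totient_one, Nat.dvd_one] at h2
      rw [h2]
      exact one_dvd _
    · rw [Nat.totient_prime_pow hp.out hs0] at h2
      have h3 : Nat.Coprime θ.ker.index (p ^ (s - 1)) :=
        Nat.Coprime.pow_right _ ((Nat.Prime.coprime_iff_not_dvd hp.out).2 hidx).symm
      exact h3.dvd_of_dvd_mul_left h2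
  refine ⟨?_, hd, ?_⟩
  · rcases eq_or_ne p 2 with rfl | hp2
    · have h1 : θ.ker.index = 1 := by simpa using hd
      have h3 : Nat.card (T ⧸ θ.ker) = 1 := h1
      haveI := (Nat.card_eq_one_iff_unique.1 h3).1
      exact isCyclic_of_subsingleton
    · have h3 : IsCyclic (ZMod (Nat.card P))ˣ := by
        rw [hs]
        exact ZMod.isCyclic_units_of_prime_pow p hp.out hp2 s
      have h4 : IsCyclic (MulAut P) :=
        isCyclic_of_injective (IsCyclic.mulAutMulEquiv P).toMonoidHom (IsCyclic.mulAutMulEquiv P).injective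
      exact isCyclic_of_injective (QuotientGroup.kerLift θ) (QuotientGroup.kerLift_injective θ)
  · intro t x hx htx
    have h1 : t ^ θ.ker.index ∈ θ.ker := Subgroup.pow_index_mem _ _
    rw [MonoidHom.mem_ker, map_pow] at h1
    exact eq_one_of_fix hP (θ t) h1 hidx hx htx

universe u

section Main

variable {G : Type u} [Group G] [Fintype G] {p : ℕ} [hp : Fact p.Prime] {M : Ideal AlgInt}

local notation "𝐂[" R "]" => Subgroup.centralizer ((R : Subgroup G) : Set G)
local notation "𝐍[" R "]" => Subgroup.normalizer ((R : Subgroup G) : Set G)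

noncomputable local instance fintypeSubCyc {A : Type*} [Group A] [Finite A] (K : Subgroup A) : Fintype K :=
  Fintype.ofFinite K

/-- A conjugation mapping a subgroup into itself normalizes it. -/
theorem mem_normalizer_of_conj_le_cyc {P : Subgroup G} {x : G} (h : ∀ s ∈ P, x * s * x⁻¹ ∈ P) :
    x ∈ 𝐍[P] := by
  have hle : P.map (MulAut.conj x).toMonoidHom ≤ P := by
    rintro _ ⟨s, hs, rfl⟩
    exact h s hs
  have hcard : Nat.card (P.map (MulAut.conj x).toMonoidHom) = Nat.card P :=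
    Subgroup.card_map_of_injective (MulAut.conj x).injective
  have heq : P.map (MulAut.conj x).toMonoidHom = P :=
    Subgroup.eq_of_le_of_card_ge hle hcard.ge
  rw [Subgroup.mem_normalizer_iff]
  intro y
  constructor
  · exact h y
  · intro hy
    rw [← heq] at hy
    obtain ⟨s, hs, hs2⟩ := hy
    have : y = s := by
      have h1 : x * s * x⁻¹ = x * y * x⁻¹ := hs2
      simpa using h1.symm
    rwa [this]

/-- Subgroups of cyclic groups are normalized by the normalizer. -/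
theorem normalizer_le_of_cyclic {P Q : Subgroup G} (hcyc : IsCyclic P) (hQP : Q ≤ P) : 𝐍[P] ≤ 𝐍[Q] := by
  intro t ht
  apply mem_normalizer_of_conj_le_cyc
  intro y hy
  obtain ⟨g, hg⟩ := IsCyclic.exists_generator (α := P)
  have htg : t * (g : G) * t⁻¹ ∈ P := (Subgroup.mem_normalizer_iff.1 ht _).1 g.2
  obtain ⟨k, hk⟩ := Subgroup.mem_zpowers_iff.1 (hg ⟨_, htg⟩)
  have hk' : (g : G) ^ k = t * (g : G) * t⁻¹ := congrArg Subtype.val hk
  obtain ⟨j, hj⟩ := Subgroup.mem_zpowers_iff.1 (hg ⟨y, hQP hy⟩)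
  have hj' : (g : G) ^ j = y := congrArg Subtype.val hj
  have h1 : t * y * t⁻¹ = y ^ k := by
    rw [← hj', ← zpow_mul, mul_comm, zpow_mul, hk', conj_zpow]
  rw [h1]
  exact Q.zpow_mem hy k

open Cfsg.Agent.Lib.BrauerIn Cfsg.Agent.Lib.BrauerNil Cfsg.Agent.Lib.BrauerSat Cfsg.Agent.Lib.BrauerCen
open Cfsg.Agent.Lib.BrauerLift Cfsg.Agent.Lib.BrauerSub Cfsg.Agent.Lib.BrauerConj Cfsg.Agent.Lib.BrauerPair
open Cfsg.Agent.Lib.BrauerMax Cfsg.Agent.Lib.BlockSection Cfsg.Agent.Lib.BrauerIdx Cfsg.Agent.Lib.BlockLocal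

/-- **The first step of Dade's theory** for a nontrivial subgroup of a cyclic defect group. -/
theorem cyc_core (hM : IsPModular p M) {B : Set (IrrCharacter G)} (hB : IsPBlock M B) {P : Subgroup G}
    (hPD : IsDefectGroup p M B P) (hcyc : IsCyclic P) {c : Set (IrrCharacter 𝐂[P])}
    (hc : IsInducedBlock M 𝐂[P] c B) {T : Subgroup G}
    (hT : ∀ g : G, g ∈ T ↔ (g ∈ 𝐍[P] ∧ StabilizesBlock 𝐂[P] c g)) {Q : Subgroup G} (hQP : Q ≤ P)
    (hQ1 : Q ≠ ⊥) {f : Set (IrrCharacter 𝐂[Q])} (hf : IsInducedBlockIn M 𝐂[Q] 𝐂[P] c f)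
    {T' : Subgroup G} (hT' : ∀ g : G, g ∈ T' ↔ (g ∈ 𝐍[Q] ∧ StabilizesBlock 𝐂[Q] f g)) :
    T' = T ⊔ 𝐂[Q] ∧ (𝐂[Q]).relIndex T' = (𝐂[P]).relIndex T ∧ IsNilpotentBlock p M f := by
  classical
  haveI := isPrime_of_isPModular hM
  have hPp : IsPGroup p P := by
    obtain ⟨g, -, S, hS⟩ := hPD
    rw [hS]
    exact S.isPGroup'.map _
  have hcB : IsBrauerPairOf p M B P c := isBrauerPairOf_of_isInducedBlock hM hPp hc
  have hmax : IsMaximalBrauerPair p M B P c := isMaximal_of_isDefectGroup hM hcB hPD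
  have he := hmax.1.1
  have hab : ∀ x ∈ P, ∀ y ∈ P, x * y = y * x := by
    intro x hx y hy
    obtain ⟨g, hg⟩ := IsCyclic.exists_generator (α := P)
    obtain ⟨a, ha⟩ := Subgroup.mem_zpowers_iff.1 (hg ⟨x, hx⟩)
    obtain ⟨b, hb⟩ := Subgroup.mem_zpowers_iff.1 (hg ⟨y, hy⟩)
    have ha' : (g : G) ^ a = x := congrArg Subtype.val ha
    have hb' : (g : G) ^ b = y := congrArg Subtype.val hb
    rw [← ha', ← hb']
    exact ((Commute.refl (g : G)).zpow_zpow a b).eq
  have hPC : P ≤ 𝐂[Q] := by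
    intro x hx
    rw [Subgroup.mem_centralizer_iff]
    intro q hq
    exact hab q (hQP hq) x hx
  have hTNP : T ≤ 𝐍[P] := fun y hy => ((hT y).1 hy).1
  have hNN := normalizer_le_of_cyclic hcyc hQP
  have hTNQ : T ≤ 𝐍[Q] := hTNP.trans hNN
  -- the action on `P`
  have hind : ¬ p ∣ (theta hTNP).ker.index := by
    have h1 := not_dvd_index_stab hM hmax hcB.1.2 (Q := P) (f := c) Relation.ReflTransGen.refl hT hTNP (by
      intro y _
      have h2 : (P ⊓ 𝐍[P] : Subgroup G) = P := inf_eq_left.2 (le_normalizer_self P)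
      rw [h2]
      exact Subgroup.card_le_of_le inf_le_left)
    have h2 : (P ⊓ 𝐍[P]).subgroupOf T ≤ (theta hTNP).ker := by
      intro t ht
      rw [mem_ker_theta, Subgroup.mem_centralizer_iff]
      intro q hq
      exact hab q hq _ (Subgroup.mem_subgroupOf.1 ht).1
    rwa [sup_eq_right.2 h2] at h1
  have hTC : ∀ t ∈ T, t ∈ 𝐂[Q] → t ∈ 𝐂[P] := by
    intro t ht htQ
    obtain ⟨⟨x, hxQ⟩, hx1⟩ := (Subgroup.ne_bot_iff_exists_ne_one).1 hQ1
    have hx1' : (⟨x, hQP hxQ⟩ : P) ≠ 1 := by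
      intro h
      apply hx1
      apply Subtype.ext
      have h5 : x = 1 := congrArg Subtype.val h
      exact h5
    have h1 := (cyc_aut hPp (theta hTNP) hind).2.2 ⟨t, ht⟩ ⟨x, hQP hxQ⟩ hx1' (by
      apply Subtype.ext
      rw [coe_theta]
      show t * x * t⁻¹ = x
      rw [← (Subgroup.mem_centralizer_iff.1 htQ) x hxQ]
      group)
    exact (mem_ker_theta hTNP ⟨t, ht⟩).1 h1
  obtain ⟨hPT, hCPT, -⟩ := stab_facts hT
  obtain ⟨hQT', hCQT', -⟩ := stab_facts hT'
  have hTC2 : T ⊓ 𝐂[Q] = 𝐂[P] :=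
    le_antisymm (fun t ht => hTC t ht.1 ht.2) (le_inf hCPT (Subgroup.centralizer_le hQP))
  have hbp := isBrauerPairOf_in hM hPp hQP hPC hf
  have hn := isNormalSubpair_of_in hPp hQP hPC hbp hcB.1.2 hf.2.1
  have hle : SubpairLE p M Q f P c := subpairLE_of_normal hn
  obtain ⟨hdec, hidx⟩ := stabilizers_of_abelian hM hmax hab hf.2.1 hle hT' hT
  have hTT' : T ≤ T' := by
    intro y hy
    obtain ⟨h1, h2⟩ := (hT y).1 hy
    have h3 := relationCp hM y hle
    rw [cp_of_normalizer h1 (normalizer_le_normalizer_centralizer P h1),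
      twistSet_eq_of_stabilizes he.2 h2] at h3
    have hy2 := hNN h1
    exact (hT' y).2 ⟨hy2, (chain_cp_iff_stabilizes hM he hf.2.1 hle hy2).1 h3⟩
  refine ⟨?_, ?_, ?_⟩
  · apply le_antisymm
    · intro x hx
      obtain ⟨y, hy, c', hc', rfl⟩ := hdec x hx
      exact Subgroup.mul_mem _ (Subgroup.mem_sup_left hy) (Subgroup.mem_sup_right hc')
    · exact sup_le hTT' hCQT'
  · unfold Subgroup.relIndex
    rw [hidx, inf_eq_left.2 hTNQ, hTC2]
  · have hmax' := isMaximal_in hM hPD hQP hPC hcB hbp hf.2.1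
    set m := cenMatch_in hQP hPC with hm
    refine (isNilpotentBlock_iff_of_abelian hM hmax' (fun x hx y hy => ?_)).2 fun x hxN hxs => ?_
    · apply Subtype.ext
      exact hab _ (Subgroup.mem_subgroupOf.1 hx) _ (Subgroup.mem_subgroupOf.1 hy)
    · have hxN' : (x : G) ∈ 𝐍[P] := by
        apply mem_normalizer_of_conj_le_cyc
        intro s hs
        have h1 := (Subgroup.mem_normalizer_iff.1 hxN ⟨s, hPC hs⟩).1 (Subgroup.mem_subgroupOf.2 hs)
        exact Subgroup.mem_subgroupOf.1 h1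
      have hxs' := m.stabilizes_of_hat hxs
      rw [m.twistSetE_symm] at hxs'
      exact (m.iff x).2 (hTC _ ((hT _).2 ⟨hxN', hxs'⟩) x.2)

end Main

end Cfsg.Agent.Lib.BrauerCyc
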