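import Mathlib
import Cfsg.Agent.Lib.BlockQ
import Cfsg.Agent.S4676

/-!
# Height zero and the `Q` matrix

`height_zero_iff_omega`: `χ ∈ B` has height zero iff `ω_χ (regInv χ)` is a unit at `M`;
`not_memLocalIdeal_iff_val`: `ω_ξ (regInv χ)` is a unit iff `Q χ ξ` has exact `p`-value `h(ξ)`.
-/

set_option autoImplicit false
set_option linter.unusedSectionVars false
set_option linter.unusedVariables false

namespace Cfsg.Agent.Lib.BlockHeightQ

open Cfsg Cfsg.Agent.Lib.BlockQ Cfsg.Agent.Lib.BlockLocal Cfsg.Agent.Lib.BlockIdem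
open Cfsg.Agent.Lib.BlockOrtho Cfsg.Agent.Lib.BlockDefect Cfsg.Agent.Lib.CharBasic
open Cfsg.Agent.Lib.BlockVal

universe u

variable {G : Type u} [Group G] [Fintype G] {p : ℕ} {M : Ideal AlgInt}

theorem sameBlock_of_mem [M.IsPrime] {B : Set (IrrCharacter G)} (hB : IsPBlock M B)
    {χ ψ : IrrCharacter G} (hχ : χ ∈ B) (hψ : ψ ∈ B) :
    SameBlock M (χ : G → ℂ) (ψ : G → ℂ) := by
  have hχB : B = blockOf M (χ : G → ℂ) := by
    obtain ⟨ξ, rfl⟩ := hB
    exact (blockOf_eq_of_mem hχ).symm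
  rw [hχB] at hψ
  exact hψ

/-- For a height zero character, `ω_χ (regInv χ)` is a unit. -/
theorem omega_regInv_unit_of_height_zero (hM : IsPModular p M) {B : Set (IrrCharacter G)}
    (hB : IsPBlock M B) {χ₀ : IrrCharacter G} (hχ₀ : χ₀ ∈ B)
    (h0 : (charDegree (χ₀ : G → ℂ)).factorization p = minExp p B) :
    ¬ MemLocalIdeal M (omega (χ₀ : G → ℂ) (regInv p (χ₀ : G → ℂ))) := by
  classical
  have hMp := hM.2.1.isPrime
  have hp := hM.1
  haveI : Fact p.Prime := ⟨hp⟩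
  have hpC : (p : ℂ) ≠ 0 := by exact_mod_cast hp.ne_zero
  have hc := omega_regInv_mem_Zc (M := M) (p := p) (IsIrrCharacter.isCharacter χ₀.2)
  intro hW
  have hsame : ∀ {ψ : IrrCharacter G}, ψ ∈ B → SameBlock M (χ₀ : G → ℂ) (ψ : G → ℂ) :=
    fun hψ => sameBlock_of_mem hB hχ₀ hψ
  have h1 : ∀ ψ ∈ bF B, (p : ℤ) ∣ Q p B χ₀ ψ := by
    intro ψ hψ
    have hψ' := mem_bF.mp hψ
    obtain ⟨u, hu1, hu2, hu3⟩ := Q_formula hM hB hψ'
    rw [← memLocalIdeal_intCast_iff hM, hu3 χ₀]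
    have h2 := memLocalIdeal_sub_of_mem_Zc hc (hsame hψ')
    have h3 : MemLocalIdeal M (omega (ψ : G → ℂ) (regInv p (χ₀ : G → ℂ))) := by
      have h4 := memLocalIdeal_sub hW h2
      simpa using h4
    exact memLocalIdeal_mul_left (memLocalRing_mul (memLocalRing_pow (memLocalRing_natCast _) _) hu1) h3
  choose! n hn using h1
  have h5 := pow_dvd_sum_of_vanish (G := G) hp (bF B) n (by
    intro g hg
    have h6 := pow_mul_pRegularPart hM hB hχ₀ g
    rw [pRegularPart_of_sing _ hg, mul_zero] at h6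
    have h7 : ∑ τ ∈ bF B, (Q p B χ₀ τ : ℂ) * (τ : G → ℂ) g =
        (p : ℂ) * ∑ τ ∈ bF B, (n τ : ℂ) * (τ : G → ℂ) g := by
      rw [Finset.mul_sum]
      refine Finset.sum_congr rfl fun τ hτ => ?_
      rw [hn τ hτ]
      push_cast
      ring
    rw [h7] at h6
    exact (mul_eq_zero.mp h6.symm).resolve_left hpC)
  have h8 := pow_mul_pRegularPart hM hB hχ₀ 1
  rw [pRegularPart_of_reg _ (by simp [hp.one_lt.ne'])] at h8
  have h9 : (((p : ℤ) ^ blockDefect p B * (charDegree (χ₀ : G → ℂ) : ℤ) : ℤ) : ℂ) =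
      (((p : ℤ) * ∑ τ ∈ bF B, n τ * (charDegree (τ : G → ℂ) : ℤ) : ℤ) : ℂ) := by
    push_cast
    rw [← Cfsg.Agent.Lib.CharKernel.one_eq_charDegree (IsIrrCharacter.isCharacter χ₀.2), h8,
      Finset.mul_sum]
    refine Finset.sum_congr rfl fun τ hτ => ?_
    rw [hn τ hτ, Cfsg.Agent.Lib.CharKernel.one_eq_charDegree (IsIrrCharacter.isCharacter τ.2)]
    push_cast
    ring
  have h10 : (p : ℤ) ^ blockDefect p B * (charDegree (χ₀ : G → ℂ) : ℤ) =
      (p : ℤ) * ∑ τ ∈ bF B, n τ * (charDegree (τ : G → ℂ) : ℤ) := by exact_mod_cast h9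
  have h11 : (p : ℤ) ^ ((Nat.card G).factorization p + 1) ∣
      (p : ℤ) ^ blockDefect p B * (charDegree (χ₀ : G → ℂ) : ℤ) := by
    rw [h10, pow_succ, mul_comm]
    exact mul_dvd_mul_left _ h5
  have hd0 : charDegree (χ₀ : G → ℂ) ≠ 0 := Cfsg.Agent.Lib.CharKernel.charDegree_ne_zero χ₀.2
  have h12 : p ^ ((Nat.card G).factorization p + 1) ∣ p ^ blockDefect p B * charDegree (χ₀ : G → ℂ) := by
    exact_mod_cast h11
  have h13 := (hp.pow_dvd_iff_le_factorization (mul_ne_zero (pow_ne_zero _ hp.ne_zero) hd0)).mp h12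
  rw [Nat.factorization_mul (pow_ne_zero _ hp.ne_zero) hd0, Nat.factorization_pow] at h13
  simp only [Finsupp.add_apply, Finsupp.smul_apply, hp.factorization_self, smul_eq_mul, mul_one] at h13
  have h14 := card_factorization_eq (M := M) (p := p) hB
  omega

/-- `padicValInt` of a product with a prime power. -/
theorem padicValInt_pow_mul (hp : p.Prime) (k : ℕ) {m : ℤ} (hm : ¬ (p : ℤ) ∣ m) :
    padicValInt p ((p : ℤ) ^ k * m) = k := by
  haveI : Fact p.Prime := ⟨hp⟩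
  have hm0 : m ≠ 0 := fun h => hm (h ▸ dvd_zero _)
  unfold padicValInt
  rw [Int.natAbs_mul, Int.natAbs_pow, Int.natAbs_natCast,
    padicValNat.mul (pow_ne_zero _ hp.ne_zero) (Int.natAbs_ne_zero.mpr hm0),
    padicValNat.prime_pow, padicValNat.eq_zero_of_not_dvd, add_zero]
  intro h
  exact hm (Int.natCast_dvd.mpr h)

/-- `padicValInt` determines divisibility. -/
theorem not_dvd_of_padicValInt_eq (hp : p.Prime) (k : ℕ) {m : ℤ} (hm0 : m ≠ 0)
    (h : padicValInt p ((p : ℤ) ^ k * m) = k) : ¬ (p : ℤ) ∣ m := by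
  haveI : Fact p.Prime := ⟨hp⟩
  intro hd
  unfold padicValInt at h
  rw [Int.natAbs_mul, Int.natAbs_pow, Int.natAbs_natCast,
    padicValNat.mul (pow_ne_zero _ hp.ne_zero) (Int.natAbs_ne_zero.mpr hm0),
    padicValNat.prime_pow] at h
  have h2 : padicValNat p m.natAbs = 0 := by omega
  rw [padicValNat.eq_zero_iff] at h2
  rcases h2 with h2 | h2 | h2
  · exact hp.one_lt.ne' h2
  · exact hm0 (Int.natAbs_eq_zero.mp h2)
  · exact h2 (Int.natCast_dvd.mp hd)

/-- The exact value: `ω_ξ (regInv χ)` is a unit iff `Q χ ξ` is `p ^ h(ξ)` times a prime-to-`p`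
number. -/
theorem not_memLocalIdeal_iff (hM : IsPModular p M) {B : Set (IrrCharacter G)} (hB : IsPBlock M B)
    (χ : IrrCharacter G) {ξ : IrrCharacter G} (hξ : ξ ∈ B) {m : ℤ}
    (hm : Q p B χ ξ = (p : ℤ) ^ blockHeight p B (ξ : G → ℂ) * m) :
    ¬ MemLocalIdeal M (omega (ξ : G → ℂ) (regInv p (χ : G → ℂ))) ↔ ¬ (p : ℤ) ∣ m := by
  have hMp := hM.2.1.isPrime
  have hp := hM.1
  have hpC : (p : ℂ) ≠ 0 := by exact_mod_cast hp.ne_zero
  obtain ⟨u, hu1, hu2, hu3⟩ := Q_formula hM hB hξ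
  have h1 : (m : ℂ) = u * omega (ξ : G → ℂ) (regInv p (χ : G → ℂ)) := by
    have h2 := hu3 χ
    rw [hm] at h2
    push_cast at h2
    have h3 : (p : ℂ) ^ blockHeight p B (ξ : G → ℂ) ≠ 0 := pow_ne_zero _ hpC
    apply mul_left_cancel₀ h3
    rw [h2]
    ring
  rw [← memLocalIdeal_intCast_iff hM, h1, not_iff_not]
  constructor
  · intro h
    exact memLocalIdeal_mul_left hu1 h
  · intro h
    rw [mul_comm] at h
    exact memLocalIdeal_of_mul_right_unit h hu1 hu2

/-- Height zero in terms of the central character. -/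
theorem height_zero_iff_omega (hM : IsPModular p M) {B : Set (IrrCharacter G)} (hB : IsPBlock M B)
    {χ : IrrCharacter G} (hχ : χ ∈ B) :
    blockHeight p B (χ : G → ℂ) = 0 ↔ ¬ MemLocalIdeal M (omega (χ : G → ℂ) (regInv p (χ : G → ℂ))) := by
  have hMp := hM.2.1.isPrime
  have hp := hM.1
  constructor
  · intro h
    apply omega_regInv_unit_of_height_zero hM hB hχ
    have := charDegree_factorization_eq (p := p) hχ
    omega
  · intro hW
    obtain ⟨χ₀, hχ₀, h0⟩ := exists_minExp (p := p) hB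
    have hh0 : blockHeight p B (χ₀ : G → ℂ) = 0 := by
      have := charDegree_factorization_eq (p := p) hχ₀
      omega
    -- `ω_{χ₀} (regInv χ)` is a unit
    have hc := omega_regInv_mem_Zc (M := M) (p := p) (IsIrrCharacter.isCharacter χ.2)
    have h1 : ¬ MemLocalIdeal M (omega (χ₀ : G → ℂ) (regInv p (χ : G → ℂ))) := by
      intro h2
      apply hW
      have h3 := memLocalIdeal_sub_of_mem_Zc hc (sameBlock_of_mem hB hχ hχ₀)
      have h4 := memLocalIdeal_add h3 h2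
      simpa using h4
    have h2 : ¬ (p : ℤ) ∣ Q p B χ χ₀ := by
      have h3 := (not_memLocalIdeal_iff hM hB χ hχ₀ (m := Q p B χ χ₀) (by rw [hh0]; simp)).mp h1
      exact h3
    have h3 : (p : ℤ) ^ blockHeight p B (χ : G → ℂ) ∣ Q p B χ χ₀ := by
      rw [Q_symm hM hB hχ hχ₀]
      exact pow_height_dvd_Q hM hB χ₀ hχ
    by_contra hne
    apply h2
    exact (dvd_pow_self _ hne).trans h3

end Cfsg.Agent.Lib.BlockHeightQ
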