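import Mathlib
import Cfsg.Prelude.Def_OddOrderChar

/-!
# The Dade set-up: group theory

Consequences of `Cfsg.DadeHypothesis` for `H a`: conjugation compatibility and the splitting of the
elements of a coset `a * H a`.
-/

set_option autoImplicit false
set_option linter.unusedSectionVars false
set_option linter.unusedVariables false

open Cfsg
open scoped Pointwise

namespace Cfsg.Agent.Lib.DadeBasic

variable {G : Type*} [Group G] [Finite G] {A : Set G} {L : Subgroup G} {H : G → Subgroup G}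

theorem mem_centralizer_self (a : G) : a ∈ Subgroup.centralizer ({a} : Set G) := by
  rw [Subgroup.mem_centralizer_singleton_iff]

theorem H_le_normalizer_of (hD : DadeHypothesis A L H) {a : G} (ha : a ∈ A) :
    L ⊓ Subgroup.centralizer ({a} : Set G) ≤ Subgroup.normalizer (H a : Set G) := by
  rw [Subgroup.le_set_normalizer_iff]
  intro c hc u hu
  exact hD.conj_mem_H a ha c hc.2 u hu

/-- Every element of the centraliser of `a ∈ A` is a product of an element of `H a` and one of
`L ⊓ C(a)`. -/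
theorem exists_mul_of_mem_centralizer (hD : DadeHypothesis A L H) {a : G} (ha : a ∈ A) {c : G}
    (hc : c ∈ Subgroup.centralizer ({a} : Set G)) :
    ∃ k ∈ L ⊓ Subgroup.centralizer ({a} : Set G), ∃ u ∈ H a, c = k * u := by
  have h1 := Subgroup.coe_mul_of_left_le_normalizer_right _ _ (H_le_normalizer_of hD ha)
  rw [sup_comm, hD.sup_eq a ha] at h1
  have hc' : c ∈ ((L ⊓ Subgroup.centralizer ({a} : Set G) : Subgroup G) : Set G) * (H a : Set G) := by
    rw [← h1]; exact hc
  obtain ⟨k, hk, u, hu, rfl⟩ := hc'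
  exact ⟨k, hk, u, hu, rfl⟩

theorem pow_card_subgroup {K : Subgroup G} {k : G} (hk : k ∈ K) : k ^ Nat.card K = 1 := by
  have h : (⟨k, hk⟩ : K) ^ Nat.card K = 1 := pow_card_eq_one'
  have h2 := congrArg Subtype.val h
  rwa [Subgroup.coe_pow, Subgroup.coe_one] at h2

/-- An element of `C(b)` killed by a number coprime to `|L ⊓ C(b)|` lies in `H b`. -/
theorem mem_of_pow_eq_one (hD : DadeHypothesis A L H) {b : G} (hb : b ∈ A) {v : G}
    (hv : v ∈ Subgroup.centralizer ({b} : Set G)) {n : ℕ} (hn : v ^ n = 1)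
    (hcop : Nat.Coprime n (Nat.card ↥(L ⊓ Subgroup.centralizer ({b} : Set G)))) : v ∈ H b := by
  obtain ⟨k, hk, u, hu, rfl⟩ := exists_mul_of_mem_centralizer hD hb hv
  -- write (k u)^m = k^m * u' with u' ∈ H b
  have hpow : ∀ m : ℕ, ∃ u' ∈ H b, (k * u) ^ m = k ^ m * u' := by
    intro m
    induction m with
    | zero => exact ⟨1, (H b).one_mem, by simp⟩
    | succ m ih =>
      obtain ⟨u', hu', h⟩ := ih
      refine ⟨k⁻¹ * u' * k * u, ?_, ?_⟩
      · refine (H b).mul_mem ?_ hu
        have := hD.conj_mem_H b hb k⁻¹ ((Subgroup.centralizer ({b} : Set G)).inv_mem hk.2) u' hu'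
        simpa using this
      · rw [pow_succ, h, pow_succ]
        group
  obtain ⟨u', hu', h⟩ := hpow n
  rw [hn] at h
  have hkn : k ^ n = u'⁻¹ := by
    have := eq_inv_of_mul_eq_one_left h.symm
    exact this
  have hkn1 : k ^ n = 1 := by
    have h1 : k ^ n ∈ L ⊓ Subgroup.centralizer ({b} : Set G) := Subgroup.pow_mem _ hk n
    have h2 : k ^ n ∈ H b := by
      rw [hkn]; exact (H b).inv_mem hu'
    have h3 : k ^ n ∈ H b ⊓ (L ⊓ Subgroup.centralizer ({b} : Set G)) := ⟨h2, h1⟩
    rw [hD.inf_eq_bot b hb] at h3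
    exact h3
  have hk1 : k = 1 := by
    have h1 : k ^ Nat.card ↥(L ⊓ Subgroup.centralizer ({b} : Set G)) = 1 := pow_card_subgroup hk
    have h2 := orderOf_dvd_of_pow_eq_one hkn1
    have h3 := orderOf_dvd_of_pow_eq_one h1
    have h4 := Nat.eq_one_of_dvd_coprimes hcop h2 h3
    exact orderOf_eq_one_iff.mp h4
  rw [hk1, one_mul]
  exact hu

/-- Conjugation by `x ∈ L` maps `H a` into `H (x a x⁻¹)`. -/
theorem conj_mem_H_of_mem_L (hD : DadeHypothesis A L H) {a x : G} (ha : a ∈ A) (hx : x ∈ L) {u : G}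
    (hu : u ∈ H a) : x * u * x⁻¹ ∈ H (x * a * x⁻¹) := by
  have hb : x * a * x⁻¹ ∈ A := hD.conj_mem x hx a ha
  apply mem_of_pow_eq_one hD hb (n := Nat.card (H a))
  · rw [Subgroup.mem_centralizer_singleton_iff]
    have h1 := Subgroup.mem_centralizer_singleton_iff.mp (hD.le_centralizer a ha hu)
    calc x * u * x⁻¹ * (x * a * x⁻¹) = x * (u * a) * x⁻¹ := by group
      _ = x * (a * u) * x⁻¹ := by rw [h1]
      _ = x * a * x⁻¹ * (x * u * x⁻¹) := by group
  · rw [conj_pow, pow_card_subgroup hu]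
    simp
  · exact hD.coprime a ha _ hb

/-- S1498. -/
theorem H_conj (hD : DadeHypothesis A L H) {a x : G} (ha : a ∈ A) (hx : x ∈ L) :
    H (x * a * x⁻¹) = (H a).map (MulAut.conj x).toMonoidHom := by
  apply le_antisymm
  · intro v hv
    have hb : x * a * x⁻¹ ∈ A := hD.conj_mem x hx a ha
    have h := conj_mem_H_of_mem_L hD hb (L.inv_mem hx) hv
    have e : x⁻¹ * (x * a * x⁻¹) * x⁻¹⁻¹ = a := by group
    rw [e] at h
    refine ⟨x⁻¹ * v * x⁻¹⁻¹, h, ?_⟩
    simp [MulAut.conj_apply]
    group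
  · rintro _ ⟨u, hu, rfl⟩
    simpa [MulAut.conj_apply] using conj_mem_H_of_mem_L hD ha hx hu

theorem card_H_conj (hD : DadeHypothesis A L H) {a x : G} (ha : a ∈ A) (hx : x ∈ L) :
    Nat.card (H (x * a * x⁻¹)) = Nat.card (H a) := by
  rw [H_conj hD ha hx]
  exact Nat.card_congr ((MulAut.conj x).subgroupMap (H a)).symm.toEquiv

/-- The key splitting lemma: conjugate elements of cosets have conjugate `A`-parts. -/
theorem split (hD : DadeHypothesis A L H) {a b g u v : G} (ha : a ∈ A) (hb : b ∈ A) (hu : u ∈ H a)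
    (hv : v ∈ H b) (h : g * (a * u) * g⁻¹ = b * v) : g * a * g⁻¹ = b ∧ g * u * g⁻¹ = v := by
  have hau : a * u = u * a :=
    (Subgroup.mem_centralizer_singleton_iff.mp (hD.le_centralizer a ha hu)).symm
  have hbv : b * v = v * b :=
    (Subgroup.mem_centralizer_singleton_iff.mp (hD.le_centralizer b hb hv)).symm
  set m₁ := Nat.card ↥(L ⊓ Subgroup.centralizer ({a} : Set G)) with hm₁
  set m₂ := Nat.card ↥(L ⊓ Subgroup.centralizer ({b} : Set G)) with hm₂
  set n₁ := Nat.card (H a) with hn₁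
  set n₂ := Nat.card (H b) with hn₂
  have ham : a ^ m₁ = 1 := pow_card_subgroup (K := L ⊓ Subgroup.centralizer ({a} : Set G))
    ⟨hD.subset ha, mem_centralizer_self a⟩
  have hbm : b ^ m₂ = 1 := pow_card_subgroup (K := L ⊓ Subgroup.centralizer ({b} : Set G))
    ⟨hD.subset hb, mem_centralizer_self b⟩
  have hun : u ^ n₁ = 1 := pow_card_subgroup hu
  have hvn : v ^ n₂ = 1 := pow_card_subgroup hv
  have c1 : Nat.Coprime (n₁ * n₂) (m₁ * m₂) :=
    Nat.Coprime.mul_left
      (Nat.Coprime.mul_right (hD.coprime a ha a ha) (hD.coprime a ha b hb))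
      (Nat.Coprime.mul_right (hD.coprime b hb a ha) (hD.coprime b hb b hb))
  -- a number s with s ≡ 0 mod n₁n₂ and s ≡ 1 mod m₁m₂
  have hK : m₁ * m₂ ≠ 0 := Nat.mul_ne_zero (Nat.card_pos.ne') (Nat.card_pos.ne')
  obtain ⟨t, -, ht⟩ := Nat.exists_mul_mod_eq_of_coprime 1 c1 hK
  set s := n₁ * n₂ * t with hs
  have pow1 : ∀ x : G, x ^ (m₁ * m₂) = 1 → x ^ s = x := by
    intro x hx
    rw [pow_eq_pow_mod s hx, hs, ht, ← pow_eq_pow_mod 1 hx, pow_one]
  have ha1 : a ^ s = a := pow1 a (by rw [pow_mul, ham, one_pow])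
  have hb1 : b ^ s = b := pow1 b (by rw [mul_comm, pow_mul, hbm, one_pow])
  have hu1 : u ^ s = 1 := by rw [hs, mul_assoc, pow_mul, hun, one_pow]
  have hv1 : v ^ s = 1 := by rw [hs, mul_comm n₁, mul_assoc, pow_mul, hvn, one_pow]
  have e1 : (a * u) ^ s = a := by
    rw [(show Commute a u from hau).mul_pow, ha1, hu1, mul_one]
  have e2 : (b * v) ^ s = b := by
    rw [(show Commute b v from hbv).mul_pow, hb1, hv1, mul_one]
  have e3 : g * a * g⁻¹ = b := by
    rw [← e2, ← h, conj_pow, e1]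
  refine ⟨e3, ?_⟩
  have e4 : g * (a * u) * g⁻¹ = (g * a * g⁻¹) * (g * u * g⁻¹) := by group
  rw [e4, e3] at h
  exact mul_left_cancel h

/-- A coset element determines its `A`-part. -/
theorem coset_unique (hD : DadeHypothesis A L H) {a b u v : G} (ha : a ∈ A) (hb : b ∈ A)
    (hu : u ∈ H a) (hv : v ∈ H b) (h : a * u = b * v) : a = b ∧ u = v := by
  have := split hD (g := 1) ha hb hu hv (by simpa using h)
  simpa using this

/-- S1499 first part. -/
theorem exists_L_conj_of_coset_conj (hD : DadeHypothesis A L H) {a b u v g : G} (ha : a ∈ A)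
    (hb : b ∈ A) (hu : u ∈ H a) (hv : v ∈ H b) (h : g * (a * u) * g⁻¹ = b * v) :
    ∃ x ∈ L, x * a * x⁻¹ = b := by
  obtain ⟨e, -⟩ := split hD ha hb hu hv h
  obtain ⟨x, hx, hx'⟩ := hD.fusion a ha g (by rw [e]; exact hb)
  exact ⟨x, hx, by rw [hx', e]⟩

/-- S1499 second part. -/
theorem normalizer_coset (hD : DadeHypothesis A L H) {a : G} (ha : a ∈ A) :
    Subgroup.normalizer ((fun u : G => a * u) '' (H a : Set G)) =
      Subgroup.centralizer ({a} : Set G) := by
  apply le_antisymm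
  · intro g hg
    rw [Subgroup.mem_set_normalizer_iff] at hg
    have h1 : a ∈ (fun u : G => a * u) '' (H a : Set G) := ⟨1, (H a).one_mem, by simp⟩
    obtain ⟨u, hu, hu'⟩ := (hg a).mp h1
    simp only at hu'
    have := split hD (g := g) (u := 1) (v := u) ha ha (H a).one_mem hu (by simpa using hu'.symm)
    rw [Subgroup.mem_centralizer_singleton_iff]
    have h2 := this.1
    calc g * a = g * a * g⁻¹ * g := by group
      _ = a * g := by rw [h2]
  · intro c hc
    rw [Subgroup.mem_set_normalizer_iff]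
    have hcomm := Subgroup.mem_centralizer_singleton_iff.mp hc
    have key : ∀ d ∈ Subgroup.centralizer ({a} : Set G), ∀ w : G,
        w ∈ (fun u : G => a * u) '' (H a : Set G) →
          d * w * d⁻¹ ∈ (fun u : G => a * u) '' (H a : Set G) := by
      rintro d hd w ⟨u, hu, rfl⟩
      refine ⟨d * u * d⁻¹, hD.conj_mem_H a ha d hd u hu, ?_⟩
      have hd' := Subgroup.mem_centralizer_singleton_iff.mp hd
      simp only
      calc a * (d * u * d⁻¹) = (a * d) * u * d⁻¹ := by group
        _ = (d * a) * u * d⁻¹ := by rw [hd']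
        _ = d * (a * u) * d⁻¹ := by group
    intro w
    constructor
    · exact key c hc w
    · intro h
      have := key c⁻¹ ((Subgroup.centralizer ({a} : Set G)).inv_mem hc) _ h
      simpa [mul_assoc] using this

end Cfsg.Agent.Lib.DadeBasic
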