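import Mathlib
import Cfsg.Agent.Lib.DadeBasic
import Cfsg.Agent.Lib.CharBasic

/-!
# Counting identity for the Dade map

For a class function `γ` of `L` supported in `A` and a class function `F` of `G`,
`|L| Σ_g γ^τ(g) F(g) = |G| Σ_{a ∈ A} γ(a)/|H a| Σ_{w ∈ H a} F(a w)`.
-/

set_option autoImplicit false
set_option linter.unusedSectionVars false
set_option linter.unusedVariables false

open Cfsg
open scoped ComplexConjugate

namespace Cfsg.Agent.Lib.DadeCount

open Cfsg.Agent.Lib.DadeBasic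

variable {G : Type*} [Group G] [Fintype G] {A : Set G} {L : Subgroup G} [Fintype L]
  {H : G → Subgroup G}

theorem dade_eq (hD : DadeHypothesis A L H) {γ : L → ℂ} (hγ : IsClassFunction L γ) {g x u : G}
    {a : L} (ha : (a : G) ∈ A) (hu : u ∈ H a) (h : x * g * x⁻¹ = a * u) :
    dadeIsometry A L H γ g = γ a := by
  classical
  unfold dadeIsometry
  have hex : ∃ a : L, (a : G) ∈ A ∧ ∃ x : G, ∃ u ∈ H (a : G), x * g * x⁻¹ = (a : G) * u :=
    ⟨a, ha, x, u, hu, h⟩
  rw [dif_pos hex]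
  obtain ⟨ha', x', u', hu', h'⟩ := Classical.choose_spec hex
  set a' := Classical.choose hex with ha'def
  have hc : (x' * x⁻¹) * ((a : G) * u) * (x' * x⁻¹)⁻¹ = (a' : G) * u' := by
    rw [← h, ← h']; group
  obtain ⟨l, hl, hl'⟩ := exists_L_conj_of_coset_conj hD ha ha' hu hu' hc
  have h1 := hγ a ⟨l, hl⟩
  have e : (⟨l, hl⟩ : L) * a * (⟨l, hl⟩ : L)⁻¹ = a' := Subtype.ext (by simpa using hl')
  rw [e] at h1
  exact h1

theorem dade_eq_zero {γ : L → ℂ} {g : G}
    (h : ¬∃ a : L, (a : G) ∈ A ∧ ∃ x : G, ∃ u ∈ H (a : G), x * g * x⁻¹ = (a : G) * u) :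
    dadeIsometry A L H γ g = 0 := by
  classical
  unfold dadeIsometry
  rw [dif_neg h]

theorem dade_isClassFunction (hD : DadeHypothesis A L H) {γ : L → ℂ} (hγ : IsClassFunction L γ) :
    IsClassFunction G (dadeIsometry A L H γ) := by
  intro g h
  by_cases hex : ∃ a : L, (a : G) ∈ A ∧ ∃ x : G, ∃ u ∈ H (a : G), x * g * x⁻¹ = (a : G) * u
  · obtain ⟨a, ha, x, u, hu, hx⟩ := hex
    rw [dade_eq hD hγ ha hu hx, dade_eq hD hγ (x := x * h⁻¹) ha hu (by rw [← hx]; group)]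
  · rw [dade_eq_zero hex, dade_eq_zero]
    rintro ⟨a, ha, x, u, hu, hx⟩
    exact hex ⟨a, ha, x * h, u, hu, by rw [← hx]; group⟩

theorem inf_L_eq_one (hD : DadeHypothesis A L H) {a e : G} (ha : a ∈ A) (he : e ∈ H a) (heL : e ∈ L) :
    e = 1 := by
  have h : e ∈ H a ⊓ (L ⊓ Subgroup.centralizer ({a} : Set G)) :=
    ⟨he, heL, hD.le_centralizer a ha he⟩
  rw [hD.inf_eq_bot a ha] at h
  exact h

/-- The number of pairs `(x, a)` with `x g x⁻¹ ∈ a H(a)`. -/
theorem card_pairs (hD : DadeHypothesis A L H) {g x₀ u₀ : G} {a₀ : L} (ha₀ : (a₀ : G) ∈ A)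
    (hu₀ : u₀ ∈ H a₀) (h₀ : x₀ * g * x₀⁻¹ = a₀ * u₀) :
    Nat.card {p : G × L // (p.2 : G) ∈ A ∧ (p.2 : G)⁻¹ * (p.1 * g * p.1⁻¹) ∈ H p.2} =
      Nat.card L * Nat.card (H a₀) := by
  classical
  rw [← Nat.card_prod]
  symm
  have hcomm : ∀ v ∈ H a₀, (v : G) * a₀ = a₀ * v := fun v hv =>
    Subgroup.mem_centralizer_singleton_iff.mp (hD.le_centralizer _ ha₀ hv)
  have hmem : ∀ (l : L) (v : H a₀),
      (((l : G) * a₀ * (l : G)⁻¹ : G) ∈ A) ∧
      ((l : G) * a₀ * (l : G)⁻¹)⁻¹ * (((l : G) * v * x₀) * g * ((l : G) * v * x₀)⁻¹) ∈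
        H ((l : G) * a₀ * (l : G)⁻¹) := by
    intro l v
    refine ⟨hD.conj_mem l l.2 a₀ ha₀, ?_⟩
    have hv := hcomm v v.2
    have e : ((l : G) * a₀ * (l : G)⁻¹)⁻¹ * (((l : G) * v * x₀) * g * ((l : G) * v * x₀)⁻¹) =
        (l : G) * ((v : G) * u₀ * (v : G)⁻¹) * (l : G)⁻¹ := by
      have e1 : ((l : G) * v * x₀) * g * ((l : G) * v * x₀)⁻¹ =
          (l : G) * v * (x₀ * g * x₀⁻¹) * (v : G)⁻¹ * (l : G)⁻¹ := by group
      rw [e1, h₀]
      have e2 : (l : G) * v * ((a₀ : G) * u₀) * (v : G)⁻¹ * (l : G)⁻¹ =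
          (l : G) * ((v : G) * a₀) * u₀ * (v : G)⁻¹ * (l : G)⁻¹ := by group
      rw [e2, hv]
      group
    rw [e]
    refine conj_mem_H_of_mem_L hD ha₀ l.2 ?_
    exact (H a₀).mul_mem ((H a₀).mul_mem v.2 hu₀) ((H a₀).inv_mem v.2)
  refine Nat.card_congr (Equiv.ofBijective
    (fun q : L × H a₀ => ⟨((q.1 : G) * q.2 * x₀, q.1 * a₀ * q.1⁻¹), by
      simpa using hmem q.1 q.2⟩) ⟨?_, ?_⟩)
  · rintro ⟨l, v⟩ ⟨l', v'⟩ h
    have h1 : (l : G) * v * x₀ = (l' : G) * v' * x₀ := congrArg (fun p => p.1.1) h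
    have h2 : (l : G) * v = (l' : G) * v' := mul_right_cancel h1
    have h3 : (l' : G)⁻¹ * l = (v' : G) * (v : G)⁻¹ := by
      calc (l' : G)⁻¹ * l = (l' : G)⁻¹ * ((l : G) * v) * (v : G)⁻¹ := by group
        _ = (v' : G) * (v : G)⁻¹ := by rw [h2]; group
    have h4 : (l' : G)⁻¹ * l = 1 := by
      apply inf_L_eq_one hD ha₀ (a := a₀)
      · rw [h3]; exact (H a₀).mul_mem v'.2 ((H a₀).inv_mem v.2)
      · exact L.mul_mem (L.inv_mem l'.2) l.2
    have h5 : (l : G) = l' := by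
      have := h4
      rw [inv_mul_eq_one] at this
      exact this.symm
    have h6 : (v : G) = v' := by
      rw [h5] at h2
      exact mul_left_cancel h2
    exact Prod.ext (Subtype.ext h5) (Subtype.ext h6)
  · rintro ⟨⟨x, a⟩, ha, hu⟩
    simp only at ha hu
    set u := (a : G)⁻¹ * (x * g * x⁻¹) with hudef
    have hx : x * g * x⁻¹ = a * u := by rw [hudef]; group
    have hy : (x * x₀⁻¹) * ((a₀ : G) * u₀) * (x * x₀⁻¹)⁻¹ = (a : G) * u := by
      rw [← h₀, ← hx]; group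
    obtain ⟨e1, -⟩ := split hD ha₀ ha hu₀ hu hy
    obtain ⟨l, hl, hl'⟩ := hD.fusion a₀ ha₀ (x * x₀⁻¹) (by rw [e1]; exact ha)
    have hc : (l⁻¹ * (x * x₀⁻¹)) ∈ Subgroup.centralizer ({(a₀ : G)} : Set G) := by
      rw [Subgroup.mem_centralizer_singleton_iff]
      calc l⁻¹ * (x * x₀⁻¹) * a₀ = l⁻¹ * ((x * x₀⁻¹) * a₀ * (x * x₀⁻¹)⁻¹) * (x * x₀⁻¹) := by group
        _ = l⁻¹ * (l * a₀ * l⁻¹) * (x * x₀⁻¹) := by rw [hl']
        _ = a₀ * (l⁻¹ * (x * x₀⁻¹)) := by group
    obtain ⟨k, hk, v, hv, hkv⟩ := exists_mul_of_mem_centralizer hD ha₀ hc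
    refine ⟨(⟨l * k, L.mul_mem hl hk.1⟩, ⟨v, hv⟩), ?_⟩
    have hxx : x = l * k * v * x₀ := by
      calc x = l * (l⁻¹ * (x * x₀⁻¹)) * x₀ := by group
        _ = l * (k * v) * x₀ := by rw [hkv]
        _ = l * k * v * x₀ := by group
    have hkc : k * (a₀ : G) * k⁻¹ = a₀ := by
      have := Subgroup.mem_centralizer_singleton_iff.mp hk.2
      rw [this]; group
    apply Subtype.ext
    refine Prod.ext ?_ (Subtype.ext ?_)
    · simp only
      rw [hxx]
    · simp only [Subgroup.coe_mul, Subgroup.coe_inv]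
      rw [← e1, ← hl']
      calc l * k * (a₀ : G) * (l * k)⁻¹ = l * (k * (a₀ : G) * k⁻¹) * l⁻¹ := by group
        _ = l * a₀ * l⁻¹ := by rw [hkc]

/-- The weighted count of pairs. -/
theorem sum_pairs (hD : DadeHypothesis A L H) {γ : L → ℂ} (hγ : IsClassFunction L γ) (g : G)
    [DecidablePred fun p : G × L => (p.2 : G) ∈ A ∧ (p.2 : G)⁻¹ * (p.1 * g * p.1⁻¹) ∈ H p.2] :
    ∑ p : G × L, (if (p.2 : G) ∈ A ∧ (p.2 : G)⁻¹ * (p.1 * g * p.1⁻¹) ∈ H p.2
      then γ p.2 / (Nat.card (H p.2) : ℂ) else 0) = (Nat.card L : ℂ) * dadeIsometry A L H γ g := by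
  classical
  by_cases hex : ∃ a : L, (a : G) ∈ A ∧ ∃ x : G, ∃ u ∈ H (a : G), x * g * x⁻¹ = (a : G) * u
  · obtain ⟨a₀, ha₀, x₀, u₀, hu₀, h₀⟩ := hex
    rw [dade_eq hD hγ ha₀ hu₀ h₀, ← Finset.sum_filter]
    have hterm : ∀ p ∈ Finset.univ.filter (fun p : G × L =>
        (p.2 : G) ∈ A ∧ (p.2 : G)⁻¹ * (p.1 * g * p.1⁻¹) ∈ H p.2),
        γ p.2 / (Nat.card (H p.2) : ℂ) = γ a₀ / (Nat.card (H a₀) : ℂ) := by
      rintro ⟨x, a⟩ hp
      simp only [Finset.mem_filter, Finset.mem_univ, true_and] at hp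
      obtain ⟨ha, hu⟩ := hp
      have hx : x * g * x⁻¹ = a * ((a : G)⁻¹ * (x * g * x⁻¹)) := by group
      have h1 : γ a = γ a₀ := by
        rw [← dade_eq hD hγ ha hu hx, dade_eq hD hγ ha₀ hu₀ h₀]
      have hy : (x * x₀⁻¹) * ((a₀ : G) * u₀) * (x * x₀⁻¹)⁻¹ = (a : G) * ((a : G)⁻¹ * (x * g * x⁻¹)) := by
        rw [← h₀, ← hx]; group
      obtain ⟨l, hl, hl'⟩ := exists_L_conj_of_coset_conj hD ha₀ ha hu₀ hu hy
      have h2 : Nat.card (H a) = Nat.card (H a₀) := by
        rw [← hl']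
        exact card_H_conj hD ha₀ hl
      simp only
      rw [h1, h2]
    rw [Finset.sum_congr rfl hterm, Finset.sum_const, nsmul_eq_mul]
    have hcard : (Finset.univ.filter (fun p : G × L =>
        (p.2 : G) ∈ A ∧ (p.2 : G)⁻¹ * (p.1 * g * p.1⁻¹) ∈ H p.2)).card =
        Nat.card L * Nat.card (H a₀) := by
      rw [← card_pairs hD ha₀ hu₀ h₀, Nat.card_eq_fintype_card, Fintype.card_subtype]
    rw [hcard]
    have hne : (Nat.card (H a₀) : ℂ) ≠ 0 := by exact_mod_cast Nat.card_pos.ne'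
    push_cast
    field_simp
  · rw [dade_eq_zero hex, mul_zero]
    refine Finset.sum_eq_zero ?_
    rintro ⟨x, a⟩ -
    rw [if_neg]
    rintro ⟨ha, hu⟩
    exact hex ⟨a, ha, x, _, hu, by group⟩

open Classical in
/-- The main counting identity. -/
theorem dade_sum (hD : DadeHypothesis A L H) {γ : L → ℂ} (hγ : IsClassFunction L γ) (F : G → ℂ)
    (hF : IsClassFunction G F) :
    (Nat.card L : ℂ) * ∑ g, dadeIsometry A L H γ g * F g =
      (Nat.card G : ℂ) * ∑ a : L, if (a : G) ∈ A then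
        γ a / (Nat.card (H a) : ℂ) * ∑ w : G, (if w ∈ H a then F (a * w) else 0) else 0 := by
  have h1 : ∀ (x : G) (a : L), ∑ w : G, (if w ∈ H a then F (a * w) else 0) =
      ∑ g : G, if (a : G)⁻¹ * (x * g * x⁻¹) ∈ H a then F g else 0 := by
    intro x a
    let e' : G ≃ G :=
      { toFun := fun g => (a : G)⁻¹ * (x * g * x⁻¹)
        invFun := fun w => x⁻¹ * ((a : G) * w) * x
        left_inv := fun g => by group
        right_inv := fun w => by group }
    rw [← Equiv.sum_comp e']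
    refine Finset.sum_congr rfl fun g _ => ?_
    have : F ((a : G) * e' g) = F g := by
      have e2 : (a : G) * e' g = x * g * x⁻¹ := by
        show (a : G) * ((a : G)⁻¹ * (x * g * x⁻¹)) = _
        group
      rw [e2]
      exact hF g x
    by_cases hm : (a : G)⁻¹ * (x * g * x⁻¹) ∈ H a
    · rw [if_pos hm, if_pos (show e' g ∈ H a from hm), this]
    · rw [if_neg hm, if_neg (show e' g ∉ H a from hm)]
  have h2 : (Nat.card G : ℂ) * ∑ a : L, (if (a : G) ∈ A then
        γ a / (Nat.card (H a) : ℂ) * ∑ w : G, (if w ∈ H a then F (a * w) else 0) else 0) =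
      ∑ x : G, ∑ a : L, (if (a : G) ∈ A then
        γ a / (Nat.card (H a) : ℂ) * ∑ g : G, (if (a : G)⁻¹ * (x * g * x⁻¹) ∈ H a then F g else 0)
        else 0) := by
    have hc : (Nat.card G : ℂ) = ∑ _x : G, (1 : ℂ) := by
      simp [Nat.card_eq_fintype_card]
    rw [hc, Finset.sum_mul]
    refine Finset.sum_congr rfl fun x _ => ?_
    rw [one_mul]
    refine Finset.sum_congr rfl fun a _ => ?_
    rw [h1 x a]
  rw [h2]
  have h3 : ∀ (x : G) (a : L), (if (a : G) ∈ A then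
        γ a / (Nat.card (H a) : ℂ) * ∑ g : G, (if (a : G)⁻¹ * (x * g * x⁻¹) ∈ H a then F g else 0)
        else 0) = ∑ g : G, (if (a : G) ∈ A ∧ (a : G)⁻¹ * (x * g * x⁻¹) ∈ H a then
          γ a / (Nat.card (H a) : ℂ) else 0) * F g := by
    intro x a
    by_cases ha : (a : G) ∈ A
    · simp only [ha, if_true, true_and]
      rw [Finset.mul_sum]
      refine Finset.sum_congr rfl fun g _ => ?_
      split_ifs <;> simp
    · simp [ha]
  simp_rw [h3]
  -- swap the sums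
  have h4 : ∑ x : G, ∑ a : L, ∑ g : G, (if (a : G) ∈ A ∧ (a : G)⁻¹ * (x * g * x⁻¹) ∈ H a then
          γ a / (Nat.card (H a) : ℂ) else 0) * F g =
      ∑ g : G, (∑ p : G × L, (if (p.2 : G) ∈ A ∧ (p.2 : G)⁻¹ * (p.1 * g * p.1⁻¹) ∈ H p.2 then
          γ p.2 / (Nat.card (H p.2) : ℂ) else 0)) * F g := by
    simp_rw [Finset.sum_mul]
    rw [Finset.sum_comm' (s := Finset.univ) (t := fun _ => Finset.univ) (t' := Finset.univ)
      (s' := fun _ => Finset.univ) (by simp)]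
    simp_rw [Finset.sum_comm (s := (Finset.univ : Finset L)) (t := (Finset.univ : Finset G))]
    rw [Finset.sum_comm]
    refine Finset.sum_congr rfl fun g _ => ?_
    rw [Fintype.sum_prod_type]
  rw [h4, Finset.mul_sum]
  refine Finset.sum_congr rfl fun g _ => ?_
  rw [sum_pairs hD hγ g]
  ring

/-- Rewrite a finite sum over the subgroup as a `finsum` over its carrier. -/
theorem finsum_coset (K : Subgroup G) (f : G → ℂ) [DecidablePred (· ∈ K)] :
    ∑ᶠ u ∈ (K : Set G), f u = ∑ w : G, if w ∈ K then f w else 0 := by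
  classical
  rw [finsum_mem_eq_toFinset_sum f (K : Set G)]
  rw [← Finset.sum_filter]
  refine Finset.sum_congr ?_ fun _ _ => rfl
  ext w
  simp

open Classical in
/-- The Dade map adjoint formula (second part of the isometry theorem). -/
theorem classInner_dade (hD : DadeHypothesis A L H) {α : L → ℂ} (hα : IsClassFunction L α)
    (hαA : ∀ x : L, (x : G) ∉ A → α x = 0) (χ : G → ℂ) (ψ : L → ℂ) (hχ : IsClassFunction G χ)
    (hψ : ∀ a : L, (a : G) ∈ A → ψ a = (Nat.card (H a) : ℂ)⁻¹ * ∑ᶠ u ∈ (H a : Set G), χ (a * u)) :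
    classInner (dadeIsometry A L H α) χ = classInner α ψ := by
  have hF : IsClassFunction G (fun g => conj (χ g)) := fun g h => by
    simp only [hχ g h]
  have h := dade_sum hD hα _ hF
  have hG : (Nat.card G : ℂ) ≠ 0 := by exact_mod_cast Nat.card_pos.ne'
  have hL : (Nat.card L : ℂ) ≠ 0 := by exact_mod_cast Nat.card_pos.ne'
  unfold classInner
  have h2 : ∑ g, dadeIsometry A L H α g * conj (χ g) =
      (Nat.card G : ℂ) * (Nat.card L : ℂ)⁻¹ * ∑ a : L, α a * conj (ψ a) := by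
    have h3 : ∀ a : L, (if (a : G) ∈ A then
        α a / (Nat.card (H a) : ℂ) * ∑ w : G, (if w ∈ H a then conj (χ (a * w)) else 0) else 0) =
        α a * conj (ψ a) := by
      intro a
      by_cases ha : (a : G) ∈ A
      · rw [if_pos ha, hψ a ha, finsum_coset (H a) (fun u => χ (a * u))]
        simp only [map_mul, map_inv₀, map_natCast, map_sum]
        rw [div_eq_mul_inv, mul_assoc]
        congr 2
        refine Finset.sum_congr rfl fun w _ => ?_
        split_ifs <;> simp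
      · rw [if_neg ha, hαA a ha, zero_mul]
    simp_rw [h3] at h
    field_simp
    linear_combination h
  rw [h2]
  field_simp

/-- The image of `γ` at an element of a coset. -/
theorem dade_coset (hD : DadeHypothesis A L H) {γ : L → ℂ} (hγ : IsClassFunction L γ) {a : L}
    (ha : (a : G) ∈ A) {u : G} (hu : u ∈ H a) : dadeIsometry A L H γ (a * u) = γ a :=
  dade_eq hD hγ (x := 1) ha hu (by simp)

open Classical in
/-- The Dade map is an isometry. -/
theorem classInner_dade_dade (hD : DadeHypothesis A L H) {α β : L → ℂ} (hα : IsClassFunction L α)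
    (hαA : ∀ x : L, (x : G) ∉ A → α x = 0) (hβ : IsClassFunction L β) :
    classInner (dadeIsometry A L H α) (dadeIsometry A L H β) = classInner α β := by
  refine classInner_dade hD hα hαA _ _ (dade_isClassFunction hD hβ) ?_
  intro a ha
  have h1 : ∀ u ∈ (H a : Set G), dadeIsometry A L H β (a * u) = β a := fun u hu =>
    dade_coset hD hβ ha hu
  rw [finsum_coset (H a) (fun u => dadeIsometry A L H β (a * u))]
  have h2 : ∑ w : G, (if w ∈ H a then dadeIsometry A L H β (a * w) else 0) =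
      ∑ w : G, if w ∈ H a then β a else 0 :=
    Finset.sum_congr rfl fun w _ => by
      split_ifs with hw
      · exact h1 w hw
      · rfl
  rw [h2, ← Finset.sum_filter, Finset.sum_const, nsmul_eq_mul]
  have h3 : (Finset.univ.filter (fun w : G => w ∈ H a)).card = Nat.card (H a) := by
    rw [Nat.card_eq_fintype_card, Fintype.card_subtype]
  rw [h3]
  have hne : (Nat.card (H a) : ℂ) ≠ 0 := by exact_mod_cast Nat.card_pos.ne'
  field_simp

end Cfsg.Agent.Lib.DadeCount
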