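import Mathlib
import Cfsg.Agent.Lib.DadeCount
import Cfsg.Agent.Lib.CosetConjCyc
import Cfsg.Agent.Lib.CharInd
import Cfsg.Agent.Lib.GenChar

/-!
# The Dade map sends generalized characters to generalized characters

Inclusion-exclusion over the non-empty subsets `B` of `A`: with `H(B) = ⋂_{b ∈ B} H b` and
`N(B) = N_L(B)`, the image of `α` is the alternating sum over the `L`-orbits of the subsets `B` of the
function induced from `H(B) N(B)` of the inflation of `α|_{N(B)}`.
-/

set_option autoImplicit false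
set_option linter.unusedSectionVars false
set_option linter.unusedVariables false

open Cfsg
open scoped ComplexConjugate

namespace Cfsg.Agent.Lib.DadeExpand

open Cfsg.Agent.Lib.DadeBasic Cfsg.Agent.Lib.DadeCount Cfsg.Agent.Lib.CharBasic
  Cfsg.Agent.Lib.CharInd Cfsg.Agent.Lib.GenChar

variable {G : Type*} [Group G] [Fintype G] {A : Set G} {L : Subgroup G} [Fintype L]
  {H : G → Subgroup G}

/-- The intersection of the `H b`, `b ∈ B`. -/
def HB (H : G → Subgroup G) (B : Finset G) : Subgroup G := ⨅ b ∈ B, H b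

theorem mem_HB {B : Finset G} {u : G} : u ∈ HB H B ↔ ∀ b ∈ B, u ∈ H b := by
  simp [HB, Subgroup.mem_iInf]

/-- The elements of `L` normalizing `B`. -/
def NB (L : Subgroup G) (B : Finset G) : Subgroup G :=
  L ⊓ Subgroup.normalizer ((B : Finset G) : Set G)

theorem mem_NB {B : Finset G} {l : G} :
    l ∈ NB L B ↔ l ∈ L ∧ ∀ b, b ∈ B ↔ l * b * l⁻¹ ∈ B := by
  simp [NB, Subgroup.mem_inf, Subgroup.mem_set_normalizer_iff]

theorem NB_le (B : Finset G) : NB L B ≤ L := inf_le_left

/-- The family of non-empty subsets of `A`. -/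
def IsP (A : Set G) (B : Finset G) : Prop := B.Nonempty ∧ ∀ b ∈ B, b ∈ A

theorem HB_le {B : Finset G} {b : G} (hb : b ∈ B) : HB H B ≤ H b := fun _ hu => mem_HB.mp hu b hb

theorem HB_conj_mem (hD : DadeHypothesis A L H) {B : Finset G} (hB : IsP A B) {l u : G}
    (hl : l ∈ NB L B) (hu : u ∈ HB H B) : l * u * l⁻¹ ∈ HB H B := by
  rw [mem_HB]
  intro b hb
  have hl' := mem_NB.mp hl
  have hb' : l⁻¹ * b * l⁻¹⁻¹ ∈ B := by
    have h1 : (l⁻¹ * b * l⁻¹⁻¹) ∈ B ↔ l * (l⁻¹ * b * l⁻¹⁻¹) * l⁻¹ ∈ B := hl'.2 _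
    rw [h1]
    simpa [mul_assoc] using hb
  have hu' := mem_HB.mp hu _ hb'
  have := conj_mem_H_of_mem_L hD (hB.2 _ hb') hl'.1 hu'
  have e : l * (l⁻¹ * b * l⁻¹⁻¹) * l⁻¹ = b := by group
  rwa [e] at this

theorem NB_le_normalizer (hD : DadeHypothesis A L H) {B : Finset G} (hB : IsP A B) :
    NB L B ≤ Subgroup.normalizer (HB H B : Set G) := by
  rw [Subgroup.le_set_normalizer_iff]
  intro l hl u hu
  exact HB_conj_mem hD hB hl hu

theorem eq_one_of_mem_HB_L (hD : DadeHypothesis A L H) {B : Finset G} (hB : IsP A B) {e : G}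
    (he : e ∈ HB H B) (heL : e ∈ L) : e = 1 := by
  obtain ⟨b, hb⟩ := hB.1
  exact inf_L_eq_one hD (hB.2 b hb) (mem_HB.mp he b hb) heL

theorem unique_decomp (hD : DadeHypothesis A L H) {B : Finset G} (hB : IsP A B) {l l' u u' : G}
    (hl : l ∈ L) (hl' : l' ∈ L) (hu : u ∈ HB H B) (hu' : u' ∈ HB H B) (h : l * u = l' * u') :
    l = l' ∧ u = u' := by
  have h1 : l'⁻¹ * l = u' * u⁻¹ := by
    calc l'⁻¹ * l = l'⁻¹ * (l * u) * u⁻¹ := by group
      _ = u' * u⁻¹ := by rw [h]; group
  have h2 : l'⁻¹ * l = 1 := by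
    apply eq_one_of_mem_HB_L hD hB
    · rw [h1]; exact (HB H B).mul_mem hu' ((HB H B).inv_mem hu)
    · exact L.mul_mem (L.inv_mem hl') hl
  have h3 : l = l' := by
    rw [inv_mul_eq_one] at h2
    exact h2.symm
  subst h3
  exact ⟨rfl, mul_left_cancel h⟩

/-- The subgroup `N(B) H(B)`. -/
def KB (L : Subgroup G) (H : G → Subgroup G) (B : Finset G) : Subgroup G := NB L B ⊔ HB H B

theorem mem_KB (hD : DadeHypothesis A L H) {B : Finset G} (hB : IsP A B) {k : G} :
    k ∈ KB L H B ↔ ∃ l ∈ NB L B, ∃ u ∈ HB H B, k = l * u := by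
  have h1 := Subgroup.coe_mul_of_left_le_normalizer_right _ _ (NB_le_normalizer hD hB)
  have h2 : k ∈ KB L H B ↔ k ∈ ((NB L B ⊔ HB H B : Subgroup G) : Set G) := Iff.rfl
  rw [h2, h1, Set.mem_mul]
  constructor
  · rintro ⟨l, hl, u, hu, rfl⟩
    exact ⟨l, hl, u, hu, rfl⟩
  · rintro ⟨l, hl, u, hu, rfl⟩
    exact ⟨l, hl, u, hu, rfl⟩

/-- The projection `K(B) → N(B) ≤ L`. -/
theorem exists_hom (hD : DadeHypothesis A L H) {B : Finset G} (hB : IsP A B) :
    ∃ f : ↥(KB L H B) →* L, ∀ (k : ↥(KB L H B)) (l u : G), l ∈ NB L B → u ∈ HB H B →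
      (k : G) = l * u → (f k : G) = l := by
  classical
  have hex : ∀ k : ↥(KB L H B), ∃ l ∈ NB L B, ∃ u ∈ HB H B, (k : G) = l * u := fun k =>
    (mem_KB hD hB).mp k.2
  choose lf hlf uf huf hk using hex
  have huniq : ∀ (k : ↥(KB L H B)) (l u : G), l ∈ NB L B → u ∈ HB H B → (k : G) = l * u →
      lf k = l := by
    intro k l u hl hu h
    exact (unique_decomp hD hB (NB_le B (hlf k)) (NB_le B hl) (huf k) hu
      ((hk k).symm.trans h)).1
  refine ⟨MonoidHom.mk' (fun k => ⟨lf k, NB_le B (hlf k)⟩) ?_, ?_⟩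
  · intro k k'
    apply Subtype.ext
    show lf (k * k') = lf k * lf k'
    apply huniq (k * k') (lf k * lf k') ((lf k')⁻¹ * uf k * lf k' * uf k')
      ((NB L B).mul_mem (hlf k) (hlf k'))
    · refine (HB H B).mul_mem ?_ (huf k')
      have := HB_conj_mem hD hB ((NB L B).inv_mem (hlf k')) (huf k)
      simpa using this
    · show (k : G) * (k' : G) = _
      rw [hk k, hk k']
      group
  · intro k l u hl hu h
    exact huniq k l u hl hu h

theorem card_KB (hD : DadeHypothesis A L H) {B : Finset G} (hB : IsP A B) :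
    Nat.card (KB L H B) = Nat.card (HB H B) * Nat.card (NB L B) := by
  rw [mul_comm, ← Nat.card_prod]
  symm
  refine Nat.card_congr (Equiv.ofBijective
    (fun q : NB L B × HB H B => ⟨(q.1 : G) * q.2, (mem_KB hD hB).mpr ⟨q.1, q.1.2, q.2, q.2.2, rfl⟩⟩)
    ⟨?_, ?_⟩)
  · rintro ⟨l, u⟩ ⟨l', u'⟩ h
    have h1 : (l : G) * u = l' * u' := congrArg Subtype.val h
    obtain ⟨e1, e2⟩ := unique_decomp hD hB (NB_le B l.2) (NB_le B l'.2) u.2 u'.2 h1
    exact Prod.ext (Subtype.ext e1) (Subtype.ext e2)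
  · rintro ⟨k, hk⟩
    obtain ⟨l, hl, u, hu, rfl⟩ := (mem_KB hD hB).mp hk
    exact ⟨(⟨l, hl⟩, ⟨u, hu⟩), rfl⟩

open Classical in
/-- The intersection with `C(l)` of `H(B)` is `H(B ∪ {l})`. -/
theorem mem_insert_iff_centralizer (hD : DadeHypothesis A L H) {B : Finset G} (hB : IsP A B)
    {l u : G} (hl : l ∈ A) : u ∈ HB H (insert l B) ↔ u ∈ HB H B ∧ u * l = l * u := by
  constructor
  · intro h
    rw [mem_HB] at h
    refine ⟨mem_HB.mpr fun b hb => h b (Finset.mem_insert_of_mem hb), ?_⟩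
    exact Subgroup.mem_centralizer_singleton_iff.mp
      (hD.le_centralizer l hl (h l (Finset.mem_insert_self _ _)))
  · rintro ⟨h1, h2⟩
    rw [mem_HB]
    intro b hb
    rcases Finset.mem_insert.mp hb with rfl | hb
    · obtain ⟨c, hc⟩ := hB.1
      refine mem_of_pow_eq_one hD hl (Subgroup.mem_centralizer_singleton_iff.mpr h2)
        (n := Nat.card (H c)) (pow_card_subgroup (mem_HB.mp h1 c hc))
        (hD.coprime c (hB.2 c hc) b hl)
    · exact mem_HB.mp h1 b hb

theorem coprime_orderOf (hD : DadeHypothesis A L H) {B : Finset G} (hB : IsP A B) {l : G}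
    (hl : l ∈ A) : Nat.Coprime (orderOf l) (Nat.card (HB H B)) := by
  obtain ⟨c, hc⟩ := hB.1
  have h1 : Nat.card (HB H B) ∣ Nat.card (H c) := Subgroup.card_dvd_of_le (HB_le hc)
  have h2 : orderOf l ∣ Nat.card ↥(L ⊓ Subgroup.centralizer ({l} : Set G)) :=
    orderOf_dvd_of_pow_eq_one (pow_card_subgroup (K := L ⊓ Subgroup.centralizer ({l} : Set G))
      ⟨hD.subset hl, mem_centralizer_self l⟩)
  exact Nat.Coprime.coprime_dvd_left h2
    (Nat.Coprime.coprime_dvd_right h1 (hD.coprime c (hB.2 c hc) l hl).symm)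

open Classical in
/-- Counting the conjugators from a coset to the centralizing part. -/
theorem count_v (hD : DadeHypothesis A L H) {B : Finset G} (hB : IsP A B) {l : G} (hlA : l ∈ A)
    (hlN : l ∈ NB L B) (y : G) :
    ∑ v : G, (if v ∈ HB H B ∧ l⁻¹ * (v⁻¹ * y * v) ∈ HB H (insert l B) then (1 : ℂ) else 0) =
      (Nat.card (HB H (insert l B)) : ℂ) * (if l⁻¹ * y ∈ HB H B then 1 else 0) := by
  by_cases hy : l⁻¹ * y ∈ HB H B
  · rw [if_pos hy, mul_one]
    -- a first conjugator
    have hnorm : l ∈ Subgroup.normalizer (HB H B : Set G) := NB_le_normalizer hD hB hlN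
    have hh : l * (l⁻¹ * y) * l⁻¹ ∈ HB H B := HB_conj_mem hD hB hlN hy
    obtain ⟨x, hx, c, hc, hcl, hxy⟩ := Cfsg.Agent.Lib.CosetConjCyc.exists_conj_mul_centralizer
      hnorm (coprime_orderOf hD hB hlA) hh
    have e1 : l * (l⁻¹ * y) * l⁻¹ * l = y := by group
    rw [e1] at hxy
    have hcS : c ∈ HB H (insert l B) :=
      (mem_insert_iff_centralizer hD hB hlA).mpr ⟨hc, hcl⟩
    have hcH : c ∈ H l := mem_HB.mp hcS l (Finset.mem_insert_self _ _)
    -- the set of conjugators is a coset of `S`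
    rw [← Finset.sum_filter, Finset.sum_const, nsmul_eq_mul, mul_one]
    congr 1
    have hcard : Nat.card (HB H (insert l B)) =
        (Finset.univ.filter (fun t : G => t ∈ HB H (insert l B))).card := by
      rw [Nat.card_eq_fintype_card, Fintype.card_subtype]
    rw [hcard]
    refine Finset.card_bij' (fun v _ => x * v) (fun t _ => x⁻¹ * t) ?_ ?_ ?_ ?_
    · -- forward: v ↦ x v ∈ S
      intro v hv
      simp only [Finset.mem_filter, Finset.mem_univ, true_and] at hv ⊢
      obtain ⟨hv1, hv2⟩ := hv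
      have hxv : x * v ∈ HB H B := (HB H B).mul_mem hx hv1
      -- t := x v satisfies t⁻¹ (l c) t ∈ l S where y = x⁻¹ c l x
      set u' := l⁻¹ * (v⁻¹ * y * v) with hu'
      have hu'H : u' ∈ H l := mem_HB.mp hv2 l (Finset.mem_insert_self _ _)
      have h1 : (v⁻¹ * x⁻¹) * (l * c) * (v⁻¹ * x⁻¹)⁻¹ = l * u' := by
        rw [hu']
        have : l * c = c * l := hcl.symm
        rw [this, ← hxy]
        group
      have h2 := (split hD hlA hlA hcH hu'H h1).1
      rw [mem_insert_iff_centralizer hD hB hlA]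
      refine ⟨hxv, ?_⟩
      have h3 : (v⁻¹ * x⁻¹) * l = l * (v⁻¹ * x⁻¹) := by
        calc (v⁻¹ * x⁻¹) * l = (v⁻¹ * x⁻¹) * l * (v⁻¹ * x⁻¹)⁻¹ * (v⁻¹ * x⁻¹) := by group
          _ = l * (v⁻¹ * x⁻¹) := by rw [h2]
      calc x * v * l = (x * v) * (l * (v⁻¹ * x⁻¹)) * (x * v) := by group
        _ = (x * v) * ((v⁻¹ * x⁻¹) * l) * (x * v) := by rw [h3]
        _ = l * (x * v) := by group
    · -- backward
      intro t ht
      simp only [Finset.mem_filter, Finset.mem_univ, true_and] at ht ⊢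
      have ht' := (mem_insert_iff_centralizer hD hB hlA).mp ht
      have hv : x⁻¹ * t ∈ HB H B := (HB H B).mul_mem ((HB H B).inv_mem hx) ht'.1
      refine ⟨hv, ?_⟩
      have e2 : l⁻¹ * ((x⁻¹ * t)⁻¹ * y * (x⁻¹ * t)) = t⁻¹ * c * t := by
        have h3 : y = x⁻¹ * (c * l) * x := by rw [← hxy]; group
        have h4 : l⁻¹ * t⁻¹ * l = t⁻¹ := by
          have : t⁻¹ * l = l * t⁻¹ := by
            have h5 : t * l = l * t := ht'.2
            calc t⁻¹ * l = t⁻¹ * (l * t) * t⁻¹ := by group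
              _ = t⁻¹ * (t * l) * t⁻¹ := by rw [h5]
              _ = l * t⁻¹ := by group
          calc l⁻¹ * t⁻¹ * l = l⁻¹ * (t⁻¹ * l) := by group
            _ = t⁻¹ := by rw [this]; group
        rw [h3]
        calc l⁻¹ * ((x⁻¹ * t)⁻¹ * (x⁻¹ * (c * l) * x) * (x⁻¹ * t))
            = l⁻¹ * t⁻¹ * (c * l) * t := by group
          _ = l⁻¹ * t⁻¹ * (l * c) * t := by rw [hcl]
          _ = (l⁻¹ * t⁻¹ * l) * c * t := by group
          _ = t⁻¹ * c * t := by rw [h4]
      rw [e2]
      have h6 : t⁻¹ * c * t ∈ HB H (insert l B) :=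
        (HB H (insert l B)).mul_mem ((HB H (insert l B)).mul_mem
          ((HB H (insert l B)).inv_mem ht) hcS) ht
      exact h6
    · intro v _
      group
    · intro t _
      group
  · rw [if_neg hy, mul_zero]
    refine Finset.sum_eq_zero fun v _ => ?_
    rw [if_neg]
    rintro ⟨hv, hs⟩
    apply hy
    have hsHB : l⁻¹ * (v⁻¹ * y * v) ∈ HB H B := ((mem_insert_iff_centralizer hD hB hlA).mp hs).1
    -- y = v l s v⁻¹ so l⁻¹ y = (l⁻¹ v l) s v⁻¹
    have e : l⁻¹ * y = (l⁻¹ * v * l) * (l⁻¹ * (v⁻¹ * y * v)) * v⁻¹ := by group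
    rw [e]
    refine (HB H B).mul_mem ((HB H B).mul_mem ?_ hsHB) ((HB H B).inv_mem hv)
    have := HB_conj_mem hD hB ((NB L B).inv_mem hlN) hv
    simpa using this

open Classical in
/-- Exchanging `H(B)` for `H(B ∪ {l})`. -/
theorem count_x (hD : DadeHypothesis A L H) {B : Finset G} (hB : IsP A B) {l : G} (hlA : l ∈ A)
    (hlN : l ∈ NB L B) (g : G) :
    (Nat.card (HB H B) : ℂ)⁻¹ * ∑ x : G, (if l⁻¹ * (x⁻¹ * g * x) ∈ HB H B then (1 : ℂ) else 0) =
      (Nat.card (HB H (insert l B)) : ℂ)⁻¹ *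
        ∑ x : G, (if l⁻¹ * (x⁻¹ * g * x) ∈ HB H (insert l B) then (1 : ℂ) else 0) := by
  have hS : (Nat.card (HB H (insert l B)) : ℂ) ≠ 0 := by exact_mod_cast Nat.card_pos.ne'
  have hK : (Nat.card (HB H B) : ℂ) ≠ 0 := by exact_mod_cast Nat.card_pos.ne'
  have h1 : (Nat.card (HB H (insert l B)) : ℂ) *
      ∑ x : G, (if l⁻¹ * (x⁻¹ * g * x) ∈ HB H B then (1 : ℂ) else 0) =
      ∑ x : G, ∑ v : G, (if v ∈ HB H B ∧ l⁻¹ * (v⁻¹ * (x⁻¹ * g * x) * v) ∈ HB H (insert l B)
        then (1 : ℂ) else 0) := by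
    rw [Finset.mul_sum]
    exact Finset.sum_congr rfl fun x _ => (count_v hD hB hlA hlN _).symm
  have h2 : ∑ x : G, ∑ v : G, (if v ∈ HB H B ∧ l⁻¹ * (v⁻¹ * (x⁻¹ * g * x) * v) ∈ HB H (insert l B)
        then (1 : ℂ) else 0) =
      ∑ v : G, ∑ x : G, (if v ∈ HB H B ∧ l⁻¹ * (x⁻¹ * g * x) ∈ HB H (insert l B)
        then (1 : ℂ) else 0) := by
    rw [Finset.sum_comm]
    refine Finset.sum_congr rfl fun v _ => ?_
    rw [← Equiv.sum_comp (Equiv.mulRight v⁻¹)]
    refine Finset.sum_congr rfl fun x _ => ?_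
    simp only [Equiv.coe_mulRight]
    have e : v⁻¹ * ((x * v⁻¹)⁻¹ * g * (x * v⁻¹)) * v = x⁻¹ * g * x := by group
    simp only [e]
  have h3 : ∑ v : G, ∑ x : G, (if v ∈ HB H B ∧ l⁻¹ * (x⁻¹ * g * x) ∈ HB H (insert l B)
        then (1 : ℂ) else 0) =
      (Nat.card (HB H B) : ℂ) *
        ∑ x : G, (if l⁻¹ * (x⁻¹ * g * x) ∈ HB H (insert l B) then (1 : ℂ) else 0) := by
    have hcard : (Nat.card (HB H B) : ℂ) = ∑ v : G, (if v ∈ HB H B then (1 : ℂ) else 0) := by
      rw [← Finset.sum_filter, Finset.sum_const, nsmul_eq_mul, mul_one, Nat.card_eq_fintype_card,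
        Fintype.card_subtype]
    rw [hcard, Finset.sum_mul]
    refine Finset.sum_congr rfl fun v _ => ?_
    by_cases hv : v ∈ HB H B
    · simp [hv]
    · simp [hv]
  rw [h2, h3] at h1
  field_simp
  linear_combination h1

/-! ### Inclusion-exclusion -/

open Classical in
/-- The sign. -/
noncomputable def eps (B : Finset G) : ℂ := (-1) ^ (B.card + 1)

open Classical in
/-- The family of non-empty subsets of `A` as a finset. -/
noncomputable def Pfam (A : Set G) : Finset (Finset G) := Finset.univ.filter (IsP A)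

theorem mem_Pfam {B : Finset G} : B ∈ Pfam A ↔ IsP A B := by
  classical
  simp [Pfam]

open Classical in
theorem NB_insert {B : Finset G} {l : G} (hl : l ∈ NB L B) : l ∈ NB L (insert l B) := by
  obtain ⟨h1, h2⟩ := mem_NB.mp hl
  refine mem_NB.mpr ⟨h1, fun b => ?_⟩
  simp only [Finset.mem_insert]
  have h3 : l * b * l⁻¹ = l ↔ b = l := by
    constructor
    · intro h
      have : l * b * l⁻¹ = l * l * l⁻¹ := by rw [h]; group
      exact mul_left_cancel (mul_right_cancel this)
    · rintro rfl; group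
  rw [h3, ← h2 b]

open Classical in
theorem NB_erase {B : Finset G} {l : G} (hl : l ∈ NB L B) : l ∈ NB L (B.erase l) := by
  obtain ⟨h1, h2⟩ := mem_NB.mp hl
  refine mem_NB.mpr ⟨h1, fun b => ?_⟩
  simp only [Finset.mem_erase]
  have h3 : l * b * l⁻¹ = l ↔ b = l := by
    constructor
    · intro h
      have : l * b * l⁻¹ = l * l * l⁻¹ := by rw [h]; group
      exact mul_left_cancel (mul_right_cancel this)
    · rintro rfl; group
  rw [ne_eq, ne_eq, h3, ← h2 b]

open Classical in
theorem HB_singleton (l : G) : HB H {l} = H l := by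
  ext u
  simp [mem_HB]

open Classical in
/-- The inclusion-exclusion step. -/
theorem sum_invol (hD : DadeHypothesis A L H) {l : G} (hlA : l ∈ A) (w : G) :
    ∑ B ∈ Pfam A, (if l ∈ NB L B then
      eps B * (Nat.card (HB H (insert l B)) : ℂ)⁻¹ * (if w ∈ HB H (insert l B) then 1 else 0) else 0)
      = (Nat.card (H l) : ℂ)⁻¹ * (if w ∈ H l then 1 else 0) := by
  have hlL : l ∈ L := hD.subset hlA
  rw [← Finset.sum_filter]
  set s := (Pfam A).filter (fun B => l ∈ NB L B) with hs
  set f : Finset G → ℂ := fun B =>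
    eps B * (Nat.card (HB H (insert l B)) : ℂ)⁻¹ * (if w ∈ HB H (insert l B) then 1 else 0) with hf
  have hsing : ({l} : Finset G) ∈ s := by
    rw [hs, Finset.mem_filter, mem_Pfam]
    refine ⟨⟨Finset.singleton_nonempty l, ?_⟩, ?_⟩
    · intro b hb
      rw [Finset.mem_singleton.mp hb]
      exact hlA
    · refine mem_NB.mpr ⟨hlL, fun b => ?_⟩
      simp only [Finset.mem_singleton]
      constructor
      · rintro rfl; group
      · intro h
        have : l * b * l⁻¹ = l * l * l⁻¹ := by rw [h]; group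
        exact mul_left_cancel (mul_right_cancel this)
  rw [← Finset.add_sum_erase s f hsing]
  have h1 : f {l} = (Nat.card (H l) : ℂ)⁻¹ * (if w ∈ H l then 1 else 0) := by
    simp only [hf]
    have e1 : insert l ({l} : Finset G) = {l} := by simp
    rw [e1, HB_singleton]
    simp [eps]
  rw [h1]
  have h2 : ∑ B ∈ s.erase {l}, f B = 0 := by
    refine Finset.sum_involution (fun B _ => if l ∈ B then B.erase l else insert l B) ?_ ?_ ?_ ?_
    · intro B hB
      by_cases hl : l ∈ B
      · simp only [hl, if_true, hf]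
        have e1 : insert l (B.erase l) = insert l B := by
          rw [Finset.insert_erase hl, Finset.insert_eq_of_mem hl]
        rw [e1]
        have e2 : eps B = - eps (B.erase l) := by
          unfold eps
          rw [Finset.card_erase_of_mem hl]
          have hpos : 0 < B.card := Finset.card_pos.mpr ⟨l, hl⟩
          obtain ⟨n, hn⟩ : ∃ n, B.card = n + 1 := ⟨B.card - 1, by omega⟩
          rw [hn]
          simp [pow_succ]
        rw [e2]
        ring
      · simp only [hl, if_false, hf]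
        have e1 : insert l (insert l B) = insert l B := by simp
        rw [e1]
        have e2 : eps (insert l B) = - eps B := by
          unfold eps
          rw [Finset.card_insert_of_notMem hl]
          simp [pow_succ]
        rw [e2]
        ring
    · intro B hB _
      by_cases hl : l ∈ B
      · simp only [hl, if_true]
        intro h
        have := Finset.notMem_erase l B
        rw [h] at this
        exact this hl
      · simp only [hl, if_false]
        intro h
        exact hl (h ▸ Finset.mem_insert_self l B)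
    · intro B hB
      obtain ⟨hne, hBs⟩ := Finset.mem_erase.mp hB
      obtain ⟨hBP, hBN⟩ := Finset.mem_filter.mp hBs
      have hBP' := mem_Pfam.mp hBP
      by_cases hl : l ∈ B
      · simp only [hl, if_true]
        refine Finset.mem_erase.mpr ⟨?_, Finset.mem_filter.mpr ⟨mem_Pfam.mpr ⟨?_, ?_⟩, NB_erase hBN⟩⟩
        · intro h
          have : l ∈ B.erase l := by rw [h]; simp
          simp at this
        · by_contra hemp
          rw [Finset.not_nonempty_iff_eq_empty] at hemp
          apply hne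
          ext b
          simp only [Finset.mem_singleton]
          constructor
          · intro hb
            by_contra hbl
            have : b ∈ B.erase l := Finset.mem_erase.mpr ⟨hbl, hb⟩
            rw [hemp] at this
            simp at this
          · rintro rfl; exact hl
        · intro b hb
          exact hBP'.2 b (Finset.mem_of_mem_erase hb)
      · simp only [hl, if_false]
        refine Finset.mem_erase.mpr ⟨?_, Finset.mem_filter.mpr ⟨mem_Pfam.mpr ⟨?_, ?_⟩, NB_insert hBN⟩⟩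
        · intro h
          obtain ⟨c, hc⟩ := hBP'.1
          have : c ∈ insert l B := Finset.mem_insert_of_mem hc
          rw [h, Finset.mem_singleton] at this
          exact hl (this ▸ hc)
        · exact Finset.insert_nonempty _ _
        · intro b hb
          rcases Finset.mem_insert.mp hb with rfl | hb
          · exact hlA
          · exact hBP'.2 b hb
    · intro B hB
      by_cases hl : l ∈ B
      · simp [hl]
      · simp [hl]
  rw [h2, add_zero]

/-- The main quantity. -/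
noncomputable def EB (A : Set G) (L : Subgroup G) [Fintype L] (H : G → Subgroup G) (α : L → ℂ)
    (B : Finset G) (g : G) : ℂ :=
  open Classical in
  (Nat.card (HB H B) : ℂ)⁻¹ * ∑ x : G, ∑ l : L,
    if (l : G) ∈ NB L B ∧ (l : G) ∈ A ∧ (l : G)⁻¹ * (x⁻¹ * g * x) ∈ HB H B then α l else 0

theorem isGen_indFun (K : Subgroup G) {φ : K → ℂ} (hφ : IsGeneralizedCharacter K φ) :
    IsGeneralizedCharacter G (indFun K φ) := by
  obtain ⟨a, b, ha, hb, rfl⟩ := hφ
  refine ⟨_, _, indFun_isCharacter K ha, indFun_isCharacter K hb, ?_⟩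
  exact indFun_sub K a b

open Classical in
/-- Each term is a generalized character up to the order of `N(B)`. -/
theorem exists_gen (hD : DadeHypothesis A L H) {B : Finset G} (hB : IsP A B) {α : L → ℂ}
    (hα : IsGeneralizedCharacter L α) (hαA : ∀ x : L, (x : G) ∉ A → α x = 0) :
    ∃ θ : G → ℂ, IsGeneralizedCharacter G θ ∧
      ∀ g, (Nat.card (NB L B) : ℂ) * θ g = EB A L H α B g := by
  obtain ⟨f, hf⟩ := exists_hom hD hB
  refine ⟨indFun (KB L H B) (fun k => α (f k)), isGen_indFun _ (isGen_isCharacter_comp f hα), ?_⟩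
  intro g
  have hext : ∀ y : G, extendByZero (KB L H B) (fun k => α (f k)) y =
      ∑ l : L, if (l : G) ∈ NB L B ∧ (l : G) ∈ A ∧ (l : G)⁻¹ * y ∈ HB H B then α l else 0 := by
    intro y
    by_cases hy : y ∈ KB L H B
    · rw [extendByZero_of_mem _ _ hy]
      obtain ⟨l₀, hl₀, u₀, hu₀, rfl⟩ := (mem_KB hD hB).mp hy
      have h1 : (f ⟨l₀ * u₀, hy⟩ : G) = l₀ := hf _ l₀ u₀ hl₀ hu₀ rfl
      have h2 : f ⟨l₀ * u₀, hy⟩ = ⟨l₀, NB_le B hl₀⟩ := Subtype.ext h1
      simp only [h2]
      rw [Finset.sum_eq_single (⟨l₀, NB_le B hl₀⟩ : L)]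
      · by_cases hA : l₀ ∈ A
        · rw [if_pos]
          refine ⟨hl₀, hA, ?_⟩
          simpa using hu₀
        · rw [if_neg, hαA _ hA]
          rintro ⟨-, h, -⟩
          exact hA h
      · intro l _ hne
        rw [if_neg]
        rintro ⟨hl, -, hu⟩
        apply hne
        apply Subtype.ext
        have e : (l : G) * ((l : G)⁻¹ * (l₀ * u₀)) = l₀ * u₀ := by group
        exact (unique_decomp hD hB (NB_le B hl) (NB_le B hl₀) hu hu₀ e).1
      · intro h
        exact absurd (Finset.mem_univ _) h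
    · rw [extendByZero_of_not_mem _ _ hy]
      symm
      refine Finset.sum_eq_zero fun l _ => ?_
      rw [if_neg]
      rintro ⟨hl, -, hu⟩
      apply hy
      refine (mem_KB hD hB).mpr ⟨l, hl, _, hu, ?_⟩
      group
  unfold indFun EB
  simp_rw [hext]
  rw [card_KB hD hB]
  have h1 : (Nat.card (HB H B) : ℂ) ≠ 0 := by exact_mod_cast Nat.card_pos.ne'
  have h2 : (Nat.card (NB L B) : ℂ) ≠ 0 := by exact_mod_cast Nat.card_pos.ne'
  push_cast
  field_simp

open Classical in
/-- Rewriting `EB`. -/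
theorem EB_expand (hD : DadeHypothesis A L H) {B : Finset G} (hB : IsP A B) (α : L → ℂ) (g : G) :
    EB A L H α B g = ∑ x : G, ∑ l : L, if (l : G) ∈ NB L B ∧ (l : G) ∈ A then
      α l * ((Nat.card (HB H (insert (l : G) B)) : ℂ)⁻¹ *
        (if (l : G)⁻¹ * (x⁻¹ * g * x) ∈ HB H (insert (l : G) B) then 1 else 0)) else 0 := by
  unfold EB
  rw [Finset.mul_sum]
  rw [Finset.sum_comm]
  simp_rw [Finset.mul_sum]
  rw [Finset.sum_comm]
  refine Finset.sum_congr rfl fun l _ => ?_
  by_cases hl : (l : G) ∈ NB L B ∧ (l : G) ∈ A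
  · simp only [hl, if_true, true_and]
    have := count_x hD hB hl.2 hl.1 g
    have e1 : ∑ x : G, (Nat.card (HB H B) : ℂ)⁻¹ *
        (if (l : G)⁻¹ * (x⁻¹ * g * x) ∈ HB H B then α l else 0) =
        α l * ((Nat.card (HB H B) : ℂ)⁻¹ *
          ∑ x : G, (if (l : G)⁻¹ * (x⁻¹ * g * x) ∈ HB H B then (1 : ℂ) else 0)) := by
      rw [Finset.mul_sum, Finset.mul_sum]
      refine Finset.sum_congr rfl fun x _ => ?_
      split_ifs <;> ring
    rw [e1, this, Finset.mul_sum, Finset.mul_sum]
  · have hn : ∀ x : G, ¬((l : G) ∈ NB L B ∧ (l : G) ∈ A ∧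
        (l : G)⁻¹ * (x⁻¹ * g * x) ∈ HB H B) := fun x h => hl ⟨h.1, h.2.1⟩
    simp [hn, hl]

open Classical in
/-- The alternating sum. -/
theorem sum_EB (hD : DadeHypothesis A L H) {α : L → ℂ} (hα : IsClassFunction L α)
    (hαA : ∀ x : L, (x : G) ∉ A → α x = 0) (g : G) :
    ∑ B ∈ Pfam A, eps B * EB A L H α B g = (Nat.card L : ℂ) * dadeIsometry A L H α g := by
  have h1 : ∑ B ∈ Pfam A, eps B * EB A L H α B g =
      ∑ x : G, ∑ l : L, ∑ B ∈ Pfam A, eps B * (if (l : G) ∈ NB L B ∧ (l : G) ∈ A then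
      α l * ((Nat.card (HB H (insert (l : G) B)) : ℂ)⁻¹ *
        (if (l : G)⁻¹ * (x⁻¹ * g * x) ∈ HB H (insert (l : G) B) then 1 else 0)) else 0) := by
    have : ∀ B ∈ Pfam A, eps B * EB A L H α B g = ∑ x : G, ∑ l : L, eps B *
        (if (l : G) ∈ NB L B ∧ (l : G) ∈ A then
      α l * ((Nat.card (HB H (insert (l : G) B)) : ℂ)⁻¹ *
        (if (l : G)⁻¹ * (x⁻¹ * g * x) ∈ HB H (insert (l : G) B) then 1 else 0)) else 0) := by
      intro B hB
      rw [EB_expand hD (mem_Pfam.mp hB), Finset.mul_sum]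
      refine Finset.sum_congr rfl fun x _ => ?_
      rw [Finset.mul_sum]
    rw [Finset.sum_congr rfl this, Finset.sum_comm]
    refine Finset.sum_congr rfl fun x _ => ?_
    rw [Finset.sum_comm]
  rw [h1]
  have h2 : ∀ (x : G) (l : L), ∑ B ∈ Pfam A, eps B * (if (l : G) ∈ NB L B ∧ (l : G) ∈ A then
      α l * ((Nat.card (HB H (insert (l : G) B)) : ℂ)⁻¹ *
        (if (l : G)⁻¹ * (x⁻¹ * g * x) ∈ HB H (insert (l : G) B) then 1 else 0)) else 0) =
      if (l : G) ∈ A ∧ (l : G)⁻¹ * (x⁻¹ * g * x) ∈ H l then α l / (Nat.card (H l) : ℂ) else 0 := by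
    intro x l
    by_cases hl : (l : G) ∈ A
    · have := sum_invol hD hl ((l : G)⁻¹ * (x⁻¹ * g * x))
      have e : ∑ B ∈ Pfam A, eps B * (if (l : G) ∈ NB L B ∧ (l : G) ∈ A then
          α l * ((Nat.card (HB H (insert (l : G) B)) : ℂ)⁻¹ *
          (if (l : G)⁻¹ * (x⁻¹ * g * x) ∈ HB H (insert (l : G) B) then 1 else 0)) else 0) =
          α l * ∑ B ∈ Pfam A, (if (l : G) ∈ NB L B then
            eps B * (Nat.card (HB H (insert (l : G) B)) : ℂ)⁻¹ *
            (if (l : G)⁻¹ * (x⁻¹ * g * x) ∈ HB H (insert (l : G) B) then 1 else 0) else 0) := by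
        rw [Finset.mul_sum]
        refine Finset.sum_congr rfl fun B _ => ?_
        by_cases hN : (l : G) ∈ NB L B
        · simp only [hN, hl, and_self, if_true]
          ring
        · simp [hN]
      rw [e, this]
      by_cases hw : (l : G)⁻¹ * (x⁻¹ * g * x) ∈ H l
      · simp only [hw, hl, and_self, if_true]
        ring
      · simp [hw]
    · simp [hl]
  simp_rw [h2]
  rw [← sum_pairs hD hα g, Fintype.sum_prod_type]
  rw [← Equiv.sum_comp (Equiv.inv G)]
  refine Finset.sum_congr rfl fun x _ => Finset.sum_congr rfl fun l _ => ?_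
  simp only [Equiv.inv_apply, inv_inv]

/-! ### Conjugation invariance and orbits -/

open Classical in
/-- Conjugate of a finite subset. -/
noncomputable def cj (c : G) (B : Finset G) : Finset G := B.image (fun b => c * b * c⁻¹)

theorem mem_cj {c x : G} {B : Finset G} : x ∈ cj c B ↔ c⁻¹ * x * c ∈ B := by
  classical
  unfold cj
  simp only [Finset.mem_image]
  constructor
  · rintro ⟨b, hb, rfl⟩
    simpa [mul_assoc] using hb
  · intro h
    exact ⟨_, h, by group⟩

theorem card_cj (c : G) (B : Finset G) : (cj c B).card = B.card := by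
  classical
  unfold cj
  refine Finset.card_image_of_injective _ ?_
  intro a b h
  exact mul_left_cancel (mul_right_cancel h)

theorem cj_one (B : Finset G) : cj 1 B = B := by
  ext x
  rw [mem_cj]
  simp

theorem cj_mul (c d : G) (B : Finset G) : cj (c * d) B = cj c (cj d B) := by
  ext x
  rw [mem_cj, mem_cj, mem_cj]
  have e : (c * d)⁻¹ * x * (c * d) = d⁻¹ * (c⁻¹ * x * c) * d := by group
  rw [e]

theorem IsP_cj (hD : DadeHypothesis A L H) {c : G} (hc : c ∈ L) {B : Finset G} (hB : IsP A B) :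
    IsP A (cj c B) := by
  constructor
  · obtain ⟨b, hb⟩ := hB.1
    refine ⟨c * b * c⁻¹, mem_cj.mpr ?_⟩
    simpa [mul_assoc] using hb
  · intro x hx
    have h1 := hB.2 _ (mem_cj.mp hx)
    have := hD.conj_mem c hc _ h1
    have e : c * (c⁻¹ * x * c) * c⁻¹ = x := by group
    rwa [e] at this

theorem IsP_cj_iff (hD : DadeHypothesis A L H) {c : G} (hc : c ∈ L) {B : Finset G} :
    IsP A (cj c B) ↔ IsP A B := by
  refine ⟨fun h => ?_, IsP_cj hD hc⟩
  have := IsP_cj hD (L.inv_mem hc) h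
  rwa [← cj_mul, inv_mul_cancel, cj_one] at this

theorem mem_A_conj_iff (hD : DadeHypothesis A L H) {c a : G} (hc : c ∈ L) :
    c * a * c⁻¹ ∈ A ↔ a ∈ A := by
  constructor
  · intro h
    have := hD.conj_mem c⁻¹ (L.inv_mem hc) _ h
    simpa [mul_assoc] using this
  · exact hD.conj_mem c hc a

theorem HB_cj (hD : DadeHypothesis A L H) {B : Finset G} (hB : IsP A B) {c u : G} (hc : c ∈ L) :
    u ∈ HB H (cj c B) ↔ c⁻¹ * u * c ∈ HB H B := by
  constructor
  · intro h
    rw [mem_HB] at h ⊢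
    intro b hb
    have hb' : c * b * c⁻¹ ∈ cj c B := mem_cj.mpr (by simpa [mul_assoc] using hb)
    have h1 := h _ hb'
    have h2 := conj_mem_H_of_mem_L hD ((IsP_cj hD hc hB).2 _ hb') (L.inv_mem hc) h1
    have e : c⁻¹ * (c * b * c⁻¹) * c⁻¹⁻¹ = b := by group
    rw [e] at h2
    simpa using h2
  · intro h
    rw [mem_HB] at h ⊢
    intro b hb
    have hb' := mem_cj.mp hb
    have h1 := h _ hb'
    have h2 := conj_mem_H_of_mem_L hD (hB.2 _ hb') hc h1
    have e : c * (c⁻¹ * b * c) * c⁻¹ = b := by group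
    rw [e] at h2
    have e2 : c * (c⁻¹ * u * c) * c⁻¹ = u := by group
    rwa [e2] at h2

theorem NB_cj {B : Finset G} {c l : G} (hc : c ∈ L) :
    l ∈ NB L (cj c B) ↔ c⁻¹ * l * c ∈ NB L B := by
  rw [mem_NB, mem_NB]
  constructor
  · rintro ⟨h1, h2⟩
    refine ⟨L.mul_mem (L.mul_mem (L.inv_mem hc) h1) hc, fun b => ?_⟩
    have := h2 (c * b * c⁻¹)
    rw [mem_cj, mem_cj] at this
    have e1 : c⁻¹ * (c * b * c⁻¹) * c = b := by group
    have e2 : c⁻¹ * (l * (c * b * c⁻¹) * l⁻¹) * c = (c⁻¹ * l * c) * b * (c⁻¹ * l * c)⁻¹ := by group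
    rwa [e1, e2] at this
  · rintro ⟨h1, h2⟩
    have hl : l ∈ L := by
      have := L.mul_mem (L.mul_mem hc h1) (L.inv_mem hc)
      have e : c * (c⁻¹ * l * c) * c⁻¹ = l := by group
      rwa [e] at this
    refine ⟨hl, fun b => ?_⟩
    rw [mem_cj, mem_cj]
    have := h2 (c⁻¹ * b * c)
    have e2 : (c⁻¹ * l * c) * (c⁻¹ * b * c) * (c⁻¹ * l * c)⁻¹ = c⁻¹ * (l * b * l⁻¹) * c := by group
    rwa [e2] at this

theorem card_conj_eq {K K' : Subgroup G} {c : G} (h : ∀ u, u ∈ K' ↔ c⁻¹ * u * c ∈ K) :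
    Nat.card K' = Nat.card K := by
  refine Nat.card_congr
    { toFun := fun u => ⟨c⁻¹ * u * c, (h u).mp u.2⟩
      invFun := fun v => ⟨c * v * c⁻¹, (h _).mpr (by
        have e : c⁻¹ * (c * (v : G) * c⁻¹) * c = v := by group
        rw [e]; exact v.2)⟩
      left_inv := fun u => Subtype.ext (by simp; group)
      right_inv := fun v => Subtype.ext (by simp; group) }

open Classical in
theorem EB_cj (hD : DadeHypothesis A L H) {B : Finset G} (hB : IsP A B) {c : L} {α : L → ℂ}
    (hα : IsClassFunction L α) (g : G) :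
    EB A L H α (cj (c : G) B) g = EB A L H α B g := by
  unfold EB
  rw [card_conj_eq (K := HB H B) (c := (c : G)) (fun u => HB_cj hD hB c.2)]
  congr 1
  rw [← Equiv.sum_comp (Equiv.mulRight (c : G)⁻¹)]
  refine Finset.sum_congr rfl fun y _ => ?_
  rw [← Equiv.sum_comp (MulAut.conj c).toEquiv]
  refine Finset.sum_congr rfl fun l _ => ?_
  simp only [Equiv.coe_mulRight, MulEquiv.toEquiv_eq_coe, EquivLike.coe_coe, MulAut.conj_apply]
  have h1 : ((c * l * c⁻¹ : L) : G) ∈ NB L (cj (c : G) B) ↔ (l : G) ∈ NB L B := by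
    rw [NB_cj c.2]
    have e : (c : G)⁻¹ * ((c * l * c⁻¹ : L) : G) * c = l := by
      simp only [Subgroup.coe_mul, Subgroup.coe_inv]
      group
    rw [e]
  have h2 : ((c * l * c⁻¹ : L) : G) ∈ A ↔ (l : G) ∈ A := by
    simp only [Subgroup.coe_mul, Subgroup.coe_inv]
    exact mem_A_conj_iff hD c.2
  have h3 : ((c * l * c⁻¹ : L) : G)⁻¹ * ((y * (c : G)⁻¹)⁻¹ * g * (y * (c : G)⁻¹)) ∈ HB H (cj (c : G) B) ↔
      (l : G)⁻¹ * (y⁻¹ * g * y) ∈ HB H B := by
    rw [HB_cj hD hB c.2]
    have e : (c : G)⁻¹ * (((c * l * c⁻¹ : L) : G)⁻¹ * ((y * (c : G)⁻¹)⁻¹ * g * (y * (c : G)⁻¹))) * c =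
        (l : G)⁻¹ * (y⁻¹ * g * y) := by
      simp only [Subgroup.coe_mul, Subgroup.coe_inv]
      group
    rw [e]
  simp only [h1, h2, h3, hα l c]

/-- Sum over an invariant family, weighted by inverse orbit lengths, is a sum over orbit
representatives. -/
theorem sum_orbit {Γ X : Type*} [Group Γ] [MulAction Γ X] [Fintype X]
    [Fintype (MulAction.orbitRel.Quotient Γ X)] (w f : X → ℂ) (hw : ∀ (c : Γ) x, w (c • x) = w x)
    (hf : ∀ (c : Γ) x, f (c • x) = f x)
    (h1 : ∀ x, (Nat.card (MulAction.orbit Γ x) : ℂ) * w x = 1) :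
    ∑ x, w x * f x = ∑ ω : MulAction.orbitRel.Quotient Γ X, f ω.out := by
  classical
  rw [← Finset.sum_fiberwise (s := Finset.univ)
    (g := fun x : X => (Quotient.mk'' x : MulAction.orbitRel.Quotient Γ X))]
  refine Finset.sum_congr rfl fun ω _ => ?_
  have hfib : ∀ x ∈ Finset.univ.filter (fun x : X =>
      (Quotient.mk'' x : MulAction.orbitRel.Quotient Γ X) = ω), x ∈ MulAction.orbit Γ ω.out := by
    intro x hx
    have hx' := (Finset.mem_filter.mp hx).2
    have : (Quotient.mk'' x : MulAction.orbitRel.Quotient Γ X) = Quotient.mk'' ω.out := by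
      rw [hx']
      exact (Quotient.out_eq' ω).symm
    exact MulAction.orbitRel_apply.mp (Quotient.eq''.mp this)
  have hconst : ∀ x ∈ Finset.univ.filter (fun x : X =>
      (Quotient.mk'' x : MulAction.orbitRel.Quotient Γ X) = ω), w x * f x = w ω.out * f ω.out := by
    intro x hx
    obtain ⟨c, rfl⟩ := hfib x hx
    simp only [hw, hf]
  rw [Finset.sum_congr rfl hconst, Finset.sum_const, nsmul_eq_mul]
  have hcard : (Finset.univ.filter (fun x : X =>
      (Quotient.mk'' x : MulAction.orbitRel.Quotient Γ X) = ω)).card =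
      Nat.card (MulAction.orbit Γ ω.out) := by
    rw [Nat.card_eq_fintype_card, ← Set.toFinset_card]
    congr 1
    ext x
    simp only [Finset.mem_filter, Finset.mem_univ, true_and, Set.mem_toFinset]
    constructor
    · intro hx
      exact hfib x (Finset.mem_filter.mpr ⟨Finset.mem_univ _, hx⟩)
    · intro hx
      have : (Quotient.mk'' x : MulAction.orbitRel.Quotient Γ X) = Quotient.mk'' ω.out :=
        Quotient.eq''.mpr (MulAction.orbitRel_apply.mpr hx)
      rw [this]
      exact Quotient.out_eq' ω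
  rw [hcard, ← mul_assoc, h1, one_mul]

/-- The conjugation action of `L` on the finite subsets of `G`. -/
@[instance_reducible] noncomputable def cjAction (L : Subgroup G) : MulAction L (Finset G) where
  smul c B := cj (c : G) B
  one_smul B := cj_one B
  mul_smul c d B := cj_mul (c : G) (d : G) B

open Classical in
theorem card_orbit_mul (B : Finset G) :
    letI := cjAction L (G := G)
    Nat.card (MulAction.orbit L B) * Nat.card (NB L B) = Nat.card L := by
  letI := cjAction L (G := G)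
  have h := MulAction.card_orbit_mul_card_stabilizer_eq_card_group L B
  have h2 : Nat.card (MulAction.stabilizer L B) = Nat.card (NB L B) := by
    refine Nat.card_congr
      { toFun := fun c => ⟨((c : L) : G), ?_⟩
        invFun := fun n => ⟨⟨n, NB_le B n.2⟩, ?_⟩
        left_inv := fun c => rfl
        right_inv := fun n => rfl }
    · refine mem_NB.mpr ⟨(c : L).2, fun b => ?_⟩
      have hc : cj ((c : L) : G) B = B := MulAction.mem_stabilizer_iff.mp c.2
      have hc' := Finset.ext_iff.mp hc (((c : L) : G) * b * ((c : L) : G)⁻¹)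
      rw [mem_cj] at hc'
      have e : ((c : L) : G)⁻¹ * (((c : L) : G) * b * ((c : L) : G)⁻¹) * ((c : L) : G) = b := by group
      rw [e] at hc'
      exact hc'
    · refine MulAction.mem_stabilizer_iff.mpr ?_
      show cj (n : G) B = B
      ext x
      rw [mem_cj]
      have := (mem_NB.mp n.2).2 ((n : G)⁻¹ * x * n)
      have e : (n : G) * ((n : G)⁻¹ * x * n) * (n : G)⁻¹ = x := by group
      rwa [e] at this
  rw [Nat.card_eq_fintype_card, Nat.card_eq_fintype_card (α := L), ← h2,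
    Nat.card_eq_fintype_card (α := MulAction.stabilizer L B)]
  exact h

open Classical in
/-- **Dade**: the image of a generalized character supported in `A` is a generalized character. -/
theorem dade_isGen (hD : DadeHypothesis A L H) {α : L → ℂ} (hα : IsGeneralizedCharacter L α)
    (hαA : ∀ x : L, (x : G) ∉ A → α x = 0) : IsGeneralizedCharacter G (dadeIsometry A L H α) := by
  letI := cjAction L (G := G)
  have hcl : IsClassFunction L α := isGen_isClassFunction hα
  have hL : (Nat.card L : ℂ) ≠ 0 := by exact_mod_cast Nat.card_pos.ne'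
  have hex : ∀ B : Finset G, ∃ θ : G → ℂ, IsGeneralizedCharacter G θ ∧
      (IsP A B → ∀ g, (Nat.card (NB L B) : ℂ) * θ g = EB A L H α B g) ∧ (¬IsP A B → θ = 0) := by
    intro B
    by_cases hB : IsP A B
    · obtain ⟨θ, h1, h2⟩ := exists_gen hD hB hα hαA
      exact ⟨θ, h1, fun _ => h2, fun h => absurd hB h⟩
    · exact ⟨0, isGen_zero, fun h => absurd h hB, fun _ => rfl⟩
  choose θ hθgen hθE hθ0 using hex
  have hN : ∀ B : Finset G, (Nat.card (NB L B) : ℂ) ≠ 0 := fun B => by
    exact_mod_cast Nat.card_pos.ne'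
  have hNcj : ∀ (c : L) (B : Finset G), Nat.card (NB L (cj (c : G) B)) = Nat.card (NB L B) :=
    fun c B => card_conj_eq (c := (c : G)) (fun u => NB_cj c.2)
  have hθcj : ∀ (c : L) (B : Finset G), θ (cj (c : G) B) = θ B := by
    intro c B
    by_cases hB : IsP A B
    · funext g
      have h1 := hθE _ (IsP_cj hD c.2 hB) g
      have h2 := hθE _ hB g
      rw [EB_cj hD hB hcl, hNcj] at h1
      exact mul_left_cancel₀ (hN B) (h1.trans h2.symm)
    · rw [hθ0 B hB, hθ0 _ (fun h => hB ((IsP_cj_iff hD c.2).mp h))]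
  have heps : ∀ (c : L) (B : Finset G), eps (cj (c : G) B) = eps B := by
    intro c B
    unfold eps
    rw [card_cj]
  have hmain : ∀ g : G, dadeIsometry A L H α g =
      ∑ ω : MulAction.orbitRel.Quotient L (Finset G), eps ω.out * θ ω.out g := by
    intro g
    have h1 := sum_EB hD hcl hαA g
    have h2 : ∑ B ∈ Pfam A, eps B * EB A L H α B g =
        ∑ B : Finset G, (Nat.card (NB L B) : ℂ) * (eps B * θ B g) := by
      have h3 : ∑ B : Finset G, (Nat.card (NB L B) : ℂ) * (eps B * θ B g) =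
          ∑ B ∈ Pfam A, (Nat.card (NB L B) : ℂ) * (eps B * θ B g) := by
        symm
        refine Finset.sum_subset (Finset.subset_univ _) fun B _ hB => ?_
        rw [hθ0 B (fun h => hB (mem_Pfam.mpr h))]
        simp
      rw [h3]
      refine Finset.sum_congr rfl fun B hB => ?_
      rw [← hθE B (mem_Pfam.mp hB) g]
      ring
    rw [h2] at h1
    have h4 := sum_orbit (Γ := L) (X := Finset G)
      (fun B => (Nat.card (NB L B) : ℂ) / (Nat.card L : ℂ)) (fun B => eps B * θ B g)
      (fun c B => by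
        show (Nat.card (NB L (cj (c : G) B)) : ℂ) / (Nat.card L : ℂ) = _
        rw [hNcj])
      (fun c B => by
        show eps (cj (c : G) B) * θ (cj (c : G) B) g = _
        rw [heps, hθcj])
      (fun B => by
        have := card_orbit_mul (L := L) B
        have h5 : ((Nat.card (MulAction.orbit L B) : ℂ)) * (Nat.card (NB L B) : ℂ) =
            (Nat.card L : ℂ) := by
          exact_mod_cast this
        field_simp
        exact h5)
    rw [← h4]
    have h6 : ∑ B : Finset G, (Nat.card (NB L B) : ℂ) / (Nat.card L : ℂ) * (eps B * θ B g) =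
        (Nat.card L : ℂ)⁻¹ * ∑ B : Finset G, (Nat.card (NB L B) : ℂ) * (eps B * θ B g) := by
      rw [Finset.mul_sum]
      refine Finset.sum_congr rfl fun B _ => ?_
      field_simp
    rw [h6, h1]
    field_simp
  have hfun : dadeIsometry A L H α =
      ∑ ω : MulAction.orbitRel.Quotient L (Finset G), (fun g => eps ω.out * θ ω.out g) := by
    funext g
    rw [hmain g, Finset.sum_apply]
  rw [hfun]
  refine isGen_sum _ _ fun ω _ => ?_
  have hg := hθgen ω.out
  unfold eps
  rcases neg_one_pow_eq_or ℂ (ω.out.card + 1) with h | h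
  · simp only [h, one_mul]
    exact hg
  · simp only [h, neg_mul, one_mul]
    exact isGen_neg hg

end Cfsg.Agent.Lib.DadeExpand
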