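import Mathlib
import Cfsg.Agent.Lib.StarP
import Cfsg.Agent.Lib.BlockSecond
import Cfsg.Agent.Lib.BrauerConj

/-!
# Character values at idempotents and the Brauer map

For `v` with `p`-part `u`, the value `χ (v a)` at an idempotent `a` commuting with `v` only
depends on the image of `a` under the Brauer map at `⟨u⟩`.
-/

set_option autoImplicit false
set_option linter.unusedSectionVars false
set_option linter.unusedVariables false
set_option linter.style.haveILetI false

namespace Cfsg.Agent.Lib.StarTh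

open Polynomial IsLocalRing Cfsg Cfsg.Agent.Lib.StarFit Cfsg.Agent.Lib.StarGrp
open Cfsg.Agent.Lib.StarLoc Cfsg.Agent.Lib.BlockLocal Cfsg.Agent.Lib.BlockCover
open Cfsg.Agent.Lib.BlockResidue Cfsg.Agent.Lib.BrauerMap Cfsg.Agent.Lib.BrauerPair
open Cfsg.Agent.Lib.BrauerSub Cfsg.Agent.Lib.BlockIdem Cfsg.Agent.Lib.CharIntegrality
open Cfsg.Agent.Lib.BlkBasic Cfsg.Agent.Lib.StarBlk Cfsg.Agent.Lib.StarP
open Cfsg.Agent.Lib.StarFit.LocSys

universe u

section AbstractZ

variable {R : Type*} {A : Type*} {B : Type*} [CommRing R] [IsLocalRing R] [Ring A] [Algebra R A]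
  [Ring B] {L : LocSys R A B} {S : Subalgebra R A} {C : Type*} [Ring C] {ψ : A →+ C}
  {K : Type*} [AddCommGroup K]

/-- The value of a trace form at an idempotent depends only on its image. -/
theorem trace_same_image (hψ : HomOn L S ψ) (τ : A →+ K) (hcomm : ∀ x ∈ S, ∀ y ∈ S, τ (x * y) = τ (y * x))
    (hzero : ∀ r ∈ S, r * r = r → ψ r = 0 → τ r = 0) {p₁ p₂ : A} (hp₁ : p₁ ∈ S) (hp₂ : p₂ ∈ S)
    (h11 : p₁ * p₁ = p₁) (h22 : p₂ * p₂ = p₂) (h : ψ p₁ = ψ p₂) : τ p₁ = τ p₂ := by
  classical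
  set y := p₁ * p₂ * p₁ with hy
  have hyS : y ∈ S := S.mul_mem (S.mul_mem hp₁ hp₂) hp₁
  set ε := ψ p₁ with hε
  have hεε : ε * ε = ε := by
    rw [hε, ← hψ.mul _ hp₁ _ hp₁, h11]
  have h2ε : ψ p₂ = ε := h.symm
  have hψy : ψ y = ε := by
    rw [hy, hψ.mul _ (S.mul_mem hp₁ hp₂) _ hp₁, hψ.mul _ hp₁ _ hp₂, h2ε, ← hε, hεε, hεε]
  obtain ⟨g, f, N, h1, h2, h3⟩ := L.fit_one y 0
  rw [map_zero, sub_zero] at h2 h3
  set π := aeval y g with hπ
  set F := aeval y f with hF
  have hπS : π ∈ S := aeval_mem S hyS g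
  have hFS : F ∈ S := aeval_mem S hyS f
  have hyF : y * F = F * y := (commute_aeval_self y f).eq
  set q := y * F with hq
  have hqS : q ∈ S := S.mul_mem hyS hFS
  have hqπ : q = 1 - π := h3
  have hqq : q * q = q := by
    rw [hqπ]
    calc (1 - π) * (1 - π) = 1 - π - π + π * π := by noncomm_ring
      _ = 1 - π := by rw [h1]; abel
  have hp₁y : p₁ * y = y := by
    rw [hy, ← mul_assoc, ← mul_assoc, h11]
  have hyp₁ : y * p₁ = y := by
    rw [hy, mul_assoc, h11]
  have hp₁q : p₁ * q = q := by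
    rw [hq, ← mul_assoc, hp₁y]
  have hqp₁ : q * p₁ = q := by
    calc q * p₁ = (F * y) * p₁ := by rw [← hyF]
      _ = F * (y * p₁) := mul_assoc _ _ _
      _ = F * y := by rw [hyp₁]
      _ = q := hyF.symm
  have hψq : ψ q = ε := by
    have h4 : ε ^ N * ψ π = 0 := by
      rw [← hψy, ← hψ.pow hyS, ← hψ.mul _ (S.pow_mem hyS N) _ hπS]
      exact hψ.ker _ (S.mul_mem (S.pow_mem hyS N) hπS) h2
    have h5 : ε * ψ π = 0 := by
      rcases Nat.eq_zero_or_pos N with rfl | hN
      · rw [pow_zero, one_mul] at h4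
        rw [h4, mul_zero]
      · obtain ⟨n, rfl⟩ := Nat.exists_eq_succ_of_ne_zero hN.ne'
        have h6 : ∀ n : ℕ, ε ^ (n + 1) = ε := by
          intro n
          induction n with
          | zero => simp
          | succ n ih => rw [pow_succ, ih, hεε]
        rw [Nat.succ_eq_add_one, h6] at h4
        exact h4
    have h7 : ψ q = 1 - ψ π := by
      rw [hqπ, map_sub, hψ.one]
    have h8 : ψ q = ε * ψ F := by
      rw [hq, hψ.mul _ hyS _ hFS, hψy]
    calc ψ q = ε * ψ F := h8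
      _ = (ε * ε) * ψ F := by rw [hεε]
      _ = ε * (ε * ψ F) := mul_assoc _ _ _
      _ = ε * ψ q := by rw [← h8]
      _ = ε * (1 - ψ π) := by rw [h7]
      _ = ε := by rw [mul_sub, mul_one, h5, sub_zero]
  have hεF : ε * ψ F = ε := by
    have h8 : ψ q = ε * ψ F := by
      rw [hq, hψ.mul _ hyS _ hFS, hψy]
    rw [← h8, hψq]
  -- the conjugating elements
  set α := q * F * p₁ * p₂ with hα
  set β := p₂ * p₁ * q with hβ
  have hαS : α ∈ S := S.mul_mem (S.mul_mem (S.mul_mem hqS hFS) hp₁) hp₂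
  have hβS : β ∈ S := S.mul_mem (S.mul_mem hp₂ hp₁) hqS
  have hFy : F * y = q := hyF.symm
  have hαβ : α * β = q := by
    calc α * β = q * F * (p₁ * (p₂ * p₂) * p₁) * q := by
          simp only [hα, hβ, mul_assoc]
      _ = q * (F * y) * q := by
          rw [h22, mul_assoc q F]
      _ = q := by rw [hFy, hqq, hqq]
  have hβq : β * q = β := by
    rw [hβ, mul_assoc, hqq]
  have hqα : q * α = α := by
    rw [hα, ← mul_assoc, ← mul_assoc, ← mul_assoc, hqq]
  set r := β * α with hr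
  have hrS : r ∈ S := S.mul_mem hβS hαS
  have hrr : r * r = r := by
    calc r * r = β * (α * β) * α := by simp only [hr, mul_assoc]
      _ = (β * q) * α := by rw [hαβ]
      _ = r := by rw [hβq]
  have hp₂β : p₂ * β = β := by
    calc p₂ * β = (p₂ * p₂) * p₁ * q := by simp only [hβ, mul_assoc]
      _ = β := by rw [h22]
  have hαp₂ : α * p₂ = α := by
    rw [hα, mul_assoc, h22]
  have hp₂r : p₂ * r = r := by
    rw [hr, ← mul_assoc, hp₂β]
  have hrp₂ : r * p₂ = r := by
    rw [hr, mul_assoc, hαp₂]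
  have hψβ : ψ β = ε := by
    rw [hβ, hψ.mul _ (S.mul_mem hp₂ hp₁) _ hqS, hψ.mul _ hp₂ _ hp₁, h2ε, hψq, ← hε, hεε, hεε]
  have hψα : ψ α = ε := by
    rw [hα, hψ.mul _ (S.mul_mem (S.mul_mem hqS hFS) hp₁) _ hp₂,
      hψ.mul _ (S.mul_mem hqS hFS) _ hp₁, hψ.mul _ hqS _ hFS, hψq, hεF, h2ε, ← hε, hεε, hεε]
  have hψr : ψ r = ε := by
    rw [hr, hψ.mul _ hβS _ hαS, hψβ, hψα, hεε]
  have h9 : τ q = τ r := by
    rw [← hαβ, hr]
    exact hcomm _ hαS _ hβS
  have h10 : τ (p₁ - q) = 0 := by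
    apply hzero _ (S.sub_mem hp₁ hqS)
    · rw [mul_sub, sub_mul, sub_mul, h11, hp₁q, hqp₁, hqq]
      abel
    · rw [map_sub, hψq, ← hε, sub_self]
  have h11' : τ (p₂ - r) = 0 := by
    apply hzero _ (S.sub_mem hp₂ hrS)
    · rw [mul_sub, sub_mul, sub_mul, h22, hp₂r, hrp₂, hrr]
      abel
    · rw [map_sub, hψr, h2ε, sub_self]
  rw [map_sub, sub_eq_zero] at h10 h11'
  rw [h10, h9, h11']

end AbstractZ

variable {G : Type u} [Group G] [Fintype G] {p : ℕ} [hp : Fact p.Prime] {M : Ideal AlgInt}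
  [hMp : M.IsPrime]

local notation "𝐂[" R "]" => Subgroup.centralizer ((R : Subgroup G) : Set G)

noncomputable local instance fintypeSubTh {A : Type*} [Group A] [Finite A] (K : Subgroup A) : Fintype K :=
  Fintype.ofFinite K

section ChiT

/-- The linear extension of a function to the group algebra. -/
noncomputable def chiT (χ : G → ℂ) : MonoidAlgebra (localSubring M) G →+ ℂ where
  toFun x := ∑ k, coeF x k * χ k
  map_zero' := by
    simp [coeF_apply]
  map_add' x y := by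
    rw [← Finset.sum_add_distrib]
    refine Finset.sum_congr rfl fun k _ => ?_
    simp only [coeF_apply, MonoidAlgebra.coeff_add, Finsupp.add_apply]
    push_cast
    ring

theorem chiT_apply (χ : G → ℂ) (x : MonoidAlgebra (localSubring M) G) :
    chiT χ x = ∑ k, coeF x k * χ k := rfl

theorem coeF_ofG_mul (v : G) (x : MonoidAlgebra (localSubring M) G) (k : G) :
    coeF (ofG (localSubring M) v * x) k = coeF x (v⁻¹ * k) := by
  simp only [coeF_apply, ofG]
  rw [coeff_single_mul']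

theorem chiT_ofG_mul (χ : G → ℂ) (v : G) (x : MonoidAlgebra (localSubring M) G) :
    chiT χ (ofG (localSubring M) v * x) = ∑ k, coeF x k * χ (v * k) := by
  rw [chiT_apply]
  refine Fintype.sum_equiv (Equiv.mulLeft v⁻¹) _ _ fun k => ?_
  simp only [Equiv.coe_mulLeft]
  rw [coeF_ofG_mul]
  congr 2
  group

theorem chiT_mul_comm {χ : G → ℂ} (hχ : IsClassFunction G χ)
    (x y : MonoidAlgebra (localSubring M) G) : chiT χ (x * y) = chiT χ (y * x) := by
  have key : ∀ x y : MonoidAlgebra (localSubring M) G,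
      chiT χ (x * y) = ∑ a, ∑ b, coeF x a * coeF y b * χ (a * b) := by
    intro x y
    rw [chiT_apply, coeF_mul]
    unfold conv
    simp_rw [Finset.sum_mul]
    rw [Finset.sum_comm]
    refine Finset.sum_congr rfl fun a _ => ?_
    refine Fintype.sum_equiv (Equiv.mulLeft a⁻¹) _ _ fun k => ?_
    simp
  rw [key, key, Finset.sum_comm]
  refine Finset.sum_congr rfl fun a _ => Finset.sum_congr rfl fun b _ => ?_
  have h1 : b * a = b * (a * b) * b⁻¹ := by group
  rw [h1, hχ (a * b) b]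
  ring

/-- Character values are invariant under conjugation. -/
theorem chiT_cj {χ : G → ℂ} (hχ : IsClassFunction G χ) (t : G)
    (x : MonoidAlgebra (localSubring M) G) : chiT χ (cj t x) = chiT χ x := by
  unfold cj
  rw [chiT_mul_comm hχ, ← mul_assoc, ofG_inv_mul, one_mul]

theorem memLocalIdeal_of_residue (x : localSubring M) (h : residue (localSubring M) x = 0) :
    MemLocalIdeal M (x : ℂ) := by
  by_contra hne
  have h1 := (residue_eq_zero_iff x).1 h
  rw [mem_maximalIdeal, mem_nonunits_iff] at h1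
  apply h1
  refine IsUnit.of_mul_eq_one (⟨(x : ℂ)⁻¹, memLocalRing_inv x.2 hne⟩ : localSubring M) ?_
  apply Subtype.ext
  exact mul_inv_eq_one_of_not_memLocalIdeal hne

end ChiT

section T

/-- The elements commuting with `v`. -/
noncomputable abbrev SV (M : Ideal AlgInt) [M.IsPrime] (v : G) :
    Subalgebra (localSubring M) (MonoidAlgebra (localSubring M) G) :=
  cen (localSubring M) ((Subgroup.zpowers v : Subgroup G) : Set G)

theorem mem_SV_iff {v : G} {x : MonoidAlgebra (localSubring M) G} :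
    x ∈ SV M v ↔ ofG (localSubring M) v * x = x * ofG (localSubring M) v := by
  constructor
  · intro h
    exact mem_cen.1 h v (Subgroup.mem_zpowers v)
  · intro h
    rw [mem_cen]
    intro e he
    obtain ⟨n, hn⟩ := (mem_powers_iff_mem_zpowers).2 he
    have hn' : e = v ^ n := hn.symm
    rw [hn']
    clear hn hn' he
    induction n with
    | zero => simp
    | succ n ih =>
      rw [pow_succ, ofG_mul, mul_assoc, h, ← mul_assoc, ih, mul_assoc]

/-- **The trace lemma for idempotents**. -/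
theorem chiT_eq_zero (hM : IsPModular p M) {a : MonoidAlgebra (localSubring M) G} (haa : a * a = a)
    {h z : G} (hz : IsPPart p h z) (hcomm : a ∈ SV M h) (hbr : br (Subgroup.zpowers z) a = 0)
    {χ : G → ℂ} (hχ : IsClassFunction G χ) : chiT χ (ofG (localSubring M) h * a) = 0 := by
  classical
  have hpp : p.Prime := hp.out
  have hG : (Nat.card G : ℂ) ≠ 0 := by exact_mod_cast Nat.card_pos.ne'
  have hconv : conv (coeF a) (coeF a) = coeF a := by
    rw [← coeF_mul, haa]
  have ha : ∀ t, coeF a (h⁻¹ * t * h) = coeF a t := by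
    intro t
    have := mem_cen_coeff.1 hcomm h (Subgroup.mem_zpowers h) t
    simp only [coeF_apply]
    rw [this]
  have hzero : ∀ g : G, ∑ x : G, coeF a (h⁻¹ * x * g * x⁻¹) = 0 := by
    intro g
    obtain ⟨z', hz'⟩ := Cfsg.Agent.Lib.BlkOrth.exists_isPPart hpp g
    have hgz : g * z' * g⁻¹ = z' := by
      have := (Cfsg.Agent.Lib.BlkOrth.pPart_commute hpp hz').eq
      rw [this]
      group
    have hhz : h * z * h⁻¹ = z := by
      have := (Cfsg.Agent.Lib.BlkOrth.pPart_commute hpp hz).eq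
      rw [this]
      group
    refine Cfsg.Agent.Lib.BlkOrth.trace_lemma hM (coeF a) (coeF_local a) hconv h g ha
      {x | x * z' * x⁻¹ = z} ?_ ?_ ?_
    · intro x
      simp only [Set.mem_ofPred_eq]
      have e : (h⁻¹ * x * g) * z' * (h⁻¹ * x * g)⁻¹ = h⁻¹ * (x * (g * z' * g⁻¹) * x⁻¹) * h := by group
      rw [e, hgz]
      constructor
      · intro h1
        have h2 : x * z' * x⁻¹ = h * (h⁻¹ * (x * z' * x⁻¹) * h) * h⁻¹ := by group
        rw [h2, h1, hhz]
      · intro h1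
        rw [h1]
        have h2 : h⁻¹ * z * h = h⁻¹ * (h * z * h⁻¹) * h := by rw [hhz]
        rw [h2]
        group
    · intro x hx k hk
      by_contra hpk
      obtain ⟨N, h1, h2⟩ := Cfsg.Agent.Lib.BlkOrth.exists_exponent_pParts hpp hz hz' hpk
      apply hx
      have h3 : x * g ^ k * x⁻¹ = h ^ k := by
        have h4 : x * g ^ k = h ^ k * x := by
          calc x * g ^ k = h ^ k * ((h ^ k)⁻¹ * x * g ^ k) := by group
            _ = h ^ k * x := by rw [hk]
        rw [h4]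
        group
      show x * z' * x⁻¹ = z
      rw [← h1, ← h2, pow_mul, pow_mul, ← h3, conj_pow]
    · intro u hu v hv
      simp only [Set.mem_ofPred_eq] at hu hv
      have hmem : u * v⁻¹ ∈ 𝐂[Subgroup.zpowers z] := by
        rw [Cfsg.Agent.Lib.BlockSecond.centralizer_zpowers_eq, Subgroup.mem_centralizer_singleton_iff]
        have h1 : v⁻¹ * z * v = z' := by
          rw [← hv]
          group
        have h2 : (u * v⁻¹) * z * (u * v⁻¹)⁻¹ = z := by
          have e : (u * v⁻¹) * z * (u * v⁻¹)⁻¹ = u * (v⁻¹ * z * v) * u⁻¹ := by group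
          rw [e, h1, hu]
        calc u * v⁻¹ * z = (u * v⁻¹) * z * (u * v⁻¹)⁻¹ * (u * v⁻¹) := by group
          _ = z * (u * v⁻¹) := by rw [h2]
      have h5 := br_coeff_mem (Subgroup.zpowers z) a hmem
      rw [hbr] at h5
      exact memLocalIdeal_of_residue _ h5.symm
  have h1 : ∑ g : G, χ g * ∑ x : G, coeF a (h⁻¹ * x * g * x⁻¹) = 0 := by
    refine Finset.sum_eq_zero fun g _ => ?_
    rw [hzero g, mul_zero]
  simp_rw [Finset.mul_sum] at h1
  rw [Finset.sum_comm] at h1
  have h2 : ∀ x : G, ∑ g : G, χ g * coeF a (h⁻¹ * x * g * x⁻¹) =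
      ∑ k : G, coeF a k * χ (h * k) := by
    intro x
    let E : G ≃ G := { toFun := fun g => h⁻¹ * x * g * x⁻¹
                       invFun := fun k => x⁻¹ * (h * k) * x
                       left_inv := fun g => by group
                       right_inv := fun k => by group }
    refine Fintype.sum_equiv E _ _ fun g => ?_
    show _ = coeF a (h⁻¹ * x * g * x⁻¹) * χ (h * (h⁻¹ * x * g * x⁻¹))
    have h3 : h * (h⁻¹ * x * g * x⁻¹) = x * g * x⁻¹ := by group
    rw [h3, hχ g x]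
    ring
  simp_rw [h2] at h1
  rw [Finset.sum_const, Finset.card_univ, ← Nat.card_eq_fintype_card, nsmul_eq_mul] at h1
  rw [chiT_ofG_mul]
  exact (mul_eq_zero.1 h1).resolve_left hG

end T

section Th

/-- `ε` is the Brauer image of an idempotent commuting with `v`. -/
def Lft (M : Ideal AlgInt) [M.IsPrime] (u v : G)
    (ε : MonoidAlgebra (ResidueField (localSubring M)) G) : Prop :=
  ∃ q ∈ SV M v, q * q = q ∧ br (Subgroup.zpowers u) q = ε

open Classical in
/-- The character value attached to `ε`. -/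
noncomputable def Th (M : Ideal AlgInt) [M.IsPrime] (χ : G → ℂ) (u v : G)
    (ε : MonoidAlgebra (ResidueField (localSubring M)) G) : ℂ :=
  if h : Lft M u v ε then chiT χ (ofG (localSubring M) v * h.choose) else 0

variable {u v : G} {χ : G → ℂ}

theorem isPGroup_zp (hv : IsPPart p v u) : IsPGroup p (Subgroup.zpowers u) :=
  Cfsg.Agent.Lib.BlockSecond.isPGroup_zpowers_of_isPPart hv

theorem zp_le (hv : IsPPart p v u) : Subgroup.zpowers u ≤ Subgroup.zpowers v := by
  obtain ⟨N, rfl⟩ := Cfsg.Agent.Lib.BlkOrth.pPart_exists_pow hp.out hv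
  rw [Subgroup.zpowers_le]
  exact Subgroup.pow_mem _ (Subgroup.mem_zpowers v) N

theorem homV (hM : IsPModular p M) (hv : IsPPart p v u) :
    LocSys.HomOn (LL M G) (SV M v) (br (Subgroup.zpowers u) : MonoidAlgebra (localSubring M) G →+ _) :=
  homOn_br splitR_local (hpm_of hM) (isPGroup_zp hv) (fun _ hx => zp_le hv hx)

theorem SV_le_cen (hv : IsPPart p v u) :
    SV M v ≤ cen (localSubring M) (Subgroup.zpowers u : Set G) :=
  cen_anti (fun _ hx => zp_le hv hx)

/-- The trace form at `v`. -/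
noncomputable def tauV (χ : G → ℂ) (v : G) : MonoidAlgebra (localSubring M) G →+ ℂ :=
  (chiT χ).comp (AddMonoidHom.mulLeft (ofG (localSubring M) v))

theorem tauV_apply (v : G) (x : MonoidAlgebra (localSubring M) G) :
    tauV χ v x = chiT χ (ofG (localSubring M) v * x) := rfl

theorem tauV_comm (hχ : IsClassFunction G χ) {x y : MonoidAlgebra (localSubring M) G}
    (hy : y ∈ SV M v) : tauV χ v (x * y) = tauV χ v (y * x) := by
  simp only [tauV_apply]
  rw [← mul_assoc, chiT_mul_comm hχ, ← mul_assoc, ← mem_SV_iff.1 hy, mul_assoc]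

theorem Th_eq (hM : IsPModular p M) (hχ : IsClassFunction G χ) (hv : IsPPart p v u)
    {q : MonoidAlgebra (localSubring M) G} (hq : q ∈ SV M v) (hqq : q * q = q) :
    Th M χ u v (br (Subgroup.zpowers u) q) = chiT χ (ofG (localSubring M) v * q) := by
  classical
  have hL : Lft M u v (br (Subgroup.zpowers u) q) := ⟨q, hq, hqq, rfl⟩
  unfold Th
  rw [dif_pos hL]
  obtain ⟨h1, h2, h3⟩ := hL.choose_spec
  exact trace_same_image (homV hM hv) (tauV χ v) (fun x _ y hy => tauV_comm hχ hy)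
    (fun r hr hrr h0 => chiT_eq_zero hM hrr hv hr h0 hχ) h1 hq h2 hqq h3

theorem Th_zero (hM : IsPModular p M) (hχ : IsClassFunction G χ) (hv : IsPPart p v u) :
    Th M χ u v 0 = 0 := by
  have := Th_eq (M := M) (χ := χ) hM hχ hv (q := 0) (Subalgebra.zero_mem _) (by simp)
  rw [map_zero] at this
  rw [this, mul_zero, map_zero]

theorem Lft_zero : Lft M u v 0 := ⟨0, Subalgebra.zero_mem _, by simp, map_zero _⟩

theorem Th_add (hM : IsPModular p M) (hχ : IsClassFunction G χ) (hv : IsPPart p v u)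
    {ε₁ ε₂ : MonoidAlgebra (ResidueField (localSubring M)) G} (h₁ : Lft M u v ε₁) (h₂ : Lft M u v ε₂)
    (h12 : ε₁ * ε₂ = 0) (h21 : ε₂ * ε₁ = 0) :
    Lft M u v (ε₁ + ε₂) ∧ Th M χ u v (ε₁ + ε₂) = Th M χ u v ε₁ + Th M χ u v ε₂ := by
  classical
  obtain ⟨p₁, hp₁, hp₁₁, rfl⟩ := h₁
  obtain ⟨p₂, hp₂, hp₂₂, rfl⟩ := h₂
  have hψ := homV hM hv
  set ψ := (br (Subgroup.zpowers u) : MonoidAlgebra (localSubring M) G →+ _) with hψdef
  have hi₁ : ψ p₁ * ψ p₁ = ψ p₁ := by rw [← hψ.mul _ hp₁ _ hp₁, hp₁₁]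
  have hi₂ : ψ p₂ * ψ p₂ = ψ p₂ := by rw [← hψ.mul _ hp₂ _ hp₂, hp₂₂]
  have hxS : p₁ + p₂ ∈ SV M v := Subalgebra.add_mem _ hp₁ hp₂
  have hx : ψ (p₁ + p₂) = ψ p₁ + ψ p₂ := map_add _ _ _
  have hxi : ψ (p₁ + p₂) * ψ (p₁ + p₂) = ψ (p₁ + p₂) := by
    rw [hx, add_mul, mul_add, mul_add, hi₁, hi₂, h12, h21, add_zero, zero_add]
  obtain ⟨g, hg1, hg2⟩ := exists_lift hψ hxS hxi
  set P := aeval (p₁ + p₂) g with hP
  have hPS : P ∈ SV M v := aeval_mem _ hxS g
  have hrS : P * p₁ * P ∈ SV M v := Subalgebra.mul_mem _ (Subalgebra.mul_mem _ hPS hp₁) hPS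
  have hψr : ψ (P * p₁ * P) = ψ p₁ := by
    rw [hψ.mul _ (Subalgebra.mul_mem _ hPS hp₁) _ hPS, hψ.mul _ hPS _ hp₁, hg2, hx, add_mul, h21,
      add_zero, hi₁, mul_add, h12, add_zero, hi₁]
  obtain ⟨q, hqS, hqq, hPq, hqP, hψq⟩ := exists_lift_corner hψ hPS hg1 hrS
    (by rw [corner_left hg1]) (by rw [corner_right hg1]) (by rw [hψr, hi₁])
  have hpS : P - q ∈ SV M v := Subalgebra.sub_mem _ hPS hqS
  have hpp : (P - q) * (P - q) = P - q := by
    rw [mul_sub, sub_mul, sub_mul, hg1, hPq, hqP, hqq]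
    abel
  have hψp : ψ (P - q) = ψ p₂ := by
    rw [map_sub, hψq, hψr, hg2, hx]
    abel
  have hL : Lft M u v (ψ p₁ + ψ p₂) := ⟨P, hPS, hg1, by rw [hg2, hx]⟩
  refine ⟨hL, ?_⟩
  have e1 : Th M χ u v (ψ p₁ + ψ p₂) = chiT χ (ofG (localSubring M) v * P) := by
    rw [← hx, ← hg2]
    exact Th_eq hM hχ hv hPS hg1
  have e2 : Th M χ u v (ψ p₁) = chiT χ (ofG (localSubring M) v * q) := by
    rw [← hψr, ← hψq]
    exact Th_eq hM hχ hv hqS hqq
  have e3 : Th M χ u v (ψ p₂) = chiT χ (ofG (localSubring M) v * (P - q)) := by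
    rw [← hψp]
    exact Th_eq hM hχ hv hpS hpp
  rw [e1, e2, e3, ← map_add, ← mul_add]
  congr 2
  abel

theorem Th_sum {κ : Type*} (hM : IsPModular p M) (hχ : IsClassFunction G χ) (hv : IsPPart p v u)
    (s : Finset κ) {ε : κ → MonoidAlgebra (ResidueField (localSubring M)) G}
    (hL : ∀ j ∈ s, Lft M u v (ε j)) (horth : ∀ j ∈ s, ∀ k ∈ s, j ≠ k → ε j * ε k = 0) :
    Lft M u v (∑ j ∈ s, ε j) ∧ Th M χ u v (∑ j ∈ s, ε j) = ∑ j ∈ s, Th M χ u v (ε j) := by
  classical
  induction s using Finset.induction_on with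
  | empty =>
    simp only [Finset.sum_empty]
    exact ⟨Lft_zero, Th_zero hM hχ hv⟩
  | insert a s ha ih =>
    obtain ⟨h1, h2⟩ := ih (fun j hj => hL j (Finset.mem_insert_of_mem hj))
      (fun j hj k hk => horth j (Finset.mem_insert_of_mem hj) k (Finset.mem_insert_of_mem hk))
    have h3 : ε a * ∑ j ∈ s, ε j = 0 := by
      rw [Finset.mul_sum]
      refine Finset.sum_eq_zero fun j hj => ?_
      exact horth a (Finset.mem_insert_self _ _) j (Finset.mem_insert_of_mem hj)
        (fun h => ha (h ▸ hj))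
    have h4 : (∑ j ∈ s, ε j) * ε a = 0 := by
      rw [Finset.sum_mul]
      refine Finset.sum_eq_zero fun j hj => ?_
      exact horth j (Finset.mem_insert_of_mem hj) a (Finset.mem_insert_self _ _)
        (fun h => ha (h ▸ hj))
    obtain ⟨h5, h6⟩ := Th_add hM hχ hv (hL a (Finset.mem_insert_self _ _)) h1 h3 h4
    rw [Finset.sum_insert ha, Finset.sum_insert ha, h6, h2]
    exact ⟨h5, rfl⟩

/-- Lifts of the block components. -/
theorem exists_lift_le (hM : IsPModular p M) (hv : IsPPart p v u)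
    {i : MonoidAlgebra (localSubring M) G} (hi : i ∈ SV M v) (hii : i * i = i)
    (b : BlockT M 𝐂[Subgroup.zpowers u]) :
    ∃ q ∈ SV M v, q * q = q ∧ i * q = q ∧ q * i = q ∧
      br (Subgroup.zpowers u) q = br (Subgroup.zpowers u) i * bb (Subgroup.zpowers u) b := by
  have hψ := homV hM hv
  have hvC : ∀ y ∈ Subgroup.zpowers v, y ∈ 𝐂[Subgroup.zpowers u] := by
    intro y hy
    rw [Subgroup.mem_centralizer_iff]
    intro z hz
    have h1 : Subgroup.zpowers u ≤ Subgroup.zpowers v := zp_le hv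
    have := h1 hz
    obtain ⟨a, rfl⟩ := Subgroup.mem_zpowers_iff.1 this
    obtain ⟨c, rfl⟩ := Subgroup.mem_zpowers_iff.1 hy
    exact ((Commute.refl v).zpow_zpow a c).eq
  have hb : eB 𝐂[Subgroup.zpowers u] b ∈ SV M v := cen_anti (fun y hy => hvC y hy) (eB_mem_cen _ b)
  have hyS : i * eB 𝐂[Subgroup.zpowers u] b * i ∈ SV M v :=
    Subalgebra.mul_mem _ (Subalgebra.mul_mem _ hi hb) hi
  have hε : br (Subgroup.zpowers u) i * br (Subgroup.zpowers u) i = br (Subgroup.zpowers u) i := by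
    rw [← hψ.mul _ hi _ hi, hii]
  have hψy : br (Subgroup.zpowers u) (i * eB 𝐂[Subgroup.zpowers u] b * i) =
      br (Subgroup.zpowers u) i * bb (Subgroup.zpowers u) b := by
    rw [hψ.mul _ (Subalgebra.mul_mem _ hi hb) _ hi, hψ.mul _ hi _ hb, mul_assoc]
    show _ * (bb (Subgroup.zpowers u) b * _) = _
    rw [← (bb_commute _ i b).eq, ← mul_assoc, hε]
  obtain ⟨q, hqS, hqq, h1, h2, h3⟩ := exists_lift_corner hψ hi hii hyS (corner_left hii)
    (corner_right hii) (by
      rw [hψy]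
      calc (br (Subgroup.zpowers u) i * bb (Subgroup.zpowers u) b) *
            (br (Subgroup.zpowers u) i * bb (Subgroup.zpowers u) b)
          = br (Subgroup.zpowers u) i * (bb (Subgroup.zpowers u) b * br (Subgroup.zpowers u) i) *
            bb (Subgroup.zpowers u) b := by simp only [mul_assoc]
        _ = br (Subgroup.zpowers u) i * (br (Subgroup.zpowers u) i * bb (Subgroup.zpowers u) b) *
            bb (Subgroup.zpowers u) b := by rw [(bb_commute _ i b).eq]
        _ = (br (Subgroup.zpowers u) i * br (Subgroup.zpowers u) i) *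
            (bb (Subgroup.zpowers u) b * bb (Subgroup.zpowers u) b) := by simp only [mul_assoc]
        _ = _ := by rw [hε, bb_idem])
  exact ⟨q, hqS, hqq, h1, h2, by rw [h3, hψy]⟩

end Th

section FF

variable {u v : G} {χ : G → ℂ}

/-- The sum over the blocks of `C(u)`. -/
noncomputable def FF (M : Ideal AlgInt) [M.IsPrime] (Λ : G → MonoidAlgebra (localSubring M) G → ℂ)
    (χ : G → ℂ) (u v : G) (i : MonoidAlgebra (localSubring M) G) : ℂ :=
  ∑ b : BlockT M 𝐂[Subgroup.zpowers u], Λ u (eB 𝐂[Subgroup.zpowers u] b) *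
    Th M χ u v (br (Subgroup.zpowers u) i * bb (Subgroup.zpowers u) b)

variable {Λ : G → MonoidAlgebra (localSubring M) G → ℂ}

theorem Lft_comp (hM : IsPModular p M) (hv : IsPPart p v u)
    {i : MonoidAlgebra (localSubring M) G} (hi : i ∈ SV M v) (hii : i * i = i)
    (b : BlockT M 𝐂[Subgroup.zpowers u]) :
    Lft M u v (br (Subgroup.zpowers u) i * bb (Subgroup.zpowers u) b) := by
  obtain ⟨q, hqS, hqq, -, -, h⟩ := exists_lift_le hM hv hi hii b
  exact ⟨q, hqS, hqq, h⟩

/-- A family of idempotents whose Brauer images are orthogonal and sum to that of `i`. -/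
theorem FF_sum_br {κ : Type*} (hM : IsPModular p M) (hχ : IsClassFunction G χ) (hv : IsPPart p v u)
    (s : Finset κ) {i : MonoidAlgebra (localSubring M) G} {j : κ → MonoidAlgebra (localSubring M) G}
    (hj : ∀ k ∈ s, j k ∈ SV M v) (hjj : ∀ k ∈ s, j k * j k = j k)
    (horth : ∀ k ∈ s, ∀ l ∈ s, k ≠ l →
      br (Subgroup.zpowers u) (j k) * br (Subgroup.zpowers u) (j l) = 0)
    (hsum : ∑ k ∈ s, br (Subgroup.zpowers u) (j k) = br (Subgroup.zpowers u) i) :
    FF M Λ χ u v i = ∑ k ∈ s, FF M Λ χ u v (j k) := by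
  classical
  unfold FF
  rw [Finset.sum_comm]
  refine Finset.sum_congr rfl fun b _ => ?_
  rw [← Finset.mul_sum]
  congr 1
  have h1 : br (Subgroup.zpowers u) i * bb (Subgroup.zpowers u) b =
      ∑ k ∈ s, br (Subgroup.zpowers u) (j k) * bb (Subgroup.zpowers u) b := by
    rw [← hsum, Finset.sum_mul]
  rw [h1]
  refine (Th_sum hM hχ hv s (fun k hk => Lft_comp hM hv (hj k hk) (hjj k hk) b) ?_).2
  intro k hk l hl hkl
  calc (br (Subgroup.zpowers u) (j k) * bb (Subgroup.zpowers u) b) *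
        (br (Subgroup.zpowers u) (j l) * bb (Subgroup.zpowers u) b)
      = br (Subgroup.zpowers u) (j k) * (bb (Subgroup.zpowers u) b * br (Subgroup.zpowers u) (j l)) *
        bb (Subgroup.zpowers u) b := by simp only [mul_assoc]
    _ = br (Subgroup.zpowers u) (j k) * (br (Subgroup.zpowers u) (j l) * bb (Subgroup.zpowers u) b) *
        bb (Subgroup.zpowers u) b := by rw [(bb_commute _ (j l) b).eq]
    _ = (br (Subgroup.zpowers u) (j k) * br (Subgroup.zpowers u) (j l)) *
        (bb (Subgroup.zpowers u) b * bb (Subgroup.zpowers u) b) := by simp only [mul_assoc]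
    _ = 0 := by rw [horth k hk l hl hkl, zero_mul]

theorem FF_add (hM : IsPModular p M) (hχ : IsClassFunction G χ) (hv : IsPPart p v u)
    {a c : MonoidAlgebra (localSubring M) G} (ha : a ∈ SV M v) (hc : c ∈ SV M v) (haa : a * a = a)
    (hcc : c * c = c) (hac : a * c = 0) (hca : c * a = 0) :
    FF M Λ χ u v (a + c) = FF M Λ χ u v a + FF M Λ χ u v c := by
  classical
  have hψ := homV hM hv
  have := FF_sum_br (Λ := Λ) (χ := χ) (κ := Bool) (i := a + c) (j := fun b => if b then a else c)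
    hM hχ hv Finset.univ (fun k _ => by cases k <;> simp [ha, hc])
    (fun k _ => by cases k <;> simp [haa, hcc])
    (fun k _ l _ hkl => by
      cases k <;> cases l <;> simp at hkl ⊢
      · rw [← hψ.mul _ hc _ ha, hca, map_zero]
      · rw [← hψ.mul _ ha _ hc, hac, map_zero])
    (by simp [map_add])
  rw [this]
  simp

theorem FF_zero_of_br (hM : IsPModular p M) (hχ : IsClassFunction G χ) (hv : IsPPart p v u)
    {i : MonoidAlgebra (localSubring M) G} (h : br (Subgroup.zpowers u) i = 0) :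
    FF M Λ χ u v i = 0 := by
  unfold FF
  refine Finset.sum_eq_zero fun b _ => ?_
  rw [h, zero_mul, Th_zero hM hχ hv, mul_zero]

/-- The case of a Brauer image in one block. -/
theorem FF_local (hM : IsPModular p M) (hχ : IsClassFunction G χ) (hv : IsPPart p v u)
    {i : MonoidAlgebra (localSubring M) G} (hi : i ∈ SV M v) (hii : i * i = i)
    {b₀ : BlockT M 𝐂[Subgroup.zpowers u]}
    (h : br (Subgroup.zpowers u) i * bb (Subgroup.zpowers u) b₀ = br (Subgroup.zpowers u) i) :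
    FF M Λ χ u v i = Λ u (eB 𝐂[Subgroup.zpowers u] b₀) * chiT χ (ofG (localSubring M) v * i) := by
  classical
  unfold FF
  rw [Finset.sum_eq_single b₀]
  · rw [h, Th_eq hM hχ hv hi hii]
  · intro b _ hb
    have h1 : br (Subgroup.zpowers u) i * bb (Subgroup.zpowers u) b = 0 := by
      rw [← h, mul_assoc, bb_orth _ (Ne.symm hb), mul_zero]
    rw [h1, Th_zero hM hχ hv, mul_zero]
  · intro h1
    exact absurd (Finset.mem_univ _) h1

/-- The value at the identity. -/
theorem FF_one (hM : IsPModular p M) (hχ : IsClassFunction G χ) (hv : IsPPart p v u) :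
    FF M Λ χ u v 1 = ∑ b : BlockT M 𝐂[Subgroup.zpowers u], Λ u (eB 𝐂[Subgroup.zpowers u] b) *
      chiT χ (ofG (localSubring M) v * eB 𝐂[Subgroup.zpowers u] b) := by
  unfold FF
  refine Finset.sum_congr rfl fun b _ => ?_
  congr 1
  rw [br_one, one_mul]
  have hvC : ∀ y ∈ Subgroup.zpowers v, y ∈ 𝐂[Subgroup.zpowers u] := by
    intro y hy
    rw [Subgroup.mem_centralizer_iff]
    intro z hz
    have h1 : Subgroup.zpowers u ≤ Subgroup.zpowers v := zp_le hv
    have := h1 hz
    obtain ⟨a, rfl⟩ := Subgroup.mem_zpowers_iff.1 this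
    obtain ⟨c, rfl⟩ := Subgroup.mem_zpowers_iff.1 hy
    exact ((Commute.refl v).zpow_zpow a c).eq
  have hb : eB 𝐂[Subgroup.zpowers u] b ∈ SV M v := cen_anti (fun y hy => hvC y hy) (eB_mem_cen _ b)
  exact Th_eq hM hχ hv hb (eB_idem _ b)

/-- Vanishing when all lifts have vanishing character value. -/
theorem FF_vanish (hM : IsPModular p M) (hχ : IsClassFunction G χ) (hv : IsPPart p v u)
    {i : MonoidAlgebra (localSubring M) G} (hi : i ∈ SV M v) (hii : i * i = i)
    (h : ∀ q ∈ SV M v, q * q = q → i * q = q → q * i = q → chiT χ (ofG (localSubring M) v * q) = 0) :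
    FF M Λ χ u v i = 0 := by
  unfold FF
  refine Finset.sum_eq_zero fun b _ => ?_
  obtain ⟨q, hqS, hqq, h1, h2, h3⟩ := exists_lift_le hM hv hi hii b
  rw [← h3, Th_eq hM hχ hv hqS hqq, h q hqS hqq h1 h2, mul_zero]

end FF

section Conj

variable {u v : G} {χ : G → ℂ}

/-- The isomorphism between conjugate subgroups. -/
noncomputable def conjIsoK (K K' : Subgroup G) (t : G) (h : ∀ y, y ∈ K' ↔ t⁻¹ * y * t ∈ K) : K ≃* K' where
  toFun x := ⟨t * x * t⁻¹, (h _).2 (by
    have : t⁻¹ * (t * (x : G) * t⁻¹) * t = x := by group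
    rw [this]
    exact x.2)⟩
  invFun y := ⟨t⁻¹ * y * t, (h _).1 y.2⟩
  left_inv x := by
    apply Subtype.ext
    show t⁻¹ * (t * (x : G) * t⁻¹) * t = x
    group
  right_inv y := by
    apply Subtype.ext
    show t * (t⁻¹ * (y : G) * t) * t⁻¹ = y
    group
  map_mul' x y := by
    apply Subtype.ext
    show t * ((x : G) * (y : G)) * t⁻¹ = (t * (x : G) * t⁻¹) * (t * (y : G) * t⁻¹)
    group

theorem twistSetE_symm_twistSetE {H H' : Type u} [Group H] [Group H'] (σ : H ≃* H')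
    (f : Set (IrrCharacter H)) :
    Cfsg.Agent.Lib.BrauerConj.twistSetE σ.symm (Cfsg.Agent.Lib.BrauerConj.twistSetE σ f) = f := by
  unfold Cfsg.Agent.Lib.BrauerConj.twistSetE
  rw [Set.image_image]
  simp only [Cfsg.Agent.Lib.BrauerConj.twistE_twistE_symm, Set.image_id']

/-- The bijection between blocks of conjugate subgroups. -/
noncomputable def blockEquivK (K K' : Subgroup G) (t : G) (h : ∀ y, y ∈ K' ↔ t⁻¹ * y * t ∈ K) :
    BlockT M K ≃ BlockT M K' where
  toFun F := ⟨Cfsg.Agent.Lib.BrauerConj.twistSetE (conjIsoK K K' t h) F.1,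
    Cfsg.Agent.Lib.BrauerConj.isPBlock_twistSetE _ F.2⟩
  invFun F := ⟨Cfsg.Agent.Lib.BrauerConj.twistSetE (conjIsoK K K' t h).symm F.1,
    Cfsg.Agent.Lib.BrauerConj.isPBlock_twistSetE _ F.2⟩
  left_inv F := Subtype.ext (twistSetE_symm_twistSetE _ _)
  right_inv F := by
    apply Subtype.ext
    have := twistSetE_symm_twistSetE (conjIsoK K K' t h).symm F.1
    simpa using this

theorem cj_eB_conj (K K' : Subgroup G) (t : G) (h : ∀ y, y ∈ K' ↔ t⁻¹ * y * t ∈ K) (F : BlockT M K) :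
    cj t (eB K F) = eB K' (blockEquivK K K' t h F) := by
  apply coeF_injective
  funext g
  rw [coeF_cj, coeF_eB, coeF_eB]
  simp only [subgroupBlockCoeff_eq_ext0]
  by_cases hg : g ∈ K'
  · have h1 := (h g).1 hg
    rw [ext0_of_mem K _ h1, ext0_of_mem K' _ hg]
    have e : (⟨g, hg⟩ : K') = conjIsoK K K' t h ⟨t⁻¹ * g * t, h1⟩ := by
      apply Subtype.ext
      show g = t * (t⁻¹ * g * t) * t⁻¹
      group
    rw [e]
    exact (Cfsg.Agent.Lib.BrauerConj.blockCoeff_twistSetE (conjIsoK K K' t h) F.1 _).symm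
  · have h1 : t⁻¹ * g * t ∉ K := fun h2 => hg ((h g).2 h2)
    rw [ext0_of_not_mem K _ h1, ext0_of_not_mem K' _ hg]

theorem mem_C_zp_conj (t u y : G) :
    y ∈ 𝐂[Subgroup.zpowers (t * u * t⁻¹)] ↔ t⁻¹ * y * t ∈ 𝐂[Subgroup.zpowers u] := by
  rw [Cfsg.Agent.Lib.BlockSecond.centralizer_zpowers_eq, Cfsg.Agent.Lib.BlockSecond.centralizer_zpowers_eq,
    Subgroup.mem_centralizer_singleton_iff, Subgroup.mem_centralizer_singleton_iff]
  constructor
  · intro h
    calc t⁻¹ * y * t * u = t⁻¹ * (y * (t * u * t⁻¹)) * t := by group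
      _ = t⁻¹ * ((t * u * t⁻¹) * y) * t := by rw [h]
      _ = u * (t⁻¹ * y * t) := by group
  · intro h
    calc y * (t * u * t⁻¹) = t * ((t⁻¹ * y * t) * u) * t⁻¹ := by group
      _ = t * (u * (t⁻¹ * y * t)) * t⁻¹ := by rw [h]
      _ = t * u * t⁻¹ * y := by group

/-- Conjugation of the Brauer map. -/
theorem br_conj (t u : G) {R : Type*} [CommRing R] [IsLocalRing R] (x : MonoidAlgebra R G) :
    br (Subgroup.zpowers (t * u * t⁻¹)) (cj t x) = cj t (br (Subgroup.zpowers u) x) := by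
  classical
  apply ext_coeff
  intro g
  rw [coeff_cj]
  by_cases hg : g ∈ 𝐂[Subgroup.zpowers (t * u * t⁻¹)]
  · have h1 := (mem_C_zp_conj t u g).1 hg
    rw [br_coeff_mem _ _ hg, br_coeff_mem _ _ h1, coeff_cj]
  · have h1 : t⁻¹ * g * t ∉ 𝐂[Subgroup.zpowers u] := fun h2 => hg ((mem_C_zp_conj t u g).2 h2)
    rw [br_coeff_not_mem _ _ hg, br_coeff_not_mem _ _ h1]

theorem cj_ofG (t v : G) {R : Type*} [CommRing R] :
    cj t (ofG R v) = ofG R (t * v * t⁻¹) := by
  simp only [cj, ofG_mul]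

theorem cj_mem_SV {q : MonoidAlgebra (localSubring M) G} (hq : q ∈ SV M v) (t : G) :
    cj t q ∈ SV M (t * v * t⁻¹) := by
  rw [mem_SV_iff, ← cj_ofG, ← cj_mul', ← cj_mul', mem_SV_iff.1 hq]

theorem cj_idem {q : MonoidAlgebra (localSubring M) G} (hq : q * q = q) (t : G) :
    cj t q * cj t q = cj t q := by
  rw [← cj_mul', hq]

theorem Th_conj (hM : IsPModular p M) (hχ : IsClassFunction G χ) (hv : IsPPart p v u) (t : G)
    {ε : MonoidAlgebra (ResidueField (localSubring M)) G} (hL : Lft M u v ε) :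
    Th M χ (t * u * t⁻¹) (t * v * t⁻¹) (cj t ε) = Th M χ u v ε := by
  obtain ⟨q, hq, hqq, rfl⟩ := hL
  have hv' : IsPPart p (t * v * t⁻¹) (t * u * t⁻¹) := Cfsg.Agent.Lib.BlkOrth.pPart_conj hv t
  rw [← br_conj, Th_eq hM hχ hv' (cj_mem_SV hq t) (cj_idem hqq t), Th_eq hM hχ hv hq hqq,
    ← cj_ofG, ← cj_mul', chiT_cj hχ]

variable {Λ : G → MonoidAlgebra (localSubring M) G → ℂ}

theorem bb_conj (t u : G) (b : BlockT M 𝐂[Subgroup.zpowers u]) :
    bb (Subgroup.zpowers (t * u * t⁻¹))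
      (blockEquivK 𝐂[Subgroup.zpowers u] 𝐂[Subgroup.zpowers (t * u * t⁻¹)] t (mem_C_zp_conj t u) b) =
    cj t (bb (Subgroup.zpowers u) b) := by
  unfold bb
  rw [← br_conj, cj_eB_conj]

theorem FF_conj (hM : IsPModular p M) (hχ : IsClassFunction G χ) (hv : IsPPart p v u) (t : G)
    (hΛ : ∀ u t x, Λ (t * u * t⁻¹) (cj t x) = Λ u x) {i : MonoidAlgebra (localSubring M) G}
    (hi : i ∈ SV M v) (hii : i * i = i) :
    FF M Λ χ (t * u * t⁻¹) (t * v * t⁻¹) (cj t i) = FF M Λ χ u v i := by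
  unfold FF
  symm
  refine Fintype.sum_equiv
    (blockEquivK 𝐂[Subgroup.zpowers u] 𝐂[Subgroup.zpowers (t * u * t⁻¹)] t (mem_C_zp_conj t u)) _ _
    fun b => ?_
  rw [bb_conj, br_conj, ← cj_eB_conj, hΛ, ← cj_mul', Th_conj hM hχ hv t (Lft_comp hM hv hi hii b)]

end Conj

end Cfsg.Agent.Lib.StarTh
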