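import Mathlib
import Cfsg.Agent.Lib.StarTh
import Cfsg.Agent.Lib.GenChar
import Cfsg.Agent.Lib.DadeExpand
import Cfsg.Agent.Lib.CharBasic

/-!
# Generalized characters from idempotents; elementary groups; induction from index `p`
-/

set_option autoImplicit false
set_option linter.unusedSectionVars false
set_option linter.unusedVariables false
set_option linter.style.haveILetI false

namespace Cfsg.Agent.Lib.StarGen

open Polynomial IsLocalRing Cfsg Cfsg.Agent.Lib.StarFit Cfsg.Agent.Lib.StarGrp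
open Cfsg.Agent.Lib.StarLoc Cfsg.Agent.Lib.BlockLocal Cfsg.Agent.Lib.BlockCover
open Cfsg.Agent.Lib.BlockResidue Cfsg.Agent.Lib.BrauerMap Cfsg.Agent.Lib.BrauerPair
open Cfsg.Agent.Lib.BrauerSub Cfsg.Agent.Lib.BlockIdem Cfsg.Agent.Lib.CharIntegrality
open Cfsg.Agent.Lib.BlkBasic Cfsg.Agent.Lib.StarBlk Cfsg.Agent.Lib.StarP Cfsg.Agent.Lib.StarTh
open Cfsg.Agent.Lib.StarFit.LocSys Cfsg.Agent.Lib.GenChar Cfsg.Agent.Lib.CharBasic
open Cfsg.Agent.Lib.CharInd

universe u

section GenMul

variable {G : Type u} [Group G]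

theorem isGen_mul {a b : G → ℂ} (ha : IsGeneralizedCharacter G a)
    (hb : IsGeneralizedCharacter G b) : IsGeneralizedCharacter G (a * b) := by
  obtain ⟨χ₁, ψ₁, h1, h2, rfl⟩ := ha
  obtain ⟨χ₂, ψ₂, h3, h4, rfl⟩ := hb
  refine ⟨χ₁ * χ₂ + ψ₁ * ψ₂, χ₁ * ψ₂ + ψ₁ * χ₂,
    isCharacter_add (isCharacter_mul h1 h3) (isCharacter_mul h2 h4),
    isCharacter_add (isCharacter_mul h1 h4) (isCharacter_mul h2 h3), ?_⟩
  ring

theorem isGen_natConst (n : ℕ) : IsGeneralizedCharacter G (fun _ => (n : ℂ)) := by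
  have h := isGen_nsmul (isGen_of_isChar (isCharacter_one (G := G))) n
  convert h using 1
  funext g
  simp

end GenMul

variable {G : Type u} [Group G] [Fintype G] {p : ℕ} [hp : Fact p.Prime] {M : Ideal AlgInt}
  [hMp : M.IsPrime]

local notation "𝐂[" R "]" => Subgroup.centralizer ((R : Subgroup G) : Set G)

noncomputable local instance fintypeSubGen {A : Type*} [Group A] [Finite A] (K : Subgroup A) : Fintype K :=
  Fintype.ofFinite K

section RepExt

variable {V : Type*} [AddCommGroup V] [Module ℂ V] (ρ : Representation ℂ G V)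

/-- The extension of a representation to the group algebra over the local ring. -/
noncomputable def repExt (x : MonoidAlgebra (localSubring M) G) : Module.End ℂ V :=
  ∑ k, coeF x k • ρ k

theorem repExt_mul (x y : MonoidAlgebra (localSubring M) G) :
    repExt ρ (x * y) = repExt ρ x * repExt ρ y := by
  unfold repExt
  rw [coeF_mul, Finset.sum_mul_sum]
  unfold conv
  simp_rw [Finset.sum_smul]
  rw [Finset.sum_comm]
  refine Finset.sum_congr rfl fun a _ => ?_
  refine Fintype.sum_equiv (Equiv.mulLeft a⁻¹) _ _ fun k => ?_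
  simp only [Equiv.coe_mulLeft]
  rw [smul_mul_smul_comm, ← map_mul]
  congr 2
  group

theorem repExt_ofG (v : G) : repExt (M := M) ρ (ofG (localSubring M) v) = ρ v := by
  classical
  unfold repExt
  rw [Finset.sum_eq_single v]
  · have : coeF (ofG (localSubring M) v) v = 1 := by
      simp [coeF_apply, ofG]
    rw [this, one_smul]
  · intro b _ hb
    have : coeF (ofG (localSubring M) v) b = 0 := by
      simp [coeF_apply, ofG, MonoidAlgebra.coeff_single, Ne.symm hb]
    rw [this, zero_smul]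
  · simp

theorem repExt_one : repExt (M := M) ρ 1 = 1 := by
  have := repExt_ofG (M := M) ρ (1 : G)
  rw [ofG_one, map_one] at this
  exact this

theorem trace_repExt [FiniteDimensional ℂ V] (x : MonoidAlgebra (localSubring M) G) :
    LinearMap.trace ℂ V (repExt ρ x) = chiT ρ.character x := by
  unfold repExt
  rw [map_sum, chiT_apply]
  refine Finset.sum_congr rfl fun k _ => ?_
  rw [map_smul, smul_eq_mul]
  rfl

end RepExt

/-- A generalized character from an idempotent. -/
theorem gen_chiT {χ : G → ℂ} (hχ : IsCharacter G χ) {E : Subgroup G}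
    {i : MonoidAlgebra (localSubring M) G}
    (hi : ∀ e ∈ E, ofG (localSubring M) e * i = i * ofG (localSubring M) e) (hii : i * i = i) :
    IsGeneralizedCharacter E (fun e : E => chiT χ (ofG (localSubring M) (e : G) * i)) := by
  classical
  obtain ⟨n, ρ, rfl⟩ := hχ
  set Pr := repExt (M := M) ρ i with hPr
  have hPrPr : Pr * Pr = Pr := by
    rw [hPr, ← repExt_mul, hii]
  have hcomm : ∀ e ∈ E, ρ e * Pr = Pr * ρ e := by
    intro e he
    have := congrArg (repExt (M := M) ρ) (hi e he)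
    rwa [repExt_mul, repExt_mul, repExt_ofG] at this
  -- the representation
  let ρ' : E →* Module.End ℂ (Fin n → ℂ) :=
    { toFun := fun e => ρ (e : G) * Pr + (1 - Pr)
      map_one' := by
        simp
      map_mul' := by
        intro a b
        have h1 := hcomm b b.2
        have h2 : ρ ((a * b : E) : G) = ρ (a : G) * ρ (b : G) := by
          rw [Subgroup.coe_mul, map_mul]
        rw [h2]
        calc ρ (a : G) * ρ (b : G) * Pr + (1 - Pr)
            = ρ (a : G) * ρ (b : G) * (Pr * Pr) + (1 - Pr) := by rw [hPrPr]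
          _ = (ρ (a : G) * Pr + (1 - Pr)) * (ρ (b : G) * Pr + (1 - Pr)) := by
              have h3 : Pr * ρ (b : G) = ρ (b : G) * Pr := h1.symm
              have e1 : (ρ (a : G) * Pr + (1 - Pr)) * (ρ (b : G) * Pr + (1 - Pr)) =
                  ρ (a : G) * (Pr * ρ (b : G)) * Pr + ρ (a : G) * Pr * (1 - Pr) +
                    (1 - Pr) * (ρ (b : G) * Pr) + (1 - Pr) * (1 - Pr) := by noncomm_ring
              have e2 : Pr * (1 - Pr) = 0 := by rw [mul_sub, mul_one, hPrPr, sub_self]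
              have e3 : (1 - Pr) * Pr = 0 := by rw [sub_mul, one_mul, hPrPr, sub_self]
              have e4 : (1 - Pr) * (1 - Pr) = 1 - Pr := by
                rw [sub_mul, one_mul, mul_sub, mul_one, hPrPr, sub_self, sub_zero]
              have e5 : (1 - Pr) * (ρ (b : G) * Pr) = ρ (b : G) * ((1 - Pr) * Pr) := by
                have e6 : Pr * (ρ (b : G) * Pr) = ρ (b : G) * (Pr * Pr) := by
                  rw [← mul_assoc Pr, h3, mul_assoc]
                rw [sub_mul, one_mul, e6, hPrPr, sub_mul, one_mul, hPrPr, sub_self, sub_self, mul_zero]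
              rw [e1, e4, e5, e3, mul_zero, add_zero, mul_assoc (ρ (a : G)) Pr (1 - Pr), e2, mul_zero,
                add_zero, h3]
              simp only [mul_assoc, hPrPr] }
  have hd : ∃ d : ℕ, LinearMap.trace ℂ (Fin n → ℂ) (1 - Pr) = d := by
    have h4 : IsIdempotentElem (1 - Pr) := by
      show (1 - Pr) * (1 - Pr) = 1 - Pr
      rw [sub_mul, one_mul, mul_sub, mul_one, hPrPr, sub_self, sub_zero]
    have h5 := LinearMap.IsIdempotentElem.isProj_range _ h4
    exact ⟨_, h5.trace⟩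
  obtain ⟨d, hd⟩ := hd
  have h6 : (fun e : E => chiT ρ.character (ofG (localSubring M) (e : G) * i)) =
      Representation.character ρ' - fun _ => (d : ℂ) := by
    funext e
    show _ = LinearMap.trace ℂ (Fin n → ℂ) (ρ (e : G) * Pr + (1 - Pr)) - (d : ℂ)
    rw [map_add, hd, add_sub_cancel_right, ← trace_repExt, repExt_mul, repExt_ofG]
  rw [h6]
  exact isGen_sub (isGen_of_isChar (isCharacter_of_rep' ρ')) (isGen_natConst d)

section Decomp

variable {Q H : Subgroup G}

theorem exists_decomp (hQH : ∀ τ ∈ Q, ∀ s ∈ H, τ * s = s * τ) {e : G} (he : e ∈ Q ⊔ H) :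
    ∃ τ ∈ Q, ∃ s ∈ H, e = τ * s := by
  rw [Subgroup.sup_eq_closure] at he
  induction he using Subgroup.closure_induction with
  | mem x hx =>
    rcases hx with hx | hx
    · exact ⟨x, hx, 1, H.one_mem, by simp⟩
    · exact ⟨1, Q.one_mem, x, hx, by simp⟩
  | one => exact ⟨1, Q.one_mem, 1, H.one_mem, by simp⟩
  | mul x y _ _ hx hy =>
    obtain ⟨τ, hτ, s, hs, rfl⟩ := hx
    obtain ⟨τ', hτ', s', hs', rfl⟩ := hy
    refine ⟨τ * τ', Q.mul_mem hτ hτ', s * s', H.mul_mem hs hs', ?_⟩
    calc τ * s * (τ' * s') = τ * (s * τ') * s' := by group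
      _ = τ * (τ' * s) * s' := by rw [hQH τ' hτ' s hs]
      _ = τ * τ' * (s * s') := by group
  | inv x _ hx =>
    obtain ⟨τ, hτ, s, hs, rfl⟩ := hx
    refine ⟨τ⁻¹, Q.inv_mem hτ, s⁻¹, H.inv_mem hs, ?_⟩
    rw [mul_inv_rev]
    exact (hQH τ⁻¹ (Q.inv_mem hτ) s⁻¹ (H.inv_mem hs)).symm

/-- The `p`-part of an element. -/
noncomputable def pp (p : ℕ) [hp : Fact p.Prime] (e : G) : G :=
  (Cfsg.Agent.Lib.BlkOrth.exists_isPPart hp.out e).choose

theorem pp_spec (e : G) : IsPPart p e (pp p e) :=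
  (Cfsg.Agent.Lib.BlkOrth.exists_isPPart hp.out e).choose_spec

theorem pp_eq {e x : G} (h : IsPPart p e x) : pp p e = x :=
  Cfsg.Agent.Lib.BlkOrth.pPart_unique hp.out (pp_spec e) h

theorem isPPart_mul (hQ : IsPGroup p Q) (hHp : ∀ s ∈ H, ¬ p ∣ orderOf s)
    (hQH : ∀ τ ∈ Q, ∀ s ∈ H, τ * s = s * τ) {τ s : G} (hτ : τ ∈ Q) (hs : s ∈ H) :
    IsPPart p (τ * s) τ := by
  refine Cfsg.Agent.Lib.BlkOrth.pPart_of_mul (hQH τ hτ s hs) ?_ (hHp s hs)
  obtain ⟨k, hk⟩ := (IsPGroup.iff_orderOf.1 hQ) ⟨τ, hτ⟩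
  exact ⟨k, by rwa [Subgroup.orderOf_mk] at hk⟩

theorem pp_mem (hQ : IsPGroup p Q) (hHp : ∀ s ∈ H, ¬ p ∣ orderOf s)
    (hQH : ∀ τ ∈ Q, ∀ s ∈ H, τ * s = s * τ) {e : G} (he : e ∈ Q ⊔ H) : pp p e ∈ Q := by
  obtain ⟨τ, hτ, s, hs, rfl⟩ := exists_decomp hQH he
  rw [pp_eq (isPPart_mul hQ hHp hQH hτ hs)]
  exact hτ

/-- The projection to the `p`-part. -/
noncomputable def ppHom (hQ : IsPGroup p Q) (hHp : ∀ s ∈ H, ¬ p ∣ orderOf s)
    (hQH : ∀ τ ∈ Q, ∀ s ∈ H, τ * s = s * τ) : ↥(Q ⊔ H) →* ↥Q where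
  toFun e := ⟨pp p (e : G), pp_mem hQ hHp hQH e.2⟩
  map_one' := by
    apply Subtype.ext
    have h := isPPart_mul hQ hHp hQH Q.one_mem H.one_mem
    rw [mul_one] at h
    exact pp_eq h
  map_mul' := by
    intro a b
    apply Subtype.ext
    obtain ⟨τ, hτ, s, hs, ha⟩ := exists_decomp hQH a.2
    obtain ⟨τ', hτ', s', hs', hb⟩ := exists_decomp hQH b.2
    have h1 : ((a * b : ↥(Q ⊔ H)) : G) = (τ * τ') * (s * s') := by
      rw [Subgroup.coe_mul, ha, hb]
      calc τ * s * (τ' * s') = τ * (s * τ') * s' := by group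
        _ = τ * (τ' * s) * s' := by rw [hQH τ' hτ' s hs]
        _ = τ * τ' * (s * s') := by group
    have h2 := isPPart_mul hQ hHp hQH (Q.mul_mem hτ hτ') (H.mul_mem hs hs')
    show pp p ((a * b : ↥(Q ⊔ H)) : G) = pp p (a : G) * pp p (b : G)
    rw [h1, pp_eq h2, ha, hb, pp_eq (isPPart_mul hQ hHp hQH hτ hs),
      pp_eq (isPPart_mul hQ hHp hQH hτ' hs')]

/-- Elements of `Q ⊔ H` commute with the fixed points of `Q` and `H`. -/
theorem SS_le_SV {e : G} (he : e ∈ Q ⊔ H) : SS M Q H ≤ SV M e := by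
  intro x hx
  rw [mem_SV_iff]
  rw [Subgroup.sup_eq_closure] at he
  induction he using Subgroup.closure_induction with
  | mem y hy => exact mem_cen.1 hx y hy
  | one => simp
  | mul a b _ _ ha hb =>
    rw [ofG_mul, mul_assoc, hb, ← mul_assoc, ha, mul_assoc]
  | inv a _ ha =>
    have h1 : ofG (localSubring M) a⁻¹ * (ofG (localSubring M) a * x) * ofG (localSubring M) a⁻¹ =
        ofG (localSubring M) a⁻¹ * (x * ofG (localSubring M) a) * ofG (localSubring M) a⁻¹ := by
      rw [ha]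
    rw [← mul_assoc, ofG_inv_mul, one_mul, mul_assoc, mul_assoc, ofG_mul_inv, mul_one] at h1
    exact h1.symm

end Decomp

section IndexP

variable {E : Type u} [Group E] [Fintype E]

/-- Coset representatives modulo a subgroup of prime index. -/
theorem sum_index_p {K : Subgroup E} [K.Normal] (hK : K.index = p) {τ : E} (hτ : τ ∉ K)
    {A : Type*} [AddCommMonoid A] (f : E → A) :
    ∑ x : E, f x = ∑ k ∈ Finset.range p, ∑ y : K, f (τ ^ k * y) := by
  classical
  have hpp := hp.out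
  have hpow : ∀ k : ℕ, k < p → τ ^ k ∈ K → k = 0 := by
    intro k hk hmem
    by_contra hk0
    have hcop : Nat.Coprime k p := by
      rw [Nat.coprime_comm, Nat.Prime.coprime_iff_not_dvd hpp]
      exact Nat.not_dvd_of_pos_of_lt (Nat.pos_of_ne_zero hk0) hk
    have hp' : τ ^ p ∈ K := by
      have h1 : ((τ : E) : E ⧸ K) ^ p = 1 := by
        rw [← hK]
        show ((τ : E) : E ⧸ K) ^ (Nat.card (E ⧸ K)) = 1
        exact pow_card_eq_one'
      rw [← QuotientGroup.mk_pow] at h1
      exact (QuotientGroup.eq_one_iff _).1 h1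
    apply hτ
    have := Nat.Coprime.gcd_eq_one hcop
    have h2 := Nat.gcd_eq_gcd_ab k p
    rw [this] at h2
    have h3 : τ = (τ ^ k) ^ (Nat.gcdA k p) * (τ ^ p) ^ (Nat.gcdB k p) := by
      rw [← zpow_natCast, ← zpow_natCast, ← zpow_mul, ← zpow_mul, ← zpow_add]
      have : (k : ℤ) * k.gcdA p + (p : ℤ) * k.gcdB p = 1 := by
        rw [← h2]
        rfl
      rw [this, zpow_one]
    rw [h3]
    exact K.mul_mem (K.zpow_mem hmem _) (K.zpow_mem hp' _)
  let φ : (Fin p) × K → E := fun a => τ ^ (a.1 : ℕ) * (a.2 : E)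
  have hinj : Function.Injective φ := by
    rintro ⟨a, y⟩ ⟨b, y'⟩ h
    simp only [φ] at h
    have key : ∀ a b : Fin p, (a : ℕ) ≤ b → ∀ y y' : K, τ ^ (a : ℕ) * (y : E) = τ ^ (b : ℕ) * (y' : E) →
        a = b ∧ y = y' := by
      intro a b hab y y' h
      have h1 : τ ^ ((b : ℕ) - a) ∈ K := by
        have h2 : τ ^ ((b : ℕ) - a) = (y : E) * (y' : E)⁻¹ := by
          have h3 : τ ^ (b : ℕ) = τ ^ (a : ℕ) * τ ^ ((b : ℕ) - a) := by
            rw [← pow_add]
            congr 1
            omega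
          rw [h3, mul_assoc] at h
          have h4 := mul_left_cancel h
          rw [h4]
          group
        rw [h2]
        exact K.mul_mem y.2 (K.inv_mem y'.2)
      have h5 := hpow _ (by omega) h1
      have h6 : (a : ℕ) = b := by omega
      have h7 : a = b := Fin.ext h6
      subst h7
      exact ⟨rfl, Subtype.ext (mul_left_cancel h)⟩
    rcases le_total (a : ℕ) b with h1 | h1
    · obtain ⟨h2, h3⟩ := key a b h1 y y' h
      rw [h2, h3]
    · obtain ⟨h2, h3⟩ := key b a h1 y' y h.symm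
      rw [h2, h3]
  have hcard : Fintype.card ((Fin p) × K) = Fintype.card E := by
    rw [Fintype.card_prod, Fintype.card_fin, ← Nat.card_eq_fintype_card (α := K),
      ← Nat.card_eq_fintype_card (α := E), ← hK]
    exact K.index_mul_card
  have hbij : Function.Bijective φ := (Fintype.bijective_iff_injective_and_card φ).2 ⟨hinj, hcard⟩
  rw [← Function.Bijective.sum_comp hbij f, Fintype.sum_prod_type, Finset.sum_range]

/-- Induction from a normal subgroup of prime index. -/
theorem indFun_index_p {K : Subgroup E} [K.Normal] (hK : K.index = p) {τ : E} (hτ : τ ∉ K)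
    {φ : K → ℂ} (hφ : IsClassFunction K φ) {e : E} (he : e ∈ K) :
    indFun K φ e = ∑ k ∈ Finset.range p, extendByZero K φ ((τ ^ k)⁻¹ * e * τ ^ k) := by
  classical
  rw [indFun_apply, sum_index_p hK hτ, Finset.mul_sum]
  refine Finset.sum_congr rfl fun k _ => ?_
  have hmem : (τ ^ k)⁻¹ * e * τ ^ k ∈ K := by
    have := (inferInstance : K.Normal).conj_mem e he (τ ^ k)⁻¹
    simpa using this
  have h1 : ∀ y : K, extendByZero K φ ((τ ^ k * (y : E))⁻¹ * e * (τ ^ k * (y : E))) =
      φ ⟨(τ ^ k)⁻¹ * e * τ ^ k, hmem⟩ := by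
    intro y
    have e1 : (τ ^ k * (y : E))⁻¹ * e * (τ ^ k * (y : E)) =
        ((y⁻¹ * ⟨(τ ^ k)⁻¹ * e * τ ^ k, hmem⟩ * y : K) : E) := by
      simp only [Subgroup.coe_mul, Subgroup.coe_inv]
      group
    rw [e1, extendByZero_coe]
    have := hφ ⟨(τ ^ k)⁻¹ * e * τ ^ k, hmem⟩ y⁻¹
    rwa [inv_inv] at this
  simp_rw [h1]
  rw [Finset.sum_const, Finset.card_univ, ← Nat.card_eq_fintype_card, nsmul_eq_mul]
  have h2 : (Nat.card K : ℂ) ≠ 0 := by exact_mod_cast Nat.card_pos.ne'
  have h3 : extendByZero K φ ((τ ^ k)⁻¹ * e * τ ^ k) = φ ⟨(τ ^ k)⁻¹ * e * τ ^ k, hmem⟩ := by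
    exact extendByZero_of_mem K φ hmem
  rw [h3]
  field_simp

/-- The induced function vanishes off a normal subgroup. -/
theorem indFun_eq_zero_of_not_mem {K : Subgroup E} [K.Normal] {φ : K → ℂ} {e : E} (he : e ∉ K) :
    indFun K φ e = 0 := by
  rw [indFun_apply]
  have h1 : ∀ x : E, extendByZero K φ (x⁻¹ * e * x) = 0 := by
    intro x
    apply extendByZero_of_not_mem
    intro h2
    apply he
    have := (inferInstance : K.Normal).conj_mem _ h2 x
    simpa [mul_assoc] using this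
  simp [h1]

end IndexP

end Cfsg.Agent.Lib.StarGen
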