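import Mathlib
import Cfsg.Agent.Lib.StarGen
import Cfsg.Agent.Lib.BrauerMax
import Cfsg.Agent.Lib.BrauerGlobal

/-!
# The Broué–Puig construction gives generalized characters
-/

set_option autoImplicit false
set_option linter.unusedSectionVars false
set_option linter.unusedVariables false
set_option linter.style.haveILetI false

namespace Cfsg.Agent.Lib.StarII

open Polynomial IsLocalRing Cfsg Cfsg.Agent.Lib.StarFit Cfsg.Agent.Lib.StarGrp
open Cfsg.Agent.Lib.StarLoc Cfsg.Agent.Lib.BlockLocal Cfsg.Agent.Lib.BlockCover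
open Cfsg.Agent.Lib.BlockResidue Cfsg.Agent.Lib.BrauerMap Cfsg.Agent.Lib.BrauerPair
open Cfsg.Agent.Lib.BrauerSub Cfsg.Agent.Lib.BlockIdem Cfsg.Agent.Lib.CharIntegrality
open Cfsg.Agent.Lib.BlkBasic Cfsg.Agent.Lib.StarBlk Cfsg.Agent.Lib.StarP Cfsg.Agent.Lib.StarTh
open Cfsg.Agent.Lib.StarFit.LocSys Cfsg.Agent.Lib.GenChar Cfsg.Agent.Lib.CharBasic
open Cfsg.Agent.Lib.CharInd Cfsg.Agent.Lib.StarGen Cfsg.Agent.Lib.BrauerConj
open Cfsg.Agent.Lib.BrauerCen Cfsg.Agent.Lib.BrauerMax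

universe u

variable {G : Type u} [Group G] [Fintype G] {p : ℕ} [hp : Fact p.Prime] {M : Ideal AlgInt}
  [hMp : M.IsPrime]

local notation "𝐂[" R "]" => Subgroup.centralizer ((R : Subgroup G) : Set G)
local notation "𝐍[" R "]" => Subgroup.normalizer ((R : Subgroup G) : Set G)
local notation Q "^^" x => Subgroup.map (MulEquiv.toMonoidHom (MulAut.conj (x : G))) (Q : Subgroup G)

noncomputable local instance fintypeSubII {A : Type*} [Group A] [Finite A] (K : Subgroup A) : Fintype K :=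
  Fintype.ofFinite K

section Lam

variable (p M) in
/-- `g` conjugates the pair given by `(u, x)` below `(P, e)`. -/
def Wit (P : Subgroup G) (e : Set (IrrCharacter 𝐂[P])) (u : G)
    (x : MonoidAlgebra (localSubring M) G) (g : G) : Prop :=
  ∃ b : BlockT M 𝐂[Subgroup.zpowers u], x = eB 𝐂[Subgroup.zpowers u] b ∧
    Relation.ReflTransGen (NormalSubpairRel (G := G) p M) (cp g ⟨Subgroup.zpowers u, b.1⟩) ⟨P, e⟩

theorem twistSetE_conjIsoK (Q R : Subgroup G) (t : G) (h : ∀ y, y ∈ 𝐂[R] ↔ t⁻¹ * y * t ∈ 𝐂[Q])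
    (f : Set (IrrCharacter 𝐂[Q])) : twistSetE (conjIsoK 𝐂[Q] 𝐂[R] t h) f = conjBlockTo Q R t f := by
  ext ξ'
  constructor
  · rintro ⟨ξ, hξ, rfl⟩
    refine ⟨ξ, hξ, fun c c' hc => ?_⟩
    rw [twistE_apply]
    have e : (conjIsoK 𝐂[Q] 𝐂[R] t h).symm c' = c := by
      apply Subtype.ext
      show t⁻¹ * (c' : G) * t = c
      rw [hc]
      group
    rw [e]
  · rintro ⟨ξ, hξ, h1⟩
    refine ⟨ξ, hξ, ?_⟩
    apply Subtype.ext
    funext c'
    rw [twistE_apply]
    symm
    apply h1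
    show (c' : G) = t * (t⁻¹ * (c' : G) * t) * t⁻¹
    group

theorem map_zp_conj (u t : G) : ((Subgroup.zpowers u) ^^ t) = Subgroup.zpowers (t * u * t⁻¹) := by
  rw [MonoidHom.map_zpowers]
  simp

theorem pair_eq_cp (u t : G) (b : BlockT M 𝐂[Subgroup.zpowers u]) :
    (⟨Subgroup.zpowers (t * u * t⁻¹),
      (blockEquivK 𝐂[Subgroup.zpowers u] 𝐂[Subgroup.zpowers (t * u * t⁻¹)] t (mem_C_zp_conj t u) b).1⟩ :
      BrauerPairIdx G) = cp t ⟨Subgroup.zpowers u, b.1⟩ := by
  apply Sigma.ext (map_zp_conj u t).symm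
  show HEq (twistSetE _ b.1) (conjBlockTo (Subgroup.zpowers u) _ t b.1)
  rw [twistSetE_conjIsoK]
  exact heq_conjBlockTo _ (map_zp_conj u t).symm t b.1

variable {P : Subgroup G} {e : Set (IrrCharacter (Subgroup.centralizer (P : Set G)))}

theorem wit_conj {u g : G} {x : MonoidAlgebra (localSubring M) G} (h : Wit p M P e u x g) (t : G) :
    Wit p M P e (t * u * t⁻¹) (cj t x) (g * t⁻¹) := by
  obtain ⟨b, rfl, hb⟩ := h
  refine ⟨blockEquivK _ _ t (mem_C_zp_conj t u) b, cj_eB_conj _ _ t _ b, ?_⟩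
  rw [pair_eq_cp, ← cp_mul]
  have : g * t⁻¹ * t = g := by group
  rw [this]
  exact hb

variable (p M) in
open Classical in
/-- The values attached to the pairs below `(P, e)`. -/
noncomputable def LamH (P : Subgroup G) (e : Set (IrrCharacter 𝐂[P])) (lam : G → ℂ) (u : G)
    (x : MonoidAlgebra (localSubring M) G) : ℂ :=
  if h : ∃ g, Wit p M P e u x g then lam (h.choose * u * h.choose⁻¹) else 0

variable {lam : G → ℂ}

theorem lamH_eq (hst : ∀ u (x : MonoidAlgebra (localSubring M) G) g g', Wit p M P e u x g →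
      Wit p M P e u x g' → lam (g * u * g⁻¹) = lam (g' * u * g'⁻¹)) {u g : G}
    {x : MonoidAlgebra (localSubring M) G} (h : Wit p M P e u x g) :
    LamH p M P e lam u x = lam (g * u * g⁻¹) := by
  classical
  have hex : ∃ g, Wit p M P e u x g := ⟨g, h⟩
  unfold LamH
  rw [dif_pos hex]
  exact hst u x _ _ hex.choose_spec h

theorem lamH_of_not {u : G} {x : MonoidAlgebra (localSubring M) G}
    (h : ¬ ∃ g, Wit p M P e u x g) : LamH p M P e lam u x = 0 := by
  classical
  unfold LamH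
  rw [dif_neg h]

theorem lamH_conj (hst : ∀ u (x : MonoidAlgebra (localSubring M) G) g g', Wit p M P e u x g →
      Wit p M P e u x g' → lam (g * u * g⁻¹) = lam (g' * u * g'⁻¹)) (u t : G)
    (x : MonoidAlgebra (localSubring M) G) :
    LamH p M P e lam (t * u * t⁻¹) (cj t x) = LamH p M P e lam u x := by
  classical
  by_cases hex : ∃ g, Wit p M P e u x g
  · obtain ⟨g, hg⟩ := hex
    rw [lamH_eq hst hg, lamH_eq hst (wit_conj hg t)]
    congr 1
    group
  · rw [lamH_of_not hex, lamH_of_not]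
    rintro ⟨g, hg⟩
    apply hex
    have h1 := wit_conj hg t⁻¹
    have e1 : t⁻¹ * (t * u * t⁻¹) * t⁻¹⁻¹ = u := by group
    have e2 : cj t⁻¹ (cj t x) = x := by
      rw [← cj_mul, inv_mul_cancel, cj_one]
    rw [e1, e2] at h1
    exact ⟨_, h1⟩

end Lam

section Central

/-- The idempotent of a block of `G` in the group algebra. -/
noncomputable def eG (B : Set (IrrCharacter G)) (hB : IsPBlock M B) : MonoidAlgebra (localSubring M) G :=
  toR (blockCoeff B) (memLocalRing_blockCoeff hB)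

theorem coeF_eG (B : Set (IrrCharacter G)) (hB : IsPBlock M B) : coeF (eG B hB) = blockCoeff B := rfl

theorem eG_idem (B : Set (IrrCharacter G)) (hB : IsPBlock M B) : eG B hB * eG B hB = eG B hB := by
  apply coeF_injective
  rw [coeF_mul, coeF_eG, BrauerPair.conv_blockCoeff_self]

theorem eG_comm (B : Set (IrrCharacter G)) (hB : IsPBlock M B) (a : MonoidAlgebra (localSubring M) G) :
    eG B hB * a = a * eG B hB := by
  apply BlockResidue.central_of_class
  intro g x
  apply Subtype.ext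
  exact Cfsg.Agent.Lib.BlockNormal.blockCoeff_isClassFunction B g x

theorem eG_mem_cen (B : Set (IrrCharacter G)) (hB : IsPBlock M B) (E : Set G) :
    eG B hB ∈ cen (localSubring M) E := by
  rw [mem_cen]
  intro e _
  exact (eG_comm B hB _).symm

/-- Multiplying by the block idempotent does not change the value of a member of the block. -/
theorem chiT_mul_eG {B : Set (IrrCharacter G)} (hB : IsPBlock M B) {χ : IrrCharacter G} (hχ : χ ∈ B)
    (y : MonoidAlgebra (localSubring M) G) : chiT (χ : G → ℂ) (y * eG B hB) = chiT (χ : G → ℂ) y := by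
  classical
  have hv : ∀ v : G, chiT (χ : G → ℂ) (ofG (localSubring M) v * eG B hB) = (χ : G → ℂ) v := by
    intro v
    rw [chiT_ofG_mul]
    have h1 := Cfsg.Agent.Lib.BlockSecond.sum_class_mul_irr
      (Cfsg.Agent.Lib.BlockNormal.blockCoeff_isClassFunction B) χ v
    rw [BrauerPair.omega_blockCoeff, ind_of_mem hχ, one_mul] at h1
    exact h1
  rw [BlockResidue.eq_sum_single y, Finset.sum_mul, map_sum, map_sum]
  refine Finset.sum_congr rfl fun g _ => ?_
  rw [BlockResidue.single_eq_smul]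
  have h2 : ∀ z : MonoidAlgebra (localSubring M) G, ∀ r : localSubring M,
      chiT (χ : G → ℂ) (r • z) = (r : ℂ) * chiT (χ : G → ℂ) z := by
    intro z r
    rw [chiT_apply, chiT_apply, Finset.mul_sum]
    refine Finset.sum_congr rfl fun k _ => ?_
    simp only [coeF_apply]
    rw [MonoidAlgebra.coeff_smul, Finsupp.smul_apply, smul_eq_mul]
    push_cast
    ring
  rw [smul_mul_assoc, h2, h2]
  have h3 : MonoidAlgebra.single g (1 : localSubring M) = ofG (localSubring M) g := rfl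
  rw [h3, hv g]
  congr 1
  rw [chiT_apply]
  rw [Finset.sum_eq_single g]
  · simp [coeF_apply, ofG]
  · intro b _ hb
    simp [coeF_apply, ofG, MonoidAlgebra.coeff_single, Ne.symm hb]
  · simp

end Central

section LocalStep

variable {P Q H : Subgroup G} {e : Set (IrrCharacter (Subgroup.centralizer (P : Set G)))} {lam : G → ℂ} {B : Set (IrrCharacter G)}
  {χ : IrrCharacter G}

/-- The local case. -/
theorem local_step (hM : IsPModular p M) (hB : IsPBlock M B) (hmax : IsMaximalBrauerPair p M B P e)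
    (hχ : IsClassFunction G (χ : G → ℂ)) (hχc : IsCharacter G (χ : G → ℂ))
    (hlam : IsGeneralizedCharacter P (fun y : P => lam y))
    (hst : ∀ u (x : MonoidAlgebra (localSubring M) G) g g', Wit p M P e u x g →
      Wit p M P e u x g' → lam (g * u * g⁻¹) = lam (g' * u * g'⁻¹))
    (hHp : ∀ s ∈ H, ¬ p ∣ orderOf s) (hQ : IsPGroup p Q) (hQH : ∀ τ ∈ Q, ∀ s ∈ H, τ * s = s * τ)
    {i : MonoidAlgebra (localSubring M) G} (hi : PrimIn (SS M Q H) i) (hiB : i * eG B hB = i)
    (h0 : br Q i ≠ 0) :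
    IsGeneralizedCharacter ↥(Q ⊔ H) (fun z : ↥(Q ⊔ H) =>
      FF M (LamH p M P e lam) (χ : G → ℂ) (pp p (z : G)) (z : G) i) := by
  classical
  obtain ⟨c, hc⟩ := exists_block hM hQ hQH hi
  have hψQ := homD (H := H) hM hQ (le_refl Q)
  have heGS : eG B hB ∈ SS M Q H := eG_mem_cen B hB _
  have hQc : IsBrauerPair p M Q c.1 := ⟨hQ, c.2⟩
  -- the pair belongs to `B`
  have hpair : IsBrauerPairOf p M B Q c.1 := by
    refine ⟨hQc, hB, fun ξ hξ => ?_⟩
    rw [brauerOmega_eq]
    have hne : br Q (eG B hB) * bb Q c ≠ 0 := by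
      intro h1
      apply h0
      have h2 : br Q i = br Q i * br Q (eG B hB) := by
        rw [← hψQ.mul _ hi.mem _ heGS, hiB]
      calc br Q i = br Q i * br Q (eG B hB) := h2
        _ = (br Q i * bb Q c) * br Q (eG B hB) := by rw [hc]
        _ = br Q i * (bb Q c * br Q (eG B hB)) := mul_assoc _ _ _
        _ = br Q i * (br Q (eG B hB) * bb Q c) := by rw [(bb_commute Q _ c).eq]
        _ = 0 := by rw [h1, mul_zero]
    exact occ_of_br_ne hM hQ (eG_idem B hB) (eG_mem_cen B hB _) (eG_mem_cen B hB _) c hne ξ hξ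
  obtain ⟨g, hg⟩ := exists_conj_subpairLE hM hmax hpair
  have hQP : (Q ^^ g) ≤ P := le_of_subpairLE hg
  -- the value
  have hval : ∀ z : ↥(Q ⊔ H), FF M (LamH p M P e lam) (χ : G → ℂ) (pp p (z : G)) (z : G) i =
      lam (g * pp p (z : G) * g⁻¹) * chiT (χ : G → ℂ) (ofG (localSubring M) (z : G) * i) := by
    intro z
    have hu : pp p (z : G) ∈ Q := pp_mem hQ hHp hQH z.2
    have hDQ : Subgroup.zpowers (pp p (z : G)) ≤ Q := by
      rw [Subgroup.zpowers_le]
      exact hu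
    obtain ⟨b, hb, hle⟩ := exists_subpairLE hM hQc hDQ
    have h1 := local_below hM hHp _ Q rfl hQ hQH i c hi h0 hc _ ⟨b, hb⟩ hDQ hle
    rw [FF_local hM hχ (pp_spec (z : G)) (SS_le_SV z.2 hi.mem) hi.idem h1]
    congr 1
    apply lamH_eq hst
    refine ⟨⟨b, hb⟩, rfl, ?_⟩
    exact (relationCp hM g hle).trans hg
  -- the function `lam`
  let f : ↥(Q ⊔ H) →* ↥P :=
    { toFun := fun z => ⟨g * pp p (z : G) * g⁻¹, hQP ⟨pp p (z : G), pp_mem hQ hHp hQH z.2, rfl⟩⟩
      map_one' := by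
        apply Subtype.ext
        have h1 := (ppHom hQ hHp hQH).map_one
        have h2 : pp p ((1 : ↥(Q ⊔ H)) : G) = 1 := congrArg Subtype.val h1
        show g * pp p ((1 : ↥(Q ⊔ H)) : G) * g⁻¹ = 1
        rw [h2]
        group
      map_mul' := by
        intro a b
        apply Subtype.ext
        have h1 := (ppHom hQ hHp hQH).map_mul a b
        have h2 : pp p ((a * b : ↥(Q ⊔ H)) : G) = pp p (a : G) * pp p (b : G) := congrArg Subtype.val h1
        show g * pp p ((a * b : ↥(Q ⊔ H)) : G) * g⁻¹ = (g * pp p (a : G) * g⁻¹) * (g * pp p (b : G) * g⁻¹)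
        rw [h2]
        group }
  have h1 : IsGeneralizedCharacter ↥(Q ⊔ H) (fun z : ↥(Q ⊔ H) => lam (g * pp p (z : G) * g⁻¹)) :=
    isGen_isCharacter_comp f hlam
  have h2 : IsGeneralizedCharacter ↥(Q ⊔ H) (fun z : ↥(Q ⊔ H) =>
      chiT (χ : G → ℂ) (ofG (localSubring M) (z : G) * i)) :=
    gen_chiT hχc (fun z hz => mem_SV_iff.1 (SS_le_SV hz hi.mem)) hi.idem
  have h3 := isGen_mul h1 h2
  convert h3 using 1
  funext z
  exact hval z

end LocalStep

section NonLocal

variable {Q Z H : Subgroup G} {χ : G → ℂ} {Λ : G → MonoidAlgebra (localSubring M) G → ℂ}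

theorem ofG_pow (τ : G) (k : ℕ) : (ofG (localSubring M) τ) ^ k = ofG (localSubring M) (τ ^ k) := by
  induction k with
  | zero => simp
  | succ k ih => rw [pow_succ, ih, ← ofG_mul, pow_succ]

theorem ofG_inv_pow (τ : G) (k : ℕ) :
    (ofG (localSubring M) τ⁻¹) ^ k = ofG (localSubring M) (τ ^ k)⁻¹ := by
  rw [ofG_pow, inv_pow]

theorem pow_conj (τ : G) (k : ℕ) (x : MonoidAlgebra (localSubring M) G) :
    (ofG (localSubring M) τ) ^ k * x * (ofG (localSubring M) τ⁻¹) ^ k = cj (τ ^ k) x := by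
  rw [ofG_pow, ofG_inv_pow]
  rfl

theorem cj_mem_SS {τ : G} (hτ : τ ∈ 𝐍[Z]) (hτH : ∀ s ∈ H, τ * s = s * τ)
    {x : MonoidAlgebra (localSubring M) G} (hx : x ∈ SS M Z H) : cj τ x ∈ SS M Z H := by
  rw [mem_cen_conj]
  rintro e (he | he)
  · show cj e (cj τ x) = cj τ x
    have h1 : τ⁻¹ * e * τ ∈ Z := by
      have := (Subgroup.mem_normalizer_iff.1 ((𝐍[Z]).inv_mem hτ) e).1 he
      simpa using this
    have h2 : e * τ = τ * (τ⁻¹ * e * τ) := by group
    rw [← cj_mul, h2, cj_mul, cj_eq_of_mem hx (Or.inl h1)]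
  · show cj e (cj τ x) = cj τ x
    rw [← cj_mul, ← hτH e he, cj_mul, cj_eq_of_mem hx (Or.inr he)]

theorem cj_pow_mem_SS {τ : G} (hτ : τ ∈ 𝐍[Z]) (hτH : ∀ s ∈ H, τ * s = s * τ) (k : ℕ)
    {x : MonoidAlgebra (localSubring M) G} (hx : x ∈ SS M Z H) : cj (τ ^ k) x ∈ SS M Z H := by
  induction k with
  | zero =>
    rw [pow_zero, cj_one]
    exact hx
  | succ k ih =>
    rw [pow_succ', cj_mul]
    exact cj_mem_SS hτ hτH ih

/-- **The non-local case**: the function is induced. -/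
theorem nonlocal_step (hM : IsPModular p M) (hχ : IsClassFunction G χ)
    (hΛ : ∀ u t x, Λ (t * u * t⁻¹) (cj t x) = Λ u x)
    (hHp : ∀ s ∈ H, ¬ p ∣ orderOf s) (hQ : IsPGroup p Q) (hQH : ∀ τ ∈ Q, ∀ s ∈ H, τ * s = s * τ)
    {i : MonoidAlgebra (localSubring M) G} (hi : PrimIn (SS M Q H) i) (h0 : br Q i = 0)
    (IH : ∀ Z, Z < Q → ∀ j ∈ SS M Z H, j * j = j → IsGeneralizedCharacter ↥(Z ⊔ H)
      (fun z : ↥(Z ⊔ H) => FF M Λ χ (pp p (z : G)) (z : G) j)) :
    IsGeneralizedCharacter ↥(Q ⊔ H) (fun z : ↥(Q ⊔ H) => FF M Λ χ (pp p (z : G)) (z : G) i) := by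
  classical
  have hpp := hp.out
  have hpm := hpm_of hM
  obtain ⟨Z, hZQ, hidx, w, hwS, hiw, hwi, hrtr⟩ := rosenberg splitR_local hQ hHp hQH hi h0
  have hZne : Z ≠ Q := by
    rintro rfl
    have : (Z.subgroupOf Z).index = 1 := by
      rw [Subgroup.subgroupOf_self, Subgroup.index_top]
    rw [this] at hidx
    exact hpp.one_lt.ne hidx
  obtain ⟨τ, hτQ, hτZ⟩ : ∃ t ∈ Q, t ∉ Z := by
    by_contra hne
    push Not at hne
    exact hZne (le_antisymm hZQ hne)
  haveI hnorm := normal_of_index_p hQ hidx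
  have hτN : τ ∈ 𝐍[Z] := by
    apply mem_normalizer_of_conj_le
    intro d hd
    have h1 : (⟨d, hZQ hd⟩ : Q) ∈ Z.subgroupOf Q := Subgroup.mem_subgroupOf.2 hd
    have h2 := hnorm.conj_mem _ h1 (⟨τ, hτQ⟩ : Q)⁻¹
    rw [Subgroup.mem_subgroupOf] at h2
    simpa using h2
  have hτH := hQH τ hτQ
  have hτp : τ ^ p ∈ Z := by
    have h1 : (QuotientGroup.mk (⟨τ, hτQ⟩ : Q) : Q ⧸ Z.subgroupOf Q) ^ p = 1 := by
      rw [← hidx]
      exact pow_card_eq_one'
    rw [← QuotientGroup.mk_pow, QuotientGroup.eq_one_iff, Subgroup.mem_subgroupOf] at h1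
    simpa using h1
  have hiZ : i ∈ SS M Z H := SS_anti hZQ hi.mem
  obtain ⟨j, hjS, hjj, hij, hji, horth, hsum⟩ := exists_as (L := LL M G) (S := SS M Z H) p hpm
    (t := ofG (localSubring M) τ) (t' := ofG (localSubring M) τ⁻¹) (a := i) (w := w)
    (ofG_mul_inv τ) (ofG_inv_mul τ) (fun x hx => cj_mem_SS hτN hτH hx)
    (fun x hx => by
      rw [pow_conj]
      exact cj_eq_of_mem hx (Or.inl hτp))
    hiZ hi.idem (cj_eq_of_mem hi.mem (Or.inl hτQ)) hwS hiw hwi
    (by
      simp_rw [pow_conj]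
      rw [← rtr_eq_sum_pow hQ hZQ hidx hτQ hτZ (SS_left hwS), hrtr])
  simp_rw [pow_conj] at horth hsum
  -- the quotient map
  have hZp : IsPGroup p Z := hQ.to_le hZQ
  have hZH := comm_of_le hZQ hQH
  let f : ↥(Q ⊔ H) →* (Q ⧸ Z.subgroupOf Q) :=
    (QuotientGroup.mk' (Z.subgroupOf Q)).comp (ppHom hQ hHp hQH)
  have hmemK : ∀ z : ↥(Q ⊔ H), z ∈ (Z ⊔ H).subgroupOf (Q ⊔ H) ↔ pp p (z : G) ∈ Z := by
    intro z
    rw [Subgroup.mem_subgroupOf]
    constructor
    · intro h
      exact pp_mem hZp hHp hZH h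
    · intro h
      obtain ⟨τ₀, hτ₀, s, hs, hz⟩ := exists_decomp hQH z.2
      rw [hz, pp_eq (isPPart_mul hQ hHp hQH hτ₀ hs)] at h
      rw [hz]
      exact Subgroup.mul_mem _ (Subgroup.mem_sup_left h) (Subgroup.mem_sup_right hs)
  have hK : (Z ⊔ H).subgroupOf (Q ⊔ H) = f.ker := by
    ext z
    rw [hmemK, MonoidHom.mem_ker]
    show _ ↔ (QuotientGroup.mk (ppHom hQ hHp hQH z) : Q ⧸ Z.subgroupOf Q) = 1
    rw [QuotientGroup.eq_one_iff, Subgroup.mem_subgroupOf]
    rfl
  haveI hKn : ((Z ⊔ H).subgroupOf (Q ⊔ H)).Normal := by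
    rw [hK]
    exact MonoidHom.normal_ker f
  have hKi : ((Z ⊔ H).subgroupOf (Q ⊔ H)).index = p := by
    rw [hK, Subgroup.index_ker]
    have hsurj : Function.Surjective f := by
      intro q
      obtain ⟨τ₁, rfl⟩ := QuotientGroup.mk_surjective q
      refine ⟨⟨τ₁, Subgroup.mem_sup_left τ₁.2⟩, ?_⟩
      show (QuotientGroup.mk (ppHom hQ hHp hQH ⟨τ₁, Subgroup.mem_sup_left τ₁.2⟩) : Q ⧸ Z.subgroupOf Q) = _
      congr 1
      apply Subtype.ext
      show pp p (τ₁ : G) = τ₁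
      have h1 := isPPart_mul hQ hHp hQH τ₁.2 H.one_mem
      rw [mul_one] at h1
      exact pp_eq h1
    rw [MonoidHom.range_eq_top.2 hsurj, Nat.card_congr Subgroup.topEquiv.toEquiv]
    exact hidx
  have hτ'K : (⟨τ, Subgroup.mem_sup_left hτQ⟩ : ↥(Q ⊔ H)) ∉ (Z ⊔ H).subgroupOf (Q ⊔ H) := by
    rw [hmemK]
    have h1 := isPPart_mul hQ hHp hQH hτQ H.one_mem
    rw [mul_one] at h1
    show pp p τ ∉ Z
    rw [pp_eq h1]
    exact hτZ
  -- the induced function
  let φ : ↥((Z ⊔ H).subgroupOf (Q ⊔ H)) → ℂ := fun k => FF M Λ χ (pp p ((k : ↥(Q ⊔ H)) : G)) ((k : ↥(Q ⊔ H)) : G) j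
  have hZlt : Z < Q := lt_of_le_of_ne hZQ hZne
  have hφgen : IsGeneralizedCharacter _ φ := by
    let g : ↥((Z ⊔ H).subgroupOf (Q ⊔ H)) →* ↥(Z ⊔ H) :=
      { toFun := fun k => ⟨((k : ↥(Q ⊔ H)) : G), Subgroup.mem_subgroupOf.1 k.2⟩
        map_one' := rfl
        map_mul' := fun _ _ => rfl }
    exact isGen_isCharacter_comp g (IH Z hZlt j hjS hjj)
  have hφcl := isGen_isClassFunction hφgen
  have key : (fun z : ↥(Q ⊔ H) => FF M Λ χ (pp p (z : G)) (z : G) i) =
      indFun ((Z ⊔ H).subgroupOf (Q ⊔ H)) φ := by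
    funext z
    by_cases hzK : z ∈ (Z ⊔ H).subgroupOf (Q ⊔ H)
    · rw [indFun_index_p hKi hτ'K hφcl hzK]
      have hu := (hmemK z).1 hzK
      have hv := pp_spec (p := p) (z : G)
      have hzG : (z : G) ∈ Z ⊔ H := Subgroup.mem_subgroupOf.1 hzK
      have hD : IsPGroup p (Subgroup.zpowers (pp p (z : G))) := isPGroup_zp hv
      have hDZ : Subgroup.zpowers (pp p (z : G)) ≤ Z := by
        rw [Subgroup.zpowers_le]
        exact hu
      have hψ := homD (H := H) hM hD hDZ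
      have hjk : ∀ k : ℕ, cj (τ ^ k) j ∈ SS M Z H := fun k => cj_pow_mem_SS hτN hτH k hjS
      rw [FF_sum_br (Λ := Λ) hM hχ hv (Finset.range p) (j := fun k => cj (τ ^ k) j)
        (fun k _ => SS_le_SV hzG (hjk k)) (fun k _ => cj_idem hjj _)
        (fun k hk l hl hkl => by
          rw [← hψ.mul _ (hjk k) _ (hjk l)]
          exact hψ.ker _ ((SS M Z H).mul_mem (hjk k) (hjk l))
            (horth k (Finset.mem_range.1 hk) l (Finset.mem_range.1 hl) hkl))
        (by
          rw [← map_sum, ← sub_eq_zero, ← map_sub]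
          apply br_eq_zero_of_red
          rw [map_sub, sub_eq_zero]
          exact hsum)]
      refine Finset.sum_congr rfl fun k _ => ?_
      set y : ↥(Q ⊔ H) := (⟨τ, Subgroup.mem_sup_left hτQ⟩ ^ k)⁻¹ * z * ⟨τ, Subgroup.mem_sup_left hτQ⟩ ^ k with hy
      have hyK : y ∈ (Z ⊔ H).subgroupOf (Q ⊔ H) := by
        have := hKn.conj_mem z hzK ((⟨τ, Subgroup.mem_sup_left hτQ⟩ : ↥(Q ⊔ H)) ^ k)⁻¹
        simpa [hy] using this
      rw [extendByZero_of_mem _ φ hyK]
      show _ = FF M Λ χ (pp p (y : G)) (y : G) j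
      have hyG : (y : G) = (τ ^ k)⁻¹ * (z : G) * τ ^ k := by
        simp [hy]
      have hySV : j ∈ SV M (y : G) := SS_le_SV (Subgroup.mem_subgroupOf.1 hyK) hjS
      have h1 := FF_conj (Λ := Λ) hM hχ (pp_spec (p := p) (y : G)) (τ ^ k) hΛ hySV hjj
      rw [← h1]
      have h2 : τ ^ k * (y : G) * (τ ^ k)⁻¹ = z := by
        rw [hyG]
        group
      have h3 := Cfsg.Agent.Lib.BlkOrth.pPart_conj (pp_spec (p := p) (y : G)) (τ ^ k)
      rw [h2] at h3
      rw [h2, pp_eq h3]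
    · rw [indFun_eq_zero_of_not_mem hzK]
      have hu : pp p (z : G) ∉ Z := fun h => hzK ((hmemK z).2 h)
      apply FF_zero_of_br hM hχ (pp_spec (z : G))
      rw [← hrtr]
      apply br_rtr_eq_zero_of_not_le hpm hQ hZQ hidx
      · rw [Subgroup.zpowers_le]
        exact pp_mem hQ hHp hQH z.2
      · intro h
        exact hu (Subgroup.zpowers_le.1 h)
      · exact SS_left hwS
  rw [key]
  exact Cfsg.Agent.Lib.DadeExpand.isGen_indFun _ hφgen

end NonLocal

section Main

variable {P H : Subgroup G} {e : Set (IrrCharacter (Subgroup.centralizer (P : Set G)))} {lam : G → ℂ}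
  {B : Set (IrrCharacter G)} {χ : IrrCharacter G}

/-- **The restriction to `Q × H` of the function attached to any idempotent is a generalized
character.** -/
theorem star_gen (hM : IsPModular p M) (hB : IsPBlock M B) (hmax : IsMaximalBrauerPair p M B P e)
    (hχB : χ ∈ B) (hlam : IsGeneralizedCharacter P (fun y : P => lam y))
    (hst : ∀ u (x : MonoidAlgebra (localSubring M) G) g g', Wit p M P e u x g →
      Wit p M P e u x g' → lam (g * u * g⁻¹) = lam (g' * u * g'⁻¹))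
    (hHp : ∀ s ∈ H, ¬ p ∣ orderOf s) :
    ∀ (n : ℕ) (Q : Subgroup G), Nat.card Q = n → IsPGroup p Q →
      (∀ τ ∈ Q, ∀ s ∈ H, τ * s = s * τ) → ∀ i ∈ SS M Q H, i * i = i →
      IsGeneralizedCharacter ↥(Q ⊔ H) (fun z : ↥(Q ⊔ H) =>
        FF M (LamH p M P e lam) (χ : G → ℂ) (pp p (z : G)) (z : G) i) := by
  classical
  have hχc : IsCharacter G (χ : G → ℂ) := IsIrrCharacter.isCharacter χ.2
  have hχ : IsClassFunction G (χ : G → ℂ) := isClassFunction_of_isCharacter hχc
  have hΛ := lamH_conj (p := p) (M := M) (e := e) (lam := lam) hst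
  intro n
  induction n using Nat.strong_induction_on with
  | _ n ih =>
  intro Q hn hQ hQH
  refine idem_induction (LL M G) (S := SS M Q H) (P := fun a => IsGeneralizedCharacter ↥(Q ⊔ H)
    (fun z : ↥(Q ⊔ H) => FF M (LamH p M P e lam) (χ : G → ℂ) (pp p (z : G)) (z : G) a)) ?_ ?_ ?_
  · have h1 : (fun z : ↥(Q ⊔ H) => FF M (LamH p M P e lam) (χ : G → ℂ) (pp p (z : G)) (z : G) 0) = 0 := by
      funext z
      exact FF_zero_of_br hM hχ (pp_spec (z : G)) (map_zero _)
    rw [h1]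
    exact isGen_zero
  · intro a c ha hc haa hcc hac hca h1 h2
    have h3 := isGen_add h1 h2
    convert h3 using 1
    funext z
    exact FF_add hM hχ (pp_spec (z : G)) (SS_le_SV z.2 ha) (SS_le_SV z.2 hc) haa hcc hac hca
  · intro i hi
    have hei : i * eG B hB ∈ SS M Q H := (SS M Q H).mul_mem hi.mem (eG_mem_cen B hB _)
    have hidem : (i * eG B hB) * (i * eG B hB) = i * eG B hB := by
      calc (i * eG B hB) * (i * eG B hB) = i * (eG B hB * i) * eG B hB := by simp only [mul_assoc]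
        _ = i * (i * eG B hB) * eG B hB := by rw [eG_comm]
        _ = (i * i) * (eG B hB * eG B hB) := by simp only [mul_assoc]
        _ = i * eG B hB := by rw [hi.idem, eG_idem]
    rcases hi.prim _ hei hidem (by rw [← mul_assoc, hi.idem]) (by
      rw [mul_assoc, eG_comm, ← mul_assoc, hi.idem]) with h0 | h0
    · -- `i` belongs to other blocks
      have h1 : (fun z : ↥(Q ⊔ H) => FF M (LamH p M P e lam) (χ : G → ℂ) (pp p (z : G)) (z : G) i) = 0 := by
        funext z
        refine FF_vanish hM hχ (pp_spec (z : G)) (SS_le_SV z.2 hi.mem) hi.idem ?_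
        intro q _ _ hiq hqi
        have h2 : q * eG B hB = 0 := by
          rw [← hqi, mul_assoc, h0, mul_zero]
        have h3 := chiT_mul_eG hB hχB (ofG (localSubring M) (z : G) * q)
        rw [mul_assoc, h2, mul_zero, map_zero] at h3
        exact h3.symm
      rw [h1]
      exact isGen_zero
    · by_cases hbr : br Q i = 0
      · refine nonlocal_step hM hχ hΛ hHp hQ hQH hi hbr ?_
        intro Z hZ j hj hjj
        exact ih (Nat.card Z) (by rw [← hn]; exact card_lt_card_of_lt hZ) Z rfl (hQ.to_le hZ.le)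
          (comm_of_le hZ.le hQH) j hj hjj
      · exact local_step hM hB hmax hχ hχc hlam hst hHp hQ hQH hi h0 hbr

end Main

end Cfsg.Agent.Lib.StarII
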