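import Mathlib
import Cfsg.Agent.Lib.StarII

/-!
# The Broué–Puig construction: the global generalized character
-/

set_option autoImplicit false
set_option linter.unusedSectionVars false
set_option linter.unusedVariables false
set_option linter.style.haveILetI false

namespace Cfsg.Agent.Lib.StarGlob

open Polynomial IsLocalRing Cfsg Cfsg.Agent.Lib.StarFit Cfsg.Agent.Lib.StarGrp
open Cfsg.Agent.Lib.StarLoc Cfsg.Agent.Lib.BlockLocal Cfsg.Agent.Lib.BlockCover
open Cfsg.Agent.Lib.BlockResidue Cfsg.Agent.Lib.BrauerMap Cfsg.Agent.Lib.BrauerPair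
open Cfsg.Agent.Lib.BrauerSub Cfsg.Agent.Lib.BlockIdem Cfsg.Agent.Lib.CharIntegrality
open Cfsg.Agent.Lib.BlkBasic Cfsg.Agent.Lib.StarBlk Cfsg.Agent.Lib.StarP Cfsg.Agent.Lib.StarTh
open Cfsg.Agent.Lib.StarFit.LocSys Cfsg.Agent.Lib.GenChar Cfsg.Agent.Lib.CharBasic
open Cfsg.Agent.Lib.CharInd Cfsg.Agent.Lib.StarGen Cfsg.Agent.Lib.BrauerConj
open Cfsg.Agent.Lib.BrauerCen Cfsg.Agent.Lib.BrauerMax Cfsg.Agent.Lib.StarII

universe u

variable {G : Type u} [Group G] [Fintype G] {p : ℕ} [hp : Fact p.Prime] {M : Ideal AlgInt}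
  [hMp : M.IsPrime]

local notation "𝐂[" R "]" => Subgroup.centralizer ((R : Subgroup G) : Set G)
local notation "𝐍[" R "]" => Subgroup.normalizer ((R : Subgroup G) : Set G)
local notation Q "^^" x => Subgroup.map (MulEquiv.toMonoidHom (MulAut.conj (x : G))) (Q : Subgroup G)

noncomputable local instance fintypeSubGlob {A : Type*} [Group A] [Finite A] (K : Subgroup A) : Fintype K :=
  Fintype.ofFinite K

section Cover

/-- An elementary group is covered by a commuting product of a `p`-group and a `p'`-group. -/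
theorem exists_elem_cover {E : Subgroup G} {q : ℕ} (hq : q.Prime) (hE : IsElementary q E) :
    ∃ Q H : Subgroup G, IsPGroup p Q ∧ (∀ s ∈ H, ¬ p ∣ orderOf s) ∧
      (∀ τ ∈ Q, ∀ s ∈ H, τ * s = s * τ) ∧ E ≤ Q ⊔ H := by
  classical
  obtain ⟨x, hxc, hxq, k, hk⟩ := hE
  haveI : Fact q.Prime := ⟨hq⟩
  have hpp := hp.out
  let Y : Sylow q E := default
  have hYp : IsPGroup q (Y : Subgroup E) := Y.isPGroup'
  -- the cardinalities
  have hcard : Nat.card (Subgroup.zpowers x) * q ^ k = Nat.card E := by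
    rw [← hk]
    exact Subgroup.card_mul_index _
  have hxcard : Nat.card (Subgroup.zpowers x) = orderOf x := Nat.card_zpowers x
  have hfac : (Nat.card E).factorization q = k := by
    rw [← hcard, hxcard, Nat.factorization_mul (orderOf_pos x).ne' (pow_pos hq.pos k).ne',
      hq.factorization_pow]
    simp only [Finsupp.coe_add, Pi.add_apply, Finsupp.single_eq_same]
    rw [Nat.factorization_eq_zero_of_not_dvd]
    · simp
    · intro h
      have := Nat.Coprime.eq_one_of_dvd hxq.symm h
      exact hq.one_lt.ne' this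
  have hYcard : Nat.card (Y : Subgroup E) = q ^ k := by
    rw [Y.card_eq_multiplicity, hfac]
  -- covering
  have htop : (Y : Subgroup E) ⊔ Subgroup.zpowers x = ⊤ := by
    apply Subgroup.eq_top_of_card_eq
    apply Nat.dvd_antisymm (Subgroup.card_subgroup_dvd_card _)
    rw [← hcard]
    rw [mul_comm]
    apply Nat.Coprime.mul_dvd_of_dvd_of_dvd
    · rw [hxcard]
      exact (hxq.symm.pow_left k)
    · rw [← hYcard]
      exact Subgroup.card_dvd_of_le le_sup_left
    · exact Subgroup.card_dvd_of_le le_sup_right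
  have hxcen : ∀ z : E, z * x = x * z := fun z => ((Subgroup.mem_center_iff.1 hxc) z)
  have hdecomp : ∀ z : E, ∃ a ∈ (Y : Subgroup E), ∃ n : ℤ, z = a * x ^ n := by
    intro z
    have hz : z ∈ (Y : Subgroup E) ⊔ Subgroup.zpowers x := by
      rw [htop]
      exact Subgroup.mem_top z
    obtain ⟨a, ha, s, hs, h⟩ := exists_decomp (fun τ _ s hs => by
      obtain ⟨n, rfl⟩ := Subgroup.mem_zpowers_iff.1 hs
      exact ((Commute.zpow_right (show Commute τ x from hxcen τ) n)).eq) hz
    obtain ⟨n, rfl⟩ := Subgroup.mem_zpowers_iff.1 hs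
    exact ⟨a, ha, n, h⟩
  set Y' : Subgroup G := (Y : Subgroup E).map E.subtype with hY'
  have hY'E : Y' ≤ E := by
    rw [hY']
    rintro _ ⟨a, _, rfl⟩
    exact a.2
  have hY'q : IsPGroup q Y' := by
    rw [hY']
    exact hYp.map E.subtype
  have hY'ord : ∀ a ∈ Y', ∃ n : ℕ, orderOf a = q ^ n := by
    intro a ha
    obtain ⟨n, hn⟩ := (IsPGroup.iff_orderOf.1 hY'q) ⟨a, ha⟩
    exact ⟨n, by rwa [Subgroup.orderOf_mk] at hn⟩
  set X : G := (x : G) with hX
  have hXE : X ∈ E := x.2
  have hEX : ∀ z ∈ E, Commute z X := by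
    intro z hz
    have h1 := hxcen ⟨z, hz⟩
    exact congrArg Subtype.val h1
  have hXord : orderOf X = orderOf x := Subgroup.orderOf_coe x
  have hEcov : ∀ z ∈ E, ∃ a ∈ Y', ∃ n : ℤ, z = a * X ^ n := by
    intro z hz
    obtain ⟨a, ha, n, h⟩ := hdecomp ⟨z, hz⟩
    refine ⟨a, ⟨a, ha, rfl⟩, n, ?_⟩
    have := congrArg Subtype.val h
    simpa using this
  by_cases hqp : q = p
  · subst hqp
    refine ⟨Y', Subgroup.zpowers X, hY'q, ?_, ?_, ?_⟩
    · intro s hs h
      have h1 : orderOf s ∣ orderOf X := orderOf_dvd_of_mem_zpowers hs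
      have h2 : q ∣ orderOf X := h.trans h1
      rw [hXord] at h2
      exact hq.one_lt.ne' (Nat.Coprime.eq_one_of_dvd hxq.symm h2)
    · intro τ hτ s hs
      obtain ⟨n, rfl⟩ := Subgroup.mem_zpowers_iff.1 hs
      exact ((hEX τ (hY'E hτ)).zpow_right n).eq
    · intro z hz
      obtain ⟨a, ha, n, rfl⟩ := hEcov z hz
      exact Subgroup.mul_mem _ (Subgroup.mem_sup_left ha)
        (Subgroup.mem_sup_right (Subgroup.zpow_mem_zpowers X n))
  · obtain ⟨u, hu⟩ := Cfsg.Agent.Lib.BlkOrth.exists_isPPart hpp X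
    obtain ⟨y, huy, hc, hup, hyp⟩ := id hu
    obtain ⟨N, hN⟩ := Cfsg.Agent.Lib.BlkOrth.pPart_exists_pow hpp hu
    have hyX : y ∈ Subgroup.zpowers X := by
      have h1 : y = u⁻¹ * X := by
        rw [← huy]
        group
      rw [h1, ← hN]
      exact Subgroup.mul_mem _ (Subgroup.inv_mem _ (Subgroup.npow_mem_zpowers X N))
        (Subgroup.mem_zpowers X)
    have huX : u ∈ Subgroup.zpowers X := by
      rw [← hN]
      exact Subgroup.npow_mem_zpowers X N
    refine ⟨Subgroup.zpowers u, Y' ⊔ Subgroup.zpowers y,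
      Cfsg.Agent.Lib.BlockSecond.isPGroup_zpowers_of_isPPart hu, ?_, ?_, ?_⟩
    · intro s hs h
      have hcomm : ∀ τ ∈ Y', ∀ s ∈ Subgroup.zpowers y, τ * s = s * τ := by
        intro τ hτ s hs
        obtain ⟨n, rfl⟩ := Subgroup.mem_zpowers_iff.1 hs
        obtain ⟨n', rfl⟩ := Subgroup.mem_zpowers_iff.1 hyX
        rw [← zpow_mul]
        exact ((hEX τ (hY'E hτ)).zpow_right _).eq
      obtain ⟨a, ha, b, hb, rfl⟩ := exists_decomp hcomm hs
      have h1 : Commute a b := hcomm a ha b hb
      have h2 := h1.orderOf_mul_dvd_mul_orderOf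
      have h3 := (hp.out.dvd_mul).1 (h.trans h2)
      rcases h3 with h3 | h3
      · obtain ⟨n, hn⟩ := hY'ord a ha
        rw [hn] at h3
        have := (Nat.prime_dvd_prime_iff_eq hpp hq).1 (hpp.dvd_of_dvd_pow h3)
        exact hqp this.symm
      · exact hyp (h3.trans (orderOf_dvd_of_mem_zpowers hb))
    · intro τ hτ s hs
      have hcomm : ∀ τ ∈ Y', ∀ s ∈ Subgroup.zpowers y, τ * s = s * τ := by
        intro τ hτ s hs
        obtain ⟨n, rfl⟩ := Subgroup.mem_zpowers_iff.1 hs
        obtain ⟨n', rfl⟩ := Subgroup.mem_zpowers_iff.1 hyX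
        rw [← zpow_mul]
        exact ((hEX τ (hY'E hτ)).zpow_right _).eq
      obtain ⟨a, ha, b, hb, rfl⟩ := exists_decomp hcomm hs
      obtain ⟨n, rfl⟩ := Subgroup.mem_zpowers_iff.1 hτ
      obtain ⟨m, rfl⟩ := Subgroup.mem_zpowers_iff.1 hb
      have h1 : Commute (u ^ n) a := by
        obtain ⟨n', hn'⟩ := Subgroup.mem_zpowers_iff.1 huX
        rw [← hn', ← zpow_mul]
        exact ((hEX a (hY'E ha)).zpow_right _).symm
      have h2 : Commute (u ^ n) (y ^ m) := (hc.zpow_zpow n m)
      exact (h1.mul_right h2).eq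
    · intro z hz
      obtain ⟨a, ha, n, rfl⟩ := hEcov z hz
      have hXm : X ∈ Subgroup.zpowers u ⊔ (Y' ⊔ Subgroup.zpowers y) := by
        rw [← huy]
        exact Subgroup.mul_mem _ (Subgroup.mem_sup_left (Subgroup.mem_zpowers u))
          (Subgroup.mem_sup_right (Subgroup.mem_sup_right (Subgroup.mem_zpowers y)))
      exact Subgroup.mul_mem _ (Subgroup.mem_sup_right (Subgroup.mem_sup_left ha))
        (Subgroup.zpow_mem _ hXm n)

end Cover

section Global

variable {P : Subgroup G} {e : Set (IrrCharacter (Subgroup.centralizer (P : Set G)))} {lam : G → ℂ}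
  {B : Set (IrrCharacter G)} {χ : IrrCharacter G}

variable (p M) in
/-- The function attached to `Λ` and `χ`. -/
noncomputable def TT (Λ : G → MonoidAlgebra (localSubring M) G → ℂ) (χ : G → ℂ) (v : G) : ℂ :=
  ∑ b : BlockT M 𝐂[Subgroup.zpowers (pp p v)], Λ (pp p v) (eB _ b) *
    chiT χ (ofG (localSubring M) v * eB _ b)

theorem TT_eq_FF (hM : IsPModular p M) {χ : G → ℂ} (hχ : IsClassFunction G χ)
    (Λ : G → MonoidAlgebra (localSubring M) G → ℂ) (v : G) :
    TT p M Λ χ v = FF M Λ χ (pp p v) v 1 :=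
  (FF_one hM hχ (pp_spec v)).symm

theorem pp_conj (t v : G) : pp p (t * v * t⁻¹) = t * pp p v * t⁻¹ :=
  pp_eq (Cfsg.Agent.Lib.BlkOrth.pPart_conj (pp_spec v) t)

theorem cj_one_eq (t : G) : cj t (1 : MonoidAlgebra (localSubring M) G) = 1 := by
  unfold cj
  rw [mul_one, ofG_mul_inv]

theorem TT_isClass (hM : IsPModular p M) {χ : G → ℂ} (hχ : IsClassFunction G χ)
    {Λ : G → MonoidAlgebra (localSubring M) G → ℂ} (hΛ : ∀ u t x, Λ (t * u * t⁻¹) (cj t x) = Λ u x) :
    IsClassFunction G (TT p M Λ χ) := by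
  intro v t
  rw [TT_eq_FF hM hχ, TT_eq_FF hM hχ, pp_conj]
  have h1 := FF_conj (Λ := Λ) hM hχ (pp_spec (p := p) v) t hΛ (i := 1) (Subalgebra.one_mem _) (one_mul 1)
  rw [cj_one_eq] at h1
  exact h1

/-- **The function attached to a stable generalized character is a generalized character.** -/
theorem isGen_TT (hM : IsPModular p M) (hB : IsPBlock M B) (hmax : IsMaximalBrauerPair p M B P e)
    (hχB : χ ∈ B) (hlam : IsGeneralizedCharacter P (fun y : P => lam y))
    (hst : ∀ u (x : MonoidAlgebra (localSubring M) G) g g', Wit p M P e u x g →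
      Wit p M P e u x g' → lam (g * u * g⁻¹) = lam (g' * u * g'⁻¹)) :
    IsGeneralizedCharacter G (TT p M (LamH p M P e lam) (χ : G → ℂ)) := by
  have hχc : IsCharacter G (χ : G → ℂ) := IsIrrCharacter.isCharacter χ.2
  have hχ : IsClassFunction G (χ : G → ℂ) := isClassFunction_of_isCharacter hχc
  apply Cfsg.Agent.Lib.BrauerGlobal.isGeneralizedCharacter_of_elementary
    (TT_isClass hM hχ (lamH_conj hst))
  intro E q hq hE
  obtain ⟨Q, H, hQ, hHp, hQH, hle⟩ := exists_elem_cover (p := p) hq hE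
  have h1 := star_gen hM hB hmax hχB hlam hst hHp _ Q rfl hQ hQH 1 (Subalgebra.one_mem _) (one_mul 1)
  have h2 := isGen_isCharacter_comp (Subgroup.inclusion hle) h1
  convert h2 using 1
  funext z
  exact TT_eq_FF hM hχ _ _

end Global

section Idx

variable (M G) in
/-- The pairs consisting of an element and a block of its centralizer. -/
abbrev Idx : Type u := Σ u : G, BlockT M 𝐂[Subgroup.zpowers u]

/-- The idempotent of a pair. -/
noncomputable def eI (i : Idx G M) : MonoidAlgebra (localSubring M) G := eB _ i.2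

theorem idx_ext {i j : Idx G M} (h1 : i.1 = j.1) (h2 : eI i = eI j) : i = j := by
  obtain ⟨u, b⟩ := i
  obtain ⟨u', b'⟩ := j
  obtain rfl : u = u' := h1
  have : b = b' := eB_inj _ h2
  rw [this]

/-- The conjugation action on pairs. -/
noncomputable def act (t : G) (i : Idx G M) : Idx G M :=
  ⟨t * i.1 * t⁻¹, blockEquivK _ _ t (mem_C_zp_conj t i.1) i.2⟩

theorem eI_act (t : G) (i : Idx G M) : eI (act t i) = cj t (eI i) :=
  (cj_eB_conj _ _ t _ i.2).symm

theorem act_fst (t : G) (i : Idx G M) : (act t i).1 = t * i.1 * t⁻¹ := rfl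

theorem act_one (i : Idx G M) : act 1 i = i := by
  apply idx_ext
  · simp [act_fst]
  · rw [eI_act, cj_one]

theorem act_mul (s t : G) (i : Idx G M) : act (s * t) i = act s (act t i) := by
  apply idx_ext
  · simp only [act_fst]
    group
  · rw [eI_act, eI_act, eI_act, cj_mul]

/-- Conjugation of pairs as a permutation. -/
noncomputable def actE (t : G) : Idx G M ≃ Idx G M where
  toFun := act t
  invFun := act t⁻¹
  left_inv i := by rw [← act_mul, inv_mul_cancel, act_one]
  right_inv i := by rw [← act_mul, mul_inv_cancel, act_one]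

variable (p M) in
/-- `g` conjugates the pair below `(P, e)`. -/
def W2 (P : Subgroup G) (e : Set (IrrCharacter 𝐂[P])) (i : Idx G M) (g : G) : Prop :=
  Relation.ReflTransGen (NormalSubpairRel (G := G) p M) (cp g ⟨Subgroup.zpowers i.1, i.2.1⟩) ⟨P, e⟩

variable {P : Subgroup G} {e : Set (IrrCharacter (Subgroup.centralizer (P : Set G)))}

theorem wit_iff (i : Idx G M) (g : G) : Wit p M P e i.1 (eI i) g ↔ W2 p M P e i g := by
  constructor
  · rintro ⟨b, hb, h⟩
    have : b = i.2 := eB_inj _ hb.symm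
    subst this
    exact h
  · intro h
    exact ⟨i.2, rfl, h⟩

theorem W2_act (t : G) (i : Idx G M) (g : G) :
    W2 p M P e (act t i) (g * t⁻¹) ↔ W2 p M P e i g := by
  unfold W2 act
  simp only
  rw [pair_eq_cp, ← cp_mul]
  have : g * t⁻¹ * t = g := by group
  rw [this]

end Idx

section Counting

open Classical in
/-- **Counting over orbits**. -/
theorem sum_eq_card_mul_sum_fixed {Γ I : Type*} [Group Γ] [Fintype Γ] [Fintype I] (act : Γ → I → I)
    (hact1 : ∀ i, act 1 i = i) (hactm : ∀ s t i, act (s * t) i = act s (act t i))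
    (W : I → Γ → Prop) (hW : ∀ t i g, W (act t i) (g * t⁻¹) ↔ W i g) (F : I → ℂ)
    (hFinv : ∀ t i, F (act t i) = F i) (hFsupp : ∀ i, F i ≠ 0 → ∃ g, W i g) :
    ∑ i, F i = (Fintype.card Γ : ℂ) * ∑ i ∈ Finset.univ.filter (fun i => W i 1),
      F i / ((Finset.univ.filter (fun g => W i g)).card : ℂ) := by
  set N : I → ℕ := fun i => (Finset.univ.filter (fun g => W i g)).card with hN
  have hNact : ∀ t i, N (act t i) = N i := by
    intro t i
    simp only [hN]
    apply Finset.card_bij (fun g _ => g * t)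
    · intro g hg
      simp only [Finset.mem_filter, Finset.mem_univ, true_and] at hg ⊢
      have h1 := (hW t i (g * t)).1
      rw [mul_inv_cancel_right] at h1
      exact h1 hg
    · intro a _ b _ h
      exact mul_right_cancel h
    · intro b hb
      simp only [Finset.mem_filter, Finset.mem_univ, true_and] at hb
      refine ⟨b * t⁻¹, ?_, by group⟩
      simp only [Finset.mem_filter, Finset.mem_univ, true_and]
      exact (hW t i b).2 hb
  have step1 : ∀ i, F i = ∑ g, if W i g then F i / (N i : ℂ) else 0 := by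
    intro i
    rw [← Finset.sum_filter, Finset.sum_const, nsmul_eq_mul]
    by_cases h0 : F i = 0
    · simp [h0]
    · obtain ⟨g, hg⟩ := hFsupp i h0
      have hNi : (N i : ℂ) ≠ 0 := by
        have : 0 < N i := Finset.card_pos.2 ⟨g, by simpa using hg⟩
        exact_mod_cast this.ne'
      show F i = (N i : ℂ) * (F i / (N i : ℂ))
      field_simp
  -- the bijection
  let actE : Γ → I ≃ I := fun t =>
    { toFun := act t
      invFun := act t⁻¹
      left_inv := fun i => by rw [← hactm, inv_mul_cancel, hact1]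
      right_inv := fun i => by rw [← hactm, mul_inv_cancel, hact1] }
  have step3 : ∀ g : Γ, (∑ i, if W i g then F i / (N i : ℂ) else 0) =
      ∑ i ∈ Finset.univ.filter (fun i => W i 1), F i / (N i : ℂ) := by
    intro g
    rw [Finset.sum_filter]
    refine Fintype.sum_equiv (actE g) _ _ fun i => ?_
    show _ = if W (act g i) 1 then F (act g i) / (N (act g i) : ℂ) else 0
    have h1 : W (act g i) 1 ↔ W i g := by
      have := hW g i g
      rwa [mul_inv_cancel] at this
    rw [hFinv, hNact]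
    simp only [h1]
  rw [Finset.sum_congr rfl fun i _ => step1 i, Finset.sum_comm, Finset.sum_congr rfl fun g _ => step3 g,
    Finset.sum_const, nsmul_eq_mul, Finset.card_univ]

end Counting

end Cfsg.Agent.Lib.StarGlob
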