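import Mathlib
import Cfsg.Agent.Lib.StarGlob
import Cfsg.Agent.Lib.BlockQ

/-!
# The Broué–Puig construction: scalar products
-/

set_option autoImplicit false
set_option linter.unusedSectionVars false
set_option linter.unusedVariables false
set_option linter.style.haveILetI false

namespace Cfsg.Agent.Lib.StarInner

open Polynomial IsLocalRing Cfsg Cfsg.Agent.Lib.StarFit Cfsg.Agent.Lib.StarGrp
open Cfsg.Agent.Lib.StarLoc Cfsg.Agent.Lib.BlockLocal Cfsg.Agent.Lib.BlockCover
open Cfsg.Agent.Lib.BlockResidue Cfsg.Agent.Lib.BrauerMap Cfsg.Agent.Lib.BrauerPair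
open Cfsg.Agent.Lib.BrauerSub Cfsg.Agent.Lib.BlockIdem Cfsg.Agent.Lib.CharIntegrality
open Cfsg.Agent.Lib.BlkBasic Cfsg.Agent.Lib.StarBlk Cfsg.Agent.Lib.StarP Cfsg.Agent.Lib.StarTh
open Cfsg.Agent.Lib.StarFit.LocSys Cfsg.Agent.Lib.GenChar Cfsg.Agent.Lib.CharBasic
open Cfsg.Agent.Lib.CharInd Cfsg.Agent.Lib.StarGen Cfsg.Agent.Lib.BrauerConj
open Cfsg.Agent.Lib.BrauerCen Cfsg.Agent.Lib.BrauerMax Cfsg.Agent.Lib.StarII
open Cfsg.Agent.Lib.StarGlob Cfsg.Agent.Lib.BlockOrtho
open scoped ComplexConjugate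

universe u

variable {G : Type u} [Group G] [Fintype G] {p : ℕ} [hp : Fact p.Prime] {M : Ideal AlgInt}
  [hMp : M.IsPrime]

local notation "𝐂[" R "]" => Subgroup.centralizer ((R : Subgroup G) : Set G)
local notation "𝐍[" R "]" => Subgroup.normalizer ((R : Subgroup G) : Set G)
local notation Q "^^" x => Subgroup.map (MulEquiv.toMonoidHom (MulAut.conj (x : G))) (Q : Subgroup G)

noncomputable local instance fintypeSubInner {A : Type*} [Group A] [Finite A] (K : Subgroup A) : Fintype K :=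
  Fintype.ofFinite K

section Proj

variable {X : Type u} [Group X] [Fintype X]

theorem indB_eq_ind (b : Set (IrrCharacter X)) (ξ : IrrCharacter X) : ind b ξ = indB b ξ := rfl

/-- Multiplication by a block idempotent is the projection to the block. -/
theorem sum_blockCoeff_mul (b : Set (IrrCharacter X)) {ψ : X → ℂ} (hψ : IsClassFunction X ψ) (s : X) :
    ∑ k : X, blockCoeff b k * ψ (s * k) = blockProj b ψ s := by
  classical
  have h1 : ∀ z : X, ψ z = ∑ ξ : IrrCharacter X, classInner ψ (ξ : X → ℂ) * (ξ : X → ℂ) z := by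
    intro z
    have := congrFun (classFunction_eq_sum hψ) z
    rw [this]
    simp [Finset.sum_apply]
  unfold blockProj
  simp_rw [h1]
  simp_rw [Finset.mul_sum]
  rw [Finset.sum_comm]
  refine Finset.sum_congr rfl fun ξ _ => ?_
  have h2 := Cfsg.Agent.Lib.BlockSecond.sum_class_mul_irr
    (Cfsg.Agent.Lib.BlockNormal.blockCoeff_isClassFunction b) ξ s
  rw [BrauerPair.omega_blockCoeff, indB_eq_ind] at h2
  calc ∑ k : X, blockCoeff b k * (classInner ψ (ξ : X → ℂ) * (ξ : X → ℂ) (s * k))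
      = classInner ψ (ξ : X → ℂ) * ∑ k : X, blockCoeff b k * (ξ : X → ℂ) (s * k) := by
        rw [Finset.mul_sum]
        refine Finset.sum_congr rfl fun k _ => ?_
        ring
    _ = indB b ξ * (classInner ψ (ξ : X → ℂ) * (ξ : X → ℂ) s) := by
        rw [h2]
        ring

/-- **Orthogonality of the block components on `p`-regular elements.** -/
theorem classInner_reg_blockProj (hM : IsPModular p M) {b b' : Set (IrrCharacter X)} (hb : IsPBlock M b)
    (hb' : IsPBlock M b') (hne : b ≠ b') (ψ ψ' : X → ℂ) :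
    classInner (pRegularPart p (blockProj b ψ)) (blockProj b' ψ') = 0 := by
  classical
  have h1 := blockProj_pRegularPart hM hb (blockProj_idem b ψ)
  set φ := pRegularPart p (blockProj b ψ) with hφ
  have h2 : blockProj b' ψ' = ∑ ξ : IrrCharacter X, (indB b' ξ * classInner ψ' (ξ : X → ℂ)) • (ξ : X → ℂ) := by
    funext g
    simp only [blockProj, Finset.sum_apply, Pi.smul_apply, smul_eq_mul, mul_assoc]
  rw [h2, classInner_sum_right]
  refine Finset.sum_eq_zero fun ξ _ => ?_
  rw [classInner_smul_right, ← h1, classInner_blockProj]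
  by_cases h3 : ξ ∈ b'
  · have h4 : ξ ∉ b := by
      intro h5
      rcases eq_or_disjoint_of_isPBlock hb hb' with h6 | h6
      · exact hne h6
      · exact Set.disjoint_left.1 h6 h5 h3
    rw [indB_of_not_mem h4]
    simp
  · rw [indB_of_not_mem h3]
    simp

end Proj

section Orth

open Classical in
/-- The fibre of the `p`-part as a sum over the regular elements of the centralizer. -/
theorem sum_filter_pp {u : G} (hu : ∃ k : ℕ, orderOf u = p ^ k) (F : G → ℂ) :
    ∑ v ∈ Finset.univ.filter (fun v => pp p v = u), F v =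
      ∑ s : 𝐂[Subgroup.zpowers u], pRegularPart p (fun s : 𝐂[Subgroup.zpowers u] => F (u * s)) s := by
  have h1 : ∀ s : 𝐂[Subgroup.zpowers u], pRegularPart p (fun s : 𝐂[Subgroup.zpowers u] => F (u * s)) s =
      if ¬ p ∣ orderOf s then F (u * s) else 0 := by
    intro s
    by_cases hs : p ∣ orderOf s
    · rw [pRegularPart_of_sing _ hs, if_neg (not_not.2 hs)]
    · rw [pRegularPart_of_reg _ hs, if_pos hs]
  simp_rw [h1]
  rw [← Finset.sum_filter]
  symm
  have hcomm : ∀ s : 𝐂[Subgroup.zpowers u], Commute u (s : G) := by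
    intro s
    have := (Subgroup.mem_centralizer_iff.1 s.2) u (Subgroup.mem_zpowers u)
    exact this
  apply Finset.sum_bij (fun (s : 𝐂[Subgroup.zpowers u]) _ => u * (s : G))
  · intro s hs
    simp only [Finset.mem_filter, Finset.mem_univ, true_and] at hs ⊢
    apply pp_eq
    refine Cfsg.Agent.Lib.BlkOrth.pPart_of_mul (hcomm s) hu ?_
    rwa [Subgroup.orderOf_coe]
  · intro a _ b _ h
    exact Subtype.ext (mul_left_cancel h)
  · intro v hv
    simp only [Finset.mem_filter, Finset.mem_univ, true_and] at hv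
    obtain ⟨y, hy, hc, -, hyp⟩ := pp_spec (p := p) v
    rw [hv] at hy hc
    have hyC : y ∈ 𝐂[Subgroup.zpowers u] := by
      rw [Cfsg.Agent.Lib.BlockSecond.centralizer_zpowers_eq, Subgroup.mem_centralizer_singleton_iff]
      exact hc.eq.symm
    refine ⟨⟨y, hyC⟩, ?_, hy⟩
    simp only [Finset.mem_filter, Finset.mem_univ, true_and]
    rwa [Subgroup.orderOf_mk]
  · intro s hs
    rfl

/-- The sum over `G` of the extension by zero. -/
theorem sum_ext0_mul (K : Subgroup G) (f : K → ℂ) (g : G → ℂ) :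
    ∑ k : G, ext0 K f k * g k = ∑ k : K, f k * g k := by
  classical
  have h1 : ∀ k : G, ext0 K f k * g k = if k ∈ K then ext0 K f k * g k else 0 := by
    intro k
    by_cases hk : k ∈ K
    · rw [if_pos hk]
    · rw [if_neg hk, ext0_of_not_mem K f hk, zero_mul]
  rw [Finset.sum_congr rfl fun k _ => h1 k, ← Finset.sum_filter]
  symm
  apply Finset.sum_bij (fun (k : K) _ => (k : G))
  · intro k _
    simp
  · intro a _ b _ h
    exact Subtype.ext h
  · intro k hk
    simp only [Finset.mem_filter, Finset.mem_univ, true_and] at hk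
    exact ⟨⟨k, hk⟩, Finset.mem_univ _, rfl⟩
  · intro k _
    rw [ext0_coe]

/-- The shifted class function on the centralizer. -/
def shiftF (u : G) (χ : G → ℂ) (s : 𝐂[Subgroup.zpowers u]) : ℂ := χ (u * s)

theorem shiftF_isClass (u : G) {χ : G → ℂ} (hχ : IsClassFunction G χ) :
    IsClassFunction 𝐂[Subgroup.zpowers u] (shiftF u χ) := by
  intro s t
  unfold shiftF
  have hc : Commute u (t : G) := by
    have := (Subgroup.mem_centralizer_iff.1 t.2) u (Subgroup.mem_zpowers u)
    exact this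
  have h1 : u * ((t * s * t⁻¹ : 𝐂[Subgroup.zpowers u]) : G) = (t : G) * (u * s) * (t : G)⁻¹ := by
    push_cast
    calc u * ((t : G) * s * (t : G)⁻¹) = (u * t) * s * (t : G)⁻¹ := by group
      _ = (t * u) * s * (t : G)⁻¹ := by rw [hc.eq]
      _ = _ := by group
  rw [h1, hχ]

/-- The value at a block idempotent is the block projection. -/
theorem chiT_eB_eq (u : G) (χ : G → ℂ) (hχ : IsClassFunction G χ) (b : BlockT M 𝐂[Subgroup.zpowers u])
    (s : 𝐂[Subgroup.zpowers u]) :
    chiT χ (ofG (localSubring M) (u * s) * eB _ b) = blockProj b.1 (shiftF u χ) s := by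
  rw [chiT_ofG_mul, coeF_eB, subgroupBlockCoeff_eq_ext0, sum_ext0_mul,
    ← sum_blockCoeff_mul b.1 (shiftF_isClass u hχ)]
  refine Finset.sum_congr rfl fun k _ => ?_
  unfold shiftF
  congr 2
  simp [mul_assoc]

open Classical in
/-- **Orthogonality of the block components on a section.** -/
theorem sum_chiT_orth (hM : IsPModular p M) (u : G) {b b' : BlockT M 𝐂[Subgroup.zpowers u]} (hne : b ≠ b')
    {χ χ' : G → ℂ} (hχ : IsClassFunction G χ) (hχ' : IsClassFunction G χ') :
    ∑ v ∈ Finset.univ.filter (fun v => pp p v = u),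
      chiT χ (ofG (localSubring M) v * eB _ b) * conj (chiT χ' (ofG (localSubring M) v * eB _ b')) = 0 := by
  by_cases hex : ∃ v, pp p v = u
  · obtain ⟨v₀, hv₀⟩ := hex
    obtain ⟨y, -, -, hk, -⟩ := pp_spec (p := p) v₀
    rw [hv₀] at hk
    rw [sum_filter_pp hk]
    have h1 := classInner_reg_blockProj (p := p) hM b.2 b'.2 (fun h => hne (Subtype.ext h))
      (shiftF u χ) (shiftF u χ')
    unfold classInner at h1
    have hC : (Nat.card 𝐂[Subgroup.zpowers u] : ℂ) ≠ 0 := by
      exact_mod_cast Nat.card_pos.ne'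
    have h2 := (mul_eq_zero.1 h1).resolve_left (inv_ne_zero hC)
    rw [← h2]
    refine Finset.sum_congr rfl fun s _ => ?_
    by_cases hs : p ∣ orderOf s
    · rw [pRegularPart_of_sing _ hs, pRegularPart_of_sing _ hs, zero_mul]
    · rw [pRegularPart_of_reg _ hs, pRegularPart_of_reg _ hs, chiT_eB_eq u χ hχ, chiT_eB_eq u χ' hχ']
  · rw [Finset.filter_false_of_mem]
    · simp
    · intro v _ h
      exact hex ⟨v, h⟩

end Orth

section Inner

variable (p) in
open Classical in
/-- The sum over the section of a pair. -/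
noncomputable def Wsum (χ χ' : G → ℂ) (i : Idx G M) : ℂ :=
  ∑ v ∈ Finset.univ.filter (fun v => pp p v = i.1),
    chiT χ (ofG (localSubring M) v * eI i) * conj (chiT χ' (ofG (localSubring M) v * eI i))

theorem TT_of_pp (Λ : G → MonoidAlgebra (localSubring M) G → ℂ) (χ : G → ℂ) {v u : G} (h : pp p v = u) :
    TT p M Λ χ v = ∑ b : BlockT M 𝐂[Subgroup.zpowers u], Λ u (eB _ b) *
      chiT χ (ofG (localSubring M) v * eB _ b) := by
  subst h
  rfl

/-- **The scalar product in terms of pairs.** -/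
theorem sum_TT_mul_conj (hM : IsPModular p M) {χ χ' : G → ℂ} (hχ : IsClassFunction G χ)
    (hχ' : IsClassFunction G χ') (Λ Λ' : G → MonoidAlgebra (localSubring M) G → ℂ) :
    ∑ v, TT p M Λ χ v * conj (TT p M Λ' χ' v) =
      ∑ i : Idx G M, Λ i.1 (eI i) * conj (Λ' i.1 (eI i)) * Wsum p χ χ' i := by
  classical
  rw [← Finset.sum_fiberwise (s := Finset.univ) (g := pp p), Fintype.sum_sigma]
  refine Finset.sum_congr rfl fun u _ => ?_
  have h1 : ∀ v ∈ Finset.univ.filter (fun v => pp p v = u), TT p M Λ χ v * conj (TT p M Λ' χ' v) =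
      ∑ b : BlockT M 𝐂[Subgroup.zpowers u], ∑ b' : BlockT M 𝐂[Subgroup.zpowers u],
        (Λ u (eB _ b) * conj (Λ' u (eB _ b'))) * (chiT χ (ofG (localSubring M) v * eB _ b) *
          conj (chiT χ' (ofG (localSubring M) v * eB _ b'))) := by
    intro v hv
    have hv' : pp p v = u := by simpa using hv
    rw [TT_of_pp _ _ hv', TT_of_pp _ _ hv', map_sum, Finset.sum_mul_sum]
    refine Finset.sum_congr rfl fun b _ => Finset.sum_congr rfl fun b' _ => ?_
    rw [map_mul (starRingEnd ℂ)]
    ring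
  rw [Finset.sum_congr rfl h1, Finset.sum_comm]
  refine Finset.sum_congr rfl fun b _ => ?_
  rw [Finset.sum_comm, Finset.sum_eq_single b]
  · rw [← Finset.mul_sum]
    rfl
  · intro b' _ hb'
    rw [← Finset.mul_sum, sum_chiT_orth hM u hb'.symm hχ hχ', mul_zero]
  · intro h
    exact absurd (Finset.mem_univ _) h

theorem Wsum_act {χ χ' : G → ℂ} (hχ : IsClassFunction G χ) (hχ' : IsClassFunction G χ') (t : G)
    (i : Idx G M) : Wsum p χ χ' (act t i) = Wsum p χ χ' i := by
  classical
  unfold Wsum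
  symm
  refine Finset.sum_equiv (MulAut.conj t).toEquiv ?_ ?_
  · intro v
    rw [Finset.mem_filter, Finset.mem_filter]
    show (_ ∧ pp p v = i.1) ↔ (_ ∧ pp p (t * v * t⁻¹) = t * i.1 * t⁻¹)
    rw [pp_conj]
    simp only [Finset.mem_univ, true_and]
    constructor
    · intro h
      rw [h]
    · intro h
      have : t * pp p v * t⁻¹ = t * i.1 * t⁻¹ := h
      simpa using this
  · intro v _
    simp only [MulEquiv.toEquiv_eq_coe, MulEquiv.coe_toEquiv, MulAut.conj_apply]
    rw [eI_act, ← cj_ofG, ← cj_mul', chiT_cj hχ, chiT_cj hχ']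

variable {P : Subgroup G} {e : Set (IrrCharacter (Subgroup.centralizer (P : Set G)))}

theorem zp_le_of_mem (w : P) : Subgroup.zpowers (w : G) ≤ P := by
  rw [Subgroup.zpowers_le]
  exact w.2

/-- The block attached to an element of `P`. -/
noncomputable def bw (hM : IsPModular p M) (he : IsBrauerPair p M P e) (w : P) :
    BlockT M 𝐂[Subgroup.zpowers (w : G)] :=
  ⟨(exists_subpairLE hM he (zp_le_of_mem w)).choose, (exists_subpairLE hM he (zp_le_of_mem w)).choose_spec.1⟩

theorem bw_spec (hM : IsPModular p M) (he : IsBrauerPair p M P e) (w : P) :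
    SubpairLE p M (Subgroup.zpowers (w : G)) (bw hM he w).1 P e :=
  (exists_subpairLE hM he (zp_le_of_mem w)).choose_spec.2

/-- The pair attached to an element of `P`. -/
noncomputable def idxP (hM : IsPModular p M) (he : IsBrauerPair p M P e) (w : P) : Idx G M :=
  ⟨w, bw hM he w⟩

theorem W2_one_iff (i : Idx G M) :
    W2 p M P e i 1 ↔ SubpairLE p M (Subgroup.zpowers i.1) i.2.1 P e := by
  unfold W2
  rw [cp_one]
  rfl

theorem W2_idxP (hM : IsPModular p M) (he : IsBrauerPair p M P e) (w : P) :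
    W2 p M P e (idxP hM he w) 1 :=
  (W2_one_iff _).2 (bw_spec hM he w)

theorem exists_idxP_eq (hM : IsPModular p M) (he : IsBrauerPair p M P e) {i : Idx G M}
    (h : W2 p M P e i 1) : ∃ w : P, idxP hM he w = i := by
  rw [W2_one_iff] at h
  have h1 : i.1 ∈ P := Subgroup.zpowers_le.1 (le_of_subpairLE h)
  refine ⟨⟨i.1, h1⟩, ?_⟩
  obtain ⟨u, b⟩ := i
  have h2 := eq_of_two_subpairLE hM he (bw_spec hM he ⟨u, h1⟩) h
  have h3 : bw hM he ⟨u, h1⟩ = b := (Subtype.ext h2).symm
  show (⟨u, bw hM he ⟨u, h1⟩⟩ : Idx G M) = ⟨u, b⟩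
  rw [h3]

variable (p M) in
open Classical in
/-- The number of elements conjugating a pair below `(P, e)`. -/
noncomputable def NN (P : Subgroup G) (e : Set (IrrCharacter 𝐂[P])) (i : Idx G M) : ℕ :=
  (Finset.univ.filter (fun g => W2 p M P e i g)).card

theorem NN_pos_of {i : Idx G M} {g : G} (h : W2 p M P e i g) : 0 < NN p M P e i := by
  classical
  exact Finset.card_pos.2 ⟨g, by simpa using h⟩

/-- The coefficient of the scalar product at an element of `P`. -/
noncomputable def cc (hM : IsPModular p M) (he : IsBrauerPair p M P e) (χ χ' : G → ℂ) (w : P) : ℂ :=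
  Wsum p χ χ' (idxP hM he w) / (NN p M P e (idxP hM he w) : ℂ)

/-- **The scalar product formula.** -/
theorem inner_TT_LamH (hM : IsPModular p M) (he : IsBrauerPair p M P e) {χ χ' : G → ℂ}
    (hχ : IsClassFunction G χ) (hχ' : IsClassFunction G χ') {lam lam' : G → ℂ}
    (hst : ∀ u (x : MonoidAlgebra (localSubring M) G) g g', Wit p M P e u x g →
      Wit p M P e u x g' → lam (g * u * g⁻¹) = lam (g' * u * g'⁻¹))
    (hst' : ∀ u (x : MonoidAlgebra (localSubring M) G) g g', Wit p M P e u x g →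
      Wit p M P e u x g' → lam' (g * u * g⁻¹) = lam' (g' * u * g'⁻¹)) :
    classInner (TT p M (LamH p M P e lam) χ) (TT p M (LamH p M P e lam') χ') =
      ∑ w : P, lam w * conj (lam' w) * cc hM he χ χ' w := by
  classical
  unfold classInner
  rw [sum_TT_mul_conj hM hχ hχ']
  set F : Idx G M → ℂ := fun i => LamH p M P e lam i.1 (eI i) * conj (LamH p M P e lam' i.1 (eI i)) *
    Wsum p χ χ' i with hF
  have hFinv : ∀ t i, F (act t i) = F i := by
    intro t i
    simp only [hF]
    rw [eI_act, act_fst, lamH_conj hst, lamH_conj hst', Wsum_act hχ hχ']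
  have hFsupp : ∀ i, F i ≠ 0 → ∃ g, W2 p M P e i g := by
    intro i hi
    by_contra hne
    apply hi
    simp only [hF]
    rw [lamH_of_not (fun h => hne (by
      obtain ⟨g, hg⟩ := h
      exact ⟨g, (wit_iff i g).1 hg⟩)), zero_mul, zero_mul]
  have hcount := sum_eq_card_mul_sum_fixed (Γ := G) act act_one act_mul (W2 p M P e) W2_act F hFinv hFsupp
  rw [hcount, Nat.card_eq_fintype_card, ← mul_assoc, inv_mul_cancel₀ (by
    exact_mod_cast Fintype.card_pos.ne'), one_mul]
  symm
  apply Finset.sum_bij (fun (w : P) _ => idxP hM he w)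
  · intro w _
    simp only [Finset.mem_filter, Finset.mem_univ, true_and]
    exact W2_idxP hM he w
  · intro a _ b _ h
    exact Subtype.ext (congrArg Sigma.fst h)
  · intro i hi
    simp only [Finset.mem_filter, Finset.mem_univ, true_and] at hi
    obtain ⟨w, hw⟩ := exists_idxP_eq hM he hi
    exact ⟨w, Finset.mem_univ _, hw⟩
  · intro w _
    simp only [hF]
    have hW : Wit p M P e (idxP hM he w).1 (eI (idxP hM he w)) 1 := (wit_iff _ _).2 (W2_idxP hM he w)
    rw [lamH_eq hst hW, lamH_eq hst' hW]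
    have h1 : (1 : G) * (idxP hM he w).1 * (1 : G)⁻¹ = w := by
      show (1 : G) * (w : G) * (1 : G)⁻¹ = w
      group
    rw [h1]
    unfold cc NN
    rw [mul_div_assoc]

end Inner

section Sec

variable {B : Set (IrrCharacter G)} {P : Subgroup G}
  {e : Set (IrrCharacter (Subgroup.centralizer (P : Set G)))}

theorem chiT_ofG (χ : G → ℂ) (v : G) : chiT χ (ofG (localSubring M) v) = χ v := by
  classical
  rw [chiT_apply, Finset.sum_eq_single v]
  · simp [coeF_apply, ofG]
  · intro b _ hb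
    simp [coeF_apply, ofG, MonoidAlgebra.coeff_single, Ne.symm hb]
  · simp

theorem zp_le_C (u : G) : Subgroup.zpowers u ≤ 𝐂[Subgroup.zpowers u] := by
  intro x hx
  rw [Subgroup.mem_centralizer_iff]
  intro y hy
  obtain ⟨a, rfl⟩ := Subgroup.mem_zpowers_iff.1 hx
  obtain ⟨c, rfl⟩ := Subgroup.mem_zpowers_iff.1 hy
  exact ((Commute.refl u).zpow_zpow c a).eq

theorem eI_mem_cen (i : Idx G M) : eI i ∈ cen (localSubring M) (𝐂[Subgroup.zpowers i.1] : Set G) :=
  eB_mem_cen _ i.2

theorem eI_mem_cen_zp (i : Idx G M) : eI i ∈ cen (localSubring M) (Subgroup.zpowers i.1 : Set G) :=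
  cen_anti (zp_le_C i.1) (eI_mem_cen i)

theorem mem_C_of_pp {v u : G} (hv : pp p v = u) : v ∈ 𝐂[Subgroup.zpowers u] := by
  rw [Cfsg.Agent.Lib.BlockSecond.centralizer_zpowers_eq, Subgroup.mem_centralizer_singleton_iff]
  subst hv
  exact (Cfsg.Agent.Lib.BlkOrth.pPart_commute hp.out (pp_spec (p := p) v)).eq

/-- A pair with nonzero image of the block idempotent of `B` is a pair of `B`. -/
theorem pair_of_br_ne (hM : IsPModular p M) (hB : IsPBlock M B) {Q : Subgroup G} (hQ : IsPGroup p Q)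
    (c : BlockT M 𝐂[Q]) (hne : br Q (eG B hB) * bb Q c ≠ 0) : IsBrauerPairOf p M B Q c.1 := by
  refine ⟨⟨hQ, c.2⟩, hB, fun ξ hξ => ?_⟩
  rw [brauerOmega_eq]
  exact occ_of_br_ne hM hQ (eG_idem B hB) (eG_mem_cen B hB _) (eG_mem_cen B hB _) c hne ξ hξ

/-- The component at a pair not belonging to the block vanishes. -/
theorem chiT_eq_zero_of_not_pair (hM : IsPModular p M) (hB : IsPBlock M B) {χ : IrrCharacter G} (hχ : χ ∈ B)
    (i : Idx G M) (hi : ¬ IsBrauerPairOf p M B (Subgroup.zpowers i.1) i.2.1) {v : G} (hv : pp p v = i.1) :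
    chiT (χ : G → ℂ) (ofG (localSubring M) v * eI i) = 0 := by
  have hχc : IsClassFunction G (χ : G → ℂ) := isClassFunction_of_isCharacter (IsIrrCharacter.isCharacter χ.2)
  have hpp : IsPPart p v i.1 := by
    rw [← hv]
    exact pp_spec v
  have hQ := isPGroup_zp hpp
  rw [← chiT_mul_eG hB hχ, mul_assoc]
  apply chiT_eq_zero hM ?_ hpp ?_ ?_ hχc
  · calc (eI i * eG B hB) * (eI i * eG B hB) = eI i * (eG B hB * eI i) * eG B hB := by simp only [mul_assoc]
      _ = eI i * (eI i * eG B hB) * eG B hB := by rw [eG_comm]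
      _ = (eI i * eI i) * (eG B hB * eG B hB) := by simp only [mul_assoc]
      _ = eI i * eG B hB := by rw [show eI i * eI i = eI i from eB_idem _ _, eG_idem]
  · rw [mem_SV_iff, ← mul_assoc, (mem_cen.1 (eI_mem_cen i)) v (mem_C_of_pp hv), mul_assoc,
      ← eG_comm, mul_assoc]
  · rw [br_mul (hpm_of hM) hQ (eI_mem_cen_zp i) (eG_mem_cen B hB _)]
    by_contra hne
    apply hi
    apply pair_of_br_ne hM hB hQ i.2
    intro h0
    apply hne
    show bb _ i.2 * _ = 0
    rw [← (bb_commute _ _ i.2).eq]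
    exact h0

/-- A pair conjugated below a pair of `B` is a pair of `B`. -/
theorem pair_of_W2 (hM : IsPModular p M) (hmax : IsBrauerPairOf p M B P e) {i : Idx G M} {g : G}
    (h : W2 p M P e i g) : IsBrauerPairOf p M B (Subgroup.zpowers i.1) i.2.1 := by
  have h1 : IsBrauerPairOf p M B ((Subgroup.zpowers i.1) ^^ g) (conjBlock (Subgroup.zpowers i.1) g i.2.1) :=
    (isBrauerPairOf_iff_of_le hM hmax.2.1 h).2 hmax
  have h2 := isBrauerPairOf_conj hM h1 g⁻¹
  have h3 : cp g⁻¹ (cp g ⟨Subgroup.zpowers i.1, i.2.1⟩) = ⟨Subgroup.zpowers i.1, i.2.1⟩ := cp_inv_cp g _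
  have key : ∀ a : BrauerPairIdx G, a = ⟨Subgroup.zpowers i.1, i.2.1⟩ → IsBrauerPairOf p M B a.1 a.2 →
      IsBrauerPairOf p M B (Subgroup.zpowers i.1) i.2.1 := by
    rintro a rfl h
    exact h
  exact key _ h3 h2

theorem exists_W2_of_pair (hM : IsPModular p M) (hmax : IsMaximalBrauerPair p M B P e) {i : Idx G M}
    (h : IsBrauerPairOf p M B (Subgroup.zpowers i.1) i.2.1) : ∃ g, W2 p M P e i g :=
  exists_conj_subpairLE hM hmax h

/-- The component at a pair not conjugate below `(P, e)` vanishes. -/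
theorem chiT_eq_zero_of_not_W2 (hM : IsPModular p M) (hmax : IsMaximalBrauerPair p M B P e)
    {χ : IrrCharacter G} (hχ : χ ∈ B) (i : Idx G M) (hi : ¬ ∃ g, W2 p M P e i g) {v : G} (hv : pp p v = i.1) :
    chiT (χ : G → ℂ) (ofG (localSubring M) v * eI i) = 0 :=
  chiT_eq_zero_of_not_pair hM hmax.1.2.1 hχ i (fun h => hi (exists_W2_of_pair hM hmax h)) hv

/-- The component at a pair below `(P, e)` of a character outside the block vanishes. -/
theorem chiT_eq_zero_of_W2 (hM : IsPModular p M) (hmax : IsBrauerPairOf p M B P e)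
    {ξ : IrrCharacter G} (hξ : ξ ∉ B) {i : Idx G M} {g : G} (hi : W2 p M P e i g) {v : G}
    (hv : pp p v = i.1) : chiT (ξ : G → ℂ) (ofG (localSubring M) v * eI i) = 0 := by
  refine chiT_eq_zero_of_not_pair hM (B := blockOf M (ξ : G → ℂ)) ⟨ξ, rfl⟩ (mem_blockOf_self ξ) i ?_ hv
  intro h
  have h1 := pair_of_W2 hM hmax hi
  have h2 := (existsUnique_isBrauerPairOf hM h.1).unique h1 h
  apply hξ
  rw [h2]
  exact mem_blockOf_self ξ

/-- The sum of the components is the character. -/
theorem sum_chiT_eB (χ : G → ℂ) (u v : G) :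
    ∑ b : BlockT M 𝐂[Subgroup.zpowers u], chiT χ (ofG (localSubring M) v * eB _ b) = χ v := by
  rw [← map_sum, ← Finset.mul_sum, sum_eB, mul_one, chiT_ofG]

/-- The constant case. -/
theorem TT_LamH_of_const (hM : IsPModular p M) (hmax : IsMaximalBrauerPair p M B P e)
    {lam : G → ℂ} (hst : ∀ u (x : MonoidAlgebra (localSubring M) G) g g', Wit p M P e u x g →
      Wit p M P e u x g' → lam (g * u * g⁻¹) = lam (g' * u * g'⁻¹)) {χ : IrrCharacter G} (hχ : χ ∈ B) {v : G}
    {c : ℂ} (hc : ∀ i : Idx G M, i.1 = pp p v → ∀ g, W2 p M P e i g → lam (g * i.1 * g⁻¹) = c) :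
    TT p M (LamH p M P e lam) (χ : G → ℂ) v = c * (χ : G → ℂ) v := by
  classical
  unfold TT
  rw [← sum_chiT_eB (M := M) (χ : G → ℂ) (pp p v) v, Finset.mul_sum]
  refine Finset.sum_congr rfl fun b _ => ?_
  by_cases hex : ∃ g, W2 p M P e (⟨pp p v, b⟩ : Idx G M) g
  · obtain ⟨g, hg⟩ := hex
    have hW := (wit_iff (⟨pp p v, b⟩ : Idx G M) g).2 hg
    rw [show eB _ b = eI (⟨pp p v, b⟩ : Idx G M) from rfl]
    rw [lamH_eq hst hW, hc ⟨pp p v, b⟩ rfl g hg]
  · rw [show eB _ b = eI (⟨pp p v, b⟩ : Idx G M) from rfl]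
    rw [chiT_eq_zero_of_not_W2 hM hmax hχ ⟨pp p v, b⟩ hex rfl]
    simp

/-- `χ * 1 = χ`. -/
theorem TT_LamH_one (hM : IsPModular p M) (hmax : IsMaximalBrauerPair p M B P e)
    {lam : G → ℂ} (hst : ∀ u (x : MonoidAlgebra (localSubring M) G) g g', Wit p M P e u x g →
      Wit p M P e u x g' → lam (g * u * g⁻¹) = lam (g' * u * g'⁻¹)) (hlam : ∀ w ∈ P, lam w = 1)
    {χ : IrrCharacter G} (hχ : χ ∈ B) : TT p M (LamH p M P e lam) (χ : G → ℂ) = χ := by
  funext v
  rw [TT_LamH_of_const hM hmax hst hχ (c := 1), one_mul]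
  intro i _ g hg
  apply hlam
  have h1 := le_of_subpairLE (show SubpairLE p M _ _ P e from hg)
  apply h1
  exact ⟨i.1, Subgroup.mem_zpowers _, rfl⟩

theorem pp_eq_one_iff {v : G} : pp p v = 1 ↔ ¬ p ∣ orderOf v :=
  (Cfsg.Agent.Lib.BlkOrth.pPart_regular_iff hp.out (pp_spec v)).symm

/-- The values at `p`-regular elements. -/
theorem TT_LamH_reg (hM : IsPModular p M) (hmax : IsMaximalBrauerPair p M B P e)
    {lam : G → ℂ} (hst : ∀ u (x : MonoidAlgebra (localSubring M) G) g g', Wit p M P e u x g →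
      Wit p M P e u x g' → lam (g * u * g⁻¹) = lam (g' * u * g'⁻¹))
    {χ : IrrCharacter G} (hχ : χ ∈ B) {v : G} (hv : ¬ p ∣ orderOf v) :
    TT p M (LamH p M P e lam) (χ : G → ℂ) v = lam 1 * (χ : G → ℂ) v := by
  apply TT_LamH_of_const hM hmax hst hχ
  intro i hi g _
  rw [hi, pp_eq_one_iff.2 hv]
  congr 1
  group

/-- The constant function as an instance of `TT`. -/
theorem TT_const_one (χ : G → ℂ) : TT p M (fun _ _ => 1) χ = χ := by
  funext v
  unfold TT
  simp only [one_mul]
  exact sum_chiT_eB χ _ v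

/-- The function attached to a character of `B` has no component outside `B`. -/
theorem classInner_TT_of_not_mem (hM : IsPModular p M) (hmax : IsMaximalBrauerPair p M B P e)
    {lam : G → ℂ} {χ ξ : IrrCharacter G} (hξ : ξ ∉ B) :
    classInner (TT p M (LamH p M P e lam) (χ : G → ℂ)) (ξ : G → ℂ) = 0 := by
  classical
  have hχc : IsClassFunction G (χ : G → ℂ) := isClassFunction_of_isCharacter (IsIrrCharacter.isCharacter χ.2)
  have hξc : IsClassFunction G (ξ : G → ℂ) := isClassFunction_of_isCharacter (IsIrrCharacter.isCharacter ξ.2)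
  unfold classInner
  have h1 := sum_TT_mul_conj (p := p) hM hχc hξc (LamH p M P e lam) (fun _ _ => 1)
  rw [TT_const_one] at h1
  rw [h1, Finset.sum_eq_zero, mul_zero]
  intro i _
  by_cases hex : ∃ g, W2 p M P e i g
  · obtain ⟨g, hg⟩ := hex
    have : Wsum p (χ : G → ℂ) (ξ : G → ℂ) i = 0 := by
      unfold Wsum
      refine Finset.sum_eq_zero fun v hv => ?_
      have hv' : pp p v = i.1 := by simpa using hv
      rw [chiT_eq_zero_of_W2 hM hmax.1 hξ hg hv']
      simp
    rw [this, mul_zero]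
  · rw [lamH_of_not (fun h => hex (by
      obtain ⟨g, hg⟩ := h
      exact ⟨g, (wit_iff i g).1 hg⟩))]
    simp

end Sec

end Cfsg.Agent.Lib.StarInner
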