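import Mathlib
import Cfsg.Agent.Lib.CharGalois
import Cfsg.Agent.Lib.GenChar
import Cfsg.Agent.Lib.BlockOrth

/-!
# Positive generalized characters with mean one
-/

set_option autoImplicit false
set_option linter.unusedSectionVars false
set_option linter.unusedVariables false
set_option linter.style.haveILetI false

namespace Cfsg.Agent.Lib.StarNorm

open Cfsg Cfsg.Agent.Lib.CharGalois Cfsg.Agent.Lib.GenChar Cfsg.Agent.Lib.CharBasic
open Cfsg.Agent.Lib.BlockLocal

universe u

variable {X : Type u} [Group X] [Fintype X]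

/-- The Galois norm of a value of a generalized character. -/
theorem gen_exists_int_prod {θ : X → ℂ} (hθ : IsGeneralizedCharacter X θ) (x : X) :
    ∃ z : ℤ, (∏ u : (ZMod (2 * Nat.card X))ˣ, θ (x ^ (u : ZMod (2 * Nat.card X)).val)) = (z : ℂ) ∧
      (θ x ≠ 0 → z ≠ 0) := by
  classical
  haveI : NeZero (2 * Nat.card X) := ⟨by
    have := Nat.card_pos (α := X)
    omega⟩
  obtain ⟨a, b, ha, hb, rfl⟩ := hθ
  obtain ⟨m₁, μ, hμ1, hμ2⟩ := exists_roots ha x
  obtain ⟨m₂, ν, hν1, hν2⟩ := exists_roots hb x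
  let ρ : Fin m₁ ⊕ Fin m₂ → ℂ := Sum.elim μ (fun j => -ν j)
  have hρ : ∀ i, ρ i ^ (2 * Nat.card X) = 1 := by
    rintro (i | j)
    · show μ i ^ (2 * Nat.card X) = 1
      rw [mul_comm, pow_mul, hμ1, one_pow]
    · show (-ν j) ^ (2 * Nat.card X) = 1
      rw [pow_mul, neg_sq, ← pow_mul, mul_comm, pow_mul, hν1, one_pow]
  obtain ⟨z, hz, hz0⟩ := exists_int_prod (2 * Nat.card X) ρ hρ
  have hval : ∀ k : ℕ, Odd k → ∑ i, ρ i ^ k = (a - b) (x ^ k) := by
    intro k hk
    rw [Pi.sub_apply, hμ2, hν2, Fintype.sum_sum_type]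
    simp only [ρ, Sum.elim_inl, Sum.elim_inr]
    simp_rw [hk.neg_pow]
    rw [Finset.sum_neg_distrib, sub_eq_add_neg]
  have hunit : ∀ u : (ZMod (2 * Nat.card X))ˣ, Odd ((u : ZMod (2 * Nat.card X)).val) := by
    intro u
    have h1 := ZMod.val_coe_unit_coprime u
    have h2 : Nat.Coprime (u : ZMod (2 * Nat.card X)).val 2 := Nat.Coprime.coprime_mul_right_right h1
    exact Nat.Coprime.odd_of_right h2
  refine ⟨z, ?_, ?_⟩
  · rw [← hz]
    refine Finset.prod_congr rfl fun u _ => ?_
    rw [hval _ (hunit u)]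
  · intro hne
    apply hz0
    have := hval 1 odd_one
    simp only [pow_one] at this
    rwa [this]

/-- **A positive generalized character of mean one is trivial.** -/
theorem gen_positive_eq_one {θ : X → ℂ} (hθ : IsGeneralizedCharacter X θ) (r : X → ℝ)
    (hr : ∀ x, θ x = r x) (hpos : ∀ x, 0 < r x) (hsum : ∑ x, r x = Nat.card X) (x : X) : r x = 1 := by
  classical
  haveI hn : NeZero (2 * Nat.card X) := ⟨by
    have := Nat.card_pos (α := X)
    omega⟩
  set n := 2 * Nat.card X with hndef
  -- the logarithmic sum over a Galois orbit is nonnegative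
  have h1 : ∀ x : X, 0 ≤ ∑ u : (ZMod n)ˣ, Real.log (r (x ^ (u : ZMod n).val)) := by
    intro x
    obtain ⟨z, hz, hz0⟩ := gen_exists_int_prod hθ x
    have hx0 : θ x ≠ 0 := by
      rw [hr]
      exact_mod_cast (hpos x).ne'
    have hz1 := hz0 hx0
    have hprod : ((∏ u : (ZMod n)ˣ, r (x ^ (u : ZMod n).val) : ℝ) : ℂ) = (z : ℂ) := by
      rw [← hz]
      push_cast
      exact Finset.prod_congr rfl fun u _ => (hr _).symm
    have hprod' : (∏ u : (ZMod n)ˣ, r (x ^ (u : ZMod n).val) : ℝ) = (z : ℝ) := by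
      exact_mod_cast hprod
    have hzpos : (0 : ℝ) < z := by
      rw [← hprod']
      exact Finset.prod_pos fun u _ => hpos _
    have hz2 : (1 : ℝ) ≤ z := by
      have : (0 : ℤ) < z := by exact_mod_cast hzpos
      exact_mod_cast this
    rw [← Real.log_prod (fun u _ => (hpos _).ne'), hprod']
    exact Real.log_nonneg hz2
  -- permuting
  have h2 : ∀ u : (ZMod n)ˣ, ∑ x : X, Real.log (r (x ^ (u : ZMod n).val)) = ∑ x : X, Real.log (r x) := by
    intro u
    have hcop : Nat.Coprime (Nat.card X) (u : ZMod n).val := by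
      have h3 := ZMod.val_coe_unit_coprime u
      exact (Nat.Coprime.coprime_mul_left_right h3).symm
    exact Fintype.sum_equiv (powCoprime hcop) _ _ fun x => rfl
  have h3 : 0 ≤ ∑ x : X, Real.log (r x) := by
    have h4 : 0 ≤ ∑ x : X, ∑ u : (ZMod n)ˣ, Real.log (r (x ^ (u : ZMod n).val)) :=
      Finset.sum_nonneg fun x _ => h1 x
    rw [Finset.sum_comm, Finset.sum_congr rfl fun u _ => h2 u, Finset.sum_const, nsmul_eq_mul] at h4
    have h5 : (0 : ℝ) < ((Finset.univ : Finset (ZMod n)ˣ).card : ℝ) := by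
      exact_mod_cast Finset.card_pos.2 Finset.univ_nonempty
    exact nonneg_of_mul_nonneg_right h4 h5
  have h4 : ∑ x : X, (r x - 1 - Real.log (r x)) = 0 := by
    apply le_antisymm
    · rw [Finset.sum_sub_distrib, Finset.sum_sub_distrib, hsum]
      simp only [Finset.sum_const, nsmul_eq_mul, mul_one, Finset.card_univ, Nat.card_eq_fintype_card]
      linarith
    · refine Finset.sum_nonneg fun x _ => ?_
      have := Real.log_le_sub_one_of_pos (hpos x)
      linarith
  have h5 := (Finset.sum_eq_zero_iff_of_nonneg (fun x _ => by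
    have := Real.log_le_sub_one_of_pos (hpos x)
    linarith)).1 h4 x (Finset.mem_univ _)
  by_contra hne
  have := Real.log_lt_sub_one_of_pos (hpos x) hne
  linarith

variable {p : ℕ} {M : Ideal AlgInt}

/-- A root of unity of `p`-power order is congruent to `1`. -/
theorem memLocalIdeal_sub_one_pow (hM : IsPModular p M) {z : ℂ} {k : ℕ} (hz : z ^ p ^ k = 1) :
    MemLocalIdeal M (z - 1) := by
  have hprime := hM.2.1.isPrime
  have hp := hM.1
  have hint : IsIntegral ℤ z := by
    refine IsIntegral.of_pow (pow_pos hp.pos k) ?_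
    rw [hz]
    exact isIntegral_one
  have h1 : ((⟨z, hint⟩ : AlgInt)) ^ (p ^ k) = 1 := by
    apply Subtype.ext
    simpa using hz
  have h2 := Cfsg.Agent.Lib.DefectZero.sub_one_mem hp M hM.2.2 (⟨z, hint⟩ : AlgInt) k h1
  have h3 := memLocalIdeal_coe h2
  simpa using h3

/-- **Character values on a `p`-group are congruent to the degree.** -/
theorem char_sub_one_mem (hM : IsPModular p M) (hX : IsPGroup p X) {a : X → ℂ} (ha : IsCharacter X a)
    (x : X) : MemLocalIdeal M (a x - a 1) := by
  classical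
  haveI : Fact p.Prime := ⟨hM.1⟩
  haveI hMp := hM.2.1.isPrime
  obtain ⟨m, μ, h1, h2⟩ := exists_roots ha x
  obtain ⟨k, hk⟩ := (IsPGroup.iff_card.1 hX)
  have e1 := h2 1
  have e0 := h2 0
  simp only [pow_one, pow_zero] at e1 e0
  rw [e1, e0, ← Finset.sum_sub_distrib]
  refine memLocalIdeal_sum _ _ fun i _ => ?_
  apply memLocalIdeal_sub_one_pow hM (k := k)
  rw [← hk]
  exact h1 i

/-- **Values of a generalized character on a `p`-group are congruent to the value at `1`.** -/
theorem gen_sub_one_mem (hM : IsPModular p M) (hX : IsPGroup p X) {θ : X → ℂ}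
    (hθ : IsGeneralizedCharacter X θ) (x : X) : MemLocalIdeal M (θ x - θ 1) := by
  haveI hMp := hM.2.1.isPrime
  obtain ⟨a, b, ha, hb, rfl⟩ := hθ
  have := memLocalIdeal_sub (char_sub_one_mem hM hX ha x) (char_sub_one_mem hM hX hb x)
  simp only [Pi.sub_apply]
  convert this using 1
  ring

/-- A class function with integral scalar products with irreducible characters is a generalized
character. -/
theorem isGen_of_int_inner {q : X → ℂ} (hq : IsClassFunction X q)
    (h : ∀ α : IrrCharacter X, ∃ n : ℤ, classInner q (α : X → ℂ) = n) : IsGeneralizedCharacter X q := by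
  classical
  choose n hn using h
  rw [classFunction_eq_sum hq]
  refine isGen_sum _ _ fun α _ => ?_
  rw [hn α]
  have := isGen_zsmul (isGen_of_isIrr α.2) (n α)
  convert this using 1
  funext g
  simp

end Cfsg.Agent.Lib.StarNorm
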