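import Mathlib
import Cfsg.Agent.Lib.StarInner
import Cfsg.Agent.Lib.StarNorm
import Cfsg.Agent.Lib.BlockHeightQ
import Cfsg.Agent.Lib.BrauerNil
import Cfsg.Agent.Lib.BrauerCorr

/-!
# Nilpotent blocks (Broué–Puig)
-/

set_option autoImplicit false
set_option linter.unusedSectionVars false
set_option linter.unusedVariables false
set_option linter.style.haveILetI false

namespace Cfsg.Agent.Lib.StarNil

open Polynomial IsLocalRing Cfsg Cfsg.Agent.Lib.StarFit Cfsg.Agent.Lib.StarGrp
open Cfsg.Agent.Lib.StarLoc Cfsg.Agent.Lib.BlockLocal Cfsg.Agent.Lib.BlockCover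
open Cfsg.Agent.Lib.BlockResidue Cfsg.Agent.Lib.BrauerMap Cfsg.Agent.Lib.BrauerPair
open Cfsg.Agent.Lib.BrauerSub Cfsg.Agent.Lib.BlockIdem Cfsg.Agent.Lib.CharIntegrality
open Cfsg.Agent.Lib.BlkBasic Cfsg.Agent.Lib.StarBlk Cfsg.Agent.Lib.StarP Cfsg.Agent.Lib.StarTh
open Cfsg.Agent.Lib.StarFit.LocSys Cfsg.Agent.Lib.GenChar Cfsg.Agent.Lib.CharBasic
open Cfsg.Agent.Lib.CharInd Cfsg.Agent.Lib.StarGen Cfsg.Agent.Lib.BrauerConj
open Cfsg.Agent.Lib.BrauerCen Cfsg.Agent.Lib.BrauerMax Cfsg.Agent.Lib.StarII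
open Cfsg.Agent.Lib.StarGlob Cfsg.Agent.Lib.BlockOrtho Cfsg.Agent.Lib.StarInner
open Cfsg.Agent.Lib.StarNorm Cfsg.Agent.Lib.BrauerNil Cfsg.Agent.Lib.BrauerStab
open scoped ComplexConjugate

universe u

variable {G : Type u} [Group G] [Fintype G] {p : ℕ} [hp : Fact p.Prime] {M : Ideal AlgInt}
  [hMp : M.IsPrime]

local notation "𝐂[" R "]" => Subgroup.centralizer ((R : Subgroup G) : Set G)
local notation "𝐍[" R "]" => Subgroup.normalizer ((R : Subgroup G) : Set G)
local notation Q "^^" x => Subgroup.map (MulEquiv.toMonoidHom (MulAut.conj (x : G))) (Q : Subgroup G)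

noncomputable local instance fintypeSubNil {A : Type*} [Group A] [Finite A] (K : Subgroup A) : Fintype K :=
  Fintype.ofFinite K

section CC

variable {P : Subgroup G} {e : Set (IrrCharacter (Subgroup.centralizer (P : Set G)))}
  {B : Set (IrrCharacter G)}

theorem act_eq_self_of_one (i : Idx G M) (h : i.1 = 1) (t : G) : act t i = i := by
  apply idx_ext
  · rw [act_fst, h]
    group
  · rw [eI_act]
    apply cj_eq_of_mem (eI_mem_cen i)
    rw [SetLike.mem_coe, Subgroup.mem_centralizer_iff]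
    intro y hy
    rw [h] at hy
    obtain ⟨k, rfl⟩ := Subgroup.mem_zpowers_iff.1 hy
    simp

theorem W2_iff_one (i : Idx G M) (h : i.1 = 1) (g : G) : W2 p M P e i g ↔ W2 p M P e i 1 := by
  have h1 := W2_act (p := p) (P := P) (e := e) g i g
  rw [mul_inv_cancel, act_eq_self_of_one i h g] at h1
  exact h1.symm

theorem NN_idxP_one (hM : IsPModular p M) (he : IsBrauerPair p M P e) :
    NN p M P e (idxP hM he 1) = Fintype.card G := by
  classical
  unfold NN
  rw [Finset.filter_true_of_mem, Finset.card_univ]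
  intro g _
  exact (W2_iff_one (idxP hM he 1) rfl g).2 (W2_idxP hM he 1)

theorem idx_eq_of_one (hM : IsPModular p M) (he : IsBrauerPair p M P e) {i : Idx G M} (h : i.1 = 1)
    (hW : ∃ g, W2 p M P e i g) : i = idxP hM he 1 := by
  obtain ⟨g, hg⟩ := hW
  obtain ⟨w, hw⟩ := exists_idxP_eq hM he ((W2_iff_one i h g).1 hg)
  have h1 : (w : G) = 1 := by
    rw [← h, ← hw]
    rfl
  have h2 : w = 1 := Subtype.ext h1
  rw [← hw, h2]

/-- At the identity the block is the block `B`. -/
theorem chiT_idxP_one (hM : IsPModular p M) (hmax : IsMaximalBrauerPair p M B P e) {χ : IrrCharacter G}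
    (hχ : χ ∈ B) {v : G} (hv : ¬ p ∣ orderOf v) :
    chiT (χ : G → ℂ) (ofG (localSubring M) v * eI (idxP hM hmax.1.1 1)) = (χ : G → ℂ) v := by
  classical
  set i₁ := idxP hM hmax.1.1 (1 : P) with hi₁
  have hu : i₁.1 = 1 := rfl
  have hvu : pp p v = i₁.1 := by
    rw [hu]
    exact pp_eq_one_iff.2 hv
  rw [← sum_chiT_eB (M := M) (χ : G → ℂ) i₁.1 v, Finset.sum_eq_single i₁.2]
  · rfl
  · intro b _ hb
    by_contra hne
    have hex : ∃ g, W2 p M P e (⟨i₁.1, b⟩ : Idx G M) g := by
      by_contra hnex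
      exact hne (chiT_eq_zero_of_not_W2 hM hmax hχ ⟨i₁.1, b⟩ hnex hvu)
    have h1 := idx_eq_of_one hM hmax.1.1 (i := ⟨i₁.1, b⟩) hu hex
    have h2 : eI (⟨i₁.1, b⟩ : Idx G M) = eI i₁ := by
      rw [h1]
    exact hb (eB_inj _ h2)
  · intro h
    exact absurd (Finset.mem_univ _) h

/-- The coefficient at the identity. -/
theorem cc_one (hM : IsPModular p M) (hmax : IsMaximalBrauerPair p M B P e) {χ χ' : IrrCharacter G}
    (hχ : χ ∈ B) (hχ' : χ' ∈ B) :
    cc hM hmax.1.1 (χ : G → ℂ) (χ' : G → ℂ) 1 = classInner (pRegularPart p (χ : G → ℂ)) (χ' : G → ℂ) := by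
  classical
  unfold cc classInner
  rw [NN_idxP_one, div_eq_inv_mul, Nat.card_eq_fintype_card]
  congr 1
  unfold Wsum
  rw [Finset.sum_filter]
  refine Finset.sum_congr rfl fun v _ => ?_
  have hu : (idxP hM hmax.1.1 (1 : P)).1 = 1 := rfl
  rw [hu]
  by_cases hv : p ∣ orderOf v
  · rw [if_neg (fun h => pp_eq_one_iff.1 h hv), pRegularPart_of_sing _ hv, zero_mul]
  · rw [if_pos (pp_eq_one_iff.2 hv), pRegularPart_of_reg _ hv, chiT_idxP_one hM hmax hχ hv,
      chiT_idxP_one hM hmax hχ' hv]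

theorem NN_act (t : G) (i : Idx G M) : NN p M P e (act t i) = NN p M P e i := by
  classical
  unfold NN
  apply Finset.card_bij (fun g _ => g * t)
  · intro g hg
    simp only [Finset.mem_filter, Finset.mem_univ, true_and] at hg ⊢
    have h1 := (W2_act (p := p) (P := P) (e := e) t i (g * t)).1
    rw [mul_inv_cancel_right] at h1
    exact h1 hg
  · intro a _ b _ h
    exact mul_right_cancel h
  · intro b hb
    simp only [Finset.mem_filter, Finset.mem_univ, true_and] at hb
    refine ⟨b * t⁻¹, ?_, by group⟩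
    simp only [Finset.mem_filter, Finset.mem_univ, true_and]
    exact (W2_act t i b).2 hb

theorem cp_self_of_mem (he : IsBrauerPair p M P e) {π : G} (hπ : π ∈ P) :
    cp π ⟨P, e⟩ = ⟨P, e⟩ := by
  have hstP : StabilizesBlock 𝐂[P] e π := stabilizes_of_centralizes (fun k hk => by
    rw [(Subgroup.mem_centralizer_iff.1 hk) π hπ]
    group) e
  rw [cp_of_normalizer (le_normalizer_self P hπ)
      (normalizer_le_normalizer_centralizer P (le_normalizer_self P hπ)),
      twistSet_eq_of_stabilizes he.2 hstP]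

/-- Conjugation by an element of `P` permutes the pairs below `(P, e)`. -/
theorem act_idxP (hM : IsPModular p M) (he : IsBrauerPair p M P e) (π w : P) :
    act (π : G) (idxP hM he w) = idxP hM he (π * w * π⁻¹) := by
  have h1 : W2 p M P e (idxP hM he w) (π : G) := by
    have h2 := relationCp hM (π : G) (bw_spec hM he w)
    rw [cp_self_of_mem he π.2] at h2
    exact h2
  have h3 : W2 p M P e (act (π : G) (idxP hM he w)) 1 := by
    have := (W2_act (p := p) (P := P) (e := e) (π : G) (idxP hM he w) (π : G)).2 h1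
    rwa [mul_inv_cancel] at this
  obtain ⟨w', hw'⟩ := exists_idxP_eq hM he h3
  have h4 : w' = π * w * π⁻¹ := by
    apply Subtype.ext
    have := congrArg Sigma.fst hw'
    simpa [act_fst, idxP] using this
  rw [← hw', h4]

theorem cc_conj (hM : IsPModular p M) (he : IsBrauerPair p M P e) {χ χ' : G → ℂ}
    (hχ : IsClassFunction G χ) (hχ' : IsClassFunction G χ') (w π : P) :
    cc hM he χ χ' (π * w * π⁻¹) = cc hM he χ χ' w := by
  unfold cc
  rw [← act_idxP, Wsum_act hχ hχ', NN_act]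

/-- The diagonal coefficients are nonnegative reals. -/
theorem exists_cc_real (hM : IsPModular p M) (he : IsBrauerPair p M P e) (χ : G → ℂ) (w : P) :
    ∃ r : ℝ, 0 ≤ r ∧ cc hM he χ χ w = r := by
  classical
  unfold cc Wsum
  refine ⟨(∑ v ∈ Finset.univ.filter (fun v => pp p v = (idxP hM he w).1),
    Complex.normSq (chiT χ (ofG (localSubring M) v * eI (idxP hM he w)))) /
    (NN p M P e (idxP hM he w) : ℝ), ?_, ?_⟩
  · exact div_nonneg (Finset.sum_nonneg fun v _ => Complex.normSq_nonneg _) (Nat.cast_nonneg _)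
  · push_cast
    congr 1
    refine Finset.sum_congr rfl fun v _ => ?_
    rw [Complex.mul_conj]

end CC

section Nil

variable {P : Subgroup G} {e : Set (IrrCharacter (Subgroup.centralizer (P : Set G)))}
  {B : Set (IrrCharacter G)}

/-- All class functions of `P` are stable when the block is nilpotent. -/
theorem hst_of_nil (hM : IsPModular p M) (hmax : IsMaximalBrauerPair p M B P e)
    (hnil : IsNilpotentBlock p M B) {α : P → ℂ} (hα : IsClassFunction P α)
    (u : G) (x : MonoidAlgebra (localSubring M) G) (g g' : G) (hg : Wit p M P e u x g)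
    (hg' : Wit p M P e u x g') :
    extendByZero P α (g * u * g⁻¹) = extendByZero P α (g' * u * g'⁻¹) := by
  obtain ⟨b, rfl, hb⟩ := hg
  obtain ⟨b', hbb, hb'⟩ := hg'
  obtain rfl : b = b' := eB_inj _ hbb
  have hF := Cfsg.Agent.Lib.BrauerSat.isBlockFusionSystemOn_blockFusion hM hmax
  set t := g' * g⁻¹ with ht
  have hQP : ((Subgroup.zpowers u) ^^ g) ≤ P := le_of_subpairLE hb
  have hle' : SubpairLE p M (((Subgroup.zpowers u) ^^ g) ^^ t)
      (conjBlock ((Subgroup.zpowers u) ^^ g) t (conjBlock (Subgroup.zpowers u) g b.1)) P e := by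
    have h1 : cp t (cp g ⟨Subgroup.zpowers u, b.1⟩) = cp g' ⟨Subgroup.zpowers u, b.1⟩ := by
      rw [← cp_mul, ht]
      congr 1
      group
    show Relation.ReflTransGen (NormalSubpairRel (G := G) p M)
      (cp t (cp g ⟨Subgroup.zpowers u, b.1⟩)) ⟨P, e⟩
    rw [h1]
    exact hb'
  obtain ⟨π, hπ, hq⟩ := star_of_nil hM hF hnil _ hQP _ t hb hle'
  have hmem : g * u * g⁻¹ ∈ ((Subgroup.zpowers u) ^^ g) := ⟨u, Subgroup.mem_zpowers u, rfl⟩
  have h2 := hq _ hmem
  have h3 : g' * u * g'⁻¹ = t * (g * u * g⁻¹) * t⁻¹ := by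
    rw [ht]
    group
  rw [h3, h2, extendByZero_conj_of_mem P hα _ hπ]

variable (p M) in
/-- The twisted function. -/
noncomputable def tw (P : Subgroup G) (e : Set (IrrCharacter 𝐂[P])) (α : P → ℂ) (χ : G → ℂ) : G → ℂ :=
  TT p M (LamH p M P e (extendByZero P α)) χ

theorem isGen_tw (hM : IsPModular p M) (hmax : IsMaximalBrauerPair p M B P e)
    (hnil : IsNilpotentBlock p M B) {α : P → ℂ} (hα : IsGeneralizedCharacter P α) {χ : IrrCharacter G}
    (hχ : χ ∈ B) : IsGeneralizedCharacter G (tw p M P e α (χ : G → ℂ)) := by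
  refine isGen_TT hM hmax.1.2.1 hmax hχ ?_ (hst_of_nil hM hmax hnil (isGen_isClassFunction hα))
  convert hα using 1
  funext y
  exact extendByZero_coe P α y

theorem inner_tw (hM : IsPModular p M) (hmax : IsMaximalBrauerPair p M B P e)
    (hnil : IsNilpotentBlock p M B) {α α' : P → ℂ} (hα : IsClassFunction P α)
    (hα' : IsClassFunction P α') {χ χ' : G → ℂ} (hχ : IsClassFunction G χ) (hχ' : IsClassFunction G χ') :
    classInner (tw p M P e α χ) (tw p M P e α' χ') =
      ∑ w : P, α w * conj (α' w) * cc hM hmax.1.1 χ χ' w := by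
  unfold tw
  rw [inner_TT_LamH hM hmax.1.1 hχ hχ' (hst_of_nil hM hmax hnil hα) (hst_of_nil hM hmax hnil hα')]
  refine Finset.sum_congr rfl fun w _ => ?_
  rw [extendByZero_coe, extendByZero_coe]

theorem tw_one (hM : IsPModular p M) (hmax : IsMaximalBrauerPair p M B P e)
    (hnil : IsNilpotentBlock p M B) {χ : IrrCharacter G} (hχ : χ ∈ B) :
    tw p M P e (fun _ => 1) (χ : G → ℂ) = χ := by
  refine TT_LamH_one hM hmax (hst_of_nil hM hmax hnil (fun _ _ => rfl)) (fun w hw => ?_) hχ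
  rw [extendByZero_of_mem P _ hw]

theorem tw_reg (hM : IsPModular p M) (hmax : IsMaximalBrauerPair p M B P e)
    (hnil : IsNilpotentBlock p M B) {α : P → ℂ} (hα : IsClassFunction P α) {χ : IrrCharacter G}
    (hχ : χ ∈ B) {v : G} (hv : ¬ p ∣ orderOf v) :
    tw p M P e α (χ : G → ℂ) v = α 1 * (χ : G → ℂ) v := by
  unfold tw
  rw [TT_LamH_reg hM hmax (hst_of_nil hM hmax hnil hα) hχ hv]
  congr 1
  exact extendByZero_of_mem P α P.one_mem

/-- For a character of height zero the value at the identity of the coefficient is a unit. -/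
theorem card_mul_cc_one_unit (hM : IsPModular p M) (hmax : IsMaximalBrauerPair p M B P e)
    {χ₀ : IrrCharacter G} (hχ₀ : χ₀ ∈ B) (h0 : (charDegree (χ₀ : G → ℂ)).factorization p = Cfsg.Agent.Lib.BlockQ.minExp p B) :
    ¬ MemLocalIdeal M ((Nat.card P : ℂ) * cc hM hmax.1.1 (χ₀ : G → ℂ) (χ₀ : G → ℂ) 1) := by
  have hB := hmax.1.2.1
  have hD := isDefectGroup_of_maximal hM hmax
  have hcard := Cfsg.Agent.Lib.BlockDefect.card_isDefectGroup hM hB hD
  rw [cc_one hM hmax hχ₀ hχ₀, Cfsg.Agent.Lib.BlockQ.classInner_eq_omega, hcard]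
  obtain ⟨u, hu1, hu2, hu3⟩ := Cfsg.Agent.Lib.BlockQ.exists_unit_formula hM hB hχ₀
  have hheight : blockHeight p B (χ₀ : G → ℂ) = 0 := by
    have := Cfsg.Agent.Lib.BlockQ.charDegree_factorization_eq (p := p) hχ₀
    omega
  rw [hheight, pow_zero, one_mul] at hu3
  have hω := Cfsg.Agent.Lib.BlockHeightQ.omega_regInv_unit_of_height_zero hM hB hχ₀ h0
  have e1 : ((p ^ blockDefect p B : ℕ) : ℂ) * (omega (χ₀ : G → ℂ) (Cfsg.Agent.Lib.BlockQ.regInv p (χ₀ : G → ℂ)) *
      (χ₀ : G → ℂ) 1 / (Nat.card G : ℂ)) =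
      u * omega (χ₀ : G → ℂ) (Cfsg.Agent.Lib.BlockQ.regInv p (χ₀ : G → ℂ)) := by
    rw [← hu3]
    push_cast
    ring
  rw [e1]
  have hωR : MemLocalRing M (omega (χ₀ : G → ℂ) (Cfsg.Agent.Lib.BlockQ.regInv p (χ₀ : G → ℂ))) :=
    memLocalRing_of_mem_Zc (Cfsg.Agent.Lib.BlockQ.omega_regInv_mem_Zc (M := M) (p := p)
      (IsIrrCharacter.isCharacter χ₀.2)) χ₀
  intro h
  rcases (memLocalIdeal_mul_iff hu1 hωR).1 h with h1 | h1
  · exact hu2 h1
  · exact hω h1

/-- **The key computation of Broué–Puig.** -/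
theorem cc_eq_inv_card (hM : IsPModular p M) (hmax : IsMaximalBrauerPair p M B P e)
    (hnil : IsNilpotentBlock p M B) {χ₀ : IrrCharacter G} (hχ₀ : χ₀ ∈ B)
    (h0 : (charDegree (χ₀ : G → ℂ)).factorization p = Cfsg.Agent.Lib.BlockQ.minExp p B) (w : P) :
    cc hM hmax.1.1 (χ₀ : G → ℂ) (χ₀ : G → ℂ) w = (Nat.card P : ℂ)⁻¹ := by
  classical
  have he := hmax.1.1
  have hχc : IsClassFunction G (χ₀ : G → ℂ) :=
    isClassFunction_of_isCharacter (IsIrrCharacter.isCharacter χ₀.2)
  have hPp : IsPGroup p P := he.1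
  have hPc : (Nat.card P : ℂ) ≠ 0 := by exact_mod_cast Nat.card_pos.ne'
  have hPr : (Nat.card P : ℝ) ≠ 0 := by exact_mod_cast Nat.card_pos.ne'
  choose r hr0 hr using exists_cc_real (p := p) hM he (χ₀ : G → ℂ)
  set c : P → ℂ := cc hM he (χ₀ : G → ℂ) (χ₀ : G → ℂ) with hc
  set q : P → ℂ := fun w => (Nat.card P : ℂ) * c w with hq
  have hqcl : IsClassFunction P q := by
    intro a b
    simp only [hq, hc]
    rw [cc_conj hM he hχc hχc]
  have hone : IsCharacter P (fun _ : P => (1 : ℂ)) := isCharacter_one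
  have hqgen : IsGeneralizedCharacter P q := by
    apply isGen_of_int_inner hqcl
    intro α
    have hαc : IsClassFunction P (α : P → ℂ) :=
      isClassFunction_of_isCharacter (IsIrrCharacter.isCharacter α.2)
    obtain ⟨n, hn⟩ := classInner_gen_gen
      (isGen_tw hM hmax hnil (isGen_of_isChar hone) hχ₀) (isGen_tw hM hmax hnil (isGen_of_isIrr α.2) hχ₀)
    refine ⟨n, ?_⟩
    rw [← hn, inner_tw hM hmax hnil (fun _ _ => rfl) hαc hχc hχc]
    unfold classInner
    simp only [hq, Finset.mul_sum]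
    refine Finset.sum_congr rfl fun y _ => ?_
    field_simp
    exact mul_comm _ _
  -- the mean
  have hsum : ∑ y : P, c y = 1 := by
    have h1 := inner_tw hM hmax hnil (α := fun _ => 1) (α' := fun _ => 1) (fun _ _ => rfl) (fun _ _ => rfl)
      hχc hχc
    rw [tw_one hM hmax hnil hχ₀, classInner_irr_self χ₀.2] at h1
    rw [h1]
    refine Finset.sum_congr rfl fun y _ => ?_
    simp [hc]
  have hunit : ¬ MemLocalIdeal M (q 1) := card_mul_cc_one_unit hM hmax hχ₀ h0
  have hqne : ∀ y, q y ≠ 0 := by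
    intro y hy
    have h1 := gen_sub_one_mem hM hPp hqgen y
    rw [hy, zero_sub] at h1
    apply hunit
    have := memLocalIdeal_neg h1
    simpa using this
  -- the real function
  have hqr : ∀ y, q y = ((Nat.card P : ℝ) * r y : ℝ) := by
    intro y
    simp only [hq]
    rw [hr y]
    push_cast
    ring
  have hpos : ∀ y, 0 < (Nat.card P : ℝ) * r y := by
    intro y
    have h1 : 0 ≤ (Nat.card P : ℝ) * r y := mul_nonneg (Nat.cast_nonneg _) (hr0 y)
    refine lt_of_le_of_ne h1 fun h2 => hqne y ?_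
    rw [hqr, ← h2]
    simp
  have hsumr : ∑ y : P, (Nat.card P : ℝ) * r y = Nat.card P := by
    have h1 : ((∑ y : P, (Nat.card P : ℝ) * r y : ℝ) : ℂ) = (Nat.card P : ℂ) := by
      push_cast
      have h2 : ∀ y : P, (Nat.card P : ℂ) * (r y : ℂ) = (Nat.card P : ℂ) * c y := by
        intro y
        rw [hr y]
      rw [Finset.sum_congr rfl fun y _ => h2 y, ← Finset.mul_sum, hsum, mul_one]
    exact_mod_cast h1
  have h1 := gen_positive_eq_one hqgen _ hqr hpos hsumr w
  have h2 : q w = 1 := by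
    rw [hqr, h1]
    simp
  simp only [hq] at h2
  field_simp
  rw [mul_comm]
  exact h2

/-- The twists of a height zero character are orthonormal. -/
theorem inner_tw_eq (hM : IsPModular p M) (hmax : IsMaximalBrauerPair p M B P e)
    (hnil : IsNilpotentBlock p M B) {χ₀ : IrrCharacter G} (hχ₀ : χ₀ ∈ B)
    (h0 : (charDegree (χ₀ : G → ℂ)).factorization p = Cfsg.Agent.Lib.BlockQ.minExp p B)
    {α α' : P → ℂ} (hα : IsClassFunction P α) (hα' : IsClassFunction P α') :
    classInner (tw p M P e α (χ₀ : G → ℂ)) (tw p M P e α' (χ₀ : G → ℂ)) = classInner α α' := by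
  have hχc : IsClassFunction G (χ₀ : G → ℂ) :=
    isClassFunction_of_isCharacter (IsIrrCharacter.isCharacter χ₀.2)
  rw [inner_tw hM hmax hnil hα hα' hχc hχc]
  unfold classInner
  rw [Finset.mul_sum]
  refine Finset.sum_congr rfl fun w _ => ?_
  rw [cc_eq_inv_card hM hmax hnil hχ₀ h0]
  ring

/-- The twist of a height zero character by an irreducible character is irreducible. -/
theorem isIrr_tw (hM : IsPModular p M) (hmax : IsMaximalBrauerPair p M B P e)
    (hnil : IsNilpotentBlock p M B) {χ₀ : IrrCharacter G} (hχ₀ : χ₀ ∈ B)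
    (h0 : (charDegree (χ₀ : G → ℂ)).factorization p = Cfsg.Agent.Lib.BlockQ.minExp p B)
    (α : IrrCharacter P) : IsIrrCharacter G (tw p M P e (α : P → ℂ) (χ₀ : G → ℂ)) := by
  have hαc : IsClassFunction P (α : P → ℂ) :=
    isClassFunction_of_isCharacter (IsIrrCharacter.isCharacter α.2)
  have hgen := isGen_tw hM hmax hnil (isGen_of_isIrr α.2) hχ₀
  have hnorm := inner_tw_eq hM hmax hnil hχ₀ h0 hαc hαc
  rw [classInner_irr_self α.2] at hnorm
  rcases gen_norm_one hgen hnorm with h | h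
  · exact h
  · exfalso
    have hv : ¬ p ∣ orderOf (1 : G) := by
      simp [hp.out.one_lt.ne']
    have h1 := tw_reg hM hmax hnil hαc hχ₀ hv
    obtain ⟨d₁, hd₁, hd₁'⟩ := isIrr_one_pos α.2
    obtain ⟨d₂, hd₂, hd₂'⟩ := isIrr_one_pos χ₀.2
    obtain ⟨d₃, hd₃, hd₃'⟩ := isIrr_one_pos h
    rw [hd₁', hd₂'] at h1
    simp only [Pi.neg_apply] at hd₃'
    rw [h1] at hd₃'
    have h2 : ((d₁ * d₂ + d₃ : ℕ) : ℂ) = 0 := by
      push_cast
      linear_combination -hd₃'
    have h3 : d₁ * d₂ + d₃ = 0 := by exact_mod_cast h2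
    omega

/-- The twist of a height zero character lies in the block. -/
theorem tw_mem (hM : IsPModular p M) (hmax : IsMaximalBrauerPair p M B P e)
    (hnil : IsNilpotentBlock p M B) {χ₀ : IrrCharacter G} (hχ₀ : χ₀ ∈ B)
    (h0 : (charDegree (χ₀ : G → ℂ)).factorization p = Cfsg.Agent.Lib.BlockQ.minExp p B)
    (α : IrrCharacter P) :
    (⟨tw p M P e (α : P → ℂ) (χ₀ : G → ℂ), isIrr_tw hM hmax hnil hχ₀ h0 α⟩ : IrrCharacter G) ∈ B := by
  by_contra hne
  have h1 := classInner_TT_of_not_mem (p := p) (lam := extendByZero P (α : P → ℂ)) (χ := χ₀) hM hmax hne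
  have h2 := classInner_irr_self (isIrr_tw hM hmax hnil hχ₀ h0 α)
  have h3 : classInner (tw p M P e (α : P → ℂ) (χ₀ : G → ℂ)) (tw p M P e (α : P → ℂ) (χ₀ : G → ℂ)) = 0 := h1
  rw [h3] at h2
  exact zero_ne_one h2

/-- The sum of the twists weighted by the degrees. -/
theorem sum_tw (hM : IsPModular p M) (hmax : IsMaximalBrauerPair p M B P e)
    (hnil : IsNilpotentBlock p M B) {χ₀ : IrrCharacter G} (hχ₀ : χ₀ ∈ B) (v : G) :
    ∑ α : IrrCharacter P, (α : P → ℂ) 1 * tw p M P e (α : P → ℂ) (χ₀ : G → ℂ) v =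
      (Nat.card P : ℂ) * pRegularPart p (χ₀ : G → ℂ) v := by
  classical
  unfold tw TT
  simp_rw [Finset.mul_sum]
  rw [Finset.sum_comm]
  -- the terms
  have key : ∀ b : BlockT M 𝐂[Subgroup.zpowers (pp p v)],
      ∑ α : IrrCharacter P, (α : P → ℂ) 1 * (LamH p M P e (extendByZero P (α : P → ℂ)) (pp p v) (eB _ b) *
        chiT (χ₀ : G → ℂ) (ofG (localSubring M) v * eB _ b)) =
      ((if pp p v = 1 then (Nat.card P : ℂ) else 0) * chiT (χ₀ : G → ℂ) (ofG (localSubring M) v * eB _ b)) := by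
    intro b
    by_cases hex : ∃ g, W2 p M P e (⟨pp p v, b⟩ : Idx G M) g
    · obtain ⟨g, hg⟩ := hex
      have hW := (wit_iff (⟨pp p v, b⟩ : Idx G M) g).2 hg
      have hmemP : g * pp p v * g⁻¹ ∈ P := by
        have h1 := le_of_subpairLE (show SubpairLE p M _ _ P e from hg)
        apply h1
        exact ⟨pp p v, Subgroup.mem_zpowers _, rfl⟩
      have hL : ∀ α : IrrCharacter P, LamH p M P e (extendByZero P (α : P → ℂ)) (pp p v) (eB _ b) =
          (α : P → ℂ) ⟨g * pp p v * g⁻¹, hmemP⟩ := by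
        intro α
        have hαc : IsClassFunction P (α : P → ℂ) :=
          isClassFunction_of_isCharacter (IsIrrCharacter.isCharacter α.2)
        rw [show eB _ b = eI (⟨pp p v, b⟩ : Idx G M) from rfl]
        rw [lamH_eq (hst_of_nil hM hmax hnil hαc) hW, extendByZero_of_mem P _ hmemP]
      simp_rw [hL]
      have hsum := sum_irr_mul_conj (G := P) (⟨g * pp p v * g⁻¹, hmemP⟩ : P) 1
      have hreal : ∀ α : IrrCharacter P, conj ((α : P → ℂ) 1) = (α : P → ℂ) 1 := by
        intro α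
        obtain ⟨d, -, hd⟩ := isIrr_one_pos α.2
        rw [hd]
        simp
      simp_rw [hreal] at hsum
      calc ∑ α : IrrCharacter P, (α : P → ℂ) 1 * ((α : P → ℂ) ⟨g * pp p v * g⁻¹, hmemP⟩ *
            chiT (χ₀ : G → ℂ) (ofG (localSubring M) v * eB _ b))
          = (∑ α : IrrCharacter P, (α : P → ℂ) ⟨g * pp p v * g⁻¹, hmemP⟩ * (α : P → ℂ) 1) *
            chiT (χ₀ : G → ℂ) (ofG (localSubring M) v * eB _ b) := by
            rw [Finset.sum_mul]
            refine Finset.sum_congr rfl fun α _ => ?_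
            ring
        _ = _ := by
            rw [hsum]
            congr 1
            by_cases hu : pp p v = 1
            · rw [if_pos hu]
              have h1 : (⟨g * pp p v * g⁻¹, hmemP⟩ : P) = 1 := by
                apply Subtype.ext
                show g * pp p v * g⁻¹ = 1
                rw [hu]
                group
              rw [if_pos (by rw [h1])]
              have h2 : Subgroup.centralizer ({1} : Set P) = ⊤ := by
                ext a
                simp [Subgroup.mem_centralizer_iff]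
              rw [h2]
              simp
            · rw [if_neg hu, if_neg]
              intro h1
              have h2 := isConj_one_left.1 h1
              apply hu
              have h3 : g * pp p v * g⁻¹ = 1 := congrArg Subtype.val h2
              have h4 : g * pp p v = g := by
                calc g * pp p v = (g * pp p v * g⁻¹) * g := by group
                  _ = g := by rw [h3, one_mul]
              simpa using h4
    · have hz := chiT_eq_zero_of_not_W2 hM hmax hχ₀ (⟨pp p v, b⟩ : Idx G M) hex rfl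
      rw [show eB _ b = eI (⟨pp p v, b⟩ : Idx G M) from rfl]
      rw [hz]
      simp
  rw [Finset.sum_congr rfl fun b _ => key b, ← Finset.mul_sum]
  rw [sum_chiT_eB]
  by_cases hv : p ∣ orderOf v
  · rw [if_neg (fun h => pp_eq_one_iff.1 h hv), pRegularPart_of_sing _ hv]
    simp
  · rw [if_pos (pp_eq_one_iff.2 hv), pRegularPart_of_reg _ hv]

end Nil

section Structure

variable {P : Subgroup G} {e : Set (IrrCharacter (Subgroup.centralizer (P : Set G)))}
  {B : Set (IrrCharacter G)}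

/-- The block elements are the twists of a height zero character. -/
theorem exists_tw_eq (hM : IsPModular p M) (hmax : IsMaximalBrauerPair p M B P e)
    (hnil : IsNilpotentBlock p M B) {χ₀ : IrrCharacter G} (hχ₀ : χ₀ ∈ B)
    (h0 : (charDegree (χ₀ : G → ℂ)).factorization p = Cfsg.Agent.Lib.BlockQ.minExp p B)
    {ξ : IrrCharacter G} (hξ : ξ ∈ B) : ∃ α : IrrCharacter P, tw p M P e (α : P → ℂ) (χ₀ : G → ℂ) = ξ := by
  classical
  have hB := hmax.1.2.1
  have hne : classInner (pRegularPart p (χ₀ : G → ℂ)) (ξ : G → ℂ) ≠ 0 := by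
    rw [Cfsg.Agent.Lib.BlockQ.classInner_eq_omega]
    have hω := Cfsg.Agent.Lib.BlockHeightQ.omega_regInv_unit_of_height_zero hM hB hχ₀ h0
    have hc := Cfsg.Agent.Lib.BlockQ.omega_regInv_mem_Zc (M := M) (p := p)
      (IsIrrCharacter.isCharacter χ₀.2)
    have hsame := Cfsg.Agent.Lib.BlockHeightQ.sameBlock_of_mem hB hχ₀ hξ
    have h1 := memLocalIdeal_sub_of_mem_Zc hc hsame
    have h2 : omega (ξ : G → ℂ) (Cfsg.Agent.Lib.BlockQ.regInv p (χ₀ : G → ℂ)) ≠ 0 := by
      intro h3
      rw [h3, sub_zero] at h1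
      exact hω h1
    have h3 : (ξ : G → ℂ) 1 ≠ 0 := isIrr_one_ne_zero ξ.2
    have h4 : (Nat.card G : ℂ) ≠ 0 := by exact_mod_cast Nat.card_pos.ne'
    exact div_ne_zero (mul_ne_zero h2 h3) h4
  have hsum : (∑ α : IrrCharacter P, ((α : P → ℂ) 1) • tw p M P e (α : P → ℂ) (χ₀ : G → ℂ)) =
      (Nat.card P : ℂ) • pRegularPart p (χ₀ : G → ℂ) := by
    funext v
    rw [Finset.sum_apply]
    simp only [Pi.smul_apply, smul_eq_mul]
    exact sum_tw hM hmax hnil hχ₀ v
  have h1 : ∑ α : IrrCharacter P, (α : P → ℂ) 1 * classInner (tw p M P e (α : P → ℂ) (χ₀ : G → ℂ)) (ξ : G → ℂ) ≠ 0 := by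
    have h2 := congrArg (fun f => classInner f (ξ : G → ℂ)) hsum
    rw [classInner_sum_left, classInner_smul_left] at h2
    simp_rw [classInner_smul_left] at h2
    rw [h2]
    refine mul_ne_zero ?_ hne
    exact_mod_cast Nat.card_pos.ne'
  obtain ⟨α, -, hα⟩ := Finset.exists_ne_zero_of_sum_ne_zero h1
  refine ⟨α, ?_⟩
  by_contra hne2
  exact hα (by rw [classInner_irr_ne (isIrr_tw hM hmax hnil hχ₀ h0 α) ξ.2 hne2, mul_zero])

/-- **Structure of a nilpotent block.** -/
theorem nil_structure (hM : IsPModular p M) (hmax : IsMaximalBrauerPair p M B P e)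
    (hnil : IsNilpotentBlock p M B) :
    ∃ χ₀ ∈ B, (charDegree (χ₀ : G → ℂ)).factorization p = Cfsg.Agent.Lib.BlockQ.minExp p B ∧
      ∃ Φ : IrrCharacter P ≃ B, ∀ (α : IrrCharacter P) (v : G), ¬ p ∣ orderOf v →
        ((Φ α : IrrCharacter G) : G → ℂ) v = (α : P → ℂ) 1 * (χ₀ : G → ℂ) v := by
  classical
  have hB := hmax.1.2.1
  obtain ⟨χ₀, hχ₀, h0⟩ := Cfsg.Agent.Lib.BlockQ.exists_minExp (p := p) hB
  refine ⟨χ₀, hχ₀, h0, ?_⟩
  let f : IrrCharacter P → B := fun α =>
    ⟨⟨tw p M P e (α : P → ℂ) (χ₀ : G → ℂ), isIrr_tw hM hmax hnil hχ₀ h0 α⟩, tw_mem hM hmax hnil hχ₀ h0 α⟩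
  have hinj : Function.Injective f := by
    intro α α' h
    by_contra hne
    have h1 : tw p M P e (α : P → ℂ) (χ₀ : G → ℂ) = tw p M P e (α' : P → ℂ) (χ₀ : G → ℂ) :=
      congrArg (fun x : B => ((x : IrrCharacter G) : G → ℂ)) h
    have hαc : IsClassFunction P (α : P → ℂ) :=
      isClassFunction_of_isCharacter (IsIrrCharacter.isCharacter α.2)
    have hαc' : IsClassFunction P (α' : P → ℂ) :=
      isClassFunction_of_isCharacter (IsIrrCharacter.isCharacter α'.2)
    have h2 := inner_tw_eq hM hmax hnil hχ₀ h0 hαc hαc'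
    rw [classInner_irr_ne α.2 α'.2 (fun h3 => hne (Subtype.ext h3)), ← h1,
      classInner_irr_self (isIrr_tw hM hmax hnil hχ₀ h0 α)] at h2
    exact one_ne_zero h2
  have hsurj : Function.Surjective f := by
    rintro ⟨ξ, hξ⟩
    obtain ⟨α, hα⟩ := exists_tw_eq hM hmax hnil hχ₀ h0 hξ
    exact ⟨α, Subtype.ext (Subtype.ext hα)⟩
  refine ⟨Equiv.ofBijective f ⟨hinj, hsurj⟩, fun α v hv => ?_⟩
  exact tw_reg hM hmax hnil (isClassFunction_of_isCharacter (IsIrrCharacter.isCharacter α.2)) hχ₀ hv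

end Structure

end Cfsg.Agent.Lib.StarNil
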