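import Mathlib
import Cfsg.Agent.S4649

/-!
# The Higman-type count for blocks with a cyclic defect group, with a set of representatives
-/

set_option autoImplicit false
set_option linter.unusedSectionVars false
set_option linter.unusedVariables false
set_option linter.style.haveILetI false

namespace Cfsg.Agent.Lib.DcCount

open Cfsg
open Cfsg.Agent.S4649
open Cfsg.Agent.Lib.BlockResidue Cfsg.Agent.Lib.BlockRankOne Cfsg.Agent.Lib.BlockLocal
open Cfsg.Agent.Lib.BlockQ Cfsg.Agent.Lib.BlockDefect Cfsg.Agent.Lib.BlockUniform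
open Cfsg.Agent.Lib.BrauerCorr Cfsg.Agent.Lib.BrauerCen Cfsg.Agent.Lib.BrauerNil
open Cfsg.Agent.Lib.BrauerSat Cfsg.Agent.Lib.BrauerSub Cfsg.Agent.Lib.BrauerMax
open Cfsg.Agent.Lib.BrauerConj Cfsg.Agent.Lib.BlockTrans Cfsg.Agent.Lib.BrauerPair
open Cfsg.Agent.Lib.CycRankOne Cfsg.Agent.Lib.BlockKL Cfsg.Agent.Lib.BrauerIn
open Cfsg.Agent.Lib.CharBasic Cfsg.Agent.Lib.CharInd Cfsg.Agent.Lib.BlockSection
open Cfsg.Agent.Lib.KleinDefect Cfsg.Agent.Lib.BrauerStab

universe u

variable {G : Type u} [Group G] [Fintype G]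

local notation "𝐂[" R "]" => Subgroup.centralizer ((R : Subgroup G) : Set G)
local notation "𝐍[" R "]" => Subgroup.normalizer ((R : Subgroup G) : Set G)
local notation Q "^^" x => Subgroup.map (MulEquiv.toMonoidHom (MulAut.conj (x : G))) (Q : Subgroup G)

variable {M : Ideal AlgInt} {p : ℕ}

/-- **The count**: if the local blocks have rank one and every nontrivial element of an abelian defect group is fused
into a set `A`, then `k(B) ≤ l(B) + |A|`. -/
theorem card_le_rank_add [Fact p.Prime] (hM : IsPModular p M) {B : Set (IrrCharacter G)} {P : Subgroup G}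
    {e : Set (IrrCharacter 𝐂[P])} (hmax : IsMaximalBrauerPair p M B P e)
    (hab : ∀ x ∈ P, ∀ y ∈ P, x * y = y * x)
    (hloc : ∀ z ∈ P, z ≠ 1 → ∀ f : Set (IrrCharacter 𝐂[Subgroup.zpowers z]), IsPBlock M f →
      SubpairLE p M (Subgroup.zpowers z) f P e → blockRank p f = 1)
    (A : Finset G) (hA : ∀ w ∈ A, w ≠ 1 ∧ w ∈ P)
    (hcov : ∀ z₀ ∈ P, z₀ ≠ 1 → ∃ t : G, t ∈ 𝐍[P] ∧ StabilizesBlock 𝐂[P] e t ∧ t * z₀ * t⁻¹ ∈ A) :
    (bF B).card ≤ blockRank p B + A.card := by
  classical
  haveI := isPrime_of_isPModular hM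
  have hp := hM.1
  have hB := hmax.1.2.1
  have hcpt : ∀ t : G, t ∈ 𝐍[P] → StabilizesBlock 𝐂[P] e t → cp t ⟨P, e⟩ = ⟨P, e⟩ := by
    intro t ht1 ht2
    rw [cp_of_normalizer ht1 (normalizer_le_normalizer_centralizer P ht1),
      twistSet_eq_of_stabilizes hmax.1.1.2 ht2]
  -- every pair has a conjugate below the maximal pair, at an element of `A`
  have hpair : ∀ z : G, ∀ F : Set (IrrCharacter 𝐂[Subgroup.zpowers z]),
      (∃ k : ℕ, orderOf z = p ^ k) → z ≠ 1 → IsInducedBlock M 𝐂[Subgroup.zpowers z] F B →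
      ∃ w ∈ A, ∃ y : G, y * z * y⁻¹ = w ∧ ∃ f : Set (IrrCharacter 𝐂[Subgroup.zpowers w]),
        SubpairLE p M (Subgroup.zpowers w) f P e ∧ cp y ⟨Subgroup.zpowers z, F⟩ = ⟨Subgroup.zpowers w, f⟩ := by
    intro z F hzk hz1 hind
    have hQp : IsPGroup p (Subgroup.zpowers z) := by
      obtain ⟨k, hk⟩ := hzk
      apply IsPGroup.of_card (n := k)
      rw [Nat.card_zpowers, hk]
    have hQF := isBrauerPairOf_of_isInducedBlock hM hQp hind
    obtain ⟨x, hx⟩ := exists_conj_subpairLE hM hmax hQF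
    have hxP : x * z * x⁻¹ ∈ P := by
      have h2 := le_of_subpairLE hx
      rw [map_zpowers] at h2
      exact (Subgroup.zpowers_le).mp h2
    have hxne : x * z * x⁻¹ ≠ 1 := fun h => hz1 (by
      have : x * z * x⁻¹ = x * 1 * x⁻¹ := by rw [h]; group
      exact mul_left_cancel (mul_right_cancel this))
    -- a conjugator with the right target
    obtain ⟨t, ht1, ht2, htA⟩ := hcov _ hxP hxne
    obtain ⟨y, hyA, hy⟩ : ∃ y : G, y * z * y⁻¹ ∈ A ∧
        Relation.ReflTransGen (NormalSubpairRel (G := G) p M) (cp y ⟨Subgroup.zpowers z, F⟩) ⟨P, e⟩ := by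
      refine ⟨t * x, ?_, ?_⟩
      · have h1 : (t * x) * z * (t * x)⁻¹ = t * (x * z * x⁻¹) * t⁻¹ := by group
        rw [h1]
        exact htA
      · have h3 := relationCp hM t hx
        rw [hcpt t ht1 ht2] at h3
        rw [cp_mul]
        exact h3
    have h4 : (cp y ⟨Subgroup.zpowers z, F⟩).1 = Subgroup.zpowers (y * z * y⁻¹) := by
      change (Subgroup.zpowers z ^^ y) = _
      rw [map_zpowers]
    obtain ⟨F', hF'⟩ := exists_eq_pair _ h4
    refine ⟨_, hyA, y, rfl, F', ?_, hF'⟩
    rw [hF'] at hy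
    exact hy
  -- the number of blocks at an element
  have hcount : ∀ z : G, (∃ k : ℕ, orderOf z = p ^ k) → z ≠ 1 →
      ∃ N : ℕ, vz p B z = ((Nat.card 𝐂[Subgroup.zpowers z] * N : ℕ) : ℂ) ∧
        N ≤ (A.filter (fun w => IsConj z w)).card := by
    intro z hzk hz1
    set H := 𝐂[Subgroup.zpowers z] with hH
    let Fs : Finset (BlockT M H) := Finset.univ.filter fun F => IsInducedBlock M H F.1 B
    refine ⟨Fs.card, ?_, ?_⟩
    · rw [vz_eq' hM hB hzk (Cfsg.Agent.Lib.BlockSecond.centralizer_zpowers_eq z), Nat.cast_mul]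
      congr 1
      rw [← Finset.sum_filter]
      have h1 : ∀ F ∈ Fs, (blockRank p F.1 : ℂ) = 1 := by
        intro F hF
        obtain ⟨w, hw, y, hy, f, hf, hcp⟩ := hpair z F.1 hzk hz1 (Finset.mem_filter.1 hF).2
        have h2 := blockRank_of_cp p hcp
        have hfb := (isBrauerPair_of_subpairLE hf hmax.1.1).2
        rw [hloc w (hA w hw).2 (hA w hw).1 f hfb hf] at h2
        rw [← h2]
        simp
      rw [Finset.sum_congr rfl h1]
      simp [Fs]
    · refine Finset.card_le_card_of_forall_subsingleton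
        (fun (F : BlockT M H) (w : G) => ∃ y : G, y * z * y⁻¹ = w ∧
          ∃ f : Set (IrrCharacter 𝐂[Subgroup.zpowers w]),
          SubpairLE p M (Subgroup.zpowers w) f P e ∧ cp y ⟨Subgroup.zpowers z, F.1⟩ = ⟨Subgroup.zpowers w, f⟩)
        ?_ ?_
      · intro F hF
        obtain ⟨w, hw, y, hy, h⟩ := hpair z F.1 hzk hz1 (Finset.mem_filter.1 hF).2
        refine ⟨w, Finset.mem_filter.2 ⟨hw, ?_⟩, y, hy, h⟩
        rw [← hy]
        exact _root_.isConj_iff.2 ⟨y, rfl⟩
      · intro w _ F hF F' hF'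
        obtain ⟨-, y, hy, f, hf, hcp⟩ := hF
        obtain ⟨-, y', hy', f', hf', hcp'⟩ := hF'
        have hff : f' = f := eq_of_two_subpairLE hM hmax.1.1 hf hf'
        subst hff
        have hu : cp (y'⁻¹ * y) ⟨Subgroup.zpowers z, F.1⟩ = ⟨Subgroup.zpowers z, F'.1⟩ := by
          rw [cp_mul, hcp, ← hcp', ← cp_mul, inv_mul_cancel, cp_one]
        have huC : y'⁻¹ * y ∈ H := by
          rw [hH, Cfsg.Agent.Lib.BlockSecond.centralizer_zpowers_eq,
            Subgroup.mem_centralizer_singleton_iff]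
          have h1 : y * z = w * y := by rw [← hy]; group
          have h2 : y' * z = w * y' := by rw [← hy']; group
          calc y'⁻¹ * y * z = y'⁻¹ * (y * z) := by group
            _ = y'⁻¹ * (w * y) := by rw [h1]
            _ = (y'⁻¹ * w * y') * (y'⁻¹ * y) := by group
            _ = z * (y'⁻¹ * y) := by
              rw [show y'⁻¹ * w * y' = z by rw [← hy']; group]
        have hyN := mem_normalizer_of_mem_centralizer huC
        have hst := stabilizes_of_mem_centralizer huC F.1
        rw [cp_of_normalizer hyN (normalizer_le_normalizer_centralizer _ hyN),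
          twistSet_eq_of_stabilizes F.2 hst] at hu
        exact Subtype.ext (eq_of_heq (Sigma.mk.inj_iff.mp hu).2)
  choose! N hN1 hN2 using hcount
  -- the sum
  have h1 := card_sub_rank hM hB
  let Tm : G → ℕ := fun z => if (∃ k : ℕ, orderOf z = p ^ k) ∧ z ≠ 1 then
    Nat.card 𝐂[Subgroup.zpowers z] * N z else 0
  have hTm : ∀ z, (if (∃ k : ℕ, orderOf z = p ^ k) ∧ z ≠ 1 then vz p B z else 0) = (Tm z : ℂ) := by
    intro z
    by_cases hz : (∃ k : ℕ, orderOf z = p ^ k) ∧ z ≠ 1
    · simp only [Tm, if_pos hz]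
      exact hN1 z hz.1 hz.2
    · simp only [Tm, if_neg hz]
      simp
  rw [Finset.sum_congr rfl fun z _ => hTm z] at h1
  have h2 : Nat.card G * (bF B).card = Nat.card G * blockRank p B + ∑ z, Tm z := by
    have h3 : ((Nat.card G * (bF B).card : ℕ) : ℂ) = ((Nat.card G * blockRank p B + ∑ z, Tm z : ℕ) : ℂ) := by
      push_cast
      rw [← h1]
      ring
    exact_mod_cast h3
  have hcen : ∀ z w : G, IsConj z w → Nat.card (Subgroup.centralizer ({z} : Set G)) =
      Nat.card (Subgroup.centralizer ({w} : Set G)) := by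
    intro z w hzw
    have h3 := Cfsg.Agent.Lib.InvolutionFusion.card_conj_mul_card_centralizer z
    have h4 := Cfsg.Agent.Lib.InvolutionFusion.card_conj_mul_card_centralizer w
    have h5 : Nat.card {u : G // IsConj z u} = Nat.card {u : G // IsConj w u} :=
      Nat.card_congr (Equiv.subtypeEquivRight fun u =>
        ⟨fun h => hzw.symm.trans h, fun h => hzw.trans h⟩)
    rw [h5] at h3
    have h6 : 0 < Nat.card {u : G // IsConj w u} := Nat.card_pos_iff.2 ⟨⟨⟨w, IsConj.refl w⟩⟩, inferInstance⟩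
    exact Nat.eq_of_mul_eq_mul_left h6 (h3.trans h4.symm)
  have h3 : ∑ z, Tm z ≤ A.card * Nat.card G := by
    have h4 : ∀ z, Tm z ≤ ∑ w ∈ A, if IsConj z w then Nat.card (Subgroup.centralizer ({w} : Set G)) else 0 := by
      intro z
      by_cases hz : (∃ k : ℕ, orderOf z = p ^ k) ∧ z ≠ 1
      · simp only [Tm, if_pos hz]
        rw [← Finset.sum_filter]
        have h5 : ∀ w ∈ A.filter (fun w => IsConj z w), Nat.card (Subgroup.centralizer ({w} : Set G)) =
            Nat.card (Subgroup.centralizer ({z} : Set G)) :=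
          fun w hw => (hcen z w (Finset.mem_filter.1 hw).2).symm
        rw [Finset.sum_congr rfl h5, Finset.sum_const, smul_eq_mul, mul_comm,
          Cfsg.Agent.Lib.BlockSecond.centralizer_zpowers_eq]
        exact Nat.mul_le_mul_right _ (hN2 z hz.1 hz.2)
      · simp only [Tm, if_neg hz]
        exact Nat.zero_le _
    calc ∑ z, Tm z ≤ ∑ z, ∑ w ∈ A, if IsConj z w then Nat.card (Subgroup.centralizer ({w} : Set G)) else 0 :=
          Finset.sum_le_sum fun z _ => h4 z
      _ = ∑ w ∈ A, ∑ z, if IsConj z w then Nat.card (Subgroup.centralizer ({w} : Set G)) else 0 :=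
          Finset.sum_comm
      _ = ∑ w ∈ A, Nat.card G := by
          refine Finset.sum_congr rfl fun w _ => ?_
          rw [← Finset.sum_filter, Finset.sum_const, smul_eq_mul,
            ← Cfsg.Agent.Lib.InvolutionFusion.card_conj_mul_card_centralizer w]
          congr 1
          rw [Nat.card_eq_fintype_card, Fintype.card_subtype]
          congr 1
          ext z
          simp only [Finset.mem_filter, Finset.mem_univ, true_and]
          exact ⟨fun h => h.symm, fun h => h.symm⟩
      _ = A.card * Nat.card G := by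
          rw [Finset.sum_const, smul_eq_mul]
  have hG : 0 < Nat.card G := Nat.card_pos
  have h4 : Nat.card G * (bF B).card ≤ Nat.card G * (blockRank p B + A.card) := by
    rw [h2, mul_add, mul_comm (Nat.card G) A.card]
    exact Nat.add_le_add_left h3 _
  exact Nat.le_of_mul_le_mul_left h4 hG

end Cfsg.Agent.Lib.DcCount
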