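import Mathlib

/-!
# Combinatorics of integer vectors with prescribed Gram matrix

Vectors with entries `0, ±a` whose Gram matrix is `1 + e` on the diagonal and `e` off the diagonal.
-/

set_option autoImplicit false
set_option linter.unusedSectionVars false
set_option linter.unusedVariables false
set_option linter.unusedSimpArgs false

namespace Cfsg.Agent.Lib.DcSets

variable {R X : Type*} [Fintype R] [DecidableEq R] [Fintype X] [DecidableEq X] {s : X → R → ℤ} {e : ℕ}

section Counts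

variable (hs1 : ∀ χ j, s χ j = 0 ∨ s χ j = 1 ∨ s χ j = -1) (hs2 : ∀ χ j k, s χ j ≠ 0 → s χ k ≠ 0 → s χ j = s χ k)
  (hG : ∀ j k, ∑ χ, s χ j * s χ k = (if j = k then 1 else 0) + (e : ℤ))

include hs1 hs2 hG

theorem card_one (j : R) : (Finset.univ.filter (fun χ => s χ j ≠ 0)).card = e + 1 := by
  have h1 := hG j j
  have h2 : ∑ χ, s χ j * s χ j = ∑ χ, if s χ j ≠ 0 then (1 : ℤ) else 0 := by
    refine Finset.sum_congr rfl fun χ _ => ?_
    rcases hs1 χ j with h | h | h <;> simp [h]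
  rw [h2, Finset.sum_boole, if_pos rfl] at h1
  have h3 : ((Finset.univ.filter (fun χ => s χ j ≠ 0)).card : ℤ) = (e : ℤ) + 1 := by
    rw [h1]; ring
  exact_mod_cast h3

theorem card_two {j k : R} (hjk : j ≠ k) : (Finset.univ.filter (fun χ => s χ j ≠ 0 ∧ s χ k ≠ 0)).card = e := by
  have h1 := hG j k
  have h2 : ∑ χ, s χ j * s χ k = ∑ χ, if s χ j ≠ 0 ∧ s χ k ≠ 0 then (1 : ℤ) else 0 := by
    refine Finset.sum_congr rfl fun χ _ => ?_
    by_cases h3 : s χ j = 0
    · simp [h3]
    by_cases h4 : s χ k = 0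
    · simp [h4]
    rw [if_pos ⟨h3, h4⟩, ← hs2 χ j k h3 h4]
    rcases hs1 χ j with h | h | h <;> simp [h] at h3 ⊢
  rw [h2, Finset.sum_boole, if_neg hjk, zero_add] at h1
  exact_mod_cast h1

/-- The unique vector separating two coordinates. -/
theorem existsUnique_sep {j k : R} (hjk : j ≠ k) : ∃! χ, s χ j ≠ 0 ∧ s χ k = 0 := by
  have h1 := card_one hs1 hs2 hG j
  have h2 := card_two hs1 hs2 hG hjk
  have h3 : (Finset.univ.filter (fun χ => s χ j ≠ 0)) =
      (Finset.univ.filter (fun χ => s χ j ≠ 0 ∧ s χ k ≠ 0)) ∪ (Finset.univ.filter (fun χ => s χ j ≠ 0 ∧ s χ k = 0)) := by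
    ext χ
    simp only [Finset.mem_filter, Finset.mem_univ, true_and, Finset.mem_union]
    tauto
  have h4 : Disjoint (Finset.univ.filter (fun χ => s χ j ≠ 0 ∧ s χ k ≠ 0)) (Finset.univ.filter (fun χ => s χ j ≠ 0 ∧ s χ k = 0)) := by
    rw [Finset.disjoint_filter]
    intro χ _ h5 h6
    exact h5.2 h6.2
  rw [h3, Finset.card_union_of_disjoint h4, h2] at h1
  have h5 : (Finset.univ.filter (fun χ => s χ j ≠ 0 ∧ s χ k = 0)).card = 1 := by omega
  obtain ⟨χ, hχ⟩ := Finset.card_eq_one.1 h5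
  refine ⟨χ, ?_, fun ψ hψ => ?_⟩
  · have : χ ∈ Finset.univ.filter (fun χ => s χ j ≠ 0 ∧ s χ k = 0) := by
      rw [hχ]; exact Finset.mem_singleton_self χ
    simpa using this
  · have : ψ ∈ Finset.univ.filter (fun χ => s χ j ≠ 0 ∧ s χ k = 0) := by simpa using hψ
    rw [hχ] at this
    exact Finset.mem_singleton.1 this

/-- Two vectors separating the same coordinates coincide. -/
theorem sep_unique {j k : R} (hjk : j ≠ k) {χ ψ : X} (h1 : s χ j ≠ 0) (h2 : s χ k = 0) (h3 : s ψ j ≠ 0) (h4 : s ψ k = 0) :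
    χ = ψ :=
  (existsUnique_sep hs1 hs2 hG hjk).unique ⟨h1, h2⟩ ⟨h3, h4⟩

/-- A vector cannot have two nonzero and two zero coordinates. -/
theorem not_two_two {χ : X} {j j' k k' : R} (hj : s χ j ≠ 0) (hj' : s χ j' ≠ 0) (hk : s χ k = 0) (hk' : s χ k' = 0)
    (hjj : j ≠ j') (hkk : k ≠ k') : False := by
  have hjk : j ≠ k := fun h => hj (h ▸ hk)
  have hjk' : j ≠ k' := fun h => hj (h ▸ hk')
  have hj'k : j' ≠ k := fun h => hj' (h ▸ hk)
  have hj'k' : j' ≠ k' := fun h => hj' (h ▸ hk')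
  obtain ⟨T₂, ⟨hT1, hT2⟩, -⟩ := existsUnique_sep hs1 hs2 hG hjj.symm
  have hT3 : s T₂ k ≠ 0 := by
    intro h
    have := sep_unique hs1 hs2 hG hj'k hT1 h hj' hk
    rw [this] at hT2
    exact hj hT2
  have hT4 : s T₂ k' ≠ 0 := by
    intro h
    have := sep_unique hs1 hs2 hG hj'k' hT1 h hj' hk'
    rw [this] at hT2
    exact hj hT2
  obtain ⟨R₀, ⟨hR1, hR2⟩, -⟩ := existsUnique_sep hs1 hs2 hG hkk
  by_cases hR3 : s R₀ j = 0
  · have := sep_unique hs1 hs2 hG (Ne.symm hjk) hR1 hR3 hT3 hT2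
    rw [this] at hR2
    exact hT4 hR2
  · have := sep_unique hs1 hs2 hG hjk' hR3 hR2 hj hk'
    rw [this] at hR1
    exact hR1 hk

end Counts

/-- **The structure of the family of vectors.** -/
theorem sets_main [Nonempty R] (hs1 : ∀ χ j, s χ j = 0 ∨ s χ j = 1 ∨ s χ j = -1)
    (hs2 : ∀ χ j k, s χ j ≠ 0 → s χ k ≠ 0 → s χ j = s χ k)
    (hG : ∀ j k, ∑ χ, s χ j * s χ k = (if j = k then 1 else 0) + (e : ℤ))
    (hX : ∀ (j k i : R) (χ χ' : X), j ≠ k → i ≠ j → i ≠ k → s χ j ≠ 0 → s χ k = 0 → s χ' k ≠ 0 → s χ' j = 0 →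
      s χ i ≠ 0 → s χ' i ≠ 0 → (∀ ψ, ψ ≠ χ → ψ ≠ χ' → s ψ j = s ψ k) → False) :
    ∃ (c : R → X) (X₀ : Finset X), Function.Injective c ∧ X₀.card = e ∧ (∀ j i, i ≠ j → s (c j) i = 0) ∧
      (∀ j, s (c j) j ≠ 0) ∧ (∀ χ ∈ X₀, ∀ j, s χ j ≠ 0) ∧ (∀ χ j, s χ j ≠ 0 → χ ∈ X₀ ∨ χ = c j) ∧ (∀ j, c j ∉ X₀) := by
  classical
  have hsep := fun {j k : R} (h : j ≠ k) => existsUnique_sep hs1 hs2 hG h
  have huniq := fun {j k : R} (h : j ≠ k) {χ ψ : X} => @sep_unique _ _ _ _ _ _ _ _ hs1 hs2 hG j k h χ ψ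
  by_cases hm : ∃ j₀ : R, ∀ j, j = j₀
  · -- one coordinate
    obtain ⟨j₀, hj₀⟩ := hm
    have h1 := card_one hs1 hs2 hG j₀
    have h2 : (Finset.univ.filter (fun χ => s χ j₀ ≠ 0)).Nonempty := by
      rw [← Finset.card_pos]
      omega
    obtain ⟨χ₀, hχ₀⟩ := h2
    have hχ₀' : s χ₀ j₀ ≠ 0 := by simpa using hχ₀
    refine ⟨fun _ => χ₀, (Finset.univ.filter (fun χ => s χ j₀ ≠ 0)).erase χ₀, ?_, ?_, ?_, ?_, ?_, ?_, ?_⟩
    · intro a b _
      rw [hj₀ a, hj₀ b]
    · rw [Finset.card_erase_of_mem hχ₀, h1]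
      rfl
    · intro j i hij
      exact absurd ((hj₀ i).trans (hj₀ j).symm) hij
    · intro j
      rw [hj₀ j]
      exact hχ₀'
    · intro χ hχ j
      rw [hj₀ j]
      have := (Finset.mem_erase.1 hχ).2
      simpa using this
    · intro χ j hχ
      rw [hj₀ j] at hχ
      by_cases h3 : χ = χ₀
      · exact Or.inr h3
      · left
        exact Finset.mem_erase.2 ⟨h3, by simpa using hχ⟩
    · intro j
      exact Finset.notMem_erase _ _
  -- at least two coordinates
  have hother : ∀ j : R, ∃ k, k ≠ j := by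
    intro j
    by_contra hcon
    push Not at hcon
    exact hm ⟨j, hcon⟩
  by_cases hI : ∀ χ j k i, s χ j ≠ 0 → s χ k = 0 → s χ i ≠ 0 → i = j
  · -- the proper vectors have one nonzero coordinate
    choose k₀ hk₀ using hother
    have hc : ∀ j, ∃ χ, s χ j ≠ 0 ∧ s χ (k₀ j) = 0 := fun j => (hsep (hk₀ j).symm).exists
    choose c hc1 hc2 using hc
    have hcz : ∀ j i, i ≠ j → s (c j) i = 0 := by
      intro j i hij
      by_contra h
      exact hij (hI (c j) j (k₀ j) i (hc1 j) (hc2 j) h)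
    have hinjc : Function.Injective c := by
      intro a b hab
      by_contra hne
      exact hc1 a (by rw [hab]; exact hcz b a hne)
    set X₀ := Finset.univ.filter (fun χ => ∀ j, s χ j ≠ 0) with hX₀
    have hcases : ∀ χ j, s χ j ≠ 0 → χ ∈ X₀ ∨ χ = c j := by
      intro χ j hχ
      by_cases h1 : ∀ i, s χ i ≠ 0
      · left
        simpa [hX₀] using h1
      · right
        push Not at h1
        obtain ⟨i, hi⟩ := h1
        have h2 : s χ (k₀ j) = 0 := by
          by_contra h3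
          exact hk₀ j (hI χ j i (k₀ j) hχ hi h3)
        exact huniq (hk₀ j).symm hχ h2 (hc1 j) (hc2 j)
    have hcX : ∀ j, c j ∉ X₀ := by
      intro j h
      have h1 : ∀ i, s (c j) i ≠ 0 := by simpa [hX₀] using h
      exact h1 _ (hc2 j)
    refine ⟨c, X₀, hinjc, ?_, hcz, hc1, ?_, hcases, hcX⟩
    · obtain ⟨j₀⟩ := ‹Nonempty R›
      have h1 := card_one hs1 hs2 hG j₀
      have h2 : Finset.univ.filter (fun χ => s χ j₀ ≠ 0) = insert (c j₀) X₀ := by
        ext χ
        simp only [Finset.mem_filter, Finset.mem_univ, true_and, Finset.mem_insert]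
        constructor
        · intro h
          rcases hcases χ j₀ h with h3 | h3
          · exact Or.inr h3
          · exact Or.inl h3
        · rintro (h | h)
          · rw [h]
            exact hc1 j₀
          · have h3 : ∀ i, s χ i ≠ 0 := by simpa [hX₀] using h
            exact h3 j₀
      rw [h2, Finset.card_insert_of_notMem (hcX j₀)] at h1
      omega
    · intro χ hχ j
      have h3 : ∀ i, s χ i ≠ 0 := by simpa [hX₀] using hχ
      exact h3 j
  · -- otherwise all proper vectors have one zero coordinate: contradiction with the hypothesis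
    exfalso
    push Not at hI
    obtain ⟨χ₁, j₁, k₁, i₁, h1, h2, h3, h4⟩ := hI
    -- every proper vector has at most one vanishing coordinate
    have hII : ∀ χ j k i, s χ j ≠ 0 → s χ k = 0 → s χ i = 0 → i = k := by
      by_contra hcon
      push Not at hcon
      obtain ⟨χ₂, j₂, k₂, i₂, h5, h6, h7, h8⟩ := hcon
      -- `χ₂` has a single nonzero coordinate `j₂`
      have hsing : ∀ y, s χ₂ y ≠ 0 → y = j₂ := by
        intro y hy
        by_contra hne
        exact not_two_two hs1 hs2 hG h5 hy h6 h7 (Ne.symm hne) (Ne.symm h8)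
      -- `χ₁` has a single zero coordinate `k₁`
      have hcos : ∀ y, s χ₁ y = 0 → y = k₁ := by
        intro y hy
        by_contra hne
        exact not_two_two hs1 hs2 hG h1 h3 h2 hy (Ne.symm h4) (Ne.symm hne)
      -- first case: different distinguished coordinates
      have hcase : ∀ (χ χ' : X) (a b x y : R), s χ a ≠ 0 → (∀ y, s χ y ≠ 0 → y = a) → s χ' x ≠ 0 → s χ' b = 0 →
          (∀ y, s χ' y = 0 → y = b) → s χ x ≠ 0 → x ≠ a → a ≠ b → False := by
        intro χ χ' a b x y ha hs hx hb hc hxx hxa hab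
        exact hxa (hs x hxx)
      -- distinct coordinates
      have hj₁k₁ : j₁ ≠ k₁ := fun h => h1 (h ▸ h2)
      have hi₁k₁ : i₁ ≠ k₁ := fun h => h3 (h ▸ h2)
      by_cases hjk : j₂ = k₁
      · -- take the two other coordinates
        subst hjk
        obtain ⟨χ₃, ⟨h9, h10⟩, -⟩ := hsep h4
        have hj₂j₁ : j₂ ≠ j₁ := hj₁k₁.symm
        have hj₂i₁ : j₂ ≠ i₁ := hi₁k₁.symm
        -- `χ₃` has coordinates `i₁` nonzero and `j₁` zero
        by_cases h11 : s χ₃ j₂ = 0
        · -- `χ₃` is zero on `j₂` and `j₁`; so it is a singleton at `i₁`, and `χ₁` separates `i₁` from `j₂`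
          -- both `χ₃` and ... separate `i₁` from `j₁`
          have hsing₃ : ∀ y, s χ₃ y ≠ 0 → y = i₁ := by
            intro y hy
            by_contra hne
            exact not_two_two hs1 hs2 hG h9 hy h10 h11 (Ne.symm hne) (Ne.symm hj₂j₁)
          -- a vector with `j₁` nonzero, `i₁` zero
          obtain ⟨χ₄, ⟨h12, h13⟩, -⟩ := hsep h4.symm
          have h14 : χ₄ = χ₂ ∨ s χ₄ j₂ = 0 := by
            by_cases h15 : s χ₄ j₂ = 0
            · exact Or.inr h15
            · exfalso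
              -- `χ₄` has `j₁, j₂` nonzero, `i₁` zero. And `χ₂` has `j₂` nonzero, `j₁` zero ...
              have h16 : s χ₂ j₁ = 0 := by
                by_contra h17
                exact hj₁k₁ (hsing j₁ h17)
              have h17 : s χ₂ i₁ = 0 := by
                by_contra h18
                exact hi₁k₁ (hsing i₁ h18)
              -- `χ₂` separates `j₂` from `i₁`; `χ₄` has `j₂` nonzero and `i₁` zero
              have h18 := huniq hj₂i₁ h15 h13 h5 h17
              rw [h18] at h12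
              exact h12 h16
          -- `χ₁` has `j₁` nonzero and `j₂` zero; `χ₄` has `j₁` nonzero, `i₁` zero
          rcases h14 with h15 | h15
          · rw [h15] at h12
            exact hj₁k₁ (hsing j₁ h12)
          · -- `χ₄` has `j₁` nonzero and `j₂` zero, so it is `χ₁`; but `χ₁` has `i₁` nonzero
            have h16 := huniq hj₁k₁ h12 h15 h1 h2
            rw [h16] at h13
            exact h3 h13
        · -- `χ₃` has `i₁, j₂` nonzero, `j₁` zero; so the only zero coordinate of `χ₃` is `j₁`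
          have h12 : s χ₂ i₁ = 0 := by
            by_contra h13
            exact hi₁k₁ (hsing i₁ h13)
          have h13 : s χ₂ j₁ = 0 := by
            by_contra h14
            exact hj₁k₁ (hsing j₁ h14)
          -- `χ₃` and `χ₂` both separate `j₂` from `j₁`
          have h14 := huniq hj₂j₁ h11 h10 h5 h13
          rw [h14] at h9
          exact h9 h12
      · -- `χ₁, χ₂` both separate `j₂` from `k₁`
        have h9 : s χ₁ j₂ ≠ 0 := fun h => hjk (hcos j₂ h)
        have h10 : s χ₂ k₁ = 0 := by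
          by_contra h11
          exact hjk (hsing k₁ h11).symm
        have h11 := huniq hjk h5 h10 h9 h2
        rw [h11] at hsing
        have h12 := hsing j₁ h1
        have h13 := hsing i₁ h3
        exact h4 (h13.trans h12.symm)
    -- now three coordinates
    have hj₁k₁ : j₁ ≠ k₁ := fun h => h1 (h ▸ h2)
    have hi₁k₁ : i₁ ≠ k₁ := fun h => h3 (h ▸ h2)
    obtain ⟨χ, ⟨h5, h6⟩, -⟩ := hsep h4
    obtain ⟨χ', ⟨h7, h8⟩, -⟩ := hsep h4.symm
    refine hX i₁ j₁ k₁ χ χ' h4 hi₁k₁.symm hj₁k₁.symm h5 h6 h7 h8 ?_ ?_ ?_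
    · intro h9
      exact hj₁k₁.symm (hII χ i₁ j₁ k₁ h5 h6 h9)
    · intro h9
      exact hi₁k₁.symm (hII χ' j₁ i₁ k₁ h7 h8 h9)
    · intro ψ hψ hψ'
      by_cases h9 : s ψ i₁ = 0
      · by_cases h10 : s ψ j₁ = 0
        · rw [h9, h10]
        · exact absurd (huniq h4.symm h10 h9 h7 h8) hψ'
      · by_cases h10 : s ψ j₁ = 0
        · exact absurd (huniq h4 h9 h10 h5 h6) hψ
        · exact hs2 ψ i₁ j₁ h9 h10

end Cfsg.Agent.Lib.DcSets
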