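import Mathlib
import Cfsg.Agent.Lib.BlockQ
import Cfsg.Agent.Lib.DcSets
import Cfsg.Agent.Lib.GenChar

/-!
# The character theory of a block with a family of integer combinations of prescribed Gram matrix

If a family of integer combinations of the members of a block vanish on `p`-regular elements and have the
Gram matrix `1 + e`, `e`, and there are as many as the Higman bound allows, then the
block has `e + m` members, its rank is `e` and all heights vanish.
-/

set_option autoImplicit false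
set_option linter.unusedSectionVars false
set_option linter.unusedVariables false
set_option linter.unusedSimpArgs false
set_option linter.style.haveILetI false

namespace Cfsg.Agent.Lib.DcAbs

open Cfsg Module Submodule
open Cfsg.Agent.Lib.CharBasic Cfsg.Agent.Lib.BlockQ Cfsg.Agent.Lib.BlockOrtho
open scoped ComplexConjugate

universe u v

variable {G : Type u} [Group G] [Fintype G] {p : ℕ} [hpF : Fact p.Prime] {M : Ideal AlgInt} {B : Set (IrrCharacter G)}
  {R : Type v} [Fintype R] [DecidableEq R] {s : IrrCharacter G → R → ℤ} {e a : ℕ}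

/-- The integer combinations. -/
noncomputable def Ee (s : IrrCharacter G → R → ℤ) (j : R) : G → ℂ := ∑ χ : IrrCharacter G, (s χ j : ℂ) • (χ : G → ℂ)

theorem Ee_apply (j : R) (g : G) : Ee s j g = ∑ χ : IrrCharacter G, (s χ j : ℂ) * (χ : G → ℂ) g := by
  unfold Ee
  rw [Finset.sum_apply]
  rfl

theorem inner_irr_irr (χ ψ : IrrCharacter G) : classInner (χ : G → ℂ) (ψ : G → ℂ) = if χ = ψ then 1 else 0 := by
  split_ifs with h
  · rw [h]
    exact classInner_irr_self ψ.2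
  · exact classInner_irr_ne' h

theorem inner_Ee_irr (j : R) (ψ : IrrCharacter G) : classInner (Ee s j) (ψ : G → ℂ) = s ψ j := by
  classical
  unfold Ee
  rw [classInner_sum_left]
  simp_rw [classInner_smul_left, inner_irr_irr]
  simp

theorem inner_irr_Ee (j : R) (ψ : IrrCharacter G) : classInner (ψ : G → ℂ) (Ee s j) = s ψ j := by
  rw [← classInner_conj_symm, inner_Ee_irr]
  simp

theorem inner_Ee_Ee (j k : R) : classInner (Ee s j) (Ee s k) = ((∑ χ, s χ j * s χ k : ℤ) : ℂ) := by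
  classical
  conv_lhs => rw [Ee]
  rw [classInner_sum_left]
  simp_rw [classInner_smul_left, inner_irr_Ee]
  push_cast
  rfl

/-- The map from coefficient vectors on the block to the regular parts. -/
noncomputable def Lam (p : ℕ) (B : Set (IrrCharacter G)) : (bF B → ℂ) →ₗ[ℂ] (G → ℂ) :=
  Fintype.linearCombination ℂ (fun ψ : bF B => pRegularPart p ((ψ : IrrCharacter G) : G → ℂ))

theorem Lam_apply (w : bF B → ℂ) (g : G) :
    Lam p B w g = ∑ ψ : bF B, w ψ * pRegularPart p ((ψ : IrrCharacter G) : G → ℂ) g := by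
  unfold Lam
  rw [Fintype.linearCombination_apply, Finset.sum_apply]
  rfl

theorem range_Lam : LinearMap.range (Lam p B) = span ℂ ((fun χ : IrrCharacter G => pRegularPart p (χ : G → ℂ)) '' B) := by
  unfold Lam
  rw [Fintype.range_linearCombination]
  congr 1
  ext φ
  constructor
  · rintro ⟨ψ, rfl⟩
    exact ⟨ψ, mem_bF.1 ψ.2, rfl⟩
  · rintro ⟨ψ, hψ, rfl⟩
    exact ⟨⟨ψ, mem_bF.2 hψ⟩, rfl⟩

theorem finrank_ker_Lam : finrank ℂ (LinearMap.ker (Lam p B)) + blockRank p B = (bF B).card := by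
  have h1 := LinearMap.finrank_range_add_finrank_ker (Lam p B)
  rw [range_Lam] at h1
  rw [Module.finrank_fintype_fun_eq_card, Fintype.card_coe] at h1
  unfold blockRank
  omega

/-- The span of the block. -/
noncomputable def Sp (B : Set (IrrCharacter G)) : Submodule ℂ (G → ℂ) :=
  LinearMap.range (Fintype.linearCombination ℂ (fun ψ : bF B => ((ψ : IrrCharacter G) : G → ℂ)))

theorem mem_Sp_of_mem {χ : IrrCharacter G} (hχ : χ ∈ B) : (χ : G → ℂ) ∈ Sp B := by
  unfold Sp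
  rw [Fintype.range_linearCombination]
  exact subset_span ⟨⟨χ, mem_bF.2 hχ⟩, rfl⟩

theorem Ee_mem_Sp (hsB : ∀ χ j, s χ j ≠ 0 → χ ∈ B) (j : R) : Ee s j ∈ Sp B := by
  unfold Ee
  refine Submodule.sum_mem _ fun χ _ => ?_
  by_cases h : s χ j = 0
  · rw [h]
    simp
  · exact Submodule.smul_mem _ _ (mem_Sp_of_mem (hsB χ j h))

theorem reg_mem_Sp (hM : IsPModular p M) (hB : IsPBlock M B) {χ : IrrCharacter G} (hχ : χ ∈ B) :
    pRegularPart p (χ : G → ℂ) ∈ Sp B := by
  have hp0 : (p : ℂ) ^ blockDefect p B ≠ 0 := pow_ne_zero _ (by exact_mod_cast hM.1.ne_zero)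
  have h1 : pRegularPart p (χ : G → ℂ) =
      ((p : ℂ) ^ blockDefect p B)⁻¹ • ∑ ψ ∈ bF B, (Q p B χ ψ : ℂ) • (ψ : G → ℂ) := by
    funext g
    rw [Pi.smul_apply, Finset.sum_apply]
    simp only [Pi.smul_apply, smul_eq_mul]
    rw [← pow_mul_pRegularPart hM hB hχ g]
    field_simp
  rw [h1]
  refine Submodule.smul_mem _ _ (Submodule.sum_mem _ fun ψ hψ => Submodule.smul_mem _ _ (mem_Sp_of_mem (mem_bF.1 hψ)))

section Main

variable (hsB : ∀ χ j, s χ j ≠ 0 → χ ∈ B) (hcount : (bF B).card ≤ blockRank p B + Fintype.card R)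
  {c : R → IrrCharacter G} (hc1 : ∀ j i, i ≠ j → s (c j) i = 0) (hc2 : ∀ j, s (c j) j ≠ 0)

/-- The coefficient vectors. -/
noncomputable def vv (s : IrrCharacter G → R → ℤ) (B : Set (IrrCharacter G)) (j : R) : bF B → ℂ :=
  fun ψ => (s (ψ : IrrCharacter G) j : ℂ)

include hsB hc1 hc2

theorem vv_indep : LinearIndependent ℂ (vv s B) := by
  classical
  rw [Fintype.linearIndependent_iff]
  intro g hg j
  have h1 := congrFun hg ⟨c j, mem_bF.2 (hsB _ j (hc2 j))⟩
  rw [Finset.sum_apply, Pi.zero_apply] at h1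
  rw [Finset.sum_eq_single j] at h1
  · simp only [Pi.smul_apply, smul_eq_mul, vv] at h1
    rcases mul_eq_zero.1 h1 with h2 | h2
    · exact h2
    · exact absurd (by exact_mod_cast h2) (hc2 j)
  · intro i _ hi
    simp only [Pi.smul_apply, smul_eq_mul, vv]
    rw [hc1 j i hi]
    simp
  · intro h
    exact absurd (Finset.mem_univ _) h

variable (hreg : ∀ j g, ¬ p ∣ orderOf g → Ee s j g = 0)

include hreg

theorem vv_mem_ker (j : R) : vv s B j ∈ LinearMap.ker (Lam p B) := by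
  rw [LinearMap.mem_ker]
  funext g
  rw [Lam_apply, Pi.zero_apply]
  by_cases hg : p ∣ orderOf g
  · refine Finset.sum_eq_zero fun ψ _ => ?_
    rw [pRegularPart_of_sing _ hg, mul_zero]
  · rw [← hreg j g hg, Ee_apply]
    simp_rw [pRegularPart_of_reg _ hg, vv]
    rw [Finset.sum_coe_sort (bF B) (fun ψ : IrrCharacter G => (s ψ j : ℂ) * (ψ : G → ℂ) g)]
    refine Finset.sum_subset (Finset.subset_univ _) fun χ _ hχ => ?_
    have h1 : s χ j = 0 := by
      by_contra h2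
      exact hχ (mem_bF.2 (hsB χ j h2))
    rw [h1]
    simp

include hcount

theorem ker_eq_span : LinearMap.ker (Lam p B) = span ℂ (Set.range (vv s B)) := by
  classical
  symm
  apply Submodule.eq_of_le_of_finrank_le
  · rw [span_le]
    rintro _ ⟨j, rfl⟩
    exact vv_mem_ker hsB hc1 hc2 hreg j
  · rw [finrank_span_eq_card (vv_indep hsB hc1 hc2)]
    have := finrank_ker_Lam (p := p) (B := B)
    omega

/-- A member of the span of the block, vanishing on regular elements and orthogonal to the combinations, vanishes. -/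
theorem eq_zero_of_orth {F : G → ℂ} (hF : F ∈ Sp B) (hFr : ∀ g, ¬ p ∣ orderOf g → F g = 0)
    (horth : ∀ k, classInner F (Ee s k) = 0) : F = 0 := by
  classical
  obtain ⟨w, rfl⟩ := hF
  set F := Fintype.linearCombination ℂ (fun ψ : bF B => ((ψ : IrrCharacter G) : G → ℂ)) w with hFdef
  have hFg : ∀ g, F g = ∑ ψ : bF B, w ψ * ((ψ : IrrCharacter G) : G → ℂ) g := by
    intro g
    rw [hFdef, Fintype.linearCombination_apply, Finset.sum_apply]
    rfl
  have h1 : w ∈ LinearMap.ker (Lam p B) := by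
    rw [LinearMap.mem_ker]
    funext g
    rw [Lam_apply, Pi.zero_apply]
    by_cases hg : p ∣ orderOf g
    · refine Finset.sum_eq_zero fun ψ _ => ?_
      rw [pRegularPart_of_sing _ hg, mul_zero]
    · simp_rw [pRegularPart_of_reg _ hg]
      rw [← hFg, hFr g hg]
  rw [ker_eq_span hsB hcount hc1 hc2 hreg] at h1
  obtain ⟨x, rfl⟩ := (Submodule.mem_span_range_iff_exists_fun ℂ).1 h1
  have h2 : F = ∑ j, x j • Ee s j := by
    funext g
    rw [hFg, Finset.sum_apply]
    simp only [Pi.smul_apply, smul_eq_mul, Ee_apply, Finset.sum_apply, vv, Finset.mul_sum]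
    have h3 : ∀ j, ∑ χ, x j * ((s χ j : ℂ) * (χ : G → ℂ) g) = ∑ ψ : bF B, x j * ((s (ψ : IrrCharacter G) j : ℂ) * ((ψ : IrrCharacter G) : G → ℂ) g) := by
      intro j
      rw [Finset.sum_coe_sort (bF B) (fun ψ : IrrCharacter G => x j * ((s ψ j : ℂ) * (ψ : G → ℂ) g))]
      symm
      refine Finset.sum_subset (Finset.subset_univ _) fun χ _ hχ => ?_
      have h1 : s χ j = 0 := by
        by_contra h2
        exact hχ (mem_bF.2 (hsB χ j h2))
      rw [h1]
      simp
    simp_rw [h3]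
    rw [Finset.sum_comm]
    refine Finset.sum_congr rfl fun ψ _ => ?_
    rw [Finset.sum_mul]
    refine Finset.sum_congr rfl fun j _ => ?_
    ring
  apply classInner_self_eq_zero
  conv_lhs => rw [h2]
  rw [classInner_sum_left]
  refine Finset.sum_eq_zero fun j _ => ?_
  rw [classInner_smul_left, ← h2, ← classInner_conj_symm, horth j, map_zero, mul_zero]

variable (hG : ∀ j k, ∑ χ, s χ j * s χ k = (if j = k then 1 else 0) + (e : ℤ)) (hq : Fintype.card R * e + 1 = p ^ a)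
  (hdef : blockDefect p B = a) (hM : IsPModular p M) (hB : IsPBlock M B)

/-- The sum of the coordinates. -/
def Ss (s : IrrCharacter G → R → ℤ) (χ : IrrCharacter G) : ℤ := ∑ j, s χ j

include hG hq hdef hM hB

/-- **The singular part of a member of the block.** -/
theorem sing_formula {χ : IrrCharacter G} (hχ : χ ∈ B) (g : G) :
    (χ : G → ℂ) g - pRegularPart p (χ : G → ℂ) g =
      ∑ j, ((s χ j : ℂ) - (e : ℂ) / (p ^ a : ℂ) * (Ss s χ : ℂ)) * Ee s j g := by
  classical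
  set b : R → ℂ := fun j => ((s χ j : ℂ) - (e : ℂ) / (p ^ a : ℂ) * (Ss s χ : ℂ)) with hb
  have hp0 : ((p : ℂ) ^ a) ≠ 0 := pow_ne_zero _ (by exact_mod_cast hM.1.ne_zero)
  have hqC : ((Fintype.card R : ℂ)) * (e : ℂ) + 1 = (p : ℂ) ^ a := by exact_mod_cast hq
  have hS : ((Ss s χ : ℤ) : ℂ) = ∑ j, (s χ j : ℂ) := by
    unfold Ss
    push_cast
    rfl
  have hsumb : ∑ j, b j = (Ss s χ : ℂ) / (p : ℂ) ^ a := by
    simp only [hb]
    rw [Finset.sum_sub_distrib, ← hS, Finset.sum_const, Finset.card_univ, nsmul_eq_mul]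
    rw [← hqC] at hp0 ⊢
    field_simp
    ring
  have hinner : ∀ k, ∑ j, b j * ((if j = k then 1 else 0) + (e : ℂ)) = (s χ k : ℂ) := by
    intro k
    simp_rw [mul_add, mul_ite, mul_one, mul_zero]
    rw [Finset.sum_add_distrib, Finset.sum_ite_eq' , if_pos (Finset.mem_univ k), ← Finset.sum_mul, hsumb]
    simp only [hb]
    field_simp
    ring
  set F : G → ℂ := (χ : G → ℂ) - pRegularPart p (χ : G → ℂ) - ∑ j, b j • Ee s j with hF
  have hFg : ∀ x, F x = (χ : G → ℂ) x - pRegularPart p (χ : G → ℂ) x - ∑ j, b j * Ee s j x := by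
    intro x
    simp only [hF, Pi.sub_apply, Finset.sum_apply, Pi.smul_apply, smul_eq_mul]
  have h1 : F ∈ Sp B := by
    refine Submodule.sub_mem _ (Submodule.sub_mem _ (mem_Sp_of_mem hχ) (reg_mem_Sp hM hB hχ)) (Submodule.sum_mem _ fun j _ => Submodule.smul_mem _ _ (Ee_mem_Sp hsB j))
  have h2 : ∀ x, ¬ p ∣ orderOf x → F x = 0 := by
    intro x hx
    rw [hFg, pRegularPart_of_reg _ hx, sub_self, zero_sub]
    simp_rw [hreg _ x hx, mul_zero]
    simp
  have hreg0 : ∀ k, classInner (pRegularPart p (χ : G → ℂ)) (Ee s k) = 0 := by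
    intro k
    unfold classInner
    rw [Finset.sum_eq_zero, mul_zero]
    intro x _
    by_cases hx : p ∣ orderOf x
    · rw [pRegularPart_of_sing _ hx, zero_mul]
    · rw [hreg k x hx, map_zero, mul_zero]
  have h3 : ∀ k, classInner F (Ee s k) = 0 := by
    intro k
    rw [hF, classInner_sub_left, classInner_sub_left, classInner_sum_left, hreg0, inner_irr_Ee]
    simp_rw [classInner_smul_left, inner_Ee_Ee, hG]
    have h4 := hinner k
    push_cast
    rw [h4]
    ring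
  have h4 := eq_zero_of_orth hsB hcount hc1 hc2 hreg h1 h2 h3
  have h5 := congrFun h4 g
  rw [hFg, Pi.zero_apply] at h5
  exact sub_eq_zero.1 h5

/-- The diagonal entry of the matrix `Q`. -/
theorem Q_self_eq {χ : IrrCharacter G} (hχ : χ ∈ B) :
    Q p B χ χ = (p : ℤ) ^ a - (p : ℤ) ^ a * ∑ j, s χ j * s χ j + (e : ℤ) * Ss s χ * Ss s χ := by
  classical
  have hp0 : ((p : ℂ) ^ a) ≠ 0 := pow_ne_zero _ (by exact_mod_cast hM.1.ne_zero)
  have h1 := Q_spec hM hB χ hχ
  rw [hdef] at h1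
  have h2 : (χ : G → ℂ) - pRegularPart p (χ : G → ℂ) =
      ∑ j, ((s χ j : ℂ) - (e : ℂ) / (p ^ a : ℂ) * (Ss s χ : ℂ)) • Ee s j := by
    funext g
    rw [Pi.sub_apply, sing_formula hsB hcount hc1 hc2 hreg hG hq hdef hM hB hχ g, Finset.sum_apply]
    rfl
  have h3 : classInner (pRegularPart p (χ : G → ℂ)) (χ : G → ℂ) = 1 - classInner ((χ : G → ℂ) - pRegularPart p (χ : G → ℂ)) (χ : G → ℂ) := by
    rw [classInner_sub_left, classInner_irr_self χ.2]
    ring
  have h4 : ((Ss s χ : ℤ) : ℂ) = ∑ j, (s χ j : ℂ) := by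
    unfold Ss
    push_cast
    rfl
  rw [h3, h2, classInner_sum_left] at h1
  simp_rw [classInner_smul_left, inner_Ee_irr] at h1
  have h5 : ((Q p B χ χ : ℤ) : ℂ) = (((p : ℤ) ^ a - (p : ℤ) ^ a * ∑ j, s χ j * s χ j + (e : ℤ) * Ss s χ * Ss s χ : ℤ) : ℂ) := by
    rw [← h1]
    push_cast
    simp_rw [sub_mul]
    rw [Finset.sum_sub_distrib, ← Finset.mul_sum, ← h4]
    field_simp
    ring
  exact_mod_cast h5

/-- **The congruence for the degrees.** -/
theorem degree_formula (D : Subgroup G) (hDa : Nat.card D = p ^ a) :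
    ∃ M₀ : ℤ, ∀ χ ∈ B, (charDegree (χ : G → ℂ) : ℤ) ≡ (e : ℤ) * Ss s χ * M₀ [ZMOD (p : ℤ) ^ a] := by
  classical
  letI : Fintype D := Fintype.ofFinite D
  have hp0 : ((p : ℂ) ^ a) ≠ 0 := pow_ne_zero _ (by exact_mod_cast hM.1.ne_zero)
  have hn : ∀ ψ : IrrCharacter G, ∃ n : ℕ, ∑ z : D, (ψ : G → ℂ) (z : G) = (p : ℂ) ^ a * n := by
    intro ψ
    obtain ⟨m, hm⟩ := classInner_char_char (G := D) (isCharacter_restrict D (IsIrrCharacter.isCharacter ψ.2)) isCharacter_one
    refine ⟨m, ?_⟩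
    have h1 : (∑ z : D, (ψ : G → ℂ) (z : G)) = (Nat.card D : ℂ) * m := by
      rw [← hm]
      unfold classInner
      have : (Nat.card D : ℂ) ≠ 0 := natCard_ne_zero'
      rw [mul_inv_cancel_left₀ this]
      simp
    rw [h1, hDa]
    push_cast
    rfl
  choose n hn using hn
  let nj : R → ℤ := fun j => ∑ ψ, s ψ j * (n ψ : ℤ)
  have hEj : ∀ j, ∑ z : D, Ee s j (z : G) = (p : ℂ) ^ a * (nj j : ℂ) := by
    intro j
    simp_rw [Ee_apply]
    rw [Finset.sum_comm]
    simp only [nj]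
    push_cast
    rw [Finset.mul_sum]
    refine Finset.sum_congr rfl fun ψ _ => ?_
    rw [← Finset.mul_sum, hn]
    ring
  refine ⟨∑ j, nj j, fun χ hχ => ?_⟩
  have hreg1 : ∑ z : D, pRegularPart p (χ : G → ℂ) (z : G) = (χ : G → ℂ) 1 := by
    rw [Finset.sum_eq_single (1 : D)]
    · have : ¬ p ∣ orderOf ((1 : D) : G) := by
        simp [hM.1.one_lt.ne']
      rw [pRegularPart_of_reg _ this]
      simp
    · intro z _ hz
      apply pRegularPart_of_sing
      have hz1 : (z : G) ≠ 1 := fun h => hz (Subtype.ext h)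
      have hDp : IsPGroup p D := IsPGroup.of_card hDa
      obtain ⟨k, hk⟩ := (IsPGroup.iff_orderOf.mp hDp) z
      rw [Subgroup.orderOf_coe, hk]
      have hk0 : k ≠ 0 := by
        rintro rfl
        apply hz1
        have : orderOf z = 1 := by simpa using hk
        rw [orderOf_eq_one_iff] at this
        rw [this]
        rfl
      exact dvd_pow_self p hk0
    · intro h
      exact absurd (Finset.mem_univ _) h
  have h1 : ∑ z : D, ((χ : G → ℂ) z - pRegularPart p (χ : G → ℂ) z) = (p : ℂ) ^ a * (n χ : ℂ) - (charDegree (χ : G → ℂ) : ℂ) := by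
    rw [Finset.sum_sub_distrib, hreg1, hn, Cfsg.Agent.Lib.CharKernel.one_eq_charDegree (IsIrrCharacter.isCharacter χ.2)]
  have h2 : ∑ z : D, ((χ : G → ℂ) z - pRegularPart p (χ : G → ℂ) z) =
      (p : ℂ) ^ a * ∑ j, (s χ j : ℂ) * (nj j : ℂ) - (e : ℂ) * (Ss s χ : ℂ) * ∑ j, (nj j : ℂ) := by
    simp_rw [sing_formula hsB hcount hc1 hc2 hreg hG hq hdef hM hB hχ]
    rw [Finset.sum_comm]
    simp_rw [← Finset.mul_sum, hEj]
    rw [Finset.mul_sum, Finset.mul_sum, ← Finset.sum_sub_distrib]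
    refine Finset.sum_congr rfl fun j _ => ?_
    field_simp
  rw [h1] at h2
  have h3 : ((charDegree (χ : G → ℂ) : ℤ) : ℂ) = (((p : ℤ) ^ a * ((n χ : ℤ) - ∑ j, s χ j * nj j) + (e : ℤ) * Ss s χ * ∑ j, nj j : ℤ) : ℂ) := by
    push_cast
    push_cast at h2
    linear_combination -h2
  have h4 : (charDegree (χ : G → ℂ) : ℤ) = (p : ℤ) ^ a * ((n χ : ℤ) - ∑ j, s χ j * nj j) + (e : ℤ) * Ss s χ * ∑ j, nj j := by
    exact_mod_cast h3
  rw [h4, Int.modEq_iff_dvd]
  exact ⟨-((n χ : ℤ) - ∑ j, s χ j * nj j), by ring⟩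

end Main

/-- **The abstract main theorem.** -/
theorem abs_main [Nonempty R] (hM : IsPModular p M) (hB : IsPBlock M B)
    (hs1 : ∀ χ j, s χ j = 0 ∨ s χ j = 1 ∨ s χ j = -1) (hs2 : ∀ χ j k, s χ j ≠ 0 → s χ k ≠ 0 → s χ j = s χ k)
    (hG : ∀ j k, ∑ χ, s χ j * s χ k = (if j = k then 1 else 0) + (e : ℤ))
    (hX : ∀ (j k i : R) (χ χ' : IrrCharacter G), j ≠ k → i ≠ j → i ≠ k → s χ j ≠ 0 → s χ k = 0 → s χ' k ≠ 0 → s χ' j = 0 →
      s χ i ≠ 0 → s χ' i ≠ 0 → (∀ ψ, ψ ≠ χ → ψ ≠ χ' → s ψ j = s ψ k) → False)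
    (hreg : ∀ j g, ¬ p ∣ orderOf g → Ee s j g = 0) (hsB : ∀ χ j, s χ j ≠ 0 → χ ∈ B)
    (hq : Fintype.card R * e + 1 = p ^ a) (hcount : (bF B).card ≤ blockRank p B + Fintype.card R)
    (hdef : blockDefect p B = a) (he0 : 0 < e) (ha : 1 ≤ a) (D : Subgroup G) (hDa : Nat.card D = p ^ a) :
    blockRank p B = e ∧ (∀ χ ∈ B, blockHeight p B (χ : G → ℂ) = 0) ∧
    ∃ X Y : Set (IrrCharacter G), B = X ∪ Y ∧ Disjoint X Y ∧ Nat.card X = e ∧ Nat.card Y = (p ^ a - 1) / e ∧
      (∀ ψ ∈ Y, ∀ ψ' ∈ Y, ∀ g : G, ¬ p ∣ orderOf g → (ψ : G → ℂ) g = (ψ' : G → ℂ) g) ∧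
      ∃ (δ : IrrCharacter G → ℤ) (δ₀ : ℤ), (∀ χ ∈ X, δ χ = 1 ∨ δ χ = -1) ∧ (δ₀ = 1 ∨ δ₀ = -1) ∧
        (∀ ψ ∈ Y, ∀ g : G, ¬ p ∣ orderOf g → (δ₀ : ℂ) * (ψ : G → ℂ) g + ∑ᶠ χ ∈ X, (δ χ : ℂ) * (χ : G → ℂ) g = 0) ∧
        (∀ χ ∈ X, ∀ χ' ∈ X, δ χ * (charDegree (χ : G → ℂ) : ℤ) ≡ δ χ' * (charDegree (χ' : G → ℂ) : ℤ) [ZMOD (p : ℤ) ^ a]) ∧
        (∀ ψ ∈ Y, ∀ χ ∈ X, (charDegree (ψ : G → ℂ) : ℤ) ≡ -((e : ℤ) * δ₀ * δ χ * (charDegree (χ : G → ℂ) : ℤ)) [ZMOD (p : ℤ) ^ a]) := by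
  classical
  obtain ⟨c, X₀, hcinj, hX₀card, hc1, hc2, hX₀, hcov, hcX⟩ := Cfsg.Agent.Lib.DcSets.sets_main hs1 hs2 hG hX
  have hp := hM.1
  have hMp := hM.2.1.isPrime
  have hsf := fun {χ : IrrCharacter G} (h : χ ∈ B) (g : G) => sing_formula hsB hcount hc1 hc2 hreg hG hq hdef hM hB h g
  have hpdvd : (p : ℤ) ∣ (p : ℤ) ^ a := dvd_pow_self _ (by omega)
  -- every member of the block has a nonzero coordinate
  have hnz : ∀ χ ∈ B, ∃ j, s χ j ≠ 0 := by
    intro χ hχ
    by_contra hcon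
    push Not at hcon
    obtain ⟨j₀⟩ := (inferInstance : Nonempty R)
    have hv : ∀ g, p ∣ orderOf g → (χ : G → ℂ) g = 0 := by
      intro g hg
      have h1 := hsf hχ g
      rw [pRegularPart_of_sing _ hg, sub_zero] at h1
      rw [h1]
      refine Finset.sum_eq_zero fun j _ => ?_
      have h2 : Ss s χ = 0 := by
        unfold Ss
        exact Finset.sum_eq_zero fun j _ => hcon j
      rw [hcon j, h2]
      simp
    have h3 := dvd_charDegree_of_vanish hp (IsIrrCharacter.isCharacter χ.2) hv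
    obtain ⟨χ₀, rfl⟩ := id hB
    have hχ' : blockOf M ((χ₀ : IrrCharacter G) : G → ℂ) = blockOf M (χ : G → ℂ) :=
      (Cfsg.Agent.Lib.BlockIdem.blockOf_eq_of_mem hχ).symm
    have h4 : c j₀ ∈ blockOf M (χ : G → ℂ) := by
      rw [← hχ']
      exact hsB _ j₀ (hc2 j₀)
    have h5 := eq_of_mem_blockOf_of_dvd hM h3 h4
    apply hc2 j₀
    rw [h5]
    exact hcon j₀
  have hBeq : B = (X₀ : Set (IrrCharacter G)) ∪ Set.range c := by
    ext χ
    constructor
    · intro hχ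
      obtain ⟨j, hj⟩ := hnz χ hχ
      rcases hcov χ j hj with h | h
      · exact Or.inl h
      · exact Or.inr ⟨j, h.symm⟩
    · rintro (h | ⟨j, rfl⟩)
      · obtain ⟨j₀⟩ := (inferInstance : Nonempty R)
        exact hsB _ j₀ (hX₀ χ h j₀)
      · exact hsB _ j (hc2 j)
  have hdisj : Disjoint (X₀ : Set (IrrCharacter G)) (Set.range c) := by
    rw [Set.disjoint_left]
    rintro χ hχ ⟨j, rfl⟩
    exact hcX j hχ
  have hbF : (bF B).card = e + Fintype.card R := by
    have h1 : bF B = X₀ ∪ Finset.univ.image c := by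
      ext χ
      rw [mem_bF, hBeq]
      simp
    rw [h1, Finset.card_union_of_disjoint, hX₀card, Finset.card_image_of_injective _ hcinj, Finset.card_univ]
    rw [Finset.disjoint_left]
    intro χ hχ h2
    obtain ⟨j, -, rfl⟩ := Finset.mem_image.1 h2
    exact hcX j hχ
  have hrank : blockRank p B = e := by
    have h1 := finrank_ker_Lam (p := p) (B := B)
    rw [ker_eq_span hsB hcount hc1 hc2 hreg, finrank_span_eq_card (vv_indep hsB hc1 hc2), hbF] at h1
    omega
  -- signs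
  have hsgn : ∀ χ j, s χ j ≠ 0 → s χ j = 1 ∨ s χ j = -1 := by
    intro χ j h
    rcases hs1 χ j with h1 | h1 | h1
    · exact absurd h1 h
    · exact Or.inl h1
    · exact Or.inr h1
  have hpem : ¬ p ∣ e := by
    intro h
    have h1 : p ∣ p ^ a := dvd_pow_self _ (by omega)
    rw [← hq] at h1
    have h2 : p ∣ Fintype.card R * e := Dvd.dvd.mul_left h _
    have h3 := (Nat.dvd_add_right h2).1 h1
    exact hp.one_lt.ne' (Nat.dvd_one.1 h3)
  have hpm : ¬ p ∣ Fintype.card R := by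
    intro h
    have h1 : p ∣ p ^ a := dvd_pow_self _ (by omega)
    rw [← hq] at h1
    have h2 : p ∣ Fintype.card R * e := Dvd.dvd.mul_right h _
    have h3 := (Nat.dvd_add_right h2).1 h1
    exact hp.one_lt.ne' (Nat.dvd_one.1 h3)
  have hpZ : Prime (p : ℤ) := Nat.prime_iff_prime_int.1 hp
  obtain ⟨j₀⟩ := (inferInstance : Nonempty R)
  -- the sums of coordinates
  have hSX : ∀ χ ∈ X₀, Ss s χ = (Fintype.card R : ℤ) * s χ j₀ := by
    intro χ hχ
    unfold Ss
    rw [Finset.sum_congr rfl (fun j _ => hs2 χ j j₀ (hX₀ χ hχ j) (hX₀ χ hχ j₀)), Finset.sum_const, Finset.card_univ, nsmul_eq_mul]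
  have hSc : ∀ j, Ss s (c j) = s (c j) j := by
    intro j
    unfold Ss
    rw [Finset.sum_eq_single j]
    · intro i _ hi
      exact hc1 j i hi
    · intro h
      exact absurd (Finset.mem_univ _) h
  have hsqX : ∀ χ ∈ X₀, ∑ j, s χ j * s χ j = (Fintype.card R : ℤ) := by
    intro χ hχ
    rw [Finset.sum_congr rfl (fun j _ => ?_ : ∀ j ∈ Finset.univ, s χ j * s χ j = 1), Finset.sum_const, Finset.card_univ, nsmul_eq_mul, mul_one]
    rcases hsgn χ j (hX₀ χ hχ j) with h | h <;> rw [h] <;> norm_num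
  have hheight : ∀ χ ∈ B, blockHeight p B (χ : G → ℂ) = 0 := by
    intro χ hχ
    have h1 := Q_self_eq hsB hcount hc1 hc2 hreg hG hq hdef hM hB hχ
    have h2 := pow_height_dvd_Q hM hB χ hχ
    by_contra hne
    have h3 : (p : ℤ) ∣ Q p B χ χ := (dvd_pow_self _ hne).trans h2
    rw [h1] at h3
    have h4 : (p : ℤ) ∣ (e : ℤ) * Ss s χ * Ss s χ := by
      have h5 : (p : ℤ) ∣ (p : ℤ) ^ a - (p : ℤ) ^ a * ∑ j, s χ j * s χ j := dvd_sub hpdvd (Dvd.dvd.mul_right hpdvd _)
      exact (dvd_add_right h5).1 h3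
    have h6 : ¬ (p : ℤ) ∣ (e : ℤ) := fun h => hpem (Int.natCast_dvd_natCast.1 h)
    have h7 : ¬ (p : ℤ) ∣ Ss s χ := by
      rw [hBeq] at hχ
      rcases hχ with h | ⟨j, rfl⟩
      · rw [hSX χ h]
        intro h8
        rcases hpZ.dvd_or_dvd h8 with h9 | h9
        · exact hpm (Int.natCast_dvd_natCast.1 h9)
        · rcases hsgn χ j₀ (hX₀ χ h j₀) with h10 | h10 <;> rw [h10] at h9
          · exact hpZ.not_unit (isUnit_of_dvd_one h9)
          · exact hpZ.not_unit (isUnit_of_dvd_one (by simpa using h9))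
      · rw [hSc]
        intro h9
        rcases hsgn _ j (hc2 j) with h10 | h10 <;> rw [h10] at h9
        · exact hpZ.not_unit (isUnit_of_dvd_one h9)
        · exact hpZ.not_unit (isUnit_of_dvd_one (by simpa using h9))
    rcases hpZ.dvd_or_dvd h4 with h8 | h8
    · rcases hpZ.dvd_or_dvd h8 with h9 | h9
      · exact h6 h9
      · exact h7 h9
    · exact h7 h8
  refine ⟨hrank, hheight, (X₀ : Set (IrrCharacter G)), Set.range c, hBeq, hdisj, ?_, ?_, ?_⟩
  · rw [Nat.card_coe_set_eq, Set.ncard_coe_finset, hX₀card]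
  · rw [Nat.card_range_of_injective hcinj, Nat.card_eq_fintype_card, ← hq, Nat.add_sub_cancel, Nat.mul_div_cancel _ he0]
  -- differences
  have hdiff : ∀ j k, j ≠ k → ∀ g, Ee s j g - Ee s k g = (s (c j) j : ℂ) * (c j : G → ℂ) g - (s (c k) k : ℂ) * (c k : G → ℂ) g := by
    intro j k hjk g
    rw [Ee_apply, Ee_apply, ← Finset.sum_sub_distrib]
    have hne : c j ≠ c k := fun h => hjk (hcinj h)
    rw [Finset.sum_eq_add (c j) (c k) hne]
    · rw [hc1 j k hjk.symm, hc1 k j hjk]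
      push_cast
      ring
    · intro χ _ hχ
      have h1 : s χ j = s χ k := by
        by_cases hχX : χ ∈ X₀
        · exact hs2 χ j k (hX₀ χ hχX j) (hX₀ χ hχX k)
        · have h2 : s χ j = 0 := by
            by_contra h3
            rcases hcov χ j h3 with h4 | h4
            · exact hχX h4
            · exact hχ.1 h4
          have h5 : s χ k = 0 := by
            by_contra h3
            rcases hcov χ k h3 with h4 | h4
            · exact hχX h4
            · exact hχ.2 h4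
          rw [h2, h5]
      rw [h1, sub_self]
    · intro h
      exact absurd (Finset.mem_univ _) h
    · intro h
      exact absurd (Finset.mem_univ _) h
  have hdeg : ∀ χ : IrrCharacter G, (χ : G → ℂ) 1 = (charDegree (χ : G → ℂ) : ℂ) := fun χ =>
    Cfsg.Agent.Lib.CharKernel.one_eq_charDegree (IsIrrCharacter.isCharacter χ.2)
  have hdpos : ∀ χ : IrrCharacter G, 0 < charDegree (χ : G → ℂ) := fun χ =>
    Cfsg.Agent.Lib.CharKernel.charDegree_pos χ.2
  have hone : ¬ p ∣ orderOf (1 : G) := by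
    rw [orderOf_one]
    exact fun h1 => hp.one_lt.ne' (Nat.dvd_one.mp h1)
  -- all signs agree, all degrees agree
  have hsign : ∀ j k, s (c j) j = s (c k) k := by
    intro j k
    by_cases hjk : j = k
    · rw [hjk]
    have h1 := hdiff j k hjk 1
    rw [hreg j 1 hone, hreg k 1 hone, sub_self, hdeg, hdeg] at h1
    have h2 : (s (c j) j) * (charDegree ((c j : IrrCharacter G) : G → ℂ) : ℤ) = (s (c k) k) * (charDegree ((c k : IrrCharacter G) : G → ℂ) : ℤ) := by
      have h3 : ((s (c j) j : ℤ) : ℂ) * (charDegree ((c j : IrrCharacter G) : G → ℂ) : ℂ) = ((s (c k) k : ℤ) : ℂ) * (charDegree ((c k : IrrCharacter G) : G → ℂ) : ℂ) := by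
        linear_combination -h1
      exact_mod_cast h3
    have h4 : (0 : ℤ) < (charDegree ((c j : IrrCharacter G) : G → ℂ) : ℤ) := by exact_mod_cast hdpos (c j)
    have h5 : (0 : ℤ) < (charDegree ((c k : IrrCharacter G) : G → ℂ) : ℤ) := by exact_mod_cast hdpos (c k)
    rcases hsgn _ j (hc2 j) with h6 | h6 <;> rcases hsgn _ k (hc2 k) with h7 | h7 <;> rw [h6, h7] at h2 ⊢
    · nlinarith
    · nlinarith
  refine ⟨?_, fun χ => s χ j₀, s (c j₀) j₀, fun χ hχ => hsgn χ j₀ (hX₀ χ hχ j₀), hsgn _ j₀ (hc2 j₀), ?_, ?_, ?_⟩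
  · rintro _ ⟨j, rfl⟩ _ ⟨k, rfl⟩ g hg
    by_cases hjk : j = k
    · rw [hjk]
    have h1 := hdiff j k hjk g
    rw [hreg j g hg, hreg k g hg, sub_self, hsign k j] at h1
    have h2 : ((s (c j) j : ℤ) : ℂ) ≠ 0 := by exact_mod_cast hc2 j
    have h3 : ((s (c j) j : ℤ) : ℂ) * ((c j : G → ℂ) g - (c k : G → ℂ) g) = 0 := by
      linear_combination -h1
    exact sub_eq_zero.1 ((mul_eq_zero.1 h3).resolve_left h2)
  · rintro _ ⟨j, rfl⟩ g hg
    rw [finsum_mem_coe_finset]
    have h1 := hreg j g hg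
    rw [Ee_apply] at h1
    rw [← h1, hsign j₀ j]
    have hins : (c j) ∉ X₀ := hcX j
    have h2 : ∑ χ, (s χ j : ℂ) * (χ : G → ℂ) g = ∑ χ ∈ insert (c j) X₀, (s χ j : ℂ) * (χ : G → ℂ) g := by
      symm
      refine Finset.sum_subset (Finset.subset_univ _) fun χ _ hχ => ?_
      have h3 : s χ j = 0 := by
        by_contra h4
        rcases hcov χ j h4 with h5 | h5
        · exact hχ (Finset.mem_insert_of_mem h5)
        · exact hχ (by rw [h5]; exact Finset.mem_insert_self _ _)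
      rw [h3]
      simp
    rw [h2, Finset.sum_insert hins]
    congr 1
    refine Finset.sum_congr rfl fun χ hχ => ?_
    change ((s χ j₀ : ℤ) : ℂ) * (χ : G → ℂ) g = _
    rw [hs2 χ j₀ j (hX₀ χ hχ j₀) (hX₀ χ hχ j)]
  all_goals obtain ⟨M₀, hM₀⟩ := degree_formula hsB hcount hc1 hc2 hreg hG hq hdef hM hB D hDa
  all_goals
    have hXc : ∀ χ ∈ X₀, s χ j₀ * (charDegree (χ : G → ℂ) : ℤ) ≡ -M₀ [ZMOD (p : ℤ) ^ a] := by
      intro χ hχ
      have hχB : χ ∈ B := hsB χ j₀ (hX₀ χ hχ j₀)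
      have h1 := (hM₀ χ hχB).mul_left (s χ j₀)
      refine h1.trans ?_
      rw [hSX χ hχ, Int.modEq_iff_dvd]
      have hq' : ((Fintype.card R : ℤ)) * (e : ℤ) + 1 = (p : ℤ) ^ a := by exact_mod_cast hq
      have h2 : s χ j₀ * s χ j₀ = 1 := by
        rcases hsgn χ j₀ (hX₀ χ hχ j₀) with h | h <;> rw [h] <;> norm_num
      refine ⟨-M₀, ?_⟩
      rw [← hq']
      linear_combination (-(Fintype.card R : ℤ) * (e : ℤ) * M₀) * h2
  · rintro χ hχ χ' hχ'
    exact (hXc χ hχ).trans (hXc χ' hχ').symm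
  · rintro _ ⟨j, rfl⟩ χ hχ
    have hχB : c j ∈ B := hsB _ j (hc2 j)
    have h1 := hM₀ _ hχB
    rw [hSc, hsign j j₀] at h1
    refine h1.trans ?_
    have h2 := ((hXc χ hχ).mul_left (-((e : ℤ) * s (c j₀) j₀))).symm
    have h3 : -((e : ℤ) * s (c j₀) j₀) * -M₀ = (e : ℤ) * s (c j₀) j₀ * M₀ := by ring
    rw [h3] at h2
    refine h2.trans ?_
    have h4 : -((e : ℤ) * s (c j₀) j₀) * (s χ j₀ * (charDegree (χ : G → ℂ) : ℤ)) =
      -((e : ℤ) * s (c j₀) j₀ * s χ j₀ * (charDegree (χ : G → ℂ) : ℤ)) := by ring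
    rw [h4]

end Cfsg.Agent.Lib.DcAbs
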