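import Mathlib

/-!
# Graded Jordan decomposition

`M` a finite-dimensional space over an algebraically closed field, `x` nilpotent, `y` with `y ^ e = 1`
(with `e` invertible), `y x = ζ x y`.  If the socle of `x` has dimension at least two more than the rank
of `x ^ (q - 1)`, where `x ^ q = 0`, then there is an idempotent commuting with `x` and `y` which separates
two socle vectors outside the image of `x ^ (q - 1)`.
-/

set_option autoImplicit false
set_option linter.unusedSectionVars false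
set_option linter.unusedVariables false

namespace Cfsg.Agent.Lib.DcJordan

open Module

variable {k : Type*} [Field k] {M : Type*} [AddCommGroup M] [Module k M]

/-- The span of the powers of `x` applied to `v`. -/
def cyc (x : Module.End k M) (v : M) : Submodule k M :=
  Submodule.span k (Set.range fun i : ℕ => (x ^ i) v)

theorem pow_pow_apply (x : Module.End k M) (a b : ℕ) (v : M) : (x ^ a) ((x ^ b) v) = (x ^ (a + b)) v := by
  rw [pow_add, Module.End.mul_apply]

theorem self_pow_apply (x : Module.End k M) (b : ℕ) (v : M) : x ((x ^ b) v) = (x ^ (b + 1)) v := by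
  rw [pow_succ', Module.End.mul_apply]

theorem pow_mem_cyc (x : Module.End k M) (v : M) (i : ℕ) : (x ^ i) v ∈ cyc x v :=
  Submodule.subset_span ⟨i, rfl⟩

theorem self_mem_cyc (x : Module.End k M) (v : M) : v ∈ cyc x v := by
  simpa using pow_mem_cyc x v 0

theorem x_mem_cyc {x : Module.End k M} {v m : M} (hm : m ∈ cyc x v) : x m ∈ cyc x v := by
  refine Submodule.span_induction ?_ ?_ ?_ ?_ hm
  · rintro _ ⟨i, rfl⟩
    rw [← Module.End.mul_apply, ← pow_succ']
    exact pow_mem_cyc x v _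
  · simp
  · intro a b _ _ ha hb
    rw [map_add]
    exact Submodule.add_mem _ ha hb
  · intro c a _ ha
    rw [map_smul]
    exact Submodule.smul_mem _ _ ha

theorem linearIndependent_pow {x : Module.End k M} {v : M} {s : ℕ} (hs : (x ^ (s + 1)) v = 0)
    (hs' : (x ^ s) v ≠ 0) : LinearIndependent k (fun i : Fin (s + 1) => (x ^ (i : ℕ)) v) := by
  classical
  rw [Fintype.linearIndependent_iff]
  intro c hc
  by_contra hne
  push Not at hne
  -- the least index with nonzero coefficient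
  have hex : ∃ n : ℕ, ∃ h : n < s + 1, c ⟨n, h⟩ ≠ 0 := by
    obtain ⟨i, hi⟩ := hne
    exact ⟨i, i.2, hi⟩
  classical
  let n := Nat.find hex
  obtain ⟨hn, hcn⟩ := Nat.find_spec hex
  have hmin : ∀ i : Fin (s + 1), (i : ℕ) < Nat.find hex → c i = 0 := by
    intro i hi
    by_contra hci
    exact Nat.find_min hex hi ⟨i.2, hci⟩
  have hz : ∀ t : ℕ, s + 1 ≤ t → (x ^ t) v = 0 := by
    intro t ht
    obtain ⟨r, rfl⟩ := Nat.exists_eq_add_of_le ht
    rw [add_comm, pow_add, Module.End.mul_apply, hs, map_zero]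
  have h1 := congrArg (fun w => (x ^ (s - Nat.find hex)) w) hc
  simp only [map_sum, map_smul, map_zero] at h1
  rw [Finset.sum_eq_single (⟨Nat.find hex, hn⟩ : Fin (s + 1))] at h1
  · have h2 : (x ^ (s - Nat.find hex)) ((x ^ Nat.find hex) v) = (x ^ s) v := by
      rw [← Module.End.mul_apply, ← pow_add]
      congr 2
      omega
    simp only [h2] at h1
    rcases smul_eq_zero.1 h1 with h3 | h3
    · exact hcn h3
    · exact hs' h3
  · intro i _ hi
    have hi' : (i : ℕ) ≠ Nat.find hex := fun h => hi (Fin.ext h)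
    rcases lt_or_gt_of_ne hi' with h3 | h3
    · rw [hmin i h3, zero_smul]
    · have h4 : (x ^ (s - Nat.find hex)) ((x ^ (i : ℕ)) v) = 0 := by
        rw [← Module.End.mul_apply, ← pow_add]
        apply hz
        have := i.2
        have h5 : Nat.find hex ≤ s := by omega
        omega
      rw [h4, smul_zero]
  · simp

/-- A functional dual to the top power. -/
theorem exists_dual_top {x : Module.End k M} {v : M} {s : ℕ} (hs : (x ^ (s + 1)) v = 0)
    (hs' : (x ^ s) v ≠ 0) : ∃ l : M →ₗ[k] k, l ((x ^ s) v) = 1 ∧ ∀ i, i ≠ s → l ((x ^ i) v) = 0 := by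
  classical
  have hind := linearIndependent_pow hs hs'
  have hz : ∀ t : ℕ, s + 1 ≤ t → (x ^ t) v = 0 := by
    intro t ht
    obtain ⟨r, rfl⟩ := Nat.exists_eq_add_of_le ht
    rw [add_comm, pow_add, Module.End.mul_apply, hs, map_zero]
  let U : Submodule k M := Submodule.span k ((fun i : Fin (s + 1) => (x ^ (i : ℕ)) v) '' {i | (i : ℕ) ≠ s})
  have hnot : (x ^ s) v ∉ U := by
    have h1 := hind.notMem_span_image (s := {i : Fin (s + 1) | (i : ℕ) ≠ s}) (x := Fin.last s)
      (by simp)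
    simpa using h1
  obtain ⟨f, hf, hU⟩ := Submodule.exists_le_ker_of_notMem hnot
  refine ⟨(f ((x ^ s) v))⁻¹ • f, ?_, ?_⟩
  · simp [hf]
  · intro i hi
    by_cases his : s + 1 ≤ i
    · rw [hz i his, map_zero]
    · have h1 : (x ^ i) v ∈ U :=
        Submodule.subset_span ⟨⟨i, by omega⟩, by simpa using hi, rfl⟩
      have h2 := hU h1
      rw [LinearMap.mem_ker] at h2
      simp [h2]

/-- Elements of the cyclic module killed by `x`. -/
theorem eq_smul_of_mem_cyc {x : Module.End k M} {v : M} {s : ℕ} (hs : (x ^ (s + 1)) v = 0)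
    (hs' : (x ^ s) v ≠ 0) {w : M} (hw : w ∈ cyc x v) (hxw : x w = 0) : ∃ c : k, w = c • (x ^ s) v := by
  classical
  obtain ⟨l, hl1, hl0⟩ := exists_dual_top hs hs'
  have hz : ∀ t : ℕ, s + 1 ≤ t → (x ^ t) v = 0 := by
    intro t ht
    obtain ⟨r, rfl⟩ := Nat.exists_eq_add_of_le ht
    rw [add_comm, pow_add, Module.End.mul_apply, hs, map_zero]
  -- expansion
  have hexp : ∀ m ∈ cyc x v, ∃ c : Fin (s + 1) → k, m = ∑ i, c i • (x ^ (i : ℕ)) v := by
    intro m hm
    refine Submodule.span_induction ?_ ?_ ?_ ?_ hm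
    · rintro _ ⟨i, rfl⟩
      by_cases hi : i < s + 1
      · refine ⟨fun j => if (j : ℕ) = i then 1 else 0, ?_⟩
        rw [Finset.sum_eq_single (⟨i, hi⟩ : Fin (s + 1))]
        · simp
        · intro j _ hj
          have : (j : ℕ) ≠ i := fun h => hj (Fin.ext h)
          simp [this]
        · simp
      · refine ⟨0, ?_⟩
        simp [hz i (by omega)]
    · exact ⟨0, by simp⟩
    · rintro a b _ _ ⟨c, rfl⟩ ⟨d, rfl⟩
      exact ⟨c + d, by simp [add_smul, Finset.sum_add_distrib]⟩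
    · rintro r a _ ⟨c, rfl⟩
      exact ⟨r • c, by simp [Finset.smul_sum, smul_smul]⟩
  obtain ⟨c, rfl⟩ := hexp w hw
  refine ⟨c (Fin.last s), ?_⟩
  have hc0 : ∀ i : Fin (s + 1), (i : ℕ) < s → c i = 0 := by
    intro i hi
    have h1 : l ((x ^ (s - 1 - (i : ℕ))) (x (∑ j, c j • (x ^ (j : ℕ)) v))) = 0 := by
      rw [hxw]; simp
    simp only [map_sum, map_smul, self_pow_apply, pow_pow_apply] at h1
    rw [Finset.sum_eq_single i] at h1
    · have h2 : s - 1 - (i : ℕ) + ((i : ℕ) + 1) = s := by omega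
      rw [h2, hl1] at h1
      simpa using h1
    · intro j _ hj
      have hj' : (j : ℕ) ≠ i := fun h => hj (Fin.ext h)
      rw [hl0, smul_zero]
      omega
    · simp
  rw [Finset.sum_eq_single (Fin.last s)]
  · simp
  · intro j _ hj
    have : (j : ℕ) < s := by
      have := j.2
      have h2 : (j : ℕ) ≠ s := fun h => hj (Fin.ext h)
      omega
    rw [hc0 j this, zero_smul]
  · simp

section Split

variable {x y ϖ : Module.End k M} {e : ℕ} {ζ : k}

/-- the retraction -/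
noncomputable def rr (x : Module.End k M) (l : M →ₗ[k] k) (ϖ : Module.End k M) (v : M) (s : ℕ) : Module.End k M :=
  ∑ i ∈ Finset.range (s + 1), (LinearMap.toSpanSingleton k M ((x ^ i) v)) ∘ₗ (l ∘ₗ ((x ^ (s - i)) * ϖ))

theorem rr_apply (l : M →ₗ[k] k) (v : M) (s : ℕ) (m : M) :
    rr x l ϖ v s m = ∑ i ∈ Finset.range (s + 1), l ((x ^ (s - i)) (ϖ m)) • (x ^ i) v := by
  simp [rr, LinearMap.sum_apply]

theorem rr_mem (l : M →ₗ[k] k) (v : M) (s : ℕ) (m : M) : rr x l ϖ v s m ∈ cyc x v := by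
  rw [rr_apply]
  exact Submodule.sum_mem _ fun i _ => Submodule.smul_mem _ _ (pow_mem_cyc x v i)

theorem rr_comm (hxϖ : x * ϖ = ϖ * x) (l : M →ₗ[k] k) {v : M} {s : ℕ} (hϖ : x ^ (s + 1) * ϖ = 0)
    (hv : (x ^ (s + 1)) v = 0) : rr x l ϖ v s * x = x * rr x l ϖ v s := by
  refine LinearMap.ext fun m => ?_
  rw [Module.End.mul_apply, Module.End.mul_apply, rr_apply, rr_apply, map_sum]
  rw [Finset.sum_range_succ' (fun i => l ((x ^ (s - i)) (ϖ (x m))) • (x ^ i) v)]
  rw [Finset.sum_range_succ (fun i => x (l ((x ^ (s - i)) (ϖ m)) • (x ^ i) v))]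
  have hϖx : ϖ (x m) = x (ϖ m) := by
    rw [← Module.End.mul_apply, ← hxϖ, Module.End.mul_apply]
  have h0 : l ((x ^ (s - 0)) (ϖ (x m))) • (x ^ 0) v = 0 := by
    have h1 : (x ^ (s - 0)) (ϖ (x m)) = (x ^ (s + 1) * ϖ) m := by
      rw [hϖx, Nat.sub_zero, ← Module.End.mul_apply, ← pow_succ, Module.End.mul_apply]
    rw [h1, hϖ]
    simp
  have h1 : x (l ((x ^ (s - s)) (ϖ m)) • (x ^ s) v) = 0 := by
    rw [map_smul, self_pow_apply, hv, smul_zero]
  rw [h0, h1, add_zero, add_zero]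
  refine Finset.sum_congr rfl fun i hi => ?_
  have hi' : i < s := Finset.mem_range.1 hi
  have h2 : (x ^ (s - (i + 1))) (ϖ (x m)) = (x ^ (s - i)) (ϖ m) := by
    rw [hϖx, ← Module.End.mul_apply, ← pow_succ]
    congr 2
    omega
  rw [h2, map_smul, self_pow_apply]

theorem rr_fix (hxϖ : x * ϖ = ϖ * x) {l : M →ₗ[k] k} {v : M} {s : ℕ} (hl1 : l ((x ^ s) v) = 1)
    (hl0 : ∀ i, i ≠ s → l ((x ^ i) v) = 0) (hϖv : ϖ v = v) (hs : (x ^ (s + 1)) v = 0) {w : M}
    (hw : w ∈ cyc x v) : rr x l ϖ v s w = w := by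
  have hz : ∀ t : ℕ, s + 1 ≤ t → (x ^ t) v = 0 := by
    intro t ht
    obtain ⟨r, rfl⟩ := Nat.exists_eq_add_of_le ht
    rw [add_comm, pow_add, Module.End.mul_apply, hs, map_zero]
  refine Submodule.span_induction ?_ ?_ ?_ ?_ hw
  · rintro _ ⟨j, rfl⟩
    have hϖj : ϖ ((x ^ j) v) = (x ^ j) v := by
      rw [← Module.End.mul_apply, ← ((show Commute x ϖ from hxϖ).pow_left j).eq, Module.End.mul_apply, hϖv]
    by_cases hj : j ≤ s
    · rw [rr_apply, Finset.sum_eq_single j]
      · simp only [hϖj, pow_pow_apply]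
        have h2 : s - j + j = s := by omega
        rw [h2, hl1, one_smul]
      · intro i hi hij
        have hi' : i ≤ s := by
          have := Finset.mem_range.1 hi
          omega
        simp only [hϖj, pow_pow_apply]
        by_cases h3 : s - i + j = s
        · exfalso
          omega
        · rw [hl0 _ h3, zero_smul]
      · intro h
        exact absurd (Finset.mem_range.2 (by omega)) h
    · simp only
      rw [hz j (by omega), map_zero]
  · simp
  · intro a b _ _ ha hb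
    rw [map_add, ha, hb]
  · intro c a _ ha
    rw [map_smul, ha]

/-- The average over `y`. -/
noncomputable def avg (y r : Module.End k M) (e : ℕ) : Module.End k M :=
  (e : k)⁻¹ • ∑ i ∈ Finset.range e, y ^ i * r * y ^ (e - i)

theorem avg_comm_y (hy : y ^ e = 1) (r : Module.End k M) : avg y r e * y = y * avg y r e := by
  unfold avg
  rw [smul_mul_assoc, mul_smul_comm]
  congr 1
  rw [Finset.sum_mul, Finset.mul_sum]
  rcases Nat.eq_zero_or_pos e with rfl | he
  · simp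
  -- shift
  have h1 : ∀ i ∈ Finset.range e, y ^ i * r * y ^ (e - i) * y = y ^ i * r * (y ^ (e - i) * y) := by
    intro i _
    rw [mul_assoc]
  have hL : ∑ i ∈ Finset.range e, y ^ i * r * y ^ (e - i) * y =
      ∑ i ∈ Finset.range e, y ^ i * r * y ^ (e - i + 1) := by
    refine Finset.sum_congr rfl fun i _ => ?_
    rw [pow_succ, mul_assoc]
  have hR : ∑ i ∈ Finset.range e, y * (y ^ i * r * y ^ (e - i)) =
      ∑ i ∈ Finset.range e, y ^ (i + 1) * r * y ^ (e - i) := by
    refine Finset.sum_congr rfl fun i _ => ?_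
    rw [pow_succ', mul_assoc, mul_assoc, mul_assoc]
  rw [hL, hR]
  have h2 := Finset.sum_range_succ (fun i => y ^ i * r * y ^ (e - i + 1)) e
  have h3 := Finset.sum_range_succ' (fun i => y ^ i * r * y ^ (e - i + 1)) e
  have h4 : ∑ i ∈ Finset.range e, y ^ (i + 1) * r * y ^ (e - (i + 1) + 1) =
      ∑ i ∈ Finset.range e, y ^ (i + 1) * r * y ^ (e - i) := by
    refine Finset.sum_congr rfl fun i hi => ?_
    have hi' := Finset.mem_range.1 hi
    congr 2
    omega
  have h5 : y ^ e * r * y ^ (e - e + 1) = y ^ 0 * r * y ^ (e - 0 + 1) := by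
    simp only [Nat.sub_self, zero_add, pow_one, pow_zero, one_mul, Nat.sub_zero, pow_succ, hy, mul_one]
  rw [h2, h4, h5] at h3
  exact add_right_cancel h3

theorem pow_mul_x (hyx : y * x = ζ • (x * y)) (i : ℕ) : y ^ i * x = ζ ^ i • (x * y ^ i) := by
  induction i with
  | zero => simp
  | succ i ih =>
    rw [pow_succ, mul_assoc, hyx, mul_smul_comm, ← mul_assoc, ih, smul_mul_assoc, smul_smul, pow_succ, mul_assoc,
      mul_comm ζ]

theorem avg_comm_x (hyx : y * x = ζ • (x * y)) (hζ : ζ ^ e • x = x) {r : Module.End k M} (hr : r * x = x * r) :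
    avg y r e * x = x * avg y r e := by
  unfold avg
  rw [smul_mul_assoc, mul_smul_comm]
  congr 1
  rw [Finset.sum_mul, Finset.mul_sum]
  refine Finset.sum_congr rfl fun i hi => ?_
  have hi' : i ≤ e := (Finset.mem_range.1 hi).le
  calc y ^ i * r * y ^ (e - i) * x = y ^ i * r * (y ^ (e - i) * x) := by rw [mul_assoc]
    _ = ζ ^ (e - i) • (y ^ i * r * (x * y ^ (e - i))) := by rw [pow_mul_x hyx, mul_smul_comm]
    _ = ζ ^ (e - i) • (y ^ i * (r * x) * y ^ (e - i)) := by simp only [mul_assoc]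
    _ = ζ ^ (e - i) • ((y ^ i * x) * r * y ^ (e - i)) := by rw [hr]; simp only [mul_assoc]
    _ = ζ ^ (e - i) • (ζ ^ i • (x * y ^ i) * r * y ^ (e - i)) := by rw [pow_mul_x hyx]
    _ = (ζ ^ e • x) * (y ^ i * r * y ^ (e - i)) := by
        rw [smul_mul_assoc, smul_mul_assoc, smul_smul, smul_mul_assoc, ← pow_add, Nat.sub_add_cancel hi']
        simp only [mul_assoc]
    _ = _ := by rw [hζ]

theorem y_mem_cyc (hyx : y * x = ζ • (x * y)) {v : M} {α : k} (hv : y v = α • v) {m : M} (hm : m ∈ cyc x v) :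
    y m ∈ cyc x v := by
  -- `y x^i = ζ^i x^i y`
  have h1 : ∀ i : ℕ, y * x ^ i = ζ ^ i • (x ^ i * y) := by
    intro i
    induction i with
    | zero => simp
    | succ i ih =>
      rw [pow_succ, ← mul_assoc, ih, smul_mul_assoc, mul_assoc, hyx, mul_smul_comm, smul_smul, pow_succ, mul_assoc]
  refine Submodule.span_induction ?_ ?_ ?_ ?_ hm
  · rintro _ ⟨i, rfl⟩
    have h2 : y ((x ^ i) v) = (y * x ^ i) v := rfl
    simp only
    rw [h2, h1, LinearMap.smul_apply, Module.End.mul_apply, hv, map_smul]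
    exact Submodule.smul_mem _ _ (Submodule.smul_mem _ _ (pow_mem_cyc x v i))
  · simp
  · intro a b _ _ ha hb
    rw [map_add]
    exact Submodule.add_mem _ ha hb
  · intro c a _ ha
    rw [map_smul]
    exact Submodule.smul_mem _ _ ha

theorem y_pow_mem_cyc (hyx : y * x = ζ • (x * y)) {v : M} {α : k} (hv : y v = α • v) {m : M} (hm : m ∈ cyc x v)
    (i : ℕ) : (y ^ i) m ∈ cyc x v := by
  induction i with
  | zero => simpa using hm
  | succ i ih =>
    rw [pow_succ', Module.End.mul_apply]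
    exact y_mem_cyc hyx hv ih

/-- **Splitting off a cyclic summand.** -/
theorem exists_split [IsAlgClosed k] [FiniteDimensional k M] {q : ℕ} (hy : y ^ e = 1) (he : (e : k) ≠ 0)
    (hyx : y * x = ζ • (x * y)) (hx : x ^ q = 0) (hϖ : ϖ * ϖ = ϖ) (hxϖ : x * ϖ = ϖ * x) (hyϖ : y * ϖ = ϖ * y)
    (hne : ϖ ≠ 0) :
    ∃ (π₀ : Module.End k M) (v : M) (s : ℕ), π₀ * π₀ = π₀ ∧ π₀ * x = x * π₀ ∧ π₀ * y = y * π₀ ∧ π₀ * ϖ = π₀ ∧
      ϖ * π₀ = π₀ ∧ s < q ∧ (x ^ (s + 1)) v = 0 ∧ (x ^ s) v ≠ 0 ∧ π₀ v = v ∧ (∀ m, π₀ m ∈ cyc x v) ∧ ϖ v = v := by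
  classical
  have hex : ∃ n, x ^ n * ϖ = 0 := ⟨q, by rw [hx, zero_mul]⟩
  set n := Nat.find hex with hn
  have hn0 : x ^ n * ϖ = 0 := Nat.find_spec hex
  have hnpos : n ≠ 0 := by
    intro h
    rw [h, pow_zero, one_mul] at hn0
    exact hne hn0
  obtain ⟨s, hs⟩ := Nat.exists_eq_succ_of_ne_zero hnpos
  have hs' : x ^ s * ϖ ≠ 0 := Nat.find_min hex (by omega)
  have hsq : s < q := by
    have : n ≤ q := Nat.find_min' hex (by rw [hx, zero_mul])
    omega
  have hsemi : Module.End.IsSemisimple y := by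
    refine Module.End.isSemisimple_of_squarefree_aeval_eq_zero
      (p := Polynomial.X ^ e - Polynomial.C 1) (Polynomial.separable_X_pow_sub_C 1 he one_ne_zero).squarefree ?_
    simp [hy]
  have htop : ⨆ μ, Module.End.eigenspace y μ = ⊤ := by
    rw [← Module.End.iSup_maxGenEigenspace_eq_top y]
    refine iSup_congr fun μ => ?_
    rw [(Module.End.isFinitelySemisimple_iff_isSemisimple.2 hsemi).maxGenEigenspace_eq_eigenspace]
  obtain ⟨μ, u, hu, hu'⟩ : ∃ μ, ∃ u ∈ Module.End.eigenspace y μ, (x ^ s * ϖ) u ≠ 0 := by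
    by_contra hcon
    push Not at hcon
    apply hs'
    have h1 : (⊤ : Submodule k M) ≤ LinearMap.ker (x ^ s * ϖ) := by
      rw [← htop]
      refine iSup_le fun μ => ?_
      intro u hu
      exact hcon μ u hu
    exact LinearMap.ker_eq_top.1 (top_le_iff.1 h1)
  set v := ϖ u with hv
  have hyv : y v = μ • v := by
    have h1 : y u = μ • u := Module.End.mem_eigenspace_iff.1 hu
    rw [hv, ← Module.End.mul_apply, hyϖ, Module.End.mul_apply, h1, map_smul]
  have hϖv : ϖ v = v := by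
    rw [hv, ← Module.End.mul_apply, hϖ]
  have hxs : (x ^ s) v ≠ 0 := hu'
  have hxs1 : (x ^ (s + 1)) v = 0 := by
    have h1 : x ^ (s + 1) * ϖ = 0 := by
      have : s + 1 = n := hs.symm
      rw [this]; exact hn0
    have h2 := congrArg (fun f : Module.End k M => f u) h1
    simpa using h2
  obtain ⟨l, hl1, hl0⟩ := exists_dual_top hxs1 hxs
  set r := rr x l ϖ v s with hr
  have hrx : r * x = x * r := rr_comm hxϖ l (by
    have : s + 1 = n := hs.symm
    rw [this]; exact hn0) hxs1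
  have hrfix : ∀ w ∈ cyc x v, r w = w := fun w hw => rr_fix hxϖ hl1 hl0 hϖv hxs1 hw
  have hrmem : ∀ m, r m ∈ cyc x v := rr_mem l v s
  have hζ : ζ ^ e • x = x := by
    have h1 := pow_mul_x hyx e
    rw [hy, one_mul, mul_one] at h1
    exact h1.symm
  set π₀ := avg y r e with hπ₀
  have hπapply : ∀ m, π₀ m = (e : k)⁻¹ • ∑ i ∈ Finset.range e, (y ^ i) (r ((y ^ (e - i)) m)) := by
    intro m
    simp [hπ₀, avg, LinearMap.sum_apply, Module.End.mul_apply]
  have hπmem : ∀ m, π₀ m ∈ cyc x v := by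
    intro m
    rw [hπapply]
    exact Submodule.smul_mem _ _ (Submodule.sum_mem _ fun i _ => y_pow_mem_cyc hyx hyv (hrmem _) i)
  have hπfix : ∀ w ∈ cyc x v, π₀ w = w := by
    intro w hw
    rw [hπapply]
    have h1 : ∀ i ∈ Finset.range e, (y ^ i) (r ((y ^ (e - i)) w)) = w := by
      intro i hi
      have hi' : i ≤ e := (Finset.mem_range.1 hi).le
      rw [hrfix _ (y_pow_mem_cyc hyx hyv hw _), pow_pow_apply, Nat.add_sub_cancel' hi', hy, Module.End.one_apply]
    rw [Finset.sum_congr rfl h1, Finset.sum_const, Finset.card_range, ← Nat.cast_smul_eq_nsmul k, smul_smul,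
      inv_mul_cancel₀ he, one_smul]
  have hϖfix : ∀ w ∈ cyc x v, ϖ w = w := by
    intro w hw
    refine Submodule.span_induction ?_ ?_ ?_ ?_ hw
    · rintro _ ⟨j, rfl⟩
      simp only
      rw [← Module.End.mul_apply, ← ((show Commute x ϖ from hxϖ).pow_left j).eq, Module.End.mul_apply, hϖv]
    · simp
    · intro a b _ _ ha hb
      rw [map_add, ha, hb]
    · intro c a _ ha
      rw [map_smul, ha]
  have hrϖ : r * ϖ = r := by
    refine LinearMap.ext fun m => ?_
    rw [Module.End.mul_apply, hr, rr_apply, rr_apply]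
    simp only [← Module.End.mul_apply ϖ ϖ, hϖ]
  refine ⟨π₀, v, s, ?_, avg_comm_x hyx hζ hrx, avg_comm_y hy r, ?_, ?_, hsq, hxs1, hxs, hπfix v (self_mem_cyc x v), hπmem, hϖv⟩
  · refine LinearMap.ext fun m => ?_
    rw [Module.End.mul_apply, hπfix _ (hπmem m)]
  · refine LinearMap.ext fun m => ?_
    rw [Module.End.mul_apply, hπapply, hπapply]
    congr 1
    refine Finset.sum_congr rfl fun i _ => ?_
    congr 1
    rw [← Module.End.mul_apply _ ϖ, ((show Commute y ϖ from hyϖ).pow_left (e - i)).eq, Module.End.mul_apply,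
      ← Module.End.mul_apply r, hrϖ]
  · refine LinearMap.ext fun m => ?_
    rw [Module.End.mul_apply, hϖfix _ (hπmem m)]

theorem x_pow_ne_of_cyc {v : M} {q s : ℕ} {m : M} (hm : m ∈ cyc x v) (hs : s + 1 < q) (hv : (x ^ (s + 1)) v = 0) :
    (x ^ (q - 1)) m = 0 := by
  have hz : ∀ t : ℕ, s + 1 ≤ t → (x ^ t) v = 0 := by
    intro t ht
    obtain ⟨r, rfl⟩ := Nat.exists_eq_add_of_le ht
    rw [add_comm, pow_add, Module.End.mul_apply, hv, map_zero]
  refine Submodule.span_induction ?_ ?_ ?_ ?_ hm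
  · rintro _ ⟨j, rfl⟩
    simp only
    rw [pow_pow_apply]
    exact hz _ (by omega)
  · simp
  · intro a b _ _ ha hb
    rw [map_add, ha, hb, add_zero]
  · intro c a _ ha
    rw [map_smul, ha, smul_zero]

/-- The recursion. -/
theorem exists_sep_aux [IsAlgClosed k] [FiniteDimensional k M] {q : ℕ} (hy : y ^ e = 1) (he : (e : k) ≠ 0)
    (hyx : y * x = ζ • (x * y)) (hx : x ^ q = 0) (n : ℕ) :
    ∀ ϖ : Module.End k M, finrank k (LinearMap.range ϖ) ≤ n → ϖ * ϖ = ϖ → x * ϖ = ϖ * x → y * ϖ = ϖ * y →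
      ∀ w₁ w₂ : M, x w₁ = 0 → x w₂ = 0 → ϖ w₁ = w₁ → ϖ w₂ = w₂ →
      (∀ a b : k, a • w₁ + b • w₂ ∈ LinearMap.range (x ^ (q - 1)) → a = 0 ∧ b = 0) →
      ∃ (π : Module.End k M) (w₁' w₂' : M), π * π = π ∧ π * x = x * π ∧ π * y = y * π ∧ π * ϖ = π ∧ ϖ * π = π ∧
        x w₁' = 0 ∧ x w₂' = 0 ∧ π w₁' = w₁' ∧ π w₂' = 0 ∧ ϖ w₂' = w₂' ∧ w₁' ∉ LinearMap.range (x ^ (q - 1)) ∧
        w₂' ∉ LinearMap.range (x ^ (q - 1)) := by
  classical
  induction n with
  | zero =>
    intro ϖ hr hϖ hxϖ hyϖ w₁ w₂ h1 h2 h3 h4 hind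
    exfalso
    have hrange : LinearMap.range ϖ = ⊥ := Submodule.finrank_eq_zero.1 (by omega)
    have hϖ0 : ϖ = 0 := LinearMap.range_eq_bot.1 hrange
    have hw : w₁ = 0 := by rw [← h3, hϖ0]; rfl
    have hw2 : w₂ = 0 := by rw [← h4, hϖ0]; rfl
    have := (hind 1 0 (by rw [hw, hw2]; simp)).1
    exact one_ne_zero this
  | succ n ih =>
    intro ϖ hr hϖ hxϖ hyϖ w₁ w₂ h1 h2 h3 h4 hind
    have hw10 : w₁ ≠ 0 := by
      intro hw
      have := (hind 1 0 (by rw [hw]; simp)).1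
      exact one_ne_zero this
    have hne : ϖ ≠ 0 := by
      intro h0
      apply hw10
      rw [← h3, h0]
      rfl
    obtain ⟨π₀, v, s, hπ, hπx, hπy, hπϖ, hϖπ, hsq, hs1, hs0, hπv, hπm, hϖv⟩ :=
      exists_split (q := q) hy he hyx hx hϖ hxϖ hyϖ hne
    have hker : ∀ w, x w = 0 → ∃ c : k, π₀ w = c • (x ^ s) v := by
      intro w hw
      apply eq_smul_of_mem_cyc hs1 hs0 (hπm w)
      rw [← Module.End.mul_apply, ← hπx, Module.End.mul_apply, hw, map_zero]
    obtain ⟨c₁, hc₁⟩ := hker w₁ h1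
    obtain ⟨c₂, hc₂⟩ := hker w₂ h2
    by_cases hsq' : s + 1 < q
    · -- not free
      have hπxs : π₀ ((x ^ s) v) = (x ^ s) v := by
        rw [← Module.End.mul_apply, ((show Commute π₀ x from hπx).pow_right s).eq, Module.End.mul_apply, hπv]
      have hnot : (x ^ s) v ∉ LinearMap.range (x ^ (q - 1)) := by
        rintro ⟨m, hm⟩
        apply hs0
        rw [← hπxs, ← hm, ← Module.End.mul_apply, ((show Commute π₀ x from hπx).pow_right (q - 1)).eq,
          Module.End.mul_apply]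
        exact x_pow_ne_of_cyc (hπm m) hsq' hs1
      obtain ⟨a, b, hab, hπw⟩ : ∃ a b : k, (a ≠ 0 ∨ b ≠ 0) ∧ a • c₁ + b • c₂ = 0 := by
        by_cases hc : c₁ = 0
        · exact ⟨1, 0, Or.inl one_ne_zero, by simp [hc]⟩
        · exact ⟨c₂, -c₁, Or.inr (neg_ne_zero.2 hc), by simp; ring⟩
      refine ⟨π₀, (x ^ s) v, a • w₁ + b • w₂, hπ, hπx, hπy, hπϖ, hϖπ, ?_, ?_, hπxs, ?_, ?_, hnot, ?_⟩
      · rw [self_pow_apply, hs1]
      · simp [h1, h2]
      · rw [map_add, map_smul, map_smul, hc₁, hc₂, smul_smul, smul_smul, ← add_smul]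
        simp only [smul_eq_mul] at hπw
        rw [hπw, zero_smul]
      · rw [map_add, map_smul, map_smul, h3, h4]
      · intro hmem
        obtain ⟨h5, h6⟩ := hind a b hmem
        rcases hab with h7 | h7
        · exact h7 h5
        · exact h7 h6
    · -- free
      have hsq2 : s = q - 1 := by omega
      have hmemtop : (x ^ s) v ∈ LinearMap.range (x ^ (q - 1)) := by
        rw [hsq2]; exact ⟨v, rfl⟩
      set ϖ' := ϖ - π₀ with hϖ'
      have hϖ'2 : ϖ' * ϖ' = ϖ' := by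
        rw [hϖ', sub_mul, mul_sub, mul_sub, hϖ, hϖπ, hπϖ, hπ]
        abel
      have hxϖ' : x * ϖ' = ϖ' * x := by
        rw [hϖ', mul_sub, sub_mul, hxϖ, hπx]
      have hyϖ' : y * ϖ' = ϖ' * y := by
        rw [hϖ', mul_sub, sub_mul, hyϖ, hπy]
      have hlt : finrank k (LinearMap.range ϖ') < finrank k (LinearMap.range ϖ) := by
        apply Submodule.finrank_lt_finrank_of_lt
        refine lt_of_le_of_ne ?_ ?_
        · rintro _ ⟨m, rfl⟩
          refine ⟨ϖ' m, ?_⟩
          rw [← Module.End.mul_apply, hϖ', mul_sub, hϖ, hϖπ]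
        · intro heq
          have hv0 : v ≠ 0 := by
            intro hv
            apply hs0
            rw [hv, map_zero]
          have hvmem : v ∈ LinearMap.range ϖ := ⟨v, hϖv⟩
          rw [← heq] at hvmem
          obtain ⟨m, hm⟩ := hvmem
          apply hv0
          have h5 : ϖ' v = v := by
            rw [← hm, ← Module.End.mul_apply, hϖ'2]
          have h6 : ϖ' v = 0 := by
            rw [hϖ', LinearMap.sub_apply, hϖv, hπv, sub_self]
          rw [← h5, h6]
      have hr' : finrank k (LinearMap.range ϖ') ≤ n := by omega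
      have hw' : ∀ w, x w = 0 → ϖ w = w → ϖ' (w - π₀ w) = w - π₀ w := by
        intro w _ hw
        have h5 : ϖ (π₀ w) = π₀ w := by
          rw [← Module.End.mul_apply, hϖπ]
        have h6 : π₀ (π₀ w) = π₀ w := by
          rw [← Module.End.mul_apply, hπ]
        rw [hϖ', LinearMap.sub_apply, map_sub, map_sub, hw, h5, h6]
        abel
      have hxw' : ∀ w, x w = 0 → x (w - π₀ w) = 0 := by
        intro w hw
        rw [map_sub, hw, ← Module.End.mul_apply, ← hπx, Module.End.mul_apply, hw, map_zero, sub_zero]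
      obtain ⟨π, w₁', w₂', h5, h6, h7, h8, h9, h10, h11, h12, h13, h13', h14, h15⟩ := ih ϖ' hr' hϖ'2 hxϖ' hyϖ'
        (w₁ - π₀ w₁) (w₂ - π₀ w₂) (hxw' w₁ h1) (hxw' w₂ h2) (hw' w₁ h1 h3) (hw' w₂ h2 h4) (by
          intro a b hmem
          apply hind a b
          have h5 : a • w₁ + b • w₂ = (a • (w₁ - π₀ w₁) + b • (w₂ - π₀ w₂)) + (a * c₁ + b * c₂) • (x ^ s) v := by
            rw [hc₁, hc₂, add_smul, smul_sub, smul_sub, smul_smul, smul_smul]
            abel
          rw [h5]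
          exact Submodule.add_mem _ hmem (Submodule.smul_mem _ _ hmemtop))
      refine ⟨π, w₁', w₂', h5, h6, h7, ?_, ?_, h10, h11, h12, h13, ?_, h14, h15⟩
      · calc π * ϖ = π * ϖ' * ϖ := by rw [h8]
          _ = π * (ϖ' * ϖ) := by rw [mul_assoc]
          _ = π * ϖ' := by rw [hϖ', sub_mul, hϖ, hπϖ]
          _ = π := h8
      · calc ϖ * π = ϖ * (ϖ' * π) := by rw [h9]
          _ = (ϖ * ϖ') * π := by rw [mul_assoc]
          _ = ϖ' * π := by rw [hϖ', mul_sub, hϖ, hϖπ]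
          _ = π := h9
      · have h16 : ϖ * ϖ' = ϖ' := by rw [hϖ', mul_sub, hϖ, hϖπ]
        rw [← h13', ← Module.End.mul_apply, h16]

/-- The dichotomy lemma on Tate quotients. -/
theorem exists_h {π : Module.End k M} {q c : ℕ} (hπ : π * π = π) (hπx : π * x = x * π) (hc1 : 1 ≤ c) (hc2 : 2 * c ≤ q)
    {w : M} (hxw : x w = 0) (hπw : π w = w) (hw : w ∉ LinearMap.range (x ^ (q - 1))) :
    ∃ h : M, (x ^ c) h = 0 ∧ π h = h ∧ h ∉ LinearMap.range (x ^ (q - c)) := by
  by_contra hcon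
  push Not at hcon
  have hwc : (x ^ c) w = 0 := by
    obtain ⟨c', rfl⟩ : ∃ c', c = c' + 1 := ⟨c - 1, by omega⟩
    rw [pow_succ, Module.End.mul_apply, hxw, map_zero]
  obtain ⟨v, hv⟩ := hcon w hwc hπw
  set v₁ := π v with hv₁
  have hπv₁ : π v₁ = v₁ := by rw [hv₁, ← Module.End.mul_apply, hπ]
  have hcomm : ∀ n, π ((x ^ n) v) = (x ^ n) (π v) := by
    intro n
    rw [← Module.End.mul_apply, ((show Commute π x from hπx).pow_right n).eq, Module.End.mul_apply]
  have hw1 : w = (x ^ (q - c)) v₁ := by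
    rw [hv₁, ← hcomm, hv, hπw]
  have hcomm1 : ∀ n, π ((x ^ n) v₁) = (x ^ n) v₁ := by
    intro n
    rw [← Module.End.mul_apply, ((show Commute π x from hπx).pow_right n).eq, Module.End.mul_apply, hπv₁]
  set h' := (x ^ (q - 2 * c + 1)) v₁ with hh'
  have h1 : (x ^ c) h' = 0 := by
    rw [hh', pow_pow_apply]
    have h2 : c + (q - 2 * c + 1) = (q - c) + 1 := by omega
    rw [h2, pow_succ', Module.End.mul_apply, ← hw1, hxw]
  obtain ⟨v₂, hv₂⟩ := hcon h' h1 (hcomm1 _)
  apply hw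
  refine ⟨v₂, ?_⟩
  have h3 : (x ^ (q - 1)) v₂ = (x ^ (c - 1)) ((x ^ (q - c)) v₂) := by
    rw [pow_pow_apply]
    congr 2
    omega
  rw [h3, hv₂, hh', pow_pow_apply, hw1]
  congr 2
  omega

/-- **Graded Jordan decomposition: the conclusion.** -/
theorem exists_sep_h [IsAlgClosed k] [FiniteDimensional k M] {q c : ℕ} (hy : y ^ e = 1) (he : (e : k) ≠ 0)
    (hyx : y * x = ζ • (x * y)) (hx : x ^ q = 0) (hq : 0 < q) (hc1 : 1 ≤ c) (hc2 : 2 * c ≤ q)
    (hϖ : ϖ * ϖ = ϖ) (hxϖ : x * ϖ = ϖ * x) (hyϖ : y * ϖ = ϖ * y)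
    (hK : finrank k (LinearMap.range (x ^ (q - 1))) + 2 ≤ finrank k ↥(LinearMap.ker x ⊓ LinearMap.range ϖ)) :
    ∃ (π : Module.End k M) (h₁ h₂ : M), π * π = π ∧ π * x = x * π ∧ π * y = y * π ∧ π * ϖ = π ∧ ϖ * π = π ∧
      (x ^ c) h₁ = 0 ∧ (x ^ c) h₂ = 0 ∧ π h₁ = h₁ ∧ π h₂ = 0 ∧ ϖ h₂ = h₂ ∧
      h₁ ∉ LinearMap.range (x ^ (q - c)) ∧ h₂ ∉ LinearMap.range (x ^ (q - c)) := by
  classical
  set U := LinearMap.range (x ^ (q - 1)) with hU
  set Z := LinearMap.ker x ⊓ LinearMap.range ϖ with hZ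
  obtain ⟨w₁, hw₁, hw₁'⟩ : ∃ w₁ ∈ Z, w₁ ∉ U := by
    by_contra hcon
    push Not at hcon
    have := Submodule.finrank_mono (show Z ≤ U from hcon)
    omega
  set U' := U ⊔ Submodule.span k {w₁} with hU'
  obtain ⟨w₂, hw₂, hw₂'⟩ : ∃ w₂ ∈ Z, w₂ ∉ U' := by
    by_contra hcon
    push Not at hcon
    have h1 := Submodule.finrank_mono (show Z ≤ U' from hcon)
    have h2 := Submodule.finrank_add_le_finrank_add_finrank U (Submodule.span k {w₁})
    have h3 : finrank k (Submodule.span k {w₁}) ≤ 1 := by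
      have hw10 : w₁ ≠ 0 := by
        rintro rfl
        exact hw₁' U.zero_mem
      rw [finrank_span_singleton hw10]
    have h4 : finrank k ↥U' = finrank k ↥(U ⊔ Submodule.span k {w₁}) := rfl
    omega
  have hind : ∀ a b : k, a • w₁ + b • w₂ ∈ U → a = 0 ∧ b = 0 := by
    intro a b hmem
    have hb : b = 0 := by
      by_contra hb
      apply hw₂'
      have h1 : w₂ = b⁻¹ • (a • w₁ + b • w₂) - (b⁻¹ * a) • w₁ := by
        rw [smul_add, smul_smul, smul_smul, inv_mul_cancel₀ hb, one_smul]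
        abel
      rw [h1]
      exact Submodule.sub_mem _ (Submodule.mem_sup_left (Submodule.smul_mem _ _ hmem))
        (Submodule.mem_sup_right (Submodule.smul_mem _ _ (Submodule.mem_span_singleton_self _)))
    refine ⟨?_, hb⟩
    by_contra ha
    apply hw₁'
    rw [hb, zero_smul, add_zero] at hmem
    have := Submodule.smul_mem _ a⁻¹ hmem
    rwa [smul_smul, inv_mul_cancel₀ ha, one_smul] at this
  have hfix : ∀ w ∈ Z, ϖ w = w := by
    intro w hw
    obtain ⟨m, hm⟩ := hw.2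
    rw [← hm, ← Module.End.mul_apply, hϖ]
  obtain ⟨π, w₁', w₂', h5, h6, h7, h8, h9, h10, h11, h12, h13, h13', h14, h15⟩ :=
    exists_sep_aux (q := q) hy he hyx hx _ ϖ le_rfl hϖ hxϖ hyϖ
      w₁ w₂ hw₁.1 hw₂.1 (hfix _ hw₁) (hfix _ hw₂) hind
  obtain ⟨h₁, h16, h17, h18⟩ := exists_h h5 h6 hc1 hc2 h10 h12 h14
  have h5' : (ϖ - π) * (ϖ - π) = ϖ - π := by
    rw [sub_mul, mul_sub, mul_sub, h5, h8, h9, hϖ]
    abel
  have h6' : (ϖ - π) * x = x * (ϖ - π) := by
    rw [sub_mul, mul_sub, h6, hxϖ]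
  obtain ⟨h₂, h19, h20, h21⟩ := exists_h h5' h6' hc1 hc2 h11 (by
    rw [LinearMap.sub_apply, h13', h13, sub_zero]) h15
  have h22 : π h₂ = 0 := by
    have h23 : π ((ϖ - π) h₂) = π h₂ := by rw [h20]
    rw [← Module.End.mul_apply, mul_sub, h8, h5, sub_self] at h23
    exact h23.symm
  have h24 : ϖ h₂ = h₂ := by
    have h25 : ϖ ((ϖ - π) h₂) = ϖ h₂ := by rw [h20]
    rw [← Module.End.mul_apply, mul_sub, hϖ, h9] at h25
    rw [← h25, h20]
  exact ⟨π, h₁, h₂, h5, h6, h7, h8, h9, h16, h19, h17, h22, h24, h18, h21⟩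

end Split

end Cfsg.Agent.Lib.DcJordan
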