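import Mathlib
import Cfsg.Agent.Lib.CornerMod
import Cfsg.Agent.Lib.CycRankOne
import Cfsg.Agent.Lib.DcJordan

/-!
# Structure of an algebra with one simple factor and bounded modules

If modules with local endomorphism rings are bounded, then a corner at a primitive idempotent is a truncated
polynomial ring, generated by (the corner part of) a central element, and the algebra has a system of matrix units
over the corner.
-/

set_option autoImplicit false
set_option linter.unusedSectionVars false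
set_option linter.unusedVariables false
set_option linter.style.haveILetI false

namespace Cfsg.Agent.Lib.DcPackA

open Module Polynomial Cfsg.Agent.Lib.MatCorner Cfsg.Agent.Lib.LocalCore4 Cfsg.Agent.Lib.CornerMod

universe u v

section Main

attribute [local instance] cornerAlg

variable {F : Type v} {A : Type u} [Field F] [Ring A] [Algebra F A] [FiniteDimensional F A]

/-- **Bounded modules force one generator of the radical of the corner.** -/
theorem exists_gen_of_bounded (C : ℕ)
    (hC : ∀ (W : Type (max u v)) [AddCommGroup W] [Module F W] [FiniteDimensional F W]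
      (ρ : A →ₐ[F] Module.End F W),
      (∀ ψ : Module.End F W, (∀ a, ψ * ρ a = ρ a * ψ) →
        ∃ c : F, IsNilpotent (ψ - algebraMap F _ c)) →
      finrank F W ≤ C)
    {e : A} (he : IsIdempotentElem e) {ι : Type*} [Fintype ι] {α β : ι → A}
    (h1 : ∑ i, α i * e * β i = 1)
    (N : Submodule F A) (hNl : ∀ a x, x ∈ N → a * x ∈ N) (hNr : ∀ a x, x ∈ N → x * a ∈ N)
    (heN : e ∉ N) (hdec : ∀ a, ∃ c : F, e * a * e - c • e ∈ N) {m : ℕ} (hm : N ^ m = ⊥) :
    ∃ x ∈ JC he N, JC he N ≤ Submodule.span F {x} ⊔ JC he N ^ 2 := by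
  classical
  have hJl : ∀ (x y : he.Corner), y ∈ JC he N → x * y ∈ JC he N := fun x y hy => hNl x.1 y.1 hy
  have hJr : ∀ (x y : he.Corner), y ∈ JC he N → y * x ∈ JC he N := fun x y hy => hNr x.1 y.1 hy
  have h1J : (1 : he.Corner) ∉ JC he N := heN
  have hdec' : ∀ x : he.Corner, ∃ c : F, x - c • 1 ∈ JC he N := by
    intro x
    obtain ⟨c, hc⟩ := hdec x.1
    refine ⟨c, ?_⟩
    have hx := ((Subsemigroup.mem_corner_iff he).mp x.2)
    rw [mem_JC]
    have h2 : (x - c • (1 : he.Corner)).1 = e * x.1 * e - c • e := by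
      rw [hx.1, hx.2]
      change x.1 - (c • (1 : he.Corner)).1 = _
      rw [val_smul]
      rfl
    rw [h2]
    exact hc
  have hm' : JC he N ^ (m + 1) = ⊥ := by
    rw [eq_bot_iff]
    intro y hy
    have h2 := JC_pow he N hNl hNr m y hy
    rw [pow_succ, hm, Submodule.bot_mul, Submodule.mem_bot] at h2
    rw [Submodule.mem_bot]
    exact Subtype.ext h2
  set J := JC he N with hJ
  by_contra hgen
  push Not at hgen
  obtain ⟨j₁, hj₁, hj₁'⟩ := SetLike.not_le_iff_exists.1 (hgen 0 J.zero_mem)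
  have hj₁2 : j₁ ∉ J ^ 2 := fun h => hj₁' (Submodule.mem_sup_right h)
  obtain ⟨j₂, hj₂, hj₂'⟩ := SetLike.not_le_iff_exists.1 (hgen j₁ hj₁)
  have hj₁3 : j₁ ∉ Submodule.span F {j₂} ⊔ J ^ 2 := by
    intro h
    obtain ⟨y, hy, w, hw, hyw⟩ := Submodule.mem_sup.1 h
    obtain ⟨c, rfl⟩ := Submodule.mem_span_singleton.1 hy
    by_cases hc : c = 0
    · subst hc
      rw [zero_smul, zero_add] at hyw
      exact hj₁2 (hyw ▸ hw)
    · apply hj₂'
      have h2 : j₂ = c⁻¹ • j₁ - c⁻¹ • w := by
        rw [← hyw, smul_add, smul_smul, inv_mul_cancel₀ hc, one_smul]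
        abel
      rw [h2]
      exact Submodule.sub_mem _
        (Submodule.mem_sup_left (Submodule.smul_mem _ _ (Submodule.mem_span_singleton_self _)))
        (Submodule.mem_sup_right (Submodule.smul_mem _ _ hw))
  -- the functionals
  obtain ⟨f₂, hf₂, hf₂'⟩ := Submodule.exists_le_ker_of_notMem hj₂'
  obtain ⟨f₁, hf₁, hf₁'⟩ := Submodule.exists_le_ker_of_notMem hj₁3
  obtain ⟨f₀, hf₀, hf₀'⟩ := Submodule.exists_le_ker_of_notMem h1J
  let η : he.Corner →ₗ[F] F := (f₂ j₂)⁻¹ • f₂
  let ξ : he.Corner →ₗ[F] F := (f₁ j₁)⁻¹ • f₁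
  let φ : he.Corner →ₗ[F] F := (f₀ 1)⁻¹ • f₀
  have hη2 : η j₂ = 1 := by simp [η, hf₂]
  have hξ1 : ξ j₁ = 1 := by simp [ξ, hf₁]
  have hφ1 : φ 1 = 1 := by simp [φ, hf₀]
  have hη1 : η j₁ = 0 := by
    have h2 : f₂ j₁ = 0 := hf₂' (Submodule.mem_sup_left (Submodule.mem_span_singleton_self _))
    simp [η, h2]
  have hξ2 : ξ j₂ = 0 := by
    have h2 : f₁ j₂ = 0 := hf₁' (Submodule.mem_sup_left (Submodule.mem_span_singleton_self _))
    simp [ξ, h2]
  have hηS : ∀ y ∈ J ^ 2, η y = 0 := by
    intro y hy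
    have h2 : f₂ y = 0 := hf₂' (Submodule.mem_sup_right hy)
    simp [η, h2]
  have hξS : ∀ y ∈ J ^ 2, ξ y = 0 := by
    intro y hy
    have h2 : f₁ y = 0 := hf₁' (Submodule.mem_sup_right hy)
    simp [ξ, h2]
  have hφJ : ∀ y ∈ J, φ y = 0 := by
    intro y hy
    have h2 : f₀ y = 0 := hf₀' hy
    simp [φ, h2]
  have hpr : ∀ x, x - φ x • 1 ∈ J := by
    intro x
    obtain ⟨d, hd⟩ := hdec' x
    have h2 := hφJ _ hd
    rw [map_sub, map_smul, hφ1, smul_eq_mul, mul_one, sub_eq_zero] at h2
    rw [h2]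
    exact hd
  have hdecomp : ∀ x y : he.Corner, x * y =
      (φ x * φ y) • 1 + φ x • (y - φ y • 1) + φ y • (x - φ x • 1) + (x - φ x • 1) * (y - φ y • 1) := by
    intro x y
    simp only [sub_mul, mul_sub, smul_mul_assoc, mul_smul_comm, one_mul, mul_one, smul_sub, smul_smul]
    rw [mul_comm (φ y) (φ x)]
    abel
  have hφm : ∀ x y, φ (x * y) = φ x * φ y := by
    intro x y
    rw [hdecomp x y, map_add, map_add, map_add, map_smul, map_smul, map_smul, hφ1, hφJ _ (hpr y),
      hφJ _ (hpr x), hφJ _ (hJl _ _ (hpr y))]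
    simp
  let c₀ : he.Corner →ₐ[F] F := AlgHom.ofLinearMap φ hφ1 hφm
  have hc₀ : ∀ x, c₀ x = φ x := fun x => rfl
  let n := C + 1
  have hn : 0 < n := Nat.succ_pos C
  haveI := finite_TT (F := F) n hn
  let pr : he.Corner →ₗ[F] he.Corner := LinearMap.id - (LinearMap.toSpanSingleton F _ 1) ∘ₗ φ
  have hpra : ∀ x, pr x = x - φ x • 1 := fun x => rfl
  let D : he.Corner →ₗ[F] TT F n :=
    (LinearMap.toSpanSingleton F _ 1) ∘ₗ ξ ∘ₗ pr + (LinearMap.toSpanSingleton F _ (tt F n)) ∘ₗ η ∘ₗ pr
  have hDa : ∀ x, D x = ξ (pr x) • 1 + η (pr x) • tt F n := fun x => rfl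
  have hprm : ∀ x y, pr (x * y) = φ x • pr y + φ y • pr x + pr x * pr y := by
    intro x y
    rw [hpra, hpra, hpra, hφm]
    conv_lhs => rw [hdecomp x y]
    abel
  have hmS : ∀ x y, pr x * pr y ∈ J ^ 2 := by
    intro x y
    rw [pow_two]
    exact Submodule.mul_mem_mul (hpr x) (hpr y)
  have hD : ∀ x y, D (x * y) = c₀ x • D y + c₀ y • D x := by
    intro x y
    rw [hDa, hDa, hDa, hprm, hc₀, hc₀, map_add, map_add, map_add, map_add, map_smul, map_smul,
      map_smul, map_smul, hξS _ (hmS x y), hηS _ (hmS x y)]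
    simp only [smul_eq_mul, add_zero, smul_add, add_smul, mul_smul]
    abel
  let ν := kron c₀ D hD
  have hφj : ∀ y ∈ J, pr y = y := by
    intro y hy
    rw [hpra, hφJ y hy]
    have h2 : (0 : F) • (1 : he.Corner) = 0 := by
      apply Subtype.ext
      rw [val_smul, zero_smul]
      rfl
    rw [h2, sub_zero]
  have hν₁ : ∀ v, ν j₁ v = (0, v.1) := by
    intro v
    rw [kron_apply, hc₀, hφJ _ hj₁, zero_smul, zero_smul, zero_add, hDa, hφj _ hj₁, hξ1, hη1, one_smul,
      zero_smul, add_zero, one_mul]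
  have hν₂ : ∀ v, ν j₂ v = (0, tt F n * v.1) := by
    intro v
    rw [kron_apply, hc₀, hφJ _ hj₂, zero_smul, zero_smul, zero_add, hDa, hφj _ hj₂, hξ2, hη2, one_smul,
      zero_smul, zero_add]
  have hV : ∀ ψ : Module.End F (TT F n × TT F n), (∀ l, ψ * ν l = ν l * ψ) →
      ∃ c : F, IsNilpotent (ψ - algebraMap F _ c) := by
    intro ψ hψ
    refine kron_local n ψ (fun v => ?_) (fun v => ?_)
    · have h2 := congrArg (fun T => T v) (hψ j₁)
      simp only [Module.End.mul_apply, hν₁] at h2
      exact h2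
    · have h2 := congrArg (fun T => T v) (hψ j₂)
      simp only [Module.End.mul_apply, hν₂] at h2
      exact h2
  have hloc := induced_local he ν h1 hV
  have hbd := hC (WW he ν) (rhoW he ν) hloc
  have hle := LinearMap.finrank_le_finrank_of_injective (iotaW_injective he ν)
  rw [Module.finrank_prod, finrank_TT] at hle
  omega

end Main

section Span

variable {F Λ : Type*} [Field F] [Ring Λ] [Algebra F Λ] {J : Submodule F Λ}

theorem J_le_span_pow (hJl : ∀ a x, x ∈ J → a * x ∈ J) {x : Λ} (hx : x ∈ J) (hJ : J ≤ Submodule.span F {x} ⊔ J ^ 2)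
    {m : ℕ} (hm : J ^ m = ⊥) : J ≤ Submodule.span F (Set.range fun i : ℕ => x ^ (i + 1)) := by
  have h1 : ∀ n : ℕ, J ^ (n + 1) ≤ Submodule.span F {x ^ (n + 1)} ⊔ J ^ (n + 2) := by
    intro n
    induction n with
    | zero =>
      rw [zero_add, pow_one, pow_one]
      exact hJ
    | succ n ih =>
      rw [pow_succ' J (n + 1)]
      refine (mul_le_mul' hJ ih).trans ?_
      rw [Submodule.sup_mul, Submodule.mul_sup, Submodule.mul_sup]
      refine sup_le (sup_le ?_ ?_) (sup_le ?_ ?_)
      · rw [Submodule.span_mul_span, Set.singleton_mul_singleton, ← pow_succ']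
        exact le_sup_left
      · refine le_trans ?_ le_sup_right
        rw [Submodule.mul_le]
        intro a ha b hb
        have ha' : a ∈ J := ((Submodule.span_singleton_le_iff_mem _ _).2 hx) ha
        have := mem_pow_mul (i := 1) (j := n + 2) (by simpa using ha') hb
        rwa [show 1 + (n + 2) = n + 1 + 2 by ring] at this
      · refine le_trans ?_ le_sup_right
        rw [Submodule.mul_le]
        intro a ha b hb
        have hb' : b ∈ J ^ (n + 1) := by
          obtain ⟨c, rfl⟩ := Submodule.mem_span_singleton.1 hb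
          exact Submodule.smul_mem _ _ (Submodule.pow_mem_pow _ hx _)
        have := mem_pow_mul ha hb'
        rwa [show 2 + (n + 1) = n + 1 + 2 by ring] at this
      · refine le_trans ?_ le_sup_right
        rw [Submodule.mul_le]
        intro a ha b hb
        have := mem_pow_mul ha hb
        rw [show 2 + (n + 2) = (n + 2) + 2 by ring] at this
        exact pow_succ_le hJl _ this
  let S : Submodule F Λ := Submodule.span F (Set.range fun i : ℕ => x ^ (i + 1))
  have h2 : ∀ n : ℕ, J ≤ S ⊔ J ^ (n + 1) := by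
    intro n
    induction n with
    | zero =>
      rw [zero_add, pow_one]
      exact le_sup_right
    | succ n ih =>
      refine ih.trans (sup_le le_sup_left ((h1 n).trans (sup_le ?_ le_sup_right)))
      exact le_trans (Submodule.span_mono (by
        rintro _ rfl
        exact ⟨n, rfl⟩)) le_sup_left
  have := h2 m
  rwa [pow_succ, hm, Submodule.bot_mul, sup_bot_eq] at this

end Span

section Struct

attribute [local instance] cornerAlg

variable {F : Type v} {A : Type u} [Field F] [Ring A] [Algebra F A] [FiniteDimensional F A]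

theorem corner_pow_val {e : A} (he : IsIdempotentElem e) (x : he.Corner) (n : ℕ) :
    (x ^ (n + 1)).1 = x.1 ^ (n + 1) := by
  induction n with
  | zero => simp
  | succ n ih =>
    rw [pow_succ, mul_val, ih, ← pow_succ]

/-- **Structure of an algebra with one simple factor and bounded modules.** -/
theorem exists_struct [IsAlgClosed F] [Nontrivial A] (a₀ : A)
    (hT : ∀ τ : A →ₗ[F] F, IsTr τ → τ a₀ = 0 → τ = 0) (C : ℕ)
    (hC : ∀ (W : Type (max u v)) [AddCommGroup W] [Module F W] [FiniteDimensional F W]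
      (ρ : A →ₐ[F] Module.End F W),
      (∀ ψ : Module.End F W, (∀ a, ψ * ρ a = ρ a * ψ) →
        ∃ c : F, IsNilpotent (ψ - algebraMap F _ c)) →
      finrank F W ≤ C) :
    ∃ (g : ℕ) (e z : A) (X Y : Fin g → A), 0 < g ∧ e * e = e ∧ e ≠ 0 ∧
      (∀ i j, Y i * X j = if i = j then e else 0) ∧ ∑ j, X j * Y j = 1 ∧
      (∀ j, X j * e = X j) ∧ (∀ j, e * Y j = Y j) ∧ (∀ b, z * b = b * z) ∧
      (∀ a, ∃ c : F[X], e * a * e = aeval z c * e) ∧ IsNilpotent z ∧
      (∀ W : Submodule F A, (∀ a x, x ∈ W → a * x ∈ W) → (∀ a x, x ∈ W → x * a ∈ W) →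
        (1 : A) ∉ W → finrank F W + g ^ 2 ≤ finrank F A) := by
  classical
  have : IsArtinianRing A := IsArtinianRing.of_finite F A
  obtain ⟨g, hg, π, hπ, hk⟩ := exists_mat a₀ hT
  obtain ⟨m, hm⟩ : IsNilpotent (Ring.jacobson A) := IsSemiprimaryRing.isNilpotent
  let N : Submodule F A := LinearMap.ker π.toLinearMap
  have memN : ∀ x, x ∈ N ↔ π x = 0 := fun x => by simp [N]
  have hNl : ∀ a x, x ∈ N → a * x ∈ N := fun a x hx => by
    rw [memN] at hx ⊢; rw [map_mul, hx, mul_zero]
  have hNr : ∀ a x, x ∈ N → x * a ∈ N := fun a x hx => by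
    rw [memN] at hx ⊢; rw [map_mul, hx, zero_mul]
  have hNJ : ∀ n : ℕ, ∀ x ∈ N ^ n, x ∈ (Ring.jacobson A) ^ n := by
    intro n
    induction n with
    | zero =>
      intro x _
      rw [Submodule.pow_zero, Ideal.one_eq_top]
      exact Submodule.mem_top
    | succ n ih =>
      intro x hx
      rw [pow_succ'] at hx
      refine Submodule.mul_induction_on (C := fun r => r ∈ (Ring.jacobson A) ^ (n + 1)) hx
        (fun u hu v hv => ?_) (fun a b ha hb => add_mem ha hb)
      rw [Ideal.IsTwoSided.pow_succ]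
      exact Ideal.mul_mem_mul ((hk u).1 ((memN u).1 hu)) (ih v hv)
  have hm' : N ^ m = ⊥ := by
    rw [eq_bot_iff]
    intro x hx
    have := hNJ m x hx
    rw [hm] at this
    simpa using this
  have hnilp : ∀ x, π x = 0 → IsNilpotent x := by
    intro x hx
    refine ⟨m, ?_⟩
    have h1 : x ^ m ∈ N ^ m := Submodule.pow_mem_pow _ ((memN x).2 hx) _
    rw [hm'] at h1
    simpa using h1
  -- matrix units
  let i₀ : Fin g := ⟨0, Nat.pos_of_ne_zero (NeZero.ne g)⟩
  let E : Fin g → Fin g → Matrix (Fin g) (Fin g) F := fun i j => Matrix.single i j 1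
  have hEE : ∀ i j r s, E i j * E r s = if j = r then E i s else 0 := by
    intro i j r s
    by_cases h : j = r
    · subst h; simp [E, Matrix.single_mul_single_same]
    · simp [E, h, Matrix.single_mul_single_of_ne]
  obtain ⟨e, he, hπe⟩ := exists_isIdempotentElem_eq_of_ker_isNilpotent
      (π : A →+* Matrix (Fin g) (Fin g) F)
      (fun x hx => hnilp x (by simpa [RingHom.mem_ker] using hx))
      (E i₀ i₀) (by obtain ⟨a, ha⟩ := hπ (E i₀ i₀); exact ⟨a, ha⟩)
      (by unfold IsIdempotentElem; rw [hEE]; simp)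
  replace hπe : π e = E i₀ i₀ := hπe
  have he' : e * e = e := he
  have hE0 : E i₀ i₀ ≠ 0 := by
    intro h
    have := congrFun (congrFun h i₀) i₀
    simp [E] at this
  have heJ : π e ≠ 0 := by
    rw [hπe]
    exact hE0
  have hdec : ∀ a, ∃ c : F, π (e * a * e - c • e) = 0 := by
    intro a
    refine ⟨π a i₀ i₀, ?_⟩
    rw [map_sub, map_smul, map_mul, map_mul, hπe]
    simp only [E, Matrix.single_mul_mul_single, one_mul, mul_one]
    rw [Matrix.smul_single, smul_eq_mul, mul_one, sub_self]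
  choose u₀ hu₀ using fun j : Fin g => hπ (E j i₀)
  choose w₀ hw₀ using fun j : Fin g => hπ (E i₀ j)
  obtain ⟨u, hud⟩ : ∃ u : Fin g → A, ∀ j, u j = u₀ j * e := ⟨_, fun _ => rfl⟩
  obtain ⟨w, hwd⟩ : ∃ w : Fin g → A, ∀ j, w j = e * w₀ j := ⟨_, fun _ => rfl⟩
  have hπu : ∀ j, π (u j) = E j i₀ := by
    intro j
    rw [hud, map_mul, hu₀, hπe, hEE]
    simp
  have hπw : ∀ j, π (w j) = E i₀ j := by
    intro j
    rw [hwd, map_mul, hw₀, hπe, hEE]
    simp
  have hue : ∀ j, u j * e = u j := fun j => by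
    rw [hud, mul_assoc, he']
  have hew : ∀ j, e * w j = w j := fun j => by
    rw [hwd, ← mul_assoc, he']
  set T : A := ∑ j, u j * w j with hT'
  have hunit : ∀ x, π x = 1 → IsUnit x := by
    intro x hx
    have h1 : π ((1 : A) - x) = 0 := by rw [map_sub, map_one, hx, sub_self]
    have := (hnilp _ h1).isUnit_one_sub
    simpa using this
  have hπT : π T = 1 := by
    rw [hT', map_sum, ← Matrix.sum_single_one (α := F)]
    refine Finset.sum_congr rfl fun j _ => ?_
    rw [map_mul, hπu, hπw, hEE]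
    simp [E]
  obtain ⟨⟨T', S, hTS, hST⟩, hT'eq⟩ := hunit T hπT
  have hT'eq' : T' = T := hT'eq
  rw [hT'eq'] at hTS hST
  have hπS : π S = 1 := by
    have := congrArg π hST
    rwa [map_mul, hπT, mul_one, map_one] at this
  let Xj : Fin g → A := fun j => S * u j
  let Yj : Fin g → A := w
  let n : Fin g → Fin g → A := fun i k => (if i = k then e else 0) - w i * u k
  let c : Fin g → Fin g → A := fun i j => w i * S * u j - (if i = j then e else 0)
  have hnN : ∀ i k, n i k ∈ N := by
    intro i k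
    rw [memN]
    show π ((if i = k then e else 0) - w i * u k) = 0
    rw [map_sub, map_mul, hπu, hπw, hEE]
    by_cases h : i = k
    · subst h
      simp [hπe]
    · simp [h]
  have hcN : ∀ i j, c i j ∈ N := by
    intro i j
    rw [memN]
    show π (w i * S * u j - (if i = j then e else 0)) = 0
    rw [map_sub, map_mul, map_mul, hπu, hπw, hπS, mul_one, hEE]
    by_cases h : i = j
    · subst h
      simp [hπe]
    · simp [h]
  have hMR : ∀ i j, ∑ k, (w i * u k) * (w k * S * u j) = w i * u j := by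
    intro i j
    calc ∑ k, (w i * u k) * (w k * S * u j) = w i * (∑ k, u k * w k) * S * u j := by
          rw [Finset.mul_sum, Finset.sum_mul, Finset.sum_mul]
          refine Finset.sum_congr rfl fun k _ => ?_
          simp only [mul_assoc]
      _ = w i * (T * S) * u j := by rw [hT']; simp only [mul_assoc]
      _ = _ := by rw [hTS, mul_one]
  have hcrec : ∀ i j, c i j = ∑ k, n i k * c k j := by
    intro i j
    have h1 : ∑ k, (w i * u k) * c k j = 0 := by
      show ∑ k, (w i * u k) * (w k * S * u j - (if k = j then e else 0)) = 0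
      simp only [mul_sub]
      rw [Finset.sum_sub_distrib, hMR]
      have h2 : ∑ k, (w i * u k) * (if k = j then e else 0) = w i * u j := by
        rw [Finset.sum_eq_single j]
        · rw [if_pos rfl, mul_assoc, hue]
        · intro k _ hk
          rw [if_neg hk, mul_zero]
        · simp
      rw [h2, sub_self]
    have h2 : ∑ k, (if i = k then e else 0) * c k j = e * c i j := by
      rw [Finset.sum_eq_single i]
      · rw [if_pos rfl]
      · intro k _ hk
        rw [if_neg (Ne.symm hk), zero_mul]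
      · simp
    have h3 : e * c i j = c i j := by
      show e * (w i * S * u j - (if i = j then e else 0)) = w i * S * u j - (if i = j then e else 0)
      rw [mul_sub, ← mul_assoc, ← mul_assoc, hew]
      by_cases h : i = j
      · simp [h, he']
      · simp [h]
    show c i j = ∑ k, ((if i = k then e else 0) - w i * u k) * c k j
    simp only [sub_mul]
    rw [Finset.sum_sub_distrib, h1, h2, h3, sub_zero]
  have hcpow : ∀ r i j, c i j ∈ N ^ (r + 1) := by
    intro r
    induction r with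
    | zero =>
      intro i j
      rw [zero_add, pow_one]
      exact hcN i j
    | succ r ih =>
      intro i j
      rw [hcrec i j]
      refine Submodule.sum_mem _ fun k _ => ?_
      rw [pow_succ']
      exact Submodule.mul_mem_mul (hnN i k) (ih k j)
  have hc0 : ∀ i j, c i j = 0 := by
    intro i j
    have h1 := hcpow m i j
    rw [pow_succ, hm', Submodule.bot_mul] at h1
    simpa using h1
  have hYX : ∀ i j, Yj i * Xj j = if i = j then e else 0 := by
    intro i j
    have h1 := hc0 i j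
    have h2 : w i * S * u j - (if i = j then e else 0) = 0 := h1
    rw [sub_eq_zero] at h2
    show w i * (S * u j) = _
    rw [← mul_assoc, h2]
  have hXY : ∑ j, Xj j * Yj j = 1 := by
    show ∑ j, S * u j * w j = 1
    simp only [mul_assoc]
    rw [← Finset.mul_sum, hST]
  have hXe : ∀ j, Xj j * e = Xj j := fun j => by
    show S * u j * e = S * u j
    rw [mul_assoc, hue]
  have h1' : ∑ j, Xj j * e * Yj j = 1 := by
    simp only [hXe]
    exact hXY
  have hisE : IsIdempotentElem e := he'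
  have heN : e ∉ N := fun h => heJ ((memN e).1 h)
  have hdec' : ∀ a, ∃ c : F, e * a * e - c • e ∈ N := fun a => by
    obtain ⟨c, hc⟩ := hdec a
    exact ⟨c, (memN _).2 hc⟩
  obtain ⟨x, hx, hJx⟩ := exists_gen_of_bounded C hC hisE h1' N hNl hNr heN hdec' hm'
  have hcomm := corner_comm_of_bounded C hC hisE h1' N hNl hNr heN hdec' hm'
  have hJl : ∀ (a y : hisE.Corner), y ∈ JC hisE N → a * y ∈ JC hisE N := fun a y hy => hNl a.1 y.1 hy
  have hJm : JC hisE N ^ (m + 1) = ⊥ := by
    rw [eq_bot_iff]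
    intro y hy
    have h2 := JC_pow hisE N hNl hNr m y hy
    rw [pow_succ, hm', Submodule.bot_mul, Submodule.mem_bot] at h2
    rw [Submodule.mem_bot]
    exact Subtype.ext h2
  have hJS := J_le_span_pow hJl hx hJx hJm
  set y := x.1 with hy
  have hey : e * y = y := val_left hisE x
  have hye : y * e = y := val_right hisE x
  have hcc : ∀ a : A, (e * a * e) * y = y * (e * a * e) := by
    intro a
    have h2 := hcomm a y
    have h3 : e * y * e = y := by rw [hey, hye]
    rwa [h3] at h2
  obtain ⟨hzc, hze⟩ := central_of_corner he' h1' y hey hye hcc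
  set z : A := ∑ j, Xj j * y * Yj j with hz
  have hzN : z ∈ N := Submodule.sum_mem _ fun j _ => hNr _ _ (hNl _ _ hx)
  have hzpow : ∀ i : ℕ, z ^ (i + 1) * e = y ^ (i + 1) := by
    intro i
    induction i with
    | zero => simpa using hze
    | succ i ih =>
      calc z ^ (i + 1 + 1) * e = z ^ (i + 1) * (z * e) := by rw [pow_succ]; exact mul_assoc _ _ _
        _ = z ^ (i + 1) * y := by rw [hze]
        _ = z ^ (i + 1) * (e * y) := by rw [hey]
        _ = (z ^ (i + 1) * e) * y := (mul_assoc _ _ _).symm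
        _ = _ := by rw [ih, ← pow_succ]
  have hspan : ∀ s ∈ Submodule.span F (Set.range fun i : ℕ => x ^ (i + 1)), ∃ c : F[X], s.1 = aeval z c * e := by
    intro s hs
    refine Submodule.span_induction (p := fun s _ => ∃ c : F[X], s.1 = aeval z c * e) ?_ ?_ ?_ ?_ hs
    · rintro _ ⟨i, rfl⟩
      refine ⟨(Polynomial.X : F[X]) ^ (i + 1), ?_⟩
      simp only
      rw [corner_pow_val, map_pow, aeval_X, hzpow]
    · refine ⟨0, ?_⟩
      rw [map_zero, zero_mul]
      rfl
    · rintro a b _ _ ⟨c, hc⟩ ⟨d, hd⟩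
      refine ⟨c + d, ?_⟩
      rw [map_add, add_mul, ← hc, ← hd]
      rfl
    · rintro r a _ ⟨c, hc⟩
      refine ⟨Polynomial.C r * c, ?_⟩
      rw [val_smul, hc, map_mul, aeval_C, mul_assoc, ← Algebra.smul_def]
  have hcorner : ∀ a, ∃ c : F[X], e * a * e = aeval z c * e := by
    intro a
    obtain ⟨d, hd⟩ := hdec' a
    let y₀ : hisE.Corner := mkC hisE a
    have h2 : y₀ - d • 1 ∈ JC hisE N := by
      rw [mem_JC]
      have h3 : (y₀ - d • (1 : hisE.Corner)).1 = e * a * e - d • e := by
        change y₀.1 - (d • (1 : hisE.Corner)).1 = _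
        rw [val_smul]
        rfl
      rw [h3]
      exact hd
    obtain ⟨c, hc⟩ := hspan _ (hJS h2)
    refine ⟨c + Polynomial.C d, ?_⟩
    have h3 : (y₀ - d • (1 : hisE.Corner)).1 = e * a * e - d • e := by
      change y₀.1 - (d • (1 : hisE.Corner)).1 = _
      rw [val_smul]
      rfl
    rw [h3] at hc
    rw [map_add, add_mul, ← hc, aeval_C, ← Algebra.smul_def, sub_add_cancel]
  have he0 : e ≠ 0 := fun h => heJ (by rw [h, map_zero])
  refine ⟨g, e, z, Xj, Yj, Nat.pos_of_ne_zero (NeZero.ne g), he', he0, hYX, hXY, hXe, hew, hzc, hcorner, ⟨m, ?_⟩, ?_⟩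
  · have h1 : z ^ m ∈ N ^ m := Submodule.pow_mem_pow _ hzN _
    rw [hm'] at h1
    simpa using h1
  · intro W hWl hWr h1W
    have hle : W ≤ N := fun x hx => (memN x).2 (le_ker π hπ hnilp W hWl hWr h1W x hx)
    have h2 := Submodule.finrank_mono hle
    have h3 := LinearMap.finrank_range_add_finrank_ker π.toLinearMap
    have h4 : LinearMap.range π.toLinearMap = ⊤ := LinearMap.range_eq_top.2 hπ
    rw [h4, finrank_top, Module.finrank_matrix] at h3
    simp only [Fintype.card_fin, Module.finrank_self, mul_one] at h3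
    have h5 : g ^ 2 = g * g := by ring
    rw [h5]
    have h6 : finrank F N = finrank F (LinearMap.ker π.toLinearMap) := rfl
    omega

end Struct

section Gen

variable {k R : Type*} [Field k] [Ring R] [Algebra k R]

/-- Powers applied to a vector are independent. -/
theorem indep_pow {z v : R} {s : ℕ} (h1 : z ^ (s + 1) * v = 0) (h2 : z ^ s * v ≠ 0) :
    LinearIndependent k (fun i : Fin (s + 1) => z ^ (i : ℕ) * v) := by
  have h3 := Cfsg.Agent.Lib.DcJordan.linearIndependent_pow (k := k) (x := LinearMap.mulLeft k z) (v := v) (s := s)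
    (by rw [LinearMap.pow_mulLeft]; exact h1) (by rw [LinearMap.pow_mulLeft]; exact h2)
  have h4 : (fun i : Fin (s + 1) => z ^ (i : ℕ) * v) = fun i : Fin (s + 1) => (LinearMap.mulLeft k z ^ (i : ℕ)) v := by
    funext i
    rw [LinearMap.pow_mulLeft]
    rfl
  rw [h4]
  exact h3

theorem comm_aeval' {a z : R} (h : a * z = z * a) (c : k[X]) : a * aeval z c = aeval z c * a := by
  induction c using Polynomial.induction_on' with
  | add p q hp hq => rw [map_add, mul_add, add_mul, hp, hq]
  | monomial n r =>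
    rw [aeval_monomial, ← Algebra.smul_def, mul_smul_comm, smul_mul_assoc]
    congr 1
    exact (Commute.pow_right (show Commute a z from h) n).eq

theorem aeval_comm' (z : R) (c d : k[X]) : aeval z c * aeval z d = aeval z d * aeval z c := by
  rw [← map_mul, ← map_mul, mul_comm]

/-- Polynomials with non-zero constant term are invertible. -/
theorem exists_inv' {z w : R} {q : ℕ} (hZ : z ^ q * w = 0) (hzw : z * w = w * z) {c : k[X]} (hc : c.coeff 0 ≠ 0) :
    ∃ d : k[X], aeval z d * aeval z c * w = w := by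
  obtain ⟨h, hh⟩ : (Polynomial.X : k[X]) ∣ c - Polynomial.C (c.coeff 0) := by
    rw [Polynomial.X_dvd_iff]
    simp
  set r := c.coeff 0 with hr
  have hcd : c = Polynomial.C r + Polynomial.X * h := by rw [← hh]; ring
  let g : k[X] := -(Polynomial.C r⁻¹ * h) * Polynomial.X
  have hg : Polynomial.C r⁻¹ * c = 1 - g := by
    simp only [g]
    rw [hcd, mul_add, ← Polynomial.C_mul, inv_mul_cancel₀ hc, Polynomial.C_1]
    ring
  refine ⟨(∑ i ∈ Finset.range q, g ^ i) * Polynomial.C r⁻¹, ?_⟩
  have h1 : (∑ i ∈ Finset.range q, g ^ i) * Polynomial.C r⁻¹ * c = 1 - g ^ q := by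
    rw [mul_assoc, hg, geom_sum_mul_neg]
  rw [← map_mul, h1, map_sub, map_one, sub_mul, one_mul]
  have h2 : aeval z (g ^ q) * w = 0 := by
    have h3 : g ^ q = (-(Polynomial.C r⁻¹ * h)) ^ q * Polynomial.X ^ q := by
      simp only [g]
      rw [mul_pow]
    rw [h3, map_mul, Polynomial.aeval_X_pow, mul_assoc, hZ, mul_zero]
  rw [h2, sub_zero]

end Gen

section KLevel

open MonoidAlgebra Cfsg.Agent.Lib.BlockResidue

variable {G : Type u} [Group G] [Fintype G] {k : Type v} [Field k]

local notation "K" => MonoidAlgebra k G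

/-- **The structure of a block algebra with bounded modules.** -/
theorem exists_struct_K [IsAlgClosed k] (f : K) (hf : f * f = f) (hc : ∀ x, f * x = x * f) (hf0 : f ≠ 0) (C : ℕ)
    (hC : ∀ (W : Type (max u v)) [AddCommGroup W] [Module k W] [FiniteDimensional k W]
      (R : G →* Module.End k W), (∑ g, f.coeff g • R g = 1) →
      (∀ ψ : Module.End k W, (∀ g, ψ * R g = R g * ψ) → ∃ c : k, IsNilpotent (ψ - algebraMap k _ c)) →
      finrank k W ≤ C)
    (a₀ : K)
    (hT : ∀ μ : K →ₗ[k] k, (∀ x y, μ (x * y) = μ (y * x)) → (∀ x, IsNilpotent x → μ x = 0) →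
      (∀ x, μ (x * f) = μ x) → μ a₀ = 0 → μ = 0) :
    ∃ (g : ℕ) (ε z : K) (X Y : Fin g → K), 0 < g ∧ ε * ε = ε ∧ ε ≠ 0 ∧ ε * f = ε ∧ f * ε = ε ∧
      (∀ i j, Y i * X j = if i = j then ε else 0) ∧ ∑ j, X j * Y j = f ∧
      (∀ j, X j * ε = X j) ∧ (∀ j, ε * Y j = Y j) ∧
      (∀ b, z * b = b * z) ∧ z * f = z ∧ (∀ a, ∃ c : k[X], ε * a * ε = aeval z c * ε) ∧ IsNilpotent z ∧
      (∀ W : Submodule k K, (∀ a x, x ∈ W → a * x ∈ W) → (∀ a x, x ∈ W → x * a ∈ W) →
        (∀ x, x * f = 0 → x ∈ W) → f ∉ W → finrank k W + g ^ 2 ≤ finrank k K) := by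
  classical
  let I : Ideal K :=
    { carrier := {x | x * f = 0}
      add_mem' := fun {a b} ha hb => by
        simp only [Set.mem_ofPred_eq] at ha hb ⊢
        rw [add_mul, ha, hb, add_zero]
      zero_mem' := by simp
      smul_mem' := fun c x hx => by
        simp only [Set.mem_ofPred_eq, smul_eq_mul] at hx ⊢
        rw [mul_assoc, hx, mul_zero] }
  have memI : ∀ x, x ∈ I ↔ x * f = 0 := fun x => Iff.rfl
  have : I.IsTwoSided := ⟨fun {a} b ha => by
    rw [memI] at ha ⊢
    rw [mul_assoc, ← hc b, ← mul_assoc, ha, zero_mul]⟩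
  let p : K →ₐ[k] (K ⧸ I) := Ideal.Quotient.mkₐ k I
  have hps : Function.Surjective p := Ideal.Quotient.mkₐ_surjective k I
  have hp0 : ∀ x, p x = 0 ↔ x * f = 0 := fun x => by
    rw [← memI, ← Ideal.Quotient.eq_zero_iff_mem]
    rfl
  have hpf : p f = 1 := by
    rw [← map_one p, ← sub_eq_zero, ← map_sub, hp0, sub_mul, hf, one_mul, sub_self]
  have : FiniteDimensional k (K ⧸ I) := Module.Finite.of_surjective p.toLinearMap hps
  have hne : (1 : K ⧸ I) ≠ 0 := by
    intro h
    rw [← hpf, hp0, hf] at h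
    exact hf0 h
  have : Nontrivial (K ⧸ I) := ⟨⟨1, 0, hne⟩⟩
  -- the functionals
  have hT' : ∀ τ : (K ⧸ I) →ₗ[k] k, IsTr τ → τ (p a₀) = 0 → τ = 0 := by
    intro τ hτ h0
    have h1 := hT (τ ∘ₗ p.toLinearMap) (fun x y => by
        change τ (p (x * y)) = τ (p (y * x))
        rw [map_mul p, map_mul p, hτ.1]) (fun x hx => by
        change τ (p x) = 0
        exact hτ.2 _ (hx.map p)) (fun x => by
        change τ (p (x * f)) = τ (p x)
        rw [map_mul p, hpf, mul_one]) h0
    refine LinearMap.ext fun y => ?_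
    obtain ⟨y, rfl⟩ := hps y
    exact congrArg (fun φ : K →ₗ[k] k => φ y) h1
  have hC' : ∀ (W : Type (max u v)) [AddCommGroup W] [Module k W] [FiniteDimensional k W]
      (ρ : (K ⧸ I) →ₐ[k] Module.End k W),
      (∀ ψ : Module.End k W, (∀ a, ψ * ρ a = ρ a * ψ) → ∃ c : k, IsNilpotent (ψ - algebraMap k _ c)) →
      finrank k W ≤ C := by
    intro W _ _ _ ρ hρ
    let ρ' : K →ₐ[k] Module.End k W := ρ.comp p
    let R : G →* Module.End k W :=
      { toFun := fun g => ρ' (single g (1 : k))
        map_one' := by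
          rw [← MonoidAlgebra.one_def, map_one]
        map_mul' := fun x y => by
          rw [← map_mul, single_mul_single, one_mul] }
    have hRx : ∀ x : K, ρ' x = ∑ g, x.coeff g • R g := by
      intro x
      conv_lhs => rw [eq_sum_single x]
      rw [map_sum]
      refine Finset.sum_congr rfl fun g _ => ?_
      rw [single_eq_smul, map_smul]
      rfl
    refine hC W R ?_ ?_
    · rw [← hRx]
      change ρ (p f) = 1
      rw [hpf, map_one]
    · intro ψ hψ
      refine hρ ψ fun a => ?_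
      obtain ⟨x, rfl⟩ := hps a
      change ψ * ρ' x = ρ' x * ψ
      rw [hRx, Finset.mul_sum, Finset.sum_mul]
      refine Finset.sum_congr rfl fun g _ => ?_
      rw [mul_smul_comm, smul_mul_assoc, hψ g]
  obtain ⟨g, e, z, X', Y', hg, hee, he0, hYX, hXY, hXe, heY, hzc, hcor, hznil, hlow⟩ :=
    exists_struct (p a₀) hT' C hC'
  -- the lifts
  choose s hs using hps
  obtain ⟨l, hld⟩ : ∃ l : (K ⧸ I) → K, ∀ a, l a = s a * f := ⟨_, fun _ => rfl⟩
  have hl : ∀ a, p (l a) = a := fun a => by
    rw [hld, map_mul, hs, hpf, mul_one]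
  have hlf : ∀ a, l a * f = l a := fun a => by
    rw [hld, mul_assoc, hf]
  have hfl : ∀ a, f * l a = l a := fun a => by
    rw [hc, hlf]
  have hinj : ∀ x y : K, x * f = x → y * f = y → p x = p y → x = y := by
    intro x y hx hy hxy
    have h1 : p (x - y) = 0 := by rw [map_sub, hxy, sub_self]
    rw [hp0, sub_mul, hx, hy] at h1
    exact sub_eq_zero.1 h1
  have hmulf : ∀ x y : K, y * f = y → (x * y) * f = x * y := fun x y hy => by rw [mul_assoc, hy]
  refine ⟨g, l e, l z, fun j => l (X' j), fun j => l (Y' j), hg, ?_, ?_, hlf e, hfl e, ?_, ?_, ?_, ?_, ?_, hlf z, ?_, ?_, ?_⟩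
  · exact hinj _ _ (hmulf _ _ (hlf e)) (hlf e) (by rw [map_mul, hl, hee])
  · intro h0
    apply he0
    rw [← hl e, h0, map_zero]
  · intro i j
    have h1 : (if i = j then l e else 0) * f = if i = j then l e else 0 := by
      split_ifs
      · exact hlf e
      · exact zero_mul _
    refine hinj _ _ (hmulf _ _ (hlf _)) h1 ?_
    rw [map_mul, hl, hl, hYX]
    split_ifs
    · rw [hl]
    · rw [map_zero]
  · refine hinj _ _ ?_ hf ?_
    · rw [Finset.sum_mul]
      exact Finset.sum_congr rfl fun j _ => hmulf _ _ (hlf _)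
    · rw [map_sum, hpf, ← hXY]
      refine Finset.sum_congr rfl fun j _ => ?_
      rw [map_mul, hl, hl]
  · intro j
    refine hinj _ _ (hmulf _ _ (hlf _)) (hlf _) ?_
    rw [map_mul, hl, hl, hXe]
  · intro j
    refine hinj _ _ (hmulf _ _ (hlf _)) (hlf _) ?_
    rw [map_mul, hl, hl, heY]
  · intro b
    have h1 : (l z * b) * f = l z * b := by
      rw [mul_assoc, ← hc b, ← mul_assoc, hlf]
    refine hinj _ _ h1 (hmulf _ _ (hlf _)) ?_
    rw [map_mul, map_mul, hl, hzc]
  · intro a
    obtain ⟨c, hc'⟩ := hcor (p a)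
    refine ⟨c, ?_⟩
    refine hinj _ _ (hmulf _ _ (hlf _)) (hmulf _ _ (hlf _)) ?_
    rw [map_mul, map_mul, map_mul, hl, hc', ← Polynomial.aeval_algHom_apply, hl]
  · obtain ⟨m, hm⟩ := hznil
    refine ⟨m + 1, ?_⟩
    have h1 : l z ^ m * f = 0 := by
      rw [← hp0, map_pow, hl, hm]
    calc l z ^ (m + 1) = l z ^ m * l z := pow_succ _ _
      _ = l z ^ m * (f * l z) := by rw [hfl]
      _ = (l z ^ m * f) * l z := (mul_assoc _ _ _).symm
      _ = 0 := by rw [h1, zero_mul]
  · intro W hWl hWr hW hfW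
    let W' : Submodule k (K ⧸ I) := W.map p.toLinearMap
    have h3 := hlow W'
      (by
        rintro a _ ⟨x, hx, rfl⟩
        exact ⟨s a * x, hWl _ _ hx, by simp [hs]⟩)
      (by
        rintro a _ ⟨x, hx, rfl⟩
        exact ⟨x * s a, hWr _ _ hx, by simp [hs]⟩)
      (by
        rintro ⟨w, hw, hw1⟩
        have h1 : p (w - 1) = 0 := by
          rw [map_sub, map_one, sub_eq_zero]
          exact hw1
        rw [hp0, sub_mul, one_mul, sub_eq_zero] at h1
        exact hfW (h1 ▸ hWr _ _ hw))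
    have hkerp : LinearMap.ker p.toLinearMap = LinearMap.ker (LinearMap.mulRight k f) := by
      ext x
      simp only [LinearMap.mem_ker, LinearMap.mulRight_apply]
      exact hp0 x
    have hA : finrank k (K ⧸ I) + finrank k (LinearMap.ker (LinearMap.mulRight k f)) = finrank k K := by
      have h1 := LinearMap.finrank_range_add_finrank_ker p.toLinearMap
      rw [LinearMap.range_eq_top.2 (Ideal.Quotient.mkₐ_surjective k I), finrank_top, hkerp] at h1
      exact h1
    have hW' : finrank k W' + finrank k (LinearMap.ker (LinearMap.mulRight k f)) = finrank k W := by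
      have h1 := LinearMap.finrank_range_add_finrank_ker (p.toLinearMap.domRestrict W)
      have h2 : LinearMap.range (p.toLinearMap.domRestrict W) = W' := by
        rw [LinearMap.range_domRestrict]
      have hle : LinearMap.ker (LinearMap.mulRight k f) ≤ W := by
        intro x hx
        exact hW x (by simpa using hx)
      have h3 : LinearMap.ker (p.toLinearMap.domRestrict W) =
          (LinearMap.ker (LinearMap.mulRight k f)).comap W.subtype := by
        rw [LinearMap.ker_domRestrict, hkerp]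
      rw [h2, h3] at h1
      rw [← h1]
      congr 1
      exact (LinearEquiv.finrank_eq (Submodule.comapSubtypeEquivOfLe hle)).symm
    omega

end KLevel

section Dims

variable {k R : Type*} [Field k] [Ring R] [Algebra k R] [FiniteDimensional k R] {f : R}

theorem struct_dims {g : ℕ} {ε z : R} {X' Y' : Fin g → R} (hff : f * f = f) (hcf : ∀ x, f * x = x * f)
    (hεε : ε * ε = ε) (hε0 : ε ≠ 0) (hεf : ε * f = ε) (hfε : f * ε = ε)
    (hYX : ∀ i j, Y' i * X' j = if i = j then ε else 0) (hXY : ∑ j, X' j * Y' j = f)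
    (hXε : ∀ j, X' j * ε = X' j) (hεY : ∀ j, ε * Y' j = Y' j) (hzc : ∀ b, z * b = b * z) (hzf : z * f = z)
    (hcor : ∀ a, ∃ c : k[X], ε * a * ε = aeval z c * ε) (hnil : IsNilpotent z) (n : ℕ)
    (hZ : ∀ c : Fin (n + 1) → R, (∀ i x, c i * x = x * c i) → (∀ i, c i * f = c i) → ¬ LinearIndependent k c) :
    ∃ q, 1 ≤ q ∧ q ≤ n ∧ z ^ q * ε = 0 ∧ z ^ (q - 1) * ε ≠ 0 ∧ z ^ q * f = 0 ∧
      finrank k R ≤ finrank k (LinearMap.ker (LinearMap.mulRight k f)) + g ^ 2 * q := by
  classical
  have hex : ∃ q, z ^ q * ε = 0 := by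
    obtain ⟨m, hm⟩ := hnil
    exact ⟨m, by rw [hm, zero_mul]⟩
  set q := Nat.find hex with hq
  have hq0 : z ^ q * ε = 0 := Nat.find_spec hex
  have hq1 : 1 ≤ q := by
    by_contra h
    have h0 : q = 0 := by omega
    rw [h0, pow_zero, one_mul] at hq0
    exact hε0 hq0
  have hq2 : z ^ (q - 1) * ε ≠ 0 := Nat.find_min hex (by omega)
  have hzp : ∀ (n : ℕ) (b : R), z ^ n * b = b * z ^ n := fun n b =>
    (Commute.pow_left (show Commute z b from hzc b) n).eq
  have hzqf : z ^ q * f = 0 := by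
    rw [← hXY, Finset.mul_sum]
    refine Finset.sum_eq_zero fun j _ => ?_
    calc z ^ q * (X' j * Y' j) = z ^ q * ((X' j * ε) * Y' j) := by rw [hXε]
      _ = (z ^ q * X' j) * ε * Y' j := by simp only [mul_assoc]
      _ = X' j * (z ^ q * ε) * Y' j := by rw [hzp]; simp only [mul_assoc]
      _ = 0 := by rw [hq0, mul_zero, zero_mul]
  refine ⟨q, hq1, ?_, hq0, hq2, hzqf, ?_⟩
  · by_contra hcon
    have hle : n + 1 ≤ q - 1 + 1 := by omega
    have hli := indep_pow (k := k) (z := z) (v := ε) (s := q - 1) (by rw [Nat.sub_add_cancel hq1]; exact hq0) hq2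
    refine hZ (fun i => z ^ (i : ℕ) * f) (fun i x => ?_) (fun i => ?_) ?_
    · rw [mul_assoc, hcf, ← mul_assoc, hzp, mul_assoc]
    · rw [mul_assoc, hff]
    · have h1 : LinearIndependent k (LinearMap.mulRight k ε ∘ fun i : Fin (n + 1) => z ^ (i : ℕ) * f) := by
        have h2 := hli.comp (Fin.castLE hle) (Fin.castLE_injective hle)
        convert h2 using 1
        funext i
        simp only [Function.comp, LinearMap.mulRight_apply, Fin.val_castLE]
        rw [mul_assoc, hfε]
      exact LinearIndependent.of_comp _ h1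
  · let v : Fin g × Fin g × Fin q → R := fun t => X' t.1 * (z ^ (t.2.2 : ℕ) * ε) * Y' t.2.1
    let S : Submodule k R := Submodule.span k (Set.range v)
    have hmem : ∀ (j m : Fin g) (i : ℕ), X' j * (z ^ i * ε) * Y' m ∈ S := by
      intro j m i
      by_cases hi : i < q
      · exact Submodule.subset_span ⟨(j, m, ⟨i, hi⟩), rfl⟩
      · have h1 : z ^ i * ε = 0 := by
          obtain ⟨t, rfl⟩ : ∃ t, i = t + q := ⟨i - q, by omega⟩
          rw [pow_add, mul_assoc, hq0, mul_zero]
        rw [h1, mul_zero, zero_mul]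
        exact S.zero_mem
    have hmem2 : ∀ (j m : Fin g) (c : k[X]), X' j * (aeval z c * ε) * Y' m ∈ S := by
      intro j m c
      rw [aeval_eq_sum_range, Finset.sum_mul, Finset.mul_sum, Finset.sum_mul]
      refine S.sum_mem fun i _ => ?_
      rw [smul_mul_assoc, mul_smul_comm, smul_mul_assoc]
      exact S.smul_mem _ (hmem j m i)
    have hrange : LinearMap.range (LinearMap.mulRight k f) ≤ S := by
      rintro _ ⟨a, rfl⟩
      rw [LinearMap.mulRight_apply]
      have h1 : a * f = (∑ j, X' j * Y' j) * a * (∑ m, X' m * Y' m) := by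
        rw [hXY, hcf a, mul_assoc, hff]
      rw [h1, Finset.sum_mul, Finset.sum_mul]
      refine S.sum_mem fun j _ => ?_
      rw [Finset.mul_sum]
      refine S.sum_mem fun m _ => ?_
      obtain ⟨c, hc⟩ := hcor (Y' j * a * X' m)
      have h2 : X' j * Y' j * a * (X' m * Y' m) = X' j * (ε * (Y' j * a * X' m) * ε) * Y' m := by
        calc X' j * Y' j * a * (X' m * Y' m) = X' j * (Y' j * a * X' m) * Y' m := by simp only [mul_assoc]
          _ = X' j * ((ε * Y' j) * a * (X' m * ε)) * Y' m := by rw [hXε, hεY]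
          _ = _ := by simp only [mul_assoc]
      rw [h2, hc]
      exact hmem2 j m c
    have h1 := Submodule.finrank_mono hrange
    have h2 : finrank k S ≤ Fintype.card (Fin g × Fin g × Fin q) := finrank_range_le_card v
    have h3 := LinearMap.finrank_range_add_finrank_ker (LinearMap.mulRight k f)
    simp only [Fintype.card_prod, Fintype.card_fin] at h2
    have h4 : g * (g * q) = g ^ 2 * q := by ring
    omega

/-- A maximal independent family of central elements spans. -/
theorem span_of_max {q : ℕ} (hq : 1 ≤ q)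
    (hZ : ∀ c : Fin (q + 1) → R, (∀ i x, c i * x = x * c i) → (∀ i, c i * f = c i) → ¬ LinearIndependent k c)
    (hff : f * f = f) (hcf : ∀ x, f * x = x * f) {x : R} (hxc : ∀ b, x * b = b * x)
    (h1 : x ^ q * f = 0) (h2 : x ^ (q - 1) * f ≠ 0) {y : R} (hyc : ∀ b, y * b = b * y) (hyf : y * f = y) :
    ∃ c : k[X], y = aeval x c * f := by
  classical
  obtain ⟨s, rfl⟩ : ∃ s, q = s + 1 := ⟨q - 1, by omega⟩
  rw [Nat.add_sub_cancel] at h2
  have hli := indep_pow (k := k) (z := x) (v := f) h1 h2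
  have hxp : ∀ (n : ℕ) (b : R), x ^ n * b = b * x ^ n := fun n b =>
    (Commute.pow_left (show Commute x b from hxc b) n).eq
  by_cases hy : y ∈ Submodule.span k (Set.range fun i : Fin (s + 1) => x ^ (i : ℕ) * f)
  · obtain ⟨c, hc⟩ := (Submodule.mem_span_range_iff_exists_fun k).1 hy
    refine ⟨∑ i, Polynomial.C (c i) * Polynomial.X ^ (i : ℕ), ?_⟩
    rw [map_sum, Finset.sum_mul, ← hc]
    refine Finset.sum_congr rfl fun i _ => ?_
    rw [map_mul, aeval_C, map_pow, aeval_X, mul_assoc, ← Algebra.smul_def]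
  · exfalso
    have h3 := hli.finCons hy
    refine hZ _ (fun i x' => ?_) (fun i => ?_) h3
    · refine Fin.cases ?_ (fun i => ?_) i
      · simpa using hyc x'
      · simp only [Fin.cons_succ]
        rw [mul_assoc, hcf, ← mul_assoc, hxp, mul_assoc]
    · refine Fin.cases ?_ (fun i => ?_) i
      · simpa using hyf
      · simp only [Fin.cons_succ]
        rw [mul_assoc, hff]

/-- **An eigenvector for an automorphism among the generators.** -/
theorem exists_eigen (σ : R ≃ₐ[k] R) (hσf : σ f = f) {e : ℕ} (he1 : 1 ≤ e) (he : (e : k) ≠ 0)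
    (hσe : ∀ y, (∀ b, y * b = b * y) → (⇑σ)^[e] y = y) {q : ℕ} (hq2 : 2 ≤ q)
    (hZ : ∀ c : Fin (q + 1) → R, (∀ i x, c i * x = x * c i) → (∀ i, c i * f = c i) → ¬ LinearIndependent k c)
    (hff : f * f = f) (hcf : ∀ x, f * x = x * f) {z : R} (hzc : ∀ b, z * b = b * z) (hzf : z * f = z)
    (hzq : z ^ q = 0) (hzq1 : z ^ (q - 1) ≠ 0) :
    ∃ (x : R) (ζ : k) (W : k[X]), ζ ≠ 0 ∧ ζ ^ e = 1 ∧ σ x = ζ • x ∧ (∀ b, x * b = b * x) ∧ x * f = x ∧ x ^ q = 0 ∧
      x ^ (q - 1) ≠ 0 ∧ x = z * aeval z W ∧ W.coeff 0 = 1 := by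
  classical
  have hz0 : z ≠ 0 := by
    rintro rfl
    apply hzq1
    rw [zero_pow (by omega)]
  have hzpf : ∀ n, 1 ≤ n → z ^ n * f = z ^ n := by
    intro n hn
    obtain ⟨m, rfl⟩ : ∃ m, n = m + 1 := ⟨n - 1, by omega⟩
    rw [pow_succ, mul_assoc, hzf]
  have hσc : ∀ y, (∀ b, y * b = b * y) → ∀ b, σ y * b = b * σ y := by
    intro y hy b
    obtain ⟨a, rfl⟩ := σ.surjective b
    rw [← map_mul, ← map_mul, hy]
  have hσF : ∀ y, y * f = y → σ y * f = σ y := by
    intro y hy
    conv_lhs => rw [← hσf]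
    rw [← map_mul, hy]
  have hzqf : z ^ q * f = 0 := by rw [hzq, zero_mul]
  have hzq1f : z ^ (q - 1) * f ≠ 0 := by
    rw [hzpf _ (by omega)]
    exact hzq1
  obtain ⟨c₁, hc₁⟩ := span_of_max (by omega) hZ hff hcf hzc hzqf hzq1f (hσc z hzc) (hσF z hzf)
  have hf_z : f * z = z := by rw [hcf, hzf]
  have hσnil : σ z ^ q = 0 := by rw [← map_pow, hzq, map_zero]
  have hfpow : ∀ n, 1 ≤ n → f ^ n = f := by
    intro n hn
    induction n, hn using Nat.le_induction with
    | base => simp
    | succ n hn ih => rw [pow_succ, ih, hff]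
  have hc₁0 : c₁.coeff 0 = 0 := by
    by_contra hne
    obtain ⟨d, hd⟩ := exists_inv' (k := k) (z := z) (w := f) hzqf (by rw [hzf, hf_z]) hne
    have h1 : aeval z d * σ z = f := by rw [hc₁, ← mul_assoc]; exact hd
    have h2 : Commute (aeval z d) (σ z) := (hσc z hzc _).symm
    have h3 : (aeval z d * σ z) ^ q = 0 := by rw [h2.mul_pow, hσnil, mul_zero]
    rw [h1, hfpow q (by omega)] at h3
    apply hz0
    rw [← hzf, h3, mul_zero]
  set w₁ : k[X] := Polynomial.divX c₁ with hw₁
  have hσz : σ z = z * aeval z w₁ := by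
    have h1 : c₁ = w₁ * Polynomial.X := by
      have h2 := Polynomial.divX_mul_X_add c₁
      rw [hc₁0, map_zero, add_zero] at h2
      exact h2.symm
    rw [hc₁, h1, map_mul, aeval_X]
    calc aeval z w₁ * z * f = aeval z w₁ * (z * f) := mul_assoc _ _ _
      _ = aeval z w₁ * z := by rw [hzf]
      _ = _ := (hzc _).symm
  set ζ := w₁.coeff 0 with hζ
  have hcomp : ∀ w : k[X], aeval (σ z) w = aeval z (w.comp (Polynomial.X * w₁)) := by
    intro w
    rw [Polynomial.aeval_comp, map_mul, aeval_X, hσz]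
  have hwit : ∀ n : ℕ, ∃ w : k[X], (⇑σ)^[n] z = z * aeval z w ∧ w.coeff 0 = ζ ^ n := by
    intro n
    induction n with
    | zero =>
      refine ⟨1, by simp, by simp⟩
    | succ n ih =>
      obtain ⟨w, hw, hw0⟩ := ih
      refine ⟨w₁ * w.comp (Polynomial.X * w₁), ?_, ?_⟩
      · rw [Function.iterate_succ_apply', hw, map_mul]
        have h1 : σ (aeval z w) = aeval (σ z) w := by
          exact (Polynomial.aeval_algHom_apply (σ : R →ₐ[k] R) z w).symm
        rw [h1, hcomp, hσz, map_mul, mul_assoc]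
      · have h : (w.comp (Polynomial.X * w₁)).coeff 0 = w.coeff 0 := by
          rw [Polynomial.coeff_zero_eq_eval_zero, Polynomial.eval_comp, Polynomial.coeff_zero_eq_eval_zero]
          simp
        rw [Polynomial.mul_coeff_zero, h, hw0, pow_succ, mul_comm]
  have hzp : ∀ (n : ℕ) (b : R), z ^ n * b = b * z ^ n := fun n b =>
    (Commute.pow_left (show Commute z b from hzc b) n).eq
  have hζ0 : ζ ≠ 0 := by
    intro h0
    obtain ⟨w₂, hw₂⟩ : (Polynomial.X : k[X]) ∣ w₁ := by
      rw [Polynomial.X_dvd_iff]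
      exact h0
    have h1 : σ z = z * z * aeval z w₂ := by
      rw [hσz, hw₂, map_mul, aeval_X, mul_assoc]
    have h2 : σ (z ^ (q - 1)) = 0 := by
      have h3 : Commute (z * z) (aeval z w₂) := by
        show z * z * aeval z w₂ = aeval z w₂ * (z * z)
        rw [mul_assoc, hzc (aeval z w₂), ← mul_assoc, hzc (aeval z w₂), mul_assoc]
      rw [map_pow, h1, h3.mul_pow, ← pow_two, ← pow_mul]
      obtain ⟨t, ht⟩ : ∃ t, 2 * (q - 1) = t + q := ⟨2 * (q - 1) - q, by omega⟩
      rw [ht, pow_add, hzq, mul_zero, zero_mul]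
    apply hzq1
    exact σ.injective (by rw [h2, map_zero])
  have hζe : ζ ^ e = 1 := by
    obtain ⟨w, hw, hw0⟩ := hwit e
    rw [hσe z hzc] at hw
    by_contra hne
    have hc : (w - 1).coeff 0 ≠ 0 := by
      rw [Polynomial.coeff_sub, Polynomial.coeff_one_zero, hw0]
      exact sub_ne_zero.2 hne
    obtain ⟨d, hd⟩ := exists_inv' (k := k) (z := z) (w := z) (q := q) (by rw [hzq, zero_mul]) rfl hc
    apply hz0
    rw [← hd, map_sub, map_one, mul_assoc, sub_mul, one_mul, ← hzc (aeval z w), ← hw, sub_self, mul_zero]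
  choose w hw hw0 using hwit
  obtain ⟨S, hSd⟩ : ∃ S : ℕ → R, ∀ n, S n = (⇑σ)^[n] z := ⟨_, fun _ => rfl⟩
  have hSsucc : ∀ n, S (n + 1) = σ (S n) := fun n => by
    rw [hSd, hSd, Function.iterate_succ_apply']
  have hSc : ∀ n b, S n * b = b * S n := by
    intro n
    induction n with
    | zero => simpa [hSd] using hzc
    | succ n ih =>
      rw [hSsucc]
      exact hσc _ ih
  have hSf : ∀ n, S n * f = S n := by
    intro n
    induction n with
    | zero => simpa [hSd] using hzf
    | succ n ih =>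
      rw [hSsucc]
      exact hσF _ ih
  have hSw : ∀ n, S n = z * aeval z (w n) := fun n => by rw [hSd, hw]
  have hSe : S e = z := by rw [hSd, hσe z hzc]
  have hS0 : S 0 = z := by rw [hSd]; rfl
  set x : R := (e : k)⁻¹ • ∑ i ∈ Finset.range e, ((ζ ^ i)⁻¹) • S i with hx
  set W : k[X] := Polynomial.C (e : k)⁻¹ * ∑ i ∈ Finset.range e, Polynomial.C ((ζ ^ i)⁻¹) * w i with hW
  have hxW : x = z * aeval z W := by
    rw [hx, hW, map_mul, aeval_C, map_sum, ← Algebra.smul_def, mul_smul_comm, Finset.mul_sum]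
    congr 1
    refine Finset.sum_congr rfl fun i _ => ?_
    rw [map_mul, aeval_C, ← Algebra.smul_def, mul_smul_comm, hSw]
  have hW0 : W.coeff 0 = 1 := by
    rw [hW, Polynomial.mul_coeff_zero, Polynomial.coeff_C_zero, Polynomial.finset_sum_coeff]
    have h1 : ∀ i ∈ Finset.range e, (Polynomial.C ((ζ ^ i)⁻¹) * w i).coeff 0 = 1 := by
      intro i _
      rw [Polynomial.mul_coeff_zero, Polynomial.coeff_C_zero, hw0, inv_mul_cancel₀ (pow_ne_zero i hζ0)]
    rw [Finset.sum_congr rfl h1, Finset.sum_const, Finset.card_range, nsmul_eq_mul, mul_one, inv_mul_cancel₀ he]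
  have hσx : σ x = ζ • x := by
    have h1 : ∑ i ∈ Finset.range e, ((ζ ^ (i + 1))⁻¹) • S (i + 1) = ∑ i ∈ Finset.range e, ((ζ ^ i)⁻¹) • S i := by
      have h2 := Finset.sum_range_succ (fun i => ((ζ ^ i)⁻¹) • S i) e
      have h3 := Finset.sum_range_succ' (fun i => ((ζ ^ i)⁻¹) • S i) e
      rw [h2] at h3
      simp only [hζe, hSe, hS0, inv_one, one_smul, pow_zero] at h3
      exact (add_right_cancel h3).symm
    have h4 : ∑ i ∈ Finset.range e, ζ • ((ζ ^ i)⁻¹ • S i) = ∑ i ∈ Finset.range e, ζ • ((ζ ^ (i + 1))⁻¹ • S (i + 1)) := by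
      rw [← Finset.smul_sum, ← Finset.smul_sum, h1]
    rw [hx, map_smul, map_sum, smul_comm ζ, Finset.smul_sum (r := ζ), h4]
    congr 1
    refine Finset.sum_congr rfl fun i _ => ?_
    rw [map_smul, ← hSsucc, smul_smul]
    congr 1
    rw [pow_succ, mul_inv]
    field_simp
  have hxc : ∀ b, x * b = b * x := by
    intro b
    rw [hx, smul_mul_assoc, mul_smul_comm, Finset.sum_mul, Finset.mul_sum]
    congr 1
    refine Finset.sum_congr rfl fun i _ => ?_
    rw [smul_mul_assoc, mul_smul_comm, hSc]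
  have hxf : x * f = x := by
    rw [hx, smul_mul_assoc, Finset.sum_mul]
    congr 1
    refine Finset.sum_congr rfl fun i _ => ?_
    rw [smul_mul_assoc, hSf]
  have hcomm : Commute z (aeval z W) := hzc _
  have hxq : x ^ q = 0 := by
    rw [hxW, hcomm.mul_pow, hzq, zero_mul]
  have hxq1 : x ^ (q - 1) ≠ 0 := by
    rw [hxW, hcomm.mul_pow, ← map_pow]
    have h1 : (W ^ (q - 1) - 1).coeff 0 = 0 := by
      rw [Polynomial.coeff_sub, Polynomial.coeff_one_zero, Polynomial.coeff_zero_eq_eval_zero, Polynomial.eval_pow,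
        ← Polynomial.coeff_zero_eq_eval_zero, hW0, one_pow, sub_self]
    obtain ⟨r, hr⟩ : (Polynomial.X : k[X]) ∣ W ^ (q - 1) - 1 := by
      rw [Polynomial.X_dvd_iff]
      exact h1
    have h2 : W ^ (q - 1) = 1 + Polynomial.X * r := by rw [← hr]; ring
    rw [h2, map_add, map_one, map_mul, aeval_X, mul_add, mul_one, ← mul_assoc, ← pow_succ]
    have h3 : q - 1 + 1 = q := by omega
    rw [h3, hzq, zero_mul, add_zero]
    exact hzq1
  exact ⟨x, ζ, W, hζ0, hζe, hσx, hxc, hxf, hxq, hxq1, hxW, hW0⟩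

end Dims

end Cfsg.Agent.Lib.DcPackA
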