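import Mathlib
import Cfsg.Agent.Lib.DcPackA

/-!
# The structure of a block of rank one with bounded modules
-/

set_option autoImplicit false
set_option linter.unusedSectionVars false
set_option linter.unusedVariables false
set_option linter.unusedSimpArgs false

namespace Cfsg.Agent.Lib.DcPackB

open Cfsg Module MonoidAlgebra IsLocalRing Polynomial
open Cfsg.Agent.Lib.CharBasic Cfsg.Agent.Lib.CharInd Cfsg.Agent.Lib.CharIntegrality
open Cfsg.Agent.Lib.BlockLocal Cfsg.Agent.Lib.BlockIdem Cfsg.Agent.Lib.BlockResidue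
open Cfsg.Agent.Lib.BlkBasic Cfsg.Agent.Lib.BrauerPair Cfsg.Agent.Lib.CharKernel
open Cfsg.Agent.Lib.BlockBrandt Cfsg.Agent.Lib.MatCorner Cfsg.Agent.Lib.BlockQ
open Cfsg.Agent.Lib.BlockOrtho Cfsg.Agent.Lib.BlkOrth Cfsg.Agent.Lib.LocalSymAlg
open Cfsg.Agent.Lib.BlockRankOne Cfsg.Agent.Lib.CornerMod Cfsg.Agent.Lib.DcPackA

universe u

variable {G : Type u} [Group G] [Fintype G]

variable {p : ℕ} {M : Ideal AlgInt} [hMp : M.IsPrime] {V : ValuationSubring ℂ}

local notation "Om" => MonoidAlgebra V G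
local notation "Kk" => MonoidAlgebra (Kf V) G

/-- **The block structure.** -/
theorem block_struct [hpF : Fact p.Prime] (hV1 : ∀ z, MemLocalRing M z → z ∈ V)
    (hV2 : ∀ z, MemLocalIdeal M z → z ∈ V.nonunits) (hpV : ((p : ℕ) : Kf V) = 0)
    {B : Set (IrrCharacter G)} (hB : IsPBlock M B) (hl : blockRank p B = 1) (C : ℕ)
    {e : Om} (he : iotaV V e = Phi (blkInd B)) (hec : ∀ b : Om, e * b = b * e)
    (hC : ∀ (W : Type u) [AddCommGroup W] [Module (Kf V) W] [FiniteDimensional (Kf V) W]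
      (R : G →* Module.End (Kf V) W), (∑ g, (rhoV V e).coeff g • R g = 1) →
      (∀ ψ : Module.End (Kf V) W, (∀ g, ψ * R g = R g * ψ) →
        ∃ c : Kf V, IsNilpotent (ψ - algebraMap (Kf V) _ c)) →
      finrank (Kf V) W ≤ C)
    {χ₀ : IrrCharacter G} (hχ₀ : χ₀ ∈ B) :
    ∃ (g : ℕ) (ε z : Kk) (X' Y' : Fin g → Kk), 0 < g ∧ ε * ε = ε ∧ ε ≠ 0 ∧ ε * rhoV V e = ε ∧ rhoV V e * ε = ε ∧
      (∀ i j, Y' i * X' j = if i = j then ε else 0) ∧ ∑ j, X' j * Y' j = rhoV V e ∧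
      (∀ j, X' j * ε = X' j) ∧ (∀ j, ε * Y' j = Y' j) ∧
      (∀ b, z * b = b * z) ∧ z * rhoV V e = z ∧ (∀ a, ∃ c : (Kf V)[X], ε * a * ε = aeval z c * ε) ∧
      z ^ (bF B).card * ε = 0 ∧ z ^ ((bF B).card - 1) * ε ≠ 0 ∧ z ^ (bF B).card * rhoV V e = 0 ∧
      (∀ χ ∈ B, charDegree (χ : G → ℂ) = g) := by
  classical
  have : IsAlgClosed (Kf V) := isAlgClosed_residue V
  have hp := hpF.out
  set f : Kk := rhoV V e with hf
  have hee : e * e = e := by
    apply iotaV_injective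
    rw [map_mul, he, ← Phi_mul, blkInd_mul_self]
  have hff : f * f = f := by rw [hf, ← map_mul, hee]
  have hfc : ∀ x, f * x = x * f := rho_central hec
  have hcardK : finrank (Kf V) Kk = Nat.card G := by
    rw [Module.finrank_eq_card_basis (MonoidAlgebra.basis G (Kf V)), Nat.card_eq_fintype_card]
  have hf0 : f ≠ 0 := fun h => not_mem_Ki he hχ₀ (by
    rw [← hf, h]
    exact Submodule.zero_mem _)
  obtain ⟨a₀, ha₀⟩ := exists_a0 hpV hχ₀ hl he
  obtain ⟨g, ε, z, X', Y', hg, hεε, hε0, hεf, hfε, hYX, hXY, hXε, hεY, hzc, hzf, hcor, hznil, hlow0⟩ :=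
    exists_struct_K f hff hfc hf0 C (fun W _ _ _ R h1 h2 => hC W R h1 h2) a₀ ha₀
  obtain ⟨q, hq1, hqn, hq0, hq2, hzqf, h2⟩ := struct_dims hff hfc hεε hε0 hεf hfε hYX hXY hXε hεY hzc hzf hcor hznil
    (bF B).card (fun c hc hcf => not_indep' he c hc hcf)
  have hdeg : ∀ χ : IrrCharacter G,
      finrank ℂ (LinearMap.range (LinearMap.mulRight ℂ (Phi (blkInd {χ})))) =
        charDegree (χ : G → ℂ) ^ 2 := by
    intro χ
    have h1 := finrank_Phi ({χ} : Set (IrrCharacter G))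
    rw [Finset.sum_eq_single χ] at h1
    · rw [blkInd_of_mem (Set.mem_singleton χ), one_mul,
        one_eq_charDegree (IsIrrCharacter.isCharacter χ.2)] at h1
      exact_mod_cast h1
    · intro ψ _ hψ
      have : ψ ∉ ({χ} : Set (IrrCharacter G)) := hψ
      rw [blkInd_of_not_mem this, zero_mul]
    · simp
  have hlow : ∀ χ ∈ B, g ^ 2 ≤ charDegree (χ : G → ℂ) ^ 2 := by
    intro χ hχ
    have h3 := hlow0 (Ki (V := V) (Phi (blkInd {χ}))) Ki_mul_left Ki_mul_right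
      (by
        intro x hx
        obtain ⟨x', rfl⟩ := rhoV_surjective x
        refine ⟨x' * (1 - e), ?_, ?_⟩
        · rw [map_mul, mul_assoc, map_sub, map_one, he, sub_mul, one_mul, ← Phi_mul,
            blkInd_singleton_mul hχ, sub_self, mul_zero]
        · rw [map_mul, map_sub, map_one, mul_sub, mul_one, ← hf, hx, sub_zero])
      (not_mem_Ki he hχ)
    have h4 := finrank_add_Ki_le (V := V) (Phi (blkInd {χ}))
    rw [hdeg] at h4
    omega
  -- the sum of the squares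
  have hsum : finrank ℂ (LinearMap.range (LinearMap.mulRight ℂ (Phi (blkInd Bᶜ)))) +
      ∑ χ ∈ bF B, charDegree (χ : G → ℂ) ^ 2 = Nat.card G := by
    have h3 := finrank_Phi (Bᶜ : Set (IrrCharacter G))
    have h4 : ∑ χ : IrrCharacter G, ((χ : G → ℂ) 1) ^ 2 = (Nat.card G : ℂ) := by
      rw [← sum_irr_degree_sq (G := G)]
      refine Finset.sum_congr rfl fun χ _ => ?_
      rw [one_eq_charDegree (IsIrrCharacter.isCharacter χ.2)]
      simp [sq]
    have h5 : ∑ χ : IrrCharacter G, ((χ : G → ℂ) 1) ^ 2 =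
        ∑ χ : IrrCharacter G, blkInd Bᶜ χ * ((χ : G → ℂ) 1) ^ 2 +
          ∑ χ : IrrCharacter G, blkInd B χ * ((χ : G → ℂ) 1) ^ 2 := by
      rw [← Finset.sum_add_distrib]
      refine Finset.sum_congr rfl fun χ _ => ?_
      by_cases hχ : χ ∈ B
      · have : χ ∉ Bᶜ := fun h => h hχ
        rw [blkInd_of_mem hχ, blkInd_of_not_mem this]
        ring
      · have : χ ∈ Bᶜ := hχ
        rw [blkInd_of_not_mem hχ, blkInd_of_mem this]
        ring
    have h6 : ∑ χ : IrrCharacter G, blkInd B χ * ((χ : G → ℂ) 1) ^ 2 =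
        ∑ χ ∈ bF B, ((χ : G → ℂ) 1) ^ 2 := by
      rw [← finsum_mem_eq_sum_blkInd, finsum_mem_eq_sum_bF]
    rw [h4, h6, ← h3] at h5
    have h7 : ∑ χ ∈ bF B, ((χ : G → ℂ) 1) ^ 2 = ((∑ χ ∈ bF B, charDegree (χ : G → ℂ) ^ 2 : ℕ) : ℂ) := by
      push_cast
      refine Finset.sum_congr rfl fun χ _ => ?_
      rw [one_eq_charDegree (IsIrrCharacter.isCharacter χ.2)]
    rw [h7] at h5
    exact_mod_cast h5.symm
  -- the complementary ideal
  have hker : finrank (Kf V) (LinearMap.ker (LinearMap.mulRight (Kf V) f)) ≤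
      finrank ℂ (LinearMap.range (LinearMap.mulRight ℂ (Phi (blkInd Bᶜ)))) := by
    have h3 := finrank_add_Ki_le (V := V) (Phi (blkInd Bᶜ))
    have hcomp : Phi (blkInd Bᶜ) = 1 - Phi (blkInd B) := by
      rw [← Phi_one, ← Phi_sub]
      congr 1
      funext ψ
      by_cases hψ : ψ ∈ B
      · have : ψ ∉ Bᶜ := fun h => h hψ
        simp [blkInd_of_not_mem this, blkInd_of_mem hψ]
      · have : ψ ∈ Bᶜ := hψ
        simp [blkInd_of_mem this, blkInd_of_not_mem hψ]
    have h4 : Ki (V := V) (Phi (blkInd Bᶜ)) ≤ LinearMap.ker (LinearMap.mulRight (Kf V) (1 - f)) := by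
      rintro _ ⟨a, ha, rfl⟩
      rw [LinearMap.mem_ker, LinearMap.mulRight_apply]
      have h5 : a * (1 - e) = 0 := by
        apply iotaV_injective
        rw [map_mul, map_sub, map_one, he, ← hcomp, ha, map_zero]
      have h6 := congrArg (rhoV V) h5
      rwa [map_mul, map_sub, map_one, map_zero] at h6
    have h7 := Submodule.finrank_mono h4
    have h8 : LinearMap.ker (LinearMap.mulRight (Kf V) f) =
        LinearMap.range (LinearMap.mulRight (Kf V) (1 - f)) := by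
      ext x
      simp only [LinearMap.mem_ker, LinearMap.mulRight_apply, LinearMap.mem_range]
      constructor
      · intro hx
        exact ⟨x, by rw [mul_sub, mul_one, hx, sub_zero]⟩
      · rintro ⟨y, rfl⟩
        rw [mul_assoc, sub_mul, one_mul, hff, sub_self, mul_zero]
    have h9 := LinearMap.finrank_range_add_finrank_ker (LinearMap.mulRight (Kf V) (1 - f))
    rw [← h8] at h9
    rw [hcardK] at h3 h9
    omega
  rw [hcardK] at h2
  have hsumle : ∑ χ ∈ bF B, charDegree (χ : G → ℂ) ^ 2 ≤ g ^ 2 * q := by omega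
  have hgpos : 0 < g ^ 2 := by positivity
  have hsumge : g ^ 2 * (bF B).card ≤ ∑ χ ∈ bF B, charDegree (χ : G → ℂ) ^ 2 := by
    calc g ^ 2 * (bF B).card = ∑ _χ ∈ bF B, g ^ 2 := by rw [Finset.sum_const, smul_eq_mul, mul_comm]
      _ ≤ _ := Finset.sum_le_sum fun χ hχ => hlow χ (mem_bF.1 hχ)
  have hqcard : q = (bF B).card := le_antisymm hqn (Nat.le_of_mul_le_mul_left (hsumge.trans hsumle) hgpos)
  rw [hqcard] at hsumle
  have heq : ∀ χ ∈ B, charDegree (χ : G → ℂ) ^ 2 = g ^ 2 := by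
    intro χ hχ
    by_contra hne
    have hlt : g ^ 2 < charDegree (χ : G → ℂ) ^ 2 := lt_of_le_of_ne (hlow χ hχ) (Ne.symm hne)
    have h3 : ∑ _χ ∈ bF B, g ^ 2 < ∑ χ ∈ bF B, charDegree (χ : G → ℂ) ^ 2 :=
      Finset.sum_lt_sum (fun χ hχ => hlow χ (mem_bF.1 hχ)) ⟨χ, mem_bF.2 hχ, hlt⟩
    rw [Finset.sum_const, smul_eq_mul, mul_comm] at h3
    omega
  have hg' : ∀ χ ∈ B, charDegree (χ : G → ℂ) = g := fun χ hχ =>
    Nat.pow_left_injective (n := 2) (by norm_num) (heq χ hχ)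
  rw [← hqcard]
  exact ⟨g, ε, z, X', Y', hg, hεε, hε0, hεf, hfε, hYX, hXY, hXε, hεY, hzc, hzf, hcor, hq0, hq2, hzqf, hg'⟩

end Cfsg.Agent.Lib.DcPackB
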