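import Mathlib

/-!
# Tate cohomology of a subgroup of prime order on a module with local endomorphism ring

`x` of order `p` in a finite group `G`, `p` not dividing the index of `P = ⟨x⟩`, `V` a
finite-dimensional `k G`-module in characteristic `p`, whose endomorphisms commuting with `G` are
nilpotent or surjective.  Then every normalizer-stable subspace between `N_P V` and `V^P` is one of these two.
-/

set_option autoImplicit false
set_option linter.unusedSectionVars false
set_option linter.unusedVariables false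

namespace Cfsg.Agent.Lib.RangeMod

open Subgroup Module

variable {G : Type*} [Group G] {k : Type*} [Field k] {V : Type*} [AddCommGroup V] [Module k V]

/-- `y = x - 1`. -/
noncomputable def yy (ρ : G →* Module.End k V) (x : G) : Module.End k V := ρ x - 1

/-- the fixed space of `x` -/
noncomputable def Fx (ρ : G →* Module.End k V) (x : G) : Submodule k V := LinearMap.ker (yy ρ x)

/-- the norm operator, as a geometric sum -/
noncomputable def nrm (ρ : G →* Module.End k V) (x : G) (p : ℕ) : Module.End k V :=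
  ∑ i ∈ Finset.range p, ρ x ^ i

/-- the image of the norm -/
noncomputable def ImN (ρ : G →* Module.End k V) (x : G) (p : ℕ) : Submodule k V :=
  LinearMap.range (nrm ρ x p)

theorem geom_eq_pow {p : ℕ} [hp : Fact p.Prime] [CharP k p] (a : Module.End k V) :
    ∑ i ∈ Finset.range p, a ^ i = (a - 1) ^ (p - 1) := by
  have h0 : (∑ i ∈ Finset.range p, (Polynomial.X : Polynomial k) ^ i) = (Polynomial.X - 1) ^ (p - 1) := by
    have hne : (Polynomial.X - 1 : Polynomial k) ≠ 0 := by
      simpa using Polynomial.X_sub_C_ne_zero (1 : k)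
    apply mul_left_cancel₀ hne
    rw [mul_geom_sum, ← pow_succ', Nat.sub_add_cancel hp.out.one_lt.le, sub_pow_char, one_pow]
  have h1 := congrArg (Polynomial.aeval a) h0
  simpa using h1

theorem nrm_eq {p : ℕ} [hp : Fact p.Prime] [CharP k p] (ρ : G →* Module.End k V) (x : G) :
    nrm ρ x p = yy ρ x ^ (p - 1) := geom_eq_pow _

theorem rho_zpow_fix {ρ : G →* Module.End k V} {x : G} {v : V} (hv : v ∈ Fx ρ x) (hfin : IsOfFinOrder x) {u : G}
    (hu : u ∈ zpowers x) : ρ u v = v := by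
  have hv' : ρ x v = v := by
    have : (ρ x - 1) v = 0 := hv
    simpa [sub_eq_zero] using this
  have h1 : u ∈ Submonoid.powers x := hfin.mem_powers_iff_mem_zpowers.2 hu
  obtain ⟨n, rfl⟩ := h1
  have h2 : ∀ n : ℕ, ρ (x ^ n) v = v := by
    intro n
    induction n with
    | zero => simp
    | succ n ih => rw [pow_succ, map_mul, Module.End.mul_apply, hv', ih]
  exact h2 n

section KeyMap

variable (y : Module.End k V) (l : V →ₗ[k] k) (g : V) (i₀ : ℕ)

/-- The map `v ↦ ∑ λ(y^{i₀ - i} v) y^i g`. -/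
noncomputable def phi : Module.End k V :=
  ∑ i ∈ Finset.range (i₀ + 1), (LinearMap.toSpanSingleton k V ((y ^ i) g)) ∘ₗ (l ∘ₗ (y ^ (i₀ - i)))

theorem phi_apply (v : V) : phi y l g i₀ v = ∑ i ∈ Finset.range (i₀ + 1), l ((y ^ (i₀ - i)) v) • (y ^ i) g := by
  simp [phi, LinearMap.sum_apply]

theorem phi_comm (hl : ∀ v, l ((y ^ (i₀ + 1)) v) = 0) (hg : (y ^ (i₀ + 1)) g = 0) :
    phi y l g i₀ * y = y * phi y l g i₀ := by
  ext v
  rw [Module.End.mul_apply, Module.End.mul_apply, phi_apply, phi_apply, map_sum]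
  rw [Finset.sum_range_succ' (fun i => l ((y ^ (i₀ - i)) (y v)) • (y ^ i) g)]
  rw [Finset.sum_range_succ (fun i => y (l ((y ^ (i₀ - i)) v) • (y ^ i) g))]
  have h0 : l ((y ^ (i₀ - 0)) (y v)) • (y ^ 0) g = 0 := by
    have : (y ^ (i₀ - 0)) (y v) = (y ^ (i₀ + 1)) v := by
      rw [Nat.sub_zero, pow_succ, Module.End.mul_apply]
    rw [this, hl, zero_smul]
  have h1 : y (l ((y ^ (i₀ - i₀)) v) • (y ^ i₀) g) = 0 := by
    rw [map_smul, ← Module.End.mul_apply, ← pow_succ', hg, smul_zero]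
  rw [h0, h1, add_zero, add_zero]
  refine Finset.sum_congr rfl fun i hi => ?_
  have hi' : i < i₀ := Finset.mem_range.1 hi
  have h2 : (y ^ (i₀ - (i + 1))) (y v) = (y ^ (i₀ - i)) v := by
    rw [← Module.End.mul_apply, ← pow_succ]
    congr 2
    omega
  rw [h2, map_smul, ← Module.End.mul_apply, ← pow_succ']

theorem phi_fix {v : V} (hv : y v = 0) : phi y l g i₀ v = l v • (y ^ i₀) g := by
  rw [phi_apply, Finset.sum_range_succ]
  rw [Finset.sum_eq_zero, zero_add, Nat.sub_self, pow_zero, Module.End.one_apply]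
  intro i hi
  have hi' : i < i₀ := Finset.mem_range.1 hi
  obtain ⟨m, hm⟩ : ∃ m, i₀ - i = m + 1 := ⟨i₀ - i - 1, by omega⟩
  rw [hm, pow_succ, Module.End.mul_apply, hv, map_zero, map_zero, zero_smul]

end KeyMap

section Transfer

variable [Fintype G] [DecidableEq G]

/-- the conjugate `q.out φ q.out⁻¹` -/
noncomputable def tq (ρ : G →* Module.End k V) (P : Subgroup G) (φ : Module.End k V) (q : G ⧸ P) : Module.End k V :=
  ρ q.out * φ * ρ q.out⁻¹

theorem tq_eq {ρ : G →* Module.End k V} {P : Subgroup G} {φ : Module.End k V}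
    (hφ : ∀ u ∈ P, φ * ρ u = ρ u * φ) (g : G) :
    tq ρ P φ (g : G ⧸ P) = ρ g * φ * ρ g⁻¹ := by
  have h : ((g : G ⧸ P)).out⁻¹ * g ∈ P := by
    rw [← QuotientGroup.eq]
    exact QuotientGroup.out_eq' _
  set a := ((g : G ⧸ P)).out with ha
  obtain ⟨u, hu⟩ : ∃ u, u = a⁻¹ * g := ⟨_, rfl⟩
  have hg : g = a * u := by rw [hu]; group
  have hu' : u ∈ P := hu ▸ h
  unfold tq
  rw [← ha, hg, mul_inv_rev, map_mul, map_mul]
  have h1 : ρ u * φ * ρ u⁻¹ = φ := by
    rw [← hφ u hu', mul_assoc, ← map_mul, mul_inv_cancel, map_one, mul_one]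
  calc ρ a * φ * ρ a⁻¹ = ρ a * (ρ u * φ * ρ u⁻¹) * ρ a⁻¹ := by rw [h1]
    _ = _ := by noncomm_ring

/-- The relative trace. -/
noncomputable def trf (ρ : G →* Module.End k V) (P : Subgroup G) [Fintype (G ⧸ P)] (φ : Module.End k V) :
    Module.End k V := ∑ q : G ⧸ P, tq ρ P φ q

theorem conj_tq {ρ : G →* Module.End k V} {P : Subgroup G} {φ : Module.End k V}
    (hφ : ∀ u ∈ P, φ * ρ u = ρ u * φ) (h : G) (q : G ⧸ P) :
    ρ h * tq ρ P φ q * ρ h⁻¹ = tq ρ P φ (h • q) := by
  induction q using QuotientGroup.induction_on with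
  | H g =>
    have : h • (g : G ⧸ P) = ((h * g : G) : G ⧸ P) := rfl
    rw [this, tq_eq hφ, tq_eq hφ, mul_inv_rev, map_mul, map_mul]
    noncomm_ring

theorem trf_comm {ρ : G →* Module.End k V} {P : Subgroup G} [Fintype (G ⧸ P)] {φ : Module.End k V}
    (hφ : ∀ u ∈ P, φ * ρ u = ρ u * φ) (h : G) : trf ρ P φ * ρ h = ρ h * trf ρ P φ := by
  have h1 : ρ h * trf ρ P φ * ρ h⁻¹ = trf ρ P φ := by
    unfold trf
    rw [Finset.mul_sum, Finset.sum_mul]
    simp_rw [conj_tq hφ h]
    exact Equiv.sum_comp (MulAction.toPerm h) (tq ρ P φ)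
  have h2 : ρ h⁻¹ * ρ h = 1 := by rw [← map_mul, inv_mul_cancel, map_one]
  calc trf ρ P φ * ρ h = (ρ h * trf ρ P φ * ρ h⁻¹) * ρ h := by rw [h1]
    _ = ρ h * trf ρ P φ * (ρ h⁻¹ * ρ h) := by noncomm_ring
    _ = _ := by rw [h2, mul_one]

/-- Orbit sums: a function equivariant for a free action has sum in the image of the norm. -/
theorem orbit_sum_mem {H Ω : Type*} [Group H] [Fintype H] [MulAction H Ω] [DecidableEq Ω]
    (σ : H →* Module.End k V) (f : Ω → V) (hf : ∀ (u : H) (q : Ω), f (u • q) = σ u (f q))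
    (S : Finset Ω) (hS : ∀ q ∈ S, ∀ u : H, u • q ∈ S) (hfree : ∀ q ∈ S, ∀ u : H, u • q = q → u = 1) :
    ∑ q ∈ S, f q ∈ LinearMap.range (∑ u : H, σ u) := by
  classical
  induction S using Finset.strongInduction with
  | H S ih =>
    rcases S.eq_empty_or_nonempty with rfl | ⟨q₀, hq₀⟩
    · simp
    set O : Finset Ω := Finset.univ.image (fun u : H => u • q₀) with hO
    have hOS : O ⊆ S := by
      intro q hq
      obtain ⟨u, -, rfl⟩ := Finset.mem_image.1 hq
      exact hS _ hq₀ u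
    have hq₀O : q₀ ∈ O := Finset.mem_image.2 ⟨1, Finset.mem_univ _, one_smul _ _⟩
    have hlt : S \ O ⊂ S := by
      refine Finset.ssubset_iff_subset_ne.2 ⟨Finset.sdiff_subset, ?_⟩
      intro h
      have : q₀ ∈ S \ O := by rw [h]; exact hq₀
      exact (Finset.mem_sdiff.1 this).2 hq₀O
    have hstable : ∀ q ∈ S \ O, ∀ u : H, u • q ∈ S \ O := by
      intro q hq u
      obtain ⟨h1, h2⟩ := Finset.mem_sdiff.1 hq
      refine Finset.mem_sdiff.2 ⟨hS q h1 u, ?_⟩
      intro h3
      obtain ⟨v, -, hv⟩ := Finset.mem_image.1 h3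
      apply h2
      refine Finset.mem_image.2 ⟨u⁻¹ * v, Finset.mem_univ _, ?_⟩
      show (u⁻¹ * v) • q₀ = q
      rw [mul_smul, hv, inv_smul_smul]
    have hrest := ih _ hlt hstable (fun q hq u hu => hfree q (Finset.mem_sdiff.1 hq).1 u hu)
    rw [← Finset.sum_sdiff hOS]
    refine Submodule.add_mem _ hrest ?_
    rw [hO, Finset.sum_image]
    · refine ⟨f q₀, ?_⟩
      simp [LinearMap.sum_apply, hf]
    · intro u _ v _ huv
      have huv' : u • q₀ = v • q₀ := huv
      have : (v⁻¹ * u) • q₀ = q₀ := by rw [mul_smul, huv', inv_smul_smul]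
      have h1 := hfree q₀ hq₀ _ this
      rw [inv_mul_eq_one] at h1
      exact h1.symm

end Transfer

section Quot

variable (F I : Submodule k V)

/-- The quotient `F / I`. -/
abbrev QQ : Type _ := F ⧸ (I.comap F.subtype)

/-- Induced operator on the quotient. -/
noncomputable def indQ (D : Module.End k V) (hF : ∀ v ∈ F, D v ∈ F) (hI : ∀ v ∈ I, D v ∈ I) : QQ F I →ₗ[k] QQ F I :=
  Submodule.mapQ _ _ (D.restrict hF) (by intro v hv; exact hI _ hv)

variable {F I}

theorem indQ_mk (D : Module.End k V) (hF : ∀ v ∈ F, D v ∈ F) (hI : ∀ v ∈ I, D v ∈ I) (v : F) :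
    indQ F I D hF hI (Submodule.Quotient.mk v) = Submodule.Quotient.mk ⟨D v, hF v v.2⟩ := rfl

theorem indQ_ext {A B : QQ F I →ₗ[k] QQ F I}
    (h : ∀ v : F, A (Submodule.Quotient.mk v) = B (Submodule.Quotient.mk v)) : A = B := by
  refine LinearMap.ext fun q => ?_
  obtain ⟨v, rfl⟩ := Submodule.Quotient.mk_surjective _ q
  exact h v

theorem mk_eq_mk_iff {v w : F} : (Submodule.Quotient.mk v : QQ F I) = Submodule.Quotient.mk w ↔ (v : V) - w ∈ I := by
  rw [Submodule.Quotient.eq]
  simp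

theorem indQ_mul (A B : Module.End k V) (hAF : ∀ v ∈ F, A v ∈ F) (hAI : ∀ v ∈ I, A v ∈ I)
    (hBF : ∀ v ∈ F, B v ∈ F) (hBI : ∀ v ∈ I, B v ∈ I) :
    indQ F I (A * B) (fun v hv => hAF _ (hBF v hv)) (fun v hv => hAI _ (hBI v hv)) =
      indQ F I A hAF hAI * indQ F I B hBF hBI := indQ_ext fun v => rfl

theorem indQ_pow (A : Module.End k V) (hAF : ∀ v ∈ F, A v ∈ F) (hAI : ∀ v ∈ I, A v ∈ I) (n : ℕ) (v : F) :
    (indQ F I A hAF hAI ^ n) (Submodule.Quotient.mk v) =
      Submodule.Quotient.mk ⟨(A ^ n) v, by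
        induction n with
        | zero => simp
        | succ n ih => rw [pow_succ', Module.End.mul_apply]; exact hAF _ ih⟩ := by
  induction n with
  | zero => rfl
  | succ n ih =>
    rw [pow_succ', Module.End.mul_apply, ih, indQ_mk]
    congr 1
    apply Subtype.ext
    simp [pow_succ', Module.End.mul_apply]

end Quot

section Main

variable [Fintype G] [DecidableEq G] {p : ℕ} [hp : Fact p.Prime]

theorem ne_one_of_order {x : G} (hx : orderOf x = p) : x ≠ 1 := by
  intro h
  rw [h, orderOf_one] at hx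
  exact hp.out.one_lt.ne hx

theorem zpowers_eq_of_mem {x u : G} (hx : orderOf x = p) (hu : u ∈ zpowers x) (hne : u ≠ 1) : zpowers u = zpowers x := by
  have h1 : zpowers u ≤ zpowers x := by
    rw [zpowers_le]; exact hu
  refine Subgroup.eq_of_le_of_card_ge h1 ?_
  have h2 : Nat.card (zpowers x) = p := by rw [Nat.card_zpowers, hx]
  have h3 : Nat.card (zpowers u) ∣ p := by
    rw [← h2]; exact Subgroup.card_dvd_of_le h1
  rw [h2]
  rcases (Nat.dvd_prime hp.out).1 h3 with h4 | h4
  · exfalso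
    rw [Nat.card_zpowers, orderOf_eq_one_iff] at h4
    exact hne h4
  · rw [h4]

theorem mem_normalizer_of_conj {x g : G} (hx : orderOf x = p) (h : g⁻¹ * x * g ∈ zpowers x) :
    g ∈ normalizer (zpowers x : Set G) := by
  have hne : g⁻¹ * x * g ≠ 1 := by
    intro h1
    apply ne_one_of_order hx
    have : x = g * (g⁻¹ * x * g) * g⁻¹ := by group
    rw [this, h1]; simp
  have hz := zpowers_eq_of_mem hx h hne
  have hconj : ∀ i : ℤ, (g⁻¹ * x * g) ^ i = g⁻¹ * x ^ i * g := by
    intro i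
    have := conj_zpow (a := g⁻¹) (b := x) (i := i)
    simpa using this
  have hinv : g⁻¹ ∈ normalizer (zpowers x : Set G) := by
    rw [Subgroup.mem_normalizer_iff]
    intro u
    simp only [inv_inv]
    constructor
    · intro hu
      obtain ⟨i, rfl⟩ := Subgroup.mem_zpowers_iff.1 hu
      show g⁻¹ * x ^ i * g ∈ zpowers x
      rw [← hconj]
      exact Subgroup.zpow_mem _ h _
    · intro hu
      rw [← hz] at hu
      obtain ⟨i, hi⟩ := Subgroup.mem_zpowers_iff.1 hu
      rw [hconj] at hi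
      have : x ^ i = u := by
        have h2 := mul_left_cancel (mul_right_cancel hi)
        exact h2
      rw [← this]
      exact Subgroup.zpow_mem _ (mem_zpowers x) _
  simpa using Subgroup.inv_mem _ hinv

variable [CharP k p] [FiniteDimensional k V]

variable {ρ : G →* Module.End k V} {x : G}

theorem comm_of_comm_x {φ : Module.End k V} (hx : orderOf x = p) (h : φ * ρ x = ρ x * φ) :
    ∀ u ∈ zpowers x, φ * ρ u = ρ u * φ := by
  intro u hu
  have hfin : IsOfFinOrder x := isOfFinOrder_of_finite x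
  obtain ⟨n, rfl⟩ := hfin.mem_powers_iff_mem_zpowers.2 hu
  have hc : Commute φ (ρ x) := h
  show φ * ρ (x ^ n) = ρ (x ^ n) * φ
  rw [map_pow]
  exact (hc.pow_right n)

theorem rho_fx_mem {n : G} (hn : n ∈ normalizer (zpowers x : Set G)) {v : V} (hv : v ∈ Fx ρ x) : ρ n v ∈ Fx ρ x := by
  have hfin : IsOfFinOrder x := isOfFinOrder_of_finite x
  have h1 : n⁻¹ * x * n ∈ zpowers x := by
    have := (Subgroup.mem_normalizer_iff.1 (Subgroup.inv_mem _ hn) x).1 (mem_zpowers x)
    simpa using this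
  have h2 := rho_zpow_fix hv hfin h1
  have h3 : ρ x (ρ n v) = ρ n (ρ (n⁻¹ * x * n) v) := by
    rw [← Module.End.mul_apply, ← Module.End.mul_apply, ← map_mul, ← map_mul]
    congr 2
    group
  unfold Fx yy
  rw [LinearMap.mem_ker, LinearMap.sub_apply, Module.End.one_apply, h3, h2, sub_self]

/-- The sum over the subgroup is the geometric sum. -/
theorem sum_zpowers_eq (hx : orderOf x = p) [Fintype (zpowers x)] : ∑ u : zpowers x, ρ u = nrm ρ x p := by
  unfold nrm
  rw [← hx, ← Fin.sum_univ_eq_sum_range (fun i => ρ x ^ i)]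
  rw [← Equiv.sum_comp (finEquivZPowers (isOfFinOrder_of_finite x))]
  refine Finset.sum_congr rfl fun i _ => ?_
  rw [finEquivZPowers_apply]
  show ρ (x ^ (i : ℕ)) = _
  rw [map_pow]

theorem nrm_conj (hx : orderOf x = p) {n : G} (hn : n ∈ normalizer (zpowers x : Set G)) :
    ρ n * nrm ρ x p = nrm ρ x p * ρ n := by
  classical
  rw [← sum_zpowers_eq (ρ := ρ) hx, Finset.mul_sum, Finset.sum_mul]
  have hmem : ∀ u : zpowers x, n * (u : G) * n⁻¹ ∈ zpowers x := fun u =>
    (Subgroup.mem_normalizer_iff.1 hn u).1 u.2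
  have hmem' : ∀ u : zpowers x, n⁻¹ * (u : G) * n ∈ zpowers x := fun u => by
    have := (Subgroup.mem_normalizer_iff.1 (Subgroup.inv_mem _ hn) u).1 u.2
    simpa using this
  let e : zpowers x ≃ zpowers x :=
    { toFun := fun u => ⟨n * u * n⁻¹, hmem u⟩
      invFun := fun u => ⟨n⁻¹ * u * n, hmem' u⟩
      left_inv := fun u => by ext; simp; group
      right_inv := fun u => by ext; simp; group }
  rw [← Equiv.sum_comp e (fun u => ρ (u : G) * ρ n)]
  refine Finset.sum_congr rfl fun u _ => ?_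
  rw [← map_mul, ← map_mul]
  congr 1
  show n * (u : G) = n * u * n⁻¹ * n
  group

theorem rho_im_mem (hx : orderOf x = p) {n : G} (hn : n ∈ normalizer (zpowers x : Set G)) {v : V}
    (hv : v ∈ ImN ρ x p) : ρ n v ∈ ImN ρ x p := by
  obtain ⟨w, rfl⟩ := hv
  refine ⟨ρ n w, ?_⟩
  rw [← Module.End.mul_apply, ← Module.End.mul_apply, nrm_conj hx hn]

theorem im_le_fx (hx : orderOf x = p) : ImN ρ x p ≤ Fx ρ x := by
  rintro _ ⟨w, rfl⟩
  unfold Fx
  rw [LinearMap.mem_ker, nrm_eq, ← Module.End.mul_apply, ← pow_succ', Nat.sub_add_cancel hp.out.one_lt.le]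
  have : yy ρ x ^ p = ρ x ^ p - 1 := by
    have h0 : (Polynomial.X - 1 : Polynomial k) ^ p = Polynomial.X ^ p - 1 := by
      rw [sub_pow_char, one_pow]
    have h1 := congrArg (Polynomial.aeval (ρ x)) h0
    simpa [yy] using h1
  rw [this, ← map_pow, ← hx, pow_orderOf_eq_one, map_one, sub_self]
  rfl

/-- Modulo the image of the norm, the relative trace is the sum over the `x`-fixed cosets. -/
theorem trf_mod (hx : orderOf x = p) [Fintype (G ⧸ zpowers x)] [DecidableEq (G ⧸ zpowers x)]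
    {φ : Module.End k V} (hφ : ∀ u ∈ zpowers x, φ * ρ u = ρ u * φ) {v : V} (hv : v ∈ Fx ρ x) :
    trf ρ (zpowers x) φ v - ∑ q ∈ Finset.univ.filter (fun q : G ⧸ zpowers x => x • q = q), tq ρ (zpowers x) φ q v
      ∈ ImN ρ x p := by
  classical
  have hfin : IsOfFinOrder x := isOfFinOrder_of_finite x
  set S := Finset.univ.filter (fun q : G ⧸ zpowers x => ¬ x • q = q) with hS
  have hsplit : trf ρ (zpowers x) φ v = ∑ q ∈ Finset.univ.filter (fun q : G ⧸ zpowers x => x • q = q), tq ρ (zpowers x) φ q v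
      + ∑ q ∈ S, tq ρ (zpowers x) φ q v := by
    unfold trf
    rw [LinearMap.sum_apply, hS, Finset.sum_filter_add_sum_filter_not]
  rw [hsplit, add_sub_cancel_left]
  let σ : zpowers x →* Module.End k V := ρ.comp (zpowers x).subtype
  have hR : LinearMap.range (∑ u : zpowers x, σ u) = ImN ρ x p := by
    unfold ImN
    rw [← sum_zpowers_eq hx]
    rfl
  rw [← hR]
  refine orbit_sum_mem σ (fun q => tq ρ (zpowers x) φ q v) ?_ S ?_ ?_
  · intro u q
    have h1 := conj_tq hφ (u : G) q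
    have h2 : (u • q) = (u : G) • q := rfl
    show tq ρ (zpowers x) φ (u • q) v = ρ u (tq ρ (zpowers x) φ q v)
    rw [h2, ← h1, Module.End.mul_apply, Module.End.mul_apply]
    rw [rho_zpow_fix hv hfin (Subgroup.inv_mem _ u.2)]
  · intro q hq u
    rw [hS, Finset.mem_filter] at hq ⊢
    refine ⟨Finset.mem_univ _, fun h => hq.2 ?_⟩
    have hu : (u : G) ∈ zpowers x := u.2
    obtain ⟨n, hn⟩ := hfin.mem_powers_iff_mem_zpowers.2 hu
    have hcomm : x * (u : G) = u * x := by
      rw [← hn]; exact (Commute.self_pow x n).eq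
    have h2 : (u : G) • (x • q) = (u : G) • q := by
      rw [← mul_smul, ← hcomm, mul_smul]
      exact h
    exact smul_left_cancel _ h2
  · intro q hq u hu
    rw [hS, Finset.mem_filter] at hq
    by_contra hne
    have hne' : (u : G) ≠ 1 := fun h => hne (Subtype.ext h)
    apply hq.2
    have hz := zpowers_eq_of_mem hx u.2 hne'
    have hxm : x ∈ zpowers (u : G) := by rw [hz]; exact mem_zpowers x
    obtain ⟨i, hi⟩ := Subgroup.mem_zpowers_iff.1 hxm
    have hu' : (u : G) • q = q := hu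
    have : ∀ i : ℤ, ((u : G) ^ i) • q = q := by
      intro i
      exact (MulAction.mem_stabilizer_iff (G := G) (a := q)).1
        (Subgroup.zpow_mem _ ((MulAction.mem_stabilizer_iff).2 hu') i)
    have h5 := this i
    rwa [hi] at h5

/-- `q` fixed by `x` has representative in the normalizer -/
theorem out_mem_normalizer (hx : orderOf x = p) {q : G ⧸ zpowers x} (hq : x • q = q) :
    q.out ∈ normalizer (zpowers x : Set G) := by
  apply mem_normalizer_of_conj hx
  have h1 : ((x * q.out : G) : G ⧸ zpowers x) = (q.out : G ⧸ zpowers x) := by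
    have : ((x * q.out : G) : G ⧸ zpowers x) = x • (q.out : G ⧸ zpowers x) := rfl
    rw [this, QuotientGroup.out_eq', hq]
  rw [QuotientGroup.eq] at h1
  have h2 := Subgroup.inv_mem _ h1
  have h3 : ((x * q.out)⁻¹ * q.out)⁻¹ = q.out⁻¹ * x * q.out := by group
  rwa [h3] at h2

/-- **Key theorem**: Normalizer-stable subspaces of the Tate quotient. -/
theorem tate_simple (hx : orderOf x = p) (hidx : ¬ p ∣ (zpowers x).index)
    (hloc : ∀ φ : Module.End k V, (∀ g, φ * ρ g = ρ g * φ) → IsNilpotent φ ∨ Function.Surjective φ)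
    (W : Submodule k V) (h1 : ImN ρ x p ≤ W) (h2 : W ≤ Fx ρ x)
    (h3 : ∀ n ∈ normalizer (zpowers x : Set G), ∀ v ∈ W, ρ n v ∈ W) :
    W = ImN ρ x p ∨ W = Fx ρ x := by
  classical
  by_cases hWI : W ≤ ImN ρ x p
  · exact Or.inl (le_antisymm hWI h1)
  right
  refine le_antisymm h2 ?_
  set y := yy ρ x with hy
  have hI : ImN ρ x p = LinearMap.range (y ^ (p - 1)) := by
    unfold ImN
    rw [nrm_eq]
  -- the largest depth
  let Sd : ℕ → Prop := fun i => ∃ w ∈ W, w ∈ LinearMap.range (y ^ i) ∧ w ∉ ImN ρ x p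
  have hS0 : Sd 0 := by
    obtain ⟨w, hw, hw'⟩ := SetLike.not_le_iff_exists.1 hWI
    exact ⟨w, hw, ⟨w, by simp⟩, hw'⟩
  have hbound : ∀ i, Sd i → i < p - 1 := by
    rintro i ⟨w, hw, ⟨g, rfl⟩, hn⟩
    by_contra hi
    apply hn
    rw [hI]
    obtain ⟨m, hm⟩ : ∃ m, i = m + (p - 1) := ⟨i - (p - 1), by omega⟩
    refine ⟨(y ^ m) g, ?_⟩
    rw [← Module.End.mul_apply, ← pow_add, add_comm, hm]
  have hS0' := Nat.findGreatest_spec (P := Sd) (m := 0) (n := p) (Nat.zero_le _) hS0
  set i₀ := Nat.findGreatest Sd p with hi₀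
  obtain ⟨w, hwW, ⟨g, hg⟩, hwI⟩ := hS0'
  have hi₀lt : i₀ + 1 ≤ p - 1 := hbound i₀ ⟨w, hwW, ⟨g, hg⟩, hwI⟩
  have hwn : w ∉ LinearMap.range (y ^ (i₀ + 1)) := by
    intro h
    have h4 : Sd (i₀ + 1) := ⟨w, hwW, h, hwI⟩
    have h5 := Nat.le_findGreatest (P := Sd) (m := i₀ + 1) (n := p) (by omega) h4
    omega
  obtain ⟨l0, hl0, hl0'⟩ := Submodule.exists_le_ker_of_notMem hwn
  let l : V →ₗ[k] k := (l0 w)⁻¹ • l0
  have hlw : l w = 1 := by
    simp [l]
    exact inv_mul_cancel₀ hl0
  have hl : ∀ v, l ((y ^ (i₀ + 1)) v) = 0 := by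
    intro v
    have : (y ^ (i₀ + 1)) v ∈ LinearMap.ker l0 := hl0' ⟨v, rfl⟩
    simp only [l, LinearMap.smul_apply]
    rw [LinearMap.mem_ker.1 this, smul_zero]
  have hyw : y w = 0 := h2 hwW
  have hgz : (y ^ (i₀ + 1)) g = 0 := by
    rw [pow_succ', Module.End.mul_apply, hg, hyw]
  set φ := phi y l g i₀ with hφdef
  have hφy : φ * y = y * φ := phi_comm y l g i₀ hl hgz
  have hφx : φ * ρ x = ρ x * φ := by
    have : ρ x = y + 1 := by rw [hy]; simp [yy]
    rw [this, mul_add, add_mul, hφy, mul_one, one_mul]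
  have hφu := comm_of_comm_x (ρ := ρ) hx hφx
  have hφF : ∀ v ∈ Fx ρ x, φ v = l v • w := by
    intro v hv
    rw [hφdef, phi_fix y l g i₀ hv, hg]
  have hlim : ∀ v ∈ ImN ρ x p, l v = 0 := by
    intro v hv
    rw [hI] at hv
    obtain ⟨u, rfl⟩ := hv
    obtain ⟨m, hm⟩ : ∃ m, p - 1 = (i₀ + 1) + m := ⟨p - 1 - (i₀ + 1), by omega⟩
    rw [hm, pow_add, Module.End.mul_apply]
    exact hl _
  -- the relative trace
  let _ : Fintype (G ⧸ zpowers x) := Fintype.ofFinite _
  set Z := trf ρ (zpowers x) φ with hZ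
  have hZcomm : ∀ h, Z * ρ h = ρ h * Z := fun h => trf_comm hφu h
  set Fix := Finset.univ.filter (fun q : G ⧸ zpowers x => x • q = q) with hFix
  have hmod : ∀ v ∈ Fx ρ x, Z v - ∑ q ∈ Fix, tq ρ (zpowers x) φ q v ∈ ImN ρ x p := fun v hv => trf_mod hx hφu hv
  have hinvN : ∀ q ∈ Fix, q.out⁻¹ ∈ normalizer (zpowers x : Set G) := fun q hq =>
    Subgroup.inv_mem _ (out_mem_normalizer hx (Finset.mem_filter.1 hq).2)
  have hN : ∀ q ∈ Fix, q.out ∈ normalizer (zpowers x : Set G) := fun q hq =>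
    out_mem_normalizer hx (Finset.mem_filter.1 hq).2
  -- the image on F lies in W
  have himW : ∀ v ∈ Fx ρ x, Z v ∈ W := by
    intro v hv
    have h4 := h1 (hmod v hv)
    have h5 : ∑ q ∈ Fix, tq ρ (zpowers x) φ q v ∈ W := by
      refine Submodule.sum_mem _ fun q hq => ?_
      unfold tq
      rw [Module.End.mul_apply, Module.End.mul_apply, hφF _ (rho_fx_mem (hinvN q hq) hv), map_smul]
      exact Submodule.smul_mem _ _ (h3 _ (hN q hq) _ hwW)
    have := W.add_mem h4 h5
    simpa using this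
  rcases hloc Z hZcomm with hnil | hsurj
  · -- nilpotent: trace on the quotient
    exfalso
    set F := Fx ρ x
    set I := ImN ρ x p
    have hφFF : ∀ v ∈ F, φ v ∈ F := by
      intro v hv
      rw [hφF v hv]
      exact F.smul_mem _ (h2 hwW)
    have hφII : ∀ v ∈ I, φ v ∈ I := by
      intro v hv
      rw [hI] at hv ⊢
      obtain ⟨u, rfl⟩ := hv
      refine ⟨φ u, ?_⟩
      have hc : Commute φ (y ^ (p - 1)) := (show Commute φ y from hφy).pow_right _
      rw [← Module.End.mul_apply, ← Module.End.mul_apply, hc.eq]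
    have hρF : ∀ n ∈ normalizer (zpowers x : Set G), ∀ v ∈ F, ρ n v ∈ F := fun n hn v hv => rho_fx_mem hn hv
    have hρI : ∀ n ∈ normalizer (zpowers x : Set G), ∀ v ∈ I, ρ n v ∈ I := fun n hn v hv => rho_im_mem hx hn hv
    have hZF : ∀ v ∈ F, Z v ∈ F := fun v hv => h2 (himW v hv)
    have hZI : ∀ v ∈ I, Z v ∈ I := by
      intro v hv
      obtain ⟨u, rfl⟩ := hv
      refine ⟨Z u, ?_⟩
      have hc : Z * nrm ρ x p = nrm ρ x p * Z := by
        unfold nrm
        rw [Finset.mul_sum, Finset.sum_mul]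
        refine Finset.sum_congr rfl fun i _ => ?_
        rw [← map_pow]
        exact hZcomm _
      rw [← Module.End.mul_apply, ← Module.End.mul_apply, hc]
    let Zb := indQ F I Z hZF hZI
    let φb := indQ F I φ hφFF hφII
    have hZnil : IsNilpotent Zb := by
      obtain ⟨n, hn⟩ := hnil
      refine ⟨n, indQ_ext fun v => ?_⟩
      rw [indQ_pow]
      simp only [hn]
      rfl
    have htr0 : LinearMap.trace k (QQ F I) Zb = 0 :=
      (LinearMap.isNilpotent_trace_of_isNilpotent hZnil).eq_zero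
    -- each fixed conjugate
    have hFq : ∀ q ∈ Fix, ∀ v ∈ F, (tq ρ (zpowers x) φ q) v ∈ F := by
      intro q hq v hv
      unfold tq
      exact hρF _ (hN q hq) _ (hφFF _ (hρF _ (hinvN q hq) _ hv))
    have hIq : ∀ q ∈ Fix, ∀ v ∈ I, (tq ρ (zpowers x) φ q) v ∈ I := by
      intro q hq v hv
      unfold tq
      exact hρI _ (hN q hq) _ (hφII _ (hρI _ (hinvN q hq) _ hv))
    have htq' : ∀ q (hq : q ∈ Fix), LinearMap.trace k (QQ F I) (indQ F I (tq ρ (zpowers x) φ q) (hFq q hq) (hIq q hq)) =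
        LinearMap.trace k (QQ F I) φb := by
      intro q hq
      have h5 : indQ F I (tq ρ (zpowers x) φ q) (hFq q hq) (hIq q hq) =
          indQ F I (ρ q.out) (hρF _ (hN q hq)) (hρI _ (hN q hq)) *
            (φb * indQ F I (ρ q.out⁻¹) (hρF _ (hinvN q hq)) (hρI _ (hinvN q hq))) := indQ_ext fun v => rfl
      rw [h5, LinearMap.trace_mul_comm, mul_assoc]
      have h6 : indQ F I (ρ q.out⁻¹) (hρF _ (hinvN q hq)) (hρI _ (hinvN q hq)) *
          indQ F I (ρ q.out) (hρF _ (hN q hq)) (hρI _ (hN q hq)) = 1 := by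
        refine indQ_ext fun v => ?_
        show Submodule.Quotient.mk _ = Submodule.Quotient.mk _
        congr 1
        apply Subtype.ext
        show ρ q.out⁻¹ (ρ q.out v) = v
        rw [← Module.End.mul_apply, ← map_mul, inv_mul_cancel, map_one, Module.End.one_apply]
      rw [h6, mul_one]
    -- sum formula
    have hsum : Zb = ∑ q ∈ Fix.attach, indQ F I (tq ρ (zpowers x) φ q.1) (hFq q.1 q.2) (hIq q.1 q.2) := by
      refine indQ_ext fun v => ?_
      rw [LinearMap.sum_apply]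
      have hmem := hmod v v.2
      have h7 : (∑ q ∈ Fix.attach, (indQ F I (tq ρ (zpowers x) φ q.1) (hFq q.1 q.2) (hIq q.1 q.2))
          (Submodule.Quotient.mk v)) = Submodule.Quotient.mk
            (∑ q ∈ Fix.attach, (⟨tq ρ (zpowers x) φ q.1 v, hFq q.1 q.2 v v.2⟩ : F)) := by
        exact (map_sum (Submodule.mkQ (I.comap F.subtype))
          (fun q : {q // q ∈ Fix} => (⟨tq ρ (zpowers x) φ q.1 v, hFq q.1 q.2 v v.2⟩ : F)) Fix.attach).symm
      rw [h7]
      show Submodule.Quotient.mk _ = _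
      rw [mk_eq_mk_iff]
      have h8 : ((∑ q ∈ Fix.attach, (⟨tq ρ (zpowers x) φ q.1 v, hFq q.1 q.2 v v.2⟩ : F) : F) : V) =
          ∑ q ∈ Fix, tq ρ (zpowers x) φ q v := by
        rw [AddSubmonoidClass.coe_finsetSum]
        rw [← Finset.sum_attach Fix]
      rw [h8]
      exact hmem
    -- trace of φb is one
    have hwF : w ∈ F := h2 hwW
    let wb : QQ F I := Submodule.Quotient.mk ⟨w, hwF⟩
    have hwb : wb ≠ 0 := by
      intro h
      apply hwI
      have := (Submodule.Quotient.mk_eq_zero _).1 h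
      exact this
    have hproj : LinearMap.IsProj (Submodule.span k {wb}) φb := by
      refine LinearMap.IsProj.mk ?_ ?_
      · intro q
        obtain ⟨v, rfl⟩ := Submodule.Quotient.mk_surjective _ q
        have : φb (Submodule.Quotient.mk v) = l v • wb := by
          show Submodule.Quotient.mk (⟨φ v, hφFF v v.2⟩ : F) = _
          have h9 : (⟨φ v, hφFF v v.2⟩ : F) = l v • ⟨w, hwF⟩ := Subtype.ext (hφF v v.2)
          rw [h9]
          rfl
        rw [this]
        exact Submodule.smul_mem _ _ (Submodule.mem_span_singleton_self _)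
      · intro q hq
        obtain ⟨c, rfl⟩ := Submodule.mem_span_singleton.1 hq
        rw [map_smul]
        congr 1
        show Submodule.Quotient.mk (⟨φ w, hφFF w hwF⟩ : F) = _
        have h9 : (⟨φ w, hφFF w hwF⟩ : F) = ⟨w, hwF⟩ := by
          apply Subtype.ext
          show φ w = w
          rw [hφF w hwF, hlw, one_smul]
        rw [h9]
    have htr1 : LinearMap.trace k (QQ F I) φb = 1 := by
      rw [hproj.trace, finrank_span_singleton hwb, Nat.cast_one]
    -- the count
    have htotal : LinearMap.trace k (QQ F I) Zb = (Fix.card : k) := by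
      rw [hsum, map_sum]
      rw [Finset.sum_congr rfl (fun q _ => (htq' q.1 q.2).trans htr1)]
      simp
    rw [htotal] at htr0
    -- fixed points counting
    have hcard : Nat.card (G ⧸ zpowers x) ≡ Nat.card (MulAction.fixedPoints (zpowers x) (G ⧸ zpowers x)) [MOD p] := by
      have hpg : IsPGroup p (zpowers x) := by
        apply IsPGroup.of_card (n := 1)
        rw [Nat.card_zpowers, hx, pow_one]
      exact hpg.card_modEq_card_fixedPoints _
    have hfixcard : Nat.card (MulAction.fixedPoints (zpowers x) (G ⧸ zpowers x)) = Fix.card := by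
      rw [Nat.card_eq_fintype_card, ← Fintype.card_coe]
      refine Fintype.card_congr (Equiv.subtypeEquivRight fun q => ?_)
      simp only [MulAction.mem_fixedPoints, hFix, Finset.mem_filter, Finset.mem_univ, true_and]
      constructor
      · intro h
        exact h ⟨x, mem_zpowers x⟩
      · intro h u
        obtain ⟨i, hi⟩ := Subgroup.mem_zpowers_iff.1 u.2
        have : ∀ i : ℤ, (x ^ i) • q = q := by
          intro i
          exact (MulAction.mem_stabilizer_iff (G := G) (a := q)).1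
            (Subgroup.zpow_mem _ ((MulAction.mem_stabilizer_iff).2 h) i)
        have h5 := this i
        rw [hi] at h5
        exact h5
    rw [hfixcard] at hcard
    have hcast : ((Fix.card : ℕ) : k) = 0 := htr0
    rw [CharP.cast_eq_zero_iff k p] at hcast
    apply hidx
    have h10 : Nat.card (G ⧸ zpowers x) ≡ 0 [MOD p] := hcard.trans (Nat.modEq_zero_iff_dvd.2 hcast)
    rw [Subgroup.index]
    exact Nat.modEq_zero_iff_dvd.1 h10
  · -- surjective
    have hinj : Function.Injective Z := LinearMap.injective_iff_surjective.2 hsurj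
    intro v hv
    obtain ⟨v', rfl⟩ := hsurj v
    have hv' : v' ∈ Fx ρ x := by
      unfold Fx at hv ⊢
      rw [LinearMap.mem_ker] at hv ⊢
      apply hinj
      rw [map_zero, ← hv]
      have hc : Z * yy ρ x = yy ρ x * Z := by
        unfold yy
        rw [mul_sub, sub_mul, hZcomm, mul_one, one_mul]
      rw [← Module.End.mul_apply, hc, Module.End.mul_apply]
    exact himW v' hv'

/-- When the normalizer acts on the Tate quotient through a cyclic group, the quotient has dimension at most one. -/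
theorem finrank_fx_le [IsAlgClosed k] (hx : orderOf x = p) (hidx : ¬ p ∣ (zpowers x).index)
    (hloc : ∀ φ : Module.End k V, (∀ g, φ * ρ g = ρ g * φ) → IsNilpotent φ ∨ Function.Surjective φ)
    {h : G} (hh : h ∈ normalizer (zpowers x : Set G))
    (hcyc : ∀ n ∈ normalizer (zpowers x : Set G), ∃ a : ℕ, ∀ v ∈ Fx ρ x, ρ n v - (ρ h ^ a) v ∈ ImN ρ x p) :
    finrank k (Fx ρ x) ≤ finrank k (ImN ρ x p) + 1 := by
  classical
  set F := Fx ρ x with hFdef
  set I := ImN ρ x p with hIdef
  have hIF : I ≤ F := im_le_fx hx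
  by_cases hFI : F ≤ I
  · have : F = I := le_antisymm hFI hIF
    rw [this]; omega
  have hρF : ∀ v ∈ F, ρ h v ∈ F := fun v hv => rho_fx_mem hh hv
  have hρI : ∀ v ∈ I, ρ h v ∈ I := fun v hv => rho_im_mem hx hh hv
  obtain ⟨v₁, hv₁, hv₁'⟩ := SetLike.not_le_iff_exists.1 hFI
  have hnt : Nontrivial (QQ F I) := by
    refine ⟨⟨Submodule.Quotient.mk ⟨v₁, hv₁⟩, 0, fun h0 => hv₁' ?_⟩⟩
    exact (Submodule.Quotient.mk_eq_zero (I.comap F.subtype)).1 h0
  obtain ⟨c, hc⟩ := Module.End.exists_eigenvalue (indQ F I (ρ h) hρF hρI)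
  obtain ⟨q₀, hq₀⟩ := hc.exists_hasEigenvector
  obtain ⟨⟨v₀, hv₀⟩, rfl⟩ := Submodule.Quotient.mk_surjective _ q₀
  have hne : v₀ ∉ I := by
    intro h1
    apply hq₀.2
    exact (Submodule.Quotient.mk_eq_zero (I.comap F.subtype)).2 h1
  have hstep : ρ h v₀ - c • v₀ ∈ I := by
    have h1 := hq₀.apply_eq_smul
    have h2 : (Submodule.Quotient.mk (⟨ρ h v₀, hρF v₀ hv₀⟩ : F) : QQ F I) =
        Submodule.Quotient.mk (c • (⟨v₀, hv₀⟩ : F)) := h1
    exact mk_eq_mk_iff.1 h2
  have hpow : ∀ a : ℕ, (ρ h ^ a) v₀ - c ^ a • v₀ ∈ I := by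
    intro a
    induction a with
    | zero => simp
    | succ a ih =>
      have h1 := hρI _ ih
      have h2 := I.smul_mem (c ^ a) hstep
      have h3 := I.add_mem h1 h2
      have h4 : ρ h ((ρ h ^ a) v₀ - c ^ a • v₀) + c ^ a • (ρ h v₀ - c • v₀) = (ρ h ^ (a + 1)) v₀ - c ^ (a + 1) • v₀ := by
        rw [pow_succ' (ρ h), Module.End.mul_apply, map_sub, map_smul, smul_sub, smul_smul, pow_succ c a]
        abel
      rwa [h4] at h3
  set W := I ⊔ Submodule.span k {v₀} with hW
  have h1 : I ≤ W := le_sup_left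
  have h2 : W ≤ F := sup_le hIF (by rw [Submodule.span_singleton_le_iff_mem]; exact hv₀)
  have hv₀W : v₀ ∈ W := Submodule.mem_sup_right (Submodule.mem_span_singleton_self _)
  have h3 : ∀ n ∈ normalizer (zpowers x : Set G), ∀ v ∈ W, ρ n v ∈ W := by
    intro n hn v hv
    obtain ⟨i, hi, s, hs, rfl⟩ := Submodule.mem_sup.1 hv
    obtain ⟨d, rfl⟩ := Submodule.mem_span_singleton.1 hs
    rw [map_add, map_smul]
    refine W.add_mem (h1 (rho_im_mem hx hn hi)) (W.smul_mem _ ?_)
    obtain ⟨a, ha⟩ := hcyc n hn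
    have h4 := h1 (ha v₀ hv₀)
    have h5 := h1 (hpow a)
    have h6 := W.smul_mem (c ^ a) hv₀W
    have h7 := W.add_mem h4 (W.add_mem h5 h6)
    have h8 : ρ n v₀ - (ρ h ^ a) v₀ + ((ρ h ^ a) v₀ - c ^ a • v₀ + c ^ a • v₀) = ρ n v₀ := by abel
    rwa [h8] at h7
  rcases tate_simple hx hidx hloc W h1 h2 h3 with h4 | h4
  · exfalso
    apply hne
    rw [← hIdef] at h4
    rw [← h4]
    exact hv₀W
  · rw [← hFdef] at h4
    rw [← h4, hW]
    refine (Submodule.finrank_add_le_finrank_add_finrank _ _).trans ?_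
    have := finrank_span_singleton (K := k) (v := v₀) (fun h0 => hne (h0 ▸ I.zero_mem))
    rw [this]

end Main

end Cfsg.Agent.Lib.RangeMod
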