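import Mathlib
import Cfsg.Agent.Lib.DcPackB
import Cfsg.Agent.Lib.RangeMod

/-!
# The local operator data for a block of the centralizer of an element of order `p`

A central generator of the centre of the block algebra which is an eigenvector for an automorphism.
-/

set_option autoImplicit false
set_option linter.unusedSectionVars false
set_option linter.unusedVariables false
set_option linter.unusedSimpArgs false

namespace Cfsg.Agent.Lib.DcLocal

open Cfsg Module MonoidAlgebra IsLocalRing Polynomial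
open Cfsg.Agent.Lib.BlockResidue Cfsg.Agent.Lib.BlockBrandt Cfsg.Agent.Lib.BlockQ
open Cfsg.Agent.Lib.BlockRankOne Cfsg.Agent.Lib.DcPackA Cfsg.Agent.Lib.DcPackB Cfsg.Agent.Lib.BlkBasic

universe u

section Abs

variable {k R : Type*} [Field k] [Ring R] [Algebra k R] [FiniteDimensional k R] {f : R}

/-- **The eigen-generator.** -/
theorem exists_op_abs {g q : ℕ} {ε z : R} (hq2 : 2 ≤ q) (hff : f * f = f) (hcf : ∀ x, f * x = x * f)
    (hεf : ε * f = ε) (hfε : f * ε = ε) (hzc : ∀ b, z * b = b * z) (hzf : z * f = z)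
    (hcor : ∀ a, ∃ c : k[X], ε * a * ε = aeval z c * ε)
    (hzq : z ^ q * ε = 0) (hzq1 : z ^ (q - 1) * ε ≠ 0) (hzqf : z ^ q * f = 0)
    (hZ : ∀ c : Fin (q + 1) → R, (∀ i x, c i * x = x * c i) → (∀ i, c i * f = c i) → ¬ LinearIndependent k c)
    (σ : R ≃ₐ[k] R) (hσf : σ f = f) {n : ℕ} (hn1 : 1 ≤ n) (hn : (n : k) ≠ 0)
    (hσn : ∀ y, (∀ b, y * b = b * y) → (⇑σ)^[n] y = y) :
    ∃ (x : R) (ζ : k), ζ ≠ 0 ∧ ζ ^ n = 1 ∧ σ x = ζ • x ∧ (∀ b, x * b = b * x) ∧ x * f = x ∧ x ^ q = 0 ∧
      x ^ (q - 1) ≠ 0 ∧ (∀ a, ∃ c : k[X], ε * a * ε = aeval x c * ε) ∧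
      (∀ y, (∀ b, y * b = b * y) → y * f = y → ∃ c : k[X], y = aeval x c * f) := by
  have hzpf : ∀ m, 1 ≤ m → z ^ m * f = z ^ m := by
    intro m hm
    obtain ⟨t, rfl⟩ : ∃ t, m = t + 1 := ⟨m - 1, by omega⟩
    rw [pow_succ, mul_assoc, hzf]
  have hz0 : z ^ q = 0 := by rw [← hzpf q (by omega), hzqf]
  have hz1 : z ^ (q - 1) ≠ 0 := fun h => hzq1 (by rw [h, zero_mul])
  obtain ⟨x, ζ, W, hζ0, hζe, hσx, hxc, hxf, hxq, hxq1, hxW, hW0⟩ :=
    exists_eigen (k := k) σ hσf hn1 hn hσn hq2 hZ hff hcf hzc hzf hz0 hz1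
  have hxpf : ∀ m, 1 ≤ m → x ^ m * f = x ^ m := by
    intro m hm
    obtain ⟨t, rfl⟩ : ∃ t, m = t + 1 := ⟨m - 1, by omega⟩
    rw [pow_succ, mul_assoc, hxf]
  have hspan : ∀ y, (∀ b, y * b = b * y) → y * f = y → ∃ c : k[X], y = aeval x c * f := by
    intro y hyc hyf
    refine span_of_max (by omega) hZ hff hcf hxc (by rw [hxq, zero_mul]) ?_ hyc hyf
    rw [hxpf _ (by omega)]
    exact hxq1
  refine ⟨x, ζ, hζ0, hζe, hσx, hxc, hxf, hxq, hxq1, fun a => ?_, hspan⟩
  obtain ⟨c, hc⟩ := hcor a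
  have hcen : ∀ b, aeval z c * f * b = b * (aeval z c * f) := by
    intro b
    rw [mul_assoc, hcf, ← mul_assoc, ← comm_aeval' (hzc b).symm c, mul_assoc]
  obtain ⟨d, hd⟩ := hspan (aeval z c * f) hcen (by rw [mul_assoc, hff])
  refine ⟨d, ?_⟩
  calc ε * a * ε = aeval z c * (f * ε) := by rw [hfε, hc]
    _ = (aeval z c * f) * ε := (mul_assoc _ _ _).symm
    _ = (aeval x d * f) * ε := by rw [hd]
    _ = aeval x d * (f * ε) := mul_assoc _ _ _
    _ = _ := by rw [hfε]

/-- Central nilpotents of exponent `p` are divisible by the right power of the generator. -/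
theorem exists_relation {x y : R} {q c p : ℕ} (hq2 : 2 ≤ q) (hp : 1 ≤ p) (hcp : c * p = q) (hff : f * f = f)
    (hcf : ∀ x, f * x = x * f) (hxc : ∀ b, x * b = b * x) (hxf : x * f = x)
    (hxq : x ^ q = 0) (hxq1 : x ^ (q - 1) ≠ 0)
    (hspan : ∀ y, (∀ b, y * b = b * y) → y * f = y → ∃ c : k[X], y = aeval x c * f)
    (hyc : ∀ b, y * b = b * y) (hyf : y * f = y) (hyp : y ^ p = 0) :
    ∃ v : k[X], y = aeval x (X ^ c * v) * f := by
  classical
  obtain ⟨c₂, hc₂⟩ := hspan y hyc hyf
  by_cases h0 : c₂ = 0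
  · refine ⟨0, ?_⟩
    rw [hc₂, h0, mul_zero]
  obtain ⟨w₀, hw₀, hndvd⟩ := Polynomial.exists_eq_pow_rootMultiplicity_mul_and_not_dvd c₂ h0 0
  set c' := Polynomial.rootMultiplicity 0 c₂ with hc'
  simp only [map_zero, sub_zero] at hw₀ hndvd
  have hw0 : w₀.coeff 0 ≠ 0 := fun h => hndvd (Polynomial.X_dvd_iff.2 h)
  have hwp : (w₀ ^ p).coeff 0 ≠ 0 := by
    rw [Polynomial.coeff_zero_eq_eval_zero, Polynomial.eval_pow, ← Polynomial.coeff_zero_eq_eval_zero]
    exact pow_ne_zero _ hw0
  have hfpow : ∀ n, 1 ≤ n → f ^ n = f := by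
    intro n hn
    induction n, hn using Nat.le_induction with
    | base => simp
    | succ n hn ih => rw [pow_succ, ih, hff]
  have hf_x : f * x = x := by rw [hcf, hxf]
  have hcomm : Commute (aeval x c₂) f := (hcf _).symm
  have h1 : aeval x (w₀ ^ p) * (x ^ (c' * p) * f) = 0 := by
    rw [hc₂, hcomm.mul_pow, hfpow p hp, ← map_pow, hw₀, mul_pow, ← pow_mul, map_mul, map_pow, aeval_X] at hyp
    have h2 : aeval x (w₀ ^ p) * x ^ (c' * p) = x ^ (c' * p) * aeval x (w₀ ^ p) :=
      (comm_aeval' (a := x ^ (c' * p)) (z := x)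
        ((Commute.pow_left (show Commute x x from Commute.refl x) _).eq) (w₀ ^ p)).symm
    rw [← mul_assoc, h2]
    exact hyp
  obtain ⟨d, hd⟩ := exists_inv' (k := k) (z := x) (w := x ^ (c' * p) * f) (q := q)
    (by rw [← mul_assoc, hxq, zero_mul]; rw [zero_mul]) (hxc _) hwp
  have hW : x ^ (c' * p) * f = 0 := by
    rw [← hd, mul_assoc, h1, mul_zero]
  have hle : q ≤ c' * p := by
    by_contra hlt
    apply hxq1
    have hpf : x ^ (q - 1) * f = x ^ (q - 1) := by
      obtain ⟨t, ht⟩ : ∃ t, q - 1 = t + 1 := ⟨q - 2, by omega⟩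
      rw [ht, pow_succ, mul_assoc, hxf]
    obtain ⟨t, ht⟩ : ∃ t, q - 1 = t + c' * p := ⟨q - 1 - c' * p, by omega⟩
    rw [← hpf, ht, pow_add, mul_assoc, hW, mul_zero]
  have hcc : c ≤ c' := by
    rw [← hcp] at hle
    exact Nat.le_of_mul_le_mul_right hle hp
  refine ⟨X ^ (c' - c) * w₀, ?_⟩
  have h3 : c₂ = X ^ c * (X ^ (c' - c) * w₀) := by
    rw [← mul_assoc, ← pow_add, Nat.add_sub_cancel' hcc]
    exact hw₀
  rw [hc₂, h3]

/-- The iterates on the central elements. -/
theorem iterate_aeval (σ : R ≃ₐ[k] R) (hσf : σ f = f) {x : R} {ζ : k} (hσx : σ x = ζ • x) (m : ℕ) (c : k[X]) :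
    (⇑σ)^[m] (aeval x c * f) = aeval (ζ ^ m • x) c * f := by
  induction m with
  | zero => simp
  | succ m ih =>
    rw [Function.iterate_succ_apply', ih, map_mul, hσf]
    congr 1
    have h := Polynomial.aeval_algHom_apply (σ : R →ₐ[k] R) (ζ ^ m • x) c
    have h2 : (σ : R →ₐ[k] R) (ζ ^ m • x) = ζ ^ (m + 1) • x := by
      show σ (ζ ^ m • x) = _
      rw [map_smul, hσx, smul_smul, pow_succ]
    rw [h2] at h
    exact h.symm

theorem iterate_fix (σ : R ≃ₐ[k] R) (hσf : σ f = f) {x : R} {ζ : k} (hσx : σ x = ζ • x) {m : ℕ} (hm : ζ ^ m = 1)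
    (hspan : ∀ y, (∀ b, y * b = b * y) → y * f = y → ∃ c : k[X], y = aeval x c * f) {y : R}
    (hyc : ∀ b, y * b = b * y) (hyf : y * f = y) : (⇑σ)^[m] y = y := by
  obtain ⟨c, rfl⟩ := hspan y hyc hyf
  rw [iterate_aeval σ hσf hσx, hm, one_smul]

end Abs

section Grp

variable {H : Type u} [Group H] [Fintype H] {p : ℕ} {M : Ideal AlgInt} [hMp : M.IsPrime] {V : ValuationSubring ℂ}

local notation "Om" => MonoidAlgebra V H
local notation "Kk" => MonoidAlgebra (Kf V) H

/-- An element acting trivially on a nonzero central idempotent is impossible for a central `p`-element. -/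
theorem single_mul_ne {k : Type*} [Field k] [hp : Fact p.Prime] [CharP k p] {f : MonoidAlgebra k H} (hff : f * f = f)
    (hf0 : f ≠ 0) {u : H} (hu : orderOf u = p) (huc : ∀ y, u * y = y * u) : single u (1 : k) * f ≠ f := by
  classical
  intro h
  have hcoef : ∀ y, f.coeff (u⁻¹ * y) = f.coeff y := by
    intro y
    have h1 := congrArg (fun w : MonoidAlgebra k H => w.coeff y) h
    simp only [coeff_single_mul'] at h1
    exact h1
  let P := Subgroup.zpowers u
  letI : Fintype P := Fintype.ofFinite P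
  let σ : P →* Module.End k (MonoidAlgebra k H) :=
    { toFun := fun w => LinearMap.mulLeft k (single (w : H) (1 : k))
      map_one' := by
        ext y
        simp [← MonoidAlgebra.one_def]
      map_mul' := by
        intro a b
        ext y
        simp [mul_assoc, single_mul_single] }
  have hσ : ∀ (w : P) (a : MonoidAlgebra k H), σ w a = single (w : H) (1 : k) * a := fun w a => rfl
  have hpow : ∀ (n : ℕ) (y : H), f.coeff (u ^ n * y) = f.coeff y := by
    intro n
    induction n with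
    | zero => simp
    | succ n ih =>
      intro y
      rw [pow_succ, mul_assoc, ih]
      have := hcoef (u * y)
      rw [inv_mul_cancel_left] at this
      exact this.symm
  have hwP : ∀ (w : P) (y : H), f.coeff ((w : H) * y) = f.coeff y := by
    intro w y
    have hfin : IsOfFinOrder u := isOfFinOrder_of_finite u
    obtain ⟨n, hn⟩ := hfin.mem_powers_iff_mem_zpowers.2 w.2
    have : (w : H) = u ^ n := hn.symm
    rw [this, hpow]
  have h1 := Cfsg.Agent.Lib.RangeMod.orbit_sum_mem (k := k) (H := P) (Ω := H) σ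
    (fun g => single g (f.coeff g)) (by
      intro w q
      show single ((w : H) * q) (f.coeff ((w : H) * q)) = single (w : H) (1 : k) * single q (f.coeff q)
      rw [single_mul_single, one_mul, hwP]) Finset.univ (fun _ _ _ => Finset.mem_univ _)
    (by
      intro q _ w hw
      have h2 : (w : H) * q = q := hw
      apply Subtype.ext
      simpa using h2)
  rw [← eq_sum_single f] at h1
  obtain ⟨a, ha⟩ := h1
  set N : MonoidAlgebra k H := ∑ w : P, single (w : H) (1 : k) with hN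
  have hNa : f = N * a := by
    rw [← ha, LinearMap.sum_apply, hN, Finset.sum_mul]
    rfl
  have hNc : ∀ b, N * b = b * N := by
    intro b
    rw [hN, Finset.sum_mul, Finset.mul_sum]
    refine Finset.sum_congr rfl fun w _ => ?_
    refine central_of_class (fun g x => ?_) b
    have h2 : ∀ v : H, (v ∈ P) → ∀ (x' : H), x' * v * x'⁻¹ = v := by
      intro v hv x'
      obtain ⟨n, rfl⟩ := Subgroup.mem_zpowers_iff.1 hv
      have h3 : Commute x' (u ^ n) := ((show Commute u x' from huc x').zpow_left n).symm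
      rw [h3.eq, mul_inv_cancel_right]
    simp only [coeff_single, Finsupp.single_apply]
    by_cases hg : (w : H) = g
    · subst hg
      rw [h2 _ w.2]
    · have h3 : (w : H) ≠ x * g * x⁻¹ := by
        intro h4
        apply hg
        have h5 := h2 _ w.2 x⁻¹
        simp only [inv_inv] at h5
        have h6 : g = x⁻¹ * (w : H) * x := by rw [h4]; group
        rw [h6, h5]
      rw [if_neg hg, if_neg h3]
  have hNN : N * N = 0 := by
    have h2 : ∀ w : P, single (w : H) (1 : k) * N = N := by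
      intro w
      rw [hN, Finset.mul_sum]
      refine Fintype.sum_equiv (Equiv.mulLeft w) _ _ fun w' => ?_
      rw [single_mul_single, one_mul]
      rfl
    rw [hN, Finset.sum_mul]
    simp_rw [← hN, h2]
    rw [Finset.sum_const, Finset.card_univ]
    have h3 : Fintype.card P = p := by
      rw [← Nat.card_eq_fintype_card]
      show Nat.card (Subgroup.zpowers u) = p
      rw [Nat.card_zpowers, hu]
    rw [h3, ← Nat.cast_smul_eq_nsmul k, CharP.cast_eq_zero k p, zero_smul]
  apply hf0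
  calc f = f * f := hff.symm
    _ = (N * a) * (N * a) := by rw [← hNa]
    _ = N * (a * N) * a := by simp only [mul_assoc]
    _ = N * (N * a) * a := by rw [hNc a]
    _ = (N * N) * (a * a) := by simp only [mul_assoc]
    _ = 0 := by rw [hNN, zero_mul]

/-- Iterates of `domCongr` on group elements. -/
theorem iterate_domCongr_single {k : Type*} [Field k] (τ : H ≃* H) (j : ℕ) (u : H) (r : k) :
    (⇑(domCongr k k τ))^[j] (single u r) = single ((⇑τ)^[j] u) r := by
  induction j with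
  | zero => rfl
  | succ j ih =>
    rw [Function.iterate_succ_apply', ih, domCongr_single, Function.iterate_succ_apply']

theorem iterate_map_mul {R : Type*} [Ring R] (σ : R →+* R) (j : ℕ) (a b : R) :
    (⇑σ)^[j] (a * b) = (⇑σ)^[j] a * (⇑σ)^[j] b := by
  induction j with
  | zero => rfl
  | succ j ih => rw [Function.iterate_succ_apply', ih, map_mul, Function.iterate_succ_apply', Function.iterate_succ_apply']

theorem iterate_algEquiv_mul {k R : Type*} [Field k] [Ring R] [Algebra k R] (σ : R ≃ₐ[k] R) (j : ℕ) (a b : R) :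
    (⇑σ)^[j] (a * b) = (⇑σ)^[j] a * (⇑σ)^[j] b := by
  induction j with
  | zero => rfl
  | succ j ih => rw [Function.iterate_succ_apply', ih, map_mul, Function.iterate_succ_apply', Function.iterate_succ_apply']

theorem iterate_algEquiv_sub {k R : Type*} [Field k] [Ring R] [Algebra k R] (σ : R ≃ₐ[k] R) (j : ℕ) (a b : R) :
    (⇑σ)^[j] (a - b) = (⇑σ)^[j] a - (⇑σ)^[j] b := by
  induction j with
  | zero => rfl
  | succ j ih => rw [Function.iterate_succ_apply', ih, map_sub, Function.iterate_succ_apply', Function.iterate_succ_apply']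

theorem iterate_algEquiv_fix {k R : Type*} [Field k] [Ring R] [Algebra k R] (σ : R ≃ₐ[k] R) (j : ℕ) {a : R} (h : σ a = a) :
    (⇑σ)^[j] a = a := by
  induction j with
  | zero => rfl
  | succ j ih => rw [Function.iterate_succ_apply', ih, h]

theorem single_central {k : Type*} [Field k] {u : H} (huc : ∀ y, u * y = y * u) (a : MonoidAlgebra k H) :
    single u (1 : k) * a = a * single u (1 : k) := by
  classical
  refine central_of_class (fun g x => ?_) a
  simp only [coeff_single, Finsupp.single_apply]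
  by_cases hg : u = g
  · subst hg
    rw [← huc x, mul_inv_cancel_right]
  · have h3 : u ≠ x * g * x⁻¹ := by
      intro h4
      apply hg
      have h5 : g = x⁻¹ * u * x := by rw [h4]; group
      rw [h5, ← huc x⁻¹]
      group
    rw [if_neg hg, if_neg h3]

/-- **The local data of a block of rank one containing a central element of order `p`.** -/
theorem exists_localOp [hpF : Fact p.Prime] (hV1 : ∀ z, MemLocalRing M z → z ∈ V)
    (hV2 : ∀ z, MemLocalIdeal M z → z ∈ V.nonunits) (hpV : ((p : ℕ) : Kf V) = 0)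
    {b : Set (IrrCharacter H)} (hb : IsPBlock M b) (hl : blockRank p b = 1) (C : ℕ)
    {e : Om} (he : iotaV V e = Phi (blkInd b)) (hec : ∀ a : Om, e * a = a * e)
    (hC : ∀ (W : Type u) [AddCommGroup W] [Module (Kf V) W] [FiniteDimensional (Kf V) W]
      (R : H →* Module.End (Kf V) W), (∑ g, (rhoV V e).coeff g • R g = 1) →
      (∀ ψ : Module.End (Kf V) W, (∀ g, ψ * R g = R g * ψ) →
        ∃ c : Kf V, IsNilpotent (ψ - algebraMap (Kf V) _ c)) →
      finrank (Kf V) W ≤ C)
    {χ₀ : IrrCharacter H} (hχ₀ : χ₀ ∈ b)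
    {u : H} (hu : orderOf u = p) (huc : ∀ y, u * y = y * u)
    (τ : H ≃* H) (hσf : domCongr (Kf V) (Kf V) τ (rhoV V e) = rhoV V e)
    {n : ℕ} (hn1 : 1 ≤ n) (hn : (n : Kf V) ≠ 0)
    (hσn : ∀ y : Kk, (∀ a, y * a = a * y) → (⇑(domCongr (Kf V) (Kf V) τ))^[n] y = y)
    {c : ℕ} (hq2 : 2 ≤ (bF b).card) (hcp : c * p = (bF b).card) :
    ∃ (g : ℕ) (ε x : Kk) (X' Y' : Fin g → Kk) (ζ : Kf V) (v : (Kf V)[X]), 0 < g ∧ ε * ε = ε ∧ ε ≠ 0 ∧
      ε * rhoV V e = ε ∧ rhoV V e * ε = ε ∧
      (∀ i j, Y' i * X' j = if i = j then ε else 0) ∧ ∑ j, X' j * Y' j = rhoV V e ∧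
      (∀ j, X' j * ε = X' j) ∧ (∀ j, ε * Y' j = Y' j) ∧
      (∀ a, x * a = a * x) ∧ x * rhoV V e = x ∧ (∀ a, ∃ c : (Kf V)[X], ε * a * ε = aeval x c * ε) ∧
      x ^ (bF b).card = 0 ∧ x ^ ((bF b).card - 1) ≠ 0 ∧
      ζ ≠ 0 ∧ ζ ^ n = 1 ∧ domCongr (Kf V) (Kf V) τ x = ζ • x ∧
      (single u (1 : Kf V) - 1) * rhoV V e = aeval x (X ^ c * v) * rhoV V e ∧
      (∀ j : ℕ, ζ ^ j = 1 → (⇑τ)^[j] u ∈ Subgroup.zpowers u → (⇑τ)^[j] u = u) ∧
      (∀ χ ∈ b, charDegree (χ : H → ℂ) = g) := by
  classical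
  have hp := hpF.out
  set f : Kk := rhoV V e with hf
  have hee : e * e = e := by
    apply iotaV_injective
    rw [map_mul, he, ← Phi_mul, blkInd_mul_self]
  have hff : f * f = f := by rw [hf, ← map_mul, hee]
  have hfc : ∀ x, f * x = x * f := rho_central hec
  have hf0 : f ≠ 0 := fun h => not_mem_Ki he hχ₀ (by
    rw [← hf, h]
    exact Submodule.zero_mem _)
  obtain ⟨g, ε, z, X', Y', hg, hεε, hε0, hεf, hfε, hYX, hXY, hXε, hεY, hzc, hzf, hcor, hzq, hzq1, hzqf, hdeg⟩ :=
    block_struct hV1 hV2 hpV hb hl C he hec hC hχ₀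
  set σ := domCongr (Kf V) (Kf V) τ with hσ
  have hZ : ∀ c : Fin ((bF b).card + 1) → Kk, (∀ i x, c i * x = x * c i) → (∀ i, c i * f = c i) →
      ¬ LinearIndependent (Kf V) c := fun c hc hcf => not_indep' he c hc hcf
  obtain ⟨x, ζ, hζ0, hζn, hσx, hxc, hxf, hxq, hxq1, hcorx, hspan⟩ :=
    exists_op_abs (k := Kf V) (g := 0) hq2 hff hfc hεf hfε hzc hzf hcor hzq hzq1 hzqf hZ σ hσf hn1 hn hσn
  have hchar : CharP Kk p := by
    rw [CharP.charP_iff_prime_eq_zero hp]
    have : ((p : ℕ) : Kk) = algebraMap (Kf V) Kk ((p : ℕ) : Kf V) := by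
      rw [map_natCast]
    rw [this, hpV, map_zero]
  have hchark : CharP (Kf V) p := by
    rw [CharP.charP_iff_prime_eq_zero hp]
    exact hpV
  -- the relation
  set y : Kk := (single u (1 : Kf V) - 1) * f with hy
  have hsc : ∀ a : Kk, single u (1 : Kf V) * a = a * single u (1 : Kf V) := single_central huc
  have hyc : ∀ a, y * a = a * y := by
    intro a
    have h : (single u (1 : Kf V) - 1) * a = a * (single u (1 : Kf V) - 1) := by
      rw [sub_mul, hsc, one_mul, mul_sub, mul_one]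
    calc y * a = (single u (1 : Kf V) - 1) * (f * a) := mul_assoc _ _ _
      _ = (single u (1 : Kf V) - 1) * (a * f) := by rw [hfc]
      _ = ((single u (1 : Kf V) - 1) * a) * f := (mul_assoc _ _ _).symm
      _ = (a * (single u (1 : Kf V) - 1)) * f := by rw [h]
      _ = a * y := mul_assoc _ _ _
  have hyf : y * f = y := by rw [hy, mul_assoc, hff]
  have hyp : y ^ p = 0 := by
    have h1 : Commute (single u (1 : Kf V) - 1) f := (hfc _).symm
    have hfpow : ∀ n, 1 ≤ n → f ^ n = f := by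
      intro n hn
      induction n, hn using Nat.le_induction with
      | base => simp
      | succ n hn ih => rw [pow_succ, ih, hff]
    rw [hy, h1.mul_pow, sub_pow_char_of_commute p (Commute.one_right _), MonoidAlgebra.single_pow, one_pow, one_pow,
      ← hu, pow_orderOf_eq_one, ← MonoidAlgebra.one_def, sub_self, zero_mul]
  obtain ⟨v, hv⟩ := exists_relation (k := Kf V) hq2 hp.one_lt.le hcp hff hfc hxc hxf hxq hxq1 hspan hyc hyf hyp
  refine ⟨g, ε, x, X', Y', ζ, v, hg, hεε, hε0, hεf, hfε, hYX, hXY, hXε, hεY, hxc, hxf, hcorx, hxq, hxq1, hζ0, hζn, hσx, hv, ?_, hdeg⟩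
  intro j hj hmem
  set u' := (⇑τ)^[j] u with hu'
  have h1 : (⇑σ)^[j] y = y := by
    rw [hv, iterate_aeval σ hσf hσx, hj, one_smul]
  have h2 : (⇑σ)^[j] y = (single u' (1 : Kf V) - 1) * f := by
    rw [hy, iterate_algEquiv_mul, iterate_algEquiv_sub, iterate_algEquiv_fix σ j hσf, iterate_domCongr_single,
      iterate_algEquiv_fix σ j (map_one σ)]
  rw [h2, hy] at h1
  have h3 : single u' (1 : Kf V) * f = single u (1 : Kf V) * f := by
    have h4 := sub_eq_zero.2 h1
    rw [← sub_mul, sub_sub_sub_cancel_right, sub_mul] at h4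
    exact sub_eq_zero.1 h4
  by_contra hne
  set w := u⁻¹ * u' with hw
  have hw1 : w ≠ 1 := by
    intro h5
    apply hne
    have h6 : u⁻¹ * u' = 1 := h5
    exact (inv_mul_eq_one.1 h6).symm
  obtain ⟨m, hm⟩ := Subgroup.mem_zpowers_iff.1 hmem
  have hwpow : w = u ^ (m - 1) := by
    rw [hw, ← hm, zpow_sub, zpow_one, ← (Commute.refl u).zpow_right m |>.inv_left.eq]
  have hwp : w ^ p = 1 := by
    rw [hwpow, ← zpow_natCast, ← zpow_mul, mul_comm, zpow_mul, zpow_natCast, ← hu, pow_orderOf_eq_one, one_zpow]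
  have hword : orderOf w = p := orderOf_eq_prime hwp hw1
  have hwc : ∀ y, w * y = y * w := by
    intro y
    rw [hwpow]
    exact ((show Commute u y from huc y).zpow_left _).eq
  refine single_mul_ne (k := Kf V) hff hf0 hword hwc ?_
  have h5 : single w (1 : Kf V) = single u⁻¹ (1 : Kf V) * single u' 1 := by
    rw [single_mul_single, one_mul]
  rw [h5, mul_assoc, h3, ← mul_assoc, single_mul_single, inv_mul_cancel, one_mul, ← MonoidAlgebra.one_def, one_mul]

end Grp

end Cfsg.Agent.Lib.DcLocal
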