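import Mathlib

/-!
# Operators on a module over a corner

An algebra of operators `K` with matrix units over the corner `E K E`, which consists of polynomials in a central operator `X`.
-/

set_option autoImplicit false
set_option linter.unusedSectionVars false
set_option linter.unusedVariables false

namespace Cfsg.Agent.Lib.DcMorita

open Polynomial Module

variable {k : Type*} [Field k] {V : Type*} [AddCommGroup V] [Module k V]

theorem comm_aeval {a X : Module.End k V} (h : a * X = X * a) (c : k[X]) : a * aeval X c = aeval X c * a := by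
  induction c using Polynomial.induction_on with
  | C r =>
    simp only [aeval_C, Module.algebraMap_end_eq_smul_id]
    refine LinearMap.ext fun v => ?_
    simp
  | add p q hp hq => rw [map_add, mul_add, add_mul, hp, hq]
  | monomial n r _ =>
    have h1 : Commute a (X ^ (n + 1)) := (show Commute a X from h).pow_right _
    have h2 : a * (algebraMap k (Module.End k V)) r = (algebraMap k (Module.End k V)) r * a := by
      simp only [Module.algebraMap_end_eq_smul_id]
      refine LinearMap.ext fun v => ?_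
      simp
    simp only [map_mul, map_pow, aeval_C, aeval_X]
    rw [← mul_assoc, h2, mul_assoc, h1.eq, mul_assoc]

theorem aeval_comm (X : Module.End k V) (c d : k[X]) : aeval X c * aeval X d = aeval X d * aeval X c := by
  rw [← map_mul, ← map_mul, mul_comm]

/-- An inverse modulo a power of `X`. -/
theorem exists_inv {X Z : Module.End k V} {q : ℕ} (hZ : X ^ q * Z = 0) {c : k[X]} (hc : c.coeff 0 ≠ 0) :
    ∃ d : k[X], aeval X d * aeval X c * Z = Z := by
  obtain ⟨h, hh⟩ : (Polynomial.X : k[X]) ∣ c - Polynomial.C (c.coeff 0) := by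
    rw [Polynomial.X_dvd_iff]
    simp
  set c₀ := c.coeff 0 with hc₀
  set t : k[X] := -(Polynomial.C c₀⁻¹ * h) with ht
  have hc' : c = Polynomial.C c₀ * (1 - Polynomial.X * t) := by
    have h1 : c = Polynomial.C c₀ + Polynomial.X * h := by rw [← hh]; ring
    have h2 : Polynomial.C c₀ * Polynomial.C c₀⁻¹ = (1 : k[X]) := by
      rw [← Polynomial.C_mul, mul_inv_cancel₀ hc, Polynomial.C_1]
    rw [ht, h1]
    calc Polynomial.C c₀ + Polynomial.X * h = Polynomial.C c₀ + (Polynomial.C c₀ * Polynomial.C c₀⁻¹) * (Polynomial.X * h) := by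
          rw [h2, one_mul]
      _ = _ := by ring
  refine ⟨Polynomial.C c₀⁻¹ * ∑ i ∈ Finset.range q, (Polynomial.X * t) ^ i, ?_⟩
  have h3 : (Polynomial.C c₀⁻¹ * ∑ i ∈ Finset.range q, (Polynomial.X * t) ^ i) * c =
      1 - Polynomial.X ^ q * t ^ q := by
    have h2 : Polynomial.C c₀⁻¹ * Polynomial.C c₀ = (1 : k[X]) := by
      rw [← Polynomial.C_mul, inv_mul_cancel₀ hc, Polynomial.C_1]
    rw [hc', ← mul_pow, ← geom_sum_mul_neg]
    calc _ = (Polynomial.C c₀⁻¹ * Polynomial.C c₀) * ((∑ i ∈ Finset.range q, (Polynomial.X * t) ^ i) * (1 - Polynomial.X * t)) := by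
          ring
      _ = _ := by rw [h2, one_mul]
  have h4 : X ^ q * aeval X (t ^ q) = aeval X (t ^ q) * X ^ q :=
    comm_aeval ((show Commute (X ^ q) X from (Commute.refl X).pow_left q).eq) _
  rw [← map_mul, h3, map_sub, map_one, sub_mul, one_mul, map_mul, map_pow, aeval_X, h4, mul_assoc, hZ, mul_zero, sub_zero]

/-- A polynomial without constant term is nilpotent on `Z`. -/
theorem aeval_pow_of_coeff {X Z : Module.End k V} {q : ℕ} (hZ : X ^ q * Z = 0) {c : k[X]} (hc : c.coeff 0 = 0) :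
    aeval X c ^ q * Z = 0 := by
  obtain ⟨h, rfl⟩ := Polynomial.X_dvd_iff.2 hc
  have h1 : Commute X (aeval X h) := comm_aeval rfl h
  have h2 : X ^ q * aeval X h ^ q = aeval X h ^ q * X ^ q := (h1.pow_pow q q).eq
  rw [map_mul, aeval_X, h1.mul_pow, h2, mul_assoc, hZ, mul_zero]

/-- The data. -/
structure OpData (k V : Type*) [Field k] [AddCommGroup V] [Module k V] (g q : ℕ) where
  K : Subalgebra k (Module.End k V)
  E : Module.End k V
  F : Module.End k V
  X : Module.End k V
  A : Fin g → Module.End k V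
  B : Fin g → Module.End k V
  E_mem : E ∈ K
  F_mem : F ∈ K
  X_mem : X ∈ K
  A_mem : ∀ j, A j ∈ K
  B_mem : ∀ j, B j ∈ K
  EE : E * E = E
  FF : F * F = F
  EF : E * F = E
  FE : F * E = E
  F_central : ∀ a ∈ K, a * F = F * a
  X_central : ∀ a ∈ K, a * X = X * a
  XF : X * F = X
  BA : ∀ i j, B i * A j = if i = j then E else 0
  AB : ∑ j, A j * B j = F
  AE : ∀ j, A j * E = A j
  EB : ∀ j, E * B j = B j
  corner : ∀ a ∈ K, ∃ c : k[X], E * a * E = aeval X c * E
  nil : X ^ q * E = 0

namespace OpData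

variable {g q : ℕ} (D : OpData k V g q)

theorem aeval_mem (c : k[X]) : aeval D.X c ∈ D.K := by
  induction c using Polynomial.induction_on with
  | C r =>
    rw [aeval_C]
    exact D.K.algebraMap_mem r
  | add p q hp hq =>
    rw [map_add]
    exact D.K.add_mem hp hq
  | monomial n r _ =>
    simp only [map_mul, map_pow, aeval_C, aeval_X]
    exact D.K.mul_mem (D.K.algebraMap_mem r) (D.K.pow_mem D.X_mem _)

theorem comm_X (c : k[X]) {a : Module.End k V} (ha : a ∈ D.K) : a * aeval D.X c = aeval D.X c * a :=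
  comm_aeval (D.X_central a ha) c

theorem F_A (j : Fin g) : D.F * D.A j = D.A j := by
  rw [← D.F_central _ (D.A_mem j)]
  conv_lhs => rw [← D.AE j]
  rw [mul_assoc, D.EF, D.AE]

theorem B_F (j : Fin g) : D.B j * D.F = D.B j := by
  rw [D.F_central _ (D.B_mem j)]
  conv_lhs => rw [← D.EB j]
  rw [← mul_assoc, D.FE, D.EB]

section Mor

/-- The extension of a corner operator. -/
noncomputable def mor (π : Module.End k V) : Module.End k V := ∑ j, D.A j * π * D.B j

variable {π : Module.End k V} (hπE : π * D.E = π) (hEπ : D.E * π = π) (hπX : π * D.X = D.X * π)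

include hπE hEπ hπX in
theorem corner_comm {a : Module.End k V} (ha : a ∈ D.K) : π * (D.E * a * D.E) = (D.E * a * D.E) * π := by
  obtain ⟨c, hc⟩ := D.corner a ha
  rw [hc]
  calc π * (aeval D.X c * D.E) = (π * aeval D.X c) * D.E := (mul_assoc _ _ _).symm
    _ = aeval D.X c * π * D.E := by rw [comm_aeval hπX]
    _ = aeval D.X c * (π * D.E) := mul_assoc _ _ _
    _ = aeval D.X c * (D.E * π) := by rw [hπE, hEπ]
    _ = _ := (mul_assoc _ _ _).symm

include hπE hEπ hπX in
theorem mor_comm {a : Module.End k V} (ha : a ∈ D.K) : D.mor π * a = a * D.mor π := by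
  unfold mor
  rw [Finset.sum_mul, Finset.mul_sum]
  have h1 : ∀ j, D.A j * π * D.B j * a = ∑ i, D.A j * (D.B j * a * D.A i) * π * D.B i := by
    intro j
    have h2 : D.B j * a = D.B j * a * D.F := by
      rw [mul_assoc, D.F_central a ha, ← mul_assoc, D.B_F]
    have h5 : D.A j * π * D.B j * a = ∑ i, D.A j * π * (D.B j * a * (D.A i * D.B i)) := by
      calc D.A j * π * D.B j * a = D.A j * π * (D.B j * a) := mul_assoc _ _ _
        _ = D.A j * π * (D.B j * a * D.F) := by rw [← h2]
        _ = D.A j * π * (D.B j * a * ∑ i, D.A i * D.B i) := by rw [D.AB]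
        _ = _ := by rw [Finset.mul_sum, Finset.mul_sum]
    rw [h5]
    refine Finset.sum_congr rfl fun i _ => ?_
    have h3 : D.B j * a * D.A i = D.E * (D.B j * a * D.A i) * D.E := by
      calc D.B j * a * D.A i = (D.E * D.B j) * a * (D.A i * D.E) := by rw [D.EB, D.AE]
        _ = _ := by simp only [mul_assoc]
    have h4 : π * (D.B j * a * D.A i) = (D.B j * a * D.A i) * π := by
      rw [h3]
      exact D.corner_comm hπE hEπ hπX
        (D.K.mul_mem (D.K.mul_mem (D.B_mem j) ha) (D.A_mem i))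
    calc D.A j * π * (D.B j * a * (D.A i * D.B i)) = D.A j * (π * (D.B j * a * D.A i)) * D.B i := by
          simp only [mul_assoc]
      _ = _ := by rw [h4]; simp only [mul_assoc]
  simp_rw [h1]
  rw [Finset.sum_comm]
  refine Finset.sum_congr rfl fun i _ => ?_
  have h2 : ∀ j, D.A j * (D.B j * a * D.A i) * π * D.B i = (D.A j * D.B j) * (a * (D.A i * π * D.B i)) := by
    intro j
    simp only [mul_assoc]
  simp_rw [h2]
  rw [← Finset.sum_mul, D.AB]
  calc D.F * (a * (D.A i * π * D.B i)) = (D.F * a) * (D.A i * π * D.B i) := (mul_assoc _ _ _).symm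
    _ = (a * D.F) * (D.A i * π * D.B i) := by rw [D.F_central a ha]
    _ = a * ((D.F * D.A i) * π * D.B i) := by simp only [mul_assoc]
    _ = _ := by rw [D.F_A]

include hπE hEπ hπX in
theorem mor_E : D.mor π * D.E = π := by
  unfold mor
  rw [Finset.sum_mul]
  have h1 : ∀ j, D.A j * π * D.B j * D.E = D.A j * D.B j * π := by
    intro j
    have h3 : D.B j * D.E = D.E * D.B j * D.E := by rw [D.EB]
    have h4 := D.corner_comm hπE hEπ hπX (D.B_mem j)
    calc D.A j * π * D.B j * D.E = D.A j * (π * (D.E * D.B j * D.E)) := by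
          rw [← h3]; simp only [mul_assoc]
      _ = D.A j * ((D.E * D.B j * D.E) * π) := by rw [h4]
      _ = _ := by rw [← h3, mul_assoc, hEπ]; simp only [mul_assoc]
  simp_rw [h1]
  rw [← Finset.sum_mul, D.AB]
  rw [← hEπ, ← mul_assoc, D.FE]

theorem mor_F : D.mor π * D.F = D.mor π := by
  unfold mor
  rw [Finset.sum_mul]
  refine Finset.sum_congr rfl fun j _ => ?_
  rw [mul_assoc, D.B_F]

theorem F_mor : D.F * D.mor π = D.mor π := by
  unfold mor
  rw [Finset.mul_sum]
  refine Finset.sum_congr rfl fun j _ => ?_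
  calc D.F * (D.A j * π * D.B j) = (D.F * D.A j) * π * D.B j := by simp only [mul_assoc]
    _ = _ := by rw [D.F_A]

theorem mor_idem (hπ : π * π = π) (hπE : π * D.E = π) : D.mor π * D.mor π = D.mor π := by
  classical
  unfold mor
  rw [Finset.sum_mul]
  refine Finset.sum_congr rfl fun j _ => ?_
  rw [Finset.mul_sum, Finset.sum_eq_single j]
  · calc D.A j * π * D.B j * (D.A j * π * D.B j) = D.A j * π * (D.B j * D.A j) * π * D.B j := by simp only [mul_assoc]
      _ = D.A j * (π * D.E * π) * D.B j := by rw [D.BA j j, if_pos rfl]; simp only [mul_assoc]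
      _ = _ := by rw [hπE, hπ]
  · intro i _ hij
    have h1 : D.A j * π * D.B j * (D.A i * π * D.B i) = D.A j * π * (D.B j * D.A i) * π * D.B i := by
      simp only [mul_assoc]
    rw [h1, D.BA j i, if_neg (Ne.symm hij)]
    simp
  · simp

end Mor

section Conj

/-- The conjugation data. -/
structure ConjData (D : OpData k V g q) where
  R : Module.End k V
  R' : Module.End k V
  ζ : k
  RR' : R * R' = 1
  R'R : R' * R = 1
  stab : ∀ a ∈ D.K, R * a * R' ∈ D.K
  stab' : ∀ a ∈ D.K, R' * a * R ∈ D.K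
  RX : R * D.X * R' = ζ • D.X
  RF : R * D.F * R' = D.F
  hζ : ζ ≠ 0

variable {D} (C : ConjData D)

namespace ConjData

/-- The conjugate idempotent. -/
noncomputable def E' : Module.End k V := C.R * D.E * C.R'

theorem E'_mul_R : C.E' * C.R = C.R * D.E := by
  unfold E'
  rw [mul_assoc, C.R'R, mul_one]

theorem E'E' : C.E' * C.E' = C.E' := by
  unfold E'
  calc C.R * D.E * C.R' * (C.R * D.E * C.R') = C.R * D.E * (C.R' * C.R) * D.E * C.R' := by simp only [mul_assoc]
    _ = _ := by rw [C.R'R, mul_one, mul_assoc C.R, D.EE]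

theorem conj_mul (a b : Module.End k V) : C.R * (a * b) * C.R' = (C.R * a * C.R') * (C.R * b * C.R') := by
  calc C.R * (a * b) * C.R' = C.R * a * (1 * b) * C.R' := by rw [one_mul]; simp only [mul_assoc]
    _ = C.R * a * ((C.R' * C.R) * b) * C.R' := by rw [C.R'R]
    _ = _ := by simp only [mul_assoc]

/-- Conjugation as an algebra map. -/
noncomputable def phi : Module.End k V →ₐ[k] Module.End k V where
  toFun a := C.R * a * C.R'
  map_one' := by rw [mul_one, C.RR']
  map_mul' a b := conj_mul C a b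
  map_zero' := by simp
  map_add' a b := by rw [mul_add, add_mul]
  commutes' r := by
    rw [Algebra.algebraMap_eq_smul_one, mul_smul_comm, smul_mul_assoc, mul_one, C.RR']

theorem phi_apply (a : Module.End k V) : C.phi a = C.R * a * C.R' := rfl

theorem conj_aeval (c : k[X]) : C.R * aeval D.X c * C.R' = aeval D.X (c.comp (Polynomial.C C.ζ * Polynomial.X)) := by
  rw [← phi_apply, ← Polynomial.aeval_algHom_apply, phi_apply, C.RX, Polynomial.aeval_comp]
  congr 2
  simp [Algebra.smul_def]

theorem corner' {a : Module.End k V} (ha : a ∈ D.K) : ∃ c : k[X], C.E' * a * C.E' = aeval D.X c * C.E' := by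
  obtain ⟨c, hc⟩ := D.corner _ (C.stab' a ha)
  refine ⟨c.comp (Polynomial.C C.ζ * Polynomial.X), ?_⟩
  unfold E'
  rw [← conj_aeval, ← conj_mul, ← hc]
  calc C.R * D.E * C.R' * a * (C.R * D.E * C.R') = C.R * D.E * (C.R' * a * C.R) * D.E * C.R' := by simp only [mul_assoc]
    _ = _ := by simp only [mul_assoc]

theorem nil' : D.X ^ q * C.E' = 0 := by
  have h1 := congrArg C.phi D.nil
  rw [map_mul, map_pow, map_zero, phi_apply, phi_apply, C.RX, _root_.smul_pow, smul_mul_assoc] at h1
  have h2 := smul_eq_zero.1 h1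
  rcases h2 with h2 | h2
  · exact absurd h2 (pow_ne_zero _ C.hζ)
  · exact h2

theorem E'_mem : C.E' ∈ D.K := C.stab _ D.E_mem

theorem E'_F : C.E' * D.F = C.E' := by
  unfold E'
  rw [← C.RF]
  calc C.R * D.E * C.R' * (C.R * D.F * C.R') = C.R * D.E * (C.R' * C.R) * D.F * C.R' := by simp only [mul_assoc]
    _ = C.R * (D.E * D.F) * C.R' := by rw [C.R'R, mul_one]; simp only [mul_assoc]
    _ = _ := by rw [D.EF]

/-- **The two corners are isomorphic.** -/
theorem exists_units (hE : D.E ≠ 0) :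
    ∃ U U' : Module.End k V, U ∈ D.K ∧ U' ∈ D.K ∧ U * U' = D.E ∧ U' * U = C.E' ∧ D.E * U = U ∧ U * C.E' = U ∧
      C.E' * U' = U' ∧ U' * D.E = U' := by
  classical
  have hE' : C.E' ≠ 0 := by
    intro h0
    apply hE
    have h1 : C.R' * C.E' * C.R = D.E := by
      unfold E'
      calc C.R' * (C.R * D.E * C.R') * C.R = (C.R' * C.R) * D.E * (C.R' * C.R) := by simp only [mul_assoc]
        _ = _ := by rw [C.R'R, one_mul, mul_one]
    rw [← h1, h0]
    simp
  -- the decomposition of `E'`
  have hdec : ∀ j, ∃ c : k[X], C.E' * D.A j * (D.B j * C.E') = aeval D.X c * C.E' := by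
    intro j
    obtain ⟨c, hc⟩ := corner' C (D.K.mul_mem (D.A_mem j) (D.B_mem j))
    refine ⟨c, ?_⟩
    rw [← hc]
    simp only [mul_assoc]
  choose c hc using hdec
  have hsum : C.E' = aeval D.X (∑ j, c j) * C.E' := by
    have h1 : C.E' = ∑ j, C.E' * D.A j * (D.B j * C.E') := by
      have h2 : ∑ j, C.E' * D.A j * (D.B j * C.E') = C.E' * (∑ j, D.A j * D.B j) * C.E' := by
        rw [Finset.mul_sum, Finset.sum_mul]
        refine Finset.sum_congr rfl fun j _ => ?_
        simp only [mul_assoc]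
      rw [h2, D.AB, E'_F, E'E']
    conv_lhs => rw [h1]
    rw [map_sum, Finset.sum_mul]
    exact Finset.sum_congr rfl fun j _ => hc j
  -- some coefficient is a unit
  obtain ⟨j, hj⟩ : ∃ j, (c j).coeff 0 ≠ 0 := by
    by_contra hcon
    push Not at hcon
    apply hE'
    have h0 : (∑ j, c j).coeff 0 = 0 := by
      rw [Polynomial.finsetSum_coeff]
      exact Finset.sum_eq_zero fun j _ => hcon j
    have h1 := aeval_pow_of_coeff (nil' C) h0
    have h2 : ∀ n : ℕ, C.E' = aeval D.X (∑ j, c j) ^ n * C.E' := by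
      intro n
      induction n with
      | zero => simp
      | succ n ih =>
        rw [pow_succ, mul_assoc, ← hsum]
        exact ih
    rw [h2 q, h1]
  obtain ⟨d, hd⟩ := exists_inv (nil' C) hj
  set U' := C.E' * D.A j * D.E with hU'
  set U := aeval D.X d * (D.E * D.B j * C.E') with hU
  have hU'mem : U' ∈ D.K := D.K.mul_mem (D.K.mul_mem C.E'_mem (D.A_mem j)) D.E_mem
  have hUmem : U ∈ D.K := D.K.mul_mem (D.aeval_mem d) (D.K.mul_mem (D.K.mul_mem D.E_mem (D.B_mem j)) C.E'_mem)
  have h1 : U' * U = C.E' := by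
    have hcomm : U' * aeval D.X d = aeval D.X d * U' := D.comm_X d hU'mem
    calc U' * U = aeval D.X d * (U' * (D.E * D.B j * C.E')) := by
          rw [hU, ← mul_assoc, hcomm, mul_assoc]
      _ = aeval D.X d * (C.E' * D.A j * (D.E * D.E) * D.B j * C.E') := by
          rw [hU']; simp only [mul_assoc]
      _ = aeval D.X d * (C.E' * (D.A j * D.E) * (D.B j * C.E')) := by
          rw [D.EE]; simp only [mul_assoc]
      _ = aeval D.X d * (aeval D.X (c j) * C.E') := by rw [D.AE, hc]
      _ = _ := by rw [← mul_assoc, hd]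
  have hEU : D.E * U = U := by
    have hcomm : D.E * aeval D.X d = aeval D.X d * D.E := D.comm_X d D.E_mem
    rw [hU, ← mul_assoc, hcomm, mul_assoc, ← mul_assoc D.E, ← mul_assoc D.E, D.EE]
  have hUE' : U * C.E' = U := by
    rw [hU, mul_assoc, mul_assoc (D.E * D.B j), E'E']
  have hE'U' : C.E' * U' = U' := by
    rw [hU', ← mul_assoc, ← mul_assoc, E'E']
  have hU'E : U' * D.E = U' := by
    rw [hU', mul_assoc, D.EE]
  -- `U U'` is an idempotent of the corner
  have hUU' : (U * U') * (U * U') = U * U' := by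
    calc (U * U') * (U * U') = U * (U' * U) * U' := by simp only [mul_assoc]
      _ = _ := by rw [h1, hUE']
  obtain ⟨r, hr⟩ : ∃ r : k[X], U * U' = aeval D.X r * D.E := by
    obtain ⟨r, hr⟩ := D.corner (U * U') (D.K.mul_mem hUmem hU'mem)
    refine ⟨r, ?_⟩
    rw [← hr]
    calc U * U' = (D.E * U) * (U' * D.E) := by rw [hEU, hU'E]
      _ = _ := by simp only [mul_assoc]
  have hr0 : r.coeff 0 ≠ 0 := by
    intro h0
    have h2 := aeval_pow_of_coeff D.nil h0
    have h3 : ∀ n : ℕ, U * U' = aeval D.X r ^ (n + 1) * D.E := by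
      intro n
      induction n with
      | zero => simpa using hr
      | succ n ih =>
        have h4 : aeval D.X r ^ (n + 1 + 1) * D.E = (aeval D.X r ^ (n + 1) * D.E) * (aeval D.X r * D.E) := by
          have h5 : D.E * aeval D.X r = aeval D.X r * D.E := D.comm_X r D.E_mem
          calc aeval D.X r ^ (n + 1 + 1) * D.E = aeval D.X r ^ (n + 1) * (aeval D.X r * D.E) := by
                rw [pow_succ _ (n + 1), mul_assoc]
            _ = aeval D.X r ^ (n + 1) * (D.E * aeval D.X r * D.E) := by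
                rw [h5, mul_assoc, D.EE]
            _ = _ := by simp only [mul_assoc]
        rw [h4, ← ih, ← hr, hUU']
    have h6 : U * U' = 0 := by
      rcases Nat.eq_zero_or_pos q with hq | hq
      · subst hq
        have : D.E = 0 := by simpa using D.nil
        exact absurd this hE
      · have h7 := h3 (q - 1)
        rw [Nat.sub_add_cancel hq, h2] at h7
        exact h7
    apply hE'
    calc C.E' = C.E' * C.E' := C.E'E'.symm
      _ = U' * (U * U') * U := by rw [← h1]; simp only [mul_assoc]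
      _ = 0 := by rw [h6]; simp
  obtain ⟨d', hd'⟩ := exists_inv D.nil hr0
  have h7 : D.E * (U * U') = U * U' := by
    calc D.E * (U * U') = (D.E * U) * U' := (mul_assoc _ _ _).symm
      _ = _ := by rw [hEU]
  have h2 : U * U' = D.E := by
    calc U * U' = D.E * (U * U') := h7.symm
      _ = (aeval D.X d' * aeval D.X r * D.E) * (U * U') := by rw [hd']
      _ = aeval D.X d' * ((aeval D.X r * D.E) * (U * U')) := by simp only [mul_assoc]
      _ = aeval D.X d' * ((U * U') * (U * U')) := by rw [hr]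
      _ = aeval D.X d' * (U * U') := by rw [hUU']
      _ = aeval D.X d' * (aeval D.X r * D.E) := by rw [hr]
      _ = _ := by rw [← mul_assoc, hd']
  exact ⟨U, U', hUmem, hU'mem, h2, h1, hEU, hUE', hE'U', hU'E⟩

theorem R_F : C.R * D.F = D.F * C.R := by
  calc C.R * D.F = (C.R * D.F * C.R') * C.R := by
        rw [mul_assoc (C.R * D.F), C.R'R, mul_one]
    _ = _ := by rw [C.RF]

theorem conj_pow_mem (n : ℕ) {a : Module.End k V} (ha : a ∈ D.K) : C.R ^ n * a * C.R' ^ n ∈ D.K := by
  induction n generalizing a with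
  | zero => simpa using ha
  | succ n ih =>
    have h1 : C.R ^ (n + 1) * a * C.R' ^ (n + 1) = C.R ^ n * (C.R * a * C.R') * C.R' ^ n := by
      rw [pow_succ, pow_succ']
      simp only [mul_assoc]
    rw [h1]
    exact ih (C.stab a ha)

theorem pow_R_R' (n : ℕ) : C.R' ^ n * C.R ^ n = 1 := by
  have h : Commute C.R' C.R := by
    show C.R' * C.R = C.R * C.R'
    rw [C.R'R, C.RR']
  rw [← h.mul_pow, C.R'R, one_pow]

variable {U U' : Module.End k V} (hU : U ∈ D.K) (hU' : U' ∈ D.K) (h1 : U * U' = D.E) (h2 : U' * U = C.E')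
  (h3 : D.E * U = U) (h4 : U * C.E' = U) (h5 : C.E' * U' = U') (h6 : U' * D.E = U')

include h4 in
theorem Y_E : U * C.R * D.E = U * C.R := by
  rw [mul_assoc, ← E'_mul_R, ← mul_assoc, h4]

include h3 in
theorem E_Y : D.E * (U * C.R) = U * C.R := by
  rw [← mul_assoc, h3]

include h1 in
theorem Y_Y' : (U * C.R) * (C.R' * U') = D.E := by
  calc (U * C.R) * (C.R' * U') = U * (C.R * C.R') * U' := by simp only [mul_assoc]
    _ = _ := by rw [C.RR', mul_one, h1]

include h2 in
theorem Y'_Y : (C.R' * U') * (U * C.R) = D.E := by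
  calc (C.R' * U') * (U * C.R) = C.R' * (U' * U) * C.R := by simp only [mul_assoc]
    _ = C.R' * (C.E' * C.R) := by rw [h2, mul_assoc]
    _ = (C.R' * C.R) * D.E := by rw [E'_mul_R]; simp only [mul_assoc]
    _ = _ := by rw [C.R'R, one_mul]

include hU in
theorem Y_X : (U * C.R) * D.X = C.ζ • (D.X * (U * C.R)) := by
  have h7 : C.R * D.X = C.ζ • (D.X * C.R) := by
    calc C.R * D.X = (C.R * D.X * C.R') * C.R := by rw [mul_assoc (C.R * D.X), C.R'R, mul_one]
      _ = _ := by rw [C.RX, smul_mul_assoc]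
  calc (U * C.R) * D.X = U * (C.R * D.X) := mul_assoc _ _ _
    _ = C.ζ • ((U * D.X) * C.R) := by rw [h7, mul_smul_comm, mul_assoc]
    _ = _ := by rw [D.X_central U hU, mul_assoc]

include hU in
theorem pow_Y_mem (hRe : ∀ n : ℕ, True) (n : ℕ) : ∃ u ∈ D.K, (U * C.R) ^ n = u * C.R ^ n := by
  induction n with
  | zero => exact ⟨1, D.K.one_mem, by simp⟩
  | succ n ih =>
    obtain ⟨u, hu, h7⟩ := ih
    refine ⟨u * (C.R ^ n * U * C.R' ^ n), D.K.mul_mem hu (conj_pow_mem C n hU), ?_⟩
    rw [pow_succ, h7]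
    have h8 := pow_R_R' C n
    calc u * C.R ^ n * (U * C.R) = u * (C.R ^ n * U * 1) * C.R := by simp only [mul_assoc, mul_one]
      _ = u * (C.R ^ n * U * (C.R' ^ n * C.R ^ n)) * C.R := by rw [h8]
      _ = _ := by rw [pow_succ]; simp only [mul_assoc]

/-- Extension commutes with the conjugating operator. -/
theorem mor_R {π : Module.End k V} (hπE : π * D.E = π) (hEπ : D.E * π = π) (hπX : π * D.X = D.X * π)
    (hπY : π * (U * C.R) = (U * C.R) * π) (hU : U ∈ D.K) (hU' : U' ∈ D.K) (h2 : U' * U = C.E') (h3 : D.E * U = U) :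
    D.mor π * C.R = C.R * D.mor π := by
  classical
  set m := D.mor π with hm
  have hmK : ∀ {a : Module.End k V}, a ∈ D.K → m * a = a * m := fun ha => D.mor_comm hπE hEπ hπX ha
  have hmE : m * D.E = π := D.mor_E hπE hEπ hπX
  have hclaim1 : m * (C.R * D.E) = C.R * π := by
    have h7 : m * (U * C.R) = (U * C.R) * π := by
      calc m * (U * C.R) = m * (D.E * (U * C.R)) := by rw [E_Y C h3]
        _ = (m * D.E) * (U * C.R) := (mul_assoc _ _ _).symm
        _ = _ := by rw [hmE, hπY]
    calc m * (C.R * D.E) = m * (C.E' * C.R) := by rw [E'_mul_R]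
      _ = m * ((U' * U) * C.R) := by rw [h2]
      _ = (m * U') * (U * C.R) := by simp only [mul_assoc]
      _ = U' * (m * (U * C.R)) := by rw [hmK hU']; simp only [mul_assoc]
      _ = U' * ((U * C.R) * π) := by rw [h7]
      _ = (U' * U) * (C.R * π) := by simp only [mul_assoc]
      _ = C.E' * (C.R * π) := by rw [h2]
      _ = (C.E' * C.R) * π := (mul_assoc _ _ _).symm
      _ = (C.R * D.E) * π := by rw [E'_mul_R]
      _ = C.R * (D.E * π) := mul_assoc _ _ _
      _ = _ := by rw [hEπ]
  have hclaim2 : m * (C.R * D.F) = C.R * m := by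
    have hRm : C.R * m = ∑ j, C.R * (D.A j * π * D.B j) := by
      rw [hm]
      unfold mor
      rw [Finset.mul_sum]
    rw [hRm, ← D.AB, Finset.mul_sum, Finset.mul_sum]
    refine Finset.sum_congr rfl fun j _ => ?_
    have hAj := C.stab _ (D.A_mem j)
    calc m * (C.R * (D.A j * D.B j)) = m * ((C.R * D.A j * C.R') * (C.R * (D.E * D.B j))) := by
          rw [D.EB]
          calc m * (C.R * (D.A j * D.B j)) = m * (C.R * D.A j * 1 * D.B j) := by simp only [mul_one, mul_assoc]
            _ = m * (C.R * D.A j * (C.R' * C.R) * D.B j) := by rw [C.R'R]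
            _ = _ := by simp only [mul_assoc]
      _ = (C.R * D.A j * C.R') * (m * (C.R * D.E)) * D.B j := by
          rw [← mul_assoc m, hmK hAj]; simp only [mul_assoc]
      _ = (C.R * D.A j * C.R') * (C.R * π) * D.B j := by rw [hclaim1]
      _ = C.R * D.A j * (C.R' * C.R) * π * D.B j := by simp only [mul_assoc]
      _ = _ := by rw [C.R'R, mul_one]; simp only [mul_assoc]
  calc m * C.R = (m * D.F) * C.R := by rw [hm, D.mor_F]
    _ = m * (C.R * D.F) := by rw [R_F, mul_assoc]
    _ = _ := hclaim2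

/-- **The normalized operator.** -/
theorem exists_y [IsAlgClosed k] {p : ℕ} [hp : Fact p.Prime] [CharP k p] {e : ℕ} (he1 : 1 ≤ e) (he : (e : k) ≠ 0)
    (hE : D.E ≠ 0) (hRe : C.R ^ e ∈ D.K) (hU : U ∈ D.K) (h1 : U * U' = D.E) (h2 : U' * U = C.E')
    (h3 : D.E * U = U) (h4 : U * C.E' = U) :
    ∃ y : Module.End k V, y ^ e = 1 ∧ y * (D.X * D.E) = C.ζ • ((D.X * D.E) * y) ∧ y * D.E = D.E * y ∧
      ∀ π : Module.End k V, π * D.E = π → D.E * π = π → π * D.X = D.X * π → π * y = y * π →
        π * (U * C.R) = (U * C.R) * π := by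
  classical
  have hq0 : q ≠ 0 := by
    rintro rfl
    exact hE (by simpa using D.nil)
  set Y := U * C.R with hY
  set Y' := C.R' * U' with hY'
  have hYE : Y * D.E = Y := Y_E C h4
  have hEY : D.E * Y = Y := E_Y C h3
  have hYY' : Y' * Y = D.E := Y'_Y C h2
  have hXE : D.X * D.E = D.E * D.X := (D.X_central _ D.E_mem).symm
  have hYX : Y * D.X = C.ζ • (D.X * Y) := Y_X C hU
  -- `Y ^ e` is in the corner
  obtain ⟨u, hu, hYe⟩ := pow_Y_mem C hU (fun _ => trivial) e
  have hYeK : Y ^ e ∈ D.K := by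
    rw [hYe]
    exact D.K.mul_mem hu hRe
  have hEYn : ∀ n, 1 ≤ n → D.E * Y ^ n = Y ^ n := by
    intro n hn
    obtain ⟨m, rfl⟩ : ∃ m, n = m + 1 := ⟨n - 1, by omega⟩
    rw [pow_succ', ← mul_assoc, hEY]
  have hYnE : ∀ n, 1 ≤ n → Y ^ n * D.E = Y ^ n := by
    intro n hn
    obtain ⟨m, rfl⟩ : ∃ m, n = m + 1 := ⟨n - 1, by omega⟩
    rw [pow_succ, mul_assoc, hYE]
  have hY'n : ∀ n, 1 ≤ n → Y' ^ n * Y ^ n = D.E := by
    intro n hn
    induction n, hn using Nat.le_induction with
    | base => simpa using hYY'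
    | succ n hn ih =>
      calc Y' ^ (n + 1) * Y ^ (n + 1) = Y' ^ n * (Y' * Y) * Y ^ n := by
            rw [pow_succ, pow_succ']; simp only [mul_assoc]
        _ = Y' ^ n * (D.E * Y ^ n) := by rw [hYY', mul_assoc]
        _ = _ := by rw [hEYn n hn, ih]
  obtain ⟨c, hc⟩ := D.corner _ hYeK
  have hYec : Y ^ e = aeval D.X c * D.E := by
    rw [← hc, hEYn e he1, hYnE e he1]
  have hEc : ∀ c : k[X], D.E * aeval D.X c = aeval D.X c * D.E := fun c => D.comm_X c D.E_mem
  have hpowc : ∀ (c : k[X]) (n : ℕ), 1 ≤ n → (aeval D.X c * D.E) ^ n = aeval D.X (c ^ n) * D.E := by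
    intro c n hn
    induction n, hn using Nat.le_induction with
    | base => simp
    | succ n hn ih =>
      rw [pow_succ, ih]
      calc aeval D.X (c ^ n) * D.E * (aeval D.X c * D.E) = aeval D.X (c ^ n) * (D.E * aeval D.X c) * D.E := by
            simp only [mul_assoc]
        _ = aeval D.X (c ^ n) * aeval D.X c * (D.E * D.E) := by rw [hEc]; simp only [mul_assoc]
        _ = _ := by rw [D.EE, ← map_mul, pow_succ]
  set κ := c.coeff 0 with hκ
  have hκ0 : κ ≠ 0 := by
    intro h0
    have h5 := aeval_pow_of_coeff D.nil h0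
    have h6 : Y ^ (e * q) = 0 := by
      rw [pow_mul, hYec, hpowc c q (Nat.pos_of_ne_zero hq0), map_pow, h5]
    have h7 := hY'n (e * q) (Nat.mul_pos he1 (Nat.pos_of_ne_zero hq0))
    rw [h6, mul_zero] at h7
    exact hE h7.symm
  obtain ⟨ω, hω⟩ := IsAlgClosed.exists_pow_nat_eq κ (n := e) he1
  have hω0 : ω ≠ 0 := by
    rintro rfl
    rw [zero_pow (by omega)] at hω
    exact hκ0 hω.symm
  set g : k[X] := Polynomial.C κ⁻¹ * c with hg
  set f : k[X] := g - 1 with hf
  have hf0 : f.coeff 0 = 0 := by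
    simp [hf, hg, Polynomial.coeff_C_mul, inv_mul_cancel₀ hκ0, ← hκ]
  set w : Module.End k V := aeval D.X g * D.E with hw
  have hwY : w = κ⁻¹ • Y ^ e := by
    rw [hYec, hw, hg, map_mul, aeval_C, ← Algebra.smul_def, smul_mul_assoc]
  have hYew : Y ^ e = κ • w := by
    rw [hwY, smul_smul, mul_inv_cancel₀ hκ0, one_smul]
  -- the order of `w`
  set N := p ^ q with hN
  have hNq : q ≤ N := (Nat.lt_pow_self hp.out.one_lt).le
  have hN1 : 1 < N := Nat.one_lt_pow hq0 hp.out.one_lt
  have hwN : w ^ N = D.E := by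
    rw [hw, hpowc g N (by omega)]
    have h5 : g = 1 + f := by rw [hf]; ring
    have h6 : g ^ N = 1 + f ^ N := by
      rw [h5, hN, add_pow_char_pow, one_pow]
    rw [h6, map_add, map_one, add_mul, one_mul]
    have h7 := aeval_pow_of_coeff D.nil hf0
    have h8 : aeval D.X (f ^ N) * D.E = 0 := by
      have h9 : N = (N - q) + q := by omega
      rw [map_pow, h9, pow_add, mul_assoc, h7, mul_zero]
    rw [h8, add_zero]
  have hwn : ∀ n, 1 ≤ n → w ^ n = aeval D.X (g ^ n) * D.E := fun n hn => hpowc g n hn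
  -- the exponent
  have hcop : Nat.Coprime e N := by
    apply Nat.Coprime.pow_right
    rw [Nat.coprime_comm, Nat.Prime.coprime_iff_not_dvd hp.out]
    intro hd
    exact he ((CharP.cast_eq_zero_iff k p e).2 hd)
  obtain ⟨d, j, hdj, hd1, hj1⟩ : ∃ d j : ℕ, d * e + 1 = j * N ∧ 1 ≤ d ∧ 1 ≤ j := by
    obtain ⟨m, -, hm⟩ := Nat.exists_mul_mod_eq_one_of_coprime hcop hN1
    have h5 : (m * (N - 1) * e + 1) % N = 0 := by
      have h6 : m * (N - 1) * e + 1 = (e * m) * (N - 1) + 1 := by ring
      rw [h6]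
      have h7 : (e * m) * (N - 1) + 1 ≡ 1 * (N - 1) + 1 [MOD N] :=
        Nat.ModEq.add_right _ (Nat.ModEq.mul_right _ (by
          show (e * m) % N = 1 % N
          rw [hm, Nat.mod_eq_of_lt hN1]))
      have h8 : 1 * (N - 1) + 1 = N := by omega
      rw [h8] at h7
      have h9 := h7
      unfold Nat.ModEq at h9
      rw [Nat.mod_self] at h9
      exact h9
    obtain ⟨j, hj⟩ := Nat.dvd_of_mod_eq_zero h5
    refine ⟨m * (N - 1), j, by rw [hj, mul_comm], ?_, ?_⟩
    · have hm0 : m ≠ 0 := by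
        rintro rfl
        rw [mul_zero, Nat.zero_mod] at hm
        exact zero_ne_one hm
      exact Nat.mul_pos (Nat.pos_of_ne_zero hm0) (by omega)
    · by_contra hj0
      have : j = 0 := by omega
      rw [this, mul_zero] at hj
      omega
  set σ : Module.End k V := ω⁻¹ • w ^ d with hσ
  set σ' : Module.End k V := ω • w ^ ((N - 1) * d) with hσ'
  have hdd : 1 ≤ (N - 1) * d := Nat.mul_pos (by omega) hd1
  have hσσ' : σ * σ' = D.E := by
    rw [hσ, hσ', smul_mul_smul_comm, inv_mul_cancel₀ hω0, one_smul, ← pow_add]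
    have h5 : d + (N - 1) * d = N * d := by
      have h7 : N - 1 + 1 = N := by omega
      calc d + (N - 1) * d = (N - 1 + 1) * d := by ring
        _ = N * d := by rw [h7]
    rw [h5, pow_mul, hwN]
    have h6 : ∀ n, 1 ≤ n → D.E ^ n = D.E := by
      intro n hn
      induction n, hn using Nat.le_induction with
      | base => simp
      | succ n hn ih => rw [pow_succ, ih, D.EE]
    exact h6 d hd1
  have hEn : ∀ n, 1 ≤ n → D.E ^ n = D.E := by
    intro n hn
    induction n, hn using Nat.le_induction with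
    | base => simp
    | succ n hn ih => rw [pow_succ, ih, D.EE]
  have hσp : σ = aeval D.X (Polynomial.C ω⁻¹ * g ^ d) * D.E := by
    rw [hσ, hwn d hd1, map_mul, aeval_C, ← Algebra.smul_def, smul_mul_assoc]
  set s : k[X] := Polynomial.C ω⁻¹ * g ^ d with hs
  have hσE : σ * D.E = σ := by rw [hσp, mul_assoc, D.EE]
  have hEσ : D.E * σ = σ := by rw [hσp, ← mul_assoc, hEc, mul_assoc, D.EE]
  have hσX : σ * D.X = D.X * σ := by
    rw [hσp]
    calc aeval D.X s * D.E * D.X = aeval D.X s * (D.X * D.E) := by rw [mul_assoc, hXE]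
      _ = (aeval D.X s * D.X) * D.E := (mul_assoc _ _ _).symm
      _ = (D.X * aeval D.X s) * D.E := by rw [← comm_aeval (a := D.X) rfl]
      _ = _ := mul_assoc _ _ _
  have hwYc : Commute w Y := by
    rw [hwY]
    show κ⁻¹ • Y ^ e * Y = Y * (κ⁻¹ • Y ^ e)
    rw [smul_mul_assoc, mul_smul_comm, ← pow_succ, ← pow_succ']
  have hσY : σ * Y = Y * σ := by
    rw [hσ, smul_mul_assoc, mul_smul_comm, (hwYc.pow_left d).eq]
  set y₁ := Y * σ with hy₁
  have hy₁E : y₁ * D.E = y₁ := by rw [hy₁, mul_assoc, hσE]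
  have hEy₁ : D.E * y₁ = y₁ := by rw [hy₁, ← mul_assoc, hEY]
  have hy₁c : y₁ * (1 - D.E) = 0 := by rw [mul_sub, mul_one, hy₁E, sub_self]
  have hcy₁ : (1 - D.E) * y₁ = 0 := by rw [sub_mul, one_mul, hEy₁, sub_self]
  have hcc : (1 - D.E) * (1 - D.E) = 1 - D.E := by
    rw [sub_mul, mul_sub, mul_sub, D.EE]
    simp
  have hpowy : ∀ n, 1 ≤ n → (y₁ + (1 - D.E)) ^ n = y₁ ^ n + (1 - D.E) := by
    intro n hn
    induction n, hn using Nat.le_induction with
    | base => simp
    | succ n hn ih =>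
      have h5 : (1 - D.E) * y₁ ^ n = 0 := by
        obtain ⟨m, rfl⟩ : ∃ m, n = m + 1 := ⟨n - 1, by omega⟩
        rw [pow_succ', ← mul_assoc, hcy₁, zero_mul]
      have h6 : y₁ ^ n * (1 - D.E) = 0 := by
        obtain ⟨m, rfl⟩ : ∃ m, n = m + 1 := ⟨n - 1, by omega⟩
        rw [pow_succ, mul_assoc, hy₁c, mul_zero]
      rw [pow_succ, ih, add_mul, mul_add, mul_add, h6, hcy₁, hcc, ← pow_succ]
      simp
  have hy₁e : y₁ ^ e = D.E := by
    have h5 : Commute Y σ := hσY.symm
    have h6 : σ ^ e = κ⁻¹ • w ^ (d * e) := by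
      rw [hσ, _root_.smul_pow, ← pow_mul, inv_pow, hω]
    rw [hy₁, h5.mul_pow, h6, hYew, smul_mul_smul_comm, mul_inv_cancel₀ hκ0, one_smul, ← pow_succ', hdj, mul_comm j,
      pow_mul, hwN, hEn j hj1]
  refine ⟨y₁ + (1 - D.E), ?_, ?_, ?_, ?_⟩
  · rw [hpowy e he1, hy₁e]
    abel
  · have h5 : (1 - D.E) * (D.X * D.E) = 0 := by
      rw [sub_mul, one_mul, hXE, ← mul_assoc, D.EE, sub_self]
    have h6 : y₁ * (D.X * D.E) = C.ζ • (D.X * y₁) := by
      calc y₁ * (D.X * D.E) = Y * (σ * D.X) * D.E := by rw [hy₁]; simp only [mul_assoc]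
        _ = Y * D.X * (σ * D.E) := by rw [hσX]; simp only [mul_assoc]
        _ = (C.ζ • (D.X * Y)) * σ := by rw [hYX, hσE]
        _ = _ := by rw [smul_mul_assoc, mul_assoc]
    have h7 : (D.X * D.E) * (1 - D.E) = 0 := by
      rw [mul_assoc, mul_sub, mul_one, D.EE, sub_self, mul_zero]
    have h8 : (D.X * D.E) * y₁ = D.X * y₁ := by rw [mul_assoc, hEy₁]
    rw [add_mul, mul_add, h5, h6, h7, h8, add_zero, add_zero]
  · rw [add_mul, mul_add, hy₁E, hEy₁, sub_mul, mul_sub, D.EE]
    simp
  · intro π hπE hEπ hπX hπy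
    have h5 : π * (y₁ + (1 - D.E)) = π * y₁ := by
      rw [mul_add, mul_sub, mul_one, hπE, sub_self, add_zero]
    have h6 : (y₁ + (1 - D.E)) * π = y₁ * π := by
      rw [add_mul, sub_mul, one_mul, hEπ, sub_self, add_zero]
    rw [h5, h6] at hπy
    have h7 : σ * π = π * σ := by
      rw [hσp]
      calc aeval D.X s * D.E * π = aeval D.X s * π := by rw [mul_assoc, hEπ]
        _ = π * aeval D.X s := (comm_aeval hπX s).symm
        _ = π * D.E * aeval D.X s := by rw [hπE]
        _ = π * (aeval D.X s * D.E) := by rw [mul_assoc, hEc]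
    have h8 : π * Y * σ = Y * π * σ := by
      calc π * Y * σ = π * y₁ := by rw [hy₁, mul_assoc]
        _ = y₁ * π := hπy
        _ = Y * (σ * π) := by rw [hy₁, mul_assoc]
        _ = _ := by rw [h7]; exact (mul_assoc _ _ _).symm
    calc π * Y = π * (Y * D.E) := by rw [hYE]
      _ = π * Y * (σ * σ') := by rw [hσσ']; exact (mul_assoc _ _ _).symm
      _ = π * Y * σ * σ' := (mul_assoc _ _ _).symm
      _ = Y * π * σ * σ' := by rw [h8]
      _ = Y * π * (σ * σ') := mul_assoc _ _ _
      _ = Y * (π * D.E) := by rw [hσσ']; exact mul_assoc _ _ _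
      _ = Y * π := by rw [hπE]

end ConjData

end Conj

end OpData

end Cfsg.Agent.Lib.DcMorita
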