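import Mathlib
import Cfsg.Agent.Lib.RangeMod

/-!
# The relative trace from the centralizer of an element of order `p`, modulo norms
-/

set_option autoImplicit false
set_option linter.unusedSectionVars false
set_option linter.unusedVariables false

namespace Cfsg.Agent.Lib.DcTrace

open Subgroup Module Cfsg.Agent.Lib.RangeMod

variable {G : Type*} [Group G] [Fintype G] [DecidableEq G]

/-- Pairs: a coset and an element. -/
def Om (H : Subgroup G) : Type _ := (G ⧸ H) × G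

noncomputable instance omFintype (H : Subgroup G) [Fintype (G ⧸ H)] : Fintype (Om H) :=
  inferInstanceAs (Fintype ((G ⧸ H) × G))

noncomputable instance omDec (H : Subgroup G) : DecidableEq (Om H) := Classical.decEq _

/-- The action on pairs. -/
instance omAction (H P : Subgroup G) : MulAction P (Om H) where
  smul u ω := ((u : G) • ω.1, (u : G) * ω.2 * (u : G)⁻¹)
  one_smul ω := by
    refine Prod.ext (one_smul G ω.1) ?_
    show ((1 : P) : G) * ω.2 * ((1 : P) : G)⁻¹ = ω.2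
    simp
  mul_smul u v ω := by
    refine Prod.ext (mul_smul (u : G) (v : G) ω.1) ?_
    show ((u * v : P) : G) * ω.2 * ((u * v : P) : G)⁻¹ = (u : G) * ((v : G) * ω.2 * (v : G)⁻¹) * (u : G)⁻¹
    push_cast
    group

theorem smul_fst {H P : Subgroup G} (u : P) (ω : Om H) : (u • ω).1 = (u : G) • ω.1 := rfl
theorem smul_snd {H P : Subgroup G} (u : P) (ω : Om H) : (u • ω).2 = (u : G) * ω.2 * (u : G)⁻¹ := rfl

variable {k : Type*} [Field k] {V : Type*} [AddCommGroup V] [Module k V]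

/-- The operator of a coefficient function. -/
noncomputable def opF (ρ : G →* Module.End k V) (φ : G → k) : Module.End k V := ∑ y, φ y • ρ y

/-- The coefficient attached to a pair. -/
noncomputable def coef {H : Subgroup G} (φ : G → k) (ω : Om H) : k := φ (ω.1.out⁻¹ * ω.2 * ω.1.out)

theorem coef_rep {H : Subgroup G} {φ : G → k} (hφ : ∀ h ∈ H, ∀ y, φ (h * y * h⁻¹) = φ y) (g z : G) :
    φ (((g : G ⧸ H)).out⁻¹ * z * ((g : G ⧸ H)).out) = φ (g⁻¹ * z * g) := by
  have h : ((g : G ⧸ H)).out⁻¹ * g ∈ H := by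
    rw [← QuotientGroup.eq]
    exact QuotientGroup.out_eq' _
  have h2 := hφ _ h (g⁻¹ * z * g)
  rw [← h2]
  congr 1
  group

theorem coef_smul {H P : Subgroup G} {φ : G → k} (hφ : ∀ h ∈ H, ∀ y, φ (h * y * h⁻¹) = φ y) (u : P) (ω : Om H) :
    coef φ (u • ω) = coef φ ω := by
  obtain ⟨q, z⟩ := ω
  induction q using QuotientGroup.induction_on with
  | H g =>
    show φ ((((u : G) • (g : G ⧸ H))).out⁻¹ * ((u : G) * z * (u : G)⁻¹) * ((u : G) • (g : G ⧸ H)).out) =
      φ (((g : G ⧸ H)).out⁻¹ * z * ((g : G ⧸ H)).out)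
    have h1 : (u : G) • (g : G ⧸ H) = (((u : G) * g : G) : G ⧸ H) := rfl
    rw [h1, coef_rep hφ, coef_rep hφ]
    congr 1
    group

section Main

variable {ρ : G →* Module.End k V} {H : Subgroup G} [Fintype (G ⧸ H)] {φ : G → k} {π : Module.End k V}

/-- The terms. -/
noncomputable def Fn (ρ : G →* Module.End k V) (H : Subgroup G) (φ : G → k) (π : Module.End k V) (w : V) (ω : Om H) : V :=
  coef φ ω • tq ρ H π ω.1 (ρ ω.2 w)

theorem sum_Fn_q (hπF : π * opF ρ φ = π) (w : V) (q : G ⧸ H) :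
    ∑ z, Fn ρ H φ π w (q, z) = tq ρ H π q w := by
  classical
  unfold Fn
  set a := q.out with ha
  have hc : ∀ z : G, coef φ ((q, z) : Om H) = φ (a⁻¹ * z * a) := fun z => rfl
  simp_rw [hc]
  have h1 : ∑ z, φ (a⁻¹ * z * a) • tq ρ H π q (ρ z w) =
      ∑ y, φ y • tq ρ H π q (ρ (a * y * a⁻¹) w) := by
    refine Fintype.sum_equiv (MulAut.conj a⁻¹).toEquiv _ _ fun z => ?_
    have h2 : a * (MulAut.conj a⁻¹).toEquiv z * a⁻¹ = z := by
      show a * (a⁻¹ * z * a⁻¹⁻¹) * a⁻¹ = z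
      group
    have h3 : (MulAut.conj a⁻¹).toEquiv z = a⁻¹ * z * a := by
      show a⁻¹ * z * a⁻¹⁻¹ = a⁻¹ * z * a
      simp
    rw [h2, h3]
  rw [h1]
  have h2 : ∀ y, tq ρ H π q (ρ (a * y * a⁻¹) w) = ρ a (π (ρ y (ρ a⁻¹ w))) := by
    intro y
    unfold tq
    rw [← ha, Module.End.mul_apply, Module.End.mul_apply, map_mul, map_mul, Module.End.mul_apply, Module.End.mul_apply,
      ← Module.End.mul_apply (ρ a⁻¹) (ρ a), ← map_mul, inv_mul_cancel, map_one, Module.End.one_apply]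
  simp_rw [h2]
  have h3 : ∑ y, φ y • ρ a (π (ρ y (ρ a⁻¹ w))) = ρ a (π (opF ρ φ (ρ a⁻¹ w))) := by
    unfold opF
    rw [LinearMap.sum_apply, map_sum, map_sum]
    refine Finset.sum_congr rfl fun y _ => ?_
    rw [LinearMap.smul_apply, map_smul, map_smul]
  rw [h3]
  unfold tq
  rw [← ha, ← Module.End.mul_apply π, hπF]
  rfl

theorem sum_Fn (hπF : π * opF ρ φ = π) (w : V) : ∑ ω : Om H, Fn ρ H φ π w ω = trf ρ H π w := by
  classical
  unfold trf
  rw [LinearMap.sum_apply]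
  have h1 : ∑ ω : Om H, Fn ρ H φ π w ω = ∑ q : G ⧸ H, ∑ z : G, Fn ρ H φ π w (q, z) :=
    Fintype.sum_prod_type (f := Fn ρ H φ π w)
  rw [h1]
  exact Finset.sum_congr rfl fun q _ => sum_Fn_q hπF w q

variable {p : ℕ} [hp : Fact p.Prime] [CharP k p] [FiniteDimensional k V] {x : G}

theorem out_mem_iff {N : Subgroup G} (hHN : H ≤ N) {u : G} (hu : u ∈ N) (q : G ⧸ H) :
    (u • q).out ∈ N ↔ q.out ∈ N := by
  have h1 : (u • q).out⁻¹ * (u * q.out) ∈ H := by
    rw [← QuotientGroup.eq]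
    have h2 : ((u * q.out : G) : G ⧸ H) = u • (q.out : G ⧸ H) := rfl
    rw [h2, QuotientGroup.out_eq', QuotientGroup.out_eq']
  have h2 := hHN h1
  constructor
  · intro h
    have h3 : q.out = u⁻¹ * (u • q).out * ((u • q).out⁻¹ * (u * q.out)) := by group
    rw [h3]
    exact N.mul_mem (N.mul_mem (N.inv_mem hu) h) h2
  · intro h
    have h3 : (u • q).out = u * q.out * ((u • q).out⁻¹ * (u * q.out))⁻¹ := by group
    rw [h3]
    exact N.mul_mem (N.mul_mem hu h) (N.inv_mem h2)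

open scoped Classical in
/-- **The trace modulo norms**: only cosets in the normalizer count. -/
theorem trace_mod (hx : orderOf x = p) (hφc : ∀ h ∈ H, ∀ y, φ (h * y * h⁻¹) = φ y)
    (hπH : ∀ u ∈ H, π * ρ u = ρ u * π) (hπF : π * opF ρ φ = π) (hHN : H ≤ normalizer (zpowers x : Set G))
    (hSupp : ∀ y g, φ y ≠ 0 → g⁻¹ * x * g ∈ H → (g⁻¹ * x * g) * y = y * (g⁻¹ * x * g) →
      g ∈ normalizer (zpowers x : Set G)) {w : V} (hw : ρ x w = w) :
    trf ρ H π w - ∑ q ∈ Finset.univ.filter (fun q : G ⧸ H => q.out ∈ normalizer (zpowers x : Set G)), tq ρ H π q w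
      ∈ ImN ρ x p := by
  classical
  set N := normalizer (zpowers x : Set G) with hN
  have hfin : IsOfFinOrder x := isOfFinOrder_of_finite x
  have hxN : zpowers x ≤ N := by
    intro u hu
    rw [hN, Subgroup.mem_normalizer_iff]
    intro v
    constructor
    · intro hv
      exact (zpowers x).mul_mem ((zpowers x).mul_mem hu hv) ((zpowers x).inv_mem hu)
    · intro hv
      have : v = u⁻¹ * (u * v * u⁻¹) * u := by group
      rw [this]
      exact (zpowers x).mul_mem ((zpowers x).mul_mem ((zpowers x).inv_mem hu) hv) hu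
  have hwF : w ∈ Fx ρ x := by
    unfold Fx yy
    rw [LinearMap.mem_ker, LinearMap.sub_apply, Module.End.one_apply, hw, sub_self]
  haveI : Fintype (zpowers x) := Fintype.ofFinite _
  set Q := Finset.univ.filter (fun q : G ⧸ H => q.out ∈ N) with hQ
  set Q' := Finset.univ.filter (fun q : G ⧸ H => ¬ q.out ∈ N) with hQ'
  have hsplit : trf ρ H π w = ∑ q ∈ Q, tq ρ H π q w + ∑ q ∈ Q', tq ρ H π q w := by
    unfold trf
    rw [LinearMap.sum_apply, hQ, hQ', Finset.sum_filter_add_sum_filter_not]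
  rw [hsplit, add_sub_cancel_left]
  -- the set of pairs
  let S : Finset (Om H) := Finset.univ.filter (fun ω : Om H => ¬ ω.1.out ∈ N ∧ coef φ ω ≠ 0)
  have h1 : ∑ q ∈ Q', tq ρ H π q w = ∑ ω ∈ S, Fn ρ H φ π w ω := by
    let f : (G ⧸ H) × G → V := fun ω => Fn ρ H φ π w ω
    have h2 : ∑ q ∈ Q', tq ρ H π q w = ∑ ω ∈ Q' ×ˢ (Finset.univ : Finset G), f ω := by
      rw [Finset.sum_product]
      exact Finset.sum_congr rfl fun q _ => (sum_Fn_q hπF w q).symm
    rw [h2]
    symm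
    refine Finset.sum_subset (s₁ := (S : Finset ((G ⧸ H) × G))) (s₂ := Q' ×ˢ (Finset.univ : Finset G)) (f := f) ?_ ?_
    · intro ω hω
      have := (Finset.mem_filter.1 hω).2.1
      exact Finset.mem_product.2 ⟨Finset.mem_filter.2 ⟨Finset.mem_univ _, this⟩, Finset.mem_univ _⟩
    · intro ω hω hω'
      have h3 : ¬ ω.1.out ∈ N := (Finset.mem_filter.1 (Finset.mem_product.1 hω).1).2
      have h4 : coef φ (ω : Om H) = 0 := by
        by_contra h5
        exact hω' (Finset.mem_filter.2 ⟨Finset.mem_univ _, h3, h5⟩)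
      show Fn ρ H φ π w ω = 0
      unfold Fn
      rw [h4, zero_smul]
  rw [h1]
  let σ : zpowers x →* Module.End k V := ρ.comp (zpowers x).subtype
  have hR : LinearMap.range (∑ u : zpowers x, σ u) = ImN ρ x p := by
    unfold ImN
    rw [← sum_zpowers_eq hx]
    rfl
  rw [← hR]
  refine orbit_sum_mem σ (Fn ρ H φ π w) ?_ S ?_ ?_
  · intro u ω
    unfold Fn
    rw [coef_smul hφc, map_smul]
    congr 1
    rw [smul_fst, smul_snd, ← conj_tq hπH (u : G) ω.1]
    have h4 : ρ (u : G)⁻¹ w = w := rho_zpow_fix hwF hfin (Subgroup.inv_mem _ u.2)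
    show (ρ (u : G) * tq ρ H π ω.1 * ρ (u : G)⁻¹) (ρ ((u : G) * ω.2 * (u : G)⁻¹) w) = ρ (u : G) (tq ρ H π ω.1 (ρ ω.2 w))
    rw [Module.End.mul_apply, Module.End.mul_apply, map_mul, map_mul, Module.End.mul_apply, Module.End.mul_apply, h4,
      ← Module.End.mul_apply (ρ (u : G)⁻¹), ← map_mul, inv_mul_cancel, map_one, Module.End.one_apply]
  · intro ω hω u
    have h2 := (Finset.mem_filter.1 hω).2
    refine Finset.mem_filter.2 ⟨Finset.mem_univ _, ?_, ?_⟩
    · rw [smul_fst, out_mem_iff hHN (hxN u.2)]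
      exact h2.1
    · rw [coef_smul hφc]
      exact h2.2
  · intro ω hω u hu
    have h2 := (Finset.mem_filter.1 hω).2
    by_contra hne
    have hne' : (u : G) ≠ 1 := fun h => hne (Subtype.ext h)
    have hz := zpowers_eq_of_mem hx u.2 hne'
    have hxm : x ∈ zpowers (u : G) := by rw [hz]; exact mem_zpowers x
    obtain ⟨i, hi⟩ := Subgroup.mem_zpowers_iff.1 hxm
    have h3 : ∀ i : ℤ, (u ^ i) • ω = ω := by
      intro i
      exact (MulAction.mem_stabilizer_iff (G := zpowers x) (a := ω)).1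
        (Subgroup.zpow_mem _ ((MulAction.mem_stabilizer_iff).2 hu) i)
    have h4 := h3 i
    have h5 : u ^ i = (⟨x, mem_zpowers x⟩ : zpowers x) := Subtype.ext (by simpa using hi)
    rw [h5] at h4
    have h6 : x • ω.1 = ω.1 := congrArg Prod.fst h4
    have h7 : x * ω.2 * x⁻¹ = ω.2 := congrArg Prod.snd h4
    set g := ω.1.out with hg
    have h8 : g⁻¹ * x * g ∈ H := by
      rw [mul_assoc, ← QuotientGroup.eq]
      have h9 : ((x * g : G) : G ⧸ H) = x • (g : G ⧸ H) := rfl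
      rw [h9, hg, QuotientGroup.out_eq', h6]
    have h10 : (g⁻¹ * x * g) * (g⁻¹ * ω.2 * g) = (g⁻¹ * ω.2 * g) * (g⁻¹ * x * g) := by
      have h11 : x * ω.2 = ω.2 * x := by
        calc x * ω.2 = x * ω.2 * x⁻¹ * x := by group
          _ = ω.2 * x := by rw [h7]
      calc (g⁻¹ * x * g) * (g⁻¹ * ω.2 * g) = g⁻¹ * (x * ω.2) * g := by group
        _ = g⁻¹ * (ω.2 * x) * g := by rw [h11]
        _ = _ := by group
    exact h2.1 (hSupp _ g h2.2 h8 h10)

theorem opF_comm (hφc : ∀ h ∈ H, ∀ y, φ (h * y * h⁻¹) = φ y) {h : G} (hh : h ∈ H) :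
    opF ρ φ * ρ h = ρ h * opF ρ φ := by
  unfold opF
  rw [Finset.sum_mul, Finset.mul_sum]
  refine Fintype.sum_equiv (MulAut.conj h⁻¹).toEquiv _ _ fun y => ?_
  have h1 : (MulAut.conj h⁻¹).toEquiv y = h⁻¹ * y * h⁻¹⁻¹ := rfl
  rw [h1, hφc h⁻¹ (H.inv_mem hh), smul_mul_assoc, mul_smul_comm, ← map_mul, ← map_mul]
  congr 2
  group

open scoped Classical in
/-- **The trace, after cutting by the block.** -/
theorem trace_block (hx : orderOf x = p) (hφc : ∀ h ∈ H, ∀ y, φ (h * y * h⁻¹) = φ y)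
    (hπH : ∀ u ∈ H, π * ρ u = ρ u * π) (hπF : π * opF ρ φ = π) (hFπ : opF ρ φ * π = π)
    (hHN : H ≤ normalizer (zpowers x : Set G))
    (hSupp : ∀ y g, φ y ≠ 0 → g⁻¹ * x * g ∈ H → (g⁻¹ * x * g) * y = y * (g⁻¹ * x * g) →
      g ∈ normalizer (zpowers x : Set G))
    (T : Subgroup G) (hTN : T ≤ normalizer (zpowers x : Set G))
    (hπT : ∀ t ∈ T, π * ρ t = ρ t * π)
    (hout : ∀ g ∈ normalizer (zpowers x : Set G), g ∉ T → opF ρ φ * (ρ g * opF ρ φ * ρ g⁻¹) = 0)
    (hxH : x ∈ H) {w : V} (hw : ρ x w = w) (hFw : opF ρ φ w = w) :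
    ∃ a : V, trf ρ H π w - ((Finset.univ.filter (fun q : G ⧸ H => q.out ∈ T)).card : k) • π w =
      nrm ρ x p (opF ρ φ a) := by
  classical
  set N := normalizer (zpowers x : Set G) with hN
  obtain ⟨a, ha⟩ := trace_mod hx hφc hπH hπF hHN hSupp hw
  refine ⟨a, ?_⟩
  set F := opF ρ φ with hF
  have hFtrf : F * trf ρ H π = trf ρ H π * F := by
    rw [hF]
    unfold opF
    rw [Finset.sum_mul, Finset.mul_sum]
    refine Finset.sum_congr rfl fun y _ => ?_
    rw [smul_mul_assoc, mul_smul_comm, trf_comm hπH y]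
  have hFnrm : F * nrm ρ x p = nrm ρ x p * F := by
    unfold nrm
    rw [Finset.mul_sum, Finset.sum_mul]
    refine Finset.sum_congr rfl fun i _ => ?_
    rw [← map_pow]
    exact opF_comm hφc (H.pow_mem hxH i)
  have hg : ∀ g : G, ρ g⁻¹ * ρ g = 1 := fun g => by rw [← map_mul, inv_mul_cancel, map_one]
  have hterm : ∀ q : G ⧸ H, q.out ∈ N → F (tq ρ H π q w) = if q.out ∈ T then π w else 0 := by
    intro q hq
    unfold tq
    split_ifs with hqT
    · have h1 : (ρ q.out * π * ρ q.out⁻¹) w = π w := by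
        rw [← hπT _ hqT, mul_assoc, ← map_mul, mul_inv_cancel, map_one, mul_one]
      rw [h1, ← Module.End.mul_apply, hFπ]
    · have h1 : F * (ρ q.out * π * ρ q.out⁻¹) = F * (ρ q.out * F * ρ q.out⁻¹) * (ρ q.out * π * ρ q.out⁻¹) := by
        calc F * (ρ q.out * π * ρ q.out⁻¹) = F * (ρ q.out * (F * π) * ρ q.out⁻¹) := by rw [hFπ]
          _ = F * (ρ q.out * F * (ρ q.out⁻¹ * ρ q.out) * π * ρ q.out⁻¹) := by rw [hg, mul_one]; noncomm_ring
          _ = _ := by noncomm_ring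
      rw [← Module.End.mul_apply, h1, hout _ hq hqT, zero_mul]
      rfl
  have hcount : F (∑ q ∈ Finset.univ.filter (fun q : G ⧸ H => q.out ∈ N), tq ρ H π q w) =
      ((Finset.univ.filter (fun q : G ⧸ H => q.out ∈ T)).card : k) • π w := by
    have hset : Finset.filter (fun q : G ⧸ H => q.out ∈ T) (Finset.univ.filter (fun q : G ⧸ H => q.out ∈ N)) =
        Finset.univ.filter (fun q : G ⧸ H => q.out ∈ T) := by
      ext q
      simp only [Finset.mem_filter, Finset.mem_univ, true_and]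
      exact ⟨fun h => h.2, fun h => ⟨hTN h, h⟩⟩
    rw [map_sum, Finset.sum_congr rfl (fun q hq => hterm q (Finset.mem_filter.1 hq).2), Finset.sum_ite,
      Finset.sum_const_zero, add_zero, Finset.sum_const, ← Nat.cast_smul_eq_nsmul k, hset]
  have h2 : F (trf ρ H π w) = trf ρ H π w := by
    rw [← Module.End.mul_apply, hFtrf, Module.End.mul_apply, hFw]
  have h1 := congrArg F ha
  rw [map_sub, hcount, h2] at h1
  rw [← h1, ← Module.End.mul_apply, hFnrm]
  rfl

end Main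

end Cfsg.Agent.Lib.DcTrace
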