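import Mathlib
import Cfsg.Agent.Lib.DcJordan
import Cfsg.Agent.Lib.DcTrace
import Cfsg.Agent.Lib.DcMorita

/-!
# At most one non-projective Jordan block

Combining the operator data with the relative trace: on the image of a block idempotent of the centralizer of
an element of order `p`, the operator `X` has at most one Jordan block (per matrix unit) which is not of full length.
-/

set_option autoImplicit false
set_option linter.unusedSectionVars false
set_option linter.unusedVariables false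

namespace Cfsg.Agent.Lib.DcK

open Subgroup Module Polynomial Cfsg.Agent.Lib.RangeMod Cfsg.Agent.Lib.DcTrace Cfsg.Agent.Lib.DcMorita
  Cfsg.Agent.Lib.DcJordan

section Eig

variable {k V : Type*} [Field k] [AddCommGroup V] [Module k V]

/-- An eigenvalue of a nilpotent operator modulo a stable subspace vanishes. -/
theorem eig_nil {Φ : Module.End k V} (hΦ : IsNilpotent Φ) {I : Submodule k V} (hI : ∀ v ∈ I, Φ v ∈ I) {w : V} {l : k}
    (h : Φ w - l • w ∈ I) (hw : w ∉ I) : l = 0 := by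
  have h1 : ∀ n : ℕ, (Φ ^ n) w - l ^ n • w ∈ I := by
    intro n
    induction n with
    | zero => simp
    | succ n ih =>
      have h2 : (Φ ^ (n + 1)) w - l ^ (n + 1) • w = Φ ((Φ ^ n) w - l ^ n • w) + l ^ n • (Φ w - l • w) := by
        rw [pow_succ', Module.End.mul_apply, map_sub, map_smul, smul_sub, smul_smul, pow_succ]
        abel
      rw [h2]
      exact I.add_mem (hI _ ih) (I.smul_mem _ h)
  obtain ⟨n, hn⟩ := hΦ
  have h3 := h1 n
  rw [hn, LinearMap.zero_apply, zero_sub] at h3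
  by_contra hl
  apply hw
  have h4 : l ^ n • w ∈ I := by simpa using I.neg_mem h3
  have h5 := I.smul_mem (l ^ n)⁻¹ h4
  rwa [smul_smul, inv_mul_cancel₀ (pow_ne_zero n hl), one_smul] at h5

end Eig

section Main

variable {G : Type*} [Group G] [Fintype G] [DecidableEq G] {k V : Type*} [Field k] [AddCommGroup V] [Module k V]
  [FiniteDimensional k V] [IsAlgClosed k] {p : ℕ} [hp : Fact p.Prime] [CharP k p]

theorem pow_XE {g q : ℕ} (D : OpData k V g q) (n : ℕ) (hn : 1 ≤ n) : (D.X * D.E) ^ n = D.X ^ n * D.E := by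
  have hc : D.E * D.X = D.X * D.E := D.X_central _ D.E_mem
  induction n, hn using Nat.le_induction with
  | base => simp
  | succ n hn ih =>
    rw [pow_succ, ih, pow_succ]
    calc D.X ^ n * D.E * (D.X * D.E) = D.X ^ n * (D.E * D.X) * D.E := by simp only [mul_assoc]
      _ = D.X ^ n * (D.X * D.E) * D.E := by rw [hc]
      _ = D.X ^ n * D.X * (D.E * D.E) := by simp only [mul_assoc]
      _ = _ := by rw [D.EE]

open scoped Classical in
/-- **At most one non-projective Jordan block on the corner.** -/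
theorem corner_bound {g q c : ℕ} (D : OpData k V g q) (C : D.ConjData) (ρ : G →* Module.End k V) (H : Subgroup G)
    [Fintype (G ⧸ H)] (φ : G → k) (x t₀ : G) (e : ℕ)
    (hF : opF ρ φ = D.F) (hHK : ∀ h ∈ H, ρ h ∈ D.K) (hR : C.R = ρ t₀) (hR' : C.R' = ρ t₀⁻¹)
    (hx : orderOf x = p) (hxH : x ∈ H) (hφc : ∀ h ∈ H, ∀ y, φ (h * y * h⁻¹) = φ y)
    (hHN : H ≤ normalizer (zpowers x : Set G))
    (hSupp : ∀ y g, φ y ≠ 0 → g⁻¹ * x * g ∈ H → (g⁻¹ * x * g) * y = y * (g⁻¹ * x * g) →
      g ∈ normalizer (zpowers x : Set G))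
    (T : Subgroup G) (hTN : T ≤ normalizer (zpowers x : Set G))
    (hTgen : ∀ t ∈ T, ∃ n : ℕ, ∃ h ∈ H, t = h * t₀ ^ n)
    (hout : ∀ g ∈ normalizer (zpowers x : Set G), g ∉ T → opF ρ φ * (ρ g * opF ρ φ * ρ g⁻¹) = 0)
    (he1 : 1 ≤ e) (he : (e : k) ≠ 0) (hRe : C.R ^ e ∈ D.K)
    (hcount : ((Finset.univ.filter (fun q : G ⧸ H => q.out ∈ T)).card : k) ≠ 0)
    (hloc : ∀ Ψ : Module.End k V, (∀ g, Ψ * ρ g = ρ g * Ψ) → ∃ κ : k, IsNilpotent (Ψ - κ • 1))
    (v : k[X]) (hτ : (ρ x - 1) * D.F = aeval D.X (X ^ c * v) * D.F)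
    (hc1 : 1 ≤ c) (hcp : c * (p - 1) = q - c) (hc2 : 2 * c ≤ q) :
    finrank k ↥(LinearMap.ker D.X ⊓ LinearMap.range D.E) ≤
      finrank k ↥((LinearMap.range D.E).map (D.X ^ (q - 1))) + 1 := by
  classical
  by_contra hcon
  have hq2 : 2 ≤ q := by omega
  have hE : D.E ≠ 0 := by
    intro h0
    apply hcon
    have h1 : LinearMap.range D.E = ⊥ := by rw [h0]; exact LinearMap.range_zero
    rw [h1, inf_bot_eq]
    simp
  set x' := D.X * D.E with hx'
  have hEX : D.E * D.X = D.X * D.E := D.X_central _ D.E_mem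
  have hpowq : x' ^ q = 0 := by
    rw [hx', pow_XE D q (by omega), D.nil]
  have hrange : LinearMap.range (x' ^ (q - 1)) = (LinearMap.range D.E).map (D.X ^ (q - 1)) := by
    rw [hx', pow_XE D _ (by omega), Module.End.mul_eq_comp, LinearMap.range_comp]
  have hker : LinearMap.ker x' ⊓ LinearMap.range D.E = LinearMap.ker D.X ⊓ LinearMap.range D.E := by
    ext w
    simp only [Submodule.mem_inf, LinearMap.mem_ker]
    constructor
    · rintro ⟨h1, h2⟩
      obtain ⟨u, rfl⟩ := h2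
      refine ⟨?_, ⟨u, rfl⟩⟩
      have h3 : D.E (D.E u) = D.E u := by rw [← Module.End.mul_apply, D.EE]
      have h4 : x' (D.E u) = D.X (D.E (D.E u)) := rfl
      rwa [h4, h3] at h1
    · rintro ⟨h1, h2⟩
      obtain ⟨u, rfl⟩ := h2
      refine ⟨?_, ⟨u, rfl⟩⟩
      have h3 : D.E (D.E u) = D.E u := by rw [← Module.End.mul_apply, D.EE]
      have h4 : x' (D.E u) = D.X (D.E (D.E u)) := rfl
      rwa [h4, h3]
  have hK : finrank k ↥(LinearMap.range (x' ^ (q - 1))) + 2 ≤
      finrank k ↥(LinearMap.ker x' ⊓ LinearMap.range D.E) := by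
    rw [hrange, hker]
    omega
  obtain ⟨U, U', hU, hU', h1, h2, h3, h4, h5, h6⟩ := C.exists_units hE
  obtain ⟨y, hy, hyx, hyE, hfin⟩ := C.exists_y (p := p) he1 he hE hRe hU h1 h2 h3 h4
  have hxϖ : x' * D.E = D.E * x' := by
    rw [hx', mul_assoc, D.EE, ← mul_assoc, hEX, mul_assoc, D.EE]
  obtain ⟨π, h₁, h₂, hππ, hπx, hπy, hπE, hEπ, hxh₁, hxh₂, hπh₁, hπh₂, hEh₂, hn₁, hn₂⟩ :=
    exists_sep_h (c := c) (q := q) (x := x') hy he hyx hpowq (by omega) hc1 hc2 D.EE hxϖ hyE hK
  have hEh₁ : D.E h₁ = h₁ := by rw [← hπh₁, ← Module.End.mul_apply, hEπ]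
  have hπX : π * D.X = D.X * π := by
    calc π * D.X = (π * D.E) * D.X := by rw [hπE]
      _ = π * (D.E * D.X) := mul_assoc _ _ _
      _ = π * x' := by rw [hEX]
      _ = x' * π := hπx
      _ = D.X * (D.E * π) := mul_assoc _ _ _
      _ = _ := by rw [hEπ]
  have hπUR := hfin π hπE hEπ hπX hπy
  set π' := D.mor π with hπ'
  have hmK : ∀ a ∈ D.K, π' * a = a * π' := fun a ha => D.mor_comm hπE hEπ hπX ha
  have hmR : π' * C.R = C.R * π' := C.mor_R hπE hEπ hπX hπUR hU hU' h2 h3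
  have hmE : π' * D.E = π := D.mor_E hπE hEπ hπX
  have hmT : ∀ t ∈ T, π' * ρ t = ρ t * π' := by
    intro t ht
    obtain ⟨n, h, hh, rfl⟩ := hTgen t ht
    have h7 : ∀ n : ℕ, π' * ρ (t₀ ^ n) = ρ (t₀ ^ n) * π' := by
      intro n
      induction n with
      | zero => simp
      | succ n ih =>
        rw [pow_succ, map_mul]
        calc π' * (ρ (t₀ ^ n) * ρ t₀) = (π' * ρ (t₀ ^ n)) * ρ t₀ := (mul_assoc _ _ _).symm
          _ = ρ (t₀ ^ n) * (π' * ρ t₀) := by rw [ih, mul_assoc]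
          _ = ρ (t₀ ^ n) * (ρ t₀ * π') := by rw [← hR, hmR]
          _ = _ := (mul_assoc _ _ _).symm
    rw [map_mul, ← mul_assoc, hmK _ (hHK h hh), mul_assoc, h7, mul_assoc]
  have hmH : ∀ u ∈ H, π' * ρ u = ρ u * π' := fun u hu => hmK _ (hHK u hu)
  have hmF : π' * opF ρ φ = π' := by rw [hF]; exact D.mor_F
  have hFm : opF ρ φ * π' = π' := by rw [hF]; exact D.F_mor
  -- the vectors
  have hFE : ∀ w, D.E w = w → D.F w = w := by
    intro w hw
    rw [← hw, ← Module.End.mul_apply, D.FE]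
  have hfix : ∀ w, D.E w = w → (x' ^ c) w = 0 → ρ x w = w := by
    intro w hw hc
    have h7 : (D.X ^ c) w = 0 := by
      rw [hx', pow_XE D c hc1, Module.End.mul_apply, hw] at hc
      exact hc
    have h8 : ((ρ x - 1) * D.F) w = 0 := by
      rw [hτ, Module.End.mul_apply, hFE w hw, mul_comm (X ^ c) v, map_mul, map_pow, aeval_X, Module.End.mul_apply, h7,
        map_zero]
    rw [Module.End.mul_apply, hFE w hw] at h8
    have h9 : ρ x w - w = 0 := h8
    exact sub_eq_zero.1 h9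
  have hfix₁ := hfix h₁ hEh₁ hxh₁
  have hfix₂ := hfix h₂ hEh₂ hxh₂
  obtain ⟨a₁, ha₁⟩ := trace_block (p := p) (π := π') hx hφc hmH hmF hFm hHN hSupp T hTN hmT hout hxH hfix₁
    (by rw [hF]; exact hFE _ hEh₁)
  obtain ⟨a₂, ha₂⟩ := trace_block (p := p) (π := π') hx hφc hmH hmF hFm hHN hSupp T hTN hmT hout hxH hfix₂
    (by rw [hF]; exact hFE _ hEh₂)
  have hm₁ : π' h₁ = h₁ := by
    calc π' h₁ = π' (D.E h₁) := by rw [hEh₁]
      _ = (π' * D.E) h₁ := rfl
      _ = π h₁ := by rw [hmE]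
      _ = h₁ := hπh₁
  have hm₂ : π' h₂ = 0 := by
    calc π' h₂ = π' (D.E h₂) := by rw [hEh₂]
      _ = (π' * D.E) h₂ := rfl
      _ = π h₂ := by rw [hmE]
      _ = 0 := hπh₂
  rw [hm₁] at ha₁
  rw [hm₂, smul_zero, sub_zero] at ha₂
  set Ψ := trf ρ H π' with hΨ
  have hΨc : ∀ g, Ψ * ρ g = ρ g * Ψ := fun g => trf_comm hmH g
  obtain ⟨κ, hκ⟩ := hloc Ψ hΨc
  set I : Submodule k V := LinearMap.range (nrm ρ x p * opF ρ φ) with hI
  have hΨF : Ψ * opF ρ φ = opF ρ φ * Ψ := by
    unfold opF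
    rw [Finset.sum_mul, Finset.mul_sum]
    refine Finset.sum_congr rfl fun y _ => ?_
    rw [smul_mul_assoc, mul_smul_comm, hΨc]
  have hΨn : Ψ * nrm ρ x p = nrm ρ x p * Ψ := by
    unfold nrm
    rw [Finset.mul_sum, Finset.sum_mul]
    refine Finset.sum_congr rfl fun i _ => ?_
    rw [← map_pow, hΨc]
  have hIstable : ∀ w ∈ I, (Ψ - κ • 1) w ∈ I := by
    rintro w ⟨u, rfl⟩
    have h7 : (Ψ - κ • 1) ((nrm ρ x p * opF ρ φ) u) = (nrm ρ x p * opF ρ φ) (Ψ u - κ • u) := by
      have h8 : Ψ * (nrm ρ x p * opF ρ φ) = (nrm ρ x p * opF ρ φ) * Ψ := by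
        rw [← mul_assoc, hΨn, mul_assoc, hΨF, mul_assoc]
      have h9 := LinearMap.congr_fun h8 u
      rw [map_sub, map_smul]
      simp only [LinearMap.sub_apply, LinearMap.smul_apply, Module.End.one_apply]
      congr 1
    rw [h7]
    exact ⟨_, rfl⟩
  -- elements of `I` lie in the image of the power of `x'`
  have hI_mem : ∀ w, D.E w = w → w ∈ I → w ∈ LinearMap.range (x' ^ (q - c)) := by
    rintro w hw ⟨u, rfl⟩
    set τ : Module.End k V := ρ x - 1 with hτdef
    set Wv : Module.End k V := aeval D.X (X ^ c * v) with hWv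
    have hτK : τ ∈ D.K := D.K.sub_mem (hHK x hxH) D.K.one_mem
    have hτF : τ * D.F = Wv * D.F := hτ
    have hWK : Wv ∈ D.K := D.aeval_mem _
    have hτW : ∀ n : ℕ, τ * Wv ^ n = Wv ^ n * τ := by
      intro n
      have h7 : τ * Wv = Wv * τ := (D.comm_X (X ^ c * v) hτK)
      exact (Commute.pow_right (show Commute τ Wv from h7) n).eq
    have hpowF : ∀ n : ℕ, τ ^ n * D.F = Wv ^ n * D.F := by
      intro n
      induction n with
      | zero => simp
      | succ n ih =>
        calc τ ^ (n + 1) * D.F = τ * (τ ^ n * D.F) := by rw [pow_succ']; exact mul_assoc _ _ _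
          _ = τ * (Wv ^ n * D.F) := by rw [ih]
          _ = (τ * Wv ^ n) * D.F := (mul_assoc _ _ _).symm
          _ = Wv ^ n * (τ * D.F) := by rw [hτW, mul_assoc]
          _ = Wv ^ n * (Wv * D.F) := by rw [hτF]
          _ = _ := by rw [pow_succ]; exact (mul_assoc _ _ _).symm
    have hyy : yy ρ x = τ := rfl
    have h7 : nrm ρ x p * opF ρ φ = D.X ^ (q - c) * (aeval D.X (v ^ (p - 1)) * D.F) := by
      rw [nrm_eq, hyy, hF, hpowF, hWv, ← map_pow, mul_pow, ← pow_mul, hcp, map_mul, map_pow, aeval_X, mul_assoc]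
    have hqc : 1 ≤ q - c := by omega
    refine ⟨D.E (aeval D.X (v ^ (p - 1)) (D.F u)), ?_⟩
    rw [hx', pow_XE D _ hqc, Module.End.mul_apply, ← Module.End.mul_apply D.E D.E, D.EE]
    rw [← hw, h7]
    simp only [Module.End.mul_apply]
    have h8 : D.E ((D.X ^ (q - c)) ((aeval D.X (v ^ (p - 1))) (D.F u))) =
        (D.X ^ (q - c)) (D.E ((aeval D.X (v ^ (p - 1))) (D.F u))) := by
      exact LinearMap.congr_fun (Commute.pow_right (show Commute D.E D.X from hEX) (q - c)).eq _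
    rw [h8]
  have hn₁' : h₁ ∉ I := fun h => hn₁ (hI_mem _ hEh₁ h)
  have hn₂' : h₂ ∉ I := fun h => hn₂ (hI_mem _ hEh₂ h)
  have hcount' := hcount
  set e₀ : k := ((Finset.univ.filter (fun q : G ⧸ H => q.out ∈ T)).card : k) with he₀
  have hl₁ : e₀ - κ = 0 := by
    refine eig_nil hκ hIstable (w := h₁) ?_ hn₁'
    have h7 : (Ψ - κ • 1) h₁ - (e₀ - κ) • h₁ = (Ψ h₁ - e₀ • h₁) := by
      simp only [LinearMap.sub_apply, LinearMap.smul_apply, Module.End.one_apply, sub_smul]
      abel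
    rw [h7, ha₁]
    exact ⟨a₁, rfl⟩
  have hl₂ : -κ = 0 := by
    refine eig_nil hκ hIstable (w := h₂) ?_ hn₂'
    have h7 : (Ψ - κ • 1) h₂ - (-κ) • h₂ = Ψ h₂ := by
      simp only [LinearMap.sub_apply, LinearMap.smul_apply, Module.End.one_apply, neg_smul]
      abel
    rw [h7, ha₂]
    exact ⟨a₂, rfl⟩
  apply hcount'
  have h7 : κ = 0 := neg_eq_zero.1 hl₂
  rw [h7, sub_zero] at hl₁
  exact hl₁

/-- Counting: subspaces matched by the matrix units have proportional dimensions. -/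
theorem finrank_matched {g q : ℕ} (D : OpData k V g q) (S S' : Submodule k V) (hS : S ≤ LinearMap.range D.E)
    (hS' : S' ≤ LinearMap.range D.F) (hB : ∀ j, ∀ w ∈ S', D.B j w ∈ S) (hA : ∀ j, ∀ w ∈ S, D.A j w ∈ S') :
    finrank k S' = g * finrank k S := by
  classical
  have hEw : ∀ w ∈ S, D.E w = w := by
    intro w hw
    obtain ⟨u, rfl⟩ := hS hw
    rw [← Module.End.mul_apply, D.EE]
  have hFw : ∀ w ∈ S', D.F w = w := by
    intro w hw
    obtain ⟨u, rfl⟩ := hS' hw
    rw [← Module.End.mul_apply, D.FF]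
  let Θ : (Fin g → S) →ₗ[k] S' :=
    { toFun := fun a => ⟨∑ j, D.A j (a j : V), S'.sum_mem fun j _ => hA j _ (a j).2⟩
      map_add' := by
        intro a b
        apply Subtype.ext
        simp [Finset.sum_add_distrib]
      map_smul' := by
        intro r a
        apply Subtype.ext
        simp [Finset.smul_sum] }
  let Θ' : S' →ₗ[k] (Fin g → S) :=
    { toFun := fun w j => ⟨D.B j (w : V), hB j _ w.2⟩
      map_add' := by
        intro a b
        funext j
        apply Subtype.ext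
        simp
      map_smul' := by
        intro r a
        funext j
        apply Subtype.ext
        simp }
  have h1 : ∀ a, Θ' (Θ a) = a := by
    intro a
    funext i
    apply Subtype.ext
    show D.B i (∑ j, D.A j (a j : V)) = a i
    rw [map_sum]
    have h2 : ∀ j, D.B i (D.A j (a j : V)) = if i = j then (a j : V) else 0 := by
      intro j
      rw [← Module.End.mul_apply, D.BA]
      split_ifs
      · exact hEw _ (a j).2
      · simp
    simp [h2]
  have h3 : ∀ w, Θ (Θ' w) = w := by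
    intro w
    apply Subtype.ext
    show ∑ j, D.A j (D.B j (w : V)) = w
    have h4 : ∑ j, D.A j (D.B j (w : V)) = (∑ j, D.A j * D.B j) (w : V) := by
      simp [LinearMap.sum_apply]
    rw [h4, D.AB, hFw _ w.2]
  let L : (Fin g → S) ≃ₗ[k] S' := LinearEquiv.ofLinearMap Θ Θ' (LinearMap.ext h3) (LinearMap.ext h1)
  rw [← L.finrank_eq, Module.finrank_pi_fintype]
  simp

/-- The comparison between the corner and the full image. -/
theorem full_of_corner {g q : ℕ} (D : OpData k V g q)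
    (h : finrank k ↥(LinearMap.ker D.X ⊓ LinearMap.range D.E) ≤
      finrank k ↥((LinearMap.range D.E).map (D.X ^ (q - 1))) + 1) :
    finrank k ↥(LinearMap.ker D.X ⊓ LinearMap.range D.F) ≤
      finrank k ↥((LinearMap.range D.F).map (D.X ^ (q - 1))) + g := by
  have hXA : ∀ j, D.A j * D.X = D.X * D.A j := fun j => D.X_central _ (D.A_mem j)
  have hXB : ∀ j, D.B j * D.X = D.X * D.B j := fun j => D.X_central _ (D.B_mem j)
  have hA_E : ∀ j u, D.F (D.A j u) = D.A j u := by
    intro j u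
    rw [← Module.End.mul_apply, D.F_A]
  have hB_E : ∀ j u, D.E (D.B j u) = D.B j u := by
    intro j u
    rw [← Module.End.mul_apply, D.EB]
  have h1 : finrank k ↥(LinearMap.ker D.X ⊓ LinearMap.range D.F) =
      g * finrank k ↥(LinearMap.ker D.X ⊓ LinearMap.range D.E) := by
    refine finrank_matched D _ _ inf_le_right inf_le_right ?_ ?_
    · rintro j w ⟨hw1, -⟩
      refine ⟨?_, ⟨_, hB_E j w⟩⟩
      have h2 : D.X w = 0 := hw1
      show D.X (D.B j w) = 0
      rw [← Module.End.mul_apply, ← hXB, Module.End.mul_apply, h2, map_zero]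
    · rintro j w ⟨hw1, -⟩
      refine ⟨?_, ⟨_, hA_E j w⟩⟩
      have h2 : D.X w = 0 := hw1
      show D.X (D.A j w) = 0
      rw [← Module.End.mul_apply, ← hXA, Module.End.mul_apply, h2, map_zero]
  have hXpA : ∀ j n, D.A j * D.X ^ n = D.X ^ n * D.A j := fun j n =>
    (Commute.pow_right (show Commute (D.A j) D.X from hXA j) n).eq
  have hXpB : ∀ j n, D.B j * D.X ^ n = D.X ^ n * D.B j := fun j n =>
    (Commute.pow_right (show Commute (D.B j) D.X from hXB j) n).eq
  have h2 : finrank k ↥((LinearMap.range D.F).map (D.X ^ (q - 1))) =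
      g * finrank k ↥((LinearMap.range D.E).map (D.X ^ (q - 1))) := by
    refine finrank_matched D _ _ ?_ ?_ ?_ ?_
    · rintro _ ⟨w, ⟨u, rfl⟩, rfl⟩
      refine ⟨(D.X ^ (q - 1)) (D.E u), ?_⟩
      show D.E ((D.X ^ (q - 1)) (D.E u)) = (D.X ^ (q - 1)) (D.E u)
      rw [← Module.End.mul_apply, ← Module.End.mul_apply]
      have h3 := (Commute.pow_right (show Commute D.E D.X from D.X_central _ D.E_mem) (q - 1)).eq
      rw [h3, Module.End.mul_apply, Module.End.mul_apply, ← Module.End.mul_apply D.E D.E, D.EE]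
    · rintro _ ⟨w, ⟨u, rfl⟩, rfl⟩
      refine ⟨(D.X ^ (q - 1)) (D.F u), ?_⟩
      show D.F ((D.X ^ (q - 1)) (D.F u)) = (D.X ^ (q - 1)) (D.F u)
      rw [← Module.End.mul_apply, ← Module.End.mul_apply]
      have h3 := (Commute.pow_right (show Commute D.F D.X from D.X_central _ D.F_mem) (q - 1)).eq
      rw [h3, Module.End.mul_apply, Module.End.mul_apply, ← Module.End.mul_apply D.F D.F, D.FF]
    · rintro j _ ⟨w, ⟨u, rfl⟩, rfl⟩
      refine ⟨D.B j (D.F u), ⟨D.B j u, ?_⟩, ?_⟩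
      · show D.E (D.B j u) = D.B j (D.F u)
        rw [hB_E, ← Module.End.mul_apply, D.B_F]
      · show (D.X ^ (q - 1)) (D.B j (D.F u)) = D.B j ((D.X ^ (q - 1)) (D.F u))
        exact (LinearMap.congr_fun (hXpB j (q - 1)) (D.F u)).symm
    · rintro j _ ⟨w, ⟨u, rfl⟩, rfl⟩
      refine ⟨D.A j (D.E u), ⟨D.A j u, ?_⟩, ?_⟩
      · show D.F (D.A j u) = D.A j (D.E u)
        rw [hA_E, ← Module.End.mul_apply, D.AE]
      · show (D.X ^ (q - 1)) (D.A j (D.E u)) = D.A j ((D.X ^ (q - 1)) (D.E u))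
        exact (LinearMap.congr_fun (hXpA j (q - 1)) (D.E u)).symm
  rw [h1, h2]
  calc g * finrank k ↥(LinearMap.ker D.X ⊓ LinearMap.range D.E)
      ≤ g * (finrank k ↥((LinearMap.range D.E).map (D.X ^ (q - 1))) + 1) := Nat.mul_le_mul_left _ h
    _ = _ := by ring

end Main

end Cfsg.Agent.Lib.DcK
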