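import Mathlib
import Cfsg.Agent.Lib.DcK
import Cfsg.Agent.Lib.BlockResidue

/-!
# Instantiating the operator data from the block algebra of the centralizer of `u`

`H` a subgroup of `G`, `ρ` a representation of `G`; the linear extension to `k[H]`.
-/

set_option autoImplicit false
set_option linter.unusedSectionVars false
set_option linter.unusedVariables false
set_option linter.unusedSimpArgs false

namespace Cfsg.Agent.Lib.DcOp

open Subgroup Module Polynomial MonoidAlgebra
open Cfsg.Agent.Lib.RangeMod Cfsg.Agent.Lib.DcTrace Cfsg.Agent.Lib.DcMorita Cfsg.Agent.Lib.DcK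
open Cfsg.Agent.Lib.BlockResidue

variable {G : Type*} [Group G] {k W : Type*} [Field k] [AddCommGroup W] [Module k W]

/-- The extension of a representation of `G` to the group algebra of a subgroup. -/
noncomputable def ext (ρ : G →* Module.End k W) (H : Subgroup G) : MonoidAlgebra k H →ₐ[k] Module.End k W :=
  MonoidAlgebra.lift k (Module.End k W) H (ρ.comp H.subtype)

@[simp] theorem ext_single (ρ : G →* Module.End k W) (H : Subgroup G) (h : H) (r : k) :
    ext ρ H (single h r) = r • ρ (h : G) := by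
  unfold ext
  rw [MonoidAlgebra.lift_single]
  rfl

variable [Fintype G] {ρ : G →* Module.End k W} {H : Subgroup G}

theorem ext_eq_sum [Fintype H] (a : MonoidAlgebra k H) : ext ρ H a = ∑ h : H, a.coeff h • ρ (h : G) := by
  conv_lhs => rw [eq_sum_single a]
  rw [map_sum]
  exact Finset.sum_congr rfl fun h _ => ext_single ρ H h _

/-- Conjugation acts on the operators as `domCongr`. -/
theorem conj_ext [Fintype H] {t : G} (τ : H ≃* H) (hτ : ∀ h : H, (τ h : G) = t * h * t⁻¹) (a : MonoidAlgebra k H) :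
    ρ t * ext ρ H a * ρ t⁻¹ = ext ρ H (domCongr k k τ a) := by
  conv_lhs => rw [eq_sum_single a]
  conv_rhs => rw [eq_sum_single a]
  rw [map_sum, map_sum, map_sum, Finset.mul_sum, Finset.sum_mul]
  refine Finset.sum_congr rfl fun h _ => ?_
  rw [domCongr_single, ext_single, ext_single, mul_smul_comm, smul_mul_assoc, hτ, map_mul, map_mul]

theorem conj_ext' [Fintype H] {t : G} (τ : H ≃* H) (hτ : ∀ h : H, (τ h : G) = t * h * t⁻¹) (a : MonoidAlgebra k H) :
    ρ t⁻¹ * ext ρ H a * ρ t = ext ρ H (domCongr k k τ.symm a) := by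
  have h1 := conj_ext (ρ := ρ) τ hτ (domCongr k k τ.symm a)
  have h2 : domCongr k k τ (domCongr k k τ.symm a) = a := by
    rw [← domCongr_symm]
    exact AlgEquiv.apply_symm_apply _ _
  rw [h2] at h1
  rw [← h1]
  have h3 : ρ t⁻¹ * ρ t = 1 := by rw [← map_mul, inv_mul_cancel, map_one]
  have h4 : ρ t⁻¹ * ρ t = 1 := h3
  calc ρ t⁻¹ * (ρ t * ext ρ H (domCongr k k τ.symm a) * ρ t⁻¹) * ρ t
      = (ρ t⁻¹ * ρ t) * ext ρ H (domCongr k k τ.symm a) * (ρ t⁻¹ * ρ t) := by simp only [mul_assoc]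
    _ = _ := by rw [h3]; simp

open scoped Classical in
/-- The function on `G` extending the coefficients of an element of `k[H]` by zero. -/
noncomputable def extF (H : Subgroup G) (f : MonoidAlgebra k H) : G → k := fun y => if h : y ∈ H then f.coeff ⟨y, h⟩ else 0

theorem opF_extF [Fintype H] [DecidableEq G] (f : MonoidAlgebra k H) : opF ρ (extF H f) = ext ρ H f := by
  classical
  rw [ext_eq_sum]
  unfold opF
  have h1 : ∀ y : G, extF H f y • ρ y = if h : y ∈ H then f.coeff ⟨y, h⟩ • ρ y else 0 := by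
    intro y
    unfold extF
    split_ifs <;> simp
  simp_rw [h1]
  set F : G → Module.End k W := fun y => if h : y ∈ H then f.coeff ⟨y, h⟩ • ρ y else 0 with hF
  show ∑ x, F x = _
  have h2 : ∑ x, F x = ∑ x ∈ Finset.univ.filter (· ∈ H), F x := by
    rw [Finset.sum_filter]
    refine Finset.sum_congr rfl fun x _ => ?_
    by_cases hx : x ∈ H
    · rw [if_pos hx]
    · rw [if_neg hx, hF]
      simp [hx]
  rw [h2, Finset.sum_subtype (p := (· ∈ H)) _ (by simp) F]
  refine Finset.sum_congr rfl fun h _ => ?_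
  simp only [hF]
  rw [dif_pos h.2]


section Main

variable {p : ℕ} [hp : Fact p.Prime] [DecidableEq G] [IsAlgClosed k] [CharP k p] [FiniteDimensional k W]

open scoped Classical in
/-- **The bound on the image of the block idempotent.** -/
theorem op_bound {g q c : ℕ} (ρ : G →* Module.End k W) (H : Subgroup G) [Fintype H] [Fintype (G ⧸ H)]
    (f ε x : MonoidAlgebra k H) (X' Y' : Fin g → MonoidAlgebra k H) (ζ : k) (v : k[X]) (u t₀ : G) (e : ℕ)
    (hεε : ε * ε = ε) (hff : f * f = f) (hεf : ε * f = ε) (hfε : f * ε = ε)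
    (hfc : ∀ a, f * a = a * f) (hxc : ∀ a, x * a = a * x) (hxf : x * f = x)
    (hYX : ∀ i j, Y' i * X' j = if i = j then ε else 0) (hXY : ∑ j, X' j * Y' j = f)
    (hXε : ∀ j, X' j * ε = X' j) (hεY : ∀ j, ε * Y' j = Y' j)
    (hcor : ∀ a, ∃ c : k[X], ε * a * ε = aeval x c * ε) (hxq : x ^ q = 0)
    (τ : H ≃* H) (hτ : ∀ h : H, (τ h : G) = t₀ * h * t₀⁻¹)
    (hσx : domCongr k k τ x = ζ • x) (hσf : domCongr k k τ f = f) (hζ : ζ ≠ 0)
    (hu : orderOf u = p) (huH' : u ∈ H)
    (hHN : H ≤ normalizer (zpowers u : Set G))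
    (hSupp : ∀ (y : H) (g : G), f.coeff y ≠ 0 → g⁻¹ * u * g ∈ H → (g⁻¹ * u * g) * (y : G) = (y : G) * (g⁻¹ * u * g) →
      g ∈ normalizer (zpowers u : Set G))
    (T : Subgroup G) (hTN : T ≤ normalizer (zpowers u : Set G))
    (hTgen : ∀ t ∈ T, ∃ n : ℕ, ∃ h ∈ H, t = h * t₀ ^ n)
    (hout : ∀ (g : G) (τ' : H ≃* H), (∀ h : H, (τ' h : G) = g * h * g⁻¹) → g ∈ normalizer (zpowers u : Set G) → g ∉ T →
      f * domCongr k k τ' f = 0)
    (hconj : ∀ g ∈ normalizer (zpowers u : Set G), ∃ τ' : H ≃* H, ∀ h : H, (τ' h : G) = g * h * g⁻¹)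
    (he1 : 1 ≤ e) (he : (e : k) ≠ 0) (hte : t₀ ^ e ∈ H)
    (hcount : ((Finset.univ.filter (fun q : G ⧸ H => q.out ∈ T)).card : k) ≠ 0)
    (hloc : ∀ Ψ : Module.End k W, (∀ g, Ψ * ρ g = ρ g * Ψ) → ∃ κ : k, IsNilpotent (Ψ - κ • 1))
    (hrel : (single (⟨u, huH'⟩ : H) (1 : k) - 1) * f = aeval x (X ^ c * v) * f)
    (hc1 : 1 ≤ c) (hcp : c * (p - 1) = q - c) (hc2 : 2 * c ≤ q) :
    finrank k ↥(LinearMap.ker (ext ρ H x) ⊓ LinearMap.range (ext ρ H f)) ≤
      finrank k ↥((LinearMap.range (ext ρ H f)).map (ext ρ H x ^ (q - 1))) + g := by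
  classical
  let D : OpData k W g q :=
    { K := (ext ρ H).range
      E := ext ρ H ε
      F := ext ρ H f
      X := ext ρ H x
      A := fun j => ext ρ H (X' j)
      B := fun j => ext ρ H (Y' j)
      E_mem := ⟨ε, rfl⟩
      F_mem := ⟨f, rfl⟩
      X_mem := ⟨x, rfl⟩
      A_mem := fun j => ⟨X' j, rfl⟩
      B_mem := fun j => ⟨Y' j, rfl⟩
      EE := by rw [← map_mul, hεε]
      FF := by rw [← map_mul, hff]
      EF := by rw [← map_mul, hεf]
      FE := by rw [← map_mul, hfε]
      F_central := by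
        rintro _ ⟨a, rfl⟩
        show ext ρ H a * ext ρ H f = ext ρ H f * ext ρ H a
        rw [← map_mul, ← map_mul, hfc]
      X_central := by
        rintro _ ⟨a, rfl⟩
        show ext ρ H a * ext ρ H x = ext ρ H x * ext ρ H a
        rw [← map_mul, ← map_mul, hxc]
      XF := by rw [← map_mul, hxf]
      BA := fun i j => by
        rw [← map_mul, hYX]
        split_ifs <;> simp
      AB := by
        rw [← hXY, map_sum]
        exact Finset.sum_congr rfl fun j _ => (map_mul _ _ _).symm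
      AE := fun j => by rw [← map_mul, hXε]
      EB := fun j => by rw [← map_mul, hεY]
      corner := by
        rintro _ ⟨a, rfl⟩
        obtain ⟨c', hc'⟩ := hcor a
        refine ⟨c', ?_⟩
        show ext ρ H ε * ext ρ H a * ext ρ H ε = aeval (ext ρ H x) c' * ext ρ H ε
        rw [← map_mul, ← map_mul, hc', map_mul, Polynomial.aeval_algHom_apply]
      nil := by
        show (ext ρ H x) ^ q * ext ρ H ε = 0
        rw [← map_pow, ← map_mul, hxq, zero_mul, map_zero] }
  have hR1 : ρ t₀ * ρ t₀⁻¹ = 1 := by rw [← map_mul, mul_inv_cancel, map_one]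
  have hR2 : ρ t₀⁻¹ * ρ t₀ = 1 := by rw [← map_mul, inv_mul_cancel, map_one]
  let C : D.ConjData :=
    { R := ρ t₀
      R' := ρ t₀⁻¹
      ζ := ζ
      RR' := hR1
      R'R := hR2
      stab := by
        rintro _ ⟨a, rfl⟩
        exact ⟨domCongr k k τ a, (conj_ext τ hτ a).symm⟩
      stab' := by
        rintro _ ⟨a, rfl⟩
        exact ⟨domCongr k k τ.symm a, (conj_ext' τ hτ a).symm⟩
      RX := by
        show ρ t₀ * ext ρ H x * ρ t₀⁻¹ = ζ • ext ρ H x
        rw [conj_ext τ hτ, hσx, map_smul]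
      RF := by
        show ρ t₀ * ext ρ H f * ρ t₀⁻¹ = ext ρ H f
        rw [conj_ext τ hτ, hσf]
      hζ := hζ }
  have hφc : ∀ h ∈ H, ∀ y, extF H f (h * y * h⁻¹) = extF H f y := by
    intro h hh y
    unfold extF
    by_cases hy : y ∈ H
    · have h1 : h * y * h⁻¹ ∈ H := H.mul_mem (H.mul_mem hh hy) (H.inv_mem hh)
      rw [dif_pos hy, dif_pos h1]
      have h2 := class_of_central hfc ⟨y, hy⟩ ⟨h, hh⟩
      rw [← h2]
      rfl
    · have h1 : h * y * h⁻¹ ∉ H := by
        intro h3
        apply hy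
        have h4 := H.mul_mem (H.mul_mem (H.inv_mem hh) h3) hh
        have h5 : h⁻¹ * (h * y * h⁻¹) * h = y := by group
        rwa [h5] at h4
      rw [dif_neg hy, dif_neg h1]
  have hb := corner_bound (p := p) (c := c) D C ρ H (extF H f) u t₀ e (opF_extF f)
    (by
      intro h hh
      refine ⟨single ⟨h, hh⟩ 1, ?_⟩
      show ext ρ H _ = _
      rw [ext_single, one_smul])
    rfl rfl hu huH' hφc hHN
    (by
      intro y g hy h1 h2
      have hyH : y ∈ H := by
        by_contra hne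
        apply hy
        unfold extF
        rw [dif_neg hne]
      have h3 : f.coeff ⟨y, hyH⟩ ≠ 0 := by
        unfold extF at hy
        rwa [dif_pos hyH] at hy
      exact hSupp ⟨y, hyH⟩ g h3 h1 h2)
    T hTN hTgen
    (by
      intro g hg hgT
      obtain ⟨τ', hτ'⟩ := hconj g hg
      rw [opF_extF, conj_ext τ' hτ', ← map_mul, hout g τ' hτ' hg hgT, map_zero])
    he1 he
    (by
      show (ρ t₀) ^ e ∈ (ext ρ H).range
      refine ⟨single ⟨t₀ ^ e, hte⟩ 1, ?_⟩
      show ext ρ H _ = _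
      rw [ext_single, one_smul, map_pow])
    hcount hloc v
    (by
      show (ρ u - 1) * ext ρ H f = aeval (ext ρ H x) (X ^ c * v) * ext ρ H f
      rw [Polynomial.aeval_algHom_apply, ← map_mul, ← hrel, map_mul, map_sub, ext_single, one_smul, map_one])
    hc1 hcp hc2
  exact full_of_corner D hb

end Main

end Cfsg.Agent.Lib.DcOp
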