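import Mathlib

/-!
# Valuation subrings of an algebraically closed field

Monic polynomials split; the residue field is algebraically closed; local idempotent dichotomy in an
`A`-algebra finite over `A`; extracting an `A`-basis from a finite family of vectors over the fraction field;
dimension of the reduction of a subspace.
-/

set_option autoImplicit false
set_option linter.unusedSectionVars false
set_option linter.unusedVariables false

namespace Cfsg.Agent.Lib.RangeVal

open Polynomial Module

variable {K : Type*} [Field K] (A : ValuationSubring K)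

/-- The residue map. -/
noncomputable abbrev res : A →+* IsLocalRing.ResidueField A := IsLocalRing.residue A

variable {A}

theorem res_eq_zero_iff {a : A} : res A a = 0 ↔ ¬ IsUnit a := by
  rw [res, IsLocalRing.residue_eq_zero_iff, IsLocalRing.mem_maximalIdeal, mem_nonunits_iff]

theorem mem_of_isIntegral {z : K} (h : IsIntegral A z) : z ∈ A := by
  obtain ⟨a, rfl⟩ := IsIntegrallyClosed.isIntegral_iff.1 h
  exact a.2

variable [IsAlgClosed K]

theorem exists_factor (n : ℕ) (p : A[X]) (hp : p.Monic) (hn : p.natDegree = n) :
    ∃ s : Multiset A, p = (s.map (fun a => X - C a)).prod := by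
  induction n generalizing p with
  | zero =>
    refine ⟨0, ?_⟩
    simpa using hp.natDegree_eq_zero.1 hn
  | succ n ih =>
    have hdeg : (p.map (algebraMap A K)).degree ≠ 0 := by
      rw [degree_map_eq_of_injective (IsFractionRing.injective A K), degree_eq_natDegree hp.ne_zero, hn]
      exact_mod_cast Nat.succ_ne_zero n
    obtain ⟨z, hz⟩ := IsAlgClosed.exists_root _ hdeg
    have hint : IsIntegral A z := ⟨p, hp, by simpa [IsRoot, eval_map] using hz⟩
    have hzA := mem_of_isIntegral hint
    let a : A := ⟨z, hzA⟩
    have hroot : p.IsRoot a := by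
      have : (algebraMap A K) (p.eval a) = 0 := by
        rw [← eval_map_apply] 
        simpa [IsRoot] using hz
      have h2 : p.eval a = 0 := by
        exact (IsFractionRing.injective A K) (by simpa using this)
      exact h2
    obtain ⟨q, hq⟩ := dvd_iff_isRoot.2 hroot
    have hqm : q.Monic := by
      have := hp
      rw [hq] at this
      exact (monic_X_sub_C a).of_mul_monic_left this
    have hqd : q.natDegree = n := by
      have h1 : p.natDegree = (X - C a).natDegree + q.natDegree := by
        rw [hq]; exact (monic_X_sub_C a).natDegree_mul hqm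
      rw [natDegree_X_sub_C, hn] at h1
      omega
    obtain ⟨s, hs⟩ := ih q hqm hqd
    refine ⟨a ::ₘ s, ?_⟩
    rw [Multiset.map_cons, Multiset.prod_cons, ← hs, hq]

instance instAlgClosedRes : IsAlgClosed (IsLocalRing.ResidueField A) := by
  refine IsAlgClosed.of_exists_root _ fun q hq hi => ?_
  have hsurj : Function.Surjective (res A) := IsLocalRing.residue_surjective
  have hl : q ∈ Polynomial.lifts (res A) := (Polynomial.lifts_iff_coeff_lifts q).2 fun n => hsurj _
  obtain ⟨p, hp, hpd, hpm⟩ := Polynomial.lifts_and_natDegree_eq_and_monic hl hq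
  obtain ⟨s, hs⟩ := exists_factor (A := A) _ p hpm rfl
  have hd : 0 < q.natDegree := hi.natDegree_pos
  have hs0 : s ≠ 0 := by
    rintro rfl
    rw [Multiset.map_zero, Multiset.prod_zero] at hs
    rw [hs] at hpd
    simp at hpd
    omega
  obtain ⟨a, ha⟩ := Multiset.exists_mem_of_ne_zero hs0
  refine ⟨res A a, ?_⟩
  have hroot : p.eval a = 0 := by
    rw [hs, eval_multiset_prod]
    apply Multiset.prod_eq_zero
    refine Multiset.mem_map.2 ⟨X - C a, Multiset.mem_map_of_mem _ ha, ?_⟩
    simp
  rw [← hp, eval_map, eval₂_hom, hroot, map_zero]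

section Local

variable {Λ : Type*} [Ring Λ] [Algebra A Λ]

theorem commute_aeval {e c : Λ} (h : Commute e c) (q : A[X]) : Commute e (aeval c q) := by
  induction q using Polynomial.induction_on with
  | C a =>
    rw [aeval_C]
    exact (Algebra.commutes a e).symm
  | add p q hp hq =>
    rw [map_add]
    exact hp.add_right hq
  | monomial n a ih =>
    rw [map_mul, map_pow, aeval_X, aeval_C]
    exact (show Commute e (algebraMap A Λ a) from (Algebra.commutes a e).symm).mul_right (h.pow_right _)

theorem isCoprime_X_sub {a b : A} (ha : ¬ IsUnit a) (hb : IsUnit b) :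
    IsCoprime (X - C a : A[X]) (X - C b) := by
  have hu : IsUnit (b - a) := by
    have : b - a ∉ IsLocalRing.maximalIdeal A := by
      intro h
      apply (IsLocalRing.mem_maximalIdeal b).1 ?_ hb
      have h2 : a ∈ IsLocalRing.maximalIdeal A := ha
      have := Ideal.add_mem _ h h2
      simpa using this
    simpa [IsLocalRing.mem_maximalIdeal] using this
  obtain ⟨w, hw⟩ := hu
  refine ⟨C (↑w⁻¹ : A), - C (↑w⁻¹ : A), ?_⟩
  have : C ((↑w⁻¹ : A)) * (X - C a) + -C ((↑w⁻¹ : A)) * (X - C b) = C ((↑w⁻¹ : A) * (b - a)) := by
    rw [C_mul, C_sub]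
    ring
  rw [this, ← hw]
  simp

theorem isCoprime_prod_prod (s t : Multiset A) (hs : ∀ a ∈ s, ¬ IsUnit a) (ht : ∀ b ∈ t, IsUnit b) :
    IsCoprime ((X : A[X]) * (s.map (fun a => X - C a)).prod) (t.map (fun a => X - C a)).prod := by
  have h1 : ∀ b ∈ t, IsCoprime ((X : A[X]) * (s.map (fun a => X - C a)).prod) (X - C b) := by
    intro b hb
    apply IsCoprime.mul_left
    · have := isCoprime_X_sub (A := A) (a := 0) (b := b) (by simp) (ht b hb)
      simpa using this
    · induction s using Multiset.induction_on with
      | empty => simpa using isCoprime_one_left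
      | cons a s ih =>
        rw [Multiset.map_cons, Multiset.prod_cons]
        exact IsCoprime.mul_left (isCoprime_X_sub (hs a (Multiset.mem_cons_self a s)) (ht b hb))
          (ih fun c hc => hs c (Multiset.mem_cons_of_mem hc))
  induction t using Multiset.induction_on with
  | empty => simpa using isCoprime_one_right
  | cons b t ih =>
    rw [Multiset.map_cons, Multiset.prod_cons]
    exact IsCoprime.mul_right (h1 b (Multiset.mem_cons_self b t))
      (ih (fun c hc => ht c (Multiset.mem_cons_of_mem hc)) fun c hc => h1 c (Multiset.mem_cons_of_mem hc))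

/-- **Local dichotomy.** For a corner-primitive idempotent `e` and `c ∈ e Λ e`: either `c` has a left inverse in the
corner, or `c` is killed by a polynomial congruent to a power of `X` modulo the maximal ideal. -/
theorem local_dichotomy [Module.Finite A Λ] {e : Λ} (he : e * e = e)
    (hprim : ∀ f : Λ, f * f = f → e * f = f → f * e = f → f = 0 ∨ f = e) {c : Λ}
    (h1 : e * c = c) (h2 : c * e = c) :
    (∃ d, d * c = e) ∨ ∃ (g : A[X]) (m : ℕ), aeval c g = 0 ∧ g.map (res A) = X ^ m := by
  classical
  have hec : Commute e c := h1.trans h2.symm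
  have hint : IsIntegral A c := Algebra.IsIntegral.isIntegral c
  obtain ⟨p, hpm, hp⟩ := hint
  have hp0 : aeval c p = 0 := hp
  obtain ⟨s, hs⟩ := exists_factor (A := A) _ p hpm rfl
  set s₀ := s.filter (fun a => ¬ IsUnit a) with hs₀
  set s₁ := s.filter (fun a => IsUnit a) with hs₁
  set g₁ : A[X] := (s₀.map (fun a => X - C a)).prod with hg₁
  set g : A[X] := X * g₁ with hg
  set h : A[X] := (s₁.map (fun a => X - C a)).prod with hh
  have hgh : g * h = X * p := by
    rw [hg, hs, mul_assoc]
    congr 1
    rw [hg₁, hh, ← Multiset.prod_add, ← Multiset.map_add, hs₀, hs₁, add_comm, Multiset.filter_add_not]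
  have hgh0 : aeval c (g * h) = 0 := by
    rw [hgh, map_mul, hp0, mul_zero]
  have hcop : IsCoprime g h :=
    isCoprime_prod_prod s₀ s₁ (fun a ha => (Multiset.mem_filter.1 ha).2) (fun a ha => (Multiset.mem_filter.1 ha).2)
  obtain ⟨u, v, huv⟩ := hcop
  set U : Λ := aeval c (u * g) with hU
  have hU2 : U * U = U := by
    have h3 : u * g * (u * g) = u * g - u * v * (g * h) := by
      have : u * g = u * g * 1 := (mul_one _).symm
      calc u * g * (u * g) = u * g * (1 - v * h) := by rw [← huv]; ring
        _ = _ := by ring
    rw [hU, ← map_mul, h3, map_sub, map_mul (aeval c) (u * v), hgh0, mul_zero, sub_zero]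
  have heU : Commute e U := commute_aeval hec _
  set f : Λ := e * U with hf
  have hff : f * f = f := by
    calc f * f = e * (U * e) * U := by rw [hf]; noncomm_ring
      _ = e * (e * U) * U := by rw [heU.eq]
      _ = (e * e) * (U * U) := by noncomm_ring
      _ = f := by rw [he, hU2]
  have hef : e * f = f := by rw [hf, ← mul_assoc, he]
  have hfe : f * e = f := by
    rw [hf, mul_assoc, ← heU.eq, ← mul_assoc, he]
  rcases hprim f hff hef hfe with h0 | h0
  · -- `f = 0`
    right
    refine ⟨g, 1 + Multiset.card s₀, ?_, ?_⟩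
    · have h3 : g = u * g * g + v * h * g := by
        calc g = (u * g + v * h) * g := by rw [huv, one_mul]
          _ = _ := by ring
      have h4 : aeval c g = U * aeval c g := by
        conv_lhs => rw [h3]
        have h5 : v * h * g = v * (g * h) := by ring
        rw [map_add, h5, map_mul (aeval c) v, hgh0, mul_zero, add_zero, map_mul]
      have h6 : e * aeval c g = 0 := by
        rw [h4, ← mul_assoc]
        change f * aeval c g = 0
        rw [h0, zero_mul]
      have h7 : aeval c g = c * aeval c g₁ := by
        rw [hg, map_mul, aeval_X]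
      calc aeval c g = e * aeval c g := by
            rw [h7, ← mul_assoc, h1]
        _ = 0 := h6
    · rw [hg, Polynomial.map_mul, map_X, hg₁, Polynomial.map_multiset_prod, Multiset.map_map]
      have : Multiset.map ((Polynomial.map (res A)) ∘ fun a => X - C a) s₀ = Multiset.map (fun _ => (X : (IsLocalRing.ResidueField A)[X])) s₀ := by
        apply Multiset.map_congr rfl
        intro a ha
        have h8 : res A a = 0 := res_eq_zero_iff.2 (Multiset.mem_filter.1 ha).2
        simp [h8]
      rw [this, Multiset.map_const', Multiset.prod_replicate, pow_add, pow_one]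
  · -- `f = e`
    left
    refine ⟨e * aeval c (u * g₁), ?_⟩
    have h3 : u * g = u * g₁ * X := by rw [hg]; ring
    have h4 : aeval c (u * g₁) * c = U := by
      rw [hU, h3, map_mul (aeval c) (u * g₁) X, aeval_X]
    rw [mul_assoc, h4]
    exact h0

end Local

section Basis

variable {W : Type*} [AddCommGroup W] [Module K W]

/-- Among finitely many elements of `K`, not all zero, choose one dividing all others in `A`. -/
theorem exists_max_coeff {ι : Type*} (S : Finset ι) (l : ι → K) {i₀ : ι} (hS : i₀ ∈ S) (hi₀ : l i₀ ≠ 0) :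
    ∃ j ∈ S, l j ≠ 0 ∧ ∀ i ∈ S, l i / l j ∈ A := by
  obtain ⟨j, hjS, hj⟩ := Finset.exists_max_image S (fun i => A.valuation (l i)) ⟨i₀, hS⟩
  have hne : l j ≠ 0 := by
    intro h
    have h1 := hj i₀ hS
    rw [h, map_zero] at h1
    have h2 : A.valuation (l i₀) ≠ 0 := (Valuation.ne_zero_iff _).2 hi₀
    exact h2 (le_antisymm h1 zero_le)
  refine ⟨j, hjS, hne, fun i hi => ?_⟩
  rw [← ValuationSubring.valuation_le_one_iff, map_div₀]
  have h3 : A.valuation (l j) ≠ 0 := (Valuation.ne_zero_iff _).2 hne
  exact (div_le_one₀ (zero_lt_iff.2 h3)).2 (hj i hi)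

/-- Extract an `A`-basis from a finite family. -/
theorem exists_basis_subfamily {ι : Type*} [Fintype ι] [DecidableEq ι] (b : ι → W) :
    ∃ S : Finset ι, (∀ f : ι → K, ∑ i ∈ S, f i • b i = 0 → ∀ i ∈ S, f i = 0) ∧
      ∀ i, ∃ c : ι → A, b i = ∑ s ∈ S, (c s : K) • b s := by
  classical
  let PP : Finset ι → Prop := fun S => ∀ i, ∃ c : ι → A, b i = ∑ s ∈ S, (c s : K) • b s
  have huniv : PP Finset.univ := by
    intro i
    refine ⟨fun s => if s = i then 1 else 0, ?_⟩
    rw [Finset.sum_eq_single i]
    · simp
    · intro s _ hs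
      simp [hs]
    · simp
  have hex : (Finset.univ.filter PP).Nonempty := ⟨Finset.univ, by simpa using huniv⟩
  obtain ⟨S, hS, hmin⟩ := Finset.exists_min_image _ Finset.card hex
  have hSP : PP S := (Finset.mem_filter.1 hS).2
  refine ⟨S, ?_, hSP⟩
  by_contra hnot
  push Not at hnot
  obtain ⟨l, hl, i₀, hi₀S, hi₀⟩ := hnot
  obtain ⟨j, hjS, hj, hc⟩ := exists_max_coeff (A := A) S l hi₀S hi₀
  -- `b j` in terms of the others
  have hbj : b j = - ∑ s ∈ S.erase j, (l s / l j) • b s := by
    have h1 : ∑ s ∈ S, (l s / l j) • b s = 0 := by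
      have : ∑ s ∈ S, (l s / l j) • b s = (l j)⁻¹ • ∑ s ∈ S, l s • b s := by
        rw [Finset.smul_sum]
        refine Finset.sum_congr rfl fun s _ => ?_
        rw [smul_smul, div_eq_inv_mul]
      rw [this, hl, smul_zero]
    rw [← Finset.add_sum_erase _ _ hjS, div_self hj, one_smul] at h1
    exact eq_neg_of_add_eq_zero_left h1
  -- the smaller set
  have hlt : (S.erase j).card < S.card := Finset.card_erase_lt_of_mem hjS
  have hP' : PP (S.erase j) := by
    intro i
    obtain ⟨c, hci⟩ := hSP i
    let cc : ι → K := fun s => (c s : K) - (c j : K) * (l s / l j)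
    have hccA : ∀ s ∈ S, cc s ∈ A := fun s hs => by
      simp only [cc]
      rw [sub_eq_add_neg]
      exact A.add_mem _ _ (c s).2 (A.neg_mem _ (A.mul_mem _ _ (c j).2 (hc s hs)))
    refine ⟨fun s => if hs : s ∈ S then ⟨cc s, hccA s hs⟩ else 0, ?_⟩
    have h3 : b i = ∑ s ∈ S.erase j, cc s • b s := by
      rw [hci, ← Finset.add_sum_erase _ _ hjS]
      conv_lhs => rw [hbj]
      simp only [cc, sub_smul, Finset.sum_sub_distrib, smul_neg, Finset.smul_sum, smul_smul]
      abel
    rw [h3]
    refine Finset.sum_congr rfl fun s hs => ?_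
    have hsS := Finset.mem_of_mem_erase hs
    simp [hsS]
  exact absurd (hmin _ (Finset.mem_filter.2 ⟨Finset.mem_univ _, hP'⟩)) (not_le.2 hlt)

end Basis

section Reduction

variable {I : Type*} [Fintype I] [DecidableEq I]

/-- Lift to `K`. -/
def lft (v : I → A) : I → K := fun i => (v i : K)

/-- Reduce to the residue field. -/
noncomputable def rdc (v : I → A) : I → IsLocalRing.ResidueField A := fun i => res A (v i)

@[simp] theorem lft_apply (v : I → A) (i : I) : lft v i = (v i : K) := rfl

@[simp] theorem rdc_apply (v : I → A) (i : I) : rdc v i = res A (v i) := rfl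

variable (A) in
/-- The reduction of a subspace. -/
noncomputable def redSub (U : Submodule K (I → K)) : Submodule (IsLocalRing.ResidueField A) (I → IsLocalRing.ResidueField A) where
  carrier := {w | ∃ v : I → A, lft v ∈ U ∧ rdc v = w}
  add_mem' := by
    rintro _ _ ⟨v, hv, rfl⟩ ⟨v', hv', rfl⟩
    refine ⟨v + v', ?_, ?_⟩
    · have : lft (v + v') = lft v + lft v' := by
        ext i; simp
      rw [this]
      exact U.add_mem hv hv'
    · ext i; simp
  zero_mem' := ⟨0, by
    have : lft (0 : I → A) = 0 := by ext i; simp
    rw [this]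
    exact U.zero_mem, by ext i; simp⟩
  smul_mem' := by
    rintro c _ ⟨v, hv, rfl⟩
    obtain ⟨a, rfl⟩ := IsLocalRing.residue_surjective c
    refine ⟨fun i => a * v i, ?_, ?_⟩
    · have : lft (fun i => a * v i) = (a : K) • lft v := by
        ext i; simp
      rw [this]
      exact U.smul_mem _ hv
    · ext i; simp

theorem mem_redSub {U : Submodule K (I → K)} {w} : w ∈ redSub A U ↔ ∃ v : I → A, lft v ∈ U ∧ rdc v = w := Iff.rfl

/-- Vectors independent modulo the maximal ideal are independent over `K`. -/
theorem linearIndependent_of_rdc {J : Type*} [Fintype J] (v : J → I → A) (h : LinearIndependent (IsLocalRing.ResidueField A) (fun j => rdc (v j))) :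
    LinearIndependent K (fun j => lft (v j)) := by
  classical
  rw [Fintype.linearIndependent_iff] at h ⊢
  intro l hl j₀
  by_contra hj₀
  obtain ⟨j, -, hj, hc⟩ := exists_max_coeff (A := A) Finset.univ l (Finset.mem_univ j₀) hj₀
  let c : J → A := fun i => ⟨l i / l j, hc i (Finset.mem_univ i)⟩
  have h1 : ∑ i, (c i : K) • lft (v i) = 0 := by
    have : ∑ i, (c i : K) • lft (v i) = (l j)⁻¹ • ∑ i, l i • lft (v i) := by
      rw [Finset.smul_sum]
      refine Finset.sum_congr rfl fun i _ => ?_
      rw [smul_smul]
      simp [c, div_eq_inv_mul]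
    rw [this, hl, smul_zero]
  have h2 : ∑ i, res A (c i) • rdc (v i) = 0 := by
    ext t
    have h3 := congrFun h1 t
    simp only [Finset.sum_apply, Pi.smul_apply, smul_eq_mul, lft_apply, Pi.zero_apply] at h3
    have h4 : ∑ i, c i * v i t = 0 := by
      apply Subtype.ext
      simpa using h3
    have h5 := congrArg (res A) h4
    simpa using h5
  have h6 := h _ h2 j
  have h7 : c j = 1 := by
    apply Subtype.ext
    simp [c, div_self hj]
  rw [h7, map_one] at h6
  exact one_ne_zero h6

theorem finrank_redSub_le (U : Submodule K (I → K)) :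
    finrank (IsLocalRing.ResidueField A) (redSub A U) ≤ finrank K U := by
  classical
  let bs := Module.finBasis (IsLocalRing.ResidueField A) (redSub A U)
  have hv : ∀ j, ∃ v : I → A, lft v ∈ U ∧ rdc v = (bs j : I → IsLocalRing.ResidueField A) := fun j => (bs j).2
  choose v hv1 hv2 using hv
  have hli : LinearIndependent (IsLocalRing.ResidueField A) (fun j => rdc (v j)) := by
    have h0 : (fun j => rdc (v j)) = (Submodule.subtype (redSub A U)) ∘ bs := by
      funext j
      show rdc (v j) = _
      rw [hv2]
      rfl
    rw [h0]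
    exact bs.linearIndependent.map' _ (Submodule.ker_subtype _)
  have hli2 := linearIndependent_of_rdc (K := K) v hli
  let vv : Fin (finrank (IsLocalRing.ResidueField A) (redSub A U)) → U := fun j => ⟨lft (v j), hv1 j⟩
  have hli3 : LinearIndependent K vv := by
    apply LinearIndependent.of_comp U.subtype
    exact hli2
  have := hli3.fintype_card_le_finrank
  simpa using this

theorem exists_independent_of_finrank (d : ℕ) (U : Submodule K (I → K)) (hd : finrank K U = d) :
    ∃ v : Fin d → I → A, (∀ j, lft (v j) ∈ U) ∧ LinearIndependent (IsLocalRing.ResidueField A) (fun j => rdc (v j)) := by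
  classical
  induction d generalizing U with
  | zero =>
    exact ⟨Fin.elim0, fun j => j.elim0, linearIndependent_empty_type⟩
  | succ d ih =>
    have hne : U ≠ ⊥ := by
      rintro rfl
      simp at hd
    obtain ⟨u, hu, hu0⟩ := Submodule.exists_mem_ne_zero_of_ne_bot hne
    obtain ⟨i₁, hi₁⟩ : ∃ i, u i ≠ 0 := by
      by_contra h
      push Not at h
      exact hu0 (funext h)
    obtain ⟨i₀, -, hi₀, hc⟩ := exists_max_coeff (A := A) Finset.univ u (Finset.mem_univ i₁) hi₁
    let v₀ : I → A := fun i => ⟨u i / u i₀, hc i (Finset.mem_univ i)⟩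
    have hv₀U : lft v₀ ∈ U := by
      have : lft v₀ = (u i₀)⁻¹ • u := by
        ext i
        simp [v₀, div_eq_inv_mul]
      rw [this]
      exact U.smul_mem _ hu
    have hv₀i : lft v₀ i₀ = 1 := by
      simp [v₀, div_self hi₀]
    let H : Submodule K (I → K) := LinearMap.ker (LinearMap.proj (R := K) (φ := fun _ : I => K) i₀)
    set U' := U ⊓ H with hU'
    have hsup : U' ⊔ Submodule.span K {lft v₀} = U := by
      apply le_antisymm
      · refine sup_le inf_le_left ?_
        rw [Submodule.span_singleton_le_iff_mem]
        exact hv₀U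
      · intro w hw
        refine Submodule.mem_sup.2 ⟨w - w i₀ • lft v₀, ?_, w i₀ • lft v₀, ?_, by simp⟩
        · refine ⟨U.sub_mem hw (U.smul_mem _ hv₀U), ?_⟩
          show w i₀ - w i₀ • lft v₀ i₀ = 0
          rw [hv₀i]
          simp
        · exact Submodule.smul_mem _ _ (Submodule.mem_span_singleton_self _)
    have hinf : U' ⊓ Submodule.span K {lft v₀} = ⊥ := by
      rw [eq_bot_iff]
      rintro w ⟨hw1, hw2⟩
      obtain ⟨c, rfl⟩ := Submodule.mem_span_singleton.1 hw2
      have h1 : c * lft v₀ i₀ = 0 := hw1.2
      rw [hv₀i, mul_one] at h1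
      rw [h1, zero_smul]
      exact Submodule.zero_mem _
    have hfr := Submodule.finrank_sup_add_finrank_inf_eq U' (Submodule.span K {lft v₀})
    have hv₀ne : lft v₀ ≠ 0 := by
      intro h
      rw [h] at hv₀i
      simp at hv₀i
    rw [hsup, hinf, finrank_bot, finrank_span_singleton hv₀ne, add_zero, hd] at hfr
    have hd' : finrank K U' = d := by omega
    obtain ⟨w, hw1, hw2⟩ := ih U' hd'
    refine ⟨Fin.cons v₀ w, ?_, ?_⟩
    · intro j
      refine Fin.cases ?_ (fun j => ?_) j
      · simpa using hv₀U
      · simpa using (hw1 j).1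
    · have h0 : (fun j => rdc ((Fin.cons v₀ w : Fin (d + 1) → I → A) j)) = Fin.cons (rdc v₀) (fun j => rdc (w j)) := by
        ext j t
        refine Fin.cases ?_ (fun j => ?_) j <;> simp
      rw [h0, linearIndependent_finCons]
      refine ⟨hw2, ?_⟩
      intro hmem
      -- all `w j` vanish at `i₀`
      have hzero : ∀ z ∈ Submodule.span (IsLocalRing.ResidueField A) (Set.range fun j => rdc (w j)), z i₀ = 0 := by
        intro z hz
        induction hz using Submodule.span_induction with
        | mem z hz =>
          obtain ⟨j, rfl⟩ := hz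
          have h1 : lft (w j) i₀ = 0 := (hw1 j).2
          have h2 : w j i₀ = 0 := Subtype.ext (by simpa using h1)
          simp [h2]
        | zero => simp
        | add x y _ _ hx hy => simp [hx, hy]
        | smul c x _ hx => simp [hx]
      have h3 := hzero _ hmem
      have h4 : v₀ i₀ = 1 := Subtype.ext (by simpa using hv₀i)
      simp [h4] at h3

theorem finrank_redSub (U : Submodule K (I → K)) :
    finrank (IsLocalRing.ResidueField A) (redSub A U) = finrank K U := by
  classical
  refine le_antisymm (finrank_redSub_le U) ?_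
  obtain ⟨v, hv1, hv2⟩ := exists_independent_of_finrank (A := A) _ U rfl
  let vv : Fin (finrank K U) → redSub A U := fun j => ⟨rdc (v j), ⟨v j, hv1 j, rfl⟩⟩
  have hli : LinearIndependent (IsLocalRing.ResidueField A) vv := by
    apply LinearIndependent.of_comp (redSub A U).subtype
    exact hv2
  have := hli.fintype_card_le_finrank
  simpa using this

end Reduction

end Cfsg.Agent.Lib.RangeVal
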