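import Mathlib
import Cfsg.Agent.Lib.RangeMod
import Cfsg.Agent.Lib.RangeVal

/-!
# Matrix representations over a valuation ring and their reductions

`T : G →* Matrix I I A`.  Eigenspaces of `T x` over `K` reduce to subspaces between the image of the norm and the
fixed space of the reduction.  Hence the difference of multiplicities of two eigenvalues is bounded by the dimension of the Tate quotient.
-/

set_option autoImplicit false
set_option linter.unusedSectionVars false
set_option linter.unusedVariables false

namespace Cfsg.Agent.Lib.RangeLat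

open Module Matrix
open Cfsg.Agent.Lib.RangeMod Cfsg.Agent.Lib.RangeVal

variable {G : Type*} [Group G] {K : Type*} [Field K] {A : ValuationSubring K}
variable {I : Type*} [Fintype I] [DecidableEq I]

local notation "kk" => IsLocalRing.ResidueField A

/-- Reduction of a matrix as an endomorphism. -/
noncomputable def rdM : Matrix I I A →+* Module.End (IsLocalRing.ResidueField A) (I → IsLocalRing.ResidueField A) :=
  (Matrix.toLinAlgEquiv' (R := IsLocalRing.ResidueField A) (n := I)).toRingEquiv.toRingHom.comp
    ((res A).mapMatrix)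

/-- Lift of a matrix as an endomorphism. -/
noncomputable def ltM : Matrix I I A →+* Module.End K (I → K) :=
  (Matrix.toLinAlgEquiv' (R := K) (n := I)).toRingEquiv.toRingHom.comp
    ((A.subtype).mapMatrix)

theorem rdM_apply (M : Matrix I I A) (v : I → A) : rdM M (rdc v) = rdc (M *ᵥ v) := by
  ext i
  show ((Matrix.toLin' ((res A).mapMatrix M)) (rdc v)) i = _
  rw [Matrix.toLin'_apply]
  show ∑ x, (res A) (M i x) * (res A) (v x) = res A (∑ x, M i x * v x)
  rw [map_sum]
  simp only [map_mul]

theorem ltM_apply (M : Matrix I I A) (v : I → A) : ltM M (lft v) = lft (M *ᵥ v) := by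
  ext i
  show ((Matrix.toLin' ((A.subtype).mapMatrix M)) (lft v)) i = _
  rw [Matrix.toLin'_apply]
  show ∑ x, ((M i x : A) : K) * ((v x : A) : K) = ((∑ x, M i x * v x : A) : K)
  push_cast
  rfl

/-- The reduced representation. -/
noncomputable def redRep (T : G →* Matrix I I A) : G →* Module.End (IsLocalRing.ResidueField A) (I → IsLocalRing.ResidueField A) :=
  (rdM.toMonoidHom).comp T

/-- The representation over `K`. -/
noncomputable def ltRep (T : G →* Matrix I I A) : G →* Module.End K (I → K) :=
  (ltM.toMonoidHom).comp T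

theorem redRep_apply (T : G →* Matrix I I A) (g : G) (v : I → A) : redRep T g (rdc v) = rdc (T g *ᵥ v) :=
  rdM_apply _ _

theorem ltRep_apply (T : G →* Matrix I I A) (g : G) (v : I → A) : ltRep T g (lft v) = lft (T g *ᵥ v) :=
  ltM_apply _ _

theorem exists_rdc (w : I → IsLocalRing.ResidueField A) : ∃ v : I → A, rdc v = w := by
  have : ∀ i, ∃ a : A, res A a = w i := fun i => IsLocalRing.residue_surjective _
  choose v hv using this
  exact ⟨v, funext hv⟩

/-- The eigenspace. -/
noncomputable def eig (T : G →* Matrix I I A) (x : G) (z : K) : Submodule K (I → K) :=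
  LinearMap.ker (ltRep T x - z • (1 : Module.End K (I → K)))

theorem mem_eig {T : G →* Matrix I I A} {x : G} {z : K} {v : I → K} : v ∈ eig T x z ↔ ltRep T x v = z • v := by
  unfold eig
  rw [LinearMap.mem_ker, LinearMap.sub_apply, sub_eq_zero]
  simp

section Between

variable [IsAlgClosed K] {p : ℕ} [hp : Fact p.Prime] [CharP (IsLocalRing.ResidueField A) p]
variable (T : G →* Matrix I I A) {x : G} (hx : x ^ p = 1) {z : A} (hz : z ^ p = 1)

include hz in
theorem res_root : res A z = 1 := by
  have h1 : (res A z - 1) ^ p = 0 := by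
    rw [sub_pow_char, one_pow, ← map_pow, hz, map_one, sub_self]
  have h2 := pow_eq_zero_iff (hp.out.ne_zero) |>.1 h1
  exact sub_eq_zero.1 h2

include hz in
theorem redSub_le_fx : redSub A (eig T x (z : K)) ≤ Fx (redRep T) x := by
  rintro w ⟨v, hv, rfl⟩
  rw [mem_eig, ltRep_apply] at hv
  have h1 : T x *ᵥ v = fun i => z * v i := by
    ext i
    have := congrFun hv i
    simpa using this
  unfold Fx yy
  rw [LinearMap.mem_ker, LinearMap.sub_apply, Module.End.one_apply, redRep_apply, h1, sub_eq_zero]
  ext i
  simp [res_root hz]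

include hx hz in
theorem im_le_redSub : ImN (redRep T) x p ≤ redSub A (eig T x (z : K)) := by
  rintro _ ⟨w, rfl⟩
  obtain ⟨v, rfl⟩ := exists_rdc w
  let zi : A := z ^ (p - 1)
  have hzzi : zi * z = 1 := by
    simp only [zi]
    rw [← pow_succ, Nat.sub_add_cancel hp.out.one_lt.le, hz]
  let v' : I → A := ∑ i ∈ Finset.range p, zi ^ i • (T x ^ i *ᵥ v)
  refine ⟨v', ?_, ?_⟩
  · rw [mem_eig, ltRep_apply]
    have h1 : T x *ᵥ v' = z • v' := by
      have h2 : T x *ᵥ v' = ∑ i ∈ Finset.range p, zi ^ i • (T x ^ (i + 1) *ᵥ v) := by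
        simp only [v']
        rw [Matrix.mulVec_sum]
        refine Finset.sum_congr rfl fun i _ => ?_
        rw [Matrix.mulVec_smul, Matrix.mulVec_mulVec, pow_succ']
      have h3 : z • v' = ∑ i ∈ Finset.range p, (z * zi ^ i) • (T x ^ i *ᵥ v) := by
        simp only [v']
        rw [Finset.smul_sum]
        refine Finset.sum_congr rfl fun i _ => ?_
        rw [smul_smul]
      rw [h2, h3]
      -- shift
      have hp1 : p = (p - 1) + 1 := (Nat.sub_add_cancel hp.out.one_lt.le).symm
      have hTp : T x ^ p = 1 := by rw [← map_pow, hx, map_one]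
      have hzip : zi ^ p = 1 := by
        simp only [zi]
        rw [← pow_mul, mul_comm, pow_mul, hz, one_pow]
      have h4 : ∑ i ∈ Finset.range p, zi ^ i • (T x ^ (i + 1) *ᵥ v) =
          ∑ i ∈ Finset.range p, (z * zi ^ (i + 1)) • (T x ^ (i + 1) *ᵥ v) := by
        refine Finset.sum_congr rfl fun i _ => ?_
        congr 1
        rw [pow_succ, mul_comm z, mul_assoc, hzzi, mul_one]
      rw [h4]
      have h5 := Finset.sum_range_succ (fun i => (z * zi ^ i) • (T x ^ i *ᵥ v)) p
      have h6 := Finset.sum_range_succ' (fun i => (z * zi ^ i) • (T x ^ i *ᵥ v)) p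
      rw [h5] at h6
      have h7 : (z * zi ^ p) • (T x ^ p *ᵥ v) = (z * zi ^ 0) • (T x ^ 0 *ᵥ v) := by
        rw [hTp, hzip]
        simp
      rw [h7] at h6
      exact (add_right_cancel h6).symm
    rw [h1]
    ext i
    simp
  · ext t
    have hres : ∀ i, res A (zi ^ i) = 1 := by
      intro i
      rw [map_pow]
      simp only [zi]
      rw [map_pow, res_root hz, one_pow, one_pow]
    have h8 : nrm (redRep T) x p (rdc v) = ∑ i ∈ Finset.range p, rdc (T x ^ i *ᵥ v) := by
      unfold nrm
      rw [LinearMap.sum_apply]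
      refine Finset.sum_congr rfl fun i _ => ?_
      rw [← map_pow, redRep_apply, map_pow]
    rw [h8]
    simp only [v', rdc_apply, Finset.sum_apply, Pi.smul_apply, map_sum, smul_eq_mul, map_mul, hres, one_mul]

theorem finrank_eig_between (hx : x ^ p = 1) (hz : z ^ p = 1) :
    finrank (IsLocalRing.ResidueField A) (ImN (redRep T) x p) ≤ finrank K (eig T x (z : K)) ∧
      finrank K (eig T x (z : K)) ≤ finrank (IsLocalRing.ResidueField A) (Fx (redRep T) x) := by
  rw [← finrank_redSub (A := A)]
  exact ⟨Submodule.finrank_mono (im_le_redSub T hx hz), Submodule.finrank_mono (redSub_le_fx T hz)⟩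

end Between

section Mult

variable [CharZero K] {p : ℕ} [hp : Fact p.Prime]

/-- The character of the representation, as an element of `K`. -/
noncomputable def chr (T : G →* Matrix I I A) (g : G) : K := ((T g).trace : K)

theorem trace_ltRep (T : G →* Matrix I I A) (g : G) :
    LinearMap.trace K (I → K) (ltRep T g) = chr T g := by
  show LinearMap.trace K (I → K) (Matrix.toLin' ((A.subtype).mapMatrix (T g))) = _
  rw [Matrix.trace_toLin'_eq]
  simp [chr, Matrix.trace]

/-- The dimension of the eigenspace is given by the usual inner product. -/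
theorem finrank_eig_eq (T : G →* Matrix I I A) {x : G} (hx : x ^ p = 1) {z : K} (hz : z ^ p = 1) :
    ((finrank K (eig T x z) : ℕ) : K) = (p : K)⁻¹ * ∑ i ∈ Finset.range p, (z⁻¹) ^ i * chr T (x ^ i) := by
  have hp0 : (p : K) ≠ 0 := Nat.cast_ne_zero.2 hp.out.ne_zero
  have hz0 : z ≠ 0 := by
    intro h
    rw [h, zero_pow hp.out.ne_zero] at hz
    exact zero_ne_one hz
  set R := ltRep T x with hR
  have hRp : R ^ p = 1 := by rw [hR, ← map_pow, hx, map_one]
  let P : Module.End K (I → K) := (p : K)⁻¹ • ∑ i ∈ Finset.range p, (z⁻¹) ^ i • R ^ i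
  have hzip : (z⁻¹) ^ p = 1 := by rw [inv_pow, hz, inv_one]
  have hRP : R * P = z • P := by
    have key : R * ∑ i ∈ Finset.range p, (z⁻¹) ^ i • R ^ i = z • ∑ i ∈ Finset.range p, (z⁻¹) ^ i • R ^ i := by
      have h5 := Finset.sum_range_succ (fun i => (z * (z⁻¹) ^ i) • R ^ i) p
      have h6 := Finset.sum_range_succ' (fun i => (z * (z⁻¹) ^ i) • R ^ i) p
      rw [h5] at h6
      have h7 : (z * (z⁻¹) ^ p) • R ^ p = (z * (z⁻¹) ^ 0) • R ^ 0 := by
        rw [hRp, hzip]
        simp
      rw [h7] at h6
      have h8 := add_right_cancel h6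
      have h9 : ∑ i ∈ Finset.range p, R * (z⁻¹) ^ i • R ^ i = ∑ i ∈ Finset.range p, (z * (z⁻¹) ^ (i + 1)) • R ^ (i + 1) := by
        refine Finset.sum_congr rfl fun i _ => ?_
        rw [mul_smul_comm, ← pow_succ']
        congr 1
        rw [pow_succ, mul_comm z, mul_assoc, inv_mul_cancel₀ hz0, mul_one]
      rw [Finset.mul_sum, h9, ← h8, Finset.smul_sum]
      refine Finset.sum_congr rfl fun i _ => ?_
      rw [smul_smul]
    simp only [P]
    rw [mul_smul_comm, key, smul_comm]
  have hproj : LinearMap.IsProj (eig T x z) P := by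
    refine LinearMap.IsProj.mk ?_ ?_
    · intro v
      rw [mem_eig]
      rw [← Module.End.mul_apply, ← hR, hRP]
      rfl
    · intro v hv
      rw [mem_eig] at hv
      have h1 : ∀ i : ℕ, (R ^ i) v = z ^ i • v := by
        intro i
        induction i with
        | zero => simp
        | succ i ih =>
          rw [pow_succ, Module.End.mul_apply, hv, map_smul, ih, smul_smul, pow_succ, mul_comm z]
      simp only [P]
      rw [LinearMap.smul_apply, LinearMap.sum_apply]
      have h2 : ∀ i ∈ Finset.range p, (((z⁻¹) ^ i • R ^ i : Module.End K (I → K))) v = v := by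
        intro i _
        rw [LinearMap.smul_apply, h1, smul_smul, ← mul_pow, inv_mul_cancel₀ hz0, one_pow, one_smul]
      rw [Finset.sum_congr rfl h2, Finset.sum_const, Finset.card_range, ← Nat.cast_smul_eq_nsmul K, smul_smul,
        inv_mul_cancel₀ hp0, one_smul]
  have htr := hproj.trace
  rw [← htr]
  simp only [P]
  rw [map_smul, map_sum, smul_eq_mul]
  congr 1
  refine Finset.sum_congr rfl fun i _ => ?_
  rw [map_smul, smul_eq_mul, hR, ← map_pow, trace_ltRep]

end Mult

section Bound

variable [IsAlgClosed K] [CharZero K] {p : ℕ} [hp : Fact p.Prime] [CharP (IsLocalRing.ResidueField A) p]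

/-- The lifted form of the eigenvalue comparison. -/
theorem finrank_eig_le (T : G →* Matrix I I A) {x : G} (hx : x ^ p = 1) {z z' : K} (hz : z ^ p = 1) (hz' : z' ^ p = 1) :
    finrank K (eig T x z) + finrank (IsLocalRing.ResidueField A) (ImN (redRep T) x p) ≤
      finrank K (eig T x z') + finrank (IsLocalRing.ResidueField A) (Fx (redRep T) x) := by
  have hA : ∀ w : K, w ^ p = 1 → w ∈ A := by
    intro w hw
    apply mem_of_isIntegral
    refine ⟨Polynomial.X ^ p - 1, Polynomial.monic_X_pow_sub_C 1 hp.out.ne_zero, ?_⟩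
    simp [hw]
  let y : A := ⟨z, hA z hz⟩
  let y' : A := ⟨z', hA z' hz'⟩
  have h1 := finrank_eig_between (A := A) T hx (z := y) (Subtype.ext (by simpa [y] using hz))
  have h2 := finrank_eig_between (A := A) T hx (z := y') (Subtype.ext (by simpa [y'] using hz'))
  have h3 := h1.2
  have h4 := h2.1
  simp only [y, y'] at h3 h4
  omega

end Bound

end Cfsg.Agent.Lib.RangeLat
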