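import Mathlib
import Cfsg.Agent.Lib.DcOp
import Cfsg.Agent.Lib.RangeLat
import Cfsg.Agent.Lib.BlockRankOne

/-!
# The reduction of an isotypic component lies between the top and the socle
-/

set_option autoImplicit false
set_option linter.unusedSectionVars false
set_option linter.unusedVariables false
set_option linter.unusedSimpArgs false

namespace Cfsg.Agent.Lib.DcSand

open Cfsg Module MonoidAlgebra IsLocalRing Polynomial Matrix
open Cfsg.Agent.Lib.BlockResidue Cfsg.Agent.Lib.BlockBrandt Cfsg.Agent.Lib.BlockQ Cfsg.Agent.Lib.BlockIdem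
open Cfsg.Agent.Lib.BlkBasic Cfsg.Agent.Lib.DcOp Cfsg.Agent.Lib.RangeLat Cfsg.Agent.Lib.RangeVal

universe u

section Alg

variable {H : Type u} [Group H] [Fintype H] {V : ValuationSubring ℂ}

local notation "Om" => MonoidAlgebra V H
local notation "Kk" => MonoidAlgebra (Kf V) H

theorem blkInd_singleton_mul' (c : IrrCharacter H → ℂ) (ν : IrrCharacter H) :
    c * blkInd {ν} = c ν • blkInd {ν} := by
  funext ψ
  by_cases h : ψ = ν
  · subst h
    simp [blkInd_of_mem (Set.mem_singleton ψ)]
  · have : ψ ∉ ({ν} : Set (IrrCharacter H)) := h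
    simp [blkInd_of_not_mem this]

theorem Phi_singleton_idem (ν : IrrCharacter H) : Phi (blkInd {ν}) * Phi (blkInd {ν}) = Phi (blkInd {ν}) := by
  rw [← Phi_mul, blkInd_mul_self]

theorem iota_aeval {x : Om} {l : IrrCharacter H → ℂ} (h : iotaV V x = Phi l) (P : V[X]) :
    iotaV V (aeval x P) = Phi (fun χ => (P.map V.subtype).eval (l χ)) := by
  induction P using Polynomial.induction_on with
  | C r =>
    have h1 : iotaV V (aeval x (C r)) = Phi (fun _ => ((r : V) : ℂ)) := by
      rw [aeval_C, Algebra.algebraMap_eq_smul_one, iotaV_smul, map_one]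
      have h2 : (fun _ : IrrCharacter H => ((r : V) : ℂ)) = ((r : V) : ℂ) • (1 : IrrCharacter H → ℂ) := by
        funext χ
        simp
      rw [h2, Phi_smul, Phi_one]
    rw [h1]
    congr 1
    funext χ
    simp
  | add p q hp hq =>
    rw [map_add, map_add, hp, hq, ← Phi_add]
    congr 1
    funext χ
    simp [Polynomial.map_add, eval_add]
  | monomial n r ih =>
    have h2 : C r * (X : V[X]) ^ (n + 1) = (C r * X ^ n) * X := by ring
    rw [h2, map_mul, map_mul, ih, aeval_X, h, ← Phi_mul]
    congr 1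
    funext χ
    simp [Polynomial.map_mul, eval_mul]

theorem rho_aeval (x : Om) (P : V[X]) : rhoV V (aeval x P) = aeval (rhoV V x) (P.map (residue V)) := by
  induction P using Polynomial.induction_on with
  | C r =>
    rw [aeval_C, Polynomial.map_C, aeval_C, Algebra.algebraMap_eq_smul_one, rhoV_smul, map_one,
      Algebra.algebraMap_eq_smul_one]
  | add p q hp hq =>
    rw [map_add, map_add, hp, hq, Polynomial.map_add, map_add]
  | monomial n r ih =>
    have h2 : C r * (X : V[X]) ^ (n + 1) = (C r * X ^ n) * X := by ring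
    have h3 : ∀ P : V[X], (P * X).map (residue V) = P.map (residue V) * X := fun P => by simp
    rw [h2, map_mul (aeval x), map_mul (rhoV V), ih, aeval_X, h3, map_mul (aeval (rhoV V x)), aeval_X]

variable [DecidableEq (IrrCharacter H)]

/-- The product polynomial vanishing at all the members but one. -/
noncomputable def prodP (s : Finset (IrrCharacter H)) (z : IrrCharacter H → V) (ν : IrrCharacter H) : V[X] :=
  ∏ ν' ∈ s.erase ν, (X - C (z ν'))

theorem prodP_map (s : Finset (IrrCharacter H)) (z : IrrCharacter H → V) (ν : IrrCharacter H)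
    (hz : ∀ ν' ∈ s, residue V (z ν') = 0) (hν : ν ∈ s) :
    (prodP s z ν).map (residue V) = X ^ (s.card - 1) := by
  unfold prodP
  rw [Polynomial.map_prod, ← Finset.card_erase_of_mem hν, ← Finset.prod_const]
  refine Finset.prod_congr rfl fun ν' hν' => ?_
  rw [Polynomial.map_sub, Polynomial.map_X, Polynomial.map_C, hz ν' (Finset.mem_of_mem_erase hν'), map_zero, sub_zero]

theorem prodP_eval (s : Finset (IrrCharacter H)) (z : IrrCharacter H → V) (ν χ : IrrCharacter H)
    (hχ : χ ∈ s) (hne : χ ≠ ν) : ((prodP s z ν).map V.subtype).eval ((z χ : V) : ℂ) = 0 := by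
  unfold prodP
  rw [Polynomial.map_prod, eval_prod]
  refine Finset.prod_eq_zero (Finset.mem_erase.2 ⟨hne, hχ⟩) ?_
  simp

end Alg

section Ext

variable {G : Type u} [Group G] [Fintype G] {I : Type*} [Fintype I] [DecidableEq I] {V : ValuationSubring ℂ}
variable (T : G →* Matrix I I V) {H : Subgroup G} [Fintype H]

/-- The extension to `V[H]`. -/
noncomputable def extV (T : G →* Matrix I I V) (H : Subgroup G) : MonoidAlgebra V H →ₐ[V] Matrix I I V :=
  MonoidAlgebra.lift V (Matrix I I V) H (T.comp H.subtype)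

theorem extV_eq_sum (a : MonoidAlgebra V H) : extV T H a = ∑ h : H, a.coeff h • T (h : G) := by
  conv_lhs => rw [eq_sum_single a]
  rw [map_sum]
  refine Finset.sum_congr rfl fun h _ => ?_
  unfold extV
  rw [MonoidAlgebra.lift_single]
  rfl

theorem ext_red (a : MonoidAlgebra V H) (v : I → V) :
    ext (redRep T) H (rhoV V a) (rdc v) = rdc (extV T H a *ᵥ v) := by
  rw [ext_eq_sum, extV_eq_sum, LinearMap.sum_apply, Matrix.sum_mulVec]
  funext i
  rw [Finset.sum_apply]
  simp only [rdc_apply, Finset.sum_apply, map_sum]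
  refine Finset.sum_congr rfl fun h _ => ?_
  rw [LinearMap.smul_apply, redRep_apply, coeff_rhoV, Matrix.smul_mulVec]
  simp

theorem ext_lt (a : MonoidAlgebra V H) (v : I → V) :
    ext (ltRep T) H (iotaV V a) (lft v) = lft (extV T H a *ᵥ v) := by
  rw [ext_eq_sum, extV_eq_sum, LinearMap.sum_apply, Matrix.sum_mulVec]
  funext i
  rw [Finset.sum_apply]
  simp only [lft_apply, Finset.sum_apply]
  push_cast
  refine Finset.sum_congr rfl fun h _ => ?_
  rw [LinearMap.smul_apply, ltRep_apply, coeff_iotaV, Matrix.smul_mulVec]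
  simp

theorem lft_injective : Function.Injective (lft : (I → V) → (I → ℂ)) := by
  intro a b h
  funext i
  exact Subtype.ext (congrFun h i)

/-- The image of the idempotent of a character. -/
noncomputable def Uu (T : G →* Matrix I I V) (H : Subgroup G) [Fintype H] (ν : IrrCharacter H) : Submodule ℂ (I → ℂ) :=
  LinearMap.range (ext (ltRep T) H (Phi (blkInd {ν})))

theorem Uu_fix {ν : IrrCharacter H} {w : I → ℂ} (hw : w ∈ Uu T H ν) : ext (ltRep T) H (Phi (blkInd {ν})) w = w := by
  obtain ⟨w', rfl⟩ := hw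
  rw [← Module.End.mul_apply, ← map_mul, Phi_singleton_idem]

/-- The action of a lift of a central element on the reduced lattice of a component. -/
theorem extV_mulVec {ν : IrrCharacter H} {v : I → V} (hv : lft v ∈ Uu T H ν) {a : MonoidAlgebra V H}
    {c : IrrCharacter H → ℂ} (ha : iotaV V a = Phi c) {z : V} (hz : (z : ℂ) = c ν) :
    extV T H a *ᵥ v = z • v := by
  apply lft_injective
  rw [← ext_lt, ha, ← Uu_fix T hv, ← Module.End.mul_apply, ← map_mul, ← Phi_mul, Cfsg.Agent.Lib.DcSand.blkInd_singleton_mul',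
    Phi_smul, map_smul, LinearMap.smul_apply, Uu_fix T hv, ← hz]
  funext i
  simp

/-- The reduced lattice of a component lies in the socle of the block. -/
theorem redSub_le {b : Set (IrrCharacter H)} {e x : MonoidAlgebra V H} {l : IrrCharacter H → ℂ}
    (he : iotaV V e = Phi (blkInd b)) (hx : iotaV V x = Phi l) {ν : IrrCharacter H} (hν : ν ∈ b) {z : V}
    (hz : (z : ℂ) = l ν) (hz0 : residue V z = 0) :
    redSub V (Uu T H ν) ≤ LinearMap.ker (ext (redRep T) H (rhoV V x)) ⊓ LinearMap.range (ext (redRep T) H (rhoV V e)) := by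
  rintro _ ⟨v, hv, rfl⟩
  refine ⟨?_, ?_⟩
  · rw [SetLike.mem_coe, LinearMap.mem_ker, ext_red, extV_mulVec T hv hx hz]
    funext i
    simp [hz0]
  · refine ⟨rdc v, ?_⟩
    rw [ext_red, extV_mulVec T hv he (z := 1) (by rw [blkInd_of_mem hν]; rfl), one_smul]

/-- The reduced lattice of a component contains the top of the block. -/
theorem map_le_redSub [DecidableEq (IrrCharacter H)] {b : Set (IrrCharacter H)} {e x : MonoidAlgebra V H} {l : IrrCharacter H → ℂ}
    (he : iotaV V e = Phi (blkInd b)) (hx : iotaV V x = Phi l) {ν : IrrCharacter H} (hν : ν ∈ b) (z : IrrCharacter H → V)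
    (hz : ∀ χ ∈ b, (z χ : ℂ) = l χ) (hz0 : ∀ χ ∈ b, residue V (z χ) = 0) :
    (LinearMap.range (ext (redRep T) H (rhoV V e))).map (ext (redRep T) H (rhoV V x) ^ ((bF b).card - 1)) ≤ redSub V (Uu T H ν) := by
  rintro _ ⟨_, ⟨w₀, rfl⟩, rfl⟩
  obtain ⟨v₀, rfl⟩ := exists_rdc w₀
  set P := prodP (bF b) z ν with hP
  set a₀ : MonoidAlgebra V H := aeval x P * e with ha₀
  have hrho : rhoV V a₀ = rhoV V x ^ ((bF b).card - 1) * rhoV V e := by
    rw [ha₀, map_mul, rho_aeval, hP, prodP_map _ _ _ (fun ν' h => hz0 ν' (mem_bF.1 h)) (mem_bF.2 hν), map_pow, aeval_X]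
  have hiota : iotaV V a₀ = ((P.map V.subtype).eval (l ν)) • Phi (blkInd {ν}) := by
    rw [ha₀, map_mul, iota_aeval hx, he, ← Phi_mul, ← Phi_smul]
    congr 1
    funext χ
    by_cases hχ : χ = ν
    · subst hχ
      simp [blkInd_of_mem hν, blkInd_of_mem (Set.mem_singleton χ)]
    · have h1 : χ ∉ ({ν} : Set (IrrCharacter H)) := hχ
      simp only [Pi.mul_apply, Pi.smul_apply, smul_eq_mul, blkInd_of_not_mem h1, mul_zero]
      by_cases hχb : χ ∈ b
      · rw [← hz χ hχb, hP, prodP_eval (bF b) z ν χ (mem_bF.2 hχb) hχ, zero_mul]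
      · rw [blkInd_of_not_mem hχb, mul_zero]
  refine ⟨extV T H a₀ *ᵥ v₀, ?_, ?_⟩
  · rw [← ext_lt, hiota, map_smul]
    exact ⟨((P.map V.subtype).eval (l ν)) • lft v₀, by simp⟩
  · rw [← ext_red, hrho, map_mul, map_pow, Module.End.mul_apply]

open Cfsg.Agent.Lib.RangeMod

theorem invF_singleton (ν : IrrCharacter H) : invF (blkInd {ν}) = ec (ν : H → ℂ) := by
  funext z
  unfold invF
  rw [Finset.sum_eq_single ν]
  · rw [blkInd_of_mem (Set.mem_singleton ν), one_mul]
  · intro ψ _ hψ
    have : ψ ∉ ({ν} : Set (IrrCharacter H)) := hψ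
    rw [blkInd_of_not_mem this, zero_mul]
  · simp

/-- The dimension of a component. -/
theorem finrank_Uu (ν : IrrCharacter H) :
    ((finrank ℂ (Uu T H ν) : ℕ) : ℂ) = ∑ h : H, ec (ν : H → ℂ) h * chr T (h : G) := by
  have hid : IsIdempotentElem (ext (ltRep T) H (Phi (blkInd {ν}))) := by
    unfold IsIdempotentElem
    rw [← map_mul, Phi_singleton_idem]
  unfold Uu
  rw [← (LinearMap.IsIdempotentElem.isProj_range _ hid).trace, ext_eq_sum, map_sum]
  refine Finset.sum_congr rfl fun h _ => ?_
  rw [map_smul, smul_eq_mul, coeff_Phi, invF_singleton, trace_ltRep]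

end Ext

end Cfsg.Agent.Lib.DcSand
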