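import Mathlib
import Cfsg.Agent.Lib.DcLocal
import Cfsg.Agent.Lib.DcSand
import Cfsg.Agent.Lib.BrauerPair

/-!
# Lifting the eigen-generator to the valuation ring
-/

set_option autoImplicit false
set_option linter.unusedSectionVars false
set_option linter.unusedVariables false
set_option linter.unusedSimpArgs false

namespace Cfsg.Agent.Lib.DcLift

open Cfsg Module MonoidAlgebra IsLocalRing Polynomial
open Cfsg.Agent.Lib.BlockResidue Cfsg.Agent.Lib.BlockBrandt Cfsg.Agent.Lib.BlockQ Cfsg.Agent.Lib.BlockIdem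
open Cfsg.Agent.Lib.BlkBasic Cfsg.Agent.Lib.DcPackA Cfsg.Agent.Lib.BrauerPair

universe u

variable {H : Type u} [Group H] [Fintype H] {V : ValuationSubring ℂ}

local notation "Om" => MonoidAlgebra V H
local notation "Kk" => MonoidAlgebra (Kf V) H

theorem exists_root_lift {n : ℕ} (hn1 : 1 ≤ n) {ζ : Kf V} (hζ : ζ ^ n = 1) :
    ∃ z : V, z ^ n = 1 ∧ residue V z = ζ := by
  classical
  have hm : ((X : V[X]) ^ n - C 1).Monic := monic_X_pow_sub_C _ (by omega)
  obtain ⟨s, hs⟩ := Cfsg.Agent.Lib.RangeVal.exists_factor (A := V) _ ((X : V[X]) ^ n - C 1) hm rfl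
  have h1 := congrArg (fun P => (P.map (residue V)).eval ζ) hs
  simp only [Polynomial.map_sub, Polynomial.map_pow, Polynomial.map_X, Polynomial.map_C, map_one, eval_sub, eval_pow,
    eval_X, eval_C, hζ, Polynomial.map_one, eval_one, sub_self] at h1
  rw [Polynomial.map_multiset_prod, eval_multiset_prod] at h1
  have h2 := (Multiset.prod_eq_zero_iff.1 h1.symm)
  simp only [Multiset.mem_map] at h2
  obtain ⟨_, ⟨_, ⟨a, ha, rfl⟩, rfl⟩, h3⟩ := h2
  simp only [Polynomial.map_sub, Polynomial.map_X, Polynomial.map_C, eval_sub, eval_X, eval_C] at h3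
  refine ⟨a, ?_, (sub_eq_zero.1 h3).symm⟩
  have h4 : ((X : V[X]) ^ n - C 1).eval a = 0 := by
    rw [hs, eval_multiset_prod]
    refine Multiset.prod_eq_zero (Multiset.mem_map.2 ⟨X - C a, Multiset.mem_map_of_mem _ ha, by simp⟩)
  simp only [eval_sub, eval_pow, eval_X, eval_C] at h4
  exact sub_eq_zero.1 h4

theorem rho_domCongr (τ : H ≃* H) (a : Om) :
    rhoV V (domCongr V V τ a) = domCongr (Kf V) (Kf V) τ (rhoV V a) :=
  ext_coeff fun g => by simp

theorem iota_domCongr (τ : H ≃* H) (a : Om) :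
    iotaV V (domCongr V V τ a) = domCongr ℂ ℂ τ (iotaV V a) :=
  ext_coeff fun g => by simp

section Iter

variable {k R : Type*} [CommSemiring k] [Semiring R] [Algebra k R] (σ : R ≃ₐ[k] R)

theorem iter_mul (j : ℕ) (a b : R) : (⇑σ)^[j] (a * b) = (⇑σ)^[j] a * (⇑σ)^[j] b := by
  induction j with
  | zero => rfl
  | succ j ih => rw [Function.iterate_succ_apply', ih, map_mul, Function.iterate_succ_apply', Function.iterate_succ_apply']

theorem iter_fix (j : ℕ) {a : R} (h : σ a = a) : (⇑σ)^[j] a = a := by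
  induction j with
  | zero => rfl
  | succ j ih => rw [Function.iterate_succ_apply', ih, h]

theorem iter_central (j : ℕ) {a : R} (h : ∀ b, a * b = b * a) (b : R) : (⇑σ)^[j] a * b = b * (⇑σ)^[j] a := by
  induction j generalizing b with
  | zero => exact h b
  | succ j ih =>
    rw [Function.iterate_succ_apply']
    obtain ⟨c, rfl⟩ := σ.surjective b
    rw [← map_mul, ← map_mul, ih]

end Iter

/-- **The eigen-lift.** -/
theorem exists_eigen_lift (τ : H ≃* H) {e : Om} (hee : e * e = e) (hσe : domCongr V V τ e = e) (hec : ∀ a : Om, e * a = a * e)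
    {x : Kk} (hxc : ∀ a, x * a = a * x) (hxf : x * rhoV V e = x) {ζ : Kf V}
    (hσx : domCongr (Kf V) (Kf V) τ x = ζ • x) {n : ℕ} (hn1 : 1 ≤ n) (hn : (n : Kf V) ≠ 0) (hζ : ζ ^ n = 1)
    (hσn : ∀ a : Om, (∀ b, a * b = b * a) → (⇑(domCongr V V τ))^[n] a = a) :
    ∃ (y : Om) (z : V), (∀ a, y * a = a * y) ∧ y * e = y ∧ rhoV V y = x ∧ z ^ n = 1 ∧ residue V z = ζ ∧
      domCongr V V τ y = z • y := by
  classical
  obtain ⟨z, hzn, hzζ⟩ := exists_root_lift hn1 hζ
  obtain ⟨a₀, ha₀c, ha₀⟩ := exists_central_lift x hxc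
  set σ := domCongr V V τ with hσ
  set x₁ : Om := a₀ * e with hx₁
  have hx₁c : ∀ b, x₁ * b = b * x₁ := by
    intro b
    rw [hx₁, mul_assoc, hec, ← mul_assoc, ha₀c, mul_assoc]
  have hrx₁ : rhoV V x₁ = x := by rw [hx₁, map_mul, ha₀, hxf]
  set zi : V := z ^ (n - 1) with hzi
  have hzzi : zi * z = 1 := by
    rw [hzi, ← pow_succ, Nat.sub_add_cancel hn1, hzn]
  have hzin : zi ^ n = 1 := by
    rw [hzi, ← pow_mul, mul_comm, pow_mul, hzn, one_pow]
  -- the inverse of `n`
  have hnV : IsUnit (n : V) := by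
    by_contra hnu
    apply hn
    have h1 : residue V (n : V) = 0 := by
      rw [IsLocalRing.residue_eq_zero_iff]
      exact hnu
    rwa [map_natCast] at h1
  obtain ⟨m, hm⟩ := hnV.exists_left_inv
  set w : Om := ∑ i ∈ Finset.range n, zi ^ i • (⇑σ)^[i] x₁ with hw
  have hσw : σ w = z • w := by
    have h2 : σ w = ∑ i ∈ Finset.range n, zi ^ i • (⇑σ)^[i + 1] x₁ := by
      rw [hw, map_sum]
      refine Finset.sum_congr rfl fun i _ => ?_
      rw [map_smul, Function.iterate_succ_apply']
    have h3 : z • w = ∑ i ∈ Finset.range n, (z * zi ^ i) • (⇑σ)^[i] x₁ := by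
      rw [hw, Finset.smul_sum]
      refine Finset.sum_congr rfl fun i _ => ?_
      rw [smul_smul]
    rw [h2, h3]
    have h4 : ∑ i ∈ Finset.range n, zi ^ i • (⇑σ)^[i + 1] x₁ =
        ∑ i ∈ Finset.range n, (z * zi ^ (i + 1)) • (⇑σ)^[i + 1] x₁ := by
      refine Finset.sum_congr rfl fun i _ => ?_
      congr 1
      rw [pow_succ, mul_comm z, mul_assoc, hzzi, mul_one]
    rw [h4]
    have h5 := Finset.sum_range_succ (fun i => (z * zi ^ i) • (⇑σ)^[i] x₁) n
    have h6 := Finset.sum_range_succ' (fun i => (z * zi ^ i) • (⇑σ)^[i] x₁) n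
    rw [h5] at h6
    have h7 : (z * zi ^ n) • (⇑σ)^[n] x₁ = (z * zi ^ 0) • (⇑σ)^[0] x₁ := by
      rw [hσn x₁ hx₁c, hzin]
      simp
    rw [h7] at h6
    exact (add_right_cancel h6).symm
  refine ⟨m • w, z, ?_, ?_, ?_, hzn, hzζ, ?_⟩
  · intro a
    rw [smul_mul_assoc, mul_smul_comm]
    congr 1
    rw [hw, Finset.sum_mul, Finset.mul_sum]
    refine Finset.sum_congr rfl fun i _ => ?_
    rw [smul_mul_assoc, mul_smul_comm, iter_central σ i hx₁c]
  · rw [smul_mul_assoc]
    congr 1
    rw [hw, Finset.sum_mul]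
    refine Finset.sum_congr rfl fun i _ => ?_
    rw [smul_mul_assoc]
    congr 1
    conv_lhs => rw [← iter_fix σ i hσe]
    rw [← iter_mul, hx₁, mul_assoc]
    rw [hee]
  · rw [rhoV_smul, hw, map_sum]
    have hiter : ∀ i : ℕ, rhoV V ((⇑σ)^[i] x₁) = ζ ^ i • x := by
      intro i
      induction i with
      | zero => simp [hrx₁]
      | succ i ih =>
        rw [Function.iterate_succ_apply', hσ, rho_domCongr, ← hσ, ih, map_smul, hσx, smul_smul, pow_succ]
    have h1 : ∀ i ∈ Finset.range n, rhoV V (zi ^ i • (⇑σ)^[i] x₁) = x := by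
      intro i _
      rw [rhoV_smul, hiter, smul_smul, map_pow, ← mul_pow]
      have h2 : residue V zi * ζ = 1 := by
        rw [← hzζ, ← map_mul, hzzi, map_one]
      rw [h2, one_pow, one_smul]
    rw [Finset.sum_congr rfl h1, Finset.sum_const, Finset.card_range, ← Nat.cast_smul_eq_nsmul (Kf V), smul_smul]
    have h3 : residue V m * (n : Kf V) = 1 := by
      rw [← map_natCast (residue V), ← map_mul, hm, map_one]
    rw [h3, one_smul]
  · rw [map_smul, hσw, smul_comm]

/-- Transport of `Phi` along an automorphism. -/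
theorem domCongr_Phi (τ : H ≃* H) (c : IrrCharacter H → ℂ) :
    domCongr ℂ ℂ τ (Phi c) = Phi (fun χ => c (twist τ.symm χ)) := by
  refine ext_coeff fun g => ?_
  rw [coeff_domCongr, coeff_Phi, coeff_Phi]
  unfold invF
  refine Fintype.sum_equiv ⟨twist τ, twist τ.symm, twist_twist_symm τ, twist_symm_twist τ⟩ _ _ fun χ => ?_
  show c χ * _ = c (twist τ.symm (twist τ χ)) * _
  rw [twist_twist_symm]
  congr 1
  unfold ec
  show (χ : H → ℂ) 1 * (χ : H → ℂ) (τ.symm g)⁻¹ / _ = (twist τ χ : H → ℂ) 1 * (twist τ χ : H → ℂ) g⁻¹ / _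
  rw [twist_apply, twist_apply, map_one, map_inv]

/-- The values of the central character of a central lift. -/
theorem exists_lambda {b : Set (IrrCharacter H)} {e y : Om} (he : iotaV V e = Phi (blkInd b))
    (hyc : ∀ a, y * a = a * y) (hye : y * e = y) {q : ℕ} (hq : rhoV V y ^ q = 0) (hq0 : 1 ≤ q) :
    ∃ (l : IrrCharacter H → ℂ) (z : IrrCharacter H → V), iotaV V y = Phi l ∧ (∀ χ, χ ∉ b → l χ = 0) ∧
      ∀ χ ∈ b, (z χ : ℂ) = l χ ∧ residue V (z χ) = 0 := by
  classical
  have hcen : ∀ x, iotaV V y * x = x * iotaV V y := by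
    intro x
    have := central_of_class (c := iotaV V y) (fun g w => ?_) x
    · exact this
    · rw [coeff_iotaV, coeff_iotaV, class_of_central hyc]
  set l : IrrCharacter H → ℂ := fun χ => omega (χ : H → ℂ) (fun g => (iotaV V y).coeff g) with hl
  have hy : iotaV V y = Phi l := central_eq_Phi hcen
  have hl0 : ∀ χ, χ ∉ b → l χ = 0 := by
    intro χ hχ
    have h1 : Phi (l * blkInd b) = Phi l := by
      rw [Phi_mul, ← hy, ← he, ← map_mul, hye]
    have h2 := congrFun (Phi_injective h1) χ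
    rw [Pi.mul_apply, blkInd_of_not_mem hχ, mul_zero] at h2
    exact h2.symm
  have hz : ∀ χ : IrrCharacter H, ∃ z : V, χ ∈ b → (z : ℂ) = l χ ∧ residue V z = 0 := by
    intro χ
    by_cases hχ : χ ∈ b
    swap
    · exact ⟨0, fun h => absurd h hχ⟩
    obtain ⟨d, b₀, hd, hb₀, hb₀0⟩ := exists_scale_elem (V := V) (Phi (blkInd {χ})) (Phi_singleton_ne_zero χ)
    have h1 : iotaV V (y * b₀) = l χ • iotaV V b₀ := by
      rw [map_mul, hb₀, hy, mul_smul_comm, ← Phi_mul, Cfsg.Agent.Lib.DcSand.blkInd_singleton_mul', Phi_smul, smul_comm]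
    have h2 : l χ ∈ V := by
      by_contra hne
      have hinv := (V.mem_or_inv_mem (l χ)).resolve_left hne
      set r : V := ⟨(l χ)⁻¹, hinv⟩ with hr
      have hl1 : l χ ≠ 0 := by
        intro h0
        apply hne
        rw [h0]
        exact V.zero_mem
      have h3 : r • (y * b₀) = b₀ := by
        apply iotaV_injective
        rw [iotaV_smul, h1, smul_smul]
        have h4 : ((r : V) : ℂ) * l χ = 1 := inv_mul_cancel₀ hl1
        rw [h4, one_smul]
      have h5 : residue V r = 0 := by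
        rw [IsLocalRing.residue_eq_zero_iff]
        intro hu
        apply hne
        obtain ⟨t, ht⟩ := hu.exists_left_inv
        have h6 : ((t : V) : ℂ) * (l χ)⁻¹ = 1 := congrArg (Subtype.val) ht
        have h7 : l χ = (t : V) := by
          field_simp at h6
          exact h6.symm
        rw [h7]
        exact t.2
      apply hb₀0
      rw [← h3, rhoV_smul, h5, zero_smul]
    set z : V := ⟨l χ, h2⟩ with hzdef
    refine ⟨z, fun _ => ⟨rfl, ?_⟩⟩
    have h3 : y * b₀ = z • b₀ := by
      apply iotaV_injective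
      rw [h1, iotaV_smul]
    have h4 : ∀ i : ℕ, y ^ i * b₀ = z ^ i • b₀ := by
      intro i
      induction i with
      | zero => simp
      | succ i ih =>
        rw [pow_succ, mul_assoc, h3, mul_smul_comm, ih, smul_smul, pow_succ, mul_comm]
    have h5 : residue V z ^ q • rhoV V b₀ = 0 := by
      rw [← map_pow, ← rhoV_smul, ← h4, map_mul, map_pow, hq, zero_mul]
    rcases smul_eq_zero.1 h5 with h6 | h6
    · exact pow_eq_zero_iff (by omega) |>.1 h6
    · exact absurd h6 hb₀0
  choose z hz' using hz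
  exact ⟨l, z, hy, hl0, hz'⟩

/-- The values of the central character are distinct on the block. -/
theorem lambda_injOn {b : Set (IrrCharacter H)} {e y : Om} (he : iotaV V e = Phi (blkInd b))
    {l : IrrCharacter H → ℂ} (hy : iotaV V y = Phi l) (hye : y * e = y)
    (hq : rhoV V y ^ (bF b).card = 0) (hq1 : rhoV V y ^ ((bF b).card - 1) ≠ 0) (hq2 : 2 ≤ (bF b).card)
    {ν ν' : IrrCharacter H} (hν : ν ∈ b) (hν' : ν' ∈ b) (hne : ν ≠ ν') : l ν ≠ l ν' := by
  classical
  intro heq
  set q := (bF b).card with hq'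
  obtain ⟨s, hs⟩ : ∃ s, q = s + 1 := ⟨q - 1, by omega⟩
  have hrye : rhoV V y * rhoV V e = rhoV V y := by rw [← map_mul, hye]
  have hpow : ∀ i : ℕ, 1 ≤ i → rhoV V y ^ i * rhoV V e = rhoV V y ^ i := by
    intro i hi
    obtain ⟨t, rfl⟩ : ∃ t, i = t + 1 := ⟨i - 1, by omega⟩
    rw [pow_succ, mul_assoc, hrye]
  have hind : LinearIndependent (Kf V) (fun i : Fin (s + 1) => rhoV V y ^ (i : ℕ) * rhoV V e) := by
    refine indep_pow (k := Kf V) ?_ ?_
    · rw [← hs, hq, zero_mul]
    · have h1 : s = q - 1 := by omega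
      rw [h1, hpow _ (by omega)]
      exact hq1
  have h1 : LinearIndependent ℂ (fun i : Fin (s + 1) => iotaV V (y ^ (i : ℕ) * e)) := by
    refine linearIndependent_of_reduction _ ?_
    have : (fun i : Fin (s + 1) => rhoV V (y ^ (i : ℕ) * e)) = fun i : Fin (s + 1) => rhoV V y ^ (i : ℕ) * rhoV V e := by
      funext i
      rw [map_mul, map_pow]
    rw [this]
    exact hind
  let s' : Finset (IrrCharacter H) := (bF b).erase ν'
  have hcard : s'.card = s := by
    rw [Finset.card_erase_of_mem (mem_bF.2 hν'), ← hq', hs]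
    rfl
  have hνs : ν ∈ s' := Finset.mem_erase.2 ⟨hne, mem_bF.2 hν⟩
  let v : s' → MonoidAlgebra ℂ H := fun χ =>
    if (χ : IrrCharacter H) = ν then Phi (blkInd {ν, ν'}) else Phi (blkInd {(χ : IrrCharacter H)})
  let PhiL : (IrrCharacter H → ℂ) →ₗ[ℂ] MonoidAlgebra ℂ H :=
    { toFun := Phi, map_add' := Phi_add, map_smul' := Phi_smul }
  have hmem : ∀ i : Fin (s + 1), iotaV V (y ^ (i : ℕ) * e) ∈ Submodule.span ℂ (Set.range v) := by
    intro i
    have h2 : iotaV V (y ^ (i : ℕ) * e) = Phi (l ^ (i : ℕ) * blkInd b) := by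
      rw [map_mul, map_pow, hy, he, Phi_mul, Phi_pow]
    have h3 : l ^ (i : ℕ) * blkInd b = ∑ χ : s', ((l ^ (i : ℕ)) (χ : IrrCharacter H)) •
        (if (χ : IrrCharacter H) = ν then blkInd {ν, ν'} else blkInd {(χ : IrrCharacter H)}) := by
      funext ψ
      rw [Finset.sum_apply]
      by_cases hψ : ψ ∈ b
      · by_cases hψ' : ψ = ν'
        · rw [Finset.sum_eq_single (⟨ν, hνs⟩ : s')]
          · subst hψ'
            simp [blkInd_of_mem hψ, blkInd_of_mem (show ψ ∈ ({ν, ψ} : Set (IrrCharacter H)) by simp), heq]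
          · intro χ _ hχ
            have h4 : (χ : IrrCharacter H) ≠ ν := fun h => hχ (Subtype.ext h)
            have h5 : ψ ∉ ({(χ : IrrCharacter H)} : Set (IrrCharacter H)) := by
              intro h6
              have h7 := Set.mem_singleton_iff.1 h6
              have h8 := (Finset.mem_erase.1 χ.2).1
              exact h8 (h7.symm.trans hψ')
            simp [h4, blkInd_of_not_mem h5]
          · simp
        · have hψs : ψ ∈ s' := Finset.mem_erase.2 ⟨hψ', mem_bF.2 hψ⟩
          rw [Finset.sum_eq_single (⟨ψ, hψs⟩ : s')]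
          · by_cases hψν : ψ = ν
            · subst hψν
              simp [blkInd_of_mem hψ, blkInd_of_mem (show ψ ∈ ({ψ, ν'} : Set (IrrCharacter H)) by simp)]
            · simp [hψν, blkInd_of_mem hψ, blkInd_of_mem (Set.mem_singleton ψ)]
          · intro χ _ hχ
            have h4 : (χ : IrrCharacter H) ≠ ψ := fun h => hχ (Subtype.ext h)
            by_cases h5 : (χ : IrrCharacter H) = ν
            · have h6 : ψ ∉ ({ν, ν'} : Set (IrrCharacter H)) := by
                intro h7
                rcases h7 with h7 | h7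
                · exact h4 (h5.trans h7.symm)
                · exact hψ' h7
              simp [h5, blkInd_of_not_mem h6]
            · have h6 : ψ ∉ ({(χ : IrrCharacter H)} : Set (IrrCharacter H)) := fun h7 => h4 (Set.mem_singleton_iff.1 h7).symm
              simp [h5, blkInd_of_not_mem h6]
          · simp
      · have h4 : ∀ χ : s', ψ ∉ ({(χ : IrrCharacter H)} : Set (IrrCharacter H)) := by
          intro χ h
          apply hψ
          rw [Set.mem_singleton_iff.1 h]
          exact mem_bF.1 (Finset.mem_of_mem_erase χ.2)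
        have h5 : ψ ∉ ({ν, ν'} : Set (IrrCharacter H)) := by
          intro h7
          rcases h7 with h7 | h7
          · exact hψ (h7 ▸ hν)
          · exact hψ (h7 ▸ hν')
        rw [Pi.mul_apply, blkInd_of_not_mem hψ, mul_zero]
        symm
        refine Finset.sum_eq_zero fun χ _ => ?_
        by_cases h6 : (χ : IrrCharacter H) = ν
        · simp [h6, blkInd_of_not_mem h5]
        · simp [h6, blkInd_of_not_mem (h4 χ)]
    rw [h2, h3]
    change PhiL _ ∈ _
    rw [map_sum]
    refine Submodule.sum_mem _ fun χ _ => ?_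
    rw [map_smul]
    refine Submodule.smul_mem _ _ (Submodule.subset_span ⟨χ, ?_⟩)
    simp only [v]
    split_ifs <;> rfl
  let T : Fin (s + 1) → Submodule.span ℂ (Set.range v) := fun i => ⟨_, hmem i⟩
  have hT : LinearIndependent ℂ T :=
    LinearIndependent.of_comp (Submodule.span ℂ (Set.range v)).subtype h1
  have h3 := hT.fintype_card_le_finrank
  have h4 : Set.finrank ℂ (Set.range v) ≤ Fintype.card s' := finrank_range_le_card v
  have h5 : finrank ℂ (Submodule.span ℂ (Set.range v)) ≤ s := by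
    rw [Fintype.card_coe, hcard] at h4
    exact h4
  simp at h3
  omega

end Cfsg.Agent.Lib.DcLift
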