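import Mathlib
import Cfsg.Agent.Lib.RangeLat

/-!
# Local idempotents of `A[G]` and the associated lattices

`A` a valuation subring of an algebraically closed field `K`.  For nonzero `ε` in `K[G]` there is an idempotent `e` of
`A[G]`, with `e ε ≠ 0`, primitive in `A[G]`.  For an idempotent `ξ` of `K[G]` the `A`-span of `G ξ` has an `A`-basis among the `g ξ`,
giving a matrix representation with entries in `A`, with trace the character of `K[G] ξ`.  When `e ξ = ξ` the reduction has local endomorphisms.
-/

set_option autoImplicit false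
set_option linter.unusedSectionVars false
set_option linter.unusedVariables false

namespace Cfsg.Agent.Lib.RangeAlg

open Module Matrix Subgroup
open Cfsg.Agent.Lib.RangeMod Cfsg.Agent.Lib.RangeVal Cfsg.Agent.Lib.RangeLat

variable {K : Type*} [Field K] [IsAlgClosed K] {A : ValuationSubring K} {G : Type*} [Group G] [Fintype G] [DecidableEq G]

variable (A G) in
/-- The ring map `A[G] → K[G]`. -/
noncomputable def iota : MonoidAlgebra A G →+* MonoidAlgebra K G := MonoidAlgebra.mapRingHom G A.subtype

theorem iota_coeff (a : MonoidAlgebra A G) (g : G) : (iota A G a).coeff g = ((a.coeff g : A) : K) := by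
  simp [iota, MonoidAlgebra.coeff_mapRingHom]

theorem iota_single (g : G) (a : A) : iota A G (MonoidAlgebra.single g a) = MonoidAlgebra.single g (a : K) := by
  simp [iota, MonoidAlgebra.mapRingHom_single]

theorem iota_injective : Function.Injective (iota A G) := by
  intro a b h
  ext g
  have := congrArg (fun z => MonoidAlgebra.coeff z g) h
  simp only [iota_coeff] at this
  exact this

/-- expansion of an element -/
theorem sum_single {R : Type*} [Semiring R] (a : MonoidAlgebra R G) : a = ∑ g, MonoidAlgebra.single g (a.coeff g) := by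
  ext g
  rw [MonoidAlgebra.coeff_sum, Finsupp.finsetSum_apply, Finset.sum_eq_single g]
  · simp
  · intro h _ hh
    simp [MonoidAlgebra.coeff_single, Finsupp.single_apply, hh]
  · simp

/-- The rank of an element of `A[G]`: dimension of the left ideal it generates over `K`. -/
noncomputable def rk (a : MonoidAlgebra A G) : ℕ :=
  finrank K (LinearMap.range (LinearMap.mulRight K (iota A G a)))

theorem rk_lt {e f : MonoidAlgebra A G} (he : e * e = e) (hf : f * f = f) (h1 : e * f = f) (h2 : f * e = f) (hne : f ≠ e) :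
    rk f < rk e := by
  apply Submodule.finrank_lt_finrank_of_lt
  refine lt_of_le_of_ne ?_ ?_
  · rintro _ ⟨b, rfl⟩
    refine ⟨b * iota A G f, ?_⟩
    simp only [LinearMap.mulRight_apply]
    rw [mul_assoc, ← map_mul, h2]
  · intro heq
    have hmem : iota A G (e - f) ∈ LinearMap.range (LinearMap.mulRight K (iota A G e)) := by
      refine ⟨iota A G (e - f), ?_⟩
      simp only [LinearMap.mulRight_apply]
      rw [← map_mul, sub_mul, he, h2]
    rw [← heq] at hmem
    obtain ⟨b, hb⟩ := hmem
    simp only [LinearMap.mulRight_apply] at hb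
    have h3 : (e - f) * (e - f) = e - f := by
      rw [sub_mul, mul_sub, mul_sub, he, h1, h2, hf]
      abel
    have h4 : f * (e - f) = 0 := by
      rw [mul_sub, h2, hf, sub_self]
    have h5 : iota A G (e - f) = 0 := by
      calc iota A G (e - f) = iota A G ((e - f) * (e - f)) := by rw [h3]
        _ = iota A G (e - f) * iota A G (e - f) := map_mul _ _ _
        _ = b * iota A G f * iota A G (e - f) := by rw [hb]
        _ = b * iota A G (f * (e - f)) := by rw [mul_assoc, ← map_mul]
        _ = 0 := by rw [h4, map_zero, mul_zero]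
    have h6 : e - f = 0 := iota_injective (by rw [h5, map_zero])
    exact hne (sub_eq_zero.1 h6).symm

/-- Existence of local idempotents. -/
theorem exists_local_idem {ε : MonoidAlgebra K G} (hε : ε ≠ 0) :
    ∃ e : MonoidAlgebra A G, e * e = e ∧ iota A G e * ε ≠ 0 ∧
      ∀ f : MonoidAlgebra A G, f * f = f → e * f = f → f * e = f → f = 0 ∨ f = e := by
  classical
  let Sd : Set (MonoidAlgebra A G) := {e | e * e = e ∧ iota A G e * ε ≠ 0}
  have h1 : (1 : MonoidAlgebra A G) ∈ Sd := ⟨mul_one 1, by simpa using hε⟩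
  have hwf := (measure (rk (A := A) (G := G))).wf
  obtain ⟨e, he, hmin⟩ := hwf.has_min Sd ⟨1, h1⟩
  refine ⟨e, he.1, he.2, fun f hf h2 h3 => ?_⟩
  by_contra hcon
  push Not at hcon
  obtain ⟨hf0, hfe⟩ := hcon
  set f' := e - f with hf'
  have hf'2 : f' * f' = f' := by
    rw [hf', sub_mul, mul_sub, mul_sub, he.1, h2, h3, hf]
    abel
  have hf'1 : e * f' = f' := by rw [hf', mul_sub, he.1, h2]
  have hf'3 : f' * e = f' := by rw [hf', sub_mul, he.1, h3]
  have hf'e : f' ≠ e := by
    intro h
    apply hf0
    have : e - f = e := h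
    simpa using this
  have hlt1 := rk_lt he.1 hf h2 h3 hfe
  have hlt2 := rk_lt he.1 hf'2 hf'1 hf'3 hf'e
  have hsum : iota A G e * ε = iota A G f * ε + iota A G f' * ε := by
    rw [← add_mul, ← map_add, hf']
    simp
  by_cases h4 : iota A G f * ε = 0
  · have h5 : iota A G f' * ε ≠ 0 := by
      intro h6
      apply he.2
      rw [hsum, h4, h6, add_zero]
    exact hmin f' ⟨hf'2, h5⟩ hlt2
  · exact hmin f ⟨hf, h4⟩ hlt1

/-- `g ξ`. -/
noncomputable def bb (ξ : MonoidAlgebra K G) (g : G) : MonoidAlgebra K G := MonoidAlgebra.single g 1 * ξ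

theorem bb_mul (ξ : MonoidAlgebra K G) (g h : G) : bb ξ (g * h) = MonoidAlgebra.single g 1 * bb ξ h := by
  unfold bb
  rw [← mul_assoc, MonoidAlgebra.single_mul_single, mul_one]

variable (A) in
/-- A lattice: an `A`-basis of the span of the `g ξ` among the `g ξ`. -/
structure LatData (ξ : MonoidAlgebra K G) where
  S : Finset G
  c : G → G → A
  hind : ∀ f : G → K, ∑ i ∈ S, f i • bb ξ i = 0 → ∀ i ∈ S, f i = 0
  hc : ∀ g, bb ξ g = ∑ s ∈ S, (c g s : K) • bb ξ s

theorem nonempty_latData (ξ : MonoidAlgebra K G) : Nonempty (LatData A ξ) := by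
  classical
  obtain ⟨S, h1, h2⟩ := exists_basis_subfamily (A := A) (bb ξ)
  choose c hc using h2
  exact ⟨⟨S, c, h1, hc⟩⟩

namespace LatData

variable {ξ : MonoidAlgebra K G} (D : LatData A ξ)

theorem coord_eq {f f' : G → K} (h : ∑ s ∈ D.S, f s • bb ξ s = ∑ s ∈ D.S, f' s • bb ξ s) :
    ∀ s ∈ D.S, f s = f' s := by
  intro s hs
  have h1 : ∑ i ∈ D.S, (f - f') i • bb ξ i = 0 := by
    simp only [Pi.sub_apply, sub_smul]
    rw [Finset.sum_sub_distrib, h, sub_self]
  exact sub_eq_zero.1 (D.hind _ h1 s hs)

/-- Coordinates of `g ξ` as a vector on `S`. -/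
def vc (g : G) : D.S → A := fun i => D.c g i

/-- The matrix of `g`. -/
def matT (g : G) : Matrix D.S D.S A := Matrix.of fun i j => D.c (g * (j : G)) i

theorem vc_self {j : G} (hj : j ∈ D.S) : D.vc j = Pi.single ⟨j, hj⟩ 1 := by
  classical
  have h1 : ∑ s ∈ D.S, ((D.c j s : A) : K) • bb ξ s = ∑ s ∈ D.S, (if s = j then (1 : K) else 0) • bb ξ s := by
    rw [← D.hc j, Finset.sum_eq_single j]
    · simp
    · intro s _ hs
      simp [hs]
    · intro h
      exact absurd hj h
  ext i
  have h2 := D.coord_eq h1 i i.2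
  by_cases hij : i = ⟨j, hj⟩
  · subst hij
    simp only [vc, Pi.single_eq_same]
    simpa using h2
  · have hne : (i : G) ≠ j := fun h => hij (Subtype.ext h)
    simp only [vc, Pi.single_eq_of_ne hij]
    simpa [hne] using h2

theorem matT_mulVec (g h : G) : D.matT g *ᵥ D.vc h = D.vc (g * h) := by
  classical
  have h1 : bb ξ (g * h) = ∑ i ∈ D.S, (∑ t : D.S, ((D.c (g * t) i : A) : K) * ((D.c h t : A) : K)) • bb ξ i := by
    rw [bb_mul]
    conv_lhs => rw [D.hc h]
    rw [Finset.mul_sum]
    simp_rw [Finset.sum_smul]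
    rw [Finset.sum_comm, ← Finset.sum_coe_sort D.S]
    refine Finset.sum_congr rfl fun t _ => ?_
    have h2 : MonoidAlgebra.single g 1 * ((D.c h t : A) : K) • bb ξ t = ((D.c h t : A) : K) • bb ξ (g * t) := by
      rw [bb_mul, mul_smul_comm]
    rw [h2, D.hc (g * t), Finset.smul_sum]
    refine Finset.sum_congr rfl fun i _ => ?_
    rw [smul_smul, mul_comm]
  have h3 : ∑ s ∈ D.S, ((D.c (g * h) s : A) : K) • bb ξ s =
      ∑ i ∈ D.S, (∑ t : D.S, ((D.c (g * t) i : A) : K) * ((D.c h t : A) : K)) • bb ξ i := by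
    rw [← D.hc, h1]
  ext i
  have h4 := D.coord_eq h3 i i.2
  show ((∑ t : D.S, D.c (g * t) i * D.c h t : A) : K) = ((D.c (g * h) i : A) : K)
  rw [h4]
  push_cast
  rfl

theorem matT_col (g : G) (j : D.S) : (fun i => D.matT g i j) = D.vc (g * j) := rfl

theorem matT_mul (g h : G) : D.matT (g * h) = D.matT g * D.matT h := by
  ext i j
  have h1 := congrFun (D.matT_mulVec g (h * j)) i
  rw [← mul_assoc] at h1
  show ((D.vc (g * h * j) i : A) : K) = _
  rw [← h1]
  rfl

theorem matT_one : D.matT 1 = 1 := by
  classical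
  ext i j
  have h1 : D.matT 1 i j = D.vc j i := by
    show D.c (1 * (j : G)) i = D.c j i
    rw [one_mul]
  rw [h1, D.vc_self j.2]
  by_cases hij : i = j
  · subst hij
    simp
  · simp [Matrix.one_apply_ne hij, Pi.single_eq_of_ne hij]

/-- The representation as a monoid hom. -/
def repT : G →* Matrix D.S D.S A where
  toFun := D.matT
  map_one' := D.matT_one
  map_mul' := D.matT_mul

theorem repT_apply (g : G) : D.repT g = D.matT g := rfl

/-- The extension to the group algebra. -/
noncomputable def psi1 : MonoidAlgebra A G →ₐ[A] Matrix D.S D.S A := MonoidAlgebra.lift A _ G D.repT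

theorem psi1_single (g : G) (r : A) : D.psi1 (MonoidAlgebra.single g r) = r • D.matT g := by
  simp [psi1, MonoidAlgebra.lift_single, repT_apply]

theorem psi1_eq (a : MonoidAlgebra A G) : D.psi1 a = ∑ g, a.coeff g • D.matT g := by
  conv_lhs => rw [sum_single a]
  rw [map_sum]
  exact Finset.sum_congr rfl fun g _ => D.psi1_single g _

/-- The reduction of the extension to the group algebra. -/
noncomputable def psi : MonoidAlgebra A G →+* Module.End (IsLocalRing.ResidueField A) (D.S → IsLocalRing.ResidueField A) :=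
  rdM.comp D.psi1.toRingHom

theorem psi_rdc (a : MonoidAlgebra A G) (v : D.S → A) : D.psi a (rdc v) = rdc (D.psi1 a *ᵥ v) :=
  rdM_apply _ _

theorem psi_single (g : G) (r : A) (w : D.S → IsLocalRing.ResidueField A) :
    D.psi (MonoidAlgebra.single g r) w = res A r • redRep D.repT g w := by
  obtain ⟨v, rfl⟩ := exists_rdc w
  rw [psi_rdc, psi1_single, redRep_apply, repT_apply, Matrix.smul_mulVec]
  ext i
  simp

theorem comm_psi {φ : Module.End (IsLocalRing.ResidueField A) (D.S → IsLocalRing.ResidueField A)}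
    (h : ∀ g, φ * redRep D.repT g = redRep D.repT g * φ) (a : MonoidAlgebra A G) : φ * D.psi a = D.psi a * φ := by
  conv_lhs => rw [sum_single a]
  conv_rhs => rw [sum_single a]
  rw [map_sum, Finset.mul_sum, Finset.sum_mul]
  refine Finset.sum_congr rfl fun g _ => ?_
  refine LinearMap.ext fun w => ?_
  rw [Module.End.mul_apply, Module.End.mul_apply, psi_single, psi_single, map_smul, ← Module.End.mul_apply, h,
    Module.End.mul_apply]

/-- Cyclicity of the reduction. -/
theorem cyclic (w : D.S → IsLocalRing.ResidueField A) : ∃ a, D.psi a (rdc (D.vc 1)) = w := by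
  classical
  obtain ⟨u, rfl⟩ := exists_rdc w
  refine ⟨∑ j : D.S, MonoidAlgebra.single (j : G) (u j), ?_⟩
  rw [psi_rdc]
  congr 1
  rw [map_sum, Matrix.sum_mulVec]
  have h1 : ∀ j : D.S, D.psi1 (MonoidAlgebra.single (j : G) (u j)) *ᵥ D.vc 1 = u j • Pi.single j 1 := by
    intro j
    rw [psi1_single, Matrix.smul_mulVec, matT_mulVec, mul_one, D.vc_self j.2]
  simp_rw [h1]
  ext i
  simp [Finset.sum_apply, Pi.single_apply]

theorem psi_polynomial (c : MonoidAlgebra A G) (g : Polynomial A) :
    D.psi (Polynomial.aeval c g) = Polynomial.aeval (D.psi c) (g.map (res A)) := by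
  have halg : ∀ a : A, D.psi (algebraMap A _ a) = algebraMap (IsLocalRing.ResidueField A) _ (res A a) := by
    intro a
    refine LinearMap.ext fun w => ?_
    obtain ⟨v, rfl⟩ := exists_rdc w
    rw [psi_rdc]
    have h1 : D.psi1 (algebraMap A _ a) = algebraMap A _ a := D.psi1.commutes a
    rw [h1, Algebra.algebraMap_eq_smul_one, Matrix.smul_mulVec, Matrix.one_mulVec]
    ext i
    simp
  induction g using Polynomial.induction_on with
  | C a =>
    simp only [Polynomial.aeval_C, Polynomial.map_C]
    exact halg a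
  | add p q hp hq =>
    rw [map_add, map_add, Polynomial.map_add, map_add, hp, hq]
  | monomial n a _ =>
    simp only [map_mul, map_pow, Polynomial.aeval_C, Polynomial.aeval_X, Polynomial.map_mul, Polynomial.map_C,
      Polynomial.map_pow, Polynomial.map_X, halg]

theorem single_mul_eq (g : G) (r : K) (x : MonoidAlgebra K G) :
    MonoidAlgebra.single g r * x = r • (MonoidAlgebra.single g 1 * x) := by
  rw [← smul_mul_assoc, MonoidAlgebra.smul_single', mul_one]

theorem hind' (f : D.S → K) (h : ∑ s : D.S, f s • bb ξ s = 0) : f = 0 := by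
  classical
  let F : G → K := fun g => if hg : g ∈ D.S then f ⟨g, hg⟩ else 0
  have h1 : ∑ i ∈ D.S, F i • bb ξ i = 0 := by
    rw [← Finset.sum_coe_sort D.S]
    rw [← h]
    refine Finset.sum_congr rfl fun s _ => ?_
    simp [F]
  funext s
  have h2 := D.hind F h1 s s.2
  simpa [F] using h2

theorem coord_eq' {f f' : D.S → K} (h : ∑ s : D.S, f s • bb ξ s = ∑ s : D.S, f' s • bb ξ s) : f = f' := by
  have h1 : f - f' = 0 := by
    apply D.hind'
    simp only [Pi.sub_apply, sub_smul]
    rw [Finset.sum_sub_distrib, h, sub_self]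
  exact sub_eq_zero.1 h1

theorem bb_eq (g : G) : bb ξ g = ∑ s : D.S, ((D.vc g s : A) : K) • bb ξ s := by
  conv_lhs => rw [D.hc g]
  exact (Finset.sum_coe_sort D.S (fun s => ((D.c g s : A) : K) • bb ξ s)).symm

/-- Coordinates of `z ξ`. -/
noncomputable def crd (z : MonoidAlgebra A G) : D.S → A := ∑ g, z.coeff g • D.vc g

theorem crd_apply (z : MonoidAlgebra A G) (s : D.S) : D.crd z s = ∑ g, z.coeff g * D.vc g s := by
  simp [crd, Finset.sum_apply]

theorem iota_mul_eq (z : MonoidAlgebra A G) : iota A G z * ξ = ∑ s : D.S, ((D.crd z s : A) : K) • bb ξ s := by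
  classical
  conv_lhs => rw [sum_single z, map_sum, Finset.sum_mul]
  have h3 : ∀ g, iota A G (MonoidAlgebra.single g (z.coeff g)) * ξ = ((z.coeff g : A) : K) • bb ξ g := by
    intro g
    rw [iota_single, single_mul_eq]
    rfl
  simp_rw [h3]
  have h4 : ∀ g, ((z.coeff g : A) : K) • bb ξ g = ∑ s : D.S, (((z.coeff g * D.vc g s : A)) : K) • bb ξ s := by
    intro g
    conv_lhs => rw [D.bb_eq g]
    rw [Finset.smul_sum]
    refine Finset.sum_congr rfl fun s _ => ?_
    rw [smul_smul]
    rfl
  simp_rw [h4]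
  rw [Finset.sum_comm]
  refine Finset.sum_congr rfl fun s _ => ?_
  rw [← Finset.sum_smul, crd_apply]
  congr 1
  push_cast
  rfl

theorem crd_single (g : G) (r : A) : D.crd (MonoidAlgebra.single g r) = r • D.vc g := by
  classical
  unfold crd
  rw [Finset.sum_eq_single g]
  · simp
  · intro h _ hh
    simp [MonoidAlgebra.coeff_single, Finsupp.single_apply, Ne.symm hh]
  · simp

theorem crd_eq_of {z : MonoidAlgebra A G} {v : D.S → A} (h : iota A G z * ξ = ∑ s : D.S, ((v s : A) : K) • bb ξ s) :
    D.crd z = v := by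
  have h1 := D.coord_eq' (f := fun s => ((D.crd z s : A) : K)) (f' := fun s => ((v s : A) : K)) (by rw [← D.iota_mul_eq, h])
  funext s
  exact Subtype.ext (congrFun h1 s)

theorem psi1_mulVec_crd (a z : MonoidAlgebra A G) : D.psi1 a *ᵥ D.crd z = D.crd (a * z) := by
  classical
  have hsing : ∀ (g : G) (r : A) (z : MonoidAlgebra A G),
      D.psi1 (MonoidAlgebra.single g r) *ᵥ D.crd z = D.crd (MonoidAlgebra.single g r * z) := by
    intro g r z
    -- coordinates of `g z ξ`
    apply Eq.symm
    apply D.crd_eq_of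
    rw [map_mul, mul_assoc, D.iota_mul_eq, iota_single, Finset.mul_sum]
    have h1 : ∀ s : D.S, MonoidAlgebra.single g ((r : A) : K) * (((D.crd z s : A) : K) • bb ξ s) =
        ∑ t : D.S, ((r * D.crd z s * D.vc (g * s) t : A) : K) • bb ξ t := by
      intro s
      rw [single_mul_eq, mul_smul_comm, ← bb_mul, smul_smul, D.bb_eq (g * s), Finset.smul_sum]
      refine Finset.sum_congr rfl fun t _ => ?_
      rw [smul_smul]
      congr 1
    simp_rw [h1]
    rw [Finset.sum_comm]
    refine Finset.sum_congr rfl fun t _ => ?_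
    rw [← Finset.sum_smul]
    congr 1
    rw [psi1_single, Matrix.smul_mulVec]
    show _ = (((r • (D.matT g *ᵥ D.crd z)) t : A) : K)
    have h2 : (r • (D.matT g *ᵥ D.crd z)) t = ∑ s : D.S, r * D.crd z s * D.vc (g * s) t := by
      simp only [Pi.smul_apply, smul_eq_mul]
      show r * ∑ s : D.S, D.c (g * s) t * D.crd z s = _
      rw [Finset.mul_sum]
      refine Finset.sum_congr rfl fun s _ => ?_
      simp only [vc]
      ring
    rw [h2]
    push_cast
    rfl
  conv_lhs => rw [sum_single a]
  conv_rhs => rw [sum_single a]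
  rw [map_sum, Matrix.sum_mulVec, Finset.sum_mul]
  have hadd : ∀ (t : Finset G) (f : G → MonoidAlgebra A G), D.crd (∑ g ∈ t, f g) = ∑ g ∈ t, D.crd (f g) := by
    intro t f
    unfold crd
    simp only [MonoidAlgebra.coeff_sum, Finsupp.finsetSum_apply]
    simp_rw [Finset.sum_smul]
    rw [Finset.sum_comm]
  rw [hadd]
  exact Finset.sum_congr rfl fun g _ => hsing g _ z

theorem psi1_mulVec_one (a : MonoidAlgebra A G) : D.psi1 a *ᵥ D.vc 1 = D.crd a := by
  have h1 : D.vc 1 = D.crd 1 := by
    rw [MonoidAlgebra.one_def, crd_single, one_smul]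
  rw [h1, psi1_mulVec_crd, mul_one]

/-- **Local endomorphism ring** -/
theorem hloc {e : MonoidAlgebra A G} (he : e * e = e)
    (hprim : ∀ f : MonoidAlgebra A G, f * f = f → e * f = f → f * e = f → f = 0 ∨ f = e)
    (heξ : iota A G e * ξ = ξ) (φ : Module.End (IsLocalRing.ResidueField A) (D.S → IsLocalRing.ResidueField A))
    (hφ : ∀ g, φ * redRep D.repT g = redRep D.repT g * φ) : IsNilpotent φ ∨ Function.Surjective φ := by
  classical
  set w₀ := rdc (D.vc 1) with hw₀
  -- `e` fixes the generator
  have hcrde : D.crd e = D.vc 1 := by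
    apply D.crd_eq_of
    rw [heξ, ← D.bb_eq 1]
    simp [bb, ← MonoidAlgebra.one_def]
  have hev : D.psi e w₀ = w₀ := by
    rw [hw₀, psi_rdc, psi1_mulVec_one, hcrde]
  have hc := D.comm_psi hφ
  obtain ⟨a, ha⟩ := D.cyclic (φ w₀)
  set c := e * a * e with hcdef
  have hc1 : e * c = c := by rw [hcdef, ← mul_assoc, ← mul_assoc, he]
  have hc2 : c * e = c := by rw [hcdef, mul_assoc, he]
  have hcv : D.psi c w₀ = φ w₀ := by
    rw [hcdef, map_mul, map_mul, Module.End.mul_apply, Module.End.mul_apply, hev, ha, ← Module.End.mul_apply,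
      ← hc, Module.End.mul_apply, hev]
  rcases local_dichotomy (A := A) he hprim hc1 hc2 with ⟨d, hd⟩ | ⟨g, m, hg1, hg2⟩
  · right
    intro w
    obtain ⟨a', rfl⟩ := D.cyclic w
    have h1 : φ (D.psi d w₀) = w₀ := by
      rw [← Module.End.mul_apply, hc, Module.End.mul_apply, ← hcv, ← Module.End.mul_apply, ← map_mul, hd, hev]
    refine ⟨D.psi a' (D.psi d w₀), ?_⟩
    rw [← Module.End.mul_apply, hc, Module.End.mul_apply, h1]
  · left
    have h1 : (D.psi c) ^ m = 0 := by
      have h2 := D.psi_polynomial c g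
      rw [hg1, hg2, map_zero] at h2
      simpa using h2.symm
    have h3 : ∀ n : ℕ, (φ ^ n) w₀ = ((D.psi c) ^ n) w₀ := by
      intro n
      induction n with
      | zero => rfl
      | succ n ih =>
        rw [pow_succ', pow_succ', Module.End.mul_apply, Module.End.mul_apply, ih]
        have h4 : φ * (D.psi c ^ n) = (D.psi c ^ n) * φ := (show Commute φ (D.psi c) from hc c).pow_right n
        rw [← Module.End.mul_apply φ, h4, Module.End.mul_apply, ← hcv, ← Module.End.mul_apply (D.psi c ^ n),
          ← Module.End.mul_apply (D.psi c), ← pow_succ, ← pow_succ']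
    refine ⟨m, ?_⟩
    refine LinearMap.ext fun w => ?_
    obtain ⟨a', rfl⟩ := D.cyclic w
    have h5 : (φ ^ m) * D.psi a' = D.psi a' * (φ ^ m) := ((show Commute φ (D.psi a') from hc a').pow_left m)
    rw [← Module.End.mul_apply, h5, Module.End.mul_apply, h3, h1]
    simp

/-- **The character** of the lattice representation. -/
theorem chr_eq (hξ : ξ * ξ = ξ) (g : G) : chr D.repT g = ∑ h, ξ.coeff (h⁻¹ * g⁻¹ * h) := by
  classical
  -- the pairing
  have hpair : ∀ i t : D.S, ∑ h, (bb ξ (i : G)).coeff h * ((D.vc h t : A) : K) = if t = i then 1 else 0 := by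
    intro i
    have h1 : bb ξ (i : G) * ξ = bb ξ (i : G) := by
      unfold bb
      rw [mul_assoc, hξ]
    have h2 : bb ξ (i : G) = ∑ t : D.S, (∑ h, (bb ξ (i : G)).coeff h * ((D.vc h t : A) : K)) • bb ξ t := by
      conv_lhs => rw [← h1, sum_single (bb ξ (i : G)), Finset.sum_mul]
      have h3 : ∀ h, MonoidAlgebra.single h ((bb ξ (i : G)).coeff h) * ξ =
          ∑ t : D.S, ((bb ξ (i : G)).coeff h * ((D.vc h t : A) : K)) • bb ξ t := by
        intro h
        rw [single_mul_eq]
        change _ • bb ξ h = _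
        conv_lhs => rw [D.bb_eq h]
        rw [Finset.smul_sum]
        refine Finset.sum_congr rfl fun t _ => ?_
        rw [smul_smul]
      simp_rw [h3]
      rw [Finset.sum_comm]
      refine Finset.sum_congr rfl fun t _ => ?_
      rw [Finset.sum_smul]
    have h4 : bb ξ (i : G) = ∑ t : D.S, (if t = i then (1 : K) else 0) • bb ξ t := by
      rw [Finset.sum_eq_single i]
      · simp
      · intro s _ hs
        simp [hs]
      · simp
    have h5 := D.coord_eq' (f := fun t => ∑ h, (bb ξ (i : G)).coeff h * ((D.vc h t : A) : K))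
      (f' := fun t => if t = i then (1 : K) else 0) (by rw [← h2, ← h4])
    intro t
    exact congrFun h5 t
  have h6 : ∀ h, ξ.coeff (h⁻¹ * g⁻¹ * h) = (bb ξ (g * h)).coeff h := by
    intro h
    unfold bb
    rw [MonoidAlgebra.coeff_single_mul_apply, one_mul]
    congr 1
    group
  simp_rw [h6]
  have h7 : ∀ h, (bb ξ (g * h)).coeff h = ∑ i : D.S, ∑ t : D.S, ((D.matT g i t : A) : K) * (((D.vc h t : A) : K) * (bb ξ (i : G)).coeff h) := by
    intro h
    conv_lhs => rw [D.bb_eq (g * h)]
    rw [MonoidAlgebra.coeff_sum, Finsupp.finsetSum_apply]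
    refine Finset.sum_congr rfl fun i _ => ?_
    rw [MonoidAlgebra.coeff_smul_apply, smul_eq_mul, ← D.matT_mulVec]
    show ((∑ t : D.S, D.matT g i t * D.vc h t : A) : K) * _ = _
    push_cast
    rw [Finset.sum_mul]
    refine Finset.sum_congr rfl fun t _ => ?_
    rw [mul_assoc]
  simp_rw [h7]
  unfold chr
  rw [Finset.sum_comm]
  have h8 : (((D.repT g).trace : A) : K) = ∑ i : D.S, ((D.matT g i i : A) : K) := by
    simp [Matrix.trace, repT_apply]
  rw [h8]
  refine Finset.sum_congr rfl fun i _ => ?_
  rw [Finset.sum_comm]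
  have h9 : ∀ t : D.S, ∑ h, ((D.matT g i t : A) : K) * (((D.vc h t : A) : K) * (bb ξ (i : G)).coeff h) =
      ((D.matT g i t : A) : K) * (if t = i then 1 else 0) := by
    intro t
    rw [← hpair i t, Finset.mul_sum]
    refine Finset.sum_congr rfl fun h _ => ?_
    ring
  simp_rw [h9]
  simp

theorem crd_sum {ι : Type*} (t : Finset ι) (f : ι → MonoidAlgebra A G) : D.crd (∑ g ∈ t, f g) = ∑ g ∈ t, D.crd (f g) := by
  unfold crd
  simp only [MonoidAlgebra.coeff_sum, Finsupp.finsetSum_apply]
  simp_rw [Finset.sum_smul]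
  rw [Finset.sum_comm]

theorem crd_add (a b : MonoidAlgebra A G) : D.crd (a + b) = D.crd a + D.crd b := by
  unfold crd
  simp only [MonoidAlgebra.coeff_add, Finsupp.add_apply, add_smul, Finset.sum_add_distrib]

/-- Nonunit coefficients give nonunit coordinates. -/
theorem res_crd_eq_zero {r : MonoidAlgebra A G} (hr : ∀ g, res A (r.coeff g) = 0) (s : D.S) : res A (D.crd r s) = 0 := by
  rw [crd_apply, map_sum]
  refine Finset.sum_eq_zero fun g _ => ?_
  rw [map_mul, hr, zero_mul]

/-- The lattice of a genuine idempotent of `A[G]` is projective. -/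
theorem fx_le_im {p : ℕ} [hp : Fact p.Prime] [CharP (IsLocalRing.ResidueField A) p] {e : MonoidAlgebra A G}
    (he : e * e = e) (hξ : ξ = iota A G e) {x : G} (hx : orderOf x = p) :
    Fx (redRep D.repT) x ≤ ImN (redRep D.repT) x p := by
  classical
  intro w hw
  obtain ⟨v, rfl⟩ := exists_rdc w
  -- an element with coordinates `v`
  set z₀ : MonoidAlgebra A G := ∑ s : D.S, MonoidAlgebra.single (s : G) (v s) with hz₀
  have hcz₀ : D.crd z₀ = v := by
    rw [hz₀, D.crd_sum]
    simp_rw [D.crd_single]
    funext t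
    rw [Finset.sum_apply, Finset.sum_eq_single t]
    · simp [D.vc_self t.2]
    · intro s _ hs
      simp [D.vc_self s.2, Pi.single_eq_of_ne (Ne.symm hs)]
    · simp
  have hξξ : ξ * ξ = ξ := by rw [hξ, ← map_mul, he]
  set b : MonoidAlgebra A G := z₀ * e with hb
  have hib : ∀ z : MonoidAlgebra A G, iota A G (z * e) = ∑ s : D.S, ((D.crd z s : A) : K) • bb ξ s := by
    intro z
    rw [map_mul, ← hξ, D.iota_mul_eq]
  have hcb : D.crd b = v := by
    apply D.crd_eq_of
    rw [hb, map_mul, mul_assoc, ← hξ, hξξ, D.iota_mul_eq, hcz₀]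
  -- coefficients of `bb`
  have hbbc : ∀ (s : D.S) (g : G), (bb ξ (s : G)).coeff g = ((e.coeff ((s : G)⁻¹ * g) : A) : K) := by
    intro s g
    have hξc : ∀ y, ξ.coeff y = ((e.coeff y : A) : K) := fun y => by rw [hξ, iota_coeff]
    rw [bb, MonoidAlgebra.coeff_single_mul_apply, one_mul, hξc]
  -- the coefficient condition
  have hfix : ∀ g, res A (b.coeff (x⁻¹ * g)) = res A (b.coeff g) := by
    intro g
    have hw' : rdc (D.matT x *ᵥ v) = rdc v := by
      have h1 : redRep D.repT x (rdc v) = rdc v := by
        have h2 : (redRep D.repT x - 1) (rdc v) = 0 := hw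
        simpa [sub_eq_zero] using h2
      rw [redRep_apply] at h1
      exact h1
    have hcx : D.crd (MonoidAlgebra.single x 1 * z₀) = D.matT x *ᵥ v := by
      rw [← D.psi1_mulVec_crd, hcz₀, D.psi1_single, one_smul]
    have h3 : iota A G ((MonoidAlgebra.single x 1 * z₀) * e) = ∑ s : D.S, (((D.matT x *ᵥ v) s : A) : K) • bb ξ s := by
      rw [hib, hcx]
    have h4 : iota A G (z₀ * e) = ∑ s : D.S, ((v s : A) : K) • bb ξ s := by
      rw [hib, hcz₀]
    have hcoeff : ((((MonoidAlgebra.single x 1 * b).coeff g : A) : K)) = ((∑ s : D.S, (D.matT x *ᵥ v) s * e.coeff ((s : G)⁻¹ * g) : A) : K) := by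
      have h5 : MonoidAlgebra.single x 1 * b = (MonoidAlgebra.single x 1 * z₀) * e := by
        rw [hb, mul_assoc]
      rw [h5, ← iota_coeff, h3, MonoidAlgebra.coeff_sum, Finsupp.finsetSum_apply]
      push_cast
      refine Finset.sum_congr rfl fun s _ => ?_
      rw [MonoidAlgebra.coeff_smul_apply, hbbc]
      rfl
    have hcoeff2 : (((b.coeff g : A) : K)) = ((∑ s : D.S, v s * e.coeff ((s : G)⁻¹ * g) : A) : K) := by
      rw [hb, ← iota_coeff, h4, MonoidAlgebra.coeff_sum, Finsupp.finsetSum_apply]
      push_cast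
      refine Finset.sum_congr rfl fun s _ => ?_
      rw [MonoidAlgebra.coeff_smul_apply, hbbc]
      rfl
    have h6 : (MonoidAlgebra.single x 1 * b).coeff g = b.coeff (x⁻¹ * g) := by
      rw [MonoidAlgebra.coeff_single_mul_apply, one_mul]
    rw [← h6, Subtype.ext hcoeff, Subtype.ext hcoeff2, map_sum, map_sum]
    refine Finset.sum_congr rfl fun s _ => ?_
    have h7 := congrFun hw' s
    simp only [rdc_apply] at h7
    rw [RingHom.map_mul, RingHom.map_mul, h7]
  -- a function fixed by the translations is a norm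
  let σ : zpowers x →* Module.End (IsLocalRing.ResidueField A) (G → IsLocalRing.ResidueField A) :=
    { toFun := fun u => LinearMap.funLeft _ _ (fun g => (u : G)⁻¹ * g)
      map_one' := by
        ext g y
        simp [LinearMap.funLeft_apply, Pi.single_apply]
      map_mul' := by
        intro u u'
        refine LinearMap.ext fun φ => ?_
        funext y
        simp [LinearMap.funLeft_apply, mul_assoc] }
  have hσ : ∀ (u : zpowers x) (φ : G → IsLocalRing.ResidueField A) (y : G), σ u φ y = φ ((u : G)⁻¹ * y) := fun u φ y => rfl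
  let F : G → IsLocalRing.ResidueField A := fun g => res A (b.coeff g)
  have hFu : ∀ (u : zpowers x) (g : G), F ((u : G) * g) = F g := by
    have hfin : IsOfFinOrder x := isOfFinOrder_of_finite x
    have h1 : ∀ (n : ℕ) (g : G), F (x ^ n * g) = F g := by
      intro n
      induction n with
      | zero => simp
      | succ n ih =>
        intro g
        rw [pow_succ, mul_assoc, ih]
        have h2 := hfix (x * g)
        simp only [inv_mul_cancel_left] at h2
        exact h2.symm
    intro u g
    obtain ⟨n, hn⟩ := hfin.mem_powers_iff_mem_zpowers.2 u.2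
    have : (u : G) = x ^ n := hn.symm
    rw [this, h1]
  have hF : F ∈ LinearMap.range (∑ u : zpowers x, σ u) := by
    have h1 := RangeMod.orbit_sum_mem (k := IsLocalRing.ResidueField A) (H := zpowers x) (Ω := G) σ
      (fun g => Pi.single g (F g)) (by
        intro u q
        funext y
        rw [hσ]
        by_cases hy : y = u • q
        · subst hy
          have h2 : (u : G)⁻¹ * (u • q) = q := by
            show (u : G)⁻¹ * ((u : G) * q) = q
            group
          rw [h2]
          simp only [Pi.single_eq_same]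
          exact hFu u q
        · have h2 : (u : G)⁻¹ * y ≠ q := by
            intro h3
            apply hy
            show y = (u : G) * q
            rw [← h3]
            group
          simp [Pi.single_eq_of_ne hy, Pi.single_eq_of_ne h2]) Finset.univ (fun _ _ _ => Finset.mem_univ _)
      (by
        intro q _ u hu
        have h2 : (u : G) * q = q := hu
        apply Subtype.ext
        simpa using h2)
    have h3 : ∑ q : G, (Pi.single q (F q) : G → IsLocalRing.ResidueField A) = F := by
      funext y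
      rw [Finset.sum_apply, Finset.sum_eq_single y]
      · simp
      · intro q _ hq
        exact Pi.single_eq_of_ne (Ne.symm hq) _
      · simp
    rwa [h3] at h1
  obtain ⟨φ, hφ⟩ := hF
  -- lift
  have hlift : ∀ g, ∃ a : A, res A a = φ g := fun g => IsLocalRing.residue_surjective _
  choose a ha using hlift
  set b₂ : MonoidAlgebra A G := ∑ g, MonoidAlgebra.single g (a g) with hb₂
  have hb₂c : ∀ g, b₂.coeff g = a g := by
    intro g
    rw [hb₂, MonoidAlgebra.coeff_sum, Finsupp.finsetSum_apply, Finset.sum_eq_single g]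
    · simp
    · intro h _ hh
      simp [MonoidAlgebra.coeff_single, hh]
    · simp
  set NN : MonoidAlgebra A G := ∑ u : zpowers x, MonoidAlgebra.single (u : G) 1 with hNN
  set r : MonoidAlgebra A G := b - NN * b₂ with hr
  have hrc : ∀ g, res A (r.coeff g) = 0 := by
    intro g
    have h1 : (NN * b₂).coeff g = ∑ u : zpowers x, a ((u : G)⁻¹ * g) := by
      rw [hNN, Finset.sum_mul, MonoidAlgebra.coeff_sum, Finsupp.finsetSum_apply]
      refine Finset.sum_congr rfl fun u _ => ?_
      rw [MonoidAlgebra.coeff_single_mul_apply, one_mul, hb₂c]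
    have h2 : F g = ∑ u : zpowers x, φ ((u : G)⁻¹ * g) := by
      rw [← hφ, LinearMap.sum_apply, Finset.sum_apply]
      rfl
    rw [hr]
    have h3 : (b - NN * b₂).coeff g = b.coeff g - (NN * b₂).coeff g := by
      have h4 : b = (b - NN * b₂) + NN * b₂ := by abel
      conv_rhs => rw [h4, MonoidAlgebra.coeff_add, Finsupp.add_apply]
      abel
    rw [h3, map_sub, h1, map_sum]
    simp_rw [ha]
    rw [sub_eq_zero]
    exact h2
  -- conclusion
  have hv : v = D.psi1 NN *ᵥ D.crd b₂ + D.crd r := by
    rw [psi1_mulVec_crd, ← crd_add, hr]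
    have : NN * b₂ + (b - NN * b₂) = b := by abel
    rw [this, hcb]
  have hNred : D.psi NN = nrm (redRep D.repT) x p := by
    rw [← sum_zpowers_eq hx, hNN, map_sum]
    refine Finset.sum_congr rfl fun u _ => ?_
    refine LinearMap.ext fun w => ?_
    rw [psi_single, map_one, one_smul]
  refine ⟨rdc (D.crd b₂), ?_⟩
  rw [← hNred, psi_rdc]
  conv_rhs => rw [hv]
  funext s
  simp only [rdc_apply, Pi.add_apply, map_add]
  rw [D.res_crd_eq_zero hrc s, add_zero]

end LatData

end Cfsg.Agent.Lib.RangeAlg
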