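import Mathlib
import Cfsg.Agent.Lib.DcLift
import Cfsg.Agent.Lib.RangeAlg

/-!
# Group-level preparations for the local data at an element of order `p`
-/

set_option autoImplicit false
set_option linter.unusedSectionVars false
set_option linter.unusedVariables false
set_option linter.unusedSimpArgs false

namespace Cfsg.Agent.Lib.DcGrpA

open Cfsg Module MonoidAlgebra IsLocalRing Polynomial Subgroup
open Cfsg.Agent.Lib.BlockResidue Cfsg.Agent.Lib.BlockBrandt Cfsg.Agent.Lib.BlockQ Cfsg.Agent.Lib.BlockIdem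
open Cfsg.Agent.Lib.BlkBasic Cfsg.Agent.Lib.DcPackA Cfsg.Agent.Lib.BrauerPair Cfsg.Agent.Lib.RangeMod

universe u

/-- In a cyclic group the elements with `a ^ p = 1` are powers of an element of order `p`. -/
theorem mem_zpowers_of_pow {C : Type*} [Group C] [Finite C] [IsCyclic C] {a b : C} {p : ℕ} (hp : 0 < p)
    (ha : a ^ p = 1) (hb : orderOf b = p) : a ∈ zpowers b := by
  classical
  letI : Fintype C := Fintype.ofFinite C
  let S : Finset C := Finset.univ.filter fun x => x ^ p = 1
  let T : Finset C := Finset.univ.filter fun x => x ∈ zpowers b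
  have hS : S.card ≤ p := IsCyclic.card_pow_eq_one_le hp
  have hT : T.card = p := by
    have : T.card = Nat.card (zpowers b) := by
      rw [Nat.card_eq_fintype_card, Fintype.card_subtype]
    rw [this, Nat.card_zpowers, hb]
  have hsub : T ⊆ S := by
    intro x hx
    simp only [T, S, Finset.mem_filter, Finset.mem_univ, true_and] at hx ⊢
    obtain ⟨n, rfl⟩ := mem_zpowers_iff.1 hx
    rw [← zpow_natCast, ← zpow_mul, mul_comm, zpow_mul, zpow_natCast, ← hb, pow_orderOf_eq_one, one_zpow]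
  have heq : T = S := Finset.eq_of_subset_of_card_le hsub (by omega)
  have h1 : a ∈ S := by simp [S, ha]
  rw [← heq] at h1
  simpa [T] using h1

/-- The same, for a cyclic subgroup. -/
theorem mem_zpowers_of_pow' {G : Type*} [Group G] [Finite G] {D : Subgroup G} (hD : IsCyclic D) {a b : G} {p : ℕ} (hp : 0 < p)
    (haD : a ∈ D) (hbD : b ∈ D) (ha : a ^ p = 1) (hb : orderOf b = p) : a ∈ zpowers b := by
  have h1 : (⟨a, haD⟩ : D) ∈ zpowers (⟨b, hbD⟩ : D) :=
    mem_zpowers_of_pow hp (Subtype.ext (by simpa using ha))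
      (by rw [Subgroup.orderOf_mk]; exact hb)
  obtain ⟨n, hn⟩ := mem_zpowers_iff.1 h1
  exact mem_zpowers_iff.2 ⟨n, by simpa using congrArg Subtype.val hn⟩

variable {G : Type*} [Group G] [Finite G]

/-- A generator of the quotient. -/
theorem exists_t0 {p : ℕ} [hp : Fact p.Prime] {u : G} (hu : orderOf u = p) {T : Subgroup G}
    (hTN : T ≤ normalizer (zpowers u : Set G)) :
    ∃ t₀ ∈ T, (∀ t ∈ T, ∃ n : ℕ, ∃ h ∈ centralizer (zpowers u : Set G), t = h * t₀ ^ n) ∧
      t₀ ^ (centralizer (zpowers u : Set G)).relIndex T ∈ centralizer (zpowers u : Set G) ∧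
      (centralizer (zpowers u : Set G)).relIndex T ∣ p - 1 ∧
      ∀ n : ℕ, t₀ ^ n ∈ centralizer (zpowers u : Set G) → (centralizer (zpowers u : Set G)).relIndex T ∣ n := by
  classical
  let P := zpowers u
  let θ : T →* MulAut P := P.normalizerMonoidHom.comp (Subgroup.inclusion hTN)
  have hcard : Nat.card P = p := by
    show Nat.card (zpowers u) = p
    rw [Nat.card_zpowers, hu]
  haveI : Fact (Nat.card P).Prime := ⟨by rw [hcard]; exact hp.out⟩
  haveI : IsCyclic P := by
    show IsCyclic (zpowers u)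
    infer_instance
  haveI : IsCyclic (MulAut P) := by
    have e := IsCyclic.mulAutMulEquiv P
    exact isCyclic_of_surjective e.symm.toMonoidHom e.symm.surjective
  have hker : ∀ t : T, θ t = 1 ↔ (t : G) ∈ centralizer (P : Set G) := by
    intro t
    have h1 : (Subgroup.inclusion hTN t) ∈ P.normalizerMonoidHom.ker ↔ (t : G) ∈ centralizer (P : Set G) := by
      rw [normalizerMonoidHom_ker, Subgroup.mem_subgroupOf]
      rfl
    rw [← h1, MonoidHom.mem_ker]
    rfl
  have hidx : (centralizer (P : Set G)).relIndex T = Nat.card θ.range := by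
    have h1 : θ.ker = (centralizer (P : Set G)).subgroupOf T := by
      ext t
      rw [MonoidHom.mem_ker, hker, Subgroup.mem_subgroupOf]
    unfold Subgroup.relIndex
    rw [← h1, Subgroup.index_ker]
  obtain ⟨⟨g, ⟨t₀, rfl⟩⟩, hgen⟩ := IsCyclic.exists_generator (α := θ.range)
  refine ⟨t₀, t₀.2, fun t ht => ?_, ?_, ?_, fun n hn => ?_⟩
  · have h1 := hgen ⟨θ ⟨t, ht⟩, ⟨_, rfl⟩⟩
    have h2 : (⟨θ ⟨t, ht⟩, ⟨_, rfl⟩⟩ : θ.range) ∈ Submonoid.powers (⟨θ t₀, ⟨t₀, rfl⟩⟩ : θ.range) :=
      mem_powers_iff_mem_zpowers.2 h1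
    obtain ⟨a, ha⟩ := h2
    refine ⟨a, t * ((t₀ : G) ^ a)⁻¹, ?_, by group⟩
    have h3 : θ t₀ ^ a = θ ⟨t, ht⟩ := by
      have := congrArg Subtype.val ha
      simpa using this
    have h4 : θ (⟨t, ht⟩ * (t₀ ^ a)⁻¹) = 1 := by
      rw [map_mul, map_inv, map_pow, h3, mul_inv_cancel]
    have h5 := (hker _).1 h4
    simpa using h5
  · have h1 : (⟨θ t₀, ⟨t₀, rfl⟩⟩ : θ.range) ^ Nat.card θ.range = 1 := pow_card_eq_one'
    have h2 : θ (t₀ ^ Nat.card θ.range) = 1 := by
      rw [map_pow]
      have := congrArg Subtype.val h1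
      simpa using this
    have h3 := (hker _).1 h2
    rw [hidx]
    simpa using h3
  · rw [hidx]
    have h1 : Nat.card θ.range ∣ Nat.card (MulAut P) := Subgroup.card_subgroup_dvd_card _
    have h2 : Nat.card (MulAut P) = p - 1 := by
      rw [IsCyclic.card_mulAut, hcard, Nat.totient_prime hp.out]
    rwa [h2] at h1
  · have h1 : θ (t₀ ^ n) = 1 := (hker (t₀ ^ n)).2 (by simpa using hn)
    have h2 : (⟨θ t₀, ⟨t₀, rfl⟩⟩ : θ.range) ^ n = 1 := by
      apply Subtype.ext
      rw [map_pow] at h1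
      simpa using h1
    rw [hidx, ← orderOf_eq_card_of_forall_mem_zpowers hgen]
    exact orderOf_dvd_of_pow_eq_one h2

open scoped Classical in
/-- Counting the cosets contained in an intermediate subgroup. -/
theorem card_filter_out {H T : Subgroup G} [Fintype (G ⧸ H)] (hHT : H ≤ T) :
    (Finset.univ.filter (fun q : G ⧸ H => q.out ∈ T)).card = H.relIndex T := by
  classical
  have hT : ∀ q : G ⧸ H, q.out ∈ T ↔ ∃ t : T, ((t : G) : G ⧸ H) = q := by
    intro q
    constructor
    · intro h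
      exact ⟨⟨q.out, h⟩, QuotientGroup.out_eq' q⟩
    · rintro ⟨t, rfl⟩
      have h1 : (t : G)⁻¹ * ((t : G) : G ⧸ H).out ∈ H := by
        rw [← QuotientGroup.eq]
        exact (QuotientGroup.out_eq' _).symm
      have h2 := T.mul_mem t.2 (hHT h1)
      simpa using h2
  let E₀ : (T ⧸ H.subgroupOf T) → G ⧸ H := Quotient.map' (fun t : T => (t : G)) (by
    intro a b h
    rw [QuotientGroup.leftRel_apply] at h ⊢
    exact h)
  have hE : ∀ t : T, E₀ (t : T ⧸ H.subgroupOf T) = ((t : G) : G ⧸ H) := fun t => rfl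
  have hE₀ : Function.Injective E₀ := by
    intro a b
    obtain ⟨t, rfl⟩ := QuotientGroup.mk_surjective a
    obtain ⟨t', rfl⟩ := QuotientGroup.mk_surjective b
    intro h
    rw [hE, hE, QuotientGroup.eq] at h
    rw [QuotientGroup.eq]
    exact h
  let E : (T ⧸ H.subgroupOf T) ↪ G ⧸ H := ⟨E₀, hE₀⟩
  rw [Subgroup.relIndex, Subgroup.index]
  letI : Fintype (T ⧸ H.subgroupOf T) := Fintype.ofFinite _
  rw [Nat.card_eq_fintype_card, ← Finset.card_univ]
  have h3 : Finset.univ.filter (fun q : G ⧸ H => q.out ∈ T) = Finset.univ.map E := by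
    ext q
    simp only [Finset.mem_filter, Finset.mem_univ, true_and, Finset.mem_map]
    rw [hT]
    constructor
    · rintro ⟨t, rfl⟩
      exact ⟨(t : T ⧸ H.subgroupOf T), rfl⟩
    · rintro ⟨a, rfl⟩
      obtain ⟨t, rfl⟩ := QuotientGroup.mk_surjective a
      exact ⟨t, rfl⟩
  rw [h3, Finset.card_map]

section Iter

variable {R A : Type*} [CommSemiring R] [Semiring A] [Algebra R A] {H : Type*} [Group H]

theorem coeff_iter_domCongr (τ : H ≃* H) (n : ℕ) (a : MonoidAlgebra A H) (y : H) :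
    ((⇑(domCongr R A τ))^[n] a).coeff y = a.coeff ((⇑τ.symm)^[n] y) := by
  induction n generalizing y with
  | zero => rfl
  | succ n ih =>
    rw [Function.iterate_succ_apply', coeff_domCongr, ih, ← Function.iterate_succ_apply, Function.iterate_succ_apply]

end Iter

section Abs

variable {k W : Type*} [Field k] [AddCommGroup W] [Module k W]

/-- The projective case: the socle of the block part is the top. -/
theorem proj_top {F X τ' : Module.End k W} {q c p : ℕ} (v : Polynomial k) (hFF : F * F = F) (hXF : X * F = F * X)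
    (hτF : τ' * F = F * τ') (hrel : τ' * F = aeval X (Polynomial.X ^ c * v) * F)
    (hc1 : 1 ≤ c) (hcp : c * (p - 1) = q - c) (hc2 : 2 * c ≤ q) (hp : 2 ≤ p)
    (hfx : LinearMap.ker τ' ≤ LinearMap.range (τ' ^ (p - 1))) :
    LinearMap.ker X ⊓ LinearMap.range F ≤ (LinearMap.range F).map (X ^ (q - 1)) := by
  have hFw : ∀ w ∈ LinearMap.range F, F w = w := by
    rintro _ ⟨w, rfl⟩
    rw [← Module.End.mul_apply, hFF]
  have hFv : F * aeval X v = aeval X v * F := Cfsg.Agent.Lib.DcMorita.comm_aeval hXF.symm v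
  -- `τ' ^ n` on the image of `F`
  have hpow : ∀ n : ℕ, τ' ^ n * F = (aeval X (Polynomial.X ^ c * v)) ^ n * F := by
    intro n
    induction n with
    | zero => simp
    | succ n ih =>
      have h1 : Commute (aeval X (Polynomial.X ^ c * v)) F := (Cfsg.Agent.Lib.DcMorita.comm_aeval hXF.symm _).symm
      calc τ' ^ (n + 1) * F = τ' ^ n * (τ' * F) := by rw [pow_succ, mul_assoc]
        _ = τ' ^ n * (aeval X (Polynomial.X ^ c * v) * F) := by rw [hrel]
        _ = τ' ^ n * (F * aeval X (Polynomial.X ^ c * v)) := by rw [h1.eq]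
        _ = (τ' ^ n * F) * aeval X (Polynomial.X ^ c * v) := (mul_assoc _ _ _).symm
        _ = aeval X (Polynomial.X ^ c * v) ^ n * F * aeval X (Polynomial.X ^ c * v) := by rw [ih]
        _ = aeval X (Polynomial.X ^ c * v) ^ n * (F * aeval X (Polynomial.X ^ c * v)) := mul_assoc _ _ _
        _ = aeval X (Polynomial.X ^ c * v) ^ n * (aeval X (Polynomial.X ^ c * v) * F) := by rw [h1.eq]
        _ = _ := by rw [pow_succ, mul_assoc]
  -- elements killed by `X ^ c`
  have key : ∀ y ∈ LinearMap.range F, (X ^ c) y = 0 → ∃ y' ∈ LinearMap.range F, (X ^ (q - c)) y' = y := by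
    intro y hy hXy
    have h1 : τ' y = 0 := by
      have h2 : (τ' * F) y = 0 := by
        rw [hrel, Module.End.mul_apply, hFw y hy, mul_comm (Polynomial.X ^ c) v, map_mul, map_pow, aeval_X,
          Module.End.mul_apply, hXy, map_zero]
      rwa [Module.End.mul_apply, hFw y hy] at h2
    obtain ⟨a, ha⟩ := hfx (LinearMap.mem_ker.2 h1)
    have h3 : F ((τ' ^ (p - 1)) a) = y := by rw [ha, hFw y hy]
    have h4 : (τ' ^ (p - 1) * F) a = y := by
      rw [← h3, ← Module.End.mul_apply]
      congr 1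
      exact ((show Commute τ' F from hτF).pow_left _).eq
    rw [hpow] at h4
    have h5 : aeval X (Polynomial.X ^ c * v) ^ (p - 1) = X ^ (q - c) * aeval X v ^ (p - 1) := by
      rw [map_mul, map_pow, aeval_X]
      have h7 : Commute X (aeval X v) := Cfsg.Agent.Lib.DcMorita.comm_aeval rfl v
      have h6 : Commute (X ^ c) (aeval X v) := h7.pow_left c
      rw [h6.mul_pow, ← pow_mul, hcp]
    rw [h5, mul_assoc] at h4
    refine ⟨(aeval X v ^ (p - 1) * F) a, ?_, h4⟩
    refine ⟨(aeval X v ^ (p - 1)) a, ?_⟩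
    rw [Module.End.mul_apply, ← Module.End.mul_apply F]
    have h6 : F * aeval X v ^ (p - 1) = aeval X v ^ (p - 1) * F := ((show Commute F (aeval X v) from hFv).pow_right _).eq
    rw [h6, Module.End.mul_apply]
  rintro w ⟨hw1, hw2⟩
  have hw1' : X w = 0 := hw1
  have hc0 : ∀ n : ℕ, 1 ≤ n → (X ^ n) w = 0 := by
    intro n hn
    obtain ⟨t, rfl⟩ : ∃ t, n = t + 1 := ⟨n - 1, by omega⟩
    rw [pow_succ, Module.End.mul_apply, hw1', map_zero]
  obtain ⟨y, hy, hyw⟩ := key w hw2 (hc0 c hc1)
  -- the second step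
  have hXF' : ∀ n : ℕ, ∀ z ∈ LinearMap.range F, (X ^ n) z ∈ LinearMap.range F := by
    rintro n _ ⟨z, rfl⟩
    refine ⟨(X ^ n) z, ?_⟩
    rw [← Module.End.mul_apply, ← Module.End.mul_apply]
    congr 1
    exact ((show Commute X F from hXF).pow_left _).eq.symm
  set y₁ := (X ^ (q - 2 * c + 1)) y with hy₁
  have hy₁F : y₁ ∈ LinearMap.range F := hXF' _ _ hy
  have hy₁c : (X ^ c) y₁ = 0 := by
    rw [hy₁, ← Module.End.mul_apply, ← pow_add]
    have h1 : c + (q - 2 * c + 1) = 1 + (q - c) := by omega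
    rw [h1, pow_add, Module.End.mul_apply, hyw, pow_one]
    exact hw1'
  obtain ⟨y₂, hy₂, hy₂w⟩ := key y₁ hy₁F hy₁c
  refine ⟨y₂, hy₂, ?_⟩
  calc (X ^ (q - 1)) y₂ = (X ^ (c - 1) * X ^ (q - c)) y₂ := by
        rw [← pow_add]
        congr 2
        omega
    _ = (X ^ (c - 1)) y₁ := by rw [Module.End.mul_apply, hy₂w]
    _ = (X ^ (c - 1) * X ^ (q - 2 * c + 1)) y := by rw [hy₁, Module.End.mul_apply]
    _ = (X ^ (q - c)) y := by
        rw [← pow_add]
        congr 2
        omega
    _ = w := hyw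

end Abs

end Cfsg.Agent.Lib.DcGrpA
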