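import Mathlib
import Cfsg.Agent.Lib.DcGrpA
import Cfsg.Agent.Lib.CycRankOne
import Cfsg.Agent.Lib.BrauerCen

/-!
# The local data at an element of order `p`: comparison of the isotypic components in a lattice
-/

set_option autoImplicit false
set_option linter.unusedSectionVars false
set_option linter.unusedVariables false
set_option linter.unusedSimpArgs false
set_option linter.style.haveILetI false

namespace Cfsg.Agent.Lib.DcGrp

open Cfsg Module MonoidAlgebra IsLocalRing Polynomial Subgroup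
open Cfsg.Agent.Lib.BlockResidue Cfsg.Agent.Lib.BlockBrandt Cfsg.Agent.Lib.BlockQ Cfsg.Agent.Lib.BlockIdem
open Cfsg.Agent.Lib.BlkBasic Cfsg.Agent.Lib.DcPackA Cfsg.Agent.Lib.BrauerPair Cfsg.Agent.Lib.RangeMod
open Cfsg.Agent.Lib.DcGrpA Cfsg.Agent.Lib.DcLift Cfsg.Agent.Lib.DcLocal Cfsg.Agent.Lib.DcOp Cfsg.Agent.Lib.DcSand
open Cfsg.Agent.Lib.RangeLat Cfsg.Agent.Lib.RangeVal

universe u

variable {G : Type u} [Group G] [Fintype G] {p : ℕ} [hpF : Fact p.Prime] {M : Ideal AlgInt} [hMp : M.IsPrime]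
  {V : ValuationSubring ℂ}

local notation "𝐂[" R "]" => Subgroup.centralizer ((R : Subgroup G) : Set G)
local notation "𝐍[" R "]" => Subgroup.normalizer ((R : Subgroup G) : Set G)

noncomputable local instance fintypeSubDc {A : Type*} [Group A] [Finite A] (K : Subgroup A) : Fintype K :=
  Fintype.ofFinite K

noncomputable local instance fintypeQuotDc {A : Type*} [Group A] [Finite A] (K : Subgroup A) : Fintype (A ⧸ K) :=
  Fintype.ofFinite _

theorem coe_iter_conj {H : Subgroup G} {t : G} (ht : t ∈ normalizer (H : Set G)) (n : ℕ) (y : H) :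
    (((⇑(conjAut H t ht).symm)^[n] y : H) : G) = (t ^ n)⁻¹ * y * t ^ n := by
  induction n generalizing y with
  | zero => simp
  | succ n ih =>
    rw [Function.iterate_succ_apply', coe_conjAut_symm, ih]
    group

theorem coe_iter_conj' {H : Subgroup G} {t : G} (ht : t ∈ normalizer (H : Set G)) (n : ℕ) (y : H) :
    (((⇑(conjAut H t ht))^[n] y : H) : G) = t ^ n * y * (t ^ n)⁻¹ := by
  induction n generalizing y with
  | zero => simp
  | succ n ih =>
    rw [Function.iterate_succ_apply', coe_conjAut, ih]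
    group

/-- Iterates of a power falling in the subgroup fix central elements. -/
theorem iter_fix_central {R : Type*} [CommRing R] {H : Subgroup G} {t : G}
    (ht : t ∈ normalizer (H : Set G)) {n : ℕ} (hn : t ^ n ∈ H) {a : MonoidAlgebra R H} (hc : ∀ b, a * b = b * a) :
    (⇑(domCongr R R (conjAut H t ht)))^[n] a = a := by
  refine ext_coeff (G := H) fun y => ?_
  rw [coeff_iter_domCongr]
  have h1 : (⇑(conjAut H t ht).symm)^[n] y = (⟨t ^ n, hn⟩ : H)⁻¹ * y * ((⟨t ^ n, hn⟩ : H)⁻¹)⁻¹ := by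
    apply Subtype.ext
    rw [coe_iter_conj]
    simp
  rw [h1, class_of_central hc]

/-- Twisting by a conjugation is compatible with iterates. -/
theorem l_iter {H : Subgroup G} {t : G} (ht : t ∈ normalizer (H : Set G)) {l : IrrCharacter H → ℂ} {z : ℂ}
    (hl : ∀ χ, l (twist (conjAut H t ht).symm χ) = z * l χ) (n : ℕ) (ψ : IrrCharacter H) :
    l ψ = z ^ n * l ((twist (conjAut H t ht))^[n] ψ) := by
  induction n generalizing ψ with
  | zero => simp
  | succ n ih =>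
    have h1 := hl (twist (conjAut H t ht) ψ)
    rw [twist_twist_symm] at h1
    rw [Function.iterate_succ_apply, pow_succ', mul_assoc, ← ih, ← h1]

theorem mem_twist_symm_iff {K : Subgroup G} {σ : K ≃* K} {f : Set (IrrCharacter K)} (h : twistSet σ f = f)
    (χ : IrrCharacter K) : twist σ.symm χ ∈ f ↔ χ ∈ f := by
  constructor
  · intro h1
    rw [← h]
    exact ⟨_, h1, twist_symm_twist σ χ⟩
  · intro h1
    rw [← h] at h1
    obtain ⟨ψ, hψ, rfl⟩ := h1
    rwa [twist_twist_symm]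

theorem twist_conj_inner {K : Subgroup G} {h : G} (hh : h ∈ K) (ht : h ∈ normalizer (K : Set G)) (χ : IrrCharacter K) :
    twist (conjAut K h ht) χ = χ := by
  apply Subtype.ext
  funext c
  rw [twist_apply]
  have h1 := Cfsg.Agent.Lib.CharBasic.isClassFunction_of_isCharacter
    (Cfsg.Agent.Lib.CharBasic.IsIrrCharacter.isCharacter χ.2) c (⟨h, hh⟩ : K)⁻¹
  have h2 : (conjAut K h ht).symm c = (⟨h, hh⟩ : K)⁻¹ * c * ((⟨h, hh⟩ : K)⁻¹)⁻¹ := by
    apply Subtype.ext
    simp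
  rw [h2]
  exact h1

theorem twist_conj_pow {K : Subgroup G} {t : G} (ht : t ∈ normalizer (K : Set G)) (n : ℕ)
    (hn : t ^ n ∈ normalizer (K : Set G)) (χ : IrrCharacter K) :
    twist (conjAut K (t ^ n) hn) χ = (twist (conjAut K t ht))^[n] χ := by
  induction n generalizing χ with
  | zero => exact twist_conj_inner (by rw [pow_zero]; exact K.one_mem) hn χ
  | succ n ih =>
    have hn' : t ^ n ∈ normalizer (K : Set G) := pow_mem ht n
    have h1 : conjAut K (t ^ (n + 1)) hn = conjAut K t ht * conjAut K (t ^ n) hn' := by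
      have h2 : conjAut K (t * t ^ n) (by rw [← pow_succ']; exact hn) = conjAut K t ht * conjAut K (t ^ n) hn' :=
        conjAut_mul K t (t ^ n) ht hn' _
      rw [← h2]
      ext c
      simp only [coe_conjAut, pow_succ']
    rw [h1, twist_mul, ih hn', Function.iterate_succ_apply']

/-- **The local package.** -/
theorem grp_main (hM : IsPModular p M) (hV1 : ∀ z, MemLocalRing M z → z ∈ V)
    (hV2 : ∀ z, MemLocalIdeal M z → z ∈ V.nonunits) (hpV : ((p : ℕ) : Kf V) = 0)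
    {u : G} (hu : orderOf u = p) {f : Set (IrrCharacter 𝐂[zpowers u])} (hf : IsPBlock M f) (hl : blockRank p f = 1)
    {D' : Subgroup 𝐂[zpowers u]} (hD' : IsDefectGroup p M f D') (hcyc : IsCyclic D')
    (huD' : (⟨u, fun v hv => by
      obtain ⟨n, rfl⟩ := mem_zpowers_iff.1 hv
      exact ((Commute.refl u).zpow_right n).eq.symm⟩ : 𝐂[zpowers u]) ∈ D')
    {T' : Subgroup G} (hT' : ∀ g : G, g ∈ T' ↔ (g ∈ 𝐍[zpowers u] ∧ StabilizesBlock 𝐂[zpowers u] f g))
    (hq2 : 2 ≤ (bF f).card) {c : ℕ} (hcp : c * p = (bF f).card)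
    {t₀ : G} (ht₀ : t₀ ∈ T') (hgen : ∀ t ∈ T', ∃ n : ℕ, ∃ h ∈ 𝐂[zpowers u], t = h * t₀ ^ n)
    (hte : t₀ ^ (𝐂[zpowers u]).relIndex T' ∈ 𝐂[zpowers u]) (hdvd : (𝐂[zpowers u]).relIndex T' ∣ p - 1) :
    ∃ (g : ℕ) (l : IrrCharacter 𝐂[zpowers u] → ℂ) (zc : ℂ), 0 < g ∧ (∀ χ ∈ f, charDegree (χ : 𝐂[zpowers u] → ℂ) = g) ∧
      zc ≠ 0 ∧ (∀ (h₀ : t₀ ∈ normalizer ((𝐂[zpowers u] : Subgroup G) : Set G)) (χ : IrrCharacter 𝐂[zpowers u]),
        l (twist (conjAut 𝐂[zpowers u] t₀ h₀).symm χ) = zc * l χ) ∧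
      (∀ {I : Type u} [Fintype I] [DecidableEq I] (T : G →* Matrix I I V),
        (∀ Ψ : Module.End (Kf V) (I → Kf V), (∀ g, Ψ * redRep T g = redRep T g * Ψ) → ∃ κ : Kf V, IsNilpotent (Ψ - κ • 1)) →
        ∀ ν ∈ f, ∀ ν' ∈ f, finrank ℂ (Uu T 𝐂[zpowers u] ν) ≤ finrank ℂ (Uu T 𝐂[zpowers u] ν') + g) ∧
      (∀ {I : Type u} [Fintype I] [DecidableEq I] (T : G →* Matrix I I V),
        Fx (redRep T) u ≤ ImN (redRep T) u p →
        ∀ ν ∈ f, ∀ ν' ∈ f, finrank ℂ (Uu T 𝐂[zpowers u] ν) ≤ finrank ℂ (Uu T 𝐂[zpowers u] ν')) ∧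
      (∀ ν ∈ f, ∀ ν' ∈ f, ν ≠ ν' → l ν ≠ l ν') ∧
      (∀ (t : G) (ht : t ∈ normalizer ((𝐂[zpowers u] : Subgroup G) : Set G)), t ∈ T' → ∀ ν,
        twist (conjAut 𝐂[zpowers u] t ht) ν = ν → t ∈ 𝐂[zpowers u] ∨ l ν = 0) := by
  classical
  have hp := hpF.out
  haveI : IsAlgClosed (Kf V) := isAlgClosed_residue V
  haveI hchark : CharP (Kf V) p := (CharP.charP_iff_prime_eq_zero hp).2 hpV
  have huH : u ∈ 𝐂[zpowers u] := fun v hv => by
    obtain ⟨n, rfl⟩ := mem_zpowers_iff.1 hv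
    exact ((Commute.refl u).zpow_right n).eq.symm
  set u' : 𝐂[zpowers u] := ⟨u, huH⟩ with hu'def
  have hu' : orderOf u' = p := by rw [hu'def, Subgroup.orderOf_mk]; exact hu
  have huc : ∀ y : 𝐂[zpowers u], u' * y = y * u' := fun y => Subtype.ext (y.2 u (mem_zpowers u))
  have hTN : T' ≤ 𝐍[zpowers u] := fun g hg => ((hT' g).1 hg).1
  have hHN : 𝐂[zpowers u] ≤ 𝐍[zpowers u] := fun g hg => Cfsg.Agent.Lib.BrauerCen.mem_normalizer_of_mem_centralizer hg
  have hHT : 𝐂[zpowers u] ≤ T' := fun g hg => (hT' g).2 ⟨hHN hg, Cfsg.Agent.Lib.BrauerStab.stabilizes_of_mem_centralizer hg f⟩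
  set e := 𝐂[zpowers u].relIndex T' with he
  have hp1 : 0 < p - 1 := by have := hp.two_le; omega
  have he1 : 1 ≤ e := Nat.pos_of_dvd_of_pos hdvd hp1
  have hek : (e : Kf V) ≠ 0 := by
    rw [Ne, CharP.cast_eq_zero_iff (Kf V) p]
    intro h
    have h1 := Nat.le_of_dvd hp1 (h.trans hdvd)
    omega
  have hNN : ∀ {g : G}, g ∈ 𝐍[zpowers u] → g ∈ normalizer (𝐂[zpowers u] : Set G) :=
    fun hg => Cfsg.Agent.Lib.BrauerMax.normalizer_le_normalizer_centralizer _ hg
  have ht₀N : t₀ ∈ normalizer (𝐂[zpowers u] : Set G) := hNN (hTN ht₀)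
  set τ := conjAut 𝐂[zpowers u] t₀ ht₀N with hτ
  obtain ⟨ê, hê, hêc⟩ := exists_liftZ (V := V) hV1 (blkInd_mem_Zc hf)
  have hstab : twistSet τ f = f := twistSet_eq_of_stabilizes hf ((hT' t₀).1 ht₀).2
  have hiotaσ : ∀ σ : 𝐂[zpowers u] ≃* 𝐂[zpowers u], twistSet σ f = f → domCongr V V σ ê = ê := by
    intro σ hσ
    apply iotaV_injective
    rw [iota_domCongr, hê, domCongr_Phi]
    congr 1
    funext χ
    by_cases hχ : χ ∈ f
    · rw [blkInd_of_mem hχ, blkInd_of_mem ((mem_twist_symm_iff hσ χ).2 hχ)]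
    · rw [blkInd_of_not_mem hχ, blkInd_of_not_mem (fun h => hχ ((mem_twist_symm_iff hσ χ).1 h))]
  have hσê : domCongr V V τ ê = ê := hiotaσ τ hstab
  set f' : MonoidAlgebra (Kf V) 𝐂[zpowers u] := rhoV V ê with hf'
  have hσf : domCongr (Kf V) (Kf V) τ f' = f' := by rw [hf', ← rho_domCongr, hσê]
  have hee : ê * ê = ê := by
    apply iotaV_injective
    rw [map_mul, hê, ← Phi_mul, blkInd_mul_self]
  have hff : f' * f' = f' := by rw [hf', ← map_mul, hee]
  have hfc : ∀ a, f' * a = a * f' := rho_central hêc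
  obtain ⟨χ₀, hχ₀⟩ : ∃ χ₀, χ₀ ∈ f := by
    obtain ⟨χ₀, h1⟩ := id hf
    exact ⟨χ₀, by rw [h1]; exact mem_blockOf_self χ₀⟩
  obtain ⟨g, ε, x, X', Y', ζ, v, hg, hεε, hε0, hεf, hfε, hYX, hXY, hXε, hεY, hxc, hxf, hcorx, hxq, hxq1, hζ0, hζn, hσx,
    hv, hfree, hdeg⟩ := exists_localOp hV1 hV2 hpV hf hl (Nat.card 𝐂[zpowers u]) hê hêc
      (fun W _ _ _ R h1 h2 => Cfsg.Agent.Lib.CycRankOne.module_bound hM hV2 hpV hf hD' hcyc (rhoV V ê) ê hê rfl W R h1 h2)
      hχ₀ hu' huc τ hσf he1 hek (fun y hy => iter_fix_central ht₀N hte hy) hq2 hcp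
  obtain ⟨y, z, hyc, hye, hyx, hzn, hzζ, hσy⟩ := exists_eigen_lift τ hee hσê hêc hxc hxf hσx he1 hek hζn
    (fun a ha => iter_fix_central ht₀N hte ha)
  have hyq : rhoV V y ^ (bF f).card = 0 := by rw [hyx]; exact hxq
  have hyq1 : rhoV V y ^ ((bF f).card - 1) ≠ 0 := by rw [hyx]; exact hxq1
  obtain ⟨l, zz, hy, hl0, hzz⟩ := exists_lambda hê hyc hye hyq (by omega)
  have hltw : ∀ χ, l (twist τ.symm χ) = (z : ℂ) * l χ := by
    intro χ
    have h1 : iotaV V (domCongr V V τ y) = iotaV V (z • y) := by rw [hσy]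
    rw [iota_domCongr, hy, domCongr_Phi, iotaV_smul, hy, ← Phi_smul] at h1
    exact congrFun (Phi_injective h1) χ
  have hc1 : 1 ≤ c := by
    by_contra h0
    have : c = 0 := by omega
    rw [this, zero_mul] at hcp
    omega
  have hcp' : c * (p - 1) = (bF f).card - c := by
    rw [← hcp]
    obtain ⟨s, rfl⟩ : ∃ s, p = s + 1 := ⟨p - 1, by have := hp.two_le; omega⟩
    simp only [Nat.add_sub_cancel]
    rw [mul_add, mul_one, Nat.add_sub_cancel]
  have hc2 : 2 * c ≤ (bF f).card := by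
    rw [← hcp, mul_comm 2 c]
    exact Nat.mul_le_mul_left _ hp.two_le
  have hSupp : ∀ (y : 𝐂[zpowers u]) (g : G), f'.coeff y ≠ 0 → g⁻¹ * u * g ∈ 𝐂[zpowers u] → (g⁻¹ * u * g) * (y : G) = (y : G) * (g⁻¹ * u * g) →
      g ∈ normalizer (zpowers u : Set G) := by
    intro y g hy hw hwy
    have hz : ¬ MemLocalIdeal M (blockCoeff f y) := by
      intro hmem
      apply hy
      have h3 := hV2 _ hmem
      have h4 : ((ê.coeff y : V) : ℂ) = blockCoeff f y := by
        rw [← coeff_iotaV, hê, coeff_Phi, blockCoeff_eq_invF']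
      rw [← h4] at h3
      rw [hf', coeff_rhoV]
      exact (residue_eq_zero_iff' V _).2 h3
    have hle := Cfsg.Agent.Lib.BlockDefect.IsDefectGroup.sylow_conj hM hf hD' hz
    set w : 𝐂[zpowers u] := ⟨g⁻¹ * u * g, hw⟩ with hwdef
    have hwp : w ^ p = 1 := by
      apply Subtype.ext
      show (g⁻¹ * u * g) ^ p = 1
      rw [← hu]
      have h5 : (g⁻¹ * u * g) ^ orderOf u = g⁻¹ * u ^ orderOf u * g := by
        have := map_pow (MulAut.conj g⁻¹).toMonoidHom u (orderOf u)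
        simpa [MulAut.conj_apply] using this.symm
      rw [h5, pow_orderOf_eq_one]
      group
    obtain ⟨s, hs⟩ := hle (zpowers w) (by
        apply IsPGroup.of_card (n := 1)
        rw [Nat.card_zpowers, pow_one]
        exact orderOf_eq_prime hwp (by
          intro h1
          have h2 : g⁻¹ * u * g = 1 := congrArg Subtype.val h1
          have h3 : u = 1 := by
            have : u = g * (g⁻¹ * u * g) * g⁻¹ := by group
            rw [this, h2]; group
          rw [h3, orderOf_one] at hu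
          exact hp.one_lt.ne hu))
      (by
        rw [zpowers_le, Subgroup.mem_centralizer_singleton_iff]
        exact Subtype.ext hwy)
    have h6 : s * w * s⁻¹ ∈ D' := hs ⟨w, mem_zpowers w, rfl⟩
    have h7 : (s * w * s⁻¹) ^ p = 1 := by
      have := map_pow (MulAut.conj s).toMonoidHom w p
      simp only [MulEquiv.coe_toMonoidHom, MulAut.conj_apply] at this
      rw [← this, hwp]
      group
    have h8 : s * w * s⁻¹ ∈ zpowers u' := mem_zpowers_of_pow' hcyc hp.pos h6 huD' h7 hu'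
    obtain ⟨i, hi⟩ := mem_zpowers_iff.1 h8
    have h9 : w = u' ^ i := by
      have h10 : w = s⁻¹ * (s * w * s⁻¹) * s := by group
      rw [h10, ← hi]
      have h11 : Commute s⁻¹ (u' ^ i) := ((show Commute u' s⁻¹ from huc s⁻¹).zpow_left i).symm
      rw [h11.eq]
      group
    have h12 : g⁻¹ * u * g ∈ zpowers u := mem_zpowers_iff.2 ⟨i, by
      have := congrArg Subtype.val h9
      simpa using this.symm⟩
    exact mem_normalizer_of_conj hu h12
  have hconj : ∀ g ∈ normalizer (zpowers u : Set G), ∃ τ' : 𝐂[zpowers u] ≃* 𝐂[zpowers u], ∀ h : 𝐂[zpowers u], (τ' h : G) = g * h * g⁻¹ :=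
    fun g hg => ⟨conjAut 𝐂[zpowers u] g (hNN hg), fun h => rfl⟩
  have hout : ∀ (g : G) (τ' : 𝐂[zpowers u] ≃* 𝐂[zpowers u]), (∀ h : 𝐂[zpowers u], (τ' h : G) = g * h * g⁻¹) → g ∈ normalizer (zpowers u : Set G) → g ∉ T' →
      f' * domCongr (Kf V) (Kf V) τ' f' = 0 := by
    intro g τ' hτ' hg hgT
    have h1 : τ' = conjAut 𝐂[zpowers u] g (hNN hg) := by
      ext c
      exact hτ' c
    have hne : twistSet τ' f ≠ f := by
      intro h2
      apply hgT
      rw [hT']
      refine ⟨hg, ?_⟩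
      rw [h1] at h2
      exact stabilizes_of_twistSet_eq (hNN hg) h2
    have hdis : Disjoint (twistSet τ' f) f := by
      rcases Cfsg.Agent.Lib.BlockIdem.eq_or_disjoint_of_isPBlock (isPBlock_twistSet τ' hf) hf with h2 | h2
      · exact absurd h2 hne
      · exact h2
    have h3 : ê * domCongr V V τ' ê = 0 := by
      apply iotaV_injective
      rw [map_mul, iota_domCongr, hê, domCongr_Phi, ← Phi_mul, map_zero]
      have h4 : blkInd f * (fun χ => blkInd f (twist τ'.symm χ)) = 0 := by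
        funext χ
        by_cases hχ : χ ∈ f
        · have h5 : twist τ'.symm χ ∉ f := by
            intro h6
            have h7 : χ ∈ twistSet τ' f := ⟨_, h6, twist_symm_twist τ' χ⟩
            exact Set.disjoint_left.1 hdis h7 hχ
          simp [blkInd_of_not_mem h5]
        · simp [blkInd_of_not_mem hχ]
      rw [h4]
      have h0 : Phi (0 : IrrCharacter 𝐂[zpowers u] → ℂ) = 0 := by
        have := Phi_smul (0 : ℂ) (0 : IrrCharacter 𝐂[zpowers u] → ℂ)
        simpa using this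
      exact h0
    rw [hf', ← rho_domCongr, ← map_mul, h3, map_zero]
  have hcount : ((Finset.univ.filter (fun q : G ⧸ 𝐂[zpowers u] => q.out ∈ T')).card : Kf V) ≠ 0 := by
    rw [card_filter_out hHT]
    exact hek
  have hrelU : (single u' (1 : Kf V) - 1) * f' = aeval x (X ^ c * v) * f' := hv
  have hzc0 : ((z : V) : ℂ) ≠ 0 := by
    intro h0
    have h1 : ((z : V) : ℂ) ^ (𝐂[zpowers u]).relIndex T' = 1 := by
      have := congrArg Subtype.val hzn
      simpa using this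
    rw [h0, zero_pow (by omega)] at h1
    exact zero_ne_one h1
  refine ⟨g, l, (z : ℂ), hg, hdeg, hzc0, fun _ χ => hltw χ, ?_, ?_, ?_, ?_⟩
  · intro I _ _ T hloc ν hν ν' hν'
    have hb := op_bound (g := g) (q := (bF f).card) (c := c) (p := p) (redRep T) 𝐂[zpowers u] f' ε x X' Y' ζ v u t₀ e hεε hff hεf hfε hfc hxc hxf
      hYX hXY hXε hεY hcorx hxq τ (fun h => rfl) hσx hσf hζ0 hu huH hHN hSupp T' hTN hgen hout hconj he1 hek hte hcount hloc hrelU
      hc1 hcp' hc2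
    have h1 := finrank_redSub (A := V) (Uu T 𝐂[zpowers u] ν)
    have h1' := finrank_redSub (A := V) (Uu T 𝐂[zpowers u] ν')
    have h2 := Submodule.finrank_mono (redSub_le T hê hy hν (hzz ν hν).1 (hzz ν hν).2)
    have h3 := Submodule.finrank_mono (map_le_redSub T hê hy hν' zz (fun χ h => (hzz χ h).1) (fun χ h => (hzz χ h).2))
    rw [hyx, ← hf'] at h2 h3
    omega
  · intro I _ _ T hfx ν hν ν' hν'
    set ρ := redRep T with hρ
    have hXf : ext ρ 𝐂[zpowers u] x * ext ρ 𝐂[zpowers u] f' = ext ρ 𝐂[zpowers u] f' * ext ρ 𝐂[zpowers u] x := by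
      rw [← map_mul, ← map_mul, hfc]
    have hFF : ext ρ 𝐂[zpowers u] f' * ext ρ 𝐂[zpowers u] f' = ext ρ 𝐂[zpowers u] f' := by rw [← map_mul, hff]
    have hρu : ρ u = ext ρ 𝐂[zpowers u] (single u' 1) := by
      rw [ext_single, one_smul]
    have hτF : (ρ u - 1) * ext ρ 𝐂[zpowers u] f' = ext ρ 𝐂[zpowers u] f' * (ρ u - 1) := by
      rw [hρu, ← map_one (ext ρ 𝐂[zpowers u]), ← map_sub, ← map_mul, ← map_mul, hfc]
    have hrelE : (ρ u - 1) * ext ρ 𝐂[zpowers u] f' = aeval (ext ρ 𝐂[zpowers u] x) (X ^ c * v) * ext ρ 𝐂[zpowers u] f' := by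
      rw [Polynomial.aeval_algHom_apply, ← map_mul, ← hrelU, map_mul, map_sub, ext_single, one_smul, map_one]
    have hfx' : LinearMap.ker (ρ u - 1) ≤ LinearMap.range ((ρ u - 1) ^ (p - 1)) := by
      have h4 := nrm_eq (p := p) ρ u
      unfold ImN at hfx
      rw [h4] at hfx
      exact hfx
    have hb := proj_top (q := (bF f).card) (c := c) (p := p) v hFF hXf hτF hrelE hc1 hcp' hc2 hp.two_le hfx'
    have h1 := finrank_redSub (A := V) (Uu T 𝐂[zpowers u] ν)
    have h1' := finrank_redSub (A := V) (Uu T 𝐂[zpowers u] ν')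
    have h2 := Submodule.finrank_mono (redSub_le T hê hy hν (hzz ν hν).1 (hzz ν hν).2)
    have h3 := Submodule.finrank_mono (map_le_redSub T hê hy hν' zz (fun χ h => (hzz χ h).1) (fun χ h => (hzz χ h).2))
    rw [hyx, ← hf', ← hρ] at h2 h3
    have h6 := le_trans h2 (le_trans (Submodule.finrank_mono hb) h3)
    rw [h1, h1'] at h6
    exact h6
  · intro ν hν ν' hν' hne
    exact lambda_injOn hê hy hye hyq hyq1 hq2 hν hν' hne
  · intro t ht htT ν hν
    obtain ⟨n, h, hh, rfl⟩ := hgen t htT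
    by_cases hl1 : l ν = 0
    · exact Or.inr hl1
    left
    have hhN : h ∈ normalizer (𝐂[zpowers u] : Set G) := hNN (hHN hh)
    have hnN : t₀ ^ n ∈ normalizer (𝐂[zpowers u] : Set G) := pow_mem ht₀N n
    have h1 : conjAut 𝐂[zpowers u] (h * t₀ ^ n) ht = conjAut 𝐂[zpowers u] h hhN * conjAut 𝐂[zpowers u] (t₀ ^ n) hnN := conjAut_mul 𝐂[zpowers u] h (t₀ ^ n) hhN hnN ht
    rw [h1, twist_mul, twist_conj_inner hh hhN, twist_conj_pow ht₀N n hnN] at hν
    have h2 := l_iter ht₀N hltw n ν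
    rw [hν] at h2
    have h3 : ((z : V) : ℂ) ^ n = 1 := by
      have h4 : (((z : V) : ℂ) ^ n - 1) * l ν = 0 := by
        rw [sub_mul, one_mul, ← h2, sub_self]
      rcases mul_eq_zero.1 h4 with h5 | h5
      · exact sub_eq_zero.1 h5
      · exact absurd h5 hl1
    have h5 : z ^ n = 1 := Subtype.ext (by simpa using h3)
    have h6 : ζ ^ n = 1 := by rw [← hzζ, ← map_pow, h5, map_one]
    have hcoe : (((⇑τ)^[n] u' : 𝐂[zpowers u]) : G) = t₀ ^ n * u * (t₀ ^ n)⁻¹ := coe_iter_conj' ht₀N n u'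
    have hmem : (⇑τ)^[n] u' ∈ zpowers u' := by
      have h7 : t₀ ^ n ∈ 𝐍[zpowers u] := pow_mem (hTN ht₀) n
      have h8 : t₀ ^ n * u * (t₀ ^ n)⁻¹ ∈ zpowers u := (mem_normalizer_iff.1 h7 u).1 (mem_zpowers u)
      obtain ⟨i, hi⟩ := mem_zpowers_iff.1 h8
      refine mem_zpowers_iff.2 ⟨i, Subtype.ext ?_⟩
      rw [hcoe, ← hi]
      simp [hu'def]
    have h9 := hfree n h6 hmem
    have h10 : t₀ ^ n * u * (t₀ ^ n)⁻¹ = u := by
      rw [← hcoe, h9]
    have h11 : t₀ ^ n ∈ 𝐂[zpowers u] := by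
      rw [Cfsg.Agent.Lib.BlockSecond.centralizer_zpowers_eq, mem_centralizer_singleton_iff]
      rw [mul_inv_eq_iff_eq_mul] at h10
      exact h10
    exact 𝐂[zpowers u].mul_mem hh h11

end Cfsg.Agent.Lib.DcGrp
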