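import Mathlib
import Cfsg.Agent.Lib.RangeAlg
import Cfsg.Agent.Lib.BlkBasic
import Cfsg.Agent.Lib.BrauerPair

/-!
# Characters of the lattices

A valuation subring of `ℂ` dominating a maximal ideal `M` of the algebraic integers.  The central idempotents
`eps B`, and the characters of `ℂ[G] e ε_B` in terms of `d_χ = χ(e)`.
-/

set_option autoImplicit false
set_option linter.unusedSectionVars false
set_option linter.unusedVariables false
set_option linter.style.haveILetI false

namespace Cfsg.Agent.Lib.RangeChar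

open Module Matrix Cfsg
open Cfsg.Agent.Lib.RangeMod Cfsg.Agent.Lib.RangeVal Cfsg.Agent.Lib.RangeLat Cfsg.Agent.Lib.RangeAlg
open Cfsg.Agent.Lib.CharBasic Cfsg.Agent.Lib.BlkBasic Cfsg.Agent.Lib.BlockIdem

/-- A valuation subring dominating `M`. -/
structure Dom (M : Ideal AlgInt) (A : ValuationSubring ℂ) : Prop where
  int : ∀ a : AlgInt, (a : ℂ) ∈ A
  nonunit : ∀ a ∈ M, (a : ℂ) ∈ A.nonunits

variable {M : Ideal AlgInt} {p : ℕ} {A : ValuationSubring ℂ}

theorem exists_dom (hM : IsPModular p M) : ∃ A : ValuationSubring ℂ, Dom M A := by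
  obtain ⟨hp, hmax, hpM⟩ := hM
  let A₀ : Subring ℂ := (AlgInt).toSubring
  let φ : A₀ →+* AlgInt :=
    { toFun := fun a => ⟨a.1, a.2⟩
      map_one' := rfl
      map_mul' := fun _ _ => rfl
      map_zero' := rfl
      map_add' := fun _ _ => rfl }
  let I : Ideal A₀ := Ideal.comap φ M
  have hI : I ≠ ⊤ := by
    intro h
    have h1 : (1 : A₀) ∈ I := by rw [h]; trivial
    have h2 : φ 1 ∈ M := h1
    rw [map_one] at h2
    exact hmax.ne_top ((Ideal.eq_top_iff_one M).2 h2)
  obtain ⟨B, hB1, hB2⟩ := Ideal.image_subset_nonunits_valuationSubring I hI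
  refine ⟨B, ⟨fun a => hB1 a.2, fun a ha => ?_⟩⟩
  apply hB2
  refine ⟨⟨a.1, a.2⟩, ?_, rfl⟩
  exact ha

namespace Dom

variable (hD : Dom M A)
include hD

theorem val_lt {a : AlgInt} (ha : a ∈ M) : A.valuation (a : ℂ) < 1 :=
  (ValuationSubring.mem_nonunits_iff A).1 (hD.nonunit a ha)

theorem val_le (a : AlgInt) : A.valuation (a : ℂ) ≤ 1 :=
  (ValuationSubring.valuation_le_one_iff A _).2 (hD.int a)

theorem val_eq {a : AlgInt} (hmax : M.IsMaximal) (ha : a ∉ M) : A.valuation (a : ℂ) = 1 := by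
  obtain ⟨r, c, hc, hrc⟩ := hmax.exists_inv ha
  have h1 : (r : ℂ) * (a : ℂ) + (c : ℂ) = 1 := by
    have := congrArg (Subtype.val) hrc
    simpa using this
  have h2 : A.valuation ((r : ℂ) * (a : ℂ)) = 1 := by
    have h3 : (r : ℂ) * (a : ℂ) = 1 - (c : ℂ) := by rw [← h1]; ring
    rw [h3]
    have h4 := hD.val_lt hc
    have h5 : A.valuation (1 : ℂ) = 1 := map_one _
    have : A.valuation (1 - (c : ℂ)) = A.valuation (1 : ℂ) :=
      Valuation.map_sub_eq_of_lt_left _ (by rw [h5]; exact h4)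
    rw [this, h5]
  rw [map_mul] at h2
  have h7 : A.valuation (r : ℂ) * A.valuation (a : ℂ) ≤ 1 * A.valuation (a : ℂ) := mul_le_mul' (hD.val_le r) le_rfl
  rw [h2, one_mul] at h7
  exact le_antisymm (hD.val_le a) h7

theorem mem_of_local (hmax : M.IsMaximal) {z : ℂ} (h : MemLocalRing M z) : z ∈ A := by
  obtain ⟨a, b, hb, rfl⟩ := h
  rw [← ValuationSubring.valuation_le_one_iff, map_div₀, hD.val_eq hmax hb, div_one]
  exact hD.val_le a

theorem nonunit_of_local (hmax : M.IsMaximal) {z : ℂ} (h : MemLocalIdeal M z) : z ∈ A.nonunits := by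
  obtain ⟨a, b, ha, hb, rfl⟩ := h
  rw [ValuationSubring.mem_nonunits_iff A, map_div₀, hD.val_eq hmax hb, div_one]
  exact hD.val_lt ha

theorem res_eq_zero_of_local (hmax : M.IsMaximal) {z : A} (h : MemLocalIdeal M (z : ℂ)) : res A z = 0 := by
  rw [res_eq_zero_iff]
  intro hu
  have h1 := hD.nonunit_of_local hmax h
  rw [ValuationSubring.mem_nonunits_iff A] at h1
  have h2 := (A.valuation_eq_one_iff z).1 hu
  rw [h2] at h1
  exact lt_irrefl _ h1

theorem charP (hM : IsPModular p M) : CharP (IsLocalRing.ResidueField A) p := by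
  obtain ⟨hp, hmax, hpM⟩ := hM
  rw [CharP.charP_iff_prime_eq_zero hp]
  have h1 : ((p : A) : ℂ) = (((p : AlgInt) : ℂ)) := by simp
  have h2 : res A (p : A) = 0 := by
    apply hD.res_eq_zero_of_local hmax
    rw [h1]
    exact ⟨p, 1, hpM, fun h => hmax.ne_top ((Ideal.eq_top_iff_one M).2 h), by simp⟩
  rw [map_natCast] at h2
  exact h2

end Dom

section Eps

variable {G : Type*} [Group G] [Fintype G] [DecidableEq G]

/-- The central idempotent of a set of irreducible characters. -/
noncomputable def eps (B : Set (IrrCharacter G)) : MonoidAlgebra ℂ G := ∑ g, MonoidAlgebra.single g (blockCoeff B g)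

theorem eps_coeff (B : Set (IrrCharacter G)) (g : G) : (eps B).coeff g = blockCoeff B g := by
  unfold eps
  rw [MonoidAlgebra.coeff_sum, Finsupp.finsetSum_apply, Finset.sum_eq_single g]
  · simp
  · intro h _ hh
    simp [MonoidAlgebra.coeff_single, hh]
  · simp

theorem coeff_mul_eq (a b : MonoidAlgebra ℂ G) (y : G) : (a * b).coeff y = ∑ h, a.coeff h * b.coeff (h⁻¹ * y) := by
  rw [MonoidAlgebra.coeff_mul_apply_left, Finsupp.sum_fintype]
  simp

theorem eps_mul (B B' : Set (IrrCharacter G)) : eps B * eps B' = eps (B ∩ B') := by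
  ext y
  rw [coeff_mul_eq, eps_coeff]
  simp_rw [eps_coeff]
  have := congrFun (Cfsg.Agent.Lib.BrauerPair.conv_blockCoeff B B') y
  exact this

theorem eps_self (B : Set (IrrCharacter G)) : eps B * eps B = eps B := by
  rw [eps_mul, Set.inter_self]

theorem eps_comm (B : Set (IrrCharacter G)) (a : MonoidAlgebra ℂ G) : a * eps B = eps B * a := by
  have h1 : ∀ (g : G) (r : ℂ), MonoidAlgebra.single g r * eps B = eps B * MonoidAlgebra.single g r := by
    intro g r
    ext y
    rw [MonoidAlgebra.coeff_single_mul_apply, MonoidAlgebra.coeff_mul_single_apply, eps_coeff, eps_coeff, mul_comm]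
    have h2 := blockCoeff_isClassFunction B (g⁻¹ * y) g
    have h3 : g * (g⁻¹ * y) * g⁻¹ = y * g⁻¹ := by group
    rw [h3] at h2
    rw [h2]
  conv_lhs => rw [sum_single a]
  conv_rhs => rw [sum_single a]
  rw [Finset.sum_mul, Finset.mul_sum]
  exact Finset.sum_congr rfl fun g _ => h1 g _

theorem eps_univ : eps (Set.univ : Set (IrrCharacter G)) = 1 := by
  ext y
  rw [eps_coeff, blockCoeff_eq_invF']
  have h1 : blkInd (Set.univ : Set (IrrCharacter G)) = 1 := by
    funext χ
    exact blkInd_of_mem (Set.mem_univ χ)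
  rw [h1, invF_one]
  rw [MonoidAlgebra.one_def, MonoidAlgebra.coeff_single]
  unfold delta
  classical
  by_cases h : y = 1
  · subst h; simp
  · simp [h, Finsupp.single_apply, Ne.symm h]

end Eps

section Lattice

variable {G : Type*} [Group G] [Fintype G] [DecidableEq G]

/-- `χ(e)` -/
noncomputable def dval (e : MonoidAlgebra A G) (χ : IrrCharacter G) : ℂ := ∑ a, ((e.coeff a : A) : ℂ) * (χ : G → ℂ) a

/-- The idempotent `e ε_B`. -/
noncomputable def xi (e : MonoidAlgebra A G) (B : Set (IrrCharacter G)) : MonoidAlgebra ℂ G := iota A G e * eps B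

theorem xi_idem {e : MonoidAlgebra A G} (he : e * e = e) (B : Set (IrrCharacter G)) : xi e B * xi e B = xi e B := by
  unfold xi
  calc iota A G e * eps B * (iota A G e * eps B) = iota A G e * (eps B * iota A G e) * eps B := by simp only [mul_assoc]
    _ = iota A G e * (iota A G e * eps B) * eps B := by rw [← eps_comm]
    _ = iota A G (e * e) * (eps B * eps B) := by rw [map_mul]; simp only [mul_assoc]
    _ = _ := by rw [he, eps_self]

theorem iota_mul_xi {e : MonoidAlgebra A G} (he : e * e = e) (B : Set (IrrCharacter G)) : iota A G e * xi e B = xi e B := by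
  unfold xi
  rw [← mul_assoc, ← map_mul, he]

theorem chr_lat {e : MonoidAlgebra A G} (he : e * e = e) {B : Set (IrrCharacter G)} (D : LatData A (xi e B)) (g : G) :
    chr D.repT g = ∑ χ : IrrCharacter G, blkInd B χ * (dval e χ * (χ : G → ℂ) g) := by
  rw [D.chr_eq (xi_idem he B)]
  have h1 : ∀ h : G, (xi e B).coeff (h⁻¹ * g⁻¹ * h) = ∑ a, ((e.coeff a : A) : ℂ) * blockCoeff B (a⁻¹ * h⁻¹ * g⁻¹ * h) := by
    intro h
    unfold xi
    rw [coeff_mul_eq]
    refine Finset.sum_congr rfl fun a _ => ?_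
    rw [iota_coeff, eps_coeff]
    congr 2
    group
  simp_rw [h1]
  rw [Finset.sum_comm]
  have h2 : ∀ a : G, ∑ h : G, ((e.coeff a : A) : ℂ) * blockCoeff B (a⁻¹ * h⁻¹ * g⁻¹ * h) =
      ((e.coeff a : A) : ℂ) * ∑ χ : IrrCharacter G, blkInd B χ * ((χ : G → ℂ) a * (χ : G → ℂ) g) := by
    intro a
    rw [← Finset.mul_sum]
    congr 1
    have h3 := sum_blockCoeff_conj B a g⁻¹
    rw [finsum_mem_eq_sum_blkInd, inv_inv] at h3
    rw [← h3]
    refine Fintype.sum_equiv (Equiv.inv G) _ _ fun h => ?_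
    simp
  simp_rw [h2]
  simp_rw [Finset.mul_sum]
  rw [Finset.sum_comm]
  refine Finset.sum_congr rfl fun χ _ => ?_
  unfold dval
  rw [Finset.sum_mul, Finset.mul_sum]
  refine Finset.sum_congr rfl fun a _ => ?_
  ring

theorem isCharacter_chr {I : Type*} [Fintype I] [DecidableEq I] (T : G →* Matrix I I A) : IsCharacter G (chr T) := by
  have h := isCharacter_of_rep' (V := I → ℂ) (ltRep T)
  have h2 : Representation.character (ltRep T) = chr T := by
    funext g
    exact trace_ltRep T g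
  rwa [h2] at h

theorem chr_one {I : Type*} [Fintype I] [DecidableEq I] (T : G →* Matrix I I A) : chr T 1 = Fintype.card I := by
  unfold chr
  rw [map_one]
  simp [Matrix.trace]

/-- `χ(e)` is a natural number. -/
theorem dval_nat {e : MonoidAlgebra A G} (he : e * e = e) (χ : IrrCharacter G) : ∃ n : ℕ, dval e χ = n := by
  classical
  obtain ⟨D⟩ := nonempty_latData (A := A) (xi e {χ})
  have h1 : chr D.repT = dval e χ • (χ : G → ℂ) := by
    funext g
    rw [chr_lat he D, Finset.sum_eq_single χ]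
    · rw [blkInd_of_mem (Set.mem_singleton χ), one_mul]
      rfl
    · intro ψ _ hψ
      rw [blkInd_of_not_mem (by simpa using hψ), zero_mul]
    · intro h
      exact absurd (Finset.mem_univ _) h
  obtain ⟨n, hn⟩ := classInner_char_irr (isCharacter_chr D.repT) χ.2
  refine ⟨n, ?_⟩
  rw [h1, classInner_smul_left, classInner_irr_self χ.2, mul_one] at hn
  exact hn

/-- If `e ε_χ ≠ 0` then `χ(e) ≠ 0`. -/
theorem dval_ne_zero {e : MonoidAlgebra A G} (he : e * e = e) {χ : IrrCharacter G} (hne : iota A G e * eps {χ} ≠ 0) : dval e χ ≠ 0 := by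
  classical
  obtain ⟨D⟩ := nonempty_latData (A := A) (xi e {χ})
  intro h0
  have h1 : chr D.repT 1 = dval e χ * (χ : G → ℂ) 1 := by
    rw [chr_lat he D, Finset.sum_eq_single χ]
    · rw [blkInd_of_mem (Set.mem_singleton χ), one_mul]
    · intro ψ _ hψ
      rw [blkInd_of_not_mem (by simpa using hψ), zero_mul]
    · intro h
      exact absurd (Finset.mem_univ _) h
  rw [h0, zero_mul, chr_one] at h1
  have h2 : Fintype.card D.S = 0 := by exact_mod_cast h1
  have h3 : IsEmpty D.S := Fintype.card_eq_zero_iff.1 h2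
  apply hne
  have h4 := D.bb_eq 1
  rw [Finset.univ_eq_empty, Finset.sum_empty] at h4
  have h5 : bb (xi e {χ}) 1 = xi e {χ} := by
    simp [bb, ← MonoidAlgebra.one_def]
  rw [h5] at h4
  exact h4

/-- The multiplicity function. -/
noncomputable def mlt (p : ℕ) (x : G) (z : ℂ) (f : G → ℂ) : ℂ := (p : ℂ)⁻¹ * ∑ i ∈ Finset.range p, (z⁻¹) ^ i * f (x ^ i)

theorem mlt_sum {ι : Type*} (s : Finset ι) (c : ι → ℂ) (F : ι → G → ℂ) (x : G) (z : ℂ) :
    mlt p x z (fun g => ∑ i ∈ s, c i * F i g) = ∑ i ∈ s, c i * mlt p x z (F i) := by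
  unfold mlt
  simp_rw [Finset.mul_sum]
  rw [Finset.sum_comm]
  refine Finset.sum_congr rfl fun i _ => ?_
  refine Finset.sum_congr rfl fun j _ => ?_
  ring

/-- The dimension of the eigenspace in the lattice representation. -/
theorem finrank_eig_lat [hp : Fact p.Prime] {e : MonoidAlgebra A G} (he : e * e = e) {B : Set (IrrCharacter G)}
    (D : LatData A (xi e B)) {x : G} (hx : x ^ p = 1) {z : ℂ} (hz : z ^ p = 1) :
    ((finrank ℂ (eig D.repT x z) : ℕ) : ℂ) = ∑ χ : IrrCharacter G, blkInd B χ * (dval e χ * mlt p x z (χ : G → ℂ)) := by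
  rw [finrank_eig_eq D.repT hx hz]
  have h1 : chr D.repT = fun g => ∑ χ : IrrCharacter G, (blkInd B χ * dval e χ) * (χ : G → ℂ) g := by
    funext g
    rw [chr_lat he D]
    refine Finset.sum_congr rfl fun χ _ => ?_
    ring
  have h2 := mlt_sum (p := p) Finset.univ (fun χ : IrrCharacter G => blkInd B χ * dval e χ) (fun χ => (χ : G → ℂ)) x z
  have h3 : (p : ℂ)⁻¹ * ∑ i ∈ Finset.range p, (z⁻¹) ^ i * chr D.repT (x ^ i) = mlt p x z (chr D.repT) := rfl
  rw [h3, h1, h2]
  refine Finset.sum_congr rfl fun χ _ => ?_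
  ring

end Lattice

section Cyc

open Subgroup

variable {G : Type*} [Group G] [Fintype G] [DecidableEq G] [hp : Fact p.Prime]

theorem exists_gen {x : G} (hx : orderOf x = p) :
    ∃ h ∈ normalizer (zpowers x : Set G), ∀ n ∈ normalizer (zpowers x : Set G), ∃ a : ℕ,
      n * (h ^ a)⁻¹ ∈ centralizer (zpowers x : Set G) := by
  classical
  let P := zpowers x
  let θ := P.normalizerMonoidHom
  have hcard : Nat.card P = p := by
    show Nat.card (zpowers x) = p
    rw [Nat.card_zpowers, hx]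
  haveI : Fact (Nat.card P).Prime := ⟨by rw [hcard]; exact hp.out⟩
  haveI : IsCyclic P := by
    show IsCyclic (zpowers x)
    infer_instance
  haveI : IsCyclic (MulAut P) := by
    have e := IsCyclic.mulAutMulEquiv P
    exact isCyclic_of_surjective e.symm.toMonoidHom e.symm.surjective
  obtain ⟨⟨g, ⟨h, rfl⟩⟩, hgen⟩ := IsCyclic.exists_generator (α := θ.range)
  refine ⟨h, h.2, fun n hn => ?_⟩
  have h1 := hgen ⟨θ ⟨n, hn⟩, ⟨_, rfl⟩⟩
  have h2 : (⟨θ ⟨n, hn⟩, ⟨_, rfl⟩⟩ : θ.range) ∈ Submonoid.powers (⟨θ h, ⟨h, rfl⟩⟩ : θ.range) :=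
    mem_powers_iff_mem_zpowers.2 h1
  obtain ⟨a, ha⟩ := h2
  refine ⟨a, ?_⟩
  have h3 : θ h ^ a = θ ⟨n, hn⟩ := by
    have := congrArg Subtype.val ha
    simpa using this
  have h4 : (⟨n, hn⟩ * (h ^ a)⁻¹ : normalizer (P : Set G)) ∈ θ.ker := by
    rw [MonoidHom.mem_ker, map_mul, map_inv, map_pow, h3, mul_inv_cancel]
  rw [normalizerMonoidHom_ker, Subgroup.mem_subgroupOf] at h4
  simpa using h4

variable {k V : Type*} [Field k] [IsAlgClosed k] [AddCommGroup V] [Module k V] [FiniteDimensional k V] [CharP k p]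

/-- The Tate quotient has dimension at most one, when the centralizer acts trivially on it. -/
theorem tate_le_one {ρ : G →* Module.End k V} {x : G} (hx : orderOf x = p) (hidx : ¬ p ∣ (zpowers x).index)
    (hloc : ∀ φ : Module.End k V, (∀ g, φ * ρ g = ρ g * φ) → IsNilpotent φ ∨ Function.Surjective φ)
    (hC : ∀ y ∈ centralizer (zpowers x : Set G), ∀ v ∈ Fx ρ x, ρ y v - v ∈ ImN ρ x p) :
    finrank k (Fx ρ x) ≤ finrank k (ImN ρ x p) + 1 := by
  obtain ⟨h, hh, hgen⟩ := exists_gen (G := G) (p := p) hx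
  refine finrank_fx_le hx hidx hloc hh fun n hn => ?_
  obtain ⟨a, ha⟩ := hgen n hn
  refine ⟨a, fun v hv => ?_⟩
  have h1 : (h ^ a) ∈ normalizer (zpowers x : Set G) := Subgroup.pow_mem _ hh a
  have h2 : ρ (h ^ a) v ∈ Fx ρ x := rho_fx_mem h1 hv
  have h3 := hC _ ha _ h2
  have h4 : ρ (n * (h ^ a)⁻¹) (ρ (h ^ a) v) = ρ n v := by
    rw [← Module.End.mul_apply, ← map_mul, inv_mul_cancel_right]
  rw [h4] at h3
  rwa [map_pow] at h3

end Cyc

end Cfsg.Agent.Lib.RangeChar
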