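import Mathlib
import Cfsg.Agent.Lib.DcGrp
import Cfsg.Agent.Lib.RangeChar

/-!
# Differences of multiplicities: the inequalities obtained from the lattices, and a fixed point
-/

set_option autoImplicit false
set_option linter.unusedSectionVars false
set_option linter.unusedVariables false
set_option linter.unusedSimpArgs false
set_option linter.style.haveILetI false

namespace Cfsg.Agent.Lib.DcL

open Cfsg Module MonoidAlgebra IsLocalRing Polynomial Subgroup
open Cfsg.Agent.Lib.BlockResidue Cfsg.Agent.Lib.BlockBrandt Cfsg.Agent.Lib.BlockQ Cfsg.Agent.Lib.BlockIdem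
open Cfsg.Agent.Lib.BlkBasic Cfsg.Agent.Lib.BrauerPair Cfsg.Agent.Lib.RangeMod
open Cfsg.Agent.Lib.DcGrpA Cfsg.Agent.Lib.DcGrp Cfsg.Agent.Lib.DcSand
open Cfsg.Agent.Lib.RangeLat Cfsg.Agent.Lib.RangeVal Cfsg.Agent.Lib.RangeAlg Cfsg.Agent.Lib.RangeChar
open Cfsg.Agent.Lib.CharBasic
open scoped ComplexConjugate

universe u

section Fix

/-- A self map of a finite set with an `r`-th iterate the identity has a fixed point if `r` does not divide the size. -/
theorem exists_fixed {α : Type*} (S : Finset α) (φ : α → α) (hS : ∀ x ∈ S, φ x ∈ S) {r : ℕ} [hr : Fact r.Prime]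
    (hφ : ∀ x ∈ S, φ^[r] x = x) (hcard : ¬ r ∣ S.card) : ∃ x ∈ S, φ x = x := by
  classical
  let F : Function.End S := fun x => ⟨φ x, hS x x.2⟩
  have hpow : ∀ (n : ℕ) (x : S), (((F ^ n : Function.End S) x : S) : α) = φ^[n] x := by
    intro n
    induction n with
    | zero => intro x; rfl
    | succ n ih =>
      intro x
      rw [Function.iterate_succ_apply, pow_succ]
      exact ih (F x)
  have hF : F ^ r ^ 1 = 1 := by
    rw [pow_one]
    funext x
    apply Subtype.ext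
    rw [hpow, hφ x x.2]
    rfl
  have h1 := Equiv.Perm.card_fixedPoints_modEq hF
  by_contra hcon
  push Not at hcon
  have h2 : IsEmpty (Function.fixedPoints F) := by
    constructor
    rintro ⟨x, hx⟩
    apply hcon x x.2
    exact congrArg Subtype.val hx
  rw [Fintype.card_eq_zero_iff.2 h2, Fintype.card_coe] at h1
  exact hcard ((Nat.modEq_zero_iff_dvd).1 h1)

end Fix

variable {G : Type u} [Group G] [Fintype G]

local notation "𝐂[" R "]" => Subgroup.centralizer ((R : Subgroup G) : Set G)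
local notation "𝐍[" R "]" => Subgroup.normalizer ((R : Subgroup G) : Set G)

attribute [local instance] Cfsg.Agent.Lib.DcGrp.fintypeSubDc Cfsg.Agent.Lib.DcGrp.fintypeQuotDc

/-- The multiplicity of a character of a subgroup in the restriction. -/
noncomputable def sN (H : Subgroup G) (χ : IrrCharacter G) (ν : IrrCharacter H) : ℕ :=
  (classInner_char_irr (isCharacter_restrict H (IsIrrCharacter.isCharacter χ.2)) ν.2).choose

theorem sN_spec (H : Subgroup G) (χ : IrrCharacter G) (ν : IrrCharacter H) :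
    (sN H χ ν : ℂ) = classInner (fun h : H => (χ : G → ℂ) h) (ν : H → ℂ) :=
  (classInner_char_irr (isCharacter_restrict H (IsIrrCharacter.isCharacter χ.2)) ν.2).choose_spec.symm

theorem sum_ec_mul {H : Subgroup G} (χ : IrrCharacter G) (ν : IrrCharacter H) :
    ∑ h : H, ec (ν : H → ℂ) h * (χ : G → ℂ) h = (ν : H → ℂ) 1 * (sN H χ ν : ℂ) := by
  rw [sN_spec]
  unfold classInner ec
  rw [Finset.mul_sum, Finset.mul_sum]
  refine Finset.sum_congr rfl fun h _ => ?_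
  rw [char_conj_eq_inv (IsIrrCharacter.isCharacter ν.2)]
  field_simp

variable [DecidableEq G] {V : ValuationSubring ℂ}

/-- The dimension of a component of the lattice of `e` and `Y`. -/
theorem finrank_lat {H : Subgroup G} {e₀ : MonoidAlgebra V G} (he : e₀ * e₀ = e₀) (Y : Finset (IrrCharacter G))
    (D : LatData V (xi e₀ (Y : Set (IrrCharacter G)))) {d : IrrCharacter G → ℕ} (hd : ∀ χ, dval e₀ χ = d χ) (ν : IrrCharacter H) :
    finrank ℂ (Uu D.repT H ν) = charDegree (ν : H → ℂ) * ∑ χ ∈ Y, d χ * sN H χ ν := by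
  classical
  have h1 : ((finrank ℂ (Uu D.repT H ν) : ℕ) : ℂ) =
      ((charDegree (ν : H → ℂ) * ∑ χ ∈ Y, d χ * sN H χ ν : ℕ) : ℂ) := by
    rw [finrank_Uu]
    have h2 : ∀ h : H, chr D.repT (h : G) = ∑ χ ∈ Y, (d χ : ℂ) * (χ : G → ℂ) h := by
      intro h
      rw [chr_lat he D]
      rw [← Finset.sum_filter_add_sum_filter_not Finset.univ (· ∈ Y)]
      have h3 : ∑ χ ∈ Finset.univ.filter (fun χ => χ ∉ Y), blkInd (Y : Set (IrrCharacter G)) χ * (dval e₀ χ * (χ : G → ℂ) h) = 0 := by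
        refine Finset.sum_eq_zero fun χ hχ => ?_
        have h4 : χ ∉ (Y : Set (IrrCharacter G)) := by simpa using hχ
        rw [blkInd_of_not_mem h4, zero_mul]
      rw [h3, add_zero, Finset.filter_mem_eq_inter, Finset.univ_inter]
      refine Finset.sum_congr rfl fun χ hχ => ?_
      rw [blkInd_of_mem (by simpa using hχ), one_mul, hd]
    simp_rw [h2, Finset.mul_sum]
    rw [Finset.sum_comm]
    push_cast
    refine Finset.sum_congr rfl fun χ _ => ?_
    have h5 : ∀ h : H, ec (ν : H → ℂ) h * ((d χ : ℂ) * (χ : G → ℂ) h) = (d χ : ℂ) * (ec (ν : H → ℂ) h * (χ : G → ℂ) h) := by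
      intro h
      ring
    simp_rw [h5]
    rw [← Finset.mul_sum, sum_ec_mul, Cfsg.Agent.Lib.CharKernel.one_eq_charDegree (IsIrrCharacter.isCharacter ν.2)]
    ring
  exact_mod_cast h1

theorem eps_singleton_ne_zero (χ : IrrCharacter G) : eps ({χ} : Set (IrrCharacter G)) ≠ 0 := by
  intro h0
  apply Phi_singleton_ne_zero χ
  refine ext_coeff fun g => ?_
  rw [coeff_Phi, ← blockCoeff_eq_invF', ← eps_coeff, h0]

/-- The endomorphisms of the reduction of a lattice of a primitive idempotent are local. -/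
theorem hloc_lat {e₀ : MonoidAlgebra V G} (he : e₀ * e₀ = e₀)
    (hprim : ∀ f : MonoidAlgebra V G, f * f = f → e₀ * f = f → f * e₀ = f → f = 0 ∨ f = e₀)
    (Y : Set (IrrCharacter G)) (D : LatData V (xi e₀ Y))
    (Ψ : Module.End (Kf V) (D.S → Kf V)) (hΨ : ∀ g, Ψ * redRep D.repT g = redRep D.repT g * Ψ) :
    ∃ κ : Kf V, IsNilpotent (Ψ - κ • 1) := by
  classical
  haveI : IsAlgClosed (Kf V) := isAlgClosed_residue V
  by_cases hS : Nonempty D.S
  · haveI : Nontrivial (D.S → Kf V) := inferInstance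
    obtain ⟨κ, hκ⟩ := Module.End.exists_eigenvalue Ψ
    refine ⟨κ, ?_⟩
    have hcomm : ∀ g, (Ψ - κ • 1) * redRep D.repT g = redRep D.repT g * (Ψ - κ • 1) := by
      intro g
      rw [sub_mul, mul_sub, hΨ, smul_mul_assoc, mul_smul_comm, one_mul, mul_one]
    rcases D.hloc he hprim (iota_mul_xi he Y) _ hcomm with h1 | h1
    · exact h1
    · exfalso
      obtain ⟨v, hv⟩ := hκ.exists_hasEigenvector
      have h2 : Function.Injective ⇑(Ψ - κ • (1 : Module.End (Kf V) (D.S → Kf V))) := LinearMap.injective_iff_surjective.2 h1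
      apply hv.2
      apply h2
      rw [map_zero, LinearMap.sub_apply, LinearMap.smul_apply, Module.End.one_apply, hv.apply_eq_smul, sub_self]
  · haveI : IsEmpty D.S := not_nonempty_iff.1 hS
    refine ⟨0, ⟨1, LinearMap.ext fun w => Subsingleton.elim _ _⟩⟩

section Main

variable {p : ℕ} [hpF : Fact p.Prime] {M : Ideal AlgInt} [hMp : M.IsPrime]

/-- **The inequalities for the multiplicities.** -/
theorem L_main (hM : IsPModular p M) (hV1 : ∀ z, MemLocalRing M z → z ∈ V)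
    (hV2 : ∀ z, MemLocalIdeal M z → z ∈ V.nonunits) (hpV : ((p : ℕ) : Kf V) = 0)
    {u : G} (hu : orderOf u = p) {f : Set (IrrCharacter 𝐂[zpowers u])} (hf : IsPBlock M f) (hl : blockRank p f = 1)
    {D' : Subgroup 𝐂[zpowers u]} (hD' : IsDefectGroup p M f D') (hcyc : IsCyclic D')
    (huD' : (⟨u, fun v hv => by
      obtain ⟨n, rfl⟩ := mem_zpowers_iff.1 hv
      exact ((Commute.refl u).zpow_right n).eq.symm⟩ : 𝐂[zpowers u]) ∈ D')
    {T' : Subgroup G} (hT' : ∀ g : G, g ∈ T' ↔ (g ∈ 𝐍[zpowers u] ∧ StabilizesBlock 𝐂[zpowers u] f g))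
    (hq2 : 2 ≤ (bF f).card) {c : ℕ} (hcp : c * p = (bF f).card)
    {t₀ : G} (ht₀ : t₀ ∈ T') (hgen : ∀ t ∈ T', ∃ n : ℕ, ∃ h ∈ 𝐂[zpowers u], t = h * t₀ ^ n)
    (hte : t₀ ^ (𝐂[zpowers u]).relIndex T' ∈ 𝐂[zpowers u]) (hdvd : (𝐂[zpowers u]).relIndex T' ∣ p - 1) :
    ∃ (g : ℕ) (l : IrrCharacter 𝐂[zpowers u] → ℂ) (zc : ℂ), 0 < g ∧ (∀ χ ∈ f, charDegree (χ : 𝐂[zpowers u] → ℂ) = g) ∧
      zc ≠ 0 ∧ (∀ (h₀ : t₀ ∈ normalizer ((𝐂[zpowers u] : Subgroup G) : Set G)) (χ : IrrCharacter 𝐂[zpowers u]),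
        l (twist (conjAut 𝐂[zpowers u] t₀ h₀).symm χ) = zc * l χ) ∧
      (∀ (e₀ : MonoidAlgebra V G), e₀ * e₀ = e₀ →
        (∀ f : MonoidAlgebra V G, f * f = f → e₀ * f = f → f * e₀ = f → f = 0 ∨ f = e₀) →
        ∀ (Y : Finset (IrrCharacter G)) (d : IrrCharacter G → ℕ), (∀ χ, dval e₀ χ = d χ) →
        ∀ ν ∈ f, ∀ ν' ∈ f, ∑ χ ∈ Y, d χ * sN 𝐂[zpowers u] χ ν ≤ ∑ χ ∈ Y, d χ * sN 𝐂[zpowers u] χ ν' + 1) ∧
      (∀ (e₀ : MonoidAlgebra V G), e₀ * e₀ = e₀ →
        ∀ (d : IrrCharacter G → ℕ), (∀ χ, dval e₀ χ = d χ) →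
        ∀ ν ∈ f, ∀ ν' ∈ f, ∑ χ, d χ * sN 𝐂[zpowers u] χ ν ≤ ∑ χ, d χ * sN 𝐂[zpowers u] χ ν') ∧
      (∀ ν ∈ f, ∀ ν' ∈ f, ν ≠ ν' → l ν ≠ l ν') ∧
      (∀ (t : G) (ht : t ∈ normalizer ((𝐂[zpowers u] : Subgroup G) : Set G)), t ∈ T' → ∀ ν,
        twist (conjAut 𝐂[zpowers u] t ht) ν = ν → t ∈ 𝐂[zpowers u] ∨ l ν = 0) := by
  classical
  obtain ⟨g, l, zc, hg, hdeg, hzc, hlt, hA, hB, hinj, hfree⟩ := grp_main hM hV1 hV2 hpV hu hf hl hD' hcyc huD' hT' hq2 hcp ht₀ hgen hte hdvd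
  haveI hchark : CharP (Kf V) p := (CharP.charP_iff_prime_eq_zero hpF.out).2 hpV
  refine ⟨g, l, zc, hg, hdeg, hzc, hlt, ?_, ?_, hinj, hfree⟩
  · intro e₀ he hprim Y d hd ν hν ν' hν'
    obtain ⟨D⟩ := nonempty_latData (A := V) (xi e₀ (Y : Set (IrrCharacter G)))
    have h1 := hA D.repT (hloc_lat he hprim _ D) ν hν ν' hν'
    rw [finrank_lat he Y D hd, finrank_lat he Y D hd, hdeg ν hν, hdeg ν' hν'] at h1
    have h2 : g * ∑ χ ∈ Y, d χ * sN 𝐂[zpowers u] χ ν ≤ g * (∑ χ ∈ Y, d χ * sN 𝐂[zpowers u] χ ν' + 1) := by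
      rw [mul_add, mul_one]
      exact h1
    exact Nat.le_of_mul_le_mul_left h2 hg
  · intro e₀ he d hd ν hν ν' hν'
    have hu1 : eps (Set.univ : Set (IrrCharacter G)) = 1 := eps_univ
    have hY : ((Finset.univ : Finset (IrrCharacter G)) : Set (IrrCharacter G)) = Set.univ := Finset.coe_univ
    obtain ⟨D⟩ := nonempty_latData (A := V) (xi e₀ ((Finset.univ : Finset (IrrCharacter G)) : Set (IrrCharacter G)))
    have hξ : xi e₀ ((Finset.univ : Finset (IrrCharacter G)) : Set (IrrCharacter G)) = iota V G e₀ := by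
      unfold xi
      rw [hY, hu1, mul_one]
    have h1 := hB D.repT (D.fx_le_im he hξ hu) ν hν ν' hν'
    rw [finrank_lat he _ D hd, finrank_lat he _ D hd, hdeg ν hν, hdeg ν' hν'] at h1
    exact Nat.le_of_mul_le_mul_left h1 hg

/-- The multiplicities on the block differ by at most one. -/
theorem sN_le_of_prim {H : Subgroup G} {f : Set (IrrCharacter H)}
    (h : ∀ (e₀ : MonoidAlgebra V G), e₀ * e₀ = e₀ →
        (∀ f : MonoidAlgebra V G, f * f = f → e₀ * f = f → f * e₀ = f → f = 0 ∨ f = e₀) →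
        ∀ (Y : Finset (IrrCharacter G)) (d : IrrCharacter G → ℕ), (∀ χ, dval e₀ χ = d χ) →
        ∀ ν ∈ f, ∀ ν' ∈ f, ∑ χ ∈ Y, d χ * sN H χ ν ≤ ∑ χ ∈ Y, d χ * sN H χ ν' + 1)
    (χ : IrrCharacter G) {ν ν' : IrrCharacter H} (hν : ν ∈ f) (hν' : ν' ∈ f) : sN H χ ν ≤ sN H χ ν' + 1 := by
  classical
  obtain ⟨e₀, he, hne, hprim⟩ := exists_local_idem (A := V) (eps_singleton_ne_zero χ)
  choose d hd using dval_nat he
  have h0 : d χ ≠ 0 := by
    intro h1
    apply dval_ne_zero he hne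
    rw [hd, h1]
    simp
  have h1 := h e₀ he hprim {χ} d hd ν hν ν' hν'
  simp only [Finset.sum_singleton] at h1
  by_contra hcon
  push Not at hcon
  have h2 : d χ * (sN H χ ν' + 2) ≤ d χ * sN H χ ν := Nat.mul_le_mul_left _ (by omega)
  have h3 : 1 ≤ d χ := Nat.pos_of_ne_zero h0
  nlinarith

/-- Transport along a normalizing element, extended trivially to other elements. -/
noncomputable def actN (H : Subgroup G) (x : G) (ν : IrrCharacter H) : IrrCharacter H :=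
  open scoped Classical in
  if h : x ∈ normalizer (H : Set G) then twist (conjAut H x h) ν else ν

theorem actN_of_mem {H : Subgroup G} {x : G} (h : x ∈ normalizer (H : Set G)) (ν : IrrCharacter H) :
    actN H x ν = twist (conjAut H x h) ν := by
  unfold actN
  rw [dif_pos h]

/-- **A fixed point of the inertial quotient on the block, which acts freely on the other members.** -/
theorem exists_nu1 {H : Subgroup G} {T' : Subgroup G} (hTN : T' ≤ normalizer (H : Set G)) {f : Set (IrrCharacter H)}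
    (hf0 : f.Nonempty) (hfT : ∀ t ∈ T', ∀ ν ∈ f, actN H t ν ∈ f)
    {l : IrrCharacter H → ℂ} (hinj : ∀ ν ∈ f, ∀ ν' ∈ f, ν ≠ ν' → l ν ≠ l ν')
    (hfree : ∀ (t : G) (ht : t ∈ normalizer (H : Set G)), t ∈ T' → ∀ ν, twist (conjAut H t ht) ν = ν → t ∈ H ∨ l ν = 0)
    {t₀ : G} (ht₀ : t₀ ∈ T') {zc : ℂ} (hzc : zc ≠ 0)
    (hlt : ∀ (h₀ : t₀ ∈ normalizer (H : Set G)) (χ : IrrCharacter H), l (twist (conjAut H t₀ h₀).symm χ) = zc * l χ)
    (hgen : ∀ t ∈ T', ∃ n : ℕ, ∃ h ∈ H, t = h * t₀ ^ n) {e : ℕ} (he : H.relIndex T' = e) (hte : t₀ ^ e ∈ H)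
    (hndvd : ∀ n : ℕ, t₀ ^ n ∈ H → e ∣ n) (hdvd : e ∣ p - 1) {a : ℕ} (hq : (bF f).card = p ^ a) (he1 : 1 ≤ e) :
    ∃ ν₁ ∈ f, (∀ t ∈ T', actN H t ν₁ = ν₁) ∧ ∀ ν ∈ f, ν ≠ ν₁ → ∀ t ∈ T', actN H t ν = ν → t ∈ H := by
  classical
  have hp := hpF.out
  have ht₀N : t₀ ∈ normalizer (H : Set G) := hTN ht₀
  have hred : ∀ t ∈ T', ∀ ν, ∃ n : ℕ, (∃ h ∈ H, t = h * t₀ ^ n) ∧ actN H t ν = (twist (conjAut H t₀ ht₀N))^[n] ν := by
    intro t ht ν
    obtain ⟨n, h, hh, rfl⟩ := hgen t ht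
    refine ⟨n, ⟨h, hh, rfl⟩, ?_⟩
    have hhN : h ∈ normalizer (H : Set G) := Cfsg.Agent.Lib.BrauerStab.stabilizes_of_mem_centralizer hh (∅ : Set (IrrCharacter H)) |>.1
    have hnN : t₀ ^ n ∈ normalizer (H : Set G) := pow_mem ht₀N n
    have ht : h * t₀ ^ n ∈ normalizer (H : Set G) := mul_mem hhN hnN
    rw [actN_of_mem ht, conjAut_mul H h (t₀ ^ n) hhN hnN ht, twist_mul, twist_conj_inner hh hhN, twist_conj_pow ht₀N n hnN]
  by_cases he2 : e = 1
  · -- trivial action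
    subst he2
    have h1 : t₀ ∈ H := by simpa using hte
    obtain ⟨ν₁, hν₁⟩ := hf0
    have hinner : ∀ t ∈ T', t ∈ H := by
      intro t ht
      obtain ⟨n, h, hh, rfl⟩ := hgen t ht
      exact H.mul_mem hh (pow_mem h1 n)
    refine ⟨ν₁, hν₁, fun t ht => ?_, fun ν _ _ t ht _ => hinner t ht⟩
    have h2 := hinner t ht
    rw [actN_of_mem (hTN ht)]
    exact twist_conj_inner h2 (hTN ht) ν₁
  -- a prime divisor
  have he3 : e ≠ 1 := he2
  obtain ⟨r, hr, hre⟩ := Nat.exists_prime_and_dvd he3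
  haveI : Fact r.Prime := ⟨hr⟩
  obtain ⟨b, hb⟩ := hre
  have hb0 : 0 < b := by
    rcases Nat.eq_zero_or_pos b with h | h
    · subst h
      omega
    · exact h
  set w := t₀ ^ b with hw
  have hwT : w ∈ T' := pow_mem ht₀ b
  have hwN : w ∈ normalizer (H : Set G) := hTN hwT
  have hwH : w ∉ H := by
    intro h1
    have h2 := Nat.le_of_dvd hb0 (hndvd b h1)
    have h3 := hr.two_le
    rw [hb] at h2
    nlinarith
  have hwr : w ^ r ∈ H := by
    rw [hw, ← pow_mul, mul_comm, ← hb]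
    exact hte
  have hcop : ¬ r ∣ (bF f).card := by
    rw [hq]
    intro h1
    have h2 := (Nat.prime_dvd_prime_iff_eq hr hp).1 (hr.dvd_of_dvd_pow h1)
    have h3 : r ∣ p - 1 := (Dvd.intro _ hb.symm).trans hdvd
    have h4 := Nat.le_of_dvd (by have := hp.two_le; omega) h3
    have := hp.two_le
    omega
  have hiter : ∀ ν, (actN H w)^[r] ν = ν := by
    intro ν
    have h1 : ∀ n : ℕ, (actN H w)^[n] ν = (twist (conjAut H w hwN))^[n] ν := by
      intro n
      have h2 : actN H w = twist (conjAut H w hwN) := funext fun ν => actN_of_mem hwN ν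
      rw [h2]
    rw [h1, ← twist_conj_pow hwN r (pow_mem hwN r)]
    exact twist_conj_inner hwr _ ν
  obtain ⟨ν₁, hν₁, hfix⟩ := exists_fixed (bF f) (actN H w) (fun x hx => mem_bF.2 (hfT w hwT x (mem_bF.1 hx)))
    (fun x _ => hiter x) hcop
  have hν₁f : ν₁ ∈ f := mem_bF.1 hν₁
  have hl0 : l ν₁ = 0 := by
    rw [actN_of_mem hwN] at hfix
    rcases hfree w hwN hwT ν₁ hfix with h | h
    · exact absurd h hwH
    · exact h
  have hiter0 : ∀ n : ℕ, (twist (conjAut H t₀ ht₀N))^[n] ν₁ ∈ f ∧ (twist (conjAut H t₀ ht₀N))^[n] ν₁ = ν₁ := by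
    intro n
    have hmem : ∀ n : ℕ, (twist (conjAut H t₀ ht₀N))^[n] ν₁ ∈ f := by
      intro n
      induction n with
      | zero => exact hν₁f
      | succ n ih =>
        rw [Function.iterate_succ_apply']
        have := hfT t₀ ht₀ _ ih
        rwa [actN_of_mem ht₀N] at this
    refine ⟨hmem n, ?_⟩
    by_contra hne
    have h1 := l_iter ht₀N (hlt ht₀N) n ν₁
    rw [hl0] at h1
    have h2 : l ((twist (conjAut H t₀ ht₀N))^[n] ν₁) = 0 := by
      rcases mul_eq_zero.1 h1.symm with h3 | h3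
      · exact absurd h3 (pow_ne_zero _ hzc)
      · exact h3
    exact hinj _ (hmem n) _ hν₁f hne (by rw [h2, hl0])
  refine ⟨ν₁, hν₁f, fun t ht => ?_, fun ν hν hne t ht hact => ?_⟩
  · obtain ⟨n, -, h1⟩ := hred t ht ν₁
    rw [h1]
    exact (hiter0 n).2
  · rw [actN_of_mem (hTN ht)] at hact
    rcases hfree t (hTN ht) ht ν hact with h | h
    · exact h
    · exact absurd (by rw [h, hl0]) (hinj ν hν ν₁ hν₁f hne)

end Main

end Cfsg.Agent.Lib.DcL
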