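import Mathlib
import Cfsg.Agent.Lib.DcL
import Cfsg.Agent.Lib.DcAbs
import Cfsg.Agent.Lib.StarInner
import Cfsg.Agent.Lib.BlockSecond

/-!
# The Gram matrix of the induced differences of members of the local block
-/

set_option autoImplicit false
set_option linter.unusedSectionVars false
set_option linter.unusedVariables false
set_option linter.unusedSimpArgs false
set_option linter.style.haveILetI false

namespace Cfsg.Agent.Lib.DcGram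

open Cfsg Module Subgroup
open Cfsg.Agent.Lib.BlockQ Cfsg.Agent.Lib.BlockIdem Cfsg.Agent.Lib.BlkBasic Cfsg.Agent.Lib.BrauerPair
open Cfsg.Agent.Lib.DcGrpA Cfsg.Agent.Lib.DcGrp Cfsg.Agent.Lib.DcL Cfsg.Agent.Lib.DcAbs Cfsg.Agent.Lib.BlockOrtho
open Cfsg.Agent.Lib.CharBasic Cfsg.Agent.Lib.CharInd Cfsg.Agent.Lib.StarGen Cfsg.Agent.Lib.StarGlob
open scoped ComplexConjugate

universe u

variable {G : Type u} [Group G] [Fintype G]

local notation "𝐂[" R "]" => Subgroup.centralizer ((R : Subgroup G) : Set G)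
local notation "𝐍[" R "]" => Subgroup.normalizer ((R : Subgroup G) : Set G)

attribute [local instance] Cfsg.Agent.Lib.DcGrp.fintypeSubDc Cfsg.Agent.Lib.DcGrp.fintypeQuotDc

variable [DecidableEq G]

/-- The contribution of an element to the scalar product of induced functions. -/
noncomputable def BB (H : Subgroup G) (φ φ' : H → ℂ) (x : G) : ℂ :=
  classInner φ (fun h : H => extendByZero H φ' (x⁻¹ * h * x))

theorem inner_ind_ind (H : Subgroup G) (φ φ' : H → ℂ) :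
    classInner (indFun H φ) (indFun H φ') = (Nat.card H : ℂ)⁻¹ * ∑ x : G, BB H φ φ' x := by
  rw [frobenius H φ (indFun_isClassFunction H φ')]
  unfold BB classInner
  simp only [indFun_apply]
  rw [← Finset.mul_sum, Finset.sum_comm]
  congr 1
  rw [Finset.mul_sum]
  refine Finset.sum_congr rfl fun h _ => ?_
  simp only [map_mul, map_inv₀, map_natCast, map_sum]
  rw [mul_left_comm, Finset.mul_sum]

theorem extendByZero_sub' (H : Subgroup G) (a b : H → ℂ) (y : G) :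
    extendByZero H (a - b) y = extendByZero H a y - extendByZero H b y := by
  by_cases hy : y ∈ H
  · rw [extendByZero_of_mem H _ hy, extendByZero_of_mem H _ hy, extendByZero_of_mem H _ hy]
    rfl
  · rw [extendByZero_of_not_mem H _ hy, extendByZero_of_not_mem H _ hy, extendByZero_of_not_mem H _ hy, sub_zero]

theorem ext_conj_eq {H : Subgroup G} {x : G} (hx : x ∈ normalizer (H : Set G)) (ν : IrrCharacter H) (h : H) :
    extendByZero H (ν : H → ℂ) (x⁻¹ * h * x) = (actN H x ν : H → ℂ) h := by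
  rw [actN_of_mem hx, twist_apply]
  have hm : x⁻¹ * h * x ∈ H := ((conjAut H x hx).symm h).2
  rw [extendByZero_of_mem H _ hm]
  rfl

theorem BB_of_normalizer {H : Subgroup G} {x : G} (hx : x ∈ normalizer (H : Set G)) (a b c d : IrrCharacter H) :
    BB H ((a : H → ℂ) - (b : H → ℂ)) ((c : H → ℂ) - (d : H → ℂ)) x =
      (if a = actN H x c then 1 else 0) - (if a = actN H x d then 1 else 0) - (if b = actN H x c then 1 else 0) +
        (if b = actN H x d then 1 else 0) := by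
  classical
  unfold BB
  have h1 : (fun h : H => extendByZero H ((c : H → ℂ) - (d : H → ℂ)) (x⁻¹ * h * x)) =
      (actN H x c : H → ℂ) - (actN H x d : H → ℂ) := by
    funext h
    rw [extendByZero_sub', ext_conj_eq hx, ext_conj_eq hx]
    rfl
  rw [h1, classInner_sub_left, classInner_sub_right, classInner_sub_right, inner_irr_irr, inner_irr_irr, inner_irr_irr, inner_irr_irr]
  ring

/-- Elements having the central element in the `p`-part of the element and of a conjugate. -/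
theorem mem_N_of_sing {p : ℕ} [hp : Fact p.Prime] {u x y : G} (hu : orderOf u = p) (h1 : u ∈ zpowers (pp p y))
    (h2 : u ∈ zpowers (pp p (x⁻¹ * y * x))) : x ∈ 𝐍[zpowers u] := by
  have h3 : pp p (x⁻¹ * y * x) = x⁻¹ * pp p y * x := by
    have := pp_conj (p := p) x⁻¹ y
    simpa using this
  rw [h3] at h2
  obtain ⟨n, hn⟩ := mem_zpowers_iff.1 h2
  have h4 : x * u * x⁻¹ ∈ zpowers (pp p y) := by
    have h5 : (x⁻¹ * pp p y * x) ^ n = x⁻¹ * (pp p y) ^ n * x := by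
      have := conj_zpow (a := x⁻¹) (b := pp p y) (i := n)
      simpa using this
    rw [← hn, h5]
    have h6 : x * (x⁻¹ * pp p y ^ n * x) * x⁻¹ = pp p y ^ n := by group
    rw [h6]
    exact zpow_mem (mem_zpowers _) n
  have h5 : x * u * x⁻¹ ∈ zpowers u := by
    apply mem_zpowers_of_pow' (D := zpowers (pp p y)) inferInstance hp.out.pos h4 h1
    · rw [conj_pow, ← hu, pow_orderOf_eq_one]
      group
    · exact hu
  have h6 : x⁻¹ ∈ 𝐍[zpowers u] := by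
    apply Cfsg.Agent.Lib.RangeMod.mem_normalizer_of_conj hu
    simpa using h5
  simpa using inv_mem h6

/-- The hypotheses on the local block. -/
structure LocData (p : ℕ) [Fact p.Prime] (M : Ideal AlgInt) (u : G) (f : Set (IrrCharacter 𝐂[zpowers u])) (T' : Subgroup G)
    (ν₁ : IrrCharacter 𝐂[zpowers u]) : Prop where
  hu : orderOf u = p
  hf : IsPBlock M f
  hT' : ∀ g : G, g ∈ T' ↔ (g ∈ 𝐍[zpowers u] ∧ StabilizesBlock 𝐂[zpowers u] f g)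
  hν₁ : ν₁ ∈ f
  hfix : ∀ t ∈ T', actN 𝐂[zpowers u] t ν₁ = ν₁
  hfree : ∀ ν ∈ f, ν ≠ ν₁ → ∀ t ∈ T', actN 𝐂[zpowers u] t ν = ν → t ∈ 𝐂[zpowers u]
  hsupp : ∀ ν ∈ f, ∀ ν' ∈ f, ∀ y : 𝐂[zpowers u], (ν : 𝐂[zpowers u] → ℂ) y ≠ (ν' : 𝐂[zpowers u] → ℂ) y →
    u ∈ zpowers (pp p (y : G))
  hreg : ∀ ν ∈ f, ∀ ν' ∈ f, ∀ y : 𝐂[zpowers u], ¬ p ∣ orderOf (y : G) → (ν : 𝐂[zpowers u] → ℂ) y = (ν' : 𝐂[zpowers u] → ℂ) y

section Gram

variable {p : ℕ} [hpF : Fact p.Prime] {M : Ideal AlgInt} [hMp : M.IsPrime] {u : G}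
  {T' : Subgroup G}

theorem N_le_N {x : G} (hx : x ∈ 𝐍[zpowers u]) : x ∈ normalizer (𝐂[zpowers u] : Set G) :=
  Cfsg.Agent.Lib.BrauerMax.normalizer_le_normalizer_centralizer _ hx

theorem T_le_N {f : Set (IrrCharacter 𝐂[zpowers u])} {ν₁ : IrrCharacter 𝐂[zpowers u]} (hL : LocData p M u f T' ν₁) {x : G} (hx : x ∈ T') : x ∈ normalizer (𝐂[zpowers u] : Set G) :=
  N_le_N ((hL.hT' x).1 hx).1

theorem actN_mem {f : Set (IrrCharacter 𝐂[zpowers u])} {ν₁ : IrrCharacter 𝐂[zpowers u]} (hL : LocData p M u f T' ν₁) {x : G} (hx : x ∈ T') {ν} (hν : ν ∈ f) : actN 𝐂[zpowers u] x ν ∈ f := by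
  obtain ⟨h1, h2⟩ := (hL.hT' x).1 hx
  rw [actN_of_mem (N_le_N h1)]
  have h3 := twistSet_eq_of_stabilizes hL.hf h2
  have h4 : twist (conjAut 𝐂[zpowers u] x (N_le_N h1)) ν ∈ twistSet (conjAut 𝐂[zpowers u] x (N_le_N h1)) f := ⟨ν, hν, rfl⟩
  rw [h3] at h4
  exact h4

theorem actN_not_mem {f : Set (IrrCharacter 𝐂[zpowers u])} {ν₁ : IrrCharacter 𝐂[zpowers u]} (hL : LocData p M u f T' ν₁) {x : G} (hx : x ∈ 𝐍[zpowers u]) (hxT : x ∉ T') {ν} (hν : ν ∈ f) :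
    actN 𝐂[zpowers u] x ν ∉ f := by
  intro h1
  apply hxT
  rw [actN_of_mem (N_le_N hx)] at h1
  refine (hL.hT' x).2 ⟨hx, stabilizes_of_twistSet_eq (N_le_N hx) ?_⟩
  have h2 := isPBlock_twistSet (M := M) (conjAut 𝐂[zpowers u] x (N_le_N hx)) hL.hf
  rcases eq_or_disjoint_of_isPBlock h2 hL.hf with h3 | h3
  · exact h3
  · exact absurd h1 (Set.disjoint_right.1 h3 h1 |> fun h => (h ⟨ν, hν, rfl⟩).elim)

/-- The contribution of an element of the inertial group. -/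
theorem BB_of_T {f : Set (IrrCharacter 𝐂[zpowers u])} {ν₁ : IrrCharacter 𝐂[zpowers u]} (hL : LocData p M u f T' ν₁) {ν ν' : IrrCharacter 𝐂[zpowers u]} (hν1 : ν ≠ ν₁) (hν' : ν' ∈ f)
    (hν'1 : ν' ≠ ν₁) {x : G} (hx : x ∈ T') :
    BB 𝐂[zpowers u] ((ν : 𝐂[zpowers u] → ℂ) - (ν₁ : 𝐂[zpowers u] → ℂ)) ((ν' : 𝐂[zpowers u] → ℂ) - (ν₁ : 𝐂[zpowers u] → ℂ)) x =
      (if ν = actN 𝐂[zpowers u] x ν' then 1 else 0) + 1 := by
  classical
  rw [BB_of_normalizer (T_le_N hL hx), hL.hfix x hx, if_neg hν1, if_pos rfl]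
  have h1 : ν₁ ≠ actN 𝐂[zpowers u] x ν' := by
    intro h2
    have h3 := hL.hfix x hx
    rw [actN_of_mem (T_le_N hL hx)] at h2 h3
    exact hν'1 (twist_injective _ (h2.symm.trans h3.symm))
  rw [if_neg h1]
  ring

/-- The contribution of the other elements. -/
theorem BB_of_not_T {f : Set (IrrCharacter 𝐂[zpowers u])} {ν₁ : IrrCharacter 𝐂[zpowers u]} (hL : LocData p M u f T' ν₁) {ν ν' : IrrCharacter 𝐂[zpowers u]} (hν : ν ∈ f) (hν' : ν' ∈ f)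
    {x : G} (hx : x ∉ T') :
    BB 𝐂[zpowers u] ((ν : 𝐂[zpowers u] → ℂ) - (ν₁ : 𝐂[zpowers u] → ℂ)) ((ν' : 𝐂[zpowers u] → ℂ) - (ν₁ : 𝐂[zpowers u] → ℂ)) x = 0 := by
  classical
  by_cases hxN : x ∈ 𝐍[zpowers u]
  · rw [BB_of_normalizer (N_le_N hxN)]
    have h0 := actN_not_mem hL hxN hx hν'
    have h1 := actN_not_mem hL hxN hx hL.hν₁
    have e1 : ν ≠ actN 𝐂[zpowers u] x ν' := fun h => h0 (h ▸ hν)
    have e2 : ν ≠ actN 𝐂[zpowers u] x ν₁ := fun h => h1 (h ▸ hν)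
    have e3 : ν₁ ≠ actN 𝐂[zpowers u] x ν' := fun h => h0 (h ▸ hL.hν₁)
    have e4 : ν₁ ≠ actN 𝐂[zpowers u] x ν₁ := fun h => h1 (h ▸ hL.hν₁)
    rw [if_neg e1, if_neg e2, if_neg e3, if_neg e4]
    ring
  · unfold BB classInner
    rw [Finset.sum_eq_zero, mul_zero]
    intro y _
    beta_reduce
    by_cases hy : (ν : 𝐂[zpowers u] → ℂ) y = (ν₁ : 𝐂[zpowers u] → ℂ) y
    · simp [hy]
    by_cases hy2 : x⁻¹ * y * x ∈ 𝐂[zpowers u]
    · rw [extendByZero_of_mem _ _ hy2]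
      by_cases hy3 : (ν' : 𝐂[zpowers u] → ℂ) ⟨_, hy2⟩ = (ν₁ : 𝐂[zpowers u] → ℂ) ⟨_, hy2⟩
      · simp [hy3]
      · exact absurd (mem_N_of_sing hL.hu (hL.hsupp ν hν ν₁ hL.hν₁ y hy) (hL.hsupp ν' hν' ν₁ hL.hν₁ _ hy3)) hxN
    · rw [extendByZero_of_not_mem _ _ hy2]
      simp

/-- **The Gram matrix.** -/
theorem gram_eq {f : Set (IrrCharacter 𝐂[zpowers u])} {ν₁ : IrrCharacter 𝐂[zpowers u]} (hL : LocData p M u f T' ν₁) {ν ν' : IrrCharacter 𝐂[zpowers u]} (hν : ν ∈ f) (hν1 : ν ≠ ν₁) (hν' : ν' ∈ f)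
    (hν'1 : ν' ≠ ν₁) :
    classInner (indFun 𝐂[zpowers u] ((ν : 𝐂[zpowers u] → ℂ) - (ν₁ : 𝐂[zpowers u] → ℂ)))
        (indFun 𝐂[zpowers u] ((ν' : 𝐂[zpowers u] → ℂ) - (ν₁ : 𝐂[zpowers u] → ℂ))) =
      (Nat.card 𝐂[zpowers u] : ℂ)⁻¹ * ((open scoped Classical in (Finset.univ.filter (fun x : G => x ∈ T' ∧ ν = actN 𝐂[zpowers u] x ν')).card : ℂ) + (Nat.card T' : ℂ)) := by
  classical
  rw [inner_ind_ind]
  congr 1
  have h1 : ∀ x : G, BB 𝐂[zpowers u] ((ν : 𝐂[zpowers u] → ℂ) - (ν₁ : 𝐂[zpowers u] → ℂ)) ((ν' : 𝐂[zpowers u] → ℂ) - (ν₁ : 𝐂[zpowers u] → ℂ)) x =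
      (if x ∈ T' ∧ ν = actN 𝐂[zpowers u] x ν' then 1 else 0) + (if x ∈ T' then 1 else 0) := by
    intro x
    by_cases hx : x ∈ T'
    · rw [BB_of_T hL hν1 hν' hν'1 hx, if_pos hx]
      simp [hx]
    · rw [BB_of_not_T hL hν hν' hx, if_neg hx]
      simp [hx]
  simp_rw [h1]
  rw [Finset.sum_add_distrib, Finset.sum_boole, Finset.sum_boole]
  congr 2
  rw [Nat.card_eq_fintype_card, Fintype.card_subtype]

section Coord

variable {H : Subgroup G}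

theorem inner_ind_irr (a b : IrrCharacter H) (χ : IrrCharacter G) :
    classInner (indFun H ((a : H → ℂ) - (b : H → ℂ))) (χ : G → ℂ) = (((sN H χ a : ℤ) - (sN H χ b : ℤ) : ℤ) : ℂ) := by
  rw [frobenius H _ (isClassFunction_of_isCharacter (IsIrrCharacter.isCharacter χ.2)), classInner_sub_left,
    ← classInner_conj_symm (fun h : H => (χ : G → ℂ) h) (a : H → ℂ), ← classInner_conj_symm (fun h : H => (χ : G → ℂ) h) (b : H → ℂ), ← sN_spec, ← sN_spec]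
  simp

/-- The coordinates of the induced differences. -/
noncomputable def ss (ν₁ : IrrCharacter H) (Rf : Finset (IrrCharacter H)) (χ : IrrCharacter G) (j : Rf) : ℤ :=
  (sN H χ (j : IrrCharacter H) : ℤ) - (sN H χ ν₁ : ℤ)

theorem ind_eq_Ee (ν₁ : IrrCharacter H) (Rf : Finset (IrrCharacter H)) (j : Rf) :
    indFun H (((j : IrrCharacter H) : H → ℂ) - (ν₁ : H → ℂ)) = Ee (ss ν₁ Rf) j := by
  have h1 := classFunction_eq_sum (indFun_isClassFunction H (((j : IrrCharacter H) : H → ℂ) - (ν₁ : H → ℂ)))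
  rw [h1]
  unfold Ee
  refine Finset.sum_congr rfl fun χ _ => ?_
  rw [inner_ind_irr]
  rfl

end Coord

theorem C_le_T {f : Set (IrrCharacter 𝐂[zpowers u])} {ν₁ : IrrCharacter 𝐂[zpowers u]} (hL : LocData p M u f T' ν₁) :
    𝐂[zpowers u] ≤ T' := fun _ hx =>
  (hL.hT' _).2 ⟨Cfsg.Agent.Lib.BrauerCen.mem_normalizer_of_mem_centralizer hx,
    Cfsg.Agent.Lib.BrauerStab.stabilizes_of_mem_centralizer hx f⟩

theorem card_T {f : Set (IrrCharacter 𝐂[zpowers u])} {ν₁ : IrrCharacter 𝐂[zpowers u]} (hL : LocData p M u f T' ν₁) :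
    Nat.card T' = (𝐂[zpowers u]).relIndex T' * Nat.card 𝐂[zpowers u] := by
  have h1 := Subgroup.card_mul_index ((𝐂[zpowers u]).subgroupOf T')
  have h2 : Nat.card ((𝐂[zpowers u]).subgroupOf T') = Nat.card 𝐂[zpowers u] :=
    Nat.card_congr (Subgroup.subgroupOfEquivOfLe (C_le_T hL)).toEquiv
  rw [h2] at h1
  unfold Subgroup.relIndex
  rw [← h1, mul_comm]

theorem orderOf_conj' (x g : G) : orderOf (x⁻¹ * g * x) = orderOf g := by
  have h := MulEquiv.orderOf_eq (MulAut.conj x⁻¹) g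
  simpa using h

section Transversal

theorem count_eq {f : Set (IrrCharacter 𝐂[zpowers u])} {ν₁ : IrrCharacter 𝐂[zpowers u]} {Rf : Finset (IrrCharacter 𝐂[zpowers u])} (hL : LocData p M u f T' ν₁) (hR1 : ∀ r ∈ Rf, r ∈ f ∧ r ≠ ν₁)
    (hR2 : ∀ r ∈ Rf, ∀ r' ∈ Rf, ∀ t ∈ T', actN 𝐂[zpowers u] t r' = r → r = r') (j k : Rf) :
    (open scoped Classical in (Finset.univ.filter (fun x : G => x ∈ T' ∧ (j : IrrCharacter 𝐂[zpowers u]) = actN 𝐂[zpowers u] x k)).card) =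
      if j = k then Nat.card 𝐂[zpowers u] else 0 := by
  classical
  by_cases hjk : j = k
  · subst hjk
    rw [if_pos rfl, Nat.card_eq_fintype_card, Fintype.card_subtype]
    congr 1
    ext x
    simp only [Finset.mem_filter, Finset.mem_univ, true_and]
    constructor
    · rintro ⟨h1, h2⟩
      exact hL.hfree _ (hR1 _ j.2).1 (hR1 _ j.2).2 x h1 h2.symm
    · intro h1
      refine ⟨C_le_T hL h1, ?_⟩
      have h2 := T_le_N hL (C_le_T hL h1)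
      rw [actN_of_mem h2, twist_conj_inner h1 h2]
  · rw [if_neg hjk, Finset.card_eq_zero, Finset.filter_eq_empty_iff]
    rintro x - ⟨h1, h2⟩
    exact hjk (Subtype.ext (hR2 _ j.2 _ k.2 x h1 h2.symm))

/-- **The Gram matrix of the coordinates.** -/
theorem gram_int {f : Set (IrrCharacter 𝐂[zpowers u])} {ν₁ : IrrCharacter 𝐂[zpowers u]} {Rf : Finset (IrrCharacter 𝐂[zpowers u])} (hL : LocData p M u f T' ν₁) (hR1 : ∀ r ∈ Rf, r ∈ f ∧ r ≠ ν₁)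
    (hR2 : ∀ r ∈ Rf, ∀ r' ∈ Rf, ∀ t ∈ T', actN 𝐂[zpowers u] t r' = r → r = r') {e : ℕ}
    (he : (𝐂[zpowers u]).relIndex T' = e) (j k : Rf) :
    ∑ χ, ss ν₁ Rf χ j * ss ν₁ Rf χ k = (if j = k then 1 else 0) + (e : ℤ) := by
  classical
  have h1 := inner_Ee_Ee (s := ss ν₁ Rf) j k
  rw [← ind_eq_Ee, ← ind_eq_Ee, gram_eq hL (hR1 _ j.2).1 (hR1 _ j.2).2 (hR1 _ k.2).1 (hR1 _ k.2).2, count_eq hL hR1 hR2, card_T hL, he] at h1
  have hH : (Nat.card 𝐂[zpowers u] : ℂ) ≠ 0 := natCard_subgroup_ne_zero _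
  have h2 : ((∑ χ, ss ν₁ Rf χ j * ss ν₁ Rf χ k : ℤ) : ℂ) = (((if j = k then 1 else 0) + (e : ℤ) : ℤ) : ℂ) := by
    rw [← h1]
    by_cases hjk : j = k
    · simp only [hjk, if_true]
      push_cast
      field_simp
    · simp only [hjk, if_false]
      push_cast
      field_simp
      ring
  exact_mod_cast h2

/-- **The combinations vanish on regular elements.** -/
theorem Ee_reg {f : Set (IrrCharacter 𝐂[zpowers u])} {ν₁ : IrrCharacter 𝐂[zpowers u]} {Rf : Finset (IrrCharacter 𝐂[zpowers u])} (hL : LocData p M u f T' ν₁) (hR1 : ∀ r ∈ Rf, r ∈ f ∧ r ≠ ν₁) (j : Rf) (g : G) (hg : ¬ p ∣ orderOf g) :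
    Ee (ss ν₁ Rf) j g = 0 := by
  rw [← ind_eq_Ee, indFun_apply, Finset.sum_eq_zero, mul_zero]
  intro x _
  by_cases hx : x⁻¹ * g * x ∈ 𝐂[zpowers u]
  · rw [extendByZero_of_mem _ _ hx, Pi.sub_apply, sub_eq_zero]
    apply hL.hreg _ (hR1 _ j.2).1 _ hL.hν₁
    rw [orderOf_conj']
    exact hg
  · rw [extendByZero_of_not_mem _ _ hx]

end Transversal

section Out

variable {B : Set (IrrCharacter G)}

/-- **Characters with nonzero coordinates lie in the block.** -/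
theorem mem_of_ss_ne {f : Set (IrrCharacter 𝐂[zpowers u])} {ν₁ : IrrCharacter 𝐂[zpowers u]} {Rf : Finset (IrrCharacter 𝐂[zpowers u])} (hM : IsPModular p M) (hL : LocData p M u f T' ν₁) (hR1 : ∀ r ∈ Rf, r ∈ f ∧ r ≠ ν₁)
    (hind : IsInducedBlock M 𝐂[zpowers u] f B) (χ : IrrCharacter G) (j : Rf) (hne : ss ν₁ Rf χ j ≠ 0) : χ ∈ B := by
  classical
  by_contra hχ
  apply hne
  have hθ : IsClassFunction 𝐂[zpowers u] (fun h : 𝐂[zpowers u] => (χ : G → ℂ) h) :=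
    isClassFunction_of_isCharacter (isCharacter_restrict _ (IsIrrCharacter.isCharacter χ.2))
  set P := blockProj f (fun h : 𝐂[zpowers u] => (χ : G → ℂ) h) with hP
  have hinner : ∀ ν ∈ f, (sN 𝐂[zpowers u] χ ν : ℂ) = classInner P (ν : 𝐂[zpowers u] → ℂ) := by
    intro ν hν
    rw [hP, classInner_blockProj, indB_of_mem hν, one_mul, sN_spec]
  have h1 : ((ss ν₁ Rf χ j : ℤ) : ℂ) = classInner P (((j : IrrCharacter 𝐂[zpowers u]) : 𝐂[zpowers u] → ℂ) - (ν₁ : 𝐂[zpowers u] → ℂ)) := by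
    rw [classInner_sub_right, ← hinner _ (hR1 _ j.2).1, ← hinner _ hL.hν₁]
    unfold ss
    push_cast
    rfl
  have h2 : classInner P (((j : IrrCharacter 𝐂[zpowers u]) : 𝐂[zpowers u] → ℂ) - (ν₁ : 𝐂[zpowers u] → ℂ)) = 0 := by
    unfold classInner
    rw [Finset.sum_eq_zero, mul_zero]
    intro y _
    by_cases hy : ((j : IrrCharacter 𝐂[zpowers u]) : 𝐂[zpowers u] → ℂ) y = (ν₁ : 𝐂[zpowers u] → ℂ) y
    · rw [Pi.sub_apply, hy, sub_self, map_zero, mul_zero]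
    · have h3 := hL.hsupp _ (hR1 _ j.2).1 _ hL.hν₁ y hy
      have hCH : Subgroup.centralizer ({pp p (y : G)} : Set G) ≤ 𝐂[zpowers u] := by
        intro t ht
        rw [Subgroup.mem_centralizer_singleton_iff] at ht
        rw [Cfsg.Agent.Lib.BlockSecond.centralizer_zpowers_eq, Subgroup.mem_centralizer_singleton_iff]
        obtain ⟨n, hn⟩ := mem_zpowers_iff.1 h3
        rw [← hn]
        have h4 : Commute t (pp p (y : G)) := ht
        exact (h4.zpow_right n).eq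
      have h5 := Cfsg.Agent.Lib.BlockSecond.sum_blockCoeff_mul_irr_eq_zero hM hind y.2 (pp_spec (p := p) (y : G)) hCH χ hχ
      have h6 : P y = 0 := by
        rw [hP, ← Cfsg.Agent.Lib.StarInner.sum_blockCoeff_mul f hθ y, ← h5]
        refine Finset.sum_congr rfl fun k _ => ?_
        congr 1
        push_cast
        exact char_mul_comm' (IsIrrCharacter.isCharacter χ.2) _ _
      rw [h6, zero_mul]
  rw [h2] at h1
  exact_mod_cast h1

end Out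

section Sign

open Cfsg.Agent.Lib.RangeChar Cfsg.Agent.Lib.RangeAlg

variable {V : ValuationSubring ℂ}

theorem ss_values {f : Set (IrrCharacter 𝐂[zpowers u])} {ν₁ : IrrCharacter 𝐂[zpowers u]} {Rf : Finset (IrrCharacter 𝐂[zpowers u])}
    (hν₁ : ν₁ ∈ f) (hR1 : ∀ r ∈ Rf, r ∈ f ∧ r ≠ ν₁)
    (hL1 : ∀ (e₀ : MonoidAlgebra V G), e₀ * e₀ = e₀ →
        (∀ f : MonoidAlgebra V G, f * f = f → e₀ * f = f → f * e₀ = f → f = 0 ∨ f = e₀) →
        ∀ (Y : Finset (IrrCharacter G)) (d : IrrCharacter G → ℕ), (∀ χ, dval e₀ χ = d χ) →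
        ∀ ν ∈ f, ∀ ν' ∈ f, ∑ χ ∈ Y, d χ * sN 𝐂[zpowers u] χ ν ≤ ∑ χ ∈ Y, d χ * sN 𝐂[zpowers u] χ ν' + 1)
    (χ : IrrCharacter G) (j : Rf) : ss ν₁ Rf χ j = 0 ∨ ss ν₁ Rf χ j = 1 ∨ ss ν₁ Rf χ j = -1 := by
  have h1 := sN_le_of_prim hL1 χ (hR1 _ j.2).1 hν₁
  have h2 := sN_le_of_prim hL1 χ hν₁ (hR1 _ j.2).1
  unfold ss
  omega

theorem ss_same {f : Set (IrrCharacter 𝐂[zpowers u])} {ν₁ : IrrCharacter 𝐂[zpowers u]} {Rf : Finset (IrrCharacter 𝐂[zpowers u])}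
    (hν₁ : ν₁ ∈ f) (hR1 : ∀ r ∈ Rf, r ∈ f ∧ r ≠ ν₁)
    (hL1 : ∀ (e₀ : MonoidAlgebra V G), e₀ * e₀ = e₀ →
        (∀ f : MonoidAlgebra V G, f * f = f → e₀ * f = f → f * e₀ = f → f = 0 ∨ f = e₀) →
        ∀ (Y : Finset (IrrCharacter G)) (d : IrrCharacter G → ℕ), (∀ χ, dval e₀ χ = d χ) →
        ∀ ν ∈ f, ∀ ν' ∈ f, ∑ χ ∈ Y, d χ * sN 𝐂[zpowers u] χ ν ≤ ∑ χ ∈ Y, d χ * sN 𝐂[zpowers u] χ ν' + 1)
    (χ : IrrCharacter G) (j k : Rf) (h1 : ss ν₁ Rf χ j ≠ 0) (h2 : ss ν₁ Rf χ k ≠ 0) : ss ν₁ Rf χ j = ss ν₁ Rf χ k := by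
  have h3 := ss_values hν₁ hR1 hL1 χ j
  have h4 := ss_values hν₁ hR1 hL1 χ k
  have h5 := sN_le_of_prim hL1 χ (hR1 _ j.2).1 (hR1 _ k.2).1
  have h6 := sN_le_of_prim hL1 χ (hR1 _ k.2).1 (hR1 _ j.2).1
  unfold ss at *
  omega

/-- **The exclusion lemma.** -/
theorem ss_exclude {f : Set (IrrCharacter 𝐂[zpowers u])} {ν₁ : IrrCharacter 𝐂[zpowers u]} {Rf : Finset (IrrCharacter 𝐂[zpowers u])}
    (hν₁ : ν₁ ∈ f) (hR1 : ∀ r ∈ Rf, r ∈ f ∧ r ≠ ν₁)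
    (hL1 : ∀ (e₀ : MonoidAlgebra V G), e₀ * e₀ = e₀ →
        (∀ f : MonoidAlgebra V G, f * f = f → e₀ * f = f → f * e₀ = f → f = 0 ∨ f = e₀) →
        ∀ (Y : Finset (IrrCharacter G)) (d : IrrCharacter G → ℕ), (∀ χ, dval e₀ χ = d χ) →
        ∀ ν ∈ f, ∀ ν' ∈ f, ∑ χ ∈ Y, d χ * sN 𝐂[zpowers u] χ ν ≤ ∑ χ ∈ Y, d χ * sN 𝐂[zpowers u] χ ν' + 1)
    (hL2 : ∀ (e₀ : MonoidAlgebra V G), e₀ * e₀ = e₀ →
        ∀ (d : IrrCharacter G → ℕ), (∀ χ, dval e₀ χ = d χ) →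
        ∀ ν ∈ f, ∀ ν' ∈ f, ∑ χ, d χ * sN 𝐂[zpowers u] χ ν ≤ ∑ χ, d χ * sN 𝐂[zpowers u] χ ν')
    (hp1 : ¬ p ∣ orderOf (1 : G)) (hreg : ∀ j g, ¬ p ∣ orderOf g → Ee (ss ν₁ Rf) j g = 0)
    (j k i : Rf) (χ χ' : IrrCharacter G) (hjk : j ≠ k) (hij : i ≠ j) (hik : i ≠ k)
    (h1 : ss ν₁ Rf χ j ≠ 0) (h2 : ss ν₁ Rf χ k = 0) (h3 : ss ν₁ Rf χ' k ≠ 0) (h4 : ss ν₁ Rf χ' j = 0)
    (h5 : ss ν₁ Rf χ i ≠ 0) (h6 : ss ν₁ Rf χ' i ≠ 0) (hrest : ∀ ψ, ψ ≠ χ → ψ ≠ χ' → ss ν₁ Rf ψ j = ss ν₁ Rf ψ k) : False := by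
  classical
  have hne : χ ≠ χ' := by
    rintro rfl
    exact h3 h2
  have hvj := hreg j 1 hp1
  have hvk := hreg k 1 hp1
  rw [Ee_apply] at hvj hvk
  have hs1 := ss_values hν₁ hR1 hL1
  -- the value at one
  have h7 : ss ν₁ Rf χ j * (charDegree (χ : G → ℂ) : ℤ) = ss ν₁ Rf χ' k * (charDegree (χ' : G → ℂ) : ℤ) := by
    have h8 : ∑ ψ, ((ss ν₁ Rf ψ j - ss ν₁ Rf ψ k : ℤ) : ℂ) * (ψ : G → ℂ) 1 = 0 := by
      simp only [Int.cast_sub, sub_mul]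
      rw [Finset.sum_sub_distrib, hvj, hvk, sub_self]
    rw [Finset.sum_eq_add χ χ' hne (fun ψ _ hψ => by rw [hrest ψ hψ.1 hψ.2]; simp) (fun h => absurd (Finset.mem_univ _) h)
      (fun h => absurd (Finset.mem_univ _) h), h2, h4] at h8
    rw [Cfsg.Agent.Lib.CharKernel.one_eq_charDegree (IsIrrCharacter.isCharacter χ.2),
      Cfsg.Agent.Lib.CharKernel.one_eq_charDegree (IsIrrCharacter.isCharacter χ'.2)] at h8
    have h9 : (((ss ν₁ Rf χ j * (charDegree (χ : G → ℂ) : ℤ) : ℤ)) : ℂ) = ((ss ν₁ Rf χ' k * (charDegree (χ' : G → ℂ) : ℤ) : ℤ) : ℂ) := by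
      simp only [Int.cast_mul, Int.cast_natCast]
      simp only [Int.cast_sub, Int.cast_zero] at h8
      linear_combination h8
    exact_mod_cast h9
  have hd1 : (0 : ℤ) < (charDegree (χ : G → ℂ) : ℤ) := by exact_mod_cast Cfsg.Agent.Lib.CharKernel.charDegree_pos χ.2
  have hd2 : (0 : ℤ) < (charDegree (χ' : G → ℂ) : ℤ) := by exact_mod_cast Cfsg.Agent.Lib.CharKernel.charDegree_pos χ'.2
  have hsame : ss ν₁ Rf χ j = ss ν₁ Rf χ' k := by
    rcases hs1 χ j with h | h | h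
    · exact absurd h h1
    · rcases hs1 χ' k with h' | h' | h'
      · exact absurd h' h3
      · rw [h, h']
      · rw [h, h'] at h7
        nlinarith
    · rcases hs1 χ' k with h' | h' | h'
      · exact absurd h' h3
      · rw [h, h'] at h7
        nlinarith
      · rw [h, h']
  -- an idempotent
  obtain ⟨e₀, he, hne0, hprim⟩ := exists_local_idem (A := V) (eps_singleton_ne_zero χ)
  choose d hd using dval_nat he
  have hdχ : d χ ≠ 0 := by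
    intro h0
    apply dval_ne_zero he hne0
    rw [hd, h0]
    simp
  -- the sum is balanced
  have hbal : (d χ : ℤ) * ss ν₁ Rf χ j = (d χ' : ℤ) * ss ν₁ Rf χ' k := by
    have h8 := hL2 e₀ he d hd _ (hR1 _ j.2).1 _ (hR1 _ k.2).1
    have h9 := hL2 e₀ he d hd _ (hR1 _ k.2).1 _ (hR1 _ j.2).1
    have h10 := le_antisymm h8 h9
    have h11 : ∑ ψ, (d ψ : ℤ) * (ss ν₁ Rf ψ j - ss ν₁ Rf ψ k) = 0 := by
      have h12 : ∀ ψ, (d ψ : ℤ) * (ss ν₁ Rf ψ j - ss ν₁ Rf ψ k) = ((d ψ * sN 𝐂[zpowers u] ψ (j : IrrCharacter 𝐂[zpowers u]) : ℕ) : ℤ) - ((d ψ * sN 𝐂[zpowers u] ψ (k : IrrCharacter 𝐂[zpowers u]) : ℕ) : ℤ) := by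
        intro ψ
        unfold ss
        simp only [Nat.cast_mul]
        ring
      simp_rw [h12]
      rw [Finset.sum_sub_distrib, ← Nat.cast_sum, ← Nat.cast_sum, h10, sub_self]
    rw [Finset.sum_eq_add χ χ' hne (fun ψ _ hψ => by rw [hrest ψ hψ.1 hψ.2]; simp) (fun h => absurd (Finset.mem_univ _) h)
      (fun h => absurd (Finset.mem_univ _) h), h2, h4] at h11
    linarith
  have hdd : d χ = d χ' := by
    rw [← hsame] at hbal
    have h8 : (d χ : ℤ) = (d χ' : ℤ) := mul_right_cancel₀ h1 hbal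
    exact_mod_cast h8
  -- the other coordinate
  have hi1 : ss ν₁ Rf χ i = ss ν₁ Rf χ j := ss_same hν₁ hR1 hL1 χ i j h5 h1
  have hi2 : ss ν₁ Rf χ' i = ss ν₁ Rf χ' k := ss_same hν₁ hR1 hL1 χ' i k h6 h3
  have h8 := hL1 e₀ he hprim {χ, χ'} d hd _ (hR1 _ i.2).1 _ hν₁
  have h9 := hL1 e₀ he hprim {χ, χ'} d hd _ hν₁ _ (hR1 _ i.2).1
  rw [Finset.sum_pair hne, Finset.sum_pair hne] at h8 h9
  rw [← hdd] at h8 h9
  have hdpos : (1 : ℤ) ≤ (d χ : ℤ) := by exact_mod_cast Nat.pos_of_ne_zero hdχ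
  have h10 : ((d χ * sN 𝐂[zpowers u] χ (i : IrrCharacter 𝐂[zpowers u]) + d χ * sN 𝐂[zpowers u] χ' (i : IrrCharacter 𝐂[zpowers u]) : ℕ) : ℤ) ≤ ((d χ * sN 𝐂[zpowers u] χ ν₁ + d χ * sN 𝐂[zpowers u] χ' ν₁ + 1 : ℕ) : ℤ) := by
    exact_mod_cast h8
  have h11 : ((d χ * sN 𝐂[zpowers u] χ ν₁ + d χ * sN 𝐂[zpowers u] χ' ν₁ : ℕ) : ℤ) ≤ ((d χ * sN 𝐂[zpowers u] χ (i : IrrCharacter 𝐂[zpowers u]) + d χ * sN 𝐂[zpowers u] χ' (i : IrrCharacter 𝐂[zpowers u]) + 1 : ℕ) : ℤ) := by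
    exact_mod_cast h9
  simp only [Nat.cast_add, Nat.cast_mul, Nat.cast_one] at h10 h11
  have h12 : (d χ : ℤ) * (ss ν₁ Rf χ i + ss ν₁ Rf χ' i) ≤ 1 := by
    unfold ss
    linarith
  have h13 : -((d χ : ℤ) * (ss ν₁ Rf χ i + ss ν₁ Rf χ' i)) ≤ 1 := by
    unfold ss
    linarith
  rw [hi1, hi2, ← hsame] at h12 h13
  rcases hs1 χ j with h | h | h
  · exact h1 h
  · rw [h] at h12
    linarith
  · rw [h] at h13
    linarith

end Sign

end Gram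

end Cfsg.Agent.Lib.DcGram
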