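import Mathlib
import Cfsg.Agent.Lib.DcGram
import Cfsg.Agent.Lib.DcCount
import Cfsg.Agent.S4683

/-!
# The main theorem on blocks with a cyclic defect group
-/

set_option autoImplicit false
set_option linter.unusedSectionVars false
set_option linter.unusedVariables false
set_option linter.unusedSimpArgs false
set_option linter.style.haveILetI false

namespace Cfsg.Agent.Lib.DcSetup

open Cfsg Module Subgroup
open Cfsg.Agent.Lib.BlockQ Cfsg.Agent.Lib.BlockIdem Cfsg.Agent.Lib.BlkBasic Cfsg.Agent.Lib.BrauerPair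
open Cfsg.Agent.Lib.DcGrpA Cfsg.Agent.Lib.DcGrp Cfsg.Agent.Lib.DcL Cfsg.Agent.Lib.DcAbs Cfsg.Agent.Lib.BlockOrtho
open Cfsg.Agent.Lib.CharBasic Cfsg.Agent.Lib.CharInd Cfsg.Agent.Lib.StarGen Cfsg.Agent.Lib.StarGlob
open Cfsg.Agent.Lib.DcGram Cfsg.Agent.Lib.StarInner
open scoped ComplexConjugate

universe u

/-- A set on which all stabilizers have the same order splits into orbits of the same size. -/
theorem exists_transversal {α A : Type*} [DecidableEq α] [Group A] [Fintype A] (act : A → α → α)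
    (h1 : ∀ x, act 1 x = x) (hmul : ∀ a b x, act (a * b) x = act a (act b x)) {e : ℕ} (he : 0 < e) (S : Finset α)
    (hS : ∀ a, ∀ x ∈ S, act a x ∈ S)
    (hstab : ∀ x ∈ S, (open scoped Classical in (Finset.univ.filter (fun a => act a x = x)).card) * e = Fintype.card A) :
    ∃ R : Finset α, R ⊆ S ∧ R.card * e = S.card ∧ (∀ x ∈ S, ∃ r ∈ R, ∃ a, act a r = x) ∧
      ∀ r ∈ R, ∀ r' ∈ R, ∀ a, act a r' = r → r = r' := by
  classical
  induction hk : S.card using Nat.strong_induction_on generalizing S with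
  | _ k ih =>
    rcases S.eq_empty_or_nonempty with rfl | ⟨x, hx⟩
    · exact ⟨∅, by simp, by simpa using hk, by simp, by simp⟩
    letI : MulAction A α := { smul := act, one_smul := h1, mul_smul := hmul }
    have hsm : ∀ (a : A) (y : α), a • y = act a y := fun _ _ => rfl
    let O : Finset α := Finset.univ.image (fun a : A => act a x)
    have hOS : O ⊆ S := by
      intro y hy
      obtain ⟨a, -, rfl⟩ := Finset.mem_image.1 hy
      exact hS a x hx
    have hOm : ∀ y, y ∈ O ↔ y ∈ MulAction.orbit A x := by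
      intro y
      simp only [O, Finset.mem_image, Finset.mem_univ, true_and, MulAction.mem_orbit_iff]
      rfl
    have hOcard : O.card = e := by
      have h2 := hstab x hx
      letI : Fintype (MulAction.orbit A x) := Fintype.ofFinset O hOm
      letI : Fintype (MulAction.stabilizer A x) := Fintype.ofFinite _
      have h3 := MulAction.card_orbit_mul_card_stabilizer_eq_card_group A x
      have h4 : Fintype.card (MulAction.orbit A x) = O.card := Fintype.card_ofFinset O hOm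
      have h5 : Fintype.card (MulAction.stabilizer A x) = (Finset.univ.filter (fun a => act a x = x)).card := by
        rw [Fintype.card_subtype]
        congr 1
      rw [h4, h5] at h3
      rw [← h2, mul_comm] at h3
      have h6 : 0 < (Finset.univ.filter (fun a => act a x = x)).card := Finset.card_pos.2 ⟨1, by simp [h1]⟩
      exact Nat.eq_of_mul_eq_mul_left h6 h3
    let S' : Finset α := S \ O
    have hS'card : S'.card + e = S.card := by
      rw [← hOcard]
      exact Finset.card_sdiff_add_card_eq_card hOS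
    have hS' : ∀ a, ∀ y ∈ S', act a y ∈ S' := by
      intro a y hy
      obtain ⟨hyS, hyO⟩ := Finset.mem_sdiff.1 hy
      refine Finset.mem_sdiff.2 ⟨hS a y hyS, fun h => hyO ?_⟩
      obtain ⟨b, -, hb⟩ := Finset.mem_image.1 h
      refine Finset.mem_image.2 ⟨a⁻¹ * b, Finset.mem_univ _, ?_⟩
      rw [hmul, hb, ← hmul, inv_mul_cancel, h1]
    obtain ⟨R', hR'1, hR'2, hR'3, hR'4⟩ := ih S'.card (by omega) S' hS' (fun y hy => hstab y (Finset.mem_sdiff.1 hy).1) rfl
    have hxO : x ∈ O := Finset.mem_image.2 ⟨1, Finset.mem_univ _, h1 x⟩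
    have hxR' : x ∉ R' := fun h => (Finset.mem_sdiff.1 (hR'1 h)).2 hxO
    refine ⟨insert x R', ?_, ?_, ?_, ?_⟩
    · intro y hy
      rcases Finset.mem_insert.1 hy with rfl | hy
      · exact hx
      · exact (Finset.mem_sdiff.1 (hR'1 hy)).1
    · rw [Finset.card_insert_of_notMem hxR', add_mul, one_mul, hR'2, hS'card]
      exact hk
    · intro y hy
      by_cases hyO : y ∈ O
      · obtain ⟨a, -, ha⟩ := Finset.mem_image.1 hyO
        exact ⟨x, Finset.mem_insert_self _ _, a, ha⟩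
      · obtain ⟨r, hr, a, ha⟩ := hR'3 y (Finset.mem_sdiff.2 ⟨hy, hyO⟩)
        exact ⟨r, Finset.mem_insert_of_mem hr, a, ha⟩
    · intro r hr r' hr' a ha
      rcases Finset.mem_insert.1 hr with hr1 | hr2
      · rcases Finset.mem_insert.1 hr' with hr3 | hr4
        · rw [hr1, hr3]
        · exfalso
          apply (Finset.mem_sdiff.1 (hR'1 hr4)).2
          refine Finset.mem_image.2 ⟨a⁻¹, Finset.mem_univ _, ?_⟩
          rw [← hr1, ← ha, ← hmul, inv_mul_cancel, h1]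
      · rcases Finset.mem_insert.1 hr' with hr3 | hr4
        · exfalso
          apply (Finset.mem_sdiff.1 (hR'1 hr2)).2
          rw [hr3] at ha
          exact Finset.mem_image.2 ⟨a, Finset.mem_univ _, ha⟩
        · exact hR'4 r hr2 r' hr4 a ha

section Van

variable {X : Type u} [Group X] [Fintype X] {p : ℕ} [hpF : Fact p.Prime] {M : Ideal AlgInt} [hMp : M.IsPrime]

/-- A member of a block vanishes at elements whose `p`-part is not conjugate into a defect group. -/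
theorem exists_conj_pp_mem (hM : IsPModular p M) {B : Set (IrrCharacter X)} {P : Subgroup X}
    {e : Set (IrrCharacter (Subgroup.centralizer (P : Set X)))} (hmax : IsMaximalBrauerPair p M B P e)
    {χ : IrrCharacter X} (hχ : χ ∈ B) {v : X} (hv : (χ : X → ℂ) v ≠ 0) : ∃ g, g * pp p v * g⁻¹ ∈ P := by
  classical
  by_contra hcon
  push Not at hcon
  apply hv
  rw [← sum_chiT_eB (M := M) (χ : X → ℂ) (pp p v) v]
  refine Finset.sum_eq_zero fun b _ => ?_
  refine chiT_eq_zero_of_not_W2 hM hmax hχ ⟨pp p v, b⟩ ?_ rfl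
  rintro ⟨g, hg⟩
  have h1 := Cfsg.Agent.Lib.BrauerSub.le_of_subpairLE (show SubpairLE p M _ _ P e from hg)
  apply hcon g
  apply h1
  exact ⟨pp p v, Subgroup.mem_zpowers _, rfl⟩

end Van

section Main

variable {G : Type u} [Group G] [Fintype G]

local notation "𝐂[" R "]" => Subgroup.centralizer ((R : Subgroup G) : Set G)
local notation "𝐍[" R "]" => Subgroup.normalizer ((R : Subgroup G) : Set G)

attribute [local instance] Cfsg.Agent.Lib.DcGrp.fintypeSubDc Cfsg.Agent.Lib.DcGrp.fintypeQuotDc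

variable {p : ℕ} [hpF : Fact p.Prime] {M : Ideal AlgInt}

theorem pp_coe (H : Subgroup G) (y : H) : ((pp p y : H) : G) = pp p (y : G) := by
  symm
  apply pp_eq
  obtain ⟨w, h1, h2, ⟨k, h3⟩, h4⟩ := pp_spec (p := p) y
  refine ⟨w, ?_, ?_, ⟨k, ?_⟩, ?_⟩
  · exact congrArg Subtype.val h1
  · exact congrArg Subtype.val h2
  · rw [Subgroup.orderOf_coe, h3]
  · rwa [Subgroup.orderOf_coe]

/-- The element of order `p` is a power of a nontrivial `p`-element conjugate into the cyclic group. -/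
theorem mem_zpowers_of_conj {D : Subgroup G} (hD : IsCyclic D) {u g z : G} (hu : orderOf u = p) (huD : u ∈ D)
    (hg : g ∈ 𝐂[zpowers u]) (hw : g * z * g⁻¹ ∈ D) (hk : ∃ k : ℕ, orderOf z = p ^ k) (hz : z ≠ 1) : u ∈ zpowers z := by
  have hp := hpF.out
  set w := g * z * g⁻¹ with hwdef
  have hord : orderOf w = orderOf z := by
    have h := MulEquiv.orderOf_eq (MulAut.conj g) z
    simpa using h
  obtain ⟨k, hk⟩ := hk
  have hk0 : k ≠ 0 := by
    rintro rfl
    apply hz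
    rw [pow_zero, orderOf_eq_one_iff] at hk
    exact hk
  have hdvd : p ∣ orderOf w := by
    rw [hord, hk]
    exact dvd_pow_self p hk0
  have hw0 : orderOf w ≠ 0 := by
    rw [hord, hk]
    exact pow_ne_zero _ hp.ne_zero
  have h1 : orderOf (w ^ (orderOf w / p)) = p := orderOf_pow_orderOf_div hw0 hdvd
  have h2 : u ∈ zpowers (w ^ (orderOf w / p)) :=
    mem_zpowers_of_pow' hD hp.pos huD (pow_mem hw _) (by rw [← hu, pow_orderOf_eq_one]) h1
  obtain ⟨n, hn⟩ := mem_zpowers_iff.1 h2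
  have h3 : u = g * z ^ (((orderOf w / p : ℕ) : ℤ) * n) * g⁻¹ := by
    rw [← hn, ← zpow_natCast, ← zpow_mul, hwdef, conj_zpow]
  have hc : g * u = u * g := (mem_centralizer_iff.1 hg u (mem_zpowers u)).symm
  have h4 : z ^ (((orderOf w / p : ℕ) : ℤ) * n) = u := by
    have h5 : g * z ^ (((orderOf w / p : ℕ) : ℤ) * n) = g * u := by
      rw [hc]
      calc g * z ^ (((orderOf w / p : ℕ) : ℤ) * n) = (g * z ^ (((orderOf w / p : ℕ) : ℤ) * n) * g⁻¹) * g := by group
        _ = u * g := by rw [← h3]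
    exact mul_left_cancel h5
  rw [← h4]
  exact zpow_mem (mem_zpowers _) _

theorem supp_lemma [hMp : M.IsPrime] (hM : IsPModular p M) {D : Subgroup G} (hD : IsCyclic D) {u : G} (hu : orderOf u = p) (huD : u ∈ D)
    {f : Set (IrrCharacter 𝐂[zpowers u])} {e' : Set (IrrCharacter (Subgroup.centralizer ((D.subgroupOf 𝐂[zpowers u] : Subgroup 𝐂[zpowers u]) : Set 𝐂[zpowers u])))}
    (hmax' : IsMaximalBrauerPair p M f (D.subgroupOf 𝐂[zpowers u]) e')
    {ν : IrrCharacter 𝐂[zpowers u]} (hν : ν ∈ f) {y : 𝐂[zpowers u]} (hy : (ν : 𝐂[zpowers u] → ℂ) y ≠ 0)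
    (hsing : p ∣ orderOf (y : G)) : u ∈ zpowers (pp p (y : G)) := by
  obtain ⟨g, hg⟩ := exists_conj_pp_mem hM hmax' hν hy
  have h2 : (g : G) * ((pp p y : 𝐂[zpowers u]) : G) * (g : G)⁻¹ ∈ D := Subgroup.mem_subgroupOf.1 hg
  rw [pp_coe] at h2
  obtain ⟨w, -, -, hk, -⟩ := pp_spec (p := p) (y : G)
  refine mem_zpowers_of_conj hD hu huD g.2 h2 hk ?_
  intro h1
  exact (pp_eq_one_iff.1 h1) hsing

theorem card_eq_relIndex_mul {H T : Subgroup G} (hHT : H ≤ T) : Nat.card T = H.relIndex T * Nat.card H := by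
  have h1 := Subgroup.card_mul_index (H.subgroupOf T)
  have h2 : Nat.card (H.subgroupOf T) = Nat.card H :=
    Nat.card_congr (Subgroup.subgroupOfEquivOfLe hHT).toEquiv
  rw [h2] at h1
  unfold Subgroup.relIndex
  rw [← h1, mul_comm]

/-- The number of elements of a subgroup lying in a smaller subgroup. -/
theorem card_filter_mem {H T : Subgroup G} (hHT : H ≤ T) :
    (open scoped Classical in (Finset.univ.filter (fun a : T => (a : G) ∈ H)).card) = Nat.card H := by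
  classical
  have h2 : Nat.card (H.subgroupOf T) = Nat.card H :=
    Nat.card_congr (Subgroup.subgroupOfEquivOfLe hHT).toEquiv
  rw [← h2, Nat.card_eq_fintype_card, Fintype.card_subtype]
  congr 1

open Cfsg.Agent.Lib.BrauerCen Cfsg.Agent.Lib.BrauerIn Cfsg.Agent.Lib.BrauerMax Cfsg.Agent.Lib.BlockSection Cfsg.Agent.Lib.BrauerSub
  Cfsg.Agent.Lib.BrauerCyc Cfsg.Agent.Lib.BrauerSat Cfsg.Agent.Lib.BlockLocal in
/-- **Dade's theorem on blocks with a cyclic defect group.** -/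
theorem dade_main (hM : IsPModular p M) {D : Subgroup G} (hD : IsCyclic D) {a : ℕ} (ha : 1 ≤ a) (hDa : Nat.card D = p ^ a)
    {B : Set (IrrCharacter G)} (hB : IsPBlock M B) (hBD : IsDefectGroup p M B D) {b : Set (IrrCharacter 𝐂[D])}
    (hind : IsInducedBlock M 𝐂[D] b B) {T : Subgroup G} (hT : ∀ g : G, g ∈ T ↔ (g ∈ 𝐍[D] ∧ StabilizesBlock 𝐂[D] b g))
    {e : ℕ} (he : (𝐂[D]).relIndex T = e) :
    e ∣ p - 1 ∧ blockRank p B = e ∧ (∀ χ ∈ B, blockHeight p B (χ : G → ℂ) = 0) ∧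
    ∃ X Y : Set (IrrCharacter G), B = X ∪ Y ∧ Disjoint X Y ∧ Nat.card X = e ∧ Nat.card Y = (p ^ a - 1) / e ∧
      (∀ ψ ∈ Y, ∀ ψ' ∈ Y, ∀ g : G, ¬ p ∣ orderOf g → (ψ : G → ℂ) g = (ψ' : G → ℂ) g) ∧
      ∃ (δ : IrrCharacter G → ℤ) (δ₀ : ℤ), (∀ χ ∈ X, δ χ = 1 ∨ δ χ = -1) ∧ (δ₀ = 1 ∨ δ₀ = -1) ∧
        (∀ ψ ∈ Y, ∀ g : G, ¬ p ∣ orderOf g → (δ₀ : ℂ) * (ψ : G → ℂ) g + ∑ᶠ χ ∈ X, (δ χ : ℂ) * (χ : G → ℂ) g = 0) ∧
        (∀ χ ∈ X, ∀ χ' ∈ X, δ χ * (charDegree (χ : G → ℂ) : ℤ) ≡ δ χ' * (charDegree (χ' : G → ℂ) : ℤ) [ZMOD (p : ℤ) ^ a]) ∧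
        (∀ ψ ∈ Y, ∀ χ ∈ X, (charDegree (ψ : G → ℂ) : ℤ) ≡ -((e : ℤ) * δ₀ * δ χ * (charDegree (χ : G → ℂ) : ℤ)) [ZMOD (p : ℤ) ^ a]) := by
  classical
  haveI hMp := isPrime_of_isPModular hM
  have hp := hM.1
  have hPp : IsPGroup p D := IsPGroup.of_card hDa
  have ha0 : a ≠ 0 := by omega
  have hpq : p ≤ p ^ a := Nat.le_self_pow ha0 p
  obtain ⟨u', hu'⟩ : ∃ x : D, orderOf x = p := exists_prime_orderOf_dvd_card' p (by
    rw [hDa]
    exact dvd_pow_self p ha0)
  obtain ⟨u, huD⟩ := u'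
  have hu : orderOf u = p := by rwa [Subgroup.orderOf_mk] at hu'
  have hu1 : u ≠ 1 := by
    rintro rfl
    rw [orderOf_one] at hu
    exact hp.one_lt.ne hu
  have hQP : zpowers u ≤ D := zpowers_le.2 huD
  have hQ1 : zpowers u ≠ ⊥ := by
    rw [Ne, zpowers_eq_bot]
    exact hu1
  have hD1 : D ≠ ⊥ := by
    rintro rfl
    exact hu1 (Subgroup.mem_bot.1 huD)
  have hab : ∀ x ∈ D, ∀ y ∈ D, x * y = y * x := by
    intro x hx y hy
    exact congrArg Subtype.val (hD.isMulCommutative.is_comm.comm (⟨x, hx⟩ : D) ⟨y, hy⟩)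
  have hPC : D ≤ 𝐂[zpowers u] := by
    intro x hx
    rw [Subgroup.mem_centralizer_iff]
    intro q hq
    exact hab q (hQP hq) x hx
  obtain ⟨f, hf⟩ := exists_isInducedBlockIn hM hPp hQP hPC hind.1
  have hfb := hf.2.1
  let T' : Subgroup G := 𝐍[zpowers u] ⊓ stabSub _ f hfb
  have hT' : ∀ g : G, g ∈ T' ↔ (g ∈ 𝐍[zpowers u] ∧ StabilizesBlock 𝐂[zpowers u] f g) := fun g => Iff.rfl
  obtain ⟨hT1, hT2, hl, hnil⟩ := Cfsg.Agent.S4645.result p M hM B hB D hBD hD1 hD b hind T hT (zpowers u) hQP hQ1 f hf T' hT'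
  have heT' : (𝐂[zpowers u]).relIndex T' = e := hT2.trans he
  -- the maximal pairs
  have hcB := isBrauerPairOf_of_isInducedBlock hM hPp hind
  have hmaxB := Cfsg.Agent.Lib.BrauerLift.isMaximal_of_isDefectGroup hM hcB hBD
  have hbp := isBrauerPairOf_in hM hPp hQP hPC hf
  have hmax' := isMaximal_in hM hBD hQP hPC hcB hbp hfb
  have hD' := isDefectGroup_of_maximal hM hmax'
  have hcyc' : IsCyclic (D.subgroupOf 𝐂[zpowers u]) :=
    isCyclic_of_injective (Subgroup.subgroupOfEquivOfLe hPC).toMonoidHom (MulEquiv.injective _)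
  -- the values
  obtain ⟨V, hV1, hV2⟩ := Cfsg.Agent.Lib.BlockResidue.exists_val M
  have hpV := Cfsg.Agent.S4648.natCast_residue hM hV2
  obtain ⟨χ₀, hχ₀⟩ := isPBlock_nonempty hfb
  have hagree := fun ξ hξ s hs => Cfsg.Agent.Lib.CycRankOne.agree_of_rank_one_bdd hV1 hV2 hpV hfb hl (Nat.card 𝐂[zpowers u])
    (fun f' e he hf' W _ _ _ R h1 h2 => Cfsg.Agent.Lib.CycRankOne.module_bound hM hV2 hpV hfb hD' hcyc' f' e he hf' W R h1 h2)
    hχ₀ ξ hξ s hs
  have huni := (Cfsg.Agent.Lib.BlockUniform.uniform hM hfb hχ₀ hagree).2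
  have hcard := Cfsg.Agent.Lib.BlockDefect.card_isDefectGroup hM hfb hD'
  have hcardD' : Nat.card (D.subgroupOf 𝐂[zpowers u]) = p ^ a :=
    (Nat.card_congr (Subgroup.subgroupOfEquivOfLe hPC).toEquiv).trans hDa
  have hfq : (bF f).card = p ^ a := by rw [huni, ← hcard, hcardD']
  have hq2 : 2 ≤ (bF f).card := by
    rw [hfq]
    exact le_trans hp.two_le hpq
  have hcp : p ^ (a - 1) * p = (bF f).card := by
    rw [hfq, ← pow_succ, Nat.sub_add_cancel ha]
  -- a generator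
  have hTN : T' ≤ normalizer (zpowers u : Set G) := fun x hx => hx.1
  obtain ⟨t₀, ht₀, hgen, hte, hdvd, hndvd⟩ := exists_t0 hu hTN
  obtain ⟨g, l, zc, hg, hdeg, hzc, hlt, hL1, hL2, hinj, hfree⟩ := L_main hM hV1 hV2 hpV hu hfb hl hD' hcyc'
    (Subgroup.mem_subgroupOf.2 huD) hT' hq2 hcp ht₀ hgen hte hdvd
  rw [heT'] at hdvd hte hndvd
  have he0 : 0 < e := Nat.pos_of_dvd_of_pos hdvd (by have := hp.two_le; omega)
  have hTNH : T' ≤ normalizer (𝐂[zpowers u] : Set G) := fun x hx => normalizer_le_normalizer_centralizer _ hx.1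
  have hfT : ∀ t ∈ T', ∀ ν ∈ f, actN 𝐂[zpowers u] t ν ∈ f := by
    intro t ht ν hν
    obtain ⟨h1, h2⟩ := (hT' t).1 ht
    rw [actN_of_mem (hTNH ht)]
    have h3 := twistSet_eq_of_stabilizes hfb h2
    have h4 : twist (conjAut 𝐂[zpowers u] t (hTNH ht)) ν ∈ twistSet (conjAut 𝐂[zpowers u] t (hTNH ht)) f := ⟨ν, hν, rfl⟩
    rw [h3] at h4
    exact h4
  obtain ⟨ν₁, hν₁, hfix, hfree'⟩ := exists_nu1 hTNH ⟨χ₀, hχ₀⟩ hfT hinj hfree ht₀ hzc hlt hgen heT' hte hndvd hdvd hfq he0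
  have hreg : ∀ ν ∈ f, ∀ ν' ∈ f, ∀ y : 𝐂[zpowers u], ¬ p ∣ orderOf (y : G) →
      (ν : 𝐂[zpowers u] → ℂ) y = (ν' : 𝐂[zpowers u] → ℂ) y := by
    intro ν hν ν' hν' y hy
    rw [Subgroup.orderOf_coe] at hy
    rw [hagree ν hν y hy, hagree ν' hν' y hy]
  have hsupp : ∀ ν ∈ f, ∀ ν' ∈ f, ∀ y : 𝐂[zpowers u], (ν : 𝐂[zpowers u] → ℂ) y ≠ (ν' : 𝐂[zpowers u] → ℂ) y →
      u ∈ zpowers (pp p (y : G)) := by
    intro ν hν ν' hν' y hy
    have hsing : p ∣ orderOf (y : G) := by
      by_contra h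
      exact hy (hreg ν hν ν' hν' y h)
    by_cases h0 : (ν : 𝐂[zpowers u] → ℂ) y = 0
    · have h1 : (ν' : 𝐂[zpowers u] → ℂ) y ≠ 0 := fun h => hy (by rw [h0, h])
      exact supp_lemma hM hD hu huD hmax' hν' h1 hsing
    · exact supp_lemma hM hD hu huD hmax' hν h0 hsing
  have hL : LocData p M u f T' ν₁ :=
    { hu := hu, hf := hfb, hT' := hT', hν₁ := hν₁, hfix := hfix, hfree := hfree', hsupp := hsupp, hreg := hreg }
  -- the representatives on the local block
  have hCT' : 𝐂[zpowers u] ≤ T' := C_le_T hL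
  have hactinj : ∀ {x y : IrrCharacter 𝐂[zpowers u]} (t : T'), actN 𝐂[zpowers u] (t : G) x = actN 𝐂[zpowers u] (t : G) y → x = y := by
    intro x y t h
    rw [actN_of_mem (hTNH t.2), actN_of_mem (hTNH t.2)] at h
    exact twist_injective _ h
  obtain ⟨Rf, hRf1, hRf2, hRf3, hRf4⟩ := exists_transversal (A := T') (fun t ν => actN 𝐂[zpowers u] (t : G) ν)
    (fun x => by
      have h1 : ((1 : T') : G) ∈ 𝐂[zpowers u] := Subgroup.one_mem _
      rw [actN_of_mem (hTNH (1 : T').2), twist_conj_inner h1])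
    (fun a b x => by
      have hab' : ((a * b : T') : G) ∈ normalizer (𝐂[zpowers u] : Set G) := hTNH (a * b).2
      rw [actN_of_mem hab', actN_of_mem (hTNH b.2), actN_of_mem (hTNH a.2), ← twist_mul]
      congr 1
      exact conjAut_mul _ _ _ (hTNH a.2) (hTNH b.2) _)
    he0 ((bF f).erase ν₁)
    (fun a x hx => by
      obtain ⟨hx1, hx2⟩ := Finset.mem_erase.1 hx
      refine Finset.mem_erase.2 ⟨fun h => hx1 ?_, mem_bF.2 (hfT _ a.2 _ (mem_bF.1 hx2))⟩
      exact hactinj a (h.trans (hfix _ a.2).symm))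
    (fun x hx => by
      obtain ⟨hx1, hx2⟩ := Finset.mem_erase.1 hx
      have h1 : (Finset.univ.filter (fun a : T' => actN 𝐂[zpowers u] (a : G) x = x)) = Finset.univ.filter (fun a : T' => (a : G) ∈ 𝐂[zpowers u]) := by
        ext a
        simp only [Finset.mem_filter, Finset.mem_univ, true_and]
        refine ⟨fun h => hfree' x (mem_bF.1 hx2) hx1 a a.2 h, fun h => ?_⟩
        rw [actN_of_mem (hTNH a.2), twist_conj_inner h]
      rw [h1, card_filter_mem hCT', ← Nat.card_eq_fintype_card, card_eq_relIndex_mul hCT', heT', mul_comm])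
  have hR1 : ∀ r ∈ Rf, r ∈ f ∧ r ≠ ν₁ := by
    intro r hr
    obtain ⟨h1, h2⟩ := Finset.mem_erase.1 (hRf1 hr)
    exact ⟨mem_bF.1 h2, h1⟩
  have hR2 : ∀ r ∈ Rf, ∀ r' ∈ Rf, ∀ t ∈ T', actN 𝐂[zpowers u] t r' = r → r = r' :=
    fun r hr r' hr' t ht h => hRf4 r hr r' hr' ⟨t, ht⟩ h
  have hq : Rf.card * e + 1 = p ^ a := by
    rw [hRf2, Finset.card_erase_of_mem (mem_bF.2 hν₁), hfq]
    have : 1 ≤ p ^ a := Nat.one_le_pow _ _ hp.pos
    omega
  have hRne : Nonempty Rf := by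
    have h1 : 0 < Rf.card := by
      rcases Nat.eq_zero_or_pos Rf.card with h | h
      · rw [h, zero_mul] at hq
        have := hp.two_le
        omega
      · exact h
    obtain ⟨r, hr⟩ := Finset.card_pos.1 h1
    exact ⟨⟨r, hr⟩⟩
  -- representatives on the defect group
  have hTND : T ≤ 𝐍[D] := fun y hy => ((hT y).1 hy).1
  have hCT : 𝐂[D] ≤ T := (stab_facts hT).2.1
  have hpe : ¬ p ∣ e := by
    intro h
    have h1 := Nat.le_of_dvd he0 h
    have h2 := Nat.le_of_dvd (by have := hp.two_le; omega) hdvd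
    have := hp.two_le
    omega
  have hkerind : (theta hTND).ker.index = e := by
    have h1 : (theta hTND).ker = (𝐂[D]).subgroupOf T := by
      ext t
      rw [mem_ker_theta, Subgroup.mem_subgroupOf]
    rw [h1]
    exact he
  haveI hDcyc : IsCyclic D := hD
  have hfreeD : ∀ t : T, ∀ v ∈ D, v ≠ 1 → (t : G) * v * (t : G)⁻¹ = v → (t : G) ∈ 𝐂[D] := by
    intro t v hv hv1 htv
    have h1 := (cyc_aut hPp (theta hTND) (by rw [hkerind]; exact hpe)).2.2 t ⟨v, hv⟩ (fun h => hv1 (congrArg Subtype.val h))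
      (Subtype.ext (by rw [coe_theta]; exact htv))
    exact (mem_ker_theta hTND t).1 h1
  obtain ⟨A, hA1, hA2, hA3, hA4⟩ := exists_transversal (A := T) (fun t v => (t : G) * v * (t : G)⁻¹)
    (fun x => by simp) (fun a b x => by
      simp only [Subgroup.coe_mul]
      group) he0 ((Finset.univ.filter (· ∈ D)).erase 1)
    (fun a x hx => by
      obtain ⟨hx1, hx2⟩ := Finset.mem_erase.1 hx
      have hxD : x ∈ D := (Finset.mem_filter.1 hx2).2
      refine Finset.mem_erase.2 ⟨fun h => hx1 ?_, Finset.mem_filter.2 ⟨Finset.mem_univ _, (Subgroup.mem_normalizer_iff.1 (hTND a.2) x).1 hxD⟩⟩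
      have h1 : (a : G) * x * (a : G)⁻¹ = (a : G) * 1 * (a : G)⁻¹ := by rw [h]; group
      exact mul_left_cancel (mul_right_cancel h1))
    (fun x hx => by
      obtain ⟨hx1, hx2⟩ := Finset.mem_erase.1 hx
      have hxD : x ∈ D := (Finset.mem_filter.1 hx2).2
      have h1 : (Finset.univ.filter (fun a : T => (a : G) * x * (a : G)⁻¹ = x)) = Finset.univ.filter (fun a : T => (a : G) ∈ 𝐂[D]) := by
        ext a
        simp only [Finset.mem_filter, Finset.mem_univ, true_and]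
        refine ⟨fun h => hfreeD a x hxD hx1 h, fun h => ?_⟩
        rw [← (Subgroup.mem_centralizer_iff.1 h) x hxD]
        group
      rw [h1, card_filter_mem hCT, ← Nat.card_eq_fintype_card, card_eq_relIndex_mul hCT, he, mul_comm])
  have hAcard : A.card = Rf.card := by
    have h1 : ((Finset.univ.filter (· ∈ D)).erase (1 : G)).card + 1 = p ^ a := by
      rw [Finset.card_erase_add_one (Finset.mem_filter.2 ⟨Finset.mem_univ _, D.one_mem⟩), ← hDa, Nat.card_eq_fintype_card, Fintype.card_subtype]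
    have h2 : A.card * e = Rf.card * e := by
      rw [hA2]
      omega
    exact Nat.eq_of_mul_eq_mul_right he0 h2
  -- local blocks have rank one
  have hloc : ∀ z ∈ D, z ≠ 1 → ∀ f' : Set (IrrCharacter 𝐂[zpowers z]), IsPBlock M f' → SubpairLE p M (zpowers z) f' D b → blockRank p f' = 1 := by
    intro z hz hz1 f' hf' hle
    have hQP' : zpowers z ≤ D := zpowers_le.2 hz
    have hQ1' : zpowers z ≠ ⊥ := by
      rw [Ne, zpowers_eq_bot]
      exact hz1
    have hPC' : D ≤ 𝐂[zpowers z] := by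
      intro x hx
      rw [Subgroup.mem_centralizer_iff]
      intro q hq
      exact hab q (hQP' hq) x hx
    obtain ⟨f'', hf''⟩ := exists_isInducedBlockIn hM hPp hQP' hPC' hind.1
    have hbp' := isBrauerPairOf_in hM hPp hQP' hPC' hf''
    have hn := isNormalSubpair_of_in hPp hQP' hPC' hbp' hind.1 hf''.2.1
    have hle' := subpairLE_of_normal hn
    have hff : f' = f'' := eq_of_two_subpairLE hM hmaxB.1.1 hle' hle
    subst hff
    let T'' : Subgroup G := 𝐍[zpowers z] ⊓ stabSub _ f' hf'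
    exact (Cfsg.Agent.S4645.result p M hM B hB D hBD hD1 hD b hind T hT (zpowers z) hQP' hQ1' f' hf'' T'' (fun g => Iff.rfl)).2.2.1
  have hcount : (bF B).card ≤ blockRank p B + Rf.card := by
    rw [← hAcard]
    refine Cfsg.Agent.Lib.DcCount.card_le_rank_add hM hmaxB hab hloc A ?_ ?_
    · intro w hw
      obtain ⟨h1, h2⟩ := Finset.mem_erase.1 (hA1 hw)
      exact ⟨h1, (Finset.mem_filter.1 h2).2⟩
    · intro z₀ hz₀ hz₀1
      obtain ⟨r, hr, t, ht⟩ := hA3 z₀ (Finset.mem_erase.2 ⟨hz₀1, Finset.mem_filter.2 ⟨Finset.mem_univ _, hz₀⟩⟩)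
      obtain ⟨h1, h2⟩ := (hT _).1 (T.inv_mem t.2)
      refine ⟨_, h1, h2, ?_⟩
      have h3 : (t : G)⁻¹ * z₀ * ((t : G)⁻¹)⁻¹ = r := by
        rw [← ht]
        group
      rw [h3]
      exact hr
  have hdef : blockDefect p B = a := by
    have h1 := Cfsg.Agent.Lib.BlockDefect.card_isDefectGroup hM hB hBD
    rw [hDa] at h1
    exact (Nat.pow_right_injective hp.two_le h1).symm
  have hinduced : IsInducedBlock M 𝐂[zpowers u] f B := by
    have hn := isNormalSubpair_of_in hPp hQP hPC hbp hind.1 hfb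
    have hle := subpairLE_of_normal hn
    exact Cfsg.Agent.S4683.isInducedBlock_of_isBrauerPairOf hM ((isBrauerPairOf_iff_of_le hM hB hle).2 hcB)
  have hp1 : ¬ p ∣ orderOf (1 : G) := by
    rw [orderOf_one]
    exact fun h1 => hp.one_lt.ne' (Nat.dvd_one.mp h1)
  refine ⟨hdvd, ?_⟩
  exact abs_main (R := Rf) (s := ss ν₁ Rf) hM hB (ss_values hν₁ hR1 hL1) (ss_same hν₁ hR1 hL1) (gram_int hL hR1 hR2 heT')
    (ss_exclude hν₁ hR1 hL1 hL2 hp1 (Ee_reg hL hR1)) (Ee_reg hL hR1) (mem_of_ss_ne hM hL hR1 hinduced)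
    (by rw [Fintype.card_coe]; exact hq) (by rw [Fintype.card_coe]; exact hcount) hdef he0 ha D hDa

/-- The two forms of the stabilizer of a block. -/
theorem stab_iff {D : Subgroup G} {b : Set (IrrCharacter 𝐂[D])} {T : Subgroup G}
    (hT : ∀ g : G, g ∈ T ↔ (g ∈ Subgroup.normalizer (D : Set G) ∧ ∀ θ ∈ b, ∀ θ' : IrrCharacter 𝐂[D],
      (∀ h h' : 𝐂[D], (h' : G) = g * h * g⁻¹ → (θ' : 𝐂[D] → ℂ) h' = (θ : 𝐂[D] → ℂ) h) → θ' ∈ b)) (g : G) :
    g ∈ T ↔ (g ∈ 𝐍[D] ∧ StabilizesBlock 𝐂[D] b g) := by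
  rw [hT]
  constructor
  · rintro ⟨h1, h2⟩
    have hg : g ∈ normalizer (𝐂[D] : Set G) := Cfsg.Agent.Lib.BrauerMax.normalizer_le_normalizer_centralizer D h1
    refine ⟨h1, hg, fun χ hχ => ?_⟩
    have hrel : ∀ h h' : 𝐂[D], (h' : G) = g * h * g⁻¹ → (twist (conjAut 𝐂[D] g hg) χ : 𝐂[D] → ℂ) h' = (χ : 𝐂[D] → ℂ) h := by
      intro h h' hh
      rw [twist_apply]
      have e1 : (conjAut 𝐂[D] g hg).symm h' = h := by
        apply Subtype.ext
        rw [coe_conjAut_symm, hh]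
        group
      rw [e1]
    exact ⟨_, h2 χ hχ _ hrel, hrel⟩
  · rintro ⟨h1, h2⟩
    refine ⟨h1, fun θ hθ θ' hθ' => ?_⟩
    obtain ⟨χ', hχ', hc⟩ := h2.2 θ hθ
    have h3 : θ' = χ' := by
      apply Subtype.ext
      funext k'
      have hk : (k' : G) = g * (((conjAut 𝐂[D] g h2.1).symm k' : 𝐂[D]) : G) * g⁻¹ := by
        rw [coe_conjAut_symm]
        group
      rw [hθ' _ k' hk, hc _ k' hk]
    rw [h3]
    exact hχ'

end Main

end Cfsg.Agent.Lib.DcSetup
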