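import Mathlib
import Cfsg.Agent.Lib.GenChar
import Cfsg.Agent.Lib.BSWAb
import Cfsg.Agent.Lib.StarGen
import Cfsg.Agent.Lib.DcSetup

/-!
# Integrality of Fourier coefficients and the integer matrix of a free action
-/

set_option autoImplicit false
set_option linter.unusedSectionVars false
set_option linter.unusedVariables false
set_option linter.style.haveILetI false

namespace Cfsg.Agent.Lib.BFInt

open Cfsg Cfsg.Agent.Lib.CharBasic Cfsg.Agent.Lib.CharInd Cfsg.Agent.Lib.GenChar
open Cfsg.Agent.Lib.BrauerConj Cfsg.Agent.Lib.BSWAb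
open scoped ComplexConjugate Classical

universe u

section Fourier

variable {A : Type u} [Group A] [Fintype A]

theorem isGen_pow {a : A → ℂ} (ha : IsGeneralizedCharacter A a) (n : ℕ) :
    IsGeneralizedCharacter A (fun v => a v ^ n) := by
  induction n with
  | zero =>
    simpa using isGen_of_isChar (isCharacter_one (G := A))
  | succ n ih =>
    have := Cfsg.Agent.Lib.StarGen.isGen_mul ih ha
    convert this using 1
    funext v
    simp [pow_succ]

theorem isGen_poly {a : A → ℂ} (ha : IsGeneralizedCharacter A a) (g : Polynomial ℤ) :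
    IsGeneralizedCharacter A (fun v => Polynomial.aeval (a v) g) := by
  induction g using Polynomial.induction_on' with
  | add q r hq hr =>
    have := isGen_add hq hr
    convert this using 1
    funext v
    simp
  | monomial n c =>
    have := isGen_zsmul (isGen_pow ha n) c
    convert this using 1
    funext v
    simp [Polynomial.aeval_monomial]

theorem int_of_isIntegral_rat {z : ℂ} (r : ℚ) (hz : z = (r : ℂ)) (hi : IsIntegral ℤ z) :
    ∃ n : ℤ, z = n := by
  subst hz
  have h1 : IsIntegral ℤ r := by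
    have h2 : IsIntegral ℤ (algebraMap ℚ ℂ r) := by simpa using hi
    exact (isIntegral_algebraMap_iff (algebraMap ℚ ℂ).injective).1 h2
  obtain ⟨n, hn⟩ := IsIntegrallyClosed.isIntegral_iff.1 h1
  refine ⟨n, ?_⟩
  rw [← hn]
  simp

/-- Integrality of the Fourier coefficients of `F W / Y`. -/
theorem fourier_int {p k : ℕ} (hp : p.Prime) (hA : Nat.card A = p ^ k)
    {ξ F W Y : A → ℂ} (hξ : IsGeneralizedCharacter A ξ) (hF : IsGeneralizedCharacter A F)
    (hW : IsGeneralizedCharacter A W) (hY : IsGeneralizedCharacter A Y)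
    (hξ1 : ξ 1 = 0) (y : A → ℤ) (hy : ∀ v, v ≠ 1 → Y v = y v) (hyp : ∀ v, v ≠ 1 → ¬ (p : ℤ) ∣ y v)
    (hint : ∀ v, v ≠ 1 → IsIntegral ℤ (F v * W v / Y v)) :
    ∃ a : ℤ, (Nat.card A : ℂ)⁻¹ * ∑ v ∈ Finset.univ.erase (1 : A), ξ v * (F v * W v / Y v) = a := by
  classical
  set q : Polynomial ℤ := ∏ v ∈ Finset.univ.erase (1 : A), (Polynomial.X - Polynomial.C (y v)) with hq
  set g : Polynomial ℤ := q.divX with hg
  set c₀ : ℤ := - q.coeff 0 with hc₀
  have hdec : g * Polynomial.X + Polynomial.C (q.coeff 0) = q := Polynomial.divX_mul_X_add q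
  have hq0 : q.coeff 0 = ∏ v ∈ Finset.univ.erase (1 : A), (- y v) := by
    rw [Polynomial.coeff_zero_eq_eval_zero, hq, Polynomial.eval_prod]
    simp
  have hpp : Prime (p : ℤ) := Nat.prime_iff_prime_int.1 hp
  have hc₀p : ¬ (p : ℤ) ∣ c₀ := by
    rw [hc₀, dvd_neg, hq0, Prime.dvd_finsetProd_iff hpp]
    rintro ⟨v, hv, hd⟩
    exact hyp v (Finset.ne_of_mem_erase hv) ((dvd_neg).1 hd)
  have hc₀0 : c₀ ≠ 0 := fun h => hc₀p (by rw [h]; exact dvd_zero _)
  have hcc : (c₀ : ℂ) ≠ 0 := by exact_mod_cast hc₀0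
  have hY0 : ∀ v, v ≠ 1 → Y v ≠ 0 := by
    intro v hv h0
    rw [hy v hv] at h0
    have h1 : y v = 0 := by exact_mod_cast h0
    exact hyp v hv (by rw [h1]; exact dvd_zero _)
  have hgv : ∀ v, v ≠ 1 → Polynomial.aeval (Y v) g * Y v = c₀ := by
    intro v hv
    have h1 : Polynomial.aeval (Y v) q = 0 := by
      rw [hq, map_prod]
      apply Finset.prod_eq_zero (Finset.mem_erase.2 ⟨hv, Finset.mem_univ v⟩)
      simp [hy v hv]
    rw [← hdec] at h1
    simp only [map_add, map_mul, Polynomial.aeval_X, Polynomial.aeval_C] at h1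
    rw [hc₀]
    push_cast
    simp only [eq_intCast] at h1
    linear_combination h1
  set G₀ : A → ℂ := ξ * F * W * (fun v => Polynomial.aeval (Y v) g) with hG₀
  have hG₀g : IsGeneralizedCharacter A G₀ :=
    Cfsg.Agent.Lib.StarGen.isGen_mul (Cfsg.Agent.Lib.StarGen.isGen_mul
      (Cfsg.Agent.Lib.StarGen.isGen_mul hξ hF) hW) (isGen_poly hY g)
  obtain ⟨b, hb⟩ := classInner_gen_gen hG₀g (isGen_of_isChar (isCharacter_one (G := A)))
  set S := ∑ v ∈ Finset.univ.erase (1 : A), ξ v * (F v * W v / Y v) with hS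
  have hAc : (Nat.card A : ℂ) ≠ 0 := natCard_ne_zero'
  have hSb : (Nat.card A : ℂ)⁻¹ * ((c₀ : ℂ) * S) = b := by
    rw [← hb]
    unfold classInner
    congr 1
    rw [← Finset.add_sum_erase _ _ (Finset.mem_univ (1 : A))]
    simp only [hG₀, Pi.mul_apply, hξ1, zero_mul, map_one, mul_one, zero_add]
    rw [hS, Finset.mul_sum]
    apply Finset.sum_congr rfl
    intro v hv
    have hv1 := Finset.ne_of_mem_erase hv
    have h1 := hgv v hv1
    have h2 := hY0 v hv1
    rw [← h1]
    field_simp
  have hSint : IsIntegral ℤ S := by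
    apply IsIntegral.sum
    intro v hv
    exact (gen_isIntegral hξ v).mul (hint v (Finset.ne_of_mem_erase hv))
  have hSeq : S = ((Nat.card A * b / c₀ : ℚ) : ℂ) := by
    have h1 : (c₀ : ℂ) * S = Nat.card A * b := by
      rw [← hSb]
      field_simp
    push_cast
    field_simp
    linear_combination h1
  obtain ⟨s, hs⟩ := int_of_isIntegral_rat _ hSeq hSint
  have h1 : c₀ * s = Nat.card A * b := by
    have h2 : (c₀ : ℂ) * S = Nat.card A * b := by
      rw [← hSb]
      field_simp
    rw [hs] at h2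
    exact_mod_cast h2
  have hcop : IsCoprime c₀ (Nat.card A : ℤ) := by
    rw [hA]
    push_cast
    apply IsCoprime.pow_right
    exact ((Prime.coprime_iff_not_dvd hpp).2 hc₀p).symm
  have hd : c₀ ∣ b := hcop.dvd_of_dvd_mul_left (Dvd.intro _ h1)
  obtain ⟨a, rfl⟩ := hd
  refine ⟨a, ?_⟩
  have h3 : (c₀ : ℂ) * ((Nat.card A : ℂ)⁻¹ * S) = c₀ * a := by
    rw [← mul_assoc, mul_comm (c₀ : ℂ), mul_assoc, hSb]
    push_cast
    ring
  exact mul_left_cancel₀ hcc h3

end Fourier

section Count

variable {A Γ : Type u} [Group A] [Fintype A] [Group Γ] [Fintype Γ]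
  (τ : Γ →* MulAut A)

/-- The action on irreducible characters. -/
noncomputable def actT (g : Γ) (μ : IrrCharacter A) : IrrCharacter A := twistE (τ g) μ

theorem actT_apply (g : Γ) (μ : IrrCharacter A) (x : A) :
    (actT τ g μ : A → ℂ) x = (μ : A → ℂ) (τ g⁻¹ x) := by
  rw [map_inv]
  rfl

theorem actT_one (μ : IrrCharacter A) : actT τ 1 μ = μ := by
  apply Subtype.ext
  funext x
  rw [actT_apply]
  simp

theorem actT_mul (a b : Γ) (μ : IrrCharacter A) : actT τ (a * b) μ = actT τ a (actT τ b μ) := by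
  apply Subtype.ext
  funext x
  rw [actT_apply, actT_apply, actT_apply]
  simp [mul_inv_rev, map_mul]

variable (hc : ∀ a b : A, a * b = b * a)
  (K : Subgroup Γ) (hK : ∀ g ∈ K, ∀ x, τ g x = x)
  (hfree : ∀ g x, x ≠ 1 → τ g x = x → g ∈ K)

omit [Fintype A] in
include hc in
theorem comm_aux (a b x y : A) (h : a * x⁻¹ = b * y⁻¹) : a * b⁻¹ = x * y⁻¹ := by
  have h2 : a = b * y⁻¹ * x := by rw [← h]; group
  rw [h2]
  calc b * y⁻¹ * x * b⁻¹ = b * (y⁻¹ * x) * b⁻¹ := by group
    _ = b * (x * y⁻¹) * b⁻¹ := by rw [hc y⁻¹ x]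
    _ = x * y⁻¹ := by rw [hc b (x * y⁻¹)]; group

include hc hK hfree in
theorem actT_self_iff {μ : IrrCharacter A} (hμ : μ ≠ triv) (g : Γ) : actT τ g μ = μ ↔ g ∈ K := by
  classical
  constructor
  · intro h
    by_contra hg
    apply hμ
    have hinv : ∀ x, (μ : A → ℂ) (τ g x) = (μ : A → ℂ) x := by
      intro x
      have h1 := congrFun (congrArg Subtype.val h) (τ g x)
      have h2 := actT_apply τ g μ (τ g x)
      have h3 : τ g⁻¹ (τ g x) = x := by simp
      rw [h3] at h2
      rw [← h2]
      exact h1.symm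
    have hinj : Function.Injective (fun x : A => τ g x * x⁻¹) := by
      intro x y hxy
      have h1 : τ g x * x⁻¹ = τ g y * y⁻¹ := hxy
      by_contra hne
      apply hg
      refine hfree g (x * y⁻¹) (fun h0 => hne (mul_inv_eq_one.1 h0)) ?_
      rw [map_mul, map_inv]
      exact comm_aux hc _ _ _ _ h1
    have hsurj := Finite.surjective_of_injective hinj
    apply Subtype.ext
    funext z
    obtain ⟨x, rfl⟩ := hsurj z
    show (μ : A → ℂ) (τ g x * x⁻¹) = 1
    rw [map_mul_irr hc, hinv, mul_inv_irr hc]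
  · intro hg
    apply Subtype.ext
    funext x
    rw [actT_apply, hK _ (K.inv_mem hg)]

include hK hfree in
theorem orbit_count {u : A} (hu : u ≠ 1) (v : A) [Fintype K] :
    (Finset.univ.filter (fun g : Γ => τ g u = v)).card =
      if ∃ g, τ g u = v then Fintype.card K else 0 := by
  classical
  split_ifs with h
  · obtain ⟨g₀, rfl⟩ := h
    rw [← Fintype.card_coe]
    refine Fintype.card_congr ?_
    refine ⟨fun g => ⟨g₀⁻¹ * g, ?_⟩, fun k => ⟨g₀ * k, ?_⟩, ?_, ?_⟩
    · apply hfree _ u hu
      have h1 := (Finset.mem_filter.1 g.2).2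
      rw [map_mul]
      show τ g₀⁻¹ (τ g u) = u
      rw [h1]
      simp
    · apply Finset.mem_filter.2
      refine ⟨Finset.mem_univ _, ?_⟩
      rw [map_mul]
      show τ g₀ (τ k u) = _
      rw [hK _ k.2]
    · intro g
      apply Subtype.ext
      simp
    · intro k
      apply Subtype.ext
      simp
  · rw [Finset.card_eq_zero, Finset.filter_eq_empty_iff]
    intro g _ hg
    exact h ⟨g, hg⟩

theorem actT_triv (g : Γ) : actT τ g (triv : IrrCharacter A) = triv := by
  apply Subtype.ext
  rfl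

theorem actT_ne_triv {μ : IrrCharacter A} (hμ : μ ≠ triv) (g : Γ) : actT τ g μ ≠ triv := by
  intro h
  apply hμ
  have h1 : actT τ g⁻¹ (actT τ g μ) = μ := by
    rw [← actT_mul, inv_mul_cancel, actT_one]
  rw [← h1, h, actT_triv]

theorem bar_ne_triv {μ : IrrCharacter A} (hμ : μ ≠ triv) : bar μ ≠ triv := by
  intro h
  apply hμ
  rw [← bar_bar μ, h]
  apply Subtype.ext
  funext x
  simp [bar, triv]

include hc in
theorem inner_step {μ ν : IrrCharacter A} (hμ : μ ≠ triv) (hν : ν ≠ triv) (g : Γ) :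
    ∑ u : A, (((bar μ : IrrCharacter A) : A → ℂ) u - 1) *
        conj (((bar ν : IrrCharacter A) : A → ℂ) (τ g u) - 1) =
      (if actT τ g⁻¹ ν = μ then (Nat.card A : ℂ) else 0) + Nat.card A := by
  have h1 : ∀ u : A, (((bar μ : IrrCharacter A) : A → ℂ) u - 1) *
        conj (((bar ν : IrrCharacter A) : A → ℂ) (τ g u) - 1) =
      (actT τ g⁻¹ ν : A → ℂ) u * (μ : A → ℂ) u⁻¹ - (bar μ : A → ℂ) u - (actT τ g⁻¹ ν : A → ℂ) u + 1 := by
    intro u
    rw [actT_apply, inv_inv, bar_apply μ u, map_sub, map_one]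
    have h2 : conj ((bar ν : A → ℂ) (τ g u)) = (ν : A → ℂ) (τ g u) := by
      show conj (conj ((ν : A → ℂ) (τ g u))) = _
      simp
    rw [h2]
    ring
  simp only [h1, Finset.sum_add_distrib, Finset.sum_sub_distrib, Finset.sum_const, Finset.card_univ,
    nsmul_eq_mul, mul_one]
  rw [inner_row, sum_eq, sum_eq, if_neg (bar_ne_triv hμ), if_neg (actT_ne_triv τ hν _)]
  rw [Fintype.card_eq_nat_card]
  ring

include hK hfree in
theorem orbit_step [Fintype K] {u : A} (hu : u ≠ 1) (f : A → ℂ) :
    ∑ v ∈ Finset.univ.erase (1 : A), f v * (if ∃ g, τ g u = v then (Nat.card A : ℂ) else 0) =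
      (Nat.card A : ℂ) * (Fintype.card K : ℂ)⁻¹ * ∑ g : Γ, f (τ g u) := by
  have hK0 : (Fintype.card K : ℂ) ≠ 0 := by
    have : Fintype.card K ≠ 0 := Fintype.card_ne_zero
    exact_mod_cast this
  have h1 : ∀ v, (if ∃ g, τ g u = v then (Nat.card A : ℂ) else 0) =
      (Nat.card A : ℂ) * (Fintype.card K : ℂ)⁻¹ *
        ∑ g : Γ, if τ g u = v then (1 : ℂ) else 0 := by
    intro v
    have h2 := orbit_count τ K hK hfree hu v
    have h3 : ∑ g : Γ, (if τ g u = v then (1 : ℂ) else 0) =
        ((Finset.univ.filter (fun g : Γ => τ g u = v)).card : ℂ) := by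
      rw [Finset.sum_ite, Finset.sum_const_zero, add_zero, Finset.sum_const, nsmul_eq_mul, mul_one]
    rw [h3, h2]
    split_ifs
    · field_simp
    · simp
  simp only [h1]
  have h4 : ∀ g : Γ, ∑ v ∈ Finset.univ.erase (1 : A), f v * (if τ g u = v then (1 : ℂ) else 0) = f (τ g u) := by
    intro g
    have hne : τ g u ≠ 1 := by
      intro h0
      apply hu
      have := (τ g).injective (h0.trans (map_one (τ g)).symm)
      exact this
    rw [Finset.sum_eq_single (τ g u)]
    · simp
    · intro b _ hb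
      rw [if_neg (Ne.symm hb), mul_zero]
    · intro h0
      exact absurd (Finset.mem_erase.2 ⟨hne, Finset.mem_univ _⟩) h0
  calc _ = ∑ v ∈ Finset.univ.erase (1 : A), ((Nat.card A : ℂ) * (Fintype.card K : ℂ)⁻¹ *
        ∑ g : Γ, f v * if τ g u = v then (1 : ℂ) else 0) := by
          apply Finset.sum_congr rfl
          intro v _
          rw [Finset.mul_sum, Finset.mul_sum, Finset.mul_sum]
          apply Finset.sum_congr rfl
          intro g _
          ring
    _ = _ := by
          rw [← Finset.mul_sum, Finset.sum_comm]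
          simp only [h4]

/-- The Fourier function of a character. -/
noncomputable def xiF (μ : IrrCharacter A) : A → ℂ := fun v => ((bar μ : IrrCharacter A) : A → ℂ) v - 1

theorem xiF_isGen (μ : IrrCharacter A) : IsGeneralizedCharacter A (xiF μ) :=
  isGen_sub (isGen_of_isIrr (bar μ).2) (isGen_of_isChar (isCharacter_one (G := A)))

include hc in
theorem xiF_one (μ : IrrCharacter A) : xiF μ (1 : A) = 0 := by
  unfold xiF
  rw [deg_one hc, sub_self]

include hc in
theorem xiF_act (g : Γ) (μ : IrrCharacter A) (v : A) : xiF (actT τ g μ) v = xiF μ (τ g⁻¹ v) := by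
  unfold xiF
  rw [bar_apply, bar_apply, actT_apply, map_inv]

include hc hK hfree in
/-- The integer matrix of a free action. -/
theorem abs_count {ι : Type*} [Fintype ι] (e : ℕ) [Fintype K]
    (hcard : Fintype.card K * e = Fintype.card Γ) (he : 0 < e)
    (D : ι → A → ℂ)
    (hinv : ∀ χ g v, v ≠ 1 → D χ (τ g v) = D χ v)
    (hgram : ∀ u v, u ≠ 1 → v ≠ 1 → ∑ χ, D χ u * conj (D χ v) =
      if ∃ g, τ g u = v then (Nat.card A : ℂ) else 0)
    (hint : ∀ χ ξ, IsGeneralizedCharacter A ξ → ξ 1 = 0 →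
      ∃ a : ℤ, (Nat.card A : ℂ)⁻¹ * ∑ v ∈ Finset.univ.erase (1 : A), ξ v * D χ v = a)
    (hne : ∀ χ, ∃ v, v ≠ 1 ∧ D χ v ≠ 0) :
    ∃ (R : Finset (IrrCharacter A)) (x : R → ι → ℤ),
      R.card * e = Nat.card A - 1 ∧
      (∀ i j, ∑ χ, x i χ * x j χ = (if i = j then 1 else 0) + (e : ℤ)) ∧
      ∀ χ, ∃ i, x i χ ≠ 0 := by
  have hstab : ∀ μ ∈ (Finset.univ.erase (triv : IrrCharacter A)),
      (Finset.univ.filter (fun g : Γ => actT τ g μ = μ)).card * e = Fintype.card Γ := by
    intro μ hμ
    have hμ1 := Finset.ne_of_mem_erase hμ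
    rw [← hcard]
    congr 1
    rw [← Fintype.card_coe]
    refine Fintype.card_congr ?_
    refine ⟨fun g => ⟨g.1, (actT_self_iff τ hc K hK hfree hμ1 _).1 (Finset.mem_filter.1 g.2).2⟩,
      fun k => ⟨k.1, Finset.mem_filter.2 ⟨Finset.mem_univ _, (actT_self_iff τ hc K hK hfree hμ1 _).2 k.2⟩⟩,
      fun _ => rfl, fun _ => rfl⟩
  obtain ⟨R, hRS, hRc, hRcov, hRsep⟩ := Cfsg.Agent.Lib.DcSetup.exists_transversal (A := Γ)
    (actT τ) (actT_one τ) (actT_mul τ) he (Finset.univ.erase (triv : IrrCharacter A))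
    (fun a μ hμ => Finset.mem_erase.2 ⟨actT_ne_triv τ (Finset.ne_of_mem_erase hμ) a, Finset.mem_univ _⟩)
    (fun μ hμ => by
      convert hstab μ hμ)
  have hRne : ∀ r ∈ R, r ≠ triv := fun r hr => Finset.ne_of_mem_erase (hRS hr)
  have hS : (Finset.univ.erase (triv : IrrCharacter A)).card = Nat.card A - 1 := by
    rw [Finset.card_erase_of_mem (Finset.mem_univ _), Finset.card_univ, Fintype.card_eq_nat_card,
      card_irr hc]
  have hch : ∀ (i : R) (χ : ι), ∃ a : ℤ, (Nat.card A : ℂ)⁻¹ *
      ∑ v ∈ Finset.univ.erase (1 : A), xiF i.1 v * D χ v = a :=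
    fun i χ => hint χ _ (xiF_isGen i.1) (xiF_one hc i.1)
  choose x hx using hch
  have hA0 : (Nat.card A : ℂ) ≠ 0 := natCard_ne_zero'
  have hK0 : (Fintype.card K : ℂ) ≠ 0 := by
    have : Fintype.card K ≠ 0 := Fintype.card_ne_zero
    exact_mod_cast this
  refine ⟨R, x, by rw [hRc, hS], ?_, ?_⟩
  · intro i j
    have hmain : ∑ χ, ((x i χ : ℂ) * (x j χ : ℂ)) = (if i = j then 1 else 0) + (e : ℂ) := by
      have h1 : ∀ χ, (x i χ : ℂ) * (x j χ : ℂ) = ((Nat.card A : ℂ)⁻¹) ^ 2 *
          ∑ u ∈ Finset.univ.erase (1 : A), ∑ v ∈ Finset.univ.erase (1 : A),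
            (xiF i.1 u * conj (xiF j.1 v)) * (D χ u * conj (D χ v)) := by
        intro χ
        have h2 : (x j χ : ℂ) = (Nat.card A : ℂ)⁻¹ *
            ∑ v ∈ Finset.univ.erase (1 : A), conj (xiF j.1 v) * conj (D χ v) := by
          have h3 := congrArg conj (hx j χ)
          rw [map_intCast, map_mul, map_sum, map_inv₀, Complex.conj_natCast] at h3
          rw [← h3]
          simp only [map_mul]
        rw [h2, ← hx i χ, mul_mul_mul_comm, ← pow_two, Finset.sum_mul_sum]
        congr 1
        apply Finset.sum_congr rfl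
        intro u _
        apply Finset.sum_congr rfl
        intro v _
        ring
      simp only [h1]
      rw [← Finset.mul_sum, Finset.sum_comm]
      have h5 : ∀ u ∈ Finset.univ.erase (1 : A),
          ∑ χ, ∑ v ∈ Finset.univ.erase (1 : A), (xiF i.1 u * conj (xiF j.1 v)) * (D χ u * conj (D χ v)) =
          (Nat.card A : ℂ) * (Fintype.card K : ℂ)⁻¹ *
            ∑ g : Γ, xiF i.1 u * conj (xiF j.1 (τ g u)) := by
        intro u hu
        have hu1 := Finset.ne_of_mem_erase hu
        rw [Finset.sum_comm]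
        have h6 : ∀ v ∈ Finset.univ.erase (1 : A),
            ∑ χ, (xiF i.1 u * conj (xiF j.1 v)) * (D χ u * conj (D χ v)) =
            (xiF i.1 u * conj (xiF j.1 v)) * (if ∃ g, τ g u = v then (Nat.card A : ℂ) else 0) := by
          intro v hv
          rw [← Finset.mul_sum, hgram u v hu1 (Finset.ne_of_mem_erase hv)]
        rw [Finset.sum_congr rfl h6]
        exact orbit_step τ K hK hfree hu1 (fun v => xiF i.1 u * conj (xiF j.1 v))
      rw [Finset.sum_congr rfl h5, ← Finset.mul_sum, Finset.sum_comm]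
      have h7 : ∀ g : Γ, ∑ u ∈ Finset.univ.erase (1 : A), xiF i.1 u * conj (xiF j.1 (τ g u)) =
          (if actT τ g⁻¹ j.1 = i.1 then (Nat.card A : ℂ) else 0) + Nat.card A := by
        intro g
        rw [← inner_step τ hc (hRne _ i.2) (hRne _ j.2) g]
        rw [← Finset.add_sum_erase _ _ (Finset.mem_univ (1 : A))]
        have h8 : ((bar i.1 : IrrCharacter A) : A → ℂ) 1 - 1 = 0 := by rw [deg_one hc, sub_self]
        rw [h8, zero_mul, zero_add]
        rfl
      simp only [h7]
      rw [Finset.sum_add_distrib, Finset.sum_const, Finset.card_univ, nsmul_eq_mul]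
      have h9 : ∑ g : Γ, (if actT τ g⁻¹ j.1 = i.1 then (Nat.card A : ℂ) else 0) =
          (if i = j then (Fintype.card K : ℂ) else 0) * Nat.card A := by
        by_cases hij : i = j
        · rw [if_pos hij, ← hij]
          have h10 : ∀ g : Γ, (if actT τ g⁻¹ i.1 = i.1 then (Nat.card A : ℂ) else 0) =
              if g ∈ K then (Nat.card A : ℂ) else 0 := by
            intro g
            have h11 : actT τ g⁻¹ i.1 = i.1 ↔ g ∈ K := by
              rw [actT_self_iff τ hc K hK hfree (hRne _ i.2)]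
              exact K.inv_mem_iff
            simp only [h11]
          simp only [h10]
          rw [Finset.sum_ite, Finset.sum_const_zero, add_zero, Finset.sum_const, nsmul_eq_mul]
          congr 1
          rw [Fintype.card_subtype]
        · rw [if_neg hij, zero_mul]
          apply Finset.sum_eq_zero
          intro g _
          rw [if_neg]
          intro h
          exact hij (Subtype.ext (hRsep _ i.2 _ j.2 _ h))
      rw [h9]
      have h12 : (Fintype.card Γ : ℂ) = Fintype.card K * e := by exact_mod_cast hcard.symm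
      rw [h12]
      split_ifs
      · field_simp
      · simp only [zero_mul, zero_add]
        field_simp
    have h13 : ((∑ χ, x i χ * x j χ : ℤ) : ℂ) = (((if i = j then 1 else 0) + (e : ℤ) : ℤ) : ℂ) := by
      push_cast
      exact hmain
    exact_mod_cast h13
  · intro χ
    by_contra hall
    push Not at hall
    obtain ⟨v₀, hv₀, hv₀D⟩ := hne χ
    apply hv₀D
    -- all Fourier coefficients vanish
    have hzero : ∀ μ : IrrCharacter A, ∑ v ∈ Finset.univ.erase (1 : A), xiF μ v * D χ v = 0 := by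
      intro μ
      by_cases hμ : μ = triv
      · apply Finset.sum_eq_zero
        intro v _
        rw [hμ]
        unfold xiF
        have : ((bar (triv : IrrCharacter A) : IrrCharacter A) : A → ℂ) v = 1 := by
          simp [bar, triv]
        rw [this, sub_self, zero_mul]
      · obtain ⟨r, hr, a, rfl⟩ := hRcov μ (Finset.mem_erase.2 ⟨hμ, Finset.mem_univ _⟩)
        have h1 : ∑ v ∈ Finset.univ.erase (1 : A), xiF (actT τ a r) v * D χ v =
            ∑ v ∈ Finset.univ.erase (1 : A), xiF r v * D χ v := by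
          refine Finset.sum_bij (fun v _ => τ a⁻¹ v) ?_ ?_ ?_ ?_
          · intro v hv
            refine Finset.mem_erase.2 ⟨fun h0 => Finset.ne_of_mem_erase hv ?_, Finset.mem_univ _⟩
            exact (τ a⁻¹).injective (h0.trans (map_one (τ a⁻¹)).symm)
          · intro v _ w _ h
            exact (τ a⁻¹).injective h
          · intro w hw
            refine ⟨τ a w, Finset.mem_erase.2 ⟨fun h0 => Finset.ne_of_mem_erase hw ?_, Finset.mem_univ _⟩, ?_⟩
            · exact (τ a).injective (h0.trans (map_one (τ a)).symm)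
            · simp
          · intro v hv
            rw [xiF_act τ hc, hinv χ a⁻¹ v (Finset.ne_of_mem_erase hv)]
        rw [h1]
        have h2 := hx ⟨r, hr⟩ χ
        rw [hall ⟨r, hr⟩] at h2
        simp only [Int.cast_zero, mul_eq_zero, inv_eq_zero, hA0, false_or] at h2
        exact h2
    have h3 : ∑ μ : IrrCharacter A, (μ : A → ℂ) v₀ * ∑ v ∈ Finset.univ.erase (1 : A), xiF μ v * D χ v =
        Nat.card A * D χ v₀ := by
      simp only [Finset.mul_sum]
      rw [Finset.sum_comm]
      have h4 : ∀ v ∈ Finset.univ.erase (1 : A), ∑ μ : IrrCharacter A, (μ : A → ℂ) v₀ * (xiF μ v * D χ v) =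
          (if v = v₀ then (Nat.card A : ℂ) else 0) * D χ v := by
        intro v hv
        have h5 : ∀ μ : IrrCharacter A, (μ : A → ℂ) v₀ * (xiF μ v * D χ v) =
            ((μ : A → ℂ) v₀ * (μ : A → ℂ) v⁻¹ - (μ : A → ℂ) v₀) * D χ v := by
          intro μ
          unfold xiF
          rw [bar_apply]
          ring
        simp only [h5]
        rw [← Finset.sum_mul, Finset.sum_sub_distrib, column hc, column_one hc, if_neg hv₀, sub_zero]
        simp only [eq_comm]
      rw [Finset.sum_congr rfl h4]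
      rw [Finset.sum_eq_single v₀]
      · simp
      · intro b _ hb
        rw [if_neg hb, zero_mul]
      · intro h0
        exact absurd (Finset.mem_erase.2 ⟨hv₀, Finset.mem_univ _⟩) h0
    simp only [hzero, mul_zero, Finset.sum_const_zero] at h3
    exact (mul_eq_zero.1 h3.symm).resolve_left hA0

end Count

end Cfsg.Agent.Lib.BFInt
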