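import Mathlib
import Cfsg.Prelude.Def_Local
import Cfsg.Agent.Lib.PCore
import Cfsg.Agent.Lib.PSolv

/-!
# The upper `p`-series and `p`-length

Step lemmas for the upper `p`-series; `PLengthLE` passes to subgroups and homomorphic images, and
`p`-length is subadditive along extensions.
-/

set_option autoImplicit false

open Cfsg

namespace Cfsg.Agent.Lib.PLengthSeries

open Cfsg.Agent.Lib.PSolv Cfsg.Agent.Lib.PCore

universe u

variable {G H : Type*} [Group G] [Group H]

theorem upper_le_succ (p : ℕ) (n : ℕ) :
    (upperPSeries p G n).1 ≤ (upperPSeries p G (n + 1)).1 := by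
  by_cases hn : Even n
  · rw [upperPSeries_succ_of_even p G hn]
    intro x hx
    rw [Subgroup.mem_comap]
    have : QuotientGroup.mk' (upperPSeries p G n).1 x = 1 := (QuotientGroup.eq_one_iff x).mpr hx
    rw [this]
    exact Subgroup.one_mem _
  · rw [upperPSeries_succ_of_odd p G hn]
    intro x hx
    rw [Subgroup.mem_comap]
    have : QuotientGroup.mk' (upperPSeries p G n).1 x = 1 := (QuotientGroup.eq_one_iff x).mpr hx
    rw [this]
    exact Subgroup.one_mem _

theorem upper_mono (p : ℕ) : Monotone (fun n => (upperPSeries p G n).1) :=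
  monotone_nat_of_le_succ (upper_le_succ p)

/-- Step at an even position. -/
theorem step_even (p : ℕ) {n : ℕ} (hn : Even n) {A B : Subgroup G} [B.Normal]
    (hA : A ≤ (upperPSeries p G n).1) (hc : (A.relIndex B).Coprime p) :
    B ≤ (upperPSeries p G (n + 1)).1 := by
  rw [upperPSeries_succ_of_even p G hn]
  rw [← Subgroup.map_le_iff_le_comap]
  apply le_pPrimeCore
  · exact Subgroup.Normal.map inferInstance _ (QuotientGroup.mk'_surjective _)
  · rw [← Subgroup.relIndex_ker, QuotientGroup.ker_mk']
    exact Nat.Coprime.coprime_dvd_left (Subgroup.relIndex_dvd_of_le_left B hA) hc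

/-- Step at an odd position. -/
theorem step_odd [Finite G] (p : ℕ) [hp : Fact p.Prime] {n : ℕ} (hn : ¬ Even n) {A B : Subgroup G} [B.Normal]
    (hA : A ≤ (upperPSeries p G n).1) {e : ℕ} (hc : A.relIndex B = p ^ e) :
    B ≤ (upperPSeries p G (n + 1)).1 := by
  rw [upperPSeries_succ_of_odd p G hn]
  rw [← Subgroup.map_le_iff_le_comap]
  apply le_pCore
  · exact Subgroup.Normal.map inferInstance _ (QuotientGroup.mk'_surjective _)
  · rw [IsPGroup.iff_card]
    rw [← Subgroup.relIndex_ker, QuotientGroup.ker_mk']
    have h := Subgroup.relIndex_dvd_of_le_left B hA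
    rw [hc] at h
    obtain ⟨j, _, hj⟩ := (Nat.dvd_prime_pow hp.out).mp h
    exact ⟨j, hj⟩

theorem relIndex_comap_mk (N : Subgroup G) [N.Normal] (X : Subgroup (G ⧸ N)) :
    N.relIndex (X.comap (QuotientGroup.mk' N)) = Nat.card X := by
  have h := Subgroup.relIndex_ker (QuotientGroup.mk' N) (K := X.comap (QuotientGroup.mk' N))
  rw [QuotientGroup.ker_mk', Subgroup.map_comap_eq_self_of_surjective
    (QuotientGroup.mk'_surjective _)] at h
  exact h

/-- The factor at an even position is a `p'`-group. -/
theorem relIndex_upper_even [Finite G] (p : ℕ) {n : ℕ} (hn : Even n) :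
    ((upperPSeries p G n).1.relIndex (upperPSeries p G (n + 1)).1).Coprime p := by
  rw [upperPSeries_succ_of_even p G hn, relIndex_comap_mk]
  exact card_pPrimeCore_coprime p

/-- The factor at an odd position is a `p`-group. -/
theorem relIndex_upper_odd [Finite G] (p : ℕ) [Fact p.Prime] {n : ℕ} (hn : ¬ Even n) :
    ∃ e : ℕ, (upperPSeries p G n).1.relIndex (upperPSeries p G (n + 1)).1 = p ^ e := by
  rw [upperPSeries_succ_of_odd p G hn, relIndex_comap_mk]
  exact IsPGroup.iff_card.mp (isPGroup_pCore p)

/-- The first term of the upper series is `O_{p'}(G)`. -/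
theorem upper_one_eq [Finite G] (p : ℕ) : (upperPSeries p G 1).1 = pPrimeCore p G := by
  apply le_antisymm
  · apply le_pPrimeCore (upperPSeries_normal p G 1)
    have h1 := relIndex_upper_even (G := G) p (n := 0) (by simp)
    rwa [upperPSeries_zero, Subgroup.relIndex_bot_left] at h1
  · have : (pPrimeCore p G).Normal := pPrimeCore_normal p G
    refine step_even p (n := 0) (by simp) (A := ⊥) bot_le ?_
    rw [Subgroup.relIndex_bot_left]
    exact card_pPrimeCore_coprime p

/-- Images: `f(U_n(G)) ≤ U_n(H)`. -/
theorem map_upper_le [Finite G] (p : ℕ) [Fact p.Prime] (f : G →* H)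
    (hf : Function.Surjective f) (n : ℕ) :
    (upperPSeries p G n).1.map f ≤ (upperPSeries p H n).1 := by
  have : Finite H := Finite.of_surjective f hf
  induction n with
  | zero =>
    rw [upperPSeries_zero, Subgroup.map_bot]
    exact bot_le
  | succ n ih =>
    have hnorm : ((upperPSeries p G (n + 1)).1.map f).Normal := Subgroup.Normal.map inferInstance f hf
    have hd := relIndex_map_dvd f (upper_le_succ (G := G) p n)
    by_cases hn : Even n
    · exact step_even p hn ih
        (Nat.Coprime.coprime_dvd_left hd (relIndex_upper_even p hn))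
    · obtain ⟨e, he⟩ := relIndex_upper_odd (G := G) p hn
      rw [he] at hd
      obtain ⟨j, _, hj⟩ := (Nat.dvd_prime_pow Fact.out).mp hd
      exact step_odd p hn ih hj

/-- `PLengthLE` passes to homomorphic images. -/
theorem pLengthLE_of_surjective [Finite G] (p : ℕ) [Fact p.Prime] {k : ℕ} (f : G →* H)
    (hf : Function.Surjective f) (h : PLengthLE p k G) : PLengthLE p k H := by
  unfold PLengthLE at h ⊢
  rw [eq_top_iff, ← MonoidHom.range_eq_top.mpr hf, MonoidHom.range_eq_map, ← h]
  exact map_upper_le p f hf _

/-- Subgroups: `U_n(G) ∩ K ≤ U_n(K)`. -/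
theorem subgroupOf_upper_le [Finite G] (p : ℕ) [Fact p.Prime] (K : Subgroup G) (n : ℕ) :
    (upperPSeries p G n).1.subgroupOf K ≤ (upperPSeries p K n).1 := by
  induction n with
  | zero =>
    rw [upperPSeries_zero, upperPSeries_zero]
    simp
  | succ n ih =>
    have hnorm : ((upperPSeries p G (n + 1)).1.subgroupOf K).Normal := inferInstance
    have h1 : ((upperPSeries p G n).1.subgroupOf K).relIndex
        ((upperPSeries p G (n + 1)).1.subgroupOf K) =
        ((upperPSeries p G n).1 ⊓ K).relIndex ((upperPSeries p G (n + 1)).1 ⊓ K) := by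
      rw [← Subgroup.relIndex_map_map_of_injective _ _ K.subtype_injective,
        Subgroup.subgroupOf_map_subtype, Subgroup.subgroupOf_map_subtype]
    have hd := relIndex_inf_dvd K (upper_le_succ (G := G) p n)
    by_cases hn : Even n
    · refine step_even p hn ih ?_
      rw [h1]
      exact Nat.Coprime.coprime_dvd_left hd (relIndex_upper_even p hn)
    · obtain ⟨e, he⟩ := relIndex_upper_odd (G := G) p hn
      rw [he] at hd
      obtain ⟨j, _, hj⟩ := (Nat.dvd_prime_pow Fact.out).mp hd
      exact step_odd p hn ih (h1.trans hj)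

/-- `PLengthLE` passes to subgroups. -/
theorem pLengthLE_subgroup [Finite G] (p : ℕ) [Fact p.Prime] {k : ℕ} (h : PLengthLE p k G)
    (K : Subgroup G) : PLengthLE p k K := by
  unfold PLengthLE at h ⊢
  rw [eq_top_iff]
  refine le_trans ?_ (subgroupOf_upper_le p K _)
  rw [h]
  simp

theorem pLengthLE_zero_of_coprime [Finite G] (p : ℕ) (h : (Nat.card G).Coprime p) :
    PLengthLE p 0 G := by
  unfold PLengthLE
  rw [eq_top_iff]
  refine step_even p (n := 0) (by simp) (A := ⊥) (B := ⊤) bot_le ?_
  rw [Subgroup.relIndex_bot_left]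
  simpa using h

theorem coprime_of_pLengthLE_zero [Finite G] (p : ℕ) [Fact p.Prime] (h : PLengthLE p 0 G) :
    (Nat.card G).Coprime p := by
  unfold PLengthLE at h
  have h1 := upper_one_eq (G := G) p
  rw [show 2 * 0 + 1 = 1 from rfl] at h
  rw [h] at h1
  have h2 := card_pPrimeCore_coprime (G := G) p
  rw [← h1] at h2
  simpa using h2

theorem pLengthLE_mono (p : ℕ) {k k' : ℕ} (hk : k ≤ k') (h : PLengthLE p k G) :
    PLengthLE p k' G := by
  unfold PLengthLE at h ⊢
  rw [eq_top_iff, ← h]
  exact upper_mono p (by omega)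

theorem pLengthLE_one_of_isPGroup [Finite G] (p : ℕ) [Fact p.Prime] (h : IsPGroup p G) :
    PLengthLE p 1 G := by
  unfold PLengthLE
  rw [eq_top_iff]
  obtain ⟨e, he⟩ := IsPGroup.iff_card.mp h
  have h2 : (⊤ : Subgroup G) ≤ (upperPSeries p G 2).1 := by
    refine step_odd p (n := 1) (by decide) (A := ⊥) (B := ⊤) bot_le (e := e) ?_
    rw [Subgroup.relIndex_bot_left]
    simpa using he
  exact h2.trans (upper_le_succ p 2)

/-- One step of `p`-length: `G / O_{p',p}(G)` has `p`-length one less. -/
theorem pLengthLE_succ_iff (p : ℕ) (k : ℕ) :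
    PLengthLE p (k + 1) G ↔ PLengthLE p k (G ⧸ (upperPSeries p G 2).1) := by
  unfold PLengthLE
  rw [show 2 * (k + 1) + 1 = (2 * k + 1) + 2 by ring, upperPSeries_add_two]
  constructor
  · intro h
    rw [eq_top_iff]
    intro x _
    obtain ⟨y, rfl⟩ := QuotientGroup.mk'_surjective (upperPSeries p G 2).1 x
    have : y ∈ (⊤ : Subgroup G) := trivial
    rw [← h] at this
    exact this
  · intro h
    rw [h]
    simp

/-- A surjection with a `p'`-kernel does not change the `p`-length bound. -/
theorem pLengthLE_of_ker_coprime [Finite G] (p : ℕ) [Fact p.Prime] {b : ℕ} (f : G →* H)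
    (hf : Function.Surjective f) (hK : (Nat.card f.ker).Coprime p) (h : PLengthLE p b H) :
    PLengthLE p b G := by
  have : Finite H := Finite.of_surjective f hf
  have key : ∀ n : ℕ, (upperPSeries p H (n + 1)).1.comap f ≤ (upperPSeries p G (n + 1)).1 := by
    intro n
    induction n with
    | zero =>
      refine step_even p (n := 0) (by simp) (A := ⊥) bot_le ?_
      rw [Subgroup.relIndex_bot_left, card_comap_of_surjective f hf]
      refine Nat.Coprime.mul_left ?_ hK
      have h1 := relIndex_upper_even (G := H) p (n := 0) (by simp)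
      rwa [upperPSeries_zero, Subgroup.relIndex_bot_left] at h1
    | succ n ih =>
      have hrel : ((upperPSeries p H (n + 1)).1.comap f).relIndex
          ((upperPSeries p H (n + 1 + 1)).1.comap f) =
          (upperPSeries p H (n + 1)).1.relIndex (upperPSeries p H (n + 1 + 1)).1 := by
        rw [Subgroup.relIndex_comap, Subgroup.map_comap_eq_self_of_surjective hf]
      by_cases hn : Even (n + 1)
      · refine step_even p hn ih ?_
        rw [hrel]
        exact relIndex_upper_even p hn
      · obtain ⟨e, he⟩ := relIndex_upper_odd (G := H) p hn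
        exact step_odd p hn ih (hrel.trans he)
  unfold PLengthLE at h ⊢
  rw [eq_top_iff]
  refine le_trans ?_ (key (2 * b))
  rw [h]
  simp

/-- The terms of the upper series of a normal subgroup are normal in the whole group. -/
theorem normal_map_upper [Finite G] (p : ℕ) [Fact p.Prime] (N : Subgroup G) [N.Normal] (n : ℕ) :
    ((upperPSeries p N n).1.map N.subtype).Normal := by
  constructor
  rintro _ ⟨x, hx, rfl⟩ g
  let φ : N ≃* N := MulAut.conjNormal g
  have h1 := map_upper_le p φ.toMonoidHom φ.surjective n
  have h2 : φ x ∈ (upperPSeries p N n).1 := h1 ⟨x, hx, rfl⟩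
  refine ⟨φ x, h2, ?_⟩
  rfl

/-- A normal subgroup with quotient of `p`-length `≤ b`: subadditivity of the `p`-length. -/
theorem pLengthLE_of_ker : ∀ (a b : ℕ) (p : ℕ) [Fact p.Prime] (X Y : Type u) [Group X] [Group Y]
    [Finite X] (f : X →* Y), Function.Surjective f → PLengthLE p a f.ker → PLengthLE p b Y →
    PLengthLE p (a + b) X := by
  intro a
  induction a with
  | zero =>
    intro b p _ X Y _ _ _ f hf ha hb
    rw [zero_add]
    exact pLengthLE_of_ker_coprime p f hf (coprime_of_pLengthLE_zero p ha) hb
  | succ a ih =>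
    intro b p _ X Y _ _ _ f hf ha hb
    set N := f.ker with hN
    have hNn : N.Normal := MonoidHom.normal_ker f
    set M : Subgroup X := (upperPSeries p N 2).1.map N.subtype with hM
    have hMn : M.Normal := normal_map_upper p N 2
    have hMN : M ≤ N := by
      rintro _ ⟨x, -, rfl⟩
      exact x.2
    have hMker : M ≤ f.ker := hMN
    -- the map from `X / M` to `Y`
    let fhat : X ⧸ M →* Y := QuotientGroup.lift M f hMker
    have hfhat : Function.Surjective fhat := by
      intro y
      obtain ⟨x, rfl⟩ := hf y
      exact ⟨QuotientGroup.mk x, rfl⟩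
    -- the map from `N` onto the kernel of `fhat`
    let h₀ : N →* fhat.ker :=
      MonoidHom.codRestrict ((QuotientGroup.mk' M).comp N.subtype) fhat.ker (by
        intro x
        show fhat (QuotientGroup.mk x.1) = 1
        exact x.2)
    have hh₀ : Function.Surjective h₀ := by
      rintro ⟨y, hy⟩
      obtain ⟨x, rfl⟩ := QuotientGroup.mk'_surjective M y
      have hx : x ∈ N := hy
      exact ⟨⟨x, hx⟩, rfl⟩
    have hker : (upperPSeries p N 2).1 ≤ h₀.ker := by
      intro x hx
      rw [MonoidHom.mem_ker]
      apply Subtype.ext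
      show QuotientGroup.mk (x : X) = 1
      exact (QuotientGroup.eq_one_iff _).mpr ⟨x, hx, rfl⟩
    let h₁ : N ⧸ (upperPSeries p N 2).1 →* fhat.ker := QuotientGroup.lift _ h₀ hker
    have hh₁ : Function.Surjective h₁ := by
      intro y
      obtain ⟨x, rfl⟩ := hh₀ y
      exact ⟨QuotientGroup.mk x, rfl⟩
    have ha' : PLengthLE p a fhat.ker :=
      pLengthLE_of_surjective p h₁ hh₁ ((pLengthLE_succ_iff p a).mp ha)
    have hih := ih b p (X ⧸ M) Y fhat hfhat ha' hb
    -- `M ≤ O_{p',p}(X)`
    have hA : (upperPSeries p N 1).1.map N.subtype ≤ (upperPSeries p X 1).1 := by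
      have hnorm := normal_map_upper p N 1
      refine step_even p (n := 0) (by simp) (A := ⊥) bot_le ?_
      rw [Subgroup.relIndex_bot_left, Subgroup.card_map_of_injective N.subtype_injective]
      have h1 := relIndex_upper_even (G := N) p (n := 0) (by simp)
      rwa [upperPSeries_zero, Subgroup.relIndex_bot_left] at h1
    have hM2 : M ≤ (upperPSeries p X 2).1 := by
      obtain ⟨e, he⟩ := relIndex_upper_odd (G := N) p (n := 1) (by decide)
      refine step_odd p (n := 1) (by decide) hA (e := e) ?_
      rw [hM, Subgroup.relIndex_map_map_of_injective _ _ N.subtype_injective]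
      exact he
    let k : X ⧸ M →* X ⧸ (upperPSeries p X 2).1 :=
      QuotientGroup.lift M (QuotientGroup.mk' _) (by
        intro x hx
        rw [MonoidHom.mem_ker]
        exact (QuotientGroup.eq_one_iff _).mpr (hM2 hx))
    have hk : Function.Surjective k := by
      intro y
      obtain ⟨x, rfl⟩ := QuotientGroup.mk'_surjective _ y
      exact ⟨QuotientGroup.mk x, rfl⟩
    have hfin := pLengthLE_of_surjective p k hk hih
    rw [show a + 1 + b = (a + b) + 1 by ring]
    exact (pLengthLE_succ_iff p (a + b)).mpr hfin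

end Cfsg.Agent.Lib.PLengthSeries
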