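import Mathlib
import Cfsg.Prelude.Def_OddOrderLocal
import Cfsg.Prelude.Def_Local
import Cfsg.Prelude.Def_LieExceptional
import Cfsg.Agent.Lib.BGSigma2
import Cfsg.Agent.Lib.CNSolv
import Cfsg.Agent.Lib.PLengthSeries
import Cfsg.Agent.Lib.PLengthOne
import Cfsg.Agent.S1450

/-!
# Minimal simple CN-groups of odd order: three-step groups do not occur

The upstream Uniqueness Theorem is the explicit hypothesis `UT G`.
-/

set_option autoImplicit false
set_option linter.unusedSectionVars false
set_option linter.unusedVariables false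
set_option linter.style.haveILetI false
set_option linter.unusedSimpArgs false

namespace Cfsg.Agent.Lib.BGCN

open Cfsg Cfsg.Agent.Lib.PCore Cfsg.Agent.Lib.CoprimeInv Cfsg.Agent.Lib.BGTrans Cfsg.Agent.Lib.BGSigma
  Cfsg.Agent.Lib.BGSigma2 Cfsg.Agent.Lib.CNGroup Cfsg.Agent.Lib.CNMaxNil Cfsg.Agent.Lib.CNFrob
  Cfsg.Agent.Lib.CNSolv Cfsg.Agent.Lib.PLengthSeries Cfsg.Agent.Lib.PLengthOne

open scoped commutatorElement

universe u

/-- A subgroup of a CN-group is a CN-group. -/
theorem isCN_subgroup {G : Type*} [Group G] (hCN : IsCNGroup G) (H : Subgroup G) : IsCNGroup H := by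
  intro x hx
  have hx' : (x : G) ≠ 1 := fun h => hx (Subtype.ext h)
  have h1 := hCN x hx'
  let C := Subgroup.centralizer ({x} : Set H)
  have hle : C.map H.subtype ≤ Subgroup.centralizer ({(x : G)} : Set G) := by
    rintro _ ⟨c, hc, rfl⟩
    rw [Subgroup.mem_centralizer_singleton_iff]
    have := Subgroup.mem_centralizer_singleton_iff.mp hc
    exact congrArg Subtype.val this
  have h2 : Group.IsNilpotent (C.map H.subtype) := nilpotent_of_le hle h1
  exact Group.nilpotent_of_mulEquiv (C.equivMapOfInjective H.subtype H.subtype_injective).symm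

/-- Solvable CN-groups: nilpotent, or with a nontrivial normal Sylow subgroup, or three-step. -/
theorem trichotomy {X : Type*} [Group X] [Finite X] [Group.IsSolvable X] (hCN : IsCNGroup X) :
    Group.IsNilpotent X ∨
      (∃ (p : ℕ) (_ : Fact p.Prime) (P : Sylow p X), (P : Subgroup X) ≠ ⊥ ∧ (P : Subgroup X).Normal) ∨
      ∃ p : ℕ, p.Prime ∧ IsThreeStepGroup p X := by
  classical
  by_cases hnil : Group.IsNilpotent X
  · exact Or.inl hnil
  right
  by_cases htriv : Subsingleton X
  · haveI := htriv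
    exact absurd (inferInstance : Group.IsNilpotent X) hnil
  rw [not_subsingleton_iff_nontrivial] at htriv
  obtain ⟨p, hp, hcore⟩ := exists_pCore_ne_bot (G := X)
  haveI : Fact p.Prime := ⟨hp⟩
  set F := fittingSubgroup X with hF
  have hFnil : Group.IsNilpotent F := isNilpotent_fittingSubgroup
  have hcoreF : pCore p X ≤ F := pCore_le_fittingSubgroup p
  obtain ⟨N, hFN, hNmax⟩ := (Set.toFinite {L : Subgroup X | Group.IsNilpotent L}).exists_le_maximal hFnil
  have hN : Group.IsNilpotent N := hNmax.1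
  have hmax : ∀ L : Subgroup X, Group.IsNilpotent L → N ≤ L → L = N :=
    fun L hL hNL => le_antisymm (hNmax.2 hL hNL) hNL
  have hpN : p ∣ Nat.card N := by
    by_contra hnd
    have hle : pCore p X ≤ N := hcoreF.trans hFN
    apply hcore
    have hcp : IsPGroup p (pCore p X) := isPGroup_pCore p
    obtain ⟨k, hk⟩ := IsPGroup.iff_card.mp hcp
    have hd : Nat.card (pCore p X) ∣ Nat.card N := Subgroup.card_dvd_of_le hle
    rw [hk] at hd
    cases k with
    | zero =>
      rw [pow_zero] at hk
      exact Subgroup.card_eq_one.mp hk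
    | succ k =>
      exact absurd ((dvd_pow_self p (Nat.succ_ne_zero k)).trans hd) hnd
  have hNi : ¬ p ∣ N.index := not_dvd_index hCN hN hmax hpN
  by_cases hnp : IsPrimePow (Nat.card N)
  · -- `N` is a `p`-group
    have hNp : IsPGroup p N := by
      rw [isPrimePow_nat_iff] at hnp
      obtain ⟨w, k, hw, hk, hwk⟩ := hnp
      have hpw : p = w := by
        have : p ∣ w ^ k := by rw [hwk]; exact hpN
        exact (Nat.prime_dvd_prime_iff_eq hp hw).mp (hp.dvd_of_dvd_pow this)
      subst hpw
      exact IsPGroup.iff_card.mpr ⟨k, hwk.symm⟩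
    let S : Sylow p X := hNp.toSylow hNi
    have hSN : (S : Subgroup X) = N := rfl
    by_cases hexn : ∃ S : Sylow p X, (S : Subgroup X).Normal
    · obtain ⟨S', hS'⟩ := hexn
      left
      have hS'1 : (S' : Subgroup X) ≠ ⊥ := by
        intro h
        apply hcore
        have := pCore_le_sylow p S'
        rw [h] at this
        exact le_bot_iff.mp this
      exact ⟨p, inferInstance, S', hS'1, hS'⟩
    · right
      push Not at hexn
      refine ⟨p, hp, three_step_of_not_normal hCN p ?_ hcore hexn⟩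
      -- `F` is a `p`-group
      refine le_antisymm ?_ hcoreF
      exact le_pCore inferInstance (hNp.to_le hFN)
  · -- `N` is normal
    left
    have hN1 : Nat.card N ≠ 1 := by
      intro h
      rw [h] at hpN
      exact hp.one_lt.ne' (Nat.dvd_one.mp hpN)
    have hNn : N.Normal := by
      constructor
      intro n hn g
      have hconj : N.map (MulAut.conj g).toMonoidHom = N := by
        by_contra hne
        have hti := ti_of_not_isPrimePow hCN hN hmax hnp hN1 g hne
        apply hcore
        rw [eq_bot_iff, ← hti]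
        intro x hx
        refine ⟨hFN (hcoreF hx), ?_⟩
        have hxg : g⁻¹ * x * g ∈ pCore p X := by
          have := (inferInstance : (pCore p X).Normal).conj_mem x hx g⁻¹
          simpa using this
        exact ⟨g⁻¹ * x * g, hFN (hcoreF hxg), by
          change g * (g⁻¹ * x * g) * g⁻¹ = x
          group⟩
      rw [← hconj]
      exact ⟨n, hn, rfl⟩
    obtain ⟨P⟩ := (inferInstance : Nonempty (Sylow p N))
    let Q : Subgroup X := (P : Subgroup N).map N.subtype
    have hQp : IsPGroup p Q := P.isPGroup'.map N.subtype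
    have hQi : ¬ p ∣ Q.index := not_dvd_index_map P hNi
    have hN' := (Group.isNilpotent_of_finite_tfae (G := N)).out 0 3 rfl rfl
    have hPn : (P : Subgroup N).Normal := hN'.1 hN p inferInstance P
    haveI hPc : (P : Subgroup N).Characteristic := Sylow.characteristic_of_normal P hPn
    have hQn : Q.Normal := ConjAct.normal_of_characteristic_of_normal
    have hQ1 : Q ≠ ⊥ := map_sylow_ne_bot P hpN
    exact ⟨p, inferInstance, hQp.toSylow hQi, hQ1, hQn⟩

section ThreeStep

variable {X : Type*} [Group X] [Finite X] {p : ℕ} [hp : Fact p.Prime]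

/-- In a three-step group, `O_{p'}` is trivial. -/
theorem threeStep_pPrimeCore (h : IsThreeStepGroup p X) : pPrimeCore p X = ⊥ := by
  classical
  obtain ⟨hQ, A, hA1, hAc, hAo, hAp, hQAn, hQAt, ⟨n, hn⟩, hfpf, hout⟩ := h
  set Q := pCore p X with hQdef
  set N := pPrimeCore p X with hNdef
  haveI hQn : Q.Normal := inferInstance
  have hNc : (Nat.card N).Coprime p := card_pPrimeCore_coprime p
  have hNQ : N ≤ Q ⊔ A := by
    intro x hx
    have hq : (Q ⊔ A).Normal := hQAn
    haveI := hq
    have h1 : orderOf (QuotientGroup.mk' (Q ⊔ A) x) ∣ p ^ n := by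
      rw [← hn]
      exact orderOf_dvd_natCard _
    have h2 : orderOf (QuotientGroup.mk' (Q ⊔ A) x) ∣ Nat.card N := by
      refine (orderOf_map_dvd _ x).trans ?_
      have := Subgroup.orderOf_dvd_natCard N hx
      exact this
    have h3 : orderOf (QuotientGroup.mk' (Q ⊔ A) x) = 1 :=
      Nat.eq_one_of_dvd_coprimes (hNc.pow_right n) h2 h1
    have h4 := orderOf_eq_one_iff.mp h3
    exact (QuotientGroup.eq_one_iff x).mp h4
  obtain ⟨z, hz, hz1⟩ : ∃ z ∈ Q, z ≠ 1 ∧ ∀ y ∈ Q, y * z = z * y := by
    have hQp : IsPGroup p Q := isPGroup_pCore p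
    haveI : Fact p.Prime := hp
    haveI : Nontrivial Q := by
      rw [Subgroup.nontrivial_iff_ne_bot]
      exact hQ
    haveI := hQp.center_nontrivial
    obtain ⟨w, hw⟩ := exists_ne (1 : Subgroup.center Q)
    refine ⟨((w : Q) : X), (w : Q).2, ?_, ?_⟩
    · intro h
      apply hw
      apply Subtype.ext
      apply Subtype.ext
      exact h
    · intro y hy
      have := Subgroup.mem_center_iff.mp w.2 ⟨y, hy⟩
      exact congrArg Subtype.val this
  rw [eq_bot_iff]
  intro x hx
  rw [Subgroup.mem_bot]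
  have hxQ := hNQ hx
  obtain ⟨q, hq, a, ha, rfl⟩ := Subgroup.mem_sup_of_normal_left.mp hxQ
  -- `N` commutes with `Q`
  have hdisj : N ⊓ Q = ⊥ := by
    rw [eq_bot_iff]
    intro y hy
    rw [Subgroup.mem_bot]
    have h1 : orderOf y ∣ Nat.card N := Subgroup.orderOf_dvd_natCard N hy.1
    obtain ⟨k, hk⟩ := IsPGroup.iff_card.mp (isPGroup_pCore p (G := X))
    have h2 : orderOf y ∣ p ^ k := by
      rw [← hk]
      exact Subgroup.orderOf_dvd_natCard Q hy.2
    exact orderOf_eq_one_iff.mp (Nat.eq_one_of_dvd_coprimes (hNc.pow_right k) h1 h2)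
  have hcomm : ∀ y ∈ Q, (q * a) * y = y * (q * a) := by
    intro y hy
    have := Subgroup.commute_of_normal_of_disjoint N Q inferInstance hQn
      (by rw [disjoint_iff]; exact hdisj) (q * a) y hx hy
    exact this
  have hza : a * z = z * a := by
    have h1 := hcomm z hz
    have h2 := hz1.2 q hq
    -- `q a z = z q a = q z a`
    have : q * (a * z) = q * (z * a) := by
      calc q * (a * z) = q * a * z := by group
        _ = z * (q * a) := h1
        _ = (z * q) * a := by group
        _ = (q * z) * a := by rw [h2]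
        _ = q * (z * a) := by group
    exact mul_left_cancel this
  have ha1 : a = 1 := by
    by_contra hne
    have := hfpf a ha hne
    have hzm : z ∈ Q ⊓ Subgroup.centralizer ({a} : Set X) :=
      ⟨hz, Subgroup.mem_centralizer_singleton_iff.mpr hza.symm⟩
    rw [this, Subgroup.mem_bot] at hzm
    exact hz1.1 hzm
  subst ha1
  rw [mul_one] at hx ⊢
  have : q ∈ N ⊓ Q := ⟨hx, hq⟩
  rwa [hdisj, Subgroup.mem_bot] at this

/-- A three-step group does not have `p`-length one. -/
theorem threeStep_not_pLength (h : IsThreeStepGroup p X) : ¬ PLengthLE p 1 X := by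
  classical
  intro hl
  have hN := threeStep_pPrimeCore h
  obtain ⟨hQ, A, hA1, hAc, hAo, hAp, hQAn, hQAt, ⟨n, hn⟩, hfpf, hout⟩ := h
  have hinj : Function.Injective (QuotientGroup.mk' (pPrimeCore p X)) :=
    (MonoidHom.ker_eq_bot_iff _).mp (by rw [QuotientGroup.ker_mk']; exact hN)
  have hPP : IsPGroup p (pPrimePCore p X) :=
    (isPGroup_pCore p (G := X ⧸ pPrimeCore p X)).comap_of_injective _ hinj
  have hle : pPrimePCore p X ≤ pCore p X := le_pCore inferInstance hPP
  obtain ⟨S⟩ : Nonempty (Sylow p X) := inferInstance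
  have hSle : (S : Subgroup X) ≤ pCore p X := (isPGroup_le_pPrimePCore hl S.isPGroup').trans hle
  have h1 : (S : Subgroup X) ≤ pCore p X ⊔ A := hSle.trans le_sup_left
  have hn0 : n ≠ 0 := by
    rintro rfl
    rw [pow_zero] at hn
    exact hQAt (Subgroup.index_eq_one.mp hn)
  have hd : p ∣ (S : Subgroup X).index :=
    (dvd_pow_self p hn0).trans (hn ▸ Subgroup.index_dvd_of_le h1)
  exact S.not_dvd_index hd

/-- In a group of odd order with a three-step structure, the `p`-rank is at least three. -/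
theorem threeStep_not_prank [Group.IsSolvable X] (hodd : Odd (Nat.card X))
    (h : IsThreeStepGroup p X) : ¬ PRankLE p 2 X := by
  intro hr
  have hpX : p ∣ Nat.card X := by
    obtain ⟨hQ, -⟩ := h
    have hQp : IsPGroup p (pCore p X) := isPGroup_pCore p
    obtain ⟨k, hk⟩ := IsPGroup.iff_card.mp hQp
    have hk0 : k ≠ 0 := by
      rintro rfl
      rw [pow_zero] at hk
      exact hQ (Subgroup.card_eq_one.mp hk)
    exact (dvd_pow_self p hk0).trans (hk ▸ Subgroup.card_subgroup_dvd_card _)
  have h1 := (Cfsg.Agent.S1450.result hodd p hpX hr).2.2.2.2.2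
  exact threeStep_not_pLength h (pLengthLE_one_of_coprime h1)

end ThreeStep

section PL

variable {Y : Type u} [Group Y] [Finite Y] {p : ℕ} [hp : Fact p.Prime]

theorem pLength_of_normal {a b : ℕ} (N : Subgroup Y) [N.Normal] (h1 : PLengthLE p a N)
    (h2 : PLengthLE p b (Y ⧸ N)) : PLengthLE p (a + b) Y := by
  refine pLengthLE_of_ker a b p Y (Y ⧸ N) (QuotientGroup.mk' N) (QuotientGroup.mk'_surjective N) ?_ h2
  rw [QuotientGroup.ker_mk']
  exact h1

/-- Nilpotent groups have `p`-length at most one. -/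
theorem pLength_of_nilpotent (hY : Group.IsNilpotent Y) : PLengthLE p 1 Y := by
  classical
  obtain ⟨S⟩ : Nonempty (Sylow p Y) := inferInstance
  have hN := (Group.isNilpotent_of_finite_tfae (G := Y)).out 0 3 rfl rfl
  have hSn : (S : Subgroup Y).Normal := hN.1 hY p inferInstance S
  haveI := hSn
  have h := pLength_of_normal (p := p) (a := 1) (b := 0) (S : Subgroup Y)
    (pLengthLE_one_of_isPGroup p S.isPGroup')
    (pLengthLE_zero_of_coprime p (by
      have hc : ¬ p ∣ (S : Subgroup Y).index := S.not_dvd_index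
      have : Nat.card (Y ⧸ (S : Subgroup Y)) = (S : Subgroup Y).index := rfl
      rw [this]
      exact ((Nat.Prime.coprime_iff_not_dvd hp.out).mpr hc).symm))
  exact h

/-- A nilpotent normal Hall subgroup with nilpotent quotient. -/
theorem pLength_of_nil_nil (T : Subgroup Y) [T.Normal] (hT : Group.IsNilpotent T)
    (hQ : Group.IsNilpotent (Y ⧸ T)) (hc : (Nat.card T).Coprime T.index) : PLengthLE p 1 Y := by
  classical
  by_cases hd : p ∣ Nat.card T
  · have h := pLength_of_normal (p := p) (a := 1) (b := 0) T (pLength_of_nilpotent hT)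
      (pLengthLE_zero_of_coprime p (by
        have hnd : ¬ p ∣ T.index := fun h => hp.out.one_lt.ne' (Nat.eq_one_of_dvd_coprimes hc hd h)
        have : Nat.card (Y ⧸ T) = T.index := rfl
        rw [this]
        exact ((Nat.Prime.coprime_iff_not_dvd hp.out).mpr hnd).symm))
    exact h
  · have h := pLength_of_normal (p := p) (a := 0) (b := 1) T
      (pLengthLE_zero_of_coprime p ((Nat.Prime.coprime_iff_not_dvd hp.out).mpr hd).symm)
      (pLength_of_nilpotent hQ)
    simpa using h

/-- A group three-step with respect to another prime has `p`-length one. -/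
theorem pLength_of_threeStep {q : ℕ} [hq : Fact q.Prime] (hpq : q ≠ p) (h : IsThreeStepGroup q Y) :
    PLengthLE p 1 Y := by
  classical
  obtain ⟨hQ, A, hA1, hAc, hAo, hAp, hQAn, hQAt, ⟨n, hn⟩, hfpf, hout⟩ := h
  set W := pCore q Y with hW
  set L := W ⊔ A with hL
  haveI : L.Normal := hQAn
  have hpq' : Nat.Coprime q p := (Nat.coprime_primes hq.out hp.out).mpr hpq
  have h1 : PLengthLE p 0 (Y ⧸ L) := pLengthLE_zero_of_coprime p (by
    have : Nat.card (Y ⧸ L) = L.index := rfl
    rw [this, hn]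
    exact hpq'.pow_left n)
  have h2 : PLengthLE p 1 L := by
    let W' : Subgroup L := W.subgroupOf L
    haveI hW'n : W'.Normal := Subgroup.Normal.subgroupOf inferInstance L
    have hWq : IsPGroup q W := isPGroup_pCore q
    have h3 : PLengthLE p 0 W' := pLengthLE_zero_of_coprime p (by
      have hW'q : IsPGroup q W' := hWq.comap_of_injective L.subtype L.subtype_injective
      obtain ⟨k, hk⟩ := IsPGroup.iff_card.mp hW'q
      rw [hk]
      exact hpq'.pow_left k)
    have h4 : Group.IsNilpotent (L ⧸ W') := by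
      letI : CommGroup A := IsCyclic.commGroup
      have hAn : Group.IsNilpotent A := inferInstance
      let f : A →* L ⧸ W' := (QuotientGroup.mk' W').comp
        (Subgroup.inclusion (le_sup_right : A ≤ L))
      have hf : Function.Surjective f := by
        intro x
        obtain ⟨⟨x, hx⟩, rfl⟩ := QuotientGroup.mk'_surjective W' x
        obtain ⟨w, hw, a, ha, rfl⟩ := Subgroup.mem_sup_of_normal_left.mp hx
        have hwL : w ∈ L := le_sup_left (a := W) hw
        have haL : a ∈ L := le_sup_right (b := A) ha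
        have e : (⟨w * a, hx⟩ : L) = ⟨w, hwL⟩ * ⟨a, haL⟩ := rfl
        refine ⟨⟨a, ha⟩, ?_⟩
        show QuotientGroup.mk' W' ⟨a, haL⟩ = QuotientGroup.mk' W' ⟨w * a, hx⟩
        rw [e, map_mul]
        have h0 : QuotientGroup.mk' W' ⟨w, hwL⟩ = 1 :=
          (QuotientGroup.eq_one_iff _).mpr (Subgroup.mem_subgroupOf.mpr hw)
        rw [h0, one_mul]
      exact Group.nilpotent_of_surjective f hf
    have h5 := pLength_of_normal (p := p) (a := 0) (b := 1) W' h3 (pLength_of_nilpotent h4)
    simpa using h5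
  have h6 := pLength_of_normal (p := p) (a := 1) (b := 0) L h2 h1
  exact h6

end PL

section Frob

variable {X : Type*} [Group X] [Finite X]

/-- A nontrivial normal subgroup of a nilpotent group meets the centre. -/
theorem exists_center_of_normal (hX : Group.IsNilpotent X) (N : Subgroup X) [hN : N.Normal]
    (hN1 : N ≠ ⊥) : ∃ z ∈ N, z ≠ 1 ∧ z ∈ Subgroup.center X := by
  classical
  obtain ⟨n, hn⟩ := hX.nilpotent'
  have key : ∀ k : ℕ, ∀ z ∈ N, z ≠ 1 → z ∈ Subgroup.upperCentralSeries X k →
      ∃ z ∈ N, z ≠ 1 ∧ z ∈ Subgroup.center X := by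
    intro k
    induction k with
    | zero =>
      intro z _ hz1 hz
      simp [Subgroup.upperCentralSeries_zero] at hz
      exact absurd hz hz1
    | succ k ih =>
      intro z hzN hz1 hz
      by_cases hc : ∀ y : X, z * y * z⁻¹ * y⁻¹ = 1
      · refine ⟨z, hzN, hz1, ?_⟩
        rw [Subgroup.mem_center_iff]
        intro y
        have := hc y
        have h2 : z * y * z⁻¹ = y := by
          rwa [mul_inv_eq_one] at this
        rw [mul_inv_eq_iff_eq_mul] at h2
        exact h2.symm
      · push Not at hc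
        obtain ⟨y, hy⟩ := hc
        refine ih _ ?_ hy ((Subgroup.mem_upperCentralSeries_succ_iff (G := X)).mp hz y)
        have h1 : y * z⁻¹ * y⁻¹ ∈ N := hN.conj_mem z⁻¹ (N.inv_mem hzN) y
        have h2 := N.mul_mem hzN h1
        have e : z * y * z⁻¹ * y⁻¹ = z * (y * z⁻¹ * y⁻¹) := by group
        rw [e]
        exact h2
  have hex : ∃ z ∈ N, z ≠ 1 := by
    obtain h | ⟨z, hz, hz1⟩ := Subgroup.bot_or_exists_ne_one N
    · exact absurd h hN1
    · exact ⟨z, hz, hz1⟩
  obtain ⟨z, hz, hz1⟩ := hex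
  exact key n z hz hz1 (by rw [hn]; exact Subgroup.mem_top z)

/-- Data of a Frobenius structure on a solvable CN-group with a normal Sylow subgroup. -/
structure FrobData (X : Type*) [Group X] (T E : Subgroup X) : Prop where
  eq : T = fittingHall X
  normal : T.Normal
  ne_bot : T ≠ ⊥
  ne_top : T ≠ ⊤
  nil : Group.IsNilpotent T
  cop : (Nat.card T).Coprime T.index
  compl : Subgroup.IsComplement' T E
  frob : IsFrobeniusComplement E
  fpf : ∀ e ∈ E, e ≠ 1 → T ⊓ Subgroup.centralizer ({e} : Set X) = ⊥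
  nilE : Group.IsNilpotent E
  maxnil : ∀ L : Subgroup X, Group.IsNilpotent L → T ≤ L → L = T
  cent : ∀ t ∈ T, t ≠ 1 → Subgroup.centralizer ({t} : Set X) ≤ T

theorem frob_struct (hCN : IsCNGroup X) (hnn : ¬ Group.IsNilpotent X) (p : ℕ) [hp : Fact p.Prime]
    (P : Sylow p X) (hP1 : (P : Subgroup X) ≠ ⊥) (hPn : (P : Subgroup X).Normal) :
    ∃ T E : Subgroup X, FrobData X T E := by
  classical
  obtain ⟨T, E, hTF, hTn, hT1, hTtop, hPT, hTnil, hcop, hE, hfrob, hfpf, hEnil⟩ :=
    structure_of_normal_sylow hCN hnn p P hP1 hPn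
  have hPs := P.isPGroup'
  have hPi := P.not_dvd_index
  obtain ⟨z, hzP, hz1, hzc⟩ := exists_center_mem hPs hP1
  have hTn' : (Subgroup.centralizer ({z} : Set X)).Normal := centralizer_normal hCN hPs hPi hPn hz1 hzP hzc
  have hTnil' : Group.IsNilpotent (Subgroup.centralizer ({z} : Set X)) := hCN z hz1
  have hmax' : ∀ L : Subgroup X, Group.IsNilpotent L → Subgroup.centralizer ({z} : Set X) ≤ L →
      L = Subgroup.centralizer ({z} : Set X) := centralizer_max_nilpotent hPs hPi hPn hzP hzc
  have hcop' := coprime_card_index hCN hTnil' hmax'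
  have hTF' := Cfsg.Agent.Lib.OddOrderCore.le_fittingHall hTn' hTnil' hcop'
  obtain ⟨hFn, hFnil, hFcop⟩ := Cfsg.Agent.Lib.OddOrderCore.fittingHall_mem X
  have hFT := hmax' _ hFnil hTF'
  have hTT : T = Subgroup.centralizer ({z} : Set X) := hTF.trans hFT
  have hmax : ∀ L : Subgroup X, Group.IsNilpotent L → T ≤ L → L = T := by
    rw [hTT]
    exact hmax'
  refine ⟨T, E, ⟨hTF, hTn, hT1, hTtop, hTnil, hcop, hE, hfrob, hfpf, hEnil, hmax, ?_⟩⟩
  intro t ht ht1
  have hti : ∀ g : X, T.map (MulAut.conj g).toMonoidHom ≠ T → T ⊓ T.map (MulAut.conj g).toMonoidHom = ⊥ := by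
    intro g hg
    exfalso
    apply hg
    exact Subgroup.Normal.conj_smul_eq_self g T
  exact centralizer_le_of_ti hCN hTnil hmax hti ht ht1

/-- In odd order the complement is cyclic. -/
theorem FrobData.isCyclic {T E : Subgroup X} (h : FrobData X T E) (hodd : Odd (Nat.card X)) : IsCyclic E := by
  classical
  haveI := h.normal
  have hEN : E ≤ Subgroup.normalizer (T : Set X) := by
    intro e _
    rw [Subgroup.normalizer_eq_top_iff.mpr h.normal]
    exact Subgroup.mem_top e
  rcases cyclic_or_quat_of_nilpotent_fpf h.ne_bot hEN h.fpf h.nilE with h1 | ⟨C, Q, hCQ, -, -, -, n, ⟨e⟩⟩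
  · exact h1
  · exfalso
    have hd : Nat.card Q ∣ Nat.card X := Subgroup.card_subgroup_dvd_card Q
    have hc : Nat.card Q = 4 * 2 ^ n := by
      rw [Nat.card_congr e.toEquiv]
      haveI : NeZero (2 ^ n) := ⟨by positivity⟩
      rw [Nat.card_eq_fintype_card]
      exact QuaternionGroup.card
    rw [hc] at hd
    have h2 : 2 ∣ Nat.card X := (by norm_num : 2 ∣ 4).trans ((Dvd.intro _ rfl : 4 ∣ 4 * 2 ^ n).trans hd)
    exact (Nat.not_even_iff_odd.mpr hodd) (even_iff_two_dvd.mpr h2)

/-- A nilpotent group is not three-step. -/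
theorem not_threeStep_of_nilpotent (hX : Group.IsNilpotent X) (p : ℕ) : ¬ IsThreeStepGroup p X := by
  classical
  rintro ⟨hQ, A, hA1, hAc, hAo, hAp, hQAn, hQAt, ⟨n, hn⟩, hfpf, hout⟩
  obtain ⟨z, hz, hz1, hzc⟩ := exists_center_of_normal hX (pCore p X) hQ
  obtain h | ⟨a, ha, ha1⟩ := Subgroup.bot_or_exists_ne_one A
  · exact hA1 h
  have hm : z ∈ pCore p X ⊓ Subgroup.centralizer ({a} : Set X) :=
    ⟨hz, Subgroup.mem_centralizer_singleton_iff.mpr (Subgroup.mem_center_iff.mp hzc a).symm⟩
  rw [hfpf a ha ha1, Subgroup.mem_bot] at hm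
  exact hz1 hm

/-- A Frobenius group with abelian complement is not three-step. -/
theorem not_threeStep_of_frob {T E : Subgroup X} (h : FrobData X T E) (hEc : IsCyclic E) (p : ℕ) :
    ¬ IsThreeStepGroup p X := by
  classical
  rintro ⟨hQ, A, hA1, hAc, hAo, hAp, hQAn, hQAt, ⟨n, hn⟩, hfpf, hout⟩
  set Q := pCore p X with hQdef
  haveI hQn : Q.Normal := inferInstance
  haveI hTn : T.Normal := h.normal
  obtain hA0 | ⟨a, ha, ha1⟩ := Subgroup.bot_or_exists_ne_one A
  · exact hA1 hA0
  -- `X / T` is abelian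
  have hsup : T ⊔ E = ⊤ := h.compl.sup_eq_top
  have hcomm : ∀ x y : X, x * y * x⁻¹ * y⁻¹ ∈ T := by
    intro x y
    obtain ⟨t, ht, e, he, rfl⟩ := Cfsg.Agent.Lib.FrobPair.exists_decomp T E hsup x
    obtain ⟨t', ht', e', he', rfl⟩ := Cfsg.Agent.Lib.FrobPair.exists_decomp T E hsup y
    rw [← QuotientGroup.eq_one_iff]
    have h1 : ((t : X) : X ⧸ T) = 1 := (QuotientGroup.eq_one_iff _).mpr ht
    have h2 : ((t' : X) : X ⧸ T) = 1 := (QuotientGroup.eq_one_iff _).mpr ht'
    have hee : e * e' = e' * e := by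
      letI : CommGroup E := IsCyclic.commGroup
      have := mul_comm (⟨e, he⟩ : E) ⟨e', he'⟩
      exact congrArg Subtype.val this
    simp only [QuotientGroup.mk_mul, QuotientGroup.mk_inv, h1, h2, one_mul, mul_inv_rev, inv_one, mul_one]
    rw [← QuotientGroup.mk_mul, hee]
    simp
  -- `Q ⊓ T ≠ 1`
  have hQT : ∃ z ∈ Q, z ∈ T ∧ z ≠ 1 := by
    by_contra hno
    push Not at hno
    have hdisj : Q ⊓ T = ⊥ := by
      rw [eq_bot_iff]
      intro y hy
      exact Subgroup.mem_bot.mpr (hno y hy.1 hy.2)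
    obtain hq0 | ⟨q, hq, hq1⟩ := Subgroup.bot_or_exists_ne_one Q
    · exact hQ hq0
    obtain ht0 | ⟨t, ht, ht1⟩ := Subgroup.bot_or_exists_ne_one T
    · exact h.ne_bot ht0
    have hc := Subgroup.commute_of_normal_of_disjoint Q T hQn hTn
      (by rw [disjoint_iff]; exact hdisj) q t hq ht
    have hqT : q ∈ T := h.cent t ht ht1 (Subgroup.mem_centralizer_singleton_iff.mpr hc)
    exact hq1 (hno q hq hqT)
  obtain ⟨z₀, hz₀Q, hz₀T, hz₀1⟩ := hQT
  -- `A ⊓ T = 1`
  have hAT : ∀ b ∈ A, b ∈ T → b = 1 := by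
    intro b hbA hbT
    by_contra hb1
    haveI := h.nil
    haveI hQ'n : (Q.subgroupOf T).Normal := Subgroup.Normal.subgroupOf hQn T
    have hne : Q.subgroupOf T ≠ ⊥ := by
      intro hb
      have : (⟨z₀, hz₀T⟩ : T) ∈ Q.subgroupOf T := Subgroup.mem_subgroupOf.mpr hz₀Q
      rw [hb, Subgroup.mem_bot] at this
      exact hz₀1 (congrArg Subtype.val this)
    obtain ⟨w, hw, hw1, hwc⟩ := exists_center_of_normal h.nil (Q.subgroupOf T) hne
    have hwb : (b : X) * (w : X) = (w : X) * b := by
      have := Subgroup.mem_center_iff.mp hwc ⟨b, hbT⟩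
      exact congrArg Subtype.val this
    have hm : (w : X) ∈ Q ⊓ Subgroup.centralizer ({b} : Set X) :=
      ⟨Subgroup.mem_subgroupOf.mp hw, Subgroup.mem_centralizer_singleton_iff.mpr hwb.symm⟩
    rw [hfpf b hbA hb1, Subgroup.mem_bot] at hm
    exact hw1 (Subtype.ext hm)
  -- coprimality of `A` and `T`
  have hcop : (Nat.card A).Coprime (Nat.card T) := by
    apply Nat.coprime_of_dvd
    intro s hs hsA hsT
    haveI : Fact s.Prime := ⟨hs⟩
    obtain ⟨b, hb⟩ := exists_prime_orderOf_dvd_card' (G := A) s hsA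
    have hb' : orderOf ((b : X)) = s := by rw [Subgroup.orderOf_coe]; exact hb
    have h1 : orderOf (QuotientGroup.mk' T (b : X)) ∣ s := by
      rw [← hb']
      exact orderOf_map_dvd _ _
    have h2 : orderOf (QuotientGroup.mk' T (b : X)) ∣ T.index := orderOf_dvd_natCard _
    have hsi : ¬ s ∣ T.index := fun hi => hs.one_lt.ne' (Nat.eq_one_of_dvd_coprimes h.cop hsT hi)
    have h3 : orderOf (QuotientGroup.mk' T (b : X)) = 1 := by
      rcases (Nat.dvd_prime hs).mp h1 with h4 | h4
      · exact h4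
      · rw [h4] at h2
        exact absurd h2 hsi
    have h5 : (b : X) ∈ T := (QuotientGroup.eq_one_iff _).mp (orderOf_eq_one_iff.mp h3)
    have h6 := hAT b b.2 h5
    rw [h6, orderOf_one] at hb'
    exact hs.one_lt.ne hb'
  -- elements of `T ⊓ (Q ⊔ A)` lie in `Q`
  have hTQ : ∀ c ∈ T, c ∈ Q ⊔ A → c ∈ Q := by
    intro c hcT hcL
    obtain ⟨q, hq, b, hb, rfl⟩ := Subgroup.mem_sup_of_normal_left.mp hcL
    have h1 : orderOf (QuotientGroup.mk' Q (q * b)) ∣ Nat.card T :=
      (orderOf_map_dvd _ _).trans (Subgroup.orderOf_dvd_natCard T hcT)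
    have h2 : QuotientGroup.mk' Q (q * b) = QuotientGroup.mk' Q b := by
      rw [map_mul]
      have : QuotientGroup.mk' Q q = 1 := (QuotientGroup.eq_one_iff _).mpr hq
      rw [this, one_mul]
    have h3 : orderOf (QuotientGroup.mk' Q (q * b)) ∣ Nat.card A := by
      rw [h2]
      exact (orderOf_map_dvd _ _).trans (Subgroup.orderOf_dvd_natCard A hb)
    have h4 := Nat.eq_one_of_dvd_coprimes hcop h3 h1
    exact (QuotientGroup.eq_one_iff _).mp (orderOf_eq_one_iff.mp h4)
  -- `T ≤ Q`
  have hTleQ : T ≤ Q := by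
    intro t ht
    refine hTQ t ht ?_
    by_contra hout'
    apply hout t hout' a ha ha1
    refine hTQ _ ?_ ?_
    · have h1 : a * t⁻¹ * a⁻¹ ∈ T := hTn.conj_mem t⁻¹ (T.inv_mem ht) a
      have e : t * a * t⁻¹ * a⁻¹ = t * (a * t⁻¹ * a⁻¹) := by group
      rw [e]
      exact T.mul_mem ht h1
    · haveI : (Q ⊔ A).Normal := hQAn
      have h1 : t * a * t⁻¹ ∈ Q ⊔ A := (inferInstance : (Q ⊔ A).Normal).conj_mem a (le_sup_right (a := Q) ha) t
      exact (Q ⊔ A).mul_mem h1 ((Q ⊔ A).inv_mem (le_sup_right (a := Q) ha))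
  -- final contradiction
  obtain ⟨x, hx⟩ : ∃ x, x ∉ Q ⊔ A := by
    by_contra hno
    push Not at hno
    exact hQAt (eq_top_iff.mpr (fun x _ => hno x))
  exact hout x hx a ha ha1 (hTleQ (hcomm x a))

end Frob

section Main

variable {G : Type u} [Group G] [Finite G]

theorem sup_comm_ne_top {X : Type*} [Group X] (L : Subgroup X) [L.Normal] (hL : L ≠ ⊤)
    (hs : Group.IsSolvable (X ⧸ L)) : L ⊔ commutator X ≠ ⊤ := by
  intro htop
  have hnt : Nontrivial (X ⧸ L) := QuotientGroup.nontrivial_iff.mpr hL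
  have h1 := Group.IsSolvable.commutator_lt_top_of_nontrivial (X ⧸ L)
  have h2 : (commutator X).map (QuotientGroup.mk' L) = ⊤ := by
    have h3 := congrArg (Subgroup.map (QuotientGroup.mk' L)) htop
    rw [Subgroup.map_sup, QuotientGroup.map_mk'_self, bot_sup_eq,
      Subgroup.map_top_of_surjective _ (QuotientGroup.mk'_surjective L)] at h3
    exact h3
  rw [commutator_def, Subgroup.map_commutator,
    Subgroup.map_top_of_surjective _ (QuotientGroup.mk'_surjective L)] at h2
  rw [commutator_def, h2] at h1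
  exact lt_irrefl _ h1

/-- The main case: no proper subgroup is three-step with respect to a prime. -/
theorem no_threeStep_prime (hG : IsMinSimpleOddOrder G) (hCN : IsCNGroup G) (hU : UT G) {H : Subgroup G}
    (hH : H ≠ ⊤) {p : ℕ} [hp : Fact p.Prime] (h : IsThreeStepGroup p H) : False := by
  classical
  have hsolv : Group.IsSolvable H := IsMin.solvable hG hH
  have hodd : Odd (Nat.card H) := odd_card_of_le hG H
  have hr := threeStep_not_prank hodd h
  obtain ⟨M, ⟨hM, hHM⟩, -⟩ := hU H hH (not_rankLE_one hp.out hr) (Or.inl (not_rankLE_two hp.out hr))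
  have hrM : ¬ PRankLE p 2 M := by
    intro h2
    apply hr
    rw [prankLE_iff] at h2 ⊢
    intro A hAH
    exact h2 A (hAH.trans hHM)
  have hα : p ∈ alpha M := ⟨hp.out, hrM⟩
  have hσ := alpha_sub_sigma hG hU hM hα
  have hPL : ¬ PLengthLE p 1 M := by
    intro hl
    apply threeStep_not_pLength h
    have h1 := pLengthLE_subgroup p hl (H.subgroupOf M)
    exact pLengthLE_of_surjective p (Subgroup.subgroupOfEquivOfLe hHM).toMonoidHom
      (Subgroup.subgroupOfEquivOfLe hHM).surjective h1
  have hMne : M ≠ ⊤ := hM.1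
  haveI hMs : Group.IsSolvable M := IsMin.solvable hG hMne
  have hMCN := isCN_subgroup hCN M
  by_cases hnil : Group.IsNilpotent M
  · exact hPL (pLength_of_nilpotent hnil)
  rcases trichotomy hMCN with h1 | ⟨r, hr', P, hP1, hPn⟩ | ⟨q, hq, h3⟩
  · exact hnil h1
  · obtain ⟨T, E, hd⟩ := frob_struct hMCN hnil r P hP1 hPn
    haveI := hd.normal
    exact hPL (pLength_of_nil_nil T hd.nil
      (by
        haveI := hd.nilE
        exact Group.nilpotent_of_mulEquiv (hd.compl.symm.QuotientMulEquiv).symm) hd.cop)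
  · haveI : Fact q.Prime := ⟨hq⟩
    by_cases hqp : q = p
    · subst hqp
      obtain ⟨hQ, A, hA1, hAc, hAo, hAp, hQAn, hQAt, ⟨n, hn⟩, hfpf, hout⟩ := h3
      set L := pCore q M ⊔ A with hL
      haveI : L.Normal := hQAn
      obtain ⟨S⟩ : Nonempty (Sylow q M) := inferInstance
      have hS := sylow_le_derived hG hU hM hσ (isSylowIn_map S)
      have hS' : (S : Subgroup M) ≤ commutator M :=
        (Subgroup.map_le_map_iff_of_injective M.subtype_injective).mp hS
      have hsup : (S : Subgroup M) ⊔ L = ⊤ := by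
        have h1 : (((S : Subgroup M) ⊔ L).index) ∣ q ^ n := by
          rw [← hn]
          exact Subgroup.index_dvd_of_le le_sup_right
        have h2 : (((S : Subgroup M) ⊔ L).index) ∣ (S : Subgroup M).index :=
          Subgroup.index_dvd_of_le le_sup_left
        have h3 : Nat.Coprime (q ^ n) (S : Subgroup M).index :=
          Nat.Coprime.pow_left _ ((Nat.Prime.coprime_iff_not_dvd hq).mpr S.not_dvd_index)
        exact Subgroup.index_eq_one.mp (Nat.eq_one_of_dvd_coprimes h3 h1 h2)
      apply sup_comm_ne_top L hQAt inferInstance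
      rw [eq_top_iff, ← hsup, sup_comm]
      exact sup_le_sup_left hS' L
    · exact hPL (pLength_of_threeStep hqp h3)

/-- **S1478**, with the Uniqueness Theorem as a hypothesis. -/
theorem s1478 (hG : IsMinSimpleOddOrder G) (hCN : IsCNGroup G) (hU : UT G) (H : Subgroup G) (p : ℕ) :
    ¬ IsThreeStepGroup p H := by
  classical
  by_cases hH : H = ⊤
  · subst hH
    rintro ⟨hQ, A, hA1, hAc, hAo, hAp, hQAn, hQAt, -⟩
    haveI : IsSimpleGroup G := hG.2.1
    haveI : IsSimpleGroup (⊤ : Subgroup G) := (Subgroup.topEquiv (G := G)).isSimpleGroup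
    rcases (inferInstance : (pCore p (⊤ : Subgroup G)).Normal).eq_bot_or_eq_top with h1 | h1
    · exact hQ h1
    · rw [h1] at hQAt
      exact hQAt (top_sup_eq A)
  · intro h
    haveI hHs : Group.IsSolvable H := IsMin.solvable hG hH
    have hHCN := isCN_subgroup hCN H
    have hodd : Odd (Nat.card H) := odd_card_of_le hG H
    by_cases hnil : Group.IsNilpotent H
    · exact not_threeStep_of_nilpotent hnil p h
    rcases trichotomy hHCN with h1 | ⟨r, hr', P, hP1, hPn⟩ | ⟨q, hq, h3⟩
    · exact hnil h1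
    · obtain ⟨T, E, hd⟩ := frob_struct hHCN hnil r P hP1 hPn
      exact not_threeStep_of_frob hd (hd.isCyclic hodd) p h
    · haveI : Fact q.Prime := ⟨hq⟩
      exact no_threeStep_prime hG hCN hU hH h3

end Main

end Cfsg.Agent.Lib.BGCN
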