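import Mathlib
import Cfsg.Agent.Lib.BGCN
import Cfsg.Agent.Lib.BGSigma4
import Cfsg.Agent.Lib.PResid

/-!
# Minimal simple CN-groups of odd order: structure of maximal subgroups

Everything here is conditional on the absence of three-step subgroups (`hNT`).
-/

set_option autoImplicit false
set_option linter.unusedSectionVars false
set_option linter.unusedVariables false
set_option linter.style.haveILetI false
set_option linter.unusedSimpArgs false

namespace Cfsg.Agent.Lib.BGCN2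

open Cfsg Cfsg.Agent.Lib.PCore Cfsg.Agent.Lib.CoprimeInv Cfsg.Agent.Lib.BGTrans Cfsg.Agent.Lib.BGSigma
  Cfsg.Agent.Lib.BGSigma2 Cfsg.Agent.Lib.CNGroup Cfsg.Agent.Lib.CNMaxNil Cfsg.Agent.Lib.CNFrob
  Cfsg.Agent.Lib.CNSolv Cfsg.Agent.Lib.BGCN

open scoped commutatorElement Pointwise

universe u

section General

variable {X : Type*} [Group X] [Finite X]

theorem le_of_normal_sylow {p : ℕ} [Fact p.Prime] (P : Sylow p X) (hn : (P : Subgroup X).Normal)
    {Y : Subgroup X} (hY : IsPGroup p Y) : Y ≤ P := by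
  obtain ⟨Q, hQ⟩ := hY.exists_le_sylow
  letI := Sylow.unique_of_normal P hn
  rwa [Subsingleton.elim Q P] at hQ

theorem exists_normal_sylow_of_hall {T : Subgroup X} [hTn : T.Normal] (hT : Group.IsNilpotent T)
    (hc : (Nat.card T).Coprime T.index) {p : ℕ} [Fact p.Prime] (hp : p ∣ Nat.card T) :
    ∃ P : Sylow p X, (P : Subgroup X).Normal := by
  obtain ⟨P⟩ := (inferInstance : Nonempty (Sylow p T))
  let Q : Subgroup X := (P : Subgroup T).map T.subtype
  have hQp : IsPGroup p Q := P.isPGroup'.map T.subtype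
  have hTi : ¬ p ∣ T.index := fun hi =>
    (Fact.out : p.Prime).one_lt.ne' (Nat.eq_one_of_dvd_coprimes hc hp hi)
  have hQi : ¬ p ∣ Q.index := not_dvd_index_map P hTi
  have hN' := (Group.isNilpotent_of_finite_tfae (G := T)).out 0 3 rfl rfl
  have hPn : (P : Subgroup T).Normal := hN'.1 hT p inferInstance P
  haveI hPc : (P : Subgroup T).Characteristic := Sylow.characteristic_of_normal P hPn
  have hQn : Q.Normal := ConjAct.normal_of_characteristic_of_normal
  exact ⟨hQp.toSylow hQi, hQn⟩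

theorem nilpotent_of_comm {Y : Type*} [Group Y] (h : ∀ a b : Y, a * b = b * a) : Group.IsNilpotent Y := by
  letI : CommGroup Y := { (inferInstance : Group Y) with mul_comm := h }
  exact inferInstance

theorem frob_comm_mem {T E : Subgroup X} (h : FrobData X T E) (hEc : IsCyclic E) (x y : X) :
    x * y * x⁻¹ * y⁻¹ ∈ T := by
  haveI hTn : T.Normal := h.normal
  have hsup : T ⊔ E = ⊤ := h.compl.sup_eq_top
  obtain ⟨t, ht, e, he, rfl⟩ := Cfsg.Agent.Lib.FrobPair.exists_decomp T E hsup x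
  obtain ⟨t', ht', e', he', rfl⟩ := Cfsg.Agent.Lib.FrobPair.exists_decomp T E hsup y
  rw [← QuotientGroup.eq_one_iff]
  have h1 : ((t : X) : X ⧸ T) = 1 := (QuotientGroup.eq_one_iff _).mpr ht
  have h2 : ((t' : X) : X ⧸ T) = 1 := (QuotientGroup.eq_one_iff _).mpr ht'
  have hee : e * e' = e' * e := by
    letI : CommGroup E := IsCyclic.commGroup
    have := mul_comm (⟨e, he⟩ : E) ⟨e', he'⟩
    exact congrArg Subtype.val this
  simp only [QuotientGroup.mk_mul, QuotientGroup.mk_inv, h1, h2, one_mul, mul_inv_rev, inv_one, mul_one]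
  rw [← QuotientGroup.mk_mul, hee]
  simp

/-- The normalizer of a subgroup meeting `T` trivially meets `T` trivially and is abelian. -/
theorem frob_eq_one_of_normalizer {T E : Subgroup X} (h : FrobData X T E) {D : Subgroup X}
    (hD1 : D ≠ ⊥) (hDT : D ⊓ T = ⊥) {t : X} (ht : t ∈ T) (htN : t ∈ Subgroup.normalizer (D : Set X)) :
    t = 1 := by
  haveI hTn : T.Normal := h.normal
  by_contra ht1
  obtain hb | ⟨d, hd, hd1⟩ := Subgroup.bot_or_exists_ne_one D
  · exact hD1 hb
  have h1 : t * d * t⁻¹ ∈ D := (Subgroup.mem_normalizer_iff.mp htN d).mp hd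
  have h2 : t * d * t⁻¹ * d⁻¹ ∈ D := D.mul_mem h1 (D.inv_mem hd)
  have h3 : t * d * t⁻¹ * d⁻¹ ∈ T := by
    have h4 : d * t⁻¹ * d⁻¹ ∈ T := hTn.conj_mem t⁻¹ (T.inv_mem ht) d
    have e : t * d * t⁻¹ * d⁻¹ = t * (d * t⁻¹ * d⁻¹) := by group
    rw [e]
    exact T.mul_mem ht h4
  have h5 : t * d * t⁻¹ * d⁻¹ ∈ D ⊓ T := ⟨h2, h3⟩
  rw [hDT, Subgroup.mem_bot] at h5
  have h6 : d * t = t * d := by
    have h7 : t * d * t⁻¹ = d := by rwa [mul_inv_eq_one] at h5
    rw [mul_inv_eq_iff_eq_mul] at h7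
    exact h7.symm
  have hdT : d ∈ T := h.cent t ht ht1 (Subgroup.mem_centralizer_singleton_iff.mpr h6)
  have h8 : d ∈ D ⊓ T := ⟨hd, hdT⟩
  rw [hDT, Subgroup.mem_bot] at h8
  exact hd1 h8

theorem frob_comm_of_normalizer {T E : Subgroup X} (h : FrobData X T E) (hEc : IsCyclic E)
    {D : Subgroup X} (hD1 : D ≠ ⊥) (hDT : D ⊓ T = ⊥) {a b : X} (ha : a ∈ Subgroup.normalizer (D : Set X))
    (hb : b ∈ Subgroup.normalizer (D : Set X)) : a * b = b * a := by
  have h1 := frob_eq_one_of_normalizer h hD1 hDT (frob_comm_mem h hEc a b)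
    (Subgroup.mul_mem _ (Subgroup.mul_mem _ (Subgroup.mul_mem _ ha hb) (Subgroup.inv_mem _ ha))
      (Subgroup.inv_mem _ hb))
  have h7 : a * b * a⁻¹ = b := by rwa [mul_inv_eq_one] at h1
  rw [mul_inv_eq_iff_eq_mul] at h7
  exact h7

end General

variable {G : Type u} [Group G] [Finite G]

theorem mem_normalizer_subgroupOf {M D : Subgroup G} {a : M} (ha : (a : G) ∈ Subgroup.normalizer (D : Set G)) :
    a ∈ Subgroup.normalizer ((D.subgroupOf M : Subgroup M) : Set M) := by
  rw [Subgroup.mem_normalizer_iff]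
  intro h
  rw [Subgroup.mem_subgroupOf, Subgroup.mem_subgroupOf]
  exact (Subgroup.mem_normalizer_iff.mp ha (h : G))

section Main

variable (hG : IsMinSimpleOddOrder G) (hCN : IsCNGroup G)
  (hNT : ∀ (H : Subgroup G) (p : ℕ), ¬ IsThreeStepGroup p H)

include hG hCN hNT

/-- Maximal subgroups: nilpotent or Frobenius. -/
theorem coatom_cases {M : Subgroup G} (hM : IsCoatom M) :
    Group.IsNilpotent M ∨ ∃ T E : Subgroup M, FrobData M T E ∧ IsCyclic E := by
  classical
  haveI hMs : Group.IsSolvable M := IsMin.solvable hG hM.1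
  have hMCN := isCN_subgroup hCN M
  by_cases hnil : Group.IsNilpotent M
  · exact Or.inl hnil
  right
  rcases trichotomy hMCN with h1 | ⟨r, hr', P, hP1, hPn⟩ | ⟨q, hq, h3⟩
  · exact absurd h1 hnil
  · obtain ⟨T, E, hd⟩ := frob_struct hMCN hnil r P hP1 hPn
    exact ⟨T, E, hd, hd.isCyclic (odd_card_of_le hG M)⟩
  · exact absurd h3 (hNT M q)

/-- Two `p`-subgroups of the normalizer of a nontrivial `p`-subgroup lie in a common `p`-subgroup. -/
theorem pgroup_of_local {p : ℕ} [hp : Fact p.Prime] {D Y₁ Y₂ : Subgroup G} (hD : IsPGroup p D) (hD1 : D ≠ ⊥)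
    (hY₁ : IsPGroup p Y₁) (hY₂ : IsPGroup p Y₂) (h₁ : Y₁ ≤ Subgroup.normalizer (D : Set G))
    (h₂ : Y₂ ≤ Subgroup.normalizer (D : Set G)) : ∃ S : Subgroup G, IsPGroup p S ∧ Y₁ ≤ S ∧ Y₂ ≤ S := by
  classical
  have hN : Subgroup.normalizer (D : Set G) ≠ ⊤ :=
    IsMin.normalizer_ne_top hG hD1 (IsMin.isPGroup_ne_top hG hD)
  obtain ⟨M, hM, hNM⟩ := exists_coatom_ge hN
  have hY₁M : Y₁ ≤ M := h₁.trans hNM
  have hY₂M : Y₂ ≤ M := h₂.trans hNM
  have hDM : D ≤ M := Subgroup.le_normalizer.trans hNM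
  have hsyl : (∃ P : Sylow p M, (P : Subgroup M).Normal) → ∃ S : Subgroup G, IsPGroup p S ∧ Y₁ ≤ S ∧ Y₂ ≤ S := by
    rintro ⟨P, hPn⟩
    refine ⟨(P : Subgroup M).map M.subtype, P.isPGroup'.map M.subtype, ?_, ?_⟩
    · intro y hy
      have h1 : IsPGroup p (Y₁.subgroupOf M) := hY₁.comap_of_injective M.subtype M.subtype_injective
      have h2 := le_of_normal_sylow P hPn h1
      exact ⟨⟨y, hY₁M hy⟩, h2 (Subgroup.mem_subgroupOf.mpr hy), rfl⟩
    · intro y hy
      have h1 : IsPGroup p (Y₂.subgroupOf M) := hY₂.comap_of_injective M.subtype M.subtype_injective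
      have h2 := le_of_normal_sylow P hPn h1
      exact ⟨⟨y, hY₂M hy⟩, h2 (Subgroup.mem_subgroupOf.mpr hy), rfl⟩
  rcases coatom_cases hG hCN hNT hM with hnil | ⟨T, E, hd, hEc⟩
  · obtain ⟨P⟩ : Nonempty (Sylow p M) := inferInstance
    have hN' := (Group.isNilpotent_of_finite_tfae (G := M)).out 0 3 rfl rfl
    exact hsyl ⟨P, hN'.1 hnil p inferInstance P⟩
  · haveI := hd.normal
    by_cases hpT : p ∣ Nat.card T
    · exact hsyl (exists_normal_sylow_of_hall hd.nil hd.cop hpT)
    · have hD' : D.subgroupOf M ≠ ⊥ := by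
        intro hb
        apply hD1
        rw [eq_bot_iff]
        intro x hx
        have : (⟨x, hDM hx⟩ : M) ∈ D.subgroupOf M := Subgroup.mem_subgroupOf.mpr hx
        rw [hb, Subgroup.mem_bot] at this
        exact Subgroup.mem_bot.mpr (congrArg Subtype.val this)
      have hDT : D.subgroupOf M ⊓ T = ⊥ := by
        rw [eq_bot_iff]
        intro x hx
        have h1 : orderOf x ∣ Nat.card T := Subgroup.orderOf_dvd_natCard T hx.2
        have hDp : IsPGroup p (D.subgroupOf M) := hD.comap_of_injective M.subtype M.subtype_injective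
        obtain ⟨k, hk⟩ := IsPGroup.iff_card.mp hDp
        have h2 : orderOf x ∣ p ^ k := by
          rw [← hk]
          exact Subgroup.orderOf_dvd_natCard _ hx.1
        have hc : Nat.Coprime (Nat.card T) (p ^ k) :=
          Nat.Coprime.pow_right _ (((Nat.Prime.coprime_iff_not_dvd hp.out).mpr hpT).symm)
        exact Subgroup.mem_bot.mpr (orderOf_eq_one_iff.mp (Nat.eq_one_of_dvd_coprimes hc h1 h2))
      have hcomm : ∀ a ∈ Y₁, ∀ b ∈ Y₂, a * b = b * a := by
        intro a ha b hb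
        have := frob_comm_of_normalizer hd hEc hD' hDT (a := ⟨a, hY₁M ha⟩) (b := ⟨b, hY₂M hb⟩)
          (mem_normalizer_subgroupOf (h₁ ha)) (mem_normalizer_subgroupOf (h₂ hb))
        exact congrArg Subtype.val this
      refine ⟨Y₁ ⊔ Y₂, ?_, le_sup_left, le_sup_right⟩
      refine IsPGroup.to_sup_of_normal_right' hY₁ hY₂ ?_
      intro a ha
      rw [Subgroup.mem_normalizer_iff]
      intro b
      constructor
      · intro hb
        rw [hcomm a ha b hb]
        simpa using hb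
      · intro hb
        have h1 := hcomm a⁻¹ (Y₁.inv_mem ha) _ hb
        have e : b = a * b * a⁻¹ := by
          calc b = a⁻¹ * (a * b * a⁻¹) * a := by group
            _ = (a * b * a⁻¹) * a⁻¹ * a := by rw [h1]
            _ = a * b * a⁻¹ := by group
        rw [e]
        exact hb

/-- Sylow subgroups of `G` are TI. -/
theorem sylow_ti {p : ℕ} [hp : Fact p.Prime] (P₁ P₂ : Sylow p G) (h : (P₁ : Subgroup G) ⊓ P₂ ≠ ⊥) :
    P₁ = P₂ := by
  classical
  by_contra hne
  let Ω : Set (Sylow p G × Sylow p G) :=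
    {q | q.1 ≠ q.2 ∧ (q.1 : Subgroup G) ⊓ q.2 ≠ ⊥}
  obtain ⟨⟨A, B⟩, ⟨hAB, hbot⟩, hmax⟩ := Set.exists_max_image Ω
    (fun q => Nat.card ((q.1 : Subgroup G) ⊓ q.2 : Subgroup G)) (Set.toFinite _) ⟨(P₁, P₂), hne, h⟩
  dsimp only at hAB hbot hmax
  set D : Subgroup G := (A : Subgroup G) ⊓ B with hD
  have hDA : D ≤ A := inf_le_left
  have hDB : D ≤ B := inf_le_right
  have hDp : IsPGroup p D := A.isPGroup'.to_le hDA
  have hltA : D < A := by
    refine lt_of_le_of_ne hDA ?_
    intro he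
    have hle : (A : Subgroup G) ≤ B := by rw [← he]; exact hDB
    exact hAB (Sylow.ext (A.is_maximal' B.isPGroup' hle).symm)
  have hltB : D < B := by
    refine lt_of_le_of_ne hDB ?_
    intro he
    have hle : (B : Subgroup G) ≤ A := by rw [← he]; exact hDA
    exact hAB (Sylow.ext (B.is_maximal' A.isPGroup' hle))
  obtain ⟨a, haA, haD, haN⟩ := exists_mem_normalizer_of_lt A.isPGroup' hltA
  obtain ⟨b, hbB, hbD, hbN⟩ := exists_mem_normalizer_of_lt B.isPGroup' hltB
  obtain ⟨S, hSp, hS₁, hS₂⟩ := pgroup_of_local hG hCN hNT hDp hbot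
    (A.isPGroup'.to_le (inf_le_left : (A : Subgroup G) ⊓ Subgroup.normalizer (D : Set G) ≤ A))
    (B.isPGroup'.to_le (inf_le_left : (B : Subgroup G) ⊓ Subgroup.normalizer (D : Set G) ≤ B))
    inf_le_right inf_le_right
  obtain ⟨C, hC⟩ := hSp.exists_le_sylow
  have hDC : D ≤ C := by
    intro x hx
    exact hC (hS₁ ⟨hDA hx, Subgroup.le_normalizer hx⟩)
  have hkey : ∀ A' : Sylow p G, D ≤ A' → (∃ x ∈ (A' : Subgroup G), x ∉ D ∧ x ∈ (C : Subgroup G)) → A' ≠ C →
      False := by
    intro A' hDA' ⟨x, hxA', hxD, hxC⟩ hne'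
    have hm := hmax (A', C) ⟨hne', by
      dsimp only
      intro hb
      apply hbot
      rw [eq_bot_iff, ← hb]
      exact le_inf hDA' hDC⟩
    dsimp only at hm
    have hlt : D < (A' : Subgroup G) ⊓ C := by
      refine lt_of_le_of_ne (le_inf hDA' hDC) ?_
      intro he
      apply hxD
      rw [he]
      exact ⟨hxA', hxC⟩
    exact absurd hm (not_le.mpr (card_lt_of_lt' hlt))
  have h1 : A = C := by
    by_contra hAC
    exact hkey A hDA ⟨a, haA, haD, hC (hS₁ ⟨haA, haN⟩)⟩ hAC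
  have h2 : B = C := by
    by_contra hBC
    exact hkey B hDB ⟨b, hbB, hbD, hC (hS₂ ⟨hbB, hbN⟩)⟩ hBC
  exact hAB (h1.trans h2.symm)

/-- A nontrivial Sylow subgroup does not have a nilpotent normalizer. -/
theorem not_nil_normalizer {p : ℕ} [hp : Fact p.Prime] (P : Sylow p G) (hP1 : (P : Subgroup G) ≠ ⊥) :
    ¬ Group.IsNilpotent (Subgroup.normalizer ((P : Subgroup G) : Set G)) := by
  classical
  intro hnil
  have hctl : ∀ x ∈ P, ∀ g : G, g⁻¹ * x * g ∈ P → ∃ t ∈ P, t⁻¹ * x * t = g⁻¹ * x * g := by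
    intro x hx g hxg
    by_cases hx1 : x = 1
    · exact ⟨1, (P : Subgroup G).one_mem, by simp [hx1]⟩
    -- `g` normalizes `P`
    have hg : g ∈ Subgroup.normalizer ((P : Subgroup G) : Set G) := by
      have h1 : (P : Subgroup G) ⊓ ((g⁻¹ • P : Sylow p G) : Subgroup G) ≠ ⊥ := by
        intro hb
        have hm : g⁻¹ * x * g ∈ (P : Subgroup G) ⊓ ((g⁻¹ • P : Sylow p G) : Subgroup G) := by
          refine ⟨hxg, ?_⟩
          show g⁻¹ * x * g ∈ MulAut.conj g⁻¹ • (P : Subgroup G)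
          rw [mem_conj_smul_iff]
          have e : g⁻¹⁻¹ * (g⁻¹ * x * g) * g⁻¹ = x := by group
          rw [e]
          exact hx
        rw [hb, Subgroup.mem_bot] at hm
        apply hx1
        have h3 : g * (g⁻¹ * x * g) * g⁻¹ = x := by group
        rw [← h3, hm]
        group
      have h2 := sylow_ti hG hCN hNT P (g⁻¹ • P) h1
      rw [Subgroup.mem_normalizer_iff]
      intro h
      have h4 : h ∈ (P : Subgroup G) ↔ h ∈ ((g⁻¹ • P : Sylow p G) : Subgroup G) := by rw [← h2]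
      rw [h4]
      show h ∈ MulAut.conj g⁻¹ • (P : Subgroup G) ↔ _
      rw [mem_conj_smul_iff]
      simp
    obtain ⟨a, b, rfl, hab, ⟨n, hn⟩, hb, ha, hb'⟩ := Cfsg.Agent.Lib.PResid.exists_decomp (p := p) g
    set W := Subgroup.normalizer ((P : Subgroup G) : Set G) with hW
    have hz : Subgroup.zpowers (a * b) ≤ W := (Subgroup.zpowers_le).mpr hg
    have haW : a ∈ W := hz ha
    have hbW : b ∈ W := hz hb'
    -- `a ∈ P`
    have haP : a ∈ (P : Subgroup G) := by
      have h1 : IsPGroup p (Subgroup.zpowers a) := isPGroup_zpowers_of_pow ⟨n, hn⟩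
      have h2 : Subgroup.zpowers a ≤ Subgroup.normalizer ((P : Subgroup G) : Set G) :=
        (Subgroup.zpowers_le).mpr haW
      have h3 := IsPGroup.to_sup_of_normal_right' h1 P.isPGroup' h2
      have h4 := P.is_maximal' h3 le_sup_right
      have h5 : Subgroup.zpowers a ≤ (P : Subgroup G) := by
        rw [← h4]
        exact le_sup_left
      exact h5 (Subgroup.mem_zpowers a)
    refine ⟨a, haP, ?_⟩
    -- `b` commutes with the `p`-element `a⁻¹ x a`
    set y := a⁻¹ * x * a with hy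
    have hyP : y ∈ (P : Subgroup G) := by
      have := (P : Subgroup G).mul_mem ((P : Subgroup G).mul_mem ((P : Subgroup G).inv_mem haP) hx) haP
      exact this
    have hyW : y ∈ W := Subgroup.le_normalizer hyP
    obtain ⟨k, hk⟩ := P.isPGroup' ⟨y, hyP⟩
    have hyk : y ^ p ^ k = 1 := by simpa using congrArg Subtype.val hk
    haveI := hnil
    have hc := Cfsg.Agent.Lib.PComplement.commute_of_isNilpotent (G := W) (p := p)
      (x := ⟨y, hyW⟩) (g := ⟨b, hbW⟩) ⟨k, Subtype.ext (by simpa using hyk)⟩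
      (by rw [Subgroup.orderOf_mk]; exact hb)
    have hc' : y * b = b * y := congrArg Subtype.val hc
    have e1 : (a * b)⁻¹ * x * (a * b) = b⁻¹ * y * b := by
      rw [hy]
      group
    rw [e1, mul_assoc, hc']
    group
  obtain ⟨N, hNn, hNc⟩ := Cfsg.Agent.Lib.PComplement.exists_complement_of_control P hctl
  rcases IsMin.normal_eq hG hNn with h1 | h1
  · -- `N = 1`, so `P = G`
    rw [h1] at hNc
    have h2 : (P : Subgroup G) = ⊤ := by
      have := hNc.sup_eq_top
      simpa using this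
    exact IsMin.isPGroup_ne_top hG P.isPGroup' h2
  · -- `N = G`, so `P = 1`
    rw [h1] at hNc
    have h2 := hNc.disjoint.eq_bot
    rw [top_inf_eq] at h2
    exact hP1 h2

theorem not_nilpotent_top : ¬ Group.IsNilpotent (⊤ : Subgroup G) := by
  intro h
  have hX : Group.IsNilpotent G := Group.nilpotent_of_mulEquiv (Subgroup.topEquiv (G := G))
  haveI := hG.2.1
  have hnt : Nontrivial G := IsSimpleGroup.toNontrivial
  obtain ⟨z, -, hz1, hzc⟩ := exists_center_of_normal hX (⊤ : Subgroup G) top_ne_bot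
  rw [IsMin.center_eq_bot hG, Subgroup.mem_bot] at hzc
  exact hz1 hzc

/-- Maximal subgroups are not nilpotent. -/
theorem coatom_not_nilpotent {M : Subgroup G} (hM : IsCoatom M) : ¬ Group.IsNilpotent M := by
  classical
  intro hnil
  have hmaxM : ∀ L : Subgroup G, Group.IsNilpotent L → M ≤ L → L = M := by
    intro L hL hML
    by_contra hne
    have h1 := hM.2 L (lt_of_le_of_ne hML (Ne.symm hne))
    rw [h1] at hL
    exact not_nilpotent_top hG hCN hNT hL
  have hM1 : Nat.card M ≠ 1 := by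
    intro h
    exact coatom_ne_bot hG hM (Subgroup.card_eq_one.mp h)
  obtain ⟨p, hp, hpd⟩ := Nat.exists_prime_and_dvd hM1
  haveI : Fact p.Prime := ⟨hp⟩
  obtain ⟨S⟩ : Nonempty (Sylow p M) := inferInstance
  have hN' := (Group.isNilpotent_of_finite_tfae (G := M)).out 0 3 rfl rfl
  have hSn : (S : Subgroup M).Normal := hN'.1 hnil p inferInstance S
  have hi := not_dvd_index hCN hnil hmaxM hpd
  have hPi := not_dvd_index_map S hi
  have hPp : IsPGroup p ((S : Subgroup M).map M.subtype) := S.isPGroup'.map M.subtype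
  have hP1 := map_sylow_ne_bot S hpd
  let P : Sylow p G := hPp.toSylow hPi
  have hPc : (P : Subgroup G) = (S : Subgroup M).map M.subtype := rfl
  have hle : M ≤ Subgroup.normalizer ((P : Subgroup G) : Set G) := by
    intro m hm
    rw [Subgroup.mem_normalizer_iff]
    intro h
    rw [hPc]
    constructor
    · rintro ⟨s, hs, rfl⟩
      exact ⟨⟨m, hm⟩ * s * ⟨m, hm⟩⁻¹, hSn.conj_mem s hs _, rfl⟩
    · rintro ⟨s, hs, hsh⟩
      have e : h = ((⟨m, hm⟩⁻¹ * s * ⟨m, hm⟩ : M) : G) := by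
        show h = m⁻¹ * s * m
        rw [show (s : G) = m * h * m⁻¹ from hsh]
        group
      rw [e]
      refine ⟨⟨m, hm⟩⁻¹ * s * ⟨m, hm⟩, ?_, rfl⟩
      have := hSn.conj_mem s hs (⟨m, hm⟩⁻¹)
      rw [inv_inv] at this
      exact this
  have hne : Subgroup.normalizer ((P : Subgroup G) : Set G) ≠ ⊤ :=
    IsMin.normalizer_ne_top hG hP1 (IsMin.isPGroup_ne_top hG hPp)
  have heq : Subgroup.normalizer ((P : Subgroup G) : Set G) = M := by
    by_contra hn
    exact hne (hM.2 _ (lt_of_le_of_ne hle (Ne.symm hn)))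
  apply not_nil_normalizer hG hCN hNT P hP1
  rw [heq]
  exact hnil

theorem coatom_frob {M : Subgroup G} (hM : IsCoatom M) : ∃ T E : Subgroup M, FrobData M T E ∧ IsCyclic E :=
  (coatom_cases hG hCN hNT hM).resolve_left (coatom_not_nilpotent hG hCN hNT hM)

section MaxNil

variable {H : Subgroup G} (hH : Group.IsNilpotent H)
  (hmax : ∀ L : Subgroup G, Group.IsNilpotent L → H ≤ L → L = H)

include hH hmax

theorem maxnil_ne_bot : H ≠ ⊥ := by
  rintro rfl
  haveI := hG.2.1
  have hnt : Nontrivial G := IsSimpleGroup.toNontrivial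
  obtain ⟨x, hx⟩ := exists_ne (1 : G)
  have h1 := hmax _ (hCN x hx) bot_le
  have h2 : x ∈ Subgroup.centralizer ({x} : Set G) :=
    Subgroup.mem_centralizer_singleton_iff.mpr rfl
  rw [h1, Subgroup.mem_bot] at h2
  exact hx h2

/-- Maximal nilpotent subgroups are TI. -/
theorem maxnil_ti (g : G) (hg : H.map (MulAut.conj g).toMonoidHom ≠ H) :
    H ⊓ H.map (MulAut.conj g).toMonoidHom = ⊥ := by
  classical
  have hH1 : Nat.card H ≠ 1 := fun h => maxnil_ne_bot hG hCN hNT hH hmax (Subgroup.card_eq_one.mp h)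
  by_cases hnp : IsPrimePow (Nat.card H)
  · rw [isPrimePow_nat_iff] at hnp
    obtain ⟨q, k, hq, hk, hqk⟩ := hnp
    haveI : Fact q.Prime := ⟨hq⟩
    have hHq : IsPGroup q H := IsPGroup.iff_card.mpr ⟨k, hqk.symm⟩
    have hqd : q ∣ Nat.card H := by
      rw [← hqk]
      exact dvd_pow_self q hk.ne'
    have hHi := not_dvd_index hCN hH hmax hqd
    let P : Sylow q G := hHq.toSylow hHi
    by_contra hne
    have h2 := sylow_ti hG hCN hNT P (g • P) hne
    apply hg
    have h3 : ((g • P : Sylow q G) : Subgroup G) = H.map (MulAut.conj g).toMonoidHom := rfl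
    have h4 : (P : Subgroup G) = H := rfl
    rw [← h3, ← h2]
    exact h4
  · exact ti_of_not_isPrimePow hCN hH hmax hnp hH1 g hg

/-- A maximal nilpotent subgroup is not self-normalizing. -/
theorem maxnil_not_selfnorm : ¬ Subgroup.normalizer (H : Set G) ≤ H := by
  classical
  intro hN
  have hH0 := maxnil_ne_bot hG hCN hNT hH hmax
  have hH1 : Nat.card H ≠ 1 := fun h => hH0 (Subgroup.card_eq_one.mp h)
  obtain ⟨p, hp, hpd⟩ := Nat.exists_prime_and_dvd hH1
  haveI : Fact p.Prime := ⟨hp⟩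
  obtain ⟨S⟩ : Nonempty (Sylow p H) := inferInstance
  have hi := not_dvd_index hCN hH hmax hpd
  have hPi := not_dvd_index_map S hi
  have hPp : IsPGroup p ((S : Subgroup H).map H.subtype) := S.isPGroup'.map H.subtype
  have hP1 := map_sylow_ne_bot S hpd
  let P : Sylow p G := hPp.toSylow hPi
  have hPc : (P : Subgroup G) = (S : Subgroup H).map H.subtype := rfl
  have hPH : (P : Subgroup G) ≤ H := by
    rw [hPc]
    exact Subgroup.map_subtype_le _
  have hle : Subgroup.normalizer ((P : Subgroup G) : Set G) ≤ H := by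
    intro y hy
    apply hN
    by_contra hyN
    have hne : H.map (MulAut.conj y).toMonoidHom ≠ H := fun he => hyN (by
      rw [Subgroup.mem_normalizer_iff]
      intro h
      constructor
      · intro hh
        rw [← he]
        exact ⟨h, hh, rfl⟩
      · intro hh
        rw [← he] at hh
        obtain ⟨w, hw, hwe⟩ := hh
        have : w = h := by
          have h1 : y * w * y⁻¹ = y * h * y⁻¹ := hwe
          simpa using h1
        rwa [← this])
    have hti := maxnil_ti hG hCN hNT hH hmax y hne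
    obtain hb | ⟨z, hz, hz1⟩ := Subgroup.bot_or_exists_ne_one (P : Subgroup G)
    · exact hP1 hb
    have hm : z ∈ H ⊓ H.map (MulAut.conj y).toMonoidHom := by
      refine ⟨hPH hz, y⁻¹ * z * y, hPH ?_, ?_⟩
      · have h1 := (Subgroup.mem_normalizer_iff.mp (Subgroup.inv_mem _ hy) z).mp hz
        simpa using h1
      · show y * (y⁻¹ * z * y) * y⁻¹ = z
        group
    rw [hti, Subgroup.mem_bot] at hm
    exact hz1 hm
  exact not_nil_normalizer hG hCN hNT P hP1 (nilpotent_of_le hle hH)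

/-- A maximal nilpotent subgroup is the nilpotent Hall subgroup of any maximal subgroup
containing its normalizer. -/
theorem maxnil_eq {M : Subgroup G} (hM : IsCoatom M) (hNM : Subgroup.normalizer (H : Set G) ≤ M)
    {T E : Subgroup M} (hd : FrobData M T E) (hEc : IsCyclic E) : H = T.map M.subtype := by
  classical
  have hHM : H ≤ M := Subgroup.le_normalizer.trans hNM
  haveI hTn := hd.normal
  have hH0 := maxnil_ne_bot hG hCN hNT hH hmax
  have hH'n : Group.IsNilpotent (H.subgroupOf M) :=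
    Group.nilpotent_of_mulEquiv (Subgroup.subgroupOfEquivOfLe hHM).symm
  by_cases hcap : ∃ t ∈ T, t ≠ 1 ∧ t ∈ H.subgroupOf M
  · obtain ⟨t, htT, ht1, htH⟩ := hcap
    haveI : (T.subgroupOf (H.subgroupOf M)).Normal := Subgroup.Normal.subgroupOf hTn _
    have hne : T.subgroupOf (H.subgroupOf M) ≠ ⊥ := by
      intro hb
      have : (⟨t, htH⟩ : H.subgroupOf M) ∈ T.subgroupOf (H.subgroupOf M) :=
        Subgroup.mem_subgroupOf.mpr htT
      rw [hb, Subgroup.mem_bot] at this
      exact ht1 (congrArg Subtype.val this)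
    obtain ⟨z, hz, hz1, hzc⟩ := exists_center_of_normal hH'n _ hne
    have hzT : (z : M) ∈ T := Subgroup.mem_subgroupOf.mp hz
    have hz1' : (z : M) ≠ 1 := fun h => hz1 (Subtype.ext h)
    have hC := hd.cent _ hzT hz1'
    have hle : H.subgroupOf M ≤ T := by
      intro x hx
      apply hC
      rw [Subgroup.mem_centralizer_singleton_iff]
      have := Subgroup.mem_center_iff.mp hzc ⟨x, hx⟩
      exact congrArg Subtype.val this
    have hHT : H ≤ T.map M.subtype := by
      intro x hx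
      exact ⟨⟨x, hHM hx⟩, hle (Subgroup.mem_subgroupOf.mpr hx), rfl⟩
    have hTG : Group.IsNilpotent (T.map M.subtype) := by
      haveI := hd.nil
      exact Group.nilpotent_of_mulEquiv (T.equivMapOfInjective M.subtype M.subtype_injective)
    exact (hmax _ hTG hHT).symm
  · exfalso
    push Not at hcap
    have hdisj : H.subgroupOf M ⊓ T = ⊥ := by
      rw [eq_bot_iff]
      intro x hx
      rw [Subgroup.mem_bot]
      by_contra hx1
      exact hcap x hx.2 hx1 hx.1
    have hne : H.subgroupOf M ≠ ⊥ := by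
      intro hb
      apply hH0
      rw [eq_bot_iff]
      intro x hx
      have : (⟨x, hHM hx⟩ : M) ∈ H.subgroupOf M := Subgroup.mem_subgroupOf.mpr hx
      rw [hb, Subgroup.mem_bot] at this
      exact Subgroup.mem_bot.mpr (congrArg Subtype.val this)
    -- the normalizer of `H` is abelian, hence equals `H`
    have hcomm : ∀ a b : Subgroup.normalizer (H : Set G), a * b = b * a := by
      rintro ⟨a, ha⟩ ⟨b, hb⟩
      have := frob_comm_of_normalizer hd hEc hne hdisj (a := ⟨a, hNM ha⟩) (b := ⟨b, hNM hb⟩)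
        (mem_normalizer_subgroupOf ha) (mem_normalizer_subgroupOf hb)
      apply Subtype.ext
      show a * b = b * a
      exact congrArg Subtype.val this
    have hNn : Group.IsNilpotent (Subgroup.normalizer (H : Set G)) := nilpotent_of_comm hcomm
    have h1 := hmax _ hNn Subgroup.le_normalizer
    apply maxnil_not_selfnorm hG hCN hNT hH hmax
    rw [h1]

theorem maxnil_eq_fit {M : Subgroup G} (hM : IsCoatom M) (hNM : Subgroup.normalizer (H : Set G) ≤ M) :
    H = fittingHallOf M := by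
  obtain ⟨T, E, hd, hEc⟩ := coatom_frob hG hCN hNT hM
  rw [maxnil_eq hG hCN hNT hH hmax hM hNM hd hEc, hd.eq]
  rfl

theorem maxnil_ne_top : H ≠ ⊤ := by
  rintro rfl
  exact not_nilpotent_top hG hCN hNT hH

theorem maxnil_normalizer_ne_top : Subgroup.normalizer (H : Set G) ≠ ⊤ :=
  IsMin.normalizer_ne_top hG (maxnil_ne_bot hG hCN hNT hH hmax) (maxnil_ne_top hG hCN hNT hH hmax)

end MaxNil

/-- Frobenius structure of a maximal subgroup, at the level of `G`. -/
structure GFrob (M E : Subgroup G) : Prop where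
  T_le : fittingHallOf M ≤ M
  E_le : E ≤ M
  nil : Group.IsNilpotent (fittingHallOf M)
  maxnil : ∀ L : Subgroup G, Group.IsNilpotent L → fittingHallOf M ≤ L → L = fittingHallOf M
  norm_eq : Subgroup.normalizer (fittingHallOf M : Set G) = M
  ne_bot : fittingHallOf M ≠ ⊥
  E_ne : E ≠ ⊥
  compl : IsComplIn (fittingHallOf M) E M
  fpf : ∀ e ∈ E, e ≠ 1 → fittingHallOf M ⊓ Subgroup.centralizer ({e} : Set G) = ⊥

theorem exists_gfrob {M : Subgroup G} (hM : IsCoatom M) : ∃ E : Subgroup G, GFrob M E := by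
  classical
  obtain ⟨T, E, hd, hEc⟩ := coatom_frob hG hCN hNT hM
  haveI hTn := hd.normal
  have hfit : fittingHallOf M = T.map M.subtype := by
    rw [hd.eq]
    rfl
  have hT_le : T.map M.subtype ≤ M := Subgroup.map_subtype_le _
  have hTnil : Group.IsNilpotent (T.map M.subtype) := by
    haveI := hd.nil
    exact Group.nilpotent_of_mulEquiv (T.equivMapOfInjective M.subtype M.subtype_injective)
  have hT0 : T.map M.subtype ≠ ⊥ := by
    intro hb
    apply hd.ne_bot
    rw [eq_bot_iff]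
    intro x hx
    have : (x : G) ∈ T.map M.subtype := ⟨x, hx, rfl⟩
    rw [hb, Subgroup.mem_bot] at this
    exact Subgroup.mem_bot.mpr (Subtype.ext this)
  have hTtop : T.map M.subtype ≠ ⊤ := fun h => hM.1 (top_le_iff.mp (h ▸ hT_le))
  have hMN : M ≤ Subgroup.normalizer ((T.map M.subtype : Subgroup G) : Set G) := by
    intro m hm
    rw [Subgroup.mem_normalizer_iff]
    intro h
    constructor
    · rintro ⟨t, ht, rfl⟩
      exact ⟨⟨m, hm⟩ * t * ⟨m, hm⟩⁻¹, hTn.conj_mem t ht _, rfl⟩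
    · rintro ⟨t, ht, hth⟩
      have e : h = ((⟨m, hm⟩⁻¹ * t * ⟨m, hm⟩ : M) : G) := by
        show h = m⁻¹ * t * m
        rw [show (t : G) = m * h * m⁻¹ from hth]
        group
      rw [e]
      refine ⟨⟨m, hm⟩⁻¹ * t * ⟨m, hm⟩, ?_, rfl⟩
      have := hTn.conj_mem t ht (⟨m, hm⟩⁻¹)
      rw [inv_inv] at this
      exact this
  have hNne := IsMin.normalizer_ne_top hG hT0 hTtop
  have hNeq : Subgroup.normalizer ((T.map M.subtype : Subgroup G) : Set G) = M := by
    by_contra hn
    exact hNne (hM.2 _ (lt_of_le_of_ne hMN (Ne.symm hn)))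
  have hLM : ∀ L : Subgroup G, Group.IsNilpotent L → T.map M.subtype ≤ L → L ⊓ M = T.map M.subtype := by
    intro L hL hTL
    have h1 : Group.IsNilpotent (L.subgroupOf M) := by
      have h2 : Group.IsNilpotent ((L ⊓ M : Subgroup G)) := nilpotent_of_le inf_le_left hL
      exact Group.nilpotent_of_mulEquiv (Subgroup.subgroupOfEquivOfLe (inf_le_right : L ⊓ M ≤ M)
        |>.symm.trans (MulEquiv.subgroupCongr (by
          ext x
          simp [Subgroup.mem_subgroupOf])))
    have hTle : T ≤ L.subgroupOf M := by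
      intro x hx
      exact Subgroup.mem_subgroupOf.mpr (hTL ⟨x, hx, rfl⟩)
    have h3 := hd.maxnil _ h1 hTle
    apply le_antisymm
    · rintro x ⟨hxL, hxM⟩
      have : (⟨x, hxM⟩ : M) ∈ L.subgroupOf M := Subgroup.mem_subgroupOf.mpr hxL
      rw [h3] at this
      exact ⟨_, this, rfl⟩
    · exact le_inf hTL hT_le
  have hmaxnil : ∀ L : Subgroup G, Group.IsNilpotent L → T.map M.subtype ≤ L → L = T.map M.subtype := by
    intro L hL hTL
    by_contra hne
    have hlt : T.map M.subtype < L := lt_of_le_of_ne hTL (Ne.symm hne)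
    haveI := hL
    have hcond := Group.normalizerCondition_of_isNilpotent (G := L)
    have hlt' : (T.map M.subtype).subgroupOf L < ⊤ := by
      rw [lt_top_iff_ne_top]
      intro h
      apply hlt.not_ge
      intro x hx
      have : (⟨x, hx⟩ : L) ∈ (T.map M.subtype).subgroupOf L := by
        rw [h]
        trivial
      exact Subgroup.mem_subgroupOf.mp this
    obtain ⟨x, hxN, hxT⟩ := SetLike.exists_of_lt (hcond _ hlt')
    have hxG : (x : G) ∈ Subgroup.normalizer ((T.map M.subtype : Subgroup G) : Set G) := by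
      rw [Subgroup.mem_normalizer_iff]
      intro h
      constructor
      · intro hh
        have h1 : (⟨h, hTL hh⟩ : L) ∈ (T.map M.subtype).subgroupOf L := Subgroup.mem_subgroupOf.mpr hh
        have h2 := (Subgroup.mem_normalizer_iff.mp hxN _).mp h1
        exact Subgroup.mem_subgroupOf.mp h2
      · intro hh
        have hhL : h ∈ L := by
          have h1 := L.mul_mem (L.mul_mem x⁻¹.2 (hTL hh)) x.2
          have e : (x⁻¹ : L).1 * ((x : G) * h * (x : G)⁻¹) * (x : G) = h := by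
            simp only [InvMemClass.coe_inv]
            group
          rwa [e] at h1
        have h1 : (⟨h, hhL⟩ : L) ∈ (T.map M.subtype).subgroupOf L := by
          rw [Subgroup.mem_normalizer_iff.mp hxN _]
          exact Subgroup.mem_subgroupOf.mpr hh
        exact Subgroup.mem_subgroupOf.mp h1
    have hxM : (x : G) ∈ M := by
      rw [← hNeq]
      exact hxG
    have hxLM : (x : G) ∈ L ⊓ M := ⟨x.2, hxM⟩
    rw [hLM L hL hTL] at hxLM
    exact hxT (Subgroup.mem_subgroupOf.mpr hxLM)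
  have hE0 : E ≠ ⊥ := hd.frob.1
  have hsup : T ⊔ E = ⊤ := hd.compl.sup_eq_top
  have hdisj : T ⊓ E = ⊥ := hd.compl.disjoint.eq_bot
  refine ⟨E.map M.subtype, ?_⟩
  refine
    { T_le := by rw [hfit]; exact hT_le
      E_le := Subgroup.map_subtype_le _
      nil := by rw [hfit]; exact hTnil
      maxnil := by rw [hfit]; exact hmaxnil
      norm_eq := by rw [hfit]; exact hNeq
      ne_bot := by rw [hfit]; exact hT0
      E_ne := ?_
      compl := ?_
      fpf := ?_ }
  · intro hb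
    apply hE0
    rw [eq_bot_iff]
    intro x hx
    have : (x : G) ∈ E.map M.subtype := ⟨x, hx, rfl⟩
    rw [hb, Subgroup.mem_bot] at this
    exact Subgroup.mem_bot.mpr (Subtype.ext this)
  · rw [hfit]
    refine ⟨hT_le, Subgroup.map_subtype_le _, ?_, ?_⟩
    · rw [eq_bot_iff]
      rintro _ ⟨⟨t, ht, rfl⟩, ⟨e, he, hte⟩⟩
      have e' : e = t := Subtype.ext hte
      subst e'
      have : e ∈ T ⊓ E := ⟨ht, he⟩
      rw [hdisj, Subgroup.mem_bot] at this
      rw [this]
      exact Subgroup.one_mem _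
    · intro m hm
      obtain ⟨t, ht, e, he, hte⟩ := Cfsg.Agent.Lib.FrobPair.exists_decomp T E hsup ⟨m, hm⟩
      refine ⟨t, ⟨t, ht, rfl⟩, e, ⟨e, he, rfl⟩, ?_⟩
      exact congrArg Subtype.val hte
  · rw [hfit]
    rintro _ ⟨e, he, rfl⟩ he1
    have he1' : e ≠ 1 := fun h => he1 (by rw [h]; rfl)
    rw [eq_bot_iff]
    rintro _ ⟨⟨t, ht, rfl⟩, htc⟩
    have hm : t ∈ T ⊓ Subgroup.centralizer ({e} : Set M) := by
      refine ⟨ht, Subgroup.mem_centralizer_singleton_iff.mpr ?_⟩
      apply Subtype.ext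
      exact Subgroup.mem_centralizer_singleton_iff.mp htc
    rw [hd.fpf e he he1', Subgroup.mem_bot] at hm
    rw [hm]
    exact Subgroup.one_mem _

section Conj

variable {H : Subgroup G} (hH : Group.IsNilpotent H)
  (hmax : ∀ L : Subgroup G, Group.IsNilpotent L → H ≤ L → L = H)

omit hG hCN hNT in
include hH in
theorem nil_cj (g : G) : Group.IsNilpotent (cj H g) :=
  Group.nilpotent_of_mulEquiv (H.equivMapOfInjective _ (MulAut.conj g).injective)

omit hG hCN hNT in
include hH hmax in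
theorem maxnil_cj (g : G) (L : Subgroup G) (hL : Group.IsNilpotent L) (hle : cj H g ≤ L) : L = cj H g := by
  have h1 : H ≤ cj L g⁻¹ := by
    have := cj_mono hle g⁻¹
    rwa [cj_cj_inv] at this
  have h2 := hmax _ (Group.nilpotent_of_mulEquiv (L.equivMapOfInjective _ (MulAut.conj g⁻¹).injective)) h1
  rw [← h2, cj_inv_cj]

end Conj

omit hG hCN hNT in
theorem normalizer_cj' (H : Subgroup G) (g : G) :
    Subgroup.normalizer ((cj H g : Subgroup G) : Set G) = cj (Subgroup.normalizer (H : Set G)) g :=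
  (Subgroup.map_equiv_normalizer_eq H (MulAut.conj g)).symm

/-- **S1479**, from the absence of three-step subgroups. -/
theorem s1479 :
    (∀ H : Subgroup G, Group.IsNilpotent H → (∀ L : Subgroup G, Group.IsNilpotent L → H ≤ L → L = H) →
        (Nat.card H).Coprime H.index ∧ (∀ g : G, H.map (MulAut.conj g).toMonoidHom ≠ H → H ⊓ H.map (MulAut.conj g).toMonoidHom = ⊥) ∧
        IsCoatom (Subgroup.normalizer (H : Set G)) ∧
        ∃ E : Subgroup G, IsComplIn H E (Subgroup.normalizer (H : Set G)) ∧ E ≠ ⊥ ∧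
          ∀ e ∈ E, e ≠ 1 → H ⊓ Subgroup.centralizer ({e} : Set G) = ⊥) ∧
      ∀ M : Subgroup G, IsCoatom M → ∃ H E : Subgroup G, Group.IsNilpotent H ∧ (∀ L : Subgroup G, Group.IsNilpotent L → H ≤ L → L = H) ∧
        M ≤ Subgroup.normalizer (H : Set G) ∧ IsComplIn H E M ∧ H ≠ ⊥ ∧ E ≠ ⊥ ∧
        ∀ e ∈ E, e ≠ 1 → H ⊓ Subgroup.centralizer ({e} : Set G) = ⊥ := by
  refine ⟨?_, ?_⟩
  · intro H hH hmax
    refine ⟨coprime_card_index hCN hH hmax, maxnil_ti hG hCN hNT hH hmax, ?_⟩
    obtain ⟨M, hM, hNM⟩ := exists_coatom_ge (maxnil_normalizer_ne_top hG hCN hNT hH hmax)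
    have hfit := maxnil_eq_fit hG hCN hNT hH hmax hM hNM
    obtain ⟨E, hE⟩ := exists_gfrob hG hCN hNT hM
    rw [hfit, hE.norm_eq]
    exact ⟨hM, E, hE.compl, hE.E_ne, hE.fpf⟩
  · intro M hM
    obtain ⟨E, hE⟩ := exists_gfrob hG hCN hNT hM
    refine ⟨fittingHallOf M, E, hE.nil, hE.maxnil, hE.norm_eq.ge, hE.compl, hE.ne_bot, hE.E_ne, hE.fpf⟩

/-- An element `z ≠ 1` central in a Sylow subgroup of a maximal nilpotent subgroup determines the latter. -/
theorem centralizer_of_sylow {H : Subgroup G} (hH : Group.IsNilpotent H)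
    (hmax : ∀ L : Subgroup G, Group.IsNilpotent L → H ≤ L → L = H) {q : ℕ} [Fact q.Prime]
    (S : Sylow q H) {z : G} (hz : z ∈ (S : Subgroup H).map H.subtype) (hz1 : z ≠ 1)
    (hzc : ∀ a ∈ (S : Subgroup H).map H.subtype, a * z = z * a) :
    Subgroup.centralizer ({z} : Set G) = H :=
  centralizer_eq hCN hmax hz1 (le_centralizer_of_sylow_center hH S hz hzc)

/-- Two maximal nilpotent subgroups are conjugate or of coprime orders. -/
theorem maxnil_conj_or_coprime {H₁ H₂ : Subgroup G} (hH₁ : Group.IsNilpotent H₁)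
    (hmax₁ : ∀ L : Subgroup G, Group.IsNilpotent L → H₁ ≤ L → L = H₁) (hH₂ : Group.IsNilpotent H₂)
    (hmax₂ : ∀ L : Subgroup G, Group.IsNilpotent L → H₂ ≤ L → L = H₂) :
    (∃ g : G, H₂ = H₁.map (MulAut.conj g).toMonoidHom) ∨ (Nat.card H₁).Coprime (Nat.card H₂) := by
  classical
  by_cases hc : (Nat.card H₁).Coprime (Nat.card H₂)
  · exact Or.inr hc
  left
  obtain ⟨p, hp, h1, h2⟩ := Nat.Prime.not_coprime_iff_dvd.mp hc
  haveI : Fact p.Prime := ⟨hp⟩
  obtain ⟨S₁⟩ : Nonempty (Sylow p H₁) := inferInstance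
  obtain ⟨S₂⟩ : Nonempty (Sylow p H₂) := inferInstance
  have hP₁ : IsPGroup p ((S₁ : Subgroup H₁).map H₁.subtype) := S₁.isPGroup'.map H₁.subtype
  have hP₂ : IsPGroup p ((S₂ : Subgroup H₂).map H₂.subtype) := S₂.isPGroup'.map H₂.subtype
  let P₁ : Sylow p G := hP₁.toSylow (not_dvd_index_map S₁ (not_dvd_index hCN hH₁ hmax₁ h1))
  let P₂ : Sylow p G := hP₂.toSylow (not_dvd_index_map S₂ (not_dvd_index hCN hH₂ hmax₂ h2))
  have hc₁ : (P₁ : Subgroup G) = (S₁ : Subgroup H₁).map H₁.subtype := rfl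
  have hc₂ : (P₂ : Subgroup G) = (S₂ : Subgroup H₂).map H₂.subtype := rfl
  obtain ⟨g, hg⟩ := MulAction.exists_smul_eq G P₁ P₂
  have hmem : ∀ x, x ∈ (P₂ : Subgroup G) ↔ g⁻¹ * x * g ∈ (P₁ : Subgroup G) := by
    intro x
    rw [← hg]
    show x ∈ MulAut.conj g • (P₁ : Subgroup G) ↔ _
    rw [mem_conj_smul_iff]
  obtain ⟨z, hzP, hz1, hzc⟩ := exists_center_mem hP₂ (map_sylow_ne_bot S₂ h2)
  have hC₂ := centralizer_of_sylow hG hCN hNT hH₂ hmax₂ S₂ hzP hz1 hzc
  have hz'P : g⁻¹ * z * g ∈ (S₁ : Subgroup H₁).map H₁.subtype := (hmem z).mp hzP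
  have hz'1 : g⁻¹ * z * g ≠ 1 := by
    intro h
    apply hz1
    have e : z = g * (g⁻¹ * z * g) * g⁻¹ := by group
    rw [e, h]
    group
  have hz'c : ∀ a ∈ (S₁ : Subgroup H₁).map H₁.subtype, a * (g⁻¹ * z * g) = (g⁻¹ * z * g) * a := by
    intro a ha
    have h3 : g * a * g⁻¹ ∈ (P₂ : Subgroup G) := by
      rw [hmem]
      have e : g⁻¹ * (g * a * g⁻¹) * g = a := by group
      rw [e]
      exact ha
    have h4 := hzc _ h3
    have e1 : a * (g⁻¹ * z * g) = g⁻¹ * (g * a * g⁻¹ * z) * g := by group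
    have e2 : (g⁻¹ * z * g) * a = g⁻¹ * (z * (g * a * g⁻¹)) * g := by group
    rw [e1, e2, h4]
  have hC₁ := centralizer_of_sylow hG hCN hNT hH₁ hmax₁ S₁ hz'P hz'1 hz'c
  refine ⟨g, ?_⟩
  rw [← hC₂, ← hC₁]
  have := Cfsg.Agent.Lib.BGSigma4.centralizer_cj (g⁻¹ * z * g) g
  have e : g * (g⁻¹ * z * g) * g⁻¹ = z := by group
  rw [e] at this
  exact this.symm

theorem exists_maxnil_ge {L : Subgroup G} (hL : Group.IsNilpotent L) :
    ∃ H : Subgroup G, L ≤ H ∧ Group.IsNilpotent H ∧ ∀ K : Subgroup G, Group.IsNilpotent K → H ≤ K → K = H := by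
  obtain ⟨N, hFN, hNmax⟩ := (Set.toFinite {K : Subgroup G | Group.IsNilpotent K}).exists_le_maximal hL
  exact ⟨N, hFN, hNmax.1, fun K hK hNK => le_antisymm (hNmax.2 hK hNK) hNK⟩

theorem exists_maxnil_of_ne_one {x : G} (hx : x ≠ 1) :
    ∃ H : Subgroup G, x ∈ H ∧ Subgroup.centralizer ({x} : Set G) ≤ H ∧ Group.IsNilpotent H ∧
      ∀ K : Subgroup G, Group.IsNilpotent K → H ≤ K → K = H := by
  obtain ⟨H, h1, h2, h3⟩ := exists_maxnil_ge hG hCN hNT (hCN x hx)
  exact ⟨H, h1 (Subgroup.mem_centralizer_singleton_iff.mpr rfl), h1, h2, h3⟩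

/-- **S1483**, from the absence of three-step subgroups. -/
theorem s1483 :
    (∀ H₁ H₂ : Subgroup G, (Group.IsNilpotent ↥H₁ ∧ ∀ L : Subgroup G, Group.IsNilpotent L → H₁ ≤ L → L = H₁) → (Group.IsNilpotent ↥H₂ ∧ ∀ L : Subgroup G, Group.IsNilpotent L → H₂ ≤ L → L = H₂) → (∃ g : G, H₂ = H₁.map (MulAut.conj g).toMonoidHom) ∨ (Nat.card H₁).Coprime (Nat.card H₂)) ∧
      ∀ (p q r : ℕ), p.Prime → q.Prime → r.Prime → ∀ (x y y' z : G), x ≠ 1 → y ≠ 1 → y' ≠ 1 → z ≠ 1 →
        IsPGroup p (Subgroup.zpowers x) → IsPGroup q (Subgroup.zpowers y) → IsPGroup q (Subgroup.zpowers y') → IsPGroup r (Subgroup.zpowers z) →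
        x * y = y * x → y' * z = z * y' →
        ∃ x' z' : G, x' ≠ 1 ∧ z' ≠ 1 ∧ IsPGroup p (Subgroup.zpowers x') ∧ IsPGroup r (Subgroup.zpowers z') ∧ x' * z' = z' * x' := by
  classical
  refine ⟨fun H₁ H₂ h₁ h₂ => maxnil_conj_or_coprime hG hCN hNT h₁.1 h₁.2 h₂.1 h₂.2, ?_⟩
  intro p q r hp hq hr x y y' z hx hy hy' hz hxp hyq hy'q hzr hxy hyz
  by_cases hpr : p = r
  · subst hpr
    exact ⟨x, x, hx, hx, hxp, hxp, rfl⟩
  haveI : Fact p.Prime := ⟨hp⟩
  haveI : Fact q.Prime := ⟨hq⟩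
  haveI : Fact r.Prime := ⟨hr⟩
  obtain ⟨H₁, hyH₁, hC₁, hn₁, hm₁⟩ := exists_maxnil_of_ne_one hG hCN hNT hy
  obtain ⟨H₂, hy'H₂, hC₂, hn₂, hm₂⟩ := exists_maxnil_of_ne_one hG hCN hNT hy'
  have hxH₁ : x ∈ H₁ := hC₁ (Subgroup.mem_centralizer_singleton_iff.mpr hxy)
  have hzH₂ : z ∈ H₂ := hC₂ (Subgroup.mem_centralizer_singleton_iff.mpr hyz.symm)
  have hdvd : ∀ {t : G} {X : Subgroup G}, t ≠ 1 → t ∈ X → IsPGroup q (Subgroup.zpowers t) → q ∣ Nat.card X := by
    intro t X ht htX htq
    obtain ⟨k, hk⟩ := IsPGroup.iff_card.mp htq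
    rw [Nat.card_zpowers] at hk
    have hk0 : k ≠ 0 := by
      rintro rfl
      rw [pow_zero] at hk
      exact ht (orderOf_eq_one_iff.mp hk)
    have h1 : q ∣ orderOf t := by
      rw [hk]
      exact dvd_pow_self q hk0
    exact h1.trans (Subgroup.orderOf_dvd_natCard X htX)
  have hnc : ¬ (Nat.card H₁).Coprime (Nat.card H₂) := fun hc =>
    hq.one_lt.ne' (Nat.eq_one_of_dvd_coprimes hc (hdvd hy hyH₁ hyq) (hdvd hy' hy'H₂ hy'q))
  obtain ⟨g, hg⟩ := (maxnil_conj_or_coprime hG hCN hNT hn₁ hm₁ hn₂ hm₂).resolve_right hnc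
  have hx'H₂ : g * x * g⁻¹ ∈ H₂ := by
    rw [hg]
    exact ⟨x, hxH₁, rfl⟩
  obtain ⟨a, ha⟩ := IsPGroup.iff_card.mp hxp
  rw [Nat.card_zpowers] at ha
  have hxa : x ^ p ^ a = 1 := by
    rw [← ha]
    exact pow_orderOf_eq_one x
  have hx'a : (g * x * g⁻¹) ^ p ^ a = 1 := by
    rw [conj_pow, hxa]
    group
  obtain ⟨b, hb⟩ := IsPGroup.iff_card.mp hzr
  rw [Nat.card_zpowers] at hb
  have hzb : z ^ r ^ b = 1 := by
    rw [← hb]
    exact pow_orderOf_eq_one z
  refine ⟨g * x * g⁻¹, z, ?_, hz, isPGroup_zpowers_of_pow ⟨a, hx'a⟩, hzr, ?_⟩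
  · intro h
    apply hx
    have e : x = g⁻¹ * (g * x * g⁻¹) * g := by group
    rw [e, h]
    group
  · haveI := hn₂
    have hco : Nat.Coprime (orderOf z) p := by
      rw [hb]
      exact Nat.Coprime.pow_left _ ((Nat.coprime_primes hr hp).mpr (Ne.symm hpr))
    have := Cfsg.Agent.Lib.PComplement.commute_of_isNilpotent (G := H₂) (p := p)
      (x := ⟨_, hx'H₂⟩) (g := ⟨z, hzH₂⟩) ⟨a, Subtype.ext (by simpa using hx'a)⟩
      (by rw [Subgroup.orderOf_mk]; exact hco)
    exact congrArg Subtype.val this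

/-- Conjugates of the nilpotent Hall subgroup. -/
theorem fit_cj {M : Subgroup G} (hM : IsCoatom M) (g : G) :
    fittingHallOf (cj M g) = cj (fittingHallOf M) g := by
  obtain ⟨E, hE⟩ := exists_gfrob hG hCN hNT hM
  have h1 := maxnil_eq_fit hG hCN hNT (nil_cj hE.nil g) (maxnil_cj hE.nil hE.maxnil g)
    (Cfsg.Agent.Lib.BGSigma4.isCoatom_cj hM g) (by rw [normalizer_cj', hE.norm_eq])
  exact h1.symm

/-- **S1484**, from the absence of three-step subgroups. -/
theorem s1484 (k : ℕ) (Mrep : Fin k → Subgroup G) (hmax : ∀ i, IsCoatom (Mrep i))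
    (hnc : ∀ i j, i ≠ j → ∀ g : G, Mrep j ≠ (Mrep i).map (MulAut.conj g).toMonoidHom)
    (hall : ∀ M : Subgroup G, IsCoatom M → ∃ i, ∃ g : G, M = (Mrep i).map (MulAut.conj g).toMonoidHom) :
    (∀ i j, i ≠ j → (Nat.card (fittingHallOf (Mrep i))).Coprime (Nat.card (fittingHallOf (Mrep j)))) ∧
      ∏ i, Nat.card (fittingHallOf (Mrep i)) = Nat.card G ∧
      ∀ x : G, ∃ i, ∃ g : G, g * x * g⁻¹ ∈ fittingHallOf (Mrep i) := by
  classical
  have hgf : ∀ i, ∃ E, GFrob (Mrep i) E := fun i => exists_gfrob hG hCN hNT (hmax i)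
  have hnil : ∀ i, Group.IsNilpotent (fittingHallOf (Mrep i)) := fun i => (hgf i).choose_spec.nil
  have hmx : ∀ i, ∀ L : Subgroup G, Group.IsNilpotent L → fittingHallOf (Mrep i) ≤ L →
      L = fittingHallOf (Mrep i) := fun i => (hgf i).choose_spec.maxnil
  have hne : ∀ i, Subgroup.normalizer (fittingHallOf (Mrep i) : Set G) = Mrep i :=
    fun i => (hgf i).choose_spec.norm_eq
  -- every maximal nilpotent subgroup is conjugate to some `H_i`
  have hconj : ∀ H : Subgroup G, Group.IsNilpotent H → (∀ L : Subgroup G, Group.IsNilpotent L → H ≤ L → L = H) →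
      ∃ i, ∃ g : G, H = cj (fittingHallOf (Mrep i)) g := by
    intro H hH hm
    obtain ⟨M, hM, hNM⟩ := exists_coatom_ge (maxnil_normalizer_ne_top hG hCN hNT hH hm)
    have hfit := maxnil_eq_fit hG hCN hNT hH hm hM hNM
    obtain ⟨i, g, rfl⟩ := hall M hM
    exact ⟨i, g, by rw [hfit]; exact fit_cj hG hCN hNT (hmax i) g⟩
  have hcop : ∀ i j, i ≠ j → (Nat.card (fittingHallOf (Mrep i))).Coprime (Nat.card (fittingHallOf (Mrep j))) := by
    intro i j hij
    rcases maxnil_conj_or_coprime hG hCN hNT (hnil i) (hmx i) (hnil j) (hmx j) with ⟨g, hg⟩ | h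
    · exfalso
      apply hnc i j hij g
      have h1 := hne j
      rw [hg, normalizer_cj', hne i] at h1
      exact h1.symm
    · exact h
  -- primes
  have hprime : ∀ p : ℕ, p.Prime → p ∣ Nat.card G → ∃ i, p ∣ Nat.card (fittingHallOf (Mrep i)) := by
    intro p hp hpd
    haveI : Fact p.Prime := ⟨hp⟩
    obtain ⟨z, hz⟩ := exists_prime_orderOf_dvd_card' (G := G) p hpd
    have hz1 : z ≠ 1 := by
      rintro rfl
      rw [orderOf_one] at hz
      exact hp.one_lt.ne hz
    obtain ⟨H, hzH, -, hH, hm⟩ := exists_maxnil_of_ne_one hG hCN hNT hz1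
    obtain ⟨i, g, rfl⟩ := hconj H hH hm
    refine ⟨i, ?_⟩
    rw [← card_cj (fittingHallOf (Mrep i)) g, ← hz]
    exact Subgroup.orderOf_dvd_natCard _ hzH
  refine ⟨hcop, ?_, ?_⟩
  · -- the product
    have hdvd : ∀ s : Finset (Fin k), ∏ i ∈ s, Nat.card (fittingHallOf (Mrep i)) ∣ Nat.card G := by
      intro s
      induction s using Finset.induction_on with
      | empty => simp
      | insert a s ha ih =>
        rw [Finset.prod_insert ha]
        refine Nat.Coprime.mul_dvd_of_dvd_of_dvd ?_ (Subgroup.card_subgroup_dvd_card _) ih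
        refine Nat.Coprime.prod_right ?_
        intro j hj
        exact hcop a j (fun h => ha (h ▸ hj))
    obtain ⟨c, hc⟩ := hdvd Finset.univ
    have hG0 : Nat.card G ≠ 0 := Nat.card_pos.ne'
    have hc1 : c = 1 := by
      by_contra hne1
      obtain ⟨p, hp, hpc⟩ := Nat.exists_prime_and_dvd hne1
      haveI : Fact p.Prime := ⟨hp⟩
      have hpG : p ∣ Nat.card G := by
        rw [hc]
        exact hpc.trans (Dvd.intro_left _ rfl)
      obtain ⟨i, hi⟩ := hprime p hp hpG
      have h1 := coprime_card_index hCN (hnil i) (hmx i)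
      have h2 := (fittingHallOf (Mrep i)).card_mul_index
      have h3 : Nat.card (fittingHallOf (Mrep i)) ∣ ∏ j, Nat.card (fittingHallOf (Mrep j)) :=
        Finset.dvd_prod_of_mem _ (Finset.mem_univ i)
      obtain ⟨d, hd⟩ := h3
      have h4 : (fittingHallOf (Mrep i)).index = d * c := by
        have hpos : 0 < Nat.card (fittingHallOf (Mrep i)) := Nat.card_pos
        apply Nat.eq_of_mul_eq_mul_left hpos
        rw [h2, hc, hd, mul_assoc]
      have h5 : p ∣ (fittingHallOf (Mrep i)).index := by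
        rw [h4]
        exact hpc.trans (Dvd.intro_left _ rfl)
      exact hp.one_lt.ne' (Nat.eq_one_of_dvd_coprimes h1 hi h5)
    rw [hc, hc1, mul_one]
  · intro x
    by_cases hx : x = 1
    · subst hx
      obtain ⟨M, hM, -⟩ := exists_coatom_ge (H := (⊥ : Subgroup G)) (by
        haveI := hG.2.1
        have hnt : Nontrivial G := IsSimpleGroup.toNontrivial
        exact bot_ne_top)
      obtain ⟨i, -, -⟩ := hall M hM
      exact ⟨i, 1, by simpa using Subgroup.one_mem _⟩
    · obtain ⟨H, hxH, -, hH, hm⟩ := exists_maxnil_of_ne_one hG hCN hNT hx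
      obtain ⟨i, g, rfl⟩ := hconj H hH hm
      refine ⟨i, g⁻¹, ?_⟩
      have := mem_cj.mp hxH
      simpa using this

end Main

end Cfsg.Agent.Lib.BGCN2
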