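import Mathlib
import Cfsg.Prelude.Def_OddOrderLocal
import Cfsg.Agent.Lib.PCore
import Cfsg.Agent.Lib.PResid
import Cfsg.Agent.Lib.PLocalTools
import Cfsg.Agent.Lib.PuigBasic
import Cfsg.Agent.Lib.BGStable

/-!
# The Puig subgroup of a Sylow subgroup in a solvable group of odd order

We work with a relative version of the Puig series, with all terms inside the ambient group `G`.
-/

set_option autoImplicit false

namespace Cfsg.Agent.Lib.BGPuig

open Cfsg Cfsg.Agent.Lib.PCore Cfsg.Agent.Lib.PuigBasic Cfsg.Agent.Lib.BGStable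

universe u v

variable {G : Type u} [Group G]

theorem mulComm_iff (B : Subgroup G) : IsMulCommutative B ↔ ∀ x ∈ B, ∀ y ∈ B, x * y = y * x := by
  constructor
  · intro h x hx y hy
    exact congrArg Subtype.val (h.is_comm.comm (⟨x, hx⟩ : B) ⟨y, hy⟩)
  · intro h
    exact ⟨⟨fun x y => Subtype.ext (h x x.2 y y.2)⟩⟩

/-- The relative Puig step: abelian subgroups of `H` normalized by `X`. -/
def rStep (H X : Subgroup G) : Subgroup G :=
  sSup {B : Subgroup G | B ≤ H ∧ IsMulCommutative B ∧ X ≤ Subgroup.normalizer (B : Set G)}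

/-- The relative Puig series. -/
def rSeq (H : Subgroup G) : ℕ → Subgroup G
  | 0 => ⊥
  | n + 1 => rStep H (rSeq H n)

@[simp] theorem rSeq_zero (H : Subgroup G) : rSeq H 0 = ⊥ := rfl

theorem rSeq_succ (H : Subgroup G) (n : ℕ) : rSeq H (n + 1) = rStep H (rSeq H n) := rfl

theorem rStep_le (H X : Subgroup G) : rStep H X ≤ H := sSup_le fun _ h => h.1

theorem le_rStep {H X B : Subgroup G} (h : B ≤ H) (hc : IsMulCommutative B)
    (hn : X ≤ Subgroup.normalizer (B : Set G)) : B ≤ rStep H X :=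
  le_sSup ⟨h, hc, hn⟩

theorem rStep_le_of {H X K : Subgroup G}
    (h : ∀ B : Subgroup G, B ≤ H → IsMulCommutative B →
      X ≤ Subgroup.normalizer (B : Set G) → B ≤ K) : rStep H X ≤ K :=
  sSup_le fun B hB => h B hB.1 hB.2.1 hB.2.2

theorem rSeq_le (H : Subgroup G) (n : ℕ) : rSeq H n ≤ H := by
  cases n with
  | zero => exact bot_le
  | succ n => exact rStep_le _ _

/-- The Puig step of a subgroup as a group, seen in `G`. -/
theorem map_puigStep_subtype (H : Subgroup G) (X : Subgroup H) :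
    (puigStep X).map H.subtype = rStep H (X.map H.subtype) := by
  apply le_antisymm
  · rw [Subgroup.map_le_iff_le_comap]
    refine sSup_le fun B hB => ?_
    rw [← Subgroup.map_le_iff_le_comap]
    refine le_rStep (Subgroup.map_subtype_le _) ?_ ?_
    · haveI := hB.1
      exact Subgroup.map_isMulCommutative B H.subtype
    · exact (Subgroup.map_mono hB.2).trans (Subgroup.le_normalizer_map _)
  · refine rStep_le_of fun B hBH hc hn => ?_
    have hB : (B.subgroupOf H).map H.subtype = B := Subgroup.map_subgroupOf_eq_of_le hBH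
    rw [← hB]
    apply Subgroup.map_mono
    refine le_puigStep ?_ ?_
    · rw [mulComm_iff]
      intro x hx y hy
      exact Subtype.ext ((mulComm_iff B).mp hc x hx y hy)
    · intro x hx
      have h1 : (x : G) ∈ Subgroup.normalizer (B : Set G) := hn (Subgroup.mem_map_of_mem _ hx)
      rw [Subgroup.mem_normalizer_iff] at h1 ⊢
      intro y
      exact h1 y

theorem map_puigSeq_subtype (H : Subgroup G) (n : ℕ) :
    (puigSeq H n).map H.subtype = rSeq H n := by
  induction n with
  | zero => exact Subgroup.map_bot _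
  | succ n ih =>
    rw [puigSeq_succ, map_puigStep_subtype, ih, rSeq_succ]

/-- Images under a homomorphism injective on `H`. -/
theorem map_rStep {G' : Type v} [Group G'] (f : G →* G') {H X : Subgroup G} (hX : X ≤ H)
    (hinj : ∀ x ∈ H, f x = 1 → x = 1) :
    (rStep H X).map f = rStep (H.map f) (X.map f) := by
  apply le_antisymm
  · rw [Subgroup.map_le_iff_le_comap]
    refine rStep_le_of fun B hBH hc hn => ?_
    rw [← Subgroup.map_le_iff_le_comap]
    refine le_rStep (Subgroup.map_mono hBH) ?_ ?_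
    · haveI := hc
      exact Subgroup.map_isMulCommutative B f
    · exact (Subgroup.map_mono hn).trans (Subgroup.le_normalizer_map _)
  · refine rStep_le_of fun B' hB'H hc hn => ?_
    set B : Subgroup G := H ⊓ B'.comap f with hB
    have hmap : B.map f = B' := by
      apply le_antisymm
      · rintro _ ⟨b, hb, rfl⟩
        exact hb.2
      · intro y hy
        obtain ⟨x, hx, rfl⟩ := hB'H hy
        exact ⟨x, ⟨hx, hy⟩, rfl⟩
    rw [← hmap]
    apply Subgroup.map_mono
    refine le_rStep inf_le_left ?_ ?_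
    · rw [mulComm_iff]
      intro x hx y hy
      have h1 : f (x * y) = f (y * x) := by
        rw [map_mul, map_mul]
        exact (mulComm_iff B').mp hc _ hx.2 _ hy.2
      have h2 : x * y * (y * x)⁻¹ = 1 := by
        apply hinj
        · exact H.mul_mem (H.mul_mem hx.1 hy.1) (H.inv_mem (H.mul_mem hy.1 hx.1))
        · rw [map_mul, map_inv, h1, mul_inv_cancel]
      exact mul_inv_eq_one.mp h2
    · intro x hx
      have hxH := hX hx
      have h1 : f x ∈ Subgroup.normalizer (B' : Set G') := hn (Subgroup.mem_map_of_mem _ hx)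
      rw [Subgroup.mem_normalizer_iff] at h1 ⊢
      intro y
      constructor
      · intro hy
        refine ⟨H.mul_mem (H.mul_mem hxH hy.1) (H.inv_mem hxH), ?_⟩
        show f (x * y * x⁻¹) ∈ B'
        rw [map_mul, map_mul, map_inv]
        exact (h1 (f y)).mp hy.2
      · intro hy
        have hyH : y ∈ H := by
          have : y = x⁻¹ * (x * y * x⁻¹) * x := by group
          rw [this]
          exact H.mul_mem (H.mul_mem (H.inv_mem hxH) hy.1) hxH
        refine ⟨hyH, ?_⟩
        show f y ∈ B'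
        rw [h1 (f y)]
        have : f (x * y * x⁻¹) ∈ B' := hy.2
        rwa [map_mul, map_mul, map_inv] at this

theorem map_rSeq {G' : Type v} [Group G'] (f : G →* G') {H : Subgroup G}
    (hinj : ∀ x ∈ H, f x = 1 → x = 1) (n : ℕ) :
    (rSeq H n).map f = rSeq (H.map f) n := by
  induction n with
  | zero => exact Subgroup.map_bot _
  | succ n ih =>
    rw [rSeq_succ, map_rStep f (rSeq_le H n) hinj, ih, rSeq_succ]

/-- The Puig subgroup of `H`, in `G`. -/
def rL (H : Subgroup G) : Subgroup G := (puigSubgroup H).map H.subtype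

/-- The lower Puig subgroup of `H`, in `G`. -/
def rLs (H : Subgroup G) : Subgroup G := (puigLower H).map H.subtype

/-- The centre of the Puig subgroup of `H`, in `G`. -/
def rZ (H : Subgroup G) : Subgroup G := rL H ⊓ Subgroup.centralizer (rL H : Set G)

theorem exists_rSeq_stable (H : Subgroup G) [Finite H] :
    ∃ k : ℕ, ∀ n : ℕ, k ≤ n → rSeq H (2 * n) = rLs H ∧ rSeq H (2 * n + 1) = rL H := by
  obtain ⟨k, -, hk⟩ := exists_stable (G := H)
  refine ⟨k, fun n hn => ?_⟩
  obtain ⟨h1, h2⟩ := hk n hn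
  rw [← map_puigSeq_subtype, ← map_puigSeq_subtype, h1, h2]
  exact ⟨rfl, rfl⟩

theorem rStep_rLs (H : Subgroup G) [Finite H] : rStep H (rLs H) = rL H := by
  obtain ⟨k, hk⟩ := exists_rSeq_stable H
  rw [← (hk k le_rfl).1, ← (hk k le_rfl).2, rSeq_succ]

theorem rStep_rL (H : Subgroup G) [Finite H] : rStep H (rL H) = rLs H := by
  obtain ⟨k, hk⟩ := exists_rSeq_stable H
  rw [← (hk k le_rfl).2, ← (hk (k + 1) (Nat.le_succ k)).1, ← rSeq_succ]
  rfl

theorem rLs_le_rL (H : Subgroup G) : rLs H ≤ rL H :=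
  Subgroup.map_mono puigLower_le_puigSubgroup

theorem rL_le (H : Subgroup G) : rL H ≤ H := Subgroup.map_subtype_le _

theorem rLs_le (H : Subgroup G) : rLs H ≤ H := Subgroup.map_subtype_le _

theorem rSeq_even_le_rLs (H : Subgroup G) (n : ℕ) : rSeq H (2 * n) ≤ rLs H := by
  rw [← map_puigSeq_subtype]
  apply Subgroup.map_mono
  exact le_iSup (fun n : ℕ => puigSeq H (2 * n)) n

theorem rL_le_rSeq_odd (H : Subgroup G) (n : ℕ) : rL H ≤ rSeq H (2 * n + 1) := by
  rw [← map_puigSeq_subtype]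
  apply Subgroup.map_mono
  exact iInf_le (fun n : ℕ => puigSeq H (2 * n + 1)) n

/-- The centre in the frozen spelling. -/
theorem center_map_eq_rZ (H : Subgroup G) :
    ((Subgroup.center (puigSubgroup H)).map (puigSubgroup H).subtype).map H.subtype = rZ H := by
  apply le_antisymm
  · rintro _ ⟨_, ⟨z, hz, rfl⟩, rfl⟩
    refine ⟨⟨z, z.2, rfl⟩, Subgroup.mem_centralizer_iff.mpr ?_⟩
    rintro _ ⟨y, hy, rfl⟩
    have := (Subgroup.mem_center_iff.mp hz) ⟨y, hy⟩
    exact congrArg (fun w => ((w : H) : G)) (congrArg Subtype.val this)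
  · rintro x ⟨⟨y, hy, rfl⟩, hc⟩
    have hc' : ((y : H) : G) ∈ Subgroup.centralizer (rL H : Set G) := hc
    rw [Subgroup.mem_centralizer_iff] at hc'
    refine ⟨y, ⟨⟨y, hy⟩, Subgroup.mem_center_iff.mpr ?_, rfl⟩, rfl⟩
    rintro ⟨w, hw⟩
    apply Subtype.ext
    apply Subtype.ext
    exact hc' _ ⟨w, hw, rfl⟩

theorem map_rL {G' : Type v} [Group G'] (f : G →* G') {H : Subgroup G} [Finite H]
    [Finite (H.map f)] (hinj : ∀ x ∈ H, f x = 1 → x = 1) : (rL H).map f = rL (H.map f) := by
  obtain ⟨k₁, hk₁⟩ := exists_rSeq_stable H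
  obtain ⟨k₂, hk₂⟩ := exists_rSeq_stable (H.map f)
  have h1 := (hk₁ (max k₁ k₂) (le_max_left _ _)).2
  have h2 := (hk₂ (max k₁ k₂) (le_max_right _ _)).2
  rw [← h1, ← h2, map_rSeq f hinj]

theorem map_rLs {G' : Type v} [Group G'] (f : G →* G') {H : Subgroup G} [Finite H]
    [Finite (H.map f)] (hinj : ∀ x ∈ H, f x = 1 → x = 1) : (rLs H).map f = rLs (H.map f) := by
  obtain ⟨k₁, hk₁⟩ := exists_rSeq_stable H
  obtain ⟨k₂, hk₂⟩ := exists_rSeq_stable (H.map f)
  have h1 := (hk₁ (max k₁ k₂) (le_max_left _ _)).1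
  have h2 := (hk₂ (max k₁ k₂) (le_max_right _ _)).1
  rw [← h1, ← h2, map_rSeq f hinj]

theorem map_rZ {G' : Type v} [Group G'] (f : G →* G') {H : Subgroup G} [Finite H]
    [Finite (H.map f)] (hinj : ∀ x ∈ H, f x = 1 → x = 1) : (rZ H).map f = rZ (H.map f) := by
  have hL := map_rL f hinj
  apply le_antisymm
  · rintro _ ⟨z, ⟨hz₁, hz₂⟩, rfl⟩
    refine ⟨?_, ?_⟩
    · rw [← hL]; exact Subgroup.mem_map_of_mem _ hz₁
    · refine Subgroup.mem_centralizer_iff.mpr ?_
      intro y hy
      have hy' : y ∈ rL (H.map f) := hy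
      rw [← hL] at hy'
      obtain ⟨w, hw, rfl⟩ := hy'
      have hz₂' : z ∈ Subgroup.centralizer (rL H : Set G) := hz₂
      rw [Subgroup.mem_centralizer_iff] at hz₂'
      rw [← map_mul, ← map_mul, hz₂' w hw]
  · rintro z' ⟨hz₁, hz₂⟩
    have hz₁' : z' ∈ rL (H.map f) := hz₁
    rw [← hL] at hz₁'
    obtain ⟨z, hz, rfl⟩ := hz₁'
    refine ⟨z, ⟨hz, Subgroup.mem_centralizer_iff.mpr ?_⟩, rfl⟩
    intro y hy
    have hz₂' : f z ∈ Subgroup.centralizer (rL (H.map f) : Set G') := hz₂
    rw [Subgroup.mem_centralizer_iff] at hz₂'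
    have h1 := hz₂' (f y) (by
      have : f y ∈ (rL H).map f := Subgroup.mem_map_of_mem _ hy
      rw [hL] at this
      exact this)
    have h2 : y * z * (z * y)⁻¹ = 1 := by
      apply hinj
      · have hyH : y ∈ H := rL_le H hy
        have hzH : z ∈ H := rL_le H hz
        exact H.mul_mem (H.mul_mem hyH hzH) (H.inv_mem (H.mul_mem hzH hyH))
      · rw [map_mul, map_mul, map_inv, map_mul, h1, mul_inv_cancel]
    exact mul_inv_eq_one.mp h2

section Conj

/-- Conjugation is injective. -/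
theorem conj_inj (g : G) (H : Subgroup G) :
    ∀ x ∈ H, (MulAut.conj g).toMonoidHom x = 1 → x = 1 := by
  intro x _ hx
  exact (map_eq_one_iff _ (MulAut.conj g).injective).mp hx

variable [Finite G]

omit [Finite G] in
theorem map_conj_of_mem_normalizer {H : Subgroup G} {g : G}
    (hg : g ∈ Subgroup.normalizer (H : Set G)) : H.map (MulAut.conj g).toMonoidHom = H := by
  ext x
  rw [Subgroup.mem_normalizer_iff] at hg
  constructor
  · rintro ⟨y, hy, rfl⟩
    exact (hg y).mp hy
  · intro hx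
    refine ⟨g⁻¹ * x * g, ?_, ?_⟩
    · rw [SetLike.mem_coe, hg]
      have : g * (g⁻¹ * x * g) * g⁻¹ = x := by group
      rw [this]; exact hx
    · show g * (g⁻¹ * x * g) * g⁻¹ = x
      group

theorem conj_rZ_mem {H : Subgroup G} {g : G} (hg : g ∈ Subgroup.normalizer (H : Set G)) {z : G}
    (hz : z ∈ rZ H) : g * z * g⁻¹ ∈ rZ H := by
  have h1 : H.map (MulAut.conj g).toMonoidHom = H := map_conj_of_mem_normalizer hg
  have h2 := map_rZ (MulAut.conj g).toMonoidHom (conj_inj g H)
  rw [h1] at h2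
  rw [← h2]
  exact ⟨z, hz, rfl⟩

theorem normalizer_le_normalizer_rZ (H : Subgroup G) :
    Subgroup.normalizer (H : Set G) ≤ Subgroup.normalizer (rZ H : Set G) := by
  intro g hg
  rw [Subgroup.mem_normalizer_iff]
  intro z
  constructor
  · intro hz
    exact conj_rZ_mem hg hz
  · intro hz
    have := conj_rZ_mem (Subgroup.inv_mem _ hg) hz
    have h3 : g⁻¹ * (g * z * g⁻¹) * g⁻¹⁻¹ = z := by group
    rwa [h3] at this

omit [Finite G] in
/-- Terms of the relative series of a normal subgroup are normal. -/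
theorem rSeq_normal {T : Subgroup G} (hT : T.Normal) (n : ℕ) : (rSeq T n).Normal := by
  constructor
  intro x hx g
  have h1 : T.map (MulAut.conj g).toMonoidHom = T :=
    map_conj_of_mem_normalizer (by
      rw [Subgroup.normalizer_eq_top_iff.mpr hT]
      exact Subgroup.mem_top g)
  have h2 := map_rSeq (MulAut.conj g).toMonoidHom (conj_inj g T) n
  rw [h1] at h2
  rw [← h2]
  exact ⟨x, hx, rfl⟩

theorem rZ_normal_of_normal {T : Subgroup G} (hT : T.Normal) : (rZ T).Normal := by
  constructor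
  intro z hz g
  apply conj_rZ_mem _ hz
  rw [Subgroup.normalizer_eq_top_iff.mpr hT]
  exact Subgroup.mem_top g

/-- In a `p`-group `T`, the terms `L_i(T)`, `i > 0`, contain their centralizers in `T`. -/
theorem rSeq_self_centralizing {p : ℕ} [Fact p.Prime] {T : Subgroup G} (hT : IsPGroup p T)
    {i : ℕ} (hi : 0 < i) : T ⊓ Subgroup.centralizer (rSeq T i : Set G) ≤ rSeq T i := by
  rintro x ⟨hxT, hxc⟩
  have hxc' : x ∈ Subgroup.centralizer (rSeq T i : Set G) := hxc
  rw [Subgroup.mem_centralizer_iff] at hxc'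
  have hab : ∀ A : Subgroup T, A.Normal → IsMulCommutative A → A ≤ puigSeq T i := by
    intro A hA hc
    obtain ⟨j, rfl⟩ : ∃ j, i = j + 1 := ⟨i - 1, by omega⟩
    rw [puigSeq_succ]
    exact abelian_normal_le_puigStep _ A hc
  have hmain := centralizer_le_of_abelian_normal_le hT (puigSeq T i) hab
  have h1 : (⟨x, hxT⟩ : T) ∈ puigSeq T i := by
    apply hmain
    rw [Subgroup.mem_centralizer_iff]
    intro y hy
    apply Subtype.ext
    apply hxc'
    rw [← map_puigSeq_subtype]
    exact ⟨y, hy, rfl⟩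
  rw [← map_puigSeq_subtype]
  exact ⟨_, h1, rfl⟩

/-- The comparison of the Puig series of `O_p(G)` and of a Sylow subgroup. -/
theorem rSeq_compare {p : ℕ} [Fact p.Prime] (hodd : p ≠ 2) [Group.IsSolvable G]
    (hG : Odd (Nat.card G)) (hO : pPrimeCore p G = ⊥) (S : Sylow p G) (n : ℕ) :
    rSeq (S : Subgroup G) (2 * n) ≤ rSeq (pCore p G) (2 * n) ∧
      rSeq (pCore p G) (2 * n + 1) ≤ rSeq (S : Subgroup G) (2 * n + 1) := by
  set T := pCore p G with hT
  have hTS : T ≤ (S : Subgroup G) := pCore_le_sylow p S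
  have hTp : IsPGroup p T := isPGroup_pCore p
  have hb : ∀ n : ℕ, rSeq (S : Subgroup G) (2 * n) ≤ rSeq T (2 * n) →
      rSeq T (2 * n + 1) ≤ rSeq (S : Subgroup G) (2 * n + 1) := by
    intro n hn
    rw [rSeq_succ, rSeq_succ]
    refine rStep_le_of fun B hBT hc hN => ?_
    exact le_rStep (hBT.trans hTS) hc (hn.trans hN)
  induction n with
  | zero =>
    have h0 : rSeq (S : Subgroup G) (2 * 0) ≤ rSeq T (2 * 0) := by simp
    exact ⟨h0, hb 0 h0⟩
  | succ n ih =>
    have h0 : rSeq (S : Subgroup G) (2 * (n + 1)) ≤ rSeq T (2 * (n + 1)) := by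
      rw [show 2 * (n + 1) = (2 * n + 1) + 1 by ring, rSeq_succ, rSeq_succ]
      refine rStep_le_of fun B hBS hc hN => ?_
      have hY := ih.2.trans hN
      haveI hYn : (rSeq T (2 * n + 1)).Normal := rSeq_normal inferInstance _
      have hYp : IsPGroup p (rSeq T (2 * n + 1)) := hTp.to_le (rSeq_le T _)
      have h3 : pCore p G ⊓ Subgroup.centralizer (rSeq T (2 * n + 1) : Set G) ≤ rSeq T (2 * n + 1) :=
        rSeq_self_centralizing hTp (by omega)
      have h4 := sSup_le_pCore hodd hG (rSeq T (2 * n + 1)) hYp {B}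
        (by rintro _ rfl; exact ⟨hc, hY⟩) hO h3
      rw [sSup_singleton] at h4
      exact le_rStep h4 hc hY
    exact ⟨h0, hb (n + 1) h0⟩

/-- **S1468 core**. -/
theorem puig_compare {p : ℕ} [Fact p.Prime] (hodd : p ≠ 2) [Group.IsSolvable G]
    (hG : Odd (Nat.card G)) (hO : pPrimeCore p G = ⊥) (S : Sylow p G) :
    rLs (S : Subgroup G) ≤ rLs (pCore p G) ∧ rLs (pCore p G) ≤ rL (pCore p G) ∧
      rL (pCore p G) ≤ rL (S : Subgroup G) := by
  obtain ⟨k₁, hk₁⟩ := exists_rSeq_stable (S : Subgroup G)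
  obtain ⟨k₂, hk₂⟩ := exists_rSeq_stable (pCore p G)
  obtain ⟨h₁, h₂⟩ := rSeq_compare hodd hG hO S (max k₁ k₂)
  rw [(hk₁ _ (le_max_left _ _)).1, (hk₂ _ (le_max_right _ _)).1] at h₁
  rw [(hk₁ _ (le_max_left _ _)).2, (hk₂ _ (le_max_right _ _)).2] at h₂
  exact ⟨h₁, rLs_le_rL _, h₂⟩

/-- If `L(S) ≤ X ≤ S` then `L(X) = L(S)`. -/
theorem rL_eq_of_le {S X : Subgroup G} (hXS : X ≤ S) (hLX : rL S ≤ X) : rL X = rL S := by
  have hi : ∀ n : ℕ, rSeq X (2 * n) ≤ rLs S ∧ rL S ≤ rSeq X (2 * n + 1) := by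
    have h1 : ∀ n : ℕ, rSeq X (2 * n) ≤ rLs S → rL S ≤ rSeq X (2 * n + 1) := by
      intro n hn
      rw [← rStep_rLs S, rSeq_succ]
      refine rStep_le_of fun B hBS hc hN => ?_
      have hBL : B ≤ rL S := by
        rw [← rStep_rLs S]
        exact le_rStep hBS hc hN
      exact le_rStep (hBL.trans hLX) hc (hn.trans hN)
    intro n
    induction n with
    | zero =>
      have h0 : rSeq X (2 * 0) ≤ rLs S := by simp
      exact ⟨h0, h1 0 h0⟩
    | succ n ih =>
      have h0 : rSeq X (2 * (n + 1)) ≤ rLs S := by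
        rw [show 2 * (n + 1) = (2 * n + 1) + 1 by ring, rSeq_succ, ← rStep_rL S]
        refine rStep_le_of fun B hBX hc hN => ?_
        exact le_rStep (hBX.trans hXS) hc (ih.2.trans hN)
      exact ⟨h0, h1 (n + 1) h0⟩
  have hii : ∀ n : ℕ, rSeq S (2 * n) ≤ rSeq X (2 * n) ∧ rSeq X (2 * n + 1) ≤ rSeq S (2 * n + 1) := by
    have h1 : ∀ n : ℕ, rSeq S (2 * n) ≤ rSeq X (2 * n) →
        rSeq X (2 * n + 1) ≤ rSeq S (2 * n + 1) := by
      intro n hn
      rw [rSeq_succ, rSeq_succ]
      refine rStep_le_of fun B hBX hc hN => ?_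
      exact le_rStep (hBX.trans hXS) hc (hn.trans hN)
    intro n
    induction n with
    | zero =>
      have h0 : rSeq S (2 * 0) ≤ rSeq X (2 * 0) := by simp
      exact ⟨h0, h1 0 h0⟩
    | succ n ih =>
      have h0 : rSeq S (2 * (n + 1)) ≤ rSeq X (2 * (n + 1)) := by
        have e : 2 * (n + 1) = (2 * n + 1) + 1 := by ring
        have h2 : rSeq S (2 * (n + 1)) ≤ rLs S := rSeq_even_le_rLs S (n + 1)
        rw [e] at h2 ⊢
        rw [rSeq_succ, rSeq_succ] at *
        refine rStep_le_of fun B hBS hc hN => ?_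
        have hBL : B ≤ X := by
          have : B ≤ rStep S (rSeq S (2 * n + 1)) := le_rStep hBS hc hN
          exact (this.trans h2).trans ((rLs_le_rL S).trans hLX)
        exact le_rStep hBL hc (ih.2.trans hN)
      exact ⟨h0, h1 (n + 1) h0⟩
  obtain ⟨k₁, hk₁⟩ := exists_rSeq_stable S
  obtain ⟨k₂, hk₂⟩ := exists_rSeq_stable X
  have h₁ := (hk₁ (max k₁ k₂) (le_max_left _ _)).2
  have h₂ := (hk₂ (max k₁ k₂) (le_max_right _ _)).2
  apply le_antisymm
  · rw [← h₁, ← h₂]
    exact (hii _).2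
  · rw [← h₂]
    exact (hi _).2

end Conj

/-- **Puig's theorem, part 2**. -/
theorem rZ_normal {p : ℕ} [Fact p.Prime] (hodd : p ≠ 2) :
    ∀ (n : ℕ) (G : Type u) [Group G] [Finite G] [Group.IsSolvable G], Nat.card G = n →
      Odd (Nat.card G) → pPrimeCore p G = ⊥ → ∀ S : Sylow p G, (rZ (S : Subgroup G)).Normal := by
  intro n
  induction n using Nat.strong_induction_on with
  | _ n ih =>
  intro G _ _ _ hn hG hO S
  set Sg : Subgroup G := (S : Subgroup G) with hSg
  set T := pCore p G with hT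
  set L := rL Sg with hL
  set Ls := rLs Sg with hLs
  set LT := rL T with hLT
  set Y := rZ T with hY
  set Z := rZ Sg with hZ
  obtain ⟨hc₁, hc₂, hc₃⟩ := puig_compare hodd hG hO S
  have hTS : T ≤ Sg := pCore_le_sylow p S
  have hTp : IsPGroup p T := isPGroup_pCore p
  haveI hYn : Y.Normal := rZ_normal_of_normal inferInstance
  have hYT : Y ≤ T := inf_le_left.trans (rL_le T)
  have hYp : IsPGroup p Y := hTp.to_le hYT
  have hYc : IsMulCommutative Y := by
    rw [mulComm_iff]
    intro x hx y hy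
    have := hy.2
    have h2 : y ∈ Subgroup.centralizer (LT : Set G) := this
    rw [Subgroup.mem_centralizer_iff] at h2
    exact h2 x hx.1
  -- `Z ≤ Y`
  have hZc : IsMulCommutative Z := by
    rw [mulComm_iff]
    intro x hx y hy
    have h2 : y ∈ Subgroup.centralizer (L : Set G) := hy.2
    rw [Subgroup.mem_centralizer_iff] at h2
    exact h2 x hx.1
  have hZLs : Z ≤ Ls := by
    rw [hLs, ← rStep_rL Sg]
    refine le_rStep (inf_le_left.trans (rL_le Sg)) hZc ?_
    intro x hx
    rw [Subgroup.mem_normalizer_iff]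
    intro z
    have hxc : ∀ w ∈ Z, x * w * x⁻¹ = w := by
      intro w hw
      have h2 : w ∈ Subgroup.centralizer (L : Set G) := hw.2
      rw [Subgroup.mem_centralizer_iff] at h2
      rw [h2 x hx]; group
    constructor
    · intro hz
      rw [hxc z hz]; exact hz
    · intro hz
      have h3 : x⁻¹ * (x * z * x⁻¹) * x = z := by group
      have h4 : x⁻¹ * (x * z * x⁻¹) * x⁻¹⁻¹ = x * z * x⁻¹ := by
        have h5 : x⁻¹ ∈ L := L.inv_mem hx
        have h2 : (x * z * x⁻¹) ∈ Subgroup.centralizer (L : Set G) := hz.2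
        rw [Subgroup.mem_centralizer_iff] at h2
        rw [h2 x⁻¹ h5]; group
      rw [inv_inv, h3] at h4
      rw [h4]; exact hz
  have hZY : Z ≤ Y := by
    intro z hz
    refine ⟨hc₂ (hc₁ (hZLs hz)), Subgroup.mem_centralizer_iff.mpr ?_⟩
    intro y hy
    have h2 : z ∈ Subgroup.centralizer (L : Set G) := hz.2
    rw [Subgroup.mem_centralizer_iff] at h2
    exact h2 y (hc₃ hy)
  -- `Y ≤ L_*(S)`
  have hYLs : Y ≤ Ls := by
    rw [hLs, ← rStep_rL Sg]
    refine le_rStep (hYT.trans hTS) hYc ?_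
    rw [Subgroup.normalizer_eq_top_iff.mpr hYn]
    exact le_top
  -- the subgroup `U`
  set C := Subgroup.centralizer (Y : Set G) with hC
  set U : Subgroup G := (pCore p (G ⧸ C)).comap (QuotientGroup.mk' C) with hU
  haveI hUn : U.Normal := Subgroup.Normal.comap inferInstance _
  have hLU : L ≤ U := by
    rw [hL, ← rStep_rLs Sg]
    refine rStep_le_of fun B _ hc hN b hb => ?_
    exact quadratic_mem_pCore hodd hG Y hYp b (abelian_quadratic hc (hYLs.trans hN) hb)
  -- reduction to normalizing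
  rw [← Subgroup.normalizer_eq_top_iff]
  rw [eq_top_iff]
  by_cases hUtop : U = ⊤
  · intro g _
    have hg : ((g : G) : G ⧸ C) ∈ pCore p (G ⧸ C) := by
      have : g ∈ U := by rw [hUtop]; exact Subgroup.mem_top g
      exact this
    obtain ⟨s, hs, c, hc, rfl⟩ := Cfsg.Agent.Lib.PLocalTools.exists_sylow_mul_of_mk_mem_pCore C S hg
    have hs' : s ∈ Subgroup.normalizer (Z : Set G) :=
      normalizer_le_normalizer_rZ Sg (Subgroup.le_normalizer hs)
    have hc' : c ∈ Subgroup.normalizer (Z : Set G) :=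
      Subgroup.centralizer_le_normalizer (Z : Set G) (Subgroup.centralizer_le hZY hc)
    exact Subgroup.mul_mem _ hs' hc'
  · have hcard : Nat.card U < n := by
      rw [← hn]
      exact lt_of_le_of_ne (Nat.le_of_dvd Nat.card_pos (Subgroup.card_subgroup_dvd_card U))
        (fun h => hUtop (Subgroup.eq_top_of_card_eq U h))
    have hUodd : Odd (Nat.card U) := hG.of_dvd_nat (Subgroup.card_subgroup_dvd_card U)
    have hUO : pPrimeCore p U = ⊥ := by
      have := map_pPrimeCore_of_normal (G := G) p U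
      rw [hO, inf_bot_eq] at this
      exact (Subgroup.map_eq_bot_iff_of_injective _ U.subtype_injective).mp this
    obtain ⟨S₁, hS₁⟩ := Cfsg.Agent.Lib.PResid.exists_sylow_inf_of_normal S U
    have hZU : (rZ (S₁ : Subgroup U)).Normal := ih _ hcard U rfl hUodd hUO S₁
    have hmap : (rZ (S₁ : Subgroup U)).map U.subtype = rZ ((S₁ : Subgroup U).map U.subtype) :=
      map_rZ U.subtype (fun x _ hx => Subtype.ext hx)
    rw [hS₁] at hmap
    have hLX : rL (Sg ⊓ U) = L := rL_eq_of_le inf_le_left (le_inf (rL_le Sg) hLU)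
    have hZX : rZ (Sg ⊓ U) = Z := by
      rw [hZ, rZ, rZ, hLX]
    rw [hZX] at hmap
    have hUN : U ≤ Subgroup.normalizer (Z : Set G) := by
      intro u hu
      rw [← hmap]
      refine Subgroup.le_normalizer_map U.subtype ⟨⟨u, hu⟩, ?_, rfl⟩
      rw [Subgroup.normalizer_eq_top_iff.mpr hZU]
      exact Subgroup.mem_top _
    have hNN : Subgroup.normalizer ((Sg ⊓ U : Subgroup G) : Set G) ≤
        Subgroup.normalizer (Z : Set G) := by
      rw [← hZX]
      exact normalizer_le_normalizer_rZ _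
    have hF := Sylow.normalizer_sup_eq_top S₁
    have hcoe : (S₁ : Subgroup U).map U.subtype = Sg ⊓ U := hS₁
    have hF' : Subgroup.normalizer ((Sg ⊓ U : Subgroup G) : Set G) ⊔ U = ⊤ := by
      rw [← hcoe]
      exact hF
    rw [← hF']
    exact sup_le hNN hUN

/-- **Puig's theorem**, in the relative form. -/
theorem puig_normalizer {G : Type u} [Group G] [Finite G] [Group.IsSolvable G]
    (hG : Odd (Nat.card G)) {p : ℕ} [Fact p.Prime] (hodd : p ≠ 2) (S : Sylow p G) :
    pPrimeCore p G ⊔ Subgroup.normalizer (rZ (S : Subgroup G) : Set G) = ⊤ := by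
  set Sg : Subgroup G := (S : Subgroup G) with hSg
  set Q := pPrimeCore p G with hQ
  set mk := QuotientGroup.mk' Q with hmk
  have hmks : Function.Surjective mk := QuotientGroup.mk'_surjective Q
  set Z := rZ Sg with hZ
  have hinj : ∀ x ∈ Sg, mk x = 1 → x = 1 := by
    intro x hxS hx
    have hxQ : x ∈ Q := (QuotientGroup.eq_one_iff x).mp hx
    have h1 : IsPGroup p (Sg ⊓ Q : Subgroup G) := S.isPGroup'.to_le inf_le_left
    have h2 : (Nat.card (Sg ⊓ Q : Subgroup G)).Coprime p :=
      Nat.Coprime.coprime_dvd_left (Subgroup.card_dvd_of_le inf_le_right)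
        (card_pPrimeCore_coprime (G := G) p)
    have h3 := eq_bot_of_isPGroup_of_coprime h1 h2
    have h4 : x ∈ (Sg ⊓ Q : Subgroup G) := ⟨hxS, hxQ⟩
    rw [h3, Subgroup.mem_bot] at h4
    exact h4
  have hGq : Odd (Nat.card (G ⧸ Q)) := hG.of_dvd_nat (Subgroup.card_quotient_dvd_card Q)
  have hbot : pPrimeCore p (G ⧸ Q) = ⊥ := pPrimeCore_quotient_pPrimeCore p
  have h1 : (rZ (Sg.map mk)).Normal := by
    have := rZ_normal hodd _ (G ⧸ Q) rfl hGq hbot (S.mapSurjective hmks)
    rwa [Sylow.coe_mapSurjective] at this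
  have h2 : Z.map mk = rZ (Sg.map mk) := map_rZ mk hinj
  have hZmapn : (Z.map mk).Normal := by rw [h2]; exact h1
  set W : Subgroup G := (Z.map mk).comap mk with hW
  haveI hWn : W.Normal := Subgroup.Normal.comap hZmapn mk
  have hWeq : W = Z ⊔ Q := by
    rw [hW, Subgroup.comap_map_eq, hmk, QuotientGroup.ker_mk']
  have hZW : Z ≤ W := by rw [hWeq]; exact le_sup_left
  have hZS : Z ≤ Sg := inf_le_left.trans (rL_le Sg)
  have hZp : IsPGroup p Z := S.isPGroup'.to_le hZS
  have hZ₀p : IsPGroup p (Z.subgroupOf W) :=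
    hZp.comap_of_injective W.subtype W.subtype_injective
  have hcardZ₀ : Nat.card (Z.subgroupOf W) = Nat.card Z :=
    Nat.card_congr (Subgroup.subgroupOfEquivOfLe hZW).toEquiv
  have hidx : ¬ p ∣ (Z.subgroupOf W).index := by
    have h3 : (Z.subgroupOf W).index * Nat.card (Z.subgroupOf W) = Nat.card W :=
      Subgroup.index_mul_card _
    have h4 : Nat.card W ∣ Nat.card Z * Nat.card Q := by
      rw [hWeq]; exact card_sup_dvd Z Q
    rw [← h3, hcardZ₀, mul_comm] at h4
    have h5 : (Z.subgroupOf W).index ∣ Nat.card Q :=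
      Nat.dvd_of_mul_dvd_mul_left Nat.card_pos h4
    intro hp
    exact not_dvd_card_pPrimeCore (G := G) p (hp.trans h5)
  let P : Sylow p W := hZ₀p.toSylow hidx
  have hF := Sylow.normalizer_sup_eq_top P
  have hPmap : (P : Subgroup W).map W.subtype = Z := Subgroup.map_subgroupOf_eq_of_le hZW
  have hF' : Subgroup.normalizer (Z : Set G) ⊔ W = ⊤ := by
    rw [← hPmap]
    exact hF
  rw [eq_top_iff, ← hF']
  apply sup_le le_sup_right
  rw [hWeq]
  exact sup_le (Subgroup.le_normalizer.trans le_sup_right) le_sup_left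

end Cfsg.Agent.Lib.BGPuig
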