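import Mathlib
import Cfsg.Prelude.Def_OddOrderLocal
import Cfsg.Agent.Lib.BGTrans

/-!
# Bender-Glauberman section 7: subnormal overgroups of a subgroup with the transitivity hypothesis
(S1395).
-/

set_option autoImplicit false
set_option linter.unusedSectionVars false
set_option linter.unusedVariables false
set_option linter.style.haveILetI false
set_option linter.unusedSimpArgs false

namespace Cfsg.Agent.Lib.BGTrans2

open Cfsg Subgroup Cfsg.Agent.Lib.CoprimeInv Cfsg.Agent.Lib.BGTrans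

universe u

variable {G : Type u} [Group G] [Finite G]

/-- Conjugation by an element normalizing `B` preserves `И*(B;π)`. -/
theorem cj_mem_maxInv_of_normalizer {B Q : Subgroup G} {π : Set ℕ} {x : G}
    (hx : x ∈ normalizer (B : Set G)) (hQ : Q ∈ maxInvSubgroups ⊤ B π) :
    cj Q x ∈ maxInvSubgroups ⊤ B π := by
  have key : ∀ (k : G), k ∈ normalizer (B : Set G) → ∀ Y ∈ invSubgroups ⊤ B π,
      cj Y k ∈ invSubgroups ⊤ B π := by
    intro k hk Y hY
    refine ⟨le_top, ?_, ?_⟩
    · rw [card_cj]; exact hY.2.1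
    · have := normalizer_cj_of_le (g := k) hY.2.2
      rwa [cj_eq_of_mem_normalizer hk] at this
  refine ⟨key x hx Q hQ.1, ?_⟩
  intro R hR hQR
  have h1 : Q ≤ cj R x⁻¹ := by
    have := cj_mono hQR x⁻¹
    rwa [cj_cj_inv] at this
  have h2 := hQ.2 _ (key x⁻¹ (inv_mem hx) R hR) h1
  rw [← h2, cj_inv_cj]

/-- `O_π(X)` is normalized by `N_G(X)`. -/
theorem normalizer_le_normalizer_piCoreOf (π : Set ℕ) (X : Subgroup G) :
    normalizer (X : Set G) ≤ normalizer (piCoreOf π X : Set G) := by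
  intro g hg
  rw [mem_normalizer_iff_cj]
  have hX : cj X g = X := cj_eq_of_mem_normalizer hg
  have h1 : cj (piCoreOf π X) g ≤ piCoreOf π X := by
    apply le_piCoreOf
    · have := cj_mono (piCoreOf_le π X) g
      rwa [hX] at this
    · have := normalizer_cj_of_le (g := g) (le_normalizer_piCoreOf π X)
      rwa [hX] at this
    · rw [card_cj]; exact piCoreOf_primes π X
  exact Subgroup.eq_of_le_of_card_ge h1 (by rw [card_cj])

theorem commutator_self_le' (M : Subgroup G) : ⁅M, M⁆ ≤ M :=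
  Subgroup.commutator_le.mpr fun a ha b hb =>
    M.mul_mem (M.mul_mem (M.mul_mem ha hb) (M.inv_mem ha)) (M.inv_mem hb)

theorem pow_card_subgroup {A : Subgroup G} {a : G} (ha : a ∈ A) : a ^ Nat.card A = 1 := by
  have h : (⟨a, ha⟩ : A) ^ Nat.card A = 1 := pow_card_eq_one'
  have h2 := congrArg Subtype.val h
  rwa [Subgroup.coe_pow, Subgroup.coe_one] at h2

/-- A subgroup of a solvable subgroup is solvable. -/
theorem isSolvable_of_le {H K : Subgroup G} (h : H ≤ K) (hK : Group.IsSolvable K) :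
    Group.IsSolvable H :=
  Group.isSolvable_of_isSolvable_injective (f := Subgroup.inclusion h)
    (Subgroup.inclusion_injective h)

section Step

variable {A : Subgroup G} {q : ℕ} [Fact q.Prime]

/-- The transitivity statement at level `B`. -/
def TrOn (A B : Subgroup G) (q : ℕ) : Prop :=
  ∀ Q₁ ∈ maxInvSubgroups ⊤ B {q}, ∀ Q₂ ∈ maxInvSubgroups ⊤ B {q},
    ∃ k ∈ piCoreOf (primesNotDvd (Nat.card A)) (centralizer (B : Set G)), Q₂ = cj Q₁ k

/-- A `π`-group is coprime to every `π(A)'`-group. -/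
theorem coprime_of_pi {Y C : Subgroup G}
    (hY : ∀ p : ℕ, p.Prime → p ∣ Nat.card Y → p ∈ primesNotDvd (Nat.card A))
    (hC : ∀ r : ℕ, r.Prime → r ∣ Nat.card C → r ∣ Nat.card A) :
    Nat.Coprime (Nat.card Y) (Nat.card C) := by
  apply Nat.coprime_of_dvd
  intro p hp h1 h2
  exact (hY p hp h1).2 (hC p hp h2)

/-- One step up the subnormal chain. -/
theorem step (hG : IsMinSimpleOddOrder G) (hA : TransitivityHypothesis A)
    (hqA : ¬ q ∣ Nat.card A) {B C : Subgroup G} (hAB : A ≤ B) (hBC : B ≤ C) (hC : C ≠ ⊤)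
    (hCπ : ∀ r : ℕ, r.Prime → r ∣ Nat.card C → r ∣ Nat.card A)
    (hCN : C ≤ normalizer (B : Set G)) (hT : TrOn A B q) :
    TrOn A C q ∧ maxInvSubgroups ⊤ C {q} ⊆ maxInvSubgroups ⊤ B {q} := by
  have hB1 : B ≠ ⊥ := by
    intro h
    rw [h, le_bot_iff] at hAB
    exact hA.1 hAB
  have hB2 : B ≠ ⊤ := by
    intro h
    rw [h, top_le_iff] at hBC
    exact hC hBC
  let π' := primesNotDvd (Nat.card A)
  let KB : Subgroup G := piCoreOf π' (centralizer (B : Set G))
  have hKBC : KB ≤ centralizer (B : Set G) := piCoreOf_le _ _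
  have hKBN : KB ≤ normalizer (B : Set G) := hKBC.trans (centralizer_le_normalizer B)
  have hKBp : ∀ p : ℕ, p.Prime → p ∣ Nat.card KB → p ∈ π' := piCoreOf_primes _ _
  have hsN : Group.IsSolvable (normalizer (B : Set G)) :=
    IsMin.solvable hG (IsMin.normalizer_ne_top hG hB1 hB2)
  have hsKB : Group.IsSolvable KB := isSolvable_of_le hKBN hsN
  have hCKB : C ≤ normalizer (KB : Set G) :=
    hCN.trans ((normalizer_le_normalizer_centralizer B).trans
      (normalizer_le_normalizer_piCoreOf _ _))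
  have hcop : Nat.Coprime (Nat.card KB) (Nat.card C) := coprime_of_pi hKBp hCπ
  have hne : (maxInvSubgroups ⊤ B {q}).Nonempty := by
    obtain ⟨Q, hQ, -⟩ := exists_maxInv_ge (H := ⊤) (π := {q}) (A := B) (Y := ⊥)
      (mem_invSubgroups_singleton.mpr ⟨le_top, IsPGroup.of_bot, by rw [normalizer_eq_top]; exact le_top⟩)
    exact ⟨Q, hQ⟩
  obtain ⟨ω, hω, hωC⟩ := glauberman_fixed hsKB hCKB hcop (maxInvSubgroups ⊤ B {q})
    (by
      intro x hx ω hω
      exact cj_mem_maxInv_of_normalizer ((sup_le hKBN hCN) hx) hω)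
    (fun ω₁ h₁ ω₂ h₂ => hT ω₁ h₁ ω₂ h₂) hne
  -- `И*(C;q) ⊆ И*(B;q)`
  have hsub : maxInvSubgroups ⊤ C {q} ⊆ maxInvSubgroups ⊤ B {q} := by
    intro Q hQ
    obtain ⟨-, hQq, hQC⟩ := mem_invSubgroups_singleton.mp hQ.1
    by_cases hQ1 : Q = ⊥
    · subst hQ1
      have hωq := (mem_invSubgroups_singleton.mp hω.1).2.1
      have h1 : ω = ⊥ := hQ.2 ω (mem_invSubgroups_singleton.mpr ⟨le_top, hωq, hωC⟩) bot_le
      rw [← h1]; exact hω
    obtain ⟨Qs, hQs, hQQs⟩ := exists_maxInv_ge (H := ⊤) (π := {q}) (A := B) (Y := Q)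
      (mem_invSubgroups_singleton.mpr ⟨le_top, hQq, hBC.trans hQC⟩)
    by_cases hQeq : Q = Qs
    · rw [hQeq]; exact hQs
    exfalso
    obtain ⟨-, hQsq, hQsB⟩ := mem_invSubgroups_singleton.mp hQs.1
    have hlt : Q < Qs := lt_of_le_of_ne hQQs hQeq
    obtain ⟨t, htQs, htQ, htN⟩ := exists_mem_normalizer_of_lt hQsq hlt
    let H : Subgroup G := normalizer (Q : Set G)
    have hH : H ≠ ⊤ := IsMin.normalizer_ne_top hG hQ1 (IsMin.isPGroup_ne_top hG hQq)
    have hAH : A ≤ H := hAB.trans (hBC.trans hQC)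
    let L : Subgroup G := piCoreOf π' H
    have hLH : L ≤ H := piCoreOf_le _ _
    have hsL : Group.IsSolvable L := isSolvable_of_le hLH (IsMin.solvable hG hH)
    have hCL : C ≤ normalizer (L : Set G) := hQC.trans (le_normalizer_piCoreOf _ H)
    have hcL : Nat.Coprime (Nat.card L) (Nat.card C) := coprime_of_pi (piCoreOf_primes _ _) hCπ
    -- `U = N_{Qs}(Q)` lies in `L`
    let U : Subgroup G := Qs ⊓ H
    have hUq : IsPGroup q U := hQsq.to_le inf_le_left
    have hUA : A ≤ normalizer (U : Set G) :=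
      le_normalizer_inf (hAB.trans hQsB) (hAH.trans le_normalizer)
    have hUL : U ≤ L := TH.le_core hA hH hAH ⟨inf_le_right, primes_of_isPGroup hUq hqA, hUA⟩
    have hQU : Q ≤ U := le_inf hQQs le_normalizer
    have htU : t ∈ U := Subgroup.mem_inf.mpr ⟨htQs, htN⟩
    obtain ⟨S, hS, hSC⟩ := exists_invariant_isSylowIn q hsL hCL hcL
    have hQS : Q ≤ S := by
      have h1 : IsPGroup q (S ⊔ Q : Subgroup G) :=
        isPGroup_sup_of_le_normalizer hS.2.1 hQq (hS.1.trans hLH)
      have h2 := hS.2.2 _ (sup_le hS.1 (hQU.trans hUL)) h1 le_sup_left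
      rw [← h2]; exact le_sup_right
    have hSQ : S = Q := hQ.2 S (mem_invSubgroups_singleton.mpr ⟨le_top, hS.2.1, hSC⟩) hQS
    have hUS : U = S := by
      apply hS.2.2 U hUL hUq
      rw [hSQ]; exact hQU
    apply htQ
    rw [← hSQ, ← hUS]
    exact htU
  refine ⟨?_, hsub⟩
  intro Q₁ hQ₁ Q₂ hQ₂
  have hQ₁' := hsub hQ₁
  have hQ₂' := hsub hQ₂
  obtain ⟨g, hg, hgQ⟩ := hT Q₁ hQ₁' Q₂ hQ₂'
  obtain ⟨-, -, hQ₁C⟩ := mem_invSubgroups_singleton.mp hQ₁.1
  obtain ⟨-, -, hQ₂C⟩ := mem_invSubgroups_singleton.mp hQ₂.1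
  obtain ⟨c, hc, hcQ⟩ := glauberman_trans hsKB hCKB hcop hg hgQ hQ₁C hQ₂C
  refine ⟨c, ?_, hcQ⟩
  have hle : KB ⊓ centralizer (C : Set G) ≤ piCoreOf π' (centralizer (C : Set G)) := by
    apply le_piCoreOf inf_le_right
    · have hCC : centralizer (C : Set G) ≤ centralizer (B : Set G) := Subgroup.centralizer_le hBC
      exact le_normalizer_inf (hCC.trans (le_normalizer_piCoreOf _ _)) le_normalizer
    · exact primes_mono_of_dvd (Subgroup.card_dvd_of_le inf_le_left) hKBp
  exact hle hc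

/-- The whole subnormal chain. -/
theorem chain (hG : IsMinSimpleOddOrder G) (hA : TransitivityHypothesis A)
    (hqA : ¬ q ∣ Nat.card A) {P : Subgroup G} (hP : P ≠ ⊤)
    (hPπ : ∀ r : ℕ, r.Prime → r ∣ Nat.card P → r ∣ Nat.card A) {H₀ : Subgroup P}
    (hsn : H₀.IsSubnormal) (hAH : A ≤ H₀.map P.subtype) (hT : TrOn A (H₀.map P.subtype) q)
    (hsub : maxInvSubgroups ⊤ (H₀.map P.subtype) {q} ⊆ maxInvSubgroups ⊤ A {q}) :
    TrOn A P q ∧ maxInvSubgroups ⊤ P {q} ⊆ maxInvSubgroups ⊤ A {q} := by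
  induction hsn with
  | top =>
    have hmap : ((⊤ : Subgroup P).map P.subtype) = P := by
      rw [← MonoidHom.range_eq_map, Subgroup.range_subtype]
    rw [hmap] at hT hsub
    exact ⟨hT, hsub⟩
  | step H K hle hK hN IH =>
    have hB : H.map P.subtype ≤ K.map P.subtype := Subgroup.map_mono hle
    have hCP : K.map P.subtype ≤ P := Subgroup.map_subtype_le K
    have hC : K.map P.subtype ≠ ⊤ := by
      intro h
      rw [h, top_le_iff] at hCP
      exact hP hCP
    have hCπ : ∀ r : ℕ, r.Prime → r ∣ Nat.card (K.map P.subtype) → r ∣ Nat.card A :=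
      fun r hr hd => hPπ r hr (hd.trans (Subgroup.card_dvd_of_le hCP))
    have hCN : K.map P.subtype ≤ normalizer ((H.map P.subtype : Subgroup G) : Set G) := by
      rintro _ ⟨k, hk, rfl⟩
      rw [mem_normalizer_iff]
      intro y
      have hkk : (⟨k, hk⟩ : K) ∈ normalizer ((H.subgroupOf K : Subgroup K) : Set K) := by
        rw [normalizer_eq_top_iff.mpr hN]; trivial
      constructor
      · rintro ⟨h, hh, rfl⟩
        have h1 := (mem_normalizer_iff.mp hkk ⟨h, hle hh⟩).mp hh
        exact ⟨_, h1, rfl⟩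
      · rintro ⟨z, hz, hzy⟩
        have hzK : z ∈ K := hle hz
        have h0 : y = P.subtype (k⁻¹ * z * k) := by
          have h3 : (z : G) = (k : G) * y * (k : G)⁻¹ := hzy
          simp only [map_mul, map_inv, Subgroup.coe_subtype]
          rw [h3]; group
        rw [h0]
        have hkinv : (⟨k, hk⟩ : K)⁻¹ ∈ normalizer ((H.subgroupOf K : Subgroup K) : Set K) :=
          inv_mem hkk
        have h1 := (mem_normalizer_iff.mp hkinv ⟨z, hzK⟩).mp hz
        have h2 : k⁻¹ * z * k⁻¹⁻¹ ∈ H := h1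
        rw [inv_inv] at h2
        exact ⟨_, h2, rfl⟩
    obtain ⟨hT', hsub'⟩ := step hG hA hqA hAH hB hC hCπ hCN hT
    exact IH (hAH.trans hB) hT' (hsub'.trans hsub)

/-- Bender-Glauberman: subnormal overgroups (S1395). -/
theorem TH.subnormal (hG : IsMinSimpleOddOrder G) (hA : TransitivityHypothesis A)
    (hqA : ¬ q ∣ Nat.card A) {P : Subgroup G} (hP : P ≠ ⊤)
    (hPπ : ∀ r : ℕ, r.Prime → r ∣ Nat.card P → r ∣ Nat.card A) (hAP : A ≤ P)
    (hsn : (A.subgroupOf P).IsSubnormal) (htr : TrOn A A q) :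
    piCoreOf (primesNotDvd (Nat.card A)) (centralizer (A : Set G)) ⊓ centralizer (P : Set G) =
        piCoreOf (primesNotDvd (Nat.card A)) (centralizer (P : Set G)) ∧
      TrOn A P q ∧
      maxInvSubgroups ⊤ P {q} ⊆ maxInvSubgroups ⊤ A {q} ∧
      ∀ Q ∈ maxInvSubgroups ⊤ P {q},
        P ⊓ ⁅normalizer (P : Set G), normalizer (P : Set G)⁆ ≤
            ⁅normalizer (Q : Set G), normalizer (Q : Set G)⁆ ∧
        normalizer (P : Set G) = piCoreOf (primesNotDvd (Nat.card A)) (centralizer (P : Set G)) ⊔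
          (normalizer (P : Set G) ⊓ normalizer (Q : Set G)) := by
  let π' := primesNotDvd (Nat.card A)
  have hmapA : (A.subgroupOf P).map P.subtype = A := by
    rw [Subgroup.subgroupOf_map_subtype]
    exact inf_eq_left.mpr hAP
  obtain ⟨hTP, hsubP⟩ := chain hG hA hqA hP hPπ hsn (by rw [hmapA]) (by rw [hmapA]; exact htr)
    (by rw [hmapA])
  let KP : Subgroup G := piCoreOf π' (centralizer (P : Set G))
  have hKPC : KP ≤ centralizer (P : Set G) := piCoreOf_le _ _
  have hKPp : ∀ p : ℕ, p.Prime → p ∣ Nat.card KP → p ∈ π' := piCoreOf_primes _ _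
  have hCPA : centralizer (P : Set G) ≤ centralizer (A : Set G) := Subgroup.centralizer_le hAP
  have hKPN : KP ≤ normalizer (P : Set G) := hKPC.trans (centralizer_le_normalizer P)
  refine ⟨?_, hTP, hsubP, ?_⟩
  · apply le_antisymm
    · apply le_piCoreOf inf_le_right
      · exact le_normalizer_inf (hCPA.trans (le_normalizer_piCoreOf _ _)) le_normalizer
      · exact primes_mono_of_dvd (Subgroup.card_dvd_of_le inf_le_left) (piCoreOf_primes _ _)
    · exact le_inf (TH.le_K hG hA (hKPC.trans hCPA) hKPp) hKPC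
  intro Q hQ
  -- the Frattini argument
  have hN : normalizer (P : Set G) = KP ⊔ (normalizer (P : Set G) ⊓ normalizer (Q : Set G)) := by
    apply le_antisymm
    · intro g hg
      obtain ⟨k, hk, hkQ⟩ := hTP Q hQ (cj Q g) (cj_mem_maxInv_of_normalizer hg hQ)
      have h1 : k⁻¹ * g ∈ normalizer (Q : Set G) := by
        rw [mem_normalizer_iff_cj, ← cj_cj, hkQ, cj_cj]
        simp [cj_one]
      have h2 : k⁻¹ * g ∈ normalizer (P : Set G) := mul_mem (inv_mem (hKPN hk)) hg
      have h3 : g = k * (k⁻¹ * g) := by group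
      rw [h3]
      exact Subgroup.mul_mem_sup hk (Subgroup.mem_inf.mpr ⟨h2, h1⟩)
    · exact sup_le hKPN inf_le_left
  refine ⟨?_, hN⟩
  -- the commutator statement
  intro x hx
  obtain ⟨hxP, hxN⟩ := Subgroup.mem_inf.mp hx
  let N : Subgroup G := normalizer (P : Set G)
  let M : Subgroup G := N ⊓ normalizer (Q : Set G)
  have hMN : M ≤ N := inf_le_left
  have hNKP : N ≤ normalizer (KP : Set G) :=
    (normalizer_le_normalizer_centralizer P).trans (normalizer_le_normalizer_piCoreOf _ _)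
  -- write `x = k * y` with `k ∈ KP`, `y ∈ M'`
  have hdecomp : ∃ k ∈ KP, ∃ y ∈ (⁅M, M⁆ : Subgroup G), x = k * y := by
    haveI hK₀ : (KP.subgroupOf N).Normal := normal_subgroupOf_of_le_normalizer hNKP
    let f := QuotientGroup.mk' (KP.subgroupOf N)
    have hf : Function.Surjective f := QuotientGroup.mk'_surjective _
    let M₀ : Subgroup N := M.subgroupOf N
    have htop : M₀.map f = ⊤ := by
      rw [eq_top_iff]
      intro q _
      obtain ⟨⟨n, hn⟩, rfl⟩ := hf q
      have hn' : n ∈ KP ⊔ M := by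
        have : n ∈ N := hn
        rw [show N = KP ⊔ M from hN] at this
        exact this
      have hMKP : M ≤ normalizer (KP : Set G) := hMN.trans hNKP
      have hnset : n ∈ ((KP ⊔ M : Subgroup G) : Set G) := hn'
      rw [Subgroup.coe_mul_of_right_le_normalizer_left KP M hMKP] at hnset
      obtain ⟨k, hk, m, hm, rfl⟩ := hnset
      refine ⟨⟨m, hMN hm⟩, hm, ?_⟩
      apply (QuotientGroup.eq).mpr
      show (⟨m, hMN hm⟩ : N)⁻¹ * ⟨k * m, hn⟩ ∈ KP.subgroupOf N
      rw [Subgroup.mem_subgroupOf]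
      show m⁻¹ * (k * m) ∈ KP
      have hmi : m⁻¹ ∈ normalizer (KP : Set G) := inv_mem (hMKP hm)
      have := (mem_normalizer_iff.mp hmi k).mp hk
      simpa [mul_assoc] using this
    have hcomm : commutator N ≤ ⁅M₀, M₀⁆ ⊔ KP.subgroupOf N := by
      have h1 : (commutator N).map f ≤ (⁅M₀, M₀⁆ : Subgroup N).map f := by
        rw [commutator_def, Subgroup.map_commutator, Subgroup.map_commutator, htop,
          ← MonoidHom.range_eq_map, MonoidHom.range_eq_top.mpr hf]
      have h2 := Subgroup.map_le_iff_le_comap.mp h1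
      rw [Subgroup.comap_map_eq, QuotientGroup.ker_mk'] at h2
      exact h2
    have hxc : (⟨x, commutator_self_le' _ hxN⟩ : N) ∈ commutator N := by
      have : x ∈ (commutator N).map N.subtype := by
        rw [Subgroup.map_subtype_commutator]; exact hxN
      obtain ⟨z, hz, hzx⟩ := this
      have : z = ⟨x, commutator_self_le' _ hxN⟩ := Subtype.ext hzx
      rwa [← this]
    have hmem := hcomm hxc
    rw [sup_comm, Subgroup.mem_sup_of_normal_left] at hmem
    obtain ⟨k, hk, y, hy, hky⟩ := hmem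
    refine ⟨(k : G), hk, (y : G), ?_, ?_⟩
    · have h3 : (⁅M₀, M₀⁆ : Subgroup N).map N.subtype ≤ ⁅M, M⁆ := by
        rw [Subgroup.map_commutator]
        have h4 : M₀.map N.subtype ≤ M := by
          show (M.subgroupOf N).map N.subtype ≤ M
          rw [Subgroup.subgroupOf_map_subtype]
          exact inf_le_left
        exact Subgroup.commutator_mono h4 h4
      exact h3 ⟨y, hy, rfl⟩
    · have := congrArg (Subtype.val : N → G) hky
      exact this.symm
  obtain ⟨k, hk, y, hy, hxe⟩ := hdecomp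
  have hkC := hKPC hk
  have hcomm : Commute k x := by
    have := Subgroup.mem_centralizer_iff.mp hkC x hxP
    exact this.symm
  have hyn : y ^ Nat.card KP = x ^ Nat.card KP := by
    have h1 : y = k⁻¹ * x := by rw [hxe]; group
    have hc2 : Commute k⁻¹ x := hcomm.inv_left
    rw [h1, hc2.mul_pow, inv_pow]
    have h2 : k ^ Nat.card KP = 1 := pow_card_subgroup hk
    rw [h2, inv_one, one_mul]
  have hxM : x ^ Nat.card KP ∈ (⁅M, M⁆ : Subgroup G) := by
    rw [← hyn]; exact Subgroup.pow_mem _ hy _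
  have hcopx : (orderOf x).Coprime (Nat.card KP) := by
    have h3 : orderOf x ∣ Nat.card P := Subgroup.orderOf_dvd_natCard P hxP
    exact Nat.Coprime.coprime_dvd_left h3 (coprime_of_pi hKPp hPπ).symm
  have hxM' : x ∈ (⁅M, M⁆ : Subgroup G) := mem_of_pow_mem_of_coprime' hcopx hxM
  exact Subgroup.commutator_mono inf_le_right inf_le_right hxM'

end Step

end Cfsg.Agent.Lib.BGTrans2
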