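import Mathlib
import Cfsg.Prelude.Def_OddOrderLocal
import Cfsg.Agent.Lib.BGTrans
import Cfsg.Agent.Lib.BGTrans2
import Cfsg.Agent.Lib.BGPuig
import Cfsg.Agent.Lib.PCore
import Cfsg.Agent.Lib.BGStable
import Cfsg.Agent.Lib.PLengthOne
import Cfsg.Agent.Lib.PLocalTools
import Cfsg.Agent.Lib.CoprimeHyper

/-!
# Bender-Glauberman section 9: the uniqueness criterion (basic tools).
-/

set_option autoImplicit false
set_option linter.unusedSectionVars false
set_option linter.unusedVariables false
set_option linter.style.haveILetI false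
set_option linter.unusedSimpArgs false

namespace Cfsg.Agent.Lib.BGUniq

open Cfsg Subgroup Cfsg.Agent.Lib.CoprimeInv Cfsg.Agent.Lib.BGTrans Cfsg.Agent.Lib.BGPuig
  Cfsg.Agent.Lib.PCore

universe u

/-- A `p'`-subgroup normalized by a Sylow `p`-subgroup of a finite solvable group lies in `O_{p'}`. -/
theorem le_pPrimeCore_of_sylow_inv {H : Type*} [Group H] [Finite H] [Group.IsSolvable H] {p : ℕ}
    [Fact p.Prime] (P : Sylow p H) (Y : Subgroup H) (hY : (Nat.card Y).Coprime p)
    (hPY : (P : Subgroup H) ≤ normalizer (Y : Set H)) : Y ≤ pPrimeCore p H := by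
  set N := pPrimeCore p H with hN
  have hNn : N.Normal := by rw [hN]; infer_instance
  let π := QuotientGroup.mk' N
  have hT : centralizer (pCore p (H ⧸ N) : Set (H ⧸ N)) ≤ pCore p (H ⧸ N) :=
    centralizer_pCore_le p (pPrimeCore_quotient_pPrimeCore p)
  have hcopy : ∀ y ∈ Y, y ^ Nat.card Y = 1 := fun y hy => by
    have h := orderOf_dvd_natCard (⟨y, hy⟩ : Y)
    rw [Subgroup.orderOf_mk] at h
    exact orderOf_dvd_iff_pow_eq_one.mp h
  -- an element of `π(Y) ∩ O_p` is trivial
  have hkey : ∀ y ∈ Y, π y ∈ pCore p (H ⧸ N) → π y = 1 := by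
    intro y hy hpc
    have h1 : IsPGroup p (pCore p (H ⧸ N)) := isPGroup_pCore p
    obtain ⟨n, hn⟩ := h1 ⟨π y, hpc⟩
    have h2 : (π y) ^ p ^ n = 1 := by simpa using congrArg Subtype.val hn
    have h3 : (π y) ^ Nat.card Y = 1 := by rw [← map_pow, hcopy y hy, map_one]
    have h4 : orderOf (π y) ∣ p ^ n := orderOf_dvd_of_pow_eq_one h2
    have h5 : orderOf (π y) ∣ Nat.card Y := orderOf_dvd_of_pow_eq_one h3
    have h6 : Nat.Coprime (p ^ n) (Nat.card Y) := (Nat.Coprime.pow_right n hY).symm
    have h7 := Nat.eq_one_of_dvd_coprimes h6 h4 h5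
    exact orderOf_eq_one_iff.mp h7
  intro y hy
  have hyC : π y ∈ centralizer (pCore p (H ⧸ N) : Set (H ⧸ N)) := by
    rw [mem_centralizer_iff]
    intro t ht
    obtain ⟨x, rfl⟩ := QuotientGroup.mk'_surjective N t
    obtain ⟨s, hs, c, hc, rfl⟩ :=
      Cfsg.Agent.Lib.PLocalTools.exists_sylow_mul_of_mk_mem_pCore N P (x := x) ht
    have hpi : QuotientGroup.mk' N (s * c) = π s := by
      show π (s * c) = π s
      rw [map_mul]
      have : π c = 1 := (QuotientGroup.eq_one_iff c).mpr hc
      rw [this, mul_one]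
    rw [hpi]
    have hs' : s * y * s⁻¹ ∈ Y := (mem_normalizer_iff.mp (hPY hs) y).mp hy
    set w := s * y * s⁻¹ * y⁻¹ with hw
    have hwY : w ∈ Y := Y.mul_mem hs' (Y.inv_mem hy)
    have hwT : π w ∈ pCore p (H ⧸ N) := by
      have hcore : (pCore p (H ⧸ N)).Normal := by
        haveI := pCore_characteristic (G := H ⧸ N) p
        infer_instance
      have hsT : π s ∈ pCore p (H ⧸ N) := by
        have h8 : π (s * c) ∈ pCore p (H ⧸ N) := ht
        rwa [show π (s * c) = π s from hpi] at h8
      have h9 : π w = π s * (π y * (π s)⁻¹ * (π y)⁻¹) := by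
        simp only [hw, map_mul, map_inv]; group
      rw [h9]
      exact mul_mem hsT (hcore.conj_mem _ (inv_mem hsT) _)
    have h10 := hkey w hwY hwT
    have h11 : π s * π y * (π s)⁻¹ * (π y)⁻¹ = 1 := by
      rw [← h10]; simp only [hw, map_mul, map_inv]
    have h12 : π s * π y = π y * π s := by
      have : π s * π y * (π s)⁻¹ = π y := mul_inv_eq_one.mp h11
      exact mul_inv_eq_iff_eq_mul.mp this
    exact h12.symm ▸ rfl
  have h := hkey y hy (hT hyC)
  exact (QuotientGroup.eq_one_iff y).mp h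

variable {G : Type u} [Group G]

/-- `O_{p'}(X)` for a subgroup `X` of `G`, as a subgroup of `G`. -/
def coreOf (p : ℕ) (X : Subgroup G) : Subgroup G := (pPrimeCore p X).map X.subtype

theorem coreOf_le (p : ℕ) (X : Subgroup G) : coreOf p X ≤ X := Subgroup.map_subtype_le _

theorem card_coreOf (p : ℕ) (X : Subgroup G) : Nat.card (coreOf p X) = Nat.card (pPrimeCore p X) :=
  Subgroup.card_map_of_injective X.subtype_injective

theorem card_coreOf_coprime [Finite G] (p : ℕ) (X : Subgroup G) :
    (Nat.card (coreOf p X)).Coprime p := by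
  rw [card_coreOf]; exact card_pPrimeCore_coprime p

theorem le_normalizer_coreOf (p : ℕ) (X : Subgroup G) :
    X ≤ normalizer (coreOf p X : Set G) := by
  intro x hx
  have hn : (pPrimeCore p X).Normal := inferInstance
  have h1 : (⟨x, hx⟩ : X) ∈ normalizer ((pPrimeCore p X : Subgroup X) : Set X) := by
    rw [normalizer_eq_top_iff.mpr hn]; trivial
  have := Subgroup.le_normalizer_map (H := pPrimeCore p X) X.subtype
    (Subgroup.mem_map_of_mem _ h1)
  exact this

/-- `Y` `p'`-subgroup of `X` normalized by a Sylow `p`-subgroup of `X` lies in `O_{p'}(X)`. -/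
theorem le_coreOf_of_inv [Finite G] {p : ℕ} [Fact p.Prime] {X Y : Subgroup G}
    (hXs : Group.IsSolvable X) (T : Sylow p X) (hYX : Y ≤ X) (hY : (Nat.card Y).Coprime p)
    (hTY : (T : Subgroup X).map X.subtype ≤ normalizer (Y : Set G)) : Y ≤ coreOf p X := by
  have hcard : Nat.card (Y.subgroupOf X) = Nat.card Y :=
    Nat.card_congr (Subgroup.subgroupOfEquivOfLe hYX).toEquiv
  have h1 : (T : Subgroup X) ≤ normalizer ((Y.subgroupOf X : Subgroup X) : Set X) := by
    intro t ht
    rw [mem_normalizer_iff]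
    intro y
    have h2 : (t : G) ∈ normalizer (Y : Set G) := hTY (Subgroup.mem_map_of_mem _ ht)
    have h3 := mem_normalizer_iff.mp h2 (y : G)
    simpa [Subgroup.mem_subgroupOf] using h3
  have h2 := le_pPrimeCore_of_sylow_inv T (Y.subgroupOf X) (by rw [hcard]; exact hY) h1
  intro y hy
  exact ⟨⟨y, hYX hy⟩, h2 (by simpa [Subgroup.mem_subgroupOf] using hy), rfl⟩

/-- A strict `p`-overgroup has a new normalizing element. -/
theorem exists_mem_normalizer_of_lt [Finite G] {p : ℕ} [Fact p.Prime] {R S : Subgroup G}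
    (hS : IsPGroup p S) (hRS : R < S) : ∃ x ∈ S, x ∉ R ∧ x ∈ normalizer (R : Set G) := by
  haveI : Group.IsNilpotent S := hS.isNilpotent
  have hlt : R.subgroupOf S < ⊤ := by
    rw [lt_top_iff_ne_top]
    intro h
    apply hRS.not_ge
    intro x hx
    have : (⟨x, hx⟩ : S) ∈ R.subgroupOf S := by rw [h]; trivial
    simpa [Subgroup.mem_subgroupOf] using this
  have hcond := Group.normalizerCondition_of_isNilpotent (G := S) _ hlt
  obtain ⟨x, hx, hxR⟩ := SetLike.exists_of_lt hcond
  refine ⟨x, x.2, fun h => hxR (by simpa [Subgroup.mem_subgroupOf] using h), ?_⟩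
  rw [mem_normalizer_iff]
  intro g
  have hgS : ∀ g : G, (g ∈ R → g ∈ S) := fun g hg => hRS.le hg
  have hx' := mem_normalizer_iff.mp hx
  constructor
  · intro hg
    have := (hx' ⟨g, hgS g hg⟩).mp (by simpa [Subgroup.mem_subgroupOf] using hg)
    simpa [Subgroup.mem_subgroupOf] using this
  · intro hg
    have hgs : g ∈ S := by
      have h1 := hgS _ hg
      have h2 : (x : G)⁻¹ * ((x : G) * g * (x : G)⁻¹) * (x : G) = g := by group
      rw [← h2]
      exact S.mul_mem (S.mul_mem (S.inv_mem x.2) h1) x.2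
    have := (hx' ⟨g, hgs⟩).mpr (by simpa [Subgroup.mem_subgroupOf] using hg)
    simpa [Subgroup.mem_subgroupOf] using this

/-- `rZ` of a nontrivial `p`-subgroup is nontrivial. -/
theorem rZ_ne_bot [Finite G] {p : ℕ} [Fact p.Prime] {R : Subgroup G} (hR : IsPGroup p R)
    (h1 : R ≠ ⊥) : rZ R ≠ ⊥ := by
  intro h
  -- `Z(R)` lies in `L(R)`
  have hRnt : Nontrivial R := (Subgroup.nontrivial_iff_ne_bot R).mpr h1
  have hZR : (center R).map R.subtype ≠ ⊥ := by
    intro h2
    have h3 : center R = ⊥ := (Subgroup.map_eq_bot_iff_of_injective _ R.subtype_injective).mp h2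
    have := hR.bot_lt_center
    rw [h3] at this
    exact lt_irrefl _ this
  have hZc : IsMulCommutative ((center R).map R.subtype) := by
    refine ⟨⟨?_⟩⟩
    rintro ⟨_, x, hx, rfl⟩ ⟨_, y, hy, rfl⟩
    apply Subtype.ext
    show (x : G) * y = y * x
    exact congrArg Subtype.val ((mem_center_iff.mp hx) y).symm
  have hZn : rLs R ≤ normalizer (((center R).map R.subtype : Subgroup G) : Set G) := by
    intro g hg
    have hgR : g ∈ R := rLs_le R hg
    have hnm : (⟨g, hgR⟩ : R) ∈ normalizer ((center R : Subgroup R) : Set R) := by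
      rw [normalizer_eq_top_iff.mpr inferInstance]; trivial
    exact Subgroup.le_normalizer_map (H := center R) R.subtype (Subgroup.mem_map_of_mem _ hnm)
  have hZL : (center R).map R.subtype ≤ rL R := by
    rw [← rStep_rLs R]
    exact le_rStep (Subgroup.map_subtype_le _) hZc hZn
  have hLne : puigSubgroup R ≠ ⊥ := by
    intro h2
    have h3 : rL R = ⊥ := by unfold rL; rw [h2, Subgroup.map_bot]
    rw [h3] at hZL
    exact hZR (le_bot_iff.mp hZL)
  have hLp : IsPGroup p (puigSubgroup R) := IsPGroup.to_subgroup hR _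
  have hLnt : Nontrivial (puigSubgroup R) := (Subgroup.nontrivial_iff_ne_bot _).mpr hLne
  have h4 := center_map_eq_rZ R
  rw [h] at h4
  have h5 := (Subgroup.map_eq_bot_iff_of_injective _ R.subtype_injective).mp h4
  have h6 := (Subgroup.map_eq_bot_iff_of_injective _ (puigSubgroup R).subtype_injective).mp h5
  have := hLp.bot_lt_center
  rw [h6] at this
  exact lt_irrefl _ this

/-- The Glauberman factorization `X = O_{p'}(X) N_X(Z(L(S)))` in the ambient group. -/
theorem factor_puig [Finite G] {p : ℕ} [Fact p.Prime] (hodd : p ≠ 2) {X : Subgroup G}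
    (hXs : Group.IsSolvable X) (hXo : Odd (Nat.card X)) (T : Sylow p X) {x : G} (hx : x ∈ X) :
    ∃ u ∈ coreOf p X, ∃ n ∈ X, n ∈ normalizer (rZ ((T : Subgroup X).map X.subtype) : Set G) ∧
      x = u * n := by
  have h := puig_normalizer hXo hodd T
  have hmem : (⟨x, hx⟩ : X) ∈ pPrimeCore p X ⊔
      normalizer (rZ (T : Subgroup X) : Set X) := by rw [h]; trivial
  obtain ⟨a, ha, b, hb, hab⟩ := Subgroup.mem_sup_of_normal_left.mp hmem
  have hmap : (rZ (T : Subgroup X)).map X.subtype = rZ ((T : Subgroup X).map X.subtype) :=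
    map_rZ X.subtype (fun y _ hy => Subtype.ext (by simpa using hy))
  refine ⟨a, Subgroup.mem_map_of_mem _ ha, b, b.2, ?_, ?_⟩
  · rw [← hmap]
    exact Subgroup.le_normalizer_map (H := rZ (T : Subgroup X)) X.subtype
      (Subgroup.mem_map_of_mem _ hb)
  · have := congrArg Subtype.val hab
    simpa using this.symm

end Cfsg.Agent.Lib.BGUniq
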