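import Mathlib
import Cfsg.Prelude.Def_OddOrderLocal
import Cfsg.Agent.Lib.BGUniq
import Cfsg.Agent.S1396
import Cfsg.Agent.S1450
import Cfsg.Agent.S1452
import Cfsg.Agent.S1453
import Cfsg.Agent.Lib.BGSigma

/-!
# Bender-Glauberman section 9: the uniqueness criterion.

If `B ≠ 1` is a `p`-subgroup of the maximal subgroup `M` and every `B`-invariant `p'`-subgroup
of `G` lies in `M`, then `M` is the only maximal subgroup containing `B`.
-/

set_option autoImplicit false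
set_option linter.unusedSectionVars false
set_option linter.unusedVariables false
set_option linter.style.haveILetI false
set_option linter.unusedSimpArgs false

namespace Cfsg.Agent.Lib.BGUniq2

open Cfsg Subgroup Cfsg.Agent.Lib.CoprimeInv Cfsg.Agent.Lib.BGTrans Cfsg.Agent.Lib.BGTrans2
  Cfsg.Agent.Lib.BGPuig Cfsg.Agent.Lib.PCore Cfsg.Agent.Lib.BGUniq

universe u

variable {G : Type u} [Group G] [Finite G] {p : ℕ} [hpf : Fact p.Prime]

theorem card_lt_of_lt' {A B : Subgroup G} (h : A < B) : Nat.card A < Nat.card B := by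
  refine lt_of_le_of_ne (Subgroup.card_le_of_le h.le) ?_
  intro h2
  exact h.ne (Subgroup.eq_of_le_of_card_ge h.le h2.ge)

theorem coatom_eq {H M : Subgroup G} (hH : IsCoatom H) (hM : IsCoatom M) (h : H ≤ M) : H = M := by
  by_contra hne
  exact hM.1 (hH.2 M (lt_of_le_of_ne h hne))

theorem map_toSylow {S X : Subgroup G} (h : IsSylowIn p S X) :
    ((h.toSylow : Subgroup X)).map X.subtype = S := by
  rw [h.coe_toSylow]
  exact Subgroup.map_subgroupOf_eq_of_le h.1

theorem factor (hodd : p ≠ 2) {S X : Subgroup G}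
    (hXs : Group.IsSolvable X) (hXo : Odd (Nat.card X)) (hS : IsSylowIn p S X) {x : G} (hx : x ∈ X) :
    ∃ u ∈ coreOf p X, ∃ n ∈ X, n ∈ normalizer (rZ S : Set G) ∧ x = u * n := by
  have := factor_puig hodd hXs hXo hS.toSylow hx
  rwa [map_toSylow] at this

theorem le_core {S X Y : Subgroup G} (hXs : Group.IsSolvable X) (hS : IsSylowIn p S X)
    (hYX : Y ≤ X) (hY : (Nat.card Y).Coprime p) (hSY : S ≤ normalizer (Y : Set G)) :
    Y ≤ coreOf p X :=
  le_coreOf_of_inv hXs hS.toSylow hYX hY (by rwa [map_toSylow])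

theorem IsMin.odd_card (hG : IsMinSimpleOddOrder G) (X : Subgroup G) : Odd (Nat.card X) :=
  Odd.of_dvd_nat hG.1 (Subgroup.card_subgroup_dvd_card X)

theorem rZ_le' (H : Subgroup G) : rZ H ≤ H :=
  inf_le_left.trans (Subgroup.map_subtype_le _)

theorem prime_ne_two_of_dvd (hG : IsMinSimpleOddOrder G) {q : ℕ} (hq : q ∣ Nat.card G) : q ≠ 2 := by
  rintro rfl
  exact (Nat.not_even_iff_odd.mpr hG.1) (even_iff_two_dvd.mpr hq)

theorem dvd_card_of_isPGroup {B : Subgroup G} (hB : IsPGroup p B) (h1 : B ≠ ⊥) :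
    p ∣ Nat.card B := by
  obtain ⟨k, hk⟩ := IsPGroup.iff_card.mp hB
  rw [hk]
  rcases k with _ | k
  · exfalso
    apply h1
    exact (Subgroup.eq_bot_iff_card B).mpr (by simpa using hk)
  · exact dvd_pow_self p (Nat.succ_ne_zero k)

theorem dvd_of_isPGroup {B : Subgroup G} (hB : IsPGroup p B) (h1 : B ≠ ⊥) :
    p ∣ Nat.card G :=
  (dvd_card_of_isPGroup hB h1).trans (Subgroup.card_subgroup_dvd_card B)

/-- `Y` has all its `B`-invariant `p'`-subgroups in `M`. -/
def InvLe (B M : Subgroup G) (p : ℕ) : Prop :=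
  ∀ Y : Subgroup G, (Nat.card Y).Coprime p → B ≤ normalizer (Y : Set G) → Y ≤ M

theorem InvLe.core {B M X : Subgroup G} (h : InvLe B M p) (hBX : B ≤ X) : coreOf p X ≤ M :=
  h _ (card_coreOf_coprime p X) (hBX.trans (le_normalizer_coreOf p X))

theorem le_of_factor (hG : IsMinSimpleOddOrder G) (hodd : p ≠ 2) {X S M : Subgroup G} (hX : X ≠ ⊤)
    (hS : IsSylowIn p S X) (hc : coreOf p X ≤ M)
    (hn : X ⊓ normalizer (rZ S : Set G) ≤ M) : X ≤ M := by
  intro x hx
  obtain ⟨u, hu, n, hn1, hn2, rfl⟩ := factor hodd (IsMin.solvable hG hX) (IsMin.odd_card hG X) hS hx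
  exact M.mul_mem (hc hu) (hn ⟨hn1, hn2⟩)

/-- The maximality used in the proof. -/
def Bound (B M R : Subgroup G) (p : ℕ) : Prop :=
  ∀ X D : Subgroup G, X ≠ ⊤ → ¬ X ≤ M → IsPGroup p D → B ≤ D → D ≤ X → D ≤ M →
    Nat.card D ≤ Nat.card R

theorem step_B (hG : IsMinSimpleOddOrder G) (hodd : p ≠ 2) {B M R H P₀ : Subgroup G}
    (hM : IsCoatom M) (hH : IsCoatom H) (hHM : H ≠ M) (hB : InvLe B M p) (hbd : Bound B M R p)
    (hBR : B ≤ R) (hR : IsPGroup p R) (hR1 : R ≠ ⊥) (hRH : R ≤ H)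
    (hP₀ : IsSylowIn p P₀ M) (hRP : R ≤ P₀) : P₀ = R := by
  by_contra hne
  have hlt : R < P₀ := lt_of_le_of_ne hRP (Ne.symm hne)
  have hgrow : ∀ X : Subgroup G, X ≠ ⊤ → normalizer (R : Set G) ≤ X → X ≤ M := by
    intro X hX hNX
    by_contra hXM
    have h := hbd X (P₀ ⊓ normalizer (R : Set G)) hX hXM (hP₀.2.1.to_le inf_le_left)
      (hBR.trans (le_inf hRP le_normalizer)) (inf_le_right.trans hNX) (inf_le_left.trans hP₀.1)
    obtain ⟨t, ht, htR, htN⟩ := CoprimeInv.exists_mem_normalizer_of_lt hP₀.2.1 hlt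
    have h2 : R < P₀ ⊓ normalizer (R : Set G) :=
      lt_of_le_of_ne (le_inf hRP le_normalizer) (fun h3 => htR (by rw [h3]; exact ⟨ht, htN⟩))
    exact absurd h (not_le.mpr (card_lt_of_lt' h2))
  have hN1 : normalizer (R : Set G) ≤ M :=
    hgrow _ (IsMin.normalizer_ne_top hG hR1 (IsMin.isPGroup_ne_top hG hR)) le_rfl
  have hZ1 : rZ R ≠ ⊥ := rZ_ne_bot hR hR1
  have hZt : rZ R ≠ ⊤ := IsMin.isPGroup_ne_top hG (hR.to_le (rZ_le' R))
  have hN2 : normalizer (rZ R : Set G) ≤ M :=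
    hgrow _ (IsMin.normalizer_ne_top hG hZ1 hZt) (normalizer_le_normalizer_rZ R)
  have hRsyl : IsSylowIn p R H := by
    refine ⟨hRH, hR, ?_⟩
    intro S hSH hSp hRS
    by_contra hne2
    have hlt2 : R < S := lt_of_le_of_ne hRS (Ne.symm hne2)
    have hHM' : ¬ H ≤ M := fun hle => hHM (coatom_eq hH hM hle)
    have h := hbd H (S ⊓ normalizer (R : Set G)) hH.1 hHM' (hSp.to_le inf_le_left)
      (hBR.trans (le_inf hRS le_normalizer)) (inf_le_left.trans hSH) (inf_le_right.trans hN1)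
    obtain ⟨t, ht, htR, htN⟩ := CoprimeInv.exists_mem_normalizer_of_lt hSp hlt2
    have h2 : R < S ⊓ normalizer (R : Set G) :=
      lt_of_le_of_ne (le_inf hRS le_normalizer) (fun h3 => htR (by rw [h3]; exact ⟨ht, htN⟩))
    exact absurd h (not_le.mpr (card_lt_of_lt' h2))
  exact hHM (coatom_eq hH hM (le_of_factor hG hodd hH.1 hRsyl (hB.core (hBR.trans hRH))
    (inf_le_right.trans hN2)))

theorem eq_of_coatom_of_le_normalizer (hG : IsMinSimpleOddOrder G) {M U : Subgroup G}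
    (hM : IsCoatom M) (hU1 : U ≠ ⊥) (hUt : U ≠ ⊤) (h : M ≤ normalizer (U : Set G)) :
    normalizer (U : Set G) = M := by
  by_contra hne
  exact (IsMin.normalizer_ne_top hG hU1 hUt) (hM.2 _ (lt_of_le_of_ne h (Ne.symm hne)))

theorem step_C (hG : IsMinSimpleOddOrder G) (hodd : p ≠ 2) {B M H P₀ : Subgroup G}
    (hM : IsCoatom M) (hH : IsCoatom H) (hHM : H ≠ M) (hB : InvLe B M p) (hbd : Bound B M P₀ p)
    (hBP : B ≤ P₀) (hP1 : P₀ ≠ ⊥) (hPH : P₀ ≤ H) (hP₀ : IsSylowIn p P₀ M) :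
    coreOf p M ≠ ⊥ := by
  intro hU
  have hMZ : M ≤ normalizer (rZ P₀ : Set G) := by
    intro x hx
    obtain ⟨u, hu, n, _, hn, rfl⟩ :=
      factor hodd (IsMin.solvable hG hM.1) (IsMin.odd_card hG M) hP₀ hx
    rw [hU, mem_bot] at hu
    subst hu
    simpa using hn
  have hR := hP₀.2.1
  have hZ1 : rZ P₀ ≠ ⊥ := rZ_ne_bot hR hP1
  have hZt : rZ P₀ ≠ ⊤ := IsMin.isPGroup_ne_top hG (hR.to_le (rZ_le' P₀))
  have hNZ : normalizer (rZ P₀ : Set G) = M := eq_of_coatom_of_le_normalizer hG hM hZ1 hZt hMZ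
  have hNP : normalizer (P₀ : Set G) ≤ M := (normalizer_le_normalizer_rZ P₀).trans hNZ.le
  have hPsyl : IsSylowIn p P₀ H := by
    refine ⟨hPH, hR, ?_⟩
    intro S hSH hSp hRS
    by_contra hne2
    have hlt2 : P₀ < S := lt_of_le_of_ne hRS (Ne.symm hne2)
    have hHM' : ¬ H ≤ M := fun hle => hHM (coatom_eq hH hM hle)
    have h := hbd H (S ⊓ normalizer (P₀ : Set G)) hH.1 hHM' (hSp.to_le inf_le_left)
      (hBP.trans (le_inf hRS le_normalizer)) (inf_le_left.trans hSH) (inf_le_right.trans hNP)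
    obtain ⟨t, ht, htR, htN⟩ := CoprimeInv.exists_mem_normalizer_of_lt hSp hlt2
    have h2 : P₀ < S ⊓ normalizer (P₀ : Set G) :=
      lt_of_le_of_ne (le_inf hRS le_normalizer) (fun h3 => htR (by rw [h3]; exact ⟨ht, htN⟩))
    exact absurd h (not_le.mpr (card_lt_of_lt' h2))
  exact hHM (coatom_eq hH hM (le_of_factor hG hodd hH.1 hPsyl (hB.core (hBP.trans hPH))
    (inf_le_right.trans hNZ.le)))

theorem step_D (hG : IsMinSimpleOddOrder G) {B M P₀ : Subgroup G} (hM : IsCoatom M)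
    (hU1 : coreOf p M ≠ ⊥) (hP₀ : IsSylowIn p P₀ M) (hB : InvLe B M p) (hBP : B ≤ P₀) :
    normalizer (P₀ : Set G) ≤ M := by
  have hUt : coreOf p M ≠ ⊤ := fun h => hM.1 (top_le_iff.mp (h ▸ coreOf_le p M))
  have hUN : normalizer (coreOf p M : Set G) = M :=
    eq_of_coatom_of_le_normalizer hG hM hU1 hUt (le_normalizer_coreOf p M)
  intro x hx
  have hcj : cj P₀ x = P₀ := cj_eq_of_mem_normalizer hx
  have h1 : P₀ ≤ normalizer (cj (coreOf p M) x : Set G) := by
    have := normalizer_cj_of_le (g := x) (hP₀.1.trans (le_normalizer_coreOf p M))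
    rwa [hcj] at this
  have hc : (Nat.card (cj (coreOf p M) x)).Coprime p := by
    rw [card_cj]; exact card_coreOf_coprime p M
  have h2 : cj (coreOf p M) x ≤ M := hB _ hc (hBP.trans h1)
  have h3 : cj (coreOf p M) x ≤ coreOf p M :=
    le_core (IsMin.solvable hG hM.1) hP₀ h2 hc h1
  have h4 : cj (coreOf p M) x = coreOf p M :=
    Subgroup.eq_of_le_of_card_ge h3 (by rw [card_cj])
  rw [← hUN]
  exact mem_normalizer_of_cj_eq h4

/-- The final closure argument. -/
theorem step_F (hG : IsMinSimpleOddOrder G) (hodd : p ≠ 2) {M H S D : Subgroup G}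
    (hM : IsCoatom M) (hH : IsCoatom H) (hne : H ≠ M)
    (hU1 : coreOf p M ≠ ⊥) (hSM : IsSylowIn p S M) (hSH : IsSylowIn p S H)
    (hZ : normalizer (rZ S : Set G) ≤ H)
    (hcore : coreOf p H ≤ M)
    (hDW : D ≤ (pPrimePCore p H).map H.subtype) (hD : InvLe D M p) : False := by
  set U := coreOf p M with hU
  have hUt : U ≠ ⊤ := fun h => hM.1 (top_le_iff.mp (h ▸ coreOf_le p M))
  have hUN : normalizer (U : Set G) = M :=
    eq_of_coatom_of_le_normalizer hG hM hU1 hUt (le_normalizer_coreOf p M)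
  set W := (pPrimePCore p H).map H.subtype with hW
  have hWM : W ≤ M := by
    rw [hW]
    have h1 := Cfsg.Agent.Lib.PLengthOne.pPrimePCore_le_sup (p := p) hSH.toSylow
    have h2 := Subgroup.map_mono (f := H.subtype) h1
    refine h2.trans ?_
    rw [Subgroup.map_sup]
    refine sup_le hcore ?_
    rw [map_toSylow hSH]
    exact hSM.1
  have hWn : H ≤ normalizer (W : Set G) := by
    intro x hx
    have hn : (pPrimePCore p H).Normal := inferInstance
    have h1 : (⟨x, hx⟩ : H) ∈ normalizer ((pPrimePCore p H : Subgroup H) : Set H) := by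
      rw [normalizer_eq_top_iff.mpr hn]; trivial
    exact Subgroup.le_normalizer_map (H := pPrimePCore p H) H.subtype (Subgroup.mem_map_of_mem _ h1)
  -- every `H`-conjugate of `U` lies in `M`
  have hcjU : ∀ h ∈ H, cj U h ≤ M := by
    intro h hh
    have h1 : cj D h⁻¹ ≤ normalizer (U : Set G) := by
      rw [hUN]
      refine (cj_mono hDW h⁻¹).trans ?_
      rw [cj_eq_of_mem_normalizer (hWn (inv_mem hh))]
      exact hWM
    have h2 := normalizer_cj_of_le (g := h) h1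
    rw [cj_inv_cj] at h2
    exact hD _ (by rw [card_cj]; exact card_coreOf_coprime p M) h2
  let Ut : Subgroup G := ⨆ h : H, cj U (h : G)
  have hUtM : Ut ≤ M := iSup_le fun h => hcjU h h.2
  have hUUt : U ≤ Ut := by
    have := le_iSup (fun h : H => cj U (h : G)) 1
    simpa [cj_one] using this
  have hUtn : H ≤ normalizer (Ut : Set G) := by
    intro x hx
    apply mem_normalizer_of_cj_eq
    refine Subgroup.eq_of_le_of_card_ge ?_ (by rw [card_cj])
    show Subgroup.map _ _ ≤ _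
    rw [Subgroup.map_le_iff_le_comap]
    refine iSup_le fun h => ?_
    intro y hy
    show x * y * x⁻¹ ∈ Ut
    have h1 : x * y * x⁻¹ ∈ cj (cj U (h : G)) x := conj_mem_cj hy
    rw [cj_cj] at h1
    exact (le_iSup (fun h : H => cj U (h : G)) ⟨x * h, mul_mem hx h.2⟩) h1
  have hUt1 : Ut ≠ ⊥ := fun h => hU1 (le_bot_iff.mp (h ▸ hUUt))
  have hUtt : Ut ≠ ⊤ := fun h => hM.1 (top_le_iff.mp (h ▸ hUtM))
  have hNUt := eq_of_coatom_of_le_normalizer hG hH hUt1 hUtt hUtn
  have hUH : U ≤ H := hUUt.trans (le_normalizer.trans hNUt.le)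
  apply hne
  symm
  apply coatom_eq hM hH
  intro x hx
  obtain ⟨u, hu, n, _, hn, rfl⟩ :=
    factor hodd (IsMin.solvable hG hM.1) (IsMin.odd_card hG M) hSM hx
  exact H.mul_mem (hUH hu) (hZ hn)

theorem InvLe.mono {B B' M : Subgroup G} (h : InvLe B M p) (hB : B ≤ B') : InvLe B' M p :=
  fun Y hY hN => h Y hY (hB.trans hN)

theorem ne_top_of_coprime {Y : Subgroup G} (hY : (Nat.card Y).Coprime p) (hp : p ∣ Nat.card G) :
    Y ≠ ⊤ := by
  rintro rfl
  rw [Subgroup.card_top] at hY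
  have h1 : p ∣ 1 := by
    have := Nat.dvd_gcd hp (dvd_refl p)
    rwa [Nat.Coprime.gcd_eq_one hY] at this
  exact (Fact.out : p.Prime).one_lt.ne' (Nat.dvd_one.mp h1)

/-- Reduction to invariant Sylow subgroups. -/
theorem le_of_forall_prime_inv {Y M A : Subgroup G} (hYs : Group.IsSolvable Y)
    (hA : A ≤ normalizer (Y : Set G)) (hc : (Nat.card Y).Coprime (Nat.card A))
    (h : ∀ (q : ℕ) [Fact q.Prime] (Q : Subgroup G), Q ≤ Y → IsPGroup q Q →
      A ≤ normalizer (Q : Set G) → Q ≤ M) : Y ≤ M := by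
  have h1 : M.subgroupOf Y = ⊤ := by
    apply eq_top_of_forall_sylow_le
    intro q hq
    obtain ⟨S, hS, hAS⟩ := exists_invariant_isSylowIn q hYs hA hc
    refine ⟨hS.toSylow, ?_⟩
    intro y hy
    exact h q S hS.1 hS.2.1 hAS hy
  intro y hy
  have : (⟨y, hy⟩ : Y) ∈ M.subgroupOf Y := by rw [h1]; trivial
  exact this

theorem coprime_of_isPGroup {Y A : Subgroup G} (hY : (Nat.card Y).Coprime p) (hA : IsPGroup p A) :
    (Nat.card Y).Coprime (Nat.card A) := by
  obtain ⟨k, hk⟩ := IsPGroup.iff_card.mp hA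
  rw [hk]
  exact Nat.Coprime.pow_right k hY

/-- The `K`-part of the transitivity hypothesis has order prime to `p`. -/
theorem coprime_piCoreOf {A : Subgroup G} (hAp : IsPGroup p A) (hA1 : A ≠ ⊥) (X : Subgroup G) :
    (Nat.card (piCoreOf (primesNotDvd (Nat.card A)) X)).Coprime p := by
  have hpA : p ∣ Nat.card A := dvd_card_of_isPGroup hAp hA1
  apply (Nat.Coprime.symm)
  rw [Nat.Prime.coprime_iff_not_dvd (Fact.out : p.Prime)]
  intro hd
  exact (piCoreOf_primes _ X p Fact.out hd).2 hpA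

theorem coprime_of_pgroup_ne {Q : Subgroup G} {q : ℕ} [Fact q.Prime] (hQ : IsPGroup q Q)
    (hqp : q ≠ p) : (Nat.card Q).Coprime p := by
  obtain ⟨k, hk⟩ := IsPGroup.iff_card.mp hQ
  rw [hk]
  exact Nat.Coprime.pow_left k ((Nat.coprime_primes Fact.out Fact.out).mpr hqp)

theorem eq_bot_of_pgroup_of_coprime {Q : Subgroup G} (hQ : IsPGroup p Q)
    (hc : (Nat.card Q).Coprime p) : Q = ⊥ := by
  by_contra hne
  have := dvd_card_of_isPGroup hQ hne
  have h1 := Nat.dvd_gcd this (dvd_refl p)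
  rw [Nat.Coprime.gcd_eq_one hc] at h1
  exact (Fact.out : p.Prime).one_lt.ne' (Nat.dvd_one.mp h1)

theorem centralizer_ne_top (hG : IsMinSimpleOddOrder G) {A : Subgroup G} (hA1 : A ≠ ⊥)
    (hAt : A ≠ ⊤) : centralizer (A : Set G) ≠ ⊤ := by
  intro h
  apply IsMin.normalizer_ne_top hG hA1 hAt
  exact top_le_iff.mp (h ▸ centralizer_le_normalizer A)

/-- A `P`-fixed member of `И*(A;q)`, by Glauberman's lemma. -/
theorem exists_fixed_maxInv (hG : IsMinSimpleOddOrder G) {S A : Subgroup G} {q : ℕ} [Fact q.Prime]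
    (hAp : IsPGroup p A) (hSp : IsPGroup p S)
    (hTH : TransitivityHypothesis A) (hZ : ¬ RankLE 2 ↥(A ⊓ centralizer (A : Set G)))
    (hqA : ¬ q ∣ Nat.card A) (hSA : S ≤ normalizer (A : Set G)) :
    ∃ Q ∈ maxInvSubgroups ⊤ A {q}, S ≤ normalizer (Q : Set G) := by
  set K := piCoreOf (primesNotDvd (Nat.card A)) (centralizer (A : Set G)) with hK
  have hKC : K ≤ centralizer (A : Set G) := piCoreOf_le _ _
  have hKt : K ≠ ⊤ := fun h =>
    centralizer_ne_top hG hTH.1 hTH.2.1 (top_le_iff.mp (h ▸ hKC))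
  have hKs : Group.IsSolvable K := IsMin.solvable hG hKt
  have hPK : S ≤ normalizer (K : Set G) :=
    hSA.trans ((normalizer_le_normalizer_centralizer A).trans
      (normalizer_le_normalizer_piCoreOf _ _))
  have hc : Nat.Coprime (Nat.card K) (Nat.card S) :=
    coprime_of_isPGroup (coprime_piCoreOf hAp hTH.1 _) hSp
  refine glauberman_fixed hKs hPK hc _ ?_ ?_ ?_
  · intro x hx ω hω
    refine cj_mem_maxInv_of_normalizer ?_ hω
    exact (sup_le (hKC.trans (centralizer_le_normalizer A)) hSA) hx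
  · intro Q₁ h₁ Q₂ h₂
    exact TH.conj_of_rank_three hG hTH hZ hqA Q₁ h₁ Q₂ h₂
  · have hbot : (⊥ : Subgroup G) ∈ invSubgroups ⊤ A {q} := by
      rw [mem_invSubgroups_singleton]
      refine ⟨le_top, IsPGroup.of_bot, ?_⟩
      intro a _
      rw [mem_normalizer_iff]
      intro y
      simp only [mem_bot]
      constructor
      · rintro rfl; simp
      · intro h
        have : a * y * a⁻¹ = 1 := h
        have h2 : y = a⁻¹ * (a * y * a⁻¹) * a := by group
        rw [h2, this]; simp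
    obtain ⟨Q, hQ, _⟩ := exists_maxInv_ge hbot
    exact ⟨Q, hQ⟩

/-- Passage from a normalizing `p`-group `S` of `A` to `A`, under the transitivity hypothesis. -/
theorem inv_le_of_fixed (hG : IsMinSimpleOddOrder G) {A S M : Subgroup G} (hAp : IsPGroup p A)
    (hSp : IsPGroup p S) (hTH : TransitivityHypothesis A)
    (hZ : ¬ RankLE 2 ↥(A ⊓ centralizer (A : Set G))) (hSA : S ≤ normalizer (A : Set G))
    (hT : InvLe S M p) : InvLe A M p := by
  intro Y hY hAY
  have hA1 := hTH.1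
  have hp := dvd_of_isPGroup hAp hA1
  have hYt := ne_top_of_coprime hY hp
  set K := piCoreOf (primesNotDvd (Nat.card A)) (centralizer (A : Set G)) with hK
  have hPK : S ≤ normalizer (K : Set G) :=
    hSA.trans ((normalizer_le_normalizer_centralizer A).trans
      (normalizer_le_normalizer_piCoreOf _ _))
  have hKM : K ≤ M := hT K (coprime_piCoreOf hAp hA1 _) hPK
  apply le_of_forall_prime_inv (IsMin.solvable hG hYt) hAY (coprime_of_isPGroup hY hAp)
  intro q hq Q hQY hQq hAQ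
  by_cases hqp : q = p
  · subst hqp
    have hc : (Nat.card Q).Coprime q :=
      Nat.Coprime.coprime_dvd_left (Subgroup.card_dvd_of_le hQY) hY
    rw [eq_bot_of_pgroup_of_coprime hQq hc]
    exact bot_le
  have hqA : ¬ q ∣ Nat.card A := by
    intro hd
    obtain ⟨k, hk⟩ := IsPGroup.iff_card.mp hAp
    rw [hk] at hd
    exact hqp ((Nat.prime_dvd_prime_iff_eq Fact.out Fact.out).mp
      ((Fact.out : q.Prime).dvd_of_dvd_pow hd))
  have hmem : Q ∈ invSubgroups ⊤ A {q} := mem_invSubgroups_singleton.mpr ⟨le_top, hQq, hAQ⟩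
  obtain ⟨Q', hQ', hQQ'⟩ := exists_maxInv_ge hmem
  obtain ⟨Q₀, hQ₀, hSQ₀⟩ := exists_fixed_maxInv hG hAp hSp hTH hZ hqA hSA
  have hQ₀q : IsPGroup q Q₀ := (mem_invSubgroups_singleton.mp hQ₀.1).2.1
  have hQ₀M : Q₀ ≤ M := hT Q₀ (coprime_of_pgroup_ne hQ₀q hqp) hSQ₀
  obtain ⟨k, hk, e⟩ := TH.conj_of_rank_three hG hTH hZ hqA Q₀ hQ₀ Q' hQ'
  refine hQQ'.trans ?_
  rw [e]
  intro x hx
  rw [mem_cj] at hx
  have h1 := hQ₀M hx
  have hkM := hKM hk
  have h2 : x = k * (k⁻¹ * x * k) * k⁻¹ := by group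
  rw [h2]
  exact M.mul_mem (M.mul_mem hkM h1) (M.inv_mem hkM)

theorem prankLE_of_injective {X Y : Type*} [Group X] [Group Y] {k : ℕ} (f : X →* Y)
    (hf : Function.Injective f) (h : PRankLE p k Y) : PRankLE p k X := by
  intro E hEc hEe
  have h1 := h (E.map f) (by
    refine ⟨⟨?_⟩⟩
    rintro ⟨_, a, ha, rfl⟩ ⟨_, b, hb, rfl⟩
    apply Subtype.ext
    show f a * f b = f b * f a
    rw [← map_mul, ← map_mul]
    congr 1
    exact congrArg Subtype.val (hEc.is_comm.comm (⟨a, ha⟩ : E) ⟨b, hb⟩)) (by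
    rintro _ ⟨a, ha, rfl⟩
    rw [← map_pow, hEe a ha, map_one])
  rwa [Subgroup.card_map_of_injective hf] at h1

/-- A `p`-group of rank at least three has a self-centralizing normal abelian subgroup of
rank at least three. -/
theorem exists_scn3 (hodd : p ≠ 2) {S : Subgroup G} (hS : IsPGroup p S) (hr : ¬ PRankLE p 2 ↥S) :
    ∃ A : Subgroup G, IsSCN S A ∧ ¬ PRankLE p 2 ↥A := by
  obtain ⟨F, hFn, hFe, hFc⟩ := Cfsg.Agent.S1453.exists_normal_p2 hodd hS hr
  haveI := hFn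
  obtain ⟨A', hFA, hAn, hAC, hAr⟩ := Cfsg.Agent.S1452.result p hodd hS hr F hFe hFc
  refine ⟨A'.map S.subtype, ⟨Subgroup.map_subtype_le _, ?_, ?_⟩, ?_⟩
  · intro x hx
    have h1 : (⟨x, hx⟩ : S) ∈ normalizer (A' : Set S) := by
      rw [normalizer_eq_top_iff.mpr hAn]; trivial
    exact Subgroup.le_normalizer_map (H := A') S.subtype (Subgroup.mem_map_of_mem _ h1)
  · ext x
    constructor
    · rintro ⟨hxS, hxC⟩
      have h1 : (⟨x, hxS⟩ : S) ∈ centralizer (A' : Set S) := by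
        rw [Subgroup.mem_centralizer_iff]
        intro a ha
        apply Subtype.ext
        exact Subgroup.mem_centralizer_iff.mp hxC a ⟨a, ha, rfl⟩
      rw [hAC] at h1
      exact ⟨_, h1, rfl⟩
    · rintro ⟨a, ha, rfl⟩
      refine ⟨a.2, ?_⟩
      show (a : G) ∈ centralizer _
      rw [Subgroup.mem_centralizer_iff]
      rintro _ ⟨b, hb, rfl⟩
      have h2 : a ∈ centralizer (A' : Set S) := by rw [hAC]; exact ha
      exact congrArg Subtype.val (Subgroup.mem_centralizer_iff.mp h2 b hb)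
  · intro hle
    apply hAr
    exact prankLE_of_injective (A'.equivMapOfInjective S.subtype S.subtype_injective).toMonoidHom
      (A'.equivMapOfInjective S.subtype S.subtype_injective).injective hle

/-- Conversion to a Sylow subgroup of `G`. -/
def sylowOfTop {S : Subgroup G} (h : IsSylowIn p S ⊤) : Sylow p G where
  toSubgroup := S
  isPGroup' := h.2.1
  is_maximal' := fun hQ hle => h.2.2 _ le_top hQ hle

theorem isSylowIn_of_top {S X : Subgroup G} (h : IsSylowIn p S ⊤) (hX : S ≤ X) :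
    IsSylowIn p S X :=
  ⟨hX, h.2.1, fun R _ hRp hle => h.2.2 R le_top hRp hle⟩

theorem isSylowIn_top_of_normalizer_le' {M P : Subgroup G} (hP : IsSylowIn p P M)
    (hN : normalizer (P : Set G) ≤ M) : IsSylowIn p P ⊤ := by
  refine ⟨le_top, hP.2.1, ?_⟩
  intro R _ hRp hPR
  by_contra hne
  have hlt : P < R := lt_of_le_of_ne hPR (Ne.symm hne)
  obtain ⟨t, htR, htP, htN⟩ := CoprimeInv.exists_mem_normalizer_of_lt hRp hlt
  have h1 := hP.2.2 (R ⊓ normalizer (P : Set G)) (inf_le_right.trans hN)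
    (hRp.to_le inf_le_left) (le_inf hPR le_normalizer)
  apply htP
  rw [← h1]
  exact ⟨htR, htN⟩

/-- The transitivity hypothesis for an SCN-subgroup of rank at least three. -/
theorem th_of_scn (hG : IsMinSimpleOddOrder G) {S A : Subgroup G} (hS : IsSylowIn p S ⊤)
    (hA : IsSCN S A) (hr : ¬ PRankLE p 2 ↥A) :
    TransitivityHypothesis A ∧ ¬ RankLE 2 ↥(A ⊓ centralizer (A : Set G)) := by
  have hAc : IsMulCommutative A := Cfsg.Agent.Lib.BGTH.scn_comm hA
  have hAp : IsPGroup p A := hS.2.1.to_le hA.1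
  have hA1 : A ≠ ⊥ := by
    rintro rfl
    apply hr
    intro E _ _
    have h1 : Nat.card E ≤ Nat.card (⊥ : Subgroup G) := by
      have := Subgroup.card_le_card_group E
      exact this
    rw [Subgroup.card_bot] at h1
    exact h1.trans (Nat.one_le_pow _ _ (Fact.out : p.Prime).pos)
  have hr1 : ¬ PRankLE p 1 A := fun h => hr fun E h1 h2 =>
    (h E h1 h2).trans (Nat.pow_le_pow_right (Fact.out : p.Prime).pos (by norm_num))
  refine ⟨Cfsg.Agent.S1396.result hG p (dvd_of_isPGroup hAp hA1) A hAp hAc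
    (Or.inr ⟨sylowOfTop hS, hA, hr1⟩), ?_⟩
  have h1 : A ≤ centralizer (A : Set G) := by
    intro a ha
    rw [Subgroup.mem_centralizer_iff]
    intro b hb
    exact congrArg Subtype.val (hAc.is_comm.comm (⟨b, hb⟩ : A) ⟨a, ha⟩)
  rw [inf_eq_left.mpr h1]
  exact fun h => hr (h p Fact.out)

/-- Abelian `S`-normal subgroups lie in `O_{p',p}(X)`. -/
theorem scn_le_pPrimePCore {X S A : Subgroup G} (hXs : Group.IsSolvable X) (hXo : Odd (Nat.card X))
    (hS : IsSylowIn p S X) (hAS : A ≤ S) (hAc : IsMulCommutative A)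
    (hSA : S ≤ normalizer (A : Set G)) : A ≤ (pPrimePCore p X).map X.subtype := by
  apply Cfsg.Agent.Lib.BGTH.le_map_of_subgroupOf_le (hAS.trans hS.1)
  have := Cfsg.Agent.Lib.BGStable.abelian_normal_sylow_le hXo hS.toSylow (A.subgroupOf X)
    (fun a ha => by simpa [IsSylowIn.coe_toSylow, Subgroup.mem_subgroupOf] using hAS ha)
    (Cfsg.Agent.Lib.BGTH.isMulCommutative_subgroupOf X hAc)
    (Cfsg.Agent.Lib.BGTH.subgroupOf_le_normalizer hSA)
  exact this

/-- A `p`-subgroup lies in a normal subgroup of index prime to `p`. -/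
theorem le_of_index_coprime {L : Type*} [Group L] [Finite L] (N : Subgroup L) [N.Normal]
    (hN : N.index.Coprime p) {B : Subgroup L} (hB : IsPGroup p B) : B ≤ N := by
  intro x hx
  obtain ⟨k, hk⟩ := hB ⟨x, hx⟩
  have h1 : x ^ p ^ k = 1 := by simpa using congrArg Subtype.val hk
  have h2 : x ^ N.index ∈ N := Subgroup.pow_index_mem N x
  have hc : (orderOf x).Coprime N.index :=
    Nat.Coprime.coprime_dvd_left (orderOf_dvd_of_pow_eq_one h1) (Nat.Coprime.pow_left k hN.symm)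
  exact mem_of_pow_mem_of_coprime' hc h2

theorem p_le_pPrimePCore_of_rank {X B : Subgroup G} (hXs : Group.IsSolvable X)
    (hXo : Odd (Nat.card X)) (hr : PRankLE p 2 ↥X) (hBX : B ≤ X) (hBp : IsPGroup p B)
    (hB1 : B ≠ ⊥) : B ≤ (pPrimePCore p X).map X.subtype := by
  apply Cfsg.Agent.Lib.BGTH.le_map_of_subgroupOf_le hBX
  haveI := hXs
  have hpX : p ∣ Nat.card X :=
    (dvd_card_of_isPGroup hBp hB1).trans (Subgroup.card_dvd_of_le hBX)
  have h := (Cfsg.Agent.S1450.result hXo p hpX hr).2.2.2.2.2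
  have hn : (pPrimePCore p X).Normal := inferInstance
  haveI := hn
  apply le_of_index_coprime _ h
  exact hBp.comap_of_injective X.subtype X.subtype_injective |>.to_le (le_of_eq rfl)

/-- **The uniqueness criterion.** -/
theorem unique_of_inv (hG : IsMinSimpleOddOrder G) {M B : Subgroup G} (hM : IsCoatom M)
    (hBM : B ≤ M) (hBp : IsPGroup p B) (hB1 : B ≠ ⊥) (h : InvLe B M p) : InUniqueMaximal B := by
  refine ⟨M, ⟨hM, hBM⟩, ?_⟩
  rintro H ⟨hH, hBH⟩
  by_contra hHM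
  have hodd : p ≠ 2 := prime_ne_two_of_dvd hG (dvd_of_isPGroup hBp hB1)
  let 𝓕 : Set (Subgroup G) := {R | IsPGroup p R ∧ B ≤ R ∧ R ≤ M ∧ ∃ H, IsCoatom H ∧ H ≠ M ∧ R ≤ H}
  have hne : 𝓕.Nonempty := ⟨B, hBp, le_rfl, hBM, H, hH, hHM, hBH⟩
  obtain ⟨R, hR, hmax⟩ := Set.exists_max_image 𝓕 (fun R => Nat.card R) (Set.toFinite _) hne
  obtain ⟨hRp, hBR, hRM, H₁, hH₁, hH₁M, hRH₁⟩ := hR
  have hbd : Bound B M R p := by
    intro X D hX hXM hDp hBD hDX hDM
    obtain ⟨H', hH', hXH'⟩ := (eq_top_or_exists_le_coatom X).resolve_left hX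
    exact hmax D ⟨hDp, hBD, hDM, H', hH', (by rintro rfl; exact hXM hXH'), hDX.trans hXH'⟩
  have hR1 : R ≠ ⊥ := by
    rintro rfl
    exact hB1 (le_bot_iff.mp hBR)
  obtain ⟨P₀, hP₀, hRP⟩ := exists_isSylowIn_ge p hRM hRp
  have hPR : P₀ = R := step_B hG hodd hM hH₁ hH₁M h hbd hBR hRp hR1 hRH₁ hP₀ hRP
  subst hPR
  have hU1 : coreOf p M ≠ ⊥ := step_C hG hodd hM hH₁ hH₁M h hbd hBR hR1 hRH₁ hP₀
  have hNP : normalizer (P₀ : Set G) ≤ M := step_D hG hM hU1 hP₀ h hBR
  have hPG : IsSylowIn p P₀ ⊤ := isSylowIn_top_of_normalizer_le' hP₀ hNP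
  have hZM : ¬ normalizer (rZ P₀ : Set G) ≤ M := by
    intro hle
    exact hH₁M (coatom_eq hH₁ hM (le_of_factor hG hodd hH₁.1 (isSylowIn_of_top hPG hRH₁)
      (h.core (hBR.trans hRH₁)) (inf_le_right.trans hle)))
  have hZ1 : rZ P₀ ≠ ⊥ := rZ_ne_bot hRp hR1
  have hZt : rZ P₀ ≠ ⊤ := IsMin.isPGroup_ne_top hG (hRp.to_le (rZ_le' P₀))
  obtain ⟨H₂, hH₂, hZH₂⟩ := (eq_top_or_exists_le_coatom _).resolve_left
    (IsMin.normalizer_ne_top hG hZ1 hZt)
  have hH₂M : H₂ ≠ M := by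
    rintro rfl
    exact hZM hZH₂
  have hPH₂ : P₀ ≤ H₂ := (le_normalizer.trans (normalizer_le_normalizer_rZ P₀)).trans hZH₂
  have hSyl₂ : IsSylowIn p P₀ H₂ := isSylowIn_of_top hPG hPH₂
  have hs₂ : Group.IsSolvable H₂ := IsMin.solvable hG hH₂.1
  by_cases hr : PRankLE p 2 ↥H₂
  · exact step_F hG hodd hM hH₂ hH₂M hU1 hP₀ hSyl₂ hZH₂ (h.core (hBR.trans hPH₂))
      (p_le_pPrimePCore_of_rank hs₂ (IsMin.odd_card hG H₂) hr (hBR.trans hPH₂) hBp hB1) h
  · have hrP : ¬ PRankLE p 2 ↥P₀ :=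
      fun hle => hr (Cfsg.Agent.Lib.BGSigma.prankLE_of_isSylowIn hSyl₂ hle)
    obtain ⟨A, hA, hAr⟩ := exists_scn3 hodd hRp hrP
    obtain ⟨hTH, hZA⟩ := th_of_scn hG hPG hA hAr
    exact step_F hG hodd hM hH₂ hH₂M hU1 hP₀ hSyl₂ hZH₂ (h.core (hBR.trans hPH₂))
      (scn_le_pPrimePCore hs₂ (IsMin.odd_card hG H₂) hSyl₂ hA.1
        (Cfsg.Agent.Lib.BGTH.scn_comm hA) hA.2.1)
      (inv_le_of_fixed hG (hRp.to_le hA.1) hRp hTH hZA hA.2.1 (h.mono hBR))

end Cfsg.Agent.Lib.BGUniq2
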