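import Mathlib
import Cfsg.Prelude.Def_OddOrderLocal
import Cfsg.Agent.Lib.BGUniq2
import Cfsg.Agent.S1398
import Cfsg.Agent.Lib.OddPGroup
import Cfsg.Agent.Lib.OddOrderCore

/-!
# Bender-Glauberman section 9: passing uniqueness to centralizing subgroups.
-/

set_option autoImplicit false
set_option linter.unusedSectionVars false
set_option linter.unusedVariables false
set_option linter.style.haveILetI false
set_option linter.unusedSimpArgs false

namespace Cfsg.Agent.Lib.BGUniq3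

open Cfsg Subgroup Cfsg.Agent.Lib.CoprimeInv Cfsg.Agent.Lib.BGTrans Cfsg.Agent.Lib.BGTrans2
  Cfsg.Agent.Lib.BGPuig Cfsg.Agent.Lib.PCore Cfsg.Agent.Lib.BGUniq Cfsg.Agent.Lib.BGUniq2

universe u

variable {G : Type u} [Group G] [Finite G]

theorem bot_not_unique (hG : IsMinSimpleOddOrder G) : ¬ InUniqueMaximal (⊥ : Subgroup G) := by
  rintro ⟨M, ⟨hM, _⟩, huniq⟩
  apply hM.1
  rw [eq_top_iff]
  intro g _
  have hz : zpowers g ≠ ⊤ := by
    intro h
    apply hG.2.2.1
    refine ⟨⟨fun a b => ?_⟩⟩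
    have ha : a ∈ zpowers g := by rw [h]; trivial
    have hb : b ∈ zpowers g := by rw [h]; trivial
    obtain ⟨i, rfl⟩ := Subgroup.mem_zpowers_iff.mp ha
    obtain ⟨j, rfl⟩ := Subgroup.mem_zpowers_iff.mp hb
    exact zpow_mul_comm g i j
  obtain ⟨H, hH, hzH⟩ := (eq_top_or_exists_le_coatom _).resolve_left hz
  have : H = M := huniq H ⟨hH, bot_le⟩
  subst this
  exact hzH (mem_zpowers g)

theorem not_isCyclic_of_ea {E : Subgroup G} {r : ℕ} (hr : r.Prime) (hE : ∀ a ∈ E, a ^ r = 1)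
    (hc : r < Nat.card E) : ¬ IsCyclic E := by
  intro hcyc
  obtain ⟨g, hg⟩ := hcyc
  have h1 : orderOf g = Nat.card E := orderOf_eq_card_of_forall_mem_zpowers hg
  have h2 : g ^ r = 1 := Subtype.ext (by simpa using hE g g.2)
  have := Nat.le_of_dvd hr.pos (orderOf_dvd_of_pow_eq_one h2)
  omega

theorem not_rankLE_of_ea {E : Subgroup G} {r k : ℕ} (hr : r.Prime) (hEc : IsMulCommutative E)
    (hE : ∀ a ∈ E, a ^ r = 1) (hc : r ^ k < Nat.card E) : ¬ RankLE k E := by
  intro h
  have h1 := h r hr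
  rw [Cfsg.Agent.Lib.BGSigma.prankLE_iff] at h1
  have := h1 E le_rfl hEc hE
  omega

/-- S1399. -/
theorem passes_to_centralizing (hG : IsMinSimpleOddOrder G) {L K : Subgroup G}
    (hL : InUniqueMaximal L) (hK : K ≤ centralizer (L : Set G)) (hKr : ¬ RankLE 1 K) :
    InUniqueMaximal K := by
  have hL' := hL
  obtain ⟨M, ⟨hM, hLM⟩, huniq⟩ := hL'
  have hL1 : L ≠ ⊥ := by
    rintro rfl
    exact bot_not_unique hG hL
  obtain ⟨r, hr, E, hEK, hEc, hEe, hEk⟩ := exists_elemAb_of_not_rankLE hKr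
  haveI := Fact.mk hr
  have hrk : r < Nat.card E := by simpa using hEk
  have hCb : ∀ b ∈ E, b ≠ 1 → centralizer ({b} : Set G) ≤ M := by
    intro b hb hb1
    obtain ⟨H, hH, hCH⟩ :=
      (eq_top_or_exists_le_coatom _).resolve_left (IsMin.centralizer_singleton_ne_top hG hb1)
    have hLH : L ≤ H := by
      intro l hl
      apply hCH
      rw [Subgroup.mem_centralizer_singleton_iff]
      exact (Subgroup.mem_centralizer_iff.mp (hK (hEK hb)) l hl)
    rw [← huniq H ⟨hH, hLH⟩]
    exact hCH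
  have hEM : E ≤ M := by
    intro b hb
    by_cases h : b = 1
    · rw [h]; exact one_mem _
    · apply hCb b hb h
      rw [Subgroup.mem_centralizer_singleton_iff]
  have hEu := Cfsg.Agent.S1398.result hG M hM r E hEM ⟨hEc, hEe⟩
    (not_isCyclic_of_ea hr hEe hrk) (Or.inl hCb)
  have hLt : L ≠ ⊤ := fun h => hM.1 (top_le_iff.mp (h ▸ hLM))
  obtain ⟨H₀, hH₀, hCH₀⟩ :=
    (eq_top_or_exists_le_coatom _).resolve_left (centralizer_ne_top hG hL1 hLt)
  refine ⟨H₀, ⟨hH₀, hK.trans hCH₀⟩, ?_⟩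
  rintro H₁ ⟨hH₁, hKH₁⟩
  exact hEu.unique ⟨hH₁, hEK.trans hKH₁⟩ ⟨hH₀, hEK.trans (hK.trans hCH₀)⟩

theorem isCoatom_cj {M : Subgroup G} (hM : IsCoatom M) (g : G) : IsCoatom (cj M g) := by
  constructor
  · intro h
    apply hM.1
    have h1 := cj_cj_inv M g
    rw [h] at h1
    rw [← h1, eq_top_iff]
    intro x _
    rw [mem_cj]
    trivial
  · intro b hb
    have h1 : M < cj b g⁻¹ := by
      refine lt_of_le_of_ne ?_ ?_
      · have := cj_mono hb.le g⁻¹
        rwa [cj_cj_inv] at this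
      · intro h
        apply hb.ne
        rw [h, cj_inv_cj]
    have h2 := hM.2 _ h1
    rw [← cj_inv_cj b g, h2, eq_top_iff]
    intro x _
    rw [mem_cj]
    trivial

theorem inUniqueMaximal_cj {X : Subgroup G} (h : InUniqueMaximal X) (g : G) :
    InUniqueMaximal (cj X g) := by
  obtain ⟨M, ⟨hM, hXM⟩, huniq⟩ := h
  refine ⟨cj M g, ⟨isCoatom_cj hM g, cj_mono hXM g⟩, ?_⟩
  rintro H ⟨hH, hXH⟩
  have h1 : cj H g⁻¹ = M := by
    apply huniq
    refine ⟨isCoatom_cj hH _, ?_⟩
    have := cj_mono hXH g⁻¹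
    rwa [cj_cj_inv] at this
  rw [← h1, cj_inv_cj]

variable {p : ℕ} [hpf : Fact p.Prime]

theorem prankLE_of_le {X Y : Subgroup G} {k : ℕ} (hXY : X ≤ Y) (h : PRankLE p k Y) :
    PRankLE p k X :=
  prankLE_of_injective (Subgroup.inclusion hXY) (Subgroup.inclusion_injective hXY) h

/-- A noncyclic `p`-group, `p` odd, has an elementary abelian subgroup of order `> p`. -/
theorem not_prankLE_one_aux {R : Type u} [Group R] [Finite R] (hodd : p ≠ 2) (hB : IsPGroup p R)
    (hB1 : ¬ IsCyclic R) : ¬ PRankLE p 1 R := by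
  classical
  intro hle
  have hpp : p.Prime := Fact.out
  have hnt : Nontrivial R := by
    by_contra h
    rw [not_nontrivial_iff_subsingleton] at h
    exact hB1 isCyclic_of_subsingleton
  have hcne : center R ≠ ⊥ := hB.bot_lt_center.ne'
  have hdvd : p ∣ Nat.card (center R) :=
    dvd_card_of_isPGroup (hB.to_subgroup _) hcne
  obtain ⟨c, hc⟩ := exists_prime_orderOf_dvd_card' p hdvd
  set z : R := (c : R) with hz
  have hzor : orderOf z = p := by
    rw [hz, Subgroup.orderOf_coe, hc]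
  have hzc : ∀ g : R, g * z = z * g := fun g => (Subgroup.mem_center_iff.mp c.2) g
  set Z : Subgroup R := zpowers z with hZ
  have hZc : Nat.card Z = p := by rw [hZ, Nat.card_zpowers, hzor]
  apply hB1
  apply Cfsg.Agent.Lib.OddPGroup.isCyclic_of_unique hodd hB
  have key : ∀ H : Subgroup R, Nat.card H = p → H = Z := by
    intro H hH
    by_contra hne
    have hZn : Z.Normal := by
      constructor
      intro n hn g
      obtain ⟨k, rfl⟩ := Subgroup.mem_zpowers_iff.mp hn
      have h1 : g * z ^ k * g⁻¹ = z ^ k := by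
        have h2 : Commute g (z ^ k) := Commute.zpow_right (hzc g) k
        rw [h2.eq]; group
      rw [h1]
      exact Subgroup.zpow_mem _ (mem_zpowers z) k
    have hinf : Z ⊓ H = ⊥ := by
      by_contra hb
      have hd1 : Nat.card (Z ⊓ H : Subgroup R) ∣ p := by
        rw [← hZc]; exact Subgroup.card_dvd_of_le inf_le_left
      rcases (Nat.dvd_prime hpp).mp hd1 with h1 | h1
      · exact hb ((Subgroup.eq_bot_iff_card _).mpr h1)
      · have h2 : Z ⊓ H = Z := Subgroup.eq_of_le_of_card_ge inf_le_left (by rw [h1, hZc])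
        have h3 : Z ⊓ H = H := Subgroup.eq_of_le_of_card_ge inf_le_right (by rw [h1, hH])
        exact hne (h3.symm.trans h2)
    have hHcomm : ∀ a ∈ H, ∀ b ∈ H, a * b = b * a := by
      intro a ha b hb
      haveI : Fact (Nat.card H).Prime := ⟨hH ▸ hpp⟩
      haveI : IsCyclic H := isCyclic_of_prime_card rfl
      exact Cfsg.Agent.Lib.OddOrderCore.mul_comm_of_isCyclic this ha hb
    have hZcen : ∀ a ∈ Z, ∀ g : R, g * a = a * g := by
      intro a ha g
      obtain ⟨k, rfl⟩ := Subgroup.mem_zpowers_iff.mp ha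
      exact (Commute.zpow_right (hzc g) k).eq
    have hHexp : ∀ a ∈ H, a ^ p = 1 := fun a ha => by
      have := pow_card_subgroup ha
      rwa [hH] at this
    have hZexp : ∀ a ∈ Z, a ^ p = 1 := fun a ha => by
      have := pow_card_subgroup ha
      rwa [hZc] at this
    have hmem : ∀ x ∈ Z ⊔ H, ∃ a ∈ Z, ∃ b ∈ H, a * b = x :=
      fun x hx => Subgroup.mem_sup_of_normal_left.mp hx
    have h1 := hle (Z ⊔ H) (by
      refine ⟨⟨?_⟩⟩
      rintro ⟨x, hx⟩ ⟨y, hy⟩
      apply Subtype.ext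
      obtain ⟨a₁, ha₁, b₁, hb₁, rfl⟩ := hmem x hx
      obtain ⟨a₂, ha₂, b₂, hb₂, rfl⟩ := hmem y hy
      show a₁ * b₁ * (a₂ * b₂) = a₂ * b₂ * (a₁ * b₁)
      calc a₁ * b₁ * (a₂ * b₂) = a₁ * (b₁ * a₂) * b₂ := by group
        _ = a₁ * (a₂ * b₁) * b₂ := by rw [hZcen a₂ ha₂ b₁]
        _ = (a₁ * a₂) * (b₁ * b₂) := by group
        _ = (a₂ * a₁) * (b₂ * b₁) := by
            rw [hZcen a₁ ha₁ a₂, hHcomm b₁ hb₁ b₂ hb₂]
        _ = a₂ * (a₁ * b₂) * b₁ := by group
        _ = a₂ * (b₂ * a₁) * b₁ := by rw [hZcen a₁ ha₁ b₂]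
        _ = a₂ * b₂ * (a₁ * b₁) := by group) (by
      intro x hx
      obtain ⟨a, ha, b, hb, rfl⟩ := hmem x hx
      have hcm : Commute a b := (hZcen a ha b).symm
      rw [hcm.mul_pow, hZexp a ha, hHexp b hb, one_mul])
    have h2 := card_sup_mul_card_inf (H := H) (N := Z) (le_normalizer_of_normal)
    rw [inf_comm, hinf, Subgroup.card_bot, mul_one, sup_comm, hH, hZc] at h2
    rw [h2, pow_one] at h1
    nlinarith [hpp.two_le]
  intro H K hH hK
  rw [key H hH, key K hK]

theorem not_rankLE_one_of_not_cyclic (hodd : p ≠ 2) {B : Subgroup G} (hB : IsPGroup p B)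
    (hB1 : ¬ IsCyclic B) : ¬ RankLE 1 B :=
  fun h => not_prankLE_one_aux hodd hB hB1 (h p Fact.out)

/-- Normal `E_{p²}`'s in a `p`-group of rank at least three, with the index of its centralizer. -/
theorem exists_normal_p2_data (hodd : p ≠ 2) {T : Subgroup G} (hT : IsPGroup p T)
    (hr : ¬ PRankLE p 2 T) :
    ∃ N : Subgroup G, N ≤ T ∧ T ≤ normalizer (N : Set G) ∧ IsMulCommutative N ∧
      (∀ a ∈ N, a ^ p = 1) ∧ Nat.card N = p ^ 2 ∧
      ∀ X : Subgroup G, X ≤ T → Nat.card X ≤ p * Nat.card (X ⊓ centralizer (N : Set G) : Subgroup G) := by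
  classical
  have hpp : p.Prime := Fact.out
  obtain ⟨F, hFn, hFe, hFc⟩ := Cfsg.Agent.S1453.exists_normal_p2 hodd hT hr
  have hF1 : F ≠ ⊥ := by
    rintro rfl
    rw [Subgroup.card_bot] at hFc
    exact (Nat.one_lt_pow (by norm_num) hpp.one_lt).ne hFc
  obtain ⟨z, hzF, hz1, hzc⟩ := Cfsg.Agent.Lib.OddPGroup.exists_central_of_normal hT F hFn hF1
  have hzp : z ^ p = 1 := hFe.2 z hzF
  have hZn : (zpowers z).Normal := by
    constructor
    intro n hn g
    obtain ⟨k, rfl⟩ := Subgroup.mem_zpowers_iff.mp hn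
    have h1 : g * z ^ k * g⁻¹ = z ^ k := by
      have h2 : Commute g (z ^ k) := Commute.zpow_right ((Subgroup.mem_center_iff.mp hzc) g) k
      rw [h2.eq]; group
    rw [h1]
    exact Subgroup.zpow_mem _ (mem_zpowers z) k
  haveI := hZn
  have hzor : orderOf z = p := orderOf_eq_prime hzp hz1
  have hZc : Nat.card (zpowers z) = p := by rw [Nat.card_zpowers, hzor]
  -- the image of `F` in the quotient is normal and nontrivial
  let π := QuotientGroup.mk' (zpowers z)
  have hπs : Function.Surjective π := QuotientGroup.mk'_surjective _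
  have hFm : (F.map π).Normal := Subgroup.Normal.map hFn π hπs
  have hFm1 : F.map π ≠ ⊥ := by
    intro h
    have hle : F ≤ zpowers z := by
      intro x hx
      have h1 : π x ∈ F.map π := Subgroup.mem_map_of_mem _ hx
      rw [h, mem_bot] at h1
      exact (QuotientGroup.eq_one_iff x).mp h1
    have h2 := Subgroup.card_le_of_le hle
    rw [hFc, hZc] at h2
    nlinarith [hpp.two_le]
  have hQp : IsPGroup p ((T : Subgroup G) ⧸ zpowers z) := hT.to_quotient _
  obtain ⟨c, hcF, hc1, hcc⟩ := Cfsg.Agent.Lib.OddPGroup.exists_central_of_normal hQp _ hFm hFm1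
  obtain ⟨x, hxF, rfl⟩ := hcF
  have hxZ : x ∉ zpowers z := fun h => hc1 ((QuotientGroup.eq_one_iff x).mpr h)
  have hcomm : ∀ t : T, t * x * t⁻¹ * x⁻¹ ∈ zpowers z := by
    intro t
    rw [← QuotientGroup.eq_one_iff]
    show π (t * x * t⁻¹ * x⁻¹) = 1
    have h1 := (Subgroup.mem_center_iff.mp hcc) (π t)
    simp only [map_mul, map_inv]
    rw [h1]
    group
  -- `F` is generated by `z` and `x`
  have hgen : F ≤ closure {z, x} := by
    have h1 : closure {z, x} ≤ F := by
      rw [Subgroup.closure_le]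
      rintro y (rfl | rfl)
      · exact hzF
      · exact hxF
    have h2 : zpowers z < closure {z, x} := by
      refine lt_of_le_of_ne ?_ ?_
      · rw [Subgroup.zpowers_eq_closure]
        exact Subgroup.closure_mono (by simp)
      · intro h
        apply hxZ
        rw [h]
        exact Subgroup.subset_closure (by simp)
    have h3 := card_lt_of_lt' h2
    have h4 : Nat.card (closure {z, x} : Subgroup T) ∣ p ^ 2 := by
      rw [← hFc]; exact Subgroup.card_dvd_of_le h1
    obtain ⟨t, ht, ht2⟩ := (Nat.dvd_prime_pow hpp).mp h4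
    rw [ht2, hZc] at h3
    have ht' : t = 2 := by
      interval_cases t
      · simp at h3
        have := hpp.one_lt
        omega
      · simp at h3
      · rfl
    have hcard : Nat.card F ≤ Nat.card (closure {z, x} : Subgroup T) := by
      rw [hFc, ht2, ht']
    have := Subgroup.eq_of_le_of_card_ge h1 hcard
    rw [this]
  refine ⟨F.map T.subtype, Subgroup.map_subtype_le _, ?_, ?_, ?_, ?_, ?_⟩
  · intro t ht
    have h1 : (⟨t, ht⟩ : T) ∈ normalizer (F : Set T) := by
      rw [normalizer_eq_top_iff.mpr hFn]; trivial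
    exact Subgroup.le_normalizer_map (H := F) T.subtype (Subgroup.mem_map_of_mem _ h1)
  · refine ⟨⟨?_⟩⟩
    rintro ⟨_, a, ha, rfl⟩ ⟨_, b, hb, rfl⟩
    apply Subtype.ext
    exact congrArg (fun y : F => ((y : T) : G)) (hFe.1.is_comm.comm (⟨a, ha⟩ : F) ⟨b, hb⟩)
  · rintro _ ⟨a, ha, rfl⟩
    have := hFe.2 a ha
    simpa using congrArg Subtype.val this
  · rw [Subgroup.card_map_of_injective T.subtype_injective, hFc]
  · intro X hXT
    have hzG : (z : G) ^ p = 1 := by simpa using congrArg Subtype.val hzp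
    have h1 := Cfsg.Agent.Lib.BGTH.card_le_of_conj_mem (P := X) (z := (z : G)) (c := (x : G)) hzG (by
      intro g hg
      have h2 := hcomm ⟨g, hXT hg⟩
      obtain ⟨k, hk⟩ := Subgroup.mem_zpowers_iff.mp h2
      refine Subgroup.mem_zpowers_iff.mpr ⟨k, ?_⟩
      have := congrArg Subtype.val hk
      simpa using this)
    refine h1.trans (Nat.mul_le_mul_left _ (Subgroup.card_le_of_le ?_))
    intro g hg
    obtain ⟨hgX, hgC⟩ := Subgroup.mem_inf.mp hg
    refine Subgroup.mem_inf.mpr ⟨hgX, ?_⟩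
    rw [Subgroup.mem_centralizer_iff]
    rintro _ ⟨f, hf, rfl⟩
    have hgT := hXT hgX
    -- `g` centralizes `z` and `x`, hence `F`
    have hf2 : f ∈ closure {z, x} := hgen hf
    have h3 : closure {z, x} ≤ centralizer ({(⟨g, hgT⟩ : T)} : Set T) := by
      rw [Subgroup.closure_le]
      rintro y (rfl | rfl)
      · rw [SetLike.mem_coe, Subgroup.mem_centralizer_singleton_iff]
        exact ((Subgroup.mem_center_iff.mp hzc) _).symm
      · rw [SetLike.mem_coe, Subgroup.mem_centralizer_singleton_iff]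
        apply Subtype.ext
        exact (Subgroup.mem_centralizer_singleton_iff.mp hgC).symm
    have h4 := h3 hf2
    rw [Subgroup.mem_centralizer_singleton_iff] at h4
    exact congrArg Subtype.val h4

theorem comm_of_le {X Y : Subgroup G} (h : X ≤ Y) (hY : IsMulCommutative Y) : IsMulCommutative X := by
  refine ⟨⟨?_⟩⟩
  rintro ⟨a, ha⟩ ⟨b, hb⟩
  apply Subtype.ext
  have h1 : a * b = b * a := congrArg Subtype.val (hY.is_comm.comm (⟨a, h ha⟩ : Y) ⟨b, h hb⟩)
  exact h1

theorem le_centralizer_of_comm {X Y : Subgroup G} (h : X ≤ Y) (hY : IsMulCommutative Y) :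
    Y ≤ centralizer (X : Set G) := by
  intro a ha
  rw [Subgroup.mem_centralizer_iff]
  intro b hb
  exact congrArg Subtype.val (hY.is_comm.comm (⟨b, h hb⟩ : Y) ⟨a, ha⟩)

theorem le_centralizer_comm {X Y : Subgroup G} (h : X ≤ centralizer (Y : Set G)) :
    Y ≤ centralizer (X : Set G) := by
  intro a ha
  rw [Subgroup.mem_centralizer_iff]
  intro b hb
  exact (Subgroup.mem_centralizer_iff.mp (h hb) a ha).symm

/-- Elementary abelian subgroups of order `> p²` of a `p`-group containing a uniqueness abelian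
subgroup of rank at least three are again uniqueness subgroups. -/
theorem chain_in_T (hG : IsMinSimpleOddOrder G) (hodd : p ≠ 2) {T A E₃ : Subgroup G}
    (hT : IsPGroup p T) (hAT : A ≤ T) (hAc : IsMulCommutative A) (hA3 : ¬ PRankLE p 2 A)
    (hAU : InUniqueMaximal A) (hE : E₃ ≤ T) (hEc : IsMulCommutative E₃) (hEe : ∀ a ∈ E₃, a ^ p = 1)
    (hEk : p ^ 2 < Nat.card E₃) : InUniqueMaximal E₃ := by
  have hpp : p.Prime := Fact.out
  have hTr : ¬ PRankLE p 2 T := fun h => hA3 (prankLE_of_le hAT h)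
  obtain ⟨N, hNT, hTN, hNc, hNe, hNk, hX⟩ := exists_normal_p2_data hodd hT hTr
  have hA3' := hA3
  rw [Cfsg.Agent.Lib.BGSigma.prankLE_iff] at hA3'
  push Not at hA3'
  obtain ⟨E₀, hE₀A, hE₀c, hE₀e, hE₀k⟩ := hA3'
  have hD : ∀ X : Subgroup G, X ≤ T → IsMulCommutative X → (∀ a ∈ X, a ^ p = 1) →
      p ^ 2 < Nat.card X → ¬ RankLE 1 ↥(X ⊓ centralizer (N : Set G)) := by
    intro X hXT hXc hXe hXk
    have h1 := hX X hXT
    have h2 : p < Nat.card (X ⊓ centralizer (N : Set G) : Subgroup G) := by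
      by_contra h
      push Not at h
      have h3 := Nat.mul_le_mul_left p h
      have h4 : p ^ 2 = p * p := by ring
      omega
    exact not_rankLE_of_ea hpp (comm_of_le inf_le_left hXc)
      (fun a ha => hXe a (Subgroup.mem_inf.mp ha).1) (by simpa using h2)
  have hD₁ : InUniqueMaximal (E₀ ⊓ centralizer (N : Set G)) :=
    passes_to_centralizing hG hAU ((inf_le_left.trans hE₀A).trans (le_centralizer_of_comm le_rfl hAc))
      (hD E₀ (hE₀A.trans hAT) hE₀c hE₀e hE₀k)
  have hN : InUniqueMaximal N :=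
    passes_to_centralizing hG hD₁ (le_centralizer_comm inf_le_right)
      (not_rankLE_of_ea hpp hNc hNe (by
        rw [hNk]
        exact Nat.pow_lt_pow_right hpp.one_lt (by norm_num)))
  have hD₃ : InUniqueMaximal (E₃ ⊓ centralizer (N : Set G)) :=
    passes_to_centralizing hG hN inf_le_right (hD E₃ hE hEc hEe hEk)
  exact passes_to_centralizing hG hD₃ (le_centralizer_of_comm inf_le_left hEc)
    (not_rankLE_of_ea hpp hEc hEe ((Nat.pow_lt_pow_right hpp.one_lt (by norm_num)).trans hEk))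

theorem ne_bot_of_not_prankLE {A : Subgroup G} {k : ℕ} (hA : ¬ PRankLE p k A) : A ≠ ⊥ := by
  rintro rfl
  apply hA
  intro E _ _
  have h1 : Nat.card E ≤ Nat.card (⊥ : Subgroup G) := Subgroup.card_le_card_group E
  rw [Subgroup.card_bot] at h1
  exact h1.trans (Nat.one_le_pow _ _ (Fact.out : p.Prime).pos)

/-- S1400. -/
theorem uniq_rank3 (hG : IsMinSimpleOddOrder G) {A B : Subgroup G} (hAp : IsPGroup p A)
    (hAc : IsMulCommutative A) (hA3 : ¬ PRankLE p 2 A) (hAU : InUniqueMaximal A)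
    (hBp : IsPGroup p B) (hBnc : ¬ IsCyclic B) (hB3 : ¬ PRankLE p 2 ↥(centralizer (B : Set G))) :
    InUniqueMaximal B := by
  have hpp : p.Prime := Fact.out
  have hodd : p ≠ 2 := prime_ne_two_of_dvd hG (dvd_of_isPGroup hAp (ne_bot_of_not_prankLE hA3))
  rw [Cfsg.Agent.Lib.BGSigma.prankLE_iff] at hB3
  push Not at hB3
  obtain ⟨E₃, hE₃C, hE₃c, hE₃e, hE₃k⟩ := hB3
  have hE₃p : IsPGroup p E₃ := fun a => ⟨1, Subtype.ext (by simpa using hE₃e a a.2)⟩
  obtain ⟨T₁, hT₁, hAT₁⟩ := exists_isSylowIn_ge p (le_top : A ≤ ⊤) hAp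
  obtain ⟨T₂, hT₂, hE₃T₂⟩ := exists_isSylowIn_ge p (le_top : E₃ ≤ ⊤) hE₃p
  obtain ⟨g, _, hg⟩ := hT₂.exists_conj hT₁
  have hE₁ : cj E₃ g ≤ T₁ := by
    rw [hg]; exact cj_mono hE₃T₂ g
  have h1 : InUniqueMaximal (cj E₃ g) :=
    chain_in_T hG hodd hT₁.2.1 hAT₁ hAc hA3 hAU hE₁
      (Cfsg.Agent.Lib.BGSigma.isMulCommutative_cj hE₃c g)
      (by
        intro a ha
        rw [mem_cj] at ha
        have h3 := hE₃e _ ha
        have h4 : a = g * (g⁻¹ * a * g) * g⁻¹ := by group
        rw [h4, conj_pow, h3]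
        simp)
      (by rwa [card_cj])
  have h2 : InUniqueMaximal E₃ := by
    have := inUniqueMaximal_cj h1 g⁻¹
    rwa [cj_cj_inv] at this
  exact passes_to_centralizing hG h2 (le_centralizer_comm hE₃C)
    (not_rankLE_one_of_not_cyclic hodd hBp hBnc)

end Cfsg.Agent.Lib.BGUniq3
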