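import Mathlib
import Cfsg.Prelude.Def_OddOrderLocal
import Cfsg.Agent.Lib.BGUniq3

/-!
# Bender-Glauberman section 8: generic tools.

* `centralizes_of_self_centralizing`: Thompson's lemma on `p'`-automorphisms.
* `commute_pCore_quotient`: acting trivially on `O_u(E/N)`.
* `le_of_fixed_eq_bot`: coprime action with no fixed points.
* `centralizes_of_fitting`: coprime action trivial on the Fitting subgroup.
* `bl_lemma`: overgroups of `O_r(N)` in `C_N(O_{r'}(F(N)))`.
-/

set_option autoImplicit false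
set_option linter.unusedSectionVars false
set_option linter.unusedVariables false
set_option linter.style.haveILetI false
set_option linter.unusedSimpArgs false

namespace Cfsg.Agent.Lib.BGFit1

open Cfsg Subgroup Cfsg.Agent.Lib.CoprimeInv Cfsg.Agent.Lib.BGTrans Cfsg.Agent.Lib.BGTrans2
  Cfsg.Agent.Lib.PCore Cfsg.Agent.Lib.BGUniq Cfsg.Agent.Lib.BGUniq2 Cfsg.Agent.Lib.BGUniq3

universe u v

section Generic

variable {K : Type u} [Group K] [Finite K]

/-- Iterating an automorphism that moves `x` by a fixed element. -/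
theorem conj_pow_of_fixed {y c x : K} (hc : y * c * y⁻¹ = c) (hx : y * x * y⁻¹ = x * c) (n : ℕ) :
    y ^ n * x * (y ^ n)⁻¹ = x * c ^ n := by
  induction n with
  | zero => simp
  | succ n ih =>
    have h1 : y * c ^ n * y⁻¹ = c ^ n := by
      rw [← conj_pow, hc]
    calc y ^ (n + 1) * x * (y ^ (n + 1))⁻¹ = y * (y ^ n * x * (y ^ n)⁻¹) * y⁻¹ := by
          rw [pow_succ']; group
      _ = y * (x * c ^ n) * y⁻¹ := by rw [ih]
      _ = (y * x * y⁻¹) * (y * c ^ n * y⁻¹) := by group
      _ = x * c * c ^ n := by rw [hx, h1]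
      _ = x * c ^ (n + 1) := by rw [pow_succ']; group

/-- A fixed `c` with `y x y⁻¹ = x c` and `c` of order prime to that of `y` is trivial. -/
theorem eq_one_of_fixed {y c x : K} (hc : y * c * y⁻¹ = c) (hx : y * x * y⁻¹ = x * c)
    (hco : (orderOf y).Coprime (orderOf c)) : c = 1 := by
  have h1 := conj_pow_of_fixed hc hx (orderOf y)
  rw [pow_orderOf_eq_one] at h1
  simp only [one_mul, inv_one, mul_one] at h1
  have h2 : c ^ orderOf y = 1 := by
    have h3 : x * c ^ orderOf y = x := h1.symm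
    simpa using h3
  have h3 : orderOf c ∣ orderOf y := orderOf_dvd_of_pow_eq_one h2
  have h4 : orderOf c = 1 := by
    have h5 := Nat.Coprime.eq_one_of_dvd hco.symm h3
    exact h5
  exact orderOf_eq_one_iff.mp h4

theorem coprime_orderOf_of_isPGroup {u : ℕ} [Fact u.Prime] {S : Subgroup K} (hS : IsPGroup u S)
    {y c : K} (hcS : c ∈ S) (hyc : (orderOf y).Coprime u) : (orderOf y).Coprime (orderOf c) := by
  obtain ⟨k, hk⟩ := (IsPGroup.iff_orderOf.mp hS) ⟨c, hcS⟩
  have h2 : orderOf c = u ^ k := by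
    rw [← Subgroup.orderOf_mk c hcS]; exact hk
  rw [h2]
  exact Nat.Coprime.pow_right k hyc

/-- **Thompson's lemma.**  A `u'`-element normalizing the `u`-group `S` and centralizing a
subgroup `Q₀` and `C_S(Q₀)` centralizes `S`. -/
theorem centralizes_of_self_centralizing {u : ℕ} [Fact u.Prime] {S Q₀ : Subgroup K}
    (hS : IsPGroup u S) (hQ₀ : Q₀ ≤ S) {y : K} (hyS : y ∈ normalizer (S : Set K))
    (hyc : (orderOf y).Coprime u) (hyQ : ∀ q ∈ Q₀, y * q * y⁻¹ = q)
    (hyC : ∀ c ∈ S, c ∈ centralizer (Q₀ : Set K) → y * c * y⁻¹ = c) :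
    ∀ s ∈ S, y * s * y⁻¹ = s := by
  set T : Subgroup K := S ⊓ centralizer ({y} : Set K) with hT
  have hmemT : ∀ t : K, t ∈ T ↔ t ∈ S ∧ y * t * y⁻¹ = t := by
    intro t
    rw [hT, Subgroup.mem_inf, Subgroup.mem_centralizer_singleton_iff]
    constructor
    · rintro ⟨h1, h2⟩
      refine ⟨h1, ?_⟩
      calc y * t * y⁻¹ = (t * y) * y⁻¹ := by
            rw [show y * t = t * y from h2.symm.symm ▸ rfl]
        _ = t := by group
    · rintro ⟨h1, h2⟩
      refine ⟨h1, ?_⟩
      calc t * y = (y * t * y⁻¹) * y := by rw [h2]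
        _ = y * t := by group
  have hQT : Q₀ ≤ T := fun q hq => (hmemT q).mpr ⟨hQ₀ hq, hyQ q hq⟩
  have hTS : T = S := by
    by_contra hne
    have hlt : T < S := lt_of_le_of_ne inf_le_left hne
    obtain ⟨x, hxS, hxT, hxN⟩ := CoprimeInv.exists_mem_normalizer_of_lt hS hlt
    set x' : K := y * x * y⁻¹ with hx'
    have hx'S : x' ∈ S := (Subgroup.mem_normalizer_iff.mp hyS x).mp hxS
    set c : K := x⁻¹ * x' with hc
    have hcS : c ∈ S := S.mul_mem (S.inv_mem hxS) hx'S
    have hcT : c ∈ centralizer (T : Set K) := by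
      rw [Subgroup.mem_centralizer_iff]
      intro t ht
      have h1 : x * t * x⁻¹ ∈ T := (Subgroup.mem_normalizer_iff.mp hxN t).mp ht
      have h2 := ((hmemT _).mp h1).2
      have h3 := ((hmemT _).mp ht).2
      have h4 : y * (x * t * x⁻¹) * y⁻¹ = x' * (y * t * y⁻¹) * x'⁻¹ := by
        rw [hx']; group
      rw [h4, h3] at h2
      -- `x' t x'⁻¹ = x t x⁻¹`
      have h5 : x'⁻¹ * (x * t * x⁻¹) * x' = t := by
        rw [← h2]; group
      show t * (x⁻¹ * x') = (x⁻¹ * x') * t
      have h6 : x * t * x⁻¹ * x' = x' * t := by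
        calc x * t * x⁻¹ * x' = x' * (x'⁻¹ * (x * t * x⁻¹) * x') := by group
          _ = x' * t := by rw [h5]
      calc t * (x⁻¹ * x') = x⁻¹ * (x * t * x⁻¹ * x') := by group
        _ = x⁻¹ * (x' * t) := by rw [h6]
        _ = x⁻¹ * x' * t := by group
    have hcQ : c ∈ centralizer (Q₀ : Set K) := Subgroup.centralizer_le hQT hcT
    have hcy : y * c * y⁻¹ = c := hyC c hcS hcQ
    have hxc : y * x * y⁻¹ = x * c := by
      show y * x * y⁻¹ = x * (x⁻¹ * (y * x * y⁻¹))
      group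
    have hc1 : c = 1 := eq_one_of_fixed hcy hxc (coprime_orderOf_of_isPGroup hS hcS hyc)
    apply hxT
    refine (hmemT x).mpr ⟨hxS, ?_⟩
    rw [hxc, hc1, mul_one]
  intro s hs
  have : s ∈ T := by rw [hTS]; exact hs
  exact ((hmemT s).mp this).2

/-- Normalizing a join of a normal subgroup and a centralized subgroup. -/
theorem mem_normalizer_sup_of_normal {R T : Subgroup K} [hR : R.Normal] {y : K}
    (hy : ∀ t ∈ T, y * t * y⁻¹ = t) : y ∈ normalizer ((R ⊔ T : Subgroup K) : Set K) := by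
  apply mem_normalizer_of_cj_eq
  refine Subgroup.eq_of_le_of_card_ge ?_ (by rw [card_cj])
  show Subgroup.map _ _ ≤ _
  rw [Subgroup.map_le_iff_le_comap]
  refine sup_le ?_ ?_
  · intro r hr
    exact (le_sup_left : R ≤ R ⊔ T) (hR.conj_mem r hr y)
  · intro t ht
    show y * t * y⁻¹ ∈ R ⊔ T
    rw [hy t ht]
    exact (le_sup_right : T ≤ R ⊔ T) ht

end Generic

section Quotient

variable {E : Type u} [Group E] [Finite E]

/-- Triviality of the action on `O_u(E/N)`. -/
theorem commute_pCore_quotient {u : ℕ} [hu : Fact u.Prime] (N : Subgroup E) [hNn : N.Normal]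
    (hN : (Nat.card N).Coprime u) (T : Subgroup E) (hT : IsPGroup u T) {x : E}
    (hx : (orderOf x).Coprime u) (hxT : ∀ t ∈ T, x * t = t * x)
    (hg : ∀ g : E, (∀ t ∈ T, t * g * t⁻¹ = g) → (orderOf (g * x * g⁻¹ * x⁻¹)).Coprime u) :
    ∀ f ∈ pCore u (E ⧸ N), QuotientGroup.mk' N x * f = f * QuotientGroup.mk' N x := by
  set mk := QuotientGroup.mk' N with hmk
  have hmks : Function.Surjective mk := QuotientGroup.mk'_surjective N
  set R := pCore u (E ⧸ N) with hR
  set Tb : Subgroup (E ⧸ N) := T.map mk with hTb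
  have hRn : R.Normal := by rw [hR]; infer_instance
  haveI := hRn
  set S : Subgroup (E ⧸ N) := R ⊔ Tb with hS
  have hSp : IsPGroup u S :=
    IsPGroup.to_sup_of_normal_left (isPGroup_pCore u) (hT.map mk)
  have hxTb : ∀ t ∈ Tb, mk x * t * (mk x)⁻¹ = t := by
    rintro _ ⟨t, ht, rfl⟩
    rw [← map_inv, ← map_mul, ← map_mul]
    congr 1
    rw [hxT t ht]; group
  have hxN : mk x ∈ normalizer (S : Set (E ⧸ N)) := mem_normalizer_sup_of_normal hxTb
  have hxo : (orderOf (mk x)).Coprime u :=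
    Nat.Coprime.coprime_dvd_left (orderOf_map_dvd mk x) hx
  have hTN : T ≤ normalizer (N : Set E) := by
    rw [normalizer_eq_top_iff.mpr hNn]; exact le_top
  have key := centralizes_of_self_centralizing (u := u) hSp (le_sup_right : Tb ≤ S) hxN hxo hxTb ?_
  · intro f hf
    have h1 := key f ((le_sup_left : R ≤ S) hf)
    calc mk x * f = (mk x * f * (mk x)⁻¹) * mk x := by group
      _ = f * mk x := by rw [h1]
  · intro c hcS hcC
    obtain ⟨v, rfl⟩ := hmks c
    have hv : ∀ t ∈ T, v⁻¹ * (t * v * t⁻¹) ∈ N := by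
      intro t ht
      have h1 : mk t ∈ Tb := Subgroup.mem_map_of_mem _ ht
      have h2 := Subgroup.mem_centralizer_iff.mp hcC _ h1
      rw [← QuotientGroup.eq_one_iff]
      show mk (v⁻¹ * (t * v * t⁻¹)) = 1
      simp only [map_mul, map_inv]
      rw [h2]; group
    obtain ⟨s, hs, hfix⟩ :=
      Cfsg.Agent.Lib.BGTH.exists_fixed_in_coset T N hT hN hTN v hv
    set g : E := v * s with hgd
    have hmkg : mk g = mk v := by
      rw [hgd, map_mul]
      have : mk s = 1 := (QuotientGroup.eq_one_iff s).mpr hs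
      rw [this, mul_one]
    have hw := hg g hfix
    set w : E := g * x * g⁻¹ * x⁻¹ with hwd
    have hwS : mk w ∈ S := by
      have h1 : mk w = mk v * (mk x * (mk v)⁻¹ * (mk x)⁻¹) := by
        rw [hwd]
        simp only [map_mul, map_inv, hmkg]
        group
      rw [h1]
      exact S.mul_mem hcS ((Subgroup.mem_normalizer_iff.mp hxN _).mp (S.inv_mem hcS))
    have hw1 : mk w = 1 := by
      have h1 : (orderOf (mk w)).Coprime u :=
        Nat.Coprime.coprime_dvd_left (orderOf_map_dvd mk w) hw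
      have h2 := coprime_orderOf_of_isPGroup hSp hwS h1
      have h3 : orderOf (mk w) = 1 := by
        rw [Nat.coprime_self] at h2
        exact h2
      exact orderOf_eq_one_iff.mp h3
    have h4 : mk v * mk x * (mk v)⁻¹ * (mk x)⁻¹ = 1 := by
      rw [← hw1, hwd]
      simp only [map_mul, map_inv, hmkg]
    calc mk x * mk v * (mk x)⁻¹ = (mk v * mk x * (mk v)⁻¹ * (mk x)⁻¹)⁻¹ * mk v := by group
      _ = mk v := by rw [h4]; simp

/-- The `u`-core of the quotient by the `τ`-core vanishes for `u ∈ τ`. -/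
theorem pCore_quotient_piCore {u : ℕ} [hu : Fact u.Prime] {τ : Set ℕ} (huτ : u ∈ τ) :
    pCore u (E ⧸ piCore τ E) = ⊥ := by
  set N := piCore τ E with hN
  let π := QuotientGroup.mk' N
  set K := pCore u (E ⧸ N) with hK
  have hcomap : K.comap π ≤ N := by
    apply Cfsg.Agent.Lib.BGTrans.le_piCore
    · exact Subgroup.Normal.comap inferInstance π
    · intro q hq hd
      haveI : Fact q.Prime := ⟨hq⟩
      obtain ⟨x, hx⟩ := exists_prime_orderOf_dvd_card' q hd
      have hxo : orderOf (x : E) = q := by rw [← hx]; exact Subgroup.orderOf_coe x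
      by_cases h1 : π (x : E) = 1
      · have hxN : (x : E) ∈ N := (QuotientGroup.eq_one_iff (x : E)).mp h1
        apply piCore_primes (M := E) τ q hq
        rw [← hxo]
        have := Subgroup.orderOf_dvd_natCard N hxN
        exact this
      · have h2 : π (x : E) ∈ K := x.2
        have h3 : orderOf (π (x : E)) = q := by
          have h4 := orderOf_map_dvd π (x : E)
          rw [hxo] at h4
          rcases (Nat.dvd_prime hq).mp h4 with h5 | h5
          · exact absurd (orderOf_eq_one_iff.mp h5) h1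
          · exact h5
        have h5 : IsPGroup u K := isPGroup_pCore u
        obtain ⟨k, hk⟩ := (IsPGroup.iff_orderOf.mp h5) ⟨_, h2⟩
        rw [Subgroup.orderOf_mk] at hk
        rw [h3] at hk
        have h6 : q ∣ u ^ k := by rw [hk]
        have := (Nat.prime_dvd_prime_iff_eq hq Fact.out).mp (hq.dvd_of_dvd_pow h6)
        rw [this]
        exact huτ
  rw [eq_bot_iff]
  intro x hx
  obtain ⟨y, rfl⟩ := QuotientGroup.mk'_surjective N x
  have : y ∈ K.comap π := hx
  have hy := hcomap this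
  rw [Subgroup.mem_bot]
  exact (QuotientGroup.eq_one_iff y).mpr hy

end Quotient

section Generic2

variable {K : Type u} [Group K] [Finite K]

/-- Coprime action with no fixed points on `Y`, modulo `Cn`, forces `Y ≤ Cn`. -/
theorem le_of_fixed_eq_bot {q : ℕ} [Fact q.Prime] {B Y Cn : Subgroup K} (hB : IsPGroup q B)
    (hY : (Nat.card Y).Coprime q) (hBY : B ≤ normalizer (Y : Set K))
    (hBC : B ≤ normalizer (Cn : Set K))
    (hc : ∀ b ∈ B, ∀ y ∈ Y, y⁻¹ * (b * y * b⁻¹) ∈ Cn)
    (hfix : Y ⊓ centralizer (B : Set K) = ⊥) : Y ≤ Cn := by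
  intro y hy
  have hS : (Nat.card ↥(Y ⊓ Cn)).Coprime q :=
    Nat.Coprime.coprime_dvd_left (Subgroup.card_dvd_of_le inf_le_left) hY
  have hBS : B ≤ normalizer ((Y ⊓ Cn : Subgroup K) : Set K) := le_normalizer_inf hBY hBC
  obtain ⟨s, hs, hfx⟩ := Cfsg.Agent.Lib.BGTH.exists_fixed_in_coset B (Y ⊓ Cn) hB hS hBS y
    (fun b hb => ⟨Y.mul_mem (Y.inv_mem hy) ((Subgroup.mem_normalizer_iff.mp (hBY hb) y).mp hy),
      hc b hb y hy⟩)
  have h1 : y * s ∈ Y ⊓ centralizer (B : Set K) := by
    refine ⟨Y.mul_mem hy hs.1, ?_⟩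
    show y * s ∈ centralizer (B : Set K)
    rw [Subgroup.mem_centralizer_iff]
    intro b hb
    have h2 := hfx b hb
    calc b * (y * s) = (b * (y * s) * b⁻¹) * b := by group
      _ = y * s * b := by rw [h2]
  rw [hfix, Subgroup.mem_bot] at h1
  have h2 : y = s⁻¹ := eq_inv_of_mul_eq_one_left h1
  rw [h2]
  exact Cn.inv_mem hs.2

/-- A coprime element normalizing a solvable `Λ` and centralizing `F(Λ)` centralizes `Λ`. -/
theorem centralizes_of_fitting {L : Subgroup K} (hs : Group.IsSolvable L) {y : K}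
    (hy : y ∈ normalizer (L : Set K)) (hco : (orderOf y).Coprime (Nat.card L))
    (hF : ∀ f ∈ fittingOf L, y * f * y⁻¹ = f) : ∀ l ∈ L, y * l * y⁻¹ = l := by
  intro l hl
  have hl' : y * l * y⁻¹ ∈ L := (Subgroup.mem_normalizer_iff.mp hy l).mp hl
  set l' : K := y * l * y⁻¹ with hl'd
  set c : K := l⁻¹ * l' with hcd
  have hcL : c ∈ L := L.mul_mem (L.inv_mem hl) hl'
  have hcF : (⟨c, hcL⟩ : L) ∈ fittingSubgroup L := by
    apply centralizer_fittingSubgroup_le
    rw [Subgroup.mem_centralizer_iff]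
    rintro f hf
    have hf1 : (⟨l, hl⟩ : L) * f * (⟨l, hl⟩ : L)⁻¹ ∈ fittingSubgroup L :=
      (inferInstance : (fittingSubgroup L).Normal).conj_mem f hf _
    have hfG : (f : K) ∈ fittingOf L := ⟨f, hf, rfl⟩
    have hf1G : l * (f : K) * l⁻¹ ∈ fittingOf L := ⟨_, hf1, rfl⟩
    have h1 := hF _ hf1G
    have h2 := hF _ hfG
    have h3 : y * (l * (f : K) * l⁻¹) * y⁻¹ = l' * (y * (f : K) * y⁻¹) * l'⁻¹ := by
      rw [hl'd]; group
    rw [h3, h2] at h1
    apply Subtype.ext
    show (f : K) * c = c * (f : K)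
    have h4 : l' * (f : K) = (l * (f : K) * l⁻¹) * l' := by
      calc l' * (f : K) = (l' * (f : K) * l'⁻¹) * l' := by group
        _ = _ := by rw [h1]
    calc (f : K) * c = l⁻¹ * ((l * (f : K) * l⁻¹) * l') := by rw [hcd]; group
      _ = l⁻¹ * (l' * (f : K)) := by rw [h4]
      _ = c * (f : K) := by rw [hcd]; group
  have hcfix : y * c * y⁻¹ = c := hF c ⟨_, hcF, rfl⟩
  have hlc : y * l * y⁻¹ = l * c := by
    show l' = l * (l⁻¹ * l')
    group
  have hoc : (orderOf y).Coprime (orderOf c) :=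
    Nat.Coprime.coprime_dvd_right (Subgroup.orderOf_dvd_natCard L hcL) hco
  have hc1 := eq_one_of_fixed hcfix hlc hoc
  show y * l * y⁻¹ = l
  rw [hlc, hc1, mul_one]

end Generic2

section BL

variable {N : Type u} [Group N] [Finite N]

/-- `W = O_{r'}(F(N))`, as the join of the cores at primes other than `r`. -/
def wOf (r : ℕ) (N : Type u) [Group N] : Subgroup N :=
  ⨆ (u : Nat.Primes) (_ : (u : ℕ) ≠ r), pCore (u : ℕ) N

theorem wOf_normal (r : ℕ) : (wOf r N).Normal := by
  unfold wOf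
  haveI : ∀ (u : Nat.Primes), (⨆ (_ : (u : ℕ) ≠ r), pCore (u : ℕ) N).Normal := by
    intro u
    by_cases h : (u : ℕ) ≠ r
    · simp only [h, ne_eq, not_false_eq_true, iSup_pos]
      infer_instance
    · simp only [h, iSup_neg, ne_eq, not_false_eq_true]
      infer_instance
  infer_instance

theorem wOf_le {r : ℕ} {C : Subgroup N}
    (h : ∀ (u : ℕ) [Fact u.Prime], u ≠ r → pCore u N ≤ C) : wOf r N ≤ C := by
  refine iSup₂_le fun u hu => ?_
  haveI : Fact (u : ℕ).Prime := ⟨u.2⟩
  exact h u hu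

theorem wOf_le_pPrimeCore {r : ℕ} [Fact r.Prime] : wOf r N ≤ pPrimeCore r N :=
  wOf_le fun _ _ hu => pCore_le_pPrimeCore hu

theorem pCore_le_wOf {r u : ℕ} [hu : Fact u.Prime] (h : u ≠ r) : pCore u N ≤ wOf r N :=
  le_iSup₂_of_le (⟨u, hu.out⟩ : Nat.Primes) h le_rfl

theorem fittingSubgroup_le_sup_wOf (r : ℕ) [Fact r.Prime] :
    fittingSubgroup N ≤ pCore r N ⊔ wOf r N := by
  rw [fittingSubgroup_eq_iSup_pCore]
  refine iSup_le fun u => ?_
  haveI : Fact (u : ℕ).Prime := ⟨u.2⟩
  by_cases h : (u : ℕ) = r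
  · have : pCore (u : ℕ) N = pCore r N := by rw [h]
    rw [this]; exact le_sup_left
  · exact (pCore_le_wOf h).trans le_sup_right

/-- **Bender's lemma.**  If a `r`-subgroup `T` contains `O_r(N)` and centralizes `O_{r'}(F(N))`,
then `C_N(O_r(N))` normalizes `T`. -/
theorem bl_lemma [Group.IsSolvable N] {r : ℕ} [hr : Fact r.Prime] {T : Subgroup N}
    (hT : IsPGroup r T) (hR : pCore r N ≤ T)
    (hTW : ∀ (u : ℕ) [Fact u.Prime], u ≠ r → ∀ t ∈ T, ∀ w ∈ pCore u N, t * w = w * t)
    {y : N} (hy : ∀ ρ ∈ pCore r N, y * ρ = ρ * y) {t : N} (ht : t ∈ T) : y * t * y⁻¹ ∈ T := by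
  set R := pCore r N with hRd
  set W := wOf r N with hWd
  haveI hWn : W.Normal := wOf_normal r
  haveI hRn : R.Normal := by rw [hRd]; infer_instance
  have hTW' : ∀ t ∈ T, ∀ w ∈ W, t * w = w * t := by
    intro t ht w hw
    have : W ≤ centralizer ({t} : Set N) := by
      apply wOf_le
      intro u _ hu x hx
      rw [Subgroup.mem_centralizer_singleton_iff]
      exact (hTW u hu t ht x hx).symm
    have h2 := this hw
    rw [Subgroup.mem_centralizer_singleton_iff] at h2
    exact h2.symm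
  set z : N := t⁻¹ * (y * t * y⁻¹) with hz
  have hzle : R ⊔ W ≤ centralizer ({z} : Set N) := by
    refine sup_le ?_ ?_
    · intro ρ hρ
      rw [Subgroup.mem_centralizer_singleton_iff]
      have h1 : t * ρ * t⁻¹ ∈ R := hRn.conj_mem ρ hρ t
      have h2 := hy _ h1
      have h3 := hy ρ hρ
      have h4 : y⁻¹ * ρ * y = ρ := by
        calc y⁻¹ * ρ * y = y⁻¹ * (ρ * y) := by group
          _ = y⁻¹ * (y * ρ) := by rw [h3]
          _ = ρ := by group
      show ρ * (t⁻¹ * (y * t * y⁻¹)) = t⁻¹ * (y * t * y⁻¹) * ρ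
      have h5 : (y * t * y⁻¹) * ρ = (t * ρ * t⁻¹) * (y * t * y⁻¹) := by
        calc (y * t * y⁻¹) * ρ = y * t * (y⁻¹ * ρ * y) * y⁻¹ := by group
          _ = y * t * ρ * y⁻¹ := by rw [h4]
          _ = y * (t * ρ * t⁻¹) * t * y⁻¹ := by group
          _ = (t * ρ * t⁻¹) * y * t * y⁻¹ := by rw [h2]
          _ = _ := by group
      calc ρ * (t⁻¹ * (y * t * y⁻¹)) = t⁻¹ * ((t * ρ * t⁻¹) * (y * t * y⁻¹)) := by group
        _ = t⁻¹ * ((y * t * y⁻¹) * ρ) := by rw [h5]
        _ = _ := by group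
    · intro w hw
      rw [Subgroup.mem_centralizer_singleton_iff]
      have h1 : y⁻¹ * w * y ∈ W := by
        have := hWn.conj_mem w hw y⁻¹
        simpa using this
      have h2 := hTW' t ht _ h1
      have h3 := hTW' t ht w hw
      have h5 : (y * t * y⁻¹) * w = w * (y * t * y⁻¹) := by
        calc (y * t * y⁻¹) * w = y * (t * (y⁻¹ * w * y)) * y⁻¹ := by group
          _ = y * ((y⁻¹ * w * y) * t) * y⁻¹ := by rw [h2]
          _ = _ := by group
      show w * (t⁻¹ * (y * t * y⁻¹)) = t⁻¹ * (y * t * y⁻¹) * w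
      have h6 : w * t⁻¹ = t⁻¹ * w := by
        calc w * t⁻¹ = t⁻¹ * (t * w) * t⁻¹ := by group
          _ = t⁻¹ * (w * t) * t⁻¹ := by rw [h3]
          _ = _ := by group
      calc w * (t⁻¹ * (y * t * y⁻¹)) = (w * t⁻¹) * (y * t * y⁻¹) := by group
        _ = t⁻¹ * (w * (y * t * y⁻¹)) := by rw [h6]; group
        _ = t⁻¹ * ((y * t * y⁻¹) * w) := by rw [h5]
        _ = _ := by group
  have hFle := (fittingSubgroup_le_sup_wOf (N := N) r).trans hzle
  have hzC : z ∈ centralizer (fittingSubgroup N : Set N) := by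
    rw [Subgroup.mem_centralizer_iff]
    intro f hf
    have := hFle hf
    rw [Subgroup.mem_centralizer_singleton_iff] at this
    exact this
  have hzF : z ∈ fittingSubgroup N := centralizer_fittingSubgroup_le hzC
  have hzs := fittingSubgroup_le_sup_wOf (N := N) r hzF
  obtain ⟨r₀, hr₀, w, hw, hzeq⟩ := Subgroup.mem_sup_of_normal_left.mp hzs
  have hmT : t * r₀ ∈ T := T.mul_mem ht (hR hr₀)
  have hcomm : Commute (t * r₀) w := hTW' _ hmT w hw
  have hyt : y * t * y⁻¹ = (t * r₀) * w := by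
    calc y * t * y⁻¹ = t * (t⁻¹ * (y * t * y⁻¹)) := by group
      _ = t * (r₀ * w) := by
        show t * z = t * (r₀ * w)
        rw [hzeq]
      _ = _ := by group
  -- the `r`-part
  set n := Nat.card T with hn
  have hpow1 : (t * r₀) ^ n = 1 := by
    have := pow_card_eq_one' (x := (⟨t * r₀, hmT⟩ : T))
    exact congrArg Subtype.val this
  have hpow2 : t ^ n = 1 := by
    have := pow_card_eq_one' (x := (⟨t, ht⟩ : T))
    exact congrArg Subtype.val this
  have hpow3 : (y * t * y⁻¹) ^ n = 1 := by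
    rw [conj_pow, hpow2]; group
  rw [hyt, hcomm.mul_pow, hpow1, one_mul] at hpow3
  have hw1 : w = 1 := by
    obtain ⟨k, hk⟩ := IsPGroup.iff_card.mp hT
    rw [hn, hk] at hpow3
    have h1 : orderOf w ∣ r ^ k := orderOf_dvd_of_pow_eq_one hpow3
    have h2 : orderOf w ∣ Nat.card W := Subgroup.orderOf_dvd_natCard W hw
    have h3 : Nat.card W ∣ Nat.card (pPrimeCore r N) :=
      Subgroup.card_dvd_of_le wOf_le_pPrimeCore
    have h4 : (orderOf w).Coprime r :=
      Nat.Coprime.coprime_dvd_left (h2.trans h3) (card_pPrimeCore_coprime r)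
    have h5 : (orderOf w).Coprime (r ^ k) := Nat.Coprime.pow_right k h4
    have h6 := Nat.Coprime.eq_one_of_dvd h5 h1
    exact orderOf_eq_one_iff.mp h6
  rw [hyt, hw1, mul_one]
  exact hmT

end BL

section Top

variable {E : Type u} [Group E] [Finite E]

/-- A `τ`-subgroup whose image centralizes the `u`-cores of `E/O_τ(E)`, `u ∉ τ`, lies in `O_τ(E)`. -/
theorem le_piCore_of_centralizes [Group.IsSolvable E] {τ : Set ℕ} {Y : Subgroup E}
    (hY : ∀ q : ℕ, q.Prime → q ∣ Nat.card Y → q ∈ τ)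
    (h : ∀ (u : ℕ) [Fact u.Prime], u ∉ τ → ∀ y ∈ Y, ∀ f ∈ pCore u (E ⧸ piCore τ E),
      QuotientGroup.mk' (piCore τ E) y * f = f * QuotientGroup.mk' (piCore τ E) y) :
    Y ≤ piCore τ E := by
  set N := piCore τ E with hN
  let π := QuotientGroup.mk' N
  haveI : Group.IsSolvable (E ⧸ N) := inferInstance
  have hF : fittingSubgroup (E ⧸ N) ≤ ⨆ (u : Nat.Primes) (_ : (u : ℕ) ∉ τ), pCore (u : ℕ) (E ⧸ N) := by
    rw [fittingSubgroup_eq_iSup_pCore]
    refine iSup_le fun u => ?_
    haveI : Fact (u : ℕ).Prime := ⟨u.2⟩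
    by_cases hu : (u : ℕ) ∈ τ
    · rw [pCore_quotient_piCore hu]; exact bot_le
    · exact le_iSup₂_of_le u hu le_rfl
  intro y hy
  have hyF : π y ∈ fittingSubgroup (E ⧸ N) := by
    apply centralizer_fittingSubgroup_le
    rw [Subgroup.mem_centralizer_iff]
    intro f hf
    have hle : (⨆ (u : Nat.Primes) (_ : (u : ℕ) ∉ τ), pCore (u : ℕ) (E ⧸ N)) ≤
        centralizer ({π y} : Set (E ⧸ N)) := by
      refine iSup₂_le fun u hu => ?_
      haveI : Fact (u : ℕ).Prime := ⟨u.2⟩
      intro x hx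
      rw [Subgroup.mem_centralizer_singleton_iff]
      exact (h u hu y hy x hx).symm
    have := hle (hF hf)
    rw [Subgroup.mem_centralizer_singleton_iff] at this
    exact this
  -- the order of the image of `y`
  by_contra hyN
  have h1 : π y ≠ 1 := by
    intro h2
    exact hyN ((QuotientGroup.eq_one_iff y).mp h2)
  have h2 : orderOf (π y) ≠ 1 := fun h3 => h1 (orderOf_eq_one_iff.mp h3)
  obtain ⟨q, hq, hqd⟩ := Nat.exists_prime_and_dvd h2
  haveI : Fact q.Prime := ⟨hq⟩
  have h3 : orderOf (π y) ∣ orderOf y := orderOf_map_dvd π y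
  have h4 : orderOf y ∣ Nat.card Y := by
    have := Subgroup.orderOf_dvd_natCard Y hy
    exact this
  have hqτ : q ∈ τ := hY q hq (hqd.trans (h3.trans h4))
  have h5 : fittingSubgroup (E ⧸ N) ≤ pPrimeCore q (E ⧸ N) := by
    rw [fittingSubgroup_eq_iSup_pCore]
    refine iSup_le fun u => ?_
    haveI : Fact (u : ℕ).Prime := ⟨u.2⟩
    by_cases hu : (u : ℕ) = q
    · have : pCore (u : ℕ) (E ⧸ N) = pCore q (E ⧸ N) := by rw [hu]
      rw [this, pCore_quotient_piCore hqτ]; exact bot_le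
    · exact pCore_le_pPrimeCore hu
  have h6 : orderOf (π y) ∣ Nat.card (pPrimeCore q (E ⧸ N)) :=
    Subgroup.orderOf_dvd_natCard _ (h5 hyF)
  have h7 : q ∣ Nat.card (pPrimeCore q (E ⧸ N)) := hqd.trans h6
  have h8 := card_pPrimeCore_coprime (G := E ⧸ N) q
  have h9 : q ∣ 1 := by
    have := Nat.dvd_gcd h7 (dvd_refl q)
    rwa [Nat.Coprime.gcd_eq_one h8] at this
  exact hq.one_lt.ne' (Nat.dvd_one.mp h9)

end Top

end Cfsg.Agent.Lib.BGFit1
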