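import Mathlib
import Cfsg.Prelude.Def_OddOrderLocal
import Cfsg.Prelude.Def_Amalgam
import Cfsg.Agent.Lib.BGFit1

/-!
# Bender-Glauberman section 8: the Fitting subgroup of a maximal subgroup.

Basic facts on `O_p(M)`, `X = O_{p'}(F(M))`, and the triviality lemma for invariant subgroups.
-/

set_option autoImplicit false
set_option linter.unusedSectionVars false
set_option linter.unusedVariables false
set_option linter.style.haveILetI false
set_option linter.unusedSimpArgs false

namespace Cfsg.Agent.Lib.BGFit2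

open Cfsg Subgroup Cfsg.Agent.Lib.CoprimeInv Cfsg.Agent.Lib.BGTrans Cfsg.Agent.Lib.BGTrans2
  Cfsg.Agent.Lib.PCore Cfsg.Agent.Lib.BGUniq Cfsg.Agent.Lib.BGUniq2 Cfsg.Agent.Lib.BGUniq3
  Cfsg.Agent.Lib.BGFit1

universe u

variable {G : Type u} [Group G] [Finite G] {p : ℕ} [hp : Fact p.Prime]

section Basic

theorem mem_normalizer_sup' {A B : Subgroup G} {x : G} (hA : x ∈ normalizer (A : Set G))
    (hB : x ∈ normalizer (B : Set G)) : x ∈ normalizer ((A ⊔ B : Subgroup G) : Set G) := by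
  apply mem_normalizer_of_cj_eq
  refine Subgroup.eq_of_le_of_card_ge ?_ (by rw [card_cj])
  show Subgroup.map _ _ ≤ _
  rw [Subgroup.map_le_iff_le_comap]
  refine sup_le ?_ ?_
  · intro a ha
    exact (le_sup_left : A ≤ A ⊔ B) ((Subgroup.mem_normalizer_iff.mp hA a).mp ha)
  · intro b hb
    exact (le_sup_right : B ≤ A ⊔ B) ((Subgroup.mem_normalizer_iff.mp hB b).mp hb)

theorem le_normalizer_sup' {P A B : Subgroup G} (hA : P ≤ normalizer (A : Set G))
    (hB : P ≤ normalizer (B : Set G)) : P ≤ normalizer ((A ⊔ B : Subgroup G) : Set G) :=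
  fun _ hx => mem_normalizer_sup' (hA hx) (hB hx)

theorem mem_normalizer_of_centralizes {A : Subgroup G} {x : G} (h : ∀ a ∈ A, x * a * x⁻¹ = a) :
    x ∈ normalizer (A : Set G) := by
  apply mem_normalizer_of_cj_eq
  refine Subgroup.eq_of_le_of_card_ge ?_ (by rw [card_cj])
  rintro _ ⟨a, ha, rfl⟩
  show x * a * x⁻¹ ∈ A
  rw [h a ha]; exact ha

/-- Elements normalizing each other's subgroups, with trivial intersection, commute. -/
theorem comm_of_inf {Y Z : Subgroup G} {y z : G} (hy : y ∈ Y) (hz : z ∈ Z)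
    (hyZ : y ∈ normalizer (Z : Set G)) (hzY : z ∈ normalizer (Y : Set G)) (h : Y ⊓ Z = ⊥) :
    y * z = z * y := by
  have h1 : y * (z * y⁻¹ * z⁻¹) ∈ Y :=
    Y.mul_mem hy ((Subgroup.mem_normalizer_iff.mp hzY _).mp (Y.inv_mem hy))
  have h2 : y * z * y⁻¹ * z⁻¹ ∈ Z :=
    Z.mul_mem ((Subgroup.mem_normalizer_iff.mp hyZ _).mp hz) (Z.inv_mem hz)
  have h3 : y * (z * y⁻¹ * z⁻¹) = y * z * y⁻¹ * z⁻¹ := by group
  have h4 : y * z * y⁻¹ * z⁻¹ ∈ Y ⊓ Z := ⟨h3 ▸ h1, h2⟩
  rw [h, Subgroup.mem_bot] at h4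
  calc y * z = (y * z * y⁻¹ * z⁻¹) * (z * y) := by group
    _ = z * y := by rw [h4, one_mul]

theorem inf_eq_bot_of_pgroups {u r : ℕ} [Fact u.Prime] [Fact r.Prime] {Y Z : Subgroup G}
    (hY : IsPGroup u Y) (hZ : IsPGroup r Z) (hne : u ≠ r) : Y ⊓ Z = ⊥ :=
  (IsPGroup.disjoint_of_ne u r hne Y Z hY hZ).eq_bot

theorem comm_of_pgroups {u r : ℕ} [Fact u.Prime] [Fact r.Prime] {Y Z D : Subgroup G}
    (hY : IsPGroup u Y) (hZ : IsPGroup r Z) (hne : u ≠ r) (hYD : Y ≤ D) (hZD : Z ≤ D)
    (hDY : D ≤ normalizer (Y : Set G)) (hDZ : D ≤ normalizer (Z : Set G)) :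
    ∀ y ∈ Y, ∀ z ∈ Z, y * z = z * y := fun _ hy _ hz =>
  comm_of_inf hy hz (hDZ (hYD hy)) (hDY (hZD hz)) (inf_eq_bot_of_pgroups hY hZ hne)

theorem comm_of_coprime {Y Z D : Subgroup G} (hc : (Nat.card Y).Coprime (Nat.card Z)) (hYD : Y ≤ D)
    (hZD : Z ≤ D) (hDY : D ≤ normalizer (Y : Set G)) (hDZ : D ≤ normalizer (Z : Set G)) :
    ∀ y ∈ Y, ∀ z ∈ Z, y * z = z * y := fun _ hy _ hz =>
  comm_of_inf hy hz (hDZ (hYD hy)) (hDY (hZD hz)) (inf_eq_bot_of_coprime' hc)

/-- Membership in the centralizer, in element form. -/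
theorem mem_centralizer_of_forall {A : Subgroup G} {x : G} (h : ∀ a ∈ A, x * a = a * x) :
    x ∈ centralizer (A : Set G) := by
  rw [Subgroup.mem_centralizer_iff]
  intro a ha
  exact (h a ha).symm

theorem centralizes_of_mem_centralizer {A : Subgroup G} {x a : G} (h : x ∈ centralizer (A : Set G))
    (ha : a ∈ A) : x * a = a * x :=
  (Subgroup.mem_centralizer_iff.mp h a ha).symm

theorem conj_eq_of_comm {x a : G} (h : x * a = a * x) : x * a * x⁻¹ = a := by
  rw [h]; group

theorem comm_of_conj_eq {x a : G} (h : x * a * x⁻¹ = a) : x * a = a * x := by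
  calc x * a = (x * a * x⁻¹) * x := by group
    _ = a * x := by rw [h]

end Basic

section PCoreOf

theorem pCoreOf_le (p : ℕ) (X : Subgroup G) : pCoreOf p X ≤ X := Subgroup.map_subtype_le _

theorem isPGroup_pCoreOf (p : ℕ) [Fact p.Prime] (X : Subgroup G) : IsPGroup p (pCoreOf p X) :=
  (isPGroup_pCore p).map X.subtype

theorem le_normalizer_pCoreOf (p : ℕ) (X : Subgroup G) :
    X ≤ normalizer (pCoreOf p X : Set G) := by
  intro x hx
  have hn : (pCore p X).Normal := inferInstance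
  have h1 : (⟨x, hx⟩ : X) ∈ normalizer ((pCore p X : Subgroup X) : Set X) := by
    rw [normalizer_eq_top_iff.mpr hn]; trivial
  have := Subgroup.le_normalizer_map (H := pCore p X) X.subtype (Subgroup.mem_map_of_mem _ h1)
  exact this

theorem le_pCoreOf {Y X : Subgroup G} (hYX : Y ≤ X) (hXY : X ≤ normalizer (Y : Set G))
    (hY : IsPGroup p Y) : Y ≤ pCoreOf p X := by
  have hnormal : (Y.subgroupOf X).Normal := normal_subgroupOf_of_le_normalizer hXY
  have h1 : Y.subgroupOf X ≤ pCore p X := le_pCore hnormal hY.comap_subtype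
  intro y hy
  exact ⟨⟨y, hYX hy⟩, h1 hy, rfl⟩

theorem normalizer_le_normalizer_pCoreOf (p : ℕ) [Fact p.Prime] (X : Subgroup G) :
    normalizer (X : Set G) ≤ normalizer (pCoreOf p X : Set G) := by
  intro g hg
  rw [mem_normalizer_iff_cj]
  have hX : cj X g = X := cj_eq_of_mem_normalizer hg
  have h1 : cj (pCoreOf p X) g ≤ pCoreOf p X := by
    apply le_pCoreOf
    · have := cj_mono (pCoreOf_le p X) g
      rwa [hX] at this
    · have := normalizer_cj_of_le (g := g) (le_normalizer_pCoreOf p X)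
      rwa [hX] at this
    · exact (isPGroup_pCoreOf p X).map _
  exact Subgroup.eq_of_le_of_card_ge h1 (by rw [card_cj])

theorem le_coreOf {Y X : Subgroup G} (hYX : Y ≤ X) (hXY : X ≤ normalizer (Y : Set G))
    (hY : (Nat.card Y).Coprime p) : Y ≤ coreOf p X := by
  have hnormal : (Y.subgroupOf X).Normal := normal_subgroupOf_of_le_normalizer hXY
  have hcard : Nat.card (Y.subgroupOf X) = Nat.card Y := card_subgroupOf_of_le hYX
  have h1 : Y.subgroupOf X ≤ pPrimeCore p X := le_pPrimeCore hnormal (by rw [hcard]; exact hY)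
  intro y hy
  exact ⟨⟨y, hYX hy⟩, h1 hy, rfl⟩

theorem normalizer_le_normalizer_coreOf (p : ℕ) [Fact p.Prime] (X : Subgroup G) :
    normalizer (X : Set G) ≤ normalizer (coreOf p X : Set G) := by
  intro g hg
  rw [mem_normalizer_iff_cj]
  have hX : cj X g = X := cj_eq_of_mem_normalizer hg
  have h1 : cj (coreOf p X) g ≤ coreOf p X := by
    apply le_coreOf
    · have := cj_mono (coreOf_le p X) g
      rwa [hX] at this
    · have := normalizer_cj_of_le (g := g) (le_normalizer_coreOf p X)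
      rwa [hX] at this
    · rw [card_cj]; exact card_coreOf_coprime p X
  exact Subgroup.eq_of_le_of_card_ge h1 (by rw [card_cj])

theorem fittingOf_le_self (X : Subgroup G) : fittingOf X ≤ X := Subgroup.map_subtype_le _

theorem le_normalizer_fittingOf (X : Subgroup G) : X ≤ normalizer (fittingOf X : Set G) := by
  intro x hx
  have hn : (fittingSubgroup X).Normal := inferInstance
  have h1 : (⟨x, hx⟩ : X) ∈ normalizer ((fittingSubgroup X : Subgroup X) : Set X) := by
    rw [normalizer_eq_top_iff.mpr hn]; trivial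
  have := Subgroup.le_normalizer_map (H := fittingSubgroup X) X.subtype
    (Subgroup.mem_map_of_mem _ h1)
  exact this

theorem pCoreOf_le_fittingOf (p : ℕ) [Fact p.Prime] (X : Subgroup G) :
    pCoreOf p X ≤ fittingOf X :=
  Subgroup.map_mono (pCore_le_fittingSubgroup p)

theorem fittingOf_le_of_pCoreOf {X C : Subgroup G}
    (h : ∀ (u : ℕ) [Fact u.Prime], pCoreOf u X ≤ C) : fittingOf X ≤ C := by
  show Subgroup.map _ _ ≤ _
  rw [Subgroup.map_le_iff_le_comap, fittingSubgroup_eq_iSup_pCore]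
  refine iSup_le fun u => ?_
  haveI : Fact (u : ℕ).Prime := ⟨u.2⟩
  intro x hx
  exact h u ⟨x, hx, rfl⟩

/-- `F(X) ≤ O_p(X) O_{p'}(X)`. -/
theorem fittingOf_le_sup_core (p : ℕ) [Fact p.Prime] (X : Subgroup G) :
    fittingOf X ≤ pCoreOf p X ⊔ coreOf p X := by
  show Subgroup.map _ _ ≤ _
  refine (Subgroup.map_mono (fittingSubgroup_le_sup p)).trans ?_
  rw [Subgroup.map_sup]
  exact le_rfl

/-- `C_X(F(X)) ≤ F(X)`. -/
theorem mem_fittingOf_of_centralizes {X : Subgroup G} (hs : Group.IsSolvable X) {y : G}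
    (hy : y ∈ X) (h : ∀ f ∈ fittingOf X, y * f = f * y) : y ∈ fittingOf X := by
  haveI := hs
  have h1 : (⟨y, hy⟩ : X) ∈ fittingSubgroup X := by
    apply centralizer_fittingSubgroup_le
    rw [Subgroup.mem_centralizer_iff]
    intro f hf
    apply Subtype.ext
    exact (h (f : G) ⟨f, hf, rfl⟩).symm
  exact ⟨_, h1, rfl⟩

/-- The `u`-core of a normal subgroup of `X`, when `u`-elements are normal: `O_u(L)` is contained in
`O_u(X)` for `L` normal in `X`. -/
theorem pCoreOf_le_pCoreOf_of_normal {L X : Subgroup G} (hLX : L ≤ X)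
    (hXL : X ≤ normalizer (L : Set G)) (u : ℕ) [Fact u.Prime] : pCoreOf u L ≤ pCoreOf u X :=
  le_pCoreOf ((pCoreOf_le u L).trans hLX) (hXL.trans (normalizer_le_normalizer_pCoreOf u L))
    (isPGroup_pCoreOf u L)

end PCoreOf

section XOf

/-- `X = O_{p'}(F(M))`. -/
def xOf (p : ℕ) (M : Subgroup G) : Subgroup G := fittingOf M ⊓ coreOf p M

variable {M : Subgroup G}

theorem xOf_le_fittingOf : xOf p M ≤ fittingOf M := inf_le_left

theorem xOf_le_coreOf : xOf p M ≤ coreOf p M := inf_le_right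

theorem xOf_le : xOf p M ≤ M := xOf_le_fittingOf.trans (fittingOf_le_self M)

theorem le_normalizer_xOf : M ≤ normalizer (xOf p M : Set G) :=
  le_normalizer_inf (le_normalizer_fittingOf M) (le_normalizer_coreOf p M)

theorem coprime_xOf : (Nat.card (xOf p M)).Coprime p :=
  Nat.Coprime.coprime_dvd_left (Subgroup.card_dvd_of_le xOf_le_coreOf) (card_coreOf_coprime p M)

theorem coprime_V_X : (Nat.card (pCoreOf p M)).Coprime (Nat.card (xOf p M)) := by
  obtain ⟨k, hk⟩ := IsPGroup.iff_card.mp (isPGroup_pCoreOf p M)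
  rw [hk]
  exact Nat.Coprime.pow_left k coprime_xOf.symm

theorem comm_V_X : ∀ v ∈ pCoreOf p M, ∀ x ∈ xOf p M, v * x = x * v :=
  comm_of_coprime coprime_V_X (pCoreOf_le p M) xOf_le (le_normalizer_pCoreOf p M)
    le_normalizer_xOf

theorem xOf_le_centralizer_V : xOf p M ≤ centralizer (pCoreOf p M : Set G) := fun x hx =>
  mem_centralizer_of_forall fun v hv => (comm_V_X v hv x hx).symm

theorem fittingOf_le_sup (p : ℕ) [Fact p.Prime] (M : Subgroup G) :
    fittingOf M ≤ pCoreOf p M ⊔ xOf p M := by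
  rintro _ ⟨x, hx, rfl⟩
  have h1 := fittingSubgroup_le_sup p hx
  obtain ⟨a, ha, b, hb, hab⟩ := Subgroup.mem_sup_of_normal_left.mp h1
  have haF : a ∈ fittingSubgroup M := pCore_le_fittingSubgroup p ha
  have hbF : b ∈ fittingSubgroup M := by
    have : b = a⁻¹ * x := by rw [← hab]; group
    rw [this]
    exact (fittingSubgroup M).mul_mem ((fittingSubgroup M).inv_mem haF) hx
  have h2 : (a : G) ∈ pCoreOf p M := ⟨a, ha, rfl⟩
  have h3 : (b : G) ∈ xOf p M := ⟨⟨b, hbF, rfl⟩, ⟨b, hb, rfl⟩⟩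
  have h4 : M.subtype x = (a : G) * (b : G) := by
    rw [← hab]; rfl
  rw [h4]
  exact Subgroup.mul_mem_sup h2 h3

theorem pCoreOf_le_xOf {u : ℕ} [Fact u.Prime] (hu : u ≠ p) : pCoreOf u M ≤ xOf p M :=
  le_inf (pCoreOf_le_fittingOf u M) (Subgroup.map_mono (pCore_le_pPrimeCore hu))

theorem pCoreOf_ne_bot_of_dvd {u : ℕ} [hu : Fact u.Prime] (hd : u ∣ Nat.card (xOf p M)) :
    pCoreOf u M ≠ ⊥ := by
  intro h
  have h1 : pCore u M = ⊥ := by
    apply (Subgroup.map_eq_bot_iff_of_injective _ M.subtype_injective).mp h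
  have h2 : fittingSubgroup M ≤ pPrimeCore u M := by
    rw [fittingSubgroup_eq_iSup_pCore]
    refine iSup_le fun q => ?_
    haveI : Fact (q : ℕ).Prime := ⟨q.2⟩
    by_cases hq : (q : ℕ) = u
    · have : pCore (q : ℕ) M = pCore u M := by rw [hq]
      rw [this, h1]; exact bot_le
    · exact pCore_le_pPrimeCore hq
  have h3 : Nat.card (fittingOf M) = Nat.card (fittingSubgroup M) :=
    Subgroup.card_map_of_injective M.subtype_injective
  have h4 : u ∣ Nat.card (fittingSubgroup M) := by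
    rw [← h3]
    exact hd.trans (Subgroup.card_dvd_of_le xOf_le_fittingOf)
  have h5 : u ∣ Nat.card (pPrimeCore u M) := h4.trans (Subgroup.card_dvd_of_le h2)
  have h6 := card_pPrimeCore_coprime (G := M) u
  have h7 : u ∣ 1 := by
    have := Nat.dvd_gcd h5 (dvd_refl u)
    rwa [Nat.Coprime.gcd_eq_one h6] at this
  exact hu.out.one_lt.ne' (Nat.dvd_one.mp h7)

theorem ne_of_dvd_xOf {u : ℕ} [hu : Fact u.Prime] (hd : u ∣ Nat.card (xOf p M)) : u ≠ p := by
  rintro rfl
  have h6 := coprime_xOf (p := u) (M := M)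
  have h7 : u ∣ 1 := by
    have := Nat.dvd_gcd hd (dvd_refl u)
    rwa [Nat.Coprime.gcd_eq_one h6] at this
  exact hu.out.one_lt.ne' (Nat.dvd_one.mp h7)

theorem exists_prime_dvd_of_ne_bot {X : Subgroup G} (hX : X ≠ ⊥) :
    ∃ t : ℕ, t.Prime ∧ t ∣ Nat.card X := by
  have h1 : Nat.card X ≠ 1 := fun h => hX (Subgroup.card_eq_one.mp h)
  exact Nat.exists_prime_and_dvd h1

/-- The primes outside `p` and `π(X)`. -/
def tauOf (p : ℕ) (M : Subgroup G) : Set ℕ := {q | q.Prime ∧ q ≠ p ∧ ¬ q ∣ Nat.card (xOf p M)}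

theorem primesNotDvd_sup {U : Subgroup G} (hU : IsPGroup p U) (hU1 : U ≠ ⊥) (hUM : U ≤ M) :
    primesNotDvd (Nat.card ↥(U ⊔ xOf p M)) = tauOf p M := by
  have hc := card_sup_mul_card_inf (H := U) (N := xOf p M) (hUM.trans le_normalizer_xOf)
  ext q
  constructor
  · rintro ⟨hq, hd⟩
    refine ⟨hq, ?_, ?_⟩
    · rintro rfl
      exact hd ((dvd_card_of_isPGroup hU hU1).trans (Subgroup.card_dvd_of_le le_sup_left))
    · exact fun h => hd (h.trans (Subgroup.card_dvd_of_le le_sup_right))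
  · rintro ⟨hq, hqp, hd⟩
    refine ⟨hq, fun h => ?_⟩
    have h1 : q ∣ Nat.card U * Nat.card (xOf p M) := by
      rw [← hc]; exact Dvd.dvd.mul_right h _
    rcases (Nat.Prime.dvd_mul hq).mp h1 with h2 | h2
    · obtain ⟨k, hk⟩ := IsPGroup.iff_card.mp hU
      rw [hk] at h2
      exact hqp ((Nat.prime_dvd_prime_iff_eq hq Fact.out).mp (hq.dvd_of_dvd_pow h2))
    · exact hd h2

theorem coprime_of_tau {Y : Subgroup G} (hY : ∀ q : ℕ, q.Prime → q ∣ Nat.card Y → q ∈ tauOf p M) :
    (Nat.card Y).Coprime p := by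
  apply Nat.Coprime.symm
  apply (Nat.Prime.coprime_iff_not_dvd Fact.out).mpr
  intro h
  exact (hY p Fact.out h).2.1 rfl

theorem coprime_of_tau' {Y : Subgroup G} (hY : ∀ q : ℕ, q.Prime → q ∣ Nat.card Y → q ∈ tauOf p M) :
    (Nat.card Y).Coprime (Nat.card (xOf p M)) := by
  apply Nat.coprime_of_dvd
  intro q hq h1 h2
  exact (hY q hq h1).2.2 h2

theorem tau_mono {Y Z : Subgroup G} (hZY : Z ≤ Y)
    (hY : ∀ q : ℕ, q.Prime → q ∣ Nat.card Y → q ∈ tauOf p M) :
    ∀ q : ℕ, q.Prime → q ∣ Nat.card Z → q ∈ tauOf p M :=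
  fun q hq h => hY q hq (h.trans (Subgroup.card_dvd_of_le hZY))

/-- **Triviality** of invariant `τ`-subgroups of `M`. -/
theorem triv {U Y : Subgroup G} (hs : Group.IsSolvable M) (hUV : U ≤ pCoreOf p M)
    (hUc : pCoreOf p M ⊓ centralizer (U : Set G) ≤ U) (hYM : Y ≤ M)
    (hUY : U ≤ normalizer (Y : Set G)) (hXY : xOf p M ≤ normalizer (Y : Set G))
    (hY : ∀ q : ℕ, q.Prime → q ∣ Nat.card Y → q ∈ tauOf p M) : Y = ⊥ := by
  set V := pCoreOf p M with hV
  set X := xOf p M with hX
  have hc1 : (Nat.card Y).Coprime p := coprime_of_tau hY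
  have hc2 : (Nat.card Y).Coprime (Nat.card X) := coprime_of_tau' hY
  have hVp : IsPGroup p V := isPGroup_pCoreOf p M
  have hYV : Y ⊓ V = ⊥ := inf_eq_bot_of_coprime' (by
    obtain ⟨k, hk⟩ := IsPGroup.iff_card.mp hVp
    rw [hk]
    exact Nat.Coprime.pow_right k hc1)
  have hYX : Y ⊓ X = ⊥ := inf_eq_bot_of_coprime' hc2
  have hMV : M ≤ normalizer (V : Set G) := le_normalizer_pCoreOf p M
  have hMX : M ≤ normalizer (X : Set G) := le_normalizer_xOf
  rw [eq_bot_iff]
  intro y hy
  rw [Subgroup.mem_bot]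
  have hyM := hYM hy
  have hyU : ∀ a ∈ U, y * a * y⁻¹ = a := fun a ha =>
    conj_eq_of_comm (comm_of_inf hy (hUV ha) (hMV hyM) (hUY ha) hYV)
  have hyX : ∀ a ∈ X, y * a * y⁻¹ = a := fun a ha =>
    conj_eq_of_comm (comm_of_inf hy ha (hMX hyM) (hXY ha) hYX)
  have hyo : (orderOf y).Coprime p :=
    Nat.Coprime.coprime_dvd_left (Subgroup.orderOf_dvd_natCard Y hy) hc1
  have hyV : ∀ a ∈ V, y * a * y⁻¹ = a :=
    centralizes_of_self_centralizing hVp hUV (hMV hyM) hyo hyU
      (fun c hc hcC => hyU c (hUc ⟨hc, hcC⟩))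
  have hyF : y ∈ fittingOf M := by
    apply mem_fittingOf_of_centralizes hs hyM
    intro f hf
    have h1 : V ⊔ X ≤ centralizer ({y} : Set G) := by
      refine sup_le ?_ ?_
      · intro a ha
        rw [Subgroup.mem_centralizer_singleton_iff]
        exact (comm_of_conj_eq (hyV a ha)).symm
      · intro a ha
        rw [Subgroup.mem_centralizer_singleton_iff]
        exact (comm_of_conj_eq (hyX a ha)).symm
    have h2 := h1 (fittingOf_le_sup p M hf)
    rw [Subgroup.mem_centralizer_singleton_iff] at h2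
    exact h2.symm
  have hyS := fittingOf_le_sup p M hyF
  have h3 := card_sup_mul_card_inf (H := V) (N := X) ((pCoreOf_le p M).trans hMX)
  have h4 : orderOf y ∣ Nat.card V * Nat.card X := by
    rw [← h3]
    exact Dvd.dvd.mul_right (Subgroup.orderOf_dvd_natCard _ hyS) _
  have h5 : (orderOf y).Coprime (Nat.card V) := by
    obtain ⟨k, hk⟩ := IsPGroup.iff_card.mp hVp
    rw [hk]
    exact Nat.Coprime.pow_right k hyo
  have h6 : (orderOf y).Coprime (Nat.card X) :=
    Nat.Coprime.coprime_dvd_left (Subgroup.orderOf_dvd_natCard Y hy) hc2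
  have h7 : (orderOf y).Coprime (Nat.card V * Nat.card X) := Nat.Coprime.mul_right h5 h6
  have h8 := Nat.Coprime.eq_one_of_dvd h7 h4
  exact orderOf_eq_one_iff.mp h8

variable (hG : IsMinSimpleOddOrder G) (hM : IsCoatom M)

include hG hM in
theorem solvable_M : Group.IsSolvable M := IsMin.solvable hG hM.1

include hG hM in
theorem normalizer_pCoreOf_eq {u : ℕ} [Fact u.Prime] (h : pCoreOf u M ≠ ⊥) :
    normalizer (pCoreOf u M : Set G) = M :=
  eq_of_coatom_of_le_normalizer hG hM h (IsMin.isPGroup_ne_top hG (isPGroup_pCoreOf u M))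
    (le_normalizer_pCoreOf u M)

include hG hM in
theorem centralizer_pCoreOf_le {u : ℕ} [Fact u.Prime] (h : pCoreOf u M ≠ ⊥) :
    centralizer (pCoreOf u M : Set G) ≤ M := by
  have := centralizer_le_normalizer (pCoreOf u M)
  rwa [normalizer_pCoreOf_eq hG hM h] at this

/-- A subgroup of a proper normalizer of a `p`-group lies in a coatom. -/
theorem exists_coatom_ge {H : Subgroup G} (hH : H ≠ ⊤) : ∃ L, IsCoatom L ∧ H ≤ L := by
  obtain ⟨L, hL, hHL⟩ := (eq_top_or_exists_le_coatom H).resolve_left hH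
  exact ⟨L, hL, hHL⟩

include hG hM in
/-- **Good(H)**: `X` lies in the `p'`-core of any maximal subgroup containing `X` and meeting
`O_p(M)`. -/
theorem x_le_core {H : Subgroup G} (hH : IsCoatom H) (hXH : xOf p M ≤ H)
    (hVH : pCoreOf p M ⊓ H ≠ ⊥) : xOf p M ≤ coreOf p H := by
  set V := pCoreOf p M with hV
  set X := xOf p M with hX
  have hVp : IsPGroup p V := isPGroup_pCoreOf p M
  induction' hn : Nat.card V - Nat.card ↥(V ⊓ H) using Nat.strong_induction_on with n ih
    generalizing H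
  set V₁ := V ⊓ H with hV₁
  have hV₁p : IsPGroup p V₁ := hVp.to_le inf_le_left
  have hV₁t : V₁ ≠ ⊤ := IsMin.isPGroup_ne_top hG hV₁p
  have hNt : normalizer (V₁ : Set G) ≠ ⊤ := IsMin.normalizer_ne_top hG hVH hV₁t
  have hXC : X ≤ normalizer (V₁ : Set G) := by
    intro x hx
    apply mem_normalizer_of_centralizes
    intro a ha
    exact conj_eq_of_comm (comm_V_X a ha.1 x hx).symm
  have hV1 : V ≠ ⊥ := by
    intro h
    apply hVH
    rw [hV₁, h]
    exact bot_inf_eq _
  -- the auxiliary maximal subgroup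
  obtain ⟨H'', hH'', hNH'', hXH''⟩ : ∃ H'' : Subgroup G, IsCoatom H'' ∧
      normalizer (V₁ : Set G) ≤ H'' ∧ X ≤ coreOf p H'' := by
    by_cases hVV : V₁ = V
    · refine ⟨M, hM, ?_, xOf_le_coreOf⟩
      rw [hVV, hV, normalizer_pCoreOf_eq hG hM hV1]
    · have hlt : V₁ < V := lt_of_le_of_ne inf_le_left hVV
      obtain ⟨v, hvV, hvV₁, hvN⟩ := CoprimeInv.exists_mem_normalizer_of_lt hVp hlt
      obtain ⟨H'', hH'', hNH''⟩ := exists_coatom_ge hNt
      refine ⟨H'', hH'', hNH'', ?_⟩
      have hlt2 : V₁ < V ⊓ H'' := by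
        refine lt_of_le_of_ne (le_inf inf_le_left (le_normalizer.trans hNH'')) ?_
        intro h
        apply hvV₁
        rw [h]
        exact ⟨hvV, hNH'' hvN⟩
      have hcard := card_lt_of_lt' hlt2
      have hle : Nat.card ↥(V ⊓ H'') ≤ Nat.card V :=
        Nat.le_of_dvd Nat.card_pos (Subgroup.card_dvd_of_le inf_le_left)
      have hle2 : Nat.card V₁ ≤ Nat.card V :=
        Nat.le_of_dvd Nat.card_pos (Subgroup.card_dvd_of_le inf_le_left)
      refine ih (Nat.card V - Nat.card ↥(V ⊓ H'')) ?_ hH'' ?_ (hXC.trans hNH'') rfl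
      · rw [← hn]
        omega
      · intro h'
        rw [h'] at hlt2
        exact not_lt_bot hlt2
  intro x hx
  have hxH : x ∈ H := hXH hx
  have hsH : Group.IsSolvable H := IsMin.solvable hG hH.1
  haveI := hsH
  have hord : (orderOf x).Coprime p :=
    Nat.Coprime.coprime_dvd_left (Subgroup.orderOf_dvd_natCard X hx) coprime_xOf
  have hord' : (orderOf (⟨x, hxH⟩ : H)).Coprime p := by
    rw [Subgroup.orderOf_mk]; exact hord
  have key := BGTH.mem_core_of_commute (C := H) (p := p) ⟨x, hxH⟩ hord'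
    (commute_pCore_quotient (u := p) (pPrimeCore p H) (card_pPrimeCore_coprime p)
      (V.subgroupOf H) hVp.comap_subtype hord' ?_ ?_)
  · exact ⟨_, key, rfl⟩
  · intro t ht
    apply Subtype.ext
    exact (comm_V_X (t : G) ht x hx).symm
  · intro g hg
    have hgN : (g : G) ∈ normalizer (V₁ : Set G) := by
      apply mem_normalizer_of_centralizes
      intro a ha
      have h1 : (⟨a, ha.2⟩ : H) ∈ V.subgroupOf H := ha.1
      have h2 := hg _ h1
      have h3 := congrArg Subtype.val h2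
      have h4 : a * (g : G) * a⁻¹ = (g : G) := h3
      have h5 : a * (g : G) = (g : G) * a := comm_of_conj_eq h4
      exact conj_eq_of_comm h5.symm
    have hgH'' := hNH'' hgN
    have hxcore := hXH'' hx
    have hmem : (g : G) * x * (g : G)⁻¹ * x⁻¹ ∈ coreOf p H'' :=
      mul_mem ((Subgroup.mem_normalizer_iff.mp (le_normalizer_coreOf p H'' hgH'') x).mp hxcore)
        (inv_mem hxcore)
    have h1 : orderOf ((g : G) * x * (g : G)⁻¹ * x⁻¹) ∣ Nat.card (coreOf p H'') :=
      Subgroup.orderOf_dvd_natCard _ hmem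
    have h2 : (orderOf ((g : G) * x * (g : G)⁻¹ * x⁻¹)).Coprime p :=
      Nat.Coprime.coprime_dvd_left h1 (card_coreOf_coprime p H'')
    have h3 : orderOf (g * (⟨x, hxH⟩ : H) * g⁻¹ * (⟨x, hxH⟩ : H)⁻¹) =
        orderOf ((g : G) * x * (g : G)⁻¹ * x⁻¹) := by
      rw [← Subgroup.orderOf_coe]
      rfl
    rw [h3]
    exact h2

/-- An element of `O_{p'}(E)` centralizes `O_p(E/N)`. -/
theorem comm_of_mem_pPrimeCore {E : Type u} [Group E] [Finite E] (N : Subgroup E) [N.Normal] {c : E}
    (hc : c ∈ pPrimeCore p E) :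
    ∀ f ∈ pCore p (E ⧸ N), QuotientGroup.mk' N c * f = f * QuotientGroup.mk' N c := by
  intro f hf
  set mk := QuotientGroup.mk' N with hmk
  haveI hn : ((pPrimeCore p E).map mk).Normal :=
    Subgroup.Normal.map inferInstance mk (QuotientGroup.mk'_surjective N)
  have h1 : Nat.card ((pPrimeCore p E).map mk) ∣ Nat.card (pPrimeCore p E) :=
    Subgroup.card_map_dvd _ _
  have h2 : (Nat.card ((pPrimeCore p E).map mk)).Coprime p :=
    Nat.Coprime.coprime_dvd_left h1 (card_pPrimeCore_coprime p)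
  have h3 : (Nat.card ((pPrimeCore p E).map mk)).Coprime (Nat.card (pCore p (E ⧸ N))) := by
    obtain ⟨k, hk⟩ := IsPGroup.iff_card.mp (isPGroup_pCore (G := E ⧸ N) p)
    rw [hk]
    exact Nat.Coprime.pow_right k h2
  have h4 : Disjoint ((pPrimeCore p E).map mk) (pCore p (E ⧸ N)) := by
    rw [disjoint_iff]
    exact inf_eq_bot_of_coprime' h3
  exact Subgroup.commute_of_normal_of_disjoint _ _ inferInstance inferInstance h4 _ _
    (Subgroup.mem_map_of_mem _ hc) hf

theorem coprime_orderOf_of_isPGroup' {u r : ℕ} [Fact u.Prime] [Fact r.Prime] {S : Subgroup G}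
    (hS : IsPGroup u S) {a : G} (ha : a ∈ S) (hne : r ≠ u) : (orderOf a).Coprime r := by
  obtain ⟨k, hk⟩ := (IsPGroup.iff_orderOf.mp hS) ⟨a, ha⟩
  have h2 : orderOf a = u ^ k := by
    rw [← Subgroup.orderOf_mk a ha]; exact hk
  rw [h2]
  exact Nat.Coprime.pow_left k ((Nat.coprime_primes Fact.out Fact.out).mpr hne.symm)

theorem inf_centralizer_subgroupOf {H Y B : Subgroup G} (hBH : B ≤ H)
    (h : Y ⊓ centralizer (B : Set G) = ⊥) :
    Y.subgroupOf H ⊓ centralizer ((B.subgroupOf H : Subgroup H) : Set H) = ⊥ := by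
  rw [eq_bot_iff]
  rintro z ⟨hz1, hz2⟩
  have h1 : (z : G) ∈ Y ⊓ centralizer (B : Set G) := by
    refine ⟨hz1, ?_⟩
    apply mem_centralizer_of_forall
    intro a ha
    have h2 := Subgroup.mem_centralizer_iff.mp hz2 ⟨a, hBH ha⟩ ha
    exact (congrArg Subtype.val h2).symm
  rw [h, Subgroup.mem_bot] at h1
  rw [Subgroup.mem_bot]
  exact Subtype.ext h1

include hG hM in
/-- Invariant `τ`-subgroups of a maximal subgroup containing `U X` lie in its `τ`-core. -/
theorem le_piCoreOf_of_coatom {U H Y : Subgroup G} (hU : U ≤ pCoreOf p M) (hU1 : U ≠ ⊥)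
    (hH : IsCoatom H) (hUH : U ≤ H) (hXH : xOf p M ≤ H) (hYH : Y ≤ H)
    (hY : ∀ q : ℕ, q.Prime → q ∣ Nat.card Y → q ∈ tauOf p M)
    (hUY : U ≤ normalizer (Y : Set G)) (hXY : xOf p M ≤ normalizer (Y : Set G))
    {t : ℕ} [Fact t.Prime] (ht : t ∣ Nat.card (xOf p M))
    (h1 : Y ⊓ centralizer (U : Set G) = ⊥)
    (h2 : Y ⊓ centralizer (pCoreOf t M : Set G) = ⊥) : Y ≤ piCoreOf (tauOf p M) H := by
  set τ := tauOf p M with hτ
  set V := pCoreOf p M with hV
  set X := xOf p M with hX
  have hVp : IsPGroup p V := isPGroup_pCoreOf p M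
  have hUp : IsPGroup p U := hVp.to_le hU
  haveI hsH : Group.IsSolvable H := IsMin.solvable hG hH.1
  have hVH : V ⊓ H ≠ ⊥ := by
    intro h
    apply hU1
    rw [eq_bot_iff, ← h]
    exact le_inf hU hUH
  have hXcore : X ≤ coreOf p H := x_le_core hG hM hH hXH hVH
  apply BGTH.le_map_of_subgroupOf_le hYH
  apply le_piCore_of_centralizes
  · intro q hq hd
    rw [card_subgroupOf_of_le hYH] at hd
    exact hY q hq hd
  · intro u _ hu y hy f hf
    set N := piCore τ H with hN
    let mk := QuotientGroup.mk' N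
    let Cn : Subgroup H := (centralizer (pCore u (H ⧸ N) : Set (H ⧸ N))).comap mk
    have hCnN : Cn.Normal := Subgroup.Normal.comap inferInstance mk
    have hYc1 : ∀ {r : ℕ}, r.Prime → r ∉ τ → (Nat.card (Y.subgroupOf H)).Coprime r := by
      intro r hr hrτ
      rw [card_subgroupOf_of_le hYH]
      apply Nat.Coprime.symm
      apply (Nat.Prime.coprime_iff_not_dvd hr).mpr
      intro hd
      exact hrτ (hY r hr hd)
    have hYCn : Y.subgroupOf H ≤ Cn := by
      have hu' : u = p ∨ u ∣ Nat.card X := by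
        by_contra hcon
        push Not at hcon
        exact hu ⟨Fact.out, hcon.1, hcon.2⟩
      rcases hu' with rfl | hud
      · -- the case `u = p`: use `X_t`
        have htne : t ≠ u := ne_of_dvd_xOf ht
        have htτ : t ∉ τ := fun h => h.2.2 ht
        refine le_of_fixed_eq_bot (q := t) (B := (pCoreOf t M).subgroupOf H)
          (isPGroup_pCoreOf t M).comap_subtype (hYc1 Fact.out htτ)
          (BGTH.subgroupOf_le_normalizer ((pCoreOf_le_xOf htne).trans hXY))
          (by rw [normalizer_eq_top_iff.mpr hCnN]; exact le_top) ?_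
          (inf_centralizer_subgroupOf ((pCoreOf_le_xOf htne).trans hXH) h2)
        intro b hb y hy
        have hbcore : b ∈ pPrimeCore u H := by
          obtain ⟨b', hb', hbb'⟩ := hXcore (pCoreOf_le_xOf htne hb)
          have : b' = b := Subtype.ext hbb'
          rwa [← this]
        have hmem : y⁻¹ * (b * y * b⁻¹) ∈ pPrimeCore u H := by
          have h3 : y⁻¹ * (b * y * b⁻¹) = (y⁻¹ * b * y⁻¹⁻¹) * b⁻¹ := by group
          rw [h3]
          exact mul_mem ((inferInstance : (pPrimeCore u H).Normal).conj_mem b hbcore y⁻¹)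
            (inv_mem hbcore)
        show mk _ ∈ centralizer _
        rw [Subgroup.mem_centralizer_iff]
        intro g hg
        exact (comm_of_mem_pPrimeCore N hmem g hg).symm
      · -- the case `u ∣ |X|`: use `U`
        have hup : u ≠ p := ne_of_dvd_xOf hud
        have hXu : pCoreOf u M ≠ ⊥ := pCoreOf_ne_bot_of_dvd hud
        have hUCn : U.subgroupOf H ≤ Cn := by
          intro a ha
          show mk a ∈ centralizer _
          rw [Subgroup.mem_centralizer_iff]
          intro g hg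
          have haU : (a : G) ∈ U := ha
          have hNc : (Nat.card N).Coprime u := by
            apply Nat.Coprime.symm
            apply (Nat.Prime.coprime_iff_not_dvd Fact.out).mpr
            intro hd
            exact hu (piCore_primes τ u Fact.out hd)
          have hao : (orderOf a).Coprime u := by
            rw [← Subgroup.orderOf_coe]
            exact coprime_orderOf_of_isPGroup' hUp haU hup
          refine (commute_pCore_quotient (u := u) N hNc ((pCoreOf u M).subgroupOf H)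
            (isPGroup_pCoreOf u M).comap_subtype hao ?_ ?_ g hg).symm
          · intro t' ht'
            apply Subtype.ext
            exact comm_V_X (a : G) (hU haU) (t' : G) (pCoreOf_le_xOf hup ht')
          · intro g' hg'
            have hg'C : (g' : G) ∈ centralizer (pCoreOf u M : Set G) := by
              apply mem_centralizer_of_forall
              intro b hb
              have h3 := hg' ⟨b, hXH (pCoreOf_le_xOf hup hb)⟩ hb
              have h4 : b * (g' : G) * b⁻¹ = g' := congrArg Subtype.val h3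
              exact (comm_of_conj_eq h4).symm
            have hg'M : (g' : G) ∈ M := centralizer_pCoreOf_le hG hM hXu hg'C
            have hmem : (g' : G) * a * (g' : G)⁻¹ * (a : G)⁻¹ ∈ V :=
              mul_mem ((Subgroup.mem_normalizer_iff.mp (le_normalizer_pCoreOf p M hg'M) _).mp
                (hU haU)) (inv_mem (hU haU))
            have h3 : orderOf (g' * a * g'⁻¹ * a⁻¹) =
                orderOf ((g' : G) * a * (g' : G)⁻¹ * (a : G)⁻¹) := by
              rw [← Subgroup.orderOf_coe]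
              rfl
            rw [h3]
            exact coprime_orderOf_of_isPGroup' hVp hmem hup
        have hpτ : p ∉ τ := fun h => h.2.1 rfl
        refine le_of_fixed_eq_bot (q := p) (B := U.subgroupOf H)
          hUp.comap_subtype (hYc1 Fact.out hpτ)
          (BGTH.subgroupOf_le_normalizer hUY)
          (by rw [normalizer_eq_top_iff.mpr hCnN]; exact le_top) ?_
          (inf_centralizer_subgroupOf hUH h1)
        intro a ha y hy
        have h3 : y⁻¹ * (a * y * a⁻¹) = (y⁻¹ * a * y⁻¹⁻¹) * a⁻¹ := by group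
        rw [h3]
        exact mul_mem (hCnN.conj_mem a (hUCn ha) y⁻¹) (inv_mem (hUCn ha))
    have h5 := hYCn hy
    have h6 : mk y ∈ centralizer (pCore u (H ⧸ N) : Set (H ⧸ N)) := h5
    exact (Subgroup.mem_centralizer_iff.mp h6 _ hf).symm

include hG hM in
/-- The transitivity hypothesis for `U X`. -/
theorem th_core {U : Subgroup G} (hU : U ≤ pCoreOf p M) (hU1 : U ≠ ⊥)
    {t : ℕ} [Fact t.Prime] (ht : t ∣ Nat.card (xOf p M))
    (hfix : ∀ Y : Subgroup G, (U ⊔ xOf p M) ≤ normalizer (Y : Set G) →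
      (∀ q : ℕ, q.Prime → q ∣ Nat.card Y → q ∈ tauOf p M) →
      Y ⊓ centralizer (U : Set G) = ⊥ ∧ Y ⊓ centralizer (pCoreOf t M : Set G) = ⊥) :
    TransitivityHypothesis (U ⊔ xOf p M) := by
  have hUM : U ≤ M := hU.trans (pCoreOf_le p M)
  have hUp : IsPGroup p U := (isPGroup_pCoreOf p M).to_le hU
  refine ⟨?_, ?_, ?_⟩
  · intro h
    apply hU1
    rw [eq_bot_iff, ← h]
    exact le_sup_left
  · intro h
    apply hM.1
    rw [eq_top_iff, ← h]
    exact sup_le hUM xOf_le
  · intro E hE hAE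
    rw [primesNotDvd_sup hUp hU1 hUM]
    apply le_antisymm
    · refine sSup_le ?_
      rintro Y ⟨hYE, hYp, hAY⟩
      obtain ⟨H, hH, hEH⟩ := exists_coatom_ge hE
      have hAH := hAE.trans hEH
      have hf := hfix Y hAY hYp
      have h1 := le_piCoreOf_of_coatom hG hM hU hU1 hH (le_sup_left.trans hAH)
        (le_sup_right.trans hAH) (hYE.trans hEH) hYp (le_sup_left.trans hAY)
        (le_sup_right.trans hAY) ht hf.1 hf.2
      refine (le_inf h1 hYE).trans ?_
      apply le_piCoreOf inf_le_right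
        (le_normalizer_inf (hEH.trans (le_normalizer_piCoreOf _ H)) le_normalizer)
      exact tau_mono inf_le_left (piCoreOf_primes _ H)
    · exact le_sSup ⟨piCoreOf_le _ E, piCoreOf_primes _ E,
        hAE.trans (le_normalizer_piCoreOf _ E)⟩

end XOf

end Cfsg.Agent.Lib.BGFit2
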