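import Mathlib
import Cfsg.Prelude.Def_OddOrderLocal
import Cfsg.Prelude.Def_Amalgam
import Cfsg.Agent.Lib.BGFit2

/-!
# Bender-Glauberman section 8: invariant subgroups under `A X`.

With `V = O_p(M)` of large rank, `X = O_{p'}(F(M)) ≠ 1`, `A ∈ SCN(V)`: the `A X`-invariant subgroups
for the primes outside `p` and `π(X)` are trivial.
-/

set_option autoImplicit false
set_option linter.unusedSectionVars false
set_option linter.unusedVariables false
set_option linter.style.haveILetI false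
set_option linter.unusedSimpArgs false

namespace Cfsg.Agent.Lib.BGFit3

open Cfsg Subgroup Cfsg.Agent.Lib.CoprimeInv Cfsg.Agent.Lib.BGTrans Cfsg.Agent.Lib.BGTrans2
  Cfsg.Agent.Lib.PCore Cfsg.Agent.Lib.BGUniq Cfsg.Agent.Lib.BGUniq2 Cfsg.Agent.Lib.BGUniq3
  Cfsg.Agent.Lib.BGFit1 Cfsg.Agent.Lib.BGFit2

universe u

variable {G : Type u} [Group G] [Finite G] {p : ℕ} [hp : Fact p.Prime] {M : Subgroup G}

theorem tau_of_isPGroup {q : ℕ} [Fact q.Prime] {Q : Subgroup G} (hQ : IsPGroup q Q)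
    (hq : q ∈ tauOf p M) : ∀ r : ℕ, r.Prime → r ∣ Nat.card Q → r ∈ tauOf p M := by
  intro r hr hd
  obtain ⟨k, hk⟩ := IsPGroup.iff_card.mp hQ
  rw [hk] at hd
  have := (Nat.prime_dvd_prime_iff_eq hr Fact.out).mp (hr.dvd_of_dvd_pow hd)
  rw [this]
  exact hq

theorem triv_inf {U Y W : Subgroup G} (hs : Group.IsSolvable M) (hUV : U ≤ pCoreOf p M)
    (hUc : pCoreOf p M ⊓ centralizer (U : Set G) ≤ U) (hW : W ≤ M)
    (hUW : U ≤ normalizer (W : Set G)) (hXW : xOf p M ≤ normalizer (W : Set G))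
    (hUY : U ≤ normalizer (Y : Set G)) (hXY : xOf p M ≤ normalizer (Y : Set G))
    (hY : ∀ q : ℕ, q.Prime → q ∣ Nat.card Y → q ∈ tauOf p M) : Y ⊓ W = ⊥ :=
  triv hs hUV hUc (inf_le_right.trans hW) (le_normalizer_inf hUY hUW) (le_normalizer_inf hXY hXW)
    (tau_mono inf_le_left hY)

section

variable (hG : IsMinSimpleOddOrder G) (hM : IsCoatom M) {t : ℕ} [ht' : Fact t.Prime]
  (ht : t ∣ Nat.card (xOf p M))

include hG hM ht in
theorem inf_centralizer_Xt {U Y : Subgroup G} (hUV : U ≤ pCoreOf p M)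
    (hUc : pCoreOf p M ⊓ centralizer (U : Set G) ≤ U)
    (hUY : U ≤ normalizer (Y : Set G)) (hXY : xOf p M ≤ normalizer (Y : Set G))
    (hY : ∀ q : ℕ, q.Prime → q ∣ Nat.card Y → q ∈ tauOf p M) :
    Y ⊓ centralizer (pCoreOf t M : Set G) = ⊥ := by
  have hN : M ≤ normalizer (centralizer (pCoreOf t M : Set G) : Set G) :=
    (le_normalizer_pCoreOf t M).trans (normalizer_le_normalizer_centralizer _)
  exact triv_inf (solvable_M hG hM) hUV hUc (centralizer_pCoreOf_le hG hM (pCoreOf_ne_bot_of_dvd ht))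
    ((hUV.trans (pCoreOf_le p M)).trans hN) (xOf_le.trans hN) hUY hXY hY

include hG hM ht in
/-- `K = O_τ(C(A))` vanishes. -/
theorem K_eq_bot {U : Subgroup G} (hUV : U ≤ pCoreOf p M)
    (hUc : pCoreOf p M ⊓ centralizer (U : Set G) ≤ U) :
    piCoreOf (tauOf p M) (centralizer ((U ⊔ xOf p M : Subgroup G) : Set G)) = ⊥ := by
  set A := U ⊔ xOf p M with hA
  have hC : centralizer (A : Set G) ≤ M := by
    have hne : t ≠ p := ne_of_dvd_xOf ht
    have h1 : pCoreOf t M ≤ A := (pCoreOf_le_xOf hne).trans le_sup_right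
    exact (Subgroup.centralizer_le h1).trans
      (centralizer_pCoreOf_le hG hM (pCoreOf_ne_bot_of_dvd ht))
  have hN : A ≤ normalizer (piCoreOf (tauOf p M) (centralizer (A : Set G)) : Set G) :=
    le_normalizer.trans ((normalizer_le_normalizer_centralizer A).trans
      (normalizer_le_normalizer_piCoreOf _ _))
  exact triv (solvable_M hG hM) hUV hUc ((piCoreOf_le _ _).trans hC) (le_sup_left.trans hN)
    (le_sup_right.trans hN) (piCoreOf_primes _ _)

include hG hM ht in
/-- **Step 1**: the transitivity hypothesis for `V X`. -/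
theorem th_F (hV : pCoreOf p M ≠ ⊥) : TransitivityHypothesis (pCoreOf p M ⊔ xOf p M) := by
  apply th_core hG hM le_rfl hV ht
  intro Y hFY hY
  have hVY := le_sup_left.trans hFY
  have hXY := le_sup_right.trans hFY
  refine ⟨?_, inf_centralizer_Xt hG hM ht le_rfl inf_le_left hVY hXY hY⟩
  have hN : M ≤ normalizer (centralizer (pCoreOf p M : Set G) : Set G) :=
    (le_normalizer_pCoreOf p M).trans (normalizer_le_normalizer_centralizer _)
  exact triv_inf (solvable_M hG hM) le_rfl inf_le_left (centralizer_pCoreOf_le hG hM hV)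
    ((pCoreOf_le p M).trans hN) (xOf_le.trans hN) hVY hXY hY

theorem cj_eq_of_mem_K {Q : Subgroup G} {π : Set ℕ} {A : Subgroup G} {k : G}
    (hK : piCoreOf π (centralizer (A : Set G)) = ⊥)
    (hk : k ∈ piCoreOf π (centralizer (A : Set G))) : cj Q k = Q := by
  rw [hK, Subgroup.mem_bot] at hk
  rw [hk, cj_one]

theorem not_dvd_of_tau {U : Subgroup G} (hU : IsPGroup p U) (hU1 : U ≠ ⊥) (hUM : U ≤ M) {q : ℕ}
    (hq : q ∈ tauOf p M) : ¬ q ∣ Nat.card ↥(U ⊔ xOf p M) := by
  rw [← primesNotDvd_sup hU hU1 hUM] at hq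
  exact hq.2

include hG hM ht in
/-- **Step 2**: there is no nontrivial `V X`-invariant `q`-subgroup centralized by `Z(V)`. -/
theorem no_central (hV : pCoreOf p M ≠ ⊥) {q : ℕ} [Fact q.Prime] (hq : q ∈ tauOf p M)
    {T₁ : Subgroup G} (hT₁ : IsPGroup q T₁) (hT₁1 : T₁ ≠ ⊥)
    (hFT : pCoreOf p M ⊔ xOf p M ≤ normalizer (T₁ : Set G))
    (hTC : T₁ ≤ centralizer ((pCoreOf p M ⊓ centralizer (pCoreOf p M : Set G) : Subgroup G) : Set G)) :
    False := by
  set V := pCoreOf p M with hVd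
  set X := xOf p M with hXd
  set F := V ⊔ X with hF
  have hVp : IsPGroup p V := isPGroup_pCoreOf p M
  have hVM : V ≤ M := pCoreOf_le p M
  have hFM : F ≤ M := sup_le hVM xOf_le
  have hTH : TransitivityHypothesis F := th_F hG hM ht hV
  have hqF : ¬ q ∣ Nat.card F := not_dvd_of_tau hVp hV hVM hq
  have hK : piCoreOf (primesNotDvd (Nat.card F)) (centralizer (F : Set G)) = ⊥ := by
    rw [primesNotDvd_sup hVp hV hVM]
    exact K_eq_bot hG hM ht le_rfl inf_le_left
  have hmem : T₁ ∈ invSubgroups ⊤ F {q} := mem_invSubgroups_singleton.mpr ⟨le_top, hT₁, hFT⟩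
  obtain ⟨Q₁, hQ₁, hTQ⟩ := exists_maxInv_ge hmem
  have hQ₁q : IsPGroup q Q₁ := (mem_invSubgroups_singleton.mp hQ₁.1).2.1
  have hMV : M ≤ normalizer (V : Set G) := le_normalizer_pCoreOf p M
  have hMF : M ≤ normalizer (F : Set G) := le_normalizer_sup' hMV le_normalizer_xOf
  obtain ⟨-, hMZ, hZ1⟩ := center_facts hVp hV hMV
  obtain ⟨z, hzZ, hz1⟩ := exists_mem_ne_one hZ1
  have hHt : centralizer ({z} : Set G) ≠ ⊤ := IsMin.centralizer_singleton_ne_top hG hz1
  have hFH : F ≤ centralizer ({z} : Set G) := by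
    refine sup_le ?_ ?_
    · intro v hv
      rw [Subgroup.mem_centralizer_singleton_iff]
      exact centralizes_of_mem_centralizer hzZ.2 hv |>.symm
    · intro x hx
      rw [Subgroup.mem_centralizer_singleton_iff]
      exact (comm_V_X z hzZ.1 x hx).symm
  have hTH' : T₁ ≤ centralizer ({z} : Set G) := by
    intro t₁ ht₁
    rw [Subgroup.mem_centralizer_singleton_iff]
    exact centralizes_of_mem_centralizer (hTC ht₁) hzZ
  have hcj : ∀ m ∈ M, cj Q₁ m = Q₁ := by
    intro m hm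
    have hQ₂ := cj_mem_maxInv_of_normalizer (hMF hm) hQ₁
    have h1 : centralizer ({z} : Set G) ⊓ Q₁ ≠ ⊥ := by
      intro h
      apply hT₁1
      rw [eq_bot_iff, ← h]
      exact le_inf hTH' hTQ
    have h2 : centralizer ({z} : Set G) ⊓ cj Q₁ m ≠ ⊥ := by
      intro h
      have hle : cj T₁ m ≤ centralizer ({z} : Set G) ⊓ cj Q₁ m := by
        refine le_inf ?_ (cj_mono hTQ m)
        rintro _ ⟨t₁, ht₁, rfl⟩
        rw [Subgroup.mem_centralizer_singleton_iff]
        have hz' : m⁻¹ * z * m ∈ V ⊓ centralizer (V : Set G) := by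
          have := (Subgroup.mem_normalizer_iff.mp (hMZ (M.inv_mem hm)) z).mp hzZ
          simpa using this
        have h3 := centralizes_of_mem_centralizer (hTC ht₁) hz'
        show (m * t₁ * m⁻¹) * z = z * (m * t₁ * m⁻¹)
        calc (m * t₁ * m⁻¹) * z = m * (t₁ * (m⁻¹ * z * m)) * m⁻¹ := by group
          _ = m * ((m⁻¹ * z * m) * t₁) * m⁻¹ := by rw [h3]
          _ = _ := by group
      rw [h, le_bot_iff] at hle
      apply hT₁1
      have h4 : Nat.card T₁ = 1 := by
        rw [← card_cj T₁ m, hle, Subgroup.card_bot]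
      exact Subgroup.card_eq_one.mp h4
    obtain ⟨k, hk, e⟩ := TH.conj_of_common hG hTH hqF hQ₁ hQ₂ hHt hFH h1 h2
    rw [e]
    exact cj_eq_of_mem_K hK hk
  have hQ₁1 : Q₁ ≠ ⊥ := by
    intro h
    apply hT₁1
    rw [eq_bot_iff, ← h]
    exact hTQ
  have hMQ : M ≤ normalizer (Q₁ : Set G) := fun m hm => mem_normalizer_of_cj_eq (hcj m hm)
  have hNQ := eq_of_coatom_of_le_normalizer hG hM hQ₁1 (IsMin.isPGroup_ne_top hG hQ₁q) hMQ
  have hQM : Q₁ ≤ M := by
    rw [← hNQ]; exact le_normalizer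
  have hFQ : F ≤ normalizer (Q₁ : Set G) := (mem_invSubgroups_singleton.mp hQ₁.1).2.2
  exact hQ₁1 (triv (solvable_M hG hM) le_rfl inf_le_left hQM (le_sup_left.trans hFQ)
    (le_sup_right.trans hFQ) (tau_of_isPGroup hQ₁q hq))

include hG hM ht in
/-- **Step 3**: the `τ`-core of `C(A')` vanishes. -/
theorem n9_eq_bot (hV : pCoreOf p M ≠ ⊥) {A' : Subgroup G} (hA'V : A' ≤ pCoreOf p M)
    (hA'c : pCoreOf p M ⊓ centralizer (A' : Set G) ≤ A')
    (hVA' : pCoreOf p M ≤ normalizer (A' : Set G)) :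
    piCoreOf (tauOf p M) (centralizer (A' : Set G)) = ⊥ := by
  set V := pCoreOf p M with hVd
  set X := xOf p M with hXd
  set N₉ := piCoreOf (tauOf p M) (centralizer (A' : Set G)) with hN₉
  by_contra hne
  have hA'1 : A' ≠ ⊥ := by
    rintro rfl
    apply hV
    rw [eq_bot_iff]
    refine le_trans ?_ hA'c
    exact le_inf le_rfl (fun v _ => by
      rw [Subgroup.mem_centralizer_iff]
      intro h hh
      have h1 : h = 1 := hh
      rw [h1]; simp)
  have hA't : A' ≠ ⊤ := IsMin.isPGroup_ne_top hG ((isPGroup_pCoreOf p M).to_le hA'V)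
  have hCt : centralizer (A' : Set G) ≠ ⊤ := centralizer_ne_top hG hA'1 hA't
  have hNt : N₉ ≠ ⊤ := fun h => hCt (top_le_iff.mp (h ▸ piCoreOf_le _ _))
  haveI hNs : Group.IsSolvable N₉ := IsMin.solvable hG hNt
  haveI hNnt : Nontrivial N₉ := (Subgroup.nontrivial_iff_ne_bot N₉).mpr hne
  obtain ⟨q, hq, hq1⟩ := exists_pCore_ne_bot (G := N₉)
  haveI : Fact q.Prime := ⟨hq⟩
  have hT1 : pCoreOf q N₉ ≠ ⊥ := by
    intro h
    exact hq1 ((Subgroup.map_eq_bot_iff_of_injective _ N₉.subtype_injective).mp h)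
  have hTp : IsPGroup q (pCoreOf q N₉) := isPGroup_pCoreOf q N₉
  have hqd : q ∣ Nat.card (pCoreOf q N₉) := dvd_card_of_isPGroup hTp hT1
  have hqτ : q ∈ tauOf p M := piCoreOf_primes _ _ q hq
    (hqd.trans (Subgroup.card_dvd_of_le (pCoreOf_le q N₉)))
  have hXC : X ≤ centralizer (A' : Set G) := by
    intro x hx
    apply mem_centralizer_of_forall
    intro a ha
    exact (comm_V_X a (hA'V ha) x hx).symm
  have hFN : V ⊔ X ≤ normalizer (centralizer (A' : Set G) : Set G) :=
    sup_le (hVA'.trans (normalizer_le_normalizer_centralizer A')) (hXC.trans le_normalizer)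
  have hFT : V ⊔ X ≤ normalizer (pCoreOf q N₉ : Set G) :=
    hFN.trans ((normalizer_le_normalizer_piCoreOf _ _).trans
      (normalizer_le_normalizer_pCoreOf q N₉))
  have hle : V ⊓ centralizer (V : Set G) ≤ A' := by
    intro z hz
    apply hA'c
    refine ⟨hz.1, ?_⟩
    apply mem_centralizer_of_forall
    intro a ha
    exact centralizes_of_mem_centralizer hz.2 (hA'V ha)
  have hTC : pCoreOf q N₉ ≤ centralizer ((V ⊓ centralizer (V : Set G) : Subgroup G) : Set G) :=
    ((pCoreOf_le q N₉).trans (piCoreOf_le _ _)).trans (Subgroup.centralizer_le hle)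
  exact no_central hG hM ht hV hqτ hTp hT1 hFT hTC

include hG hM in
/-- Elements of `V` normalizing `L ≥ X_u` centralize `O_u(L)`. -/
theorem centralizes_pCoreOf {u : ℕ} [Fact u.Prime] (hd : u ∣ Nat.card (xOf p M)) {L : Subgroup G}
    (hXL : pCoreOf u M ≤ L) {v : G} (hv : v ∈ pCoreOf p M) (hvL : v ∈ normalizer (L : Set G)) :
    ∀ s ∈ pCoreOf u L, v * s * v⁻¹ = s := by
  have hup : u ≠ p := ne_of_dvd_xOf hd
  have hXu : pCoreOf u M ≠ ⊥ := pCoreOf_ne_bot_of_dvd hd
  set Xu := pCoreOf u M with hXud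
  set R := pCoreOf u L with hR
  set S := Xu ⊔ R with hS
  have hSp : IsPGroup u S := isPGroup_sup_of_le_normalizer (isPGroup_pCoreOf u M)
    (isPGroup_pCoreOf u L) (hXL.trans (le_normalizer_pCoreOf u L))
  have hvXu : ∀ q ∈ Xu, v * q * v⁻¹ = q := fun q hq =>
    conj_eq_of_comm (comm_V_X v hv q (pCoreOf_le_xOf hup hq))
  have hvS : v ∈ normalizer (S : Set G) :=
    mem_normalizer_sup' (mem_normalizer_of_centralizes hvXu)
      (normalizer_le_normalizer_pCoreOf u L hvL)
  have hvo : (orderOf v).Coprime u :=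
    coprime_orderOf_of_isPGroup' (isPGroup_pCoreOf p M) hv hup
  have hVS : pCoreOf p M ⊓ S = ⊥ := inf_eq_bot_of_pgroups (isPGroup_pCoreOf p M) hSp hup.symm
  have key := centralizes_of_self_centralizing hSp (le_sup_left : Xu ≤ S) hvS hvo hvXu ?_
  · exact fun s hs => key s ((le_sup_right : R ≤ S) hs)
  · intro c hcS hcC
    have hcM : c ∈ M := centralizer_pCoreOf_le hG hM hXu hcC
    exact conj_eq_of_comm (comm_of_inf hv hcS hvS (le_normalizer_pCoreOf p M hcM) hVS)

include hG hM ht in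
/-- **Step 4**: `Y ⊓ C(A') = 1` for `A'X`-invariant `τ`-subgroups `Y`. -/
theorem inf_centralizer_eq_bot (hV : pCoreOf p M ≠ ⊥) {A' Y : Subgroup G} (hA'V : A' ≤ pCoreOf p M)
    (hA'c : pCoreOf p M ⊓ centralizer (A' : Set G) ≤ A')
    (hVA' : pCoreOf p M ≤ normalizer (A' : Set G))
    (hAY : A' ⊔ xOf p M ≤ normalizer (Y : Set G))
    (hY : ∀ q : ℕ, q.Prime → q ∣ Nat.card Y → q ∈ tauOf p M) :
    Y ⊓ centralizer (A' : Set G) = ⊥ := by
  have hn9 := n9_eq_bot hG hM ht hV hA'V hA'c hVA'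
  set V := pCoreOf p M with hVd
  set X := xOf p M with hXd
  set C₉ := centralizer (A' : Set G) with hC₉
  have hVp : IsPGroup p V := isPGroup_pCoreOf p M
  have hs := solvable_M hG hM
  have hA'1 : A' ≠ ⊥ := by
    rintro rfl
    apply hV
    rw [eq_bot_iff]
    refine le_trans ?_ hA'c
    exact le_inf le_rfl (fun v _ => by
      rw [Subgroup.mem_centralizer_iff]
      intro h hh
      have h1 : h = 1 := hh
      rw [h1]; simp)
  have hA't : A' ≠ ⊤ := IsMin.isPGroup_ne_top hG (hVp.to_le hA'V)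
  have hCt : C₉ ≠ ⊤ := centralizer_ne_top hG hA'1 hA't
  have hNt : normalizer (A' : Set G) ≠ ⊤ := IsMin.normalizer_ne_top hG hA'1 hA't
  have hCN : C₉ ≤ normalizer (A' : Set G) := centralizer_le_normalizer A'
  have hXC : X ≤ C₉ := by
    intro x hx
    apply mem_centralizer_of_forall
    intro a ha
    exact (comm_V_X a (hA'V ha) x hx).symm
  have hVC : V ≤ normalizer (C₉ : Set G) := hVA'.trans (normalizer_le_normalizer_centralizer A')
  have hA'C : A' ≤ normalizer (C₉ : Set G) := le_normalizer.trans (normalizer_le_normalizer_centralizer A')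
  -- `X` lies in the `p'`-core of `C₉`
  obtain ⟨H, hH, hNH⟩ := exists_coatom_ge hNt
  have hVH : V ≤ H := hVA'.trans hNH
  have hXcore : X ≤ coreOf p H := by
    apply x_le_core hG hM hH ((hXC.trans hCN).trans hNH)
    rw [inf_eq_left.mpr hVH]
    exact hV
  set L := coreOf p C₉ with hLd
  have hXL : X ≤ L := by
    refine (le_inf hXcore hXC).trans ?_
    apply le_coreOf inf_le_right
    · exact le_normalizer_inf ((hCN.trans hNH).trans (le_normalizer_coreOf p H)) le_normalizer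
    · exact Nat.Coprime.coprime_dvd_left (Subgroup.card_dvd_of_le inf_le_left)
        (card_coreOf_coprime p H)
  have hLC : L ≤ C₉ := coreOf_le p C₉
  have hCL : C₉ ≤ normalizer (L : Set G) := le_normalizer_coreOf p C₉
  have hLp : (Nat.card L).Coprime p := card_coreOf_coprime p C₉
  have hLs : Group.IsSolvable L := IsMin.solvable hG (fun h => hCt (top_le_iff.mp (h ▸ hLC)))
  have hVL : V ≤ normalizer (L : Set G) := hVC.trans (normalizer_le_normalizer_coreOf p C₉)
  -- `V` centralizes `L`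
  have hcent : ∀ v ∈ V, ∀ l ∈ L, v * l * v⁻¹ = l := by
    intro v hv
    apply centralizes_of_fitting hLs (hVL hv)
    · obtain ⟨k, hk⟩ := (IsPGroup.iff_orderOf.mp hVp) ⟨v, hv⟩
      have h2 : orderOf v = p ^ k := by
        rw [← Subgroup.orderOf_mk v hv]; exact hk
      rw [h2]
      exact Nat.Coprime.pow_left k hLp.symm
    · have hle : fittingOf L ≤ centralizer ({v} : Set G) := by
        apply fittingOf_le_of_pCoreOf
        intro u _ s hs
        rw [Subgroup.mem_centralizer_singleton_iff]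
        by_cases hup : u = p
        · subst hup
          have h1 : pCoreOf u L = ⊥ := eq_bot_of_pgroup_of_coprime (isPGroup_pCoreOf u L)
            (Nat.Coprime.coprime_dvd_left (Subgroup.card_dvd_of_le (pCoreOf_le u L)) hLp)
          rw [h1, Subgroup.mem_bot] at hs
          rw [hs]; simp
        by_cases hud : u ∣ Nat.card X
        · exact (comm_of_conj_eq (centralizes_pCoreOf hG hM hud
            ((pCoreOf_le_xOf hup).trans hXL) hv (hVL hv) s hs)).symm
        · have huτ : u ∈ tauOf p M := ⟨Fact.out, hup, hud⟩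
          have h1 : pCoreOf u L ≤ piCoreOf (tauOf p M) C₉ := by
            apply le_piCoreOf ((pCoreOf_le u L).trans hLC)
              (hCL.trans (normalizer_le_normalizer_pCoreOf u L))
            exact tau_of_isPGroup (isPGroup_pCoreOf u L) huτ
          rw [hn9] at h1
          have h2 := h1 hs
          rw [Subgroup.mem_bot] at h2
          rw [h2]; simp
      intro f hf
      have h3 := hle hf
      rw [Subgroup.mem_centralizer_singleton_iff] at h3
      exact conj_eq_of_comm h3.symm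
  have hLM : L ≤ M := by
    intro l hl
    apply centralizer_pCoreOf_le hG hM hV
    apply mem_centralizer_of_forall
    intro v hv
    exact (comm_of_conj_eq (hcent v hv l hl)).symm
  -- `Y ⊓ C₉ ≤ L`
  have hne : t ≠ p := ne_of_dvd_xOf ht
  have hXt : pCoreOf t M ≤ X := pCoreOf_le_xOf hne
  have hYt : (Nat.card ↥(Y ⊓ C₉)).Coprime t := by
    apply Nat.Coprime.symm
    apply (Nat.Prime.coprime_iff_not_dvd Fact.out).mpr
    intro hd
    exact (hY t Fact.out (hd.trans (Subgroup.card_dvd_of_le inf_le_left))).2.2 ht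
  have hXY : X ≤ normalizer (Y : Set G) := le_sup_right.trans hAY
  have hA'Y : A' ≤ normalizer (Y : Set G) := le_sup_left.trans hAY
  have hfix0 := inf_centralizer_Xt hG hM ht hA'V hA'c hA'Y hXY hY
  have hY8L : Y ⊓ C₉ ≤ L := by
    apply le_of_fixed_eq_bot (q := t) (B := pCoreOf t M) (isPGroup_pCoreOf t M) hYt
    · exact le_normalizer_inf (hXt.trans hXY) ((hXt.trans hXC).trans le_normalizer)
    · exact (hXt.trans hXC).trans hCL
    · intro b hb y hy
      have hbL : b ∈ L := hXL (hXt hb)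
      have h3 : y⁻¹ * (b * y * b⁻¹) = (y⁻¹ * b * y⁻¹⁻¹) * b⁻¹ := by group
      rw [h3]
      exact mul_mem ((Subgroup.mem_normalizer_iff.mp (hCL (C₉.inv_mem hy.2)) b).mp hbL)
        (inv_mem hbL)
    · rw [eq_bot_iff, ← hfix0]
      exact inf_le_inf_right _ inf_le_left
  exact triv hs hA'V hA'c (hY8L.trans hLM) (le_normalizer_inf hA'Y hA'C)
    (le_normalizer_inf hXY (hXC.trans le_normalizer)) (tau_mono inf_le_left hY)

include hG hM ht in
/-- **Step 5**: `A'X`-invariant `q`-subgroups, for `q ∈ τ`, are trivial. -/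
theorem inv_trivial (hV : pCoreOf p M ≠ ⊥) {A' : Subgroup G} (hA'V : A' ≤ pCoreOf p M)
    (hA'c : pCoreOf p M ⊓ centralizer (A' : Set G) ≤ A')
    (hVA' : pCoreOf p M ≤ normalizer (A' : Set G))
    (hA'ab : IsMulCommutative A') (hA'3 : ¬ PRankLE p 2 ↥A')
    {q : ℕ} [Fact q.Prime] (hq : q ∈ tauOf p M) {Q : Subgroup G} (hQ : IsPGroup q Q)
    (hAQ : A' ⊔ xOf p M ≤ normalizer (Q : Set G)) : Q = ⊥ := by
  have hVp : IsPGroup p (pCoreOf p M) := isPGroup_pCoreOf p M
  have hA'1 : A' ≠ ⊥ := ne_bot_of_not_prankLE hA'3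
  have hA'p : IsPGroup p A' := hVp.to_le hA'V
  have hA'M : A' ≤ M := hA'V.trans (pCoreOf_le p M)
  have hTH : TransitivityHypothesis (A' ⊔ xOf p M) := by
    apply th_core hG hM hA'V hA'1 ht
    intro Y hAY hY
    exact ⟨inf_centralizer_eq_bot hG hM ht hV hA'V hA'c hVA' hAY hY,
      inf_centralizer_Xt hG hM ht hA'V hA'c (le_sup_left.trans hAY) (le_sup_right.trans hAY) hY⟩
  set A := A' ⊔ xOf p M with hA
  set V := pCoreOf p M with hVd
  set X := xOf p M with hXd
  have hXA' : X ≤ centralizer (A' : Set G) := by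
    intro x hx
    apply mem_centralizer_of_forall
    intro a ha
    exact (comm_V_X a (hA'V ha) x hx).symm
  have hZ : ¬ RankLE 2 ↥(A ⊓ centralizer (A : Set G)) := by
    intro h
    apply hA'3
    have hle : A' ≤ A ⊓ centralizer (A : Set G) := by
      refine le_inf le_sup_left ?_
      intro a ha
      have hle2 : A ≤ centralizer ({a} : Set G) := by
        refine sup_le ?_ ?_
        · intro b hb
          rw [Subgroup.mem_centralizer_singleton_iff]
          exact congrArg Subtype.val (hA'ab.is_comm.comm (⟨b, hb⟩ : A') ⟨a, ha⟩)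
        · intro x hx
          rw [Subgroup.mem_centralizer_singleton_iff]
          exact (comm_V_X a (hA'V ha) x hx).symm
      apply mem_centralizer_of_forall
      intro b hb
      have := hle2 hb
      rw [Subgroup.mem_centralizer_singleton_iff] at this
      exact this.symm
    exact prankLE_of_le hle (h p Fact.out)
  have hqA : ¬ q ∣ Nat.card A := not_dvd_of_tau hA'p hA'1 hA'M hq
  have hK : piCoreOf (primesNotDvd (Nat.card A)) (centralizer (A : Set G)) = ⊥ := by
    rw [primesNotDvd_sup hA'p hA'1 hA'M]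
    exact K_eq_bot hG hM ht hA'V hA'c
  have huniq : ∀ Q₁ ∈ maxInvSubgroups ⊤ A {q}, ∀ Q₂ ∈ maxInvSubgroups ⊤ A {q}, Q₂ = Q₁ := by
    intro Q₁ h₁ Q₂ h₂
    obtain ⟨k, hk, e⟩ := TH.conj_of_rank_three hG hTH hZ hqA Q₁ h₁ Q₂ h₂
    rw [e]
    exact cj_eq_of_mem_K hK hk
  have hmem : Q ∈ invSubgroups ⊤ A {q} := mem_invSubgroups_singleton.mpr ⟨le_top, hQ, hAQ⟩
  obtain ⟨Q₀, hQ₀, hQQ₀⟩ := exists_maxInv_ge hmem
  have hQ₀q : IsPGroup q Q₀ := (mem_invSubgroups_singleton.mp hQ₀.1).2.1
  have hMV : M ≤ normalizer (V : Set G) := le_normalizer_pCoreOf p M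
  have hMX : M ≤ normalizer (X : Set G) := le_normalizer_xOf
  have hMF : M ≤ normalizer ((V ⊔ X : Subgroup G) : Set G) := le_normalizer_sup' hMV hMX
  have hFA : V ⊔ X ≤ normalizer (A : Set G) := by
    refine sup_le ?_ ?_
    · exact le_normalizer_sup' hVA' ((pCoreOf_le p M).trans hMX)
    · exact le_normalizer_sup' (hXA'.trans (centralizer_le_normalizer A')) le_normalizer
  have hAF : A ≤ V ⊔ X := sup_le (hA'V.trans le_sup_left) le_sup_right
  have hFQ₀ : V ⊔ X ≤ normalizer (Q₀ : Set G) := by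
    intro f hf
    apply mem_normalizer_of_cj_eq
    exact huniq Q₀ hQ₀ _ (cj_mem_maxInv_of_normalizer (hFA hf) hQ₀)
  have hMQ₀ : M ≤ normalizer (Q₀ : Set G) := by
    intro m hm
    apply mem_normalizer_of_cj_eq
    have h1 : cj Q₀ m ∈ invSubgroups ⊤ A {q} := by
      refine mem_invSubgroups_singleton.mpr ⟨le_top, hQ₀q.map _, ?_⟩
      have h2 := normalizer_cj_of_le (g := m) hFQ₀
      rw [cj_eq_of_mem_normalizer (hMF hm)] at h2
      exact hAF.trans h2
    obtain ⟨Q', hQ', hle⟩ := exists_maxInv_ge h1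
    rw [huniq Q₀ hQ₀ Q' hQ'] at hle
    exact Subgroup.eq_of_le_of_card_ge hle (by rw [card_cj])
  by_contra hQ1
  have hQ₀1 : Q₀ ≠ ⊥ := by
    intro h
    apply hQ1
    rw [eq_bot_iff, ← h]
    exact hQQ₀
  have hNQ := eq_of_coatom_of_le_normalizer hG hM hQ₀1 (IsMin.isPGroup_ne_top hG hQ₀q) hMQ₀
  have hQM : Q₀ ≤ M := by
    rw [← hNQ]; exact le_normalizer
  have hAQ₀ := hAF.trans hFQ₀
  exact hQ₀1 (triv (solvable_M hG hM) hA'V hA'c hQM (le_sup_left.trans hAQ₀)
    (le_sup_right.trans hAQ₀) (tau_of_isPGroup hQ₀q hq))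

end

end Cfsg.Agent.Lib.BGFit3
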