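import Mathlib
import Cfsg.Prelude.Def_OddOrderLocal
import Cfsg.Prelude.Def_Amalgam
import Cfsg.Agent.Lib.BGFit3

/-!
# Bender-Glauberman section 8: uniqueness for `A X`, when `F(M)` is not a `p`-group.
-/

set_option autoImplicit false
set_option linter.unusedSectionVars false
set_option linter.unusedVariables false
set_option linter.style.haveILetI false
set_option linter.unusedSimpArgs false

namespace Cfsg.Agent.Lib.BGFit4

open Cfsg Subgroup Cfsg.Agent.Lib.CoprimeInv Cfsg.Agent.Lib.BGTrans Cfsg.Agent.Lib.BGTrans2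
  Cfsg.Agent.Lib.PCore Cfsg.Agent.Lib.BGUniq Cfsg.Agent.Lib.BGUniq2 Cfsg.Agent.Lib.BGUniq3
  Cfsg.Agent.Lib.BGFit1 Cfsg.Agent.Lib.BGFit2 Cfsg.Agent.Lib.BGFit3

universe u

variable {G : Type u} [Group G] [Finite G] {p : ℕ} [hp : Fact p.Prime] {M : Subgroup G}

/-- The product description of a join when the left factor normalizes the right one. -/
theorem mem_sup_of_le_normalizer {E V : Subgroup G} (h : E ≤ normalizer (V : Set G)) {x : G}
    (hx : x ∈ E ⊔ V) : ∃ e ∈ E, ∃ v ∈ V, x = e * v := by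
  let S : Subgroup G :=
    { carrier := {x | ∃ e ∈ E, ∃ v ∈ V, x = e * v}
      mul_mem' := by
        rintro _ _ ⟨e, he, v, hv, rfl⟩ ⟨e', he', v', hv', rfl⟩
        refine ⟨e * e', E.mul_mem he he', e'⁻¹ * v * e' * v', ?_, by group⟩
        refine V.mul_mem ?_ hv'
        have := (Subgroup.mem_normalizer_iff.mp (h (E.inv_mem he')) v).mp hv
        simpa using this
      one_mem' := ⟨1, E.one_mem, 1, V.one_mem, by simp⟩
      inv_mem' := by
        rintro _ ⟨e, he, v, hv, rfl⟩
        refine ⟨e⁻¹, E.inv_mem he, e * v⁻¹ * e⁻¹, ?_, by group⟩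
        exact (Subgroup.mem_normalizer_iff.mp (h he) v⁻¹).mp (V.inv_mem hv) }
  have hle : E ⊔ V ≤ S := by
    refine sup_le ?_ ?_
    · intro e he
      exact ⟨e, he, 1, V.one_mem, by simp⟩
    · intro v hv
      exact ⟨1, E.one_mem, v, hv, by simp⟩
  exact hle hx

/-- Overgroups of `O_p(H)` with the right centralizing properties are contained in it. -/
theorem le_pCoreOf_of_centralizes {H E D : Subgroup G} (hEp : IsPGroup p E) (hEH : E ≤ H)
    (hED : D ≤ normalizer (E : Set G))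
    (hC : ∀ y ∈ H, (∀ (u : ℕ) [Fact u.Prime], u ≠ p → ∀ w ∈ pCoreOf u H, y * w = w * y) → y ∈ D)
    (hEc : ∀ e ∈ E, ∀ (u : ℕ) [Fact u.Prime], u ≠ p → ∀ w ∈ pCoreOf u H, e * w = w * e) :
    E ≤ pCoreOf p H := by
  set W : Subgroup G := (wOf p H).map H.subtype with hW
  set C₅ : Subgroup G := H ⊓ centralizer (W : Set G) with hC₅
  have hwle : ∀ {u : ℕ} [Fact u.Prime], u ≠ p → pCoreOf u H ≤ W :=
    fun hu => Subgroup.map_mono (pCore_le_wOf hu)
  have hC₅D : C₅ ≤ D := by
    rintro y ⟨hyH, hyW⟩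
    apply hC y hyH
    intro u _ hu w hw
    exact centralizes_of_mem_centralizer hyW (hwle hu hw)
  have hWle : ∀ e ∈ E, W ≤ centralizer ({e} : Set G) := by
    intro e he
    show Subgroup.map _ _ ≤ _
    rw [Subgroup.map_le_iff_le_comap]
    apply wOf_le
    intro u _ hu x hx
    show (x : G) ∈ centralizer ({e} : Set G)
    rw [Subgroup.mem_centralizer_singleton_iff]
    exact (hEc e he u hu x ⟨x, hx, rfl⟩).symm
  have hEC₅ : E ≤ C₅ := by
    intro e he
    refine ⟨hEH he, ?_⟩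
    apply mem_centralizer_of_forall
    intro w hw
    have := hWle e he hw
    rw [Subgroup.mem_centralizer_singleton_iff] at this
    exact this.symm
  have hHW : H ≤ normalizer (W : Set G) := by
    intro x hx
    haveI hn : (wOf p H).Normal := wOf_normal p
    have h1 : (⟨x, hx⟩ : H) ∈ normalizer ((wOf p H : Subgroup H) : Set H) := by
      rw [normalizer_eq_top_iff.mpr hn]; trivial
    exact Subgroup.le_normalizer_map (H := wOf p H) H.subtype (Subgroup.mem_map_of_mem _ h1)
  have hHC₅ : H ≤ normalizer (C₅ : Set G) :=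
    le_normalizer_inf le_normalizer (hHW.trans (normalizer_le_normalizer_centralizer W))
  have h1 : E ≤ pCoreOf p C₅ := le_pCoreOf hEC₅ (hC₅D.trans hED) hEp
  exact h1.trans (le_pCoreOf ((pCoreOf_le p C₅).trans inf_le_left)
    (hHC₅.trans (normalizer_le_normalizer_pCoreOf p C₅)) (isPGroup_pCoreOf p C₅))

/-- Bender's lemma, for subgroups. -/
theorem bl_of {r : ℕ} [Fact r.Prime] {H T : Subgroup G} (hs : Group.IsSolvable H) (hTH : T ≤ H)
    (hT : IsPGroup r T) (hR : pCoreOf r H ≤ T)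
    (hTW : ∀ (u : ℕ) [Fact u.Prime], u ≠ r → ∀ t ∈ T, ∀ w ∈ pCoreOf u H, t * w = w * t) {y : G}
    (hyH : y ∈ H) (hy : ∀ ρ ∈ pCoreOf r H, y * ρ = ρ * y) : y ∈ normalizer (T : Set G) := by
  apply mem_normalizer_of_cj_eq
  refine Subgroup.eq_of_le_of_card_ge ?_ (by rw [card_cj])
  rintro _ ⟨t, ht, rfl⟩
  show y * t * y⁻¹ ∈ T
  haveI := hs
  have := bl_lemma (N := H) (T := T.subgroupOf H) (r := r) hT.comap_subtype
    (fun x hx => by
      have h1 : (x : G) ∈ pCoreOf r H := ⟨x, hx, rfl⟩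
      exact hR h1)
    (fun u _ hu t' ht' w hw => Subtype.ext (hTW u hu (t' : G) ht' (w : G) ⟨w, hw, rfl⟩))
    (y := ⟨y, hyH⟩)
    (fun ρ hρ => Subtype.ext (hy (ρ : G) ⟨ρ, hρ, rfl⟩))
    (t := ⟨t, hTH ht⟩) ht
  exact this

theorem eq_pCoreOf_of_le {H D E Er : Subgroup G} {r : ℕ} [Fact r.Prime] (hs : Group.IsSolvable H)
    (hrp : r ≠ p) (hEp : IsPGroup p E) (hErp : IsPGroup r Er) (hDH : D ≤ H) (hED : E ≤ D)
    (hErD : Er ≤ D) (hDE : D ≤ normalizer (E : Set G)) (hDEr : D ≤ normalizer (Er : Set G))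
    (hRE : pCoreOf p H ≤ E) (hrEr : pCoreOf r H ≤ Er)
    (hHEr : H ⊓ normalizer (Er : Set G) ≤ D)
    (hO : ∀ (u : ℕ) [Fact u.Prime], u ≠ p → pCoreOf u H ≤ D) : E = pCoreOf p H := by
  apply le_antisymm _ hRE
  have hOn : ∀ (u : ℕ) [Fact u.Prime], D ≤ normalizer (pCoreOf u H : Set G) :=
    fun u _ => hDH.trans (le_normalizer_pCoreOf u H)
  apply le_pCoreOf_of_centralizes hEp (hED.trans hDH) hDE
  · intro y hyH hy
    apply hHEr
    refine ⟨hyH, bl_of hs (hErD.trans hDH) hErp hrEr ?_ hyH (hy r hrp)⟩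
    intro u _ hu t ht w hw
    by_cases hup : u = p
    · subst hup
      exact (comm_of_pgroups hEp hErp hrp.symm hED hErD hDE hDEr w (hRE hw) t ht).symm
    · exact comm_of_pgroups hErp (isPGroup_pCoreOf u H) hu.symm hErD (hO u hup) hDEr (hOn u) t ht w hw
  · intro e he u _ hu w hw
    exact comm_of_pgroups hEp (isPGroup_pCoreOf u H) hu.symm hED (hO u hu) hDE (hOn u) e he w hw

/-- **Step 6**: `A' X` lies in no maximal subgroup other than `M`. -/
theorem eq_of_coatom_of_AX (hG : IsMinSimpleOddOrder G) (hM : IsCoatom M) {t : ℕ} [Fact t.Prime]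
    (ht : t ∣ Nat.card (xOf p M)) (hV : pCoreOf p M ≠ ⊥) {A' : Subgroup G}
    (hA'V : A' ≤ pCoreOf p M) (hA'c : pCoreOf p M ⊓ centralizer (A' : Set G) ≤ A')
    (hVA' : pCoreOf p M ≤ normalizer (A' : Set G))
    (hA'ab : IsMulCommutative A') (hA'3 : ¬ PRankLE p 2 ↥A')
    {H₀ : Subgroup G} (hH₀ : IsCoatom H₀) (hAH₀ : A' ⊔ xOf p M ≤ H₀) : H₀ = M := by
  by_contra hH₀M
  set V := pCoreOf p M with hVd
  set X := xOf p M with hXd
  have hVp : IsPGroup p V := isPGroup_pCoreOf p M
  have hVM : V ≤ M := pCoreOf_le p M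
  have hXM : X ≤ M := xOf_le
  have hA'1 : A' ≠ ⊥ := ne_bot_of_not_prankLE hA'3
  have hsM := solvable_M hG hM
  let 𝓗 : Set (Subgroup G) := {H | IsCoatom H ∧ H ≠ M ∧ A' ⊔ X ≤ H}
  obtain ⟨H, ⟨hH, hHM, hAH⟩, hmax⟩ := Set.exists_max_image 𝓗 (fun H => Nat.card ↥(H ⊓ M))
    (Set.toFinite _) ⟨H₀, hH₀, hH₀M, hAH₀⟩
  have hA'H : A' ≤ H := le_sup_left.trans hAH
  have hXH : X ≤ H := le_sup_right.trans hAH
  set D := H ⊓ M with hD
  set V₁ := V ⊓ H with hV₁
  have hsH : Group.IsSolvable H := IsMin.solvable hG hH.1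
  have hDH : D ≤ H := inf_le_left
  have hDM : D ≤ M := inf_le_right
  have hXD : X ≤ D := le_inf hXH hXM
  have hHnM : ¬ H ≤ M := fun h => hHM (coatom_eq hH hM h)
  have hA'V₁ : A' ≤ V₁ := le_inf hA'V hA'H
  have hV₁1 : V₁ ≠ ⊥ := by
    intro h
    apply hA'1
    rw [eq_bot_iff, ← h]
    exact hA'V₁
  have hV₁p : IsPGroup p V₁ := hVp.to_le inf_le_left
  have hV₁D : V₁ ≤ D := le_inf inf_le_right (inf_le_left.trans hVM)
  have hDV₁ : D ≤ normalizer (V₁ : Set G) :=
    le_normalizer_inf (hDM.trans (le_normalizer_pCoreOf p M)) (hDH.trans le_normalizer)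
  have hNV₁t : normalizer (V₁ : Set G) ≠ ⊤ :=
    IsMin.normalizer_ne_top hG hV₁1 (IsMin.isPGroup_ne_top hG hV₁p)
  have hXNV₁ : X ≤ normalizer (V₁ : Set G) := by
    intro x hx
    apply mem_normalizer_of_centralizes
    intro a ha
    exact conj_eq_of_comm (comm_V_X a ha.1 x hx).symm
  -- a family of candidates
  have hcand : ∀ H' : Subgroup G, IsCoatom H' → D ≤ H' → A' ⊔ X ≤ H' → H' ≠ M → H' ⊓ M ≤ D := by
    intro H' hH' hDH' hAH' hne
    have h1 := hmax H' ⟨hH', hne, hAH'⟩
    have h2 : D ≤ H' ⊓ M := le_inf hDH' hDM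
    have h3 : D = H' ⊓ M := Subgroup.eq_of_le_of_card_ge h2 h1
    rw [h3]
  -- `N(V₁) ≤ M`
  have hNV₁ : normalizer (V₁ : Set G) ≤ M := by
    by_cases hVV : V₁ = V
    · rw [hVV, hVd, normalizer_pCoreOf_eq hG hM hV]
    · have hlt : V₁ < V := lt_of_le_of_ne inf_le_left hVV
      obtain ⟨v, hvV, hvV₁, hvN⟩ := CoprimeInv.exists_mem_normalizer_of_lt hVp hlt
      obtain ⟨H₁, hH₁, hNH₁⟩ := exists_coatom_ge hNV₁t
      by_contra hcon
      have hne : H₁ ≠ M := by
        rintro rfl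
        exact hcon hNH₁
      have hAH₁ : A' ⊔ X ≤ H₁ := sup_le ((hA'V₁.trans le_normalizer).trans hNH₁) (hXNV₁.trans hNH₁)
      have h1 := hcand H₁ hH₁ (hDV₁.trans hNH₁) hAH₁ hne
      exact hvV₁ ⟨hvV, (h1 ⟨hNH₁ hvN, hVM hvV⟩).1⟩
  have hCV₁ : centralizer (V₁ : Set G) ≤ M := (centralizer_le_normalizer V₁).trans hNV₁
  -- `X` is in the core of `H`
  have hXcore : X ≤ coreOf p H := by
    apply x_le_core hG hM hH hXH hV₁1
  set R := pCoreOf p H with hR
  have hRp : IsPGroup p R := isPGroup_pCoreOf p H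
  have hHR : H ≤ normalizer (R : Set G) := le_normalizer_pCoreOf p H
  have hRcomm : ∀ ρ ∈ R, ∀ x ∈ X, ρ * x = x * ρ := by
    intro ρ hρ x hx
    have hc : (Nat.card R).Coprime (Nat.card (coreOf p H)) := by
      obtain ⟨k, hk⟩ := IsPGroup.iff_card.mp hRp
      rw [hk]
      exact Nat.Coprime.pow_left k (card_coreOf_coprime p H).symm
    exact comm_of_coprime hc (pCoreOf_le p H) (coreOf_le p H) hHR (le_normalizer_coreOf p H)
      ρ hρ x (hXcore hx)
  have htne : t ≠ p := ne_of_dvd_xOf ht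
  have hXt1 : pCoreOf t M ≠ ⊥ := pCoreOf_ne_bot_of_dvd ht
  have hRM : R ≤ M := by
    intro ρ hρ
    apply centralizer_pCoreOf_le hG hM hXt1
    apply mem_centralizer_of_forall
    intro x hx
    exact hRcomm ρ hρ x (pCoreOf_le_xOf htne hx)
  have hRD : R ≤ D := le_inf (pCoreOf_le p H) hRM
  have hAHN : ∀ (u : ℕ) [Fact u.Prime], A' ⊔ X ≤ normalizer (pCoreOf u H : Set G) :=
    fun u _ => hAH.trans (le_normalizer_pCoreOf u H)
  -- the cores of `H` at the primes outside `p`
  have hτ : ∀ (u : ℕ) [Fact u.Prime], u ∈ tauOf p M → pCoreOf u H = ⊥ := fun u _ hu =>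
    inv_trivial hG hM ht hV hA'V hA'c hVA' hA'ab hA'3 hu (isPGroup_pCoreOf u H) (hAHN u)
  have hOc : ∀ (u : ℕ) [Fact u.Prime], u ≠ p → ∀ v ∈ V₁, ∀ s ∈ pCoreOf u H, v * s = s * v := by
    intro u _ hup v hv s hs
    by_cases hud : u ∣ Nat.card X
    · exact comm_of_conj_eq (centralizes_pCoreOf hG hM hud
        ((pCoreOf_le_xOf hup).trans hXH) hv.1 (le_normalizer hv.2) s hs)
    · have := hτ u ⟨Fact.out, hup, hud⟩
      rw [this, Subgroup.mem_bot] at hs
      rw [hs]; simp
  have hO : ∀ (u : ℕ) [Fact u.Prime], u ≠ p → pCoreOf u H ≤ D := by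
    intro u _ hup s hs
    refine ⟨pCoreOf_le u H hs, hCV₁ ?_⟩
    apply mem_centralizer_of_forall
    intro v hv
    exact (hOc u hup v hv s hs).symm
  -- `R ≠ 1`
  have hR1 : R ≠ ⊥ := by
    intro hRb
    have hV₁F : V₁ ≤ fittingOf H := by
      intro v hv
      apply mem_fittingOf_of_centralizes hsH hv.2
      intro f hf
      have hle : fittingOf H ≤ centralizer ({v} : Set G) := by
        apply fittingOf_le_of_pCoreOf
        intro u _ s hs
        rw [Subgroup.mem_centralizer_singleton_iff]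
        by_cases hup : u = p
        · subst hup
          have hs' : s ∈ R := hs
          rw [hRb, Subgroup.mem_bot] at hs'
          rw [hs']; simp
        · exact (hOc u hup v hv s hs).symm
      have := hle hf
      rw [Subgroup.mem_centralizer_singleton_iff] at this
      exact this.symm
    have hFc : fittingOf H ≤ coreOf p H := by
      have := fittingOf_le_sup_core p H
      rwa [← hR, hRb, bot_sup_eq] at this
    have hc : (Nat.card V₁).Coprime p := Nat.Coprime.coprime_dvd_left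
      (Subgroup.card_dvd_of_le (hV₁F.trans hFc)) (card_coreOf_coprime p H)
    exact hV₁1 (eq_bot_of_pgroup_of_coprime hV₁p hc)
  -- some other core
  have hr : ∃ r : ℕ, r.Prime ∧ r ≠ p ∧ ∃ _ : Fact r.Prime, pCoreOf r H ≠ ⊥ := by
    by_contra hcon
    push Not at hcon
    have hFR : fittingOf H ≤ R := by
      apply fittingOf_le_of_pCoreOf
      intro u hu
      by_cases hup : u = p
      · subst hup; exact le_rfl
      · rw [hcon u hu.out hup hu]
        exact bot_le
    have hXF : X ≤ fittingOf H := by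
      intro x hx
      apply mem_fittingOf_of_centralizes hsH (hXH hx)
      intro f hf
      exact (hRcomm f (hFR hf) x hx).symm
    have hXp : IsPGroup p X := hRp.to_le (hXF.trans hFR)
    have hX1 : X = ⊥ := eq_bot_of_pgroup_of_coprime hXp coprime_xOf
    rw [hX1, Subgroup.card_bot] at ht
    exact (Fact.out : t.Prime).one_lt.ne' (Nat.dvd_one.mp ht)
  obtain ⟨r, hrpr, hrp, hrF, hr1⟩ := hr
  haveI := hrF
  have hrX : r ∣ Nat.card X := by
    by_contra hcon
    exact hr1 (hτ r ⟨hrpr, hrp, hcon⟩)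
  have hXr1 : pCoreOf r M ≠ ⊥ := pCoreOf_ne_bot_of_dvd hrX
  -- the cores of `D`
  set E := pCoreOf p D with hE
  set Er := pCoreOf r D with hEr
  have hEp : IsPGroup p E := isPGroup_pCoreOf p D
  have hErp : IsPGroup r Er := isPGroup_pCoreOf r D
  have hED : E ≤ D := pCoreOf_le p D
  have hErD : Er ≤ D := pCoreOf_le r D
  have hDE : D ≤ normalizer (E : Set G) := le_normalizer_pCoreOf p D
  have hDEr : D ≤ normalizer (Er : Set G) := le_normalizer_pCoreOf r D
  have hV₁E : V₁ ≤ E := le_pCoreOf hV₁D hDV₁ hV₁p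
  have hRE : R ≤ E := le_pCoreOf hRD (hDH.trans hHR) hRp
  have hXrEr : pCoreOf r M ≤ Er := le_pCoreOf ((pCoreOf_le_xOf hrp).trans hXD)
    (hDM.trans (le_normalizer_pCoreOf r M)) (isPGroup_pCoreOf r M)
  have hOrEr : pCoreOf r H ≤ Er := le_pCoreOf (hO r hrp)
    (hDH.trans (le_normalizer_pCoreOf r H)) (isPGroup_pCoreOf r H)
  have hEcomm : ∀ e ∈ E, ∀ f ∈ Er, e * f = f * e :=
    comm_of_pgroups hEp hErp hrp.symm hED hErD hDE hDEr
  have hCE : centralizer (E : Set G) ≤ D := by
    refine le_inf ?_ ?_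
    · exact (Subgroup.centralizer_le hRE).trans (centralizer_pCoreOf_le hG hH hR1)
    · exact (Subgroup.centralizer_le hV₁E).trans hCV₁
  have hCEr : centralizer (Er : Set G) ≤ D := by
    refine le_inf ?_ ?_
    · exact (Subgroup.centralizer_le hOrEr).trans (centralizer_pCoreOf_le hG hH hr1)
    · exact (Subgroup.centralizer_le hXrEr).trans (centralizer_pCoreOf_le hG hM hXr1)
  have hErC : Er ≤ centralizer (E : Set G) := fun f hf =>
    mem_centralizer_of_forall fun e he => (hEcomm e he f hf).symm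
  have hEC : E ≤ centralizer (Er : Set G) := fun e he =>
    mem_centralizer_of_forall fun f hf => hEcomm e he f hf
  have hErEq : Er = pCoreOf r (centralizer (E : Set G)) := by
    apply le_antisymm
    · exact le_pCoreOf hErC (hCE.trans hDEr) hErp
    · exact le_pCoreOf ((pCoreOf_le r _).trans hCE)
        (hDE.trans ((normalizer_le_normalizer_centralizer E).trans
          (normalizer_le_normalizer_pCoreOf r _))) (isPGroup_pCoreOf r _)
  have hEEq : E = pCoreOf p (centralizer (Er : Set G)) := by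
    apply le_antisymm
    · exact le_pCoreOf hEC (hCEr.trans hDE) hEp
    · exact le_pCoreOf ((pCoreOf_le p _).trans hCEr)
        (hDEr.trans ((normalizer_le_normalizer_centralizer Er).trans
          (normalizer_le_normalizer_pCoreOf p _))) (isPGroup_pCoreOf p _)
  have hN1 : normalizer (E : Set G) ≤ normalizer (Er : Set G) := by
    have := (normalizer_le_normalizer_centralizer E).trans
      (normalizer_le_normalizer_pCoreOf r (centralizer (E : Set G)))
    rwa [← hErEq] at this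
  have hN2 : normalizer (Er : Set G) ≤ normalizer (E : Set G) := by
    have := (normalizer_le_normalizer_centralizer Er).trans
      (normalizer_le_normalizer_pCoreOf p (centralizer (Er : Set G)))
    rwa [← hEEq] at this
  have hE1 : E ≠ ⊥ := by
    intro h
    apply hV₁1
    rw [eq_bot_iff, ← h]
    exact hV₁E
  have hLt : normalizer (E : Set G) ≠ ⊤ :=
    IsMin.normalizer_ne_top hG hE1 (IsMin.isPGroup_ne_top hG hEp)
  by_cases hcase : H ⊓ normalizer (E : Set G) ≤ D
  · have h1 := eq_pCoreOf_of_le hsH hrp hEp hErp hDH hED hErD hDE hDEr hRE hOrEr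
      ((inf_le_inf_left H hN2).trans hcase) hO
    have h2 : H ≤ normalizer (E : Set G) := by
      rw [h1]; exact le_normalizer_pCoreOf p H
    exact hHnM ((le_inf le_rfl h2).trans (hcase.trans hDM))
  · obtain ⟨H', hH', hLH'⟩ := exists_coatom_ge hLt
    have hLM : ¬ normalizer (E : Set G) ≤ M := by
      intro h
      exact hcase (le_inf inf_le_left ((inf_le_right.trans h)))
    have hne : H' ≠ M := by
      rintro rfl
      exact hLM hLH'
    have hAD : A' ⊔ X ≤ D := sup_le (hA'V₁.trans hV₁D) hXD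
    have hDL : D ≤ normalizer (E : Set G) := hDE
    have h1 := hcand H' hH' (hDL.trans hLH') ((hAD.trans hDL).trans hLH') hne
    have hML : M ⊓ normalizer (E : Set G) ≤ D :=
      (le_inf (inf_le_right.trans hLH') inf_le_left).trans h1
    have hVE : V ≤ E := by
      by_contra hcon
      have hEV : E ≤ normalizer (V : Set G) := (hED.trans hDM).trans (le_normalizer_pCoreOf p M)
      have hP : IsPGroup p (E ⊔ V : Subgroup G) := isPGroup_sup_of_le_normalizer hEp hVp hEV
      have hlt : E < E ⊔ V := lt_of_le_of_ne le_sup_left (fun h => hcon (by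
        rw [h]; exact le_sup_right))
      obtain ⟨w, hwP, hwE, hwN⟩ := CoprimeInv.exists_mem_normalizer_of_lt hP hlt
      obtain ⟨e, he, v, hv, rfl⟩ := mem_sup_of_le_normalizer hEV hwP
      have heN : e ∈ normalizer (E : Set G) := le_normalizer he
      have hvN : v ∈ normalizer (E : Set G) := by
        have := (normalizer (E : Set G)).mul_mem (inv_mem heN) hwN
        simpa using this
      have hvD : v ∈ D := hML ⟨hVM hv, hvN⟩
      have hvE : v ∈ E := hV₁E ⟨hv, hvD.1⟩
      exact hwE (E.mul_mem he hvE)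
    have h2 := eq_pCoreOf_of_le hsM hrp hEp hErp hDM hED hErD hDE hDEr hVE hXrEr
      ((inf_le_inf_left M hN2).trans hML)
      (fun u _ hu => (pCoreOf_le_xOf hu).trans hXD)
    have h3 : M ≤ normalizer (E : Set G) := by
      rw [h2]; exact le_normalizer_pCoreOf p M
    have h4 : M ≤ H := (le_inf le_rfl h3).trans (hML.trans hDH)
    exact hHM (coatom_eq hM hH h4).symm

/-- **Case (a)**: if `F(M)` is not a `p`-group and `O_p(M)` has rank at least three, some member
of `SCN₃(O_p(M))` lies in a unique maximal subgroup. -/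
theorem a_main (hG : IsMinSimpleOddOrder G) (hM : IsCoatom M) (hX : xOf p M ≠ ⊥)
    (hV3 : ¬ PRankLE p 2 ↥(pCoreOf p M)) :
    ∃ A' : Subgroup G, IsSCN (pCoreOf p M) A' ∧ ¬ PRankLE p 2 ↥A' ∧ InUniqueMaximal A' := by
  have hV1 : pCoreOf p M ≠ ⊥ := ne_bot_of_not_prankLE hV3
  have hVp : IsPGroup p (pCoreOf p M) := isPGroup_pCoreOf p M
  have hodd : p ≠ 2 := prime_ne_two_of_dvd hG (dvd_of_isPGroup hVp hV1)
  obtain ⟨A', hSCN, hr⟩ := exists_scn3 hodd hVp hV3
  obtain ⟨t, htp, htd⟩ := exists_prime_dvd_of_ne_bot hX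
  haveI : Fact t.Prime := ⟨htp⟩
  refine ⟨A', hSCN, hr, ?_⟩
  have hA'V := hSCN.1
  have hVA' := hSCN.2.1
  have hA'c : pCoreOf p M ⊓ centralizer (A' : Set G) ≤ A' := le_of_eq hSCN.2.2
  have hA'ab : IsMulCommutative A' := BGTH.scn_comm hSCN
  have hU : InUniqueMaximal (A' ⊔ xOf p M) := by
    refine ⟨M, ⟨hM, sup_le (hA'V.trans (pCoreOf_le p M)) xOf_le⟩, ?_⟩
    rintro H ⟨hH, hAH⟩
    exact eq_of_coatom_of_AX hG hM htd hV1 hA'V hA'c hVA' hA'ab hr hH hAH
  apply passes_to_centralizing hG hU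
  · intro a ha
    apply mem_centralizer_of_forall
    have hle : A' ⊔ xOf p M ≤ centralizer ({a} : Set G) := by
      refine sup_le ?_ ?_
      · intro b hb
        rw [Subgroup.mem_centralizer_singleton_iff]
        exact congrArg Subtype.val (hA'ab.is_comm.comm (⟨b, hb⟩ : A') ⟨a, ha⟩)
      · intro x hx
        rw [Subgroup.mem_centralizer_singleton_iff]
        exact (comm_V_X a (hA'V ha) x hx).symm
    intro b hb
    have := hle hb
    rw [Subgroup.mem_centralizer_singleton_iff] at this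
    exact this.symm
  · intro h
    apply hr
    intro E hEc hEe
    refine (h p Fact.out E hEc hEe).trans ?_
    exact Nat.pow_le_pow_right (Fact.out : p.Prime).pos (by norm_num)

end Cfsg.Agent.Lib.BGFit4
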