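import Mathlib
import Cfsg.Prelude.Def_OddOrderLocal
import Cfsg.Prelude.Def_Amalgam
import Cfsg.Agent.Lib.BGFit4

/-!
# Bender-Glauberman section 8: `F(M)` a `p`-group, and the uniqueness theorem for large `F(M)`.
-/

set_option autoImplicit false
set_option linter.unusedSectionVars false
set_option linter.unusedVariables false
set_option linter.style.haveILetI false
set_option linter.unusedSimpArgs false

namespace Cfsg.Agent.Lib.BGFit5

open Cfsg Subgroup Cfsg.Agent.Lib.CoprimeInv Cfsg.Agent.Lib.BGTrans Cfsg.Agent.Lib.BGTrans2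
  Cfsg.Agent.Lib.PCore Cfsg.Agent.Lib.BGUniq Cfsg.Agent.Lib.BGUniq2 Cfsg.Agent.Lib.BGUniq3
  Cfsg.Agent.Lib.BGFit1 Cfsg.Agent.Lib.BGFit2 Cfsg.Agent.Lib.BGFit3 Cfsg.Agent.Lib.BGFit4
  Cfsg.Agent.Lib.BGPuig

universe u

variable {G : Type u} [Group G] [Finite G] {p : ℕ} [hp : Fact p.Prime] {M : Subgroup G}

/-- `p`-subgroups of `F(M)` lie in `O_p(M)`. -/
theorem le_pCoreOf_of_le_fittingOf {E : Subgroup G} (hE : E ≤ fittingOf M) (hEp : IsPGroup p E) :
    E ≤ pCoreOf p M := by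
  intro e he
  have h1 := fittingOf_le_sup p M (hE he)
  have hVN : pCoreOf p M ≤ normalizer (xOf p M : Set G) :=
    (pCoreOf_le p M).trans le_normalizer_xOf
  obtain ⟨v, hv, x, hx, rfl⟩ := mem_sup_of_le_normalizer hVN h1
  have hcomm : Commute v x := comm_V_X v hv x hx
  obtain ⟨k, hk⟩ := (IsPGroup.iff_orderOf.mp hEp) ⟨v * x, he⟩
  have h2 : orderOf (v * x) = p ^ k := by
    rw [← Subgroup.orderOf_mk (v * x) he]; exact hk
  obtain ⟨l, hl⟩ := IsPGroup.iff_card.mp (isPGroup_pCoreOf p M)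
  have hvpow : v ^ p ^ l = 1 := by
    rw [← hl]
    exact pow_card_subgroup hv
  have hpow : (v * x) ^ p ^ (k + l) = 1 := by
    rw [pow_add, pow_mul, ← h2, pow_orderOf_eq_one, one_pow]
  have hpow2 : x ^ p ^ (k + l) = 1 := by
    rw [hcomm.mul_pow, pow_add, mul_comm (p ^ k), pow_mul, hvpow, one_pow, one_mul, ← pow_add,
      add_comm] at hpow
    exact hpow
  have h3 : orderOf x ∣ p ^ (k + l) := orderOf_dvd_of_pow_eq_one hpow2
  have h4 : (orderOf x).Coprime p :=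
    Nat.Coprime.coprime_dvd_left (Subgroup.orderOf_dvd_natCard _ hx) coprime_xOf
  have h5 := Nat.Coprime.eq_one_of_dvd (Nat.Coprime.pow_right (k + l) h4) h3
  rw [orderOf_eq_one_iff.mp h5, mul_one]
  exact hv

theorem prank_V_of_prank_F (h : ¬ PRankLE p 2 ↥(fittingOf M)) : ¬ PRankLE p 2 ↥(pCoreOf p M) := by
  intro hV
  apply h
  rw [BGSigma.prankLE_iff] at hV ⊢
  intro E hEF hEc hEe
  apply hV E _ hEc hEe
  apply le_pCoreOf_of_le_fittingOf hEF
  intro a
  exact ⟨1, Subtype.ext (by simpa using hEe a a.2)⟩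

theorem not_isCyclic_of_not_prankLE {A : Subgroup G} (hA : ¬ PRankLE p 2 ↥A) : ¬ IsCyclic A := by
  rw [BGSigma.prankLE_iff] at hA
  push Not at hA
  obtain ⟨E, hEA, hEc, hEe, hEk⟩ := hA
  intro hcyc
  have h1 : IsCyclic (E.subgroupOf A) := inferInstance
  have h2 : IsCyclic E := by
    exact isCyclic_of_surjective (Subgroup.subgroupOfEquivOfLe hEA).toMonoidHom
      (Subgroup.subgroupOfEquivOfLe hEA).surjective
  have hpp : p.Prime := Fact.out
  refine not_isCyclic_of_ea hpp hEe ?_ h2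
  have : p ≤ p ^ 2 := Nat.le_self_pow (by norm_num) p
  omega

theorem inv_trivial_core (hG : IsMinSimpleOddOrder G) (hM : IsCoatom M) {A F Q : Subgroup G} {q : ℕ}
    [Fact q.Prime] (hTH : TransitivityHypothesis A)
    (hZ : ¬ RankLE 2 ↥(A ⊓ centralizer (A : Set G))) (hqA : ¬ q ∣ Nat.card A)
    (hK : piCoreOf (primesNotDvd (Nat.card A)) (centralizer (A : Set G)) = ⊥)
    (hAF : A ≤ F) (hFA : F ≤ normalizer (A : Set G)) (hMF : M ≤ normalizer (F : Set G))
    (hQ : IsPGroup q Q) (hAQ : A ≤ normalizer (Q : Set G))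
    (htriv : ∀ Q' : Subgroup G, Q' ≤ M → IsPGroup q Q' → A ≤ normalizer (Q' : Set G) → Q' = ⊥) :
    Q = ⊥ := by
  have huniq : ∀ Q₁ ∈ maxInvSubgroups ⊤ A {q}, ∀ Q₂ ∈ maxInvSubgroups ⊤ A {q}, Q₂ = Q₁ := by
    intro Q₁ h₁ Q₂ h₂
    obtain ⟨k, hk, e⟩ := TH.conj_of_rank_three hG hTH hZ hqA Q₁ h₁ Q₂ h₂
    rw [e]
    exact cj_eq_of_mem_K hK hk
  have hmem : Q ∈ invSubgroups ⊤ A {q} := mem_invSubgroups_singleton.mpr ⟨le_top, hQ, hAQ⟩
  obtain ⟨Q₀, hQ₀, hQQ₀⟩ := exists_maxInv_ge hmem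
  have hQ₀q : IsPGroup q Q₀ := (mem_invSubgroups_singleton.mp hQ₀.1).2.1
  have hFQ₀ : F ≤ normalizer (Q₀ : Set G) := by
    intro f hf
    apply mem_normalizer_of_cj_eq
    exact huniq Q₀ hQ₀ _ (cj_mem_maxInv_of_normalizer (hFA hf) hQ₀)
  have hMQ₀ : M ≤ normalizer (Q₀ : Set G) := by
    intro m hm
    apply mem_normalizer_of_cj_eq
    have h1 : cj Q₀ m ∈ invSubgroups ⊤ A {q} := by
      refine mem_invSubgroups_singleton.mpr ⟨le_top, hQ₀q.map _, ?_⟩
      have h2 := normalizer_cj_of_le (g := m) hFQ₀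
      rw [cj_eq_of_mem_normalizer (hMF hm)] at h2
      exact hAF.trans h2
    obtain ⟨Q', hQ', hle⟩ := exists_maxInv_ge h1
    rw [huniq Q₀ hQ₀ Q' hQ'] at hle
    exact Subgroup.eq_of_le_of_card_ge hle (by rw [card_cj])
  by_contra hQ1
  have hQ₀1 : Q₀ ≠ ⊥ := by
    intro h
    apply hQ1
    rw [eq_bot_iff, ← h]
    exact hQQ₀
  have hNQ := eq_of_coatom_of_le_normalizer hG hM hQ₀1 (IsMin.isPGroup_ne_top hG hQ₀q) hMQ₀
  have hQM : Q₀ ≤ M := by
    rw [← hNQ]; exact le_normalizer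
  exact hQ₀1 (htriv Q₀ hQM hQ₀q (hAF.trans hFQ₀))

theorem tau_of_xOf_eq_bot (hX : xOf p M = ⊥) {q : ℕ} (hq : q.Prime) (hqp : q ≠ p) :
    q ∈ tauOf p M := by
  refine ⟨hq, hqp, ?_⟩
  rw [hX, Subgroup.card_bot]
  exact fun h => hq.one_lt.ne' (Nat.dvd_one.mp h)

/-- **Case (b)**: `F(M)` is a `p`-group. -/
theorem b_main (hG : IsMinSimpleOddOrder G) (hM : IsCoatom M) (hX : xOf p M = ⊥)
    (hV : pCoreOf p M ≠ ⊥) {P₀ : Subgroup G} (hP₀ : IsSylowIn p P₀ M) :
    IsSylowIn p P₀ ⊤ ∧ ∀ A : Subgroup G, IsSCN P₀ A → ¬ PRankLE p 2 ↥A →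
      A ≤ pCoreOf p M ∧ InUniqueMaximal A := by
  set V := pCoreOf p M with hVd
  have hVp : IsPGroup p V := isPGroup_pCoreOf p M
  have hVM : V ≤ M := pCoreOf_le p M
  have hs := solvable_M hG hM
  have hodd : p ≠ 2 := prime_ne_two_of_dvd hG (dvd_of_isPGroup hVp hV)
  have hXle : ∀ N : Subgroup G, xOf p M ≤ N := fun N => by rw [hX]; exact bot_le
  have hXN : ∀ N : Subgroup G, xOf p M ≤ normalizer (N : Set G) := fun N => hXle _
  have hcore : coreOf p M = ⊥ := by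
    apply triv hs (le_refl V) inf_le_left (coreOf_le p M)
      (hVM.trans (le_normalizer_coreOf p M)) (hXN _)
    intro q hq hd
    refine tau_of_xOf_eq_bot hX hq ?_
    rintro rfl
    have h1 := card_coreOf_coprime q M
    have h2 : q ∣ 1 := by
      have := Nat.dvd_gcd hd (dvd_refl q)
      rwa [Nat.Coprime.gcd_eq_one h1] at this
    exact hq.one_lt.ne' (Nat.dvd_one.mp h2)
  have hVP : V ≤ P₀ := by
    have h1 := hP₀.2.2 (P₀ ⊔ V) (sup_le hP₀.1 hVM)
      (isPGroup_sup_of_le_normalizer hP₀.2.1 hVp (hP₀.1.trans (le_normalizer_pCoreOf p M)))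
      le_sup_left
    rw [← h1]
    exact le_sup_right
  have hP₀1 : P₀ ≠ ⊥ := by
    intro h
    apply hV
    rw [eq_bot_iff, ← h]
    exact hVP
  have hMN : M ≤ normalizer (rZ P₀ : Set G) := by
    intro x hx
    obtain ⟨u, hu, n, -, hn, rfl⟩ := factor hodd hs (IsMin.odd_card hG M) hP₀ hx
    rw [hcore, Subgroup.mem_bot] at hu
    rw [hu, one_mul]
    exact hn
  have hZ1 : rZ P₀ ≠ ⊥ := rZ_ne_bot hP₀.2.1 hP₀1
  have hZt : rZ P₀ ≠ ⊤ := IsMin.isPGroup_ne_top hG (hP₀.2.1.to_le (rZ_le' P₀))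
  have hNZ : normalizer (rZ P₀ : Set G) = M := eq_of_coatom_of_le_normalizer hG hM hZ1 hZt hMN
  have hNP : normalizer (P₀ : Set G) ≤ M := by
    rw [← hNZ]
    exact normalizer_le_normalizer_rZ P₀
  have hPt : IsSylowIn p P₀ ⊤ := isSylowIn_top_of_normalizer_le' hP₀ hNP
  refine ⟨hPt, ?_⟩
  intro A hA hA3
  have hAc : IsMulCommutative A := BGTH.scn_comm hA
  have hA1 : A ≠ ⊥ := ne_bot_of_not_prankLE hA3
  have hAp : IsPGroup p A := hP₀.2.1.to_le hA.1
  -- `A ≤ O_p(M)`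
  have hAV : A ≤ V := by
    have h1 := scn_le_pPrimePCore hs (IsMin.odd_card hG M) hP₀ hA.1 hAc hA.2.1
    have hcore' : pPrimeCore p M = ⊥ :=
      (Subgroup.map_eq_bot_iff_of_injective _ M.subtype_injective).mp hcore
    have h2 : IsPGroup p (pPrimePCore p M) := by
      apply IsPGroup.comap_of_ker_isPGroup (isPGroup_pCore p)
      rw [QuotientGroup.ker_mk', hcore']
      exact IsPGroup.of_bot
    have h3 : pPrimePCore p M ≤ pCore p M := le_pCore inferInstance h2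
    exact h1.trans (Subgroup.map_mono h3)
  refine ⟨hAV, ?_⟩
  have hA'c : V ⊓ centralizer (A : Set G) ≤ A :=
    (inf_le_inf_right _ hVP).trans (le_of_eq hA.2.2)
  have hVA : V ≤ normalizer (A : Set G) := hVP.trans hA.2.1
  have hAM : A ≤ M := hA.1.trans hP₀.1
  obtain ⟨hTH, hZ⟩ := th_of_scn hG hPt hA hA3
  -- `rZ(P₀) ≤ A`
  have hZA : rZ P₀ ≤ A := by
    have hAL : A ≤ rL P₀ := by
      rw [← rStep_rLs P₀]
      exact le_rStep hA.1 hAc ((rLs_le P₀).trans hA.2.1)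
    refine le_trans (le_inf (rZ_le' P₀) ?_) (le_of_eq hA.2.2)
    exact (inf_le_right : rZ P₀ ≤ centralizer (rL P₀ : Set G)).trans (Subgroup.centralizer_le hAL)
  have hCA : centralizer (A : Set G) ≤ M := by
    have h1 : centralizer (A : Set G) ≤ centralizer (rZ P₀ : Set G) := Subgroup.centralizer_le hZA
    rw [← hNZ]
    exact h1.trans (BGTrans.centralizer_le_normalizer _)
  have hpA : p ∣ Nat.card A := dvd_card_of_isPGroup hAp hA1
  have hK : piCoreOf (primesNotDvd (Nat.card A)) (centralizer (A : Set G)) = ⊥ := by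
    apply triv hs hAV hA'c ((piCoreOf_le _ _).trans hCA)
      (le_normalizer.trans ((normalizer_le_normalizer_centralizer A).trans
        (normalizer_le_normalizer_piCoreOf _ _))) (hXN _)
    intro q hq hd
    have h1 := piCoreOf_primes _ _ q hq hd
    refine tau_of_xOf_eq_bot hX hq ?_
    rintro rfl
    exact h1.2 hpA
  have hMV : M ≤ normalizer (V : Set G) := le_normalizer_pCoreOf p M
  have hinv : InvLe A M p := by
    intro Y hY hAY
    apply le_of_forall_prime_inv (IsMin.solvable hG (ne_top_of_coprime hY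
      (dvd_of_isPGroup hAp hA1))) hAY (coprime_of_isPGroup hY hAp)
    intro q _ Q hQY hQq hAQ
    by_cases hqp : q = p
    · subst hqp
      have hc : (Nat.card Q).Coprime q :=
        Nat.Coprime.coprime_dvd_left (Subgroup.card_dvd_of_le hQY) hY
      rw [eq_bot_of_pgroup_of_coprime hQq hc]
      exact bot_le
    · have hqA : ¬ q ∣ Nat.card A := by
        intro hd
        obtain ⟨k, hk⟩ := IsPGroup.iff_card.mp hAp
        rw [hk] at hd
        exact hqp ((Nat.prime_dvd_prime_iff_eq Fact.out Fact.out).mp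
          ((Fact.out : q.Prime).dvd_of_dvd_pow hd))
      have hQ1 : Q = ⊥ := by
        apply inv_trivial_core hG hM hTH hZ hqA hK hAV hVA hMV hQq hAQ
        intro Q' hQ'M hQ'q hAQ'
        exact triv hs hAV hA'c hQ'M hAQ' (hXN _)
          (tau_of_isPGroup hQ'q (tau_of_xOf_eq_bot hX Fact.out hqp))
      rw [hQ1]
      exact bot_le
  exact unique_of_inv hG hM hAM hAp hA1 hinv

/-- **Uniqueness for large `F(M)`**. -/
theorem fitting_main (hG : IsMinSimpleOddOrder G) (hM : IsCoatom M)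
    (hF3 : ¬ PRankLE p 2 ↥(fittingOf M)) :
    ∃ A' : Subgroup G, IsPGroup p A' ∧ IsMulCommutative A' ∧ ¬ PRankLE p 2 ↥A' ∧
      InUniqueMaximal A' := by
  have hV3 := prank_V_of_prank_F hF3
  have hV1 : pCoreOf p M ≠ ⊥ := ne_bot_of_not_prankLE hV3
  have hVp : IsPGroup p (pCoreOf p M) := isPGroup_pCoreOf p M
  have hodd : p ≠ 2 := prime_ne_two_of_dvd hG (dvd_of_isPGroup hVp hV1)
  by_cases hX : xOf p M = ⊥
  · obtain ⟨S, hS⟩ := exists_isSylowIn p M
    have hVS : pCoreOf p M ≤ S := by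
      have h1 := hS.2.2 (S ⊔ pCoreOf p M) (sup_le hS.1 (pCoreOf_le p M))
        (isPGroup_sup_of_le_normalizer hS.2.1 hVp (hS.1.trans (le_normalizer_pCoreOf p M)))
        le_sup_left
      rw [← h1]
      exact le_sup_right
    have hS3 : ¬ PRankLE p 2 ↥S := fun h => hV3 (prankLE_of_le hVS h)
    obtain ⟨A, hA, hA3⟩ := exists_scn3 hodd hS.2.1 hS3
    exact ⟨A, hS.2.1.to_le hA.1, BGTH.scn_comm hA, hA3, ((b_main hG hM hX hV1 hS).2 A hA hA3).2⟩
  · obtain ⟨A', hA', hA'3, hU⟩ := a_main hG hM hX hV3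
    exact ⟨A', hVp.to_le hA'.1, BGTH.scn_comm hA', hA'3, hU⟩

/-- Every abelian `p`-subgroup of rank at least three lies in a unique maximal subgroup, once
some such subgroup does. -/
theorem unique_of_rank3 (hG : IsMinSimpleOddOrder G) {A' A : Subgroup G} (hA'p : IsPGroup p A')
    (hA'c : IsMulCommutative A') (hA'3 : ¬ PRankLE p 2 ↥A') (hU : InUniqueMaximal A')
    (hAp : IsPGroup p A) (hAc : IsMulCommutative A) (hA3 : ¬ PRankLE p 2 ↥A) :
    InUniqueMaximal A := by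
  apply uniq_rank3 hG hA'p hA'c hA'3 hU hAp (not_isCyclic_of_not_prankLE hA3)
  intro h
  exact hA3 (prankLE_of_le (le_centralizer_of_comm le_rfl hAc) h)

end Cfsg.Agent.Lib.BGFit5
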