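import Mathlib
import Cfsg.Agent.Lib.BGTau6
import Cfsg.Agent.S0033
import Cfsg.Agent.S1408
import Cfsg.Agent.S1409
import Cfsg.Agent.S1412
import Cfsg.Agent.S1453

/-!
# Bender-Glauberman section 12: primes in `τ₂(M)`, assuming that `C_G(A)` lies in every maximal
subgroup containing `A`, for every elementary abelian `A` of order `p²`.
-/

set_option autoImplicit false
set_option linter.unusedSectionVars false
set_option linter.unusedVariables false
set_option linter.style.haveILetI false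
set_option linter.unusedSimpArgs false

namespace Cfsg.Agent.Lib.BGTau7

open Cfsg Subgroup Cfsg.Agent.Lib.CoprimeInv Cfsg.Agent.Lib.BGTrans Cfsg.Agent.Lib.BGTrans2 Cfsg.Agent.Lib.BGUniq
  Cfsg.Agent.Lib.BGUniq2 Cfsg.Agent.Lib.BGTau1 Cfsg.Agent.Lib.BGTau2
  Cfsg.Agent.Lib.BGTau3 Cfsg.Agent.Lib.BGTau4 Cfsg.Agent.Lib.BGTau5 Cfsg.Agent.Lib.BGTau6 Cfsg.Agent.Lib.BGUT1 Cfsg.Agent.Lib.BGM1
  Cfsg.Agent.Lib.BGUniq3 Cfsg.Agent.Lib.BGSigma3 Cfsg.Agent.Lib.BGSigma4 Cfsg.Agent.Lib.BGSigma2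
  Cfsg.Agent.Lib.Glauberman
open scoped commutatorElement

universe u

variable {G : Type u} [Group G] [Finite G]

/-- Part (a) of the theorem on `C_G(A)`, as a hypothesis. -/
def CentHyp (G : Type u) [Group G] : Prop :=
  ∀ (p : ℕ) [Fact p.Prime] (A M : Subgroup G), IsCoatom M → A ≤ M → IsElementaryAbelian p A →
    Nat.card A = p ^ 2 → centralizer (A : Set G) ≤ M

/-- The context: `A ≤ M` elementary abelian of order `p²`, `p ∈ τ₂(M)`. -/
structure T2 (M A : Subgroup G) (p : ℕ) : Prop where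
  hG : IsMinSimpleOddOrder G
  hH : CentHyp G
  hM : IsCoatom M
  hp : p ∈ tau2 M
  hAM : A ≤ M
  ea : IsElementaryAbelian p A
  card : Nat.card A = p ^ 2

/-- `σ(M)` is not empty. -/
theorem exists_sigma' (hG : IsMinSimpleOddOrder G) {M : Subgroup G} (hM : IsCoatom M) (hne : M ≠ ⊥) :
    ∃ q : ℕ, q ∈ sigma M := by
  by_cases hα : alphaCore M = ⊥
  · exact exists_sigma hG hM hα hne
  · obtain ⟨hall, -, -, -, -⟩ := Cfsg.Agent.S1405.result hG M hM
    have hcard1 : Nat.card (alphaCore M) ≠ 1 := by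
      intro h
      exact hα (Subgroup.eq_bot_of_card_eq _ h)
    obtain ⟨q, hqp', hqd⟩ := Nat.exists_prime_and_dvd hcard1
    exact ⟨q, alpha_sub_sigma hG (ut hG) hM (hall.2.1 q hqp' hqd)⟩

theorem sigmaCore_ne_bot (hG : IsMinSimpleOddOrder G) {M : Subgroup G} (hM : IsCoatom M) (hne : M ≠ ⊥) :
    sigmaCore M ≠ ⊥ := by
  obtain ⟨q, hq⟩ := exists_sigma' hG hM hne
  haveI : Fact q.Prime := ⟨hq.1⟩
  intro hb
  obtain ⟨S⟩ : Nonempty (Sylow q M) := inferInstance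
  have h1 := sylow_ne_bot (isSylowIn_map S) hq.2.1
  apply h1
  rw [eq_bot_iff]
  rintro _ ⟨y, hy, rfl⟩
  have h2 : (y : G) ∈ sigmaCore M := ⟨y, sylow_le_sigmaCore hG hM hq S hy, rfl⟩
  rwa [hb] at h2

/-- A coatom containing a subgroup is found. -/
theorem le_of_forall_coatom {X M : Subgroup G} (hX : X ≠ ⊤)
    (h : ∀ L : Subgroup G, IsCoatom L → X ≤ L → L = M) : X ≤ M := by
  obtain ⟨N, hN, hXN⟩ := BGTau5.exists_coatom_ge hX
  rw [← h N hN hXN]
  exact hXN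

theorem norm_eq_self (hG : IsMinSimpleOddOrder G) {L : Subgroup G} (hL : IsCoatom L) (hne : L ≠ ⊥) :
    normalizer (L : Set G) = L :=
  eq_of_coatom_of_le_normalizer hG hL hne hL.1 le_normalizer

namespace T2

variable {M A : Subgroup G} {p : ℕ} [hpf : Fact p.Prime] (T : T2 M A p)
include T

theorem notσ : p ∉ sigma M := T.hp.2.1

theorem rank2 : PRankLE p 2 M := T.hp.2.2.1

theorem not_rank1 : ¬ PRankLE p 1 M := T.hp.2.2.2

theorem isP : IsPGroup p A := isPGroup_of_ea T.ea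

theorem A_ne_bot : A ≠ ⊥ := by
  intro h
  have h1 := T.card
  rw [h, Subgroup.card_bot] at h1
  have h2 := hpf.out.two_le
  have : 1 < p ^ 2 := Nat.one_lt_pow (by norm_num) (by omega)
  omega

theorem M_ne_bot : M ≠ ⊥ := by
  rintro rfl
  exact T.A_ne_bot (le_bot_iff.mp T.hAM)

theorem dvdM : p ∣ Nat.card M :=
  (dvd_card_of_isPGroup T.isP T.A_ne_bot).trans (Subgroup.card_dvd_of_le T.hAM)

theorem exists_not_norm {P : Subgroup G} (hP : IsSylowIn p P M) :
    ∃ t, t ∈ normalizer (P : Set G) ∧ t ∉ M := by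
  by_contra hno
  push Not at hno
  exact T.notσ (mem_sigma_of hP T.dvdM hno)

/-- `A` is not in a unique maximal subgroup. -/
theorem ctx : Ctx p A := by
  refine ⟨T.hG, T.ea, T.card, ?_⟩
  intro hU
  obtain ⟨P, hP, hAP⟩ := exists_isSylowIn_ge p T.hAM T.isP
  obtain ⟨t, htP, htM⟩ := T.exists_not_norm hP
  have h1 : cj A t ≤ M := by
    have h2 := cj_mono hAP t
    rw [cj_eq_of_mem_normalizer htP] at h2
    exact h2.trans hP.1
  have h2 : cj M t = M := uniq_eq (BGUniq3.inUniqueMaximal_cj hU t) (BGUniq3.isCoatom_cj T.hM t) T.hM (cj_mono T.hAM t) h1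
  have h3 : t ∈ normalizer (M : Set G) := mem_normalizer_of_cj_eq h2
  rw [norm_eq_self T.hG T.hM T.M_ne_bot] at h3
  exact htM h3

theorem cent_le {L : Subgroup G} (hL : IsCoatom L) (hAL : A ≤ L) : centralizer (A : Set G) ≤ L :=
  T.hH p A L hL hAL T.ea T.card

theorem K_le {L : Subgroup G} (hL : IsCoatom L) (hAL : A ≤ L) : Kp A ≤ L :=
  T.ctx.K_le_cent.trans (T.cent_le hL hAL)

/-- `P` centralizes `A`, and `t` normalizes both. -/
theorem central {P : Subgroup G} (hP : IsSylowIn p P M) (hAP : A ≤ P) :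
    P ≤ centralizer (A : Set G) ∧ ∃ t, t ∉ M ∧ t ∈ normalizer (P : Set G) ∧ t ∈ normalizer (A : Set G) := by
  obtain ⟨s, hs⟩ := exists_sigma' T.hG T.hM T.M_ne_bot
  haveI : Fact s.Prime := ⟨hs.1⟩
  exact Ctx'.central_of_not_sigma T.ctx T.hM T.hAM (T.K_le T.hM T.hAM) hs T.notσ hP hAP

theorem exists_t : ∃ t, t ∉ M ∧ t ∈ normalizer (A : Set G) := by
  obtain ⟨P, hP, hAP⟩ := exists_isSylowIn_ge p T.hAM T.isP
  obtain ⟨-, t, ht, -, htA⟩ := T.central hP hAP
  exact ⟨t, ht, htA⟩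

theorem omega_P {P : Subgroup G} (hP : IsSylowIn p P M) (hAP : A ≤ P) {x : G} (hx : x ∈ P)
    (hxp : x ^ p = 1) : x ∈ A :=
  T.ctx.omega ((T.central hP hAP).1 hx) hxp

/-- If `A` is normalized by a `p`-element of `M` then it is centralized. -/
theorem cent_of_p_element {u : G} (huM : u ∈ M) (huA : u ∈ normalizer (A : Set G)) {k : ℕ}
    (hu : u ^ p ^ k = 1) : u ∈ centralizer (A : Set G) := by
  have hzp : IsPGroup p (zpowers u) := by
    rintro ⟨y, hy⟩
    obtain ⟨n, rfl⟩ := mem_zpowers_iff.mp hy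
    refine ⟨k, Subtype.ext ?_⟩
    show (u ^ n) ^ p ^ k = 1
    rw [← zpow_natCast, ← zpow_mul, mul_comm, zpow_mul, zpow_natCast, hu, one_zpow]
  have hsup : IsPGroup p ↥(zpowers u ⊔ A) :=
    isPGroup_sup_of_le_normalizer hzp T.isP (zpowers_le.mpr huA)
  obtain ⟨P, hP, hle⟩ := exists_isSylowIn_ge p (sup_le (zpowers_le.mpr huM) T.hAM) hsup
  exact (T.central hP (le_trans le_sup_right hle)).1 (hle (Subgroup.mem_sup_left (mem_zpowers u)))

/-- **A general vanishing principle on `M_σ`.** -/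
theorem inf_sigma_eq_bot {X : Subgroup G} (hXn : A ≤ normalizer (X : Set G))
    (h : ∀ (q : ℕ) [Fact q.Prime] (Q : Subgroup G), q ∈ sigma M → IsSylowIn q Q (sigmaCore M) →
      A ≤ normalizer (Q : Set G) → X ⊓ Q = ⊥) : sigmaCore M ⊓ X = ⊥ := by
  by_contra hne
  have hσs : Group.IsSolvable (sigmaCore M) := IsMin.solvable T.hG (T.ctx.ne_top_of_le sigmaCore_le T.hM.1)
  have hcopσ : Nat.Coprime (Nat.card (sigmaCore M)) (Nat.card A) := by
    apply coprime_of_isPGroup _ T.isP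
    apply Nat.Coprime.symm
    rw [Nat.Prime.coprime_iff_not_dvd hpf.out]
    intro h'
    exact T.notσ (primes_sigmaCore p hpf.out h')
  have hAσ : A ≤ normalizer (sigmaCore M : Set G) := T.hAM.trans le_normalizer_sigmaCore
  have hYs : Group.IsSolvable ↥(sigmaCore M ⊓ X) :=
    IsMin.solvable T.hG (T.ctx.ne_top_of_le (inf_le_left.trans sigmaCore_le) T.hM.1)
  have hYn : A ≤ normalizer ((sigmaCore M ⊓ X : Subgroup G) : Set G) := le_normalizer_inf hAσ hXn
  have hYc : Nat.Coprime (Nat.card ↥(sigmaCore M ⊓ X)) (Nat.card A) :=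
    Nat.Coprime.coprime_dvd_left (Subgroup.card_dvd_of_le inf_le_left) hcopσ
  have hcard1 : Nat.card ↥(sigmaCore M ⊓ X) ≠ 1 := by
    intro h'
    exact hne (Subgroup.eq_bot_of_card_eq _ h')
  obtain ⟨q, hqp', hqd⟩ := Nat.exists_prime_and_dvd hcard1
  haveI hq : Fact q.Prime := ⟨hqp'⟩
  obtain ⟨Y₀, hY₀, hY₀A⟩ := exists_invariant_isSylowIn q hYs hYn hYc
  have hY₀ne : Y₀ ≠ ⊥ := sylow_ne_bot hY₀ hqd
  have hqσ : q ∈ sigma M := primes_sigmaCore q hqp' (hqd.trans (Subgroup.card_dvd_of_le inf_le_left))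
  obtain ⟨Q, hQ, hQA, hle⟩ := exists_invariant_isSylowIn_ge q hσs hAσ hcopσ (hY₀.1.trans inf_le_left) hY₀.2.1 hY₀A
  apply hY₀ne
  rw [eq_bot_iff, ← h q Q hqσ hQ hQA]
  exact le_inf (hY₀.1.trans inf_le_right) hle

/-- Sylow subgroups of `M_σ`. -/
theorem sylow_facts {q : ℕ} [hq : Fact q.Prime] (hqσ : q ∈ sigma M) {Q : Subgroup G}
    (hQ : IsSylowIn q Q (sigmaCore M)) :
    IsSylowIn q Q M ∧ IsSylowIn q Q ⊤ ∧ normalizer (Q : Set G) ≤ M ∧ q ≠ p := by
  have h1 := isSylowIn_of_sigmaCore T.hG T.hM hqσ hQ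
  refine ⟨h1, isSylowIn_top_of_sigma hqσ h1, normalizer_le_of_sigma hqσ h1, ?_⟩
  rintro rfl
  exact T.notσ hqσ

/-- **(d)**. -/
theorem d : sigmaCore M ⊓ centralizer (A : Set G) = ⊥ := by
  obtain ⟨t, htM, htA⟩ := T.exists_t
  refine T.inf_sigma_eq_bot (centralizer_le_normalizer_of_le (C := ⊤) (by
    intro x hx
    exact hx)) ?_
  intro q _ Q hqσ hQ hQA
  obtain ⟨hQM, hQG, hQn, hqp⟩ := T.sylow_facts hqσ hQ
  exact inf_eq_bot_of_norm T.ctx hqp (maxInv_of_sylow hQG hQA) hQn (T.K_le T.hM T.hAM) htA htM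
    T.ctx.cent_ne_top T.ctx.le_cent (normalizer_le_normalizer_centralizer A htA)

/-- **(e)**. -/
theorem e {L : Subgroup G} (hL : IsCoatom L) (hLM : L ≠ M) (hAL : A ≤ L) : sigmaCore M ⊓ L = ⊥ := by
  obtain ⟨t, htM, htA⟩ := T.exists_t
  refine T.inf_sigma_eq_bot (hAL.trans le_normalizer) ?_
  intro q _ Q hqσ hQ hQA
  obtain ⟨hQM, hQG, hQn, hqp⟩ := T.sylow_facts hqσ hQ
  exact lemma_E T.ctx hqp hQG hQA hQn (T.K_le T.hM T.hAM) htA htM T.hM hL hAL (T.K_le hL hAL) hLM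

/-- A subgroup meeting `M_σ` and containing `A` lies only in `M`. -/
theorem unique_of_meet {X : Subgroup G} (hAX : A ≤ X) (hne : sigmaCore M ⊓ X ≠ ⊥) {L : Subgroup G}
    (hL : IsCoatom L) (hXL : X ≤ L) : L = M := by
  by_contra hLM
  apply hne
  rw [eq_bot_iff, ← T.e hL hLM (hAX.trans hXL)]
  exact inf_le_inf_left _ hXL

theorem le_of_meet {X : Subgroup G} (hAX : A ≤ X) (hne : sigmaCore M ⊓ X ≠ ⊥) (hX : X ≠ ⊤) : X ≤ M :=
  le_of_forall_coatom hX (fun _ hL hXL => T.unique_of_meet hAX hne hL hXL)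

/-- **A line outside a given one has no fixed points on `M_σ`.** -/
theorem off_line {a : G} (ha : a ∈ A) (ha1 : a ≠ 1) :
    ∃ x ∈ A, x ∉ zpowers a ∧ sigmaCore M ⊓ centralizer ({x} : Set G) = ⊥ := by
  have c := T.ctx
  obtain ⟨t, htM, htA⟩ := T.exists_t
  have hb'A : t⁻¹ * a * t ∈ A := by
    have := (mem_normalizer_iff.mp (inv_mem htA) a).mp ha
    simpa using this
  have hb'1 : t⁻¹ * a * t ≠ 1 := by
    intro h
    apply ha1
    have : a = t * (t⁻¹ * a * t) * t⁻¹ := by group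
    rw [this, h]; group
  obtain ⟨x, hx, hxa, hxa'⟩ := exists_off_two_lines c ha ha1 hb'A hb'1
  have hx' : t * x * t⁻¹ ∈ A := (mem_normalizer_iff.mp htA x).mp hx
  have hx'a : t * x * t⁻¹ ∉ zpowers a := by
    intro h
    obtain ⟨k, hk⟩ := mem_zpowers_iff.mp h
    apply hxa'
    rw [mem_zpowers_iff]
    refine ⟨k, ?_⟩
    have e : t⁻¹ * a * t = t⁻¹ * a * (t⁻¹)⁻¹ := by group
    rw [e, conj_zpow, hk]
    group
  by_cases h1 : sigmaCore M ⊓ centralizer ({x} : Set G) = ⊥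
  · exact ⟨x, hx, hxa, h1⟩
  refine ⟨_, hx', hx'a, ?_⟩
  by_contra h2
  have hx1 : x ≠ 1 := by
    rintro rfl
    exact hxa (one_mem _)
  have hx'1 : t * x * t⁻¹ ≠ 1 := by
    intro h
    apply hx1
    have : x = t⁻¹ * (t * x * t⁻¹) * t := by group
    rw [this, h]; group
  have hCx : centralizer ({x} : Set G) ≤ M :=
    T.le_of_meet (c.le_cent_elem hx) h1 (c.cent_elem_ne_top hx1)
  -- conjugate
  have hcj : centralizer ({t * x * t⁻¹} : Set G) ≤ cj M t := by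
    intro y hy
    rw [mem_cj]
    apply hCx
    rw [Subgroup.mem_centralizer_singleton_iff] at hy ⊢
    have e1 : t⁻¹ * y * t * x = t⁻¹ * (y * (t * x * t⁻¹)) * t := by group
    have e2 : x * (t⁻¹ * y * t) = t⁻¹ * ((t * x * t⁻¹) * y) * t := by group
    rw [e1, e2, hy]
  have h3 : cj M t = M := T.unique_of_meet (c.le_cent_elem hx') h2 (BGUniq3.isCoatom_cj T.hM t) hcj
  have h4 : t ∈ normalizer (M : Set G) := mem_normalizer_of_cj_eq h3
  rw [norm_eq_self T.hG T.hM T.M_ne_bot] at h4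
  exact htM h4

/-- **(f)**. -/
theorem f : ∃ x ∈ A, x ≠ 1 ∧ sigmaCore M ⊓ centralizer ({x} : Set G) = ⊥ := by
  obtain ⟨a, ha, ha1⟩ := exists_mem_ne_one T.A_ne_bot
  obtain ⟨x, hx, hxa, h⟩ := T.off_line ha ha1
  refine ⟨x, hx, ?_, h⟩
  rintro rfl
  exact hxa (one_mem _)

/-- **(a)**. -/
theorem nilpotent : Group.IsNilpotent (sigmaCore M) := by
  obtain ⟨x, hx, hx1, hfree⟩ := T.f
  have hxn : x ∈ normalizer (sigmaCore M : Set G) := le_normalizer_sigmaCore (T.hAM hx)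
  let φ : MulAut (sigmaCore M) := (sigmaCore M).normalizerMonoidHom ⟨x, hxn⟩
  have hφ : ∀ y : sigmaCore M, ((φ y : sigmaCore M) : G) = x * (y : G) * x⁻¹ := fun y => rfl
  have hfp : MonoidHom.FixedPointFree (φ : sigmaCore M →* sigmaCore M) := by
    intro y hy
    have h1 : x * (y : G) * x⁻¹ = y := by
      rw [← hφ]
      exact congrArg Subtype.val hy
    have h2 : (y : G) ∈ sigmaCore M ⊓ centralizer ({x} : Set G) := by
      refine ⟨y.2, Subgroup.mem_centralizer_singleton_iff.mpr ?_⟩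
      calc (y : G) * x = x * (y : G) * x⁻¹ * x := by rw [h1]
        _ = x * y := by group
    rw [hfree, Subgroup.mem_bot] at h2
    exact Subtype.ext h2
  have hne : sigmaCore M ≠ ⊥ := sigmaCore_ne_bot T.hG T.hM T.M_ne_bot
  have hφ1 : φ ≠ 1 := by
    intro h
    obtain ⟨y, hy, hy1⟩ := exists_mem_ne_one hne
    apply hy1
    have h1 := hfp ⟨y, hy⟩ (by rw [show (φ : sigmaCore M →* sigmaCore M) = ((1 : MulAut (sigmaCore M)) : sigmaCore M →* sigmaCore M) from by rw [h]]; rfl)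
    exact congrArg Subtype.val h1
  have hφp : φ ^ p = 1 := by
    ext y
    have h1 : ∀ n : ℕ, (((φ ^ n) y : sigmaCore M) : G) = x ^ n * (y : G) * (x ^ n)⁻¹ := by
      intro n
      induction n generalizing y with
      | zero => simp
      | succ n ih =>
        rw [pow_succ, MulAut.mul_apply, ih, hφ, pow_succ]
        group
    rw [h1, T.ea.2 x hx]
    simp
  have hord : orderOf φ = p := orderOf_eq_prime hφp hφ1
  exact Cfsg.Agent.S0033.result φ hfp p hpf.out hord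

end T2

end Cfsg.Agent.Lib.BGTau7
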