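import Mathlib
import Cfsg.Agent.Lib.BGTau7

/-!
# Bender-Glauberman section 12: the Sylow subgroups for primes in `τ₂(M)` are abelian; coprime actions
of `A` on `M_σ`.
-/

set_option autoImplicit false
set_option linter.unusedSectionVars false
set_option linter.unusedVariables false
set_option linter.style.haveILetI false
set_option linter.unusedSimpArgs false

namespace Cfsg.Agent.Lib.BGTau7

open Cfsg Subgroup Cfsg.Agent.Lib.CoprimeInv Cfsg.Agent.Lib.BGTrans Cfsg.Agent.Lib.BGTrans2 Cfsg.Agent.Lib.BGUniq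
  Cfsg.Agent.Lib.BGUniq2 Cfsg.Agent.Lib.BGTau1 Cfsg.Agent.Lib.BGTau2
  Cfsg.Agent.Lib.BGTau3 Cfsg.Agent.Lib.BGTau4 Cfsg.Agent.Lib.BGTau5 Cfsg.Agent.Lib.BGTau6
  Cfsg.Agent.Lib.BGUT1 Cfsg.Agent.Lib.BGM1
  Cfsg.Agent.Lib.BGUniq3 Cfsg.Agent.Lib.BGSigma3 Cfsg.Agent.Lib.BGSigma4 Cfsg.Agent.Lib.BGSigma2
  Cfsg.Agent.Lib.Glauberman
open scoped commutatorElement

universe u

variable {G : Type u} [Group G] [Finite G]

namespace T2

variable {M A : Subgroup G} {p : ℕ} [hpf : Fact p.Prime] (T : T2 M A p)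
include T

/-- **Frobenius action on `M_σ`**, for a subgroup fixed by one line. -/
theorem comm_sigma_line {r : ℕ} [hr : Fact r.Prime] (hrσ : r ∉ sigma M) (hrp : r ≠ p) {D : Subgroup G}
    (hDM : D ≤ M) (hDr : IsPGroup r D) (hDA : A ≤ normalizer (D : Set G)) {a : G} (ha : a ∈ A)
    (ha1 : a ≠ 1) (hDa : D ≤ centralizer ({a} : Set G)) (hDC : D ⊓ centralizer (A : Set G) = ⊥) :
    D ≤ centralizer (sigmaCore M : Set G) := by
  have c := T.ctx
  obtain ⟨x, hx, hxa, hfree⟩ := T.off_line ha ha1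
  have hx1 : x ≠ 1 := by
    rintro rfl
    exact hxa (one_mem _)
  have hordx : orderOf x = p := orderOf_eq_prime (T.ea.2 x hx) hx1
  rw [Subgroup.le_centralizer_iff]
  have hσs : Group.IsSolvable (sigmaCore M) := IsMin.solvable T.hG (c.ne_top_of_le sigmaCore_le T.hM.1)
  have hσM : M ≤ normalizer (sigmaCore M : Set G) := le_normalizer_sigmaCore
  have hzxD : zpowers x ≤ normalizer (D : Set G) := zpowers_le.mpr (hDA hx)
  have hT₀n : zpowers x ⊔ D ≤ normalizer (sigmaCore M : Set G) :=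
    sup_le ((zpowers_le.mpr (T.hAM hx)).trans hσM) (hDM.trans hσM)
  have hcard : Nat.card ↥(zpowers x ⊔ D) ∣ p * Nat.card D := by
    have h3 := card_sup_mul_card_inf (N := D) (H := zpowers x) hzxD
    rw [Nat.card_zpowers, hordx] at h3
    exact ⟨_, h3.symm⟩
  have hcσp : (Nat.card (sigmaCore M)).Coprime p := by
    apply Nat.Coprime.symm
    rw [Nat.Prime.coprime_iff_not_dvd hpf.out]
    intro h'
    exact T.notσ (primes_sigmaCore p hpf.out h')
  have hcσr : (Nat.card (sigmaCore M)).Coprime r := by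
    apply Nat.Coprime.symm
    rw [Nat.Prime.coprime_iff_not_dvd hr.out]
    intro h'
    exact hrσ (primes_sigmaCore r hr.out h')
  have hcop : (Nat.card (sigmaCore M)).Coprime (Nat.card ↥(zpowers x ⊔ D)) :=
    Nat.Coprime.coprime_dvd_right hcard (Nat.Coprime.mul_right hcσp (coprime_of_isPGroup hcσr hDr))
  apply le_of_forall_prime_inv hσs hT₀n hcop
  intro s hs Q hQσ hQs hT₀Q
  by_cases hQbot : Q = ⊥
  · rw [hQbot]; exact bot_le
  have hds : s ∣ Nat.card (sigmaCore M) :=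
    (dvd_card_of_isPGroup hQs hQbot).trans (Subgroup.card_dvd_of_le hQσ)
  have hsr : r ≠ s := by
    rintro rfl
    exact hrσ (primes_sigmaCore r hr.out hds)
  have hsp : p ≠ s := by
    rintro rfl
    exact T.notσ (primes_sigmaCore p hpf.out hds)
  have hDQ : D ≤ normalizer (Q : Set G) := le_sup_right.trans hT₀Q
  have hxQ : zpowers x ≤ normalizer (Q : Set G) := le_sup_left.trans hT₀Q
  have hCD : D ≤ normalizer (centralizer (D : Set G) : Set G) :=
    le_normalizer.trans (normalizer_le_normalizer_centralizer D)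
  have h0 := frob_core (r := s) (q := r) (s := p) (R := Q) (R₀ := Q ⊓ centralizer (D : Set G)) (P := D)
    (Y := zpowers x) hQs hsr hsp hDr (isPGroup_zpowers_of_pow (T.ea.2 x hx)) hDQ hxQ
    (le_normalizer_inf hDQ hCD)
    (le_normalizer_inf hxQ (hzxD.trans (normalizer_le_normalizer_centralizer D))) inf_le_left hzxD
    (fpf_zpowers hpf.out hordx (by
      intro d hd hdx
      have h1 : d ∈ D ⊓ centralizer (A : Set G) :=
        ⟨hd, mem_cent_of_two c ha ha1 hx hxa (mem_centralizer_singleton_iff.mp (hDa hd)) hdx⟩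
      rwa [hDC, Subgroup.mem_bot] at h1)) le_rfl (by
      rw [centralizer_zpowers']
      refine le_trans (inf_le_inf_right _ hQσ) ?_
      rw [hfree]
      exact bot_le)
  rw [← h0]
  exact inf_le_right

/-- **G1.**  A subgroup moved freely by `A` centralizes `M_σ`. -/
theorem comm_sigma {r : ℕ} [hr : Fact r.Prime] (hrσ : r ∉ sigma M) (hrp : r ≠ p) {Y : Subgroup G}
    (hYM : Y ≤ M) (hYr : IsPGroup r Y) (hYA : A ≤ normalizer (Y : Set G))
    (hYC : Y ⊓ centralizer (A : Set G) = ⊥) : Y ≤ centralizer (sigmaCore M : Set G) := by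
  have c := T.ctx
  have hcop : (Nat.card A).Coprime (Nat.card Y) :=
    (coprime_of_isPGroup (coprime_of_pgroup_ne hYr hrp) c.isP).symm
  refine le_of_lines c.ea c.card hYA hcop ?_
  intro a ha ha1
  refine T.comm_sigma_line hrσ hrp (inf_le_left.trans hYM) (hYr.to_le inf_le_left)
    (le_normalizer_inf hYA ?_) ha ha1 inf_le_right ?_
  · intro b hb
    exact mem_normalizer_cent_elem (c.comm hb ha)
  · rw [eq_bot_iff, ← hYC]
    exact inf_le_inf_right _ inf_le_left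

/-- **The structure of `C_S(A)`** for a nonabelian Sylow subgroup `S`. -/
theorem structure_rank2 (S : Sylow p G) (hAS : A ≤ S) (hna : ¬ IsMulCommutative (S : Subgroup G))
    (hr : PRankLE p 2 (S : Subgroup G)) :
    ∃ (a z : G) (C₀ : Subgroup G), a ∈ A ∧ z ∈ A ∧ z ≠ 1 ∧ a ∉ zpowers z ∧
      (∀ y ∈ (S : Subgroup G), y * z = z * y) ∧ IsCyclic C₀ ∧ C₀ ≤ centralizer ({a} : Set G) ∧ z ∈ C₀ ∧
      (∀ x ∈ C₀, x ^ p = 1 → x ∈ zpowers z) ∧
      (∀ g ∈ (S : Subgroup G), g ∈ centralizer (A : Set G) → ∃ i : ℕ, ∃ c ∈ C₀, g = a ^ i * c) := by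
  have c := T.ctx
  rcases Cfsg.Agent.S1412.result T.hG p S hr with h | ⟨P₁, P₂, hsup, hcomm, hna₁, hcard₁, hexp, hcyc, hcl⟩
  · exact absurd h hna
  have hP₁S : P₁ ≤ S := hsup ▸ le_sup_left
  have hP₂S : P₂ ≤ S := hsup ▸ le_sup_right
  have hP₁p : IsPGroup p P₁ := S.isPGroup'.to_le hP₁S
  have hP₁ne : P₁ ≠ ⊥ := by
    rintro rfl
    exact hna₁ inferInstance
  have hu1 : ∀ u ∈ P₁, u ^ p = 1 := by
    intro u hu
    have h1 := Monoid.pow_exponent_eq_one (⟨u, hu⟩ : P₁)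
    rw [hexp] at h1
    exact congrArg Subtype.val h1
  obtain ⟨z, hzP₁, hz1, hzp, hzc⟩ := exists_central hP₁p hP₁ne
  have hzcent : z ∈ P₁ ⊓ centralizer (P₁ : Set G) :=
    ⟨hzP₁, Subgroup.mem_centralizer_iff.mpr (fun y hy => hzc y hy)⟩
  have hclP₂ : closure {x : G | x ∈ P₂ ∧ x ^ p = 1} ≤ P₂ := by
    rw [Subgroup.closure_le]
    intro x hx
    exact hx.1
  have hzP₂ : z ∈ P₂ := by
    rw [← hcl] at hzcent
    exact hclP₂ hzcent
  have hP₁n : P₁ ≤ normalizer (P₂ : Set G) := by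
    apply centralizer_le_normalizer_of_le (C := ⊤)
    intro v hv
    rw [Subgroup.mem_centralizer_iff]
    intro u hu
    exact hcomm u hu v hv
  have hP₂comm : ∀ u ∈ P₂, ∀ v ∈ P₂, u * v = v * u := by
    intro u hu v hv
    exact Cfsg.Agent.Lib.OddOrderCore.mul_comm_of_isCyclic hcyc hu hv
  have hzS : ∀ y ∈ (S : Subgroup G), y * z = z * y := by
    intro y hy
    rw [← hsup] at hy
    obtain ⟨u, hu, v, hv, rfl⟩ := mul_of_mem_sup hP₁n hy
    have h1 : u * z = z * u := hzc u hu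
    have h2 : v * z = z * v := (hP₂comm v hv z hzP₂)
    exact ((show Commute u z from h1).mul_left (show Commute v z from h2)).eq
  have hAP₁ : A ≤ P₁ := by
    intro a ha
    have hy := hAS ha
    rw [← hsup] at hy
    obtain ⟨u, hu, v, hv, rfl⟩ := mul_of_mem_sup hP₁n hy
    have h1 : (u * v) ^ p = 1 := T.ea.2 _ ha
    have h2 : Commute u v := hcomm u hu v hv
    rw [h2.mul_pow, hu1 u hu, one_mul] at h1
    have h3 : v ∈ P₁ ⊓ centralizer (P₁ : Set G) := by
      rw [← hcl]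
      exact Subgroup.subset_closure ⟨hv, h1⟩
    exact P₁.mul_mem hu h3.1
  have hzC : z ∈ centralizer (A : Set G) := by
    rw [Subgroup.mem_centralizer_iff]
    intro a ha
    exact hzc a (hAP₁ ha)
  have hzA : z ∈ A := c.omega hzC hzp
  obtain ⟨a, haA, haz, -⟩ := exists_off_two_lines c hzA hz1 hzA hz1
  refine ⟨a, z, P₂, haA, hzA, hz1, haz, hzS, hcyc, ?_, hzP₂, ?_, ?_⟩
  · intro v hv
    rw [Subgroup.mem_centralizer_singleton_iff]
    exact (hcomm a (hAP₁ haA) v hv).symm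
  · intro x hx hxp
    exact mem_zpowers_of_cyclic hcyc hpf.out hzP₂ hx (orderOf_eq_prime hzp hz1) hxp
  · intro g hgS hgC
    rw [← hsup] at hgS
    obtain ⟨u, hu, v, hv, rfl⟩ := mul_of_mem_sup hP₁n hgS
    have hvC : v ∈ centralizer (A : Set G) := by
      rw [Subgroup.mem_centralizer_iff]
      intro b hb
      exact hcomm b (hAP₁ hb) v hv
    have huC : u ∈ centralizer (A : Set G) := by
      have h1 := (centralizer (A : Set G)).mul_mem hgC ((centralizer (A : Set G)).inv_mem hvC)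
      simpa using h1
    have huA : u ∈ A := c.omega huC (hu1 u hu)
    obtain ⟨i, j, rfl⟩ := exists_pow_mul c.ea c.card hzA hz1 haA haz huA
    refine ⟨j, z ^ i * v, P₂.mul_mem (pow_mem hzP₂ i) hv, ?_⟩
    have h1 : Commute (z ^ i) (a ^ j) := (show Commute z a from c.comm hzA haA).pow_pow i j
    rw [h1.eq, mul_assoc]

theorem structure_rank3 (S : Sylow p G) (hAS : A ≤ S) (hr : ¬ PRankLE p 2 (S : Subgroup G)) :
    ∃ (a z : G) (C₀ : Subgroup G), a ∈ A ∧ z ∈ A ∧ z ≠ 1 ∧ a ∉ zpowers z ∧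
      (∀ y ∈ (S : Subgroup G), y * z = z * y) ∧ IsCyclic C₀ ∧ C₀ ≤ centralizer ({a} : Set G) ∧ z ∈ C₀ ∧
      (∀ x ∈ C₀, x ^ p = 1 → x ∈ zpowers z) ∧
      (∀ g ∈ (S : Subgroup G), g ∈ centralizer (A : Set G) → ∃ i : ℕ, ∃ c ∈ C₀, g = a ^ i * c) := by
  have c := T.ctx
  have hp2 : p ≠ 2 := c.p_ne_two
  have hR : IsPGroup p ↥(S : Subgroup G) := S.isPGroup'
  have hE : IsElementaryAbelian p (A.subgroupOf (S : Subgroup G)) := by
    refine ⟨⟨⟨?_⟩⟩, ?_⟩
    · rintro ⟨⟨a, ha⟩, ha'⟩ ⟨⟨b, hb⟩, hb'⟩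
      apply Subtype.ext
      apply Subtype.ext
      exact c.comm ha' hb'
    · rintro ⟨a, ha⟩ ha'
      apply Subtype.ext
      exact T.ea.2 a ha'
  have hE2 : Nat.card (A.subgroupOf (S : Subgroup G)) = p ^ 2 := by
    rw [card_subgroupOf_of_le hAS]
    exact T.card
  have hEmax : ∀ B : Subgroup ↥(S : Subgroup G), IsElementaryAbelian p B → A.subgroupOf (S : Subgroup G) ≤ B →
      B = A.subgroupOf (S : Subgroup G) := by
    intro B hB hEB
    have hB' : IsElementaryAbelian p (B.map (S : Subgroup G).subtype) := by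
      refine ⟨⟨⟨?_⟩⟩, ?_⟩
      · rintro ⟨_, x, hx, rfl⟩ ⟨_, y, hy, rfl⟩
        apply Subtype.ext
        have := hB.1.is_comm.comm (⟨x, hx⟩ : B) ⟨y, hy⟩
        exact congrArg (fun w : B => ((w : ↥(S : Subgroup G)) : G)) this
      · rintro _ ⟨x, hx, rfl⟩
        exact congrArg Subtype.val (hB.2 x hx)
    have hAB' : A ≤ B.map (S : Subgroup G).subtype := by
      intro a ha
      exact ⟨⟨a, hAS ha⟩, hEB (by simpa [Subgroup.mem_subgroupOf] using ha), rfl⟩
    have h1 := (Cfsg.Agent.S1408.result T.hG M T.hM p T.notσ T.rank2 T.not_rank1).2 A T.hAM T.ea T.card _ hB' hAB'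
    ext x
    rw [Subgroup.mem_subgroupOf, ← h1]
    constructor
    · intro hx
      exact ⟨x, hx, rfl⟩
    · rintro ⟨y, hy, hyx⟩
      have : y = x := Subtype.ext hyx
      rwa [← this]
  obtain ⟨h1, -, -, h4, h5⟩ := Cfsg.Agent.S1453.result p hp2 hR hr (A.subgroupOf (S : Subgroup G)) hE hE2 hEmax
  set W : Subgroup ↥(S : Subgroup G) := closure {x : ↥(S : Subgroup G) |
    x ∈ Subgroup.upperCentralSeries ↥(S : Subgroup G) 2 ∧ x ^ p = 1} with hW
  set Tt : Subgroup ↥(S : Subgroup G) := centralizer (W : Set ↥(S : Subgroup G)) with hTt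
  haveI hTn : Tt.Normal := Subgroup.normal_of_characteristic _
  obtain ⟨e, heE, heT⟩ := SetLike.not_le_iff_exists.mp h1
  have haA : (e : G) ∈ A := Subgroup.mem_subgroupOf.mp heE
  have hSne : (S : Subgroup G) ≠ ⊥ := by
    intro h
    apply T.A_ne_bot
    rw [eq_bot_iff, ← h]
    exact hAS
  obtain ⟨z, hzS, hz1, hzp, hzc⟩ := exists_central S.isPGroup' hSne
  have hzT : (⟨z, hzS⟩ : ↥(S : Subgroup G)) ∈ Tt := by
    rw [hTt, Subgroup.mem_centralizer_iff]
    intro w _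
    apply Subtype.ext
    exact hzc (w : G) w.2
  have hzC : z ∈ centralizer (A : Set G) := by
    rw [Subgroup.mem_centralizer_iff]
    intro a ha
    exact hzc a (hAS ha)
  have hzA : z ∈ A := c.omega hzC hzp
  have haz : (e : G) ∉ zpowers z := by
    intro h
    obtain ⟨k, hk⟩ := mem_zpowers_iff.mp h
    apply heT
    have he : e = (⟨z, hzS⟩ : ↥(S : Subgroup G)) ^ k := by
      apply Subtype.ext
      rw [← hk]
      rfl
    rw [he]
    exact zpow_mem hzT k
  let C₀ : Subgroup G := Tt.map (S : Subgroup G).subtype ⊓ centralizer ({(e : G)} : Set G)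
  have hC₀S : C₀ ≤ S := inf_le_left.trans (Subgroup.map_subtype_le _)
  have hC₀p : IsPGroup p C₀ := S.isPGroup'.to_le hC₀S
  have hC₀mem : ∀ x ∈ C₀, x ^ p = 1 → x ∈ zpowers z := by
    rintro x ⟨⟨x', hx', rfl⟩, hxa⟩ hxp
    have hxC : (x' : G) ∈ centralizer (A : Set G) :=
      mem_cent_of_two c hzA hz1 haA haz (hzc _ x'.2) (mem_centralizer_singleton_iff.mp hxa)
    have hxA := c.omega hxC hxp
    by_contra hxz
    apply heT
    obtain ⟨i, j, hij⟩ := exists_pow_mul c.ea c.card hzA hz1 hxA hxz haA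
    have he : e = (⟨z, hzS⟩ : ↥(S : Subgroup G)) ^ i * x' ^ j := by
      apply Subtype.ext
      rw [hij]
      rfl
    rw [he]
    exact Tt.mul_mem (pow_mem hzT i) (pow_mem hx' j)
  have hcyc : IsCyclic C₀ := by
    refine isCyclic_of_prank_one hp2 hC₀p ?_
    rw [Cfsg.Agent.Lib.BGSigma.prankLE_iff]
    intro F hF _ hFe
    have h2 : F ≤ zpowers z := fun x hx => hC₀mem x (hF hx) (hFe x hx)
    have h3 := Subgroup.card_le_of_le h2
    rw [Nat.card_zpowers, orderOf_eq_prime hzp hz1] at h3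
    simpa using h3
  refine ⟨e, z, C₀, haA, hzA, hz1, haz, hzc, hcyc, inf_le_right, ?_, hC₀mem, ?_⟩
  · refine ⟨⟨⟨z, hzS⟩, hzT, rfl⟩, mem_centralizer_singleton_iff.mpr (c.comm hzA haA)⟩
  · intro g hgS hgC
    have hcard : Nat.card (↥(S : Subgroup G) ⧸ Tt) = p := by
      rw [← Subgroup.index_eq_card]
      exact h5
    have hne1 : ((e : ↥(S : Subgroup G)) : ↥(S : Subgroup G) ⧸ Tt) ≠ 1 := by
      intro h
      exact heT ((QuotientGroup.eq_one_iff e).mp h)
    have hmem := mem_zpowers_of_prime_card hcard (g' := ((⟨g, hgS⟩ : ↥(S : Subgroup G)) : ↥(S : Subgroup G) ⧸ Tt)) hne1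
    obtain ⟨i, hi⟩ := exists_nat_of_mem_zpowers hmem
    have hi' : ((e ^ i)⁻¹ * ⟨g, hgS⟩ : ↥(S : Subgroup G)) ∈ Tt := by
      rw [← QuotientGroup.eq]
      rw [hi]
      rfl
    refine ⟨i, ((e : G) ^ i)⁻¹ * g, ⟨⟨_, hi', rfl⟩, ?_⟩, by group⟩
    refine mem_centralizer_singleton_iff.mpr ?_
    have h6 : Commute g (e : G) := by
      have := Subgroup.mem_centralizer_iff.mp hgC (e : G) haA
      exact (show Commute (e : G) g from this).symm
    have h7 : Commute (((e : G) ^ i)⁻¹) (e : G) := ((Commute.refl (e : G)).pow_left i).inv_left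
    exact (h7.mul_left h6).eq

/-- The structure of `C_S(A)`. -/
theorem exists_structure (S : Sylow p G) (hAS : A ≤ S) (hna : ¬ IsMulCommutative (S : Subgroup G)) :
    ∃ (a z : G) (C₀ : Subgroup G), a ∈ A ∧ z ∈ A ∧ z ≠ 1 ∧ a ∉ zpowers z ∧
      (∀ y ∈ (S : Subgroup G), y * z = z * y) ∧ IsCyclic C₀ ∧ C₀ ≤ centralizer ({a} : Set G) ∧ z ∈ C₀ ∧
      (∀ x ∈ C₀, x ^ p = 1 → x ∈ zpowers z) ∧
      (∀ g ∈ (S : Subgroup G), g ∈ centralizer (A : Set G) → ∃ i : ℕ, ∃ c ∈ C₀, g = a ^ i * c) := by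
  by_cases hr : PRankLE p 2 (S : Subgroup G)
  · exact T.structure_rank2 S hAS hna hr
  · exact T.structure_rank3 S hAS hr

/-- **(b)**: `P` is abelian. -/
theorem abelian {P : Subgroup G} (hP : IsSylowIn p P M) (hAP : A ≤ P) : IsMulCommutative P := by
  have hPC := (T.central hP hAP).1
  obtain ⟨S, hPS⟩ := hP.2.1.exists_le_sylow
  by_cases hna : IsMulCommutative (S : Subgroup G)
  · refine ⟨⟨?_⟩⟩
    rintro ⟨x, hx⟩ ⟨y, hy⟩
    apply Subtype.ext
    show x * y = y * x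
    exact congrArg Subtype.val (hna.is_comm.comm (⟨x, hPS hx⟩ : (S : Subgroup G)) ⟨y, hPS hy⟩)
  obtain ⟨a, z, C₀, ha, hz, hz1, haz, hzc, hcyc, hC₀a, hzC₀, hC₀m, hdec⟩ :=
    T.exists_structure S (hAP.trans hPS) hna
  refine ⟨⟨?_⟩⟩
  rintro ⟨x, hx⟩ ⟨y, hy⟩
  apply Subtype.ext
  obtain ⟨i, c₁, hc₁, rfl⟩ := hdec x (hPS hx) (hPC hx)
  obtain ⟨j, c₂, hc₂, hxy⟩ := hdec y (hPS hy) (hPC hy)
  show a ^ i * c₁ * y = y * (a ^ i * c₁)
  rw [hxy]
  have h1 : Commute c₁ a := mem_centralizer_singleton_iff.mp (hC₀a hc₁)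
  have h2 : Commute c₂ a := mem_centralizer_singleton_iff.mp (hC₀a hc₂)
  have h3 : Commute c₁ c₂ := Cfsg.Agent.Lib.OddOrderCore.mul_comm_of_isCyclic hcyc hc₁ hc₂
  have h4 : Commute (a ^ i) (a ^ j) := (Commute.refl a).pow_pow i j
  have h5 : Commute (a ^ i * c₁) (a ^ j * c₂) :=
    Commute.mul_left (Commute.mul_right h4 (h2.symm.pow_left i)) (Commute.mul_right (h1.pow_right j) h3)
  exact h5.eq

end T2

end Cfsg.Agent.Lib.BGTau7
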