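import Mathlib
import Cfsg.Agent.Lib.BGTau8

/-!
# Bender-Glauberman section 12: `A` centralizes its invariant `r`-subgroups of `M`, for `r ∉ σ(M)`.
-/

set_option autoImplicit false
set_option linter.unusedSectionVars false
set_option linter.unusedVariables false
set_option linter.style.haveILetI false
set_option linter.unusedSimpArgs false

namespace Cfsg.Agent.Lib.BGTau7

open Cfsg Subgroup Cfsg.Agent.Lib.CoprimeInv Cfsg.Agent.Lib.BGTrans Cfsg.Agent.Lib.BGTrans2 Cfsg.Agent.Lib.BGUniq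
  Cfsg.Agent.Lib.BGUniq2 Cfsg.Agent.Lib.BGTau1 Cfsg.Agent.Lib.BGTau2
  Cfsg.Agent.Lib.BGTau3 Cfsg.Agent.Lib.BGTau4 Cfsg.Agent.Lib.BGTau5 Cfsg.Agent.Lib.BGTau6
  Cfsg.Agent.Lib.BGUT1 Cfsg.Agent.Lib.BGM1
  Cfsg.Agent.Lib.BGUniq3 Cfsg.Agent.Lib.BGSigma3 Cfsg.Agent.Lib.BGSigma4 Cfsg.Agent.Lib.BGSigma2
  Cfsg.Agent.Lib.Glauberman
open scoped commutatorElement

universe u

variable {G : Type u} [Group G] [Finite G]

/-- A `p`-subgroup of `L` lies in `L_σ` for `p ∈ σ(L)`. -/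
theorem le_sigmaCore_of_pgroup (hG : IsMinSimpleOddOrder G) {L R : Subgroup G} (hL : IsCoatom L) {s : ℕ}
    [hs' : Fact s.Prime] (hs : s ∈ sigma L) (hRL : R ≤ L) (hRs : IsPGroup s R) : R ≤ sigmaCore L := by
  have hR' : IsPGroup s (R.subgroupOf L) :=
    hRs.of_injective (Subgroup.subgroupOfEquivOfLe hRL).toMonoidHom (MulEquiv.injective _)
  obtain ⟨T, hT⟩ := hR'.exists_le_sylow
  intro x hx
  have h1 : (⟨x, hRL hx⟩ : L) ∈ (T : Subgroup L) := hT hx
  exact ⟨⟨x, hRL hx⟩, sylow_le_sigmaCore hG hL hs T h1, rfl⟩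

theorem not_beta_of_not_sigma (hG : IsMinSimpleOddOrder G) {M : Subgroup G} (hM : IsCoatom M) {r : ℕ}
    (hr : r ∉ sigma M) : r ∉ beta M := fun h => hr (alpha_sub_sigma hG (ut hG) hM h.1)

theorem rank2_of_not_sigma (hG : IsMinSimpleOddOrder G) {M : Subgroup G} (hM : IsCoatom M) {r : ℕ}
    (hrp : r.Prime) (hr : r ∉ sigma M) : PRankLE r 2 M := by
  by_contra h
  exact hr (alpha_sub_sigma hG (ut hG) hM ⟨hrp, h⟩)

/-- `g` normalizing `K` and `A` normalizes `[K, A]`. -/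
theorem mem_normalizer_comm {K A : Subgroup G} {g : G} (hK : g ∈ normalizer (K : Set G))
    (hA : g ∈ normalizer (A : Set G)) : g ∈ normalizer ((⁅K, A⁆ : Subgroup G) : Set G) := by
  rw [mem_normalizer_iff_cj]
  show (⁅K, A⁆ : Subgroup G).map _ = _
  rw [Subgroup.map_commutator]
  have h1 : K.map (MulAut.conj g).toMonoidHom = K := cj_eq_of_mem_normalizer hK
  have h2 : A.map (MulAut.conj g).toMonoidHom = A := cj_eq_of_mem_normalizer hA
  rw [h1, h2]

namespace T2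

variable {M A : Subgroup G} {p : ℕ} [hpf : Fact p.Prime] (T : T2 M A p)
include T

/-- **`p < r`** when `A` moves an `r`-subgroup. -/
theorem prime_lt {r : ℕ} [hr : Fact r.Prime] (hrσ : r ∉ sigma M) (hrp : r ≠ p) {R : Subgroup G}
    (hRM : R ≤ M) (hRr : IsPGroup r R) (hRA : A ≤ normalizer (R : Set G))
    (hne : ¬ R ≤ centralizer (A : Set G)) : p < r := by
  have hRbot : R ≠ ⊥ := by
    rintro rfl
    exact hne bot_le
  have hrd : r ∣ Nat.card M := (dvd_card_of_isPGroup hRr hRbot).trans (Subgroup.card_dvd_of_le hRM)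
  have hfacts := ((Cfsg.Agent.S1414.result T.hG M T.hM).2.2.2.2 r hr.out hrd
    (not_beta_of_not_sigma T.hG T.hM hrσ)).2.2
  have hd : p ∣ (pPrimeCore r ↥M).index := by
    by_contra hnd
    apply hne
    have hAW : A ≤ coreOf r M := by
      intro a ha
      refine ⟨⟨a, T.hAM ha⟩, ?_, rfl⟩
      refine mem_of_not_dvd_index hnd (k := 1) ?_
      apply Subtype.ext
      simpa using T.ea.2 a ha
    intro y hy
    rw [Subgroup.mem_centralizer_iff]
    intro a ha
    have hW : (Nat.card (coreOf r M)).Coprime (Nat.card R) :=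
      (coprime_of_isPGroup (card_coreOf_coprime r M) hRr)
    have hbot : coreOf r M ⊓ R = ⊥ := inf_eq_bot_of_coprime' hW
    have hy2 : y * a⁻¹ * y⁻¹ ∈ coreOf r M :=
      (mem_normalizer_iff.mp (BGUniq.le_normalizer_coreOf r M (hRM hy)) a⁻¹).mp (inv_mem (hAW ha))
    have hc1 : a * y * a⁻¹ * y⁻¹ ∈ coreOf r M := by
      have := (coreOf r M).mul_mem (hAW ha) hy2
      have e : a * (y * a⁻¹ * y⁻¹) = a * y * a⁻¹ * y⁻¹ := by group
      rwa [e] at this
    have hc2 : a * y * a⁻¹ * y⁻¹ ∈ R :=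
      R.mul_mem ((mem_normalizer_iff.mp (hRA ha) y).mp hy) (R.inv_mem hy)
    have hc3 : a * y * a⁻¹ * y⁻¹ ∈ coreOf r M ⊓ R := ⟨hc1, hc2⟩
    rw [hbot, Subgroup.mem_bot] at hc3
    have h4 : a * y * a⁻¹ = y := by
      have := mul_eq_one_iff_eq_inv.mp hc3
      rwa [inv_inv] at this
    calc a * y = a * y * a⁻¹ * a := by group
      _ = y * a := by rw [h4]
  have h1 := hfacts p hpf.out hd
  omega

/-- An `A`-invariant Sylow subgroup of `M` for `r > p`. -/
theorem exists_inv_sylow {r : ℕ} [hr : Fact r.Prime] (hlt : p < r) {R : Subgroup G}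
    (hRM : R ≤ M) (hRr : IsPGroup r R) (hRA : A ≤ normalizer (R : Set G)) :
    ∃ R₀, IsSylowIn r R₀ M ∧ A ≤ normalizer (R₀ : Set G) ∧ R ≤ R₀ := by
  have hfacts := ((Cfsg.Agent.S1414.result T.hG M T.hM).2.2.2.2 p hpf.out T.dvdM
    (not_beta_of_not_sigma T.hG T.hM T.notσ)).2.2
  have hnd : ¬ r ∣ (pPrimeCore p ↥M).index := by
    intro h
    have := hfacts r hr.out h
    omega
  have hsub : ∀ X : Subgroup G, X ≤ M → IsPGroup r X → X ≤ coreOf p M := by
    intro X hXM hXr x hx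
    obtain ⟨k, hk⟩ := hXr ⟨x, hx⟩
    refine ⟨⟨x, hXM hx⟩, ?_, rfl⟩
    refine mem_of_not_dvd_index hnd (k := k) ?_
    apply Subtype.ext
    simpa using congrArg Subtype.val hk
  have hWs : Group.IsSolvable (coreOf p M) :=
    IsMin.solvable T.hG (T.ctx.ne_top_of_le (BGUniq.coreOf_le p M) T.hM.1)
  have hAW : A ≤ normalizer (coreOf p M : Set G) := T.hAM.trans (BGUniq.le_normalizer_coreOf p M)
  have hWc : (Nat.card (coreOf p M)).Coprime (Nat.card A) :=
    coprime_of_isPGroup (card_coreOf_coprime p M) T.isP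
  obtain ⟨R₀, hR₀, hR₀A, hRR₀⟩ := exists_invariant_isSylowIn_ge r hWs hAW hWc (hsub R hRM hRr) hRr hRA
  exact ⟨R₀, ⟨hR₀.1.trans (BGUniq.coreOf_le p M), hR₀.2.1,
    fun X hXM hXr hle => hR₀.2.2 X (hsub X hXM hXr) hXr hle⟩, hR₀A, hRR₀⟩

/-- **Rank two for `r`.** -/
theorem not_rank_one {r : ℕ} [hr : Fact r.Prime] (hrσ : r ∉ sigma M) (hrp : r ≠ p) {R₀ : Subgroup G}
    (hR₀ : IsSylowIn r R₀ M) (hR₀A : A ≤ normalizer (R₀ : Set G))
    (hne : ¬ R₀ ≤ centralizer (A : Set G)) : ¬ PRankLE r 1 M := by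
  intro hr1
  have c := T.ctx
  have hR₀bot : R₀ ≠ ⊥ := by
    rintro rfl
    exact hne bot_le
  have hR₀p : IsPGroup r R₀ := hR₀.2.1
  have hr2 : r ≠ 2 := prime_ne_two_of_dvd T.hG (dvd_of_isPGroup hR₀p hR₀bot)
  have hR₀c : IsCyclic R₀ := isCyclic_of_prank_one hr2 hR₀p (prankLE_of_le hR₀.1 hr1)
  obtain ⟨y, hyR, hy1, hyr, -⟩ := exists_central hR₀p hR₀bot
  have hord : orderOf y = r := orderOf_eq_prime hyr hy1
  have hyA : A ≤ normalizer ((zpowers y : Subgroup G) : Set G) := by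
    intro a ha
    apply mem_normalizer_of_forall
    intro w hw
    have h1 : a * y * a⁻¹ ∈ zpowers y := by
      refine mem_zpowers_of_cyclic hR₀c hr.out hyR ((mem_normalizer_iff.mp (hR₀A ha) y).mp hyR) hord ?_
      rw [conj_pow, hyr]; group
    obtain ⟨k, rfl⟩ := mem_zpowers_iff.mp hw
    rw [← conj_zpow]
    exact zpow_mem h1 k
  have hmove : zpowers y ⊓ centralizer (A : Set G) = ⊥ := by
    by_contra hb
    obtain ⟨d, hd, hd1⟩ := exists_mem_ne_one hb
    have hyd : y ∈ zpowers d := generator_of_ne_one hr.out hord hd.1 hd1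
    have hyC : y ∈ centralizer (A : Set G) := (zpowers_le.mpr hd.2) hyd
    apply hne
    intro x hx
    rw [Subgroup.mem_centralizer_iff]
    intro a ha
    have h1 : R₀ ≤ centralizer ({a} : Set G) :=
      comm_of_cyclic_of_fix hR₀c hR₀p (T.ea.2 a ha) hrp.symm (hR₀A ha) hyR hy1 hyr
        ((Subgroup.mem_centralizer_iff.mp hyC a ha).symm)
    exact ((mem_centralizer_singleton_iff.mp (h1 hx))).symm
  have hyM : zpowers y ≤ M := zpowers_le.mpr (hR₀.1 hyR)
  have hyp : IsPGroup r (zpowers y) := isPGroup_zpowers_of_pow hyr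
  have hyσ := T.comm_sigma hrσ hrp hyM hyp hyA hmove
  have hσne := sigmaCore_ne_bot T.hG T.hM T.M_ne_bot
  have hmeet : sigmaCore M ⊓ normalizer ((zpowers y : Subgroup G) : Set G) ≠ ⊥ := by
    rw [inf_eq_left.mpr]
    · exact hσne
    · rw [Subgroup.le_centralizer_iff] at hyσ
      exact hyσ.trans (Subgroup.centralizer_le_normalizer _)
  have hne1 : zpowers y ≠ ⊥ := by
    rw [Ne, zpowers_eq_bot]
    exact hy1
  have hnt := IsMin.normalizer_ne_top T.hG hne1 (IsMin.isPGroup_ne_top T.hG hyp)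
  have hN := T.le_of_meet hyA hmeet hnt
  have hcard : Nat.card (zpowers y) = r := by rw [Nat.card_zpowers, hord]
  exact (Cfsg.Agent.S1409.result T.hG M T.hM r hrσ (zpowers y) hcard hN).1.2 hr1

/-- **`A` centralizes its invariant `r`-subgroups of `M`, for `r ∉ σ(M)`, `r ≠ p`.** -/
theorem centralizes_inv {r : ℕ} [hr : Fact r.Prime] (hrσ : r ∉ sigma M) (hrp : r ≠ p) {R : Subgroup G}
    (hRM : R ≤ M) (hRr : IsPGroup r R) (hRA : A ≤ normalizer (R : Set G)) :
    R ≤ centralizer (A : Set G) := by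
  by_contra hne
  have c := T.ctx
  have hG := T.hG
  have hlt := T.prime_lt hrσ hrp hRM hRr hRA hne
  obtain ⟨R₀, hR₀, hR₀A, hRR₀⟩ := T.exists_inv_sylow hlt hRM hRr hRA
  have hR₀C : ¬ R₀ ≤ centralizer (A : Set G) := fun h => hne (hRR₀.trans h)
  have hr1 := T.not_rank_one hrσ hrp hR₀ hR₀A hR₀C
  have hr2' := rank2_of_not_sigma hG T.hM hr.out hrσ
  have hτ₂ : r ∈ tau2 M := ⟨hr.out, hrσ, hr2', hr1⟩
  have hR₀1 : ¬ PRankLE r 1 R₀ := fun h => hr1 (Cfsg.Agent.Lib.BGSigma.prankLE_of_isSylowIn hR₀ h)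
  obtain ⟨B, hBR₀, hBe, hBc⟩ := exists_ea2 hR₀1
  have TB : T2 M B r := ⟨hG, T.hH, T.hM, hτ₂, hBR₀.trans hR₀.1, hBe, hBc⟩
  have hΩ : ∀ x ∈ R₀, x ^ r = 1 → x ∈ B := fun x hx hxr => TB.omega_P hR₀ hBR₀ hx hxr
  have hab : IsMulCommutative R₀ := TB.abelian hR₀ hBR₀
  have hR₀comm : ∀ x ∈ R₀, ∀ y ∈ R₀, x * y = y * x := fun x hx y hy =>
    congrArg Subtype.val (hab.is_comm.comm (⟨x, hx⟩ : R₀) ⟨y, hy⟩)
  have hNR₀B : normalizer (R₀ : Set G) ≤ normalizer (B : Set G) := by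
    intro g hg
    apply mem_normalizer_of_forall
    intro x hx
    refine hΩ _ ((mem_normalizer_iff.mp hg x).mp (hBR₀ hx)) ?_
    rw [conj_pow, hBe.2 x hx]; group
  have hBn : A ≤ normalizer (B : Set G) := hR₀A.trans hNR₀B
  have hcopB : ∀ X : Subgroup G, IsPGroup r X → (Nat.card A).Coprime (Nat.card X) := fun X hX =>
    (coprime_of_isPGroup (coprime_of_pgroup_ne hX hrp) c.isP).symm
  have hAs : Group.IsSolvable A := c.solvable_of_ne_top c.ne_top
  -- `A` moves `B`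
  have hBA : ¬ B ≤ centralizer (A : Set G) := by
    intro hBC
    apply hR₀C
    have h1 := commutator_sup_inf_centralizer hR₀A (hcopB R₀ hR₀.2.1) (Or.inl hAs)
    have hD₁R : ⁅R₀, A⁆ ≤ R₀ := commutator_le_of_le_normalizer hR₀A
    have hD₁p : IsPGroup r ↥⁅R₀, A⁆ := hR₀.2.1.to_le hD₁R
    have hD₁n : A ≤ normalizer ((⁅R₀, A⁆ : Subgroup G) : Set G) := le_normalizer_comm_right R₀ A
    have hD₁C : ⁅R₀, A⁆ ⊓ centralizer (A : Set G) = ⊥ :=
      CoprimeIndexP.inf_centralizer_eq_bot_of_comm hD₁n (hcopB _ hD₁p)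
        (fun x hx y hy => hR₀comm x (hD₁R hx) y (hD₁R hy))
        (le_comm_comm hR₀A (hcopB R₀ hR₀.2.1) (Or.inl hAs))
    have hD₁bot : ⁅R₀, A⁆ = ⊥ := by
      by_contra hb
      obtain ⟨w, hw, hw1, hwr, -⟩ := exists_central hD₁p hb
      have h2 : w ∈ ⁅R₀, A⁆ ⊓ centralizer (A : Set G) := ⟨hw, hBC (hΩ w (hD₁R hw) hwr)⟩
      rw [hD₁C, Subgroup.mem_bot] at h2
      exact hw1 h2
    rw [hD₁bot, bot_sup_eq] at h1
    exact inf_eq_left.mp h1
  -- the commutator
  have hBM : B ≤ M := hBR₀.trans hR₀.1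
  have hBp : IsPGroup r B := isPGroup_of_ea hBe
  have hBcomm : ∀ x ∈ B, ∀ y ∈ B, x * y = y * x := fun x hx y hy => hR₀comm x (hBR₀ hx) y (hBR₀ hy)
  have hDB : ⁅B, A⁆ ≤ B := commutator_le_of_le_normalizer hBn
  have hDp : IsPGroup r ↥⁅B, A⁆ := hBp.to_le hDB
  have hDn : A ≤ normalizer ((⁅B, A⁆ : Subgroup G) : Set G) := le_normalizer_comm_right B A
  have hDC : ⁅B, A⁆ ⊓ centralizer (A : Set G) = ⊥ :=
    CoprimeIndexP.inf_centralizer_eq_bot_of_comm hDn (hcopB _ hDp)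
      (fun x hx y hy => hBcomm x (hDB hx) y (hDB hy)) (le_comm_comm hBn (hcopB B hBp) (Or.inl hAs))
  have hDσ : ⁅B, A⁆ ≤ centralizer (sigmaCore M : Set G) :=
    T.comm_sigma hrσ hrp (hDB.trans hBM) hDp hDn hDC
  have hσne := sigmaCore_ne_bot hG T.hM T.M_ne_bot
  have hsupB := commutator_sup_inf_centralizer hBn (hcopB B hBp) (Or.inl hAs)
  have hCB : B ⊓ centralizer (A : Set G) ≠ ⊥ := by
    intro hb
    rw [hb, sup_bot_eq] at hsupB
    have h1 : B ≤ centralizer (sigmaCore M : Set G) := hsupB ▸ hDσ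
    rw [Subgroup.le_centralizer_iff] at h1
    apply hσne
    rw [eq_bot_iff, ← TB.d]
    exact le_inf le_rfl h1
  have hDne : ⁅B, A⁆ ≠ ⊥ := by
    intro hb
    rw [hb, bot_sup_eq] at hsupB
    exact hBA (inf_eq_left.mp hsupB)
  obtain ⟨y₂, hy₂, hy₂1⟩ := exists_mem_ne_one hCB
  obtain ⟨y, hyD, hy1⟩ := exists_mem_ne_one hDne
  have hyB : y ∈ B := hDB hyD
  have hyr : y ^ r = 1 := hBe.2 y hyB
  have hord : orderOf y = r := orderOf_eq_prime hyr hy1
  have hy₂y : y₂ ∉ zpowers y := by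
    intro h
    have h1 : y₂ ∈ ⁅B, A⁆ ⊓ centralizer (A : Set G) := ⟨(zpowers_le.mpr hyD) h, hy₂.2⟩
    rw [hDC, Subgroup.mem_bot] at h1
    exact hy₂1 h1
  have hDeq : ⁅B, A⁆ = zpowers y := by
    apply le_antisymm _ (zpowers_le.mpr hyD)
    intro d hd
    obtain ⟨i, j, rfl⟩ := exists_pow_mul hBe hBc hyB hy1 hy₂.1 hy₂y (hDB hd)
    have h1 : y₂ ^ j ∈ ⁅B, A⁆ := by
      have h2 := (⁅B, A⁆ : Subgroup G).mul_mem ((⁅B, A⁆ : Subgroup G).inv_mem (pow_mem hyD i)) hd
      simpa using h2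
    have h3 : y₂ ^ j ∈ ⁅B, A⁆ ⊓ centralizer (A : Set G) := ⟨h1, pow_mem hy₂.2 j⟩
    rw [hDC, Subgroup.mem_bot] at h3
    rw [h3, mul_one]
    exact pow_mem (mem_zpowers y) i
  have hσD : sigmaCore M ≤ normalizer ((⁅B, A⁆ : Subgroup G) : Set G) := by
    rw [Subgroup.le_centralizer_iff] at hDσ
    exact hDσ.trans (Subgroup.centralizer_le_normalizer _)
  have hDt : ⁅B, A⁆ ≠ ⊤ := IsMin.isPGroup_ne_top hG hDp
  have hNt : normalizer ((⁅B, A⁆ : Subgroup G) : Set G) ≠ ⊤ := IsMin.normalizer_ne_top hG hDne hDt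
  have hND : normalizer ((⁅B, A⁆ : Subgroup G) : Set G) ≤ M := by
    refine T.le_of_meet hDn ?_ hNt
    rw [inf_eq_left.mpr hσD]
    exact hσne
  -- the line centralizing `y`
  obtain ⟨a, ha, ha1, hane⟩ := exists_line c.ea c.card hDn (hcopB _ hDp) hDne
  have hya : y * a = a * y := by
    obtain ⟨d, hd, hd1⟩ := exists_mem_ne_one hane
    have hd' : d ∈ zpowers y := hDeq ▸ hd.1
    have hyd : y ∈ zpowers d := generator_of_ne_one hr.out hord hd' hd1
    obtain ⟨k, rfl⟩ := mem_zpowers_iff.mp hyd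
    exact ((show Commute d a from mem_centralizer_singleton_iff.mp hd.2).zpow_left k).eq
  have hamove : ∀ x ∈ A, x ∉ zpowers a → y * x ≠ x * y := by
    intro x hx hxa h
    have h1 : y ∈ ⁅B, A⁆ ⊓ centralizer (A : Set G) := ⟨hyD, mem_cent_of_two c ha ha1 hx hxa hya h⟩
    rw [hDC, Subgroup.mem_bot] at h1
    exact hy1 h1
  have hord_a : ∀ x ∈ A, x ≠ 1 → orderOf x = p := fun x hx hx1 => orderOf_eq_prime (T.ea.2 x hx) hx1
  have hy₂a : y₂ * a = a * y₂ := (Subgroup.mem_centralizer_iff.mp hy₂.2 a ha).symm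
  -- **`C(a) ≤ M`**
  have hCa : centralizer ({a} : Set G) ≤ M := by
    by_contra hCa
    have hex : ∃ L : Subgroup G, IsCoatom L ∧ centralizer ({a} : Set G) ≤ L ∧ L ≠ M := by
      by_contra hno
      push Not at hno
      exact hCa (le_of_forall_coatom (c.cent_elem_ne_top ha1) hno)
    obtain ⟨L, hL, hCL, hLM⟩ := hex
    have hAL : A ≤ L := (c.le_cent_elem ha).trans hCL
    have hyL : y ∈ L := hCL (mem_centralizer_singleton_iff.mpr hya)
    have hy₂L : y₂ ∈ L := hCL (mem_centralizer_singleton_iff.mpr hy₂a)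
    have hDL : ⁅B, A⁆ ≤ L := by
      rw [hDeq]
      exact zpowers_le.mpr hyL
    by_cases hpL : p ∈ sigma L
    · -- `p ∈ σ(L)`
      have hAσ : A ≤ sigmaCore L := le_sigmaCore_of_pgroup hG hL hpL hAL c.isP
      obtain ⟨b, hb, hba, -⟩ := exists_off_two_lines c ha ha1 ha ha1
      have hσn : L ≤ normalizer (sigmaCore L : Set G) := le_normalizer_sigmaCore
      have he1 : y * b * y⁻¹ * b⁻¹ ∈ sigmaCore L :=
        mul_mem ((mem_normalizer_iff.mp (hσn hyL) b).mp (hAσ hb)) (inv_mem (hAσ hb))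
      have he2 : y * b * y⁻¹ * b⁻¹ ∈ zpowers y := by
        rw [← hDeq]
        have h1 : b * y⁻¹ * b⁻¹ ∈ ⁅B, A⁆ := (mem_normalizer_iff.mp (hDn hb) y⁻¹).mp (inv_mem hyD)
        have h2 := (⁅B, A⁆ : Subgroup G).mul_mem hyD h1
        have e : y * (b * y⁻¹ * b⁻¹) = y * b * y⁻¹ * b⁻¹ := by group
        rwa [e] at h2
      have he3 : y * b * y⁻¹ * b⁻¹ ≠ 1 := by
        intro h
        apply hamove b hb hba
        have h2 := mul_eq_one_iff_eq_inv.mp h
        rw [inv_inv] at h2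
        calc y * b = y * b * y⁻¹ * y := by group
          _ = b * y := by rw [h2]
      have hyσL : y ∈ sigmaCore L := by
        have h1 : y ∈ zpowers (y * b * y⁻¹ * b⁻¹) := generator_of_ne_one hr.out hord he2 he3
        exact (zpowers_le.mpr he1) h1
      have hrdL : r ∣ Nat.card L := by
        rw [← hord]
        exact Subgroup.orderOf_dvd_natCard L hyL
      have hnoti : r ∉ beta L := by
        intro h
        exact (Cfsg.Agent.S1408.result hG M T.hM r hrσ hr2' hr1).1 h.2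
      obtain ⟨Pr, Nr, hNn, hNc⟩ := ((Cfsg.Agent.S1414.result hG L hL).2.2.2.2 r hr.out hrdL hnoti).2.1
      have hind : ¬ p ∣ Nr.index := by
        rw [hNc.symm.index_eq_card]
        obtain ⟨k, hk⟩ := IsPGroup.iff_card.mp Pr.isPGroup'
        rw [hk]
        intro h
        exact hrp ((Nat.prime_dvd_prime_iff_eq hpf.out hr.out).mp (hpf.out.dvd_of_dvd_pow h)).symm
      have hbN : (⟨b, hAσ hb⟩ : ↥(sigmaCore L)) ∈ Nr := by
        refine mem_of_not_dvd_index hind (k := 1) ?_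
        apply Subtype.ext
        simpa using T.ea.2 b hb
      have heN : (⟨y, hyσL⟩ : ↥(sigmaCore L)) * ⟨b, hAσ hb⟩ * (⟨y, hyσL⟩ : ↥(sigmaCore L))⁻¹ * (⟨b, hAσ hb⟩ : ↥(sigmaCore L))⁻¹ ∈ Nr :=
        mul_mem (hNn.conj_mem _ hbN _) (inv_mem hbN)
      have hNcop : (Nat.card Nr).Coprime r := by
        have h1 := hNc.card_mul_card
        have h2 : ¬ r ∣ Nat.card Nr := by
          have hP' := Pr.not_dvd_index
          rw [← hNc.index_eq_card]
          exact hP'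
        apply Nat.Coprime.symm
        exact (Nat.Prime.coprime_iff_not_dvd hr.out).mpr h2
      have heord : orderOf ((⟨y, hyσL⟩ : ↥(sigmaCore L)) * ⟨b, hAσ hb⟩ * (⟨y, hyσL⟩ : ↥(sigmaCore L))⁻¹ * (⟨b, hAσ hb⟩ : ↥(sigmaCore L))⁻¹) ∣ r := by
        apply orderOf_dvd_of_pow_eq_one
        apply Subtype.ext
        obtain ⟨k, hk⟩ := mem_zpowers_iff.mp he2
        show (y * b * y⁻¹ * b⁻¹) ^ r = 1
        rw [← hk, ← zpow_natCast, ← zpow_mul, mul_comm, zpow_mul, zpow_natCast, hyr, one_zpow]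
      have hed := Subgroup.orderOf_dvd_natCard Nr heN
      have h1 := Nat.eq_one_of_dvd_coprimes hNcop hed heord
      have h2 := orderOf_eq_one_iff.mp h1
      exact he3 (congrArg Subtype.val h2)
    · -- `p ∉ σ(L)`
      have TL : T2 L A p := by
        refine ⟨hG, T.hH, hL, ⟨hpf.out, hpL, rank2_of_not_sigma hG hL hpf.out hpL, ?_⟩, hAL, T.ea, T.card⟩
        intro h
        have h1 := Cfsg.Agent.Lib.BGSigma.prankLE_iff.mp h A hAL T.ea.1 T.ea.2
        rw [T.card] at h1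
        have h2 := hpf.out.two_le
        have h3 : p ^ 1 < p ^ 2 := Nat.pow_lt_pow_right (by omega) (by norm_num)
        omega
      have hrσL : r ∉ sigma L := by
        intro hrL
        have hzr : IsPGroup r (zpowers y₂) := isPGroup_zpowers_of_pow (hBe.2 y₂ hy₂.1)
        have h1 : y₂ ∈ sigmaCore L :=
          le_sigmaCore_of_pgroup hG hL hrL (zpowers_le.mpr hy₂L) hzr (mem_zpowers y₂)
        have h2 : y₂ ∈ sigmaCore L ⊓ centralizer (A : Set G) := ⟨h1, hy₂.2⟩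
        rw [TL.d, Subgroup.mem_bot] at h2
        exact hy₂1 h2
      have hDσL := TL.comm_sigma hrσL hrp hDL hDp hDn hDC
      rw [Subgroup.le_centralizer_iff] at hDσL
      have hmeet : sigmaCore L ⊓ normalizer ((⁅B, A⁆ : Subgroup G) : Set G) ≠ ⊥ := by
        rw [inf_eq_left.mpr (hDσL.trans (Subgroup.centralizer_le_normalizer _))]
        exact sigmaCore_ne_bot hG hL TL.M_ne_bot
      exact hLM (TL.unique_of_meet hDn hmeet T.hM hND).symm
  -- the final contradiction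
  have hrC : r ∣ Nat.card (centralizer (A : Set G)) := by
    have h1 := Subgroup.orderOf_dvd_natCard (centralizer (A : Set G)) hy₂.2
    rwa [orderOf_eq_prime (hBe.2 y₂ hy₂.1) hy₂1] at h1
  obtain ⟨Rm, hRm, hR₀Rm⟩ := exists_maxInv_ge (H := ⊤) (A := A) (π := {r}) (Y := R₀)
    (mem_invSubgroups_singleton.mpr ⟨le_top, hR₀.2.1, hR₀A⟩)
  have hRmp : IsPGroup r Rm := (mem_invSubgroups_singleton.mp hRm.1).2.1
  have hRmA : A ≤ normalizer (Rm : Set G) := (mem_invSubgroups_singleton.mp hRm.1).2.2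
  obtain ⟨t, htM, htA⟩ := T.exists_t
  obtain ⟨k, hk, he⟩ := c.conj_all hrp hrC hRm (cj_mem_maxInv_of_normalizer htA hRm)
  have ht₂R : k⁻¹ * t ∈ normalizer (Rm : Set G) := by
    rw [mem_normalizer_iff_cj, ← cj_cj, he, cj_cj_inv]
  have hkC : k ∈ centralizer (A : Set G) := c.K_le_cent hk
  have ht₂A : k⁻¹ * t ∈ normalizer (A : Set G) :=
    mul_mem (inv_mem (BGTrans.centralizer_le_normalizer A hkC)) htA
  have ht₂M : k⁻¹ * t ∉ M := by
    intro h
    apply htM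
    have h1 := M.mul_mem ((T.K_le T.hM T.hAM) hk) h
    simpa using h1
  by_cases hRmM : Rm ≤ M
  · have heq : Rm = R₀ := hR₀.2.2 Rm hRmM hRmp hR₀Rm
    rw [heq] at ht₂R
    exact ht₂M (hND (mem_normalizer_comm (hNR₀B ht₂R) ht₂A))
  · have hlt' : R₀ < Rm := by
      refine lt_of_le_of_ne hR₀Rm ?_
      rintro rfl
      exact hRmM hR₀.1
    have hT₁A : A ≤ normalizer ((Rm ⊓ normalizer (R₀ : Set G) : Subgroup G) : Set G) :=
      le_normalizer_inf hRmA (hR₀A.trans le_normalizer)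
    have hT₁p : IsPGroup r ↥(Rm ⊓ normalizer (R₀ : Set G)) := hRmp.to_le inf_le_left
    have hT₁M : Rm ⊓ normalizer (R₀ : Set G) ≤ M := by
      refine le_of_lines c.ea c.card hT₁A (hcopB _ hT₁p) ?_
      rintro x hx hx1 τ ⟨⟨hτR, hτN⟩, hτx⟩
      have hτx' : τ * x = x * τ := mem_centralizer_singleton_iff.mp hτx
      by_cases hxa : x ∈ zpowers a
      · apply hCa
        have h1 : a ∈ zpowers x := generator_of_ne_one hpf.out (hord_a a ha ha1) hxa hx1
        obtain ⟨n, rfl⟩ := mem_zpowers_iff.mp h1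
        exact mem_centralizer_singleton_iff.mpr ((show Commute τ x from hτx').zpow_right n).eq
      · apply hND
        have hD' : ⁅B, (zpowers x : Subgroup G)⁆ = ⁅B, A⁆ := by
          apply le_antisymm (Subgroup.commutator_mono le_rfl (zpowers_le.mpr hx))
          rw [hDeq]
          apply zpowers_le.mpr
          have h1 : y * x * y⁻¹ * x⁻¹ ∈ ⁅B, (zpowers x : Subgroup G)⁆ :=
            Subgroup.commutator_mem_commutator hyB (mem_zpowers x)
          have h2 : y * x * y⁻¹ * x⁻¹ ≠ 1 := by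
            intro h
            apply hamove x hx hxa
            have h2 := mul_eq_one_iff_eq_inv.mp h
            rw [inv_inv] at h2
            calc y * x = y * x * y⁻¹ * y := by group
              _ = x * y := by rw [h2]
          have h3 : y * x * y⁻¹ * x⁻¹ ∈ zpowers y := by
            rw [← hDeq]
            exact (Subgroup.commutator_mono le_rfl (zpowers_le.mpr hx)) h1
          exact (zpowers_le.mpr h1) (generator_of_ne_one hr.out hord h3 h2)
        rw [← hD']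
        refine mem_normalizer_comm (hNR₀B hτN) ?_
        exact BGTrans.centralizer_le_normalizer _ (by
          rw [centralizer_zpowers']
          exact hτx)
    have hT₁eq : Rm ⊓ normalizer (R₀ : Set G) = R₀ :=
      hR₀.2.2 _ hT₁M hT₁p (le_inf hR₀Rm le_normalizer)
    obtain ⟨g, hgR, hgR₀, hgn⟩ := CoprimeInv.exists_mem_normalizer_of_lt hRmp hlt'
    apply hgR₀
    rw [← hT₁eq]
    exact ⟨hgR, hgn⟩

/-- `O_{p'}(M) ≤ M_σ C_G(A)`. -/
theorem core_le : coreOf p M ≤ sigmaCore M ⊔ centralizer (A : Set G) := by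
  have c := T.ctx
  have hWM : coreOf p M ≤ M := BGUniq.coreOf_le p M
  have hWs : Group.IsSolvable (coreOf p M) := IsMin.solvable T.hG (c.ne_top_of_le hWM T.hM.1)
  have hAW : A ≤ normalizer (coreOf p M : Set G) := T.hAM.trans (BGUniq.le_normalizer_coreOf p M)
  have hWc : (Nat.card (coreOf p M)).Coprime (Nat.card A) :=
    coprime_of_isPGroup (card_coreOf_coprime p M) T.isP
  apply le_of_forall_prime_inv hWs hAW hWc
  intro r hr R hRW hRr hRA
  by_cases hRbot : R = ⊥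
  · rw [hRbot]; exact bot_le
  by_cases hrσ : r ∈ sigma M
  · exact (le_sigmaCore_of_pgroup T.hG T.hM hrσ (hRW.trans hWM) hRr).trans le_sup_left
  · have hrp : r ≠ p := by
      rintro rfl
      have hd := (dvd_card_of_isPGroup hRr hRbot).trans (Subgroup.card_dvd_of_le hRW)
      have h1 := Nat.dvd_gcd hd (dvd_refl r)
      rw [(card_coreOf_coprime r M).gcd_eq_one] at h1
      exact hr.out.one_lt.ne' (Nat.dvd_one.mp h1)
    exact (T.centralizes_inv hrσ hrp (hRW.trans hWM) hRr hRA).trans le_sup_right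

/-- Normalizers of `P` normalize `A`. -/
theorem norm_P_le {P : Subgroup G} (hP : IsSylowIn p P M) (hAP : A ≤ P) :
    normalizer (P : Set G) ≤ normalizer (A : Set G) := by
  intro g hg
  apply mem_normalizer_of_forall
  intro x hx
  refine T.omega_P hP hAP ((mem_normalizer_iff.mp hg x).mp (hAP hx)) ?_
  rw [conj_pow, T.ea.2 x hx]; group

/-- **`M = M_σ N_M(A)`.** -/
theorem factor {m : G} (hm : m ∈ M) : ∃ s ∈ sigmaCore M, ∃ g ∈ M, g ∈ normalizer (A : Set G) ∧ m = s * g := by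
  obtain ⟨P, hP, hAP⟩ := exists_isSylowIn_ge p T.hAM T.isP
  have hl : PLengthLE p 1 M := Cfsg.Agent.S1410.result T.hG p M T.hM.1
  obtain ⟨u, hu, n, hnM, hnP, rfl⟩ := core_factor hl hP hm
  have hCM : centralizer (A : Set G) ≤ M := T.cent_le T.hM T.hAM
  have hCn : centralizer (A : Set G) ≤ normalizer (sigmaCore M : Set G) := hCM.trans le_normalizer_sigmaCore
  have hu' := T.core_le hu
  rw [sup_comm] at hu'
  obtain ⟨c, hc, s, hs, rfl⟩ := mul_of_mem_sup hCn hu'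
  refine ⟨c * s * c⁻¹, (mem_normalizer_iff.mp (hCn hc) s).mp hs, c * n, M.mul_mem (hCM hc) hnM,
    mul_mem (BGTrans.centralizer_le_normalizer A hc) (T.norm_P_le hP hAP hnP), by group⟩

/-- **(c)**: `M` normalizes `M_σ A`. -/
theorem c : M ≤ normalizer ((sigmaCore M ⊔ A : Subgroup G) : Set G) := by
  intro m hm
  apply mem_normalizer_of_forall
  intro x hx
  have hAσ : A ≤ normalizer (sigmaCore M : Set G) := T.hAM.trans le_normalizer_sigmaCore
  rw [sup_comm] at hx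
  obtain ⟨a, ha, v, hv, rfl⟩ := mul_of_mem_sup hAσ hx
  obtain ⟨s, hs, g, hgM, hgA, rfl⟩ := T.factor hm
  have hsM : s ∈ M := sigmaCore_le hs
  have hn : ∀ y ∈ M, y ∈ normalizer (sigmaCore M : Set G) := fun y hy => le_normalizer_sigmaCore hy
  have h1 : g * a * g⁻¹ ∈ A := (mem_normalizer_iff.mp hgA a).mp ha
  have h2 : (s * g) * v * (s * g)⁻¹ ∈ sigmaCore M :=
    (mem_normalizer_iff.mp (hn _ (M.mul_mem hsM hgM)) v).mp hv
  have h3 : g * a * g⁻¹ * s⁻¹ * (g * a * g⁻¹)⁻¹ ∈ sigmaCore M :=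
    (mem_normalizer_iff.mp (hAσ h1) s⁻¹).mp (inv_mem hs)
  have e : (s * g) * (a * v) * (s * g)⁻¹ =
      (s * (g * a * g⁻¹ * s⁻¹ * (g * a * g⁻¹)⁻¹)) * (g * a * g⁻¹) * ((s * g) * v * (s * g)⁻¹) := by group
  rw [e]
  exact mul_mem (mul_mem (Subgroup.mem_sup_left (mul_mem hs h3)) (Subgroup.mem_sup_right h1))
    (Subgroup.mem_sup_left h2)

end T2

end Cfsg.Agent.Lib.BGTau7
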