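import Mathlib
import Cfsg.Agent.Lib.BGTau9
import Cfsg.Agent.Lib.BGP2F

/-!
# Bender-Glauberman section 12: the hypothesis on centralizers holds.
-/

set_option autoImplicit false
set_option linter.unusedSectionVars false
set_option linter.unusedVariables false

namespace Cfsg.Agent.Lib.BGTau7

open Cfsg Subgroup

universe u

variable {G : Type u} [Group G] [Finite G]

theorem centHyp (hG : IsMinSimpleOddOrder G) : CentHyp G :=
  fun p _ A M hM hAM hAe hAc => Cfsg.Agent.Lib.BGP2F.cent_le hG hM hAM hAe hAc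

/-- The context for `p ∈ τ₂(M)`. -/
theorem T2.mk' {M A : Subgroup G} {p : ℕ} [Fact p.Prime] (hG : IsMinSimpleOddOrder G) (hM : IsCoatom M)
    (hp : p ∈ tau2 M) (hAM : A ≤ M) (hAe : IsElementaryAbelian p A) (hAc : Nat.card A = p ^ 2) :
    T2 M A p :=
  ⟨hG, centHyp hG, hM, hp, hAM, hAe, hAc⟩

end Cfsg.Agent.Lib.BGTau7
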