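import Mathlib
import Cfsg.Agent.Lib.BGTau10

/-!
# Bender-Glauberman section 12: complements `E` of `M_σ` and their `τ₂`-parts.
-/

set_option autoImplicit false
set_option linter.unusedSectionVars false
set_option linter.unusedVariables false
set_option linter.style.haveILetI false
set_option linter.unusedSimpArgs false

namespace Cfsg.Agent.Lib.BGTau7

open Cfsg Subgroup Cfsg.Agent.Lib.CoprimeInv Cfsg.Agent.Lib.BGTrans Cfsg.Agent.Lib.BGTrans2 Cfsg.Agent.Lib.BGUniq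
  Cfsg.Agent.Lib.BGUniq2 Cfsg.Agent.Lib.BGTau1 Cfsg.Agent.Lib.BGTau2
  Cfsg.Agent.Lib.BGTau3 Cfsg.Agent.Lib.BGTau4 Cfsg.Agent.Lib.BGTau5 Cfsg.Agent.Lib.BGTau6
  Cfsg.Agent.Lib.BGUT1 Cfsg.Agent.Lib.BGM1
  Cfsg.Agent.Lib.BGUniq3 Cfsg.Agent.Lib.BGSigma3 Cfsg.Agent.Lib.BGSigma4 Cfsg.Agent.Lib.BGSigma2
  Cfsg.Agent.Lib.Glauberman
open scoped commutatorElement

universe u

variable {G : Type u} [Group G] [Finite G]

namespace T2

variable {M A : Subgroup G} {p : ℕ} [hpf : Fact p.Prime] (T : T2 M A p)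
include T

/-- A complement of `M_σ` containing `A` normalizes `A`. -/
theorem compl_norm {E : Subgroup G} (hE : IsComplIn E (sigmaCore M) M) (hAE : A ≤ E) :
    E ≤ normalizer (A : Set G) := by
  intro e he
  apply mem_normalizer_of_forall
  intro a ha
  have h1 : e * a * e⁻¹ ∈ sigmaCore M ⊔ A :=
    (mem_normalizer_iff.mp (T.c (hE.1 he)) a).mp (Subgroup.mem_sup_right ha)
  have hAσ : A ≤ normalizer (sigmaCore M : Set G) := T.hAM.trans le_normalizer_sigmaCore
  rw [sup_comm] at h1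
  obtain ⟨b, hb, v, hv, h2⟩ := mul_of_mem_sup hAσ h1
  have h3 : v ∈ E := by
    have : v = b⁻¹ * (e * a * e⁻¹) := by rw [h2]; group
    rw [this]
    exact mul_mem (inv_mem (hAE hb)) (mul_mem (mul_mem he (hAE ha)) (inv_mem he))
  have h4 : v ∈ E ⊓ sigmaCore M := ⟨h3, hv⟩
  rw [hE.2.2.1] at h4
  have h5 : v = 1 := h4
  rw [h2, h5, mul_one]
  exact hb

/-- Elements of order `p` of a complement lie in `A`. -/
theorem compl_omega {E : Subgroup G} (hE : IsComplIn E (sigmaCore M) M) (hAE : A ≤ E) {x : G} (hx : x ∈ E)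
    (hxp : x ^ p = 1) : x ∈ A := by
  have hzp : IsPGroup p (zpowers x) := by
    rintro ⟨y, hy⟩
    obtain ⟨n, rfl⟩ := mem_zpowers_iff.mp hy
    refine ⟨1, Subtype.ext ?_⟩
    show (x ^ n) ^ p ^ 1 = 1
    rw [pow_one, ← zpow_natCast, ← zpow_mul, mul_comm, zpow_mul, zpow_natCast, hxp, one_zpow]
  have hsup : IsPGroup p ↥(zpowers x ⊔ A) :=
    isPGroup_sup_of_le_normalizer hzp T.isP (zpowers_le.mpr (T.compl_norm hE hAE hx))
  obtain ⟨P, hP, hle⟩ := exists_isSylowIn_ge p (sup_le (zpowers_le.mpr (hE.1 hx)) T.hAM) hsup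
  exact T.omega_P hP (le_trans le_sup_right hle) (hle (Subgroup.mem_sup_left (mem_zpowers x))) hxp

/-- `M ∩ N_G(A) = E`. -/
theorem compl_inf {E : Subgroup G} (hE : IsComplIn E (sigmaCore M) M) (hAE : A ≤ E) :
    M ⊓ normalizer (A : Set G) = E := by
  apply le_antisymm
  · rintro g ⟨hgM, hgA⟩
    obtain ⟨e, he, s, hs, rfl⟩ := hE.2.2.2 g hgM
    have heA := T.compl_norm hE hAE he
    have hsA : s ∈ normalizer (A : Set G) := by
      have : s = e⁻¹ * (e * s) := by group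
      rw [this]
      exact mul_mem (inv_mem heA) hgA
    have hsM : s ∈ M := sigmaCore_le hs
    have hsC : s ∈ centralizer (A : Set G) := by
      rw [Subgroup.mem_centralizer_iff]
      intro a ha
      have h1 : s * a * s⁻¹ ∈ A := (mem_normalizer_iff.mp hsA a).mp ha
      have h2 : a * s⁻¹ * a⁻¹ ∈ sigmaCore M :=
        (mem_normalizer_iff.mp (le_normalizer_sigmaCore (T.hAM ha)) s⁻¹).mp (inv_mem hs)
      have h3 : s * a * s⁻¹ * a⁻¹ ∈ E := mul_mem (hAE h1) (inv_mem (hAE ha))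
      have h4 : s * a * s⁻¹ * a⁻¹ ∈ sigmaCore M := by
        have e : s * a * s⁻¹ * a⁻¹ = s * (a * s⁻¹ * a⁻¹) := by group
        rw [e]
        exact mul_mem hs h2
      have h5 : s * a * s⁻¹ * a⁻¹ ∈ E ⊓ sigmaCore M := ⟨h3, h4⟩
      rw [hE.2.2.1] at h5
      have h6 : s * a * s⁻¹ * a⁻¹ = 1 := h5
      have h7 : s * a = a * s := by
        have : s * a = (s * a * s⁻¹ * a⁻¹) * (a * s) := by group
        rw [this, h6, one_mul]
      exact h7.symm
    have h8 : s ∈ sigmaCore M ⊓ centralizer (A : Set G) := ⟨hs, hsC⟩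
    rw [T.d] at h8
    have h9 : s = 1 := h8
    rw [h9, mul_one]
    exact he
  · exact le_inf hE.1 (T.compl_norm hE hAE)

/-- A subgroup of `A` of order `p` is centralized by `A`. -/
theorem le_cent_of_le {X : Subgroup G} (hX : X ≤ A) : A ≤ centralizer (X : Set G) := by
  intro a ha
  rw [Subgroup.mem_centralizer_iff]
  intro h hh
  exact T.ctx.comm (hX hh) ha

theorem cent_ne_top_of_le {X : Subgroup G} (hX : X ≠ ⊥) (hXA : X ≤ A) : centralizer (X : Set G) ≠ ⊤ := by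
  obtain ⟨x, hx, hx1⟩ := exists_mem_ne_one hX
  intro h
  apply T.ctx.cent_elem_ne_top (a := x) hx1
  rw [eq_top_iff, ← h]
  intro y hy
  rw [Subgroup.mem_centralizer_iff] at hy
  rw [Subgroup.mem_centralizer_singleton_iff]
  exact (hy x hx).symm

end T2

end Cfsg.Agent.Lib.BGTau7
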