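import Mathlib
import Cfsg.Agent.Lib.BGTau11
import Cfsg.Agent.S1414
import Cfsg.Agent.Lib.BGP3B
import Cfsg.Agent.Lib.BGM2

/-!
# Bender-Glauberman section 12: elements with `τ₂`-order fixing points of `M_σ`;
nilpotent `σ'`-subgroups of `M` are abelian.
-/

set_option autoImplicit false
set_option linter.unusedSectionVars false
set_option linter.unusedVariables false
set_option linter.style.haveILetI false
set_option linter.unusedSimpArgs false

namespace Cfsg.Agent.Lib.BGTau7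

open Cfsg Subgroup Cfsg.Agent.Lib.CoprimeInv Cfsg.Agent.Lib.BGTrans Cfsg.Agent.Lib.BGTrans2 Cfsg.Agent.Lib.BGUniq
  Cfsg.Agent.Lib.BGUniq2 Cfsg.Agent.Lib.BGTau1 Cfsg.Agent.Lib.BGTau2
  Cfsg.Agent.Lib.BGTau3 Cfsg.Agent.Lib.BGTau4 Cfsg.Agent.Lib.BGTau5 Cfsg.Agent.Lib.BGTau6
  Cfsg.Agent.Lib.BGUT1 Cfsg.Agent.Lib.BGM1
  Cfsg.Agent.Lib.BGUniq3 Cfsg.Agent.Lib.BGSigma3 Cfsg.Agent.Lib.BGSigma4 Cfsg.Agent.Lib.BGSigma2
  Cfsg.Agent.Lib.Glauberman
open scoped commutatorElement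

universe u

/-- An element of order coprime to the index of a normal subgroup lies in that subgroup. -/
theorem mem_of_coprime_index {X : Type*} [Group X] [Finite X] {N : Subgroup X} [N.Normal] {m : ℕ}
    (hm : Nat.Coprime m N.index) {x : X} (hx : x ^ m = 1) : x ∈ N := by
  have h1 : ((x : X ⧸ N)) ^ m = 1 := by
    rw [← QuotientGroup.mk_pow, hx]; rfl
  have h2 : orderOf (x : X ⧸ N) ∣ m := orderOf_dvd_of_pow_eq_one h1
  have h3 : orderOf (x : X ⧸ N) ∣ N.index := by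
    have := orderOf_dvd_natCard (x : X ⧸ N)
    rwa [← Subgroup.index_eq_card] at this
  have h4 : orderOf (x : X ⧸ N) = 1 := Nat.eq_one_of_dvd_coprimes hm h2 h3
  have h5 : (x : X ⧸ N) = 1 := orderOf_eq_one_iff.mp h4
  exact (QuotientGroup.eq_one_iff x).mp h5

/-- A finite nilpotent group with abelian Sylow subgroups is abelian. -/
theorem comm_of_nilpotent_of_sylow {X : Type*} [Group X] [Finite X] (hX : Group.IsNilpotent X)
    (h : ∀ (p : ℕ) [Fact p.Prime] (P : Sylow p X), IsMulCommutative (P : Subgroup X)) (x y : X) :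
    x * y = y * x := by
  classical
  have hnil := (Group.isNilpotent_of_finite_tfae (G := X)).out 0 4
  obtain ⟨e⟩ := hnil.mp hX
  apply e.symm.injective
  rw [map_mul, map_mul]
  funext p P
  haveI : Fact (p : ℕ).Prime := ⟨Nat.prime_of_mem_primeFactors p.2⟩
  have h1 := (h p P).is_comm.comm (e.symm x p P) (e.symm y p P)
  exact h1

variable {G : Type u} [Group G] [Finite G]

namespace T2

variable {M A : Subgroup G} {p : ℕ} [hpf : Fact p.Prime] (T : T2 M A p)
include T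

theorem conj {g : G} (hg : g ∈ M) : T2 M (cj A g) p := by
  refine T2.mk' T.hG T.hM T.hp ?_ ?_ ?_
  · have h := cj_mono T.hAM g
    rwa [cj_eq_of_mem_normalizer (le_normalizer hg)] at h
  · exact Cfsg.Agent.Lib.ThompsonJ.ea_map T.ea _
  · rw [card_cj, T.card]

/-- `A` is centralized by any element of `M` normalizing it, all of whose order's primes are at
least `p`. -/
theorem mem_cent_of_norm {x : G} (hxM : x ∈ M) (hxA : x ∈ normalizer (A : Set G))
    (hmin : ∀ r : ℕ, r.Prime → r ∣ orderOf x → p ≤ r) : x ∈ centralizer (A : Set G) := by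
  have hpp : p.Prime := hpf.out
  have hn0 : orderOf x ≠ 0 := (orderOf_pos x).ne'
  obtain ⟨k, m, hpm, hn⟩ := Nat.exists_eq_pow_mul_and_not_dvd hn0 p hpp.ne_one
  have hcop : Nat.Coprime (p ^ k) m := Nat.Coprime.pow_left k ((Nat.Prime.coprime_iff_not_dvd hpp).mpr hpm)
  have hb := Nat.gcd_eq_gcd_ab (p ^ k) m
  rw [hcop.gcd_eq_one] at hb
  set a := Nat.gcdA (p ^ k) m with ha
  set b := Nat.gcdB (p ^ k) m with hbb
  have hxn : x ^ (orderOf x : ℤ) = 1 := by
    rw [zpow_natCast, pow_orderOf_eq_one]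
  -- the parts
  set w := x ^ (((p ^ k : ℕ) : ℤ) * a) with hw
  set u := x ^ ((m : ℤ) * b) with hu
  have hxe : x = w * u := by
    rw [hw, hu, ← zpow_add]
    have : ((p ^ k : ℕ) : ℤ) * a + (m : ℤ) * b = 1 := by
      have h := hb
      push_cast at h ⊢
      linarith
    rw [this, zpow_one]
  have hmemM : ∀ z : ℤ, x ^ z ∈ M := fun z => zpow_mem hxM z
  have hmemN : ∀ z : ℤ, x ^ z ∈ normalizer (A : Set G) := fun z => zpow_mem hxA z
  have hu1 : u ^ p ^ k = 1 := by
    rw [hu, ← zpow_natCast, ← zpow_mul]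
    have : (m : ℤ) * b * ((p ^ k : ℕ) : ℤ) = (orderOf x : ℤ) * b := by
      rw [hn]; push_cast; ring
    rw [this, zpow_mul, hxn, one_zpow]
  have hw1 : w ^ m = 1 := by
    rw [hw, ← zpow_natCast, ← zpow_mul]
    have : ((p ^ k : ℕ) : ℤ) * a * (m : ℤ) = (orderOf x : ℤ) * a := by
      rw [hn]; push_cast; ring
    rw [this, zpow_mul, hxn, one_zpow]
  have huC : u ∈ centralizer (A : Set G) := T.cent_of_p_element (hmemM _) (hmemN _) hu1
  -- `w` lies in `O_{p'}(M)`
  have hidx : Nat.Coprime m (pPrimeCore p ↥M).index := by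
    apply Nat.Coprime.symm
    apply Nat.coprime_of_dvd
    intro r hr hr1 hr2
    have hle1 : r ≤ p := by
      have h14 := (Cfsg.Agent.S1414.result T.hG M T.hM).2.2.2.2 p hpp T.dvdM
        (not_beta_of_not_sigma T.hG T.hM T.notσ)
      exact h14.2.2 r hr hr1
    have hle2 : p ≤ r := hmin r hr (by rw [hn]; exact hr2.trans (Dvd.intro_left _ rfl))
    have : r = p := le_antisymm hle1 hle2
    subst this
    exact hpm hr2
  have hwcore : w ∈ coreOf p M := by
    have hw' : (⟨w, hmemM _⟩ : M) ∈ pPrimeCore p ↥M := by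
      apply mem_of_coprime_index hidx
      apply Subtype.ext
      exact hw1
    exact ⟨_, hw', rfl⟩
  have hinf : coreOf p M ⊓ A = ⊥ :=
    inf_eq_bot_of_coprime' (coprime_of_isPGroup (card_coreOf_coprime p M) T.isP)
  have hwC : w ∈ centralizer (A : Set G) := by
    rw [Subgroup.mem_centralizer_iff]
    intro a' ha'
    have h1 : w * a' * w⁻¹ ∈ A := (mem_normalizer_iff.mp (hmemN _) a').mp ha'
    have h2 : a' * w⁻¹ * a'⁻¹ ∈ coreOf p M :=
      (mem_normalizer_iff.mp (BGUniq.le_normalizer_coreOf p M (T.hAM ha')) w⁻¹).mp ((coreOf p M).inv_mem hwcore)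
    have h3 : w * a' * w⁻¹ * a'⁻¹ ∈ coreOf p M ⊓ A := by
      refine ⟨?_, A.mul_mem h1 (A.inv_mem ha')⟩
      have e : w * a' * w⁻¹ * a'⁻¹ = w * (a' * w⁻¹ * a'⁻¹) := by group
      rw [e]
      exact mul_mem hwcore h2
    rw [hinf] at h3
    have h4 : w * a' * w⁻¹ * a'⁻¹ = 1 := h3
    have h5 : w * a' = a' * w := by
      have : w * a' = (w * a' * w⁻¹ * a'⁻¹) * (a' * w) := by group
      rw [this, h4, one_mul]
    exact h5.symm
  rw [hxe]
  exact mul_mem hwC huC

end T2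

/-- **Part (d) of the `τ₂`-theorem**: an element `x ≠ 1` of `M` whose order involves only primes
of `τ₂(M)` and which has a fixed point in `M_σ` has its centralizer in `M`, and only in `M`. -/
theorem cent_of_tau2_element (hG : IsMinSimpleOddOrder G) {M : Subgroup G} (hM : IsCoatom M) {x : G}
    (hxM : x ∈ M) (hx1 : x ≠ 1) (hτ : ∀ p : ℕ, p.Prime → p ∣ orderOf x → p ∈ tau2 M)
    (hs : x ∈ sigmaHat M) :
    centralizer ({x} : Set G) ≤ M ∧ ∀ L : Subgroup G, IsCoatom L → centralizer ({x} : Set G) ≤ L → L = M := by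
  have hq1 : orderOf x ≠ 1 := by rwa [Ne, orderOf_eq_one_iff]
  set q := (orderOf x).minFac with hq
  have hqp : q.Prime := Nat.minFac_prime hq1
  haveI : Fact q.Prime := ⟨hqp⟩
  have hqτ := hτ q hqp (Nat.minFac_dvd _)
  obtain ⟨A', hA'M, hA'e, hA'c⟩ := exists_ea2 hqτ.2.2.2
  have T : T2 M A' q := T2.mk' hG hM hqτ hA'M hA'e hA'c
  have hσs : Group.IsSolvable (sigmaCore M) := IsMin.solvable hG (T.ctx.ne_top_of_le sigmaCore_le hM.1)
  have hPK : zpowers x ≤ normalizer (sigmaCore M : Set G) := zpowers_le.mpr (le_normalizer_sigmaCore hxM)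
  have hc : Nat.Coprime (Nat.card (sigmaCore M)) (Nat.card (zpowers x)) := by
    rw [Nat.card_zpowers]
    apply Nat.coprime_of_dvd
    intro r hr hr1 hr2
    exact (hτ r hr hr2).2.1 (primes_sigmaCore r hr hr1)
  obtain ⟨ω, ⟨k, hk, rfl⟩, hω⟩ := glauberman_fixed hσs hPK hc
    {ω | ∃ k ∈ sigmaCore M, ω = cj A' k}
    (by
      rintro y hy ω ⟨k, hk, rfl⟩
      have hyM : y ∈ M := (sup_le sigmaCore_le (zpowers_le.mpr hxM)) hy
      obtain ⟨s, hs, g, hgM, hgA, hsg⟩ := T.factor (M.mul_mem hyM (sigmaCore_le hk))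
      refine ⟨s, hs, ?_⟩
      rw [cj_cj, hsg, ← cj_cj, cj_eq_of_mem_normalizer hgA])
    (by
      rintro ω₁ ⟨k₁, hk₁, rfl⟩ ω₂ ⟨k₂, hk₂, rfl⟩
      refine ⟨k₂ * k₁⁻¹, mul_mem hk₂ (inv_mem hk₁), ?_⟩
      rw [cj_cj]
      congr 1
      group)
    ⟨A', 1, one_mem _, (cj_one A').symm⟩
  have T' := T.conj (sigmaCore_le hk)
  have hxn : x ∈ normalizer ((cj A' k : Subgroup G) : Set G) := hω (mem_zpowers x)
  have hxC : x ∈ centralizer ((cj A' k : Subgroup G) : Set G) :=
    T'.mem_cent_of_norm hxM hxn (fun r hr hrd => Nat.minFac_le_of_dvd hr.two_le hrd)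
  have hAX : cj A' k ≤ centralizer ({x} : Set G) := by
    intro a ha
    rw [Subgroup.mem_centralizer_singleton_iff]
    exact (Subgroup.mem_centralizer_iff.mp hxC) a ha
  have hne : sigmaCore M ⊓ centralizer ({x} : Set G) ≠ ⊥ := by
    obtain ⟨-, y, hy, hy1, hxy⟩ := hs
    intro h
    have : y ∈ sigmaCore M ⊓ centralizer ({x} : Set G) :=
      ⟨hy, Subgroup.mem_centralizer_singleton_iff.mpr hxy.symm⟩
    rw [h] at this
    exact hy1 this
  exact ⟨T'.le_of_meet hAX hne (T'.ctx.cent_elem_ne_top hx1), fun L hL hXL => T'.unique_of_meet hAX hne hL hXL⟩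

/-- Sylow subgroups of `M` for `p ∈ τ₂(M)` are abelian. -/
theorem abelian_of_tau2 (hG : IsMinSimpleOddOrder G) {M P : Subgroup G} (hM : IsCoatom M) {p : ℕ}
    [Fact p.Prime] (hp : p ∈ tau2 M) (hP : IsSylowIn p P M) : IsMulCommutative P := by
  have h1 : ¬ PRankLE p 1 P := fun h => hp.2.2.2 (BGSigma.prankLE_of_isSylowIn hP h)
  obtain ⟨A₁, hA₁P, hA₁e, hA₁c⟩ := exists_ea2 h1
  have T₁ := T2.mk' hG hM hp (hA₁P.trans hP.1) hA₁e hA₁c
  exact T₁.abelian hP hA₁P

/-- **Part (a) of the `τ₂`-theorem**. -/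
theorem nilpotent_abelian (hG : IsMinSimpleOddOrder G) {M N : Subgroup G} (hM : IsCoatom M) (hNM : N ≤ M)
    (hN : Group.IsNilpotent N) (hσ : ∀ p : ℕ, p.Prime → p ∣ Nat.card N → p ∉ sigma M) :
    IsMulCommutative N := by
  refine ⟨⟨fun x y => comm_of_nilpotent_of_sylow hN ?_ x y⟩⟩
  intro p _ P
  have hpp : p.Prime := Fact.out
  by_cases hd : p ∣ Nat.card N
  · have hpσ := hσ p hpp hd
    have hPp : IsPGroup p (P : Subgroup N) := P.isPGroup'
    set Q : Subgroup G := (P : Subgroup N).map N.subtype with hQ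
    have hQN : Q ≤ N := Subgroup.map_subtype_le _
    have hQp : IsPGroup p Q := by
      have := IsPGroup.map hPp N.subtype
      exact this
    have hcomm : IsMulCommutative Q := by
      by_cases hr : PRankLE p 1 M
      · have h2 : p ≠ 2 := prime_ne_two_of_dvd hG (hd.trans (Subgroup.card_dvd_of_le le_top |>.trans (by simp)))
        have h3 : IsCyclic Q :=
          isCyclic_of_prank_one h2 hQp (BGUniq3.prankLE_of_le (hQN.trans hNM) hr)
        infer_instance
      · have hτ : p ∈ tau2 M := ⟨hpp, hpσ, rank2_of_not_sigma hG hM hpp hpσ, hr⟩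
        obtain ⟨R, hR, hQR⟩ := exists_isSylowIn_ge p (hQN.trans hNM) hQp
        have h4 := abelian_of_tau2 hG hM hτ hR
        refine ⟨⟨?_⟩⟩
        rintro ⟨x, hx⟩ ⟨y, hy⟩
        apply Subtype.ext
        show x * y = y * x
        exact congrArg Subtype.val (h4.is_comm.comm (⟨x, hQR hx⟩ : R) ⟨y, hQR hy⟩)
    refine ⟨⟨?_⟩⟩
    rintro ⟨x, hx⟩ ⟨y, hy⟩
    apply Subtype.ext
    apply Subtype.ext
    show (x : G) * y = y * x
    exact congrArg Subtype.val (hcomm.is_comm.comm (⟨(x : G), ⟨x, hx, rfl⟩⟩ : Q) ⟨(y : G), ⟨y, hy, rfl⟩⟩)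
  · have hb : (P : Subgroup N) = ⊥ := by
      by_contra hne
      exact hd ((dvd_card_of_isPGroup (G := N) P.isPGroup' hne).trans (Subgroup.card_subgroup_dvd_card _))
    rw [hb]
    infer_instance

/-- Primes of a complement of `M_σ` are outside `σ(M)`. -/
theorem not_sigma_of_compl (hG : IsMinSimpleOddOrder G) {M E : Subgroup G} (hM : IsCoatom M)
    (hE : IsComplIn E (sigmaCore M) M) {p : ℕ} (hp : p.Prime) (hd : p ∣ Nat.card E) : p ∉ sigma M := by
  intro hσ
  haveI : Fact p.Prime := ⟨hp⟩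
  obtain ⟨x, hx⟩ := exists_prime_orderOf_dvd_card' (G := E) p hd
  have h1 : ((x : E) : G) ^ p = 1 := by
    have := pow_orderOf_eq_one x
    rw [hx] at this
    exact congrArg Subtype.val this
  have hzp : IsPGroup p (zpowers (x : G)) := by
    rintro ⟨y, hy⟩
    obtain ⟨n, rfl⟩ := mem_zpowers_iff.mp hy
    refine ⟨1, Subtype.ext ?_⟩
    show ((x : G) ^ n) ^ p ^ 1 = 1
    rw [pow_one, ← zpow_natCast, ← zpow_mul, mul_comm, zpow_mul, zpow_natCast, h1, one_zpow]
  have h2 : (x : G) ∈ sigmaCore M :=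
    le_sigmaCore_of_pgroup hG hM hσ (zpowers_le.mpr (hE.1 x.2)) hzp (mem_zpowers _)
  have h3 : (x : G) ∈ E ⊓ sigmaCore M := ⟨x.2, h2⟩
  rw [hE.2.2.1] at h3
  have h4 : (x : G) = 1 := h3
  have h5 : x = 1 := Subtype.ext h4
  rw [h5, orderOf_one] at hx
  exact hp.one_lt.ne hx

end Cfsg.Agent.Lib.BGTau7
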