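import Mathlib
import Cfsg.Agent.Lib.BGTau12
import Cfsg.Agent.S1408

/-!
# Bender-Glauberman section 12: nonabelian Sylow subgroups for `p ∈ τ₂(M)`; `τ₂(M) = {p}`.
-/

set_option autoImplicit false
set_option linter.unusedSectionVars false
set_option linter.unusedVariables false
set_option linter.style.haveILetI false
set_option linter.unusedSimpArgs false

namespace Cfsg.Agent.Lib.BGTau7

open Cfsg Subgroup Cfsg.Agent.Lib.CoprimeInv Cfsg.Agent.Lib.BGTrans Cfsg.Agent.Lib.BGTrans2 Cfsg.Agent.Lib.BGUniq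
  Cfsg.Agent.Lib.BGUniq2 Cfsg.Agent.Lib.BGTau1 Cfsg.Agent.Lib.BGTau2
  Cfsg.Agent.Lib.BGTau3 Cfsg.Agent.Lib.BGTau4 Cfsg.Agent.Lib.BGTau5 Cfsg.Agent.Lib.BGTau6
  Cfsg.Agent.Lib.BGUT1 Cfsg.Agent.Lib.BGM1
  Cfsg.Agent.Lib.BGUniq3 Cfsg.Agent.Lib.BGSigma3 Cfsg.Agent.Lib.BGSigma4 Cfsg.Agent.Lib.BGSigma2
  Cfsg.Agent.Lib.Glauberman
open scoped commutatorElement

universe u

variable {G : Type u} [Group G] [Finite G]

/-- The `p`-part and the `p'`-part of an element. -/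
theorem exists_p_part (p : ℕ) [hpf : Fact p.Prime] (x : G) :
    ∃ (w u : G) (k m : ℕ), x = w * u ∧ w ∈ zpowers x ∧ u ∈ zpowers x ∧ u ^ p ^ k = 1 ∧ w ^ m = 1 ∧ ¬ p ∣ m := by
  have hpp : p.Prime := hpf.out
  have hn0 : orderOf x ≠ 0 := (orderOf_pos x).ne'
  obtain ⟨k, m, hpm, hn⟩ := Nat.exists_eq_pow_mul_and_not_dvd hn0 p hpp.ne_one
  have hcop : Nat.Coprime (p ^ k) m := Nat.Coprime.pow_left k ((Nat.Prime.coprime_iff_not_dvd hpp).mpr hpm)
  have hb := Nat.gcd_eq_gcd_ab (p ^ k) m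
  rw [hcop.gcd_eq_one] at hb
  set a := Nat.gcdA (p ^ k) m with ha
  set b := Nat.gcdB (p ^ k) m with hbb
  have hxn : x ^ (orderOf x : ℤ) = 1 := by
    rw [zpow_natCast, pow_orderOf_eq_one]
  refine ⟨x ^ (((p ^ k : ℕ) : ℤ) * a), x ^ ((m : ℤ) * b), k, m, ?_, zpow_mem_zpowers _ _,
    zpow_mem_zpowers _ _, ?_, ?_, hpm⟩
  · rw [← zpow_add]
    have : ((p ^ k : ℕ) : ℤ) * a + (m : ℤ) * b = 1 := by
      have h := hb
      push_cast at h ⊢
      linarith
    rw [this, zpow_one]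
  · rw [← zpow_natCast, ← zpow_mul]
    have : (m : ℤ) * b * ((p ^ k : ℕ) : ℤ) = (orderOf x : ℤ) * b := by
      rw [hn]; push_cast; ring
    rw [this, zpow_mul, hxn, one_zpow]
  · rw [← zpow_natCast, ← zpow_mul]
    have : ((p ^ k : ℕ) : ℤ) * a * (m : ℤ) = (orderOf x : ℤ) * a := by
      rw [hn]; push_cast; ring
    rw [this, zpow_mul, hxn, one_zpow]

/-- An element with two coprime powers in a subgroup lies in it. -/
theorem mem_of_pow_coprime {H : Subgroup G} {w : G} {m n : ℕ} (hc : Nat.Coprime m n) (h1 : w ^ m ∈ H)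
    (h2 : w ^ n ∈ H) : w ∈ H := by
  have hb := Nat.gcd_eq_gcd_ab m n
  rw [hc.gcd_eq_one] at hb
  have e : w = (w ^ m) ^ Nat.gcdA m n * (w ^ n) ^ Nat.gcdB m n := by
    rw [← zpow_natCast, ← zpow_natCast, ← zpow_mul, ← zpow_mul, ← zpow_add, ← hb]
    simp
  rw [e]
  exact mul_mem (zpow_mem h1 _) (zpow_mem h2 _)

theorem isP_zpowers {p k : ℕ} [hpf : Fact p.Prime] {x : G} (h : x ^ p ^ k = 1) : IsPGroup p (zpowers x) := by
  rintro ⟨y, hy⟩
  obtain ⟨n, rfl⟩ := mem_zpowers_iff.mp hy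
  refine ⟨k, Subtype.ext ?_⟩
  show (x ^ n) ^ p ^ k = 1
  rw [← zpow_natCast, ← zpow_mul, mul_comm, zpow_mul, zpow_natCast, h, one_zpow]

theorem not_rank_one_of_ea {p : ℕ} [hpf : Fact p.Prime] {L A : Subgroup G} (hAL : A ≤ L)
    (hAe : IsElementaryAbelian p A) (hAc : Nat.card A = p ^ 2) : ¬ PRankLE p 1 L := by
  intro h
  rw [BGSigma.prankLE_iff] at h
  have h1 := h A hAL hAe.1 hAe.2
  rw [hAc] at h1
  have h2 := hpf.out.two_le
  have h3 : p ^ 1 < p ^ 2 := Nat.pow_lt_pow_right (by omega) (by norm_num)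
  omega

namespace T2

variable {M A : Subgroup G} {p : ℕ} [hpf : Fact p.Prime] (T : T2 M A p)
include T

/-- The data attached to a nonabelian Sylow subgroup. -/
theorem exists_nonab (hS : ∀ S : Sylow p G, ¬ IsMulCommutative (S : Subgroup G)) :
    ∃ (S : Sylow p G) (P : Subgroup G) (a z u : G) (C₀ : Subgroup G) (l : ℕ),
      IsSylowIn p P M ∧ A ≤ P ∧ P ≤ (S : Subgroup G) ∧ a ∈ A ∧ z ∈ A ∧ z ≠ 1 ∧ a ∉ zpowers z ∧
      (∀ y ∈ (S : Subgroup G), y * z = z * y) ∧ IsCyclic C₀ ∧ C₀ ≤ centralizer ({a} : Set G) ∧ z ∈ C₀ ∧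
      (∀ x ∈ C₀, x ^ p = 1 → x ∈ zpowers z) ∧
      (∀ g ∈ (S : Subgroup G), g ∈ centralizer (A : Set G) → ∃ i : ℕ, ∃ c ∈ C₀, g = a ^ i * c) ∧
      u ∈ (S : Subgroup G) ∧ u ∈ normalizer (A : Set G) ∧ u ∉ centralizer (A : Set G) ∧ u ^ p ^ l = 1 := by
  obtain ⟨P, hP, hAP⟩ := exists_isSylowIn_ge p T.hAM T.isP
  obtain ⟨S, hPS⟩ := hP.2.1.exists_le_sylow
  have hAS : A ≤ (S : Subgroup G) := hAP.trans hPS
  have hlt : P < (S : Subgroup G) := by
    refine lt_of_le_of_ne hPS ?_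
    intro h
    apply hS S
    rw [← h]
    exact T.abelian hP hAP
  obtain ⟨u, huS, huP, huN⟩ := CoprimeInv.exists_mem_normalizer_of_lt S.isPGroup' hlt
  have huA := T.norm_P_le hP hAP huN
  have huC : u ∉ centralizer (A : Set G) := by
    intro h
    have hPC := (T.central hP hAP).1
    have hR : IsPGroup p ↥((S : Subgroup G) ⊓ centralizer (A : Set G)) := S.isPGroup'.to_le inf_le_left
    have h1 := hP.2.2 _ (inf_le_right.trans (T.cent_le T.hM T.hAM)) hR (le_inf hPS hPC)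
    apply huP
    rw [← h1]
    exact ⟨huS, h⟩
  obtain ⟨a, z, C₀, ha, hz, hz1, haz, hzc, hcyc, hC₀a, hzC₀, hC₀m, hdec⟩ := T.exists_structure S hAS (hS S)
  obtain ⟨l, hl⟩ := S.isPGroup' ⟨u, huS⟩
  exact ⟨S, P, a, z, u, C₀, l, hP, hAP, hPS, ha, hz, hz1, haz, hzc, hcyc, hC₀a, hzC₀, hC₀m, hdec, huS, huA,
    huC, congrArg Subtype.val hl⟩

/-- An `A`-invariant elementary subgroup at another prime of `τ₂(M)`, and its context. -/
theorem exists_inv_ea {r : ℕ} [hrf : Fact r.Prime] (hr : r ∈ tau2 M) (hrp : r ≠ p) :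
    ∃ B : Subgroup G, T2 M B r ∧ B ≤ centralizer (A : Set G) := by
  have hG := T.hG
  obtain ⟨B', hB'M, hB'e, hB'c⟩ := exists_ea2 hr.2.2.2
  have T'' : T2 M B' r := T2.mk' hG T.hM hr hB'M hB'e hB'c
  have hσs : Group.IsSolvable (sigmaCore M) := IsMin.solvable hG (T.ctx.ne_top_of_le sigmaCore_le T.hM.1)
  have hc : Nat.Coprime (Nat.card (sigmaCore M)) (Nat.card A) := by
    apply coprime_of_isPGroup _ T.isP
    apply Nat.Coprime.symm
    rw [Nat.Prime.coprime_iff_not_dvd hpf.out]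
    intro h'
    exact T.notσ (primes_sigmaCore p hpf.out h')
  obtain ⟨ω, ⟨k, hk, rfl⟩, hω⟩ := glauberman_fixed hσs (T.hAM.trans le_normalizer_sigmaCore) hc
    {ω | ∃ k ∈ sigmaCore M, ω = cj B' k}
    (by
      rintro y hy ω ⟨k, hk, rfl⟩
      have hyM : y ∈ M := (sup_le sigmaCore_le T.hAM) hy
      obtain ⟨s, hs, g, hgM, hgA, hsg⟩ := T''.factor (M.mul_mem hyM (sigmaCore_le hk))
      refine ⟨s, hs, ?_⟩
      rw [cj_cj, hsg, ← cj_cj, cj_eq_of_mem_normalizer hgA])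
    (by
      rintro ω₁ ⟨k₁, hk₁, rfl⟩ ω₂ ⟨k₂, hk₂, rfl⟩
      refine ⟨k₂ * k₁⁻¹, mul_mem hk₂ (inv_mem hk₁), ?_⟩
      rw [cj_cj]
      congr 1
      group)
    ⟨B', 1, one_mem _, (cj_one B').symm⟩
  have T' := T''.conj (sigmaCore_le hk)
  exact ⟨_, T', T.centralizes_inv hr.2.1 hrp T'.hAM T'.isP hω⟩

/-- Moving `u` by an element of `C(A)` does not change its action on `A`. -/
theorem pow_act {k u : G} (hk : k ∈ centralizer (A : Set G)) (hu : u ∈ normalizer (A : Set G)) (n : ℕ) :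
    ∀ a ∈ A, (k * u) ^ n * a * ((k * u) ^ n)⁻¹ = u ^ n * a * (u ^ n)⁻¹ := by
  induction n with
  | zero => intro a _; simp
  | succ n ih =>
    intro a ha
    have h1 : u * a * u⁻¹ ∈ A := (mem_normalizer_iff.mp hu a).mp ha
    have h2 : k * (u * a * u⁻¹) * k⁻¹ = u * a * u⁻¹ := by
      have := (Subgroup.mem_centralizer_iff.mp hk) _ h1
      rw [← this]; group
    have e1 : (k * u) ^ (n + 1) * a * ((k * u) ^ (n + 1))⁻¹ =
        (k * u) ^ n * (k * (u * a * u⁻¹) * k⁻¹) * ((k * u) ^ n)⁻¹ := by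
      rw [pow_succ]; group
    rw [e1, h2, ih _ h1, pow_succ]
    group

/-- **`τ₂(M) = {p}`** when a Sylow `p`-subgroup is nonabelian. -/
theorem tau2_eq {S : Sylow p G} (hAS : A ≤ (S : Subgroup G)) (hna : ¬ IsMulCommutative (S : Subgroup G))
    {z u : G} (hz : z ∈ A) (hz1 : z ≠ 1) (hzc : ∀ y ∈ (S : Subgroup G), y * z = z * y)
    (huS : u ∈ (S : Subgroup G)) (huN : u ∈ normalizer (A : Set G)) (huC : u ∉ centralizer (A : Set G))
    {l : ℕ} (hul : u ^ p ^ l = 1) {r : ℕ} (hr : r ∈ tau2 M) : r = p := by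
  by_contra hrp
  have hG := T.hG
  have c := T.ctx
  have hpp : p.Prime := hpf.out
  haveI hrf : Fact r.Prime := ⟨hr.1⟩
  -- the maximal subgroup above `C(z)`
  obtain ⟨L, hL, hzL⟩ := BGTau5.exists_coatom_ge (c.cent_elem_ne_top hz1)
  have hSL : (S : Subgroup G) ≤ L := fun y hy => hzL (mem_centralizer_singleton_iff.mpr (hzc y hy))
  have hAL : A ≤ L := hAS.trans hSL
  have hSylL : IsSylowIn p (S : Subgroup G) L :=
    ⟨hSL, S.isPGroup', fun R _ hRp hSR => S.is_maximal' hRp hSR⟩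
  have hpL : p ∈ sigma L := by
    by_contra hpL
    have hτ : p ∈ tau2 L := ⟨hpp, hpL, rank2_of_not_sigma hG hL hpp hpL, not_rank_one_of_ea hAL T.ea T.card⟩
    have TL := T2.mk' hG hL hτ hAL T.ea T.card
    exact hna (TL.abelian hSylL hAS)
  -- the invariant elementary subgroup at `r`
  obtain ⟨B, T', hBC⟩ := T.exists_inv_ea hr hrp
  have hBp : (Nat.card B).Coprime p := by
    rw [T'.card]
    exact Nat.Coprime.pow_left 2 ((Nat.coprime_primes hr.1 hpp).mpr hrp)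
  have hBK : B ≤ Kp A := c.le_K hBC hBp
  have hKM : Kp A ≤ M := T.K_le T.hM T.hAM
  have hKL : Kp A ≤ L := T.K_le hL hAL
  have hKC : Kp A ≤ centralizer (A : Set G) := c.K_le_cent
  have huK : u ∈ normalizer (Kp A : Set G) :=
    normalizer_le_normalizer_piCoreOf _ _ (normalizer_le_normalizer_centralizer A huN)
  obtain ⟨R₀, hR₀, hBR₀⟩ := exists_isSylowIn_ge r hBK T'.isP
  have h1 := hR₀.cj_of_normalizer huK
  obtain ⟨k, hk, hke⟩ := hR₀.exists_conj h1
  -- the modified element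
  have hyR : k⁻¹ * u ∈ normalizer (R₀ : Set G) := by
    apply mem_normalizer_of_cj_eq
    rw [← cj_cj, hke, cj_cj_inv]
  -- `N(R₀)` normalizes `B`
  obtain ⟨Q, hQ, hR₀Q⟩ := exists_isSylowIn_ge r (hR₀.1.trans hKM) hR₀.2.1
  have hNR : normalizer (R₀ : Set G) ≤ normalizer (B : Set G) := by
    intro g hg
    apply mem_normalizer_of_forall
    intro x hx
    refine T'.omega_P hQ (hBR₀.trans hR₀Q) (hR₀Q ((mem_normalizer_iff.mp hg x).mp (hBR₀ hx))) ?_
    rw [conj_pow, T'.ea.2 x hx]; group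
  set y := k⁻¹ * u with hy
  have hk' : k⁻¹ ∈ centralizer (A : Set G) := inv_mem (hKC hk)
  have hyB : y ∈ normalizer (B : Set G) := hNR hyR
  have hyA : y ∈ normalizer (A : Set G) :=
    mul_mem (BGTrans.centralizer_le_normalizer A hk') huN
  have hyL : y ∈ L := L.mul_mem (L.inv_mem (hKL hk)) (hSL huS)
  have hyC : y ∉ centralizer (A : Set G) := by
    intro h
    apply huC
    have e : u = k * y := by rw [hy]; group
    rw [e]
    exact mul_mem (hKC hk) h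
  have hypow : y ^ p ^ l ∈ centralizer (A : Set G) := by
    rw [Subgroup.mem_centralizer_iff]
    intro a ha
    have h2 := pow_act T hk' huN (p ^ l) a ha
    rw [hul] at h2
    have h3 : y ^ p ^ l * a * (y ^ p ^ l)⁻¹ = a := by
      rw [hy, h2]; group
    have h4 : a * y ^ p ^ l = y ^ p ^ l * a := by
      have : y ^ p ^ l * a = (y ^ p ^ l * a * (y ^ p ^ l)⁻¹) * y ^ p ^ l := by group
      rw [this, h3]
    exact h4
  -- the `p`-part
  obtain ⟨w, v, j, m, hyw, hwz, hvz, hvp, hwm, hpm⟩ := exists_p_part p y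
  have hle : ∀ X : Subgroup G, y ∈ X → zpowers y ≤ X := fun X h => zpowers_le.mpr h
  have hwC : w ∈ centralizer (A : Set G) := by
    refine mem_of_pow_coprime (m := m) (n := p ^ l) ?_ ?_ ?_
    · exact Nat.Coprime.pow_right l (Nat.Coprime.symm ((Nat.Prime.coprime_iff_not_dvd hpp).mpr hpm))
    · rw [hwm]; exact one_mem _
    · obtain ⟨t, rfl⟩ := mem_zpowers_iff.mp hwz
      rw [← zpow_natCast, ← zpow_mul, mul_comm, zpow_mul, zpow_natCast]
      exact zpow_mem hypow _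
  have hvC : v ∉ centralizer (A : Set G) := by
    intro h
    apply hyC
    rw [hyw]
    exact mul_mem hwC h
  have hvL : v ∈ L := hle L hyL hvz
  have hvA : v ∈ normalizer (A : Set G) := hle _ hyA hvz
  have hvB : v ∈ normalizer (B : Set G) := hle _ hyB hvz
  have hvσ : v ∈ sigmaCore L :=
    le_sigmaCore_of_pgroup hG hL hpL (zpowers_le.mpr hvL) (isP_zpowers hvp) (mem_zpowers v)
  -- `v` centralizes `B`
  have hvCB : v ∈ centralizer (B : Set G) := by
    rw [Subgroup.mem_centralizer_iff]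
    intro b hb
    have hbL : b ∈ L := hKL (hBK hb)
    have hc1 : v * b * v⁻¹ * b⁻¹ ∈ B :=
      B.mul_mem ((mem_normalizer_iff.mp hvB b).mp hb) (B.inv_mem hb)
    have hc2 : (v * b * v⁻¹ * b⁻¹) ^ r = 1 := T'.ea.2 _ hc1
    have hc3 : v * b * v⁻¹ * b⁻¹ = 1 := by
      by_cases hrL : r ∈ sigma L
      · have hBσ : B ≤ sigmaCore L := le_sigmaCore_of_pgroup hG hL hrL (hBK.trans hKL) T'.isP
        have hβ : r ∉ beta L := fun h =>
          (Cfsg.Agent.S1408.result hG M T.hM r hr.2.1 hr.2.2.1 hr.2.2.2).1 h.2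
        have hrdL : r ∣ Nat.card L := hrL.2.1
        obtain ⟨-, ⟨P₀, N₀, hN₀, hcompl⟩, -⟩ := (Cfsg.Agent.S1414.result hG L hL).2.2.2.2 r hr.1 hrdL hβ
        have hidx : N₀.index = Nat.card (P₀ : Subgroup ↥(sigmaCore L)) :=
          hcompl.symm.index_eq_card
        have hcardN : ¬ r ∣ Nat.card N₀ := by
          have h2 := P₀.not_dvd_index
          rwa [hcompl.index_eq_card] at h2
        have hpidx : ¬ p ∣ N₀.index := by
          rw [hidx]
          intro hd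
          obtain ⟨t, ht⟩ := IsPGroup.iff_card.mp P₀.isPGroup'
          rw [ht] at hd
          exact hrp ((Nat.prime_dvd_prime_iff_eq hpp hr.1).mp (hpp.dvd_of_dvd_pow hd)).symm
        have hvN : (⟨v, hvσ⟩ : sigmaCore L) ∈ N₀ :=
          mem_of_not_dvd_index (q := p) (k := j) hpidx (Subtype.ext hvp)
        have hcN : (⟨v, hvσ⟩ : sigmaCore L) * ⟨b, hBσ hb⟩ * (⟨v, hvσ⟩ : sigmaCore L)⁻¹ * (⟨b, hBσ hb⟩ : sigmaCore L)⁻¹ ∈ N₀ := by
          have e : (⟨v, hvσ⟩ : sigmaCore L) * ⟨b, hBσ hb⟩ * (⟨v, hvσ⟩ : sigmaCore L)⁻¹ * (⟨b, hBσ hb⟩ : sigmaCore L)⁻¹ =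
              (⟨v, hvσ⟩ : sigmaCore L) * (⟨b, hBσ hb⟩ * (⟨v, hvσ⟩ : sigmaCore L)⁻¹ * (⟨b, hBσ hb⟩ : sigmaCore L)⁻¹) := by group
          rw [e]
          exact N₀.mul_mem hvN (hN₀.conj_mem _ (N₀.inv_mem hvN) _)
        by_contra hne
        have hord : orderOf ((⟨v, hvσ⟩ : sigmaCore L) * ⟨b, hBσ hb⟩ * (⟨v, hvσ⟩ : sigmaCore L)⁻¹ * (⟨b, hBσ hb⟩ : sigmaCore L)⁻¹) = r := by
          refine orderOf_eq_prime (Subtype.ext hc2) ?_
          intro h
          exact hne (congrArg Subtype.val h)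
        apply hcardN
        rw [← hord]
        exact Subgroup.orderOf_dvd_natCard _ hcN
      · by_contra hne
        have hcσ : v * b * v⁻¹ * b⁻¹ ∈ sigmaCore L := by
          have e : v * b * v⁻¹ * b⁻¹ = v * (b * v⁻¹ * b⁻¹) := by group
          rw [e]
          exact mul_mem hvσ ((mem_normalizer_iff.mp (le_normalizer_sigmaCore hbL) v⁻¹).mp (inv_mem hvσ))
        have hord : orderOf (v * b * v⁻¹ * b⁻¹) = r := orderOf_eq_prime hc2 hne
        have hd : r ∣ Nat.card (sigmaCore L) := by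
          rw [← hord]
          exact Subgroup.orderOf_dvd_natCard _ hcσ
        exact hrL (primes_sigmaCore r hr.1 hd)
    have h5 : v * b = b * v := by
      have : v * b = (v * b * v⁻¹ * b⁻¹) * (b * v) := by group
      rw [this, hc3, one_mul]
    exact h5.symm
  have hvM : v ∈ M := T'.cent_le T.hM T'.hAM hvCB
  exact hvC (T.cent_of_p_element hvM hvA hvp)

end T2

end Cfsg.Agent.Lib.BGTau7
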