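import Mathlib
import Cfsg.Agent.Lib.BGTau13
import Cfsg.Agent.Lib.BGFit2
import Cfsg.Agent.Lib.BGFix

/-!
# Bender-Glauberman section 12: nonabelian Sylow subgroups for `p ∈ τ₂(M)`; the line fixing `M_σ`,
and the Fitting subgroup of `M`.
-/

set_option autoImplicit false
set_option linter.unusedSectionVars false
set_option linter.unusedVariables false
set_option linter.style.haveILetI false
set_option linter.unusedSimpArgs false

namespace Cfsg.Agent.Lib.BGTau7

open Cfsg Subgroup Cfsg.Agent.Lib.CoprimeInv Cfsg.Agent.Lib.BGTrans Cfsg.Agent.Lib.BGTrans2 Cfsg.Agent.Lib.BGUniq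
  Cfsg.Agent.Lib.BGUniq2 Cfsg.Agent.Lib.BGTau1 Cfsg.Agent.Lib.BGTau2
  Cfsg.Agent.Lib.BGTau3 Cfsg.Agent.Lib.BGTau4 Cfsg.Agent.Lib.BGTau5 Cfsg.Agent.Lib.BGTau6
  Cfsg.Agent.Lib.BGUT1 Cfsg.Agent.Lib.BGM1
  Cfsg.Agent.Lib.BGUniq3 Cfsg.Agent.Lib.BGSigma3 Cfsg.Agent.Lib.BGSigma4 Cfsg.Agent.Lib.BGSigma2
  Cfsg.Agent.Lib.Glauberman Cfsg.Agent.Lib.BGFit2
open scoped commutatorElement

universe u

variable {G : Type u} [Group G] [Finite G]

theorem cent_eq_of_zpowers_eq {x y : G} (h : zpowers x = zpowers y) :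
    centralizer ({x} : Set G) = centralizer ({y} : Set G) := by
  rw [← centralizer_zpowers' x, ← centralizer_zpowers' y, h]

theorem zpowers_eq_of_mem {p : ℕ} [hpf : Fact p.Prime] {a b : G} (hb : b ^ p = 1) (ha1 : a ≠ 1)
    (hab : a ∈ zpowers b) : zpowers a = zpowers b := by
  apply Subgroup.eq_of_le_of_card_ge (zpowers_le.mpr hab)
  rw [Nat.card_zpowers, Nat.card_zpowers]
  have hb1 : b ≠ 1 := by
    rintro rfl
    apply ha1
    simpa using hab
  have ha : a ^ p = 1 := by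
    obtain ⟨n, rfl⟩ := mem_zpowers_iff.mp hab
    rw [← zpow_natCast, ← zpow_mul, mul_comm, zpow_mul, zpow_natCast, hb, one_zpow]
  rw [orderOf_eq_prime hb hb1, orderOf_eq_prime ha ha1]

theorem pCoreOf_le_of_isSylowIn {u : ℕ} [Fact u.Prime] {M Q : Subgroup G} (hQ : IsSylowIn u Q M) :
    pCoreOf u M ≤ Q := by
  rintro _ ⟨x, hx, rfl⟩
  have h1 := Cfsg.Agent.Lib.PCore.pCore_le_sylow u hQ.toSylow hx
  exact h1

/-- If `M` has `u`-rank one and `u ∉ σ(M)` then `O_u(M) = 1`. -/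
theorem pCoreOf_eq_bot_of_rank_one (hG : IsMinSimpleOddOrder G) {M : Subgroup G} (hM : IsCoatom M) {u : ℕ}
    [hu : Fact u.Prime] (huσ : u ∉ sigma M) (hr : PRankLE u 1 M) : pCoreOf u M = ⊥ := by
  by_contra hne
  obtain ⟨Q, hQ⟩ := exists_isSylowIn u M
  have hVQ : pCoreOf u M ≤ Q := pCoreOf_le_of_isSylowIn hQ
  have hd : u ∣ Nat.card (pCoreOf u M) := dvd_card_of_isPGroup (isPGroup_pCoreOf u M) hne
  have hdG : u ∣ Nat.card G := hd.trans (Subgroup.card_subgroup_dvd_card _)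
  have h2 : u ≠ 2 := prime_ne_two_of_dvd hG hdG
  have hQc : IsCyclic Q := isCyclic_of_prank_one h2 hQ.2.1 (BGUniq3.prankLE_of_le hQ.1 hr)
  obtain ⟨x₀, hx₀⟩ := exists_prime_orderOf_dvd_card' (G := pCoreOf u M) u hd
  have hx : orderOf (x₀ : G) = u := by rw [Subgroup.orderOf_coe, hx₀]
  have hxV : (x₀ : G) ∈ pCoreOf u M := x₀.2
  have hxp : (x₀ : G) ^ u = 1 := by
    have := pow_orderOf_eq_one (x₀ : G)
    rwa [hx] at this
  have hmem : ∀ d ∈ Q, d ^ u = 1 → d ∈ zpowers (x₀ : G) := fun d hd hdu =>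
    mem_zpowers_of_cyclic hQc hu.out (hVQ hxV) hd hx hdu
  have hpow : ∀ y ∈ zpowers (x₀ : G), y ^ u = 1 := by
    intro y hy
    obtain ⟨n, rfl⟩ := mem_zpowers_iff.mp hy
    rw [← zpow_natCast, ← zpow_mul, mul_comm, zpow_mul, zpow_natCast, hxp, one_zpow]
  have hNQ : normalizer (Q : Set G) ≤ normalizer ((zpowers (x₀ : G) : Subgroup G) : Set G) := by
    intro g hg
    apply mem_normalizer_of_forall
    intro y hy
    refine hmem _ ((mem_normalizer_iff.mp hg y).mp ?_) ?_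
    · exact hVQ ((zpowers_le.mpr hxV) hy)
    · rw [conj_pow, hpow y hy]; group
  have hMN : M ≤ normalizer ((zpowers (x₀ : G) : Subgroup G) : Set G) := by
    intro g hg
    apply mem_normalizer_of_forall
    intro y hy
    refine hmem _ (hVQ ((mem_normalizer_iff.mp (le_normalizer_pCoreOf u M hg) y).mp ((zpowers_le.mpr hxV) hy))) ?_
    rw [conj_pow, hpow y hy]; group
  have hne1 : zpowers (x₀ : G) ≠ ⊥ := by
    intro h
    rw [zpowers_eq_bot] at h
    rw [h, orderOf_one] at hx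
    exact hu.out.one_lt.ne hx
  have hzp : IsPGroup u (zpowers (x₀ : G)) := isPGroup_zpowers_of_pow hxp
  have hNt : normalizer ((zpowers (x₀ : G) : Subgroup G) : Set G) ≠ ⊤ :=
    IsMin.normalizer_ne_top hG hne1 (IsMin.isPGroup_ne_top hG hzp)
  have hNM : normalizer ((zpowers (x₀ : G) : Subgroup G) : Set G) ≤ M := by
    by_contra h
    have hlt : M < normalizer ((zpowers (x₀ : G) : Subgroup G) : Set G) :=
      lt_of_le_of_ne hMN (fun e => h (e ▸ le_refl _))
    exact hNt (hM.2 _ hlt)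
  have hdM : u ∣ Nat.card M := hd.trans (Subgroup.card_dvd_of_le (pCoreOf_le u M))
  exact huσ (mem_sigma_of hQ hdM (hNQ.trans hNM))

namespace T2

variable {M A : Subgroup G} {p : ℕ} [hpf : Fact p.Prime] (T : T2 M A p)
include T

/-- Conjugate lines: a line with centralizer in `M` is the one attached to `x`, if `C(x)` lies
only in `M`. -/
theorem line_mem {z u : G} (hz : z ∈ A) (hz1 : z ≠ 1) (huz : u * z = z * u)
    (huN : u ∈ normalizer (A : Set G)) (huC : u ∉ centralizer (A : Set G)) {l : ℕ} (hul : u ^ p ^ l = 1)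
    {x x' : G} (hx : x ∈ A) (hxz : x ∉ zpowers z) (hx' : x' ∈ A) (hx'z : x' ∉ zpowers z)
    (hU : ∀ L : Subgroup G, IsCoatom L → centralizer ({x} : Set G) ≤ L → L = M)
    (hle : centralizer ({x'} : Set G) ≤ M) : x' ∈ zpowers x := by
  obtain ⟨n, hn⟩ := transvection T.ea T.card huN hul hz hz1 huz huC hx hxz hx' hx'z
  set v := u ^ n with hv
  have hCe := cent_eq_of_zpowers_eq hn
  have h1 : centralizer ({x} : Set G) ≤ cj M v⁻¹ := by
    intro y hy
    rw [mem_cj, inv_inv]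
    apply hle
    rw [← hCe, Subgroup.mem_centralizer_singleton_iff]
    have h2 : y * x = x * y := Subgroup.mem_centralizer_singleton_iff.mp hy
    have e1 : v * y * v⁻¹ * (v * x * v⁻¹) = v * (y * x) * v⁻¹ := by group
    have e2 : v * x * v⁻¹ * (v * y * v⁻¹) = v * (x * y) * v⁻¹ := by group
    rw [e1, e2, h2]
  have h2 := hU _ (BGUniq3.isCoatom_cj T.hM v⁻¹) h1
  have h3 : v⁻¹ ∈ normalizer (M : Set G) := mem_normalizer_of_cj_eq h2
  rw [norm_eq_self T.hG T.hM T.M_ne_bot] at h3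
  have h4 : v ∈ M := by simpa using M.inv_mem h3
  have hvN : v ∈ normalizer (A : Set G) := pow_mem huN n
  have hvp : v ^ p ^ l = 1 := by rw [hv, ← pow_mul, mul_comm, pow_mul, hul, one_pow]
  have h5 := T.cent_of_p_element h4 hvN hvp
  have h6 : v * x * v⁻¹ = x := by
    have := (Subgroup.mem_centralizer_iff.mp h5) x hx
    rw [← this]; group
  rw [h6] at hn
  rw [hn]
  exact mem_zpowers x'

/-- **The line fixing `M_σ`.** -/
theorem exists_fixed_line {z u : G} (hz : z ∈ A) (hz1 : z ≠ 1) (huz : u * z = z * u)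
    (huN : u ∈ normalizer (A : Set G)) (huC : u ∉ centralizer (A : Set G)) {l : ℕ} (hul : u ^ p ^ l = 1) :
    ∃ a₀ ∈ A, a₀ ≠ 1 ∧ a₀ ∉ zpowers z ∧ sigmaCore M ≤ centralizer ({a₀} : Set G) ∧
      (∀ x ∈ A, x ∉ zpowers a₀ → sigmaCore M ⊓ centralizer ({x} : Set G) = ⊥) ∧
      (∀ x ∈ A, x ∉ zpowers a₀ → ¬ centralizer ({x} : Set G) ≤ M) := by
  have c := T.ctx
  have hG := T.hG
  have hσne := sigmaCore_ne_bot hG T.hM T.M_ne_bot
  have hn : A ≤ normalizer (sigmaCore M : Set G) := T.hAM.trans le_normalizer_sigmaCore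
  have hcop : Nat.Coprime (Nat.card A) (Nat.card (sigmaCore M)) := by
    apply Nat.Coprime.symm
    apply coprime_of_isPGroup _ T.isP
    apply Nat.Coprime.symm
    rw [Nat.Prime.coprime_iff_not_dvd hpf.out]
    intro h'
    exact T.notσ (primes_sigmaCore p hpf.out h')
  have hzfree : ∀ x ∈ A, x ∈ zpowers z → ¬ centralizer ({x} : Set G) ≤ M := by
    intro x hx hxz h
    have h1 : u ∈ centralizer ({x} : Set G) := by
      rw [Subgroup.mem_centralizer_singleton_iff]
      obtain ⟨n, rfl⟩ := mem_zpowers_iff.mp hxz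
      exact ((Commute.zpow_right (show Commute u z from huz)) n)
    exact huC (T.cent_of_p_element (h h1) huN hul)
  have hF : ∀ x ∈ A, x ≠ 1 → sigmaCore M ⊓ centralizer ({x} : Set G) ≠ ⊥ → centralizer ({x} : Set G) ≤ M :=
    fun x hx hx1 h => T.le_of_meet (c.le_cent_elem hx) h (c.cent_elem_ne_top hx1)
  obtain ⟨a₀, ha₀, ha₀1, hF₀⟩ := exists_line T.ea T.card hn hcop hσne
  have ha₀z : a₀ ∉ zpowers z := fun h => hzfree a₀ ha₀ h (hF a₀ ha₀ ha₀1 hF₀)
  have hU₀ : ∀ L : Subgroup G, IsCoatom L → centralizer ({a₀} : Set G) ≤ L → L = M :=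
    fun L hL hXL => T.unique_of_meet (c.le_cent_elem ha₀) hF₀ hL hXL
  have hnot : ∀ x ∈ A, x ∉ zpowers a₀ → ¬ centralizer ({x} : Set G) ≤ M := by
    intro x hx hxa h
    by_cases hxz : x ∈ zpowers z
    · exact hzfree x hx hxz h
    · exact hxa (T.line_mem hz hz1 huz huN huC hul ha₀ ha₀z hx hxz hU₀ h)
  have hfree : ∀ x ∈ A, x ∉ zpowers a₀ → sigmaCore M ⊓ centralizer ({x} : Set G) = ⊥ := by
    intro x hx hxa
    by_contra h
    have hx1 : x ≠ 1 := fun h1 => hxa (h1 ▸ one_mem _)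
    exact hnot x hx hxa (hF x hx hx1 h)
  refine ⟨a₀, ha₀, ha₀1, ha₀z, ?_, hfree, hnot⟩
  refine le_of_lines T.ea T.card hn hcop ?_
  intro a ha ha1
  by_cases haa : a ∈ zpowers a₀
  · rw [cent_eq_of_zpowers_eq (zpowers_eq_of_mem (T.ea.2 a₀ ha₀) ha1 haa)]
    exact inf_le_right
  · rw [hfree a ha haa]
    exact bot_le

/-- `A ∩ C(M_σ)` is the fixed line. -/
theorem inf_cent_eq {a₀ : G} (ha₀ : a₀ ∈ A) (hσle : sigmaCore M ≤ centralizer ({a₀} : Set G))
    (hfree : ∀ x ∈ A, x ∉ zpowers a₀ → sigmaCore M ⊓ centralizer ({x} : Set G) = ⊥) :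
    A ⊓ centralizer (sigmaCore M : Set G) = zpowers a₀ := by
  apply le_antisymm
  · rintro y ⟨hyA, hyC⟩
    by_contra hya
    have h1 := hfree y hyA hya
    have h2 : sigmaCore M ≤ centralizer ({y} : Set G) := by
      intro s hs
      rw [Subgroup.mem_centralizer_singleton_iff]
      exact (Subgroup.mem_centralizer_iff.mp hyC) s hs
    rw [inf_eq_left.mpr h2] at h1
    exact sigmaCore_ne_bot T.hG T.hM T.M_ne_bot h1
  · rw [zpowers_le]
    refine ⟨ha₀, ?_⟩
    show a₀ ∈ centralizer (sigmaCore M : Set G)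
    rw [Subgroup.mem_centralizer_iff]
    intro s hs
    exact Subgroup.mem_centralizer_singleton_iff.mp (hσle hs)

/-- The fixed line is normal in `M`. -/
theorem line_normal {a₀ : G} (hA₀ : A ⊓ centralizer (sigmaCore M : Set G) = zpowers a₀) {m y : G} (hm : m ∈ M)
    (hy : y ∈ zpowers a₀) : m * y * m⁻¹ ∈ zpowers a₀ := by
  rw [← hA₀] at hy ⊢
  obtain ⟨hyA, hyC⟩ := hy
  have hAσ : A ≤ normalizer (sigmaCore M : Set G) := T.hAM.trans le_normalizer_sigmaCore
  have h1 : m * y * m⁻¹ ∈ sigmaCore M ⊔ A :=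
    (mem_normalizer_iff.mp (T.c hm) y).mp (Subgroup.mem_sup_right hyA)
  have h2 : m * y * m⁻¹ ∈ centralizer (sigmaCore M : Set G) :=
    (mem_normalizer_iff.mp (normalizer_le_normalizer_centralizer _ (le_normalizer_sigmaCore hm)) y).mp hyC
  have h3 : (m * y * m⁻¹) ^ p = 1 := by
    rw [conj_pow, T.ea.2 y hyA]; group
  rw [sup_comm] at h1
  obtain ⟨a', ha', s, hs, he⟩ := mul_of_mem_sup hAσ h1
  rw [he] at h2 h3
  have h4 : s * (a' * s) = (a' * s) * s := (Subgroup.mem_centralizer_iff.mp h2) s hs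
  have h5 : s * a' = a' * s := by
    have : s * (a' * s) = (s * a') * s := by group
    rw [this] at h4
    exact mul_right_cancel h4
  have h6 : (a' * s) ^ p = a' ^ p * s ^ p := (show Commute a' s from h5.symm).mul_pow p
  rw [h6, T.ea.2 a' ha', one_mul] at h3
  have hs1 : s = 1 := by
    by_contra hne
    have hord : orderOf s = p := orderOf_eq_prime h3 hne
    have hd : p ∣ Nat.card (sigmaCore M) := by
      rw [← hord]
      exact Subgroup.orderOf_dvd_natCard _ hs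
    exact T.notσ (primes_sigmaCore p hpf.out hd)
  have h7 : m * y * m⁻¹ = a' := by rw [he, hs1, mul_one]
  rw [h7]
  rw [hs1, mul_one] at h2
  exact ⟨ha', h2⟩

/-- `O_p(M)` is the fixed line, at most. -/
theorem pCoreOf_le_line {S : Sylow p G} {P : Subgroup G} (hP : IsSylowIn p P M) (hAP : A ≤ P)
    (hPS : P ≤ (S : Subgroup G)) {a z a₀ : G} {C₀ : Subgroup G} (hC₀a : C₀ ≤ centralizer ({a} : Set G))
    (ha : a ∈ A) (hC₀m : ∀ x ∈ C₀, x ^ p = 1 → x ∈ zpowers z)
    (hdec : ∀ g ∈ (S : Subgroup G), g ∈ centralizer (A : Set G) → ∃ i : ℕ, ∃ c ∈ C₀, g = a ^ i * c)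
    (ha₀ : a₀ ∈ A) (ha₀z : a₀ ∉ zpowers z)
    (hfree : ∀ x ∈ A, x ∉ zpowers a₀ → sigmaCore M ⊓ centralizer ({x} : Set G) = ⊥) :
    pCoreOf p M ≤ zpowers a₀ := by
  have hDP : pCoreOf p M ≤ P := pCoreOf_le_of_isSylowIn hP
  have hPC := (T.central hP hAP).1
  have hDM : pCoreOf p M ≤ M := pCoreOf_le p M
  have hDp := isPGroup_pCoreOf p M
  have hinf : sigmaCore M ⊓ pCoreOf p M = ⊥ := by
    apply inf_eq_bot_of_coprime'
    apply coprime_of_isPGroup _ hDp
    apply Nat.Coprime.symm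
    rw [Nat.Prime.coprime_iff_not_dvd hpf.out]
    intro h'
    exact T.notσ (primes_sigmaCore p hpf.out h')
  have step1 : ∀ d ∈ pCoreOf p M, d ^ p = 1 → d ∈ zpowers a₀ := by
    intro d hd hdp
    have hdA : d ∈ A := T.omega_P hP hAP (hDP hd) hdp
    by_contra hda
    have h1 := hfree d hdA hda
    have h2 : sigmaCore M ≤ centralizer ({d} : Set G) := by
      intro s hs
      rw [Subgroup.mem_centralizer_singleton_iff]
      have h3 : s * d * s⁻¹ * d⁻¹ ∈ sigmaCore M ⊓ pCoreOf p M := by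
        constructor
        · have e : s * d * s⁻¹ * d⁻¹ = s * (d * s⁻¹ * d⁻¹) := by group
          rw [e]
          exact (sigmaCore M).mul_mem hs
            ((mem_normalizer_iff.mp (le_normalizer_sigmaCore (hDM hd)) s⁻¹).mp ((sigmaCore M).inv_mem hs))
        · exact (pCoreOf p M).mul_mem
            ((mem_normalizer_iff.mp (le_normalizer_pCoreOf p M (sigmaCore_le hs)) d).mp hd)
            ((pCoreOf p M).inv_mem hd)
      rw [hinf] at h3
      have h4 : s * d * s⁻¹ * d⁻¹ = 1 := h3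
      have : s * d = (s * d * s⁻¹ * d⁻¹) * (d * s) := by group
      rw [this, h4, one_mul]
    rw [inf_eq_left.mpr h2] at h1
    exact sigmaCore_ne_bot T.hG T.hM T.M_ne_bot h1
  have step2 : ∀ d ∈ pCoreOf p M, (d ^ p) ^ p = 1 → d ^ p = 1 := by
    intro d hd hdp
    by_contra hne
    have h1 : d ^ p ∈ pCoreOf p M := pow_mem hd p
    have h2 := step1 _ h1 hdp
    obtain ⟨i, c, hc, he⟩ := hdec d (hPS (hDP hd)) (hPC (hDP hd))
    have hca : Commute c a := Subgroup.mem_centralizer_singleton_iff.mp (hC₀a hc)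
    have h3 : d ^ p = c ^ p := by
      rw [he, ((hca.symm.pow_left i).mul_pow p), ← pow_mul, mul_comm i p, pow_mul, T.ea.2 a ha, one_pow, one_mul]
    have h4 : d ^ p ∈ zpowers z := by
      rw [h3]
      exact hC₀m _ (pow_mem hc p) (by rw [← h3]; exact hdp)
    have h5 := zpowers_eq_of_mem (T.ea.2 a₀ ha₀) hne h2
    apply ha₀z
    have h6 : a₀ ∈ zpowers (d ^ p) := by
      rw [h5]
      exact mem_zpowers a₀
    exact (zpowers_le.mpr h4) h6
  have step3 : ∀ k : ℕ, ∀ d ∈ pCoreOf p M, d ^ p ^ k = 1 → d ^ p = 1 := by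
    intro k
    induction k with
    | zero =>
      intro d hd h
      rw [pow_zero, pow_one] at h
      rw [h, one_pow]
    | succ k ih =>
      intro d hd h
      apply step2 d hd
      apply ih _ (pow_mem hd p)
      rw [← pow_mul, ← pow_succ', h]
  intro d hd
  obtain ⟨k, hk⟩ := hDp ⟨d, hd⟩
  exact step1 d hd (step3 k d hd (congrArg Subtype.val hk))

/-- **The Fitting subgroup of `M`.** -/
theorem fitting_eq {a₀ : G} (hτ : ∀ r : ℕ, r ∈ tau2 M → r = p) (ha₀ : a₀ ∈ A)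
    (hA₀ : A ⊓ centralizer (sigmaCore M : Set G) = zpowers a₀) (hDle : pCoreOf p M ≤ zpowers a₀) :
    fittingOf M = sigmaCore M ⊔ zpowers a₀ := by
  have hG := T.hG
  apply le_antisymm
  · apply fittingOf_le_of_pCoreOf
    intro u hu
    by_cases huσ : u ∈ sigma M
    · exact (le_sigmaCore_of_pgroup hG T.hM huσ (pCoreOf_le u M) (isPGroup_pCoreOf u M)).trans le_sup_left
    by_cases hup : u = p
    · subst hup
      exact hDle.trans le_sup_right
    · have hr : PRankLE u 1 M := by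
        by_contra h
        exact hup (hτ u ⟨hu.out, huσ, rank2_of_not_sigma hG T.hM hu.out huσ, h⟩)
      rw [pCoreOf_eq_bot_of_rank_one hG T.hM huσ hr]
      exact bot_le
  · refine sup_le ?_ ?_
    · refine Cfsg.Agent.Lib.BGFix.le_fittingOf M _ sigmaCore_le ?_ T.nilpotent
      intro k hk l hl
      exact (mem_normalizer_iff.mp (le_normalizer_sigmaCore hk) l).mp hl
    · refine Cfsg.Agent.Lib.BGFix.le_fittingOf M _ (zpowers_le.mpr (T.hAM ha₀)) ?_ ?_
      · intro k hk l hl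
        exact T.line_normal hA₀ hk hl
      · exact (isPGroup_zpowers_of_pow (T.ea.2 a₀ ha₀)).isNilpotent

end T2

end Cfsg.Agent.Lib.BGTau7
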