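import Mathlib
import Cfsg.Agent.Lib.BGTau14
import Cfsg.Agent.Lib.FitPair
import Cfsg.Agent.Lib.BGFit5

/-!
# Bender-Glauberman: primes outside `σ(M) ∪ κ(M)`; elements of prime order acting freely.
-/

set_option autoImplicit false
set_option linter.unusedSectionVars false
set_option linter.unusedVariables false
set_option linter.style.haveILetI false
set_option linter.unusedSimpArgs false

namespace Cfsg.Agent.Lib.BGTau7

open Cfsg Subgroup Cfsg.Agent.Lib.CoprimeInv Cfsg.Agent.Lib.BGTrans Cfsg.Agent.Lib.BGTrans2 Cfsg.Agent.Lib.BGUniq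
  Cfsg.Agent.Lib.BGUniq2 Cfsg.Agent.Lib.BGTau1 Cfsg.Agent.Lib.BGTau2
  Cfsg.Agent.Lib.BGTau3 Cfsg.Agent.Lib.BGTau4 Cfsg.Agent.Lib.BGTau5 Cfsg.Agent.Lib.BGTau6
  Cfsg.Agent.Lib.BGUT1 Cfsg.Agent.Lib.BGM1
  Cfsg.Agent.Lib.BGUniq3 Cfsg.Agent.Lib.BGSigma3 Cfsg.Agent.Lib.BGSigma4 Cfsg.Agent.Lib.BGSigma2
  Cfsg.Agent.Lib.Glauberman Cfsg.Agent.Lib.BGFit2
open scoped commutatorElement

universe u

variable {G : Type u} [Group G] [Finite G]

/-- **Thompson's theorem**, for an element of prime order normalizing a subgroup with no fixed points. -/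
theorem nilpotent_of_fpf {p : ℕ} [hpf : Fact p.Prime] {Y : Subgroup G} {x : G}
    (hxn : x ∈ normalizer (Y : Set G)) (hxp : x ^ p = 1) (hne : Y ≠ ⊥) (hfree : Y ⊓ centralizer ({x} : Set G) = ⊥) :
    Group.IsNilpotent Y := by
  let φ : MulAut Y := Y.normalizerMonoidHom ⟨x, hxn⟩
  have hφ : ∀ y : Y, ((φ y : Y) : G) = x * (y : G) * x⁻¹ := fun y => rfl
  have hfp : MonoidHom.FixedPointFree (φ : Y →* Y) := by
    intro y hy
    have h1 : x * (y : G) * x⁻¹ = y := by
      rw [← hφ]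
      exact congrArg Subtype.val hy
    have h2 : (y : G) ∈ Y ⊓ centralizer ({x} : Set G) := by
      refine ⟨y.2, Subgroup.mem_centralizer_singleton_iff.mpr ?_⟩
      calc (y : G) * x = x * (y : G) * x⁻¹ * x := by rw [h1]
        _ = x * y := by group
    rw [hfree, Subgroup.mem_bot] at h2
    exact Subtype.ext h2
  have hφ1 : φ ≠ 1 := by
    intro h
    obtain ⟨y, hy, hy1⟩ := exists_mem_ne_one hne
    apply hy1
    have h1 := hfp ⟨y, hy⟩ (by rw [show (φ : Y →* Y) = ((1 : MulAut Y) : Y →* Y) from by rw [h]]; rfl)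
    exact congrArg Subtype.val h1
  have hφp : φ ^ p = 1 := by
    ext y
    have h1 : ∀ n : ℕ, (((φ ^ n) y : Y) : G) = x ^ n * (y : G) * (x ^ n)⁻¹ := by
      intro n
      induction n generalizing y with
      | zero => simp
      | succ n ih =>
        rw [pow_succ, MulAut.mul_apply, ih, hφ, pow_succ]
        group
    rw [h1, hxp]
    simp
  have hord : orderOf φ = p := orderOf_eq_prime hφp hφ1
  exact Cfsg.Agent.S0033.result φ hfp p hpf.out hord

/-- **Primes outside `σ(M) ∪ κ(M)`, cyclic case.** -/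
theorem free_of_not_kappa {M S : Subgroup G} {p : ℕ} [hpf : Fact p.Prime] (hSM : IsSylowIn p S M)
    (hd : p ∣ Nat.card M) (hσ : p ∉ sigma M) (hκ : p ∉ kappa M) (hr : ∀ P : Sylow p M, IsCyclic P) {x y : G}
    (hx : x ∈ S) (hx1 : x ≠ 1) (hy : y ∈ sigmaCore M) (hy1 : y ≠ 1) : x * y ≠ y * x := by
  intro hxy
  apply hκ
  refine ⟨hpf.out, hd, hσ, fun P => ⟨hr P, ?_⟩⟩
  obtain ⟨m, hm, he⟩ := hSM.exists_conj (isSylowIn_map P)
  have h1 : m * x * m⁻¹ ∈ (P : Subgroup M).map M.subtype := by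
    rw [he]
    exact conj_mem_cj hx
  obtain ⟨x₁, hx₁, hx₁e⟩ := h1
  have hxe : (x₁ : G) = m * x * m⁻¹ := hx₁e
  refine ⟨x₁, hx₁, ?_, m * y * m⁻¹, (mem_normalizer_iff.mp (le_normalizer_sigmaCore hm) y).mp hy, ?_, ?_⟩
  · intro h
    apply hx1
    have h2 : m * x * m⁻¹ = 1 := by
      rw [← hxe, h]; rfl
    have e : x = m⁻¹ * (m * x * m⁻¹) * m := by group
    rw [e, h2]; group
  · intro h2
    apply hy1
    have e : y = m⁻¹ * (m * y * m⁻¹) * m := by group
    rw [e, h2]; group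
  · rw [hxe]
    have e1 : m * x * m⁻¹ * (m * y * m⁻¹) = m * (x * y) * m⁻¹ := by group
    have e2 : m * y * m⁻¹ * (m * x * m⁻¹) = m * (y * x) * m⁻¹ := by group
    rw [e1, e2, hxy]

/-- The subgroup generated by the elements of order `p` of a Sylow subgroup of `M`. -/
theorem omega_structure (hG : IsMinSimpleOddOrder G) {M S : Subgroup G} (hM : IsCoatom M) {p : ℕ}
    [hpf : Fact p.Prime] (hSM : IsSylowIn p S M) (hd : p ∣ Nat.card M) (hp : p ∉ sigma M ∪ kappa M) :
    Nat.card ↥(closure {x : G | x ∈ S ∧ x ^ p = 1}) ≤ p ^ 2 ∧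
      sigmaCore M ⊓ centralizer ((closure {x : G | x ∈ S ∧ x ^ p = 1} : Subgroup G) : Set G) = ⊥ ∧
      Group.IsNilpotent (sigmaCore M) := by
  have hpσ : p ∉ sigma M := fun h => hp (Or.inl h)
  have hpκ : p ∉ kappa M := fun h => hp (Or.inr h)
  have hpp : p.Prime := hpf.out
  have h2 : p ≠ 2 := prime_ne_two_of_dvd hG (hd.trans (Subgroup.card_subgroup_dvd_card _))
  by_cases hr : PRankLE p 1 M
  · have hcyc : ∀ P : Sylow p M, IsCyclic P := fun P =>
      isCyclic_of_prank_one h2 P.isPGroup' (BGUniq2.prankLE_of_injective (P : Subgroup M).subtype (P : Subgroup M).subtype_injective hr)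
    have hSc : IsCyclic S := isCyclic_of_prank_one h2 hSM.2.1 (BGUniq3.prankLE_of_le hSM.1 hr)
    have hSne : S ≠ ⊥ := sylow_ne_bot hSM hd
    obtain ⟨x₀, hx₀⟩ := exists_prime_orderOf_dvd_card' (G := S) p (dvd_card_of_isPGroup hSM.2.1 hSne)
    have hxo : orderOf (x₀ : G) = p := by rw [Subgroup.orderOf_coe, hx₀]
    have hxp : (x₀ : G) ^ p = 1 := by
      have := pow_orderOf_eq_one (x₀ : G)
      rwa [hxo] at this
    have hx1 : (x₀ : G) ≠ 1 := by
      intro h
      rw [h, orderOf_one] at hxo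
      exact hpp.one_lt.ne hxo
    have hcl : closure {x : G | x ∈ S ∧ x ^ p = 1} = zpowers (x₀ : G) := by
      apply le_antisymm
      · rw [closure_le]
        rintro x ⟨hx, hxp'⟩
        exact mem_zpowers_of_cyclic hSc hpp x₀.2 hx hxo hxp'
      · rw [zpowers_le]
        exact subset_closure ⟨x₀.2, hxp⟩
    rw [hcl, Nat.card_zpowers, hxo, centralizer_zpowers']
    have hfree : sigmaCore M ⊓ centralizer ({(x₀ : G)} : Set G) = ⊥ := by
      rw [eq_bot_iff]
      rintro y ⟨hy, hyC⟩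
      by_contra hy1
      exact free_of_not_kappa hSM hd hpσ hpκ hcyc x₀.2 hx1 hy hy1
        (Subgroup.mem_centralizer_singleton_iff.mp hyC).symm
    refine ⟨Nat.le_self_pow (by norm_num) p, hfree, ?_⟩
    exact nilpotent_of_fpf (le_normalizer_sigmaCore (hSM.1 x₀.2)) hxp
      (sigmaCore_ne_bot hG hM (by rintro rfl; exact hSne (le_bot_iff.mp hSM.1))) hfree
  · have hτ : p ∈ tau2 M := ⟨hpp, hpσ, rank2_of_not_sigma hG hM hpp hpσ, hr⟩
    have h1 : ¬ PRankLE p 1 S := fun h => hr (BGSigma.prankLE_of_isSylowIn hSM h)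
    obtain ⟨A, hAS, hAe, hAc⟩ := exists_ea2 h1
    have T : T2 M A p := T2.mk' hG hM hτ (hAS.trans hSM.1) hAe hAc
    have hcl : closure {x : G | x ∈ S ∧ x ^ p = 1} = A := by
      apply le_antisymm
      · rw [closure_le]
        rintro x ⟨hx, hxp'⟩
        exact T.omega_P hSM hAS hx hxp'
      · intro x hx
        exact subset_closure ⟨hAS hx, hAe.2 x hx⟩
    rw [hcl, hAc]
    exact ⟨le_refl _, T.d, T.nilpotent⟩

/-- `O_p(M)` is cyclic for `p ∈ τ₂(M)`. -/
theorem pCoreOf_cyclic_of_tau2 (hG : IsMinSimpleOddOrder G) {M : Subgroup G} (hM : IsCoatom M) {p : ℕ}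
    [hpf : Fact p.Prime] (hp : p ∈ tau2 M) : IsCyclic ↥(pCoreOf p M) := by
  by_contra hc
  have hDp := isPGroup_pCoreOf p M
  have hne : pCoreOf p M ≠ ⊥ := by
    intro h
    rw [h] at hc
    exact hc inferInstance
  have hd2 : p ≠ 2 := prime_ne_two_of_dvd hG (BGUniq2.dvd_of_isPGroup hDp hne)
  have h1 : ¬ PRankLE p 1 ↥(pCoreOf p M) := BGUniq3.not_prankLE_one_aux hd2 hDp hc
  obtain ⟨A, hAD, hAe, hAc⟩ := exists_ea2 h1
  have hAM : A ≤ M := hAD.trans (pCoreOf_le p M)
  have T : T2 M A p := T2.mk' hG hM hp hAM hAe hAc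
  obtain ⟨P, hP, hAP⟩ := exists_isSylowIn_ge p hAM T.isP
  have hDP : pCoreOf p M ≤ P := pCoreOf_le_of_isSylowIn hP
  have hMA : M ≤ normalizer (A : Set G) := by
    intro m hm
    apply mem_normalizer_of_forall
    intro x hx
    refine T.omega_P hP hAP (hDP ((mem_normalizer_iff.mp (le_normalizer_pCoreOf p M hm) x).mp (hAD hx))) ?_
    rw [conj_pow, hAe.2 x hx]; group
  obtain ⟨t, htM, htA⟩ := T.exists_t
  have hlt : M < normalizer (A : Set G) := by
    refine lt_of_le_of_ne hMA ?_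
    intro h
    rw [← h] at htA
    exact htM htA
  exact IsMin.normalizer_ne_top hG T.A_ne_bot (IsMin.isPGroup_ne_top hG T.isP) (hM.2 _ hlt)

/-- The primes of the `σ(M)'`-part of `F(M)` lie in `τ₂(M)`. -/
theorem tau2_of_pCoreOf_ne_bot (hG : IsMinSimpleOddOrder G) {M : Subgroup G} (hM : IsCoatom M) {u : ℕ}
    [hu : Fact u.Prime] (huσ : u ∉ sigma M) (hne : pCoreOf u M ≠ ⊥) : u ∈ tau2 M := by
  refine ⟨hu.out, huσ, rank2_of_not_sigma hG hM hu.out huσ, ?_⟩
  intro hr
  exact hne (pCoreOf_eq_bot_of_rank_one hG hM huσ hr)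

/-- **`F(M) = F(M_σ) × Y`.** -/
theorem fitting_structure (hG : IsMinSimpleOddOrder G) {M : Subgroup G} (hM : IsCoatom M) :
    IsCyclic ↥(piCoreOf {q | q.Prime ∧ q ∉ sigma M} (fittingOf M)) ∧
      (∀ p : ℕ, p.Prime → p ∣ Nat.card ↥(piCoreOf {q | q.Prime ∧ q ∉ sigma M} (fittingOf M)) → p ∈ tau2 M) ∧
      fittingOf M = fittingOf (sigmaCore M) ⊔ piCoreOf {q | q.Prime ∧ q ∉ sigma M} (fittingOf M) := by
  set π : Set ℕ := {q | q.Prime ∧ q ∉ sigma M} with hπ
  set Y := piCoreOf π (fittingOf M) with hY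
  have hYF : Y ≤ fittingOf M := piCoreOf_le _ _
  have hprimes : ∀ p : ℕ, p.Prime → p ∣ Nat.card Y → p ∈ tau2 M := by
    intro p hp hd
    haveI : Fact p.Prime := ⟨hp⟩
    have hp' : p ∉ sigma M := (piCoreOf_primes π (fittingOf M) p hp hd).2
    obtain ⟨x, hx⟩ := exists_prime_orderOf_dvd_card' (G := Y) p hd
    have hx1 : (x : G) ^ p = 1 := by
      have := pow_orderOf_eq_one (x : G)
      rwa [Subgroup.orderOf_coe, hx] at this
    have hxne : (x : G) ≠ 1 := by
      intro h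
      have h2 : x = 1 := Subtype.ext h
      rw [h2, orderOf_one] at hx
      exact hp.one_lt.ne hx
    have h1 : zpowers (x : G) ≤ pCoreOf p M :=
      Cfsg.Agent.Lib.BGFit5.le_pCoreOf_of_le_fittingOf (zpowers_le.mpr (hYF x.2)) (isPGroup_zpowers_of_pow hx1)
    apply tau2_of_pCoreOf_ne_bot hG hM hp'
    intro h
    rw [h] at h1
    exact hxne (h1 (mem_zpowers _))
  have hYnil : Group.IsNilpotent Y := by
    haveI h1 := FitPair.isNilpotent_fittingOf M
    exact (Group.isNilpotent_congr (Subgroup.subgroupOfEquivOfLe hYF)).mp inferInstance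
  refine ⟨?_, hprimes, ?_⟩
  · haveI : IsZGroup Y := by
      constructor
      intro p hp P
      haveI : Fact p.Prime := ⟨hp⟩
      by_cases hd : p ∣ Nat.card Y
      · have hτ := hprimes p hp hd
        have h1 := pCoreOf_cyclic_of_tau2 hG hM hτ
        have hle : (P : Subgroup Y).map Y.subtype ≤ pCoreOf p M :=
          Cfsg.Agent.Lib.BGFit5.le_pCoreOf_of_le_fittingOf ((Subgroup.map_subtype_le _).trans hYF) (P.isPGroup'.map _)
        have h2 : IsCyclic ↥((P : Subgroup Y).map Y.subtype) := by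
          haveI := h1
          exact Subgroup.isCyclic_of_le hle
        exact isCyclic_of_surjective ((P : Subgroup Y).equivMapOfInjective _ Y.subtype_injective).symm.toMonoidHom
          ((P : Subgroup Y).equivMapOfInjective _ Y.subtype_injective).symm.surjective
      · have h1 : (P : Subgroup Y) = ⊥ := by
          by_contra hne
          exact hd ((dvd_card_of_isPGroup (G := Y) P.isPGroup' hne).trans (Subgroup.card_subgroup_dvd_card _))
        rw [h1]
        infer_instance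
    infer_instance
  · apply le_antisymm
    · apply fittingOf_le_of_pCoreOf
      intro u hu
      by_cases huσ : u ∈ sigma M
      · have h1 : pCoreOf u M ≤ sigmaCore M :=
          le_sigmaCore_of_pgroup hG hM huσ (pCoreOf_le u M) (isPGroup_pCoreOf u M)
        refine le_trans ?_ le_sup_left
        refine Cfsg.Agent.Lib.BGFix.le_fittingOf _ _ h1 ?_ (isPGroup_pCoreOf u M).isNilpotent
        intro k hk l hl
        exact (mem_normalizer_iff.mp (le_normalizer_pCoreOf u M (sigmaCore_le hk)) l).mp hl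
      · refine le_trans ?_ le_sup_right
        refine le_piCoreOf (pCoreOf_le_fittingOf u M) ?_ ?_
        · exact (fittingOf_le_self M).trans (le_normalizer_pCoreOf u M)
        · intro q hq hd
          have h1 : q = u := by
            obtain ⟨k, hk⟩ := IsPGroup.iff_card.mp (isPGroup_pCoreOf u M)
            rw [hk] at hd
            exact (Nat.prime_dvd_prime_iff_eq hq hu.out).mp (hq.dvd_of_dvd_pow hd)
          rw [h1]
          exact ⟨hu.out, huσ⟩
    · refine sup_le ?_ hYF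
      refine Cfsg.Agent.Lib.BGFix.le_fittingOf _ _ ((fittingOf_le_self _).trans sigmaCore_le) ?_
        (FitPair.isNilpotent_fittingOf _)
      intro k hk l hl
      exact (mem_normalizer_iff.mp (FitPair.normalizer_le_fittingOf _ (le_normalizer_sigmaCore hk)) l).mp hl

end Cfsg.Agent.Lib.BGTau7
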