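import Mathlib
import Cfsg.Agent.Lib.BGTau15
import Cfsg.Agent.Lib.BGFit1
import Cfsg.Agent.Lib.BGM2

/-!
# Bender-Glauberman section 14: normal complements from a centralizing condition.

For a solvable group `E`, a Hall subgroup `D` such that every element of order coprime to `|D|`
normalizing a `u`-subgroup of `D` centralizes it has a normal complement.
-/

set_option autoImplicit false
set_option linter.unusedSectionVars false
set_option linter.unusedVariables false
set_option linter.style.haveILetI false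
set_option linter.unusedSimpArgs false

namespace Cfsg.Agent.Lib.BGCent

open Cfsg Subgroup Cfsg.Agent.Lib.CoprimeInv Cfsg.Agent.Lib.BGTrans Cfsg.Agent.Lib.BGTrans2 Cfsg.Agent.Lib.BGUniq
  Cfsg.Agent.Lib.BGUniq2 Cfsg.Agent.Lib.PCore Cfsg.Agent.Lib.BGTau7
open scoped commutatorElement

universe u

section Abstract

variable {E : Type u} [Group E] [Finite E]

theorem coprime_orderOf_of_mem_sup {N Z : Subgroup E} [hN : N.Normal] {m : ℕ} (hNm : (Nat.card N).Coprime m)
    (hZm : (Nat.card Z).Coprime m) {y : E} (hy : y ∈ Z ⊔ N) : (orderOf y).Coprime m := by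
  have h := card_sup_mul_card_inf (H := Z) (N := N) (by rw [normalizer_eq_top_iff.mpr hN]; exact le_top)
  have h1 : Nat.card (Z ⊔ N : Subgroup E) ∣ Nat.card Z * Nat.card N := ⟨_, h.symm⟩
  exact Nat.Coprime.coprime_dvd_left ((Subgroup.orderOf_dvd_natCard _ hy).trans h1) (Nat.Coprime.mul_left hZm hNm)

/-- Conjugation keeps the order of an element. -/
theorem orderOf_conj_eq (c y : E) : orderOf (c * y * c⁻¹) = orderOf y :=
  orderOf_injective (MulAut.conj c).toMonoidHom (MulAut.conj c).injective y

theorem commute_pCore_of_star {D : Subgroup E} (hc : (Nat.card D).Coprime D.index)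
    (star : ∀ (u : ℕ) [Fact u.Prime] (T : Subgroup E), IsPGroup u T → T ≤ D → ∀ t ∈ normalizer (T : Set E),
      (orderOf t).Coprime (Nat.card D) → t ∈ centralizer (T : Set E))
    (u : ℕ) [hu : Fact u.Prime] (hud : u ∣ Nat.card D) {t : E} (ht : (orderOf t).Coprime (Nat.card D))
    {N : Subgroup E} [hN : N.Normal] (hNc : (Nat.card N).Coprime (Nat.card D)) {f : E ⧸ N}
    (hf : f ∈ pCore u (E ⧸ N)) :
    QuotientGroup.mk' N t * f = f * QuotientGroup.mk' N t := by
  classical
  set π := QuotientGroup.mk' N with hπ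
  set Pb := pCore u (E ⧸ N) with hPb
  set V : Subgroup E := Pb.comap π with hV
  haveI hVn : V.Normal := Subgroup.Normal.comap inferInstance π
  let S₁ : Sylow u V := default
  set S : Subgroup E := (S₁ : Subgroup V).map V.subtype with hSdef
  have hS : IsSylowIn u S V := isSylowIn_map S₁
  have hφ : Function.Surjective (π.subgroupComap Pb) :=
    π.subgroupComap_surjective_of_surjective Pb (QuotientGroup.mk'_surjective N)
  have hPbp : IsPGroup u Pb := isPGroup_pCore u
  have himg : ∀ f ∈ Pb, ∃ a ∈ S, π a = f := by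
    intro f hf
    let S' := S₁.mapSurjective hφ
    have htop : (⊤ : Subgroup Pb) = (S' : Subgroup Pb) := S'.is_maximal' (hPbp.to_subgroup ⊤) le_top
    have h1 : (⟨f, hf⟩ : Pb) ∈ (S' : Subgroup Pb) := by rw [← htop]; exact mem_top _
    rw [Sylow.coe_mapSurjective] at h1
    obtain ⟨a, ha, hae⟩ := h1
    refine ⟨(a : E), ⟨a, ha, rfl⟩, ?_⟩
    exact congrArg Subtype.val hae
  -- the Frattini argument
  have htV : t ∈ normalizer (V : Set E) := by rw [normalizer_eq_top_iff.mpr hVn]; exact mem_top _
  obtain ⟨v, hvV, hvt⟩ := hS.exists_conj (hS.cj_of_normalizer htV)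
  obtain ⟨a, haS, hav⟩ := himg (π v) hvV
  set n : E := v * a⁻¹ with hn
  have hnN : n ∈ N := by
    rw [← QuotientGroup.eq_one_iff n]
    show π n = 1
    rw [hn, map_mul, map_inv, hav, mul_inv_cancel]
  have hvn : v = n * a := by rw [hn]; group
  have hcv : cj S v = cj S n := by
    rw [hvn, ← cj_cj, cj_eq_of_mem_normalizer (le_normalizer haS)]
  set t' : E := n⁻¹ * t with ht'
  have ht'S : t' ∈ normalizer (S : Set E) := by
    apply mem_normalizer_of_cj_eq
    rw [ht', ← cj_cj, hvt, hcv, cj_cj_inv]
  have ht'c : (orderOf t').Coprime (Nat.card D) := by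
    apply coprime_orderOf_of_mem_sup (N := N) (Z := zpowers t) hNc
    · rw [Nat.card_zpowers]; exact ht
    · exact Subgroup.mul_mem _ (mem_sup_right (N.inv_mem hnN)) (mem_sup_left (mem_zpowers t))
  -- move `S` into `D`
  have hud' : ¬ u ∣ D.index := by
    intro h
    have := Nat.dvd_gcd hud h
    rw [hc.gcd_eq_one] at this
    exact hu.out.one_lt.ne' (Nat.dvd_one.mp this)
  obtain ⟨SD, hSD⟩ := exists_isSylowIn u D
  have hSD' : IsSylowIn u SD (⊤ : Subgroup E) :=
    Cfsg.Agent.Lib.BGM2.isSylowIn_of_hall hSD le_top (by rwa [Subgroup.relIndex_top_right])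
  obtain ⟨P, hP, hSP⟩ := exists_isSylowIn_ge u (L := (⊤ : Subgroup E)) le_top hS.2.1
  obtain ⟨c, -, hPc⟩ := hSD'.exists_conj hP
  set T : Subgroup E := cj S c⁻¹ with hT
  have hTD : T ≤ D := by
    have h1 : T ≤ cj P c⁻¹ := cj_mono hSP _
    rw [hPc, cj_cj_inv] at h1
    exact h1.trans hSD.1
  have hTp : IsPGroup u T := hS.2.1.map _
  have hcent : c⁻¹ * t' * c ∈ centralizer (T : Set E) := by
    apply star u T hTp hTD
    · apply mem_normalizer_of_cj_eq
      rw [hT, cj_cj]
      have e : c⁻¹ * t' * c * c⁻¹ = c⁻¹ * t' := by group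
      rw [e, ← cj_cj, cj_eq_of_mem_normalizer ht'S]
    · have := orderOf_conj_eq c⁻¹ t'
      rw [inv_inv] at this
      rw [this]
      exact ht'c
  have hcomm : ∀ a ∈ S, t' * a = a * t' := by
    intro a ha
    have h1 : c⁻¹ * a * c ∈ T := by
      rw [hT, mem_cj, inv_inv]
      have e : c * (c⁻¹ * a * c) * c⁻¹ = a := by group
      simpa [mem_cj, hT, mul_assoc] using ha
    have h2 := Subgroup.mem_centralizer_iff.mp hcent _ h1
    have e1 : (c⁻¹ * a * c) * (c⁻¹ * t' * c) = c⁻¹ * (a * t') * c := by group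
    have e2 : (c⁻¹ * t' * c) * (c⁻¹ * a * c) = c⁻¹ * (t' * a) * c := by group
    rw [e1, e2] at h2
    have h3 := mul_left_cancel (mul_right_cancel h2)
    exact h3.symm
  obtain ⟨a', ha', rfl⟩ := himg f hf
  have hπt : π t = π t' := by
    have e : t = n * t' := by rw [ht']; group
    rw [e, map_mul]
    have : π n = 1 := (QuotientGroup.eq_one_iff n).mpr hnN
    rw [this, one_mul]
  rw [hπt, ← map_mul, ← map_mul, hcomm a' ha']

/-- **Normal complement.** -/
theorem exists_normal_compl [Group.IsSolvable E] {D : Subgroup E} (hc : (Nat.card D).Coprime D.index)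
    (star : ∀ (u : ℕ) [Fact u.Prime] (T : Subgroup E), IsPGroup u T → T ≤ D → ∀ t ∈ normalizer (T : Set E),
      (orderOf t).Coprime (Nat.card D) → t ∈ centralizer (T : Set E)) :
    ∃ N : Subgroup E, N.Normal ∧ IsComplement' D N := by
  classical
  set τ : Set ℕ := {q | q.Prime ∧ ¬ q ∣ Nat.card D} with hτ
  set N := piCore τ E with hN
  have hNc : (Nat.card N).Coprime (Nat.card D) := by
    apply Nat.coprime_of_dvd
    intro k hk hk1 hk2
    exact (piCore_primes τ k hk hk1).2 hk2
  have hmem : ∀ t : E, (orderOf t).Coprime (Nat.card D) → t ∈ N := by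
    intro t ht
    have hle : zpowers t ≤ N := by
      apply Cfsg.Agent.Lib.BGFit1.le_piCore_of_centralizes
      · intro q hq hd
        rw [Nat.card_zpowers] at hd
        refine ⟨hq, fun h => ?_⟩
        have := Nat.dvd_gcd hd h
        rw [ht.gcd_eq_one] at this
        exact hq.one_lt.ne' (Nat.dvd_one.mp this)
      · intro u _ hu y hy f hf
        have hud : u ∣ Nat.card D := by
          by_contra h
          exact hu ⟨Fact.out, h⟩
        have hy' : (orderOf y).Coprime (Nat.card D) :=
          Nat.Coprime.coprime_dvd_left (orderOf_dvd_of_mem_zpowers hy) ht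
        exact commute_pCore_of_star hc star u hud hy' hNc hf
    exact hle (mem_zpowers t)
  -- primes of the quotient divide `|D|`
  have hquot : ∀ q : ℕ, q.Prime → q ∣ N.index → q ∣ Nat.card D := by
    intro q hq hd
    by_contra hqD
    haveI : Fact q.Prime := ⟨hq⟩
    rw [Subgroup.index_eq_card] at hd
    obtain ⟨tb, htb⟩ := exists_prime_orderOf_dvd_card' q hd
    obtain ⟨y, rfl⟩ := QuotientGroup.mk_surjective tb
    obtain ⟨w, v, k, m, hyw, -, -, hvp, hwm, hqm⟩ := exists_p_part q y
    have hvN : v ∈ N := by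
      apply hmem
      exact Nat.Coprime.coprime_dvd_left (orderOf_dvd_of_pow_eq_one hvp)
        (Nat.Coprime.pow_left k ((Nat.Prime.coprime_iff_not_dvd hq).mpr hqD))
    have h1 : (y : E ⧸ N) = (w : E ⧸ N) := by
      rw [hyw, QuotientGroup.mk_mul]
      have : (v : E ⧸ N) = 1 := (QuotientGroup.eq_one_iff v).mpr hvN
      rw [this, mul_one]
    have h2 : (y : E ⧸ N) ^ m = 1 := by
      rw [h1, ← QuotientGroup.mk_pow, hwm]; rfl
    have h3 := orderOf_dvd_of_pow_eq_one h2
    rw [htb] at h3
    exact hqm h3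
  have hc1 := Subgroup.card_mul_index D
  have hc2 := Subgroup.card_mul_index N
  have h1 : Nat.card N ∣ D.index := by
    apply hNc.dvd_of_dvd_mul_left
    rw [hc1, ← hc2]
    exact dvd_mul_right _ _
  have h2 : D.index ∣ Nat.card N := by
    have hcop : D.index.Coprime N.index := by
      apply Nat.coprime_of_dvd
      intro k hk hk1 hk2
      have hk3 := hquot k hk hk2
      have := Nat.dvd_gcd hk3 hk1
      rw [hc.gcd_eq_one] at this
      exact hk.one_lt.ne' (Nat.dvd_one.mp this)
    apply hcop.dvd_of_dvd_mul_right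
    rw [hc2, ← hc1]
    exact dvd_mul_left _ _
  have h3 : Nat.card N = D.index := Nat.dvd_antisymm h1 h2
  refine ⟨N, inferInstance, ?_⟩
  apply isComplement'_of_coprime
  · rw [h3, hc1]
  · rw [h3]; exact hc

end Abstract

variable {G : Type u} [Group G] [Finite G]

/-- **Normal complement**, for subgroups. -/
theorem exists_normal_compl_in {C D : Subgroup G} (hDC : D ≤ C) (hs : Group.IsSolvable C)
    (hc : (Nat.card D).Coprime (D.relIndex C))
    (star : ∀ (u : ℕ) [Fact u.Prime] (T : Subgroup G), IsPGroup u T → T ≤ D → ∀ t ∈ C,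
      t ∈ normalizer (T : Set G) → (orderOf t).Coprime (Nat.card D) → t ∈ centralizer (T : Set G)) :
    ∃ R : Subgroup G, C ≤ normalizer (R : Set G) ∧ IsComplIn D R C := by
  classical
  have hcard : Nat.card (D.subgroupOf C) = Nat.card D := card_subgroupOf_of_le hDC
  obtain ⟨N, hNn, hNc⟩ := exists_normal_compl (E := C) (D := D.subgroupOf C)
    (by rw [hcard]; exact hc) (by
      intro u _ T hT hTD t ht hto
      have hTm : T.map C.subtype ≤ D := by
        rintro _ ⟨a, ha, rfl⟩
        exact hTD ha
      have h1 : (t : G) ∈ normalizer ((T.map C.subtype : Subgroup G) : Set G) := by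
        rw [mem_normalizer_iff]
        intro y
        constructor
        · rintro ⟨a, ha, rfl⟩
          exact ⟨t * a * t⁻¹, (mem_normalizer_iff.mp ht a).mp ha, rfl⟩
        · rintro ⟨a, ha, hae⟩
          have hy : y ∈ C := by
            have h2 : (t : G)⁻¹ * (t * y * (t : G)⁻¹) * t ∈ C := by
              rw [show (t : G) * y * (t : G)⁻¹ = (a : G) from by simpa using hae.symm]
              exact C.mul_mem (C.mul_mem (C.inv_mem t.2) a.2) t.2
            have e : (t : G)⁻¹ * (t * y * (t : G)⁻¹) * t = y := by group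
            rwa [e] at h2
          refine ⟨⟨y, hy⟩, (mem_normalizer_iff.mp ht _).mpr ?_, rfl⟩
          have e2 : t * (⟨y, hy⟩ : C) * t⁻¹ = a := by
            apply Subtype.ext
            simpa using hae.symm
          rw [e2]
          exact ha
      have h2 : (orderOf (t : G)).Coprime (Nat.card D) := by
        rw [Subgroup.orderOf_coe]
        rwa [hcard] at hto
      have h3 := star u (T.map C.subtype) (hT.map _) hTm t t.2 h1 h2
      rw [Subgroup.mem_centralizer_iff]
      intro a ha
      have h4 := Subgroup.mem_centralizer_iff.mp h3 (a : G) ⟨a, ha, rfl⟩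
      exact Subtype.ext h4)
  refine ⟨N.map C.subtype, ?_, hDC, Subgroup.map_subtype_le _, ?_, ?_⟩
  · haveI : ((N.map C.subtype).subgroupOf C).Normal := by
      have e : (N.map C.subtype).subgroupOf C = N := by
        rw [Subgroup.subgroupOf, Subgroup.comap_map_eq_self_of_injective C.subtype_injective]
      rw [e]
      exact hNn
    exact Subgroup.le_normalizer_of_normal_subgroupOf (Subgroup.map_subtype_le _)
  · rw [eq_bot_iff]
    rintro x ⟨hxD, a, ha, rfl⟩
    have hax : a ∈ D.subgroupOf C ⊓ N := ⟨hxD, ha⟩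
    rw [hNc.disjoint.eq_bot, mem_bot] at hax
    simp [hax]
  · intro m hm
    obtain ⟨⟨a, b⟩, hab⟩ := hNc.2 ⟨m, hm⟩
    refine ⟨a.1, a.2, b.1, ⟨b.1, b.2, rfl⟩, ?_⟩
    have := congrArg Subtype.val hab
    simpa using this.symm

end Cfsg.Agent.Lib.BGCent
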