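import Mathlib
import Cfsg.Agent.S1422
import Cfsg.Agent.S1414
import Cfsg.Agent.S1453
import Cfsg.Agent.S1448

/-!
# Centralizers of elements of order `p` of `(M_σ)'` and of `p ∈ β(M)`.
-/

set_option autoImplicit false
set_option linter.unusedSectionVars false
set_option linter.unusedVariables false
set_option linter.style.haveILetI false
set_option linter.unusedSimpArgs false

namespace Cfsg.Agent.Lib.BGP3C

open Cfsg Subgroup Cfsg.Agent.Lib.CoprimeInv Cfsg.Agent.Lib.BGTrans Cfsg.Agent.Lib.Glauberman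
  Cfsg.Agent.Lib.BGSigma Cfsg.Agent.Lib.BGSigma2 Cfsg.Agent.Lib.BGSigma3 Cfsg.Agent.Lib.BGSigma4
  Cfsg.Agent.Lib.BGM1 Cfsg.Agent.Lib.BGP2A Cfsg.Agent.Lib.BGP2B Cfsg.Agent.Lib.BGP2C
  Cfsg.Agent.Lib.BGP2D Cfsg.Agent.Lib.BGP2E Cfsg.Agent.Lib.BGP2F Cfsg.Agent.Lib.BGFit2 Cfsg.Agent.Lib.BGUniq
  Cfsg.Agent.Lib.BGUniq2 Cfsg.Agent.Lib.BGUniq3 Cfsg.Agent.Lib.BGFus Cfsg.Agent.Lib.BGP3A Cfsg.Agent.Lib.BGP3B

open scoped commutatorElement

universe u

section Abstract

variable {X : Type u} [Group X] [Finite X] {p : ℕ} [hp : Fact p.Prime]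

/-- A `p`-subgroup of the derived subgroup of a group with a normal `p`-complement is conjugate into
the derived subgroup of a Sylow subgroup. -/
theorem exists_conj_le_comm (hN : HasNormalPComplement p X) (P : Sylow p X) {Q : Subgroup X}
    (hQ : IsPGroup p Q) (hQc : Q ≤ commutator X) :
    ∃ g : X, cj Q g ≤ ⁅(P : Subgroup X), (P : Subgroup X)⁆ := by
  classical
  obtain ⟨P₀, N, hNn, hc⟩ := hN
  have hPt : ∀ T : Sylow p X, IsSylowIn p (T : Subgroup X) ⊤ := fun T =>
    ⟨le_top, T.isPGroup', fun R _ hR hle => T.is_maximal' hR hle⟩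
  have hNd : ¬ p ∣ Nat.card N := by
    rw [← hc.index_eq_card]
    exact P₀.not_dvd_index
  have hNP₀ : N ⊔ (P₀ : Subgroup X) = ⊤ := hc.sup_eq_top
  obtain ⟨h₀, -, hh₀⟩ := (hPt P₀).exists_conj (hPt P)
  have hNP : N ⊔ (P : Subgroup X) = ⊤ := by
    have h1 : cj N h₀ = N := cj_eq_of_mem_normalizer (by rw [normalizer_eq_top_iff.mpr hNn]; trivial)
    have h2 := congrArg (fun K => cj K h₀) hNP₀
    simp only [cj_top] at h2
    rw [← h2, cj, Subgroup.map_sup, hh₀]
    congr 1
    exact h1.symm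
  have hinf : (P : Subgroup X) ⊓ N = ⊥ := by
    apply inf_eq_bot_of_coprime'
    obtain ⟨k, hk⟩ := (hPt P).2.1.exists_card_eq
    rw [hk]
    exact Nat.Coprime.pow_left _ ((Nat.Prime.coprime_iff_not_dvd hp.out).mpr hNd)
  set π : X →* X ⧸ N := QuotientGroup.mk' N with hπ
  have hsurj : Function.Surjective π := QuotientGroup.mk'_surjective N
  have hNb : N.map π = ⊥ := by
    rw [Subgroup.map_eq_bot_iff, QuotientGroup.ker_mk']
  have hmap : (P : Subgroup X).map π = ⊤ := by
    have h1 := Subgroup.map_sup N (P : Subgroup X) π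
    rw [hNP, hNb, bot_sup_eq, Subgroup.map_top_of_surjective _ hsurj] at h1
    exact h1.symm
  have hcl : commutator X ≤ ⁅(P : Subgroup X), (P : Subgroup X)⁆ ⊔ N := by
    have h2 : (commutator X).map π ≤ (⁅(P : Subgroup X), (P : Subgroup X)⁆).map π := by
      rw [hπ, map_commutator_mk, Subgroup.map_commutator, ← hπ, hmap, _root_.commutator_def]
    have h3 := Subgroup.map_le_iff_le_comap.mp h2
    rwa [Subgroup.comap_map_eq, QuotientGroup.ker_mk'] at h3
  obtain ⟨S, hS, hQS⟩ := exists_isSylowIn_ge p (le_top : Q ≤ ⊤) hQ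
  obtain ⟨g, -, hg⟩ := hS.exists_conj (hPt P)
  refine ⟨g, ?_⟩
  intro y hy
  have hyP : y ∈ (P : Subgroup X) := by
    rw [hg]
    exact cj_mono hQS g hy
  have hyc : y ∈ commutator X := by
    have h1 := cj_mono hQc g hy
    rwa [cj_eq_of_mem_normalizer (by
      rw [normalizer_eq_top_iff.mpr (inferInstance : (commutator X).Normal)]; trivial)] at h1
  have h5 := hcl hyc
  rw [Subgroup.mem_sup_of_normal_right] at h5
  obtain ⟨c, hc', n, hn, hyn⟩ := h5
  have hcP : c ∈ (P : Subgroup X) := by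
    have : ⁅(P : Subgroup X), (P : Subgroup X)⁆ ≤ (P : Subgroup X) := by
      rw [← Subgroup.map_subtype_commutator (P : Subgroup X)]
      exact Subgroup.map_subtype_le _
    exact this hc'
  have hnP : n ∈ (P : Subgroup X) := by
    have : n = c⁻¹ * y := by rw [← hyn]; group
    rw [this]
    exact mul_mem (inv_mem hcP) hyP
  have hn1 : n = 1 := by
    have : n ∈ (P : Subgroup X) ⊓ N := ⟨hnP, hn⟩
    rw [hinf] at this
    exact this
  rw [← hyn, hn1, mul_one]
  exact hc'

/-- For a narrow `p`-group, an element of order `p` of the derived subgroup has a centralizer of rank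
at least `3`. -/
theorem rank3_narrow (hp2 : p ≠ 2) (hR : IsPGroup p X) (hr : ¬ PRankLE p 2 X) (E : Subgroup X)
    (hE : IsElementaryAbelian p E) (hE2 : Nat.card E = p ^ 2)
    (hEmax : ∀ B : Subgroup X, IsElementaryAbelian p B → E ≤ B → B = E) {Q : Subgroup X}
    (hQc : Nat.card Q = p) (hQ : Q ≤ commutator X) :
    ¬ PRankLE p 2 ↥(centralizer (Q : Set X)) := by
  classical
  obtain ⟨-, -, ⟨h3, h4⟩, h5, h6⟩ := Cfsg.Agent.S1453.result p hp2 hR hr E hE hE2 hEmax
  set W : Subgroup X := closure {x : X | x ∈ Subgroup.upperCentralSeries X 2 ∧ x ^ p = 1} with hW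
  set T₀ : Subgroup X := centralizer (W : Set X) with hT₀
  haveI hT₀n : T₀.Normal := by
    haveI := h5
    infer_instance
  have hcomm : commutator X ≤ T₀ := by
    rw [_root_.commutator_def, Subgroup.commutator_le]
    intro a _ b _
    rw [← QuotientGroup.eq_one_iff]
    have hc : Nat.card (X ⧸ T₀) = p := h6
    haveI : IsCyclic (X ⧸ T₀) := isCyclic_of_prime_card hc
    have h1 := (IsCyclic.commGroup (α := X ⧸ T₀)).mul_comm (a : X ⧸ T₀) (b : X ⧸ T₀)
    have h2 : ((⁅a, b⁆ : X) : X ⧸ T₀) = ⁅(a : X ⧸ T₀), (b : X ⧸ T₀)⁆ := map_commutatorElement (QuotientGroup.mk' T₀) a b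
    rw [h2, commutatorElement_eq_one_iff_mul_comm]
    exact h1
  have hQT : Q ≤ T₀ := hQ.trans hcomm
  have hWW : W ≤ T₀ := BGSigma3.le_centralizer_of_comm le_rfl h3.1
  have hQe : IsElementaryAbelian p Q := ea_of_card_prime hQc
  by_cases hQW : Q ≤ W
  · have hle : T₀ ≤ centralizer (Q : Set X) := Subgroup.centralizer_le hQW
    intro hle2
    have h1 : PRankLE p 2 T₀ := prankLE_of_le hle hle2
    rw [prankLE_iff] at h1
    apply hr
    intro B hBc hBe
    by_contra hBcard
    push Not at hBcard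
    set B₀ : Subgroup X := B ⊓ T₀ with hB₀
    have hB₀c : IsMulCommutative B₀ := by
      refine ⟨⟨fun a b => ?_⟩⟩
      have := hBc.is_comm.comm (⟨a, a.2.1⟩ : B) ⟨b, b.2.1⟩
      have h2 : (a : X) * b = b * a := congrArg Subtype.val this
      exact Subtype.ext h2
    have hB₀e : ∀ a ∈ B₀, a ^ p = 1 := fun a ha => hBe a ha.1
    have hidx : Nat.card B ≤ Nat.card B₀ * p := by
      have h2 : T₀.relIndex B ∣ T₀.index := Subgroup.relIndex_dvd_index_of_normal T₀ B
      rw [h6] at h2
      have h3' : T₀.relIndex B ≤ p := Nat.le_of_dvd hp.out.pos h2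
      have h7 : Nat.card (T₀.subgroupOf B) * T₀.relIndex B = Nat.card B := Subgroup.card_mul_index _
      have h8 : Nat.card (T₀.subgroupOf B) = Nat.card B₀ := by
        rw [hB₀, inf_comm, ← Subgroup.subgroupOf_map_subtype,
          Subgroup.card_map_of_injective B.subtype_injective]
      rw [← h7, h8]
      exact Nat.mul_le_mul_left _ h3'
    by_cases hB₀W : B₀ ≤ W
    · have hd : Nat.card B₀ ∣ p ^ 2 := by
        rw [← h4]
        exact Subgroup.card_dvd_of_le hB₀W
      obtain ⟨k, hk, hke⟩ := (Nat.dvd_prime_pow hp.out).mp hd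
      have hlt : p < Nat.card B₀ := by
        have h2 : p ^ 2 < Nat.card B₀ * p := lt_of_lt_of_le hBcard hidx
        rw [pow_two] at h2
        exact Nat.lt_of_mul_lt_mul_right h2
      have hk2 : k = 2 := by
        rcases (by omega : k = 0 ∨ k = 1 ∨ k = 2) with rfl | rfl | rfl
        · rw [hke, pow_zero] at hlt
          have := hp.out.one_lt
          omega
        · rw [hke, pow_one] at hlt
          omega
        · rfl
      subst hk2
      have hBW : B₀ = W := by
        apply Subgroup.eq_of_le_of_card_ge hB₀W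
        rw [h4, hke]
      have hWB : W ≤ B := hBW ▸ inf_le_left
      have hBT : B ≤ T₀ := BGSigma3.le_centralizer_of_comm hWB hBc
      have := h1 B hBT hBc hBe
      omega
    · have hWlt : W < W ⊔ B₀ := by
        refine lt_of_le_of_ne le_sup_left ?_
        intro he
        apply hB₀W
        rw [he]
        exact le_sup_right
      have hWB₀ : W ≤ centralizer (B₀ : Set X) := by
        rw [Subgroup.le_centralizer_iff]
        exact inf_le_right
      have hea := ea_sup h3 (⟨hB₀c, hB₀e⟩ : IsElementaryAbelian p B₀) hWB₀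
      have h2 := BGUniq2.card_lt_of_lt' hWlt
      rw [h4] at h2
      have h7 := h1 (W ⊔ B₀) (sup_le hWW inf_le_right) hea.1 hea.2
      omega
  · intro hle2
    rw [prankLE_iff] at hle2
    have hQWb : Q ⊓ W = ⊥ := by
      rw [eq_bot_iff]
      intro y hy
      by_contra hy1
      have hy1' : y ≠ 1 := hy1
      have hc1 : Nat.card Q = p := hQc
      obtain ⟨k, hk⟩ : ∃ k : ℕ, ∀ x ∈ Q, ∃ k : ℕ, x = y ^ k := by
        refine ⟨0, fun x hx => ?_⟩
        exact Cfsg.Agent.S1448.gen_of_card hQc hy.1 hy1' hx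
      apply hQW
      intro x hx
      obtain ⟨j, rfl⟩ := hk x hx
      exact pow_mem hy.2 j
    have hQCW : Q ≤ centralizer (W : Set X) := hQT
    have hea := ea_sup hQe h3 hQCW
    have hcard := card_sup_mul_card_inf (H := Q) (N := W) (hQCW.trans (BGTrans.centralizer_le_normalizer W))
    rw [hQWb, Subgroup.card_bot, mul_one, hQc, h4] at hcard
    have hle : Q ⊔ W ≤ centralizer (Q : Set X) := by
      refine sup_le (BGSigma3.le_centralizer_of_comm le_rfl hQe.1) ?_
      rw [Subgroup.le_centralizer_iff]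
      exact hQCW
    have h1 := hle2 (Q ⊔ W) hle hea.1 hea.2
    rw [hcard] at h1
    have hpp : p * p ^ 2 = p ^ 3 := by ring
    rw [hpp] at h1
    have h2 : p ^ 2 < p ^ 3 := Nat.pow_lt_pow_right hp.out.one_lt (by norm_num)
    omega

end Abstract

variable {G : Type u} [Group G] [Finite G] {p : ℕ} [hp : Fact p.Prime]

theorem rank3_G {T E X₁ : Subgroup G} (hp2 : p ≠ 2) (hTp : IsPGroup p T) (hr : ¬ PRankLE p 2 T)
    (hET : E ≤ T) (hEe : IsElementaryAbelian p E) (hEc : Nat.card E = p ^ 2)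
    (hEm : ∀ B : Subgroup G, B ≤ T → IsElementaryAbelian p B → E ≤ B → B = E)
    (hXc : Nat.card X₁ = p) (hX : X₁ ≤ ⁅T, T⁆) : ¬ PRankLE p 2 ↥(T ⊓ centralizer (X₁ : Set G)) := by
  classical
  have hXT : X₁ ≤ T := by
    refine hX.trans ?_
    rw [← Subgroup.map_subtype_commutator T]
    exact Subgroup.map_subtype_le _
  have hRp : IsPGroup p ↥T := hTp
  have h1 : IsElementaryAbelian p (E.subgroupOf T) := by
    refine ⟨⟨⟨fun a b => ?_⟩⟩, fun a ha => ?_⟩
    · have := hEe.1.is_comm.comm (⟨a.1, a.2⟩ : E) ⟨b.1, b.2⟩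
      have h2 : ((a.1 : T) : G) * (b.1 : T) = (b.1 : T) * (a.1 : T) := congrArg Subtype.val this
      exact Subtype.ext (Subtype.ext h2)
    · exact Subtype.ext (hEe.2 _ ha)
  have h2 : Nat.card (E.subgroupOf T) = p ^ 2 := by rw [card_subgroupOf_of_le hET, hEc]
  have h3 : ∀ B : Subgroup ↥T, IsElementaryAbelian p B → E.subgroupOf T ≤ B → B = E.subgroupOf T := by
    intro B hBe hEB
    have h4 : B.map T.subtype = E := by
      apply hEm _ (Subgroup.map_subtype_le _)
      · refine ⟨⟨⟨?_⟩⟩, ?_⟩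
        · rintro ⟨_, a, ha, rfl⟩ ⟨_, b, hb, rfl⟩
          have := hBe.1.is_comm.comm (⟨a, ha⟩ : B) ⟨b, hb⟩
          have h5 : a * b = b * a := congrArg Subtype.val this
          have h6 : (a : G) * (b : G) = (b : G) * (a : G) := congrArg Subtype.val h5
          exact Subtype.ext h6
        · rintro _ ⟨a, ha, rfl⟩
          exact congrArg Subtype.val (hBe.2 a ha)
      · intro e he
        exact ⟨⟨e, hET he⟩, hEB he, rfl⟩
    rw [← h4]
    exact (Subgroup.comap_map_eq_self_of_injective T.subtype_injective B).symm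
  have h4 : Nat.card (X₁.subgroupOf T) = p := by rw [card_subgroupOf_of_le hXT, hXc]
  have h5 : X₁.subgroupOf T ≤ commutator ↥T := by
    intro x hx
    have hx' : (x : G) ∈ X₁ := hx
    have h6 := hX hx'
    rw [← Subgroup.map_subtype_commutator T] at h6
    obtain ⟨y, hy, hye⟩ := h6
    have : y = x := Subtype.ext hye
    rwa [← this]
  have h6 := rank3_narrow hp2 hRp hr (E.subgroupOf T) h1 h2 h3 h4 h5
  intro hle
  apply h6
  have hmem : ∀ x : ↥(centralizer ((X₁.subgroupOf T : Subgroup ↥T) : Set ↥T)),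
      ((x : T) : G) ∈ T ⊓ centralizer (X₁ : Set G) := by
    intro x
    refine ⟨(x : T).2, ?_⟩
    change ((x : T) : G) ∈ centralizer (X₁ : Set G)
    rw [mem_centralizer_iff]
    intro y hy
    have hy' : (⟨y, hXT hy⟩ : T) ∈ X₁.subgroupOf T := hy
    have := mem_centralizer_iff.mp x.2 _ hy'
    exact congrArg Subtype.val this
  let f : ↥(centralizer ((X₁.subgroupOf T : Subgroup ↥T) : Set ↥T)) →* ↥(T ⊓ centralizer (X₁ : Set G)) :=
    (T.subtype.comp (centralizer ((X₁.subgroupOf T : Subgroup ↥T) : Set ↥T)).subtype).codRestrict _ hmem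
  have hf : Function.Injective f := by
    intro a b hab
    have h7 : ((f a : _) : G) = (f b : G) := congrArg Subtype.val hab
    exact Subtype.ext (Subtype.ext h7)
  exact BGSigma4.prankLE_of_injective f hf hle

theorem exists_narrow {T : Subgroup G} (hT : IsSylowIn p T ⊤) (hr : ¬ PRankLE p 2 T)
    (hni : ¬ IsIdealPrime p G) :
    ∃ E : Subgroup G, E ≤ T ∧ IsElementaryAbelian p E ∧ Nat.card E = p ^ 2 ∧
      ∀ B : Subgroup G, B ≤ T → IsElementaryAbelian p B → E ≤ B → B = E := by
  classical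
  have hGr : ¬ PRankLE p 2 G := by
    intro h
    exact hr (BGSigma4.prankLE_of_injective T.subtype T.subtype_injective h)
  have h1 : ¬ ∀ (P : Sylow p G) (A : Subgroup G), A ≤ (P : Subgroup G) → IsElementaryAbelian p A →
      Nat.card A = p ^ 2 → ∃ B : Subgroup G, B ≤ (P : Subgroup G) ∧ IsElementaryAbelian p B ∧ A < B :=
    fun h => hni ⟨hp.out, hGr, h⟩
  push Not at h1
  obtain ⟨P₀, A, hAP, hAe, hAc, hmax⟩ := h1
  have hP₀ : IsSylowIn p (P₀ : Subgroup G) ⊤ :=
    ⟨le_top, P₀.isPGroup', fun R _ hR hle => P₀.is_maximal' hR hle⟩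
  obtain ⟨g, -, hg⟩ := hP₀.exists_conj hT
  refine ⟨cj A g, ?_, Cfsg.Agent.S1422.ea_cj hAe g, by rw [card_cj, hAc], ?_⟩
  · rw [hg]
    exact cj_mono hAP g
  · intro B hBT hBe hEB
    have h2 : cj B g⁻¹ ≤ (P₀ : Subgroup G) := by
      have := cj_mono hBT g⁻¹
      rwa [hg, cj_cj_inv] at this
    have h3 : A ≤ cj B g⁻¹ := by
      have := cj_mono hEB g⁻¹
      rwa [cj_cj_inv] at this
    have h4 : cj B g⁻¹ = A := by
      by_contra hne
      exact hmax _ h2 (Cfsg.Agent.S1422.ea_cj hBe g⁻¹) (lt_of_le_of_ne h3 (Ne.symm hne))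
    rw [← h4, cj_inv_cj]

/-- For `r ∈ β(H)`, the centralizer of an element of order `r` of `H` contains an elementary abelian
subgroup of `H` in a unique maximal subgroup. -/
theorem beta_unique (hG : IsMinSimpleOddOrder G) {H : Subgroup G} (hH : IsCoatom H)
    (hrβ : p ∈ beta H) {y : G} (hyH : y ∈ H) (hy1 : y ≠ 1) (hyr : y ^ p = 1) :
    ∃ B : Subgroup G, B ≤ H ∧ B ≤ centralizer ({y} : Set G) ∧ InUniqueMaximal B := by
  classical
  have hYp : IsPGroup p (zpowers y) := BGP2E.isPGroup_zpowers_of_pow hyr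
  have hYH : zpowers y ≤ H := Subgroup.zpowers_le.mpr hyH
  obtain ⟨T, hT, hYT⟩ := exists_isSylowIn_ge p hYH hYp
  have hσ := Cfsg.Agent.Lib.BGM3.beta_sub_sigma hG hH hrβ
  have hTt : IsSylowIn p T ⊤ := isSylowIn_top_of_sigma hσ hT
  have hTrk : ¬ PRankLE p 2 T := fun hle => hrβ.1.2 (prankLE_of_isSylowIn hT hle)
  have hr2 : p ≠ 2 := by
    have : p ∣ Nat.card G := (dvd_card_of_not_prank hp.out hTrk).trans (Subgroup.card_subgroup_dvd_card T)
    exact Cfsg.Agent.Lib.BGUniq2.prime_ne_two_of_dvd hG this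
  have hTp : IsPGroup p T := hT.2.1
  obtain ⟨F, hFn, hFe, hFc⟩ := Cfsg.Agent.S1453.exists_normal_p2 hr2 hTp hTrk
  set F' : Subgroup G := F.map T.subtype with hF'
  have hF'c : Nat.card F' = p ^ 2 := by
    rw [hF', Subgroup.card_map_of_injective T.subtype_injective, hFc]
  have hF'e : IsElementaryAbelian p F' := by
    refine ⟨⟨⟨?_⟩⟩, ?_⟩
    · rintro ⟨_, a, ha, rfl⟩ ⟨_, b, hb, rfl⟩
      apply Subtype.ext
      have := hFe.1.is_comm.comm (⟨a, ha⟩ : F) ⟨b, hb⟩
      show ((a : T) : G) * b = b * a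
      have h2 : a * b = b * a := congrArg Subtype.val this
      exact congrArg Subtype.val h2
    · rintro _ ⟨a, ha, rfl⟩
      exact congrArg Subtype.val (hFe.2 a ha)
  have hF'T : F' ≤ T := Subgroup.map_subtype_le _
  have hF'n : T ≤ normalizer (F' : Set G) := le_normalizer_map_subtype hFn
  have hF'1 : F' ≠ ⊥ := by
    intro hb
    rw [hb, Subgroup.card_bot] at hF'c
    have h3 : 1 < p ^ 2 := Nat.one_lt_pow (by norm_num) hp.out.one_lt
    omega
  -- an `E_{p²}` through `y`
  obtain ⟨E, hEy, hET, hEe, hEc⟩ : ∃ E : Subgroup G, y ∈ E ∧ E ≤ T ∧ IsElementaryAbelian p E ∧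
      Nat.card E = p ^ 2 := by
    by_cases hyF : y ∈ F'
    · exact ⟨F', hyF, hF'T, hF'e, hF'c⟩
    · obtain ⟨f, hfF, hf1, hfr, hfw⟩ := exists_fixed_pgroup (hTp.to_le hF'T) hF'1
        (hYT.trans hF'n) hYp
      have hfc : zpowers y ≤ centralizer ((zpowers f : Subgroup G) : Set G) := by
        rw [Subgroup.zpowers_le, centralizer_zpowers_eq, mem_centralizer_iff]
        intro b hb
        rw [Set.mem_singleton_iff.mp hb]
        exact hfw y (Subgroup.mem_zpowers y)
      have hEA := ea_sup (ea_zpowers hyr) (ea_zpowers hfr) hfc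
      have hinf : zpowers y ⊓ zpowers f = ⊥ := by
        rw [eq_bot_iff]
        rintro w ⟨hw1, hw2⟩
        by_contra hw
        have hw' : w ≠ 1 := hw
        have hc1 : Nat.card (zpowers y) = p := by
          rw [Nat.card_zpowers, orderOf_eq_prime hyr hy1]
        obtain ⟨k, hk⟩ := Cfsg.Agent.S1448.gen_of_card hc1 hw1 hw' (Subgroup.mem_zpowers y)
        have : y ∈ F' := by
          rw [hk]
          exact pow_mem ((Subgroup.zpowers_le.mpr hfF) hw2) k
        exact hyF this
      have hcard := card_sup_mul_card_inf (hfc.trans (Cfsg.Agent.Lib.BGTrans.centralizer_le_normalizer _))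
      rw [hinf, Subgroup.card_bot, mul_one, Nat.card_zpowers, Nat.card_zpowers,
        orderOf_eq_prime hyr hy1, orderOf_eq_prime hfr hf1] at hcard
      refine ⟨zpowers y ⊔ zpowers f, le_sup_left (a := zpowers y) (Subgroup.mem_zpowers y), ?_, hEA, ?_⟩
      · exact sup_le hYT ((Subgroup.zpowers_le.mpr hfF).trans hF'T)
      · rw [hcard]; ring
  -- the larger elementary abelian subgroup
  have hideal := hrβ.2.2.2
  let Ts : Sylow p G :=
    { toSubgroup := T
      isPGroup' := hTp
      is_maximal' := fun {Q} hQ hle => hTt.2.2 Q le_top hQ hle }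
  obtain ⟨B, hBT, hBe, hEB⟩ := hideal Ts E hET hEe hEc
  have hBT' : B ≤ T := hBT
  have hBc : p ^ 2 < Nat.card B := by
    rw [← hEc]
    exact BGUniq2.card_lt_of_lt' hEB
  have hU : InUniqueMaximal B := by
    apply Cfsg.Agent.S1403.result hG B (IsMin.isPGroup_ne_top hG (isPGroup_of_ea hBe))
    · apply Cfsg.Agent.Lib.BGUniq3.not_rankLE_of_ea hp.out hBe.1 hBe.2
      rw [pow_one]
      exact lt_of_le_of_lt (Nat.le_self_pow (by norm_num) p) hBc
    · exact Or.inl (Cfsg.Agent.Lib.BGUniq3.not_rankLE_of_ea hp.out hBe.1 hBe.2 hBc)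
  refine ⟨B, hBT'.trans hT.1, ?_, hU⟩
  intro b hb
  rw [Subgroup.mem_centralizer_singleton_iff]
  have hyB : y ∈ B := hEB.le hEy
  exact congrArg Subtype.val (hBe.1.is_comm.comm (⟨b, hb⟩ : B) ⟨y, hyB⟩)

/-- **S1423**. -/
theorem s1423_main (hG : IsMinSimpleOddOrder G) {M X P : Subgroup G} (hM : IsCoatom M)
    (hσ : p ∈ sigma M) (hXM : X ≤ M) (hX : Nat.card X = p) (hP : IsSylowIn p P (sigmaCore M))
    (h : p ∈ beta M ∨ X ≤ ⁅sigmaCore M, sigmaCore M⁆) :
    (centralizer (X : Set G) ≤ M ∧ ∀ L : Subgroup G, IsCoatom L → centralizer (X : Set G) ≤ L → L = M) ∧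
      InUniqueMaximal P := by
  classical
  have hXp : IsPGroup p X := IsPGroup.of_card (n := 1) (by rw [hX, pow_one])
  have hX1 : X ≠ ⊥ := by
    intro hb
    rw [hb, Subgroup.card_bot] at hX
    exact hp.out.one_lt.ne hX
  have hp2 : p ≠ 2 := prime_ne_two_of_dvd hG
    ((dvd_card_of_isPGroup hXp hX1).trans (Subgroup.card_subgroup_dvd_card X))
  have hCne : centralizer (X : Set G) ≠ ⊤ := centralizer_ne_top hG hX1 (IsMin.isPGroup_ne_top hG hXp)
  have hPM : IsSylowIn p P M :=
    BGM2.isSylowIn_of_hall hP sigmaCore_le ((sigma_hall hG hM).1.2.2 p hp.out hσ)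
  have hPt : IsSylowIn p P ⊤ := isSylowIn_top_of_sigma hσ hPM
  suffices hmain : (∀ L : Subgroup G, IsCoatom L → centralizer (X : Set G) ≤ L → L = M) ∧
      InUniqueMaximal P from
    ⟨⟨Cfsg.Agent.Lib.BGTau7.le_of_forall_coatom hCne hmain.1, hmain.1⟩, hmain.2⟩
  by_cases hβ : p ∈ beta M
  · constructor
    · -- a generator
      obtain ⟨y, hyX, hy1⟩ : ∃ y ∈ X, y ≠ 1 := by
        by_contra hno
        push Not at hno
        exact hX1 ((Subgroup.eq_bot_iff_forall X).mpr hno)
      have hyp : y ^ p = 1 := (ea_of_card_prime hX).2 y hyX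
      obtain ⟨B, hBM, hBC, hU⟩ := beta_unique hG hM hβ (hXM hyX) hy1 hyp
      have hzp : zpowers y = X := by
        apply Subgroup.eq_of_le_of_card_ge
        · rwa [Subgroup.zpowers_le]
        · rw [hX, Nat.card_zpowers, orderOf_eq_prime hyp hy1]
      intro L hL hCL
      rw [← hzp, BGTau1.centralizer_zpowers'] at hCL
      exact eq_of_unique hU hM hBM hL (hBC.trans hCL)
    · have hr : ¬ PRankLE p 2 P := fun hle => hβ.1.2 (prankLE_of_isSylowIn hPM hle)
      exact Cfsg.Agent.S1403.result hG P (IsMin.isPGroup_ne_top hG hPt.2.1)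
        (not_rankLE_one hp.out hr) (Or.inl (not_rankLE_two hp.out hr))
  · have hXc := h.resolve_left hβ
    set Ms : Subgroup G := sigmaCore M with hMs
    have hdvd : p ∣ Nat.card M := (dvd_card_of_isPGroup hXp hX1).trans (Subgroup.card_dvd_of_le hXM)
    have hN : HasNormalPComplement p ↥Ms :=
      ((Cfsg.Agent.S1414.result hG M hM).2.2.2.2 p hp.out hdvd hβ).2.1
    have hXMs : X ≤ Ms := by
      refine hXc.trans ?_
      rw [← Subgroup.map_subtype_commutator Ms]
      exact Subgroup.map_subtype_le _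
    have hQc : X.subgroupOf Ms ≤ commutator ↥Ms := by
      intro x hx
      have hx' : (x : G) ∈ X := hx
      have h6 := hXc hx'
      rw [← Subgroup.map_subtype_commutator Ms] at h6
      obtain ⟨y, hy, hye⟩ := h6
      have : y = x := Subtype.ext hye
      rwa [← this]
    have hQp : IsPGroup p (X.subgroupOf Ms) :=
      hXp.of_injective (Subgroup.subgroupOfEquivOfLe hXMs).toMonoidHom
        (Subgroup.subgroupOfEquivOfLe hXMs).injective
    obtain ⟨g, hg⟩ := exists_conj_le_comm hN hP.toSylow hQp hQc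
    have hgM : (g : G) ∈ M := sigmaCore_le g.2
    set X₁ : Subgroup G := cj X (g : G) with hX₁
    have hX₁c : Nat.card X₁ = p := by rw [hX₁, card_cj, hX]
    have hX₁P : X₁ ≤ ⁅P, P⁆ := by
      intro y hy
      rw [hX₁, mem_cj] at hy
      have h1 : (⟨(g : G)⁻¹ * y * g, hXMs hy⟩ : Ms) ∈ X.subgroupOf Ms := hy
      have h2 : g * ⟨(g : G)⁻¹ * y * g, hXMs hy⟩ * g⁻¹ ∈
          ⁅((hP.toSylow : Sylow p ↥Ms) : Subgroup ↥Ms), ((hP.toSylow : Sylow p ↥Ms) : Subgroup ↥Ms)⁆ := by
        apply hg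
        rw [mem_cj]
        have h3 : g⁻¹ * (g * ⟨(g : G)⁻¹ * y * g, hXMs hy⟩ * g⁻¹) * g =
            ⟨(g : G)⁻¹ * y * g, hXMs hy⟩ := by group
        rw [h3]
        exact h1
      have h3 : (⁅((hP.toSylow : Sylow p ↥Ms) : Subgroup ↥Ms), ((hP.toSylow : Sylow p ↥Ms) : Subgroup ↥Ms)⁆).map Ms.subtype = ⁅P, P⁆ := by
        rw [Subgroup.map_commutator, hP.coe_toSylow, Subgroup.map_subgroupOf_eq_of_le hP.1]
      rw [← h3]
      refine ⟨_, h2, ?_⟩
      show (g : G) * ((g : G)⁻¹ * y * g) * (g : G)⁻¹ = y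
      group
    have hX₁1 : X₁ ≠ ⊥ := by
      intro hb
      rw [hb, Subgroup.card_bot] at hX₁c
      exact hp.out.one_lt.ne hX₁c
    have hna : ¬ IsMulCommutative P := by
      intro hab
      apply hX₁1
      rw [eq_bot_iff]
      refine hX₁P.trans ?_
      rw [Subgroup.commutator_le]
      intro a ha b hb
      have := hab.is_comm.comm (⟨a, ha⟩ : P) ⟨b, hb⟩
      have h2 : a * b = b * a := congrArg Subtype.val this
      rw [Subgroup.mem_bot, commutatorElement_eq_one_iff_mul_comm]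
      exact h2
    have hU : InUniqueMaximal P := Cfsg.Agent.S1422.result hG p P hPt.2.1 hna
    refine ⟨?_, hU⟩
    -- the conjugate
    have hmain : ∀ L : Subgroup G, IsCoatom L → centralizer (X₁ : Set G) ≤ L → L = M := by
      by_cases hr : PRankLE p 2 P
      · let PS : Sylow p G :=
          { toSubgroup := P, isPGroup' := hPt.2.1, is_maximal' := fun hR hle => hPt.2.2 _ le_top hR hle }
        rcases Cfsg.Agent.S1412.result hG p PS hr with hc | ⟨P₁, P₂, h1, h2, h3, h4, h5, h6, h7⟩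
        · exact absurd hc hna
        · have hES : ES p P P₁ P₂ := by
            refine ⟨h1, h2, h3, h4, h5, h6, ?_⟩
            rw [h7]
            exact (Cfsg.Agent.Lib.BGFus2.comm_eq_inf_centralizer h3 h4).symm
          have hPC : P ≤ centralizer (X₁ : Set G) := by
            intro s hs
            rw [mem_centralizer_iff]
            intro z hz
            have hz' := hX₁P hz
            rw [hES.derived] at hz'
            exact hES.Z_central hz' hs
          intro L hL hCL
          exact eq_of_unique hU hM hPM.1 hL (hPC.trans hCL)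
      · have hni : ¬ IsIdealPrime p G := fun hi =>
          hβ ⟨⟨hp.out, fun hle => hr (prankLE_of_le hPM.1 hle)⟩, hi⟩
        obtain ⟨E, hET, hEe, hEc, hEm⟩ := exists_narrow hPt hr hni
        have hK := rank3_G hp2 hPt.2.1 hr hET hEe hEc hEm hX₁c hX₁P
        have hKp : IsPGroup p ↥(P ⊓ centralizer (X₁ : Set G)) := hPt.2.1.to_le inf_le_left
        have hUK : InUniqueMaximal (P ⊓ centralizer (X₁ : Set G)) :=
          Cfsg.Agent.S1403.result hG _ (IsMin.isPGroup_ne_top hG hKp)
            (not_rankLE_one hp.out hK) (Or.inl (not_rankLE_two hp.out hK))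
        intro L hL hCL
        exact eq_of_unique hUK hM (inf_le_left.trans hPM.1) hL (inf_le_right.trans hCL)
    intro L hL hCL
    have h1 : centralizer (X₁ : Set G) ≤ cj L (g : G) := by
      rw [hX₁, centralizer_cj']
      exact cj_mono hCL _
    have h2 := hmain (cj L (g : G)) (BGUniq3.isCoatom_cj hL _) h1
    have h3 := cj_cj_inv L (g : G)
    rw [h2, cj_coatom_eq hG hM (M.inv_mem hgM)] at h3
    exact h3.symm

end Cfsg.Agent.Lib.BGP3C
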