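import Mathlib
import Cfsg.Agent.Lib.BGCent1
import Cfsg.Agent.S1404
import Cfsg.Agent.S1414
import Cfsg.Agent.S1422
import Cfsg.Agent.S1423
import Cfsg.Agent.S1424

/-!
# Bender-Glauberman section 14: Sylow subgroups of `M ∩ L` centralizing an element of `M_σ`.
-/

set_option autoImplicit false
set_option linter.unusedSectionVars false
set_option linter.unusedVariables false
set_option linter.style.haveILetI false
set_option linter.unusedSimpArgs false

namespace Cfsg.Agent.Lib.BGCent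

open Cfsg Subgroup Cfsg.Agent.Lib.CoprimeInv Cfsg.Agent.Lib.BGTrans Cfsg.Agent.Lib.BGTrans2 Cfsg.Agent.Lib.BGUniq
  Cfsg.Agent.Lib.BGUniq2 Cfsg.Agent.Lib.PCore Cfsg.Agent.Lib.BGTau7 Cfsg.Agent.Lib.BGM1 Cfsg.Agent.Lib.BGTau5
  Cfsg.Agent.Lib.BGTau3 Cfsg.Agent.Lib.BGM2
open scoped commutatorElement

universe u

variable {G : Type u} [Group G] [Finite G]

/-- Every `π`-subgroup of a solvable subgroup lies in a conjugate of a Hall `π`-subgroup. -/
theorem exists_conj_hall {π : Set ℕ} {L H B : Subgroup G} (hL : Group.IsSolvable L) (hH : IsPiHallOf π H L)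
    (hBL : B ≤ L) (hB : ∀ r : ℕ, r.Prime → r ∣ Nat.card B → r ∈ π) : ∃ g ∈ L, B ≤ cj H g := by
  classical
  set H' : Subgroup L := H.subgroupOf L with hH'
  have hHc : Nat.card H' = Nat.card H := card_subgroupOf_of_le hH.1
  have hBc : Nat.card (B.subgroupOf L) = Nat.card B := card_subgroupOf_of_le hBL
  have hcard : Nat.card L = Nat.card H' * H'.index := (Subgroup.card_mul_index H').symm
  have hidx : H'.index = H.relIndex L := rfl
  have hcop : (Nat.card H').Coprime H'.index := by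
    apply Nat.coprime_of_dvd
    intro k hk hk1 hk2
    rw [hHc] at hk1
    rw [hidx] at hk2
    exact hH.2.2 k hk (hH.2.1 k hk hk1) hk2
  have hcopB : (Nat.card (B.subgroupOf L)).Coprime H'.index := by
    rw [hBc]
    apply Nat.coprime_of_dvd
    intro k hk hk1 hk2
    rw [hidx] at hk2
    exact hH.2.2 k hk (hB k hk hk1) hk2
  obtain ⟨g, hg⟩ := (Cfsg.Agent.Lib.Hall.hall_main _ ↥L _ _ rfl hcard hcop).2 H' (B.subgroupOf L) rfl hcopB
  refine ⟨(g : G), g.2, ?_⟩
  intro b hb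
  have h1 : (⟨b, hBL hb⟩ : L) ∈ B.subgroupOf L := by
    rw [Subgroup.mem_subgroupOf]; exact hb
  have h2 := hg h1
  rw [Subgroup.mem_pointwise_smul_iff_inv_smul_mem] at h2
  rw [mem_cj]
  have h3 : (MulAut.conj g)⁻¹ • (⟨b, hBL hb⟩ : L) = g⁻¹ * ⟨b, hBL hb⟩ * g := by
    simp [MulAut.smul_def, MulAut.conj_inv_apply]
  rw [h3, hH', Subgroup.mem_subgroupOf] at h2
  simpa using h2

/-- Subgroups of a conjugate of a nilpotent group are nilpotent. -/
theorem nilpotent_of_le_cj {H B : Subgroup G} {g : G} (hH : Group.IsNilpotent H) (hB : B ≤ cj H g) :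
    Group.IsNilpotent B := by
  have h1 : Group.IsNilpotent (cj H g) :=
    Group.nilpotent_of_mulEquiv (Subgroup.equivMapOfInjective H _ (MulAut.conj g).injective)
  have h2 : Group.IsNilpotent (B.subgroupOf (cj H g)) := Subgroup.isNilpotent _
  exact Group.nilpotent_of_mulEquiv (Subgroup.subgroupOfEquivOfLe hB)

/-- Elements of coprime orders of a nilpotent group commute. -/
theorem comm_in_nilpotent {X : Type*} [Group X] [Finite X] (hX : Group.IsNilpotent X) {p : ℕ}
    [hp : Fact p.Prime] {a b : X} {k m : ℕ} (ha : a ^ p ^ k = 1) (hb : b ^ m = 1) (hm : ¬ p ∣ m) :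
    a * b = b * a := by
  classical
  obtain ⟨e⟩ := (Group.isNilpotent_of_finite_tfae (G := X)).out 0 4 |>.mp hX
  apply e.symm.injective
  rw [map_mul, map_mul]
  funext q Q
  show (e.symm a) q Q * (e.symm b) q Q = (e.symm b) q Q * (e.symm a) q Q
  haveI hqf : Fact (q : ℕ).Prime := ⟨Nat.prime_of_mem_primeFactors q.2⟩
  have hQp : IsPGroup (q : ℕ) (Q : Subgroup X) := Q.isPGroup'
  obtain ⟨s, hs⟩ := IsPGroup.iff_card.mp hQp
  have hone : ∀ (y : (Q : Subgroup X)) (n : ℕ), y ^ n = 1 → ¬ (q : ℕ) ∣ n → y = 1 := by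
    intro y n hy hn
    have h1 : orderOf y ∣ n := orderOf_dvd_of_pow_eq_one hy
    have h2 : orderOf y ∣ (q : ℕ) ^ s := by
      rw [← hs]; exact orderOf_dvd_natCard y
    have h3 : Nat.Coprime ((q : ℕ) ^ s) n :=
      Nat.Coprime.pow_left s ((Nat.Prime.coprime_iff_not_dvd hqf.out).mpr hn)
    exact orderOf_eq_one_iff.mp (Nat.eq_one_of_dvd_coprimes h3 h2 h1)
  have hpowa : ((e.symm a) q Q) ^ p ^ k = 1 := by
    have h1 : (e.symm a) ^ p ^ k = 1 := by rw [← map_pow, ha, map_one]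
    have h2 := congrFun (congrFun h1 q) Q
    simpa using h2
  have hpowb : ((e.symm b) q Q) ^ m = 1 := by
    have h1 : (e.symm b) ^ m = 1 := by rw [← map_pow, hb, map_one]
    have h2 := congrFun (congrFun h1 q) Q
    simpa using h2
  by_cases hqp : (q : ℕ) = p
  · have hqm : ¬ (q : ℕ) ∣ m := by rwa [hqp]
    rw [hone _ m hpowb hqm]
    simp
  · have hqk : ¬ (q : ℕ) ∣ p ^ k := by
      intro h
      have := hqf.out.dvd_of_dvd_pow h
      exact hqp ((Nat.prime_dvd_prime_iff_eq hqf.out hp.out).mp this)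
    rw [hone _ _ hpowa hqk]
    simp

/-- A `p`-subgroup in two maximal subgroups is abelian. -/
theorem abelian_of_two (hG : IsMinSimpleOddOrder G) {p : ℕ} [hpf : Fact p.Prime] {S M L : Subgroup G}
    (hM : IsCoatom M) (hL : IsCoatom L) (hne : L ≠ M) (hp : IsPGroup p S) (hSM : S ≤ M) (hSL : S ≤ L) :
    IsMulCommutative S := by
  by_contra h
  exact hne (uniq_eq (Cfsg.Agent.S1422.result hG p S hp h) hL hM hSL hSM)

theorem comm_of_abelian {S : Subgroup G} (h : IsMulCommutative S) {a b : G} (ha : a ∈ S) (hb : b ∈ S) :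
    a * b = b * a :=
  congrArg Subtype.val (h.is_comm.comm (⟨a, ha⟩ : S) ⟨b, hb⟩)

theorem not_beta_of_norm (hG : IsMinSimpleOddOrder G) {M : Subgroup G} (hM : IsCoatom M) {s : ℕ}
    [hsf : Fact s.Prime] (hs : s ∈ sigma M) {T : Subgroup G} (hTs : IsPGroup s T) (hT1 : T ≠ ⊥) (hTM : T ≤ M)
    (hN : ¬ normalizer (T : Set G) ≤ M) : s ∉ beta M := by
  intro hβ
  obtain ⟨z, hzT, hz1, hzs, -⟩ := exists_central hTs hT1
  have hzo : orderOf z = s := orderOf_eq_prime hzs hz1
  let P : Sylow s (sigmaCore M) := default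
  have h := Cfsg.Agent.S1423.result hG M hM s hs (zpowers z) (zpowers_le.mpr (hTM hzT))
    (by rw [Nat.card_zpowers, hzo]) P (Or.inl hβ)
  have hC : centralizer (T : Set G) ≤ M :=
    (Subgroup.centralizer_le (SetLike.coe_subset_coe.mpr (zpowers_le.mpr hzT))).trans h.1.1
  apply hN
  rw [(Cfsg.Agent.S1404.result hG M hM s hs T hTs hT1 hTM).2]
  exact sup_le inf_le_left hC

theorem not_beta_of_cent (hG : IsMinSimpleOddOrder G) {M : Subgroup G} (hM : IsCoatom M) {x : G}
    (hx : x ∈ sigmaCore M) (hCx : ¬ centralizer ({x} : Set G) ≤ M) {r : ℕ} (hr : r.Prime)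
    (hd : r ∣ orderOf x) : r ∉ beta M := by
  intro hβ
  haveI : Fact r.Prime := ⟨hr⟩
  have hσ := Cfsg.Agent.Lib.BGM3.beta_sub_sigma hG hM hβ
  set z := x ^ (orderOf x / r) with hz
  have hzo : orderOf z = r := orderOf_pow_orderOf_div (orderOf_pos x).ne' hd
  have hzM : z ∈ M := M.pow_mem (sigmaCore_le hx) _
  let P : Sylow r (sigmaCore M) := default
  have h := Cfsg.Agent.S1423.result hG M hM r hσ (zpowers z) (zpowers_le.mpr hzM)
    (by rw [Nat.card_zpowers, hzo]) P (Or.inl hβ)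
  apply hCx
  refine le_trans ?_ h.1.1
  intro c hc
  rw [Subgroup.mem_centralizer_iff]
  intro y hy
  rw [Subgroup.mem_centralizer_singleton_iff] at hc
  have hy' : y ∈ zpowers x := by
    have : zpowers z ≤ zpowers x := zpowers_le.mpr (pow_mem (mem_zpowers x) _)
    exact this hy
  obtain ⟨n, rfl⟩ := mem_zpowers_iff.mp hy'
  exact (Commute.zpow_right (show Commute c x from hc) n).eq.symm

/-- **Lemma S.** -/
theorem exists_sylow_cent (hG : IsMinSimpleOddOrder G) {M : Subgroup G} (hM : IsCoatom M) {x : G}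
    (hx : x ∈ sigmaCore M) (hCx : ¬ centralizer ({x} : Set G) ≤ M) {s : ℕ} [hsf : Fact s.Prime]
    (hs : s ∈ sigma M) {T L : Subgroup G} (hTs : IsPGroup s T) (hT1 : T ≠ ⊥) (hTM : T ≤ M)
    (hTC : T ≤ centralizer ({x} : Set G)) (hNT : ¬ normalizer (T : Set G) ≤ M) (hL : IsCoatom L)
    (hLN : normalizer (T : Set G) ≤ L) :
    ∃ S : Subgroup G, IsSylowIn s S (M ⊓ L) ∧ T ≤ S ∧ S ≤ centralizer ({x} : Set G) ∧
      normalizer (S : Set G) ≤ M ∧ IsSylowIn s S L := by
  classical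
  have hLM : L ≠ M := by rintro rfl; exact hNT hLN
  have hsβ := not_beta_of_norm hG hM hs hTs hT1 hTM hNT
  have hTL : T ≤ L := le_normalizer.trans hLN
  -- the first Sylow subgroup
  obtain ⟨S₁, hS₁, hTS₁⟩ := exists_isSylowIn_ge s (L := M ⊓ L) (le_inf hTM hTL) hTs
  have hS₁ab := abelian_of_two hG hM hL hLM hS₁.2.1 (hS₁.1.trans inf_le_left) (hS₁.1.trans inf_le_right)
  set H₁ := sigmaCore M ⊓ centralizer (T : Set G) with hH₁
  have hH₁M : H₁ ≤ M ⊓ L :=
    le_inf (inf_le_left.trans sigmaCore_le) (inf_le_right.trans ((Subgroup.centralizer_le_normalizer _).trans hLN))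
  have hxH₁ : x ∈ H₁ := by
    refine Subgroup.mem_inf.mpr ⟨hx, ?_⟩
    rw [Subgroup.mem_centralizer_iff]
    intro y hy
    have := hTC hy
    rw [Subgroup.mem_centralizer_singleton_iff] at this
    exact this
  have hS₁σ : S₁ ≤ sigmaCore M :=
    Cfsg.Agent.Lib.BGTau7.le_sigmaCore_of_pgroup hG hM hs (hS₁.1.trans inf_le_left) hS₁.2.1
  have hS₁C : S₁ ≤ centralizer (T : Set G) := by
    intro a ha
    rw [Subgroup.mem_centralizer_iff]
    intro y hy
    exact comm_of_abelian hS₁ab (hTS₁ hy) ha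
  have hS₁H : S₁ ≤ H₁ := le_inf hS₁σ hS₁C
  have hS₁H' : IsSylowIn s S₁ H₁ :=
    ⟨hS₁H, hS₁.2.1, fun R hR hRp hle => hS₁.2.2 R (hR.trans hH₁M) hRp hle⟩
  have hH₁s : Group.IsSolvable H₁ := solvable_of_le_coatom hG hM (hH₁M.trans inf_le_left)
  -- a Hall subgroup containing `x`
  set π : Set ℕ := {q | q.Prime ∧ q ∉ beta M} with hπ
  have hYπ : ∀ r : ℕ, r.Prime → r ∣ Nat.card (zpowers x) → r ∈ π := by
    intro r hr hd
    rw [Nat.card_zpowers] at hd
    exact ⟨hr, not_beta_of_cent hG hM hx hCx hr hd⟩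
  obtain ⟨H₀, hH₀, hH₀n⟩ := (Cfsg.Agent.S1414.result hG M hM).2.2.2.1
  -- Hall subgroup of `H₁` through `x`
  obtain ⟨H₂, hH₂⟩ : ∃ B, IsPiHallOf π B H₁ := by
    obtain ⟨B, h1, h2⟩ := Cfsg.Agent.Lib.HallExist.exists_hall (· ∈ π) ↥H₁
    refine ⟨B.map H₁.subtype, Subgroup.map_subtype_le _, ?_, ?_⟩
    · intro k hk hd
      rw [Subgroup.card_map_of_injective H₁.subtype_injective] at hd
      exact h1 k hk hd
    · intro k hk hkπ hd
      have e : (B.map H₁.subtype).relIndex H₁ = B.index := by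
        rw [Subgroup.relIndex, Subgroup.subgroupOf, Subgroup.comap_map_eq_self_of_injective H₁.subtype_injective]
      rw [e] at hd
      exact h2 k hk hd hkπ
  obtain ⟨g₂, hg₂, hxg₂⟩ := exists_conj_hall hH₁s hH₂ (zpowers_le.mpr hxH₁) hYπ
  set B : Subgroup G := cj H₂ g₂ with hB
  have hBH : IsPiHallOf π B H₁ := by
    have hg₂n : g₂ ∈ normalizer (H₁ : Set G) := le_normalizer hg₂
    refine ⟨?_, ?_, ?_⟩
    · have := cj_mono hH₂.1 g₂
      rwa [cj_eq_of_mem_normalizer hg₂n] at this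
    · intro k hk hd
      rw [hB, card_cj] at hd
      exact hH₂.2.1 k hk hd
    · intro k hk hkπ hd
      apply hH₂.2.2 k hk hkπ
      have hc1 : Nat.card H₂ * H₂.relIndex H₁ = Nat.card H₁ := by
        have := Subgroup.card_mul_index (H₂.subgroupOf H₁)
        rwa [card_subgroupOf_of_le hH₂.1] at this
      have hBle : B ≤ H₁ := by
        have := cj_mono hH₂.1 g₂
        rwa [cj_eq_of_mem_normalizer hg₂n] at this
      have hc2 : Nat.card B * B.relIndex H₁ = Nat.card H₁ := by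
        have := Subgroup.card_mul_index (B.subgroupOf H₁)
        rwa [card_subgroupOf_of_le hBle] at this
      have hc3 : Nat.card B = Nat.card H₂ := card_cj _ _
      rw [hc3, ← hc1] at hc2
      have := Nat.eq_of_mul_eq_mul_left Nat.card_pos hc2
      rwa [this] at hd
  have hBσ : B ≤ sigmaCore M := hBH.1.trans inf_le_left
  have hσs : Group.IsSolvable (sigmaCore M) := solvable_of_le_coatom hG hM sigmaCore_le
  obtain ⟨g₀, -, hg₀⟩ := exists_conj_hall hσs hH₀ hBσ hBH.2.1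
  have hBnil : Group.IsNilpotent B := nilpotent_of_le_cj hH₀n hg₀
  obtain ⟨S, hSB⟩ := exists_isSylowIn s B
  have hSH : IsSylowIn s S H₁ :=
    isSylowIn_of_hall hSB hBH.1 (hBH.2.2 s hsf.out ⟨hsf.out, hsβ⟩)
  have hTH : T ≤ H₁ := hTS₁.trans hS₁H
  have hTS : T ≤ S := by
    have hN : S ≤ normalizer (T : Set G) := hSH.1.trans (inf_le_right.trans (Subgroup.centralizer_le_normalizer _))
    have hp := isPGroup_sup_of_le_normalizer hSH.2.1 hTs hN
    have := hSH.2.2 (S ⊔ T) (sup_le hSH.1 hTH) hp le_sup_left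
    rw [← this]
    exact le_sup_right
  obtain ⟨g, hgH, hgS⟩ := hS₁H'.exists_conj hSH
  have hSML : IsSylowIn s S (M ⊓ L) := by
    rw [hgS]
    exact hS₁.cj_of_normalizer (le_normalizer (hH₁M hgH))
  have hSab := abelian_of_two hG hM hL hLM hSML.2.1 (hSML.1.trans inf_le_left) (hSML.1.trans inf_le_right)
  -- `S` centralizes `x`
  have hSC : S ≤ centralizer ({x} : Set G) := by
    intro a ha
    rw [Subgroup.mem_centralizer_singleton_iff]
    obtain ⟨w, v, k, m, hxw, hw, hv, hvp, hwm, hsm⟩ := exists_p_part s x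
    have hwB : w ∈ B := hxg₂ hw
    have hvB : v ∈ B := hxg₂ hv
    have haB : a ∈ B := hSB.1 ha
    obtain ⟨l, hl⟩ := hSB.2.1 ⟨a, ha⟩
    have hal : a ^ s ^ l = 1 := by
      simpa using congrArg Subtype.val hl
    have h1 : a * w = w * a := by
      have := comm_in_nilpotent hBnil (a := ⟨a, haB⟩) (b := ⟨w, hwB⟩) (p := s) (k := l) (m := m)
        (Subtype.ext (by simpa using hal)) (Subtype.ext (by simpa using hwm)) hsm
      exact congrArg Subtype.val this
    have hvS : v ∈ S :=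
      sylow_of_nilpotent_le hBnil hSB (zpowers_le.mpr hvB) (isP_zpowers hvp) (mem_zpowers v)
    have h2 : a * v = v * a := comm_of_abelian hSab ha hvS
    rw [hxw, ← mul_assoc, h1, mul_assoc, h2, mul_assoc]
  have e : ((hSML.toSylow : Subgroup ↥(M ⊓ L)).map (M ⊓ L).subtype) = S :=
    Subgroup.map_subgroupOf_eq_of_le hSML.1
  have h := Cfsg.Agent.S1424.result hG M hM s hs T hTs hT1 hTM L hL hLM hLN hSML.toSylow (by rw [e]; exact hTS)
  rw [e] at h
  refine ⟨S, hSML, hTS, hSC, h.2.1, ?_⟩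
  have hself : IsSylowIn s S S := ⟨le_rfl, hSML.2.1, fun R hR _ hle => le_antisymm hR hle⟩
  exact isSylowIn_of_hall hself (hSML.1.trans inf_le_right) h.2.2

end Cfsg.Agent.Lib.BGCent
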