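import Mathlib
import Cfsg.Agent.Lib.BGCent2

/-!
# Bender-Glauberman section 14: centralizers of elements of `M_σ`: Hall property, normal complement,
fusion and the regular action on conjugates.

Everything here is conditional on the hypothesis `H32`, the relevant part of the statement on
centralizers of elements of `M_σ` with prime divisors outside `σ(M)`.
-/

set_option autoImplicit false
set_option linter.unusedSectionVars false
set_option linter.unusedVariables false
set_option linter.style.haveILetI false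
set_option linter.unusedSimpArgs false

namespace Cfsg.Agent.Lib.BGCent

open Cfsg Subgroup Cfsg.Agent.Lib.CoprimeInv Cfsg.Agent.Lib.BGTrans Cfsg.Agent.Lib.BGTrans2 Cfsg.Agent.Lib.BGUniq
  Cfsg.Agent.Lib.BGUniq2 Cfsg.Agent.Lib.PCore Cfsg.Agent.Lib.BGTau7 Cfsg.Agent.Lib.BGM1 Cfsg.Agent.Lib.BGTau5
  Cfsg.Agent.Lib.BGTau3 Cfsg.Agent.Lib.BGM2 Cfsg.Agent.Lib.BGTau6 Cfsg.Agent.Lib.BGTau1 Cfsg.Agent.Lib.BGP2E
open scoped commutatorElement

universe u

variable {G : Type u} [Group G] [Finite G]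

/-- The part of the statement on `C_M(x)` used here. -/
def H32 (M : Subgroup G) : Prop :=
  ∀ x ∈ sigmaCore M, x ≠ 1 → ∀ x' ∈ M ⊓ centralizer ({x} : Set G), x' ≠ 1 →
    (∀ p : ℕ, p.Prime → p ∣ orderOf x' → p ∉ sigma M) → ¬ centralizer ({x} : Set G) ≤ M →
    centralizer ({x'} : Set G) ≤ M ∧ ∀ L : Subgroup G, IsCoatom L → centralizer ({x'} : Set G) ≤ L → L = M

/-- **Lemma A**: `C_M(x)` is a Hall subgroup of `C_G(x)`. -/
theorem coprime_index (hG : IsMinSimpleOddOrder G) {M : Subgroup G} (hM : IsCoatom M) (h32 : H32 M) {x : G}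
    (hx : x ∈ sigmaCore M) (hx1 : x ≠ 1) :
    (Nat.card ↥(M ⊓ centralizer ({x} : Set G))).Coprime
      ((M ⊓ centralizer ({x} : Set G)).relIndex (centralizer ({x} : Set G))) := by
  classical
  set C := centralizer ({x} : Set G) with hC
  set D := M ⊓ C with hD
  by_cases hCM : C ≤ M
  · have h1 : D.relIndex C = 1 := by
      rw [Subgroup.relIndex_eq_one]
      exact le_inf hCM le_rfl
    rw [h1]
    exact Nat.coprime_one_right _
  apply Nat.coprime_of_dvd
  intro r hr hr1 hr2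
  haveI : Fact r.Prime := ⟨hr⟩
  obtain ⟨R₀, hR₀⟩ := exists_isSylowIn r D
  have hR₀1 : R₀ ≠ ⊥ := sylow_ne_bot hR₀ hr1
  obtain ⟨R, hR, hR₀R⟩ := exists_isSylowIn_ge r (L := C) (hR₀.1.trans inf_le_right) hR₀.2.1
  have hlt : R₀ < R := by
    refine lt_of_le_of_ne hR₀R ?_
    rintro rfl
    have h0 : ¬ r ∣ R₀.relIndex C := hR.toSylow.not_dvd_index
    have h1 : R₀.relIndex D * D.relIndex C = R₀.relIndex C :=
      Subgroup.relIndex_mul_relIndex R₀ D C hR₀.1 inf_le_right
    exact h0 (h1 ▸ dvd_mul_of_dvd_right hr2 _)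
  obtain ⟨t, htR, htR₀, htN⟩ := Cfsg.Agent.Lib.CoprimeInv.exists_mem_normalizer_of_lt hR.2.1 hlt
  have hzt : IsPGroup r (zpowers t) := hR.2.1.to_le (zpowers_le.mpr htR)
  have hsup : IsPGroup r (zpowers t ⊔ R₀ : Subgroup G) :=
    isPGroup_sup_of_le_normalizer hzt hR₀.2.1 (zpowers_le.mpr htN)
  have htM : t ∉ M := by
    intro htM
    have htD : t ∈ D := Subgroup.mem_inf.mpr ⟨htM, hR.1 htR⟩
    have h1 := hR₀.2.2 (zpowers t ⊔ R₀) (sup_le (zpowers_le.mpr htD) hR₀.1) hsup le_sup_right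
    exact htR₀ (h1 ▸ mem_sup_left (mem_zpowers t))
  by_cases hrσ : r ∈ sigma M
  · have hNt : normalizer (R₀ : Set G) ≠ ⊤ :=
      IsMin.normalizer_ne_top hG hR₀1 (IsMin.isPGroup_ne_top hG hR₀.2.1)
    obtain ⟨L, hL, hLN⟩ := exists_coatom_ge hNt
    obtain ⟨S, hS, hTS, hSC, hNS, hSL⟩ := exists_sylow_cent hG hM hx hCM hrσ hR₀.2.1 hR₀1
      (hR₀.1.trans inf_le_left) (hR₀.1.trans inf_le_right) (fun h => htM (h htN)) hL hLN
    have hSD : S ≤ D := le_inf (hS.1.trans inf_le_left) hSC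
    have hSR₀ : S = R₀ := hR₀.2.2 S hSD hS.2.1 hTS
    rw [hSR₀] at hSL
    have h1 := hSL.2.2 (zpowers t ⊔ R₀) (sup_le (zpowers_le.mpr (hLN htN)) hSL.1) hsup le_sup_right
    exact htR₀ (h1 ▸ mem_sup_left (mem_zpowers t))
  · obtain ⟨z, hzR₀, hz1, hzr, hzc⟩ := exists_fixed_pgroup hR₀.2.1 hR₀1 (zpowers_le.mpr htN) hzt
    have hzo : orderOf z = r := orderOf_eq_prime hzr hz1
    have h1 := h32 x hx hx1 z (hR₀.1 hzR₀) hz1 (by
      intro p hp hd
      rw [hzo] at hd
      rwa [(Nat.prime_dvd_prime_iff_eq hp hr).mp hd]) hCM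
    apply htM
    apply h1.1
    rw [Subgroup.mem_centralizer_singleton_iff]
    exact (hzc t (mem_zpowers t)).symm

/-- Powers of a product in the normalizer. -/
theorem exists_pow_eq {Γ : Subgroup G} {γ n : G} (hγ : γ ∈ Γ) (hn : n ∈ normalizer (Γ : Set G)) (k : ℕ) :
    ∃ γ' ∈ Γ, (γ * n) ^ k = γ' * n ^ k := by
  induction k with
  | zero => exact ⟨1, Γ.one_mem, by simp⟩
  | succ k ih =>
    obtain ⟨γ', hγ', e⟩ := ih
    have hnk : n ^ k ∈ normalizer (Γ : Set G) := Subgroup.pow_mem _ hn k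
    refine ⟨γ' * (n ^ k * γ * (n ^ k)⁻¹), Γ.mul_mem hγ' ((mem_normalizer_iff.mp hnk γ).mp hγ), ?_⟩
    rw [pow_succ, e, pow_succ]
    group

/-- **The centralizing condition.** -/
theorem star (hG : IsMinSimpleOddOrder G) {M : Subgroup G} (hM : IsCoatom M) (h32 : H32 M) {x : G}
    (hx : x ∈ sigmaCore M) (hx1 : x ≠ 1) {s : ℕ} [hsf : Fact s.Prime] {T : Subgroup G}
    (hTs : IsPGroup s T) (hTD : T ≤ M ⊓ centralizer ({x} : Set G)) {t : G}
    (htC : t ∈ centralizer ({x} : Set G)) (htN : t ∈ normalizer (T : Set G))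
    (hto : (orderOf t).Coprime (Nat.card ↥(M ⊓ centralizer ({x} : Set G)))) :
    t ∈ centralizer (T : Set G) := by
  classical
  set C := centralizer ({x} : Set G) with hC
  set D := M ⊓ C with hD
  by_cases hT1 : T = ⊥
  · rw [hT1, Subgroup.mem_centralizer_iff]
    intro y hy
    have : y = 1 := by simpa using hy
    rw [this]; simp
  by_cases ht1 : t = 1
  · rw [ht1]; exact one_mem _
  have htM : t ∉ M := by
    intro h
    have htD : t ∈ D := Subgroup.mem_inf.mpr ⟨h, htC⟩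
    have h1 : orderOf t ∣ Nat.card D := Subgroup.orderOf_dvd_natCard _ htD
    have h2 := Nat.Coprime.eq_one_of_dvd hto h1
    exact ht1 (orderOf_eq_one_iff.mp h2)
  have hCM : ¬ C ≤ M := fun h => htM (h htC)
  have hTM : T ≤ M := hTD.trans inf_le_left
  have hM1 : M ≠ ⊥ := by
    rintro rfl
    exact hT1 (le_bot_iff.mp hTM)
  by_cases hsσ : s ∈ sigma M
  · have hNt : normalizer (T : Set G) ≠ ⊤ :=
      IsMin.normalizer_ne_top hG hT1 (IsMin.isPGroup_ne_top hG hTs)
    obtain ⟨L, hL, hLN⟩ := exists_coatom_ge hNt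
    obtain ⟨S, hS, hTS, hSC, hNS, hSL⟩ := exists_sylow_cent hG hM hx hCM hsσ hTs hT1 hTM
      (hTD.trans inf_le_right) (fun h => htM (h htN)) hL hLN
    have hLM : L ≠ M := by
      rintro rfl
      exact htM (hLN htN)
    have hSab := abelian_of_two hG hM hL hLM hS.2.1 (hS.1.trans inf_le_left) (hS.1.trans inf_le_right)
    set Γ : Subgroup G := L ⊓ centralizer (T : Set G) ⊓ C with hΓ
    have hSΓ : S ≤ Γ := by
      refine le_inf (le_inf hSL.1 ?_) hSC
      intro a ha
      rw [Subgroup.mem_centralizer_iff]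
      intro y hy
      exact comm_of_abelian hSab (hTS hy) ha
    have hSΓ' : IsSylowIn s S Γ :=
      ⟨hSΓ, hS.2.1, fun R hR hRp hle => hSL.2.2 R (hR.trans (inf_le_left.trans inf_le_left)) hRp hle⟩
    have htL : t ∈ L := hLN htN
    have htΓ : t ∈ normalizer (Γ : Set G) := by
      apply mem_normalizer_of_cj_eq
      ext y
      rw [mem_cj]
      have e1 : t⁻¹ * y * t ∈ L ↔ y ∈ L := by
        constructor
        · intro h
          have := L.mul_mem (L.mul_mem htL h) (L.inv_mem htL)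
          have e : t * (t⁻¹ * y * t) * t⁻¹ = y := by group
          rwa [e] at this
        · intro h
          exact L.mul_mem (L.mul_mem (L.inv_mem htL) h) htL
      have e3 : t⁻¹ * y * t ∈ C ↔ y ∈ C := by
        constructor
        · intro h
          have := C.mul_mem (C.mul_mem htC h) (C.inv_mem htC)
          have e : t * (t⁻¹ * y * t) * t⁻¹ = y := by group
          rwa [e] at this
        · intro h
          exact C.mul_mem (C.mul_mem (C.inv_mem htC) h) htC
      have e2 : t⁻¹ * y * t ∈ centralizer (T : Set G) ↔ y ∈ centralizer (T : Set G) := by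
        have hinv : t⁻¹ ∈ normalizer (T : Set G) := Subgroup.inv_mem _ htN
        constructor
        · intro h
          rw [Subgroup.mem_centralizer_iff] at h ⊢
          intro a ha
          have h1 := h _ ((mem_normalizer_iff.mp hinv a).mp ha)
          have e4 : t⁻¹ * a * t⁻¹⁻¹ * (t⁻¹ * y * t) = t⁻¹ * (a * y) * t := by group
          have e5 : t⁻¹ * y * t * (t⁻¹ * a * t⁻¹⁻¹) = t⁻¹ * (y * a) * t := by group
          rw [e4, e5] at h1
          exact mul_left_cancel (mul_right_cancel h1)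
        · intro h
          rw [Subgroup.mem_centralizer_iff] at h ⊢
          intro a ha
          have h1 := h _ ((mem_normalizer_iff.mp htN a).mp ha)
          have e4 : a * (t⁻¹ * y * t) = t⁻¹ * (t * a * t⁻¹ * y) * t := by group
          have e5 : t⁻¹ * y * t * a = t⁻¹ * (y * (t * a * t⁻¹)) * t := by group
          rw [e4, e5, h1]
      simp only [hΓ, Subgroup.mem_inf, e1, e2, e3]
    obtain ⟨γ, hγ, hγe⟩ := hSΓ'.exists_conj (hSΓ'.cj_of_normalizer htΓ)
    set n : G := γ⁻¹ * t with hn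
    have hnN : n ∈ normalizer (S : Set G) := by
      apply mem_normalizer_of_cj_eq
      rw [hn, ← cj_cj, hγe, cj_cj_inv]
    have hγC : γ ∈ C := hγ.2
    have hnD : n ∈ D := Subgroup.mem_inf.mpr ⟨hNS hnN, C.mul_mem (C.inv_mem hγC) htC⟩
    have hnpow : n ^ Nat.card D = 1 := by
      have h1 : orderOf n ∣ Nat.card D := Subgroup.orderOf_dvd_natCard _ hnD
      exact orderOf_dvd_iff_pow_eq_one.mp h1
    have hnΓ : n ∈ normalizer (Γ : Set G) :=
      Subgroup.mul_mem _ (Subgroup.inv_mem _ (le_normalizer hγ)) htΓ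
    have hte : t = γ * n := by rw [hn]; group
    obtain ⟨γ', hγ', hk⟩ := exists_pow_eq hγ hnΓ (Nat.card D)
    rw [← hte, hnpow, mul_one] at hk
    have htΓ' : t ∈ Γ := by
      apply Cfsg.Agent.Lib.BGTau7.mem_of_pow_coprime hto
      · rw [pow_orderOf_eq_one]; exact Γ.one_mem
      · rw [hk]; exact hγ'
    exact htΓ'.1.2
  · have hsp : s.Prime := hsf.out
    have hcyc : IsCyclic T := by
      by_contra hnc
      have hr : ¬ PRankLE s 1 T := by
        intro h
        apply hnc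
        have hs2 : s ≠ 2 := by
          apply prime_ne_two_of_dvd hG
          obtain ⟨z, hzT, hz1, hzs, -⟩ := exists_central hTs hT1
          have : orderOf z = s := orderOf_eq_prime hzs hz1
          rw [← this]
          exact orderOf_dvd_natCard z
        exact Cfsg.Agent.Lib.BGSigma4.isCyclic_of_prank_one hs2 hTs h
      obtain ⟨A, hAT, hAe, hAc⟩ := Cfsg.Agent.Lib.BGSigma3.exists_ea2 hr
      have hτ : s ∈ tau2 M := ⟨hsp, hsσ, Cfsg.Agent.Lib.BGTau7.rank2_of_not_sigma hG hM hsp hsσ,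
        Cfsg.Agent.Lib.BGTau7.not_rank_one_of_ea (hAT.trans hTM) hAe hAc⟩
      have T2' := T2.mk' hG hM hτ (hAT.trans hTM) hAe hAc
      have hd := T2'.d
      have hxin : x ∈ sigmaCore M ⊓ centralizer (A : Set G) := by
        refine Subgroup.mem_inf.mpr ⟨hx, ?_⟩
        rw [Subgroup.mem_centralizer_iff]
        intro a ha
        have h1 := (hTD.trans inf_le_right) (hAT ha)
        rw [Subgroup.mem_centralizer_singleton_iff] at h1
        exact h1
      rw [hd, Subgroup.mem_bot] at hxin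
      exact hx1 hxin
    obtain ⟨z, hzT, hz1, hzs, -⟩ := exists_central hTs hT1
    have hzo : orderOf z = s := orderOf_eq_prime hzs hz1
    have hz' : t * z * t⁻¹ ∈ T := (mem_normalizer_iff.mp htN z).mp hzT
    have hzs' : (t * z * t⁻¹) ^ s = 1 := by
      rw [conj_pow, hzs]; group
    have hz'1 : t * z * t⁻¹ ≠ 1 := by
      intro h
      apply hz1
      have e : z = t⁻¹ * (t * z * t⁻¹) * t := by group
      rw [e, h]; group
    have hmem := mem_zpowers_of_cyclic hcyc hsp hzT hz' hzo hzs'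
    have hzz := zpowers_eq_of_mem hzs hz'1 hmem
    have hCe := Cfsg.Agent.Lib.BGTau7.cent_eq_of_zpowers_eq hzz
    have h1 := h32 x hx hx1 z (hTD hzT) hz1 (by
      intro p hp hd
      rw [hzo] at hd
      rwa [(Nat.prime_dvd_prime_iff_eq hp hsp).mp hd]) hCM
    have h2 : centralizer ({z} : Set G) ≤ cj M t := by
      intro y hy
      rw [mem_cj]
      apply h1.1
      rw [← hCe, Subgroup.mem_centralizer_singleton_iff] at hy
      rw [Subgroup.mem_centralizer_singleton_iff]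
      have e1 : t⁻¹ * y * t * z = t⁻¹ * (y * (t * z * t⁻¹)) * t := by group
      have e2 : z * (t⁻¹ * y * t) = t⁻¹ * ((t * z * t⁻¹) * y) * t := by group
      rw [e1, e2, hy]
    have h3 := h1.2 (cj M t) (BGUniq3.isCoatom_cj hM t) h2
    have h4 : t ∈ normalizer (M : Set G) := mem_normalizer_of_cj_eq h3
    rw [norm_eq_self hG hM hM1] at h4
    exact (htM h4).elim

/-- **Lemma B**: normal complement to `C_M(x)` in `C_G(x)`. -/
theorem exists_compl (hG : IsMinSimpleOddOrder G) {M : Subgroup G} (hM : IsCoatom M) (h32 : H32 M) {x : G}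
    (hx : x ∈ sigmaCore M) (hx1 : x ≠ 1) :
    ∃ R : Subgroup G, centralizer ({x} : Set G) ≤ normalizer (R : Set G) ∧
      IsComplIn (M ⊓ centralizer ({x} : Set G)) R (centralizer ({x} : Set G)) := by
  apply exists_normal_compl_in inf_le_right (IsMin.solvable hG (IsMin.centralizer_singleton_ne_top hG hx1))
    (coprime_index hG hM h32 hx hx1)
  intro u _ T hT hTD t htC htN hto
  exact star hG hM h32 hx hx1 hT hTD htC htN hto

/-- **Lemma F**: `M` controls fusion of the elements of `M_σ`. -/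
theorem fusion (hG : IsMinSimpleOddOrder G) {M : Subgroup G} (hM : IsCoatom M) (h32 : H32 M) {x g : G}
    (hx : x ∈ sigmaCore M) (hxg : g * x * g⁻¹ ∈ M) : ∃ m ∈ M, g * x * g⁻¹ = m * x * m⁻¹ := by
  classical
  by_cases hx1 : x = 1
  · exact ⟨1, M.one_mem, by simp [hx1]⟩
  have h1 : orderOf x ≠ 1 := fun h => hx1 (orderOf_eq_one_iff.mp h)
  obtain ⟨p, hp, hpd⟩ := Nat.exists_prime_and_dvd h1
  haveI : Fact p.Prime := ⟨hp⟩
  obtain ⟨w, u, k, l, hxw, hw, hu, hup, hwl, hpl⟩ := exists_p_part p x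
  have hσ : p ∈ sigma M := primes_sigmaCore p hp (hpd.trans (Subgroup.orderOf_dvd_natCard _ hx))
  have hu1 : u ≠ 1 := by
    rintro rfl
    rw [mul_one] at hxw
    rw [← hxw] at hwl
    exact hpl (hpd.trans (orderOf_dvd_of_pow_eq_one hwl))
  have hzle : zpowers x ≤ sigmaCore M := zpowers_le.mpr hx
  have huσ : u ∈ sigmaCore M := hzle hu
  have hwM : w ∈ M := sigmaCore_le (hzle hw)
  have huM : u ∈ M := sigmaCore_le huσ
  have hX : IsPGroup p (zpowers u) := isP_zpowers hup
  have hX1 : zpowers u ≠ ⊥ := by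
    intro h
    exact hu1 (zpowers_eq_bot.mp h)
  have hXg : (zpowers u).map (MulAut.conj g).toMonoidHom ≤ M := by
    rintro _ ⟨y, hy, rfl⟩
    have hyx : y ∈ zpowers x := (zpowers_le.mpr hu) hy
    obtain ⟨n, rfl⟩ := mem_zpowers_iff.mp hyx
    have : (MulAut.conj g).toMonoidHom (x ^ n) = (g * x * g⁻¹) ^ n := by
      simp [conj_zpow]
    rw [this]
    exact zpow_mem hxg n
  obtain ⟨m₁, hm₁, c, hc, hgc⟩ := (Cfsg.Agent.S1404.result hG M hM p hσ (zpowers u) hX hX1 (zpowers_le.mpr huM)).1 g hXg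
  have hcu : c ∈ centralizer ({u} : Set G) := by
    rw [Subgroup.mem_centralizer_singleton_iff]
    exact (Subgroup.mem_centralizer_iff.mp hc u (mem_zpowers u)).symm
  -- the complement at `u`
  obtain ⟨R, hRn, hR⟩ := exists_compl hG hM h32 huσ hu1
  obtain ⟨d, hd, r, hr, hcdr⟩ := hR.2.2.2 c hcu
  have hwu : w * u = u * w := by
    obtain ⟨a, rfl⟩ := mem_zpowers_iff.mp hw
    obtain ⟨b, rfl⟩ := mem_zpowers_iff.mp hu
    exact (Commute.zpow_zpow_self x a b).eq
  have hwC : w ∈ centralizer ({u} : Set G) := by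
    rw [Subgroup.mem_centralizer_singleton_iff]; exact hwu
  have hwD : w ∈ M ⊓ centralizer ({u} : Set G) := Subgroup.mem_inf.mpr ⟨hwM, hwC⟩
  have hcucomm : c * u = u * c := by
    rw [Subgroup.mem_centralizer_singleton_iff] at hcu
    exact hcu
  -- `c x c⁻¹` lies in `M`
  have hcx : c * x * c⁻¹ ∈ M := by
    have h2 : c * x * c⁻¹ = m₁⁻¹ * (g * x * g⁻¹) * m₁ := by
      rw [hgc]; group
    rw [h2]
    exact M.mul_mem (M.mul_mem (M.inv_mem hm₁) hxg) hm₁
  have hcw : c * w * c⁻¹ ∈ M ⊓ centralizer ({u} : Set G) := by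
    refine Subgroup.mem_inf.mpr ⟨?_, ?_⟩
    · have e : c * w * c⁻¹ = (c * x * c⁻¹) * u⁻¹ := by
        have e1 : c * u * c⁻¹ = u := by rw [hcucomm]; group
        have e2 : c * x * c⁻¹ = c * w * c⁻¹ * (c * u * c⁻¹) := by rw [hxw]; group
        rw [e2, e1]; group
      rw [e]
      exact M.mul_mem hcx (M.inv_mem huM)
    · exact Subgroup.mul_mem _ (Subgroup.mul_mem _ hcu hwC) (Subgroup.inv_mem _ hcu)
  -- the commutator of `r` and `w` vanishes
  have hrC : r ∈ centralizer ({u} : Set G) := hR.2.1 hr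
  have hdC : d ∈ centralizer ({u} : Set G) := (Subgroup.mem_inf.mp hd).2
  have hdM : d ∈ M := (Subgroup.mem_inf.mp hd).1
  have hcomm : r * w * r⁻¹ * w⁻¹ ∈ (M ⊓ centralizer ({u} : Set G)) ⊓ R := by
    refine Subgroup.mem_inf.mpr ⟨?_, ?_⟩
    · have e : r * w * r⁻¹ = d⁻¹ * (c * w * c⁻¹) * d := by
        rw [hcdr]; group
      rw [e]
      exact Subgroup.mul_mem _ (Subgroup.mul_mem _ (Subgroup.mul_mem _ (Subgroup.inv_mem _ hd) hcw) hd)
        (Subgroup.inv_mem _ hwD)
    · have e : r * w * r⁻¹ * w⁻¹ = r * (w * r⁻¹ * w⁻¹) := by group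
      rw [e]
      exact R.mul_mem hr ((mem_normalizer_iff.mp (hRn hwC) _).mp (R.inv_mem hr))
  rw [hR.2.2.1, Subgroup.mem_bot] at hcomm
  have hrw : r * w * r⁻¹ = w := by
    rwa [mul_inv_eq_one] at hcomm
  have hdu : d * u * d⁻¹ = u := by
    rw [Subgroup.mem_centralizer_singleton_iff] at hdC
    rw [hdC]; group
  have hru : r * u * r⁻¹ = u := by
    rw [Subgroup.mem_centralizer_singleton_iff] at hrC
    rw [hrC]; group
  refine ⟨m₁ * d, M.mul_mem hm₁ hdM, ?_⟩
  have e1 : r * x * r⁻¹ = x := by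
    have e2 : r * x * r⁻¹ = (r * w * r⁻¹) * (r * u * r⁻¹) := by rw [hxw]; group
    rw [e2, hrw, hru, hxw]
  have e3 : g * x * g⁻¹ = m₁ * d * (r * x * r⁻¹) * (m₁ * d)⁻¹ := by
    rw [hgc, hcdr]; group
  rw [e3, e1]

/-- **Regular action** on the conjugates of `M` containing `x`. -/
theorem regular (hG : IsMinSimpleOddOrder G) {M : Subgroup G} (hM : IsCoatom M) (h32 : H32 M) {x : G}
    (hx : x ∈ sigmaCore M) (hx1 : x ≠ 1) {R : Subgroup G}
    (hR : IsComplIn (M ⊓ centralizer ({x} : Set G)) R (centralizer ({x} : Set G))) (g : G)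
    (hg : x ∈ cj M g) : ∃! r : G, r ∈ R ∧ cj M r = cj M g := by
  classical
  have hM1 : M ≠ ⊥ := by
    intro h
    have h2 := sigmaCore_le hx
    rw [h, Subgroup.mem_bot] at h2
    exact hx1 h2
  rw [mem_cj] at hg
  obtain ⟨m, hm, hme⟩ := fusion hG hM h32 (g := g⁻¹) hx (by simpa using hg)
  set c : G := g * m with hc
  have hcC : c ∈ centralizer ({x} : Set G) := by
    rw [Subgroup.mem_centralizer_singleton_iff]
    have e1 : m * x * m⁻¹ = g⁻¹ * x * g := by
      rw [← hme]; group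
    have e2 : m * x = g⁻¹ * x * g * m := by
      rw [← e1]; group
    rw [hc]
    calc g * m * x = g * (m * x) := by group
      _ = g * (g⁻¹ * x * g * m) := by rw [e2]
      _ = x * (g * m) := by group
  have hcM : cj M c = cj M g := by
    rw [hc, ← cj_cj, cj_eq_of_mem_normalizer (le_normalizer hm)]
  obtain ⟨d, hd, r, hr, hdr⟩ := hR.2.2.2 c⁻¹ (Subgroup.inv_mem _ hcC)
  have hdM : d ∈ M := (Subgroup.mem_inf.mp hd).1
  have hcr : c = r⁻¹ * d⁻¹ := by
    have : c = (c⁻¹)⁻¹ := by group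
    rw [this, hdr]; group
  refine ⟨r⁻¹, ⟨R.inv_mem hr, ?_⟩, ?_⟩
  · rw [← hcM, hcr, ← cj_cj, cj_eq_of_mem_normalizer (le_normalizer (M.inv_mem hdM))]
  · rintro r' ⟨hr', he'⟩
    have h1 : cj M r' = cj M r⁻¹ := by
      rw [he', ← hcM, hcr, ← cj_cj, cj_eq_of_mem_normalizer (le_normalizer (M.inv_mem hdM))]
    have h2 : r * r' ∈ normalizer (M : Set G) := by
      apply mem_normalizer_of_cj_eq
      rw [← cj_cj, h1, cj_cj]
      simp [cj_one]
    rw [norm_eq_self hG hM hM1] at h2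
    have h3 : r * r' ∈ (M ⊓ centralizer ({x} : Set G)) ⊓ R :=
      Subgroup.mem_inf.mpr ⟨Subgroup.mem_inf.mpr ⟨h2, Subgroup.mul_mem _ (hR.2.1 hr) (hR.2.1 hr')⟩, R.mul_mem hr hr'⟩
    rw [hR.2.2.1, Subgroup.mem_bot] at h3
    exact eq_inv_of_mul_eq_one_right h3

/-- **Main theorem** on centralizers of elements of `M_σ`. -/
theorem main (hG : IsMinSimpleOddOrder G) {M : Subgroup G} (hM : IsCoatom M) (h32 : H32 M) {x : G}
    (hx : x ∈ sigmaCore M) (hx1 : x ≠ 1) :
    (Nat.card ↥(M ⊓ centralizer ({x} : Set G))).Coprime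
        ((M ⊓ centralizer ({x} : Set G)).relIndex (centralizer ({x} : Set G))) ∧
      ∃ R : Subgroup G, centralizer ({x} : Set G) ≤ normalizer (R : Set G) ∧
        IsComplIn (M ⊓ centralizer ({x} : Set G)) R (centralizer ({x} : Set G)) ∧
        ∀ g : G, x ∈ M.map (MulAut.conj g).toMonoidHom →
          ∃! r : G, r ∈ R ∧ M.map (MulAut.conj r).toMonoidHom = M.map (MulAut.conj g).toMonoidHom := by
  refine ⟨coprime_index hG hM h32 hx hx1, ?_⟩
  obtain ⟨R, hRn, hR⟩ := exists_compl hG hM h32 hx hx1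
  exact ⟨R, hRn, hR, fun g hg => regular hG hM h32 hx hx1 hR g hg⟩

end Cfsg.Agent.Lib.BGCent
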