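import Mathlib
import Cfsg.Agent.Lib.BGCent3
import Cfsg.Agent.S1408

/-!
# Bender-Glauberman section 14: `M ∩ C_G(H)` for a Hall subgroup `H` of `M_σ`.
-/

set_option autoImplicit false
set_option linter.unusedSectionVars false
set_option linter.unusedVariables false
set_option linter.style.haveILetI false
set_option linter.unusedSimpArgs false

namespace Cfsg.Agent.Lib.BGCent

open Cfsg Subgroup Cfsg.Agent.Lib.CoprimeInv Cfsg.Agent.Lib.BGTrans Cfsg.Agent.Lib.BGTrans2 Cfsg.Agent.Lib.BGUniq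
  Cfsg.Agent.Lib.BGUniq2 Cfsg.Agent.Lib.PCore Cfsg.Agent.Lib.BGTau7 Cfsg.Agent.Lib.BGM1 Cfsg.Agent.Lib.BGTau5
  Cfsg.Agent.Lib.BGTau3 Cfsg.Agent.Lib.BGM2 Cfsg.Agent.Lib.BGTau6 Cfsg.Agent.Lib.BGTau1 Cfsg.Agent.Lib.BGP2E
open scoped commutatorElement

universe u

variable {G : Type u} [Group G] [Finite G]

/-- A Hall subgroup through a given `π`-subgroup of a solvable subgroup. -/
theorem exists_hall_ge {π : Set ℕ} {H Y : Subgroup G} (hs : Group.IsSolvable H) (hYH : Y ≤ H)
    (hY : ∀ r : ℕ, r.Prime → r ∣ Nat.card Y → r ∈ π) : ∃ B, Y ≤ B ∧ IsPiHallOf π B H := by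
  classical
  obtain ⟨H₂, hH₂⟩ : ∃ B, IsPiHallOf π B H := by
    obtain ⟨B, h1, h2⟩ := Cfsg.Agent.Lib.HallExist.exists_hall (· ∈ π) ↥H
    refine ⟨B.map H.subtype, Subgroup.map_subtype_le _, ?_, ?_⟩
    · intro k hk hd
      rw [Subgroup.card_map_of_injective H.subtype_injective] at hd
      exact h1 k hk hd
    · intro k hk hkπ hd
      have e : (B.map H.subtype).relIndex H = B.index := by
        rw [Subgroup.relIndex, Subgroup.subgroupOf, Subgroup.comap_map_eq_self_of_injective H.subtype_injective]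
      rw [e] at hd
      exact h2 k hk hd hkπ
  obtain ⟨g₂, hg₂, hxg₂⟩ := exists_conj_hall hs hH₂ hYH hY
  refine ⟨cj H₂ g₂, hxg₂, ?_⟩
  have hg₂n : g₂ ∈ normalizer (H : Set G) := le_normalizer hg₂
  have hBle : cj H₂ g₂ ≤ H := by
    have := cj_mono hH₂.1 g₂
    rwa [cj_eq_of_mem_normalizer hg₂n] at this
  refine ⟨hBle, ?_, ?_⟩
  · intro k hk hd
    rw [card_cj] at hd
    exact hH₂.2.1 k hk hd
  · intro k hk hkπ hd
    apply hH₂.2.2 k hk hkπ
    have hc1 : Nat.card H₂ * H₂.relIndex H = Nat.card H := by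
      have := Subgroup.card_mul_index (H₂.subgroupOf H)
      rwa [card_subgroupOf_of_le hH₂.1] at this
    have hc2 : Nat.card (cj H₂ g₂) * (cj H₂ g₂).relIndex H = Nat.card H := by
      have := Subgroup.card_mul_index ((cj H₂ g₂).subgroupOf H)
      rwa [card_subgroupOf_of_le hBle] at this
    have hc3 : Nat.card (cj H₂ g₂) = Nat.card H₂ := card_cj _ _
    rw [hc3, ← hc1] at hc2
    have := Nat.eq_of_mul_eq_mul_left Nat.card_pos hc2
    rwa [this] at hd

/-- A complement of `M_σ` through a given `σ(M)'`-subgroup of `M`. -/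
theorem exists_compl_ge (hG : IsMinSimpleOddOrder G) {M Y : Subgroup G} (hM : IsCoatom M) (hYM : Y ≤ M)
    (hY : ∀ r : ℕ, r.Prime → r ∣ Nat.card Y → r ∉ sigma M) :
    ∃ E, Y ≤ E ∧ IsComplIn E (sigmaCore M) M := by
  classical
  have hs : Group.IsSolvable M := solvable_of_le_coatom hG hM le_rfl
  obtain ⟨B, hYB, hB⟩ := exists_hall_ge (π := {q | q.Prime ∧ q ∉ sigma M}) hs hYM (fun r hr hd => ⟨hr, hY r hr hd⟩)
  refine ⟨B, hYB, hB.1, sigmaCore_le, ?_, ?_⟩
  · apply inf_eq_bot_of_coprime'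
    apply Nat.coprime_of_dvd
    intro k hk hk1 hk2
    exact (hB.2.1 k hk hk1).2 (primes_sigmaCore k hk hk2)
  · have hsup : B ⊔ sigmaCore M = M := by
      apply le_antisymm (sup_le hB.1 sigmaCore_le)
      have hi : (B ⊔ sigmaCore M).relIndex M = 1 := by
        by_contra hne
        obtain ⟨k, hk, hkd⟩ := Nat.exists_prime_and_dvd hne
        by_cases hkσ : k ∈ sigma M
        · exact (sigma_hall hG hM).1.2.2 k hk hkσ
            (hkd.trans (Subgroup.relIndex_dvd_of_le_left M le_sup_right))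
        · exact hB.2.2 k hk ⟨hk, hkσ⟩ (hkd.trans (Subgroup.relIndex_dvd_of_le_left M le_sup_left))
      exact Subgroup.relIndex_eq_one.mp hi
    intro m hm
    rw [← hsup] at hm
    exact mul_of_mem_sup (hB.1.trans le_normalizer_sigmaCore) hm

/-- A `τ₂(M)`-subgroup of a complement: all its primes lie in `σ(L)` for `L ≥ N_G(A)`; it is nilpotent. -/
theorem nilpotent_of_tau2 (hG : IsMinSimpleOddOrder G) {M X : Subgroup G} (hM : IsCoatom M) (hXM : X ≤ M)
    (hX : ∀ r : ℕ, r.Prime → r ∣ Nat.card X → r ∈ tau2 M) : Group.IsNilpotent X := by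
  classical
  by_cases hX1 : X = ⊥
  · rw [hX1]
    infer_instance
  obtain ⟨E, hXE, hE⟩ := exists_compl_ge hG hM hXM (fun r hr hd => (hX r hr hd).2.1)
  -- a prime of `X`
  have hcard : Nat.card X ≠ 1 := by
    intro h
    exact hX1 (Subgroup.card_eq_one.mp h)
  obtain ⟨p, hp, hpd⟩ := Nat.exists_prime_and_dvd hcard
  haveI hpf : Fact p.Prime := ⟨hp⟩
  have hpτ := hX p hp hpd
  -- an elementary abelian subgroup inside `E`
  obtain ⟨A₀, hA₀M, hA₀e, hA₀c⟩ := Cfsg.Agent.Lib.BGSigma3.exists_ea2 hpτ.2.2.2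
  obtain ⟨P₀, hP₀⟩ := exists_isSylowIn p E
  have hP₀M : IsSylowIn p P₀ M := by
    apply isSylowIn_of_hall hP₀ hE.1
    rw [show E.relIndex M = Nat.card (sigmaCore M) from ?_]
    · exact not_dvd_sigmaCore hp hpτ.2.1
    · have h1 := card_compl hE
      have h2 : Nat.card E * E.relIndex M = Nat.card M := by
        have := Subgroup.card_mul_index (E.subgroupOf M)
        rwa [card_subgroupOf_of_le hE.1] at this
      exact Nat.eq_of_mul_eq_mul_left Nat.card_pos (h2.trans h1.symm)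
  have hA₀p : IsPGroup p A₀ := Cfsg.Agent.Lib.BGSigma3.isPGroup_of_ea hA₀e
  obtain ⟨P₁, hP₁, hA₀P₁⟩ := exists_isSylowIn_ge p hA₀M hA₀p
  obtain ⟨m, hm, hmP⟩ := hP₁.exists_conj hP₀M
  set A : Subgroup G := cj A₀ m with hA
  have hAP₀ : A ≤ P₀ := by
    rw [hmP]
    exact cj_mono hA₀P₁ m
  have hAE : A ≤ E := hAP₀.trans hP₀.1
  have T₀ : T2 M A₀ p := T2.mk' hG hM hpτ hA₀M hA₀e hA₀c
  have T : T2 M A p := T₀.conj hm
  have hA1 : A ≠ ⊥ := T.A_ne_bot
  have hNt : normalizer (A : Set G) ≠ ⊤ := IsMin.normalizer_ne_top hG hA1 (IsMin.isPGroup_ne_top hG T.isP)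
  obtain ⟨L, hL, hLN⟩ := exists_coatom_ge hNt
  have hEL : E ≤ L := (T.compl_norm hE hAE).trans hLN
  have hAL : A ≤ L := hAE.trans hEL
  have hpL : p ∈ sigma L := by
    by_contra hpL
    have hτ : p ∈ tau2 L := ⟨hp, hpL, rank2_of_not_sigma hG hL hp hpL, not_rank_one_of_ea hAL T.ea T.card⟩
    obtain ⟨t, ht, htA⟩ := (T2.mk' hG hL hτ hAL T.ea T.card).exists_t
    exact ht (hLN htA)
  have hAσ : A ≤ sigmaCore L := le_sigmaCore_of_pgroup hG hL hpL hAL T.isP
  have hprimes : ∀ r : ℕ, r.Prime → r ∣ Nat.card X → r ∈ sigma L := by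
    intro r hr hd
    by_cases hrp : r = p
    · rwa [hrp]
    haveI : Fact r.Prime := ⟨hr⟩
    obtain ⟨B, TB, hBC⟩ := T.exists_inv_ea (hX r hr hd) hrp
    by_contra hrL
    have hBL : B ≤ L := hBC.trans ((Subgroup.centralizer_le_normalizer _).trans hLN)
    have hτ : r ∈ tau2 L := ⟨hr, hrL, rank2_of_not_sigma hG hL hr hrL, not_rank_one_of_ea hBL TB.ea TB.card⟩
    have hd' := (T2.mk' hG hL hτ hBL TB.ea TB.card).d
    apply hA1
    rw [eq_bot_iff, ← hd']
    refine le_inf hAσ ?_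
    intro a ha
    rw [Subgroup.mem_centralizer_iff]
    intro b hb
    exact (Subgroup.mem_centralizer_iff.mp (hBC hb) a ha).symm
  have hXσ : X ≤ sigmaCore L := by
    apply le_of_forall_pgroup_le
    intro q _ Q hQX hQq
    by_cases hQ1 : Q = ⊥
    · rw [hQ1]; exact bot_le
    · have hd : q ∣ Nat.card X :=
        (dvd_card_of_isPGroup hQq hQ1).trans (Subgroup.card_dvd_of_le hQX)
      exact le_sigmaCore_of_pgroup hG hL (hprimes q Fact.out hd) (hQX.trans (hXE.trans hEL)) hQq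
  have hβ : ∀ r : ℕ, r.Prime → r ∣ Nat.card X → r ∈ {q | q.Prime ∧ q ∉ beta L} := by
    intro r hr hd
    haveI : Fact r.Prime := ⟨hr⟩
    have hrτ := hX r hr hd
    exact ⟨hr, fun hβ => (Cfsg.Agent.S1408.result hG M hM r hrτ.2.1 hrτ.2.2.1 hrτ.2.2.2).1 hβ.2⟩
  obtain ⟨H₀, hH₀, hH₀n⟩ := (Cfsg.Agent.S1414.result hG L hL).2.2.2.1
  obtain ⟨g, -, hg⟩ := exists_conj_hall (solvable_of_le_coatom hG hL sigmaCore_le) hH₀ hXσ hβ
  exact nilpotent_of_le_cj hH₀n hg

/-- **First part**: `M ∩ C_G(H)` is `(M_σ ∩ C_G(H)) X` with `X` cyclic. -/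
theorem first_part (hG : IsMinSimpleOddOrder G) {M H : Subgroup G} (hM : IsCoatom M) (hH : H ≤ sigmaCore M)
    (hH1 : H ≠ ⊥)
    (hτ : ∀ x' ∈ M ⊓ centralizer (H : Set G), x' ≠ 1 → (∀ p : ℕ, p.Prime → p ∣ orderOf x' → p ∉ sigma M) →
      ∀ p : ℕ, p.Prime → p ∣ orderOf x' → p ∈ tau2 M) :
    ∃ X : Subgroup G, IsCyclic X ∧ (∀ p : ℕ, p.Prime → p ∣ Nat.card X → p ∈ tau2 M) ∧
      M ⊓ centralizer (H : Set G) = (sigmaCore M ⊓ centralizer (H : Set G)) ⊔ X := by
  classical
  set C := M ⊓ centralizer (H : Set G) with hC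
  have hCs : Group.IsSolvable C := solvable_of_le_coatom hG hM inf_le_left
  obtain ⟨X, -, hX⟩ := exists_hall_ge (π := {q | q.Prime ∧ q ∉ sigma M}) (Y := ⊥) hCs bot_le (by
    intro r hr hd
    rw [Subgroup.card_bot] at hd
    exact (hr.one_lt.ne' (Nat.dvd_one.mp hd)).elim)
  have hXM : X ≤ M := hX.1.trans inf_le_left
  have hXτ : ∀ p : ℕ, p.Prime → p ∣ Nat.card X → p ∈ tau2 M := by
    intro p hp hd
    haveI : Fact p.Prime := ⟨hp⟩
    obtain ⟨x, hx⟩ := exists_prime_orderOf_dvd_card' (G := X) p hd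
    have hxo : orderOf (x : G) = p := by rw [← hx]; exact Subgroup.orderOf_coe x
    have hx1 : (x : G) ≠ 1 := by
      intro h
      rw [h, orderOf_one] at hxo
      exact hp.one_lt.ne hxo
    refine hτ (x : G) (hX.1 x.2) hx1 ?_ p hp (by rw [hxo])
    intro q hq hqd
    rw [hxo] at hqd
    rw [(Nat.prime_dvd_prime_iff_eq hq hp).mp hqd]
    exact (hX.2.1 p hp hd).2
  refine ⟨X, ?_, hXτ, ?_⟩
  · have hXn := nilpotent_of_tau2 hG hM hXM hXτ
    have hZ : IsZGroup X := by
      refine ⟨fun p hp P => ?_⟩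
      haveI : Fact p.Prime := ⟨hp⟩
      by_contra hnc
      have hQp : IsPGroup p ((P : Subgroup X).map X.subtype) := P.isPGroup'.map _
      have hr : ¬ PRankLE p 1 ((P : Subgroup X).map X.subtype) := by
        intro h
        apply hnc
        have hp2 : p ≠ 2 := by
          by_contra h2
          apply hnc
          haveI : Finite (P : Subgroup X) := inferInstance
          by_cases hd : p ∣ Nat.card G
          · exact ((prime_ne_two_of_dvd hG hd) h2).elim
          · have h1 : (P : Subgroup X) = ⊥ := by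
              by_contra hne
              exact hd (dvd_of_isPGroup P.isPGroup' hne |>.trans (Subgroup.card_subgroup_dvd_card X))
            rw [h1]
            infer_instance
        have hc := Cfsg.Agent.Lib.BGSigma4.isCyclic_of_prank_one hp2 hQp h
        exact isCyclic_of_surjective _ (Subgroup.equivMapOfInjective (P : Subgroup X) X.subtype X.subtype_injective).symm.surjective
      obtain ⟨A, hAP, hAe, hAc⟩ := Cfsg.Agent.Lib.BGSigma3.exists_ea2 hr
      have hAX : A ≤ X := hAP.trans (Subgroup.map_subtype_le _)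
      have hA1 : A ≠ ⊥ := by
        rintro rfl
        rw [Subgroup.card_bot] at hAc
        have h3 := Nat.one_lt_pow (n := 2) (by norm_num) hp.one_lt
        omega
      have hd : p ∣ Nat.card X := (dvd_card_of_isPGroup (Cfsg.Agent.Lib.BGSigma3.isPGroup_of_ea hAe) hA1).trans
        (Subgroup.card_dvd_of_le hAX)
      have T := T2.mk' hG hM (hXτ p hp hd) (hAX.trans hXM) hAe hAc
      apply hH1
      rw [eq_bot_iff, ← T.d]
      refine le_inf hH ?_
      intro h hh
      rw [Subgroup.mem_centralizer_iff]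
      intro a ha
      exact (Subgroup.mem_centralizer_iff.mp (hX.1 (hAX ha)).2 h hh).symm
    infer_instance
  · apply le_antisymm
    · have hle : (sigmaCore M ⊓ centralizer (H : Set G)) ⊔ X ≤ C :=
        sup_le (inf_le_inf_right _ sigmaCore_le) hX.1
      have hi : ((sigmaCore M ⊓ centralizer (H : Set G)) ⊔ X).relIndex C = 1 := by
        by_contra hne
        obtain ⟨k, hk, hkd⟩ := Nat.exists_prime_and_dvd hne
        by_cases hkσ : k ∈ sigma M
        · haveI : Fact k.Prime := ⟨hk⟩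
          obtain ⟨Q, hQ⟩ := exists_isSylowIn k C
          have hQσ : Q ≤ sigmaCore M := le_sigmaCore_of_pgroup hG hM hkσ (hQ.1.trans inf_le_left) hQ.2.1
          have hQY : Q ≤ (sigmaCore M ⊓ centralizer (H : Set G)) ⊔ X :=
            (le_inf hQσ (hQ.1.trans inf_le_right)).trans le_sup_left
          exact hQ.toSylow.not_dvd_index (hkd.trans (Subgroup.relIndex_dvd_of_le_left C hQY))
        · exact hX.2.2 k hk ⟨hk, hkσ⟩ (hkd.trans (Subgroup.relIndex_dvd_of_le_left C le_sup_right))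
      exact Subgroup.relIndex_eq_one.mp hi
    · exact sup_le (inf_le_inf_right _ sigmaCore_le) hX.1

end Cfsg.Agent.Lib.BGCent
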