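import Mathlib
import Cfsg.Agent.Lib.BGP3C
import Cfsg.Agent.S1423

/-!
# `M_σ = [M_σ, E]`; the intersections of `M_σ` with the conjugates of `M`.
-/

set_option autoImplicit false
set_option linter.unusedSectionVars false
set_option linter.unusedVariables false
set_option linter.style.haveILetI false
set_option linter.unusedSimpArgs false

namespace Cfsg.Agent.Lib.BGP3D

open Cfsg Subgroup Cfsg.Agent.Lib.CoprimeInv Cfsg.Agent.Lib.BGTrans Cfsg.Agent.Lib.Glauberman
  Cfsg.Agent.Lib.BGSigma Cfsg.Agent.Lib.BGSigma2 Cfsg.Agent.Lib.BGSigma3 Cfsg.Agent.Lib.BGSigma4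
  Cfsg.Agent.Lib.BGM1 Cfsg.Agent.Lib.BGM2 Cfsg.Agent.Lib.BGP2A Cfsg.Agent.Lib.BGP2B Cfsg.Agent.Lib.BGP2C
  Cfsg.Agent.Lib.BGP2D Cfsg.Agent.Lib.BGP2E Cfsg.Agent.Lib.BGP2F Cfsg.Agent.Lib.BGFit2 Cfsg.Agent.Lib.BGUniq
  Cfsg.Agent.Lib.BGUniq2 Cfsg.Agent.Lib.BGUniq3 Cfsg.Agent.Lib.BGFus Cfsg.Agent.Lib.BGP3A Cfsg.Agent.Lib.BGP3B
  Cfsg.Agent.Lib.BGP3C

open scoped commutatorElement

universe u

variable {G : Type u} [Group G] [Finite G]

/-- `M_σ ≤ M'`. -/
theorem sigmaCore_le_derived (hG : IsMinSimpleOddOrder G) {M : Subgroup G} (hM : IsCoatom M) :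
    sigmaCore M ≤ ⁅M, M⁆ := by
  apply le_of_forall_pgroup_le
  intro r _ Q hQ hQr
  by_cases hQ1 : Q = ⊥
  · rw [hQ1]; exact bot_le
  have hr : r ∈ sigma M := primes_sigmaCore r Fact.out
    ((dvd_card_of_isPGroup hQr hQ1).trans (Subgroup.card_dvd_of_le hQ))
  obtain ⟨S, hS, hQS⟩ := exists_isSylowIn_ge r (hQ.trans sigmaCore_le) hQr
  have h1 := sylow_le_derived hG (ut hG) hM hr hS
  rw [Subgroup.map_subtype_commutator] at h1
  exact hQS.trans h1

/-- `M_σ = [M_σ, E]`. -/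
theorem comm_compl_eq (hG : IsMinSimpleOddOrder G) {M E : Subgroup G} (hM : IsCoatom M)
    (hE : IsComplIn E (sigmaCore M) M) : ⁅sigmaCore M, E⁆ = sigmaCore M := by
  classical
  set R : Subgroup G := sigmaCore M with hR
  have hRn : M ≤ normalizer (R : Set G) := le_normalizer_sigmaCore
  have hRM : R ≤ M := sigmaCore_le
  have hER : E ≤ normalizer (R : Set G) := hE.1.trans hRn
  set K : Subgroup G := ⁅R, E⁆ with hK
  have hKR : K ≤ R := commutator_le_of_le_normalizer hER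
  have hKE : E ≤ normalizer (K : Set G) := le_normalizer_commutator hER
  have hKRn : ∀ r ∈ R, ∀ x ∈ K, r * x * r⁻¹ ∈ K := by
    intro r hr x hx
    have hsub : K ≤ K.comap (MulAut.conj r).toMonoidHom := by
      rw [hK, Subgroup.commutator_le]
      intro a ha e he
      rw [Subgroup.mem_comap]
      show r * ⁅a, e⁆ * r⁻¹ ∈ ⁅R, E⁆
      have h1 : r * ⁅a, e⁆ * r⁻¹ = ⁅r * a, e⁆ * ⁅r, e⁆⁻¹ := by
        simp only [commutatorElement_def]
        group
      rw [h1]
      exact mul_mem (Subgroup.commutator_mem_commutator (mul_mem hr ha) he)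
        (inv_mem (Subgroup.commutator_mem_commutator hr he))
    exact hsub hx
  set N : Subgroup G := E ⊔ K with hN
  have hNn : M ≤ normalizer (N : Set G) := by
    intro m hm
    obtain ⟨e, he, r, hr, rfl⟩ := hE.2.2.2 m hm
    refine mul_mem (Subgroup.le_normalizer ((le_sup_left : E ≤ N) he)) ?_
    apply mem_normalizer_of_conj_mem
    have hsub : N ≤ N.comap (MulAut.conj r).toMonoidHom := by
      refine sup_le ?_ ?_
      · intro e' he'
        rw [Subgroup.mem_comap]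
        show r * e' * r⁻¹ ∈ N
        have h1 : r * e' * r⁻¹ = ⁅r, e'⁆ * e' := by
          simp only [commutatorElement_def]
          group
        rw [h1]
        exact mul_mem ((le_sup_right : K ≤ N) (Subgroup.commutator_mem_commutator hr he'))
          ((le_sup_left : E ≤ N) he')
      · intro k hk
        rw [Subgroup.mem_comap]
        exact (le_sup_right : K ≤ N) (hKRn r hr k hk)
    exact fun a ha => hsub ha
  haveI hN' : (N.subgroupOf M).Normal := Subgroup.normal_subgroupOf_of_le_normalizer hNn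
  haveI hs : Group.IsSolvable ↥M := IsMin.solvable hG hM.1
  have hquot : Subsingleton (↥M ⧸ N.subgroupOf M) := by
    by_contra hnt
    rw [not_subsingleton_iff_nontrivial] at hnt
    have hlt := Group.IsSolvable.commutator_lt_top_of_nontrivial (↥M ⧸ N.subgroupOf M)
    apply hlt.ne
    rw [eq_top_iff]
    intro q _
    obtain ⟨⟨m, hm⟩, rfl⟩ := QuotientGroup.mk_surjective q
    obtain ⟨e, he, r, hr, rfl⟩ := hE.2.2.2 m hm
    have h1 : ((⟨e * r, hm⟩ : M) : ↥M ⧸ N.subgroupOf M) =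
        ((⟨e, hE.1 he⟩ : M) : ↥M ⧸ N.subgroupOf M) * ((⟨r, hRM hr⟩ : M) : ↥M ⧸ N.subgroupOf M) := rfl
    have h2 : ((⟨e, hE.1 he⟩ : M) : ↥M ⧸ N.subgroupOf M) = 1 := by
      rw [QuotientGroup.eq_one_iff, Subgroup.mem_subgroupOf]
      exact (le_sup_left : E ≤ N) he
    rw [h1, h2, one_mul, ← map_commutator_mk]
    have h3 : r ∈ (commutator ↥M).map M.subtype := by
      rw [Subgroup.map_subtype_commutator]
      exact sigmaCore_le_derived hG hM hr
    obtain ⟨z, hz, hze⟩ := h3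
    have h4 : z = ⟨r, hRM hr⟩ := Subtype.ext hze
    rw [← h4]
    exact ⟨z, hz, rfl⟩
  have hMN : M ≤ N := by
    intro m hm
    have h1 : ((⟨m, hm⟩ : M) : ↥M ⧸ N.subgroupOf M) = 1 := Subsingleton.elim _ _
    rw [QuotientGroup.eq_one_iff, Subgroup.mem_subgroupOf] at h1
    exact h1
  apply le_antisymm hKR
  intro r hr
  have h1 : r ∈ ((E ⊔ K : Subgroup G) : Set G) := hMN (hRM hr)
  rw [Subgroup.coe_mul_of_left_le_normalizer_right _ _ hKE] at h1
  obtain ⟨e, he, k, hk, hek⟩ := Set.mem_mul.mp h1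
  have he' : e ∈ E := he
  have hk' : k ∈ K := hk
  have h2 : e = r * k⁻¹ := by rw [← hek]; group
  have h3' : e ∈ R := by rw [h2]; exact mul_mem hr (inv_mem (hKR hk'))
  have h3 : e ∈ E ⊓ R := ⟨he', h3'⟩
  rw [hE.2.2.1] at h3
  have h4 : e = 1 := h3
  rw [← hek, h4, one_mul]
  exact hk'

theorem coprime_compl (hG : IsMinSimpleOddOrder G) {M E : Subgroup G} (hM : IsCoatom M)
    (hE : IsComplIn E (sigmaCore M) M) : (Nat.card E).Coprime (Nat.card (sigmaCore M)) := by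
  apply Nat.coprime_of_dvd
  intro k hk hk1 hk2
  exact not_dvd_compl hG hM hE (primes_sigmaCore k hk hk2) hk1

/-- `C_{M_σ}(E) ≤ (M_σ)'`. -/
theorem fixed_compl_le (hG : IsMinSimpleOddOrder G) {M E : Subgroup G} (hM : IsCoatom M)
    (hE : IsComplIn E (sigmaCore M) M) :
    sigmaCore M ⊓ centralizer (E : Set G) ≤ ⁅sigmaCore M, sigmaCore M⁆ := by
  classical
  set R : Subgroup G := sigmaCore M with hR
  have hRn : M ≤ normalizer (R : Set G) := le_normalizer_sigmaCore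
  have hRM : R ≤ M := sigmaCore_le
  have hcE := comm_compl_eq hG hM hE
  rw [← hR] at hcE
  have hcop := coprime_compl hG hM hE
  rw [← hR] at hcop
  set D : Subgroup G := ⁅R, R⁆ with hD
  have hDn : M ≤ normalizer (D : Set G) := hRn.trans (normalizer_le_normalizer_comm R)
  haveI hD' : (D.subgroupOf M).Normal := Subgroup.normal_subgroupOf_of_le_normalizer hDn
  let π : M →* (M ⧸ D.subgroupOf M) := QuotientGroup.mk' (D.subgroupOf M)
  have hπ : ∀ x y : M, π x = π y ↔ x⁻¹ * y ∈ D.subgroupOf M := fun x y => QuotientGroup.eq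
  set Rb : Subgroup (M ⧸ D.subgroupOf M) := (R.subgroupOf M).map π with hRb
  set Eb : Subgroup (M ⧸ D.subgroupOf M) := (E.subgroupOf M).map π with hEb
  have hcomm : ∀ x ∈ Rb, ∀ y ∈ Rb, x * y = y * x := by
    rintro _ ⟨a, ha, rfl⟩ _ ⟨b, hb, rfl⟩
    rw [← map_mul, ← map_mul, hπ, Subgroup.mem_subgroupOf]
    have ha' : (a : G) ∈ R := ha
    have hb' : (b : G) ∈ R := hb
    have h1 : (((a * b)⁻¹ * (b * a) : M) : G) = ⁅(b : G)⁻¹, (a : G)⁻¹⁆ := by
      simp [commutatorElement_def, mul_assoc]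
    rw [h1]
    exact Subgroup.commutator_mem_commutator (inv_mem hb') (inv_mem ha')
  have hcop2 : (Nat.card Eb).Coprime (Nat.card Rb) := by
    have h1 : Nat.card Eb ∣ Nat.card (E.subgroupOf M) := Subgroup.card_map_dvd _ _
    have h2 : Nat.card Rb ∣ Nat.card (R.subgroupOf M) := Subgroup.card_map_dvd _ _
    rw [card_subgroupOf_of_le hE.1] at h1
    rw [card_subgroupOf_of_le hRM] at h2
    exact Nat.Coprime.coprime_dvd_left h1 (Nat.Coprime.coprime_dvd_right h2 hcop)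
  have hnorm : Eb ≤ normalizer (Rb : Set (M ⧸ D.subgroupOf M)) := by
    rintro _ ⟨a, ha, rfl⟩
    apply mem_normalizer_of_conj_mem
    rintro _ ⟨y, hy, rfl⟩
    refine ⟨a * y * a⁻¹, ?_, by simp⟩
    change _ ∈ R.subgroupOf M
    rw [Subgroup.mem_subgroupOf]
    have hy' : (y : G) ∈ R := hy
    have ha' : (a : G) ∈ E := ha
    have := (mem_normalizer_iff.mp (hE.1.trans hRn ha') y).mp hy'
    simpa using this
  have hMM : Rb ≤ ⁅Rb, Eb⁆ := by
    rw [hRb, hEb, ← Subgroup.map_commutator]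
    apply Subgroup.map_mono
    intro y hy
    have hy' : (y : G) ∈ R := hy
    have h1 : (⁅R.subgroupOf M, E.subgroupOf M⁆).map M.subtype = ⁅R, E⁆ := by
      rw [Subgroup.map_commutator, Subgroup.map_subgroupOf_eq_of_le hRM,
        Subgroup.map_subgroupOf_eq_of_le hE.1]
    have h2 : (y : G) ∈ (⁅R.subgroupOf M, E.subgroupOf M⁆).map M.subtype := by
      rw [h1, hcE]
      exact hy'
    obtain ⟨z, hz, hze⟩ := h2
    have h3 : z = y := Subtype.ext hze
    rwa [← h3]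
  have hbot := Cfsg.Agent.Lib.CoprimeIndexP.inf_centralizer_eq_bot_of_comm hnorm hcop2 hcomm hMM
  rintro x ⟨hxR, hxC⟩
  have hxM : x ∈ M := hRM hxR
  have h1 : π ⟨x, hxM⟩ ∈ Rb ⊓ centralizer (Eb : Set (M ⧸ D.subgroupOf M)) := by
    refine ⟨⟨⟨x, hxM⟩, hxR, rfl⟩, ?_⟩
    change π ⟨x, hxM⟩ ∈ centralizer (Eb : Set (M ⧸ D.subgroupOf M))
    rw [mem_centralizer_iff]
    rintro _ ⟨e, he, rfl⟩
    rw [← map_mul, ← map_mul]
    congr 1
    apply Subtype.ext
    exact mem_centralizer_iff.mp hxC _ he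
  rw [hbot] at h1
  have h2 : ((⟨x, hxM⟩ : M) : M ⧸ D.subgroupOf M) = 1 := h1
  rw [QuotientGroup.eq_one_iff, Subgroup.mem_subgroupOf] at h2
  exact h2

/-- The intersections of `M_σ` with the conjugates of `M`. -/
theorem inf_conj (hG : IsMinSimpleOddOrder G) {M : Subgroup G} (hM : IsCoatom M) {g : G} (hg : g ∉ M) :
    IsCyclic ↥(sigmaCore M ⊓ cj M g) ∧
      (∀ p : ℕ, p.Prime → p ∣ Nat.card ↥(sigmaCore M ⊓ cj M g) → p ∉ beta M) ∧
      sigmaCore M ⊓ cj M g ⊓ ⁅sigmaCore M, sigmaCore M⁆ = ⊥ := by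
  classical
  set R : Subgroup G := sigmaCore M with hR
  have hRM : R ≤ M := sigmaCore_le
  set W : Subgroup G := R ⊓ cj M g with hW
  have hF : ∀ (q : ℕ) [Fact q.Prime] (Q : Subgroup G), IsPGroup q Q → Q ≠ ⊥ → Q ≤ W →
      q ∈ sigma M ∧ ¬ centralizer (Q : Set G) ≤ M := by
    intro q _ Q hQ hQ1 hQW
    have hq : q ∈ sigma M := primes_sigmaCore q Fact.out
      ((dvd_card_of_isPGroup hQ hQ1).trans (Subgroup.card_dvd_of_le (hQW.trans inf_le_left)))
    refine ⟨hq, fun hC => ?_⟩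
    have h1 : cj Q g⁻¹ ≤ M := by
      have := cj_mono (hQW.trans inf_le_right) g⁻¹
      rwa [cj_cj_inv] at this
    obtain ⟨m, hm, c, hc, hgm⟩ := (sigma_ctrl hG (ut hG) hM hq hQ hQ1 (hQW.trans (inf_le_left.trans hRM))).1 g⁻¹ h1
    apply hg
    have h2 : g⁻¹ ∈ M := by rw [hgm]; exact mul_mem hm (hC hc)
    simpa using inv_mem h2
  -- elements of prime order
  have hpr : ∀ (q : ℕ) [Fact q.Prime] {x : G}, x ∈ W → orderOf x = q →
      q ∈ sigma M ∧ ¬ centralizer ((zpowers x : Subgroup G) : Set G) ≤ M ∧ Nat.card (zpowers x) = q := by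
    intro q _ x hx hxo
    have hxq : x ^ q = 1 := by rw [← hxo]; exact pow_orderOf_eq_one x
    have hx1 : zpowers x ≠ ⊥ := by
      rw [Ne, Subgroup.zpowers_eq_bot]
      rintro rfl
      rw [orderOf_one] at hxo
      exact (Fact.out : q.Prime).one_lt.ne hxo
    obtain ⟨h1, h2⟩ := hF q (zpowers x) (BGP2E.isPGroup_zpowers_of_pow hxq) hx1 (Subgroup.zpowers_le.mpr hx)
    exact ⟨h1, h2, by rw [Nat.card_zpowers, hxo]⟩
  have hder : W ⊓ ⁅R, R⁆ = ⊥ := by
    by_contra hne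
    have hcard : Nat.card ↥(W ⊓ ⁅R, R⁆) ≠ 1 := fun h => hne (Subgroup.card_eq_one.mp h)
    obtain ⟨q, hq, hqd⟩ := Nat.exists_prime_and_dvd hcard
    haveI : Fact q.Prime := ⟨hq⟩
    obtain ⟨x, hx⟩ := exists_prime_orderOf_dvd_card' (G := ↥(W ⊓ ⁅R, R⁆)) q hqd
    have hxo : orderOf (x : G) = q := by rw [Subgroup.orderOf_coe]; exact hx
    obtain ⟨h1, h2, h3⟩ := hpr q x.2.1 hxo
    obtain ⟨P⟩ : Nonempty (Sylow q ↥R) := inferInstance
    apply h2
    exact (Cfsg.Agent.S1423.result hG M hM q h1 (zpowers x) (Subgroup.zpowers_le.mpr (hRM x.2.1.1)) h3 P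
      (Or.inr (Subgroup.zpowers_le.mpr x.2.2))).1.1
  have hab : ∀ a ∈ W, ∀ b ∈ W, a * b = b * a := by
    intro a ha b hb
    have h0 : ⁅a, b⁆ ∈ W := by
      rw [commutatorElement_def]
      exact mul_mem (mul_mem (mul_mem ha hb) (inv_mem ha)) (inv_mem hb)
    have h1 : ⁅a, b⁆ ∈ W ⊓ ⁅R, R⁆ := ⟨h0, Subgroup.commutator_mem_commutator ha.1 hb.1⟩
    rw [hder] at h1
    exact commutatorElement_eq_one_iff_mul_comm.mp h1
  refine ⟨?_, ?_, hder⟩
  · -- cyclic
    haveI : IsZGroup ↥W := by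
      refine ⟨fun q hq P => ?_⟩
      haveI : Fact q.Prime := ⟨hq⟩
      by_contra hnc
      set Q : Subgroup G := (P : Subgroup ↥W).map W.subtype with hQ
      have hQe : ↥Q ≃* ↥(P : Subgroup ↥W) := (Subgroup.equivMapOfInjective _ _ W.subtype_injective).symm
      have hQq : IsPGroup q Q := P.isPGroup'.map _
      have hQnc : ¬ IsCyclic Q := fun h => hnc (isCyclic_of_surjective hQe hQe.surjective)
      have hQ1 : Q ≠ ⊥ := by
        intro hb
        apply hQnc
        rw [hb]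
        infer_instance
      have hQW : Q ≤ W := Subgroup.map_subtype_le _
      obtain ⟨h1, h2⟩ := hF q Q hQq hQ1 hQW
      exact h2 ((BGTrans.centralizer_le_normalizer Q).trans
        (normalizer_le_of_noncyclic hG hM h1 hQq hQnc (hQW.trans (inf_le_left.trans hRM))))
    letI : CommGroup ↥W := { (inferInstance : Group ↥W) with
      mul_comm := fun a b => Subtype.ext (hab a a.2 b b.2) }
    have hnil : Group.IsNilpotent ↥W := inferInstance
    exact inferInstance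
  · intro q hq hqd hqβ
    haveI : Fact q.Prime := ⟨hq⟩
    obtain ⟨x, hx⟩ := exists_prime_orderOf_dvd_card' (G := ↥W) q hqd
    have hxo : orderOf (x : G) = q := by rw [Subgroup.orderOf_coe]; exact hx
    obtain ⟨h1, h2, h3⟩ := hpr q x.2 hxo
    obtain ⟨P⟩ : Nonempty (Sylow q ↥R) := inferInstance
    apply h2
    exact (Cfsg.Agent.S1423.result hG M hM q h1 (zpowers x) (Subgroup.zpowers_le.mpr (hRM x.2.1)) h3 P
      (Or.inl hqβ)).1.1

end Cfsg.Agent.Lib.BGP3D
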