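import Mathlib
import Cfsg.Agent.Lib.BGCent4
import Cfsg.Agent.Lib.OddOrderCore
import Cfsg.Agent.Lib.BGP3D

/-!
# Bender-Glauberman section 14: fusion in Hall subgroups of `M_σ`.
-/

set_option autoImplicit false
set_option linter.unusedSectionVars false
set_option linter.unusedVariables false
set_option linter.style.haveILetI false
set_option linter.unusedSimpArgs false

namespace Cfsg.Agent.Lib.BGCent

open Cfsg Subgroup Cfsg.Agent.Lib.CoprimeInv Cfsg.Agent.Lib.BGTrans Cfsg.Agent.Lib.BGTrans2 Cfsg.Agent.Lib.BGUniq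
  Cfsg.Agent.Lib.BGUniq2 Cfsg.Agent.Lib.PCore Cfsg.Agent.Lib.BGTau7 Cfsg.Agent.Lib.BGM1 Cfsg.Agent.Lib.BGTau5
  Cfsg.Agent.Lib.BGTau3 Cfsg.Agent.Lib.BGM2 Cfsg.Agent.Lib.BGTau6 Cfsg.Agent.Lib.BGTau1 Cfsg.Agent.Lib.BGP2E
open scoped commutatorElement

universe u

/-- The image of a Sylow subgroup is a Sylow subgroup of the image. -/
theorem isSylowIn_map_of_hom {X Y : Type*} [Group X] [Group Y] [Finite X] [Finite Y] (f : X →* Y) {q : ℕ}
    [Fact q.Prime] {S L : Subgroup X} (hS : IsSylowIn q S L) : IsSylowIn q (S.map f) (L.map f) := by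
  classical
  have hsurj : Function.Surjective (f.subgroupMap L) := f.subgroupMap_surjective L
  let P := hS.toSylow.mapSurjective hsurj
  have h := isSylowIn_map P
  have e : ((P : Subgroup ↥(L.map f)).map (L.map f).subtype) = S.map f := by
    ext y
    constructor
    · rintro ⟨z, hz, rfl⟩
      rw [Sylow.coe_mapSurjective] at hz
      obtain ⟨a, ha, rfl⟩ := hz
      exact ⟨a, ha, rfl⟩
    · rintro ⟨a, ha, rfl⟩
      refine ⟨f.subgroupMap L ⟨a, hS.1 ha⟩, ?_, rfl⟩
      rw [Sylow.coe_mapSurjective]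
      exact ⟨⟨a, hS.1 ha⟩, ha, rfl⟩
  rwa [e] at h

section Quot

variable {E : Type u} [Group E] [Finite E]

/-- In `E / F`, with `S / F` nilpotent, the image of a Hall subgroup of `S` is normal. -/
theorem conj_mem_hall_mul {F S H : Subgroup E} [hF : F.Normal] [hS : S.Normal]
    (hD : Group.IsNilpotent ↥((commutator E).map (QuotientGroup.mk' F))) (hSc : S ≤ commutator E)
    (hHS : H ≤ S) (hHall : (Nat.card H).Coprime (H.relIndex S)) (g h : E) (hh : h ∈ H) :
    ∃ h₁ ∈ H, ∃ f ∈ F, g * h * g⁻¹ = h₁ * f := by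
  classical
  set φ := QuotientGroup.mk' F with hφ
  have hsurj : Function.Surjective φ := QuotientGroup.mk'_surjective F
  have hPile : S.map φ ≤ (commutator E).map φ := Subgroup.map_mono hSc
  have hPinil : Group.IsNilpotent (S.map φ) := Cfsg.Agent.Lib.OddOrderCore.isNilpotent_of_le hPile hD
  haveI hPin : (S.map φ).Normal := hS.map φ hsurj
  have hle : cj (H.map φ) (φ g) ≤ H.map φ := by
    apply le_of_forall_pgroup_le
    intro q _ R hR hRq
    by_cases hR1 : R = ⊥
    · rw [hR1]; exact bot_le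
    have hd1 : q ∣ Nat.card R := dvd_card_of_isPGroup hRq hR1
    have hd2 : Nat.card R ∣ Nat.card (H.map φ) := by
      have := Subgroup.card_dvd_of_le hR
      rwa [card_cj] at this
    have hd3 : Nat.card (H.map φ) ∣ Nat.card H :=
      Subgroup.card_dvd_of_surjective (φ.subgroupMap H) (φ.subgroupMap_surjective H)
    have hq : q ∣ Nat.card H := hd1.trans (hd2.trans hd3)
    obtain ⟨Q₀, hQ₀⟩ := exists_isSylowIn q H
    have hni : ¬ q ∣ H.relIndex S := by
      intro h2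
      have := Nat.dvd_gcd hq h2
      rw [hHall.gcd_eq_one] at this
      exact (Fact.out : q.Prime).one_lt.ne' (Nat.dvd_one.mp this)
    have hQ₀S : IsSylowIn q Q₀ S := isSylowIn_of_hall hQ₀ hHS hni
    have hT := isSylowIn_map_of_hom φ hQ₀S
    have hRPi : R ≤ S.map φ := by
      intro y hy
      obtain ⟨b, hb, rfl⟩ := hR hy
      have h1 : b ∈ S.map φ := Subgroup.map_mono hHS hb
      exact hPin.conj_mem b h1 (φ g)
    have h1 := sylow_of_nilpotent_le hPinil hT hRPi hRq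
    exact h1.trans (Subgroup.map_mono hQ₀.1)
  have h1 : φ (g * h * g⁻¹) ∈ H.map φ := by
    apply hle
    refine ⟨φ h, ⟨h, hh, rfl⟩, ?_⟩
    simp [map_mul, map_inv]
  obtain ⟨h₁, hh₁, he⟩ := h1
  refine ⟨h₁, hh₁, h₁⁻¹ * (g * h * g⁻¹), ?_, by group⟩
  rw [← QuotientGroup.eq_one_iff]
  show φ (h₁⁻¹ * (g * h * g⁻¹)) = 1
  rw [map_mul, map_inv, he, inv_mul_cancel]

end Quot

variable {G : Type u} [Group G] [Finite G]

/-- **Fusion in a Hall subgroup of `M_σ`** under `M`. -/
theorem hall_fusion (hG : IsMinSimpleOddOrder G) {M H : Subgroup G} (hM : IsCoatom M)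
    (hFσ : fittingHallOf M ≤ sigmaCore M)
    (hNil : Group.IsNilpotent ↥((commutator ↥M).map (QuotientGroup.mk' (fittingHall ↥M))))
    (hH : H ≤ sigmaCore M) (hHall : (Nat.card H).Coprime (H.relIndex (sigmaCore M))) {x m : G} (hm : m ∈ M)
    (hx : x ∈ H) (hy : m * x * m⁻¹ ∈ H) : ∃ n ∈ M ⊓ normalizer (H : Set G), n * x * n⁻¹ = m * x * m⁻¹ := by
  classical
  set F : Subgroup G := fittingHallOf M with hF
  obtain ⟨hFn', hFn, hFc⟩ := Cfsg.Agent.Lib.OddOrderCore.fittingHall_mem ↥M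
  have hFnil : Group.IsNilpotent F :=
    Group.nilpotent_of_mulEquiv (Subgroup.equivMapOfInjective _ _ M.subtype_injective)
  have hFM : F ≤ M := Subgroup.map_subtype_le _
  have hFsub : F.subgroupOf M = fittingHall ↥M := by
    rw [hF, fittingHallOf, Subgroup.subgroupOf, Subgroup.comap_map_eq_self_of_injective M.subtype_injective]
  have hFN : M ≤ normalizer (F : Set G) := by
    haveI : (F.subgroupOf M).Normal := by rw [hFsub]; exact hFn'
    exact Subgroup.le_normalizer_of_normal_subgroupOf hFM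
  have hHM : H ≤ M := hH.trans sigmaCore_le
  -- the conjugates of `H` modulo `F`
  have hstar : ∀ g ∈ M, ∀ h ∈ H, ∃ h₁ ∈ H, ∃ f ∈ F, g * h * g⁻¹ = h₁ * f := by
    intro g hg h hh
    haveI hSn : ((sigmaCore M).subgroupOf M).Normal :=
      Subgroup.normal_subgroupOf_of_le_normalizer le_normalizer_sigmaCore
    have hSc : (sigmaCore M).subgroupOf M ≤ commutator ↥M := by
      intro s hs
      have h1 := Cfsg.Agent.Lib.BGP3D.sigmaCore_le_derived hG hM (Subgroup.mem_subgroupOf.mp hs)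
      rw [← Subgroup.map_subtype_commutator M] at h1
      obtain ⟨a, ha, hae⟩ := h1
      rwa [← Subtype.ext hae]
    have hle : H.subgroupOf M ≤ (sigmaCore M).subgroupOf M := by
      intro a ha
      exact Subgroup.mem_subgroupOf.mpr (hH (Subgroup.mem_subgroupOf.mp ha))
    have hc : (Nat.card (H.subgroupOf M)).Coprime ((H.subgroupOf M).relIndex ((sigmaCore M).subgroupOf M)) := by
      rw [card_subgroupOf_of_le hHM, Subgroup.relIndex_subgroupOf sigmaCore_le]
      exact hHall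
    obtain ⟨h₁, hh₁, f, hf, he⟩ := conj_mem_hall_mul (F := fittingHall ↥M) hNil hSc hle hc
      (⟨g, hg⟩ : M) (⟨h, hHM hh⟩ : M) (Subgroup.mem_subgroupOf.mpr hh)
    refine ⟨(h₁ : G), Subgroup.mem_subgroupOf.mp hh₁, (f : G), ⟨f, hf, rfl⟩, ?_⟩
    simpa using congrArg Subtype.val he
  -- the complementary part of `F`
  set π' : Set ℕ := {q | q.Prime ∧ ¬ q ∣ Nat.card H} with hπ'
  set T : Subgroup G := piCoreOf π' F with hT
  have hTF : T ≤ F := piCoreOf_le _ _
  have hTN : M ≤ normalizer (T : Set G) := hFN.trans (normalizer_le_normalizer_piCoreOf _ _)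
  have hcop : (Nat.card T).Coprime (Nat.card H) := by
    apply Nat.coprime_of_dvd
    intro k hk hk1 hk2
    exact (piCoreOf_primes π' F k hk hk1).2 hk2
  have hTH : T ⊓ H = ⊥ := inf_eq_bot_of_coprime' hcop
  -- the Sylow subgroups of `F`
  have hSq : ∀ (q : ℕ) [Fact q.Prime] (Sq : Subgroup G), IsSylowIn q Sq F → sigmaCore M ≤ normalizer (Sq : Set G) := by
    intro q _ Sq hSq s hs
    apply mem_normalizer_of_cj_eq
    apply Subgroup.eq_of_le_of_card_ge
    · apply sylow_of_nilpotent_le hFnil hSq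
      · have := cj_mono hSq.1 s
        rwa [cj_eq_of_mem_normalizer (hFN (sigmaCore_le hs))] at this
      · exact hSq.2.1.map _
    · rw [card_cj]
  have hF_le : F ≤ H ⊔ T := by
    apply le_of_forall_pgroup_le
    intro q _ R hRF hRq
    obtain ⟨Sq, hSqF⟩ := exists_isSylowIn q F
    have hRS : R ≤ Sq := sylow_of_nilpotent_le hFnil hSqF hRF hRq
    have hqn := hSq q Sq hSqF
    by_cases hq : q ∣ Nat.card H
    · obtain ⟨Q₀, hQ₀⟩ := exists_isSylowIn q H
      have hni : ¬ q ∣ H.relIndex (sigmaCore M) := by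
        intro h2
        have := Nat.dvd_gcd hq h2
        rw [hHall.gcd_eq_one] at this
        exact (Fact.out : q.Prime).one_lt.ne' (Nat.dvd_one.mp this)
      have hQ₀S : IsSylowIn q Q₀ (sigmaCore M) := isSylowIn_of_hall hQ₀ hH hni
      have hsup := isPGroup_sup_of_le_normalizer hQ₀S.2.1 hSqF.2.1 (hQ₀S.1.trans hqn)
      have he := hQ₀S.2.2 (Q₀ ⊔ Sq) (sup_le hQ₀S.1 (hSqF.1.trans hFσ)) hsup le_sup_left
      have hSQ : Sq ≤ Q₀ := by rw [← he]; exact le_sup_right
      exact (hRS.trans (hSQ.trans hQ₀.1)).trans le_sup_left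
    · refine (hRS.trans ?_).trans le_sup_right
      apply le_piCoreOf hSqF.1 ((hFσ).trans hqn)
      intro k hk hd
      have hkq : k = q := by
        obtain ⟨j, hj⟩ := IsPGroup.iff_card.mp hSqF.2.1
        rw [hj] at hd
        exact (Nat.prime_dvd_prime_iff_eq hk Fact.out).mp (hk.dvd_of_dvd_pow hd)
      rw [hkq]
      exact ⟨Fact.out, hq⟩
  -- the Frattini argument
  have hK₂M : cj H m ≤ M := by
    have := cj_mono hHM m
    rwa [cj_eq_of_mem_normalizer (le_normalizer hm)] at this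
  have hK₂le : cj H m ≤ T ⊔ H := by
    rw [sup_comm]
    rintro _ ⟨h, hh, rfl⟩
    obtain ⟨h₁, hh₁, f, hf, he⟩ := hstar m hm h hh
    have e : (MulAut.conj m).toMonoidHom h = h₁ * f := by
      rw [← he]; simp
    rw [e]
    exact Subgroup.mul_mem _ (mem_sup_left hh₁) (hF_le hf)
  have hsup : T ⊔ H = T ⊔ cj H m := by
    symm
    apply Subgroup.eq_of_le_of_card_ge (sup_le le_sup_left hK₂le)
    have e : T ⊔ cj H m = cj (T ⊔ H) m := by
      have e2 : cj (T ⊔ H) m = cj T m ⊔ cj H m := Subgroup.map_sup _ _ _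
      rw [e2, cj_eq_of_mem_normalizer (hTN hm)]
    rw [e, card_cj]
  have hTs : Group.IsSolvable T := solvable_of_le_coatom hG hM (hTF.trans hFM)
  have hd₂ : T ⊓ cj H m = ⊥ := by
    apply inf_eq_bot_of_coprime'
    rwa [card_cj]
  obtain ⟨t, htT, htm⟩ := exists_conj_rel hTs (hHM.trans hTN) (hK₂M.trans hTN) hTH hd₂ hsup hcop
  have htM : t ∈ M := hFM (hTF htT)
  set n : G := t⁻¹ * m with hn
  have hnN : n ∈ normalizer (H : Set G) := by
    apply mem_normalizer_of_cj_eq
    rw [hn, ← cj_cj, htm, cj_cj_inv]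
  have hnM : n ∈ M := M.mul_mem (M.inv_mem htM) hm
  refine ⟨n, Subgroup.mem_inf.mpr ⟨hnM, hnN⟩, ?_⟩
  set x₁ : G := n * x * n⁻¹ with hx₁
  have hx₁H : x₁ ∈ H := (mem_normalizer_iff.mp hnN x).mp hx
  have hme : m = t * n := by rw [hn]; group
  have hyt : m * x * m⁻¹ = t * x₁ * t⁻¹ := by
    rw [hme, hx₁]; group
  have hmem : t * x₁ * t⁻¹ * x₁⁻¹ ∈ T ⊓ H := by
    refine Subgroup.mem_inf.mpr ⟨?_, ?_⟩
    · have e : t * x₁ * t⁻¹ * x₁⁻¹ = t * (x₁ * t⁻¹ * x₁⁻¹) := by group
      rw [e]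
      exact T.mul_mem htT ((mem_normalizer_iff.mp (hTN (hHM hx₁H)) _).mp (T.inv_mem htT))
    · rw [← hyt]
      exact H.mul_mem hy (H.inv_mem hx₁H)
  rw [hTH, Subgroup.mem_bot, mul_inv_eq_one] at hmem
  rw [hyt, hmem]

/-- **Second part**. -/
theorem second_part (hG : IsMinSimpleOddOrder G) {M H : Subgroup G} (hM : IsCoatom M) (h32 : H32 M)
    (hFσ : fittingHallOf M ≤ sigmaCore M)
    (hNil : Group.IsNilpotent ↥((commutator ↥M).map (QuotientGroup.mk' (fittingHall ↥M))))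
    (hH : H ≤ sigmaCore M) (hHall : (Nat.card H).Coprime (H.relIndex (sigmaCore M))) {x g : G}
    (hx : x ∈ H) (hy : g * x * g⁻¹ ∈ H) : ∃ n ∈ M ⊓ normalizer (H : Set G), n * x * n⁻¹ = g * x * g⁻¹ := by
  obtain ⟨m, hm, hme⟩ := fusion hG hM h32 (hH hx) (sigmaCore_le (hH hy))
  rw [hme] at hy ⊢
  exact hall_fusion hG hM hFσ hNil hH hHall hm hx hy

end Cfsg.Agent.Lib.BGCent
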