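import Mathlib
import Cfsg.Agent.Lib.BGCent5

/-!
# Bender-Glauberman section 14: nilpotent Hall subgroups of `G` control their own fusion.
-/

set_option autoImplicit false
set_option linter.unusedSectionVars false
set_option linter.unusedVariables false
set_option linter.style.haveILetI false
set_option linter.unusedSimpArgs false

namespace Cfsg.Agent.Lib.BGCent

open Cfsg Subgroup Cfsg.Agent.Lib.CoprimeInv Cfsg.Agent.Lib.BGTrans Cfsg.Agent.Lib.BGTrans2 Cfsg.Agent.Lib.BGUniq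
  Cfsg.Agent.Lib.BGUniq2 Cfsg.Agent.Lib.PCore Cfsg.Agent.Lib.BGTau7 Cfsg.Agent.Lib.BGM1 Cfsg.Agent.Lib.BGTau5
  Cfsg.Agent.Lib.BGTau3 Cfsg.Agent.Lib.BGM2 Cfsg.Agent.Lib.BGTau6 Cfsg.Agent.Lib.BGTau1 Cfsg.Agent.Lib.BGP2E
open scoped commutatorElement

universe u

variable {G : Type u} [Group G] [Finite G]

/-- The statement about Hall subgroups of `M_σ`. -/
def Hall38 (G : Type u) [Group G] : Prop :=
  ∀ (M : Subgroup G), IsCoatom M → ∀ (H : Subgroup G), H ≤ sigmaCore M → H ≠ ⊥ →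
    (Nat.card H).Coprime (H.relIndex (sigmaCore M)) →
    (∃ X : Subgroup G, IsCyclic X ∧ (∀ p : ℕ, p.Prime → p ∣ Nat.card X → p ∈ tau2 M) ∧
        M ⊓ centralizer (H : Set G) = (sigmaCore M ⊓ centralizer (H : Set G)) ⊔ X) ∧
      ∀ x ∈ H, ∀ g : G, g * x * g⁻¹ ∈ H → ∃ n ∈ M ⊓ normalizer (H : Set G), n * x * n⁻¹ = g * x * g⁻¹

theorem nilp_hall_fusion (hG : IsMinSimpleOddOrder G) (h38 : Hall38 G) {H : Subgroup G}
    (hHn : Group.IsNilpotent H) (hHall : (Nat.card H).Coprime H.index) :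
    ∀ x ∈ H, ∀ g : G, g * x * g⁻¹ ∈ H → ∃ n ∈ normalizer (H : Set G), n * x * n⁻¹ = g * x * g⁻¹ := by
  classical
  intro x hx g hg
  by_cases hH1 : H = ⊥
  · subst hH1
    have h1 : x = 1 := by simpa using hx
    exact ⟨1, one_mem _, by simp [h1]⟩
  have hcard : Nat.card H ≠ 1 := fun h => hH1 (Subgroup.card_eq_one.mp h)
  obtain ⟨p, hp, hpd⟩ := Nat.exists_prime_and_dvd hcard
  haveI hpf : Fact p.Prime := ⟨hp⟩
  -- Sylow subgroups of `H` are Sylow subgroups of `G`
  have hsyl : ∀ (q : ℕ) [Fact q.Prime] (Q : Subgroup G), IsSylowIn q Q H → q ∣ Nat.card H →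
      IsSylowIn q Q (⊤ : Subgroup G) := by
    intro q _ Q hQ hqd
    apply isSylowIn_of_hall hQ le_top
    rw [Subgroup.relIndex_top_right]
    intro h2
    have := Nat.dvd_gcd hqd h2
    rw [hHall.gcd_eq_one] at this
    exact (Fact.out : q.Prime).one_lt.ne' (Nat.dvd_one.mp this)
  obtain ⟨P, hP⟩ := exists_isSylowIn p H
  have hP1 : P ≠ ⊥ := sylow_ne_bot hP hpd
  have hPG := hsyl p P hP hpd
  have hHP : H ≤ normalizer (P : Set G) := by
    intro h hh
    apply mem_normalizer_of_cj_eq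
    apply Subgroup.eq_of_le_of_card_ge
    · apply sylow_of_nilpotent_le hHn hP
      · have := cj_mono hP.1 h
        rwa [cj_eq_of_mem_normalizer (le_normalizer hh)] at this
      · exact hP.2.1.map _
    · rw [card_cj]
  obtain ⟨M, hM, hMN⟩ := exists_coatom_ge (IsMin.normalizer_ne_top hG hP1 (IsMin.isPGroup_ne_top hG hP.2.1))
  have hHM : H ≤ M := hHP.trans hMN
  have hPM : P ≤ M := hP.1.trans hHM
  have hSylM : ∀ (q : ℕ) [Fact q.Prime] (Q : Subgroup G), IsSylowIn q Q (⊤ : Subgroup G) → Q ≤ M → IsSylowIn q Q M := by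
    intro q _ Q hQ hQM
    exact ⟨hQM, hQ.2.1, fun R _ hRp hle => hQ.2.2 R le_top hRp hle⟩
  have hPsM := hSylM p P hPG hPM
  have hpσ : p ∈ sigma M := by
    apply Cfsg.Agent.Lib.BGSigma3.mem_sigma_of hPsM
    · exact (dvd_card_of_isPGroup hP.2.1 hP1).trans (Subgroup.card_dvd_of_le hPM)
    · exact hMN
  have hPσ : P ≤ sigmaCore M := le_sigmaCore_of_pgroup hG hM hpσ hPM hP.2.1
  have hPσ' : IsSylowIn p P (sigmaCore M) := ⟨hPσ, hP.2.1, fun R _ hRp hle => hPG.2.2 R le_top hRp hle⟩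
  have hPc : (Nat.card P).Coprime (P.relIndex (sigmaCore M)) := by
    obtain ⟨k, hk⟩ := IsPGroup.iff_card.mp hP.2.1
    rw [hk]
    exact Nat.Coprime.pow_left k ((Nat.Prime.coprime_iff_not_dvd hp).mpr hPσ'.toSylow.not_dvd_index)
  obtain ⟨⟨X, hXc, hXτ, hXe⟩, -⟩ := h38 M hM P hPσ hP1 hPc
  -- every Sylow subgroup of `H` lies in `M_σ`
  have hHσ : H ≤ sigmaCore M := by
    apply le_of_forall_pgroup_le
    intro q _ Q hQH hQq
    by_cases hQ1 : Q = ⊥
    · rw [hQ1]; exact bot_le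
    have hqd : q ∣ Nat.card H := (dvd_card_of_isPGroup hQq hQ1).trans (Subgroup.card_dvd_of_le hQH)
    by_cases hqσ : q ∈ sigma M
    · exact le_sigmaCore_of_pgroup hG hM hqσ (hQH.trans hHM) hQq
    exfalso
    have hqp : q ≠ p := by
      rintro rfl
      exact hqσ hpσ
    obtain ⟨Q', hQ', hQQ'⟩ := exists_isSylowIn_ge q hQH hQq
    have hQ'1 : Q' ≠ ⊥ := by
      rintro rfl
      exact hQ1 (le_bot_iff.mp hQQ')
    have hQ'G := hsyl q Q' hQ' hqd
    have hQ'M := hSylM q Q' hQ'G (hQ'.1.trans hHM)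
    -- `Q'` centralizes `P`
    have hcomm : Q' ≤ centralizer (P : Set G) := by
      intro a ha
      rw [Subgroup.mem_centralizer_iff]
      intro b hb
      obtain ⟨k, hk⟩ := hP.2.1 ⟨b, hb⟩
      obtain ⟨l, hl⟩ := hQ'.2.1 ⟨a, ha⟩
      have hbk : b ^ p ^ k = 1 := by simpa using congrArg Subtype.val hk
      have hal : a ^ q ^ l = 1 := by simpa using congrArg Subtype.val hl
      have h1 : ¬ p ∣ q ^ l := by
        intro h
        exact hqp ((Nat.prime_dvd_prime_iff_eq hp Fact.out).mp (hp.dvd_of_dvd_pow h)).symm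
      have := comm_in_nilpotent hHn (a := ⟨b, hP.1 hb⟩) (b := ⟨a, hQ'.1 ha⟩) (p := p) (k := k) (m := q ^ l)
        (Subtype.ext (by simpa using hbk)) (Subtype.ext (by simpa using hal)) h1
      exact congrArg Subtype.val this
    have hQ'C : Q' ≤ M ⊓ centralizer (P : Set G) := le_inf hQ'M.1 hcomm
    -- `q` divides `|X|`
    have hXN : X ≤ normalizer ((sigmaCore M ⊓ centralizer (P : Set G) : Subgroup G) : Set G) := by
      have hX' : X ≤ M ⊓ centralizer (P : Set G) := by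
        rw [hXe]; exact le_sup_right
      refine hX'.trans ?_
      apply le_normalizer_inf
      · exact inf_le_left.trans le_normalizer_sigmaCore
      · exact inf_le_right.trans le_normalizer
    have hcard2 := card_sup_mul_card_inf hXN
    have hq2 : q ∣ Nat.card X * Nat.card (sigmaCore M ⊓ centralizer (P : Set G) : Subgroup G) := by
      rw [← hcard2]
      apply Dvd.dvd.mul_right
      have h3 : q ∣ Nat.card (M ⊓ centralizer (P : Set G) : Subgroup G) :=
        (dvd_card_of_isPGroup hQ'.2.1 hQ'1).trans (Subgroup.card_dvd_of_le hQ'C)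
      rw [hXe, sup_comm] at h3
      exact h3
    have hqX : q ∣ Nat.card X := by
      rcases (Nat.Prime.dvd_mul Fact.out).mp hq2 with h | h
      · exact h
      · exact (hqσ (primes_sigmaCore q Fact.out (h.trans (Subgroup.card_dvd_of_le inf_le_left)))).elim
    have hqτ := hXτ q Fact.out hqX
    -- the elementary abelian subgroup in `Q'`
    obtain ⟨A₀, hA₀M, hA₀e, hA₀c⟩ := Cfsg.Agent.Lib.BGSigma3.exists_ea2 hqτ.2.2.2
    obtain ⟨Q₁, hQ₁, hA₀Q₁⟩ := exists_isSylowIn_ge q hA₀M (Cfsg.Agent.Lib.BGSigma3.isPGroup_of_ea hA₀e)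
    obtain ⟨m, hm, hmQ⟩ := hQ₁.exists_conj hQ'M
    have T := (T2.mk' hG hM hqτ hA₀M hA₀e hA₀c).conj hm
    have hAQ' : cj A₀ m ≤ Q' := by
      rw [hmQ]
      exact cj_mono hA₀Q₁ m
    apply hP1
    rw [eq_bot_iff, ← T.d]
    refine le_inf hPσ ?_
    intro b hb
    rw [Subgroup.mem_centralizer_iff]
    intro a ha
    exact (Subgroup.mem_centralizer_iff.mp (hcomm (hAQ' ha)) b hb).symm
  have hHc : (Nat.card H).Coprime (H.relIndex (sigmaCore M)) := by
    refine Nat.Coprime.coprime_dvd_right ?_ hHall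
    exact ⟨(sigmaCore M).index, (Subgroup.relIndex_mul_index hHσ).symm⟩
  obtain ⟨-, h2⟩ := h38 M hM H hHσ hH1 hHc
  obtain ⟨n, hn, hne⟩ := h2 x hx g hg
  exact ⟨n, (Subgroup.mem_inf.mp hn).2, hne⟩

end Cfsg.Agent.Lib.BGCent
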