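import Mathlib
import Cfsg.Agent.Lib.BGCent6
import Cfsg.Agent.Lib.FpfGeneral
import Cfsg.Agent.S1420

/-!
# Bender-Glauberman section 16: the maximal subgroup above `C_G(x)` for `x ∈ M_σ`, `C_G(x) ⊄ M`.

The results of the section on `κ(M)` and the conjugacy of maximal subgroups with a common prime in
`σ` are hypotheses here (`KappaFacts`).
-/

set_option autoImplicit false
set_option linter.unusedSectionVars false
set_option linter.unusedVariables false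
set_option linter.style.haveILetI false
set_option linter.unusedSimpArgs false

namespace Cfsg.Agent.Lib.BGCent

open Cfsg Subgroup Cfsg.Agent.Lib.CoprimeInv Cfsg.Agent.Lib.BGTrans Cfsg.Agent.Lib.BGTrans2 Cfsg.Agent.Lib.BGUniq
  Cfsg.Agent.Lib.BGUniq2 Cfsg.Agent.Lib.PCore Cfsg.Agent.Lib.BGTau7 Cfsg.Agent.Lib.BGM1 Cfsg.Agent.Lib.BGTau5
  Cfsg.Agent.Lib.BGTau3 Cfsg.Agent.Lib.BGM2 Cfsg.Agent.Lib.BGTau6 Cfsg.Agent.Lib.BGTau1 Cfsg.Agent.Lib.BGP2E
  Cfsg.Agent.Lib.BGFit2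
open scoped commutatorElement

universe u

variable {G : Type u} [Group G] [Finite G]

/-- The results on `κ(M)` and on common primes in `σ`. -/
structure KappaFacts (G : Type u) [Group G] [Finite G] : Prop where
  thD : ∀ M N : Subgroup G, IsCoatom M → IsCoatom N → (sigma M ∩ sigma N).Nonempty →
    ∃ g : G, N = M.map (MulAut.conj g).toMonoidHom
  h30 : ∀ (M : Subgroup G), IsCoatom M → ∀ (K : Subgroup G), IsPiHallOf (kappa M) K M → K ≠ ⊥ →
    (∀ k ∈ K, k ≠ 1 → sigmaCore M ⊓ centralizer ({k} : Set G) = (sigmaCore M ⊓ centralizer (K : Set G))) ∧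
      (∃ U : Subgroup G, IsMulCommutative U ∧ IsPiHallOf {q | q.Prime ∧ q ∉ kappa M ∧ q ∉ sigma M} U M ∧
        K ≤ normalizer (U : Set G) ∧ ∀ k ∈ K, k ≠ 1 → U ⊓ centralizer ({k} : Set G) = ⊥) ∧
      ∀ X : Subgroup G, X ≤ K → (Nat.card X).Prime →
        M ⊓ normalizer (X : Set G) = K ⊔ (sigmaCore M ⊓ centralizer (K : Set G)) ∧
        M ⊓ normalizer (K : Set G) = K ⊔ (sigmaCore M ⊓ centralizer (K : Set G)) ∧
        ∀ Mstar : Subgroup G, IsCoatom Mstar → normalizer (X : Set G) ≤ Mstar → X ≤ sigmaCore Mstar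
  h32 : ∀ (M : Subgroup G), IsCoatom M → ∀ x ∈ sigmaCore M, x ≠ 1 → ∀ x' ∈ M ⊓ centralizer ({x} : Set G), x' ≠ 1 →
    (∀ p : ℕ, p.Prime → p ∣ orderOf x' → p ∉ sigma M) →
    ((∀ p : ℕ, p.Prime → p ∣ orderOf x' → p ∈ kappa M) ∧ centralizer ({x} : Set G) ≤ M) ∨
      ((∀ p : ℕ, p.Prime → p ∣ orderOf x' → p ∈ tau2 M) ∧
        (∃ L : Subgroup G, IsCoatom L ∧ ∀ p : ℕ, p.Prime → p ∣ orderOf x' → p ∈ sigma L) ∧
        (centralizer ({x'} : Set G) ≤ M ∧ ∀ L : Subgroup G, IsCoatom L → centralizer ({x'} : Set G) ≤ L → L = M))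

theorem KappaFacts.h32' (hK : KappaFacts G) {M : Subgroup G} (hM : IsCoatom M) : H32 M := by
  intro x hx hx1 x' hx' hx'1 hσ hC
  rcases hK.h32 M hM x hx hx1 x' hx' hx'1 hσ with h | h
  · exact (hC h.2).elim
  · exact h.2.2

/-- An elementary abelian subgroup of order `p²` in a complement, for `p ∈ τ₂(M)`. -/
theorem exists_ea_in_compl (hG : IsMinSimpleOddOrder G) {M E : Subgroup G} (hM : IsCoatom M)
    (hE : IsComplIn E (sigmaCore M) M) {p : ℕ} [hpf : Fact p.Prime] (hpτ : p ∈ tau2 M) :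
    ∃ A : Subgroup G, A ≤ E ∧ Nonempty (T2 M A p) := by
  obtain ⟨A₀, hA₀M, hA₀e, hA₀c⟩ := Cfsg.Agent.Lib.BGSigma3.exists_ea2 hpτ.2.2.2
  obtain ⟨P₀, hP₀⟩ := exists_isSylowIn p E
  have hP₀M : IsSylowIn p P₀ M := by
    apply isSylowIn_of_hall hP₀ hE.1
    rw [show E.relIndex M = Nat.card (sigmaCore M) from ?_]
    · exact not_dvd_sigmaCore hpf.out hpτ.2.1
    · have h1 := card_compl hE
      have h2 : Nat.card E * E.relIndex M = Nat.card M := by
        have := Subgroup.card_mul_index (E.subgroupOf M)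
        rwa [card_subgroupOf_of_le hE.1] at this
      exact Nat.eq_of_mul_eq_mul_left Nat.card_pos (h2.trans h1.symm)
  obtain ⟨P₁, hP₁, hA₀P₁⟩ := exists_isSylowIn_ge p hA₀M (Cfsg.Agent.Lib.BGSigma3.isPGroup_of_ea hA₀e)
  obtain ⟨m, hm, hmP⟩ := hP₁.exists_conj hP₀M
  refine ⟨cj A₀ m, ?_, ⟨(T2.mk' hG hM hpτ hA₀M hA₀e hA₀c).conj hm⟩⟩
  have hAP₀ : cj A₀ m ≤ P₀ := by
    rw [hmP]
    exact cj_mono hA₀P₁ m
  exact hAP₀.trans hP₀.1

/-- The maximal subgroups above `N_G(A)`: the prime is in `σ`. -/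
theorem sigma_of_norm {M A L : Subgroup G} {p : ℕ} [hpf : Fact p.Prime] (T : T2 M A p) (hL : IsCoatom L)
    (hLN : normalizer (A : Set G) ≤ L) : p ∈ sigma L := by
  by_contra hpL
  have hG := T.hG
  have hAL : A ≤ L := le_normalizer.trans hLN
  have hτ : p ∈ tau2 L := ⟨hpf.out, hpL, rank2_of_not_sigma hG hL hpf.out hpL, not_rank_one_of_ea hAL T.ea T.card⟩
  obtain ⟨t, ht, htA⟩ := (T2.mk' hG hL hτ hAL T.ea T.card).exists_t
  exact ht (hLN htA)

/-- The context: `x ∈ M_σ`, `C_G(x) ⊄ M`, and the normal complement `R`. -/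
structure CCtx (M R : Subgroup G) (x : G) : Prop where
  hG : IsMinSimpleOddOrder G
  hK : KappaFacts G
  hM : IsCoatom M
  hx : x ∈ sigmaCore M
  hx1 : x ≠ 1
  hCM : ¬ centralizer ({x} : Set G) ≤ M
  hn : centralizer ({x} : Set G) ≤ normalizer (R : Set G)
  hR : IsComplIn (M ⊓ centralizer ({x} : Set G)) R (centralizer ({x} : Set G))

namespace CCtx

variable {M R : Subgroup G} {x : G} (c : CCtx M R x)
include c

theorem reg (g : G) (hg : x ∈ cj M g) : ∃ r ∈ R, cj M r = cj M g := by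
  obtain ⟨r, ⟨hr, he⟩, -⟩ := regular c.hG c.hM (c.hK.h32' c.hM) c.hx c.hx1 c.hR g hg
  exact ⟨r, hr, he⟩

theorem eq_one {r : G} (hr : r ∈ R) (hrM : r ∈ M) : r = 1 := by
  have h1 : r ∈ (M ⊓ centralizer ({x} : Set G)) ⊓ R :=
    Subgroup.mem_inf.mpr ⟨Subgroup.mem_inf.mpr ⟨hrM, c.hR.2.1 hr⟩, hr⟩
  rw [c.hR.2.2.1, Subgroup.mem_bot] at h1
  exact h1

theorem x_mem : x ∈ centralizer ({x} : Set G) := by
  rw [Subgroup.mem_centralizer_singleton_iff]

theorem exists_prime : ∃ p : ℕ, p.Prime ∧ p ∣ orderOf x :=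
  Nat.exists_prime_and_dvd (fun h => c.hx1 (orderOf_eq_one_iff.mp h))

/-- A maximal subgroup containing `x` and conjugate to `M` is `M^r`, `r ∈ R`. -/
theorem conj_of_prime {L : Subgroup G} (hL : IsCoatom L) (hxL : x ∈ L) {p : ℕ} (hp : p.Prime)
    (hd : p ∣ orderOf x) (hpL : p ∈ sigma L) : ∃ r ∈ R, L = cj M r := by
  have hpM : p ∈ sigma M := primes_sigmaCore p hp (hd.trans (Subgroup.orderOf_dvd_natCard _ c.hx))
  obtain ⟨g, hg⟩ := c.hK.thD M L c.hM hL ⟨p, hpM, hpL⟩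
  obtain ⟨r, hr, he⟩ := c.reg g (by have h2 := hxL; rw [hg] at h2; exact h2)
  exact ⟨r, hr, by rw [he]; exact hg⟩

/-- **(a)**: the primes of `x` are not in `σ(N)` for `N ≥ C_G(x)`. -/
theorem not_sigma {N : Subgroup G} (hN : IsCoatom N) (hCN : centralizer ({x} : Set G) ≤ N) {p : ℕ} (hp : p.Prime)
    (hd : p ∣ orderOf x) : p ∉ sigma N := by
  intro hpN
  obtain ⟨r, hr, he⟩ := c.conj_of_prime hN (hCN c.x_mem) hp hd hpN
  have hrN : r ∈ N := hCN (c.hR.2.1 hr)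
  rw [he, mem_cj] at hrN
  have hrM : r ∈ M := by simpa using hrN
  have hr1 := c.eq_one hr hrM
  rw [hr1, cj_one] at he
  exact c.hCM (he ▸ hCN)

/-- **(b)**: the primes of `x` are not in `κ(N)`, for `N ∋ x`. -/
theorem not_kappa {N : Subgroup G} (hN : IsCoatom N) (hxN : x ∈ N) {p : ℕ} (hp : p.Prime)
    (hd : p ∣ orderOf x) : p ∉ kappa N := by
  intro hκ
  classical
  have hG := c.hG
  haveI : Fact p.Prime := ⟨hp⟩
  set z := x ^ (orderOf x / p) with hz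
  have hzo : orderOf z = p := orderOf_pow_orderOf_div (orderOf_pos x).ne' hd
  have hzN : z ∈ N := N.pow_mem hxN _
  have hz1 : z ≠ 1 := by
    intro h
    rw [h, orderOf_one] at hzo
    exact hp.one_lt.ne hzo
  have hXc : Nat.card (zpowers z) = p := by rw [Nat.card_zpowers, hzo]
  obtain ⟨K, hXK, hK⟩ := exists_hall_ge (π := kappa N) (solvable_of_le_coatom hG hN le_rfl) (zpowers_le.mpr hzN) (by
    intro r hr hrd
    rw [hXc] at hrd
    rwa [(Nat.prime_dvd_prime_iff_eq hr hp).mp hrd])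
  have hK1 : K ≠ ⊥ := by
    intro h
    have := hXK (mem_zpowers z)
    rw [h, Subgroup.mem_bot] at this
    exact hz1 this
  have h3 := (c.hK.h30 N hN K hK hK1).2.2 (zpowers z) hXK (by rw [hXc]; exact hp)
  have hne : normalizer ((zpowers z : Subgroup G) : Set G) ≠ ⊤ := by
    apply IsMin.normalizer_ne_top hG
    · intro h
      exact hz1 (zpowers_eq_bot.mp h)
    · have hzp : z ^ p = 1 := by
        have := pow_orderOf_eq_one z
        rwa [hzo] at this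
      exact IsMin.isPGroup_ne_top hG (Cfsg.Agent.Lib.BGTau5.isPGroup_zpowers_of_pow hzp)
  obtain ⟨Ms, hMs, hle⟩ := BGTau5.exists_coatom_ge hne
  have hzσ : z ∈ sigmaCore Ms := h3.2.2 Ms hMs hle (mem_zpowers z)
  have hpσ : p ∈ sigma Ms := primes_sigmaCore p hp (by
    rw [← hzo]
    exact Subgroup.orderOf_dvd_natCard _ hzσ)
  refine c.not_sigma hMs ?_ hp hd hpσ
  refine le_trans ?_ ((cent_le_norm z).trans hle)
  intro y hy
  rw [Subgroup.mem_centralizer_singleton_iff] at hy ⊢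
  rw [hz]
  exact (Commute.pow_right (show Commute y x from hy) _).eq

/-- **(c)**: normal `r`-subgroups of `R`. -/
theorem sigma_of_core {r : ℕ} [hrf : Fact r.Prime] {R₁ N₂ : Subgroup G} (hR₁r : IsPGroup r R₁) (hR₁R : R₁ ≤ R)
    (hR₁1 : R₁ ≠ ⊥) (hCR₁ : centralizer ({x} : Set G) ≤ normalizer (R₁ : Set G)) (hN₂ : IsCoatom N₂)
    (hN₂N : normalizer (R₁ : Set G) ≤ N₂) : r ∈ sigma N₂ := by
  classical
  by_contra hrσ
  have hG := c.hG
  have hrp : r.Prime := hrf.out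
  have hCN₂ : centralizer ({x} : Set G) ≤ N₂ := hCR₁.trans hN₂N
  have hR₁N₂ : R₁ ≤ N₂ := le_normalizer.trans hN₂N
  have hr2 : r ≠ 2 := prime_ne_two_of_dvd hG (dvd_of_isPGroup hR₁r hR₁1)
  have hτ : r ∈ tau2 N₂ := by
    refine ⟨hrp, hrσ, rank2_of_not_sigma hG hN₂ hrp hrσ, ?_⟩
    intro hr1
    obtain ⟨P, hP, hR₁P⟩ := exists_isSylowIn_ge r hR₁N₂ hR₁r
    haveI hPc : IsCyclic P :=
      Cfsg.Agent.Lib.BGSigma4.isCyclic_of_prank_one hr2 hP.2.1 (BGUniq3.prankLE_of_le hP.1 hr1)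
    have hNP : normalizer (P : Set G) ≤ N₂ := by
      intro g hg
      apply hN₂N
      apply mem_normalizer_of_cj_eq
      have h1 : cj R₁ g ≤ P := by
        have := cj_mono hR₁P g
        rwa [cj_eq_of_mem_normalizer hg] at this
      have h2 := Cfsg.Agent.Lib.FpfGeneral.eq_of_card_eq_of_isCyclic ((cj R₁ g).subgroupOf P) (R₁.subgroupOf P)
        (by rw [card_subgroupOf_of_le h1, card_subgroupOf_of_le hR₁P, card_cj])
      apply le_antisymm
      · intro a ha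
        have h3 : (⟨a, h1 ha⟩ : P) ∈ (cj R₁ g).subgroupOf P := Subgroup.mem_subgroupOf.mpr ha
        rw [h2] at h3
        exact Subgroup.mem_subgroupOf.mp h3
      · intro a ha
        have h3 : (⟨a, hR₁P ha⟩ : P) ∈ R₁.subgroupOf P := Subgroup.mem_subgroupOf.mpr ha
        rw [← h2] at h3
        exact Subgroup.mem_subgroupOf.mp h3
    have hd : r ∣ Nat.card N₂ :=
      (dvd_card_of_isPGroup hR₁r hR₁1).trans (Subgroup.card_dvd_of_le hR₁N₂)
    exact hrσ (Cfsg.Agent.Lib.BGSigma3.mem_sigma_of hP hd hNP)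
  obtain ⟨y, hyR₁, hy1, hyr, -⟩ := exists_central hR₁r hR₁1
  have hxN : x ∈ normalizer (R₁ : Set G) := hCR₁ c.x_mem
  set Y : Subgroup G := zpowers x ⊔ R₁ with hY
  have hYN₂ : Y ≤ N₂ := sup_le (zpowers_le.mpr (hCN₂ c.x_mem)) hR₁N₂
  have hYp : ∀ q : ℕ, q.Prime → q ∣ Nat.card Y → q ∉ sigma N₂ := by
    intro q hq hd hqσ
    have h1 := card_sup_mul_card_inf (H := zpowers x) (N := R₁) (zpowers_le.mpr hxN)
    have h2 : q ∣ Nat.card (zpowers x) * Nat.card R₁ := by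
      rw [← h1]
      exact Dvd.dvd.mul_right hd _
    rcases (Nat.Prime.dvd_mul hq).mp h2 with h3 | h3
    · rw [Nat.card_zpowers] at h3
      exact c.not_sigma hN₂ hCN₂ hq h3 hqσ
    · obtain ⟨k, hk⟩ := IsPGroup.iff_card.mp hR₁r
      rw [hk] at h3
      have h4 := (Nat.prime_dvd_prime_iff_eq hq hrp).mp (hq.dvd_of_dvd_pow h3)
      rw [h4] at hqσ
      exact hrσ hqσ
  obtain ⟨E, hYE, hE⟩ := exists_compl_ge hG hN₂ hYN₂ hYp
  obtain ⟨A, hAE, ⟨T⟩⟩ := exists_ea_in_compl hG hN₂ hE hτ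
  have hyE : y ∈ E := hYE (mem_sup_right hyR₁)
  have hxE : x ∈ E := hYE (mem_sup_left (mem_zpowers x))
  have hyA : y ∈ A := T.compl_omega hE hAE hyE hyr
  have hNt : normalizer (A : Set G) ≠ ⊤ :=
    IsMin.normalizer_ne_top hG T.A_ne_bot (IsMin.isPGroup_ne_top hG T.isP)
  obtain ⟨L, hL, hLN⟩ := BGTau5.exists_coatom_ge hNt
  have hrL := sigma_of_norm T hL hLN
  have hEL : E ≤ L := (T.compl_norm hE hAE).trans hLN
  have hxL : x ∈ L := hEL hxE
  have hyL : y ∈ sigmaCore L :=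
    Cfsg.Agent.Lib.BGTau7.le_sigmaCore_of_pgroup hG hL hrL (hAE.trans hEL) T.isP hyA
  have hyC : y ∈ centralizer ({x} : Set G) := c.hR.2.1 (hR₁R hyR₁)
  have hxy : x ∈ L ⊓ centralizer ({y} : Set G) := by
    refine Subgroup.mem_inf.mpr ⟨hxL, ?_⟩
    rw [Subgroup.mem_centralizer_singleton_iff] at hyC ⊢
    exact hyC.symm
  by_cases hσx : ∀ p : ℕ, p.Prime → p ∣ orderOf x → p ∉ sigma L
  · rcases c.hK.h32 L hL y hyL hy1 x hxy c.hx1 hσx with ⟨h1, -⟩ | ⟨-, -, h3⟩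
    · obtain ⟨p, hp, hd⟩ := c.exists_prime
      exact c.not_kappa hL hxL hp hd (h1 p hp hd)
    · have he : N₂ = L := h3.2 N₂ hN₂ hCN₂
      obtain ⟨t, ht, htA⟩ := T.exists_t
      exact ht (he ▸ hLN htA)
  · push Not at hσx
    obtain ⟨p, hp, hd, hpL⟩ := hσx
    obtain ⟨r₀, hr₀, he⟩ := c.conj_of_prime hL hxL hp hd hpL
    have hy' : r₀⁻¹ * y * r₀ ∈ M := by
      have h1 : y ∈ L := sigmaCore_le hyL
      rw [he, mem_cj] at h1
      exact h1
    have hr₀N : r₀⁻¹ ∈ normalizer (R₁ : Set G) := Subgroup.inv_mem _ (hCR₁ (c.hR.2.1 hr₀))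
    have hy'R : r₀⁻¹ * y * r₀ ∈ R₁ := by
      have := (mem_normalizer_iff.mp hr₀N y).mp hyR₁
      simpa using this
    have h5 := c.eq_one (hR₁R hy'R) hy'
    apply hy1
    have e : y = r₀ * (r₀⁻¹ * y * r₀) * r₀⁻¹ := by group
    rw [e, h5]
    group

end CCtx

end Cfsg.Agent.Lib.BGCent
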