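import Mathlib
import Cfsg.Agent.Lib.BGCent7

/-!
# Bender-Glauberman section 16: the unique maximal subgroup `N` above `C_G(x)`, and its structure.
-/

set_option autoImplicit false
set_option linter.unusedSectionVars false
set_option linter.unusedVariables false
set_option linter.style.haveILetI false
set_option linter.unusedSimpArgs false

namespace Cfsg.Agent.Lib.BGCent

open Cfsg Subgroup Cfsg.Agent.Lib.CoprimeInv Cfsg.Agent.Lib.BGTrans Cfsg.Agent.Lib.BGTrans2 Cfsg.Agent.Lib.BGUniq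
  Cfsg.Agent.Lib.BGUniq2 Cfsg.Agent.Lib.PCore Cfsg.Agent.Lib.BGTau7 Cfsg.Agent.Lib.BGM1 Cfsg.Agent.Lib.BGTau5
  Cfsg.Agent.Lib.BGTau3 Cfsg.Agent.Lib.BGM2 Cfsg.Agent.Lib.BGTau6 Cfsg.Agent.Lib.BGTau1 Cfsg.Agent.Lib.BGP2E
  Cfsg.Agent.Lib.BGFit2
open scoped commutatorElement

universe u

variable {G : Type u} [Group G] [Finite G]

/-- A nontrivial solvable subgroup has a nontrivial `p`-core. -/
theorem exists_pCoreOf_ne_bot {R : Subgroup G} (hs : Group.IsSolvable R) (hR : R ≠ ⊥) :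
    ∃ r : ℕ, r.Prime ∧ pCoreOf r R ≠ ⊥ := by
  classical
  by_contra hno
  push Not at hno
  have h1 : ∀ p : Nat.Primes, pCore (p : ℕ) R = ⊥ := by
    intro p
    have h2 := hno p p.2
    rw [pCoreOf, Subgroup.map_eq_bot_iff_of_injective _ R.subtype_injective] at h2
    exact h2
  have h2 : fittingSubgroup R = ⊥ := by
    rw [fittingSubgroup_eq_iSup_pCore]
    simp [h1]
  have h3 := centralizer_fittingSubgroup_le (G := R)
  rw [h2] at h3
  apply hR
  rw [eq_bot_iff]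
  intro a ha
  have h4 : (⟨a, ha⟩ : R) ∈ centralizer (((⊥ : Subgroup R) : Subgroup R) : Set R) := by
    rw [Subgroup.mem_centralizer_iff]
    intro h hh
    have : h = 1 := by simpa using hh
    rw [this]; simp
  have h5 := h3 h4
  rw [Subgroup.mem_bot] at h5
  exact congrArg Subtype.val h5

namespace CCtx

variable {M R : Subgroup G} {x : G} (c : CCtx M R x)
include c

theorem R_ne_bot : R ≠ ⊥ := by
  intro h
  apply c.hCM
  intro y hy
  obtain ⟨a, ha, b, hb, rfl⟩ := c.hR.2.2.2 y hy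
  rw [h, Subgroup.mem_bot] at hb
  rw [hb, mul_one]
  exact (Subgroup.mem_inf.mp ha).1

/-- **The unique maximal subgroup above `C_G(x)`.** -/
theorem exists_N : ∃ N : Subgroup G, IsCoatom N ∧ centralizer ({x} : Set G) ≤ N ∧
    (∀ L : Subgroup G, IsCoatom L → centralizer ({x} : Set G) ≤ L → L = N) ∧
    (∀ p : ℕ, p.Prime → p ∣ orderOf x → p ∈ tau2 N) := by
  have hG := c.hG
  have hRt : R ≠ ⊤ := by
    intro h
    have h1 : centralizer ({x} : Set G) ≠ ⊤ := IsMin.centralizer_singleton_ne_top hG c.hx1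
    exact h1 (top_le_iff.mp (h ▸ c.hR.2.1))
  obtain ⟨r, hr, hR₁⟩ := exists_pCoreOf_ne_bot (IsMin.solvable hG hRt) c.R_ne_bot
  haveI : Fact r.Prime := ⟨hr⟩
  set R₁ := pCoreOf r R with hR₁def
  have hR₁p : IsPGroup r R₁ := isPGroup_pCoreOf r R
  have hR₁R : R₁ ≤ R := pCoreOf_le r R
  have hCR₁ : centralizer ({x} : Set G) ≤ normalizer (R₁ : Set G) :=
    c.hn.trans (normalizer_le_normalizer_pCoreOf r R)
  obtain ⟨N, hN, hNN⟩ := BGTau5.exists_coatom_ge (IsMin.normalizer_ne_top hG hR₁ (IsMin.isPGroup_ne_top hG hR₁p))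
  have hrN := c.sigma_of_core hR₁p hR₁R hR₁ hCR₁ hN hNN
  have hCN := hCR₁.trans hNN
  have hR₁σ : R₁ ≤ sigmaCore N :=
    Cfsg.Agent.Lib.BGTau7.le_sigmaCore_of_pgroup hG hN hrN (le_normalizer.trans hNN) hR₁p
  obtain ⟨y, hyR₁, hy1, hyr, -⟩ := exists_central hR₁p hR₁
  have hyC : y ∈ centralizer ({x} : Set G) := c.hR.2.1 (hR₁R hyR₁)
  have hxy : x ∈ N ⊓ centralizer ({y} : Set G) := by
    refine Subgroup.mem_inf.mpr ⟨hCN c.x_mem, ?_⟩
    rw [Subgroup.mem_centralizer_singleton_iff] at hyC ⊢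
    exact hyC.symm
  rcases c.hK.h32 N hN y (hR₁σ hyR₁) hy1 x hxy c.hx1 (fun p hp hd => c.not_sigma hN hCN hp hd) with
    ⟨h1, -⟩ | ⟨h1, -, h3⟩
  · obtain ⟨p, hp, hd⟩ := c.exists_prime
    exact (c.not_kappa hN (hCN c.x_mem) hp hd (h1 p hp hd)).elim
  · exact ⟨N, hN, hCN, h3.2, h1⟩

variable {N : Subgroup G} (hN : IsCoatom N) (hCN : centralizer ({x} : Set G) ≤ N)
  (hτ : ∀ p : ℕ, p.Prime → p ∣ orderOf x → p ∈ tau2 N)
include hN hCN hτ

theorem M_ne : M ≠ N := by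
  rintro rfl
  exact c.hCM hCN

/-- An elementary abelian subgroup of `N` inside `C_M(x)`. -/
theorem exists_A {p : ℕ} [hpf : Fact p.Prime] (hd : p ∣ orderOf x) :
    ∃ A : Subgroup G, A ≤ M ⊓ centralizer ({x} : Set G) ∧ Nonempty (T2 N A p) := by
  classical
  have hG := c.hG
  have hpτ := hτ p hpf.out hd
  have hxN : x ∈ N := hCN c.x_mem
  have hNs : Group.IsSolvable N := solvable_of_le_coatom hG hN le_rfl
  -- a Hall `τ₂(N)`-subgroup through `x`
  obtain ⟨Y, hxY, hY⟩ := exists_hall_ge (π := tau2 N) hNs (zpowers_le.mpr hxN) (by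
    intro q hq hqd
    rw [Nat.card_zpowers] at hqd
    exact hτ q hq hqd)
  have hYn := nilpotent_of_tau2 hG hN hY.1 hY.2.1
  have hYa := nilpotent_abelian hG hN hY.1 hYn (fun q hq hqd => (hY.2.1 q hq hqd).2.1)
  obtain ⟨A₀, hA₀N, hA₀e, hA₀c⟩ := Cfsg.Agent.Lib.BGSigma3.exists_ea2 hpτ.2.2.2
  have T₀ := T2.mk' hG hN hpτ hA₀N hA₀e hA₀c
  obtain ⟨P₀, hP₀⟩ := exists_isSylowIn p Y
  have hP₀N : IsSylowIn p P₀ N := isSylowIn_of_hall hP₀ hY.1 (hY.2.2 p hpf.out hpτ)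
  obtain ⟨P₁, hP₁, hA₀P₁⟩ := exists_isSylowIn_ge p hA₀N T₀.isP
  obtain ⟨m, hm, hmP⟩ := hP₁.exists_conj hP₀N
  have T₁ := T₀.conj hm
  have hA₁Y : cj A₀ m ≤ Y := by
    refine le_trans ?_ hP₀.1
    rw [hmP]
    exact cj_mono hA₀P₁ m
  have hA₁C : cj A₀ m ≤ centralizer ({x} : Set G) := by
    intro a ha
    rw [Subgroup.mem_centralizer_singleton_iff]
    exact comm_of_abelian hYa (hA₁Y ha) (hxY (mem_zpowers x))
  -- conjugate into `C_M(x)`
  set D := M ⊓ centralizer ({x} : Set G) with hD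
  have hxD : x ∈ D := Subgroup.mem_inf.mpr ⟨sigmaCore_le c.hx, c.x_mem⟩
  have hpD : p ∣ Nat.card D := hd.trans (Subgroup.orderOf_dvd_natCard _ hxD)
  obtain ⟨SD, hSD⟩ := exists_isSylowIn p D
  have hcop := coprime_index hG c.hM (c.hK.h32' c.hM) c.hx c.hx1
  have hpi : ¬ p ∣ D.relIndex (centralizer ({x} : Set G)) := by
    intro h2
    have := Nat.dvd_gcd hpD h2
    rw [hcop.gcd_eq_one] at this
    exact hpf.out.one_lt.ne' (Nat.dvd_one.mp this)
  have hSDC : IsSylowIn p SD (centralizer ({x} : Set G)) := isSylowIn_of_hall hSD inf_le_right hpi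
  obtain ⟨P₂, hP₂, hA₁P₂⟩ := exists_isSylowIn_ge p hA₁C T₁.isP
  obtain ⟨e, he, heP⟩ := hSDC.exists_conj hP₂
  obtain ⟨d, hd', r, hr, hdr⟩ := c.hR.2.2.2 e⁻¹ (Subgroup.inv_mem _ he)
  have he' : e = r⁻¹ * d⁻¹ := by
    have : e = (e⁻¹)⁻¹ := by group
    rw [this, hdr]; group
  have hrN : r ∈ N := hCN (c.hR.2.1 hr)
  refine ⟨cj (cj A₀ m) r, ?_, ⟨T₁.conj hrN⟩⟩
  have h1 : cj A₀ m ≤ cj D r⁻¹ := by
    refine hA₁P₂.trans ?_
    rw [heP, he', ← cj_cj]
    apply cj_mono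
    have := cj_mono hSD.1 d⁻¹
    rwa [cj_eq_of_mem_normalizer (Subgroup.inv_mem _ (le_normalizer hd'))] at this
  have h2 := cj_mono h1 r
  rwa [cj_inv_cj] at h2

/-- `N_σ ∩ M = 1`. -/
theorem sigma_inf : sigmaCore N ⊓ M = ⊥ := by
  obtain ⟨p, hp, hd⟩ := c.exists_prime
  haveI : Fact p.Prime := ⟨hp⟩
  obtain ⟨A, hAD, ⟨T⟩⟩ := c.exists_A hN hCN hτ hd
  exact T.e c.hM (c.M_ne hN hCN hτ) (hAD.trans inf_le_left)

/-- `N_G(A) ≤ M` for `A ≤ C_M(x)`. -/
theorem norm_le {p : ℕ} [hpf : Fact p.Prime] (hd : p ∣ orderOf x) {A : Subgroup G} (T : T2 N A p)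
    (hAD : A ≤ M ⊓ centralizer ({x} : Set G)) : normalizer (A : Set G) ≤ M := by
  have hG := c.hG
  have hNt : normalizer (A : Set G) ≠ ⊤ :=
    IsMin.normalizer_ne_top hG T.A_ne_bot (IsMin.isPGroup_ne_top hG T.isP)
  obtain ⟨L, hL, hLN⟩ := BGTau5.exists_coatom_ge hNt
  have hpL := sigma_of_norm T hL hLN
  have hAC : A ≤ centralizer ({x} : Set G) := hAD.trans inf_le_right
  have hxCA : x ∈ centralizer (A : Set G) := by
    rw [Subgroup.mem_centralizer_iff]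
    intro a ha
    have := hAC ha
    rw [Subgroup.mem_centralizer_singleton_iff] at this
    exact this
  have hxL : x ∈ L := hLN (Subgroup.centralizer_le_normalizer _ hxCA)
  obtain ⟨r₀, hr₀, he⟩ := c.conj_of_prime hL hxL hpf.out hd hpL
  have hr₀C := c.hR.2.1 hr₀
  have hr₀ca : r₀ ∈ centralizer (A : Set G) := by
    rw [Subgroup.mem_centralizer_iff]
    intro a ha
    have haL : a ∈ L := hLN (le_normalizer ha)
    rw [he, mem_cj] at haL
    have haC := hAC ha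
    have h1 : r₀⁻¹ * a * r₀ ∈ centralizer ({x} : Set G) :=
      Subgroup.mul_mem _ (Subgroup.mul_mem _ (Subgroup.inv_mem _ hr₀C) haC) hr₀C
    have haM : a ∈ M := (hAD ha).1
    have h2 : a⁻¹ * (r₀⁻¹ * a * r₀) ∈ (M ⊓ centralizer ({x} : Set G)) ⊓ R := by
      refine Subgroup.mem_inf.mpr ⟨Subgroup.mem_inf.mpr ⟨M.mul_mem (M.inv_mem haM) haL,
        Subgroup.mul_mem _ (Subgroup.inv_mem _ haC) h1⟩, ?_⟩
      have e1 : a⁻¹ * (r₀⁻¹ * a * r₀) = (a⁻¹ * r₀⁻¹ * a) * r₀ := by group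
      rw [e1]
      refine R.mul_mem ?_ hr₀
      have := (mem_normalizer_iff.mp (c.hn (Subgroup.inv_mem _ haC)) r₀⁻¹).mp (R.inv_mem hr₀)
      simpa using this
    rw [c.hR.2.2.1, Subgroup.mem_bot] at h2
    have h3 : r₀⁻¹ * a * r₀ = a := by
      have e2 : a⁻¹ * (r₀⁻¹ * a * r₀) = 1 := h2
      rw [inv_mul_eq_iff_eq_mul, mul_one] at e2
      exact e2
    have h4 : a * r₀ = r₀ * a := by
      calc a * r₀ = r₀ * (r₀⁻¹ * a * r₀) := by group
        _ = r₀ * a := by rw [h3]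
    exact h4
  have hr₀M : r₀ ∈ M := T.cent_le c.hM (hAD.trans inf_le_left) hr₀ca
  have h1 := c.eq_one hr₀ hr₀M
  rw [h1, cj_one] at he
  rw [← he]
  exact hLN

/-- `M ∩ N` is a complement of `N_σ` in `N`. -/
theorem compl_N : IsComplIn (M ⊓ N) (sigmaCore N) N := by
  have hG := c.hG
  obtain ⟨p, hp, hd⟩ := c.exists_prime
  haveI : Fact p.Prime := ⟨hp⟩
  obtain ⟨A, hAD, ⟨T⟩⟩ := c.exists_A hN hCN hτ hd
  have hAN : A ≤ N := T.hAM
  obtain ⟨E, hAE, hE⟩ := exists_compl_ge hG hN hAN (by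
    intro q hq hqd
    obtain ⟨k, hk⟩ := IsPGroup.iff_card.mp T.isP
    rw [hk] at hqd
    rw [(Nat.prime_dvd_prime_iff_eq hq hp).mp (hq.dvd_of_dvd_pow hqd)]
    exact (hτ p hp hd).2.1)
  have hEM : E ≤ M := (T.compl_norm hE hAE).trans (c.norm_le hN hCN hτ hd T hAD)
  refine ⟨inf_le_right, sigmaCore_le, ?_, ?_⟩
  · rw [inf_comm]
    have h1 := c.sigma_inf hN hCN hτ
    rw [eq_bot_iff, ← h1]
    exact le_inf inf_le_left (inf_le_right.trans inf_le_left)
  · intro m hm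
    obtain ⟨e, he, s, hs, rfl⟩ := hE.2.2.2 m hm
    exact ⟨e, Subgroup.mem_inf.mpr ⟨hEM he, hE.1 he⟩, s, hs, rfl⟩

/-- `R ≤ N_σ`. -/
theorem R_le : R ≤ sigmaCore N := by
  classical
  have hG := c.hG
  apply le_of_forall_pgroup_le
  intro q _ Q hQR hQq
  have hQC : Q ≤ centralizer ({x} : Set G) := hQR.trans c.hR.2.1
  by_cases hqσ : q ∈ sigma N
  · exact Cfsg.Agent.Lib.BGTau7.le_sigmaCore_of_pgroup hG hN hqσ (hQC.trans hCN) hQq
  obtain ⟨p, hp, hd⟩ := c.exists_prime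
  haveI : Fact p.Prime := ⟨hp⟩
  have hxQ : x ∈ normalizer (Q : Set G) := by
    rw [mem_normalizer_iff]
    intro a
    constructor
    · intro ha
      have h1 := hQC ha
      rw [Subgroup.mem_centralizer_singleton_iff] at h1
      rw [← h1]
      simpa using ha
    · intro ha
      have h1 : x * a * x⁻¹ ∈ centralizer ({x} : Set G) := hQC ha
      have h2 : a ∈ centralizer ({x} : Set G) := by
        have h3 := Subgroup.mul_mem _ (Subgroup.mul_mem _ (Subgroup.inv_mem _ c.x_mem) h1) c.x_mem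
        have e : x⁻¹ * (x * a * x⁻¹) * x = a := by group
        rwa [e] at h3
      rw [Subgroup.mem_centralizer_singleton_iff] at h2
      rw [← h2] at ha
      simpa using ha
  have hYN : zpowers x ⊔ Q ≤ N := sup_le (zpowers_le.mpr (hCN c.x_mem)) (hQC.trans hCN)
  obtain ⟨E, hYE, hE⟩ := exists_compl_ge hG hN hYN (by
    intro k hk hkd hkσ
    have h1 := card_sup_mul_card_inf (H := zpowers x) (N := Q) (zpowers_le.mpr hxQ)
    have h2 : k ∣ Nat.card (zpowers x) * Nat.card Q := by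
      rw [← h1]
      exact Dvd.dvd.mul_right hkd _
    rcases (Nat.Prime.dvd_mul hk).mp h2 with h3 | h3
    · rw [Nat.card_zpowers] at h3
      exact c.not_sigma hN hCN hk h3 hkσ
    · obtain ⟨j, hj⟩ := IsPGroup.iff_card.mp hQq
      rw [hj] at h3
      rw [(Nat.prime_dvd_prime_iff_eq hk Fact.out).mp (hk.dvd_of_dvd_pow h3)] at hkσ
      exact hqσ hkσ)
  obtain ⟨A, hAE, ⟨T⟩⟩ := exists_ea_in_compl hG hN hE (hτ p hp hd)
  have hNt : normalizer (A : Set G) ≠ ⊤ :=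
    IsMin.normalizer_ne_top hG T.A_ne_bot (IsMin.isPGroup_ne_top hG T.isP)
  obtain ⟨L, hL, hLN⟩ := BGTau5.exists_coatom_ge hNt
  have hpL := sigma_of_norm T hL hLN
  have hEL : E ≤ L := (T.compl_norm hE hAE).trans hLN
  have hxL : x ∈ L := hEL (hYE (mem_sup_left (mem_zpowers x)))
  obtain ⟨r₀, hr₀, he⟩ := c.conj_of_prime hL hxL hp hd hpL
  intro a ha
  have haL : a ∈ L := hEL (hYE (mem_sup_right ha))
  rw [he, mem_cj] at haL
  have haR : r₀⁻¹ * a * r₀ ∈ R := R.mul_mem (R.mul_mem (R.inv_mem hr₀) (hQR ha)) hr₀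
  have h1 := c.eq_one haR haL
  have h2 : a = 1 := by
    have e : a = r₀ * (r₀⁻¹ * a * r₀) * r₀⁻¹ := by group
    rw [e, h1]; group
  rw [h2]
  exact one_mem _

/-- `C_{N_σ}(x) = R`. -/
theorem cent_eq : sigmaCore N ⊓ centralizer ({x} : Set G) = R := by
  apply le_antisymm
  · rintro z ⟨hzσ, hzC⟩
    obtain ⟨d, hd, r, hr, rfl⟩ := c.hR.2.2.2 z hzC
    have hr' : r ∈ sigmaCore N := c.R_le hN hCN hτ hr
    have hdσ : d ∈ sigmaCore N ⊓ M := by
      refine Subgroup.mem_inf.mpr ⟨?_, (Subgroup.mem_inf.mp hd).1⟩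
      have e : d = (d * r) * r⁻¹ := by group
      rw [e]
      exact Subgroup.mul_mem _ hzσ (Subgroup.inv_mem _ hr')
    rw [c.sigma_inf hN hCN hτ, Subgroup.mem_bot] at hdσ
    rw [hdσ, one_mul]
    exact hr
  · exact le_inf (c.R_le hN hCN hτ) c.hR.2.1

/-- `N_σ` is nilpotent. -/
theorem nilp : Group.IsNilpotent (sigmaCore N) := by
  have hG := c.hG
  obtain ⟨p, hp, hd⟩ := c.exists_prime
  haveI : Fact p.Prime := ⟨hp⟩
  have hpτ := hτ p hp hd
  obtain ⟨A₀, hA₀N, hA₀e, hA₀c⟩ := Cfsg.Agent.Lib.BGSigma3.exists_ea2 hpτ.2.2.2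
  exact (T2.mk' hG hN hpτ hA₀N hA₀e hA₀c).nilpotent

end CCtx

/-- `M_F ≤ M_σ`. -/
theorem fittingHallOf_le_sigmaCore (hG : IsMinSimpleOddOrder G) {N : Subgroup G} (hN : IsCoatom N) :
    fittingHallOf N ≤ sigmaCore N := by
  classical
  obtain ⟨hFn', hFn, hFc⟩ := Cfsg.Agent.Lib.OddOrderCore.fittingHall_mem ↥N
  apply Subgroup.map_mono
  apply le_piCore hFn'
  intro k hk hkd
  haveI : Fact k.Prime := ⟨hk⟩
  set F : Subgroup G := fittingHallOf N with hF
  have hFnil : Group.IsNilpotent F :=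
    Group.nilpotent_of_mulEquiv (Subgroup.equivMapOfInjective _ _ N.subtype_injective)
  have hFN : F ≤ N := Subgroup.map_subtype_le _
  have hFsub : F.subgroupOf N = fittingHall ↥N := by
    rw [hF, fittingHallOf, Subgroup.subgroupOf, Subgroup.comap_map_eq_self_of_injective N.subtype_injective]
  have hFNN : N ≤ normalizer (F : Set G) := by
    haveI : (F.subgroupOf N).Normal := by rw [hFsub]; exact hFn'
    exact Subgroup.le_normalizer_of_normal_subgroupOf hFN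
  have hcF : Nat.card F = Nat.card (fittingHall ↥N) := Subgroup.card_map_of_injective N.subtype_injective
  have hkF : k ∣ Nat.card F := by rw [hcF]; exact hkd
  obtain ⟨P, hP⟩ := exists_isSylowIn k F
  have hP1 : P ≠ ⊥ := sylow_ne_bot hP hkF
  have hPN : IsSylowIn k P N := by
    apply isSylowIn_of_hall hP hFN
    rw [show F.relIndex N = (fittingHall ↥N).index by rw [Subgroup.relIndex, hFsub]]
    intro h2
    have := Nat.dvd_gcd hkd h2
    rw [hFc.gcd_eq_one] at this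
    exact hk.one_lt.ne' (Nat.dvd_one.mp this)
  have hNP : N ≤ normalizer (P : Set G) := by
    intro g hg
    apply mem_normalizer_of_cj_eq
    apply Subgroup.eq_of_le_of_card_ge
    · apply sylow_of_nilpotent_le hFnil hP
      · have := cj_mono hP.1 g
        rwa [cj_eq_of_mem_normalizer (hFNN hg)] at this
      · exact hP.2.1.map _
    · rw [card_cj]
  have hNe : normalizer (P : Set G) ≤ N := by
    have hne : normalizer (P : Set G) ≠ ⊤ := IsMin.normalizer_ne_top hG hP1 (IsMin.isPGroup_ne_top hG hP.2.1)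
    rcases eq_or_lt_of_le hNP with h | h
    · exact h.symm.le
    · exact (hne (hN.2 _ h)).elim
  exact Cfsg.Agent.Lib.BGSigma3.mem_sigma_of hPN
    ((dvd_card_of_isPGroup hP.2.1 hP1).trans (Subgroup.card_dvd_of_le hPN.1)) hNe

/-- `M_σ = M_F` when `M_σ` is nilpotent. -/
theorem sigmaCore_eq_fittingHallOf (hG : IsMinSimpleOddOrder G) {N : Subgroup G} (hN : IsCoatom N)
    (hnil : Group.IsNilpotent (sigmaCore N)) : sigmaCore N = fittingHallOf N := by
  apply le_antisymm _ (fittingHallOf_le_sigmaCore hG hN)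
  apply Subgroup.map_mono
  apply Cfsg.Agent.Lib.OddOrderCore.le_fittingHall inferInstance
  · haveI h : Group.IsNilpotent ((piCore (sigma N) N).map N.subtype) := hnil
    exact Group.nilpotent_of_mulEquiv (Subgroup.equivMapOfInjective (piCore (sigma N) N) _ N.subtype_injective).symm
  · apply Nat.coprime_of_dvd
    intro k hk hk1 hk2
    have hkσ : k ∈ sigma N := piCore_primes _ k hk hk1
    apply (sigma_hall hG hN).1.2.2 k hk hkσ
    rw [relIndex_sigmaCore]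
    exact hk2

end Cfsg.Agent.Lib.BGCent
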