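import Mathlib
import Cfsg.Agent.Lib.BGCent8

/-!
# Bender-Glauberman section 16: standard factorisations and the main result on `C_G(x)`.
-/

set_option autoImplicit false
set_option linter.unusedSectionVars false
set_option linter.unusedVariables false
set_option linter.style.haveILetI false
set_option linter.unusedSimpArgs false

namespace Cfsg.Agent.Lib.BGCent

open Cfsg Subgroup Cfsg.Agent.Lib.CoprimeInv Cfsg.Agent.Lib.BGTrans Cfsg.Agent.Lib.BGTrans2 Cfsg.Agent.Lib.BGUniq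
  Cfsg.Agent.Lib.BGUniq2 Cfsg.Agent.Lib.PCore Cfsg.Agent.Lib.BGTau7 Cfsg.Agent.Lib.BGM1 Cfsg.Agent.Lib.BGTau5
  Cfsg.Agent.Lib.BGTau3 Cfsg.Agent.Lib.BGM2 Cfsg.Agent.Lib.BGTau6 Cfsg.Agent.Lib.BGTau1 Cfsg.Agent.Lib.BGP2E
  Cfsg.Agent.Lib.BGFit2
open scoped commutatorElement

universe u

variable {G : Type u} [Group G] [Finite G]

theorem mem_normalizer_sup {A B : Subgroup G} {g : G} (hA : g ∈ normalizer (A : Set G))
    (hB : g ∈ normalizer (B : Set G)) : g ∈ normalizer ((A ⊔ B : Subgroup G) : Set G) := by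
  apply mem_normalizer_of_cj_eq
  have e : cj (A ⊔ B) g = cj A g ⊔ cj B g := Subgroup.map_sup _ _ _
  rw [e, cj_eq_of_mem_normalizer hA, cj_eq_of_mem_normalizer hB]

theorem card_sup_dvd {A B : Subgroup G} (h : A ≤ normalizer (B : Set G)) :
    Nat.card (A ⊔ B : Subgroup G) ∣ Nat.card A * Nat.card B := ⟨_, (card_sup_mul_card_inf h).symm⟩

theorem not_kappa_of_sigma {M : Subgroup G} {q : ℕ} (h : q ∈ sigma M) : q ∉ kappa M := fun h2 => h2.2.2.1 h

/-- A Hall `κ(N)`-subgroup `K ≠ 1`: the subgroup `U₀ N_σ` from the structure theorem is normal. -/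
theorem exists_normal_hall (hG : IsMinSimpleOddOrder G) (hK : KappaFacts G) {N K : Subgroup G} (hN : IsCoatom N)
    (hKh : IsPiHallOf (kappa N) K N) (hK1 : K ≠ ⊥) :
    ∃ U₀ : Subgroup G, IsPiHallOf {q | q.Prime ∧ q ∉ kappa N ∧ q ∉ sigma N} U₀ N ∧
      N ≤ normalizer ((U₀ ⊔ sigmaCore N : Subgroup G) : Set G) ∧
      (∀ q : ℕ, q.Prime → q ∉ kappa N → ¬ q ∣ (U₀ ⊔ sigmaCore N).relIndex N) ∧
      (∀ q : ℕ, q.Prime → q ∣ Nat.card (U₀ ⊔ sigmaCore N : Subgroup G) → q ∉ kappa N) := by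
  obtain ⟨U₀, -, hU₀, hKU, -⟩ := (hK.h30 N hN K hKh hK1).2.1
  set V : Subgroup G := U₀ ⊔ sigmaCore N with hV
  have hσn : N ≤ normalizer (sigmaCore N : Set G) := le_normalizer_sigmaCore
  have hVN : V ≤ N := sup_le hU₀.1 sigmaCore_le
  refine ⟨U₀, hU₀, ?_, ?_, ?_⟩
  · have hsup : K ⊔ V = N := by
      apply le_antisymm (sup_le hKh.1 hVN)
      have hi : (K ⊔ V).relIndex N = 1 := by
        by_contra hne
        obtain ⟨k, hk, hkd⟩ := Nat.exists_prime_and_dvd hne
        by_cases hkκ : k ∈ kappa N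
        · exact hKh.2.2 k hk hkκ (hkd.trans (Subgroup.relIndex_dvd_of_le_left N le_sup_left))
        · by_cases hkσ : k ∈ sigma N
          · exact (sigma_hall hG hN).1.2.2 k hk hkσ (hkd.trans (Subgroup.relIndex_dvd_of_le_left N
              (le_sup_right.trans le_sup_right)))
          · exact hU₀.2.2 k hk ⟨hk, hkκ, hkσ⟩ (hkd.trans (Subgroup.relIndex_dvd_of_le_left N
              (le_sup_left.trans le_sup_right)))
      exact Subgroup.relIndex_eq_one.mp hi
    have hle : K ⊔ V ≤ normalizer (V : Set G) := by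
      refine sup_le ?_ le_normalizer
      intro k hk
      exact mem_normalizer_sup (hKU hk) (hσn (hKh.1 hk))
    exact hsup.symm.le.trans hle
  · intro q hq hqκ hd
    by_cases hqσ : q ∈ sigma N
    · exact (sigma_hall hG hN).1.2.2 q hq hqσ (hd.trans (Subgroup.relIndex_dvd_of_le_left N le_sup_right))
    · exact hU₀.2.2 q hq ⟨hq, hqκ, hqσ⟩ (hd.trans (Subgroup.relIndex_dvd_of_le_left N le_sup_left))
  · intro q hq hd
    have h1 := hd.trans (card_sup_dvd (hU₀.1.trans hσn))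
    rcases (Nat.Prime.dvd_mul hq).mp h1 with h2 | h2
    · exact (hU₀.2.1 q hq h2).2.1
    · exact not_kappa_of_sigma (primes_sigmaCore q hq h2)

/-- `y ∈ U N_σ` if no prime of the order of `y` is in `κ(N)`. -/
theorem mem_sup_of_not_kappa (hG : IsMinSimpleOddOrder G) (hK : KappaFacts G) {N K U : Subgroup G} (hN : IsCoatom N)
    (hd : IsSigmaDecomposition N K U) {y : G} (hyN : y ∈ N)
    (hy : ∀ q : ℕ, q.Prime → q ∣ orderOf y → q ∉ kappa N) : y ∈ U ⊔ sigmaCore N := by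
  classical
  by_cases hK1 : K = ⊥
  · obtain ⟨u, hu, s, hs, rfl⟩ := hd.compl.2.2.2 y hyN
    rw [hK1, bot_sup_eq] at hs
    exact Subgroup.mul_mem _ (mem_sup_left hu) (mem_sup_right hs)
  obtain ⟨U₀, hU₀, hVn, hVi, hVp⟩ := exists_normal_hall hG hK hN hd.hall hK1
  set V₀ : Subgroup G := U₀ ⊔ sigmaCore N with hV₀
  have hV₀N : V₀ ≤ N := sup_le hU₀.1 sigmaCore_le
  haveI hnorm : (V₀.subgroupOf N).Normal := Subgroup.normal_subgroupOf_of_le_normalizer hVn
  -- elements without `κ`-primes lie in `V₀`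
  have hmem : ∀ z ∈ N, (∀ q : ℕ, q.Prime → q ∣ orderOf z → q ∉ kappa N) → z ∈ V₀ := by
    intro z hzN hz
    have hc : Nat.Coprime (orderOf z) (V₀.subgroupOf N).index := by
      apply Nat.coprime_of_dvd
      intro k hk hk1 hk2
      exact hVi k hk (hz k hk hk1) hk2
    have h1 := Cfsg.Agent.Lib.BGTau7.mem_of_coprime_index (X := N) (N := V₀.subgroupOf N) (x := ⟨z, hzN⟩) hc
      (Subtype.ext (by simp [pow_orderOf_eq_one]))
    exact Subgroup.mem_subgroupOf.mp h1
  have hσn : N ≤ normalizer (sigmaCore N : Set G) := le_normalizer_sigmaCore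
  have hUN : U ≤ N := hd.compl.1
  have hKN : K ≤ N := hd.hall.1
  set V' : Subgroup G := U ⊔ sigmaCore N with hV'
  have hV'N : V' ≤ N := sup_le hUN sigmaCore_le
  -- orders
  have hc1 : Nat.card U * Nat.card (K ⊔ sigmaCore N : Subgroup G) = Nat.card N :=
    Cfsg.Agent.Lib.OddOrderCore.card_mul_card_of_isComplIn hd.compl
  have hKσ : K ⊓ sigmaCore N = ⊥ := by
    apply inf_eq_bot_of_coprime'
    apply Nat.coprime_of_dvd
    intro k hk hk1 hk2
    exact (hd.hall.2.1 k hk hk1).2.2.1 (primes_sigmaCore k hk hk2)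
  have hc2 := card_sup_mul_card_inf (hKN.trans hσn)
  rw [hKσ, Subgroup.card_bot, mul_one] at hc2
  have hUσ : U ⊓ sigmaCore N = ⊥ := by
    rw [eq_bot_iff]
    rw [← hd.compl.2.2.1]
    exact inf_le_inf_left _ le_sup_right
  have hc3 := card_sup_mul_card_inf (hUN.trans hσn)
  rw [hUσ, Subgroup.card_bot, mul_one] at hc3
  have hc4 : Nat.card V' * Nat.card K = Nat.card N := by
    rw [← hc1, hc2, hV', hc3]
    ring
  have hc5 : Nat.card V' * V'.relIndex N = Nat.card N := by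
    have := Subgroup.card_mul_index (V'.subgroupOf N)
    rwa [card_subgroupOf_of_le hV'N] at this
  have hc6 : V'.relIndex N = Nat.card K := by
    apply Nat.eq_of_mul_eq_mul_left (Nat.card_pos (α := V'))
    rw [hc5, hc4]
  -- `U` has no `κ`-primes
  have hUκ : ∀ q : ℕ, q.Prime → q ∣ Nat.card U → q ∉ kappa N := by
    intro q hq hqd hqκ
    apply hd.hall.2.2 q hq hqκ
    have hc7 : Nat.card K * K.relIndex N = Nat.card N := by
      have := Subgroup.card_mul_index (K.subgroupOf N)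
      rwa [card_subgroupOf_of_le hKN] at this
    have hc8 : K.relIndex N = Nat.card V' := by
      apply Nat.eq_of_mul_eq_mul_left (Nat.card_pos (α := K))
      rw [hc7, ← hc4, mul_comm]
    rw [hc8, hV', hc3]
    exact Dvd.dvd.mul_right hqd _
  have hV'κ : ∀ q : ℕ, q.Prime → q ∣ Nat.card V' → q ∉ kappa N := by
    intro q hq hqd
    rw [hV', hc3] at hqd
    rcases (Nat.Prime.dvd_mul hq).mp hqd with h2 | h2
    · exact hUκ q hq h2
    · exact not_kappa_of_sigma (primes_sigmaCore q hq h2)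
  have hV'V₀ : V' ≤ V₀ := by
    intro z hz
    apply hmem z (hV'N hz)
    intro q hq hqd
    exact hV'κ q hq (hqd.trans (Subgroup.orderOf_dvd_natCard _ hz))
  have hV₀V' : V₀ ≤ V' := by
    have hi : V'.relIndex V₀ = 1 := by
      by_contra hne
      obtain ⟨k, hk, hkd⟩ := Nat.exists_prime_and_dvd hne
      have h1 : k ∣ Nat.card V₀ := hkd.trans (Subgroup.relIndex_dvd_card _ _)
      have h2 : k ∣ V'.relIndex N := by
        rw [← Subgroup.relIndex_mul_relIndex V' V₀ N hV'V₀ hV₀N]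
        exact Dvd.dvd.mul_right hkd _
      rw [hc6] at h2
      exact hVp k hk h1 (hd.hall.2.1 k hk h2)
    exact Subgroup.relIndex_eq_one.mp hi
  exact hV₀V' (hmem y hyN hy)

namespace CCtx

variable {M R : Subgroup G} {x : G} (c : CCtx M R x)
include c

variable {N : Subgroup G} (hN : IsCoatom N) (hCN : centralizer ({x} : Set G) ≤ N)
  (hτ : ∀ p : ℕ, p.Prime → p ∣ orderOf x → p ∈ tau2 N)
include hN hCN hτ

/-- The last clause of the main theorem. -/
theorem part5 {K' U' : Subgroup G} (hd : IsSigmaDecomposition N K' U') :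
    U' ≠ ⊥ ∧ x ∈ sigmaA N U' ∧ x ∉ sigmaCore N := by
  classical
  have hG := c.hG
  have hxN : x ∈ N := hCN c.x_mem
  obtain ⟨p, hp, hpd⟩ := c.exists_prime
  have hnκ : ∀ q : ℕ, q.Prime → q ∣ orderOf x → q ∉ kappa N := fun q hq hqd => c.not_kappa hN hxN hq hqd
  refine ⟨?_, ?_, ?_⟩
  · rintro rfl
    have h1 : Nat.card N = Nat.card (K' ⊔ sigmaCore N : Subgroup G) := by
      have := Cfsg.Agent.Lib.OddOrderCore.card_mul_card_of_isComplIn hd.compl
      rw [Subgroup.card_bot, one_mul] at this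
      exact this.symm
    have h2 : p ∣ Nat.card N := hpd.trans (Subgroup.orderOf_dvd_natCard _ hxN)
    rw [h1] at h2
    have h3 := h2.trans (card_sup_dvd (hd.hall.1.trans le_normalizer_sigmaCore))
    rcases (Nat.Prime.dvd_mul hp).mp h3 with h4 | h4
    · exact hnκ p hp hpd (hd.hall.2.1 p hp h4)
    · exact c.not_sigma hN hCN hp hpd (primes_sigmaCore p hp h4)
  · refine ⟨⟨hxN, ?_⟩, mem_sup_of_not_kappa hG c.hK hN hd hxN hnκ⟩
    obtain ⟨y, hyR, hy1⟩ : ∃ y ∈ R, y ≠ 1 := by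
      by_contra h
      push Not at h
      exact c.R_ne_bot ((Subgroup.eq_bot_iff_forall _).mpr h)
    refine ⟨y, c.R_le hN hCN hτ hyR, hy1, ?_⟩
    have h1 := c.hR.2.1 hyR
    rw [Subgroup.mem_centralizer_singleton_iff] at h1
    exact h1.symm
  · intro hxσ
    exact c.not_sigma hN hCN hp hpd (primes_sigmaCore p hp (hpd.trans (Subgroup.orderOf_dvd_natCard _ hxσ)))

end CCtx

/-- **Main theorem on `C_G(x)`**. -/
theorem main75 (hG : IsMinSimpleOddOrder G) (hK : KappaFacts G) {M : Subgroup G} (hM : IsCoatom M) {x : G}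
    (hx : x ∈ sigmaCore M) (hx1 : x ≠ 1) (hxM : ¬ centralizer ({x} : Set G) ≤ M) :
    ∃ N : Subgroup G, (IsCoatom N ∧ centralizer ({x} : Set G) ≤ N) ∧
      (∀ L : Subgroup G, IsCoatom L → centralizer ({x} : Set G) ≤ L → L = N) ∧
      sigmaCore N = fittingHallOf N ∧
      centralizer ({x} : Set G) ≤ normalizer ((sigmaCore N ⊓ centralizer ({x} : Set G) : Subgroup G) : Set G) ∧
      IsComplIn (M ⊓ centralizer ({x} : Set G)) (sigmaCore N ⊓ centralizer ({x} : Set G)) (centralizer ({x} : Set G)) ∧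
      IsComplIn (M ⊓ N) (sigmaCore N) N ∧
      ∀ K' U' : Subgroup G, IsSigmaDecomposition N K' U' → U' ≠ ⊥ ∧ x ∈ sigmaA N U' ∧ x ∉ sigmaCore N := by
  obtain ⟨R, hRn, hR⟩ := exists_compl hG hM (hK.h32' hM) hx hx1
  have c : CCtx M R x := ⟨hG, hK, hM, hx, hx1, hxM, hRn, hR⟩
  obtain ⟨N, hN, hCN, hU, hτ⟩ := c.exists_N
  have he := c.cent_eq hN hCN hτ
  refine ⟨N, ⟨hN, hCN⟩, hU, sigmaCore_eq_fittingHallOf hG hN (c.nilp hN hCN hτ), ?_, ?_, c.compl_N hN hCN hτ, ?_⟩
  · rw [he]; exact hRn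
  · rw [he]; exact hR
  · intro K' U' hd
    exact c.part5 hN hCN hτ hd

end Cfsg.Agent.Lib.BGCent
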