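import Mathlib
import Cfsg.Agent.Lib.BGCent9
import Cfsg.Agent.Lib.CentTools

/-!
# Bender-Glauberman section 16: the cosets `x R(x)` are pairwise disjoint.
-/

set_option autoImplicit false
set_option linter.unusedSectionVars false
set_option linter.unusedVariables false
set_option linter.style.haveILetI false
set_option linter.unusedSimpArgs false

namespace Cfsg.Agent.Lib.BGCent

open Cfsg Subgroup Cfsg.Agent.Lib.CoprimeInv Cfsg.Agent.Lib.BGTrans Cfsg.Agent.Lib.BGTrans2 Cfsg.Agent.Lib.BGUniq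
  Cfsg.Agent.Lib.BGUniq2 Cfsg.Agent.Lib.PCore Cfsg.Agent.Lib.BGTau7 Cfsg.Agent.Lib.BGM1 Cfsg.Agent.Lib.BGTau5
  Cfsg.Agent.Lib.BGTau3 Cfsg.Agent.Lib.BGM2 Cfsg.Agent.Lib.BGTau6 Cfsg.Agent.Lib.BGTau1 Cfsg.Agent.Lib.BGP2E
  Cfsg.Agent.Lib.BGFit2
open scoped commutatorElement

universe u

variable {G : Type u} [Group G] [Finite G]

/-- The data of `R(x)`. -/
structure RData (M N R : Subgroup G) (x : G) : Prop where
  c : CCtx M R x
  hN : IsCoatom N
  hCN : centralizer ({x} : Set G) ≤ N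
  hU : ∀ L : Subgroup G, IsCoatom L → centralizer ({x} : Set G) ≤ L → L = N
  hτ : ∀ p : ℕ, p.Prime → p ∣ orderOf x → p ∈ tau2 N
  hR : supportR M x = R
  hRe : sigmaCore N ⊓ centralizer ({x} : Set G) = R

/-- Either `C_G(x) ≤ M` and `R(x) = 1`, or the data of `R(x)`. -/
theorem supportR_cases (hG : IsMinSimpleOddOrder G) (hK : KappaFacts G) {M : Subgroup G} (hM : IsCoatom M) {x : G}
    (hx : x ∈ sigmaCore M) (hx1 : x ≠ 1) :
    (centralizer ({x} : Set G) ≤ M ∧ supportR M x = ⊥) ∨ ∃ N R : Subgroup G, RData M N R x := by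
  classical
  by_cases hCM : centralizer ({x} : Set G) ≤ M
  · left
    refine ⟨hCM, ?_⟩
    unfold supportR
    rw [dif_neg]
    rintro ⟨h, -⟩
    exact h hCM
  · right
    obtain ⟨R, hRn, hR⟩ := exists_compl hG hM (hK.h32' hM) hx hx1
    have c : CCtx M R x := ⟨hG, hK, hM, hx, hx1, hCM, hRn, hR⟩
    obtain ⟨N, hN, hCN, hU, hτ⟩ := c.exists_N
    refine ⟨N, R, c, hN, hCN, hU, hτ, ?_, c.cent_eq hN hCN hτ⟩
    have hex : ∃! L : Subgroup G, IsCoatom L ∧ centralizer ({x} : Set G) ≤ L :=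
      ⟨N, ⟨hN, hCN⟩, fun L hL => hU L hL.1 hL.2⟩
    have hcond : ¬ centralizer ({x} : Set G) ≤ M ∧
        ∃! L : Subgroup G, IsCoatom L ∧ centralizer ({x} : Set G) ≤ L := ⟨hCM, hex⟩
    unfold supportR
    rw [dif_pos hcond]
    have hch := Classical.choose_spec hcond.2.exists
    have he : Classical.choose hcond.2.exists = N := hU _ hch.1 hch.2
    rw [he, ← sigmaCore_eq_fittingHallOf hG hN (c.nilp hN hCN hτ)]
    exact c.cent_eq hN hCN hτ

theorem mem_zpowers_mul_left {x r : G} (hc : Commute x r) (hco : (orderOf x).Coprime (orderOf r)) :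
    x ∈ zpowers (x * r) := by
  obtain ⟨k, hk⟩ := Cfsg.Agent.Lib.CentTools.exists_pow_eq_left hc hco
  have h1 : (x * r) ^ k ∈ zpowers (x * r) := pow_mem (mem_zpowers _) _
  rwa [hk] at h1

theorem mem_zpowers_mul_right {x r : G} (hc : Commute x r) (hco : (orderOf x).Coprime (orderOf r)) :
    r ∈ zpowers (x * r) := by
  have h1 := mem_zpowers_mul_left hc.symm hco.symm
  rwa [← hc.eq] at h1

namespace RData

variable {M N R : Subgroup G} {x : G} (d : RData M N R x)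
include d

theorem comm {r : G} (hr : r ∈ R) : Commute x r := by
  have h1 := d.c.hR.2.1 hr
  rw [Subgroup.mem_centralizer_singleton_iff] at h1
  exact h1.symm

theorem r_sigma {r : G} (hr : r ∈ R) : r ∈ sigmaCore N := d.c.R_le d.hN d.hCN d.hτ hr

theorem coprime {r : G} (hr : r ∈ R) : (orderOf x).Coprime (orderOf r) := by
  apply Nat.coprime_of_dvd
  intro k hk hk1 hk2
  exact d.c.not_sigma d.hN d.hCN hk hk1
    (primes_sigmaCore k hk (hk2.trans (Subgroup.orderOf_dvd_natCard _ (d.r_sigma hr))))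

theorem inf_bot : sigmaCore N ⊓ M = ⊥ := d.c.sigma_inf d.hN d.hCN d.hτ

end RData

/-- **K1**: `R(x)` collapses if `x` has a common power with a `σ(L')`-element in a subgroup `L'` containing
`x r`. -/
theorem K1 (hG : IsMinSimpleOddOrder G) (hK : KappaFacts G) {M L' : Subgroup G} (hM : IsCoatom M) (hL' : IsCoatom L')
    {x r z : G} (hx : x ∈ sigmaCore M) (hx1 : x ≠ 1) (hr : r ∈ supportR M x) (hzx : z ∈ zpowers x) (hz1 : z ≠ 1)
    (hzL : z ∈ sigmaCore L') (hg : r ∈ L') : r = 1 := by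
  classical
  have hzσ : z ∈ sigmaCore M := (zpowers_le.mpr hx) hzx
  have h1 : orderOf z ≠ 1 := fun h => hz1 (orderOf_eq_one_iff.mp h)
  obtain ⟨p, hp, hpd⟩ := Nat.exists_prime_and_dvd h1
  have hpM : p ∈ sigma M := primes_sigmaCore p hp (hpd.trans (Subgroup.orderOf_dvd_natCard _ hzσ))
  have hpL : p ∈ sigma L' := primes_sigmaCore p hp (hpd.trans (Subgroup.orderOf_dvd_natCard _ hzL))
  obtain ⟨h, hh⟩ := hK.thD M L' hM hL' ⟨p, hpM, hpL⟩
  obtain ⟨Rz, hRn, hRz⟩ := exists_compl hG hM (hK.h32' hM) hzσ hz1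
  have hzcj : z ∈ cj M h := by
    have h2 := sigmaCore_le hzL
    rw [hh] at h2
    exact h2
  obtain ⟨ρ, ⟨hρ, hρe⟩, -⟩ := regular hG hM (hK.h32' hM) hzσ hz1 hRz h hzcj
  have hL'ρ : L' = cj M ρ := by rw [hρe]; exact hh
  rcases supportR_cases hG hK hM hx hx1 with ⟨-, h0⟩ | ⟨N, R, d⟩
  · rw [h0, Subgroup.mem_bot] at hr
    exact hr
  rw [d.hR] at hr
  have hCz : centralizer ({x} : Set G) ≤ centralizer ({z} : Set G) := by
    intro y hy
    rw [Subgroup.mem_centralizer_singleton_iff] at hy ⊢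
    obtain ⟨n, rfl⟩ := mem_zpowers_iff.mp hzx
    exact (Commute.zpow_right (show Commute y x from hy) n).eq
  have hCzM : ¬ centralizer ({z} : Set G) ≤ M := fun h3 => d.c.hCM (hCz.trans h3)
  have cz : CCtx M Rz z := ⟨hG, hK, hM, hzσ, hz1, hCzM, hRn, hRz⟩
  obtain ⟨N₀, hN₀, hCN₀, hU₀, hτ₀⟩ := cz.exists_N
  have hNe : N₀ = N := d.hU N₀ hN₀ (hCz.trans hCN₀)
  subst hNe
  have hρσ : ρ ∈ sigmaCore N₀ := cz.R_le hN₀ hCN₀ hτ₀ hρ
  have hrσ := d.r_sigma hr
  have hrM : ρ⁻¹ * r * ρ ∈ M := by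
    have h2 := hg
    rw [hL'ρ, mem_cj] at h2
    exact h2
  have hrσ' : ρ⁻¹ * r * ρ ∈ sigmaCore N₀ :=
    Subgroup.mul_mem _ (Subgroup.mul_mem _ (Subgroup.inv_mem _ hρσ) hrσ) hρσ
  have h5 : ρ⁻¹ * r * ρ ∈ sigmaCore N₀ ⊓ M := Subgroup.mem_inf.mpr ⟨hrσ', hrM⟩
  rw [d.inf_bot, Subgroup.mem_bot] at h5
  have e : r = ρ * (ρ⁻¹ * r * ρ) * ρ⁻¹ := by group
  rw [e, h5]
  group

/-- **K2**: `x r` cannot be an element of `M'_σ` for `r ≠ 1`. -/
theorem K2 (hG : IsMinSimpleOddOrder G) (hK : KappaFacts G) {M M' : Subgroup G} (hM : IsCoatom M) (hM' : IsCoatom M')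
    {x r : G} (hx : x ∈ sigmaCore M) (hx1 : x ≠ 1) (hr : r ∈ supportR M x) (hr1 : r ≠ 1) (hg : x * r ∈ sigmaCore M') :
    False := by
  classical
  rcases supportR_cases hG hK hM hx hx1 with ⟨-, h0⟩ | ⟨N, R, d⟩
  · rw [h0, Subgroup.mem_bot] at hr
    exact hr1 hr
  rw [d.hR] at hr
  have hle : zpowers (x * r) ≤ sigmaCore M' := zpowers_le.mpr hg
  have hxσ : x ∈ sigmaCore M' := hle (mem_zpowers_mul_left (d.comm hr) (d.coprime hr))
  have hrσ : r ∈ sigmaCore M' := hle (mem_zpowers_mul_right (d.comm hr) (d.coprime hr))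
  have h1 : orderOf r ≠ 1 := fun h => hr1 (orderOf_eq_one_iff.mp h)
  obtain ⟨q, hq, hqd⟩ := Nat.exists_prime_and_dvd h1
  have hqM' := primes_sigmaCore q hq (hqd.trans (Subgroup.orderOf_dvd_natCard _ hrσ))
  have hqN := primes_sigmaCore q hq (hqd.trans (Subgroup.orderOf_dvd_natCard _ (d.r_sigma hr)))
  obtain ⟨h, hh⟩ := hK.thD M' N hM' d.hN ⟨q, hqM', hqN⟩
  obtain ⟨p, hp, hpd⟩ := d.c.exists_prime
  haveI : Fact p.Prime := ⟨hp⟩
  have hpM' := primes_sigmaCore p hp (hpd.trans (Subgroup.orderOf_dvd_natCard _ hxσ))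
  have hpN : p ∈ sigma N := by
    have := sigma_cj hpM' h
    rw [hh]
    exact this
  exact d.c.not_sigma d.hN d.hCN hp hpd hpN

/-- **The cosets `x R(x)` are disjoint.** -/
theorem cosets_disjoint (hG : IsMinSimpleOddOrder G) (hK : KappaFacts G) {M N : Subgroup G} (hM : IsCoatom M)
    (hN : IsCoatom N) {x y : G} (hx : x ∈ sigmaCore M) (hy : y ∈ sigmaCore N) (hx1 : x ≠ 1) (hy1 : y ≠ 1)
    (hxy : x ≠ y) : ∀ r ∈ supportR M x, ∀ s ∈ supportR N y, x * r ≠ y * s := by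
  classical
  intro r hr s hs he
  by_cases hr1 : r = 1
  · by_cases hs1 : s = 1
    · rw [hr1, hs1, mul_one, mul_one] at he
      exact hxy he
    · rw [hr1, mul_one] at he
      exact K2 hG hK hN hM hy hy1 hs hs1 (he ▸ hx)
  by_cases hs1 : s = 1
  · rw [hs1, mul_one] at he
    exact K2 hG hK hM hN hx hx1 hr hr1 (he.symm ▸ hy)
  -- both nontrivial
  rcases supportR_cases hG hK hM hx hx1 with ⟨-, h0⟩ | ⟨N₁, R₁, d₁⟩
  · rw [h0, Subgroup.mem_bot] at hr
    exact hr1 hr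
  rcases supportR_cases hG hK hN hy hy1 with ⟨-, h0⟩ | ⟨N₂, R₂, d₂⟩
  · rw [h0, Subgroup.mem_bot] at hs
    exact hs1 hs
  rw [d₁.hR] at hr
  rw [d₂.hR] at hs
  set g : G := x * r with hg
  have hxg : x ∈ zpowers g := mem_zpowers_mul_left (d₁.comm hr) (d₁.coprime hr)
  have hrg : r ∈ zpowers g := mem_zpowers_mul_right (d₁.comm hr) (d₁.coprime hr)
  have hyg : y ∈ zpowers g := by rw [he]; exact mem_zpowers_mul_left (d₂.comm hs) (d₂.coprime hs)
  have hsg : s ∈ zpowers g := by rw [he]; exact mem_zpowers_mul_right (d₂.comm hs) (d₂.coprime hs)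
  have hgC₁ : g ∈ N₁ := by
    have : zpowers g ≤ N₁ := zpowers_le.mpr (N₁.mul_mem (d₁.hCN d₁.c.x_mem) (d₁.hCN (d₁.c.hR.2.1 hr)))
    exact this (mem_zpowers g)
  have hgN₂ : g ∈ N₂ := by
    rw [he]
    exact N₂.mul_mem (d₂.hCN d₂.c.x_mem) (d₂.hCN (d₂.c.hR.2.1 hs))
  have hg' : zpowers g ≤ N₂ := zpowers_le.mpr hgN₂
  have hg'' : zpowers g ≤ N₁ := zpowers_le.mpr hgC₁
  -- a common prime of `x` and `s` forces `r = 1`
  have key : ∀ {a b : G}, a ∈ zpowers g → b ∈ zpowers g → (orderOf a).Coprime (orderOf b) ∨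
      ∃ z : G, z ≠ 1 ∧ z ∈ zpowers a ∧ z ∈ zpowers b := by
    intro a b ha hb
    by_cases hc : (orderOf a).Coprime (orderOf b)
    · exact Or.inl hc
    · right
      obtain ⟨p, hp, hpa, hpb⟩ := Nat.Prime.not_coprime_iff_dvd.mp hc
      haveI : Fact p.Prime := ⟨hp⟩
      set z₁ := a ^ (orderOf a / p) with hz₁
      set z₂ := b ^ (orderOf b / p) with hz₂
      have hz₁o : orderOf z₁ = p := orderOf_pow_orderOf_div (orderOf_pos a).ne' hpa
      have hz₂o : orderOf z₂ = p := orderOf_pow_orderOf_div (orderOf_pos b).ne' hpb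
      have hz₁g : z₁ ∈ zpowers g := pow_mem ha _
      have hz₂g : z₂ ∈ zpowers g := pow_mem hb _
      have hcyc : IsCyclic (zpowers g) := inferInstance
      have hz₂p : z₂ ^ p = 1 := by
        have := pow_orderOf_eq_one z₂
        rwa [hz₂o] at this
      have h5 := mem_zpowers_of_cyclic hcyc hp hz₂g hz₁g hz₂o (by
        have := pow_orderOf_eq_one z₁
        rwa [hz₁o] at this)
      refine ⟨z₁, ?_, pow_mem (mem_zpowers a) _, (zpowers_le.mpr (pow_mem (mem_zpowers b) _)) h5⟩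
      intro h6
      rw [h6, orderOf_one] at hz₁o
      exact hp.one_lt.ne hz₁o
  have hc1 : (orderOf x).Coprime (orderOf s) := by
    rcases key hxg hsg with h | ⟨z, hz1, hzx, hzs⟩
    · exact h
    · have hzσ : z ∈ sigmaCore N₂ := (zpowers_le.mpr (d₂.r_sigma hs)) hzs
      exact (hr1 (K1 hG hK hM d₂.hN hx hx1 (by rw [d₁.hR]; exact hr) hzx hz1 hzσ (hg' hrg))).elim
  have hc2 : (orderOf y).Coprime (orderOf r) := by
    rcases key hyg hrg with h | ⟨z, hz1, hzy, hzr⟩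
    · exact h
    · have hzσ : z ∈ sigmaCore N₁ := (zpowers_le.mpr (d₁.r_sigma hr)) hzr
      exact (hs1 (K1 hG hK hN d₁.hN hy hy1 (by rw [d₂.hR]; exact hs) hzy hz1 hzσ (hg'' hsg))).elim
  have hc3 := d₁.coprime hr
  have hc4 := d₂.coprime hs
  -- `x y⁻¹ = s r⁻¹`
  have hcomm : ∀ {a b : G}, a ∈ zpowers g → b ∈ zpowers g → Commute a b := by
    intro a b ha hb
    obtain ⟨m, rfl⟩ := mem_zpowers_iff.mp ha
    obtain ⟨n, rfl⟩ := mem_zpowers_iff.mp hb
    exact Commute.zpow_zpow_self g m n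
  set w : G := x * y⁻¹ with hw
  have hw2 : w = s * r⁻¹ := by
    have h1 : x * r = y * s := he
    have h2 : Commute y s := (hcomm hyg hsg)
    have h3 : Commute x r := (hcomm hxg hrg)
    have h4 : Commute x y := (hcomm hxg hyg)
    have h5 : x = y * s * r⁻¹ := by rw [← h1]; group
    rw [hw, h5]
    have h6 : y * s * r⁻¹ * y⁻¹ = (y * s) * (r⁻¹ * y⁻¹) := by group
    have h7 : Commute r⁻¹ y⁻¹ := ((hcomm hrg hyg).inv_inv)
    rw [h6, h7.eq, ← mul_assoc, h2.eq]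
    group
  have hp1 : w ^ (orderOf x * orderOf y) = 1 := by
    have hcm : Commute x y⁻¹ := (hcomm hxg hyg).inv_right
    rw [hw, hcm.mul_pow, pow_mul, pow_orderOf_eq_one, one_pow, one_mul, mul_comm, pow_mul, inv_pow,
      pow_orderOf_eq_one, inv_one, one_pow]
  have hp2 : w ^ (orderOf s * orderOf r) = 1 := by
    have hcm : Commute s r⁻¹ := (hcomm hsg hrg).inv_right
    rw [hw2, hcm.mul_pow, pow_mul, pow_orderOf_eq_one, one_pow, one_mul, mul_comm, pow_mul, inv_pow,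
      pow_orderOf_eq_one, inv_one, one_pow]
  have hcop : Nat.Coprime (orderOf x * orderOf y) (orderOf s * orderOf r) := by
    apply Nat.Coprime.mul_left
    · exact Nat.Coprime.mul_right hc1 hc3
    · exact Nat.Coprime.mul_right hc4 hc2
  have h1 := Nat.eq_one_of_dvd_coprimes hcop (orderOf_dvd_of_pow_eq_one hp1) (orderOf_dvd_of_pow_eq_one hp2)
  have h2 := orderOf_eq_one_iff.mp h1
  rw [hw, mul_inv_eq_one] at h2
  exact hxy h2

end Cfsg.Agent.Lib.BGCent
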