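import Mathlib
import Cfsg.Agent.Lib.BGCent10

/-!
# Bender-Glauberman section 14: the standard factorisation; fixed points.
-/

set_option autoImplicit false
set_option linter.unusedSectionVars false
set_option linter.unusedVariables false
set_option linter.style.haveILetI false
set_option linter.unusedSimpArgs false

namespace Cfsg.Agent.Lib.BGCent

open Cfsg Subgroup Cfsg.Agent.Lib.CoprimeInv Cfsg.Agent.Lib.BGTrans Cfsg.Agent.Lib.BGTrans2 Cfsg.Agent.Lib.BGUniq
  Cfsg.Agent.Lib.BGUniq2 Cfsg.Agent.Lib.PCore Cfsg.Agent.Lib.BGTau7 Cfsg.Agent.Lib.BGM1 Cfsg.Agent.Lib.BGTau5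
  Cfsg.Agent.Lib.BGTau3 Cfsg.Agent.Lib.BGM2 Cfsg.Agent.Lib.BGTau6 Cfsg.Agent.Lib.BGTau1 Cfsg.Agent.Lib.BGP2E
  Cfsg.Agent.Lib.BGFit2
open scoped commutatorElement

universe u

variable {G : Type u} [Group G] [Finite G]

/-- A Hall `κ'σ'`-subgroup normalized by `K` complements `K M_σ`. -/
theorem compl_of_hall (hG : IsMinSimpleOddOrder G) {M K U₀ : Subgroup G} (hM : IsCoatom M)
    (hKh : IsPiHallOf (kappa M) K M) (hU₀ : IsPiHallOf {q | q.Prime ∧ q ∉ kappa M ∧ q ∉ sigma M} U₀ M)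
    (hKU : K ≤ normalizer (U₀ : Set G)) : IsComplIn U₀ (K ⊔ sigmaCore M) M := by
  refine ⟨hU₀.1, sup_le hKh.1 sigmaCore_le, ?_, ?_⟩
  · apply inf_eq_bot_of_coprime'
    apply Nat.coprime_of_dvd
    intro k hk hk1 hk2
    have h1 := hk2.trans (card_sup_dvd (hKh.1.trans le_normalizer_sigmaCore))
    have h0 := hU₀.2.1 k hk hk1
    rcases (Nat.Prime.dvd_mul hk).mp h1 with h2 | h2
    · exact h0.2.1 (hKh.2.1 k hk h2)
    · exact h0.2.2 (primes_sigmaCore k hk h2)
  · -- `M = U₀ K M_σ`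
    have hsup : (U₀ ⊔ K) ⊔ sigmaCore M = M := by
      apply le_antisymm (sup_le (sup_le hU₀.1 hKh.1) sigmaCore_le)
      have hi : ((U₀ ⊔ K) ⊔ sigmaCore M).relIndex M = 1 := by
        by_contra hne
        obtain ⟨k, hk, hkd⟩ := Nat.exists_prime_and_dvd hne
        by_cases hkκ : k ∈ kappa M
        · exact hKh.2.2 k hk hkκ (hkd.trans (Subgroup.relIndex_dvd_of_le_left M
            (le_sup_right.trans le_sup_left)))
        · by_cases hkσ : k ∈ sigma M
          · exact (sigma_hall hG hM).1.2.2 k hk hkσ (hkd.trans (Subgroup.relIndex_dvd_of_le_left M le_sup_right))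
          · exact hU₀.2.2 k hk ⟨hk, hkκ, hkσ⟩ (hkd.trans (Subgroup.relIndex_dvd_of_le_left M
              (le_sup_left.trans le_sup_left)))
      exact Subgroup.relIndex_eq_one.mp hi
    intro m hm
    rw [← hsup] at hm
    have hle : U₀ ⊔ K ≤ normalizer (sigmaCore M : Set G) :=
      (sup_le hU₀.1 hKh.1).trans le_normalizer_sigmaCore
    obtain ⟨e, he, s, hs, rfl⟩ := mul_of_mem_sup hle hm
    rw [sup_comm] at he
    obtain ⟨k, hk, u, hu, rfl⟩ := mul_of_mem_sup hKU he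
    -- `k u = (k u k⁻¹) k`
    refine ⟨k * u * k⁻¹, (mem_normalizer_iff.mp (hKU hk) u).mp hu, k * s, ?_, by group⟩
    exact Subgroup.mul_mem _ (mem_sup_left hk) (mem_sup_right hs)

/-- **S1352, existence**. -/
theorem exists_decomposition (hG : IsMinSimpleOddOrder G) (hK : KappaFacts G) {M K : Subgroup G} (hM : IsCoatom M)
    (hKc : IsCyclic K) (hKh : IsPiHallOf (kappa M) K M) : ∃ U : Subgroup G, IsSigmaDecomposition M K U := by
  classical
  by_cases hK1 : K = ⊥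
  · subst hK1
    obtain ⟨E, -, hE⟩ := exists_compl_ge hG hM (Y := ⊥) bot_le (by
      intro r hr hd
      rw [Subgroup.card_bot] at hd
      exact (hr.one_lt.ne' (Nat.dvd_one.mp hd)).elim)
    refine ⟨E, hKc, hKh, ?_, ?_⟩
    · rw [bot_sup_eq]
      exact hE
    · exact bot_le
  · obtain ⟨U₀, -, hU₀, hKU, -⟩ := (hK.h30 M hM K hKh hK1).2.1
    exact ⟨U₀, hKc, hKh, compl_of_hall hG hM hKh hU₀ hKU, hKU⟩

/-- **S1352, normality**. -/
theorem normal_decomposition (hG : IsMinSimpleOddOrder G) (hK : KappaFacts G) {M K U : Subgroup G} (hM : IsCoatom M)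
    (hd : IsSigmaDecomposition M K U) : M ≤ normalizer ((U ⊔ sigmaCore M : Subgroup G) : Set G) := by
  classical
  by_cases hK1 : K = ⊥
  · have hsup : U ⊔ sigmaCore M = M := by
      apply le_antisymm (sup_le hd.compl.1 sigmaCore_le)
      intro m hm
      obtain ⟨u, hu, s, hs, rfl⟩ := hd.compl.2.2.2 m hm
      rw [hK1, bot_sup_eq] at hs
      exact Subgroup.mul_mem _ (mem_sup_left hu) (mem_sup_right hs)
    have h1 : ((U ⊔ sigmaCore M : Subgroup G) : Set G) = (M : Set G) := by rw [hsup]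
    rw [h1]
    exact le_normalizer
  -- the subgroup `U₀ M_σ` is normal and contains `U`
  obtain ⟨U₀, hU₀, hVn, hVi, hVp⟩ := exists_normal_hall hG hK hM hd.hall hK1
  -- all `κ'`-elements lie in `U M_σ`, hence `U M_σ ⊇ U₀ M_σ`; conversely `U M_σ ≤ U₀ M_σ` by orders
  have hV₀ : U₀ ⊔ sigmaCore M ≤ U ⊔ sigmaCore M := by
    apply le_of_forall_pgroup_le
    intro q _ Q hQ hQq a ha
    apply mem_sup_of_not_kappa hG hK hM hd ((sup_le hU₀.1 sigmaCore_le) (hQ ha))
    intro k hk hkd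
    exact hVp k hk (hkd.trans (Subgroup.orderOf_dvd_natCard _ (hQ ha)))
  have hUσ : U ⊓ sigmaCore M = ⊥ := by
    rw [eq_bot_iff]
    rw [← hd.compl.2.2.1]
    exact inf_le_inf_left _ le_sup_right
  -- orders
  have hc1 : Nat.card U * Nat.card (K ⊔ sigmaCore M : Subgroup G) = Nat.card M :=
    Cfsg.Agent.Lib.OddOrderCore.card_mul_card_of_isComplIn hd.compl
  have hKσ : K ⊓ sigmaCore M = ⊥ := by
    apply inf_eq_bot_of_coprime'
    apply Nat.coprime_of_dvd
    intro k hk hk1 hk2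
    exact (hd.hall.2.1 k hk hk1).2.2.1 (primes_sigmaCore k hk hk2)
  have hc2 := card_sup_mul_card_inf (hd.hall.1.trans le_normalizer_sigmaCore)
  rw [hKσ, Subgroup.card_bot, mul_one] at hc2
  have hc3 := card_sup_mul_card_inf (hd.compl.1.trans le_normalizer_sigmaCore)
  rw [hUσ, Subgroup.card_bot, mul_one] at hc3
  have hU'N : U ⊔ sigmaCore M ≤ M := sup_le hd.compl.1 sigmaCore_le
  have hc4 : Nat.card (U ⊔ sigmaCore M : Subgroup G) * Nat.card K = Nat.card M := by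
    rw [← hc1, hc2, hc3]
    ring
  have hc5 : Nat.card (U₀ ⊔ sigmaCore M : Subgroup G) * (U₀ ⊔ sigmaCore M).relIndex M = Nat.card M := by
    have := Subgroup.card_mul_index ((U₀ ⊔ sigmaCore M).subgroupOf M)
    rwa [card_subgroupOf_of_le (sup_le hU₀.1 sigmaCore_le)] at this
  have hc6 : Nat.card K * K.relIndex M = Nat.card M := by
    have := Subgroup.card_mul_index (K.subgroupOf M)
    rwa [card_subgroupOf_of_le hd.hall.1] at this
  have hc7 : K.relIndex M = Nat.card (U ⊔ sigmaCore M : Subgroup G) := by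
    apply Nat.eq_of_mul_eq_mul_left (Nat.card_pos (α := K))
    rw [hc6, ← hc4, mul_comm]
  -- `U` has no `κ`-primes and `|U M_σ|` divides `|U₀ M_σ|`
  have hdv : Nat.card (U ⊔ sigmaCore M : Subgroup G) ∣ Nat.card (U₀ ⊔ sigmaCore M : Subgroup G) := by
    have hcop : Nat.Coprime (Nat.card (U ⊔ sigmaCore M : Subgroup G)) ((U₀ ⊔ sigmaCore M).relIndex M) := by
      apply Nat.coprime_of_dvd
      intro k hk hk1 hk2
      have hκ : k ∉ kappa M := by
        intro hκ
        apply hd.hall.2.2 k hk hκ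
        rw [hc7]
        exact hk1
      exact hVi k hk hκ hk2
    apply hcop.dvd_of_dvd_mul_right
    rw [hc5, ← hc4]
    exact dvd_mul_right _ _
  have he : U ⊔ sigmaCore M = U₀ ⊔ sigmaCore M :=
    (Subgroup.eq_of_le_of_card_ge hV₀ (Nat.le_of_dvd Nat.card_pos hdv)).symm
  rw [he]
  exact hVn

/-- **S1353**. -/
theorem fixed_points_U (hG : IsMinSimpleOddOrder G) (hK : KappaFacts G) {M K U : Subgroup G} (hM : IsCoatom M)
    (hd : IsSigmaDecomposition M K U) : ∀ k ∈ K, k ≠ 1 → U ⊓ centralizer ({k} : Set G) = ⊥ := by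
  classical
  intro k hk hk1
  have hK1 : K ≠ ⊥ := by
    rintro rfl
    exact hk1 (by simpa using hk)
  obtain ⟨U₀, -, hU₀, hKU₀, hfree⟩ := (hK.h30 M hM K hd.hall hK1).2.1
  have hUN : U ≤ M := hd.compl.1
  have hUσ : U ⊓ sigmaCore M = ⊥ := by
    rw [eq_bot_iff]
    rw [← hd.compl.2.2.1]
    exact inf_le_inf_left _ le_sup_right
  -- primes of `U`
  have hc1 : Nat.card U * Nat.card (K ⊔ sigmaCore M : Subgroup G) = Nat.card M :=
    Cfsg.Agent.Lib.OddOrderCore.card_mul_card_of_isComplIn hd.compl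
  have hUκ : ∀ q : ℕ, q.Prime → q ∣ Nat.card U → q ∉ kappa M := by
    intro q hq hqd hqκ
    apply hd.hall.2.2 q hq hqκ
    have hc6 : Nat.card K * K.relIndex M = Nat.card M := by
      have := Subgroup.card_mul_index (K.subgroupOf M)
      rwa [card_subgroupOf_of_le hd.hall.1] at this
    have hc2 : Nat.card K ∣ Nat.card (K ⊔ sigmaCore M : Subgroup G) := Subgroup.card_dvd_of_le le_sup_left
    obtain ⟨c, hc⟩ := hc2
    have hc7 : K.relIndex M = Nat.card U * c := by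
      apply Nat.eq_of_mul_eq_mul_left (Nat.card_pos (α := K))
      rw [hc6, ← hc1, hc]
      ring
    rw [hc7]
    exact Dvd.dvd.mul_right hqd _
  have hσn : M ≤ normalizer (sigmaCore M : Set G) := le_normalizer_sigmaCore
  have hU₀σ : U₀ ⊓ sigmaCore M = ⊥ := by
    apply inf_eq_bot_of_coprime'
    apply Nat.coprime_of_dvd
    intro j hj hj1 hj2
    exact (hU₀.2.1 j hj hj1).2.2 (primes_sigmaCore j hj hj2)
  rw [eq_bot_iff]
  intro u hu
  obtain ⟨huU, huk⟩ := Subgroup.mem_inf.mp hu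
  have huk' : k * u = u * k := by
    rw [Subgroup.mem_centralizer_singleton_iff] at huk
    exact huk.symm
  rw [Subgroup.mem_bot]
  -- `u` has no `κ`-prime
  have huo : ∀ q : ℕ, q.Prime → q ∣ orderOf u → q ∉ kappa M := fun q hq hqd =>
    hUκ q hq (hqd.trans (Subgroup.orderOf_dvd_natCard _ huU))
  -- decomposition of `u` in the decomposition with `U₀`
  have hdec : IsSigmaDecomposition M K U₀ :=
    ⟨hd.cyclic, hd.hall, compl_of_hall hG hM hd.hall hU₀ hKU₀, hKU₀⟩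
  have hmem := mem_sup_of_not_kappa hG hK hM hdec (hUN huU) huo
  obtain ⟨u₀, hu₀, s, hs, hus⟩ := mul_of_mem_sup (hU₀.1.trans hσn) hmem
  have hkM : k ∈ M := hd.hall.1 hk
  have hku₀ : k * u₀ * k⁻¹ ∈ U₀ := (mem_normalizer_iff.mp (hKU₀ hk) u₀).mp hu₀
  have hks : k * s * k⁻¹ ∈ sigmaCore M := (mem_normalizer_iff.mp (hσn hkM) s).mp hs
  have h1 : u₀⁻¹ * (k * u₀ * k⁻¹) = s * (k * s * k⁻¹)⁻¹ := by
    have e1 : k * u * k⁻¹ = u := by rw [huk']; group
    rw [hus] at e1
    have e2 : (k * u₀ * k⁻¹) * (k * s * k⁻¹) = u₀ * s := by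
      rw [← e1]; group
    rw [inv_mul_eq_iff_eq_mul, ← mul_assoc, eq_mul_inv_iff_mul_eq]
    exact e2
  have h2 : u₀⁻¹ * (k * u₀ * k⁻¹) ∈ U₀ ⊓ sigmaCore M := by
    refine Subgroup.mem_inf.mpr ⟨U₀.mul_mem (U₀.inv_mem hu₀) hku₀, ?_⟩
    rw [h1]
    exact Subgroup.mul_mem _ hs (Subgroup.inv_mem _ hks)
  rw [hU₀σ, Subgroup.mem_bot] at h2
  have h3 : k * u₀ * k⁻¹ = u₀ := by
    rw [inv_mul_eq_one] at h2
    exact h2.symm
  have h4 : u₀ ∈ U₀ ⊓ centralizer ({k} : Set G) := by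
    refine Subgroup.mem_inf.mpr ⟨hu₀, ?_⟩
    rw [Subgroup.mem_centralizer_singleton_iff]
    calc u₀ * k = (k * u₀ * k⁻¹) * k := by rw [h3]
      _ = k * u₀ := by group
  rw [hfree k hk hk1, Subgroup.mem_bot] at h4
  have h5 : u ∈ U ⊓ sigmaCore M := by
    refine Subgroup.mem_inf.mpr ⟨huU, ?_⟩
    rw [hus, h4, one_mul]
    exact hs
  rw [hUσ, Subgroup.mem_bot] at h5
  exact h5

end Cfsg.Agent.Lib.BGCent
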