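import Mathlib
import Cfsg.Agent.Lib.BGCent11

/-!
# Bender-Glauberman section 14: centralizers in `M_σ` and in `U`.
-/

set_option autoImplicit false
set_option linter.unusedSectionVars false
set_option linter.unusedVariables false
set_option linter.style.haveILetI false
set_option linter.unusedSimpArgs false

namespace Cfsg.Agent.Lib.BGCent

open Cfsg Subgroup Cfsg.Agent.Lib.CoprimeInv Cfsg.Agent.Lib.BGTrans Cfsg.Agent.Lib.BGTrans2 Cfsg.Agent.Lib.BGUniq
  Cfsg.Agent.Lib.BGUniq2 Cfsg.Agent.Lib.PCore Cfsg.Agent.Lib.BGTau7 Cfsg.Agent.Lib.BGM1 Cfsg.Agent.Lib.BGTau5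
  Cfsg.Agent.Lib.BGTau3 Cfsg.Agent.Lib.BGM2 Cfsg.Agent.Lib.BGTau6 Cfsg.Agent.Lib.BGTau1 Cfsg.Agent.Lib.BGP2E
  Cfsg.Agent.Lib.BGFit2
open scoped commutatorElement

universe u

variable {G : Type u} [Group G] [Finite G]

/-- Primes of `U`. -/
theorem primes_U (hG : IsMinSimpleOddOrder G) {M K U : Subgroup G} (hM : IsCoatom M)
    (hd : IsSigmaDecomposition M K U) {q : ℕ} (hq : q.Prime) (hqd : q ∣ Nat.card U) :
    q ∉ kappa M ∧ q ∉ sigma M := by
  have hc1 : Nat.card U * Nat.card (K ⊔ sigmaCore M : Subgroup G) = Nat.card M :=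
    Cfsg.Agent.Lib.OddOrderCore.card_mul_card_of_isComplIn hd.compl
  constructor
  · intro hqκ
    apply hd.hall.2.2 q hq hqκ
    have hc6 : Nat.card K * K.relIndex M = Nat.card M := by
      have := Subgroup.card_mul_index (K.subgroupOf M)
      rwa [card_subgroupOf_of_le hd.hall.1] at this
    have hc2 : Nat.card K ∣ Nat.card (K ⊔ sigmaCore M : Subgroup G) := Subgroup.card_dvd_of_le le_sup_left
    obtain ⟨c, hc⟩ := hc2
    have hc7 : K.relIndex M = Nat.card U * c := by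
      apply Nat.eq_of_mul_eq_mul_left (Nat.card_pos (α := K))
      rw [hc6, ← hc1, hc]
      ring
    rw [hc7]
    exact Dvd.dvd.mul_right hqd _
  · intro hqσ
    apply (sigma_hall hG hM).1.2.2 q hq hqσ
    have hc6 : Nat.card (sigmaCore M) * (sigmaCore M).relIndex M = Nat.card M := by
      have := Subgroup.card_mul_index ((sigmaCore M).subgroupOf M)
      rwa [card_subgroupOf_of_le sigmaCore_le] at this
    have hc2 : Nat.card (sigmaCore M) ∣ Nat.card (K ⊔ sigmaCore M : Subgroup G) :=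
      Subgroup.card_dvd_of_le le_sup_right
    obtain ⟨c, hc⟩ := hc2
    have hc7 : (sigmaCore M).relIndex M = Nat.card U * c := by
      apply Nat.eq_of_mul_eq_mul_left (Nat.card_pos (α := sigmaCore M))
      rw [hc6, ← hc1, hc]
      ring
    rw [hc7]
    exact Dvd.dvd.mul_right hqd _

/-- `M_σ ∩ C(K) ≠ 1`. -/
theorem kstar_ne_bot (hG : IsMinSimpleOddOrder G) (hK : KappaFacts G) {M K : Subgroup G} (hM : IsCoatom M)
    (hKc : IsCyclic K) (hKh : IsPiHallOf (kappa M) K M) :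
    sigmaCore M ⊓ centralizer (K : Set G) ≠ ⊥ := by
  classical
  by_cases hK1 : K = ⊥
  · subst hK1
    have : centralizer ((⊥ : Subgroup G) : Set G) = ⊤ := by
      rw [Subgroup.coe_bot, Subgroup.centralizer_eq_top_iff_subset]
      simp
    rw [this, inf_top_eq]
    exact sigmaCore_ne_bot hG hM (Cfsg.Agent.Lib.BGSigma2.coatom_ne_bot hG hM)
  have hcard : Nat.card K ≠ 1 := fun h => hK1 (Subgroup.card_eq_one.mp h)
  obtain ⟨p, hp, hpd⟩ := Nat.exists_prime_and_dvd hcard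
  haveI : Fact p.Prime := ⟨hp⟩
  have hpκ : p ∈ kappa M := hKh.2.1 p hp hpd
  obtain ⟨P⟩ : Nonempty (Sylow p M) := inferInstance
  obtain ⟨-, x, hxP, hx1, y, hy, hy1, hxy⟩ := hpκ.2.2.2 P
  have hPp : IsPGroup p (P : Subgroup M) := P.isPGroup'
  have hx1' : (x : G) ≠ 1 := by simpa using hx1
  -- an element of order `p` commuting with `y`
  obtain ⟨n, hn⟩ := hPp ⟨x, hxP⟩
  have hn' : (x : G) ^ p ^ n = 1 := by simpa [Subtype.ext_iff] using hn
  have hpo : p ∣ orderOf (x : G) := by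
    obtain ⟨j, -, hj⟩ := (Nat.dvd_prime_pow hp).mp (orderOf_dvd_of_pow_eq_one hn')
    rw [hj]
    refine dvd_pow_self p ?_
    rintro rfl
    rw [pow_zero] at hj
    exact hx1' (orderOf_eq_one_iff.mp hj)
  set x₀ : G := (x : G) ^ (orderOf (x : G) / p) with hx₀
  have hx₀o : orderOf x₀ = p := orderOf_pow_orderOf_div (orderOf_pos _).ne' hpo
  have hx₀M : x₀ ∈ M := Subgroup.pow_mem _ x.2 _
  have hx₀y : x₀ * y = y * x₀ := (Commute.pow_left hxy _).eq
  obtain ⟨T, hT⟩ := exists_isSylowIn p K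
  have hTM : IsSylowIn p T M := isSylowIn_of_hall hT hKh.1 (hKh.2.2 p hp hpκ)
  have hzP : IsPGroup p (zpowers x₀) := by
    apply Cfsg.Agent.Lib.BGP2E.isPGroup_zpowers_of_pow
    rw [← hx₀o]
    exact pow_orderOf_eq_one _
  have hzM : zpowers x₀ ≤ M := (zpowers_le_of_mem hx₀M)
  obtain ⟨P₁, hP₁, hzP₁⟩ := exists_isSylowIn_ge p hzM hzP
  obtain ⟨m, hm, hmT⟩ := hP₁.exists_conj hTM
  set k : G := m * x₀ * m⁻¹ with hk
  have hkT : k ∈ T := by
    rw [hmT, mem_cj]
    have : m⁻¹ * k * m = x₀ := by rw [hk]; group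
    rw [this]
    exact hzP₁ (mem_zpowers _)
  have hkK : k ∈ K := hT.1 hkT
  have hk1 : k ≠ 1 := by
    intro h
    have h2 : x₀ = 1 := by
      have h3 : m⁻¹ * k * m = x₀ := by rw [hk]; group
      rw [← h3, h]
      group
    rw [h2, orderOf_one] at hx₀o
    exact hp.one_lt.ne hx₀o
  have h1 := (hK.h30 M hM K hKh hK1).1 k hkK hk1
  rw [← h1]
  intro hb
  have hy' : m * y * m⁻¹ ∈ sigmaCore M ⊓ centralizer ({k} : Set G) := by
    refine Subgroup.mem_inf.mpr ⟨?_, ?_⟩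
    · exact (mem_normalizer_iff.mp (le_normalizer_sigmaCore hm) y).mp hy
    · rw [Subgroup.mem_centralizer_singleton_iff, hk]
      calc m * y * m⁻¹ * (m * x₀ * m⁻¹) = m * (y * x₀) * m⁻¹ := by group
        _ = m * (x₀ * y) * m⁻¹ := by rw [hx₀y]
        _ = m * x₀ * m⁻¹ * (m * y * m⁻¹) := by group
  rw [hb, Subgroup.mem_bot] at hy'
  apply hy1
  have h3 : y = m⁻¹ * (m * y * m⁻¹) * m := by group
  rw [h3, hy']
  group

/-- `C_M(k) = K K*`. -/
theorem cent_k_eq (hG : IsMinSimpleOddOrder G) (hK : KappaFacts G) {M K : Subgroup G} (hM : IsCoatom M)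
    (hKc : IsCyclic K) (hKh : IsPiHallOf (kappa M) K M) (hK1 : K ≠ ⊥) {k : G} (hk : k ∈ K) (hk1 : k ≠ 1) :
    M ⊓ centralizer ({k} : Set G) = K ⊔ (sigmaCore M ⊓ centralizer (K : Set G)) := by
  classical
  apply le_antisymm
  · -- a subgroup of prime order in `⟨k⟩`
    have hno : orderOf k ≠ 1 := fun h => hk1 (orderOf_eq_one_iff.mp h)
    obtain ⟨p, hp, hpd⟩ := Nat.exists_prime_and_dvd hno
    set x₀ : G := k ^ (orderOf k / p) with hx₀
    have hx₀o : orderOf x₀ = p := orderOf_pow_orderOf_div (orderOf_pos _).ne' hpd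
    have hX : zpowers x₀ ≤ K := zpowers_le_of_mem (Subgroup.pow_mem _ hk _)
    have hXc : (Nat.card (zpowers x₀)).Prime := by
      rw [Nat.card_zpowers, hx₀o]
      exact hp
    obtain ⟨-, -, h3⟩ := hK.h30 M hM K hKh hK1
    rw [← (h3 _ hX hXc).1]
    apply inf_le_inf_left
    intro c hc
    rw [Subgroup.mem_centralizer_singleton_iff] at hc
    have hcx : c * x₀ = x₀ * c := (Commute.pow_right hc _).eq
    rw [mem_normalizer_iff]
    intro y
    constructor
    · intro hy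
      obtain ⟨j, rfl⟩ := mem_zpowers_iff.mp hy
      have : c * x₀ ^ j * c⁻¹ = x₀ ^ j := by
        rw [(Commute.zpow_right hcx j).eq]
        group
      rw [this]
      exact hy
    · intro hy
      obtain ⟨j, hj⟩ := mem_zpowers_iff.mp hy
      have : y = x₀ ^ j := by
        have h5 : c * x₀ ^ j * c⁻¹ = x₀ ^ j := by
          rw [(Commute.zpow_right hcx j).eq]
          group
        have h6 : c * y * c⁻¹ = x₀ ^ j := hj.symm
        rw [← h5] at h6
        have h7 : c * y = c * x₀ ^ j := by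
          simpa using h6
        exact mul_left_cancel h7
      rw [this]
      exact zpow_mem (mem_zpowers _) _
  · apply sup_le
    · intro c hc
      refine Subgroup.mem_inf.mpr ⟨hKh.1 hc, ?_⟩
      rw [Subgroup.mem_centralizer_singleton_iff]
      have := hKc.isMulCommutative.is_comm.comm (⟨c, hc⟩ : K) ⟨k, hk⟩
      exact congrArg Subtype.val this
    · intro c hc
      obtain ⟨h1, h2⟩ := Subgroup.mem_inf.mp hc
      refine Subgroup.mem_inf.mpr ⟨sigmaCore_le h1, ?_⟩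
      rw [Subgroup.mem_centralizer_singleton_iff]
      exact (Subgroup.mem_centralizer_iff.mp h2 k hk).symm

/-- **S1361**. -/
theorem cent_X_unique (hG : IsMinSimpleOddOrder G) (hK : KappaFacts G) {M K U X : Subgroup G} (hM : IsCoatom M)
    (hd : IsSigmaDecomposition M K U) (hXU : X ≤ U) (hX : X ≠ ⊥)
    (hXc : sigmaCore M ⊓ centralizer (X : Set G) ≠ ⊥) :
    centralizer (X : Set G) ≤ M ∧ ∀ L : Subgroup G, IsCoatom L → centralizer (X : Set G) ≤ L → L = M := by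
  classical
  obtain ⟨y, hy, hy1⟩ := exists_mem_ne_one hXc
  obtain ⟨hyσ, hyX⟩ := Subgroup.mem_inf.mp hy
  have hUM : U ≤ M := hd.compl.1
  -- primes of elements of `X`
  have hx' : ∀ x' ∈ X, x' ≠ 1 → (∀ p : ℕ, p.Prime → p ∣ orderOf x' → p ∈ tau2 M) ∧
      (centralizer ({x'} : Set G) ≤ M ∧ ∀ L : Subgroup G, IsCoatom L → centralizer ({x'} : Set G) ≤ L → L = M) := by
    intro x' hxX hx1
    have hxU := hXU hxX
    have hprim : ∀ p : ℕ, p.Prime → p ∣ orderOf x' → p ∉ kappa M ∧ p ∉ sigma M := fun p hp hpd =>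
      primes_U hG hM hd hp (hpd.trans (Subgroup.orderOf_dvd_natCard _ hxU))
    have hmem : x' ∈ M ⊓ centralizer ({y} : Set G) := by
      refine Subgroup.mem_inf.mpr ⟨hUM hxU, ?_⟩
      rw [Subgroup.mem_centralizer_singleton_iff]
      exact (Subgroup.mem_centralizer_iff.mp hyX x' hxX)
    rcases hK.h32 M hM y hyσ hy1 x' hmem hx1 (fun p hp hpd => (hprim p hp hpd).2) with h | h
    · exfalso
      have hno : orderOf x' ≠ 1 := fun h => hx1 (orderOf_eq_one_iff.mp h)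
      obtain ⟨p, hp, hpd⟩ := Nat.exists_prime_and_dvd hno
      exact (hprim p hp hpd).1 (h.1 p hp hpd)
    · exact ⟨h.1, h.2.2⟩
  obtain ⟨x₁, hx₁X, hx₁1⟩ := exists_mem_ne_one hX
  have hCx : centralizer (X : Set G) ≤ centralizer ({x₁} : Set G) := by
    apply Subgroup.centralizer_le
    simpa using hx₁X
  refine ⟨hCx.trans (hx' x₁ hx₁X hx₁1).2.1, ?_⟩
  intro L hL hCL
  -- `X` is a `τ₂`-group; a Hall `τ₂`-subgroup through `X` is abelian
  have hXτ : ∀ r : ℕ, r.Prime → r ∣ Nat.card X → r ∈ tau2 M := by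
    intro r hr hrd
    haveI : Fact r.Prime := ⟨hr⟩
    obtain ⟨z, hz⟩ := exists_prime_orderOf_dvd_card' (G := X) r hrd
    have hz1 : (z : G) ≠ 1 := by
      intro h
      have h2 : z = 1 := Subtype.ext h
      rw [h2, orderOf_one] at hz
      exact hr.one_lt.ne hz
    have h3 : orderOf (z : G) = r := by
      rw [Subgroup.orderOf_coe]
      exact hz
    exact (hx' z z.2 hz1).1 r hr (by rw [h3])
  obtain ⟨H, hXH, hH⟩ := exists_hall_ge (π := tau2 M) (solvable_of_le_coatom hG hM le_rfl) (hXU.trans hUM) hXτ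
  have hHn : Group.IsNilpotent H := nilpotent_of_tau2 hG hM hH.1 hH.2.1
  have hHa : IsMulCommutative H := nilpotent_abelian hG hM hH.1 hHn (fun p hp hpd => (hH.2.1 p hp hpd).2.1)
  have hno : orderOf x₁ ≠ 1 := fun h => hx₁1 (orderOf_eq_one_iff.mp h)
  obtain ⟨p, hp, hpd⟩ := Nat.exists_prime_and_dvd hno
  haveI : Fact p.Prime := ⟨hp⟩
  have hpτ : p ∈ tau2 M := (hx' x₁ hx₁X hx₁1).1 p hp hpd
  -- an elementary abelian subgroup of order `p²` in `H`
  obtain ⟨A₀, hA₀M, hA₀e, hA₀c⟩ := Cfsg.Agent.Lib.BGSigma3.exists_ea2 hpτ.2.2.2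
  obtain ⟨P₀, hP₀⟩ := exists_isSylowIn p H
  have hP₀M : IsSylowIn p P₀ M := isSylowIn_of_hall hP₀ hH.1 (hH.2.2 p hp hpτ)
  obtain ⟨P₁, hP₁, hA₀P₁⟩ := exists_isSylowIn_ge p hA₀M (Cfsg.Agent.Lib.BGSigma3.isPGroup_of_ea hA₀e)
  obtain ⟨m, hm, hmP⟩ := hP₁.exists_conj hP₀M
  have hT : T2 M (cj A₀ m) p := (T2.mk' hG hM hpτ hA₀M hA₀e hA₀c).conj hm
  have hAP₀ : cj A₀ m ≤ H := by
    have : cj A₀ m ≤ P₀ := by
      rw [hmP]
      exact cj_mono hA₀P₁ m
    exact this.trans hP₀.1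
  -- `A ≤ C(X) ≤ L`
  have hAC : cj A₀ m ≤ centralizer (X : Set G) := by
    intro a ha
    rw [Subgroup.mem_centralizer_iff]
    intro b hb
    have := hHa.is_comm.comm (⟨b, hXH hb⟩ : H) ⟨a, hAP₀ ha⟩
    exact congrArg Subtype.val this
  by_contra hLM
  have h4 := hT.e hL hLM (hAC.trans hCL)
  have hyL : y ∈ sigmaCore M ⊓ L := Subgroup.mem_inf.mpr ⟨hyσ, hCL hyX⟩
  rw [h4, Subgroup.mem_bot] at hyL
  exact hy1 hyL

end Cfsg.Agent.Lib.BGCent
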