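import Mathlib
import Cfsg.Agent.Lib.BGP3D
import Cfsg.Agent.Lib.BGTau12
import Cfsg.Agent.S1414
import Cfsg.Agent.S1422
import Cfsg.Agent.S1423
import Cfsg.Agent.S1410

/-!
# Coprime action of cyclic Sylow subgroups of a complement: preparation.
-/

set_option autoImplicit false
set_option linter.unusedSectionVars false
set_option linter.unusedVariables false
set_option linter.style.haveILetI false
set_option linter.unusedSimpArgs false

namespace Cfsg.Agent.Lib.BGP3E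

open Cfsg Subgroup Cfsg.Agent.Lib.CoprimeInv Cfsg.Agent.Lib.BGTrans Cfsg.Agent.Lib.Glauberman
  Cfsg.Agent.Lib.BGSigma Cfsg.Agent.Lib.BGSigma2 Cfsg.Agent.Lib.BGSigma3 Cfsg.Agent.Lib.BGSigma4
  Cfsg.Agent.Lib.BGM1 Cfsg.Agent.Lib.BGM2 Cfsg.Agent.Lib.BGP2A Cfsg.Agent.Lib.BGP2B Cfsg.Agent.Lib.BGP2C
  Cfsg.Agent.Lib.BGP2D Cfsg.Agent.Lib.BGP2E Cfsg.Agent.Lib.BGP2F Cfsg.Agent.Lib.BGFit2 Cfsg.Agent.Lib.BGUniq
  Cfsg.Agent.Lib.BGUniq2 Cfsg.Agent.Lib.BGUniq3 Cfsg.Agent.Lib.BGFus Cfsg.Agent.Lib.BGP3A Cfsg.Agent.Lib.BGP3B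
  Cfsg.Agent.Lib.BGP3C Cfsg.Agent.Lib.BGP3D Cfsg.Agent.Lib.BGTau7

open scoped commutatorElement

universe u

variable {G : Type u} [Group G] [Finite G]

/-- A `q`-subgroup of `σ`-core with `q` an element of `σ(M)`, `¬ β`: normal complement fact. -/
theorem comm_eq_bot_of_not_beta (hG : IsMinSimpleOddOrder G) {H S Q : Subgroup G} (hH : IsCoatom H)
    {p q : ℕ} [hp : Fact p.Prime] [hq : Fact q.Prime] (hpq : p ≠ q) (hqβ : q ∉ beta H)
    (hqσ : q ∈ sigma H) (hS : S ≤ sigmaCore H) (hQ : Q ≤ sigmaCore H) (hSp : IsPGroup p S)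
    (hQq : IsPGroup q Q) (hQS : ⁅Q, S⁆ = Q) : Q = ⊥ := by
  classical
  obtain ⟨-, -, -, -, h5⟩ := Cfsg.Agent.S1414.result hG H hH
  obtain ⟨-, ⟨Pq, N, hNn, hNc⟩, -⟩ := h5 q hq.out hqσ.2.1 hqβ
  -- the image of `N`
  have hidx : N.index = Nat.card (Pq : Subgroup (sigmaCore H)) := by
    have h1 := hNc.card_mul
    have h2 := N.card_mul_index
    have hpos : 0 < Nat.card N := Nat.card_pos
    have h3 : Nat.card N * N.index = Nat.card N * Nat.card (Pq : Subgroup (sigmaCore H)) := by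
      rw [h2]; exact h1.symm
    exact Nat.eq_of_mul_eq_mul_left hpos h3
  obtain ⟨k, hk⟩ := (Pq.isPGroup').exists_card_eq
  have hcopN : (Nat.card N).Coprime q := by
    have h1 := hNc.card_mul
    have h2 : ¬ q ∣ Nat.card N := by
      intro hd
      have h3 : q * Nat.card (Pq : Subgroup (sigmaCore H)) ∣ Nat.card (sigmaCore H) := by
        rw [← h1]
        exact Nat.mul_dvd_mul_right hd _
      have := Pq.card_eq_multiplicity
      have h4 := Pq.not_dvd_index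
      have h5 := (Pq : Subgroup (sigmaCore H)).card_mul_index
      rw [← h5, mul_comm q] at h3
      exact h4 (Nat.dvd_of_mul_dvd_mul_left Nat.card_pos h3)
    exact ((Nat.Prime.coprime_iff_not_dvd hq.out).mpr h2).symm
  -- every `p`-element of the `σ`-core lies in `N`
  have hSN : ∀ s (hs : s ∈ S), (⟨s, hS hs⟩ : sigmaCore H) ∈ N := by
    intro s hs
    obtain ⟨j, hj⟩ := hSp ⟨s, hs⟩
    have hj' : s ^ p ^ j = 1 := by simpa [Subtype.ext_iff] using hj
    have hc : Nat.Coprime (p ^ j) N.index := by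
      rw [hidx, hk]
      exact Nat.Coprime.pow _ _ ((Nat.coprime_primes hp.out hq.out).mpr hpq)
    exact mem_of_coprime_index hc (by ext; simpa using hj')
  -- `[Q, S]` lies in `N`
  have hQN : ∀ y (hy : y ∈ Q), (⟨y, hQ hy⟩ : sigmaCore H) ∈ N := by
    intro y hy
    have hle : (⁅Q, S⁆ : Subgroup G) ≤ N.map (sigmaCore H).subtype := by
      rw [Subgroup.commutator_le]
      intro a ha s hs
      refine ⟨⟨a, hQ ha⟩ * ⟨s, hS hs⟩ * (⟨a, hQ ha⟩ : sigmaCore H)⁻¹ * (⟨s, hS hs⟩ : sigmaCore H)⁻¹, ?_, ?_⟩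
      · exact mul_mem (hNn.conj_mem _ (hSN s hs) _) (inv_mem (hSN s hs))
      · simp [commutatorElement_def]
    rw [hQS] at hle
    obtain ⟨z, hz, hzy⟩ := hle hy
    have : z = ⟨y, hQ hy⟩ := Subtype.ext hzy
    rwa [← this]
  -- a `q`-element of a `q'`-group is trivial
  rw [eq_bot_iff]
  intro y hy
  obtain ⟨j, hj⟩ := hQq ⟨y, hy⟩
  have hj' : y ^ q ^ j = 1 := by simpa [Subtype.ext_iff] using hj
  have h1 : (⟨⟨y, hQ hy⟩, hQN y hy⟩ : N) ^ q ^ j = 1 := by
    ext; simpa using hj'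
  have h2 : (⟨⟨y, hQ hy⟩, hQN y hy⟩ : N) ^ Nat.card N = 1 := pow_card_eq_one'
  have h3 : orderOf (⟨⟨y, hQ hy⟩, hQN y hy⟩ : N) = 1 :=
    Nat.eq_one_of_dvd_coprimes (hcopN.pow_right j) (orderOf_dvd_of_pow_eq_one h2)
      (orderOf_dvd_of_pow_eq_one h1)
  have h4 : (⟨⟨y, hQ hy⟩, hQN y hy⟩ : N) = 1 := orderOf_eq_one_iff.mp h3
  have h5 : y = 1 := by simpa [Subtype.ext_iff] using h4
  exact h5

/-- Step (2): `p ∉ σ(H)` for maximal subgroups `H ≠ M` containing `S` and `Q = [Q, S]`. -/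
theorem not_sigma_of_comm (hG : IsMinSimpleOddOrder G) {M H S Q : Subgroup G} (hM : IsCoatom M)
    (hH : IsCoatom H) (hne : H ≠ M) {p q : ℕ} [hp : Fact p.Prime] [hq : Fact q.Prime] (hpq : p ≠ q)
    (hqσ : q ∈ sigma M) (hQM : Q ≤ M) (hQq : IsPGroup q Q) (hQ1 : Q ≠ ⊥) (hQS : ⁅Q, S⁆ = Q)
    (hSp : IsPGroup p S) (hSH : S ≤ H) (hQH : Q ≤ H) : p ∉ sigma H := by
  classical
  intro hpH
  have hS : S ≤ sigmaCore H := le_sigmaCore_of_pgroup hG hH hpH hSH hSp
  have hQc : Q ≤ sigmaCore H := by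
    rw [← hQS]
    exact comm_le_sigmaCore hG hH hQH hS
  have hqH : q ∈ sigma H := primes_sigmaCore q hq.out
    ((dvd_card_of_isPGroup hQq hQ1).trans (Subgroup.card_dvd_of_le hQc))
  by_cases hqβ : q ∈ beta H
  · -- `q ∈ β(M)` as well
    have hqβM : q ∈ beta M := by
      refine ⟨⟨hq.out, ?_⟩, hqβ.2⟩
      intro hr
      apply hqβ.1.2
      rw [prankLE_iff] at hr ⊢
      intro A hAH hAc hAe
      have hAp : IsPGroup q A := by
        intro a
        exact ⟨1, Subtype.ext (by simpa using hAe a a.2)⟩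
      obtain ⟨g, hg⟩ := exists_conj_le hqσ hAp
      have h1 := hr (cj A g) hg (isMulCommutative_cj hAc g)
        (Cfsg.Agent.S1422.ea_cj (p := q) ⟨hAc, hAe⟩ g).2
      rwa [card_cj] at h1
    -- a subgroup of order `q` in `Q`
    obtain ⟨X, hXQ, hXc⟩ : ∃ X : Subgroup G, X ≤ Q ∧ Nat.card X = q := by
      have hd : q ∣ Nat.card Q := dvd_card_of_isPGroup hQq hQ1
      obtain ⟨x, hx⟩ := exists_prime_orderOf_dvd_card' q hd
      refine ⟨(zpowers x).map Q.subtype, ?_, ?_⟩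
      · exact Subgroup.map_subtype_le _
      · rw [Subgroup.card_map_of_injective Q.subtype_injective, Nat.card_zpowers, hx]
    have hXM := hXQ.trans hQM
    have hXH := hXQ.trans hQH
    obtain ⟨Pm⟩ : Nonempty (Sylow q (sigmaCore M)) := inferInstance
    obtain ⟨Ph⟩ : Nonempty (Sylow q (sigmaCore H)) := inferInstance
    have h1 := (Cfsg.Agent.S1423.result hG M hM q hqσ X hXM hXc Pm (Or.inl hqβM)).1
    have h2 := (Cfsg.Agent.S1423.result hG H hH q hqH X hXH hXc Ph (Or.inl hqβ)).1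
    exact hne (h1.2 H hH h2.1)
  · exact hQ1 (comm_eq_bot_of_not_beta hG hH hpq hqβ hqH hS hQc hSp hQq hQS)

theorem isMulCommutative_of_cyclic {R : Type*} [Group R] (h : IsCyclic R) : IsMulCommutative R := by
  letI := h.commGroup
  exact ⟨⟨fun a b => mul_comm a b⟩⟩

/-- A subgroup of order `p²` with exponent `p` does not lie in a subgroup of `p`-rank `1`. -/
theorem not_le_of_rank_one {M A : Subgroup G} {p : ℕ} [hp : Fact p.Prime] (hpM : PRankLE p 1 M)
    (hAe : IsElementaryAbelian p A) (hAc : Nat.card A = p ^ 2) : ¬ A ≤ M := by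
  intro hAM
  rw [prankLE_iff] at hpM
  have h1 := hpM A hAM hAe.1 hAe.2
  rw [hAc] at h1
  have h2 : p ^ 1 < p ^ 2 := Nat.pow_lt_pow_right hp.out.one_lt (by norm_num)
  omega

theorem not_rank_one_of_le {M A : Subgroup G} {p : ℕ} [hp : Fact p.Prime]
    (hAe : IsElementaryAbelian p A) (hAc : Nat.card A = p ^ 2) (hAM : A ≤ M) : ¬ PRankLE p 1 M :=
  fun h => not_le_of_rank_one h hAe hAc hAM

/-- Step (3). -/
theorem tau2_of_not_sigma (hG : IsMinSimpleOddOrder G) {H P : Subgroup G} (hH : IsCoatom H) {p : ℕ}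
    [hp : Fact p.Prime] (hpσ : p ∉ sigma H) (hPc : Nat.card P = p) (hPH : P ≤ H)
    (hN : normalizer (P : Set G) ≤ H) : p ∈ tau2 H := by
  classical
  refine ⟨hp.out, hpσ, rank2_of_not_sigma hG hH hp.out hpσ, ?_⟩
  intro hr
  have hPp : IsPGroup p P := IsPGroup.of_card (n := 1) (by rw [hPc, pow_one])
  obtain ⟨S, hS, hPS⟩ := exists_isSylowIn_ge p hPH hPp
  have hSr : PRankLE p 1 S := prankLE_of_le hS.1 hr
  have hd : p ∣ Nat.card G := by
    rw [← hPc]; exact Subgroup.card_subgroup_dvd_card P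
  have hcyc : IsCyclic S := isCyclic_of_prank_one (prime_ne_two_of_dvd hG hd) hS.2.1 hSr
  obtain ⟨x, hx⟩ := exists_prime_orderOf_dvd_card' p (G := P) (by rw [hPc])
  have hxo : orderOf (x : G) = p := by rw [Subgroup.orderOf_coe]; exact hx
  have hPz : P = zpowers (x : G) :=
    (Subgroup.eq_of_le_of_card_ge (zpowers_le.mpr x.2) (by rw [Nat.card_zpowers, hPc, hxo])).symm
  have hexp : ∀ u ∈ P, u ^ p = 1 := by
    intro u hu
    have h1 : (⟨u, hu⟩ : P) ^ Nat.card P = 1 := pow_card_eq_one'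
    rw [hPc] at h1
    simpa [Subtype.ext_iff] using h1
  have hNS : normalizer (S : Set G) ≤ normalizer (P : Set G) := by
    intro g hg
    apply mem_normalizer_of_conj_mem
    intro u hu
    have h1 : g * u * g⁻¹ ∈ S := (mem_normalizer_iff.mp hg u).mp (hPS hu)
    have h2 : (g * u * g⁻¹) ^ p = 1 := by
      rw [conj_pow, hexp u hu]; simp
    have h3 := Cfsg.Agent.Lib.BGTau1.mem_zpowers_of_cyclic hcyc hp.out (hPS x.2) h1 hxo h2
    rwa [← hPz] at h3
  have hdH : p ∣ Nat.card H := by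
    rw [← hPc]; exact Subgroup.card_dvd_of_le hPH
  exact hpσ (mem_sigma_of hS hdH (hNS.trans hN))

/-- Step (4). -/
theorem not_sigma_of_T2 {M H A : Subgroup G} {p q : ℕ} [hp : Fact p.Prime] [hq : Fact q.Prime]
    (T : T2 H A p) (hM : IsCoatom M) (hqσ : q ∈ sigma M) (hpM : PRankLE p 1 M) : q ∉ sigma H := by
  classical
  intro hqH
  have hnil := T.nilpotent
  obtain ⟨Q, hQ, -⟩ := exists_isSylowIn_ge q (bot_le : (⊥ : Subgroup G) ≤ sigmaCore H)
    IsPGroup.of_bot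
  have hV : pCoreOf q (sigmaCore H) = Q := by
    apply le_antisymm
    · exact le_of_eq (hQ.2.2 _ (pCoreOf_le q _) (isPGroup_pCoreOf q _)
        (le_pCoreOf_nil hnil hQ.1 hQ.2.1))
    · exact le_pCoreOf_nil hnil hQ.1 hQ.2.1
  obtain ⟨hQH, hQt, hNQ, -⟩ := T.sylow_facts hqH hQ
  have hHN : H ≤ normalizer (Q : Set G) := by
    rw [← hV]
    exact le_normalizer_sigmaCore.trans (normalizer_le_normalizer_pCoreOf q _)
  obtain ⟨g, hg⟩ := exists_conj_le hqσ (hQ.2.1)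
  -- `Q^g` is a Sylow `q`-subgroup of `M`
  have hQg : IsSylowIn q (cj Q g) M := by
    refine ⟨hg, hQ.2.1.map _, ?_⟩
    intro R hRM hRq hle
    have h1 := isSylowIn_cj hQt g
    rw [cj_top] at h1
    exact h1.2.2 R le_top hRq hle
  have hN : normalizer (cj Q g : Set G) ≤ M := normalizer_le_of_sigma hqσ hQg
  have hHg : cj H g ≤ M := by
    refine le_trans (cj_mono hHN g) ?_
    rw [← normalizer_cj_eq]
    exact hN
  have hHcoat : IsCoatom (cj H g) := BGUniq3.isCoatom_cj T.hM g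
  have hHeq : cj H g = M := ((hHcoat.le_iff.mp hHg).resolve_left hM.1).symm
  refine not_le_of_rank_one hpM (Cfsg.Agent.S1422.ea_cj T.ea g) (by rw [card_cj, T.card]) ?_
  rw [← hHeq]
  exact cj_mono T.hAM g

/-- Step (5). -/
theorem le_coreOf_of_comm (hG : IsMinSimpleOddOrder G) {H S Q : Subgroup G} (hH : H ≠ ⊤) {p q : ℕ}
    [hp : Fact p.Prime] [hq : Fact q.Prime] (hpq : p ≠ q) (hSH : S ≤ H) (hQH : Q ≤ H)
    (hSp : IsPGroup p S) (hQq : IsPGroup q Q) (hQS : ⁅Q, S⁆ = Q) : Q ≤ coreOf p H := by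
  classical
  have hL : PLengthLE p 1 H := Cfsg.Agent.S1410.result hG p H hH
  have hS' : IsPGroup p (S.subgroupOf H) :=
    hSp.of_injective (Subgroup.subgroupOfEquivOfLe hSH).toMonoidHom (MulEquiv.injective _)
  have hSW : S.subgroupOf H ≤ pPrimePCore p H :=
    Cfsg.Agent.Lib.PLengthOne.isPGroup_le_pPrimePCore hL hS'
  haveI hWn : (pPrimePCore p H).Normal := by
    unfold pPrimePCore
    infer_instance
  have hle : Q ≤ (pPrimePCore p H).map H.subtype := by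
    rw [← hQS, Subgroup.commutator_le]
    intro a ha s hs
    refine ⟨⟨a, hQH ha⟩ * ⟨s, hSH hs⟩ * (⟨a, hQH ha⟩ : H)⁻¹ * (⟨s, hSH hs⟩ : H)⁻¹, ?_, ?_⟩
    · have h1 : (⟨s, hSH hs⟩ : H) ∈ pPrimePCore p H := hSW (by simpa [Subgroup.mem_subgroupOf] using hs)
      exact mul_mem (hWn.conj_mem _ h1 _) (inv_mem h1)
    · simp [commutatorElement_def]
  intro y hy
  obtain ⟨z, hz, hzy⟩ := hle hy
  have hzy' : (z : G) = y := hzy
  obtain ⟨j, hj⟩ := hQq ⟨y, hy⟩
  have hj' : y ^ q ^ j = 1 := by simpa [Subtype.ext_iff] using hj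
  have hzq : z ^ q ^ j = 1 := by
    ext; simpa [hzy'] using hj'
  -- the image in `H / O_{p'}(H)` is a `p`-element
  let π := QuotientGroup.mk' (pPrimeCore p H)
  have h1 : π z ∈ pCore p (H ⧸ pPrimeCore p H) := hz
  obtain ⟨k, hk⟩ := Cfsg.Agent.Lib.PCore.isPGroup_pCore (G := H ⧸ pPrimeCore p H) p ⟨π z, h1⟩
  have hk' : (π z) ^ p ^ k = 1 := by simpa [Subtype.ext_iff] using hk
  have h2 : (π z) ^ q ^ j = 1 := by rw [← map_pow, hzq, map_one]
  have hc : Nat.Coprime (p ^ k) (q ^ j) :=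
    Nat.Coprime.pow _ _ ((Nat.coprime_primes hp.out hq.out).mpr hpq)
  have h3 : orderOf (π z) = 1 :=
    Nat.eq_one_of_dvd_coprimes hc (orderOf_dvd_of_pow_eq_one hk') (orderOf_dvd_of_pow_eq_one h2)
  have h4 : π z = 1 := orderOf_eq_one_iff.mp h3
  have h5 : z ∈ pPrimeCore p H := (QuotientGroup.eq_one_iff z).mp h4
  exact ⟨z, h5, hzy⟩

/-- The index of `B` in `N ⊔ B` divides `|N|`. -/
theorem not_dvd_relIndex_sup {B N : Subgroup G} {q : ℕ} (hBN : B ≤ normalizer (N : Set G))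
    (hq : ¬ q ∣ Nat.card N) : ¬ q ∣ B.relIndex (N ⊔ B) := by
  intro hd
  apply hq
  have h1 := card_sup_mul_card_inf hBN
  have h2 : B.relIndex (N ⊔ B) * Nat.card B = Nat.card (N ⊔ B : Subgroup G) := by
    have h3 := (B.subgroupOf (N ⊔ B)).index_mul_card
    rw [card_subgroupOf_of_le le_sup_right] at h3
    exact h3
  rw [sup_comm] at h1
  rw [← h2] at h1
  have hpos : 0 < Nat.card B := Nat.card_pos
  have h4 : B.relIndex (N ⊔ B) * Nat.card (B ⊓ N : Subgroup G) = Nat.card N := by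
    have : Nat.card B * (B.relIndex (N ⊔ B) * Nat.card (B ⊓ N : Subgroup G)) = Nat.card B * Nat.card N := by
      rw [← h1]; ring
    exact Nat.eq_of_mul_eq_mul_left hpos this
  rw [← h4]
  exact hd.trans (Nat.dvd_mul_right _ _)

theorem isSylowIn_sup {B N T : Subgroup G} {q : ℕ} [hq : Fact q.Prime]
    (hBN : B ≤ normalizer (N : Set G)) (hqN : ¬ q ∣ Nat.card N) (hT : IsSylowIn q T B) :
    IsSylowIn q T (N ⊔ B) :=
  isSylowIn_of_hall hT le_sup_right (not_dvd_relIndex_sup hBN hqN)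

/-- Step (6). -/
theorem exists_conj_cent {H A Q : Subgroup G} {p q : ℕ} [hp : Fact p.Prime] [hq : Fact q.Prime]
    (T : T2 H A p) (hqσ : q ∉ sigma H) (hQ : Q ≤ coreOf p H) (hQq : IsPGroup q Q) :
    ∃ v ∈ H, Q ≤ centralizer (cj A v : Set G) := by
  classical
  have hCH : centralizer (A : Set G) ≤ H := T.cent_le T.hM T.hAM
  have hqN : ¬ q ∣ Nat.card (sigmaCore H) := not_dvd_sigmaCore hq.out hqσ
  obtain ⟨T', hT', -⟩ := exists_isSylowIn_ge q (bot_le : (⊥ : Subgroup G) ≤ centralizer (A : Set G))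
    IsPGroup.of_bot
  have hCn : centralizer (A : Set G) ≤ normalizer (sigmaCore H : Set G) :=
    hCH.trans le_normalizer_sigmaCore
  have hT2 := isSylowIn_sup hCn hqN hT'
  have hQY : Q ≤ sigmaCore H ⊔ centralizer (A : Set G) := hQ.trans T.core_le
  obtain ⟨S₃, hS₃, hQS₃⟩ := exists_isSylowIn_ge q hQY hQq
  obtain ⟨v, hv, hvS⟩ := hT2.exists_conj hS₃
  refine ⟨v, (sup_le sigmaCore_le hCH) hv, ?_⟩
  rw [centralizer_cj']
  exact hQS₃.trans (hvS ▸ cj_mono hT'.1 v)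

/-- Step (9)-(10): a `p`-subgroup of a `τ₂`-context for `L`, with `q ∉ σ(L)`, when `q`-subgroup `B ≤ L` is
elementary abelian of order `q²`: `A` is conjugate into the centralizer of `B`. -/
theorem conj_into_cent {L A B : Subgroup G} {p q : ℕ} [hp : Fact p.Prime] [hq : Fact q.Prime]
    (hpq : p ≠ q) (TA : T2 L A p) (hqL : q ∉ sigma L) (hBL : B ≤ L)
    (hBe : IsElementaryAbelian q B) (hBc : Nat.card B = q ^ 2) :
    ∃ v : G, cj A v ≤ centralizer (B : Set G) := by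
  classical
  have hG := TA.hG
  have hL := TA.hM
  have hqτ : q ∈ tau2 L :=
    ⟨hq.out, hqL, rank2_of_not_sigma hG hL hq.out hqL, not_rank_one_of_le hBe hBc hBL⟩
  have TB : T2 L B q := T2.mk' hG hL hqτ hBL hBe hBc
  have hBp : IsPGroup q B := isPGroup_of_ea hBe
  have hqN : ¬ q ∣ Nat.card (sigmaCore L) := not_dvd_sigmaCore hq.out hqL
  have hpL : p ∉ sigma L := TA.hp.2.1
  have hpN : ¬ p ∣ Nat.card (sigmaCore L) := not_dvd_sigmaCore hp.out hpL
  have hBn : B ≤ normalizer (sigmaCore L : Set G) := hBL.trans le_normalizer_sigmaCore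
  have hBsy : IsSylowIn q B (sigmaCore L ⊔ B) := by
    apply isSylowIn_sup hBn hqN
    exact ⟨le_rfl, hBp, fun R hR _ hle => le_antisymm hR hle⟩
  have hYL : sigmaCore L ⊔ B ≤ L := sup_le sigmaCore_le hBL
  have hAn : A ≤ normalizer ((sigmaCore L ⊔ B : Subgroup G) : Set G) := TA.hAM.trans TB.c
  have hcop : Nat.Coprime (Nat.card (sigmaCore L ⊔ B : Subgroup G)) (Nat.card A) := by
    rw [TA.card]
    apply Nat.Coprime.pow_right
    have h1 := card_sup_mul_card_inf hBn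
    rw [sup_comm] at h1
    have h2 : Nat.Coprime (Nat.card (sigmaCore L)) p :=
      ((Nat.Prime.coprime_iff_not_dvd hp.out).mpr hpN).symm
    have h3 : Nat.Coprime (Nat.card B) p := by
      rw [hBc]
      exact Nat.Coprime.pow_left _ ((Nat.coprime_primes hq.out hp.out).mpr hpq.symm)
    have h4 : Nat.Coprime (Nat.card B * Nat.card (sigmaCore L)) p := Nat.Coprime.mul_left h3 h2
    rw [← h1] at h4
    exact Nat.Coprime.coprime_dvd_left (Nat.dvd_mul_right _ _) h4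
  obtain ⟨B₂, hB₂, hB₂A⟩ := exists_invariant_isSylowIn q (solvable_of_le_coatom hG hL hYL) hAn hcop
  obtain ⟨v, hv, hvB⟩ := hBsy.exists_conj hB₂
  have hB₂c : B₂ ≤ centralizer (A : Set G) :=
    TA.centralizes_inv hqL hpq.symm (hB₂.1.trans hYL) hB₂.2.1 hB₂A
  refine ⟨v⁻¹, ?_⟩
  -- `A ≤ C(B₂) = C(B^v)`
  have h1 : A ≤ centralizer (B₂ : Set G) := by
    rw [Subgroup.le_centralizer_iff]
    exact hB₂c
  rw [hvB, centralizer_cj'] at h1
  have h2 := cj_mono h1 v⁻¹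
  rwa [cj_cj_inv] at h2

/-- Steps (6b)-(10). -/
theorem no_comm (hG : IsMinSimpleOddOrder G) {M S Q A : Subgroup G} (hM : IsCoatom M) {p q : ℕ}
    [hp : Fact p.Prime] [hq : Fact q.Prime] (hpq : p ≠ q) (hpM : PRankLE p 1 M)
    (hqσ : q ∈ sigma M) (hQM : Q ≤ M) (hQq : IsPGroup q Q) (hQ1 : Q ≠ ⊥) (hQS : ⁅Q, S⁆ = Q)
    (hSp : IsPGroup p S) (hSN : S ≤ normalizer (Q : Set G))
    (hAe : IsElementaryAbelian p A) (hAc : Nat.card A = p ^ 2)
    (hQA : Q ≤ centralizer (A : Set G)) : False := by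
  classical
  have hNA : NA G := fun r _ P hP hPna => Cfsg.Agent.S1422.result hG r P hP hPna
  have hAQ : A ≤ centralizer (Q : Set G) := by
    rw [Subgroup.le_centralizer_iff]
    exact hQA
  by_cases hcyc : IsCyclic Q
  swap
  · exact not_le_of_rank_one hpM hAe hAc
      (hAQ.trans ((BGTrans.centralizer_le_normalizer Q).trans
        (normalizer_le_of_noncyclic hG hM hqσ hQq hcyc hQM)))
  obtain ⟨y, hy⟩ := exists_prime_orderOf_dvd_card' q (G := Q) (dvd_card_of_isPGroup hQq hQ1)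
  have hyo : orderOf (y : G) = q := by rw [Subgroup.orderOf_coe]; exact hy
  have hy1 : (y : G) ≠ 1 := by
    intro h
    rw [h, orderOf_one] at hyo
    exact hq.out.one_lt.ne hyo
  set X : Subgroup G := zpowers (y : G) with hX
  have hXc : Nat.card X = q := by rw [hX, Nat.card_zpowers, hyo]
  have hXq : IsPGroup q X := IsPGroup.of_card (n := 1) (by rw [hXc, pow_one])
  have hX1 : X ≠ ⊥ := by
    intro h
    rw [h, Subgroup.card_bot] at hXc
    exact hq.out.one_lt.ne hXc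
  have hXQ : X ≤ Q := zpowers_le.mpr y.2
  have hXexp : ∀ u ∈ X, u ^ q = 1 := by
    intro u hu
    obtain ⟨k, rfl⟩ := Subgroup.mem_zpowers_iff.mp hu
    rw [← zpow_natCast, ← zpow_mul, mul_comm, zpow_mul, zpow_natCast, ← hyo, pow_orderOf_eq_one, one_zpow]
  -- `S` normalizes `X`
  have hSX : S ≤ normalizer (X : Set G) := by
    intro s hs
    apply mem_normalizer_of_conj_mem
    intro u hu
    have h1 : s * u * s⁻¹ ∈ Q := (mem_normalizer_iff.mp (hSN hs) u).mp (hXQ hu)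
    have h2 : (s * u * s⁻¹) ^ q = 1 := by
      rw [conj_pow, hXexp u hu]; simp
    exact Cfsg.Agent.Lib.BGTau1.mem_zpowers_of_cyclic hcyc hq.out y.2 h1 hyo h2
  have hQCX : Q ≤ centralizer (X : Set G) :=
    BGSigma3.le_centralizer_of_comm hXQ (isMulCommutative_of_cyclic hcyc)
  have hACX : A ≤ centralizer (X : Set G) := by
    rw [Subgroup.le_centralizer_iff]
    exact hXQ.trans hQA
  have hCN : centralizer (X : Set G) ≤ normalizer (X : Set G) := BGTrans.centralizer_le_normalizer X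
  obtain ⟨L, hL, hNL⟩ := BGSigma2.exists_coatom_ge (IsMin.normalizer_ne_top hG hX1 (IsMin.isPGroup_ne_top hG hXq))
  have hAL : A ≤ L := hACX.trans (hCN.trans hNL)
  have hne : L ≠ M := by
    rintro rfl
    exact not_le_of_rank_one hpM hAe hAc hAL
  have hSL : S ≤ L := hSX.trans hNL
  have hQL : Q ≤ L := hQCX.trans (hCN.trans hNL)
  have hpL : p ∉ sigma L := not_sigma_of_comm hG hM hL hne hpq hqσ hQM hQq hQ1 hQS hSp hSL hQL
  have hpτ : p ∈ tau2 L :=
    ⟨hp.out, hpL, rank2_of_not_sigma hG hL hp.out hpL, not_rank_one_of_le hAe hAc hAL⟩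
  have TA : T2 L A p := T2.mk' hG hL hpτ hAL hAe hAc
  have hqL : q ∉ sigma L := by
    intro hqL
    have h1 : (y : G) ∈ sigmaCore L :=
      le_sigmaCore_of_pgroup hG hL hqL (hXQ.trans hQL) hXq (mem_zpowers (y : G))
    have h2 : (y : G) ∈ centralizer (A : Set G) := hQA y.2
    have h3 : (y : G) ∈ sigmaCore L ⊓ centralizer (A : Set G) := ⟨h1, h2⟩
    rw [TA.d] at h3
    exact hy1 h3
  obtain ⟨B₀, hB₀e, hB₀c, hXB₀⟩ := exists_ea2_of_normalizer hqL hXc hNL
  have hB₀C : B₀ ≤ centralizer (X : Set G) := BGSigma3.le_centralizer_of_comm hXB₀ hB₀e.1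
  have hB₀L : B₀ ≤ L := hB₀C.trans (hCN.trans hNL)
  obtain ⟨S₂, hS₂, hXS₂⟩ := exists_isSylowIn_ge q (le_inf (hXQ.trans hQM) (hXQ.trans hQL)) hXq
  obtain ⟨-, -, hS₂L⟩ := s1424_main hG hNA hM hqσ hXq hX1 (hXQ.trans hQM) hL hne hNL hS₂ hXS₂
  obtain ⟨S₃, hS₃, hB₀S₃⟩ := exists_isSylowIn_ge q hB₀L (isPGroup_of_ea hB₀e)
  obtain ⟨l, hl, hlS⟩ := hS₃.exists_conj hS₂L
  have hBM : cj B₀ l ≤ M := by
    refine (cj_mono hB₀S₃ l).trans ?_
    rw [← hlS]
    exact hS₂.1.trans inf_le_left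
  have hBL : cj B₀ l ≤ L := by
    refine (cj_mono hB₀S₃ l).trans ?_
    rw [← hlS]
    exact hS₂L.1
  have hBe : IsElementaryAbelian q (cj B₀ l) := Cfsg.Agent.S1422.ea_cj hB₀e l
  have hBc : Nat.card (cj B₀ l) = q ^ 2 := by rw [card_cj, hB₀c]
  have hCB : centralizer (cj B₀ l : Set G) ≤ M := BGP2F.cent_le hG hM hBM hBe hBc
  obtain ⟨v, hv⟩ := conj_into_cent hpq TA hqL hBL hBe hBc
  exact not_le_of_rank_one hpM (Cfsg.Agent.S1422.ea_cj hAe v) (by rw [card_cj, hAc]) (hv.trans hCB)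

theorem prankLE_one_of_cyclic {R : Type*} [Group R] [Finite R] [IsCyclic R] {p : ℕ} (hp : p.Prime) :
    PRankLE p 1 R := by
  intro A hAc hAe
  obtain ⟨g, hg⟩ := IsCyclic.exists_generator (α := A)
  have h1 : orderOf g = Nat.card A := orderOf_eq_card_of_forall_mem_zpowers hg
  have h2 : g ^ p = 1 := by
    ext
    simpa using hAe g g.2
  rw [← h1, pow_one]
  exact Nat.le_of_dvd hp.pos (orderOf_dvd_of_pow_eq_one h2)

/-- In a cyclic `p`-group `S`, a subgroup of order `p` is normalized by `N(S)`. -/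
theorem normalizer_le_of_cyclic {S P : Subgroup G} {p : ℕ} [hp : Fact p.Prime] (hcyc : IsCyclic S)
    (hPc : Nat.card P = p) (hPS : P ≤ S) : normalizer (S : Set G) ≤ normalizer (P : Set G) := by
  classical
  obtain ⟨x, hx⟩ := exists_prime_orderOf_dvd_card' p (G := P) (by rw [hPc])
  have hxo : orderOf (x : G) = p := by rw [Subgroup.orderOf_coe]; exact hx
  have hPz : P = zpowers (x : G) :=
    (Subgroup.eq_of_le_of_card_ge (zpowers_le.mpr x.2) (by rw [Nat.card_zpowers, hPc, hxo])).symm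
  have hexp : ∀ u ∈ P, u ^ p = 1 := by
    intro u hu
    have h1 : (⟨u, hu⟩ : P) ^ Nat.card P = 1 := pow_card_eq_one'
    rw [hPc] at h1
    simpa [Subtype.ext_iff] using h1
  intro g hg
  apply mem_normalizer_of_conj_mem
  intro u hu
  have h1 : g * u * g⁻¹ ∈ S := (mem_normalizer_iff.mp hg u).mp (hPS hu)
  have h2 : (g * u * g⁻¹) ^ p = 1 := by
    rw [conj_pow, hexp u hu]; simp
  have h3 := Cfsg.Agent.Lib.BGTau1.mem_zpowers_of_cyclic hcyc hp.out (hPS x.2) h1 hxo h2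
  rwa [← hPz] at h3

/-- The core of the cyclic Sylow case. -/
theorem no_comm_of_cyclic (hG : IsMinSimpleOddOrder G) {M S P Q : Subgroup G} (hM : IsCoatom M) {p q : ℕ}
    [hp : Fact p.Prime] [hq : Fact q.Prime] (hpσ : p ∉ sigma M) (hS : IsSylowIn p S M)
    (hScyc : IsCyclic S) (hPc : Nat.card P = p) (hPS : P ≤ S) (hqσ : q ∈ sigma M) (hQM : Q ≤ M)
    (hQq : IsPGroup q Q) (hQ1 : Q ≠ ⊥) (hQS : ⁅Q, S⁆ = Q) (hSN : S ≤ normalizer (Q : Set G))
    (hQP : Q ≤ centralizer (P : Set G)) : False := by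
  classical
  have hpq : p ≠ q := fun h => hpσ (h ▸ hqσ)
  have hSp : IsPGroup p S := hS.2.1
  have hpM : PRankLE p 1 M := by
    apply prankLE_of_isSylowIn hS
    haveI := hScyc
    exact prankLE_one_of_cyclic hp.out
  have hdM : p ∣ Nat.card M := by
    rw [← hPc]; exact Subgroup.card_dvd_of_le (hPS.trans hS.1)
  have hNS : ¬ normalizer (S : Set G) ≤ M := fun h => hpσ (mem_sigma_of hS hdM h)
  have hNP := normalizer_le_of_cyclic hScyc hPc hPS
  have hP1 : P ≠ ⊥ := by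
    intro h
    rw [h, Subgroup.card_bot] at hPc
    exact hp.out.one_lt.ne hPc
  have hPp : IsPGroup p P := IsPGroup.of_card (n := 1) (by rw [hPc, pow_one])
  obtain ⟨H, hH, hPH⟩ := BGSigma2.exists_coatom_ge (IsMin.normalizer_ne_top hG hP1 (IsMin.isPGroup_ne_top hG hPp))
  have hne : H ≠ M := by
    rintro rfl
    exact hNS (hNP.trans hPH)
  have hCH : centralizer (P : Set G) ≤ H := (BGTrans.centralizer_le_normalizer P).trans hPH
  have hSC : S ≤ centralizer (P : Set G) :=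
    BGSigma3.le_centralizer_of_comm hPS (isMulCommutative_of_cyclic hScyc)
  have hSH : S ≤ H := hSC.trans hCH
  have hQH : Q ≤ H := hQP.trans hCH
  have hpH : p ∉ sigma H := not_sigma_of_comm hG hM hH hne hpq hqσ hQM hQq hQ1 hQS hSp hSH hQH
  have hτ : p ∈ tau2 H := tau2_of_not_sigma hG hH hpH hPc ((hPS.trans hSH)) hPH
  obtain ⟨A, hAH, hAe, hAc⟩ := exists_ea2 hτ.2.2.2
  have T : T2 H A p := T2.mk' hG hH hτ hAH hAe hAc
  have hqH : q ∉ sigma H := not_sigma_of_T2 T hM hqσ hpM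
  have hQcore := le_coreOf_of_comm hG hH.1 hpq hSH hQH hSp hQq hQS
  obtain ⟨v, hv, hQv⟩ := exists_conj_cent T hqH hQcore hQq
  exact no_comm hG hM hpq hpM hqσ hQM hQq hQ1 hQS hSp hSN (Cfsg.Agent.S1422.ea_cj hAe v)
    (by rw [card_cj, hAc]) hQv

end Cfsg.Agent.Lib.BGP3E
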