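import Mathlib
import Cfsg.Agent.Lib.BGP2E
import Cfsg.Agent.Lib.BGTau7
import Cfsg.Agent.Lib.BGP3E
import Cfsg.Agent.Lib.BGM2
import Cfsg.Agent.Lib.OddOrderCore

/-!
# Bender-Glauberman section 14, preliminaries: conjugation invariance, hypotheses package.
-/

set_option autoImplicit false
set_option linter.unusedSectionVars false
set_option linter.unusedVariables false
set_option linter.style.haveILetI false
set_option linter.unusedSimpArgs false

namespace Cfsg.Agent.Lib.BGZ1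

open Cfsg Subgroup Cfsg.Agent.Lib.CoprimeInv Cfsg.Agent.Lib.BGTrans Cfsg.Agent.Lib.BGM1
  Cfsg.Agent.Lib.BGSigma2

universe u

variable {G : Type u} [Group G] [Finite G]

/-! ## Elementary lemmas -/

theorem pow_parts {a t : G} (hc : a * t = t * a) (hcop : (orderOf a).Coprime (orderOf t)) :
    (∃ n : ℕ, (a * t) ^ n = a) ∧ (∃ m : ℕ, (a * t) ^ m = t) := by
  have hC : Commute a t := hc
  constructor
  · let n := Nat.chineseRemainder hcop 1 0
    refine ⟨n, ?_⟩
    rw [hC.mul_pow]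
    have h1 : a ^ (n : ℕ) = a ^ 1 := pow_eq_pow_iff_modEq.mpr n.2.1
    have h2 : t ^ (n : ℕ) = t ^ 0 := pow_eq_pow_iff_modEq.mpr n.2.2
    rw [h1, h2]; simp
  · let n := Nat.chineseRemainder hcop 0 1
    refine ⟨n, ?_⟩
    rw [hC.mul_pow]
    have h1 : a ^ (n : ℕ) = a ^ 0 := pow_eq_pow_iff_modEq.mpr n.2.1
    have h2 : t ^ (n : ℕ) = t ^ 1 := pow_eq_pow_iff_modEq.mpr n.2.2
    rw [h1, h2]; simp

theorem exists_prime_le {H : Subgroup G} (h : H ≠ ⊥) : ∃ X : Subgroup G, X ≤ H ∧ (Nat.card X).Prime := by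
  obtain ⟨x, hx, hx1⟩ := exists_mem_ne_one h
  obtain ⟨p, hp, k, hk⟩ := Nat.exists_prime_and_dvd (show orderOf x ≠ 1 by simpa using hx1)
  have hxpos : 0 < orderOf x := orderOf_pos x
  have hk0 : k ≠ 0 := by rintro rfl; rw [mul_zero] at hk; omega
  refine ⟨zpowers (x ^ k), ?_, ?_⟩
  · rw [zpowers_le]; exact H.pow_mem hx k
  · rw [Nat.card_zpowers]
    have : orderOf (x ^ k) = p := by
      rw [orderOf_pow' x hk0, hk, Nat.gcd_eq_right (Dvd.intro_left _ rfl)]
      exact Nat.mul_div_cancel p (Nat.pos_of_ne_zero hk0)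
    rwa [this]

/-- A subgroup of prime order is generated by any non-identity element. -/
theorem exists_gen {X : Subgroup G} (hX : (Nat.card X).Prime) :
    ∃ x ∈ X, x ≠ 1 ∧ X = zpowers x ∧ orderOf x = Nat.card X := by
  haveI : Fact (Nat.card X).Prime := ⟨hX⟩
  haveI : IsCyclic X := isCyclic_of_prime_card rfl
  obtain ⟨g, hg⟩ := IsCyclic.exists_generator (α := X)
  have h1 : orderOf g = Nat.card X := orderOf_eq_card_of_forall_mem_zpowers hg
  have h2 : orderOf (g : G) = Nat.card X := by rw [← h1]; simp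
  refine ⟨g, g.2, ?_, ?_, h2⟩
  · intro h
    rw [h, orderOf_one] at h2
    exact hX.ne_one h2.symm
  · apply le_antisymm
    · intro x hx
      obtain ⟨k, hk⟩ := mem_zpowers_iff.mp (hg ⟨x, hx⟩)
      exact mem_zpowers_iff.mpr ⟨k, by simpa using congrArg Subtype.val hk⟩
    · rw [zpowers_le]; exact g.2

theorem eq_zpowers_of_prime {X : Subgroup G} (hX : (Nat.card X).Prime) {x : G} (hx : x ∈ X) (hx1 : x ≠ 1) :
    X = zpowers x := by
  have h1 : zpowers x ≤ X := by rw [zpowers_le]; exact hx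
  have hd : Nat.card (zpowers x) ∣ Nat.card X := Subgroup.card_dvd_of_le h1
  rcases (Nat.dvd_prime hX).mp hd with h | h
  · exfalso
    rw [Nat.card_zpowers, orderOf_eq_one_iff] at h
    exact hx1 h
  · exact (Subgroup.eq_of_le_of_card_ge h1 h.ge).symm

theorem centralizer_zpowers (x : G) :
    centralizer ((zpowers x : Subgroup G) : Set G) = centralizer ({x} : Set G) := by
  ext y
  rw [mem_centralizer_singleton_iff, mem_centralizer_iff]
  constructor
  · intro h
    exact (h x (mem_zpowers x)).symm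
  · intro h z hz
    obtain ⟨k, rfl⟩ := mem_zpowers_iff.mp hz
    exact ((Commute.zpow_left (show Commute x y from h.symm) k).eq)

theorem cent_le_norm (X : Subgroup G) : centralizer (X : Set G) ≤ normalizer (X : Set G) :=
  Cfsg.Agent.Lib.BGTrans.centralizer_le_normalizer X

/-- Every prime dividing the order is realized by a subgroup of that order. -/
theorem exists_prime_sub {H : Subgroup G} {p : ℕ} (hp : p.Prime) (hd : p ∣ Nat.card H) :
    ∃ X : Subgroup G, X ≤ H ∧ Nat.card X = p := by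
  haveI : Fact p.Prime := ⟨hp⟩
  obtain ⟨x, hx⟩ := exists_prime_orderOf_dvd_card' p hd
  refine ⟨zpowers (x : G), ?_, ?_⟩
  · rw [zpowers_le]; exact x.2
  · rw [Nat.card_zpowers]; simpa using hx

/-- A subgroup `D` of `H`, all of whose primes are in `π`, over a Hall `π`-subgroup `A` of `H`. -/
theorem hall_eq_of_le {π : Set ℕ} {A D H : Subgroup G} (hA : IsPiHallOf π A H) (hAD : A ≤ D) (hDH : D ≤ H)
    (hD : ∀ p : ℕ, p.Prime → p ∣ Nat.card D → p ∈ π) : D = A := by
  by_contra hne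
  have hi : A.relIndex D ≠ 1 := by
    intro h
    rw [Subgroup.relIndex_eq_one] at h
    exact hne (le_antisymm h hAD)
  obtain ⟨p, hp, hd⟩ := Nat.exists_prime_and_dvd hi
  have h1 : A.relIndex D * D.relIndex H = A.relIndex H := Subgroup.relIndex_mul_relIndex A D H hAD hDH
  have h2 : p ∣ Nat.card D := hd.trans (Subgroup.relIndex_dvd_card A D)
  exact hA.2.2 p hp (hD p hp h2) (by rw [← h1]; exact dvd_mul_of_dvd_left hd _)

/-- Primes of a join, one factor normalizing the other. -/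
theorem primes_sup {A B : Subgroup G} (h : A ≤ normalizer (B : Set G)) {π : Set ℕ}
    (hA : ∀ p : ℕ, p.Prime → p ∣ Nat.card A → p ∈ π) (hB : ∀ p : ℕ, p.Prime → p ∣ Nat.card B → p ∈ π) :
    ∀ p : ℕ, p.Prime → p ∣ Nat.card ↥(A ⊔ B) → p ∈ π := by
  intro p hp hd
  have h1 := card_sup_mul_card_inf h
  have h2 : p ∣ Nat.card A * Nat.card B := by
    rw [← h1]; exact dvd_mul_of_dvd_left hd _
  rcases (Nat.Prime.dvd_mul hp).mp h2 with h3 | h3
  · exact hA p hp h3
  · exact hB p hp h3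

/-- Primes to coprimality. -/
theorem coprime_of_primes {A B : Subgroup G} {π : Set ℕ}
    (hA : ∀ p : ℕ, p.Prime → p ∣ Nat.card A → p ∈ π) (hB : ∀ p : ℕ, p.Prime → p ∣ Nat.card B → p ∉ π) :
    (Nat.card A).Coprime (Nat.card B) :=
  Nat.coprime_of_dvd fun k hk h1 h2 => hB k hk h2 (hA k hk h1)

/-! ## Conjugation invariance -/

theorem piCoreOf_cj_le (π : Set ℕ) (X : Subgroup G) (g : G) :
    cj (piCoreOf π X) g ≤ piCoreOf π (cj X g) := by
  apply le_piCoreOf (cj_mono (piCoreOf_le π X) g)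
  · exact normalizer_cj_of_le (le_normalizer_piCoreOf π X)
  · intro p hp hd
    rw [card_cj] at hd
    exact piCoreOf_primes π X p hp hd

theorem piCoreOf_cj (π : Set ℕ) (X : Subgroup G) (g : G) :
    piCoreOf π (cj X g) = cj (piCoreOf π X) g := by
  apply le_antisymm _ (piCoreOf_cj_le π X g)
  have h := piCoreOf_cj_le π (cj X g) g⁻¹
  rw [cj_cj_inv] at h
  have h2 := cj_mono h g
  rwa [cj_inv_cj] at h2

theorem sigma_cj_eq (H : Subgroup G) (g : G) : sigma (cj H g) = sigma H := by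
  ext q
  constructor
  · intro h
    haveI : Fact q.Prime := ⟨h.1⟩
    have := Cfsg.Agent.Lib.BGP2E.sigma_cj h g⁻¹
    rwa [cj_cj_inv] at this
  · intro h
    haveI : Fact q.Prime := ⟨h.1⟩
    exact Cfsg.Agent.Lib.BGP2E.sigma_cj h g

theorem sigmaCore_cj (H : Subgroup G) (g : G) : sigmaCore (cj H g) = cj (sigmaCore H) g := by
  show piCoreOf (sigma (cj H g)) (cj H g) = cj (piCoreOf (sigma H) H) g
  rw [sigma_cj_eq, piCoreOf_cj]

theorem mem_kappa_iff {M : Subgroup G} {p : ℕ} :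
    p ∈ kappa M ↔ p.Prime ∧ p ∣ Nat.card M ∧ p ∉ sigma M ∧ ∀ S : Subgroup G, IsSylowIn p S M →
      IsCyclic S ∧ ∃ x ∈ S, x ≠ 1 ∧ ∃ y ∈ sigmaCore M, y ≠ 1 ∧ x * y = y * x := by
  constructor
  · rintro ⟨hp, hd, hs, h⟩
    refine ⟨hp, hd, hs, fun S hS => ?_⟩
    obtain ⟨h1, x, hx, hx1, y, hy, hy1, hxy⟩ := h hS.toSylow
    refine ⟨?_, x, hx, ?_, y, hy, hy1, hxy⟩
    · haveI h1' : IsCyclic ↥(S.subgroupOf M) := h1
      exact isCyclic_of_surjective (Subgroup.subgroupOfEquivOfLe hS.1).toMonoidHom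
        (Subgroup.subgroupOfEquivOfLe hS.1).surjective
    · simpa using hx1
  · rintro ⟨hp, hd, hs, h⟩
    refine ⟨hp, hd, hs, fun P => ?_⟩
    obtain ⟨h1, x, hx, hx1, y, hy, hy1, hxy⟩ := h _ (isSylowIn_map P)
    obtain ⟨x₀, hx₀, rfl⟩ := hx
    refine ⟨?_, x₀, hx₀, ?_, y, hy, hy1, hxy⟩
    · exact isCyclic_of_surjective
        (Subgroup.equivMapOfInjective (P : Subgroup M) M.subtype M.subtype_injective).symm.toMonoidHom
        (Subgroup.equivMapOfInjective (P : Subgroup M) M.subtype M.subtype_injective).symm.surjective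
    · simpa using hx1

theorem kappa_cj_le {M : Subgroup G} {p : ℕ} (g : G) (h : p ∈ kappa M) : p ∈ kappa (cj M g) := by
  rw [mem_kappa_iff] at h ⊢
  obtain ⟨hp, hd, hs, h⟩ := h
  refine ⟨hp, by rwa [card_cj], by rwa [sigma_cj_eq], fun S hS => ?_⟩
  have h0 : IsSylowIn p (cj S g⁻¹) M := by
    have := Cfsg.Agent.Lib.BGFus.isSylowIn_cj hS g⁻¹
    rwa [cj_cj_inv] at this
  obtain ⟨h1, x, hx, hx1, y, hy, hy1, hxy⟩ := h _ h0
  refine ⟨?_, g * x * g⁻¹, ?_, ?_, g * y * g⁻¹, ?_, ?_, ?_⟩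
  · exact isCyclic_of_surjective
      (Subgroup.equivMapOfInjective S (MulAut.conj g⁻¹).toMonoidHom (MulAut.conj g⁻¹).injective).symm.toMonoidHom
      (Subgroup.equivMapOfInjective S (MulAut.conj g⁻¹).toMonoidHom (MulAut.conj g⁻¹).injective).symm.surjective
  · rw [mem_cj] at hx
    simpa [mul_assoc] using hx
  · intro h2
    apply hx1
    have : x = g⁻¹ * (g * x * g⁻¹) * g := by group
    rw [this, h2]; group
  · rw [sigmaCore_cj]
    exact conj_mem_cj hy
  · intro h2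
    apply hy1
    have : y = g⁻¹ * (g * y * g⁻¹) * g := by group
    rw [this, h2]; group
  · calc g * x * g⁻¹ * (g * y * g⁻¹) = g * (x * y) * g⁻¹ := by group
      _ = g * (y * x) * g⁻¹ := by rw [hxy]
      _ = _ := by group

theorem kappa_cj_eq (M : Subgroup G) (g : G) : kappa (cj M g) = kappa M := by
  ext p
  constructor
  · intro h
    have := kappa_cj_le g⁻¹ h
    rwa [cj_cj_inv] at this
  · exact kappa_cj_le g

theorem isPiHallOf_cj {π : Set ℕ} {K M : Subgroup G} (h : IsPiHallOf π K M) (g : G) :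
    IsPiHallOf π (cj K g) (cj M g) := by
  obtain ⟨h1, h2, h3⟩ := h
  refine ⟨cj_mono h1 g, ?_, ?_⟩
  · intro p hp hd
    rw [card_cj] at hd
    exact h2 p hp hd
  · intro p hp hπ
    rw [Subgroup.relIndex_map_map_of_injective _ _ (MulAut.conj g).injective]
    exact h3 p hp hπ

theorem centralizer_cj_eq (K : Subgroup G) (g : G) :
    centralizer ((cj K g : Subgroup G) : Set G) = cj (centralizer (K : Set G)) g := by
  ext y
  rw [mem_cj, mem_centralizer_iff, mem_centralizer_iff]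
  constructor
  · intro h k hk
    have h1 := h (g * k * g⁻¹) (conj_mem_cj hk)
    calc k * (g⁻¹ * y * g) = g⁻¹ * ((g * k * g⁻¹) * y) * g := by group
      _ = g⁻¹ * (y * (g * k * g⁻¹)) * g := by rw [h1]
      _ = _ := by group
  · intro h k hk
    have hk' : k ∈ cj K g := hk
    rw [mem_cj] at hk'
    have h1 := h _ hk'
    calc k * y = g * ((g⁻¹ * k * g) * (g⁻¹ * y * g)) * g⁻¹ := by group
      _ = g * ((g⁻¹ * y * g) * (g⁻¹ * k * g)) * g⁻¹ := by rw [h1]
      _ = _ := by group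

theorem cj_sup (A B : Subgroup G) (g : G) : cj (A ⊔ B) g = cj A g ⊔ cj B g :=
  Subgroup.map_sup _ _ _

/-! ## Counting -/

/-- Pairwise disjoint subsets. -/
theorem sum_ncard_eq {ι : Type*} (s : Finset ι) (t : ι → Set G)
    (hd : ∀ i ∈ s, ∀ j ∈ s, i ≠ j → Disjoint (t i) (t j)) :
    ∑ i ∈ s, (t i).ncard = (⋃ i ∈ s, t i).ncard := by
  classical
  induction s using Finset.induction_on with
  | empty => simp
  | insert a s ha ih =>
    rw [Finset.sum_insert ha, ih (fun i hi j hj => hd i (Finset.mem_insert_of_mem hi) j (Finset.mem_insert_of_mem hj))]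
    rw [Finset.set_biUnion_insert]
    rw [Set.ncard_union_eq _ (Set.toFinite _) (Set.toFinite _)]
    rw [Set.disjoint_left]
    intro x hx hx2
    simp only [Set.mem_iUnion, exists_prop] at hx2
    obtain ⟨j, hj, hxj⟩ := hx2
    exact Set.disjoint_left.mp (hd a (Finset.mem_insert_self a s) j (Finset.mem_insert_of_mem hj)
      (by rintro rfl; exact ha hj)) hx hxj

/-- Counting a TI-set: the conjugates of `X` are in bijection with pairs modulo `Z`. -/
theorem card_conj_union (Z : Subgroup G) (X : Set G)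
    (hinv : ∀ z ∈ Z, ∀ x ∈ X, z * x * z⁻¹ ∈ X)
    (hTI : ∀ x ∈ X, ∀ g : G, g * x * g⁻¹ ∈ X → g ∈ Z) :
    Set.ncard {a : G | ∃ g : G, ∃ z ∈ X, a = g * z * g⁻¹} * Nat.card Z = Nat.card G * X.ncard := by
  classical
  haveI := Fintype.ofFinite G
  haveI : Fintype X := Fintype.ofFinite X
  haveI : Fintype Z := Fintype.ofFinite Z
  set C : Set G := {a : G | ∃ g : G, ∃ z ∈ X, a = g * z * g⁻¹} with hC
  haveI : Fintype C := Fintype.ofFinite C
  let f : G × X → G := fun p => p.1 * (p.2 : G) * p.1⁻¹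
  have hcount : Fintype.card (G × X) = ∑ a ∈ C.toFinset, (Finset.univ.filter (fun p : G × X => f p = a)).card := by
    rw [← Finset.card_univ]
    apply Finset.card_eq_sum_card_fiberwise
    intro p _
    simp only [Set.coe_toFinset, hC, Set.mem_setOf_eq]
    exact ⟨p.1, p.2, p.2.2, rfl⟩
  have hfib : ∀ a ∈ C.toFinset, (Finset.univ.filter (fun p : G × X => f p = a)).card = Fintype.card Z := by
    intro a ha
    simp only [Set.mem_toFinset, hC, Set.mem_setOf_eq] at ha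
    obtain ⟨g₀, x₀, hx₀, rfl⟩ := ha
    have hmem : ∀ z : Z, (z : G)⁻¹ * x₀ * z ∈ X := by
      intro z
      have := hinv (z : G)⁻¹ (Z.inv_mem z.2) x₀ hx₀
      simpa using this
    symm
    rw [← Finset.card_univ]
    apply Finset.card_bij (fun (z : Z) _ => ((g₀ * z, ⟨(z : G)⁻¹ * x₀ * z, hmem z⟩) : G × X))
    · intro z _
      simp only [Finset.mem_filter, Finset.mem_univ, true_and, f]
      group
    · intro z _ z' _ h
      have := congrArg Prod.fst h
      simp only at this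
      exact Subtype.ext (mul_left_cancel this)
    · rintro ⟨g, x⟩ hp
      simp only [Finset.mem_filter, Finset.mem_univ, true_and, f] at hp
      have hz : g₀⁻¹ * g ∈ Z := by
        apply hTI x x.2
        have : g₀⁻¹ * g * x * (g₀⁻¹ * g)⁻¹ = x₀ := by
          calc g₀⁻¹ * g * x * (g₀⁻¹ * g)⁻¹ = g₀⁻¹ * (g * x * g⁻¹) * g₀ := by group
            _ = g₀⁻¹ * (g₀ * x₀ * g₀⁻¹) * g₀ := by rw [hp]
            _ = x₀ := by group
        rw [this]; exact hx₀
      refine ⟨⟨_, hz⟩, Finset.mem_univ _, ?_⟩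
      ext
      · simp
      · simp only
        calc (g₀⁻¹ * g)⁻¹ * x₀ * (g₀⁻¹ * g) = g⁻¹ * (g₀ * x₀ * g₀⁻¹) * g := by group
          _ = g⁻¹ * (g * x * g⁻¹) * g := by rw [hp]
          _ = x := by group
  rw [Finset.sum_const_nat hfib, Fintype.card_prod] at hcount
  rw [Nat.card_eq_fintype_card (α := G), Nat.card_eq_fintype_card (α := Z)]
  rw [Set.ncard_eq_toFinset_card', Set.ncard_eq_toFinset_card']
  rw [Set.toFinset_card] at hcount ⊢
  simp only [Set.toFinset_card]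
  exact hcount.symm

/-! ## The inputs -/

/-- The statements of Bender-Glauberman section 14 used below, as hypotheses. -/
structure Inp (G : Type u) [Group G] [Finite G] : Prop where
  hG : IsMinSimpleOddOrder G
  s30 : ∀ (M : Subgroup G), IsCoatom M → ∀ K : Subgroup G, IsPiHallOf (kappa M) K M → K ≠ ⊥ →
    (∀ k ∈ K, k ≠ 1 → sigmaCore M ⊓ centralizer ({k} : Set G) = (sigmaCore M ⊓ centralizer (K : Set G))) ∧
      (∃ U : Subgroup G, IsMulCommutative U ∧ IsPiHallOf {q | q.Prime ∧ q ∉ kappa M ∧ q ∉ sigma M} U M ∧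
        K ≤ normalizer (U : Set G) ∧ ∀ k ∈ K, k ≠ 1 → U ⊓ centralizer ({k} : Set G) = ⊥) ∧
      ∀ X : Subgroup G, X ≤ K → (Nat.card X).Prime →
        M ⊓ normalizer (X : Set G) = K ⊔ (sigmaCore M ⊓ centralizer (K : Set G)) ∧
        M ⊓ normalizer (K : Set G) = K ⊔ (sigmaCore M ⊓ centralizer (K : Set G)) ∧
        ∀ Mstar : Subgroup G, IsCoatom Mstar → normalizer (X : Set G) ≤ Mstar → X ≤ sigmaCore Mstar
  s31 : ∀ (M : Subgroup G), IsCoatom M → ∀ K : Subgroup G, IsPiHallOf (kappa M) K M → K ≠ ⊥ →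
    (∀ g : G, g ∉ M → (sigmaCore M ⊓ centralizer (K : Set G)) ⊓ M.map (MulAut.conj g).toMonoidHom = ⊥) ∧
      (∀ g ∈ M, g ∉ K ⊔ (sigmaCore M ⊓ centralizer (K : Set G)) → K ⊓ K.map (MulAut.conj g).toMonoidHom = ⊥) ∧
      (∀ (p : ℕ), p.Prime → p ∣ Nat.card ↥(sigmaCore M ⊓ centralizer (K : Set G)) →
        ∀ S : Sylow p ↥(sigmaCore M),
        InUniqueMaximal ((S : Subgroup ↥(sigmaCore M)).map (sigmaCore M).subtype) ∧
        (S : Subgroup ↥(sigmaCore M)).map (sigmaCore M).subtype ≤ M ∧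
        ¬ (S : Subgroup ↥(sigmaCore M)).map (sigmaCore M).subtype ≤ (sigmaCore M ⊓ centralizer (K : Set G))) ∧
      ∀ Y : Subgroup G, (∀ p : ℕ, p.Prime → p ∣ Nat.card Y → p ∈ sigma M) →
        Y ⊓ (sigmaCore M ⊓ centralizer (K : Set G)) ≠ ⊥ → Y ≤ sigmaCore M
  s32 : ∀ (M : Subgroup G), IsCoatom M → ∀ x ∈ sigmaCore M, x ≠ 1 →
    ∀ x' ∈ M ⊓ centralizer ({x} : Set G), x' ≠ 1 →
    (∀ p : ℕ, p.Prime → p ∣ orderOf x' → p ∉ sigma M) →
    ((∀ p : ℕ, p.Prime → p ∣ orderOf x' → p ∈ kappa M) ∧ centralizer ({x} : Set G) ≤ M) ∨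
      ((∀ p : ℕ, p.Prime → p ∣ orderOf x' → p ∈ tau2 M) ∧
        (∃ L : Subgroup G, IsCoatom L ∧ ∀ p : ℕ, p.Prime → p ∣ orderOf x' → p ∈ sigma L) ∧
        (centralizer ({x'} : Set G) ≤ M ∧ ∀ L : Subgroup G, IsCoatom L → centralizer ({x'} : Set G) ≤ L → L = M))
  thmD : ∀ M N : Subgroup G, IsCoatom M → IsCoatom N → (sigma M ∩ sigma N).Nonempty →
    ∃ g : G, N = M.map (MulAut.conj g).toMonoidHom
  s33 : ∀ M N : Subgroup G, IsCoatom M → IsCoatom N → ∀ x y : G, x ∈ sigmaCore M → y ∈ sigmaCore N →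
    x ≠ 1 → y ≠ 1 → x ≠ y → ∀ r ∈ supportR M x, ∀ s ∈ supportR N y, x * r ≠ y * s
  s74 : ∀ M : Subgroup G, IsCoatom M → ∀ x ∈ sigmaCore M, x ≠ 1 →
    (Nat.card ↥(M ⊓ centralizer ({x} : Set G))).Coprime
        ((M ⊓ centralizer ({x} : Set G)).relIndex (centralizer ({x} : Set G))) ∧
      ∃ R : Subgroup G, centralizer ({x} : Set G) ≤ normalizer (R : Set G) ∧
        IsComplIn (M ⊓ centralizer ({x} : Set G)) R (centralizer ({x} : Set G)) ∧
        ∀ g : G, x ∈ M.map (MulAut.conj g).toMonoidHom →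
          ∃! r : G, r ∈ R ∧ M.map (MulAut.conj r).toMonoidHom = M.map (MulAut.conj g).toMonoidHom
  s75 : ∀ M : Subgroup G, IsCoatom M → ∀ x ∈ sigmaCore M, x ≠ 1 → ¬ centralizer ({x} : Set G) ≤ M →
    ∃ N : Subgroup G, (IsCoatom N ∧ centralizer ({x} : Set G) ≤ N) ∧
      (∀ L : Subgroup G, IsCoatom L → centralizer ({x} : Set G) ≤ L → L = N) ∧
        sigmaCore N = fittingHallOf N ∧
        centralizer ({x} : Set G) ≤ normalizer ((sigmaCore N ⊓ centralizer ({x} : Set G) : Subgroup G) : Set G) ∧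
        IsComplIn (M ⊓ centralizer ({x} : Set G)) (sigmaCore N ⊓ centralizer ({x} : Set G)) (centralizer ({x} : Set G)) ∧
        IsComplIn (M ⊓ N) (sigmaCore N) N ∧
        ∀ K' U' : Subgroup G, IsSigmaDecomposition N K' U' → U' ≠ ⊥ ∧ x ∈ sigmaA N U' ∧ x ∉ sigmaCore N

end Cfsg.Agent.Lib.BGZ1
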