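import Mathlib
import Cfsg.Agent.Lib.BGZ1

/-!
# Bender-Glauberman section 14: the pair `(M, K)`, the partner step.
-/

set_option autoImplicit false
set_option linter.unusedSectionVars false
set_option linter.unusedVariables false
set_option linter.style.haveILetI false
set_option linter.unusedSimpArgs false

namespace Cfsg.Agent.Lib.BGZ2

open Cfsg Subgroup Cfsg.Agent.Lib.CoprimeInv Cfsg.Agent.Lib.BGTrans Cfsg.Agent.Lib.BGM1
  Cfsg.Agent.Lib.BGSigma2 Cfsg.Agent.Lib.BGM2 Cfsg.Agent.Lib.BGZ1 Cfsg.Agent.Lib.OddOrderCore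

open scoped Pointwise

universe u

variable {G : Type u} [Group G] [Finite G]

/-- `K* = M_σ ∩ C_G(K)`. -/
abbrev kst (M K : Subgroup G) : Subgroup G := sigmaCore M ⊓ centralizer (K : Set G)

/-- `Z = K K*`. -/
abbrev zz (M K : Subgroup G) : Subgroup G := K ⊔ kst M K

theorem kappa_not_tau2 {M : Subgroup G} {p : ℕ} (h : p ∈ kappa M) : p ∉ tau2 M := by
  intro h2
  obtain ⟨hp, hd, hs, hk⟩ := mem_kappa_iff.mp h
  haveI : Fact p.Prime := ⟨hp⟩
  obtain ⟨S, hS⟩ := exists_isSylowIn p M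
  obtain ⟨hc, -⟩ := hk S hS
  exact h2.2.2.2 (Cfsg.Agent.Lib.BGSigma.prankLE_of_isSylowIn hS
    (Cfsg.Agent.Lib.BGP3E.prankLE_one_of_cyclic hp))

theorem exists_hall_ge {π : Set ℕ} {L Y : Subgroup G} (hs : Group.IsSolvable L) (hY : Y ≤ L)
    (hp : ∀ r : ℕ, r.Prime → r ∣ Nat.card Y → r ∈ π) : ∃ D : Subgroup G, Y ≤ D ∧ IsPiHallOf π D L := by
  classical
  obtain ⟨H₀, h1, h2⟩ := Cfsg.Agent.Lib.HallExist.exists_hall (· ∈ π) ↥L
  have hcard : Nat.card L = Nat.card H₀ * H₀.index := (Subgroup.card_mul_index H₀).symm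
  have hcop : (Nat.card H₀).Coprime H₀.index := by
    apply Nat.coprime_of_dvd
    intro k hk hk1 hk2
    exact h2 k hk hk2 (h1 k hk hk1)
  have hDc : Nat.card (Y.subgroupOf L) = Nat.card Y := card_subgroupOf_of_le hY
  have hcopD : (Nat.card (Y.subgroupOf L)).Coprime H₀.index := by
    rw [hDc]
    apply Nat.coprime_of_dvd
    intro k hk hk1 hk2
    exact h2 k hk hk2 (hp k hk hk1)
  obtain ⟨g, hg⟩ := (Cfsg.Agent.Lib.Hall.hall_main _ ↥L _ _ rfl hcard hcop).2 H₀ (Y.subgroupOf L) rfl hcopD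
  set D₂ : Subgroup G := (MulAut.conj g • H₀).map L.subtype with hD₂
  have hcD₂ : Nat.card D₂ = Nat.card H₀ := by
    rw [hD₂, Subgroup.card_map_of_injective L.subtype_injective]
    exact Nat.card_congr (Subgroup.equivSMul (MulAut.conj g) H₀).symm.toEquiv
  refine ⟨D₂, ?_, Subgroup.map_subtype_le _, ?_, ?_⟩
  · intro x hx
    have : (⟨x, hY hx⟩ : L) ∈ Y.subgroupOf L := by
      rw [Subgroup.mem_subgroupOf]; exact hx
    exact Subgroup.mem_map.mpr ⟨⟨x, hY hx⟩, hg this, rfl⟩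
  · intro k hk hd
    rw [hcD₂] at hd
    exact h1 k hk hd
  · intro r hr hrπ
    have h3 : D₂.relIndex L = H₀.index := by
      have hD2L : D₂ ≤ L := Subgroup.map_subtype_le _
      have h4 : Nat.card D₂ * D₂.relIndex L = Nat.card L := by
        have := Subgroup.card_mul_index (D₂.subgroupOf L)
        rwa [card_subgroupOf_of_le hD2L] at this
      rw [hcD₂, hcard] at h4
      exact Nat.eq_of_mul_eq_mul_left Nat.card_pos h4
    rw [h3]
    exact fun hd => h2 r hr hd hrπ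

/-- The pair `(M, K)`: `K ≠ 1` a Hall `κ(M)`-subgroup of the maximal subgroup `M`. -/
structure Good (M K : Subgroup G) : Prop where
  hM : IsCoatom M
  hall : IsPiHallOf (kappa M) K M
  ne : K ≠ ⊥

namespace Good

variable {M K : Subgroup G} (h : Good M K)
include h

theorem le : K ≤ M := h.hall.1

theorem primes_kappa : ∀ p : ℕ, p.Prime → p ∣ Nat.card K → p ∈ kappa M := h.hall.2.1

theorem not_sigma : ∀ p : ℕ, p.Prime → p ∣ Nat.card K → p ∉ sigma M :=
  fun p hp hd => (h.primes_kappa p hp hd).2.2.1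

theorem coprime_core : (Nat.card K).Coprime (Nat.card (sigmaCore M)) :=
  Nat.coprime_of_dvd fun k hk h1 h2 => h.not_sigma k hk h1 (primes_sigmaCore k hk h2)

theorem inf_core : K ⊓ sigmaCore M = ⊥ := inf_eq_bot_of_coprime' h.coprime_core

theorem kst_le_core : kst M K ≤ sigmaCore M := inf_le_left

theorem coprime : (Nat.card K).Coprime (Nat.card (kst M K)) :=
  Nat.Coprime.coprime_dvd_right (Subgroup.card_dvd_of_le inf_le_left) h.coprime_core

theorem inf_kst : K ⊓ kst M K = ⊥ := inf_eq_bot_of_coprime' h.coprime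

theorem comm {a t : G} (ha : a ∈ K) (ht : t ∈ kst M K) : a * t = t * a :=
  (mem_centralizer_iff.mp ht.2 a ha)

theorem kst_le : kst M K ≤ M := inf_le_left.trans sigmaCore_le

theorem zz_le : zz M K ≤ M := sup_le h.le h.kst_le

theorem mem_zz {z : G} (hz : z ∈ zz M K) : ∃ a ∈ K, ∃ t ∈ kst M K, z = a * t :=
  mem_sup_of_commute (fun a ha t ht => h.comm ha ht) hz

theorem le_cent : K ≤ centralizer (kst M K : Set G) := by
  intro a ha
  rw [mem_centralizer_iff]
  intro t ht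
  exact (h.comm ha ht).symm

theorem le_cent' : kst M K ≤ centralizer (K : Set G) := inf_le_right

theorem le_norm_kst : K ≤ normalizer (kst M K : Set G) :=
  h.le_cent.trans (cent_le_norm _)

theorem card_zz : Nat.card (zz M K) = Nat.card K * Nat.card (kst M K) := by
  have h1 := card_sup_mul_card_inf h.le_norm_kst
  rw [h.inf_kst] at h1
  simpa using h1

theorem z_norm_kst : zz M K ≤ normalizer (kst M K : Set G) :=
  sup_le h.le_norm_kst Subgroup.le_normalizer

theorem z_norm_K : zz M K ≤ normalizer (K : Set G) :=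
  sup_le Subgroup.le_normalizer (h.le_cent'.trans (cent_le_norm _))

theorem exists_ne : ∃ k ∈ K, k ≠ 1 := exists_mem_ne_one h.ne

variable (I : Inp G)
include I

theorem f1 {k : G} (hk : k ∈ K) (hk1 : k ≠ 1) : sigmaCore M ⊓ centralizer ({k} : Set G) = kst M K :=
  (I.s30 M h.hM K h.hall h.ne).1 k hk hk1

theorem f3 {X : Subgroup G} (hX : X ≤ K) (hXp : (Nat.card X).Prime) : M ⊓ normalizer (X : Set G) = zz M K :=
  ((I.s30 M h.hM K h.hall h.ne).2.2 X hX hXp).1

theorem f3K : M ⊓ normalizer (K : Set G) = zz M K := by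
  obtain ⟨X, hX, hXp⟩ := exists_prime_le h.ne
  exact ((I.s30 M h.hM K h.hall h.ne).2.2 X hX hXp).2.1

theorem f3core {X L : Subgroup G} (hX : X ≤ K) (hXp : (Nat.card X).Prime) (hL : IsCoatom L)
    (hN : normalizer (X : Set G) ≤ L) : X ≤ sigmaCore L :=
  ((I.s30 M h.hM K h.hall h.ne).2.2 X hX hXp).2.2 L hL hN

theorem f4 {g : G} (hg : g ∉ M) : kst M K ⊓ cj M g = ⊥ :=
  (I.s31 M h.hM K h.hall h.ne).1 g hg

theorem f5 {g : G} (hg : g ∈ M) (hg' : g ∉ zz M K) : K ⊓ cj K g = ⊥ :=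
  (I.s31 M h.hM K h.hall h.ne).2.1 g hg hg'

theorem f6 {p : ℕ} (hp : p.Prime) (hd : p ∣ Nat.card (kst M K)) {S : Subgroup G}
    (hS : IsSylowIn p S (sigmaCore M)) : InUniqueMaximal S ∧ S ≤ M ∧ ¬ S ≤ kst M K := by
  have h1 := (I.s31 M h.hM K h.hall h.ne).2.2.1 p hp hd hS.toSylow
  have h2 : ((hS.toSylow : Subgroup ↥(sigmaCore M))).map (sigmaCore M).subtype = S :=
    Subgroup.map_subgroupOf_eq_of_le hS.1
  rwa [h2] at h1

theorem f7 {Y : Subgroup G} (hY : ∀ p : ℕ, p.Prime → p ∣ Nat.card Y → p ∈ sigma M)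
    (hne : Y ⊓ kst M K ≠ ⊥) : Y ≤ sigmaCore M :=
  (I.s31 M h.hM K h.hall h.ne).2.2.2 Y hY hne

theorem kst_ne : kst M K ≠ ⊥ := by
  obtain ⟨X, hX, hXp⟩ := exists_prime_le h.ne
  set p := Nat.card X with hp
  haveI : Fact p.Prime := ⟨hXp⟩
  have hdK : p ∣ Nat.card K := Subgroup.card_dvd_of_le hX
  obtain ⟨S₀, hS₀⟩ := exists_isSylowIn p K
  have hκ := h.primes_kappa p hXp hdK
  have hS₁ : IsSylowIn p S₀ M := isSylowIn_of_hall hS₀ h.le (h.hall.2.2 p hXp hκ)
  obtain ⟨-, x, hx, hx1, y, hy, hy1, hxy⟩ := (mem_kappa_iff.mp hκ).2.2.2 S₀ hS₁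
  have hxK : x ∈ K := hS₀.1 hx
  have hmem : y ∈ sigmaCore M ⊓ centralizer ({x} : Set G) :=
    ⟨hy, mem_centralizer_singleton_iff.mpr hxy.symm⟩
  rw [h.f1 I hxK hx1] at hmem
  intro hb
  rw [hb] at hmem
  exact hy1 hmem

theorem kst_lt_core : kst M K < sigmaCore M := by
  refine lt_of_le_of_ne h.kst_le_core ?_
  intro he
  obtain ⟨X, hX, hXp⟩ := exists_prime_le (h.kst_ne I)
  set p := Nat.card X with hp
  haveI : Fact p.Prime := ⟨hXp⟩
  have hd : p ∣ Nat.card (kst M K) := Subgroup.card_dvd_of_le hX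
  obtain ⟨S, hS⟩ := exists_isSylowIn p (sigmaCore M)
  apply (h.f6 I hXp hd hS).2.2
  rw [he]
  exact hS.1

theorem three_le : 3 * Nat.card (kst M K) ≤ Nat.card (sigmaCore M) := by
  have hlt := h.kst_lt_core I
  have h1 : Nat.card (kst M K) * (kst M K).relIndex (sigmaCore M) = Nat.card (sigmaCore M) := by
    have := Subgroup.card_mul_index ((kst M K).subgroupOf (sigmaCore M))
    rwa [card_subgroupOf_of_le hlt.le] at this
  have h2 : (kst M K).relIndex (sigmaCore M) ≠ 1 := by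
    intro h3
    rw [Subgroup.relIndex_eq_one] at h3
    exact absurd h3 (not_le_of_gt hlt)
  have hodd : Odd (Nat.card (sigmaCore M)) := Odd.of_dvd_nat I.hG.1 (Subgroup.card_subgroup_dvd_card _)
  rw [← h1] at hodd
  have h3 := (Nat.odd_mul.mp hodd).2
  have h4 : 3 ≤ (kst M K).relIndex (sigmaCore M) := by
    obtain ⟨k, hk⟩ := h3
    omega
  rw [← h1, mul_comm]
  exact Nat.mul_le_mul_left _ h4

/-- `C_G(y) ≤ M` for `1 ≠ y ∈ K*`. -/
theorem cent_core {y : G} (hy : y ∈ kst M K) (hy1 : y ≠ 1) : centralizer ({y} : Set G) ≤ M := by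
  obtain ⟨k, hk, hk1⟩ := h.exists_ne
  have hkk : k ∈ M ⊓ centralizer ({y} : Set G) :=
    ⟨h.le hk, mem_centralizer_singleton_iff.mpr (h.comm hk hy)⟩
  have hprimes : ∀ p : ℕ, p.Prime → p ∣ orderOf k → p ∣ Nat.card K :=
    fun p _ hd => hd.trans (Subgroup.orderOf_dvd_natCard K hk)
  rcases I.s32 M h.hM y hy.1 hy1 k hkk hk1 (fun p hp hd => h.not_sigma p hp (hprimes p hp hd)) with h1 | h1
  · exact h1.2
  · exfalso
    obtain ⟨p, hp, hd⟩ := Nat.exists_prime_and_dvd (show orderOf k ≠ 1 by simpa using hk1)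
    exact kappa_not_tau2 (h.primes_kappa p hp (hprimes p hp hd)) (h1.1 p hp hd)

theorem cent_le_zz {k : G} (hk : k ∈ K) (hk1 : k ≠ 1) : M ⊓ centralizer ({k} : Set G) ≤ zz M K := by
  have hne : zpowers k ≠ ⊥ := by rwa [Ne, zpowers_eq_bot]
  obtain ⟨X, hX, hXp⟩ := exists_prime_le hne
  have hXK : X ≤ K := hX.trans (by rw [zpowers_le]; exact hk)
  rw [← h.f3 I hXK hXp]
  apply inf_le_inf_left
  have h1 : centralizer ({k} : Set G) ≤ centralizer (X : Set G) := by
    rw [← centralizer_zpowers]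
    exact Subgroup.centralizer_le hX
  exact h1.trans (cent_le_norm _)

/-- If a prime-order `P ≤ K*` lies in a maximal `L ≠ M`, then its prime is not in `σ(L)`. -/
theorem not_sigma_of_ne {L P : Subgroup G} (hL : IsCoatom L) (hP : P ≤ kst M K)
    (hPp : (Nat.card P).Prime) (hPL : P ≤ L) (hne : L ≠ M) : Nat.card P ∉ sigma L := by
  intro hσ
  set p := Nat.card P with hp
  haveI : Fact p.Prime := ⟨hPp⟩
  have hPq : IsPGroup p P := IsPGroup.of_card (n := 1) (by simp [hp])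
  obtain ⟨S, hS, hPS⟩ := exists_isSylowIn_ge p hPL hPq
  have hpM : p ∈ sigma M :=
    primes_sigmaCore p hPp (Subgroup.card_dvd_of_le (hP.trans h.kst_le_core))
  have hSprimes : ∀ r : ℕ, r.Prime → r ∣ Nat.card S → r ∈ sigma M := by
    intro r hr hd
    obtain ⟨k, hk⟩ := IsPGroup.iff_card.mp hS.2.1
    rw [hk] at hd
    rwa [(Nat.prime_dvd_prime_iff_eq hr hPp).mp (hr.dvd_of_dvd_pow hd)]
  have hPne : P ≠ ⊥ := by
    intro hb
    rw [hb] at hp
    simp at hp
    rw [hp] at hPp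
    exact Nat.not_prime_one hPp
  have hSle : S ≤ sigmaCore M := by
    apply h.f7 I hSprimes
    intro hb
    apply hPne
    rw [eq_bot_iff, ← hb]
    exact le_inf hPS hP
  have hStop := isSylowIn_top_of_sigma hσ hS
  have hSc : IsSylowIn p S (sigmaCore M) :=
    ⟨hSle, hS.2.1, fun R _ hRp hSR => hStop.2.2 R le_top hRp hSR⟩
  have hd : p ∣ Nat.card (kst M K) := Subgroup.card_dvd_of_le hP
  obtain ⟨N₀, -, hu⟩ := (h.f6 I hPp hd hSc).1
  have h1 := hu L ⟨hL, hS.1⟩
  have h2 := hu M ⟨h.hM, hSle.trans sigmaCore_le⟩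
  exact hne (h1.trans h2.symm)

/-- The step: primes of `K*` are in `κ(L)`, for `L` maximal over `N_G(X)`, `X ≤ K` of prime order. -/
theorem kappa_of_step {X L P : Subgroup G} (hXK : X ≤ K) (hXp : (Nat.card X).Prime) (hL : IsCoatom L)
    (hN : normalizer (X : Set G) ≤ L) (hP : P ≤ kst M K) (hPp : (Nat.card P).Prime) :
    Nat.card P ∈ kappa L := by
  obtain ⟨x, hxX, hx1, hXz, -⟩ := exists_gen hXp
  obtain ⟨y, hyP, hy1, hPz, hyo⟩ := exists_gen hPp
  have hxL : x ∈ sigmaCore L := h.f3core I hXK hXp hL hN hxX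
  have hCX : centralizer ({x} : Set G) ≤ L := by
    rw [← centralizer_zpowers, ← hXz]
    exact (cent_le_norm _).trans hN
  have hxy : y * x = x * y := (h.comm (hXK hxX) (hP hyP)).symm
  have hyL : y ∈ L := hCX (mem_centralizer_singleton_iff.mpr hxy)
  have hPL : P ≤ L := by rw [hPz, zpowers_le]; exact hyL
  have hne : L ≠ M := by
    rintro rfl
    have h2 : x ∈ K ⊓ sigmaCore L := ⟨hXK hxX, hxL⟩
    rw [h.inf_core] at h2
    exact hx1 h2
  have hnσ := h.not_sigma_of_ne I hL hP hPp hPL hne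
  have hyy : y ∈ L ⊓ centralizer ({x} : Set G) := ⟨hyL, mem_centralizer_singleton_iff.mpr hxy⟩
  have hord : ∀ r : ℕ, r.Prime → r ∣ orderOf y → r = Nat.card P := by
    intro r hr hd
    rw [hyo] at hd
    exact (Nat.prime_dvd_prime_iff_eq hr hPp).mp hd
  rcases I.s32 L hL x hxL hx1 y hyy hy1 (fun r hr hd => by rw [hord r hr hd]; exact hnσ) with h1 | h1
  · exact h1.1 _ hPp (by rw [hyo])
  · exfalso
    have h3 := h1.2.2.2 M h.hM (h.cent_core I (hP hyP) hy1)
    exact hne h3.symm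

/-- A partner: a Hall `κ(L)`-subgroup containing `K*`. -/
theorem exists_partner {X L : Subgroup G} (hXK : X ≤ K) (hXp : (Nat.card X).Prime) (hL : IsCoatom L)
    (hN : normalizer (X : Set G) ≤ L) : ∃ B, Good L B ∧ kst M K ≤ B := by
  have hprimes : ∀ r : ℕ, r.Prime → r ∣ Nat.card (kst M K) → r ∈ kappa L := by
    intro r hr hd
    obtain ⟨P, hP, hPc⟩ := exists_prime_sub hr hd
    have h1 := h.kappa_of_step I hXK hXp hL hN hP (by rw [hPc]; exact hr)
    rwa [hPc] at h1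
  obtain ⟨x, hxX, hx1, hXz, -⟩ := exists_gen hXp
  have hKstL : kst M K ≤ L := by
    intro t ht
    apply hN
    apply cent_le_norm
    rw [hXz, centralizer_zpowers]
    exact mem_centralizer_singleton_iff.mpr (h.comm (hXK hxX) ht).symm
  obtain ⟨D, hD, hDh⟩ := exists_hall_ge (IsMin.solvable I.hG hL.1) hKstL hprimes
  refine ⟨D, ⟨hL, hDh, ?_⟩, hD⟩
  intro hb
  rw [hb, le_bot_iff] at hD
  exact h.kst_ne I hD

theorem prime_ne {X : Subgroup G} (hXp : (Nat.card X).Prime) : X ≠ ⊥ := by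
  rintro rfl
  simp at hXp
  exact Nat.not_prime_one hXp

theorem normalizer_ne_top_of_prime {X : Subgroup G} (hXp : (Nat.card X).Prime) :
    normalizer (X : Set G) ≠ ⊤ := by
  haveI : Fact (Nat.card X).Prime := ⟨hXp⟩
  have hq : IsPGroup (Nat.card X) X := IsPGroup.of_card (n := 1) (by simp)
  exact IsMin.normalizer_ne_top I.hG (h.prime_ne I hXp) (IsMin.isPGroup_ne_top I.hG hq)

/-- For `P ≤ K*` of prime order, `M` is the only maximal subgroup containing `N_G(P)`. -/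
theorem normalizer_unique {P : Subgroup G} (hP : P ≤ kst M K) (hPp : (Nat.card P).Prime) :
    normalizer (P : Set G) ≤ M ∧ ∀ L : Subgroup G, IsCoatom L → normalizer (P : Set G) ≤ L → L = M := by
  obtain ⟨X, hX, hXp⟩ := exists_prime_le h.ne
  obtain ⟨L₀, hL₀, hNL₀⟩ := exists_coatom_ge (h.normalizer_ne_top_of_prime I hXp)
  obtain ⟨B, hB, hBle⟩ := h.exists_partner I hX hXp hL₀ hNL₀
  have huniq : ∀ L : Subgroup G, IsCoatom L → normalizer (P : Set G) ≤ L → L = M := by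
    intro L hL hNL
    by_contra hne
    have h1 : P ≤ sigmaCore L := hB.f3core I (hP.trans hBle) hPp hL hNL
    have h2 := h.not_sigma_of_ne I hL hP hPp (h1.trans sigmaCore_le) hne
    exact h2 (primes_sigmaCore _ hPp (Subgroup.card_dvd_of_le h1))
  obtain ⟨L, hL, hNL⟩ := exists_coatom_ge (h.normalizer_ne_top_of_prime I hPp)
  have h3 := huniq L hL hNL
  exact ⟨h3 ▸ hNL, huniq⟩

/-- The partner step. -/
theorem step {X L : Subgroup G} (hXK : X ≤ K) (hXp : (Nat.card X).Prime) (hL : IsCoatom L)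
    (hN : normalizer (X : Set G) ≤ L) :
    ∃ B, Good L B ∧ kst M K ≤ B ∧ X ≤ kst L B ∧ kst L B ≤ K ∧ zz L B = zz M K := by
  obtain ⟨B, hB, hBle⟩ := h.exists_partner I hXK hXp hL hN
  obtain ⟨P, hP, hPp⟩ := exists_prime_le (h.kst_ne I)
  obtain ⟨y, hyP, hy1, hPz, hyo⟩ := exists_gen hPp
  obtain ⟨x, hxX, hx1, hXz, -⟩ := exists_gen hXp
  have hPB : P ≤ B := hP.trans hBle
  have hyB : y ∈ B := hPB hyP
  have hxL : x ∈ sigmaCore L := h.f3core I hXK hXp hL hN hxX
  have hxy : x ∈ kst L B := by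
    rw [← hB.f1 I hyB hy1]
    exact ⟨hxL, mem_centralizer_singleton_iff.mpr (h.comm (hXK hxX) (hP hyP))⟩
  have hXT : X ≤ kst L B := by rw [hXz, zpowers_le]; exact hxy
  obtain ⟨hNP, -⟩ := h.normalizer_unique I hP hPp
  have hf3 := hB.f3 I hPB hPp
  have hZL : zz L B ≤ M := by
    rw [← hf3]
    exact inf_le_right.trans hNP
  have hBZ : B ≤ zz M K := by
    have h1 : B ≤ M ⊓ centralizer ({x} : Set G) := by
      refine le_inf (le_sup_left.trans hZL) ?_
      intro b hb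
      exact mem_centralizer_singleton_iff.mpr (hB.comm hb hxy)
    exact h1.trans (h.cent_le_zz I (hXK hxX) hx1)
  have hKL : K ≤ L := by
    have h1 : K ≤ normalizer (X : Set G) := by
      have h2 := h.f3 I hXK hXp
      have h3 : K ≤ M ⊓ normalizer (X : Set G) := by rw [h2]; exact le_sup_left
      exact h3.trans inf_le_right
    exact h1.trans hN
  have hKZ : K ≤ zz L B := by
    rw [← hf3]
    refine le_inf hKL ?_
    refine le_trans ?_ (cent_le_norm _)
    intro k hk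
    rw [hPz, centralizer_zpowers]
    exact mem_centralizer_singleton_iff.mpr (h.comm hk (hP hyP))
  have hTprimes : ∀ r : ℕ, r.Prime → r ∣ Nat.card (kst L B) → r ∈ kappa M := by
    intro r hr hd
    obtain ⟨Q, hQ, hQc⟩ := exists_prime_sub hr hd
    have h1 := hB.kappa_of_step I hPB hPp h.hM hNP hQ (by rw [hQc]; exact hr)
    rwa [hQc] at h1
  have hTK : kst L B ≤ K := by
    have hnorm : K ≤ normalizer (kst L B : Set G) := hKZ.trans hB.z_norm_kst
    have hD : K ⊔ kst L B = K := hall_eq_of_le h.hall le_sup_left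
      (sup_le h.le (le_sup_right.trans hZL)) (primes_sup hnorm h.primes_kappa hTprimes)
    exact sup_eq_left.mp hD
  refine ⟨B, hB, hBle, hXT, hTK, le_antisymm (sup_le hBZ (hTK.trans le_sup_left)) (sup_le hKZ ?_)⟩
  exact hBle.trans le_sup_left

end Good

end Cfsg.Agent.Lib.BGZ2
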