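import Mathlib
import Cfsg.Agent.Lib.BGZ1

/-!
# Bender-Glauberman section 14: the count of the set `~M_σ`.
-/

set_option autoImplicit false
set_option linter.unusedSectionVars false
set_option linter.unusedVariables false
set_option linter.style.haveILetI false
set_option linter.unusedSimpArgs false

namespace Cfsg.Agent.Lib.BGZ3

open Cfsg Subgroup Cfsg.Agent.Lib.CoprimeInv Cfsg.Agent.Lib.BGTrans Cfsg.Agent.Lib.BGM1
  Cfsg.Agent.Lib.BGSigma2 Cfsg.Agent.Lib.BGM2 Cfsg.Agent.Lib.BGZ1 Cfsg.Agent.Lib.OddOrderCore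
  Cfsg.Agent.Lib.BGFit2 Cfsg.Agent.Lib.BGSigma4

universe u

variable {G : Type u} [Group G] [Finite G]

theorem supportR_of_le {N : Subgroup G} {a : G} (hC : centralizer ({a} : Set G) ≤ N) :
    supportR N a = ⊥ := by
  unfold supportR
  exact dif_neg (fun h => h.1 hC)

/-- The shape of `R(a)` when `C_G(a)` is not contained in `N`. -/
theorem supportR_eq_of (I : Inp G) {N : Subgroup G} (hN : IsCoatom N) {a : G} (ha : a ∈ sigmaCore N)
    (ha1 : a ≠ 1) (hC : ¬ centralizer ({a} : Set G) ≤ N) :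
    ∃ L : Subgroup G, (IsCoatom L ∧ centralizer ({a} : Set G) ≤ L) ∧
      (∀ L' : Subgroup G, IsCoatom L' → centralizer ({a} : Set G) ≤ L' → L' = L) ∧
      IsComplIn (N ⊓ centralizer ({a} : Set G)) (sigmaCore L ⊓ centralizer ({a} : Set G)) (centralizer ({a} : Set G)) ∧
      IsComplIn (N ⊓ L) (sigmaCore L) L ∧
      supportR N a = sigmaCore L ⊓ centralizer ({a} : Set G) := by
  obtain ⟨L, hL, hu, hF, -, hc1, hc2, -⟩ := I.s75 N hN a ha ha1 hC
  refine ⟨L, hL, hu, hc1, hc2, ?_⟩
  have hex : ∃! L : Subgroup G, IsCoatom L ∧ centralizer ({a} : Set G) ≤ L :=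
    ⟨L, hL, fun L' h' => hu L' h'.1 h'.2⟩
  unfold supportR
  rw [dif_pos ⟨hC, hex⟩]
  have hs := Classical.choose_spec (⟨hC, hex⟩ : ¬ centralizer ({a} : Set G) ≤ N ∧
      ∃! L : Subgroup G, IsCoatom L ∧ centralizer ({a} : Set G) ≤ L).2.exists
  have he := hu _ hs.1 hs.2
  rw [he, hF]

/-- `R(a)` does not depend on the maximal subgroup `N` with `a ∈ N_σ`. -/
theorem supportR_same (I : Inp G) {N₁ N₂ : Subgroup G} (h₁ : IsCoatom N₁) (h₂ : IsCoatom N₂) {a : G}
    (ha₁ : a ∈ sigmaCore N₁) (ha₂ : a ∈ sigmaCore N₂) (ha1 : a ≠ 1) : supportR N₁ a = supportR N₂ a := by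
  have key : ∀ {N N' : Subgroup G}, IsCoatom N → IsCoatom N' → a ∈ sigmaCore N → a ∈ sigmaCore N' →
      centralizer ({a} : Set G) ≤ N → ¬ centralizer ({a} : Set G) ≤ N' → False := by
    intro N N' hN hN' hn hn' hle hnle
    obtain ⟨L, hL, hu, -, hc2, -⟩ := supportR_eq_of I hN' hn' ha1 hnle
    have he := hu N hN hle
    subst he
    have h1 : a ∈ (N' ⊓ N) ⊓ sigmaCore N := ⟨⟨sigmaCore_le hn', sigmaCore_le hn⟩, hn⟩
    rw [hc2.2.2.1] at h1
    exact ha1 h1
  by_cases hc₁ : centralizer ({a} : Set G) ≤ N₁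
  · by_cases hc₂ : centralizer ({a} : Set G) ≤ N₂
    · rw [supportR_of_le hc₁, supportR_of_le hc₂]
    · exact (key h₁ h₂ ha₁ ha₂ hc₁ hc₂).elim
  · by_cases hc₂ : centralizer ({a} : Set G) ≤ N₂
    · exact (key h₂ h₁ ha₂ ha₁ hc₂ hc₁).elim
    · obtain ⟨L, hL, hu, -, -, e₁⟩ := supportR_eq_of I h₁ ha₁ ha1 hc₁
      obtain ⟨L', hL', hu', -, -, e₂⟩ := supportR_eq_of I h₂ ha₂ ha1 hc₂
      have : L' = L := hu L' hL'.1 hL'.2
      rw [e₁, e₂, this]

theorem centralizer_cj_singleton (a y : G) :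
    centralizer ({y * a * y⁻¹} : Set G) = cj (centralizer ({a} : Set G)) y :=
  (Cfsg.Agent.Lib.BGSigma4.centralizer_cj a y).symm

/-- Conjugation of `R`. -/
theorem supportR_cj (I : Inp G) {N : Subgroup G} (hN : IsCoatom N) {a : G} (ha : a ∈ sigmaCore N)
    (ha1 : a ≠ 1) (y : G) : supportR (cj N y) (y * a * y⁻¹) = cj (supportR N a) y := by
  have hN' : IsCoatom (cj N y) := isCoatom_cj hN y
  have ha' : y * a * y⁻¹ ∈ sigmaCore (cj N y) := by
    rw [BGZ1.sigmaCore_cj]; exact conj_mem_cj ha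
  have ha1' : y * a * y⁻¹ ≠ 1 := by
    intro h
    apply ha1
    have : a = y⁻¹ * (y * a * y⁻¹) * y := by group
    rw [this, h]; group
  by_cases hc : centralizer ({a} : Set G) ≤ N
  · have hc' : centralizer ({y * a * y⁻¹} : Set G) ≤ cj N y := by
      rw [centralizer_cj_singleton]; exact cj_mono hc y
    rw [supportR_of_le hc, supportR_of_le hc']
    simp
  · have hc' : ¬ centralizer ({y * a * y⁻¹} : Set G) ≤ cj N y := by
      rw [centralizer_cj_singleton]
      intro h
      apply hc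
      have := cj_mono h y⁻¹
      rwa [cj_cj_inv, cj_cj_inv] at this
    obtain ⟨L, hL, hu, -, -, e₁⟩ := supportR_eq_of I hN ha ha1 hc
    obtain ⟨L', hL', hu', -, -, e₂⟩ := supportR_eq_of I hN' ha' ha1' hc'
    have hcL : centralizer ({y * a * y⁻¹} : Set G) ≤ cj L y := by
      rw [centralizer_cj_singleton]; exact cj_mono hL.2 y
    have he : cj L y = L' := hu' _ (isCoatom_cj hL.1 y) hcL
    rw [e₁, e₂, ← he, BGZ1.sigmaCore_cj, centralizer_cj_singleton]
    exact (Cfsg.Agent.Lib.BGFus.cj_inf _ _ y).symm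

theorem ncard_coe (H : Subgroup G) : (H : Set G).ncard = Nat.card H := (Nat.card_coe_set_eq _).symm

/-- An element of a maximal subgroup with all primes in `σ` lies in the core. -/
theorem mem_core_of_primes (hG : IsMinSimpleOddOrder G) {L : Subgroup G} (hL : IsCoatom L) {a : G} (haL : a ∈ L)
    (ha : ∀ p : ℕ, p.Prime → p ∣ orderOf a → p ∈ sigma L) : a ∈ sigmaCore L := by
  have hz : zpowers a ≤ L := by rw [zpowers_le]; exact haL
  have hD := hall_eq_of_le (sigma_hall hG hL).1 (le_sup_right : sigmaCore L ≤ zpowers a ⊔ sigmaCore L)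
    (sup_le hz sigmaCore_le)
    (primes_sup (hz.trans le_normalizer_sigmaCore) (by
      intro p hp hd
      rw [Nat.card_zpowers] at hd
      exact ha p hp hd) primes_sigmaCore)
  have h1 : a ∈ zpowers a ⊔ sigmaCore L := (le_sup_left : zpowers a ≤ _) (mem_zpowers a)
  rwa [hD] at h1

/-- The number of conjugates of a maximal subgroup. -/
theorem card_class (hG : IsMinSimpleOddOrder G) {N : Subgroup G} (hN : IsCoatom N) :
    Set.ncard {M' : Subgroup G | ∃ g : G, M' = cj N g} = N.index := by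
  classical
  have hnorm : normalizer (N : Set G) = N :=
    Cfsg.Agent.Lib.BGTau7.norm_eq_self hG hN (coatom_ne_bot hG hN)
  let F : G ⧸ N → Subgroup G := Quotient.lift (fun g => cj N g) (by
    intro a b hab
    have h1 : a⁻¹ * b ∈ N := QuotientGroup.leftRel_apply.mp hab
    have h2 : b = a * (a⁻¹ * b) := by group
    show cj N a = cj N b
    rw [h2, ← cj_cj, cj_eq_of_mem_normalizer (le_normalizer h1)])
  have hF : Function.Injective F := by
    intro x y
    induction x using QuotientGroup.induction_on with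
    | H a =>
      induction y using QuotientGroup.induction_on with
      | H b =>
        intro h
        have h1 : cj N a = cj N b := h
        apply QuotientGroup.eq.mpr
        have h2 : cj N (a⁻¹ * b) = N := by
          rw [← cj_cj, ← h1, cj_cj, inv_mul_cancel]; exact cj_one N
        rw [← hnorm]
        exact mem_normalizer_of_cj_eq h2
  have hrange : Set.range F = {M' : Subgroup G | ∃ g : G, M' = cj N g} := by
    ext M'
    constructor
    · rintro ⟨x, rfl⟩
      induction x using QuotientGroup.induction_on with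
      | H a => exact ⟨a, rfl⟩
    · rintro ⟨g, rfl⟩
      exact ⟨(g : G ⧸ N), rfl⟩
  rw [← hrange, ← Nat.card_coe_set_eq, Nat.card_range_of_injective hF]
  rfl

/-- `a` and `r ∈ R(a)` commute and have coprime orders. -/
theorem supportR_coprime (I : Inp G) {N : Subgroup G} (hN : IsCoatom N) {a r : G} (ha : a ∈ sigmaCore N)
    (ha1 : a ≠ 1) (hr : r ∈ supportR N a) : a * r = r * a ∧ (orderOf a).Coprime (orderOf r) := by
  by_cases hc : centralizer ({a} : Set G) ≤ N
  · rw [supportR_of_le hc] at hr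
    have : r = 1 := hr
    subst this
    simp
  · obtain ⟨L, hL, hu, hc1, hc2, e⟩ := supportR_eq_of I hN ha ha1 hc
    rw [e] at hr
    refine ⟨(mem_centralizer_singleton_iff.mp hr.2).symm, ?_⟩
    have hcop := (I.s74 N hN a ha ha1).1
    have hca : a ∈ N ⊓ centralizer ({a} : Set G) := ⟨sigmaCore_le ha, mem_centralizer_singleton_iff.mpr rfl⟩
    have h1 : orderOf a ∣ Nat.card ↥(N ⊓ centralizer ({a} : Set G)) := Subgroup.orderOf_dvd_natCard _ hca
    have h2 : orderOf r ∣ Nat.card ↥(sigmaCore L ⊓ centralizer ({a} : Set G)) := Subgroup.orderOf_dvd_natCard _ hr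
    have h3 := card_mul_card_of_isComplIn hc1
    have hle : N ⊓ centralizer ({a} : Set G) ≤ centralizer ({a} : Set G) := inf_le_right
    have h4 : Nat.card ↥(N ⊓ centralizer ({a} : Set G)) *
        (N ⊓ centralizer ({a} : Set G)).relIndex (centralizer ({a} : Set G)) = Nat.card ↥(centralizer ({a} : Set G)) := by
      have := Subgroup.card_mul_index ((N ⊓ centralizer ({a} : Set G)).subgroupOf (centralizer ({a} : Set G)))
      rwa [card_subgroupOf_of_le hle] at this
    have h5 : Nat.card ↥(sigmaCore L ⊓ centralizer ({a} : Set G)) =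
        (N ⊓ centralizer ({a} : Set G)).relIndex (centralizer ({a} : Set G)) := by
      apply Nat.eq_of_mul_eq_mul_left (Nat.card_pos (α := ↥(N ⊓ centralizer ({a} : Set G))))
      rw [h4, h3]
    rw [h5] at h2
    exact Nat.Coprime.coprime_dvd_left h1 (Nat.Coprime.coprime_dvd_right h2 hcop)

/-- The number of conjugates of `N` whose core contains `a` is the order of `R(a)`. -/
theorem count_conj (I : Inp G) {N : Subgroup G} (hN : IsCoatom N) {a : G} (ha : a ∈ sigmaCore N) (ha1 : a ≠ 1) :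
    Set.ncard {M' : Subgroup G | (∃ g : G, M' = cj N g) ∧ a ∈ sigmaCore M'} = Nat.card (supportR N a) := by
  classical
  obtain ⟨-, R, -, hc, hR⟩ := I.s74 N hN a ha ha1
  have hRC : R ≤ centralizer ({a} : Set G) := hc.2.1
  have hmem : ∀ r ∈ R, a ∈ sigmaCore (cj N r) := by
    intro r hr
    rw [BGZ1.sigmaCore_cj]
    have h1 : r * a * r⁻¹ = a := by
      have := mem_centralizer_singleton_iff.mp (hRC hr)
      rw [this]; group
    have h2 := conj_mem_cj (g := r) ha
    rwa [h1] at h2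
  have hS : {M' : Subgroup G | (∃ g : G, M' = cj N g) ∧ a ∈ sigmaCore M'} = (fun r => cj N r) '' (R : Set G) := by
    ext M'
    constructor
    · rintro ⟨⟨g, rfl⟩, h2⟩
      obtain ⟨r, ⟨hr, he⟩, -⟩ := hR g (sigmaCore_le h2)
      exact ⟨r, hr, he⟩
    · rintro ⟨r, hr, rfl⟩
      exact ⟨⟨r, rfl⟩, hmem r hr⟩
  have hinj : Set.InjOn (fun r => cj N r) (R : Set G) := by
    intro r hr r' hr' he
    obtain ⟨r₀, -, hu⟩ := hR r (sigmaCore_le (hmem r hr))
    have h1 := hu r ⟨hr, rfl⟩
    have h2 := hu r' ⟨hr', he.symm⟩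
    rw [h1, h2]
  rw [hS, Set.ncard_image_of_injOn hinj, ncard_coe]
  have h3 := card_mul_card_of_isComplIn hc
  by_cases hC : centralizer ({a} : Set G) ≤ N
  · rw [supportR_of_le hC]
    have h4 : N ⊓ centralizer ({a} : Set G) = centralizer ({a} : Set G) := inf_eq_right.mpr hC
    rw [h4] at h3
    have h5 : Nat.card R = 1 := by
      have hp := Nat.card_pos (α := ↥(centralizer ({a} : Set G)))
      exact Nat.eq_of_mul_eq_mul_left hp (by rw [h3, mul_one])
    rw [h5]; simp
  · obtain ⟨L, hL, hu, hc1, hc2, e⟩ := supportR_eq_of I hN ha ha1 hC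
    have h4 := card_mul_card_of_isComplIn hc1
    rw [e]
    apply Nat.eq_of_mul_eq_mul_left (Nat.card_pos (α := ↥(N ⊓ centralizer ({a} : Set G))))
    rw [h3, h4]

/-- **The count of `~M_σ`** (S1377). -/
theorem tilde_card (I : Inp G) {M : Subgroup G} (hM : IsCoatom M) :
    Set.ncard (tildeOf M ((sigmaCore M : Set G) \ {1})) = (Nat.card (sigmaCore M) - 1) * M.index := by
  classical
  have hG := I.hG
  have hcj : ∀ g : G, IsCoatom (cj M g) := fun g => isCoatom_cj hM g
  -- the index set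
  set Ahat : Set G := {a | a ≠ 1 ∧ ∃ g : G, a ∈ sigmaCore (cj M g)} with hAhat
  choose! gg hgg using (fun a (ha : a ∈ Ahat) => ha.2)
  let Rs : G → Subgroup G := fun a => supportR (cj M (gg a)) a
  have hRs : ∀ a g, a ≠ 1 → a ∈ sigmaCore (cj M g) → supportR (cj M g) a = Rs a := by
    intro a g ha1 hag
    exact supportR_same I (hcj g) (hcj _) hag (hgg a ⟨ha1, g, hag⟩) ha1
  -- the tilde set as a union
  let c : G → Set G := fun a => {t | ∃ r ∈ Rs a, t = a * r}
  have htilde : tildeOf M ((sigmaCore M : Set G) \ {1}) = ⋃ a ∈ (Set.toFinite Ahat).toFinset, c a := by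
    ext t
    simp only [Set.mem_iUnion, exists_prop, Set.Finite.mem_toFinset]
    constructor
    · rintro ⟨x, ⟨hx, hx1⟩, r, hr, y, rfl⟩
      have hx1' : x ≠ 1 := hx1
      have hxm : y * x * y⁻¹ ∈ sigmaCore (cj M y) := by
        rw [BGZ1.sigmaCore_cj]; exact conj_mem_cj hx
      have hne : y * x * y⁻¹ ≠ 1 := by
        intro h
        apply hx1'
        have : x = y⁻¹ * (y * x * y⁻¹) * y := by group
        rw [this, h]; group
      refine ⟨y * x * y⁻¹, ⟨hne, y, hxm⟩, y * r * y⁻¹, ?_, by group⟩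
      rw [← hRs _ y hne hxm, supportR_cj I hM hx hx1']
      exact conj_mem_cj hr
    · rintro ⟨a, ⟨ha1, g, hag⟩, r, hr, rfl⟩
      rw [← hRs a g ha1 hag] at hr
      have hx : g⁻¹ * a * g ∈ sigmaCore M := by
        rw [BGZ1.sigmaCore_cj] at hag
        exact mem_cj.mp hag
      have hx1 : g⁻¹ * a * g ≠ 1 := by
        intro h
        apply ha1
        have : a = g * (g⁻¹ * a * g) * g⁻¹ := by group
        rw [this, h]; group
      have hcja : g * (g⁻¹ * a * g) * g⁻¹ = a := by group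
      have hr2 : r ∈ cj (supportR M (g⁻¹ * a * g)) g := by
        rw [← supportR_cj I hM hx hx1, hcja]
        exact hr
      refine ⟨g⁻¹ * a * g, ⟨hx, hx1⟩, g⁻¹ * r * g, mem_cj.mp hr2, g, by group⟩
  have hdisj : ∀ a ∈ (Set.toFinite Ahat).toFinset, ∀ b ∈ (Set.toFinite Ahat).toFinset, a ≠ b →
      Disjoint (c a) (c b) := by
    intro a ha b hb hab
    rw [Set.Finite.mem_toFinset] at ha hb
    rw [Set.disjoint_left]
    rintro t ⟨r, hr, rfl⟩ ⟨s, hs, he⟩
    exact I.s33 _ _ (hcj (gg a)) (hcj (gg b)) a b (hgg a ha) (hgg b hb) ha.1 hb.1 hab r hr s hs he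
  have hcard : ∀ a, (c a).ncard = Nat.card (Rs a) := by
    intro a
    have : c a = (fun r => a * r) '' (Rs a : Set G) := by
      ext t
      constructor
      · rintro ⟨r, hr, rfl⟩
        exact ⟨r, hr, rfl⟩
      · rintro ⟨r, hr, rfl⟩
        exact ⟨r, hr, rfl⟩
    rw [this, Set.ncard_image_of_injective _ (mul_right_injective a), ncard_coe]
  rw [htilde, ← sum_ncard_eq _ _ hdisj]
  simp_rw [hcard]
  -- double counting
  set Cl : Set (Subgroup G) := {M' : Subgroup G | ∃ g : G, M' = cj M g} with hCl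
  have hcount : ∀ a ∈ (Set.toFinite Ahat).toFinset,
      Nat.card (Rs a) = ((Set.toFinite Cl).toFinset.filter (fun M' => a ∈ sigmaCore M')).card := by
    intro a ha
    rw [Set.Finite.mem_toFinset] at ha
    have h1 := count_conj I (hcj (gg a)) (hgg a ha) ha.1
    rw [← Set.ncard_coe_finset]
    show Nat.card (supportR (cj M (gg a)) a) = _
    rw [← h1]
    congr 1
    ext M'
    simp only [Finset.coe_filter, Set.Finite.mem_toFinset, Set.mem_setOf_eq, hCl]
    constructor
    · rintro ⟨⟨g, rfl⟩, h2⟩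
      exact ⟨⟨g * gg a, by rw [cj_cj]⟩, h2⟩
    · rintro ⟨⟨g, rfl⟩, h2⟩
      refine ⟨⟨g * (gg a)⁻¹, ?_⟩, h2⟩
      rw [cj_cj]; simp
  rw [Finset.sum_congr rfl hcount]
  have hbip := Finset.sum_card_bipartiteAbove_eq_sum_card_bipartiteBelow
    (s := (Set.toFinite Ahat).toFinset) (t := (Set.toFinite Cl).toFinset) (fun (a : G) (M' : Subgroup G) => a ∈ sigmaCore M')
  simp only [Finset.bipartiteAbove, Finset.bipartiteBelow] at hbip
  rw [hbip]
  have hconst : ∀ M' ∈ (Set.toFinite Cl).toFinset,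
      ((Set.toFinite Ahat).toFinset.filter (fun a => a ∈ sigmaCore M')).card = Nat.card (sigmaCore M) - 1 := by
    intro M' hM'
    rw [Set.Finite.mem_toFinset] at hM'
    obtain ⟨g, rfl⟩ := hM'
    have h1 : ((Set.toFinite Ahat).toFinset.filter (fun a => a ∈ sigmaCore (cj M g)) : Set G) =
        (sigmaCore (cj M g) : Set G) \ {1} := by
      ext a
      simp only [Finset.coe_filter, Set.Finite.mem_toFinset, Set.mem_setOf_eq, Set.mem_diff, SetLike.mem_coe,
        Set.mem_singleton_iff, hAhat]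
      constructor
      · rintro ⟨⟨h2, -⟩, h3⟩
        exact ⟨h3, h2⟩
      · rintro ⟨h2, h3⟩
        exact ⟨⟨h3, g, h2⟩, h2⟩
    rw [← Set.ncard_coe_finset, h1, Set.ncard_diff_singleton_of_mem (one_mem _), ncard_coe,
      BGZ1.sigmaCore_cj, card_cj]
  rw [Finset.sum_const_nat hconst, ← Set.ncard_eq_toFinset_card, card_class hG hM, mul_comm]

end Cfsg.Agent.Lib.BGZ3
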