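import Mathlib
import Cfsg.Agent.Lib.BGCent12
import Cfsg.Agent.Lib.BGZ2
import Cfsg.Agent.Lib.BGZ3
import Cfsg.Agent.S1425

/-!
# Bender-Glauberman section 14: every non-identity element lies in some `M̃` or a conjugate of `Ẑ`.
-/

set_option autoImplicit false
set_option linter.unusedSectionVars false
set_option linter.unusedVariables false
set_option linter.style.haveILetI false
set_option linter.unusedSimpArgs false

namespace Cfsg.Agent.Lib.BGCent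

open Cfsg Subgroup Cfsg.Agent.Lib.CoprimeInv Cfsg.Agent.Lib.BGTrans Cfsg.Agent.Lib.BGTrans2 Cfsg.Agent.Lib.BGUniq
  Cfsg.Agent.Lib.BGUniq2 Cfsg.Agent.Lib.PCore Cfsg.Agent.Lib.BGTau7 Cfsg.Agent.Lib.BGM1 Cfsg.Agent.Lib.BGTau5
  Cfsg.Agent.Lib.BGTau3 Cfsg.Agent.Lib.BGM2 Cfsg.Agent.Lib.BGTau6 Cfsg.Agent.Lib.BGTau1 Cfsg.Agent.Lib.BGP2E
  Cfsg.Agent.Lib.BGFit2
open scoped commutatorElement

universe u

variable {G : Type u} [Group G] [Finite G]

/-- A `π`-decomposition of a natural number. -/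
theorem exists_pi_factor (π : Set ℕ) {n : ℕ} (hn : n ≠ 0) :
    ∃ n₁ n₂ : ℕ, n = n₁ * n₂ ∧ n₁.Coprime n₂ ∧ (∀ q : ℕ, q.Prime → q ∣ n₁ → q ∈ π) ∧
      ∀ q : ℕ, q.Prime → q ∣ n₂ → q ∉ π := by
  induction n using induction_on_primes with
  | zero => exact (hn rfl).elim
  | one =>
    refine ⟨1, 1, rfl, Nat.coprime_one_left _, ?_, ?_⟩
    · intro q hq hd
      exact (hq.one_lt.ne' (Nat.dvd_one.mp hd)).elim
    · intro q hq hd
      exact (hq.one_lt.ne' (Nat.dvd_one.mp hd)).elim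
  | prime_mul p a hp ih =>
    have ha : a ≠ 0 := fun h => hn (by simp [h])
    obtain ⟨n₁, n₂, e, hc, h1, h2⟩ := ih ha
    by_cases hpπ : p ∈ π
    · refine ⟨p * n₁, n₂, by rw [e]; ring, ?_, ?_, h2⟩
      · apply Nat.Coprime.mul_left _ hc
        apply (Nat.Prime.coprime_iff_not_dvd hp).mpr
        intro hd
        exact h2 p hp hd hpπ
      · intro q hq hd
        rcases (Nat.Prime.dvd_mul hq).mp hd with h | h
        · rwa [(Nat.prime_dvd_prime_iff_eq hq hp).mp h]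
        · exact h1 q hq h
    · refine ⟨n₁, p * n₂, by rw [e]; ring, ?_, h1, ?_⟩
      · apply Nat.Coprime.mul_right _ hc
        apply Nat.Coprime.symm
        apply (Nat.Prime.coprime_iff_not_dvd hp).mpr
        intro hd
        exact hpπ (h1 p hp hd)
      · intro q hq hd
        rcases (Nat.Prime.dvd_mul hq).mp hd with h | h
        · rwa [(Nat.prime_dvd_prime_iff_eq hq hp).mp h]
        · exact h2 q hq h

/-- The `π`-part and the `π'`-part of an element. -/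
theorem exists_pi_part (π : Set ℕ) (g : G) :
    ∃ a b : G, g = a * b ∧ a ∈ zpowers g ∧ b ∈ zpowers g ∧ Commute a b ∧
      (∀ q : ℕ, q.Prime → q ∣ orderOf a → q ∈ π) ∧ (∀ q : ℕ, q.Prime → q ∣ orderOf b → q ∉ π) := by
  obtain ⟨n₁, n₂, e, hc, h1, h2⟩ := exists_pi_factor π (orderOf_pos g).ne'
  have hb := Nat.gcd_eq_gcd_ab n₁ n₂
  rw [hc.gcd_eq_one, Nat.cast_one] at hb
  set a : G := g ^ ((n₂ : ℤ) * Nat.gcdB n₁ n₂) with ha
  set b : G := g ^ ((n₁ : ℤ) * Nat.gcdA n₁ n₂) with hb'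
  have hg : g = a * b := by
    rw [ha, hb', ← zpow_add, add_comm, ← hb, zpow_one]
  have ha1 : a ^ n₁ = 1 := by
    rw [ha, ← zpow_natCast, ← zpow_mul]
    have : (n₂ : ℤ) * Nat.gcdB n₁ n₂ * n₁ = (orderOf g : ℤ) * Nat.gcdB n₁ n₂ := by
      rw [e]; push_cast; ring
    rw [this, zpow_mul, zpow_natCast, pow_orderOf_eq_one, one_zpow]
  have hb1 : b ^ n₂ = 1 := by
    rw [hb', ← zpow_natCast, ← zpow_mul]
    have : (n₁ : ℤ) * Nat.gcdA n₁ n₂ * n₂ = (orderOf g : ℤ) * Nat.gcdA n₁ n₂ := by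
      rw [e]; push_cast; ring
    rw [this, zpow_mul, zpow_natCast, pow_orderOf_eq_one, one_zpow]
  refine ⟨a, b, hg, zpow_mem (mem_zpowers _) _, zpow_mem (mem_zpowers _) _, ?_, ?_, ?_⟩
  · exact (Commute.refl g).zpow_zpow _ _
  · intro q hq hd
    exact h1 q hq (hd.trans (orderOf_dvd_of_pow_eq_one ha1))
  · intro q hq hd
    exact h2 q hq (hd.trans (orderOf_dvd_of_pow_eq_one hb1))

/-- Membership in some `Ñ`. -/
def InTilde (g : G) : Prop :=
  ∃ N : Subgroup G, IsCoatom N ∧ g ∈ tildeOf N ((sigmaCore N : Set G) \ {1})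

theorem InTilde.conj {g : G} (h : InTilde g) (c : G) : InTilde (c * g * c⁻¹) := by
  obtain ⟨N, hN, a, ha, r, hr, y, rfl⟩ := h
  exact ⟨N, hN, a, ha, r, hr, c * y, by group⟩

theorem inTilde_of {N : Subgroup G} (hN : IsCoatom N) {a r : G} (ha : a ∈ sigmaCore N) (ha1 : a ≠ 1)
    (hr : r ∈ supportR N a) : InTilde (a * r) :=
  ⟨N, hN, a, ⟨ha, ha1⟩, r, hr, 1, by group⟩

/-- **Lemma X.** -/
theorem lemmaX (hG : IsMinSimpleOddOrder G) (hK : KappaFacts G) {M : Subgroup G} (hM : IsCoatom M) {a b : G}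
    (ha : a ∈ sigmaCore M) (ha1 : a ≠ 1) (hbM : b ∈ M) (hab : Commute a b)
    (hbσ : ∀ q : ℕ, q.Prime → q ∣ orderOf b → q ∉ sigma M) (hbκ : ∀ q : ℕ, q.Prime → q ∣ orderOf b → q ∉ kappa M) :
    InTilde (a * b) := by
  classical
  by_cases hb1 : b = 1
  · subst hb1
    exact inTilde_of hM ha ha1 (Subgroup.one_mem _)
  have hmem : b ∈ M ⊓ centralizer ({a} : Set G) := by
    refine Subgroup.mem_inf.mpr ⟨hbM, ?_⟩
    rw [Subgroup.mem_centralizer_singleton_iff]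
    exact hab.eq.symm
  have hno : orderOf b ≠ 1 := fun h => hb1 (orderOf_eq_one_iff.mp h)
  obtain ⟨p, hp, hpd⟩ := Nat.exists_prime_and_dvd hno
  rcases hK.h32 M hM a ha ha1 b hmem hb1 hbσ with h | ⟨-, ⟨L, hL, hLσ⟩, hCM, hU⟩
  · exact (hbκ p hp hpd (h.1 p hp hpd)).elim
  -- move `b` into the core of a conjugate of `L`
  have hz1 : zpowers b ≠ ⊥ := by
    simpa using hb1
  obtain ⟨c, hc⟩ := Cfsg.Agent.S1425.result hG L hL (zpowers b) hz1 (by
    intro q hq hd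
    rw [Nat.card_zpowers] at hd
    exact hLσ q hq hd)
  have hc' : c * b * c⁻¹ ∈ sigmaCore L := hc ⟨b, mem_zpowers b, rfl⟩
  set L' : Subgroup G := cj L c⁻¹ with hL'
  have hL'c : IsCoatom L' := Cfsg.Agent.Lib.BGUniq3.isCoatom_cj hL c⁻¹
  have hbL' : b ∈ sigmaCore L' := by
    rw [hL', Cfsg.Agent.Lib.BGZ1.sigmaCore_cj, mem_cj]
    simpa using hc'
  have hσe : sigma L' = sigma L := Cfsg.Agent.Lib.BGZ1.sigma_cj_eq L c⁻¹
  have hCL : ¬ centralizer ({b} : Set G) ≤ L' := by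
    intro h
    have h1 := hU L' hL'c h
    apply hbσ p hp hpd
    rw [← h1, hσe]
    exact hLσ p hp hpd
  rcases supportR_cases hG hK hL'c hbL' hb1 with h | ⟨N, R, hR⟩
  · exact (hCL h.1).elim
  have hNM : N = M := hU N hR.hN hR.hCN
  subst hNM
  have haR : a ∈ supportR L' b := by
    rw [hR.hR, ← hR.hRe]
    refine Subgroup.mem_inf.mpr ⟨ha, ?_⟩
    rw [Subgroup.mem_centralizer_singleton_iff]
    exact hab.eq
  have := inTilde_of hL'c hbL' hb1 haR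
  rwa [← hab.eq] at this

/-- The set `Ẑ` attached to a Hall `κ`-subgroup. -/
def zHat (M K : Subgroup G) : Set G :=
  (↑(K ⊔ (sigmaCore M ⊓ centralizer (K : Set G))) : Set G) \
    ((K : Set G) ∪ ↑(sigmaCore M ⊓ centralizer (K : Set G)))

theorem primes_of_kappa {M K : Subgroup G} (hK : IsPiHallOf (kappa M) K M) {k : G} (hk : k ∈ K) {q : ℕ}
    (hq : q.Prime) (hd : q ∣ orderOf k) : q ∈ kappa M :=
  hK.2.1 q hq (hd.trans (Subgroup.orderOf_dvd_natCard _ hk))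

/-- **Lemma Y.** -/
theorem lemmaY (hG : IsMinSimpleOddOrder G) (hK : KappaFacts G) {M : Subgroup G} (hM : IsCoatom M) {a b : G}
    (ha : a ∈ sigmaCore M) (ha1 : a ≠ 1) (hbM : b ∈ M) (hab : Commute a b)
    (hbσ : ∀ q : ℕ, q.Prime → q ∣ orderOf b → q ∉ sigma M) :
    InTilde (a * b) ∨ ∃ K₁ : Subgroup G, IsPiHallOf (kappa M) K₁ M ∧ K₁ ≠ ⊥ ∧ a * b ∈ zHat M K₁ := by
  classical
  by_cases hbκ : ∀ q : ℕ, q.Prime → q ∣ orderOf b → q ∉ kappa M
  · exact Or.inl (lemmaX hG hK hM ha ha1 hbM hab hbσ hbκ)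
  right
  push Not at hbκ
  obtain ⟨p, hp, hpd, hpκ⟩ := hbκ
  have hb1 : b ≠ 1 := by
    rintro rfl
    rw [orderOf_one] at hpd
    exact hp.one_lt.ne' (Nat.dvd_one.mp hpd)
  have hmem : b ∈ M ⊓ centralizer ({a} : Set G) := by
    refine Subgroup.mem_inf.mpr ⟨hbM, ?_⟩
    rw [Subgroup.mem_centralizer_singleton_iff]
    exact hab.eq.symm
  rcases hK.h32 M hM a ha ha1 b hmem hb1 hbσ with h | h
  swap
  · exact (Cfsg.Agent.Lib.BGZ2.kappa_not_tau2 hpκ (h.1 p hp hpd)).elim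
  obtain ⟨K₁, hbK₁, hK₁⟩ := exists_hall_ge (π := kappa M) (solvable_of_le_coatom hG hM le_rfl)
    (zpowers_le_of_mem hbM) (by
      intro q hq hd
      rw [Nat.card_zpowers] at hd
      exact h.1 q hq hd)
  have hbK : b ∈ K₁ := hbK₁ (mem_zpowers b)
  have hK₁1 : K₁ ≠ ⊥ := by
    rintro rfl
    exact hb1 (by simpa using hbK)
  refine ⟨K₁, hK₁, hK₁1, ?_⟩
  have h30 := (hK.h30 M hM K₁ hK₁ hK₁1).1 b hbK hb1
  have haK : a ∈ sigmaCore M ⊓ centralizer (K₁ : Set G) := by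
    rw [← h30]
    refine Subgroup.mem_inf.mpr ⟨ha, ?_⟩
    rw [Subgroup.mem_centralizer_singleton_iff]
    exact hab.eq
  refine ⟨Subgroup.mul_mem _ (mem_sup_right haK) (mem_sup_left hbK), ?_⟩
  -- coprimality
  have hco : (orderOf a).Coprime (orderOf b) := by
    apply Nat.coprime_of_dvd
    intro q hq h1 h2
    exact hbσ q hq h2 (primes_sigmaCore q hq (h1.trans (Subgroup.orderOf_dvd_natCard _ ha)))
  rintro (h1 | h1)
  · -- `a ∈ K₁`
    have haz : a ∈ zpowers (a * b) := mem_zpowers_mul_left hab hco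
    have haK₁ : a ∈ K₁ := (zpowers_le_of_mem h1) haz
    have hno : orderOf a ≠ 1 := fun h => ha1 (orderOf_eq_one_iff.mp h)
    obtain ⟨q, hq, hqd⟩ := Nat.exists_prime_and_dvd hno
    exact (primes_of_kappa hK₁ haK₁ hq hqd).2.2.1
      (primes_sigmaCore q hq (hqd.trans (Subgroup.orderOf_dvd_natCard _ ha)))
  · have hbz : b ∈ zpowers (a * b) := mem_zpowers_mul_right hab hco
    have hbK' : b ∈ sigmaCore M ⊓ centralizer (K₁ : Set G) := (zpowers_le_of_mem h1) hbz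
    exact hbσ p hp hpd (primes_sigmaCore p hp (hpd.trans (Subgroup.orderOf_dvd_natCard _ (Subgroup.mem_inf.mp hbK').1)))

/-- **Lemma Y'**: an element of `M` with a prime of `σ(M)` in its order. -/
theorem lemmaY' (hG : IsMinSimpleOddOrder G) (hK : KappaFacts G) {M : Subgroup G} (hM : IsCoatom M) {g : G}
    (hgM : g ∈ M) {p : ℕ} (hp : p.Prime) (hpσ : p ∈ sigma M) (hpd : p ∣ orderOf g) :
    InTilde g ∨ ∃ K₁ : Subgroup G, IsPiHallOf (kappa M) K₁ M ∧ K₁ ≠ ⊥ ∧ g ∈ zHat M K₁ := by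
  classical
  obtain ⟨a, b, e, haz, hbz, hab, h1, h2⟩ := exists_pi_part (sigma M) g
  have haM : a ∈ M := (zpowers_le_of_mem hgM) haz
  have hbM : b ∈ M := (zpowers_le_of_mem hgM) hbz
  have ha : a ∈ sigmaCore M := Cfsg.Agent.Lib.BGZ3.mem_core_of_primes hG hM haM h1
  have ha1 : a ≠ 1 := by
    rintro rfl
    rw [one_mul] at e
    subst e
    exact h2 p hp hpd hpσ
  rw [e]
  exact lemmaY hG hK hM ha ha1 hbM hab h2

/-- Every prime of `G` is in some `σ(M)`. -/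
theorem exists_sigma_of_dvd (hG : IsMinSimpleOddOrder G) {p : ℕ} (hp : p.Prime) (hd : p ∣ Nat.card G) :
    ∃ M : Subgroup G, IsCoatom M ∧ p ∈ sigma M := by
  classical
  haveI : Fact p.Prime := ⟨hp⟩
  obtain ⟨P, hP⟩ := exists_isSylowIn p (⊤ : Subgroup G)
  have hP1 : P ≠ ⊥ := sylow_ne_bot hP (by rwa [Subgroup.card_top])
  have hPp : IsPGroup p P := hP.2.1
  obtain ⟨M, hM, hNM⟩ := Cfsg.Agent.Lib.BGTau5.exists_coatom_ge (IsMin.normalizer_ne_top hG hP1 (IsMin.isPGroup_ne_top hG hPp))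
  have hPM : P ≤ M := le_normalizer.trans hNM
  refine ⟨M, hM, ?_⟩
  have hSM : IsSylowIn p P M := ⟨hPM, hP.2.1, fun R hRM hRp hPR => hP.2.2 R le_top hRp hPR⟩
  refine Cfsg.Agent.Lib.BGSigma3.mem_sigma_of hSM ?_ hNM
  exact (dvd_card_of_isPGroup hPp hP1).trans (Subgroup.card_dvd_of_le hPM)

/-- The conclusion of the cover theorem. -/
def CoverOK (g : G) : Prop :=
  InTilde g ∨ ∃ (M₁ K₁ : Subgroup G) (y z : G), IsCoatom M₁ ∧ IsPiHallOf (kappa M₁) K₁ M₁ ∧ K₁ ≠ ⊥ ∧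
    z ∈ zHat M₁ K₁ ∧ g = y * z * y⁻¹

theorem CoverOK.conj {g : G} (h : CoverOK g) (c : G) : CoverOK (c * g * c⁻¹) := by
  rcases h with h | ⟨M₁, K₁, y, z, h1, h2, h3, h4, rfl⟩
  · exact Or.inl (h.conj c)
  · exact Or.inr ⟨M₁, K₁, c * y, z, h1, h2, h3, h4, by group⟩

theorem coverOK_of_mem (hG : IsMinSimpleOddOrder G) (hK : KappaFacts G) {M : Subgroup G} (hM : IsCoatom M) {g : G}
    (hgM : g ∈ M) {p : ℕ} (hp : p.Prime) (hpσ : p ∈ sigma M) (hpd : p ∣ orderOf g) : CoverOK g := by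
  rcases lemmaY' hG hK hM hgM hp hpσ hpd with h | ⟨K₁, h1, h2, h3⟩
  · exact Or.inl h
  · exact Or.inr ⟨M, K₁, 1, g, hM, h1, h2, h3, by group⟩

/-- **Cover.** -/
theorem cover (hG : IsMinSimpleOddOrder G) (hK : KappaFacts G) {g : G} (hg : g ≠ 1) : CoverOK g := by
  classical
  have hno : orderOf g ≠ 1 := fun h => hg (orderOf_eq_one_iff.mp h)
  obtain ⟨p, hp, hpd⟩ := Nat.exists_prime_and_dvd hno
  haveI : Fact p.Prime := ⟨hp⟩
  set z : G := g ^ (orderOf g / p) with hz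
  have hzo : orderOf z = p := orderOf_pow_orderOf_div (orderOf_pos _).ne' hpd
  have hz1 : z ≠ 1 := by
    intro h
    rw [h, orderOf_one] at hzo
    exact hp.one_lt.ne hzo
  obtain ⟨M₀, hM₀, hpM₀⟩ := exists_sigma_of_dvd hG hp (hpd.trans (Subgroup.orderOf_dvd_natCard ⊤ (Subgroup.mem_top g)
    |>.trans (by rw [Subgroup.card_top])))
  have hzb : zpowers z ≠ ⊥ := by simpa using hz1
  obtain ⟨c, hc⟩ := Cfsg.Agent.S1425.result hG M₀ hM₀ (zpowers z) hzb (by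
    intro q hq hd
    rw [Nat.card_zpowers, hzo] at hd
    rw [(Nat.prime_dvd_prime_iff_eq hq hp).mp hd]
    exact hpM₀)
  have hc' : c * z * c⁻¹ ∈ sigmaCore M₀ := hc ⟨z, mem_zpowers z, rfl⟩
  set M₁ : Subgroup G := cj M₀ c⁻¹ with hM₁
  have hM₁c : IsCoatom M₁ := Cfsg.Agent.Lib.BGUniq3.isCoatom_cj hM₀ c⁻¹
  have hzM₁ : z ∈ sigmaCore M₁ := by
    rw [hM₁, Cfsg.Agent.Lib.BGZ1.sigmaCore_cj, mem_cj]
    simpa using hc'
  have hpM₁ : p ∈ sigma M₁ := by
    rw [hM₁, Cfsg.Agent.Lib.BGZ1.sigma_cj_eq]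
    exact hpM₀
  by_cases hgM : g ∈ M₁
  · exact coverOK_of_mem hG hK hM₁c hgM hp hpM₁ hpd
  have hgC : g ∈ centralizer ({z} : Set G) := by
    rw [Subgroup.mem_centralizer_singleton_iff, hz]
    exact ((Commute.refl g).pow_right _).eq
  have hCM : ¬ centralizer ({z} : Set G) ≤ M₁ := fun h => hgM (h hgC)
  obtain ⟨N, ⟨hN, hCN⟩, hU, hσF, hRn, hc1, hc2, -⟩ := main75 hG hK hM₁c hzM₁ hz1 hCM
  have hgN : g ∈ N := hCN hgC
  by_cases hq : ∃ q : ℕ, q.Prime ∧ q ∣ orderOf g ∧ q ∈ sigma N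
  · obtain ⟨q, hq, hqd, hqσ⟩ := hq
    exact coverOK_of_mem hG hK hN hgN hq hqσ hqd
  push Not at hq
  -- `g` is conjugate into `M₁` by an element of `C_G(z)`
  set C : Subgroup G := centralizer ({z} : Set G) with hC
  set D : Subgroup G := M₁ ⊓ C with hD
  have hCs : Group.IsSolvable C := IsMin.solvable hG (IsMin.centralizer_singleton_ne_top hG hz1)
  have hDprimes : ∀ q : ℕ, q.Prime → q ∣ Nat.card D → q ∉ sigma N := by
    intro q hq' hqd hqσ
    have hDE : D ≤ M₁ ⊓ N := le_inf inf_le_left (inf_le_right.trans hCN)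
    apply (sigma_hall hG hN).1.2.2 q hq' hqσ
    have h3 := card_compl hc2
    have h4 : Nat.card (sigmaCore N) * (sigmaCore N).relIndex N = Nat.card N := by
      have := Subgroup.card_mul_index ((sigmaCore N).subgroupOf N)
      rwa [card_subgroupOf_of_le sigmaCore_le] at this
    have h5 : (sigmaCore N).relIndex N = Nat.card (M₁ ⊓ N : Subgroup G) := by
      apply Nat.eq_of_mul_eq_mul_left (Nat.card_pos (α := sigmaCore N))
      rw [h4, ← h3, mul_comm]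
    rw [h5]
    exact hqd.trans (Subgroup.card_dvd_of_le hDE)
  have hHall : IsPiHallOf {q | q.Prime ∧ q ∉ sigma N} D C := by
    refine ⟨inf_le_right, fun q hq' hqd => ⟨hq', hDprimes q hq' hqd⟩, ?_⟩
    rintro q hq' ⟨-, hqσ⟩ hqd
    have h3 := Cfsg.Agent.Lib.OddOrderCore.card_mul_card_of_isComplIn hc1
    have h4 : Nat.card D * D.relIndex C = Nat.card C := by
      have := Subgroup.card_mul_index (D.subgroupOf C)
      rwa [card_subgroupOf_of_le (inf_le_right : D ≤ C)] at this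
    have h5 : D.relIndex C = Nat.card (sigmaCore N ⊓ centralizer ({z} : Set G) : Subgroup G) := by
      apply Nat.eq_of_mul_eq_mul_left (Nat.card_pos (α := D))
      rw [h4, ← h3]
    rw [h5] at hqd
    exact hqσ (primes_sigmaCore q hq' (hqd.trans (Subgroup.card_dvd_of_le inf_le_left)))
  obtain ⟨c₁, hc₁C, hc₁⟩ := Cfsg.Agent.Lib.BGCent.exists_conj_hall hCs hHall (zpowers_le_of_mem hgC) (by
    intro q hq' hqd
    rw [Nat.card_zpowers] at hqd
    exact ⟨hq', hq q hq' hqd⟩)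
  have hg' : c₁⁻¹ * g * c₁ ∈ D := by
    have := hc₁ (mem_zpowers g)
    rwa [mem_cj] at this
  have hg'M : c₁⁻¹ * g * c₁ ∈ M₁ := (Subgroup.mem_inf.mp hg').1
  have hord : orderOf (c₁⁻¹ * g * c₁) = orderOf g := by
    have : c₁⁻¹ * g * c₁ = c₁⁻¹ * g * c₁⁻¹⁻¹ := by group
    rw [this]
    exact orderOf_conj_eq _ _
  have h := coverOK_of_mem hG hK hM₁c hg'M hp hpM₁ (by rwa [hord])
  have h2 := h.conj c₁
  have h3 : c₁ * (c₁⁻¹ * g * c₁) * c₁⁻¹ = g := by group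
  rwa [h3] at h2

end Cfsg.Agent.Lib.BGCent
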