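import Mathlib
import Cfsg.Agent.Lib.BGZ2
import Cfsg.Agent.Lib.BGZ3

/-!
# Bender-Glauberman section 14: the family of maximal subgroups attached to `Z = K K*`, and the count.
-/

set_option autoImplicit false
set_option linter.unusedSectionVars false
set_option linter.unusedVariables false
set_option linter.style.haveILetI false
set_option linter.unusedSimpArgs false

namespace Cfsg.Agent.Lib.BGZ4

open Cfsg Subgroup Cfsg.Agent.Lib.CoprimeInv Cfsg.Agent.Lib.BGTrans Cfsg.Agent.Lib.BGM1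
  Cfsg.Agent.Lib.BGSigma2 Cfsg.Agent.Lib.BGM2 Cfsg.Agent.Lib.BGZ1 Cfsg.Agent.Lib.OddOrderCore
  Cfsg.Agent.Lib.BGSigma4 Cfsg.Agent.Lib.BGZ2 Cfsg.Agent.Lib.BGZ3

universe u

variable {G : Type u} [Group G] [Finite G]

/-- `H` belongs to the family of `Z`, with complement `A`. -/
structure Fam (Z H A : Subgroup G) : Prop where
  good : Good H A
  eq : zz H A = Z

namespace Fam

variable {Z H A : Subgroup G} (h : Fam Z H A)
include h

theorem A_le : A ≤ Z := by rw [← h.eq]; exact le_sup_left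

theorem T_le : kst H A ≤ Z := by rw [← h.eq]; exact le_sup_right

theorem Z_le : Z ≤ H := by rw [← h.eq]; exact h.good.zz_le

theorem parts {z : G} (hz : z ∈ Z) : ∃ a ∈ A, ∃ t ∈ kst H A, z = a * t ∧ (∃ n : ℕ, z ^ n = a) ∧ (∃ m : ℕ, z ^ m = t) := by
  rw [← h.eq] at hz
  obtain ⟨a, ha, t, ht, rfl⟩ := h.good.mem_zz hz
  have hcop : (orderOf a).Coprime (orderOf t) :=
    Nat.Coprime.coprime_dvd_left (Subgroup.orderOf_dvd_natCard A ha)
      (Nat.Coprime.coprime_dvd_right (Subgroup.orderOf_dvd_natCard _ ht) h.good.coprime)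
  obtain ⟨h1, h2⟩ := pow_parts (h.good.comm ha ht) hcop
  exact ⟨a, ha, t, ht, rfl, h1, h2⟩

theorem mem_T_of_coprime {z : G} (hz : z ∈ Z) (hc : (orderOf z).Coprime (Nat.card A)) : z ∈ kst H A := by
  obtain ⟨a, ha, t, ht, rfl, ⟨n, hn⟩, -⟩ := h.parts hz
  have h1 : orderOf a ∣ orderOf (a * t) := by
    conv_lhs => rw [← hn]
    exact orderOf_pow_dvd n
  have h2 : orderOf a = 1 :=
    Nat.eq_one_of_dvd_coprimes hc h1 (Subgroup.orderOf_dvd_natCard A ha)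
  rw [orderOf_eq_one_iff] at h2
  rw [h2, one_mul]
  exact ht

theorem mem_A_of_coprime {z : G} (hz : z ∈ Z) (hc : (orderOf z).Coprime (Nat.card (kst H A))) : z ∈ A := by
  obtain ⟨a, ha, t, ht, rfl, -, ⟨n, hn⟩⟩ := h.parts hz
  have h1 : orderOf t ∣ orderOf (a * t) := by
    conv_lhs => rw [← hn]
    exact orderOf_pow_dvd n
  have h2 : orderOf t = 1 :=
    Nat.eq_one_of_dvd_coprimes hc h1 (Subgroup.orderOf_dvd_natCard _ ht)
  rw [orderOf_eq_one_iff] at h2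
  rw [h2, mul_one]
  exact ha

theorem kst_eq : kst H A = Z ⊓ sigmaCore H := by
  apply le_antisymm (le_inf h.T_le h.good.kst_le_core)
  rintro z ⟨hz, hzc⟩
  obtain ⟨a, ha, t, ht, rfl, ⟨n, hn⟩, -⟩ := h.parts hz
  have h1 : a ∈ A ⊓ sigmaCore H := ⟨ha, by rw [← hn]; exact pow_mem hzc n⟩
  rw [h.good.inf_core] at h1
  have h2 : a = 1 := h1
  rw [h2, one_mul]
  exact ht

theorem le_or {X : Subgroup G} (hX : X ≤ Z) (hXp : (Nat.card X).Prime) : X ≤ A ∨ X ≤ kst H A := by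
  obtain ⟨x, hx, hx1, hXz, -⟩ := exists_gen hXp
  obtain ⟨a, ha, t, ht, hxe, ⟨n, hn⟩, ⟨m, hm⟩⟩ := h.parts (hX hx)
  by_cases ha1 : a = 1
  · right
    rw [hXz, zpowers_le, hxe, ha1, one_mul]
    exact ht
  · left
    have : a ∈ X := by rw [← hn]; exact pow_mem hx n
    rw [eq_zpowers_of_prime hXp this ha1, zpowers_le]
    exact ha

theorem coprime_of_dvd_A_T {p : ℕ} (hp : p.Prime) (hd : p ∣ Nat.card A) : ¬ p ∣ Nat.card (kst H A) := by
  intro hd2
  have := Nat.eq_one_of_dvd_coprimes h.good.coprime hd hd2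
  exact hp.ne_one this

variable (I : Inp G)
include I

/-- Every prime-order subgroup of `Z` lies in `T(H')` for some member of the family. -/
theorem cover {X : Subgroup G} (hX : X ≤ Z) (hXp : (Nat.card X).Prime) :
    ∃ H' A', Fam Z H' A' ∧ X ≤ kst H' A' := by
  rcases h.le_or hX hXp with h1 | h1
  · have hXne : X ≠ ⊥ := by
      rintro rfl
      simp at hXp
      exact Nat.not_prime_one hXp
    haveI : Fact (Nat.card X).Prime := ⟨hXp⟩
    have hq : IsPGroup (Nat.card X) X := IsPGroup.of_card (n := 1) (by simp)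
    obtain ⟨L, hL, hN⟩ := exists_coatom_ge
      (IsMin.normalizer_ne_top I.hG hXne (IsMin.isPGroup_ne_top I.hG hq))
    obtain ⟨B, hB, -, hXB, -, hz⟩ := h.good.step I h1 hXp hL hN
    exact ⟨L, B, ⟨hB, hz.trans h.eq⟩, hXB⟩
  · exact ⟨H, A, h, h1⟩


theorem eq_of_common {H' A' P : Subgroup G} (h' : Fam Z H' A') (hP : P ≤ kst H A) (hP' : P ≤ kst H' A')
    (hPp : (Nat.card P).Prime) : H = H' := by
  obtain ⟨hN, hu⟩ := h.good.normalizer_unique I hP hPp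
  obtain ⟨hN', -⟩ := h'.good.normalizer_unique I hP' hPp
  exact (hu H' h'.good.hM hN').symm

theorem eq_of_dvd {H' A' : Subgroup G} {p : ℕ} (h' : Fam Z H' A') (hp : p.Prime)
    (hd : p ∣ Nat.card (kst H A)) (hd' : p ∣ Nat.card (kst H' A')) : H = H' := by
  obtain ⟨P, hP', hPc⟩ := exists_prime_sub hp hd'
  have hPp : (Nat.card P).Prime := by rw [hPc]; exact hp
  rcases h.le_or (hP'.trans h'.T_le) hPp with h1 | h1
  · exfalso
    exact h.coprime_of_dvd_A_T hp (hPc ▸ Subgroup.card_dvd_of_le h1) hd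
  · exact h.eq_of_common I h' h1 hP' hPp

theorem coprime_T {H' A' : Subgroup G} (h' : Fam Z H' A') (hne : H ≠ H') :
    (Nat.card (kst H A)).Coprime (Nat.card (kst H' A')) :=
  Nat.coprime_of_dvd fun p hp h1 h2 => hne (h.eq_of_dvd I h' hp h1 h2)

theorem T_le_A {H' A' : Subgroup G} (h' : Fam Z H' A') (hne : H ≠ H') : kst H' A' ≤ A := by
  intro z hz
  apply h.mem_A_of_coprime (h'.T_le hz)
  exact Nat.Coprime.coprime_dvd_left (Subgroup.orderOf_dvd_natCard _ hz) (h.coprime_T I h' hne).symm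

theorem T_ne : kst H A ≠ ⊥ := h.good.kst_ne I

theorem sigma_disj {H' A' : Subgroup G} (h' : Fam Z H' A') (hne : H ≠ H') : sigma H ∩ sigma H' = ∅ := by
  by_contra hcon
  obtain ⟨g, hg⟩ := I.thmD H H' h.good.hM h'.good.hM (Set.nonempty_iff_ne_empty.mpr hcon)
  obtain ⟨P, hP, hPp⟩ := exists_prime_le (h'.T_ne I)
  have hpσ : Nat.card P ∈ sigma H := by
    have h1 : Nat.card P ∈ sigma H' :=
      primes_sigmaCore _ hPp (Subgroup.card_dvd_of_le (hP.trans h'.good.kst_le_core))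
    rw [hg] at h1
    rwa [sigma_cj_eq] at h1
  rcases h.le_or (hP.trans h'.T_le) hPp with h1 | h1
  · exact h.good.not_sigma _ hPp (Subgroup.card_dvd_of_le h1) hpσ
  · by_cases hgH : g ∈ H
    · have h2 : H' = H := by rw [hg]; exact cj_eq_of_mem_normalizer (le_normalizer hgH)
      exact hne h2.symm
    · have h2 := h.good.f4 I hgH
      have h3 : P ≤ kst H A ⊓ cj H g := le_inf h1 (by
        have h4 := hP.trans h'.good.kst_le
        rw [hg] at h4
        exact h4)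
      rw [h2, le_bot_iff] at h3
      exact h.good.prime_ne I hPp h3

theorem core_inf {H' A' : Subgroup G} (h' : Fam Z H' A') (hne : H ≠ H') : sigmaCore H ⊓ sigmaCore H' = ⊥ := by
  apply inf_eq_bot_of_coprime'
  apply Nat.coprime_of_dvd
  intro p hp h1 h2
  have h3 := h.sigma_disj I h' hne
  have h4 : p ∈ sigma H ∩ sigma H' := ⟨primes_sigmaCore p hp h1, primes_sigmaCore p hp h2⟩
  rw [h3] at h4
  exact h4

theorem inf_comm_parts {H' A' : Subgroup G} (h' : Fam Z H' A') (hne : H ≠ H') {u v : G}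
    (hu : u ∈ H ⊓ H') (huc : u ∈ sigmaCore H) (hv : v ∈ H ⊓ H') (hvc : v ∈ sigmaCore H') : u * v = v * u := by
  have h1 : u * v * u⁻¹ * v⁻¹ ∈ sigmaCore H := by
    have h2 : v * u⁻¹ * v⁻¹ ∈ sigmaCore H :=
      (mem_normalizer_iff.mp (le_normalizer_sigmaCore hv.1) u⁻¹).mp (inv_mem huc)
    have h3 : u * v * u⁻¹ * v⁻¹ = u * (v * u⁻¹ * v⁻¹) := by group
    rw [h3]
    exact mul_mem huc h2
  have h2 : u * v * u⁻¹ * v⁻¹ ∈ sigmaCore H' := by
    have h3 : u * v * u⁻¹ ∈ sigmaCore H' :=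
      (mem_normalizer_iff.mp (le_normalizer_sigmaCore hu.2) v).mp hvc
    exact mul_mem h3 (inv_mem hvc)
  have h3 : u * v * u⁻¹ * v⁻¹ ∈ sigmaCore H ⊓ sigmaCore H' := ⟨h1, h2⟩
  rw [h.core_inf I h' hne] at h3
  have h4 : u * v * u⁻¹ * v⁻¹ = 1 := h3
  calc u * v = (u * v * u⁻¹ * v⁻¹) * (v * u) := by group
    _ = v * u := by rw [h4, one_mul]

theorem core_part_le {H' A' : Subgroup G} (h' : Fam Z H' A') (hne : H ≠ H') {u : G}
    (hu : u ∈ H ⊓ H') (huc : u ∈ sigmaCore H) : u ∈ kst H A := by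
  obtain ⟨k, hk, hk1⟩ := exists_mem_ne_one (h'.T_ne I)
  have hkD : k ∈ H ⊓ H' := ⟨h.Z_le (h'.T_le hk), h'.Z_le (h'.T_le hk)⟩
  have h1 := h.inf_comm_parts I h' hne hu huc hkD (h'.good.kst_le_core hk)
  rw [← h.good.f1 I (h.T_le_A I h' hne hk) hk1]
  exact ⟨huc, mem_centralizer_singleton_iff.mpr h1⟩

/-- Two members of the family meet exactly in `Z`. -/
theorem inf_eq {H' A' : Subgroup G} (h' : Fam Z H' A') (hne : H ≠ H') : H ⊓ H' = Z := by
  apply le_antisymm _ (le_inf h.Z_le h'.Z_le)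
  intro g hg
  by_contra hgZ
  have h1 := h.good.f5 I hg.1 (by rw [h.eq]; exact hgZ)
  have h2 : kst H' A' ≤ A ⊓ cj A g := by
    refine le_inf (h.T_le_A I h' hne) ?_
    intro t ht
    rw [mem_cj]
    have htD : t ∈ H ⊓ H' := ⟨h.Z_le (h'.T_le ht), h'.Z_le (h'.T_le ht)⟩
    have hgD : g⁻¹ ∈ H ⊓ H' := inv_mem hg
    have h3 : g⁻¹ * t * g⁻¹⁻¹ ∈ H ⊓ H' := mul_mem (mul_mem hgD htD) (inv_mem hgD)
    have h4 : g⁻¹ * t * g⁻¹⁻¹ ∈ sigmaCore H' :=
      (mem_normalizer_iff.mp (le_normalizer_sigmaCore hgD.2) t).mp (h'.good.kst_le_core ht)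
    have h5 := h'.core_part_le I h hne.symm (u := g⁻¹ * t * g⁻¹⁻¹) ⟨h3.2, h3.1⟩ h4
    rw [inv_inv] at h5
    exact h.T_le_A I h' hne h5
  rw [h1, le_bot_iff] at h2
  exact h'.T_ne I h2

end Fam

/-- The family attached to `Z`. -/
noncomputable def fams (Z : Subgroup G) : Finset (Subgroup G) :=
  (Set.toFinite {H : Subgroup G | ∃ A, Fam Z H A}).toFinset

theorem mem_fams {Z H : Subgroup G} : H ∈ fams Z ↔ ∃ A, Fam Z H A := by
  simp [fams]

/-- The elements of `Z` which lie in no `T(H)`. -/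
def hat (Z : Subgroup G) : Set G := {z | z ∈ Z ∧ ∀ H ∈ fams Z, z ∉ Z ⊓ sigmaCore H}

/-- The set `~M_σ`. -/
abbrev til (H : Subgroup G) : Set G := tildeOf H ((sigmaCore H : Set G) \ {1})


theorem mem_hat_not {Z H A : Subgroup G} (h : Fam Z H A) {z : G} (hz : z ∈ hat Z) : z ∉ kst H A := by
  rw [h.kst_eq]
  exact hz.2 H (mem_fams.mpr ⟨A, h⟩)

namespace Fam

variable {Z H A : Subgroup G} (h : Fam Z H A) (I : Inp G)
include h I

/-- A non-trivial power of `z` outside `T(H)` in some other `T(H')`. -/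
theorem exists_other {z : G} (hz : z ∈ Z) (hzT : z ∉ kst H A) :
    ∃ H' A' , Fam Z H' A' ∧ H' ≠ H ∧ ∃ n : ℕ, z ^ n ∈ kst H' A' ∧ z ^ n ≠ 1 := by
  obtain ⟨a, ha, t, ht, rfl, ⟨n, hn⟩, -⟩ := h.parts hz
  have ha1 : a ≠ 1 := by
    rintro rfl
    rw [one_mul] at hzT
    exact hzT ht
  have hne : zpowers a ≠ ⊥ := by rwa [Ne, zpowers_eq_bot]
  obtain ⟨X, hX, hXp⟩ := exists_prime_le hne
  have hXA : X ≤ A := hX.trans (by rw [zpowers_le]; exact ha)
  obtain ⟨x, hxX, hx1, -, -⟩ := exists_gen hXp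
  obtain ⟨H', A', hF, hXT⟩ := h.cover I (hXA.trans h.A_le) hXp
  have hxa : x ∈ zpowers a := hX hxX
  rw [← mem_powers_iff_mem_zpowers] at hxa
  obtain ⟨k, rfl⟩ := hxa
  refine ⟨H', A', hF, ?_, n * k, ?_, ?_⟩
  · rintro rfl
    have h2 : a ^ k ∈ kst H' A := by
      rw [h.kst_eq, ← hF.kst_eq]
      exact hXT hxX
    have h3 : a ^ k ∈ A ⊓ kst H' A := ⟨hXA hxX, h2⟩
    rw [h.good.inf_kst] at h3
    exact hx1 h3
  · rw [pow_mul, hn]
    exact hXT hxX
  · rw [pow_mul, hn]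
    exact hx1

theorem hat_two {z : G} (hz : z ∈ hat Z) : ∃ H₁ A₁ H₂ A₂, Fam Z H₁ A₁ ∧ Fam Z H₂ A₂ ∧ H₁ ≠ H₂ ∧
    (∃ n : ℕ, z ^ n ∈ kst H₁ A₁ ∧ z ^ n ≠ 1) ∧ (∃ m : ℕ, z ^ m ∈ kst H₂ A₂ ∧ z ^ m ≠ 1) := by
  obtain ⟨H₁, A₁, hF₁, -, h₁⟩ := h.exists_other I hz.1 (mem_hat_not h hz)
  obtain ⟨H₂, A₂, hF₂, hne, h₂⟩ := hF₁.exists_other I hz.1 (mem_hat_not hF₁ hz)
  exact ⟨H₁, A₁, H₂, A₂, hF₁, hF₂, hne.symm, h₁, h₂⟩

omit h in
theorem mem_of_conj_power (h : Fam Z H A) {z g : G} {n : ℕ} (hw : z ^ n ∈ kst H A) (hw1 : z ^ n ≠ 1)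
    (hg : g * z * g⁻¹ ∈ Z) : g ∈ H := by
  have hu : g * z ^ n * g⁻¹ = (g * z * g⁻¹) ^ n := (conj_pow).symm
  have huZ : g * z ^ n * g⁻¹ ∈ Z := by rw [hu]; exact pow_mem hg n
  have hord : orderOf (g * z ^ n * g⁻¹) = orderOf (z ^ n) := by
    have := (MulAut.conj g).orderOf_eq (z ^ n)
    rwa [MulAut.conj_apply] at this
  have huT : g * z ^ n * g⁻¹ ∈ kst H A := by
    apply h.mem_T_of_coprime huZ
    rw [hord]
    exact Nat.Coprime.coprime_dvd_left (Subgroup.orderOf_dvd_natCard _ hw) h.good.coprime.symm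
  by_contra hgH
  have hg' : g⁻¹ ∉ H := fun h2 => hgH (by simpa using inv_mem h2)
  have h1 := h.good.f4 I hg'
  have h2 : z ^ n ∈ kst H A ⊓ cj H g⁻¹ := by
    refine ⟨hw, ?_⟩
    show z ^ n ∈ cj H g⁻¹
    rw [mem_cj, inv_inv]
    exact h.good.kst_le huT
  rw [h1] at h2
  exact hw1 h2

/-- The set `hat Z` is a TI-set with normalizer `Z`. -/
theorem hat_ti {z : G} (hz : z ∈ hat Z) {g : G} (hg : g * z * g⁻¹ ∈ Z) : g ∈ Z := by
  obtain ⟨H₁, A₁, H₂, A₂, hF₁, hF₂, hne, ⟨n, h₁, h₁'⟩, ⟨m, h₂, h₂'⟩⟩ := h.hat_two I hz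
  rw [← hF₁.inf_eq I hF₂ hne]
  exact ⟨mem_of_conj_power I hF₁ h₁ h₁' hg, mem_of_conj_power I hF₂ h₂ h₂' hg⟩

end Fam

theorem hat_inv {Z : Subgroup G} {z u : G} (hz : z ∈ hat Z) (hu : u ∈ Z) : u * z * u⁻¹ ∈ hat Z := by
  refine ⟨mul_mem (mul_mem hu hz.1) (inv_mem hu), ?_⟩
  intro H hH he
  obtain ⟨A, hA⟩ := mem_fams.mp hH
  apply hz.2 H hH
  refine ⟨hz.1, ?_⟩
  have h1 : u⁻¹ * (u * z * u⁻¹) * u⁻¹⁻¹ ∈ sigmaCore H :=
    (mem_normalizer_iff.mp (le_normalizer_sigmaCore (hA.Z_le (inv_mem hu))) _).mp he.2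
  have h2 : u⁻¹ * (u * z * u⁻¹) * u⁻¹⁻¹ = z := by group
  rwa [h2] at h1

/-- The count of `hat Z`. -/
theorem card_hat {Z H A : Subgroup G} (h : Fam Z H A) (I : Inp G) :
    (hat Z).ncard + ∑ H ∈ fams Z, Nat.card ↥(Z ⊓ sigmaCore H) + 1 = Nat.card Z + (fams Z).card := by
  classical
  let W : Subgroup G → Set G := fun H => (↑(Z ⊓ sigmaCore H : Subgroup G) : Set G) \ {1}
  have hd : ∀ H₁ ∈ fams Z, ∀ H₂ ∈ fams Z, H₁ ≠ H₂ → Disjoint (W H₁) (W H₂) := by
    intro H₁ h₁ H₂ h₂ hne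
    obtain ⟨A₁, hA₁⟩ := mem_fams.mp h₁
    obtain ⟨A₂, hA₂⟩ := mem_fams.mp h₂
    rw [Set.disjoint_left]
    rintro x ⟨hx, hx1⟩ ⟨hx', -⟩
    have hi := inf_eq_bot_of_coprime' (hA₁.coprime_T I hA₂ hne)
    rw [hA₁.kst_eq, hA₂.kst_eq] at hi
    have h3 : x ∈ (Z ⊓ sigmaCore H₁) ⊓ (Z ⊓ sigmaCore H₂) := ⟨hx, hx'⟩
    rw [hi] at h3
    exact hx1 h3
  have hsum := sum_ncard_eq (fams Z) W hd
  have hW : ∀ H ∈ fams Z, (W H).ncard + 1 = Nat.card ↥(Z ⊓ sigmaCore H) := by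
    intro H _
    have := Set.ncard_diff_singleton_add_one (s := (↑(Z ⊓ sigmaCore H : Subgroup G) : Set G)) (a := (1 : G))
      (one_mem _) (Set.toFinite _)
    rw [ncard_coe] at this
    exact this
  have hS : ∑ H ∈ fams Z, Nat.card ↥(Z ⊓ sigmaCore H) = ∑ H ∈ fams Z, (W H).ncard + (fams Z).card := by
    rw [← Finset.sum_congr rfl hW, Finset.sum_add_distrib]
    simp
  have hH : H ∈ fams Z := mem_fams.mpr ⟨A, h⟩
  have h1hat : (1 : G) ∉ hat Z ∪ ⋃ H ∈ fams Z, W H := by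
    rintro (h1 | h1)
    · exact h1.2 H hH ⟨one_mem _, one_mem _⟩
    · simp only [Set.mem_iUnion, exists_prop] at h1
      obtain ⟨H', -, -, h2⟩ := h1
      exact h2 rfl
  have hunion : (Z : Set G) = insert 1 (hat Z ∪ ⋃ H ∈ fams Z, W H) := by
    ext x
    simp only [Set.mem_insert_iff, Set.mem_union, Set.mem_iUnion, exists_prop, SetLike.mem_coe]
    constructor
    · intro hx
      by_cases hx1 : x = 1
      · exact Or.inl hx1
      · right
        by_cases hh : x ∈ hat Z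
        · exact Or.inl hh
        · right
          have : ∃ H ∈ fams Z, x ∈ Z ⊓ sigmaCore H := by
            by_contra hcon
            push Not at hcon
            exact hh ⟨hx, hcon⟩
          obtain ⟨H', h3, h4⟩ := this
          exact ⟨H', h3, h4, hx1⟩
    · rintro (rfl | h2 | ⟨H', -, h3, -⟩)
      · exact one_mem _
      · exact h2.1
      · exact h3.1
  have hdisj : Disjoint (hat Z) (⋃ H ∈ fams Z, W H) := by
    rw [Set.disjoint_left]
    intro x hx h2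
    simp only [Set.mem_iUnion, exists_prop] at h2
    obtain ⟨H', h3, h4, -⟩ := h2
    exact hx.2 H' h3 h4
  have hcard : Nat.card Z = (hat Z).ncard + (⋃ H ∈ fams Z, W H).ncard + 1 := by
    rw [← ncard_coe, hunion, Set.ncard_insert_of_notMem h1hat (Set.toFinite _),
      Set.ncard_union_eq hdisj (Set.toFinite _) (Set.toFinite _)]
  rw [hS, hsum, hcard]
  ring

/-- Facts on conjugating `x R(x)`. -/
theorem til_conj (I : Inp G) {H : Subgroup G} (hH : IsCoatom H) {x r : G} (hx : x ∈ sigmaCore H) (hx1 : x ≠ 1)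
    (hr : r ∈ supportR H x) (y : G) :
    y * x * y⁻¹ ∈ sigmaCore (cj H y) ∧ y * x * y⁻¹ ≠ 1 ∧ y * r * y⁻¹ ∈ supportR (cj H y) (y * x * y⁻¹) := by
  refine ⟨?_, ?_, ?_⟩
  · rw [BGZ1.sigmaCore_cj]; exact conj_mem_cj hx
  · intro h
    apply hx1
    have : x = y⁻¹ * (y * x * y⁻¹) * y := by group
    rw [this, h]; group
  · rw [supportR_cj I hH hx hx1]; exact conj_mem_cj hr

theorem til_disj (I : Inp G) {H H' : Subgroup G} (hH : IsCoatom H) (hH' : IsCoatom H')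
    (hσ : sigma H ∩ sigma H' = ∅) : Disjoint (til H) (til H') := by
  rw [Set.disjoint_left]
  rintro t ⟨x, ⟨hx, hx1⟩, r, hr, y, rfl⟩ ⟨x', ⟨hx', hx1'⟩, r', hr', y', he⟩
  obtain ⟨ha, ha1, hr₁⟩ := til_conj I hH hx hx1 hr y
  obtain ⟨hb, hb1, hr₂⟩ := til_conj I hH' hx' hx1' hr' y'
  by_cases hab : y * x * y⁻¹ = y' * x' * y'⁻¹
  · rw [← hab] at hb
    obtain ⟨q, hq, hd⟩ := Nat.exists_prime_and_dvd (show orderOf (y * x * y⁻¹) ≠ 1 by simpa using ha1)
    have h1 : q ∈ sigma H := by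
      apply primes_sigmaCore q hq
      have := hd.trans (Subgroup.orderOf_dvd_natCard _ ha)
      rwa [BGZ1.sigmaCore_cj, card_cj] at this
    have h2 : q ∈ sigma H' := by
      apply primes_sigmaCore q hq
      have := hd.trans (Subgroup.orderOf_dvd_natCard _ hb)
      rwa [BGZ1.sigmaCore_cj, card_cj] at this
    have h3 : q ∈ sigma H ∩ sigma H' := ⟨h1, h2⟩
    rw [hσ] at h3
    exact h3
  · refine I.s33 _ _ (isCoatom_cj hH y) (isCoatom_cj hH' y') _ _ ha hb ha1 hb1 hab _ hr₁ _ hr₂ ?_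
    calc y * x * y⁻¹ * (y * r * y⁻¹) = y * (x * r) * y⁻¹ := by group
      _ = y' * (x' * r') * y'⁻¹ := he
      _ = _ := by group

/-- The conjugates of `hat Z`. -/
def cu (Z : Subgroup G) : Set G := {a : G | ∃ g : G, ∃ z ∈ hat Z, a = g * z * g⁻¹}

theorem hat_til_disj (I : Inp G) {Z H A : Subgroup G} (h : Fam Z H A) : Disjoint (cu Z) (til H) := by
  rw [Set.disjoint_left]
  rintro t ⟨g, z, hz, rfl⟩ ⟨x, ⟨hx, hx1⟩, r, hr, y, he⟩
  have hH := h.good.hM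
  set y₁ := g⁻¹ * y with hy₁
  obtain ⟨ha, ha1, hr₁⟩ := til_conj I hH hx hx1 hr y₁
  have hzr : z = (y₁ * x * y₁⁻¹) * (y₁ * r * y₁⁻¹) := by
    calc z = g⁻¹ * (g * z * g⁻¹) * g := by group
      _ = g⁻¹ * (y * (x * r) * y⁻¹) * g := by rw [he]
      _ = _ := by rw [hy₁]; group
  obtain ⟨hc, hcop⟩ := supportR_coprime I (isCoatom_cj hH y₁) ha ha1 hr₁
  obtain ⟨⟨n, hn⟩, ⟨m, hm⟩⟩ := pow_parts hc hcop
  rw [← hzr] at hn hm
  have haZ : y₁ * x * y₁⁻¹ ∈ Z := by rw [← hn]; exact pow_mem hz.1 n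
  have hcore : orderOf (y₁ * x * y₁⁻¹) ∣ Nat.card (sigmaCore H) := by
    have := Subgroup.orderOf_dvd_natCard _ ha
    rwa [BGZ1.sigmaCore_cj, card_cj] at this
  have haT : y₁ * x * y₁⁻¹ ∈ kst H A := by
    apply h.mem_T_of_coprime haZ
    exact Nat.Coprime.coprime_dvd_left hcore h.good.coprime_core.symm
  have hyH : y₁ ∈ H := by
    by_contra hcon
    have h1 := h.good.f4 I hcon
    have h2 : y₁ * x * y₁⁻¹ ∈ kst H A ⊓ cj H y₁ := ⟨haT, conj_mem_cj (sigmaCore_le hx)⟩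
    rw [h1] at h2
    exact ha1 h2
  have hcjH : cj H y₁ = H := cj_eq_of_mem_normalizer (le_normalizer hyH)
  rw [hcjH] at hr₁
  rw [supportR_of_le (h.good.cent_core I haT ha1)] at hr₁
  have hr1 : y₁ * r * y₁⁻¹ = 1 := hr₁
  rw [hr1, mul_one] at hzr
  apply mem_hat_not h hz
  rw [hzr]
  exact haT

/-- **The count**: if every member of the family has `H = A H_σ`, contradiction. -/
theorem count_contra (I : Inp G) {Z H₀ A₀ : Subgroup G} (h₀ : Fam Z H₀ A₀)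
    (hP : ∀ H A, Fam Z H A → Nat.card H = Nat.card A * Nat.card (sigmaCore H)) : False := by
  classical
  have hN : 0 < Nat.card G := Nat.card_pos
  -- two members
  have hf : 2 ≤ (fams Z).card := by
    obtain ⟨X, hX, hXp⟩ := exists_prime_le h₀.good.ne
    obtain ⟨H', A', hF, hH', -⟩ : ∃ H' A', Fam Z H' A' ∧ H' ≠ H₀ ∧ True := by
      obtain ⟨x, hx, hx1, -, -⟩ := exists_gen hXp
      have hx' : x ∉ kst H₀ A₀ := fun h2 => by
        have h3 : x ∈ A₀ ⊓ kst H₀ A₀ := ⟨hX hx, h2⟩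
        rw [h₀.good.inf_kst] at h3
        exact hx1 h3
      obtain ⟨H', A', hF, hne, -⟩ := h₀.exists_other I (h₀.A_le (hX hx)) hx'
      exact ⟨H', A', hF, hne, trivial⟩
    exact Finset.one_lt_card.mpr ⟨H', mem_fams.mpr ⟨A', hF⟩, H₀, mem_fams.mpr ⟨A₀, h₀⟩, hH'⟩
  -- contribution of one member
  have hper : ∀ H ∈ fams Z, 3 * Nat.card ↥(Z ⊓ sigmaCore H) * Nat.card G ≤
      3 * Nat.card Z * (til H).ncard + Nat.card G := by
    intro H hH
    obtain ⟨A, hA⟩ := mem_fams.mp hH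
    have e1 : (til H).ncard = (Nat.card (sigmaCore H) - 1) * H.index := tilde_card I hA.good.hM
    have e2 : Nat.card Z = Nat.card A * Nat.card (kst H A) := by
      rw [← hA.eq]; exact hA.good.card_zz
    have e3 : Nat.card G = Nat.card A * Nat.card (sigmaCore H) * H.index := by
      rw [← hP H A hA]; exact (Subgroup.card_mul_index H).symm
    have e4 : 3 * Nat.card (kst H A) ≤ Nat.card (sigmaCore H) := hA.good.three_le I
    rw [← hA.kst_eq, e1, e3, e2]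
    obtain ⟨s', hs'⟩ : ∃ s', Nat.card (sigmaCore H) = s' + 1 := Nat.exists_eq_succ_of_ne_zero Nat.card_pos.ne'
    rw [hs'] at e4 ⊢
    simp only [Nat.add_sub_cancel]
    set a := Nat.card A
    set z := Nat.card (kst H A)
    set i := H.index
    have : 3 * z * (a * i) ≤ (s' + 1) * (a * i) := Nat.mul_le_mul_right _ e4
    nlinarith
  have hsum : 3 * Nat.card Z * ∑ H ∈ fams Z, (til H).ncard + (fams Z).card * Nat.card G ≥
      3 * (∑ H ∈ fams Z, Nat.card ↥(Z ⊓ sigmaCore H)) * Nat.card G := by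
    have h1 := Finset.sum_le_sum hper
    simp only [Finset.sum_add_distrib, Finset.sum_const, smul_eq_mul] at h1
    rw [← Finset.mul_sum, ← Finset.sum_mul, ← Finset.mul_sum] at h1
    exact h1
  -- the conjugates of `hat Z`
  have hC := card_conj_union Z (hat Z) (fun z hz x hx => hat_inv hx hz)
    (fun x hx g hg => h₀.hat_ti I hx hg.1)
  have hH1 := card_hat h₀ I
  -- disjoint union
  have htot : (cu Z).ncard + ∑ H ∈ fams Z, (til H).ncard ≤ Nat.card G := by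
    have h1 := sum_ncard_eq (fams Z) til (by
      intro H₁ h₁ H₂ h₂ hne
      obtain ⟨A₁, hA₁⟩ := mem_fams.mp h₁
      obtain ⟨A₂, hA₂⟩ := mem_fams.mp h₂
      exact til_disj I hA₁.good.hM hA₂.good.hM (hA₁.sigma_disj I hA₂ hne))
    rw [h1]
    have h2 : Disjoint (cu Z) (⋃ H ∈ fams Z, til H) := by
      rw [Set.disjoint_left]
      intro x hx h3
      simp only [Set.mem_iUnion, exists_prop] at h3
      obtain ⟨H', h4, h5⟩ := h3
      obtain ⟨A', hA'⟩ := mem_fams.mp h4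
      exact Set.disjoint_left.mp (hat_til_disj I hA') hx h5
    rw [← Set.ncard_union_eq h2 (Set.toFinite _) (Set.toFinite _)]
    exact Set.ncard_le_card _
  -- arithmetic
  change (cu Z).ncard * Nat.card Z = Nat.card G * (hat Z).ncard at hC
  set N := Nat.card G
  set n := Nat.card Z
  set f := (fams Z).card
  set S := ∑ H ∈ fams Z, Nat.card ↥(Z ⊓ sigmaCore H)
  set τ := ∑ H ∈ fams Z, (til H).ncard
  set c := (cu Z).ncard
  set e := (hat Z).ncard
  have h1 : 3 * N * e + 3 * N * S + 3 * N = 3 * N * n + 3 * N * f := by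
    have h9 : 3 * N * (e + S + 1) = 3 * N * (n + f) := congrArg (fun w => 3 * N * w) hH1
    nlinarith
  have h2 : 3 * n * c + 3 * n * τ ≤ 3 * n * N := by
    have := Nat.mul_le_mul_left (3 * n) htot
    nlinarith
  have h3 : 3 * n * c = 3 * N * e := by nlinarith
  have h4 : 4 * N ≤ 2 * f * N := by nlinarith
  nlinarith

end Cfsg.Agent.Lib.BGZ4
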