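import Mathlib

/-!
# Elementary abelian sections as modules, and base change of fixed spaces
-/

set_option autoImplicit false
set_option linter.unusedSectionVars false
set_option linter.unusedVariables false
set_option linter.style.haveILetI false
set_option linter.unusedSimpArgs false
set_option linter.unusedDecidableInType false
set_option linter.unusedFintypeInType false

namespace Cfsg.Agent.Lib.BGSec

open Module TensorProduct

section Base

variable {F 𝕜 M : Type*} [Field F] [Field 𝕜] [Algebra F 𝕜] [AddCommGroup M] [Module F M]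

theorem finrank_ker_baseChange_le [FiniteDimensional F M] (A : M →ₗ[F] M) :
    finrank 𝕜 (LinearMap.ker (A.baseChange 𝕜)) ≤ finrank F (LinearMap.ker A) := by
  have hex : Function.Exact (LinearMap.ker A).subtype A := LinearMap.exact_subtype_ker_map A
  have hex2 := Module.Flat.lTensor_exact 𝕜 hex
  have h : LinearMap.ker (A.baseChange 𝕜) = LinearMap.range ((LinearMap.ker A).subtype.baseChange 𝕜) := by
    ext v
    rw [LinearMap.mem_ker, LinearMap.mem_range]
    have h2 := hex2 v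
    simp only [LinearMap.baseChange_eq_ltensor] at *
    constructor
    · intro hv
      obtain ⟨w, hw⟩ := h2.mp hv
      exact ⟨w, hw⟩
    · rintro ⟨w, hw⟩
      exact h2.mpr ⟨w, hw⟩
  rw [h]
  have h3 := LinearMap.finrank_range_le ((LinearMap.ker A).subtype.baseChange 𝕜)
  rw [Module.finrank_baseChange] at h3
  exact h3

/-- Base change on units. -/
noncomputable def bcU (𝕜 : Type*) [Field 𝕜] [Algebra F 𝕜] : (Module.End F M)ˣ →* (Module.End 𝕜 (𝕜 ⊗[F] M))ˣ :=
  Units.map (Module.End.baseChangeHom F 𝕜 M : Module.End F M →* Module.End 𝕜 (𝕜 ⊗[F] M))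

theorem bcU_val (g : (Module.End F M)ˣ) :
    ((bcU 𝕜 g : (Module.End 𝕜 (𝕜 ⊗[F] M))ˣ) : Module.End 𝕜 (𝕜 ⊗[F] M)) = LinearMap.baseChange 𝕜 (g : Module.End F M) := rfl

theorem bcU_injective : Function.Injective (bcU (F := F) (M := M) 𝕜) := by
  intro a b h
  apply Units.ext
  apply LinearMap.baseChangeHom_injective F M 𝕜
  exact congrArg Units.val h

theorem finrank_bcU_le [FiniteDimensional F M] (g : (Module.End F M)ˣ) :
    finrank 𝕜 (LinearMap.ker (((bcU 𝕜 g : (Module.End 𝕜 (𝕜 ⊗[F] M))ˣ) : Module.End 𝕜 (𝕜 ⊗[F] M)) - 1)) ≤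
      finrank F (LinearMap.ker ((g : Module.End F M) - 1)) := by
  have h := finrank_ker_baseChange_le (𝕜 := 𝕜) ((g : Module.End F M) - 1)
  have e : LinearMap.baseChange 𝕜 ((g : Module.End F M) - 1) =
      ((bcU 𝕜 g : (Module.End 𝕜 (𝕜 ⊗[F] M))ˣ) : Module.End 𝕜 (𝕜 ⊗[F] M)) - 1 := by
    rw [bcU_val, LinearMap.baseChange_sub]
    congr 1
    exact LinearMap.baseChange_id
  rwa [e] at h

end Base

section Sec

universe u

variable {G : Type u} [Group G]

theorem exists_rho {ℓ : ℕ} {M Q Γ : Type*} [AddCommGroup M] [Module (ZMod ℓ) M] [Group Γ] (f : Q → M)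
    (hf : Function.Surjective f) (ψ : Γ → (M →+ M)) (h1 : ∀ a, ψ 1 (f a) = f a)
    (hm : ∀ g h a, ψ (g * h) (f a) = ψ g (ψ h (f a))) :
    ∃ ρ : Γ →* (Module.End (ZMod ℓ) M)ˣ, ∀ g x, ((ρ g : Module.End (ZMod ℓ) M) x) = ψ g x := by
  let ρ₁ : Γ →* Module.End (ZMod ℓ) M :=
    { toFun := fun g => (ψ g).toZModLinearMap ℓ
      map_one' := by
        apply LinearMap.ext
        intro x
        obtain ⟨a, rfl⟩ := hf x
        rw [AddMonoidHom.coe_toZModLinearMap, Module.End.one_apply, h1]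
      map_mul' := by
        intro g h
        apply LinearMap.ext
        intro x
        obtain ⟨a, rfl⟩ := hf x
        rw [Module.End.mul_apply, AddMonoidHom.coe_toZModLinearMap, AddMonoidHom.coe_toZModLinearMap,
          AddMonoidHom.coe_toZModLinearMap, hm] }
  refine ⟨MonoidHom.toHomUnits ρ₁, fun g x => ?_⟩
  show (ψ g).toZModLinearMap ℓ x = _
  rw [AddMonoidHom.coe_toZModLinearMap]

/-- Elementary abelian sections as modules over the prime field. -/
theorem exists_sec (ℓ : ℕ) [Fact ℓ.Prime] [Finite G] (Q C Γ : Subgroup G) (hCQ : C ≤ Q)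
    (hab : ∀ a ∈ Q, ∀ b ∈ Q, a * b * a⁻¹ * b⁻¹ ∈ C) (hpow : ∀ a ∈ Q, a ^ ℓ ∈ C)
    (hΓQ : ∀ g ∈ Γ, ∀ a ∈ Q, g * a * g⁻¹ ∈ Q) (hΓC : ∀ g ∈ Γ, ∀ a ∈ C, g * a * g⁻¹ ∈ C) :
    ∃ (M : Type u) (_ : AddCommGroup M) (_ : Module (ZMod ℓ) M) (_ : Finite M) (f : ↥Q → M)
      (ρ : ↥Γ →* (Module.End (ZMod ℓ) M)ˣ),
      Function.Surjective f ∧ (∀ a b, f (a * b) = f a + f b) ∧ (∀ a, f a = 0 ↔ (a : G) ∈ C) ∧
      ∀ (g : ↥Γ) (a : ↥Q), ((ρ g : Module.End (ZMod ℓ) M) (f a)) =
        f ⟨(g : G) * a * (g : G)⁻¹, hΓQ g g.2 a a.2⟩ := by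
  classical
  let N : Subgroup ↥Q := C.subgroupOf Q
  have hmemN : ∀ a : ↥Q, a ∈ N ↔ (a : G) ∈ C := fun a => Subgroup.mem_subgroupOf
  haveI hN : N.Normal := by
    refine ⟨fun n hn g => ?_⟩
    rw [hmemN] at hn ⊢
    have h1 := hab g g.2 n n.2
    have e : ((g * n * g⁻¹ : ↥Q) : G) = ((g : G) * n * (g : G)⁻¹ * (n : G)⁻¹) * n := by
      simp only [Subgroup.coe_mul, Subgroup.coe_inv]
      group
    rw [e]
    exact C.mul_mem h1 hn
  letI iA : CommGroup (↥Q ⧸ N) :=
    { (QuotientGroup.Quotient.group N) with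
      mul_comm := by
        intro a b
        induction a using QuotientGroup.induction_on with
        | H a =>
        induction b using QuotientGroup.induction_on with
        | H b =>
        rw [← QuotientGroup.mk_mul, ← QuotientGroup.mk_mul, QuotientGroup.eq]
        rw [hmemN]
        have h1 := hab b b.2 a a.2
        have e : (((a * b)⁻¹ * (b * a) : ↥Q) : G) = (b : G)⁻¹ * ((a : G)⁻¹ * ((b : G) * a * (b : G)⁻¹ * (a : G)⁻¹) * a) * b := by
          simp only [Subgroup.coe_mul, Subgroup.coe_inv]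
          group
        have hb : ((b : G)⁻¹ * ((a : G)⁻¹ * ((b : G) * a * (b : G)⁻¹ * (a : G)⁻¹) * a) * b) =
            (((b⁻¹ * a⁻¹ : ↥Q) * ⟨_, hCQ h1⟩ * (b⁻¹ * a⁻¹ : ↥Q)⁻¹ : ↥Q) : G) := by
          simp only [Subgroup.coe_mul, Subgroup.coe_inv]
          group
        rw [e, hb, ← hmemN]
        exact hN.conj_mem _ ((hmemN _).mpr h1) _ }
  let M := Additive (↥Q ⧸ N)
  have hℓ : ∀ x : M, ℓ • x = 0 := by
    intro x
    induction x using Additive.rec with
    | ofMul a =>
    induction a using QuotientGroup.induction_on with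
    | H a =>
    rw [← ofMul_pow]
    have : ((a : ↥Q ⧸ N)) ^ ℓ = 1 := by
      rw [← QuotientGroup.mk_pow]
      rw [QuotientGroup.eq_one_iff, hmemN]
      exact hpow a a.2
    rw [this]
    rfl
  letI iM : Module (ZMod ℓ) M := AddCommGroup.zmodModule hℓ
  haveI hfin : Finite M := inferInstanceAs (Finite (↥Q ⧸ N))
  let f : ↥Q → M := fun a => Additive.ofMul (a : ↥Q ⧸ N)
  have hfsurj : Function.Surjective f := by
    intro x
    induction x using Additive.rec with
    | ofMul a =>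
    obtain ⟨a, rfl⟩ := QuotientGroup.mk_surjective a
    exact ⟨a, rfl⟩
  have hfadd : ∀ a b, f (a * b) = f a + f b := fun a b => rfl
  have hfker : ∀ a, f a = 0 ↔ (a : G) ∈ C := by
    intro a
    rw [← hmemN, ← QuotientGroup.eq_one_iff a]
    rfl
  -- conjugation on `Q`
  let φ : ↥Γ → (↥Q →* ↥Q) := fun g =>
    { toFun := fun a => ⟨(g : G) * a * (g : G)⁻¹, hΓQ g g.2 a a.2⟩
      map_one' := by
        apply Subtype.ext
        simp
      map_mul' := by
        intro a b
        apply Subtype.ext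
        simp only [Subgroup.coe_mul]
        group }
  have hφN : ∀ g, N ≤ N.comap (φ g) := by
    intro g a ha
    rw [Subgroup.mem_comap, hmemN]
    exact hΓC g g.2 a ((hmemN a).mp ha)
  let ψ : ↥Γ → (M →+ M) := fun g =>
    MonoidHom.toAdditive (QuotientGroup.map N N (φ g) (hφN g))
  have hψ : ∀ g a, ψ g (f a) = f (φ g a) := fun g a => rfl
  obtain ⟨ρ, hρ⟩ := exists_rho (ℓ := ℓ) (Γ := ↥Γ) f hfsurj ψ (by
      intro a
      rw [hψ]
      congr 1
      apply Subtype.ext
      simp [φ]) (by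
      intro g h a
      rw [hψ, hψ, hψ]
      congr 1
      apply Subtype.ext
      show (g : G) * h * a * ((g : G) * h)⁻¹ = (g : G) * (h * a * (h : G)⁻¹) * (g : G)⁻¹
      group)
  refine ⟨M, inferInstance, iM, hfin, f, ρ, hfsurj, hfadd, hfker, ?_⟩
  intro g a
  rw [hρ, hψ]
  rfl

end Sec

end Cfsg.Agent.Lib.BGSec
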