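import Mathlib

/-!
# Weight decomposition for finite abelian groups over algebraically closed fields
-/

set_option autoImplicit false
set_option linter.unusedSectionVars false
set_option linter.unusedVariables false
set_option linter.style.haveILetI false
set_option linter.unusedSimpArgs false
set_option linter.unusedDecidableInType false
set_option linter.unusedFintypeInType false

namespace Cfsg.Agent.Lib.BGWeight

open Module

variable {K : Type*} [Field K] {V : Type*} [AddCommGroup V] [Module K V]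
  {W : Type*} [CommGroup W]

/-- The weight space of a character. -/
def wsp (ρ : W →* Module.End K V) (ψ : W →* Kˣ) : Submodule K V where
  carrier := {v | ∀ w, ρ w v = ((ψ w : Kˣ) : K) • v}
  add_mem' := by
    intro a b ha hb w
    have ha' : ρ w a = ((ψ w : Kˣ) : K) • a := ha w
    have hb' : ρ w b = ((ψ w : Kˣ) : K) • b := hb w
    show (ρ w) (a + b) = ((ψ w : Kˣ) : K) • (a + b)
    rw [map_add, ha', hb', smul_add]
  zero_mem' := by
    intro w
    simp
  smul_mem' := by
    intro c v hv w
    have hv' : ρ w v = ((ψ w : Kˣ) : K) • v := hv w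
    show (ρ w) (c • v) = ((ψ w : Kˣ) : K) • (c • v)
    rw [map_smul, hv', smul_comm]

theorem mem_wsp {ρ : W →* Module.End K V} {ψ : W →* Kˣ} {v : V} :
    v ∈ wsp ρ ψ ↔ ∀ w, ρ w v = ((ψ w : Kˣ) : K) • v := Iff.rfl

/-- Projector onto a weight space. -/
noncomputable def eproj [Fintype W] (ρ : W →* Module.End K V) (ψ : W →* Kˣ) : Module.End K V :=
  ((Fintype.card W : K)⁻¹) • ∑ w : W, ((ψ w⁻¹ : Kˣ) : K) • ρ w

theorem rho_eproj [Fintype W] (ρ : W →* Module.End K V) (ψ : W →* Kˣ) (u : W) :
    ρ u * eproj ρ ψ = ((ψ u : Kˣ) : K) • eproj ρ ψ := by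
  classical
  unfold eproj
  rw [mul_smul_comm, smul_comm]
  congr 1
  rw [Finset.mul_sum, Finset.smul_sum]
  refine Fintype.sum_equiv (Equiv.mulLeft u) _ _ ?_
  intro w
  simp only [Equiv.coe_mulLeft, map_mul, mul_smul_comm, smul_smul]
  congr 1
  have : ψ (u * w)⁻¹ = (ψ u)⁻¹ * ψ w⁻¹ := by
    rw [mul_inv, map_mul, map_inv]
  rw [this, Units.val_mul, ← mul_assoc, Units.val_inv_eq_inv_val, mul_inv_cancel₀ (ψ u).ne_zero, one_mul]

theorem eproj_rho [Fintype W] (ρ : W →* Module.End K V) (ψ : W →* Kˣ) (u : W) :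
    eproj ρ ψ * ρ u = ((ψ u : Kˣ) : K) • eproj ρ ψ := by
  classical
  unfold eproj
  rw [smul_mul_assoc, smul_comm]
  congr 1
  rw [Finset.sum_mul, Finset.smul_sum]
  refine Fintype.sum_equiv (Equiv.mulRight u) _ _ ?_
  intro w
  simp only [Equiv.coe_mulRight, smul_mul_assoc, ← map_mul, smul_smul]
  congr 1
  have : ψ (w * u)⁻¹ = (ψ u)⁻¹ * ψ w⁻¹ := by
    rw [mul_inv, map_mul, mul_comm, map_inv]
  rw [this, Units.val_mul, ← mul_assoc, Units.val_inv_eq_inv_val, mul_inv_cancel₀ (ψ u).ne_zero, one_mul]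

theorem eproj_mem [Fintype W] (ρ : W →* Module.End K V) (ψ : W →* Kˣ) (v : V) :
    eproj ρ ψ v ∈ wsp ρ ψ := by
  intro u
  have := congrArg (fun f : Module.End K V => f v) (rho_eproj ρ ψ u)
  simpa using this

open Classical in
/-- The projector is the identity on its weight space and kills the others. -/
theorem eproj_of_mem [Fintype W] (hW : (Fintype.card W : K) ≠ 0) (ρ : W →* Module.End K V) (ψ μ : W →* Kˣ)
    {v : V} (hv : v ∈ wsp ρ μ) : eproj ρ ψ v = if ψ = μ then v else 0 := by
  classical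
  have h1 : eproj ρ ψ v = ((Fintype.card W : K)⁻¹ * ∑ w : W, (((ψ⁻¹ * μ) w : Kˣ) : K)) • v := by
    unfold eproj
    simp only [LinearMap.smul_apply, LinearMap.sum_apply, mul_smul, Finset.sum_smul]
    congr 1
    refine Finset.sum_congr rfl ?_
    intro w _
    rw [hv w, smul_smul]
    congr 1
    simp [map_inv]
  rw [h1]
  by_cases h : ψ = μ
  · subst h
    rw [if_pos rfl]
    simp [inv_mul_cancel₀ hW]
  · rw [if_neg h]
    let f : W →* K := (Units.coeHom K).comp (ψ⁻¹ * μ)
    have hf : f ≠ 1 := by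
      intro hf1
      apply h
      ext w
      have := congrArg (fun g : W →* K => g w) hf1
      simp only [f, MonoidHom.comp_apply, Units.coeHom_apply, MonoidHom.one_apply] at this
      have h2 : ((ψ⁻¹ * μ) w) = 1 := Units.ext this
      have h3 : ψ w = μ w := by
        simp only [MonoidHom.mul_apply, MonoidHom.inv_apply] at h2
        exact (inv_mul_eq_one.mp h2)
      rw [h3]
    have h4 := sum_hom_units_eq_zero f hf
    have h5 : ∑ w : W, (((ψ⁻¹ * μ) w : Kˣ) : K) = 0 := h4
    rw [h5]
    simp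

section Closed

variable [IsAlgClosed K] [Finite W]

theorem enough (hW : (Nat.card W : K) ≠ 0) : HasEnoughRootsOfUnity K (Monoid.exponent W) := by
  have hd : Monoid.exponent W ∣ Nat.card W := Group.exponent_dvd_nat_card
  haveI : NeZero ((Monoid.exponent W : ℕ) : K) := ⟨by
    intro h
    obtain ⟨c, hc⟩ := hd
    apply hW
    rw [hc]
    simp [h]⟩
  infer_instance

theorem finite_dual (hW : (Nat.card W : K) ≠ 0) : Finite (W →* Kˣ) := by
  haveI := enough (K := K) hW
  have h := CommGroup.card_monoidHom_of_hasEnoughRootsOfUnity W K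
  apply Nat.finite_of_card_ne_zero
  rw [h]
  exact Nat.card_pos.ne'

theorem sum_eproj [Fintype W] [Fintype (W →* Kˣ)] (hW : (Nat.card W : K) ≠ 0) (ρ : W →* Module.End K V) :
    ∑ ψ : W →* Kˣ, eproj ρ ψ = 1 := by
  classical
  haveI := enough (K := K) hW
  have hcard := CommGroup.card_monoidHom_of_hasEnoughRootsOfUnity W K
  have hW' : (Fintype.card W : K) ≠ 0 := by rwa [← Nat.card_eq_fintype_card]
  unfold eproj
  rw [← Finset.smul_sum, Finset.sum_comm]
  have key : ∀ w : W, ∑ ψ : W →* Kˣ, ((ψ w⁻¹ : Kˣ) : K) • ρ w =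
      if w = 1 then (Fintype.card W : K) • (1 : Module.End K V) else 0 := by
    intro w
    rw [← Finset.sum_smul]
    by_cases hw : w = 1
    · subst hw
      rw [if_pos rfl]
      simp only [inv_one, map_one, Units.val_one, Finset.sum_const, Finset.card_univ, nsmul_eq_mul, mul_one]
      have : Fintype.card (W →* Kˣ) = Fintype.card W := by
        rw [← Nat.card_eq_fintype_card, ← Nat.card_eq_fintype_card, hcard]
      rw [this]
    · rw [if_neg hw]
      obtain ⟨φ, hφ⟩ := CommGroup.exists_apply_ne_one_of_hasEnoughRootsOfUnity W K (a := w⁻¹)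
        (by simpa using hw)
      let ev : (W →* Kˣ) →* K :=
        { toFun := fun ψ => ((ψ w⁻¹ : Kˣ) : K)
          map_one' := by simp
          map_mul' := by intro a b; simp }
      have hev : ev ≠ 1 := by
        intro h1
        have := congrArg (fun f : (W →* Kˣ) →* K => f φ) h1
        simp only [ev, MonoidHom.one_apply, MonoidHom.coe_mk, OneHom.coe_mk] at this
        exact hφ (Units.ext this)
      have h2 := sum_hom_units_eq_zero ev hev
      have h3 : ∑ ψ : W →* Kˣ, ((ψ w⁻¹ : Kˣ) : K) = 0 := h2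
      rw [h3, zero_smul]
  rw [Finset.sum_congr rfl (fun w _ => key w)]
  rw [Finset.sum_ite_eq' Finset.univ (1 : W)]
  simp [smul_smul, inv_mul_cancel₀ hW']

theorem iSup_wsp (hW : (Nat.card W : K) ≠ 0) (ρ : W →* Module.End K V) : ⨆ ψ, wsp ρ ψ = ⊤ := by
  classical
  haveI := Fintype.ofFinite W
  haveI := finite_dual (K := K) hW
  haveI := Fintype.ofFinite (W →* Kˣ)
  rw [eq_top_iff]
  intro v _
  have h := congrArg (fun f : Module.End K V => f v) (sum_eproj hW ρ)
  simp only [LinearMap.sum_apply, Module.End.one_apply] at h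
  rw [← h]
  exact Submodule.sum_mem _ (fun ψ _ => Submodule.mem_iSup_of_mem ψ (eproj_mem ρ ψ v))

theorem indep_wsp (hW : (Nat.card W : K) ≠ 0) (ρ : W →* Module.End K V) : iSupIndep (wsp ρ) := by
  classical
  haveI := Fintype.ofFinite W
  have hW' : (Fintype.card W : K) ≠ 0 := by rwa [← Nat.card_eq_fintype_card]
  intro μ
  rw [Submodule.disjoint_def]
  intro v hv hv2
  have h0 : eproj ρ μ v = v := by
    rw [eproj_of_mem hW' ρ μ μ hv, if_pos rfl]
  have h1 : ∀ u ∈ ⨆ (j) (_ : j ≠ μ), wsp ρ j, eproj ρ μ u = 0 := by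
    intro u hu
    refine Submodule.iSup_induction (motive := fun u => eproj ρ μ u = 0) _ hu ?_ (by simp) ?_
    · intro j x hx
      refine Submodule.iSup_induction (motive := fun u => eproj ρ μ u = 0) _ hx ?_ (by simp) ?_
      · intro hj y hy
        rw [eproj_of_mem hW' ρ μ j hy, if_neg (Ne.symm hj)]
      · intro a b ha hb
        rw [map_add, ha, hb, add_zero]
    · intro a b ha hb
      rw [map_add, ha, hb, add_zero]
  rw [← h0, h1 v hv2]

theorem finrank_eq_sum [FiniteDimensional K V] [Fintype (W →* Kˣ)] (hW : (Nat.card W : K) ≠ 0)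
    (ρ : W →* Module.End K V) : finrank K V = ∑ ψ : W →* Kˣ, finrank K (wsp ρ ψ) := by
  classical
  have hI := DirectSum.isInternal_submodule_of_iSupIndep_of_iSup_eq_top (indep_wsp hW ρ) (iSup_wsp hW ρ)
  have e := LinearEquiv.ofBijective (DirectSum.coeLinearMap (wsp ρ)) hI
  rw [← e.finrank_eq, Module.finrank_directSum]

/-- If every weight space on which... : some weight space is nonzero. -/
theorem exists_wsp_ne_bot [Nontrivial V] (hW : (Nat.card W : K) ≠ 0) (ρ : W →* Module.End K V) :
    ∃ ψ, wsp ρ ψ ≠ ⊥ := by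
  by_contra h
  push Not at h
  have := iSup_wsp hW ρ
  simp only [h, iSup_bot] at this
  exact bot_ne_top this

/-- If a vector is moved by an element in the representation, some weight sees this. -/
theorem exists_wsp_apply_ne (hW : (Nat.card W : K) ≠ 0) (ρ : W →* Module.End K V) {w : W}
    (hw : ρ w ≠ 1) : ∃ ψ, wsp ρ ψ ≠ ⊥ ∧ ψ w ≠ 1 := by
  by_contra h
  push Not at h
  apply hw
  ext v
  have hv : v ∈ ⨆ ψ, wsp ρ ψ := by
    rw [iSup_wsp hW ρ]
    trivial
  refine Submodule.iSup_induction (motive := fun v => ρ w v = (1 : Module.End K V) v) _ hv ?_ (by simp) ?_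
  · intro ψ x hx
    by_cases hb : wsp ρ ψ = ⊥
    · rw [hb, Submodule.mem_bot] at hx
      simp [hx]
    · rw [hx w, h ψ hb]
      simp
  · intro a b ha hb
    rw [map_add, ha, hb, map_add]

end Closed

end Cfsg.Agent.Lib.BGWeight
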