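import Mathlib
import Cfsg.Agent.Lib.BGWeight
import Cfsg.Agent.Lib.BGSec
import Cfsg.Agent.Lib.Kegel

/-!
# Frobenius groups acting on modules: fixed point formula

`UE` Frobenius with kernel `U`, complement `E`, acting on a finite dimensional module in coprime characteristic:
`dim V + |E| dim V^{UE} = dim V^U + |E| dim V^E`.
-/

set_option autoImplicit false
set_option linter.unusedSectionVars false
set_option linter.unusedVariables false
set_option linter.style.haveILetI false
set_option linter.unusedSimpArgs false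
set_option linter.unusedDecidableInType false
set_option linter.unusedFintypeInType false

namespace Cfsg.Agent.Lib.FrobFix

open Module Cfsg.Agent.Lib.BGWeight

section Fix

variable {K V G : Type*} [Field K] [AddCommGroup V] [Module K V] [Group G]

/-- Vectors fixed by a set of group elements. -/
def fixS (r : G →* Module.End K V) (S : Set G) : Submodule K V where
  carrier := {v | ∀ s ∈ S, r s v = v}
  add_mem' := by
    intro a b ha hb s hs
    show r s (a + b) = a + b
    rw [map_add, ha s hs, hb s hs]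
  zero_mem' := by
    intro s hs
    exact map_zero _
  smul_mem' := by
    intro c v hv s hs
    show r s (c • v) = c • v
    rw [map_smul, hv s hs]

theorem mem_fixS {r : G →* Module.End K V} {S : Set G} {v : V} : v ∈ fixS r S ↔ ∀ s ∈ S, r s v = v := Iff.rfl

variable [FiniteDimensional K V]

/-- A free permutation of a decomposition of `V`. -/
theorem free_decomp (r : G →* Module.End K V) (E : Subgroup G) [Fintype E] (P P₁ : Module.End K V)
    (hP : P * P = P) (hP₁ : P₁ * P₁ = P₁) (h10 : P₁ * P = 0) (h01 : P * P₁ = 0)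
    (hcomm : ∀ e ∈ E, r e * P₁ = P₁ * r e)
    (hsum : ∑ e : E, r (e : G) * P * r (e : G)⁻¹ = 1 - P₁)
    (horth : ∀ e ∈ E, e ≠ 1 → P * r e * P = 0) :
    finrank K V = finrank K (LinearMap.range P₁) + Fintype.card E * finrank K (LinearMap.range P) ∧
      finrank K (fixS r (E : Set G)) =
        finrank K (fixS r (E : Set G) ⊓ LinearMap.range P₁ : Submodule K V) + finrank K (LinearMap.range P) := by
  classical
  have hP' : ∀ y ∈ LinearMap.range P, P y = y := by
    rintro _ ⟨x, rfl⟩
    exact congrArg (fun f : Module.End K V => f x) hP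
  have hP₁' : ∀ y ∈ LinearMap.range P₁, P₁ y = y := by
    rintro _ ⟨x, rfl⟩
    exact congrArg (fun f : Module.End K V => f x) hP₁
  have h10' : ∀ y ∈ LinearMap.range P, P₁ y = 0 := by
    rintro _ ⟨x, rfl⟩
    exact congrArg (fun f : Module.End K V => f x) h10
  have h01' : ∀ y ∈ LinearMap.range P₁, P y = 0 := by
    rintro _ ⟨x, rfl⟩
    exact congrArg (fun f : Module.End K V => f x) h01
  have hcomm' : ∀ e ∈ E, ∀ v, r e (P₁ v) = P₁ (r e v) := fun e he v =>
    congrArg (fun f : Module.End K V => f v) (hcomm e he)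
  have horth' : ∀ e ∈ E, e ≠ 1 → ∀ y ∈ LinearMap.range P, P (r e y) = 0 := by
    rintro e he hne _ ⟨x, rfl⟩
    exact congrArg (fun f : Module.End K V => f x) (horth e he hne)
  have hsum' : ∀ v, ∑ e : E, r (e : G) (P (r (e : G)⁻¹ v)) = v - P₁ v := by
    intro v
    have := congrArg (fun f : Module.End K V => f v) hsum
    simpa [LinearMap.sum_apply] using this
  -- a vector in the sum
  have hPs : ∀ (y : E → V), (∀ e, y e ∈ LinearMap.range P) → ∀ e' : E,
      P (r (e' : G)⁻¹ (∑ e : E, r (e : G) (y e))) = y e' := by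
    intro y hy e'
    rw [map_sum, map_sum, Finset.sum_eq_single e']
    · have h1 : r (e' : G)⁻¹ (r (e' : G) (y e')) = y e' := by
        rw [← Module.End.mul_apply, ← map_mul, inv_mul_cancel, map_one, Module.End.one_apply]
      rw [h1, hP' _ (hy e')]
    · intro e _ hne
      have h1 : r (e' : G)⁻¹ (r (e : G) (y e)) = r ((e' : G)⁻¹ * e) (y e) := by
        rw [map_mul, Module.End.mul_apply]
      rw [h1]
      apply horth' _ (E.mul_mem (E.inv_mem e'.2) e.2) _ _ (hy e)
      intro h
      apply hne
      apply Subtype.ext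
      rw [inv_mul_eq_one] at h
      exact h.symm
    · intro h
      exact absurd (Finset.mem_univ _) h
  have hP₁s : ∀ (y : E → V), (∀ e, y e ∈ LinearMap.range P) →
      P₁ (∑ e : E, r (e : G) (y e)) = 0 := by
    intro y hy
    rw [map_sum]
    apply Finset.sum_eq_zero
    intro e _
    rw [← hcomm' _ e.2, h10' _ (hy e), map_zero]
  constructor
  · let Θ : (LinearMap.range P₁ × (E → LinearMap.range P)) →ₗ[K] V :=
      (LinearMap.range P₁).subtype.coprod
        (∑ e : E, (r (e : G)) ∘ₗ (LinearMap.range P).subtype ∘ₗ LinearMap.proj e)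
    have hΘ : ∀ x, Θ x = (x.1 : V) + ∑ e : E, r (e : G) ((x.2 e : V)) := by
      intro x
      simp [Θ, LinearMap.coprod_apply, LinearMap.sum_apply]
    have hbij : Function.Bijective Θ := by
      constructor
      · rw [injective_iff_map_eq_zero]
        rintro ⟨w, y⟩ h0
        rw [hΘ] at h0
        have hw : (w : V) = 0 := by
          have := congrArg P₁ h0
          rw [map_add, hP₁' _ w.2, hP₁s (fun e => (y e : V)) (fun e => (y e).2), map_zero, add_zero] at this
          exact this
        have hy : ∀ e, (y e : V) = 0 := by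
          intro e
          have h1 := hPs (fun e => (y e : V)) (fun e => (y e).2) e
          rw [hw, zero_add] at h0
          simp only at h0 h1
          rw [h0, map_zero, map_zero] at h1
          exact h1.symm
        ext
        · simpa using hw
        · simpa using hy _
      · intro v
        refine ⟨(⟨P₁ v, v, rfl⟩, fun e => ⟨P (r (e : G)⁻¹ v), _, rfl⟩), ?_⟩
        rw [hΘ]
        simp only
        rw [hsum']
        abel
    have e := LinearEquiv.ofBijective Θ hbij
    rw [← e.finrank_eq, Module.finrank_prod, Module.finrank_pi_fintype]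
    simp
  · let A : Submodule K V := fixS r (E : Set G) ⊓ LinearMap.range P₁
    let Θ : (A × LinearMap.range P) →ₗ[K] V :=
      A.subtype.coprod
        (∑ e : E, (r (e : G)) ∘ₗ (LinearMap.range P).subtype)
    have hΘ : ∀ x, Θ x = (x.1 : V) + ∑ e : E, r (e : G) ((x.2 : V)) := by
      intro x
      simp [Θ, LinearMap.coprod_apply, LinearMap.sum_apply]
    have hinj : Function.Injective Θ := by
      rw [injective_iff_map_eq_zero]
      rintro ⟨w, y⟩ h0
      rw [hΘ] at h0
      have hw : (w : V) = 0 := by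
        have := congrArg P₁ h0
        rw [map_add, hP₁' _ w.2.2, hP₁s (fun _ => (y : V)) (fun e => y.2), map_zero, add_zero] at this
        exact this
      have hy : (y : V) = 0 := by
        have h1 := hPs (fun _ => (y : V)) (fun e => y.2) 1
        rw [hw, zero_add] at h0
        simp only at h0 h1
        rw [h0, map_zero, map_zero] at h1
        exact h1.symm
      ext
      · simpa using hw
      · simpa using hy
    have hrange : LinearMap.range Θ = fixS r (E : Set G) := by
      apply le_antisymm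
      · rintro _ ⟨⟨w, y⟩, rfl⟩
        rw [hΘ]
        intro e he
        simp only
        rw [map_add, w.2.1 e he, map_sum]
        congr 1
        refine Fintype.sum_equiv (Equiv.mulLeft (⟨e, he⟩ : E)) _ _ ?_
        intro x
        simp only [Equiv.coe_mulLeft, Subgroup.coe_mul, map_mul, Module.End.mul_apply]
      · intro v hv
        have hv' : ∀ e ∈ E, r e v = v := hv
        refine ⟨(⟨P₁ v, ?_, v, rfl⟩, ⟨P v, v, rfl⟩), ?_⟩
        · intro e he
          rw [hcomm' e he, hv' e he]
        · rw [hΘ]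
          simp only
          have h1 : ∀ e : E, r (e : G) (P v) = r (e : G) (P (r (e : G)⁻¹ v)) := by
            intro e
            rw [hv' _ (E.inv_mem e.2)]
          rw [Finset.sum_congr rfl (fun e _ => h1 e), hsum']
          abel
    have e := LinearEquiv.ofInjective Θ hinj
    have h2 : finrank K (fixS r (E : Set G)) = finrank K (LinearMap.range Θ) := by rw [hrange]
    rw [h2, ← e.finrank_eq, Module.finrank_prod]

end Fix

section Reps

theorem exists_reps_free {E I : Type*} [Group E] [Fintype I] [MulAction E I] (o : I)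
    (hfree : ∀ (e : E) (i : I), e • i = i → e = 1 ∨ i = o) (ho : ∀ e : E, e • o = o) :
    ∃ R : Finset I, o ∉ R ∧ (∀ i, i ≠ o → ∃ e : E, ∃ r ∈ R, e • r = i) ∧
      (∀ e : E, ∀ r ∈ R, ∀ r' ∈ R, e • r = r' → e = 1 ∧ r = r') := by
  classical
  let Q := MulAction.orbitRel.Quotient E I
  haveI : Fintype Q := Fintype.ofFinite Q
  let R : Finset I := ((Finset.univ : Finset Q).image (fun q => Quotient.out q)).erase o
  have hout : ∀ i : I, ∃ e : E, e • (Quotient.out (Quotient.mk (MulAction.orbitRel E I) i : Q)) = i := by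
    intro i
    have h1 : (MulAction.orbitRel E I).r (Quotient.out (Quotient.mk _ i : Q)) i :=
      Quotient.exact (Quotient.out_eq _)
    obtain ⟨e, he⟩ := (MulAction.orbitRel_apply).1 h1
    refine ⟨e⁻¹, ?_⟩
    have he' : e • i = Quotient.out (Quotient.mk _ i : Q) := he
    rw [← he', inv_smul_smul]
  refine ⟨R, Finset.notMem_erase _ _, ?_, ?_⟩
  · intro i hi
    obtain ⟨e, he⟩ := hout i
    refine ⟨e, _, ?_, he⟩
    rw [Finset.mem_erase]
    refine ⟨?_, Finset.mem_image_of_mem _ (Finset.mem_univ _)⟩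
    intro h
    rw [h, ho] at he
    exact hi he.symm
  · intro e r hr r' hr' h
    have hr0 := (Finset.mem_erase.1 hr)
    have hr0' := (Finset.mem_erase.1 hr')
    obtain ⟨q, -, rfl⟩ := Finset.mem_image.1 hr0.2
    obtain ⟨q', -, rfl⟩ := Finset.mem_image.1 hr0'.2
    have h1 : q = q' := by
      have h2 : (MulAction.orbitRel E I).r (Quotient.out q') (Quotient.out q) := by
        exact (MulAction.orbitRel_apply).2 ⟨e, h⟩
      have h3 := Quotient.sound h2
      rw [Quotient.out_eq, Quotient.out_eq] at h3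
      exact h3.symm
    subst h1
    refine ⟨?_, rfl⟩
    rcases hfree e _ h with h4 | h4
    · exact h4
    · exact absurd h4 hr0.1

theorem sum_reps {E I M : Type*} [Group E] [Fintype E] [Fintype I] [MulAction E I] [AddCommMonoid M] [DecidableEq I] (o : I)
    (R : Finset I) (h0 : o ∉ R) (h1 : ∀ i, i ≠ o → ∃ e : E, ∃ r ∈ R, e • r = i)
    (h2 : ∀ e : E, ∀ r ∈ R, ∀ r' ∈ R, e • r = r' → e = 1 ∧ r = r')
    (ho : ∀ e : E, e • o = o) (f : I → M) :
    ∑ e : E, ∑ r ∈ R, f (e • r) = ∑ i ∈ Finset.univ.erase o, f i := by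
  classical
  rw [← Finset.sum_product']
  refine Finset.sum_bij (fun x _ => x.1 • x.2) ?_ ?_ ?_ ?_
  · rintro ⟨e, r⟩ hx
    simp only [Finset.mem_product, Finset.mem_univ, true_and] at hx
    rw [Finset.mem_erase]
    refine ⟨?_, Finset.mem_univ _⟩
    intro h
    have h3 : r = o := by
      have := congrArg (fun i => e⁻¹ • i) h
      simpa [ho] using this
    exact h0 (h3 ▸ hx)
  · rintro ⟨e, r⟩ hx ⟨e', r'⟩ hx' h
    simp only [Finset.mem_product, Finset.mem_univ, true_and] at hx hx'
    simp only at h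
    have h3 : (e'⁻¹ * e) • r = r' := by
      rw [mul_smul, h, inv_smul_smul]
    obtain ⟨h4, h5⟩ := h2 _ r hx r' hx' h3
    rw [inv_mul_eq_one] at h4
    rw [h4, h5]
  · intro i hi
    obtain ⟨e, r, hr, he⟩ := h1 i (Finset.mem_erase.1 hi).1
    exact ⟨(e, r), by simp [hr], he⟩
  · intros
    rfl

end Reps

section Weight

variable {K V G : Type*} [Field K] [AddCommGroup V] [Module K V] [Group G]
  {T : Type*} [CommGroup T] [Fintype T]

theorem eproj_mul_eproj (hT : (Fintype.card T : K) ≠ 0) (ρ : T →* Module.End K V) (χ μ : T →* Kˣ) [Decidable (χ = μ)] :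
    eproj ρ χ * eproj ρ μ = if χ = μ then eproj ρ μ else 0 := by
  classical
  ext v
  rw [Module.End.mul_apply, eproj_of_mem hT ρ χ μ (eproj_mem ρ μ v)]
  split_ifs <;> rfl

theorem range_eproj (hT : (Fintype.card T : K) ≠ 0) (ρ : T →* Module.End K V) (χ : T →* Kˣ) :
    LinearMap.range (eproj ρ χ) = wsp ρ χ := by
  classical
  apply le_antisymm
  · rintro _ ⟨v, rfl⟩
    exact eproj_mem ρ χ v
  · intro v hv
    refine ⟨v, ?_⟩
    rw [eproj_of_mem hT ρ χ χ hv, if_pos rfl]

theorem conj_eproj (ρ : T →* Module.End K V) (y : Module.End K V) (τ : MulAut T)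
    (hy : ∀ t, y * ρ t = ρ (τ t) * y) (χ : T →* Kˣ) :
    y * eproj ρ χ = eproj ρ (χ.comp (τ⁻¹ : MulAut T).toMonoidHom) * y := by
  unfold eproj
  rw [mul_smul_comm, smul_mul_assoc, Finset.mul_sum, Finset.sum_mul]
  congr 1
  refine Fintype.sum_equiv τ.toEquiv _ _ ?_
  intro t
  simp only [mul_smul_comm, smul_mul_assoc, hy]
  congr 2
  simp [MulAut.inv_apply_self]

variable [FiniteDimensional K V]

/-- **Free action on the nontrivial weights**. -/
theorem weight_free [IsAlgClosed K] (hT : (Nat.card T : K) ≠ 0) (ρ : T →* Module.End K V)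
    (r : G →* Module.End K V) (E : Subgroup G) [Fintype E] (σ : E →* MulAut T)
    (hσ : ∀ (e : E) (t : T), r (e : G) * ρ t = ρ (σ e t) * r (e : G))
    (hfree : ∀ e : E, e ≠ 1 → ∀ t, σ e t = t → t = 1) :
    ∃ c : ℕ, finrank K V = finrank K (wsp ρ 1) + Fintype.card E * c ∧
      finrank K (fixS r (E : Set G)) = finrank K (fixS r (E : Set G) ⊓ wsp ρ 1 : Submodule K V) + c := by
  classical
  have hT' : (Fintype.card T : K) ≠ 0 := by rwa [← Nat.card_eq_fintype_card]
  haveI := finite_dual (K := K) hT
  haveI : Fintype (T →* Kˣ) := Fintype.ofFinite _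
  letI act : MulAction E (T →* Kˣ) :=
    { smul := fun e χ => χ.comp (σ e⁻¹ : MulAut T).toMonoidHom
      one_smul := by
        intro χ
        ext t
        show ((χ.comp (σ 1⁻¹ : MulAut T).toMonoidHom) t : K) = χ t
        simp
      mul_smul := by
        intro a b χ
        ext t
        show ((χ.comp (σ (a * b)⁻¹ : MulAut T).toMonoidHom) t : K) =
          ((χ.comp (σ b⁻¹ : MulAut T).toMonoidHom).comp (σ a⁻¹ : MulAut T).toMonoidHom t : K)
        simp [mul_inv_rev, map_mul, MulAut.mul_apply] }
  have hact : ∀ (e : E) (χ : T →* Kˣ), e • χ = χ.comp (σ e⁻¹ : MulAut T).toMonoidHom := fun _ _ => rfl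
  have hact' : ∀ (e : E) (χ : T →* Kˣ) (t : T), (e • χ) t = χ (σ e⁻¹ t) := fun _ _ _ => rfl
  -- the trivial character is fixed
  have ho : ∀ e : E, e • (1 : T →* Kˣ) = 1 := by
    intro e
    ext t
    rw [hact']
    rfl
  have hfr : ∀ (e : E) (χ : T →* Kˣ), e • χ = χ → e = 1 ∨ χ = 1 := by
    intro e χ h
    by_cases he : e = 1
    · exact Or.inl he
    · right
      let τ := σ e⁻¹
      have he' : e⁻¹ ≠ 1 := by simpa using he
      let θ : T →* T :=
        { toFun := fun t => τ t * t⁻¹
          map_one' := by simp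
          map_mul' := by
            intro a b
            simp only [map_mul, mul_inv_rev]
            ac_rfl }
      have hθinj : Function.Injective θ := by
        rw [injective_iff_map_eq_one]
        intro t ht
        have : τ t * t⁻¹ = 1 := ht
        rw [mul_inv_eq_one] at this
        exact hfree e⁻¹ he' t this
      have hθsurj : Function.Surjective θ := Finite.surjective_of_injective hθinj
      ext t
      obtain ⟨s, rfl⟩ := hθsurj t
      have h1 : χ (τ s) = χ s := by
        have := congrArg (fun f : T →* Kˣ => f s) h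
        exact this
      have h2 : χ (θ s) = 1 := by
        show χ (τ s * s⁻¹) = 1
        rw [map_mul, map_inv, h1, mul_inv_cancel]
      rw [h2]
      rfl
  obtain ⟨R, hR0, hR1, hR2⟩ := exists_reps_free (E := E) (1 : T →* Kˣ) hfr ho
  let P : Module.End K V := ∑ χ ∈ R, eproj ρ χ
  let P₁ : Module.End K V := eproj ρ 1
  have hconj : ∀ (e : E) (χ : T →* Kˣ), r (e : G) * eproj ρ χ = eproj ρ (e • χ) * r (e : G) := by
    intro e χ
    have := conj_eproj ρ (r (e : G)) (σ e) (hσ e) χ
    rw [this, hact, map_inv]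
  have hre : ∀ e : E, r (e : G) * r (e : G)⁻¹ = 1 := by
    intro e
    rw [← map_mul, mul_inv_cancel, map_one]
  have hne1 : ∀ χ ∈ R, χ ≠ 1 := fun χ hχ h => hR0 (h ▸ hχ)
  refine ⟨finrank K (LinearMap.range P), ?_⟩
  have key := free_decomp r E P P₁ ?_ ?_ ?_ ?_ ?_ ?_ ?_
  · rw [range_eproj hT' ρ 1] at key
    exact key
  · -- P * P = P
    show (∑ χ ∈ R, eproj ρ χ) * (∑ χ ∈ R, eproj ρ χ) = ∑ χ ∈ R, eproj ρ χ
    rw [Finset.sum_mul]
    refine Finset.sum_congr rfl ?_
    intro χ hχ
    rw [Finset.mul_sum, Finset.sum_eq_single χ]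
    · rw [eproj_mul_eproj hT', if_pos rfl]
    · intro μ _ hμ
      rw [eproj_mul_eproj hT', if_neg (Ne.symm hμ)]
    · intro h
      exact absurd hχ h
  · show eproj ρ 1 * eproj ρ 1 = eproj ρ 1
    rw [eproj_mul_eproj hT', if_pos rfl]
  · show eproj ρ 1 * (∑ χ ∈ R, eproj ρ χ) = 0
    rw [Finset.mul_sum]
    apply Finset.sum_eq_zero
    intro χ hχ
    rw [eproj_mul_eproj hT', if_neg (Ne.symm (hne1 χ hχ))]
  · show (∑ χ ∈ R, eproj ρ χ) * eproj ρ 1 = 0
    rw [Finset.sum_mul]
    apply Finset.sum_eq_zero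
    intro χ hχ
    rw [eproj_mul_eproj hT', if_neg (hne1 χ hχ)]
  · intro e he
    have := hconj ⟨e, he⟩ 1
    rw [ho] at this
    exact this
  · -- the sum
    have h1 : ∀ e : E, r (e : G) * P * r (e : G)⁻¹ = ∑ χ ∈ R, eproj ρ (e • χ) := by
      intro e
      show r (e : G) * (∑ χ ∈ R, eproj ρ χ) * r (e : G)⁻¹ = _
      rw [Finset.mul_sum, Finset.sum_mul]
      refine Finset.sum_congr rfl ?_
      intro χ _
      rw [hconj, mul_assoc, hre, mul_one]
    rw [Finset.sum_congr rfl (fun e _ => h1 e),
      sum_reps (E := E) (1 : T →* Kˣ) R hR0 hR1 hR2 ho (fun χ => eproj ρ χ)]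
    have h2 := sum_eproj (K := K) hT ρ
    rw [← Finset.add_sum_erase _ _ (Finset.mem_univ (1 : T →* Kˣ))] at h2
    show _ = 1 - eproj ρ 1
    rw [← h2]
    abel
  · intro e he hne
    show (∑ χ ∈ R, eproj ρ χ) * r e * (∑ χ ∈ R, eproj ρ χ) = 0
    rw [Finset.sum_mul, Finset.sum_mul]
    apply Finset.sum_eq_zero
    intro χ hχ
    rw [Finset.mul_sum]
    apply Finset.sum_eq_zero
    intro μ hμ
    have h3 := hconj ⟨e, he⟩ μ
    simp only at h3
    rw [mul_assoc, h3, ← mul_assoc, eproj_mul_eproj hT', if_neg, zero_mul]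
    intro h4
    have := (hR2 ⟨e, he⟩ μ hμ χ hχ h4.symm).1
    exact hne (congrArg Subtype.val this)

end Weight

section Chain

theorem mem_of_comm_mem {G : Type*} [Group G] (U R : Subgroup G) [Finite R] (hRU : R ≤ U) (e : G)
    (hRe : ∀ n ∈ R, e * n * e⁻¹ ∈ R) (hfix : ∀ u ∈ U, e * u = u * e → u = 1) (a : G) (ha : a ∈ U)
    (hx : e * a * e⁻¹ * a⁻¹ ∈ R) : a ∈ R := by
  let f : R → R := fun n => ⟨e * (n : G)⁻¹ * e⁻¹ * n, R.mul_mem (hRe _ (R.inv_mem n.2)) n.2⟩
  have hf : Function.Injective f := by
    intro m n h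
    have h1 : e * (m : G)⁻¹ * e⁻¹ * m = e * (n : G)⁻¹ * e⁻¹ * n := congrArg Subtype.val h
    have h2 : e * ((n : G) * (m : G)⁻¹) = ((n : G) * (m : G)⁻¹) * e := by
      have h3 : e * (n : G) * (m : G)⁻¹ * e⁻¹ = (n : G) * (m : G)⁻¹ := by
        have h4 : e * (m : G)⁻¹ * e⁻¹ = (e * (n : G)⁻¹ * e⁻¹) * ((n : G) * (m : G)⁻¹) := by
          have : e * (m : G)⁻¹ * e⁻¹ = (e * (m : G)⁻¹ * e⁻¹ * m) * (m : G)⁻¹ := by group
          rw [this, h1]
          group
        have h5 : (e * (n : G) * (m : G)⁻¹ * e⁻¹) = (e * (n : G) * e⁻¹) * (e * (m : G)⁻¹ * e⁻¹) := by group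
        rw [h5, h4]
        group
      calc e * ((n : G) * (m : G)⁻¹) = (e * (n : G) * (m : G)⁻¹ * e⁻¹) * e := by group
        _ = _ := by rw [h3]
    have h3 := hfix _ (U.mul_mem (hRU n.2) (U.inv_mem (hRU m.2))) h2
    rw [mul_inv_eq_one] at h3
    exact Subtype.ext h3.symm
  have hs := Finite.surjective_of_injective hf
  obtain ⟨n, hn⟩ := hs ⟨_, hx⟩
  have hn' : e * (n : G)⁻¹ * e⁻¹ * n = e * a * e⁻¹ * a⁻¹ := congrArg Subtype.val hn
  have h5 : e * (n : G) * a * e⁻¹ = (n : G) * a := by
    have h6 : e * a * e⁻¹ = (e * (n : G)⁻¹ * e⁻¹ * n) * a := by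
      rw [hn']
      group
    calc e * (n : G) * a * e⁻¹ = (e * (n : G) * e⁻¹) * (e * a * e⁻¹) := by group
      _ = (e * (n : G) * e⁻¹) * ((e * (n : G)⁻¹ * e⁻¹ * n) * a) := by rw [h6]
      _ = (n : G) * a := by group
  have h1 : e * ((n : G) * a) = ((n : G) * a) * e := by
    calc e * ((n : G) * a) = (e * (n : G) * a * e⁻¹) * e := by group
      _ = _ := by rw [h5]
  have h2 := hfix _ (U.mul_mem (hRU n.2) ha) h1
  have h3 : a = (n : G)⁻¹ := eq_inv_of_mul_eq_one_right h2
  rw [h3]
  exact R.inv_mem n.2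

universe uK uV uG

variable {K : Type uK} [Field K] {G : Type uG} [Group G] [Finite G]

/-- Restriction of a representation to the fixed space of a normal subgroup. -/
def resFix {V : Type uV} [AddCommGroup V] [Module K V] (r : G →* Module.End K V) (A : Subgroup G) [A.Normal] :
    G →* Module.End K (fixS r (A : Set G)) where
  toFun g := (r g).restrict (fun v hv => by
    intro a ha
    have h1 : r a (r g v) = r g (r (g⁻¹ * a * g) v) := by
      have h0 : r a * r g = r g * r (g⁻¹ * a * g) := by
        rw [← map_mul, ← map_mul]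
        congr 1
        group
      exact LinearMap.congr_fun h0 v
    have h2 : g⁻¹ * a * g ∈ A := by
      have := (inferInstance : A.Normal).conj_mem a ha g⁻¹
      simpa using this
    rw [h1, hv _ h2])
  map_one' := by
    apply LinearMap.ext
    intro v
    apply Subtype.ext
    show r 1 v = v
    rw [map_one]
    rfl
  map_mul' := by
    intro a b
    apply LinearMap.ext
    intro v
    apply Subtype.ext
    show r (a * b) v = r a (r b v)
    rw [map_mul]
    rfl

theorem coe_resFix {V : Type uV} [AddCommGroup V] [Module K V] (r : G →* Module.End K V) (A : Subgroup G) [A.Normal]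
    (g : G) (v : fixS r (A : Set G)) : ((resFix r A g v : fixS r (A : Set G)) : V) = r g v := rfl

theorem finrank_comap_subtype {V : Type uV} [AddCommGroup V] [Module K V] (A W : Submodule K V) :
    finrank K (W.comap A.subtype) = finrank K (W ⊓ A : Submodule K V) := by
  have h : W.comap A.subtype = (W ⊓ A : Submodule K V).comap A.subtype := by
    ext v
    simp
  rw [h]
  exact (Submodule.comapSubtypeEquivOfLe inf_le_right).finrank_eq

theorem fixS_resFix {V : Type uV} [AddCommGroup V] [Module K V] (r : G →* Module.End K V) (A : Subgroup G) [A.Normal]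
    (S : Set G) : fixS (resFix r A) S = (fixS r S).comap (fixS r (A : Set G)).subtype := by
  ext v
  constructor
  · intro hv s hs
    have := congrArg Subtype.val (hv s hs)
    exact this
  · intro hv s hs
    apply Subtype.ext
    exact hv s hs

/-- The key step: one abelian layer. -/
theorem layer [IsAlgClosed K] (hG : (Nat.card G : K) ≠ 0) (U E : Subgroup G) [Fintype E]
    (hfpf : ∀ e ∈ E, e ≠ 1 → ∀ u ∈ U, e * u = u * e → u = 1) (A : Subgroup G) [hAn : A.Normal] (hAU : A ≤ U)
    {V : Type uV} [AddCommGroup V] [Module K V] [FiniteDimensional K V] (r : G →* Module.End K V)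
    (hab : ∀ a ∈ A, ∀ b ∈ A, r (a * b * a⁻¹ * b⁻¹) = 1) :
    ∃ c : ℕ, finrank K V = finrank K (fixS r (A : Set G)) + Fintype.card E * c ∧
      finrank K (fixS r (E : Set G)) = finrank K (fixS r (E : Set G) ⊓ fixS r (A : Set G) : Submodule K V) + c := by
  classical
  let rU : G →* (Module.End K V)ˣ := r.toHomUnits
  have hrU : ∀ g, ((rU g : (Module.End K V)ˣ) : Module.End K V) = r g := fun g => rfl
  let T₀ : Subgroup (Module.End K V)ˣ := A.map rU
  have hT₀ : ∀ t, t ∈ T₀ ↔ ∃ a ∈ A, rU a = t := fun t => Iff.rfl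
  have hcomm : ∀ a ∈ T₀, ∀ b ∈ T₀, a * b = b * a := by
    rintro _ ⟨a, ha, rfl⟩ _ ⟨b, hb, rfl⟩
    have h1 : rU (a * b * a⁻¹ * b⁻¹) = 1 := by
      apply Units.ext
      exact hab a ha b hb
    simp only [map_mul, map_inv] at h1
    have h2 : rU a * rU b = rU b * rU a := by
      have := congrArg (fun x => x * rU b * rU a) h1
      simpa [mul_assoc] using this
    exact h2
  letI cT : CommGroup T₀ :=
    { (inferInstance : Group T₀) with mul_comm := fun a b => Subtype.ext (hcomm a a.2 b b.2) }
  haveI : Finite T₀ := by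
    have : Finite A := inferInstance
    exact Finite.of_surjective (fun a : A => (⟨rU a, a, a.2, rfl⟩ : T₀)) (by
      rintro ⟨_, a, ha, rfl⟩
      exact ⟨⟨a, ha⟩, rfl⟩)
  haveI : Fintype T₀ := Fintype.ofFinite _
  let ρ : T₀ →* Module.End K V := (Units.coeHom _).comp T₀.subtype
  have hρ : ∀ t : T₀, ρ t = ((t : (Module.End K V)ˣ) : Module.End K V) := fun t => rfl
  have hT : (Nat.card T₀ : K) ≠ 0 := by
    have h1 : Nat.card T₀ ∣ Nat.card A := Subgroup.card_map_dvd _ _
    have h2 : Nat.card A ∣ Nat.card G := Subgroup.card_subgroup_dvd_card A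
    obtain ⟨c, hc⟩ := h1.trans h2
    intro h3
    apply hG
    rw [hc, Nat.cast_mul, h3, zero_mul]
  -- action of `E`
  have hconjT : ∀ (g : G), ∀ t ∈ T₀, rU g * t * (rU g)⁻¹ ∈ T₀ := by
    rintro g _ ⟨a, ha, rfl⟩
    exact ⟨g * a * g⁻¹, hAn.conj_mem a ha g, by simp⟩
  let σ₀ : G → MulAut T₀ := fun g =>
    { toFun := fun t => ⟨rU g * t * (rU g)⁻¹, hconjT g t t.2⟩
      invFun := fun t => ⟨rU g⁻¹ * t * (rU g⁻¹)⁻¹, hconjT g⁻¹ t t.2⟩
      left_inv := by
        intro t
        apply Subtype.ext
        simp [mul_assoc]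
      right_inv := by
        intro t
        apply Subtype.ext
        simp [mul_assoc]
      map_mul' := by
        intro a b
        apply Subtype.ext
        simp [mul_assoc] }
  have hσ₀ : ∀ g (t : T₀), ((σ₀ g t : T₀) : (Module.End K V)ˣ) = rU g * t * (rU g)⁻¹ := fun g t => rfl
  let σ : E →* MulAut T₀ :=
    { toFun := fun e => σ₀ e
      map_one' := by
        ext t
        simp [hσ₀]
      map_mul' := by
        intro a b
        ext t
        simp [hσ₀, MulAut.mul_apply, mul_assoc] }
  have hσ : ∀ (e : E) (t : T₀), r (e : G) * ρ t = ρ (σ e t) * r (e : G) := by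
    intro e t
    have h1 : ((σ e t : T₀) : (Module.End K V)ˣ) = rU e * t * (rU e)⁻¹ := hσ₀ e t
    rw [hρ, hρ, h1, ← hrU]
    rw [← Units.val_mul, ← Units.val_mul]
    congr 1
    group
  have hfree : ∀ e : E, e ≠ 1 → ∀ t, σ e t = t → t = 1 := by
    rintro e he ⟨_, a, ha, rfl⟩ h
    have h1 : rU e * rU a * (rU e)⁻¹ = rU a := by
      have := congrArg Subtype.val h
      exact this
    let R : Subgroup G := A ⊓ rU.ker
    have hRe : ∀ n ∈ R, (e : G) * n * (e : G)⁻¹ ∈ R := by
      rintro n ⟨hnA, hnk⟩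
      refine ⟨hAn.conj_mem n hnA e, ?_⟩
      have hnk' : rU n = 1 := hnk
      show rU _ = 1
      simp [hnk']
    have hx : (e : G) * a * (e : G)⁻¹ * a⁻¹ ∈ R := by
      refine ⟨A.mul_mem (hAn.conj_mem a ha e) (A.inv_mem ha), ?_⟩
      show rU _ = 1
      simp only [map_mul, map_inv, h1]
      simp
    have h2 := mem_of_comm_mem U R (inf_le_left.trans hAU) e hRe (fun u hu hc => hfpf e e.2
      (fun h => he (Subtype.ext h)) u hu hc) a (hAU ha) hx
    apply Subtype.ext
    exact h2.2
  obtain ⟨c, h1, h2⟩ := weight_free hT ρ r E σ hσ hfree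
  have hwsp : wsp ρ 1 = fixS r (A : Set G) := by
    ext v
    constructor
    · intro hv a ha
      have := hv ⟨rU a, a, ha, rfl⟩
      rw [hρ] at this
      have h3 : ((rU a : (Module.End K V)ˣ) : Module.End K V) v = v := by simpa using this
      exact h3
    · rintro hv ⟨_, a, ha, rfl⟩
      rw [hρ]
      have h3 : ((rU a : (Module.End K V)ˣ) : Module.End K V) v = v := hv a ha
      simpa using h3
  rw [hwsp] at h1 h2
  exact ⟨c, h1, h2⟩

/-- The derived chain. -/
def chainD (U : Subgroup G) : ℕ → Subgroup G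
  | 0 => U
  | n + 1 => ⁅chainD U n, chainD U n⁆

theorem chainD_map (U : Subgroup G) (n : ℕ) : chainD U n = (derivedSeries U n).map U.subtype := by
  induction n with
  | zero =>
    show U = _
    rw [derivedSeries_zero, ← MonoidHom.range_eq_map, Subgroup.range_subtype]
  | succ n ih =>
    show ⁅chainD U n, chainD U n⁆ = _
    rw [derivedSeries_succ, Subgroup.map_commutator, ih]

theorem chainD_normal (U : Subgroup G) [hU : U.Normal] (n : ℕ) : (chainD U n).Normal := by
  induction n with
  | zero => exact hU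
  | succ n ih =>
    show (⁅chainD U n, chainD U n⁆).Normal
    haveI := ih
    infer_instance

theorem chainD_le (U : Subgroup G) (n : ℕ) : chainD U n ≤ U := by
  induction n with
  | zero => exact le_rfl
  | succ n ih =>
    show ⁅chainD U n, chainD U n⁆ ≤ U
    exact Subgroup.commutator_le.2 (fun a ha b hb => ih (Subgroup.mul_mem _ (Subgroup.mul_mem _
      (Subgroup.mul_mem _ ha hb) (Subgroup.inv_mem _ ha)) (Subgroup.inv_mem _ hb)))

/-- Over an algebraically closed field. -/
theorem frob_fix_closed [IsAlgClosed K] (hG : (Nat.card G : K) ≠ 0) (U E : Subgroup G) [U.Normal] [Fintype E]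
    (hfpf : ∀ e ∈ E, e ≠ 1 → ∀ u ∈ U, e * u = u * e → u = 1) (n : ℕ) :
    ∀ {V : Type uV} [AddCommGroup V] [Module K V] [FiniteDimensional K V] (r : G →* Module.End K V),
      (∀ a ∈ chainD U n, r a = 1) →
      finrank K V + Fintype.card E * finrank K (fixS r (U : Set G) ⊓ fixS r (E : Set G) : Submodule K V) =
        finrank K (fixS r (U : Set G)) + Fintype.card E * finrank K (fixS r (E : Set G)) := by
  induction n with
  | zero =>
    intro V _ _ _ r hr
    have h1 : fixS r (U : Set G) = ⊤ := by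
      rw [eq_top_iff]
      intro v _ a ha
      have : r a = 1 := hr a ha
      rw [this, Module.End.one_apply]
    rw [h1, top_inf_eq, finrank_top]
  | succ n ih =>
    intro V _ _ _ r hr
    haveI : (chainD U n).Normal := chainD_normal U n
    have hAU := chainD_le U n
    obtain ⟨c, h1, h2⟩ := layer hG U E hfpf (chainD U n) hAU r (by
      intro a ha b hb
      exact hr _ (Subgroup.commutator_mem_commutator ha hb))
    have h3 := ih (resFix r (chainD U n)) (by
      intro a ha
      ext v
      simp only [coe_resFix, Module.End.one_apply]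
      exact v.2 a ha)
    rw [fixS_resFix, fixS_resFix, finrank_comap_subtype, ← Submodule.comap_inf, finrank_comap_subtype,
      finrank_comap_subtype] at h3
    have hU1 : fixS r (U : Set G) ≤ fixS r (chainD U n : Set G) := fun v hv a ha => hv a (hAU ha)
    have hU2 : (fixS r (U : Set G) ⊓ fixS r (chainD U n : Set G) : Submodule K V) = fixS r (U : Set G) :=
      inf_eq_left.2 hU1
    have hU3 : (fixS r (U : Set G) ⊓ fixS r (E : Set G) ⊓ fixS r (chainD U n : Set G) : Submodule K V) =
        fixS r (U : Set G) ⊓ fixS r (E : Set G) := inf_eq_left.2 (inf_le_left.trans hU1)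
    rw [hU2, hU3] at h3
    rw [h2, mul_add]
    nth_rw 1 [h1]
    linarith

end Chain

section Base

open TensorProduct

variable {F : Type*} [Field F] {G : Type*} [Group G] [Finite G] {W : Type*} [AddCommGroup W] [Module F W]

theorem fixS_sup {K V : Type*} [Field K] [AddCommGroup V] [Module K V] (r : G →* Module.End K V) (U E : Subgroup G) :
    fixS r ((U ⊔ E : Subgroup G) : Set G) = fixS r (U : Set G) ⊓ fixS r (E : Set G) := by
  apply le_antisymm
  · intro v hv
    exact ⟨fun a ha => hv a (Subgroup.mem_sup_left ha), fun a ha => hv a (Subgroup.mem_sup_right ha)⟩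
  · rintro v ⟨h1, h2⟩
    let St : Subgroup G :=
      { carrier := {g | r g v = v}
        mul_mem' := by
          intro a b ha hb
          show r (a * b) v = v
          rw [map_mul, Module.End.mul_apply, show r b v = v from hb, show r a v = v from ha]
        one_mem' := by
          show r 1 v = v
          rw [map_one, Module.End.one_apply]
        inv_mem' := by
          intro a ha
          show r a⁻¹ v = v
          have h : r a⁻¹ (r a v) = v := by
            rw [← Module.End.mul_apply, ← map_mul, inv_mul_cancel, map_one, Module.End.one_apply]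
          rwa [show r a v = v from ha] at h }
    have hS : U ⊔ E ≤ St := sup_le (fun a ha => h1 a ha) (fun a ha => h2 a ha)
    intro a ha
    exact hS ha

/-- The average. -/
noncomputable def avg (r : G →* Module.End F W) (B : Subgroup G) [Fintype B] : Module.End F W :=
  (Fintype.card B : F)⁻¹ • ∑ b : B, r (b : G)

theorem rho_avg (r : G →* Module.End F W) (B : Subgroup G) [Fintype B] (b : G) (hb : b ∈ B) :
    r b * avg r B = avg r B := by
  unfold avg
  rw [mul_smul_comm, Finset.mul_sum]
  congr 1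
  refine Fintype.sum_equiv (Equiv.mulLeft (⟨b, hb⟩ : B)) _ _ ?_
  intro x
  simp only [Equiv.coe_mulLeft, Subgroup.coe_mul, map_mul]

theorem avg_idem (r : G →* Module.End F W) (B : Subgroup G) [Fintype B] (hB : (Fintype.card B : F) ≠ 0) :
    avg r B * avg r B = avg r B := by
  have h1 : ∀ b : B, r (b : G) * avg r B = avg r B := fun b => rho_avg r B b b.2
  nth_rw 1 [avg]
  rw [smul_mul_assoc, Finset.sum_mul, Finset.sum_congr rfl (fun b _ => h1 b)]
  rw [Finset.sum_const, Finset.card_univ, ← Nat.cast_smul_eq_nsmul F, smul_smul, inv_mul_cancel₀ hB, one_smul]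

theorem finrank_ker_idem {K V : Type*} [Field K] [AddCommGroup V] [Module K V] [FiniteDimensional K V]
    (P : Module.End K V) (hP : P * P = P) :
    finrank K (LinearMap.ker (P - 1)) + finrank K (LinearMap.ker P) = finrank K V := by
  have h := LinearMap.finrank_range_add_finrank_ker P
  have h2 : LinearMap.range P = LinearMap.ker (P - 1) := by
    ext v
    constructor
    · rintro ⟨x, rfl⟩
      have := LinearMap.congr_fun hP x
      simp only [Module.End.mul_apply] at this
      simp [this]
    · intro hv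
      have : P v = v := by simpa [sub_eq_zero] using hv
      exact ⟨v, this⟩
  rw [← h2]
  exact h

theorem fixS_eq_ker (r : G →* Module.End F W) (B : Subgroup G) [Fintype B] (hB : (Fintype.card B : F) ≠ 0) :
    fixS r (B : Set G) = LinearMap.ker (avg r B - 1) := by
  ext v
  constructor
  · intro hv
    have h1 : avg r B v = v := by
      unfold avg
      simp only [LinearMap.smul_apply, LinearMap.sum_apply]
      rw [Finset.sum_congr rfl (fun (b : B) _ => hv b b.2)]
      rw [Finset.sum_const, Finset.card_univ, ← Nat.cast_smul_eq_nsmul F, smul_smul, inv_mul_cancel₀ hB, one_smul]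
    simp [h1]
  · intro hv b hb
    have h1 : avg r B v = v := by simpa [sub_eq_zero] using hv
    have h2 := LinearMap.congr_fun (rho_avg r B b hb) v
    simp only [Module.End.mul_apply, h1] at h2
    exact h2

/-- The representation over an extension field. -/
noncomputable def repK (𝕜 : Type*) [Field 𝕜] [Algebra F 𝕜] (r : G →* Module.End F W) :
    G →* Module.End 𝕜 (𝕜 ⊗[F] W) :=
  (Module.End.baseChangeHom F 𝕜 W : Module.End F W →* Module.End 𝕜 (𝕜 ⊗[F] W)).comp r

theorem repK_apply (𝕜 : Type*) [Field 𝕜] [Algebra F 𝕜] (r : G →* Module.End F W) (g : G) :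
    repK 𝕜 r g = Module.End.baseChangeHom F 𝕜 W (r g) := rfl

theorem fixS_repK_eq_ker (𝕜 : Type*) [Field 𝕜] [Algebra F 𝕜] (r : G →* Module.End F W) (B : Subgroup G) [Fintype B]
    (hB : (Fintype.card B : F) ≠ 0) :
    fixS (repK 𝕜 r) (B : Set G) = LinearMap.ker (Module.End.baseChangeHom F 𝕜 W (avg r B) - 1) := by
  set bc := Module.End.baseChangeHom F 𝕜 W with hbc
  ext v
  constructor
  · intro hv
    have h1 : bc (avg r B) v = v := by
      unfold avg
      rw [map_smul, map_sum]
      simp only [LinearMap.smul_apply, LinearMap.sum_apply]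
      have hv' : ∀ b : B, bc (r (b : G)) v = v := fun b => hv b b.2
      rw [Finset.sum_congr rfl (fun (b : B) _ => hv' b)]
      rw [Finset.sum_const, Finset.card_univ, ← Nat.cast_smul_eq_nsmul F, smul_smul, inv_mul_cancel₀ hB, one_smul]
    simp [h1]
  · intro hv b hb
    have h1 : bc (avg r B) v = v := by simpa [sub_eq_zero] using hv
    have h2 : bc (r b) * bc (avg r B) = bc (avg r B) := by
      rw [← map_mul, rho_avg r B b hb]
    have h3 := LinearMap.congr_fun h2 v
    simp only [Module.End.mul_apply, h1] at h3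
    exact h3

theorem finrank_fixS_repK [FiniteDimensional F W] (𝕜 : Type*) [Field 𝕜] [Algebra F 𝕜] (r : G →* Module.End F W)
    (B : Subgroup G) (hB : (Nat.card B : F) ≠ 0) :
    finrank 𝕜 (fixS (repK 𝕜 r) (B : Set G)) = finrank F (fixS r (B : Set G)) := by
  classical
  haveI : Fintype B := Fintype.ofFinite _
  have hB' : (Fintype.card B : F) ≠ 0 := by rwa [← Nat.card_eq_fintype_card]
  rw [fixS_repK_eq_ker 𝕜 r B hB', fixS_eq_ker r B hB']
  set π := avg r B with hπ
  have hid : π * π = π := avg_idem r B hB'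
  set bc := Module.End.baseChangeHom F 𝕜 W with hbc
  have hid' : bc π * bc π = bc π := by rw [← map_mul, hid]
  have h1 := finrank_ker_idem π hid
  have h2 := finrank_ker_idem (bc π) hid'
  rw [Module.finrank_baseChange] at h2
  have h3 : finrank 𝕜 (LinearMap.ker (bc π - 1)) ≤ finrank F (LinearMap.ker (π - 1)) := by
    have := Cfsg.Agent.Lib.BGSec.finrank_ker_baseChange_le (𝕜 := 𝕜) (π - 1)
    have e : LinearMap.baseChange 𝕜 (π - 1) = bc π - 1 := by
      have : bc (π - 1) = bc π - 1 := by rw [map_sub, map_one]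
      exact this
    rwa [e] at this
  have h4 : finrank 𝕜 (LinearMap.ker (bc π)) ≤ finrank F (LinearMap.ker π) :=
    Cfsg.Agent.Lib.BGSec.finrank_ker_baseChange_le (𝕜 := 𝕜) π
  omega

theorem card_ne_zero_of_le {F G : Type*} [Field F] [Group G] [Finite G] (hG : (Nat.card G : F) ≠ 0) (B : Subgroup G) :
    (Nat.card B : F) ≠ 0 := by
  obtain ⟨c, hc⟩ := Subgroup.card_subgroup_dvd_card B
  intro h
  apply hG
  rw [hc, Nat.cast_mul, h, zero_mul]

/-- **The fixed point formula for modules.** -/
theorem frob_fix [FiniteDimensional F W] (hG : (Nat.card G : F) ≠ 0) (U E : Subgroup G) [U.Normal]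
    (hfpf : ∀ e ∈ E, e ≠ 1 → ∀ u ∈ U, e * u = u * e → u = 1) (hsol : Group.IsSolvable U)
    (r : G →* Module.End F W) :
    finrank F W + Nat.card E * finrank F (fixS r ((U ⊔ E : Subgroup G) : Set G)) =
      finrank F (fixS r (U : Set G)) + Nat.card E * finrank F (fixS r (E : Set G)) := by
  classical
  haveI : Fintype E := Fintype.ofFinite _
  let 𝕜 := AlgebraicClosure F
  have hG' : (Nat.card G : 𝕜) ≠ 0 := by
    intro h
    apply hG
    have : algebraMap F 𝕜 (Nat.card G : F) = 0 := by simpa using h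
    exact (map_eq_zero_iff _ (algebraMap F 𝕜).injective).1 this
  obtain ⟨n, hn⟩ := hsol.solvable
  have hD : chainD U n = ⊥ := by
    rw [chainD_map, hn, Subgroup.map_bot]
  have key := frob_fix_closed (K := 𝕜) hG' U E hfpf n (V := 𝕜 ⊗[F] W) (repK 𝕜 r) (by
    intro a ha
    rw [hD, Subgroup.mem_bot] at ha
    rw [ha, map_one])
  rw [← fixS_sup, Module.finrank_baseChange, finrank_fixS_repK 𝕜 r _ (card_ne_zero_of_le hG _),
    finrank_fixS_repK 𝕜 r _ (card_ne_zero_of_le hG _), finrank_fixS_repK 𝕜 r _ (card_ne_zero_of_le hG _),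
    ← Nat.card_eq_fintype_card] at key
  exact key

end Base

section GroupLevel

open scoped commutatorElement

variable {G : Type*} [Group G] [Finite G]

/-- The fixed subgroup of an action by automorphisms. -/
def Fx {H : Type*} [Group H] (φ : G →* MulAut H) (S : Set G) : Subgroup H where
  carrier := {x | ∀ s ∈ S, φ s x = x}
  mul_mem' := by
    intro a b ha hb s hs
    rw [map_mul, ha s hs, hb s hs]
  one_mem' := by
    intro s hs
    exact map_one _
  inv_mem' := by
    intro a ha s hs
    rw [map_inv, ha s hs]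

theorem mem_Fx {H : Type*} [Group H] {φ : G →* MulAut H} {S : Set G} {x : H} : x ∈ Fx φ S ↔ ∀ s ∈ S, φ s x = x := Iff.rfl

/-- Elementary abelian case, as a module. -/
theorem leaf_mod {W : Type*} [AddCommGroup W] (p : ℕ) [hp : Fact p.Prime] [Module (ZMod p) W] [Finite W]
    (hG : (Nat.card G).Coprime p) (U E : Subgroup G) [U.Normal]
    (hfpf : ∀ e ∈ E, e ≠ 1 → ∀ u ∈ U, e * u = u * e → u = 1) (hsol : Group.IsSolvable U)
    (r : G →* Module.End (ZMod p) W) :
    Nat.card (fixS r ((U ⊔ E : Subgroup G) : Set G)) ^ Nat.card E * Nat.card W =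
      Nat.card (fixS r (E : Set G)) ^ Nat.card E * Nat.card (fixS r (U : Set G)) := by
  haveI : FiniteDimensional (ZMod p) W := Module.Finite.of_finite
  have hcard : ∀ S : Set G, Nat.card (fixS r S) = p ^ finrank (ZMod p) (fixS r S) := by
    intro S
    rw [Module.natCard_eq_pow_finrank (K := ZMod p), Nat.card_zmod]
  have hcardN : Nat.card W = p ^ finrank (ZMod p) W := by
    rw [Module.natCard_eq_pow_finrank (K := ZMod p), Nat.card_zmod]
  have hGp : (Nat.card G : ZMod p) ≠ 0 := by
    intro h
    rw [ZMod.natCast_eq_zero_iff] at h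
    have := Nat.Coprime.eq_one_of_dvd hG.symm h
    exact hp.out.one_lt.ne' this
  have key := frob_fix (F := ZMod p) (W := W) hGp U E hfpf hsol r
  rw [hcard, hcard, hcard, hcardN, ← pow_mul, ← pow_mul, ← pow_add, ← pow_add]
  congr 1
  linarith

theorem exists_rep {W : Type*} [AddCommGroup W] (p : ℕ) [Module (ZMod p) W] (a : G → W →+ W)
    (h1 : ∀ x, a 1 x = x) (hm : ∀ g h x, a (g * h) x = a g (a h x)) :
    ∃ r : G →* Module.End (ZMod p) W, ∀ g x, r g x = a g x := by
  refine ⟨{ toFun := fun g => (a g).toZModLinearMap p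
            map_one' := ?_
            map_mul' := ?_ }, fun g x => rfl⟩
  · apply LinearMap.ext
    intro x
    rw [AddMonoidHom.coe_toZModLinearMap, Module.End.one_apply, h1]
  · intro g h
    apply LinearMap.ext
    intro x
    rw [Module.End.mul_apply, AddMonoidHom.coe_toZModLinearMap, AddMonoidHom.coe_toZModLinearMap,
      AddMonoidHom.coe_toZModLinearMap, hm]

theorem leaf_comm_aux {A : Type*} [CommGroup A] [Finite A] (p : ℕ) [hp : Fact p.Prime]
    [Module (ZMod p) (Additive A)]
    (hG : (Nat.card G).Coprime p) (U E : Subgroup G) [U.Normal]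
    (hfpf : ∀ e ∈ E, e ≠ 1 → ∀ u ∈ U, e * u = u * e → u = 1) (hsol : Group.IsSolvable U)
    (ψ : G →* MulAut A) :
    Nat.card (Fx ψ ((U ⊔ E : Subgroup G) : Set G)) ^ Nat.card E * Nat.card A =
      Nat.card (Fx ψ (E : Set G)) ^ Nat.card E * Nat.card (Fx ψ (U : Set G)) := by
  haveI : Finite (Additive A) := inferInstanceAs (Finite A)
  let a : G → (Additive A →+ Additive A) := fun g =>
    { toFun := fun x => Additive.ofMul (ψ g (Additive.toMul x))
      map_zero' := by
        apply Additive.toMul.injective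
        exact map_one (ψ g)
      map_add' := by
        intro x y
        apply Additive.toMul.injective
        exact map_mul (ψ g) _ _ }
  obtain ⟨r, hr⟩ := exists_rep p a (by
    intro x
    apply Additive.toMul.injective
    show ψ 1 (Additive.toMul x) = Additive.toMul x
    simp) (by
    intro g h x
    apply Additive.toMul.injective
    show ψ (g * h) (Additive.toMul x) = ψ g (ψ h (Additive.toMul x))
    simp [MulAut.mul_apply])
  have hr : ∀ g (x : Additive A), r g x = Additive.ofMul (ψ g (Additive.toMul x)) := hr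
  have hcard : ∀ S : Set G, Nat.card ↥(Fx ψ S) = Nat.card (fixS r S) := by
    intro S
    apply Nat.card_congr
    refine
      { toFun := fun x => ⟨Additive.ofMul x.1, ?_⟩
        invFun := fun x => ⟨Additive.toMul x.1, ?_⟩
        left_inv := ?_
        right_inv := ?_ }
    · intro s hs
      rw [hr]
      apply Additive.toMul.injective
      exact x.2 s hs
    · intro s hs
      have := x.2 s hs
      rw [hr] at this
      exact congrArg Additive.toMul this
    · intro x
      rfl
    · intro x
      rfl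
  have key := leaf_mod p hG U E hfpf hsol r
  rw [hcard, hcard, hcard]
  have e : Nat.card (Additive A) = Nat.card A := rfl
  rw [e] at key
  exact key

/-- Elementary abelian case, multiplicatively. -/
theorem leaf_comm {A : Type*} [CommGroup A] [Finite A] (p : ℕ) [hp : Fact p.Prime] (hA : ∀ a : A, a ^ p = 1)
    (hG : (Nat.card G).Coprime p) (U E : Subgroup G) [U.Normal]
    (hfpf : ∀ e ∈ E, e ≠ 1 → ∀ u ∈ U, e * u = u * e → u = 1) (hsol : Group.IsSolvable U)
    (ψ : G →* MulAut A) :
    Nat.card (Fx ψ ((U ⊔ E : Subgroup G) : Set G)) ^ Nat.card E * Nat.card A =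
      Nat.card (Fx ψ (E : Set G)) ^ Nat.card E * Nat.card (Fx ψ (U : Set G)) := by
  have hW : ∀ x : Additive A, p • x = 0 := by
    intro x
    induction x using Additive.rec with
    | ofMul a =>
      rw [← ofMul_pow, hA]
      rfl
  letI mW : Module (ZMod p) (Additive A) := AddCommGroup.zmodModule hW
  exact leaf_comm_aux p hG U E hfpf hsol ψ

/-- Elementary abelian case, inside a bigger group. -/
theorem leaf_sub {H : Type*} [Group H] [Finite H] (φ : G →* MulAut H) (N : Subgroup H) (p : ℕ) [hp : Fact p.Prime]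
    (hNc : ∀ a ∈ N, ∀ b ∈ N, a * b = b * a) (hNp : ∀ a ∈ N, a ^ p = 1) (hNφ : ∀ g, ∀ a ∈ N, φ g a ∈ N)
    (hG : (Nat.card G).Coprime p) (U E : Subgroup G) [U.Normal]
    (hfpf : ∀ e ∈ E, e ≠ 1 → ∀ u ∈ U, e * u = u * e → u = 1) (hsol : Group.IsSolvable U) :
    Nat.card ↥(Fx φ ((U ⊔ E : Subgroup G) : Set G) ⊓ N) ^ Nat.card E * Nat.card N =
      Nat.card ↥(Fx φ (E : Set G) ⊓ N) ^ Nat.card E * Nat.card ↥(Fx φ (U : Set G) ⊓ N) := by
  classical
  letI cN : CommGroup N :=
    { (inferInstance : Group N) with mul_comm := fun a b => Subtype.ext (hNc a a.2 b b.2) }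
  let ψ : G →* MulAut N :=
    { toFun := fun g =>
        { toFun := fun a => ⟨φ g a, hNφ g a a.2⟩
          invFun := fun a => ⟨φ g⁻¹ a, hNφ g⁻¹ a a.2⟩
          left_inv := by
            intro a
            apply Subtype.ext
            show φ g⁻¹ (φ g a) = a
            simp
          right_inv := by
            intro a
            apply Subtype.ext
            show φ g (φ g⁻¹ a) = a
            simp
          map_mul' := by
            intro a b
            apply Subtype.ext
            show φ g ((a : H) * b) = φ g a * φ g b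
            simp }
      map_one' := by
        ext a
        show φ 1 a = a
        simp
      map_mul' := by
        intro g h
        ext a
        show φ (g * h) a = φ g (φ h a)
        simp [MulAut.mul_apply] }
  have hψ : ∀ g (a : N), ((ψ g a : N) : H) = φ g a := fun g a => rfl
  have hcard : ∀ S : Set G, Nat.card ↥(Fx φ S ⊓ N) = Nat.card (Fx ψ S) := by
    intro S
    apply Nat.card_congr
    refine
      { toFun := fun x => ⟨⟨x.1, x.2.2⟩, ?_⟩
        invFun := fun x => ⟨x.1.1, ?_, x.1.2⟩
        left_inv := ?_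
        right_inv := ?_ }
    · intro s hs
      apply Subtype.ext
      exact x.2.1 s hs
    · intro s hs
      have := x.2 s hs
      exact congrArg Subtype.val this
    · intro x
      rfl
    · intro x
      rfl
  have key := leaf_comm (A := N) p (fun a => Subtype.ext (hNp a a.2)) hG U E hfpf hsol ψ
  rw [hcard, hcard, hcard]
  exact key

/-- Coprime averaging. -/
theorem exists_fixed_lift {H : Type*} [Group H] [Finite H] (φ : G →* MulAut H) (N : Subgroup H) (p : ℕ) [hp : Fact p.Prime]
    (hNc : ∀ a ∈ N, ∀ b ∈ N, a * b = b * a) (hNp : ∀ a ∈ N, a ^ p = 1) (hNφ : ∀ g, ∀ a ∈ N, φ g a ∈ N)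
    (B : Subgroup G) (hB : (Nat.card B).Coprime p) (x : H) (hx : ∀ b ∈ B, x⁻¹ * φ b x ∈ N) :
    ∃ z ∈ N, ∀ b ∈ B, φ b (x * z) = x * z := by
  classical
  letI cN : CommGroup N :=
    { (inferInstance : Group N) with mul_comm := fun a b => Subtype.ext (hNc a a.2 b b.2) }
  haveI : Fintype B := Fintype.ofFinite _
  let c : B → N := fun b => ⟨x⁻¹ * φ b x, hx b b.2⟩
  have hc : ∀ b : B, ((c b : N) : H) = x⁻¹ * φ b x := fun b => rfl
  let m : G → (N →* N) := fun g =>
    { toFun := fun a => ⟨φ g a, hNφ g a a.2⟩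
      map_one' := by
        apply Subtype.ext
        simp
      map_mul' := by
        intro a b
        apply Subtype.ext
        simp }
  have hm : ∀ g (a : N), ((m g a : N) : H) = φ g a := fun g a => rfl
  have hcoc : ∀ a b : B, c (a * b) = c a * m a (c b) := by
    intro a b
    apply Subtype.ext
    show x⁻¹ * φ ((a : G) * b) x = (x⁻¹ * φ a x) * φ a (x⁻¹ * φ b x)
    rw [map_mul, MulAut.mul_apply, map_mul, map_inv]
    group
  let y : N := ∏ b : B, c b
  have hy : ∀ a : B, (c a) ^ Nat.card B * m a y = y := by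
    intro a
    have h1 : ∏ b : B, c (a * b) = y := Fintype.prod_equiv (Equiv.mulLeft a) _ _ (fun b => rfl)
    have h2 : ∏ b : B, c (a * b) = c a ^ Nat.card B * m a y := by
      rw [Finset.prod_congr rfl (fun b _ => hcoc a b), Finset.prod_mul_distrib, Finset.prod_const, Finset.card_univ,
        ← Nat.card_eq_fintype_card, ← map_prod]
    exact h2.symm.trans h1
  obtain ⟨n, hn⟩ : ∃ n, Nat.card B * n % p = 1 := by
    obtain ⟨n, -, hn⟩ := Nat.exists_mul_mod_eq_one_of_coprime hB hp.out.one_lt
    exact ⟨n, by rw [hn]⟩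
  have hpow : ∀ w : N, w ^ (Nat.card B * n) = w := by
    intro w
    have hw : w ^ p = 1 := Subtype.ext (hNp w w.2)
    rw [pow_eq_pow_mod _ hw, hn, pow_one]
  refine ⟨((y ^ n : N) : H), (y ^ n : N).2, ?_⟩
  intro b hb
  have h1 : c ⟨b, hb⟩ = y ^ n * (m b (y ^ n))⁻¹ := by
    rw [← hpow (c ⟨b, hb⟩), pow_mul]
    have h2 : (c ⟨b, hb⟩) ^ Nat.card B = y * (m b y)⁻¹ := by
      rw [eq_mul_inv_iff_mul_eq]
      exact hy ⟨b, hb⟩
    rw [h2, mul_pow, map_pow, inv_pow]
  have h2 : φ b x = x * ((c ⟨b, hb⟩ : N) : H) := by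
    rw [hc]
    group
  have h3 : ((c ⟨b, hb⟩ : N) : H) = ((y ^ n : N) : H) * (φ b ((y ^ n : N) : H))⁻¹ := by
    rw [h1]
    rfl
  rw [map_mul, h2, h3]
  group

/-- A nontrivial solvable group has a nontrivial characteristic elementary abelian subgroup. -/
theorem exists_char_elem {H : Type*} [Group H] [Finite H] [Nontrivial H] [hs : Group.IsSolvable H] :
    ∃ (p : ℕ) (_ : Fact p.Prime) (N : Subgroup H), N ≠ ⊥ ∧ (∀ a ∈ N, ∀ b ∈ N, a * b = b * a) ∧ (∀ a ∈ N, a ^ p = 1) ∧
      ∀ (α : MulAut H), ∀ a ∈ N, α a ∈ N := by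
  classical
  obtain ⟨n, hn⟩ := hs.solvable
  let m := Nat.find (⟨n, hn⟩ : ∃ n, derivedSeries H n = ⊥)
  have hm : derivedSeries H m = ⊥ := Nat.find_spec (⟨n, hn⟩ : ∃ n, derivedSeries H n = ⊥)
  have hm0 : m ≠ 0 := by
    intro h
    rw [h, derivedSeries_zero] at hm
    exact top_ne_bot hm
  obtain ⟨k, hk⟩ := Nat.exists_eq_succ_of_ne_zero hm0
  have hL : derivedSeries H k ≠ ⊥ := Nat.find_min (⟨n, hn⟩ : ∃ n, derivedSeries H n = ⊥) (m := k) (by
    show k < m
    omega)
  rw [hk, derivedSeries_succ] at hm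
  set L := derivedSeries H k with hLdef
  have hLc : ∀ a ∈ L, ∀ b ∈ L, a * b = b * a := by
    intro a ha b hb
    have h1 : ⁅a, b⁆ ∈ ⁅L, L⁆ := Subgroup.commutator_mem_commutator ha hb
    rw [hm, Subgroup.mem_bot] at h1
    exact commutatorElement_eq_one_iff_mul_comm.1 h1
  have hLα : ∀ (α : MulAut H), ∀ a ∈ L, α a ∈ L := by
    intro α a ha
    have h1 := map_derivedSeries_eq (f := (α : H →* H)) α.surjective k
    have h2 : (α : H →* H) a ∈ (derivedSeries H k).map (α : H →* H) := Subgroup.mem_map_of_mem _ ha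
    rw [h1] at h2
    exact h2
  -- a prime divisor
  have hcard : Nat.card L ≠ 1 := by
    intro h
    exact hL (Subgroup.card_eq_one.1 h)
  obtain ⟨p, hp, hpd⟩ := Nat.exists_prime_and_dvd hcard
  haveI : Fact p.Prime := ⟨hp⟩
  obtain ⟨x, hx⟩ := exists_prime_orderOf_dvd_card' p hpd
  refine ⟨p, inferInstance,
    { carrier := {a | a ∈ L ∧ a ^ p = 1}
      mul_mem' := ?_
      one_mem' := ⟨L.one_mem, one_pow _⟩
      inv_mem' := ?_ }, ?_, ?_, ?_, ?_⟩
  · rintro a b ⟨ha, ha'⟩ ⟨hb, hb'⟩
    refine ⟨L.mul_mem ha hb, ?_⟩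
    have hc : Commute a b := hLc a ha b hb
    rw [hc.mul_pow, ha', hb', one_mul]
  · rintro a ⟨ha, ha'⟩
    exact ⟨L.inv_mem ha, by rw [inv_pow, ha', inv_one]⟩
  · intro h
    have h1 : (x : H) ∈ (⊥ : Subgroup H) := by
      rw [← h]
      refine ⟨x.2, ?_⟩
      have h2 : x ^ p = 1 := by
        rw [← hx]
        exact pow_orderOf_eq_one x
      exact congrArg Subtype.val h2
    have h2 : x = 1 := Subtype.ext h1
    rw [h2, orderOf_one] at hx
    exact hp.one_lt.ne hx
  · rintro a ⟨ha, -⟩ b ⟨hb, -⟩
    exact hLc a ha b hb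
  · rintro a ⟨-, ha⟩
    exact ha
  · rintro α a ⟨ha, ha'⟩
    refine ⟨hLα α a ha, ?_⟩
    rw [← map_pow, ha', map_one]

/-- Induced action on a quotient. -/
theorem exists_quot_action {H : Type*} [Group H] (φ : G →* MulAut H) (N : Subgroup H) [N.Normal]
    (hNφ : ∀ g, ∀ a ∈ N, φ g a ∈ N) :
    ∃ φ' : G →* MulAut (H ⧸ N), ∀ g (x : H), φ' g (x : H ⧸ N) = ((φ g x : H) : H ⧸ N) := by
  have hmap : ∀ g, N.map ((φ g : H ≃* H) : H →* H) = N := by
    intro g
    apply le_antisymm
    · rintro _ ⟨a, ha, rfl⟩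
      exact hNφ g a ha
    · intro a ha
      refine ⟨φ g⁻¹ a, hNφ g⁻¹ a ha, ?_⟩
      show φ g (φ g⁻¹ a) = a
      simp
  refine ⟨{ toFun := fun g => QuotientGroup.congr N N (φ g) (hmap g)
            map_one' := ?_
            map_mul' := ?_ }, fun g x => rfl⟩
  · ext x
    induction x using QuotientGroup.induction_on with
    | H x =>
      show ((φ 1 x : H) : H ⧸ N) = x
      simp
  · intro g h
    ext x
    induction x using QuotientGroup.induction_on with
    | H x =>
      show ((φ (g * h) x : H) : H ⧸ N) = ((φ g (φ h x) : H) : H ⧸ N)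
      simp [MulAut.mul_apply]

/-- Multiplicativity of the number of fixed points. -/
theorem card_fx_quot {H : Type*} [Group H] [Finite H] (φ : G →* MulAut H) (N : Subgroup H) [N.Normal] (p : ℕ) [hp : Fact p.Prime]
    (hNc : ∀ a ∈ N, ∀ b ∈ N, a * b = b * a) (hNp : ∀ a ∈ N, a ^ p = 1) (hNφ : ∀ g, ∀ a ∈ N, φ g a ∈ N)
    (φ' : G →* MulAut (H ⧸ N)) (hφ' : ∀ g (x : H), φ' g (x : H ⧸ N) = ((φ g x : H) : H ⧸ N))
    (B : Subgroup G) (hB : (Nat.card B).Coprime p) :
    Nat.card (Fx φ (B : Set G)) = Nat.card ↥(Fx φ (B : Set G) ⊓ N) * Nat.card (Fx φ' (B : Set G)) := by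
  classical
  let f : Fx φ (B : Set G) →* Fx φ' (B : Set G) :=
    { toFun := fun x => ⟨((x : H) : H ⧸ N), by
        intro b hb
        rw [hφ', x.2 b hb]⟩
      map_one' := rfl
      map_mul' := fun _ _ => rfl }
  have hf : Function.Surjective f := by
    rintro ⟨y, hy⟩
    induction y using QuotientGroup.induction_on with
    | H x =>
      have h1 : ∀ b ∈ B, x⁻¹ * φ b x ∈ N := by
        intro b hb
        have h2 := hy b hb
        rw [hφ'] at h2
        exact (QuotientGroup.eq).1 h2.symm
      obtain ⟨z, hz, hzb⟩ := exists_fixed_lift φ N p hNc hNp hNφ B hB x h1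
      refine ⟨⟨x * z, hzb⟩, ?_⟩
      apply Subtype.ext
      show ((x * z : H) : H ⧸ N) = x
      rw [QuotientGroup.eq]
      simpa using N.inv_mem hz
  have h1 : Nat.card (Fx φ (B : Set G)) = Nat.card f.ker * Nat.card (Fx φ' (B : Set G)) := by
    have h2 := Subgroup.card_mul_index f.ker
    rw [Subgroup.index_ker, MonoidHom.range_eq_top.2 hf, Subgroup.card_top] at h2
    exact h2.symm
  rw [h1]
  congr 1
  apply Nat.card_congr
  refine
    { toFun := fun x => ⟨x.1.1, x.1.2, ?_⟩
      invFun := fun x => ⟨⟨x.1, x.2.1⟩, ?_⟩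
      left_inv := ?_
      right_inv := ?_ }
  · have h2 : f x.1 = 1 := x.2
    have h3 := congrArg Subtype.val h2
    exact (QuotientGroup.eq_one_iff _).1 h3
  · show f _ = 1
    apply Subtype.ext
    exact (QuotientGroup.eq_one_iff _).2 x.2.2
  · intro x
    rfl
  · intro x
    rfl

universe u

/-- The main theorem in action form. -/
theorem main_act (U E : Subgroup G) [U.Normal]
    (hfpf : ∀ e ∈ E, e ≠ 1 → ∀ u ∈ U, e * u = u * e → u = 1) (hsol : Group.IsSolvable U) (n : ℕ) :
    ∀ (H : Type u) [Group H] [Finite H] [Group.IsSolvable H] (φ : G →* MulAut H), Nat.card H = n →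
      (Nat.card H).Coprime (Nat.card G) →
      Nat.card (Fx φ ((U ⊔ E : Subgroup G) : Set G)) ^ Nat.card E * Nat.card H =
        Nat.card (Fx φ (E : Set G)) ^ Nat.card E * Nat.card (Fx φ (U : Set G)) := by
  classical
  induction n using Nat.strong_induction_on with
  | _ n ih =>
    intro H _ _ _ φ hn hcop
    by_cases htriv : Subsingleton H
    · have h1 : ∀ K : Subgroup H, Nat.card K = 1 := by
        intro K
        exact Nat.card_unique
      have hH : Nat.card H = 1 := Nat.card_unique
      rw [h1, h1, h1, hH]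
    · rw [not_subsingleton_iff_nontrivial] at htriv
      obtain ⟨p, hp, N, hN1, hNc, hNp, hNα⟩ := exists_char_elem (H := H)
      have hNφ : ∀ g, ∀ a ∈ N, φ g a ∈ N := fun g a ha => hNα (φ g) a ha
      haveI hNn : N.Normal := ⟨fun a ha g => by
        have := hNα (MulAut.conj g) a ha
        simpa [MulAut.conj_apply] using this⟩
      obtain ⟨φ', hφ'⟩ := exists_quot_action φ N hNφ
      -- `p` divides the order of `H`
      have hpH : p ∣ Nat.card H := by
        obtain ⟨⟨x, hx⟩, hx1'⟩ := Subgroup.ne_bot_iff_exists_ne_one.1 hN1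
        have hx1 : x ≠ 1 := fun h => hx1' (Subtype.ext h)
        have h1 : orderOf (x : H) = p := orderOf_eq_prime (hNp x hx) hx1
        rw [← h1]
        exact orderOf_dvd_natCard _
      have hGp : (Nat.card G).Coprime p := by
        have h1 : (Nat.card G).Coprime (Nat.card H) := hcop.symm
        exact h1.coprime_dvd_right hpH
      have hBp : ∀ B : Subgroup G, (Nat.card B).Coprime p := fun B =>
        hGp.coprime_dvd_left (Subgroup.card_subgroup_dvd_card B)
      have h1 := card_fx_quot φ N p hNc hNp hNφ φ' hφ' (U ⊔ E) (hBp _)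
      have h2 := card_fx_quot φ N p hNc hNp hNφ φ' hφ' E (hBp _)
      have h3 := card_fx_quot φ N p hNc hNp hNφ φ' hφ' U (hBp _)
      have hleaf := leaf_sub φ N p hNc hNp hNφ hGp U E hfpf hsol
      have hcardH : Nat.card H = Nat.card (H ⧸ N) * Nat.card N := Subgroup.card_eq_card_quotient_mul_card_subgroup N
      have hN1' : 1 < Nat.card N := by
        have h4 : Nat.card N ≠ 1 := fun h => hN1 (Subgroup.card_eq_one.1 h)
        have h5 : Nat.card N ≠ 0 := Nat.card_pos.ne'
        omega
      have hlt : Nat.card (H ⧸ N) < n := by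
        rw [← hn, hcardH]
        have h5 : 0 < Nat.card (H ⧸ N) := Nat.card_pos
        nlinarith
      have hcopQ : (Nat.card (H ⧸ N)).Coprime (Nat.card G) :=
        hcop.coprime_dvd_left (Subgroup.card_quotient_dvd_card N)
      have hQ := ih _ hlt (H ⧸ N) φ' rfl hcopQ
      rw [h1, h2, h3, hcardH, mul_pow, mul_pow]
      calc _ = (Nat.card ↥(Fx φ ((U ⊔ E : Subgroup G) : Set G) ⊓ N) ^ Nat.card E * Nat.card N) *
              (Nat.card (Fx φ' ((U ⊔ E : Subgroup G) : Set G)) ^ Nat.card E * Nat.card (H ⧸ N)) := by ring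
        _ = _ := by
          rw [hleaf, hQ]
          ring

end GroupLevel

end Cfsg.Agent.Lib.FrobFix
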