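import Mathlib
import Cfsg.Agent.Lib.BGZ4
import Cfsg.Agent.Lib.BGFix
import Cfsg.Agent.S1429
import Cfsg.Agent.S1439
import Cfsg.Agent.S1545

/-!
# Bender-Glauberman section 14: the partner `M*`, `K` is cyclic.
-/

set_option autoImplicit false
set_option linter.unusedSectionVars false
set_option linter.unusedVariables false
set_option linter.style.haveILetI false
set_option linter.unusedSimpArgs false

namespace Cfsg.Agent.Lib.BGZ5

open Cfsg Subgroup Cfsg.Agent.Lib.CoprimeInv Cfsg.Agent.Lib.BGTrans Cfsg.Agent.Lib.BGM1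
  Cfsg.Agent.Lib.BGSigma2 Cfsg.Agent.Lib.BGM2 Cfsg.Agent.Lib.BGZ1 Cfsg.Agent.Lib.OddOrderCore
  Cfsg.Agent.Lib.BGSigma4 Cfsg.Agent.Lib.BGZ2 Cfsg.Agent.Lib.BGZ3 Cfsg.Agent.Lib.BGZ4

universe u

variable {G : Type u} [Group G] [Finite G]

/-- Every prime of `H` is in `σ(H)` or `κ(H)`. -/
def P1 (H : Subgroup G) : Prop := ∀ q : ℕ, q.Prime → q ∣ Nat.card H → q ∈ sigma H ∨ q ∈ kappa H

theorem eq_of_relIndex {D H : Subgroup G} (hDH : D ≤ H) (h : ∀ q : ℕ, q.Prime → ¬ q ∣ D.relIndex H) : D = H := by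
  have h1 : D.relIndex H = 1 := by
    by_contra hne
    obtain ⟨q, hq, hd⟩ := Nat.exists_prime_and_dvd hne
    exact h q hq hd
  exact le_antisymm hDH (Subgroup.relIndex_eq_one.mp h1)

theorem not_dvd_of_le {A D H : Subgroup G} {q : ℕ} (hAD : A ≤ D) (hDH : D ≤ H) (h : ¬ q ∣ A.relIndex H) :
    ¬ q ∣ D.relIndex H := fun h2 =>
  h (by rw [← Subgroup.relIndex_mul_relIndex A D H hAD hDH]; exact dvd_mul_of_dvd_right h2 _)

theorem card_of_P1 (hG : IsMinSimpleOddOrder G) {H A : Subgroup G} (h : Good H A) (hP : P1 H) :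
    Nat.card H = Nat.card A * Nat.card (sigmaCore H) := by
  have hNA : A ≤ normalizer (sigmaCore H : Set G) := h.le.trans le_normalizer_sigmaCore
  have h1 := card_sup_mul_card_inf hNA
  rw [h.inf_core] at h1
  simp only [Subgroup.card_bot, mul_one] at h1
  have hD : A ⊔ sigmaCore H = H := by
    apply eq_of_relIndex (sup_le h.le sigmaCore_le)
    intro q hq hd
    have hq' : q ∣ Nat.card H := hd.trans (Subgroup.relIndex_dvd_card _ _)
    rcases hP q hq hq' with h2 | h2
    · exact not_dvd_of_le le_sup_right (sup_le h.le sigmaCore_le) ((sigma_hall hG h.hM).1.2.2 q hq h2) hd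
    · exact not_dvd_of_le le_sup_left (sup_le h.le sigmaCore_le) (h.hall.2.2 q hq h2) hd
  rw [hD] at h1
  exact h1

theorem nilp_of_not_P1 (hG : IsMinSimpleOddOrder G) {H : Subgroup G} (hH : IsCoatom H) (hP : ¬ P1 H) :
    Group.IsNilpotent (sigmaCore H) := by
  unfold P1 at hP
  push Not at hP
  obtain ⟨q, hq, hd, h1, h2⟩ := hP
  haveI : Fact q.Prime := ⟨hq⟩
  obtain ⟨S⟩ : Nonempty (Sylow q H) := inferInstance
  exact (Cfsg.Agent.S1429.result hG H hH (fun h3 => h2 (h3 q hq hd h1)) q hd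
    (by rintro (h3 | h3); exact h1 h3; exact h2 h3) S).2.2

/-- The complement `U` does not centralize `M_σ`. -/
theorem not_centralizes (I : Inp G) {H A U : Subgroup G} (h : Good H A) (hU1 : U ≠ ⊥)
    (hUh : IsPiHallOf {q | q.Prime ∧ q ∉ kappa H ∧ q ∉ sigma H} U H)
    (hUn : A ≤ normalizer (U : Set G)) (hUab : IsMulCommutative U) :
    ¬ U ≤ centralizer (sigmaCore H : Set G) := by
  intro hc
  have hG := I.hG
  have hH := h.hM
  have hUH : U ≤ H := hUh.1
  have hUp := hUh.2.1
  -- `U` is normal in `H`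
  have hcore : sigmaCore H ≤ centralizer (U : Set G) := Subgroup.le_centralizer_iff.mp hc
  have hDle : (A ⊔ U) ⊔ sigmaCore H ≤ H := sup_le (sup_le h.le hUH) sigmaCore_le
  have hD : (A ⊔ U) ⊔ sigmaCore H = H := by
    apply eq_of_relIndex hDle
    intro q hq hd
    have hq' : q ∣ Nat.card H := hd.trans (Subgroup.relIndex_dvd_card _ _)
    by_cases h1 : q ∈ sigma H
    · exact not_dvd_of_le le_sup_right hDle ((sigma_hall hG hH).1.2.2 q hq h1) hd
    · by_cases h2 : q ∈ kappa H
      · exact not_dvd_of_le (le_sup_left.trans le_sup_left) hDle (h.hall.2.2 q hq h2) hd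
      · exact not_dvd_of_le (le_sup_right.trans le_sup_left) hDle (hUh.2.2 q hq ⟨hq, h2, h1⟩) hd
  have hNU : H ≤ normalizer (U : Set G) := by
    rw [← hD]
    exact sup_le (sup_le hUn le_normalizer) (hcore.trans (cent_le_norm U))
  -- so it lies in `F(H)`
  have hnil : Group.IsNilpotent U := by
    letI : CommGroup U := { (inferInstance : Group U) with mul_comm := hUab.is_comm.comm }
    infer_instance
  have hFU : U ≤ fittingOf H := Cfsg.Agent.Lib.BGFix.le_fittingOf H U hUH
    (fun k hk l hl => (mem_normalizer_iff.mp (hNU hk) l).mp hl) hnil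
  have hFH : fittingOf H ≤ H := Subgroup.map_subtype_le _
  have hYU : U ≤ piCoreOf {q | q.Prime ∧ q ∉ sigma H} (fittingOf H) :=
    le_piCoreOf hFU (hFH.trans hNU) (fun p hp hd => ⟨hp, (hUp p hp hd).2.2⟩)
  have hcyc := (Cfsg.Agent.S1439.result hG H hH).1
  haveI : IsCyclic U := isCyclic_of_injective (Subgroup.inclusion hYU) (Subgroup.inclusion_injective hYU)
  -- a prime of `U`
  obtain ⟨X, hXU, hXp⟩ := exists_prime_le hU1
  obtain ⟨u, hu, hu1, -, huo⟩ := exists_gen hXp
  set q := Nat.card X with hq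
  haveI : Fact q.Prime := ⟨hXp⟩
  have hqd : q ∣ Nat.card U := Subgroup.card_dvd_of_le hXU
  obtain ⟨-, hqκ, hqσ⟩ := hUp q hXp hqd
  obtain ⟨x, hx, hx1⟩ := exists_mem_ne_one (Cfsg.Agent.Lib.BGTau7.sigmaCore_ne_bot hG hH (coatom_ne_bot hG hH))
  have hux : u ∈ H ⊓ centralizer ({x} : Set G) :=
    ⟨hUH (hXU hu), mem_centralizer_singleton_iff.mpr (mem_centralizer_iff.mp (hcore hx) u (hXU hu))⟩
  have hprime : ∀ r : ℕ, r.Prime → r ∣ orderOf u → r = q := by
    intro r hr hd
    rw [huo] at hd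
    exact (Nat.prime_dvd_prime_iff_eq hr hXp).mp hd
  rcases I.s32 H hH x hx hx1 u hux hu1 (fun r hr hd => by rw [hprime r hr hd]; exact hqσ) with h1 | h1
  · exact hqκ (h1.1 q hXp (by rw [huo]))
  · have h2 := h1.1 q hXp (by rw [huo])
    obtain ⟨S, hS⟩ := exists_isSylowIn q U
    have hS' : IsSylowIn q S H := isSylowIn_of_hall hS hUH (hUh.2.2 q hXp ⟨hXp, hqκ, hqσ⟩)
    haveI : IsCyclic S := isCyclic_of_injective (Subgroup.inclusion hS.1) (Subgroup.inclusion_injective hS.1)
    exact h2.2.2.2 (Cfsg.Agent.Lib.BGSigma.prankLE_of_isSylowIn hS'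
      (Cfsg.Agent.Lib.BGP3E.prankLE_one_of_cyclic hXp))

/-- If some prime of `H` lies outside `σ(H) ∪ κ(H)`, then the order of `A` is prime. -/
theorem prime_of_not_P1 (I : Inp G) {H A : Subgroup G} (h : Good H A) (hP : ¬ P1 H) : (Nat.card A).Prime := by
  have hG := I.hG
  have hH := h.hM
  unfold P1 at hP
  push Not at hP
  obtain ⟨q, hq, hqd, hqσ, hqκ⟩ := hP
  obtain ⟨-, ⟨U, hUab, hUh, hUn, hUf⟩, -⟩ := I.s30 H hH A h.hall h.ne
  have hUH : U ≤ H := hUh.1
  have hU1 : U ≠ ⊥ := by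
    intro hb
    have h1 : ¬ q ∣ U.relIndex H := hUh.2.2 q hq ⟨hq, hqκ, hqσ⟩
    have h2 : Nat.card U * U.relIndex H = Nat.card H := by
      have := Subgroup.card_mul_index (U.subgroupOf H)
      rwa [card_subgroupOf_of_le hUH] at this
    rw [hb] at h1 h2
    simp only [Subgroup.card_bot, one_mul] at h2
    exact h1 (by rw [h2]; exact hqd)
  have hnc := not_centralizes I h hU1 hUh hUn hUab
  set core := sigmaCore H with hcore
  -- the basic identity
  have hUcop : ∀ p : ℕ, p.Prime → p ∣ Nat.card U → p ∉ sigma H := fun p hp hd => (hUh.2.1 p hp hd).2.2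
  have key : ∀ E : Subgroup G, E ≤ A → E ≠ ⊥ →
      Nat.card ↥(kst H A ⊓ centralizer (U : Set G)) ^ Nat.card E * Nat.card core =
        Nat.card (kst H A) ^ Nat.card E * Nat.card ↥(core ⊓ centralizer (U : Set G)) := by
    intro E hEA hE1
    have hEH : E ≤ H := hEA.trans h.le
    have hEn : E ≤ normalizer (U : Set G) := hEA.trans hUn
    have hcop1 : ∀ p : ℕ, p.Prime → p ∣ Nat.card E → p ∉ sigma H := fun p hp hd =>
      h.not_sigma p hp (hd.trans (Subgroup.card_dvd_of_le hEA))
    have hsup : ∀ p : ℕ, p.Prime → p ∣ Nat.card ↥(U ⊔ E) → p ∉ sigma H := by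
      intro p hp hd
      rw [sup_comm] at hd
      exact primes_sup (π := {p | p ∉ sigma H}) hEn hcop1 hUcop p hp hd
    have hcop : Nat.Coprime (Nat.card core) (Nat.card ↥(U ⊔ E)) :=
      Nat.coprime_of_dvd fun p hp h1 h2 => hsup p hp h2 (primes_sigmaCore p hp h1)
    have hUE : U ⊓ E = ⊥ := by
      apply inf_eq_bot_of_coprime'
      apply Nat.coprime_of_dvd
      intro p hp h1 h2
      exact (hUh.2.1 p hp h1).2.1 (h.primes_kappa p hp (h2.trans (Subgroup.card_dvd_of_le hEA)))
    have hsolv : Group.IsSolvable core := by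
      have hne : core ≠ ⊤ := by
        intro ht
        apply hH.1
        rw [eq_top_iff, ← ht]
        exact sigmaCore_le
      exact IsMin.solvable hG hne
    have hres := Cfsg.Agent.S1545.result (X := G) U E core hU1 hE1 hUE
      (fun e he u hu => (mem_normalizer_iff.mp (hEn he) u).mp hu)
      (fun e he he1 u hu hc => by
        have h1 : u ∈ U ⊓ centralizer ({e} : Set G) := ⟨hu, mem_centralizer_singleton_iff.mpr hc.symm⟩
        rw [hUf e (hEA he) he1] at h1
        exact h1)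
      (fun x hx c hc => (mem_normalizer_iff.mp (le_normalizer_sigmaCore ((sup_le hUH hEH) hx)) c).mp hc)
      (inf_eq_bot_of_coprime' hcop) hsolv hcop
    have e1 : core ⊓ centralizer (E : Set G) = kst H A := by
      apply le_antisymm
      · obtain ⟨e, he, he1⟩ := exists_mem_ne_one hE1
        rw [← h.f1 I (hEA he) he1]
        apply inf_le_inf_left
        rw [← centralizer_zpowers]
        have h9 : zpowers e ≤ E := by rw [zpowers_le]; exact he
        exact Subgroup.centralizer_le h9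
      · exact inf_le_inf_left _ (Subgroup.centralizer_le hEA)
    have e2 : core ⊓ centralizer ((U ⊔ E : Subgroup G) : Set G) = kst H A ⊓ centralizer (U : Set G) := by
      apply le_antisymm
      · rw [← e1]
        apply le_inf
        · exact inf_le_inf_left _ (Subgroup.centralizer_le (SetLike.coe_subset_coe.mpr (le_sup_right : E ≤ U ⊔ E)))
        · exact inf_le_right.trans (Subgroup.centralizer_le (SetLike.coe_subset_coe.mpr (le_sup_left : U ≤ U ⊔ E)))
      · rw [← e1]
        rintro c ⟨⟨hc1, hc2⟩, hc3⟩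
        refine ⟨hc1, ?_⟩
        have h5 : U ⊔ E ≤ centralizer (zpowers c : Set G) := by
          apply sup_le
          · apply Subgroup.le_centralizer_iff.mp
            rw [zpowers_le]; exact hc3
          · apply Subgroup.le_centralizer_iff.mp
            rw [zpowers_le]; exact hc2
        exact (Subgroup.le_centralizer_iff.mp h5) (mem_zpowers c)
    rw [e2, e1] at hres
    exact hres
  -- the arithmetic
  set D := kst H A ⊓ centralizer (U : Set G) with hDdef
  have hDle : D ≤ kst H A := inf_le_left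
  have h1 : Nat.card D * D.relIndex (kst H A) = Nat.card (kst H A) := by
    have := Subgroup.card_mul_index (D.subgroupOf (kst H A))
    rwa [card_subgroupOf_of_le hDle] at this
  set t := D.relIndex (kst H A) with ht
  set C := core ⊓ centralizer (U : Set G) with hCdef
  have hCle : C ≤ core := inf_le_left
  have h2 : Nat.card C * C.relIndex core = Nat.card core := by
    have := Subgroup.card_mul_index (C.subgroupOf core)
    rwa [card_subgroupOf_of_le hCle] at this
  set w := C.relIndex core with hw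
  have hw1 : w ≠ 1 := by
    intro h3
    rw [hw, Subgroup.relIndex_eq_one] at h3
    apply hnc
    apply Subgroup.le_centralizer_iff.mp
    exact h3.trans inf_le_right
  have hpow : ∀ E : Subgroup G, E ≤ A → E ≠ ⊥ → w = t ^ Nat.card E := by
    intro E hEA hE1
    have h3 := key E hEA hE1
    rw [← h1, ← h2, mul_pow] at h3
    have hpos : 0 < Nat.card D ^ Nat.card E * Nat.card C := Nat.mul_pos (Nat.pow_pos Nat.card_pos) Nat.card_pos
    apply Nat.eq_of_mul_eq_mul_left hpos
    calc Nat.card D ^ Nat.card E * Nat.card C * w = Nat.card D ^ Nat.card E * (Nat.card C * w) := by ring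
      _ = Nat.card D ^ Nat.card E * t ^ Nat.card E * Nat.card C := h3
      _ = _ := by ring
  have hA1 := hpow A le_rfl h.ne
  have ht1 : t ≠ 1 := by
    intro h3
    rw [h3, one_pow] at hA1
    exact hw1 hA1
  have ht0 : t ≠ 0 := by
    intro h3
    rw [h3, mul_zero] at h1
    exact Nat.card_pos.ne h1
  have ht2 : 2 ≤ t := by omega
  obtain ⟨X, hXA, hXp⟩ := exists_prime_le h.ne
  have hX1 : X ≠ ⊥ := h.prime_ne I hXp
  have hX := hpow X hXA hX1
  have he : Nat.card X = Nat.card A := Nat.pow_right_injective ht2 (hX.symm.trans hA1)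
  rwa [he] at hXp


theorem not_prime_of_two (I : Inp G) {Z K B K₁ B₁ K₂ B₂ : Subgroup G} (h : Fam Z K B) (h₁ : Fam Z K₁ B₁)
    (h₂ : Fam Z K₂ B₂) (hne₁ : K ≠ K₁) (hne₂ : K ≠ K₂) (hne : K₁ ≠ K₂) : ¬ (Nat.card B).Prime := by
  intro hp
  have key : ∀ {X : Subgroup G}, X ≤ B → X ≠ ⊥ → X = B := by
    intro X hX hX1
    obtain ⟨x, hx, hx1⟩ := exists_mem_ne_one hX1
    apply le_antisymm hX
    rw [eq_zpowers_of_prime hp (hX hx) hx1, zpowers_le]
    exact hx
  have e1 := key (h.T_le_A I h₁ hne₁) (h₁.T_ne I)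
  have e2 := key (h.T_le_A I h₂ hne₂) (h₂.T_ne I)
  have h3 := inf_eq_bot_of_coprime' (h₁.coprime_T I h₂ hne)
  rw [e1, e2, inf_idem] at h3
  exact h.good.ne h3

/-- The family of `Z` has at most two members. -/
theorem fam_le_two (I : Inp G) {Z H A H' A' H'' A'' : Subgroup G} (h : Fam Z H A) (h' : Fam Z H' A')
    (h'' : Fam Z H'' A'') (h1 : H ≠ H') (h2 : H ≠ H'') (h3 : H' ≠ H'') : False := by
  apply count_contra I h
  intro K B hK
  apply card_of_P1 I.hG hK.good
  by_contra hP
  have hprime := prime_of_not_P1 I hK.good hP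
  by_cases e1 : K = H
  · subst e1
    exact not_prime_of_two I hK h' h'' h1 h2 h3 hprime
  · by_cases e2 : K = H'
    · subst e2
      exact not_prime_of_two I hK h h'' e1 h3 h2 hprime
    · exact not_prime_of_two I hK h h' e1 e2 h1 hprime

/-- The partner of `(M, K)`. -/
structure Mate (M K Ms : Subgroup G) : Prop where
  good : Good M K
  goodS : Good Ms (kst M K)
  kst_eq : kst Ms (kst M K) = K
  ne : Ms ≠ M
  all : ∀ H A, Fam (zz M K) H A → H = M ∨ H = Ms

theorem exists_mate (I : Inp G) {M K : Subgroup G} (h : Good M K) : ∃ Ms, Mate M K Ms := by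
  have hF : Fam (zz M K) M K := ⟨h, rfl⟩
  obtain ⟨X, hX, hXp⟩ := exists_prime_le h.ne
  obtain ⟨L, hL, hN⟩ := Cfsg.Agent.Lib.BGSigma2.exists_coatom_ge (h.normalizer_ne_top_of_prime I hXp)
  obtain ⟨B, hB, hBle, hXT, hTK, hz⟩ := h.step I hX hXp hL hN
  have hFL : Fam (zz M K) L B := ⟨hB, hz⟩
  have hLM : L ≠ M := by
    rintro rfl
    obtain ⟨x, hx, hx1, -, -⟩ := exists_gen hXp
    have h1 : x ∈ K ⊓ sigmaCore L := ⟨hX hx, hB.kst_le_core (hXT hx)⟩
    rw [h.inf_core] at h1
    exact hx1 h1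
  have hall : ∀ H A, Fam (zz M K) H A → H = M ∨ H = L := by
    intro H A hA
    by_contra hcon
    push Not at hcon
    exact fam_le_two I hF hFL hA hLM.symm (Ne.symm hcon.1) (Ne.symm hcon.2)
  have hprimes : ∀ r : ℕ, r.Prime → r ∣ Nat.card K → r ∣ Nat.card (kst L B) := by
    intro r hr hd
    obtain ⟨Y, hY, hYc⟩ := exists_prime_sub hr hd
    have hYp : (Nat.card Y).Prime := by rw [hYc]; exact hr
    obtain ⟨H', A', hF', hYT⟩ := hF.cover I (hY.trans hF.A_le) hYp
    have hH'M : H' ≠ M := by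
      rintro rfl
      have h1 : kst H' A' = kst H' K := by rw [hF'.kst_eq, hF.kst_eq]
      rw [h1] at hYT
      have h2 : Y ≤ K ⊓ kst H' K := le_inf hY hYT
      rw [h.inf_kst, le_bot_iff] at h2
      exact h.prime_ne I hYp h2
    have hH' := (hall H' A' hF').resolve_left hH'M
    subst hH'
    have h1 : kst H' A' = kst H' B := by rw [hF'.kst_eq, hFL.kst_eq]
    rw [h1] at hYT
    rw [← hYc]
    exact Subgroup.card_dvd_of_le hYT
  have hBK : B ≤ kst M K := by
    intro b hb
    obtain ⟨a, ha, t, ht, rfl, ⟨n, hn⟩, -⟩ := hF.parts (hFL.A_le hb)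
    have haB : a ∈ B := by rw [← hn]; exact pow_mem hb n
    have ha1 : a = 1 := by
      by_contra hne
      obtain ⟨r, hr, hd⟩ := Nat.exists_prime_and_dvd (show orderOf a ≠ 1 by simpa using hne)
      have h1 : r ∣ Nat.card K := hd.trans (Subgroup.orderOf_dvd_natCard K ha)
      exact hFL.coprime_of_dvd_A_T hr (hd.trans (Subgroup.orderOf_dvd_natCard B haB)) (hprimes r hr h1)
    rw [ha1, one_mul]
    exact ht
  have hBeq : B = kst M K := le_antisymm hBK hBle
  have hKT : K ≤ kst L B := by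
    intro a ha
    obtain ⟨b, hb, t, ht, rfl, ⟨n, hn⟩, -⟩ := hFL.parts (hF.A_le ha)
    have hbK : b ∈ K := by rw [← hn]; exact pow_mem ha n
    have hb1 : b ∈ K ⊓ kst M K := ⟨hbK, hBK hb⟩
    rw [h.inf_kst] at hb1
    have hb2 : b = 1 := hb1
    rw [hb2, one_mul]
    exact ht
  refine ⟨L, h, hBeq ▸ hB, ?_, hLM, hall⟩
  rw [← hBeq]
  exact le_antisymm hTK hKT

/-- Hall `κ(M)`-subgroups of maximal subgroups are cyclic. -/
theorem isCyclic_of_good (I : Inp G) {M K : Subgroup G} (h : Good M K) : IsCyclic K := by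
  by_contra hc
  obtain ⟨Ms, hMs⟩ := exists_mate I h
  have hnp : ¬ (Nat.card K).Prime := fun hp => by
    haveI : Fact (Nat.card K).Prime := ⟨hp⟩
    exact hc (isCyclic_of_prime_card rfl)
  have hP1 : P1 M := by
    by_contra hP
    exact hnp (prime_of_not_P1 I h hP)
  have hZ : IsZGroup K := by
    constructor
    intro p hfact P
    haveI : Fact p.Prime := ⟨hfact⟩
    by_cases hd : p ∣ Nat.card K
    · have hκ := h.primes_kappa p hfact hd
      have h1 : IsSylowIn p ((P : Subgroup K).map K.subtype) K := isSylowIn_map P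
      have h2 : IsSylowIn p ((P : Subgroup K).map K.subtype) M := isSylowIn_of_hall h1 h.le (h.hall.2.2 p hfact hκ)
      have h3 := ((mem_kappa_iff.mp hκ).2.2.2 _ h2).1
      exact isCyclic_of_surjective
        (Subgroup.equivMapOfInjective (P : Subgroup K) K.subtype K.subtype_injective).symm.toMonoidHom
        (Subgroup.equivMapOfInjective (P : Subgroup K) K.subtype K.subtype_injective).symm.surjective
    · have h1 : Nat.card (P : Subgroup K) = 1 := by
        obtain ⟨k, hk⟩ := IsPGroup.iff_card.mp P.isPGroup'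
        have h2 : Nat.card (P : Subgroup K) ∣ Nat.card K := Subgroup.card_subgroup_dvd_card _
        rcases k with _ | k
        · simpa using hk
        · exfalso
          apply hd
          rw [hk] at h2
          exact (dvd_pow_self p (Nat.succ_ne_zero k)).trans h2
      haveI : Subsingleton (P : Subgroup K) := (Nat.card_eq_one_iff_unique.mp h1).1
      exact isCyclic_of_subsingleton
  have hnil : ¬ Group.IsNilpotent K := fun hn => by
    haveI := hn
    exact hc inferInstance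
  have hP2 : P1 Ms := by
    by_contra hP
    have h1 := nilp_of_not_P1 I.hG hMs.goodS.hM hP
    apply hnil
    have hK : K ≤ sigmaCore Ms := by
      rw [← hMs.kst_eq]; exact inf_le_left
    exact Cfsg.Agent.Lib.OddOrderCore.isNilpotent_of_le hK h1
  apply count_contra I (⟨h, rfl⟩ : Fam (zz M K) M K)
  intro H A hA
  rcases hMs.all H A hA with rfl | rfl
  · exact card_of_P1 I.hG hA.good hP1
  · exact card_of_P1 I.hG hA.good hP2

theorem isCyclic_sup_of_coprime {A B : Subgroup G} (hA : IsCyclic A) (hB : IsCyclic B)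
    (hc : ∀ a ∈ A, ∀ b ∈ B, a * b = b * a) (hcop : (Nat.card A).Coprime (Nat.card B)) :
    IsCyclic ↥(A ⊔ B) := by
  obtain ⟨a, ha⟩ := hA.exists_generator
  obtain ⟨b, hb⟩ := hB.exists_generator
  have hao : orderOf (a : G) = Nat.card A := by
    rw [← orderOf_eq_card_of_forall_mem_zpowers ha]; simp
  have hbo : orderOf (b : G) = Nat.card B := by
    rw [← orderOf_eq_card_of_forall_mem_zpowers hb]; simp
  have hcomm : Commute (a : G) (b : G) := hc a a.2 b b.2
  have hord : orderOf ((a : G) * b) = Nat.card A * Nat.card B := by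
    rw [hcomm.orderOf_mul_eq_mul_orderOf_of_coprime (by rw [hao, hbo]; exact hcop), hao, hbo]
  have hNA : A ≤ normalizer (B : Set G) := by
    have : A ≤ centralizer (B : Set G) := by
      intro x hx
      rw [mem_centralizer_iff]
      intro y hy
      exact (hc x hx y hy).symm
    exact this.trans (cent_le_norm B)
  have hcard := card_sup_mul_card_inf hNA
  rw [inf_eq_bot_of_coprime' hcop] at hcard
  simp only [Subgroup.card_bot, mul_one] at hcard
  let c : ↥(A ⊔ B) := ⟨(a : G) * b, mul_mem ((le_sup_left : A ≤ A ⊔ B) a.2) ((le_sup_right : B ≤ A ⊔ B) b.2)⟩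
  have hco : orderOf c = Nat.card ↥(A ⊔ B) := by
    rw [hcard, ← hord]
    exact Subgroup.orderOf_mk _ _
  exact isCyclic_of_orderOf_eq_card c hco

namespace Mate

variable {M K Ms : Subgroup G} (h : Mate M K Ms) (I : Inp G)
include h

theorem symm : Mate Ms (kst M K) M := by
  have h1 := h.kst_eq
  refine ⟨h.goodS, ?_, ?_, h.ne.symm, ?_⟩
  · rw [h1]; exact h.good
  · rw [h1]
  · intro H A hA
    have h2 : zz Ms (kst M K) = zz M K := by
      show kst M K ⊔ kst Ms (kst M K) = K ⊔ kst M K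
      rw [h1, sup_comm]
    rw [h2] at hA
    exact (h.all H A hA).symm

theorem zz_symm : zz Ms (kst M K) = zz M K := by
  show kst M K ⊔ kst Ms (kst M K) = K ⊔ kst M K
  rw [h.kst_eq, sup_comm]

theorem le_core : K ≤ sigmaCore Ms := by
  rw [← h.kst_eq]; exact inf_le_left

include I

theorem comm_Z {a b : G} (ha : a ∈ zz M K) (hb : b ∈ zz M K) : a * b = b * a := by
  have hK := isCyclic_of_good I h.good
  have hKs := isCyclic_of_good I h.goodS
  have hc : IsCyclic ↥(zz M K) := isCyclic_sup_of_coprime hK hKs (fun a ha b hb => h.good.comm ha hb) h.good.coprime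
  exact mul_comm_of_isCyclic hc ha hb

theorem isCyclic_Z : IsCyclic ↥(zz M K) :=
  isCyclic_sup_of_coprime (isCyclic_of_good I h.good) (isCyclic_of_good I h.goodS)
    (fun a ha b hb => h.good.comm ha hb) h.good.coprime

theorem fam₁ : Fam (zz M K) M K := ⟨h.good, rfl⟩

theorem fam₂ : Fam (zz M K) Ms (kst M K) := ⟨h.goodS, h.zz_symm⟩

theorem mem_fams_iff {H : Subgroup G} : H ∈ fams (zz M K) ↔ H = M ∨ H = Ms := by
  rw [mem_fams]
  constructor
  · rintro ⟨A, hA⟩
    exact h.all H A hA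
  · rintro (rfl | rfl)
    · exact ⟨K, h.fam₁ I⟩
    · exact ⟨_, h.fam₂ I⟩

theorem T₁ : zz M K ⊓ sigmaCore M = kst M K := (h.fam₁ I).kst_eq.symm

theorem T₂ : zz M K ⊓ sigmaCore Ms = K := by
  rw [← (h.fam₂ I).kst_eq, h.kst_eq]

theorem mem_hat_iff {z : G} : z ∈ hat (zz M K) ↔ z ∈ zz M K ∧ z ∉ K ∧ z ∉ kst M K := by
  classical
  constructor
  · intro hz
    refine ⟨hz.1, ?_, ?_⟩
    · have := hz.2 Ms ((h.mem_fams_iff I).mpr (Or.inr rfl))
      rwa [h.T₂ I] at this
    · have := hz.2 M ((h.mem_fams_iff I).mpr (Or.inl rfl))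
      rwa [h.T₁ I] at this
  · rintro ⟨h1, h2, h3⟩
    refine ⟨h1, ?_⟩
    intro H hH
    rcases (h.mem_fams_iff I).mp hH with rfl | rfl
    · rwa [h.T₁ I]
    · rwa [h.T₂ I]

theorem inf_eq : M ⊓ Ms = zz M K := (h.fam₁ I).inf_eq I (h.fam₂ I) h.ne.symm

/-- `C_G(z) = Z` for `z ∈ Ẑ`. -/
theorem cent_hat {z : G} (hz : z ∈ hat (zz M K)) : centralizer ({z} : Set G) = zz M K := by
  obtain ⟨hzZ, hzK, hzT⟩ := (h.mem_hat_iff I).mp hz
  apply le_antisymm
  · obtain ⟨a, ha, t, ht, rfl, ⟨n, hn⟩, ⟨m, hm⟩⟩ := (h.fam₁ I).parts hzZ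
    have ha1 : a ≠ 1 := by
      rintro rfl
      rw [one_mul] at hzT
      exact hzT ht
    have ht1 : t ≠ 1 := by
      rintro rfl
      rw [mul_one] at hzK
      exact hzK ha
    have hmono : ∀ k : ℕ, centralizer ({a * t} : Set G) ≤ centralizer ({(a * t) ^ k} : Set G) := by
      intro k c hc
      rw [mem_centralizer_singleton_iff] at hc ⊢
      exact ((show Commute c (a * t) from hc).pow_right k).eq
    have h1 : centralizer ({a * t} : Set G) ≤ M := by
      have := hmono m
      rw [hm] at this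
      exact this.trans (h.good.cent_core I ht ht1)
    have h2 : centralizer ({a * t} : Set G) ≤ centralizer ({a} : Set G) := by
      have := hmono n
      rwa [hn] at this
    exact (le_inf h1 h2).trans (h.good.cent_le_zz I ha ha1)
  · intro c hc
    exact mem_centralizer_singleton_iff.mpr (h.comm_Z I hc hzZ)

theorem mul_mem_hat {x y : G} (hx : x ∈ K) (hx1 : x ≠ 1) (hy : y ∈ kst M K) (hy1 : y ≠ 1) :
    x * y ∈ hat (zz M K) := by
  rw [h.mem_hat_iff I]
  refine ⟨mul_mem ((le_sup_left : K ≤ zz M K) hx) ((le_sup_right : kst M K ≤ zz M K) hy), ?_, ?_⟩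
  · intro h1
    have h2 : y ∈ K := by
      have := mul_mem (inv_mem hx) h1
      simpa using this
    have h3 : y ∈ K ⊓ kst M K := ⟨h2, hy⟩
    rw [h.good.inf_kst] at h3
    exact hy1 h3
  · intro h1
    have h2 : x ∈ kst M K := by
      have := mul_mem h1 (inv_mem hy)
      simpa using this
    have h3 : x ∈ K ⊓ kst M K := ⟨hx, h2⟩
    rw [h.good.inf_kst] at h3
    exact hx1 h3

theorem exists_hat : ∃ z, z ∈ hat (zz M K) := by
  obtain ⟨x, hx, hx1⟩ := h.good.exists_ne
  obtain ⟨y, hy, hy1⟩ := exists_mem_ne_one (h.good.kst_ne I)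
  exact ⟨_, h.mul_mem_hat I hx hx1 hy hy1⟩

theorem cent_k {x : G} (hx : x ∈ K) (hx1 : x ≠ 1) : M ⊓ centralizer ({x} : Set G) = zz M K := by
  apply le_antisymm (h.good.cent_le_zz I hx hx1)
  refine le_inf h.good.zz_le ?_
  intro c hc
  exact mem_centralizer_singleton_iff.mpr (h.comm_Z I hc ((le_sup_left : K ≤ zz M K) hx))

theorem hat_not_conj {z g : G} (hz : z ∈ hat (zz M K)) (hg : g ∉ M) : z ∉ cj M g := by
  intro hzg
  obtain ⟨hzZ, hzK, hzT⟩ := (h.mem_hat_iff I).mp hz
  obtain ⟨a, ha, t, ht, rfl, -, ⟨m, hm⟩⟩ := (h.fam₁ I).parts hzZ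
  have ht1 : t ≠ 1 := by
    rintro rfl
    rw [mul_one] at hzK
    exact hzK ha
  have h1 : t ∈ kst M K ⊓ cj M g := ⟨ht, by rw [← hm]; exact pow_mem hzg m⟩
  rw [h.good.f4 I hg] at h1
  exact ht1 h1

/-- `K*` is a Hall `σ(M)`-subgroup of `M*`. -/
theorem hall_sigma : IsPiHallOf (sigma M) (kst M K) Ms := by
  refine ⟨h.goodS.le, fun p hp hd => primes_sigmaCore p hp (hd.trans (Subgroup.card_dvd_of_le inf_le_left)), ?_⟩
  intro p hp hpσ hd
  have hpMs : p ∣ Nat.card Ms := hd.trans (Subgroup.relIndex_dvd_card _ _)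
  have hσ := (h.fam₁ I).sigma_disj I (h.fam₂ I) h.ne.symm
  have hp1 : p ∉ sigma Ms := fun h2 => by
    have h3 : p ∈ sigma M ∩ sigma Ms := ⟨hpσ, h2⟩
    rw [hσ] at h3
    exact h3
  have hp2 : p ∉ kappa Ms := fun h2 => h.goodS.hall.2.2 p hp h2 hd
  obtain ⟨-, ⟨U, hUab, hUh, hUn, hUf⟩, -⟩ := I.s30 Ms h.goodS.hM (kst M K) h.goodS.hall h.goodS.ne
  haveI : Fact p.Prime := ⟨hp⟩
  have hUd : p ∣ Nat.card U := by
    have h1 : ¬ p ∣ U.relIndex Ms := hUh.2.2 p hp ⟨hp, hp2, hp1⟩
    have h2 : Nat.card U * U.relIndex Ms = Nat.card Ms := by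
      have := Subgroup.card_mul_index (U.subgroupOf Ms)
      rwa [card_subgroupOf_of_le hUh.1] at this
    rw [← h2] at hpMs
    exact ((Nat.Prime.dvd_mul hp).mp hpMs).resolve_right h1
  obtain ⟨Y, hY, hYp⟩ := exists_prime_le (h.good.kst_ne I)
  have hYU : Y ≤ normalizer (U : Set G) := hY.trans hUn
  have hcop : Nat.Coprime (Nat.card U) (Nat.card Y) :=
    Nat.coprime_of_dvd fun r hr h1 h2 =>
      (hUh.2.1 r hr h1).2.1 (h.goodS.primes_kappa r hr (h2.trans (Subgroup.card_dvd_of_le hY)))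
  have hsU : Group.IsSolvable U := by
    letI : CommGroup U := { (inferInstance : Group U) with mul_comm := hUab.is_comm.comm }
    infer_instance
  obtain ⟨S, hS, hYS⟩ := exists_invariant_isSylowIn p hsU hYU hcop
  have hSprimes : ∀ r : ℕ, r.Prime → r ∣ Nat.card S → r ∈ sigma M := by
    intro r hr hd2
    obtain ⟨k, hk⟩ := IsPGroup.iff_card.mp hS.2.1
    rw [hk] at hd2
    rwa [(Nat.prime_dvd_prime_iff_eq hr hp).mp (hr.dvd_of_dvd_pow hd2)]
  have hYprimes : ∀ r : ℕ, r.Prime → r ∣ Nat.card Y → r ∈ sigma M := fun r hr hd2 =>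
    primes_sigmaCore r hr (Subgroup.card_dvd_of_le (hY.trans inf_le_left) |> hd2.trans)
  have hle : Y ⊔ S ≤ sigmaCore M := by
    apply h.good.f7 I (primes_sup hYS hYprimes hSprimes)
    intro hb
    have h2 : Y ≤ (Y ⊔ S) ⊓ kst M K := le_inf le_sup_left hY
    rw [hb, le_bot_iff] at h2
    exact h.good.prime_ne I hYp h2
  have hSle : S ≤ kst M K := by
    rw [← h.T₁ I, ← h.inf_eq I]
    exact le_inf (le_inf ((le_sup_right.trans hle).trans sigmaCore_le) (hS.1.trans hUh.1)) (le_sup_right.trans hle)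
  have hd3 : p ∣ Nat.card S := by
    have h1 : ¬ p ∣ S.relIndex U := hS.toSylow.not_dvd_index
    have h2 : Nat.card S * S.relIndex U = Nat.card U := by
      have := Subgroup.card_mul_index (S.subgroupOf U)
      rwa [card_subgroupOf_of_le hS.1] at this
    rw [← h2] at hUd
    exact ((Nat.Prime.dvd_mul hp).mp hUd).resolve_right h1
  exact hp2 (h.goodS.hall.2.1 p hp (hd3.trans (Subgroup.card_dvd_of_le hSle)))

end Mate

/-- Two elements of `K` and `K*`. -/
theorem exists_two {M K : Subgroup G} (h : Good M K) (I : Inp G) : 3 ≤ Nat.card K := by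
  have hodd : Odd (Nat.card K) := Odd.of_dvd_nat I.hG.1 (Subgroup.card_subgroup_dvd_card _)
  have h1 : Nat.card K ≠ 1 := fun h2 => h.ne (Subgroup.card_eq_one.mp h2)
  obtain ⟨k, hk⟩ := hodd
  omega

end Cfsg.Agent.Lib.BGZ5
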