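import Mathlib
import Cfsg.Agent.Lib.BGZ5
import Cfsg.Agent.Lib.SameOrdA

/-!
# Bender-Glauberman section 14: the centralizer of a prime-order subgroup of `K*`.
-/

set_option autoImplicit false
set_option linter.unusedSectionVars false
set_option linter.unusedVariables false
set_option linter.style.haveILetI false
set_option linter.unusedSimpArgs false

namespace Cfsg.Agent.Lib.BGZ6

open Cfsg Subgroup Cfsg.Agent.Lib.CoprimeInv Cfsg.Agent.Lib.BGTrans Cfsg.Agent.Lib.BGM1
  Cfsg.Agent.Lib.BGSigma2 Cfsg.Agent.Lib.BGM2 Cfsg.Agent.Lib.BGZ1 Cfsg.Agent.Lib.OddOrderCore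
  Cfsg.Agent.Lib.BGSigma4 Cfsg.Agent.Lib.BGZ2 Cfsg.Agent.Lib.BGZ3 Cfsg.Agent.Lib.BGZ4
  Cfsg.Agent.Lib.BGZ5

universe u

variable {G : Type u} [Group G] [Finite G]

/-- In a cyclic subgroup, subgroups of equal prime order coincide. -/
theorem cyclic_unique {C A B : Subgroup G} (hC : IsCyclic C) (hA : A ≤ C) (hB : B ≤ C) {p : ℕ} (hp : p.Prime)
    (hAc : Nat.card A = p) (hBc : Nat.card B = p) : A = B := by
  haveI : Fact p.Prime := ⟨hp⟩
  have h1 := Cfsg.Agent.Lib.SameOrdA.eq_of_cyclic (p := p) (A.subgroupOf C) (B.subgroupOf C)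
    (by rw [card_subgroupOf_of_le hA]; exact hAc) (by rw [card_subgroupOf_of_le hB]; exact hBc)
  have h2 := congrArg (Subgroup.map C.subtype) h1
  rwa [Subgroup.map_subgroupOf_eq_of_le hA, Subgroup.map_subgroupOf_eq_of_le hB] at h2

/-- A non-trivial `p`-subgroup contains a subgroup of order `p`. -/
theorem exists_order_p {p : ℕ} [hp : Fact p.Prime] {H : Subgroup G} (hq : IsPGroup p H) (hne : H ≠ ⊥) :
    ∃ W : Subgroup G, W ≤ H ∧ Nat.card W = p := by
  obtain ⟨W, hW, hWp⟩ := exists_prime_le hne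
  refine ⟨W, hW, ?_⟩
  have h1 : IsPGroup p W := hq.to_le hW
  obtain ⟨k, hk⟩ := IsPGroup.iff_card.mp h1
  rw [hk] at hWp ⊢
  have := (Nat.Prime.pow_eq_iff hWp).mp rfl
  rw [this.2, pow_one]

/-- A prime power order element in a `p`-group has only the prime `p` in its order. -/
theorem prime_of_orderOf {p : ℕ} [hp : Fact p.Prime] {H : Subgroup G} (hq : IsPGroup p H) {b : G} (hb : b ∈ H)
    {r : ℕ} (hr : r.Prime) (hd : r ∣ orderOf b) : r = p := by
  obtain ⟨k, hk⟩ := IsPGroup.iff_card.mp hq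
  have h1 : r ∣ Nat.card H := hd.trans (Subgroup.orderOf_dvd_natCard H hb)
  rw [hk] at h1
  exact (Nat.prime_dvd_prime_iff_eq hr hp.out).mp (hr.dvd_of_dvd_pow h1)

/-- A maximal subgroup is self-normalizing. -/
theorem normalizer_coatom (hG : IsMinSimpleOddOrder G) {L : Subgroup G} (hL : IsCoatom L) :
    normalizer (L : Set G) = L := by
  by_contra hne
  have h1 : L < normalizer (L : Set G) := lt_of_le_of_ne le_normalizer (Ne.symm hne)
  exact IsMin.normalizer_ne_top hG (coatom_ne_bot hG hL) hL.1 (hL.2 _ h1)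

/-- If the normalizer of a subgroup `Y` normalizes `C(Y)` and `C(Y)` lies in a unique maximal subgroup `L`,
then `N(Y) ≤ L`. -/
theorem normalizer_le_of_unique (hG : IsMinSimpleOddOrder G) {Y L : Subgroup G} (hL : IsCoatom L)
    (h1 : centralizer (Y : Set G) ≤ L)
    (h2 : ∀ L' : Subgroup G, IsCoatom L' → centralizer (Y : Set G) ≤ L' → L' = L) :
    normalizer (Y : Set G) ≤ L := by
  intro g hg
  have hcj : cj L g = L := by
    apply h2 _ (isCoatom_cj hL g)
    intro c hc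
    rw [mem_cj]
    apply h1
    have h3 := normalizer_le_normalizer_centralizer Y (inv_mem hg)
    have h4 := (mem_normalizer_iff.mp h3 c).mp hc
    simpa using h4
  rw [← normalizer_coatom hG hL]
  rw [mem_normalizer_iff]
  intro y
  constructor
  · intro hy
    have h3 : g * y * g⁻¹ ∈ cj L g := conj_mem_cj hy
    rwa [hcj] at h3
  · intro hy
    have h3 : g * y * g⁻¹ ∈ cj L g := by rw [hcj]; exact hy
    rw [mem_cj] at h3
    have e : g⁻¹ * (g * y * g⁻¹) * g = y := by group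
    rwa [e] at h3

theorem core_ne_top (hG : IsMinSimpleOddOrder G) {M : Subgroup G} (hM : IsCoatom M) : sigmaCore M ≠ ⊤ := by
  intro ht
  apply hM.1
  rw [eq_top_iff, ← ht]
  exact sigmaCore_le

/-- **Uniqueness**: if `X ≤ K*` has prime order then `M` is the unique maximal subgroup over `C_G(X)`. -/
theorem cent_unique (I : Inp G) {M K : Subgroup G} (h : Good M K) (hc : IsCyclic (kst M K))
    {X L : Subgroup G} (hX : X ≤ kst M K) (hXp : (Nat.card X).Prime) (hL : IsCoatom L)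
    (hC : centralizer (X : Set G) ≤ L) : L = M := by
  by_contra hne
  have hG := I.hG
  obtain ⟨x, hxX, hx1, hXz, hxo⟩ := exists_gen hXp
  set p := Nat.card X with hp
  haveI : Fact p.Prime := ⟨hXp⟩
  have hXq : IsPGroup p X := IsPGroup.of_card (n := 1) (by simp [hp])
  have hCx : centralizer ({x} : Set G) ≤ L := by rw [← centralizer_zpowers, ← hXz]; exact hC
  have hXL : X ≤ L := by
    rw [hXz, zpowers_le]
    exact hCx (mem_centralizer_singleton_iff.mpr rfl)
  have hpσ : p ∉ sigma L := h.not_sigma_of_ne I hL hX hXp hXL hne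
  have hKX : K ≤ centralizer (X : Set G) := by
    intro k hk
    rw [mem_centralizer_iff]
    intro t ht
    exact (h.comm hk (hX ht)).symm
  have hdp : p ∣ Nat.card (kst M K) := Subgroup.card_dvd_of_le hX
  obtain ⟨T, hT, hKT, hXT⟩ := exists_invariant_isSylowIn_ge p (IsMin.solvable hG (core_ne_top hG h.hM))
    (h.le.trans le_normalizer_sigmaCore) h.coprime_core.symm (hX.trans h.kst_le_core) hXq
    (hKX.trans (cent_le_norm X))
  obtain ⟨⟨N₀, -, hu⟩, hTM, -⟩ := h.f6 I hXp hdp hT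
  have hTuniq : ∀ L' : Subgroup G, IsCoatom L' → T ≤ L' → L' = M := fun L' hL' hle =>
    (hu L' ⟨hL', hle⟩).trans (hu M ⟨h.hM, hTM⟩).symm
  have hTq : IsPGroup p T := hT.2.1
  have hTne : T ≠ ⊥ := by
    intro hb
    rw [hb, le_bot_iff] at hXT
    exact h.prime_ne I hXp hXT
  set ZT := T ⊓ centralizer (T : Set G) with hZT
  obtain ⟨hZab, hKZ, hZne⟩ := center_facts hTq hTne hKT
  have hZq : IsPGroup p ZT := hTq.to_le inf_le_left
  have hxZ : x ∉ ZT := by
    intro hxZ
    apply hne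
    apply hTuniq L hL
    intro t ht
    apply hCx
    rw [mem_centralizer_singleton_iff]
    exact (mem_centralizer_iff.mp hxZ.2 t ht)
  have hZL : ZT ≤ L := by
    intro z hz
    apply hCx
    rw [mem_centralizer_singleton_iff]
    exact (mem_centralizer_iff.mp hz.2 x (hXT hxX)).symm
  have hnotX : ∀ W : Subgroup G, W ≤ ZT → Nat.card W = p → ∀ S : Subgroup G, IsCyclic S → W ≤ S → X ≤ S → False := by
    intro W hW hWc S hS h1 h2
    have h3 := cyclic_unique hS h2 h1 hXp rfl hWc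
    apply hxZ
    apply hW
    rw [← h3]
    exact hxX
  have hfpf : ∀ k ∈ K, k ≠ 1 → ∀ z ∈ ZT, k * z = z * k → z = 1 := by
    intro k hk hk1 z hz hkz
    by_contra hz1
    have hzT : z ∈ kst M K := by
      rw [← h.f1 I hk hk1]
      exact ⟨hT.1 hz.1, mem_centralizer_singleton_iff.mpr hkz.symm⟩
    have hzq : IsPGroup p (zpowers z) := hZq.to_le (by rw [zpowers_le]; exact hz)
    obtain ⟨W, hW, hWc⟩ := exists_order_p hzq (by rwa [Ne, zpowers_eq_bot])
    have hWz : W ≤ ZT := hW.trans (by rw [zpowers_le]; exact hz)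
    have hWT : W ≤ kst M K := hW.trans (by rw [zpowers_le]; exact hzT)
    exact hnotX W hWz hWc _ hc hWT hX
  obtain ⟨W₀, hW₀, hW₀c⟩ := exists_order_p hZq hZne
  have hpκ : p ∉ kappa L := by
    intro hκ
    have hRq : IsPGroup p ↥(T ⊓ L) := hTq.to_le inf_le_left
    obtain ⟨S, hS, hRS⟩ := exists_isSylowIn_ge p (inf_le_right : T ⊓ L ≤ L) hRq
    have hSc := ((mem_kappa_iff.mp hκ).2.2.2 S hS).1
    exact hnotX W₀ hW₀ hW₀c S hSc
      ((le_inf (hW₀.trans inf_le_left) (hW₀.trans hZL)).trans hRS) ((le_inf hXT hXL).trans hRS)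
  have hcent : ∀ b ∈ T, b ≠ 1 → b ∈ L → ∀ w ∈ sigmaCore L, w ≠ 1 → w * b = b * w →
      centralizer ({b} : Set G) ≤ L ∧ ∀ L' : Subgroup G, IsCoatom L' → centralizer ({b} : Set G) ≤ L' → L' = L := by
    intro b hb hb1 hbL w hw hw1 hwb
    have hpr : ∀ r : ℕ, r.Prime → r ∣ orderOf b → r = p := fun r hr hd => prime_of_orderOf hTq hb hr hd
    rcases I.s32 L hL w hw hw1 b ⟨hbL, mem_centralizer_singleton_iff.mpr hwb.symm⟩ hb1
      (fun r hr hd => by rw [hpr r hr hd]; exact hpσ) with h1 | h1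
    · exfalso
      obtain ⟨r, hr, hd⟩ := Nat.exists_prime_and_dvd (show orderOf b ≠ 1 by simpa using hb1)
      have := h1.1 r hr hd
      rw [hpr r hr hd] at this
      exact hpκ this
    · exact h1.2.2
  have hxw : ∀ w ∈ sigmaCore L, w ≠ 1 → w * x ≠ x * w := by
    intro w hw hw1 hwx
    obtain ⟨-, h2⟩ := hcent x (hXT hxX) hx1 (hXL hxX) w hw hw1 hwx
    exact hne (h2 M h.hM (h.cent_core I (hX hxX) hx1)).symm
  have hbw : ∀ b ∈ ZT, b ≠ 1 → ∀ w ∈ sigmaCore L, w ≠ 1 → w * b ≠ b * w := by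
    intro b hb hb1 w hw hw1 hwb
    obtain ⟨h1, -⟩ := hcent b hb.1 hb1 (hZL hb) w hw hw1 hwb
    apply hne
    apply hTuniq L hL
    intro t ht
    apply h1
    rw [mem_centralizer_singleton_iff]
    exact mem_centralizer_iff.mp hb.2 t ht
  have hKL : K ≤ L := hKX.trans hC
  have hKσ : ∀ q : ℕ, q.Prime → q ∣ Nat.card K → q ∉ sigma L := by
    intro q hq hd hσ
    obtain ⟨Y, hY, hYc⟩ := exists_prime_sub hq hd
    have hYp : (Nat.card Y).Prime := by rw [hYc]; exact hq
    obtain ⟨y, hyY, hy1, -, hyo⟩ := exists_gen hYp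
    have hyc : y ∈ sigmaCore L := by
      apply mem_core_of_primes hG hL (hKL (hY hyY))
      intro r hr hd2
      rw [hyo, hYc] at hd2
      rw [(Nat.prime_dvd_prime_iff_eq hr hq).mp hd2]
      exact hσ
    exact hxw y hyc hy1 (h.comm (hY hyY) (hX hxX))
  -- the Frobenius action
  obtain ⟨Y, hYK, hYp⟩ := exists_prime_le h.ne
  obtain ⟨y, hyY, hy1, hYz, hyo⟩ := exists_gen hYp
  set q := Nat.card Y with hq
  have hYL : Y ≤ L := hYK.trans hKL
  have hqσ : q ∉ sigma L := hKσ q hYp (Subgroup.card_dvd_of_le hYK)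
  have hZprimes : ∀ r : ℕ, r.Prime → r ∣ Nat.card ZT → r ∉ sigma L := by
    intro r hr hd
    obtain ⟨k, hk⟩ := IsPGroup.iff_card.mp hZq
    rw [hk] at hd
    rw [(Nat.prime_dvd_prime_iff_eq hr hXp).mp (hr.dvd_of_dvd_pow hd)]
    exact hpσ
  have hYprimes : ∀ r : ℕ, r.Prime → r ∣ Nat.card Y → r ∉ sigma L := by
    intro r hr hd
    rw [(Nat.prime_dvd_prime_iff_eq hr hYp).mp hd]
    exact hqσ
  have hYn : Y ≤ normalizer (ZT : Set G) := hYK.trans hKZ
  have hsup : ∀ r : ℕ, r.Prime → r ∣ Nat.card ↥(ZT ⊔ Y) → r ∉ sigma L := by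
    intro r hr hd
    rw [sup_comm] at hd
    exact primes_sup (π := {r | r ∉ sigma L}) hYn hYprimes hZprimes r hr hd
  have hcop : Nat.Coprime (Nat.card (sigmaCore L)) (Nat.card ↥(ZT ⊔ Y)) :=
    Nat.coprime_of_dvd fun r hr h1 h2 => hsup r hr h2 (primes_sigmaCore r hr h1)
  have hZYinf : ZT ⊓ Y = ⊥ := by
    apply inf_eq_bot_of_coprime'
    apply Nat.coprime_of_dvd
    intro r hr h1 h2
    exact h.not_sigma r hr (h2.trans (Subgroup.card_dvd_of_le hYK))
      (primes_sigmaCore r hr (h1.trans (Subgroup.card_dvd_of_le (inf_le_left.trans hT.1))))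
  have hres := Cfsg.Agent.S1545.result (X := G) ZT Y (sigmaCore L) hZne (h.prime_ne I hYp) hZYinf
    (fun e he u hu => (mem_normalizer_iff.mp (hYn he) u).mp hu)
    (fun e he he1 u hu hc => hfpf e (hYK he) he1 u hu hc)
    (fun a ha c hc => (mem_normalizer_iff.mp (le_normalizer_sigmaCore ((sup_le hZL hYL) ha)) c).mp hc)
    (inf_eq_bot_of_coprime' hcop) (IsMin.solvable hG (core_ne_top hG hL)) hcop
  have hC1 : sigmaCore L ⊓ centralizer (ZT : Set G) = ⊥ := by
    rw [eq_bot_iff]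
    rintro w ⟨hw, hwc⟩
    by_contra hw1
    obtain ⟨b, hb, hb1⟩ := exists_mem_ne_one hZne
    exact hbw b hb hb1 w hw hw1 (mem_centralizer_iff.mp hwc b hb).symm
  have hC2 : sigmaCore L ⊓ centralizer ((ZT ⊔ Y : Subgroup G) : Set G) = ⊥ := by
    rw [eq_bot_iff, ← hC1]
    exact inf_le_inf_left _ (Subgroup.centralizer_le (SetLike.coe_subset_coe.mpr le_sup_left))
  rw [hC1, hC2] at hres
  simp only [Subgroup.card_bot, one_pow, one_mul, mul_one] at hres
  have hCY : sigmaCore L ⊓ centralizer (Y : Set G) ≠ ⊥ := by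
    intro hb
    rw [hb] at hres
    simp only [Subgroup.card_bot, one_pow] at hres
    exact Cfsg.Agent.Lib.BGTau7.sigmaCore_ne_bot hG hL (coatom_ne_bot hG hL) (Subgroup.card_eq_one.mp hres)
  obtain ⟨w, ⟨hw, hwc⟩, hw1⟩ := exists_mem_ne_one hCY
  have hyw : y * w = w * y := mem_centralizer_iff.mp hwc y hyY
  have hpr : ∀ r : ℕ, r.Prime → r ∣ orderOf y → r = q := by
    intro r hr hd
    rw [hyo] at hd
    exact (Nat.prime_dvd_prime_iff_eq hr hYp).mp hd
  rcases I.s32 L hL w hw hw1 y ⟨hYL hyY, mem_centralizer_singleton_iff.mpr hyw⟩ hy1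
    (fun r hr hd => by rw [hpr r hr hd]; exact hqσ) with h1 | h1
  · have hqκ : q ∈ kappa L := h1.1 q hYp (by rw [hyo])
    obtain ⟨D, hYD, hDh⟩ := exists_hall_ge (π := kappa L) (IsMin.solvable hG hL.1) hYL (by
      intro r hr hd
      rw [(Nat.prime_dvd_prime_iff_eq hr hYp).mp hd]
      exact hqκ)
    have hDne : D ≠ ⊥ := by
      intro hb
      rw [hb, le_bot_iff] at hYD
      exact h.prime_ne I hYp hYD
    have hD : Good L D := ⟨hL, hDh, hDne⟩
    have hf3 := hD.f3 I hYD hYp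
    have hxmem : x ∈ L ⊓ normalizer (Y : Set G) := by
      refine ⟨hXL hxX, cent_le_norm Y ?_⟩
      rw [mem_centralizer_iff]
      intro t ht
      exact h.comm (hYK ht) (hX hxX)
    rw [hf3] at hxmem
    have hFam : Fam (zz L D) L D := ⟨hD, rfl⟩
    have hxD : x ∈ D := by
      apply hFam.mem_A_of_coprime hxmem
      rw [hxo]
      apply (Nat.Prime.coprime_iff_not_dvd hXp).mpr
      intro hd
      exact hpσ (primes_sigmaCore p hXp (hd.trans (Subgroup.card_dvd_of_le hD.kst_le_core)))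
    apply hpκ
    apply hDh.2.1 p hXp
    rw [← hxo]
    exact Subgroup.orderOf_dvd_natCard D hxD
  · obtain ⟨h2, h3⟩ := h1.2.2
    have hCYeq : centralizer (Y : Set G) = centralizer ({y} : Set G) := by
      rw [hYz, centralizer_zpowers]
    have hN : normalizer (Y : Set G) ≤ L := by
      apply normalizer_le_of_unique hG hL
      · rw [hCYeq]; exact h2
      · intro L' hL' hle
        rw [hCYeq] at hle
        exact h3 L' hL' hle
    have h4 := h.f3core I hYK hYp hL hN
    exact hqσ (primes_sigmaCore q hYp (Subgroup.card_dvd_of_le h4))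

end Cfsg.Agent.Lib.BGZ6
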