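import Mathlib
import Cfsg.Agent.Lib.BGZ6

/-!
# Bender-Glauberman section 14: the count, and the conjugacy classes of maximal subgroups with `κ ≠ ∅`.
-/

set_option autoImplicit false
set_option linter.unusedSectionVars false
set_option linter.unusedVariables false
set_option linter.style.haveILetI false
set_option linter.unusedSimpArgs false

namespace Cfsg.Agent.Lib.BGZ7

open Cfsg Subgroup Cfsg.Agent.Lib.CoprimeInv Cfsg.Agent.Lib.BGTrans Cfsg.Agent.Lib.BGM1
  Cfsg.Agent.Lib.BGSigma2 Cfsg.Agent.Lib.BGM2 Cfsg.Agent.Lib.BGZ1 Cfsg.Agent.Lib.OddOrderCore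
  Cfsg.Agent.Lib.BGSigma4 Cfsg.Agent.Lib.BGZ2 Cfsg.Agent.Lib.BGZ3 Cfsg.Agent.Lib.BGZ4
  Cfsg.Agent.Lib.BGZ5 Cfsg.Agent.Lib.BGZ6

universe u

variable {G : Type u} [Group G] [Finite G]

theorem kst_cj (M K : Subgroup G) (g : G) : kst (cj M g) (cj K g) = cj (kst M K) g := by
  show sigmaCore (cj M g) ⊓ centralizer ((cj K g : Subgroup G) : Set G) = _
  rw [BGZ1.sigmaCore_cj, centralizer_cj_eq, Cfsg.Agent.Lib.BGFus.cj_inf]

theorem zz_cj (M K : Subgroup G) (g : G) : zz (cj M g) (cj K g) = cj (zz M K) g := by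
  show cj K g ⊔ kst (cj M g) (cj K g) = _
  rw [kst_cj, ← cj_sup]

theorem good_cj {M K : Subgroup G} (h : Good M K) (g : G) : Good (cj M g) (cj K g) := by
  refine ⟨isCoatom_cj h.hM g, ?_, ?_⟩
  · rw [kappa_cj_eq]
    exact isPiHallOf_cj h.hall g
  · intro hb
    apply h.ne
    have h1 := card_cj K g
    rw [hb] at h1
    simp only [Subgroup.card_bot] at h1
    exact Subgroup.card_eq_one.mp h1.symm

section Mate

variable {M K Ms : Subgroup G} (h : Mate M K Ms) (I : Inp G)
include h I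

theorem hat_eq : hat (zz M K) = (↑(zz M K) : Set G) \ ((K : Set G) ∪ ↑(kst M K)) := by
  ext z
  rw [h.mem_hat_iff I]
  simp only [Set.mem_sdiff, Set.mem_union, SetLike.mem_coe, not_or]

theorem ncard_hat : (hat (zz M K)).ncard + Nat.card K + Nat.card (kst M K) = Nat.card K * Nat.card (kst M K) + 1 := by
  classical
  have hf : fams (zz M K) = {M, Ms} := by
    ext H
    rw [h.mem_fams_iff I]
    simp
  have h1 := card_hat (h.fam₁ I) I
  rw [hf, Finset.sum_pair h.ne.symm, Finset.card_pair h.ne.symm, h.T₁ I, h.T₂ I,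
    h.good.card_zz] at h1
  omega

theorem card_K_ge : 3 ≤ Nat.card K := exists_two h.good I

theorem card_kst_ge : 3 ≤ Nat.card (kst M K) := exists_two h.goodS I

theorem ncard_hat' : (hat (zz M K)).ncard =
    Nat.card K * Nat.card (kst M K) - Nat.card K - Nat.card (kst M K) + 1 := by
  have h1 := ncard_hat h I
  have h2 := card_K_ge h I
  have h3 := card_kst_ge h I
  have hab : Nat.card K + Nat.card (kst M K) ≤ Nat.card K * Nat.card (kst M K) := by nlinarith
  omega

theorem card_cu : Nat.card K * Nat.card (kst M K) * (cu (zz M K)).ncard =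
    (Nat.card K * Nat.card (kst M K) - Nat.card K - Nat.card (kst M K) + 1) * Nat.card G := by
  have hC := card_conj_union (zz M K) (hat (zz M K)) (fun z hz x hx => hat_inv hx hz)
    (fun x hx g hg => (h.fam₁ I).hat_ti I hx hg.1)
  change (cu (zz M K)).ncard * Nat.card ↥(zz M K) = Nat.card G * (hat (zz M K)).ncard at hC
  rw [h.good.card_zz, ncard_hat' h I] at hC
  rw [mul_comm (Nat.card K * Nat.card (kst M K)), hC, mul_comm]

theorem two_cu : Nat.card G < 2 * (cu (zz M K)).ncard := by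
  have hc := card_cu h I
  have h1 := card_K_ge h I
  have h2 := card_kst_ge h I
  have hcop := h.good.coprime
  have hodd1 : Odd (Nat.card K) := Odd.of_dvd_nat I.hG.1 (Subgroup.card_subgroup_dvd_card _)
  have hodd2 : Odd (Nat.card (kst M K)) := Odd.of_dvd_nat I.hG.1 (Subgroup.card_subgroup_dvd_card _)
  have hne : Nat.card K ≠ Nat.card (kst M K) := by
    intro he
    rw [← he, Nat.coprime_self] at hcop
    omega
  set a := Nat.card K
  set b := Nat.card (kst M K)
  set N := Nat.card G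
  set c := (cu (zz M K)).ncard
  have hN : 0 < N := Nat.card_pos
  have hab : a + b ≤ a * b := by nlinarith
  obtain ⟨e, he⟩ : ∃ e, a * b - a - b + 1 = e := ⟨_, rfl⟩
  have he' : e + a + b = a * b + 1 := by omega
  rw [he] at hc
  have key : a * b < 2 * e := by
    have h5 : 5 ≤ a ∨ 5 ≤ b := by
      obtain ⟨x, hx⟩ := hodd1
      obtain ⟨y, hy⟩ := hodd2
      omega
    rcases h5 with h5 | h5 <;> nlinarith
  have hab0 : 0 < a * b := by nlinarith
  have : a * b * N < a * b * (2 * c) := by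
    calc a * b * N < 2 * e * N := Nat.mul_lt_mul_of_pos_right key hN
      _ = 2 * (a * b * c) := by rw [hc]; ring
      _ = a * b * (2 * c) := by ring
  exact Nat.lt_of_mul_lt_mul_left this

end Mate

/-- A maximal subgroup with `κ ≠ ∅` has a non-trivial Hall `κ`-subgroup. -/
theorem exists_good (I : Inp G) {H : Subgroup G} (hH : IsCoatom H) (hκ : (kappa H).Nonempty) :
    ∃ B, Good H B := by
  obtain ⟨D, -, hD⟩ := exists_hall_ge (π := kappa H) (Y := ⊥) (IsMin.solvable I.hG hH.1) bot_le (by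
    intro r hr hd
    simp only [Subgroup.card_bot, Nat.dvd_one] at hd
    exact absurd hd hr.ne_one)
  refine ⟨D, hH, hD, ?_⟩
  rintro rfl
  obtain ⟨q, hq⟩ := hκ
  have h1 := hD.2.2 q hq.1 hq
  apply h1
  have h2 : (⊥ : Subgroup G).relIndex H = Nat.card H := by
    simp
  rw [h2]
  exact hq.2.1

/-- Every maximal subgroup `H` with `κ(H) ≠ ∅` is conjugate to `M` or `M*`. -/
theorem exists_conj_of_kappa (I : Inp G) {M K Ms : Subgroup G} (h : Mate M K Ms) {H : Subgroup G}
    (hH : IsCoatom H) (hκ : (kappa H).Nonempty) : ∃ g : G, H = cj M g ∨ H = cj Ms g := by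
  obtain ⟨B, hB⟩ := exists_good I hH hκ
  obtain ⟨Hs, hHs⟩ := exists_mate I hB
  have h1 := two_cu h I
  have h2 := two_cu hHs I
  have hne : (cu (zz M K) ∩ cu (zz H B)).Nonempty := by
    by_contra hcon
    rw [Set.not_nonempty_iff_eq_empty, ← Set.disjoint_iff_inter_eq_empty] at hcon
    have h3 := Set.ncard_union_eq hcon (Set.toFinite _) (Set.toFinite _)
    have h4 : (cu (zz M K) ∪ cu (zz H B)).ncard ≤ Nat.card G := Set.ncard_le_card _
    omega
  obtain ⟨a, ⟨g₁, z₁, hz₁, ha₁⟩, ⟨g₂, z₂, hz₂, ha₂⟩⟩ := hne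
  set w := g₁⁻¹ * g₂ with hw
  have hz : z₁ = w * z₂ * w⁻¹ := by
    calc z₁ = g₁⁻¹ * (g₁ * z₁ * g₁⁻¹) * g₁ := by group
      _ = g₁⁻¹ * (g₂ * z₂ * g₂⁻¹) * g₁ := by rw [← ha₁, ha₂]
      _ = _ := by rw [hw]; group
  have hZ : zz M K = cj (zz H B) w := by
    rw [← h.cent_hat I hz₁, ← hHs.cent_hat I hz₂, hz]
    exact centralizer_cj_singleton z₂ w
  have hF : Fam (zz M K) (cj H w) (cj B w) := ⟨good_cj hB w, by rw [hZ, zz_cj]⟩
  rcases h.all _ _ hF with h3 | h3
  · refine ⟨w⁻¹, Or.inl ?_⟩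
    rw [← h3, cj_cj_inv]
  · refine ⟨w⁻¹, Or.inr ?_⟩
    rw [← h3, cj_cj_inv]

/-- `U = 1` forces `M = K M_σ`. -/
theorem P1_of_compl_bot {H A : Subgroup G} (h : IsComplIn (⊥ : Subgroup G) (A ⊔ sigmaCore H) H)
    (hA : IsPiHallOf (kappa H) A H) : P1 H := by
  intro q hq hd
  have h1 := card_mul_card_of_isComplIn h
  simp only [Subgroup.card_bot, one_mul] at h1
  rw [← h1] at hd
  have hn : A ≤ normalizer (sigmaCore H : Set G) := hA.1.trans le_normalizer_sigmaCore
  exact primes_sup (π := {r | r ∈ sigma H ∨ r ∈ kappa H}) hn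
    (fun r hr h2 => Or.inr (hA.2.1 r hr h2)) (fun r hr h2 => Or.inl (primes_sigmaCore r hr h2)) q hq hd

theorem mate_of_hyp (I : Inp G) {M K Mstar : Subgroup G} (h : Good M K) (hMstar : IsCoatom Mstar)
    (hKst : K = sigmaCore Mstar ⊓ centralizer ((kst M K : Subgroup G) : Set G))
    (hKstH : IsPiHallOf (kappa Mstar) (kst M K) Mstar) : Mate M K Mstar := by
  obtain ⟨Ms, hMs⟩ := exists_mate I h
  have hG : Good Mstar (kst M K) := ⟨hMstar, hKstH, h.kst_ne I⟩
  have hz : zz Mstar (kst M K) = zz M K := by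
    show kst M K ⊔ (sigmaCore Mstar ⊓ centralizer ((kst M K : Subgroup G) : Set G)) = K ⊔ kst M K
    rw [← hKst, sup_comm]
  have hF : Fam (zz M K) Mstar (kst M K) := ⟨hG, hz⟩
  rcases hMs.all _ _ hF with h1 | h1
  · exfalso
    have h2 : K ≤ K ⊓ sigmaCore M := by
      refine le_inf le_rfl ?_
      rw [hKst, ← h1]
      exact inf_le_left
    rw [h.inf_core, le_bot_iff] at h2
    exact h.ne h2
  · rw [h1]
    exact hMs

/-- Either `U ≠ 1` or `U* ≠ 1`. -/
theorem not_both_P1 (I : Inp G) {M K Ms : Subgroup G} (h : Mate M K Ms) (h1 : P1 M) (h2 : P1 Ms) : False := by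
  apply count_contra I (h.fam₁ I)
  intro H A hA
  rcases h.all H A hA with rfl | rfl
  · exact card_of_P1 I.hG hA.good h1
  · exact card_of_P1 I.hG hA.good h2

/-- `U = 1` implies that `K*` has prime order. -/
theorem prime_of_P1 (I : Inp G) {M K Ms : Subgroup G} (h : Mate M K Ms) (h1 : P1 M) :
    (Nat.card (kst M K)).Prime := by
  by_contra hnp
  apply not_both_P1 I h h1
  by_contra hP
  exact hnp (prime_of_not_P1 I h.goodS hP)

end Cfsg.Agent.Lib.BGZ7
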