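import Mathlib
import Cfsg.Agent.Lib.BGZ7
import Cfsg.Agent.Lib.BGCent9

/-!
# Bender-Glauberman section 14: `A₀(M) \ A(M)` and `κ(M) = τ₁(M)`.
-/

set_option autoImplicit false
set_option linter.unusedSectionVars false
set_option linter.unusedVariables false
set_option linter.style.haveILetI false
set_option linter.unusedSimpArgs false

namespace Cfsg.Agent.Lib.BGZ8

open Cfsg Subgroup Cfsg.Agent.Lib.CoprimeInv Cfsg.Agent.Lib.BGTrans Cfsg.Agent.Lib.BGM1
  Cfsg.Agent.Lib.BGSigma2 Cfsg.Agent.Lib.BGM2 Cfsg.Agent.Lib.BGZ1 Cfsg.Agent.Lib.OddOrderCore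
  Cfsg.Agent.Lib.BGSigma4 Cfsg.Agent.Lib.BGZ2 Cfsg.Agent.Lib.BGZ3 Cfsg.Agent.Lib.BGZ4
  Cfsg.Agent.Lib.BGZ5 Cfsg.Agent.Lib.BGZ6 Cfsg.Agent.Lib.BGZ7

open scoped commutatorElement

universe u

variable {G : Type u} [Group G] [Finite G]

theorem exists_split_nat (π : Set ℕ) (n : ℕ) (hn : n ≠ 0) :
    ∃ n₁ n₂ : ℕ, n = n₁ * n₂ ∧ n₁.Coprime n₂ ∧ (∀ r : ℕ, r.Prime → r ∣ n₁ → r ∈ π) ∧
      (∀ r : ℕ, r.Prime → r ∣ n₂ → r ∉ π) := by
  classical
  refine ⟨∏ r ∈ n.primeFactors.filter (· ∈ π), r ^ n.factorization r,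
    ∏ r ∈ n.primeFactors.filter (· ∉ π), r ^ n.factorization r, ?_, ?_, ?_, ?_⟩
  · rw [Finset.prod_filter_mul_prod_filter_not]
    exact (Nat.prod_factorization_pow_eq_self hn).symm
  · apply Nat.Coprime.prod_left
    intro a ha
    apply Nat.Coprime.prod_right
    intro b hb
    apply Nat.Coprime.pow
    rw [Finset.mem_filter] at ha hb
    exact (Nat.coprime_primes (Nat.prime_of_mem_primeFactors ha.1) (Nat.prime_of_mem_primeFactors hb.1)).mpr
      (by rintro rfl; exact hb.2 ha.2)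
  · intro r hr hd
    obtain ⟨t, ht, htd⟩ := (Prime.dvd_finsetProd_iff hr.prime _).mp hd
    rw [Finset.mem_filter] at ht
    have := hr.dvd_of_dvd_pow htd
    rw [(Nat.prime_dvd_prime_iff_eq hr (Nat.prime_of_mem_primeFactors ht.1)).mp this]
    exact ht.2
  · intro r hr hd
    obtain ⟨t, ht, htd⟩ := (Prime.dvd_finsetProd_iff hr.prime _).mp hd
    rw [Finset.mem_filter] at ht
    have := hr.dvd_of_dvd_pow htd
    rw [(Nat.prime_dvd_prime_iff_eq hr (Nat.prime_of_mem_primeFactors ht.1)).mp this]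
    exact ht.2

/-- Split an element into commuting `π`- and `π'`-parts, powers of the element. -/
theorem exists_split (π : Set ℕ) (a : G) : ∃ b c : G, a = b * c ∧ b * c = c * b ∧
    (∃ n : ℕ, a ^ n = b) ∧ (∃ m : ℕ, a ^ m = c) ∧
    (∀ r : ℕ, r.Prime → r ∣ orderOf b → r ∈ π) ∧ (∀ r : ℕ, r.Prime → r ∣ orderOf c → r ∉ π) := by
  obtain ⟨n₁, n₂, hn, hcop, h1, h2⟩ := exists_split_nat π (orderOf a) (orderOf_pos a).ne'
  obtain ⟨s, hs1, hs2⟩ := Nat.chineseRemainder hcop 1 0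
  obtain ⟨t, ht1, ht2⟩ := Nat.chineseRemainder hcop 0 1
  refine ⟨a ^ s, a ^ t, ?_, ?_, ⟨s, rfl⟩, ⟨t, rfl⟩, ?_, ?_⟩
  · rw [← pow_add]
    conv_lhs => rw [← pow_one a]
    rw [pow_eq_pow_iff_modEq, hn]
    apply (Nat.modEq_and_modEq_iff_modEq_mul hcop).mp
    constructor
    · exact ((hs1.add ht1).symm)
    · exact ((hs2.add ht2).symm)
  · rw [← pow_add, ← pow_add, add_comm]
  · intro r hr hd
    apply h1 r hr
    refine hd.trans (orderOf_dvd_of_pow_eq_one ?_)
    rw [← pow_mul]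
    apply orderOf_dvd_iff_pow_eq_one.mp
    rw [hn, mul_comm n₁ n₂]
    exact Nat.mul_dvd_mul_right ((Nat.modEq_zero_iff_dvd).mp hs2) n₁
  · intro r hr hd
    apply h2 r hr
    refine hd.trans (orderOf_dvd_of_pow_eq_one ?_)
    rw [← pow_mul]
    apply orderOf_dvd_iff_pow_eq_one.mp
    rw [hn]
    exact Nat.mul_dvd_mul_right ((Nat.modEq_zero_iff_dvd).mp ht1) n₂

/-- A `π`-subgroup of a solvable group lies in a conjugate of any Hall `π`-subgroup. -/
theorem exists_conj_le_hall {π : Set ℕ} {A L Y : Subgroup G} (hs : Group.IsSolvable L)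
    (hA : IsPiHallOf π A L) (hY : Y ≤ L) (hp : ∀ r : ℕ, r.Prime → r ∣ Nat.card Y → r ∈ π) :
    ∃ m ∈ L, Y ≤ cj A m := by
  classical
  set H₀ : Subgroup L := A.subgroupOf L with hH₀
  have hcH₀ : Nat.card H₀ = Nat.card A := card_subgroupOf_of_le hA.1
  have hcard : Nat.card L = Nat.card H₀ * H₀.index := (Subgroup.card_mul_index H₀).symm
  have hidx : H₀.index = A.relIndex L := rfl
  have hcop : (Nat.card H₀).Coprime H₀.index := by
    apply Nat.coprime_of_dvd
    intro k hk hk1 hk2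
    rw [hcH₀] at hk1
    exact hA.2.2 k hk (hA.2.1 k hk hk1) hk2
  have hDc : Nat.card (Y.subgroupOf L) = Nat.card Y := card_subgroupOf_of_le hY
  have hcopD : (Nat.card (Y.subgroupOf L)).Coprime H₀.index := by
    rw [hDc]
    apply Nat.coprime_of_dvd
    intro k hk hk1 hk2
    exact hA.2.2 k hk (hp k hk hk1) hk2
  obtain ⟨g, hg⟩ := (Cfsg.Agent.Lib.Hall.hall_main _ ↥L _ _ rfl hcard hcop).2 H₀ (Y.subgroupOf L) rfl hcopD
  refine ⟨g, g.2, ?_⟩
  intro y hy
  have h1 : (⟨y, hY hy⟩ : L) ∈ Y.subgroupOf L := by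
    rw [Subgroup.mem_subgroupOf]; exact hy
  obtain ⟨b, hb, he⟩ := hg h1
  refine ⟨(b : G), hb, ?_⟩
  have := congrArg Subtype.val he
  simpa using this

theorem dec_primes {M K U : Subgroup G} (hd : IsSigmaDecomposition M K U) :
    ∀ q : ℕ, q.Prime → q ∣ Nat.card U → q ∉ kappa M := by
  intro q hq hdq hκ
  have hKσ : K ⊓ sigmaCore M = ⊥ := by
    apply inf_eq_bot_of_coprime'
    apply Nat.coprime_of_dvd
    intro k hk hk1 hk2
    exact (hd.hall.2.1 k hk hk1).2.2.1 (primes_sigmaCore k hk hk2)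
  have hc1 := card_mul_card_of_isComplIn hd.compl
  have hc2 := card_sup_mul_card_inf (hd.hall.1.trans (le_normalizer_sigmaCore (M := M)))
  rw [hKσ, Subgroup.card_bot, mul_one] at hc2
  have hc3 : Nat.card K * K.relIndex M = Nat.card M := by
    have := Subgroup.card_mul_index (K.subgroupOf M)
    rwa [card_subgroupOf_of_le hd.hall.1] at this
  have hK0 : 0 < Nat.card K := Nat.card_pos
  have hc4 : K.relIndex M = Nat.card U * Nat.card (sigmaCore M) := by
    apply Nat.eq_of_mul_eq_mul_left hK0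
    rw [hc3, ← hc1, hc2]
    ring
  apply hd.hall.2.2 q hq hκ
  rw [hc4]
  exact dvd_mul_of_dvd_left hdq _

theorem D_norm {M K U : Subgroup G} (hd : IsSigmaDecomposition M K U) :
    M ≤ normalizer ((U ⊔ sigmaCore M : Subgroup G) : Set G) := by
  intro m hm
  obtain ⟨u, hu, b, hb, rfl⟩ := hd.compl.2.2.2 m hm
  have h1 : K ⊔ sigmaCore M ≤ normalizer ((U ⊔ sigmaCore M : Subgroup G) : Set G) := by
    apply sup_le
    · intro k hk
      exact Cfsg.Agent.Lib.BGCent.mem_normalizer_sup (hd.normal hk) (le_normalizer_sigmaCore (hd.hall.1 hk))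
    · exact le_sup_right.trans le_normalizer
  exact mul_mem (le_normalizer ((le_sup_left : U ≤ U ⊔ sigmaCore M) hu)) (h1 hb)

theorem not_mem_D {M K U : Subgroup G} (hd : IsSigmaDecomposition M K U) {k : G} (hk : k ∈ K) (hk1 : k ≠ 1) :
    k ∉ U ⊔ sigmaCore M := by
  intro hmem
  obtain ⟨q, hq, hqd⟩ := Nat.exists_prime_and_dvd (show orderOf k ≠ 1 by simpa using hk1)
  have h1 : q ∣ Nat.card ↥(U ⊔ sigmaCore M) := hqd.trans (Subgroup.orderOf_dvd_natCard _ hmem)
  have hκ : q ∈ kappa M := hd.hall.2.1 q hq (hqd.trans (Subgroup.orderOf_dvd_natCard K hk))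
  have hUn : U ≤ normalizer (sigmaCore M : Set G) := hd.compl.1.trans le_normalizer_sigmaCore
  exact primes_sup (π := {r | r ∉ kappa M}) hUn (dec_primes hd)
    (fun r hr h2 h3 => h3.2.2.1 (primes_sigmaCore r hr h2)) q hq h1 hκ

section Mate

variable {M K Ms U : Subgroup G} (h : Mate M K Ms) (I : Inp G) (hd : IsSigmaDecomposition M K U)
include h I hd

theorem conj_hat_mem {m z : G} (hm : m ∈ M) (hz : z ∈ hat (zz M K)) :
    m * z * m⁻¹ ∈ sigmaA0 M K \ sigmaA M U := by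
  obtain ⟨a, ha, t, ht, rfl, ⟨n, hn⟩, ⟨j, hj⟩⟩ := (h.fam₁ I).parts hz.1
  obtain ⟨hzZ, hzK, hzT⟩ := (h.mem_hat_iff I).mp hz
  have ha1 : a ≠ 1 := by
    rintro rfl
    rw [one_mul] at hzT
    exact hzT ht
  have ht1 : t ≠ 1 := by
    rintro rfl
    rw [mul_one] at hzK
    exact hzK ha
  have hzM : a * t ∈ M := h.good.zz_le hzZ
  have hmz : m * (a * t) * m⁻¹ ∈ M := mul_mem (mul_mem hm hzM) (inv_mem hm)
  refine ⟨⟨⟨hmz, m * t * m⁻¹, ?_, ?_, ?_⟩, ?_⟩, ?_⟩
  · exact (mem_normalizer_iff.mp (le_normalizer_sigmaCore hm) t).mp ht.1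
  · intro he
    apply ht1
    have e : t = m⁻¹ * (m * t * m⁻¹) * m := by group
    rw [e, he]
    group
  · have hc : (a * t) * t = t * (a * t) := by
      calc (a * t) * t = (t * a) * t := by rw [h.good.comm ha ht]
        _ = _ := by group
    calc m * (a * t) * m⁻¹ * (m * t * m⁻¹) = m * ((a * t) * t) * m⁻¹ := by group
      _ = m * (t * (a * t)) * m⁻¹ := by rw [hc]
      _ = _ := by group
  · rintro ⟨k', hk', hk'1, m', hm', he⟩
    -- `z` would be conjugate to an element of `K`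
    set n' := m⁻¹ * m' with hn'
    have hz' : a * t = n' * k' * n'⁻¹ := by
      calc a * t = m⁻¹ * (m * (a * t) * m⁻¹) * m := by group
        _ = m⁻¹ * (m' * k' * m'⁻¹) * m := by rw [he]
        _ = _ := by rw [hn']; group
    have hn'M : n' ∈ M := mul_mem (inv_mem hm) hm'
    have ht' : t = n' * k' ^ j * n'⁻¹ := by
      rw [← hj, hz', conj_pow]
    have hk2 : k' ^ j ∈ K ⊓ sigmaCore M := by
      refine ⟨pow_mem hk' j, ?_⟩
      have e : k' ^ j = n'⁻¹ * t * n' := by rw [ht']; group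
      rw [e]
      have := (mem_normalizer_iff.mp (le_normalizer_sigmaCore (inv_mem hn'M)) t).mp ht.1
      simpa using this
    rw [h.good.inf_core] at hk2
    have hk3 : k' ^ j = 1 := hk2
    apply ht1
    rw [ht', hk3]
    group
  · rintro ⟨-, hmem⟩
    have hmem' : m * (a * t) * m⁻¹ ∈ U ⊔ sigmaCore M := hmem
    have h2 : a * t ∈ U ⊔ sigmaCore M := by
      have := (mem_normalizer_iff.mp (D_norm hd (inv_mem hm)) _).mp hmem'
      have e : m⁻¹ * (m * (a * t) * m⁻¹) * m⁻¹⁻¹ = a * t := by group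
      rwa [e] at this
    apply not_mem_D hd ha ha1
    rw [← hn]
    exact pow_mem h2 n

theorem exists_of_mem {a : G} (ha : a ∈ sigmaA0 M K \ sigmaA M U) :
    ∃ m ∈ M, ∃ z ∈ hat (zz M K), a = m * z * m⁻¹ := by
  obtain ⟨⟨⟨haM, y, hy, hy1, hay⟩, hnk⟩, hnA⟩ := ha
  have hG := I.hG
  have hM := h.good.hM
  have hnD : a ∉ U ⊔ sigmaCore M := fun h2 => hnA ⟨⟨haM, y, hy, hy1, hay⟩, h2⟩
  obtain ⟨b, c, hbc, hcomm, ⟨n, hn⟩, ⟨m, hm⟩, hbσ, hcσ⟩ := exists_split (sigma M) a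
  have hbM : b ∈ M := by rw [← hn]; exact pow_mem haM n
  have hcM : c ∈ M := by rw [← hm]; exact pow_mem haM m
  have hbc' : b ∈ sigmaCore M := mem_core_of_primes hG hM hbM hbσ
  have hc1 : c ≠ 1 := by
    rintro rfl
    apply hnD
    rw [hbc, mul_one]
    exact (le_sup_right : sigmaCore M ≤ U ⊔ sigmaCore M) hbc'
  have hcy : c * y = y * c := by
    rw [← hm]
    exact ((show Commute a y from hay).pow_left m).eq
  rcases I.s32 M hM y hy hy1 c ⟨hcM, mem_centralizer_singleton_iff.mpr hcy⟩ hc1 hcσ with h1 | h1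
  · -- `c` is a `κ`-element
    have hz : zpowers c ≤ M := by rw [zpowers_le]; exact hcM
    obtain ⟨g, hg, hle⟩ := exists_conj_le_hall (IsMin.solvable hG hM.1) h.good.hall hz (by
      intro r hr hd2
      rw [Nat.card_zpowers] at hd2
      exact h1.1 r hr hd2)
    have hcg : c ∈ cj K g := hle (mem_zpowers c)
    rw [mem_cj] at hcg
    set k := g⁻¹ * c * g with hk
    have hk1 : k ≠ 1 := by
      intro he
      apply hc1
      have e : c = g * k * g⁻¹ := by rw [hk]; group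
      rw [e, he]; group
    have hce : c = g * k * g⁻¹ := by rw [hk]; group
    by_cases hb1 : b = 1
    · exfalso
      apply hnk
      refine ⟨k, hcg, hk1, g, hg, ?_⟩
      rw [hbc, hb1, one_mul]
      exact hce
    · set t := g⁻¹ * b * g with ht
      have hbe : b = g * t * g⁻¹ := by rw [ht]; group
      have ht1 : t ≠ 1 := by
        intro he
        apply hb1
        rw [hbe, he]; group
      have htc : t ∈ sigmaCore M := by
        have := (mem_normalizer_iff.mp (le_normalizer_sigmaCore (inv_mem hg)) b).mp hbc'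
        simpa using this
      have htk : t * k = k * t := by
        rw [ht, hk]
        calc g⁻¹ * b * g * (g⁻¹ * c * g) = g⁻¹ * (b * c) * g := by group
          _ = g⁻¹ * (c * b) * g := by rw [hcomm]
          _ = _ := by group
      have htT : t ∈ kst M K := by
        rw [← h.good.f1 I hcg hk1]
        exact ⟨htc, mem_centralizer_singleton_iff.mpr htk⟩
      refine ⟨g, hg, k * t, h.mul_mem_hat I hcg hk1 htT ht1, ?_⟩
      rw [hbc, hcomm, hce, hbe]
      group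
  · exfalso
    apply hnD
    rw [hbc]
    refine mul_mem ((le_sup_right : sigmaCore M ≤ U ⊔ sigmaCore M) hbc') ?_
    apply Cfsg.Agent.Lib.BGCent.mem_sup_of_not_kappa hG ⟨I.thmD, I.s30, I.s32⟩ hM hd hcM
    intro r hr hd2 hκ
    exact kappa_not_tau2 hκ (h1.1 r hr hd2)

theorem mem_iff {a : G} : a ∈ sigmaA0 M K \ sigmaA M U ↔ ∃ m ∈ M, ∃ z ∈ hat (zz M K), a = m * z * m⁻¹ := by
  constructor
  · exact exists_of_mem h I hd
  · rintro ⟨m, hm, z, hz, rfl⟩
    exact conj_hat_mem h I hd hm hz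

end Mate

section Mate2

variable {M K Ms U : Subgroup G} (h : Mate M K Ms) (I : Inp G) (hd : IsSigmaDecomposition M K U)
include h I hd

theorem ti_of_mate : IsTISubset (sigmaA0 M K \ sigmaA M U) := by
  have hNM : M ≤ normalizer (sigmaA0 M K \ sigmaA M U) := by
    intro m hm
    show ∀ x, x ∈ sigmaA0 M K \ sigmaA M U ↔ m * x * m⁻¹ ∈ sigmaA0 M K \ sigmaA M U
    intro x
    rw [mem_iff h I hd, mem_iff h I hd]
    constructor
    · rintro ⟨m', hm', z, hz, rfl⟩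
      exact ⟨m * m', mul_mem hm hm', z, hz, by group⟩
    · rintro ⟨m', hm', z, hz, he⟩
      refine ⟨m⁻¹ * m', mul_mem (inv_mem hm) hm', z, hz, ?_⟩
      calc x = m⁻¹ * (m * x * m⁻¹) * m := by group
        _ = m⁻¹ * (m' * z * m'⁻¹) * m := by rw [he]
        _ = _ := by group
  intro g hg x hx hgx
  exfalso
  apply hg
  apply hNM
  obtain ⟨m, hm, z, hz, rfl⟩ := (mem_iff h I hd).mp hx
  obtain ⟨m', hm', z', hz', he⟩ := (mem_iff h I hd).mp hgx
  set w := m'⁻¹ * g * m with hw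
  have hwz : w * z * w⁻¹ = z' := by
    calc w * z * w⁻¹ = m'⁻¹ * (g * (m * z * m⁻¹) * g⁻¹) * m' := by rw [hw]; group
      _ = m'⁻¹ * (m' * z' * m'⁻¹) * m' := by rw [he]
      _ = z' := by group
  have hwZ : w ∈ zz M K := (h.fam₁ I).hat_ti I hz (by rw [hwz]; exact hz'.1)
  have hwM : w ∈ M := h.good.zz_le hwZ
  have hge : g = m' * w * m⁻¹ := by rw [hw]; group
  rw [hge]
  exact mul_mem (mul_mem hm' hwM) (inv_mem hm)

end Mate2

/-- **`κ(M) = τ₁(M)`**. -/
theorem kappa_eq_tau1 (I : Inp G) {M K : Subgroup G} (h : Good M K) : kappa M = tau1 M := by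
  have hG := I.hG
  have hM := h.hM
  ext p
  constructor
  · intro hκ
    obtain ⟨hp, hdv, hs, hk⟩ := mem_kappa_iff.mp hκ
    haveI : Fact p.Prime := ⟨hp⟩
    refine ⟨hp, hs, hdv, ?_, ?_⟩
    · intro hd2
      obtain ⟨U₀, hU₀, hVn, hVi, hVp⟩ := Cfsg.Agent.Lib.BGCent.exists_normal_hall hG ⟨I.thmD, I.s30, I.s32⟩ hM h.hall h.ne
      set D := U₀ ⊔ sigmaCore M with hD
      have hDM : D ≤ M := sup_le hU₀.1 sigmaCore_le
      have hsup : K ⊔ D = M := by
        apply eq_of_relIndex (sup_le h.le hDM)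
        intro q hq hdq
        by_cases hqκ : q ∈ kappa M
        · exact not_dvd_of_le le_sup_left (sup_le h.le hDM) (h.hall.2.2 q hq hqκ) hdq
        · exact not_dvd_of_le le_sup_right (sup_le h.le hDM) (hVi q hq hqκ) hdq
      have hKc := isCyclic_of_good I h
      have hDn : ∀ c ∈ M, ∀ d ∈ D, c * d * c⁻¹ ∈ D := fun c hc d hd => (mem_normalizer_iff.mp (hVn hc) d).mp hd
      have hle : ⁅M, M⁆ ≤ D := by
        rw [Subgroup.commutator_le]
        intro g hg g' hg'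
        rw [← hsup] at hg hg'
        obtain ⟨k₁, hk₁, d₁, hd₁, rfl⟩ := Cfsg.Agent.Lib.BGFit4.mem_sup_of_le_normalizer (h.le.trans hVn) hg
        obtain ⟨k₂, hk₂, d₂, hd₂, rfl⟩ := Cfsg.Agent.Lib.BGFit4.mem_sup_of_le_normalizer (h.le.trans hVn) hg'
        have hcomm : k₁ * k₂ = k₂ * k₁ := mul_comm_of_isCyclic hKc hk₁ hk₂
        have hk₁M := h.le hk₁
        have hk₂M := h.le hk₂
        have he1 : k₂⁻¹ * d₁ * k₂ ∈ D := by simpa using hDn k₂⁻¹ (inv_mem hk₂M) d₁ hd₁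
        have he2 : k₁⁻¹ * d₂ * k₁ ∈ D := by simpa using hDn k₁⁻¹ (inv_mem hk₁M) d₂ hd₂
        set e := k₂⁻¹ * d₁ * k₂ * d₂ with he
        set f := k₁⁻¹ * d₂ * k₁ * d₁ with hf
        have heD : e ∈ D := mul_mem he1 hd₂
        have hfD : f ∈ D := mul_mem he2 hd₁
        have e1 : k₁ * d₁ * (k₂ * d₂) = k₁ * k₂ * e := by rw [he]; group
        have e2 : k₂ * d₂ * (k₁ * d₁) = k₁ * k₂ * f := by rw [hcomm, hf]; group
        have e3 : ⁅k₁ * d₁, k₂ * d₂⁆ = (k₁ * k₂) * (e * f⁻¹) * (k₁ * k₂)⁻¹ := by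
          rw [commutatorElement_def]
          calc k₁ * d₁ * (k₂ * d₂) * (k₁ * d₁)⁻¹ * (k₂ * d₂)⁻¹
              = (k₁ * d₁ * (k₂ * d₂)) * (k₂ * d₂ * (k₁ * d₁))⁻¹ := by group
            _ = (k₁ * k₂ * e) * (k₁ * k₂ * f)⁻¹ := by rw [e1, e2]
            _ = _ := by group
        rw [e3]
        exact hDn _ (mul_mem hk₁M hk₂M) _ (mul_mem heD (inv_mem hfD))
      have h3 : p ∣ Nat.card D := hd2.trans (Subgroup.card_dvd_of_le hle)
      exact hVp p hp h3 hκ
    · obtain ⟨S, hS⟩ := exists_isSylowIn p M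
      obtain ⟨hc, -⟩ := hk S hS
      exact Cfsg.Agent.Lib.BGSigma.prankLE_of_isSylowIn hS (Cfsg.Agent.Lib.BGP3E.prankLE_one_of_cyclic hp)
  · rintro ⟨hp, hs, hdv, hnd, -⟩
    by_contra hκ
    obtain ⟨-, ⟨U₀, hUab, hUh, hUn, hUf⟩, -⟩ := I.s30 M hM K h.hall h.ne
    have hUd : p ∣ Nat.card U₀ := by
      have h1 : ¬ p ∣ U₀.relIndex M := hUh.2.2 p hp ⟨hp, hκ, hs⟩
      have h2 : Nat.card U₀ * U₀.relIndex M = Nat.card M := by
        have := Subgroup.card_mul_index (U₀.subgroupOf M)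
        rwa [card_subgroupOf_of_le hUh.1] at this
      rw [← h2] at hdv
      exact ((Nat.Prime.dvd_mul hp).mp hdv).resolve_right h1
    obtain ⟨W, hW, hWc⟩ := exists_prime_sub hp hUd
    obtain ⟨u, huW, hu1, -, huo⟩ := exists_gen (show (Nat.card W).Prime by rw [hWc]; exact hp)
    obtain ⟨k, hk, hk1⟩ := h.exists_ne
    have hkn : ∀ v ∈ U₀, k * v * k⁻¹ ∈ U₀ := fun v hv => (mem_normalizer_iff.mp (hUn hk) v).mp hv
    let f : U₀ → U₀ := fun v => ⟨(v : G) * (k * (v : G)⁻¹ * k⁻¹), mul_mem v.2 (hkn _ (inv_mem v.2))⟩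
    have hinj : Function.Injective f := by
      intro v w hvw
      have h1 : (v : G) * (k * (v : G)⁻¹ * k⁻¹) = (w : G) * (k * (w : G)⁻¹ * k⁻¹) := congrArg Subtype.val hvw
      set x := (w : G)⁻¹ * v with hx
      have hxU : x ∈ U₀ := mul_mem (inv_mem w.2) v.2
      have h2 : k * x * k⁻¹ = x := by
        have e : (w : G)⁻¹ * v = (k * (w : G)⁻¹ * k⁻¹) * (k * (v : G)⁻¹ * k⁻¹)⁻¹ := by
          calc (w : G)⁻¹ * v = (w : G)⁻¹ * ((v : G) * (k * (v : G)⁻¹ * k⁻¹)) * (k * (v : G)⁻¹ * k⁻¹)⁻¹ := by group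
            _ = (w : G)⁻¹ * ((w : G) * (k * (w : G)⁻¹ * k⁻¹)) * (k * (v : G)⁻¹ * k⁻¹)⁻¹ := by rw [h1]
            _ = _ := by group
        calc k * x * k⁻¹ = (k * (w : G)⁻¹ * k⁻¹) * (k * (v : G)⁻¹ * k⁻¹)⁻¹ := by rw [hx]; group
          _ = x := by rw [hx, ← e]
      have h3 : x ∈ U₀ ⊓ centralizer ({k} : Set G) := by
        refine ⟨hxU, mem_centralizer_singleton_iff.mpr ?_⟩
        calc x * k = (k * x * k⁻¹) * k := by rw [h2]
          _ = k * x := by group
      rw [hUf k hk hk1] at h3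
      have h4 : x = 1 := h3
      apply Subtype.ext
      have h5 : (w : G) * x = w := by rw [h4, mul_one]
      rw [hx] at h5
      simpa using h5
    obtain ⟨v, hv⟩ := (Finite.injective_iff_surjective.mp hinj) ⟨u, hW huW⟩
    have hue : u = ⁅(v : G), k⁆ := by
      have h9 : (v : G) * (k * (v : G)⁻¹ * k⁻¹) = u := congrArg Subtype.val hv
      rw [commutatorElement_def, ← h9]
      group
    apply hnd
    rw [hWc] at huo
    rw [← huo]
    apply Subgroup.orderOf_dvd_natCard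
    rw [hue]
    exact Subgroup.commutator_mem_commutator (hUh.1 v.2) (h.le hk)

end Cfsg.Agent.Lib.BGZ8
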