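import Mathlib
import Cfsg.Agent.Lib.BGZ8

/-!
# Bender-Glauberman section 14: the statements, from the input package.
-/

set_option autoImplicit false
set_option linter.unusedSectionVars false
set_option linter.unusedVariables false
set_option linter.style.haveILetI false
set_option linter.unusedSimpArgs false

namespace Cfsg.Agent.Lib.BGZ9

open Cfsg Subgroup Cfsg.Agent.Lib.CoprimeInv Cfsg.Agent.Lib.BGTrans Cfsg.Agent.Lib.BGM1
  Cfsg.Agent.Lib.BGSigma2 Cfsg.Agent.Lib.BGM2 Cfsg.Agent.Lib.BGZ1 Cfsg.Agent.Lib.OddOrderCore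
  Cfsg.Agent.Lib.BGSigma4 Cfsg.Agent.Lib.BGZ2 Cfsg.Agent.Lib.BGZ3 Cfsg.Agent.Lib.BGZ4
  Cfsg.Agent.Lib.BGZ5 Cfsg.Agent.Lib.BGZ6 Cfsg.Agent.Lib.BGZ7 Cfsg.Agent.Lib.BGZ8

universe u

variable {G : Type u} [Group G] [Finite G]

theorem s1351 (I : Inp G) (M : Subgroup G) (hM : IsCoatom M) :
    (∃ K : Subgroup G, IsPiHallOf (kappa M) K M) ∧ ∀ K : Subgroup G, IsPiHallOf (kappa M) K M → IsCyclic K := by
  refine ⟨?_, ?_⟩
  · obtain ⟨D, -, hD⟩ := exists_hall_ge (π := kappa M) (Y := ⊥) (IsMin.solvable I.hG hM.1) bot_le (by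
      intro r hr hd
      simp only [Subgroup.card_bot, Nat.dvd_one] at hd
      exact absurd hd hr.ne_one)
    exact ⟨D, hD⟩
  · intro K hK
    by_cases h1 : K = ⊥
    · subst h1
      infer_instance
    · exact isCyclic_of_good I ⟨hM, hK, h1⟩

theorem s1366 (I : Inp G) (M : Subgroup G) (hM : IsCoatom M) (K U : Subgroup G)
    (hKU : IsSigmaDecomposition M K U) (hK1 : K ≠ ⊥) :
    ∃! Mstar : Subgroup G, IsCoatom Mstar ∧
      K = sigmaCore Mstar ⊓ centralizer ((sigmaCore M ⊓ centralizer (K : Set G)) : Set G) ∧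
      IsPiHallOf (kappa Mstar) (sigmaCore M ⊓ centralizer (K : Set G)) Mstar := by
  have hg : Good M K := ⟨hM, hKU.hall, hK1⟩
  obtain ⟨Ms, hMs⟩ := exists_mate I hg
  refine ⟨Ms, ⟨hMs.goodS.hM, hMs.kst_eq.symm, hMs.goodS.hall⟩, ?_⟩
  rintro N ⟨h1, h2, h3⟩
  have hN := mate_of_hyp I hg h1 h2 h3
  exact ((hMs.all N _ (hN.fam₂ I)).resolve_left hN.ne)

/-- The centralizer statement. -/
theorem cent_part (I : Inp G) {M K Ms : Subgroup G} (h : Mate M K Ms) {X : Subgroup G}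
    (hX : X ≤ kst M K) (hXp : (Nat.card X).Prime) :
    centralizer (X : Set G) ≤ M ∧ ∀ L : Subgroup G, IsCoatom L → centralizer (X : Set G) ≤ L → L = M := by
  obtain ⟨x, hx, hx1, hXz, -⟩ := exists_gen hXp
  refine ⟨?_, fun L hL hC => cent_unique I h.good (isCyclic_of_good I h.goodS) hX hXp hL hC⟩
  rw [hXz, centralizer_zpowers]
  exact h.good.cent_core I (hX hx) hx1

theorem s1367 (I : Inp G) (M : Subgroup G) (hM : IsCoatom M) (K U : Subgroup G)
    (hKU : IsSigmaDecomposition M K U) (hK1 : K ≠ ⊥) (Mstar : Subgroup G) (hMstar : IsCoatom Mstar)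
    (hKst : K = sigmaCore Mstar ⊓ centralizer ((sigmaCore M ⊓ centralizer (K : Set G)) : Set G))
    (hKstH : IsPiHallOf (kappa Mstar) (sigmaCore M ⊓ centralizer (K : Set G)) Mstar) :
    (∀ X : Subgroup G, X ≤ (sigmaCore M ⊓ centralizer (K : Set G)) → (Nat.card X).Prime →
        centralizer (X : Set G) ≤ M ∧ ∀ L : Subgroup G, IsCoatom L → centralizer (X : Set G) ≤ L → L = M) ∧
      (∀ Y : Subgroup G, Y ≤ K → (Nat.card Y).Prime →
        centralizer (Y : Set G) ≤ Mstar ∧ ∀ L : Subgroup G, IsCoatom L → centralizer (Y : Set G) ≤ L → L = Mstar) := by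
  have h := mate_of_hyp I ⟨hM, hKU.hall, hK1⟩ hMstar hKst hKstH
  refine ⟨fun X hX hXp => cent_part I h hX hXp, fun Y hY hYp => ?_⟩
  exact cent_part I h.symm (hY.trans h.kst_eq.ge) hYp

theorem s1368 (I : Inp G) (M : Subgroup G) (hM : IsCoatom M) (K U : Subgroup G)
    (hKU : IsSigmaDecomposition M K U) (hK1 : K ≠ ⊥) (Mstar : Subgroup G) (hMstar : IsCoatom Mstar)
    (hKst : K = sigmaCore Mstar ⊓ centralizer ((sigmaCore M ⊓ centralizer (K : Set G)) : Set G))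
    (hKstH : IsPiHallOf (kappa Mstar) (sigmaCore M ⊓ centralizer (K : Set G)) Mstar) :
    M ⊓ Mstar = K ⊔ (sigmaCore M ⊓ centralizer (K : Set G)) ∧ IsCyclic ↥(K ⊔ (sigmaCore M ⊓ centralizer (K : Set G))) := by
  have h := mate_of_hyp I ⟨hM, hKU.hall, hK1⟩ hMstar hKst hKstH
  exact ⟨h.inf_eq I, h.isCyclic_Z I⟩

theorem s1369 (I : Inp G) (M : Subgroup G) (hM : IsCoatom M) (K U : Subgroup G)
    (hKU : IsSigmaDecomposition M K U) (hK1 : K ≠ ⊥) (Mstar : Subgroup G) (hMstar : IsCoatom Mstar)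
    (hKst : K = sigmaCore Mstar ⊓ centralizer ((sigmaCore M ⊓ centralizer (K : Set G)) : Set G))
    (hKstH : IsPiHallOf (kappa Mstar) (sigmaCore M ⊓ centralizer (K : Set G)) Mstar) :
    (U ≠ ⊥ ∨ ∀ Ustar : Subgroup G, IsSigmaDecomposition Mstar (sigmaCore M ⊓ centralizer (K : Set G)) Ustar → Ustar ≠ ⊥) ∧
      ∀ H : Subgroup G, IsCoatom H → (kappa H).Nonempty →
        ∃ g : G, H = M.map (MulAut.conj g).toMonoidHom ∨ H = Mstar.map (MulAut.conj g).toMonoidHom := by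
  have h := mate_of_hyp I ⟨hM, hKU.hall, hK1⟩ hMstar hKst hKstH
  refine ⟨?_, fun H hH hκ => exists_conj_of_kappa I h hH hκ⟩
  by_contra hcon
  push Not at hcon
  obtain ⟨hU, Ustar, hd, hUs⟩ := hcon
  subst hU
  subst hUs
  exact not_both_P1 I h (P1_of_compl_bot hKU.compl hKU.hall) (P1_of_compl_bot hd.compl hd.hall)

theorem s1370 (I : Inp G) (M : Subgroup G) (hM : IsCoatom M) (K U : Subgroup G)
    (hKU : IsSigmaDecomposition M K U) (hK1 : K ≠ ⊥) :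
    IsTISubset ((↑(K ⊔ (sigmaCore M ⊓ centralizer (K : Set G))) : Set G) \ ((K : Set G) ∪ ↑(sigmaCore M ⊓ centralizer (K : Set G)))) ∧
      normalizer ((↑(K ⊔ (sigmaCore M ⊓ centralizer (K : Set G))) : Set G) \ ((K : Set G) ∪ ↑(sigmaCore M ⊓ centralizer (K : Set G)))) =
        K ⊔ (sigmaCore M ⊓ centralizer (K : Set G)) := by
  obtain ⟨Ms, h⟩ := exists_mate I (⟨hM, hKU.hall, hK1⟩ : Good M K)
  have e := hat_eq h I
  change hat (zz M K) = ((zz M K : Subgroup G) : Set G) \ ((K : Set G) ∪ ↑(kst M K)) at e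
  change IsTISubset (((zz M K : Subgroup G) : Set G) \ ((K : Set G) ∪ ↑(kst M K))) ∧
    normalizer (((zz M K : Subgroup G) : Set G) \ ((K : Set G) ∪ ↑(kst M K))) = zz M K
  rw [← e]
  have hZN : zz M K ≤ normalizer (hat (zz M K)) := by
    intro u hu
    show ∀ x, x ∈ hat (zz M K) ↔ u * x * u⁻¹ ∈ hat (zz M K)
    intro x
    constructor
    · intro hx
      exact hat_inv hx hu
    · intro hx
      have := hat_inv hx (inv_mem hu)
      have e2 : u⁻¹ * (u * x * u⁻¹) * u⁻¹⁻¹ = x := by group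
      rwa [e2] at this
  refine ⟨?_, ?_⟩
  · intro g hg x hx hgx
    exfalso
    exact hg (hZN ((h.fam₁ I).hat_ti I hx hgx.1))
  · apply le_antisymm _ hZN
    intro g hg
    obtain ⟨z, hz⟩ := h.exists_hat I
    have hgz : g * z * g⁻¹ ∈ hat (zz M K) := ((show ∀ x, x ∈ hat (zz M K) ↔ g * x * g⁻¹ ∈ hat (zz M K) from hg) z).mp hz
    exact (h.fam₁ I).hat_ti I hz hgz.1

theorem s1371 (I : Inp G) (M : Subgroup G) (hM : IsCoatom M) (K U : Subgroup G)
    (hKU : IsSigmaDecomposition M K U) (hK1 : K ≠ ⊥) :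
    {a : G | ∃ m ∈ M, ∃ z ∈ ((↑(K ⊔ (sigmaCore M ⊓ centralizer (K : Set G))) : Set G) \ ((K : Set G) ∪ ↑(sigmaCore M ⊓ centralizer (K : Set G)))), a = m * z * m⁻¹} =
      sigmaA0 M K \ sigmaA M U ∧ IsTISubset (sigmaA0 M K \ sigmaA M U) := by
  obtain ⟨Ms, h⟩ := exists_mate I (⟨hM, hKU.hall, hK1⟩ : Good M K)
  have e := hat_eq h I
  change hat (zz M K) = ((zz M K : Subgroup G) : Set G) \ ((K : Set G) ∪ ↑(kst M K)) at e
  change {a : G | ∃ m ∈ M, ∃ z ∈ ((zz M K : Subgroup G) : Set G) \ ((K : Set G) ∪ ↑(kst M K)), a = m * z * m⁻¹} = _ ∧ _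
  rw [← e]
  refine ⟨?_, ti_of_mate h I hKU⟩
  ext a
  exact (mem_iff h I hKU).symm

theorem s1373 (I : Inp G) (M : Subgroup G) (hM : IsCoatom M) (K U : Subgroup G)
    (hKU : IsSigmaDecomposition M K U) (hK1 : K ≠ ⊥) (hU : U = ⊥) :
    (Nat.card ↥(sigmaCore M ⊓ centralizer (K : Set G))).Prime := by
  obtain ⟨Ms, h⟩ := exists_mate I (⟨hM, hKU.hall, hK1⟩ : Good M K)
  subst hU
  exact prime_of_P1 I h (P1_of_compl_bot hKU.compl hKU.hall)

theorem s1377 (I : Inp G) (M : Subgroup G) (hM : IsCoatom M) :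
    Set.ncard (tildeOf M ((sigmaCore M : Set G) \ {1})) = (Nat.card (sigmaCore M) - 1) * M.index :=
  tilde_card I hM

theorem s1434 (I : Inp G) (M : Subgroup G) (hM : IsCoatom M) (K U : Subgroup G)
    (hKU : IsSigmaDecomposition M K U) (hK1 : K ≠ ⊥) (Mstar : Subgroup G) (hMstar : IsCoatom Mstar)
    (hKst : K = sigmaCore Mstar ⊓ centralizer ((sigmaCore M ⊓ centralizer (K : Set G)) : Set G))
    (hKstH : IsPiHallOf (kappa Mstar) (sigmaCore M ⊓ centralizer (K : Set G)) Mstar) :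
    kappa M = tau1 M ∧ IsPiHallOf (sigma M) (sigmaCore M ⊓ centralizer (K : Set G)) Mstar ∧
      (∀ x ∈ K, x ≠ 1 → ∀ y ∈ (sigmaCore M ⊓ centralizer (K : Set G)), y ≠ 1 →
        M ⊓ centralizer ({x} : Set G) = K ⊔ (sigmaCore M ⊓ centralizer (K : Set G)) ∧
        Mstar ⊓ centralizer ({y} : Set G) = K ⊔ (sigmaCore M ⊓ centralizer (K : Set G)) ∧
        centralizer ({x * y} : Set G) = K ⊔ (sigmaCore M ⊓ centralizer (K : Set G))) ∧
      (∀ g : G, g ∉ M → ∀ z ∈ ((↑(K ⊔ (sigmaCore M ⊓ centralizer (K : Set G))) : Set G) \ ((K : Set G) ∪ ↑(sigmaCore M ⊓ centralizer (K : Set G)))),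
        z ∉ M.map (MulAut.conj g).toMonoidHom) ∧
      Nat.card K * Nat.card ↥(sigmaCore M ⊓ centralizer (K : Set G)) *
        Set.ncard {a : G | ∃ g : G, ∃ z ∈ ((↑(K ⊔ (sigmaCore M ⊓ centralizer (K : Set G))) : Set G) \ ((K : Set G) ∪ ↑(sigmaCore M ⊓ centralizer (K : Set G)))), a = g * z * g⁻¹} =
        (Nat.card K * Nat.card ↥(sigmaCore M ⊓ centralizer (K : Set G)) - Nat.card K - Nat.card ↥(sigmaCore M ⊓ centralizer (K : Set G)) + 1) * Nat.card G ∧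
      Nat.card G < 2 * Set.ncard {a : G | ∃ g : G, ∃ z ∈ ((↑(K ⊔ (sigmaCore M ⊓ centralizer (K : Set G))) : Set G) \ ((K : Set G) ∪ ↑(sigmaCore M ⊓ centralizer (K : Set G)))), a = g * z * g⁻¹} := by
  have h := mate_of_hyp I ⟨hM, hKU.hall, hK1⟩ hMstar hKst hKstH
  have e := hat_eq h I
  change hat (zz M K) = ((zz M K : Subgroup G) : Set G) \ ((K : Set G) ∪ ↑(kst M K)) at e
  change kappa M = tau1 M ∧ IsPiHallOf (sigma M) (kst M K) Mstar ∧
      (∀ x ∈ K, x ≠ 1 → ∀ y ∈ kst M K, y ≠ 1 →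
        M ⊓ centralizer ({x} : Set G) = zz M K ∧ Mstar ⊓ centralizer ({y} : Set G) = zz M K ∧
        centralizer ({x * y} : Set G) = zz M K) ∧
      (∀ g : G, g ∉ M → ∀ z ∈ ((zz M K : Subgroup G) : Set G) \ ((K : Set G) ∪ ↑(kst M K)), z ∉ cj M g) ∧
      Nat.card K * Nat.card (kst M K) *
        Set.ncard {a : G | ∃ g : G, ∃ z ∈ ((zz M K : Subgroup G) : Set G) \ ((K : Set G) ∪ ↑(kst M K)), a = g * z * g⁻¹} =
        (Nat.card K * Nat.card (kst M K) - Nat.card K - Nat.card (kst M K) + 1) * Nat.card G ∧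
      Nat.card G < 2 * Set.ncard {a : G | ∃ g : G, ∃ z ∈ ((zz M K : Subgroup G) : Set G) \ ((K : Set G) ∪ ↑(kst M K)), a = g * z * g⁻¹}
  rw [← e]
  refine ⟨kappa_eq_tau1 I h.good, h.hall_sigma I, ?_, ?_, card_cu h I, two_cu h I⟩
  · intro x hx hx1 y hy hy1
    refine ⟨h.cent_k I hx hx1, ?_, h.cent_hat I (h.mul_mem_hat I hx hx1 hy hy1)⟩
    have h2 := h.symm.cent_k I hy hy1
    rwa [h.zz_symm] at h2
  · intro g hg z hz
    exact h.hat_not_conj I hz hg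

end Cfsg.Agent.Lib.BGZ9
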