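import Mathlib
import Cfsg.Agent.Lib.BGCent13
import Cfsg.Agent.Lib.BGZ9

/-!
# Bender-Glauberman section 14: the partition of `G - 1` (S1379, given the package `Inp`).
-/

set_option autoImplicit false
set_option linter.unusedSectionVars false
set_option linter.unusedVariables false
set_option linter.style.haveILetI false
set_option linter.unusedSimpArgs false

namespace Cfsg.Agent.Lib.BGCent

open Cfsg Subgroup Cfsg.Agent.Lib.CoprimeInv Cfsg.Agent.Lib.BGTrans Cfsg.Agent.Lib.BGTrans2 Cfsg.Agent.Lib.BGUniq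
  Cfsg.Agent.Lib.BGUniq2 Cfsg.Agent.Lib.PCore Cfsg.Agent.Lib.BGTau7 Cfsg.Agent.Lib.BGM1 Cfsg.Agent.Lib.BGTau5
  Cfsg.Agent.Lib.BGTau3 Cfsg.Agent.Lib.BGM2 Cfsg.Agent.Lib.BGTau6 Cfsg.Agent.Lib.BGTau1 Cfsg.Agent.Lib.BGP2E
  Cfsg.Agent.Lib.BGFit2 Cfsg.Agent.Lib.BGZ1 Cfsg.Agent.Lib.BGZ2 Cfsg.Agent.Lib.BGZ3 Cfsg.Agent.Lib.BGZ4
  Cfsg.Agent.Lib.BGZ5 Cfsg.Agent.Lib.BGZ7
open scoped commutatorElement

universe u

variable {G : Type u} [Group G] [Finite G]

/-- The facts needed in this section, from the package. -/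
theorem kappaFacts_of_inp (I : Inp G) : KappaFacts G := ⟨I.thmD, I.s30, I.s32⟩

theorem til_of_cj (I : Inp G) {H : Subgroup G} (hH : IsCoatom H) (g : G) {t : G} (ht : t ∈ til (cj H g)) :
    t ∈ til H := by
  obtain ⟨a, ⟨ha, ha1⟩, r, hr, y, rfl⟩ := ht
  rw [BGZ1.sigmaCore_cj] at ha
  set a₀ : G := g⁻¹ * a * g with ha₀
  have ha₀H : a₀ ∈ sigmaCore H := mem_cj.mp ha
  have he : a = g * a₀ * g⁻¹ := by rw [ha₀]; group
  have ha₀1 : a₀ ≠ 1 := by
    intro h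
    apply ha1
    have h2 : a = 1 := by
      rw [he, h]
      group
    exact h2
  rw [he, supportR_cj I hH ha₀H ha₀1 g, mem_cj] at hr
  refine ⟨a₀, ⟨ha₀H, ha₀1⟩, g⁻¹ * r * g, hr, y * g, ?_⟩
  rw [ha₀]
  group

/-- An element of `Ẑ` lies in no `Ñ`. -/
theorem hat_not_mem_til (I : Inp G) {M K Ms : Subgroup G} (h : Mate M K Ms) {N : Subgroup G} (hN : IsCoatom N)
    {z : G} (hz : z ∈ hat (zz M K)) : z ∉ til N := by
  classical
  rintro ⟨a, ⟨ha, ha1⟩, r, hr, y, he⟩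
  have hN₁ : IsCoatom (cj N y) := Cfsg.Agent.Lib.BGUniq3.isCoatom_cj hN y
  obtain ⟨ha₁, ha₁1, hr₁⟩ := til_conj I hN ha ha1 hr y
  set a₁ : G := y * a * y⁻¹ with ha₁d
  set r₁ : G := y * r * y⁻¹ with hr₁d
  have hzr : z = a₁ * r₁ := by
    rw [he, ha₁d, hr₁d]
    group
  obtain ⟨hc, hcop⟩ := supportR_coprime I hN₁ ha₁ ha₁1 hr₁
  obtain ⟨⟨n, hn⟩, -⟩ := pow_parts hc hcop
  rw [← hzr] at hn
  have ha₁Z : a₁ ∈ zz M K := by
    rw [← hn]
    exact pow_mem hz.1 n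
  have hno : orderOf a₁ ≠ 1 := fun h' => ha₁1 (orderOf_eq_one_iff.mp h')
  obtain ⟨s, hs, hsd⟩ := Nat.exists_prime_and_dvd hno
  set x₂ : G := a₁ ^ (orderOf a₁ / s) with hx₂
  have hx₂o : orderOf x₂ = s := orderOf_pow_orderOf_div (orderOf_pos _).ne' hsd
  have hX : zpowers x₂ ≤ zz M K := zpowers_le_of_mem (pow_mem ha₁Z _)
  have hXp : (Nat.card (zpowers x₂)).Prime := by
    rw [Nat.card_zpowers, hx₂o]
    exact hs
  obtain ⟨H', A', hF, hXk⟩ := (h.fam₁ I).cover I hX hXp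
  have hx₂N : x₂ ∈ sigmaCore (cj N y) := pow_mem ha₁ _
  have hx₂H : x₂ ∈ sigmaCore H' := (Subgroup.mem_inf.mp (hXk (mem_zpowers x₂))).1
  have hsN : s ∈ sigma (cj N y) := primes_sigmaCore s hs
    (by rw [← hx₂o]; exact Subgroup.orderOf_dvd_natCard _ hx₂N)
  have hsH : s ∈ sigma H' := primes_sigmaCore s hs
    (by rw [← hx₂o]; exact Subgroup.orderOf_dvd_natCard _ hx₂H)
  obtain ⟨g, hg⟩ := I.thmD H' (cj N y) hF.good.hM hN₁ ⟨s, hsH, hsN⟩
  have hzT : z ∈ til (cj N y) := by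
    refine ⟨a₁, ⟨ha₁, ha₁1⟩, r₁, hr₁, 1, ?_⟩
    rw [hzr]
    group
  rw [show cj N y = cj H' g from hg] at hzT
  have hzH := til_of_cj I hF.good.hM g hzT
  have hd := hat_til_disj I hF
  exact Set.disjoint_left.mp hd ⟨1, z, hz, by group⟩ hzH

/-- Hall subgroups of conjugates are conjugates, with a common conjugating element. -/
theorem exists_common_conj (hG : IsMinSimpleOddOrder G) {A B M₁ K₁ : Subgroup G} (hA : IsCoatom A)
    (hB : IsPiHallOf (kappa A) B A) {c : G} (hM₁ : M₁ = cj A c) (hK₁ : IsPiHallOf (kappa M₁) K₁ M₁) :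
    ∃ d : G, M₁ = cj A d ∧ K₁ = cj B d := by
  classical
  have hM₁c : IsCoatom M₁ := by
    rw [hM₁]
    exact Cfsg.Agent.Lib.BGUniq3.isCoatom_cj hA c
  have hs : Group.IsSolvable M₁ := solvable_of_le_coatom hG hM₁c le_rfl
  have hB' : IsPiHallOf (kappa M₁) (cj B c) M₁ := by
    have := isPiHallOf_cj hB c
    rwa [← hM₁, ← kappa_cj_eq A c, ← hM₁] at this
  obtain ⟨m, hm, hKm⟩ := exists_conj_hall hs hB' hK₁.1 hK₁.2.1
  have hcjM : cj M₁ m = M₁ := cj_eq_of_mem_normalizer (le_normalizer hm)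
  refine ⟨m * c, ?_, ?_⟩
  · rw [← cj_cj, ← hM₁, hcjM]
  · have hle : cj (cj B c) m ≤ M₁ := by
      rw [← hcjM]
      exact cj_mono hB'.1 m
    have h1 := hall_eq_of_le hK₁ hKm hle (by
      intro p hp hd
      rw [card_cj, card_cj] at hd
      rw [hM₁, kappa_cj_eq]
      exact hB.2.1 p hp hd)
    rw [← cj_cj]
    exact h1.symm

/-- Every `Ẑ` attached to a maximal subgroup is conjugate to the `Ẑ` of `M`. -/
theorem zHat_conj (I : Inp G) {M K Ms M₁ K₁ : Subgroup G} (h : Mate M K Ms) (hM₁ : IsCoatom M₁)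
    (hK₁ : IsPiHallOf (kappa M₁) K₁ M₁) (hK₁1 : K₁ ≠ ⊥) {z : G} (hz : z ∈ zHat M₁ K₁) :
    ∃ d z₀ : G, z₀ ∈ zHat M K ∧ z = d * z₀ * d⁻¹ := by
  classical
  have hκ : (kappa M₁).Nonempty := by
    have hcard : Nat.card K₁ ≠ 1 := fun h' => hK₁1 (Subgroup.card_eq_one.mp h')
    obtain ⟨p, hp, hpd⟩ := Nat.exists_prime_and_dvd hcard
    exact ⟨p, hK₁.2.1 p hp hpd⟩
  -- the general step
  have key : ∀ {A B : Subgroup G} {d : G}, M₁ = cj A d → K₁ = cj B d → zz A B = zz M K →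
      (∀ w, w ∈ (B : Set G) ∪ ↑(kst A B) ↔ w ∈ (K : Set G) ∪ ↑(kst M K)) →
      ∃ d z₀ : G, z₀ ∈ zHat M K ∧ z = d * z₀ * d⁻¹ := by
    intro A B d h1 h2 h3 h4
    have hzz : zz M₁ K₁ = cj (zz M K) d := by
      rw [h1, h2, zz_cj, h3]
    have hkk : kst M₁ K₁ = cj (kst A B) d := by
      rw [h1, h2, kst_cj]
    refine ⟨d, d⁻¹ * z * d, ⟨?_, ?_⟩, by group⟩
    · have h5 := hz.1
      have h6 : z ∈ zz M₁ K₁ := h5
      rw [hzz, mem_cj] at h6
      exact h6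
    · intro h5
      apply hz.2
      rcases (h4 _).mpr h5 with h6 | h6
      · left
        show z ∈ K₁
        rw [h2, mem_cj]
        exact h6
      · right
        show z ∈ kst M₁ K₁
        rw [hkk, mem_cj]
        exact h6
  obtain ⟨c, hc | hc⟩ := exists_conj_of_kappa I h hM₁ hκ
  · obtain ⟨d, h1, h2⟩ := exists_common_conj I.hG h.good.hM h.good.hall hc hK₁
    exact key h1 h2 rfl (fun w => Iff.rfl)
  · obtain ⟨d, h1, h2⟩ := exists_common_conj I.hG h.goodS.hM h.goodS.hall hc hK₁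
    refine key h1 h2 h.zz_symm ?_
    intro w
    rw [h.kst_eq, Set.union_comm]

/-- **S1379**, from the package. -/
theorem s1379 (I : Inp G) :
    (∀ M N : Subgroup G, IsCoatom M → IsCoatom N → (∀ g : G, N ≠ M.map (MulAut.conj g).toMonoidHom) →
      tildeOf M ((sigmaCore M : Set G) \ {1}) ∩ tildeOf N ((sigmaCore N : Set G) \ {1}) = ∅) ∧
    ((∀ M : Subgroup G, IsCoatom M → kappa M = ∅) →
      ∀ g : G, g ≠ 1 → ∃ M : Subgroup G, IsCoatom M ∧ g ∈ tildeOf M ((sigmaCore M : Set G) \ {1})) ∧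
    ∀ (M K U : Subgroup G), IsCoatom M → IsSigmaDecomposition M K U → K ≠ ⊥ →
      (∀ g : G, g ≠ 1 → (∃ N : Subgroup G, IsCoatom N ∧ g ∈ tildeOf N ((sigmaCore N : Set G) \ {1})) ∨
          ∃ y : G, ∃ z ∈ ((↑(K ⊔ (sigmaCore M ⊓ centralizer (K : Set G))) : Set G) \
            ((K : Set G) ∪ ↑(sigmaCore M ⊓ centralizer (K : Set G)))), g = y * z * y⁻¹) ∧
      ∀ N : Subgroup G, IsCoatom N → ∀ y : G, ∀ z ∈ ((↑(K ⊔ (sigmaCore M ⊓ centralizer (K : Set G))) : Set G) \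
            ((K : Set G) ∪ ↑(sigmaCore M ⊓ centralizer (K : Set G)))),
        y * z * y⁻¹ ∉ tildeOf N ((sigmaCore N : Set G) \ {1}) := by
  classical
  have hK := kappaFacts_of_inp I
  refine ⟨?_, ?_, ?_⟩
  · intro M N hM hN hne
    have hσ : sigma M ∩ sigma N = ∅ := by
      by_contra hcon
      obtain ⟨g, hg⟩ := I.thmD M N hM hN (Set.nonempty_iff_ne_empty.mpr hcon)
      exact hne g hg
    exact Set.disjoint_iff_inter_eq_empty.mp (til_disj I hM hN hσ)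
  · intro hκ g hg
    rcases cover I.hG hK hg with h | ⟨M₁, K₁, y, z, h1, h2, h3, h4, -⟩
    · exact h
    · exfalso
      have hcard : Nat.card K₁ ≠ 1 := fun h' => h3 (Subgroup.card_eq_one.mp h')
      obtain ⟨p, hp, hpd⟩ := Nat.exists_prime_and_dvd hcard
      have := h2.2.1 p hp hpd
      rw [hκ M₁ h1] at this
      exact this
  · intro M K U hM hd hK1
    have hg' : Good M K := ⟨hM, hd.hall, hK1⟩
    obtain ⟨Ms, hMs⟩ := exists_mate I hg'
    refine ⟨?_, ?_⟩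
    · intro g hg
      rcases cover I.hG hK hg with h | ⟨M₁, K₁, y, z, h1, h2, h3, h4, rfl⟩
      · exact Or.inl h
      · right
        obtain ⟨d, z₀, hz₀, rfl⟩ := zHat_conj I hMs h1 h2 h3 h4
        exact ⟨y * d, z₀, hz₀, by group⟩
    · intro N hN y z hz hmem
      have hz' : z ∈ hat (zz M K) := by
        rw [hat_eq hMs I]
        exact hz
      apply hat_not_mem_til I hMs hN hz'
      obtain ⟨a, ha, r, hr, y', he⟩ := hmem
      exact ⟨a, ha, r, hr, y⁻¹ * y', by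
        have : z = y⁻¹ * (y * z * y⁻¹) * y := by group
        rw [this, he]
        group⟩

end Cfsg.Agent.Lib.BGCent
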