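import Mathlib
import Cfsg.Agent.Lib.BGCent13
import Cfsg.Agent.S1404
import Cfsg.Agent.S1417

/-!
# Bender-Glauberman section 14: support of a maximal subgroup (S1436(b)); S1378 first part.
-/

set_option autoImplicit false
set_option linter.unusedSectionVars false
set_option linter.unusedVariables false
set_option linter.style.haveILetI false
set_option linter.unusedSimpArgs false

namespace Cfsg.Agent.Lib.BGCent

open Cfsg Subgroup Cfsg.Agent.Lib.CoprimeInv Cfsg.Agent.Lib.BGTrans Cfsg.Agent.Lib.BGTrans2 Cfsg.Agent.Lib.BGUniq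
  Cfsg.Agent.Lib.BGUniq2 Cfsg.Agent.Lib.PCore Cfsg.Agent.Lib.BGTau7 Cfsg.Agent.Lib.BGM1 Cfsg.Agent.Lib.BGTau5
  Cfsg.Agent.Lib.BGTau3 Cfsg.Agent.Lib.BGM2 Cfsg.Agent.Lib.BGTau6 Cfsg.Agent.Lib.BGTau1 Cfsg.Agent.Lib.BGP2E
  Cfsg.Agent.Lib.BGFit2
open scoped commutatorElement

universe u

variable {G : Type u} [Group G] [Finite G]

theorem isComplIn_cj {A B M : Subgroup G} (h : IsComplIn A B M) (g : G) : IsComplIn (cj A g) (cj B g) (cj M g) := by
  refine ⟨cj_mono h.1 g, cj_mono h.2.1 g, ?_, ?_⟩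
  · rw [← Cfsg.Agent.Lib.BGFus.cj_inf, h.2.2.1]
    ext x
    simp [mem_cj]
  · intro m hm
    obtain ⟨a, ha, b, hb, e⟩ := h.2.2.2 _ (mem_cj.mp hm)
    refine ⟨g * a * g⁻¹, conj_mem_cj ha, g * b * g⁻¹, conj_mem_cj hb, ?_⟩
    calc m = g * (g⁻¹ * m * g) * g⁻¹ := by group
      _ = g * (a * b) * g⁻¹ := by rw [e]
      _ = _ := by group

/-- **S1436(b)**. -/
theorem conj_of_support (hG : IsMinSimpleOddOrder G) (hK : KappaFacts G) {M N N' : Subgroup G} (hM : IsCoatom M)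
    {x y g : G} (hx : x ∈ sigmaCore M) (hx1 : x ≠ 1) (hxM : ¬ centralizer ({x} : Set G) ≤ M) (hN : IsCoatom N)
    (hxN : centralizer ({x} : Set G) ≤ N) (hy : y ∈ sigmaCore M) (hy1 : y ≠ 1)
    (hyM : ¬ centralizer ({y} : Set G) ≤ M) (hN' : IsCoatom N') (hyN' : centralizer ({y} : Set G) ≤ N')
    (hg : N'.map (MulAut.conj g).toMonoidHom = N) : ∃ m ∈ M, N'.map (MulAut.conj m).toMonoidHom = N := by
  classical
  obtain ⟨N₁, ⟨hN₁, hCN₁⟩, hU₁, -, -, -, hc₁, -⟩ := main75 hG hK hM hx hx1 hxM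
  have hNe : N = N₁ := hU₁ N hN hxN
  subst hNe
  rcases supportR_cases hG hK hM hy hy1 with h | ⟨N₂, R, hR⟩
  · exact (hyM h.1).elim
  have hNe' : N' = N₂ := hR.hU N' hN' hyN'
  subst hNe'
  obtain ⟨N₃, ⟨hN₃, hCN₃⟩, hU₃, -, -, -, hc₃, -⟩ := main75 hG hK hM hy hy1 hyM
  have hNe'' : N' = N₃ := hU₃ N' hN' hyN'
  subst hNe''
  have hg' : cj N' g = N := hg
  -- conjugate complements
  have hc₄ : IsComplIn (cj (M ⊓ N') g) (sigmaCore N) N := by
    have := isComplIn_cj hc₃ g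
    rwa [hg', ← Cfsg.Agent.Lib.BGZ1.sigmaCore_cj, hg'] at this
  have hsN : Group.IsSolvable (sigmaCore N) := solvable_of_le_coatom hG hN sigmaCore_le
  have hNn : N ≤ normalizer (sigmaCore N : Set G) := le_normalizer_sigmaCore
  have hcop : Nat.Coprime (Nat.card (sigmaCore N)) (Nat.card (M ⊓ N : Subgroup G)) := by
    apply Nat.coprime_of_dvd
    intro k hk h1 h2
    exact Cfsg.Agent.Lib.BGTau7.not_sigma_of_compl hG hN hc₁ hk h2 (primes_sigmaCore k hk h1)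
  have hsup : ∀ {E : Subgroup G}, IsComplIn E (sigmaCore N) N → sigmaCore N ⊔ E = N := by
    intro E hE
    apply le_antisymm (sup_le hE.2.1 hE.1)
    intro m hm
    obtain ⟨a, ha, b, hb, rfl⟩ := hE.2.2.2 m hm
    exact Subgroup.mul_mem _ (mem_sup_right ha) (mem_sup_left hb)
  obtain ⟨n, hn, hne⟩ := exists_conj_rel hsN (hc₁.1.trans hNn) (hc₄.1.trans hNn)
    (by rw [inf_comm]; exact hc₁.2.2.1) (by rw [inf_comm]; exact hc₄.2.2.1)
    ((hsup hc₁).trans (hsup hc₄).symm) hcop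
  set h : G := n⁻¹ * g with hh
  have hnN : n ∈ N := sigmaCore_le hn
  have h1 : cj N' h = N := by
    rw [hh, ← cj_cj, hg']
    exact cj_eq_of_mem_normalizer (le_normalizer (N.inv_mem hnN))
  have h2 : cj (M ⊓ N') h = M ⊓ N := by
    rw [hh, ← cj_cj, hne, cj_cj_inv]
  -- the elementary abelian subgroup
  have hno : orderOf y ≠ 1 := fun h => hy1 (orderOf_eq_one_iff.mp h)
  obtain ⟨p, hp, hpd⟩ := Nat.exists_prime_and_dvd hno
  haveI : Fact p.Prime := ⟨hp⟩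
  obtain ⟨A, hAD, ⟨T⟩⟩ := hR.c.exists_A hR.hN hR.hCN hR.hτ hpd
  have hAN' : A ≤ N' := T.hAM
  have hAM : A ≤ M := hAD.trans inf_le_left
  have hpσ : p ∈ sigma M := primes_sigmaCore p hp (hpd.trans (Subgroup.orderOf_dvd_natCard _ hy))
  have hle : A.map (MulAut.conj h).toMonoidHom ≤ M := by
    have h3 : cj A h ≤ cj (M ⊓ N') h := cj_mono (le_inf hAM hAN') h
    rw [h2] at h3
    exact h3.trans inf_le_left
  obtain ⟨m, hm, c, hc, hmc⟩ := (Cfsg.Agent.S1404.result hG M hM p hpσ A T.isP T.A_ne_bot hAM).1 h hle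
  refine ⟨m, hm, ?_⟩
  have hcN : c ∈ N' := T.cent_le hN' hAN' hc
  have h4 : cj N' c = N' := cj_eq_of_mem_normalizer (le_normalizer hcN)
  have h5 : cj N' h = cj N' m := by
    rw [hmc, ← cj_cj, h4]
  show cj N' m = N
  rw [← h5, h1]

/-- **S1378**, given Theorem D. -/
theorem s1378_of (hG : IsMinSimpleOddOrder G)
    (thD : ∀ M N : Subgroup G, IsCoatom M → IsCoatom N → (sigma M ∩ sigma N).Nonempty →
      ∃ g : G, N = M.map (MulAut.conj g).toMonoidHom) :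
    (∀ p : ℕ, p.Prime → p ∣ Nat.card G → ∃ M : Subgroup G, IsCoatom M ∧ p ∈ sigma M) ∧
      ∀ M N : Subgroup G, IsCoatom M → IsCoatom N → (sigma M ∩ sigma N).Nonempty →
        ∃ g : G, N = M.map (MulAut.conj g).toMonoidHom :=
  ⟨fun _ hp hd => exists_sigma_of_dvd hG hp hd, thD⟩

end Cfsg.Agent.Lib.BGCent
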