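import Mathlib
import Cfsg.Agent.S1404
import Cfsg.Agent.S1409
import Cfsg.Agent.S1414
import Cfsg.Agent.S1416
import Cfsg.Agent.S1417
import Cfsg.Agent.S1418
import Cfsg.Agent.S1419
import Cfsg.Agent.S1420
import Cfsg.Agent.S1422
import Cfsg.Agent.S1423
import Cfsg.Agent.S1424
import Cfsg.Agent.S1425
import Cfsg.Agent.S1426
import Cfsg.Agent.S1427
import Cfsg.Agent.S1429
import Cfsg.Agent.S1439
import Cfsg.Agent.Lib.BGFr
import Cfsg.Agent.Lib.BGFrob
import Cfsg.Agent.Lib.HallExist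
import Cfsg.Agent.Lib.Hall

/-!
# Section 14 of Bender-Glauberman: a toolkit (Hall subgroups, complements, prime order elements).
-/

set_option autoImplicit false
set_option linter.unusedSectionVars false
set_option linter.unusedVariables false
set_option linter.style.haveILetI false
set_option linter.unusedSimpArgs false

namespace Cfsg.Agent.Lib.BGK0

open Cfsg Subgroup Cfsg.Agent.Lib.CoprimeInv Cfsg.Agent.Lib.BGTrans Cfsg.Agent.Lib.BGM1 Cfsg.Agent.Lib.BGM2
open scoped commutatorElement Pointwise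

universe u

variable {G : Type u} [Group G] [Finite G]

/-! ### Hall subgroups -/

theorem coprime_of_primes {a b : ℕ} (h : ∀ p : ℕ, p.Prime → p ∣ a → p ∣ b → False) : a.Coprime b :=
  Nat.coprime_of_dvd fun k hk h1 h2 => h k hk h1 h2

/-- Hall's theorem, the existence part, above a given `π`-subgroup. -/
theorem exists_hall_ge (π : Set ℕ) {T Y : Subgroup G} (hs : Group.IsSolvable T) (hYT : Y ≤ T)
    (hY : ∀ r : ℕ, r.Prime → r ∣ Nat.card Y → r ∈ π) : ∃ F, IsPiHallOf π F T ∧ Y ≤ F := by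
  classical
  obtain ⟨H₀, h1, h2⟩ := Cfsg.Agent.Lib.HallExist.exists_hall (· ∈ π) ↥T
  have hcard : Nat.card T = Nat.card H₀ * H₀.index := (Subgroup.card_mul_index H₀).symm
  have hcop : (Nat.card H₀).Coprime H₀.index :=
    coprime_of_primes fun k hk hk1 hk2 => h2 k hk hk2 (h1 k hk hk1)
  have hDc : Nat.card (Y.subgroupOf T) = Nat.card Y := card_subgroupOf_of_le hYT
  have hcopD : (Nat.card (Y.subgroupOf T)).Coprime H₀.index := by
    rw [hDc]
    exact coprime_of_primes fun k hk hk1 hk2 => h2 k hk hk2 (hY k hk hk1)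
  obtain ⟨g, hg⟩ := (Cfsg.Agent.Lib.Hall.hall_main _ ↥T _ _ rfl hcard hcop).2 H₀ (Y.subgroupOf T) rfl hcopD
  set F : Subgroup G := (MulAut.conj g • H₀).map T.subtype with hF
  have hcF : Nat.card F = Nat.card H₀ := by
    rw [hF, Subgroup.card_map_of_injective T.subtype_injective]
    exact Nat.card_congr (Subgroup.equivSMul (MulAut.conj g) H₀).symm.toEquiv
  have hFT : F ≤ T := Subgroup.map_subtype_le _
  have hYF : Y ≤ F := by
    intro x hx
    have : (⟨x, hYT hx⟩ : T) ∈ Y.subgroupOf T := by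
      rw [Subgroup.mem_subgroupOf]; exact hx
    exact Subgroup.mem_map.mpr ⟨⟨x, hYT hx⟩, hg this, rfl⟩
  refine ⟨F, ⟨hFT, ?_, ?_⟩, hYF⟩
  · intro k hk hd
    rw [hcF] at hd
    exact h1 k hk hd
  · intro r hr hrπ hd
    have hc2 : Nat.card F * F.relIndex T = Nat.card T := by
      have := Subgroup.card_mul_index (F.subgroupOf T)
      rwa [card_subgroupOf_of_le hFT] at this
    rw [hcF, hcard] at hc2
    have hidx : F.relIndex T = H₀.index := Nat.eq_of_mul_eq_mul_left Nat.card_pos hc2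
    rw [hidx] at hd
    exact h2 r hr hd hrπ

/-- Hall's theorem, the conjugacy part. -/
theorem exists_conj_le_hall (π : Set ℕ) {T F Y : Subgroup G} (hs : Group.IsSolvable T)
    (hF : IsPiHallOf π F T) (hYT : Y ≤ T) (hY : ∀ r : ℕ, r.Prime → r ∣ Nat.card Y → r ∈ π) :
    ∃ t ∈ T, cj Y t ≤ F := by
  classical
  obtain ⟨hFT, hFp, hFi⟩ := hF
  have hcard : Nat.card T = Nat.card (F.subgroupOf T) * (F.subgroupOf T).index :=
    (Subgroup.card_mul_index _).symm
  have hidx : (F.subgroupOf T).index = F.relIndex T := rfl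
  have hcop : (Nat.card (F.subgroupOf T)).Coprime (F.subgroupOf T).index := by
    rw [card_subgroupOf_of_le hFT, hidx]
    exact coprime_of_primes fun k hk hk1 hk2 => hFi k hk (hFp k hk hk1) hk2
  have hcopD : (Nat.card (Y.subgroupOf T)).Coprime (F.subgroupOf T).index := by
    rw [card_subgroupOf_of_le hYT, hidx]
    exact coprime_of_primes fun k hk hk1 hk2 => hFi k hk (hY k hk hk1) hk2
  obtain ⟨g, hg⟩ := (Cfsg.Agent.Lib.Hall.hall_main _ ↥T _ _ rfl hcard hcop).2 (F.subgroupOf T)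
    (Y.subgroupOf T) rfl hcopD
  refine ⟨(g : G)⁻¹, T.inv_mem g.2, ?_⟩
  rintro _ ⟨y, hy, rfl⟩
  have h1 : (⟨y, hYT hy⟩ : T) ∈ Y.subgroupOf T := by
    rw [Subgroup.mem_subgroupOf]; exact hy
  have h2 := hg h1
  rw [Subgroup.mem_pointwise_smul_iff_inv_smul_mem] at h2
  rw [Subgroup.mem_subgroupOf] at h2
  simpa [MulAut.smul_def, MulAut.conj_inv_apply] using h2

/-- `p`-groups of prime-order generator. -/
theorem isPGroup_zpowers_order {p : ℕ} [hp : Fact p.Prime] {x : G} (hx : orderOf x = p) :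
    IsPGroup p (zpowers x) :=
  IsPGroup.of_card (n := 1) (by rw [Nat.card_zpowers, hx, pow_one])

theorem isPGroup_zpowers_pow {p k : ℕ} [hp : Fact p.Prime] {x : G} (hx : x ^ p ^ k = 1) :
    IsPGroup p (zpowers x) := by
  rw [IsPGroup.iff_card, Nat.card_zpowers]
  obtain ⟨j, -, hj⟩ := (Nat.dvd_prime_pow hp.out).mp (orderOf_dvd_of_pow_eq_one hx)
  exact ⟨j, hj⟩

/-- An element of order a product: prime-order power. -/
theorem exists_prime_pow {z : G} (hz : z ≠ 1) :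
    ∃ (p : ℕ) (n : ℕ), p.Prime ∧ p ∣ orderOf z ∧ orderOf (z ^ n) = p := by
  have h1 : orderOf z ≠ 1 := fun h => hz (orderOf_eq_one_iff.mp h)
  obtain ⟨p, hp, hpd⟩ := Nat.exists_prime_and_dvd h1
  refine ⟨p, orderOf z / p, hp, hpd, ?_⟩
  rw [orderOf_pow_orderOf_div (orderOf_pos z).ne' hpd]

theorem exists_prime_pow' {z : G} (hz : z ≠ 1) {p : ℕ} (hp : p.Prime) (hpd : p ∣ orderOf z) :
    orderOf (z ^ (orderOf z / p)) = p :=
  orderOf_pow_orderOf_div (orderOf_pos z).ne' hpd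

theorem exists_mem_prime_order {Y : Subgroup G} (hY : Y ≠ ⊥) :
    ∃ (y : G) (p : ℕ), y ∈ Y ∧ p.Prime ∧ orderOf y = p := by
  obtain ⟨z, hzY, hz1⟩ := Y.bot_or_exists_ne_one.resolve_left hY
  obtain ⟨p, n, hp, -, hn⟩ := exists_prime_pow (z := (z : G)) (by simpa using hz1)
  exact ⟨(z : G) ^ n, p, pow_mem hzY n, hp, hn⟩

section Compl

variable {M : Subgroup G}

/-- A Hall `σ'`-subgroup of `M` is a complement of `M_σ`. -/
theorem compl_of_hall (hG : IsMinSimpleOddOrder G) (hM : IsCoatom M) {F : Subgroup G}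
    (hF : IsPiHallOf {p | p.Prime ∧ p ∉ sigma M} F M) : IsComplIn F (sigmaCore M) M := by
  classical
  obtain ⟨hFM, hFp, hFi⟩ := hF
  have hFσ : ∀ p : ℕ, p.Prime → p ∣ Nat.card F → p ∉ sigma M := fun p hp hd => (hFp p hp hd).2
  have hS := (sigma_hall hG hM).1
  have hSM : sigmaCore M ≤ M := sigmaCore_le
  have hc1 : (Nat.card F).Coprime (Nat.card (sigmaCore M)) :=
    coprime_of_primes fun p hp h1 h2 => hFσ p hp h1 (primes_sigmaCore p hp h2)
  have hinf : F ⊓ sigmaCore M = ⊥ := inf_eq_bot_of_coprime' hc1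
  have hn : F ≤ normalizer (sigmaCore M : Set G) := hFM.trans le_normalizer_sigmaCore
  have hsup := card_sup_mul_card_inf hn
  rw [hinf, Subgroup.card_bot, mul_one] at hsup
  -- orders
  have h1 : Nat.card F * F.relIndex M = Nat.card M := by
    have := Subgroup.card_mul_index (F.subgroupOf M)
    rwa [card_subgroupOf_of_le hFM] at this
  have h2 : Nat.card (sigmaCore M) * (sigmaCore M).relIndex M = Nat.card M := by
    have := Subgroup.card_mul_index ((sigmaCore M).subgroupOf M)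
    rwa [card_subgroupOf_of_le hSM] at this
  have hd1 : Nat.card F ∣ (sigmaCore M).relIndex M := by
    apply hc1.dvd_of_dvd_mul_left
    rw [h2, ← h1]
    exact Dvd.intro _ rfl
  have hd2 : (sigmaCore M).relIndex M ∣ Nat.card F := by
    have hc2 : ((sigmaCore M).relIndex M).Coprime (F.relIndex M) :=
      coprime_of_primes fun p hp h3 h4 => by
        by_cases hpσ : p ∈ sigma M
        · exact hS.2.2 p hp hpσ h3
        · exact hFi p hp ⟨hp, hpσ⟩ h4
    apply hc2.dvd_of_dvd_mul_right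
    rw [h1, ← h2]
    exact Dvd.intro_left _ rfl
  have heq : Nat.card F = (sigmaCore M).relIndex M := Nat.dvd_antisymm hd1 hd2
  have hcM : Nat.card F * Nat.card (sigmaCore M) = Nat.card M := by
    rw [heq, mul_comm, h2]
  have hsupM : F ⊔ sigmaCore M = M := by
    apply Subgroup.eq_of_le_of_card_ge (sup_le hFM hSM)
    rw [hsup, hcM]
  refine ⟨hFM, hSM, hinf, ?_⟩
  intro m hm
  rw [← hsupM] at hm
  exact Cfsg.Agent.Lib.BGTau3.mul_of_mem_sup hn hm

/-- A complement containing a given `σ'`-subgroup. -/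
theorem exists_compl_ge (hG : IsMinSimpleOddOrder G) (hM : IsCoatom M) {Y : Subgroup G} (hYM : Y ≤ M)
    (hY : ∀ p : ℕ, p.Prime → p ∣ Nat.card Y → p ∉ sigma M) :
    ∃ E : Subgroup G, IsComplIn E (sigmaCore M) M ∧ Y ≤ E := by
  obtain ⟨F, hF, hYF⟩ := exists_hall_ge {p | p.Prime ∧ p ∉ sigma M} (IsMin.solvable hG hM.1) hYM
    (fun r hr hd => ⟨hr, hY r hr hd⟩)
  exact ⟨F, compl_of_hall hG hM hF, hYF⟩

/-- A complement inside a subgroup that covers `M / M_σ`, containing a given `σ'`-subgroup. -/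
theorem exists_compl_ge_in (hG : IsMinSimpleOddOrder G) (hM : IsCoatom M) {T Y : Subgroup G} (hTM : T ≤ M)
    (hT : ∀ m ∈ M, ∃ h ∈ sigmaCore M, ∃ t ∈ T, m = h * t) (hYT : Y ≤ T)
    (hY : ∀ p : ℕ, p.Prime → p ∣ Nat.card Y → p ∉ sigma M) :
    ∃ E : Subgroup G, IsComplIn E (sigmaCore M) M ∧ Y ≤ E ∧ E ≤ T := by
  classical
  have hTs : Group.IsSolvable T := solvable_of_le_coatom hG hM hTM
  obtain ⟨F, hF, hYF⟩ := exists_hall_ge {p | p.Prime ∧ p ∉ sigma M} hTs hYT
    (fun r hr hd => ⟨hr, hY r hr hd⟩)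
  obtain ⟨hFT, hFp, hFi⟩ := id hF
  refine ⟨F, compl_of_hall hG hM ⟨hFT.trans hTM, hFp, ?_⟩, hYF, hFT⟩
  intro p _ hp hd
  have hmul : F.relIndex T * T.relIndex M = F.relIndex M := Subgroup.relIndex_mul_relIndex F T M hFT hTM
  rw [← hmul] at hd
  rcases (Nat.Prime.dvd_mul hp.1).mp hd with h | h
  · exact hFi p hp.1 hp h
  · -- `T.relIndex M` divides `|M_σ|`
    have hn : T ≤ normalizer (sigmaCore M : Set G) := hTM.trans le_normalizer_sigmaCore
    have hsup := card_sup_mul_card_inf hn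
    have hsupM : T ⊔ sigmaCore M = M := by
      apply le_antisymm (sup_le hTM sigmaCore_le)
      intro m hm
      obtain ⟨a, ha, t, ht, rfl⟩ := hT m hm
      exact mul_mem (mem_sup_right ha) (mem_sup_left ht)
    rw [hsupM] at hsup
    have h1 : Nat.card T * T.relIndex M = Nat.card M := by
      have := Subgroup.card_mul_index (T.subgroupOf M)
      rwa [card_subgroupOf_of_le hTM] at this
    have h2 : T.relIndex M ∣ Nat.card (sigmaCore M) := by
      have h3 : Nat.card T * (T.relIndex M * Nat.card (T ⊓ sigmaCore M : Subgroup G)) =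
          Nat.card T * Nat.card (sigmaCore M) := by
        rw [← hsup, ← h1]; ring
      exact Dvd.intro _ (Nat.eq_of_mul_eq_mul_left Nat.card_pos h3)
    exact hp.2 (primes_sigmaCore p hp.1 (h.trans h2))

/-- Frattini argument in `M`: a Sylow subgroup of `M_σ`. -/
theorem frattini_sigma {q : ℕ} [hq : Fact q.Prime] {S : Subgroup G} (hS : IsSylowIn q S (sigmaCore M))
    {m : G} (hm : m ∈ M) : ∃ h ∈ sigmaCore M, ∃ t ∈ M ⊓ normalizer (S : Set G), m = h * t := by
  have h1 : IsSylowIn q (cj S m) (sigmaCore M) := hS.cj_of_normalizer (le_normalizer_sigmaCore hm)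
  obtain ⟨h, hh, e⟩ := hS.exists_conj h1
  refine ⟨h, hh, h⁻¹ * m, ⟨M.mul_mem (M.inv_mem (sigmaCore_le hh)) hm, ?_⟩, by group⟩
  apply mem_normalizer_of_cj_eq
  have h2 : cj S (h⁻¹ * m) = cj (cj S m) h⁻¹ := by rw [cj_cj]
  rw [h2, e, cj_cj_inv]

end Compl

/-! ### Elements of prime order in complements -/

/-- The statement S1428, as a hypothesis. -/
def F2Hyp (G : Type u) [Group G] : Prop :=
  ∀ (M : Subgroup G) (_ : IsCoatom M) (E : Subgroup G) (_ : IsComplIn E (sigmaCore M) M) (p : ℕ)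
    (_ : p ∈ tau1 M) (P : Subgroup G) (_ : P ≤ E) (_ : Nat.card P = p) (R : Subgroup G)
    (_ : R ≤ E ⊓ centralizer (P : Set G)) (_ : (Nat.card R).Prime),
    sigmaCore M ⊓ centralizer (P : Set G) ≤ sigmaCore M ⊓ centralizer (R : Set G)

/-- The context. -/
structure Cx (G : Type u) [Group G] : Prop where
  hG : IsMinSimpleOddOrder G
  F2 : F2Hyp G

section Kit

variable {M E : Subgroup G}

theorem mem_cz {x y : G} : y ∈ centralizer ({x} : Set G) ↔ x * y = y * x := by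
  rw [Subgroup.mem_centralizer_iff]
  constructor
  · intro h
    exact h x (Set.mem_singleton x)
  · intro h a ha
    rw [Set.mem_singleton_iff.mp ha]
    exact h

theorem cz_zpowers (x : G) : centralizer ((zpowers x : Subgroup G) : Set G) = centralizer ({x} : Set G) :=
  Cfsg.Agent.Lib.BGTau1.centralizer_zpowers' x

theorem orderOf_conj_eq (s w : G) : orderOf (s * w * s⁻¹) = orderOf w := by
  have := MulEquiv.orderOf_eq (MulAut.conj s) w
  simpa [MulAut.conj_apply] using this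

/-- Commuting with a prime-order element. -/
theorem comm_symm {x y : G} (h : x * y = y * x) : y * x = x * y := h.symm

theorem comm_pow_of_comm {x y : G} (h : x * y = y * x) (n : ℕ) : x ^ n * y = y * x ^ n :=
  (Commute.pow_left h n)

theorem comm_of_pow {x y : G} (h : x * y = y * x) {n : ℕ} {z : G} (hz : z = x ^ n) : z * y = y * z := by
  rw [hz]; exact comm_pow_of_comm h n

theorem mem_sigmaCore_of_pow (hG : IsMinSimpleOddOrder G) (hM : IsCoatom M) {r k : ℕ} [hr' : Fact r.Prime]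
    (hr : r ∈ sigma M) {x : G} (hxM : x ∈ M) (hx : x ^ r ^ k = 1) : x ∈ sigmaCore M :=
  Cfsg.Agent.Lib.BGTau7.le_sigmaCore_of_pgroup hG hM hr (zpowers_le.mpr hxM) (isPGroup_zpowers_pow hx)
    (mem_zpowers x)

theorem sigma_of_mem_sigmaCore {y : G} (hy : y ∈ sigmaCore M) {r : ℕ} (hr : r.Prime) (hd : r ∣ orderOf y) :
    r ∈ sigma M :=
  primes_sigmaCore r hr (hd.trans (Subgroup.orderOf_dvd_natCard _ hy))

theorem not_sigma_of_mem_compl (hG : IsMinSimpleOddOrder G) (hM : IsCoatom M)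
    (hE : IsComplIn E (sigmaCore M) M) {x : G} (hx : x ∈ E) {p : ℕ} (hp : p.Prime) (hd : p ∣ orderOf x) :
    p ∉ sigma M :=
  Cfsg.Agent.Lib.BGTau7.not_sigma_of_compl hG hM hE hp (hd.trans (Subgroup.orderOf_dvd_natCard _ hx))

theorem dvd_card_of_mem {Y : Subgroup G} {x : G} (hx : x ∈ Y) {p : ℕ} (hd : p ∣ orderOf x) :
    p ∣ Nat.card Y := hd.trans (Subgroup.orderOf_dvd_natCard _ hx)

theorem prime_ne_two (hG : IsMinSimpleOddOrder G) {x : G} {p : ℕ} (hp : p.Prime) (hd : p ∣ orderOf x) :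
    p ≠ 2 :=
  Cfsg.Agent.Lib.BGUniq2.prime_ne_two_of_dvd hG (hd.trans (orderOf_dvd_natCard x))

/-- A `p`-subgroup of a subgroup of `p`-rank one is cyclic. -/
theorem isCyclic_of_rank_one (hG : IsMinSimpleOddOrder G) {S L : Subgroup G} {p : ℕ} [hp : Fact p.Prime]
    (hSL : S ≤ L) (hS : IsPGroup p S) (hr : PRankLE p 1 L) : IsCyclic S := by
  by_cases h1 : S = ⊥
  · rw [h1]; infer_instance
  · have hd : p ∣ Nat.card G :=
      (Cfsg.Agent.Lib.BGUniq2.dvd_card_of_isPGroup hS h1).trans (Subgroup.card_subgroup_dvd_card _)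
    exact Cfsg.Agent.Lib.BGSigma4.isCyclic_of_prank_one (Cfsg.Agent.Lib.BGUniq2.prime_ne_two_of_dvd hG hd) hS
      (Cfsg.Agent.Lib.BGUniq3.prankLE_of_le hSL hr)

/-- A Sylow subgroup of a complement is a Sylow subgroup of `M`. -/
theorem isSylowIn_of_compl (hG : IsMinSimpleOddOrder G) (hM : IsCoatom M)
    (hE : IsComplIn E (sigmaCore M) M) {p : ℕ} [hp : Fact p.Prime] (hpσ : p ∉ sigma M) {S : Subgroup G}
    (hS : IsSylowIn p S E) : IsSylowIn p S M := by
  refine isSylowIn_of_hall hS hE.1 ?_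
  have h1 := card_compl hE
  have h2 : E.relIndex M * Nat.card E = Nat.card M := by
    have h3 := (E.subgroupOf M).index_mul_card
    rwa [card_subgroupOf_of_le hE.1] at h3
  have h4 : E.relIndex M = Nat.card (sigmaCore M) := by
    apply Nat.eq_of_mul_eq_mul_right (Nat.card_pos (α := E))
    rw [h2, ← h1, mul_comm]
  rw [h4]
  exact not_dvd_sigmaCore hp.out hpσ

/-- S1427, for elements. -/
theorem F1el (hG : IsMinSimpleOddOrder G) (hM : IsCoatom M) (hE : IsComplIn E (sigmaCore M) M) {p : ℕ}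
    [hp : Fact p.Prime] {S : Subgroup G} (hS : IsSylowIn p S E) (hc : IsCyclic S) {x : G} (hx : x ∈ S)
    (hx1 : x ≠ 1) {y : G} (hy : y ∈ sigmaCore M) (hxy : x * y = y * x) {z : G} (hz : z ∈ S) :
    z * y = y * z := by
  let P : Sylow p E := hS.toSylow
  have hmap : (P : Subgroup E).map E.subtype = S := Subgroup.map_subgroupOf_eq_of_le hS.1
  have hP1 : (P : Subgroup E) ≠ ⊥ := by
    intro h
    have h1 : (P : Subgroup E).map E.subtype = ⊥ := by rw [h, Subgroup.map_bot]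
    rw [hmap] at h1
    rw [h1] at hx
    exact hx1 hx
  have hPc : IsCyclic (P : Subgroup E) :=
    (Subgroup.subgroupOfEquivOfLe hS.1).symm.isCyclic.mp hc
  have h := Cfsg.Agent.S1427.result hG M hM E hE p P hP1 hPc x (by rw [hmap]; exact hx) hx1
  rw [hmap] at h
  have h1 : y ∈ sigmaCore M ⊓ centralizer ({x} : Set G) :=
    ⟨hy, mem_cz.mpr hxy⟩
  rw [h] at h1
  exact Subgroup.mem_centralizer_iff.mp h1.2 z hz

/-- S1428, for elements. -/
theorem F2el (C : Cx G) (hM : IsCoatom M) (hE : IsComplIn E (sigmaCore M) M) {p : ℕ} (hp : p ∈ tau1 M)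
    {x : G} (hxE : x ∈ E) (hxo : orderOf x = p) {z : G} (hzE : z ∈ E) (hz : (orderOf z).Prime)
    (hxz : x * z = z * x) {y : G} (hy : y ∈ sigmaCore M) (hxy : x * y = y * x) : z * y = y * z := by
  have h1 := C.F2 M hM E hE p hp (zpowers x) (zpowers_le.mpr hxE) (by rw [Nat.card_zpowers, hxo]) (zpowers z)
    (le_inf (zpowers_le.mpr hzE) (by
      rw [zpowers_le, cz_zpowers]
      exact mem_cz.mpr hxz)) (by rw [Nat.card_zpowers]; exact hz)
    ⟨hy, by
      rw [SetLike.mem_coe, cz_zpowers]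
      exact mem_cz.mpr hxy⟩
  have h2 := h1.2
  rw [SetLike.mem_coe, cz_zpowers] at h2
  exact mem_cz.mp h2

/-- Elements of `τ₃`-primes of a complement lie in its derived subgroup. -/
theorem mem_comm_of_tau3 (hG : IsMinSimpleOddOrder G) (hM : IsCoatom M) (hE : IsComplIn E (sigmaCore M) M)
    {p : ℕ} [Fact p.Prime] (hp : p ∈ tau3 M) {x : G} (hx : x ∈ E) {k : ℕ} (hxk : x ^ p ^ k = 1) :
    x ∈ ⁅E, E⁆ :=
  tau3_le_commutator hG hM hE hp (zpowers_le.mpr hx) (isPGroup_zpowers_pow hxk) (mem_zpowers x)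

/-- A subgroup of `τ₃`-prime order of a complement is normal in it. -/
theorem tau3_normal (hG : IsMinSimpleOddOrder G) (hM : IsCoatom M) (hE : IsComplIn E (sigmaCore M) M)
    {p : ℕ} [hf : Fact p.Prime] (hp : p ∈ tau3 M) {x : G} (hx : x ∈ E) (hxo : orderOf x = p) :
    E ≤ normalizer ((zpowers x : Subgroup G) : Set G) := by
  have hNnil := nilpotent_commutator_compl hG hM hE
  have hxp : x ^ p = 1 := by rw [← hxo]; exact pow_orderOf_eq_one x
  have hx1 : x ^ p ^ 1 = 1 := by rwa [pow_one]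
  have hxN : x ∈ ⁅E, E⁆ := mem_comm_of_tau3 hG hM hE hp hx hx1
  obtain ⟨T, hT, hxT⟩ := exists_isSylowIn_ge p (zpowers_le.mpr hxN) (isPGroup_zpowers_pow hx1)
  have hcT : IsCyclic T := isCyclic_of_rank_one hG
    (hT.1.trans ((Subgroup.commutator_le_self E).trans hE.1)) hT.2.1 hp.2.2.2
  intro e he
  apply Cfsg.Agent.Lib.BGTau4.mem_normalizer_of_forall
  intro y hy
  obtain ⟨n, rfl⟩ := Cfsg.Agent.Lib.BGTau3.exists_nat_of_mem_zpowers hy
  have h0 : e * x ^ n * e⁻¹ = (e * x * e⁻¹) ^ n := by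
    rw [conj_pow]
  rw [h0]
  apply pow_mem
  have hx' : e * x * e⁻¹ ∈ E := E.mul_mem (E.mul_mem he hx) (E.inv_mem he)
  have hx'p : (e * x * e⁻¹) ^ p = 1 := by rw [conj_pow, hxp]; group
  have hx'1 : (e * x * e⁻¹) ^ p ^ 1 = 1 := by rwa [pow_one]
  have hx'N := mem_comm_of_tau3 hG hM hE hp hx' hx'1
  have h2 := sylow_of_nilpotent_le hNnil hT (zpowers_le.mpr hx'N) (isPGroup_zpowers_pow hx'1)
    (mem_zpowers _)
  exact Cfsg.Agent.Lib.BGTau1.mem_zpowers_of_cyclic hcT hf.out (hxT (mem_zpowers x)) h2 hxo hx'p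

/-- A `τ₃`-element does not centralize `M_σ`. -/
theorem tau3_not_cent (hG : IsMinSimpleOddOrder G) (hM : IsCoatom M) (hE : IsComplIn E (sigmaCore M) M)
    {p : ℕ} [hf : Fact p.Prime] (hp : p ∈ tau3 M) {x : G} (hx : x ∈ E) (hxo : orderOf x = p) :
    ¬ sigmaCore M ≤ centralizer ({x} : Set G) := by
  intro hc
  have hn := tau3_normal hG hM hE hp hx hxo
  have hnM : M ≤ normalizer ((zpowers x : Subgroup G) : Set G) := by
    intro m hm
    obtain ⟨e, he, h, hh, rfl⟩ := hE.2.2.2 m hm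
    refine mul_mem (hn he) ?_
    apply Cfsg.Agent.Lib.BGTau5.cent_le_norm
    exact hc hh
  have h1 := Cfsg.Agent.Lib.BGFit2.le_pCoreOf (zpowers_le.mpr (hE.1 hx)) hnM (isPGroup_zpowers_order hxo)
  rw [Cfsg.Agent.Lib.BGTau7.pCoreOf_eq_bot_of_rank_one hG hM hp.2.1 hp.2.2.2] at h1
  have h2 : x = 1 := by
    have := h1 (mem_zpowers x)
    simpa using this
  rw [h2, orderOf_one] at hxo
  exact hf.out.one_lt.ne hxo

/-- Elements normalizing each other's subgroups with trivial intersection commute. -/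
theorem comm_of_normalize {A B : Subgroup G} (hAB : A ⊓ B = ⊥) {a b : G} (ha : a ∈ A) (hb : b ∈ B)
    (h1 : a ∈ normalizer (B : Set G)) (h2 : b ∈ normalizer (A : Set G)) : a * b = b * a := by
  have h3 : a * b * a⁻¹ * b⁻¹ ∈ A ⊓ B := by
    constructor
    · have : b * a⁻¹ * b⁻¹ ∈ A := (mem_normalizer_iff.mp h2 _).mp (A.inv_mem ha)
      have e : a * b * a⁻¹ * b⁻¹ = a * (b * a⁻¹ * b⁻¹) := by group
      rw [e]
      exact A.mul_mem ha this
    · have : a * b * a⁻¹ ∈ B := (mem_normalizer_iff.mp h1 _).mp hb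
      exact B.mul_mem this (B.inv_mem hb)
  rw [hAB, Subgroup.mem_bot] at h3
  have h4 : a * b * a⁻¹ = b := by
    rw [mul_inv_eq_one] at h3
    exact h3
  rw [mul_inv_eq_iff_eq_mul] at h4
  exact h4

/-- Lemma N. An `r'`-element of `M'` normalizing an `r`-subgroup of `M` centralizes it, for `r ∉ β(M)`. -/
theorem cent_of_comm (hG : IsMinSimpleOddOrder G) (hM : IsCoatom M) {r : ℕ} [hr : Fact r.Prime]
    (hrβ : r ∉ beta M) {S : Subgroup G} (hSM : S ≤ M) (hSr : IsPGroup r S) {w : G} (hw : w ∈ ⁅M, M⁆)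
    (hwc : (orderOf w).Coprime r) (hwn : w ∈ normalizer (S : Set G)) :
    w ∈ centralizer (S : Set G) := by
  classical
  rw [Subgroup.mem_centralizer_iff]
  intro s hs
  by_cases hS1 : S = ⊥
  · rw [hS1] at hs
    rw [Subgroup.mem_bot.mp hs]
    group
  have hrd : r ∣ Nat.card M :=
    (Cfsg.Agent.Lib.BGUniq2.dvd_card_of_isPGroup hSr hS1).trans (Subgroup.card_dvd_of_le hSM)
  obtain ⟨P, N, hNn, hNc⟩ := Cfsg.Agent.Lib.BGM3.npc_commutator hG hM r hr.out hrβ hrd
  -- the `r'`-elements of `M'` lie in `N`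
  have hidx : N.index = Nat.card (P : Subgroup ↥⁅M, M⁆) := by
    have h1 := hNc.card_mul
    have h2 := N.card_mul_index
    exact Nat.eq_of_mul_eq_mul_left (Nat.card_pos (α := N)) (by rw [h2]; exact h1.symm)
  obtain ⟨k, hk⟩ := P.isPGroup'.exists_card_eq
  have hN : ∀ x (hx : x ∈ (⁅M, M⁆ : Subgroup G)), (orderOf x).Coprime r → (⟨x, hx⟩ : ↥⁅M, M⁆) ∈ N := by
    intro x hx hc
    have hc' : Nat.Coprime (orderOf x) N.index := by
      rw [hidx, hk]
      exact hc.pow_right k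
    apply Cfsg.Agent.Lib.BGTau7.mem_of_coprime_index hc'
    ext
    simp [pow_orderOf_eq_one]
  have hsM := hSM hs
  have hconj : s * w⁻¹ * s⁻¹ ∈ (⁅M, M⁆ : Subgroup G) :=
    (mem_normalizer_iff.mp (le_normalizer_self_commutator M hsM) _).mp ((⁅M, M⁆ : Subgroup G).inv_mem hw)
  have hcop2 : (orderOf (s * w⁻¹ * s⁻¹)).Coprime r := by
    rwa [orderOf_conj_eq, orderOf_inv]
  have h1 := hN w hw hwc
  have h2 := hN _ hconj hcop2
  have h3 : (⟨w, hw⟩ : ↥⁅M, M⁆) * ⟨_, hconj⟩ ∈ N := N.mul_mem h1 h2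
  have hcardN : (P : Subgroup ↥⁅M, M⁆).index = Nat.card N := by
    have h4 := hNc.card_mul
    have h5 := (P : Subgroup ↥⁅M, M⁆).card_mul_index
    exact Nat.eq_of_mul_eq_mul_left (Nat.card_pos (α := (P : Subgroup ↥⁅M, M⁆))) (by rw [h5, ← h4, mul_comm])
  have hNr : ¬ r ∣ Nat.card N := by
    rw [← hcardN]
    exact P.not_dvd_index
  set c : G := w * (s * w⁻¹ * s⁻¹) with hc
  have hcS : c ∈ S := by
    have e : c = (w * s * w⁻¹) * s⁻¹ := by rw [hc]; group
    rw [e]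
    exact S.mul_mem ((mem_normalizer_iff.mp hwn _).mp hs) (S.inv_mem hs)
  have hc1 : c = 1 := by
    obtain ⟨j, hj⟩ := hSr ⟨c, hcS⟩
    have hj' : c ^ r ^ j = 1 := by simpa [Subtype.ext_iff] using hj
    have h6 : orderOf (⟨(⟨w, hw⟩ : ↥⁅M, M⁆) * ⟨_, hconj⟩, h3⟩ : N) ∣ Nat.card N := orderOf_dvd_natCard _
    have h7 : orderOf (⟨(⟨w, hw⟩ : ↥⁅M, M⁆) * ⟨_, hconj⟩, h3⟩ : N) = orderOf c := by
      rw [Subgroup.orderOf_mk]
      have : (⟨w, hw⟩ : ↥⁅M, M⁆) * ⟨_, hconj⟩ = ⟨c, ⁅M, M⁆.mul_mem hw hconj⟩ := rfl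
      rw [this, Subgroup.orderOf_mk]
    rw [h7] at h6
    have h8 : orderOf c ∣ r ^ j := orderOf_dvd_of_pow_eq_one hj'
    have h9 : (Nat.card N).Coprime (r ^ j) :=
      Nat.Coprime.pow_right j (((Nat.Prime.coprime_iff_not_dvd hr.out).mpr hNr).symm)
    have h10 : orderOf c = 1 := Nat.eq_one_of_dvd_coprimes h9 h6 h8
    exact orderOf_eq_one_iff.mp h10
  have e : c = w * s * w⁻¹ * s⁻¹ := by rw [hc]; group
  rw [e] at hc1
  have h11 : w * s * w⁻¹ = s := by
    rwa [mul_inv_eq_one] at hc1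
  rw [mul_inv_eq_iff_eq_mul] at h11
  exact h11.symm

/-- A subgroup containing a Sylow subgroup of `H` for every prime contains `H`. -/
theorem le_of_sylow_le {H K : Subgroup G} (h : ∀ (ℓ : ℕ) [Fact ℓ.Prime], ∃ T, IsSylowIn ℓ T H ∧ T ≤ K) :
    H ≤ K := by
  have h1 : K.subgroupOf H = ⊤ := by
    apply Cfsg.Agent.Lib.PCore.eq_top_of_forall_sylow_le
    intro q _
    obtain ⟨T, hT, hTK⟩ := h q
    refine ⟨hT.toSylow, ?_⟩
    intro u hu
    exact hTK hu
  intro y hy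
  have : (⟨y, hy⟩ : H) ∈ K.subgroupOf H := by rw [h1]; trivial
  exact this

theorem tau_cases (hG : IsMinSimpleOddOrder G) (hM : IsCoatom M) {p : ℕ} (hp : p.Prime) (hσ : p ∉ sigma M)
    (hd : p ∣ Nat.card M) : p ∈ tau1 M ∨ p ∈ tau2 M ∨ p ∈ tau3 M := by
  by_cases h1 : PRankLE p 1 M
  · by_cases h2 : p ∣ Nat.card ↥⁅M, M⁆
    · exact Or.inr (Or.inr ⟨hp, hσ, h2, h1⟩)
    · exact Or.inl ⟨hp, hσ, hd, h2, h1⟩
  · exact Or.inr (Or.inl ⟨hp, hσ, Cfsg.Agent.Lib.BGTau7.rank2_of_not_sigma hG hM hp hσ, h1⟩)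

theorem prime_eq_of_dvd_card_zpowers {x : G} {q p : ℕ} (hq : q.Prime) (hx : orderOf x = q) (hp : p.Prime)
    (hd : p ∣ Nat.card (zpowers x)) : p = q := by
  rw [Nat.card_zpowers, hx] at hd
  exact (Nat.prime_dvd_prime_iff_eq hp hq).mp hd

theorem exists_mem_order_p {T : Subgroup G} {p : ℕ} [hp : Fact p.Prime] (hT : IsPGroup p T) (hT1 : T ≠ ⊥) :
    ∃ x ∈ T, orderOf x = p := by
  obtain ⟨z, hzT, hz1⟩ := T.bot_or_exists_ne_one.resolve_left hT1
  have hz1' : (z : G) ≠ 1 := by simpa using hz1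
  obtain ⟨k, hk⟩ := hT ⟨z, hzT⟩
  have hk' : (z : G) ^ p ^ k = 1 := by simpa [Subtype.ext_iff] using hk
  obtain ⟨j, -, hj⟩ := (Nat.dvd_prime_pow hp.out).mp (orderOf_dvd_of_pow_eq_one hk')
  have hj0 : j ≠ 0 := by
    rintro rfl
    rw [pow_zero] at hj
    exact hz1' (orderOf_eq_one_iff.mp hj)
  have hd : p ∣ orderOf (z : G) := by
    rw [hj]
    exact dvd_pow_self p hj0
  exact ⟨(z : G) ^ (orderOf (z : G) / p), pow_mem hzT _, exists_prime_pow' hz1' hp.out hd⟩

theorem comm_of_cyclic {F : Subgroup G} (hc : IsCyclic F) {a b : G} (ha : a ∈ F) (hb : b ∈ F) :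
    a * b = b * a := by
  have := (IsCyclic.commGroup (α := F)).mul_comm ⟨a, ha⟩ ⟨b, hb⟩
  exact congrArg Subtype.val this

/-- `p`-power order elements of a `p`-group. -/
theorem coprime_orderOf_of_pgroup {T : Subgroup G} {p r : ℕ} [hp : Fact p.Prime] (hT : IsPGroup p T) {w : G}
    (hw : w ∈ T) (hr : r.Prime) (hpr : p ≠ r) : (orderOf w).Coprime r := by
  obtain ⟨k, hk⟩ := hT ⟨w, hw⟩
  have hk' : w ^ p ^ k = 1 := by simpa [Subtype.ext_iff] using hk
  exact Nat.Coprime.coprime_dvd_left (orderOf_dvd_of_pow_eq_one hk')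
    (Nat.Coprime.pow_left k ((Nat.coprime_primes hp.out hr).mpr hpr))

/-- A complement contains elementary abelian subgroups of order `p²` for `p ∈ τ₂`. -/
theorem exists_ea_in_compl (hG : IsMinSimpleOddOrder G) (hM : IsCoatom M) (hE : IsComplIn E (sigmaCore M) M)
    {p : ℕ} [hf : Fact p.Prime] (hp : p ∈ tau2 M) :
    ∃ A : Subgroup G, A ≤ E ∧ IsElementaryAbelian p A ∧ Nat.card A = p ^ 2 := by
  obtain ⟨T, hT⟩ := exists_isSylowIn p E
  have hTM := isSylowIn_of_compl hG hM hE hp.2.1 hT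
  obtain ⟨A, hAT, hAe, hAc⟩ := Cfsg.Agent.S1429.exists_ea hp.2.2.1 hp.2.2.2 hTM.toSylow
  have h1 : ((hTM.toSylow : Sylow p M) : Subgroup M).map M.subtype = T :=
    Subgroup.map_subgroupOf_eq_of_le hTM.1
  rw [h1] at hAT
  exact ⟨A, hAT.trans hT.1, hAe, hAc⟩

/-- `C_G(x) ≤ M`, and `M` is the only maximal subgroup containing `C_G(x)`. -/
def CU (M : Subgroup G) (y : G) : Prop :=
  centralizer ({y} : Set G) ≤ M ∧ ∀ L : Subgroup G, IsCoatom L → centralizer ({y} : Set G) ≤ L → L = M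

/-- Maximal subgroups with `r` in `σ` are conjugate to `M`. -/
def GammaP (M : Subgroup G) (r : ℕ) : Prop :=
  ∀ L : Subgroup G, IsCoatom L → r ∈ sigma L → ∃ g : G, L = cj M g

theorem gammaP_of_unique (hG : IsMinSimpleOddOrder G) (hM : IsCoatom M) {r : ℕ} [hr : Fact r.Prime]
    (hrσ : r ∈ sigma M) {S : Subgroup G} (hS : IsSylowIn r S M) (hU : InUniqueMaximal S) : GammaP M r := by
  intro L hL hrL
  obtain ⟨T, hT⟩ := exists_isSylowIn r L
  have h1 := isSylowIn_top_of_sigma hrL hT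
  have h2 := isSylowIn_top_of_sigma hrσ hS
  obtain ⟨g, -, hg⟩ := h1.exists_conj h2
  have h3 : S ≤ cj L g := by
    rw [hg]
    exact cj_mono hT.1 g
  have h4 : cj L g = M := Cfsg.Agent.Lib.BGTau5.uniq_eq hU (Cfsg.Agent.Lib.BGUniq3.isCoatom_cj hL g) hM h3 hS.1
  refine ⟨g⁻¹, ?_⟩
  rw [← h4, cj_cj]
  simp [cj_one]

/-- S1423, for elements. -/
theorem s1423el (hG : IsMinSimpleOddOrder G) (hM : IsCoatom M) {r : ℕ} [hr : Fact r.Prime] (hrσ : r ∈ sigma M)
    {y : G} (hyM : y ∈ M) (hyo : orderOf y = r) (h : r ∈ beta M ∨ y ∈ ⁅sigmaCore M, sigmaCore M⁆) :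
    CU M y ∧ GammaP M r := by
  obtain ⟨P⟩ : Nonempty (Sylow r ↥(sigmaCore M)) := inferInstance
  have h' : r ∈ beta M ∨ zpowers y ≤ ⁅sigmaCore M, sigmaCore M⁆ := h.imp id zpowers_le.mpr
  obtain ⟨h1, h2, h3⟩ := Cfsg.Agent.S1423.result hG M hM r hrσ (zpowers y) (zpowers_le.mpr hyM)
    (by rw [Nat.card_zpowers, hyo]) P h'
  rw [cz_zpowers] at h1
  refine ⟨h1, ?_⟩
  have hS : IsSylowIn r ((P : Subgroup ↥(sigmaCore M)).map (sigmaCore M).subtype) M :=
    Cfsg.Agent.Lib.BGTau3.isSylowIn_of_sigmaCore hG hM hrσ (isSylowIn_map P)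
  exact gammaP_of_unique hG hM hrσ hS h2

end Kit

end Cfsg.Agent.Lib.BGK0
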