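import Mathlib
import Cfsg.Agent.Lib.BGK0

/-!
# Section 14 of Bender-Glauberman: Frobenius actions on `M_σ`.
-/

set_option autoImplicit false
set_option linter.unusedSectionVars false
set_option linter.unusedVariables false
set_option linter.style.haveILetI false
set_option linter.unusedSimpArgs false

namespace Cfsg.Agent.Lib.BGK1

open Cfsg Subgroup Cfsg.Agent.Lib.CoprimeInv Cfsg.Agent.Lib.BGTrans Cfsg.Agent.Lib.BGM1 Cfsg.Agent.Lib.BGM2
  Cfsg.Agent.Lib.BGK0
open scoped commutatorElement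

universe u

section Ring

variable {Γ : Type*} [Group Γ]

/-- The Frobenius identity in a ring: variant of `BGFrob.frob_ring` where the image of the norm of `y`
is only assumed to be fixed by `A`. -/
theorem frob_ring' {R : Type*} [Ring R] (ρ : Γ →* R) (A : Subgroup Γ) [Finite A] (y : Γ) {s : ℕ} (hs : 0 < s)
    (hyA : ∀ a ∈ A, y * a * y⁻¹ ∈ A)
    (hfp : ∀ i, 0 < i → i < s → ∀ a ∈ A, y ^ i * a * (y ^ i)⁻¹ = a → a = 1)
    (hN : ∀ a ∈ A, ρ a * ∑ i ∈ Finset.range s, ρ y ^ i = ∑ i ∈ Finset.range s, ρ y ^ i)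
    (hA : IsUnit ((Nat.card A : ℕ) : R)) : ∀ a ∈ A, ρ a = 1 := by
  classical
  haveI := Fintype.ofFinite A
  have hconj := Cfsg.Agent.Lib.BGFrob.conj_pow_mem_of A y hyA
  have hθ : ∀ i, 0 < i → i < s →
      ∑ a : A, ρ (a : Γ) * ρ y ^ i * ρ ((a : Γ)⁻¹) = (∑ a : A, ρ (a : Γ)) * ρ y ^ i := by
    intro i hi0 his
    let θ : A → A := fun a => ⟨a * (y ^ i * (a : Γ)⁻¹ * (y ^ i)⁻¹), A.mul_mem a.2 (hconj i _ (A.inv_mem a.2))⟩
    have hinj : Function.Injective θ := by
      intro a b hab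
      have h1 : (a : Γ) * (y ^ i * (a : Γ)⁻¹ * (y ^ i)⁻¹) = b * (y ^ i * (b : Γ)⁻¹ * (y ^ i)⁻¹) := congrArg Subtype.val hab
      have h2 : y ^ i * ((b : Γ)⁻¹ * a) * (y ^ i)⁻¹ = (b : Γ)⁻¹ * a := by
        have h3 : (b : Γ)⁻¹ * a = (y ^ i * (b : Γ)⁻¹ * (y ^ i)⁻¹) * (y ^ i * (a : Γ)⁻¹ * (y ^ i)⁻¹)⁻¹ := by
          rw [eq_mul_inv_iff_mul_eq, mul_assoc, h1]
          group
        have h4 : (y ^ i * (b : Γ)⁻¹ * (y ^ i)⁻¹) * (y ^ i * (a : Γ)⁻¹ * (y ^ i)⁻¹)⁻¹ = y ^ i * ((b : Γ)⁻¹ * a) * (y ^ i)⁻¹ := by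
          group
        exact h4.symm.trans h3.symm
      have h3 := hfp i hi0 his _ (A.mul_mem (A.inv_mem b.2) a.2) h2
      apply Subtype.ext
      rw [inv_mul_eq_one] at h3
      exact h3.symm
    have hbij := Finite.injective_iff_bijective.mp hinj
    calc ∑ a : A, ρ (a : Γ) * ρ y ^ i * ρ ((a : Γ)⁻¹) = ∑ a : A, ρ (θ a : Γ) * ρ y ^ i := by
          apply Finset.sum_congr rfl
          intro a _
          rw [← map_pow, ← map_mul, ← map_mul, ← map_mul]
          congr 1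
          show (a : Γ) * y ^ i * (a : Γ)⁻¹ = (a : Γ) * (y ^ i * (a : Γ)⁻¹ * (y ^ i)⁻¹) * y ^ i
          group
      _ = (∑ a : A, ρ (θ a : Γ)) * ρ y ^ i := by rw [Finset.sum_mul]
      _ = (∑ a : A, ρ (a : Γ)) * ρ y ^ i := by rw [hbij.sum_comp (fun a : A => ρ (a : Γ))]
  set Ny : R := ∑ i ∈ Finset.range s, ρ y ^ i with hNy
  set NA : R := ∑ a : A, ρ (a : Γ) with hNA
  -- `y` permutes `A`
  have hcomm1 : ρ y * NA = NA * ρ y := by
    let τ : A → A := fun a => ⟨y * a * y⁻¹, hyA a a.2⟩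
    have hinj : Function.Injective τ := by
      intro a b hab
      have h1 : y * (a : Γ) * y⁻¹ = y * b * y⁻¹ := congrArg Subtype.val hab
      apply Subtype.ext
      simpa using h1
    have hbij := Finite.injective_iff_bijective.mp hinj
    calc ρ y * NA = ∑ a : A, ρ y * ρ (a : Γ) := by rw [hNA, Finset.mul_sum]
      _ = ∑ a : A, ρ (τ a : Γ) * ρ y := by
          apply Finset.sum_congr rfl
          intro a _
          rw [← map_mul, ← map_mul]
          congr 1
          show y * (a : Γ) = y * a * y⁻¹ * y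
          group
      _ = (∑ a : A, ρ (τ a : Γ)) * ρ y := by rw [Finset.sum_mul]
      _ = NA * ρ y := by rw [hbij.sum_comp (fun a : A => ρ (a : Γ))]
  have hcomm2 : ∀ i : ℕ, NA * ρ y ^ i = ρ y ^ i * NA := by
    intro i
    have : Commute (ρ y) NA := hcomm1
    exact (this.pow_left i).eq.symm
  have hcomm3 : NA * Ny = Ny * NA := by
    rw [hNy, Finset.mul_sum, Finset.sum_mul]
    exact Finset.sum_congr rfl (fun i _ => hcomm2 i)
  -- the left-hand side
  have hL : ∑ a : A, ρ (a : Γ) * Ny * ρ ((a : Γ)⁻¹) = Ny * NA := by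
    have h1 : ∀ a : A, ρ (a : Γ) * Ny * ρ ((a : Γ)⁻¹) = Ny * ρ ((a⁻¹ : A) : Γ) := by
      intro a
      rw [hN a a.2]
      rfl
    rw [Finset.sum_congr rfl (fun a _ => h1 a), ← Finset.mul_sum, hNA]
    congr 1
    exact Equiv.sum_comp (Equiv.inv A) (fun a : A => ρ (a : Γ))
  have hexp : ∑ a : A, ρ (a : Γ) * Ny * ρ ((a : Γ)⁻¹) =
      ∑ i ∈ Finset.range s, ∑ a : A, ρ (a : Γ) * ρ y ^ i * ρ ((a : Γ)⁻¹) := by
    rw [Finset.sum_comm]
    apply Finset.sum_congr rfl
    intro a _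
    rw [hNy, Finset.mul_sum, Finset.sum_mul]
  obtain ⟨t, rfl⟩ := Nat.exists_eq_succ_of_ne_zero hs.ne'
  rw [Nat.succ_eq_add_one, Finset.sum_range_succ'] at hexp
  have h0 : ∑ a : A, ρ (a : Γ) * ρ y ^ 0 * ρ ((a : Γ)⁻¹) = ((Nat.card A : ℕ) : R) := by
    have : ∀ a : A, ρ (a : Γ) * ρ y ^ 0 * ρ ((a : Γ)⁻¹) = 1 := by
      intro a
      rw [pow_zero, mul_one, ← map_mul, mul_inv_cancel, map_one]
    rw [Finset.sum_congr rfl (fun a _ => this a)]
    simp [Nat.card_eq_fintype_card]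
  have h1 : ∑ i ∈ Finset.range t, ∑ a : A, ρ (a : Γ) * ρ y ^ (i + 1) * ρ ((a : Γ)⁻¹) =
      NA * ∑ i ∈ Finset.range t, ρ y ^ (i + 1) := by
    rw [Finset.mul_sum]
    apply Finset.sum_congr rfl
    intro i hi
    exact hθ (i + 1) (Nat.succ_pos i) (by simpa using Finset.mem_range.mp hi)
  have hN' : ∑ i ∈ Finset.range t, ρ y ^ (i + 1) = Ny - 1 := by
    rw [hNy, Nat.succ_eq_add_one, Finset.sum_range_succ', pow_zero]
    abel
  rw [h0, h1, hN', hL, mul_sub, mul_one, hcomm3] at hexp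
  have hS : NA = ((Nat.card A : ℕ) : R) := by
    have h5 : Ny * NA = Ny * NA - NA + ((Nat.card A : ℕ) : R) := hexp
    have h6 : Ny * NA - NA + ((Nat.card A : ℕ) : R) - Ny * NA = ((Nat.card A : ℕ) : R) - NA := by abel
    have h7 : ((Nat.card A : ℕ) : R) - NA = 0 := by
      rw [← h6, ← h5, sub_self]
    exact (sub_eq_zero.mp h7).symm
  intro a₀ ha₀
  have hmul : ρ a₀ * NA = NA := by
    rw [hNA, Finset.mul_sum]
    have hbij : Function.Bijective (fun a : A => (⟨a₀, ha₀⟩ : A) * a) := Group.mulLeft_bijective _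
    have := hbij.sum_comp (fun a : A => ρ (a : Γ))
    rw [← this]
    apply Finset.sum_congr rfl
    intro a _
    rw [← map_mul]
    rfl
  rw [hS] at hmul
  have h3 : ρ a₀ * ((Nat.card A : ℕ) : R) = 1 * ((Nat.card A : ℕ) : R) := by
    rw [hmul, one_mul]
  exact hA.mul_right_cancel h3

end Ring

section Act

variable {X : Type u} [Group X] [Finite X]

/-- A Frobenius group `⟨a⟩⟨y⟩` acting on a normal `ℓ`-subgroup `P`: if the fixed points of `y` are
fixed by `a`, then `a` centralizes `P`. -/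
theorem frob_act {ℓ n s : ℕ} [hℓ : Fact ℓ.Prime] (P : Subgroup X) [hPn : P.Normal] (hP : IsPGroup ℓ P)
    {a y : X} (ha : orderOf a = n) (hy : orderOf y = s) (hn : n.Prime) (hs : s.Prime) (hℓn : ℓ ≠ n)
    (hℓs : ℓ ≠ s) (hya : y ∈ normalizer ((zpowers a : Subgroup X) : Set X)) (hm : a * y ≠ y * a)
    (hfix : ∀ t ∈ P, y * t = t * y → a * t = t * a) : a ∈ centralizer (P : Set X) := by
  classical
  obtain ⟨W, i1, i2, i3, f, ρ₀, hfs, hfa, hfk, hfe⟩ := Cfsg.Agent.Lib.BGFr.exists_frat ℓ P hP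
  have hNP : ∀ g : X, g ∈ normalizer (P : Set X) := by
    intro g
    rw [Subgroup.normalizer_eq_top_iff.mpr hPn]
    trivial
  have hf1 : f 1 = 0 := by
    have := hfa 1 1
    rw [mul_one] at this
    exact left_eq_add.mp this
  have hfinv : ∀ b, f b⁻¹ = - f b := by
    intro b
    have := hfa b b⁻¹
    rw [mul_inv_cancel, hf1] at this
    exact (neg_eq_of_add_eq_zero_right this.symm).symm
  let R := Module.End (ZMod ℓ) W
  let ρ : X →* R := (Units.coeHom R).comp ρ₀
  have hρe : ∀ (g : X) (t : ↥P), ρ g (f t) = f ⟨g * t * g⁻¹, hPn.conj_mem t t.2 g⟩ := fun g t =>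
    hfe g t (hPn.conj_mem t t.2 g)
  have hcopn : Nat.Coprime n (Nat.card P) := by
    obtain ⟨k, hk⟩ := IsPGroup.iff_card.mp hP
    rw [hk]
    exact Nat.Coprime.pow_right k ((Nat.coprime_primes hn hℓ.out).mpr hℓn.symm)
  have hcops : Nat.Coprime s (Nat.card P) := by
    obtain ⟨k, hk⟩ := IsPGroup.iff_card.mp hP
    rw [hk]
    exact Nat.Coprime.pow_right k ((Nat.coprime_primes hs hℓ.out).mpr hℓs.symm)
  have hPnil : Group.IsNilpotent P := hP.isNilpotent
  have hPs : Group.IsSolvable P := inferInstance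
  -- fixed vectors of `y` come from fixed points of `y`
  have hlift : ∀ t : ↥P, ρ y (f t) = f t → ∃ c : ↥P, y * (c : X) = c * y ∧ f t = f c := by
    intro t ht
    have hpow : ∀ n : ℕ, ρ (y ^ n) (f t) = f t := by
      intro n
      induction n with
      | zero => rw [pow_zero, map_one]; rfl
      | succ n ih => rw [pow_succ, map_mul, Module.End.mul_apply, ht, ih]
    obtain ⟨c, hc, hac⟩ := Cfsg.Agent.Lib.Glauberman.exists_mem_centralizer_of_coset_fixed
      (A := zpowers y) (K := P) (N := Cfsg.Agent.Lib.BGFr.frat P)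
      (by rwa [Nat.card_zpowers, hy]) (Or.inr hPs) (Cfsg.Agent.Lib.BGFr.frat_le P)
      (Subgroup.le_normalizer.trans (Cfsg.Agent.Lib.BGFr.normalizer_le_normalizer_frat P))
      (by intro g _; exact Cfsg.Agent.Lib.BGFr.normalizer_le_normalizer_frat P (hNP g)) (t : X) t.2 (by
        intro z hz
        obtain ⟨n, rfl⟩ := Cfsg.Agent.Lib.BGTau3.exists_nat_of_mem_zpowers hz
        have h5 := hρe (y ^ n) t
        rw [hpow n] at h5
        have h6 : f (⟨y ^ n * t * (y ^ n)⁻¹, hPn.conj_mem t t.2 _⟩ * t⁻¹) = 0 := by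
          rw [hfa, hfinv, ← h5, add_neg_cancel]
        exact (hfk _).mp h6)
    refine ⟨⟨c, hc.1⟩, (Subgroup.mem_centralizer_iff.mp hc.2 y (mem_zpowers y)).symm.symm, ?_⟩
    have h7 : f (t⁻¹ * ⟨c, hc.1⟩) = 0 := (hfk _).mpr hac
    rw [hfa, hfinv] at h7
    exact (neg_add_eq_zero.mp h7)
  have hρa : ∀ b ∈ zpowers a, ρ b = 1 := by
    refine frob_ring' ρ (zpowers a) y hs.pos ?_ ?_ ?_ ?_
    · intro b hb
      exact (mem_normalizer_iff.mp hya b).mp hb
    · intro i hi0 his b hb hbc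
      have hc1 : y ^ i ≠ 1 := by
        apply pow_ne_one_of_lt_orderOf hi0.ne'
        rwa [hy]
      apply Cfsg.Agent.Lib.BGTau1.fpf_pair hn hs ha hy hm (y ^ i) (pow_mem (mem_zpowers y) i) hc1 b hb
      rw [mul_inv_eq_iff_eq_mul] at hbc
      exact hbc.symm
    · intro b hb
      apply LinearMap.ext
      intro v
      set w : W := (∑ i ∈ Finset.range s, ρ y ^ i) v with hw
      show ρ b w = w
      have hfx : ρ y w = w := by
        have h1 : (ρ y - 1) * ∑ i ∈ Finset.range s, ρ y ^ i = ρ y ^ s - 1 := mul_geom_sum _ _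
        have h2 : ρ y ^ s = 1 := by
          rw [← map_pow, ← hy, pow_orderOf_eq_one, map_one]
        rw [h2, sub_self] at h1
        have h3 := LinearMap.congr_fun h1 v
        rw [Module.End.mul_apply, LinearMap.sub_apply, Module.End.one_apply] at h3
        exact sub_eq_zero.mp h3
      obtain ⟨t, ht⟩ := hfs w
      rw [← ht] at hfx ⊢
      obtain ⟨c, hc1, hc2⟩ := hlift t hfx
      rw [hc2, hρe b c]
      have hac : a * (c : X) = c * a := hfix c c.2 hc1
      obtain ⟨n, rfl⟩ := Cfsg.Agent.Lib.BGTau3.exists_nat_of_mem_zpowers hb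
      have hb' : a ^ n * (c : X) = c * a ^ n := (Commute.pow_left hac n).eq
      congr 1
      apply Subtype.ext
      show a ^ n * (c : X) * (a ^ n)⁻¹ = c
      rw [hb']
      group
    · rw [Nat.card_zpowers, ha]
      have h1 : ((n : ℕ) : R) = algebraMap (ZMod ℓ) R (n : ZMod ℓ) := (map_natCast _ n).symm
      rw [h1]
      apply IsUnit.map
      apply IsUnit.mk0
      intro h0
      rw [ZMod.natCast_eq_zero_iff] at h0
      exact hℓn ((Nat.prime_dvd_prime_iff_eq hℓ.out hn).mp h0)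
  have hle := Cfsg.Agent.Lib.Glauberman.le_centralizer_of_frattini (A := zpowers a) (K := P)
    (by intro g _; exact hNP g)
    (by
      rw [Nat.card_zpowers, ha]
      exact Nat.Coprime.coprime_dvd_right (Subgroup.card_subgroup_dvd_card _) hcopn)
    (by
      intro b hb k hk
      have h5 := hρe b ⟨k, hk⟩
      rw [hρa b hb, Module.End.one_apply] at h5
      have h6 : f (⟨b * k * b⁻¹, hPn.conj_mem k hk _⟩ * (⟨k, hk⟩ : ↥P)⁻¹) = 0 := by
        rw [hfa, hfinv, ← h5, add_neg_cancel]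
      exact (hfk _).mp h6)
  exact hle (mem_zpowers a)

end Act

section InG

variable {G : Type u} [Group G] [Finite G]

/-- A Frobenius group `⟨a⟩⟨y⟩` acting coprimely on a solvable group `H`: if the fixed points of `y` are
fixed by `a`, then `a` centralizes `H`. -/
theorem frob_cent {H : Subgroup G} {a y : G} {n s : ℕ} (ha : orderOf a = n) (hy : orderOf y = s)
    (hn : n.Prime) (hs : s.Prime) (hH : Group.IsSolvable H) (hcn : ¬ n ∣ Nat.card H) (hcs : ¬ s ∣ Nat.card H)
    (ha' : a ∈ normalizer (H : Set G)) (hy' : y ∈ normalizer (H : Set G))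
    (hya : y ∈ normalizer ((zpowers a : Subgroup G) : Set G)) (hm : a * y ≠ y * a)
    (hfix : ∀ t ∈ H, y * t = t * y → a * t = t * a) : H ≤ centralizer ({a} : Set G) := by
  classical
  set F : Subgroup G := zpowers y ⊔ zpowers a with hF
  have hFN : F ≤ normalizer (H : Set G) := sup_le (zpowers_le.mpr hy') (zpowers_le.mpr ha')
  have hcard : Nat.card F ∣ s * n := by
    have h1 := card_sup_mul_card_inf (H := zpowers y) (N := zpowers a) (zpowers_le.mpr hya)
    rw [Nat.card_zpowers, Nat.card_zpowers, hy, ha] at h1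
    rw [← h1]
    exact Dvd.intro _ rfl
  have hcop : (Nat.card H).Coprime (Nat.card F) := by
    apply Nat.Coprime.coprime_dvd_right hcard
    apply Nat.Coprime.mul_right
    · exact ((Nat.Prime.coprime_iff_not_dvd hs).mpr hcs).symm
    · exact ((Nat.Prime.coprime_iff_not_dvd hn).mpr hcn).symm
  apply Cfsg.Agent.Lib.BGUniq2.le_of_forall_prime_inv hH hFN hcop
  intro ℓ hℓ T hTH hTp hTF
  by_cases hT1 : T = ⊥
  · rw [hT1]; exact bot_le
  have hℓH : ℓ ∣ Nat.card H :=
    (Cfsg.Agent.Lib.BGUniq2.dvd_card_of_isPGroup hTp hT1).trans (Subgroup.card_dvd_of_le hTH)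
  have hℓn : ℓ ≠ n := fun h => hcn (h ▸ hℓH)
  have hℓs : ℓ ≠ s := fun h => hcs (h ▸ hℓH)
  -- work in the normalizer of `T`
  let X : Subgroup G := normalizer (T : Set G)
  have haX : a ∈ X := hTF (Subgroup.mem_sup_right (mem_zpowers a))
  have hyX : y ∈ X := hTF (Subgroup.mem_sup_left (mem_zpowers y))
  let P : Subgroup X := T.subgroupOf X
  haveI hPn : P.Normal := Subgroup.normal_subgroupOf_of_le_normalizer le_rfl
  have hTX : T ≤ X := Subgroup.le_normalizer
  have hPp : IsPGroup ℓ P :=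
    hTp.of_injective (Subgroup.subgroupOfEquivOfLe hTX).toMonoidHom
      (Subgroup.subgroupOfEquivOfLe hTX).injective
  have h1 := frob_act (X := X) P hPp (a := ⟨a, haX⟩) (y := ⟨y, hyX⟩) (by rw [Subgroup.orderOf_mk]; exact ha)
    (by rw [Subgroup.orderOf_mk]; exact hy) hn hs hℓn hℓs
    (by
      apply Cfsg.Agent.Lib.BGTau4.mem_normalizer_of_forall
      intro u hu
      obtain ⟨k, rfl⟩ := Cfsg.Agent.Lib.BGTau3.exists_nat_of_mem_zpowers hu
      have h0 : (⟨y, hyX⟩ : X) * (⟨a, haX⟩ : X) ^ k * (⟨y, hyX⟩ : X)⁻¹ =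
          ((⟨y, hyX⟩ : X) * (⟨a, haX⟩ : X) * (⟨y, hyX⟩ : X)⁻¹) ^ k := by
        rw [conj_pow]
      rw [h0]
      apply pow_mem
      have h2 : y * a * y⁻¹ ∈ zpowers a := (mem_normalizer_iff.mp hya a).mp (mem_zpowers a)
      obtain ⟨j, hj⟩ := Cfsg.Agent.Lib.BGTau3.exists_nat_of_mem_zpowers h2
      have h3 : (⟨y, hyX⟩ : X) * (⟨a, haX⟩ : X) * (⟨y, hyX⟩ : X)⁻¹ = (⟨a, haX⟩ : X) ^ j := by
        apply Subtype.ext
        simpa using hj
      rw [h3]
      exact pow_mem (mem_zpowers _) j)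
    (by
      intro h
      exact hm (congrArg Subtype.val h))
    (by
      intro t ht hc
      apply Subtype.ext
      exact hfix t (hTH ht) (congrArg Subtype.val hc))
  intro t ht
  rw [mem_cz]
  have h2 := Subgroup.mem_centralizer_iff.mp h1 ⟨t, Subgroup.le_normalizer ht⟩ ht
  exact (congrArg Subtype.val h2).symm

/-- The form of F3 for `τ₃`-elements of a complement. -/
theorem F3M (hG : IsMinSimpleOddOrder G) {M E : Subgroup G} (hM : IsCoatom M) (hE : IsComplIn E (sigmaCore M) M)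
    {p : ℕ} [hf : Fact p.Prime] (hp : p ∈ tau3 M) {x : G} (hx : x ∈ E) (hxo : orderOf x = p) {ρ : G} (hρ : ρ ∈ E)
    {s : ℕ} (hs : s.Prime) (hρo : orderOf ρ = s) (hm : x * ρ ≠ ρ * x) :
    ∃ t ∈ sigmaCore M, ρ * t = t * ρ ∧ x * t ≠ t * x := by
  by_contra hcon
  push Not at hcon
  have hsσ : s ∉ sigma M := not_sigma_of_mem_compl hG hM hE hρ hs (by rw [hρo])
  refine tau3_not_cent hG hM hE hp hx hxo ?_
  exact frob_cent hxo hρo hf.out hs (solvable_of_le_coatom hG hM sigmaCore_le)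
    (not_dvd_sigmaCore hf.out hp.2.1) (not_dvd_sigmaCore hs hsσ)
    (le_normalizer_sigmaCore (hE.1 hx)) (le_normalizer_sigmaCore (hE.1 hρ))
    (tau3_normal hG hM hE hp hx hxo hρ) hm hcon

/-- Lemma A: a fixed point of a `τ₁`-element of prime order, of prime order `r ∉ β(M)`, lies in `(M_σ)'`. -/
theorem lemmaA (C : Cx G) {M : Subgroup G} (hM : IsCoatom M) {q r : ℕ} (hq : q ∈ tau1 M) {ρ y : G} (hρM : ρ ∈ M)
    (hρo : orderOf ρ = q) (hy : y ∈ sigmaCore M) (hρy : ρ * y = y * ρ) (hr : r.Prime) (hyo : orderOf y = r)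
    (hrβ : r ∉ beta M) : y ∈ ⁅sigmaCore M, sigmaCore M⁆ := by
  have hG := C.hG
  haveI : Fact q.Prime := ⟨hq.1⟩
  haveI : Fact r.Prime := ⟨hr⟩
  have hrσ : r ∈ sigma M := sigma_of_mem_sigmaCore hy hr (hyo ▸ dvd_rfl)
  have hqσ := hq.2.1
  have hHs : Group.IsSolvable (sigmaCore M) := solvable_of_le_coatom hG hM sigmaCore_le
  have hρN : zpowers ρ ≤ normalizer (sigmaCore M : Set G) := zpowers_le.mpr (le_normalizer_sigmaCore hρM)
  have hcop : (Nat.card (sigmaCore M)).Coprime (Nat.card (zpowers ρ)) := by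
    rw [Nat.card_zpowers, hρo]
    exact ((Nat.Prime.coprime_iff_not_dvd hq.1).mpr (not_dvd_sigmaCore hq.1 hqσ)).symm
  obtain ⟨S, hS, hSρ, hyS⟩ := exists_invariant_isSylowIn_ge r hHs hρN hcop (zpowers_le.mpr hy)
    (isPGroup_zpowers_order hyo) (zpowers_le.mpr (Cfsg.Agent.Lib.BGTau5.cent_le_norm y (mem_cz.mpr hρy.symm)))
  have hySS : y ∈ S := hyS (mem_zpowers y)
  obtain ⟨E, hE, hρE, hET⟩ := exists_compl_ge_in hG hM (T := M ⊓ normalizer (S : Set G)) inf_le_left
    (fun m hm => frattini_sigma hS hm) (Y := zpowers ρ) (le_inf (zpowers_le.mpr hρM) hSρ)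
    (fun p hp hd => by rw [prime_eq_of_dvd_card_zpowers hq.1 hρo hp hd]; exact hqσ)
  have hρE' : ρ ∈ E := hρE (mem_zpowers ρ)
  have hSM : S ≤ M := hS.1.trans sigmaCore_le
  have hEs : Group.IsSolvable E := solvable_of_le_coatom hG hM hE.1
  -- elements of `E ∩ M'` of `r'`-order fix `y`
  have hder : ∀ w ∈ E, w ∈ ⁅M, M⁆ → (orderOf w).Coprime r → w * y = y * w := by
    intro w hwE hwD hwc
    have h1 := cent_of_comm hG hM hrβ hSM hS.2.1 hwD hwc (hET hwE).2
    exact (Subgroup.mem_centralizer_iff.mp h1 y hySS).symm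
  have hEy : E ≤ centralizer ({y} : Set G) := by
    apply le_of_sylow_le
    intro p hp
    obtain ⟨T, hT⟩ := exists_isSylowIn p E
    by_cases hpE : p ∣ Nat.card E
    · have hpσ : p ∉ sigma M := Cfsg.Agent.Lib.BGTau7.not_sigma_of_compl hG hM hE hp.out hpE
      have hpr : p ≠ r := fun h => hpσ (h ▸ hrσ)
      rcases tau_cases hG hM hp.out hpσ (hpE.trans (Subgroup.card_dvd_of_le hE.1)) with h1 | h2 | h3
      · -- `τ₁`
        obtain ⟨F, hF, hρF⟩ := exists_hall_ge (tau1 M) hEs (zpowers_le.mpr hρE')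
          (fun u hu hd => by rw [prime_eq_of_dvd_card_zpowers hq.1 hρo hu hd]; exact hq)
        have hFc := tau1_cyclic hG hM hE hF
        obtain ⟨T₀, hT₀⟩ := exists_isSylowIn p F
        have hT₀E := isSylowIn_of_hall hT₀ hF.1 (hF.2.2 p hp.out h1)
        have hT₀c : IsCyclic T₀ :=
          isCyclic_of_rank_one hG (hT₀E.1.trans hE.1) hT₀.2.1 h1.2.2.2.2
        have hT₀1 := Cfsg.Agent.Lib.BGTau6.sylow_ne_bot hT₀E hpE
        obtain ⟨x, hxT, hxo⟩ := exists_mem_order_p hT₀.2.1 hT₀1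
        have hρx : ρ * x = x * ρ := comm_of_cyclic hFc (hρF (mem_zpowers ρ)) (hT₀.1 hxT)
        have hxy := F2el C hM hE hq hρE' hρo (hT₀E.1 hxT) (by rw [hxo]; exact hp.out) hρx hy hρy
        have hx1 : x ≠ 1 := by
          rintro rfl
          rw [orderOf_one] at hxo
          exact hp.out.one_lt.ne hxo
        refine ⟨T₀, hT₀E, ?_⟩
        intro z hz
        rw [mem_cz]
        exact (F1el hG hM hE hT₀E hT₀c hxT hx1 hy hxy hz).symm
      · -- `τ₂`: impossible
        exfalso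
        obtain ⟨A, hAE, hAe, hAc⟩ := exists_ea_in_compl hG hM hE h2
        have hT2 := Cfsg.Agent.Lib.BGTau7.T2.mk' hG hM h2 (hAE.trans hE.1) hAe hAc
        have hApg : IsPGroup p A := Cfsg.Agent.Lib.BGSigma3.isPGroup_of_ea hAe
        have hAy : A ≤ centralizer ({y} : Set G) := by
          have hAN : zpowers ρ ≤ normalizer (A : Set G) := zpowers_le.mpr (hT2.compl_norm hE hAE hρE')
          have hpq : p ≠ q := by
            intro h
            subst h
            exact h2.2.2.2 hq.2.2.2.2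
          have hcop2 : (Nat.card (zpowers ρ)).Coprime (Nat.card A) := by
            rw [Nat.card_zpowers, hρo, hAc]
            exact Nat.Coprime.pow_right 2 ((Nat.coprime_primes hq.1 hp.out).mpr hpq.symm)
          have hdec := Cfsg.Agent.Lib.Glauberman.commutator_sup_inf_centralizer hAN hcop2
            (Or.inl (by
              haveI : IsCyclic (zpowers ρ) := inferInstance
              infer_instance))
          rw [← hdec]
          apply sup_le
          · intro w hw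
            have hwA : w ∈ A := Cfsg.Agent.Lib.Glauberman.commutator_le_of_le_normalizer hAN hw
            have hwE : w ∈ ⁅E, E⁆ :=
              Subgroup.commutator_mono hAE (zpowers_le.mpr hρE') hw
            have hwM : w ∈ ⁅M, M⁆ := Subgroup.commutator_mono hE.1 hE.1 hwE
            rw [mem_cz]
            exact (hder w (hAE hwA) hwM (coprime_orderOf_of_pgroup hApg hwA hr hpr)).symm
          · intro w hw
            obtain ⟨hwA, hwc⟩ := Subgroup.mem_inf.mp hw
            rw [mem_cz]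
            rw [cz_zpowers, mem_cz] at hwc
            by_cases hw1 : w = 1
            · rw [hw1]; group
            · have hwo : orderOf w = p := by
                apply orderOf_eq_prime (hAe.2 w hwA) hw1
              exact (F2el C hM hE hq hρE' hρo (hAE hwA) (by rw [hwo]; exact hp.out) hwc hy hρy).symm
        have h0 : y ∈ sigmaCore M ⊓ centralizer (A : Set G) := by
          refine Subgroup.mem_inf.mpr ⟨hy, ?_⟩
          rw [Subgroup.mem_centralizer_iff]
          intro a ha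
          exact (mem_cz.mp (hAy ha)).symm
        rw [hT2.d, Subgroup.mem_bot] at h0
        rw [h0, orderOf_one] at hyo
        exact absurd hyo hr.one_lt.ne
      · -- `τ₃`
        refine ⟨T, hT, ?_⟩
        intro w hw
        rw [mem_cz]
        have hwD : w ∈ ⁅E, E⁆ := tau3_le_commutator hG hM hE h3 hT.1 hT.2.1 hw
        exact (hder w (hT.1 hw) (Subgroup.commutator_mono hE.1 hE.1 hwD)
          (coprime_orderOf_of_pgroup hT.2.1 hw hr hpr)).symm
    · refine ⟨T, hT, ?_⟩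
      have hT1 : T = ⊥ := by
        by_contra hne
        exact hpE ((Cfsg.Agent.Lib.BGUniq2.dvd_card_of_isPGroup hT.2.1 hne).trans
          (Subgroup.card_dvd_of_le hT.1))
      rw [hT1]
      exact bot_le
  have h1 := (Cfsg.Agent.S1426.result hG M hM E hE).1
  apply h1
  refine Subgroup.mem_inf.mpr ⟨hy, ?_⟩
  rw [Subgroup.mem_centralizer_iff]
  intro e he
  exact (mem_cz.mp (hEy he)).symm

/-- Lemma A, with consequences. -/
theorem lemmaA' (C : Cx G) {M : Subgroup G} (hM : IsCoatom M) {q r : ℕ} (hq : q ∈ tau1 M) {ρ y : G} (hρM : ρ ∈ M)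
    (hρo : orderOf ρ = q) (hy : y ∈ sigmaCore M) (hρy : ρ * y = y * ρ) (hr : r.Prime) (hyo : orderOf y = r) :
    CU M y ∧ GammaP M r := by
  haveI : Fact r.Prime := ⟨hr⟩
  have hrσ : r ∈ sigma M := sigma_of_mem_sigmaCore hy hr (hyo ▸ dvd_rfl)
  apply s1423el C.hG hM hrσ (sigmaCore_le hy) hyo
  by_cases hrβ : r ∈ beta M
  · exact Or.inl hrβ
  · exact Or.inr (lemmaA C hM hq hρM hρo hy hρy hr hyo hrβ)

end InG

end Cfsg.Agent.Lib.BGK1
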