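import Mathlib
import Cfsg.Agent.Lib.BGK1

/-!
# Section 14 of Bender-Glauberman: normalizers of subgroups of prime order of complements.
-/

set_option autoImplicit false
set_option linter.unusedSectionVars false
set_option linter.unusedVariables false
set_option linter.style.haveILetI false
set_option linter.unusedSimpArgs false

namespace Cfsg.Agent.Lib.BGK2

open Cfsg Subgroup Cfsg.Agent.Lib.CoprimeInv Cfsg.Agent.Lib.BGTrans Cfsg.Agent.Lib.BGM1 Cfsg.Agent.Lib.BGM2
  Cfsg.Agent.Lib.BGK0 Cfsg.Agent.Lib.BGK1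
open scoped commutatorElement

universe u

variable {G : Type u} [Group G] [Finite G]

theorem sigma_of_conj {M J : Subgroup G} {g : G} (h : J = cj M g) {p : ℕ} [Fact p.Prime] (hp : p ∈ sigma J) :
    p ∈ sigma M := by
  have h1 := Cfsg.Agent.Lib.BGP2E.sigma_cj hp g⁻¹
  rw [h, cj_cj] at h1
  simpa [cj_one] using h1

theorem prank_cj {M : Subgroup G} {p k : ℕ} (h : PRankLE p k M) (g : G) : PRankLE p k (cj M g) := by
  rw [Cfsg.Agent.Lib.BGSigma.prankLE_iff] at h ⊢
  intro A hAL hc he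
  have hAe : IsElementaryAbelian p A := ⟨hc, he⟩
  have h1 := Cfsg.Agent.S1422.ea_cj hAe g⁻¹
  have h2 : cj A g⁻¹ ≤ M := by
    have h3 := cj_mono hAL g⁻¹
    rw [cj_cj] at h3
    simpa [cj_one] using h3
  have h4 := h _ h2 h1.1 h1.2
  rwa [card_cj] at h4

theorem primes_sup_zpowers {x y : G} (hxy : x * y = y * x) {u : ℕ} (hu : u.Prime)
    (hd : u ∣ Nat.card ↥(zpowers x ⊔ zpowers y)) : u ∣ orderOf x ∨ u ∣ orderOf y := by
  have h1 := card_sup_mul_card_inf (H := zpowers x) (N := zpowers y)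
    (zpowers_le.mpr (Cfsg.Agent.Lib.BGTau5.cent_le_norm y (mem_cz.mpr hxy.symm)))
  rw [Nat.card_zpowers, Nat.card_zpowers] at h1
  have h2 : u ∣ orderOf x * orderOf y := by
    rw [← h1]
    exact hd.trans (Dvd.intro _ rfl)
  exact (Nat.Prime.dvd_mul hu).mp h2

theorem comm_of_abelian_sylow {p : ℕ} [Fact p.Prime] (S₁ : Sylow p G) (hS₁ : IsMulCommutative (S₁ : Subgroup G))
    {Q : Subgroup G} (hQ : IsPGroup p Q) {a b : G} (ha : a ∈ Q) (hb : b ∈ Q) : a * b = b * a := by
  obtain ⟨P, hP⟩ := hQ.exists_le_sylow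
  let e : ↥(P : Subgroup G) ≃* ↥(S₁ : Subgroup G) := Sylow.equiv P S₁
  have h1 : e ⟨a, hP ha⟩ * e ⟨b, hP hb⟩ = e ⟨b, hP hb⟩ * e ⟨a, hP ha⟩ := by
    have := hS₁.is_comm.comm (e ⟨a, hP ha⟩) (e ⟨b, hP hb⟩)
    exact this
  rw [← map_mul, ← map_mul] at h1
  have h2 := e.injective h1
  exact congrArg Subtype.val h2

/-- G2: if `X ≤ E` has prime order `p`, `M` has `p`-rank one, and `y ∈ C_{M_σ}(X)` has prime order `r`
with `C_G(y) ≤ M` and maximal subgroups `L` with `r ∈ σ(L)` conjugate to `M`, then `p ∈ σ(L)` for each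
maximal subgroup `L` containing `N_G(X)`. -/
theorem G2 (C : Cx G) {M E L : Subgroup G} (hM : IsCoatom M) (hE : IsComplIn E (sigmaCore M) M) {p r : ℕ}
    [hpf : Fact p.Prime] (hp1 : PRankLE p 1 M) {x y : G} (hxE : x ∈ E) (hxo : orderOf x = p)
    (hy : y ∈ sigmaCore M) (hxy : x * y = y * x) (hr : r.Prime) (hyo : orderOf y = r)
    (hC : centralizer ({y} : Set G) ≤ M) (hΓ : GammaP M r) (hL : IsCoatom L)
    (hN : normalizer ((zpowers x : Subgroup G) : Set G) ≤ L) : p ∈ sigma L := by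
  have hG := C.hG
  haveI : Fact r.Prime := ⟨hr⟩
  by_contra hpσ
  have hpM : p ∉ sigma M := not_sigma_of_mem_compl hG hM hE hxE hpf.out (hxo ▸ dvd_rfl)
  have hx1 : x ≠ 1 := by
    rintro rfl
    rw [orderOf_one] at hxo
    exact hpf.out.one_lt.ne hxo
  have hy1 : y ≠ 1 := by
    rintro rfl
    rw [orderOf_one] at hyo
    exact hr.one_lt.ne hyo
  have hxp : x ^ p = 1 := by rw [← hxo]; exact pow_orderOf_eq_one x
  have hyp : y ^ r = 1 := by rw [← hyo]; exact pow_orderOf_eq_one y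
  have hCxL : centralizer ({x} : Set G) ≤ L := (Cfsg.Agent.Lib.BGTau5.cent_le_norm x).trans hN
  have hxL : x ∈ L := hCxL (mem_cz.mpr rfl)
  have hyL : y ∈ L := hCxL (mem_cz.mpr hxy)
  have hτ : p ∈ tau2 L := Cfsg.Agent.Lib.BGP3E.tau2_of_not_sigma hG hL hpσ
    (by rw [Nat.card_zpowers, hxo]) (zpowers_le.mpr hxL) hN
  have hrL : r ∉ sigma L := by
    intro h
    obtain ⟨g, hg⟩ := hΓ L hL h
    apply hτ.2.2.2
    rw [hg]
    exact prank_cj hp1 g
  obtain ⟨EL, hEL, hYEL⟩ := exists_compl_ge hG hL (Y := zpowers x ⊔ zpowers y)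
    (sup_le (zpowers_le.mpr hxL) (zpowers_le.mpr hyL)) (fun u hu hd => by
      rcases primes_sup_zpowers hxy hu hd with h | h
      · rw [hxo] at h
        rw [(Nat.prime_dvd_prime_iff_eq hu hpf.out).mp h]
        exact hpσ
      · rw [hyo] at h
        rw [(Nat.prime_dvd_prime_iff_eq hu hr).mp h]
        exact hrL)
  have hxEL : x ∈ EL := hYEL (mem_sup_left (mem_zpowers x))
  have hyEL : y ∈ EL := hYEL (mem_sup_right (mem_zpowers y))
  obtain ⟨A, hAE, hAe, hAc⟩ := exists_ea_in_compl hG hL hEL hτ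
  have T := Cfsg.Agent.Lib.BGTau7.T2.mk' hG hL hτ (hAE.trans hEL.1) hAe hAc
  have hAp : IsPGroup p A := Cfsg.Agent.Lib.BGSigma3.isPGroup_of_ea hAe
  have hxA : x ∈ A := T.compl_omega hEL hAE hxEL hxp
  have hyN : y ∈ normalizer (A : Set G) := T.compl_norm hEL hAE hyEL
  have hAny : ¬ A ≤ centralizer ({y} : Set G) := fun h =>
    Cfsg.Agent.Lib.BGP3E.not_le_of_rank_one hp1 hAe hAc (h.trans hC)
  obtain ⟨t, htL, htA⟩ := T.exists_t
  have hA1 : A ≠ ⊥ := T.A_ne_bot
  have hAt : A ≠ ⊤ := IsMin.isPGroup_ne_top hG hAp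
  by_cases hS : ∀ S : Sylow p G, ¬ IsMulCommutative (S : Subgroup G)
  · -- the non-abelian case
    obtain ⟨-, -, h3⟩ := Cfsg.Agent.S1419.result hG L hL EL hEL p hτ hS A ⟨hAE, hAe, hAc⟩
    have hX0 : zpowers x = A ⊓ centralizer (sigmaCore L : Set G) := by
      by_contra hne
      refine (h3 (zpowers x) (zpowers_le.mpr hxEL) (by rw [Nat.card_zpowers, hxo]) hne).2 ?_
      rw [cz_zpowers]
      exact hCxL
    have hLc : sigmaCore L ≤ centralizer ({x} : Set G) := by
      intro u hu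
      have h4 : x ∈ A ⊓ centralizer (sigmaCore L : Set G) := by
        rw [← hX0]
        exact mem_zpowers x
      rw [mem_cz]
      exact (Subgroup.mem_centralizer_iff.mp (Subgroup.mem_inf.mp h4).2 u hu).symm
    obtain ⟨S₀, hAS₀⟩ := hAp.exists_le_sylow
    have hS₀1 : (S₀ : Subgroup G) ≠ ⊥ := fun h => hA1 (le_bot_iff.mp (h ▸ hAS₀))
    obtain ⟨J, ⟨hJ, hS₀J⟩, hJu⟩ := Cfsg.Agent.S1422.result hG p (S₀ : Subgroup G) S₀.isPGroup' (hS S₀)
    obtain ⟨J', hJ', hNJ'⟩ := Cfsg.Agent.Lib.BGTau5.exists_coatom_ge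
      (IsMin.normalizer_ne_top hG hS₀1 (IsMin.isPGroup_ne_top hG S₀.isPGroup'))
    have hJJ' : J' = J := hJu J' ⟨hJ', Subgroup.le_normalizer.trans hNJ'⟩
    rw [hJJ'] at hNJ'
    have hS₀S : IsSylowIn p (S₀ : Subgroup G) J :=
      ⟨hS₀J, S₀.isPGroup', fun R _ hRp hle => S₀.is_maximal' hRp hle⟩
    have hpJ : p ∈ sigma J := Cfsg.Agent.Lib.BGSigma3.mem_sigma_of hS₀S
      ((Cfsg.Agent.Lib.BGUniq2.dvd_card_of_isPGroup S₀.isPGroup' hS₀1).trans (Subgroup.card_dvd_of_le hS₀J)) hNJ'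
    have hJL : J ≠ L := fun h => hpσ (h ▸ hpJ)
    have hAJ : A ≤ J := hAS₀.trans hS₀J
    have hLJ : sigmaCore L ⊓ J = ⊥ := T.e hJ hJL hAJ
    have hNAJ : normalizer (A : Set G) ≤ J := Cfsg.Agent.Lib.BGP3B.normalizer_le_of_noncyclic hG hJ hpJ hAp
      (Cfsg.Agent.Lib.BGTau1.not_isCyclic_of_card_sq hAe hAc) hAJ
    have hyJ : y ∈ J := hNAJ hyN
    have hxJ : x ∈ J := hAJ hxA
    have hrJ : r ∉ sigma J := fun h => by
      obtain ⟨g, hg⟩ := hΓ J hJ h
      exact hpM (sigma_of_conj hg hpJ)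
    have hxJσ : x ∈ sigmaCore J := mem_sigmaCore_of_pow hG hJ hpJ hxJ (k := 1) (by rwa [pow_one])
    have hLne : L ≠ ⊥ := fun h => by
      rw [h] at hxL
      exact hx1 hxL
    have hCJ : ¬ centralizer ({x} : Set G) ≤ J := fun h => by
      have h5 : sigmaCore L ≤ sigmaCore L ⊓ J := le_inf le_rfl (hLc.trans h)
      rw [hLJ] at h5
      exact Cfsg.Agent.Lib.BGTau7.sigmaCore_ne_bot hG hL hLne (le_bot_iff.mp h5)
    obtain ⟨EJ, hEJ, hyEJ⟩ := exists_compl_ge hG hJ (zpowers_le.mpr hyJ)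
      (fun u hu hd => by rw [prime_eq_of_dvd_card_zpowers hr hyo hu hd]; exact hrJ)
    have hyEJ' : y ∈ EJ := hyEJ (mem_zpowers y)
    rcases tau_cases hG hJ hr hrJ (hyo ▸ Subgroup.orderOf_dvd_natCard _ hyJ) with h1 | h2 | h3'
    · exact hCJ (lemmaA' C hJ h1 hyJ hyo hxJσ hxy.symm hpf.out hxo).1.1
    · have h5 := (Cfsg.Agent.S1420.result hG J hJ EJ hEJ).2.2.2 y hyJ hy1
        (fun u hu hd => by
          rw [hyo] at hd
          rw [(Nat.prime_dvd_prime_iff_eq hu hr).mp hd]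
          exact h2)
        ⟨hyJ, x, hxJσ, hx1, hxy.symm⟩
      have hMJ : M = J := h5.2 M hM hC
      exact hpM (hMJ ▸ hpJ)
    · by_cases hpβ : p ∈ beta J
      · exact hCJ (s1423el hG hJ hpJ hxJ hxo (Or.inl hpβ)).1.1
      · have hyD := mem_comm_of_tau3 hG hJ hEJ h3' hyEJ' (k := 1) (by rwa [pow_one])
        have hco : (orderOf y).Coprime p := by
          rw [hyo]
          have hrp : r ≠ p := fun h => hpM (by
            rw [← h]
            exact sigma_of_mem_sigmaCore hy hr (hyo ▸ dvd_rfl))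
          exact (Nat.coprime_primes hr hpf.out).mpr hrp
        have h5 := cent_of_comm hG hJ hpβ hAJ hAp (Subgroup.commutator_mono hEJ.1 hEJ.1 hyD) hco hyN
        apply hAny
        intro a ha
        rw [mem_cz]
        exact (Subgroup.mem_centralizer_iff.mp h5 a ha).symm
  · -- the abelian case
    push Not at hS
    obtain ⟨S₁, hS₁⟩ := hS
    have hNAt : normalizer (A : Set G) ≠ ⊤ := IsMin.normalizer_ne_top hG hA1 hAt
    have hBs := IsMin.solvable hG hNAt
    have hodd := Cfsg.Agent.Lib.BGUniq2.IsMin.odd_card hG (normalizer (A : Set G))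
    have hrk2 : PRankLE p 2 A := Cfsg.Agent.Lib.BGUniq3.prankLE_of_le (hAE.trans hEL.1) T.rank2
    have hp2 : p ≠ 2 := prime_ne_two hG (x := x) hpf.out (by rw [hxo])
    have hder : ∀ c ∈ (⁅normalizer (A : Set G), normalizer (A : Set G)⁆ : Subgroup G),
        c ∈ centralizer (A : Set G) := by
      intro c hc
      obtain ⟨w, u, k, m, hcwu, hw, hu, huk, hwm, hpm⟩ := Cfsg.Agent.Lib.BGTau7.exists_p_part p c
      have hwD : w ∈ (⁅normalizer (A : Set G), normalizer (A : Set G)⁆ : Subgroup G) := zpowers_le.mpr hc hw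
      have huD : u ∈ (⁅normalizer (A : Set G), normalizer (A : Set G)⁆ : Subgroup G) := zpowers_le.mpr hc hu
      have hw' : w ∈ centralizer (A : Set G) :=
        Cfsg.Agent.Lib.BGTau1.comm_of_mem_derived hp2 hAp hrk2 le_rfl hBs hodd hwD
          (Nat.Coprime.coprime_dvd_left (orderOf_dvd_of_pow_eq_one hwm)
            (((Nat.Prime.coprime_iff_not_dvd hpf.out).mpr hpm).symm))
      have huN : u ∈ normalizer (A : Set G) := Subgroup.commutator_le_self _ huD
      have hu' : u ∈ centralizer (A : Set G) := by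
        have hup : IsPGroup p (zpowers u) := isPGroup_zpowers_pow huk
        have hQ : IsPGroup p (zpowers u ⊔ A : Subgroup G) :=
          isPGroup_sup_of_le_normalizer hup hAp (zpowers_le.mpr huN)
        rw [Subgroup.mem_centralizer_iff]
        intro a ha
        exact comm_of_abelian_sylow S₁ hS₁ hQ (mem_sup_right ha) (mem_sup_left (mem_zpowers u))
      rw [hcwu]
      exact mul_mem hw' hu'
    apply htL
    apply hN
    apply Cfsg.Agent.Lib.BGTau4.mem_normalizer_of_forall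
    intro v hv
    obtain ⟨n, rfl⟩ := Cfsg.Agent.Lib.BGTau3.exists_nat_of_mem_zpowers hv
    have h0 : t * x ^ n * t⁻¹ = (t * x * t⁻¹) ^ n := by rw [conj_pow]
    rw [h0]
    apply pow_mem
    set a : G := t * x * t⁻¹ with ha
    have haA : a ∈ A := (mem_normalizer_iff.mp htA x).mp hxA
    set c : G := t * y * t⁻¹ * y⁻¹ with hc
    have hcD : c ∈ (⁅normalizer (A : Set G), normalizer (A : Set G)⁆ : Subgroup G) := by
      have := Subgroup.commutator_mem_commutator htA hyN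
      rwa [commutatorElement_def] at this
    have hcA := hder c hcD
    have hca : a * c = c * a := Subgroup.mem_centralizer_iff.mp hcA a haA
    have e1 : (t * y * t⁻¹) * a = a * (t * y * t⁻¹) := by
      have : (t * y * t⁻¹) * (t * x * t⁻¹) = t * (y * x) * t⁻¹ := by group
      rw [ha, this, ← hxy]
      group
    have e2 : t * y * t⁻¹ = c * y := by rw [hc]; group
    rw [e2] at e1
    have hya : y * a = a * y := by
      apply mul_left_cancel (a := c)
      calc c * (y * a) = c * y * a := by group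
        _ = a * (c * y) := e1
        _ = (a * c) * y := by group
        _ = (c * a) * y := by rw [hca]
        _ = c * (a * y) := by group
    by_contra hnot
    apply hAny
    rw [← Cfsg.Agent.Lib.BGTau3.sup_eq hAe hAc hxA hx1 haA hnot]
    apply sup_le
    · rw [zpowers_le, mem_cz]
      exact hxy.symm
    · rw [zpowers_le, mem_cz]
      exact hya

end Cfsg.Agent.Lib.BGK2
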