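import Mathlib
import Cfsg.Agent.Lib.BGK2

/-!
# Section 14 of Bender-Glauberman: tools on `κ(M)`, moved elements, a junction lemma.
-/

set_option autoImplicit false
set_option linter.unusedSectionVars false
set_option linter.unusedVariables false
set_option linter.style.haveILetI false
set_option linter.unusedSimpArgs false

namespace Cfsg.Agent.Lib.BGK3

open Cfsg Subgroup Cfsg.Agent.Lib.CoprimeInv Cfsg.Agent.Lib.BGTrans Cfsg.Agent.Lib.BGM1 Cfsg.Agent.Lib.BGM2
  Cfsg.Agent.Lib.BGK0 Cfsg.Agent.Lib.BGK1 Cfsg.Agent.Lib.BGK2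
open scoped commutatorElement

universe u

section Abstract

variable {X : Type u} [Group X] [Finite X]

/-- A coprime automorphism of a cyclic `p`-group which is not trivial has no nontrivial fixed points. -/
theorem cyclic_fix_trivial {p : ℕ} [hp : Fact p.Prime] {P : Subgroup X} (hP : IsPGroup p P)
    (hc : IsCyclic P) {w : X} (hw : w ∈ normalizer (P : Set X)) (hm : (orderOf w).Coprime p)
    (hnc : w ∉ centralizer (P : Set X)) {k : X} (hk : k ∈ P) (hfk : w * k * w⁻¹ = k) : k = 1 := by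
  have hsurj := cyclic_coprime_surj hP hc hw hm hnc
  have hconj : ∀ a ∈ P, w * a * w⁻¹ * a⁻¹ ∈ P := fun a ha =>
    P.mul_mem ((mem_normalizer_iff.mp hw a).mp ha) (P.inv_mem ha)
  let f : P → P := fun z => ⟨w * z * w⁻¹ * (z : X)⁻¹, hconj z z.2⟩
  have hf : Function.Surjective f := by
    rintro ⟨y, hy⟩
    obtain ⟨z, hz, rfl⟩ := hsurj y hy
    exact ⟨⟨z, hz⟩, rfl⟩
  have hinj := Finite.injective_iff_surjective.mpr hf
  have h1 : f ⟨k, hk⟩ = f 1 := by
    apply Subtype.ext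
    show w * k * w⁻¹ * k⁻¹ = w * ((1 : P) : X) * w⁻¹ * ((1 : P) : X)⁻¹
    rw [hfk]
    simp
  have h2 := hinj h1
  exact congrArg Subtype.val h2

/-- A central element in a cyclic Sylow subgroup. -/
theorem not_central_of_cyclic_sylow {p : ℕ} [hp : Fact p.Prime] (P : Sylow p X)
    (hc : IsCyclic (P : Subgroup X)) {x : X} (hxP : x ∈ (P : Subgroup X)) (hx1 : x ≠ 1)
    (hxZ : ∀ g : X, g * x = x * g) (hd : p ∣ Nat.card (commutator X)) : False := by
  have hcomm : ∀ a ∈ (P : Subgroup X), ∀ b ∈ (P : Subgroup X), a * b = b * a := by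
    intro a ha b hb
    exact comm_of_cyclic hc ha hb
  have hN : normalizer ((P : Subgroup X) : Set X) ≤ centralizer ((P : Subgroup X) : Set X) := by
    intro g hgN
    by_contra hgC
    obtain ⟨w, u, k, m, hgwu, hw, hu, huk, hwm, hpm⟩ := Cfsg.Agent.Lib.BGTau7.exists_p_part p g
    have huN : u ∈ normalizer ((P : Subgroup X) : Set X) := zpowers_le.mpr hgN hu
    have hwN : w ∈ normalizer ((P : Subgroup X) : Set X) := zpowers_le.mpr hgN hw
    have hup : IsPGroup p (zpowers u) := isPGroup_zpowers_pow huk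
    have hsup : IsPGroup p ↥(zpowers u ⊔ (P : Subgroup X)) :=
      IsPGroup.to_sup_of_normal_right' hup P.isPGroup' (zpowers_le.mpr huN)
    have huP : u ∈ (P : Subgroup X) := by
      have h1 := P.is_maximal' hsup le_sup_right
      have h2 : u ∈ zpowers u ⊔ (P : Subgroup X) := Subgroup.mem_sup_left (mem_zpowers _)
      rw [h1] at h2
      exact h2
    have huC : u ∈ centralizer ((P : Subgroup X) : Set X) := by
      rw [Subgroup.mem_centralizer_iff]
      intro y hy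
      exact hcomm _ hy _ huP
    have hwC : w ∉ centralizer ((P : Subgroup X) : Set X) := by
      intro h
      apply hgC
      rw [hgwu]
      exact mul_mem h huC
    have hwo : (orderOf w).Coprime p :=
      Nat.Coprime.coprime_dvd_left (orderOf_dvd_of_pow_eq_one hwm)
        (((Nat.Prime.coprime_iff_not_dvd hp.out).mpr hpm).symm)
    apply hx1
    apply cyclic_fix_trivial P.isPGroup' hc hwN hwo hwC hxP
    rw [hxZ w]
    group
  have hnd := MonoidHom.not_dvd_card_ker_transferSylow P hN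
  apply hnd
  refine hd.trans (Subgroup.card_dvd_of_le ?_)
  rw [commutator_def, Subgroup.commutator_le]
  intro a _ b _
  rw [MonoidHom.mem_ker, map_commutatorElement, commutatorElement_eq_one_iff_mul_comm]
  apply Subtype.ext
  exact hcomm _ (MonoidHom.transferSylow P hN a).2 _ (MonoidHom.transferSylow P hN b).2

end Abstract

variable {G : Type u} [Group G] [Finite G] {M E : Subgroup G}

/-- An element of prime order in `τ₃(M)` is moved by an element of prime power order `q ∉ τ₃(M)`. -/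
theorem exists_mover (hG : IsMinSimpleOddOrder G) (hM : IsCoatom M) (hE : IsComplIn E (sigmaCore M) M)
    {a : ℕ} [ha : Fact a.Prime] (hτ : a ∈ tau3 M) {x : G} (hx : x ∈ E) (hxo : orderOf x = a) :
    ∃ (q k : ℕ) (v : G), q.Prime ∧ q ∉ tau3 M ∧ v ∈ E ∧ v ^ q ^ k = 1 ∧ x * v ≠ v * x := by
  classical
  by_contra hcon
  push Not at hcon
  have hx1 : x ≠ 1 := by
    rintro rfl
    rw [orderOf_one] at hxo
    exact ha.out.one_lt.ne hxo
  have hx1' : x ^ a ^ 1 = 1 := by rw [pow_one, ← hxo]; exact pow_orderOf_eq_one x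
  have hxD : x ∈ ⁅E, E⁆ := mem_comm_of_tau3 hG hM hE hτ hx hx1'
  have hab := (Cfsg.Agent.S1420.result hG M hM E hE).2.1
  have hEx : E ≤ centralizer ({x} : Set G) := by
    apply le_of_sylow_le
    intro ℓ hℓ
    obtain ⟨T, hT⟩ := exists_isSylowIn ℓ E
    refine ⟨T, hT, ?_⟩
    intro w hw
    rw [mem_cz]
    by_cases hℓτ : ℓ ∈ tau3 M
    · have hwD : w ∈ ⁅E, E⁆ := tau3_le_commutator hG hM hE hℓτ hT.1 hT.2.1 hw
      have := hab.is_comm.comm (⟨x, hxD⟩ : ↥⁅E, E⁆) ⟨w, hwD⟩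
      exact congrArg Subtype.val this
    · obtain ⟨k, hk⟩ := hT.2.1 ⟨w, hw⟩
      have hk' : w ^ ℓ ^ k = 1 := by simpa [Subtype.ext_iff] using hk
      exact hcon ℓ k w hℓ.out hℓτ (hT.1 hw) hk'
  obtain ⟨T, hT, hxT⟩ := exists_isSylowIn_ge a (zpowers_le.mpr hx) (isPGroup_zpowers_pow hx1')
  have hTc : IsCyclic T := isCyclic_of_rank_one hG (hT.1.trans hE.1) hT.2.1 hτ.2.2.2
  let P : Sylow a E := hT.toSylow
  have hPc : IsCyclic (P : Subgroup E) := (Subgroup.subgroupOfEquivOfLe hT.1).symm.isCyclic.mp hTc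
  refine not_central_of_cyclic_sylow (X := E) P hPc (x := ⟨x, hx⟩) (hxT (mem_zpowers x)) ?_ ?_ ?_
  · intro h
    exact hx1 (congrArg Subtype.val h)
  · intro g
    apply Subtype.ext
    exact (mem_cz.mp (hEx g.2)).symm
  · rw [card_commutator_eq]
    rw [← hxo]
    exact Subgroup.orderOf_dvd_natCard _ hxD

/-- `p ∈ κ(M)` gives `p`-rank one. -/
theorem rank1_of_kappa {p : ℕ} (hp : p ∈ kappa M) : PRankLE p 1 M := by
  haveI : Fact p.Prime := ⟨hp.1⟩
  intro A hAc hAe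
  have hAp : IsPGroup p A := by
    intro a
    exact ⟨1, Subtype.ext (by simpa using hAe a a.2)⟩
  obtain ⟨P, hP⟩ := hAp.exists_le_sylow
  have hPc := (hp.2.2.2 P).1
  have hAcyc : IsCyclic A := by
    have h1 : IsCyclic (A.subgroupOf (P : Subgroup M)) := inferInstance
    exact (Subgroup.subgroupOfEquivOfLe hP).isCyclic.mp h1
  obtain ⟨g, hg⟩ := IsCyclic.exists_generator (α := A)
  have h1 : orderOf g = Nat.card A := orderOf_eq_card_of_forall_mem_zpowers hg
  have h2 : g ^ p = 1 := Subtype.ext (by simpa using hAe g g.2)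
  rw [← h1, pow_one]
  exact Nat.le_of_dvd hp.1.pos (orderOf_dvd_of_pow_eq_one h2)

/-- Fixed points of elements of order `p ∈ κ(M)` of a complement. -/
theorem kappa_fix (hG : IsMinSimpleOddOrder G) (hM : IsCoatom M) (hE : IsComplIn E (sigmaCore M) M) {p : ℕ}
    (hp : p ∈ kappa M) {x : G} (hx : x ∈ E) (hxo : orderOf x = p) :
    ∃ y ∈ sigmaCore M, y ≠ 1 ∧ x * y = y * x := by
  haveI : Fact p.Prime := ⟨hp.1⟩
  have hx1' : x ^ p ^ 1 = 1 := by rw [pow_one, ← hxo]; exact pow_orderOf_eq_one x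
  obtain ⟨T, hT, hxT⟩ := exists_isSylowIn_ge p (zpowers_le.mpr hx) (isPGroup_zpowers_pow hx1')
  have hTM := isSylowIn_of_compl hG hM hE hp.2.2.1 hT
  have hTc : IsCyclic T := isCyclic_of_rank_one hG hTM.1 hT.2.1 (rank1_of_kappa hp)
  obtain ⟨-, x₀, hx₀, hx₀1, y, hy, hy1, hxy⟩ := hp.2.2.2 hTM.toSylow
  have hx₀T : (x₀ : G) ∈ T := hx₀
  have hx₀1' : (x₀ : G) ≠ 1 := by simpa using hx₀1
  exact ⟨y, hy, hy1, F1el hG hM hE hT hTc hx₀T hx₀1' hy hxy (hxT (mem_zpowers x))⟩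

/-- Rank one, with fixed points: `κ(M)`. -/
theorem kappa_of_fix (hG : IsMinSimpleOddOrder G) (hM : IsCoatom M) (hE : IsComplIn E (sigmaCore M) M) {p : ℕ}
    (hpp : p.Prime) (hr : PRankLE p 1 M) {x : G} (hx : x ∈ E) (hxo : orderOf x = p) {y : G}
    (hy : y ∈ sigmaCore M) (hy1 : y ≠ 1) (hxy : x * y = y * x) : p ∈ kappa M := by
  classical
  haveI : Fact p.Prime := ⟨hpp⟩
  have hx1 : x ≠ 1 := by
    rintro rfl
    rw [orderOf_one] at hxo
    exact hpp.one_lt.ne hxo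
  have hpσ : p ∉ sigma M := not_sigma_of_mem_compl hG hM hE hx hpp (hxo ▸ dvd_rfl)
  have hxM : x ∈ M := hE.1 hx
  refine ⟨hpp, hxo ▸ Subgroup.orderOf_dvd_natCard _ hxM, hpσ, ?_⟩
  intro P
  have hP : IsSylowIn p ((P : Subgroup M).map M.subtype) M := isSylowIn_map P
  refine ⟨?_, ?_⟩
  · have h1 := isCyclic_of_rank_one hG hP.1 hP.2.1 hr
    exact (Subgroup.equivMapOfInjective (P : Subgroup M) M.subtype M.subtype_injective).symm.isCyclic.mp h1
  · have hx1' : x ^ p ^ 1 = 1 := by rw [pow_one, ← hxo]; exact pow_orderOf_eq_one x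
    obtain ⟨T, hT, hxT⟩ := exists_isSylowIn_ge p (zpowers_le.mpr hxM) (isPGroup_zpowers_pow hx1')
    obtain ⟨m, hm, hmT⟩ := hT.exists_conj hP
    have hmx : m * x * m⁻¹ ∈ (P : Subgroup M).map M.subtype := by
      rw [hmT]
      exact conj_mem_cj (hxT (mem_zpowers x))
    obtain ⟨u, hu, hux⟩ := hmx
    refine ⟨u, hu, ?_, m * y * m⁻¹, ?_, ?_, ?_⟩
    · intro h
      rw [h] at hux
      apply hx1
      have : m * x * m⁻¹ = 1 := by simpa using hux.symm
      simpa using this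
    · exact (mem_normalizer_iff.mp (le_normalizer_sigmaCore hm) y).mp hy
    · simpa using hy1
    · have hux' : (u : G) = m * x * m⁻¹ := hux
      rw [hux']
      have : m * x * m⁻¹ * (m * y * m⁻¹) = m * (x * y) * m⁻¹ := by group
      rw [this, hxy]
      group

/-- The `E`-part of an element of `M` commuting with an element of `E`. -/
theorem exists_E_part (hE : IsComplIn E (sigmaCore M) M) {ρ b : G} (hρ : ρ ∈ E) (hb : b ∈ M) (hρb : ρ * b = b * ρ)
    {a : ℕ} (ha : a.Prime) (hbo : orderOf b = a) (hσ : a ∉ sigma M) :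
    ∃ ξ ∈ E, orderOf ξ = a ∧ ρ * ξ = ξ * ρ := by
  classical
  haveI : Fact a.Prime := ⟨ha⟩
  obtain ⟨ξ, hξ, h, hh, rfl⟩ := hE.2.2.2 b hb
  have hN := fun {m} (hm : m ∈ M) => le_normalizer_sigmaCore (M := M) hm
  -- commuting with `ρ`
  have hρξ : ρ * ξ = ξ * ρ := by
    have h1 : (ρ * ξ * ρ⁻¹) * (ρ * h * ρ⁻¹) = ξ * h := by
      have : (ρ * ξ * ρ⁻¹) * (ρ * h * ρ⁻¹) = ρ * (ξ * h) * ρ⁻¹ := by group
      rw [this, hρb]
      group
    have h2 : ξ⁻¹ * (ρ * ξ * ρ⁻¹) ∈ E ⊓ sigmaCore M := by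
      refine Subgroup.mem_inf.mpr ⟨E.mul_mem (E.inv_mem hξ) (E.mul_mem (E.mul_mem hρ hξ) (E.inv_mem hρ)), ?_⟩
      have e : ξ⁻¹ * (ρ * ξ * ρ⁻¹) = h * (ρ * h * ρ⁻¹)⁻¹ := by
        rw [eq_mul_inv_iff_mul_eq, mul_assoc, h1]
        group
      rw [e]
      exact mul_mem hh (inv_mem ((mem_normalizer_iff.mp (hN (hE.1 hρ)) h).mp hh))
    rw [hE.2.2.1, Subgroup.mem_bot] at h2
    have h3 : ρ * ξ * ρ⁻¹ = ξ := by
      rw [inv_mul_eq_one] at h2
      exact h2.symm
    rw [mul_inv_eq_iff_eq_mul] at h3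
    exact h3
  refine ⟨ξ, hξ, ?_, hρξ⟩
  -- the order of `ξ`
  have hpow : ∀ n : ℕ, ∃ h' ∈ sigmaCore M, (ξ * h) ^ n = ξ ^ n * h' := by
    intro n
    induction n with
    | zero => exact ⟨1, one_mem _, by simp⟩
    | succ n ih =>
      obtain ⟨h', hh', e⟩ := ih
      refine ⟨(ξ⁻¹ * h' * ξ) * h, mul_mem ?_ hh, ?_⟩
      · have := (mem_normalizer_iff.mp (hN (hE.1 (E.inv_mem hξ))) h').mp hh'
        simpa using this
      · rw [pow_succ, e, pow_succ]
        group
  obtain ⟨h', hh', e⟩ := hpow a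
  rw [← hbo, pow_orderOf_eq_one, hbo] at e
  have hξa : ξ ^ a = 1 := by
    have h2 : ξ ^ a ∈ E ⊓ sigmaCore M := by
      refine Subgroup.mem_inf.mpr ⟨pow_mem hξ a, ?_⟩
      have : ξ ^ a = h'⁻¹ := by
        rw [eq_inv_iff_mul_eq_one]
        exact e.symm
      rw [this]
      exact inv_mem hh'
    rw [hE.2.2.1, Subgroup.mem_bot] at h2
    exact h2
  apply orderOf_eq_prime hξa
  rintro rfl
  apply hσ
  rw [one_mul] at hbo
  exact sigma_of_mem_sigmaCore hh ha (by rw [hbo])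

end Cfsg.Agent.Lib.BGK3
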