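import Mathlib
import Cfsg.Agent.Lib.BGK3

/-!
# Section 14 of Bender-Glauberman: a maximal subgroup is determined, up to conjugacy, by any prime of `σ`.
-/

set_option autoImplicit false
set_option linter.unusedSectionVars false
set_option linter.unusedVariables false
set_option linter.style.haveILetI false
set_option linter.unusedSimpArgs false

namespace Cfsg.Agent.Lib.BGK4

open Cfsg Subgroup Cfsg.Agent.Lib.CoprimeInv Cfsg.Agent.Lib.BGTrans Cfsg.Agent.Lib.BGM1 Cfsg.Agent.Lib.BGM2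
  Cfsg.Agent.Lib.BGK0 Cfsg.Agent.Lib.BGK1 Cfsg.Agent.Lib.BGK2 Cfsg.Agent.Lib.BGK3
open scoped commutatorElement

universe u

variable {G : Type u} [Group G] [Finite G] {M E : Subgroup G}

theorem ne_one_of_order {x : G} {p : ℕ} (hp : p.Prime) (hx : orderOf x = p) : x ≠ 1 := by
  rintro rfl
  rw [orderOf_one] at hx
  exact hp.one_lt.ne hx

theorem pow_order_eq_one {x : G} {p : ℕ} (hx : orderOf x = p) : x ^ p = 1 := by
  rw [← hx]; exact pow_orderOf_eq_one x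

theorem pow_order_eq_one' {x : G} {p : ℕ} (hx : orderOf x = p) : x ^ p ^ 1 = 1 := by
  rw [pow_one, ← hx]; exact pow_orderOf_eq_one x

/-- A maximal subgroup containing the normalizer of a subgroup of prime order. -/
theorem exists_coatom_norm (hG : IsMinSimpleOddOrder G) {x : G} {p : ℕ} (hp : p.Prime) (hx : orderOf x = p) :
    ∃ L : Subgroup G, IsCoatom L ∧ normalizer ((zpowers x : Subgroup G) : Set G) ≤ L := by
  haveI : Fact p.Prime := ⟨hp⟩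
  apply Cfsg.Agent.Lib.BGTau5.exists_coatom_ge
  apply IsMin.normalizer_ne_top hG
  · rw [Ne, zpowers_eq_bot]
    exact ne_one_of_order hp hx
  · exact IsMin.isPGroup_ne_top hG (isPGroup_zpowers_order hx)

theorem mem_cent_of_mem_zpowers {x y u : G} (h : x * y = y * x) (hu : u ∈ zpowers x) : u * y = y * u := by
  obtain ⟨n, rfl⟩ := Cfsg.Agent.Lib.BGTau3.exists_nat_of_mem_zpowers hu
  exact (Commute.pow_left h n).eq

/-- The primes of `⟨x⟩⟨y⟩` outside `σ(M)`. -/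
theorem primes_sup_not_sigma {x y : G} {p r : ℕ} {L : Subgroup G} (hxy : x * y = y * x) (hp : p.Prime) (hr : r.Prime)
    (hxo : orderOf x = p) (hyo : orderOf y = r) (h1 : p ∉ sigma L) (h2 : r ∉ sigma L) :
    ∀ u : ℕ, u.Prime → u ∣ Nat.card ↥(zpowers x ⊔ zpowers y) → u ∉ sigma L := by
  intro u hu hd
  rcases primes_sup_zpowers hxy hu hd with h | h
  · rw [hxo] at h
    rw [(Nat.prime_dvd_prime_iff_eq hu hp).mp h]
    exact h1
  · rw [hyo] at h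
    rw [(Nat.prime_dvd_prime_iff_eq hu hr).mp h]
    exact h2

/-- The junction lemma. -/
theorem lemmaJ (C : Cx G) {M U L₁ : Subgroup G} (hM : IsCoatom M) (hU : IsCoatom U) (hL₁ : IsCoatom L₁) {q a a' : ℕ}
    (hqM : q ∈ tau1 M) (hqU : q ∈ tau1 U) {ρ b b' : G} (hρM : ρ ∈ M) (hρU : ρ ∈ U) (hρo : orderOf ρ = q)
    (hb : b ∈ sigmaCore M) (hρb : ρ * b = b * ρ) (ha : a.Prime) (hbo : orderOf b = a)
    (hb' : b' ∈ sigmaCore U) (hρb' : ρ * b' = b' * ρ) (ha' : a'.Prime) (hb'o : orderOf b' = a')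
    (hN : normalizer ((zpowers ρ : Subgroup G) : Set G) ≤ L₁) (hqL : q ∈ sigma L₁)
    (hne : ∀ g : G, U ≠ cj M g) : ∃ c : G, ρ * c = c * ρ ∧ c * b' * c⁻¹ ∈ M := by
  classical
  have hG := C.hG
  haveI : Fact q.Prime := ⟨hqM.1⟩
  haveI : Fact a.Prime := ⟨ha⟩
  haveI : Fact a'.Prime := ⟨ha'⟩
  obtain ⟨hCb, hΓb⟩ := lemmaA' C hM hqM hρM hρo hb hρb ha hbo
  obtain ⟨hCb', hΓb'⟩ := lemmaA' C hU hqU hρU hρo hb' hρb' ha' hb'o
  have hρ1 := ne_one_of_order hqM.1 hρo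
  have hb1 := ne_one_of_order ha hbo
  have hb'1 := ne_one_of_order ha' hb'o
  have hYL : centralizer ({ρ} : Set G) ≤ L₁ := (Cfsg.Agent.Lib.BGTau5.cent_le_norm ρ).trans hN
  have hρL : ρ ∈ L₁ := hYL (mem_cz.mpr rfl)
  have hρσ : ρ ∈ sigmaCore L₁ := mem_sigmaCore_of_pow hG hL₁ hqL hρL (pow_order_eq_one' hρo)
  have hbY : b ∈ centralizer ({ρ} : Set G) := mem_cz.mpr hρb
  have hb'Y : b' ∈ centralizer ({ρ} : Set G) := mem_cz.mpr hρb'
  have haL : a ∉ sigma L₁ := by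
    intro h
    obtain ⟨g, hg⟩ := hΓb L₁ hL₁ h
    exact hqM.2.1 (sigma_of_conj hg hqL)
  have ha'L : a' ∉ sigma L₁ := by
    intro h
    obtain ⟨g, hg⟩ := hΓb' L₁ hL₁ h
    exact hqU.2.1 (sigma_of_conj hg hqL)
  have hτa : a ∉ tau2 L₁ := by
    intro h
    have hh := Cfsg.Agent.Lib.BGTau7.cent_of_tau2_element hG hL₁ (hYL hbY) hb1
      (fun u hu hd => by
        rw [hbo] at hd
        rw [(Nat.prime_dvd_prime_iff_eq hu ha).mp hd]
        exact h)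
      ⟨hYL hbY, ρ, hρσ, hρ1, hρb.symm⟩
    have h1 : M = L₁ := hh.2 M hM hCb.1
    exact hqM.2.1 (h1 ▸ hqL)
  have hτa' : a' ∉ tau2 L₁ := by
    intro h
    have hh := Cfsg.Agent.Lib.BGTau7.cent_of_tau2_element hG hL₁ (hYL hb'Y) hb'1
      (fun u hu hd => by
        rw [hb'o] at hd
        rw [(Nat.prime_dvd_prime_iff_eq hu ha').mp hd]
        exact h)
      ⟨hYL hb'Y, ρ, hρσ, hρ1, hρb'.symm⟩
    have h1 : U = L₁ := hh.2 U hU hCb'.1
    exact hqU.2.1 (h1 ▸ hqL)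
  have hYs : Group.IsSolvable (centralizer ({ρ} : Set G)) :=
    IsMin.solvable hG (IsMin.centralizer_singleton_ne_top hG hρ1)
  obtain ⟨T, hT, hbT⟩ := exists_hall_ge ({a, a'} : Set ℕ) hYs (zpowers_le.mpr hbY)
    (fun u hu hd => by
      rw [prime_eq_of_dvd_card_zpowers ha hbo hu hd]
      exact Set.mem_insert _ _)
  obtain ⟨c, hc, hcT⟩ := exists_conj_le_hall ({a, a'} : Set ℕ) hYs hT (zpowers_le.mpr hb'Y)
    (fun u hu hd => by
      rw [prime_eq_of_dvd_card_zpowers ha' hb'o hu hd]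
      exact Set.mem_insert_of_mem _ rfl)
  have hTL : T ≤ L₁ := hT.1.trans hYL
  have hρc : ρ * c = c * ρ := mem_cz.mp hc
  refine ⟨c, hρc, ?_⟩
  set b'' : G := c * b' * c⁻¹ with hb''
  have hb''T : b'' ∈ T := hcT (conj_mem_cj (mem_zpowers b'))
  have hbT' : b ∈ T := hbT (mem_zpowers b)
  have hb''o : orderOf b'' = a' := by rw [hb'', orderOf_conj_eq, hb'o]
  obtain ⟨E₁, hE₁, hTE₁⟩ := exists_compl_ge hG hL₁ hTL (fun u hu hd => by
    have := hT.2.1 u hu hd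
    rcases this with h | h
    · rw [h]; exact haL
    · rw [Set.mem_singleton_iff.mp h]; exact ha'L)
  have hbL : b ∈ L₁ := hYL hbY
  have hb'L : b' ∈ L₁ := hYL hb'Y
  by_cases ha3 : a ∈ tau3 L₁
  · have h1 := tau3_normal hG hL₁ hE₁ ha3 (hTE₁ hbT') hbo (hTE₁ hb''T)
    have h2 := Cfsg.Agent.Lib.BGTau5.fusion_norm hG hM (sigma_of_mem_sigmaCore hb ha (by rw [hbo]))
      (S := zpowers b) (zpowers_le.mpr (sigmaCore_le hb)) (mem_zpowers b) hb1 (pow_order_eq_one hbo) hCb.1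
    exact h2 h1
  by_cases ha'3 : a' ∈ tau3 L₁
  · have h1 := tau3_normal hG hL₁ hE₁ ha'3 (hTE₁ hb''T) hb''o (hTE₁ hbT')
    have h2 := Cfsg.Agent.Lib.BGTau5.fusion_norm hG hU (sigma_of_mem_sigmaCore hb' ha' (by rw [hb'o]))
      (S := zpowers b') (zpowers_le.mpr (sigmaCore_le hb')) (mem_zpowers b') hb'1 (pow_order_eq_one hb'o) hCb'.1
    set b₀ : G := c⁻¹ * b * c with hb₀
    have hb₀N : b₀ ∈ normalizer ((zpowers b' : Subgroup G) : Set G) := by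
      have h3 := normalizer_cj_of_le (g := c⁻¹) (zpowers_le.mpr h1)
      have h4 : cj (zpowers b'') c⁻¹ = zpowers b' := by
        rw [hb'', Cfsg.Agent.Lib.BGP3A.zpowers_cj, cj_cj_inv]
      rw [h4] at h3
      have h5 : b₀ ∈ cj (zpowers b) c⁻¹ := by
        have := conj_mem_cj (g := c⁻¹) (mem_zpowers b)
        simpa [hb₀] using this
      exact h3 h5
    have hb₀U : b₀ ∈ U := h2 hb₀N
    have hb₀o : orderOf b₀ = a := by
      have : b₀ = c⁻¹ * b * c⁻¹⁻¹ := by rw [hb₀]; group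
      rw [this, orderOf_conj_eq, hbo]
    have haU : a ∉ sigma U := by
      intro h
      obtain ⟨g, hg⟩ := hΓb U hU h
      exact hne g hg
    have hρb₀ : ρ * b₀ = b₀ * ρ := by
      have h5 : ρ * c⁻¹ = c⁻¹ * ρ := by
        have := (Commute.inv_right (hρc : Commute ρ c)).eq
        exact this
      rw [hb₀]
      calc ρ * (c⁻¹ * b * c) = (ρ * c⁻¹) * b * c := by group
        _ = c⁻¹ * (ρ * b) * c := by rw [h5]; group
        _ = c⁻¹ * b * (ρ * c) := by rw [hρb]; group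
        _ = c⁻¹ * b * c * ρ := by rw [hρc]; group
    obtain ⟨EU, hEU, hYEU⟩ := exists_compl_ge hG hU (Y := zpowers ρ ⊔ zpowers b₀)
      (sup_le (zpowers_le.mpr hρU) (zpowers_le.mpr hb₀U))
      (primes_sup_not_sigma hρb₀ hqM.1 ha hρo hb₀o hqU.2.1 haU)
    have h6 := F2el C hU hEU hqU (hYEU (mem_sup_left (mem_zpowers ρ))) hρo
      (hYEU (mem_sup_right (mem_zpowers b₀))) (by rw [hb₀o]; exact ha) hρb₀ hb' hρb'
    apply hCb.1
    rw [mem_cz]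
    have h7 : c * (b₀ * b') * c⁻¹ = b * b'' := by rw [hb₀, hb'']; group
    have h8 : c * (b' * b₀) * c⁻¹ = b'' * b := by rw [hb₀, hb'']; group
    rw [← h7, ← h8, h6]
  · -- both in `τ₁`
    have hEs : Group.IsSolvable E₁ := solvable_of_le_coatom hG hL₁ hE₁.1
    have hcl : ∀ {u : ℕ}, u.Prime → u ∉ sigma L₁ → u ∉ tau2 L₁ → u ∉ tau3 L₁ → u ∣ Nat.card L₁ → u ∈ tau1 L₁ := by
      intro u hu h1 h2 h3 h4
      rcases tau_cases hG hL₁ hu h1 h4 with h | h | h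
      · exact h
      · exact absurd h h2
      · exact absurd h h3
    have ha1 := hcl ha haL hτa ha3 (hbo ▸ Subgroup.orderOf_dvd_natCard _ hbL)
    have ha'1 := hcl ha' ha'L hτa' ha'3 (hb'o ▸ Subgroup.orderOf_dvd_natCard _ hb'L)
    obtain ⟨F, hF, hTF⟩ := exists_hall_ge (tau1 L₁) hEs hTE₁ (fun u hu hd => by
      have := hT.2.1 u hu hd
      rcases this with h | h
      · rw [h]; exact ha1
      · rw [Set.mem_singleton_iff.mp h]; exact ha'1)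
    have hFc := tau1_cyclic hG hL₁ hE₁ hF
    apply hCb.1
    rw [mem_cz]
    exact comm_of_cyclic hFc (hTF hbT') (hTF hb''T)

/-- CL1: an element of prime order in `τ₃(M)` of a complement normalizing a Sylow subgroup on which the
`τ₁`-elements act without fixed points cannot commute with a `τ₁`-element with fixed points in `M_σ`. -/
theorem CL1 (C : Cx G) {M E S : Subgroup G} (hM : IsCoatom M) (hE : IsComplIn E (sigmaCore M) M) {r : ℕ}
    [hrf : Fact r.Prime] (hrσ : r ∈ sigma M) (hS : S ≤ M) (hSr : IsPGroup r S) (hS1 : S ≠ ⊥)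
    (hES : E ≤ normalizer (S : Set G)) (hrβ : r ∉ beta M)
    (hall : ∀ p : ℕ, p.Prime → p ∣ Nat.card E → p ∈ tau1 M ∨ p ∈ tau3 M)
    (hfpf : ∀ ρ ∈ E, orderOf ρ ∈ tau1 M → ∀ s ∈ S, ρ * s = s * ρ → s = 1)
    {q a : ℕ} {x ρ b : G} (ha : a ∈ tau3 M) (hx : x ∈ E) (hxo : orderOf x = a) (hq : q ∈ tau1 M) (hρ : ρ ∈ E)
    (hρo : orderOf ρ = q) (hxρ : x * ρ = ρ * x) (hb : b ∈ sigmaCore M) (hb1 : b ≠ 1) (hρb : ρ * b = b * ρ) :
    False := by
  classical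
  have hG := C.hG
  haveI : Fact a.Prime := ⟨ha.1⟩
  haveI : Fact q.Prime := ⟨hq.1⟩
  have hx1 := ne_one_of_order ha.1 hxo
  have hρ1 := ne_one_of_order hq.1 hρo
  have hρq : (orderOf ρ).Prime := by rw [hρo]; exact hq.1
  have hxq : (orderOf x).Prime := by rw [hxo]; exact ha.1
  obtain ⟨a₀, n₀, ha₀, -, hb₀o⟩ := exists_prime_pow hb1
  set b₀ : G := b ^ n₀ with hb₀
  have hb₀H : b₀ ∈ sigmaCore M := pow_mem hb n₀
  have hρb₀ : ρ * b₀ = b₀ * ρ := by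
    rw [hb₀]
    exact (Commute.pow_right (hρb : Commute ρ b) n₀).eq
  obtain ⟨hCb, hΓb⟩ := lemmaA' C hM hq (hE.1 hρ) hρo hb₀H hρb₀ ha₀ hb₀o
  have hxb : x * b₀ = b₀ * x := F2el C hM hE hq hρ hρo hx hxq hxρ.symm hb₀H hρb₀
  obtain ⟨L, hL, hNL⟩ := exists_coatom_norm hG ha.1 hxo
  have haL : a ∈ sigma L := G2 C hM hE ha.2.2.2 hx hxo hb₀H hxb ha₀ hb₀o hCb.1 hΓb hL hNL
  have hEL : E ≤ L := (tau3_normal hG hM hE ha hx hxo).trans hNL
  have har : a ≠ r := fun h => ha.2.1 (h ▸ hrσ)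
  have hxD : x ∈ ⁅E, E⁆ := mem_comm_of_tau3 hG hM hE ha hx (pow_order_eq_one' hxo)
  have hxC : x ∈ centralizer (S : Set G) := cent_of_comm hG hM hrβ hS hSr
    (Subgroup.commutator_mono hE.1 hE.1 hxD)
    (by rw [hxo]; exact (Nat.coprime_primes ha.1 hrf.out).mpr har) (hES hx)
  have hSL : S ≤ L := by
    intro s hs
    apply hNL
    apply Cfsg.Agent.Lib.BGTau5.cent_le_norm
    rw [mem_cz]
    exact (Subgroup.mem_centralizer_iff.mp hxC s hs).symm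
  have hxσ : x ∈ sigmaCore L := mem_sigmaCore_of_pow hG hL haL (hEL hx) (pow_order_eq_one' hxo)
  obtain ⟨q₀, k, v, hq₀, hq₀τ, hvE, hvk, hvx⟩ := exists_mover hG hM hE ha hx hxo
  haveI : Fact q₀.Prime := ⟨hq₀⟩
  have hEs : Group.IsSolvable E := solvable_of_le_coatom hG hM hE.1
  have hv1 : v ≠ 1 := by
    rintro rfl
    simp at hvx
  have hvq : ∀ {w : G}, w ^ q₀ ^ k = 1 → w ≠ 1 → q₀ ∣ orderOf w := by
    intro w hw hw1
    obtain ⟨j, -, hj⟩ := (Nat.dvd_prime_pow hq₀).mp (orderOf_dvd_of_pow_eq_one hw)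
    have hj0 : j ≠ 0 := by
      rintro rfl
      rw [pow_zero] at hj
      exact hw1 (orderOf_eq_one_iff.mp hj)
    rw [hj]
    exact dvd_pow_self q₀ hj0
  have hq₀E : q₀ ∣ Nat.card E := (hvq hvk hv1).trans (Subgroup.orderOf_dvd_natCard _ hvE)
  have hq₀1 : q₀ ∈ tau1 M := (hall q₀ hq₀ hq₀E).resolve_right hq₀τ
  obtain ⟨F, hF, hρF⟩ := exists_hall_ge (tau1 M) hEs (zpowers_le.mpr hρ)
    (fun u hu hd => by rw [prime_eq_of_dvd_card_zpowers hq.1 hρo hu hd]; exact hq)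
  have hFc := tau1_cyclic hG hM hE hF
  have hzvp : IsPGroup q₀ (zpowers v) := isPGroup_zpowers_pow hvk
  obtain ⟨e, he, heF⟩ := exists_conj_le_hall (tau1 M) hEs hF (zpowers_le.mpr hvE) (fun u hu hd => by
    have h1 : u ∣ q₀ ^ k := by
      rw [Nat.card_zpowers] at hd
      exact hd.trans (orderOf_dvd_of_pow_eq_one hvk)
    rw [(Nat.prime_dvd_prime_iff_eq hu hq₀).mp (hu.dvd_of_dvd_pow h1)]
    exact hq₀1)
  set v' : G := e * v * e⁻¹ with hv'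
  have hv'F : v' ∈ F := heF (conj_mem_cj (mem_zpowers v))
  have hv'k : v' ^ q₀ ^ k = 1 := by
    rw [hv', conj_pow, hvk]
    group
  have hv'1 : v' ≠ 1 := by
    intro h
    apply hv1
    have h2 : e * v * e⁻¹ = 1 := h
    simpa using h2
  have hv'x : x * v' ≠ v' * x := by
    intro h
    apply hvx
    set x' : G := e⁻¹ * x * e with hx'
    have hx'z : x' ∈ zpowers x := by
      have := (mem_normalizer_iff.mp (tau3_normal hG hM hE ha hx hxo (E.inv_mem he)) x).mp (mem_zpowers x)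
      simpa [hx'] using this
    have hx'1 : x' ≠ 1 := by
      intro h1
      apply hx1
      have h2 : e⁻¹ * x * e = 1 := h1
      have h3 : x = e * (e⁻¹ * x * e) * e⁻¹ := by group
      rw [h3, h2]
      group
    have hz : zpowers x' = zpowers x :=
      Cfsg.Agent.Lib.BGTau7.zpowers_eq_of_mem (pow_order_eq_one hxo) hx'1 hx'z
    have hcomm : x' * v = v * x' := by
      have h4 : e * (x' * v) * e⁻¹ = x * v' := by rw [hx', hv']; group
      have h5 : e * (v * x') * e⁻¹ = v' * x := by rw [hx', hv']; group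
      have h6 : e * (x' * v) * e⁻¹ = e * (v * x') * e⁻¹ := by rw [h4, h5, h]
      exact mul_left_cancel (mul_right_cancel h6)
    have hxz : x ∈ zpowers x' := by
      rw [hz]
      exact mem_zpowers x
    exact mem_cent_of_mem_zpowers hcomm hxz
  have hq₀v' : q₀ ∣ orderOf v' := hvq hv'k hv'1
  set ρ₂ : G := v' ^ (orderOf v' / q₀) with hρ₂
  have hρ₂o : orderOf ρ₂ = q₀ := exists_prime_pow' hv'1 hq₀ hq₀v'
  have hρ₂F : ρ₂ ∈ F := pow_mem hv'F _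
  have hρ₂E : ρ₂ ∈ E := hF.1 hρ₂F
  have hρ₂q : (orderOf ρ₂).Prime := by rw [hρ₂o]; exact hq₀
  have hρ₂1 := ne_one_of_order hq₀ hρ₂o
  have hρρ₂ : ρ * ρ₂ = ρ₂ * ρ := comm_of_cyclic hFc (hρF (mem_zpowers ρ)) hρ₂F
  have hbρ₂ : ρ₂ * b₀ = b₀ * ρ₂ := F2el C hM hE hq hρ hρo hρ₂E hρ₂q hρρ₂ hb₀H hρb₀
  have hxρ₂ : x * ρ₂ = ρ₂ * x := by
    by_contra hm
    obtain ⟨t, ht, htρ, htx⟩ := F3M hG hM hE ha hx hxo hρ₂E hq₀ hρ₂o hm
    have h1 : ρ * t = t * ρ := F2el C hM hE hq₀1 hρ₂E hρ₂o hρ hρq hρρ₂.symm ht htρ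
    exact htx (F2el C hM hE hq hρ hρo hx hxq hxρ.symm ht h1)
  have hq₀L : q₀ ∉ sigma L := by
    intro hσ
    have hρ₂σ : ρ₂ ∈ sigmaCore L := mem_sigmaCore_of_pow hG hL hσ (hEL hρ₂E) (pow_order_eq_one' hρ₂o)
    have hq₀σM : q₀ ∉ sigma M := hq₀1.2.1
    have hq₀r : q₀ ≠ r := fun h => hq₀σM (h ▸ hrσ)
    have hZN : zpowers ρ₂ ≤ normalizer (S : Set G) := zpowers_le.mpr (hES hρ₂E)
    have hcop : (Nat.card (zpowers ρ₂)).Coprime (Nat.card S) := by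
      rw [Nat.card_zpowers, hρ₂o]
      obtain ⟨j, hj⟩ := IsPGroup.iff_card.mp hSr
      rw [hj]
      exact Nat.Coprime.pow_right j ((Nat.coprime_primes hq₀ hrf.out).mpr hq₀r)
    have hzs : Group.IsSolvable (zpowers ρ₂) := inferInstance
    have hS₁L : ⁅S, zpowers ρ₂⁆ ≤ sigmaCore L :=
      Cfsg.Agent.Lib.BGP2B.comm_le_sigmaCore hG hL hSL (zpowers_le.mpr hρ₂σ)
    have hS₁S : ⁅S, zpowers ρ₂⁆ ≤ S := Cfsg.Agent.Lib.Glauberman.commutator_le_of_le_normalizer hZN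
    have hS₁1 : ⁅S, zpowers ρ₂⁆ ≠ ⊥ := by
      intro h
      rw [Subgroup.commutator_eq_bot_iff_le_centralizer] at h
      apply hS1
      rw [eq_bot_iff]
      intro s hs
      rw [Subgroup.mem_bot]
      have h1 := h hs
      rw [cz_zpowers, mem_cz] at h1
      exact hfpf ρ₂ hρ₂E (by rw [hρ₂o]; exact hq₀1) s hs h1
    have hS₁D : ⁅S, zpowers ρ₂⁆ ≤ ⁅sigmaCore L, sigmaCore L⁆ :=
      (Cfsg.Agent.Lib.BGTau4.le_comm_comm hZN hcop (Or.inl hzs)).trans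
        (Subgroup.commutator_mono hS₁L (zpowers_le.mpr hρ₂σ))
    obtain ⟨s₁, hs₁, hs₁o⟩ := exists_mem_order_p (hSr.to_le hS₁S) hS₁1
    have hrL : r ∈ sigma L := sigma_of_mem_sigmaCore (hS₁L hs₁) hrf.out (by rw [hs₁o])
    obtain ⟨-, hΓ'⟩ := s1423el hG hL hrL (sigmaCore_le (hS₁L hs₁)) hs₁o (Or.inr (hS₁D hs₁))
    obtain ⟨g, hg⟩ := hΓ' M hM hrσ
    have h1 := Cfsg.Agent.Lib.BGP2E.sigma_cj haL g
    rw [← hg] at h1
    exact ha.2.1 h1
  have hv'E : v' ∈ E := hF.1 hv'F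
  obtain ⟨E', hE', hv'E'⟩ := exists_compl_ge hG hL (zpowers_le.mpr (hEL hv'E)) (fun u hu hd => by
    have h1 : u ∣ q₀ ^ k := by
      rw [Nat.card_zpowers] at hd
      exact hd.trans (orderOf_dvd_of_pow_eq_one hv'k)
    rw [(Nat.prime_dvd_prime_iff_eq hu hq₀).mp (hu.dvd_of_dvd_pow h1)]
    exact hq₀L)
  by_cases hr1 : PRankLE q₀ 1 L
  · obtain ⟨T₂, hT₂, hvT₂⟩ := exists_isSylowIn_ge q₀ hv'E' (isPGroup_zpowers_pow hv'k)
    have hT₂c : IsCyclic T₂ := isCyclic_of_rank_one hG (hT₂.1.trans hE'.1) hT₂.2.1 hr1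
    have hρ₂T : ρ₂ ∈ T₂ := pow_mem (hvT₂ (mem_zpowers v')) _
    exact hv'x (F1el hG hL hE' hT₂ hT₂c hρ₂T hρ₂1 hxσ hxρ₂.symm (hvT₂ (mem_zpowers v'))).symm
  · have hτ₂ : q₀ ∈ tau2 L := ⟨hq₀, hq₀L, Cfsg.Agent.Lib.BGTau7.rank2_of_not_sigma hG hL hq₀ hq₀L, hr1⟩
    have hh := Cfsg.Agent.Lib.BGTau7.cent_of_tau2_element hG hL (hEL hρ₂E) hρ₂1
      (fun u hu hd => by
        rw [hρ₂o] at hd
        rw [(Nat.prime_dvd_prime_iff_eq hu hq₀).mp hd]
        exact hτ₂)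
      ⟨hEL hρ₂E, x, hxσ, hx1, hxρ₂.symm⟩
    obtain ⟨L₂, hL₂, hNL₂⟩ := exists_coatom_norm hG hq₀ hρ₂o
    have h1 : L₂ = L := hh.2 L₂ hL₂ ((Cfsg.Agent.Lib.BGTau5.cent_le_norm ρ₂).trans hNL₂)
    have h2 := G2 C hM hE hq₀1.2.2.2.2 hρ₂E hρ₂o hb₀H hbρ₂ ha₀ hb₀o hCb.1 hΓb hL₂ hNL₂
    rw [h1] at h2
    exact hq₀L h2

end Cfsg.Agent.Lib.BGK4
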