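import Mathlib
import Cfsg.Agent.Lib.BGK4

/-!
# Section 14 of Bender-Glauberman: `σ(M) ∩ σ(U) ≠ ∅` implies that `U` is conjugate to `M`.
-/

set_option autoImplicit false
set_option linter.unusedSectionVars false
set_option linter.unusedVariables false
set_option linter.style.haveILetI false
set_option linter.unusedSimpArgs false

namespace Cfsg.Agent.Lib.BGK5

open Cfsg Subgroup Cfsg.Agent.Lib.CoprimeInv Cfsg.Agent.Lib.BGTrans Cfsg.Agent.Lib.BGM1 Cfsg.Agent.Lib.BGM2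
  Cfsg.Agent.Lib.BGK0 Cfsg.Agent.Lib.BGK1 Cfsg.Agent.Lib.BGK2 Cfsg.Agent.Lib.BGK3 Cfsg.Agent.Lib.BGK4
open scoped commutatorElement

universe u

variable {G : Type u} [Group G] [Finite G] {M E : Subgroup G}

/-- If `M_σ` is nilpotent, a Sylow subgroup of `M_σ` is normal in `M`. -/
theorem le_normalizer_of_nilpotent {r : ℕ} [Fact r.Prime] {S : Subgroup G} (hS : IsSylowIn r S (sigmaCore M))
    (hN : Group.IsNilpotent (sigmaCore M)) : M ≤ normalizer (S : Set G) := by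
  intro m hm
  apply mem_normalizer_of_cj_eq
  have h1 : IsSylowIn r (cj S m) (sigmaCore M) := hS.cj_of_normalizer (le_normalizer_sigmaCore hm)
  exact Subgroup.eq_of_le_of_card_ge (sylow_of_nilpotent_le hN hS h1.1 h1.2.1) (by rw [card_cj])

theorem kappa_all (hG : IsMinSimpleOddOrder G) (hM : IsCoatom M) (hnil : ¬ Group.IsNilpotent (sigmaCore M)) {p : ℕ}
    (hp : p.Prime) (hd : p ∣ Nat.card M) (hσ : p ∉ sigma M) : p ∈ kappa M := by
  by_contra hκ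
  have hP1 : ¬ (∀ q : ℕ, q.Prime → q ∣ Nat.card M → q ∉ sigma M → q ∈ kappa M) := fun h => hκ (h p hp hd hσ)
  haveI : Fact p.Prime := ⟨hp⟩
  obtain ⟨S⟩ : Nonempty (Sylow p M) := inferInstance
  exact hnil (Cfsg.Agent.S1429.result hG M hM hP1 p hd (fun h => h.elim hσ hκ) S).2.2

/-- An element of a `p`-group different from `1` has a power of order `p`. -/
theorem exists_pow_order {T : Subgroup G} {p : ℕ} [hp : Fact p.Prime] (hT : IsPGroup p T) {s : G} (hs : s ∈ T)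
    (hs1 : s ≠ 1) : ∃ n : ℕ, orderOf (s ^ n) = p := by
  obtain ⟨k, hk⟩ := hT ⟨s, hs⟩
  have hk' : s ^ p ^ k = 1 := by simpa [Subtype.ext_iff] using hk
  obtain ⟨j, -, hj⟩ := (Nat.dvd_prime_pow hp.out).mp (orderOf_dvd_of_pow_eq_one hk')
  have hj0 : j ≠ 0 := by
    rintro rfl
    rw [pow_zero] at hj
    exact hs1 (orderOf_eq_one_iff.mp hj)
  have hd : p ∣ orderOf s := by
    rw [hj]
    exact dvd_pow_self p hj0
  exact ⟨orderOf s / p, exists_prime_pow' hs1 hp.out hd⟩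

theorem not_le_comm_of_solvable {E : Subgroup G} (hs : Group.IsSolvable E) (hne : E ≠ ⊥) : ¬ E ≤ ⁅E, E⁆ := by
  intro h
  haveI : Nontrivial E := (Subgroup.nontrivial_iff_ne_bot E).mpr hne
  have h1 := Group.IsSolvable.commutator_lt_top_of_nontrivial E
  apply h1.ne
  rw [eq_top_iff]
  intro e _
  have h2 : (e : G) ∈ ⁅E, E⁆ := h e.2
  rw [← Subgroup.map_subtype_commutator E] at h2
  obtain ⟨z, hz, hze⟩ := h2
  have : z = e := Subtype.ext hze
  rwa [← this]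

/-- A complement of `M_σ` is not trivial. -/
theorem compl_ne_bot (hG : IsMinSimpleOddOrder G) (hM : IsCoatom M) (hE : IsComplIn E (sigmaCore M) M) (hne : M ≠ ⊥) :
    E ≠ ⊥ := by
  intro h
  have h1 := (Cfsg.Agent.S1426.result hG M hM E hE).2.1
  rw [h] at h1
  have h2 : ⁅sigmaCore M, (⊥ : Subgroup G)⁆ = ⊥ := Subgroup.commutator_bot_right _
  rw [h2] at h1
  exact Cfsg.Agent.Lib.BGTau7.sigmaCore_ne_bot hG hM hne h1.symm

/-- If all primes of `E` are in `τ₁ ∪ τ₃`, some prime is in `τ₁`. -/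
theorem exists_tau1 (hG : IsMinSimpleOddOrder G) (hM : IsCoatom M) (hE : IsComplIn E (sigmaCore M) M) (hne : M ≠ ⊥)
    (hall : ∀ p : ℕ, p.Prime → p ∣ Nat.card E → p ∈ tau1 M ∨ p ∈ tau3 M) :
    ∃ q : ℕ, q ∈ tau1 M ∧ q ∣ Nat.card E := by
  by_contra hcon
  push Not at hcon
  refine not_le_comm_of_solvable (solvable_of_le_coatom hG hM hE.1) (compl_ne_bot hG hM hE hne) ?_
  apply le_of_sylow_le
  intro ℓ hℓ
  obtain ⟨T, hT⟩ := exists_isSylowIn ℓ E
  refine ⟨T, hT, ?_⟩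
  by_cases hd : ℓ ∣ Nat.card E
  · rcases hall ℓ hℓ.out hd with h | h
    · exact absurd hd (hcon ℓ h)
    · exact tau3_le_commutator hG hM hE h hT.1 hT.2.1
  · have hT1 : T = ⊥ := by
      by_contra hne
      exact hd ((Cfsg.Agent.Lib.BGUniq2.dvd_card_of_isPGroup hT.2.1 hne).trans (Subgroup.card_dvd_of_le hT.1))
    rw [hT1]
    exact bot_le

/-- Facts on one side. -/
theorem side (hG : IsMinSimpleOddOrder G) {U : Subgroup G} (hM : IsCoatom M) (hU : IsCoatom U) {r : ℕ} [hrf : Fact r.Prime]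
    (hr : r ∈ sigma M) {S : Subgroup G} (hSM : IsSylowIn r S M) (hNSU : normalizer (S : Set G) ≤ U) (hMU : M ≠ U)
    (hΓ : ¬ GammaP M r) :
    r ∉ beta M ∧ (∀ y ∈ M, orderOf y = r → y ∉ ⁅sigmaCore M, sigmaCore M⁆) ∧ ¬ Group.IsNilpotent (sigmaCore M) ∧
      (∀ p : ℕ, p.Prime → p ∣ Nat.card M → p ∉ sigma M → p ∈ kappa M) ∧ S ≠ ⊥ ∧ IsSylowIn r S (sigmaCore M) := by
  have hS1 : S ≠ ⊥ := Cfsg.Agent.Lib.BGTau6.sylow_ne_bot hSM hr.2.1
  obtain ⟨y, hyS, hyo⟩ := exists_mem_order_p hSM.2.1 hS1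
  have hyM := hSM.1 hyS
  have hβ : r ∉ beta M := fun h => hΓ (s1423el hG hM hr hyM hyo (Or.inl h)).2
  have hd : ∀ y ∈ M, orderOf y = r → y ∉ ⁅sigmaCore M, sigmaCore M⁆ := fun z hz hzo h =>
    hΓ (s1423el hG hM hr hz hzo (Or.inr h)).2
  have hSH : S ≤ sigmaCore M := Cfsg.Agent.Lib.BGTau7.le_sigmaCore_of_pgroup hG hM hr hSM.1 hSM.2.1
  have hSS : IsSylowIn r S (sigmaCore M) :=
    ⟨hSH, hSM.2.1, fun R hR hRp hle => hSM.2.2 R (hR.trans sigmaCore_le) hRp hle⟩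
  have hn : ¬ Group.IsNilpotent (sigmaCore M) := by
    intro hN
    have h1 := (le_normalizer_of_nilpotent hSS hN).trans hNSU
    have h2 : M < U := lt_of_le_of_ne h1 hMU
    exact hU.1 (hM.2 U h2)
  exact ⟨hβ, hd, hn, fun p hp hpd hσ => kappa_all hG hM hn hp hpd hσ, hS1, hSS⟩

/-- `[S, ξ] = 1`, for `ξ ∈ U_σ`, if `(U_σ)'` has no elements of order `r`. -/
theorem comm_of_no_derived {U S : Subgroup G} {r : ℕ} [hrf : Fact r.Prime] (hSU : S ≤ sigmaCore U)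
    (hSr : IsPGroup r S) (hd : ∀ y ∈ U, orderOf y = r → y ∉ ⁅sigmaCore U, sigmaCore U⁆) {ξ : G}
    (hξ : ξ ∈ sigmaCore U) (hξN : ξ ∈ normalizer (S : Set G)) {s : G} (hs : s ∈ S) : ξ * s = s * ξ := by
  have hD : ⁅S, zpowers ξ⁆ ≤ S := Cfsg.Agent.Lib.Glauberman.commutator_le_of_le_normalizer (zpowers_le.mpr hξN)
  have hD1 : ⁅S, zpowers ξ⁆ = ⊥ := by
    by_contra hne
    obtain ⟨d, hdD, hdo⟩ := exists_mem_order_p (hSr.to_le hD) hne
    exact hd d (sigmaCore_le (hSU (hD hdD))) hdo (Subgroup.commutator_mono hSU (zpowers_le.mpr hξ) hdD)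
  rw [Subgroup.commutator_eq_bot_iff_le_centralizer] at hD1
  have h1 := hD1 hs
  rw [cz_zpowers, mem_cz] at h1
  exact h1

theorem cj_symm {M U : Subgroup G} (hne : ∀ g : G, U ≠ cj M g) (g : G) : M ≠ cj U g := by
  intro h
  apply hne g⁻¹
  rw [h, cj_cj]
  simp [cj_one]

/-- The main lemma. -/
theorem thmD_aux (C : Cx G) {M U : Subgroup G} (hM : IsCoatom M) (hU : IsCoatom U) {r : ℕ} [hrf : Fact r.Prime]
    (hrM : r ∈ sigma M) (hrU : r ∈ sigma U) {S : Subgroup G} (hSM : IsSylowIn r S M) (hSU : IsSylowIn r S U)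
    (hne : ∀ g : G, U ≠ cj M g) : False := by
  classical
  have hG := C.hG
  have hne' := cj_symm hne
  have hMU : M ≠ U := fun h => hne 1 (by rw [cj_one]; exact h.symm)
  have hΓM : ¬ GammaP M r := fun h => by
    obtain ⟨g, hg⟩ := h U hU hrU
    exact hne g hg
  have hΓU : ¬ GammaP U r := fun h => by
    obtain ⟨g, hg⟩ := h M hM hrM
    exact hne' g hg
  have hNM : normalizer (S : Set G) ≤ M := normalizer_le_of_sigma hrM hSM
  have hNU : normalizer (S : Set G) ≤ U := normalizer_le_of_sigma hrU hSU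
  obtain ⟨hβM, hdM, hnM, hκM, hS1, hSH⟩ := side hG hM hU hrM hSM hNU hMU hΓM
  obtain ⟨hβU, hdU, hnU, hκU, -, hSW⟩ := side hG hU hM hrU hSU hNM hMU.symm hΓU
  have hSr := hSM.2.1
  have hrp : r.Prime := hrf.out
  obtain ⟨E, hE, -, hET⟩ := exists_compl_ge_in hG hM (T := M ⊓ normalizer (S : Set G)) (Y := ⊥) inf_le_left
    (fun m hm => frattini_sigma hSH hm) bot_le (fun p hp hd => by
      rw [Subgroup.card_bot, Nat.dvd_one] at hd
      exact absurd hd hp.ne_one)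
  have hES : E ≤ normalizer (S : Set G) := hET.trans inf_le_right
  have hEU : E ≤ U := hES.trans hNU
  have hMne : M ≠ ⊥ := fun h => by
    have : S ≤ ⊥ := h ▸ hSM.1
    exact hS1 (le_bot_iff.mp this)
  have hσE : ∀ {p : ℕ}, p.Prime → p ∣ Nat.card E → p ∉ sigma M := fun hp hd =>
    Cfsg.Agent.Lib.BGTau7.not_sigma_of_compl hG hM hE hp hd
  have hall : ∀ p : ℕ, p.Prime → p ∣ Nat.card E → p ∈ tau1 M ∨ p ∈ tau3 M := by
    intro p hp hd
    have hσ := hσE hp hd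
    have hdM' := hd.trans (Subgroup.card_dvd_of_le hE.1)
    rcases tau_cases hG hM hp hσ hdM' with h | h | h
    · exact Or.inl h
    · exact absurd (rank1_of_kappa (hκM p hp hdM' hσ)) h.2.2.2
    · exact Or.inr h
  have hfpf : ∀ ρ ∈ E, orderOf ρ ∈ tau1 M → ∀ s ∈ S, ρ * s = s * ρ → s = 1 := by
    intro ρ hρ hq s hs hρs
    by_contra hs1
    obtain ⟨n, hn⟩ := exists_pow_order hSr hs hs1
    have h1 : ρ * s ^ n = s ^ n * ρ := (Commute.pow_right (hρs : Commute ρ s) n).eq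
    have hsn : s ^ n ∈ S := pow_mem hs n
    exact hdM _ (hSM.1 hsn) hn (lemmaA C hM hq (hE.1 hρ) rfl (hSH.1 hsn) h1 hrp hn hβM)
  have hfpf' : ∀ ρ ∈ E, orderOf ρ ∈ tau1 M → ρ ∉ centralizer (S : Set G) := by
    intro ρ hρ hq hc
    apply hS1
    rw [eq_bot_iff]
    intro s hs
    rw [Subgroup.mem_bot]
    exact hfpf ρ hρ hq s hs (Subgroup.mem_centralizer_iff.mp hc s hs).symm
  -- a prime in `τ₁`
  obtain ⟨q, hq, hqE⟩ := exists_tau1 hG hM hE hMne hall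
  haveI : Fact q.Prime := ⟨hq.1⟩
  obtain ⟨ρ₀, hρ₀⟩ := exists_prime_orderOf_dvd_card' q hqE
  set ρ : G := (ρ₀ : G) with hρdef
  have hρE : ρ ∈ E := ρ₀.2
  have hρo : orderOf ρ = q := by rw [hρdef, Subgroup.orderOf_coe]; exact hρ₀
  have hqo : orderOf ρ ∈ tau1 M := by rw [hρo]; exact hq
  have hρM : ρ ∈ M := hE.1 hρE
  have hρU : ρ ∈ U := hEU hρE
  have hqκ : q ∈ kappa M := hκM q hq.1 hq.2.2.1 hq.2.1
  obtain ⟨b₁, hb₁, hb₁1, hρb₁⟩ := kappa_fix hG hM hE hqκ hρE hρo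
  obtain ⟨a, n, ha, -, hbo⟩ := exists_prime_pow hb₁1
  set b : G := b₁ ^ n with hbdef
  have hb : b ∈ sigmaCore M := pow_mem hb₁ n
  have hρb : ρ * b = b * ρ := (Commute.pow_right (hρb₁ : Commute ρ b₁) n).eq
  have hb1 := ne_one_of_order ha hbo
  -- `q` on the side of `U`
  have hqU : q ∉ sigma U := by
    intro h
    have hρW : ρ ∈ sigmaCore U := mem_sigmaCore_of_pow hG hU h hρU (pow_order_eq_one' hρo)
    exact hfpf' ρ hρE hqo (by
      rw [Subgroup.mem_centralizer_iff]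
      intro s hs
      exact (comm_of_no_derived hSW.1 hSr hdU hρW (hES hρE) hs).symm)
  have hqUd : q ∣ Nat.card U := hρo ▸ Subgroup.orderOf_dvd_natCard _ hρU
  have hqκU : q ∈ kappa U := hκU q hq.1 hqUd hqU
  obtain ⟨EU, hEU', hρEU, hEUT⟩ := exists_compl_ge_in hG hU (T := U ⊓ normalizer (S : Set G))
    (Y := zpowers ρ) inf_le_left (fun m hm => frattini_sigma hSW hm)
    (zpowers_le.mpr (Subgroup.mem_inf.mpr ⟨hρU, hES hρE⟩))
    (fun p hp hd => by rw [prime_eq_of_dvd_card_zpowers hq.1 hρo hp hd]; exact hqU)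
  have hρEU' : ρ ∈ EU := hρEU (mem_zpowers ρ)
  have hqr : q ≠ r := fun h => hq.2.1 (h ▸ hrM)
  have hqτU : q ∈ tau1 U := by
    rcases tau_cases hG hU hq.1 hqU hqUd with h | h | h
    · exact h
    · exact absurd (rank1_of_kappa hqκU) h.2.2.2
    · exfalso
      have h1 := mem_comm_of_tau3 hG hU hEU' h hρEU' (pow_order_eq_one' hρo)
      refine hfpf' ρ hρE hqo (cent_of_comm hG hU hβU hSU.1 hSr (Subgroup.commutator_mono hEU'.1 hEU'.1 h1)
        (by rw [hρo]; exact (Nat.coprime_primes hq.1 hrp).mpr hqr) (hES hρE))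
  obtain ⟨b₂, hb₂, hb₂1, hρb₂⟩ := kappa_fix hG hU hEU' hqκU hρEU' hρo
  obtain ⟨a', n', ha', -, hb'o⟩ := exists_prime_pow hb₂1
  set b' : G := b₂ ^ n' with hb'def
  have hb' : b' ∈ sigmaCore U := pow_mem hb₂ n'
  have hρb' : ρ * b' = b' * ρ := (Commute.pow_right (hρb₂ : Commute ρ b₂) n').eq
  obtain ⟨L₁, hL₁, hNL₁⟩ := exists_coatom_norm hG hq.1 hρo
  obtain ⟨hCb, hΓb⟩ := lemmaA' C hM hq hρM hρo hb hρb ha hbo
  obtain ⟨hCb', hΓb'⟩ := lemmaA' C hU hqτU hρU hρo hb' hρb' ha' hb'o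
  have hqL := G2 C hM hE hq.2.2.2.2 hρE hρo hb hρb ha hbo hCb.1 hΓb hL₁ hNL₁
  obtain ⟨c, hc, hb''⟩ := lemmaJ C hM hU hL₁ hq hqτU hρM hρU hρo hb hρb ha hbo hb' hρb' ha' hb'o hNL₁ hqL hne
  have ha'M : a' ∉ sigma M := by
    intro h
    obtain ⟨g, hg⟩ := hΓb' M hM h
    exact hne' g hg
  have hρb'' : ρ * (c * b' * c⁻¹) = (c * b' * c⁻¹) * ρ := by
    have h1 : Commute ρ (c * b' * c⁻¹) :=
      ((Commute.mul_right hc hρb').mul_right (Commute.inv_right hc))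
    exact h1.eq
  obtain ⟨ξ, hξE, hξo, hρξ⟩ := exists_E_part hE hρE hb'' hρb'' ha'
    (by rw [orderOf_conj_eq, hb'o]) ha'M
  have ha'U : a' ∈ sigma U := sigma_of_mem_sigmaCore hb' ha' (by rw [hb'o])
  haveI : Fact a'.Prime := ⟨ha'⟩
  have hξW : ξ ∈ sigmaCore U := mem_sigmaCore_of_pow hG hU ha'U (hEU hξE) (pow_order_eq_one' hξo)
  have hξC : ∀ s ∈ S, ξ * s = s * ξ := fun s hs => comm_of_no_derived hSW.1 hSr hdU hξW (hES hξE) hs
  rcases hall a' ha' (hξo ▸ Subgroup.orderOf_dvd_natCard _ hξE) with h | h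
  · exact hfpf' ξ hξE (by rw [hξo]; exact h) (by
      rw [Subgroup.mem_centralizer_iff]
      intro s hs
      exact (hξC s hs).symm)
  · exact CL1 C hM hE hrM hSM.1 hSr hS1 hES hβM hall hfpf h hξE hξo hq hρE hρo hρξ.symm hb hb1 hρb

/-- **Theorem D**: two maximal subgroups with a common prime in `σ` are conjugate. -/
theorem thmD (C : Cx G) {M U : Subgroup G} (hM : IsCoatom M) (hU : IsCoatom U) {r : ℕ} (hrM : r ∈ sigma M)
    (hrU : r ∈ sigma U) : ∃ g : G, U = cj M g := by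
  haveI : Fact r.Prime := ⟨hrM.1⟩
  obtain ⟨T, hT⟩ := exists_isSylowIn r M
  obtain ⟨T', hT'⟩ := exists_isSylowIn r U
  have h1 := isSylowIn_top_of_sigma hrM hT
  have h2 := isSylowIn_top_of_sigma hrU hT'
  obtain ⟨g, -, hg⟩ := h2.exists_conj h1
  have hT₀ : IsSylowIn r T (cj U g) :=
    ⟨by rw [hg]; exact cj_mono hT'.1 g, hT.2.1, fun R _ hRp hle => h1.2.2 R le_top hRp hle⟩
  by_contra hne
  push Not at hne
  refine thmD_aux C hM (Cfsg.Agent.Lib.BGUniq3.isCoatom_cj hU g) hrM (Cfsg.Agent.Lib.BGP2E.sigma_cj hrU g) hT hT₀ ?_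
  intro g' h
  apply hne (g⁻¹ * g')
  have h3 := congrArg (fun K => cj K g⁻¹) h
  simp only [cj_cj] at h3
  simpa [cj_one] using h3

end Cfsg.Agent.Lib.BGK5
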