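import Mathlib
import Cfsg.Agent.Lib.BGK5

/-!
# Section 14 of Bender-Glauberman: elements of prime order of `κ`-type.
-/

set_option autoImplicit false
set_option linter.unusedSectionVars false
set_option linter.unusedVariables false
set_option linter.style.haveILetI false
set_option linter.unusedSimpArgs false

namespace Cfsg.Agent.Lib.BGK6

open Cfsg Subgroup Cfsg.Agent.Lib.CoprimeInv Cfsg.Agent.Lib.BGTrans Cfsg.Agent.Lib.BGM1 Cfsg.Agent.Lib.BGM2
  Cfsg.Agent.Lib.BGK0 Cfsg.Agent.Lib.BGK1 Cfsg.Agent.Lib.BGK2 Cfsg.Agent.Lib.BGK3 Cfsg.Agent.Lib.BGK4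
  Cfsg.Agent.Lib.BGK5
open scoped commutatorElement

universe u

variable {G : Type u} [Group G] [Finite G] {M E L : Subgroup G}

/-- An element of prime order `p` of a complement, `M` of `p`-rank one, with fixed points on `M_σ`. -/
structure KE (M E : Subgroup G) (x : G) (p : ℕ) : Prop where
  hM : IsCoatom M
  hE : IsComplIn E (sigmaCore M) M
  hp : p.Prime
  hx : x ∈ E
  hxo : orderOf x = p
  hr : PRankLE p 1 M
  hfix : ∃ y ∈ sigmaCore M, y ≠ 1 ∧ x * y = y * x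

namespace KE

variable {x : G} {p : ℕ}

theorem exists_fix_prime (K : KE M E x p) :
    ∃ (y : G) (r : ℕ), y ∈ sigmaCore M ∧ r.Prime ∧ orderOf y = r ∧ x * y = y * x := by
  obtain ⟨y₁, hy₁, hy₁1, hxy₁⟩ := K.hfix
  obtain ⟨r, n, hr, -, hyo⟩ := exists_prime_pow hy₁1
  exact ⟨y₁ ^ n, r, pow_mem hy₁ n, hr, hyo, (Commute.pow_right (hxy₁ : Commute x y₁) n).eq⟩

theorem notσ (K : KE M E x p) (hG : IsMinSimpleOddOrder G) : p ∉ sigma M :=
  not_sigma_of_mem_compl hG K.hM K.hE K.hx K.hp (by rw [K.hxo])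

theorem x1 (K : KE M E x p) : x ≠ 1 := ne_one_of_order K.hp K.hxo

theorem tau (K : KE M E x p) (hG : IsMinSimpleOddOrder G) : p ∈ tau1 M ∨ p ∈ tau3 M := by
  rcases tau_cases hG K.hM K.hp (K.notσ hG) (K.hxo ▸ Subgroup.orderOf_dvd_natCard _ (K.hE.1 K.hx)) with h | h | h
  · exact Or.inl h
  · exact absurd K.hr h.2.2.2
  · exact Or.inr h

end KE

/-- The centralizer of a fixed point (of prime order) of a `κ`-element lies in `M`. -/
theorem T1 (C : Cx G) {x y : G} {p r : ℕ} (K : KE M E x p) (hy : y ∈ sigmaCore M) (hxy : x * y = y * x)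
    (hr : r.Prime) (hyo : orderOf y = r) : centralizer ({y} : Set G) ≤ M := by
  classical
  have hG := C.hG
  obtain ⟨hM, hE, hp, hx, hxo, hr1, -⟩ := K
  haveI : Fact p.Prime := ⟨hp⟩
  haveI : Fact r.Prime := ⟨hr⟩
  have hrσ : r ∈ sigma M := sigma_of_mem_sigmaCore hy hr (by rw [hyo])
  have hpσ : p ∉ sigma M := not_sigma_of_mem_compl hG hM hE hx hp (by rw [hxo])
  have hxM : x ∈ M := hE.1 hx
  have hyM : y ∈ M := sigmaCore_le hy
  have hpr : p ≠ r := fun h => hpσ (h ▸ hrσ)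
  rcases tau_cases hG hM hp hpσ (hxo ▸ Subgroup.orderOf_dvd_natCard _ hxM) with h1 | h2 | h3
  · exact (lemmaA' C hM h1 hxM hxo hy hxy hr hyo).1.1
  · exact absurd hr1 h2.2.2.2
  by_cases hrβ : r ∈ beta M
  · exact (s1423el hG hM hrσ hyM hyo (Or.inl hrβ)).1.1
  by_cases hyD : y ∈ ⁅sigmaCore M, sigmaCore M⁆
  · exact (s1423el hG hM hrσ hyM hyo (Or.inr hyD)).1.1
  by_contra hC
  have hy1 := ne_one_of_order hr hyo
  have hyp : IsPGroup r (zpowers y) := isPGroup_zpowers_order hyo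
  obtain ⟨U, hU, hNU⟩ := exists_coatom_norm hG hr hyo
  have hUM : U ≠ M := fun h => hC (h ▸ (Cfsg.Agent.Lib.BGTau5.cent_le_norm y).trans hNU)
  have hxU : x ∈ U := hNU (Cfsg.Agent.Lib.BGTau5.cent_le_norm y (mem_cz.mpr hxy.symm))
  have hyU : y ∈ U := hNU (Subgroup.le_normalizer (mem_zpowers y))
  have hVs : Group.IsSolvable ↥(sigmaCore M ⊓ U) :=
    solvable_of_le_coatom hG hM (inf_le_left.trans sigmaCore_le)
  have hxV : zpowers x ≤ normalizer ((sigmaCore M ⊓ U : Subgroup G) : Set G) :=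
    le_normalizer_inf (zpowers_le.mpr (le_normalizer_sigmaCore hxM))
      (zpowers_le.mpr (Subgroup.le_normalizer hxU))
  have hcop : (Nat.card ↥(sigmaCore M ⊓ U)).Coprime (Nat.card (zpowers x)) := by
    rw [Nat.card_zpowers, hxo]
    apply Nat.Coprime.coprime_dvd_left (Subgroup.card_dvd_of_le (inf_le_left : sigmaCore M ⊓ U ≤ sigmaCore M))
    exact ((Nat.Prime.coprime_iff_not_dvd hp).mpr (not_dvd_sigmaCore hp hpσ)).symm
  obtain ⟨S, hS, hxS, hyS⟩ := exists_invariant_isSylowIn_ge r hVs hxV hcop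
    (zpowers_le.mpr (Subgroup.mem_inf.mpr ⟨hy, hyU⟩)) hyp
    (zpowers_le.mpr (Cfsg.Agent.Lib.BGTau5.cent_le_norm y (mem_cz.mpr hxy.symm)))
  have hSr : IsSylowIn r S (M ⊓ U) :=
    ⟨hS.1.trans (inf_le_inf_right _ sigmaCore_le), hS.2.1, fun R hR hRp hle =>
      hS.2.2 R (le_inf (Cfsg.Agent.Lib.BGTau7.le_sigmaCore_of_pgroup hG hM hrσ (hR.trans inf_le_left) hRp)
        (hR.trans inf_le_right)) hRp hle⟩
  have hmap : ((hSr.toSylow : Sylow r ↥(M ⊓ U)) : Subgroup ↥(M ⊓ U)).map (M ⊓ U).subtype = S :=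
    Subgroup.map_subgroupOf_eq_of_le hSr.1
  have h24 := Cfsg.Agent.S1424.result hG M hM r hrσ (zpowers y) hyp (by
      rw [Ne, zpowers_eq_bot]; exact hy1) (zpowers_le.mpr hyM) U hU hUM hNU hSr.toSylow (by rw [hmap]; exact hyS)
  rw [hmap] at h24
  obtain ⟨hconj, hNS, hrd⟩ := h24
  have hrU : r ∉ sigma U := by
    intro h
    obtain ⟨g, hg⟩ := thmD C hM hU hrσ h
    exact hconj g hg
  have hτU : r ∈ tau2 U := Cfsg.Agent.Lib.BGP3E.tau2_of_not_sigma hG hU hrU (by rw [Nat.card_zpowers, hyo])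
    (zpowers_le.mpr hyU) hNU
  have hSU' : S ≤ U := hSr.1.trans inf_le_right
  have hSU : IsSylowIn r S U := isSylowIn_of_hall
    ⟨le_rfl, hS.2.1, fun R hR _ hle => le_antisymm hR hle⟩ hSU' hrd
  obtain ⟨B, hBS, hBe, hBc⟩ := Cfsg.Agent.S1429.exists_ea hτU.2.2.1 hτU.2.2.2 hSU.toSylow
  have hmap2 : ((hSU.toSylow : Sylow r U) : Subgroup U).map U.subtype = S :=
    Subgroup.map_subgroupOf_eq_of_le hSU.1
  rw [hmap2] at hBS
  have hSM : S ≤ M := hSr.1.trans inf_le_left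
  have hBM : B ≤ M := hBS.trans hSM
  have hxD : x ∈ ⁅M, M⁆ :=
    Subgroup.commutator_mono hE.1 hE.1 (mem_comm_of_tau3 hG hM hE h3 hx (pow_order_eq_one' hxo))
  have hxC : x ∈ centralizer (S : Set G) := cent_of_comm hG hM hrβ hSM hS.2.1 hxD
    (by rw [hxo]; exact (Nat.coprime_primes hp hr).mpr hpr) (hxS (mem_zpowers x))
  have hBx : B ≤ centralizer ({x} : Set G) := by
    intro b hb
    rw [mem_cz]
    exact (Subgroup.mem_centralizer_iff.mp hxC b (hBS hb)).symm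
  obtain ⟨L, hL, hNL⟩ := exists_coatom_norm hG hp hxo
  have hCxL : centralizer ({x} : Set G) ≤ L := (Cfsg.Agent.Lib.BGTau5.cent_le_norm x).trans hNL
  have hBL : B ≤ L := hBx.trans hCxL
  have hxL : x ∈ L := hCxL (mem_cz.mpr rfl)
  have hLc : ∀ g : G, L ≠ cj M g := by
    intro g hg
    have hpσL : p ∉ sigma L := fun h => hpσ (sigma_of_conj hg h)
    have h5 := Cfsg.Agent.Lib.BGP3E.tau2_of_not_sigma hG hL hpσL (by rw [Nat.card_zpowers, hxo])
      (zpowers_le.mpr hxL) hNL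
    exact h5.2.2.2 (hg ▸ prank_cj hr1 g)
  have hrL : r ∉ sigma L := fun h => by
    obtain ⟨g, hg⟩ := thmD C hM hL hrσ h
    exact hLc g hg
  have hτL : r ∈ tau2 L :=
    ⟨hr, hrL, Cfsg.Agent.Lib.BGTau7.rank2_of_not_sigma hG hL hr hrL,
      Cfsg.Agent.Lib.BGP3E.not_rank_one_of_le hBe hBc hBL⟩
  have hBp : IsPGroup r B := Cfsg.Agent.Lib.BGSigma3.isPGroup_of_ea hBe
  obtain ⟨EL, hEL, hBEL⟩ := exists_compl_ge hG hL hBL (fun u hu hd => by
    rw [hBc] at hd
    rw [(Nat.prime_dvd_prime_iff_eq hu hr).mp (hu.dvd_of_dvd_pow hd)]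
    exact hrL)
  have h18 := Cfsg.Agent.S1418.result hG L hL EL hEL r hτL B ⟨hBEL, hBe, hBc⟩
  have hxCB : x ∈ centralizer (B : Set G) := by
    rw [Subgroup.mem_centralizer_iff]
    intro b hb
    exact (mem_cz.mp (hBx hb)).symm
  have hxEL : x ∈ EL := by
    rw [← h18.2.1.2.1]
    exact h18.2.1.1 hxCB
  have hpσL : p ∉ sigma L := not_sigma_of_mem_compl hG hL hEL hxEL hp (by rw [hxo])
  have hpτL : p ∈ tau2 L := Cfsg.Agent.Lib.BGP3E.tau2_of_not_sigma hG hL hpσL (by rw [Nat.card_zpowers, hxo])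
    (zpowers_le.mpr hxL) hNL
  obtain ⟨A, hAE, hAe, hAc⟩ := exists_ea_in_compl hG hL hEL hpτL
  have TB := Cfsg.Agent.Lib.BGTau7.T2.mk' hG hL hτL hBL hBe hBc
  have TA := Cfsg.Agent.Lib.BGTau7.T2.mk' hG hL hpτL (hAE.trans hEL.1) hAe hAc
  have hinf : B ⊓ A = ⊥ := inf_eq_bot_of_coprime' (by
    rw [hBc, hAc]
    exact Nat.Coprime.pow 2 2 ((Nat.coprime_primes hr hp).mpr hpr.symm))
  have hAB : A ≤ centralizer (B : Set G) := by
    intro a ha
    rw [Subgroup.mem_centralizer_iff]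
    intro b hb
    exact comm_of_normalize hinf hb ha (TA.compl_norm hEL hAE (hBEL hb)) (TB.compl_norm hEL hBEL (hAE ha))
  have hCB : centralizer (B : Set G) ≤ M := (Cfsg.Agent.S1416.result hG M hM r B ⟨hBM, hBe, hBc⟩).1
  exact Cfsg.Agent.Lib.BGP3E.not_le_of_rank_one hr1 hAe hAc (hAB.trans hCB)

/-- G2, in general. -/
theorem G2gen (C : Cx G) {x : G} {p : ℕ} (K : KE M E x p) (hL : IsCoatom L)
    (hN : normalizer ((zpowers x : Subgroup G) : Set G) ≤ L) : p ∈ sigma L := by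
  obtain ⟨y, r, hy, hr, hyo, hxy⟩ := K.exists_fix_prime
  haveI : Fact p.Prime := ⟨K.hp⟩
  have hrσ : r ∈ sigma M := sigma_of_mem_sigmaCore hy hr (by rw [hyo])
  exact G2 C K.hM K.hE K.hr K.hx K.hxo hy hxy hr hyo (T1 C K hy hxy hr hyo)
    (fun L' hL' h => thmD C K.hM hL' hrσ h) hL hN

/-- A `κ`-element with a maximal subgroup containing the normalizer of the subgroup it generates. -/
structure KL (M E L : Subgroup G) (x : G) (p : ℕ) : Prop extends KE M E x p where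
  hL : IsCoatom L
  hN : normalizer ((zpowers x : Subgroup G) : Set G) ≤ L

namespace KL

variable {x : G} {p : ℕ}

theorem hpL (K : KL M E L x p) (C : Cx G) : p ∈ sigma L := G2gen C K.toKE K.hL K.hN

theorem not_conj (K : KL M E L x p) (C : Cx G) : ∀ g : G, L ≠ cj M g := by
  intro g hg
  haveI : Fact p.Prime := ⟨K.hp⟩
  exact K.notσ C.hG (sigma_of_conj hg (K.hpL C))

theorem ne (K : KL M E L x p) (C : Cx G) : L ≠ M := by
  intro h
  apply K.not_conj C 1
  rw [cj_one]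
  exact h

theorem disj (K : KL M E L x p) (C : Cx G) {r : ℕ} (hr : r ∈ sigma M) : r ∉ sigma L := fun h => by
  obtain ⟨g, hg⟩ := thmD C K.hM K.hL hr h
  exact K.not_conj C g hg

theorem hinf (K : KL M E L x p) (C : Cx G) : sigmaCore M ⊓ sigmaCore L = ⊥ :=
  inf_eq_bot_of_coprime' (coprime_of_primes fun u hu h1 h2 =>
    K.disj C (primes_sigmaCore u hu h1) (primes_sigmaCore u hu h2))

theorem mem_L (K : KL M E L x p) {t : G} (h : x * t = t * x) : t ∈ L :=
  K.hN (Cfsg.Agent.Lib.BGTau5.cent_le_norm x (mem_cz.mpr h))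

theorem hxL (K : KL M E L x p) : x ∈ L := K.mem_L rfl

theorem hxσ (K : KL M E L x p) (C : Cx G) : x ∈ sigmaCore L := by
  haveI : Fact p.Prime := ⟨K.hp⟩
  exact mem_sigmaCore_of_pow C.hG K.hL (K.hpL C) K.hxL (pow_order_eq_one' K.hxo)

/-- Elements of `L_σ ∩ M` commute with the elements of `M_σ ∩ L`. -/
theorem comm_of_mem (K : KL M E L x p) (C : Cx G) {t w : G} (ht : t ∈ sigmaCore M) (htL : t ∈ L)
    (hw : w ∈ sigmaCore L) (hwM : w ∈ M) : w * t = t * w :=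
  (comm_of_normalize (K.hinf C) ht hw (le_normalizer_sigmaCore htL) (le_normalizer_sigmaCore hwM)).symm

theorem comm_of_mem_x (K : KL M E L x p) (C : Cx G) {t : G} (ht : t ∈ sigmaCore M) (htL : t ∈ L) :
    x * t = t * x := K.comm_of_mem C ht htL (K.hxσ C) (K.hE.1 K.hx)

/-- Primes of `M_σ ∩ L` are outside `σ(L)`, and `L` has rank one at them. -/
theorem rank_of_Q (K : KL M E L x p) (C : Cx G) {y : G} {r : ℕ} (hy : y ∈ sigmaCore M) (hyL : y ∈ L) (hr : r.Prime)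
    (hyo : orderOf y = r) : r ∉ sigma L ∧ PRankLE r 1 L := by
  have hG := C.hG
  have hrσ : r ∈ sigma M := sigma_of_mem_sigmaCore hy hr (by rw [hyo])
  have hrL := K.disj C hrσ
  refine ⟨hrL, ?_⟩
  by_contra hr1
  have hτ : r ∈ tau2 L := ⟨hr, hrL, Cfsg.Agent.Lib.BGTau7.rank2_of_not_sigma hG K.hL hr hrL, hr1⟩
  have hy1 := ne_one_of_order hr hyo
  have hh := Cfsg.Agent.Lib.BGTau7.cent_of_tau2_element hG K.hL hyL hy1
    (fun u hu hd => by
      rw [hyo] at hd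
      rw [(Nat.prime_dvd_prime_iff_eq hu hr).mp hd]
      exact hτ)
    ⟨hyL, x, K.hxσ C, K.x1, (K.comm_of_mem_x C hy hyL).symm⟩
  have h1 : M = L := hh.2 M K.hM (T1 C K.toKE hy (K.comm_of_mem_x C hy hyL) hr hyo)
  exact K.ne C h1.symm

/-- The normalizer of the subgroup generated by a fixed point lies in `M`. -/
theorem norm_le (K : KL M E L x p) (C : Cx G) {y : G} {r : ℕ} (hy : y ∈ sigmaCore M) (hyL : y ∈ L) (hr : r.Prime)
    (hyo : orderOf y = r) : normalizer ((zpowers y : Subgroup G) : Set G) ≤ M := by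
  haveI : Fact r.Prime := ⟨hr⟩
  exact Cfsg.Agent.Lib.BGTau5.fusion_norm C.hG K.hM (sigma_of_mem_sigmaCore hy hr (by rw [hyo]))
    (S := zpowers y) (zpowers_le.mpr (sigmaCore_le hy)) (mem_zpowers y) (ne_one_of_order hr hyo)
    (pow_order_eq_one hyo) (T1 C K.toKE hy (K.comm_of_mem_x C hy hyL) hr hyo)

/-- The dual `κ`-element. -/
theorem dual (K : KL M E L x p) (C : Cx G) {y : G} {r : ℕ} (hy : y ∈ sigmaCore M) (hyL : y ∈ L) (hr : r.Prime)
    (hyo : orderOf y = r) {EL : Subgroup G} (hEL : IsComplIn EL (sigmaCore L) L) (hyE : y ∈ EL) :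
    KL L EL M y r where
  hM := K.hL
  hE := hEL
  hp := hr
  hx := hyE
  hxo := hyo
  hr := (K.rank_of_Q C hy hyL hr hyo).2
  hfix := ⟨x, K.hxσ C, K.x1, (K.comm_of_mem_x C hy hyL).symm⟩
  hL := K.hM
  hN := K.norm_le C hy hyL hr hyo

/-- A complement of `L_σ` containing a fixed point. -/
theorem exists_compl_fix (K : KL M E L x p) (C : Cx G) {y : G} {r : ℕ} (hy : y ∈ sigmaCore M) (hyL : y ∈ L)
    (hr : r.Prime) (hyo : orderOf y = r) : ∃ EL : Subgroup G, IsComplIn EL (sigmaCore L) L ∧ y ∈ EL := by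
  obtain ⟨EL, hEL, h⟩ := exists_compl_ge C.hG K.hL (zpowers_le.mpr hyL) (fun u hu hd => by
    rw [prime_eq_of_dvd_card_zpowers hr hyo hu hd]
    exact (K.rank_of_Q C hy hyL hr hyo).1)
  exact ⟨EL, hEL, h (mem_zpowers y)⟩

/-- P5: an element of prime order of `L_σ ∩ M` has the same fixed points on `M_σ` as `x`. -/
theorem P5 (K : KL M E L x p) (C : Cx G) {w : G} (hw : w ∈ sigmaCore L) (hwM : w ∈ M) (hwp : (orderOf w).Prime)
    {t : G} (ht : t ∈ sigmaCore M) : w * t = t * w ↔ x * t = t * x := by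
  constructor
  · intro h
    obtain ⟨y, r, hy, hr, hyo, hxy⟩ := K.exists_fix_prime
    have hyL : y ∈ L := K.mem_L hxy
    obtain ⟨EL, hEL, hyE⟩ := K.exists_compl_fix C hy hyL hr hyo
    have Kd := K.dual C hy hyL hr hyo hEL hyE
    have hwy : y * w = w * y := (K.comm_of_mem C hy hyL hw hwM).symm
    have h1 := T1 C Kd.toKE hw hwy hwp rfl
    exact K.comm_of_mem_x C ht (h1 (mem_cz.mpr h))
  · intro h
    exact K.comm_of_mem C ht (K.mem_L h) hw hwM

end KL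

/-- A `κ`-element and a maximal subgroup. -/
theorem KE.exists_KL {x : G} {p : ℕ} (K : KE M E x p) (hG : IsMinSimpleOddOrder G) : ∃ L : Subgroup G, KL M E L x p := by
  obtain ⟨L, hL, hN⟩ := exists_coatom_norm hG K.hp K.hxo
  exact ⟨L, { K with hL := hL, hN := hN }⟩

end Cfsg.Agent.Lib.BGK6
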