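import Mathlib
import Cfsg.Agent.Lib.BGK6

/-!
# Section 14 of Bender-Glauberman: `κ`-elements centralize the elements of prime order they normalize.
-/

set_option autoImplicit false
set_option linter.unusedSectionVars false
set_option linter.unusedVariables false
set_option linter.style.haveILetI false
set_option linter.unusedSimpArgs false

namespace Cfsg.Agent.Lib.BGK7

open Cfsg Subgroup Cfsg.Agent.Lib.CoprimeInv Cfsg.Agent.Lib.BGTrans Cfsg.Agent.Lib.BGM1 Cfsg.Agent.Lib.BGM2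
  Cfsg.Agent.Lib.BGK0 Cfsg.Agent.Lib.BGK1 Cfsg.Agent.Lib.BGK2 Cfsg.Agent.Lib.BGK3 Cfsg.Agent.Lib.BGK4
  Cfsg.Agent.Lib.BGK5 Cfsg.Agent.Lib.BGK6
open scoped commutatorElement

universe u

variable {G : Type u} [Group G] [Finite G] {M E L : Subgroup G}

/-- A `τ₁`-element centralizes what normalizes the group it generates. -/
theorem comm_of_tau1_norm {r : ℕ} (hτ : r ∈ tau1 L) {y ρ : G} (hyL : y ∈ L) (hρL : ρ ∈ L) (hyo : orderOf y = r)
    (hρ : ρ ∈ normalizer ((zpowers y : Subgroup G) : Set G)) : ρ * y = y * ρ := by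
  haveI : Fact r.Prime := ⟨hτ.1⟩
  by_contra hne
  have h1 : ρ * y * ρ⁻¹ ∈ zpowers y := (mem_normalizer_iff.mp hρ y).mp (mem_zpowers y)
  set c : G := ρ * y * ρ⁻¹ * y⁻¹ with hc
  have hcz : c ∈ zpowers y := mul_mem h1 (inv_mem (mem_zpowers y))
  have hcL : c ∈ ⁅L, L⁆ := by
    have := Subgroup.commutator_mem_commutator hρL hyL
    rwa [commutatorElement_def] at this
  have hc1 : c ≠ 1 := by
    intro h
    apply hne
    rw [hc] at h
    have h2 : ρ * y * ρ⁻¹ = y := by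
      have := congrArg (· * y) h
      simpa using this
    calc ρ * y = ρ * y * ρ⁻¹ * ρ := by group
      _ = y * ρ := by rw [h2]
  have h3 := Cfsg.Agent.Lib.BGTau7.zpowers_eq_of_mem (pow_order_eq_one hyo) hc1 hcz
  have hy : y ∈ zpowers c := by rw [h3]; exact mem_zpowers y
  have hyD : y ∈ ⁅L, L⁆ := (zpowers_le.mpr hcL) hy
  apply hτ.2.2.2.1
  rw [← hyo]
  exact Subgroup.orderOf_dvd_natCard _ hyD

/-- An invariant Sylow subgroup yields an invariant subgroup of prime order. -/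
theorem exists_inv_prime (hG : IsMinSimpleOddOrder G) {Y : Subgroup G} {ρ : G} {r : ℕ} (hYs : Group.IsSolvable Y)
    (hYL : Y ≤ L) (hρ : ρ ∈ normalizer (Y : Set G)) (hc : (Nat.card Y).Coprime (orderOf ρ)) (hr : r.Prime)
    (hd : r ∣ Nat.card Y) (h1 : PRankLE r 1 L) :
    ∃ y ∈ Y, orderOf y = r ∧ ρ ∈ normalizer ((zpowers y : Subgroup G) : Set G) := by
  haveI : Fact r.Prime := ⟨hr⟩
  obtain ⟨S, hS, hρS⟩ := exists_invariant_isSylowIn r hYs (zpowers_le.mpr hρ) (by rw [Nat.card_zpowers]; exact hc)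
  have hSne : S ≠ ⊥ := Cfsg.Agent.Lib.BGTau6.sylow_ne_bot hS hd
  obtain ⟨y, hy, hyo⟩ := exists_mem_order_p hS.2.1 hSne
  have hcyc : IsCyclic S := isCyclic_of_rank_one hG (hS.1.trans hYL) hS.2.1 h1
  have h3 := Cfsg.Agent.Lib.BGP3E.normalizer_le_of_cyclic hcyc (P := zpowers y) (p := r)
    (by rw [Nat.card_zpowers, hyo]) (zpowers_le.mpr hy)
  exact ⟨y, hS.1 hy, hyo, h3 (hρS (mem_zpowers ρ))⟩

/-- Primes of a product with a normalized cyclic group. -/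
theorem primes_sup_norm {A B : Subgroup G} (hAB : A ≤ normalizer (B : Set G)) {u : ℕ} (hu : u.Prime)
    (hd : u ∣ Nat.card ↥(A ⊔ B)) : u ∣ Nat.card A ∨ u ∣ Nat.card B := by
  have h1 := card_sup_mul_card_inf (H := A) (N := B) hAB
  have h2 : u ∣ Nat.card A * Nat.card B := by
    rw [← h1]
    exact hd.trans (Dvd.intro _ rfl)
  exact (Nat.Prime.dvd_mul hu).mp h2

/-- The primes of `M_σ ∩ L` are in `τ₃(L)`, when the element `ρ` moves `x`. -/
theorem tau3_of_Q {x : G} {p : ℕ} (K : KL M E L x p) (C : Cx G) {ρ : G} (hρE : ρ ∈ E) (hρL : ρ ∈ L) {q : ℕ} (hq : q.Prime)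
    (hρo : orderOf ρ = q) (hqL : q ∉ sigma L) (hm : x * ρ ≠ ρ * x) {r : ℕ} (hr : r.Prime)
    (hd : r ∣ Nat.card ↥(sigmaCore M ⊓ L)) : r ∈ tau3 L := by
  have hG := C.hG
  haveI : Fact r.Prime := ⟨hr⟩
  haveI : Fact q.Prime := ⟨hq⟩
  have hρM : ρ ∈ M := K.hE.1 hρE
  have hqM : q ∉ sigma M := not_sigma_of_mem_compl hG K.hM K.hE hρE hq (by rw [hρo])
  obtain ⟨y₀, hy₀⟩ := exists_prime_orderOf_dvd_card' (G := ↥(sigmaCore M ⊓ L)) r hd
  have hy₀o : orderOf ((y₀ : ↥(sigmaCore M ⊓ L)) : G) = r := by rw [Subgroup.orderOf_coe]; exact hy₀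
  obtain ⟨hrσL, hrank⟩ := K.rank_of_Q C (Subgroup.mem_inf.mp y₀.2).1 (Subgroup.mem_inf.mp y₀.2).2 hr hy₀o
  have hQs : Group.IsSolvable ↥(sigmaCore M ⊓ L) :=
    solvable_of_le_coatom hG K.hM (inf_le_left.trans sigmaCore_le)
  have hρN : ρ ∈ normalizer ((sigmaCore M ⊓ L : Subgroup G) : Set G) :=
    (le_normalizer_inf (zpowers_le.mpr (le_normalizer_sigmaCore hρM))
      (zpowers_le.mpr (Subgroup.le_normalizer hρL))) (mem_zpowers ρ)
  have hc : (Nat.card ↥(sigmaCore M ⊓ L)).Coprime (orderOf ρ) := by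
    rw [hρo]
    apply Nat.Coprime.coprime_dvd_left (Subgroup.card_dvd_of_le (inf_le_left : sigmaCore M ⊓ L ≤ sigmaCore M))
    exact ((Nat.Prime.coprime_iff_not_dvd hq).mpr (not_dvd_sigmaCore hq hqM)).symm
  obtain ⟨y, hy, hyo, hρy⟩ := exists_inv_prime hG hQs inf_le_right hρN hc hr hd hrank
  have hyσ : y ∈ sigmaCore M := (Subgroup.mem_inf.mp hy).1
  have hyL : y ∈ L := (Subgroup.mem_inf.mp hy).2
  have hYL : zpowers ρ ⊔ zpowers y ≤ L := sup_le (zpowers_le.mpr hρL) (zpowers_le.mpr hyL)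
  obtain ⟨EL, hEL, hYE⟩ := exists_compl_ge hG K.hL hYL (fun u hu hdu => by
    rcases primes_sup_norm (zpowers_le.mpr hρy) hu hdu with h | h
    · rw [prime_eq_of_dvd_card_zpowers hq hρo hu h]; exact hqL
    · rw [prime_eq_of_dvd_card_zpowers hr hyo hu h]; exact hrσL)
  have hρEL : ρ ∈ EL := hYE (Subgroup.mem_sup_left (mem_zpowers ρ))
  have hyEL : y ∈ EL := hYE (Subgroup.mem_sup_right (mem_zpowers y))
  rcases tau_cases hG K.hL hr hrσL (hyo ▸ Subgroup.orderOf_dvd_natCard _ hyL) with h1 | h2 | h3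
  · exfalso
    have hc1 := comm_of_tau1_norm h1 hyL hρL hyo hρy
    have hxy : y * x = x * y := (K.comm_of_mem_x C hyσ hyL).symm
    have := F2el C K.hL hEL h1 hyEL hyo hρEL (by rw [hρo]; exact hq) hc1.symm (K.hxσ C) hxy
    exact hm this.symm
  · exact absurd hrank h2.2.2.2
  · exact h3

/-- Transfer of `τ₁` along a complement inside `M`. -/
theorem tau1_transfer (hG : IsMinSimpleOddOrder G) (hL : IsCoatom L) {EL : Subgroup G}
    (hEL : IsComplIn EL (sigmaCore L) L) (hELM : EL ≤ M) {q : ℕ} (hqM : q ∈ tau1 M) (hqL : q ∉ sigma L)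
    (hd : q ∣ Nat.card L) : q ∈ tau1 L := by
  haveI : Fact q.Prime := ⟨hqM.1⟩
  rcases tau_cases hG hL hqM.1 hqL hd with h1 | h2 | h3
  · exact h1
  · exfalso
    obtain ⟨A, hA, hAe, hAc⟩ := exists_ea_in_compl hG hL hEL h2
    exact Cfsg.Agent.Lib.BGP3E.not_le_of_rank_one hqM.2.2.2.2 hAe hAc (hA.trans hELM)
  · exfalso
    apply hqM.2.2.2.1
    exact (tau3_dvd hEL h3).trans (Subgroup.card_dvd_of_le (Subgroup.commutator_mono hELM hELM))

/-- A fixed point of `ρ` on `L_σ`. -/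
theorem exists_w {x : G} {p : ℕ} (K : KL M E L x p) (C : Cx G) {ρ y : G} {q r : ℕ} (hEL' : E ≤ L)
    (hQ : ∀ r : ℕ, r.Prime → r ∣ Nat.card ↥(sigmaCore M ⊓ L) → r ∈ tau3 L)
    (hyσ : y ∈ sigmaCore M) (hyL : y ∈ L) (hr : r.Prime) (hyo : orderOf y = r) {EL : Subgroup G}
    (hEL : IsComplIn EL (sigmaCore L) L) (hyE : y ∈ EL) (hELM : EL ≤ M)
    (hρL : ρ ∈ L) (hq : q ∈ tau1 L) (hρo : orderOf ρ = q) :
    ∃ w ∈ sigmaCore L, w ≠ 1 ∧ ρ * w = w * ρ := by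
  classical
  have hG := C.hG
  haveI : Fact r.Prime := ⟨hr⟩
  haveI : Fact q.Prime := ⟨hq.1⟩
  have hrσ : r ∈ sigma M := sigma_of_mem_sigmaCore hyσ hr (by rw [hyo])
  have hrd : r ∣ Nat.card ↥(sigmaCore M ⊓ L) := hyo ▸ Subgroup.orderOf_dvd_natCard _ (Subgroup.mem_inf.mpr ⟨hyσ, hyL⟩)
  have hτ : r ∈ tau3 L := hQ r hr hrd
  obtain ⟨q₁, k, v, hq₁, hq₁τ, hvE, hvk, hyv⟩ := exists_mover hG K.hL hEL hτ hyE hyo
  haveI : Fact q₁.Prime := ⟨hq₁⟩
  have hy1 : y ≠ 1 := ne_one_of_order hr hyo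
  have hv1 : v ≠ 1 := by
    rintro rfl
    exact hyv (by group)
  have hvL : v ∈ L := hEL.1 hvE
  have hvM : v ∈ M := hELM hvE
  have hvP : IsPGroup q₁ (zpowers v) := isPGroup_zpowers_pow hvk
  have hq₁d : q₁ ∣ orderOf v := by
    obtain ⟨j, -, hj⟩ := (Nat.dvd_prime_pow hq₁).mp (orderOf_dvd_of_pow_eq_one hvk)
    rw [hj]
    apply dvd_pow_self
    rintro rfl
    apply hv1
    rw [← orderOf_eq_one_iff, hj, pow_zero]
  have hq₁L : q₁ ∉ sigma L := not_sigma_of_mem_compl hG K.hL hEL hvE hq₁ hq₁d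
  have hq₁M : q₁ ∉ sigma M := by
    intro h
    have hvσ : v ∈ sigmaCore M := mem_sigmaCore_of_pow hG K.hM h hvM hvk
    exact hq₁τ (hQ q₁ hq₁ (hq₁d.trans (Subgroup.orderOf_dvd_natCard _ (Subgroup.mem_inf.mpr ⟨hvσ, hvL⟩))))
  have hrq₁ : r ≠ q₁ := fun h => hq₁M (h ▸ hrσ)
  -- `q₁` is not in `τ₂(M)`.
  have hτ₂ : q₁ ∉ tau2 M := by
    intro hτ₂
    obtain ⟨A, hAE, hAe, hAc⟩ := exists_ea_in_compl hG K.hM K.hE hτ₂
    have hAL : A ≤ L := hAE.trans hEL'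
    have TA := Cfsg.Agent.Lib.BGTau7.T2.mk' hG K.hM hτ₂ (hAE.trans K.hE.1) hAe hAc
    have hτ₂L : q₁ ∈ tau2 L :=
      ⟨hq₁, hq₁L, Cfsg.Agent.Lib.BGTau7.rank2_of_not_sigma hG K.hL hq₁ hq₁L,
        Cfsg.Agent.Lib.BGP3E.not_rank_one_of_le hAe hAc hAL⟩
    have hAN : A ≤ normalizer ((sigmaCore M ⊓ L : Subgroup G) : Set G) :=
      le_normalizer_inf ((hAE.trans K.hE.1).trans le_normalizer_sigmaCore) (hAL.trans Subgroup.le_normalizer)
    obtain ⟨Es, hEs, hYE⟩ := exists_compl_ge hG K.hL (Y := A ⊔ (sigmaCore M ⊓ L)) (sup_le hAL inf_le_right)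
      (fun u hu hdu => by
        rcases primes_sup_norm hAN hu hdu with h | h
        · rw [hAc] at h
          rw [(Nat.prime_dvd_prime_iff_eq hu hq₁).mp (hu.dvd_of_dvd_pow h)]
          exact hq₁L
        · exact K.disj C (primes_sigmaCore u hu (h.trans (Subgroup.card_dvd_of_le inf_le_left))))
    have hyEs : y ∈ Es := hYE (Subgroup.mem_sup_right (Subgroup.mem_inf.mpr ⟨hyσ, hyL⟩))
    have hAEs : A ≤ Es := le_sup_left.trans hYE
    have hn1 := tau3_normal hG K.hL hEs hτ hyEs hyo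
    have TAL := Cfsg.Agent.Lib.BGTau7.T2.mk' hG K.hL hτ₂L hAL hAe hAc
    have hn2 := TAL.compl_norm hEs hAEs
    have hinf : A ⊓ zpowers y = ⊥ := inf_eq_bot_of_coprime' (by
      rw [hAc, Nat.card_zpowers, hyo]
      exact Nat.Coprime.pow_left 2 ((Nat.coprime_primes hq₁ hr).mpr hrq₁.symm))
    have hyC : y ∈ sigmaCore M ⊓ centralizer (A : Set G) := by
      refine Subgroup.mem_inf.mpr ⟨hyσ, ?_⟩
      rw [Subgroup.mem_centralizer_iff]
      intro a ha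
      exact comm_of_normalize hinf ha (mem_zpowers y) (hn1 (hAEs ha)) (hn2 hyEs)
    rw [TA.d] at hyC
    exact hy1 hyC
  have hrk1 : PRankLE q₁ 1 M := by
    by_contra h
    exact hτ₂ ⟨hq₁, hq₁M, Cfsg.Agent.Lib.BGTau7.rank2_of_not_sigma hG K.hM hq₁ hq₁M, h⟩
  obtain ⟨n, hρ₁o⟩ := exists_pow_order hvP (mem_zpowers v) hv1
  set ρ₁ : G := v ^ n with hρ₁
  have hρ₁E : ρ₁ ∈ EL := pow_mem hvE n
  have hρ₁1 : ρ₁ ≠ 1 := ne_one_of_order hq₁ hρ₁o
  by_cases hcase : y * ρ₁ = ρ₁ * y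
  · -- then `v` itself centralizes `y`.
    exfalso
    obtain ⟨Ev, hEv, hvEv⟩ := exists_compl_ge hG K.hM (zpowers_le.mpr hvM) (fun u hu hdu => by
      rw [Nat.card_zpowers] at hdu
      rw [(Nat.prime_dvd_prime_iff_eq hu hq₁).mp ((Nat.Prime.dvd_of_dvd_pow hu (hdu.trans (orderOf_dvd_of_pow_eq_one hvk))))]
      exact hq₁M)
    obtain ⟨T, hT, hvT⟩ := exists_isSylowIn_ge q₁ hvEv hvP
    have hcyc : IsCyclic T := isCyclic_of_rank_one hG (hT.1.trans hEv.1) hT.2.1 hrk1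
    have hρ₁T : ρ₁ ∈ T := hvT (pow_mem (mem_zpowers v) n)
    have hvT' : v ∈ T := hvT (mem_zpowers v)
    have := F1el hG K.hM hEv hT hcyc hρ₁T hρ₁1 hyσ hcase.symm hvT'
    exact hyv this.symm
  · -- otherwise `q₁ ∈ τ₁(L)`.
    have hq₁τ₁ : q₁ ∈ tau1 L := by
      rcases tau_cases hG K.hL hq₁ hq₁L (hρ₁o ▸ Subgroup.orderOf_dvd_natCard _ (hEL.1 hρ₁E)) with h1 | h2 | h3
      · exact h1
      · exfalso
        obtain ⟨A, hAE, hAe, hAc⟩ := exists_ea_in_compl hG K.hL hEL h2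
        have TA := Cfsg.Agent.Lib.BGTau7.T2.mk' hG K.hL h2 (hAE.trans hEL.1) hAe hAc
        have hρ₁A : ρ₁ ∈ A := TA.compl_omega hEL hAE hρ₁E (pow_order_eq_one hρ₁o)
        have hinf : A ⊓ zpowers y = ⊥ := inf_eq_bot_of_coprime' (by
          rw [hAc, Nat.card_zpowers, hyo]
          exact Nat.Coprime.pow_left 2 ((Nat.coprime_primes hq₁ hr).mpr hrq₁.symm))
        exact hcase (comm_of_normalize hinf hρ₁A (mem_zpowers y) (tau3_normal hG K.hL hEL hτ hyE hyo (hAE hρ₁A))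
          (TA.compl_norm hEL hAE hyE)).symm
      · exact absurd h3 hq₁τ
    obtain ⟨t, ht, hρ₁t, hyt⟩ := F3M hG K.hL hEL hτ hyE hyo hρ₁E hq₁ hρ₁o hcase
    have ht1 : t ≠ 1 := by
      rintro rfl
      exact hyt (by group)
    have hLs : Group.IsSolvable L := IsMin.solvable hG K.hL.1
    obtain ⟨F, hF, hρF⟩ := exists_hall_ge (tau1 L) hLs (zpowers_le.mpr hρL) (fun u hu hdu => by
      rw [prime_eq_of_dvd_card_zpowers hq.1 hρo hu hdu]; exact hq)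
    obtain ⟨l, hlL, hl⟩ := exists_conj_le_hall (tau1 L) hLs hF (zpowers_le.mpr (hEL.1 hρ₁E)) (fun u hu hdu => by
      rw [prime_eq_of_dvd_card_zpowers hq₁ hρ₁o hu hdu]; exact hq₁τ₁)
    obtain ⟨E₂, hE₂, hFE₂⟩ := exists_compl_ge hG K.hL hF.1 (fun u hu hdu => (hF.2.1 u hu hdu).2.1)
    have hF₂ : IsPiHallOf (tau1 L) F E₂ := by
      refine ⟨hFE₂, hF.2.1, fun u hu huτ hd => hF.2.2 u hu huτ ?_⟩
      rw [← Subgroup.relIndex_mul_relIndex F E₂ L hFE₂ hE₂.1]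
      exact hd.trans (Dvd.intro _ rfl)
    have hFc : IsCyclic F := tau1_cyclic hG K.hL hE₂ hF₂
    set ρ₂ : G := l * ρ₁ * l⁻¹ with hρ₂
    have hρ₂F : ρ₂ ∈ F := hl (conj_mem_cj (mem_zpowers ρ₁))
    have hρF' : ρ ∈ F := hρF (mem_zpowers ρ)
    have hc := comm_of_cyclic hFc hρ₂F hρF'
    have hρ₂o : orderOf ρ₂ = q₁ := by rw [hρ₂, orderOf_conj_eq]; exact hρ₁o
    have ht' : l * t * l⁻¹ ∈ sigmaCore L := (mem_normalizer_iff.mp (le_normalizer_sigmaCore hlL) t).mp ht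
    have hct : ρ₂ * (l * t * l⁻¹) = (l * t * l⁻¹) * ρ₂ := by
      rw [hρ₂]
      calc l * ρ₁ * l⁻¹ * (l * t * l⁻¹) = l * (ρ₁ * t) * l⁻¹ := by group
        _ = l * (t * ρ₁) * l⁻¹ := by rw [hρ₁t]
        _ = l * t * l⁻¹ * (l * ρ₁ * l⁻¹) := by group
    have h := F2el C K.hL hE₂ hq₁τ₁ (hFE₂ hρ₂F) hρ₂o (hFE₂ hρF') (by rw [hρo]; exact hq.1) hc ht' hct
    refine ⟨l * t * l⁻¹, ht', ?_, h⟩
    intro h1
    apply ht1
    have : t = l⁻¹ * (l * t * l⁻¹) * l := by group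
    rw [this, h1]
    group

/-- A `κ`-element of `τ₃`-type centralizes a complement, as far as elements of prime order are concerned. -/
theorem FC3 (C : Cx G) {x : G} {p : ℕ} (K : KE M E x p) (hτ : p ∈ tau3 M) {ρ : G} (hρ : ρ ∈ E) {q : ℕ} (hq : q.Prime)
    (hρo : orderOf ρ = q) : x * ρ = ρ * x := by
  classical
  have hG := C.hG
  haveI : Fact p.Prime := ⟨K.hp⟩
  haveI : Fact q.Prime := ⟨hq⟩
  by_contra hm
  have hρM : ρ ∈ M := K.hE.1 hρ
  have hqM : q ∉ sigma M := not_sigma_of_mem_compl hG K.hM K.hE hρ hq (by rw [hρo])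
  have hENx := tau3_normal hG K.hM K.hE hτ K.hx K.hxo
  have hpq : p ≠ q := by
    rintro rfl
    apply hm
    have hc := isCyclic_of_rank_one hG (S := zpowers x ⊔ zpowers ρ) (p := p) (L := M)
      (sup_le (zpowers_le.mpr (K.hE.1 K.hx)) (zpowers_le.mpr hρM))
      (isPGroup_sup_of_le_normalizer (isPGroup_zpowers_order K.hxo) (isPGroup_zpowers_order hρo)
        (by
          rw [zpowers_le]
          exact tau3_normal hG K.hM K.hE hτ hρ hρo K.hx)) K.hr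
    exact comm_of_cyclic hc (Subgroup.mem_sup_left (mem_zpowers x)) (Subgroup.mem_sup_right (mem_zpowers ρ))
  -- step 1: `q ∈ τ₁(M)`.
  have hqτ : q ∈ tau1 M := by
    rcases tau_cases hG K.hM hq hqM (hρo ▸ Subgroup.orderOf_dvd_natCard _ hρM) with h1 | h2 | h3
    · exact h1
    · exfalso
      obtain ⟨A, hAE, hAe, hAc⟩ := exists_ea_in_compl hG K.hM K.hE h2
      have TA := Cfsg.Agent.Lib.BGTau7.T2.mk' hG K.hM h2 (hAE.trans K.hE.1) hAe hAc
      have hρA : ρ ∈ A := TA.compl_omega K.hE hAE hρ (pow_order_eq_one hρo)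
      have hinf : A ⊓ zpowers x = ⊥ := inf_eq_bot_of_coprime' (by
        rw [hAc, Nat.card_zpowers, K.hxo]
        exact Nat.Coprime.pow_left 2 ((Nat.coprime_primes hq K.hp).mpr hpq.symm))
      exact hm (comm_of_normalize hinf hρA (mem_zpowers x) (hENx (hAE hρA)) (TA.compl_norm K.hE hAE K.hx)).symm
    · exfalso
      have hcomm := (Cfsg.Agent.S1420.result hG M K.hM E K.hE).2.1
      have h1 := mem_comm_of_tau3 hG K.hM K.hE hτ K.hx (pow_order_eq_one' K.hxo)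
      have h2 := mem_comm_of_tau3 hG K.hM K.hE h3 hρ (pow_order_eq_one' hρo)
      have h4 := hcomm.is_comm.comm ⟨x, h1⟩ ⟨ρ, h2⟩
      exact hm (by simpa [Subtype.ext_iff] using h4)
  obtain ⟨t₀, ht₀, hρt₀, hxt₀⟩ := F3M hG K.hM K.hE hτ K.hx K.hxo hρ hq hρo hm
  have ht₀1 : t₀ ≠ 1 := by
    rintro rfl
    exact hxt₀ (by group)
  -- step 2.
  obtain ⟨L, KL⟩ := K.exists_KL hG
  have hEL : E ≤ L := hENx.trans KL.hN
  have hρL : ρ ∈ L := hEL hρ
  -- step 3.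
  have hqL : q ∉ sigma L := by
    intro h
    have hρσ : ρ ∈ sigmaCore L := mem_sigmaCore_of_pow hG KL.hL h hρL (pow_order_eq_one' hρo)
    exact hxt₀ ((KL.P5 C hρσ hρM (by rw [hρo]; exact hq) ht₀).mp hρt₀)
  -- step 4.
  have hQ : ∀ r : ℕ, r.Prime → r ∣ Nat.card ↥(sigmaCore M ⊓ L) → r ∈ tau3 L := fun r hr hd =>
    tau3_of_Q KL C hρ hρL hq hρo hqL hm hr hd
  -- step 5.
  obtain ⟨y, r, hyσ, hr, hyo, hxy⟩ := K.exists_fix_prime
  haveI : Fact r.Prime := ⟨hr⟩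
  have hyL : y ∈ L := KL.mem_L hxy
  obtain ⟨EL, hELc, hyE⟩ := KL.exists_compl_fix C hyσ hyL hr hyo
  have hτ3 : r ∈ tau3 L := hQ r hr (hyo ▸ Subgroup.orderOf_dvd_natCard _ (Subgroup.mem_inf.mpr ⟨hyσ, hyL⟩))
  have hELM : EL ≤ M := (tau3_normal hG KL.hL hELc hτ3 hyE hyo).trans (KL.norm_le C hyσ hyL hr hyo)
  have hqτL : q ∈ tau1 L :=
    tau1_transfer hG KL.hL hELc hELM hqτ hqL (hρo ▸ Subgroup.orderOf_dvd_natCard _ hρL)
  -- step 6.
  obtain ⟨w, hw, hw1, hρw⟩ := exists_w KL C hEL hQ hyσ hyL hr hyo hELc hyE hELM hρL hqτL hρo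
  -- step 7.
  obtain ⟨a, n, ha, -, hbo⟩ := exists_prime_pow ht₀1
  obtain ⟨a', n', ha', -, hb'o⟩ := exists_prime_pow hw1
  haveI : Fact a.Prime := ⟨ha⟩
  haveI : Fact a'.Prime := ⟨ha'⟩
  have hρb : ρ * t₀ ^ n = t₀ ^ n * ρ := (Commute.pow_right (hρt₀ : Commute ρ t₀) n).eq
  have hρb' : ρ * w ^ n' = w ^ n' * ρ := (Commute.pow_right (hρw : Commute ρ w) n').eq
  have Kρ : KE M E ρ q :=
    ⟨K.hM, K.hE, hq, hρ, hρo, hqτ.2.2.2.2, t₀, ht₀, ht₀1, hρt₀⟩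
  obtain ⟨L₁, KL₁⟩ := Kρ.exists_KL hG
  have hqL₁ := KL₁.hpL C
  obtain ⟨c, hρc, hc⟩ := lemmaJ C K.hM KL.hL KL₁.hL hqτ hqτL hρM hρL hρo (pow_mem ht₀ n) hρb ha hbo
    (pow_mem hw n') hρb' ha' hb'o KL₁.hN hqL₁ (KL.not_conj C)
  have ha'L : a' ∈ sigma L := sigma_of_mem_sigmaCore (pow_mem hw n') ha' (by rw [hb'o])
  have ha'M : a' ∉ sigma M := fun h => KL.disj C h ha'L
  have hρb'' : ρ * (c * w ^ n' * c⁻¹) = (c * w ^ n' * c⁻¹) * ρ := by
    have h1 : ρ * c = c * ρ := hρc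
    calc ρ * (c * w ^ n' * c⁻¹) = (ρ * c) * w ^ n' * c⁻¹ := by group
      _ = c * (ρ * w ^ n') * c⁻¹ := by rw [h1]; group
      _ = c * (w ^ n' * ρ) * c⁻¹ := by rw [hρb']
      _ = c * w ^ n' * (ρ * c⁻¹) := by group
      _ = c * w ^ n' * (c⁻¹ * ρ) := by
        congr 1
        have : c⁻¹ * (ρ * c) * c⁻¹ = c⁻¹ * (c * ρ) * c⁻¹ := by rw [h1]
        calc ρ * c⁻¹ = c⁻¹ * (c * ρ) * c⁻¹ := by group
          _ = c⁻¹ * (ρ * c) * c⁻¹ := by rw [h1]
          _ = c⁻¹ * ρ := by group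
      _ = (c * w ^ n' * c⁻¹) * ρ := by group
  -- step 8.
  obtain ⟨ξ, hξ, hξo, hρξ⟩ := exists_E_part K.hE hρ hc hρb'' ha' (by rw [orderOf_conj_eq]; exact hb'o) ha'M
  have hξσ : ξ ∈ sigmaCore L := mem_sigmaCore_of_pow hG KL.hL ha'L (hEL hξ) (pow_order_eq_one' hξo)
  have h1 := F2el C K.hM K.hE hqτ hρ hρo hξ (by rw [hξo]; exact ha') hρξ ht₀ hρt₀
  exact hxt₀ ((KL.P5 C hξσ (K.hE.1 hξ) (by rw [hξo]; exact ha') ht₀).mp h1)

/-- A `κ`-element centralizes the elements of prime order of a complement that normalize it. -/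
theorem FCgen (C : Cx G) {x : G} {p : ℕ} (K : KE M E x p) {ρ : G} (hρ : ρ ∈ E) {q : ℕ} (hq : q.Prime)
    (hρo : orderOf ρ = q) (hn : ρ ∈ normalizer ((zpowers x : Subgroup G) : Set G)) : x * ρ = ρ * x := by
  rcases K.tau C.hG with h | h
  · exact (comm_of_tau1_norm h (K.hE.1 K.hx) (K.hE.1 hρ) K.hxo hn).symm
  · exact FC3 C K h hρ hq hρo

/-- `F2'`: a `τ₃`-`κ`-element passes its fixed points on to the elements of prime order it centralizes. -/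
theorem F2' (C : Cx G) {x : G} {p : ℕ} (K : KE M E x p) {e : G} (he : e ∈ E) (hep : (orderOf e).Prime)
    (hxe : x * e = e * x) {t : G} (ht : t ∈ sigmaCore M) (hxt : x * t = t * x) : e * t = t * e := by
  classical
  have hG := C.hG
  obtain ⟨L, KL⟩ := K.exists_KL hG
  set s := orderOf e with hs
  haveI : Fact s.Prime := ⟨hep⟩
  have heM : e ∈ M := K.hE.1 he
  have heL : e ∈ L := KL.mem_L hxe
  have htL : t ∈ L := KL.mem_L hxt
  by_cases hsL : s ∈ sigma L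
  · have heσ : e ∈ sigmaCore L := mem_sigmaCore_of_pow hG KL.hL hsL heL (pow_order_eq_one' hs.symm)
    exact (KL.P5 C heσ heM hep ht).mpr hxt
  have hsM : s ∉ sigma M := not_sigma_of_mem_compl hG K.hM K.hE he hep dvd_rfl
  have hQs : Group.IsSolvable ↥(sigmaCore M ⊓ L) :=
    solvable_of_le_coatom hG K.hM (inf_le_left.trans sigmaCore_le)
  have heN : zpowers e ≤ normalizer ((sigmaCore M ⊓ L : Subgroup G) : Set G) :=
    le_normalizer_inf (zpowers_le.mpr (le_normalizer_sigmaCore heM)) (zpowers_le.mpr (Subgroup.le_normalizer heL))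
  have hc : (Nat.card ↥(sigmaCore M ⊓ L)).Coprime (Nat.card (zpowers e)) := by
    rw [Nat.card_zpowers]
    apply Nat.Coprime.coprime_dvd_left (Subgroup.card_dvd_of_le (inf_le_left : sigmaCore M ⊓ L ≤ sigmaCore M))
    exact ((Nat.Prime.coprime_iff_not_dvd hep).mpr (not_dvd_sigmaCore hep hsM)).symm
  have hle : sigmaCore M ⊓ L ≤ centralizer ({e} : Set G) := by
    refine Cfsg.Agent.Lib.BGUniq2.le_of_forall_prime_inv hQs heN hc ?_
    intro r hrf D hD hDr hDe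
    by_cases hD1 : D = ⊥
    · rw [hD1]; exact bot_le
    obtain ⟨y, hyD, hyo⟩ := exists_mem_order_p hDr hD1
    have hyQ := hD hyD
    have hyσ : y ∈ sigmaCore M := (Subgroup.mem_inf.mp hyQ).1
    have hyL : y ∈ L := (Subgroup.mem_inf.mp hyQ).2
    obtain ⟨hrL, hrk⟩ := KL.rank_of_Q C hyσ hyL hrf.out hyo
    have hDc : IsCyclic D := isCyclic_of_rank_one hG (hD.trans inf_le_right) hDr hrk
    have hey : e ∈ normalizer ((zpowers y : Subgroup G) : Set G) :=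
      Cfsg.Agent.Lib.BGP3E.normalizer_le_of_cyclic hDc (P := zpowers y) (p := r)
        (by rw [Nat.card_zpowers, hyo]) (zpowers_le.mpr hyD) (hDe (mem_zpowers e))
    have hYL : zpowers e ⊔ zpowers y ≤ L := sup_le (zpowers_le.mpr heL) (zpowers_le.mpr hyL)
    obtain ⟨EL, hEL, hYE⟩ := exists_compl_ge hG KL.hL hYL (fun u hu hdu => by
      rcases primes_sup_norm (zpowers_le.mpr hey) hu hdu with h | h
      · rw [prime_eq_of_dvd_card_zpowers hep rfl hu h]; exact hsL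
      · rw [prime_eq_of_dvd_card_zpowers hrf.out hyo hu h]; exact hrL)
    have hKd := KL.dual C hyσ hyL hrf.out hyo hEL (hYE (Subgroup.mem_sup_right (mem_zpowers y)))
    have h1 := FCgen C hKd.toKE (hYE (Subgroup.mem_sup_left (mem_zpowers e))) hep rfl hey
    have hsr : s ≠ r := by
      intro h
      exact KL.disj C (sigma_of_mem_sigmaCore hyσ hrf.out (by rw [hyo])) (h ▸ hsL |> fun _ => by
        exact absurd (h ▸ sigma_of_mem_sigmaCore hyσ hrf.out (by rw [hyo])) hsM)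
    exact Cfsg.Agent.Lib.BGTau4.comm_of_cyclic_of_fix hDc hDr (pow_order_eq_one hs.symm) hsr (hDe (mem_zpowers e))
      hyD (ne_one_of_order hrf.out hyo) (pow_order_eq_one hyo) h1
  exact mem_cz.mp (hle (Subgroup.mem_inf.mpr ⟨ht, htL⟩))

/-- An element with prime order in `τ₁(M)` with fixed points does not commute with `τ₂`-elements. -/
theorem no_tau2_comm (C : Cx G) {ρ u : G} {q q' : ℕ} (K : KE M E ρ q) (hq : q ∈ tau1 M) (hu : u ∈ E)
    (huo : orderOf u = q') (hq' : q' ∈ tau2 M) (hρu : ρ * u = u * ρ) : False := by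
  classical
  have hG := C.hG
  haveI : Fact q'.Prime := ⟨hq'.1⟩
  have hu1 : u ≠ 1 := ne_one_of_order hq'.1 huo
  have huM : u ∈ M := K.hE.1 hu
  obtain ⟨b, a, hb, ha, hbo, hρb⟩ := K.exists_fix_prime
  have hb1 : b ≠ 1 := ne_one_of_order ha hbo
  have hub : u * b = b * u := F2el C K.hM K.hE hq K.hx K.hxo hu (by rw [huo]; exact hq'.1) hρu hb hρb
  have hprimes : ∀ {J : Subgroup G}, q' ∈ tau2 J → ∀ r : ℕ, r.Prime → r ∣ orderOf u → r ∈ tau2 J := by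
    intro J hJ r hr hd
    rw [huo] at hd
    rw [(Nat.prime_dvd_prime_iff_eq hr hq'.1).mp hd]
    exact hJ
  obtain ⟨hC, hU⟩ := Cfsg.Agent.Lib.BGTau7.cent_of_tau2_element hG K.hM huM hu1 (hprimes hq') ⟨huM, b, hb, hb1, hub⟩
  obtain ⟨L₁, KL⟩ := K.exists_KL hG
  have huL : u ∈ L₁ := KL.mem_L hρu
  have hρσ := KL.hxσ C
  by_cases hσ : q' ∈ sigma L₁
  · have huσ : u ∈ sigmaCore L₁ := mem_sigmaCore_of_pow hG KL.hL hσ huL (pow_order_eq_one' huo)
    have hbL : b ∈ L₁ := KL.mem_L hρb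
    obtain ⟨EL, hEL, hbE⟩ := KL.exists_compl_fix C hb hbL ha hbo
    have Kd := KL.dual C hb hbL ha hbo hEL hbE
    have h1 := T1 C Kd.toKE huσ hub.symm hq'.1 huo
    exact KL.ne C (hU L₁ KL.hL h1)
  by_cases hτ : q' ∈ tau2 L₁
  · have h1 := Cfsg.Agent.Lib.BGTau7.cent_of_tau2_element hG KL.hL huL hu1 (hprimes hτ)
      ⟨huL, ρ, hρσ, K.x1, hρu.symm⟩
    exact KL.ne C (hU L₁ KL.hL h1.1)
  have hrk : PRankLE q' 1 L₁ := by
    by_contra h
    exact hτ ⟨hq'.1, hσ, Cfsg.Agent.Lib.BGTau7.rank2_of_not_sigma hG KL.hL hq'.1 hσ, h⟩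
  obtain ⟨Eu, hEu, huEu⟩ := exists_compl_ge hG KL.hL (zpowers_le.mpr huL) (fun v hv hd => by
    rw [prime_eq_of_dvd_card_zpowers hq'.1 huo hv hd]; exact hσ)
  have Ku : KE L₁ Eu u q' :=
    ⟨KL.hL, hEu, hq'.1, huEu (mem_zpowers u), huo, hrk, ρ, hρσ, K.x1, hρu.symm⟩
  obtain ⟨J, KJ⟩ := Ku.exists_KL hG
  have hJ : J = M := hU J KJ.hL ((Cfsg.Agent.Lib.BGTau5.cent_le_norm u).trans KJ.hN)
  have h2 := KJ.hpL C
  rw [hJ] at h2
  exact hq'.2.1 h2

end Cfsg.Agent.Lib.BGK7
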