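import Mathlib
import Cfsg.Agent.Lib.BGK7

/-!
# Section 14 of Bender-Glauberman: the structure of a Hall `κ(M)`-subgroup.
-/

set_option autoImplicit false
set_option linter.unusedSectionVars false
set_option linter.unusedVariables false
set_option linter.style.haveILetI false
set_option linter.unusedSimpArgs false

namespace Cfsg.Agent.Lib.BGK8

open Cfsg Subgroup Cfsg.Agent.Lib.CoprimeInv Cfsg.Agent.Lib.BGTrans Cfsg.Agent.Lib.BGM1 Cfsg.Agent.Lib.BGM2
  Cfsg.Agent.Lib.BGK0 Cfsg.Agent.Lib.BGK1 Cfsg.Agent.Lib.BGK2 Cfsg.Agent.Lib.BGK3 Cfsg.Agent.Lib.BGK4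
  Cfsg.Agent.Lib.BGK5 Cfsg.Agent.Lib.BGK6 Cfsg.Agent.Lib.BGK7
open scoped commutatorElement

universe u

variable {G : Type u} [Group G] [Finite G] {M K E : Subgroup G}

/-- A Hall `κ(M)`-subgroup inside a complement. -/
structure KH (M K E : Subgroup G) : Prop where
  hM : IsCoatom M
  hK : IsPiHallOf (kappa M) K M
  hK1 : K ≠ ⊥
  hE : IsComplIn E (sigmaCore M) M
  hKE : K ≤ E

/-- A complement containing a Hall `κ(M)`-subgroup. -/
theorem exists_KH (hG : IsMinSimpleOddOrder G) (hM : IsCoatom M) (hK : IsPiHallOf (kappa M) K M) (hK1 : K ≠ ⊥) :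
    ∃ E : Subgroup G, KH M K E := by
  obtain ⟨E, hE, hKE⟩ := exists_compl_ge hG hM hK.1 (fun u hu hd => (hK.2.1 u hu hd).2.2.1)
  exact ⟨E, hM, hK, hK1, hE, hKE⟩

namespace KH

variable {x x' : G} {p p' : ℕ}

theorem kappa_of_mem (H : KH M K E) (hx : x ∈ K) (hp : p.Prime) (hxo : orderOf x = p) : p ∈ kappa M :=
  H.hK.2.1 p hp (hxo ▸ Subgroup.orderOf_dvd_natCard _ hx)

theorem ke (H : KH M K E) (hG : IsMinSimpleOddOrder G) (hx : x ∈ K) (hp : p.Prime) (hxo : orderOf x = p) :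
    KE M E x p :=
  ⟨H.hM, H.hE, hp, H.hKE hx, hxo, rank1_of_kappa (H.kappa_of_mem hx hp hxo),
    kappa_fix hG H.hM H.hE (H.kappa_of_mem hx hp hxo) (H.hKE hx) hxo⟩

/-- An element of `τ₁`-prime order centralizes `K`. -/
theorem central_of_tau1 (H : KH M K E) (C : Cx G) (hx : x ∈ K) (hxo : orderOf x = p) (hτ : p ∈ tau1 M) {k : G}
    (hk : k ∈ K) : k * x = x * k := by
  classical
  have hG := C.hG
  have hp : p.Prime := hτ.1
  haveI : Fact p.Prime := ⟨hp⟩
  have hKM : K ≤ M := H.hK.1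
  have hDM : ⁅K, K⁆ ≤ ⁅M, M⁆ := Subgroup.commutator_mono hKM hKM
  have hD : ⁅K, K⁆ ≤ K := Subgroup.commutator_le.mpr fun a ha b hb => by
    rw [commutatorElement_def]
    exact mul_mem (mul_mem (mul_mem ha hb) (inv_mem ha)) (inv_mem hb)
  have hcop : (Nat.card ↥⁅K, K⁆).Coprime p :=
    ((Nat.Prime.coprime_iff_not_dvd hp).mpr (fun h => hτ.2.2.2.1 (h.trans (Subgroup.card_dvd_of_le hDM)))).symm
  have hle : ⁅K, K⁆ ≤ centralizer ({x} : Set G) := by
    refine Cfsg.Agent.Lib.BGUniq2.le_of_forall_prime_inv (A := zpowers x) (solvable_of_le_coatom hG H.hM (hD.trans hKM))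
      (zpowers_le.mpr (le_normalizer_self_commutator K hx)) (by rw [Nat.card_zpowers, hxo]; exact hcop) ?_
    intro q hqf D hDK hDq hDx
    by_cases hD1 : D = ⊥
    · rw [hD1]; exact bot_le
    obtain ⟨z, hzD, hzo⟩ := exists_mem_order_p hDq hD1
    have hzK : z ∈ K := hD (hDK hzD)
    have hκ := H.kappa_of_mem hzK hqf.out hzo
    have hr := rank1_of_kappa hκ
    have hDc : IsCyclic D := isCyclic_of_rank_one hG ((hDK.trans hD).trans hKM) hDq hr
    have hqd : q ∣ Nat.card ↥⁅M, M⁆ := hzo ▸ Subgroup.orderOf_dvd_natCard _ (hDM (hDK hzD))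
    have hτ₃ : q ∈ tau3 M := ⟨hqf.out, hκ.2.2.1, hqd, hr⟩
    have h1 := FC3 C (H.ke hG hzK hqf.out hzo) hτ₃ (H.hKE hx) hp hxo
    have hpq : p ≠ q := fun h => hτ.2.2.2.1 (h ▸ hqd)
    exact Cfsg.Agent.Lib.BGTau4.comm_of_cyclic_of_fix hDc hDq (pow_order_eq_one hxo) hpq (hDx (mem_zpowers x)) hzD
      (ne_one_of_order hqf.out hzo) (pow_order_eq_one hzo) h1
  set w : G := k * x * k⁻¹ * x⁻¹ with hw
  have hwD : w ∈ ⁅K, K⁆ := by
    have := Subgroup.commutator_mem_commutator hk hx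
    rwa [commutatorElement_def] at this
  have hxw : x * w = w * x := mem_cz.mp (hle hwD)
  have hkx : k * x * k⁻¹ = w * x := by rw [hw]; group
  have hwp : w ^ p = 1 := by
    have h1 : (k * x * k⁻¹) ^ p = 1 := by
      rw [conj_pow, pow_order_eq_one hxo]
      group
    rw [hkx, (show Commute w x from hxw.symm).mul_pow, pow_order_eq_one hxo, mul_one] at h1
    exact h1
  have hw1 : w = 1 := by
    have h1 : orderOf w ∣ p := orderOf_dvd_of_pow_eq_one hwp
    have h2 : orderOf w ∣ Nat.card ↥⁅K, K⁆ := Subgroup.orderOf_dvd_natCard _ hwD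
    have h3 : orderOf w = 1 := Nat.eq_one_of_dvd_coprimes hcop h2 h1
    exact orderOf_eq_one_iff.mp h3
  rw [hw1, one_mul] at hkx
  calc k * x = k * x * k⁻¹ * k := by group
    _ = x * k := by rw [hkx]

/-- The subgroups of prime order of `K` are normal in `K`. -/
theorem normal (H : KH M K E) (C : Cx G) (hx : x ∈ K) (hp : p.Prime) (hxo : orderOf x = p) :
    K ≤ normalizer ((zpowers x : Subgroup G) : Set G) := by
  haveI : Fact p.Prime := ⟨hp⟩
  rcases (H.ke C.hG hx hp hxo).tau C.hG with h | h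
  · intro k hk
    apply Cfsg.Agent.Lib.BGTau5.cent_le_norm x
    exact mem_cz.mpr (H.central_of_tau1 C hx hxo h hk).symm
  · exact H.hKE.trans (tau3_normal C.hG H.hM H.hE h (H.hKE hx) hxo)

/-- `K` has only one subgroup of each prime order. -/
theorem mem_zpowers' (H : KH M K E) (C : Cx G) (hx : x ∈ K) (hp : p.Prime) (hxo : orderOf x = p) (hx' : x' ∈ K)
    (hxo' : orderOf x' = p) : x' ∈ zpowers x := by
  haveI : Fact p.Prime := ⟨hp⟩
  have hs : IsPGroup p ↥(zpowers x' ⊔ zpowers x) :=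
    isPGroup_sup_of_le_normalizer (isPGroup_zpowers_order hxo') (isPGroup_zpowers_order hxo)
      (zpowers_le.mpr (H.normal C hx hp hxo hx'))
  have hc : IsCyclic ↥(zpowers x' ⊔ zpowers x) :=
    isCyclic_of_rank_one C.hG (sup_le (zpowers_le.mpr (H.hK.1 hx')) (zpowers_le.mpr (H.hK.1 hx))) hs
      (rank1_of_kappa (H.kappa_of_mem hx hp hxo))
  exact Cfsg.Agent.Lib.BGTau1.mem_zpowers_of_cyclic hc hp (Subgroup.mem_sup_right (mem_zpowers x))
    (Subgroup.mem_sup_left (mem_zpowers x')) hxo (pow_order_eq_one hxo')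

/-- Elements of prime order of `K` commute. -/
theorem comm_prime (H : KH M K E) (C : Cx G) (hx : x ∈ K) (hp : p.Prime) (hxo : orderOf x = p) (hx' : x' ∈ K)
    (hp' : p'.Prime) (hxo' : orderOf x' = p') : x * x' = x' * x := by
  by_cases h : p = p'
  · subst h
    have h1 := H.mem_zpowers' C hx hp hxo hx' hxo'
    exact (mem_cent_of_mem_zpowers rfl h1).symm
  · have hinf : zpowers x ⊓ zpowers x' = ⊥ := inf_eq_bot_of_coprime' (by
      rw [Nat.card_zpowers, Nat.card_zpowers, hxo, hxo']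
      exact (Nat.coprime_primes hp hp').mpr h)
    exact comm_of_normalize hinf (mem_zpowers x) (mem_zpowers x') (H.normal C hx' hp' hxo' hx) (H.normal C hx hp hxo hx')

/-- Elements of prime order of `K` have the same fixed points on `M_σ`. -/
theorem same_fix (H : KH M K E) (C : Cx G) (hx : x ∈ K) (hp : p.Prime) (hxo : orderOf x = p) (hx' : x' ∈ K)
    (hp' : p'.Prime) (hxo' : orderOf x' = p') {t : G} (ht : t ∈ sigmaCore M) (hxt : x * t = t * x) :
    x' * t = t * x' :=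
  F2' C (H.ke C.hG hx hp hxo) (H.hKE hx') (by rw [hxo']; exact hp') (H.comm_prime C hx hp hxo hx' hp' hxo') ht hxt

/-- A fixed point of a non-identity element of `K` is fixed by all of `K`. -/
theorem le_cent (H : KH M K E) (C : Cx G) {k t : G} (hk : k ∈ K) (hk1 : k ≠ 1) (ht : t ∈ sigmaCore M)
    (hkt : k * t = t * k) : K ≤ centralizer ({t} : Set G) := by
  classical
  have hG := C.hG
  obtain ⟨p, n, hp, -, hxo⟩ := exists_prime_pow hk1
  have hx : k ^ n ∈ K := pow_mem hk n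
  have hxt : k ^ n * t = t * k ^ n := (Commute.pow_left (hkt : Commute k t) n).eq
  apply le_of_sylow_le
  intro ℓ hℓ
  obtain ⟨T, hT⟩ := exists_isSylowIn ℓ K
  refine ⟨T, hT, ?_⟩
  by_cases hT1 : T = ⊥
  · rw [hT1]; exact bot_le
  obtain ⟨x', hx'T, hx'o⟩ := exists_mem_order_p hT.2.1 hT1
  have hx'K : x' ∈ K := hT.1 hx'T
  have hκ := H.kappa_of_mem hx'K hℓ.out hx'o
  have hx't := H.same_fix C hx hp hxo hx'K hℓ.out hx'o ht hxt
  have hTE : IsSylowIn ℓ T E := by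
    refine isSylowIn_of_hall hT H.hKE ?_
    intro hd
    apply H.hK.2.2 ℓ hℓ.out hκ
    rw [← Subgroup.relIndex_mul_relIndex K E M H.hKE H.hE.1]
    exact hd.trans (Dvd.intro _ rfl)
  have hTc : IsCyclic T := isCyclic_of_rank_one hG (hT.1.trans H.hK.1) hT.2.1 (rank1_of_kappa hκ)
  intro z hz
  exact mem_cz.mpr (F1el hG H.hM H.hE hTE hTc hx'T (ne_one_of_order hℓ.out hx'o) ht hx't hz).symm

/-- The first clause of S1430. -/
theorem inf_cent_eq (H : KH M K E) (C : Cx G) {k : G} (hk : k ∈ K) (hk1 : k ≠ 1) :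
    sigmaCore M ⊓ centralizer ({k} : Set G) = sigmaCore M ⊓ centralizer (K : Set G) := by
  apply le_antisymm
  · intro t ht
    obtain ⟨ht1, ht2⟩ := Subgroup.mem_inf.mp ht
    refine Subgroup.mem_inf.mpr ⟨ht1, ?_⟩
    rw [Subgroup.mem_centralizer_iff]
    intro z hz
    exact (mem_cz.mp (H.le_cent C hk hk1 ht1 (mem_cz.mp ht2) hz)).symm
  · intro t ht
    obtain ⟨ht1, ht2⟩ := Subgroup.mem_inf.mp ht
    refine Subgroup.mem_inf.mpr ⟨ht1, ?_⟩
    exact mem_cz.mpr (Subgroup.mem_centralizer_iff.mp ht2 k hk)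

/-- `τ₁`-primes of `M` are in `κ(M)` when `K ≠ 1`. -/
theorem tau1_in_kappa (H : KH M K E) (C : Cx G) {v : G} {q : ℕ} (hv : v ∈ E) (hvo : orderOf v = q) (hq : q ∈ tau1 M) :
    q ∈ kappa M := by
  classical
  have hG := C.hG
  obtain ⟨x, p, hx, hp, hxo⟩ := exists_mem_prime_order H.hK1
  haveI : Fact p.Prime := ⟨hp⟩
  haveI : Fact q.Prime := ⟨hq.1⟩
  have Kx := H.ke hG hx hp hxo
  obtain ⟨y, hy, hy1, hxy⟩ := Kx.hfix
  rcases Kx.tau hG with hτ | hτ
  · have hEs : Group.IsSolvable E := solvable_of_le_coatom hG H.hM H.hE.1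
    obtain ⟨F, hF, hxF⟩ := exists_hall_ge (tau1 M) hEs (zpowers_le.mpr (H.hKE hx)) (fun u hu hd => by
      rw [prime_eq_of_dvd_card_zpowers hp hxo hu hd]; exact hτ)
    obtain ⟨e, he, hle⟩ := exists_conj_le_hall (tau1 M) hEs hF (zpowers_le.mpr hv) (fun u hu hd => by
      rw [prime_eq_of_dvd_card_zpowers hq.1 hvo hu hd]; exact hq)
    have hFc : IsCyclic F := tau1_cyclic hG H.hM H.hE hF
    have hv'F : e * v * e⁻¹ ∈ F := hle (conj_mem_cj (mem_zpowers v))
    have hv'E : e * v * e⁻¹ ∈ E := hF.1 hv'F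
    have hv'o : orderOf (e * v * e⁻¹) = q := by rw [orderOf_conj_eq]; exact hvo
    have hc := comm_of_cyclic hFc (hxF (mem_zpowers x)) hv'F
    have h1 := F2el C H.hM H.hE hτ (H.hKE hx) hxo hv'E (by rw [hv'o]; exact hq.1) hc hy hxy
    exact kappa_of_fix hG H.hM H.hE hq.1 hq.2.2.2.2 hv'E hv'o hy hy1 h1
  · have h1 := FC3 C Kx hτ hv hq.1 hvo
    have h2 := F2' C Kx hv (by rw [hvo]; exact hq.1) h1 hy hxy
    exact kappa_of_fix hG H.hM H.hE hq.1 hq.2.2.2.2 hv hvo hy hy1 h2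

/-- Case A: if `K` contains a `τ₃`-element, all the primes of `E` are in `κ(M)`. -/
theorem all_kappa (H : KH M K E) (C : Cx G) {x₃ : G} {p₃ : ℕ} (hx₃ : x₃ ∈ K) (hτ₃ : p₃ ∈ tau3 M)
    (hx₃o : orderOf x₃ = p₃) {q : ℕ} (hq : q.Prime) (hd : q ∣ Nat.card E) : q ∈ kappa M := by
  classical
  have hG := C.hG
  haveI : Fact q.Prime := ⟨hq⟩
  haveI : Fact p₃.Prime := ⟨hτ₃.1⟩
  have Kx := H.ke hG hx₃ hτ₃.1 hx₃o
  obtain ⟨y, hy, hy1, hxy⟩ := Kx.hfix
  obtain ⟨v₀, hv₀⟩ := exists_prime_orderOf_dvd_card' (G := E) q hd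
  have hv : (v₀ : G) ∈ E := v₀.2
  have hvo : orderOf (v₀ : G) = q := by rw [Subgroup.orderOf_coe]; exact hv₀
  have hqσ : q ∉ sigma M := not_sigma_of_mem_compl hG H.hM H.hE hv hq (by rw [hvo])
  rcases tau_cases hG H.hM hq hqσ (hvo ▸ Subgroup.orderOf_dvd_natCard _ (H.hE.1 hv)) with h1 | h2 | h3
  · exact H.tau1_in_kappa C hv hvo h1
  · exfalso
    obtain ⟨A, hAE, hAe, hAc⟩ := exists_ea_in_compl hG H.hM H.hE h2
    have TA := Cfsg.Agent.Lib.BGTau7.T2.mk' hG H.hM h2 (hAE.trans H.hE.1) hAe hAc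
    have hne : q ≠ p₃ := fun h => h2.2.2.2 (h ▸ hτ₃.2.2.2)
    have hinf : A ⊓ zpowers x₃ = ⊥ := inf_eq_bot_of_coprime' (by
      rw [hAc, Nat.card_zpowers, hx₃o]
      exact Nat.Coprime.pow_left 2 ((Nat.coprime_primes hq hτ₃.1).mpr hne))
    have hn1 := tau3_normal hG H.hM H.hE hτ₃ (H.hKE hx₃) hx₃o
    have hn2 := TA.compl_norm H.hE hAE
    have hyC : y ∈ sigmaCore M ⊓ centralizer (A : Set G) := by
      refine Subgroup.mem_inf.mpr ⟨hy, ?_⟩
      rw [Subgroup.mem_centralizer_iff]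
      intro a ha
      by_cases ha1 : a = 1
      · rw [ha1]; group
      have hao : orderOf a = q := by
        have : a ^ q = 1 := hAe.2 a ha
        exact orderOf_eq_prime this ha1
      have hc : x₃ * a = a * x₃ := (comm_of_normalize hinf ha (mem_zpowers x₃) (hn1 (hAE ha)) (hn2 (H.hKE hx₃))).symm
      exact F2' C Kx (hAE ha) (by rw [hao]; exact hq) hc hy hxy
    rw [TA.d] at hyC
    exact hy1 hyC
  · have hcomm := (Cfsg.Agent.S1420.result hG M H.hM E H.hE).2.1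
    have h1 := mem_comm_of_tau3 hG H.hM H.hE hτ₃ (H.hKE hx₃) (pow_order_eq_one' hx₃o)
    have h2 := mem_comm_of_tau3 hG H.hM H.hE h3 hv (pow_order_eq_one' hvo)
    have h4 := hcomm.is_comm.comm ⟨x₃, h1⟩ ⟨(v₀ : G), h2⟩
    have h5 : x₃ * (v₀ : G) = v₀ * x₃ := by simpa [Subtype.ext_iff] using h4
    have h6 := F2' C Kx hv (by rw [hvo]; exact hq) h5 hy hxy
    exact kappa_of_fix hG H.hM H.hE hq h3.2.2.2 hv hvo hy hy1 h6

/-- The complement `U` of `K` in `E`. -/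
structure UH (M K E U : Subgroup G) : Prop where
  ab : IsMulCommutative U
  hall : IsPiHallOf {q | q.Prime ∧ q ∉ kappa M ∧ q ∉ sigma M} U M
  norm : K ≤ normalizer (U : Set G)
  free : ∀ k ∈ K, k ≠ 1 → U ⊓ centralizer ({k} : Set G) = ⊥
  le : U ≤ E
  fact : ∀ e ∈ E, ∃ k ∈ K, ∃ u ∈ U, e = k * u

theorem relIndex_dvd_of_le' {A B C : Subgroup G} (hAB : A ≤ B) (hBC : B ≤ C) : A.relIndex B ∣ A.relIndex C := by
  rw [← Subgroup.relIndex_mul_relIndex A B C hAB hBC]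
  exact Dvd.intro _ rfl

theorem dvd_card_of_kappa (H : KH M K E) {r : ℕ} (hr : r ∈ kappa M) : r ∣ Nat.card K := by
  have h1 : r ∣ Nat.card M := hr.2.1
  have h2 := Subgroup.relIndex_mul_relIndex (⊥ : Subgroup G) K M bot_le H.hK.1
  rw [Subgroup.relIndex_bot_left, Subgroup.relIndex_bot_left] at h2
  rw [← h2] at h1
  rcases (Nat.Prime.dvd_mul hr.1).mp h1 with h | h
  · exact h
  · exact absurd h (H.hK.2.2 r hr.1 hr)

/-- The case of a `τ₃`-element of `K`. -/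
theorem caseA (H : KH M K E) (C : Cx G) {x₃ : G} {p₃ : ℕ} (hx₃ : x₃ ∈ K) (hτ₃ : p₃ ∈ tau3 M)
    (hx₃o : orderOf x₃ = p₃) : E ≤ K ∧ UH M K E ⊥ := by
  classical
  have hG := C.hG
  have hEK : E ≤ K := by
    rw [← Subgroup.relIndex_eq_one]
    by_contra hne
    obtain ⟨r, hr, hd⟩ := Nat.exists_prime_and_dvd hne
    have hd' : r ∣ Nat.card E := hd.trans (Subgroup.relIndex_dvd_card _ _)
    exact H.hK.2.2 r hr (H.all_kappa C hx₃ hτ₃ hx₃o hr hd') (hd.trans (relIndex_dvd_of_le' H.hKE H.hE.1))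
  refine ⟨hEK, ⟨⟨fun a b => ?_⟩⟩, ⟨bot_le, ?_, ?_⟩, ?_, ?_, bot_le, ?_⟩
  · apply Subtype.ext
    have ha : (a : G) = 1 := a.2
    have hb : (b : G) = 1 := b.2
    simp [ha, hb]
  · intro r hr hd
    rw [Subgroup.card_bot] at hd
    exact absurd (Nat.dvd_one.mp hd) hr.ne_one
  · rintro r hr ⟨-, hrκ, hrσ⟩ hd
    rw [Subgroup.relIndex_bot_left, ← card_compl H.hE] at hd
    rcases (Nat.Prime.dvd_mul hr).mp hd with h | h
    · exact hrκ (H.all_kappa C hx₃ hτ₃ hx₃o hr h)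
    · exact hrσ (primes_sigmaCore r hr h)
  · intro k hk
    apply Cfsg.Agent.Lib.BGTau4.mem_normalizer_of_forall
    intro y hy
    rw [Subgroup.mem_bot] at hy ⊢
    rw [hy]
    group
  · intro k _ _
    exact bot_inf_eq _
  · intro e he
    exact ⟨e, hEK he, 1, one_mem _, (mul_one e).symm⟩

/-- The case without `τ₃`-elements in `K`. -/
theorem caseB (H : KH M K E) (C : Cx G) (hB : ∀ x ∈ K, ∀ p : ℕ, p ∈ tau3 M → orderOf x ≠ p) :
    ∃ U : Subgroup G, UH M K E U := by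
  classical
  have hG := C.hG
  have hτ₁ : ∀ x ∈ K, ∀ p : ℕ, p.Prime → orderOf x = p → p ∈ tau1 M := by
    intro x hx p hp hxo
    rcases (H.ke hG hx hp hxo).tau hG with h | h
    · exact h
    · exact absurd hxo (hB x hx p h)
  have hEs : Group.IsSolvable E := solvable_of_le_coatom hG H.hM H.hE.1
  have hDE : ⁅E, E⁆ ≤ E := Subgroup.commutator_le.mpr fun a ha b hb => by
    rw [commutatorElement_def]
    exact mul_mem (mul_mem (mul_mem ha hb) (inv_mem ha)) (inv_mem hb)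
  have hDp : ∀ r : ℕ, r.Prime → r ∣ Nat.card ↥⁅E, E⁆ → r ∈ {q : ℕ | q ∉ kappa M} := by
    intro r hr hd hκ
    haveI : Fact r.Prime := ⟨hr⟩
    obtain ⟨x₀, hx₀⟩ := exists_prime_orderOf_dvd_card' (G := K) r (dvd_card_of_kappa H hκ)
    have hx₀o : orderOf (x₀ : G) = r := by rw [Subgroup.orderOf_coe]; exact hx₀
    have h1 := hτ₁ x₀ x₀.2 r hr hx₀o
    exact h1.2.2.2.1 (hd.trans (Subgroup.card_dvd_of_le (Subgroup.commutator_mono H.hE.1 H.hE.1)))
  obtain ⟨U, hU, hDU⟩ := exists_hall_ge {q : ℕ | q ∉ kappa M} hEs hDE hDp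
  have hUE : U ≤ E := hU.1
  have hEN : E ≤ normalizer (U : Set G) := by
    intro e he
    apply Cfsg.Agent.Lib.BGTau4.mem_normalizer_of_forall
    intro u hu
    have h1 : e * u * e⁻¹ * u⁻¹ ∈ ⁅E, E⁆ := by
      have := Subgroup.commutator_mem_commutator he (hUE hu)
      rwa [commutatorElement_def] at this
    have h2 : e * u * e⁻¹ = (e * u * e⁻¹ * u⁻¹) * u := by group
    rw [h2]
    exact mul_mem (hDU h1) hu
  have hKN : K ≤ normalizer (U : Set G) := H.hKE.trans hEN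
  have hUσ : ∀ r : ℕ, r.Prime → r ∣ Nat.card U → r ∉ sigma M := fun r hr hd =>
    Cfsg.Agent.Lib.BGTau7.not_sigma_of_compl hG H.hM H.hE hr (hd.trans (Subgroup.card_dvd_of_le hUE))
  have hfree₀ : ∀ ρ ∈ K, ∀ q : ℕ, q.Prime → orderOf ρ = q → U ⊓ centralizer ({ρ} : Set G) = ⊥ := by
    intro ρ hρ q hq hρo
    rw [eq_bot_iff]
    intro u hu
    rw [Subgroup.mem_bot]
    by_contra hu1
    obtain ⟨huU, huc⟩ := Subgroup.mem_inf.mp hu
    obtain ⟨s, n, hs, -, hso⟩ := exists_prime_pow hu1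
    haveI : Fact s.Prime := ⟨hs⟩
    have hu'U : u ^ n ∈ U := pow_mem huU n
    have hu'E : u ^ n ∈ E := hUE hu'U
    have hcomm : ρ * u ^ n = u ^ n * ρ := (Commute.pow_right (mem_cz.mp huc : Commute ρ u) n).eq
    have hsκ : s ∉ kappa M := hU.2.1 s hs (hso ▸ Subgroup.orderOf_dvd_natCard _ hu'U)
    have hsσ : s ∉ sigma M := hUσ s hs (hso ▸ Subgroup.orderOf_dvd_natCard _ hu'U)
    have hqτ := hτ₁ ρ hρ q hq hρo
    have Kρ := H.ke hG hρ hq hρo
    obtain ⟨y, hy, hy1, hρy⟩ := Kρ.hfix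
    rcases tau_cases hG H.hM hs hsσ (hso ▸ Subgroup.orderOf_dvd_natCard _ (H.hE.1 hu'E)) with h1 | h2 | h3
    · exact hsκ (H.tau1_in_kappa C hu'E hso h1)
    · exact no_tau2_comm C Kρ hqτ hu'E hso h2 hcomm
    · have h4 := F2el C H.hM H.hE hqτ (H.hKE hρ) hρo hu'E (by rw [hso]; exact hs) hcomm hy hρy
      exact hsκ (kappa_of_fix hG H.hM H.hE hs h3.2.2.2 hu'E hso hy hy1 h4)
  have hfree : ∀ k ∈ K, k ≠ 1 → U ⊓ centralizer ({k} : Set G) = ⊥ := by
    intro k hk hk1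
    obtain ⟨q, n, hq, -, hqo⟩ := exists_prime_pow hk1
    rw [eq_bot_iff, ← hfree₀ (k ^ n) (pow_mem hk n) q hq hqo]
    intro u hu
    obtain ⟨h1, h2⟩ := Subgroup.mem_inf.mp hu
    exact Subgroup.mem_inf.mpr ⟨h1, mem_cz.mpr (Commute.pow_left (mem_cz.mp h2 : Commute k u) n).eq⟩
  have hab : IsMulCommutative U := by
    by_cases hU1 : U = ⊥
    · rw [hU1]
      refine ⟨⟨fun a b => ?_⟩⟩
      apply Subtype.ext
      have ha : (a : G) = 1 := a.2
      have hb : (b : G) = 1 := b.2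
      simp [ha, hb]
    · obtain ⟨ρ, q, hρ, hq, hρo⟩ := exists_mem_prime_order H.hK1
      haveI : Fact q.Prime := ⟨hq⟩
      have hnil := Cfsg.Agent.Lib.BGTau7.nilpotent_of_fpf (hKN hρ) (pow_order_eq_one hρo) hU1
        (hfree₀ ρ hρ q hq hρo)
      exact (Cfsg.Agent.S1420.result hG M H.hM E H.hE).1 U (hUE.trans H.hE.1) hnil hUσ
  have hhall : IsPiHallOf {q | q.Prime ∧ q ∉ kappa M ∧ q ∉ sigma M} U M := by
    refine ⟨hUE.trans H.hE.1, fun r hr hd => ⟨hr, hU.2.1 r hr hd, hUσ r hr hd⟩, ?_⟩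
    rintro r hr ⟨-, hrκ, hrσ⟩ hd
    rw [← Subgroup.relIndex_mul_relIndex U E M hUE H.hE.1] at hd
    rcases (Nat.Prime.dvd_mul hr).mp hd with h | h
    · exact hU.2.2 r hr hrκ h
    · have h5 := Subgroup.relIndex_mul_relIndex (⊥ : Subgroup G) E M bot_le H.hE.1
      rw [Subgroup.relIndex_bot_left, Subgroup.relIndex_bot_left, ← card_compl H.hE] at h5
      have h6 : E.relIndex M = Nat.card ↥(sigmaCore M) := Nat.eq_of_mul_eq_mul_left Nat.card_pos h5
      rw [h6] at h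
      exact hrσ (primes_sigmaCore r hr h)
  have hsup : K ⊔ U = E := by
    apply le_antisymm (sup_le H.hKE hUE)
    rw [← Subgroup.relIndex_eq_one]
    by_contra hne
    obtain ⟨r, hr, hd⟩ := Nat.exists_prime_and_dvd hne
    have h1 : (K ⊔ U).relIndex E ∣ K.relIndex E := Subgroup.relIndex_dvd_of_le_left E le_sup_left
    have h2 : (K ⊔ U).relIndex E ∣ U.relIndex E := Subgroup.relIndex_dvd_of_le_left E le_sup_right
    by_cases hrκ : r ∈ kappa M
    · exact H.hK.2.2 r hr hrκ ((hd.trans h1).trans (relIndex_dvd_of_le' H.hKE H.hE.1))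
    · exact hU.2.2 r hr hrκ (hd.trans h2)
  refine ⟨U, hab, hhall, hKN, hfree, hUE, ?_⟩
  intro e he
  rw [← hsup] at he
  exact Cfsg.Agent.Lib.BGTau3.mul_of_mem_sup hKN he

/-- The complement exists. -/
theorem exists_UH (H : KH M K E) (C : Cx G) : ∃ U : Subgroup G, UH M K E U := by
  by_cases hA : ∃ x ∈ K, ∃ p : ℕ, p ∈ tau3 M ∧ orderOf x = p
  · obtain ⟨x, hx, p, hp, hxo⟩ := hA
    exact ⟨⊥, (H.caseA C hx hp hxo).2⟩
  · push Not at hA
    exact H.caseB C hA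

/-- The normalizer in `M` of a subgroup of prime order of `K`. -/
theorem norm_eq (H : KH M K E) (C : Cx G) {U : Subgroup G} (hU : UH M K E U) (hx : x ∈ K) (hp : p.Prime)
    (hxo : orderOf x = p) :
    M ⊓ normalizer ((zpowers x : Subgroup G) : Set G) = K ⊔ (sigmaCore M ⊓ centralizer (K : Set G)) := by
  classical
  have hG := C.hG
  haveI : Fact p.Prime := ⟨hp⟩
  have hx1 : x ≠ 1 := ne_one_of_order hp hxo
  have hxM : x ∈ M := H.hK.1 hx
  have hxE : x ∈ E := H.hKE hx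
  have hKN := H.normal C hx hp hxo
  apply le_antisymm
  · intro m hm
    obtain ⟨hmM, hmN⟩ := Subgroup.mem_inf.mp hm
    obtain ⟨e, he, h, hh, rfl⟩ := H.hE.2.2.2 m hmM
    have h1 : e * h * x * (e * h)⁻¹ ∈ zpowers x := (mem_normalizer_iff.mp hmN x).mp (mem_zpowers x)
    have h2 : h * x * h⁻¹ ∈ E := by
      have h3 : h * x * h⁻¹ = e⁻¹ * (e * h * x * (e * h)⁻¹) * e := by group
      rw [h3]
      exact mul_mem (mul_mem (inv_mem he) (H.hKE ((zpowers_le.mpr hx) h1))) he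
    have h4 : h * x * h⁻¹ * x⁻¹ ∈ E ⊓ sigmaCore M := by
      refine Subgroup.mem_inf.mpr ⟨mul_mem h2 (inv_mem hxE), ?_⟩
      have h5 : h * x * h⁻¹ * x⁻¹ = h * (x * h⁻¹ * x⁻¹) := by group
      rw [h5]
      exact mul_mem hh ((mem_normalizer_iff.mp (le_normalizer_sigmaCore hxM) h⁻¹).mp (inv_mem hh))
    rw [H.hE.2.2.1] at h4
    have h6 : h * x * h⁻¹ * x⁻¹ = 1 := h4
    have hhx : x * h = h * x := by
      have h7 : h * x * h⁻¹ = x := by
        have := congrArg (· * x) h6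
        simpa using this
      calc x * h = (h * x * h⁻¹) * h := by rw [h7]
        _ = h * x := by group
    have hhK : h ∈ sigmaCore M ⊓ centralizer (K : Set G) := by
      rw [← H.inf_cent_eq C hx hx1]
      exact Subgroup.mem_inf.mpr ⟨hh, mem_cz.mpr hhx⟩
    have hhN : h ∈ normalizer ((zpowers x : Subgroup G) : Set G) :=
      Cfsg.Agent.Lib.BGTau5.cent_le_norm x (mem_cz.mpr hhx)
    have heN : e ∈ normalizer ((zpowers x : Subgroup G) : Set G) := by
      have : e = e * h * h⁻¹ := by group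
      rw [this]
      exact mul_mem hmN (inv_mem hhN)
    obtain ⟨k, hk, u, hu, rfl⟩ := hU.fact e he
    have huN : u ∈ normalizer ((zpowers x : Subgroup G) : Set G) := by
      have : u = k⁻¹ * (k * u) := by group
      rw [this]
      exact mul_mem (inv_mem (hKN hk)) heN
    have hinf : U ⊓ zpowers x = ⊥ := inf_eq_bot_of_coprime' (by
      rw [Nat.card_zpowers, hxo]
      exact ((Nat.Prime.coprime_iff_not_dvd hp).mpr (fun hd =>
        (hU.hall.2.1 p hp hd).2.1 (H.kappa_of_mem hx hp hxo))).symm)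
    have hux : u * x = x * u := comm_of_normalize hinf hu (mem_zpowers x) huN (hU.norm hx)
    have hu1 : u = 1 := by
      have : u ∈ U ⊓ centralizer ({x} : Set G) := Subgroup.mem_inf.mpr ⟨hu, mem_cz.mpr hux.symm⟩
      rw [hU.free x hx hx1] at this
      exact this
    rw [hu1, mul_one]
    exact mul_mem (Subgroup.mem_sup_left hk) (Subgroup.mem_sup_right hhK)
  · apply sup_le
    · exact le_inf H.hK.1 hKN
    · apply le_inf (inf_le_left.trans sigmaCore_le)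
      intro z hz
      apply Cfsg.Agent.Lib.BGTau5.cent_le_norm x
      exact mem_cz.mpr (Subgroup.mem_centralizer_iff.mp (Subgroup.mem_inf.mp hz).2 x hx)

/-- The normalizer in `M` of `K`. -/
theorem norm_K_eq (H : KH M K E) (C : Cx G) {U : Subgroup G} (hU : UH M K E U) :
    M ⊓ normalizer (K : Set G) = K ⊔ (sigmaCore M ⊓ centralizer (K : Set G)) := by
  obtain ⟨x, p, hx, hp, hxo⟩ := exists_mem_prime_order H.hK1
  apply le_antisymm
  · rw [← H.norm_eq C hU hx hp hxo]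
    apply inf_le_inf_left
    intro g hg
    apply Cfsg.Agent.Lib.BGTau4.mem_normalizer_of_forall
    intro y hy
    have h1 : g * x * g⁻¹ ∈ K := (mem_normalizer_iff.mp hg x).mp hx
    have h2 : g * x * g⁻¹ ∈ zpowers x := H.mem_zpowers' C hx hp hxo h1 (by rw [orderOf_conj_eq]; exact hxo)
    obtain ⟨n, rfl⟩ := mem_zpowers_iff.mp hy
    have h3 : g * x ^ n * g⁻¹ = (g * x * g⁻¹) ^ n := by rw [conj_zpow]
    rw [h3]
    exact zpow_mem h2 n
  · apply sup_le
    · exact le_inf H.hK.1 Subgroup.le_normalizer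
    · apply le_inf (inf_le_left.trans sigmaCore_le)
      exact inf_le_right.trans (Subgroup.centralizer_le_normalizer _)

end KH

/-- A subgroup of prime order. -/
theorem exists_gen {X : Subgroup G} (hX : (Nat.card X).Prime) : ∃ x ∈ X, orderOf x = Nat.card X ∧ X = zpowers x := by
  haveI : Fact (Nat.card X).Prime := ⟨hX⟩
  obtain ⟨x, hx⟩ := exists_prime_orderOf_dvd_card' (G := X) (Nat.card X) dvd_rfl
  have hxo : orderOf (x : G) = Nat.card X := by rw [Subgroup.orderOf_coe]; exact hx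
  refine ⟨x, x.2, hxo, ?_⟩
  exact (Subgroup.eq_of_le_of_card_ge (zpowers_le.mpr x.2) (by rw [Nat.card_zpowers, hxo])).symm

/-- S1430, given the context. -/
theorem main30 (C : Cx G) (hM : IsCoatom M) (hK : IsPiHallOf (kappa M) K M) (hK1 : K ≠ ⊥) :
    (∀ k ∈ K, k ≠ 1 → sigmaCore M ⊓ centralizer ({k} : Set G) = (sigmaCore M ⊓ centralizer (K : Set G))) ∧
      (∃ U : Subgroup G, IsMulCommutative U ∧ IsPiHallOf {q | q.Prime ∧ q ∉ kappa M ∧ q ∉ sigma M} U M ∧
        K ≤ normalizer (U : Set G) ∧ ∀ k ∈ K, k ≠ 1 → U ⊓ centralizer ({k} : Set G) = ⊥) ∧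
      ∀ X : Subgroup G, X ≤ K → (Nat.card X).Prime →
        M ⊓ normalizer (X : Set G) = K ⊔ (sigmaCore M ⊓ centralizer (K : Set G)) ∧
        M ⊓ normalizer (K : Set G) = K ⊔ (sigmaCore M ⊓ centralizer (K : Set G)) ∧
        ∀ Mstar : Subgroup G, IsCoatom Mstar → normalizer (X : Set G) ≤ Mstar → X ≤ sigmaCore Mstar := by
  have hG := C.hG
  obtain ⟨E, H⟩ := exists_KH hG hM hK hK1
  obtain ⟨U, hU⟩ := H.exists_UH C
  refine ⟨fun k hk hk1 => H.inf_cent_eq C hk hk1, ⟨U, hU.ab, hU.hall, hU.norm, hU.free⟩, ?_⟩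
  intro X hXK hX
  obtain ⟨x, hxX, hxo, rfl⟩ := exists_gen hX
  haveI : Fact (Nat.card (zpowers x)).Prime := ⟨hX⟩
  have hxK := hXK hxX
  refine ⟨H.norm_eq C hU hxK hX hxo, H.norm_K_eq C hU, ?_⟩
  intro Mst hMst hN
  have Kx := H.ke hG hxK hX hxo
  have hσ := G2gen C Kx hMst hN
  have hxM : x ∈ Mst := hN (Subgroup.le_normalizer (mem_zpowers x))
  exact zpowers_le.mpr (mem_sigmaCore_of_pow hG hMst hσ hxM (pow_order_eq_one' hxo))

end Cfsg.Agent.Lib.BGK8
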