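import Mathlib
import Cfsg.Agent.Lib.BGK8

/-!
# Section 14 of Bender-Glauberman: intersections with `K*`; centralizers of elements of `M_σ`.
-/

set_option autoImplicit false
set_option linter.unusedSectionVars false
set_option linter.unusedVariables false
set_option linter.style.haveILetI false
set_option linter.unusedSimpArgs false

namespace Cfsg.Agent.Lib.BGK9

open Cfsg Subgroup Cfsg.Agent.Lib.CoprimeInv Cfsg.Agent.Lib.BGTrans Cfsg.Agent.Lib.BGM1 Cfsg.Agent.Lib.BGM2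
  Cfsg.Agent.Lib.BGK0 Cfsg.Agent.Lib.BGK1 Cfsg.Agent.Lib.BGK2 Cfsg.Agent.Lib.BGK3 Cfsg.Agent.Lib.BGK4
  Cfsg.Agent.Lib.BGK5 Cfsg.Agent.Lib.BGK6 Cfsg.Agent.Lib.BGK7 Cfsg.Agent.Lib.BGK8
open scoped commutatorElement

universe u

variable {G : Type u} [Group G] [Finite G] {M K E : Subgroup G}

/-- Elements of prime order of `K*` have their centralizers in `M`. -/
theorem _root_.Cfsg.Agent.Lib.BGK8.KH.cent_le (H : KH M K E) (C : Cx G) {y : G} {r : ℕ} (hy : y ∈ sigmaCore M ⊓ centralizer (K : Set G))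
    (hr : r.Prime) (hyo : orderOf y = r) : centralizer ({y} : Set G) ≤ M := by
  obtain ⟨x, p, hx, hp, hxo⟩ := exists_mem_prime_order H.hK1
  obtain ⟨hy1, hy2⟩ := Subgroup.mem_inf.mp hy
  exact T1 C (H.ke C.hG hx hp hxo) hy1 (Subgroup.mem_centralizer_iff.mp hy2 x hx) hr hyo

/-- Fusion of the elements of `K*`. -/
theorem _root_.Cfsg.Agent.Lib.BGK8.KH.fusion_star (H : KH M K E) (C : Cx G) {z : G} (hz : z ∈ sigmaCore M ⊓ centralizer (K : Set G)) (hz1 : z ≠ 1)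
    {g : G} (hg : g * z * g⁻¹ ∈ M) : g ∈ M := by
  obtain ⟨r, n, hr, -, hyo⟩ := exists_prime_pow hz1
  haveI : Fact r.Prime := ⟨hr⟩
  have hy : z ^ n ∈ sigmaCore M ⊓ centralizer (K : Set G) := pow_mem hz n
  have hC := H.cent_le C hy hr hyo
  have hyσ := (Subgroup.mem_inf.mp hy).1
  have hrσ : r ∈ sigma M := sigma_of_mem_sigmaCore hyσ hr (by rw [hyo])
  refine Cfsg.Agent.Lib.BGTau5.fusion C.hG H.hM hrσ (sigmaCore_le hyσ) (ne_one_of_order hr hyo) (pow_order_eq_one hyo) hC ?_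
  have h1 : g * z ^ n * g⁻¹ = (g * z * g⁻¹) ^ n := by rw [conj_pow]
  rw [h1]
  exact pow_mem hg n

/-- `K` contains an element of `τ₁`-prime order. -/
theorem _root_.Cfsg.Agent.Lib.BGK8.KH.exists_tau1_elt (H : KH M K E) (C : Cx G) : ∃ ρ ∈ K, ∃ q : ℕ, q ∈ tau1 M ∧ orderOf ρ = q := by
  classical
  have hG := C.hG
  by_cases hA : ∃ x ∈ K, ∃ p : ℕ, p ∈ tau3 M ∧ orderOf x = p
  · obtain ⟨x, hx, p, hp, hxo⟩ := hA
    haveI : Fact p.Prime := ⟨hp.1⟩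
    obtain ⟨q, k, v, hq, hqτ, hv, hvk, hxv⟩ := exists_mover hG H.hM H.hE hp (H.hKE hx) hxo
    haveI : Fact q.Prime := ⟨hq⟩
    have hEK := (H.caseA C hx hp hxo).1
    have hv1 : v ≠ 1 := by
      rintro rfl
      exact hxv (by group)
    obtain ⟨n, hn⟩ := exists_pow_order (isPGroup_zpowers_pow hvk) (mem_zpowers v) hv1
    have hρ : v ^ n ∈ K := pow_mem (hEK hv) n
    rcases (H.ke hG hρ hq hn).tau hG with h | h
    · exact ⟨_, hρ, q, h, hn⟩
    · exact absurd h hqτ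
  · push Not at hA
    obtain ⟨x, p, hx, hp, hxo⟩ := exists_mem_prime_order H.hK1
    rcases (H.ke hG hx hp hxo).tau hG with h | h
    · exact ⟨x, hx, p, h, hxo⟩
    · exact absurd hxo (hA x hx p h)

/-- S1431, given the context. -/
theorem main31 (C : Cx G) (hM : IsCoatom M) (hK : IsPiHallOf (kappa M) K M) (hK1 : K ≠ ⊥) :
    (∀ g : G, g ∉ M → (sigmaCore M ⊓ centralizer (K : Set G)) ⊓ M.map (MulAut.conj g).toMonoidHom = ⊥) ∧
      (∀ g ∈ M, g ∉ K ⊔ (sigmaCore M ⊓ centralizer (K : Set G)) → K ⊓ K.map (MulAut.conj g).toMonoidHom = ⊥) ∧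
      (∀ (p : ℕ), p.Prime → p ∣ Nat.card ↥(sigmaCore M ⊓ centralizer (K : Set G)) → ∀ S : Sylow p ↥(sigmaCore M),
        InUniqueMaximal ((S : Subgroup ↥(sigmaCore M)).map (sigmaCore M).subtype) ∧
        (S : Subgroup ↥(sigmaCore M)).map (sigmaCore M).subtype ≤ M ∧
        ¬ (S : Subgroup ↥(sigmaCore M)).map (sigmaCore M).subtype ≤ (sigmaCore M ⊓ centralizer (K : Set G))) ∧
      ∀ Y : Subgroup G, (∀ p : ℕ, p.Prime → p ∣ Nat.card Y → p ∈ sigma M) →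
        Y ⊓ (sigmaCore M ⊓ centralizer (K : Set G)) ≠ ⊥ → Y ≤ sigmaCore M := by
  classical
  have hG := C.hG
  obtain ⟨E, H⟩ := exists_KH hG hM hK hK1
  obtain ⟨U, hU⟩ := H.exists_UH C
  refine ⟨?_, ?_, ?_, ?_⟩
  · intro g hg
    rw [eq_bot_iff]
    intro z hz
    rw [Subgroup.mem_bot]
    by_contra hz1
    obtain ⟨h1, h2⟩ := Subgroup.mem_inf.mp hz
    have h3 : g⁻¹ * z * g ∈ M := mem_cj.mp h2
    have h4 : g⁻¹ ∈ M := H.fusion_star C h1 hz1 (g := g⁻¹) (by simpa using h3)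
    exact hg (by simpa using inv_mem h4)
  · intro g hgM hg
    rw [eq_bot_iff]
    intro z hz
    rw [Subgroup.mem_bot]
    by_contra hz1
    obtain ⟨h1, h2⟩ := Subgroup.mem_inf.mp hz
    obtain ⟨p, n, hp, -, hxo⟩ := exists_prime_pow hz1
    have hx : z ^ n ∈ K := pow_mem h1 n
    have hx' : g⁻¹ * z ^ n * g ∈ K := mem_cj.mp (pow_mem h2 n)
    have hx'' : g⁻¹ * z ^ n * g ∈ zpowers (z ^ n) :=
      H.mem_zpowers' C hx hp hxo hx' (by
        have := orderOf_conj_eq g⁻¹ (z ^ n)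
        rw [← hxo, ← this]
        simp)
    have hN : g⁻¹ ∈ normalizer ((zpowers (z ^ n) : Subgroup G) : Set G) := by
      apply Cfsg.Agent.Lib.BGTau4.mem_normalizer_of_forall
      intro y hy
      obtain ⟨m, rfl⟩ := mem_zpowers_iff.mp hy
      have h3 : g⁻¹ * (z ^ n) ^ m * g⁻¹⁻¹ = (g⁻¹ * z ^ n * g) ^ m := by
        rw [show g⁻¹ * z ^ n * g = g⁻¹ * z ^ n * g⁻¹⁻¹ by group, conj_zpow]
      rw [h3]
      exact zpow_mem hx'' m
    apply hg
    rw [← H.norm_eq C hU hx hp hxo]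
    refine Subgroup.mem_inf.mpr ⟨hgM, by simpa using inv_mem hN⟩
  · intro p hp hd S
    haveI : Fact p.Prime := ⟨hp⟩
    obtain ⟨y₀, hy₀⟩ := exists_prime_orderOf_dvd_card' (G := ↥(sigmaCore M ⊓ centralizer (K : Set G))) p hd
    have hyo : orderOf ((y₀ : ↥(sigmaCore M ⊓ centralizer (K : Set G))) : G) = p := by
      rw [Subgroup.orderOf_coe]; exact hy₀
    obtain ⟨hyσ, hyc⟩ := Subgroup.mem_inf.mp y₀.2
    have hyM := sigmaCore_le hyσ
    have hpσ : p ∈ sigma M := sigma_of_mem_sigmaCore hyσ hp (by rw [hyo])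
    obtain ⟨ρ, hρ, q, hq, hρo⟩ := H.exists_tau1_elt C
    have hh : p ∈ beta M ∨ zpowers (y₀ : G) ≤ ⁅sigmaCore M, sigmaCore M⁆ := by
      by_cases hβ : p ∈ beta M
      · exact Or.inl hβ
      · exact Or.inr (zpowers_le.mpr (lemmaA C hM hq (H.hK.1 hρ) hρo hyσ
          (Subgroup.mem_centralizer_iff.mp hyc ρ hρ) hp hyo hβ))
    obtain ⟨-, h2, h3⟩ := Cfsg.Agent.S1423.result hG M hM p hpσ (zpowers (y₀ : G)) (zpowers_le.mpr hyM)
      (by rw [Nat.card_zpowers, hyo]) S hh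
    refine ⟨h2, h3, ?_⟩
    intro hle
    obtain ⟨x, r, hx, hr, hxo⟩ := exists_mem_prime_order H.hK1
    obtain ⟨L, KL⟩ := (H.ke hG hx hr hxo).exists_KL hG
    have h4 : (S : Subgroup ↥(sigmaCore M)).map (sigmaCore M).subtype ≤ L := by
      intro s hs
      apply KL.mem_L
      exact Subgroup.mem_centralizer_iff.mp (Subgroup.mem_inf.mp (hle hs)).2 x hx
    exact KL.ne C (Cfsg.Agent.Lib.BGTau5.uniq_eq h2 KL.hL hM h4 h3)
  · intro Y hY hne
    obtain ⟨z, hz, hz1⟩ := (Y ⊓ (sigmaCore M ⊓ centralizer (K : Set G))).bot_or_exists_ne_one.resolve_left hne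
    have hz1' : (z : G) ≠ 1 := by simpa using hz1
    obtain ⟨hzY, hzK⟩ := Subgroup.mem_inf.mp hz
    have hY1 : Y ≠ ⊥ := by
      rintro rfl
      exact hz1' hzY
    obtain ⟨g, hg⟩ := Cfsg.Agent.S1425.result hG M hM Y hY1 hY
    have hgM : g ∈ M := H.fusion_star C hzK hz1' (sigmaCore_le (hg (conj_mem_cj hzY)))
    intro u hu
    have h1 : g * u * g⁻¹ ∈ sigmaCore M := hg (conj_mem_cj hu)
    have h2 : g⁻¹ * (g * u * g⁻¹) * g⁻¹⁻¹ ∈ sigmaCore M :=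
      (mem_normalizer_iff.mp (le_normalizer_sigmaCore (inv_mem hgM)) _).mp h1
    have h3 : g⁻¹ * (g * u * g⁻¹) * g⁻¹⁻¹ = u := by group
    rwa [h3] at h2

/-- S1432, given the context. -/
theorem main32 (C : Cx G) (hM : IsCoatom M) {x x' : G} (hx : x ∈ sigmaCore M) (hx1 : x ≠ 1)
    (hx' : x' ∈ M ⊓ centralizer ({x} : Set G)) (hx'1 : x' ≠ 1)
    (hσ : ∀ p : ℕ, p.Prime → p ∣ orderOf x' → p ∉ sigma M) :
    ((∀ p : ℕ, p.Prime → p ∣ orderOf x' → p ∈ kappa M) ∧ centralizer ({x} : Set G) ≤ M) ∨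
      ((∀ p : ℕ, p.Prime → p ∣ orderOf x' → p ∈ tau2 M) ∧
        (∃ L : Subgroup G, IsCoatom L ∧ ∀ p : ℕ, p.Prime → p ∣ orderOf x' → p ∈ sigma L) ∧
        (centralizer ({x'} : Set G) ≤ M ∧ ∀ L : Subgroup G, IsCoatom L → centralizer ({x'} : Set G) ≤ L → L = M)) := by
  classical
  have hG := C.hG
  obtain ⟨hx'M, hx'c⟩ := Subgroup.mem_inf.mp hx'
  have hxx' : x * x' = x' * x := mem_cz.mp hx'c
  obtain ⟨E, hE, hx'E⟩ := exists_compl_ge hG hM (zpowers_le.mpr hx'M) (fun u hu hd => by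
    rw [Nat.card_zpowers] at hd
    exact hσ u hu hd)
  have hx'E' : x' ∈ E := hx'E (mem_zpowers x')
  -- the prime-order powers of `x'`.
  have hpow : ∀ p : ℕ, p.Prime → p ∣ orderOf x' → ∃ ρ ∈ E, orderOf ρ = p ∧ ρ * x = x * ρ ∧ ∃ n : ℕ, ρ = x' ^ n := by
    intro p hp hd
    refine ⟨x' ^ (orderOf x' / p), pow_mem hx'E' _, exists_prime_pow' hx'1 hp hd, ?_, ?_⟩
    · exact (Commute.pow_left (hxx'.symm : Commute x' x) _).eq
    · exact ⟨_, rfl⟩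
  have hclass : ∀ p : ℕ, p.Prime → p ∣ orderOf x' → p ∈ kappa M ∨ p ∈ tau2 M := by
    intro p hp hd
    obtain ⟨ρ, hρ, hρo, hρx, -⟩ := hpow p hp hd
    rcases tau_cases hG hM hp (hσ p hp hd) (hρo ▸ Subgroup.orderOf_dvd_natCard _ (hE.1 hρ)) with h1 | h2 | h3
    · exact Or.inl (kappa_of_fix hG hM hE hp h1.2.2.2.2 hρ hρo hx hx1 hρx)
    · exact Or.inr h2
    · exact Or.inl (kappa_of_fix hG hM hE hp h3.2.2.2 hρ hρo hx hx1 hρx)
  have hKE : ∀ {p : ℕ} {ρ : G}, p ∈ kappa M → ρ ∈ E → orderOf ρ = p → ρ * x = x * ρ → KE M E ρ p :=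
    fun hκ hρ hρo hρx => ⟨hM, hE, hκ.1, hρ, hρo, rank1_of_kappa hκ, x, hx, hx1, hρx⟩
  -- no mixture
  have hmix : ∀ p p' : ℕ, p.Prime → p ∣ orderOf x' → p ∈ kappa M → p'.Prime → p' ∣ orderOf x' → p' ∈ tau2 M → False := by
    intro p p' hp hd hκ hp' hd' hτ₂
    haveI : Fact p.Prime := ⟨hp⟩
    haveI : Fact p'.Prime := ⟨hp'⟩
    obtain ⟨ρ, hρ, hρo, hρx, hρc⟩ := hpow p hp hd
    obtain ⟨u, hu, huo, -, n', hn'⟩ := hpow p' hp' hd'
    obtain ⟨n, hn⟩ := hρc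
    have Kρ := hKE hκ hρ hρo hρx
    rcases Kρ.tau hG with h | h
    · refine no_tau2_comm C Kρ h hu huo hτ₂ ?_
      rw [hn, hn']
      exact (Commute.pow_pow_self x' _ _).eq
    · obtain ⟨A, hAE, hAe, hAc⟩ := exists_ea_in_compl hG hM hE hτ₂
      have TA := Cfsg.Agent.Lib.BGTau7.T2.mk' hG hM hτ₂ (hAE.trans hE.1) hAe hAc
      have hne : p' ≠ p := fun h1 => hτ₂.2.2.2 (h1 ▸ h.2.2.2)
      have hinf : A ⊓ zpowers ρ = ⊥ := inf_eq_bot_of_coprime' (by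
        rw [hAc, Nat.card_zpowers, hρo]
        exact Nat.Coprime.pow_left 2 ((Nat.coprime_primes hp' hp).mpr hne))
      have hn1 := tau3_normal hG hM hE h hρ hρo
      have hn2 := TA.compl_norm hE hAE
      have hyC : x ∈ sigmaCore M ⊓ centralizer (A : Set G) := by
        refine Subgroup.mem_inf.mpr ⟨hx, ?_⟩
        rw [Subgroup.mem_centralizer_iff]
        intro a ha
        by_cases ha1 : a = 1
        · rw [ha1]; group
        have hao : orderOf a = p' := orderOf_eq_prime (hAe.2 a ha) ha1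
        have hc : ρ * a = a * ρ := (comm_of_normalize hinf ha (mem_zpowers ρ) (hn1 (hAE ha)) (hn2 hρ)).symm
        exact F2' C Kρ (hAE ha) (by rw [hao]; exact hp') hc hx hρx
      rw [TA.d] at hyC
      exact hx1 hyC
  by_cases hcase : ∃ p : ℕ, p.Prime ∧ p ∣ orderOf x' ∧ p ∈ kappa M
  · left
    obtain ⟨p, hp, hd, hκ⟩ := hcase
    refine ⟨?_, ?_⟩
    · intro p' hp' hd'
      rcases hclass p' hp' hd' with h | h
      · exact h
      · exact (hmix p p' hp hd hκ hp' hd' h).elim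
    · obtain ⟨ρ, hρ, hρo, hρx, -⟩ := hpow p hp hd
      have Kρ := hKE hκ hρ hρo hρx
      obtain ⟨r, n, hr, -, hyo⟩ := exists_prime_pow hx1
      have h1 := T1 C Kρ (pow_mem hx n) (Commute.pow_right (hρx : Commute ρ x) n).eq hr hyo
      intro t ht
      exact h1 (mem_cz.mpr (Commute.pow_left (mem_cz.mp ht : Commute x t) n).eq)
  · right
    push Not at hcase
    have hτ : ∀ p : ℕ, p.Prime → p ∣ orderOf x' → p ∈ tau2 M := fun p hp hd =>
      (hclass p hp hd).resolve_left (hcase p hp hd)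
    refine ⟨hτ, ?_, Cfsg.Agent.Lib.BGTau7.cent_of_tau2_element hG hM hx'M hx'1 hτ ⟨hx'M, x, hx, hx1, hxx'.symm⟩⟩
    have ho : orderOf x' ≠ 1 := by rwa [Ne, orderOf_eq_one_iff]
    set p₀ := (orderOf x').minFac with hp₀
    have hp₀p : p₀.Prime := Nat.minFac_prime ho
    have hp₀d : p₀ ∣ orderOf x' := Nat.minFac_dvd _
    haveI : Fact p₀.Prime := ⟨hp₀p⟩
    have hτ₀ := hτ p₀ hp₀p hp₀d
    obtain ⟨A₀, hA₀E, hA₀e, hA₀c⟩ := exists_ea_in_compl hG hM hE hτ₀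
    have TA₀ := Cfsg.Agent.Lib.BGTau7.T2.mk' hG hM hτ₀ (hA₀E.trans hE.1) hA₀e hA₀c
    have hA₀p : IsPGroup p₀ A₀ := Cfsg.Agent.Lib.BGSigma3.isPGroup_of_ea hA₀e
    obtain ⟨P, hP⟩ := hA₀p.exists_le_sylow
    have hP1 : (P : Subgroup G) ≠ ⊥ := by
      intro h
      apply TA₀.A_ne_bot
      rw [eq_bot_iff, ← h]
      exact hP
    have hPt : (P : Subgroup G) ≠ ⊤ := IsMin.isPGroup_ne_top hG P.isPGroup'
    obtain ⟨L, hL, hNL⟩ := Cfsg.Agent.Lib.BGTau5.exists_coatom_ge (IsMin.normalizer_ne_top hG hP1 hPt)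
    have hPL : (P : Subgroup G) ≤ L := Subgroup.le_normalizer.trans hNL
    have hA₀L : A₀ ≤ L := hP.trans hPL
    have hPs : IsSylowIn p₀ (P : Subgroup G) L := ⟨hPL, P.isPGroup', fun R _ hR hle => P.is_maximal' hR hle⟩
    have hdL : p₀ ∣ Nat.card L := by
      have h1 : p₀ ∣ Nat.card A₀ := by rw [hA₀c]; exact dvd_pow_self p₀ (by norm_num)
      exact h1.trans (Subgroup.card_dvd_of_le hA₀L)
    have hσ₀ : p₀ ∈ sigma L := Cfsg.Agent.Lib.BGSigma3.mem_sigma_of hPs hdL hNL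
    refine ⟨L, hL, ?_⟩
    intro p' hp' hd'
    by_cases hpp : p' = p₀
    · rw [hpp]; exact hσ₀
    haveI : Fact p'.Prime := ⟨hp'⟩
    have hτ' := hτ p' hp' hd'
    obtain ⟨A', hA'E, hA'e, hA'c⟩ := exists_ea_in_compl hG hM hE hτ'
    have TA' := Cfsg.Agent.Lib.BGTau7.T2.mk' hG hM hτ' (hA'E.trans hE.1) hA'e hA'c
    have hinf : A' ⊓ A₀ = ⊥ := inf_eq_bot_of_coprime' (by
      rw [hA'c, hA₀c]
      exact Nat.Coprime.pow 2 2 ((Nat.coprime_primes hp' hp₀p).mpr hpp))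
    have hA'C : A' ≤ centralizer (A₀ : Set G) := by
      intro a ha
      rw [Subgroup.mem_centralizer_iff]
      intro b hb
      exact (comm_of_normalize hinf ha hb (TA₀.compl_norm hE hA₀E (hA'E ha)) (TA'.compl_norm hE hA'E (hA₀E hb))).symm
    have hA'L : A' ≤ L := hA'C.trans (Cfsg.Agent.S1416.result hG L hL p₀ A₀ ⟨hA₀L, hA₀e, hA₀c⟩).1
    by_contra hcon
    have hτL : p' ∈ tau2 L := ⟨hp', hcon, Cfsg.Agent.Lib.BGTau7.rank2_of_not_sigma hG hL hp' hcon,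
      Cfsg.Agent.Lib.BGP3E.not_rank_one_of_le hA'e hA'c hA'L⟩
    have TL := Cfsg.Agent.Lib.BGTau7.T2.mk' hG hL hτL hA'L hA'e hA'c
    have hd := TL.d
    apply TA₀.A_ne_bot
    rw [eq_bot_iff, ← hd]
    intro a ha
    refine Subgroup.mem_inf.mpr ⟨Cfsg.Agent.Lib.BGTau7.le_sigmaCore_of_pgroup hG hL hσ₀ hA₀L hA₀p ha, ?_⟩
    rw [Subgroup.mem_centralizer_iff]
    intro b hb
    exact (Subgroup.mem_centralizer_iff.mp (hA'C hb) a ha).symm

end Cfsg.Agent.Lib.BGK9
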