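import Mathlib
import Cfsg.Agent.Lib.BGZ9
import Cfsg.Agent.Lib.BGK9
import Cfsg.Agent.Lib.BGCent10

/-!
# Bender-Glauberman section 14: the input package from the context of `BGK`.
-/

set_option autoImplicit false
set_option linter.unusedSectionVars false
set_option linter.unusedVariables false

namespace Cfsg.Agent.Lib.BGZA

open Cfsg Subgroup Cfsg.Agent.Lib.BGZ1 Cfsg.Agent.Lib.BGK0

universe u

variable {G : Type u} [Group G] [Finite G]

theorem thmD' (C : Cx G) : ∀ M N : Subgroup G, IsCoatom M → IsCoatom N → (sigma M ∩ sigma N).Nonempty →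
    ∃ g : G, N = M.map (MulAut.conj g).toMonoidHom := by
  rintro M N hM hN ⟨r, h1, h2⟩
  exact Cfsg.Agent.Lib.BGK5.thmD C hM hN h1 h2

theorem kappaFacts (C : Cx G) : Cfsg.Agent.Lib.BGCent.KappaFacts G :=
  ⟨thmD' C, fun M hM K hK hK1 => Cfsg.Agent.Lib.BGK8.main30 C hM hK hK1,
    fun M hM x hx hx1 x' hx' hx'1 hσ => Cfsg.Agent.Lib.BGK9.main32 C hM hx hx1 hx' hx'1 hσ⟩

/-- The input package. -/
theorem inp_of_cx (C : Cx G) : Inp G := by
  have kf := kappaFacts C
  have hG := C.hG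
  exact
    { hG := hG
      s30 := fun M hM K hK hK1 => Cfsg.Agent.Lib.BGK8.main30 C hM hK hK1
      s31 := fun M hM K hK hK1 => Cfsg.Agent.Lib.BGK9.main31 C hM hK hK1
      s32 := fun M hM x hx hx1 x' hx' hx'1 hσ => Cfsg.Agent.Lib.BGK9.main32 C hM hx hx1 hx' hx'1 hσ
      thmD := thmD' C
      s33 := fun M N hM hN x y hx hy hx1 hy1 hxy => Cfsg.Agent.Lib.BGCent.cosets_disjoint hG kf hM hN hx hy hx1 hy1 hxy
      s74 := fun M hM x hx hx1 => Cfsg.Agent.Lib.BGCent.main hG hM (kf.h32' hM) hx hx1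
      s75 := fun M hM x hx hx1 hxM => Cfsg.Agent.Lib.BGCent.main75 hG kf hM hx hx1 hxM }

end Cfsg.Agent.Lib.BGZA
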