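import Mathlib
import Cfsg.Agent.Lib.BGP3E
import Cfsg.Agent.Lib.CycPAut
import Cfsg.Agent.Lib.ClassTwo

/-!
# A Frobenius group acting on a `p`-group with cyclic fixed points.
-/

set_option autoImplicit false
set_option linter.unusedSectionVars false
set_option linter.unusedVariables false
set_option linter.style.haveILetI false
set_option linter.unusedSimpArgs false

namespace Cfsg.Agent.Lib.BGP3F

open Cfsg Subgroup Cfsg.Agent.Lib.CoprimeInv Cfsg.Agent.Lib.BGTrans Cfsg.Agent.Lib.Glauberman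
  Cfsg.Agent.Lib.BGSigma Cfsg.Agent.Lib.BGSigma2 Cfsg.Agent.Lib.BGSigma3 Cfsg.Agent.Lib.BGSigma4
  Cfsg.Agent.Lib.BGM1 Cfsg.Agent.Lib.BGM2 Cfsg.Agent.Lib.BGP2A Cfsg.Agent.Lib.BGP2B Cfsg.Agent.Lib.BGP2C
  Cfsg.Agent.Lib.BGFit2 Cfsg.Agent.Lib.BGUniq
  Cfsg.Agent.Lib.BGUniq2 Cfsg.Agent.Lib.BGUniq3 Cfsg.Agent.Lib.BGFus Cfsg.Agent.Lib.BGP3A Cfsg.Agent.Lib.BGP3B
  Cfsg.Agent.Lib.BGP3E

open scoped commutatorElement

universe u

variable {G : Type u} [Group G] [Finite G]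

/-- A coprime element fixing a non-identity element of a normalized cyclic `p`-subgroup centralizes it. -/
theorem centralizes_cyclic_of_fix {p s : ℕ} [hp : Fact p.Prime] [hs : Fact s.Prime] (hsp : s ≠ p)
    {C : Subgroup G} (hC : IsCyclic C) (hCp : IsPGroup p C) {ρ : G}
    (hρn : ρ ∈ normalizer (C : Set G)) {k : ℕ} (hρ : ρ ^ s ^ k = 1) {y : G} (hyC : y ∈ C) (hy1 : y ≠ 1)
    (hfix : ρ * y * ρ⁻¹ = y) {c : G} (hc : c ∈ C) : ρ * c * ρ⁻¹ = c := by
  classical
  haveI := hC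
  let α : MulAut C := conjOn C ρ hρn
  have hαk : α ^ s ^ k = 1 := by
    ext u
    have h1 : (((α : C → C)^[s ^ k] u : C) : G) = ρ ^ s ^ k * u * (ρ ^ s ^ k)⁻¹ :=
      conjOn_iterate C ρ hρn (s ^ k) u
    rw [hρ] at h1
    have h2 : ∀ n : ℕ, (α ^ n) u = (α : C → C)^[n] u := by
      intro n
      induction n with
      | zero => rfl
      | succ n ih => rw [pow_succ', Function.iterate_succ_apply', MulAut.mul_apply, ih]
    have h2 := h2 (s ^ k)
    rw [h2, h1]
    simp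
  have hα : ¬ p ∣ orderOf α := by
    intro hd
    have h3 : p ∣ s ^ k := hd.trans (orderOf_dvd_of_pow_eq_one hαk)
    exact hsp ((Nat.prime_dvd_prime_iff_eq hp.out hs.out).mp (hp.out.dvd_of_dvd_pow h3)).symm
  have hy' : (⟨y, hyC⟩ : C) ≠ 1 := fun h => hy1 (congrArg Subtype.val h)
  have hfix' : α ⟨y, hyC⟩ = ⟨y, hyC⟩ := Subtype.ext hfix
  have h1 := Cfsg.Agent.Lib.CycPAut.eq_one_of_fixes hCp α hα hy' hfix'
  have h2 : α ⟨c, hc⟩ = ⟨c, hc⟩ := by rw [h1]; rfl
  exact congrArg Subtype.val h2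

/-- Class two power formula with the correction a `p`-th power of a commutator. -/
theorem mul_pow_central {p : ℕ} [hp : Fact p.Prime] (hp2 : p ≠ 2) {u v c : G} (h : v * u = u * v * c)
    (hcu : Commute c u) (hcv : Commute c v) :
    (u * v) ^ p = u ^ p * v ^ p * (c ^ ((p - 1) / 2)) ^ p := by
  rw [Cfsg.Agent.Lib.ClassTwo.mul_pow_of_comm h hcu hcv p]
  congr 1
  rw [← pow_mul]
  congr 1
  have hodd : Odd p := hp.out.odd_of_ne_two hp2
  obtain ⟨m, hm⟩ := hodd
  rw [Nat.choose_two_right, hm]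
  have h1 : (2 * m + 1 - 1) = 2 * m := by omega
  rw [h1]
  have h2 : 2 * m / 2 = m := by omega
  rw [h2]
  have h3 : (2 * m + 1) * (2 * m) / 2 = (2 * m + 1) * m := by
    rw [show (2 * m + 1) * (2 * m) = 2 * ((2 * m + 1) * m) by ring]
    omega
  rw [h3]
  ring

/-- A group generated by `Frobenius`-type action on a `p`-group with cyclic fixed points, sharing a
non-trivial common fixed point: the kernel acts trivially. -/
theorem frob_pgroup {p q s : ℕ} [hp : Fact p.Prime] [hq : Fact q.Prime] [hs : Fact s.Prime]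
    (hp2 : p ≠ 2) (hqp : q ≠ p) (hsp : s ≠ p) {V X Y : Subgroup G} (hV : IsPGroup p V)
    (hX : IsPGroup q X) (hY : IsPGroup s Y) (hXn : X ≤ normalizer (V : Set G))
    (hYn : Y ≤ normalizer (V : Set G)) (hYX : Y ≤ normalizer (X : Set G))
    (hfpf : ∀ c ∈ Y, c ≠ 1 → ∀ x ∈ X, x * c = c * x → x = 1)
    {y : G} (hyV : y ∈ V) (hy1 : y ≠ 1) (hyX : y ∈ centralizer (X : Set G))
    (hyY : y ∈ centralizer (Y : Set G))
    (hc1 : IsCyclic ↥(V ⊓ centralizer (X : Set G))) (hc2 : IsCyclic ↥(V ⊓ centralizer (Y : Set G))) :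
    V ≤ centralizer (X : Set G) := by
  classical
  set C₁ : Subgroup G := V ⊓ centralizer (X : Set G) with hC₁
  set C₂ : Subgroup G := V ⊓ centralizer (Y : Set G) with hC₂
  have hC₁V : C₁ ≤ V := inf_le_left
  have hC₂V : C₂ ≤ V := inf_le_left
  have hXC₁ : X ≤ normalizer (C₁ : Set G) :=
    le_normalizer_inf hXn (le_normalizer.trans (normalizer_le_normalizer_centralizer X))
  have hYC₁ : Y ≤ normalizer (C₁ : Set G) :=
    le_normalizer_inf hYn (hYX.trans (normalizer_le_normalizer_centralizer X))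
  have hYC₂ : Y ≤ normalizer (C₂ : Set G) :=
    le_normalizer_inf hYn (le_normalizer.trans (normalizer_le_normalizer_centralizer Y))
  have hyC₁ : y ∈ C₁ := ⟨hyV, hyX⟩
  have hC₁C₂ : C₁ ≤ C₂ := by
    intro c hc
    refine ⟨hc.1, ?_⟩
    change c ∈ centralizer (Y : Set G)
    rw [mem_centralizer_iff]
    intro ρ hρ
    obtain ⟨k, hk⟩ := hY ⟨ρ, hρ⟩
    have hk' : ρ ^ s ^ k = 1 := by simpa [Subtype.ext_iff] using hk
    have hfix : ρ * y * ρ⁻¹ = y := by
      have := mem_centralizer_iff.mp hyY ρ hρ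
      rw [this]; group
    have h1 := centralizes_cyclic_of_fix hsp hc1 (hV.to_le hC₁V) (hYC₁ hρ) hk' hyC₁ hy1 hfix hc
    calc ρ * c = ρ * c * ρ⁻¹ * ρ := by group
      _ = c * ρ := by rw [h1]
  have hcomm₂ : ∀ a ∈ C₂, ∀ b ∈ C₂, a * b = b * a := by
    intro a ha b hb
    have := (isMulCommutative_of_cyclic hc2).is_comm.comm (⟨a, ha⟩ : C₂) ⟨b, hb⟩
    exact congrArg Subtype.val this
  -- the generation step
  let R₀ : Subgroup G := ⨆ x : X, cj C₂ x
  have hcjR₀ : ∀ x (hx : x ∈ X), cj C₂ x ≤ R₀ := fun x hx => le_iSup (fun x : X => cj C₂ x) ⟨x, hx⟩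
  have hR₀V : R₀ ≤ V := by
    apply iSup_le
    rintro ⟨x, hx⟩ u hu
    rw [mem_cj] at hu
    have h1 := hC₂V hu
    have h2 := (mem_normalizer_iff.mp (hXn (inv_mem hx)) u).mpr
    simp only [inv_inv] at h2
    exact h2 h1
  have hXR₀ : X ≤ normalizer (R₀ : Set G) := by
    intro x₀ hx₀
    apply mem_normalizer_of_conj_mem
    have hle : R₀ ≤ R₀.comap (MulAut.conj x₀).toMonoidHom := by
      apply iSup_le
      rintro ⟨x, hx⟩ u hu
      rw [Subgroup.mem_comap]
      apply hcjR₀ (x₀ * x) (mul_mem hx₀ hx)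
      rw [mem_cj] at hu ⊢
      have : (x₀ * x)⁻¹ * ((MulAut.conj x₀).toMonoidHom u) * (x₀ * x) = x⁻¹ * u * x := by
        simp only [MulEquiv.coe_toMonoidHom, MulAut.conj_apply]
        group
      rwa [this]
    intro k hk
    have := hle hk
    rw [Subgroup.mem_comap] at this
    simpa using this
  have hYR₀ : Y ≤ normalizer (R₀ : Set G) := by
    intro ρ hρ
    apply mem_normalizer_of_conj_mem
    have hle : R₀ ≤ R₀.comap (MulAut.conj ρ).toMonoidHom := by
      apply iSup_le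
      rintro ⟨x, hx⟩ u hu
      rw [Subgroup.mem_comap]
      have hx' : ρ * x * ρ⁻¹ ∈ X := (mem_normalizer_iff.mp (hYX hρ) x).mp hx
      apply hcjR₀ _ hx'
      rw [mem_cj] at hu ⊢
      have : (ρ * x * ρ⁻¹)⁻¹ * ((MulAut.conj ρ).toMonoidHom u) * (ρ * x * ρ⁻¹) =
          ρ * (x⁻¹ * u * x) * ρ⁻¹ := by
        simp only [MulEquiv.coe_toMonoidHom, MulAut.conj_apply]
        group
      rw [this]
      exact (mem_normalizer_iff.mp (hYC₂ hρ) _).mp hu
    intro k hk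
    have := hle hk
    rw [Subgroup.mem_comap] at this
    simpa using this
  have hC₂R₀ : C₂ ≤ R₀ := by
    have := hcjR₀ 1 (one_mem X)
    rwa [cj_one] at this
  have hR₀eq : R₀ = V := Cfsg.Agent.Lib.BGTau1.frob_core hV hqp hsp hX hY hXn hYn hXR₀ hYR₀ hR₀V hYX hfpf
    (hC₁C₂.trans hC₂R₀) hC₂R₀
  -- `C₁` is central in `V`
  have hcentral : ∀ c ∈ C₁, ∀ v ∈ V, c * v = v * c := by
    intro c hc v hv
    rw [← hR₀eq] at hv
    have hle : R₀ ≤ centralizer ({c} : Set G) := by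
      apply iSup_le
      rintro ⟨x, hx⟩ u hu
      rw [mem_cj] at hu
      rw [mem_centralizer_iff]
      intro c' hc'
      rw [Set.mem_singleton_iff] at hc'
      subst hc'
      have h1 := hcomm₂ _ (hC₁C₂ hc) _ hu
      have h2 : c' * x = x * c' := by
        have := mem_centralizer_iff.mp hc.2 x hx
        exact this.symm
      have h3 : u = x * (x⁻¹ * u * x) * x⁻¹ := by group
      have h2' : c' * x⁻¹ = x⁻¹ * c' := by
        calc c' * x⁻¹ = x⁻¹ * (x * c') * x⁻¹ := by group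
          _ = x⁻¹ * (c' * x) * x⁻¹ := by rw [h2]
          _ = x⁻¹ * c' := by group
      rw [h3]
      calc c' * (x * (x⁻¹ * u * x) * x⁻¹) = (c' * x) * (x⁻¹ * u * x) * x⁻¹ := by group
        _ = x * (c' * (x⁻¹ * u * x)) * x⁻¹ := by rw [h2]; group
        _ = x * ((x⁻¹ * u * x) * c') * x⁻¹ := by rw [h1]
        _ = x * (x⁻¹ * u * x) * (c' * x⁻¹) := by group
        _ = x * (x⁻¹ * u * x) * x⁻¹ * c' := by rw [h2']; group
    have h4 := mem_centralizer_iff.mp (hle hv) c rfl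
    exact h4
  -- commutativity of `C₁`
  have hcommC₁ : ∀ a ∈ C₁, ∀ b ∈ C₁, a * b = b * a := fun a ha b hb => hcentral a ha b (hC₁V hb)
  by_contra hne
  have hC₁ne : C₁ ≠ V := by
    intro h
    apply hne
    rw [← h]
    exact inf_le_right
  have hcj : ∀ c ∈ C₁, ∀ u ∈ V, u * c * u⁻¹ = c := by
    intro c hc u hu
    rw [← hcentral c hc u hu]
    group
  -- the power formula
  have hpow : ∀ u ∈ V, ∀ w ∈ V, w * u * w⁻¹ * u⁻¹ ∈ C₁ →
      (u * w) ^ p = u ^ p * w ^ p * ((w * u * w⁻¹ * u⁻¹) ^ ((p - 1) / 2)) ^ p := by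
    intro u hu w hw hd
    set d := w * u * w⁻¹ * u⁻¹ with hd'
    have hdu : Commute d u := hcentral d hd u hu
    have hdw : Commute d w := hcentral d hd w hw
    apply mul_pow_central hp2 _ hdu hdw
    calc w * u = d * (u * w) := by rw [hd']; group
      _ = (d * u) * w := by group
      _ = (u * d) * w := by rw [hdu.eq]
      _ = u * (d * w) := by group
      _ = u * (w * d) := by rw [hdw.eq]
      _ = u * w * d := by group
  -- the second centre
  let Z : Subgroup G :=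
    { carrier := {u | u ∈ V ∧ (∀ v ∈ V, u * v * u⁻¹ * v⁻¹ ∈ C₁) ∧ u ^ p ∈ C₁}
      one_mem' := by
        refine ⟨one_mem _, ?_, by simp [one_mem]⟩
        intro v hv
        simp [one_mem]
      inv_mem' := by
        rintro u ⟨hu, hu1, hu2⟩
        refine ⟨inv_mem hu, ?_, by rw [inv_pow]; exact inv_mem hu2⟩
        intro v hv
        have h1 := hu1 v hv
        have h2 : u⁻¹ * v * u⁻¹⁻¹ * v⁻¹ = u⁻¹ * (u * v * u⁻¹ * v⁻¹)⁻¹ * u⁻¹⁻¹ := by group
        rw [h2, hcj _ (inv_mem h1) _ (inv_mem hu)]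
        exact inv_mem h1
      mul_mem' := by
        rintro u w ⟨hu, hu1, hu2⟩ ⟨hw, hw1, hw2⟩
        refine ⟨mul_mem hu hw, ?_, ?_⟩
        · intro v hv
          have h1 := hu1 v hv
          have h2 := hw1 v hv
          have h3 : (u * w) * v * (u * w)⁻¹ * v⁻¹ =
              u * (w * v * w⁻¹ * v⁻¹) * u⁻¹ * (u * v * u⁻¹ * v⁻¹) := by group
          rw [h3, hcj _ h2 u hu]
          exact mul_mem h2 h1
        · rw [hpow u hu w hw (hw1 u hu)]
          exact mul_mem (mul_mem hu2 hw2) (pow_mem (pow_mem (hw1 u hu) _) _) }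
  have hZmem : ∀ {u : G}, u ∈ Z ↔ u ∈ V ∧ (∀ v ∈ V, u * v * u⁻¹ * v⁻¹ ∈ C₁) ∧ u ^ p ∈ C₁ := Iff.rfl
  have hZV : Z ≤ V := fun u hu => hu.1
  have hC₁Z : C₁ ≤ Z := by
    intro c hc
    refine hZmem.mpr ⟨hC₁V hc, ?_, pow_mem hc _⟩
    intro v hv
    have : c * v * c⁻¹ * v⁻¹ = c * (v * c⁻¹ * v⁻¹) := by group
    rw [this, hcj _ (inv_mem hc) v hv]
    simp [one_mem]
  -- normalizers
  have hnormZ : ∀ b, b ∈ normalizer (V : Set G) → b ∈ normalizer (C₁ : Set G) →
      b ∈ normalizer (Z : Set G) := by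
    intro b hbV hbC
    apply mem_normalizer_of_conj_mem
    intro u hu
    obtain ⟨hu0, hu1, hu2⟩ := hZmem.mp hu
    refine hZmem.mpr ⟨(mem_normalizer_iff.mp hbV u).mp hu0, ?_, ?_⟩
    · intro v hv
      have hv' : b⁻¹ * v * b ∈ V := by
        have h1 := (mem_normalizer_iff.mp hbV (b⁻¹ * v * b)).mpr
        apply h1
        have : b * (b⁻¹ * v * b) * b⁻¹ = v := by group
        rw [this]; exact hv
      have h1 := hu1 _ hv'
      have h2 := (mem_normalizer_iff.mp hbC _).mp h1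
      convert h2 using 1
      group
    · rw [conj_pow]
      exact (mem_normalizer_iff.mp hbC _).mp hu2
  have hXZ : X ≤ normalizer (Z : Set G) := fun b hb => hnormZ b (hXn hb) (hXC₁ hb)
  have hYZ : Y ≤ normalizer (Z : Set G) := fun b hb => hnormZ b (hYn hb) (hYC₁ hb)
  -- `Z` is strictly larger than `C₁`
  have hZne : C₁ ≠ Z := by
    let C' : Subgroup V := C₁.subgroupOf V
    haveI hCn : C'.Normal := ⟨fun n hn g => by
      have hn' : (n : G) ∈ C₁ := hn
      rw [Subgroup.mem_subgroupOf]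
      have : ((g * n * g⁻¹ : V) : G) = (g : G) * n * (g : G)⁻¹ := by simp
      rw [this, hcj _ hn' g g.2]
      exact hn'⟩
    have hQp : IsPGroup p (V ⧸ C') := hV.to_quotient C'
    have hne' : C' ≠ ⊤ := by
      intro h
      apply hC₁ne
      apply le_antisymm hC₁V
      intro v hv
      have : (⟨v, hv⟩ : V) ∈ C' := by rw [h]; trivial
      exact this
    haveI hnt : Nontrivial (V ⧸ C') := by
      rw [← not_subsingleton_iff_nontrivial]
      intro hs
      exact hne' (QuotientGroup.subgroup_eq_top_of_subsingleton C' hs)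
    haveI hct := hQp.center_nontrivial
    have hcQ : IsPGroup p (center (V ⧸ C')) := hQp.to_subgroup _
    have hd : p ∣ Nat.card (center (V ⧸ C')) := by
      rcases hcQ.card_eq_or_dvd with h | h
      · exfalso
        have := Finite.one_lt_card (α := center (V ⧸ C'))
        omega
      · exact h
    obtain ⟨z, hz⟩ := exists_prime_orderOf_dvd_card' p hd
    obtain ⟨v, hv⟩ := QuotientGroup.mk'_surjective C' (z : V ⧸ C')
    have hz' : orderOf (z : V ⧸ C') = p := by rw [Subgroup.orderOf_coe]; exact hz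
    have hmk1 : ∀ x : V, QuotientGroup.mk' C' x = 1 → (x : G) ∈ C₁ := by
      intro x hx
      have : x ∈ C' := (QuotientGroup.eq_one_iff x).mp hx
      exact this
    have hvZ : (v : G) ∈ Z := by
      refine hZmem.mpr ⟨v.2, ?_, ?_⟩
      · intro w hw
        have h1 : QuotientGroup.mk' C' (v * ⟨w, hw⟩ * v⁻¹ * (⟨w, hw⟩ : V)⁻¹) = 1 := by
          simp only [map_mul, map_inv, hv]
          have := (mem_center_iff.mp z.2) (QuotientGroup.mk' C' ⟨w, hw⟩)
          rw [← this]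
          group
        exact hmk1 _ h1
      · have h1 : QuotientGroup.mk' C' (v ^ p) = 1 := by
          rw [map_pow, hv, ← hz', pow_orderOf_eq_one]
        have := hmk1 _ h1
        simpa using this
    intro h
    rw [← h] at hvZ
    have h1 : QuotientGroup.mk' C' v = 1 := (QuotientGroup.eq_one_iff v).mpr hvZ
    rw [hv] at h1
    rw [h1, orderOf_one] at hz'
    exact hp.out.one_lt.ne hz'
  -- the `p`-th powers
  let D : Subgroup G :=
    { carrier := {u | u ∈ Z ∧ ∃ c ∈ C₁, u ^ p = c ^ p}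
      one_mem' := ⟨one_mem _, 1, one_mem _, by simp⟩
      inv_mem' := by
        rintro u ⟨hu, c, hc, huc⟩
        exact ⟨inv_mem hu, c⁻¹, inv_mem hc, by rw [inv_pow, inv_pow, huc]⟩
      mul_mem' := by
        rintro u w ⟨hu, c, hc, huc⟩ ⟨hw, d, hd, hwd⟩
        refine ⟨mul_mem hu hw, ?_⟩
        have h0 := (hZmem.mp hw).2.1 u (hZV hu)
        refine ⟨c * d * (w * u * w⁻¹ * u⁻¹) ^ ((p - 1) / 2), mul_mem (mul_mem hc hd) (pow_mem h0 _), ?_⟩
        rw [hpow u (hZV hu) w (hZV hw) h0, huc, hwd]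
        have hcd : Commute c d := hcommC₁ c hc d hd
        have h1 : Commute (c * d) ((w * u * w⁻¹ * u⁻¹) ^ ((p - 1) / 2)) :=
          hcommC₁ _ (mul_mem hc hd) _ (pow_mem h0 _)
        rw [h1.mul_pow, hcd.mul_pow] }
  have hDmem : ∀ {u : G}, u ∈ D ↔ u ∈ Z ∧ ∃ c ∈ C₁, u ^ p = c ^ p := Iff.rfl
  have hDV : D ≤ V := fun u hu => hZV hu.1
  have hXD : X ≤ normalizer (D : Set G) := by
    intro b hb
    apply mem_normalizer_of_conj_mem
    intro u hu
    obtain ⟨hu0, c, hc, huc⟩ := hDmem.mp hu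
    refine hDmem.mpr ⟨(mem_normalizer_iff.mp (hXZ hb) u).mp hu0, b * c * b⁻¹,
      (mem_normalizer_iff.mp (hXC₁ hb) c).mp hc, ?_⟩
    rw [conj_pow, conj_pow, huc]
  have hZD : ∀ u ∈ Z, ∃ c ∈ C₁, u ^ p = c ^ p := by
    intro u hu
    have hw : ∀ b ∈ X, u⁻¹ * (b * u * b⁻¹) ∈ D := by
      intro b hb
      have hu' : b * u * b⁻¹ ∈ Z := (mem_normalizer_iff.mp (hXZ hb) u).mp hu
      have hp1 : (b * u * b⁻¹) ^ p = u ^ p := by
        rw [conj_pow]
        have h1 := mem_centralizer_iff.mp (hZmem.mp hu).2.2.2 |> fun _ => (hZmem.mp hu).2.2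
        have h2 := mem_centralizer_iff.mp h1.2 b hb
        rw [h2]; group
      have h0 := (hZmem.mp hu').2.1 u⁻¹ (inv_mem (hZV hu))
      refine hDmem.mpr ⟨mul_mem (inv_mem hu) hu', _, pow_mem h0 ((p - 1) / 2), ?_⟩
      rw [hpow _ (inv_mem (hZV hu)) _ (hZV hu') h0, hp1, inv_pow, inv_mul_cancel, one_mul]
    obtain ⟨d, hd, hfix⟩ := Cfsg.Agent.Lib.BGTau1.fixed_lift (R := ⊥) (hV.to_le hDV) hqp hX hXD hw
    have hud : u * d ∈ C₁ := by
      refine ⟨mul_mem (hZV hu) (hDV hd), ?_⟩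
      change u * d ∈ centralizer (X : Set G)
      rw [mem_centralizer_iff]
      intro b hb
      have h1 := hfix b hb
      calc b * (u * d) = b * (u * d) * b⁻¹ * b := by group
        _ = u * d * b := by rw [h1]
    have hC₁D : C₁ ≤ D := fun c hc => hDmem.mpr ⟨hC₁Z hc, c, hc, rfl⟩
    have huD : u ∈ D := by
      have : u = (u * d) * d⁻¹ := by group
      rw [this]
      exact mul_mem (hC₁D hud) (inv_mem hd)
    exact (hDmem.mp huD).2
  by_cases h₂ : Z ⊓ centralizer (Y : Set G) ≤ C₁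
  · have h₁ : Z ⊓ centralizer (X : Set G) ≤ C₁ := fun u hu => ⟨hZV hu.1, hu.2⟩
    exact hZne (Cfsg.Agent.Lib.BGTau1.frob_core (hV.to_le hZV) hqp hsp hX hY hXZ hYZ hXC₁ hYC₁ hC₁Z hYX
      hfpf h₁ h₂)
  · obtain ⟨u, hu, huC⟩ := SetLike.not_le_iff_exists.mp h₂
    have huZ : u ∈ Z := hu.1
    have huC₂ : u ∈ C₂ := ⟨hZV huZ, hu.2⟩
    obtain ⟨c, hc, huc⟩ := hZD u huZ
    have hcC₂ : c ∈ C₂ := hC₁C₂ hc
    have hvC₂ : u * c⁻¹ ∈ C₂ := mul_mem huC₂ (inv_mem hcC₂)
    have hvp : (u * c⁻¹) ^ p = 1 := by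
      have hcm : Commute u c⁻¹ := hcomm₂ _ huC₂ _ (inv_mem hcC₂)
      rw [hcm.mul_pow, huc, inv_pow, mul_inv_cancel]
    have hC₁1 : C₁ ≠ ⊥ := by
      intro h
      rw [h] at hyC₁
      exact hy1 hyC₁
    obtain ⟨y₀, hy₀⟩ := exists_prime_orderOf_dvd_card' p (G := C₁)
      (dvd_card_of_isPGroup (hV.to_le hC₁V) hC₁1)
    have hy₀' : orderOf (y₀ : G) = p := by rw [Subgroup.orderOf_coe]; exact hy₀
    have h1 := Cfsg.Agent.Lib.BGTau1.mem_zpowers_of_cyclic hc2 hp.out (hC₁C₂ y₀.2) hvC₂ hy₀' hvp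
    have h2 : u * c⁻¹ ∈ C₁ := (zpowers_le.mpr y₀.2) h1
    apply huC
    have : u = (u * c⁻¹) * c := by group
    rw [this]
    exact mul_mem h2 hc

end Cfsg.Agent.Lib.BGP3F
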