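import Mathlib
import Cfsg.Agent.Lib.BGP3F
import Cfsg.Agent.Lib.BGK5
import Cfsg.Agent.S1418
import Cfsg.Agent.S1420
import Cfsg.Agent.S1450

/-!
# Preparation for the prime action lemma: `p`-complements, Burnside's transfer and two maximal subgroups.
-/

set_option autoImplicit false
set_option linter.unusedSectionVars false
set_option linter.unusedVariables false
set_option linter.style.haveILetI false
set_option linter.unusedSimpArgs false

namespace Cfsg.Agent.Lib.BGP3G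

open Cfsg Subgroup Cfsg.Agent.Lib.CoprimeInv Cfsg.Agent.Lib.BGTrans Cfsg.Agent.Lib.Glauberman
  Cfsg.Agent.Lib.BGSigma Cfsg.Agent.Lib.BGSigma2 Cfsg.Agent.Lib.BGSigma3 Cfsg.Agent.Lib.BGSigma4
  Cfsg.Agent.Lib.BGM1 Cfsg.Agent.Lib.BGM2 Cfsg.Agent.Lib.BGP2A Cfsg.Agent.Lib.BGP2B Cfsg.Agent.Lib.BGP2C
  Cfsg.Agent.Lib.BGP2D Cfsg.Agent.Lib.BGP2E Cfsg.Agent.Lib.BGP2F Cfsg.Agent.Lib.BGFit2 Cfsg.Agent.Lib.BGUniq
  Cfsg.Agent.Lib.BGUniq2 Cfsg.Agent.Lib.BGUniq3 Cfsg.Agent.Lib.BGFus Cfsg.Agent.Lib.BGP3A Cfsg.Agent.Lib.BGP3B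
  Cfsg.Agent.Lib.BGP3C Cfsg.Agent.Lib.BGP3D Cfsg.Agent.Lib.BGTau7 Cfsg.Agent.Lib.BGP3E Cfsg.Agent.Lib.BGP3F
  Cfsg.Agent.Lib.BGK0 Cfsg.Agent.Lib.BGK1 Cfsg.Agent.Lib.BGK2 Cfsg.Agent.Lib.BGK3 Cfsg.Agent.Lib.BGK4
  Cfsg.Agent.Lib.BGK5

open scoped commutatorElement

universe u

variable {G : Type u} [Group G] [Finite G]

/-- An element of order `r` in `M`, for `r ∈ σ(M)`. -/
theorem exists_order_of_sigma {M : Subgroup G} {r : ℕ} [hr : Fact r.Prime] (hσ : r ∈ sigma M) :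
    ∃ y ∈ M, orderOf y = r := by
  obtain ⟨y, hy⟩ := exists_prime_orderOf_dvd_card' (G := M) r hσ.2.1
  exact ⟨y, y.2, by rw [Subgroup.orderOf_coe]; exact hy⟩

/-- Consequences of the failure of `GammaP`. -/
theorem facts_of_not_gamma (hG : IsMinSimpleOddOrder G) {M : Subgroup G} (hM : IsCoatom M) {r : ℕ}
    [hr : Fact r.Prime] (hσ : r ∈ sigma M) (hΓ : ¬ GammaP M r) :
    r ∉ beta M ∧ ∀ y ∈ M, orderOf y = r → y ∉ ⁅sigmaCore M, sigmaCore M⁆ := by
  obtain ⟨y, hyM, hyo⟩ := exists_order_of_sigma hσ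
  exact ⟨fun h => hΓ (s1423el hG hM hσ hyM hyo (Or.inl h)).2,
    fun z hz hzo h => hΓ (s1423el hG hM hσ hz hzo (Or.inr h)).2⟩

/-- Two non-conjugate maximal subgroups with a common prime in `σ`. -/
theorem not_gamma_of_not_conj {M L : Subgroup G} {r : ℕ} (hM : IsCoatom M) (hL : IsCoatom L)
    (hrM : r ∈ sigma M) (hrL : r ∈ sigma L) (hne : ∀ g : G, L ≠ cj M g) :
    ¬ GammaP M r ∧ ¬ GammaP L r := by
  constructor
  · intro h
    obtain ⟨g, hg⟩ := h L hL hrL
    exact hne g hg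
  · intro h
    obtain ⟨g, hg⟩ := h M hM hrM
    exact cj_symm hne g hg

/-- A `q'`-element of the `σ`-core lies in the normal `q`-complement. -/
theorem exists_q_compl (hG : IsMinSimpleOddOrder G) {H : Subgroup G} (hH : IsCoatom H) {q : ℕ}
    [hq : Fact q.Prime] (hqβ : q ∉ beta H) (hqσ : q ∈ sigma H) :
    ∃ K : Subgroup G, K ≤ sigmaCore H ∧ H ≤ normalizer (K : Set G) ∧ (Nat.card K).Coprime q ∧
      (∀ x ∈ sigmaCore H, (orderOf x).Coprime q → x ∈ K) ∧
      ∀ p : ℕ, p.Prime → p ≠ q → ¬ p ∣ K.relIndex (sigmaCore H) := by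
  classical
  obtain ⟨-, -, -, -, h5⟩ := Cfsg.Agent.S1414.result hG H hH
  obtain ⟨-, ⟨Pq, N, hNn, hNc⟩, -⟩ := h5 q hq.out hqσ.2.1 hqβ
  have hidx : N.index = Nat.card (Pq : Subgroup (sigmaCore H)) := by
    have h1 := hNc.card_mul
    have h2 := N.card_mul_index
    have hpos : 0 < Nat.card N := Nat.card_pos
    have h3 : Nat.card N * N.index = Nat.card N * Nat.card (Pq : Subgroup (sigmaCore H)) := by
      rw [h2]; exact h1.symm
    exact Nat.eq_of_mul_eq_mul_left hpos h3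
  obtain ⟨k, hk⟩ := (Pq.isPGroup').exists_card_eq
  have hcopN : (Nat.card N).Coprime q := by
    have h1 := hNc.card_mul
    have h2 : ¬ q ∣ Nat.card N := by
      intro hd
      have h3 : q * Nat.card (Pq : Subgroup (sigmaCore H)) ∣ Nat.card (sigmaCore H) := by
        rw [← h1]
        exact Nat.mul_dvd_mul_right hd _
      have h4 := Pq.not_dvd_index
      have h5 := (Pq : Subgroup (sigmaCore H)).card_mul_index
      rw [← h5, mul_comm q] at h3
      exact h4 (Nat.dvd_of_mul_dvd_mul_left Nat.card_pos h3)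
    exact ((Nat.Prime.coprime_iff_not_dvd hq.out).mpr h2).symm
  set K : Subgroup G := N.map (sigmaCore H).subtype with hK
  have hKc : Nat.card K = Nat.card N := by
    rw [hK, Subgroup.card_map_of_injective (sigmaCore H).subtype_injective]
  have hKle : K ≤ sigmaCore H := Subgroup.map_subtype_le _
  have hq' : ∀ x ∈ sigmaCore H, (orderOf x).Coprime q → x ∈ K := by
    intro x hx hc
    have hc2 : Nat.Coprime (orderOf (⟨x, hx⟩ : sigmaCore H)) N.index := by
      rw [Subgroup.orderOf_mk, hidx, hk]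
      exact Nat.Coprime.pow_right _ hc
    have h1 : (⟨x, hx⟩ : sigmaCore H) ^ orderOf (⟨x, hx⟩ : sigmaCore H) = 1 := pow_orderOf_eq_one _
    exact ⟨_, mem_of_coprime_index hc2 h1, rfl⟩
  refine ⟨K, hKle, ?_, ?_, hq', ?_⟩
  · intro h hh
    apply mem_normalizer_of_conj_mem
    intro x hx
    have hxH : x ∈ sigmaCore H := hKle hx
    apply hq'
    · exact (mem_normalizer_iff.mp (le_normalizer_sigmaCore hh) x).mp hxH
    · rw [orderOf_conj_eq]
      have h1 : orderOf x ∣ Nat.card K := Subgroup.orderOf_dvd_natCard _ hx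
      rw [hKc] at h1
      exact Nat.Coprime.coprime_dvd_left h1 hcopN
  · rw [hKc]; exact hcopN
  · intro p hp hpq hd
    have h1 : K.relIndex (sigmaCore H) = N.index := by
      have h2 : K.subgroupOf (sigmaCore H) = N := by
        rw [hK]
        ext x
        simp [Subgroup.mem_subgroupOf, Subgroup.mem_map]
      rw [Subgroup.relIndex, h2]
    rw [h1, hidx, hk] at hd
    exact hpq ((Nat.prime_dvd_prime_iff_eq hp hq.out).mp (hp.dvd_of_dvd_pow hd))

/-- A `p`-element normalizing a `p`-subgroup of `M`, for `p ∤ |M'|`: elements of `M` centralize it. -/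
theorem no_move {M V : Subgroup G} {p : ℕ} [hp : Fact p.Prime] (hpM : ¬ p ∣ Nat.card ↥⁅M, M⁆)
    (hV : IsPGroup p V) (hVM : V ≤ M) {g : G} (hgM : g ∈ M) (hgV : g ∈ normalizer (V : Set G)) :
    g ∈ centralizer (V : Set G) := by
  rw [Subgroup.mem_centralizer_iff]
  intro v hv
  have h1 : g * v * g⁻¹ ∈ V := (mem_normalizer_iff.mp hgV v).mp hv
  set c : G := g * v * g⁻¹ * v⁻¹ with hc
  have hcV : c ∈ V := mul_mem h1 (inv_mem hv)
  have hcD : c ∈ ⁅M, M⁆ := by
    have := Subgroup.commutator_mem_commutator hgM (hVM hv)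
    simpa [commutatorElement_def] using this
  have hc1 : c = 1 := by
    by_contra hne
    obtain ⟨k, hk⟩ := hV ⟨c, hcV⟩
    have hk' : c ^ p ^ k = 1 := by simpa [Subtype.ext_iff] using hk
    obtain ⟨j, -, hj⟩ := (Nat.dvd_prime_pow hp.out).mp (orderOf_dvd_of_pow_eq_one hk')
    have hj0 : j ≠ 0 := by
      rintro rfl
      rw [pow_zero] at hj
      exact hne (orderOf_eq_one_iff.mp hj)
    apply hpM
    have h2 : p ∣ orderOf c := by
      rw [hj]
      exact dvd_pow_self p hj0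
    exact h2.trans (Subgroup.orderOf_dvd_natCard _ hcD)
  have h2 : g * v * g⁻¹ = v := by
    have h3 : g * v * g⁻¹ * v⁻¹ = 1 := hc1
    exact mul_inv_eq_one.mp h3
  calc v * g = (g * v * g⁻¹) * g := by rw [h2]
    _ = g * v := by group

/-- Burnside's transfer theorem for a Sylow subgroup of a minimal simple group. -/
theorem exists_move (hG : IsMinSimpleOddOrder G) {V : Subgroup G} {p : ℕ} [hp : Fact p.Prime]
    (hV : IsSylowIn p V ⊤) (hV1 : V ≠ ⊥) : ∃ g ∈ normalizer (V : Set G), g ∉ centralizer (V : Set G) := by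
  classical
  by_contra hcon
  push Not at hcon
  let P : Sylow p G :=
    { toSubgroup := V
      isPGroup' := hV.2.1
      is_maximal' := fun {Q} hQ hle => hV.2.2 Q le_top hQ hle }
  have hP : normalizer ((P : Subgroup G) : Set G) ≤ centralizer ((P : Subgroup G) : Set G) := by
    intro g hg
    exact hcon g hg
  have hc := MonoidHom.ker_transferSylow_isComplement' P hP
  haveI hN : (MonoidHom.transferSylow P hP).ker.Normal := MonoidHom.normal_ker _
  haveI hs : IsSimpleGroup G := hG.2.1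
  have hpV : IsPGroup p V := hV.2.1
  rcases hN.eq_bot_or_eq_top with h | h
  · -- `V = G`
    rw [h] at hc
    have h1 : (P : Subgroup G) = ⊤ := by
      have := hc.card_mul
      have h2 : Nat.card (⊥ : Subgroup G) = 1 := Subgroup.card_bot
      rw [h2, one_mul] at this
      exact Subgroup.eq_top_of_card_eq _ this
    exact IsMin.isPGroup_ne_top hG hpV h1
  · rw [h] at hc
    have h1 : Nat.card (P : Subgroup G) = 1 := by
      have := hc.card_mul
      have h2 : Nat.card (⊤ : Subgroup G) = Nat.card G := Subgroup.card_top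
      rw [h2] at this
      have hpos : 0 < Nat.card G := Nat.card_pos
      exact Nat.eq_of_mul_eq_mul_left hpos (by rw [this, mul_one])
    apply hV1
    exact (Subgroup.card_eq_one).mp h1

/-- A move on `V`, normalizing a Sylow subgroup of the centralizer of `V`. -/
theorem exists_move_frattini (hG : IsMinSimpleOddOrder G) {V T : Subgroup G} {p q : ℕ} [hp : Fact p.Prime]
    [hq : Fact q.Prime] (hV : IsSylowIn p V ⊤) (hV1 : V ≠ ⊥) (hT : IsSylowIn q T (centralizer (V : Set G))) :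
    ∃ g, g ∈ normalizer (V : Set G) ∧ g ∈ normalizer (T : Set G) ∧ g ∉ centralizer (V : Set G) := by
  classical
  obtain ⟨g, hg, hgc⟩ := exists_move hG hV hV1
  have hgC : g ∈ normalizer (centralizer (V : Set G) : Set G) := by
    apply mem_normalizer_of_cj_eq
    rw [← centralizer_cj', cj_eq_of_mem_normalizer hg]
  have h2 := hT.cj_of_normalizer hgC
  obtain ⟨c, hc, hcT⟩ := hT.exists_conj h2
  have hcN : c ∈ normalizer (V : Set G) := BGTrans.centralizer_le_normalizer V hc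
  refine ⟨c⁻¹ * g, mul_mem (inv_mem hcN) hg, ?_, ?_⟩
  · apply mem_normalizer_of_cj_eq
    rw [← cj_cj, hcT, cj_cj_inv]
  · intro h
    apply hgc
    have h3 : g = c * (c⁻¹ * g) := by group
    rw [h3]
    exact mul_mem hc h

/-- No Sylow `q`-subgroup, `q ∈ σ(M)`, centralizes a Sylow `p`-subgroup when `p ∤ |M'|`. -/
theorem xi (hG : IsMinSimpleOddOrder G) {M V S₁ : Subgroup G} (hM : IsCoatom M) {p q : ℕ} [hp : Fact p.Prime]
    [hq : Fact q.Prime] (hpM : ¬ p ∣ Nat.card ↥⁅M, M⁆) (hqσ : q ∈ sigma M) (hV : IsSylowIn p V ⊤) (hV1 : V ≠ ⊥)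
    (hS₁ : IsSylowIn q S₁ ⊤) (hC : S₁ ≤ centralizer (V : Set G)) : False := by
  classical
  obtain ⟨T, hT⟩ := exists_isSylowIn q M
  have h1 := isSylowIn_top_of_sigma hqσ hT
  obtain ⟨c, -, hc⟩ := h1.exists_conj hS₁
  set V₀ : Subgroup G := cj V c⁻¹ with hV₀
  have hV₀s : IsSylowIn p V₀ ⊤ := by
    have := isSylowIn_cj hV c⁻¹
    rwa [cj_top] at this
  have hV₀1 : V₀ ≠ ⊥ := by
    intro h
    apply hV1
    have h2 : Nat.card V₀ = 1 := by rw [h]; exact Subgroup.card_bot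
    rw [hV₀, card_cj] at h2
    exact Subgroup.card_eq_one.mp h2
  have hC₀ : T ≤ centralizer (V₀ : Set G) := by
    rw [hV₀, centralizer_cj']
    have h2 := cj_mono hC c⁻¹
    rwa [hc, cj_cj_inv] at h2
  have hT₀ : IsSylowIn q T (centralizer (V₀ : Set G)) :=
    ⟨hC₀, h1.2.1, fun R _ hRq hle => h1.2.2 R le_top hRq hle⟩
  obtain ⟨g, hgV, hgT, hgc⟩ := exists_move_frattini hG hV₀s hV₀1 hT₀
  have hN := normalizer_le_of_sigma hqσ hT
  have hV₀M : V₀ ≤ M := by
    have h2 : V₀ ≤ centralizer (T : Set G) := by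
      rw [Subgroup.le_centralizer_iff]
      exact hC₀
    exact h2.trans ((BGTrans.centralizer_le_normalizer T).trans hN)
  exact hgc (no_move hpM hV₀s.2.1 hV₀M (hN hgT) hgV)

/-- `p ∈ β(L)`, if `p, q ∈ σ(L)`, `q ∉ β(L)` and `p ∤ |M'|`, `q ∈ σ(M)`. -/
theorem xi2 (hG : IsMinSimpleOddOrder G) {M L : Subgroup G} (hM : IsCoatom M) (hL : IsCoatom L) {p q : ℕ}
    [hp : Fact p.Prime] [hq : Fact q.Prime] (hpM : ¬ p ∣ Nat.card ↥⁅M, M⁆) (hqσ : q ∈ sigma M)
    (hpL : p ∈ sigma L) (hqL : q ∈ sigma L) (hpq : p ≠ q) (hqβ : q ∉ beta L) (hpβ : p ∉ beta L) : False := by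
  classical
  obtain ⟨K, hKle, hLK, hKc, hKq, hKidx⟩ := exists_q_compl hG hL hqβ hqL
  obtain ⟨T, hT⟩ := exists_isSylowIn q (sigmaCore L)
  have hTL : T ≤ L := hT.1.trans sigmaCore_le
  have hTN : T ≤ normalizer (K : Set G) := hTL.trans hLK
  have hcop : (Nat.card K).Coprime (Nat.card T) := by
    obtain ⟨k, hk⟩ := hT.2.1.exists_card_eq
    rw [hk]
    exact Nat.Coprime.pow_right _ hKc
  have hs : Group.IsSolvable K := solvable_of_le_coatom hG hL (hKle.trans sigmaCore_le)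
  obtain ⟨V, hV, hVN⟩ := exists_invariant_isSylowIn p hs hTN hcop
  have hV₂ : IsSylowIn p V (sigmaCore L) := isSylowIn_of_hall hV hKle (hKidx p hp.out hpq)
  have hV₃ := isSylowIn_top_of_sigma hpL (Cfsg.Agent.Lib.BGTau3.isSylowIn_of_sigmaCore hG hL hpL hV₂)
  have hT₃ := isSylowIn_top_of_sigma hqL (Cfsg.Agent.Lib.BGTau3.isSylowIn_of_sigmaCore hG hL hqL hT)
  have hV1 : V ≠ ⊥ := Cfsg.Agent.Lib.BGTau6.sylow_ne_bot hV₃ (by
    rw [Subgroup.card_top]
    exact hpL.2.1.trans (Subgroup.card_subgroup_dvd_card L))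
  have hVL : V ≤ L := hV₂.1.trans sigmaCore_le
  have hC : T ≤ centralizer (V : Set G) := by
    intro w hw
    exact cent_of_comm hG hL hpβ hVL hV.2.1 (sigmaCore_le_derived hG hL (hT.1 hw))
      (coprime_orderOf_of_pgroup hT.2.1 hw hp.out hpq.symm) (hVN hw)
  exact xi hG hM hpM hqσ hV₃ hV1 hT₃ hC

/-- The configuration `q ∉ σ(L)`, `N(X) ≤ L ≠ M`, `q ∈ σ(M)`. -/
theorem lambda_T2 (hG : IsMinSimpleOddOrder G) {M L X : Subgroup G} (hM : IsCoatom M) (hL : IsCoatom L) {q : ℕ}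
    [hq : Fact q.Prime] (hqσ : q ∈ sigma M) (hXc : Nat.card X = q) (hXM : X ≤ M) (hne : L ≠ M)
    (hNL : normalizer (X : Set G) ≤ L) (hqL : q ∉ sigma L) :
    ∃ B : Subgroup G, T2 L B q ∧ B ≤ M ∧ IsElementaryAbelian q B ∧ Nat.card B = q ^ 2 ∧ B ≤ L ∧
      centralizer (B : Set G) ≤ M := by
  classical
  have hNA : NA G := fun r _ P hP hPna => Cfsg.Agent.S1422.result hG r P hP hPna
  have hXq : IsPGroup q X := IsPGroup.of_card (n := 1) (by rw [hXc, pow_one])
  have hX1 : X ≠ ⊥ := by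
    intro h
    rw [h, Subgroup.card_bot] at hXc
    exact hq.out.one_lt.ne hXc
  have hCN : centralizer (X : Set G) ≤ normalizer (X : Set G) := BGTrans.centralizer_le_normalizer X
  obtain ⟨B₀, hB₀e, hB₀c, hXB₀⟩ := exists_ea2_of_normalizer hqL hXc hNL
  have hB₀C : B₀ ≤ centralizer (X : Set G) := BGSigma3.le_centralizer_of_comm hXB₀ hB₀e.1
  have hB₀L : B₀ ≤ L := hB₀C.trans (hCN.trans hNL)
  have hXL : X ≤ L := Subgroup.le_normalizer.trans hNL
  obtain ⟨S₂, hS₂, hXS₂⟩ := exists_isSylowIn_ge q (le_inf hXM hXL) hXq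
  obtain ⟨-, -, hS₂L⟩ := s1424_main hG hNA hM hqσ hXq hX1 hXM hL hne hNL hS₂ hXS₂
  obtain ⟨S₃, hS₃, hB₀S₃⟩ := exists_isSylowIn_ge q hB₀L (isPGroup_of_ea hB₀e)
  obtain ⟨l, hl, hlS⟩ := hS₃.exists_conj hS₂L
  have hBM : cj B₀ l ≤ M := by
    refine (cj_mono hB₀S₃ l).trans ?_
    rw [← hlS]
    exact hS₂.1.trans inf_le_left
  have hBL : cj B₀ l ≤ L := by
    refine (cj_mono hB₀S₃ l).trans ?_
    rw [← hlS]
    exact hS₂L.1
  have hBe : IsElementaryAbelian q (cj B₀ l) := Cfsg.Agent.S1422.ea_cj hB₀e l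
  have hBc : Nat.card (cj B₀ l) = q ^ 2 := by rw [card_cj, hB₀c]
  have hτ : q ∈ tau2 L :=
    ⟨hq.out, hqL, rank2_of_not_sigma hG hL hq.out hqL, not_rank_one_of_le hBe hBc hBL⟩
  exact ⟨cj B₀ l, T2.mk' hG hL hτ hBL hBe hBc, hBM, hBe, hBc, hBL, BGP2F.cent_le hG hM hBM hBe hBc⟩

/-- `L` has `p`-rank `1` in the `τ₂`-configuration for `(L, q)`, when `M` has `p`-rank `1`. -/
theorem lambda_not_ea {M L A : Subgroup G} {p q : ℕ} [hp : Fact p.Prime] [hq : Fact q.Prime]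
    (hG : IsMinSimpleOddOrder G) (hL : IsCoatom L)
    (hpq : p ≠ q) (hpM : PRankLE p 1 M) (hpL : p ∉ sigma L) (hqL : q ∉ sigma L)
    {B : Subgroup G} (hBL : B ≤ L) (hBe : IsElementaryAbelian q B) (hBc : Nat.card B = q ^ 2)
    (hCB : centralizer (B : Set G) ≤ M) (hAL : A ≤ L) (hAe : IsElementaryAbelian p A)
    (hAc : Nat.card A = p ^ 2) : False := by
  have hτ : p ∈ tau2 L :=
    ⟨hp.out, hpL, rank2_of_not_sigma hG hL hp.out hpL, not_rank_one_of_le hAe hAc hAL⟩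
  have TA : T2 L A p := T2.mk' hG hL hτ hAL hAe hAc
  obtain ⟨v, hv⟩ := conj_into_cent hpq TA hqL hBL hBe hBc
  exact not_le_of_rank_one hpM (Cfsg.Agent.S1422.ea_cj hAe v) (by rw [card_cj, hAc]) (hv.trans hCB)

/-- A complement of `L_σ` in `L` inside `M`, in the `τ₂`-configuration for `(L, q)`. -/
theorem lambda_compl (hG : IsMinSimpleOddOrder G) {M L B : Subgroup G} (hM : IsCoatom M) (hL : IsCoatom L) {q : ℕ}
    [hq : Fact q.Prime] (hqσ : q ∈ sigma M) (hqL : q ∉ sigma L) (hBM : B ≤ M) (hBL : B ≤ L)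
    (hBe : IsElementaryAbelian q B) (hBc : Nat.card B = q ^ 2) :
    ∃ E : Subgroup G, IsComplIn E (sigmaCore L) L ∧ E ≤ M := by
  classical
  have hBq : IsPGroup q B := isPGroup_of_ea hBe
  obtain ⟨E, hE, hBE⟩ := exists_compl_ge hG hL hBL (fun u hu hd => by
    have h1 : u = q := by
      obtain ⟨k, hk⟩ := hBq.exists_card_eq
      rw [hk] at hd
      exact (Nat.prime_dvd_prime_iff_eq hu hq.out).mp (hu.dvd_of_dvd_pow hd)
    rw [h1]
    exact hqL)
  have hτ : q ∈ tau2 L :=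
    ⟨hq.out, hqL, rank2_of_not_sigma hG hL hq.out hqL, not_rank_one_of_le hBe hBc hBL⟩
  obtain ⟨-, ⟨-, h2, -⟩, -⟩ := Cfsg.Agent.S1418.result hG L hL E hE q hτ B ⟨hBE, hBe, hBc⟩
  have hnc : ¬ IsCyclic B := fun h =>
    not_rank_one_of_le hBe hBc le_rfl (by haveI := h; exact prankLE_one_of_cyclic hq.out)
  refine ⟨E, hE, ?_⟩
  rw [← h2]
  exact inf_le_right.trans (normalizer_le_of_noncyclic hG hM hqσ hBq hnc hBM)

/-- Two maximal subgroups with a common `q ∈ σ`, one above the normalizer of a `q`-subgroup of the other. -/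
theorem upsilon (hG : IsMinSimpleOddOrder G) {M L X : Subgroup G} (hM : IsCoatom M) (hL : IsCoatom L) {q : ℕ}
    [hq : Fact q.Prime] (hqM : q ∈ sigma M) (hqL : q ∈ sigma L) (hne : L ≠ M) (hXq : IsPGroup q X)
    (hX1 : X ≠ ⊥) (hXM : X ≤ M) (hNL : normalizer (X : Set G) ≤ L) : ¬ GammaP M q ∧ ¬ GammaP L q := by
  classical
  have hNA : NA G := fun r _ P hP hPna => Cfsg.Agent.S1422.result hG r P hP hPna
  have hXL : X ≤ L := Subgroup.le_normalizer.trans hNL
  obtain ⟨S₂, hS₂, hXS₂⟩ := exists_isSylowIn_ge q (le_inf hXM hXL) hXq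
  obtain ⟨h1, -, -⟩ := s1424_main hG hNA hM hqM hXq hX1 hXM hL hne hNL hS₂ hXS₂
  exact not_gamma_of_not_conj hM hL hqM hqL h1

/-- `Q = [Q, S]` is in `O_{p'}(H)` for `q ≠ p`, if `H` has `p`-rank at most two. -/
theorem le_coreOf_of_comm' (hG : IsMinSimpleOddOrder G) {H S Q : Subgroup G} (hH : H ≠ ⊤) {p q : ℕ}
    [hp : Fact p.Prime] [hq : Fact q.Prime] (hpq : p ≠ q) (hr : PRankLE p 2 H) (hpH : p ∣ Nat.card H)
    (hSH : S ≤ H) (hQH : Q ≤ H) (hQq : IsPGroup q Q) (hQS : ⁅Q, S⁆ = Q) : Q ≤ coreOf p H := by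
  classical
  haveI hs : Group.IsSolvable H := hG.2.2.2 H hH
  have hodd : Odd (Nat.card H) := by
    have h1 : Nat.card H ∣ Nat.card G := Subgroup.card_subgroup_dvd_card H
    exact Odd.of_dvd_nat hG.1 h1
  obtain ⟨-, -, -, -, hD, -⟩ := Cfsg.Agent.S1450.result (G := H) hodd p hpH hr
  haveI hWn : (pPrimePCore p H).Normal := by
    unfold pPrimePCore
    infer_instance
  have hle : Q ≤ (pPrimePCore p H).map H.subtype := by
    rw [← hQS, Subgroup.commutator_le]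
    intro a ha s hs'
    refine ⟨⟨a, hQH ha⟩ * ⟨s, hSH hs'⟩ * (⟨a, hQH ha⟩ : H)⁻¹ * (⟨s, hSH hs'⟩ : H)⁻¹, ?_, ?_⟩
    · apply hD
      have := Subgroup.commutator_mem_commutator (H₁ := (⊤ : Subgroup H)) (H₂ := (⊤ : Subgroup H))
        (mem_top (⟨a, hQH ha⟩ : H)) (mem_top (⟨s, hSH hs'⟩ : H))
      simpa [commutatorElement_def, commutator_def] using this
    · simp [commutatorElement_def]
  intro y hy
  obtain ⟨z, hz, hzy⟩ := hle hy
  have hzy' : (z : G) = y := hzy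
  obtain ⟨j, hj⟩ := hQq ⟨y, hy⟩
  have hj' : y ^ q ^ j = 1 := by simpa [Subtype.ext_iff] using hj
  have hzq : z ^ q ^ j = 1 := by
    ext; simpa [hzy'] using hj'
  let π := QuotientGroup.mk' (pPrimeCore p H)
  have h1 : π z ∈ pCore p (H ⧸ pPrimeCore p H) := hz
  obtain ⟨k, hk⟩ := Cfsg.Agent.Lib.PCore.isPGroup_pCore (G := H ⧸ pPrimeCore p H) p ⟨π z, h1⟩
  have hk' : (π z) ^ p ^ k = 1 := by simpa [Subtype.ext_iff] using hk
  have h2 : (π z) ^ q ^ j = 1 := by rw [← map_pow, hzq, map_one]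
  have hc : Nat.Coprime (p ^ k) (q ^ j) :=
    Nat.Coprime.pow _ _ ((Nat.coprime_primes hp.out hq.out).mpr hpq)
  have h3 : orderOf (π z) = 1 :=
    Nat.eq_one_of_dvd_coprimes hc (orderOf_dvd_of_pow_eq_one hk') (orderOf_dvd_of_pow_eq_one h2)
  have h4 : π z = 1 := orderOf_eq_one_iff.mp h3
  have h5 : z ∈ pPrimeCore p H := (QuotientGroup.eq_one_iff z).mp h4
  exact ⟨z, h5, hzy⟩

/-- No elementary abelian subgroup of order `p²` centralizes a subgroup `X` of order `q` of `M`,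
when `P` of order `p` in `M` centralizes `X`, with `N(P) ≤ H` and `q ∉ σ(H)`. -/
theorem no_ea_cent (hG : IsMinSimpleOddOrder G) {M X P H A : Subgroup G} (hM : IsCoatom M) {p q : ℕ}
    [hp : Fact p.Prime] [hq : Fact q.Prime] (hpτ : p ∈ tau1 M) (hqσ : q ∈ sigma M) (hXc : Nat.card X = q)
    (hXM : X ≤ M) (hPc : Nat.card P = p) (hPM : P ≤ M) (hPX : P ≤ centralizer (X : Set G)) (hH : IsCoatom H)
    (hNH : normalizer (P : Set G) ≤ H) (hqH : q ∉ sigma H) (hAe : IsElementaryAbelian p A)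
    (hAc : Nat.card A = p ^ 2) (hAX : A ≤ centralizer (X : Set G)) : False := by
  classical
  have hpq : p ≠ q := fun h => hpτ.2.1 (h ▸ hqσ)
  have hXq : IsPGroup q X := IsPGroup.of_card (n := 1) (by rw [hXc, pow_one])
  have hX1 : X ≠ ⊥ := by
    intro h
    rw [h, Subgroup.card_bot] at hXc
    exact hq.out.one_lt.ne hXc
  have hP1 : P ≠ ⊥ := by
    intro h
    rw [h, Subgroup.card_bot] at hPc
    exact hp.out.one_lt.ne hPc
  have hCN : centralizer (X : Set G) ≤ normalizer (X : Set G) := BGTrans.centralizer_le_normalizer X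
  obtain ⟨L, hL, hNL⟩ := BGSigma2.exists_coatom_ge (IsMin.normalizer_ne_top hG hX1 (IsMin.isPGroup_ne_top hG hXq))
  have hAL : A ≤ L := hAX.trans (hCN.trans hNL)
  have hPL : P ≤ L := hPX.trans (hCN.trans hNL)
  have hXL : X ≤ L := Subgroup.le_normalizer.trans hNL
  have hne : L ≠ M := by
    rintro rfl
    exact not_le_of_rank_one hpτ.2.2.2.2 hAe hAc hAL
  by_cases hqL : q ∈ sigma L
  · have hXσ : X ≤ sigmaCore L := le_sigmaCore_of_pgroup hG hL hqL hXL hXq
    by_cases hpL : p ∈ sigma L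
    · obtain ⟨-, hΓL⟩ := upsilon hG hM hL hqσ hqL hne hXq hX1 hXM hNL
      obtain ⟨hqβ, -⟩ := facts_of_not_gamma hG hL hqL hΓL
      by_cases hpβ : p ∈ beta L
      · obtain ⟨Pm⟩ : Nonempty (Sylow p ↥(sigmaCore L)) := inferInstance
        obtain ⟨⟨h1, h2⟩, -⟩ := Cfsg.Agent.S1423.result hG L hL p hpL P hPL hPc Pm (Or.inl hpβ)
        have h3 : H = L := h2 H hH ((BGTrans.centralizer_le_normalizer P).trans hNH)
        exact hqH (h3 ▸ hqL)
      · exact xi2 hG hM hL hpτ.2.2.2.1 hqσ hpL hqL hpq hqβ hpβ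
    · have hτ : p ∈ tau2 L :=
        ⟨hp.out, hpL, rank2_of_not_sigma hG hL hp.out hpL, not_rank_one_of_le hAe hAc hAL⟩
      have TA : T2 L A p := T2.mk' hG hL hτ hAL hAe hAc
      apply hX1
      rw [eq_bot_iff, ← TA.d]
      refine le_inf hXσ ?_
      rw [Subgroup.le_centralizer_iff]
      exact hAX
  · obtain ⟨B, TB, hBM, hBe, hBc, hBL, hCB⟩ := lambda_T2 hG hM hL hqσ hXc hXM hne hNL hqL
    have hpL : p ∉ sigma L := by
      intro hpL
      apply hP1
      have hPp : IsPGroup p P := IsPGroup.of_card (n := 1) (by rw [hPc, pow_one])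
      rw [eq_bot_iff, ← TB.e hM hne.symm hBM]
      exact le_inf (le_sigmaCore_of_pgroup hG hL hpL hPL hPp) hPM
    exact lambda_not_ea hG hL hpq hpτ.2.2.2.2 hpL hqL hBL hBe hBc hCB hAL hAe hAc

end Cfsg.Agent.Lib.BGP3G
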