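import Mathlib
import Cfsg.Agent.Lib.BGP3G

/-!
# The prime action lemma: the primes lie in `σ` of a maximal subgroup above the normalizer.
-/

set_option autoImplicit false
set_option linter.unusedSectionVars false
set_option linter.unusedVariables false
set_option linter.style.haveILetI false
set_option linter.unusedSimpArgs false

namespace Cfsg.Agent.Lib.BGP3H

open Cfsg Subgroup Cfsg.Agent.Lib.CoprimeInv Cfsg.Agent.Lib.BGTrans Cfsg.Agent.Lib.Glauberman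
  Cfsg.Agent.Lib.BGSigma Cfsg.Agent.Lib.BGSigma2 Cfsg.Agent.Lib.BGSigma3 Cfsg.Agent.Lib.BGSigma4
  Cfsg.Agent.Lib.BGM1 Cfsg.Agent.Lib.BGM2 Cfsg.Agent.Lib.BGP2A Cfsg.Agent.Lib.BGP2B Cfsg.Agent.Lib.BGP2C
  Cfsg.Agent.Lib.BGP2D Cfsg.Agent.Lib.BGP2E Cfsg.Agent.Lib.BGP2F Cfsg.Agent.Lib.BGFit2 Cfsg.Agent.Lib.BGUniq
  Cfsg.Agent.Lib.BGUniq2 Cfsg.Agent.Lib.BGUniq3 Cfsg.Agent.Lib.BGFus Cfsg.Agent.Lib.BGP3A Cfsg.Agent.Lib.BGP3B
  Cfsg.Agent.Lib.BGP3C Cfsg.Agent.Lib.BGP3D Cfsg.Agent.Lib.BGTau7 Cfsg.Agent.Lib.BGP3E Cfsg.Agent.Lib.BGP3F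
  Cfsg.Agent.Lib.BGK0 Cfsg.Agent.Lib.BGK1 Cfsg.Agent.Lib.BGK2 Cfsg.Agent.Lib.BGK3 Cfsg.Agent.Lib.BGK4
  Cfsg.Agent.Lib.BGK5 Cfsg.Agent.Lib.BGP3G

open scoped commutatorElement

universe u

variable {G : Type u} [Group G] [Finite G]

/-- The primes of `N ⊔ B`. -/
theorem primes_sup {B N : Subgroup G} (hBN : B ≤ normalizer (N : Set G)) {u : ℕ} (hu : u.Prime)
    (hd : u ∣ Nat.card ↥(N ⊔ B)) : u ∣ Nat.card N ∨ u ∣ Nat.card B := by
  have h1 := card_sup_mul_card_inf hBN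
  rw [sup_comm] at h1
  have h2 : u ∣ Nat.card B * Nat.card N := by
    rw [← h1]
    exact hd.trans (Nat.dvd_mul_right _ _)
  exact ((hu.dvd_mul).mp h2).symm

theorem eq_prime_of_dvd_pgroup {W : Subgroup G} {q u : ℕ} [hq : Fact q.Prime] (hW : IsPGroup q W) (hu : u.Prime)
    (hd : u ∣ Nat.card W) : u = q := by
  obtain ⟨k, hk⟩ := hW.exists_card_eq
  rw [hk] at hd
  exact (Nat.prime_dvd_prime_iff_eq hu hq.out).mp (hu.dvd_of_dvd_pow hd)

theorem cyclic_or_ea (hG : IsMinSimpleOddOrder G) {W : Subgroup G} {p : ℕ} [hp : Fact p.Prime] (hW : IsPGroup p W) :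
    IsCyclic W ∨ ∃ A, A ≤ W ∧ IsElementaryAbelian p A ∧ Nat.card A = p ^ 2 := by
  by_cases h : PRankLE p 1 W
  · exact Or.inl (isCyclic_of_rank_one hG le_rfl hW h)
  · exact Or.inr (exists_ea2 h)

/-- A subgroup of prime order is generated by a non-identity element. -/
theorem eq_zpowers_of_prime {R : Subgroup G} {c : G} (hR : (Nat.card R).Prime) (hc : c ∈ R) (hc1 : c ≠ 1) :
    R = zpowers c := by
  symm
  apply Subgroup.eq_of_le_of_card_ge (zpowers_le.mpr hc)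
  rw [Nat.card_zpowers]
  have h1 : orderOf c ∣ Nat.card R := Subgroup.orderOf_dvd_natCard R hc
  rcases (Nat.dvd_prime hR).mp h1 with h | h
  · exact absurd (orderOf_eq_one_iff.mp h) hc1
  · exact h.ge

/-- Two subgroups of the same prime order in a cyclic subgroup coincide. -/
theorem eq_of_card_prime_of_cyclic {W R₁ R₂ : Subgroup G} {r : ℕ} [hr : Fact r.Prime] (hW : IsCyclic W) (h₁ : R₁ ≤ W)
    (h₂ : R₂ ≤ W) (hc₁ : Nat.card R₁ = r) (hc₂ : Nat.card R₂ = r) : R₁ = R₂ := by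
  obtain ⟨x, hx⟩ := exists_prime_orderOf_dvd_card' (G := R₁) r (by rw [hc₁])
  have hxo : orderOf (x : G) = r := by rw [Subgroup.orderOf_coe]; exact hx
  have hle : R₂ ≤ R₁ := by
    intro d hd
    have h1 : (⟨d, hd⟩ : R₂) ^ Nat.card R₂ = 1 := pow_card_eq_one'
    rw [hc₂] at h1
    have h2 : d ^ r = 1 := by simpa [Subtype.ext_iff] using h1
    have h3 := Cfsg.Agent.Lib.BGTau1.mem_zpowers_of_cyclic hW hr.out (h₁ x.2) (h₂ hd) hxo h2
    exact (zpowers_le.mpr x.2) h3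
  exact (Subgroup.eq_of_le_of_card_ge hle (by rw [hc₁, hc₂])).symm

/-- Two subgroups of order `r` in a group of `r`-rank one are conjugate in it. -/
theorem exists_conj_of_rank_one (hG : IsMinSimpleOddOrder G) {H R₁ R₂ : Subgroup G} {r : ℕ} [hr : Fact r.Prime]
    (hr1 : PRankLE r 1 H) (h₁ : R₁ ≤ H) (h₂ : R₂ ≤ H) (hc₁ : Nat.card R₁ = r) (hc₂ : Nat.card R₂ = r) :
    ∃ h ∈ H, cj R₁ h = R₂ := by
  have hp₁ : IsPGroup r R₁ := IsPGroup.of_card (n := 1) (by rw [hc₁, pow_one])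
  have hp₂ : IsPGroup r R₂ := IsPGroup.of_card (n := 1) (by rw [hc₂, pow_one])
  obtain ⟨W₁, hW₁, hR₁⟩ := exists_isSylowIn_ge r h₁ hp₁
  obtain ⟨W₂, hW₂, hR₂⟩ := exists_isSylowIn_ge r h₂ hp₂
  obtain ⟨h, hh, hW⟩ := hW₁.exists_conj hW₂
  have hcyc : IsCyclic W₂ := isCyclic_of_rank_one hG hW₂.1 hW₂.2.1 hr1
  refine ⟨h, hh, ?_⟩
  apply eq_of_card_prime_of_cyclic (r := r) hcyc _ hR₂ (by rw [card_cj, hc₁]) hc₂
  rw [hW]
  exact cj_mono hR₁ h

/-- An elementary abelian `p²` of `H`, `p ∈ σ(H)`, centralized by a subgroup of prime order `r ∉ σ(H)`. -/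
theorem not_gamma_of_ea_cent (hG : IsMinSimpleOddOrder G) {H R A : Subgroup G} (hH : IsCoatom H) {p r : ℕ}
    [hp : Fact p.Prime] [hr : Fact r.Prime] (hpH : p ∈ sigma H) (hrH : r ∉ sigma H) (hpr : p ≠ r)
    (hr1 : PRankLE r 1 H) (hRc : Nat.card R = r) (hRH : R ≤ H) (hAH : A ≤ H) (hAe : IsElementaryAbelian p A)
    (hAc : Nat.card A = p ^ 2) (hAR : A ≤ centralizer (R : Set G)) : ¬ GammaP H p := by
  classical
  have hRp : IsPGroup r R := IsPGroup.of_card (n := 1) (by rw [hRc, pow_one])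
  have hR1 : R ≠ ⊥ := by
    intro h
    rw [h, Subgroup.card_bot] at hRc
    exact hr.out.one_lt.ne hRc
  have hAp : IsPGroup p A := isPGroup_of_ea hAe
  obtain ⟨J, hJ, hNJ⟩ := BGSigma2.exists_coatom_ge (IsMin.normalizer_ne_top hG hR1 (IsMin.isPGroup_ne_top hG hRp))
  have hCR : centralizer (R : Set G) ≤ normalizer (R : Set G) := BGTrans.centralizer_le_normalizer R
  have hAJ : A ≤ J := hAR.trans (hCR.trans hNJ)
  have hRJ : R ≤ J := Subgroup.le_normalizer.trans hNJ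
  have hJH : J ≠ H := by
    rintro rfl
    exact (tau2_of_not_sigma hG hJ hrH hRc hRJ hNJ).2.2.2 hr1
  have hRA : R ≤ centralizer (A : Set G) := by
    rw [Subgroup.le_centralizer_iff]
    exact hAR
  by_cases hpJ : p ∈ sigma J
  · intro hΓ
    obtain ⟨g, hg⟩ := hΓ J hJ hpJ
    have hR' : cj R g⁻¹ ≤ H := by
      have := cj_mono hRJ g⁻¹
      rwa [hg, cj_cj_inv] at this
    obtain ⟨h, hh, hhR⟩ := exists_conj_of_rank_one hG hr1 hRH hR' hRc (by rw [card_cj, hRc])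
    have hnN : g * h ∈ normalizer (R : Set G) := by
      apply mem_normalizer_of_cj_eq
      rw [← cj_cj, hhR, cj_inv_cj]
    have hnJ : g * h ∈ J := hNJ hnN
    have hHh : cj H h = H := cj_eq_of_mem_normalizer (Subgroup.le_normalizer hh)
    have hJ2 : J = cj H (g * h) := by
      rw [← cj_cj, hHh, hg]
    have hJJ : cj J (g * h) = J := cj_eq_of_mem_normalizer (Subgroup.le_normalizer hnJ)
    apply hJH
    have h3 : cj J (g * h)⁻¹ = H := by
      conv_lhs => rw [hJ2]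
      exact cj_cj_inv H (g * h)
    have hJJ' : cj J (g * h)⁻¹ = J := cj_eq_of_mem_normalizer (Subgroup.le_normalizer (inv_mem hnJ))
    rw [← hJJ', h3]
  · exfalso
    have hτ : p ∈ tau2 J :=
      ⟨hp.out, hpJ, rank2_of_not_sigma hG hJ hp.out hpJ, not_rank_one_of_le hAe hAc hAJ⟩
    have TA : T2 J A p := T2.mk' hG hJ hτ hAJ hAe hAc
    have hrJ : r ∉ sigma J := by
      intro hrJ
      apply hR1
      rw [eq_bot_iff, ← TA.d]
      exact le_inf (le_sigmaCore_of_pgroup hG hJ hrJ hRJ hRp) hRA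
    have hτr := tau2_of_not_sigma hG hJ hrJ hRc hRJ hNJ
    obtain ⟨B, hBJ, hBe, hBc⟩ := exists_ea2 hτr.2.2.2
    obtain ⟨v, hv⟩ := conj_into_cent hpr TA hrJ hBJ hBe hBc
    have hnc : ¬ IsCyclic A := fun h =>
      not_rank_one_of_le hAe hAc le_rfl (by haveI := h; exact prankLE_one_of_cyclic hp.out)
    have hNA : normalizer (A : Set G) ≤ H := normalizer_le_of_noncyclic hG hH hpH hAp hnc hAH
    have hCA : centralizer (A : Set G) ≤ H := (BGTrans.centralizer_le_normalizer A).trans hNA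
    have hBv : B ≤ centralizer (cj A v : Set G) := by
      rw [Subgroup.le_centralizer_iff]
      exact hv
    rw [centralizer_cj'] at hBv
    have h2 := cj_mono hBv v⁻¹
    rw [cj_cj_inv] at h2
    exact not_le_of_rank_one hr1 (Cfsg.Agent.S1422.ea_cj hBe v⁻¹) (by rw [card_cj, hBc]) (h2.trans hCA)

/-- Step 1: `H` has `q`-rank one. -/
theorem rank_q_of_fix (hG : IsMinSimpleOddOrder G) {M H : Subgroup G} (hM : IsCoatom M) (hH : IsCoatom H) (hne : H ≠ M)
    {q : ℕ} [hq : Fact q.Prime] (hqσ : q ∈ sigma M) (hqH : q ∉ sigma H) {x y : G} (hxM : x ∈ M) (hxH : x ∈ H)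
    (hxo : orderOf x = q) (hy : y ∈ sigmaCore H) (hyM : y ∈ M) (hy1 : y ≠ 1) (hxy : x * y = y * x) :
    PRankLE q 1 H := by
  classical
  by_contra h
  have hτ : q ∈ tau2 H := ⟨hq.out, hqH, rank2_of_not_sigma hG hH hq.out hqH, h⟩
  have hx1 : x ≠ 1 := ne_one_of_order hq.out hxo
  have hh := Cfsg.Agent.Lib.BGTau7.cent_of_tau2_element hG hH hxH hx1
    (fun u hu hd => by
      rw [hxo] at hd
      rw [(Nat.prime_dvd_prime_iff_eq hu hq.out).mp hd]
      exact hτ)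
    ⟨hxH, y, hy, hy1, hxy⟩
  obtain ⟨L, hL, hNL⟩ := exists_coatom_norm hG hq.out hxo
  have h1 : L = H := hh.2 L hL ((Cfsg.Agent.Lib.BGTau5.cent_le_norm x).trans hNL)
  rw [h1] at hNL
  obtain ⟨B, TB, hBM, -, -, -, -⟩ := lambda_T2 hG hM hH hqσ (X := zpowers x) (by rw [Nat.card_zpowers, hxo])
    (zpowers_le.mpr hxM) hne hNL hqH
  have h2 := TB.e hM hne.symm hBM
  have h3 : y ∈ sigmaCore H ⊓ M := ⟨hy, hyM⟩
  rw [h2] at h3
  exact hy1 h3

/-- Step 2: `H` has `r`-rank one. -/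
theorem rank_r_of_move (hG : IsMinSimpleOddOrder G) {H X R : Subgroup G} (hH : IsCoatom H) {q r : ℕ} [hq : Fact q.Prime]
    [hr : Fact r.Prime] (hqH : q ∉ sigma H) (hrH : r ∉ sigma H) (hqr : q ≠ r) (hXq : IsPGroup q X) (hXH : X ≤ H)
    (hRc : Nat.card R = r) (hRH : R ≤ H) (hRX : R ≤ normalizer (X : Set G))
    (hnc : ¬ R ≤ centralizer (X : Set G)) : PRankLE r 1 H := by
  classical
  by_contra h
  have hτ : r ∈ tau2 H := ⟨hr.out, hrH, rank2_of_not_sigma hG hH hr.out hrH, h⟩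
  have hRp : IsPGroup r R := IsPGroup.of_card (n := 1) (by rw [hRc, pow_one])
  obtain ⟨E, hE, hYE⟩ := exists_compl_ge hG hH (Y := X ⊔ R) (sup_le hXH hRH) (fun u hu hd => by
    rcases primes_sup hRX hu hd with h1 | h1
    · rw [eq_prime_of_dvd_pgroup hXq hu h1]; exact hqH
    · rw [eq_prime_of_dvd_pgroup hRp hu h1]; exact hrH)
  obtain ⟨A, hAE, hAe, hAc⟩ := exists_ea_in_compl hG hH hE hτ
  obtain ⟨⟨h1, h2⟩, -⟩ := Cfsg.Agent.S1418.result hG H hH E hE r hτ A ⟨hAE, hAe, hAc⟩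
  have hRA : R ≤ A := h2 R (le_sup_right.trans hYE) hRc
  apply hnc
  intro ρ hρ
  rw [Subgroup.mem_centralizer_iff]
  intro u hu
  have hAX : A ⊓ X = ⊥ := by
    apply inf_eq_bot_of_coprime'
    obtain ⟨k, hk⟩ := hXq.exists_card_eq
    rw [hAc, hk]
    exact Nat.Coprime.pow _ _ ((Nat.coprime_primes hr.out hq.out).mpr hqr.symm)
  exact (comm_of_normalize hAX (hRA hρ) hu (hRX hρ) (h1 (le_sup_left.trans hYE hu))).symm

/-- An element acting on a subgroup of a complement acts like its part in the complement. -/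
theorem compl_action {L E V₁ : Subgroup G} {g₂ : G} (hE : IsComplIn E (sigmaCore L) L) (hV₁E : V₁ ≤ E) (hg₂ : g₂ ∈ L)
    (hg₂N : g₂ ∈ normalizer (V₁ : Set G)) :
    ∃ e ∈ E, e ∈ normalizer (V₁ : Set G) ∧ ∀ v ∈ V₁, g₂ * v * g₂⁻¹ = e * v * e⁻¹ := by
  classical
  obtain ⟨e, he, c, hc, rfl⟩ := hE.2.2.2 g₂ hg₂
  have hkey : ∀ v ∈ V₁, e * c * v * (e * c)⁻¹ = e * v * e⁻¹ := by
    intro v hv
    have hw : e * c * v * (e * c)⁻¹ ∈ E := hV₁E ((mem_normalizer_iff.mp hg₂N v).mp hv)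
    have ht : e * v * e⁻¹ ∈ E := mul_mem (mul_mem he (hV₁E hv)) (inv_mem he)
    have hcL : c ∈ L := sigmaCore_le hc
    have hvL : v ∈ L := hE.1 (hV₁E hv)
    have heL : e ∈ L := hE.1 he
    have hd : (e * c * v * (e * c)⁻¹) * (e * v * e⁻¹)⁻¹ ∈ sigmaCore L := by
      have h1 : c * (v * c⁻¹ * v⁻¹) ∈ sigmaCore L :=
        mul_mem hc ((mem_normalizer_iff.mp (le_normalizer_sigmaCore hvL) c⁻¹).mp (Subgroup.inv_mem _ hc))
      have h2 := (mem_normalizer_iff.mp (le_normalizer_sigmaCore heL) _).mp h1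
      have h3 : e * (c * (v * c⁻¹ * v⁻¹)) * e⁻¹ = (e * c * v * (e * c)⁻¹) * (e * v * e⁻¹)⁻¹ := by group
      rwa [h3] at h2
    have hd2 : (e * c * v * (e * c)⁻¹) * (e * v * e⁻¹)⁻¹ ∈ E ⊓ sigmaCore L :=
      Subgroup.mem_inf.mpr ⟨mul_mem hw (inv_mem ht), hd⟩
    rw [hE.2.2.1, Subgroup.mem_bot] at hd2
    exact mul_inv_eq_one.mp hd2
  refine ⟨e, he, ?_, hkey⟩
  apply mem_normalizer_of_conj_mem
  intro v hv
  rw [← hkey v hv]
  exact (mem_normalizer_iff.mp hg₂N v).mp hv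

/-- The case `p, q ∈ σ(L)` above `P`, with `q ∉ β(L)`: `L = H` for `H ≥ N(P)`. -/
theorem eq_of_both {M L H P : Subgroup G} (hG : IsMinSimpleOddOrder G) (hM : IsCoatom M) (hL : IsCoatom L) (hH : IsCoatom H)
    {p q : ℕ} [hp : Fact p.Prime] [hq : Fact q.Prime] (hpM : ¬ p ∣ Nat.card ↥⁅M, M⁆) (hqσ : q ∈ sigma M)
    (hpL : p ∈ sigma L) (hqL : q ∈ sigma L) (hpq : p ≠ q) (hqβ : q ∉ beta L) (hPL : P ≤ L) (hPc : Nat.card P = p)
    (hNH : normalizer (P : Set G) ≤ H) : H = L := by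
  by_cases hpβ : p ∈ beta L
  · obtain ⟨Pm⟩ : Nonempty (Sylow p ↥(sigmaCore L)) := inferInstance
    obtain ⟨⟨h1, h2⟩, -⟩ := Cfsg.Agent.S1423.result hG L hL p hpL P hPL hPc Pm (Or.inl hpβ)
    exact h2 H hH ((BGTrans.centralizer_le_normalizer P).trans hNH)
  · exact (xi2 hG hM hL hpM hqσ hpL hqL hpq hqβ hpβ).elim

/-- Final step of case B. -/
theorem caseB_final (hG : IsMinSimpleOddOrder G) {M H P X V : Subgroup G} (hM : IsCoatom M) (hH : IsCoatom H) {p q : ℕ}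
    [hp : Fact p.Prime] [hq : Fact q.Prime] (hpτ : p ∈ tau1 M) (hqσ : q ∈ sigma M) (hqH : q ∉ sigma H)
    (hPc : Nat.card P = p) (hPM : P ≤ M) (hPV : P ≤ V) (hNH : normalizer (P : Set G) ≤ H) (hXc : Nat.card X = q)
    (hXM : X ≤ M) (hqr1 : PRankLE q 1 H) (hV : IsSylowIn p V ⊤) (hVc : IsCyclic V)
    (hVX : V ≤ centralizer (X : Set G)) : False := by
  classical
  have hpq : p ≠ q := fun h => hpτ.2.1 (h ▸ hqσ)
  have hpM' : ¬ p ∣ Nat.card ↥⁅M, M⁆ := hpτ.2.2.2.1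
  have hXq : IsPGroup q X := IsPGroup.of_card (n := 1) (by rw [hXc, pow_one])
  have hX1 : X ≠ ⊥ := by
    intro h
    rw [h, Subgroup.card_bot] at hXc
    exact hq.out.one_lt.ne hXc
  have hP1 : P ≠ ⊥ := by
    intro h
    rw [h, Subgroup.card_bot] at hPc
    exact hp.out.one_lt.ne hPc
  have hPp : IsPGroup p P := IsPGroup.of_card (n := 1) (by rw [hPc, pow_one])
  have hV1 : V ≠ ⊥ := by
    rintro rfl
    exact hP1 (le_bot_iff.mp hPV)
  have hVp : IsPGroup p V := hV.2.1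
  have hXV : X ≤ centralizer (V : Set G) := by
    rw [Subgroup.le_centralizer_iff]
    exact hVX
  obtain ⟨T₁, hT₁, hXT₁⟩ := exists_isSylowIn_ge q hXV hXq
  obtain ⟨g, hgV, hgT, hgc⟩ := exists_move_frattini hG hV hV1 hT₁
  have hCVP : centralizer (V : Set G) ≤ centralizer (P : Set G) := Subgroup.centralizer_le hPV
  have hT₁H : T₁ ≤ H := hT₁.1.trans (hCVP.trans ((BGTrans.centralizer_le_normalizer P).trans hNH))
  have hT₁c : IsCyclic T₁ := isCyclic_of_rank_one hG hT₁H hT₁.2.1 hqr1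
  have hNT : normalizer (T₁ : Set G) ≤ normalizer (X : Set G) := normalizer_le_of_cyclic hT₁c hXc hXT₁
  have hgX : g ∈ normalizer (X : Set G) := hNT hgT
  obtain ⟨L, hL, hNL⟩ := BGSigma2.exists_coatom_ge (IsMin.normalizer_ne_top hG hX1 (IsMin.isPGroup_ne_top hG hXq))
  have hCN : centralizer (X : Set G) ≤ normalizer (X : Set G) := BGTrans.centralizer_le_normalizer X
  have hVL : V ≤ L := hVX.trans (hCN.trans hNL)
  have hPL : P ≤ L := hPV.trans hVL
  have hgL : g ∈ L := hNL hgX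
  by_cases hne : L = M
  · subst hne
    exact hgc (no_move hpM' hVp hVL hgL hgV)
  by_cases hqL : q ∈ sigma L
  · -- `q ∈ σ(L)`
    obtain ⟨-, hΓL⟩ := upsilon hG hM hL hqσ hqL hne hXq hX1 hXM hNL
    obtain ⟨hqβ, -⟩ := facts_of_not_gamma hG hL hqL hΓL
    by_cases hpL : p ∈ sigma L
    · have h1 := eq_of_both hG hM hL hH hpM' hqσ hpL hqL hpq hqβ hPL hPc hNH
      exact hqH (h1 ▸ hqL)
    · -- `p ∉ σ(L)`
      have hVprimes : ∀ u : ℕ, u.Prime → u ∣ Nat.card V → u ∉ sigma L := fun u hu hd => by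
        rw [eq_prime_of_dvd_pgroup hVp hu hd]
        exact hpL
      obtain ⟨E, hE, hVE⟩ := exists_compl_ge hG hL hVL hVprimes
      have hVsE : IsSylowIn p V E := ⟨hVE, hVp, fun R _ hRp hle => hV.2.2 R le_top hRp hle⟩
      -- an element of order `p` in `V ∩ L'`
      obtain ⟨v, hv, hvg⟩ : ∃ v ∈ V, v * g ≠ g * v := by
        by_contra hcon
        push Not at hcon
        exact hgc (Subgroup.mem_centralizer_iff.mpr hcon)
      set c : G := g * v * g⁻¹ * v⁻¹ with hc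
      have hcV : c ∈ V := mul_mem ((mem_normalizer_iff.mp hgV v).mp hv) (inv_mem hv)
      have hc1 : c ≠ 1 := by
        intro h
        apply hvg
        have h2 : g * v * g⁻¹ = v := mul_inv_eq_one.mp h
        calc v * g = (g * v * g⁻¹) * g := by rw [h2]
          _ = g * v := by group
      have hcD : c ∈ ⁅L, L⁆ := by
        have := Subgroup.commutator_mem_commutator hgL (hVL hv)
        simpa [commutatorElement_def] using this
      obtain ⟨n, hn⟩ := exists_pow_order hVp hcV hc1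
      set c₁ : G := c ^ n with hc₁
      have hc₁V : c₁ ∈ V := pow_mem hcV n
      have hc₁D : c₁ ∈ ⁅L, L⁆ := pow_mem hcD n
      have hc₁1 : c₁ ≠ 1 := ne_one_of_order hp.out hn
      -- an invariant Sylow `q`-subgroup
      have hXσ : X ≤ sigmaCore L := le_sigmaCore_of_pgroup hG hL hqL (Subgroup.le_normalizer.trans hNL) hXq
      have hVN : V ≤ normalizer (X : Set G) := hVX.trans hCN
      have hcop : (Nat.card (sigmaCore L)).Coprime (Nat.card V) := by
        obtain ⟨k, hk⟩ := hVp.exists_card_eq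
        rw [hk]
        apply Nat.Coprime.pow_right
        exact ((Nat.Prime.coprime_iff_not_dvd hp.out).mpr (not_dvd_sigmaCore hp.out hpL)).symm
      obtain ⟨S, hS, hSV, hXS⟩ := exists_invariant_isSylowIn_ge q (solvable_of_le_coatom hG hL sigmaCore_le)
        (hVL.trans le_normalizer_sigmaCore) hcop hXσ hXq hVN
      have hSL : S ≤ L := hS.1.trans sigmaCore_le
      have hc₁S : c₁ ∈ centralizer (S : Set G) := cent_of_comm hG hL hqβ hSL hS.2.1 hc₁D
        (by rw [hn]; exact (Nat.coprime_primes hp.out hq.out).mpr hpq) (hSV hc₁V)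
      have hSC : S ≤ centralizer (V : Set G) := by
        intro y hy
        rw [Subgroup.mem_centralizer_iff]
        intro z hz
        have h1 : c₁ * y = y * c₁ := (Subgroup.mem_centralizer_iff.mp hc₁S y hy).symm
        exact F1el hG hL hE hVsE hVc hc₁V hc₁1 (hS.1 hy) h1 hz
      have hSt := isSylowIn_top_of_sigma hqL (Cfsg.Agent.Lib.BGTau3.isSylowIn_of_sigmaCore hG hL hqL hS)
      exact xi hG hM hpM' hqσ hV hV1 hSt hSC
  · -- `q ∉ σ(L)`
    obtain ⟨B, TB, hBM, hBe, hBc, hBL, hCB⟩ := lambda_T2 hG hM hL hqσ hXc hXM hne hNL hqL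
    have hpL : p ∉ sigma L := by
      intro hpL
      apply hP1
      rw [eq_bot_iff, ← TB.e hM (Ne.symm hne) hBM]
      exact le_inf (le_sigmaCore_of_pgroup hG hL hpL hPL hPp) hPM
    obtain ⟨E, hE, hEM⟩ := lambda_compl hG hM hL hqσ hqL hBM hBL hBe hBc
    obtain ⟨S_E, hS_E⟩ := exists_isSylowIn p E
    have hS_L : IsSylowIn p S_E L := isSylowIn_of_compl hG hL hE hpL hS_E
    obtain ⟨W, hW, hVW⟩ := exists_isSylowIn_ge p hVL hVp
    obtain ⟨l, hl, hlW⟩ := hW.exists_conj hS_L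
    set V₁ : Subgroup G := cj V l with hV₁
    have hV₁E : V₁ ≤ E := by
      have h1 := cj_mono hVW l
      rw [← hlW] at h1
      exact h1.trans hS_E.1
    set g₂ : G := l * g * l⁻¹ with hg₂
    have hg₂L : g₂ ∈ L := mul_mem (mul_mem hl hgL) (inv_mem hl)
    have hg₂N : g₂ ∈ normalizer (V₁ : Set G) := by
      have h1 := conj_mem_cj (K := normalizer (V : Set G)) (g := l) hgV
      rw [← normalizer_cj_eq] at h1
      exact h1
    obtain ⟨e, he, heN, hkey⟩ := compl_action hE hV₁E hg₂L hg₂N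
    have hV₁p : IsPGroup p V₁ := hVp.map _
    have heC : e ∈ centralizer (V₁ : Set G) := no_move hpM' hV₁p (hV₁E.trans hEM) (hEM he) heN
    apply hgc
    rw [Subgroup.mem_centralizer_iff]
    intro v hv
    have hv₁ : l * v * l⁻¹ ∈ V₁ := conj_mem_cj hv
    have h1 := hkey _ hv₁
    have h2 : e * (l * v * l⁻¹) * e⁻¹ = l * v * l⁻¹ := by
      have h3 := Subgroup.mem_centralizer_iff.mp heC _ hv₁
      rw [← h3]
      group
    rw [h2, hg₂] at h1
    have h4 : l * (g * v * g⁻¹) * l⁻¹ = l * v * l⁻¹ := by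
      rw [← h1]
      group
    have h5 : g * v * g⁻¹ = v := by
      have h6 := mul_left_cancel (mul_right_cancel h4)
      exact h6
    calc v * g = (g * v * g⁻¹) * g := by rw [h5]
      _ = g * v := by group

end Cfsg.Agent.Lib.BGP3H
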