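import Mathlib
import Cfsg.Agent.Lib.BGP3H
import Cfsg.Agent.S1426

/-!
# The prime action lemma: the cases above the normalizer of `P`.
-/

set_option autoImplicit false
set_option linter.unusedSectionVars false
set_option linter.unusedVariables false
set_option linter.style.haveILetI false
set_option linter.unusedSimpArgs false

namespace Cfsg.Agent.Lib.BGP3I

open Cfsg Subgroup Cfsg.Agent.Lib.CoprimeInv Cfsg.Agent.Lib.BGTrans Cfsg.Agent.Lib.Glauberman
  Cfsg.Agent.Lib.BGSigma Cfsg.Agent.Lib.BGSigma2 Cfsg.Agent.Lib.BGSigma3 Cfsg.Agent.Lib.BGSigma4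
  Cfsg.Agent.Lib.BGM1 Cfsg.Agent.Lib.BGM2 Cfsg.Agent.Lib.BGP2A Cfsg.Agent.Lib.BGP2B Cfsg.Agent.Lib.BGP2C
  Cfsg.Agent.Lib.BGP2D Cfsg.Agent.Lib.BGP2E Cfsg.Agent.Lib.BGP2F Cfsg.Agent.Lib.BGFit2 Cfsg.Agent.Lib.BGUniq
  Cfsg.Agent.Lib.BGUniq2 Cfsg.Agent.Lib.BGUniq3 Cfsg.Agent.Lib.BGFus Cfsg.Agent.Lib.BGP3A Cfsg.Agent.Lib.BGP3B
  Cfsg.Agent.Lib.BGP3C Cfsg.Agent.Lib.BGP3D Cfsg.Agent.Lib.BGTau7 Cfsg.Agent.Lib.BGP3E Cfsg.Agent.Lib.BGP3F
  Cfsg.Agent.Lib.BGK0 Cfsg.Agent.Lib.BGK1 Cfsg.Agent.Lib.BGK2 Cfsg.Agent.Lib.BGK3 Cfsg.Agent.Lib.BGK4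
  Cfsg.Agent.Lib.BGK5 Cfsg.Agent.Lib.BGP3G Cfsg.Agent.Lib.BGP3H

open scoped commutatorElement

universe u

variable {G : Type u} [Group G] [Finite G]

/-- A maximal subgroup above the normalizer of a subgroup of order `p ∈ τ₁(M)` of `M` differs from `M`. -/
theorem ne_of_tau1 (hG : IsMinSimpleOddOrder G) {M H P : Subgroup G} {p : ℕ} [hp : Fact p.Prime] (hpτ : p ∈ tau1 M)
    (hPc : Nat.card P = p) (hPM : P ≤ M) (hNH : normalizer (P : Set G) ≤ H) : H ≠ M := by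
  rintro rfl
  have hPp : IsPGroup p P := IsPGroup.of_card (n := 1) (by rw [hPc, pow_one])
  obtain ⟨S, hS, hPS⟩ := exists_isSylowIn_ge p hPM hPp
  have hcyc : IsCyclic S := isCyclic_of_rank_one hG hS.1 hS.2.1 hpτ.2.2.2.2
  exact hpτ.2.1 (mem_sigma_of hS hpτ.2.2.1 ((normalizer_le_of_cyclic hcyc hPc hPS).trans hNH))

/-- The case `p ∉ σ(H)` is impossible. -/
theorem caseA (hG : IsMinSimpleOddOrder G) {M H P R Q : Subgroup G} (hM : IsCoatom M) (hH : IsCoatom H) {p q : ℕ}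
    [hp : Fact p.Prime] [hq : Fact q.Prime] (hpτ : p ∈ tau1 M) (hqσ : q ∈ sigma M)
    (hPc : Nat.card P = p) (hPM : P ≤ M) (hRH : R ≤ H) (hQM : Q ≤ M) (hQP : Q ≤ centralizer (P : Set G))
    (hQq : IsPGroup q Q) (hQ1 : Q ≠ ⊥) (hQR : ⁅Q, R⁆ = Q) (hNH : normalizer (P : Set G) ≤ H) (hpH : p ∉ sigma H) :
    False := by
  classical
  have hpq : p ≠ q := fun h => hpτ.2.1 (h ▸ hqσ)
  have hCH : centralizer (P : Set G) ≤ H := (BGTrans.centralizer_le_normalizer P).trans hNH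
  have hQH : Q ≤ H := hQP.trans hCH
  have hPH : P ≤ H := Subgroup.le_normalizer.trans hNH
  have hτ : p ∈ tau2 H := tau2_of_not_sigma hG hH hpH hPc hPH hNH
  obtain ⟨A, hAH, hAe, hAc⟩ := exists_ea2 hτ.2.2.2
  have T : T2 H A p := T2.mk' hG hH hτ hAH hAe hAc
  have hqH : q ∉ sigma H := not_sigma_of_T2 T hM hqσ hpτ.2.2.2.2
  have hcore := le_coreOf_of_comm' hG hH.1 hpq T.rank2 T.dvdM hRH hQH hQq hQR
  obtain ⟨v, hv, hQv⟩ := exists_conj_cent T hqH hcore hQq
  obtain ⟨x, hxQ, hxo⟩ := exists_mem_order_p hQq hQ1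
  have hXQ : zpowers x ≤ Q := zpowers_le.mpr hxQ
  refine no_ea_cent hG hM hpτ hqσ (X := zpowers x) (by rw [Nat.card_zpowers, hxo]) (hXQ.trans hQM) hPc hPM ?_ hH hNH
    hqH (Cfsg.Agent.S1422.ea_cj hAe v) (by rw [card_cj, hAc]) ?_
  · rw [Subgroup.le_centralizer_iff]
    exact hXQ.trans hQP
  · rw [Subgroup.le_centralizer_iff]
    exact hXQ.trans hQv

/-- The case `p ∈ σ(H)`, `q ∉ σ(H)` is impossible. -/
theorem caseB (hG : IsMinSimpleOddOrder G) {M H P R Q : Subgroup G} (hM : IsCoatom M) (hH : IsCoatom H) (hne : H ≠ M)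
    {p q r : ℕ} [hp : Fact p.Prime] [hq : Fact q.Prime] [hr : Fact r.Prime] (hpτ : p ∈ tau1 M) (hqσ : q ∈ sigma M)
    (hpr : p ≠ r) (hqr : q ≠ r) (hPc : Nat.card P = p) (hPM : P ≤ M) (hRc : Nat.card R = r)
    (hRP : R ≤ centralizer (P : Set G)) (hQM : Q ≤ M) (hQP : Q ≤ centralizer (P : Set G))
    (hQq : IsPGroup q Q) (hQ1 : Q ≠ ⊥) (hQR : ⁅Q, R⁆ = Q) (hRN : R ≤ normalizer (Q : Set G))
    (hNH : normalizer (P : Set G) ≤ H) (hpH : p ∈ sigma H) (hqH : q ∉ sigma H) (hrH : r ∉ sigma H) : False := by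
  classical
  have hpq : p ≠ q := fun h => hpτ.2.1 (h ▸ hqσ)
  have hP1 : P ≠ ⊥ := by
    intro h
    rw [h, Subgroup.card_bot] at hPc
    exact hp.out.one_lt.ne hPc
  have hPp : IsPGroup p P := IsPGroup.of_card (n := 1) (by rw [hPc, pow_one])
  have hRp : IsPGroup r R := IsPGroup.of_card (n := 1) (by rw [hRc, pow_one])
  have hCH : centralizer (P : Set G) ≤ H := (BGTrans.centralizer_le_normalizer P).trans hNH
  have hQH : Q ≤ H := hQP.trans hCH
  have hRH : R ≤ H := hRP.trans hCH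
  have hPH : P ≤ H := Subgroup.le_normalizer.trans hNH
  have hPσ : P ≤ sigmaCore H := le_sigmaCore_of_pgroup hG hH hpH hPH hPp
  obtain ⟨x, hxQ, hxo⟩ := exists_mem_order_p hQq hQ1
  obtain ⟨y, hyP, hyo⟩ := exists_mem_order_p hPp hP1
  have hx1 : x ≠ 1 := ne_one_of_order hq.out hxo
  have hy1 : y ≠ 1 := ne_one_of_order hp.out hyo
  have hxy : x * y = y * x := (Subgroup.mem_centralizer_iff.mp (hQP hxQ) y hyP).symm
  have hqr1 := rank_q_of_fix hG hM hH hne hqσ hqH (hQM hxQ) (hQH hxQ) hxo (hPσ hyP) (hPM hyP) hy1 hxy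
  have hQc : IsCyclic Q := isCyclic_of_rank_one hG hQH hQq hqr1
  set X : Subgroup G := zpowers x with hX
  have hXc : Nat.card X = q := by rw [hX, Nat.card_zpowers, hxo]
  have hXq : IsPGroup q X := IsPGroup.of_card (n := 1) (by rw [hXc, pow_one])
  have hXQ : X ≤ Q := zpowers_le.mpr hxQ
  have hXH : X ≤ H := hXQ.trans hQH
  have hXM : X ≤ M := hXQ.trans hQM
  have hRX : R ≤ normalizer (X : Set G) := hRN.trans (normalizer_le_of_cyclic hQc hXc hXQ)
  have hnc : ¬ R ≤ centralizer (X : Set G) := by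
    intro h
    apply hQ1
    rw [← hQR, Subgroup.commutator_eq_bot_iff_le_centralizer]
    intro c hc
    rw [Subgroup.mem_centralizer_iff]
    intro ρ hρ
    have hρr : ρ ^ r ^ 1 = 1 := by
      have h1 : (⟨ρ, hρ⟩ : R) ^ Nat.card R = 1 := pow_card_eq_one'
      rw [hRc] at h1
      rw [pow_one]
      simpa [Subtype.ext_iff] using h1
    have hfix : ρ * x * ρ⁻¹ = x := by
      have h1 := Subgroup.mem_centralizer_iff.mp (h hρ) x (mem_zpowers x)
      rw [← h1]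
      group
    have h2 := centralizes_cyclic_of_fix hqr.symm hQc hQq (hRN hρ) hρr hxQ hx1 hfix hc
    calc ρ * c = (ρ * c * ρ⁻¹) * ρ := by group
      _ = c * ρ := by rw [h2]
  have hr1 := rank_r_of_move hG hH hqH hrH hqr hXq hXH hRc hRH hRX hnc
  -- an invariant Sylow subgroup
  have hA₀N : X ⊔ R ≤ normalizer (sigmaCore H : Set G) := (sup_le hXH hRH).trans le_normalizer_sigmaCore
  have hcop : (Nat.card (sigmaCore H)).Coprime (Nat.card ↥(X ⊔ R)) := coprime_of_primes (fun u hu h1 h2 => by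
    have h3 := primes_sigmaCore u hu h1
    rcases primes_sup hRX hu h2 with h4 | h4
    · rw [eq_prime_of_dvd_pgroup hXq hu h4] at h3
      exact hqH h3
    · rw [eq_prime_of_dvd_pgroup hRp hu h4] at h3
      exact hrH h3)
  have hXP : X ≤ centralizer (P : Set G) := hXQ.trans hQP
  have hA₀P : X ⊔ R ≤ normalizer (P : Set G) :=
    sup_le (hXP.trans (BGTrans.centralizer_le_normalizer P)) (hRP.trans (BGTrans.centralizer_le_normalizer P))
  obtain ⟨V, hV, hVN, hPV⟩ := exists_invariant_isSylowIn_ge p (solvable_of_le_coatom hG hH sigmaCore_le) hA₀N hcop hPσ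
    hPp hA₀P
  have hVt := isSylowIn_top_of_sigma hpH (Cfsg.Agent.Lib.BGTau3.isSylowIn_of_sigmaCore hG hH hpH hV)
  have hVX' : X ≤ normalizer (V : Set G) := le_sup_left.trans hVN
  have hVR : R ≤ normalizer (V : Set G) := le_sup_right.trans hVN
  have hVH : V ≤ H := hV.1.trans sigmaCore_le
  have hPX : P ≤ centralizer (X : Set G) := by
    rw [Subgroup.le_centralizer_iff]
    exact hXP
  have hc1 : IsCyclic ↥(V ⊓ centralizer (X : Set G)) := by
    rcases cyclic_or_ea hG (hV.2.1.to_le (inf_le_left : V ⊓ centralizer (X : Set G) ≤ V)) with h | ⟨A, hAle, hAe, hAc⟩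
    · exact h
    · exact (no_ea_cent hG hM hpτ hqσ hXc hXM hPc hPM hPX hH hNH hqH hAe hAc (hAle.trans inf_le_right)).elim
  have hVX : V ≤ centralizer (X : Set G) := by
    rcases cyclic_or_ea hG (hV.2.1.to_le (inf_le_left : V ⊓ centralizer (R : Set G) ≤ V)) with hc2 | ⟨A, hAle, hAe, hAc⟩
    · have hd : p ∣ Nat.card G := by
        rw [← hPc]
        exact Subgroup.card_subgroup_dvd_card P
      refine frob_pgroup (Cfsg.Agent.Lib.BGUniq2.prime_ne_two_of_dvd hG hd) hpq.symm hpr.symm hV.2.1 hXq hRp hVX' hVR hRX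
        ?_ (hPV hyP) hy1 (hPX hyP) ?_ hc1 hc2
      · intro c hc hc1' u hu huc
        by_contra hu1
        apply hnc
        have hz : zpowers u = zpowers x :=
          Cfsg.Agent.Lib.BGTau7.zpowers_eq_of_mem (pow_order_eq_one hxo) hu1 hu
        have hR_z : R = zpowers c := eq_zpowers_of_prime (by rw [hRc]; exact hr.out) hc hc1'
        rw [hR_z]
        apply zpowers_le.mpr
        rw [hX, ← hz, cz_zpowers, mem_cz]
        exact huc
      · rw [Subgroup.mem_centralizer_iff]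
        intro ρ hρ
        exact (Subgroup.mem_centralizer_iff.mp (hRP hρ) y hyP).symm
    · have hAV : A ≤ V := hAle.trans inf_le_left
      have hAR : A ≤ centralizer (R : Set G) := hAle.trans inf_le_right
      have hΓ := not_gamma_of_ea_cent hG hH hpH hrH hpr hr1 hRc hRH (hAV.trans hVH) hAe hAc hAR
      obtain ⟨hpβ, -⟩ := facts_of_not_gamma hG hH hpH hΓ
      have hQD : Q ≤ ⁅H, H⁆ := by
        have h1 : ⁅Q, R⁆ ≤ ⁅H, H⁆ := Subgroup.commutator_mono hQH hRH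
        rwa [hQR] at h1
      rw [Subgroup.le_centralizer_iff]
      intro w hw
      exact cent_of_comm hG hH hpβ hVH hV.2.1 (hQD (hXQ hw))
        (coprime_orderOf_of_pgroup hXq hw hp.out hpq.symm) (hVX' hw)
  have hVc : IsCyclic V := by
    have h1 : V ⊓ centralizer (X : Set G) = V := inf_eq_left.mpr hVX
    rwa [h1] at hc1
  exact caseB_final hG hM hH hpτ hqσ hqH hPc hPM hPV hNH hXc hXM hqr1 hVt hVc hVX

/-- Both primes lie in `σ(H)`. -/
theorem sigma_both (hG : IsMinSimpleOddOrder G) {M H P R Q : Subgroup G} (hM : IsCoatom M) (hH : IsCoatom H)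
    {p q r : ℕ} [hp : Fact p.Prime] [hq : Fact q.Prime] [hr : Fact r.Prime] (hpτ : p ∈ tau1 M) (hqσ : q ∈ sigma M)
    (hpr : p ≠ r) (hqr : q ≠ r) (hPc : Nat.card P = p) (hPM : P ≤ M) (hRc : Nat.card R = r)
    (hRP : R ≤ centralizer (P : Set G)) (hQM : Q ≤ M) (hQP : Q ≤ centralizer (P : Set G))
    (hQq : IsPGroup q Q) (hQ1 : Q ≠ ⊥) (hQR : ⁅Q, R⁆ = Q) (hRN : R ≤ normalizer (Q : Set G))
    (hNH : normalizer (P : Set G) ≤ H) : p ∈ sigma H ∧ q ∈ sigma H := by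
  classical
  have hne : H ≠ M := ne_of_tau1 hG hpτ hPc hPM hNH
  have hCH : centralizer (P : Set G) ≤ H := (BGTrans.centralizer_le_normalizer P).trans hNH
  have hQH : Q ≤ H := hQP.trans hCH
  have hRH : R ≤ H := hRP.trans hCH
  have hRp : IsPGroup r R := IsPGroup.of_card (n := 1) (by rw [hRc, pow_one])
  have hrH : r ∉ sigma H := not_sigma_of_comm hG hM hH hne hqr.symm hqσ hQM hQq hQ1 hQR hRp hRH hQH
  have hpH : p ∈ sigma H := by
    by_contra h
    exact caseA hG hM hH hpτ hqσ hPc hPM hRH hQM hQP hQq hQ1 hQR hNH h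
  refine ⟨hpH, ?_⟩
  by_contra h
  exact caseB hG hM hH hne hpτ hqσ hpr hqr hPc hPM hRc hRP hQM hQP hQq hQ1 hQR hRN hNH hpH h hrH

/-- In the remaining case, `P` centralizes every Sylow `q`-subgroup of `M` it normalizes. -/
theorem comm_of_both (hG : IsMinSimpleOddOrder G) {M H P S : Subgroup G} (hM : IsCoatom M) (hH : IsCoatom H) {p q : ℕ}
    [hp : Fact p.Prime] [hq : Fact q.Prime] (hpM : p ∉ sigma M) (hpH : p ∈ sigma H) (hqM : q ∈ sigma M)
    (hqH : q ∈ sigma H) (hS : IsSylowIn q S M) (hPp : IsPGroup p P) (hPN : P ≤ normalizer (S : Set G)) :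
    P ≤ centralizer (S : Set G) := by
  classical
  have hSt := isSylowIn_top_of_sigma hqM hS
  obtain ⟨T, hT⟩ := exists_isSylowIn q H
  have hTt := isSylowIn_top_of_sigma hqH hT
  obtain ⟨c, -, hc⟩ := hTt.exists_conj hSt
  set U : Subgroup G := cj H c with hU
  have hUc : IsCoatom U := BGUniq3.isCoatom_cj hH c
  have hSU : S ≤ U := by
    rw [hc]
    exact cj_mono hT.1 c
  have hqU : q ∈ sigma U := sigma_cj hqH c
  have hpU : p ∈ sigma U := sigma_cj hpH c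
  have hne : ∀ g : G, U ≠ cj M g := fun g h => hpM (sigma_of_conj h hpU)
  obtain ⟨-, hΓ⟩ := not_gamma_of_not_conj hM hUc hqM hqU hne
  obtain ⟨-, hd⟩ := facts_of_not_gamma hG hUc hqU hΓ
  have hSσ : S ≤ sigmaCore U := le_sigmaCore_of_pgroup hG hUc hqU hSU hS.2.1
  have hSsy : IsSylowIn q S U := ⟨hSU, hS.2.1, fun R _ hRq hle => hSt.2.2 R le_top hRq hle⟩
  have hPU : P ≤ U := hPN.trans (normalizer_le_of_sigma hqU hSsy)
  have hPσ : P ≤ sigmaCore U := le_sigmaCore_of_pgroup hG hUc hpU hPU hPp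
  intro ξ hξ
  rw [Subgroup.mem_centralizer_iff]
  intro s hs
  exact (comm_of_no_derived hSσ hS.2.1 hd (hPσ hξ) (hPN hξ) hs).symm

/-- The case where `R` acts without fixed points on `S` is impossible. -/
theorem case_fpf (hG : IsMinSimpleOddOrder G) {M H P R S : Subgroup G} (hM : IsCoatom M) (hH : IsCoatom H) {p q r : ℕ}
    [hp : Fact p.Prime] [hq : Fact q.Prime] [hr : Fact r.Prime] (hpτ : p ∈ tau1 M) (hqσ : q ∈ sigma M)
    (hpH : p ∈ sigma H) (hqH : q ∈ sigma H) (hrH : r ∉ sigma H) (hpr : p ≠ r) (hqr : q ≠ r) (hqβ : q ∉ beta H)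
    (hr1 : PRankLE r 1 H) (hPc : Nat.card P = p) (hPH : P ≤ H) (hRc : Nat.card R = r) (hRH : R ≤ H)
    (hRP : R ≤ centralizer (P : Set G)) (hS : IsSylowIn q S M) (hSH : S ≤ H) (hSP : S ≤ centralizer (P : Set G))
    (hRS : R ≤ normalizer (S : Set G))
    (hfpf : ∀ c ∈ R, c ≠ 1 → ∀ x ∈ S, x * c = c * x → x = 1) : False := by
  classical
  have hpq : p ≠ q := fun h => hpτ.2.1 (h ▸ hqσ)
  have hP1 : P ≠ ⊥ := by
    intro h
    rw [h, Subgroup.card_bot] at hPc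
    exact hp.out.one_lt.ne hPc
  have hPp : IsPGroup p P := IsPGroup.of_card (n := 1) (by rw [hPc, pow_one])
  have hRp : IsPGroup r R := IsPGroup.of_card (n := 1) (by rw [hRc, pow_one])
  have hSp : IsPGroup q S := hS.2.1
  obtain ⟨K, hKle, hHK, hKc, hKq, hKidx⟩ := exists_q_compl hG hH hqβ hqH
  have hPσ : P ≤ sigmaCore H := le_sigmaCore_of_pgroup hG hH hpH hPH hPp
  have hPK : P ≤ K := by
    intro u hu
    exact hKq u (hPσ hu) (coprime_orderOf_of_pgroup hPp hu hq.out hpq)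
  have hA₀N : S ⊔ R ≤ normalizer (K : Set G) := (sup_le hSH hRH).trans hHK
  have hcop : (Nat.card K).Coprime (Nat.card ↥(S ⊔ R)) := coprime_of_primes (fun u hu h1 h2 => by
    rcases primes_sup hRS hu h2 with h4 | h4
    · rw [eq_prime_of_dvd_pgroup hSp hu h4] at h1
      exact (Nat.Prime.coprime_iff_not_dvd hq.out).mp hKc.symm h1
    · rw [eq_prime_of_dvd_pgroup hRp hu h4] at h1
      exact hrH (primes_sigmaCore r hr.out (h1.trans (Subgroup.card_dvd_of_le hKle))))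
  have hA₀P : S ⊔ R ≤ normalizer (P : Set G) :=
    sup_le (hSP.trans (BGTrans.centralizer_le_normalizer P)) (hRP.trans (BGTrans.centralizer_le_normalizer P))
  obtain ⟨V, hV, hVN, hPV⟩ := exists_invariant_isSylowIn_ge p
    (solvable_of_le_coatom hG hH (hKle.trans sigmaCore_le)) hA₀N hcop hPK hPp hA₀P
  have hV₂ : IsSylowIn p V (sigmaCore H) := isSylowIn_of_hall hV hKle (hKidx p hp.out hpq)
  have hVt := isSylowIn_top_of_sigma hpH (Cfsg.Agent.Lib.BGTau3.isSylowIn_of_sigmaCore hG hH hpH hV₂)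
  have hVH : V ≤ H := hV₂.1.trans sigmaCore_le
  have hVS : S ≤ normalizer (V : Set G) := le_sup_left.trans hVN
  have hVR : R ≤ normalizer (V : Set G) := le_sup_right.trans hVN
  have hV1 : V ≠ ⊥ := by
    rintro rfl
    exact hP1 (le_bot_iff.mp hPV)
  have hN := normalizer_le_of_sigma hqσ hS
  have hc1 : IsCyclic ↥(V ⊓ centralizer (S : Set G)) := by
    refine isCyclic_of_rank_one hG ?_ (hV.2.1.to_le inf_le_left) hpτ.2.2.2.2
    exact inf_le_right.trans ((BGTrans.centralizer_le_normalizer S).trans hN)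
  have hc2 : IsCyclic ↥(V ⊓ centralizer (R : Set G)) := by
    rcases cyclic_or_ea hG (hV.2.1.to_le (inf_le_left : V ⊓ centralizer (R : Set G) ≤ V)) with hc2 | ⟨A, hAle, hAe, hAc⟩
    · exact hc2
    · have hAV : A ≤ V := hAle.trans inf_le_left
      have hAR : A ≤ centralizer (R : Set G) := hAle.trans inf_le_right
      have hΓ := not_gamma_of_ea_cent hG hH hpH hrH hpr hr1 hRc hRH (hAV.trans hVH) hAe hAc hAR
      obtain ⟨hpβ, -⟩ := facts_of_not_gamma hG hH hpH hΓ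
      exact (xi2 hG hM hH hpτ.2.2.2.1 hqσ hpH hqH hpq hqβ hpβ).elim
  have hd : p ∣ Nat.card G := by
    rw [← hPc]
    exact Subgroup.card_subgroup_dvd_card P
  obtain ⟨y, hyP, hyo⟩ := exists_mem_order_p hPp hP1
  have hy1 : y ≠ 1 := ne_one_of_order hp.out hyo
  have hPS : P ≤ centralizer (S : Set G) := by
    rw [Subgroup.le_centralizer_iff]
    exact hSP
  have hVC := frob_pgroup (Cfsg.Agent.Lib.BGUniq2.prime_ne_two_of_dvd hG hd) hpq.symm hpr.symm hV.2.1 hSp hRp hVS hVR hRS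
    hfpf (hPV hyP) hy1 (hPS hyP) (by
      rw [Subgroup.mem_centralizer_iff]
      intro ρ hρ
      exact (Subgroup.mem_centralizer_iff.mp (hRP hρ) y hyP).symm) hc1 hc2
  have hSC : S ≤ centralizer (V : Set G) := by
    rw [Subgroup.le_centralizer_iff]
    exact hVC
  exact xi hG hM hpτ.2.2.2.1 hqσ hVt hV1 (isSylowIn_top_of_sigma hqσ hS) hSC

/-- The configuration of a failure of the prime action lemma does not exist. -/
theorem no_failure (hG : IsMinSimpleOddOrder G) {M P R Q : Subgroup G} (hM : IsCoatom M) {p q r : ℕ}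
    [hp : Fact p.Prime] [hq : Fact q.Prime] [hr : Fact r.Prime] (hpτ : p ∈ tau1 M) (hqσ : q ∈ sigma M)
    (hrσ : r ∉ sigma M) (hpr : p ≠ r) (hqr : q ≠ r) (hPc : Nat.card P = p) (hPM : P ≤ M) (hRc : Nat.card R = r)
    (hRM : R ≤ M) (hRP : R ≤ centralizer (P : Set G)) (hQσ : Q ≤ sigmaCore M) (hQP : Q ≤ centralizer (P : Set G))
    (hQq : IsPGroup q Q) (hQ1 : Q ≠ ⊥) (hQR : ⁅Q, R⁆ = Q) (hRN : R ≤ normalizer (Q : Set G)) : False := by
  classical
  have hpq : p ≠ q := fun h => hpτ.2.1 (h ▸ hqσ)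
  have hP1 : P ≠ ⊥ := by
    intro h
    rw [h, Subgroup.card_bot] at hPc
    exact hp.out.one_lt.ne hPc
  have hPp : IsPGroup p P := IsPGroup.of_card (n := 1) (by rw [hPc, pow_one])
  have hRp : IsPGroup r R := IsPGroup.of_card (n := 1) (by rw [hRc, pow_one])
  have hQM : Q ≤ M := hQσ.trans sigmaCore_le
  have hRNP : R ≤ normalizer (P : Set G) := hRP.trans (BGTrans.centralizer_le_normalizer P)
  have hprimes : ∀ u : ℕ, u.Prime → u ∣ Nat.card ↥(P ⊔ R) → u ∉ sigma M := by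
    intro u hu hd
    rcases primes_sup hRNP hu hd with h4 | h4
    · rw [eq_prime_of_dvd_pgroup hPp hu h4]
      exact hpτ.2.1
    · rw [eq_prime_of_dvd_pgroup hRp hu h4]
      exact hrσ
  -- the invariant Sylow subgroup
  have hA₀N : P ⊔ R ≤ normalizer (sigmaCore M : Set G) := (sup_le hPM hRM).trans le_normalizer_sigmaCore
  have hcop : (Nat.card (sigmaCore M)).Coprime (Nat.card ↥(P ⊔ R)) := coprime_of_primes (fun u hu h1 h2 =>
    hprimes u hu h2 (primes_sigmaCore u hu h1))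
  have hPQ : P ≤ centralizer (Q : Set G) := by
    rw [Subgroup.le_centralizer_iff]
    exact hQP
  have hA₀Q : P ⊔ R ≤ normalizer (Q : Set G) :=
    sup_le (hPQ.trans (BGTrans.centralizer_le_normalizer Q)) hRN
  obtain ⟨S, hS, hSN, hQS⟩ := exists_invariant_isSylowIn_ge q (solvable_of_le_coatom hG hM sigmaCore_le) hA₀N hcop hQσ
    hQq hA₀Q
  have hSM : IsSylowIn q S M := Cfsg.Agent.Lib.BGTau3.isSylowIn_of_sigmaCore hG hM hqσ hS
  have hPN : P ≤ normalizer (S : Set G) := le_sup_left.trans hSN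
  have hRS : R ≤ normalizer (S : Set G) := le_sup_right.trans hSN
  obtain ⟨E₀, hE₀, hYE, hET⟩ := exists_compl_ge_in hG hM (T := M ⊓ normalizer (S : Set G)) inf_le_left
    (fun m hm => frattini_sigma hS hm) (Y := P ⊔ R) (le_inf (sup_le hPM hRM) hSN) hprimes
  have hE₀N : E₀ ≤ normalizer (S : Set G) := hET.trans inf_le_right
  have hRE : R ≤ E₀ := le_sup_right.trans hYE
  -- the maximal subgroup
  obtain ⟨H, hH, hNH⟩ := BGSigma2.exists_coatom_ge (IsMin.normalizer_ne_top hG hP1 (IsMin.isPGroup_ne_top hG hPp))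
  obtain ⟨hpH, hqH⟩ := sigma_both hG hM hH hpτ hqσ hpr hqr hPc hPM hRc hRP hQM hQP hQq hQ1 hQR hRN hNH
  have hne : H ≠ M := ne_of_tau1 hG hpτ hPc hPM hNH
  have hnc : ∀ g : G, H ≠ cj M g := fun g h => hpτ.2.1 (sigma_of_conj h hpH)
  obtain ⟨hΓM, hΓH⟩ := not_gamma_of_not_conj hM hH hqσ hqH hnc
  obtain ⟨hqβM, hdM⟩ := facts_of_not_gamma hG hM hqσ hΓM
  obtain ⟨hqβH, -⟩ := facts_of_not_gamma hG hH hqH hΓH
  have hPS : P ≤ centralizer (S : Set G) := comm_of_both hG hM hH hpτ.2.1 hpH hqσ hqH hSM hPp hPN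
  have hSP : S ≤ centralizer (P : Set G) := by
    rw [Subgroup.le_centralizer_iff]
    exact hPS
  have hCH : centralizer (P : Set G) ≤ H := (BGTrans.centralizer_le_normalizer P).trans hNH
  have hSH : S ≤ H := hSP.trans hCH
  have hRH : R ≤ H := hRP.trans hCH
  have hPH : P ≤ H := Subgroup.le_normalizer.trans hNH
  have hrH : r ∉ sigma H := not_sigma_of_comm hG hM hH hne hqr.symm hqσ hQM hQq hQ1 hQR hRp hRH (hQP.trans hCH)
  have hSt := isSylowIn_top_of_sigma hqσ hSM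
  have hSHs : IsSylowIn q S H := ⟨hSH, hS.2.1, fun T _ hTq hle => hSt.2.2 T le_top hTq hle⟩
  have hSσH : IsSylowIn q S (sigmaCore H) :=
    ⟨le_sigmaCore_of_pgroup hG hH hqH hSH hS.2.1, hS.2.1, fun T _ hTq hle => hSt.2.2 T le_top hTq hle⟩
  have hNSM : normalizer (S : Set G) ≤ M := normalizer_le_of_sigma hqσ hSM
  have hNSH : normalizer (S : Set G) ≤ H := normalizer_le_of_sigma hqH hSHs
  have hnilH : ¬ Group.IsNilpotent (sigmaCore H) := by
    intro hN
    have h1 : H ≤ M := (le_normalizer_of_nilpotent hSσH hN).trans hNSM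
    exact hne ((hH.le_iff.mp h1).resolve_left hM.1).symm
  have hnilM : ¬ Group.IsNilpotent (sigmaCore M) := by
    intro hN
    have h1 : M ≤ H := (le_normalizer_of_nilpotent hS hN).trans hNSH
    exact hne ((hM.le_iff.mp h1).resolve_left hH.1)
  have hr1 : PRankLE r 1 H := by
    by_contra h
    have hτ : r ∈ tau2 H := ⟨hr.out, hrH, rank2_of_not_sigma hG hH hr.out hrH, h⟩
    obtain ⟨A, hAH, hAe, hAc⟩ := exists_ea2 h
    exact hnilH (T2.mk' hG hH hτ hAH hAe hAc).nilpotent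
  have hτ₂ : ∀ (ℓ : ℕ) [Fact ℓ.Prime], ℓ ∉ tau2 M := by
    intro ℓ _ h
    obtain ⟨A, hAH, hAe, hAc⟩ := exists_ea2 h.2.2.2
    exact hnilM (T2.mk' hG hM h hAH hAe hAc).nilpotent
  have hRQ : ¬ R ≤ centralizer (S : Set G) := by
    intro h
    apply hQ1
    rw [← hQR, Subgroup.commutator_eq_bot_iff_le_centralizer, Subgroup.le_centralizer_iff]
    exact h.trans (Subgroup.centralizer_le hQS)
  by_cases hfix : ∃ y₁ ∈ S, y₁ ≠ 1 ∧ R ≤ centralizer ({y₁} : Set G)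
  swap
  · -- `R` acts without fixed points
    refine case_fpf hG hM hH hpτ hqσ hpH hqH hrH hpr hqr hqβH hr1 hPc hPH hRc hRH hRP hSM hSH hSP hRS ?_
    intro c hc hc1 x hx hxc
    by_contra hx1
    apply hfix
    refine ⟨x, hx, hx1, ?_⟩
    rw [eq_zpowers_of_prime (R := R) (by rw [hRc]; exact hr.out) hc hc1]
    apply zpowers_le.mpr
    rw [mem_cz]
    exact hxc
  obtain ⟨y₁, hy₁S, hy₁1, hy₁R⟩ := hfix
  have hy₁σ : y₁ ∈ sigmaCore M := hS.1 hy₁S
  -- `r ∈ τ₁(M)`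
  have hrτ : r ∈ tau1 M := by
    have hrd : r ∣ Nat.card M := by
      rw [← hRc]
      exact Subgroup.card_dvd_of_le hRM
    rcases tau_cases hG hM hr.out hrσ hrd with h | h | h
    · exact h
    · exact (hτ₂ r h).elim
    · exfalso
      apply hRQ
      intro x hx
      have hxE : x ∈ E₀ := hRE hx
      have hxk : x ^ r ^ 1 = 1 := by
        have h1 : (⟨x, hx⟩ : R) ^ Nat.card R = 1 := pow_card_eq_one'
        rw [hRc] at h1
        rw [pow_one]
        simpa [Subtype.ext_iff] using h1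
      have hD := mem_comm_of_tau3 hG hM hE₀ h hxE hxk
      exact cent_of_comm hG hM hqβM hSM.1 hS.2.1 (Subgroup.commutator_mono hE₀.1 hE₀.1 hD)
        (coprime_orderOf_of_pgroup hRp hx hq.out hqr.symm) (hRS hx)
  -- `E₀` moves `y₁`
  have hEy : ¬ E₀ ≤ centralizer ({y₁} : Set G) := by
    intro h
    have h1 := (Cfsg.Agent.S1426.result hG M hM E₀ hE₀).1
    have h2 : y₁ ∈ sigmaCore M ⊓ centralizer (E₀ : Set G) := by
      refine Subgroup.mem_inf.mpr ⟨hy₁σ, ?_⟩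
      rw [Subgroup.mem_centralizer_iff]
      intro e he
      exact (mem_cz.mp (h he)).symm
    obtain ⟨n, hn⟩ := exists_pow_order hS.2.1 hy₁S hy₁1
    exact hdM (y₁ ^ n) (pow_mem (sigmaCore_le hy₁σ) n) hn (pow_mem (h1 h2) n)
  obtain ⟨ℓ, hℓf, hℓT⟩ : ∃ (ℓ : ℕ) (_ : Fact ℓ.Prime), ∀ T : Subgroup G, IsSylowIn ℓ T E₀ →
      ¬ T ≤ centralizer ({y₁} : Set G) := by
    by_contra hcon
    push Not at hcon
    refine hEy (le_of_sylow_le (fun ℓ hℓ => ?_))
    obtain ⟨T, h1, h2⟩ := hcon ℓ hℓ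
    exact ⟨T, h1, h2⟩
  obtain ⟨T, hT⟩ := exists_isSylowIn ℓ E₀
  have hTn := hℓT T hT
  have hℓd : ℓ ∣ Nat.card E₀ := by
    by_contra hnd
    apply hTn
    have hT1 : T = ⊥ := by
      by_contra hne'
      exact hnd ((Cfsg.Agent.Lib.BGUniq2.dvd_card_of_isPGroup hT.2.1 hne').trans (Subgroup.card_dvd_of_le hT.1))
    rw [hT1]
    exact bot_le
  have hℓσ : ℓ ∉ sigma M := Cfsg.Agent.Lib.BGTau7.not_sigma_of_compl hG hM hE₀ hℓf.out hℓd
  have hEs : Group.IsSolvable E₀ := solvable_of_le_coatom hG hM hE₀.1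
  have hder : ∀ w ∈ E₀, w ∈ ⁅E₀, E₀⁆ → w ∈ centralizer (S : Set G) := by
    intro w hw hwD
    refine cent_of_comm hG hM hqβM hSM.1 hS.2.1 (Subgroup.commutator_mono hE₀.1 hE₀.1 hwD) ?_ (hE₀N hw)
    apply Nat.Coprime.symm
    rw [Nat.Prime.coprime_iff_not_dvd hq.out]
    intro hd
    exact not_sigma_of_mem_compl hG hM hE₀ hw hq.out hd hqσ
  rcases tau_cases hG hM hℓf.out hℓσ (hℓd.trans (Subgroup.card_dvd_of_le hE₀.1)) with h1 | h2 | h3
  swap
  · exact (hτ₂ ℓ h2).elim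
  swap
  · -- `τ₃`
    apply hTn
    intro t ht
    have hD := tau3_le_commutator hG hM hE₀ h3 hT.1 hT.2.1 ht
    have h4 := hder t (hT.1 ht) hD
    rw [mem_cz]
    exact Subgroup.mem_centralizer_iff.mp h4 y₁ hy₁S
  -- `τ₁`
  obtain ⟨F, hF, hRF⟩ := exists_hall_ge (tau1 M) hEs hRE (fun u hu hd => by
    rw [eq_prime_of_dvd_pgroup hRp hu hd]
    exact hrτ)
  have hFc := tau1_cyclic hG hM hE₀ hF
  obtain ⟨e, he, heT⟩ := exists_conj_le_hall (tau1 M) hEs hF hT.1 (fun u hu hd => by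
    rw [eq_prime_of_dvd_pgroup hT.2.1 hu hd]
    exact h1)
  obtain ⟨t, htT, htm⟩ : ∃ t ∈ T, ¬ y₁ * t = t * y₁ := by
    by_contra hcon
    push Not at hcon
    exact hTn (fun t ht => mem_cz.mpr (hcon t ht))
  set t' : G := e * t * e⁻¹ with ht'
  have ht'cj : t' ∈ cj T e := conj_mem_cj htT
  have ht'F : t' ∈ F := heT ht'cj
  have htE : t ∈ E₀ := hT.1 htT
  have hdC : t' * t⁻¹ ∈ centralizer (S : Set G) := by
    apply hder _ (mul_mem (hF.1 ht'F) (inv_mem htE))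
    have := Subgroup.commutator_mem_commutator he htE
    simpa [commutatorElement_def, ht'] using this
  have ht'm : ¬ y₁ * t' = t' * y₁ := by
    intro h
    apply htm
    have hdy := Subgroup.mem_centralizer_iff.mp hdC y₁ hy₁S
    set d : G := t' * t⁻¹ with hd
    have ht2 : t' = d * t := by rw [hd]; group
    rw [ht2] at h
    have h5 : d * (y₁ * t) = d * (t * y₁) := by
      calc d * (y₁ * t) = (d * y₁) * t := by group
        _ = (y₁ * d) * t := by rw [hdy]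
        _ = y₁ * (d * t) := by group
        _ = (d * t) * y₁ := h
        _ = d * (t * y₁) := by group
    exact mul_left_cancel h5
  have ht'1 : t' ≠ 1 := by
    intro h
    apply ht'm
    rw [h]
    group
  have hZ : IsPGroup ℓ (zpowers t') := (hT.2.1.map _).to_le (zpowers_le.mpr ht'cj)
  obtain ⟨T₀, hT₀, hZT₀⟩ := exists_isSylowIn_ge ℓ (zpowers_le.mpr ht'F) hZ
  have hT₀E := isSylowIn_of_hall hT₀ hF.1 (hF.2.2 ℓ hℓf.out h1)
  have hT₀c : IsCyclic T₀ := isCyclic_of_rank_one hG (hT₀E.1.trans hE₀.1) hT₀.2.1 h1.2.2.2.2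
  have ht'T₀ : t' ∈ T₀ := hZT₀ (mem_zpowers t')
  have hT₀1 : T₀ ≠ ⊥ := by
    intro h
    rw [h] at ht'T₀
    exact ht'1 ht'T₀
  obtain ⟨z, hzT₀, hzo⟩ := exists_mem_order_p hT₀.2.1 hT₀1
  have hz1 : z ≠ 1 := ne_one_of_order hℓf.out hzo
  have hzF : z ∈ F := hT₀.1 hzT₀
  have hzE : z ∈ E₀ := hF.1 hzF
  have hzy : ¬ z * y₁ = y₁ * z := by
    intro h
    exact ht'm (F1el hG hM hE₀ hT₀E hT₀c hzT₀ hz1 hy₁σ h ht'T₀).symm
  have hzR : z ∈ centralizer (R : Set G) := by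
    rw [Subgroup.mem_centralizer_iff]
    intro ρ hρ
    exact comm_of_cyclic hFc (hRF hρ) hzF
  have hℓr : ℓ ≠ r := by
    intro h
    have hzo' : orderOf z = r := h ▸ hzo
    have h5 := eq_of_card_prime_of_cyclic (r := r) hFc (zpowers_le.mpr hzF) hRF
      (by rw [Nat.card_zpowers, hzo']) hRc
    have h6 : z ∈ R := h5 ▸ mem_zpowers z
    exact hzy (mem_cz.mp (hy₁R h6)).symm
  have hℓq : q ≠ ℓ := fun h => hℓσ (h ▸ hqσ)
  -- the new configuration
  set Q₂ : Subgroup G := S ⊓ centralizer (R : Set G) with hQ₂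
  have hQ₂q : IsPGroup q Q₂ := hS.2.1.to_le inf_le_left
  have hR'N : zpowers z ≤ normalizer (Q₂ : Set G) := by
    apply le_normalizer_inf
    · exact zpowers_le.mpr (hE₀N hzE)
    · exact zpowers_le.mpr (Subgroup.le_normalizer hzR)
  have hcop2 : (Nat.card (zpowers z)).Coprime (Nat.card Q₂) := by
    obtain ⟨k, hk⟩ := hQ₂q.exists_card_eq
    rw [Nat.card_zpowers, hzo, hk]
    exact Nat.Coprime.pow_right _ ((Nat.coprime_primes hℓf.out hq.out).mpr hℓq.symm)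
  have hzs : Group.IsSolvable (zpowers z) := inferInstance
  have hQ₁R : ⁅(⁅Q₂, zpowers z⁆ : Subgroup G), zpowers z⁆ = ⁅Q₂, zpowers z⁆ :=
    commutator_commutator_eq hR'N hcop2 (Or.inl hzs)
  have hQ₁le : (⁅Q₂, zpowers z⁆ : Subgroup G) ≤ Q₂ := commutator_le_of_le_normalizer hR'N
  have hy₁Q : y₁ ∈ Q₂ := by
    refine Subgroup.mem_inf.mpr ⟨hy₁S, ?_⟩
    rw [Subgroup.mem_centralizer_iff]
    intro ρ hρ
    exact (mem_cz.mp (hy₁R hρ)).symm
  have hQ₁1 : (⁅Q₂, zpowers z⁆ : Subgroup G) ≠ ⊥ := by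
    intro h
    rw [Subgroup.commutator_eq_bot_iff_le_centralizer] at h
    have h5 := h hy₁Q
    rw [cz_zpowers, mem_cz] at h5
    exact hzy h5
  have hQ₂S : Q₂ ≤ S := inf_le_left
  obtain ⟨H', hH', hNH'⟩ := BGSigma2.exists_coatom_ge
    (IsMin.normalizer_ne_top hG (show R ≠ ⊥ from fun h => by
      rw [h, Subgroup.card_bot] at hRc
      exact hr.out.one_lt.ne hRc) (IsMin.isPGroup_ne_top hG hRp))
  obtain ⟨hrH', hqH'⟩ := sigma_both hG hM hH' hrτ hqσ hℓr.symm hℓq hRc hRM (R := zpowers z) (r := ℓ)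
    (by rw [Nat.card_zpowers, hzo]) (zpowers_le.mpr hzR) (hQ₁le.trans (hQ₂S.trans hSM.1))
    (hQ₁le.trans inf_le_right) (hQ₂q.to_le hQ₁le) hQ₁1 hQ₁R (le_normalizer_commutator hR'N) hNH'
  exact hRQ (comm_of_both hG hM hH' hrσ hrH' hqσ hqH' hSM hRp hRS)

end Cfsg.Agent.Lib.BGP3I
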