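import Mathlib
import Cfsg.Agent.Lib.BGZA
import Cfsg.Agent.S1428

/-!
# Bender-Glauberman section 14: the unconditional context.
-/

set_option autoImplicit false
set_option linter.unusedSectionVars false
set_option linter.unusedVariables false

namespace Cfsg.Agent.Lib.BGCent

open Cfsg Subgroup

universe u

variable {G : Type u} [Group G] [Finite G]

/-- The context of the `BGK` chain, from the statement on `τ₁`. -/
theorem cx_of (hG : IsMinSimpleOddOrder G) : Cfsg.Agent.Lib.BGK0.Cx G :=
  ⟨hG, fun M hM E hE p hp P hPE hP R hRE hR => Cfsg.Agent.S1428.result hG M hM E hE p hp P hPE hP R hRE hR⟩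

/-- The results on `κ(M)`, unconditionally. -/
theorem kf_of (hG : IsMinSimpleOddOrder G) : KappaFacts G :=
  Cfsg.Agent.Lib.BGZA.kappaFacts (cx_of hG)

/-- The input package of the `BGZ` chain, unconditionally. -/
theorem inp_of (hG : IsMinSimpleOddOrder G) : Cfsg.Agent.Lib.BGZ1.Inp G :=
  Cfsg.Agent.Lib.BGZA.inp_of_cx (cx_of hG)

end Cfsg.Agent.Lib.BGCent
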