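import Mathlib
import Cfsg.Agent.Lib.H6F2
import Cfsg.Agent.Lib.BGTau15
import Cfsg.Agent.Lib.BGM2
import Cfsg.Agent.Lib.OddOrderCore
import Cfsg.Agent.Lib.BGFus2

/-!
# Quotients with fixed point free elements; invariant complements
-/

set_option autoImplicit false
set_option linter.unusedSectionVars false
set_option linter.unusedVariables false
set_option linter.style.haveILetI false
set_option linter.unusedSimpArgs false
set_option linter.unusedDecidableInType false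
set_option linter.unusedFintypeInType false

namespace Cfsg.Agent.Lib.H6F3

open Cfsg Subgroup Cfsg.Agent.Lib.BGFree3 Cfsg.Agent.Lib.Glauberman Cfsg.Agent.Lib.CoprimeInv Cfsg.Agent.Lib.H6F1
open Cfsg.Agent.Lib.H6F2 Cfsg.Agent.Lib.PCore

open scoped commutatorElement

universe u

variable {G : Type u} [Group G] [Finite G]

theorem nilpotent_of_two_normal {A B W : Subgroup G} (hAB : A ⊔ B = W)
    (hWA : W ≤ normalizer (A : Set G)) (hWB : W ≤ normalizer (B : Set G))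
    (hA : Group.IsNilpotent A) (hB : Group.IsNilpotent B) : Group.IsNilpotent W := by
  subst hAB
  have hAW : A ≤ A ⊔ B := le_sup_left
  have hBW : B ≤ A ⊔ B := le_sup_right
  have hA' : (A.subgroupOf (A ⊔ B)).Normal := (Subgroup.normal_subgroupOf_iff_le_normalizer hAW).mpr hWA
  have hB' : (B.subgroupOf (A ⊔ B)).Normal := (Subgroup.normal_subgroupOf_iff_le_normalizer hBW).mpr hWB
  have hAn : Group.IsNilpotent (A.subgroupOf (A ⊔ B)) := Group.nilpotent_of_mulEquiv (Subgroup.subgroupOfEquivOfLe hAW).symm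
  have hBn : Group.IsNilpotent (B.subgroupOf (A ⊔ B)) := Group.nilpotent_of_mulEquiv (Subgroup.subgroupOfEquivOfLe hBW).symm
  have h1 := le_fittingSubgroup hA' hAn
  have h2 := le_fittingSubgroup hB' hBn
  have htop : fittingSubgroup ↥(A ⊔ B) = ⊤ := by
    rw [eq_top_iff, ← subgroupOf_sup_eq_top]
    exact sup_le h1 h2
  have h3 : Group.IsNilpotent (fittingSubgroup ↥(A ⊔ B)) := isNilpotent_fittingSubgroup
  rw [htop] at h3
  exact Group.isNilpotent_top.mp h3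

/-- The quotient by a normal `q`-subgroup containing the fixed points of `x` is nilpotent. -/
theorem exists_sylow_of_quot {M W Y : Subgroup G} {q s : ℕ} [Fact q.Prime] [Fact s.Prime] {x : G}
    (hYW : Y ≤ W) (hWM : W ≤ M) (hxM : x ∈ M) (hxs : x ^ s = 1)
    (hMW : M ≤ normalizer (W : Set G)) (hMY : M ≤ normalizer (Y : Set G)) (hY : IsPGroup q Y)
    (hcop : (orderOf x).Coprime (Nat.card W)) (hfix : W ⊓ centralizer ({x} : Set G) ≤ Y)
    (hne : ¬ W ≤ Y) :
    ∃ Q : Subgroup G, Y ≤ Q ∧ IsSylowIn q Q W ∧ M ≤ normalizer (Q : Set G) ∧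
      ∀ D : Subgroup G, D ≤ W → D ⊓ Y = ⊥ → Group.IsNilpotent D := by
  classical
  have hYM : Y ≤ M := hYW.trans hWM
  let Y₁ : Subgroup ↥M := Y.subgroupOf M
  let W₁ : Subgroup ↥M := W.subgroupOf M
  haveI hY₁ : Y₁.Normal := (Subgroup.normal_subgroupOf_iff_le_normalizer hYM).mpr hMY
  haveI hW₁ : W₁.Normal := (Subgroup.normal_subgroupOf_iff_le_normalizer hWM).mpr hMW
  let π : ↥M →* ↥M ⧸ Y₁ := QuotientGroup.mk' Y₁
  have hπs : Function.Surjective π := QuotientGroup.mk'_surjective _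
  have hπ1 : ∀ a : ↥M, π a = 1 ↔ (a : G) ∈ Y := fun a => by
    show ((a : ↥M) : ↥M ⧸ Y₁) = 1 ↔ _
    rw [QuotientGroup.eq_one_iff]
    exact Subgroup.mem_subgroupOf
  let Wb : Subgroup (↥M ⧸ Y₁) := W₁.map π
  haveI hWb : Wb.Normal := hW₁.map π hπs
  let xb : ↥M ⧸ Y₁ := π ⟨x, hxM⟩
  have hxbn : xb ∈ normalizer (Wb : Set (↥M ⧸ Y₁)) := by
    rw [Subgroup.normalizer_eq_top]
    trivial
  have hxbs : xb ^ s = 1 := by
    show (π ⟨x, hxM⟩) ^ s = 1
    rw [← map_pow]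
    have h1 : (⟨x, hxM⟩ : ↥M) ^ s = 1 := Subtype.ext hxs
    rw [h1, map_one]
  have hne' : Wb ≠ ⊥ := by
    intro h
    apply hne
    intro a ha
    have h1 : π ⟨a, hWM ha⟩ ∈ Wb := ⟨⟨a, hWM ha⟩, ha, rfl⟩
    rw [h, Subgroup.mem_bot] at h1
    exact (hπ1 _).mp h1
  have hNW : W ≤ normalizer (Y : Set G) := hWM.trans hMY
  have hfree : Wb ⊓ centralizer ({xb} : Set (↥M ⧸ Y₁)) = ⊥ := by
    rw [eq_bot_iff]
    rintro _ ⟨⟨w, hw, rfl⟩, hc⟩
    have hc' : Commute xb (π w) := (Subgroup.mem_centralizer_singleton_iff.mp hc).symm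
    have hwW : (w : G) ∈ W := hw
    have hfixz : ∀ a ∈ zpowers x, a * (w : G) * a⁻¹ * (w : G)⁻¹ ∈ Y := by
      intro a ha
      obtain ⟨n, rfl⟩ := Subgroup.mem_zpowers_iff.mp ha
      have h1 : π ((⟨x, hxM⟩ : ↥M) ^ n * w * ((⟨x, hxM⟩ : ↥M) ^ n)⁻¹ * w⁻¹) = 1 := by
        rw [map_mul, map_mul, map_mul, map_inv, map_inv, map_zpow]
        have hcz : Commute ((π ⟨x, hxM⟩) ^ n) (π w) := Commute.zpow_left hc' n
        rw [hcz.eq]
        group
      exact (hπ1 _).mp h1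
    have hcop' : (Nat.card (zpowers x)).Coprime (Nat.card W) := by
      rw [Nat.card_zpowers]
      exact hcop
    have hzY : zpowers x ≤ normalizer (Y : Set G) := Subgroup.zpowers_le.mpr (hMY hxM)
    obtain ⟨c, hc1, hc2⟩ := exists_mem_centralizer_of_coset_fixed hcop'
      (Or.inl (by
        haveI : IsCyclic (zpowers x) := inferInstance
        infer_instance)) hYW hNW hzY (w : G) hwW hfixz
    have hcY : c ∈ Y := by
      apply hfix
      refine ⟨hc1.1, ?_⟩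
      refine Subgroup.centralizer_le ?_ hc1.2
      intro y hy
      rw [Set.mem_singleton_iff] at hy
      rw [hy]
      exact Subgroup.mem_zpowers x
    have hwY : (w : G) ∈ Y := by
      have e : (w : G) = c * ((w : G)⁻¹ * c)⁻¹ := by group
      rw [e]
      exact Y.mul_mem hcY (Y.inv_mem hc2)
    exact (hπ1 w).mpr hwY
  have hnil : Group.IsNilpotent Wb := Cfsg.Agent.Lib.BGTau7.nilpotent_of_fpf hxbn hxbs hne' hfree
  obtain ⟨Sb, hSb⟩ := exists_isSylowIn q Wb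
  have hSbn : ∀ g : ↥M ⧸ Y₁, ∀ a ∈ Sb, g * a * g⁻¹ ∈ Sb := by
    intro g a ha
    have h1 : cj Sb g ≤ Wb := by
      rintro _ ⟨b, hb, rfl⟩
      exact hWb.conj_mem b (hSb.1 hb) g
    have hp : IsPGroup q (cj Sb g) := hSb.2.1.map _
    exact Cfsg.Agent.Lib.BGM2.sylow_of_nilpotent_le hnil hSb h1 hp ⟨a, ha, rfl⟩
  haveI hSbN : Sb.Normal := ⟨fun a ha g => hSbn g a ha⟩
  let Q₁ : Subgroup ↥M := Sb.comap π
  haveI hQ₁N : Q₁.Normal := hSbN.comap π
  have hY₁p : IsPGroup q Y₁ := hY.of_injective (Subgroup.subgroupOfEquivOfLe hYM).toMonoidHom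
    (Subgroup.subgroupOfEquivOfLe hYM).injective
  have hker : IsPGroup q π.ker := by
    rw [QuotientGroup.ker_mk']
    exact hY₁p
  have hQ₁p : IsPGroup q Q₁ := hSb.2.1.comap_of_ker_isPGroup π hker
  have hQ₁W : ∀ a : ↥M, a ∈ Q₁ → (a : G) ∈ W := by
    intro a ha
    obtain ⟨w, hw, hwe⟩ := hSb.1 ha
    have h1 : π (w⁻¹ * a) = 1 := by
      rw [map_mul, map_inv, hwe, inv_mul_cancel]
    have h2 : ((w⁻¹ * a : ↥M) : G) ∈ Y := (hπ1 _).mp h1
    have h3 : ((w⁻¹ * a : ↥M) : G) ∈ W := hYW h2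
    have h4 : (a : G) = (w : G) * ((w⁻¹ * a : ↥M) : G) := by
      simp
    rw [h4]
    exact W.mul_mem hw h3
  refine ⟨Q₁.map M.subtype, ?_, ⟨?_, hQ₁p.map _, ?_⟩, ?_, ?_⟩
  · intro y hy
    refine ⟨⟨y, hYM hy⟩, ?_, rfl⟩
    show π ⟨y, hYM hy⟩ ∈ Sb
    rw [(hπ1 _).mpr hy]
    exact one_mem _
  · rintro _ ⟨a, ha, rfl⟩
    exact hQ₁W a ha
  · intro R hRW hRp hQR
    apply le_antisymm _ hQR
    have hRM : R ≤ M := hRW.trans hWM
    let R₁ : Subgroup ↥M := R.subgroupOf M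
    have hR₁p : IsPGroup q R₁ := hRp.of_injective (Subgroup.subgroupOfEquivOfLe hRM).toMonoidHom
      (Subgroup.subgroupOfEquivOfLe hRM).injective
    have h1 : R₁.map π ≤ Wb := Subgroup.map_mono (fun a ha => hRW ha)
    have h2 : Sb ≤ R₁.map π := by
      intro b hb
      obtain ⟨a, rfl⟩ := hπs b
      refine ⟨a, ?_, rfl⟩
      exact hQR ⟨a, hb, rfl⟩
    have h3 := hSb.2.2 _ h1 (hR₁p.map π) h2
    intro r hr
    have h4 : π ⟨r, hRM hr⟩ ∈ Sb := by
      rw [← h3]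
      exact ⟨⟨r, hRM hr⟩, hr, rfl⟩
    exact ⟨⟨r, hRM hr⟩, h4, rfl⟩
  · rw [Subgroup.le_normalizer_iff]
    rintro m hm _ ⟨a, ha, rfl⟩
    have h1 := hQ₁N.conj_mem a ha ⟨m, hm⟩
    exact ⟨_, h1, rfl⟩
  · intro D hDW hDY
    have hDM : D ≤ M := hDW.trans hWM
    let g : ↥D →* ↥M ⧸ Y₁ := π.comp (Subgroup.inclusion hDM)
    have hg : Function.Injective g := by
      rw [injective_iff_map_eq_one]
      intro d hd
      have h1 : ((Subgroup.inclusion hDM d : ↥M) : G) ∈ Y := (hπ1 _).mp hd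
      have h2 : (d : G) ∈ D ⊓ Y := ⟨d.2, h1⟩
      rw [hDY] at h2
      exact Subtype.ext h2
    have hr : g.range ≤ Wb := by
      rintro _ ⟨d, rfl⟩
      exact ⟨Subgroup.inclusion hDM d, hDW d.2, rfl⟩
    haveI : Group.IsNilpotent g.range := Cfsg.Agent.Lib.OddOrderCore.isNilpotent_of_le hr hnil
    exact Group.nilpotent_of_mulEquiv (MonoidHom.ofInjective hg).symm

/-- Existence of a complement of a normal Sylow subgroup in `W`. -/
theorem exists_compl_sylow {Q W : Subgroup G} {q : ℕ} [Fact q.Prime] (hS : IsSylowIn q Q W)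
    (hWQ : W ≤ normalizer (Q : Set G)) : ∃ D : Subgroup G, IsComplIn Q D W := by
  classical
  have hQW : Q ≤ W := hS.1
  let P : Sylow q ↥W := hS.toSylow
  have hPe : (P : Subgroup ↥W) = Q.subgroupOf W := rfl
  haveI hPn : (P : Subgroup ↥W).Normal := by
    rw [hPe]
    exact (Subgroup.normal_subgroupOf_iff_le_normalizer hQW).mpr hWQ
  obtain ⟨V, hV, -⟩ := Cfsg.Agent.Lib.BGFus2.exists_compl P
  have hnt : Subgroup.normalizer (((P : Subgroup ↥W) : Subgroup ↥W) : Set ↥W) = ⊤ :=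
    Subgroup.normalizer_eq_top_iff.mpr hPn
  rw [hnt] at hV
  refine ⟨V.map W.subtype, hQW, Subgroup.map_subtype_le _, ?_, ?_⟩
  · rw [eq_bot_iff]
    rintro x ⟨hx1, v, hv, rfl⟩
    have h1 : v ∈ (P : Subgroup ↥W) ⊓ V := ⟨hx1, hv⟩
    rw [hV.2.2.1] at h1
    rw [Subgroup.mem_bot] at h1
    simp [h1]
  · intro w hw
    obtain ⟨a, ha, b, hb, e⟩ := hV.2.2.2 ⟨w, hw⟩ (Subgroup.mem_top _)
    refine ⟨a, ha, b, ⟨b, hb, rfl⟩, ?_⟩
    exact congrArg Subtype.val e

theorem IsComplIn.sup_eq {Q D W : Subgroup G} (h : IsComplIn Q D W) : Q ⊔ D = W := by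
  apply le_antisymm (sup_le h.1 h.2.1)
  intro w hw
  obtain ⟨a, ha, b, hb, rfl⟩ := h.2.2.2 w hw
  exact Subgroup.mul_mem_sup ha hb

/-- Conjugacy of complements. -/
theorem exists_conj_compl {Q W D₁ D₂ : Subgroup G} {q : ℕ} [Fact q.Prime] (hS : IsSylowIn q Q W)
    (hWQ : W ≤ normalizer (Q : Set G)) (h₁ : IsComplIn Q D₁ W) (h₂ : IsComplIn Q D₂ W) :
    ∃ n ∈ Q, D₂ = cj D₁ n := by
  have hsolv : Group.IsSolvable Q := by
    haveI : Group.IsNilpotent Q := hS.2.1.isNilpotent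
    infer_instance
  have hc : (Nat.card Q).Coprime (Nat.card D₁) := by
    have hcard := Cfsg.Agent.Lib.OddOrderCore.card_mul_card_of_isComplIn h₁
    have hnd : ¬ q ∣ Q.relIndex W := hS.toSylow.not_dvd_index
    have hrel : Q.relIndex W = Nat.card D₁ := by
      have h1 := Cfsg.Agent.Lib.Coprime.relIndex_mul_card_of_le hS.1
      have hpos : 0 < Nat.card Q := Nat.card_pos
      rw [← hcard, mul_comm] at h1
      exact Nat.eq_of_mul_eq_mul_left hpos h1
    obtain ⟨e, he⟩ := IsPGroup.iff_card.mp hS.2.1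
    rw [he]
    apply Nat.Coprime.pow_left
    rw [← hrel]
    exact ((Nat.Prime.coprime_iff_not_dvd Fact.out).mpr hnd)
  exact exists_conj_rel hsolv (h₁.2.1.trans hWQ) (h₂.2.1.trans hWQ) h₁.2.2.1 h₂.2.2.1
    (by rw [IsComplIn.sup_eq h₁, IsComplIn.sup_eq h₂]) hc

/-- A complement invariant under a coprime group of operators. -/
theorem exists_inv_compl {Q W K : Subgroup G} {q : ℕ} [Fact q.Prime] (hS : IsSylowIn q Q W)
    (hWQ : W ≤ normalizer (Q : Set G)) (hKQ : K ≤ normalizer (Q : Set G)) (hKW : K ≤ normalizer (W : Set G))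
    (hc : (Nat.card Q).Coprime (Nat.card K)) : ∃ D : Subgroup G, IsComplIn Q D W ∧ K ≤ normalizer (D : Set G) := by
  have hsolv : Group.IsSolvable Q := by
    haveI : Group.IsNilpotent Q := hS.2.1.isNilpotent
    infer_instance
  have hNW : Q ⊔ K ≤ normalizer (W : Set G) := sup_le (hS.1.trans (Subgroup.le_normalizer)) hKW
  have hNQ : Q ⊔ K ≤ normalizer (Q : Set G) := sup_le (Subgroup.le_normalizer) hKQ
  obtain ⟨D₀, hD₀⟩ := exists_compl_sylow hS hWQ
  obtain ⟨D, hD, hKD⟩ := glauberman_fixed (K := Q) (P := K) hsolv hKQ hc {D | IsComplIn Q D W}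
    (by
      intro x hx ω hω
      have hxW := hNW hx
      have hxQ := hNQ hx
      have hcjW : cj W x = W := cj_eq_of_mem_normalizer hxW
      have hcjQ : cj Q x = Q := cj_eq_of_mem_normalizer hxQ
      refine ⟨hω.1, ?_, ?_, ?_⟩
      · rw [← hcjW]
        exact cj_mono hω.2.1 x
      · have h1 : Q ⊓ cj ω x = cj (Q ⊓ ω) x := by
          conv_lhs => rw [← hcjQ]
          exact (Subgroup.map_inf _ _ _ (MulAut.conj x).injective).symm
        rw [h1, hω.2.2.1]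
        exact Subgroup.map_bot _
      · intro w hw
        have hw' : x⁻¹ * w * x ∈ W := by
          rw [← hcjW] at hw
          exact mem_cj.mp hw
        obtain ⟨a, ha, b, hb, e⟩ := hω.2.2.2 _ hw'
        refine ⟨x * a * x⁻¹, ?_, x * b * x⁻¹, conj_mem_cj hb, ?_⟩
        · rw [← hcjQ]
          exact conj_mem_cj ha
        · calc w = x * (x⁻¹ * w * x) * x⁻¹ := by group
            _ = x * (a * b) * x⁻¹ := by rw [e]
            _ = _ := by group)
    (by
      intro ω₁ h₁ ω₂ h₂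
      exact exists_conj_compl hS hWQ h₁ h₂)
    ⟨D₀, hD₀⟩
  exact ⟨D, hD, hKD⟩

end Cfsg.Agent.Lib.H6F3
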