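import Mathlib
import Cfsg.Agent.Lib.H6F3
import Cfsg.Agent.Lib.BGP3D
import Cfsg.Agent.Lib.BGFix
import Cfsg.Agent.Lib.BGCent8
import Cfsg.Agent.S1429
import Cfsg.Agent.S1414

/-!
# Maximal subgroups whose `M_σ` is not nilpotent
-/

set_option autoImplicit false
set_option linter.unusedSectionVars false
set_option linter.unusedVariables false
set_option linter.style.haveILetI false
set_option linter.unusedSimpArgs false
set_option linter.unusedDecidableInType false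
set_option linter.unusedFintypeInType false

namespace Cfsg.Agent.Lib.H6F4

open Cfsg Subgroup Cfsg.Agent.Lib.BGFree3 Cfsg.Agent.Lib.Glauberman Cfsg.Agent.Lib.CoprimeInv Cfsg.Agent.Lib.H6F1
open Cfsg.Agent.Lib.H6F2 Cfsg.Agent.Lib.H6F3 Cfsg.Agent.Lib.PCore Cfsg.Agent.Lib.BGM1 Cfsg.Agent.Lib.BGM2
open Cfsg.Agent.Lib.OddOrderCore Cfsg.Agent.Lib.BGUniq2

open scoped commutatorElement

universe u

variable {G : Type u} [Group G] [Finite G] {M K U : Subgroup G}

theorem coprime_K_W (hKh : IsPiHallOf (kappa M) K M) : (Nat.card K).Coprime (Nat.card (sigmaCore M)) := by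
  apply Nat.coprime_of_dvd
  intro r hr h1 h2
  exact (hKh.2.1 r hr h1).2.2.1 (primes_sigmaCore r hr h2)

/-- In a factorisation with `M_σ` not nilpotent, `U = 1`. -/
theorem U_eq_bot (hG : IsMinSimpleOddOrder G) (hM : IsCoatom M) (hKU : IsSigmaDecomposition M K U)
    (hnn : ¬ Group.IsNilpotent (sigmaCore M)) : U = ⊥ := by
  by_contra hU
  have hcard : Nat.card U ≠ 1 := fun h => hU (Subgroup.card_eq_one.mp h)
  obtain ⟨p, hp, hpd⟩ := Nat.exists_prime_and_dvd hcard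
  haveI : Fact p.Prime := ⟨hp⟩
  have hcardM := card_mul_card_of_isComplIn hKU.compl
  have hpM : p ∣ Nat.card M := hpd.trans ⟨_, hcardM.symm⟩
  have hle : K ⊔ sigmaCore M ≤ M := hKU.compl.2.1
  have hrel : (K ⊔ sigmaCore M).relIndex M = Nat.card U := by
    have h1 := Cfsg.Agent.Lib.Coprime.relIndex_mul_card_of_le hle
    have hpos : 0 < Nat.card (K ⊔ sigmaCore M : Subgroup G) := Nat.card_pos
    rw [← hcardM] at h1
    exact Nat.eq_of_mul_eq_mul_right hpos h1
  have hnotσ : p ∉ sigma M := fun hσ => (sigma_hall hG hM).1.2.2 p hp hσ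
    (by
      rw [← hrel] at hpd
      exact hpd.trans (Subgroup.relIndex_dvd_of_le_left M le_sup_right))
  have hnotκ : p ∉ kappa M := fun hκ => hKU.hall.2.2 p hp hκ
    (by
      rw [← hrel] at hpd
      exact hpd.trans (Subgroup.relIndex_dvd_of_le_left M le_sup_left))
  obtain ⟨S⟩ : Nonempty (Sylow p M) := inferInstance
  have h := Cfsg.Agent.S1429.result hG M hM (fun hall => hnotκ (hall p hp hpM hnotσ)) p hpM
    (fun hh => hh.elim hnotσ hnotκ) S
  exact hnn h.2.2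

/-- The factorisation `M = K M_σ`, when `U = 1`. -/
theorem compl_K (hKU : IsSigmaDecomposition M K U) (hU : U = ⊥) : IsComplIn K (sigmaCore M) M := by
  have hKM : K ≤ M := hKU.hall.1
  refine ⟨hKM, sigmaCore_le, inf_eq_bot_of_coprime' (coprime_K_W hKU.hall), ?_⟩
  intro m hm
  obtain ⟨u, hu, b, hb, rfl⟩ := hKU.compl.2.2.2 m hm
  subst hU
  rw [Subgroup.mem_bot] at hu
  subst hu
  rw [one_mul]
  have h1 : b ∈ ((K ⊔ sigmaCore M : Subgroup G) : Set G) := hb
  rw [Subgroup.coe_mul_of_left_le_normalizer_right _ _ (hKM.trans le_normalizer_sigmaCore), Set.mem_mul] at h1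
  obtain ⟨k, hk, w, hw, e⟩ := h1
  exact ⟨k, hk, w, hw, e.symm⟩

theorem K_ne_bot (hG : IsMinSimpleOddOrder G) (hM : IsCoatom M) (hKU : IsSigmaDecomposition M K U) (hU : U = ⊥) :
    K ≠ ⊥ := by
  rintro rfl
  have hc := compl_K hKU hU
  have hMW : M ≤ sigmaCore M := by
    intro m hm
    obtain ⟨k, hk, w, hw, rfl⟩ := hc.2.2.2 m hm
    rw [Subgroup.mem_bot] at hk
    subst hk
    rwa [one_mul]
  have hM1 : M ≠ ⊥ := Cfsg.Agent.Lib.BGSigma2.coatom_ne_bot hG hM
  have hs : Group.IsSolvable M := solvable_of_le_coatom hG hM le_rfl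
  have hlt := Cfsg.Agent.Lib.Coprime.commutator_lt_of_solvable hs hM1
  have h1 : M ≤ ⁅M, M⁆ := hMW.trans (Cfsg.Agent.Lib.BGP3D.sigmaCore_le_derived hG hM)
  exact hlt.not_ge h1

theorem commutator_eq (hG : IsMinSimpleOddOrder G) (hM : IsCoatom M) (hKU : IsSigmaDecomposition M K U) (hU : U = ⊥) :
    sigmaCore M = ⁅M, M⁆ := by
  apply le_antisymm (Cfsg.Agent.Lib.BGP3D.sigmaCore_le_derived hG hM)
  refine (commutator_le_sup (compl_K hKU hU)).trans ?_
  have hKK : ⁅K, K⁆ = ⊥ := by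
    rw [Subgroup.commutator_eq_bot_iff_le_centralizer, Subgroup.le_centralizer_iff]
    intro a ha
    rw [Subgroup.mem_centralizer_iff]
    intro b hb
    exact mul_comm_of_isCyclic hKU.cyclic hb ha
  rw [hKK, sup_bot_eq]

/-- The Fitting subgroup of `M_σ` meets `K*`. -/
theorem exists_fit_fixed (hG : IsMinSimpleOddOrder G) (hM : IsCoatom M) {K : Subgroup G}
    (hE : IsComplIn K (sigmaCore M) M) (hcop : (Nat.card K).Coprime (Nat.card (sigmaCore M)))
    (hprime : ∀ k ∈ K, k ≠ 1 → sigmaCore M ⊓ centralizer ({k} : Set G) = sigmaCore M ⊓ centralizer (K : Set G))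
    (hnn : ¬ Group.IsNilpotent (sigmaCore M)) :
    ∃ F : Subgroup G, F ≤ sigmaCore M ∧ M ≤ normalizer (F : Set G) ∧ Group.IsNilpotent F ∧
      F ⊓ centralizer (K : Set G) ≠ ⊥ := by
  classical
  have hWM : sigmaCore M ≤ M := sigmaCore_le
  let K₁ : Subgroup ↥M := (sigmaCore M).subgroupOf M
  let R : Subgroup ↥M := K.subgroupOf M
  haveI hK₁ : K₁.Normal := (Subgroup.normal_subgroupOf_iff_le_normalizer hWM).mpr le_normalizer_sigmaCore
  haveI hsM : Group.IsSolvable ↥M := solvable_of_le_coatom hG hM le_rfl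
  have hodd : Odd (Nat.card ↥M) := IsMin.odd_card hG M
  have hcopR : (Nat.card K₁).Coprime (Nat.card R) := by
    rw [card_subgroupOf_of_le hWM, card_subgroupOf_of_le hE.1]
    exact hcop.symm
  have hprimeR : ∀ x ∈ R, x ≠ 1 → K₁ ⊓ centralizer ({x} : Set ↥M) = K₁ ⊓ centralizer (R : Set ↥M) := by
    intro x hx hx1
    have hx1' : (x : G) ≠ 1 := fun h => hx1 (Subtype.ext h)
    have hx' : (x : G) ∈ K := hx
    apply le_antisymm
    · rintro a ⟨ha, hac⟩
      refine ⟨ha, ?_⟩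
      have h1 : (a : G) ∈ sigmaCore M ⊓ centralizer ({(x : G)} : Set G) := by
        refine ⟨ha, ?_⟩
        show (a : G) ∈ centralizer ({(x : G)} : Set G)
        rw [Subgroup.mem_centralizer_singleton_iff]
        have hac' : a ∈ centralizer ({x} : Set ↥M) := hac
        have := Subgroup.mem_centralizer_singleton_iff.mp hac'
        exact congrArg Subtype.val this
      rw [hprime _ hx' hx1'] at h1
      show a ∈ centralizer (R : Set ↥M)
      rw [Subgroup.mem_centralizer_iff]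
      intro r hr
      apply Subtype.ext
      exact Subgroup.mem_centralizer_iff.mp h1.2 _ hr
    · rintro a ⟨ha, hac⟩
      refine ⟨ha, ?_⟩
      refine Subgroup.centralizer_le ?_ hac
      intro y hy
      rw [Set.mem_singleton_iff] at hy
      rw [hy]
      exact hx
  have hF₁ : Group.IsNilpotent (fittingOf K₁) := by
    haveI : Group.IsNilpotent (fittingSubgroup ↥K₁) := isNilpotent_fittingSubgroup
    exact Group.nilpotent_of_mulEquiv (Subgroup.equivMapOfInjective _ _ K₁.subtype_injective)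
  have hcomm := Cfsg.Agent.Lib.BGP3D.comm_compl_eq hG hM hE
  by_cases hF : fittingOf K₁ ⊓ centralizer (R : Set ↥M) = ⊥
  · exfalso
    have h := Cfsg.Agent.Lib.BGFix.main hodd K₁ R hcopR hprimeR hF
    have hle : K₁ ≤ fittingOf K₁ := by
      intro w hw
      apply h
      have h1 : (w : G) ∈ ⁅sigmaCore M, K⁆ := by
        rw [hcomm]
        exact hw
      have h2 : (⁅K₁, R⁆ : Subgroup ↥M).map M.subtype = ⁅sigmaCore M, K⁆ := by
        rw [Subgroup.map_commutator, Subgroup.map_subgroupOf_eq_of_le hWM, Subgroup.map_subgroupOf_eq_of_le hE.1]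
      rw [← h2] at h1
      obtain ⟨w', hw', e⟩ := h1
      have : w' = w := Subtype.ext e
      rwa [this] at hw'
    have h3 : Group.IsNilpotent K₁ := Cfsg.Agent.Lib.OddOrderCore.isNilpotent_of_le hle hF₁
    exact hnn (Group.nilpotent_of_mulEquiv (Subgroup.subgroupOfEquivOfLe hWM))
  · haveI : (fittingOf K₁).Normal := by
      show ((fittingSubgroup ↥K₁).map K₁.subtype).Normal
      infer_instance
    refine ⟨(fittingOf K₁).map M.subtype, ?_, ?_, ?_, ?_⟩
    · rintro _ ⟨a, ha, rfl⟩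
      have h1 : a ∈ K₁ := Subgroup.map_subtype_le _ ha
      exact h1
    · rw [Subgroup.le_normalizer_iff]
      rintro m hm _ ⟨a, ha, rfl⟩
      have h1 := (inferInstance : (fittingOf K₁).Normal).conj_mem a ha ⟨m, hm⟩
      exact ⟨_, h1, rfl⟩
    · haveI := hF₁
      exact Group.nilpotent_of_mulEquiv (Subgroup.equivMapOfInjective _ _ M.subtype_injective)
    · intro hbot
      apply hF
      rw [eq_bot_iff]
      rintro z ⟨hz1, hz2⟩
      have h1 : (z : G) ∈ (fittingOf K₁).map M.subtype ⊓ centralizer (K : Set G) := by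
        refine ⟨⟨z, hz1, rfl⟩, ?_⟩
        show (z : G) ∈ centralizer (K : Set G)
        rw [Subgroup.mem_centralizer_iff]
        intro k hk
        have hz2' : z ∈ centralizer (R : Set ↥M) := hz2
        have h2 := Subgroup.mem_centralizer_iff.mp hz2' ⟨k, hE.1 hk⟩ hk
        exact congrArg Subtype.val h2
      rw [hbot] at h1
      exact Subtype.ext h1

theorem le_of_mem_ne_one {A Ks : Subgroup G} (hp : (Nat.card Ks).Prime) {c : G} (hcA : c ∈ A) (hcK : c ∈ Ks)
    (hc1 : c ≠ 1) : Ks ≤ A := by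
  have hI : Nat.card ↥(A ⊓ Ks) ∣ Nat.card Ks := Subgroup.card_dvd_of_le inf_le_right
  have hI1 : Nat.card ↥(A ⊓ Ks) ≠ 1 := by
    intro h
    have h2 := Subgroup.card_eq_one.mp h
    have h3 : c ∈ A ⊓ Ks := ⟨hcA, hcK⟩
    rw [h2] at h3
    exact hc1 h3
  have hI2 := ((Nat.dvd_prime hp).mp hI).resolve_left hI1
  have h4 : A ⊓ Ks = Ks := Subgroup.eq_of_le_of_card_ge inf_le_right hI2.ge
  exact h4 ▸ inf_le_left

theorem relIndex_compl {Q D W : Subgroup G} (h : IsComplIn Q D W) : Q.relIndex W = Nat.card D := by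
  have hcard := card_mul_card_of_isComplIn h
  have h1 := Cfsg.Agent.Lib.Coprime.relIndex_mul_card_of_le h.1
  have hpos : 0 < Nat.card Q := Nat.card_pos
  rw [← hcard, mul_comm] at h1
  exact Nat.eq_of_mul_eq_mul_left hpos h1

theorem inf_centralizer_cj {Q D₀ : Subgroup G} {n : G} (hn : n ∈ Q)
    (hN : Q ≤ normalizer ((Q ⊓ centralizer (D₀ : Set G) : Subgroup G) : Set G)) :
    Q ⊓ centralizer (cj D₀ n : Set G) = Q ⊓ centralizer (D₀ : Set G) := by
  have hfw : ∀ a ∈ Q ⊓ centralizer (cj D₀ n : Set G), n⁻¹ * a * n ∈ Q ⊓ centralizer (D₀ : Set G) := by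
    rintro a ⟨ha, hac⟩
    refine ⟨Q.mul_mem (Q.mul_mem (Q.inv_mem hn) ha) hn, ?_⟩
    show n⁻¹ * a * n ∈ centralizer (D₀ : Set G)
    rw [Subgroup.mem_centralizer_iff]
    intro d hd
    have h1 := Subgroup.mem_centralizer_iff.mp hac (n * d * n⁻¹) (conj_mem_cj hd)
    calc d * (n⁻¹ * a * n) = n⁻¹ * ((n * d * n⁻¹) * a) * n := by group
      _ = n⁻¹ * (a * (n * d * n⁻¹)) * n := by rw [h1]
      _ = _ := by group
  apply le_antisymm
  · intro a ha
    have h1 := hfw a ha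
    have h2 := conj_mem_of_le hN hn h1
    have e : n * (n⁻¹ * a * n) * n⁻¹ = a := by group
    rwa [e] at h2
  · rintro a ⟨ha, hac⟩
    refine ⟨ha, ?_⟩
    show a ∈ centralizer (cj D₀ n : Set G)
    rw [Subgroup.mem_centralizer_iff]
    rintro _ ⟨d, hd, rfl⟩
    have h1 : n⁻¹ * a * n ∈ Q ⊓ centralizer (D₀ : Set G) := by
      have h2 := conj_mem_of_le hN (Q.inv_mem hn) (⟨ha, hac⟩ : a ∈ Q ⊓ centralizer (D₀ : Set G))
      simpa using h2
    have h3 := Subgroup.mem_centralizer_iff.mp h1.2 d hd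
    show n * d * n⁻¹ * a = a * (n * d * n⁻¹)
    calc n * d * n⁻¹ * a = n * (d * (n⁻¹ * a * n)) * n⁻¹ := by group
      _ = n * ((n⁻¹ * a * n) * d) * n⁻¹ := by rw [h3]
      _ = _ := by group

/-- The structure of `M_σ`, when it is not nilpotent. -/
theorem exists_structure (hG : IsMinSimpleOddOrder G) (hM : IsCoatom M) (hKU : IsSigmaDecomposition M K U)
    (hprime : ∀ k ∈ K, k ≠ 1 → sigmaCore M ⊓ centralizer ({k} : Set G) = sigmaCore M ⊓ centralizer (K : Set G))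
    (hqp : (Nat.card ↥(sigmaCore M ⊓ centralizer (K : Set G))).Prime)
    (hnn : ¬ Group.IsNilpotent (sigmaCore M)) :
    ∃ Q D₀ : Subgroup G, sigmaCore M ⊓ centralizer (K : Set G) ≤ Q ∧
      IsSylowIn (Nat.card ↥(sigmaCore M ⊓ centralizer (K : Set G))) Q (sigmaCore M) ∧
      M ≤ normalizer (Q : Set G) ∧ (∀ D : Subgroup G, D ≤ sigmaCore M → D ⊓ Q = ⊥ → Group.IsNilpotent D) ∧
      IsComplIn Q D₀ (sigmaCore M) ∧ K ≤ normalizer (D₀ : Set G) ∧
      FrobSetup (Nat.card ↥(sigmaCore M ⊓ centralizer (K : Set G))) Q D₀ K (sigmaCore M ⊓ centralizer (K : Set G)) := by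
  classical
  set W : Subgroup G := sigmaCore M with hW
  set Ks : Subgroup G := W ⊓ centralizer (K : Set G) with hKs
  set q : ℕ := Nat.card Ks with hq
  haveI hqf : Fact q.Prime := ⟨hqp⟩
  have hU : U = ⊥ := U_eq_bot hG hM hKU hnn
  have hc : IsComplIn K W M := compl_K hKU hU
  have hK1 : K ≠ ⊥ := K_ne_bot hG hM hKU hU
  have hcop : (Nat.card K).Coprime (Nat.card W) := coprime_K_W hKU.hall
  have hWM : W ≤ M := sigmaCore_le
  have hKM : K ≤ M := hc.1
  have hMW : M ≤ normalizer (W : Set G) := le_normalizer_sigmaCore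
  obtain ⟨F, hFW, hMF, hFn, hFK⟩ := exists_fit_fixed hG hM hc hcop hprime hnn
  obtain ⟨z, hz, hz1⟩ : ∃ z ∈ F ⊓ centralizer (K : Set G), z ≠ 1 := by
    by_contra hno
    push Not at hno
    exact hFK (eq_bot_iff.mpr fun a ha => hno a ha)
  have hzKs : z ∈ Ks := ⟨hFW hz.1, hz.2⟩
  have hKsF : Ks ≤ F := le_of_mem_ne_one hqp hz.1 hzKs hz1
  have hKsp : IsPGroup q Ks := IsPGroup.of_card (n := 1) (by rw [pow_one])
  obtain ⟨Y, hY⟩ := exists_isSylowIn q F
  have hKsY : Ks ≤ Y := sylow_of_nilpotent_le hFn hY hKsF hKsp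
  have hMY : M ≤ normalizer (Y : Set G) := by
    rw [Subgroup.le_normalizer_iff]
    intro m hm a ha
    have h1 : cj Y m ≤ F := by
      rintro _ ⟨b, hb, rfl⟩
      exact conj_mem_of_le hMF hm (hY.1 hb)
    have hp : IsPGroup q (cj Y m) := hY.2.1.map _
    exact sylow_of_nilpotent_le hFn hY h1 hp ⟨a, ha, rfl⟩
  have hYW : Y ≤ W := hY.1.trans hFW
  have hKcard : Nat.card K ≠ 1 := fun h => hK1 (Subgroup.card_eq_one.mp h)
  obtain ⟨s, hs, hsd⟩ := Nat.exists_prime_and_dvd hKcard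
  haveI hsf : Fact s.Prime := ⟨hs⟩
  obtain ⟨x₀, hx₀⟩ := exists_prime_orderOf_dvd_card' (G := ↥K) s hsd
  set x : G := (x₀ : G) with hx
  have hxK : x ∈ K := x₀.2
  have hxo : orderOf x = s := by
    rw [hx, Subgroup.orderOf_coe]
    exact hx₀
  have hx1 : x ≠ 1 := by
    intro h
    rw [h, orderOf_one] at hxo
    exact hs.one_lt.ne hxo
  have hxs : x ^ s = 1 := by
    rw [← hxo]
    exact pow_orderOf_eq_one x
  have hxcop : (orderOf x).Coprime (Nat.card W) := by
    have h1 : orderOf x ∣ Nat.card K := by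
      have := orderOf_dvd_natCard x₀
      rwa [← Subgroup.orderOf_coe] at this
    exact Nat.Coprime.coprime_dvd_left h1 hcop
  have hfix : W ⊓ centralizer ({x} : Set G) ≤ Y := by
    rw [hprime x hxK hx1]
    exact hKsY
  have hne : ¬ W ≤ Y := fun h => hnn (Cfsg.Agent.Lib.OddOrderCore.isNilpotent_of_le (h.trans hY.1) hFn)
  obtain ⟨Q, hYQ, hS, hMQ, hD⟩ := exists_sylow_of_quot hYW hWM (hKM hxK) hxs hMW hMY hY.2.1 hxcop hfix hne
  have hD' : ∀ D : Subgroup G, D ≤ W → D ⊓ Q = ⊥ → Group.IsNilpotent D := by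
    intro D hDW hDQ
    refine hD D hDW (le_bot_iff.mp ?_)
    rw [← hDQ]
    exact inf_le_inf_left _ hYQ
  have hKsQ : Ks ≤ Q := hKsY.trans hYQ
  have hQW : Q ≤ W := hS.1
  have hcopQK : (Nat.card Q).Coprime (Nat.card K) :=
    (Nat.Coprime.coprime_dvd_right (Subgroup.card_dvd_of_le hQW) hcop).symm
  obtain ⟨D₀, hD₀, hKD₀⟩ := exists_inv_compl hS (hWM.trans hMQ) (hKM.trans hMQ) (hKM.trans hMW) hcopQK
  have hqd : ¬ q ∣ Q.relIndex W := hS.toSylow.not_dvd_index
  have hrel := relIndex_compl hD₀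
  have hqW : q ∣ Nat.card W := by
    rw [hq]
    exact Subgroup.card_dvd_of_le inf_le_left
  have hqσ : q ∈ sigma M := primes_sigmaCore q hqp hqW
  refine ⟨Q, D₀, hKsQ, hS, hMQ, hD', hD₀, hKD₀, ?_⟩
  refine ⟨hS.2.1, hD₀.2.1.trans (hWM.trans hMQ), hKM.trans hMQ, hKD₀, ?_, ?_, ?_, ?_, ?_, rfl, hKU.cyclic, hK1, ?_⟩
  · rw [← hrel]
    exact ((Nat.Prime.coprime_iff_not_dvd hqp).mpr hqd).symm
  · apply Nat.Coprime.symm
    apply (Nat.Prime.coprime_iff_not_dvd hqp).mpr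
    intro h
    exact (hKU.hall.2.1 q hqp h).2.2.1 hqσ
  · exact solvable_of_le_coatom hG hM (hD₀.2.1.trans hWM)
  · intro k hk hk1 d hd hkd
    have h1 : d ∈ W ⊓ centralizer ({k} : Set G) := by
      refine ⟨hD₀.2.1 hd, ?_⟩
      show d ∈ centralizer ({k} : Set G)
      rw [Subgroup.mem_centralizer_singleton_iff]
      exact hkd.symm
    rw [hprime k hk hk1] at h1
    have h2 : d ∈ Q ⊓ D₀ := ⟨hKsQ h1, hd⟩
    rw [hD₀.2.2.1] at h2
    exact h2
  · intro k hk hk1
    apply le_antisymm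
    · rintro a ⟨ha, hac⟩
      have h1 : a ∈ W ⊓ centralizer ({k} : Set G) := ⟨hQW ha, hac⟩
      rwa [hprime k hk hk1] at h1
    · intro a ha
      refine ⟨hKsQ ha, ?_⟩
      rw [← hprime k hk hk1] at ha
      exact ha.2
  · intro hQC
    have hD₀Q : D₀ ⊓ Q = ⊥ := by
      rw [inf_comm]
      exact hD₀.2.2.1
    have h2 : W ≤ normalizer (D₀ : Set G) := by
      rw [← IsComplIn.sup_eq hD₀]
      refine sup_le ?_ Subgroup.le_normalizer
      rw [Subgroup.le_normalizer_iff]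
      intro a ha d hd
      have h3 := Subgroup.mem_centralizer_iff.mp (hQC ha) d hd
      rw [← h3]
      simpa using hd
    exact hnn (nilpotent_of_two_normal (IsComplIn.sup_eq hD₀) (hWM.trans hMQ) h2 hS.2.1.isNilpotent
      (hD' D₀ hD₀.2.1 hD₀Q))

/-- A normal `q`-subgroup of `M` of order coprime to its index in `M` lies in `M_F`. -/
theorem le_fittingHallOf {Q : Subgroup G} {q : ℕ} [Fact q.Prime] (hQM : Q ≤ M) (hMQ : M ≤ normalizer (Q : Set G))
    (hQ : IsPGroup q Q) (hd : ¬ q ∣ Q.relIndex M) : Q ≤ fittingHallOf M := by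
  have hQ₁ : (Q.subgroupOf M).Normal := (Subgroup.normal_subgroupOf_iff_le_normalizer hQM).mpr hMQ
  have hQ₁p : IsPGroup q (Q.subgroupOf M) := hQ.of_injective (Subgroup.subgroupOfEquivOfLe hQM).toMonoidHom
    (Subgroup.subgroupOfEquivOfLe hQM).injective
  have hle := le_fittingHall hQ₁ hQ₁p.isNilpotent (by
    obtain ⟨e, he⟩ := IsPGroup.iff_card.mp hQ₁p
    rw [he]
    apply Nat.Coprime.pow_left
    exact (Nat.Prime.coprime_iff_not_dvd Fact.out).mpr hd)
  have h := Subgroup.map_mono (f := M.subtype) hle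
  rwa [Subgroup.map_subgroupOf_eq_of_le hQM] at h

/-- **S1437**, modulo the input on `K`. -/
theorem s1437_core (hG : IsMinSimpleOddOrder G) (hM : IsCoatom M) (hKU : IsSigmaDecomposition M K U)
    (hne : fittingHallOf M ≠ sigmaCore M)
    (hprime : ∀ k ∈ K, k ≠ 1 → sigmaCore M ⊓ centralizer ({k} : Set G) = sigmaCore M ⊓ centralizer (K : Set G))
    (hqp : U = ⊥ → (Nat.card ↥(sigmaCore M ⊓ centralizer (K : Set G))).Prime) :
    U = ⊥ ∧ Cfsg.sigmaCore M = ⁅M, M⁆ ∧ (Nat.card K).Prime ∧ (Nat.card ↥(Cfsg.sigmaCore M ⊓ Subgroup.centralizer (K : Set G))).Prime ∧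
      Nat.card ↥(Cfsg.sigmaCore M ⊓ Subgroup.centralizer (K : Set G)) ∣ Nat.card (Cfsg.fittingHallOf M) ∧ Nat.card ↥(Cfsg.sigmaCore M ⊓ Subgroup.centralizer (K : Set G)) ∈ Cfsg.beta M ∧
      ∃ Q : Subgroup G, Q ≤ Cfsg.fittingHallOf M ∧ M ≤ Subgroup.normalizer (Q : Set G) ∧ IsPGroup (Nat.card ↥(Cfsg.sigmaCore M ⊓ Subgroup.centralizer (K : Set G))) Q ∧
        ¬ Nat.card ↥(Cfsg.sigmaCore M ⊓ Subgroup.centralizer (K : Set G)) ∣ Q.relIndex (Cfsg.sigmaCore M) ∧
        ∀ D : Subgroup G, Cfsg.IsComplIn Q D (Cfsg.sigmaCore M) →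
          Group.IsNilpotent D ∧ M ≤ Subgroup.normalizer ((Q ⊓ Subgroup.centralizer (D : Set G) : Subgroup G) : Set G) ∧
          Q ⊓ Subgroup.centralizer (D : Set G) < Q ∧
          Nat.card Q = Nat.card ↥(Q ⊓ Subgroup.centralizer (D : Set G)) * Nat.card ↥(Cfsg.sigmaCore M ⊓ Subgroup.centralizer (K : Set G)) ^ Nat.card K ∧
          (∀ a ∈ Q, ∀ b ∈ Q, a ^ Nat.card ↥(Cfsg.sigmaCore M ⊓ Subgroup.centralizer (K : Set G)) ∈ Q ⊓ Subgroup.centralizer (D : Set G) ∧
            a * b * a⁻¹ * b⁻¹ ∈ Q ⊓ Subgroup.centralizer (D : Set G)) ∧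
          ∀ N : Subgroup G, Q ⊓ Subgroup.centralizer (D : Set G) < N → N < Q → ¬ M ≤ Subgroup.normalizer (N : Set G) := by
  classical
  have hnn : ¬ Group.IsNilpotent (sigmaCore M) := fun h =>
    hne (Cfsg.Agent.Lib.BGCent.sigmaCore_eq_fittingHallOf hG hM h).symm
  have hU : U = ⊥ := U_eq_bot hG hM hKU hnn
  have hq := hqp hU
  obtain ⟨Q, D₀, hKsQ, hS, hMQ, hD, hD₀, hKD₀, S⟩ := exists_structure hG hM hKU hprime hq hnn
  set W : Subgroup G := sigmaCore M with hW
  set Ks : Subgroup G := W ⊓ centralizer (K : Set G) with hKs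
  set q : ℕ := Nat.card Ks with hqdef
  haveI hqf : Fact q.Prime := ⟨hq⟩
  have hc : IsComplIn K W M := compl_K hKU hU
  have hWM : W ≤ M := sigmaCore_le
  have hQW : Q ≤ W := hS.1
  have hQM : Q ≤ M := hQW.trans hWM
  have hqd : ¬ q ∣ Q.relIndex W := hS.toSylow.not_dvd_index
  have hqW : q ∣ Nat.card W := by
    rw [hqdef]
    exact Subgroup.card_dvd_of_le inf_le_left
  have hqσ : q ∈ sigma M := primes_sigmaCore q hq hqW
  have hqM : q ∣ Nat.card M := hqW.trans (Subgroup.card_dvd_of_le hWM)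
  have hqi : ¬ q ∣ Q.relIndex M := by
    rw [← Subgroup.relIndex_mul_relIndex Q W M hQW hWM]
    intro h
    rcases (Nat.Prime.dvd_mul hq).mp h with h | h
    · exact hqd h
    · exact (sigma_hall hG hM).1.2.2 q hq hqσ h
  have hQF : Q ≤ fittingHallOf M := le_fittingHallOf hQM hMQ hS.2.1 hqi
  have hWQ : W ≤ normalizer (Q : Set G) := hWM.trans hMQ
  refine ⟨hU, commutator_eq hG hM hKU hU, S.K_prime.1, hq, ?_, ?_, Q, hQF, hMQ, hS.2.1, hqd, ?_⟩
  · exact (Subgroup.card_dvd_of_le hKsQ).trans (Subgroup.card_dvd_of_le hQF)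
  · by_contra hβ
    obtain ⟨-, hPC, -⟩ := (Cfsg.Agent.S1414.result hG M hM).2.2.2.2 q hq hqM hβ
    obtain ⟨P, N₀, hN₀, hIC⟩ := hPC
    haveI hQ₁n : (Q.subgroupOf W).Normal := (Subgroup.normal_subgroupOf_iff_le_normalizer hQW).mpr hWQ
    have hP : P = hS.toSylow := by
      letI := Sylow.unique_of_normal hS.toSylow hQ₁n
      exact Subsingleton.elim _ _
    have hIC' : N₀.IsComplement' (Q.subgroupOf W) := by
      rw [hP] at hIC
      exact hIC
    have hinf : N₀.map W.subtype ⊓ Q = ⊥ := by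
      rw [eq_bot_iff]
      rintro a ⟨⟨n, hn, rfl⟩, ha⟩
      have h1 : n ∈ N₀ ⊓ Q.subgroupOf W := ⟨hn, ha⟩
      rw [hIC'.disjoint.eq_bot] at h1
      rw [Subgroup.mem_bot] at h1
      simp [h1]
    have hsup : Q ⊔ N₀.map W.subtype = W := by
      have h1 := congrArg (Subgroup.map W.subtype) hIC'.sup_eq_top
      rw [Subgroup.map_sup, Subgroup.map_subgroupOf_eq_of_le hQW, ← MonoidHom.range_eq_map, Subgroup.range_subtype] at h1
      rw [sup_comm]
      exact h1
    have hnW : W ≤ normalizer ((N₀.map W.subtype : Subgroup G) : Set G) := by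
      rw [Subgroup.le_normalizer_iff]
      rintro w hw _ ⟨n, hn, rfl⟩
      exact ⟨_, hN₀.conj_mem n hn ⟨w, hw⟩, rfl⟩
    exact hnn (nilpotent_of_two_normal hsup hWQ hnW hS.2.1.isNilpotent (hD _ (Subgroup.map_subtype_le _) hinf))
  · intro D hDc
    obtain ⟨n, hn, rfl⟩ := exists_conj_compl hS hWQ hD₀ hDc
    have hE := inf_centralizer_cj (D₀ := D₀) hn S.hQQ0
    rw [hE]
    have hDinf : cj D₀ n ⊓ Q = ⊥ := by
      rw [inf_comm]
      exact hDc.2.2.1
    have hMQ0 : M ≤ normalizer ((Q ⊓ centralizer (D₀ : Set G) : Subgroup G) : Set G) := by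
      intro m hm
      obtain ⟨k, hk, w, hw, rfl⟩ := hc.2.2.2 m hm
      obtain ⟨a, ha, d, hd, rfl⟩ := hD₀.2.2.2 w hw
      exact mul_mem (S.hKQ0 hk) (mul_mem (S.hQQ0 ha) (S.hDQ0 hd))
    refine ⟨hD _ hDc.2.1 hDinf, hMQ0, S.Q0_lt, S.card_Q, ?_, ?_⟩
    · intro a ha b hb
      exact S.elem ha hb
    · intro N h1 h2 hMN
      exact S.no_intermediate h1 h2 (hc.1.trans hMN) ((hD₀.2.1.trans hWM).trans hMN)

end Cfsg.Agent.Lib.H6F4
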