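import Mathlib
import Cfsg.Agent.Lib.H6F4
import Cfsg.Agent.Lib.BGZ9
import Cfsg.Agent.S1423
import Cfsg.Agent.S1426
import Cfsg.Agent.S1439
import Cfsg.Agent.S1415
import Cfsg.Agent.S1420

/-!
# `F(M)` and `M_F` for maximal subgroups: `F(M)` is TI when `M_F ≠ M_σ`
-/

set_option autoImplicit false
set_option linter.unusedSectionVars false
set_option linter.unusedVariables false
set_option linter.style.haveILetI false
set_option linter.unusedSimpArgs false
set_option linter.unusedDecidableInType false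
set_option linter.unusedFintypeInType false

namespace Cfsg.Agent.Lib.H6F5

open Cfsg Subgroup Cfsg.Agent.Lib.BGFree3 Cfsg.Agent.Lib.Glauberman Cfsg.Agent.Lib.CoprimeInv Cfsg.Agent.Lib.H6F1
open Cfsg.Agent.Lib.H6F2 Cfsg.Agent.Lib.H6F3 Cfsg.Agent.Lib.H6F4 Cfsg.Agent.Lib.PCore Cfsg.Agent.Lib.BGM1 Cfsg.Agent.Lib.BGM2
open Cfsg.Agent.Lib.OddOrderCore Cfsg.Agent.Lib.BGUniq2 Cfsg.Agent.Lib.BGFix Cfsg.Agent.Lib.BGUniq3 Cfsg.Agent.Lib.BGTrans

open scoped commutatorElement

universe u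

variable {G : Type u} [Group G] [Finite G] {M K U : Subgroup G}

theorem isNilpotent_fittingOf (M : Subgroup G) : Group.IsNilpotent (fittingOf M) := by
  haveI : Group.IsNilpotent (fittingSubgroup ↥M) := isNilpotent_fittingSubgroup
  exact Group.nilpotent_of_mulEquiv (Subgroup.equivMapOfInjective _ _ M.subtype_injective)

theorem comm_in_fitting {F : Subgroup G} (hF : Group.IsNilpotent F) {p : ℕ} [Fact p.Prime] {a b : G} (ha : a ∈ F)
    (hb : b ∈ F) {k m : ℕ} (hak : a ^ p ^ k = 1) (hbm : b ^ m = 1) (hm : ¬ p ∣ m) : a * b = b * a := by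
  have h := Cfsg.Agent.Lib.BGCent.comm_in_nilpotent hF (a := (⟨a, ha⟩ : F)) (b := ⟨b, hb⟩) (k := k) (m := m)
    (Subtype.ext (by simpa using hak)) (Subtype.ext (by simpa using hbm)) hm
  exact congrArg Subtype.val h

theorem isSylowIn_of_not_dvd {q : ℕ} [hq : Fact q.Prime] {Q W : Subgroup G} (hQW : Q ≤ W) (hQ : IsPGroup q Q)
    (hd : ¬ q ∣ Q.relIndex W) : IsSylowIn q Q W := by
  refine ⟨hQW, hQ, fun R hRW hR hQR => ?_⟩
  have h1 : Q.relIndex R * R.relIndex W = Q.relIndex W := Subgroup.relIndex_mul_relIndex Q R W hQR hRW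
  have h2 : Q.relIndex R ∣ Nat.card R := by
    have h3 := Cfsg.Agent.Lib.Coprime.relIndex_mul_card_of_le hQR
    exact Dvd.intro _ h3
  obtain ⟨n, hn⟩ := IsPGroup.iff_card.mp hR
  rw [hn] at h2
  obtain ⟨m, -, hm⟩ := (Nat.dvd_prime_pow hq.out).mp h2
  have hm0 : m = 0 := by
    by_contra h0
    apply hd
    rw [← h1, hm]
    exact (dvd_pow_self q h0).trans (dvd_mul_right _ _)
  rw [hm0, pow_zero] at hm
  exact le_antisymm (Subgroup.relIndex_eq_one.mp hm) hQR

theorem exists_coatom_ge_centralizer (hG : IsMinSimpleOddOrder G) {x : G} (hx1 : x ≠ 1) :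
    ∃ L : Subgroup G, IsCoatom L ∧ centralizer ({x} : Set G) ≤ L := by
  rcases eq_top_or_exists_le_coatom (centralizer ({x} : Set G)) with h | h
  · exact absurd h (IsMin.centralizer_singleton_ne_top hG hx1)
  · exact h

/-- If `U = 1` then `F(M) ≤ M_σ`. -/
theorem fitting_le_sigma (hG : IsMinSimpleOddOrder G) (hM : IsCoatom M) (hKU : IsSigmaDecomposition M K U)
    (hU : U = ⊥) : fittingOf M ≤ sigmaCore M := by
  classical
  obtain ⟨-, h2, h3⟩ := Cfsg.Agent.S1439.result hG M hM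
  have hc : IsComplIn K (sigmaCore M) M := compl_K hKU hU
  have hY : piCoreOf {q | q.Prime ∧ q ∉ sigma M} (fittingOf M) ≤ sigmaCore M := by
    have hbot : piCoreOf {q | q.Prime ∧ q ∉ sigma M} (fittingOf M) = ⊥ := by
      by_contra hne
      have hc1 : Nat.card ↥(piCoreOf {q | q.Prime ∧ q ∉ sigma M} (fittingOf M)) ≠ 1 :=
        fun h => hne (Subgroup.card_eq_one.mp h)
      obtain ⟨r, hr, hrd⟩ := Nat.exists_prime_and_dvd hc1
      have hτ := h2 r hr hrd
      have hYM : piCoreOf {q | q.Prime ∧ q ∉ sigma M} (fittingOf M) ≤ M :=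
        (Subgroup.map_subtype_le _).trans (Subgroup.map_subtype_le _)
      have hrM : r ∣ Nat.card M := hrd.trans (Subgroup.card_dvd_of_le hYM)
      rw [← card_mul_card_of_isComplIn hc] at hrM
      rcases (Nat.Prime.dvd_mul hr).mp hrM with h | h
      · exact Cfsg.Agent.Lib.BGZ2.kappa_not_tau2 (hKU.hall.2.1 r hr h) hτ
      · exact hτ.2.1 (primes_sigmaCore r hr h)
    rw [hbot]
    exact bot_le
  rw [h3]
  exact sup_le (Subgroup.map_subtype_le _) hY

theorem s1357_core (hG : IsMinSimpleOddOrder G) (hM : IsCoatom M) (hKU : IsSigmaDecomposition M K U)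
    (hne : fittingHallOf M ≠ sigmaCore M)
    (hprime : ∀ k ∈ K, k ≠ 1 → sigmaCore M ⊓ centralizer ({k} : Set G) = sigmaCore M ⊓ centralizer (K : Set G))
    (hqp : U = ⊥ → (Nat.card ↥(sigmaCore M ⊓ centralizer (K : Set G))).Prime) :
    U = ⊥ ∧ IsTISubset (fittingOf M : Set G) ∧ (Nat.card K).Prime := by
  classical
  obtain ⟨hU, -, hKp, hq, -, hqβ, Q, hQF, hMQ, hQp, hqQ, -⟩ := s1437_core hG hM hKU hne hprime hqp
  refine ⟨hU, ?_, hKp⟩
  set W : Subgroup G := sigmaCore M with hW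
  set Ks : Subgroup G := W ⊓ centralizer (K : Set G) with hKs
  set q : ℕ := Nat.card Ks with hqdef
  haveI hqf : Fact q.Prime := ⟨hq⟩
  have hc : IsComplIn K W M := compl_K hKU hU
  have hFW : fittingOf M ≤ W := fitting_le_sigma hG hM hKU hU
  have hFn := isNilpotent_fittingOf M
  have hFM : fittingOf M ≤ M := Subgroup.map_subtype_le _
  have hQM : Q ≤ M := hQF.trans (Cfsg.Agent.Lib.BGCent.fittingHallOf_le_sigmaCore hG hM |>.trans sigmaCore_le)
  have hQ : Q ≤ fittingOf M := by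
    apply le_fittingOf M Q hQM
    · intro k hk l hl
      exact (mem_normalizer_iff.mp (hMQ hk) l).mp hl
    · exact hQp.isNilpotent
  have hQW : Q ≤ W := hQF.trans (Cfsg.Agent.Lib.BGCent.fittingHallOf_le_sigmaCore hG hM)
  have hS : IsSylowIn q Q W := isSylowIn_of_not_dvd hQW hQp hqQ
  intro g hg x hx hy
  by_contra hx1
  have hgM : g ∉ M := fun h => hg (Cfsg.Agent.Lib.BGFit2.le_normalizer_fittingOf M h)
  have hyW : g * x * g⁻¹ ∈ W ⊓ cj M g := ⟨hFW hy, conj_mem_cj (hFM hx)⟩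
  obtain ⟨-, hpr, -⟩ := (Cfsg.Agent.S1426.result hG M hM K hc).2.2 g hgM
  have hqo : ¬ q ∣ orderOf (g * x * g⁻¹) := by
    intro h
    have h1 : orderOf (g * x * g⁻¹) ∣ Nat.card ↥(W ⊓ cj M g) := by
      have := orderOf_dvd_natCard (⟨_, hyW⟩ : ↥(W ⊓ cj M g))
      rwa [Subgroup.orderOf_mk] at this
    exact hpr q hq (h.trans h1) hqβ
  have hxpow : x ^ orderOf (g * x * g⁻¹) = 1 := by
    have h1 : (g * x * g⁻¹) ^ orderOf (g * x * g⁻¹) = 1 := pow_orderOf_eq_one _
    rw [conj_pow] at h1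
    simpa using h1
  have hQx : Q ≤ centralizer ({x} : Set G) := by
    intro a ha
    obtain ⟨k, hk⟩ := IsPGroup.iff_card.mp hQp
    have hak : a ^ q ^ k = 1 := by
      have := pow_card_eq_one' (x := (⟨a, ha⟩ : Q))
      rw [hk] at this
      exact congrArg Subtype.val this
    have h1 := comm_in_fitting hFn (hQ ha) hx hak hxpow hqo
    rw [Subgroup.mem_centralizer_singleton_iff]
    exact h1
  have hQy : Q ≤ cj (centralizer ({x} : Set G)) g := by
    intro a ha
    rw [mem_cj]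
    obtain ⟨k, hk⟩ := IsPGroup.iff_card.mp hQp
    have hak : a ^ q ^ k = 1 := by
      have := pow_card_eq_one' (x := (⟨a, ha⟩ : Q))
      rw [hk] at this
      exact congrArg Subtype.val this
    have h1 := comm_in_fitting hFn (hQ ha) hy hak (pow_orderOf_eq_one _) hqo
    rw [Subgroup.mem_centralizer_singleton_iff]
    calc g⁻¹ * a * g * x = g⁻¹ * (a * (g * x * g⁻¹)) * g := by group
      _ = g⁻¹ * ((g * x * g⁻¹) * a) * g := by rw [h1]
      _ = _ := by group
  obtain ⟨L, hL, hCL⟩ := exists_coatom_ge_centralizer hG hx1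
  have hqσ : q ∈ sigma M := by
    apply primes_sigmaCore q hq
    rw [hqdef]
    exact Subgroup.card_dvd_of_le inf_le_left
  have hKsM : Ks ≤ M := inf_le_left.trans sigmaCore_le
  obtain ⟨-, huq, -⟩ := Cfsg.Agent.S1423.result hG M hM q hqσ Ks hKsM rfl hS.toSylow (Or.inl hqβ)
  rw [map_toSylow hS] at huq
  obtain ⟨M₀, -, hM₀⟩ := huq
  have e1 : L = M₀ := hM₀ L ⟨hL, hQx.trans hCL⟩
  have e2 : M = M₀ := hM₀ M ⟨hM, hQM⟩
  have e3 : cj L g = M₀ := by
    apply hM₀ _ ⟨isCoatom_cj hL g, ?_⟩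
    refine hQy.trans ?_
    exact Subgroup.map_mono hCL
  have e4 : cj M g = M := by
    rw [e2, ← e1]
    rw [← e1] at e3
    rw [e3]
  apply hgM
  rw [← Cfsg.Agent.Lib.BGZ6.normalizer_coatom hG hM]
  exact mem_normalizer_of_cj_eq e4


/-! ### Auxiliary -/

theorem mem_of_coprime {H L : Subgroup G} (hHL : H ≤ L) (hn : L ≤ normalizer (H : Set G)) {x : G} (hx : x ∈ L)
    (h : (orderOf x).Coprime (H.relIndex L)) : x ∈ H := by
  haveI h₁ : (H.subgroupOf L).Normal := (Subgroup.normal_subgroupOf_iff_le_normalizer hHL).mpr hn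
  have h2 : (⟨x, hx⟩ : L) ^ (H.subgroupOf L).index ∈ H.subgroupOf L := Subgroup.pow_index_mem _ _
  have h3 : x ^ H.relIndex L ∈ H := by
    have h4 := Subgroup.mem_subgroupOf.mp h2
    simpa [Subgroup.relIndex] using h4
  obtain ⟨m, hm⟩ := exists_pow_eq_self_of_coprime h.symm
  rw [← hm]
  exact pow_mem h3 m

theorem comm_coprime {X : Type*} [Group X] [Finite X] (hX : Group.IsNilpotent X) {a b : X} {m n : ℕ} (ha : a ^ m = 1)
    (hb : b ^ n = 1) (hmn : m.Coprime n) : a * b = b * a := by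
  classical
  obtain ⟨e⟩ := (Group.isNilpotent_of_finite_tfae (G := X)).out 0 4 |>.mp hX
  apply e.symm.injective
  rw [map_mul, map_mul]
  funext q Q
  show (e.symm a) q Q * (e.symm b) q Q = (e.symm b) q Q * (e.symm a) q Q
  haveI hqf : Fact (q : ℕ).Prime := ⟨Nat.prime_of_mem_primeFactors q.2⟩
  have hQp : IsPGroup (q : ℕ) (Q : Subgroup X) := Q.isPGroup'
  obtain ⟨s, hs⟩ := IsPGroup.iff_card.mp hQp
  have hone : ∀ (y : (Q : Subgroup X)) (n : ℕ), y ^ n = 1 → ¬ (q : ℕ) ∣ n → y = 1 := by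
    intro y n hy hn
    have h1 : orderOf y ∣ n := orderOf_dvd_of_pow_eq_one hy
    have h2 : orderOf y ∣ (q : ℕ) ^ s := by
      rw [← hs]; exact orderOf_dvd_natCard y
    have h3 : Nat.Coprime ((q : ℕ) ^ s) n :=
      Nat.Coprime.pow_left _ ((Nat.Prime.coprime_iff_not_dvd hqf.out).mpr hn)
    have h4 : orderOf y = 1 := Nat.eq_one_of_dvd_coprimes h3 h2 h1
    exact orderOf_eq_one_iff.mp h4
  have hpow : ∀ (c : X) (k : ℕ), c ^ k = 1 → (e.symm c) q Q ^ k = 1 := by
    intro c k hc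
    have h1 : (e.symm (c ^ k)) q Q = 1 := by
      rw [hc, map_one]
      rfl
    rw [map_pow] at h1
    exact h1
  by_cases hqm : (q : ℕ) ∣ m
  · have hqn : ¬ (q : ℕ) ∣ n := by
      intro h
      have := Nat.dvd_gcd hqm h
      rw [hmn] at this
      exact hqf.out.one_lt.ne' (Nat.dvd_one.mp this)
    rw [hone _ n (hpow b n hb) hqn, mul_one, one_mul]
  · rw [hone _ m (hpow a m ha) hqm, mul_one, one_mul]

theorem comm_in_fitting' {F : Subgroup G} (hF : Group.IsNilpotent F) {a b : G} (ha : a ∈ F) (hb : b ∈ F) {m n : ℕ}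
    (ham : a ^ m = 1) (hbn : b ^ n = 1) (hmn : m.Coprime n) : a * b = b * a := by
  have h := comm_coprime hF (a := (⟨a, ha⟩ : F)) (b := ⟨b, hb⟩) (m := m) (n := n)
    (Subtype.ext (by simpa using ham)) (Subtype.ext (by simpa using hbn)) hmn
  exact congrArg Subtype.val h

/-- The quotient statement. -/
theorem nilpotent_image {D : Subgroup G} (hDM : D ≤ M) (hD : Group.IsNilpotent D)
    (h : ∀ a ∈ ⁅M, M⁆, ∃ b ∈ fittingHallOf M, ∃ d ∈ D, a = b * d) :
    Group.IsNilpotent ↥((commutator ↥M).map (QuotientGroup.mk' (fittingHall ↥M))) := by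
  classical
  set φ := QuotientGroup.mk' (fittingHall ↥M) with hφ
  have hD₁ : Group.IsNilpotent (D.subgroupOf M) :=
    (Group.isNilpotent_congr (Subgroup.subgroupOfEquivOfLe hDM)).mpr hD
  have h₂ : Group.IsNilpotent ((D.subgroupOf M).map φ) :=
    Group.nilpotent_of_surjective (φ.subgroupMap (D.subgroupOf M)) (φ.subgroupMap_surjective _)
  refine Cfsg.Agent.Lib.OddOrderCore.isNilpotent_of_le ?_ h₂
  rintro _ ⟨a, ha, rfl⟩
  have ha' : (a : G) ∈ ⁅M, M⁆ := by
    rw [← Subgroup.map_subtype_commutator M]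
    exact ⟨a, ha, rfl⟩
  obtain ⟨b, ⟨b', hb', rfl⟩, d, hd, e⟩ := h _ ha'
  have hdM := hDM hd
  refine ⟨⟨d, hdM⟩, hd, ?_⟩
  have e2 : a = b' * ⟨d, hdM⟩ := Subtype.ext e
  rw [e2, map_mul]
  have : φ b' = 1 := (QuotientGroup.eq_one_iff _).mpr hb'
  rw [this, one_mul]

theorem derived_lt (hG : IsMinSimpleOddOrder G) (hM : IsCoatom M) : ⁅M, M⁆ < M := by
  haveI : Group.IsSolvable M := solvable_of_le_coatom hG hM le_rfl
  haveI : Nontrivial M := (Subgroup.nontrivial_iff_ne_bot M).mpr (Cfsg.Agent.Lib.BGSigma2.coatom_ne_bot hG hM)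
  have h := Group.IsSolvable.commutator_lt_top_of_nontrivial (G := ↥M)
  refine lt_of_le_of_ne (Subgroup.commutator_le_self M) ?_
  intro e
  apply h.ne
  have h1 := Subgroup.map_subtype_commutator M
  rw [e] at h1
  apply Subgroup.map_injective M.subtype_injective
  rw [h1, ← MonoidHom.range_eq_map, Subgroup.range_subtype]

theorem nilp_fittingHallOf (M : Subgroup G) : Group.IsNilpotent (fittingHallOf M) := by
  have := (Cfsg.Agent.Lib.OddOrderCore.fittingHall_mem ↥M).2.1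
  exact Group.nilpotent_of_mulEquiv (Subgroup.equivMapOfInjective _ _ M.subtype_injective)

/-- An element of `⁅M, M⁆` factorises in the nilpotent case. -/
theorem exists_compl (hG : IsMinSimpleOddOrder G) (hM : IsCoatom M) : ∃ E : Subgroup G, IsComplIn E (sigmaCore M) M := by
  obtain ⟨E, -, hE⟩ := Cfsg.Agent.Lib.BGCent.exists_compl_ge hG hM (Y := ⊥) bot_le (by
    intro r hr hd
    rw [Subgroup.card_bot] at hd
    exact (hr.one_lt.ne' (Nat.dvd_one.mp hd)).elim)
  exact ⟨E, hE⟩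

theorem dec_derived {E : Subgroup G} (hE : IsComplIn E (sigmaCore M) M) {a : G} (ha : a ∈ ⁅M, M⁆) :
    ∃ b ∈ sigmaCore M, ∃ d ∈ ⁅E, E⁆, a = b * d := by
  have h1 : a ∈ sigmaCore M ⊔ ⁅E, E⁆ := commutator_le_sup hE ha
  have hn : ⁅E, E⁆ ≤ normalizer (sigmaCore M : Set G) :=
    (Subgroup.commutator_le_self E).trans (hE.1.trans le_normalizer_sigmaCore)
  have h2 : a ∈ (((sigmaCore M ⊔ ⁅E, E⁆ : Subgroup G)) : Set G) := h1
  rw [Subgroup.coe_mul_of_right_le_normalizer_left _ _ hn, Set.mem_mul] at h2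
  obtain ⟨b, hb, d, hd, e⟩ := h2
  exact ⟨b, hb, d, hd, e.symm⟩

/-- The nilpotent half of the last clause of S1355. -/
theorem image_nil (hG : IsMinSimpleOddOrder G) (hM : IsCoatom M) (hnil : Group.IsNilpotent (sigmaCore M)) :
    Group.IsNilpotent ↥((commutator ↥M).map (QuotientGroup.mk' (fittingHall ↥M))) := by
  obtain ⟨E, hE⟩ := exists_compl hG hM
  apply nilpotent_image ((Subgroup.commutator_le_self E).trans hE.1) (Cfsg.Agent.S1415.result hG M hM E hE).1
  intro a ha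
  obtain ⟨b, hb, d, hd, e⟩ := dec_derived hE ha
  refine ⟨b, ?_, d, hd, e⟩
  rwa [← Cfsg.Agent.Lib.BGCent.sigmaCore_eq_fittingHallOf hG hM hnil]

/-- **S1355**, modulo the input on `K`. -/
theorem s1355_core (hG : IsMinSimpleOddOrder G) (hM : IsCoatom M) (hKU : IsSigmaDecomposition M K U)
    (hprime : ∀ k ∈ K, k ≠ 1 → sigmaCore M ⊓ centralizer ({k} : Set G) = sigmaCore M ⊓ centralizer (K : Set G))
    (hqp : U = ⊥ → (Nat.card ↥(sigmaCore M ⊓ centralizer (K : Set G))).Prime) :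
    fittingHallOf M ≠ ⊥ ∧ fittingHallOf M ≤ sigmaCore M ∧ sigmaCore M ≤ ⁅M, M⁆ ∧ ⁅M, M⁆ < M ∧
      Group.IsNilpotent ↥((commutator ↥M).map (QuotientGroup.mk' (fittingHall ↥M))) := by
  classical
  refine ⟨?_, Cfsg.Agent.Lib.BGCent.fittingHallOf_le_sigmaCore hG hM, Cfsg.Agent.Lib.BGP3D.sigmaCore_le_derived hG hM,
    derived_lt hG hM, ?_⟩
  · by_cases hnil : Group.IsNilpotent (sigmaCore M)
    · rw [← Cfsg.Agent.Lib.BGCent.sigmaCore_eq_fittingHallOf hG hM hnil]
      exact Cfsg.Agent.Lib.BGTau7.sigmaCore_ne_bot hG hM (Cfsg.Agent.Lib.BGSigma2.coatom_ne_bot hG hM)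
    · have hne : fittingHallOf M ≠ sigmaCore M := fun h => hnil (h ▸ nilp_fittingHallOf M)
      obtain ⟨-, -, -, hq, hd, -⟩ := s1437_core hG hM hKU hne hprime hqp
      intro h
      rw [h, Subgroup.card_bot] at hd
      exact hq.one_lt.ne' (Nat.dvd_one.mp hd)
  · by_cases hnil : Group.IsNilpotent (sigmaCore M)
    · exact image_nil hG hM hnil
    · have hne : fittingHallOf M ≠ sigmaCore M := fun h => hnil (h ▸ nilp_fittingHallOf M)
      obtain ⟨-, hMeq, -, hq, -, -, Q, hQF, hMQ, hQp, hqQ, hD⟩ := s1437_core hG hM hKU hne hprime hqp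
      haveI hqf : Fact (Nat.card ↥(sigmaCore M ⊓ centralizer (K : Set G))).Prime := ⟨hq⟩
      have hQW : Q ≤ sigmaCore M := hQF.trans (Cfsg.Agent.Lib.BGCent.fittingHallOf_le_sigmaCore hG hM)
      have hS := isSylowIn_of_not_dvd hQW hQp hqQ
      obtain ⟨D, hDc⟩ := exists_compl_sylow hS (sigmaCore_le.trans hMQ)
      obtain ⟨hDn, -⟩ := hD D hDc
      apply nilpotent_image (hDc.2.1.trans sigmaCore_le) hDn
      intro a ha
      rw [← hMeq] at ha
      obtain ⟨x, hx, d, hd, e⟩ := hDc.2.2.2 a ha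
      exact ⟨x, hQF hx, d, hd, e⟩

end Cfsg.Agent.Lib.H6F5
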