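import Mathlib
import Cfsg.Agent.Lib.H6F5
import Cfsg.Agent.Lib.BGCent14

/-!
# `M''`, `F(M)` and `C_M(M_F)` for maximal subgroups
-/

set_option autoImplicit false
set_option linter.unusedSectionVars false
set_option linter.unusedVariables false
set_option linter.style.haveILetI false
set_option linter.unusedSimpArgs false
set_option linter.unusedDecidableInType false
set_option linter.unusedFintypeInType false

namespace Cfsg.Agent.Lib.H6F6

open Cfsg Subgroup Cfsg.Agent.Lib.BGFree3 Cfsg.Agent.Lib.Glauberman Cfsg.Agent.Lib.CoprimeInv Cfsg.Agent.Lib.H6F1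
open Cfsg.Agent.Lib.H6F2 Cfsg.Agent.Lib.H6F3 Cfsg.Agent.Lib.H6F4 Cfsg.Agent.Lib.H6F5 Cfsg.Agent.Lib.PCore Cfsg.Agent.Lib.BGM1
open Cfsg.Agent.Lib.BGM2
open Cfsg.Agent.Lib.OddOrderCore Cfsg.Agent.Lib.BGUniq2 Cfsg.Agent.Lib.BGFix Cfsg.Agent.Lib.BGUniq3 Cfsg.Agent.Lib.BGTrans
open Cfsg.Agent.Lib.BGZ1

open scoped commutatorElement

universe u

variable {G : Type u} [Group G] [Finite G] {M K U : Subgroup G}

theorem F_sub (M : Subgroup G) : (fittingHallOf M).subgroupOf M = fittingHall ↥M := by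
  rw [fittingHallOf, Subgroup.subgroupOf, Subgroup.comap_map_eq_self_of_injective M.subtype_injective]

theorem F_le (M : Subgroup G) : fittingHallOf M ≤ M := Subgroup.map_subtype_le _

theorem F_norm (M : Subgroup G) : M ≤ normalizer (fittingHallOf M : Set G) := by
  obtain ⟨hFn', -, -⟩ := Cfsg.Agent.Lib.OddOrderCore.fittingHall_mem ↥M
  haveI : ((fittingHallOf M).subgroupOf M).Normal := by rw [F_sub]; exact hFn'
  exact Subgroup.le_normalizer_of_normal_subgroupOf (F_le M)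

theorem F_cop (M : Subgroup G) : (Nat.card (fittingHallOf M)).Coprime ((fittingHallOf M).relIndex M) := by
  obtain ⟨-, -, hFc⟩ := Cfsg.Agent.Lib.OddOrderCore.fittingHall_mem ↥M
  have h1 : (fittingHallOf M).relIndex M = (fittingHall ↥M).index := by
    rw [Subgroup.relIndex, F_sub]
  have h2 : Nat.card (fittingHallOf M) = Nat.card (fittingHall ↥M) :=
    Nat.card_congr (Subgroup.equivMapOfInjective _ _ M.subtype_injective).symm.toEquiv
  rw [h1, h2]
  exact hFc

theorem F_le_fitting (M : Subgroup G) : fittingHallOf M ≤ fittingOf M := by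
  apply le_fittingOf M _ (F_le M)
  · intro k hk l hl
    exact conj_mem_of_le (F_norm M) hk hl
  · exact nilp_fittingHallOf M

/-- `F(M) ≤ C_M(M_F) M_F`. -/
theorem fitting_le_cent_sup (M : Subgroup G) :
    fittingOf M ≤ (M ⊓ centralizer (fittingHallOf M : Set G)) ⊔ fittingHallOf M := by
  classical
  intro x hx
  obtain ⟨b, c, e, hbc, ⟨n, hn⟩, ⟨m, hm⟩, hb, hc⟩ :=
    Cfsg.Agent.Lib.BGZ8.exists_split {r | r ∣ Nat.card (fittingHallOf M)} x
  have hxM : x ∈ M := Subgroup.map_subtype_le _ hx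
  have hbM : b ∈ M := hn ▸ pow_mem hxM n
  have hcF : c ∈ fittingOf M := hm ▸ pow_mem hx m
  have hcM : c ∈ M := Subgroup.map_subtype_le _ hcF
  have hbF : b ∈ fittingHallOf M := by
    apply mem_of_coprime (F_le M) (F_norm M) hbM
    apply Nat.coprime_of_dvd
    intro r hr h1 h2
    have h3 := Nat.dvd_gcd (hb r hr h1) h2
    rw [F_cop M] at h3
    exact hr.one_lt.ne' (Nat.dvd_one.mp h3)
  have hcC : c ∈ M ⊓ centralizer (fittingHallOf M : Set G) := by
    refine ⟨hcM, ?_⟩
    show c ∈ centralizer (fittingHallOf M : Set G)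
    rw [Subgroup.mem_centralizer_iff]
    intro a ha
    apply comm_in_fitting' (isNilpotent_fittingOf M) (F_le_fitting M ha) hcF (m := Nat.card (fittingHallOf M))
      (n := orderOf c)
    · have := pow_card_eq_one' (x := (⟨a, ha⟩ : fittingHallOf M))
      exact congrArg Subtype.val this
    · exact pow_orderOf_eq_one c
    · apply Nat.coprime_of_dvd
      intro r hr h1 h2
      exact hc r hr h2 h1
  rw [e, hbc]
  exact mul_mem (mem_sup_left hcC) (mem_sup_right hbF)

theorem cent_invariant (M : Subgroup G) {A : Subgroup G} (hA : M ≤ normalizer (A : Set G)) :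
    ∀ k ∈ M, ∀ l ∈ M ⊓ centralizer (A : Set G), k * l * k⁻¹ ∈ M ⊓ centralizer (A : Set G) := by
  intro k hk l hl
  refine ⟨M.mul_mem (M.mul_mem hk hl.1) (M.inv_mem hk), ?_⟩
  exact conj_mem_of_le (fun g hg => mem_norm_centralizer (hA hg)) hk hl.2

/-- A `κ`-element does not centralise `M_σ`. -/
theorem not_kappa_cent (I : Inp G) (hM : IsCoatom M) {x' : G} (hx'M : x' ∈ M)
    (hx'C : x' ∈ centralizer (sigmaCore M : Set G)) (hx'1 : x' ≠ 1)
    (hκ : ∀ p : ℕ, p.Prime → p ∣ orderOf x' → p ∈ kappa M) : False := by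
  classical
  have hG := I.hG
  obtain ⟨⟨K₀, hK₀⟩, -⟩ := Cfsg.Agent.Lib.BGZ9.s1351 I M hM
  have hY : zpowers x' ≤ M := (Subgroup.zpowers_le).mpr hx'M
  obtain ⟨m, hm, hle⟩ := Cfsg.Agent.Lib.BGZ8.exists_conj_le_hall (solvable_of_le_coatom hG hM le_rfl) hK₀ hY (by
    intro r hr h
    rw [Nat.card_zpowers] at h
    exact hκ r hr h)
  have h1 : x' ∈ cj K₀ m := hle (Subgroup.mem_zpowers x')
  rw [mem_cj] at h1
  have hk1 : m⁻¹ * x' * m ≠ 1 := by
    intro h
    apply hx'1
    have : x' = m * (m⁻¹ * x' * m) * m⁻¹ := by group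
    rw [this, h]
    group
  have hK1 : K₀ ≠ ⊥ := by
    rintro rfl
    exact hk1 (by simpa using h1)
  obtain ⟨h30, -, -⟩ := I.s30 M hM K₀ hK₀ hK1
  have hWK : sigmaCore M ≤ sigmaCore M ⊓ centralizer (K₀ : Set G) := by
    rw [← h30 _ h1 hk1]
    intro w hw
    refine ⟨hw, ?_⟩
    show w ∈ centralizer ({m⁻¹ * x' * m} : Set G)
    rw [Subgroup.mem_centralizer_singleton_iff]
    have h2 : m * w * m⁻¹ ∈ sigmaCore M := conj_mem_of_le le_normalizer_sigmaCore hm hw
    have h3 := Subgroup.mem_centralizer_iff.mp hx'C _ h2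
    calc w * (m⁻¹ * x' * m) = m⁻¹ * ((m * w * m⁻¹) * x') * m := by group
      _ = m⁻¹ * (x' * (m * w * m⁻¹)) * m := by rw [h3]
      _ = _ := by group
  obtain ⟨-, -, h3, -⟩ := I.s31 M hM K₀ hK₀ hK1
  have hW1 : sigmaCore M ≠ ⊥ := Cfsg.Agent.Lib.BGTau7.sigmaCore_ne_bot hG hM (Cfsg.Agent.Lib.BGSigma2.coatom_ne_bot hG hM)
  have hc1 : Nat.card (sigmaCore M) ≠ 1 := fun h => hW1 (Subgroup.card_eq_one.mp h)
  obtain ⟨p, hp, hpd⟩ := Nat.exists_prime_and_dvd hc1
  haveI : Fact p.Prime := ⟨hp⟩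
  obtain ⟨S⟩ : Nonempty (Sylow p ↥(sigmaCore M)) := inferInstance
  apply (h3 p hp (hpd.trans (Subgroup.card_dvd_of_le hWK)) S).2.2
  exact (Subgroup.map_subtype_le _).trans hWK

/-- `C_M(M_σ) ≤ F(M)` when `M_σ` is nilpotent. -/
theorem cent_le_fitting_nil (I : Inp G) (hM : IsCoatom M) (hnil : Group.IsNilpotent (sigmaCore M)) :
    M ⊓ centralizer (sigmaCore M : Set G) ≤ fittingOf M := by
  classical
  have hG := I.hG
  have hW1 : sigmaCore M ≠ ⊥ := Cfsg.Agent.Lib.BGTau7.sigmaCore_ne_bot hG hM (Cfsg.Agent.Lib.BGSigma2.coatom_ne_bot hG hM)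
  have hτ : ∀ x' ∈ M ⊓ centralizer (sigmaCore M : Set G), x' ≠ 1 → (∀ p : ℕ, p.Prime → p ∣ orderOf x' → p ∉ sigma M) →
      ∀ p : ℕ, p.Prime → p ∣ orderOf x' → p ∈ tau2 M := by
    intro x' hx' hx'1 hσ
    obtain ⟨x, hx, hx1⟩ : ∃ x ∈ sigmaCore M, x ≠ 1 := by
      by_contra hno
      push Not at hno
      exact hW1 (eq_bot_iff.mpr fun a ha => hno a ha)
    have hcomm : x' ∈ M ⊓ centralizer ({x} : Set G) := by
      refine ⟨hx'.1, ?_⟩
      show x' ∈ centralizer ({x} : Set G)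
      rw [Subgroup.mem_centralizer_singleton_iff]
      exact (Subgroup.mem_centralizer_iff.mp hx'.2 x hx).symm
    rcases I.s32 M hM x hx hx1 x' hcomm hx'1 hσ with ⟨hκ, -⟩ | ⟨h, -⟩
    · exact (not_kappa_cent I hM hx'.1 hx'.2 hx'1 hκ).elim
    · exact h
  obtain ⟨X, hXc, hXτ, hXe⟩ := Cfsg.Agent.Lib.BGCent.first_part hG hM le_rfl hW1 hτ
  have hXC : X ≤ centralizer (sigmaCore M : Set G) := by
    have : X ≤ M ⊓ centralizer (sigmaCore M : Set G) := by
      rw [hXe]
      exact le_sup_right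
    exact this.trans inf_le_right
  have hAX : sigmaCore M ⊓ centralizer (sigmaCore M : Set G) ≤ centralizer (X : Set G) := by
    intro a ha
    rw [Subgroup.mem_centralizer_iff]
    intro x hx
    exact (Subgroup.mem_centralizer_iff.mp (hXC hx) a ha.1).symm
  have hXA : X ≤ centralizer ((sigmaCore M ⊓ centralizer (sigmaCore M : Set G) : Subgroup G) : Set G) := by
    intro x hx
    rw [Subgroup.mem_centralizer_iff]
    intro a ha
    exact Subgroup.mem_centralizer_iff.mp (hXC hx) a ha.1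
  apply le_fittingOf M _ inf_le_left (cent_invariant M le_normalizer_sigmaCore)
  rw [hXe]
  have hXn : Group.IsNilpotent X := by
    haveI := hXc
    letI : CommGroup X := IsCyclic.commGroup
    exact CommGroup.isNilpotent
  refine nilpotent_of_two_normal rfl ?_ ?_ (Cfsg.Agent.Lib.OddOrderCore.isNilpotent_of_le inf_le_left hnil) hXn
  · exact sup_le Subgroup.le_normalizer (hXA.trans (Subgroup.centralizer_le_normalizer _))
  · exact sup_le (hAX.trans (Subgroup.centralizer_le_normalizer _)) Subgroup.le_normalizer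

/-- If `Q` is a normal Sylow subgroup of `M_σ` whose complements are nilpotent then `C_{M_σ}(Q) ≤ F(M)`. -/
theorem cQ_le_fitting {q : ℕ} [hq : Fact q.Prime] {Q : Subgroup G} (hS : IsSylowIn q Q (sigmaCore M))
    (hMQ : M ≤ normalizer (Q : Set G))
    (hD : ∀ D : Subgroup G, D ≤ sigmaCore M → D ⊓ Q = ⊥ → Group.IsNilpotent D) :
    sigmaCore M ⊓ centralizer (Q : Set G) ≤ fittingOf M := by
  classical
  set N₁ : Subgroup G := sigmaCore M ⊓ centralizer (Q : Set G) with hN₁
  have hWM : sigmaCore M ≤ M := sigmaCore_le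
  have hN₁M : N₁ ≤ M := inf_le_left.trans hWM
  have hN₁Q : N₁ ≤ normalizer ((N₁ ⊓ Q : Subgroup G) : Set G) := fun n hn =>
    mem_norm_inf (Subgroup.le_normalizer hn) (hMQ (hN₁M hn))
  have hS₁ : IsSylowIn q (N₁ ⊓ Q) N₁ := by
    refine ⟨inf_le_left, hS.2.1.to_le inf_le_right, fun R hR hRp hAR => ?_⟩
    have hRQ : R ≤ Q := by
      have h1 : IsPGroup q (Q ⊔ R : Subgroup G) :=
        hS.2.1.to_sup_of_normal_left' hRp ((hR.trans hN₁M).trans hMQ)
      have h2 := hS.2.2 (Q ⊔ R) (sup_le hS.1 (hR.trans inf_le_left)) h1 le_sup_left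
      rw [← h2]
      exact le_sup_right
    exact le_antisymm (le_inf hR hRQ) hAR
  obtain ⟨D₁, hD₁⟩ := exists_compl_sylow hS₁ hN₁Q
  have hD₁Q : D₁ ⊓ Q = ⊥ := by
    rw [eq_bot_iff, ← hD₁.2.2.1]
    rintro a ⟨ha, haQ⟩
    exact ⟨⟨hD₁.2.1 ha, haQ⟩, ha⟩
  have hD₁n := hD D₁ (hD₁.2.1.trans inf_le_left) hD₁Q
  have hAn : Group.IsNilpotent ((N₁ ⊓ Q : Subgroup G)) := hS₁.2.1.isNilpotent
  have hAD : N₁ ⊓ Q ≤ centralizer (D₁ : Set G) := by
    intro a ha
    rw [Subgroup.mem_centralizer_iff]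
    intro d hd
    exact (Subgroup.mem_centralizer_iff.mp (hD₁.2.1 hd).2 a ha.2).symm
  apply le_fittingOf M _ hN₁M
  · intro k hk l hl
    exact conj_mem_of_le (fun g hg => mem_norm_inf (le_normalizer_sigmaCore hg) (mem_norm_centralizer (hMQ hg))) hk hl
  · refine nilpotent_of_two_normal (IsComplIn.sup_eq hD₁) hN₁Q ?_ hAn hD₁n
    rw [← IsComplIn.sup_eq hD₁]
    exact sup_le (hAD.trans (Subgroup.centralizer_le_normalizer _)) Subgroup.le_normalizer

/-- The derived subgroup of the complement centralises `Q`. -/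
theorem comm_D_le (hodd : Odd (Nat.card G)) {q : ℕ} [hq : Fact q.Prime] {Q D K Ks : Subgroup G}
    (S : FrobSetup q Q D K Ks) : ⁅D, D⁆ ≤ centralizer (Q : Set G) := by
  classical
  obtain ⟨y, hy, hy1⟩ := S.exists_k
  obtain ⟨hKp, hKo⟩ := S.K_prime
  have hoy := hKo y hy hy1
  have hoddD : Odd (Nat.card D) := Odd.of_dvd_nat hodd (Subgroup.card_dvd_of_le le_top |> fun h => by
    simpa using h)
  have hoddK : Odd (Nat.card K) := Odd.of_dvd_nat hodd (Subgroup.card_dvd_of_le le_top |> fun h => by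
    simpa using h)
  have hcop : (Nat.card ↥(D ⊔ K)).Coprime (Nat.card Q) := by
    apply cop_of_pgroup S.hQ
    have h1 := card_sup_mul_card_inf (H := K) (N := D) S.hKD
    rw [sup_comm] at h1
    have h2 : Nat.card ↥(D ⊔ K) ∣ Nat.card K * Nat.card D := Dvd.intro _ h1
    exact Nat.Coprime.coprime_dvd_left h2 (Nat.Coprime.mul_left S.hcopK S.hcopD)
  refine comm_all D (D ⊔ K) Q le_sup_left (mem_sup_right hy) ?_ hKp hoddK ?_ S.hsolvD hoddD hcop S.hQ.isNilpotent ?_ ?_ ?_
  · intro g hg a ha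
    exact conj_mem_of_le (sup_le S.hDQ S.hKQ) hg ha
  · rw [← hoy]
    exact pow_orderOf_eq_one y
  · intro k hk
    exact conj_mem_of_le S.hKD hy hk
  · intro k hk hc
    exact S.hfree y hy hy1 k hk hc
  · rw [S.hfix y hy hy1]
    haveI : Fact (Nat.card Ks).Prime := ⟨S.hKs ▸ hq.out⟩
    exact isCyclic_of_prime_card rfl

theorem second_derived {F D : Subgroup G} (hF : M ≤ normalizer (F : Set G)) (hD : D ≤ M) (hFM : F ≤ M)
    (hcomm : ⁅D, D⁆ ≤ F) (hdec : ∀ a ∈ ⁅M, M⁆, ∃ b ∈ F, ∃ d ∈ D, a = b * d) : ⁅⁅M, M⁆, ⁅M, M⁆⁆ ≤ F := by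
  rw [Subgroup.commutator_le]
  intro a ha b hb
  obtain ⟨n₁, hn₁, e₁, he₁, rfl⟩ := hdec a ha
  obtain ⟨n₂, hn₂, e₂, he₂, rfl⟩ := hdec b hb
  have key : ⁅n₁ * e₁, n₂ * e₂⁆ = (n₁ * (e₁ * n₂ * e₁⁻¹)) * ⁅e₁, e₂⁆ * (n₂ * (e₂ * n₁ * e₂⁻¹))⁻¹ := by
    simp only [commutatorElement_def]
    group
  rw [key]
  have h1 : e₁ * n₂ * e₁⁻¹ ∈ F := conj_mem_of_le hF (hD he₁) hn₂
  have h2 : e₂ * n₁ * e₂⁻¹ ∈ F := conj_mem_of_le hF (hD he₂) hn₁
  exact mul_mem (mul_mem (mul_mem hn₁ h1) (hcomm (Subgroup.commutator_mem_commutator he₁ he₂)))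
    (inv_mem (mul_mem hn₂ h2))

/-- `U ≤ M'` when `K ≠ 1`. -/
theorem U_le_derived (hG : IsMinSimpleOddOrder G) (kf : Cfsg.Agent.Lib.BGCent.KappaFacts G) (hM : IsCoatom M)
    (hKU : IsSigmaDecomposition M K U) (hK1 : K ≠ ⊥) : U ≤ ⁅M, M⁆ := by
  classical
  obtain ⟨k, hk, hk1⟩ : ∃ k ∈ K, k ≠ 1 := by
    by_contra hno
    push Not at hno
    exact hK1 (eq_bot_iff.mpr fun a ha => hno a ha)
  have hfix := Cfsg.Agent.Lib.BGCent.fixed_points_U hG kf hM hKU k hk hk1
  have hUM : U ≤ M := hKU.compl.1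
  have hkM : k ∈ M := hKU.hall.1 hk
  let f : ↥U → ↥U := fun v => ⟨(v : G) * (k * (v : G)⁻¹ * k⁻¹),
    U.mul_mem v.2 (conj_mem_of_le hKU.normal hk (U.inv_mem v.2))⟩
  have hinj : Function.Injective f := by
    intro v w h
    have h1 : (v : G) * (k * (v : G)⁻¹ * k⁻¹) = (w : G) * (k * (w : G)⁻¹ * k⁻¹) := congrArg Subtype.val h
    have h3 : (v : G) * k * (v : G)⁻¹ = (w : G) * k * (w : G)⁻¹ := by
      calc (v : G) * k * (v : G)⁻¹ = (v : G) * (k * (v : G)⁻¹ * k⁻¹) * k := by group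
        _ = (w : G) * (k * (w : G)⁻¹ * k⁻¹) * k := by rw [h1]
        _ = _ := by group
    have h2 : (w : G)⁻¹ * v ∈ U ⊓ centralizer ({k} : Set G) := by
      refine ⟨U.mul_mem (U.inv_mem w.2) v.2, ?_⟩
      show (w : G)⁻¹ * v ∈ centralizer ({k} : Set G)
      rw [Subgroup.mem_centralizer_singleton_iff]
      calc ((w : G)⁻¹ * v) * k = (w : G)⁻¹ * ((v : G) * k * (v : G)⁻¹) * v := by group
        _ = (w : G)⁻¹ * ((w : G) * k * (w : G)⁻¹) * v := by rw [h3]
        _ = _ := by group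
    rw [hfix, Subgroup.mem_bot] at h2
    apply Subtype.ext
    have : (v : G) = w * ((w : G)⁻¹ * v) := by group
    rw [this, h2, mul_one]
  have hsurj := Finite.injective_iff_surjective.mp hinj
  intro u hu
  obtain ⟨v, hv⟩ := hsurj ⟨u, hu⟩
  have e : u = (v : G) * (k * (v : G)⁻¹ * k⁻¹) := (congrArg Subtype.val hv).symm
  have h4 : ⁅(v : G), k⁆ ∈ ⁅M, M⁆ := Subgroup.commutator_mem_commutator (hUM v.2) hkM
  rw [e]
  have e2 : (v : G) * (k * (v : G)⁻¹ * k⁻¹) = ⁅(v : G), k⁆ := by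
    rw [commutatorElement_def]
    group
  rw [e2]
  exact h4

theorem K_ne_bot_of_kappa (hKU : IsSigmaDecomposition M K U) (hκ : (kappa M).Nonempty) : K ≠ ⊥ := by
  obtain ⟨p, hp⟩ := hκ
  rintro rfl
  apply hKU.hall.2.2 p hp.1 hp
  have h1 : (⊥ : Subgroup G).relIndex M = Nat.card M := by
    rw [Subgroup.relIndex_bot_left]
  rw [h1]
  exact hp.2.1

/-- The index of `M'` in `M` divides `#K`, when `U ≤ M'`. -/
theorem relIndex_derived_dvd (hG : IsMinSimpleOddOrder G) (hM : IsCoatom M) (hKU : IsSigmaDecomposition M K U)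
    (hU : U ≤ ⁅M, M⁆) : (⁅M, M⁆ : Subgroup G).relIndex M ∣ Nat.card K := by
  classical
  have hDM : (⁅M, M⁆ : Subgroup G) ≤ M := Subgroup.commutator_le_self M
  haveI hDn : ((⁅M, M⁆ : Subgroup G).subgroupOf M).Normal :=
    (Subgroup.normal_subgroupOf_iff_le_normalizer hDM).mpr (le_normalizer_self_commutator M)
  have hWd := Cfsg.Agent.Lib.BGP3D.sigmaCore_le_derived hG hM
  have hsup : K.subgroupOf M ⊔ (⁅M, M⁆ : Subgroup G).subgroupOf M = ⊤ := by
    rw [eq_top_iff]
    intro m _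
    obtain ⟨u, hu, s, hs, e⟩ := hKU.compl.2.2.2 m m.2
    have hnorm : K ≤ normalizer (sigmaCore M : Set G) := hKU.hall.1.trans le_normalizer_sigmaCore
    have hs' : s ∈ ((K ⊔ sigmaCore M : Subgroup G) : Set G) := hs
    rw [Subgroup.coe_mul_of_left_le_normalizer_right _ _ hnorm, Set.mem_mul] at hs'
    obtain ⟨k, hk, w, hw, rfl⟩ := hs'
    have hkM : k ∈ M := hKU.hall.1 hk
    have hwM : w ∈ M := sigmaCore_le hw
    have huM : u ∈ M := hKU.compl.1 hu
    have e' : m = (⟨u, huM⟩ : ↥M) * ⟨k, hkM⟩ * ⟨w, hwM⟩ := by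
      apply Subtype.ext
      show (m : G) = u * k * w
      rw [e]
      group
    rw [e']
    refine mul_mem (mul_mem (mem_sup_right ?_) (mem_sup_left ?_)) (mem_sup_right ?_)
    · exact Subgroup.mem_subgroupOf.mpr (hU hu)
    · exact Subgroup.mem_subgroupOf.mpr hk
    · exact Subgroup.mem_subgroupOf.mpr (hWd hw)
  have h1 : (⁅M, M⁆ : Subgroup G).relIndex M = ((⁅M, M⁆ : Subgroup G).subgroupOf M).relIndex (K.subgroupOf M) := by
    haveI hnn : ((⁅M, M⁆ : Subgroup G).subgroupOf M).Normal := by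
      refine ⟨fun x hx g => ?_⟩
      rw [Subgroup.mem_subgroupOf] at hx ⊢
      have hgM : ((g : ↥M) : G) ∈ M := g.2
      have hmap : (M).map (MulAut.conj (g : G)).toMonoidHom = M := by
        ext y
        constructor
        · rintro ⟨z, hz, rfl⟩
          exact M.mul_mem (M.mul_mem hgM hz) (M.inv_mem hgM)
        · intro hy
          refine ⟨(g : G)⁻¹ * y * g, M.mul_mem (M.mul_mem (M.inv_mem hgM) hy) hgM, ?_⟩
          simp [MulAut.conj_apply]
          group
      have h3 : ((g : G) * x * (g : G)⁻¹) ∈ (⁅M, M⁆ : Subgroup G).map (MulAut.conj (g : G)).toMonoidHom :=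
        ⟨x, hx, by simp [MulAut.conj_apply]⟩
      rw [Subgroup.map_commutator, hmap] at h3
      simpa using h3
    have h0 := Subgroup.relIndex_sup_right (K.subgroupOf M) ((⁅M, M⁆ : Subgroup G).subgroupOf M)
    rw [hsup, Subgroup.relIndex_top_right] at h0
    rw [Subgroup.relIndex, ← h0]
  rw [h1]
  have h2 := Subgroup.relIndex_dvd_card ((⁅M, M⁆ : Subgroup G).subgroupOf M) (K.subgroupOf M)
  rwa [card_subgroupOf_of_le hKU.hall.1] at h2

/-- `F(M) ≤ M'` when `κ(M) ≠ ∅`. -/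
theorem fitting_le_derived (I : Inp G) (hM : IsCoatom M) (hKU : IsSigmaDecomposition M K U)
    (hκ : (kappa M).Nonempty) : fittingOf M ≤ ⁅M, M⁆ := by
  classical
  have hG := I.hG
  have kf := Cfsg.Agent.Lib.BGCent.kappaFacts_of_inp I
  have hK1 := K_ne_bot_of_kappa hKU hκ
  have hUd := U_le_derived hG kf hM hKU hK1
  have hWd := Cfsg.Agent.Lib.BGP3D.sigmaCore_le_derived hG hM
  obtain ⟨-, h2, h3⟩ := Cfsg.Agent.S1439.result hG M hM
  rw [h3]
  refine sup_le ((Subgroup.map_subtype_le _).trans hWd) ?_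
  intro y hy
  have hyF : y ∈ fittingOf M := Subgroup.map_subtype_le _ hy
  have hyM : y ∈ M := Subgroup.map_subtype_le _ hyF
  apply mem_of_coprime (Subgroup.commutator_le_self M) (le_normalizer_self_commutator M) hyM
  apply Nat.coprime_of_dvd
  intro r hr h1 h4
  have h5 : r ∣ Nat.card ↥(piCoreOf {q | q.Prime ∧ q ∉ sigma M} (fittingOf M)) := by
    have := orderOf_dvd_natCard (⟨y, hy⟩ : ↥(piCoreOf {q | q.Prime ∧ q ∉ sigma M} (fittingOf M)))
    rw [Subgroup.orderOf_mk] at this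
    exact h1.trans this
  have h6 := h2 r hr h5
  have h7 := (relIndex_derived_dvd hG hM hKU hUd)
  exact Cfsg.Agent.Lib.BGZ2.kappa_not_tau2 (hKU.hall.2.1 r hr (h4.trans h7)) h6

theorem hprime_of (I : Inp G) (hM : IsCoatom M) (hKU : IsSigmaDecomposition M K U) :
    ∀ k ∈ K, k ≠ 1 → sigmaCore M ⊓ centralizer ({k} : Set G) = sigmaCore M ⊓ centralizer (K : Set G) := by
  intro k hk hk1
  have hK1 : K ≠ ⊥ := by
    rintro rfl
    exact hk1 (by simpa using hk)
  exact (I.s30 M hM K hKU.hall hK1).1 k hk hk1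

theorem hqp_of (I : Inp G) (hM : IsCoatom M) (hKU : IsSigmaDecomposition M K U) :
    U = ⊥ → (Nat.card ↥(sigmaCore M ⊓ centralizer (K : Set G))).Prime := fun hU =>
  Cfsg.Agent.Lib.BGZ9.s1373 I M hM K U hKU (K_ne_bot I.hG hM hKU hU) hU

/-- A Sylow subgroup of `M_σ` normal in `M` lies in `M_F`. -/
theorem Q_le_F (hG : IsMinSimpleOddOrder G) (hM : IsCoatom M) {q : ℕ} [hq : Fact q.Prime] {Q : Subgroup G}
    (hS : IsSylowIn q Q (sigmaCore M)) (hMQ : M ≤ normalizer (Q : Set G)) (hqσ : q ∈ sigma M) : Q ≤ fittingHallOf M := by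
  have hqd : ¬ q ∣ Q.relIndex (sigmaCore M) := hS.toSylow.not_dvd_index
  have hWM : sigmaCore M ≤ M := sigmaCore_le
  apply le_fittingHallOf (hS.1.trans hWM) hMQ hS.2.1
  rw [← Subgroup.relIndex_mul_relIndex Q (sigmaCore M) M hS.1 hWM]
  intro h
  rcases (Nat.Prime.dvd_mul hq.out).mp h with h | h
  · exact hqd h
  · exact (sigma_hall hG hM).1.2.2 q hq.out hqσ h

/-- **S1356**, given the input package. -/
theorem s1356_core (I : Inp G) (hM : IsCoatom M) (hKU : IsSigmaDecomposition M K U) :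
    ⁅⁅M, M⁆, ⁅M, M⁆⁆ ≤ fittingOf M ∧
      fittingOf M = (M ⊓ centralizer (fittingHallOf M : Set G)) ⊔ fittingHallOf M ∧
      ((kappa M).Nonempty → fittingOf M ≤ ⁅M, M⁆) := by
  classical
  have hG := I.hG
  have hFN : M ≤ normalizer (fittingOf M : Set G) := Cfsg.Agent.Lib.BGFit2.le_normalizer_fittingOf M
  have hFM : fittingOf M ≤ M := Subgroup.map_subtype_le _
  have hFF : fittingHallOf M ≤ fittingOf M := F_le_fitting M
  have hcore : ⁅⁅M, M⁆, ⁅M, M⁆⁆ ≤ fittingOf M ∧ M ⊓ centralizer (fittingHallOf M : Set G) ≤ fittingOf M := by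
    by_cases hnil : Group.IsNilpotent (sigmaCore M)
    · have hFe := Cfsg.Agent.Lib.BGCent.sigmaCore_eq_fittingHallOf hG hM hnil
      constructor
      · obtain ⟨E, hE⟩ := exists_compl hG hM
        have hab := (Cfsg.Agent.S1420.result hG M hM E hE).2.1
        refine second_derived hFN ((Subgroup.commutator_le_self E).trans hE.1) hFM ?_ ?_
        · rw [Subgroup.commutator_le]
          intro a ha b hb
          have h1 : a * b = b * a := congrArg Subtype.val (hab.is_comm.comm (⟨a, ha⟩ : ↥⁅E, E⁆) ⟨b, hb⟩)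
          have h2 : ⁅a, b⁆ = 1 := by
            rw [commutatorElement_def, h1]
            group
          rw [h2]
          exact one_mem _
        · intro a ha
          obtain ⟨b, hb, d, hd, e⟩ := dec_derived hE ha
          exact ⟨b, hFF (hFe ▸ hb), d, hd, e⟩
      · rw [← hFe]
        exact cent_le_fitting_nil I hM hnil
    · have hne : fittingHallOf M ≠ sigmaCore M := fun h => hnil (h ▸ nilp_fittingHallOf M)
      have hU : U = ⊥ := U_eq_bot hG hM hKU hnil
      have hq := hqp_of I hM hKU hU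
      obtain ⟨Q, D₀, hKsQ, hS, hMQ, hD, hD₀, hKD₀, S⟩ := exists_structure hG hM hKU (hprime_of I hM hKU) hq hnil
      haveI hqf : Fact (Nat.card ↥(sigmaCore M ⊓ centralizer (K : Set G))).Prime := ⟨hq⟩
      have hqσ : Nat.card ↥(sigmaCore M ⊓ centralizer (K : Set G)) ∈ sigma M :=
        primes_sigmaCore _ hq (Subgroup.card_dvd_of_le inf_le_left)
      have hQF := Q_le_F hG hM hS hMQ hqσ
      have hN₁ := cQ_le_fitting hS hMQ hD
      constructor
      · refine second_derived hFN (hD₀.2.1.trans sigmaCore_le) hFM ?_ ?_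
        · apply le_trans _ hN₁
          refine le_inf ?_ (comm_D_le hG.1 S)
          exact (Subgroup.commutator_le_self D₀).trans hD₀.2.1
        · intro a ha
          rw [← commutator_eq hG hM hKU hU] at ha
          obtain ⟨x, hx, d, hd, e⟩ := hD₀.2.2.2 a ha
          exact ⟨x, hFF (hQF hx), d, hd, e⟩
      · refine le_trans ?_ hN₁
        have hc : IsComplIn K (sigmaCore M) M := compl_K hKU hU
        have hidx : (sigmaCore M).relIndex M = Nat.card K := by
          have h1 := Cfsg.Agent.Lib.Coprime.relIndex_mul_card_of_le (sigmaCore_le (M := M))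
          have h2 := card_mul_card_of_isComplIn hc
          exact Nat.eq_of_mul_eq_mul_right Nat.card_pos (h1.trans h2.symm)
        obtain ⟨hKp, -⟩ := S.K_prime
        intro c hc'
        refine ⟨?_, ?_⟩
        · apply mem_of_coprime sigmaCore_le le_normalizer_sigmaCore hc'.1
          rw [hidx]
          apply Nat.Coprime.symm
          apply (Nat.Prime.coprime_iff_not_dvd hKp).mpr
          intro hd
          haveI : Fact (Nat.card K).Prime := ⟨hKp⟩
          have h1 : orderOf (c ^ (orderOf c / Nat.card K)) = Nat.card K := orderOf_pow_orderOf_div (orderOf_pos c).ne' hd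
          have hc₁ : c ^ (orderOf c / Nat.card K) ∈ M ⊓ centralizer (fittingHallOf M : Set G) := pow_mem hc' _
          have hY : zpowers (c ^ (orderOf c / Nat.card K)) ≤ M := (Subgroup.zpowers_le).mpr hc₁.1
          obtain ⟨m, hm, hle⟩ := Cfsg.Agent.Lib.BGZ8.exists_conj_le_hall (solvable_of_le_coatom hG hM le_rfl) hKU.hall hY (by
            intro r hr h
            rw [Nat.card_zpowers, h1] at h
            have hrp : r = Nat.card K := (Nat.prime_dvd_prime_iff_eq hr hKp).mp h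
            rw [hrp]
            exact hKU.hall.2.1 _ hKp dvd_rfl)
          have h2 := hle (Subgroup.mem_zpowers _)
          rw [mem_cj] at h2
          set c₁ := c ^ (orderOf c / Nat.card K) with hc₁def
          have hk1 : m⁻¹ * c₁ * m ≠ 1 := by
            intro h
            have h3 : c₁ = m * (m⁻¹ * c₁ * m) * m⁻¹ := by group
            rw [h, mul_one, mul_inv_cancel] at h3
            rw [h3, orderOf_one] at h1
            exact hKp.one_lt.ne h1
          have hkC : m⁻¹ * c₁ * m ∈ M ⊓ centralizer (fittingHallOf M : Set G) := by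
            have := cent_invariant M (F_norm M) m⁻¹ (M.inv_mem hm) c₁ hc₁
            simpa using this
          have hQk : Q ≤ centralizer ({m⁻¹ * c₁ * m} : Set G) := by
            intro a ha
            rw [Subgroup.mem_centralizer_singleton_iff]
            exact (Subgroup.mem_centralizer_iff.mp hkC.2 a (hQF ha))
          have h3 := S.hfix _ h2 hk1
          have h4 : Q ≤ sigmaCore M ⊓ centralizer (K : Set G) := by
            rw [← h3]
            exact le_inf le_rfl hQk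
          have hcardQ : Nat.card Q ∣ Nat.card ↥(sigmaCore M ⊓ centralizer (K : Set G)) := Subgroup.card_dvd_of_le h4
          rw [S.card_Q] at hcardQ
          have h5 : Nat.card ↥(sigmaCore M ⊓ centralizer (K : Set G)) ^ 2 ∣ Nat.card ↥(sigmaCore M ⊓ centralizer (K : Set G)) :=
            ((pow_dvd_pow _ hKp.two_le).trans (dvd_mul_left _ _)).trans hcardQ
          have h6 := Nat.le_of_dvd hq.pos h5
          have h7 := hq.two_le
          nlinarith
        · show c ∈ centralizer (Q : Set G)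
          rw [Subgroup.mem_centralizer_iff]
          intro a ha
          exact Subgroup.mem_centralizer_iff.mp hc'.2 a (hQF ha)
  refine ⟨hcore.1, ?_, fitting_le_derived I hM hKU⟩
  exact le_antisymm (fitting_le_cent_sup M) (sup_le hcore.2 hFF)

end Cfsg.Agent.Lib.H6F6
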