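import Mathlib
import Cfsg.Agent.Lib.BGCent16
import Cfsg.Agent.Lib.BGCent6
import Cfsg.Agent.S1355
import Cfsg.Agent.S1430
import Cfsg.Agent.S1431
import Cfsg.Agent.S1432

/-!
# Bender-Glauberman: Hall subgroups of `M_σ` and fusion (S1438, S1384).
-/

set_option autoImplicit false
set_option linter.unusedSectionVars false
set_option linter.unusedVariables false
set_option linter.style.haveILetI false
set_option linter.unusedSimpArgs false

namespace Cfsg.Agent.Lib.BGCent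

open Cfsg Subgroup Cfsg.Agent.Lib.CoprimeInv Cfsg.Agent.Lib.BGTrans Cfsg.Agent.Lib.BGTrans2 Cfsg.Agent.Lib.BGUniq
  Cfsg.Agent.Lib.BGUniq2 Cfsg.Agent.Lib.PCore Cfsg.Agent.Lib.BGTau7 Cfsg.Agent.Lib.BGM1 Cfsg.Agent.Lib.BGTau5
  Cfsg.Agent.Lib.BGTau3 Cfsg.Agent.Lib.BGM2 Cfsg.Agent.Lib.BGTau6 Cfsg.Agent.Lib.BGTau1 Cfsg.Agent.Lib.BGP2E
  Cfsg.Agent.Lib.BGFit2
open scoped commutatorElement

universe u

variable {G : Type u} [Group G] [Finite G]

/-- The primes of an element centralizing a Hall subgroup of `M_σ`. -/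
theorem hall_cent_tau2 (hG : IsMinSimpleOddOrder G) {M H : Subgroup G} (hM : IsCoatom M) (hH : H ≤ sigmaCore M)
    (hH1 : H ≠ ⊥) (hHall : (Nat.card H).Coprime (H.relIndex (sigmaCore M))) :
    ∀ x' ∈ M ⊓ centralizer (H : Set G), x' ≠ 1 → (∀ p : ℕ, p.Prime → p ∣ orderOf x' → p ∉ sigma M) →
      ∀ p : ℕ, p.Prime → p ∣ orderOf x' → p ∈ tau2 M := by
  classical
  intro x' hx' hx'1 hσ p hp hpd
  obtain ⟨x₁, hx₁, hx₁1⟩ := exists_mem_ne_one hH1
  obtain ⟨hx'M, hx'H⟩ := Subgroup.mem_inf.mp hx'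
  have hx'x₁ : x' ∈ M ⊓ centralizer ({x₁} : Set G) := by
    refine Subgroup.mem_inf.mpr ⟨hx'M, Subgroup.mem_centralizer_singleton_iff.mpr ?_⟩
    exact (Subgroup.mem_centralizer_iff.mp hx'H x₁ hx₁).symm
  rcases Cfsg.Agent.S1432.result hG M hM x₁ (hH hx₁) hx₁1 x' hx'x₁ hx'1 hσ with h | h
  · exfalso
    have hκ := h.1
    have hMs : Group.IsSolvable M := solvable_of_le_coatom hG hM le_rfl
    obtain ⟨K, hxK, hK⟩ := exists_hall_ge (π := kappa M) hMs (zpowers_le.mpr hx'M) (by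
      intro r hr hd
      rw [Nat.card_zpowers] at hd
      exact hκ r hr hd)
    have hx'K : x' ∈ K := hxK (mem_zpowers x')
    have hK1 : K ≠ ⊥ := by
      intro h0
      rw [h0, Subgroup.mem_bot] at hx'K
      exact hx'1 hx'K
    have h30 := (Cfsg.Agent.S1430.result hG M hM K hK hK1).1 x' hx'K hx'1
    have hHK : H ≤ sigmaCore M ⊓ centralizer (K : Set G) := by
      rw [← h30]
      refine le_inf hH ?_
      intro z hz
      refine Subgroup.mem_centralizer_singleton_iff.mpr ?_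
      exact Subgroup.mem_centralizer_iff.mp hx'H z hz
    have hcard : Nat.card H ≠ 1 := fun h => hH1 (Subgroup.card_eq_one.mp h)
    obtain ⟨r, hr, hrd⟩ := Nat.exists_prime_and_dvd hcard
    haveI : Fact r.Prime := ⟨hr⟩
    obtain ⟨P, hP⟩ := exists_isSylowIn r H
    have hPσ : IsSylowIn r P (sigmaCore M) := by
      apply isSylowIn_of_hall hP hH
      intro hd
      exact hr.one_lt.ne' (Nat.dvd_one.mp ((Nat.dvd_gcd hrd hd).trans (by rw [hHall.gcd_eq_one])))
    have hd : r ∣ Nat.card ↥(sigmaCore M ⊓ centralizer (K : Set G)) := hrd.trans (Subgroup.card_dvd_of_le hHK)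
    have h31 := (Cfsg.Agent.S1431.result hG M hM K hK hK1).2.2.1 r hr hd hPσ.toSylow
    apply h31.2.2
    have e : (hPσ.toSylow : Subgroup ↥(sigmaCore M)).map (sigmaCore M).subtype = P :=
      Subgroup.map_subgroupOf_eq_of_le hPσ.1
    rw [e]
    exact hP.1.trans hHK
  · exact h.1 p hp hpd

/-- **The statement on Hall subgroups of `M_σ`.** -/
theorem hall38 (hG : IsMinSimpleOddOrder G) : Hall38 G := by
  intro M hM H hH hH1 hHall
  have h55 := Cfsg.Agent.S1355.result hG M hM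
  refine ⟨first_part hG hM hH hH1 (hall_cent_tau2 hG hM hH hH1 hHall), ?_⟩
  intro x hx g hg
  exact second_part hG hM ((kf_of hG).h32' hM) h55.2.1 h55.2.2.2.2 hH hHall hx hg

end Cfsg.Agent.Lib.BGCent
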