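import Mathlib
import Cfsg.Agent.S0033
import Cfsg.Agent.Lib.CoprimeInv

/-!
# Coprime action of an element of prime order: central fixed points, normalizers.
-/

set_option autoImplicit false
set_option linter.unusedSectionVars false
set_option linter.unusedVariables false
set_option linter.style.haveILetI false
set_option linter.unusedSimpArgs false

namespace Cfsg.Agent.Lib.BGCent

open Subgroup

universe u

variable {G : Type u} [Group G] [Finite G]

/-- **Thompson's theorem with central fixed points.** -/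
theorem nilpotent_of_central_fix {X : Subgroup G} {y : G} {s : ℕ} [hs : Fact s.Prime]
    (hyX : y ∈ normalizer (X : Set G)) (hys : y ^ s = 1) (hsX : ¬ s ∣ Nat.card X)
    (hZ : ∀ z ∈ X, y * z = z * y → ∀ w ∈ X, z * w = w * z) : Group.IsNilpotent X := by
  classical
  let φ : MulAut X := X.normalizerMonoidHom ⟨y, hyX⟩
  have hφ : ∀ u : X, ((φ u : X) : G) = y * u * y⁻¹ := fun u => rfl
  have hpow : ∀ (n : ℕ) (u : X), (((φ ^ n) u : X) : G) = y ^ n * u * (y ^ n)⁻¹ := by
    intro n
    induction n with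
    | zero => intro u; simp
    | succ n ih =>
      intro u
      rw [pow_succ, MulAut.mul_apply, ih, hφ, pow_succ]
      group
  have hφs : φ ^ s = 1 := by
    ext u
    rw [hpow, hys]
    simp
  let Z : Subgroup X :=
    { carrier := {u | φ u = u}
      mul_mem' := by
        intro a b ha hb
        show φ (a * b) = a * b
        rw [map_mul, show φ a = a from ha, show φ b = b from hb]
      one_mem' := map_one φ
      inv_mem' := by
        intro a ha
        show φ a⁻¹ = a⁻¹
        rw [map_inv, show φ a = a from ha] }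
  have hmemZ : ∀ u : X, u ∈ Z ↔ φ u = u := fun u => Iff.rfl
  have hZc : Z ≤ center X := by
    intro u hu
    rw [Subgroup.mem_center_iff]
    intro w
    have h1 : y * (u : G) = u * y := by
      have h2 : y * (u : G) * y⁻¹ = u := congrArg Subtype.val ((hmemZ u).mp hu)
      calc y * (u : G) = y * u * y⁻¹ * y := by group
        _ = u * y := by rw [h2]
    exact Subtype.ext (hZ u u.2 h1 w w.2).symm
  haveI hZn : Z.Normal := ⟨fun n hn g => by
    have h1 : g * n = n * g := ((Subgroup.mem_center_iff.mp (hZc hn)) g)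
    rw [h1]
    simpa using hn⟩
  have hZmap : Z.map (φ : X →* X) = Z := by
    ext u
    constructor
    · rintro ⟨v, hv, rfl⟩
      show φ (φ v) = φ v
      rw [show φ v = v from hv, show φ v = v from hv]
    · intro hu
      exact ⟨u, hu, (hmemZ u).mp hu⟩
  let ψ : (X ⧸ Z) ≃* (X ⧸ Z) := QuotientGroup.congr Z Z φ hZmap
  have hψ : ∀ u : X, ψ (u : X ⧸ Z) = ((φ u : X) : X ⧸ Z) := fun u => rfl
  have hψpow : ∀ (n : ℕ) (u : X), (ψ ^ n) (u : X ⧸ Z) = (((φ ^ n) u : X) : X ⧸ Z) := by
    intro n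
    induction n with
    | zero => intro u; rfl
    | succ n ih =>
      intro u
      rw [pow_succ, MulAut.mul_apply, pow_succ, MulAut.mul_apply, hψ, ih]
  have hψs : ψ ^ s = 1 := by
    ext q
    induction q using QuotientGroup.induction_on with
    | H u =>
      rw [hψpow, hφs]
      rfl
  have hfix : ∀ u : X, ψ (u : X ⧸ Z) = (u : X ⧸ Z) → u ∈ Z := by
    intro u hu
    rw [hψ] at hu
    have h0 : u⁻¹ * φ u ∈ Z := QuotientGroup.eq.mp hu.symm
    set z₀ := u⁻¹ * φ u with hz₀
    have hφu : φ u = u * z₀ := by rw [hz₀]; group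
    have hz₀f : φ z₀ = z₀ := (hmemZ z₀).mp h0
    have hit : ∀ n : ℕ, (φ ^ n) u = u * z₀ ^ n := by
      intro n
      induction n with
      | zero => simp
      | succ n ih =>
        rw [pow_succ', MulAut.mul_apply, ih, map_mul, map_pow, hz₀f, hφu, pow_succ']
        group
    have h1 : z₀ ^ s = 1 := by
      have h2 := hit s
      rw [hφs] at h2
      have h3 : u = u * z₀ ^ s := h2
      exact (mul_eq_left.mp h3.symm)
    have h4 : orderOf z₀ ∣ s := orderOf_dvd_of_pow_eq_one h1
    have h5 : orderOf z₀ ∣ Nat.card X := orderOf_dvd_natCard z₀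
    have h6 : orderOf z₀ = 1 := by
      rcases (Nat.dvd_prime hs.out).mp h4 with h | h
      · exact h
      · exact (hsX (h ▸ h5)).elim
    have h7 : z₀ = 1 := orderOf_eq_one_iff.mp h6
    rw [h7, mul_one] at hφu
    exact (hmemZ u).mpr hφu
  have hfp : MonoidHom.FixedPointFree (ψ : (X ⧸ Z) →* (X ⧸ Z)) := by
    intro q hq
    induction q using QuotientGroup.induction_on with
    | H u =>
      exact (QuotientGroup.eq_one_iff u).mpr (hfix u hq)
  haveI hQ : Group.IsNilpotent (X ⧸ Z) := by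
    by_cases hψ1 : ψ = 1
    · have hsub : Subsingleton (X ⧸ Z) := by
        refine subsingleton_of_forall_eq 1 ?_
        intro q
        apply hfp q
        show ψ q = q
        rw [hψ1]
        rfl
      infer_instance
    · have hord : orderOf ψ = s := orderOf_eq_prime hψs hψ1
      exact Cfsg.Agent.S0033.result ψ hfp s hs.out hord
  refine Subgroup.isNilpotent_of_ker_le_center (QuotientGroup.mk' Z) ?_
  rw [QuotientGroup.ker_mk']
  exact hZc

/-- A fixed element in a coset, for a coprime element of prime order. -/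
theorem exists_fixed_in_coset {C : Subgroup G} {y g : G} {s : ℕ} [hs : Fact s.Prime]
    (hyC : y ∈ normalizer (C : Set G)) (hys : y ^ s = 1) (hsC : ¬ s ∣ Nat.card C)
    (hg : g⁻¹ * (y * g * y⁻¹) ∈ C) : ∃ c ∈ C, y * (g * c) = (g * c) * y := by
  classical
  haveI := Fintype.ofFinite C
  have hmem : ∀ c : C, g⁻¹ * (y * (g * (c : G)) * y⁻¹) ∈ C := by
    intro c
    have e : g⁻¹ * (y * (g * (c : G)) * y⁻¹) = (g⁻¹ * (y * g * y⁻¹)) * (y * c * y⁻¹) := by group
    rw [e]
    exact C.mul_mem hg ((mem_normalizer_iff.mp hyC c).mp c.2)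
  let f : Function.End C := fun c => ⟨g⁻¹ * (y * (g * (c : G)) * y⁻¹), hmem c⟩
  have hit : ∀ (n : ℕ) (c : C), (((f ^ n) c : C) : G) = g⁻¹ * (y ^ n * (g * (c : G)) * (y ^ n)⁻¹) := by
    intro n
    induction n with
    | zero => intro c; simp; rfl
    | succ n ih =>
      intro c
      have e : (f ^ (n + 1)) c = f ((f ^ n) c) := by
        rw [pow_succ']
        rfl
      rw [e]
      show g⁻¹ * (y * (g * (((f ^ n) c : C) : G)) * y⁻¹) = _
      rw [ih, pow_succ']
      group
  have hfs : f ^ s ^ 1 = 1 := by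
    rw [pow_one]
    funext c
    apply Subtype.ext
    rw [hit, hys]
    simp
    rfl
  have hmod := Equiv.Perm.card_fixedPoints_modEq hfs
  have hne : Nonempty (Function.fixedPoints f) := by
    by_contra hno
    rw [not_nonempty_iff] at hno
    rw [Fintype.card_eq_zero_iff.mpr hno] at hmod
    have h0 : s ∣ Fintype.card C := (Nat.modEq_zero_iff_dvd).mp hmod
    rw [← Nat.card_eq_fintype_card] at h0
    exact hsC h0
  obtain ⟨⟨c, hc⟩⟩ := hne
  refine ⟨c, c.2, ?_⟩
  have h1 : g⁻¹ * (y * (g * (c : G)) * y⁻¹) = c := congrArg Subtype.val hc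
  have h2 : y * (g * (c : G)) * y⁻¹ = g * c := by
    calc y * (g * (c : G)) * y⁻¹ = g * (g⁻¹ * (y * (g * (c : G)) * y⁻¹)) := by group
      _ = g * c := by rw [h1]
  calc y * (g * (c : G)) = y * (g * (c : G)) * y⁻¹ * y := by group
    _ = g * c * y := by rw [h2]

/-- An element of a subgroup `X` normalizing a subgroup `K` centralizes it, if a coprime element of
prime order normalizing `X` centralizes `K` and its fixed points in `X` centralize `K`. -/
theorem cent_of_norm_of_fix {X K : Subgroup G} {y g : G} {s : ℕ} [hs : Fact s.Prime]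
    (hyX : y ∈ normalizer (X : Set G)) (hys : y ^ s = 1) (hsX : ¬ s ∣ Nat.card X)
    (hyK : ∀ k ∈ K, y * k = k * y) (hfix : ∀ z ∈ X, y * z = z * y → ∀ k ∈ K, z * k = k * z)
    (hg : g ∈ X) (hgK : g ∈ normalizer (K : Set G)) : ∀ k ∈ K, g * k = k * g := by
  classical
  let C : Subgroup G := X ⊓ centralizer (K : Set G)
  have hmemC : ∀ {c : G}, c ∈ C ↔ c ∈ X ∧ ∀ k ∈ K, c * k = k * c := by
    intro c
    constructor
    · rintro ⟨h1, h2⟩
      exact ⟨h1, fun k hk => (Subgroup.mem_centralizer_iff.mp h2 k hk).symm⟩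
    · rintro ⟨h1, h2⟩
      exact ⟨h1, Subgroup.mem_centralizer_iff.mpr fun k hk => (h2 k hk).symm⟩
  have hyk' : ∀ k ∈ K, y⁻¹ * k * y = k := by
    intro k hk
    rw [mul_assoc, ← hyK k hk]
    group
  have hyC : y ∈ normalizer (C : Set G) := by
    have hfw : ∀ c ∈ C, y * c * y⁻¹ ∈ C := by
      intro c hc
      obtain ⟨h1, h2⟩ := hmemC.mp hc
      refine hmemC.mpr ⟨(mem_normalizer_iff.mp hyX c).mp h1, ?_⟩
      intro k hk
      have e1 : y * c * y⁻¹ * k = y * c * (y⁻¹ * k * y) * y⁻¹ := by group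
      have e2 : k * (y * c * y⁻¹) = y * (y⁻¹ * k * y) * c * y⁻¹ := by group
      rw [e1, e2, hyk' k hk, mul_assoc y c k, h2 k hk]
      group
    have hcard : ∀ c : G, y * c * y⁻¹ ∈ C → c ∈ C := by
      intro c hc
      obtain ⟨h1, h2⟩ := hmemC.mp hc
      refine hmemC.mpr ⟨(mem_normalizer_iff.mp hyX c).mpr h1, ?_⟩
      intro k hk
      have h3 := h2 k hk
      have e1 : y * c * y⁻¹ * k = y * (c * k) * y⁻¹ := by
        calc y * c * y⁻¹ * k = y * c * (y⁻¹ * k * y) * y⁻¹ := by group
          _ = y * (c * k) * y⁻¹ := by rw [hyk' k hk]; group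
      have e2 : k * (y * c * y⁻¹) = y * (k * c) * y⁻¹ := by
        calc k * (y * c * y⁻¹) = y * (y⁻¹ * k * y) * c * y⁻¹ := by group
          _ = y * (k * c) * y⁻¹ := by rw [hyk' k hk]; group
      rw [e1, e2] at h3
      exact mul_left_cancel (mul_right_cancel h3)
    exact mem_normalizer_iff.mpr fun c => ⟨hfw c, hcard c⟩
  have hgw : g⁻¹ * (y * g * y⁻¹) ∈ C := by
    refine hmemC.mpr ⟨X.mul_mem (X.inv_mem hg) ((mem_normalizer_iff.mp hyX g).mp hg), ?_⟩
    intro k hk
    have hk2 : g * k * g⁻¹ ∈ K := (mem_normalizer_iff.mp hgK k).mp hk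
    have h2 : y * (g * k * g⁻¹) = (g * k * g⁻¹) * y := hyK _ hk2
    calc (g⁻¹ * (y * g * y⁻¹)) * k = g⁻¹ * (y * (g * (y⁻¹ * k * y) * g⁻¹)) * g * y⁻¹ := by group
      _ = g⁻¹ * (y * (g * k * g⁻¹)) * g * y⁻¹ := by rw [hyk' k hk]
      _ = g⁻¹ * ((g * k * g⁻¹) * y) * g * y⁻¹ := by rw [h2]
      _ = k * (g⁻¹ * (y * g * y⁻¹)) := by group
  have hsC : ¬ s ∣ Nat.card C := fun h => hsX (h.trans (Subgroup.card_dvd_of_le inf_le_left))
  obtain ⟨c, hc, hfx⟩ := exists_fixed_in_coset hyC hys hsC hgw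
  obtain ⟨hcX, hcK⟩ := hmemC.mp hc
  intro k hk
  have h1 := hfix _ (X.mul_mem hg hcX) hfx k hk
  have h2 := hcK k hk
  have e : g * k = (g * c) * k * c⁻¹ := by
    calc g * k = g * (c * k * c⁻¹) := by rw [h2]; group
      _ = (g * c) * k * c⁻¹ := by group
  rw [e, h1]
  group

end Cfsg.Agent.Lib.BGCent
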