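import Mathlib
import Cfsg.Agent.Lib.BGZ9
import Cfsg.Agent.Lib.BGCent12

/-!
# Bender-Glauberman section 14: the derived subgroup of `M` when `K ≠ 1`.
-/

set_option autoImplicit false
set_option linter.unusedSectionVars false
set_option linter.unusedVariables false
set_option linter.style.haveILetI false
set_option linter.unusedSimpArgs false

namespace Cfsg.Agent.Lib.BGZB

open Cfsg Subgroup Cfsg.Agent.Lib.CoprimeInv Cfsg.Agent.Lib.BGTrans Cfsg.Agent.Lib.BGM1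
  Cfsg.Agent.Lib.BGSigma2 Cfsg.Agent.Lib.BGM2 Cfsg.Agent.Lib.BGZ1 Cfsg.Agent.Lib.OddOrderCore
  Cfsg.Agent.Lib.BGSigma4 Cfsg.Agent.Lib.BGZ2 Cfsg.Agent.Lib.BGZ3 Cfsg.Agent.Lib.BGZ4
  Cfsg.Agent.Lib.BGZ5 Cfsg.Agent.Lib.BGZ6 Cfsg.Agent.Lib.BGZ7 Cfsg.Agent.Lib.BGZ8

open scoped commutatorElement

universe u

variable {G : Type u} [Group G] [Finite G]

/-- A fixed-point-free automorphism: every element is a commutator with `k`. -/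
theorem exists_comm_eq {U : Subgroup G} {k : G} (hkn : ∀ v ∈ U, k * v * k⁻¹ ∈ U)
    (hf : U ⊓ centralizer ({k} : Set G) = ⊥) {u : G} (hu : u ∈ U) : ∃ v ∈ U, u = ⁅v, k⁆ := by
  let f : U → U := fun v => ⟨(v : G) * (k * (v : G)⁻¹ * k⁻¹), mul_mem v.2 (hkn _ (inv_mem v.2))⟩
  have hinj : Function.Injective f := by
    intro v w hvw
    have h1 : (v : G) * (k * (v : G)⁻¹ * k⁻¹) = (w : G) * (k * (w : G)⁻¹ * k⁻¹) := congrArg Subtype.val hvw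
    set x := (w : G)⁻¹ * v with hx
    have hxU : x ∈ U := mul_mem (inv_mem w.2) v.2
    have h2 : k * x * k⁻¹ = x := by
      have e : (w : G)⁻¹ * v = (k * (w : G)⁻¹ * k⁻¹) * (k * (v : G)⁻¹ * k⁻¹)⁻¹ := by
        calc (w : G)⁻¹ * v = (w : G)⁻¹ * ((v : G) * (k * (v : G)⁻¹ * k⁻¹)) * (k * (v : G)⁻¹ * k⁻¹)⁻¹ := by group
          _ = (w : G)⁻¹ * ((w : G) * (k * (w : G)⁻¹ * k⁻¹)) * (k * (v : G)⁻¹ * k⁻¹)⁻¹ := by rw [h1]
          _ = _ := by group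
      calc k * x * k⁻¹ = (k * (w : G)⁻¹ * k⁻¹) * (k * (v : G)⁻¹ * k⁻¹)⁻¹ := by rw [hx]; group
        _ = x := by rw [hx, ← e]
    have h3 : x ∈ U ⊓ centralizer ({k} : Set G) := by
      refine ⟨hxU, mem_centralizer_singleton_iff.mpr ?_⟩
      calc x * k = (k * x * k⁻¹) * k := by rw [h2]
        _ = k * x := by group
    rw [hf] at h3
    have h4 : x = 1 := h3
    apply Subtype.ext
    have h5 : (w : G) * x = w := by rw [h4, mul_one]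
    rw [hx] at h5
    simpa using h5
  obtain ⟨v, hv⟩ := (Finite.injective_iff_surjective.mp hinj) ⟨u, hu⟩
  refine ⟨v, v.2, ?_⟩
  have h9 : (v : G) * (k * (v : G)⁻¹ * k⁻¹) = u := congrArg Subtype.val hv
  rw [commutatorElement_def, ← h9]
  group

/-- `M = K D` with `K` abelian and `D` normal in `M`: `M' ≤ D`. -/
theorem comm_le {M K D : Subgroup G} (hKc : ∀ a ∈ K, ∀ b ∈ K, a * b = b * a) (hKM : K ≤ M)
    (hDn : M ≤ normalizer (D : Set G)) (hsup : K ⊔ D = M) : ⁅M, M⁆ ≤ D := by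
  have hDn' : ∀ c ∈ M, ∀ d ∈ D, c * d * c⁻¹ ∈ D := fun c hc d hd => (mem_normalizer_iff.mp (hDn hc) d).mp hd
  rw [Subgroup.commutator_le]
  intro g hg g' hg'
  rw [← hsup] at hg hg'
  obtain ⟨k₁, hk₁, d₁, hd₁, rfl⟩ := Cfsg.Agent.Lib.BGFit4.mem_sup_of_le_normalizer (hKM.trans hDn) hg
  obtain ⟨k₂, hk₂, d₂, hd₂, rfl⟩ := Cfsg.Agent.Lib.BGFit4.mem_sup_of_le_normalizer (hKM.trans hDn) hg'
  have hcomm : k₁ * k₂ = k₂ * k₁ := hKc _ hk₁ _ hk₂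
  have hk₁M := hKM hk₁
  have hk₂M := hKM hk₂
  have he1 : k₂⁻¹ * d₁ * k₂ ∈ D := by simpa using hDn' k₂⁻¹ (inv_mem hk₂M) d₁ hd₁
  have he2 : k₁⁻¹ * d₂ * k₁ ∈ D := by simpa using hDn' k₁⁻¹ (inv_mem hk₁M) d₂ hd₂
  set e := k₂⁻¹ * d₁ * k₂ * d₂ with he
  set f := k₁⁻¹ * d₂ * k₁ * d₁ with hf
  have heD : e ∈ D := mul_mem he1 hd₂
  have hfD : f ∈ D := mul_mem he2 hd₁
  have e1 : k₁ * d₁ * (k₂ * d₂) = k₁ * k₂ * e := by rw [he]; group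
  have e2 : k₂ * d₂ * (k₁ * d₁) = k₁ * k₂ * f := by rw [hcomm, hf]; group
  have e3 : ⁅k₁ * d₁, k₂ * d₂⁆ = (k₁ * k₂) * (e * f⁻¹) * (k₁ * k₂)⁻¹ := by
    rw [commutatorElement_def]
    calc k₁ * d₁ * (k₂ * d₂) * (k₁ * d₁)⁻¹ * (k₂ * d₂)⁻¹
        = (k₁ * d₁ * (k₂ * d₂)) * (k₂ * d₂ * (k₁ * d₁))⁻¹ := by group
      _ = (k₁ * k₂ * e) * (k₁ * k₂ * f)⁻¹ := by rw [e1, e2]
      _ = _ := by group
  rw [e3]
  exact hDn' _ (mul_mem hk₁M hk₂M) _ (mul_mem heD (inv_mem hfD))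

theorem sup_eq_of_dec {M K U : Subgroup G} (hd : IsSigmaDecomposition M K U) : K ⊔ (U ⊔ sigmaCore M) = M := by
  apply le_antisymm (sup_le hd.hall.1 (sup_le hd.compl.1 sigmaCore_le))
  intro m hm
  obtain ⟨u, hu, b, hb, rfl⟩ := hd.compl.2.2.2 m hm
  apply mul_mem
  · exact (le_sup_left.trans le_sup_right : U ≤ K ⊔ (U ⊔ sigmaCore M)) hu
  · have h1 : K ⊔ sigmaCore M ≤ K ⊔ (U ⊔ sigmaCore M) := sup_le_sup_left le_sup_right _
    exact h1 hb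

/-- `M' = U M_σ`. -/
theorem derived_eq (I : Inp G) {M K U : Subgroup G} (hM : IsCoatom M) (hd : IsSigmaDecomposition M K U) (hK1 : K ≠ ⊥) :
    ⁅M, M⁆ = U ⊔ sigmaCore M := by
  have hG := I.hG
  have hKab : ∀ a ∈ K, ∀ b ∈ K, a * b = b * a := fun a ha b hb => mul_comm_of_isCyclic hd.cyclic ha hb
  apply le_antisymm (comm_le hKab hd.hall.1 (D_norm hd) (sup_eq_of_dec hd))
  apply sup_le _ (Cfsg.Agent.Lib.BGP3D.sigmaCore_le_derived hG hM)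
  intro u hu
  obtain ⟨k, hk, hk1⟩ := exists_mem_ne_one hK1
  have hf := Cfsg.Agent.Lib.BGCent.fixed_points_U hG ⟨I.thmD, I.s30, I.s32⟩ hM hd k hk hk1
  obtain ⟨v, hv, rfl⟩ := exists_comm_eq (fun v hv => (mem_normalizer_iff.mp (hd.normal hk) v).mp hv) hf hu
  exact Subgroup.commutator_mem_commutator (hd.compl.1 hv) (hd.hall.1 hk)

/-- The norm argument: an element of `M'` commuting with the abelian group `K` (with `M = K M'`) and of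
order prime to `K` lies in `M''`. -/
theorem mem_derived_two {M K : Subgroup G} (hKc : ∀ a ∈ K, ∀ b ∈ K, a * b = b * a) (hKM : K ≤ M)
    (hsup : K ⊔ ⁅M, M⁆ = M) (hN : M ≤ normalizer ((⁅M, M⁆ : Subgroup G) : Set G)) {t : G} (ht : t ∈ ⁅M, M⁆)
    (htK : ∀ h ∈ K, h * t = t * h) (hcop : (orderOf t).Coprime (Nat.card K)) : t ∈ ⁅⁅M, M⁆, ⁅M, M⁆⁆ := by
  classical
  set D := ⁅M, M⁆ with hD
  have hDn : ∀ c ∈ M, ∀ d ∈ D, c * d * c⁻¹ ∈ D := fun c hc d hd => (mem_normalizer_iff.mp (hN hc) d).mp hd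
  haveI : Fintype K := Fintype.ofFinite K
  -- conjugation on `D`
  let c : K → (D →* Abelianization D) := fun h =>
    (Abelianization.of).comp
      { toFun := fun g => ⟨(h : G) * g * (h : G)⁻¹, hDn _ (hKM h.2) _ g.2⟩
        map_one' := by ext; simp
        map_mul' := by intro a b; ext; simp [mul_assoc] }
  have hc : ∀ (h : K) (g : D), c h g = Abelianization.of ⟨(h : G) * g * (h : G)⁻¹, hDn _ (hKM h.2) _ g.2⟩ :=
    fun h g => rfl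
  let N : D →* Abelianization D := ∏ h : K, c h
  have hNapp : ∀ g : D, N g = ∏ h : K, Abelianization.of ⟨(h : G) * g * (h : G)⁻¹, hDn _ (hKM h.2) _ g.2⟩ := by
    intro g
    show (∏ h : K, c h) g = _
    rw [MonoidHom.finsetProd_apply]
    exact Finset.prod_congr rfl fun h _ => hc h g
  have hinv : ∀ (h₀ : G) (hh₀ : h₀ ∈ K) (g : D), N ⟨h₀ * g * h₀⁻¹, hDn _ (hKM hh₀) _ g.2⟩ = N g := by
    intro h₀ hh₀ g
    rw [hNapp, hNapp]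
    apply Fintype.prod_equiv (Equiv.mulRight (⟨h₀, hh₀⟩ : K))
    intro h
    congr 1
    apply Subtype.ext
    simp [mul_assoc]
  -- `N` kills all of `D`
  have hle : D ≤ N.ker.map D.subtype := by
    refine Subgroup.commutator_le.mpr ?_
    intro a ha b hb
    rw [← hsup] at ha hb
    have hKn : K ≤ normalizer (D : Set G) := hKM.trans hN
    obtain ⟨h₁, hh₁, g₁, hg₁, rfl⟩ := Cfsg.Agent.Lib.BGFit4.mem_sup_of_le_normalizer hKn ha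
    obtain ⟨h₂, hh₂, g₂, hg₂, rfl⟩ := Cfsg.Agent.Lib.BGFit4.mem_sup_of_le_normalizer hKn hb
    have hcomm : h₁ * h₂ = h₂ * h₁ := hKc _ hh₁ _ hh₂
    have he1 : h₂⁻¹ * g₁ * h₂⁻¹⁻¹ ∈ D := hDn _ (inv_mem (hKM hh₂)) _ hg₁
    have he2 : h₁⁻¹ * g₂ * h₁⁻¹⁻¹ ∈ D := hDn _ (inv_mem (hKM hh₁)) _ hg₂
    set g₁' : D := ⟨g₁, hg₁⟩
    set g₂' : D := ⟨g₂, hg₂⟩
    set e₁ : D := ⟨h₂⁻¹ * g₁ * h₂⁻¹⁻¹, he1⟩
    set e₂ : D := ⟨h₁⁻¹ * g₂ * h₁⁻¹⁻¹, he2⟩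
    have hN1 : N e₁ = N g₁' := hinv h₂⁻¹ (inv_mem hh₂) g₁'
    have hN2 : N e₂ = N g₂' := hinv h₁⁻¹ (inv_mem hh₁) g₂'
    set w : D := e₁ * g₂' * (e₂ * g₁')⁻¹
    have hw : (w : G) = (h₂⁻¹ * g₁ * h₂⁻¹⁻¹) * g₂ * ((h₁⁻¹ * g₂ * h₁⁻¹⁻¹) * g₁)⁻¹ := rfl
    have hNw : N w = 1 := by
      simp only [w, map_mul, map_inv, hN1, hN2]
      rw [mul_comm (N g₂') (N g₁')]
      simp
    have hco : ⁅h₁ * g₁, h₂ * g₂⁆ = (h₁ * h₂) * (w : G) * (h₁ * h₂)⁻¹ := by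
      rw [hw, commutatorElement_def]
      have e1 : h₁ * g₁ * (h₂ * g₂) = h₁ * h₂ * ((h₂⁻¹ * g₁ * h₂⁻¹⁻¹) * g₂) := by group
      have e2 : h₂ * g₂ * (h₁ * g₁) = h₁ * h₂ * ((h₁⁻¹ * g₂ * h₁⁻¹⁻¹) * g₁) := by rw [hcomm]; group
      calc h₁ * g₁ * (h₂ * g₂) * (h₁ * g₁)⁻¹ * (h₂ * g₂)⁻¹
          = (h₁ * g₁ * (h₂ * g₂)) * (h₂ * g₂ * (h₁ * g₁))⁻¹ := by group
        _ = (h₁ * h₂ * ((h₂⁻¹ * g₁ * h₂⁻¹⁻¹) * g₂)) * (h₁ * h₂ * ((h₁⁻¹ * g₂ * h₁⁻¹⁻¹) * g₁))⁻¹ := by rw [e1, e2]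
        _ = _ := by group
    rw [hco]
    refine ⟨⟨(h₁ * h₂) * (w : G) * (h₁ * h₂)⁻¹, hDn _ (hKM (mul_mem hh₁ hh₂)) _ w.2⟩, ?_, rfl⟩
    show N _ = 1
    rw [hinv _ (mul_mem hh₁ hh₂) w, hNw]
  -- evaluating at `t`
  have ht' : N ⟨t, ht⟩ = 1 := by
    obtain ⟨g, hg, hgt⟩ := hle ht
    have : g = ⟨t, ht⟩ := Subtype.ext hgt
    rw [← this]
    exact hg
  have hval : N ⟨t, ht⟩ = Abelianization.of ⟨t, ht⟩ ^ Nat.card K := by
    rw [hNapp]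
    have : ∀ h : K, Abelianization.of (⟨(h : G) * (⟨t, ht⟩ : D) * (h : G)⁻¹, hDn _ (hKM h.2) _ ht⟩ : D) = Abelianization.of (⟨t, ht⟩ : D) := by
      intro h
      congr 1
      apply Subtype.ext
      show (h : G) * t * (h : G)⁻¹ = t
      rw [htK h h.2]
      group
    rw [Finset.prod_congr rfl (fun h _ => this h), Finset.prod_const, Finset.card_univ, Nat.card_eq_fintype_card]
  rw [hval, ← map_pow] at ht'
  have hker : (⟨t, ht⟩ : D) ^ Nat.card K ∈ commutator D := by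
    have h3 : Abelianization.of ((⟨t, ht⟩ : D) ^ Nat.card K) = 1 := ht'
    exact (QuotientGroup.eq_one_iff _).mp h3
  have hmem : t ^ Nat.card K ∈ ⁅D, D⁆ := by
    have h4 := Subgroup.mem_map_of_mem D.subtype hker
    rw [Subgroup.map_subtype_commutator] at h4
    simpa using h4
  exact mem_of_pow_mem_of_coprime' hcop hmem

/-- `K* ≤ M''`. -/
theorem kst_le_derived (I : Inp G) {M K U : Subgroup G} (hM : IsCoatom M) (hd : IsSigmaDecomposition M K U) (hK1 : K ≠ ⊥) :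
    sigmaCore M ⊓ centralizer (K : Set G) ≤ ⁅⁅M, M⁆, ⁅M, M⁆⁆ := by
  have hKab : ∀ a ∈ K, ∀ b ∈ K, a * b = b * a := fun a ha b hb => mul_comm_of_isCyclic hd.cyclic ha hb
  have he := derived_eq I hM hd hK1
  have hsup : K ⊔ ⁅M, M⁆ = M := by rw [he]; exact sup_eq_of_dec hd
  have hN : M ≤ normalizer ((⁅M, M⁆ : Subgroup G) : Set G) := by rw [he]; exact D_norm hd
  rintro t ⟨ht, htc⟩
  have htD : t ∈ ⁅M, M⁆ := Cfsg.Agent.Lib.BGP3D.sigmaCore_le_derived I.hG hM ht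
  apply mem_derived_two hKab hd.hall.1 hsup hN htD (fun h hh => mem_centralizer_iff.mp htc h hh)
  have hg : Good M K := ⟨hM, hd.hall, hK1⟩
  exact Nat.Coprime.coprime_dvd_left (Subgroup.orderOf_dvd_natCard _ ht) hg.coprime_core.symm

end Cfsg.Agent.Lib.BGZB
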