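import Mathlib
import Cfsg.Agent.Lib.BGZB
import Cfsg.Agent.Lib.BGTau12
import Cfsg.Agent.Lib.FitPair
import Cfsg.Agent.S1545

/-!
# Bender-Glauberman section 14: `F(M)` is a TI-subset when `K ≠ 1`, `U ≠ 1`.
-/

set_option autoImplicit false
set_option linter.unusedSectionVars false
set_option linter.unusedVariables false
set_option linter.style.haveILetI false
set_option linter.unusedSimpArgs false

namespace Cfsg.Agent.Lib.BGZC

open Cfsg Subgroup Cfsg.Agent.Lib.CoprimeInv Cfsg.Agent.Lib.BGTrans Cfsg.Agent.Lib.BGM1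
  Cfsg.Agent.Lib.BGSigma2 Cfsg.Agent.Lib.BGM2 Cfsg.Agent.Lib.BGZ1 Cfsg.Agent.Lib.OddOrderCore
  Cfsg.Agent.Lib.BGSigma4 Cfsg.Agent.Lib.BGZ2 Cfsg.Agent.Lib.BGZ3 Cfsg.Agent.Lib.BGZ4
  Cfsg.Agent.Lib.BGZ5 Cfsg.Agent.Lib.BGZ6 Cfsg.Agent.Lib.BGZ7 Cfsg.Agent.Lib.BGZ8
  Cfsg.Agent.Lib.BGTau7

open scoped commutatorElement

universe u

variable {G : Type u} [Group G] [Finite G]

/-- The centre of a nontrivial nilpotent subgroup is nontrivial. -/
theorem core_center_ne_bot {S : Subgroup G} (hS : S ≠ ⊥) (h : Group.IsNilpotent S) :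
    S ⊓ centralizer (S : Set G) ≠ ⊥ := by
  classical
  have he : ∃ n, S.lowerCentralSeries n = ⊥ := (Subgroup.isNilpotent_iff_lowerCentralSeries S).mp h
  set n := Nat.find he with hn
  have hn0 : n ≠ 0 := by
    intro h0
    have h1 := Nat.find_spec he
    rw [← hn, h0, Subgroup.lowerCentralSeries_zero] at h1
    exact hS h1
  obtain ⟨m, hm⟩ := Nat.exists_eq_succ_of_ne_zero hn0
  have h2 : S.lowerCentralSeries (m + 1) = ⊥ := by
    have h1 := Nat.find_spec he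
    rwa [← hn, hm] at h1
  have h3 : S.lowerCentralSeries m ≠ ⊥ := by
    have : m < Nat.find he := by omega
    exact Nat.find_min he this
  intro hc
  apply h3
  rw [eq_bot_iff, ← hc]
  intro x hx
  have hxS : x ∈ S := by
    have := Subgroup.lowerCentralSeries_antitone (S := S) (Nat.zero_le m)
    exact this hx
  refine ⟨hxS, ?_⟩
  show x ∈ centralizer (S : Set G)
  rw [mem_centralizer_iff]
  intro y hy
  have h4 : ⁅x, y⁆ ∈ S.lowerCentralSeries (m + 1) := by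
    rw [Subgroup.lowerCentralSeries_succ]
    exact commutator_mem_commutator hx hy
  rw [h2, Subgroup.mem_bot, commutatorElement_eq_one_iff_mul_comm] at h4
  exact h4.symm

/-- The `q`-torsion of an abelian subgroup. -/
def omg (q : ℕ) (D : Subgroup G) (h : ∀ a ∈ D, ∀ b ∈ D, a * b = b * a) : Subgroup G where
  carrier := {z | z ∈ D ∧ z ^ q = 1}
  mul_mem' := by
    rintro a b ⟨ha, ha1⟩ ⟨hb, hb1⟩
    refine ⟨mul_mem ha hb, ?_⟩
    have hc : Commute a b := h a ha b hb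
    rw [hc.mul_pow, ha1, hb1, one_mul]
  one_mem' := ⟨one_mem _, one_pow _⟩
  inv_mem' := by
    rintro a ⟨ha, ha1⟩
    exact ⟨inv_mem ha, by rw [inv_pow, ha1, inv_one]⟩

theorem mem_omg {q : ℕ} {D : Subgroup G} {h : ∀ a ∈ D, ∀ b ∈ D, a * b = b * a} {z : G} :
    z ∈ omg q D h ↔ z ∈ D ∧ z ^ q = 1 := Iff.rfl

/-- `M_σ ∩ C(U) = 1` for `U ≠ 1`. -/
theorem core_cent_U (I : Inp G) {M K U : Subgroup G} (hM : IsCoatom M)
    (hd : IsSigmaDecomposition M K U) (hU1 : U ≠ ⊥) :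
    sigmaCore M ⊓ centralizer (U : Set G) = ⊥ := by
  classical
  have hG := I.hG
  refine (Subgroup.eq_bot_iff_forall _).mpr ?_
  rintro w ⟨hwσ, hwC⟩
  by_contra hw1
  obtain ⟨X, hXU, hXp⟩ := exists_prime_le hU1
  obtain ⟨ρ, hρX, hρ1, hXz, hρo⟩ := exists_gen hXp
  set r := Nat.card X with hr
  haveI : Fact r.Prime := ⟨hXp⟩
  have hrdU : r ∣ Nat.card U := Subgroup.card_dvd_of_le hXU
  obtain ⟨hrκ, hrσ⟩ := Cfsg.Agent.Lib.BGCent.primes_U hG hM hd hXp hrdU
  have hUM : U ≤ M := hd.compl.1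
  have hcomm : ∀ u ∈ U, u * w = w * u := fun u hu => mem_centralizer_iff.mp hwC u hu
  have hρw : ρ ∈ M ⊓ centralizer ({w} : Set G) :=
    ⟨hUM (hXU hρX), mem_centralizer_singleton_iff.mpr (hcomm ρ (hXU hρX))⟩
  have hpr : ∀ p : ℕ, p.Prime → p ∣ orderOf ρ → p = r := by
    intro p hp hpd
    rw [hρo] at hpd
    exact (Nat.prime_dvd_prime_iff_eq hp hXp).mp hpd
  rcases I.s32 M hM w hwσ hw1 ρ hρw hρ1 (fun p hp hpd => by rw [hpr p hp hpd]; exact hrσ) with
    ⟨h1, -⟩ | ⟨h1, -, -⟩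
  · exact hrκ (h1 r hXp (by rw [hρo]))
  · have hτ := h1 r hXp (by rw [hρo])
    obtain ⟨A₀, hA₀M, hA₀e, hA₀c⟩ := Cfsg.Agent.Lib.BGSigma3.exists_ea2 hτ.2.2.2
    obtain ⟨P₀, hP₀⟩ := exists_isSylowIn r U
    have hi : ¬ r ∣ U.relIndex M := by
      have hc1 : Nat.card U * Nat.card (K ⊔ sigmaCore M : Subgroup G) = Nat.card M :=
        card_mul_card_of_isComplIn hd.compl
      have hc2 : Nat.card U * U.relIndex M = Nat.card M := by
        have := Subgroup.card_mul_index (U.subgroupOf M)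
        rwa [card_subgroupOf_of_le hUM] at this
      have hc3 : U.relIndex M = Nat.card (K ⊔ sigmaCore M : Subgroup G) :=
        Nat.eq_of_mul_eq_mul_left (Nat.card_pos (α := U)) (hc2.trans hc1.symm)
      rw [hc3]
      intro h2
      have h3 := h2.trans (Cfsg.Agent.Lib.BGCent.card_sup_dvd (hd.hall.1.trans le_normalizer_sigmaCore))
      rcases (Nat.Prime.dvd_mul hXp).mp h3 with h4 | h4
      · exact hrκ (hd.hall.2.1 r hXp h4)
      · exact hrσ (primes_sigmaCore r hXp h4)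
    have hP₀M := isSylowIn_of_hall hP₀ hUM hi
    have hA₀p : IsPGroup r A₀ := fun x => ⟨1, by
      apply Subtype.ext
      simpa using hA₀e.2 x x.2⟩
    obtain ⟨P₁, hP₁, hA₀P₁⟩ := exists_isSylowIn_ge r hA₀M hA₀p
    obtain ⟨m, hm, hP₁P₀⟩ := hP₁.exists_conj hP₀M
    have T : T2 M A₀ r := Cfsg.Agent.Lib.BGTau7.T2.mk' hG hM hτ hA₀M hA₀e hA₀c
    have T' : T2 M (cj A₀ m) r := T.conj hm
    have hAU : cj A₀ m ≤ U := by
      intro a ha
      rw [mem_cj] at ha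
      apply hP₀.1
      rw [hP₁P₀, mem_cj]
      exact hA₀P₁ ha
    have h5 : w ∈ sigmaCore M ⊓ centralizer ((cj A₀ m : Subgroup G) : Set G) := by
      refine ⟨hwσ, ?_⟩
      show w ∈ centralizer ((cj A₀ m : Subgroup G) : Set G)
      rw [mem_centralizer_iff]
      intro a ha
      exact hcomm a (hAU ha)
    rw [T'.d, Subgroup.mem_bot] at h5
    exact hw1 h5

/-- With `U ≠ 1`, `M` is not of type `P₁`. -/
theorem not_P1_of_U (hG : IsMinSimpleOddOrder G) {M K U : Subgroup G} (hM : IsCoatom M)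
    (hd : IsSigmaDecomposition M K U) (hU1 : U ≠ ⊥) : ¬ P1 M := by
  intro hP
  obtain ⟨X, hXU, hXp⟩ := exists_prime_le hU1
  have hrdU : Nat.card X ∣ Nat.card U := Subgroup.card_dvd_of_le hXU
  obtain ⟨hrκ, hrσ⟩ := Cfsg.Agent.Lib.BGCent.primes_U hG hM hd hXp hrdU
  rcases hP _ hXp (hrdU.trans (Subgroup.card_dvd_of_le hd.compl.1)) with h | h
  · exact hrσ h
  · exact hrκ h

/-- The Frobenius-group count on a `K U`-invariant subgroup of `M_σ`. -/
theorem frob_count (I : Inp G) {M K U Y : Subgroup G} (hM : IsCoatom M)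
    (hd : IsSigmaDecomposition M K U) (hK1 : K ≠ ⊥) (hU1 : U ≠ ⊥)
    (hYσ : Y ≤ sigmaCore M) (hYn : ∀ m ∈ M, ∀ y ∈ Y, m * y * m⁻¹ ∈ Y) :
    Nat.card Y = Nat.card ↥(Y ⊓ centralizer (K : Set G)) ^ Nat.card K := by
  classical
  have hG := I.hG
  have kf : Cfsg.Agent.Lib.BGCent.KappaFacts G := ⟨I.thmD, I.s30, I.s32⟩
  have hUM : U ≤ M := hd.compl.1
  have hKM : K ≤ M := hd.hall.1
  have hUK : U ⊓ K = ⊥ := by
    refine eq_bot_iff.mpr ?_
    rintro a ⟨haU, haK⟩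
    have h1 : a ∈ U ⊓ (K ⊔ sigmaCore M) := ⟨haU, mem_sup_left haK⟩
    rwa [hd.compl.2.2.1] at h1
  have hUn : ∀ e ∈ K, ∀ u ∈ U, e * u * e⁻¹ ∈ U := fun e he u hu =>
    (Subgroup.mem_normalizer_iff.mp (hd.normal he) u).mp hu
  have hfp := Cfsg.Agent.Lib.BGCent.fixed_points_U hG kf hM hd
  have hfpf : ∀ e ∈ K, e ≠ 1 → ∀ u ∈ U, e * u = u * e → u = 1 := by
    intro e he he1 u hu heu
    have h1 : u ∈ U ⊓ centralizer ({e} : Set G) :=
      ⟨hu, mem_centralizer_singleton_iff.mpr heu.symm⟩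
    rwa [hfp e he he1, Subgroup.mem_bot] at h1
  have hUKM : U ⊔ K ≤ M := sup_le hUM hKM
  have hHn : ∀ x ∈ U ⊔ K, ∀ h ∈ Y, x * h * x⁻¹ ∈ Y := fun x hx h hh => hYn x (hUKM hx) h hh
  have hcop : Nat.Coprime (Nat.card Y) (Nat.card ↥(U ⊔ K)) := by
    refine Nat.coprime_of_dvd ?_
    intro r hr h1 h2
    have hrσ : r ∈ sigma M := primes_sigmaCore r hr (h1.trans (Subgroup.card_dvd_of_le hYσ))
    rw [sup_comm] at h2
    have h3 := h2.trans (Cfsg.Agent.Lib.BGCent.card_sup_dvd hd.normal)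
    rcases (Nat.Prime.dvd_mul hr).mp h3 with h4 | h4
    · exact Cfsg.Agent.Lib.BGCent.not_kappa_of_sigma hrσ (hd.hall.2.1 r hr h4)
    · exact (Cfsg.Agent.Lib.BGCent.primes_U hG hM hd hr h4).2 hrσ
  have hdisj : Y ⊓ (U ⊔ K) = ⊥ := (Subgroup.disjoint_of_coprime_natCard hcop).eq_bot
  have hsolv : Group.IsSolvable Y := solvable_of_le_coatom hG hM (hYσ.trans sigmaCore_le)
  have hmain := Cfsg.Agent.S1545.result U K Y hU1 hK1 hUK hUn hfpf hHn hdisj hsolv hcop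
  have hb := core_cent_U I hM hd hU1
  have h1 : Y ⊓ centralizer (U : Set G) = ⊥ := by
    refine eq_bot_iff.mpr ?_
    rintro a ⟨haY, haC⟩
    have h2 : a ∈ sigmaCore M ⊓ centralizer (U : Set G) := ⟨hYσ haY, haC⟩
    rwa [hb] at h2
  have h2 : Y ⊓ centralizer ((U ⊔ K : Subgroup G) : Set G) = ⊥ := by
    refine eq_bot_iff.mpr ?_
    rintro a ⟨haY, haC⟩
    have h3 : a ∈ Y ⊓ centralizer (U : Set G) :=
      ⟨haY, Subgroup.centralizer_le (show (U : Set G) ⊆ ((U ⊔ K : Subgroup G) : Set G) from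
        le_sup_left (a := U) (b := K)) haC⟩
    rwa [h1] at h3
  rw [h1, h2, Subgroup.card_bot, one_pow, one_mul, mul_one] at hmain
  exact hmain

/-- **`C(x) ≤ M` for `x ∈ M_σ^#`, when `K ≠ 1` and `U ≠ 1`.** -/
theorem core_cent_le (I : Inp G) {M K U : Subgroup G} (hM : IsCoatom M)
    (hd : IsSigmaDecomposition M K U) (hK1 : K ≠ ⊥) (hU1 : U ≠ ⊥) {x : G}
    (hx : x ∈ sigmaCore M) (hx1 : x ≠ 1) : centralizer ({x} : Set G) ≤ M := by
  classical
  by_contra hC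
  have hG := I.hG
  obtain ⟨-, R, hRn, hRc, -⟩ := I.s74 M hM x hx hx1
  have kf : Cfsg.Agent.Lib.BGCent.KappaFacts G := ⟨I.thmD, I.s30, I.s32⟩
  have c : Cfsg.Agent.Lib.BGCent.CCtx M R x := ⟨hG, kf, hM, hx, hx1, hC, hRn, hRc⟩
  obtain ⟨N, hN, hCN, -, hτ⟩ := c.exists_N
  obtain ⟨p, hp, hpx⟩ := c.exists_prime
  have hpσ : p ∈ sigma M := primes_sigmaCore p hp (hpx.trans (Subgroup.orderOf_dvd_natCard _ hx))
  have hdisj : ∀ q, q ∈ sigma M → q ∉ sigma N := by
    intro q hqM hqN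
    obtain ⟨g, hg⟩ := I.thmD M N hM hN ⟨q, hqM, hqN⟩
    have he : sigma N = sigma M := by
      rw [hg]
      exact sigma_cj_eq M g
    exact c.not_sigma hN hCN hp hpx (he ▸ hpσ)
  have hP := not_P1_of_U hG hM hd hU1
  have hnil := nilp_of_not_P1 hG hM hP
  have hσ1 : sigmaCore M ≠ ⊥ := sigmaCore_ne_bot hG hM (Cfsg.Agent.Lib.BGSigma2.coatom_ne_bot hG hM)
  have hD1 := core_center_ne_bot hσ1 hnil
  set D := sigmaCore M ⊓ centralizer (sigmaCore M : Set G) with hD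
  have hDc : ∀ a ∈ D, ∀ b ∈ D, a * b = b * a := fun a ha b hb =>
    (mem_centralizer_iff.mp hb.2 a ha.1)
  obtain ⟨X, hXD, hXp⟩ := exists_prime_le hD1
  obtain ⟨z, hzX, hz1, hXz, hzo⟩ := exists_gen hXp
  set q := Nat.card X with hq
  haveI : Fact q.Prime := ⟨hXp⟩
  set Y := omg q D hDc with hY
  have hzY : z ∈ Y := ⟨hXD hzX, by rw [← hzo]; exact pow_orderOf_eq_one z⟩
  have hYp : IsPGroup q Y := fun a => ⟨1, by
    apply Subtype.ext
    simpa using a.2.2⟩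
  have hYD : Y ≤ D := fun a ha => ha.1
  have hYσ : Y ≤ sigmaCore M := hYD.trans inf_le_left
  have hqσ : q ∈ sigma M := primes_sigmaCore q hXp
    (by
      have h1 := Subgroup.orderOf_dvd_natCard (sigmaCore M) (hXD hzX).1
      rwa [hzo] at h1)
  have hYN : Y ≤ N := by
    intro a ha
    apply hCN
    rw [mem_centralizer_singleton_iff]
    exact (mem_centralizer_iff.mp (hYD ha).2 x hx).symm
  have hYab : IsMulCommutative Y := ⟨⟨fun a b => Subtype.ext (hDc _ (hYD a.2) _ (hYD b.2))⟩⟩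
  have hYc : Nat.card Y ≤ q ^ 2 :=
    (Cfsg.Agent.Lib.BGSigma.prankLE_iff.mp
      (Cfsg.Agent.Lib.BGTau7.rank2_of_not_sigma hG hN hXp (hdisj q hqσ))) Y hYN hYab (fun a ha => ha.2)
  have hYn : ∀ m ∈ M, ∀ y ∈ Y, m * y * m⁻¹ ∈ Y := by
    intro m hm y hy
    have hmN := le_normalizer_sigmaCore hm
    have hσn : ∀ s ∈ sigmaCore M, m * s * m⁻¹ ∈ sigmaCore M := fun s hs =>
      (Subgroup.mem_normalizer_iff.mp hmN s).mp hs
    have hσi : ∀ s ∈ sigmaCore M, m⁻¹ * s * m ∈ sigmaCore M := fun s hs => by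
      have := (Subgroup.mem_normalizer_iff.mp hmN (m⁻¹ * s * m)).mpr (by
        have e : m * (m⁻¹ * s * m) * m⁻¹ = s := by group
        rwa [e])
      exact this
    refine ⟨⟨hσn y (hYσ hy), ?_⟩, ?_⟩
    · show m * y * m⁻¹ ∈ centralizer (sigmaCore M : Set G)
      rw [mem_centralizer_iff]
      intro s hs
      have h1 : (m⁻¹ * s * m) * y = y * (m⁻¹ * s * m) := mem_centralizer_iff.mp (hYD hy).2 _ (hσi s hs)
      calc s * (m * y * m⁻¹) = m * ((m⁻¹ * s * m) * y) * m⁻¹ := by group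
        _ = m * (y * (m⁻¹ * s * m)) * m⁻¹ := by rw [h1]
        _ = (m * y * m⁻¹) * s := by group
    · rw [conj_pow, hy.2, mul_one, mul_inv_cancel]
  have hcount := frob_count I hM hd hK1 hU1 hYσ hYn
  have hK3 : 3 ≤ Nat.card K := exists_two ⟨hM, hd.hall, hK1⟩ I
  set c' := Nat.card ↥(Y ⊓ centralizer (K : Set G)) with hc'
  have hY1 : Nat.card Y ≠ 1 := by
    intro h1
    have := Subgroup.card_eq_one.mp h1
    rw [this] at hzY
    exact hz1 hzY
  have hc1 : c' ≠ 1 := by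
    intro h1
    rw [h1, one_pow] at hcount
    exact hY1 hcount
  have hcdvd : c' ∣ Nat.card Y := Subgroup.card_dvd_of_le inf_le_left
  obtain ⟨a, ha⟩ := IsPGroup.iff_card.mp hYp
  have hqc : q ≤ c' := by
    rw [ha] at hcdvd
    obtain ⟨b, -, hb⟩ := (Nat.dvd_prime_pow hXp).mp hcdvd
    rw [hb] at hc1 ⊢
    have hb0 : b ≠ 0 := by
      rintro rfl
      exact hc1 (pow_zero q)
    exact Nat.le_self_pow hb0 q
  have hq2 : 2 ≤ q := hXp.two_le
  have h9 : q ^ 3 ≤ Nat.card Y := by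
    rw [hcount]
    calc q ^ 3 ≤ c' ^ 3 := Nat.pow_le_pow_left hqc 3
      _ ≤ c' ^ Nat.card K := Nat.pow_le_pow_right (by omega) hK3
  have h10 : q ^ 2 < q ^ 3 := Nat.pow_lt_pow_right hXp.one_lt (by omega)
  omega

/-- A conjugate of `M` containing `y ∈ M_σ^#` with `C(y) ≤ M` is `M`. -/
theorem mem_of_conj (I : Inp G) {M : Subgroup G} (hM : IsCoatom M) {y h : G}
    (hy : y ∈ sigmaCore M) (hy1 : y ≠ 1) (hC : centralizer ({y} : Set G) ≤ M) (hyh : y ∈ cj M h) :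
    h ∈ M := by
  obtain ⟨-, R, hRn, hRc, hu⟩ := I.s74 M hM y hy hy1
  obtain ⟨r, ⟨hr, he⟩, -⟩ := hu h hyh
  have hrM : r ∈ M := hC (hRc.2.1 hr)
  have h1 : r ∈ (M ⊓ centralizer ({y} : Set G)) ⊓ R := ⟨⟨hrM, hRc.2.1 hr⟩, hr⟩
  rw [hRc.2.2.1, Subgroup.mem_bot] at h1
  have he' : cj M h = M := by
    have : cj M r = cj M h := he
    rw [← this, h1, cj_one]
  rw [← BGZ6.normalizer_coatom I.hG hM]
  exact mem_normalizer_of_cj_eq he'

/-- **S1372**: `K` has prime order, `F(M)` contains `M_σ` and is a TI-subset. -/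
theorem s1372 (I : Inp G) (M : Subgroup G) (hM : IsCoatom M) (K U : Subgroup G)
    (hKU : IsSigmaDecomposition M K U) (hK1 : K ≠ ⊥) (hU1 : U ≠ ⊥) :
    (Nat.card K).Prime ∧ IsTISubset (fittingOf M : Set G) ∧ sigmaCore M ≤ fittingOf M := by
  classical
  have hG := I.hG
  have hP := not_P1_of_U hG hM hKU hU1
  have hgood : Good M K := ⟨hM, hKU.hall, hK1⟩
  have hnil := nilp_of_not_P1 hG hM hP
  have hle : sigmaCore M ≤ fittingOf M :=
    Cfsg.Agent.Lib.BGFix.le_fittingOf M (sigmaCore M) sigmaCore_le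
      (fun k hk l hl => (mem_normalizer_iff.mp (le_normalizer_sigmaCore hk) l).mp hl) hnil
  refine ⟨prime_of_not_P1 I hgood hP, ?_, hle⟩
  intro g hg x hx hxg
  by_contra hx1
  have hFM : fittingOf M ≤ M := Subgroup.map_subtype_le _
  have hgM : g ∉ M := fun h => hg (Cfsg.Agent.Lib.FitPair.le_normalizer_fittingOf M h)
  have hz1 : zpowers x ≠ ⊥ := fun h => hx1 (zpowers_eq_bot.mp h)
  obtain ⟨Y, hYx, hYp⟩ := exists_prime_le hz1
  obtain ⟨y, hyY, hy1, hYz, hyo⟩ := exists_gen hYp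
  set t := Nat.card Y with ht
  haveI : Fact t.Prime := ⟨hYp⟩
  obtain ⟨k, hk⟩ := hYx hyY
  have hk' : x ^ k = y := hk
  have hyF : y ∈ fittingOf M := by
    rw [← hk']
    exact zpow_mem hx k
  have hzF : g * y * g⁻¹ ∈ fittingOf M := by
    rw [← hk', ← conj_zpow]
    exact zpow_mem hxg k
  have hwp : ∀ p : ℕ, p.Prime → p ∣ orderOf y → p = t := fun p hp hd => by
    rw [hyo] at hd
    exact (Nat.prime_dvd_prime_iff_eq hp hYp).mp hd
  by_cases htσ : t ∈ sigma M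
  · have hyσ : y ∈ sigmaCore M := mem_core_of_primes hG hM (hFM hyF) (fun p hp hd => by
      rw [hwp p hp hd]
      exact htσ)
    have hyg : y ∈ cj M g⁻¹ := by
      rw [mem_cj]
      simpa using hFM hzF
    have := mem_of_conj I hM hyσ hy1 (core_cent_le I hM hKU hK1 hU1 hyσ hy1) hyg
    exact hgM (by simpa using this)
  · have hcw : ∀ s ∈ sigmaCore M, (orderOf s).Coprime t := by
      intro s hs
      refine Nat.Coprime.symm ((Nat.Prime.coprime_iff_not_dvd hYp).mpr ?_)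
      intro hd
      exact htσ (primes_sigmaCore t hYp (hd.trans (Subgroup.orderOf_dvd_natCard _ hs)))
    have hpe : ∀ a : G, orderOf a = t → Cfsg.Agent.Lib.FitPair.PElt t a := by
      intro a ha
      exact ⟨1, by rw [pow_one, ← ha]; exact pow_orderOf_eq_one a⟩
    have hyc : ∀ s ∈ sigmaCore M, y * s = s * y := fun s hs =>
      Cfsg.Agent.Lib.FitPair.comm_of_mem_fittingOf hyF (hle hs) (hpe y hyo) (hcw s hs)
    have hzo : orderOf (g * y * g⁻¹) = t := by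
      have h9 := MulEquiv.orderOf_eq (MulAut.conj g) y
      rw [MulAut.conj_apply] at h9
      rw [h9, hyo]
    have hzc : ∀ s ∈ sigmaCore M, (g * y * g⁻¹) * s = s * (g * y * g⁻¹) := fun s hs =>
      Cfsg.Agent.Lib.FitPair.comm_of_mem_fittingOf hzF (hle hs) (hpe _ hzo) (hcw s hs)
    have hσ1 : sigmaCore M ≠ ⊥ := sigmaCore_ne_bot hG hM (Cfsg.Agent.Lib.BGSigma2.coatom_ne_bot hG hM)
    obtain ⟨w, hw, hw1⟩ := exists_mem_ne_one hσ1
    have hyw : y ∈ M ⊓ centralizer ({w} : Set G) :=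
      ⟨hFM hyF, mem_centralizer_singleton_iff.mpr (hyc w hw)⟩
    rcases I.s32 M hM w hw hw1 y hyw hy1 (fun p hp hd => by rw [hwp p hp hd]; exact htσ) with
      ⟨h1, -⟩ | ⟨h1, -, hCy, -⟩
    · have htκ := h1 t hYp (by rw [hyo])
      obtain ⟨m, hm, hle₂⟩ := exists_conj_le_hall (solvable_of_le_coatom hG hM (le_refl M)) hKU.hall
        (zpowers_le.mpr (hFM hyF)) (by
          intro r hr hd
          rw [Nat.card_zpowers, hyo] at hd
          rw [(Nat.prime_dvd_prime_iff_eq hr hYp).mp hd]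
          exact htκ)
      have hyK : m⁻¹ * y * m ∈ K := by
        have := hle₂ (mem_zpowers y)
        rwa [mem_cj] at this
      have hk1 : m⁻¹ * y * m ≠ 1 := by
        intro h
        apply hy1
        have : y = m * (m⁻¹ * y * m) * m⁻¹ := by group
        rw [this, h]
        group
      have hsub : sigmaCore M ≤ sigmaCore M ⊓ centralizer ({m⁻¹ * y * m} : Set G) := by
        intro s hs
        refine ⟨hs, mem_centralizer_singleton_iff.mpr ?_⟩
        have hs' : m * s * m⁻¹ ∈ sigmaCore M :=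
          (mem_normalizer_iff.mp (le_normalizer_sigmaCore hm) s).mp hs
        have h2 := hyc _ hs'
        calc s * (m⁻¹ * y * m) = m⁻¹ * ((m * s * m⁻¹) * y) * m := by group
          _ = m⁻¹ * (y * (m * s * m⁻¹)) * m := by rw [h2]
          _ = (m⁻¹ * y * m) * s := by group
      rw [(I.s30 M hM K hKU.hall hK1).1 _ hyK hk1] at hsub
      exact absurd (lt_of_lt_of_le (hgood.kst_lt_core I) hsub) (lt_irrefl _)
    · have hwg : w ∈ cj M g := by
        rw [mem_cj]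
        apply hCy
        rw [mem_centralizer_singleton_iff]
        have h2 := hzc w hw
        calc g⁻¹ * w * g * y = g⁻¹ * (w * (g * y * g⁻¹)) * g := by group
          _ = g⁻¹ * ((g * y * g⁻¹) * w) * g := by rw [h2]
          _ = y * (g⁻¹ * w * g) := by group
      exact hgM (mem_of_conj I hM hw hw1 (core_cent_le I hM hKU hK1 hU1 hw hw1) hwg)

end Cfsg.Agent.Lib.BGZC
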