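import Mathlib
import Cfsg.Agent.Lib.BGZC
import Cfsg.Agent.Lib.H6F4
import Cfsg.Agent.Lib.CycPAut

/-!
# Bender-Glauberman section 14: `K*` lies in `M_F`, and `M_F` is not cyclic.
-/

set_option autoImplicit false
set_option linter.unusedSectionVars false
set_option linter.unusedVariables false
set_option linter.style.haveILetI false
set_option linter.unusedSimpArgs false

namespace Cfsg.Agent.Lib.BGZD

open Cfsg Subgroup Cfsg.Agent.Lib.CoprimeInv Cfsg.Agent.Lib.BGTrans Cfsg.Agent.Lib.BGM1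
  Cfsg.Agent.Lib.BGSigma2 Cfsg.Agent.Lib.BGM2 Cfsg.Agent.Lib.BGZ1 Cfsg.Agent.Lib.OddOrderCore
  Cfsg.Agent.Lib.BGSigma4 Cfsg.Agent.Lib.BGZ2 Cfsg.Agent.Lib.BGZ3 Cfsg.Agent.Lib.BGZ4
  Cfsg.Agent.Lib.BGZ5 Cfsg.Agent.Lib.BGZ6 Cfsg.Agent.Lib.BGZ7 Cfsg.Agent.Lib.BGZ8
  Cfsg.Agent.Lib.BGTau7

open scoped commutatorElement

universe u

variable {G : Type u} [Group G] [Finite G]

/-- A coprime element fixing a non-identity element of a normalized cyclic `p`-subgroup centralizes it. -/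
theorem centralizes_cyclic_coprime {p : ℕ} [hp : Fact p.Prime]
    {C : Subgroup G} (hC : IsCyclic C) (hCp : IsPGroup p C) {ρ : G}
    (hρn : ρ ∈ normalizer (C : Set G)) (hρ : ¬ p ∣ orderOf ρ) {y : G} (hyC : y ∈ C) (hy1 : y ≠ 1)
    (hfix : ρ * y * ρ⁻¹ = y) {c : G} (hc : c ∈ C) : ρ * c * ρ⁻¹ = c := by
  classical
  haveI := hC
  let α : MulAut C := conjOn C ρ hρn
  have hαk : α ^ orderOf ρ = 1 := by
    ext u
    have h1 : (((α : C → C)^[orderOf ρ] u : C) : G) = ρ ^ orderOf ρ * u * (ρ ^ orderOf ρ)⁻¹ :=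
      conjOn_iterate C ρ hρn (orderOf ρ) u
    rw [pow_orderOf_eq_one] at h1
    have h2 : ∀ n : ℕ, (α ^ n) u = (α : C → C)^[n] u := by
      intro n
      induction n with
      | zero => rfl
      | succ n ih => rw [pow_succ', Function.iterate_succ_apply', MulAut.mul_apply, ih]
    have h2 := h2 (orderOf ρ)
    rw [h2, h1]
    simp
  have hα : ¬ p ∣ orderOf α := fun hd => hρ (hd.trans (orderOf_dvd_of_pow_eq_one hαk))
  have hy' : (⟨y, hyC⟩ : C) ≠ 1 := fun h => hy1 (congrArg Subtype.val h)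
  have hfix' : α ⟨y, hyC⟩ = ⟨y, hyC⟩ := Subtype.ext hfix
  have h1 := Cfsg.Agent.Lib.CycPAut.eq_one_of_fixes hCp α hα hy' hfix'
  have h2 : α ⟨c, hc⟩ = ⟨c, hc⟩ := by rw [h1]; rfl
  exact congrArg Subtype.val h2

theorem isCyclic_of_le {A B : Subgroup G} (h : A ≤ B) (hB : IsCyclic B) : IsCyclic A :=
  isCyclic_of_injective (Subgroup.inclusion h) (Subgroup.inclusion_injective h)

/-- A Sylow subgroup of `M_σ` meeting `K*` and normalized by `K` is not cyclic. -/
theorem false_of_cyclic_sylow (I : Inp G) {M K : Subgroup G} (h : Good M K) {p : ℕ} [hpf : Fact p.Prime]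
    {S : Subgroup G} (hS : IsSylowIn p S (sigmaCore M)) (hSK : K ≤ normalizer (S : Set G))
    (hSc : IsCyclic S) {y : G} (hy : y ∈ S) (hyK : y ∈ kst M K) (hy1 : y ≠ 1) : False := by
  classical
  have hyord : p ∣ orderOf y := by
    obtain ⟨k, hk⟩ := hS.2.1 ⟨y, hy⟩
    have h1 : y ^ p ^ k = 1 := by simpa using congrArg Subtype.val hk
    obtain ⟨j, _, hj⟩ := (Nat.dvd_prime_pow hpf.out).mp (orderOf_dvd_of_pow_eq_one h1)
    rw [hj]
    have hj0 : j ≠ 0 := by
      rintro rfl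
      rw [pow_zero] at hj
      exact hy1 (orderOf_eq_one_iff.mp hj)
    exact dvd_pow_self p hj0
  have hd : p ∣ Nat.card (kst M K) := hyord.trans (Subgroup.orderOf_dvd_natCard _ hyK)
  have hpσ : p ∈ sigma M := primes_sigmaCore p hpf.out (hd.trans (Subgroup.card_dvd_of_le h.kst_le_core))
  apply (h.f6 I hpf.out hd hS).2.2
  intro c hc
  refine ⟨hS.1 hc, ?_⟩
  show c ∈ centralizer (K : Set G)
  rw [mem_centralizer_iff]
  intro k hk
  have hko : ¬ p ∣ orderOf k := fun hdk =>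
    Cfsg.Agent.Lib.BGCent.not_kappa_of_sigma hpσ
      (h.hall.2.1 p hpf.out (hdk.trans (Subgroup.orderOf_dvd_natCard _ hk)))
  have hfix : k * y * k⁻¹ = y := by
    have h2 : k * y = y * k := mem_centralizer_iff.mp hyK.2 k hk
    rw [h2]
    group
  have h3 := centralizes_cyclic_coprime hSc hS.2.1 (hSK hk) hko hy hy1 hfix hc
  calc k * c = (k * c * k⁻¹) * k := by group
    _ = c * k := by rw [h3]

/-- **S1364**. -/
theorem s1364 (I : Inp G) (M : Subgroup G) (hM : IsCoatom M) (K U : Subgroup G)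
    (hKU : IsSigmaDecomposition M K U) (hK1 : K ≠ ⊥) :
    IsCyclic ↥(sigmaCore M ⊓ centralizer (K : Set G)) ∧ (sigmaCore M ⊓ centralizer (K : Set G)) ≠ ⊥ ∧
      (sigmaCore M ⊓ centralizer (K : Set G)) ≤ fittingHallOf M ∧ ¬ IsCyclic (fittingHallOf M) := by
  classical
  have hG := I.hG
  have h : Good M K := ⟨hM, hKU.hall, hK1⟩
  obtain ⟨Ms, hMs⟩ := exists_mate I h
  have hcyc := isCyclic_of_good I hMs.goodS
  refine ⟨hcyc, h.kst_ne I, ?_⟩
  by_cases hne : fittingHallOf M = sigmaCore M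
  · rw [hne]
    refine ⟨inf_le_left, ?_⟩
    intro hc
    obtain ⟨X, hX, hXp⟩ := exists_prime_le (h.kst_ne I)
    obtain ⟨x, hxX, hx1, hXz, hxo⟩ := exists_gen hXp
    set q := Nat.card X with hq
    haveI : Fact q.Prime := ⟨hXp⟩
    have hXq : IsPGroup q X := IsPGroup.of_card (n := 1) (by rw [pow_one])
    obtain ⟨S, hS, hXS⟩ := exists_isSylowIn_ge q (hX.trans inf_le_left) hXq
    have hcomm : ∀ a ∈ sigmaCore M, ∀ b ∈ sigmaCore M, a * b = b * a := by
      intro a ha b hb
      exact setLike_mul_comm ha hb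
    have hSK : K ≤ normalizer (S : Set G) := by
      intro k hk
      have hk' : k ∈ normalizer (sigmaCore M : Set G) := le_normalizer_sigmaCore (h.le hk)
      have h1 := hS.cj_of_normalizer hk'
      obtain ⟨m, hm, h2⟩ := hS.exists_conj h1
      apply mem_normalizer_of_cj_eq
      rw [h2]
      ext a
      rw [mem_cj]
      constructor
      · intro ha
        have h3 := hcomm m hm _ (hS.1 ha)
        have e : m⁻¹ * a * m = a := by
          have e1 : a * m = m⁻¹ * a * m * m := by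
            calc a * m = m * (m⁻¹ * a * m) := by group
              _ = m⁻¹ * a * m * m := h3
          exact (mul_right_cancel e1).symm
        rwa [e] at ha
      · intro ha
        have h3 := hcomm m hm _ (hS.1 ha)
        have e : m⁻¹ * a * m = a := by
          rw [mul_assoc, ← h3]
          group
        rwa [e]
    exact false_of_cyclic_sylow I h hS hSK (isCyclic_of_le hS.1 hc) (hXS hxX) (hX hxX) hx1
  · have hqp : U = ⊥ → (Nat.card ↥(sigmaCore M ⊓ centralizer (K : Set G))).Prime := fun hU =>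
      Cfsg.Agent.Lib.BGZ9.s1373 I M hM K U hKU hK1 hU
    obtain ⟨hU, -, -, hqp', -, -, Q, hQF, hMQ, hQp, hQi, -⟩ :=
      Cfsg.Agent.Lib.H6F4.s1437_core hG hM hKU hne (I.s30 M hM K hKU.hall hK1).1 hqp
    set Ks := sigmaCore M ⊓ centralizer (K : Set G) with hKs
    set q := Nat.card Ks with hq
    haveI : Fact q.Prime := ⟨hqp'⟩
    have hQσ : Q ≤ sigmaCore M := hQF.trans (Cfsg.Agent.Lib.BGCent.fittingHallOf_le_sigmaCore hG hM)
    have hQS : IsSylowIn q Q (sigmaCore M) := by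
      refine ⟨hQσ, hQp, ?_⟩
      intro R hR hRp hQR
      have h1 : Q.relIndex R * R.relIndex (sigmaCore M) = Q.relIndex (sigmaCore M) :=
        Subgroup.relIndex_mul_relIndex Q R _ hQR hR
      have h2 : ¬ q ∣ Q.relIndex R := fun hd => hQi (h1 ▸ hd.trans (Dvd.intro _ rfl))
      have h3 : IsPGroup q ↥(Q.subgroupOf R) := hQp.of_injective
        (Subgroup.subgroupOfEquivOfLe hQR).toMonoidHom (Subgroup.subgroupOfEquivOfLe hQR).injective
      have h4 : IsPGroup q R := hRp
      have h5 : Q.relIndex R = 1 := by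
        obtain ⟨n, hn⟩ := IsPGroup.iff_card.mp h4
        have h6 : Q.relIndex R ∣ q ^ n := by
          rw [← hn]
          exact (Q.subgroupOf R).index_dvd_card
        obtain ⟨j, _, hj⟩ := (Nat.dvd_prime_pow hqp').mp h6
        rw [hj] at h2 ⊢
        cases j with
        | zero => rfl
        | succ j => exact absurd (dvd_pow_self q (Nat.succ_ne_zero j)) h2
      exact le_antisymm (Subgroup.relIndex_eq_one.mp h5) hQR
    have hKsp : IsPGroup q Ks := IsPGroup.of_card (n := 1) (by rw [pow_one])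
    have hKsQ : Ks ≤ Q := by
      have hKsN : Ks ≤ normalizer (Q : Set G) := (inf_le_left.trans sigmaCore_le).trans hMQ
      have h1 : IsPGroup q ↥(Ks ⊔ Q : Subgroup G) := IsPGroup.to_sup_of_normal_right' hKsp hQp hKsN
      have h2 := hQS.2.2 (Ks ⊔ Q) (sup_le inf_le_left hQσ) h1 le_sup_right
      exact h2 ▸ le_sup_left
    refine ⟨hKsQ.trans hQF, ?_⟩
    intro hc
    obtain ⟨x, hx, hx1⟩ := exists_mem_ne_one (h.kst_ne I)
    exact false_of_cyclic_sylow I h hQS (h.le.trans hMQ) (isCyclic_of_le hQF hc) (hKsQ hx) hx hx1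

end Cfsg.Agent.Lib.BGZD
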