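import Mathlib
import Cfsg.Agent.Lib.BGCent17
import Cfsg.Agent.Lib.BGCent18
import Cfsg.Agent.Lib.BGCent11
import Cfsg.Agent.Lib.BGZD
import Cfsg.Agent.S1418
import Cfsg.Agent.S1419
import Cfsg.Agent.S1420

/-!
# Bender-Glauberman section 14: a maximal subgroup `M` with `x ∈ M_σ`, `C_G(x) ≤ N`, `κ(N) ≠ ∅`.
-/

set_option autoImplicit false
set_option linter.unusedSectionVars false
set_option linter.unusedVariables false
set_option linter.style.haveILetI false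
set_option linter.unusedSimpArgs false

namespace Cfsg.Agent.Lib.BGCent

open Cfsg Subgroup Cfsg.Agent.Lib.CoprimeInv Cfsg.Agent.Lib.BGTrans Cfsg.Agent.Lib.BGTrans2 Cfsg.Agent.Lib.BGUniq
  Cfsg.Agent.Lib.BGUniq2 Cfsg.Agent.Lib.PCore Cfsg.Agent.Lib.BGTau7 Cfsg.Agent.Lib.BGM1 Cfsg.Agent.Lib.BGTau5
  Cfsg.Agent.Lib.BGTau3 Cfsg.Agent.Lib.BGM2 Cfsg.Agent.Lib.BGTau6 Cfsg.Agent.Lib.BGTau1 Cfsg.Agent.Lib.BGP2E
  Cfsg.Agent.Lib.BGFit2 Cfsg.Agent.Lib.BGZ1 Cfsg.Agent.Lib.BGZ2 Cfsg.Agent.Lib.BGZ5 Cfsg.Agent.Lib.BGZ6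
open scoped commutatorElement

universe u

variable {G : Type u} [Group G] [Finite G]

/-- The situation of the theorem on a maximal subgroup `H ≥ N_G(R)`, `R` a Sylow subgroup of `U`. -/
structure GCtx (M N Ns K U : Subgroup G) : Prop where
  I : Inp G
  hM : IsCoatom M
  hd : IsSigmaDecomposition N K U
  mate : Mate N K Ns
  hU1 : U ≠ ⊥
  hκ : kappa M = ∅
  hKF : K ≤ fittingOf (M ⊓ Ns)
  hE : IsComplIn (M ⊓ Ns) (sigmaCore M) M

/-- The situation of the theorem on `M` when `κ(N) ≠ ∅`. -/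
structure FCtx (M N Ns K U : Subgroup G) (x : G) : Prop extends GCtx M N Ns K U where
  hx : x ∈ sigmaCore M
  hx1 : x ≠ 1
  hCN : centralizer ({x} : Set G) ≤ N
  hCM : ¬ centralizer ({x} : Set G) ≤ M

namespace GCtx

variable {M N Ns K U : Subgroup G} (c : GCtx M N Ns K U)
include c

theorem hG : IsMinSimpleOddOrder G := c.I.hG

theorem hN : IsCoatom N := c.mate.good.hM

theorem hNs : IsCoatom Ns := c.mate.goodS.hM

theorem K_prime : (Nat.card K).Prime :=
  prime_of_not_P1 c.I c.mate.good (Cfsg.Agent.Lib.BGZC.not_P1_of_U c.hG c.hN c.hd c.hU1)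

theorem K_le_E : K ≤ M ⊓ Ns := c.hKF.trans (Cfsg.Agent.Lib.BGFix.fittingOf_le _)

theorem K_le_M : K ≤ M := c.K_le_E.trans inf_le_left

theorem K_le_core : K ≤ sigmaCore Ns := c.mate.le_core

theorem orderOf_k {k : G} (hk : k ∈ K) (hk1 : k ≠ 1) : orderOf k = Nat.card K := by
  have h := eq_zpowers_of_prime c.K_prime hk hk1
  rw [← Nat.card_zpowers, ← h]

/-- `σ`-core of `M` is not trivial. -/
theorem core_ne : sigmaCore M ≠ ⊥ :=
  sigmaCore_ne_bot c.hG c.hM (fun h => by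
    obtain ⟨k, hk, hk1⟩ := exists_mem_ne_one c.mate.good.ne
    have := c.K_le_M hk
    rw [h, Subgroup.mem_bot] at this
    exact hk1 this)

theorem kappa_Ns_ne : (kappa Ns).Nonempty := by
  have h1 := c.mate.good.kst_ne c.I
  have hcard : Nat.card (kst N K) ≠ 1 := fun h => h1 (Subgroup.card_eq_one.mp h)
  obtain ⟨p, hp, hd⟩ := Nat.exists_prime_and_dvd hcard
  exact ⟨p, c.mate.goodS.primes_kappa p hp hd⟩

theorem M_ne_Ns : M ≠ Ns := by
  rintro rfl
  obtain ⟨p, hp⟩ := c.kappa_Ns_ne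
  rw [c.hκ] at hp
  exact hp

/-- The prime `|K|` is not in `σ(M)`. -/
theorem not_sigma_K : Nat.card K ∉ sigma M := by
  intro hσ
  have hq := c.K_prime
  have hqNs : Nat.card K ∈ sigma Ns := primes_sigmaCore _ hq (Subgroup.card_dvd_of_le c.K_le_core)
  obtain ⟨g, hg⟩ := c.I.thmD M Ns c.hM c.hNs ⟨_, hσ, hqNs⟩
  obtain ⟨p, hp⟩ := c.kappa_Ns_ne
  have h1 : kappa Ns = kappa M := by
    rw [hg]
    exact kappa_cj_eq M g
  rw [h1, c.hκ] at hp
  exact hp

/-- `C_G(k) ≤ M*`, for `k ∈ K`, `k ≠ 1`. -/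
theorem cent_k_le {k : G} (hk : k ∈ K) (hk1 : k ≠ 1) :
    centralizer ({k} : Set G) ≤ Ns ∧ ∀ L : Subgroup G, IsCoatom L → centralizer ({k} : Set G) ≤ L → L = Ns := by
  have h := eq_zpowers_of_prime c.K_prime hk hk1
  have hm := c.mate.symm
  have h2 : K ≤ kst Ns (kst N K) := c.mate.kst_eq.ge
  have h3 := Cfsg.Agent.Lib.BGZ9.cent_part c.I hm h2 c.K_prime
  rw [h, centralizer_zpowers] at h3
  exact h3

/-- `k ∈ K`, `k ≠ 1` has no fixed points on `M_σ`. -/
theorem fpf_k {k w : G} (hk : k ∈ K) (hk1 : k ≠ 1) (hw : w ∈ sigmaCore M) (hkw : k * w = w * k) : w = 1 := by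
  by_contra hw1
  have hq := c.K_prime
  have hko := c.orderOf_k hk hk1
  have hk' : k ∈ M ⊓ centralizer ({w} : Set G) :=
    ⟨c.K_le_M hk, Subgroup.mem_centralizer_singleton_iff.mpr hkw⟩
  have hpr : ∀ p : ℕ, p.Prime → p ∣ orderOf k → p = Nat.card K := by
    intro p hp hd
    rw [hko] at hd
    exact (Nat.prime_dvd_prime_iff_eq hp hq).mp hd
  have hσ : ∀ p : ℕ, p.Prime → p ∣ orderOf k → p ∉ sigma M := by
    intro p hp hd
    rw [hpr p hp hd]
    exact c.not_sigma_K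
  rcases c.I.s32 M c.hM w hw hw1 k hk' hk1 hσ with h | h
  · have h1 := h.1 _ hq (by rw [hko])
    rw [c.hκ] at h1
    exact h1
  · have h2 := (c.cent_k_le hk hk1)
    exact c.M_ne_Ns (h.2.2.2 Ns c.hNs h2.1).symm

/-- `M_σ` is nilpotent. -/
theorem nilp : Group.IsNilpotent (sigmaCore M) := by
  obtain ⟨k, hk, hk1⟩ := exists_mem_ne_one c.mate.good.ne
  haveI : Fact (Nat.card K).Prime := ⟨c.K_prime⟩
  refine Cfsg.Agent.Lib.BGTau7.nilpotent_of_fpf (p := Nat.card K) (x := k) ?_ ?_ c.core_ne ?_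
  · exact le_normalizer_sigmaCore (c.K_le_M hk)
  · rw [← c.orderOf_k hk hk1]
    exact pow_orderOf_eq_one k
  · rw [eq_bot_iff]
    rintro w ⟨hw, hwk⟩
    exact c.fpf_k hk hk1 hw (Subgroup.mem_centralizer_singleton_iff.mp hwk).symm

theorem core_eq_fitting : sigmaCore M = fittingHallOf M :=
  sigmaCore_eq_fittingHallOf c.hG c.hM c.nilp

omit c in
/-- An elementary abelian subgroup of order `r²` of `M`, `r ∈ τ₂(M)`, has an element with a fixed point on `M_σ`. -/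
theorem _root_.Cfsg.Agent.Lib.BGTau7.T2.exists_nonfree {M B : Subgroup G} {r : ℕ} [hr : Fact r.Prime] (T : T2 M B r) :
    ∃ b ∈ B, b ≠ 1 ∧ ∃ w ∈ sigmaCore M, w ≠ 1 ∧ b * w = w * b := by
  classical
  have hG := T.hG
  have hM := T.hM
  have hnil := T.nilpotent
  have hne : sigmaCore M ≠ ⊥ := sigmaCore_ne_bot hG hM T.M_ne_bot
  set V : Subgroup G := sigmaCore M ⊓ centralizer (sigmaCore M : Set G) with hV
  have hV1 : V ≠ ⊥ := Cfsg.Agent.Lib.BGZC.core_center_ne_bot hne hnil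
  have hVc : IsMulCommutative V := by
    refine ⟨⟨fun a b => ?_⟩⟩
    apply Subtype.ext
    exact (Subgroup.mem_centralizer_iff.mp a.2.2 b b.2.1).symm
  have hBn : B ≤ normalizer (V : Set G) := by
    refine le_normalizer_inf (T.hAM.trans fun m hm => le_normalizer_sigmaCore hm) ?_
    intro b hb
    exact normalizer_le_normalizer_centralizer _ (le_normalizer_sigmaCore (T.hAM hb))
  have hcop : Nat.Coprime (Nat.card V) r := by
    rw [Nat.coprime_comm, Nat.Prime.coprime_iff_not_dvd hr.out]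
    exact fun h => not_dvd_sigmaCore hr.out T.notσ (h.trans (Subgroup.card_dvd_of_le inf_le_left))
  obtain ⟨E₁, hE₁, hc, hE₁V⟩ := exists_index_le_fixed hr.out T.ea.1 T.ea.2 hVc hBn hcop hV1
  have hE₁1 : E₁ ≠ ⊥ := by
    rintro rfl
    rw [T.card, Subgroup.card_bot, mul_one, pow_two] at hc
    have := hr.out.two_le
    nlinarith
  obtain ⟨b, hb, hb1⟩ := exists_mem_ne_one hE₁1
  obtain ⟨w, hw, hw1⟩ := exists_mem_ne_one hE₁V
  refine ⟨b, hE₁ hb, hb1, w, (Subgroup.mem_inf.mp (Subgroup.mem_inf.mp hw).1).1, hw1, ?_⟩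
  exact Subgroup.mem_centralizer_iff.mp (Subgroup.mem_inf.mp hw).2 b hb

/-- The element of `B` with fixed points: unique maximal subgroup over its centralizer. -/
theorem cent_b {B : Subgroup G} {r : ℕ} [hr : Fact r.Prime] (T : T2 M B r) {b w : G} (hb : b ∈ B) (hb1 : b ≠ 1)
    (hw : w ∈ sigmaCore M) (hw1 : w ≠ 1) (hbw : b * w = w * b) :
    centralizer ({b} : Set G) ≤ M ∧ ∀ L : Subgroup G, IsCoatom L → centralizer ({b} : Set G) ≤ L → L = M := by
  refine (Cfsg.Agent.S1420.result c.hG M c.hM _ c.hE).2.2.2 b (T.hAM hb) hb1 ?_ ⟨T.hAM hb, w, hw, hw1, hbw⟩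
  intro p hp hd
  have h1 : orderOf b ∣ r := orderOf_dvd_of_pow_eq_one (T.ea.2 b hb)
  rw [(Nat.prime_dvd_prime_iff_eq hp hr.out).mp (hd.trans h1)]
  exact T.hp

/-- `B` centralizes `K`. -/
theorem B_comm_k {B : Subgroup G} {r : ℕ} [hr : Fact r.Prime] (T : T2 M B r) (hBE : B ≤ M ⊓ Ns) {k b : G}
    (hk : k ∈ K) (hk1 : k ≠ 1) (hb : b ∈ B) : k * b = b * k := by
  have h18 := Cfsg.Agent.S1418.result c.hG M c.hM _ c.hE r T.hp B ⟨hBE, T.ea, T.card⟩
  have hko := c.orderOf_k hk hk1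
  by_cases hrq : r = Nat.card K
  · have hkB : zpowers k ≤ B := by
      apply h18.1.2
      · exact zpowers_le.mpr (c.K_le_E hk)
      · rw [Nat.card_zpowers, hko, hrq]
    have hkB' : k ∈ B := hkB (mem_zpowers k)
    have := T.ea.1.is_comm.comm (⟨k, hkB'⟩ : B) ⟨b, hb⟩
    exact congrArg Subtype.val this
  · have hBF : B ≤ fittingOf (M ⊓ Ns) := by
      refine Cfsg.Agent.Lib.BGFix.le_fittingOf _ _ hBE ?_ T.isP.isNilpotent
      intro e he l hl
      exact (mem_normalizer_iff.mp (h18.1.1 he) l).mp hl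
    have hF := Cfsg.Agent.Lib.FitPair.isNilpotent_fittingOf (M ⊓ Ns)
    have h1 : (⟨b, hBF hb⟩ : ↥(fittingOf (M ⊓ Ns))) ^ r ^ 1 = 1 := by
      apply Subtype.ext
      simp [T.ea.2 b hb]
    have h2 : (⟨k, c.hKF hk⟩ : ↥(fittingOf (M ⊓ Ns))) ^ Nat.card K = 1 := by
      apply Subtype.ext
      simpa [← hko] using pow_orderOf_eq_one k
    have h3 : ¬ r ∣ Nat.card K := fun h => hrq ((Nat.prime_dvd_prime_iff_eq hr.out c.K_prime).mp h)
    have := comm_in_nilpotent hF h1 h2 h3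
    exact (congrArg Subtype.val this).symm

/-- If the prime `|K|` is in `τ₂(M)`, its Sylow subgroups are not abelian. -/
theorem sylow_nonab (hqτ : Nat.card K ∈ tau2 M) : ∀ S' : Sylow (Nat.card K) G, ¬ IsMulCommutative (S' : Subgroup G) := by
  classical
  have hG := c.hG
  have hq := c.K_prime
  haveI hqf : Fact (Nat.card K).Prime := ⟨hq⟩
  obtain ⟨B, hBE, ⟨T⟩⟩ := exists_ea_in_compl hG c.hM c.hE hqτ
  obtain ⟨b, hb, hb1, w, hw, hw1, hbw⟩ := T.exists_nonfree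
  obtain ⟨hCb, hCu⟩ := c.cent_b T hb hb1 hw hw1 hbw
  have hqσ : Nat.card K ∈ sigma Ns := primes_sigmaCore _ hq (Subgroup.card_dvd_of_le c.K_le_core)
  have hBNs : B ≤ Ns := hBE.trans inf_le_right
  have hBσ : B ≤ sigmaCore Ns := le_sigmaCore_of_pgroup hG c.hNs hqσ hBNs T.isP
  obtain ⟨S, hS, hBS⟩ := exists_isSylowIn_ge (Nat.card K) hBσ T.isP
  have hdK : Nat.card K ∣ Nat.card (kst Ns (kst N K)) := by rw [c.mate.kst_eq]
  obtain ⟨hSu, hSNs, -⟩ := c.mate.goodS.f6 c.I hq hdK hS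
  have hSc : ¬ IsMulCommutative S := by
    intro hSc
    have hSM : S ≤ M := by
      refine le_trans ?_ hCb
      intro s hs
      apply Subgroup.mem_centralizer_singleton_iff.mpr
      have := hSc.is_comm.comm (⟨s, hs⟩ : S) ⟨b, hBS hb⟩
      exact congrArg Subtype.val this
    exact c.M_ne_Ns (hSu.unique ⟨c.hM, hSM⟩ ⟨c.hNs, hSNs⟩)
  intro S' hS'
  apply hSc
  obtain ⟨P, hP⟩ := IsPGroup.exists_le_sylow hS.2.1
  let e : (P : Subgroup G) ≃* (S' : Subgroup G) := Sylow.equiv P S'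
  refine ⟨⟨fun a c' => ?_⟩⟩
  apply Subtype.ext
  have h1 := hS'.is_comm.comm (e ⟨a, hP a.2⟩) (e ⟨c', hP c'.2⟩)
  rw [← map_mul, ← map_mul] at h1
  show (a : G) * c' = c' * a
  exact congrArg (fun z : (P : Subgroup G) => (z : G)) (e.injective h1)

/-- An element of prime order of `K*`. -/
theorem exists_y : ∃ y ∈ kst N K, y ≠ 1 ∧ (orderOf y).Prime ∧ orderOf y ∈ kappa Ns := by
  classical
  obtain ⟨X, hX, hXp⟩ := exists_prime_le (c.mate.good.kst_ne c.I)
  obtain ⟨y, hy, hy1, -, hyo⟩ := exists_gen hXp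
  refine ⟨y, hX hy, hy1, hyo ▸ hXp, ?_⟩
  rw [hyo]
  exact c.mate.goodS.primes_kappa _ hXp (Subgroup.card_dvd_of_le hX)

theorem fix_y {y z : G} (hy : y ∈ kst N K) (hy1 : y ≠ 1) (hz : z ∈ sigmaCore Ns) (hyz : y * z = z * y) : z ∈ K := by
  have h := c.mate.goodS.f1 c.I hy hy1
  rw [c.mate.kst_eq] at h
  rw [← h]
  exact ⟨hz, Subgroup.mem_centralizer_singleton_iff.mpr hyz.symm⟩

theorem comm_y {y k : G} (hy : y ∈ kst N K) (hk : k ∈ K) : y * k = k * y :=
  (c.mate.good.comm hk hy).symm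

theorem comm_K {a b : G} (ha : a ∈ K) (hb : b ∈ K) : a * b = b * a := by
  haveI : IsCyclic K := isCyclic_of_good c.I c.mate.good
  have := mul_comm' (⟨a, ha⟩ : K) ⟨b, hb⟩
  exact congrArg Subtype.val this

/-- **`C_{M*_σ}(k)` is nilpotent**, by Thompson's theorem. -/
theorem nilp_C {k : G} (hk : k ∈ K) (hk1 : k ≠ 1) : Group.IsNilpotent ↥(sigmaCore Ns ⊓ centralizer ({k} : Set G)) := by
  classical
  obtain ⟨y, hy, hy1, hyp, hyκ⟩ := c.exists_y
  haveI : Fact (orderOf y).Prime := ⟨hyp⟩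
  have hyNs : y ∈ Ns := c.mate.goodS.le hy
  refine nilpotent_of_central_fix (s := orderOf y) (y := y) ?_ (pow_orderOf_eq_one y) ?_ ?_
  · refine le_normalizer_inf (P := zpowers y) (zpowers_le.mpr (le_normalizer_sigmaCore hyNs)) ?_ (mem_zpowers y)
    rw [zpowers_le]
    apply Subgroup.le_normalizer
    exact Subgroup.mem_centralizer_singleton_iff.mpr (c.comm_y hy hk)
  · exact fun h => not_dvd_sigmaCore hyp hyκ.2.2.1 (h.trans (Subgroup.card_dvd_of_le inf_le_left))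
  · rintro z ⟨hzσ, hzk⟩ hyz w ⟨hwσ, hwk⟩
    have hzK := c.fix_y hy hy1 hzσ hyz
    rw [eq_zpowers_of_prime c.K_prime hk hk1] at hzK
    obtain ⟨n, rfl⟩ := mem_zpowers_iff.mp hzK
    have h1 : Commute k w := (Subgroup.mem_centralizer_singleton_iff.mp hwk).symm
    exact (Commute.zpow_left h1 n).eq

/-- A noncyclic `q`-subgroup of `C_{M*_σ}(k)`, `q = |K|`. -/
theorem exists_Q {k : G} (hk : k ∈ K) (hk1 : k ≠ 1) :
    ∃ Q : Subgroup G, Q ≤ sigmaCore Ns ⊓ centralizer ({k} : Set G) ∧ IsPGroup (Nat.card K) Q ∧ ¬ IsCyclic Q := by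
  classical
  have hG := c.hG
  have hq := c.K_prime
  haveI hqf : Fact (Nat.card K).Prime := ⟨hq⟩
  obtain ⟨y, hy, hy1, hyp, hyκ⟩ := c.exists_y
  haveI hyf : Fact (orderOf y).Prime := ⟨hyp⟩
  have hyNs : y ∈ Ns := c.mate.goodS.le hy
  have hsol : Group.IsSolvable (sigmaCore Ns) := solvable_of_le_coatom hG c.hNs sigmaCore_le
  have hyσ : zpowers y ≤ normalizer ((sigmaCore Ns : Subgroup G) : Set G) :=
    zpowers_le.mpr (le_normalizer_sigmaCore hyNs)
  have hnd : ¬ orderOf y ∣ Nat.card (sigmaCore Ns) := not_dvd_sigmaCore hyp hyκ.2.2.1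
  have hcop : Nat.Coprime (Nat.card (sigmaCore Ns)) (Nat.card (zpowers y)) := by
    rw [Nat.card_zpowers, Nat.coprime_comm, Nat.Prime.coprime_iff_not_dvd hyp]
    exact hnd
  have hKq : IsPGroup (Nat.card K) K := IsPGroup.of_card (n := 1) (by rw [pow_one])
  have hyK : y ∈ normalizer ((K : Subgroup G) : Set G) := by
    apply Cfsg.Agent.Lib.BGZ1.cent_le_norm K
    rw [Subgroup.mem_centralizer_iff]
    intro z hz
    exact c.mate.good.comm hz hy
  obtain ⟨S, hS, hSy, hKS⟩ := exists_invariant_isSylowIn_ge (Nat.card K) hsol hyσ hcop c.K_le_core hKq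
    (zpowers_le.mpr hyK)
  have hdK : Nat.card K ∣ Nat.card (kst Ns (kst N K)) := by rw [c.mate.kst_eq]
  obtain ⟨-, -, hSK⟩ := c.mate.goodS.f6 c.I hq hdK hS
  rw [c.mate.kst_eq] at hSK
  have hlt : K < S := lt_of_le_not_ge hKS hSK
  obtain ⟨t, htS, htK, htN⟩ := Cfsg.Agent.Lib.CoprimeInv.exists_mem_normalizer_of_lt hS.2.1 hlt
  have htC : ∀ a ∈ K, t * a = a * t := cent_of_norm_of_fix (X := sigmaCore Ns) (y := y) (s := orderOf y)
    (hyσ (mem_zpowers y)) (pow_orderOf_eq_one y) hnd (fun a ha => c.comm_y hy ha)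
    (fun z hz hyz a ha => c.comm_K (c.fix_y hy hy1 hz hyz) ha) (hS.1 htS) htN
  refine ⟨S ⊓ centralizer ({k} : Set G), inf_le_inf_right _ hS.1, hS.2.1.to_le inf_le_left, ?_⟩
  intro hcyc
  have hkm : k ∈ S ⊓ centralizer ({k} : Set G) := ⟨hKS hk, Subgroup.mem_centralizer_singleton_iff.mpr rfl⟩
  have htm : t ∈ S ⊓ centralizer ({k} : Set G) := ⟨htS, Subgroup.mem_centralizer_singleton_iff.mpr (htC k hk)⟩
  have hyn : y ∈ normalizer ((S ⊓ centralizer ({k} : Set G) : Subgroup G) : Set G) := by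
    refine le_normalizer_inf (P := zpowers y) hSy ?_ (mem_zpowers y)
    rw [zpowers_le]
    apply Subgroup.le_normalizer
    exact Subgroup.mem_centralizer_singleton_iff.mpr (c.comm_y hy hk)
  have hnq : ¬ Nat.card K ∣ orderOf y := by
    intro h
    have h1 := (Nat.prime_dvd_prime_iff_eq hq hyp).mp h
    apply hnd
    rw [← h1]
    exact Subgroup.card_dvd_of_le c.K_le_core
  have hfx : y * k * y⁻¹ = k := by rw [c.comm_y hy hk]; group
  have h1 := Cfsg.Agent.Lib.BGZD.centralizes_cyclic_coprime hcyc (hS.2.1.to_le inf_le_left) hyn hnq hkm hk1 hfx htm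
  apply htK
  apply c.fix_y hy hy1 (hS.1 htS)
  calc y * t = y * t * y⁻¹ * y := by group
    _ = t * y := by rw [h1]

/-- **`τ₂(M)` is contained in `{|K|}`.** -/
theorem tau2_le {r : ℕ} (hrτ : r ∈ tau2 M) : r = Nat.card K := by
  classical
  have hG := c.hG
  haveI hr : Fact r.Prime := ⟨hrτ.1⟩
  have hq := c.K_prime
  haveI hqf : Fact (Nat.card K).Prime := ⟨hq⟩
  by_contra hrq
  obtain ⟨B, hBE, ⟨T⟩⟩ := exists_ea_in_compl hG c.hM c.hE hrτ
  obtain ⟨b, hb, hb1, w, hw, hw1, hbw⟩ := T.exists_nonfree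
  obtain ⟨hCb, hCu⟩ := c.cent_b T hb hb1 hw hw1 hbw
  obtain ⟨k, hk, hk1⟩ := exists_mem_ne_one c.mate.good.ne
  have hkb : k * b = b * k := c.B_comm_k T hBE hk hk1 hb
  have hBNs : B ≤ Ns := hBE.trans inf_le_right
  have hbo : orderOf b = r := orderOf_eq_prime (T.ea.2 b hb) hb1
  by_cases hrσ : r ∈ sigma Ns
  · -- `b ∈ C_{M*_σ}(k)`, nilpotent
    have hBσ : B ≤ sigmaCore Ns := le_sigmaCore_of_pgroup hG c.hNs hrσ hBNs T.isP
    have hbC : b ∈ sigmaCore Ns ⊓ centralizer ({k} : Set G) :=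
      ⟨hBσ hb, Subgroup.mem_centralizer_singleton_iff.mpr hkb.symm⟩
    obtain ⟨Q, hQC, hQq, hQc⟩ := c.exists_Q hk hk1
    have hnil := c.nilp_C hk hk1
    have hQM : Q ≤ M := by
      refine le_trans ?_ hCb
      intro z hz
      obtain ⟨n, hn⟩ := hQq ⟨z, hz⟩
      have hzn : z ^ (Nat.card K) ^ n = 1 := by simpa using congrArg Subtype.val hn
      have h1 : (⟨z, hQC hz⟩ : ↥(sigmaCore Ns ⊓ centralizer ({k} : Set G))) ^ (Nat.card K) ^ n = 1 := by
        apply Subtype.ext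
        simpa using hzn
      have h2 : (⟨b, hbC⟩ : ↥(sigmaCore Ns ⊓ centralizer ({k} : Set G))) ^ r = 1 := by
        apply Subtype.ext
        simpa using T.ea.2 b hb
      have h3 : ¬ Nat.card K ∣ r := fun h => hrq ((Nat.prime_dvd_prime_iff_eq hq hr.out).mp h).symm
      have := comm_in_nilpotent hnil h1 h2 h3
      exact Subgroup.mem_centralizer_singleton_iff.mpr (congrArg Subtype.val this)
    have hqτ : Nat.card K ∈ tau2 M := by
      refine ⟨hq, c.not_sigma_K, rank2_of_not_sigma hG c.hM hq c.not_sigma_K, fun h => ?_⟩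
      exact hQc (Cfsg.Agent.Lib.BGK0.isCyclic_of_rank_one hG hQM hQq h)
    obtain ⟨B₁, hB₁E, ⟨T₁⟩⟩ := exists_ea_in_compl hG c.hM c.hE hqτ
    have h19 := (Cfsg.Agent.S1419.result hG M c.hM _ c.hE (Nat.card K) hqτ (c.sylow_nonab hqτ) B₁
      ⟨hB₁E, T₁.ea, T₁.card⟩).1
    rw [h19] at hrτ
    exact hrq hrτ
  · have hpr : ∀ p : ℕ, p.Prime → p ∣ orderOf b → p = r := by
      intro p hp hd
      rw [hbo] at hd
      exact (Nat.prime_dvd_prime_iff_eq hp hr.out).mp hd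
    have hσ : ∀ p : ℕ, p.Prime → p ∣ orderOf b → p ∉ sigma Ns := by
      intro p hp hd
      rw [hpr p hp hd]
      exact hrσ
    have hb' : b ∈ Ns ⊓ centralizer ({k} : Set G) :=
      ⟨hBNs hb, Subgroup.mem_centralizer_singleton_iff.mpr hkb.symm⟩
    rcases c.I.s32 Ns c.hNs k (c.K_le_core hk) hk1 b hb' hb1 hσ with h | h
    · have h1 := h.1 r hr.out (by rw [hbo])
      have h2 := Cfsg.Agent.Lib.BGK3.rank1_of_kappa h1
      exact Cfsg.Agent.Lib.BGTau7.not_rank_one_of_ea hBNs T.ea T.card h2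
    · exact c.M_ne_Ns (h.2.2.2 M c.hM hCb)

end GCtx

namespace FCtx

variable {M N Ns K U : Subgroup G} {x : G} (c : FCtx M N Ns K U x)
include c

/-- `M_F` is not a TI-subset. -/
theorem not_TI : ¬ IsTISubset (fittingHallOf M : Set G) := by
  intro h
  obtain ⟨g, hg, hgM⟩ := SetLike.not_le_iff_exists.mp c.hCM
  rw [← c.core_eq_fitting] at h
  have hgx : g * x = x * g := (Subgroup.mem_centralizer_singleton_iff.mp hg)
  have hgN : g ∉ normalizer ((sigmaCore M : Subgroup G) : Set G) := by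
    rw [eq_of_coatom_of_le_normalizer c.hG c.hM c.core_ne
      (fun h1 => c.hM.1 (top_le_iff.mp (h1 ▸ sigmaCore_le (M := M))))
      (fun m hm => le_normalizer_sigmaCore hm)]
    exact hgM
  apply c.hx1
  apply h g hgN x c.hx
  have e : g * x * g⁻¹ = x := by rw [hgx]; group
  rw [SetLike.mem_coe, e]
  exact c.hx


/-- The prime `|K|` is not in `τ₂(M)`. -/
theorem K_not_tau2 : Nat.card K ∉ tau2 M := by
  classical
  intro hqτ
  have hG := c.hG
  have hq := c.K_prime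
  haveI hqf : Fact (Nat.card K).Prime := ⟨hq⟩
  have hall := c.sylow_nonab hqτ
  obtain ⟨B, hBE, ⟨T⟩⟩ := exists_ea_in_compl hG c.hM c.hE hqτ
  obtain ⟨b, hb, hb1, w, hw, hw1, hbw⟩ := T.exists_nonfree
  obtain ⟨k, hk, hk1⟩ := exists_mem_ne_one c.mate.good.ne
  obtain ⟨-, ⟨hA₀, -⟩, hX⟩ := Cfsg.Agent.S1419.result hG M c.hM _ c.hE (Nat.card K) hqτ hall B ⟨hBE, T.ea, T.card⟩
  have hbo : orderOf b = Nat.card K := by
    exact orderOf_eq_prime (T.ea.2 b hb) hb1
  have hbE : zpowers b ≤ M ⊓ Ns := zpowers_le.mpr (hBE hb)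
  have hbA : zpowers b = B ⊓ centralizer (sigmaCore M : Set G) := by
    by_contra hne
    have h1 := (hX (zpowers b) hbE (by rw [Nat.card_zpowers, hbo]) hne).1
    have hwm : w ∈ sigmaCore M ⊓ centralizer ((zpowers b : Subgroup G) : Set G) := by
      refine ⟨hw, ?_⟩
      rw [centralizer_zpowers]
      exact Subgroup.mem_centralizer_singleton_iff.mpr hbw.symm
    rw [h1, Subgroup.mem_bot] at hwm
    exact hw1 hwm
  have hbC : b ∈ centralizer (sigmaCore M : Set G) := by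
    have : b ∈ B ⊓ centralizer (sigmaCore M : Set G) := by
      rw [← hbA]; exact mem_zpowers b
    exact this.2
  have hbN : b ∈ N := by
    apply c.hCN
    apply Subgroup.mem_centralizer_singleton_iff.mpr
    exact (Subgroup.mem_centralizer_iff.mp hbC x c.hx).symm
  -- `b ∈ K`
  have hkb : k * b = b * k := c.B_comm_k T hBE hk hk1 hb
  have hkN : k ∈ N := c.mate.good.le hk
  have hko := c.orderOf_k hk hk1
  have hq1 : IsPGroup (Nat.card K) (zpowers k) := by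
    apply Cfsg.Agent.Lib.BGK0.isPGroup_zpowers_pow (k := 1)
    rw [pow_one, ← hko]
    exact pow_orderOf_eq_one k
  have hq2 : IsPGroup (Nat.card K) (zpowers b) := by
    apply Cfsg.Agent.Lib.BGK0.isPGroup_zpowers_pow (k := 1)
    rw [pow_one, ← hbo]
    exact pow_orderOf_eq_one b
  have hnorm : zpowers b ≤ normalizer ((zpowers k : Subgroup G) : Set G) := by
    rw [zpowers_le]
    exact Cfsg.Agent.Lib.BGTau5.cent_le_norm k (Subgroup.mem_centralizer_singleton_iff.mpr hkb.symm)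
  have hR : IsPGroup (Nat.card K) (zpowers b ⊔ zpowers k : Subgroup G) := isPGroup_sup_of_le_normalizer hq2 hq1 hnorm
  have hRN : (zpowers b ⊔ zpowers k : Subgroup G) ≤ N := sup_le (zpowers_le.mpr hbN) (zpowers_le.mpr hkN)
  have hκN : Nat.card K ∈ kappa N := c.mate.good.primes_kappa _ hq dvd_rfl
  have hRc : IsCyclic ↥(zpowers b ⊔ zpowers k : Subgroup G) :=
    Cfsg.Agent.Lib.BGK0.isCyclic_of_rank_one hG hRN hR (Cfsg.Agent.Lib.BGK3.rank1_of_kappa hκN)
  have hbk : b ∈ zpowers k := mem_zpowers_of_cyclic hRc hq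
    ((le_sup_right : zpowers k ≤ _) (mem_zpowers k)) ((le_sup_left : zpowers b ≤ _) (mem_zpowers b)) hko (T.ea.2 b hb)
  have hbK : b ∈ K := (zpowers_le.mpr hk) hbk
  exact hw1 (c.fpf_k hbK hb1 hw hbw)

/-- **`τ₂(M)` is empty.** -/
theorem tau2_eq : tau2 M = ∅ := by
  rw [Set.eq_empty_iff_forall_notMem]
  intro r hr
  apply c.K_not_tau2
  rw [← c.tau2_le hr]
  exact hr

end FCtx

end Cfsg.Agent.Lib.BGCent
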