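import Mathlib
import Cfsg.Agent.Lib.BGCent19
import Cfsg.Agent.Lib.CNFrob

/-!
# Bender-Glauberman section 14: the complement of `M_σ` is cyclic, when `κ(N) ≠ ∅`.
-/

set_option autoImplicit false
set_option linter.unusedSectionVars false
set_option linter.unusedVariables false
set_option linter.style.haveILetI false
set_option linter.unusedSimpArgs false

namespace Cfsg.Agent.Lib.BGCent

open Cfsg Subgroup Cfsg.Agent.Lib.CoprimeInv Cfsg.Agent.Lib.BGTrans Cfsg.Agent.Lib.BGTrans2 Cfsg.Agent.Lib.BGUniq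
  Cfsg.Agent.Lib.BGUniq2 Cfsg.Agent.Lib.PCore Cfsg.Agent.Lib.BGTau7 Cfsg.Agent.Lib.BGM1 Cfsg.Agent.Lib.BGTau5
  Cfsg.Agent.Lib.BGTau3 Cfsg.Agent.Lib.BGM2 Cfsg.Agent.Lib.BGTau6 Cfsg.Agent.Lib.BGTau1 Cfsg.Agent.Lib.BGP2E
  Cfsg.Agent.Lib.BGFit2 Cfsg.Agent.Lib.BGZ1 Cfsg.Agent.Lib.BGZ2 Cfsg.Agent.Lib.BGZ5 Cfsg.Agent.Lib.BGZ6
open scoped commutatorElement

universe u

variable {G : Type u} [Group G] [Finite G]

theorem mem_of_pow_coprime_aux {H : Subgroup G} {w : G} {m n : ℕ} (hc : Nat.Coprime m n) (h1 : w ^ m ∈ H)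
    (h2 : w ^ n ∈ H) : w ∈ H := by
  have hb := Nat.gcd_eq_gcd_ab m n
  rw [hc.gcd_eq_one] at hb
  have e : w = (w ^ m) ^ Nat.gcdA m n * (w ^ n) ^ Nat.gcdB m n := by
    rw [← zpow_natCast, ← zpow_natCast, ← zpow_mul, ← zpow_mul, ← zpow_add, ← hb]
    simp
  rw [e]
  exact H.mul_mem (H.zpow_mem h1 _) (H.zpow_mem h2 _)

section Decomp

variable {L A W : Subgroup G}

/-- Elements of `L = W A L_σ`. -/
theorem decomp_elem (hd : IsSigmaDecomposition L A W) {m : G} (hm : m ∈ L) :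
    ∃ t ∈ W ⊔ sigmaCore L, ∃ a ∈ A, m = t * a := by
  obtain ⟨u, hu, z, hz, rfl⟩ := hd.compl.2.2.2 m hm
  obtain ⟨a, ha, v, hv, rfl⟩ := mul_of_mem_sup (hd.hall.1.trans fun g hg => le_normalizer_sigmaCore hg) hz
  refine ⟨u * (a * v * a⁻¹), ?_, a, ha, by group⟩
  refine Subgroup.mul_mem _ (mem_sup_left hu) (mem_sup_right ?_)
  exact (mem_normalizer_iff.mp (le_normalizer_sigmaCore (hd.hall.1 ha)) v).mp hv

theorem decomp_not_dvd (hG : IsMinSimpleOddOrder G) (hL : IsCoatom L) (hd : IsSigmaDecomposition L A W) {s : ℕ}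
    (hs : s ∈ kappa L) : ¬ s ∣ Nat.card ↥(W ⊔ sigmaCore L) := by
  intro h
  have hsp : s.Prime := hs.1
  have h1 := card_sup_mul_card_inf (H := W) (N := sigmaCore L) (hd.compl.1.trans fun g hg => le_normalizer_sigmaCore hg)
  have h2 : s ∣ Nat.card W * Nat.card (sigmaCore L) := by
    rw [← h1]
    exact Dvd.dvd.mul_right h _
  rcases (Nat.Prime.dvd_mul hsp).mp h2 with h3 | h3
  · exact (primes_U hG hL hd hsp h3).1 hs
  · exact hs.2.2.1 (primes_sigmaCore s hsp h3)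

theorem decomp_fix (hG : IsMinSimpleOddOrder G) (hK : KappaFacts G) (hL : IsCoatom L) (hd : IsSigmaDecomposition L A W)
    {y g : G} (hy : y ∈ A) (hy1 : y ≠ 1) (hg : g ∈ W ⊔ sigmaCore L) (hyg : y * g = g * y) : g ∈ sigmaCore L := by
  obtain ⟨u, hu, v, hv, rfl⟩ := mul_of_mem_sup (hd.compl.1.trans fun g hg => le_normalizer_sigmaCore hg) hg
  have hyu : y * u * y⁻¹ ∈ W := (mem_normalizer_iff.mp (hd.normal hy) u).mp hu
  have hyv : y * v * y⁻¹ ∈ sigmaCore L :=
    (mem_normalizer_iff.mp (le_normalizer_sigmaCore (hd.hall.1 hy)) v).mp hv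
  have e : u⁻¹ * (y * u * y⁻¹) = v * (y * v * y⁻¹)⁻¹ := by
    have h1 : (y * u * y⁻¹) * (y * v * y⁻¹) = u * v := by
      calc (y * u * y⁻¹) * (y * v * y⁻¹) = (y * (u * v)) * y⁻¹ := by group
        _ = (u * v) * y * y⁻¹ := by rw [hyg]
        _ = u * v := by group
    calc u⁻¹ * (y * u * y⁻¹) = u⁻¹ * ((y * u * y⁻¹) * (y * v * y⁻¹)) * (y * v * y⁻¹)⁻¹ := by group
      _ = u⁻¹ * (u * v) * (y * v * y⁻¹)⁻¹ := by rw [h1]
      _ = v * (y * v * y⁻¹)⁻¹ := by group
  have hinf : u⁻¹ * (y * u * y⁻¹) ∈ W ⊓ (A ⊔ sigmaCore L) := by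
    refine ⟨W.mul_mem (W.inv_mem hu) hyu, ?_⟩
    rw [e]
    exact mem_sup_right ((sigmaCore L).mul_mem hv ((sigmaCore L).inv_mem hyv))
  rw [hd.compl.2.2.1, Subgroup.mem_bot] at hinf
  have hfu : y * u * y⁻¹ = u := by
    exact (inv_mul_eq_one.mp hinf).symm
  have hu1 : u = 1 := by
    have h2 : u ∈ W ⊓ centralizer ({y} : Set G) := by
      refine ⟨hu, Subgroup.mem_centralizer_singleton_iff.mpr ?_⟩
      calc u * y = (y * u * y⁻¹) * y := by rw [hfu]
        _ = y * u := by group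
    rw [fixed_points_U hG hK hL hd y hy hy1, Subgroup.mem_bot] at h2
    exact h2
  rw [hu1, one_mul]
  exact hv

/-- The commutator of two elements of `L` lies in `W L_σ`. -/
theorem decomp_comm (hG : IsMinSimpleOddOrder G) (hK : KappaFacts G) (hL : IsCoatom L) (hd : IsSigmaDecomposition L A W)
    {g h : G} (hg : g ∈ L) (hh : h ∈ L) : g * h * g⁻¹ * h⁻¹ ∈ W ⊔ sigmaCore L := by
  have hn : L ≤ normalizer ((W ⊔ sigmaCore L : Subgroup G) : Set G) := normal_decomposition hG hK hL hd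
  obtain ⟨t₁, ht₁, a₁, ha₁, rfl⟩ := decomp_elem hd hg
  obtain ⟨t₂, ht₂, a₂, ha₂, rfl⟩ := decomp_elem hd hh
  haveI hc : IsCyclic A := hd.cyclic
  have hcomm : a₁ * a₂ * a₁⁻¹ * a₂⁻¹ = 1 := by
    have := mul_comm' (⟨a₁, ha₁⟩ : A) ⟨a₂, ha₂⟩
    have h1 : a₁ * a₂ = a₂ * a₁ := congrArg Subtype.val this
    rw [h1]
    group
  have e : (t₁ * a₁) * (t₂ * a₂) * (t₁ * a₁)⁻¹ * (t₂ * a₂)⁻¹ =
      t₁ * (a₁ * t₂ * a₁⁻¹) * (a₁ * a₂ * a₁⁻¹ * a₂⁻¹) * (a₂ * t₁⁻¹ * a₂⁻¹) * t₂⁻¹ := by group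
  rw [e, hcomm, mul_one]
  have h1 : a₁ * t₂ * a₁⁻¹ ∈ W ⊔ sigmaCore L := (mem_normalizer_iff.mp (hn (hd.hall.1 ha₁)) t₂).mp ht₂
  have h2 : a₂ * t₁⁻¹ * a₂⁻¹ ∈ W ⊔ sigmaCore L :=
    (mem_normalizer_iff.mp (hn (hd.hall.1 ha₂)) t₁⁻¹).mp (Subgroup.inv_mem _ ht₁)
  exact Subgroup.mul_mem _ (Subgroup.mul_mem _ (Subgroup.mul_mem _ ht₁ h1) h2) (Subgroup.inv_mem _ ht₂)

/-- The power of an element of `L` by the order of `A` lies in `W L_σ`. -/
theorem decomp_pow (hG : IsMinSimpleOddOrder G) (hK : KappaFacts G) (hL : IsCoatom L) (hd : IsSigmaDecomposition L A W)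
    {g : G} (hg : g ∈ L) : g ^ Nat.card A ∈ W ⊔ sigmaCore L := by
  have hn : L ≤ normalizer ((W ⊔ sigmaCore L : Subgroup G) : Set G) := normal_decomposition hG hK hL hd
  obtain ⟨t, ht, a, ha, rfl⟩ := decomp_elem hd hg
  have key : ∀ n : ℕ, ∃ t' ∈ W ⊔ sigmaCore L, (t * a) ^ n = t' * a ^ n := by
    intro n
    induction n with
    | zero => exact ⟨1, Subgroup.one_mem _, by simp⟩
    | succ n ih =>
      obtain ⟨t', ht', e⟩ := ih
      refine ⟨t' * (a ^ n * t * (a ^ n)⁻¹), Subgroup.mul_mem _ ht' ?_, ?_⟩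
      · exact (mem_normalizer_iff.mp (hn (Subgroup.pow_mem _ (hd.hall.1 ha) n)) t).mp ht
      · rw [pow_succ, e, pow_succ]
        group
  obtain ⟨t', ht', e⟩ := key (Nat.card A)
  have h1 : a ^ Nat.card A = 1 := by
    have h5 : (⟨a, ha⟩ : A) ^ Nat.card A = 1 := pow_card_eq_one'
    have h6 := congrArg Subtype.val h5
    rwa [Subgroup.coe_pow, Subgroup.coe_one] at h6
  rw [e, h1, mul_one]
  exact ht'

end Decomp

namespace FCtx

variable {M N Ns K U : Subgroup G} {x : G} (c : FCtx M N Ns K U x)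
include c

/-- All nonidentity elements of the complement act without fixed points on `M_σ`. -/
theorem fpf_E {e w : G} (he : e ∈ M ⊓ Ns) (he1 : e ≠ 1) (hw : w ∈ sigmaCore M) (hew : e * w = w * e) : w = 1 := by
  classical
  by_contra hw1
  have hno : orderOf e ≠ 1 := fun h => he1 (orderOf_eq_one_iff.mp h)
  obtain ⟨p, hp, hpd⟩ := Nat.exists_prime_and_dvd hno
  haveI : Fact p.Prime := ⟨hp⟩
  set e₁ := e ^ (orderOf e / p) with he₁
  have he₁o : orderOf e₁ = p := orderOf_pow_orderOf_div (orderOf_pos _).ne' hpd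
  have he₁E : e₁ ∈ M ⊓ Ns := Subgroup.pow_mem _ he _
  have he₁1 : e₁ ≠ 1 := by
    intro h
    rw [h, orderOf_one] at he₁o
    exact hp.one_lt.ne he₁o
  have hc' : Commute e₁ w := (show Commute e w from hew).pow_left _
  have hm : e₁ ∈ M ⊓ centralizer ({w} : Set G) :=
    ⟨he₁E.1, Subgroup.mem_centralizer_singleton_iff.mpr hc'.eq⟩
  have hpσ : p ∉ sigma M := not_sigma_of_compl c.hG c.hM c.hE hp (by
    rw [← he₁o]; exact Subgroup.orderOf_dvd_natCard _ he₁E)
  have hσ : ∀ p' : ℕ, p'.Prime → p' ∣ orderOf e₁ → p' ∉ sigma M := by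
    intro p' hp' hd
    rw [he₁o] at hd
    rw [(Nat.prime_dvd_prime_iff_eq hp' hp).mp hd]
    exact hpσ
  rcases c.I.s32 M c.hM w hw hw1 e₁ hm he₁1 hσ with h | h
  · have h1 := h.1 p hp (by rw [he₁o])
    rw [c.hκ] at h1
    exact h1
  · have h1 := h.1 p hp (by rw [he₁o])
    rw [c.tau2_eq] at h1
    exact h1

/-- The primes of the complement have rank one in `M`. -/
theorem rank1_E {p : ℕ} (hp : p.Prime) (hd : p ∣ Nat.card ↥(M ⊓ Ns)) : PRankLE p 1 M := by
  by_contra h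
  have hσ := not_sigma_of_compl c.hG c.hM c.hE hp hd
  have h1 : p ∈ tau2 M := ⟨hp, hσ, rank2_of_not_sigma c.hG c.hM hp hσ, h⟩
  rw [c.tau2_eq] at h1
  exact h1

/-- The complement normalizes `K`. -/
theorem E_norm_K : M ⊓ Ns ≤ normalizer (K : Set G) := by
  classical
  have hG := c.hG
  have hq := c.K_prime
  haveI hqf : Fact (Nat.card K).Prime := ⟨hq⟩
  have hF := Cfsg.Agent.Lib.FitPair.isNilpotent_fittingOf (M ⊓ Ns)
  have hKq : IsPGroup (Nat.card K) K := IsPGroup.of_card (n := 1) (by rw [pow_one])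
  obtain ⟨P, hP⟩ := exists_isSylowIn (Nat.card K) (fittingOf (M ⊓ Ns))
  have hKP : K ≤ P := sylow_of_nilpotent_le hF hP c.hKF hKq
  have hPc : IsCyclic P := by
    refine Cfsg.Agent.Lib.BGK0.isCyclic_of_rank_one hG (L := M) ?_ hP.2.1 (c.rank1_E hq
      (Subgroup.card_dvd_of_le c.K_le_E))
    exact hP.1.trans ((Cfsg.Agent.Lib.BGFix.fittingOf_le _).trans inf_le_left)
  intro e he
  apply mem_normalizer_of_cj_eq
  have h1 : cj K e ≤ fittingOf (M ⊓ Ns) := by
    have h2 := Cfsg.Agent.Lib.FitPair.le_normalizer_fittingOf (M ⊓ Ns) he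
    rw [← cj_eq_of_mem_normalizer h2]
    exact cj_mono c.hKF e
  have h2 : IsPGroup (Nat.card K) (cj K e) := IsPGroup.of_card (n := 1) (by rw [card_cj, pow_one])
  have h3 : cj K e ≤ P := sylow_of_nilpotent_le hF hP h1 h2
  exact cyclic_unique hPc h3 hKP hq (card_cj K e) rfl

/-- An element of prime order of the complement centralizes a normalized cyclic subgroup of coprime order. -/
theorem rho_comm {C : Subgroup G} (hCE : C ≤ M ⊓ Ns) (hCc : IsCyclic C) {ρ : G} (hρE : ρ ∈ M ⊓ Ns)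
    (hρo : (orderOf ρ).Prime) (hρC : ρ ∈ normalizer (C : Set G)) (hcop : ¬ orderOf ρ ∣ Nat.card C) :
    ∀ v ∈ C, ρ * v = v * ρ := by
  classical
  have hG := c.hG
  haveI hCc' := hCc
  have hCn : Group.IsNilpotent C := by
    letI : CommGroup C := { (inferInstance : Group C) with mul_comm := fun a b => mul_comm' a b }
    exact inferInstance
  have hle : C ≤ centralizer ({ρ} : Set G) := by
    apply le_of_forall_pgroup_le
    intro p _ Q hQC hQp
    have hpp : p.Prime := Fact.out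
    obtain ⟨T, hT⟩ := exists_isSylowIn p C
    have hQT : Q ≤ T := sylow_of_nilpotent_le hCn hT hQC hQp
    have hTc : IsCyclic T := Cfsg.Agent.Lib.BGZD.isCyclic_of_le hT.1 hCc
    have hρT : ρ ∈ normalizer ((T : Subgroup G) : Set G) := by
      apply mem_normalizer_of_cj_eq
      have h1 : cj T ρ ≤ C := by
        rw [← cj_eq_of_mem_normalizer hρC]
        exact cj_mono hT.1 ρ
      have h2 : IsPGroup p (cj T ρ) := by
        obtain ⟨n, hn⟩ := IsPGroup.iff_card.mp hT.2.1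
        exact IsPGroup.of_card (n := n) (by rw [card_cj, hn])
      have h3 : cj T ρ ≤ T := sylow_of_nilpotent_le hCn hT h1 h2
      exact Subgroup.eq_of_le_of_card_ge h3 (by rw [card_cj])
    by_cases hT1 : T = ⊥
    · intro z hz
      have h1 := hQT hz
      rw [hT1, Subgroup.mem_bot] at h1
      rw [h1]
      exact Subgroup.one_mem _
    obtain ⟨v, hvT, hvo⟩ := Cfsg.Agent.Lib.BGK0.exists_mem_order_p hT.2.1 hT1
    have hvC : v ∈ C := hT.1 hvT
    have hvE : v ∈ M ⊓ Ns := hCE hvC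
    have hv1 : v ≠ 1 := by
      rintro rfl
      rw [orderOf_one] at hvo
      exact hpp.one_lt.ne hvo
    have hρ1 : ρ ≠ 1 := by
      rintro rfl
      rw [orderOf_one] at hρo
      exact Nat.not_prime_one hρo
    have hpρ : ¬ p ∣ orderOf ρ := by
      intro h
      have h1 := (Nat.prime_dvd_prime_iff_eq hpp hρo).mp h
      apply hcop
      rw [← h1, ← hvo]
      exact Subgroup.orderOf_dvd_natCard _ hvC
    have hvρ : v * ρ = ρ * v := by
      by_contra hm
      have hya : ρ ∈ normalizer ((zpowers v : Subgroup G) : Set G) := by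
        apply mem_normalizer_of_cj_eq
        have h1 : cj (zpowers v) ρ ≤ T := by
          rw [← cj_eq_of_mem_normalizer hρT]
          exact cj_mono (zpowers_le.mpr hvT) ρ
        refine Cfsg.Agent.Lib.BGZ6.cyclic_unique hTc h1 (zpowers_le.mpr hvT) hpp ?_ ?_
        · rw [card_cj, Nat.card_zpowers, hvo]
        · rw [Nat.card_zpowers, hvo]
      have hσp : p ∉ sigma M := not_sigma_of_compl hG c.hM c.hE hpp (by
        rw [← hvo]; exact Subgroup.orderOf_dvd_natCard _ hvE)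
      have hσs : orderOf ρ ∉ sigma M := not_sigma_of_compl hG c.hM c.hE hρo (Subgroup.orderOf_dvd_natCard _ hρE)
      have h1 := Cfsg.Agent.Lib.BGK1.frob_cent (H := sigmaCore M) hvo rfl hpp hρo
        (solvable_of_le_coatom hG c.hM sigmaCore_le) (not_dvd_sigmaCore hpp hσp) (not_dvd_sigmaCore hρo hσs)
        (le_normalizer_sigmaCore hvE.1) (le_normalizer_sigmaCore hρE.1) hya hm (by
          intro t ht hρt
          rw [c.fpf_E hρE hρ1 ht hρt]
          simp)
      exact c.hx1 (c.fpf_E hvE hv1 c.hx (Subgroup.mem_centralizer_singleton_iff.mp (h1 c.hx)).symm)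
    have hfx : ρ * v * ρ⁻¹ = v := by rw [← hvρ]; group
    intro z hz
    have h1 := Cfsg.Agent.Lib.BGZD.centralizes_cyclic_coprime hTc hT.2.1 hρT hpρ hvT hv1 hfx (hQT hz)
    apply Subgroup.mem_centralizer_singleton_iff.mpr
    calc z * ρ = ρ * z * ρ⁻¹ * ρ := by rw [h1]
      _ = ρ * z := by group
  intro v hv
  exact (Subgroup.mem_centralizer_singleton_iff.mp (hle hv)).symm

/-- **The complement is cyclic.** -/
theorem E_cyclic : IsCyclic ↥(M ⊓ Ns) := by
  classical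
  have hG := c.hG
  have hkf := kf_of hG
  have hgS := c.mate.goodS
  have hKsc : IsCyclic (kst N K) := isCyclic_of_good c.I hgS
  obtain ⟨W, hd⟩ := exists_decomposition hG hkf c.hNs hKsc hgS.hall
  set Y : Subgroup G := W ⊔ sigmaCore Ns with hY
  have hYN : Ns ≤ normalizer (Y : Set G) := normal_decomposition hG hkf c.hNs hd
  obtain ⟨y, hy, hy1, hyp, hyκ⟩ := c.exists_y
  haveI hyf : Fact (orderOf y).Prime := ⟨hyp⟩
  have hyNs : y ∈ Ns := hgS.le hy
  have hsY : ¬ orderOf y ∣ Nat.card Y := decomp_not_dvd hG c.hNs hd hyκ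
  have hfixY : ∀ z ∈ Y, y * z = z * y → z ∈ K := fun z hz hyz =>
    c.fix_y hy hy1 (decomp_fix hG hkf c.hNs hd hy hy1 hz hyz) hyz
  obtain ⟨k, hk, hk1⟩ := exists_mem_ne_one c.mate.good.ne
  have hEYc : ∀ e ∈ M ⊓ Ns, e ∈ Y → e * k = k * e := fun e he heY =>
    cent_of_norm_of_fix (X := Y) (K := K) (y := y) (s := orderOf y) (hYN hyNs) (pow_orderOf_eq_one y) hsY
      (fun a ha => c.comm_y hy ha) (fun z hz hyz a ha => c.comm_K (hfixY z hz hyz) ha) heY (c.E_norm_K he) k hk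
  have hnilX : Group.IsNilpotent ↥(Y ⊓ centralizer ({k} : Set G)) := by
    refine nilpotent_of_central_fix (s := orderOf y) (y := y) ?_ (pow_orderOf_eq_one y) ?_ ?_
    · refine le_normalizer_inf (P := zpowers y) (zpowers_le.mpr (hYN hyNs)) ?_ (mem_zpowers y)
      rw [zpowers_le]
      apply Subgroup.le_normalizer
      exact Subgroup.mem_centralizer_singleton_iff.mpr (c.comm_y hy hk)
    · exact fun h => hsY (h.trans (Subgroup.card_dvd_of_le inf_le_left))
    · rintro z ⟨hzY, hzk⟩ hyz w ⟨hwY, hwk⟩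
      have hzK := hfixY z hzY hyz
      rw [eq_zpowers_of_prime c.K_prime hk hk1] at hzK
      obtain ⟨n, rfl⟩ := mem_zpowers_iff.mp hzK
      have h1 : Commute k w := (Subgroup.mem_centralizer_singleton_iff.mp hwk).symm
      exact (Commute.zpow_left h1 n).eq
  have hEYle : (M ⊓ Ns) ⊓ Y ≤ Y ⊓ centralizer ({k} : Set G) := by
    rintro e ⟨he, heY⟩
    exact ⟨heY, Subgroup.mem_centralizer_singleton_iff.mpr (hEYc e he heY)⟩
  have hEYn : Group.IsNilpotent ↥((M ⊓ Ns) ⊓ Y) := Cfsg.Agent.Lib.BGFree3.isNilpotent_of_le hEYle hnilX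
  haveI hEYz : IsZGroup ↥((M ⊓ Ns) ⊓ Y) := isZGroup_of_prank hG (fun p hp hd => by
    haveI : Fact p.Prime := ⟨hp⟩
    exact Cfsg.Agent.Lib.BGUniq3.prankLE_of_le (inf_le_left.trans inf_le_left)
      (c.rank1_E hp (hd.trans (Subgroup.card_dvd_of_le inf_le_left))))
  have hEYcyc : IsCyclic ↥((M ⊓ Ns) ⊓ Y) := inferInstance
  by_cases hρ : ∃ ρ ∈ M ⊓ Ns, (orderOf ρ).Prime ∧ orderOf ρ ∈ kappa Ns
  · obtain ⟨ρ, hρE, hρo, hρκ⟩ := hρ
    have hρY : ¬ orderOf ρ ∣ Nat.card Y := decomp_not_dvd hG c.hNs hd hρκ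
    have hρ1 : ρ ≠ 1 := by
      rintro rfl
      rw [orderOf_one] at hρo
      exact Nat.not_prime_one hρo
    have hρn : ρ ∈ normalizer (((M ⊓ Ns) ⊓ Y : Subgroup G) : Set G) :=
      le_normalizer_inf (P := zpowers ρ) (zpowers_le.mpr (Subgroup.le_normalizer hρE))
        (zpowers_le.mpr (hYN hρE.2)) (mem_zpowers ρ)
    have hρc := c.rho_comm inf_le_left hEYcyc hρE hρo hρn
      (fun h => hρY (h.trans (Subgroup.card_dvd_of_le inf_le_right)))
    have hcen : ∀ e ∈ M ⊓ Ns, e * ρ = ρ * e := by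
      intro e he
      set d := e * ρ * e⁻¹ * ρ⁻¹ with hdd
      have hdY : d ∈ Y := decomp_comm hG hkf c.hNs hd he.2 hρE.2
      have hdE : d ∈ M ⊓ Ns :=
        Subgroup.mul_mem _ (Subgroup.mul_mem _ (Subgroup.mul_mem _ he hρE) (Subgroup.inv_mem _ he)) (Subgroup.inv_mem _ hρE)
      have hdc : ρ * d = d * ρ := hρc d ⟨hdE, hdY⟩
      have hd1 : e * ρ * e⁻¹ = d * ρ := by rw [hdd]; group
      have hds : d ^ orderOf ρ = 1 := by
        have h1 : (e * ρ * e⁻¹) ^ orderOf ρ = 1 := by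
          rw [conj_pow, pow_orderOf_eq_one]
          group
        rw [hd1, (show Commute d ρ from hdc.symm).mul_pow, pow_orderOf_eq_one, mul_one] at h1
        exact h1
      have hdo : d = 1 := by
        have h2 : orderOf d ∣ orderOf ρ := orderOf_dvd_of_pow_eq_one hds
        have h3 : orderOf d ∣ Nat.card Y := Subgroup.orderOf_dvd_natCard _ hdY
        rcases (Nat.dvd_prime hρo).mp h2 with h | h
        · exact orderOf_eq_one_iff.mp h
        · exact (hρY (h ▸ h3)).elim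
      rw [hdo, one_mul] at hd1
      calc e * ρ = e * ρ * e⁻¹ * e := by group
        _ = ρ * e := by rw [hd1]
    have hNss : Group.IsSolvable Ns := solvable_of_le_coatom hG c.hNs le_rfl
    obtain ⟨K₂, hρK₂, hK₂⟩ := Cfsg.Agent.Lib.BGCent.exists_hall_ge (π := kappa Ns) hNss (zpowers_le.mpr hρE.2) (by
      intro r hr hdr
      rw [Nat.card_zpowers] at hdr
      rw [(Nat.prime_dvd_prime_iff_eq hr hρo).mp hdr]
      exact hρκ)
    have hρK : ρ ∈ K₂ := hρK₂ (mem_zpowers ρ)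
    have hK₂1 : K₂ ≠ ⊥ := by
      intro h
      rw [h, Subgroup.mem_bot] at hρK
      exact hρ1 hρK
    have hgood : Good Ns K₂ := ⟨c.hNs, hK₂, hK₂1⟩
    obtain ⟨Ms', hMs'⟩ := exists_mate c.I hgood
    have h1 := hMs'.cent_k c.I hρK hρ1
    have h2 := hMs'.isCyclic_Z c.I
    rw [← h1] at h2
    refine Cfsg.Agent.Lib.BGZD.isCyclic_of_le ?_ h2
    intro e he
    exact ⟨he.2, Subgroup.mem_centralizer_singleton_iff.mpr (hcen e he)⟩
  · push Not at hρ
    have hEY : M ⊓ Ns ≤ (M ⊓ Ns) ⊓ Y := by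
      intro e he
      refine ⟨he, ?_⟩
      have h1 : e ^ Nat.card (kst N K) ∈ Y := decomp_pow hG hkf c.hNs hd he.2
      have h2 : e ^ orderOf e ∈ Y := by
        rw [pow_orderOf_eq_one]
        exact Subgroup.one_mem _
      refine mem_of_pow_coprime_aux ?_ h2 h1
      apply Nat.coprime_of_dvd
      intro p hp hd1 hd2
      have hpκ : p ∈ kappa Ns := hgS.primes_kappa p hp hd2
      set e₁ := e ^ (orderOf e / p) with he₁
      have he₁o : orderOf e₁ = p := orderOf_pow_orderOf_div (orderOf_pos _).ne' hd1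
      have he₁E : e₁ ∈ M ⊓ Ns := Subgroup.pow_mem _ he _
      refine hρ e₁ he₁E ?_ ?_
      · rw [he₁o]; exact hp
      · rw [he₁o]; exact hpκ
    exact Cfsg.Agent.Lib.BGZD.isCyclic_of_le hEY hEYcyc

/-- **`M` is a Frobenius group with cyclic complement.** -/
theorem frob : ∃ E : Subgroup ↥M, IsFrobeniusComplement E ∧ IsCyclic E := by
  classical
  have hEcyc := c.E_cyclic
  have hEM : M ⊓ Ns ≤ M := inf_le_left
  refine ⟨(M ⊓ Ns).subgroupOf M, ?_, ?_⟩
  · haveI hT : ((sigmaCore M).subgroupOf M).Normal :=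
      Subgroup.normal_subgroupOf_of_le_normalizer (fun m hm => le_normalizer_sigmaCore hm)
    refine Cfsg.Agent.Lib.CNFrob.isFrobeniusComplement_of_fpf (T := (sigmaCore M).subgroupOf M) ?_ ?_ ?_ ?_
    · intro h
      apply c.core_ne
      rw [eq_bot_iff]
      intro z hz
      have h1 : (⟨z, sigmaCore_le hz⟩ : M) ∈ (sigmaCore M).subgroupOf M := hz
      rw [h, Subgroup.mem_bot] at h1
      simpa using congrArg Subtype.val h1
    · intro h
      apply c.mate.good.ne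
      rw [eq_bot_iff]
      intro z hz
      have h1 : (⟨z, c.K_le_M hz⟩ : M) ∈ (M ⊓ Ns).subgroupOf M := c.K_le_E hz
      rw [h, Subgroup.mem_bot] at h1
      simpa using congrArg Subtype.val h1
    · have hcard : Nat.card ((sigmaCore M).subgroupOf M) * Nat.card ((M ⊓ Ns).subgroupOf M) = Nat.card M := by
        rw [card_subgroupOf_of_le sigmaCore_le, card_subgroupOf_of_le hEM, mul_comm]
        exact Cfsg.Agent.Lib.OddOrderCore.card_mul_card_of_isComplIn c.hE
      refine Subgroup.isComplement'_of_card_mul_and_disjoint hcard ?_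
      rw [disjoint_iff, eq_bot_iff]
      rintro ⟨z, hz⟩ ⟨h1, h2⟩
      have h3 : z ∈ (M ⊓ Ns) ⊓ sigmaCore M := ⟨h2, h1⟩
      rw [c.hE.2.2.1, Subgroup.mem_bot] at h3
      exact Subtype.ext h3
    · rintro ⟨e, heM⟩ he he1
      rw [eq_bot_iff]
      rintro ⟨w, hwM⟩ ⟨hw, hwe⟩
      have he' : e ∈ M ⊓ Ns := he
      have he1' : e ≠ 1 := fun h => he1 (Subtype.ext h)
      have hw' : w ∈ sigmaCore M := hw
      have hc' : e * w = w * e := by
        have h1 := Subgroup.mem_centralizer_singleton_iff.mp hwe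
        exact (congrArg Subtype.val h1).symm
      exact Subtype.ext (c.fpf_E he' he1' hw' hc')
  · have e : ↥((M ⊓ Ns).subgroupOf M) ≃* ↥(M ⊓ Ns) := Subgroup.subgroupOfEquivOfLe hEM
    exact isCyclic_of_injective e.toMonoidHom e.injective

end FCtx

end Cfsg.Agent.Lib.BGCent
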