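import Mathlib
import Cfsg.Agent.Lib.BGCent20
import Cfsg.Agent.Lib.BGCent15

/-!
# Bender-Glauberman section 14: the theorem on `M`, when `κ(N) ≠ ∅` (S1376), from the theorem S1435.
-/

set_option autoImplicit false
set_option linter.unusedSectionVars false
set_option linter.unusedVariables false
set_option linter.style.haveILetI false
set_option linter.unusedSimpArgs false

namespace Cfsg.Agent.Lib.BGCent

open Cfsg Subgroup Cfsg.Agent.Lib.CoprimeInv Cfsg.Agent.Lib.BGTrans Cfsg.Agent.Lib.BGTrans2 Cfsg.Agent.Lib.BGUniq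
  Cfsg.Agent.Lib.BGUniq2 Cfsg.Agent.Lib.PCore Cfsg.Agent.Lib.BGTau7 Cfsg.Agent.Lib.BGM1 Cfsg.Agent.Lib.BGTau5
  Cfsg.Agent.Lib.BGTau3 Cfsg.Agent.Lib.BGM2 Cfsg.Agent.Lib.BGTau6 Cfsg.Agent.Lib.BGTau1 Cfsg.Agent.Lib.BGP2E
  Cfsg.Agent.Lib.BGFit2 Cfsg.Agent.Lib.BGZ1 Cfsg.Agent.Lib.BGZ2 Cfsg.Agent.Lib.BGZ5 Cfsg.Agent.Lib.BGZ6
open scoped commutatorElement

universe u

variable {G : Type u} [Group G] [Finite G]

/-- The theorem on maximal subgroups above `N_G(R)`, as a hypothesis. -/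
def H35 (G : Type u) [Group G] [Finite G] : Prop :=
  ∀ (M : Subgroup G) (hM : IsCoatom M) (K U : Subgroup G) (hKU : IsSigmaDecomposition M K U) (hK1 : K ≠ ⊥) (hU1 : U ≠ ⊥)
    (Mstar : Subgroup G) (hMstar : IsCoatom Mstar)
    (hKst : K = sigmaCore Mstar ⊓ centralizer ((sigmaCore M ⊓ centralizer (K : Set G)) : Set G))
    (hKstH : IsPiHallOf (kappa Mstar) (sigmaCore M ⊓ centralizer (K : Set G)) Mstar)
    (r : ℕ) [Fact r.Prime] (hr : r ∣ Nat.card U) (R : Sylow r U) (H : Subgroup G) (hH : IsCoatom H)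
    (hNR : normalizer (((R : Subgroup U).map U.subtype : Subgroup G) : Set G) ≤ H),
    kappa H = ∅ ∧ U ≤ sigmaCore H ∧ M ⊓ H = U ⊔ K ∧ ¬ H ⊓ normalizer (U : Set G) ≤ M ∧
      K ≤ fittingOf (H ⊓ Mstar) ∧ IsComplIn (H ⊓ Mstar) (sigmaCore H) H

/-- A standard factorisation conjugated by an element of `M`. -/
theorem dec_conj {M K U : Subgroup G} (hd : IsSigmaDecomposition M K U) {m : G} (hm : m ∈ M) :
    IsSigmaDecomposition M (cj K m) (cj U m) := by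
  have hσ : cj (sigmaCore M) m = sigmaCore M := cj_eq_of_mem_normalizer (le_normalizer_sigmaCore hm)
  have hMm : cj M m = M := cj_eq_of_mem_normalizer (Subgroup.le_normalizer hm)
  refine ⟨?_, ?_, ?_, ?_⟩
  · haveI := hd.cyclic
    exact isCyclic_of_surjective _ (Subgroup.equivMapOfInjective K (MulAut.conj m).toMonoidHom
      (MulAut.conj m).injective).surjective
  · have := isPiHallOf_cj hd.hall m
    rwa [hMm] at this
  · have := isComplIn_cj hd.compl m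
    rwa [hMm, cj_sup, hσ] at this
  · exact normalizer_cj_of_le hd.normal

/-- The situation of S1375. -/
structure XCtx (M N : Subgroup G) (x : G) : Prop where
  hG : IsMinSimpleOddOrder G
  hM : IsCoatom M
  hN : IsCoatom N
  hx : x ∈ sigmaCore M
  hx1 : x ≠ 1
  hCM : ¬ centralizer ({x} : Set G) ≤ M
  hCN : centralizer ({x} : Set G) ≤ N

namespace XCtx

variable {M N : Subgroup G} {x : G} (c : XCtx M N x)
include c

theorem main :
    (∀ L : Subgroup G, IsCoatom L → centralizer ({x} : Set G) ≤ L → L = N) ∧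
      IsComplIn (M ⊓ centralizer ({x} : Set G)) (sigmaCore N ⊓ centralizer ({x} : Set G)) (centralizer ({x} : Set G)) ∧
      IsComplIn (M ⊓ N) (sigmaCore N) N ∧
      (∀ K' U' : Subgroup G, IsSigmaDecomposition N K' U' → U' ≠ ⊥ ∧ x ∈ sigmaA N U' ∧ x ∉ sigmaCore N) ∧
      Group.IsNilpotent (sigmaCore N) ∧
      ∃ p : ℕ, p.Prime ∧ p ∣ orderOf x ∧ p ∈ tau2 N ∧ ∃ A : Subgroup G, A ≤ M ⊓ centralizer ({x} : Set G) ∧
        ∃ T : T2 N A p, normalizer (A : Set G) ≤ M := by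
  have hG := c.hG
  have hK := kf_of hG
  obtain ⟨R, hRn, hR⟩ := exists_compl hG c.hM (hK.h32' c.hM) c.hx c.hx1
  have d : CCtx M R x := ⟨hG, hK, c.hM, c.hx, c.hx1, c.hCM, hRn, hR⟩
  obtain ⟨N₁, hN₁, hCN₁, hU, hτ⟩ := d.exists_N
  have he := hU N c.hN c.hCN
  subst he
  have hc := d.cent_eq c.hN c.hCN hτ
  refine ⟨hU, ?_, d.compl_N c.hN c.hCN hτ, fun K' U' hd => d.part5 c.hN c.hCN hτ hd, d.nilp c.hN c.hCN hτ, ?_⟩
  · rw [hc]; exact hR
  · obtain ⟨p, hp, hd⟩ := d.exists_prime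
    haveI : Fact p.Prime := ⟨hp⟩
    obtain ⟨A, hAD, ⟨T⟩⟩ := d.exists_A c.hN c.hCN hτ hd
    exact ⟨p, hp, hd, hτ p hp hd, A, hAD, T, d.norm_le c.hN c.hCN hτ hd T hAD⟩

/-- The context of the theorem on `M`, when `κ(N) ≠ ∅`. -/
theorem exists_fctx (H : H35 G) (hκ : (kappa N).Nonempty) : ∃ Ns K U, FCtx M N Ns K U x := by
  classical
  have hG := c.hG
  have hkf := kf_of hG
  have hI := inp_of hG
  obtain ⟨hu, -, hcompl, h5, hnil, p, hp, hpd, hpτ, A, hAD, T, hNA⟩ := c.main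
  haveI hpf : Fact p.Prime := ⟨hp⟩
  obtain ⟨⟨K₀, hK₀⟩, hcyc⟩ := Cfsg.Agent.Lib.BGZ9.s1351 hI N c.hN
  have hK₀c := hcyc K₀ hK₀
  obtain ⟨U₀, hd₀⟩ := exists_decomposition hG hkf c.hN hK₀c hK₀
  have hU₀1 := (h5 K₀ U₀ hd₀).1
  -- `p` divides `|U₀|`
  have hcard := Cfsg.Agent.Lib.OddOrderCore.card_mul_card_of_isComplIn hd₀.compl
  have hNorm : K₀ ≤ normalizer ((sigmaCore N : Subgroup G) : Set G) := hK₀.1.trans fun g hg => le_normalizer_sigmaCore hg
  have hnd : ¬ p ∣ Nat.card ↥(K₀ ⊔ sigmaCore N) := by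
    intro h
    have h1 := card_sup_mul_card_inf hNorm
    have h2 : p ∣ Nat.card K₀ * Nat.card (sigmaCore N) := by
      rw [← h1]
      exact Dvd.dvd.mul_right h _
    rcases (Nat.Prime.dvd_mul hp).mp h2 with h3 | h3
    · exact kappa_not_tau2 (hK₀.2.1 p hp h3) hpτ
    · exact hpτ.2.1 (primes_sigmaCore p hp h3)
  have hpN : p ∣ Nat.card N := T.dvdM
  have hpU : p ∣ Nat.card U₀ := by
    rw [← hcard] at hpN
    exact ((Nat.Prime.dvd_mul hp).mp hpN).resolve_right hnd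
  obtain ⟨R₀, hR₀⟩ := exists_isSylowIn p U₀
  have hidx : ¬ p ∣ U₀.relIndex N := by
    have h1 := Cfsg.Agent.Lib.Coprime.relIndex_mul_card_of_le hd₀.compl.1
    have hpos : 0 < Nat.card U₀ := Nat.card_pos
    rw [← hcard, mul_comm (Nat.card U₀)] at h1
    rw [Nat.eq_of_mul_eq_mul_right hpos h1]
    exact hnd
  have hR₀N : IsSylowIn p R₀ N := isSylowIn_of_hall hR₀ hd₀.compl.1 hidx
  obtain ⟨P, hP, hAP⟩ := exists_isSylowIn_ge p T.hAM T.isP
  obtain ⟨n, hn, hnP⟩ := hR₀N.exists_conj hP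
  have hd := dec_conj hd₀ hn
  set K := cj K₀ n with hK
  set U := cj U₀ n with hU
  have hK1 : K ≠ ⊥ := by
    intro h
    obtain ⟨s, hs⟩ := hκ
    have h1 := hd.hall.2.2 s hs.1 hs
    rw [h, Subgroup.relIndex_bot_left] at h1
    exact h1 hs.2.1
  have hU1 : U ≠ ⊥ := (h5 K U hd).1
  have hgood : Good N K := ⟨c.hN, hd.hall, hK1⟩
  obtain ⟨Ns, hMs⟩ := exists_mate hI hgood
  have hPU : IsSylowIn p P U := by
    refine ⟨?_, hP.2.1, fun R' hR' hR'p hPR => hP.2.2 R' (hR'.trans hd.compl.1) hR'p hPR⟩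
    rw [hnP]
    exact cj_mono hR₀.1 n
  have hpUU : p ∣ Nat.card U := by
    rw [hU, card_cj]
    exact hpU
  have hmap : (hPU.toSylow : Subgroup U).map U.subtype = P := Subgroup.map_subgroupOf_eq_of_le hPU.1
  have hNP : normalizer ((((hPU.toSylow : Subgroup U).map U.subtype : Subgroup G)) : Set G) ≤ M := by
    rw [hmap]
    refine le_trans ?_ hNA
    intro g hg
    have hle : cj A g ≤ A := by
      rintro _ ⟨a, ha, rfl⟩
      have h1 : g * a * g⁻¹ ∈ P := (mem_normalizer_iff.mp hg a).mp (hAP ha)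
      refine T.omega_P hP hAP h1 ?_
      show (g * a * g⁻¹) ^ p = 1
      rw [conj_pow, T.ea.2 a ha]
      group
    apply mem_normalizer_of_cj_eq
    exact Subgroup.eq_of_le_of_card_ge hle (by rw [card_cj])
  obtain ⟨h1, -, -, -, h5', h6⟩ := H N c.hN K U hd hK1 hU1 Ns hMs.goodS.hM hMs.kst_eq.symm hMs.goodS.hall p hpUU hPU.toSylow M
    c.hM hNP
  exact ⟨Ns, K, U, ⟨⟨hI, c.hM, hd, hMs, hU1, h1, h5', h6⟩, c.hx, c.hx1, c.hCN, c.hCM⟩⟩

end XCtx

/-- **The theorem on `M`, when `κ(N) ≠ ∅`.** -/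
theorem s1376_of (H : H35 G) (hG : IsMinSimpleOddOrder G) {M N : Subgroup G} (hM : IsCoatom M) {x : G}
    (hx : x ∈ sigmaCore M) (hx1 : x ≠ 1) (hxM : ¬ centralizer ({x} : Set G) ≤ M) (hN : IsCoatom N)
    (hxN : centralizer ({x} : Set G) ≤ N) (hkN : (kappa N).Nonempty) :
    kappa M = ∅ ∧ (∃ E : Subgroup ↥M, IsFrobeniusComplement E ∧ IsCyclic E) ∧ ¬ IsTISubset (fittingHallOf M : Set G) := by
  obtain ⟨Ns, K, U, c⟩ := (XCtx.mk hG hM hN hx hx1 hxM hxN).exists_fctx H hkN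
  exact ⟨c.hκ, c.frob, c.not_TI⟩

end Cfsg.Agent.Lib.BGCent
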