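import Mathlib
import Cfsg.Agent.Lib.BGTau15
import Cfsg.Agent.Lib.BGFus2
import Cfsg.Agent.S1420
import Cfsg.Agent.S1411

/-!
# Bender-Glauberman: complements of `M_σ` acting almost regularly, the abelian normal subgroup `A₀`.
-/

set_option autoImplicit false
set_option linter.unusedSectionVars false
set_option linter.unusedVariables false
set_option linter.style.haveILetI false
set_option linter.unusedSimpArgs false

namespace Cfsg.Agent.Lib.BGE0

open Cfsg Subgroup Cfsg.Agent.Lib.CoprimeInv Cfsg.Agent.Lib.BGTrans Cfsg.Agent.Lib.BGTrans2 Cfsg.Agent.Lib.BGUniq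
  Cfsg.Agent.Lib.BGUniq2 Cfsg.Agent.Lib.BGTau1 Cfsg.Agent.Lib.BGTau2
  Cfsg.Agent.Lib.BGTau3 Cfsg.Agent.Lib.BGTau4 Cfsg.Agent.Lib.BGTau5 Cfsg.Agent.Lib.BGTau6
  Cfsg.Agent.Lib.BGUT1 Cfsg.Agent.Lib.BGM1
  Cfsg.Agent.Lib.BGUniq3 Cfsg.Agent.Lib.BGSigma3 Cfsg.Agent.Lib.BGSigma4 Cfsg.Agent.Lib.BGSigma2
  Cfsg.Agent.Lib.Glauberman Cfsg.Agent.Lib.BGFit2 Cfsg.Agent.Lib.BGTau7 Cfsg.Agent.Lib.BGM2
open scoped commutatorElement

universe u

variable {G : Type u} [Group G] [Finite G]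

/-- Membership in a subgroup may be checked on the powers of prime power order. -/
theorem mem_of_prime_power_parts {H : Subgroup G} {x : G}
    (h : ∀ (s k : ℕ) (y : G), s.Prime → y ∈ zpowers x → orderOf y = s ^ k → y ∈ H) : x ∈ H := by
  have key : ∀ n : ℕ, ∀ x : G, orderOf x = n →
      (∀ (s k : ℕ) (y : G), s.Prime → y ∈ zpowers x → orderOf y = s ^ k → y ∈ H) → x ∈ H := by
    intro n
    induction n using Nat.recOnPosPrimePosCoprime with
    | prime_pow s k hs hk =>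
      intro x hx hp
      exact hp s k x hs (mem_zpowers x) hx
    | zero =>
      intro x hx _
      exact absurd hx (orderOf_pos x).ne'
    | one =>
      intro x hx _
      rw [orderOf_eq_one_iff.mp hx]
      exact one_mem _
    | coprime a b ha hb hab iha ihb =>
      intro x hx hp
      have hapos : 0 < a := by omega
      have hbpos : 0 < b := by omega
      have h1 : orderOf (x ^ a) = b := by
        rw [orderOf_pow' x hapos.ne', hx, Nat.gcd_eq_right (Dvd.intro _ rfl)]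
        exact Nat.mul_div_cancel_left b hapos
      have h2 : orderOf (x ^ b) = a := by
        rw [orderOf_pow' x hbpos.ne', hx, Nat.gcd_eq_right (Dvd.intro_left _ rfl)]
        exact Nat.mul_div_cancel a hbpos
      have hsub : ∀ m : ℕ, zpowers (x ^ m) ≤ zpowers x := fun m =>
        zpowers_le.mpr (pow_mem (mem_zpowers x) m)
      have h3 : x ^ a ∈ H := ihb _ h1 (fun s k y hs hy hyo => hp s k y hs (hsub a hy) hyo)
      have h4 : x ^ b ∈ H := iha _ h2 (fun s k y hs hy hyo => hp s k y hs (hsub b hy) hyo)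
      have hbez : (a : ℤ) * Nat.gcdA a b + b * Nat.gcdB a b = 1 := by
        have := Nat.gcd_eq_gcd_ab a b
        rw [hab.gcd_eq_one] at this
        push_cast at this
        linarith
      have e : x = (x ^ a) ^ (Nat.gcdA a b) * (x ^ b) ^ (Nat.gcdB a b) := by
        rw [← zpow_natCast x a, ← zpow_natCast x b, ← zpow_mul, ← zpow_mul, ← zpow_add, hbez, zpow_one]
      rw [e]
      exact mul_mem (zpow_mem h3 _) (zpow_mem h4 _)
  exact key _ x rfl h

/-- A commutator commuting with the coprime element is trivial. -/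
theorem eq_one_of_comm_comm {e r c : G} {N K : ℕ} (he : e ^ N = 1) (hc : c ^ K = 1) (hco : N.Coprime K)
    (hdef : c = r * e * r⁻¹ * e⁻¹) (hce : c * e = e * c) : c = 1 := by
  have h1 : e * r⁻¹ * e⁻¹ = r⁻¹ * c := by rw [hdef]; group
  have key : ∀ n : ℕ, e ^ n * r⁻¹ * (e ^ n)⁻¹ = r⁻¹ * c ^ n := by
    intro n
    induction n with
    | zero => simp
    | succ n ih =>
      have hcomm : Commute c (e ^ n) := (show Commute c e from hce).pow_right n
      have e1 : e ^ (n + 1) * r⁻¹ * (e ^ (n + 1))⁻¹ = e ^ n * (e * r⁻¹ * e⁻¹) * (e ^ n)⁻¹ := by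
        rw [pow_succ]; group
      rw [e1, h1]
      have e2 : e ^ n * (r⁻¹ * c) * (e ^ n)⁻¹ = (e ^ n * r⁻¹ * (e ^ n)⁻¹) * (e ^ n * c * (e ^ n)⁻¹) := by group
      rw [e2, ih]
      have e3 : e ^ n * c * (e ^ n)⁻¹ = c := by
        rw [← hcomm.eq]; group
      rw [e3, pow_succ, mul_assoc]
  have h2 := key N
  rw [he] at h2
  have h3 : c ^ N = 1 := by
    have : r⁻¹ = r⁻¹ * c ^ N := by simpa using h2
    simpa using this
  have h4 : orderOf c ∣ Nat.gcd N K := Nat.dvd_gcd (orderOf_dvd_of_pow_eq_one h3) (orderOf_dvd_of_pow_eq_one hc)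
  rw [hco.gcd_eq_one, Nat.dvd_one, orderOf_eq_one_iff] at h4
  exact h4

theorem mem_pCoreOf_of_comm {q : ℕ} [hq : Fact q.Prime] {X : Subgroup G} (hX : IsMulCommutative X) {x : G}
    (hx : x ∈ X) {k : ℕ} (hxq : x ^ q ^ k = 1) : x ∈ pCoreOf q X := by
  have h1 : IsPGroup q (zpowers x) := by
    rintro ⟨y, hy⟩
    obtain ⟨n, rfl⟩ := mem_zpowers_iff.mp hy
    refine ⟨k, Subtype.ext ?_⟩
    show (x ^ n) ^ q ^ k = 1
    rw [← zpow_natCast, ← zpow_mul, mul_comm, zpow_mul, zpow_natCast, hxq, one_zpow]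
  have h2 : zpowers x ≤ pCoreOf q X := by
    apply le_pCoreOf (zpowers_le.mpr hx) _ h1
    intro g hg
    apply mem_normalizer_of_forall
    intro y hy
    have hyX : y ∈ X := (zpowers_le.mpr hx) hy
    have h3 : g * y = y * g := congrArg Subtype.val (hX.is_comm.comm (⟨g, hg⟩ : X) ⟨y, hyX⟩)
    rw [h3]
    simpa using hy
  exact h2 (mem_zpowers x)

theorem normalizer_le_normalizer_commutator (X : Subgroup G) :
    normalizer (X : Set G) ≤ normalizer ((⁅X, X⁆ : Subgroup G) : Set G) := by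
  intro a ha
  rw [Subgroup.mem_normalizer_iff_map_conj_eq, Subgroup.map_commutator]
  have h2 := Subgroup.mem_normalizer_iff_map_conj_eq.mp ha
  rw [h2]

section Compl

variable {M E : Subgroup G} (hG : IsMinSimpleOddOrder G) (hM : IsCoatom M)
  (hE : IsComplIn E (sigmaCore M) M)
include hG hM hE

/-- A Sylow subgroup of a complement is a Sylow subgroup of `M`. -/
theorem isSylowIn_of_compl {p : ℕ} [hp : Fact p.Prime] (hpσ : p ∉ sigma M) {P : Subgroup G}
    (hP : IsSylowIn p P E) : IsSylowIn p P M := by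
  apply isSylowIn_of_hall hP hE.1
  have h1 := card_compl hE
  have h2 : E.relIndex M = Nat.card (sigmaCore M) := by
    have h3 : Nat.card (E.subgroupOf M) * (E.subgroupOf M).index = Nat.card M := Subgroup.card_mul_index _
    rw [card_subgroupOf_of_le hE.1] at h3
    have h4 : (E.subgroupOf M).index = E.relIndex M := rfl
    rw [h4, ← h1] at h3
    exact Nat.eq_of_mul_eq_mul_left Nat.card_pos h3
  rw [h2]
  exact not_dvd_sigmaCore hp.out hpσ

theorem der_abelian : IsMulCommutative ↥⁅E, E⁆ := (Cfsg.Agent.S1420.result hG M hM E hE).2.1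

/-- A prime dividing the order of an element of `E`. -/
theorem not_sigma_of_orderOf {e : G} (he : e ∈ E) {p : ℕ} (hp : p.Prime) (hd : p ∣ orderOf e) : p ∉ sigma M := by
  apply not_sigma_of_compl hG hM hE hp
  have h1 : orderOf (⟨e, he⟩ : E) = orderOf e := Subgroup.orderOf_mk e he
  rw [← h1] at hd
  exact hd.trans (orderOf_dvd_natCard _)

/-- A nontrivial `p`-element of `E`, for a prime outside `τ₂`, is covered by the hypothesis. -/
theorem tau13_of_rank1 {e : G} (he : e ∈ E) {p : ℕ} (hp : p.Prime) (hd : p ∣ orderOf e) (hr : PRankLE p 1 M) :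
    p ∈ tau1 M ∪ tau3 M := by
  have hσ := not_sigma_of_orderOf hG hM hE he hp hd
  have hdM : p ∣ Nat.card M := by
    have h1 : orderOf (⟨e, hE.1 he⟩ : M) = orderOf e := Subgroup.orderOf_mk e (hE.1 he)
    rw [← h1] at hd
    exact hd.trans (orderOf_dvd_natCard _)
  by_cases hd' : p ∣ Nat.card ↥⁅M, M⁆
  · exact Or.inr ⟨hp, hσ, hd', hr⟩
  · exact Or.inl ⟨hp, hσ, hdM, hd', hr⟩

/-- The commuting step: a `q`-element of `E'` commutes with a `p`-element of `E ∩ C(A)`, if the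
`q`-elements of `C(A)'` do. -/
theorem comm_of_pq {A : Subgroup G} {p q : ℕ} [hp : Fact p.Prime] [hq : Fact q.Prime] (hqp : q ≠ p)
    (hAn : E ≤ normalizer (A : Set G)) {e : G} (he : e ∈ E) (heA : e ∈ centralizer (A : Set G)) {k : ℕ}
    (hek : e ^ p ^ k = 1) (hCE : centralizer (A : Set G) ≤ E)
    (hcond : ∀ c' ∈ ⁅centralizer (A : Set G), centralizer (A : Set G)⁆, (∃ j : ℕ, c' ^ q ^ j = 1) → c' * e = e * c')
    {r : G} (hr : r ∈ ⁅E, E⁆) {j : ℕ} (hrq : r ^ q ^ j = 1) : r * e = e * r := by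
  have hab := der_abelian hG hM hE
  have hco : Nat.Coprime (p ^ k) (q ^ (j : ℕ)) :=
    Nat.Coprime.pow _ _ ((Nat.coprime_primes hp.out hq.out).mpr hqp.symm)
  have hrE : r ∈ E := Subgroup.commutator_le_self E hr
  have hrQ : r ∈ pCoreOf q ⁅E, E⁆ := mem_pCoreOf_of_comm hab hr hrq
  have hEQ : E ≤ normalizer (pCoreOf q ⁅E, E⁆ : Set G) :=
    (Cfsg.Agent.Lib.BGM2.le_normalizer_self_commutator E).trans (normalizer_le_normalizer_pCoreOf q _)
  -- the generic membership: `y e y⁻¹ e⁻¹` in the `q`-part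
  have hcomm_mem : ∀ y ∈ pCoreOf q ⁅E, E⁆, y * e * y⁻¹ * e⁻¹ ∈ pCoreOf q ⁅E, E⁆ := by
    intro y hy
    have h1 : e * y⁻¹ * e⁻¹ ∈ pCoreOf q ⁅E, E⁆ := (mem_normalizer_iff.mp (hEQ he) _).mp (inv_mem hy)
    have e1 : y * e * y⁻¹ * e⁻¹ = y * (e * y⁻¹ * e⁻¹) := by group
    rw [e1]
    exact mul_mem hy h1
  have hQp : ∀ y ∈ pCoreOf q ⁅E, E⁆, ∃ l : ℕ, y ^ q ^ l = 1 := by
    intro y hy
    obtain ⟨l, hl⟩ := isPGroup_pCoreOf q ⁅E, E⁆ ⟨y, hy⟩
    exact ⟨l, congrArg Subtype.val hl⟩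
  set c : G := r * e * r⁻¹ * e⁻¹ with hc
  have hcQ : c ∈ pCoreOf q ⁅E, E⁆ := hcomm_mem r hrQ
  obtain ⟨l, hcl⟩ := hQp c hcQ
  have hcA : c ∈ centralizer (A : Set G) := by
    rw [Subgroup.mem_centralizer_iff]
    intro a ha
    have hr' : r⁻¹ * a * r ∈ A := by
      have := (mem_normalizer_iff.mp (hAn (inv_mem hrE)) a).mp ha
      simpa using this
    have h1 : e * a = a * e := ((Subgroup.mem_centralizer_iff.mp heA) a ha).symm
    have h2 : e * (r⁻¹ * a * r) = (r⁻¹ * a * r) * e := ((Subgroup.mem_centralizer_iff.mp heA) _ hr').symm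
    have e1 : a * c = a * r * e * r⁻¹ * e⁻¹ := by rw [hc]; group
    have h1' : e⁻¹ * a = a * e⁻¹ := by
      calc e⁻¹ * a = e⁻¹ * (a * e) * e⁻¹ := by group
        _ = e⁻¹ * (e * a) * e⁻¹ := by rw [h1]
        _ = a * e⁻¹ := by group
    have e2 : c * a = r * (e * (r⁻¹ * a * r)) * r⁻¹ * e⁻¹ := by
      have e0 : c * a = r * e * r⁻¹ * (e⁻¹ * a) := by rw [hc]; group
      rw [e0, h1']; group
    have e3 : r * ((r⁻¹ * a * r) * e) * r⁻¹ * e⁻¹ = a * r * e * r⁻¹ * e⁻¹ := by group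
    rw [e1, e2, h2, e3]
  set c' : G := c * e * c⁻¹ * e⁻¹ with hc'
  have hc'Q : c' ∈ pCoreOf q ⁅E, E⁆ := hcomm_mem c hcQ
  obtain ⟨l', hcl'⟩ := hQp c' hc'Q
  have hc'C : c' ∈ ⁅centralizer (A : Set G), centralizer (A : Set G)⁆ :=
    Subgroup.commutator_mem_commutator hcA heA
  have h1 : c' * e = e * c' := hcond c' hc'C ⟨l', hcl'⟩
  have h2 : c' = 1 := eq_one_of_comm_comm hek hcl'
    (Nat.Coprime.pow _ _ ((Nat.coprime_primes hp.out hq.out).mpr hqp.symm)) hc' h1
  have h3 : c * e = e * c := by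
    have : c * e = c' * (e * c) := by rw [hc']; group
    rw [this, h2, one_mul]
  have h4 : c = 1 := eq_one_of_comm_comm hek hcl
    (Nat.Coprime.pow _ _ ((Nat.coprime_primes hp.out hq.out).mpr hqp.symm)) hc h3
  have : r * e = c * (e * r) := by rw [hc]; group
  rw [this, h4, one_mul]

/-- A `p`-element of a Sylow subgroup of `E` commutes with `E'`, if the `q`-elements of `C(A)'` do. -/
theorem comm_der {A P : Subgroup G} {p : ℕ} [hp : Fact p.Prime] (T : T2 M A p) (hAE : A ≤ E) (hAP : A ≤ P)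
    (hP : IsSylowIn p P E) {e : G} (heP : e ∈ P)
    (hcond : ∀ (q : ℕ) [Fact q.Prime], q ≠ p → ∀ c' ∈ ⁅centralizer (A : Set G), centralizer (A : Set G)⁆,
      (∃ j : ℕ, c' ^ q ^ j = 1) → c' * e = e * c') :
    e ∈ centralizer ((⁅E, E⁆ : Subgroup G) : Set G) := by
  have hab := der_abelian hG hM hE
  have hPM : IsSylowIn p P M := isSylowIn_of_compl hG hM hE T.notσ hP
  have hPab : IsMulCommutative P := T.abelian hPM hAP
  have heE : e ∈ E := hP.1 heP
  have heA : e ∈ centralizer (A : Set G) := (T.central hPM hAP).1 heP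
  obtain ⟨k, hek⟩ : ∃ k : ℕ, e ^ p ^ k = 1 := by
    obtain ⟨k, hk⟩ := hP.2.1 ⟨e, heP⟩
    exact ⟨k, congrArg Subtype.val hk⟩
  have hAn := T.compl_norm hE hAE
  have hCE : centralizer (A : Set G) ≤ E := by
    rw [← T.compl_inf hE hAE]
    exact le_inf (T.cent_le T.hM T.hAM) (centralizer_le_normalizer A)
  rw [Subgroup.mem_centralizer_iff]
  intro r hr
  have hrC : r ∈ centralizer ({e} : Set G) := by
    apply mem_of_prime_power_parts
    intro q j y hq hy hyo
    haveI : Fact q.Prime := ⟨hq⟩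
    have hyr : y ∈ ⁅E, E⁆ := (zpowers_le.mpr hr) hy
    have hyq : y ^ q ^ j = 1 := by rw [← hyo]; exact pow_orderOf_eq_one y
    rw [Subgroup.mem_centralizer_singleton_iff]
    by_cases hqp : q = p
    · subst hqp
      have h1 : pCoreOf q ⁅E, E⁆ ≤ P := by
        have h2 : IsPGroup q ↥(P ⊔ pCoreOf q ⁅E, E⁆) := by
          apply isPGroup_sup_of_le_normalizer hP.2.1 (isPGroup_pCoreOf q _)
          exact hP.1.trans ((Cfsg.Agent.Lib.BGM2.le_normalizer_self_commutator E).trans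
            (normalizer_le_normalizer_pCoreOf q _))
        have h3 := hP.2.2 _ (sup_le hP.1 ((pCoreOf_le q _).trans (Subgroup.commutator_le_self E))) h2 le_sup_left
        rw [← h3]
        exact le_sup_right
      have h4 : y ∈ P := h1 (mem_pCoreOf_of_comm hab hyr hyq)
      exact congrArg Subtype.val (hPab.is_comm.comm (⟨y, h4⟩ : P) ⟨e, heP⟩)
    · exact comm_of_pq hG hM hE hqp hAn heE heA hek hCE (hcond q hqp) hyr hyq
  exact Subgroup.mem_centralizer_singleton_iff.mp hrC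

/-- **Lemma B**: if the Sylow `p`-subgroups of `G` are abelian then `P` centralizes the `q`-elements of
`C(A)'`. -/
theorem comm_case1 {A P : Subgroup G} {p : ℕ} [hp : Fact p.Prime] (T : T2 M A p) (hAE : A ≤ E) (hAP : A ≤ P)
    (hP : IsSylowIn p P E) (S : Sylow p G) (hPS : P ≤ (S : Subgroup G)) (hab : IsMulCommutative (S : Subgroup G))
    {e : G} (heP : e ∈ P) (q : ℕ) [hq : Fact q.Prime] (hqp : q ≠ p)
    {c' : G} (hc' : c' ∈ ⁅centralizer (A : Set G), centralizer (A : Set G)⁆) (hj : ∃ j : ℕ, c' ^ q ^ j = 1) :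
    c' * e = e * c' := by
  by_cases hc1 : c' = 1
  · rw [hc1, one_mul, mul_one]
  have hPM : IsSylowIn p P M := isSylowIn_of_compl hG hM hE T.notσ hP
  have hCE : centralizer (A : Set G) ≤ E := by
    rw [← T.compl_inf hE hAE]
    exact le_inf (T.cent_le T.hM T.hAM) (centralizer_le_normalizer A)
  have hSC : (S : Subgroup G) ≤ centralizer (A : Set G) := by
    intro y hy
    rw [Subgroup.mem_centralizer_iff]
    intro a ha
    exact congrArg Subtype.val (hab.is_comm.comm (⟨a, hPS (hAP ha)⟩ : (S : Subgroup G)) ⟨y, hy⟩)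
  have hSM : (S : Subgroup G) ≤ M := hSC.trans (T.cent_le T.hM T.hAM)
  have hPeq : P = (S : Subgroup G) := (hPM.2.2 _ hSM S.isPGroup' hPS).symm
  have hder := Subgroup.commutator_mono hCE hCE
  have hab' := der_abelian hG hM hE
  have hCab : IsMulCommutative ↥⁅centralizer (A : Set G), centralizer (A : Set G)⁆ := by
    refine ⟨⟨?_⟩⟩
    rintro ⟨a, ha⟩ ⟨b, hb⟩
    apply Subtype.ext
    show a * b = b * a
    exact congrArg Subtype.val (hab'.is_comm.comm (⟨a, hder ha⟩ : ↥⁅E, E⁆) ⟨b, hder hb⟩)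
  obtain ⟨j, hj⟩ := hj
  have hc'R := mem_pCoreOf_of_comm hCab hc' hj
  set R := pCoreOf q ⁅centralizer (A : Set G), centralizer (A : Set G)⁆ with hR
  have hRp : IsPGroup q R := isPGroup_pCoreOf q _
  have hRne : R ≠ ⊥ := by
    intro h
    rw [h] at hc'R
    exact hc1 hc'R
  have hRE : R ≤ E := (pCoreOf_le q _).trans (hder.trans (Subgroup.commutator_le_self E))
  have hdR := dvd_card_of_isPGroup hRp hRne
  have hdE : q ∣ Nat.card E := hdR.trans (Subgroup.card_dvd_of_le hRE)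
  have hqσ : q ∉ sigma M := not_sigma_of_compl hG hM hE hq.out hdE
  have hq2 : q ≠ 2 := prime_ne_two_of_dvd hG (hdE.trans (Subgroup.card_subgroup_dvd_card _))
  have hrk : PRankLE q 2 R := BGUniq3.prankLE_of_le (hRE.trans hE.1) (rank2_of_not_sigma hG hM hq.out hqσ)
  have hA1 : A ≠ ⊥ := T.A_ne_bot
  have hSne : (S : Subgroup G) ≠ ⊥ := by
    intro h
    apply hA1
    rw [eq_bot_iff, ← h]
    exact hAP.trans hPS
  set B := normalizer ((S : Subgroup G) : Set G) with hB
  have hBne : B ≠ ⊤ := IsMin.normalizer_ne_top hG hSne (IsMin.isPGroup_ne_top hG S.isPGroup')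
  have hBA : B ≤ normalizer (A : Set G) := by
    have := T.norm_P_le hPM hAP
    rwa [hPeq] at this
  have hBR : B ≤ normalizer (R : Set G) :=
    hBA.trans ((normalizer_le_normalizer_centralizer A).trans
      ((normalizer_le_normalizer_commutator _).trans (normalizer_le_normalizer_pCoreOf q _)))
  obtain ⟨V, hV, -⟩ := Cfsg.Agent.Lib.BGFus2.exists_compl S
  have hSB : (S : Subgroup G) ≤ ⁅B, B⁆ := (Cfsg.Agent.S1411.result hG p S V hV).2
  have heS : e ∈ (S : Subgroup G) := hPS heP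
  have hco : (orderOf e).Coprime q := by
    obtain ⟨k, hk⟩ := S.isPGroup' ⟨e, heS⟩
    have h1 : e ^ p ^ k = 1 := congrArg Subtype.val hk
    exact Nat.Coprime.coprime_dvd_left (orderOf_dvd_of_pow_eq_one h1)
      (Nat.Coprime.pow_left _ ((Nat.coprime_primes hp.out hq.out).mpr hqp.symm))
  have h2 : e ∈ centralizer (R : Set G) :=
    comm_of_mem_derived hq2 hRp hrk hBR (IsMin.solvable hG hBne) (odd_card_of_le hG B) (hSB heS) hco
  exact (Subgroup.mem_centralizer_iff.mp h2) c' hc'R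

/-- In the nonabelian Sylow case, an element of `P` centralizing a nonidentity element of `M_σ` has
order dividing `p`. -/
theorem pow_eq_one_case2 {A P : Subgroup G} {p : ℕ} [hp : Fact p.Prime] (T : T2 M A p) (hAP : A ≤ P)
    (hP : IsSylowIn p P E) (S : Sylow p G) (hPS : P ≤ (S : Subgroup G)) (hna : ¬ IsMulCommutative (S : Subgroup G))
    {e : G} (heP : e ∈ P) {x : G} (hx : x ∈ sigmaCore M) (hx1 : x ≠ 1) (hex : e * x = x * e) : e ^ p = 1 := by
  by_contra hep
  have hPM : IsSylowIn p P M := isSylowIn_of_compl hG hM hE T.notσ hP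
  have hpp : p.Prime := hp.out
  obtain ⟨a, z, C₀, ha, hz, hz1, haz, hzc, hcyc, hC₀a, hzC₀, hC₀m, hdec⟩ :=
    T.exists_structure S (hAP.trans hPS) hna
  have heC : e ∈ centralizer (A : Set G) := (T.central hPM hAP).1 heP
  obtain ⟨i, c, hc, hei⟩ := hdec e (hPS heP) heC
  obtain ⟨k, hk⟩ := hP.2.1 ⟨e, heP⟩
  have hek : e ^ p ^ k = 1 := congrArg Subtype.val hk
  obtain ⟨m, -, hm⟩ := (Nat.dvd_prime_pow hpp).mp (orderOf_dvd_of_pow_eq_one hek)
  have hm2 : 2 ≤ m := by
    by_contra hlt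
    apply hep
    rw [← orderOf_dvd_iff_pow_eq_one, hm]
    have : m ≤ 1 := by omega
    exact (pow_dvd_pow p this).trans (by rw [pow_one])
  obtain ⟨n, rfl⟩ : ∃ n, m = n + 2 := ⟨m - 2, by omega⟩
  set w := e ^ p ^ (n + 1) with hw
  have hw1 : w ≠ 1 := by
    intro h
    have h1 := orderOf_dvd_of_pow_eq_one h
    rw [hm] at h1
    have h2 := (Nat.pow_dvd_pow_iff_le_right hpp.one_lt).mp h1
    omega
  have hwp : w ^ p = 1 := by
    rw [hw, ← pow_mul, ← pow_succ, ← hm]
    exact pow_orderOf_eq_one e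
  have hac : Commute a c := (Subgroup.mem_centralizer_singleton_iff.mp (hC₀a hc)).symm
  have hap : a ^ p = 1 := T.ea.2 a ha
  have hwc : w = c ^ p ^ (n + 1) := by
    rw [hw, hei, (hac.pow_left i).mul_pow, ← pow_mul, pow_succ' p n, mul_comm i, mul_assoc, pow_mul, hap, one_pow,
      one_mul]
  have hwC₀ : w ∈ C₀ := by rw [hwc]; exact pow_mem hc _
  have hwz : w ∈ zpowers z := hC₀m w hwC₀ hwp
  have hzzp : z ^ p = 1 := T.ea.2 z hz
  have hzeq : zpowers w = zpowers z := zpowers_eq_of_mem hzzp hw1 hwz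
  have hCeq := cent_eq_of_zpowers_eq hzeq
  have hxC : x ∈ centralizer ({z} : Set G) := by
    rw [← hCeq, Subgroup.mem_centralizer_singleton_iff]
    have : Commute e x := hex
    exact (this.pow_left _).eq.symm
  have hne : sigmaCore M ⊓ centralizer ({z} : Set G) ≠ ⊥ := by
    intro h
    have : x ∈ sigmaCore M ⊓ centralizer ({z} : Set G) := ⟨hx, hxC⟩
    rw [h] at this
    exact hx1 this
  have h3 : centralizer ({z} : Set G) ≤ M :=
    T.le_of_meet (T.ctx.le_cent_elem hz) hne (T.ctx.cent_elem_ne_top hz1)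
  have hSC : (S : Subgroup G) ≤ centralizer ({z} : Set G) := by
    intro y hy
    rw [Subgroup.mem_centralizer_singleton_iff]
    exact hzc y hy
  have hPeq : P = (S : Subgroup G) := (hPM.2.2 _ (hSC.trans h3) S.isPGroup' hPS).symm
  apply hna
  rw [← hPeq]
  exact T.abelian hPM hAP

/-- The hypothesis of the theorem. -/
def AlmostReg (M E : Subgroup G) : Prop :=
  ∀ e ∈ E, e ≠ 1 → (∀ p : ℕ, p.Prime → p ∣ orderOf e → p ∈ tau1 M ∪ tau3 M) →
    sigmaCore M ⊓ centralizer ({e} : Set G) = ⊥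

/-- A `p`-element of `E` with a fixed point is of `τ₂` type. -/
theorem tau2_of_fixed (hH : AlmostReg M E) {e : G} (he : e ∈ E) (he1 : e ≠ 1) {p k : ℕ} (hpp : p.Prime)
    (hek : orderOf e = p ^ k) {x : G} (hx : x ∈ sigmaCore M) (hx1 : x ≠ 1) (hex : e * x = x * e) : p ∈ tau2 M := by
  have hk : k ≠ 0 := by
    rintro rfl
    apply he1
    rw [pow_zero] at hek
    exact orderOf_eq_one_iff.mp hek
  have hd : p ∣ orderOf e := by
    rw [hek]
    exact dvd_pow_self p hk
  have hσ := not_sigma_of_orderOf hG hM hE he hpp hd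
  refine ⟨hpp, hσ, rank2_of_not_sigma hG hM hpp hσ, ?_⟩
  intro hr
  have h1 := hH e he he1 (by
    intro s hs hsd
    rw [hek] at hsd
    have := (Nat.prime_dvd_prime_iff_eq hs hpp).mp (hs.dvd_of_dvd_pow hsd)
    rw [this]
    exact tau13_of_rank1 hG hM hE he hpp hd hr)
  have h2 : x ∈ sigmaCore M ⊓ centralizer ({e} : Set G) :=
    ⟨hx, Subgroup.mem_centralizer_singleton_iff.mpr hex.symm⟩
  rw [h1] at h2
  exact hx1 h2

/-- Elementary abelian data around a `p`-element, for `p ∈ τ₂`. -/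
theorem exists_T2 {p : ℕ} [hp : Fact p.Prime] (hτ : p ∈ tau2 M) {P : Subgroup G} (hP : IsSylowIn p P E) :
    ∃ A : Subgroup G, T2 M A p ∧ A ≤ P := by
  have hPM : IsSylowIn p P M := isSylowIn_of_compl hG hM hE hτ.2.1 hP
  have h1 : ¬ PRankLE p 1 P := fun h => hτ.2.2.2 (BGSigma.prankLE_of_isSylowIn hPM h)
  obtain ⟨A, hAP, hAe, hAc⟩ := exists_ea2 h1
  exact ⟨A, T2.mk' hG hM hτ (hAP.trans hPM.1) hAe hAc, hAP⟩

/-- **`(★)`** -/
theorem mem_centralizer_der (hH : AlmostReg M E) {e x : G} (he : e ∈ E) (hx : x ∈ sigmaCore M) (hx1 : x ≠ 1)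
    (hex : e * x = x * e) : e ∈ centralizer ((⁅E, E⁆ : Subgroup G) : Set G) := by
  apply mem_of_prime_power_parts
  intro s k y hs hy hyo
  by_cases hy1 : y = 1
  · rw [hy1]; exact one_mem _
  haveI : Fact s.Prime := ⟨hs⟩
  have hyE : y ∈ E := (zpowers_le.mpr he) hy
  have hyx : y * x = x * y := by
    obtain ⟨n, rfl⟩ := mem_zpowers_iff.mp hy
    exact ((show Commute e x from hex).zpow_left n).eq
  have hτ := tau2_of_fixed hG hM hE hH hyE hy1 hs hyo hx hx1 hyx
  have hzp : IsPGroup s (zpowers y) := by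
    rintro ⟨u, hu⟩
    obtain ⟨n, rfl⟩ := mem_zpowers_iff.mp hu
    refine ⟨k, Subtype.ext ?_⟩
    show (y ^ n) ^ s ^ k = 1
    rw [← hyo, ← zpow_natCast, ← zpow_mul, mul_comm, zpow_mul, zpow_natCast, pow_orderOf_eq_one, one_zpow]
  obtain ⟨P, hP, hyP⟩ := exists_isSylowIn_ge s (zpowers_le.mpr hyE) hzp
  obtain ⟨A, T, hAP⟩ := exists_T2 hG hM hE hτ hP
  have hAE : A ≤ E := hAP.trans hP.1
  have hyP' : y ∈ P := hyP (mem_zpowers y)
  obtain ⟨S, hPS⟩ := hP.2.1.exists_le_sylow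
  by_cases hab : IsMulCommutative (S : Subgroup G)
  · exact comm_der hG hM hE T hAE hAP hP hyP' (fun q _ hqp c' hc' hj =>
      comm_case1 hG hM hE T hAE hAP hP S hPS hab hyP' q hqp hc' hj)
  · have hPM : IsSylowIn s P M := isSylowIn_of_compl hG hM hE T.notσ hP
    have h1 := pow_eq_one_case2 hG hM hE T hAP hP S hPS hab hyP' hx hx1 hyx
    have hyA : y ∈ A := T.omega_P hPM hAP hyP' h1
    refine comm_der hG hM hE T hAE hAP hP hyP' (fun q _ hqp c' hc' hj => ?_)
    have h2 : c' ∈ centralizer (A : Set G) := Subgroup.commutator_le_self _ hc'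
    exact ((Subgroup.mem_centralizer_iff.mp h2) y hyA).symm

/-- `C_E(E')` is abelian. -/
theorem A0_comm : IsMulCommutative ↥(E ⊓ centralizer ((⁅E, E⁆ : Subgroup G) : Set G)) := by
  set A₀ := E ⊓ centralizer ((⁅E, E⁆ : Subgroup G) : Set G) with hA₀
  have hnil : Group.IsNilpotent A₀ := by
    rw [_root_.nilpotent_iff_lowerCentralSeries]
    refine ⟨2, ?_⟩
    show ⁅⁅(⊤ : Subgroup A₀), (⊤ : Subgroup A₀)⁆, (⊤ : Subgroup A₀)⁆ = ⊥
    rw [eq_bot_iff, Subgroup.commutator_le]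
    intro g hg c _
    have h1 : ⁅(⊤ : Subgroup A₀), (⊤ : Subgroup A₀)⁆ ≤ (⁅E, E⁆ : Subgroup G).comap A₀.subtype := by
      rw [Subgroup.commutator_le]
      intro a _ b _
      exact Subgroup.commutator_mem_commutator a.2.1 b.2.1
    have h2 : (g : G) ∈ ⁅E, E⁆ := h1 hg
    have h3 : (g : G) * c = c * g := (Subgroup.mem_centralizer_iff.mp c.2.2) g h2
    rw [Subgroup.mem_bot, commutatorElement_eq_one_iff_mul_comm]
    exact Subtype.ext h3
  exact (Cfsg.Agent.S1420.result hG M hM E hE).1 A₀ (inf_le_left.trans hE.1) hnil (fun p hp hd =>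
    not_sigma_of_compl hG hM hE hp (hd.trans (Subgroup.card_dvd_of_le inf_le_left)))

/-- **The normal abelian subgroup `A₀`.** -/
theorem exists_A0 (hH : AlmostReg M E) :
    ∃ A₀ : Subgroup G, A₀ ≤ E ∧ E ≤ normalizer (A₀ : Set G) ∧ IsMulCommutative A₀ ∧
      ∀ x ∈ sigmaCore M, x ≠ 1 → E ⊓ centralizer ({x} : Set G) ≤ A₀ := by
  refine ⟨E ⊓ centralizer ((⁅E, E⁆ : Subgroup G) : Set G), inf_le_left, ?_, A0_comm hG hM hE, ?_⟩
  · intro g hg
    apply mem_normalizer_of_forall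
    intro y hy
    refine ⟨(mem_normalizer_iff.mp (Subgroup.le_normalizer hg) y).mp hy.1, ?_⟩
    exact (mem_normalizer_iff.mp (normalizer_le_normalizer_centralizer _ (le_normalizer_self_commutator E hg)) y).mp hy.2
  · rintro x hx hx1 e ⟨he, hec⟩
    exact ⟨he, mem_centralizer_der hG hM hE hH he hx hx1 (Subgroup.mem_centralizer_singleton_iff.mp hec)⟩

end Compl

end Cfsg.Agent.Lib.BGE0
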