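import Mathlib
import Cfsg.Agent.Lib.BGE0A

/-!
# Bender-Glauberman: complements of `M_σ` acting almost regularly, general lemmas.

`eigen_apply`: an eigen-projection for a coprime automorphism of an abelian group.
`exists_invariant_cyclic`: an invariant cyclic subgroup of maximal order through an invariant line.
-/

set_option autoImplicit false
set_option linter.unusedSectionVars false
set_option linter.unusedVariables false
set_option linter.style.haveILetI false
set_option linter.unusedSimpArgs false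

namespace Cfsg.Agent.Lib.BGE0

open Cfsg Subgroup Cfsg.Agent.Lib.CoprimeInv Cfsg.Agent.Lib.BGTrans Cfsg.Agent.Lib.BGTrans2 Cfsg.Agent.Lib.BGUniq
  Cfsg.Agent.Lib.BGUniq2 Cfsg.Agent.Lib.BGTau1 Cfsg.Agent.Lib.BGTau2
  Cfsg.Agent.Lib.BGTau3 Cfsg.Agent.Lib.BGTau4 Cfsg.Agent.Lib.BGTau5 Cfsg.Agent.Lib.BGTau6
  Cfsg.Agent.Lib.BGUT1 Cfsg.Agent.Lib.BGM1
  Cfsg.Agent.Lib.BGUniq3 Cfsg.Agent.Lib.BGSigma3 Cfsg.Agent.Lib.BGSigma4 Cfsg.Agent.Lib.BGSigma2
  Cfsg.Agent.Lib.Glauberman Cfsg.Agent.Lib.BGFit2 Cfsg.Agent.Lib.BGTau7 Cfsg.Agent.Lib.BGM2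
open scoped commutatorElement

universe u

section Eigen

variable {V : Type*} [CommGroup V]

/-- The eigen-projection: `e(v) = ∏ φ^i(v)^(t^(n-i))`. -/
def eigenProj (φ : V →* V) (n t : ℕ) (v : V) : V := ∏ i ∈ Finset.range n, (φ^[i] v) ^ (t ^ (n - i))

theorem pow_eq_self_of_modEq {N m : ℕ} (hN : ∀ v : V, v ^ N = 1) (hm : m ≡ 1 [MOD N]) (v : V) : v ^ m = v := by
  have h1 : v ^ m = v ^ 1 := (pow_eq_pow_iff_modEq).mpr (hm.of_dvd (orderOf_dvd_of_pow_eq_one (hN v)))
  rwa [pow_one] at h1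

theorem eigen_apply (φ : V →* V) {n t N : ℕ} (hφn : ∀ v, φ^[n] v = v) (hN : ∀ v : V, v ^ N = 1)
    (ht : t ^ n ≡ 1 [MOD N]) (v : V) : φ (eigenProj φ n t v) = eigenProj φ n t v ^ t := by
  set h : ℕ → V := fun i => (φ^[i] v) ^ (t ^ (n + 1 - i)) with hh
  have h1 : φ (eigenProj φ n t v) = ∏ i ∈ Finset.range n, h (i + 1) := by
    rw [eigenProj, map_prod]
    apply Finset.prod_congr rfl
    intro i hi
    rw [map_pow, hh]
    show φ (φ^[i] v) ^ t ^ (n - i) = (φ^[i + 1] v) ^ t ^ (n + 1 - (i + 1))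
    rw [Function.iterate_succ_apply', Nat.add_sub_add_right]
  have h2 : eigenProj φ n t v ^ t = ∏ i ∈ Finset.range n, h i := by
    rw [eigenProj, ← Finset.prod_pow]
    apply Finset.prod_congr rfl
    intro i hi
    have hin : i < n := Finset.mem_range.mp hi
    rw [hh]
    show ((φ^[i] v) ^ t ^ (n - i)) ^ t = (φ^[i] v) ^ t ^ (n + 1 - i)
    rw [← pow_mul, ← pow_succ]
    congr 2
    omega
  have h3 : h n = h 0 := by
    rw [hh]
    show (φ^[n] v) ^ t ^ (n + 1 - n) = (φ^[0] v) ^ t ^ (n + 1 - 0)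
    rw [hφn, Function.iterate_zero, id]
    have e1 : n + 1 - n = 1 := by omega
    rw [e1, pow_one, Nat.sub_zero, pow_succ, pow_mul, pow_eq_self_of_modEq hN ht]
  have h4 := Finset.prod_range_succ h n
  have h5 := Finset.prod_range_succ' h n
  rw [h1, h2]
  rw [h4, h3] at h5
  exact (mul_right_cancel h5).symm

theorem eigen_pow (φ : V →* V) (n t M : ℕ) (v : V) : eigenProj φ n t v ^ M = eigenProj φ n t (v ^ M) := by
  have h1 : ∀ i : ℕ, φ^[i] (v ^ M) = (φ^[i] v) ^ M := by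
    intro i
    induction i with
    | zero => simp
    | succ i ih => rw [Function.iterate_succ_apply', ih, map_pow, Function.iterate_succ_apply']
  rw [eigenProj, eigenProj, ← Finset.prod_pow]
  apply Finset.prod_congr rfl
  intro i _
  rw [h1, ← pow_mul, ← pow_mul, mul_comm]

/-- On an eigenvector the eigen-projection is a power map. -/
theorem eigen_of_eigen (φ : V →* V) {n t N : ℕ} (hN : ∀ v : V, v ^ N = 1) (ht : t ^ n ≡ 1 [MOD N]) {x : V}
    (hx : φ x = x ^ t) : eigenProj φ n t x = x ^ n := by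
  have h1 : ∀ i : ℕ, φ^[i] x = x ^ t ^ i := by
    intro i
    induction i with
    | zero => simp
    | succ i ih =>
      rw [Function.iterate_succ_apply', ih, map_pow, hx, ← pow_mul, pow_succ, mul_comm]
  rw [eigenProj]
  have h2 : ∀ i ∈ Finset.range n, (φ^[i] x) ^ t ^ (n - i) = x := by
    intro i hi
    have hin : i < n := Finset.mem_range.mp hi
    rw [h1, ← pow_mul, ← pow_add]
    have e : i + (n - i) = n := by omega
    rw [e]
    exact pow_eq_self_of_modEq hN ht x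
  rw [Finset.prod_congr rfl h2, Finset.prod_const, Finset.card_range]

end Eigen

variable {G : Type u} [Group G] [Finite G]

/-- The conjugation hom on a normalized abelian group. -/
theorem natCast_pow_modEq_of_pow_eq {x : G} {p : ℕ} [hp : Fact p.Prime] (hx : x ^ p = 1) (hx1 : x ≠ 1) {a b : ℕ}
    (h : x ^ a = x ^ b) : a ≡ b [MOD p] := by
  have h1 := (pow_eq_pow_iff_modEq).mp h
  rwa [orderOf_eq_prime hx hx1] at h1

/-- **An invariant cyclic subgroup of maximal order through an invariant line.** -/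
theorem exists_invariant_cyclic {p a : ℕ} [hp : Fact p.Prime] {P : Subgroup G} (hPab : IsMulCommutative P)
    {f : G} (hf : f ∈ normalizer (P : Set G)) {n : ℕ} (hfn : f ^ n = 1) (hpn : ¬ p ∣ n)
    (hexp : ∀ v ∈ P, v ^ p ^ (a + 1) = 1) {z₀ : G} (hz₀ : z₀ ∈ P) (hx₀1 : z₀ ^ p ^ a ≠ 1)
    (hinv : f * z₀ ^ p ^ a * f⁻¹ ∈ zpowers (z₀ ^ p ^ a)) :
    ∃ z ∈ P, orderOf z = p ^ (a + 1) ∧ f * z * f⁻¹ ∈ zpowers z ∧ zpowers (z ^ p ^ a) = zpowers (z₀ ^ p ^ a) := by
  classical
  have hpp : p.Prime := hp.out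
  letI cg : CommGroup P :=
    { (inferInstance : Group P) with mul_comm := fun a b => hPab.is_comm.comm a b }
  -- the conjugation map
  let φ : P →* P := ((P.normalizerMonoidHom ⟨f, hf⟩ : MulAut P) : P →* P)
  have hφ : ∀ y : P, ((φ y : P) : G) = f * (y : G) * f⁻¹ := fun y => rfl
  have hφi : ∀ (i : ℕ) (y : P), ((φ^[i] y : P) : G) = f ^ i * (y : G) * (f ^ i)⁻¹ := by
    intro i y
    induction i with
    | zero => simp
    | succ i ih =>
      rw [Function.iterate_succ_apply', hφ, ih, pow_succ']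
      group
  have hφn : ∀ y : P, φ^[n] y = y := by
    intro y
    apply Subtype.ext
    rw [hφi, hfn]
    simp
  have hN : ∀ v : P, v ^ p ^ (a + 1) = 1 := fun v => Subtype.ext (hexp v v.2)
  set x₀ : G := z₀ ^ p ^ a with hx₀
  have hx₀p : x₀ ^ p = 1 := by
    rw [hx₀, ← pow_mul, ← pow_succ]
    exact hexp z₀ hz₀
  -- the eigenvalue
  obtain ⟨l, hl⟩ : ∃ l : ℕ, x₀ ^ l = f * x₀ * f⁻¹ := by
    have hfin : IsOfFinOrder x₀ := isOfFinOrder_of_finite x₀
    have := (hfin.mem_powers_iff_mem_zpowers).mpr hinv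
    exact Submonoid.mem_powers_iff _ _ |>.mp this
  have hfx : ∀ m : ℕ, f ^ m * x₀ * (f ^ m)⁻¹ = x₀ ^ l ^ m := by
    intro m
    induction m with
    | zero => simp
    | succ m ih =>
      have e : f ^ (m + 1) * x₀ * (f ^ (m + 1))⁻¹ = f ^ m * (f * x₀ * f⁻¹) * (f ^ m)⁻¹ := by
        rw [pow_succ]; group
      rw [e, ← hl, ← conj_pow, ih, ← pow_mul, pow_succ]
  have hln : l ^ n ≡ 1 [MOD p] := by
    have h1 := hfx n
    rw [hfn] at h1
    have h2 : x₀ ^ l ^ n = x₀ ^ 1 := by rw [← h1]; simp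
    exact natCast_pow_modEq_of_pow_eq hx₀p hx₀1 h2
  set t : ℕ := l ^ p ^ a with ht
  have htl : t ≡ l [MOD p] := by
    rw [← ZMod.natCast_eq_natCast_iff, ht]
    push_cast
    exact ZMod.pow_card_pow _
  have htn : t ^ n ≡ 1 [MOD p ^ (a + 1)] := by
    have h1 : (p : ℤ) ∣ (l ^ n : ℤ) - 1 := by
      have := (Nat.modEq_iff_dvd.mp hln.symm)
      push_cast at this
      exact this
    have h2 := dvd_sub_pow_of_dvd_sub (R := ℤ) h1 a
    have h3 : (t : ℤ) ^ n = ((l : ℤ) ^ n) ^ p ^ a := by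
      rw [ht]
      push_cast
      rw [← pow_mul, ← pow_mul, mul_comm]
    apply Nat.ModEq.symm
    rw [Nat.modEq_iff_dvd]
    push_cast
    rw [h3]
    simpa using h2
  let z₀' : P := ⟨z₀, hz₀⟩
  let z' : P := eigenProj φ n t z₀'
  have hzx : z' ^ p ^ a = (⟨x₀, pow_mem hz₀ _⟩ : P) ^ n := by
    show eigenProj φ n t z₀' ^ p ^ a = _
    rw [eigen_pow]
    have h1 : z₀' ^ p ^ a = (⟨x₀, pow_mem hz₀ _⟩ : P) := rfl
    rw [h1]
    apply eigen_of_eigen φ hN htn
    apply Subtype.ext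
    show f * x₀ * f⁻¹ = x₀ ^ t
    rw [← hl]
    exact ((pow_eq_pow_iff_modEq (x := x₀)).mpr (by
      rw [orderOf_eq_prime hx₀p hx₀1]; exact htl.symm))
  have hzx' : ((z' : P) : G) ^ p ^ a = x₀ ^ n := congrArg Subtype.val hzx
  have hxn1 : x₀ ^ n ≠ 1 := by
    intro h
    apply hpn
    have := orderOf_dvd_of_pow_eq_one h
    rwa [orderOf_eq_prime hx₀p hx₀1] at this
  refine ⟨z', z'.2, ?_, ?_, ?_⟩
  · apply orderOf_eq_prime_pow
    · rw [hzx']
      exact hxn1
    · exact hexp _ z'.2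
  · have h1 : φ z' = z' ^ t := eigen_apply φ hφn hN htn z₀'
    have h2 : f * (z' : G) * f⁻¹ = (z' : G) ^ t := congrArg Subtype.val h1
    rw [h2]
    exact pow_mem (mem_zpowers _) _
  · rw [hzx']
    exact Cfsg.Agent.Lib.BGTau7.zpowers_eq_of_mem hx₀p hxn1 (pow_mem (mem_zpowers _) _)

/-- A property of elements closed under commuting products and powers may be checked on the powers of
prime power order. -/
theorem prop_of_prime_power_parts {Φ : G → Prop} (hone : Φ 1)
    (hmul : ∀ u v : G, Commute u v → Φ u → Φ v → Φ (u * v)) (hzpow : ∀ (u : G) (k : ℤ), Φ u → Φ (u ^ k)) {x : G}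
    (h : ∀ (s k : ℕ) (y : G), s.Prime → y ∈ zpowers x → orderOf y = s ^ k → Φ y) : Φ x := by
  have key : ∀ n : ℕ, ∀ x : G, orderOf x = n →
      (∀ (s k : ℕ) (y : G), s.Prime → y ∈ zpowers x → orderOf y = s ^ k → Φ y) → Φ x := by
    intro n
    induction n using Nat.recOnPosPrimePosCoprime with
    | prime_pow s k hs hk =>
      intro x hx hp
      exact hp s k x hs (mem_zpowers x) hx
    | zero =>
      intro x hx _
      exact absurd hx (orderOf_pos x).ne'
    | one =>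
      intro x hx _
      rw [orderOf_eq_one_iff.mp hx]
      exact hone
    | coprime a b ha hb hab iha ihb =>
      intro x hx hp
      have hapos : 0 < a := by omega
      have hbpos : 0 < b := by omega
      have h1 : orderOf (x ^ a) = b := by
        rw [orderOf_pow' x hapos.ne', hx, Nat.gcd_eq_right (Dvd.intro _ rfl)]
        exact Nat.mul_div_cancel_left b hapos
      have h2 : orderOf (x ^ b) = a := by
        rw [orderOf_pow' x hbpos.ne', hx, Nat.gcd_eq_right (Dvd.intro_left _ rfl)]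
        exact Nat.mul_div_cancel a hbpos
      have hsub : ∀ m : ℕ, zpowers (x ^ m) ≤ zpowers x := fun m =>
        zpowers_le.mpr (pow_mem (mem_zpowers x) m)
      have h3 : Φ (x ^ a) := ihb _ h1 (fun s k y hs hy hyo => hp s k y hs (hsub a hy) hyo)
      have h4 : Φ (x ^ b) := iha _ h2 (fun s k y hs hy hyo => hp s k y hs (hsub b hy) hyo)
      have hbez : (a : ℤ) * Nat.gcdA a b + b * Nat.gcdB a b = 1 := by
        have := Nat.gcd_eq_gcd_ab a b
        rw [hab.gcd_eq_one] at this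
        push_cast at this
        linarith
      have e : x = (x ^ a) ^ (Nat.gcdA a b) * (x ^ b) ^ (Nat.gcdB a b) := by
        rw [← zpow_natCast x a, ← zpow_natCast x b, ← zpow_mul, ← zpow_mul, ← zpow_add, hbez, zpow_one]
      rw [e]
      apply hmul _ _ _ (hzpow _ _ h3) (hzpow _ _ h4)
      exact ((Commute.refl x).pow_pow a b).zpow_zpow _ _
  exact key _ x rfl h

/-- Invariant lines. -/
def HasLine (A : Subgroup G) (u : G) : Prop := ∃ x ∈ A, x ≠ 1 ∧ u * x * u⁻¹ ∈ zpowers x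

theorem mem_normalizer_zpowers {u x : G} (h : u * x * u⁻¹ ∈ zpowers x) :
    u ∈ normalizer ((zpowers x : Subgroup G) : Set G) := by
  apply mem_normalizer_of_forall
  intro y hy
  obtain ⟨n, rfl⟩ := mem_zpowers_iff.mp hy
  rw [← conj_zpow]
  exact zpow_mem h n

theorem exists_pow_of_mem_zpowers {x y : G} (h : y ∈ zpowers x) : ∃ l : ℕ, x ^ l = y := by
  have hfin : IsOfFinOrder x := isOfFinOrder_of_finite x
  exact (Submonoid.mem_powers_iff _ _).mp ((hfin.mem_powers_iff_mem_zpowers).mpr h)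

section Lines

variable {A : Subgroup G} {p : ℕ} [hp : Fact p.Prime]

/-- If `u, w` commute modulo the kernel of the action on `A`, and `x` spans a `u`-invariant line, then either
`w` normalizes the line or `u` is a scalar on `A`. -/
theorem scalar_or_normalizes (hA : IsElementaryAbelian p A) (hc : Nat.card A = p ^ 2) {u w x : G} (hx : x ∈ A)
    (hx1 : x ≠ 1) (hu : u ∈ normalizer (A : Set G)) (hw : w ∈ normalizer (A : Set G)) {l : ℕ}
    (hl : u * x * u⁻¹ = x ^ l) (hcomm : ∀ a ∈ A, (u * w) * a * (u * w)⁻¹ = (w * u) * a * (w * u)⁻¹) :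
    w * x * w⁻¹ ∈ zpowers x ∨ ∀ a ∈ A, u * a * u⁻¹ = a ^ l := by
  by_cases h : w * x * w⁻¹ ∈ zpowers x
  · exact Or.inl h
  right
  intro a ha
  have hx' : w * x * w⁻¹ ∈ A := (mem_normalizer_iff.mp hw x).mp hx
  obtain ⟨i, j, rfl⟩ := exists_pow_mul hA hc hx hx1 hx' h ha
  set x' := w * x * w⁻¹ with hx'def
  clear_value x'
  have hux' : u * x' * u⁻¹ = x' ^ l := by
    have e1 : u * x' * u⁻¹ = (u * w) * x * (u * w)⁻¹ := by rw [hx'def]; group
    rw [e1, hcomm x hx]
    have e2 : (w * u) * x * (w * u)⁻¹ = w * (u * x * u⁻¹) * w⁻¹ := by group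
    rw [e2, hl, ← conj_pow, ← hx'def]
  have hcm : Commute x x' := congrArg Subtype.val (hA.1.is_comm.comm (⟨x, hx⟩ : A) ⟨x', hx'⟩)
  have gen : ∀ a b : G, u * (a * b) * u⁻¹ = (u * a * u⁻¹) * (u * b * u⁻¹) := fun a b => by group
  have e3 : u * (x ^ i * x' ^ j) * u⁻¹ = (u * x * u⁻¹) ^ i * (u * x' * u⁻¹) ^ j := by
    rw [gen, conj_pow, conj_pow]
  rw [e3, hl, hux', ((hcm.pow_pow i j).mul_pow l), ← pow_mul, ← pow_mul, ← pow_mul, ← pow_mul, mul_comm l i,
    mul_comm l j]

theorem hasLine_zpow {u : G} (h : HasLine A u) (k : ℤ) : HasLine A (u ^ k) := by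
  obtain ⟨x, hx, hx1, hxu⟩ := h
  refine ⟨x, hx, hx1, ?_⟩
  have h1 := zpow_mem (mem_normalizer_zpowers hxu) k
  exact (mem_normalizer_iff.mp h1 x).mp (mem_zpowers x)

theorem hasLine_mul (hA : IsElementaryAbelian p A) (hc : Nat.card A = p ^ 2) {u v : G} (huv : Commute u v)
    (hu : u ∈ normalizer (A : Set G)) (hv : v ∈ normalizer (A : Set G)) (H1 : HasLine A u) (H2 : HasLine A v) :
    HasLine A (u * v) := by
  obtain ⟨x₁, hx₁, hx₁1, hxu⟩ := H1
  obtain ⟨l, hl⟩ := exists_pow_of_mem_zpowers hxu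
  rcases scalar_or_normalizes hA hc hx₁ hx₁1 hu hv hl.symm (fun a _ => by rw [huv.eq]) with h | h
  · refine ⟨x₁, hx₁, hx₁1, ?_⟩
    have e : u * v * x₁ * (u * v)⁻¹ = u * (v * x₁ * v⁻¹) * u⁻¹ := by group
    rw [e]
    exact (mem_normalizer_iff.mp (mem_normalizer_zpowers hxu) _).mp h
  · obtain ⟨x₂, hx₂, hx₂1, hxv⟩ := H2
    refine ⟨x₂, hx₂, hx₂1, ?_⟩
    have e' : u * v * x₂ * (u * v)⁻¹ = v * (u * x₂ * u⁻¹) * v⁻¹ := by
      rw [huv.eq]; group
    rw [e', h x₂ hx₂, ← conj_pow]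
    exact pow_mem hxv _

end Lines

/-- `x` acts freely on `M_σ`. -/
def Free (M : Subgroup G) (x : G) : Prop := sigmaCore M ⊓ centralizer ({x} : Set G) = ⊥

theorem Free.of_mem_zpowers {M : Subgroup G} {x y : G} (h : Free M y) (hy : y ∈ zpowers x) : Free M x := by
  rw [Free, eq_bot_iff] at h ⊢
  intro a ha'
  obtain ⟨ha, hac⟩ := Subgroup.mem_inf.mp ha'
  apply h
  refine Subgroup.mem_inf.mpr ⟨ha, ?_⟩
  rw [Subgroup.mem_centralizer_singleton_iff] at hac ⊢
  obtain ⟨n, rfl⟩ := mem_zpowers_iff.mp hy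
  exact ((show Commute a x from hac).zpow_right n).eq

theorem Free.conj {M : Subgroup G} {x m : G} (h : Free M x) (hm : m ∈ M) : Free M (m * x * m⁻¹) := by
  rw [Free, eq_bot_iff] at h ⊢
  intro a ha'
  obtain ⟨ha, hac⟩ := Subgroup.mem_inf.mp ha'
  have h1 : m⁻¹ * a * m ∈ sigmaCore M ⊓ centralizer ({x} : Set G) := by
    refine Subgroup.mem_inf.mpr ⟨?_, ?_⟩
    · have := (mem_normalizer_iff.mp (le_normalizer_sigmaCore (M.inv_mem hm)) a).mp ha
      simpa using this
    · rw [Subgroup.mem_centralizer_singleton_iff] at hac ⊢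
      have e1 : m⁻¹ * a * m * x = m⁻¹ * (a * (m * x * m⁻¹)) * m := by group
      have e2 : x * (m⁻¹ * a * m) = m⁻¹ * ((m * x * m⁻¹) * a) * m := by group
      rw [e1, e2, hac]
  have h2 := h h1
  have h3 : m⁻¹ * a * m = 1 := h2
  have e : a = m * (m⁻¹ * a * m) * m⁻¹ := by group
  rw [e, h3]
  simp

/-- All nonidentity elements act freely. -/
def Good (M H : Subgroup G) : Prop := ∀ e ∈ H, e ≠ 1 → Free M e

theorem good_of_prime {M H : Subgroup G} (h : ∀ w ∈ H, w ≠ 1 → (orderOf w).Prime → Free M w) : Good M H := by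
  intro e he he1
  have h1 : orderOf e ≠ 1 := fun h => he1 (orderOf_eq_one_iff.mp h)
  obtain ⟨s, hs, hsd⟩ := Nat.exists_prime_and_dvd h1
  obtain ⟨m, hm⟩ := hsd
  have hpos : 0 < orderOf e := orderOf_pos e
  have hmpos : m ≠ 0 := by
    rintro rfl
    rw [mul_zero] at hm
    exact hpos.ne' hm
  have h2 : orderOf (e ^ m) = s := by
    rw [orderOf_pow' e hmpos, hm, Nat.gcd_eq_right (Dvd.intro_left _ rfl)]
    exact Nat.mul_div_cancel s (Nat.pos_of_ne_zero hmpos)
  have h3 : e ^ m ≠ 1 := by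
    intro h4
    rw [h4, orderOf_one] at h2
    exact hs.one_lt.ne h2
  refine Free.of_mem_zpowers (h _ (pow_mem he m) h3 (by rw [h2]; exact hs)) (pow_mem (mem_zpowers e) m)

/-- **Lemma Ext**: good subgroups of coprime orders, one normalizing the other, generate a good subgroup. -/
theorem good_sup {M N C : Subgroup G} (hNM : N ≤ M) (hCM : C ≤ M) (hCN : C ≤ normalizer (N : Set G))
    (hco : (Nat.card N).Coprime (Nat.card C)) (hN : Good M N) (hC : Good M C) : Good M (N ⊔ C) := by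
  apply good_of_prime
  intro w hw hw1 hwo
  set s := orderOf w with hs
  haveI : Fact s.Prime := ⟨hwo⟩
  have hinf : C ⊓ N = ⊥ := by
    rw [eq_bot_iff]
    rintro y ⟨hyC, hyN⟩
    have h1 : orderOf y ∣ Nat.gcd (Nat.card N) (Nat.card C) :=
      Nat.dvd_gcd (by
        have := orderOf_dvd_natCard (⟨y, hyN⟩ : N)
        rwa [Subgroup.orderOf_mk] at this) (by
        have := orderOf_dvd_natCard (⟨y, hyC⟩ : C)
        rwa [Subgroup.orderOf_mk] at this)
    rw [hco.gcd_eq_one, Nat.dvd_one, orderOf_eq_one_iff] at h1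
    exact h1
  have hwp : w ^ s = 1 := pow_orderOf_eq_one w
  by_cases hsd : s ∣ Nat.card N
  · have hsC : ¬ s ∣ Nat.card C := by
      intro h
      have := Nat.dvd_gcd hsd h
      rw [hco.gcd_eq_one] at this
      exact hwo.one_lt.ne' (Nat.dvd_one.mp this)
    rw [sup_comm] at hw
    obtain ⟨c, hc, n, hn, rfl⟩ := mul_of_mem_sup hCN hw
    have hpow : ∀ k : ℕ, ∃ n' ∈ N, (c * n) ^ k = c ^ k * n' := by
      intro k
      induction k with
      | zero => exact ⟨1, one_mem _, by simp⟩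
      | succ k ih =>
        obtain ⟨n', hn', h⟩ := ih
        refine ⟨(c⁻¹ * n' * c) * n, mul_mem ?_ hn, ?_⟩
        · have := (mem_normalizer_iff.mp (hCN (inv_mem hc)) n').mp hn'
          simpa using this
        · rw [pow_succ, h, pow_succ]; group
    obtain ⟨n', hn', h⟩ := hpow s
    rw [hwp] at h
    have hcs : c ^ s ∈ C ⊓ N := by
      refine Subgroup.mem_inf.mpr ⟨pow_mem hc s, ?_⟩
      have : c ^ s = n'⁻¹ := eq_inv_of_mul_eq_one_left h.symm
      rw [this]
      exact inv_mem hn'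
    rw [hinf] at hcs
    have hc1 : c = 1 := by
      have h1 : orderOf c ∣ s := orderOf_dvd_of_pow_eq_one hcs
      have h2 : orderOf c ∣ Nat.card C := by
        have := orderOf_dvd_natCard (⟨c, hc⟩ : C)
        rwa [Subgroup.orderOf_mk] at this
      rcases (Nat.dvd_prime hwo).mp h1 with h3 | h3
      · exact orderOf_eq_one_iff.mp h3
      · rw [h3] at h2
        exact absurd h2 hsC
    rw [hc1, one_mul] at hw1 ⊢
    exact hN n hn hw1
  · -- conjugate into `C`
    have hzp : IsPGroup s (zpowers w) := by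
      rintro ⟨y, hy⟩
      obtain ⟨n, rfl⟩ := mem_zpowers_iff.mp hy
      refine ⟨1, Subtype.ext ?_⟩
      show (w ^ n) ^ s ^ 1 = 1
      rw [pow_one, ← zpow_natCast, ← zpow_mul, mul_comm, zpow_mul, zpow_natCast, hwp, one_zpow]
    obtain ⟨S, hS, hwS⟩ := exists_isSylowIn_ge s (zpowers_le.mpr hw) hzp
    obtain ⟨Q, hQ⟩ := exists_isSylowIn s C
    have hcard : Nat.card ↥(N ⊔ C) = Nat.card C * Nat.card N := by
      have hn : C ≤ normalizer (N : Set G) := hCN
      have h2 := card_sup_mul_card_inf hn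
      rw [hinf, Subgroup.card_bot, mul_one] at h2
      rw [← h2, sup_comm]
    have hrel : C.relIndex (N ⊔ C) = Nat.card N := by
      have h3 : Nat.card (C.subgroupOf (N ⊔ C)) * (C.subgroupOf (N ⊔ C)).index = Nat.card ↥(N ⊔ C) :=
        Subgroup.card_mul_index _
      rw [card_subgroupOf_of_le le_sup_right, hcard] at h3
      exact Nat.eq_of_mul_eq_mul_left Nat.card_pos h3
    have hQ' : IsSylowIn s Q (N ⊔ C) := isSylowIn_of_hall hQ le_sup_right (by rw [hrel]; exact hsd)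
    obtain ⟨g, hg, rfl⟩ := hQ'.exists_conj hS
    have hwQ : w ∈ cj Q g := hwS (mem_zpowers w)
    have h1 : g⁻¹ * w * g ∈ Q := by
      rw [mem_cj] at hwQ
      exact hwQ
    have h2 : g⁻¹ * w * g ≠ 1 := by
      intro h
      apply hw1
      have e : w = g * (g⁻¹ * w * g) * g⁻¹ := by group
      rw [e, h]; group
    have h3 := hC _ (hQ.1 h1) h2
    have hgM : g ∈ M := (sup_le hNM hCM) hg
    have h4 := h3.conj hgM
    have e : g * (g⁻¹ * w * g) * g⁻¹ = w := by group
    rwa [e] at h4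

end Cfsg.Agent.Lib.BGE0
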