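import Mathlib

/-!
Fixed points of Frobenius-type actions on abelian groups, by a double product.

`pow_card_eq_one_of_frobenius_action`: if `Y` normalizes `P`, acts fixed point freely on `P`, and both `P` and `Y`
have no nontrivial fixed points on the abelian group `V`, then `v ^ |P| = 1` for all `v`.

`pow_card_eq_one_of_commuting_pair`: for commuting `a, b` of prime order `t` no `a y` (`y ∈ ⟨b⟩`) and not `b` having
fixed points on `V` gives `v ^ |⟨b⟩| = 1`.
-/

set_option autoImplicit false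

namespace Cfsg.Agent.Lib.FrobAction

/-- The comm group structure on a group with commuting elements. -/
abbrev commGroupOfComm (V : Type*) [Group V] (h : ∀ a b : V, a * b = b * a) : CommGroup V :=
  { (inferInstance : Group V) with mul_comm := h }

section main

variable {G V : Type*} [Group G] [Finite G] [Group V]

/-- If `P` and `Y` have no nontrivial fixed points on the abelian group `V`, and
`Y` normalizes `P` acting on it fixed point freely, then `v ^ |P| = 1` for `v ∈ V`. -/
theorem pow_card_eq_one_of_frobenius_action (hcomm : ∀ a b : V, a * b = b * a)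
    (ρ : G →* MulAut V) (P Y : Subgroup G)
    (hYP : ∀ c ∈ Y, ∀ x ∈ P, c * x * c⁻¹ ∈ P)
    (hfpf : ∀ c ∈ Y, c ≠ 1 → ∀ x ∈ P, x * c = c * x → x = 1)
    (hP : ∀ v : V, (∀ x ∈ P, ρ x v = v) → v = 1)
    (hY : ∀ v : V, (∀ c ∈ Y, ρ c v = v) → v = 1) (v : V) :
    v ^ Nat.card P = 1 := by
  classical
  cases nonempty_fintype P
  cases nonempty_fintype Y
  let _ : CommGroup V := commGroupOfComm V hcomm
  -- norms are fixed
  have hNP : ∀ w : V, ∏ x : P, ρ (x : G) w = 1 := by
    intro w
    apply hP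
    intro y hy
    rw [map_prod]
    apply Fintype.prod_equiv (Equiv.mulLeft (⟨y, hy⟩ : P))
    intro x
    simp
  have hNY : ∀ w : V, ∏ c : Y, ρ (c : G) w = 1 := by
    intro w
    apply hY
    intro y hy
    rw [map_prod]
    apply Fintype.prod_equiv (Equiv.mulLeft (⟨y, hy⟩ : Y))
    intro x
    simp
  -- the double product
  have hS1 : ∏ x : P, ∏ c : Y, ρ ((x : G) * (c : G) * (x : G)⁻¹) v = 1 := by
    apply Finset.prod_eq_one
    intro x _
    have : ∏ c : Y, ρ ((x : G) * (c : G) * (x : G)⁻¹) v =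
        ρ (x : G) (∏ c : Y, ρ (c : G) (ρ (x : G)⁻¹ v)) := by
      rw [map_prod]
      apply Finset.prod_congr rfl
      intro c _
      rw [map_mul, map_mul, map_inv]
      rfl
    rw [this, hNY, map_one]
  have hS2 : ∏ c : Y, ∏ x : P, ρ ((x : G) * (c : G) * (x : G)⁻¹) v = v ^ Nat.card P := by
    rw [Finset.prod_eq_single (1 : Y)]
    · have h0 : ∀ x : P, ρ ((x : G) * (((1 : Y) : G)) * (x : G)⁻¹) v = v := by
        intro x
        have : (x : G) * (((1 : Y) : G)) * (x : G)⁻¹ = 1 := by simp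
        rw [this, map_one]
        rfl
      rw [Finset.prod_congr rfl (fun x _ => h0 x), Finset.prod_const, Finset.card_univ,
        Nat.card_eq_fintype_card]
    · intro c _ hc
      have hc' : (c : G) ≠ 1 := fun h => hc (Subtype.ext h)
      -- x ↦ x * (c x⁻¹ c⁻¹) is a bijection of P
      let φ : P → P := fun x => x * ⟨(c : G) * (x : G)⁻¹ * (c : G)⁻¹, hYP c c.2 _ (P.inv_mem x.2)⟩
      have hφinj : Function.Injective φ := by
        intro x x' h
        have h1 : (x : G) * ((c : G) * (x : G)⁻¹ * (c : G)⁻¹) =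
            (x' : G) * ((c : G) * (x' : G)⁻¹ * (c : G)⁻¹) := congrArg Subtype.val h
        have hu : (x' : G)⁻¹ * (x : G) ∈ P := P.mul_mem (P.inv_mem x'.2) x.2
        have h2 : ((x' : G)⁻¹ * (x : G)) * (c : G) = (c : G) * ((x' : G)⁻¹ * (x : G)) := by
          have h3 : (x' : G)⁻¹ * (x : G) = (c : G) * (x' : G)⁻¹ * (c : G)⁻¹ * ((c : G) * (x : G)⁻¹ * (c : G)⁻¹)⁻¹ := by
            calc (x' : G)⁻¹ * (x : G) = (x' : G)⁻¹ * ((x : G) * ((c : G) * (x : G)⁻¹ * (c : G)⁻¹)) * ((c : G) * (x : G)⁻¹ * (c : G)⁻¹)⁻¹ := by group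
              _ = (x' : G)⁻¹ * ((x' : G) * ((c : G) * (x' : G)⁻¹ * (c : G)⁻¹)) * ((c : G) * (x : G)⁻¹ * (c : G)⁻¹)⁻¹ := by rw [h1]
              _ = _ := by group
          calc ((x' : G)⁻¹ * (x : G)) * (c : G) = ((c : G) * (x' : G)⁻¹ * (c : G)⁻¹ * ((c : G) * (x : G)⁻¹ * (c : G)⁻¹)⁻¹) * (c : G) := by rw [← h3]
            _ = (c : G) * ((x' : G)⁻¹ * (x : G)) := by group
        have h4 := hfpf c c.2 hc' _ hu h2
        have h5 : (x : G) = (x' : G) := by
          have := congrArg (fun z => (x' : G) * z) h4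
          simpa using this
        exact Subtype.ext h5
      have hφbij : Function.Bijective φ := Finite.injective_iff_bijective.mp hφinj
      have : ∏ x : P, ρ ((x : G) * (c : G) * (x : G)⁻¹) v = ∏ x : P, ρ ((φ x : P) : G) (ρ (c : G) v) := by
        apply Finset.prod_congr rfl
        intro x _
        have : (x : G) * (c : G) * (x : G)⁻¹ = ((φ x : P) : G) * (c : G) := by
          show (x : G) * (c : G) * (x : G)⁻¹ = ((x : G) * ((c : G) * (x : G)⁻¹ * (c : G)⁻¹)) * (c : G)
          group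
        rw [this, map_mul]
        rfl
      rw [this, hφbij.prod_comp (fun x : P => ρ (x : G) (ρ (c : G) v)), hNP]
    · simp
  rw [← hS2, Finset.prod_comm, hS1]

/-- If `a, b` commute, `a ^ t = 1`, `t` prime, `b ^ t = 1`, and neither `⟨b⟩` nor any `a y`
(`y ∈ ⟨b⟩`) has nontrivial fixed points on the abelian group `V`, then `v ^ |⟨b⟩| = 1`. -/
theorem pow_card_eq_one_of_commuting_pair (hcomm : ∀ a b : V, a * b = b * a)
    (ρ : G →* MulAut V) (a b : G) (hab : Commute a b) (t : ℕ) (ht : t.Prime)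
    (ha : a ^ t = 1) (hb : b ^ t = 1)
    (hfb : ∀ w : V, ρ b w = w → w = 1)
    (hfc : ∀ y ∈ Subgroup.zpowers b, ∀ w : V, ρ (a * y) w = w → w = 1) (v : V) :
    v ^ Nat.card (Subgroup.zpowers b) = 1 := by
  classical
  let _ : CommGroup V := commGroupOfComm V hcomm
  cases nonempty_fintype (Subgroup.zpowers b)
  set B := Subgroup.zpowers b with hB
  have hcommB : ∀ y ∈ B, Commute a y := by
    rintro _ ⟨k, rfl⟩
    exact hab.zpow_right k
  have hcardB : Nat.card B ∣ t := by
    rw [hB, Nat.card_zpowers]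
    exact orderOf_dvd_of_pow_eq_one hb
  have hNB : ∀ w : V, ∏ x : B, ρ (x : G) w = 1 := by
    intro w
    apply hfb
    rw [map_prod]
    apply Fintype.prod_equiv (Equiv.mulLeft (⟨b, Subgroup.mem_zpowers b⟩ : B))
    intro x
    simp
  have hNc : ∀ y : B, ∏ i ∈ Finset.range t, ρ ((a * (y : G)) ^ i) v = 1 := by
    intro y
    apply hfc y y.2
    rw [map_prod]
    have hcpow : (a * (y : G)) ^ t = 1 := by
      rw [(hcommB y y.2).mul_pow, ha, one_mul]
      have := pow_card_eq_one' (x := y)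
      have h2 : y ^ t = 1 := by
        rw [← orderOf_dvd_iff_pow_eq_one]
        exact (orderOf_dvd_natCard y).trans hcardB
      exact congrArg Subtype.val h2
    -- shift the index
    obtain ⟨s, hs⟩ : ∃ s, t = s + 1 := ⟨t - 1, by have := ht.pos; omega⟩
    have hterm : ∀ i : ℕ, ρ (a * (y : G)) (ρ ((a * (y : G)) ^ i) v) = ρ ((a * (y : G)) ^ (i + 1)) v := by
      intro i
      have h0 : ρ ((a * (y : G)) ^ (i + 1)) = ρ (a * (y : G)) * ρ ((a * (y : G)) ^ i) := by
        rw [pow_succ', map_mul]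
      rw [h0]
      rfl
    simp only [hterm]
    have h3 : ρ ((a * (y : G)) ^ (s + 1)) v = ρ ((a * (y : G)) ^ 0) v := by
      rw [← hs, hcpow, pow_zero]
    rw [hs, Finset.prod_range_succ (fun i => ρ ((a * (y : G)) ^ (i + 1)) v),
      Finset.prod_range_succ' (fun i => ρ ((a * (y : G)) ^ i) v), h3]
  have hS1 : ∏ y : B, ∏ i ∈ Finset.range t, ρ ((a * (y : G)) ^ i) v = 1 :=
    Finset.prod_eq_one (fun y _ => hNc y)
  have hS2 : ∏ i ∈ Finset.range t, ∏ y : B, ρ ((a * (y : G)) ^ i) v = v ^ Nat.card B := by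
    rw [Finset.prod_eq_single 0]
    · simp [Nat.card_eq_fintype_card]
    · intro i hi hi0
      have hit : i < t := Finset.mem_range.mp hi
      have hcop : Nat.Coprime (Nat.card B) i := by
        have h1 : Nat.Coprime t i := by
          rw [Nat.Prime.coprime_iff_not_dvd ht]
          exact Nat.not_dvd_of_pos_of_lt (Nat.pos_of_ne_zero hi0) hit
        exact Nat.Coprime.coprime_dvd_left hcardB h1
      have : ∏ y : B, ρ ((a * (y : G)) ^ i) v = ∏ y : B, ρ (((powCoprime hcop y : B)) : G) (ρ (a ^ i) v) := by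
        apply Finset.prod_congr rfl
        intro y _
        have h1 : (a * (y : G)) ^ i = (y : G) ^ i * a ^ i := by
          rw [(hcommB y y.2).mul_pow, ((hcommB y y.2).pow_pow i i).eq]
        rw [h1, map_mul]
        rfl
      rw [this, (powCoprime hcop).bijective.prod_comp (fun x : B => ρ (x : G) (ρ (a ^ i) v)), hNB]
    · intro h
      exact absurd (Finset.mem_range.mpr ht.pos) h
  rw [← hS2, Finset.prod_comm, hS1]

end main

end Cfsg.Agent.Lib.FrobAction
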