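import Mathlib
import Cfsg.Agent.Lib.BGE0B
import Cfsg.Agent.Lib.FrobAction
import Cfsg.Agent.S1408
import Cfsg.Agent.S1409
import Cfsg.Agent.S1414
import Cfsg.Agent.S1446

/-!
# Bender-Glauberman: complements of `M_σ` acting almost regularly: elements of `τ₁`-type have an invariant
line on `A`, when the Sylow `p`-subgroups are abelian.
-/

set_option autoImplicit false
set_option linter.unusedSectionVars false
set_option linter.unusedVariables false
set_option linter.style.haveILetI false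
set_option linter.unusedSimpArgs false

namespace Cfsg.Agent.Lib.BGE0

open Cfsg Subgroup Cfsg.Agent.Lib.CoprimeInv Cfsg.Agent.Lib.BGTrans Cfsg.Agent.Lib.BGTrans2 Cfsg.Agent.Lib.BGUniq
  Cfsg.Agent.Lib.BGUniq2 Cfsg.Agent.Lib.BGTau1 Cfsg.Agent.Lib.BGTau2
  Cfsg.Agent.Lib.BGTau3 Cfsg.Agent.Lib.BGTau4 Cfsg.Agent.Lib.BGTau5 Cfsg.Agent.Lib.BGTau6
  Cfsg.Agent.Lib.BGUT1 Cfsg.Agent.Lib.BGM1
  Cfsg.Agent.Lib.BGUniq3 Cfsg.Agent.Lib.BGSigma3 Cfsg.Agent.Lib.BGSigma4 Cfsg.Agent.Lib.BGSigma2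
  Cfsg.Agent.Lib.Glauberman Cfsg.Agent.Lib.BGFit2 Cfsg.Agent.Lib.BGTau7 Cfsg.Agent.Lib.BGM2
open scoped commutatorElement

universe u

variable {G : Type u} [Group G] [Finite G]

/-- In a group with a normal `p`-complement, a `p`-element which is a commutator of a `p'`-element with
something is trivial. -/
theorem commutator_eq_one_of_npc {X : Type*} [Group X] [Finite X] {p : ℕ} [hp : Fact p.Prime]
    (hc : HasNormalPComplement p X) {u a : X} (hu : (orderOf u).Coprime p)
    (hw : (u * a * u⁻¹ * a⁻¹) ^ p = 1) : u * a * u⁻¹ * a⁻¹ = 1 := by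
  obtain ⟨P₀, N, hNn, hNc⟩ := hc
  have hcard : ¬ p ∣ Nat.card N := by
    rw [← hNc.index_eq_card]
    exact P₀.not_dvd_index
  -- `u` lies in `N`
  obtain ⟨⟨n, q⟩, hnq, -⟩ := hNc.existsUnique u
  have hnq' : (n : X) * (q : X) = u := hnq
  have hpow : ∀ k : ℕ, ∃ n' ∈ N, ((n : X) * (q : X)) ^ k = n' * (q : X) ^ k := by
    intro k
    induction k with
    | zero => exact ⟨1, one_mem _, by simp⟩
    | succ k ih =>
      obtain ⟨n', hn', h⟩ := ih
      refine ⟨n' * ((q : X) ^ k * (n : X) * ((q : X) ^ k)⁻¹), mul_mem hn' (hNn.conj_mem _ n.2 _), ?_⟩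
      rw [pow_succ, h, pow_succ]
      group
  obtain ⟨n', hn', hk⟩ := hpow (orderOf u)
  rw [hnq', pow_orderOf_eq_one] at hk
  have hq1 : (q : X) ^ orderOf u ∈ N := by
    have : (q : X) ^ orderOf u = n'⁻¹ := by
      exact eq_inv_of_mul_eq_one_right hk.symm
    rw [this]
    exact inv_mem hn'
  have hq2 : (q : X) ^ orderOf u ∈ (P₀ : Subgroup X) := pow_mem q.2 _
  have hq3 : (q : X) ^ orderOf u = 1 := by
    have := hNc.disjoint
    rw [Subgroup.disjoint_def] at this
    exact this hq1 hq2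
  have hq : (q : X) = 1 := by
    obtain ⟨j, hj⟩ := P₀.isPGroup' q
    have h1 : (q : X) ^ p ^ j = 1 := congrArg Subtype.val hj
    have h2 : orderOf (q : X) ∣ Nat.gcd (orderOf u) (p ^ j) :=
      Nat.dvd_gcd (orderOf_dvd_of_pow_eq_one hq3) (orderOf_dvd_of_pow_eq_one h1)
    rw [(Nat.Coprime.pow_right j hu).gcd_eq_one, Nat.dvd_one, orderOf_eq_one_iff] at h2
    exact h2
  have hun : u ∈ N := by
    rw [← hnq', hq, mul_one]
    exact n.2
  have hw1 : u * a * u⁻¹ * a⁻¹ ∈ N := by
    have e : u * a * u⁻¹ * a⁻¹ = u * (a * u⁻¹ * a⁻¹) := by group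
    rw [e]
    exact mul_mem hun (hNn.conj_mem _ (inv_mem hun) a)
  have h1 : orderOf (⟨_, hw1⟩ : N) ∣ Nat.card N := orderOf_dvd_natCard _
  rw [Subgroup.orderOf_mk] at h1
  have h2 := orderOf_dvd_of_pow_eq_one hw
  rcases (Nat.dvd_prime hp.out).mp h2 with h3 | h3
  · exact orderOf_eq_one_iff.mp h3
  · rw [h3] at h1
    exact absurd h1 hcard

theorem not_rank1_of_ea {L A : Subgroup G} {p : ℕ} [hp : Fact p.Prime] (hAL : A ≤ L)
    (hA : IsElementaryAbelian p A) (hc : Nat.card A = p ^ 2) : ¬ PRankLE p 1 L := by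
  intro h
  have h1 := (Cfsg.Agent.Lib.BGSigma.prankLE_iff (S := L)).mp h A hAL hA.1 hA.2
  rw [hc] at h1
  have h2 := (Nat.pow_le_pow_iff_right hp.out.one_lt).mp h1
  omega

theorem isPGroup_zpowers_of_pow' {p k : ℕ} [hp : Fact p.Prime] {x : G} (h : x ^ p ^ k = 1) :
    IsPGroup p (zpowers x) := by
  rintro ⟨y, hy⟩
  obtain ⟨n, rfl⟩ := mem_zpowers_iff.mp hy
  refine ⟨k, Subtype.ext ?_⟩
  show (x ^ n) ^ p ^ k = 1
  rw [← zpow_natCast, ← zpow_mul, mul_comm, zpow_mul, zpow_natCast, h, one_zpow]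

section Compl

variable {M E : Subgroup G} (hG : IsMinSimpleOddOrder G) (hM : IsCoatom M)
  (hE : IsComplIn E (sigmaCore M) M)
include hG hM hE

/-- If `c` commutes with an element `u` without invariant lines and fixes a non-identity element of `A`, then
it centralizes `A`. -/
theorem mem_cent_of_fixed {A : Subgroup G} {p : ℕ} [hp : Fact p.Prime] (T : T2 M A p) (hAE : A ≤ E) {u c x : G}
    (hu : u ∈ E) (hno : ¬ HasLine A u) (hcu : Commute c u) (hx : x ∈ A) (hx1 : x ≠ 1) (hcx : c * x * c⁻¹ = x) :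
    c ∈ centralizer (A : Set G) := by
  have hAn := T.compl_norm hE hAE
  have hx' : u * x * u⁻¹ ∈ A := (mem_normalizer_iff.mp (hAn hu) x).mp hx
  have hx'x : u * x * u⁻¹ ∉ zpowers x := fun h => hno ⟨x, hx, hx1, h⟩
  have hcx' : c * (u * x * u⁻¹) * c⁻¹ = u * x * u⁻¹ := by
    have e : c * (u * x * u⁻¹) * c⁻¹ = (c * u) * x * (c * u)⁻¹ := by group
    rw [e, hcu.eq]
    have e2 : u * c * x * (u * c)⁻¹ = u * (c * x * c⁻¹) * u⁻¹ := by group
    rw [e2, hcx]
  rw [Subgroup.mem_centralizer_iff]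
  intro a ha
  obtain ⟨i, j, rfl⟩ := exists_pow_mul T.ea T.card hx hx1 hx' hx'x ha
  set x' := u * x * u⁻¹
  have h1 : c * x = x * c := by
    calc c * x = c * x * c⁻¹ * c := by group
      _ = x * c := by rw [hcx]
  have h2 : c * x' = x' * c := by
    calc c * x' = c * x' * c⁻¹ * c := by group
      _ = x' * c := by rw [hcx']
  have h3 : Commute c (x ^ i * x' ^ j) := ((show Commute c x from h1).pow_right i).mul_right
    ((show Commute c x' from h2).pow_right j)
  exact h3.eq.symm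

/-- The case `g = 1`: an element of prime order, acting fixed point freely on `A`, has fixed points on `M_σ`. -/
theorem not_free_of_frobenius {A : Subgroup G} {p : ℕ} [hp : Fact p.Prime] (T : T2 M A p) (hAE : A ≤ E) {r : G}
    (hr : r ∈ E) (hr1 : r ≠ 1) {l : ℕ} (hl : l.Prime) (hrl : r ^ l = 1)
    (hfrob : ∀ c ∈ zpowers r, c ≠ 1 → A ⊓ centralizer ({c} : Set G) = ⊥) : ¬ Free M r := by
  intro hfree
  have hAn := T.compl_norm hE hAE
  have hord : orderOf r = l := by
    haveI : Fact l.Prime := ⟨hl⟩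
    exact orderOf_eq_prime hrl hr1
  have hRE : zpowers r ≤ E := zpowers_le.mpr hr
  have hsupE : A ⊔ zpowers r ≤ E := sup_le hAE hRE
  have hsupM : A ⊔ zpowers r ≤ M := hsupE.trans hE.1
  have hR1 : zpowers r ≠ ⊥ := by
    rw [Ne, zpowers_eq_bot]
    exact hr1
  have hKR : A ⊓ zpowers r = ⊥ := by
    rw [eq_bot_iff]
    intro c hc
    obtain ⟨hcA, hcR⟩ := Subgroup.mem_inf.mp hc
    by_contra hc1
    have h1 := hfrob c hcR hc1
    have h2 : c ∈ A ⊓ centralizer ({c} : Set G) :=
      Subgroup.mem_inf.mpr ⟨hcA, Subgroup.mem_centralizer_singleton_iff.mpr rfl⟩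
    rw [h1] at h2
    exact hc1 h2
  have hMne := sigmaCore_ne_bot T.hG T.hM T.M_ne_bot
  have hgen : ∀ c ∈ zpowers r, c ≠ 1 → centralizer ({c} : Set G) = centralizer ((zpowers r : Subgroup G) : Set G) := by
    intro c hc hc1
    rw [centralizer_zpowers']
    apply cent_eq_of_zpowers_eq
    haveI : Fact l.Prime := ⟨hl⟩
    exact Cfsg.Agent.Lib.BGTau7.zpowers_eq_of_mem hrl hc1 hc
  have hcop : (Nat.card ↥(A ⊔ zpowers r)).Coprime (Nat.card (sigmaCore M)) := by
    apply Nat.coprime_of_dvd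
    intro s hs hs1 hs2
    exact not_sigma_of_compl hG hM hE hs (hs1.trans (Subgroup.card_dvd_of_le hsupE)) (primes_sigmaCore s hs hs2)
  have hmain := (Cfsg.Agent.S1446.result A (zpowers r) (sigmaCore M) T.A_ne_bot hR1 hKR
    (zpowers_le.mpr (hAn hr)) hfrob
    (IsMin.solvable hG (fun h => hM.1 (top_le_iff.mp (h ▸ hsupM)))) (odd_card_of_le hG _) hMne T.nilpotent
    (T.hAM.trans le_normalizer_sigmaCore) (hRE.trans (hE.1.trans le_normalizer_sigmaCore)) hcop T.d
    (fun c hc hc1 => by rw [hgen c hc hc1])).2.1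
  have hfree' : sigmaCore M ⊓ centralizer ((zpowers r : Subgroup G) : Set G) = ⊥ := by
    rw [centralizer_zpowers']
    exact hfree
  rw [hfree', Subgroup.card_bot, one_pow] at hmain
  exact hMne (Subgroup.eq_bot_of_card_eq _ hmain)

/-- The case `g ≠ 1`: an element `u` of `τ₁` type without invariant line on `A` cannot have a power of prime
order centralizing `A`. -/
theorem false_of_central_line {A : Subgroup G} {p : ℕ} [hp : Fact p.Prime] (T : T2 M A p) (hAE : A ≤ E)
    (hab : ∀ S : Sylow p G, IsMulCommutative (S : Subgroup G)) {u r y : G} (hu : u ∈ E) (hno : ¬ HasLine A u)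
    {l k : ℕ} [hlf : Fact l.Prime] (hl : l ∈ tau1 M) (huo : u ^ l ^ k = 1) (hr : r ∈ zpowers u)
    (hrA : r ∉ centralizer (A : Set G)) (hrl : r ^ l ∈ centralizer (A : Set G)) (hy : y ∈ zpowers u) (hy1 : y ≠ 1)
    (hyl : y ^ l = 1) (hyA : y ∈ centralizer (A : Set G)) : False := by
  classical
  have hlp : l ≠ p := by
    rintro rfl
    exact T.not_rank1 hl.2.2.2.2
  have hAn := T.compl_norm hE hAE
  have hcl : (l : ℕ).Coprime p := (Nat.coprime_primes hlf.out hp.out).mpr hlp
  have hUp : IsPGroup l (zpowers u) := isPGroup_zpowers_of_pow' huo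
  set Y : Subgroup G := zpowers y with hY
  have hYc : Nat.card Y = l := by
    rw [hY, Nat.card_zpowers]
    exact orderOf_eq_prime hyl hy1
  have hYne : Y ≠ ⊥ := by
    rw [hY, Ne, zpowers_eq_bot]
    exact hy1
  have hYp : IsPGroup l Y := IsPGroup.of_card (n := 1) (by rw [hYc, pow_one])
  have hNt : normalizer (Y : Set G) ≠ ⊤ := IsMin.normalizer_ne_top hG hYne (IsMin.isPGroup_ne_top hG hYp)
  obtain ⟨L, hL, hNL⟩ := BGFit2.exists_coatom_ge hNt
  have hCyL : centralizer ({y} : Set G) ≤ L := by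
    rw [← centralizer_zpowers']
    exact (centralizer_le_normalizer Y).trans hNL
  have hAL : A ≤ L := by
    intro a ha
    apply hCyL
    rw [Subgroup.mem_centralizer_singleton_iff]
    exact (Subgroup.mem_centralizer_iff.mp hyA) a ha
  have huL : u ∈ L := by
    apply hCyL
    rw [Subgroup.mem_centralizer_singleton_iff]
    obtain ⟨n, rfl⟩ := mem_zpowers_iff.mp hy
    exact ((Commute.refl u).zpow_right n).eq
  have hYL : Y ≤ L := zpowers_le.mpr (hCyL (Subgroup.mem_centralizer_singleton_iff.mpr rfl))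
  have hxne : ∃ x ∈ A, x ≠ 1 := exists_mem_ne_one T.A_ne_bot
  have hcuC : u ∉ centralizer (A : Set G) := by
    intro h
    obtain ⟨x, hx, hx1⟩ := hxne
    apply hno
    refine ⟨x, hx, hx1, ?_⟩
    have : u * x * u⁻¹ = x := by
      rw [← (Subgroup.mem_centralizer_iff.mp h) x hx]; group
    rw [this]
    exact mem_zpowers x
  have hdL : p ∣ Nat.card L := by
    have h1 : p ∣ Nat.card A := by
      rw [T.card]
      exact dvd_pow_self p (by norm_num)
    exact h1.trans (Subgroup.card_dvd_of_le hAL)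
  -- `l` is not in `σ(L)`
  have hσl : l ∉ sigma L := by
    intro hlσ
    have hyσ : y ∈ sigmaCore L := le_sigmaCore_of_pgroup hG hL hlσ hYL hYp (mem_zpowers y)
    by_cases hpσ : p ∈ sigma L
    · have hAσ : A ≤ sigmaCore L := le_sigmaCore_of_pgroup hG hL hpσ hAL T.isP
      have huσ : u ∈ sigmaCore L := le_sigmaCore_of_pgroup hG hL hlσ (zpowers_le.mpr huL) hUp (mem_zpowers u)
      have hideal := (Cfsg.Agent.S1408.result hG M hM p T.notσ T.rank2 T.not_rank1).1
      have hβ : p ∉ beta L := fun h => hideal h.2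
      have hnpc := ((Cfsg.Agent.S1414.result hG L hL).2.2.2.2 p hp.out hdL hβ).2.1
      apply hcuC
      rw [Subgroup.mem_centralizer_iff]
      intro a ha
      have hord : (orderOf (⟨u, huσ⟩ : sigmaCore L)).Coprime p := by
        rw [Subgroup.orderOf_mk]
        exact Nat.Coprime.coprime_dvd_left (orderOf_dvd_of_pow_eq_one huo) (Nat.Coprime.pow_left k hcl)
      have hmemA : u * a * u⁻¹ * a⁻¹ ∈ A := mul_mem ((mem_normalizer_iff.mp (hAn hu) a).mp ha) (inv_mem ha)
      have h1 := commutator_eq_one_of_npc hnpc (u := ⟨u, huσ⟩) (a := ⟨a, hAσ ha⟩) hord (by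
        apply Subtype.ext
        exact T.ea.2 _ hmemA)
      have h2 : u * a * u⁻¹ * a⁻¹ = 1 := congrArg Subtype.val h1
      have h3 : u * a = a * u := by
        have : u * a = (u * a * u⁻¹ * a⁻¹) * (a * u) := by group
        rw [this, h2, one_mul]
      exact h3.symm
    · have hτ : p ∈ tau2 L := ⟨hp.out, hpσ, rank2_of_not_sigma hG hL hp.out hpσ, not_rank1_of_ea hAL T.ea T.card⟩
      have TL : T2 L A p := T2.mk' hG hL hτ hAL T.ea T.card
      have h1 : y ∈ sigmaCore L ⊓ centralizer (A : Set G) := Subgroup.mem_inf.mpr ⟨hyσ, hyA⟩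
      rw [TL.d] at h1
      exact hy1 h1
  have hNYL := Cfsg.Agent.S1409.result hG L hL l hσl Y hYc hNL
  have hτ : l ∈ tau2 L := ⟨hlf.out, hσl, hNYL.1.1, hNYL.1.2⟩
  by_cases hpσ : p ∈ sigma L
  · -- the main case
    have hAσ : A ≤ sigmaCore L := le_sigmaCore_of_pgroup hG hL hpσ hAL T.isP
    obtain ⟨Tl, hTl, huT⟩ := exists_isSylowIn_ge l (zpowers_le.mpr huL) hUp
    have hTab : IsMulCommutative Tl := abelian_of_tau2 hG hL hτ hTl
    have hcommT : ∀ a ∈ Tl, ∀ b ∈ Tl, a * b = b * a := fun a ha b hb =>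
      congrArg Subtype.val (hTab.is_comm.comm (⟨a, ha⟩ : Tl) ⟨b, hb⟩)
    have hnr : ¬ PRankLE l 1 Tl := fun h => hτ.2.2.2 (Cfsg.Agent.Lib.BGSigma.prankLE_of_isSylowIn hTl h)
    obtain ⟨B, hBT, hBe, hBc⟩ := exists_ea2 hnr
    have TB : T2 L B l := T2.mk' hG hL hτ (hBT.trans hTl.1) hBe hBc
    have hyT : y ∈ Tl := huT ((zpowers_le.mpr hy) (mem_zpowers y))
    have hyB : y ∈ B := TB.omega_P hTl hBT hyT hyl
    obtain ⟨b, hb, hby, hbfree⟩ := TB.off_line hyB hy1
    -- `b` does not lie in `M`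
    have hbM : b ∉ M := by
      intro hbM
      have hyM : y ∈ M := hE.1 ((zpowers_le.mpr hu) hy)
      have hBM : B ≤ M := by
        intro c hc
        obtain ⟨i, j, rfl⟩ := exists_pow_mul hBe hBc hyB hy1 hb hby hc
        exact mul_mem (pow_mem hyM i) (pow_mem hbM j)
      exact not_rank1_of_ea hBM hBe hBc hl.2.2.2.2
    -- `L` normalizes `A`
    have hnil : Group.IsNilpotent (sigmaCore L) := TB.nilpotent
    have hAR : A ≤ pCoreOf p (sigmaCore L) := Cfsg.Agent.Lib.BGP2D.le_pCoreOf_nil hnil hAσ T.isP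
    have hRp := isPGroup_pCoreOf p (sigmaCore L)
    have hLR : L ≤ normalizer (pCoreOf p (sigmaCore L) : Set G) :=
      le_normalizer_sigmaCore.trans (normalizer_le_normalizer_pCoreOf p _)
    obtain ⟨S, hRS⟩ := hRp.exists_le_sylow
    have hSab := hab S
    have hRC : pCoreOf p (sigmaCore L) ≤ centralizer (A : Set G) := by
      intro x hx
      rw [Subgroup.mem_centralizer_iff]
      intro a ha
      exact congrArg Subtype.val (hSab.is_comm.comm (⟨a, hRS (hAR ha)⟩ : (S : Subgroup G)) ⟨x, hRS hx⟩)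
    have hRM : pCoreOf p (sigmaCore L) ≤ M := hRC.trans (T.cent_le T.hM T.hAM)
    obtain ⟨Q, hQ, hRQ⟩ := exists_isSylowIn_ge p hRM hRp
    have hAQ : A ≤ Q := hAR.trans hRQ
    have hLA : L ≤ normalizer (A : Set G) := by
      intro g hg
      apply mem_normalizer_of_forall
      intro a ha
      refine T.omega_P hQ hAQ (hRQ ((mem_normalizer_iff.mp (hLR hg) a).mp (hAR ha))) ?_
      rw [conj_pow, T.ea.2 a ha]; group
    -- the double product
    have hrL : r ∈ L := (zpowers_le.mpr huL) hr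
    have hbL : b ∈ L := hBT.trans hTl.1 hb
    have hrT : r ∈ Tl := huT hr
    have hbT : b ∈ Tl := hBT hb
    have hbl : b ^ l = 1 := hBe.2 b hb
    let ρ := A.normalizerMonoidHom
    have hρ : ∀ (c : normalizer (A : Set G)) (w : A), ((ρ c w : A) : G) = (c : G) * (w : G) * (c : G)⁻¹ := fun c w => rfl
    have hρ1 : ∀ c : normalizer (A : Set G), (c : G) ∈ centralizer (A : Set G) → ρ c = 1 := by
      intro c hc
      ext w
      rw [hρ, ← (Subgroup.mem_centralizer_iff.mp hc) w w.2]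
      simp
    let ar : normalizer (A : Set G) := ⟨r, hLA hrL⟩
    let ab : normalizer (A : Set G) := ⟨b, hLA hbL⟩
    have hcomm : ∀ a b : A, a * b = b * a := fun a b => T.ea.1.is_comm.comm a b
    have hcrb : Commute (ρ ar) (ρ ab) := by
      have : ar * ab = ab * ar := Subtype.ext (hcommT r hrT b hbT)
      show ρ ar * ρ ab = ρ ab * ρ ar
      rw [← map_mul, ← map_mul, this]
    have ha1 : (ρ ar) ^ l = 1 := by
      rw [← map_pow]
      exact hρ1 _ hrl
    have hb1 : (ρ ab) ^ l = 1 := by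
      rw [← map_pow]
      apply hρ1
      show (b ^ l) ∈ _
      rw [hbl]
      exact one_mem _
    have hfb : ∀ w : A, (MonoidHom.id (MulAut A)) (ρ ab) w = w → w = 1 := by
      intro w hw
      have h1 : b * (w : G) * b⁻¹ = w := congrArg Subtype.val hw
      have h2 : (w : G) ∈ sigmaCore L ⊓ centralizer ({b} : Set G) := by
        refine Subgroup.mem_inf.mpr ⟨hAσ w.2, ?_⟩
        rw [Subgroup.mem_centralizer_singleton_iff]
        calc (w : G) * b = b * (w : G) * b⁻¹ * b := by rw [h1]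
          _ = b * w := by group
      rw [hbfree] at h2
      exact Subtype.ext h2
    have hfc : ∀ y' ∈ zpowers (ρ ab), ∀ w : A, (MonoidHom.id (MulAut A)) (ρ ar * y') w = w → w = 1 := by
      intro y' hy' w hw
      obtain ⟨i, rfl⟩ := mem_zpowers_iff.mp hy'
      by_contra hw1
      have hw1' : (w : G) ≠ 1 := fun h => hw1 (Subtype.ext h)
      have h0 : ρ ar * ρ ab ^ i = ρ (ar * ab ^ i) := by rw [map_mul, map_zpow]
      rw [h0] at hw
      have h1 : (r * b ^ i) * (w : G) * (r * b ^ i)⁻¹ = w := congrArg Subtype.val hw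
      have hcu : Commute (r * b ^ i) u := by
        have h2 : Commute r u := by
          obtain ⟨n, rfl⟩ := mem_zpowers_iff.mp hr
          exact ((Commute.refl u).zpow_left n)
        have h3 : Commute b u := hcommT b hbT u (huT (mem_zpowers u))
        exact h2.mul_left (h3.zpow_left i)
      have h4 := mem_cent_of_fixed hG hM hE T hAE hu hno hcu w.2 hw1' h1
      have h5 : r * b ^ i ∈ M := T.cent_le T.hM T.hAM h4
      have hrM : r ∈ M := hE.1 ((zpowers_le.mpr hu) hr)
      have h6 : b ^ i ∈ M := by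
        have : b ^ i = r⁻¹ * (r * b ^ i) := by group
        rw [this]
        exact mul_mem (inv_mem hrM) h5
      by_cases h7 : b ^ i = 1
      · rw [h7, mul_one] at h4
        exact hrA h4
      · have h8 : zpowers (b ^ i) = zpowers b :=
          Cfsg.Agent.Lib.BGTau7.zpowers_eq_of_mem hbl h7 (zpow_mem (mem_zpowers b) i)
        apply hbM
        have h9 : b ∈ zpowers (b ^ i) := by
          rw [h8]
          exact mem_zpowers b
        exact (zpowers_le.mpr h6) h9
    have hfinal := Cfsg.Agent.Lib.FrobAction.pow_card_eq_one_of_commuting_pair hcomm (MonoidHom.id (MulAut A))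
      (ρ ar) (ρ ab) hcrb l hlf.out ha1 hb1 hfb hfc
    apply T.A_ne_bot
    rw [eq_bot_iff]
    intro v hv
    have h1 := hfinal ⟨v, hv⟩
    have h2 : (⟨v, hv⟩ : A) ^ l = 1 := by
      have h3 : Nat.card (zpowers (ρ ab)) ∣ l := by
        rw [Nat.card_zpowers]
        exact orderOf_dvd_of_pow_eq_one hb1
      obtain ⟨m, hm⟩ := h3
      rw [hm, pow_mul, h1, one_pow]
    have h3 : v ^ l = 1 := congrArg Subtype.val h2
    have h4 : v ^ p = 1 := T.ea.2 v hv
    have h5 : orderOf v ∣ Nat.gcd l p := Nat.dvd_gcd (orderOf_dvd_of_pow_eq_one h3) (orderOf_dvd_of_pow_eq_one h4)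
    rw [hcl.gcd_eq_one, Nat.dvd_one, orderOf_eq_one_iff] at h5
    exact h5
  · -- `p ∉ σ(L)`
    have hτp : p ∈ tau2 L := ⟨hp.out, hpσ, rank2_of_not_sigma hG hL hp.out hpσ, not_rank1_of_ea hAL T.ea T.card⟩
    have TL : T2 L A p := T2.mk' hG hL hτp hAL T.ea T.card
    obtain ⟨B, TB, hBC⟩ := TL.exists_inv_ea hτ hlp
    exact not_rank1_of_ea (hBC.trans (T.cent_le T.hM T.hAM)) TB.ea TB.card hl.2.2.2.2

/-- **Exclusion**, prime power case. -/
theorem hasLine_of_tau1_pp {A : Subgroup G} {p : ℕ} [hp : Fact p.Prime] (hH : AlmostReg M E) (T : T2 M A p)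
    (hAE : A ≤ E) (hab : ∀ S : Sylow p G, IsMulCommutative (S : Subgroup G)) {u : G} (hu : u ∈ E)
    {l k : ℕ} (hl : l ∈ tau1 M) (huo : orderOf u = l ^ k) : HasLine A u := by
  classical
  by_contra hno
  haveI hlf : Fact l.Prime := ⟨hl.1⟩
  have hu1 : u ^ l ^ k = 1 := by rw [← huo]; exact pow_orderOf_eq_one u
  have hex : ∃ j : ℕ, u ^ l ^ j ∈ centralizer (A : Set G) := ⟨k, by rw [hu1]; exact one_mem _⟩
  have hcuC : u ∉ centralizer (A : Set G) := by
    intro h
    obtain ⟨x, hx, hx1⟩ := exists_mem_ne_one T.A_ne_bot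
    apply hno
    refine ⟨x, hx, hx1, ?_⟩
    have : u * x * u⁻¹ = x := by
      rw [← (Subgroup.mem_centralizer_iff.mp h) x hx]; group
    rw [this]
    exact mem_zpowers x
  set j := Nat.find hex with hj
  have hj1 := Nat.find_spec hex
  have hj0 : j ≠ 0 := by
    intro h0
    rw [← hj, h0, pow_zero, pow_one] at hj1
    exact hcuC hj1
  obtain ⟨j', hj'⟩ : ∃ j', j = j' + 1 := ⟨j - 1, by omega⟩
  have hrA : u ^ l ^ j' ∉ centralizer (A : Set G) := Nat.find_min hex (by omega : j' < Nat.find hex)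
  set r := u ^ l ^ j' with hr
  have hrl : r ^ l ∈ centralizer (A : Set G) := by
    rw [hr, ← pow_mul, ← pow_succ, ← hj']
    exact hj1
  have hrz : r ∈ zpowers u := pow_mem (mem_zpowers u) _
  have hrE : r ∈ E := (zpowers_le.mpr hu) hrz
  have hr1 : r ≠ 1 := by
    intro h
    rw [h] at hrA
    exact hrA (one_mem _)
  have hcomm_u : ∀ c ∈ zpowers u, Commute c u := by
    intro c hc
    obtain ⟨n, rfl⟩ := mem_zpowers_iff.mp hc
    exact (Commute.refl u).zpow_left n
  by_cases hg : r ^ l = 1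
  · have hfree : Free M r := hH r hrE hr1 (by
      intro s hs hsd
      have h1 : orderOf r = l := orderOf_eq_prime hg hr1
      rw [h1] at hsd
      rw [(Nat.prime_dvd_prime_iff_eq hs hl.1).mp hsd]
      exact Or.inl hl)
    refine not_free_of_frobenius hG hM hE T hAE hrE hr1 hl.1 hg ?_ hfree
    intro c hc hc1
    rw [eq_bot_iff]
    intro a ha
    obtain ⟨haA, hac⟩ := Subgroup.mem_inf.mp ha
    by_contra ha1
    have hcz : c ∈ zpowers u := (zpowers_le.mpr hrz) hc
    have hca : c * a * c⁻¹ = a := by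
      have : a * c = c * a := Subgroup.mem_centralizer_singleton_iff.mp hac
      rw [← this]; group
    have h1 := mem_cent_of_fixed hG hM hE T hAE hu hno (hcomm_u c hcz) haA ha1 hca
    have h2 : zpowers c = zpowers r := Cfsg.Agent.Lib.BGTau7.zpowers_eq_of_mem hg hc1 hc
    have h3 : r ∈ zpowers c := by
      rw [h2]
      exact mem_zpowers r
    exact hrA ((zpowers_le.mpr h1) h3)
  · -- the element of order `l` in `⟨r^l⟩`
    set g := r ^ l with hgdef
    have hgu : g ∈ zpowers u := pow_mem hrz l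
    have hgo : orderOf g ∣ l ^ k := by
      apply orderOf_dvd_of_pow_eq_one
      obtain ⟨n, hn⟩ := mem_zpowers_iff.mp hgu
      rw [← hn, ← zpow_natCast, ← zpow_mul, mul_comm, zpow_mul, zpow_natCast, hu1, one_zpow]
    have hld : l ∣ orderOf g := by
      obtain ⟨m, -, hm⟩ := (Nat.dvd_prime_pow hl.1).mp hgo
      have hm0 : m ≠ 0 := by
        rintro rfl
        rw [pow_zero, orderOf_eq_one_iff] at hm
        exact hg hm
      rw [hm]
      exact dvd_pow_self l hm0
    have hyo : orderOf (g ^ (orderOf g / l)) = l := orderOf_pow_orderOf_div (orderOf_pos g).ne' hld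
    have hy1 : g ^ (orderOf g / l) ≠ 1 := by
      intro h
      rw [h, orderOf_one] at hyo
      exact hl.1.one_lt.ne hyo
    have hyl : (g ^ (orderOf g / l)) ^ l = 1 := by
      have := pow_orderOf_eq_one (g ^ (orderOf g / l))
      rwa [hyo] at this
    exact false_of_central_line hG hM hE T hAE hab hu hno hl hu1 hrz hrA hrl (pow_mem hgu _) hy1 hyl (pow_mem hrl _)

/-- **Exclusion**: an element of `E` all of whose primes lie in `τ₁(M)` has an invariant line on `A`, when the
Sylow `p`-subgroups are abelian. -/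
theorem hasLine_of_tau1 {A : Subgroup G} {p : ℕ} [hp : Fact p.Prime] (hH : AlmostReg M E) (T : T2 M A p)
    (hAE : A ≤ E) (hab : ∀ S : Sylow p G, IsMulCommutative (S : Subgroup G)) {f : G} (hf : f ∈ E)
    (hfτ : ∀ s : ℕ, s.Prime → s ∣ orderOf f → s ∈ tau1 M) : HasLine A f := by
  have hAn := T.compl_norm hE hAE
  have key : f ∈ E ∧ HasLine A f := by
    apply prop_of_prime_power_parts (Φ := fun u => u ∈ E ∧ HasLine A u)
    · refine ⟨one_mem _, ?_⟩
      obtain ⟨x, hx, hx1⟩ := exists_mem_ne_one T.A_ne_bot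
      exact ⟨x, hx, hx1, by simp [mem_zpowers]⟩
    · rintro u v huv ⟨hu, hlu⟩ ⟨hv, hlv⟩
      exact ⟨mul_mem hu hv, hasLine_mul T.ea T.card huv (hAn hu) (hAn hv) hlu hlv⟩
    · rintro u m ⟨hu, hlu⟩
      exact ⟨zpow_mem hu m, hasLine_zpow hlu m⟩
    · intro s k y hs hy hyo
      have hyE : y ∈ E := (zpowers_le.mpr hf) hy
      refine ⟨hyE, ?_⟩
      rcases Nat.eq_zero_or_pos k with rfl | hk
      · rw [pow_zero, orderOf_eq_one_iff] at hyo
        rw [hyo]
        obtain ⟨x, hx, hx1⟩ := exists_mem_ne_one T.A_ne_bot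
        exact ⟨x, hx, hx1, by simp [mem_zpowers]⟩
      · have h1 : s ∣ orderOf f := by
          have h2 : orderOf y ∣ orderOf f := orderOf_dvd_of_mem_zpowers hy
          rw [hyo] at h2
          exact (dvd_pow_self s hk.ne').trans h2
        exact hasLine_of_tau1_pp hG hM hE hH T hAE hab hyE (hfτ s hs h1) hyo
  exact key.2

end Compl

end Cfsg.Agent.Lib.BGE0
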