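import Mathlib
import Cfsg.Agent.Lib.BGE0C
import Cfsg.Agent.Lib.CoprimeAct
import Cfsg.Agent.S1419

/-!
# Bender-Glauberman: complements of `M_σ` acting almost regularly: the cyclic subgroups of maximal order.
-/

set_option autoImplicit false
set_option linter.unusedSectionVars false
set_option linter.unusedVariables false
set_option linter.style.haveILetI false
set_option linter.unusedSimpArgs false

namespace Cfsg.Agent.Lib.BGE0

open Cfsg Subgroup Cfsg.Agent.Lib.CoprimeInv Cfsg.Agent.Lib.BGTrans Cfsg.Agent.Lib.BGTrans2 Cfsg.Agent.Lib.BGUniq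
  Cfsg.Agent.Lib.BGUniq2 Cfsg.Agent.Lib.BGTau1 Cfsg.Agent.Lib.BGTau2
  Cfsg.Agent.Lib.BGTau3 Cfsg.Agent.Lib.BGTau4 Cfsg.Agent.Lib.BGTau5 Cfsg.Agent.Lib.BGTau6
  Cfsg.Agent.Lib.BGUT1 Cfsg.Agent.Lib.BGM1
  Cfsg.Agent.Lib.BGUniq3 Cfsg.Agent.Lib.BGSigma3 Cfsg.Agent.Lib.BGSigma4 Cfsg.Agent.Lib.BGSigma2
  Cfsg.Agent.Lib.Glauberman Cfsg.Agent.Lib.BGFit2 Cfsg.Agent.Lib.BGTau7 Cfsg.Agent.Lib.BGM2
open scoped commutatorElement

universe u

variable {G : Type u} [Group G] [Finite G]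

/-- A line of `A` normalized by an element outside `M` acts freely. -/
theorem free_of_normalizing {M A : Subgroup G} {p : ℕ} [hp : Fact p.Prime] (T : T2 M A p) {x t : G} (hx : x ∈ A)
    (hx1 : x ≠ 1) (ht : t ∉ M) (htx : t * x * t⁻¹ ∈ zpowers x) : Free M x := by
  by_contra h
  have c := T.ctx
  have hCx : centralizer ({x} : Set G) ≤ M := T.le_of_meet (c.le_cent_elem hx) h (c.cent_elem_ne_top hx1)
  have hxp : x ^ p = 1 := T.ea.2 x hx
  have hx'1 : t * x * t⁻¹ ≠ 1 := by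
    intro h1
    apply hx1
    have : x = t⁻¹ * (t * x * t⁻¹) * t := by group
    rw [this, h1]; group
  have hz := Cfsg.Agent.Lib.BGTau7.zpowers_eq_of_mem hxp hx'1 htx
  have hCe := cent_eq_of_zpowers_eq hz
  have hcj : centralizer ({x} : Set G) ≤ cj M t := by
    rw [← hCe]
    intro y hy
    rw [mem_cj]
    apply hCx
    rw [Subgroup.mem_centralizer_singleton_iff] at hy ⊢
    have e1 : t⁻¹ * y * t * x = t⁻¹ * (y * (t * x * t⁻¹)) * t := by group
    have e2 : x * (t⁻¹ * y * t) = t⁻¹ * ((t * x * t⁻¹) * y) * t := by group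
    rw [e1, e2, hy]
  have h3 : cj M t = M := T.unique_of_meet (c.le_cent_elem hx) h (BGUniq3.isCoatom_cj T.hM t) hcj
  have h4 : t ∈ normalizer (M : Set G) := mem_normalizer_of_cj_eq h3
  rw [norm_eq_self T.hG T.hM T.M_ne_bot] at h4
  exact ht h4

/-- In the abelian case, `N_G(A)` acts abelianly on `A`. -/
theorem commutator_mem_centralizer {M A : Subgroup G} {p : ℕ} [hp : Fact p.Prime] (T : T2 M A p)
    (hab : ∀ S : Sylow p G, IsMulCommutative (S : Subgroup G)) {u w : G} (hu : u ∈ normalizer (A : Set G))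
    (hw : w ∈ normalizer (A : Set G)) : u * w * u⁻¹ * w⁻¹ ∈ centralizer (A : Set G) := by
  have hG := T.hG
  have hx : u * w * u⁻¹ * w⁻¹ ∈ ⁅normalizer (A : Set G), normalizer (A : Set G)⁆ :=
    Subgroup.commutator_mem_commutator hu hw
  apply mem_of_prime_power_parts
  intro s k y hs hy hyo
  have hyd : y ∈ ⁅normalizer (A : Set G), normalizer (A : Set G)⁆ := (zpowers_le.mpr hx) hy
  have hyN : y ∈ normalizer (A : Set G) := Subgroup.commutator_le_self _ hyd
  by_cases hsp : s = p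
  · subst hsp
    have hy1 : y ^ s ^ k = 1 := by rw [← hyo]; exact pow_orderOf_eq_one y
    have hsup : IsPGroup s ↥(zpowers y ⊔ A) :=
      isPGroup_sup_of_le_normalizer (isPGroup_zpowers_of_pow' hy1) T.isP (zpowers_le.mpr hyN)
    obtain ⟨S, hS⟩ := hsup.exists_le_sylow
    rw [Subgroup.mem_centralizer_iff]
    intro a ha
    exact congrArg Subtype.val ((hab S).is_comm.comm (⟨a, hS (Subgroup.mem_sup_right ha)⟩ : (S : Subgroup G))
      ⟨y, hS (Subgroup.mem_sup_left (mem_zpowers y))⟩)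
  · have hp2 : p ≠ 2 := prime_ne_two_of_dvd hG (dvd_card_of_isPGroup T.isP T.A_ne_bot |>.trans
      (Subgroup.card_subgroup_dvd_card _))
    have hne : normalizer (A : Set G) ≠ ⊤ := IsMin.normalizer_ne_top hG T.A_ne_bot (IsMin.isPGroup_ne_top hG T.isP)
    refine comm_of_mem_derived hp2 T.isP (BGUniq3.prankLE_of_le T.hAM T.rank2) le_rfl (IsMin.solvable hG hne)
      (odd_card_of_le hG _) hyd ?_
    rw [hyo]
    exact Nat.Coprime.pow_left k ((Nat.coprime_primes hs hp.out).mpr hsp)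

/-- All Sylow subgroups are abelian, or none. -/
theorem sylow_dichotomy {p : ℕ} [hp : Fact p.Prime]
    (h : ¬ ∀ S : Sylow p G, IsMulCommutative (S : Subgroup G)) : ∀ S : Sylow p G, ¬ IsMulCommutative (S : Subgroup G) := by
  push Not at h
  obtain ⟨S₀, hS₀⟩ := h
  intro S hS
  apply hS₀
  let e := Sylow.equiv S S₀
  refine ⟨⟨?_⟩⟩
  intro a b
  have h1 : e.symm a * e.symm b = e.symm b * e.symm a := hS.is_comm.comm _ _
  have h2 := congrArg e h1
  simpa [map_mul] using h2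

/-- **An invariant free line**, when all Sylow subgroups are abelian. -/
theorem exists_free_line_ab {M A : Subgroup G} {p : ℕ} [hp : Fact p.Prime] (T : T2 M A p)
    (hab : ∀ S : Sylow p G, IsMulCommutative (S : Subgroup G)) {f : G} (hf : f ∈ normalizer (A : Set G))
    (hl : HasLine A f) : ∃ x ∈ A, x ≠ 1 ∧ f * x * f⁻¹ ∈ zpowers x ∧ Free M x := by
  obtain ⟨x₁, hx₁, hx₁1, hxf⟩ := hl
  obtain ⟨l, hl⟩ := exists_pow_of_mem_zpowers hxf
  obtain ⟨t, htM, htA⟩ := T.exists_t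
  have hc := commutator_mem_centralizer T hab hf htA
  rcases scalar_or_normalizes T.ea T.card hx₁ hx₁1 hf htA hl.symm (fun a ha => by
    have hb : (t * f) * a * (t * f)⁻¹ ∈ A := (mem_normalizer_iff.mp (mul_mem htA hf) a).mp ha
    have e : (f * t) * a * (f * t)⁻¹ =
        (f * t * f⁻¹ * t⁻¹) * ((t * f) * a * (t * f)⁻¹) * (f * t * f⁻¹ * t⁻¹)⁻¹ := by group
    rw [e, ← (Subgroup.mem_centralizer_iff.mp hc) _ hb]
    group) with h | h
  · exact ⟨x₁, hx₁, hx₁1, hxf, free_of_normalizing T hx₁ hx₁1 htM h⟩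
  · obtain ⟨x, hx, hx1, hfree⟩ := T.f
    refine ⟨x, hx, hx1, ?_, hfree⟩
    rw [h x hx]
    exact pow_mem (mem_zpowers x) _

/-- **An invariant free line**, in the nonabelian case. -/
theorem exists_free_line_nab {M E A : Subgroup G} {p : ℕ} [hp : Fact p.Prime] (hG : IsMinSimpleOddOrder G)
    (hM : IsCoatom M) (hE : IsComplIn E (sigmaCore M) M) (T : T2 M A p) (hAE : A ≤ E)
    (hS : ∀ S : Sylow p G, ¬ IsMulCommutative (S : Subgroup G)) {f : G} (hf : f ∈ E)
    (hfp : (orderOf f).Coprime p) : ∃ x ∈ A, x ≠ 1 ∧ f * x * f⁻¹ ∈ zpowers x ∧ Free M x := by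
  classical
  have hAn := T.compl_norm hE hAE
  obtain ⟨hτ, ⟨hcardA₀, -⟩, hfree⟩ := Cfsg.Agent.S1419.result hG M hM E hE p T.hp hS A ⟨hAE, T.ea, T.card⟩
  set A₀ : Subgroup G := A ⊓ centralizer (sigmaCore M : Set G) with hA₀
  -- the action
  have hfN : zpowers f ≤ normalizer (A : Set G) := zpowers_le.mpr (hAn hf)
  let φ : zpowers f →* MulAut A := A.normalizerMonoidHom.comp (Subgroup.inclusion hfN)
  letI act : MulDistribMulAction (zpowers f) A := MulDistribMulAction.compHom A φ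
  have hact : ∀ (c : zpowers f) (v : A), ((c • v : A) : G) = (c : G) * (v : G) * (c : G)⁻¹ := fun c v => rfl
  have hcomm : ∀ x y : A, x * y = y * x := fun x y => T.ea.1.is_comm.comm x y
  have hVp : ∀ v : A, v ^ p = 1 := fun v => Subtype.ext (T.ea.2 v v.2)
  have hco : (Nat.card (zpowers f)).Coprime p := by
    rw [Nat.card_zpowers]
    exact hfp
  have hA₀inv : ∀ c ∈ zpowers f, ∀ v ∈ A₀, c * v * c⁻¹ ∈ A₀ := by
    intro c hc v hv
    have hcE : c ∈ E := (zpowers_le.mpr hf) hc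
    refine Subgroup.mem_inf.mpr ⟨(mem_normalizer_iff.mp (hAn hcE) v).mp hv.1, ?_⟩
    exact (mem_normalizer_iff.mp (normalizer_le_normalizer_centralizer _ (le_normalizer_sigmaCore (hE.1 hcE))) v).mp hv.2
  obtain ⟨U, hUinv, hUinf, hUsup⟩ := Cfsg.Agent.Lib.CoprimeAct.exists_invariant_complement (A := zpowers f) (V := A) p
    hcomm hVp hco (A₀.subgroupOf A) (by
      intro c v hv
      rw [Subgroup.mem_subgroupOf] at hv ⊢
      exact hA₀inv c c.2 v hv)
  -- `U` has order `p`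
  have hcU : Nat.card U = p := by
    letI cg : CommGroup A := { (inferInstance : Group A) with mul_comm := hcomm }
    have h1 : Nat.card (A₀.subgroupOf A) = p := by
      rw [card_subgroupOf_of_le inf_le_left]
      exact hcardA₀
    have hle : A₀.subgroupOf A ≤ normalizer (U : Set A) := by
      intro a _
      rw [normalizer_eq_top_iff.mpr (Subgroup.normal_of_comm U)]
      trivial
    have h2 := card_sup_mul_card_inf hle
    rw [hUsup, hUinf, Subgroup.card_bot, mul_one, Subgroup.card_top, h1] at h2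
    have h3 : Nat.card A = p ^ 2 := T.card
    rw [h3, sq] at h2
    exact (Nat.eq_of_mul_eq_mul_left hp.out.pos h2).symm
  have hUne : U ≠ ⊥ := by
    rintro rfl
    rw [Subgroup.card_bot] at hcU
    exact hp.out.one_lt.ne hcU
  obtain ⟨u₀, hu₀, hu₀1⟩ := exists_mem_ne_one hUne
  have hx1 : (u₀ : G) ≠ 1 := fun h => hu₀1 (Subtype.ext h)
  have hUz : ∀ v ∈ U, (v : G) ∈ zpowers (u₀ : G) := by
    intro v hv
    have hUc : IsCyclic U := isCyclic_of_prime_card hcU
    have h1 : (⟨u₀, hu₀⟩ : U) ≠ 1 := fun h => hu₀1 (congrArg Subtype.val h)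
    obtain ⟨n, hn⟩ := mem_zpowers_iff.mp (mem_zpowers_of_prime_card hcU h1 : (⟨v, hv⟩ : U) ∈ zpowers (⟨u₀, hu₀⟩ : U))
    have h2 : (u₀ : G) ^ n = v := by
      have := congrArg (fun w : U => ((w : A) : G)) hn
      simpa using this
    rw [← h2]
    exact zpow_mem (mem_zpowers _) n
  refine ⟨u₀, u₀.2, hx1, ?_, ?_⟩
  · have h1 := hUinv ⟨f, mem_zpowers f⟩ u₀ hu₀
    have h2 := hUz _ h1
    rwa [hact] at h2
  · -- the line is not `A₀`
    have hX : Nat.card (zpowers (u₀ : G)) = p := by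
      rw [Nat.card_zpowers]
      exact orderOf_eq_prime (T.ea.2 _ u₀.2) hx1
    have hXE : zpowers (u₀ : G) ≤ E := zpowers_le.mpr (hAE u₀.2)
    have hne : zpowers (u₀ : G) ≠ A₀ := by
      intro h
      have h1 : (u₀ : G) ∈ A₀ := by
        rw [← h]
        exact mem_zpowers _
      have h2 : u₀ ∈ A₀.subgroupOf A ⊓ U := Subgroup.mem_inf.mpr ⟨Subgroup.mem_subgroupOf.mpr h1, hu₀⟩
      rw [hUinf] at h2
      exact hu₀1 h2
    have h3 := (hfree _ hXE hX hne).1
    rw [centralizer_zpowers'] at h3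
    exact h3

/-- **The cyclic subgroup of maximal order in a Sylow subgroup of `E`, for `p ∈ τ₂`.** -/
theorem exists_z {M E P : Subgroup G} {p : ℕ} [hp : Fact p.Prime] (hG : IsMinSimpleOddOrder G) (hM : IsCoatom M)
    (hE : IsComplIn E (sigmaCore M) M) (hH : AlmostReg M E) (hτ : p ∈ tau2 M) (hP : IsSylowIn p P E) {f : G}
    (hf : f ∈ E) (hfP : f ∈ normalizer (P : Set G)) (hfτ : ∀ s : ℕ, s.Prime → s ∣ orderOf f → s ∈ tau1 M) :
    ∃ z ∈ P, (∀ v ∈ P, orderOf v ∣ orderOf z) ∧ f * z * f⁻¹ ∈ zpowers z ∧ Good M (zpowers z) := by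
  classical
  obtain ⟨A, T, hAP⟩ := exists_T2 hG hM hE hτ hP
  have hAE : A ≤ E := hAP.trans hP.1
  have hAn := T.compl_norm hE hAE
  have hPM : IsSylowIn p P M := isSylowIn_of_compl hG hM hE T.notσ hP
  have hPab : IsMulCommutative P := T.abelian hPM hAP
  have hpf : ¬ p ∣ orderOf f := fun h => T.not_rank1 (hfτ p hp.out h).2.2.2.2
  have hfcop : (orderOf f).Coprime p := ((Nat.Prime.coprime_iff_not_dvd hp.out).mpr hpf).symm
  have hline : ∃ x ∈ A, x ≠ 1 ∧ f * x * f⁻¹ ∈ zpowers x ∧ Free M x := by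
    by_cases hab : ∀ S : Sylow p G, IsMulCommutative (S : Subgroup G)
    · exact exists_free_line_ab T hab (hAn hf) (hasLine_of_tau1 hG hM hE hH T hAE hab hf hfτ)
    · exact exists_free_line_nab hG hM hE T hAE (sylow_dichotomy hab) hf hfcop
  -- the exponent of `P`
  letI cg : CommGroup P :=
    { (inferInstance : Group P) with mul_comm := fun a b => hPab.is_comm.comm a b }
  obtain ⟨w, hw⟩ := Monoid.exists_orderOf_eq_exponent (G := P) Monoid.ExponentExists.of_finite
  have hwG : orderOf (w : G) = Monoid.exponent P := by rw [Subgroup.orderOf_coe, hw]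
  obtain ⟨k, hk⟩ := hP.2.1 w
  have hwk : (w : G) ^ p ^ k = 1 := congrArg Subtype.val hk
  obtain ⟨e, -, he⟩ := (Nat.dvd_prime_pow hp.out).mp (orderOf_dvd_of_pow_eq_one hwk)
  have hexp0 : ∀ v ∈ P, v ^ orderOf (w : G) = 1 := by
    intro v hv
    rw [hwG]
    have := Monoid.pow_exponent_eq_one (⟨v, hv⟩ : P)
    exact congrArg Subtype.val this
  have he0 : e ≠ 0 := by
    rintro rfl
    obtain ⟨x, hx, hx1⟩ := exists_mem_ne_one T.A_ne_bot
    apply hx1
    have := hexp0 x (hAP hx)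
    rwa [he, pow_zero, pow_one] at this
  obtain ⟨a, rfl⟩ : ∃ a, e = a + 1 := ⟨e - 1, by omega⟩
  have hexp : ∀ v ∈ P, v ^ p ^ (a + 1) = 1 := by
    intro v hv
    rw [← he]
    exact hexp0 v hv
  -- the final step
  have key : ∀ z₁ ∈ P, z₁ ^ p ^ a ≠ 1 → f * z₁ ^ p ^ a * f⁻¹ ∈ zpowers (z₁ ^ p ^ a) → Free M (z₁ ^ p ^ a) →
      ∃ z ∈ P, (∀ v ∈ P, orderOf v ∣ orderOf z) ∧ f * z * f⁻¹ ∈ zpowers z ∧ Good M (zpowers z) := by
    intro z₁ hz₁ h1 h2 h3
    obtain ⟨z, hzP, hzo, hfz, hzz⟩ := exists_invariant_cyclic hPab hfP (pow_orderOf_eq_one f) hpf hexp hz₁ h1 h2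
    refine ⟨z, hzP, fun v hv => ?_, hfz, ?_⟩
    · rw [hzo]
      exact orderOf_dvd_of_pow_eq_one (hexp v hv)
    · apply good_of_prime
      intro u hu hu1 huo
      have hd : orderOf u ∣ p ^ (a + 1) := by
        rw [← hzo]
        exact orderOf_dvd_of_mem_zpowers hu
      obtain ⟨m, -, hm⟩ := (Nat.dvd_prime_pow hp.out).mp hd
      have hup : u ^ p = 1 := by
        have h4 : orderOf u = p := by
          have h5 : p ∣ orderOf u := by
            have hm0 : m ≠ 0 := by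
              rintro rfl
              rw [pow_zero] at hm
              exact huo.one_lt.ne' hm
            rw [hm]
            exact dvd_pow_self p hm0
          exact ((Nat.prime_dvd_prime_iff_eq hp.out huo).mp h5).symm
        rw [← h4]
        exact pow_orderOf_eq_one u
      obtain ⟨l, hl⟩ := exists_pow_of_mem_zpowers hu
      have h6 : z ^ (l * p) = 1 := by rw [pow_mul, hl, hup]
      have h7 : p ^ (a + 1) ∣ l * p := by
        rw [← hzo]
        exact orderOf_dvd_of_pow_eq_one h6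
      have h8 : p ^ a ∣ l := by
        rw [pow_succ] at h7
        exact Nat.dvd_of_mul_dvd_mul_right hp.out.pos h7
      obtain ⟨c, rfl⟩ := h8
      have hbp : (z ^ p ^ a) ^ p = 1 := by
        rw [← pow_mul, ← pow_succ]
        exact hexp z hzP
      have hub : u ∈ zpowers (z ^ p ^ a) := by
        rw [← hl, pow_mul]
        exact pow_mem (mem_zpowers _) _
      have h9 := Cfsg.Agent.Lib.BGTau7.zpowers_eq_of_mem hbp hu1 hub
      refine Free.of_mem_zpowers h3 ?_
      rw [h9, hzz]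
      exact mem_zpowers _
  have hx₀1 : (w : G) ^ p ^ a ≠ 1 := by
    intro h
    have h1 := orderOf_dvd_of_pow_eq_one h
    rw [he] at h1
    have h2 := (Nat.pow_dvd_pow_iff_le_right hp.out.one_lt).mp h1
    omega
  by_cases hα : ∀ v ∈ P, v ^ p ^ a ∈ zpowers ((w : G) ^ p ^ a)
  · obtain ⟨-, t, ht, htP, -⟩ := T.central hPM hAP
    have hx₀A : (w : G) ^ p ^ a ∈ A := by
      refine T.omega_P hPM hAP (pow_mem w.2 _) ?_
      rw [← pow_mul, ← pow_succ]
      exact hexp _ w.2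
    have hconj : ∀ g ∈ normalizer (P : Set G), g * (w : G) ^ p ^ a * g⁻¹ ∈ zpowers ((w : G) ^ p ^ a) := by
      intro g hg
      rw [← conj_pow]
      exact hα _ ((mem_normalizer_iff.mp hg _).mp w.2)
    exact key w w.2 hx₀1 (hconj f hfP) (free_of_normalizing T hx₀A hx₀1 ht (hconj t htP))
  · push Not at hα
    obtain ⟨v, hvP, hv⟩ := hα
    have hx₀A : (w : G) ^ p ^ a ∈ A := by
      refine T.omega_P hPM hAP (pow_mem w.2 _) ?_
      rw [← pow_mul, ← pow_succ]
      exact hexp _ w.2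
    have hvA : v ^ p ^ a ∈ A := by
      refine T.omega_P hPM hAP (pow_mem hvP _) ?_
      rw [← pow_mul, ← pow_succ]
      exact hexp _ hvP
    obtain ⟨x, hx, hx1, hfx, hfree⟩ := hline
    obtain ⟨i, j, hij⟩ := exists_pow_mul T.ea T.card hx₀A hx₀1 hvA hv hx
    have hwv : Commute (w : G) v := congrArg Subtype.val (hPab.is_comm.comm w ⟨v, hvP⟩)
    have hz : ((w : G) ^ i * v ^ j) ^ p ^ a = x := by
      rw [(hwv.pow_pow i j).mul_pow, ← pow_mul, ← pow_mul, mul_comm i, mul_comm j, pow_mul, pow_mul, hij]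
    have hzP : (w : G) ^ i * v ^ j ∈ P := mul_mem (pow_mem w.2 i) (pow_mem hvP j)
    rw [← hz] at hx1 hfx hfree
    exact key _ hzP hx1 hfx hfree

end Cfsg.Agent.Lib.BGE0
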