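import Mathlib
import Cfsg.Agent.Lib.PCore
import Cfsg.Agent.Lib.SuperSolv2

/-!
Existence of Hall `π`-subgroups in finite solvable groups, with `π` an arbitrary predicate on primes.
-/

set_option autoImplicit false
set_option synthInstance.maxHeartbeats 400000

namespace Cfsg.Agent.Lib.HallExist

open Cfsg Cfsg.Agent.Lib.PCore

/-- Hall's existence theorem. -/
theorem exists_hall (π : ℕ → Prop) (G : Type*) [Group G] [Finite G] [hs : Group.IsSolvable G] :
    ∃ H : Subgroup G, (∀ q : ℕ, q.Prime → q ∣ Nat.card H → π q) ∧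
      (∀ q : ℕ, q.Prime → q ∣ H.index → ¬ π q) := by
  classical
  induction hn : Nat.card G using Nat.strong_induction_on generalizing G with
  | _ n ih =>
  by_cases hG : Nat.card G = 1
  · refine ⟨⊤, ?_, ?_⟩
    · intro q hq hd
      rw [Subgroup.card_top, hG] at hd
      exact absurd (Nat.dvd_one.mp hd) hq.ne_one
    · intro q hq hd
      rw [Subgroup.index_top] at hd
      exact absurd (Nat.dvd_one.mp hd) hq.ne_one
  have hnt : Nontrivial G := by
    rw [← Finite.one_lt_card_iff_nontrivial]
    have : 0 < Nat.card G := Nat.card_pos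
    omega
  obtain ⟨r, hr, hNne⟩ := exists_pCore_ne_bot (G := G)
  have : Fact r.Prime := ⟨hr⟩
  set N := pCore r G with hNdef
  have hNp : IsPGroup r N := isPGroup_pCore r
  obtain ⟨b, hb⟩ := IsPGroup.iff_card.mp hNp
  have hb0 : b ≠ 0 := by
    rintro rfl
    rw [pow_zero] at hb
    exact hNne (Subgroup.card_eq_one.mp hb)
  have hcard : Nat.card G = Nat.card (G ⧸ N) * Nat.card N :=
    Subgroup.card_eq_card_quotient_mul_card_subgroup N
  have hQlt : Nat.card (G ⧸ N) < n := by
    rw [← hn, hcard, hb]
    have h1 : 1 < r ^ b := Nat.one_lt_pow hb0 hr.one_lt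
    have h2 : 0 < Nat.card (G ⧸ N) := Nat.card_pos
    nlinarith
  have hQs : Group.IsSolvable (G ⧸ N) := inferInstance
  obtain ⟨Hbar, hH1, hH2⟩ := ih _ hQlt (G ⧸ N) rfl
  let K : Subgroup G := Hbar.comap (QuotientGroup.mk' N)
  have hKcard : Nat.card K = Nat.card Hbar * Nat.card N := SuperSolv2.card_comap_mk N Hbar
  have hKidx : K.index = Hbar.index :=
    Subgroup.index_comap_of_surjective Hbar (QuotientGroup.mk'_surjective N)
  by_cases hπr : π r
  · refine ⟨K, ?_, ?_⟩
    · intro q hq hd
      rw [hKcard, hb] at hd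
      rcases (Nat.Prime.dvd_mul hq).mp hd with h | h
      · exact hH1 q hq h
      · have := (Nat.prime_dvd_prime_iff_eq hq hr).mp (hq.dvd_of_dvd_pow h)
        rw [this]; exact hπr
    · intro q hq hd
      rw [hKidx] at hd
      exact hH2 q hq hd
  · -- complement
    have hNK : N ≤ K := by
      intro x hx
      show (QuotientGroup.mk' N) x ∈ Hbar
      have h0 : (QuotientGroup.mk' N) x = 1 := (QuotientGroup.eq_one_iff x).mpr hx
      rw [h0]
      exact Hbar.one_mem
    let N' : Subgroup K := N.subgroupOf K
    have hN'normal : N'.Normal := inferInstance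
    have hN'card : Nat.card N' = Nat.card N := Nat.card_congr (Subgroup.subgroupOfEquivOfLe hNK).toEquiv
    have hN'idx : N'.index = Nat.card Hbar := by
      have h1 := Subgroup.card_mul_index N'
      rw [hN'card, hKcard, mul_comm] at h1
      have hpos : 0 < Nat.card N := Nat.card_pos
      exact Nat.eq_of_mul_eq_mul_right hpos (by rw [mul_comm, ← h1, mul_comm])
    have hcop : Nat.Coprime (Nat.card N') N'.index := by
      rw [hN'card, hN'idx, hb]
      apply Nat.Coprime.pow_left
      rw [Nat.Prime.coprime_iff_not_dvd hr]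
      intro hd
      exact hπr (hH1 r hr hd)
    obtain ⟨H', hH'⟩ := Subgroup.exists_right_complement'_of_coprime hcop
    have hH'card : Nat.card H' = Nat.card Hbar := by
      have h1 := hH'.card_mul_card
      rw [hN'card, hKcard] at h1
      have hpos : 0 < Nat.card N := Nat.card_pos
      exact Nat.eq_of_mul_eq_mul_right hpos (by rw [mul_comm, h1])
    let H : Subgroup G := H'.map K.subtype
    have hHcard : Nat.card H = Nat.card Hbar := by
      have h1 : Nat.card H = Nat.card H' :=
        (Nat.card_congr (Subgroup.equivMapOfInjective _ _ K.subtype_injective).toEquiv).symm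
      rw [h1, hH'card]
    have hHidx : H.index = Hbar.index * Nat.card N := by
      have h1 := Subgroup.card_mul_index H
      have h2 := Subgroup.card_mul_index Hbar
      rw [hHcard, hcard, ← h2] at h1
      have hpos : 0 < Nat.card Hbar := Nat.card_pos
      exact Nat.eq_of_mul_eq_mul_left hpos (by rw [h1]; ring)
    refine ⟨H, ?_, ?_⟩
    · intro q hq hd
      rw [hHcard] at hd
      exact hH1 q hq hd
    · intro q hq hd
      rw [hHidx, hb] at hd
      rcases (Nat.Prime.dvd_mul hq).mp hd with h | h
      · exact hH2 q hq h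
      · have := (Nat.prime_dvd_prime_iff_eq hq hr).mp (hq.dvd_of_dvd_pow h)
        rw [this]; exact hπr

end Cfsg.Agent.Lib.HallExist
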