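import Mathlib
import Cfsg.Agent.Lib.BGE0D
import Cfsg.Agent.Lib.HallExist
import Cfsg.Agent.S1415

/-!
# Bender-Glauberman: complements of `M_σ` acting almost regularly: the subgroup `E₀` of the same exponent.
-/

set_option autoImplicit false
set_option linter.unusedSectionVars false
set_option linter.unusedVariables false
set_option linter.style.haveILetI false
set_option linter.unusedSimpArgs false

namespace Cfsg.Agent.Lib.BGE0

open Cfsg Subgroup Cfsg.Agent.Lib.CoprimeInv Cfsg.Agent.Lib.BGTrans Cfsg.Agent.Lib.BGTrans2 Cfsg.Agent.Lib.BGUniq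
  Cfsg.Agent.Lib.BGUniq2 Cfsg.Agent.Lib.BGTau1 Cfsg.Agent.Lib.BGTau2
  Cfsg.Agent.Lib.BGTau3 Cfsg.Agent.Lib.BGTau4 Cfsg.Agent.Lib.BGTau5 Cfsg.Agent.Lib.BGTau6
  Cfsg.Agent.Lib.BGUT1 Cfsg.Agent.Lib.BGM1
  Cfsg.Agent.Lib.BGUniq3 Cfsg.Agent.Lib.BGSigma3 Cfsg.Agent.Lib.BGSigma4 Cfsg.Agent.Lib.BGSigma2
  Cfsg.Agent.Lib.Glauberman Cfsg.Agent.Lib.BGFit2 Cfsg.Agent.Lib.BGTau7 Cfsg.Agent.Lib.BGM2
open scoped commutatorElement

universe u

variable {G : Type u} [Group G] [Finite G]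

/-- Hall subgroups of a solvable subgroup. -/
theorem exists_piHall (π : Set ℕ) (E : Subgroup G) [Group.IsSolvable E] : ∃ H : Subgroup G, IsPiHallOf π H E := by
  obtain ⟨B, h1, h2⟩ := Cfsg.Agent.Lib.HallExist.exists_hall (· ∈ π) ↥E
  refine ⟨B.map E.subtype, Subgroup.map_subtype_le _, ?_, ?_⟩
  · intro k hk hd
    rw [Subgroup.card_map_of_injective E.subtype_injective] at hd
    exact h1 k hk hd
  · intro k hk hkπ hd
    have e : (B.map E.subtype).relIndex E = B.index := by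
      rw [Subgroup.relIndex, Subgroup.subgroupOf, Subgroup.comap_map_eq_self_of_injective E.subtype_injective]
    rw [e] at hd
    exact h2 k hk hd hkπ

/-- An element of prime power order is conjugate into a given Sylow subgroup. -/
theorem exists_conj_mem_sylow {s k : ℕ} [hs : Fact s.Prime] {Q L : Subgroup G} (hQ : IsSylowIn s Q L) {y : G}
    (hy : y ∈ L) (hyo : orderOf y = s ^ k) : ∃ g ∈ L, g * y * g⁻¹ ∈ Q := by
  have hy1 : y ^ s ^ k = 1 := by rw [← hyo]; exact pow_orderOf_eq_one y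
  obtain ⟨S, hS, hyS⟩ := exists_isSylowIn_ge s (zpowers_le.mpr hy) (isPGroup_zpowers_of_pow' hy1)
  obtain ⟨g, hg, rfl⟩ := hS.exists_conj hQ
  exact ⟨g, hg, conj_mem_cj (hyS (mem_zpowers y))⟩

theorem normalizer_sup_mem {X Y : Subgroup G} {g : G} (hX : g ∈ normalizer (X : Set G))
    (hY : g ∈ normalizer (Y : Set G)) : g ∈ normalizer ((X ⊔ Y : Subgroup G) : Set G) := by
  rw [Subgroup.mem_normalizer_iff_map_conj_eq] at *
  rw [Subgroup.map_sup, hX, hY]

theorem orderOf_conj' (g y : G) : orderOf (g * y * g⁻¹) = orderOf y := by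
  have h : g * y * g⁻¹ = MulAut.conj g y := rfl
  rw [h, MulEquiv.orderOf_eq]

section Compl

variable {M E : Subgroup G} (hG : IsMinSimpleOddOrder G) (hM : IsCoatom M)
  (hE : IsComplIn E (sigmaCore M) M)
include hG hM hE

/-- An invariant Sylow subgroup of `E` for an element of `τ₁`-type. -/
theorem exists_invariant_sylow_E {p : ℕ} [hp : Fact p.Prime] (hτ : p ∈ tau2 M) {f : G} (hf : f ∈ E)
    (hfτ : ∀ s : ℕ, s.Prime → s ∣ orderOf f → s ∈ tau1 M) :
    ∃ P, IsSylowIn p P E ∧ f ∈ normalizer (P : Set G) := by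
  haveI hEs : Group.IsSolvable E := solvable_of_le_coatom hG hM hE.1
  obtain ⟨P₀, hP₀⟩ := exists_isSylowIn p E
  set L : Subgroup G := P₀ ⊔ ⁅E, E⁆ with hL
  have hLE : L ≤ E := sup_le hP₀.1 (Subgroup.commutator_le_self E)
  have hLs : Group.IsSolvable L := IsMin.solvable hG (fun h => hM.1 (top_le_iff.mp (h ▸ hLE.trans hE.1)))
  have hfL : f ∈ normalizer (L : Set G) := by
    apply mem_normalizer_of_forall
    intro x hx
    have e : f * x * f⁻¹ = (f * x * f⁻¹ * x⁻¹) * x := by group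
    rw [e]
    exact mul_mem (Subgroup.mem_sup_right (Subgroup.commutator_mem_commutator hf (hLE hx))) hx
  have hcard : Nat.card L * Nat.card ↥(P₀ ⊓ ⁅E, E⁆) = Nat.card P₀ * Nat.card ↥⁅E, E⁆ :=
    card_sup_mul_card_inf (hP₀.1.trans (le_normalizer_self_commutator E))
  have hco : (Nat.card L).Coprime (Nat.card (zpowers f)) := by
    rw [Nat.card_zpowers]
    apply Nat.coprime_of_dvd
    intro s hs hs1 hs2
    have hτ1 := hfτ s hs hs2
    have h1 : s ∣ Nat.card P₀ * Nat.card ↥⁅E, E⁆ := by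
      rw [← hcard]
      exact hs1.trans (Dvd.intro _ rfl)
    rcases (Nat.Prime.dvd_mul hs).mp h1 with h2 | h2
    · obtain ⟨k, hk⟩ := IsPGroup.iff_card.mp hP₀.2.1
      rw [hk] at h2
      have h3 := (Nat.prime_dvd_prime_iff_eq hs hp.out).mp (hs.dvd_of_dvd_pow h2)
      rw [h3] at hτ1
      exact hτ.2.2.2 hτ1.2.2.2.2
    · exact hτ1.2.2.2.1 (h2.trans (Subgroup.card_dvd_of_le (Subgroup.commutator_mono hE.1 hE.1)))
  obtain ⟨S, hS, hSf⟩ := exists_invariant_isSylowIn p hLs (zpowers_le.mpr hfL) hco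
  refine ⟨S, isSylowIn_of_hall hS hLE ?_, hSf (mem_zpowers f)⟩
  have h1 : P₀.relIndex L * L.relIndex E = P₀.relIndex E :=
    Subgroup.relIndex_mul_relIndex P₀ L E le_sup_left hLE
  intro h
  apply hP₀.toSylow.not_dvd_index
  show p ∣ P₀.relIndex E
  rw [← h1]
  exact h.trans (Dvd.intro_left _ rfl)

/-- **The subgroup `E₀`**. -/
theorem exists_E0 (hH : AlmostReg M E) :
    ∃ E₀ : Subgroup G, E₀ ≤ E ∧ Monoid.exponent E₀ = Monoid.exponent E ∧
      ∀ e ∈ E₀, e ≠ 1 → sigmaCore M ⊓ centralizer ({e} : Set G) = ⊥ := by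
  classical
  haveI hEs : Group.IsSolvable E := solvable_of_le_coatom hG hM hE.1
  obtain ⟨E₁, hE₁⟩ := exists_piHall (tau1 M) E
  obtain ⟨E₃, hE₃⟩ := exists_piHall (tau3 M) E
  have hE₁c : IsCyclic E₁ := (Cfsg.Agent.S1415.result hG M hM E hE).2.1 E₁ hE₁
  obtain ⟨hE₃c, -, hE₃n⟩ := (Cfsg.Agent.S1415.result hG M hM E hE).2.2 E₃ hE₃
  obtain ⟨g₁, hg₁⟩ := hE₁c.exists_generator
  set f : G := (g₁ : G) with hf
  have hfE₁ : f ∈ E₁ := g₁.2
  have hfE : f ∈ E := hE₁.1 hfE₁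
  have hE₁f : E₁ ≤ zpowers f := by
    intro x hx
    obtain ⟨n, hn⟩ := mem_zpowers_iff.mp (hg₁ ⟨x, hx⟩)
    have : f ^ n = x := congrArg Subtype.val hn
    rw [← this]
    exact zpow_mem (mem_zpowers f) n
  have hfτ : ∀ s : ℕ, s.Prime → s ∣ orderOf f → s ∈ tau1 M := by
    intro s hs hd
    apply hE₁.2.1 s hs
    have h1 : orderOf f = orderOf g₁ := (Subgroup.orderOf_coe g₁)
    rw [h1] at hd
    exact hd.trans (orderOf_dvd_natCard g₁)
  -- the cyclic subgroups
  have hzex : ∀ p : ℕ, ∃ (P : Subgroup G) (z : G), p ∈ tau2 M → ∃ _ : Fact p.Prime,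
      IsSylowIn p P E ∧ z ∈ P ∧ (∀ v ∈ P, orderOf v ∣ orderOf z) ∧ f * z * f⁻¹ ∈ zpowers z ∧ Good M (zpowers z) := by
    intro p
    by_cases hτ : p ∈ tau2 M
    · haveI : Fact p.Prime := ⟨hτ.1⟩
      obtain ⟨P, hP, hfP⟩ := exists_invariant_sylow_E hG hM hE hτ hfE hfτ
      obtain ⟨z, hz, h1, h2, h3⟩ := exists_z hG hM hE hH hτ hP hfE hfP hfτ
      exact ⟨P, z, fun _ => ⟨inferInstance, hP, hz, h1, h2, h3⟩⟩
    · exact ⟨⊥, 1, fun h => absurd h hτ⟩
  choose P z hPz using hzex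
  -- the commuting ambient group
  have hC₀ : ∃ C₀ : Subgroup G, IsMulCommutative C₀ ∧ ∀ q : ℕ, q ∈ tau2 M → q ∣ Nat.card E → z q ∈ C₀ := by
    by_cases hc : ∃ p : ℕ, p ∈ tau2 M ∧ p ∣ Nat.card E ∧ ∃ _ : Fact p.Prime, ¬ ∀ S : Sylow p G, IsMulCommutative (S : Subgroup G)
    · obtain ⟨p, hτ, hd, hpf, hna⟩ := hc
      obtain ⟨_, hP, hzP, -⟩ := hPz p hτ
      obtain ⟨A, T, hAP⟩ := exists_T2 hG hM hE hτ hP
      have h1 := (Cfsg.Agent.S1419.result hG M hM E hE p hτ (sylow_dichotomy hna) A ⟨hAP.trans hP.1, T.ea, T.card⟩).1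
      refine ⟨zpowers (z p), ?_, ?_⟩
      · refine ⟨⟨?_⟩⟩
        rintro ⟨a, ha⟩ ⟨b, hb⟩
        apply Subtype.ext
        obtain ⟨i, rfl⟩ := mem_zpowers_iff.mp ha
        obtain ⟨j, rfl⟩ := mem_zpowers_iff.mp hb
        exact ((Commute.refl (z p)).zpow_zpow i j).eq
      · intro q hq _
        have : q = p := by
          rw [h1] at hq
          exact hq
        rw [this]
        exact mem_zpowers _
    · refine ⟨E ⊓ centralizer ((⁅E, E⁆ : Subgroup G) : Set G), A0_comm hG hM hE, ?_⟩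
      intro q hq hd
      obtain ⟨hqf, hP, hzP, -⟩ := hPz q hq
      obtain ⟨A, T, hAP⟩ := exists_T2 hG hM hE hq hP
      have hab : ∀ S : Sylow q G, IsMulCommutative (S : Subgroup G) := by
        by_contra hna
        exact hc ⟨q, hq, hd, hqf, hna⟩
      obtain ⟨S, hPS⟩ := hP.2.1.exists_le_sylow
      have hAE : A ≤ E := hAP.trans hP.1
      refine ⟨hP.1 hzP, comm_der hG hM hE T hAE hAP hP hzP (fun r _ hrq c' hc' hj =>
        comm_case1 hG hM hE T hAE hAP hP S hPS (hab S) hzP r hrq hc' hj)⟩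
  obtain ⟨C₀, hC₀c, hC₀z⟩ := hC₀
  have hzE : ∀ q : ℕ, q ∈ tau2 M → z q ∈ E := fun q hq => by
    obtain ⟨_, hP, hzP, -⟩ := hPz q hq
    exact hP.1 hzP
  have hzq : ∀ q : ℕ, q ∈ tau2 M → ∀ r : ℕ, r.Prime → r ∣ orderOf (z q) → r = q := by
    intro q hq r hr hd
    obtain ⟨hqf, hP, hzP, -⟩ := hPz q hq
    obtain ⟨k, hk⟩ := hP.2.1 ⟨z q, hzP⟩
    have h1 : z q ^ q ^ k = 1 := congrArg Subtype.val hk
    exact (Nat.prime_dvd_prime_iff_eq hr hq.1).mp (hr.dvd_of_dvd_pow (hd.trans (orderOf_dvd_of_pow_eq_one h1)))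
  -- the product of the cyclic subgroups
  have hZ : ∀ s : Finset ℕ, (∀ q ∈ s, q ∈ tau2 M ∧ q ∣ Nat.card E) → ∃ Z : Subgroup G, Z ≤ C₀ ∧ Z ≤ E ∧
      f ∈ normalizer (Z : Set G) ∧ Good M Z ∧ (∀ q : ℕ, q.Prime → q ∣ Nat.card Z → q ∈ s) ∧ ∀ q ∈ s, z q ∈ Z := by
    intro s
    induction s using Finset.induction_on with
    | empty =>
      intro _
      refine ⟨⊥, bot_le, bot_le, ?_, ?_, ?_, by simp⟩
      · apply mem_normalizer_of_forall
        intro x hx
        rw [Subgroup.mem_bot] at hx ⊢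
        rw [hx]; group
      · intro e he he1
        exact absurd he he1
      · intro q hq hd
        rw [Subgroup.card_bot] at hd
        exact absurd (Nat.dvd_one.mp hd) hq.ne_one
    | insert q s hqs ih =>
      intro hs
      obtain ⟨Z, hZC, hZE, hfZ, hZg, hZp, hZm⟩ := ih (fun r hr => hs r (Finset.mem_insert_of_mem hr))
      obtain ⟨hq, hqd⟩ := hs q (Finset.mem_insert_self q s)
      obtain ⟨hqf, hP, hzP, -, hfz, hzg⟩ := hPz q hq
      have hzC := hC₀z q hq hqd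
      have hYn : zpowers (z q) ≤ normalizer (Z : Set G) := by
        rw [zpowers_le]
        apply mem_normalizer_of_forall
        intro x hx
        have : z q * x = x * z q := congrArg Subtype.val (hC₀c.is_comm.comm (⟨z q, hzC⟩ : C₀) ⟨x, hZC hx⟩)
        rw [this]
        simpa using hx
      have hcop : (Nat.card Z).Coprime (Nat.card (zpowers (z q))) := by
        rw [Nat.card_zpowers]
        apply Nat.coprime_of_dvd
        intro r hr h1 h2
        rw [hzq q hq r hr h2] at h1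
        exact hqs (hZp q hq.1 h1)
      refine ⟨Z ⊔ zpowers (z q), sup_le hZC (zpowers_le.mpr hzC), sup_le hZE (zpowers_le.mpr (hzE q hq)),
        normalizer_sup_mem hfZ (mem_normalizer_zpowers hfz),
        good_sup (hZE.trans hE.1) ((zpowers_le.mpr (hzE q hq)).trans hE.1) hYn hcop hZg hzg, ?_, ?_⟩
      · intro r hr hd
        have h1 := card_sup_mul_card_inf hYn
        rw [sup_comm] at h1
        have h2 : r ∣ Nat.card (zpowers (z q)) * Nat.card Z := by
          rw [← h1]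
          exact hd.trans (Dvd.intro _ rfl)
        rcases (Nat.Prime.dvd_mul hr).mp h2 with h3 | h3
        · rw [Nat.card_zpowers] at h3
          rw [hzq q hq r hr h3]
          exact Finset.mem_insert_self q s
        · exact Finset.mem_insert_of_mem (hZp r hr h3)
      · intro r hr
        rcases Finset.mem_insert.mp hr with rfl | h
        · exact Subgroup.mem_sup_right (mem_zpowers _)
        · exact Subgroup.mem_sup_left (hZm r h)
  set π₂ : Finset ℕ := (Nat.card E).primeFactors.filter (· ∈ tau2 M) with hπ₂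
  obtain ⟨Z, hZC, hZE, hfZ, hZg, hZp, hZm⟩ := hZ π₂ (by
    intro q hq
    rw [hπ₂, Finset.mem_filter, Nat.mem_primeFactors] at hq
    exact ⟨hq.2, hq.1.2.1⟩)
  have hZτ : ∀ q : ℕ, q.Prime → q ∣ Nat.card Z → q ∈ tau2 M := by
    intro q hq hd
    have := hZp q hq hd
    rw [hπ₂, Finset.mem_filter] at this
    exact this.2
  -- goodness
  have hE₃g : Good M E₃ := by
    intro e he he1
    apply hH e (hE₃.1 he) he1
    intro s hs hd
    refine Or.inr (hE₃.2.1 s hs (hd.trans ?_))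
    have := orderOf_dvd_natCard (⟨e, he⟩ : E₃)
    rwa [Subgroup.orderOf_mk] at this
  have hfg : Good M (zpowers f) := by
    intro e he he1
    apply hH e ((zpowers_le.mpr hfE) he) he1
    intro s hs hd
    exact Or.inl (hfτ s hs (hd.trans (orderOf_dvd_of_mem_zpowers he)))
  have hZn : Z ≤ normalizer (E₃ : Set G) := hZE.trans hE₃n
  have hc3 : (Nat.card E₃).Coprime (Nat.card Z) := by
    apply Nat.coprime_of_dvd
    intro r hr h1 h2
    exact (hZτ r hr h2).2.2.2 (hE₃.2.1 r hr h1).2.2.2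
  have hN₁g : Good M (E₃ ⊔ Z) := good_sup (hE₃.1.trans hE.1) (hZE.trans hE.1) hZn hc3 hE₃g hZg
  have hN₁E : E₃ ⊔ Z ≤ E := sup_le hE₃.1 hZE
  have hfN₁ : zpowers f ≤ normalizer ((E₃ ⊔ Z : Subgroup G) : Set G) :=
    zpowers_le.mpr (normalizer_sup_mem (hE₃n hfE) hfZ)
  have hc4 : (Nat.card ↥(E₃ ⊔ Z)).Coprime (Nat.card (zpowers f)) := by
    rw [Nat.card_zpowers]
    apply Nat.coprime_of_dvd
    intro r hr h1 h2
    have hτ1 := hfτ r hr h2
    have h3 := card_sup_mul_card_inf hZn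
    rw [sup_comm] at h3
    have h4 : r ∣ Nat.card Z * Nat.card E₃ := by
      rw [← h3]
      exact h1.trans (Dvd.intro _ rfl)
    rcases (Nat.Prime.dvd_mul hr).mp h4 with h5 | h5
    · exact (hZτ r hr h5).2.2.2 hτ1.2.2.2.2
    · exact hτ1.2.2.2.1 (hE₃.2.1 r hr h5).2.2.1
  have hE₀g : Good M ((E₃ ⊔ Z) ⊔ zpowers f) :=
    good_sup (hN₁E.trans hE.1) ((zpowers_le.mpr hfE).trans hE.1) hfN₁ hc4 hN₁g hfg
  have hE₀E : (E₃ ⊔ Z) ⊔ zpowers f ≤ E := sup_le hN₁E (zpowers_le.mpr hfE)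
  refine ⟨(E₃ ⊔ Z) ⊔ zpowers f, hE₀E, ?_, hE₀g⟩
  set E₀ : Subgroup G := (E₃ ⊔ Z) ⊔ zpowers f with hE₀
  set N : ℕ := Monoid.exponent E₀ with hN
  have hdN : ∀ y ∈ E₀, orderOf y ∣ N := by
    intro y hy
    have := Monoid.order_dvd_exponent (⟨y, hy⟩ : E₀)
    rwa [Subgroup.orderOf_mk] at this
  apply Nat.dvd_antisymm
  · apply Monoid.exponent_dvd_of_forall_pow_eq_one
    intro y
    have := Monoid.pow_exponent_eq_one (⟨y, hE₀E y.2⟩ : E)
    have h2 : (y : G) ^ Monoid.exponent E = 1 := congrArg Subtype.val this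
    exact Subtype.ext h2
  · apply Monoid.exponent_dvd_of_forall_pow_eq_one
    intro g
    apply Subtype.ext
    show (g : G) ^ N = 1
    apply orderOf_dvd_iff_pow_eq_one.mp
    rw [Nat.dvd_iff_prime_pow_dvd_dvd]
    intro s k hs hsk
    rcases Nat.eq_zero_or_pos k with rfl | hk
    · simp
    haveI : Fact s.Prime := ⟨hs⟩
    have hsd : s ^ k ∣ orderOf (g : G) := hsk
    have hyo : orderOf ((g : G) ^ (orderOf (g : G) / s ^ k)) = s ^ k :=
      orderOf_pow_orderOf_div (orderOf_pos _).ne' hsd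
    set y := (g : G) ^ (orderOf (g : G) / s ^ k) with hy
    have hyE : y ∈ E := pow_mem g.2 _
    have hsy : s ∣ orderOf y := by
      rw [hyo]
      exact dvd_pow_self s hk.ne'
    have hhall : ∀ {π : Set ℕ} {H : Subgroup G}, IsPiHallOf π H E → s ∈ π → H ≤ E₀ → s ^ k ∣ N := by
      intro π H hHall hsπ hHE
      obtain ⟨Q, hQ⟩ := exists_isSylowIn s H
      have hQE : IsSylowIn s Q E := isSylowIn_of_hall hQ hHall.1 (hHall.2.2 s hs hsπ)
      obtain ⟨c, hc, hcy⟩ := exists_conj_mem_sylow hQE hyE hyo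
      have := hdN _ (hHE (hQ.1 hcy))
      rwa [orderOf_conj', hyo] at this
    by_cases hr : PRankLE s 1 M
    · rcases tau13_of_rank1 hG hM hE hyE hs hsy hr with h1 | h3
      · exact hhall hE₁ h1 (hE₁f.trans le_sup_right)
      · exact hhall hE₃ h3 (le_sup_left.trans le_sup_left)
    · have hσ := not_sigma_of_orderOf hG hM hE hyE hs hsy
      have hτ : s ∈ tau2 M := ⟨hs, hσ, rank2_of_not_sigma hG hM hs hσ, hr⟩
      obtain ⟨_, hP, hzP, hmax, -⟩ := hPz s hτ
      obtain ⟨c, hc, hcy⟩ := exists_conj_mem_sylow hP hyE hyo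
      have h1 := hmax _ hcy
      rw [orderOf_conj', hyo] at h1
      have hsE : s ∣ Nat.card E := by
        have := orderOf_dvd_natCard (⟨y, hyE⟩ : E)
        rw [Subgroup.orderOf_mk] at this
        exact hsy.trans this
      have hsπ : s ∈ π₂ := by
        rw [hπ₂, Finset.mem_filter, Nat.mem_primeFactors]
        exact ⟨⟨hs, hsE, Nat.card_pos.ne'⟩, hτ⟩
      exact h1.trans (hdN _ ((le_sup_right.trans le_sup_left : Z ≤ E₀) (hZm s hsπ)))

end Compl

end Cfsg.Agent.Lib.BGE0
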