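import Mathlib
import Cfsg.Agent.Lib.BGE0E
import Cfsg.Agent.Lib.BGCent2

/-!
# Bender-Glauberman: the standard factorisation `M = K U M_σ`: `U`, the elements with fixed points and `U₀`.
-/

set_option autoImplicit false
set_option linter.unusedSectionVars false
set_option linter.unusedVariables false
set_option linter.style.haveILetI false
set_option linter.unusedSimpArgs false

namespace Cfsg.Agent.Lib.BGU0

open Cfsg Subgroup Cfsg.Agent.Lib.CoprimeInv Cfsg.Agent.Lib.BGTrans Cfsg.Agent.Lib.BGTrans2 Cfsg.Agent.Lib.BGUniq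
  Cfsg.Agent.Lib.BGUniq2 Cfsg.Agent.Lib.BGTau1 Cfsg.Agent.Lib.BGTau2
  Cfsg.Agent.Lib.BGTau3 Cfsg.Agent.Lib.BGTau4 Cfsg.Agent.Lib.BGTau5 Cfsg.Agent.Lib.BGTau6
  Cfsg.Agent.Lib.BGUT1 Cfsg.Agent.Lib.BGM1
  Cfsg.Agent.Lib.BGUniq3 Cfsg.Agent.Lib.BGSigma3 Cfsg.Agent.Lib.BGSigma4 Cfsg.Agent.Lib.BGSigma2
  Cfsg.Agent.Lib.Glauberman Cfsg.Agent.Lib.BGFit2 Cfsg.Agent.Lib.BGTau7 Cfsg.Agent.Lib.BGM2
  Cfsg.Agent.Lib.BGE0
open scoped commutatorElement

universe u

variable {G : Type u} [Group G] [Finite G]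

section Decomp

variable {M K U : Subgroup G} (hG : IsMinSimpleOddOrder G) (hM : IsCoatom M) (hKU : IsSigmaDecomposition M K U)
include hG hM hKU

theorem K_inf_sigma : K ⊓ sigmaCore M = ⊥ := by
  rw [eq_bot_iff]
  intro x hx
  obtain ⟨hxK, hxσ⟩ := Subgroup.mem_inf.mp hx
  by_contra hx1
  have h1 : orderOf x ≠ 1 := fun h => hx1 (orderOf_eq_one_iff.mp h)
  obtain ⟨s, hs, hsd⟩ := Nat.exists_prime_and_dvd h1
  have h2 : s ∣ Nat.card K := by
    have := orderOf_dvd_natCard (⟨x, hxK⟩ : K)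
    rw [Subgroup.orderOf_mk] at this
    exact hsd.trans this
  have h3 : s ∣ Nat.card (sigmaCore M) := by
    have := orderOf_dvd_natCard (⟨x, hxσ⟩ : sigmaCore M)
    rw [Subgroup.orderOf_mk] at this
    exact hsd.trans this
  exact (hKU.hall.2.1 s hs h2).2.2.1 (primes_sigmaCore s hs h3)

theorem card_decomp : Nat.card U * (Nat.card K * Nat.card (sigmaCore M)) = Nat.card M := by
  have h1 := Cfsg.Agent.Lib.OddOrderCore.card_mul_card_of_isComplIn hKU.compl
  have hKn : K ≤ normalizer (sigmaCore M : Set G) := hKU.hall.1.trans le_normalizer_sigmaCore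
  have h2 := card_sup_mul_card_inf hKn
  rw [K_inf_sigma hG hM hKU, Subgroup.card_bot, mul_one] at h2
  rw [← h2, h1]

/-- The primes of `U`. -/
theorem primes_U {q : ℕ} (hq : q.Prime) (hd : q ∣ Nat.card U) : q ∉ kappa M ∧ q ∉ sigma M := by
  have hc := card_decomp hG hM hKU
  constructor
  · intro hκ
    apply hKU.hall.2.2 q hq hκ
    have h1 : Nat.card (K.subgroupOf M) * (K.subgroupOf M).index = Nat.card M := Subgroup.card_mul_index _
    rw [card_subgroupOf_of_le hKU.hall.1] at h1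
    have h2 : (K.subgroupOf M).index = K.relIndex M := rfl
    rw [h2] at h1
    have h3 : K.relIndex M = Nat.card U * Nat.card (sigmaCore M) := by
      apply Nat.eq_of_mul_eq_mul_left (Nat.card_pos (α := K))
      rw [h1, ← hc]
      ring
    rw [h3]
    exact hd.trans (Dvd.intro _ rfl)
  · intro hσ
    apply (sigma_hall hG hM).1.2.2 q hq hσ
    have h1 : Nat.card ((sigmaCore M).subgroupOf M) * ((sigmaCore M).subgroupOf M).index = Nat.card M :=
      Subgroup.card_mul_index _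
    rw [card_subgroupOf_of_le sigmaCore_le] at h1
    have h2 : ((sigmaCore M).subgroupOf M).index = (sigmaCore M).relIndex M := rfl
    rw [h2] at h1
    have h3 : (sigmaCore M).relIndex M = Nat.card U * Nat.card K := by
      apply Nat.eq_of_mul_eq_mul_left (Nat.card_pos (α := sigmaCore M))
      rw [h1, ← hc]
      ring
    rw [h3]
    exact hd.trans (Dvd.intro _ rfl)

/-- `U` is a Hall subgroup of `M`. -/
theorem U_hall : IsPiHallOf {q | q.Prime ∧ q ∉ kappa M ∧ q ∉ sigma M} U M := by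
  refine ⟨hKU.compl.1, fun q hq hd => ⟨hq, primes_U hG hM hKU hq hd⟩, ?_⟩
  rintro q hq ⟨-, hκ, hσ⟩ hd
  have hc := card_decomp hG hM hKU
  have h1 : Nat.card (U.subgroupOf M) * (U.subgroupOf M).index = Nat.card M := Subgroup.card_mul_index _
  rw [card_subgroupOf_of_le hKU.compl.1] at h1
  have h2 : (U.subgroupOf M).index = U.relIndex M := rfl
  rw [h2] at h1
  have h3 : U.relIndex M = Nat.card K * Nat.card (sigmaCore M) :=
    Nat.eq_of_mul_eq_mul_left (Nat.card_pos (α := U)) (by rw [h1, hc])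
  rw [h3] at hd
  rcases (Nat.Prime.dvd_mul hq).mp hd with h | h
  · exact hκ (hKU.hall.2.1 q hq h)
  · exact hσ (primes_sigmaCore q hq h)

end Decomp

/-- Elements of rank one primes outside `κ(M)` act freely. -/
theorem free_of_rank1 {M : Subgroup G} (hG : IsMinSimpleOddOrder G) (hM : IsCoatom M) {s k : ℕ} [hs : Fact s.Prime]
    {w : G} (hwM : w ∈ M) (hw1 : w ≠ 1) (hw : w ^ s ^ k = 1) (hσ : s ∉ sigma M) (hκ : s ∉ kappa M)
    (hr : PRankLE s 1 M) : Free M w := by
  have hzp := isPGroup_zpowers_of_pow' hw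
  obtain ⟨S, hS, hwS⟩ := exists_isSylowIn_ge s (zpowers_le.mpr hwM) hzp
  have hdM : s ∣ Nat.card M := by
    have hne : zpowers w ≠ ⊥ := by
      rw [Ne, zpowers_eq_bot]
      exact hw1
    exact (dvd_card_of_isPGroup hzp hne).trans (Subgroup.card_dvd_of_le (zpowers_le.mpr hwM))
  have h2 : s ≠ 2 := prime_ne_two_of_dvd hG (hdM.trans (Subgroup.card_subgroup_dvd_card _))
  have hcyc : ∀ P : Sylow s M, IsCyclic P := fun P =>
    isCyclic_of_prank_one h2 P.isPGroup' (BGUniq2.prankLE_of_injective (P : Subgroup M).subtype (P : Subgroup M).subtype_injective hr)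
  rw [Free, eq_bot_iff]
  intro y hy
  obtain ⟨hyσ, hyc⟩ := Subgroup.mem_inf.mp hy
  by_contra hy1
  exact free_of_not_kappa hS hdM hσ hκ hcyc (hwS (mem_zpowers w)) hw1 hyσ hy1
    (Subgroup.mem_centralizer_singleton_iff.mp hyc).symm

/-- If `κ(M)` is empty, a complement acts almost regularly. -/
theorem almostReg_of_bot {M K U : Subgroup G} (hG : IsMinSimpleOddOrder G) (hM : IsCoatom M)
    (hKU : IsSigmaDecomposition M K U) (hK : K = ⊥) : IsComplIn U (sigmaCore M) M ∧ AlmostReg M U := by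
  have hE : IsComplIn U (sigmaCore M) M := by
    have := hKU.compl
    rwa [hK, bot_sup_eq] at this
  refine ⟨hE, ?_⟩
  intro e he he1 hprimes
  have h1 : orderOf e ≠ 1 := fun h => he1 (orderOf_eq_one_iff.mp h)
  obtain ⟨s, hs, hsd⟩ := Nat.exists_prime_and_dvd h1
  haveI : Fact s.Prime := ⟨hs⟩
  obtain ⟨m, hm⟩ := hsd
  have hpos : 0 < orderOf e := orderOf_pos e
  have hm0 : m ≠ 0 := by
    rintro rfl
    rw [mul_zero] at hm
    exact hpos.ne' hm
  have h2 : orderOf (e ^ m) = s := by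
    rw [orderOf_pow' e hm0, hm, Nat.gcd_eq_right (Dvd.intro_left _ rfl)]
    exact Nat.mul_div_cancel s (Nat.pos_of_ne_zero hm0)
  have h3 : e ^ m ≠ 1 := by
    intro h4
    rw [h4, orderOf_one] at h2
    exact hs.one_lt.ne h2
  have h4 : (e ^ m) ^ s ^ 1 = 1 := by
    rw [pow_one, ← h2]
    exact pow_orderOf_eq_one _
  have hτ := hprimes s hs (Dvd.intro _ hm.symm)
  have hr : PRankLE s 1 M := by
    rcases hτ with h | h
    · exact h.2.2.2.2
    · exact h.2.2.2
  have hσ : s ∉ sigma M := by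
    rcases hτ with h | h
    · exact h.2.1
    · exact h.2.1
  have hκ : s ∉ kappa M := by
    intro hκ
    have h5 := hKU.hall.2.2 s hs hκ
    rw [hK, Subgroup.relIndex_bot_left] at h5
    exact h5 hκ.2.1
  have hfree := free_of_rank1 hG hM (hE.1 (pow_mem he m)) h3 h4 hσ hκ hr
  exact Free.of_mem_zpowers hfree (pow_mem (mem_zpowers e) m)

/-- The generated subgroup of elements of `U` with fixed points, if `K = 1`. -/
theorem closure_comm_of_bot {M K U : Subgroup G} (hG : IsMinSimpleOddOrder G) (hM : IsCoatom M)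
    (hKU : IsSigmaDecomposition M K U) (hK : K = ⊥) : IsMulCommutative (closure ((U : Set G) ∩ sigmaHat M)) := by
  obtain ⟨hE, hH⟩ := almostReg_of_bot hG hM hKU hK
  obtain ⟨A₀, hA₀, -, hab, hx⟩ := exists_A0 hG hM hE hH
  have hle : closure ((U : Set G) ∩ sigmaHat M) ≤ A₀ := by
    rw [closure_le]
    rintro a ⟨haU, -, y, hy, hy1, hay⟩
    exact hx y hy hy1 (Subgroup.mem_inf.mpr ⟨haU, Subgroup.mem_centralizer_singleton_iff.mpr hay⟩)
  refine ⟨⟨?_⟩⟩
  rintro ⟨a, ha⟩ ⟨b, hb⟩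
  apply Subtype.ext
  show a * b = b * a
  exact congrArg Subtype.val (hab.is_comm.comm (⟨a, hle ha⟩ : A₀) ⟨b, hle hb⟩)

/-- The generated subgroup of elements of `U` with fixed points, if `U` is abelian. -/
theorem closure_comm_of_comm {M U : Subgroup G} (hU : IsMulCommutative U) :
    IsMulCommutative (closure ((U : Set G) ∩ sigmaHat M)) := by
  have hle : closure ((U : Set G) ∩ sigmaHat M) ≤ U := by
    rw [closure_le]
    exact Set.inter_subset_left
  refine ⟨⟨?_⟩⟩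
  rintro ⟨a, ha⟩ ⟨b, hb⟩
  apply Subtype.ext
  show a * b = b * a
  exact congrArg Subtype.val (hU.is_comm.comm (⟨a, hle ha⟩ : U) ⟨b, hle hb⟩)

/-- `U` is abelian if `M` has an abelian Hall `(κ ∪ σ)'`-subgroup. -/
theorem U_comm_of_hall {M K U U' : Subgroup G} (hG : IsMinSimpleOddOrder G) (hM : IsCoatom M)
    (hKU : IsSigmaDecomposition M K U) (hU' : IsMulCommutative U')
    (hU'H : IsPiHallOf {q | q.Prime ∧ q ∉ kappa M ∧ q ∉ sigma M} U' M) : IsMulCommutative U := by
  have hMs : Group.IsSolvable M := solvable_of_le_coatom hG hM le_rfl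
  obtain ⟨g, hg, hle⟩ := Cfsg.Agent.Lib.BGCent.exists_conj_hall hMs hU'H hKU.compl.1 (fun q hq hd => ⟨hq, primes_U hG hM hKU hq hd⟩)
  refine ⟨⟨?_⟩⟩
  rintro ⟨a, ha⟩ ⟨b, hb⟩
  apply Subtype.ext
  show a * b = b * a
  have h1 := hle ha
  have h2 := hle hb
  rw [mem_cj] at h1 h2
  have h3 : g⁻¹ * a * g * (g⁻¹ * b * g) = g⁻¹ * b * g * (g⁻¹ * a * g) :=
    congrArg Subtype.val (hU'.is_comm.comm (⟨_, h1⟩ : U') ⟨_, h2⟩)
  have e1 : a * b = g * (g⁻¹ * a * g * (g⁻¹ * b * g)) * g⁻¹ := by group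
  have e2 : b * a = g * (g⁻¹ * b * g * (g⁻¹ * a * g)) * g⁻¹ := by group
  rw [e1, e2, h3]

end Cfsg.Agent.Lib.BGU0
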