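import Mathlib
import Cfsg.Agent.Lib.BGZD
import Cfsg.Agent.Lib.FrobCompl

/-!
# Bender-Glauberman section 14: general lemmas for the signalizer of a `P₂`-subgroup.
-/

set_option autoImplicit false
set_option linter.unusedSectionVars false
set_option linter.unusedVariables false
set_option linter.style.haveILetI false
set_option linter.unusedSimpArgs false

namespace Cfsg.Agent.Lib.BGZE

open Cfsg Subgroup Cfsg.Agent.Lib.CoprimeInv Cfsg.Agent.Lib.BGTrans Cfsg.Agent.Lib.BGM1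
  Cfsg.Agent.Lib.BGSigma2 Cfsg.Agent.Lib.BGM2 Cfsg.Agent.Lib.BGZ1 Cfsg.Agent.Lib.OddOrderCore
  Cfsg.Agent.Lib.BGSigma4 Cfsg.Agent.Lib.BGZ2 Cfsg.Agent.Lib.BGZ3 Cfsg.Agent.Lib.BGZ4
  Cfsg.Agent.Lib.BGZ5 Cfsg.Agent.Lib.BGZ6 Cfsg.Agent.Lib.BGZ7 Cfsg.Agent.Lib.BGZ8
  Cfsg.Agent.Lib.BGTau7 Cfsg.Agent.Lib.BGZC Cfsg.Agent.Lib.BGZD

open scoped commutatorElement

universe u

variable {G : Type u} [Group G] [Finite G]

/-- The Frobenius count: with `K` free on `Y`, the kernel centralizes `Y`. -/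
theorem frob_fix {T E Y : Subgroup G} (hT1 : T ≠ ⊥) (hE1 : E ≠ ⊥) (hTE : T ⊓ E = ⊥)
    (hTn : E ≤ normalizer (T : Set G))
    (hfpf : ∀ e ∈ E, e ≠ 1 → T ⊓ centralizer ({e} : Set G) = ⊥)
    (hYn : T ⊔ E ≤ normalizer (Y : Set G)) (hs : Group.IsSolvable Y)
    (hcop : Nat.Coprime (Nat.card Y) (Nat.card ↥(T ⊔ E)))
    (hfree : Y ⊓ centralizer (E : Set G) = ⊥) : Y ≤ centralizer (T : Set G) := by
  classical
  have hUn : ∀ e ∈ E, ∀ u ∈ T, e * u * e⁻¹ ∈ T := fun e he u hu =>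
    (mem_normalizer_iff.mp (hTn he) u).mp hu
  have hf : ∀ e ∈ E, e ≠ 1 → ∀ u ∈ T, e * u = u * e → u = 1 := by
    intro e he he1 u hu heu
    have h1 : u ∈ T ⊓ centralizer ({e} : Set G) :=
      ⟨hu, mem_centralizer_singleton_iff.mpr heu.symm⟩
    rwa [hfpf e he he1, Subgroup.mem_bot] at h1
  have hHn : ∀ x ∈ T ⊔ E, ∀ h ∈ Y, x * h * x⁻¹ ∈ Y := fun x hx h hh =>
    (mem_normalizer_iff.mp (hYn hx) h).mp hh
  have hdisj : Y ⊓ (T ⊔ E) = ⊥ := (Subgroup.disjoint_of_coprime_natCard hcop).eq_bot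
  have hmain := Cfsg.Agent.S1545.result T E Y hT1 hE1 hTE hUn hf hHn hdisj hs hcop
  have h2 : Y ⊓ centralizer ((T ⊔ E : Subgroup G) : Set G) = ⊥ := by
    refine eq_bot_iff.mpr ?_
    rintro a ⟨haY, haC⟩
    have h3 : a ∈ Y ⊓ centralizer (E : Set G) :=
      ⟨haY, Subgroup.centralizer_le (show (E : Set G) ⊆ ((T ⊔ E : Subgroup G) : Set G) from
        le_sup_right (a := T) (b := E)) haC⟩
    rwa [hfree] at h3
  rw [h2, hfree, Subgroup.card_bot, one_pow, one_mul, one_mul] at hmain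
  have h4 : Y ⊓ centralizer (T : Set G) = Y :=
    Subgroup.eq_of_le_of_card_ge inf_le_left (le_of_eq hmain)
  exact inf_eq_left.mp h4

/-- In a fixed-point-free action of odd order, a subgroup of prime order is normal. -/
theorem le_normalizer_of_fpf {E Y K : Subgroup G} (hY1 : Y ≠ ⊥) (hEY : E ≤ normalizer (Y : Set G))
    (hs : Group.IsSolvable E) (hYs : Group.IsSolvable Y)
    (hfree : ∀ e ∈ E, e ≠ 1 → Y ⊓ centralizer ({e} : Set G) = ⊥)
    (hKE : K ≤ E) (hKp : (Nat.card K).Prime) (hodd : Odd (Nat.card E)) :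
    E ≤ normalizer (K : Set G) := by
  classical
  have hcop := Cfsg.Agent.Lib.FrobCompl.coprime_of_fpf Y E hEY hfree
  obtain ⟨V, hV, hVY, hVc, hEV⟩ := Cfsg.Agent.Lib.FrobCompl.exists_abelian_of_fpf Y E hY1 hEY hcop (Or.inl hs)
  have hfV : ∀ a ∈ E, a ≠ 1 → V ⊓ centralizer {a} = ⊥ := by
    intro a ha ha1
    rw [eq_bot_iff]
    calc V ⊓ centralizer {a} ≤ Y ⊓ centralizer {a} := inf_le_inf_right _ hVY
      _ = ⊥ := hfree a ha ha1
      _ ≤ ⊥ := le_rfl
  letI : CommGroup V := { (inferInstance : Group V) with mul_comm := hVc.is_comm.comm }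
  haveI : Nontrivial V := (Subgroup.nontrivial_iff_ne_bot V).mpr hV
  have hcyc : ∀ (q : ℕ) [Fact q.Prime] (T : Subgroup G), T ≤ E → IsPGroup q T → IsCyclic T := by
    intro q _ T hTE hT
    have hf' := Cfsg.Agent.Lib.FpfNorm.conjHom_fpf T V (hTE.trans hEV) (fun a ha => hfV a (hTE ha))
    rcases Cfsg.Agent.Lib.FrobCompl.cyclic_or_quaternion_of_fpf hT hf' with h | ⟨h2, n, ⟨e⟩⟩
    · exact h
    · subst h2
      have hd : Nat.card T ∣ Nat.card E := Subgroup.card_dvd_of_le hTE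
      obtain ⟨n', hn'⟩ := IsPGroup.iff_card.mp hT
      have hn0 : n' = 0 := by
        by_contra h0
        have h3 : 2 ∣ Nat.card E := (dvd_pow_self 2 h0).trans (hn' ▸ hd)
        exact (Nat.not_even_iff_odd.mpr hodd) (even_iff_two_dvd.mpr h3)
      rw [hn0, pow_zero] at hn'
      have h4 := Subgroup.card_eq_one.mp hn'
      rw [h4]
      infer_instance
  obtain ⟨k₀, hk₀, hk1, hKz, hko⟩ := exists_gen hKp
  set k := Nat.card K with hk
  haveI : Fact k.Prime := ⟨hKp⟩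
  have hKpg : IsPGroup k K := IsPGroup.of_card (n := 1) (by rw [pow_one])
  have hKn : K ≤ normalizer (K : Set G) := le_normalizer
  have hcomm : ∀ r : ℕ, r.Prime → ∀ u ∈ Cfsg.Agent.Lib.FitPair.Op r E, k₀ * u = u * k₀ := by
    intro r hr u hu
    haveI : Fact r.Prime := ⟨hr⟩
    set T := Cfsg.Agent.Lib.FitPair.Op r E with hT
    have hTE : T ≤ E := Cfsg.Agent.Lib.FitPair.Op_le r E
    have hTp : IsPGroup r T := Cfsg.Agent.Lib.FitPair.isPGroup_Op r E
    have hTc := hcyc r T hTE hTp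
    have hKNT : K ≤ normalizer (T : Set G) := hKE.trans (Cfsg.Agent.Lib.FitPair.le_normalizer_Op r E)
    by_cases hrk : r = k
    · have h1 : IsPGroup k ↥(K ⊔ T : Subgroup G) := IsPGroup.to_sup_of_normal_right' hKpg (hrk ▸ hTp) hKNT
      have h2 := hcyc k (K ⊔ T) (sup_le hKE hTE) h1
      haveI := h2
      exact setLike_mul_comm (mem_sup_left hk₀) (mem_sup_right hu)
    · by_cases hfix : ∃ t ∈ T, t ≠ 1 ∧ k₀ * t = t * k₀
      · obtain ⟨t, ht, ht1, htc⟩ := hfix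
        have hko' : ¬ r ∣ orderOf k₀ := by
          rw [hko]
          intro hd
          exact hrk ((Nat.prime_dvd_prime_iff_eq hr hKp).mp hd)
        have hfixt : k₀ * t * k₀⁻¹ = t := by rw [htc]; group
        have h3 := centralizes_cyclic_coprime hTc hTp (hKNT hk₀) hko' ht ht1 hfixt hu
        calc k₀ * u = (k₀ * u * k₀⁻¹) * k₀ := by group
          _ = u * k₀ := by rw [h3]
      · push Not at hfix
        by_cases hT1 : T = ⊥
        · rw [hT1, Subgroup.mem_bot] at hu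
          rw [hu]
          group
        · exfalso
          have hTK : T ⊓ K = ⊥ := by
            apply (Subgroup.disjoint_of_coprime_natCard _).eq_bot
            obtain ⟨n, hn⟩ := IsPGroup.iff_card.mp hTp
            rw [hn]
            exact Nat.Coprime.pow_left n ((Nat.coprime_primes hr hKp).mpr hrk)
          have hfpf : ∀ e ∈ K, e ≠ 1 → T ⊓ centralizer ({e} : Set G) = ⊥ := by
            intro e he he1
            refine (Subgroup.eq_bot_iff_forall _).mpr ?_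
            rintro t ⟨ht, htc⟩
            by_contra ht1
            have hK' : K = zpowers e := eq_zpowers_of_prime hKp he he1
            have hk₀e : k₀ ∈ zpowers e := hK' ▸ hk₀
            obtain ⟨n, hn⟩ := hk₀e
            have h5 : Commute e t :=
              (mem_centralizer_singleton_iff.mp (show t ∈ centralizer ({e} : Set G) from htc)).symm
            have h6 : k₀ * t = t * k₀ := by
              have hn' : e ^ n = k₀ := hn
              rw [← hn']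
              exact (h5.zpow_left n).eq
            exact hfix t ht ht1 h6
          have hYC := frob_fix hT1 (fun h => hk1 (by rw [h, Subgroup.mem_bot] at hk₀; exact hk₀)) hTK hKNT hfpf
            ((sup_le hTE hKE).trans hEY) hYs
            (Nat.Coprime.coprime_dvd_right (Subgroup.card_dvd_of_le (sup_le hTE hKE)) hcop.symm)
            (by
              refine (Subgroup.eq_bot_iff_forall _).mpr ?_
              rintro y ⟨hy, hyC⟩
              have h7 : y ∈ Y ⊓ centralizer ({k₀} : Set G) :=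
                ⟨hy, mem_centralizer_singleton_iff.mpr (mem_centralizer_iff.mp hyC k₀ hk₀).symm⟩
              rwa [hfree k₀ (hKE hk₀) hk1, Subgroup.mem_bot] at h7)
          obtain ⟨t, ht, ht1⟩ := exists_mem_ne_one hT1
          obtain ⟨y, hy, hy1⟩ := exists_mem_ne_one hY1
          have h8 : y ∈ Y ⊓ centralizer ({t} : Set G) :=
            ⟨hy, mem_centralizer_singleton_iff.mpr (mem_centralizer_iff.mp (hYC hy) t ht).symm⟩
          rw [hfree t (hTE ht) ht1, Subgroup.mem_bot] at h8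
          exact hy1 h8
  have hF : k₀ ∈ fittingOf E := Cfsg.Agent.Lib.FitPair.mem_fittingOf_of_commute_Op hs (hKE hk₀) hcomm
  have hkO : k₀ ∈ Cfsg.Agent.Lib.FitPair.Op k E :=
    Cfsg.Agent.Lib.FitPair.mem_Op_of_pelt hF ⟨1, by rw [pow_one, ← hko]; exact pow_orderOf_eq_one k₀⟩
  have hOc := hcyc k _ (Cfsg.Agent.Lib.FitPair.Op_le k E) (Cfsg.Agent.Lib.FitPair.isPGroup_Op k E)
  have hin : ∀ e ∈ E, ∀ h ∈ K, e * h * e⁻¹ ∈ K := by
    intro e he h hh
    have h1 : e * k₀ * e⁻¹ ∈ Cfsg.Agent.Lib.FitPair.Op k E :=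
      (mem_normalizer_iff.mp (Cfsg.Agent.Lib.FitPair.le_normalizer_Op k E he) k₀).mp hkO
    have h2 : orderOf (e * k₀ * e⁻¹) = k := by
      have h9 := MulEquiv.orderOf_eq (MulAut.conj e) k₀
      rw [MulAut.conj_apply] at h9
      rw [h9, hko]
    haveI := hOc
    have h3 : zpowers (⟨e * k₀ * e⁻¹, h1⟩ : Cfsg.Agent.Lib.FitPair.Op k E) = zpowers (⟨k₀, hkO⟩ : Cfsg.Agent.Lib.FitPair.Op k E) :=
      Cfsg.Agent.Lib.FrobCompl.zpowers_eq_of_orderOf_eq (by
        rw [Subgroup.orderOf_mk, Subgroup.orderOf_mk, h2, hko])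
    have h4 : (⟨e * k₀ * e⁻¹, h1⟩ : Cfsg.Agent.Lib.FitPair.Op k E) ∈ zpowers (⟨k₀, hkO⟩ : Cfsg.Agent.Lib.FitPair.Op k E) := by
      rw [← h3]
      exact mem_zpowers _
    obtain ⟨n, hn⟩ := h4
    have h5 : k₀ ^ n = e * k₀ * e⁻¹ := by
      have := congrArg Subtype.val hn
      simpa using this
    have h6 : e * k₀ * e⁻¹ ∈ K := by
      rw [← h5]
      exact zpow_mem hk₀ n
    rw [hKz] at hh
    obtain ⟨m, hm⟩ := hh
    have hm' : k₀ ^ m = h := hm
    rw [← hm', ← conj_zpow]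
    exact zpow_mem h6 m
  intro e he
  rw [mem_normalizer_iff]
  intro h
  constructor
  · exact hin e he h
  · intro hh
    have := hin e⁻¹ (inv_mem he) _ hh
    have e1 : e⁻¹ * (e * h * e⁻¹) * e⁻¹⁻¹ = h := by group
    rwa [e1] at this

/-- The normal Sylow subgroup of `M_σ` through `K*`. -/
theorem exists_Q (I : Inp G) {M K : Subgroup G} (h : Good M K) (hq : (Nat.card (kst M K)).Prime) :
    ∃ Q : Subgroup G, kst M K ≤ Q ∧ M ≤ normalizer (Q : Set G) ∧ IsPGroup (Nat.card (kst M K)) Q := by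
  classical
  have hG := I.hG
  have hM := h.hM
  have kf : Cfsg.Agent.Lib.BGCent.KappaFacts G := ⟨I.thmD, I.s30, I.s32⟩
  haveI hqf : Fact (Nat.card (kst M K)).Prime := ⟨hq⟩
  have hKsp : IsPGroup (Nat.card (kst M K)) (kst M K) := IsPGroup.of_card (n := 1) (by rw [pow_one])
  by_cases hne : fittingHallOf M = sigmaCore M
  · have hnil : Group.IsNilpotent (sigmaCore M) := by
      rw [← hne]
      have h1 := (Cfsg.Agent.Lib.OddOrderCore.fittingHall_mem ↥M).2.1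
      exact Group.nilpotent_of_mulEquiv
        (Subgroup.equivMapOfInjective (fittingHall ↥M) _ M.subtype_injective)
    refine ⟨Cfsg.Agent.Lib.FitPair.Op _ (sigmaCore M), ?_,
      le_normalizer_sigmaCore.trans (Cfsg.Agent.Lib.FitPair.normalizer_le_Op _ _),
      Cfsg.Agent.Lib.FitPair.isPGroup_Op _ _⟩
    intro x hx
    have hF : x ∈ fittingOf (sigmaCore M) :=
      Cfsg.Agent.Lib.BGFix.le_fittingOf (sigmaCore M) (sigmaCore M) le_rfl
        (fun k hk l hl => mul_mem (mul_mem hk hl) (inv_mem hk)) hnil (h.kst_le_core hx)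
    refine Cfsg.Agent.Lib.FitPair.mem_Op_of_pelt hF ⟨1, ?_⟩
    rw [pow_one]
    have h2 := pow_card_eq_one' (x := (⟨x, hx⟩ : kst M K))
    exact congrArg Subtype.val h2
  · obtain ⟨U, hd⟩ := Cfsg.Agent.Lib.BGCent.exists_decomposition hG kf hM (isCyclic_of_good I h) h.hall
    obtain ⟨hU, -, -, hqp', -, -, Q, hQF, hMQ, hQp, hQi, -⟩ :=
      Cfsg.Agent.Lib.H6F4.s1437_core hG hM hd hne (I.s30 M hM K h.hall h.ne).1 (fun _ => hq)
    have hQσ : Q ≤ sigmaCore M := hQF.trans (Cfsg.Agent.Lib.BGCent.fittingHallOf_le_sigmaCore hG hM)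
    refine ⟨Q, ?_, hMQ, hQp⟩
    have hKsN : kst M K ≤ normalizer (Q : Set G) := (h.kst_le_core.trans sigmaCore_le).trans hMQ
    have h1 : IsPGroup (Nat.card (kst M K)) ↥(kst M K ⊔ Q : Subgroup G) :=
      IsPGroup.to_sup_of_normal_right' hKsp hQp hKsN
    set R := kst M K ⊔ Q with hR
    have hRσ : R ≤ sigmaCore M := sup_le h.kst_le_core hQσ
    have hQR : Q ≤ R := le_sup_right
    have h3 : Q.relIndex R * R.relIndex (sigmaCore M) = Q.relIndex (sigmaCore M) :=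
      Subgroup.relIndex_mul_relIndex Q R _ hQR hRσ
    have h4 : ¬ Nat.card (kst M K) ∣ Q.relIndex R := fun hd => hQi (h3 ▸ hd.trans (Dvd.intro _ rfl))
    have h5 : Q.relIndex R = 1 := by
      obtain ⟨n, hn⟩ := IsPGroup.iff_card.mp h1
      have h6 : Q.relIndex R ∣ Nat.card (kst M K) ^ n := by
        rw [← hn]
        exact (Q.subgroupOf R).index_dvd_card
      obtain ⟨j, _, hj⟩ := (Nat.dvd_prime_pow hq).mp h6
      rw [hj] at h4 ⊢
      cases j with
      | zero => rfl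
      | succ j => exact absurd (dvd_pow_self _ (Nat.succ_ne_zero j)) h4
    have h7 : R ≤ Q := Subgroup.relIndex_eq_one.mp h5
    exact le_sup_left.trans h7

/-- `K*` centralizes any `K*`-invariant subgroup of `M` of coprime order. -/
theorem kst_comm (I : Inp G) {M K : Subgroup G} (h : Good M K) (hq : (Nat.card (kst M K)).Prime)
    {R : Subgroup G} (hRM : R ≤ M) (hRn : kst M K ≤ normalizer (R : Set G))
    (hcop : (Nat.card (kst M K)).Coprime (Nat.card R)) {a b : G} (ha : a ∈ kst M K) (hb : b ∈ R) :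
    a * b = b * a := by
  classical
  obtain ⟨Q, hKQ, hMQ, hQp⟩ := exists_Q I h hq
  haveI hqf : Fact (Nat.card (kst M K)).Prime := ⟨hq⟩
  have h1 : a * b * a⁻¹ * b⁻¹ ∈ Q := by
    have e : a * b * a⁻¹ * b⁻¹ = a * (b * a⁻¹ * b⁻¹) := by group
    rw [e]
    exact mul_mem (hKQ ha) ((mem_normalizer_iff.mp (hMQ (hRM hb)) a⁻¹).mp (inv_mem (hKQ ha)))
  have h2 : a * b * a⁻¹ * b⁻¹ ∈ R :=
    mul_mem ((mem_normalizer_iff.mp (hRn ha) b).mp hb) (inv_mem hb)
  have h3 : Q ⊓ R = ⊥ := by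
    apply (Subgroup.disjoint_of_coprime_natCard _).eq_bot
    obtain ⟨n, hn⟩ := IsPGroup.iff_card.mp hQp
    rw [hn]
    exact Nat.Coprime.pow_left n hcop
  have h4 : a * b * a⁻¹ * b⁻¹ ∈ Q ⊓ R := ⟨h1, h2⟩
  rw [h3, Subgroup.mem_bot] at h4
  calc a * b = (a * b * a⁻¹ * b⁻¹) * (b * a) := by group
    _ = b * a := by rw [h4, one_mul]

/-- The configuration: `H` is a maximal subgroup containing `K`, not conjugate to `M` or `M*`. -/
structure Cfg (M K U Ms H : Subgroup G) : Prop where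
  I : Inp G
  hKU : IsSigmaDecomposition M K U
  hK1 : K ≠ ⊥
  hU1 : U ≠ ⊥
  mate : Mate M K Ms
  hH : IsCoatom H
  hKH : K ≤ H
  hnM : ∀ g, H ≠ cj M g
  hnS : ∀ g, H ≠ cj Ms g

namespace Cfg

variable {M K U Ms H : Subgroup G} (c : Cfg M K U Ms H)
include c

theorem hG : IsMinSimpleOddOrder G := c.I.hG

theorem hM : IsCoatom M := c.mate.good.hM

theorem hMs : IsCoatom Ms := c.mate.goodS.hM

theorem hKp : (Nat.card K).Prime := (s1372 c.I M c.hM K U c.hKU c.hK1 c.hU1).1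

theorem K_le : K ≤ sigmaCore Ms := by
  have h := c.mate.goodS.kst_le_core
  rwa [c.mate.kst_eq] at h

theorem hkσ : Nat.card K ∈ sigma Ms :=
  primes_sigmaCore _ c.hKp (Subgroup.card_dvd_of_le c.K_le)

theorem sig_M {q : ℕ} (hq : q ∈ sigma M) : q ∉ sigma H := fun h => by
  obtain ⟨g, hg⟩ := c.I.thmD M H c.hM c.hH ⟨q, hq, h⟩
  exact c.hnM g hg

theorem sig_S {q : ℕ} (hq : q ∈ sigma Ms) : q ∉ sigma H := fun h => by
  obtain ⟨g, hg⟩ := c.I.thmD Ms H c.hMs c.hH ⟨q, hq, h⟩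
  exact c.hnS g hg

theorem hk_not : Nat.card K ∉ sigma H := c.sig_S c.hkσ

theorem kappa_empty : ¬ (kappa H).Nonempty := fun hκ => by
  obtain ⟨g, hg | hg⟩ := exists_conj_of_kappa c.I c.mate c.hH hκ
  · exact c.hnM g hg
  · exact c.hnS g hg

theorem H_ne_Ms : H ≠ Ms := by
  have h := c.hnS 1
  rwa [cj_one] at h

theorem cent_K : centralizer (K : Set G) ≤ Ms ∧
    ∀ L : Subgroup G, IsCoatom L → centralizer (K : Set G) ≤ L → L = Ms := by
  refine Cfsg.Agent.Lib.BGZ9.cent_part (X := K) c.I c.mate.symm ?_ c.hKp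
  exact c.mate.kst_eq.ge

theorem K_gen {k₀ : G} (hk₀ : k₀ ∈ K) (hk1 : k₀ ≠ 1) : K = zpowers k₀ :=
  eq_zpowers_of_prime c.hKp hk₀ hk1

theorem cent_k0 {k₀ : G} (hk₀ : k₀ ∈ K) (hk1 : k₀ ≠ 1) :
    centralizer ({k₀} : Set G) = centralizer (K : Set G) := by
  rw [c.K_gen hk₀ hk1, centralizer_zpowers]

theorem order_k0 {k₀ : G} (hk₀ : k₀ ∈ K) (hk1 : k₀ ≠ 1) : orderOf k₀ = Nat.card K := by
  rw [c.K_gen hk₀ hk1, Nat.card_zpowers]

theorem fpf {k₀ : G} (hk₀ : k₀ ∈ K) (hk1 : k₀ ≠ 1) : sigmaCore H ⊓ centralizer ({k₀} : Set G) = ⊥ := by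
  refine (Subgroup.eq_bot_iff_forall _).mpr ?_
  rintro y ⟨hy, hyC⟩
  by_contra hy1
  have hko := c.order_k0 hk₀ hk1
  have hk₀H : k₀ ∈ H ⊓ centralizer ({y} : Set G) :=
    ⟨c.hKH hk₀, mem_centralizer_singleton_iff.mpr
      (mem_centralizer_singleton_iff.mp (show y ∈ centralizer ({k₀} : Set G) from hyC)).symm⟩
  have hpr : ∀ p : ℕ, p.Prime → p ∣ orderOf k₀ → p ∉ sigma H := by
    intro p hp hd
    rw [hko] at hd
    rw [(Nat.prime_dvd_prime_iff_eq hp c.hKp).mp hd]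
    exact c.hk_not
  rcases c.I.s32 H c.hH y hy hy1 k₀ hk₀H hk1 hpr with ⟨h1, -⟩ | ⟨-, -, h3, h4⟩
  · exact c.kappa_empty ⟨_, h1 _ c.hKp (by rw [hko])⟩
  · rw [c.cent_k0 hk₀ hk1] at h3
    exact c.H_ne_Ms (c.cent_K.2 H c.hH h3)

theorem free : sigmaCore H ⊓ centralizer (K : Set G) = ⊥ := by
  obtain ⟨k₀, hk₀, hk1⟩ := exists_mem_ne_one c.hK1
  rw [← c.cent_k0 hk₀ hk1]
  exact c.fpf hk₀ hk1

theorem core_ne_bot : sigmaCore H ≠ ⊥ :=
  sigmaCore_ne_bot c.hG c.hH (Cfsg.Agent.Lib.BGSigma2.coatom_ne_bot c.hG c.hH)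

/-- A complement has no `σ`-primes. -/
theorem not_sigma_compl {E : Subgroup G} (hE : IsComplIn E (sigmaCore H) H) {r : ℕ} (hr : r.Prime)
    (hd : r ∣ Nat.card E) : r ∉ sigma H := by
  intro hσ
  apply (sigma_hall c.hG c.hH).1.2.2 r hr hσ
  rw [relIndex_eq_card_compl hE]
  exact hd

/-- The Frobenius count on `H_σ`. -/
theorem frob_H {T : Subgroup G} (hT1 : T ≠ ⊥) (hTH : T ≤ H) (hTn : K ≤ normalizer (T : Set G))
    (hpr : ∀ r : ℕ, r.Prime → r ∣ Nat.card T → r ∉ sigma H)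
    (hfpf : ∀ e ∈ K, e ≠ 1 → T ⊓ centralizer ({e} : Set G) = ⊥) :
    sigmaCore H ≤ centralizer (T : Set G) := by
  classical
  have hTK : T ⊓ K = ⊥ := by
    refine (Subgroup.eq_bot_iff_forall _).mpr ?_
    rintro a ⟨haT, haK⟩
    by_contra ha1
    have h1 : a ∈ T ⊓ centralizer ({a} : Set G) :=
      ⟨haT, mem_centralizer_singleton_iff.mpr rfl⟩
    rw [hfpf a haK ha1, Subgroup.mem_bot] at h1
    exact ha1 h1
  refine frob_fix hT1 c.hK1 hTK hTn hfpf ((sup_le hTH c.hKH).trans le_normalizer_sigmaCore)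
    (solvable_of_le_coatom c.hG c.hH sigmaCore_le) ?_ c.free
  refine Nat.coprime_of_dvd ?_
  intro r hr h1 h2
  have hrσ : r ∈ sigma H := primes_sigmaCore r hr h1
  rw [sup_comm] at h2
  have h3 := h2.trans (Cfsg.Agent.Lib.BGCent.card_sup_dvd hTn)
  rcases (Nat.Prime.dvd_mul hr).mp h3 with h4 | h4
  · rw [(Nat.prime_dvd_prime_iff_eq hr c.hKp).mp h4] at hrσ
    exact c.hk_not hrσ
  · exact hpr r hr h4 hrσ

/-- The main lemma: a complement of `H_σ` through `K` containing an element with a fixed point in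
`H_σ` lies in `M*`. -/
theorem compl_le_of_fix {E : Subgroup G} (hE : IsComplIn E (sigmaCore H) H) (hKE : K ≤ E) {x y : G}
    (hxE : x ∈ E) (hx1 : x ≠ 1) (hy : y ∈ sigmaCore H) (hy1 : y ≠ 1) (hxy : x * y = y * x) : E ≤ Ms := by
  classical
  have hG := c.hG
  have I := c.I
  -- a power of prime order
  obtain ⟨X, hXz, hXp⟩ := exists_prime_le (show zpowers x ≠ ⊥ from fun h => hx1 (zpowers_eq_bot.mp h))
  obtain ⟨x', hx'X, hx'1, hXz', hx'o⟩ := exists_gen hXp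
  set t := Nat.card X with ht
  haveI htf : Fact t.Prime := ⟨hXp⟩
  obtain ⟨n, hn⟩ := hXz hx'X
  have hn' : x ^ n = x' := hn
  have hx'E : x' ∈ E := by
    rw [← hn']
    exact zpow_mem hxE n
  have hx'y : x' * y = y * x' := by
    rw [← hn']
    exact ((show Commute x y from hxy).zpow_left n).eq
  have hx't : x' ^ t = 1 := by
    rw [← hx'o]
    exact pow_orderOf_eq_one x'
  have htE : t ∣ Nat.card E := by
    rw [← hx'o]
    exact Subgroup.orderOf_dvd_natCard E hx'E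
  have htσ : t ∉ sigma H := c.not_sigma_compl hE hXp htE
  have hx'H : x' ∈ H ⊓ centralizer ({y} : Set G) :=
    ⟨hE.1 hx'E, mem_centralizer_singleton_iff.mpr hx'y⟩
  have hpr : ∀ p : ℕ, p.Prime → p ∣ orderOf x' → p = t := by
    intro p hp hd
    rw [hx'o] at hd
    exact (Nat.prime_dvd_prime_iff_eq hp hXp).mp hd
  rcases I.s32 H c.hH y hy hy1 x' hx'H hx'1 (fun p hp hd => by rw [hpr p hp hd]; exact htσ) with
    ⟨h1, -⟩ | ⟨h1, -, hCx, hUx⟩
  · exact absurd ⟨_, h1 t hXp (by rw [hx'o])⟩ c.kappa_empty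
  have hτ : t ∈ tau2 H := h1 t hXp (by rw [hx'o])
  obtain ⟨A, hAE, ⟨T⟩⟩ := Cfsg.Agent.Lib.BGCent.exists_ea_in_compl hG c.hH hE hτ
  have hx'A : x' ∈ A := T.compl_omega hE hAE hx'E hx't
  have hNt : normalizer (A : Set G) ≠ ⊤ :=
    IsMin.normalizer_ne_top hG T.A_ne_bot (IsMin.isPGroup_ne_top hG T.isP)
  obtain ⟨L, hL, hLN⟩ := Cfsg.Agent.Lib.BGTau5.exists_coatom_ge hNt
  have htL : t ∈ sigma L := Cfsg.Agent.Lib.BGCent.sigma_of_norm T hL hLN
  have hEL : E ≤ L := (T.compl_norm hE hAE).trans hLN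
  have hAσ : A ≤ sigmaCore L :=
    Cfsg.Agent.Lib.BGTau7.le_sigmaCore_of_pgroup hG hL htL (hAE.trans hEL) T.isP
  have hKA : K ≤ normalizer (A : Set G) := hKE.trans (T.compl_norm hE hAE)
  have hAH : A ≤ H := hAE.trans hE.1
  -- `K` has a fixed point on `A`
  have hex : ∃ a ∈ A, a ≠ 1 ∧ a ∈ centralizer (K : Set G) := by
    by_contra hno
    push Not at hno
    have hfpf : ∀ e ∈ K, e ≠ 1 → A ⊓ centralizer ({e} : Set G) = ⊥ := by
      intro e he he1
      refine (Subgroup.eq_bot_iff_forall _).mpr ?_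
      rintro a ⟨haA, haC⟩
      by_contra ha1
      have haC' : a ∈ centralizer ({e} : Set G) := haC
      rw [c.cent_k0 he he1] at haC'
      exact hno a haA ha1 haC'
    have hpr' : ∀ r : ℕ, r.Prime → r ∣ Nat.card A → r ∉ sigma H := by
      intro r hr hd
      exact c.not_sigma_compl hE hr (hd.trans (Subgroup.card_dvd_of_le hAE))
    have hC := c.frob_H T.A_ne_bot hAH hKA hpr' hfpf
    apply c.core_ne_bot
    have hd := T.d
    rw [inf_eq_left.mpr hC] at hd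
    exact hd
  obtain ⟨a, ha, ha1, haC⟩ := hex
  obtain ⟨k₀, hk₀, hk1⟩ := exists_mem_ne_one c.hK1
  have hko := c.order_k0 hk₀ hk1
  have hKL : K ≤ L := hKE.trans hEL
  by_cases hkL : Nat.card K ∈ sigma L
  · -- `L = M*`
    obtain ⟨g, hg⟩ := I.thmD Ms L c.hMs hL ⟨_, c.hkσ, hkL⟩
    have hgM : g ∈ Ms := by
      by_contra hgM
      have hf4 := c.mate.goodS.f4 I hgM
      rw [c.mate.kst_eq] at hf4
      apply c.hK1
      rw [eq_bot_iff, ← hf4]
      intro z hz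
      refine ⟨hz, ?_⟩
      have h5 := hKL hz
      rw [hg] at h5
      exact h5
    have hLMs : L = Ms := by
      rw [hg]
      exact cj_eq_of_mem_normalizer (le_normalizer hgM)
    exact hLMs ▸ hEL
  · have hk₀L : k₀ ∈ L ⊓ centralizer ({a} : Set G) :=
      ⟨hKL hk₀, mem_centralizer_singleton_iff.mpr (mem_centralizer_iff.mp haC k₀ hk₀)⟩
    have hprk : ∀ p : ℕ, p.Prime → p ∣ orderOf k₀ → p = Nat.card K := by
      intro p hp hd
      rw [hko] at hd
      exact (Nat.prime_dvd_prime_iff_eq hp c.hKp).mp hd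
    rcases I.s32 L hL a (hAσ ha) ha1 k₀ hk₀L hk1 (fun p hp hd => by rw [hprk p hp hd]; exact hkL) with
      ⟨h2, -⟩ | ⟨-, -, hCk, -⟩
    · have hκ : (kappa L).Nonempty := ⟨_, h2 _ c.hKp (by rw [hko])⟩
      obtain ⟨g, hg | hg⟩ := exists_conj_of_kappa I c.mate hL hκ
      · -- `L` is conjugate to `M`
        exfalso
        have hx'σ : x' ∈ sigmaCore L := hAσ hx'A
        rw [hg, sigmaCore_cj, mem_cj] at hx'σ
        have hw1 : g⁻¹ * x' * g ≠ 1 := by
          intro h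
          apply hx'1
          have e : x' = g * (g⁻¹ * x' * g) * g⁻¹ := by group
          rw [e, h]
          group
        have hCw := core_cent_le I c.hM c.hKU c.hK1 c.hU1 hx'σ hw1
        have hCx' : centralizer ({x'} : Set G) ≤ L := by
          have e : x' = g * (g⁻¹ * x' * g) * g⁻¹ := by group
          rw [hg]
          conv_lhs => rw [e]
          rw [centralizer_cj_singleton]
          exact cj_mono hCw g
        exact c.hnM g ((hUx L hL hCx').symm.trans hg)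
      · exact absurd (by rw [hg, sigma_cj_eq]; exact c.hkσ) hkL
    · rw [c.cent_k0 hk₀ hk1] at hCk
      have hLMs := c.cent_K.2 L hL hCk
      exact absurd (hLMs ▸ c.hkσ) hkL

/-- If no element of the complement has a fixed point then `K` is normal in it. -/
theorem compl_le_of_free {E : Subgroup G} (hE : IsComplIn E (sigmaCore H) H) (hKE : K ≤ E)
    (hfree : ∀ e ∈ E, e ≠ 1 → sigmaCore H ⊓ centralizer ({e} : Set G) = ⊥) : E ≤ Ms := by
  have hG := c.hG
  have h1 : E ≤ normalizer (K : Set G) :=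
    le_normalizer_of_fpf c.core_ne_bot (hE.1.trans le_normalizer_sigmaCore)
      (solvable_of_le_coatom hG c.hH hE.1) (solvable_of_le_coatom hG c.hH sigmaCore_le) hfree hKE c.hKp
      (Odd.of_dvd_nat hG.1 (Subgroup.card_subgroup_dvd_card E))
  exact h1.trans (normalizer_le_of_unique hG c.hMs c.cent_K.1 c.cent_K.2)

theorem compl_le {E : Subgroup G} (hE : IsComplIn E (sigmaCore H) H) (hKE : K ≤ E) : E ≤ Ms := by
  by_cases hex : ∃ x ∈ E, x ≠ 1 ∧ ∃ y ∈ sigmaCore H, y ≠ 1 ∧ x * y = y * x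
  · obtain ⟨x, hx, hx1, y, hy, hy1, hxy⟩ := hex
    exact c.compl_le_of_fix hE hKE hx hx1 hy hy1 hxy
  · push Not at hex
    refine c.compl_le_of_free hE hKE ?_
    intro e he he1
    refine (Subgroup.eq_bot_iff_forall _).mpr ?_
    rintro y ⟨hy, hyC⟩
    by_contra hy1
    exact hex e he he1 y hy hy1 (mem_centralizer_singleton_iff.mp (show y ∈ centralizer ({e} : Set G) from hyC)).symm

/-- `H_σ ∩ M* = 1`. -/
theorem core_inf : sigmaCore H ⊓ Ms = ⊥ := by
  classical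
  refine (Subgroup.eq_bot_iff_forall _).mpr ?_
  rintro y ⟨hy, hyM⟩
  obtain ⟨k₀, hk₀, hk1⟩ := exists_mem_ne_one c.hK1
  have hdisj : sigmaCore H ⊓ sigmaCore Ms = ⊥ := by
    apply (Subgroup.disjoint_of_coprime_natCard _).eq_bot
    refine Nat.coprime_of_dvd ?_
    intro r hr h1 h2
    exact c.sig_S (primes_sigmaCore r hr h2) (primes_sigmaCore r hr h1)
  have h1 : y * k₀ * y⁻¹ * k₀⁻¹ ∈ sigmaCore Ms :=
    mul_mem ((mem_normalizer_iff.mp (le_normalizer_sigmaCore hyM) k₀).mp (c.K_le hk₀)) (inv_mem (c.K_le hk₀))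
  have h2 : y * k₀ * y⁻¹ * k₀⁻¹ ∈ sigmaCore H := by
    have e : y * k₀ * y⁻¹ * k₀⁻¹ = y * (k₀ * y⁻¹ * k₀⁻¹) := by group
    rw [e]
    exact mul_mem hy ((mem_normalizer_iff.mp (le_normalizer_sigmaCore (c.hKH hk₀)) y⁻¹).mp (inv_mem hy))
  have h3 : y * k₀ * y⁻¹ * k₀⁻¹ ∈ sigmaCore H ⊓ sigmaCore Ms := ⟨h2, h1⟩
  rw [hdisj, Subgroup.mem_bot] at h3
  have h4 : y * k₀ = k₀ * y := by
    calc y * k₀ = (y * k₀ * y⁻¹ * k₀⁻¹) * (k₀ * y) := by group
      _ = k₀ * y := by rw [h3, one_mul]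
  have h5 : y ∈ sigmaCore H ⊓ centralizer ({k₀} : Set G) :=
    ⟨hy, mem_centralizer_singleton_iff.mpr h4⟩
  rwa [c.fpf hk₀ hk1, Subgroup.mem_bot] at h5

/-- **`H ∩ M*` is a complement to `H_σ` in `H`.** -/
theorem compl_inf : IsComplIn (H ⊓ Ms) (sigmaCore H) H := by
  classical
  have hG := c.hG
  obtain ⟨E, hKE, hE⟩ := Cfsg.Agent.Lib.BGCent.exists_compl_ge hG c.hH c.hKH (fun r hr hd => by
    rw [(Nat.prime_dvd_prime_iff_eq hr c.hKp).mp hd]
    exact c.hk_not)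
  have hEM := c.compl_le hE hKE
  refine ⟨inf_le_left, sigmaCore_le, ?_, ?_⟩
  · rw [eq_bot_iff]
    rintro z ⟨⟨hz1, hz2⟩, hz3⟩
    have h1 : z ∈ sigmaCore H ⊓ Ms := ⟨hz3, hz2⟩
    rwa [c.core_inf] at h1
  · intro h hh
    obtain ⟨a, ha, b, hb, rfl⟩ := hE.2.2.2 h hh
    exact ⟨a, ⟨hE.1 ha, hEM ha⟩, b, hb, rfl⟩

/-- **`K` lies in the Fitting subgroup of `H ∩ M*`.** -/
theorem K_le_fitting : K ≤ fittingOf (H ⊓ Ms) := by
  classical
  have h := c.mate.goodS
  have hq : (Nat.card (kst Ms (kst M K))).Prime := by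
    rw [c.mate.kst_eq]
    exact c.hKp
  obtain ⟨Q, hKQ, hMQ, hQp⟩ := exists_Q c.I h hq
  rw [c.mate.kst_eq] at hKQ hQp
  haveI : Fact (Nat.card K).Prime := ⟨c.hKp⟩
  have hle : K ≤ Q ⊓ (H ⊓ Ms) := le_inf hKQ (le_inf c.hKH (c.K_le.trans sigmaCore_le))
  refine hle.trans ?_
  refine Cfsg.Agent.Lib.BGFix.le_fittingOf (H ⊓ Ms) (Q ⊓ (H ⊓ Ms)) inf_le_right ?_ ?_
  · intro t ht l hl
    refine ⟨(mem_normalizer_iff.mp (hMQ ht.2) l).mp hl.1, (H ⊓ Ms).mul_mem ((H ⊓ Ms).mul_mem ht hl.2) ((H ⊓ Ms).inv_mem ht)⟩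
  · exact (hQp.to_le inf_le_left).isNilpotent

/-- A `K`-invariant `q`-subgroup of `U` lies in `H` only if `q ∈ σ(H)`. -/
theorem sigma_of_sub {Q : Subgroup G} {q : ℕ} [hqf : Fact q.Prime] (hQU : Q ≤ U) (hQ1 : Q ≠ ⊥)
    (hQp : IsPGroup q Q) (hKQ : K ≤ normalizer (Q : Set G)) (hQH : Q ≤ H) : q ∈ sigma H := by
  classical
  by_contra hqσ
  have hG := c.hG
  have I := c.I
  have kf : Cfsg.Agent.Lib.BGCent.KappaFacts G := ⟨I.thmD, I.s30, I.s32⟩
  have hfpU := Cfsg.Agent.Lib.BGCent.fixed_points_U hG kf c.hM c.hKU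
  have hfpQ : ∀ e ∈ K, e ≠ 1 → Q ⊓ centralizer ({e} : Set G) = ⊥ := by
    intro e he he1
    refine eq_bot_iff.mpr ?_
    rintro a ⟨haQ, haC⟩
    have h1 : a ∈ U ⊓ centralizer ({e} : Set G) := ⟨hQU haQ, haC⟩
    rwa [hfpU e he he1] at h1
  have hprQ : ∀ r : ℕ, r.Prime → r ∣ Nat.card Q → r = q := by
    intro r hr hd
    obtain ⟨n, hn⟩ := IsPGroup.iff_card.mp hQp
    rw [hn] at hd
    exact (Nat.prime_dvd_prime_iff_eq hr hqf.out).mp (hr.dvd_of_dvd_pow hd)
  have hC := c.frob_H hQ1 hQH hKQ (fun r hr hd => by rw [hprQ r hr hd]; exact hqσ) hfpQ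
  have hsup : K ≤ normalizer (Q : Set G) := hKQ
  obtain ⟨E, hKE, hE⟩ := Cfsg.Agent.Lib.BGCent.exists_compl_ge hG c.hH (Y := K ⊔ Q) (sup_le c.hKH hQH) (by
    intro r hr hd
    have h3 := hd.trans (Cfsg.Agent.Lib.BGCent.card_sup_dvd hKQ)
    rcases (Nat.Prime.dvd_mul hr).mp h3 with h4 | h4
    · rw [(Nat.prime_dvd_prime_iff_eq hr c.hKp).mp h4]
      exact c.hk_not
    · rw [hprQ r hr h4]
      exact hqσ)
  obtain ⟨x, hx, hx1⟩ := exists_mem_ne_one hQ1
  obtain ⟨y, hy, hy1⟩ := exists_mem_ne_one c.core_ne_bot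
  have hxE : x ∈ E := hKE (mem_sup_right hx)
  have hKE' : K ≤ E := le_sup_left.trans hKE
  have hEM := c.compl_le_of_fix hE hKE' hxE hx1 hy hy1 (mem_centralizer_iff.mp (hC hy) x hx)
  -- `K` centralizes `Q`
  obtain ⟨k₀, hk₀, hk1⟩ := exists_mem_ne_one c.hK1
  have hqk : q ≠ Nat.card K := by
    intro hqe
    have h1 := (Cfsg.Agent.Lib.BGCent.primes_U hG c.hM c.hKU hqf.out
      ((Nat.prime_dvd_prime_iff_eq hqf.out hqf.out).mpr rfl |>.trans
        ((by
          obtain ⟨n, hn⟩ := IsPGroup.iff_card.mp hQp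
          have hn0 : n ≠ 0 := by
            rintro rfl
            rw [pow_zero] at hn
            exact hQ1 (Subgroup.card_eq_one.mp hn)
          rw [hn]
          exact dvd_pow_self q hn0 : q ∣ Nat.card Q).trans (Subgroup.card_dvd_of_le hQU)))).1
    obtain ⟨X, hXK, hXp⟩ := exists_prime_le c.hK1
    apply h1
    have h2 : Nat.card K ∣ Nat.card K := dvd_rfl
    rw [hqe]
    exact c.mate.good.hall.2.1 _ c.hKp h2
  have hq : (Nat.card (kst Ms (kst M K))).Prime := by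
    rw [c.mate.kst_eq]
    exact c.hKp
  have hcomm := kst_comm I c.mate.goodS hq (R := Q) (fun z hz => hEM (hKE (mem_sup_right hz)))
    (by rw [c.mate.kst_eq]; exact hKQ)
    (by
      rw [c.mate.kst_eq]
      obtain ⟨n, hn⟩ := IsPGroup.iff_card.mp hQp
      rw [hn]
      exact Nat.Coprime.pow_right n ((Nat.coprime_primes c.hKp hqf.out).mpr hqk.symm))
    (by rw [c.mate.kst_eq]; exact hk₀) hx
  have h9 : x ∈ Q ⊓ centralizer ({k₀} : Set G) := ⟨hx, mem_centralizer_singleton_iff.mpr hcomm.symm⟩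
  rw [hfpQ k₀ hk₀ hk1, Subgroup.mem_bot] at h9
  exact hx1 h9

end Cfg

end Cfsg.Agent.Lib.BGZE
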