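import Mathlib
import Cfsg.Agent.Lib.BGZE
import Cfsg.Agent.Lib.BGU0

/-!
# Bender-Glauberman section 14: the signalizer of a `P₂`-subgroup.
-/

set_option autoImplicit false
set_option linter.unusedSectionVars false
set_option linter.unusedVariables false
set_option linter.style.haveILetI false
set_option linter.unusedSimpArgs false

namespace Cfsg.Agent.Lib.BGZF

open Cfsg Subgroup Cfsg.Agent.Lib.CoprimeInv Cfsg.Agent.Lib.BGTrans Cfsg.Agent.Lib.BGM1
  Cfsg.Agent.Lib.BGSigma2 Cfsg.Agent.Lib.BGM2 Cfsg.Agent.Lib.BGZ1 Cfsg.Agent.Lib.OddOrderCore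
  Cfsg.Agent.Lib.BGSigma4 Cfsg.Agent.Lib.BGZ2 Cfsg.Agent.Lib.BGZ3 Cfsg.Agent.Lib.BGZ4
  Cfsg.Agent.Lib.BGZ5 Cfsg.Agent.Lib.BGZ6 Cfsg.Agent.Lib.BGZ7 Cfsg.Agent.Lib.BGZ8
  Cfsg.Agent.Lib.BGTau7 Cfsg.Agent.Lib.BGZC Cfsg.Agent.Lib.BGZD Cfsg.Agent.Lib.BGZE

open scoped commutatorElement

universe u

variable {G : Type u} [Group G] [Finite G]

/-- `U` has order prime to its index's primes for primes of `U`. -/
theorem not_dvd_relIndex_U (hG : IsMinSimpleOddOrder G) {M K U : Subgroup G} (hM : IsCoatom M)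
    (hd : IsSigmaDecomposition M K U) {r : ℕ} (hr : r.Prime) (hrd : r ∣ Nat.card U) : ¬ r ∣ U.relIndex M := by
  obtain ⟨hrκ, hrσ⟩ := Cfsg.Agent.Lib.BGCent.primes_U hG hM hd hr hrd
  have hUM : U ≤ M := hd.compl.1
  have hc1 : Nat.card U * Nat.card (K ⊔ sigmaCore M : Subgroup G) = Nat.card M :=
    card_mul_card_of_isComplIn hd.compl
  have hc2 : Nat.card U * U.relIndex M = Nat.card M := by
    have := Subgroup.card_mul_index (U.subgroupOf M)
    rwa [card_subgroupOf_of_le hUM] at this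
  have hc3 : U.relIndex M = Nat.card (K ⊔ sigmaCore M : Subgroup G) :=
    Nat.eq_of_mul_eq_mul_left (Nat.card_pos (α := U)) (hc2.trans hc1.symm)
  rw [hc3]
  intro h2
  have h3 := h2.trans (Cfsg.Agent.Lib.BGCent.card_sup_dvd (hd.hall.1.trans le_normalizer_sigmaCore))
  rcases (Nat.Prime.dvd_mul hr).mp h3 with h4 | h4
  · exact hrκ (hd.hall.2.1 r hr h4)
  · exact hrσ (primes_sigmaCore r hr h4)

/-- The `p`-core of an abelian group. -/
theorem mem_Op_of_abelian {U : Subgroup G} (hU : IsMulCommutative U) {p : ℕ} [Fact p.Prime] {x : G}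
    (hx : x ∈ U) (hxp : Cfsg.Agent.Lib.FitPair.PElt p x) : x ∈ Cfsg.Agent.Lib.FitPair.Op p U := by
  refine Cfsg.Agent.Lib.FitPair.mem_Op_of_pelt ?_ hxp
  have hnil : Group.IsNilpotent U := by
    letI : CommGroup U := { (inferInstance : Group U) with mul_comm := hU.is_comm.comm }
    infer_instance
  exact Cfsg.Agent.Lib.BGFix.le_fittingOf U U le_rfl
    (fun k hk l hl => mul_mem (mul_mem hk hl) (inv_mem hk)) hnil hx

/-- **S1435**. -/
theorem s1435 (I : Inp G) (M : Subgroup G) (hM : IsCoatom M) (K U : Subgroup G)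
    (hKU : IsSigmaDecomposition M K U) (hK1 : K ≠ ⊥) (hU1 : U ≠ ⊥) (Mstar : Subgroup G) (hMstar : IsCoatom Mstar)
    (hKst : K = sigmaCore Mstar ⊓ centralizer ((sigmaCore M ⊓ centralizer (K : Set G)) : Set G))
    (hKstH : IsPiHallOf (kappa Mstar) (sigmaCore M ⊓ centralizer (K : Set G)) Mstar)
    (r : ℕ) [hrf : Fact r.Prime] (hr : r ∣ Nat.card U) (R : Sylow r U) (H : Subgroup G) (hH : IsCoatom H)
    (hNR : normalizer (((R : Subgroup U).map U.subtype : Subgroup G) : Set G) ≤ H) :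
    kappa H = ∅ ∧ U ≤ sigmaCore H ∧ M ⊓ H = U ⊔ K ∧ ¬ H ⊓ normalizer (U : Set G) ≤ M ∧
      K ≤ fittingOf (H ⊓ Mstar) ∧ IsComplIn (H ⊓ Mstar) (sigmaCore H) H := by
  classical
  have hG := I.hG
  have hg : Good M K := ⟨hM, hKU.hall, hK1⟩
  have mate := mate_of_hyp I hg hMstar hKst hKstH
  have kf : Cfsg.Agent.Lib.BGCent.KappaFacts G := ⟨I.thmD, I.s30, I.s32⟩
  obtain ⟨-, ⟨U', hU'ab, hU'H, -, -⟩, -⟩ := I.s30 M hM K hKU.hall hK1
  have hUab : IsMulCommutative U := Cfsg.Agent.Lib.BGU0.U_comm_of_hall hG hM hKU hU'ab hU'H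
  have hUM : U ≤ M := hKU.compl.1
  have hKM : K ≤ M := hKU.hall.1
  set R' : Subgroup G := (R : Subgroup U).map U.subtype with hR'
  have hR'U : IsSylowIn r R' U := isSylowIn_map R
  set Z := Cfsg.Agent.Lib.FitPair.Op r U with hZ
  have hZU : Z ≤ U := Cfsg.Agent.Lib.FitPair.Op_le r U
  have hZp : IsPGroup r Z := Cfsg.Agent.Lib.FitPair.isPGroup_Op r U
  have hR'Z : R' = Z := by
    apply le_antisymm
    · intro x hx
      exact mem_Op_of_abelian hUab (hR'U.1 hx)
        (Cfsg.Agent.Lib.FitPair.pelt_of_mem_pgroup hR'U.2.1 hx)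
    · have h1 : IsPGroup r ↥(R' ⊔ Z : Subgroup G) :=
        IsPGroup.to_sup_of_normal_right' hR'U.2.1 hZp
          (hR'U.1.trans (Cfsg.Agent.Lib.FitPair.le_normalizer_Op r U))
      have h2 := hR'U.2.2 (R' ⊔ Z) (sup_le hR'U.1 hZU) h1 le_sup_left
      exact h2 ▸ le_sup_right
  have hNU : normalizer (U : Set G) ≤ H := by
    have h1 := Cfsg.Agent.Lib.FitPair.normalizer_le_Op r U
    rw [← hZ, ← hR'Z] at h1
    exact h1.trans hNR
  have hUH : U ≤ H := le_normalizer.trans hNU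
  have hKH : K ≤ H := hKU.normal.trans hNU
  obtain ⟨hrκ, hrσ⟩ := Cfsg.Agent.Lib.BGCent.primes_U hG hM hKU hrf.out hr
  have hR'M : IsSylowIn r R' M := isSylowIn_of_hall hR'U hUM (not_dvd_relIndex_U hG hM hKU hrf.out hr)
  have hHM : H ≠ M := by
    rintro rfl
    exact hrσ (Cfsg.Agent.Lib.BGSigma3.mem_sigma_of hR'M
      (hr.trans (Subgroup.card_dvd_of_le hUM)) hNR)
  -- `H` is not conjugate to `M`
  have hnM : ∀ g, H ≠ cj M g := by
    intro g hg'
    have hTM : cj R' g⁻¹ ≤ M := by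
      intro a ha
      rw [mem_cj, inv_inv] at ha
      have h1 := hUH (hR'U.1 ha)
      rw [hg', mem_cj] at h1
      have e : g⁻¹ * (g * a * g⁻¹) * g = a := by group
      rwa [e] at h1
    have hTp : IsPGroup r ↥(cj R' g⁻¹) := hR'U.2.1.map _
    obtain ⟨S₂, hS₂, hTS₂⟩ := exists_isSylowIn_ge r hTM hTp
    obtain ⟨m, hm, hS₂e⟩ := hR'M.exists_conj hS₂
    have hT : cj R' g⁻¹ = cj R' m :=
      Subgroup.eq_of_le_of_card_ge (hTS₂.trans hS₂e.le) (by rw [card_cj, card_cj])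
    set w := g * m with hw
    have hwn : w ∈ normalizer (R' : Set G) := by
      apply mem_normalizer_of_cj_eq
      have e1 : cj R' w = cj (cj R' m) g := by rw [hw, cj_cj]
      rw [e1, ← hT, cj_cj]
      simp [cj_one]
    have hwH := hNR hwn
    have hcj : cj M w = H := by
      have e2 : cj M m = M := cj_eq_of_mem_normalizer (le_normalizer hm)
      have e1 : cj M w = cj (cj M m) g := by rw [hw, cj_cj]
      rw [e1, e2, hg']
    rw [← hcj, mem_cj] at hwH
    have hwM : w ∈ M := by simpa using hwH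
    apply hHM
    rw [← hcj]
    exact cj_eq_of_mem_normalizer (le_normalizer hwM)
  have hKp := (s1372 I M hM K U hKU hK1 hU1).1
  have hq' : (Nat.card (kst Mstar (kst M K))).Prime := by
    rw [mate.kst_eq]
    exact hKp
  have hfpU := Cfsg.Agent.Lib.BGCent.fixed_points_U hG kf hM hKU
  have hKcop : (Nat.card K).Coprime (Nat.card U) := by
    refine (Nat.Prime.coprime_iff_not_dvd hKp).mpr ?_
    intro hd
    exact (Cfsg.Agent.Lib.BGCent.primes_U hG hM hKU hKp hd).1 (hKU.hall.2.1 _ hKp dvd_rfl)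
  -- `H` is not conjugate to `M*`
  have hnS : ∀ g, H ≠ cj Mstar g := by
    intro g hg'
    have hgM : g ∈ Mstar := by
      by_contra hgM
      have hf4 := mate.goodS.f4 I hgM
      rw [mate.kst_eq] at hf4
      apply hK1
      rw [eq_bot_iff, ← hf4]
      intro z hz
      refine ⟨hz, ?_⟩
      have h5 := hKH hz
      rwa [hg'] at h5
    have hHMs : H = Mstar := by
      rw [hg']
      exact cj_eq_of_mem_normalizer (le_normalizer hgM)
    obtain ⟨k₀, hk₀, hk1⟩ := exists_mem_ne_one hK1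
    obtain ⟨u, hu, hu1⟩ := exists_mem_ne_one hU1
    have hcomm := kst_comm I mate.goodS hq' (R := U) (hHMs ▸ hUH)
      (by rw [mate.kst_eq]; exact hKU.normal)
      (by rw [mate.kst_eq]; exact hKcop)
      (by rw [mate.kst_eq]; exact hk₀) hu
    have h9 : u ∈ U ⊓ centralizer ({k₀} : Set G) := ⟨hu, mem_centralizer_singleton_iff.mpr hcomm.symm⟩
    rw [hfpU k₀ hk₀ hk1, Subgroup.mem_bot] at h9
    exact hu1 h9
  have c : Cfg M K U Mstar H := ⟨I, hKU, hK1, hU1, mate, hH, hKH, hnM, hnS⟩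
  -- `U ≤ H_σ`
  have hUσ : U ≤ sigmaCore H := by
    intro u hu
    refine mem_core_of_primes hG hH (hUH hu) ?_
    intro p hp hd
    haveI : Fact p.Prime := ⟨hp⟩
    have hpU : p ∣ Nat.card U := hd.trans (Subgroup.orderOf_dvd_natCard U hu)
    refine c.sigma_of_sub (Cfsg.Agent.Lib.FitPair.Op_le p U) ?_ (Cfsg.Agent.Lib.FitPair.isPGroup_Op p U)
      (hKU.normal.trans (Cfsg.Agent.Lib.FitPair.normalizer_le_Op p U))
      ((Cfsg.Agent.Lib.FitPair.Op_le p U).trans hUH)
    obtain ⟨x, hx⟩ := exists_prime_orderOf_dvd_card' (G := U) p hpU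
    intro hb
    have h1 : (x : G) ∈ Cfsg.Agent.Lib.FitPair.Op p U := by
      refine mem_Op_of_abelian hUab x.2 ⟨1, ?_⟩
      rw [pow_one]
      have h2 := pow_orderOf_eq_one x
      rw [hx] at h2
      exact congrArg Subtype.val h2
    rw [hb, Subgroup.mem_bot] at h1
    have h3 : x = 1 := Subtype.ext h1
    rw [h3, orderOf_one] at hx
    exact hp.one_lt.ne hx
  -- `M_σ ∩ H = 1`
  have hσinf : sigmaCore M ⊓ H = ⊥ := by
    have hdisj : sigmaCore M ⊓ sigmaCore H = ⊥ := by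
      apply (Subgroup.disjoint_of_coprime_natCard _).eq_bot
      refine Nat.coprime_of_dvd ?_
      intro p hp h1 h2
      exact c.sig_M (primes_sigmaCore p hp h1) (primes_sigmaCore p hp h2)
    refine (Subgroup.eq_bot_iff_forall _).mpr ?_
    rintro y ⟨hy, hyH⟩
    have hyC : y ∈ sigmaCore M ⊓ centralizer (U : Set G) := by
      refine ⟨hy, ?_⟩
      show y ∈ centralizer (U : Set G)
      rw [mem_centralizer_iff]
      intro u hu
      have h1 : y * u * y⁻¹ * u⁻¹ ∈ sigmaCore H :=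
        mul_mem ((mem_normalizer_iff.mp (le_normalizer_sigmaCore hyH) u).mp (hUσ hu)) (inv_mem (hUσ hu))
      have h2 : y * u * y⁻¹ * u⁻¹ ∈ sigmaCore M := by
        have e : y * u * y⁻¹ * u⁻¹ = y * (u * y⁻¹ * u⁻¹) := by group
        rw [e]
        exact mul_mem hy ((mem_normalizer_iff.mp (le_normalizer_sigmaCore (hUM hu)) y⁻¹).mp (inv_mem hy))
      have h3 : y * u * y⁻¹ * u⁻¹ ∈ sigmaCore M ⊓ sigmaCore H := ⟨h2, h1⟩
      rw [hdisj, Subgroup.mem_bot] at h3
      calc u * y = (y * u * y⁻¹ * u⁻¹)⁻¹ * (y * u) := by group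
        _ = y * u := by rw [h3]; group
    rw [core_cent_U I hM hKU hU1] at hyC
    exact hyC
  -- `M ∩ H = U K`
  have hinf : M ⊓ H = U ⊔ K := by
    apply le_antisymm
    · rintro m ⟨hmM, hmH⟩
      obtain ⟨u, hu, b, hb, rfl⟩ := hKU.compl.2.2.2 m hmM
      obtain ⟨k', hk', s, hs, rfl⟩ :=
        Cfsg.Agent.Lib.BGTau3.mul_of_mem_sup (hKM.trans le_normalizer_sigmaCore) hb
      have hsH : s ∈ H := by
        have e : s = k'⁻¹ * u⁻¹ * (u * (k' * s)) := by group
        rw [e]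
        exact mul_mem (mul_mem (inv_mem (hKH hk')) (inv_mem (hUH hu))) hmH
      have hs1 : s ∈ sigmaCore M ⊓ H := ⟨hs, hsH⟩
      rw [hσinf, Subgroup.mem_bot] at hs1
      rw [hs1, mul_one]
      exact mul_mem (mem_sup_left hu) (mem_sup_right hk')
    · exact le_inf (sup_le hUM hKM) (sup_le hUH hKH)
  refine ⟨Set.not_nonempty_iff_eq_empty.mp c.kappa_empty, hUσ, hinf, ?_, c.K_le_fitting, c.compl_inf⟩
  -- `N_H(U) ⊄ M`
  have hKσ : K ⊓ sigmaCore H = ⊥ := by
    apply (Subgroup.disjoint_of_coprime_natCard _).eq_bot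
    refine (Nat.Prime.coprime_iff_not_dvd hKp).mpr ?_
    intro hd
    exact c.hk_not (primes_sigmaCore _ hKp hd)
  have hP : ¬ P1 H := by
    intro hP1
    rcases hP1 _ hKp (Subgroup.card_dvd_of_le hKH) with h | h
    · exact c.hk_not h
    · exact c.kappa_empty ⟨_, h⟩
  have hnil := nilp_of_not_P1 hG hH hP
  by_cases hUe : U = sigmaCore H
  · intro hle
    have h1 : H ≤ M := fun h hh => hle ⟨hh, by rw [hUe]; exact le_normalizer_sigmaCore hh⟩
    rcases hH.le_iff.mp h1 with h2 | h2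
    · exact hM.1 h2
    · exact hHM h2.symm
  · intro hle
    have hlt : U.subgroupOf (sigmaCore H) < ⊤ := by
      refine lt_top_iff_ne_top.mpr ?_
      intro htop
      apply hUe
      refine le_antisymm hUσ ?_
      intro x hx
      have h1 : (⟨x, hx⟩ : sigmaCore H) ∈ U.subgroupOf (sigmaCore H) := by rw [htop]; trivial
      exact h1
    obtain ⟨t, htN, htU⟩ := SetLike.exists_of_lt (Group.normalizerCondition_of_isNilpotent _ hlt)
    have htN' : (t : G) ∈ normalizer (U : Set G) := by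
      rw [mem_normalizer_iff] at htN ⊢
      intro h
      constructor
      · intro hh
        have h1 := (htN ⟨h, hUσ hh⟩).mp hh
        exact h1
      · intro hh
        have hhσ : h ∈ sigmaCore H := by
          have e : h = (t : G)⁻¹ * ((t : G) * h * (t : G)⁻¹) * t := by group
          rw [e]
          exact mul_mem (mul_mem (inv_mem t.2) (hUσ hh)) t.2
        have h2 := (htN ⟨h, hhσ⟩).mpr hh
        exact h2
    have htM : (t : G) ∈ M := hle ⟨sigmaCore_le t.2, htN'⟩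
    have htinf : (t : G) ∈ K ⊔ U := by
      rw [sup_comm, ← hinf]
      exact ⟨htM, sigmaCore_le t.2⟩
    obtain ⟨k', hk', u, hu, he⟩ := Cfsg.Agent.Lib.BGTau3.mul_of_mem_sup hKU.normal htinf
    have hk'σ : k' ∈ sigmaCore H := by
      have e : k' = (t : G) * u⁻¹ := by rw [he]; group
      rw [e]
      exact mul_mem t.2 (inv_mem (hUσ hu))
    have hk'1 : k' ∈ K ⊓ sigmaCore H := ⟨hk', hk'σ⟩
    rw [hKσ, Subgroup.mem_bot] at hk'1
    apply htU
    show (t : G) ∈ U
    rw [he, hk'1, one_mul]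
    exact hu

end Cfsg.Agent.Lib.BGZF
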