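import Mathlib
import Cfsg.Agent.Lib.BGCent21
import Cfsg.Agent.S1435

/-!
# Bender-Glauberman section 14: facts exported from the theorem on `M`, when `κ(N) ≠ ∅`.
-/

set_option autoImplicit false
set_option linter.unusedSectionVars false
set_option linter.unusedVariables false
set_option linter.style.haveILetI false
set_option linter.unusedSimpArgs false

namespace Cfsg.Agent.Lib.BGCent

open Cfsg Subgroup Cfsg.Agent.Lib.CoprimeInv Cfsg.Agent.Lib.BGTrans Cfsg.Agent.Lib.BGTrans2 Cfsg.Agent.Lib.BGUniq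
  Cfsg.Agent.Lib.BGUniq2 Cfsg.Agent.Lib.PCore Cfsg.Agent.Lib.BGTau7 Cfsg.Agent.Lib.BGM1 Cfsg.Agent.Lib.BGTau5
  Cfsg.Agent.Lib.BGTau3 Cfsg.Agent.Lib.BGM2 Cfsg.Agent.Lib.BGTau6 Cfsg.Agent.Lib.BGTau1 Cfsg.Agent.Lib.BGP2E
  Cfsg.Agent.Lib.BGFit2 Cfsg.Agent.Lib.BGZ1 Cfsg.Agent.Lib.BGZ2 Cfsg.Agent.Lib.BGZ5 Cfsg.Agent.Lib.BGZ6
open scoped commutatorElement

universe u

variable {G : Type u} [Group G] [Finite G]

/-- The theorem on maximal subgroups above `N_G(R)`. -/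
theorem h35_of (hG : IsMinSimpleOddOrder G) : H35 G :=
  fun M hM K U hKU hK1 hU1 Mstar hMstar hKst hKstH r _ hr R H hH hNR =>
    Cfsg.Agent.S1435.result hG M hM K U hKU hK1 hU1 Mstar hMstar hKst hKstH r hr R H hH hNR

/-- A nonidentity element of `M` of order prime to `σ(M)` acts fixed-point-freely on `M_σ`. -/
theorem FCtx.fpf_of_not_sigma {M N Ns K U : Subgroup G} {x : G} (c : FCtx M N Ns K U x) {y w : G} (hy : y ∈ M) (hy1 : y ≠ 1)
    (hys : ∀ p : ℕ, p.Prime → p ∣ orderOf y → p ∉ sigma M) (hw : w ∈ sigmaCore M) (hyw : y * w = w * y) : w = 1 := by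
  classical
  have hno : orderOf y ≠ 1 := fun h => hy1 (orderOf_eq_one_iff.mp h)
  obtain ⟨p, hp, hpd⟩ := Nat.exists_prime_and_dvd hno
  haveI : Fact p.Prime := ⟨hp⟩
  have hE : IsComplIn (M ⊓ Ns) (sigmaCore M) M := c.hE
  have hps := hys p hp hpd
  set y₁ := y ^ (orderOf y / p) with hy₁
  have hy₁o : orderOf y₁ = p := orderOf_pow_orderOf_div (orderOf_pos _).ne' hpd
  have hy₁M : y₁ ∈ M := M.pow_mem hy _
  have hy₁1 : y₁ ≠ 1 := by
    intro h
    rw [h, orderOf_one] at hy₁o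
    exact hp.one_lt.ne hy₁o
  have hZp : IsPGroup p ↥(zpowers y₁) := Cfsg.Agent.Lib.BGK0.isPGroup_zpowers_pow (k := 1) (by rw [pow_one, ← hy₁o]; exact pow_orderOf_eq_one _)
  obtain ⟨P, hP, hyP⟩ := exists_isSylowIn_ge p ((zpowers_le).mpr hy₁M) hZp
  obtain ⟨Q, hQ⟩ := exists_isSylowIn p (M ⊓ Ns)
  have hnd : ¬ p ∣ Nat.card (sigmaCore M) := fun h => hps (primes_sigmaCore p hp h)
  have hidx : ¬ p ∣ (M ⊓ Ns).relIndex M := by
    have h1 := Cfsg.Agent.Lib.Coprime.relIndex_mul_card_of_le hE.1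
    have hcard := Cfsg.Agent.Lib.OddOrderCore.card_mul_card_of_isComplIn hE
    have hpos : 0 < Nat.card ↥(M ⊓ Ns) := Nat.card_pos
    rw [← hcard, mul_comm (Nat.card ↥(M ⊓ Ns))] at h1
    rw [Nat.eq_of_mul_eq_mul_right hpos h1]
    exact hnd
  have hQM : IsSylowIn p Q M := isSylowIn_of_hall hQ hE.1 hidx
  obtain ⟨m, hm, hmP⟩ := hQM.exists_conj hP
  have hy₁P : y₁ ∈ P := hyP (mem_zpowers _)
  rw [hmP] at hy₁P
  have he := mem_cj.mp hy₁P
  have hew : (m⁻¹ * y₁ * m) * (m⁻¹ * w * m) = (m⁻¹ * w * m) * (m⁻¹ * y₁ * m) := by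
    have h1 : y₁ * w = w * y₁ := by
      rw [hy₁]
      exact (Commute.pow_left (show Commute y w from hyw) _)
    have h2 : (m⁻¹ * y₁ * m) * (m⁻¹ * w * m) = m⁻¹ * (y₁ * w) * m := by group
    have h3 : (m⁻¹ * w * m) * (m⁻¹ * y₁ * m) = m⁻¹ * (w * y₁) * m := by group
    rw [h2, h3, h1]
  have hw1 : m⁻¹ * w * m ∈ sigmaCore M := by
    have h4 := le_normalizer_sigmaCore (M.inv_mem hm)
    have h5 := (mem_normalizer_iff.mp h4 w).mp hw
    simpa using h5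
  have hne : m⁻¹ * y₁ * m ≠ 1 := by
    intro h
    apply hy₁1
    have h6 : y₁ = m * (m⁻¹ * y₁ * m) * m⁻¹ := by group
    rw [h6, h]
    group
  have h7 := c.fpf_E (hQ.1 he) hne hw1 hew
  have h8 : w = m * (m⁻¹ * w * m) * m⁻¹ := by group
  rw [h8, h7]
  group

/-- The facts proved in the situation of S1376:
`τ₂(M) = ∅`, every nonidentity element of `M` of order prime to `σ(M)` acts fixed-point-freely
on `M_σ`, `M_σ` is nilpotent, and so on. -/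
theorem s1376_facts (hG : IsMinSimpleOddOrder G) {M N : Subgroup G} (hM : IsCoatom M) {x : G}
    (hx : x ∈ sigmaCore M) (hx1 : x ≠ 1) (hxM : ¬ centralizer ({x} : Set G) ≤ M) (hN : IsCoatom N)
    (hxN : centralizer ({x} : Set G) ≤ N) (hkN : (kappa N).Nonempty) :
    kappa M = ∅ ∧ tau2 M = ∅ ∧ Group.IsNilpotent (sigmaCore M) ∧ sigmaCore M = fittingHallOf M ∧
      (∃ E : Subgroup G, IsComplIn E (sigmaCore M) M ∧ IsCyclic E) ∧
      (∀ y w : G, y ∈ M → y ≠ 1 → (∀ p : ℕ, p.Prime → p ∣ orderOf y → p ∉ sigma M) → w ∈ sigmaCore M → y * w = w * y → w = 1) ∧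
      (∃ E : Subgroup ↥M, IsFrobeniusComplement E ∧ IsCyclic E) ∧ ¬ IsTISubset (fittingHallOf M : Set G) := by
  obtain ⟨Ns, K, U, c⟩ := (XCtx.mk hG hM hN hx hx1 hxM hxN).exists_fctx (h35_of hG) hkN
  exact ⟨c.hκ, c.tau2_eq, c.nilp, c.core_eq_fitting, ⟨_, c.hE, c.E_cyclic⟩, fun y w hy hy1 hys hw hyw => c.fpf_of_not_sigma hy hy1 hys hw hyw,
    c.frob, c.not_TI⟩

end Cfsg.Agent.Lib.BGCent
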