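import Mathlib
import Cfsg.Agent.Lib.BGCent22

/-!
# A Frobenius action lemma with a general kernel.
-/

set_option autoImplicit false
set_option linter.unusedSectionVars false
set_option linter.unusedVariables false
set_option linter.style.haveILetI false
set_option linter.unusedSimpArgs false

namespace Cfsg.Agent.Lib.BGCent

open Cfsg Subgroup Cfsg.Agent.Lib.CoprimeInv Cfsg.Agent.Lib.BGTrans Cfsg.Agent.Lib.BGUniq
  Cfsg.Agent.Lib.BGUniq2 Cfsg.Agent.Lib.BGK1
open scoped commutatorElement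

universe u

section Act

variable {X : Type u} [Group X] [Finite X]

/-- A Frobenius group `A⟨y⟩` acting on a normal `ℓ`-subgroup `P`: if the fixed points of `y` are
fixed by `A`, then `A` centralizes `P`. -/
theorem frob_act_gen {ℓ s : ℕ} [hℓ : Fact ℓ.Prime] (P : Subgroup X) [hPn : P.Normal] (hP : IsPGroup ℓ P)
    (A : Subgroup X) {y : X} (hy : orderOf y = s) (hs : s.Prime) (hℓA : ¬ ℓ ∣ Nat.card A)
    (hℓs : ℓ ≠ s) (hya : y ∈ normalizer (A : Set X)) (hfp : ∀ a ∈ A, y * a = a * y → a = 1)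
    (hfix : ∀ t ∈ P, y * t = t * y → ∀ a ∈ A, a * t = t * a) : A ≤ centralizer (P : Set X) := by
  classical
  obtain ⟨W, i1, i2, i3, f, ρ₀, hfs, hfa, hfk, hfe⟩ := Cfsg.Agent.Lib.BGFr.exists_frat ℓ P hP
  have hNP : ∀ g : X, g ∈ normalizer (P : Set X) := by
    intro g
    rw [Subgroup.normalizer_eq_top_iff.mpr hPn]
    trivial
  have hf1 : f 1 = 0 := by
    have := hfa 1 1
    rw [mul_one] at this
    exact left_eq_add.mp this
  have hfinv : ∀ b, f b⁻¹ = - f b := by
    intro b
    have := hfa b b⁻¹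
    rw [mul_inv_cancel, hf1] at this
    exact (neg_eq_of_add_eq_zero_right this.symm).symm
  let R := Module.End (ZMod ℓ) W
  let ρ : X →* R := (Units.coeHom R).comp ρ₀
  have hρe : ∀ (g : X) (t : ↥P), ρ g (f t) = f ⟨g * t * g⁻¹, hPn.conj_mem t t.2 g⟩ := fun g t =>
    hfe g t (hPn.conj_mem t t.2 g)
  have hcopn : Nat.Coprime (Nat.card A) (Nat.card P) := by
    obtain ⟨k, hk⟩ := IsPGroup.iff_card.mp hP
    rw [hk]
    exact Nat.Coprime.pow_right k ((Nat.Prime.coprime_iff_not_dvd hℓ.out).mpr hℓA).symm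
  have hcops : Nat.Coprime s (Nat.card P) := by
    obtain ⟨k, hk⟩ := IsPGroup.iff_card.mp hP
    rw [hk]
    exact Nat.Coprime.pow_right k ((Nat.coprime_primes hs hℓ.out).mpr hℓs.symm)
  have hPnil : Group.IsNilpotent P := hP.isNilpotent
  have hPs : Group.IsSolvable P := inferInstance
  -- fixed vectors of `y` come from fixed points of `y`
  have hlift : ∀ t : ↥P, ρ y (f t) = f t → ∃ c : ↥P, y * (c : X) = c * y ∧ f t = f c := by
    intro t ht
    have hpow : ∀ n : ℕ, ρ (y ^ n) (f t) = f t := by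
      intro n
      induction n with
      | zero => rw [pow_zero, map_one]; rfl
      | succ n ih => rw [pow_succ, map_mul, Module.End.mul_apply, ht, ih]
    obtain ⟨c, hc, hac⟩ := Cfsg.Agent.Lib.Glauberman.exists_mem_centralizer_of_coset_fixed
      (A := zpowers y) (K := P) (N := Cfsg.Agent.Lib.BGFr.frat P)
      (by rwa [Nat.card_zpowers, hy]) (Or.inr hPs) (Cfsg.Agent.Lib.BGFr.frat_le P)
      (Subgroup.le_normalizer.trans (Cfsg.Agent.Lib.BGFr.normalizer_le_normalizer_frat P))
      (by intro g _; exact Cfsg.Agent.Lib.BGFr.normalizer_le_normalizer_frat P (hNP g)) (t : X) t.2 (by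
        intro z hz
        obtain ⟨n, rfl⟩ := Cfsg.Agent.Lib.BGTau3.exists_nat_of_mem_zpowers hz
        have h5 := hρe (y ^ n) t
        rw [hpow n] at h5
        have h6 : f (⟨y ^ n * t * (y ^ n)⁻¹, hPn.conj_mem t t.2 _⟩ * t⁻¹) = 0 := by
          rw [hfa, hfinv, ← h5, add_neg_cancel]
        exact (hfk _).mp h6)
    refine ⟨⟨c, hc.1⟩, (Subgroup.mem_centralizer_iff.mp hc.2 y (mem_zpowers y)).symm.symm, ?_⟩
    have h7 : f (t⁻¹ * ⟨c, hc.1⟩) = 0 := (hfk _).mpr hac
    rw [hfa, hfinv] at h7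
    exact (neg_add_eq_zero.mp h7)
  have hρa : ∀ b ∈ A, ρ b = 1 := by
    refine frob_ring' ρ A y hs.pos ?_ ?_ ?_ ?_
    · intro b hb
      exact (mem_normalizer_iff.mp hya b).mp hb
    · intro i hi0 his b hb hbc
      have hc1 : y ^ i ≠ 1 := by
        apply pow_ne_one_of_lt_orderOf hi0.ne'
        rwa [hy]
      have hgen : y ∈ zpowers (y ^ i) :=
        Cfsg.Agent.Lib.BGUT1.generator_of_ne_one hs hy (pow_mem (mem_zpowers y) i) hc1
      obtain ⟨k, hk⟩ := mem_zpowers_iff.mp hgen
      rw [mul_inv_eq_iff_eq_mul] at hbc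
      have hcm : Commute (y ^ i) b := hbc
      apply hfp b hb
      rw [← hk]
      exact (hcm.zpow_left k).eq
    · intro b hb
      apply LinearMap.ext
      intro v
      set w : W := (∑ i ∈ Finset.range s, ρ y ^ i) v with hw
      show ρ b w = w
      have hfx : ρ y w = w := by
        have h1 : (ρ y - 1) * ∑ i ∈ Finset.range s, ρ y ^ i = ρ y ^ s - 1 := mul_geom_sum _ _
        have h2 : ρ y ^ s = 1 := by
          rw [← map_pow, ← hy, pow_orderOf_eq_one, map_one]
        rw [h2, sub_self] at h1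
        have h3 := LinearMap.congr_fun h1 v
        rw [Module.End.mul_apply, LinearMap.sub_apply, Module.End.one_apply] at h3
        exact sub_eq_zero.mp h3
      obtain ⟨t, ht⟩ := hfs w
      rw [← ht] at hfx ⊢
      obtain ⟨c, hc1, hc2⟩ := hlift t hfx
      rw [hc2, hρe b c]
      have hac : b * (c : X) = c * b := hfix c c.2 hc1 b hb
      congr 1
      apply Subtype.ext
      show b * (c : X) * b⁻¹ = c
      rw [hac]
      group
    · have h1 : ((Nat.card A : ℕ) : R) = algebraMap (ZMod ℓ) R ((Nat.card A : ℕ) : ZMod ℓ) := (map_natCast _ _).symm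
      rw [h1]
      apply IsUnit.map
      apply IsUnit.mk0
      intro h0
      rw [ZMod.natCast_eq_zero_iff] at h0
      exact hℓA h0
  exact Cfsg.Agent.Lib.Glauberman.le_centralizer_of_frattini (A := A) (K := P)
    (by intro g _; exact hNP g)
    (Nat.Coprime.coprime_dvd_right (Subgroup.card_subgroup_dvd_card _) hcopn)
    (by
      intro b hb k hk
      have h5 := hρe b ⟨k, hk⟩
      rw [hρa b hb, Module.End.one_apply] at h5
      have h6 : f (⟨b * k * b⁻¹, hPn.conj_mem k hk _⟩ * (⟨k, hk⟩ : ↥P)⁻¹) = 0 := by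
        rw [hfa, hfinv, ← h5, add_neg_cancel]
      exact (hfk _).mp h6)

end Act

section InG

variable {G : Type u} [Group G] [Finite G]

/-- A Frobenius group `A⟨y⟩` acting coprimely on a solvable group `H`: if the fixed points of `y` are
fixed by `A`, then `A` centralizes `H`. -/
theorem frob_cent_gen {H A : Subgroup G} {y : G} {s : ℕ} (hy : orderOf y = s) (hs : s.Prime) (hH : Group.IsSolvable H)
    (hcA : Nat.Coprime (Nat.card H) (Nat.card A)) (hcs : ¬ s ∣ Nat.card H)
    (hA' : A ≤ normalizer (H : Set G)) (hy' : y ∈ normalizer (H : Set G))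
    (hya : y ∈ normalizer (A : Set G)) (hfp : ∀ a ∈ A, y * a = a * y → a = 1)
    (hfix : ∀ t ∈ H, y * t = t * y → ∀ a ∈ A, a * t = t * a) : H ≤ centralizer (A : Set G) := by
  classical
  set F : Subgroup G := zpowers y ⊔ A with hF
  have hFN : F ≤ normalizer (H : Set G) := sup_le (zpowers_le.mpr hy') hA'
  have hcard : Nat.card F ∣ s * Nat.card A := by
    have h1 := card_sup_mul_card_inf (H := zpowers y) (N := A) (zpowers_le.mpr hya)
    rw [Nat.card_zpowers, hy] at h1
    rw [← h1]
    exact Dvd.intro _ rfl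
  have hcop : (Nat.card H).Coprime (Nat.card F) := by
    apply Nat.Coprime.coprime_dvd_right hcard
    apply Nat.Coprime.mul_right
    · exact ((Nat.Prime.coprime_iff_not_dvd hs).mpr hcs).symm
    · exact hcA
  apply Cfsg.Agent.Lib.BGUniq2.le_of_forall_prime_inv hH hFN hcop
  intro ℓ hℓ T hTH hTp hTF
  by_cases hT1 : T = ⊥
  · rw [hT1]; exact bot_le
  have hℓH : ℓ ∣ Nat.card H :=
    (Cfsg.Agent.Lib.BGUniq2.dvd_card_of_isPGroup hTp hT1).trans (Subgroup.card_dvd_of_le hTH)
  have hℓA : ¬ ℓ ∣ Nat.card A := fun h => hℓ.out.one_lt.ne' (Nat.eq_one_of_dvd_coprimes hcA hℓH h)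
  have hℓs : ℓ ≠ s := fun h => hcs (h ▸ hℓH)
  -- work in the normalizer of `T`
  let X : Subgroup G := normalizer (T : Set G)
  have hAX : A ≤ X := le_sup_right.trans hTF
  have hyX : y ∈ X := hTF (Subgroup.mem_sup_left (mem_zpowers y))
  let P : Subgroup X := T.subgroupOf X
  haveI hPn : P.Normal := Subgroup.normal_subgroupOf_of_le_normalizer le_rfl
  have hTX : T ≤ X := Subgroup.le_normalizer
  have hPp : IsPGroup ℓ P :=
    hTp.of_injective (Subgroup.subgroupOfEquivOfLe hTX).toMonoidHom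
      (Subgroup.subgroupOfEquivOfLe hTX).injective
  have h1 := frob_act_gen (X := X) P hPp (A.subgroupOf X) (y := ⟨y, hyX⟩)
    (by rw [Subgroup.orderOf_mk]; exact hy) hs
    (by rwa [card_subgroupOf_of_le hAX]) hℓs
    (by
      apply Cfsg.Agent.Lib.BGTau4.mem_normalizer_of_forall
      intro u hu
      have h2 : y * (u : G) * y⁻¹ ∈ A := (mem_normalizer_iff.mp hya _).mp hu
      exact h2)
    (by
      intro a ha h
      apply Subtype.ext
      exact hfp a ha (congrArg Subtype.val h))
    (by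
      intro t ht hc a ha
      apply Subtype.ext
      exact hfix t (hTH ht) (congrArg Subtype.val hc) a ha)
  intro t ht
  rw [Subgroup.mem_centralizer_iff]
  intro a ha
  have haX : a ∈ X := hAX ha
  have h2 := Subgroup.mem_centralizer_iff.mp (h1 (show (⟨a, haX⟩ : X) ∈ A.subgroupOf X from ha))
    ⟨t, Subgroup.le_normalizer ht⟩ ht
  exact (congrArg Subtype.val h2).symm

end InG

end Cfsg.Agent.Lib.BGCent
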