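import Mathlib
import Cfsg.Agent.Lib.BGCent23

/-!
# Bender-Glauberman section 15: primes of `σ(N)` dividing `|M|`.
-/

set_option autoImplicit false
set_option linter.unusedSectionVars false
set_option linter.unusedVariables false
set_option linter.style.haveILetI false
set_option linter.unusedSimpArgs false

namespace Cfsg.Agent.Lib.BGCent

open Cfsg Subgroup Cfsg.Agent.Lib.CoprimeInv Cfsg.Agent.Lib.BGTrans Cfsg.Agent.Lib.BGTrans2 Cfsg.Agent.Lib.BGUniq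
  Cfsg.Agent.Lib.BGUniq2 Cfsg.Agent.Lib.PCore Cfsg.Agent.Lib.BGTau7 Cfsg.Agent.Lib.BGM1 Cfsg.Agent.Lib.BGTau5
  Cfsg.Agent.Lib.BGTau3 Cfsg.Agent.Lib.BGM2 Cfsg.Agent.Lib.BGTau6 Cfsg.Agent.Lib.BGTau1 Cfsg.Agent.Lib.BGP2E
  Cfsg.Agent.Lib.BGFit2 Cfsg.Agent.Lib.BGZ1 Cfsg.Agent.Lib.BGZ2 Cfsg.Agent.Lib.BGZ5 Cfsg.Agent.Lib.BGZ6 Cfsg.Agent.Lib.BGK0
open scoped commutatorElement

universe u

variable {G : Type u} [Group G] [Finite G]

/-- An element of `O_{r'}` which is an `r`-element is trivial. -/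
theorem eq_one_of_core_pow {X : Type*} [Group X] [Finite X] {r : ℕ} [hr : Fact r.Prime] {w : X} (hw : w ∈ pPrimeCore r X) {m : ℕ}
    (hm : w ^ r ^ m = 1) : w = 1 := by
  have h1 : (Nat.card (pPrimeCore r X)).Coprime r := card_pPrimeCore_coprime r
  have h2 : w ^ Nat.card (pPrimeCore r X) = 1 := by
    have := pow_card_eq_one' (x := (⟨w, hw⟩ : pPrimeCore r X))
    exact congrArg Subtype.val this
  have h3 : orderOf w ∣ Nat.gcd (r ^ m) (Nat.card (pPrimeCore r X)) :=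
    Nat.dvd_gcd (orderOf_dvd_of_pow_eq_one hm) (orderOf_dvd_of_pow_eq_one h2)
  have h4 : Nat.gcd (r ^ m) (Nat.card (pPrimeCore r X)) = 1 := by
    apply Nat.Coprime.pow_left
    exact h1.symm
  rw [h4, Nat.dvd_one, orderOf_eq_one_iff] at h3
  exact h3

/-- An element of `O_{r'}(M)` normalizing an `r`-subgroup `P` of `M` centralizes it. -/
theorem comm_of_mem_core {M P : Subgroup G} {r : ℕ} [hr : Fact r.Prime] {y u : G} (hy : y ∈ M) (hcore : (⟨y, hy⟩ : M) ∈ pPrimeCore r M)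
    (hP : IsPGroup r P) (hPM : P ≤ M) (hyP : y ∈ normalizer (P : Set G)) (hu : u ∈ P) : y * u = u * y := by
  have huM : u ∈ M := hPM hu
  set c : G := y * u * y⁻¹ * u⁻¹ with hc
  have hcP : c ∈ P := P.mul_mem ((mem_normalizer_iff.mp hyP u).mp hu) (P.inv_mem hu)
  have hcM : c ∈ M := hPM hcP
  have hc2 : (⟨c, hcM⟩ : M) ∈ pPrimeCore r M := by
    have h1 : (⟨c, hcM⟩ : M) = (⟨y, hy⟩ : M) * ((⟨u, huM⟩ : M) * (⟨y, hy⟩ : M)⁻¹ * (⟨u, huM⟩ : M)⁻¹) := by
      apply Subtype.ext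
      show y * u * y⁻¹ * u⁻¹ = y * (u * y⁻¹ * u⁻¹)
      group
    rw [h1]
    exact mul_mem hcore ((pPrimeCore_normal r M).conj_mem _ (inv_mem hcore) _)
  obtain ⟨m, hm⟩ := hP ⟨c, hcP⟩
  have hm' : c ^ r ^ m = 1 := congrArg Subtype.val hm
  have h3 : (⟨c, hcM⟩ : M) ^ r ^ m = 1 := by
    apply Subtype.ext
    exact hm'
  have h4 := eq_one_of_core_pow hc2 h3
  have h5 : y * u * y⁻¹ * u⁻¹ = 1 := congrArg Subtype.val h4
  rw [mul_inv_eq_one, mul_inv_eq_iff_eq_mul] at h5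
  exact h5

/-- An element of order prime to the index of `O_{r'}(M)` lies in `O_{r'}(M)`. -/
theorem mem_core_of_not_dvd {M : Subgroup G} {r s : ℕ} (hs : s.Prime) {y : G} (hy : y ∈ M) (hyo : y ^ s = 1)
    (hi : ¬ s ∣ (pPrimeCore r M).index) : (⟨y, hy⟩ : M) ∈ pPrimeCore r M := by
  have hc : Nat.Coprime (pPrimeCore r M).index s := ((Nat.Prime.coprime_iff_not_dvd hs).mpr hi).symm
  refine mem_of_pow_coprime_aux hc (Subgroup.pow_index_mem _ _) ?_
  have h1 : (⟨y, hy⟩ : M) ^ s = 1 := Subtype.ext hyo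
  rw [h1]
  exact one_mem _

/-- The situation of S1436. -/
structure QCtx (M N A : Subgroup G) (x : G) (p : ℕ) : Prop extends XCtx M N x where
  hAM : A ≤ M
  T : T2 N A p
  hNA : normalizer (A : Set G) ≤ M
  hcompl : IsComplIn (M ⊓ N) (sigmaCore N) N
  hnil : Group.IsNilpotent (sigmaCore N)
  hu : ∀ L : Subgroup G, IsCoatom L → centralizer ({x} : Set G) ≤ L → L = N

theorem XCtx.exists_qctx {M N : Subgroup G} {x : G} (c : XCtx M N x) : ∃ (A : Subgroup G) (p : ℕ), p.Prime ∧ QCtx M N A x p := by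
  obtain ⟨hu, -, hcompl, h5, hnil, p, hp, hpd, hpτ, A, hAD, T, hNA⟩ := c.main
  exact ⟨A, p, hp, ⟨c, hAD.trans inf_le_left, T, hNA, hcompl, hnil, hu⟩⟩

namespace QCtx

variable {M N A : Subgroup G} {x : G} {p : ℕ} [hpf : Fact p.Prime] (c : QCtx M N A x p)
include c

theorem hpσ : p ∈ sigma M := sigma_of_norm c.T c.hM c.hNA

theorem A_core : A ≤ sigmaCore M := le_sigmaCore_of_pgroup c.hG c.hM c.hpσ c.hAM c.T.isP

theorem not_sigmaM {q : ℕ} (hq : q ∈ sigma N) : q ∉ sigma M := by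
  intro hqM
  obtain ⟨g, hg⟩ := (kf_of c.hG).thD M N c.hM c.hN ⟨q, hqM, hq⟩
  apply c.T.notσ
  rw [hg]
  show p ∈ sigma (cj M g)
  rw [sigma_cj_eq]
  exact c.hpσ

/-- `M ∩ N` contains no nonidentity elements of order a power of a prime in `σ(N)`. -/
theorem no_elem {q : ℕ} (hq : q ∈ sigma N) {y : G} (hyM : y ∈ M) (hyN : y ∈ N) {k : ℕ} (hy : y ^ q ^ k = 1) : y = 1 := by
  by_contra hy1
  have hqp : q.Prime := hq.1
  haveI : Fact q.Prime := ⟨hqp⟩
  have h1 : orderOf y ∣ q ^ k := orderOf_dvd_of_pow_eq_one hy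
  obtain ⟨j, -, hj⟩ := (Nat.dvd_prime_pow hqp).mp h1
  have hj0 : j ≠ 0 := by
    rintro rfl
    rw [pow_zero, orderOf_eq_one_iff] at hj
    exact hy1 hj
  have h2 : q ∣ orderOf y := by
    rw [hj]
    exact dvd_pow_self q hj0
  have h3 : q ∣ Nat.card ↥(M ⊓ N) := h2.trans (Subgroup.orderOf_dvd_natCard _ (Subgroup.mem_inf.mpr ⟨hyM, hyN⟩))
  exact not_sigma_of_compl c.hG c.hN c.hcompl hqp h3 hq

/-- Some nonidentity element of `A` has a nonidentity fixed point in a given Sylow subgroup of `N_σ`. -/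
theorem exists_a {q : ℕ} [hqf : Fact q.Prime] (hq : q ∈ sigma N) {S : Subgroup G} (hS : IsSylowIn q S (sigmaCore N)) :
    ∃ a ∈ A, a ≠ 1 ∧ ∃ t ∈ S, t ≠ 1 ∧ a * t = t * a := by
  classical
  have hSN : N ≤ normalizer (S : Set G) := BGK5.le_normalizer_of_nilpotent hS c.hnil
  have hS1 : S ≠ ⊥ := by
    have hd : q ∣ Nat.card (sigmaCore N) := by
      have h1 := Cfsg.Agent.Lib.Coprime.relIndex_mul_card_of_le (sigmaCore_le (M := N))
      have h2 := (sigma_hall c.hG c.hN).1.2.2 q hq.1 hq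
      have h3 : q ∣ Nat.card N := hq.2.1
      rw [← h1] at h3
      exact ((Nat.Prime.dvd_mul hq.1).mp h3).resolve_left h2
    have h4 := Sylow.ne_bot_of_dvd_card hS.toSylow hd
    intro h5
    apply h4
    show S.subgroupOf _ = ⊥
    rw [h5, Subgroup.bot_subgroupOf]
  have hSnil : Group.IsNilpotent S := hS.2.1.isNilpotent
  set V : Subgroup G := S ⊓ centralizer (S : Set G) with hV
  have hV1 : V ≠ ⊥ := Cfsg.Agent.Lib.BGZC.core_center_ne_bot hS1 hSnil
  have hVc : IsMulCommutative V := by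
    refine ⟨⟨fun a b => ?_⟩⟩
    apply Subtype.ext
    exact (Subgroup.mem_centralizer_iff.mp a.2.2 b b.2.1).symm
  have hBn : A ≤ normalizer (V : Set G) := by
    refine le_normalizer_inf (c.T.hAM.trans hSN) ?_
    intro b hb
    exact normalizer_le_normalizer_centralizer _ (hSN (c.T.hAM hb))
  have hcop : Nat.Coprime (Nat.card V) p := by
    rw [Nat.coprime_comm, Nat.Prime.coprime_iff_not_dvd hpf.out]
    intro h
    have h1 : p ∣ Nat.card (sigmaCore N) := h.trans (Subgroup.card_dvd_of_le (inf_le_left.trans hS.1))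
    exact not_dvd_sigmaCore hpf.out c.T.notσ h1
  obtain ⟨E₁, hE₁, hc, hE₁V⟩ := exists_index_le_fixed hpf.out c.T.ea.1 c.T.ea.2 hVc hBn hcop hV1
  have hE₁1 : E₁ ≠ ⊥ := by
    rintro rfl
    rw [c.T.card, Subgroup.card_bot, mul_one, pow_two] at hc
    have := hpf.out.two_le
    nlinarith
  obtain ⟨b, hb, hb1⟩ := exists_mem_ne_one hE₁1
  obtain ⟨w, hw, hw1⟩ := exists_mem_ne_one hE₁V
  refine ⟨b, hE₁ hb, hb1, w, (Subgroup.mem_inf.mp (Subgroup.mem_inf.mp hw).1).1, hw1, ?_⟩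
  exact Subgroup.mem_centralizer_iff.mp (Subgroup.mem_inf.mp hw).2 b hb

/-- An element of `A` with a fixed point on `N_σ` has its centralizer in a unique maximal subgroup, namely `N`. -/
theorem cent_a {a w : G} (ha : a ∈ A) (ha1 : a ≠ 1) (hw : w ∈ sigmaCore N) (hw1 : w ≠ 1) (haw : a * w = w * a) : CU N a := by
  refine (Cfsg.Agent.S1420.result c.hG N c.hN _ c.hcompl).2.2.2 a (c.T.hAM ha) ha1 ?_ ⟨c.T.hAM ha, w, hw, hw1, haw⟩
  intro r hr hd
  have h1 : orderOf a ∣ p := orderOf_dvd_of_pow_eq_one (c.T.ea.2 a ha)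
  rw [(Nat.prime_dvd_prime_iff_eq hr hpf.out).mp (hd.trans h1)]
  exact c.T.hp

/-- **`q ∈ β(N)` when `q ∈ σ(N)` divides `|M|`.** -/
theorem beta_of {q : ℕ} (hq : q ∈ sigma N) (hqM : q ∣ Nat.card M) : q ∈ beta N := by
  classical
  have hqp : q.Prime := hq.1
  haveI hqf : Fact q.Prime := ⟨hqp⟩
  have hG := c.hG
  have hM := c.hM
  have hN := c.hN
  have hpp := hpf.out
  obtain ⟨S, hS⟩ := exists_isSylowIn q (sigmaCore N)
  obtain ⟨a, ha, ha1, t, ht, ht1, hat⟩ := c.exists_a hq hS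
  have hqσ : q ∉ sigma M := c.not_sigmaM hq
  have hC : CU N a := c.cent_a ha ha1 (hS.1 ht) ht1 hat
  have hpq : p ≠ q := by
    rintro rfl
    exact c.T.notσ hq
  have hao : orderOf a = p := orderOf_eq_prime (c.T.ea.2 a ha) ha1
  have haM : a ∈ M := c.hAM ha
  have haN : a ∈ N := c.T.hAM ha
  -- `p ∉ β(M)`
  have hpβ : p ∉ beta M := by
    intro hb
    obtain ⟨⟨h1, -⟩, -⟩ := s1423el hG hM c.hpσ haM hao (Or.inl hb)
    have htM : t ∈ M := h1 (Subgroup.mem_centralizer_singleton_iff.mpr hat.symm)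
    obtain ⟨m, hm⟩ := hS.2.1 ⟨t, ht⟩
    exact ht1 (c.no_elem hq htM (sigmaCore_le (hS.1 ht)) (congrArg Subtype.val hm))
  -- an element of order `q` in `M`
  obtain ⟨y₀', hy₀'⟩ := exists_prime_orderOf_dvd_card' (G := M) q hqM
  set y₀ : G := (y₀' : G) with hy₀def
  have hy₀M : y₀ ∈ M := y₀'.2
  have hy₀o : orderOf y₀ = q := by
    rw [hy₀def, Subgroup.orderOf_coe]
    exact hy₀'
  have hy₀1 : y₀ ≠ 1 := by
    intro h
    rw [h, orderOf_one] at hy₀o
    exact hqp.one_lt.ne hy₀o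
  have hy₀q : y₀ ^ q = 1 := by
    rw [← hy₀o]
    exact pow_orderOf_eq_one _
  have hlt : q < p := by
    by_contra hle
    have hpq' : p < q := lt_of_le_of_ne (not_lt.mp hle) hpq
    have h14 := ((Cfsg.Agent.S1414.result hG M hM).2.2.2.2 p hpp c.hpσ.2.1 hpβ).2.2
    have hqi : ¬ q ∣ (pPrimeCore p M).index := fun h => absurd (h14 q hqp h) (not_le.mpr hpq')
    have hcore := mem_core_of_not_dvd (r := p) hqp hy₀M hy₀q hqi
    have hsol : Group.IsSolvable (sigmaCore M) := solvable_of_le_coatom hG hM sigmaCore_le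
    have hcop : Nat.Coprime (Nat.card (sigmaCore M)) (Nat.card (zpowers y₀)) := by
      rw [Nat.card_zpowers, hy₀o, Nat.coprime_comm, Nat.Prime.coprime_iff_not_dvd hqp]
      exact fun h => hqσ (primes_sigmaCore q hqp h)
    obtain ⟨P₁, hP₁, hP₁n⟩ := exists_invariant_isSylowIn p hsol (A := zpowers y₀)
      (zpowers_le.mpr (le_normalizer_sigmaCore hy₀M)) hcop
    have hcomm : ∀ u ∈ P₁, y₀ * u = u * y₀ := fun u hu =>
      comm_of_mem_core hy₀M hcore hP₁.2.1 (hP₁.1.trans sigmaCore_le) (hP₁n (mem_zpowers y₀)) hu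
    have haσ : a ∈ sigmaCore M := c.A_core ha
    have hZp : IsPGroup p ↥(zpowers a) := isPGroup_zpowers_pow (k := 1) (by rw [pow_one]; exact c.T.ea.2 a ha)
    obtain ⟨P₂, hP₂, haP₂⟩ := exists_isSylowIn_ge p (zpowers_le.mpr haσ) hZp
    obtain ⟨g, hg, hgP⟩ := hP₂.exists_conj hP₁
    have hgM : g ∈ M := sigmaCore_le hg
    have hu : g * a * g⁻¹ ∈ P₁ := by
      rw [hgP]
      rw [mem_cj]
      have h2 : g⁻¹ * (g * a * g⁻¹) * g = a := by group
      rw [h2]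
      exact haP₂ (mem_zpowers a)
    have h3 := hcomm _ hu
    -- `g⁻¹ y₀ g` commutes with `a`
    set y₁ : G := g⁻¹ * y₀ * g with hy₁
    have hy₁a : y₁ * a = a * y₁ := by
      have h4 : y₁ * a = g⁻¹ * (y₀ * (g * a * g⁻¹)) * g := by rw [hy₁]; group
      have h5 : a * y₁ = g⁻¹ * ((g * a * g⁻¹) * y₀) * g := by rw [hy₁]; group
      rw [h4, h5, h3]
    have hy₁M : y₁ ∈ M := M.mul_mem (M.mul_mem (M.inv_mem hgM) hy₀M) hgM
    have hy₁N : y₁ ∈ N := hC.1 (Subgroup.mem_centralizer_singleton_iff.mpr hy₁a)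
    have hy₁q : y₁ ^ q ^ 1 = 1 := by
      rw [pow_one, hy₁]
      have h6 : (g⁻¹ * y₀ * g) ^ q = g⁻¹ * y₀ ^ q * g := by
        have := conj_pow (a := g⁻¹) (b := y₀) (i := q)
        simpa using this
      rw [h6, hy₀q]
      group
    have h7 := c.no_elem hq hy₁M hy₁N hy₁q
    apply hy₀1
    have h8 : y₀ = g * y₁ * g⁻¹ := by rw [hy₁]; group
    rw [h8, h7]
    group
  by_contra hqβ
  have hqN : q ∣ Nat.card N := hq.2.1
  have h14 := ((Cfsg.Agent.S1414.result hG N hN).2.2.2.2 q hqp hqN hqβ).2.2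
  have hpi : ¬ p ∣ (pPrimeCore q N).index := fun h => absurd (h14 p hpp h) (not_le.mpr hlt)
  have hSN : N ≤ normalizer (S : Set G) := BGK5.le_normalizer_of_nilpotent hS c.hnil
  have hScent : S ≤ sigmaCore N ⊓ centralizer (A : Set G) := by
    intro s hs
    refine Subgroup.mem_inf.mpr ⟨hS.1 hs, ?_⟩
    rw [Subgroup.mem_centralizer_iff]
    intro b hb
    have hbN := c.T.hAM hb
    have hcore := mem_core_of_not_dvd (r := q) hpp hbN (c.T.ea.2 b hb) hpi
    exact comm_of_mem_core hbN hcore hS.2.1 (hS.1.trans sigmaCore_le) (hSN hbN) hs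
  rw [c.T.d] at hScent
  exact ht1 (Subgroup.mem_bot.mp (hScent ht))

end QCtx

end Cfsg.Agent.Lib.BGCent
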