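import Mathlib
import Cfsg.Agent.Lib.BGCent24

/-!
# Bender-Glauberman section 15: primes of `σ(N)` dividing `|M|`, continued.
-/

set_option autoImplicit false
set_option linter.unusedSectionVars false
set_option linter.unusedVariables false
set_option linter.style.haveILetI false
set_option linter.unusedSimpArgs false

namespace Cfsg.Agent.Lib.BGCent

open Cfsg Subgroup Cfsg.Agent.Lib.CoprimeInv Cfsg.Agent.Lib.BGTrans Cfsg.Agent.Lib.BGTrans2 Cfsg.Agent.Lib.BGUniq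
  Cfsg.Agent.Lib.BGUniq2 Cfsg.Agent.Lib.PCore Cfsg.Agent.Lib.BGTau7 Cfsg.Agent.Lib.BGM1 Cfsg.Agent.Lib.BGTau5
  Cfsg.Agent.Lib.BGTau3 Cfsg.Agent.Lib.BGM2 Cfsg.Agent.Lib.BGTau6 Cfsg.Agent.Lib.BGTau1 Cfsg.Agent.Lib.BGP2E
  Cfsg.Agent.Lib.BGFit2 Cfsg.Agent.Lib.BGZ1 Cfsg.Agent.Lib.BGZ2 Cfsg.Agent.Lib.BGZ5 Cfsg.Agent.Lib.BGZ6 Cfsg.Agent.Lib.BGK0
open scoped commutatorElement

universe u

variable {G : Type u} [Group G] [Finite G]

/-- The centralizer of a conjugate. -/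
theorem mem_cent_conj {y u : G} (g : G) (hu : u ∈ centralizer ({y} : Set G)) :
    g * u * g⁻¹ ∈ centralizer ({g * y * g⁻¹} : Set G) := by
  rw [Subgroup.mem_centralizer_singleton_iff] at hu ⊢
  have h1 : g * u * g⁻¹ * (g * y * g⁻¹) = g * (u * y) * g⁻¹ := by group
  have h2 : g * y * g⁻¹ * (g * u * g⁻¹) = g * (y * u) * g⁻¹ := by group
  rw [h1, h2, hu]

/-- The property `CU` under conjugation. -/
theorem CU.cj {N : Subgroup G} {y : G} (h : CU N y) (hN : IsCoatom N) (g : G) : CU (cj N g) (g * y * g⁻¹) := by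
  constructor
  · intro u hu
    rw [mem_cj]
    apply h.1
    have h1 := mem_cent_conj g⁻¹ hu
    have h2 : g⁻¹ * (g * y * g⁻¹) * g⁻¹⁻¹ = y := by group
    rw [h2, inv_inv] at h1
    exact h1
  · intro L hL hC
    have hL' := Cfsg.Agent.Lib.BGUniq3.isCoatom_cj hL g⁻¹
    have h3 : centralizer ({y} : Set G) ≤ CoprimeInv.cj L g⁻¹ := by
      intro u hu
      rw [mem_cj, inv_inv]
      apply hC
      exact mem_cent_conj g hu
    have h4 := h.2 _ hL' h3
    rw [← h4, cj_inv_cj]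

/-- `T2` under conjugation of the maximal subgroup. -/
theorem T2.cj_coatom {N A : Subgroup G} {p : ℕ} [hpf : Fact p.Prime] (T : T2 N A p) (g : G) : T2 (cj N g) (cj A g) p := by
  have hL := Cfsg.Agent.Lib.BGUniq3.isCoatom_cj T.hM g
  have hAL : cj A g ≤ cj N g := cj_mono T.hAM g
  have he : IsElementaryAbelian p (cj A g) := Cfsg.Agent.Lib.ThompsonJ.ea_map T.ea _
  have hc : Nat.card (cj A g) = p ^ 2 := by rw [card_cj, T.card]
  have hσ : p ∉ sigma (cj N g) := by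
    rw [sigma_cj_eq]
    exact T.notσ
  exact T2.mk' T.hG hL ⟨hpf.out, hσ, rank2_of_not_sigma T.hG hL hpf.out hσ, not_rank_one_of_ea hAL he hc⟩ hAL he hc

namespace QCtx

variable {M N A : Subgroup G} {x : G} {p : ℕ} [hpf : Fact p.Prime] (c : QCtx M N A x p)
include c

/-- `M` has `q`-rank at most one when `q ∈ σ(N)`. -/
theorem rank_le {q : ℕ} (hq : q ∈ sigma N) (hqM : q ∣ Nat.card M) : PRankLE q 1 M := by
  by_contra h
  have hqp : q.Prime := hq.1
  haveI hqf : Fact q.Prime := ⟨hqp⟩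
  have hqσ := c.not_sigmaM hq
  exact (Cfsg.Agent.S1408.result c.hG M c.hM q hqσ (rank2_of_not_sigma c.hG c.hM hqp hqσ) h).1 (c.beta_of hq hqM).2

/-- Elements of order `q` of `M` have a unique maximal subgroup above their centralizer,
a conjugate of `N`, in whose `σ`-core they lie. -/
theorem exists_L {q : ℕ} (hq : q ∈ sigma N) (hqM : q ∣ Nat.card M) {y : G} (hy : y ∈ M) (hyo : orderOf y = q) :
    ∃ g, y ∈ sigmaCore (cj N g) ∧ CU (cj N g) y ∧ normalizer ((zpowers y : Subgroup G) : Set G) ≤ cj N g := by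
  classical
  have hG := c.hG
  have hN := c.hN
  have hqp : q.Prime := hq.1
  haveI hqf : Fact q.Prime := ⟨hqp⟩
  have hy1 : y ≠ 1 := by
    intro h
    rw [h, orderOf_one] at hyo
    exact hqp.one_lt.ne hyo
  have hZ1 : zpowers y ≠ ⊥ := by
    intro h
    exact hy1 (zpowers_eq_bot.mp h)
  obtain ⟨g, hg⟩ := Cfsg.Agent.S1425.result hG N hN (zpowers y) hZ1 (by
    intro r hr hd
    rw [Nat.card_zpowers, hyo] at hd
    rw [(Nat.prime_dvd_prime_iff_eq hr hqp).mp hd]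
    exact hq)
  have hw : g * y * g⁻¹ ∈ sigmaCore N := hg ⟨y, mem_zpowers y, rfl⟩
  have hwo : orderOf (g * y * g⁻¹) = q := by
    have h1 : orderOf (MulAut.conj g y) = orderOf y := MulEquiv.orderOf_eq _ _
    rw [← hyo, ← h1]
    rfl
  obtain ⟨hCU, -⟩ := s1423el hG hN hq (sigmaCore_le hw) hwo (Or.inl (c.beta_of hq hqM))
  have hCU' := CU.cj hCU hN g⁻¹
  have he : g⁻¹ * (g * y * g⁻¹) * g⁻¹⁻¹ = y := by group
  rw [he] at hCU'
  have hL := Cfsg.Agent.Lib.BGUniq3.isCoatom_cj hN g⁻¹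
  refine ⟨g⁻¹, ?_, hCU', ?_⟩
  · rw [sigmaCore_cj, mem_cj, inv_inv]
    exact hw
  · intro h hh
    have hcj : CoprimeInv.cj (CoprimeInv.cj N g⁻¹) h = CoprimeInv.cj N g⁻¹ := by
      apply hCU'.2 _ (Cfsg.Agent.Lib.BGUniq3.isCoatom_cj hL h)
      intro u hu
      rw [mem_cj]
      apply hCU'.1
      have h1 := normalizer_le_normalizer_centralizer (zpowers y) hh
      rw [centralizer_zpowers] at h1
      have h2 := (mem_normalizer_iff.mp h1 (h⁻¹ * u * h)).mpr (by
        have h3 : h * (h⁻¹ * u * h) * h⁻¹ = u := by group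
        rw [h3]
        exact hu)
      exact h2
    have h4 := mem_normalizer_of_cj_eq hcj
    rwa [norm_eq_self hG hL (by
      intro h0
      have h5 : y ∈ CoprimeInv.cj N g⁻¹ := hCU'.1 (Subgroup.mem_centralizer_singleton_iff.mpr rfl)
      rw [h0] at h5
      exact hy1 (Subgroup.mem_bot.mp h5))] at h4

/-- Elements of order `q` in `M`. -/
theorem exists_y {q : ℕ} (hq : q ∈ sigma N) (hqM : q ∣ Nat.card M) :
    ∃ y ∈ M, y ≠ 1 ∧ orderOf y = q ∧ y ^ q = 1 := by
  have hqp : q.Prime := hq.1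
  haveI hqf : Fact q.Prime := ⟨hqp⟩
  obtain ⟨y', hy'⟩ := exists_prime_orderOf_dvd_card' (G := M) q hqM
  have hyo : orderOf (y' : G) = q := by
    rw [Subgroup.orderOf_coe]
    exact hy'
  refine ⟨y', y'.2, ?_, hyo, ?_⟩
  · intro h
    rw [h, orderOf_one] at hyo
    exact hqp.one_lt.ne hyo
  · rw [← hyo]
    exact pow_orderOf_eq_one _

/-- **`κ(M) = ∅`**. -/
theorem kappa_eq (H : H35 G) {q : ℕ} (hq : q ∈ sigma N) (hqM : q ∣ Nat.card M) : kappa M = ∅ := by
  classical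
  have hG := c.hG
  have hM := c.hM
  have hN := c.hN
  have hqp : q.Prime := hq.1
  haveI hqf : Fact q.Prime := ⟨hqp⟩
  have hkf := kf_of hG
  have hI := inp_of hG
  by_contra hne
  have hne' : (kappa M).Nonempty := Set.nonempty_iff_ne_empty.mpr hne
  obtain ⟨⟨K, hK⟩, hcyc⟩ := Cfsg.Agent.Lib.BGZ9.s1351 hI M hM
  have hKc := hcyc K hK
  obtain ⟨U, hd⟩ := exists_decomposition hG hkf hM hKc hK
  have hK1 : K ≠ ⊥ := by
    intro h
    obtain ⟨s, hs⟩ := hne'
    have h1 := hd.hall.2.2 s hs.1 hs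
    rw [h, Subgroup.relIndex_bot_left] at h1
    exact h1 hs.2.1
  have hgood : Good M K := ⟨hM, hd.hall, hK1⟩
  obtain ⟨Ns, hMs⟩ := exists_mate hI hgood
  have hqσ := c.not_sigmaM hq
  by_cases hqκ : q ∈ kappa M
  · obtain ⟨y, hyM, hy1, hyo, hyq⟩ := c.exists_y hq hqM
    have hZp : IsPGroup q ↥(zpowers y) := isPGroup_zpowers_pow (k := 1) (by rw [pow_one]; exact hyq)
    obtain ⟨P, hP, hyP⟩ := exists_isSylowIn_ge q (zpowers_le.mpr hyM) hZp
    obtain ⟨Q, hQ⟩ := exists_isSylowIn q K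
    have hQM : IsSylowIn q Q M := isSylowIn_of_hall hQ hd.hall.1 (hd.hall.2.2 q hqp hqκ)
    obtain ⟨m, hm, hmP⟩ := hQM.exists_conj hP
    have hy₁K : m⁻¹ * y * m ∈ K := by
      have h1 := hyP (mem_zpowers y)
      rw [hmP, mem_cj] at h1
      exact hQ.1 h1
    have hy₁o : orderOf (m⁻¹ * y * m) = q := by
      have h1 : orderOf (MulAut.conj m⁻¹ y) = orderOf y := MulEquiv.orderOf_eq _ _
      rw [← hyo, ← h1]
      simp
    have hX : zpowers (m⁻¹ * y * m) ≤ kst Ns (kst M K) := by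
      rw [hMs.kst_eq]
      exact zpowers_le.mpr hy₁K
    have hcp := Cfsg.Agent.Lib.BGZ9.cent_part hI hMs.symm hX (by rw [Nat.card_zpowers, hy₁o]; exact hqp)
    rw [centralizer_zpowers] at hcp
    have hCU₁ : CU Ns (m⁻¹ * y * m) := hcp
    have hCU₂ := CU.cj hCU₁ hMs.goodS.hM m
    have he : m * (m⁻¹ * y * m) * m⁻¹ = y := by group
    rw [he] at hCU₂
    obtain ⟨g, -, hCUg, -⟩ := c.exists_L hq hqM hyM hyo
    have hEq : CoprimeInv.cj N g = CoprimeInv.cj Ns m :=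
      hCU₂.2 _ (Cfsg.Agent.Lib.BGUniq3.isCoatom_cj hN g) hCUg.1
    have hκN : (kappa N).Nonempty := by
      have h1 : kappa N = kappa Ns := by rw [← kappa_cj_eq N g, hEq, kappa_cj_eq]
      rw [h1]
      obtain ⟨u, hu, hu1⟩ := exists_mem_ne_one hMs.goodS.ne
      have hno : orderOf u ≠ 1 := fun h => hu1 (orderOf_eq_one_iff.mp h)
      obtain ⟨s, hs, hsd⟩ := Nat.exists_prime_and_dvd hno
      exact ⟨s, hMs.goodS.hall.2.1 s hs (hsd.trans (Subgroup.orderOf_dvd_natCard _ hu))⟩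
    exact hne (s1376_of H hG hM c.hx c.hx1 c.hCM hN c.hCN hκN).1
  · have hqU : q ∣ Nat.card U := by
      have hcard := Cfsg.Agent.Lib.OddOrderCore.card_mul_card_of_isComplIn hd.compl
      have hNorm : K ≤ normalizer ((sigmaCore M : Subgroup G) : Set G) := hK.1.trans fun g hg => le_normalizer_sigmaCore hg
      have hnd : ¬ q ∣ Nat.card ↥(K ⊔ sigmaCore M) := by
        intro h
        have h1 := card_sup_mul_card_inf hNorm
        have h2 : q ∣ Nat.card K * Nat.card (sigmaCore M) := by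
          rw [← h1]
          exact Dvd.dvd.mul_right h _
        rcases (Nat.Prime.dvd_mul hqp).mp h2 with h3 | h3
        · exact hqκ (hK.2.1 q hqp h3)
        · exact hqσ (primes_sigmaCore q hqp h3)
      have h5 := hqM
      rw [← hcard] at h5
      exact ((Nat.Prime.dvd_mul hqp).mp h5).resolve_right hnd
    have hU1 : U ≠ ⊥ := by
      rintro rfl
      rw [Subgroup.card_bot] at hqU
      exact hqp.one_lt.ne' (Nat.dvd_one.mp hqU)
    obtain ⟨R, hR⟩ := exists_isSylowIn q U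
    have hRM : R ≤ M := hR.1.trans hd.compl.1
    have hRc : IsCyclic R := isCyclic_of_rank_one hG hRM hR.2.1 (c.rank_le hq hqM)
    have hR1 : R ≠ ⊥ := by
      have h4 := Sylow.ne_bot_of_dvd_card hR.toSylow hqU
      intro h5
      apply h4
      show R.subgroupOf _ = ⊥
      rw [h5, Subgroup.bot_subgroupOf]
    obtain ⟨y, hyR, hyo⟩ := exists_mem_order_p hR.2.1 hR1
    have hyM : y ∈ M := hRM hyR
    obtain ⟨g, -, -, hNy⟩ := c.exists_L hq hqM hyM hyo
    have hNR : normalizer (R : Set G) ≤ normalizer ((zpowers y : Subgroup G) : Set G) := by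
      intro h hh
      have hle : CoprimeInv.cj (zpowers y) h ≤ zpowers y := by
        rintro _ ⟨a, ha, rfl⟩
        have haR : a ∈ R := (zpowers_le.mpr hyR) ha
        have h1 : h * a * h⁻¹ ∈ R := (mem_normalizer_iff.mp hh a).mp haR
        refine mem_zpowers_of_cyclic hRc hqp hyR h1 hyo ?_
        obtain ⟨n, rfl⟩ := mem_zpowers_iff.mp ha
        have h2 : (y ^ n) ^ q = 1 := by
          rw [← zpow_natCast, zpow_comm, zpow_natCast, ← hyo, pow_orderOf_eq_one, one_zpow]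
        show (h * y ^ n * h⁻¹) ^ q = 1
        rw [conj_pow, h2]
        group
      apply mem_normalizer_of_cj_eq
      exact Subgroup.eq_of_le_of_card_ge hle (by rw [card_cj])
    have hL := Cfsg.Agent.Lib.BGUniq3.isCoatom_cj hN g
    have hmap : (hR.toSylow : Subgroup U).map U.subtype = R := Subgroup.map_subgroupOf_eq_of_le hR.1
    have hNP : normalizer (((hR.toSylow : Subgroup U).map U.subtype : Subgroup G) : Set G) ≤ CoprimeInv.cj N g := by
      rw [hmap]
      exact hNR.trans hNy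
    obtain ⟨h1, -, -, -, h5', h6⟩ := H M hM K U hd hK1 hU1 Ns hMs.goodS.hM hMs.kst_eq.symm hMs.goodS.hall q hqU hR.toSylow
      (CoprimeInv.cj N g) hL hNP
    have gc : GCtx (CoprimeInv.cj N g) M Ns K U := ⟨hI, hL, hd, hMs, hU1, h1, h5', h6⟩
    have hpτ : p ∈ tau2 (CoprimeInv.cj N g) := (T2.cj_coatom c.T g).hp
    have hpK : p = Nat.card K := gc.tau2_le hpτ
    have h2 : p ∈ kappa M := hd.hall.2.1 p hpf.out (by rw [← hpK])
    exact h2.2.2.1 c.hpσ

/-- **`τ₂(M) = ∅`**. -/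
theorem tau2_eq' (H : H35 G) {q : ℕ} (hq : q ∈ sigma N) (hqM : q ∣ Nat.card M) : tau2 M = ∅ := by
  classical
  have hG := c.hG
  have hM := c.hM
  have hN := c.hN
  have hqp : q.Prime := hq.1
  haveI hqf : Fact q.Prime := ⟨hqp⟩
  have hκ := c.kappa_eq H hq hqM
  rw [Set.eq_empty_iff_forall_notMem]
  intro r hrτ
  haveI hrf : Fact r.Prime := ⟨hrτ.1⟩
  have hqσ := c.not_sigmaM hq
  have hrk := c.rank_le hq hqM
  have hrq : r ≠ q := by
    rintro rfl
    exact hrτ.2.2.2 hrk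
  obtain ⟨y, hyM, hy1, hyo, hyq⟩ := c.exists_y hq hqM
  have hσy : ∀ s : ℕ, s.Prime → s ∣ orderOf y → s ∉ sigma M := by
    intro s hs hd
    rw [hyo] at hd
    rw [(Nat.prime_dvd_prime_iff_eq hs hqp).mp hd]
    exact hqσ
  obtain ⟨E, hyE, hE⟩ := Cfsg.Agent.Lib.BGCent.exists_compl_ge hG hM (Y := zpowers y) (zpowers_le.mpr hyM) (by
    intro s hs hd
    rw [Nat.card_zpowers] at hd
    exact hσy s hs hd)
  obtain ⟨B, hBE, ⟨T'⟩⟩ := exists_ea_in_compl hG hM hE hrτ
  have h18 := Cfsg.Agent.S1418.result hG M hM E hE r hrτ B ⟨hBE, T'.ea, T'.card⟩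
  have hyB : y ∈ normalizer (B : Set G) := h18.1.1 (hyE (mem_zpowers y))
  have hfpf : ∀ w ∈ sigmaCore M, y * w = w * y → w = 1 := by
    intro w hw hyw
    by_contra hw1
    have hy' : y ∈ M ⊓ centralizer ({w} : Set G) := ⟨hyM, Subgroup.mem_centralizer_singleton_iff.mpr hyw⟩
    rcases Cfsg.Agent.S1432.result hG M hM w hw hw1 y hy' hy1 hσy with h | h
    · have h1 := h.1 q hqp (by rw [hyo])
      rw [hκ] at h1
      exact h1
    · exact (h.1 q hqp (by rw [hyo])).2.2.2 hrk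
  obtain ⟨g, hyL, hCU, hNy⟩ := c.exists_L hq hqM hyM hyo
  have hL := Cfsg.Agent.Lib.BGUniq3.isCoatom_cj hN g
  have hrσL : r ∉ sigma (CoprimeInv.cj N g) := by
    rw [sigma_cj_eq]
    intro hrN
    exact hrτ.2.2.2 (c.rank_le hrN T'.dvdM)
  have hne : sigmaCore M ≠ ⊥ := sigmaCore_ne_bot hG hM T'.M_ne_bot
  by_cases hfp : ∀ b ∈ B, y * b = b * y → b = 1
  · have hcop : Nat.Coprime (Nat.card (sigmaCore M)) (Nat.card B) := by
      rw [T'.card]
      apply Nat.Coprime.pow_right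
      rw [Nat.coprime_comm, Nat.Prime.coprime_iff_not_dvd hrf.out]
      exact fun h => hrτ.2.1 (primes_sigmaCore r hrf.out h)
    have hC := frob_cent_gen hyo hqp (solvable_of_le_coatom hG hM sigmaCore_le) hcop
      (fun h => hqσ (primes_sigmaCore q hqp h)) (T'.hAM.trans fun m hm => le_normalizer_sigmaCore hm)
      (le_normalizer_sigmaCore hyM) hyB hfp (by
        intro t ht hyt a ha
        rw [hfpf t ht hyt, mul_one, one_mul])
    apply hne
    rw [eq_bot_iff, ← T'.d]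
    exact le_inf le_rfl hC
  · push Not at hfp
    obtain ⟨b₀, hb₀, hyb, hb1⟩ := hfp
    have hb₀L : b₀ ∈ CoprimeInv.cj N g := hCU.1 (Subgroup.mem_centralizer_singleton_iff.mpr hyb.symm)
    have hb₀o : orderOf b₀ = r := orderOf_eq_prime (T'.ea.2 _ hb₀) hb1
    rcases Cfsg.Agent.S1432.result hG _ hL y hyL hy1 b₀ ⟨hb₀L, Subgroup.mem_centralizer_singleton_iff.mpr hyb.symm⟩ hb1 (by
      intro s hs hd
      rw [hb₀o] at hd
      rw [(Nat.prime_dvd_prime_iff_eq hs hrf.out).mp hd]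
      exact hrσL) with h | h
    · have hrκ := h.1 r hrf.out (by rw [hb₀o])
      rw [kappa_cj_eq] at hrκ
      obtain ⟨Ns, K, U, f⟩ := c.toXCtx.exists_fctx H ⟨r, hrκ⟩
      rw [f.tau2_eq] at hrτ
      exact hrτ
    · obtain ⟨hτL, -, hCb, -⟩ := h
      have hτ' := hτL r hrf.out (by rw [hb₀o])
      have hBL : B ≤ CoprimeInv.cj N g := by
        intro b hb
        apply hCb
        rw [Subgroup.mem_centralizer_singleton_iff]
        exact congrArg Subtype.val (T'.ea.1.is_comm.comm (⟨b, hb⟩ : B) ⟨b₀, hb₀⟩)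
      have T'' : T2 (CoprimeInv.cj N g) B r := T2.mk' hG hL hτ' hBL T'.ea T'.card
      have hnilL := T''.nilpotent
      have hZp : IsPGroup q ↥(zpowers y) := isPGroup_zpowers_pow (k := 1) (by rw [pow_one]; exact hyq)
      obtain ⟨S, hS, hyS⟩ := exists_isSylowIn_ge q (zpowers_le.mpr hyL) hZp
      have hy' : y ∈ S := hyS (mem_zpowers y)
      have hSL := BGK5.le_normalizer_of_nilpotent hS hnilL
      have hSB : S ⊓ B = ⊥ := by
        apply inf_eq_bot_of_coprime'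
        rw [T'.card]
        apply Nat.Coprime.pow_right
        obtain ⟨k, hk⟩ := IsPGroup.iff_card.mp hS.2.1
        rw [hk]
        apply Nat.Coprime.pow_left
        exact (Nat.coprime_primes hqp hrf.out).mpr hrq.symm
      have hyC : y ∈ centralizer (B : Set G) := by
        rw [Subgroup.mem_centralizer_iff]
        intro b hb
        have h1 : b * y * b⁻¹ * y⁻¹ ∈ S := S.mul_mem ((mem_normalizer_iff.mp (hSL (hBL hb)) y).mp hy') (S.inv_mem hy')
        have h2 : b * y * b⁻¹ * y⁻¹ ∈ B := by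
          have h3 : b * y * b⁻¹ * y⁻¹ = b * (y * b⁻¹ * y⁻¹) := by group
          rw [h3]
          exact B.mul_mem hb ((mem_normalizer_iff.mp hyB b⁻¹).mp (B.inv_mem hb))
        have h4 : b * y * b⁻¹ * y⁻¹ ∈ S ⊓ B := Subgroup.mem_inf.mpr ⟨h1, h2⟩
        rw [hSB, Subgroup.mem_bot, mul_inv_eq_one, mul_inv_eq_iff_eq_mul] at h4
        exact h4
      have h5 : y ∈ sigmaCore (CoprimeInv.cj N g) ⊓ centralizer (B : Set G) := Subgroup.mem_inf.mpr ⟨hyL, hyC⟩
      rw [T''.d, Subgroup.mem_bot] at h5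
      exact hy1 h5

end QCtx

/-- **S1436(a)**. -/
theorem s1436a (H : H35 G) {M N : Subgroup G} {x : G} (c : XCtx M N x) (h : ∃ q ∈ sigma N, q ∣ Nat.card M) :
    kappa M = ∅ ∧ tau2 M = ∅ := by
  obtain ⟨q, hq, hqM⟩ := h
  obtain ⟨A, p, hp, d⟩ := c.exists_qctx
  haveI : Fact p.Prime := ⟨hp⟩
  exact ⟨d.kappa_eq H hq hqM, d.tau2_eq' H hq hqM⟩

end Cfsg.Agent.Lib.BGCent
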