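import Mathlib
import Cfsg.Agent.Lib.BGU0
import Cfsg.Agent.Lib.BGK9
import Cfsg.Agent.Lib.BGZ3
import Cfsg.Agent.Lib.BGCent13

/-!
# Bender-Glauberman: the standard factorisation `M = K U M_σ`: the subgroup `U₀`, the set `A(M)`.
-/

set_option autoImplicit false
set_option linter.unusedSectionVars false
set_option linter.unusedVariables false
set_option linter.style.haveILetI false
set_option linter.unusedSimpArgs false

namespace Cfsg.Agent.Lib.BGU0

open Cfsg Subgroup Cfsg.Agent.Lib.CoprimeInv Cfsg.Agent.Lib.BGTrans Cfsg.Agent.Lib.BGTrans2 Cfsg.Agent.Lib.BGUniq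
  Cfsg.Agent.Lib.BGUniq2 Cfsg.Agent.Lib.BGTau1 Cfsg.Agent.Lib.BGTau2
  Cfsg.Agent.Lib.BGTau3 Cfsg.Agent.Lib.BGTau4 Cfsg.Agent.Lib.BGTau5 Cfsg.Agent.Lib.BGTau6
  Cfsg.Agent.Lib.BGUT1 Cfsg.Agent.Lib.BGM1
  Cfsg.Agent.Lib.BGUniq3 Cfsg.Agent.Lib.BGSigma3 Cfsg.Agent.Lib.BGSigma4 Cfsg.Agent.Lib.BGSigma2
  Cfsg.Agent.Lib.Glauberman Cfsg.Agent.Lib.BGFit2 Cfsg.Agent.Lib.BGTau7 Cfsg.Agent.Lib.BGM2
  Cfsg.Agent.Lib.BGE0
open scoped commutatorElement

universe u

variable {G : Type u} [Group G] [Finite G]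

/-- **The cyclic subgroup of maximal order in a Sylow subgroup, for `p ∈ τ₂`.** -/
theorem exists_z_free {M A P : Subgroup G} {p : ℕ} [hp : Fact p.Prime] (T : T2 M A p) (hAP : A ≤ P)
    (hPM : IsSylowIn p P M) :
    ∃ z ∈ P, (∀ v ∈ P, orderOf v ∣ orderOf z) ∧ Good M (zpowers z) := by
  classical
  have hPab : IsMulCommutative P := T.abelian hPM hAP
  have hfP : (1 : G) ∈ normalizer (P : Set G) := one_mem _
  have hpf : ¬ p ∣ 1 := fun h => hp.out.one_lt.ne' (Nat.dvd_one.mp h)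
  letI cg : CommGroup P :=
    { (inferInstance : Group P) with mul_comm := fun a b => hPab.is_comm.comm a b }
  obtain ⟨w, hw⟩ := Monoid.exists_orderOf_eq_exponent (G := P) Monoid.ExponentExists.of_finite
  have hwG : orderOf (w : G) = Monoid.exponent P := by rw [Subgroup.orderOf_coe, hw]
  obtain ⟨k, hk⟩ := hPM.2.1 w
  have hwk : (w : G) ^ p ^ k = 1 := congrArg Subtype.val hk
  obtain ⟨e, -, he⟩ := (Nat.dvd_prime_pow hp.out).mp (orderOf_dvd_of_pow_eq_one hwk)
  have hexp0 : ∀ v ∈ P, v ^ orderOf (w : G) = 1 := by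
    intro v hv
    rw [hwG]
    have := Monoid.pow_exponent_eq_one (⟨v, hv⟩ : P)
    exact congrArg Subtype.val this
  have he0 : e ≠ 0 := by
    rintro rfl
    obtain ⟨x, hx, hx1⟩ := exists_mem_ne_one T.A_ne_bot
    apply hx1
    have := hexp0 x (hAP hx)
    rwa [he, pow_zero, pow_one] at this
  obtain ⟨a, rfl⟩ : ∃ a, e = a + 1 := ⟨e - 1, by omega⟩
  have hexp : ∀ v ∈ P, v ^ p ^ (a + 1) = 1 := by
    intro v hv
    rw [← he]
    exact hexp0 v hv
  -- the final step
  have key : ∀ z₁ ∈ P, z₁ ^ p ^ a ≠ 1 → Free M (z₁ ^ p ^ a) →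
      ∃ z ∈ P, (∀ v ∈ P, orderOf v ∣ orderOf z) ∧ Good M (zpowers z) := by
    intro z₁ hz₁ h1 h3
    obtain ⟨z, hzP, hzo, -, hzz⟩ := exists_invariant_cyclic hPab hfP (one_pow 1) hpf hexp hz₁ h1 (by
      rw [one_mul, inv_one, mul_one]
      exact mem_zpowers _)
    refine ⟨z, hzP, fun v hv => ?_, ?_⟩
    · rw [hzo]
      exact orderOf_dvd_of_pow_eq_one (hexp v hv)
    · apply good_of_prime
      intro u hu hu1 huo
      have hd : orderOf u ∣ p ^ (a + 1) := by
        rw [← hzo]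
        exact orderOf_dvd_of_mem_zpowers hu
      obtain ⟨m, -, hm⟩ := (Nat.dvd_prime_pow hp.out).mp hd
      have hup : u ^ p = 1 := by
        have h4 : orderOf u = p := by
          have h5 : p ∣ orderOf u := by
            have hm0 : m ≠ 0 := by
              rintro rfl
              rw [pow_zero] at hm
              exact huo.one_lt.ne' hm
            rw [hm]
            exact dvd_pow_self p hm0
          exact ((Nat.prime_dvd_prime_iff_eq hp.out huo).mp h5).symm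
        rw [← h4]
        exact pow_orderOf_eq_one u
      obtain ⟨l, hl⟩ := exists_pow_of_mem_zpowers hu
      have h6 : z ^ (l * p) = 1 := by rw [pow_mul, hl, hup]
      have h7 : p ^ (a + 1) ∣ l * p := by
        rw [← hzo]
        exact orderOf_dvd_of_pow_eq_one h6
      have h8 : p ^ a ∣ l := by
        rw [pow_succ] at h7
        exact Nat.dvd_of_mul_dvd_mul_right hp.out.pos h7
      obtain ⟨c, rfl⟩ := h8
      have hbp : (z ^ p ^ a) ^ p = 1 := by
        rw [← pow_mul, ← pow_succ]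
        exact hexp z hzP
      have hub : u ∈ zpowers (z ^ p ^ a) := by
        rw [← hl, pow_mul]
        exact pow_mem (mem_zpowers _) _
      have h9 := Cfsg.Agent.Lib.BGTau7.zpowers_eq_of_mem hbp hu1 hub
      refine Free.of_mem_zpowers h3 ?_
      rw [h9, hzz]
      exact mem_zpowers _
  have hx₀1 : (w : G) ^ p ^ a ≠ 1 := by
    intro h
    have h1 := orderOf_dvd_of_pow_eq_one h
    rw [he] at h1
    have h2 := (Nat.pow_dvd_pow_iff_le_right hp.out.one_lt).mp h1
    omega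
  by_cases hα : ∀ v ∈ P, v ^ p ^ a ∈ zpowers ((w : G) ^ p ^ a)
  · obtain ⟨-, t, ht, htP, -⟩ := T.central hPM hAP
    have hx₀A : (w : G) ^ p ^ a ∈ A := by
      refine T.omega_P hPM hAP (pow_mem w.2 _) ?_
      rw [← pow_mul, ← pow_succ]
      exact hexp _ w.2
    have hconj : ∀ g ∈ normalizer (P : Set G), g * (w : G) ^ p ^ a * g⁻¹ ∈ zpowers ((w : G) ^ p ^ a) := by
      intro g hg
      rw [← conj_pow]
      exact hα _ ((mem_normalizer_iff.mp hg _).mp w.2)
    exact key w w.2 hx₀1 (free_of_normalizing T hx₀A hx₀1 ht (hconj t htP))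
  · push Not at hα
    obtain ⟨v, hvP, hv⟩ := hα
    have hx₀A : (w : G) ^ p ^ a ∈ A := by
      refine T.omega_P hPM hAP (pow_mem w.2 _) ?_
      rw [← pow_mul, ← pow_succ]
      exact hexp _ w.2
    have hvA : v ^ p ^ a ∈ A := by
      refine T.omega_P hPM hAP (pow_mem hvP _) ?_
      rw [← pow_mul, ← pow_succ]
      exact hexp _ hvP
    obtain ⟨x, hx, hx1, hfree⟩ := T.f
    obtain ⟨i, j, hij⟩ := exists_pow_mul T.ea T.card hx₀A hx₀1 hvA hv hx
    have hwv : Commute (w : G) v := congrArg Subtype.val (hPab.is_comm.comm w ⟨v, hvP⟩)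
    have hz : ((w : G) ^ i * v ^ j) ^ p ^ a = x := by
      rw [(hwv.pow_pow i j).mul_pow, ← pow_mul, ← pow_mul, mul_comm i, mul_comm j, pow_mul, pow_mul, hij]
    have hzP : (w : G) ^ i * v ^ j ∈ P := mul_mem (pow_mem w.2 i) (pow_mem hvP j)
    rw [← hz] at hx1 hfree
    exact key _ hzP hx1 hfree

/-- **The element of maximal order, with free powers**, for a Hall subgroup consisting of primes outside `σ, κ`. -/
theorem exists_z_of_sylow {M P : Subgroup G} {q : ℕ} [hq : Fact q.Prime] (hG : IsMinSimpleOddOrder G) (hM : IsCoatom M)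
    (hσ : q ∉ sigma M) (hκ : q ∉ kappa M) (hPM : IsSylowIn q P M) :
    ∃ z ∈ P, (∀ v ∈ P, orderOf v ∣ orderOf z) ∧ Good M (zpowers z) := by
  classical
  by_cases hr : PRankLE q 1 M
  · have hPcard : Nat.card P ∣ Nat.card G := Subgroup.card_subgroup_dvd_card _
    have hcyc : IsCyclic P := by
      by_cases hP1 : P = ⊥
      · subst hP1
        infer_instance
      · have hd : q ∣ Nat.card P := dvd_card_of_isPGroup hPM.2.1 hP1
        have h2 : q ≠ 2 := prime_ne_two_of_dvd hG (hd.trans hPcard)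
        exact isCyclic_of_prank_one h2 hPM.2.1 (BGUniq3.prankLE_of_le hPM.1 hr)
    obtain ⟨g, hg⟩ := hcyc.exists_generator
    refine ⟨g, g.2, ?_, ?_⟩
    · intro v hv
      have h1 : orderOf (g : G) = Nat.card P := by
        rw [Subgroup.orderOf_coe]
        exact orderOf_eq_card_of_forall_mem_zpowers hg
      rw [h1]
      have := orderOf_dvd_natCard (⟨v, hv⟩ : P)
      rwa [Subgroup.orderOf_mk] at this
    · intro e he he1
      obtain ⟨k, hk⟩ := hPM.2.1 ⟨e, (zpowers_le.mpr g.2) he⟩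
      have h1 : e ^ q ^ k = 1 := congrArg Subtype.val hk
      exact free_of_rank1 hG hM (hPM.1 ((zpowers_le.mpr g.2) he)) he1 h1 hσ hκ hr
  · have h1 : ¬ PRankLE q 1 P := fun h => hr (BGSigma.prankLE_of_isSylowIn hPM h)
    obtain ⟨A, hAP, hAe, hAc⟩ := exists_ea2 h1
    have hτ : q ∈ tau2 M := ⟨hq.out, hσ, rank2_of_not_sigma hG hM hq.out hσ, hr⟩
    exact exists_z_free (T2.mk' hG hM hτ (hAP.trans hPM.1) hAe hAc) hAP hPM

/-- **The subgroup `U₀`** when `U` is abelian. -/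
theorem exists_U0_of_comm {M K U : Subgroup G} (hG : IsMinSimpleOddOrder G) (hM : IsCoatom M)
    (hKU : IsSigmaDecomposition M K U) (hUc : IsMulCommutative U) :
    ∃ U₀ : Subgroup G, U₀ ≤ U ∧ Monoid.exponent U₀ = Monoid.exponent U ∧ Good M U₀ := by
  classical
  have hUH := U_hall hG hM hKU
  have hUM : U ≤ M := hKU.compl.1
  have hzex : ∀ q : ℕ, ∃ (P : Subgroup G) (z : G), q.Prime → q ∣ Nat.card U → ∃ _ : Fact q.Prime,
      IsSylowIn q P U ∧ z ∈ P ∧ (∀ v ∈ P, orderOf v ∣ orderOf z) ∧ Good M (zpowers z) := by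
    intro q
    by_cases hq : q.Prime ∧ q ∣ Nat.card U
    · obtain ⟨hq1, hq2⟩ := hq
      haveI : Fact q.Prime := ⟨hq1⟩
      obtain ⟨P, hP⟩ := exists_isSylowIn q U
      obtain ⟨hκ, hσ⟩ := primes_U hG hM hKU hq1 hq2
      have hPM : IsSylowIn q P M := isSylowIn_of_hall hP hUM (hUH.2.2 q hq1 ⟨hq1, hκ, hσ⟩)
      obtain ⟨z, hz, h1, h2⟩ := exists_z_of_sylow hG hM hσ hκ hPM
      exact ⟨P, z, fun _ _ => ⟨inferInstance, hP, hz, h1, h2⟩⟩
    · exact ⟨⊥, 1, fun h1 h2 => absurd ⟨h1, h2⟩ hq⟩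
  choose P z hPz using hzex
  have hzq : ∀ q : ℕ, q.Prime → q ∣ Nat.card U → ∀ r : ℕ, r.Prime → r ∣ orderOf (z q) → r = q := by
    intro q hq hqd r hr hd
    obtain ⟨hqf, hP, hzP, -⟩ := hPz q hq hqd
    obtain ⟨k, hk⟩ := hP.2.1 ⟨z q, hzP⟩
    have h1 : z q ^ q ^ k = 1 := congrArg Subtype.val hk
    exact (Nat.prime_dvd_prime_iff_eq hr hq).mp (hr.dvd_of_dvd_pow (hd.trans (orderOf_dvd_of_pow_eq_one h1)))
  have hzU : ∀ q : ℕ, q.Prime → q ∣ Nat.card U → z q ∈ U := fun q hq hqd => by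
    obtain ⟨_, hP, hzP, -⟩ := hPz q hq hqd
    exact hP.1 hzP
  have hZ : ∀ s : Finset ℕ, (∀ q ∈ s, q.Prime ∧ q ∣ Nat.card U) → ∃ Z : Subgroup G, Z ≤ U ∧
      Good M Z ∧ (∀ q : ℕ, q.Prime → q ∣ Nat.card Z → q ∈ s) ∧ ∀ q ∈ s, z q ∈ Z := by
    intro s
    induction s using Finset.induction_on with
    | empty =>
      intro _
      refine ⟨⊥, bot_le, ?_, ?_, by simp⟩
      · intro e he he1
        exact absurd he he1
      · intro q hq hd
        rw [Subgroup.card_bot] at hd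
        exact absurd (Nat.dvd_one.mp hd) hq.ne_one
    | insert q s hqs ih =>
      intro hs
      obtain ⟨Z, hZU, hZg, hZp, hZm⟩ := ih (fun r hr => hs r (Finset.mem_insert_of_mem hr))
      obtain ⟨hq, hqd⟩ := hs q (Finset.mem_insert_self q s)
      obtain ⟨hqf, hP, hzP, -, hzg⟩ := hPz q hq hqd
      have hzC := hzU q hq hqd
      have hYn : zpowers (z q) ≤ normalizer (Z : Set G) := by
        rw [zpowers_le]
        apply mem_normalizer_of_forall
        intro x hx
        have : z q * x = x * z q := congrArg Subtype.val (hUc.is_comm.comm (⟨z q, hzC⟩ : U) ⟨x, hZU hx⟩)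
        rw [this]
        simpa using hx
      have hcop : (Nat.card Z).Coprime (Nat.card (zpowers (z q))) := by
        rw [Nat.card_zpowers]
        apply Nat.coprime_of_dvd
        intro r hr h1 h2
        rw [hzq q hq hqd r hr h2] at h1
        exact hqs (hZp q hq h1)
      refine ⟨Z ⊔ zpowers (z q), sup_le hZU (zpowers_le.mpr hzC),
        good_sup (hZU.trans hUM) ((zpowers_le.mpr hzC).trans hUM) hYn hcop hZg hzg, ?_, ?_⟩
      · intro r hr hd
        have h1 := card_sup_mul_card_inf hYn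
        rw [sup_comm] at h1
        have h2 : r ∣ Nat.card (zpowers (z q)) * Nat.card Z := by
          rw [← h1]
          exact hd.trans (Dvd.intro _ rfl)
        rcases (Nat.Prime.dvd_mul hr).mp h2 with h3 | h3
        · rw [Nat.card_zpowers] at h3
          rw [hzq q hq hqd r hr h3]
          exact Finset.mem_insert_self q s
        · exact Finset.mem_insert_of_mem (hZp r hr h3)
      · intro r hr
        rcases Finset.mem_insert.mp hr with rfl | h
        · exact Subgroup.mem_sup_right (mem_zpowers _)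
        · exact Subgroup.mem_sup_left (hZm r h)
  obtain ⟨Z, hZU, hZg, -, hZm⟩ := hZ (Nat.card U).primeFactors (by
    intro q hq
    rw [Nat.mem_primeFactors] at hq
    exact ⟨hq.1, hq.2.1⟩)
  refine ⟨Z, hZU, ?_, hZg⟩
  set N : ℕ := Monoid.exponent Z with hN
  have hdN : ∀ y ∈ Z, orderOf y ∣ N := by
    intro y hy
    have := Monoid.order_dvd_exponent (⟨y, hy⟩ : Z)
    rwa [Subgroup.orderOf_mk] at this
  apply Nat.dvd_antisymm
  · apply Monoid.exponent_dvd_of_forall_pow_eq_one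
    intro y
    have := Monoid.pow_exponent_eq_one (⟨y, hZU y.2⟩ : U)
    have h2 : (y : G) ^ Monoid.exponent U = 1 := congrArg Subtype.val this
    exact Subtype.ext h2
  · apply Monoid.exponent_dvd_of_forall_pow_eq_one
    intro g
    apply Subtype.ext
    show (g : G) ^ N = 1
    apply orderOf_dvd_iff_pow_eq_one.mp
    rw [Nat.dvd_iff_prime_pow_dvd_dvd]
    intro s k hs hsk
    rcases Nat.eq_zero_or_pos k with rfl | hk
    · simp
    haveI : Fact s.Prime := ⟨hs⟩
    have hsd : s ^ k ∣ orderOf (g : G) := hsk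
    have hyo : orderOf ((g : G) ^ (orderOf (g : G) / s ^ k)) = s ^ k :=
      orderOf_pow_orderOf_div (orderOf_pos _).ne' hsd
    set y := (g : G) ^ (orderOf (g : G) / s ^ k) with hy
    have hyU : y ∈ U := pow_mem g.2 _
    have hsy : s ∣ orderOf y := by
      rw [hyo]
      exact dvd_pow_self s hk.ne'
    have hsU : s ∣ Nat.card U := by
      have := orderOf_dvd_natCard (⟨y, hyU⟩ : U)
      rw [Subgroup.orderOf_mk] at this
      exact hsy.trans this
    obtain ⟨_, hP, hzP, hmax, -⟩ := hPz s hs hsU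
    obtain ⟨c, hc, hcy⟩ := exists_conj_mem_sylow hP hyU hyo
    have h1 := hmax _ hcy
    rw [orderOf_conj', hyo] at h1
    have hsπ : s ∈ (Nat.card U).primeFactors := by
      rw [Nat.mem_primeFactors]
      exact ⟨hs, hsU, Nat.card_pos.ne'⟩
    exact h1.trans (hdN _ (hZm s hsπ))

/-- Translation of `Good` to the statement of `S1360`. -/
theorem eq_one_of_good {M U₀ : Subgroup G} (h : Good M U₀) : ∀ u ∈ U₀, u ∈ sigmaHat M → u = 1 := by
  rintro u hu ⟨-, y, hy, hy1, huy⟩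
  by_contra hu1
  have h1 := h u hu hu1
  have h2 : y ∈ sigmaCore M ⊓ centralizer ({u} : Set G) :=
    Subgroup.mem_inf.mpr ⟨hy, Subgroup.mem_centralizer_singleton_iff.mpr huy.symm⟩
  rw [show sigmaCore M ⊓ centralizer ({u} : Set G) = ⊥ from h1, Subgroup.mem_bot] at h2
  exact hy1 h2

/-- **S1359**, given the context. -/
theorem s1359 (C : Cfsg.Agent.Lib.BGK0.Cx G) {M K U : Subgroup G} (hM : IsCoatom M)
    (hKU : IsSigmaDecomposition M K U) : IsMulCommutative (closure ((U : Set G) ∩ sigmaHat M)) := by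
  by_cases hK : K = ⊥
  · exact closure_comm_of_bot C.hG hM hKU hK
  · obtain ⟨-, ⟨U', hU', hU'H, -, -⟩, -⟩ := Cfsg.Agent.Lib.BGK8.main30 C hM hKU.hall hK
    exact closure_comm_of_comm (U_comm_of_hall C.hG hM hKU hU' hU'H)

/-- **S1360**, given the context. -/
theorem s1360 (C : Cfsg.Agent.Lib.BGK0.Cx G) {M K U : Subgroup G} (hM : IsCoatom M)
    (hKU : IsSigmaDecomposition M K U) :
    ∃ U₀ : Subgroup G, U₀ ≤ U ∧ Monoid.exponent U₀ = Monoid.exponent U ∧ ∀ u ∈ U₀, u ∈ sigmaHat M → u = 1 := by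
  by_cases hK : K = ⊥
  · obtain ⟨hE, hH⟩ := almostReg_of_bot C.hG hM hKU hK
    obtain ⟨E₀, h1, h2, h3⟩ := exists_E0 C.hG hM hE hH
    exact ⟨E₀, h1, h2, eq_one_of_good h3⟩
  · obtain ⟨-, ⟨U', hU', hU'H, -, -⟩, -⟩ := Cfsg.Agent.Lib.BGK8.main30 C hM hKU.hall hK
    obtain ⟨U₀, h1, h2, h3⟩ := exists_U0_of_comm C.hG hM hKU (U_comm_of_hall C.hG hM hKU hU' hU'H)
    exact ⟨U₀, h1, h2, eq_one_of_good h3⟩

/-- The group `U M_σ` is normal in `M`. -/
theorem le_normalizer_U_sup {M K U : Subgroup G} (hM : IsCoatom M) (hKU : IsSigmaDecomposition M K U) :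
    M ≤ normalizer ((U ⊔ sigmaCore M : Subgroup G) : Set G) := by
  intro m hm
  obtain ⟨u, hu, s, hs, rfl⟩ := hKU.compl.2.2.2 m hm
  have hn : ∀ c ∈ K ⊔ sigmaCore M, c ∈ normalizer ((U ⊔ sigmaCore M : Subgroup G) : Set G) := by
    intro c hc
    have hle : K ⊔ sigmaCore M ≤ normalizer ((U ⊔ sigmaCore M : Subgroup G) : Set G) := by
      apply sup_le
      · intro k hk
        exact normalizer_sup_mem (hKU.normal hk) (le_normalizer_sigmaCore (hKU.hall.1 hk))
      · intro x hx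
        apply mem_normalizer_of_forall
        intro y hy
        exact mul_mem (mul_mem (Subgroup.mem_sup_right hx) hy) (inv_mem (Subgroup.mem_sup_right hx))
    exact hle hc
  have hu' : u ∈ normalizer ((U ⊔ sigmaCore M : Subgroup G) : Set G) := by
    apply mem_normalizer_of_forall
    intro y hy
    exact mul_mem (mul_mem (Subgroup.mem_sup_left hu) hy) (inv_mem (Subgroup.mem_sup_left hu))
  exact mul_mem hu' (hn s hs)

/-- No prime of `κ(M)` divides the order of an element of `U M_σ`. -/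
theorem not_kappa_of_mem_sup {M K U : Subgroup G} (hG : IsMinSimpleOddOrder G) (hM : IsCoatom M)
    (hKU : IsSigmaDecomposition M K U) {y : G} (hy : y ∈ U ⊔ sigmaCore M) {q : ℕ} (hq : q.Prime)
    (hd : q ∣ orderOf y) : q ∉ kappa M := by
  have hn : U ≤ normalizer (sigmaCore M : Set G) := hKU.compl.1.trans le_normalizer_sigmaCore
  have h1 := card_sup_mul_card_inf hn
  have h2 : q ∣ Nat.card ↥(U ⊔ sigmaCore M) :=
    hd.trans (by
      have := orderOf_dvd_natCard (⟨y, hy⟩ : ↥(U ⊔ sigmaCore M))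
      rwa [Subgroup.orderOf_mk] at this)
  have h3 : q ∣ Nat.card U * Nat.card (sigmaCore M) := by
    rw [← h1]
    exact h2.trans (Dvd.intro _ rfl)
  rcases (Nat.Prime.dvd_mul hq).mp h3 with h4 | h4
  · exact (primes_U hG hM hKU hq h4).1
  · intro hκ
    exact hκ.2.2.1 (primes_sigmaCore q hq h4)

/-- The key step for `A(M)`. -/
theorem unique_of_part (C : Cfsg.Agent.Lib.BGK0.Cx G) {M K U : Subgroup G} (hM : IsCoatom M)
    (hKU : IsSigmaDecomposition M K U) {a : G} (ha : a ∈ sigmaA M U) {n : ℕ} (h1 : a ^ n ≠ 1)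
    (h2 : ∀ q : ℕ, q.Prime → q ∣ orderOf (a ^ n) → q ∉ sigma M) :
    centralizer ({a ^ n} : Set G) ≤ M ∧ ∀ L : Subgroup G, IsCoatom L → centralizer ({a ^ n} : Set G) ≤ L → L = M := by
  obtain ⟨⟨haM, y, hy, hy1, hay⟩, hau⟩ := ha
  have hmem : a ^ n ∈ M ⊓ centralizer ({y} : Set G) := by
    refine Subgroup.mem_inf.mpr ⟨pow_mem haM n, ?_⟩
    rw [Subgroup.mem_centralizer_singleton_iff]
    exact ((show Commute a y from hay).pow_left n).eq
  rcases Cfsg.Agent.Lib.BGK9.main32 C hM hy hy1 hmem h1 h2 with h | h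
  · exfalso
    have hno : orderOf (a ^ n) ≠ 1 := fun h => h1 (orderOf_eq_one_iff.mp h)
    obtain ⟨p, hp, hpd⟩ := Nat.exists_prime_and_dvd hno
    exact not_kappa_of_mem_sup C.hG hM hKU (pow_mem hau n) hp hpd (h.1 p hp hpd)
  · exact h.2.2

/-- `M` normalizes `A(M) ∖ M_σ`. -/
theorem mem_normalizer_sigmaA {M K U : Subgroup G} (hM : IsCoatom M) (hKU : IsSigmaDecomposition M K U) {g : G}
    (hg : g ∈ M) : g ∈ normalizer (sigmaA M U \ (sigmaCore M : Set G)) := by
  have key : ∀ m ∈ M, ∀ x ∈ sigmaA M U \ (sigmaCore M : Set G), m * x * m⁻¹ ∈ sigmaA M U \ (sigmaCore M : Set G) := by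
    rintro m hm x ⟨⟨⟨hxM, y, hy, hy1, hxy⟩, hxu⟩, hxσ⟩
    refine ⟨⟨⟨mul_mem (mul_mem hm hxM) (inv_mem hm), m * y * m⁻¹, ?_, ?_, ?_⟩, ?_⟩, ?_⟩
    · exact (mem_normalizer_iff.mp (le_normalizer_sigmaCore hm) y).mp hy
    · intro h
      apply hy1
      have : y = m⁻¹ * (m * y * m⁻¹) * m := by group
      rw [this, h]; group
    · have e1 : m * x * m⁻¹ * (m * y * m⁻¹) = m * (x * y) * m⁻¹ := by group
      have e2 : m * y * m⁻¹ * (m * x * m⁻¹) = m * (y * x) * m⁻¹ := by group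
      rw [e1, e2, hxy]
    · exact (mem_normalizer_iff.mp (le_normalizer_U_sup hM hKU hm) x).mp hxu
    · intro h
      exact hxσ ((mem_normalizer_iff.mp (le_normalizer_sigmaCore hm) x).mpr h)
  show ∀ h, h ∈ sigmaA M U \ (sigmaCore M : Set G) ↔ g * h * g⁻¹ ∈ sigmaA M U \ (sigmaCore M : Set G)
  intro h
  refine ⟨key g hg h, fun h1 => ?_⟩
  have h2 := key g⁻¹ (inv_mem hg) _ h1
  have e : g⁻¹ * (g * h * g⁻¹) * g⁻¹⁻¹ = h := by group
  rwa [e] at h2

/-- **S1362**, given the context. -/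
theorem s1362 (C : Cfsg.Agent.Lib.BGK0.Cx G) {M K U : Subgroup G} (hM : IsCoatom M)
    (hKU : IsSigmaDecomposition M K U) : IsTISubset (sigmaA M U \ (sigmaCore M : Set G)) := by
  intro g hg x hx hgx
  exfalso
  apply hg
  have hG := C.hG
  obtain ⟨hxA, hxσ⟩ := hx
  obtain ⟨hgxA, hgxσ⟩ := hgx
  have hxM : x ∈ M := hxA.1.1
  -- the `σ'`-part of `x`
  obtain ⟨a, b, e, haz, hbz, hab, h1, h2⟩ := Cfsg.Agent.Lib.BGCent.exists_pi_part (sigma M) x
  obtain ⟨n, hn⟩ := exists_pow_of_mem_zpowers hbz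
  have hb1 : b ≠ 1 := by
    rintro rfl
    apply hxσ
    rw [mul_one] at e
    rw [e]
    exact Cfsg.Agent.Lib.BGZ3.mem_core_of_primes hG hM (by
      rw [← e]
      exact hxM) h1
  have hu := unique_of_part C hM hKU hxA (n := n) (by rwa [hn]) (by rwa [hn])
  have hcpow : (g * x * g⁻¹) ^ n = g * b * g⁻¹ := by
    rw [conj_pow, hn]
  have hgb1 : g * b * g⁻¹ ≠ 1 := by
    intro h
    apply hb1
    have : b = g⁻¹ * (g * b * g⁻¹) * g := by group
    rw [this, h]; group
  have hgb2 : ∀ q : ℕ, q.Prime → q ∣ orderOf (g * b * g⁻¹) → q ∉ sigma M := by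
    intro q hq hd
    rw [orderOf_conj'] at hd
    exact h2 q hq hd
  have hu' := unique_of_part C hM hKU hgxA (n := n) (by rwa [hcpow]) (by rwa [hcpow])
  rw [hcpow] at hu'
  rw [hn] at hu
  -- `C(gbg⁻¹) ≤ gMg⁻¹`
  have hle : centralizer ({g * b * g⁻¹} : Set G) ≤ cj M g := by
    intro y hy
    rw [mem_cj]
    apply hu.1
    rw [Subgroup.mem_centralizer_singleton_iff] at hy ⊢
    have e1 : g⁻¹ * y * g * b = g⁻¹ * (y * (g * b * g⁻¹)) * g := by group
    have e2 : b * (g⁻¹ * y * g) = g⁻¹ * ((g * b * g⁻¹) * y) * g := by group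
    rw [e1, e2, hy]
  have h3 : cj M g = M := hu'.2 _ (BGUniq3.isCoatom_cj hM g) hle
  have h4 : g ∈ normalizer (M : Set G) := mem_normalizer_of_cj_eq h3
  rw [norm_eq_self hG hM (Cfsg.Agent.Lib.BGSigma2.coatom_ne_bot hG hM)] at h4
  exact mem_normalizer_sigmaA hM hKU h4

end Cfsg.Agent.Lib.BGU0
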