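import Mathlib
import Cfsg.Agent.Lib.BGCent16
import Cfsg.Agent.Lib.BGCent15
import Cfsg.Agent.Lib.BGU1
import Cfsg.Agent.Lib.BGZB

/-!
# The language of types for maximal subgroups of a minimal simple group of odd order.

`typeCore M = M_σ`, `A₁(M) = M_σ ∖ 1`, `A(M) = A_σ(M) ∖ 1`, `A₀(M) = A₀_σ(M) ∖ 1`.
-/

set_option autoImplicit false
set_option linter.unusedSectionVars false
set_option linter.unusedVariables false
set_option linter.style.haveILetI false
set_option linter.unusedSimpArgs false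

namespace Cfsg.Agent.Lib.BGTy1

open Cfsg Subgroup Cfsg.Agent.Lib.CoprimeInv Cfsg.Agent.Lib.BGTrans Cfsg.Agent.Lib.BGM1
  Cfsg.Agent.Lib.BGM2 Cfsg.Agent.Lib.BGZ1 Cfsg.Agent.Lib.OddOrderCore
  Cfsg.Agent.Lib.BGZ2 Cfsg.Agent.Lib.BGZ5 Cfsg.Agent.Lib.BGZ8 Cfsg.Agent.Lib.BGZ9 Cfsg.Agent.Lib.BGZB
  Cfsg.Agent.Lib.BGCent

open scoped commutatorElement

universe u

variable {G : Type u} [Group G] [Finite G]

/-- The statements on the types of maximal subgroups used below. -/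
structure TyInp (G : Type u) [Group G] [Finite G] : Prop where
  hG : IsMinSimpleOddOrder G
  s55 : ∀ M : Subgroup G, IsCoatom M → fittingHallOf M ≠ ⊥ ∧ fittingHallOf M ≤ sigmaCore M ∧
    sigmaCore M ≤ ⁅M, M⁆ ∧ ⁅M, M⁆ < M
  s57 : ∀ M : Subgroup G, IsCoatom M → ∀ K U : Subgroup G, IsSigmaDecomposition M K U →
    fittingHallOf M ≠ sigmaCore M → U = ⊥ ∧ IsTISubset (fittingOf M : Set G) ∧ (Nat.card K).Prime
  s37 : ∀ M : Subgroup G, IsCoatom M → ∀ K U : Subgroup G, IsSigmaDecomposition M K U →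
    fittingHallOf M ≠ sigmaCore M → sigmaCore M = ⁅M, M⁆
  s72 : ∀ M : Subgroup G, IsCoatom M → ∀ K U : Subgroup G, IsSigmaDecomposition M K U → K ≠ ⊥ → U ≠ ⊥ →
    IsTISubset (fittingOf M : Set G) ∧ sigmaCore M ≤ fittingOf M
  s80 : ∀ M : Subgroup G, IsCoatom M → ∀ K U : Subgroup G, IsSigmaDecomposition M K U →
    IsOfTypeI M → (K = ⊥ ∧ U ≠ ⊥)
  s81 : ∀ M : Subgroup G, IsCoatom M → ∀ K U : Subgroup G, IsSigmaDecomposition M K U →
    (IsOfTypeII M ↔ (K ≠ ⊥ ∧ U ≠ ⊥))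
  s82 : ∀ M : Subgroup G, IsCoatom M → ∀ K U : Subgroup G, IsSigmaDecomposition M K U →
    ((IsOfTypeIII M ∨ IsOfTypeIV M) ↔ (K ≠ ⊥ ∧ U = ⊥ ∧ fittingHallOf M ≠ sigmaCore M))
  s83 : ∀ M : Subgroup G, IsCoatom M → ∀ K U : Subgroup G, IsSigmaDecomposition M K U →
    (IsOfTypeV M ↔ (K ≠ ⊥ ∧ U = ⊥ ∧ fittingHallOf M = sigmaCore M))
  s36 : ∀ M : Subgroup G, IsCoatom M → ∀ x ∈ sigmaCore M, x ≠ 1 → ¬ centralizer ({x} : Set G) ≤ M →
    ∀ N : Subgroup G, IsCoatom N → centralizer ({x} : Set G) ≤ N →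
      (∃ p ∈ sigma N, p ∣ Nat.card M) → kappa M = ∅ ∧ tau2 M = ∅
  s76 : ∀ M : Subgroup G, IsCoatom M → ∀ x ∈ sigmaCore M, x ≠ 1 → ¬ centralizer ({x} : Set G) ≤ M →
    ∀ N : Subgroup G, IsCoatom N → centralizer ({x} : Set G) ≤ N → (kappa N).Nonempty →
      kappa M = ∅ ∧ ∃ E : Subgroup ↥M, IsFrobeniusComplement E ∧ IsCyclic E

/-- The reverse direction of the characterisation of Type I. -/
def TypeOneRev (G : Type u) [Group G] [Finite G] : Prop :=
  ∀ M K U : Subgroup G, IsCoatom M → IsSigmaDecomposition M K U → K = ⊥ → U ≠ ⊥ → IsOfTypeI M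

variable (T : TyInp G)

include T in
theorem TyInp.kf : KappaFacts G := kf_of T.hG

include T in
theorem TyInp.inp : Inp G := inp_of T.hG

/-- Existence of the standard factorisation. -/
theorem exists_dec (hG : IsMinSimpleOddOrder G) {M : Subgroup G} (hM : IsCoatom M) :
    ∃ K U : Subgroup G, IsSigmaDecomposition M K U := by
  obtain ⟨⟨K, hK⟩, hc⟩ := s1351 (inp_of hG) M hM
  obtain ⟨U, hU⟩ := exists_decomposition hG (kf_of hG) hM (hc K hK) hK
  exact ⟨K, U, hU⟩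

include T in
theorem typeCore_eq {M : Subgroup G} (hM : IsCoatom M) : typeCore M = sigmaCore M := by
  obtain ⟨K, U, hd⟩ := exists_dec T.hG hM
  unfold typeCore
  split_ifs with h
  · have := (T.s82 M hM K U hd).mp h
    exact (T.s37 M hM K U hd this.2.2).symm
  · by_contra hne
    obtain ⟨hU, _, hp⟩ := T.s57 M hM K U hd hne
    have hK : K ≠ ⊥ := by
      rintro rfl
      simp at hp
      exact Nat.not_prime_one hp
    exact h ((T.s82 M hM K U hd).mpr ⟨hK, hU, hne⟩)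

include T in
theorem typeA1_eq {M : Subgroup G} (hM : IsCoatom M) : typeA1 M = (sigmaCore M : Set G) \ {1} := by
  unfold typeA1
  rw [typeCore_eq T hM]

theorem sigmaHat_iff {M : Subgroup G} {a : G} :
    a ∈ sigmaHat M ↔ a ∈ M ∧ ∃ y ∈ sigmaCore M, y ≠ 1 ∧ a * y = y * a := Iff.rfl

include T in
/-- `M_F = M_σ` when `U ≠ 1`. -/
theorem fitting_eq_of_U {M K U : Subgroup G} (hM : IsCoatom M) (hd : IsSigmaDecomposition M K U) (hU : U ≠ ⊥) :
    fittingHallOf M = sigmaCore M := by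
  by_contra hne
  exact hU (T.s57 M hM K U hd hne).1

include T in
/-- `K ≠ 1` when `M` is not of Type I. -/
theorem K_ne_of_not_I (hR : TypeOneRev G) {M K U : Subgroup G} (hM : IsCoatom M) (hd : IsSigmaDecomposition M K U)
    (hI : ¬ IsOfTypeI M) : K ≠ ⊥ := by
  rintro rfl
  have hU : U = ⊥ := by
    by_contra hU
    exact hI (hR M ⊥ U hM hd rfl hU)
  subst hU
  have h1 := sup_eq_of_dec hd
  simp only [bot_sup_eq] at h1
  obtain ⟨-, -, h2, h3⟩ := T.s55 M hM
  rw [h1] at h2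
  exact (lt_of_le_of_lt h2 h3).false

include T in
theorem typeA_eq {M K U : Subgroup G} (hM : IsCoatom M) (hd : IsSigmaDecomposition M K U)
    (hKn : ¬ IsOfTypeI M → K ≠ ⊥) :
    typeA M = sigmaA M U \ {1} := by
  ext a
  unfold typeA
  split_ifs with hI
  · obtain ⟨rfl, hU⟩ := T.s80 M hM K U hd hI
    have h1 := sup_eq_of_dec hd
    simp only [bot_sup_eq] at h1
    have hF := fitting_eq_of_U T hM hd hU
    simp only [Set.mem_setOf_eq, sigmaA, Set.mem_diff, Set.mem_inter_iff, SetLike.mem_coe, sigmaHat_iff,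
      Set.mem_singleton_iff, h1, hF]
    constructor
    · rintro ⟨h2, h3, y, hy, hy1, hya⟩
      exact ⟨⟨⟨h2, y, hy, hy1, hya⟩, h2⟩, h3⟩
    · rintro ⟨⟨⟨h2, y, hy, hy1, hya⟩, -⟩, h3⟩
      exact ⟨h2, h3, y, hy, hy1, hya⟩
  · have hK := hKn hI
    have h1 := derived_eq T.inp hM hd hK
    simp only [Set.mem_setOf_eq, sigmaA, Set.mem_diff, Set.mem_inter_iff, SetLike.mem_coe, sigmaHat_iff,
      Set.mem_singleton_iff, typeCore_eq T hM, ← h1]
    have hle : ⁅M, M⁆ ≤ M := Subgroup.commutator_le_self M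
    constructor
    · rintro ⟨h2, h3, y, hy, hy1, hya⟩
      exact ⟨⟨⟨hle h2, y, hy, hy1, hya⟩, h2⟩, h3⟩
    · rintro ⟨⟨⟨-, y, hy, hy1, hya⟩, h2⟩, h3⟩
      exact ⟨h2, h3, y, hy, hy1, hya⟩


/-- Conjugation invariance gives the normaliser. -/
theorem le_normalizer_of_conj_mem {H : Subgroup G} {X : Set G} (h : ∀ m ∈ H, ∀ a ∈ X, m * a * m⁻¹ ∈ X) :
    H ≤ normalizer X := by
  intro g hg
  show ∀ a, a ∈ X ↔ g * a * g⁻¹ ∈ X
  intro a
  constructor
  · exact h g hg a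
  · intro ha
    have := h g⁻¹ (H.inv_mem hg) _ ha
    simpa [mul_assoc] using this

/-- A subset of a maximal subgroup with a non-identity element, normalised by the maximal subgroup, has
normaliser exactly the maximal subgroup. -/
theorem normalizer_eq_of (hG : IsMinSimpleOddOrder G) {M : Subgroup G} (hM : IsCoatom M) {X : Set G}
    (hXM : X ⊆ (M : Set G)) (hne : ∃ x ∈ X, x ≠ 1) (hinv : M ≤ normalizer X) : normalizer X = M := by
  by_contra hn
  have hlt : M < normalizer X := lt_of_le_of_ne hinv (Ne.symm hn)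
  have htop : normalizer X = ⊤ := hM.2 _ hlt
  obtain ⟨x, hx, hx1⟩ := hne
  have hcore : x ∈ M.normalCore := by
    intro b
    have hb : b ∈ normalizer X := by rw [htop]; trivial
    have hb' : ∀ a, a ∈ X ↔ b * a * b⁻¹ ∈ X := hb
    exact hXM ((hb' x).mp hx)
  rcases IsMin.normal_eq hG (Subgroup.normalCore_normal M) with h | h
  · rw [h] at hcore
    exact hx1 (Subgroup.mem_bot.mp hcore)
  · have : M = ⊤ := top_le_iff.mp (h ▸ Subgroup.normalCore_le M)
    exact hM.1 this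

/-- An element of `M` all of whose primes lie in `σ(M)` lies in `M_σ`. -/
theorem mem_sigmaCore_of_primes (hG : IsMinSimpleOddOrder G) {M : Subgroup G} (hM : IsCoatom M) {a : G}
    (ha : a ∈ M) (hp : ∀ q : ℕ, q.Prime → q ∣ orderOf a → q ∈ sigma M) : a ∈ sigmaCore M := by
  have h1 : (⟨a, ha⟩ : M) ∈ piCore (sigma M) M := by
    apply Cfsg.Agent.Lib.BGTau7.mem_of_coprime_index (m := orderOf a)
    · apply Nat.coprime_of_dvd
      intro k hk hk1 hk2
      exact not_dvd_index_sigmaCore hG hM (hp k hk hk1) hk2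
    · ext
      simp [pow_orderOf_eq_one]
  exact ⟨⟨a, ha⟩, h1, rfl⟩

/-- The primes of an element of `M_σ` lie in `σ(M)`. -/
theorem primes_of_mem_sigmaCore {M : Subgroup G} {a : G} (ha : a ∈ sigmaCore M) {q : ℕ} (hq : q.Prime)
    (hd : q ∣ orderOf a) : q ∈ sigma M := by
  apply primes_sigmaCore q hq
  have := orderOf_dvd_natCard (⟨a, ha⟩ : sigmaCore M)
  rw [Subgroup.orderOf_mk] at this
  exact hd.trans this


include T in
/-- `M_σ ≠ 1`. -/
theorem sigmaCore_ne_bot {M : Subgroup G} (hM : IsCoatom M) : sigmaCore M ≠ ⊥ := by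
  obtain ⟨h1, h2, -, -⟩ := T.s55 M hM
  intro h
  rw [h] at h2
  exact h1 (le_bot_iff.mp h2)

/-- The elements of `M_σ` commuting with `K` and not in `K ⊔ K*` etc: the set `Ẑ` as a set. -/
abbrev zSet (M K : Subgroup G) : Set G :=
  (↑(K ⊔ (sigmaCore M ⊓ centralizer (K : Set G))) : Set G) \ ((K : Set G) ∪ ↑(sigmaCore M ⊓ centralizer (K : Set G)))

/-- The `M`-conjugates of `Ẑ`. -/
abbrev zConj (M K : Subgroup G) : Set G := {a : G | ∃ m ∈ M, ∃ z ∈ zSet M K, a = m * z * m⁻¹}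

theorem K_le_of_dec {M K U : Subgroup G} (hd : IsSigmaDecomposition M K U) : K ≤ M := hd.hall.1

theorem good_of_dec {M K U : Subgroup G} (hM : IsCoatom M) (hd : IsSigmaDecomposition M K U) (hK : K ≠ ⊥) :
    Good M K := ⟨hM, hd.hall, hK⟩

/-- Conjugates of `Ẑ`. -/
theorem zConj_eq (hG : IsMinSimpleOddOrder G) {M K U : Subgroup G} (hM : IsCoatom M)
    (hd : IsSigmaDecomposition M K U) (hK : K ≠ ⊥) : zConj M K = sigmaA0 M K \ sigmaA M U :=
  (s1371 (inp_of hG) M hM K U hd hK).1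

theorem zConj_ti (hG : IsMinSimpleOddOrder G) {M K U : Subgroup G} (hM : IsCoatom M)
    (hd : IsSigmaDecomposition M K U) (hK : K ≠ ⊥) : IsTISubset (zConj M K) := by
  rw [zConj_eq hG hM hd hK]
  exact (s1371 (inp_of hG) M hM K U hd hK).2

/-- The non-trivial element of `K` in an element of `Ẑ`. -/
theorem zSet_ne_one {M K : Subgroup G} {z : G} (hz : z ∈ zSet M K) : z ≠ 1 := by
  rintro rfl
  exact hz.2 (Or.inl K.one_mem)

theorem zConj_ne_one {M K : Subgroup G} {a : G} (ha : a ∈ zConj M K) : a ≠ 1 := by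
  obtain ⟨m, -, z, hz, rfl⟩ := ha
  intro h
  apply zSet_ne_one hz
  have : z = m⁻¹ * (m * z * m⁻¹) * m := by group
  rw [this, h]; group

/-- Every element of `Ẑ^M` has a prime divisor in `κ(M)`. -/
theorem exists_kappa_of_zSet (hG : IsMinSimpleOddOrder G) {M K U : Subgroup G} (hM : IsCoatom M)
    (hd : IsSigmaDecomposition M K U) (hK : K ≠ ⊥) {z : G} (hz : z ∈ zSet M K) :
    ∃ q : ℕ, q.Prime ∧ q ∣ orderOf z ∧ q ∈ kappa M := by
  have hg := good_of_dec hM hd hK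
  obtain ⟨a, ha, t, ht, rfl⟩ := Good.mem_zz hg hz.1
  have ha1 : a ≠ 1 := by
    rintro rfl
    apply hz.2
    right
    simpa using ht
  have hcomm : a * t = t * a := Good.comm hg ha ht
  have hcop : (orderOf a).Coprime (orderOf t) := by
    have h1 : orderOf a ∣ Nat.card K := by
      have := orderOf_dvd_natCard (⟨a, ha⟩ : K)
      rwa [Subgroup.orderOf_mk] at this
    have h2 : orderOf t ∣ Nat.card (kst M K) := by
      have := orderOf_dvd_natCard (⟨t, ht⟩ : kst M K)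
      rwa [Subgroup.orderOf_mk] at this
    exact Nat.Coprime.coprime_dvd_left h1 (Nat.Coprime.coprime_dvd_right h2 (Good.coprime hg))
  have h1 : orderOf a ≠ 1 := fun h => ha1 (orderOf_eq_one_iff.mp h)
  obtain ⟨q, hq, hqd⟩ := Nat.exists_prime_and_dvd h1
  refine ⟨q, hq, ?_, Cfsg.Agent.Lib.BGCent.primes_of_kappa hd.hall ha hq hqd⟩
  have h2 : orderOf (a * t) = orderOf a * orderOf t := (show Commute a t from hcomm).orderOf_mul_eq_mul_orderOf_of_coprime hcop
  rw [h2]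
  exact hqd.trans (Nat.dvd_mul_right _ _)

theorem exists_kappa_of_zConj (hG : IsMinSimpleOddOrder G) {M K U : Subgroup G} (hM : IsCoatom M)
    (hd : IsSigmaDecomposition M K U) (hK : K ≠ ⊥) {a : G} (ha : a ∈ zConj M K) :
    ∃ q : ℕ, q.Prime ∧ q ∣ orderOf a ∧ q ∈ kappa M := by
  obtain ⟨m, -, z, hz, rfl⟩ := ha
  rw [show m * z * m⁻¹ = MulAut.conj m z from rfl, MulEquiv.orderOf_eq]
  exact exists_kappa_of_zSet hG hM hd hK hz


/-- The Hall `κ(M)`-subgroup is conjugate to the first member of type `P` data. -/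
theorem typeP_conj (hG : IsMinSimpleOddOrder G) {M K U W₁ V W₂ : Subgroup G} (hM : IsCoatom M)
    (hd : IsSigmaDecomposition M K U) (hK : K ≠ ⊥) (P : IsTypePWith M W₁ V W₂) :
    ∃ m ∈ M, W₁ = cj K m ∧ W₂ = cj (kst M K) m := by
  have hder : ⁅M, M⁆ = U ⊔ sigmaCore M := derived_eq (inp_of hG) hM hd hK
  have hs : Group.IsSolvable M := solvable_of_le_coatom hG hM le_rfl
  have hc1 : Nat.card ↥⁅M, M⁆ * Nat.card W₁ = Nat.card M :=
    card_mul_card_of_isComplIn P.W₁_compl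
  have hc2 : Nat.card U * (Nat.card K * Nat.card (sigmaCore M)) = Nat.card M :=
    Cfsg.Agent.Lib.BGU0.card_decomp hG hM hd
  -- primes of `W₁`
  have hW₁p : ∀ r : ℕ, r.Prime → r ∣ Nat.card W₁ → r ∈ kappa M := by
    intro r hr hrd
    have hW₁M : W₁ ≤ M := P.W₁_compl.2.1
    have hnd : ¬ r ∣ Nat.card ↥⁅M, M⁆ := by
      intro h
      have hrel : W₁.relIndex M = Nat.card ↥⁅M, M⁆ := by
        have h3 : Nat.card (W₁.subgroupOf M) * (W₁.subgroupOf M).index = Nat.card M := Subgroup.card_mul_index _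
        rw [card_subgroupOf_of_le hW₁M] at h3
        have h4 : (W₁.subgroupOf M).index = W₁.relIndex M := rfl
        rw [h4] at h3
        have h5 : 0 < Nat.card W₁ := Nat.card_pos
        apply Nat.eq_of_mul_eq_mul_left h5
        rw [h3, ← hc1, mul_comm]
      have h6 := P.W₁_hall
      rw [hrel] at h6
      have := Nat.dvd_gcd hrd h
      rw [h6.gcd_eq_one] at this
      exact hr.one_lt.ne' (Nat.dvd_one.mp this)
    have hdM : r ∣ Nat.card M := hrd.trans (Subgroup.card_dvd_of_le hW₁M)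
    rw [← hc2] at hdM
    have hUle : U ≤ ⁅M, M⁆ := hder ▸ le_sup_left
    have hσle : sigmaCore M ≤ ⁅M, M⁆ := hder ▸ le_sup_right
    rcases (Nat.Prime.dvd_mul hr).mp hdM with h | h
    · exact (hnd (h.trans (Subgroup.card_dvd_of_le hUle))).elim
    · rcases (Nat.Prime.dvd_mul hr).mp h with h | h
      · exact hd.hall.2.1 r hr h
      · exact (hnd (h.trans (Subgroup.card_dvd_of_le hσle))).elim
  obtain ⟨m, hm, hW₁le⟩ := exists_conj_le_hall hs hd.hall P.W₁_compl.2.1 hW₁p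
  -- orders of `K` and `W₁` agree
  have hcUσ : Nat.card ↥⁅M, M⁆ = Nat.card U * Nat.card (sigmaCore M) := by
    rw [hder]
    have hUn : U ≤ normalizer (sigmaCore M : Set G) := hd.compl.1.trans le_normalizer_sigmaCore
    have h2 := card_sup_mul_card_inf hUn
    have h3 : U ⊓ sigmaCore M = ⊥ := by
      rw [eq_bot_iff]
      intro x hx
      obtain ⟨hxU, hxσ⟩ := Subgroup.mem_inf.mp hx
      have : x ∈ U ⊓ (K ⊔ sigmaCore M) := Subgroup.mem_inf.mpr ⟨hxU, (le_sup_right : sigmaCore M ≤ K ⊔ sigmaCore M) hxσ⟩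
      rwa [hd.compl.2.2.1] at this
    rw [h3, Subgroup.card_bot, mul_one] at h2
    exact h2
  have hcW : Nat.card W₁ = Nat.card K := by
    have h0 : 0 < Nat.card U * Nat.card (sigmaCore M) := Nat.mul_pos Nat.card_pos Nat.card_pos
    apply Nat.eq_of_mul_eq_mul_left h0
    rw [← hcUσ, hc1, ← hc2, hcUσ]
    ring
  have hW₁eq : W₁ = cj K m := by
    apply Subgroup.eq_of_le_of_card_ge hW₁le
    rw [card_cj, hcW]
  refine ⟨m, hm, hW₁eq, ?_⟩
  -- `W₂`
  obtain ⟨k, hk, hk1⟩ := Good.exists_ne (good_of_dec hM hd hK)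
  have hxW : m * k * m⁻¹ ∈ W₁ := by
    rw [hW₁eq]; exact conj_mem_cj hk
  have hx1 : m * k * m⁻¹ ≠ 1 := by
    intro h
    apply hk1
    have : k = m⁻¹ * (m * k * m⁻¹) * m := by group
    rw [this, h]; group
  rw [← P.W₂_centralizer _ hxW hx1]
  -- `M' ∩ C(k) = K*`
  have hkey : ⁅M, M⁆ ⊓ centralizer ({k} : Set G) = kst M K := by
    apply le_antisymm
    · intro z hz
      obtain ⟨hz1, hz2⟩ := Subgroup.mem_inf.mp hz
      have hzM : z ∈ M := Subgroup.commutator_le_self M hz1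
      have hzZ : z ∈ zz M K := by
        have h7 := cent_k_eq hG (kf_of hG) hM (Cfsg.Agent.Lib.BGZ5.isCyclic_of_good (inp_of hG) (good_of_dec hM hd hK)) hd.hall hK hk hk1
        show z ∈ K ⊔ (sigmaCore M ⊓ centralizer (K : Set G))
        rw [← h7]
        exact Subgroup.mem_inf.mpr ⟨hzM, hz2⟩
      obtain ⟨a, ha, t, ht, rfl⟩ := Good.mem_zz (good_of_dec hM hd hK) hzZ
      have htM' : t ∈ ⁅M, M⁆ := by
        rw [hder]
        exact (le_sup_right : sigmaCore M ≤ U ⊔ sigmaCore M) ht.1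
      have haM' : a ∈ ⁅M, M⁆ := by
        have := mul_mem hz1 (inv_mem htM')
        simpa using this
      have ha1 : a = 1 := by
        by_contra ha1
        apply not_mem_D hd ha ha1
        rw [← hder]
        exact haM'
      subst ha1
      simpa using ht
    · intro t ht
      refine Subgroup.mem_inf.mpr ⟨?_, ?_⟩
      · rw [hder]
        exact (le_sup_right : sigmaCore M ≤ U ⊔ sigmaCore M) ht.1
      · rw [Subgroup.mem_centralizer_singleton_iff]
        exact (Good.comm (good_of_dec hM hd hK) hk ht).symm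
  have hMd : M ≤ normalizer ((⁅M, M⁆ : Subgroup G) : Set G) := le_normalizer_self_commutator M
  ext z
  rw [mem_cj, ← hkey, Subgroup.mem_inf, Subgroup.mem_inf, Subgroup.mem_centralizer_singleton_iff,
    Subgroup.mem_centralizer_singleton_iff]
  have h1 : z ∈ ⁅M, M⁆ ↔ m⁻¹ * z * m ∈ ⁅M, M⁆ := by
    have := (mem_normalizer_iff.mp (hMd (inv_mem hm)) z)
    simpa using this
  have h2 : z * (m * k * m⁻¹) = m * k * m⁻¹ * z ↔ m⁻¹ * z * m * k = k * (m⁻¹ * z * m) := by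
    constructor
    · intro h
      have : m⁻¹ * (z * (m * k * m⁻¹)) * m = m⁻¹ * (m * k * m⁻¹ * z) * m := by rw [h]
      simpa [mul_assoc] using this
    · intro h
      have : m * (m⁻¹ * z * m * k) * m⁻¹ = m * (k * (m⁻¹ * z * m)) * m⁻¹ := by rw [h]
      simpa [mul_assoc] using this
  rw [h1, h2]


include T in
/-- A maximal subgroup not of Type I has type `P` data. -/
theorem exists_typeP {M K U : Subgroup G} (hM : IsCoatom M) (hd : IsSigmaDecomposition M K U) (hK : K ≠ ⊥) :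
    ∃ W₁ V W₂ : Subgroup G, IsTypePWith M W₁ V W₂ := by
  by_cases hU : U = ⊥
  · by_cases hF : fittingHallOf M = sigmaCore M
    · obtain ⟨W₁, V, W₂, h, -⟩ := (T.s83 M hM K U hd).mpr ⟨hK, hU, hF⟩
      exact ⟨W₁, V, W₂, h⟩
    · rcases (T.s82 M hM K U hd).mpr ⟨hK, hU, hF⟩ with ⟨W₁, V, W₂, h, -⟩ | ⟨W₁, V, W₂, h, -⟩
      · exact ⟨W₁, V, W₂, h⟩
      · exact ⟨W₁, V, W₂, h⟩
  · obtain ⟨W₁, V, W₂, h, -⟩ := (T.s81 M hM K U hd).mpr ⟨hK, hU⟩
    exact ⟨W₁, V, W₂, h⟩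

/-- An element in the set of conjugates of `Ẑ` expressed through type `P` data. -/
theorem typeP_part (hG : IsMinSimpleOddOrder G) {M K U W₁ V W₂ : Subgroup G} (hM : IsCoatom M)
    (hd : IsSigmaDecomposition M K U) (hK : K ≠ ⊥) (P : IsTypePWith M W₁ V W₂) {a : G} :
    (∃ m ∈ M, ∃ w ∈ W₁ ⊔ W₂, w ∉ W₁ ∧ w ∉ W₂ ∧ a = m * w * m⁻¹) ↔ a ∈ zConj M K := by
  obtain ⟨m₀, hm₀, h1, h2⟩ := typeP_conj hG hM hd hK P
  have hsup : W₁ ⊔ W₂ = cj (K ⊔ kst M K) m₀ := by
    rw [h1, h2, cj_sup]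
  constructor
  · rintro ⟨m, hm, w, hw, hw1, hw2, rfl⟩
    rw [hsup, mem_cj] at hw
    rw [h1, mem_cj] at hw1
    rw [h2, mem_cj] at hw2
    refine ⟨m * m₀, M.mul_mem hm hm₀, m₀⁻¹ * w * m₀, ⟨hw, ?_⟩, by group⟩
    rintro (h | h)
    · exact hw1 h
    · exact hw2 h
  · rintro ⟨m, hm, z, hz, rfl⟩
    refine ⟨m * m₀⁻¹, M.mul_mem hm (M.inv_mem hm₀), m₀ * z * m₀⁻¹, ?_, ?_, ?_, by group⟩
    · rw [hsup]
      exact conj_mem_cj hz.1
    · rw [h1, mem_cj]
      intro h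
      apply hz.2
      left
      simpa [mul_assoc] using h
    · rw [h2, mem_cj]
      intro h
      apply hz.2
      right
      simpa [mul_assoc] using h

theorem sigmaA_subset_A0 {M K U : Subgroup G} (hM : IsCoatom M) (hd : IsSigmaDecomposition M K U) :
    sigmaA M U ⊆ sigmaA0 M K := by
  rintro a ⟨ha1, ha2⟩
  refine ⟨ha1, ?_⟩
  rintro ⟨k, hk, hk1, m, hm, rfl⟩
  apply not_mem_D hd hk hk1
  have := (mem_normalizer_iff.mp (D_norm hd (M.inv_mem hm)) (m * k * m⁻¹)).mp ha2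
  simpa [mul_assoc] using this

include T in
theorem typeA0_eq {M K U : Subgroup G} (hM : IsCoatom M) (hd : IsSigmaDecomposition M K U)
    (hKn : ¬ IsOfTypeI M → K ≠ ⊥) :
    typeA0 M = sigmaA0 M K \ {1} := by
  ext a
  unfold typeA0
  rw [typeA_eq T hM hd hKn]
  by_cases hI : IsOfTypeI M
  · obtain ⟨rfl, hU⟩ := T.s80 M hM K U hd hI
    have h1 := sup_eq_of_dec hd
    simp only [bot_sup_eq] at h1
    simp only [Set.mem_union, Set.mem_setOf_eq, hI, not_true_eq_false, false_and, or_false]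
    simp only [sigmaA, sigmaA0, h1, Set.mem_diff, Set.mem_inter_iff, SetLike.mem_coe, sigmaHat_iff,
      Set.mem_setOf_eq, Subgroup.mem_bot, Set.mem_singleton_iff]
    constructor
    · rintro ⟨⟨⟨h2, h3⟩, -⟩, h4⟩
      refine ⟨⟨⟨h2, h3⟩, ?_⟩, h4⟩
      rintro ⟨k, hk, hk1, -⟩
      exact hk1 hk
    · rintro ⟨⟨⟨h2, h3⟩, -⟩, h4⟩
      exact ⟨⟨⟨h2, h3⟩, h2⟩, h4⟩
  · have hK := hKn hI
    obtain ⟨W₁, V, W₂, P⟩ := exists_typeP T hM hd hK
    have hZ := zConj_eq T.hG hM hd hK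
    constructor
    · rintro (⟨h1, h2⟩ | ⟨-, W₁', V', W₂', P', h3⟩)
      · exact ⟨sigmaA_subset_A0 hM hd h1, h2⟩
      · have h4 := (typeP_part T.hG hM hd hK P').mp h3
        refine ⟨?_, zConj_ne_one h4⟩
        rw [hZ] at h4
        exact h4.1
    · rintro ⟨h1, h2⟩
      by_cases h3 : a ∈ sigmaA M U
      · exact Or.inl ⟨h3, h2⟩
      · right
        refine ⟨hI, W₁, V, W₂, P, ?_⟩
        apply (typeP_part T.hG hM hd hK P).mpr
        rw [hZ]
        exact ⟨h1, h3⟩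

end Cfsg.Agent.Lib.BGTy1
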