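import Mathlib
import Cfsg.Agent.Lib.BGTy1

/-!
# Statements in the language of types: Hall subgroups, `S1389`.
-/

set_option autoImplicit false
set_option linter.unusedSectionVars false
set_option linter.unusedVariables false
set_option linter.style.haveILetI false
set_option linter.unusedSimpArgs false

namespace Cfsg.Agent.Lib.BGTy2

open Cfsg Subgroup Cfsg.Agent.Lib.CoprimeInv Cfsg.Agent.Lib.BGTrans Cfsg.Agent.Lib.BGM1
  Cfsg.Agent.Lib.BGM2 Cfsg.Agent.Lib.BGZ1 Cfsg.Agent.Lib.OddOrderCore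
  Cfsg.Agent.Lib.BGZ2 Cfsg.Agent.Lib.BGZ5 Cfsg.Agent.Lib.BGZ8 Cfsg.Agent.Lib.BGZ9 Cfsg.Agent.Lib.BGZB
  Cfsg.Agent.Lib.BGCent Cfsg.Agent.Lib.BGTy1

open scoped commutatorElement

universe u

variable {G : Type u} [Group G] [Finite G]

/-- `M_σ` is a Hall subgroup of `G`. -/
theorem coprime_sigmaCore (hG : IsMinSimpleOddOrder G) {M : Subgroup G} (hM : IsCoatom M) :
    (Nat.card (sigmaCore M)).Coprime (sigmaCore M).index := by
  apply Nat.coprime_of_dvd
  intro k hk hk1 hk2
  exact (sigma_hall hG hM).2.2 k hk (primes_sigmaCore k hk hk1) hk2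

/-- `M_F` is a Hall subgroup of `G`. -/
theorem coprime_fittingHallOf (hG : IsMinSimpleOddOrder G) {M : Subgroup G} (hM : IsCoatom M)
    (hle : fittingHallOf M ≤ sigmaCore M) :
    (Nat.card (fittingHallOf M)).Coprime (fittingHallOf M).index := by
  obtain ⟨-, -, hFc⟩ := fittingHall_mem ↥M
  have hsub : (fittingHallOf M).relIndex M = (fittingHall ↥M).index := by
    rw [Subgroup.relIndex]
    congr 1
    rw [fittingHallOf, Subgroup.subgroupOf, Subgroup.comap_map_eq_self_of_injective M.subtype_injective]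
  have hFM : fittingHallOf M ≤ M := Subgroup.map_subtype_le _
  have hc := card_fittingHallOf M
  apply Nat.coprime_of_dvd
  intro k hk hk1 hk2
  have hkσ : k ∈ sigma M := primes_sigmaCore k hk (hk1.trans (Subgroup.card_dvd_of_le hle))
  haveI : Fact k.Prime := ⟨hk⟩
  have hidx : (fittingHallOf M).index = (fittingHallOf M).relIndex M * M.index :=
    (Subgroup.relIndex_mul_index hFM).symm
  rw [hidx] at hk2
  rcases (Nat.Prime.dvd_mul hk).mp hk2 with h | h
  · rw [hsub] at h
    rw [hc] at hk1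
    have := Nat.dvd_gcd hk1 h
    rw [hFc.gcd_eq_one] at this
    exact hk.one_lt.ne' (Nat.dvd_one.mp this)
  · exact not_dvd_index_coatom_of_sigma hkσ h

/-- Sylow normalisers for `M_σ`. -/
theorem normalizer_sylow_sigmaCore (hG : IsMinSimpleOddOrder G) {M H : Subgroup G} (hM : IsCoatom M)
    (hH : H = sigmaCore M) (p : ℕ) (hp : p.Prime) (P : Sylow p ↥H) (hP : (P : Subgroup ↥H) ≠ ⊥) :
    normalizer (((P : Subgroup ↥H).map H.subtype : Subgroup G) : Set G) ≤ M := by
  subst hH
  haveI : Fact p.Prime := ⟨hp⟩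
  have hS : IsSylowIn p ((P : Subgroup ↥(sigmaCore M)).map (sigmaCore M).subtype) (sigmaCore M) := isSylowIn_map P
  have hpd : p ∣ Nat.card ↥(sigmaCore M) := by
    have h1 := P.isPGroup'
    have h2 : p ∣ Nat.card (P : Subgroup ↥(sigmaCore M)) := by
      obtain ⟨n, hn⟩ := h1.exists_card_eq
      rw [hn]
      have hn0 : n ≠ 0 := by
        rintro rfl
        apply hP
        exact Subgroup.eq_bot_of_card_eq _ (by simpa using hn)
      exact dvd_pow_self p hn0
    exact h2.trans (Subgroup.card_subgroup_dvd_card _)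
  have hpσ := primes_sigmaCore p hp hpd
  exact normalizer_le_of_sigma hpσ (Cfsg.Agent.Lib.BGTau3.isSylowIn_of_sigmaCore hG hM hpσ hS)

end Cfsg.Agent.Lib.BGTy2
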