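import Mathlib
import Cfsg.Agent.Lib.BGTy2
import Cfsg.Agent.S1358

/-!
# Statements in the language of types: the sets `A(M)`, `A₀(M)`.
-/

set_option autoImplicit false
set_option linter.unusedSectionVars false
set_option linter.unusedVariables false
set_option linter.style.haveILetI false
set_option linter.unusedSimpArgs false

namespace Cfsg.Agent.Lib.BGTy3

open Cfsg Subgroup Cfsg.Agent.Lib.CoprimeInv Cfsg.Agent.Lib.BGTrans Cfsg.Agent.Lib.BGM1
  Cfsg.Agent.Lib.BGM2 Cfsg.Agent.Lib.BGZ1 Cfsg.Agent.Lib.OddOrderCore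
  Cfsg.Agent.Lib.BGZ2 Cfsg.Agent.Lib.BGZ5 Cfsg.Agent.Lib.BGZ8 Cfsg.Agent.Lib.BGZ9 Cfsg.Agent.Lib.BGZB
  Cfsg.Agent.Lib.BGCent Cfsg.Agent.Lib.BGTy1 Cfsg.Agent.Lib.BGTy2 Cfsg.Agent.Lib.BGZ4

open scoped commutatorElement

universe u

variable {G : Type u} [Group G] [Finite G]

/-- The set `A₀_σ(M)`: two parts. -/
theorem A0_cases (hG : IsMinSimpleOddOrder G) {M K U : Subgroup G} (hM : IsCoatom M)
    (hd : IsSigmaDecomposition M K U) {a : G} (ha : a ∈ sigmaA0 M K) :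
    a ∈ sigmaA M U ∨ (K ≠ ⊥ ∧ a ∈ zConj M K) := by
  by_cases hK : K = ⊥
  · subst hK
    left
    have h1 := sup_eq_of_dec hd
    simp only [bot_sup_eq] at h1
    refine ⟨ha.1, ?_⟩
    show a ∈ U ⊔ sigmaCore M
    rw [h1]
    exact ha.1.1
  · by_cases h : a ∈ sigmaA M U
    · exact Or.inl h
    · right
      refine ⟨hK, ?_⟩
      rw [zConj_eq hG hM hd hK]
      exact ⟨ha, h⟩

theorem zSet_le {M K : Subgroup G} (hM : IsCoatom M) (hK : IsPiHallOf (kappa M) K M) {z : G}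
    (hz : z ∈ zSet M K) : z ∈ M := by
  have h1 : K ⊔ (sigmaCore M ⊓ centralizer (K : Set G)) ≤ M := sup_le hK.1 (inf_le_left.trans sigmaCore_le)
  exact h1 hz.1

theorem zConj_subset {M K : Subgroup G} (hM : IsCoatom M) (hK : IsPiHallOf (kappa M) K M) :
    zConj M K ⊆ (M : Set G) := by
  rintro a ⟨m, hm, z, hz, rfl⟩
  exact M.mul_mem (M.mul_mem hm (zSet_le hM hK hz)) (M.inv_mem hm)

theorem zConj_inv {M K : Subgroup G} : M ≤ normalizer (zConj M K) := by
  apply le_normalizer_of_conj_mem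
  rintro m hm a ⟨m', hm', z, hz, rfl⟩
  exact ⟨m * m', M.mul_mem hm hm', z, hz, by group⟩

theorem zConj_nonempty (hG : IsMinSimpleOddOrder G) {M K U : Subgroup G} (hM : IsCoatom M)
    (hd : IsSigmaDecomposition M K U) (hK : K ≠ ⊥) : ∃ z ∈ zConj M K, z ≠ 1 := by
  have hg := good_of_dec hM hd hK
  obtain ⟨Ms, hMs⟩ := exists_mate (inp_of hG) hg
  obtain ⟨z, hz⟩ := Mate.exists_hat hMs (inp_of hG)
  obtain ⟨hz1, hz2, hz3⟩ := (Mate.mem_hat_iff hMs (inp_of hG)).mp hz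
  have hzS : z ∈ zSet M K := by
    refine ⟨hz1, ?_⟩
    rintro (h | h)
    · exact hz2 h
    · exact hz3 h
  exact ⟨z, ⟨1, M.one_mem, z, hzS, by group⟩, zSet_ne_one hzS⟩

theorem normalizer_zConj (hG : IsMinSimpleOddOrder G) {M K U : Subgroup G} (hM : IsCoatom M)
    (hd : IsSigmaDecomposition M K U) (hK : K ≠ ⊥) : normalizer (zConj M K) = M :=
  normalizer_eq_of hG hM (zConj_subset hM hd.hall) (zConj_nonempty hG hM hd hK) zConj_inv

/-- The centraliser of an element of `Ẑ^M` lies in `M`. -/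
theorem cent_le_of_zConj (hG : IsMinSimpleOddOrder G) {M K U : Subgroup G} (hM : IsCoatom M)
    (hd : IsSigmaDecomposition M K U) (hK : K ≠ ⊥) {a : G} (ha : a ∈ zConj M K) :
    centralizer ({a} : Set G) ≤ M := by
  have hg := good_of_dec hM hd hK
  obtain ⟨Ms, hMs⟩ := exists_mate (inp_of hG) hg
  obtain ⟨m, hm, z, hz, rfl⟩ := ha
  have hzh : z ∈ hat (zz M K) := by
    apply (Mate.mem_hat_iff hMs (inp_of hG)).mpr
    refine ⟨hz.1, fun h => hz.2 (Or.inl h), fun h => hz.2 (Or.inr h)⟩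
  have hc := Mate.cent_hat hMs (inp_of hG) hzh
  intro g hg'
  rw [Subgroup.mem_centralizer_singleton_iff] at hg'
  have h1 : m⁻¹ * g * m ∈ centralizer ({z} : Set G) := by
    rw [Subgroup.mem_centralizer_singleton_iff]
    have : m⁻¹ * (g * (m * z * m⁻¹)) * m = m⁻¹ * (m * z * m⁻¹ * g) * m := by rw [hg']
    simpa [mul_assoc] using this
  rw [hc] at h1
  have h2 : zz M K ≤ M := Good.zz_le hg
  have h3 := M.mul_mem (M.mul_mem hm (h2 h1)) (M.inv_mem hm)
  simpa [mul_assoc] using h3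

/-- The part of `A_σ(M)` outside `M_σ`. -/
theorem cent_le_of_sigmaA (hG : IsMinSimpleOddOrder G) {M K U : Subgroup G} (hM : IsCoatom M)
    (hd : IsSigmaDecomposition M K U) {a : G} (ha : a ∈ sigmaA M U) (haσ : a ∉ sigmaCore M) :
    centralizer ({a} : Set G) ≤ M := by
  obtain ⟨b, c, hbc, -, -, ⟨n, hn⟩, hb, hc⟩ := exists_split (sigma M) a
  have hc1 : c ≠ 1 := by
    rintro rfl
    apply haσ
    rw [hbc, mul_one]
    apply mem_sigmaCore_of_primes hG hM
    · have : a ∈ M := ha.1.1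
      rwa [hbc, mul_one] at this
    · exact hb
  have h1 : a ^ n ≠ 1 := by rw [hn]; exact hc1
  have h2 : ∀ q : ℕ, q.Prime → q ∣ orderOf (a ^ n) → q ∉ sigma M := by
    rw [hn]; exact hc
  have h3 := (Cfsg.Agent.Lib.BGU0.unique_of_part (cx_of hG) hM hd ha h1 h2).1
  refine le_trans ?_ h3
  intro g hg'
  rw [Subgroup.mem_centralizer_singleton_iff] at hg' ⊢
  exact ((show Commute g a from hg').pow_right n)

/-- `D ⊆ M_σ`. -/
theorem mem_core_of_not_le (hG : IsMinSimpleOddOrder G) {M K U : Subgroup G} (hM : IsCoatom M)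
    (hd : IsSigmaDecomposition M K U) {a : G} (ha : a ∈ sigmaA0 M K) (h : ¬ centralizer ({a} : Set G) ≤ M) :
    a ∈ sigmaCore M := by
  rcases A0_cases hG hM hd ha with h1 | ⟨hK, h1⟩
  · by_contra hσ
    exact h (cent_le_of_sigmaA hG hM hd h1 hσ)
  · exact (h (cent_le_of_zConj hG hM hd hK h1)).elim

/-- Elements of `A_σ(M)` have no prime in `κ(M)`. -/
theorem sigmaA_not_kappa (hG : IsMinSimpleOddOrder G) {M K U : Subgroup G} (hM : IsCoatom M)
    (hd : IsSigmaDecomposition M K U) {a : G} (ha : a ∈ sigmaA M U) {q : ℕ} (hq : q.Prime)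
    (hqd : q ∣ orderOf a) : q ∉ kappa M :=
  Cfsg.Agent.Lib.BGU0.not_kappa_of_mem_sup hG hM hd ha.2 hq hqd

theorem orderOf_conj' (g x : G) : orderOf (g * x * g⁻¹) = orderOf x := by
  rw [show g * x * g⁻¹ = MulAut.conj g x from rfl, MulEquiv.orderOf_eq]

/-- **Fusion in `A₀`.** -/
theorem fusion_A0 (hG : IsMinSimpleOddOrder G) {M K U : Subgroup G} (hM : IsCoatom M)
    (hd : IsSigmaDecomposition M K U) {x g : G} (hx : x ∈ sigmaA0 M K \ {1}) (hxg : g * x * g⁻¹ ∈ sigmaA0 M K \ {1}) :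
    ∃ m ∈ M, m * x * m⁻¹ = g * x * g⁻¹ := by
  have hx1 : x ≠ 1 := hx.2
  have hyM : g * x * g⁻¹ ∈ M := hxg.1.1.1
  by_cases hσ : x ∈ sigmaCore M
  · obtain ⟨m, hm, h⟩ := Cfsg.Agent.Lib.BGCent.fusion hG hM ((kf_of hG).h32' hM) hσ hyM
    exact ⟨m, hm, h.symm⟩
  · rcases A0_cases hG hM hd hx.1 with h1 | ⟨hK, h1⟩
    · -- `x ∈ A_σ(M) ∖ M_σ`
      have hy : g * x * g⁻¹ ∈ sigmaA M U := by
        rcases A0_cases hG hM hd hxg.1 with h2 | ⟨hK, h2⟩
        · exact h2
        · obtain ⟨q, hq, hqd, hqκ⟩ := exists_kappa_of_zConj hG hM hd hK h2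
          rw [orderOf_conj'] at hqd
          exact (sigmaA_not_kappa hG hM hd h1 hq hqd hqκ).elim
      have hyσ : g * x * g⁻¹ ∉ sigmaCore M := by
        intro h
        apply hσ
        apply mem_sigmaCore_of_primes hG hM h1.1.1
        intro q hq hqd
        rw [← orderOf_conj' g x] at hqd
        exact primes_of_mem_sigmaCore h hq hqd
      have hX₂ : x ∈ sigmaA M U \ (sigmaCore M : Set G) := ⟨h1, hσ⟩
      have hg : g ∈ normalizer (sigmaA M U \ (sigmaCore M : Set G)) := by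
        by_contra hg
        exact hx1 (Cfsg.Agent.Lib.BGU0.s1362 (cx_of hG) hM hd g hg x hX₂ ⟨hy, hyσ⟩)
      have hN : normalizer (sigmaA M U \ (sigmaCore M : Set G)) = M := by
        apply normalizer_eq_of hG hM
        · intro a ha
          exact ha.1.1.1
        · exact ⟨x, hX₂, hx1⟩
        · intro m hm
          exact Cfsg.Agent.Lib.BGU0.mem_normalizer_sigmaA hM hd hm
      rw [hN] at hg
      exact ⟨g, hg, rfl⟩
    · -- `x ∈ Ẑ^M`
      have hy : g * x * g⁻¹ ∈ zConj M K := by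
        rcases A0_cases hG hM hd hxg.1 with h2 | ⟨-, h2⟩
        · obtain ⟨q, hq, hqd, hqκ⟩ := exists_kappa_of_zConj hG hM hd hK h1
          rw [← orderOf_conj' g x] at hqd
          exact (sigmaA_not_kappa hG hM hd h2 hq hqd hqκ).elim
        · exact h2
      have hg : g ∈ normalizer (zConj M K) := by
        by_contra hg
        exact hx1 (zConj_ti hG hM hd hK g hg x h1 hy)
      rw [normalizer_zConj hG hM hd hK] at hg
      exact ⟨g, hg, rfl⟩

end Cfsg.Agent.Lib.BGTy3
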