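import Mathlib
import Cfsg.Agent.Lib.BGTy3
import Cfsg.Agent.Lib.FrobeniusThm
import Cfsg.Agent.S0034

/-!
# Statements in the language of types: complements, the Frobenius kernel.
-/

set_option autoImplicit false
set_option linter.unusedSectionVars false
set_option linter.unusedVariables false
set_option linter.style.haveILetI false
set_option linter.unusedSimpArgs false

namespace Cfsg.Agent.Lib.BGTy4

open Cfsg Subgroup Cfsg.Agent.Lib.CoprimeInv Cfsg.Agent.Lib.BGTrans Cfsg.Agent.Lib.BGM1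
  Cfsg.Agent.Lib.BGM2 Cfsg.Agent.Lib.BGZ1 Cfsg.Agent.Lib.OddOrderCore
  Cfsg.Agent.Lib.BGZ2 Cfsg.Agent.Lib.BGZ5 Cfsg.Agent.Lib.BGZ8 Cfsg.Agent.Lib.BGZ9 Cfsg.Agent.Lib.BGZB
  Cfsg.Agent.Lib.BGCent Cfsg.Agent.Lib.BGTy1 Cfsg.Agent.Lib.BGTy2 Cfsg.Agent.Lib.BGTy3

open scoped commutatorElement

universe u

variable {G : Type u} [Group G] [Finite G]

/-- The Frobenius kernel is the largest normal nilpotent Hall subgroup. -/
theorem kernel_eq_fittingHall {X : Type u} [Group X] [Finite X] {E : Subgroup X}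
    (hE : IsFrobeniusComplement E) (hF : fittingHall X ≠ ⊥) :
    frobeniusKernel E = ((fittingHall X : Subgroup X) : Set X) := by
  open Cfsg.Agent.Lib.Frobenius in
  obtain ⟨N, hNset, hNn, hNc⟩ := Cfsg.Agent.Lib.FrobeniusThm.exists_kernel_subgroup hE
  obtain ⟨Y, hYE, hYp⟩ := exists_prime_le hE.1
  obtain ⟨e, heY, he1, -, heo⟩ := exists_gen hYp
  have heE : e ∈ E := hYE heY
  haveI : Fact (Nat.card Y).Prime := ⟨hYp⟩
  have hNE : N ⊓ E = ⊥ := hNc.disjoint.eq_bot
  have hN1 : N ≠ ⊥ := by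
    rintro rfl
    apply hE.2.1
    have h1 : (⊥ : Subgroup X).index = Nat.card E := hNc.symm.index_eq_card
    rw [Subgroup.index_bot] at h1
    exact Subgroup.eq_top_of_card_eq _ h1.symm
  have hfree : N ⊓ centralizer ({e} : Set X) = ⊥ := by
    rw [eq_bot_iff]
    intro n hn
    obtain ⟨hn1, hn2⟩ := Subgroup.mem_inf.mp hn
    rw [Subgroup.mem_centralizer_singleton_iff] at hn2
    have h3 : n * e * n⁻¹ ∈ E := by
      rw [hn2]; simpa using heE
    have h4 := Cfsg.Agent.Lib.Frobenius.mem_of_conj_mem' hE heE he1 h3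
    have : n ∈ N ⊓ E := Subgroup.mem_inf.mpr ⟨hn1, h4⟩
    rwa [hNE] at this
  have hNnil : Group.IsNilpotent N :=
    Cfsg.Agent.Lib.BGTau7.nilpotent_of_fpf (p := Nat.card Y) (x := e) (Y := N)
      (by rw [Subgroup.normalizer_eq_top_iff.mpr hNn]; trivial) (by rw [← heo]; exact pow_orderOf_eq_one e) hN1 hfree
  have hcop : (Nat.card N).Coprime N.index := by
    have h1 := (Cfsg.Agent.S0034.result E hE).2
    have h2 : N.index = Nat.card E := hNc.symm.index_eq_card
    have h3 : E.index = Nat.card N := hNc.index_eq_card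
    rw [h2, ← h3]
    have h4 : Nat.ModEq (Nat.card E) E.index 1 := h1
    have h5 := h4.gcd_eq
    rw [Nat.coprime_iff_gcd_eq_one, h5]
    simp
  have hle : N ≤ fittingHall X := le_fittingHall hNn hNnil hcop
  obtain ⟨hFn, hFnil, -⟩ := fittingHall_mem X
  have hge : fittingHall X ≤ N := by
    intro f hf
    by_contra hfN
    have hfK : f ∉ frobeniusKernel E := by
      rw [← hNset]; exact hfN
    obtain ⟨hf1, g, hg⟩ := Cfsg.Agent.Lib.Frobenius.not_mem_kernel_iff.mp hfK
    have hf'F : g⁻¹ * f * g ∈ fittingHall X := by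
      have := hFn.conj_mem f hf g⁻¹
      simpa using this
    have hf'1 : g⁻¹ * f * g ≠ 1 := by
      intro h
      apply hf1
      have : f = g * (g⁻¹ * f * g) * g⁻¹ := by group
      rw [this, h]; group
    haveI : Nontrivial (fittingHall X) := (Subgroup.nontrivial_iff_ne_bot _).mpr hF
    have hcb := Group.IsNilpotent.center_ne_bot (G := fittingHall X)
    obtain ⟨z, hz⟩ := Subgroup.ne_bot_iff_exists_ne_one.mp hcb
    have hz1 : ((z : fittingHall X) : X) ≠ 1 := by
      intro h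
      exact hz (by ext; simpa using h)
    have hzc : ∀ m : fittingHall X, (m : X) * z = z * m := by
      intro m
      have := (Subgroup.mem_center_iff.mp z.2 m)
      have h2 := congrArg (Subtype.val) this
      simpa using h2
    have hzE : ((z : fittingHall X) : X) ∈ E := by
      apply Cfsg.Agent.Lib.Frobenius.mem_of_conj_mem' hE hg hf'1
      have := hzc ⟨_, hf'F⟩
      simp only at this
      have h3 : (z : fittingHall X).1 * (g⁻¹ * f * g) * (z : fittingHall X).1⁻¹ = g⁻¹ * f * g := by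
        rw [← this]; group
      rw [h3]; exact hg
    have hFE : fittingHall X ≤ E := by
      intro m hm
      apply Cfsg.Agent.Lib.Frobenius.mem_of_conj_mem' hE hzE hz1
      have := hzc ⟨m, hm⟩
      simp only at this
      have h3 : m * ((z : fittingHall X) : X) * m⁻¹ = (z : fittingHall X) := by
        rw [this]; group
      rw [h3]; exact hzE
    have hEtop : ∃ g₀ : X, g₀ ∉ E := by
      by_contra hall
      push_neg at hall
      exact hE.2.1 (eq_top_iff.mpr fun x _ => hall x)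
    obtain ⟨g₀, hg₀⟩ := hEtop
    apply hF
    rw [eq_bot_iff]
    intro m hm
    have hm2 : g₀⁻¹ * m * g₀ ∈ fittingHall X := by
      have := hFn.conj_mem m hm g₀⁻¹
      simpa using this
    exact Subgroup.mem_bot.mpr (Cfsg.Agent.Lib.Frobenius.ti hE hg₀ (hFE hm) (hFE hm2))
  rw [← hNset, le_antisymm hle hge]


theorem IsComplIn.symm' {A B M : Subgroup G} (h : IsComplIn A B M) : IsComplIn B A M := by
  obtain ⟨h1, h2, h3, h4⟩ := h
  refine ⟨h2, h1, by rw [inf_comm]; exact h3, ?_⟩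
  intro m hm
  obtain ⟨a, ha, b, hb, he⟩ := h4 m⁻¹ (M.inv_mem hm)
  refine ⟨b⁻¹, B.inv_mem hb, a⁻¹, A.inv_mem ha, ?_⟩
  rw [← mul_inv_rev, ← he, inv_inv]

theorem cj_self_of_mem {M : Subgroup G} {m : G} (hm : m ∈ M) : cj M m = M :=
  cj_eq_of_mem_normalizer (Subgroup.le_normalizer hm)

/-- A standard factorisation conjugated by an element of `M`. -/
theorem dec_cj {M K U : Subgroup G} (hd : IsSigmaDecomposition M K U) {m : G} (hm : m ∈ M) :
    IsSigmaDecomposition M (cj K m) (cj U m) := by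
  have hσ : cj (sigmaCore M) m = sigmaCore M := cj_eq_of_mem_normalizer (le_normalizer_sigmaCore hm)
  refine ⟨?_, ?_, ?_, ?_⟩
  · haveI := hd.cyclic
    exact isCyclic_of_surjective _ (Subgroup.equivMapOfInjective K (MulAut.conj m).toMonoidHom
      (MulAut.conj m).injective).surjective
  · have := isPiHallOf_cj hd.hall m
    rwa [cj_self_of_mem hm] at this
  · have := isComplIn_cj hd.compl m
    rwa [cj_self_of_mem hm, cj_sup, hσ] at this
  · intro x hx
    apply mem_normalizer_of_cj_eq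
    obtain ⟨k, hk, rfl⟩ := hx
    have h1 : (MulAut.conj m).toMonoidHom k = m * k * m⁻¹ := rfl
    rw [h1, cj_cj]
    have h2 : m * k * m⁻¹ * m = m * k := by group
    rw [h2, ← cj_cj, cj_eq_of_mem_normalizer (hd.normal hk)]

variable (T : TyInp G)

include T in
/-- Complements in Type I. -/
theorem dec_of_I {M U : Subgroup G} (hM : IsCoatom M) (hI : IsOfTypeI M)
    (hU : IsComplIn (fittingHallOf M) U M) : IsSigmaDecomposition M ⊥ U := by
  obtain ⟨K₀, U₀, hd⟩ := exists_dec T.hG hM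
  obtain ⟨rfl, hU₀⟩ := T.s80 M hM K₀ U₀ hd hI
  have hF := fitting_eq_of_U T hM hd hU₀
  rw [hF] at hU
  refine ⟨inferInstance, hd.hall, ?_, bot_le⟩
  rw [bot_sup_eq]
  exact IsComplIn.symm' hU

include T in
/-- Complements in Type II. -/
theorem dec_of_II {M U : Subgroup G} (hM : IsCoatom M) (hII : IsOfTypeII M)
    (hU : IsComplIn (fittingHallOf M) U ⁅M, M⁆) : ∃ K : Subgroup G, K ≠ ⊥ ∧ IsSigmaDecomposition M K U := by
  obtain ⟨K₀, U₀, hd⟩ := exists_dec T.hG hM
  obtain ⟨hK₀, hU₀⟩ := (T.s81 M hM K₀ U₀ hd).mp hII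
  have hF := fitting_eq_of_U T hM hd hU₀
  rw [hF] at hU
  have hG := T.hG
  have hder : ⁅M, M⁆ = U₀ ⊔ sigmaCore M := derived_eq (inp_of hG) hM hd hK₀
  have hMs : Group.IsSolvable M := solvable_of_le_coatom hG hM le_rfl
  have hM's : Group.IsSolvable ↥⁅M, M⁆ := solvable_of_le_coatom hG hM (Subgroup.commutator_le_self M)
  have hc1 : Nat.card (sigmaCore M) * Nat.card U = Nat.card ↥⁅M, M⁆ := card_mul_card_of_isComplIn hU
  have hU₀n : U₀ ≤ normalizer (sigmaCore M : Set G) := hd.compl.1.trans le_normalizer_sigmaCore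
  have hinf : U₀ ⊓ sigmaCore M = ⊥ := by
    rw [eq_bot_iff]
    intro x hx
    obtain ⟨hxU, hxσ⟩ := Subgroup.mem_inf.mp hx
    have : x ∈ U₀ ⊓ (K₀ ⊔ sigmaCore M) :=
      Subgroup.mem_inf.mpr ⟨hxU, (le_sup_right : sigmaCore M ≤ K₀ ⊔ sigmaCore M) hxσ⟩
    rwa [hd.compl.2.2.1] at this
  have hc2 : Nat.card U₀ * Nat.card (sigmaCore M) = Nat.card ↥⁅M, M⁆ := by
    rw [hder]
    have h2 := card_sup_mul_card_inf hU₀n
    rw [hinf, Subgroup.card_bot, mul_one] at h2
    exact h2.symm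
  have hcU : Nat.card U = Nat.card U₀ := by
    have h0 : 0 < Nat.card (sigmaCore M) := Nat.card_pos
    apply Nat.eq_of_mul_eq_mul_left h0
    rw [hc1, ← hc2, mul_comm]
  have hU₀le : U₀ ≤ ⁅M, M⁆ := hder ▸ le_sup_left
  have hσle : sigmaCore M ≤ ⁅M, M⁆ := hder ▸ le_sup_right
  -- `U₀` is a Hall subgroup of `M'`
  have hrel : U₀.relIndex ⁅M, M⁆ = Nat.card (sigmaCore M) := by
    have h3 : Nat.card (U₀.subgroupOf ⁅M, M⁆) * (U₀.subgroupOf ⁅M, M⁆).index = Nat.card ↥⁅M, M⁆ :=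
      Subgroup.card_mul_index _
    rw [card_subgroupOf_of_le hU₀le] at h3
    have h4 : (U₀.subgroupOf ⁅M, M⁆).index = U₀.relIndex ⁅M, M⁆ := rfl
    rw [h4] at h3
    have h5 : 0 < Nat.card U₀ := Nat.card_pos
    apply Nat.eq_of_mul_eq_mul_left h5
    rw [h3, hc2]
  have hH : IsPiHallOf {q | q.Prime ∧ q ∉ sigma M} U₀ ⁅M, M⁆ := by
    refine ⟨hU₀le, ?_, ?_⟩
    · intro r hr hd'
      exact ⟨hr, (Cfsg.Agent.Lib.BGU0.primes_U hG hM hd hr hd').2⟩
    · rintro r hr ⟨-, hrσ⟩ hd'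
      rw [hrel] at hd'
      exact hrσ (primes_sigmaCore r hr hd')
  have hUp : ∀ r : ℕ, r.Prime → r ∣ Nat.card U → r ∈ {q | q.Prime ∧ q ∉ sigma M} := by
    intro r hr hd'
    refine ⟨hr, fun hrσ => ?_⟩
    rw [hcU] at hd'
    exact (Cfsg.Agent.Lib.BGU0.primes_U hG hM hd hr hd').2 hrσ
  obtain ⟨m, hm, hle⟩ := exists_conj_le_hall hM's hH hU.2.1 hUp
  have heq : U = cj U₀ m := by
    apply Subgroup.eq_of_le_of_card_ge hle
    rw [card_cj, hcU]
  have hmM : m ∈ M := Subgroup.commutator_le_self M hm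
  refine ⟨cj K₀ m, ?_, ?_⟩
  · exact Cfsg.Agent.Lib.BGTau6.cj_ne_bot' m hK₀
  · rw [heq]
    exact dec_cj hd hmM


theorem centralizer_closure_eq (X : Set G) :
    centralizer ((closure X : Subgroup G) : Set G) = centralizer X := by
  apply le_antisymm
  · exact Subgroup.centralizer_le subset_closure
  · intro g hg
    rw [Subgroup.mem_centralizer_iff] at hg ⊢
    intro h hh
    induction hh using Subgroup.closure_induction with
    | mem x hx => exact hg x hx
    | one => simp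
    | mul a b _ _ ha hb => rw [mul_assoc, hb, ← mul_assoc, ha, mul_assoc]
    | inv a _ ha =>
      have h1 : a⁻¹ * g * a = g := by
        rw [mul_assoc, ← ha]; simp
      have h2 : a⁻¹ * g = g * a⁻¹ := by
        calc a⁻¹ * g = a⁻¹ * g * a * a⁻¹ := by group
          _ = g * a⁻¹ := by rw [h1]
      exact h2

include T in
/-- `S1390`. -/
theorem s1390 (M : Subgroup G) (hM : IsCoatom M) (U : Subgroup G)
    (hU : (IsOfTypeI M ∧ IsComplIn (fittingHallOf M) U M) ∨ (IsOfTypeII M ∧ IsComplIn (fittingHallOf M) U ⁅M, M⁆)) :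
    (∀ (p : ℕ), p.Prime → ∀ P : Sylow p U, IsMulCommutative (P : Subgroup U) ∧ PRankLE p 2 (P : Subgroup U)) ∧
      (∀ X : Set G, X ⊆ (U : Set G) \ {1} → X.Nonempty → fittingHallOf M ⊓ centralizer X ≠ ⊥ →
        centralizer X ≤ M ∧ ∀ L : Subgroup G, IsCoatom L → centralizer X ≤ L → L = M) ∧
      IsTISubset (typeA M \ typeA1 M) := by
  have hG := T.hG
  obtain ⟨K, hd, hUne, hKn⟩ : ∃ K : Subgroup G, IsSigmaDecomposition M K U ∧ fittingHallOf M = sigmaCore M ∧
      (¬ IsOfTypeI M → K ≠ ⊥) := by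
    rcases hU with ⟨hI, hU⟩ | ⟨hII, hU⟩
    · refine ⟨⊥, dec_of_I T hM hI hU, ?_, fun h => absurd hI h⟩
      obtain ⟨K₀, U₀, hd⟩ := exists_dec T.hG hM
      exact fitting_eq_of_U T hM hd (T.s80 M hM K₀ U₀ hd hI).2
    · obtain ⟨K, hK1, hK⟩ := dec_of_II T hM hII hU
      refine ⟨K, hK, ?_, fun _ => hK1⟩
      obtain ⟨K₀, U₀, hd⟩ := exists_dec T.hG hM
      exact fitting_eq_of_U T hM hd ((T.s81 M hM K₀ U₀ hd).mp hII).2
  refine ⟨Cfsg.Agent.S1358.result hG M hM K U hd, ?_, ?_⟩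
  · intro X hX hXne hC
    obtain ⟨x, hx⟩ := hXne
    have hXU : closure X ≤ U := by
      rw [Subgroup.closure_le]
      exact fun a ha => (hX ha).1
    have hX1 : closure X ≠ ⊥ := by
      intro h
      have : x ∈ closure X := subset_closure hx
      rw [h] at this
      exact (hX hx).2 (Subgroup.mem_bot.mp this)
    have := cent_X_unique hG (kf_of hG) hM hd hXU hX1 (by
      rw [centralizer_closure_eq, ← hUne]
      exact hC)
    rwa [centralizer_closure_eq] at this
  · have h1 : typeA M \ typeA1 M = sigmaA M U \ (sigmaCore M : Set G) := by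
      rw [typeA_eq T hM hd hKn, typeA1_eq T hM]
      ext a
      constructor
      · rintro ⟨⟨h2, h3⟩, h4⟩
        exact ⟨h2, fun h5 => h4 ⟨h5, h3⟩⟩
      · rintro ⟨h2, h3⟩
        have h4 : a ≠ 1 := by
          rintro rfl
          exact h3 (Subgroup.one_mem _)
        exact ⟨⟨h2, h4⟩, fun h5 => h3 h5.1⟩
    rw [h1]
    exact Cfsg.Agent.Lib.BGU0.s1362 (cx_of hG) hM hd

end Cfsg.Agent.Lib.BGTy4
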