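import Mathlib
import Cfsg.Agent.Lib.BGTy4

/-!
# Statements in the language of types: the support of `A₀(M)`.
-/

set_option autoImplicit false
set_option linter.unusedSectionVars false
set_option linter.unusedVariables false
set_option linter.style.haveILetI false
set_option linter.unusedSimpArgs false

namespace Cfsg.Agent.Lib.BGTy5

open Cfsg Subgroup Cfsg.Agent.Lib.CoprimeInv Cfsg.Agent.Lib.BGTrans Cfsg.Agent.Lib.BGM1
  Cfsg.Agent.Lib.BGM2 Cfsg.Agent.Lib.BGZ1 Cfsg.Agent.Lib.OddOrderCore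
  Cfsg.Agent.Lib.BGZ2 Cfsg.Agent.Lib.BGZ5 Cfsg.Agent.Lib.BGZ8 Cfsg.Agent.Lib.BGZ9 Cfsg.Agent.Lib.BGZB
  Cfsg.Agent.Lib.BGCent Cfsg.Agent.Lib.BGTy1 Cfsg.Agent.Lib.BGTy2 Cfsg.Agent.Lib.BGTy3
  Cfsg.Agent.Lib.BGTy4

open scoped commutatorElement

universe u

variable {G : Type u} [Group G] [Finite G]

variable (T : TyInp G)

/-- With `κ(M) = τ₂(M) = ∅`, non-identity `σ(M)'`-elements act freely on `M_σ`. -/
theorem no_fix (hG : IsMinSimpleOddOrder G) {M : Subgroup G} (hM : IsCoatom M) (hκ : kappa M = ∅) (hτ : tau2 M = ∅)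
    {z z' : G} (hz : z ∈ sigmaCore M) (hz1 : z ≠ 1) (hz' : z' ∈ M ⊓ centralizer ({z} : Set G)) (hz'1 : z' ≠ 1)
    (hσ : ∀ p : ℕ, p.Prime → p ∣ orderOf z' → p ∉ sigma M) : False := by
  have h1 : orderOf z' ≠ 1 := fun h => hz'1 (orderOf_eq_one_iff.mp h)
  obtain ⟨q, hq, hqd⟩ := Nat.exists_prime_and_dvd h1
  rcases (kf_of hG).h32 M hM z hz hz1 z' hz' hz'1 hσ with h | h
  · have := h.1 q hq hqd
    rw [hκ] at this
    exact this
  · have := h.1 q hq hqd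
    rw [hτ] at this
    exact this

include T in
/-- The coprimality clause. -/
theorem coprime_clause {M K U N : Subgroup G} (hM : IsCoatom M) (hd : IsSigmaDecomposition M K U)
    {x : G} (hx : x ∈ sigmaCore M) (hx1 : x ≠ 1) (hxM : ¬ centralizer ({x} : Set G) ≤ M)
    (hN : IsCoatom N) (hCN : centralizer ({x} : Set G) ≤ N) (hxσ : x ∉ sigmaCore N)
    (hNF : sigmaCore N = fittingHallOf N) {y : G} (hy : y ∈ sigmaA0 M K \ {1}) :
    (Nat.card (fittingHallOf N)).Coprime (Nat.card ↥(M ⊓ centralizer ({y} : Set G))) := by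
  have hG := T.hG
  apply Nat.coprime_of_dvd
  intro p hp h1 h2
  rw [← hNF] at h1
  have hpN : p ∈ sigma N := primes_sigmaCore p hp h1
  have hpM : p ∣ Nat.card M := h2.trans (Subgroup.card_dvd_of_le inf_le_left)
  obtain ⟨hκ, hτ⟩ := T.s36 M hM x hx hx1 hxM N hN hCN ⟨p, hpN, hpM⟩
  have hpσ : p ∉ sigma M := by
    intro h
    obtain ⟨g, hg⟩ := (kf_of hG).thD M N hM hN ⟨p, h, hpN⟩
    apply hxσ
    have hxN : x ∈ N := hCN (by
      rw [Subgroup.mem_centralizer_singleton_iff])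
    apply mem_sigmaCore_of_primes hG hN hxN
    intro q hq hqd
    rw [hg, sigma_cj_eq]
    exact primes_of_mem_sigmaCore hx hq hqd
  haveI : Fact p.Prime := ⟨hp⟩
  obtain ⟨t, ht⟩ := exists_prime_orderOf_dvd_card' p h2
  have ht1 : (t : G) ≠ 1 := by
    intro h
    have : t = 1 := by ext; exact h
    rw [this, orderOf_one] at ht
    exact hp.one_lt.ne ht
  have hto : orderOf (t : G) = p := by
    rw [← ht, Subgroup.orderOf_coe]
  have htσ : ∀ q : ℕ, q.Prime → q ∣ orderOf (t : G) → q ∉ sigma M := by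
    intro q hq hqd
    rw [hto] at hqd
    rw [(Nat.prime_dvd_prime_iff_eq hq hp).mp hqd]
    exact hpσ
  -- `y ∈ M_σ`
  obtain ⟨⟨hyM, w, hw, hw1, hyw⟩, -⟩ := hy.1
  obtain ⟨b, c, hbc, -, -, ⟨n, hn⟩, hb, hc⟩ := exists_split (sigma M) y
  have hc1 : c = 1 := by
    by_contra hc1
    refine no_fix hG hM hκ hτ hw hw1 (z' := c) (Subgroup.mem_inf.mpr ⟨?_, ?_⟩) hc1 hc
    · rw [← hn]; exact M.pow_mem hyM n
    · rw [Subgroup.mem_centralizer_singleton_iff, ← hn]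
      exact ((show Commute y w from hyw).pow_left n)
  have hyσ : y ∈ sigmaCore M := by
    apply mem_sigmaCore_of_primes hG hM hyM
    rw [hbc, hc1, mul_one]
    exact hb
  exact no_fix hG hM hκ hτ hyσ hy.2 t.2 ht1 htσ


include T in
/-- The structure of the support. -/
theorem s1391_core1 {M K U L : Subgroup G} (hM : IsCoatom M) (hd : IsSigmaDecomposition M K U)
    {x : G} (hx : x ∈ sigmaCore M) (hx1 : x ≠ 1) (hxM : ¬ centralizer ({x} : Set G) ≤ M)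
    (hL : IsCoatom L) (hCL : centralizer ({x} : Set G) ≤ L) :
    IsComplIn (fittingHallOf L) (M ⊓ L) L ∧
    centralizer ({x} : Set G) ≤ normalizer ((fittingHallOf L ⊓ centralizer ({x} : Set G) : Subgroup G) : Set G) ∧
    IsComplIn (fittingHallOf L ⊓ centralizer ({x} : Set G)) (M ⊓ centralizer ({x} : Set G)) (centralizer ({x} : Set G)) ∧
    (∀ y ∈ sigmaA0 M K \ {1}, (Nat.card (fittingHallOf L)).Coprime (Nat.card ↥(M ⊓ centralizer ({y} : Set G)))) := by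
  have hG := T.hG
  obtain ⟨N, ⟨hN, hCN⟩, hUn, hNF, h1, h2, h3, h4⟩ := main75 hG (kf_of hG) hM hx hx1 hxM
  obtain rfl : L = N := hUn L hL hCL
  obtain ⟨K', U', hd'⟩ := exists_dec hG hL
  obtain ⟨hU'1, hxA, hxσ⟩ := h4 K' U' hd'
  rw [hNF] at h1 h2 h3 hxσ
  refine ⟨IsComplIn.symm' h3, h1, IsComplIn.symm' h2, ?_⟩
  intro y hy
  exact coprime_clause T hM hd hx hx1 hxM hL hCL (by rwa [hNF]) hNF hy

include T in
theorem s1391_core (hR : TypeOneRev G) {M K U L : Subgroup G} (hM : IsCoatom M) (hd : IsSigmaDecomposition M K U)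
    {x : G} (hx : x ∈ sigmaCore M) (hx1 : x ≠ 1) (hxM : ¬ centralizer ({x} : Set G) ≤ M)
    (hL : IsCoatom L) (hCL : centralizer ({x} : Set G) ≤ L) :
    IsComplIn (fittingHallOf L) (M ⊓ L) L ∧
    centralizer ({x} : Set G) ≤ normalizer ((fittingHallOf L ⊓ centralizer ({x} : Set G) : Subgroup G) : Set G) ∧
    IsComplIn (fittingHallOf L ⊓ centralizer ({x} : Set G)) (M ⊓ centralizer ({x} : Set G)) (centralizer ({x} : Set G)) ∧
    (∀ y ∈ sigmaA0 M K \ {1}, (Nat.card (fittingHallOf L)).Coprime (Nat.card ↥(M ⊓ centralizer ({y} : Set G)))) ∧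
    (x ∈ typeA L ∧ x ∉ typeA1 L) ∧
    (IsOfTypeI L ∨ IsOfTypeII L) ∧
    (IsOfTypeII L → ∃ E : Subgroup ↥M, IsFrobeniusComplement E ∧
      frobeniusKernel E = ((fittingHall ↥M : Subgroup ↥M) : Set ↥M)) := by
  have hG := T.hG
  obtain ⟨N, ⟨hN, hCN⟩, hUn, hNF, h1, h2, h3, h4⟩ := main75 hG (kf_of hG) hM hx hx1 hxM
  obtain rfl : L = N := hUn L hL hCL
  obtain ⟨K', U', hd'⟩ := exists_dec hG hL
  obtain ⟨hU'1, hxA, hxσ⟩ := h4 K' U' hd'
  rw [hNF] at h1 h2 h3 hxσ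
  refine ⟨IsComplIn.symm' h3, h1, IsComplIn.symm' h2, ?_, ?_, ?_, ?_⟩
  · intro y hy
    exact coprime_clause T hM hd hx hx1 hxM hL hCL (by rwa [hNF]) hNF hy
  · rw [typeA_eq T hL hd' (fun hI => K_ne_of_not_I T hR hL hd' hI), typeA1_eq T hL]
    refine ⟨⟨hxA, hx1⟩, ?_⟩
    rintro ⟨h, -⟩
    apply hxσ
    rw [← hNF]
    exact h
  · by_cases hK' : K' = ⊥
    · exact Or.inl (hR L K' U' hL hd' hK' hU'1)
    · exact Or.inr ((T.s81 L hL K' U' hd').mpr ⟨hK', hU'1⟩)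
  · intro hII
    have hK' := ((T.s81 L hL K' U' hd').mp hII).1
    have hne : (kappa L).Nonempty := by
      have hc : Nat.card K' ≠ 1 := by
        intro h
        exact hK' (Subgroup.eq_bot_of_card_eq _ h)
      obtain ⟨r, hr, hrd⟩ := Nat.exists_prime_and_dvd hc
      exact ⟨r, hd'.hall.2.1 r hr hrd⟩
    obtain ⟨-, E, hE, -⟩ := T.s76 M hM x hx hx1 hxM L hL hCL hne
    refine ⟨E, hE, kernel_eq_fittingHall hE ?_⟩
    intro h
    apply (T.s55 M hM).1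
    rw [fittingHallOf, h, Subgroup.map_bot]

include T in
/-- `S1391`. -/
theorem s1391 (hR : TypeOneRev G) (M : Subgroup G) (hM : IsCoatom M) (X : Set G) (hX : X = typeA M ∨ X = typeA0 M) :
    (∀ x ∈ X, ∀ g : G, g * x * g⁻¹ ∈ X → ∃ m ∈ M, m * x * m⁻¹ = g * x * g⁻¹) ∧
      (∀ x ∈ X, ¬ centralizer ({x} : Set G) ≤ M → x ∈ typeA1 M ∧
        ∃! L : Subgroup G, IsCoatom L ∧ centralizer ({x} : Set G) ≤ L) ∧
      ∀ x ∈ X, ¬ centralizer ({x} : Set G) ≤ M → ∀ L : Subgroup G, IsCoatom L → centralizer ({x} : Set G) ≤ L →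
        IsComplIn (fittingHallOf L) (M ⊓ L) L ∧
        centralizer ({x} : Set G) ≤ normalizer ((fittingHallOf L ⊓ centralizer ({x} : Set G) : Subgroup G) : Set G) ∧
        IsComplIn (fittingHallOf L ⊓ centralizer ({x} : Set G)) (M ⊓ centralizer ({x} : Set G)) (centralizer ({x} : Set G)) ∧
        (∀ y ∈ X, (Nat.card (fittingHallOf L)).Coprime (Nat.card ↥(M ⊓ centralizer ({y} : Set G)))) ∧
        (x ∈ typeA L ∧ x ∉ typeA1 L) ∧
        (IsOfTypeI L ∨ IsOfTypeII L) ∧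
        (IsOfTypeII L → ∃ E : Subgroup ↥M, IsFrobeniusComplement E ∧
          frobeniusKernel E = ((fittingHall ↥M : Subgroup ↥M) : Set ↥M)) := by
  have hG := T.hG
  obtain ⟨K, U, hd⟩ := exists_dec hG hM
  have hsub : X ⊆ sigmaA0 M K \ {1} := by
    rcases hX with rfl | rfl
    · rw [typeA_eq T hM hd (fun hI => K_ne_of_not_I T hR hM hd hI)]
      rintro a ⟨h1, h2⟩
      exact ⟨sigmaA_subset_A0 hM hd h1, h2⟩
    · rw [typeA0_eq T hM hd (fun hI => K_ne_of_not_I T hR hM hd hI)]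
  have hcore : ∀ x ∈ X, ¬ centralizer ({x} : Set G) ≤ M → x ∈ sigmaCore M ∧ x ≠ 1 := fun x hx hxM =>
    ⟨mem_core_of_not_le hG hM hd (hsub hx).1 hxM, (hsub hx).2⟩
  refine ⟨?_, ?_, ?_⟩
  · intro x hx g hg
    exact fusion_A0 hG hM hd (hsub hx) (hsub hg)
  · intro x hx hxM
    obtain ⟨h1, h2⟩ := hcore x hx hxM
    refine ⟨?_, ?_⟩
    · rw [typeA1_eq T hM]
      exact ⟨h1, h2⟩
    · obtain ⟨N, ⟨hN, hCN⟩, hUn, -⟩ := main75 hG (kf_of hG) hM h1 h2 hxM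
      exact ⟨N, ⟨hN, hCN⟩, fun L hL => hUn L hL.1 hL.2⟩
  · intro x hx hxM L hL hCL
    obtain ⟨h1, h2⟩ := hcore x hx hxM
    obtain ⟨a1, a2, a3, a4, a5, a6, a7⟩ := s1391_core T hR hM hd h1 h2 hxM hL hCL
    exact ⟨a1, a2, a3, fun y hy => a4 y (hsub hy), a5, a6, a7⟩

end Cfsg.Agent.Lib.BGTy5
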