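import Mathlib
import Cfsg.Agent.Lib.BGZF

/-!
# Bender-Glauberman section 14: the subgroup `U` when `K ≠ 1`.
-/

set_option autoImplicit false
set_option linter.unusedSectionVars false
set_option linter.unusedVariables false
set_option linter.style.haveILetI false
set_option linter.unusedSimpArgs false

namespace Cfsg.Agent.Lib.BGZG

open Cfsg Subgroup Cfsg.Agent.Lib.CoprimeInv Cfsg.Agent.Lib.BGTrans Cfsg.Agent.Lib.BGM1
  Cfsg.Agent.Lib.BGSigma2 Cfsg.Agent.Lib.BGM2 Cfsg.Agent.Lib.BGZ1 Cfsg.Agent.Lib.OddOrderCore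
  Cfsg.Agent.Lib.BGSigma4 Cfsg.Agent.Lib.BGZ2 Cfsg.Agent.Lib.BGZ3 Cfsg.Agent.Lib.BGZ4
  Cfsg.Agent.Lib.BGZ5 Cfsg.Agent.Lib.BGZ6 Cfsg.Agent.Lib.BGZ7 Cfsg.Agent.Lib.BGZ8
  Cfsg.Agent.Lib.BGTau7 Cfsg.Agent.Lib.BGZC Cfsg.Agent.Lib.BGZD Cfsg.Agent.Lib.BGZE

open scoped commutatorElement

universe u

variable {G : Type u} [Group G] [Finite G]

/-- **S1363**. -/
theorem s1363 (I : Inp G) (M : Subgroup G) (hM : IsCoatom M) (K U : Subgroup G)
    (hKU : IsSigmaDecomposition M K U) (hK1 : K ≠ ⊥) :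
    IsMulCommutative U ∧ ¬ normalizer (U : Set G) ≤ M := by
  classical
  have hG := I.hG
  obtain ⟨-, ⟨U', hU'ab, hU'H, -, -⟩, -⟩ := I.s30 M hM K hKU.hall hK1
  have hUab : IsMulCommutative U := Cfsg.Agent.Lib.BGU0.U_comm_of_hall hG hM hKU hU'ab hU'H
  refine ⟨hUab, ?_⟩
  by_cases hU1 : U = ⊥
  · subst hU1
    intro h
    have h2 : normalizer ((⊥ : Subgroup G) : Set G) = ⊤ := Subgroup.normalizer_eq_top_iff.mpr inferInstance
    rw [h2] at h
    exact hM.1 (top_le_iff.mp h)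
  · obtain ⟨r, hr, hrd⟩ : ∃ r : ℕ, r.Prime ∧ r ∣ Nat.card U := by
      have h1 : Nat.card U ≠ 1 := fun h => hU1 ((Subgroup.card_eq_one).mp h)
      exact ⟨_, Nat.minFac_prime h1, Nat.minFac_dvd _⟩
    haveI : Fact r.Prime := ⟨hr⟩
    obtain ⟨R⟩ : Nonempty (Sylow r U) := inferInstance
    set R' : Subgroup G := (R : Subgroup U).map U.subtype with hR'
    have hR'U : IsSylowIn r R' U := isSylowIn_map R
    have hR'1 : R' ≠ ⊥ := by
      intro hb
      have : (R : Subgroup U) = ⊥ := by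
        rw [hR', Subgroup.map_eq_bot_iff_of_injective _ U.subtype_injective] at hb
        exact hb
      exact R.ne_bot_of_dvd_card hrd this
    obtain ⟨H, hH, hNR⟩ := Cfsg.Agent.Lib.BGTau5.exists_coatom_ge
      (IsMin.normalizer_ne_top hG hR'1 (IsMin.isPGroup_ne_top hG hR'U.2.1))
    obtain ⟨Ms, hMs⟩ := exists_mate I (⟨hM, hKU.hall, hK1⟩ : Good M K)
    have h3 := Cfsg.Agent.Lib.BGZF.s1435 I M hM K U hKU hK1 hU1 Ms hMs.goodS.hM hMs.kst_eq.symm
      hMs.goodS.hall r hrd R H hH hNR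
    intro hle
    exact h3.2.2.2.1 (inf_le_right.trans hle)

end Cfsg.Agent.Lib.BGZG
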