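import Mathlib
import Cfsg.Agent.Lib.BGZG
import Cfsg.Agent.Lib.BGZ9
import Cfsg.Agent.Lib.H6F6

/-!
# Bender-Glauberman section 14: the type `P` data.
-/

set_option autoImplicit false
set_option linter.unusedSectionVars false
set_option linter.unusedVariables false
set_option linter.style.haveILetI false
set_option linter.unusedSimpArgs false

namespace Cfsg.Agent.Lib.BGZH

open Cfsg Subgroup Cfsg.Agent.Lib.CoprimeInv Cfsg.Agent.Lib.BGTrans Cfsg.Agent.Lib.BGM1
  Cfsg.Agent.Lib.BGSigma2 Cfsg.Agent.Lib.BGM2 Cfsg.Agent.Lib.BGZ1 Cfsg.Agent.Lib.OddOrderCore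
  Cfsg.Agent.Lib.BGSigma4 Cfsg.Agent.Lib.BGZ2 Cfsg.Agent.Lib.BGZ3 Cfsg.Agent.Lib.BGZ4
  Cfsg.Agent.Lib.BGZ5 Cfsg.Agent.Lib.BGZ6 Cfsg.Agent.Lib.BGZ7 Cfsg.Agent.Lib.BGZ8
  Cfsg.Agent.Lib.BGTau7 Cfsg.Agent.Lib.BGZC Cfsg.Agent.Lib.BGZD Cfsg.Agent.Lib.BGZE
  Cfsg.Agent.Lib.BGZ9 Cfsg.Agent.Lib.BGZB

open scoped commutatorElement

universe u

variable {G : Type u} [Group G] [Finite G]

theorem nil_of_inj {A B : Type*} [Group A] [Group B] (f : A →* B) (hf : Function.Injective f)
    [h : Group.IsNilpotent B] : Group.IsNilpotent A := by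
  haveI : Group.IsNilpotent f.range := inferInstance
  exact Group.nilpotent_of_mulEquiv (MonoidHom.ofInjective hf).symm

theorem hall_coprime {M K : Subgroup G} {π : Set ℕ} (h : IsPiHallOf π K M) :
    (Nat.card K).Coprime (K.relIndex M) := by
  apply Nat.coprime_of_dvd
  intro p hp h1 h2
  exact h.2.2 p hp (h.2.1 p hp h1) h2

/-- The primes of `U M_σ` are not in `κ(M)`. -/
theorem derived_not_kappa (I : Inp G) {M K U : Subgroup G} (hM : IsCoatom M)
    (hKU : IsSigmaDecomposition M K U) (hK1 : K ≠ ⊥) {p : ℕ} (hp : p.Prime)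
    (hd : p ∣ Nat.card (⁅M, M⁆ : Subgroup G)) : p ∉ kappa M := by
  have hG := I.hG
  rw [derived_eq I hM hKU hK1] at hd
  have hUn : U ≤ normalizer (sigmaCore M : Set G) := hKU.compl.1.trans le_normalizer_sigmaCore
  have h2 := hd.trans (Cfsg.Agent.Lib.BGCent.card_sup_dvd hUn)
  rcases (Nat.Prime.dvd_mul hp).mp h2 with h3 | h3
  · exact (Cfsg.Agent.Lib.BGCent.primes_U hG hM hKU hp h3).1
  · exact Cfsg.Agent.Lib.BGCent.not_kappa_of_sigma (primes_sigmaCore p hp h3)

theorem inf_derived_eq_bot (I : Inp G) {M K U : Subgroup G} (hM : IsCoatom M)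
    (hKU : IsSigmaDecomposition M K U) (hK1 : K ≠ ⊥) : K ⊓ ⁅M, M⁆ = ⊥ := by
  have hc : (Nat.card K).Coprime (Nat.card (⁅M, M⁆ : Subgroup G)) := by
    apply Nat.coprime_of_dvd
    intro p hp h1 h2
    exact derived_not_kappa I hM hKU hK1 hp h2 (hKU.hall.2.1 p hp h1)
  exact (Subgroup.disjoint_of_coprime_natCard hc).eq_bot

theorem derived_le (M : Subgroup G) : ⁅M, M⁆ ≤ M :=
  Subgroup.commutator_le.mpr fun a ha b hb => by
    rw [commutatorElement_def]
    exact mul_mem (mul_mem (mul_mem ha hb) (inv_mem ha)) (inv_mem hb)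

theorem compl_derived (I : Inp G) {M K U : Subgroup G} (hM : IsCoatom M)
    (hKU : IsSigmaDecomposition M K U) (hK1 : K ≠ ⊥) : IsComplIn ⁅M, M⁆ K M := by
  refine ⟨derived_le M, hKU.hall.1, ?_, ?_⟩
  · rw [inf_comm]; exact inf_derived_eq_bot I hM hKU hK1
  · intro m hm
    have hsup : K ⊔ ⁅M, M⁆ = M := by
      rw [derived_eq I hM hKU hK1]; exact sup_eq_of_dec hKU
    have hKn : K ≤ normalizer ((⁅M, M⁆ : Subgroup G) : Set G) := by
      rw [derived_eq I hM hKU hK1]; exact hKU.hall.1.trans (D_norm hKU)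
    rw [← hsup] at hm
    obtain ⟨k, hk, d, hd, rfl⟩ := Cfsg.Agent.Lib.BGTau3.mul_of_mem_sup hKn hm
    refine ⟨k * d * k⁻¹, (mem_normalizer_iff.mp (hKn hk) d).mp hd, k, hk, by group⟩

/-- The self-normalizing property. -/
theorem selfNorm (I : Inp G) {M K U : Subgroup G} (hM : IsCoatom M)
    (hKU : IsSigmaDecomposition M K U) (hK1 : K ≠ ⊥) :
    IsSelfNormalizingCyclic K (sigmaCore M ⊓ centralizer (K : Set G)) := by
  obtain ⟨Ms, h⟩ := exists_mate I (⟨hM, hKU.hall, hK1⟩ : Good M K)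
  have h64 := s1364 I M hM K U hKU hK1
  have h68 := s1368 I M hM K U hKU hK1 Ms h.goodS.hM h.kst_eq.symm h.goodS.hall
  have h70 := s1370 I M hM K U hKU hK1
  have hb : K ⊓ (sigmaCore M ⊓ centralizer (K : Set G)) = ⊥ :=
    le_bot_iff.mp ((inf_le_inf_left K (inf_le_left.trans
      (Cfsg.Agent.Lib.BGP3D.sigmaCore_le_derived I.hG hM))).trans
      (inf_derived_eq_bot I hM hKU hK1).le)
  refine ⟨hK1, h64.2.1, hb, ?_, h68.2, ?_⟩
  · intro a ha b hb
    exact (mem_centralizer_iff.mp hb.2 a ha)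
  · intro X hX hne
    obtain ⟨x, hx⟩ := hne
    have hxZ := hX hx
    apply le_antisymm
    · intro g hg
      have hg2 : g * x * g⁻¹ ∈ X := ((show ∀ n, n ∈ X ↔ g * n * g⁻¹ ∈ X from hg) x).mp hx
      have hgZ := hX hg2
      by_contra hgn
      rw [← h70.2] at hgn
      have hx1 := h70.1 g hgn x hxZ hgZ
      subst hx1
      exact hxZ.2 (Or.inl (one_mem K))
    · intro z hz
      have hC : ∀ a ∈ K ⊔ (sigmaCore M ⊓ centralizer (K : Set G)), z * a * z⁻¹ = a := by
        intro a ha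
        have := mul_comm_of_isCyclic h68.2 hz ha
        rw [this]; group
      show ∀ n, n ∈ X ↔ z * n * z⁻¹ ∈ X
      intro y
      constructor
      · intro hy
        rw [hC y (hX hy).1]; exact hy
      · intro hy
        have h2 : y ∈ K ⊔ (sigmaCore M ⊓ centralizer (K : Set G)) := by
          have h3 := (hX hy).1
          have h4 : z * y * z⁻¹ ∈ K ⊔ (sigmaCore M ⊓ centralizer (K : Set G)) := h3
          have h5 : y = z⁻¹ * (z * y * z⁻¹) * z := by group
          rw [h5]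
          exact mul_mem (mul_mem (inv_mem hz) h4) hz
        rw [hC y h2] at hy
        exact hy

/-- Type `P` data. -/
theorem typeP (I : Inp G) {M K U V : Subgroup G} (hM : IsCoatom M)
    (hKU : IsSigmaDecomposition M K U) (hK1 : K ≠ ⊥) (hVnil : Group.IsNilpotent V)
    (hVn : K ≤ normalizer (V : Set G)) (hVc : IsComplIn (fittingHallOf M) V ⁅M, M⁆) :
    IsTypePWith M K V (sigmaCore M ⊓ centralizer (K : Set G)) := by
  classical
  have h64 := s1364 I M hM K U hKU hK1
  have h56 := Cfsg.Agent.Lib.H6F6.s1356_core I hM hKU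
  have hκ : (kappa M).Nonempty := by
    obtain ⟨p, hp, hd⟩ : ∃ r : ℕ, r.Prime ∧ r ∣ Nat.card K := by
      have h1 : Nat.card K ≠ 1 := fun h => hK1 ((Subgroup.card_eq_one).mp h)
      exact ⟨_, Nat.minFac_prime h1, Nat.minFac_dvd _⟩
    exact ⟨p, hKU.hall.2.1 p hp hd⟩
  refine
    { W₁_ne := hK1
      W₁_cyclic := hKU.cyclic
      W₁_hall := hall_coprime hKU.hall
      W₁_compl := compl_derived I hM hKU hK1
      U_nilpotent := hVnil
      U_normal := hVn
      U_compl := hVc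
      H_not_cyclic := h64.2.2.2
      derived_two_le := ?_
      fitting_eq := ?_
      fitting_le := h56.2.2 hκ
      W₂_le := le_inf h64.2.2.1 (kst_le_derived I hM hKU hK1)
      W₂_centralizer := ?_
      selfNormalizing := selfNorm I hM hKU hK1 }
  · rw [sup_comm, ← h56.2.1]; exact h56.1
  · rw [sup_comm, ← h56.2.1]
  · intro x hx hx1
    obtain ⟨Ms, h⟩ := exists_mate I (⟨hM, hKU.hall, hK1⟩ : Good M K)
    apply le_antisymm
    · rintro y ⟨hyD, hyC⟩
      have h2 : y ∈ M ⊓ centralizer ({x} : Set G) := ⟨derived_le M hyD, hyC⟩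
      have h3 := h.cent_k I hx hx1
      rw [h3] at h2
      have hKn : K ≤ normalizer ((sigmaCore M ⊓ centralizer (K : Set G) : Subgroup G) : Set G) := by
        intro k hk
        rw [mem_normalizer_iff]
        intro t
        have hkc : ∀ t ∈ sigmaCore M ⊓ centralizer (K : Set G), k * t = t * k :=
          fun t ht => mem_centralizer_iff.mp ht.2 k hk
        constructor
        · intro ht
          have h6 : k * t * k⁻¹ = t := by rw [hkc t ht]; group
          rw [h6]; exact ht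
        · intro ht
          have h4 := hkc _ ht
          have h6 : t = k * t * k⁻¹ := by
            have h5 : k * (k * t * k⁻¹) = k * t := by rw [h4]; group
            exact (mul_left_cancel h5).symm
          rw [h6]; exact ht
      obtain ⟨k, hk, c, hc, rfl⟩ := Cfsg.Agent.Lib.BGTau3.mul_of_mem_sup hKn h2
      have hcD : c ∈ ⁅M, M⁆ := by
        have h5 := kst_le_derived I hM hKU hK1 hc
        have h6 : ⁅⁅M, M⁆, ⁅M, M⁆⁆ ≤ ⁅M, M⁆ := derived_le _
        exact h6 h5
      have hkD : k ∈ ⁅M, M⁆ := by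
        have : k = (k * c) * c⁻¹ := by group
        rw [this]
        exact mul_mem hyD (inv_mem hcD)
      have hk1 : k = 1 := by
        have : k ∈ K ⊓ ⁅M, M⁆ := ⟨hk, hkD⟩
        rw [inf_derived_eq_bot I hM hKU hK1] at this
        exact this
      rw [hk1, one_mul]
      exact hc
    · intro t ht
      refine ⟨?_, ?_⟩
      · have h5 := kst_le_derived I hM hKU hK1 ht
        have h6 : ⁅⁅M, M⁆, ⁅M, M⁆⁆ ≤ ⁅M, M⁆ := derived_le _
        exact h6 h5
      · show t ∈ centralizer ({x} : Set G)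
        rw [mem_centralizer_singleton_iff]
        exact (mem_centralizer_iff.mp ht.2 x hx).symm

/-- A group of type `P` has `κ(M)` nonempty. -/
theorem K_ne_of_typeP (I : Inp G) {M K U W₁ V W₂ : Subgroup G} (hM : IsCoatom M)
    (hKU : IsSigmaDecomposition M K U) (T : IsTypePWith M W₁ V W₂) : K ≠ ⊥ := by
  classical
  have hG := I.hG
  intro hK1
  obtain ⟨X, hXW, hXp⟩ := exists_prime_le T.W₁_ne
  obtain ⟨x, hx, hx1, hXz, hxo⟩ := exists_gen hXp
  have hxW := hXW hx
  have hW₂1 : W₂ ≠ ⊥ := T.selfNormalizing.2.1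
  obtain ⟨y, hy, hy1⟩ := exists_mem_ne_one hW₂1
  have hcent := T.W₂_centralizer x hxW hx1
  have hyC : y ∈ ⁅M, M⁆ ⊓ centralizer ({x} : Set G) := by rw [hcent]; exact hy
  have hyF : y ∈ fittingHallOf M := (T.W₂_le hy).1
  have hFσ : fittingHallOf M ≤ sigmaCore M := by
    exact Cfsg.Agent.Lib.BGCent.fittingHallOf_le_sigmaCore hG hM
  have hyσ : y ∈ sigmaCore M := hFσ hyF
  have hxM : x ∈ M := T.W₁_compl.2.1 hxW
  have hxy : x ∈ M ⊓ centralizer ({y} : Set G) := by
    refine ⟨hxM, ?_⟩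
    have h2 : y ∈ centralizer ({x} : Set G) := hyC.2
    show x ∈ centralizer ({y} : Set G)
    rw [mem_centralizer_singleton_iff] at h2 ⊢
    exact h2.symm
  have htp : ∀ p : ℕ, p.Prime → p ∣ orderOf x → p = Nat.card X := by
    intro p hp hd
    rw [hxo] at hd
    exact (Nat.prime_dvd_prime_iff_eq hp hXp).mp hd
  have hinf : W₁ ⊓ ⁅M, M⁆ = ⊥ := by rw [inf_comm]; exact T.W₁_compl.2.2.1
  have hnotσ : ∀ p : ℕ, p.Prime → p ∣ orderOf x → p ∉ sigma M := by
    intro p hp hd hpσ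
    have hall : ∀ q : ℕ, q.Prime → q ∣ orderOf x → q ∈ sigma M := by
      intro q hq hqd
      rw [htp q hq hqd, ← htp p hp hd]
      exact hpσ
    have h3 : x ∈ sigmaCore M := mem_core_of_primes hG hM hxM hall
    have h4 : x ∈ W₁ ⊓ ⁅M, M⁆ := ⟨hxW, Cfsg.Agent.Lib.BGP3D.sigmaCore_le_derived hG hM h3⟩
    rw [hinf] at h4
    exact hx1 h4
  set t := Nat.card X with ht
  have htd : t ∣ orderOf x := by rw [hxo]
  haveI : Fact t.Prime := ⟨hXp⟩
  have hκ : t ∉ kappa M := by
    intro hκ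
    have h1 := hKU.hall.2.2 t hXp hκ
    have h2 : t ∣ Nat.card M := by
      have := hκ.2.1
      exact this
    subst hK1
    have h3 : (⊥ : Subgroup G).relIndex M = Nat.card M := by
      rw [Subgroup.relIndex_bot_left]
    rw [h3] at h1
    exact h1 h2
  have hs32 := I.s32 M hM y hyσ hy1 x hxy hx1 hnotσ
  rcases hs32 with ⟨h1, -⟩ | ⟨h1, -⟩
  · exact hκ (h1 t hXp htd)
  · have hτ := h1 t hXp htd
    apply hτ.2.2.2
    haveI hcyc : IsCyclic W₁ := T.W₁_cyclic
    obtain ⟨S, hS⟩ := exists_isSylowIn t W₁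
    have hndvd : ¬ t ∣ W₁.relIndex M := by
      intro h3
      have h4 : t ∣ Nat.card W₁ := by
        have := Subgroup.card_dvd_of_le hXW
        exact this
      have h5 := Nat.dvd_gcd h4 h3
      rw [T.W₁_hall] at h5
      exact hXp.one_lt.ne' (Nat.dvd_one.mp h5)
    have hS2 : IsSylowIn t S M := isSylowIn_of_hall hS T.W₁_compl.2.1 hndvd
    apply Cfsg.Agent.Lib.BGSigma.prankLE_of_isSylowIn hS2
    haveI : IsCyclic S := isCyclic_of_le hS.1 hcyc
    exact Cfsg.Agent.Lib.BGP3E.prankLE_one_of_cyclic hXp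

/-- If `V` is a nontrivial nilpotent complement to `M_F` in `M_σ`, then `N_G(V) ≤ M`. -/
theorem normalizer_le_of_compl (hG : IsMinSimpleOddOrder G) {M V : Subgroup G} (hM : IsCoatom M)
    (hVnil : Group.IsNilpotent V) (hV1 : V ≠ ⊥) (hVc : IsComplIn (fittingHallOf M) V (sigmaCore M)) :
    normalizer (V : Set G) ≤ M := by
  classical
  obtain ⟨s, hs, hsd⟩ : ∃ r : ℕ, r.Prime ∧ r ∣ Nat.card V := by
    have h1 : Nat.card V ≠ 1 := fun h => hV1 ((Subgroup.card_eq_one).mp h)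
    exact ⟨_, Nat.minFac_prime h1, Nat.minFac_dvd _⟩
  haveI : Fact s.Prime := ⟨hs⟩
  have hVσ : V ≤ sigmaCore M := hVc.2.1
  have hsσ : s ∈ sigma M :=
    primes_sigmaCore s hs (hsd.trans (Subgroup.card_dvd_of_le hVσ))
  -- `s` does not divide `|M_F|`
  have hc := card_mul_card_of_isComplIn hVc
  have hFM := fittingHall_mem M
  have hFcard : Nat.card (fittingHallOf M) = Nat.card (fittingHall M) :=
    Nat.card_congr (Subgroup.equivMapOfInjective _ _ M.subtype_injective).symm.toEquiv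
  have hd1 : Nat.card (fittingHallOf M) * Nat.card V ∣ Nat.card (fittingHallOf M) * (fittingHall M).index := by
    rw [hc, hFcard, Subgroup.card_mul_index]
    exact Subgroup.card_dvd_of_le sigmaCore_le
  have hd2 : Nat.card V ∣ (fittingHall M).index :=
    Nat.dvd_of_mul_dvd_mul_left (Nat.card_pos (α := fittingHallOf M)) hd1
  have hsF : ¬ s ∣ Nat.card (fittingHallOf M) := by
    intro h
    rw [hFcard] at h
    have h2 := Nat.dvd_gcd h (hsd.trans hd2)
    rw [hFM.2.2] at h2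
    exact hs.one_lt.ne' (Nat.dvd_one.mp h2)
  have hrel : V.relIndex (sigmaCore M) = Nat.card (fittingHallOf M) := by
    have h1 : Nat.card V * V.relIndex (sigmaCore M) = Nat.card (sigmaCore M) := by
      have := Subgroup.card_mul_index (V.subgroupOf (sigmaCore M))
      rwa [card_subgroupOf_of_le hVσ] at this
    apply Nat.eq_of_mul_eq_mul_left (Nat.card_pos (α := V))
    rw [h1, ← hc, mul_comm]
  have hS1 : IsSylowIn s (Cfsg.Agent.Lib.FitPair.Op s V) V := by
    refine ⟨Cfsg.Agent.Lib.FitPair.Op_le s V, Cfsg.Agent.Lib.FitPair.isPGroup_Op s V, ?_⟩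
    intro R hRV hRp hle
    apply le_antisymm _ hle
    intro x hx
    apply Cfsg.Agent.Lib.FitPair.mem_Op_of_pelt _ (Cfsg.Agent.Lib.FitPair.pelt_of_mem_pgroup hRp hx)
    exact Cfsg.Agent.Lib.BGFix.le_fittingOf V V le_rfl
      (fun k hk l hl => mul_mem (mul_mem hk hl) (inv_mem hk)) hVnil (hRV hx)
  have hS2 : IsSylowIn s (Cfsg.Agent.Lib.FitPair.Op s V) (sigmaCore M) :=
    isSylowIn_of_hall hS1 hVσ (by rw [hrel]; exact hsF)
  have hS3 : IsSylowIn s (Cfsg.Agent.Lib.FitPair.Op s V) M :=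
    isSylowIn_of_hall hS2 sigmaCore_le ((sigma_hall hG hM).1.2.2 s hs hsσ)
  exact (Cfsg.Agent.Lib.FitPair.normalizer_le_Op s V).trans (normalizer_le_of_sigma hsσ hS3)

end Cfsg.Agent.Lib.BGZH
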