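import Mathlib
import Cfsg.Agent.Lib.BGTy5
import Cfsg.Agent.Lib.BGZH

/-!
# The Dade hypothesis for `A₁(M)`, `A(M)`, `A₀(M)`.
-/

set_option autoImplicit false
set_option linter.unusedSectionVars false
set_option linter.unusedVariables false
set_option linter.style.haveILetI false
set_option linter.unusedSimpArgs false

namespace Cfsg.Agent.Lib.BGTy6

open Cfsg Subgroup Cfsg.Agent.Lib.CoprimeInv Cfsg.Agent.Lib.BGTrans Cfsg.Agent.Lib.BGM1
  Cfsg.Agent.Lib.BGM2 Cfsg.Agent.Lib.BGZ1 Cfsg.Agent.Lib.OddOrderCore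
  Cfsg.Agent.Lib.BGZ2 Cfsg.Agent.Lib.BGZ3 Cfsg.Agent.Lib.BGZ5 Cfsg.Agent.Lib.BGZ8 Cfsg.Agent.Lib.BGZ9 Cfsg.Agent.Lib.BGZB
  Cfsg.Agent.Lib.BGCent Cfsg.Agent.Lib.BGTy1 Cfsg.Agent.Lib.BGTy2 Cfsg.Agent.Lib.BGTy3
  Cfsg.Agent.Lib.BGTy4 Cfsg.Agent.Lib.BGTy5

open scoped commutatorElement

universe u

variable {G : Type u} [Group G] [Finite G]

variable (T : TyInp G)

theorem conj_ne_one {a m : G} (h : a ≠ 1) : m * a * m⁻¹ ≠ 1 := by
  intro h2
  apply h
  have : a = m⁻¹ * (m * a * m⁻¹) * m := by group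
  rw [this, h2]; group

theorem sigmaCore_conj {M : Subgroup G} {m a : G} (hm : m ∈ M) (ha : a ∈ sigmaCore M) :
    m * a * m⁻¹ ∈ sigmaCore M :=
  (mem_normalizer_iff.mp (le_normalizer_sigmaCore hm) a).mp ha

theorem sigmaHat_conj {M : Subgroup G} {m a : G} (hm : m ∈ M) (ha : a ∈ sigmaHat M) :
    m * a * m⁻¹ ∈ sigmaHat M := by
  obtain ⟨h1, y, hy, hy1, hya⟩ := ha
  refine ⟨M.mul_mem (M.mul_mem hm h1) (M.inv_mem hm), m * y * m⁻¹, sigmaCore_conj hm hy, conj_ne_one hy1, ?_⟩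
  have e1 : m * a * m⁻¹ * (m * y * m⁻¹) = m * (a * y) * m⁻¹ := by group
  have e2 : m * y * m⁻¹ * (m * a * m⁻¹) = m * (y * a) * m⁻¹ := by group
  rw [e1, e2, hya]

theorem sigmaA_conj {M K U : Subgroup G} (hd : IsSigmaDecomposition M K U) {m a : G} (hm : m ∈ M)
    (ha : a ∈ sigmaA M U) : m * a * m⁻¹ ∈ sigmaA M U :=
  ⟨sigmaHat_conj hm ha.1, (mem_normalizer_iff.mp (D_norm hd hm) a).mp ha.2⟩

theorem sigmaA0_conj {M K : Subgroup G} {m a : G} (hm : m ∈ M) (ha : a ∈ sigmaA0 M K) :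
    m * a * m⁻¹ ∈ sigmaA0 M K := by
  refine ⟨sigmaHat_conj hm ha.1, ?_⟩
  rintro ⟨k, hk, hk1, m', hm', h⟩
  apply ha.2
  refine ⟨k, hk, hk1, m⁻¹ * m', M.mul_mem (M.inv_mem hm) hm', ?_⟩
  have : a = m⁻¹ * (m * a * m⁻¹) * m := by group
  rw [this, h]; group

theorem core_subset_A {M U : Subgroup G} {x : G} (hx : x ∈ (sigmaCore M : Set G) \ {1}) (hM : IsCoatom M) :
    x ∈ sigmaA M U := by
  refine ⟨⟨sigmaCore_le hx.1, x, hx.1, hx.2, rfl⟩, ?_⟩
  exact (le_sup_right : sigmaCore M ≤ U ⊔ sigmaCore M) hx.1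

theorem sup_eq_of_compl {A B C : Subgroup G} (h : IsComplIn A B C) : A ⊔ B = C := by
  apply le_antisymm (sup_le h.1 h.2.1)
  intro c hc
  obtain ⟨a, ha, b, hb, rfl⟩ := h.2.2.2 c hc
  exact mul_mem ((le_sup_left : A ≤ A ⊔ B) ha) ((le_sup_right : B ≤ A ⊔ B) hb)

include T in
theorem support_eq {M : Subgroup G} (hM : IsCoatom M) {a : G} (ha : a ∈ sigmaCore M) (ha1 : a ≠ 1)
    (hC : ¬ centralizer ({a} : Set G) ≤ M) :
    ∃ L : Subgroup G, IsCoatom L ∧ centralizer ({a} : Set G) ≤ L ∧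
      supportR M a = fittingHallOf L ⊓ centralizer ({a} : Set G) := by
  have hG := T.hG
  obtain ⟨L, ⟨hL, hCL⟩, hu, -, -, hs⟩ := supportR_eq_of (inp_of hG) hM ha ha1 hC
  obtain ⟨N, ⟨hN, hCN⟩, hUn, hNF, -⟩ := main75 hG (kf_of hG) hM ha ha1 hC
  obtain rfl : L = N := hUn L hL hCL
  exact ⟨L, hL, hCL, by rw [hs, hNF]⟩

include T in
/-- The Dade hypothesis for an invariant part of `A₀(M)`. -/
theorem dade_of {A : Set G} {M K U : Subgroup G} (hM : IsCoatom M) (hd : IsSigmaDecomposition M K U)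
    (hsub : A ⊆ sigmaA0 M K \ {1}) (hinv : ∀ m ∈ M, ∀ a ∈ A, m * a * m⁻¹ ∈ A) :
    DadeHypothesis A M (supportR M) := by
  have hG := T.hG
  have key : ∀ a ∈ A, (centralizer ({a} : Set G) ≤ M ∧ supportR M a = ⊥) ∨
      ∃ L : Subgroup G, IsCoatom L ∧ centralizer ({a} : Set G) ≤ L ∧
        supportR M a = fittingHallOf L ⊓ centralizer ({a} : Set G) ∧
        centralizer ({a} : Set G) ≤ normalizer ((fittingHallOf L ⊓ centralizer ({a} : Set G) : Subgroup G) : Set G) ∧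
        IsComplIn (fittingHallOf L ⊓ centralizer ({a} : Set G)) (M ⊓ centralizer ({a} : Set G)) (centralizer ({a} : Set G)) ∧
        (∀ y ∈ sigmaA0 M K \ {1}, (Nat.card (fittingHallOf L)).Coprime (Nat.card ↥(M ⊓ centralizer ({y} : Set G)))) := by
    intro a ha
    by_cases hC : centralizer ({a} : Set G) ≤ M
    · exact Or.inl ⟨hC, supportR_of_le hC⟩
    · right
      have haσ := mem_core_of_not_le hG hM hd (hsub ha).1 hC
      obtain ⟨L, hL, hCL, hs⟩ := support_eq T hM haσ (hsub ha).2 hC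
      obtain ⟨-, a2, a3, a4⟩ := s1391_core1 T hM hd haσ (hsub ha).2 hC hL hCL
      exact ⟨L, hL, hCL, hs, a2, a3, a4⟩
  refine ⟨fun h => (hsub h).2 rfl, fun a ha => (hsub ha).1.1.1, hinv, ?_, ?_, ?_, ?_, ?_, ?_⟩
  · intro a ha g hg
    exact fusion_A0 hG hM hd (hsub ha) (hsub hg)
  · intro a ha
    rcases key a ha with ⟨-, h⟩ | ⟨L, -, -, h, -⟩
    · rw [h]; exact bot_le
    · rw [h]; exact inf_le_right
  · intro a ha c hc u hu
    rcases key a ha with ⟨-, h⟩ | ⟨L, -, -, h, h2, -⟩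
    · rw [h] at hu ⊢
      rw [Subgroup.mem_bot.mp hu]
      simp
    · rw [h] at hu ⊢
      exact (mem_normalizer_iff.mp (h2 hc) u).mp hu
  · intro a ha
    rcases key a ha with ⟨-, h⟩ | ⟨L, -, -, h, -, h3, -⟩
    · rw [h, bot_inf_eq]
    · rw [h]
      exact h3.2.2.1
  · intro a ha
    rcases key a ha with ⟨h1, h⟩ | ⟨L, -, -, h, -, h3, -⟩
    · rw [h, bot_sup_eq, inf_eq_right]
      exact h1
    · rw [h]
      exact sup_eq_of_compl h3
  · intro a ha b hb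
    rcases key a ha with ⟨-, h⟩ | ⟨L, -, -, h, -, -, h4⟩
    · rw [h, Subgroup.card_bot]
      exact Nat.coprime_one_left _
    · rw [h]
      exact Nat.Coprime.coprime_dvd_left (Subgroup.card_dvd_of_le inf_le_left) (h4 b (hsub hb))

include T in
/-- The case of a subgroup with `K = 1` which is not of Type I. -/
theorem three_sets_fake {M K U : Subgroup G} (hM : IsCoatom M) (hd : IsSigmaDecomposition M K U)
    (hr : ¬ (¬ IsOfTypeI M → K ≠ ⊥)) :
    typeA M ⊆ sigmaA0 M K \ {1} ∧ (∀ m ∈ M, ∀ a ∈ typeA M, m * a * m⁻¹ ∈ typeA M) ∧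
      ((sigmaCore M : Set G) \ {1}) ⊆ typeA M := by
  obtain ⟨hI, hK⟩ := _root_.not_imp.mp hr
  obtain rfl := not_not.mp hK
  have he : typeA M = {a | a ∈ ⁅M, M⁆ ∧ a ≠ 1 ∧ ∃ x ∈ sigmaCore M, x ≠ 1 ∧ a * x = x * a} := by
    unfold typeA
    rw [if_neg hI, typeCore_eq T hM]
  have hle : ⁅M, M⁆ ≤ M := Subgroup.commutator_le_self M
  rw [he]
  refine ⟨?_, ?_, ?_⟩
  · rintro a ⟨h1, h2, y, hy, hy1, hya⟩
    refine ⟨⟨⟨hle h1, y, hy, hy1, hya⟩, ?_⟩, h2⟩
    rintro ⟨k, hk, hk1, -⟩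
    exact hk1 (Subgroup.mem_bot.mp hk)
  · rintro m hm a ⟨h1, h2, y, hy, hy1, hya⟩
    refine ⟨?_, conj_ne_one h2, m * y * m⁻¹, sigmaCore_conj hm hy, conj_ne_one hy1, ?_⟩
    · exact (mem_normalizer_iff.mp (le_normalizer_self_commutator M hm) a).mp h1
    · have e1 : m * a * m⁻¹ * (m * y * m⁻¹) = m * (a * y) * m⁻¹ := by group
      have e2 : m * y * m⁻¹ * (m * a * m⁻¹) = m * (y * a) * m⁻¹ := by group
      rw [e1, e2, hya]
  · rintro a ⟨h1, h2⟩
    exact ⟨(T.s55 M hM).2.2.1 h1, h2, a, h1, h2, rfl⟩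

include T in
/-- The three sets are contained in `A₀(M)` and are invariant. -/
theorem three_sets {M K U : Subgroup G} (hM : IsCoatom M) (hd : IsSigmaDecomposition M K U) {A : Set G}
    (hA : A = typeA1 M ∨ A = typeA M ∨ A = typeA0 M) :
    A ⊆ sigmaA0 M K \ {1} ∧ (∀ m ∈ M, ∀ a ∈ A, m * a * m⁻¹ ∈ A) ∧ ((sigmaCore M : Set G) \ {1}) ⊆ A := by
  have h1 : (sigmaCore M : Set G) \ {1} ⊆ sigmaA M U \ {1} := fun a ha =>
    ⟨core_subset_A ha hM, ha.2⟩
  have h2 : sigmaA M U \ {1} ⊆ sigmaA0 M K \ {1} := fun a ha =>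
    ⟨sigmaA_subset_A0 hM hd ha.1, ha.2⟩
  rcases hA with rfl | rfl | rfl
  · rw [typeA1_eq T hM]
    refine ⟨h1.trans h2, ?_, le_rfl⟩
    intro m hm a ha
    exact ⟨sigmaCore_conj hm ha.1, conj_ne_one ha.2⟩
  · by_cases hr : ¬ IsOfTypeI M → K ≠ ⊥
    · rw [typeA_eq T hM hd hr]
      refine ⟨h2, ?_, h1⟩
      intro m hm a ha
      exact ⟨sigmaA_conj hd hm ha.1, conj_ne_one ha.2⟩
    · exact three_sets_fake T hM hd hr
  · by_cases hr : ¬ IsOfTypeI M → K ≠ ⊥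
    · rw [typeA0_eq T hM hd hr]
      refine ⟨le_rfl, ?_, h1.trans h2⟩
      intro m hm a ha
      exact ⟨sigmaA0_conj hm ha.1, conj_ne_one ha.2⟩
    · have h3 := three_sets_fake T hM hd hr
      have h4 : typeA0 M = typeA M := by
        unfold typeA0
        apply Set.union_eq_left.mpr
        rintro v ⟨-, W₁, V, W₂, P, -⟩
        exact absurd (not_not.mp (_root_.not_imp.mp hr).2) (Cfsg.Agent.Lib.BGZH.K_ne_of_typeP (inp_of T.hG) hM hd P)
      rw [h4]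
      exact h3

include T in
theorem normalizer_three {M : Subgroup G} (hM : IsCoatom M) {A : Set G}
    (hA : A = typeA1 M ∨ A = typeA M ∨ A = typeA0 M) : normalizer A = M := by
  have hG := T.hG
  obtain ⟨K, U, hd⟩ := exists_dec hG hM
  obtain ⟨h1, h2, h3⟩ := three_sets T hM hd hA
  apply normalizer_eq_of hG hM (fun a ha => (h1 ha).1.1.1)
  · obtain ⟨x, hx, hx1⟩ := (Subgroup.bot_or_exists_ne_one (sigmaCore M)).resolve_left (sigmaCore_ne_bot T hM)
    exact ⟨x, h3 ⟨hx, hx1⟩, hx1⟩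
  · exact le_normalizer_of_conj_mem h2

include T in
/-- `S1537`. -/
theorem s1537 (M : Subgroup G) (hM : IsCoatom M) (A : Set G) (hA : A = typeA1 M ∨ A = typeA M ∨ A = typeA0 M) :
    normalizer A = M ∧ DadeHypothesis A M (supportR M) := by
  obtain ⟨K, U, hd⟩ := exists_dec T.hG hM
  obtain ⟨h1, h2, h3⟩ := three_sets T hM hd hA
  exact ⟨normalizer_three T hM hA, dade_of T hM hd h1 h2⟩

include T in
/-- `S1538`. -/
theorem s1538 (M : Subgroup G) (hM : IsCoatom M) (hII : IsOfTypeII M) :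
    (IsTISubset (typeA0 M) ∧ normalizer (typeA0 M) = M) ∧ (IsTISubset (typeA M) ∧ normalizer (typeA M) = M) ∧
      (IsTISubset (typeA1 M) ∧ normalizer (typeA1 M) = M) := by
  have hG := T.hG
  obtain ⟨K, U, hd⟩ := exists_dec hG hM
  obtain ⟨hK, hU⟩ := (T.s81 M hM K U hd).mp hII
  obtain ⟨hTI, hσF⟩ := T.s72 M hM K U hd hK hU
  have hFM : fittingOf M ≤ M := Subgroup.map_subtype_le _
  have hFne : ∃ x ∈ (fittingOf M : Set G), x ≠ 1 := by
    obtain ⟨x, hx, hx1⟩ := (Subgroup.bot_or_exists_ne_one (sigmaCore M)).resolve_left (sigmaCore_ne_bot T hM)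
    exact ⟨x, hσF hx, hx1⟩
  have hFN : M ≤ normalizer (fittingOf M : Set G) := by
    apply le_normalizer_of_conj_mem
    rintro m hm a ⟨a', ha', rfl⟩
    have h1 := (Subgroup.sSup_normal _ (fun _ h => h.1) : (fittingSubgroup ↥M).Normal).conj_mem a' ha' ⟨m, hm⟩
    exact ⟨_, h1, rfl⟩
  have hNF : normalizer (fittingOf M : Set G) = M := normalizer_eq_of hG hM hFM hFne hFN
  -- the centraliser of a member of `A₀(M)` lies in `M`
  have hC : ∀ x ∈ sigmaA0 M K \ {1}, centralizer ({x} : Set G) ≤ M := by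
    intro x hx
    by_contra hxC
    have hxσ := mem_core_of_not_le hG hM hd hx.1 hxC
    obtain ⟨t, ht, htM⟩ := Set.not_subset.mp hxC
    have ht : t ∈ centralizer ({x} : Set G) := ht
    rw [Subgroup.mem_centralizer_singleton_iff] at ht
    have hcon : t * x * t⁻¹ = x := by rw [ht]; group
    have htN : t ∈ normalizer (fittingOf M : Set G) := by
      by_contra htN
      exact hx.2 (hTI t htN x (hσF hxσ) (by rw [hcon]; exact hσF hxσ))
    rw [hNF] at htN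
    exact htM htN
  have hTIs : ∀ A : Set G, (A = typeA1 M ∨ A = typeA M ∨ A = typeA0 M) → IsTISubset A := by
    intro A hA g hg x hx hxg
    obtain ⟨h1, h2, h3⟩ := three_sets T hM hd hA
    rw [normalizer_three T hM hA] at hg
    by_contra hx1
    obtain ⟨m, hm, he⟩ := fusion_A0 hG hM hd (h1 hx) (h1 hxg)
    apply hg
    have hcm : m⁻¹ * g ∈ centralizer ({x} : Set G) := by
      rw [Subgroup.mem_centralizer_singleton_iff]
      have h5 : g * x = m * x * m⁻¹ * g := by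
        rw [he]; group
      calc m⁻¹ * g * x = m⁻¹ * (g * x) := by group
        _ = m⁻¹ * (m * x * m⁻¹ * g) := by rw [h5]
        _ = x * (m⁻¹ * g) := by group
    have := M.mul_mem hm (hC x (h1 hx) hcm)
    simpa using this
  exact ⟨⟨hTIs _ (Or.inr (Or.inr rfl)), normalizer_three T hM (Or.inr (Or.inr rfl))⟩,
    ⟨hTIs _ (Or.inr (Or.inl rfl)), normalizer_three T hM (Or.inr (Or.inl rfl))⟩,
    ⟨hTIs _ (Or.inl rfl), normalizer_three T hM (Or.inl rfl)⟩⟩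

end Cfsg.Agent.Lib.BGTy6
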