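import Mathlib
import Cfsg.Agent.Lib.BGTy6

/-!
# Supports of maximal subgroups.
-/

set_option autoImplicit false
set_option linter.unusedSectionVars false
set_option linter.unusedVariables false
set_option linter.style.haveILetI false
set_option linter.unusedSimpArgs false

namespace Cfsg.Agent.Lib.BGTy7

open Cfsg Subgroup Cfsg.Agent.Lib.CoprimeInv Cfsg.Agent.Lib.BGTrans Cfsg.Agent.Lib.BGM1
  Cfsg.Agent.Lib.BGM2 Cfsg.Agent.Lib.BGZ1 Cfsg.Agent.Lib.OddOrderCore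
  Cfsg.Agent.Lib.BGZ2 Cfsg.Agent.Lib.BGZ3 Cfsg.Agent.Lib.BGZ5 Cfsg.Agent.Lib.BGZ8 Cfsg.Agent.Lib.BGZ9 Cfsg.Agent.Lib.BGZB
  Cfsg.Agent.Lib.BGCent Cfsg.Agent.Lib.BGTy1 Cfsg.Agent.Lib.BGTy2 Cfsg.Agent.Lib.BGTy3
  Cfsg.Agent.Lib.BGTy4 Cfsg.Agent.Lib.BGTy5 Cfsg.Agent.Lib.BGTy6

open scoped commutatorElement

universe u

variable {G : Type u} [Group G] [Finite G]

variable (T : TyInp G) (hRv : TypeOneRev G)

theorem nc_symm {S R : Subgroup G} (hnc : ∀ g : G, R.map (MulAut.conj g).toMonoidHom ≠ S) :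
    ∀ g : G, S.map (MulAut.conj g).toMonoidHom ≠ R := by
  intro g h
  apply hnc g⁻¹
  rw [← h]
  exact cj_cj_inv S g

theorem nc_cj {S R : Subgroup G} (hnc : ∀ g : G, R.map (MulAut.conj g).toMonoidHom ≠ S) (h : G) :
    ∀ g : G, (cj R h).map (MulAut.conj g).toMonoidHom ≠ S := by
  intro g
  have : (cj R h).map (MulAut.conj g).toMonoidHom = cj R (g * h) := cj_cj R h g
  rw [this]
  exact hnc _

/-- Non-conjugate maximal subgroups have disjoint `σ`-sets. -/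
theorem sigma_disj (hG : IsMinSimpleOddOrder G) {S R : Subgroup G} (hS : IsCoatom S) (hR : IsCoatom R)
    (hnc : ∀ g : G, R.map (MulAut.conj g).toMonoidHom ≠ S) {p : ℕ} (h1 : p ∈ sigma S) (h2 : p ∈ sigma R) : False := by
  obtain ⟨g, hg⟩ := (kf_of hG).thD R S hR hS ⟨p, h2, h1⟩
  exact hnc g hg.symm

/-- An element of `A₁(S)` in `A_σ(R)`. -/
theorem cent_of_core_of_A (hG : IsMinSimpleOddOrder G) {S R K U : Subgroup G} (hS : IsCoatom S) (hR : IsCoatom R)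
    (hnc : ∀ g : G, R.map (MulAut.conj g).toMonoidHom ≠ S) (hd : IsSigmaDecomposition R K U) {x : G}
    (hx : ∀ q : ℕ, q.Prime → q ∣ orderOf x → q ∈ sigma S) (hx1 : x ≠ 1) (hxA : x ∈ sigmaA R U) :
    ¬ centralizer ({x} : Set G) ≤ S ∧ centralizer ({x} : Set G) ≤ R := by
  have h := Cfsg.Agent.Lib.BGU0.unique_of_part (cx_of hG) hR hd hxA (n := 1) (by simpa using hx1) (by
    intro q hq hqd
    rw [pow_one] at hqd
    exact fun h2 => sigma_disj hG hS hR hnc (hx q hq hqd) h2)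
  rw [pow_one] at h
  refine ⟨fun h3 => ?_, h.1⟩
  have h4 := h.2 S hS h3
  apply hnc 1
  rw [h4]
  exact cj_one R

include T hRv in
/-- Elements of the support. -/
theorem supports_iff_aux {S R : Subgroup G} (hS : IsCoatom S) (hR : IsCoatom R) {x : G}
    (hx : x ∈ typeA0 S) (h1 : ¬ centralizer ({x} : Set G) ≤ S) (h2 : centralizer ({x} : Set G) ≤ R) :
    x ∈ typeA1 S ∧ x ∈ typeA R ∧ x ∉ typeA1 R := by
  have hG := T.hG
  obtain ⟨KS, US, hdS⟩ := exists_dec hG hS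
  rw [typeA0_eq T hS hdS (fun hI => K_ne_of_not_I T hRv hS hdS hI)] at hx
  have hxσ := mem_core_of_not_le hG hS hdS hx.1 h1
  obtain ⟨-, -, -, -, ⟨h3, h4⟩, -⟩ := s1391_core T hRv hS hdS hxσ hx.2 h1 hR h2
  refine ⟨?_, h3, h4⟩
  rw [typeA1_eq T hS]
  exact ⟨hxσ, hx.2⟩

include T hRv in
/-- The first part. -/
theorem part2 {S R : Subgroup G} (hS : IsCoatom S) (hR : IsCoatom R)
    (hnc : ∀ g : G, R.map (MulAut.conj g).toMonoidHom ≠ S) {x : G} (hx : x ∈ typeA1 S ∩ typeA R) :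
    ¬ centralizer ({x} : Set G) ≤ S ∧ centralizer ({x} : Set G) ≤ R := by
  have hG := T.hG
  obtain ⟨KR, UR, hdR⟩ := exists_dec hG hR
  obtain ⟨h1, h2⟩ := hx
  rw [typeA1_eq T hS] at h1
  rw [typeA_eq T hR hdR (fun hI => K_ne_of_not_I T hRv hR hdR hI)] at h2
  exact cent_of_core_of_A hG hS hR hnc hdR (fun q hq hqd => primes_of_mem_sigmaCore h1.1 hq hqd) h1.2 h2.1

include T hRv in
theorem part1 {S R : Subgroup G} (hS : IsCoatom S) (hR : IsCoatom R)
    (hnc : ∀ g : G, R.map (MulAut.conj g).toMonoidHom ≠ S) :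
    Supports R S ↔ (typeA1 S ∩ typeA R).Nonempty := by
  constructor
  · rintro ⟨-, x, hx, h1, h2⟩
    obtain ⟨h3, h4, -⟩ := supports_iff_aux T hRv hS hR hx h1 h2
    exact ⟨x, h3, h4⟩
  · rintro ⟨x, hx⟩
    obtain ⟨h1, h2⟩ := part2 T hRv hS hR hnc hx
    refine ⟨hR, x, ?_, h1, h2⟩
    obtain ⟨KS, US, hdS⟩ := exists_dec T.hG hS
    have h3 := hx.1
    rw [typeA1_eq T hS] at h3
    exact (three_sets T hS hdS (A := typeA0 S) (Or.inr (Or.inr rfl))).2.2 h3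

include T hRv in
/-- Elements of the support, conjugated. -/
theorem supports_cj_aux {S R : Subgroup G} (hS : IsCoatom S) (hR : IsCoatom R) {x g : G}
    (hx : x ∈ sigmaCore S) (hx1 : x ≠ 1) (h1 : ¬ centralizer ({x} : Set G) ≤ S)
    (h2 : centralizer ({x} : Set G) ≤ cj R g) :
    g⁻¹ * x * g ∈ sigmaCore (cj S g⁻¹) ∧ g⁻¹ * x * g ≠ 1 ∧ ¬ centralizer ({g⁻¹ * x * g} : Set G) ≤ cj S g⁻¹ ∧
      centralizer ({g⁻¹ * x * g} : Set G) ≤ R := by
  have hcent : centralizer ({g⁻¹ * x * g} : Set G) = cj (centralizer ({x} : Set G)) g⁻¹ := by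
    have := centralizer_cj_singleton x g⁻¹
    simpa using this
  refine ⟨?_, ?_, ?_, ?_⟩
  · rw [sigmaCore_cj]
    have := conj_mem_cj (K := sigmaCore S) (g := g⁻¹) hx
    simpa using this
  · intro h
    apply hx1
    have : x = g * (g⁻¹ * x * g) * g⁻¹ := by group
    rw [this, h]; group
  · rw [hcent]
    intro h
    apply h1
    have := cj_mono h g
    rwa [cj_inv_cj, cj_inv_cj] at this
  · rw [hcent]
    have := cj_mono h2 g⁻¹
    rwa [cj_cj_inv] at this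

include T hRv in
theorem part3_mp {S R : Subgroup G} (hS : IsCoatom S) (hR : IsCoatom R)
    (hnc : ∀ g : G, R.map (MulAut.conj g).toMonoidHom ≠ S) {g : G}
    (h : Supports (R.map (MulAut.conj g).toMonoidHom) S) :
    (tildeOf S (typeA1 S) ∩ tildeOf R (typeA R)).Nonempty := by
  have hG := T.hG
  obtain ⟨-, x, hx, h1, h2⟩ := h
  obtain ⟨KS, US, hdS⟩ := exists_dec hG hS
  obtain ⟨KR, UR, hdR⟩ := exists_dec hG hR
  rw [typeA0_eq T hS hdS (fun hI => K_ne_of_not_I T hRv hS hdS hI)] at hx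
  have hxσ := mem_core_of_not_le hG hS hdS hx.1 h1
  obtain ⟨h3, h4, h5, h6⟩ := supports_cj_aux T hRv hS hR hxσ hx.2 h1 h2
  obtain ⟨N, ⟨hN, hCN⟩, hUn, hNF, -, -, -, h7⟩ := main75 hG (kf_of hG) (Cfsg.Agent.Lib.BGUniq3.isCoatom_cj hS g⁻¹) h3 h4 h5
  obtain rfl : R = N := hUn R hR h6
  obtain ⟨-, h8, -⟩ := h7 KR UR hdR
  refine ⟨x, ⟨x, ?_, 1, Subgroup.one_mem _, 1, by simp⟩, ⟨g⁻¹ * x * g, ?_, 1, Subgroup.one_mem _, g, by group⟩⟩
  · rw [typeA1_eq T hS]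
    exact ⟨hxσ, hx.2⟩
  · rw [typeA_eq T hR hdR (fun hI => K_ne_of_not_I T hRv hR hdR hI)]
    exact ⟨h8, h4⟩


include T hRv in
theorem part3_mpr {S R : Subgroup G} (hS : IsCoatom S) (hR : IsCoatom R)
    (hnc : ∀ g : G, R.map (MulAut.conj g).toMonoidHom ≠ S)
    (h : (tildeOf S (typeA1 S) ∩ tildeOf R (typeA R)).Nonempty) :
    ∃ g : G, Supports (R.map (MulAut.conj g).toMonoidHom) S := by
  have hG := T.hG
  have I := inp_of hG
  obtain ⟨KS, US, hdS⟩ := exists_dec hG hS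
  obtain ⟨KR, UR, hdR⟩ := exists_dec hG hR
  obtain ⟨w, ⟨a, ha, r, hr, y, hw⟩, ⟨b, hb, s, hs, y', hw'⟩⟩ := h
  rw [typeA1_eq T hS] at ha
  rw [typeA_eq T hR hdR (fun hI => K_ne_of_not_I T hRv hR hdR hI)] at hb
  obtain ⟨ha1, ha2⟩ := ha
  have ha2 : a ≠ 1 := ha2
  have hb2 : b ≠ 1 := hb.2
  set h : G := y⁻¹ * y' with hh
  have heq : a * r = h * (b * s) * h⁻¹ := by
    have h1 : y * (a * r) * y⁻¹ = y' * (b * s) * y'⁻¹ := by rw [← hw, hw']
    rw [hh]
    have h2 : a * r = y⁻¹ * (y * (a * r) * y⁻¹) * y := by group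
    rw [h2, h1]; group
  have haσ : ∀ q : ℕ, q.Prime → q ∣ orderOf a → q ∈ sigma S := fun q hq hqd =>
    primes_of_mem_sigmaCore ha1 hq hqd
  by_cases hbσ : b ∈ sigmaCore R
  · exfalso
    have hb'σ : h * b * h⁻¹ ∈ sigmaCore (cj R h) := by
      rw [sigmaCore_cj]
      exact conj_mem_cj hbσ
    have hb'1 : h * b * h⁻¹ ≠ 1 := conj_ne_one hb2
    have hs' : h * s * h⁻¹ ∈ supportR (cj R h) (h * b * h⁻¹) := by
      rw [supportR_cj I hR hbσ hb2 h]
      exact conj_mem_cj hs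
    have hne : a ≠ h * b * h⁻¹ := by
      intro hab
      have h1 : orderOf a ≠ 1 := fun h => ha2 (orderOf_eq_one_iff.mp h)
      obtain ⟨q, hq, hqd⟩ := Nat.exists_prime_and_dvd h1
      have h2 : q ∈ sigma (cj R h) := by
        rw [hab] at hqd
        exact primes_of_mem_sigmaCore hb'σ hq hqd
      rw [sigma_cj_eq] at h2
      exact sigma_disj hG hS hR hnc (haσ q hq hqd) h2
    apply cosets_disjoint hG (kf_of hG) hS (Cfsg.Agent.Lib.BGUniq3.isCoatom_cj hR h) ha1 hb'σ ha2 hb'1 hne r hr _ hs'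
    rw [heq]
    group
  · have hCb : centralizer ({b} : Set G) ≤ R := cent_le_of_sigmaA hG hR hdR hb.1 hbσ
    rw [supportR_of_le hCb, Subgroup.mem_bot] at hs
    subst hs
    rw [mul_one] at heq
    obtain ⟨hcomm, hcop⟩ := supportR_coprime I hS ha1 ha2 hr
    have hz : a ∈ zpowers (a * r) := mem_zpowers_mul_left hcomm hcop
    obtain ⟨n, hn⟩ := hz
    have hn' : (a * r) ^ n = a := hn
    set a' : G := h⁻¹ * a * h with ha'
    have ha'e : a' = b ^ n := by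
      rw [ha', ← hn', heq]
      have : (h * b * h⁻¹) ^ n = h * b ^ n * h⁻¹ := by
        rw [show h * b * h⁻¹ = MulAut.conj h b from rfl, ← map_zpow]
        rfl
      rw [this]; group
    have ha'1 : a' ≠ 1 := by
      rw [ha']
      intro h2
      apply ha2
      have : a = h * (h⁻¹ * a * h) * h⁻¹ := by group
      rw [this, h2]; group
    have ha'A : a' ∈ sigmaA R UR := by
      obtain ⟨⟨hbR, z, hz, hz1, hbz⟩, hbU⟩ := hb.1
      rw [ha'e]
      refine ⟨⟨R.zpow_mem hbR n, z, hz, hz1, ?_⟩, Subgroup.zpow_mem _ hbU n⟩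
      exact ((show Commute b z from hbz).zpow_left n)
    have ha'σ : ∀ q : ℕ, q.Prime → q ∣ orderOf a' → q ∈ sigma S := by
      intro q hq hqd
      rw [ha', show h⁻¹ * a * h = h⁻¹ * a * h⁻¹⁻¹ by group, orderOf_conj'] at hqd
      exact haσ q hq hqd
    have hR' := Cfsg.Agent.Lib.BGU0.unique_of_part (cx_of hG) hR hdR ha'A (n := 1) (by simpa using ha'1) (by
      intro q hq hqd
      rw [pow_one] at hqd
      exact fun h2 => sigma_disj hG hS hR hnc (ha'σ q hq hqd) h2)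
    rw [pow_one] at hR'
    have hcent : centralizer ({a} : Set G) = cj (centralizer ({a'} : Set G)) h := by
      have := centralizer_cj_singleton a' h
      rw [← this, ha']
      congr 2
      group
    refine ⟨h, Cfsg.Agent.Lib.BGUniq3.isCoatom_cj hR h, a, ?_, ?_, ?_⟩
    · exact (three_sets T hS hdS (A := typeA0 S) (Or.inr (Or.inr rfl))).2.2 ⟨ha1, ha2⟩
    · intro h3
      apply hnc h
      have h4 : centralizer ({a'} : Set G) ≤ cj S h⁻¹ := by
        have := cj_mono h3 h⁻¹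
        rwa [hcent, cj_cj_inv] at this
      have h5 := hR'.2 _ (Cfsg.Agent.Lib.BGUniq3.isCoatom_cj hS h⁻¹) h4
      rw [← h5]
      exact cj_inv_cj S h
    · rw [hcent]
      exact cj_mono hR'.1 h

/-- A prime in `σ(N)` divides the order of `N_σ`. -/
theorem dvd_sigmaCore (hG : IsMinSimpleOddOrder G) {N : Subgroup G} (hN : IsCoatom N) {q : ℕ} (hq : q ∈ sigma N) :
    q ∣ Nat.card (sigmaCore N) := by
  have hp := (sigma_hall hG hN).1
  have h1 : Nat.card (sigmaCore N) * (sigmaCore N).relIndex N = Nat.card N := by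
    have h3 : Nat.card ((sigmaCore N).subgroupOf N) * ((sigmaCore N).subgroupOf N).index = Nat.card N :=
      Subgroup.card_mul_index _
    rw [card_subgroupOf_of_le sigmaCore_le] at h3
    exact h3
  have h2 : q ∣ Nat.card N := hq.2.1
  rw [← h1] at h2
  rcases (Nat.Prime.dvd_mul hq.1).mp h2 with h3 | h3
  · exact h3
  · exact (hp.2.2 q hq.1 hq h3).elim

include T hRv in
/-- Two conjugates cannot support each other. -/
theorem part4 {S R : Subgroup G} (hS : IsCoatom S) (hR : IsCoatom R)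
    (hnc : ∀ g : G, R.map (MulAut.conj g).toMonoidHom ≠ S) {g h : G}
    (h1 : Supports (R.map (MulAut.conj g).toMonoidHom) S) (h2 : Supports (S.map (MulAut.conj h).toMonoidHom) R) :
    False := by
  have hG := T.hG
  obtain ⟨KS, US, hdS⟩ := exists_dec hG hS
  obtain ⟨KR, UR, hdR⟩ := exists_dec hG hR
  obtain ⟨hT₁, x, hx, hx1, hx2⟩ := h1
  obtain ⟨-, z, hz, hz1, hz2⟩ := h2
  rw [typeA0_eq T hS hdS (fun hI => K_ne_of_not_I T hRv hS hdS hI)] at hx
  rw [typeA0_eq T hR hdR (fun hI => K_ne_of_not_I T hRv hR hdR hI)] at hz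
  have hxσ := mem_core_of_not_le hG hS hdS hx.1 hx1
  have hzσ := mem_core_of_not_le hG hR hdR hz.1 hz1
  -- the coprimality clause for `T₁ = R^g`
  obtain ⟨-, -, -, hcop, -⟩ := s1391_core T hRv hS hdS hxσ hx.2 hx1 hT₁ hx2
  obtain ⟨N₁, ⟨hN₁, hCN₁⟩, hUn₁, hNF₁, -⟩ := main75 hG (kf_of hG) hS hxσ hx.2 hx1
  obtain rfl : R.map (MulAut.conj g).toMonoidHom = N₁ := hUn₁ _ hT₁ hx2
  -- the element `z₁`
  obtain ⟨h3, h4, h5, h6⟩ := supports_cj_aux T hRv hR hS hzσ hz.2 hz1 hz2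
  obtain ⟨N, ⟨hN, hCN⟩, hUn, hNF, -, -, -, h7⟩ := main75 hG (kf_of hG) (Cfsg.Agent.Lib.BGUniq3.isCoatom_cj hR h⁻¹) h3 h4 h5
  obtain rfl : S = N := hUn S hS h6
  obtain ⟨-, h8, -⟩ := h7 KS US hdS
  have hA0 : h⁻¹ * z * h ∈ sigmaA0 S KS \ {1} := ⟨sigmaA_subset_A0 hS hdS h8, h4⟩
  have hcop2 := hcop _ hA0
  have hne : orderOf (h⁻¹ * z * h) ≠ 1 := fun h9 => h4 (orderOf_eq_one_iff.mp h9)
  obtain ⟨q, hq, hqd⟩ := Nat.exists_prime_and_dvd hne
  have hqR : q ∈ sigma R := by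
    apply primes_of_mem_sigmaCore hzσ hq
    rw [show h⁻¹ * z * h = h⁻¹ * z * h⁻¹⁻¹ by group, orderOf_conj'] at hqd
    exact hqd
  have h10 : q ∣ Nat.card (fittingHallOf (R.map (MulAut.conj g).toMonoidHom)) := by
    rw [← hNF₁]
    apply dvd_sigmaCore hG hT₁
    show q ∈ sigma (cj R g)
    rw [sigma_cj_eq]
    exact hqR
  have h11 : q ∣ Nat.card ↥(S ⊓ centralizer ({h⁻¹ * z * h} : Set G)) := by
    have hmem : h⁻¹ * z * h ∈ S ⊓ centralizer ({h⁻¹ * z * h} : Set G) :=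
      Subgroup.mem_inf.mpr ⟨h8.1.1, by rw [Subgroup.mem_centralizer_singleton_iff]⟩
    have := orderOf_dvd_natCard (⟨_, hmem⟩ : ↥(S ⊓ centralizer ({h⁻¹ * z * h} : Set G)))
    rw [Subgroup.orderOf_mk] at this
    exact hqd.trans this
  have := Nat.dvd_gcd h10 h11
  rw [hcop2.gcd_eq_one] at this
  exact hq.one_lt.ne' (Nat.dvd_one.mp this)

include T hRv in
/-- `S1539`. -/
theorem s1539 (S R : Subgroup G) (hS : IsCoatom S) (hR : IsCoatom R)
    (hnc : ∀ g : G, R.map (MulAut.conj g).toMonoidHom ≠ S) :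
    (Supports R S ↔ (typeA1 S ∩ typeA R).Nonempty) ∧
      (∀ x ∈ typeA1 S ∩ typeA R, ¬ centralizer ({x} : Set G) ≤ S ∧ centralizer ({x} : Set G) ≤ R) ∧
      ((∃ g : G, Supports (R.map (MulAut.conj g).toMonoidHom) S) ↔
        (tildeOf S (typeA1 S) ∩ tildeOf R (typeA R)).Nonempty) ∧
      (tildeOf S (typeA1 S) ∩ tildeOf R (typeA R) = ∅ ∨ tildeOf R (typeA1 R) ∩ tildeOf S (typeA S) = ∅) := by
  refine ⟨part1 T hRv hS hR hnc, fun x hx => part2 T hRv hS hR hnc hx, ⟨?_, part3_mpr T hRv hS hR hnc⟩, ?_⟩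
  · rintro ⟨g, hg⟩
    exact part3_mp T hRv hS hR hnc hg
  · by_contra hcon
    push_neg at hcon
    obtain ⟨h1, h2⟩ := hcon
    obtain ⟨g, hg⟩ := part3_mpr T hRv hS hR hnc h1
    obtain ⟨h, hh⟩ := part3_mpr T hRv hR hS (nc_symm hnc) h2
    exact part4 T hRv hS hR hnc hg hh

end Cfsg.Agent.Lib.BGTy7
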