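import Mathlib
import Cfsg.Prelude.Def_OddOrderChar
import Cfsg.Agent.Lib.CharBasic
import Cfsg.Agent.Lib.GenChar

/-!
# Integer spans and isometries on them

Closure lemmas for `Cfsg.zspan`, `Cfsg.zspanOn`, and the consequences of `Cfsg.IsLinearIsometryOn`.
-/

set_option autoImplicit false

namespace Cfsg.Agent.Lib.CoherenceBasic

open Cfsg Cfsg.Agent.Lib.CharBasic Cfsg.Agent.Lib.GenChar
open scoped ComplexConjugate

section zspan

variable {X : Type*}

theorem mem_zspan {S : Set (X → ℂ)} {χ : X → ℂ} (h : χ ∈ S) : χ ∈ zspan S :=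
  Submodule.subset_span h

theorem zspan_zero (S : Set (X → ℂ)) : (0 : X → ℂ) ∈ zspan S := Submodule.zero_mem _

theorem zspan_add {S : Set (X → ℂ)} {a b : X → ℂ} (ha : a ∈ zspan S) (hb : b ∈ zspan S) :
    a + b ∈ zspan S := Submodule.add_mem _ ha hb

theorem zspan_sub {S : Set (X → ℂ)} {a b : X → ℂ} (ha : a ∈ zspan S) (hb : b ∈ zspan S) :
    a - b ∈ zspan S := Submodule.sub_mem _ ha hb

theorem zspan_neg {S : Set (X → ℂ)} {a : X → ℂ} (ha : a ∈ zspan S) : -a ∈ zspan S :=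
  Submodule.neg_mem _ ha

theorem zspan_zsmul {S : Set (X → ℂ)} {a : X → ℂ} (ha : a ∈ zspan S) (n : ℤ) :
    n • a ∈ zspan S := Submodule.smul_mem _ n ha

theorem zspan_nsmul {S : Set (X → ℂ)} {a : X → ℂ} (ha : a ∈ zspan S) (n : ℕ) :
    n • a ∈ zspan S := by
  have := zspan_zsmul ha (n : ℤ)
  simpa using this

theorem zspan_sum {S : Set (X → ℂ)} {ι : Type*} (s : Finset ι) (f : ι → X → ℂ)
    (h : ∀ i ∈ s, f i ∈ zspan S) : ∑ i ∈ s, f i ∈ zspan S :=
  Submodule.sum_mem _ h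

theorem zspan_mono {S T : Set (X → ℂ)} (h : S ⊆ T) : zspan S ⊆ zspan T :=
  Submodule.span_mono h

theorem zspanOn_add {S : Set (X → ℂ)} {A : Set X} {a b : X → ℂ} (ha : a ∈ zspanOn S A)
    (hb : b ∈ zspanOn S A) : a + b ∈ zspanOn S A :=
  ⟨zspan_add ha.1 hb.1, fun x hx => by simp [ha.2 x hx, hb.2 x hx]⟩

theorem zspanOn_sub {S : Set (X → ℂ)} {A : Set X} {a b : X → ℂ} (ha : a ∈ zspanOn S A)
    (hb : b ∈ zspanOn S A) : a - b ∈ zspanOn S A :=
  ⟨zspan_sub ha.1 hb.1, fun x hx => by simp [ha.2 x hx, hb.2 x hx]⟩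

theorem zspanOn_neg {S : Set (X → ℂ)} {A : Set X} {a : X → ℂ} (ha : a ∈ zspanOn S A) :
    -a ∈ zspanOn S A :=
  ⟨zspan_neg ha.1, fun x hx => by simp [ha.2 x hx]⟩

theorem zspanOn_zsmul {S : Set (X → ℂ)} {A : Set X} {a : X → ℂ} (ha : a ∈ zspanOn S A) (n : ℤ) :
    n • a ∈ zspanOn S A :=
  ⟨zspan_zsmul ha.1 n, fun x hx => by simp [ha.2 x hx]⟩

theorem zspanOn_zero (S : Set (X → ℂ)) (A : Set X) : (0 : X → ℂ) ∈ zspanOn S A :=
  ⟨zspan_zero S, fun _ _ => rfl⟩

theorem zspanOn_sum {S : Set (X → ℂ)} {A : Set X} {ι : Type*} (s : Finset ι) (f : ι → X → ℂ)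
    (h : ∀ i ∈ s, f i ∈ zspanOn S A) : ∑ i ∈ s, f i ∈ zspanOn S A := by
  classical
  induction s using Finset.induction_on with
  | empty => simpa using zspanOn_zero S A
  | insert a s ha ih =>
    rw [Finset.sum_insert ha]
    exact zspanOn_add (h a (Finset.mem_insert_self _ _))
      (ih fun i hi => h i (Finset.mem_insert_of_mem hi))

theorem zspanOn_mono {S T : Set (X → ℂ)} {A : Set X} (h : S ⊆ T) : zspanOn S A ⊆ zspanOn T A :=
  fun _ ha => ⟨zspan_mono h ha.1, ha.2⟩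

/-- Subset `{1}ᶜ`: vanishing off it means vanishing at `1`. -/
theorem mem_zspanOn_compl_one [One X] {S : Set (X → ℂ)} {a : X → ℂ} :
    a ∈ zspanOn S ({1}ᶜ : Set X) ↔ a ∈ zspan S ∧ a 1 = 0 := by
  constructor
  · rintro ⟨h1, h2⟩
    exact ⟨h1, h2 1 (by simp)⟩
  · rintro ⟨h1, h2⟩
    refine ⟨h1, fun x hx => ?_⟩
    have : x = 1 := by simpa using hx
    rw [this, h2]

end zspan

section iso

variable {L : Type*} [Group L] [Fintype L] {G : Type*} [Group G] [Fintype G]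
  {E : Set (L → ℂ)} {τ : (L → ℂ) → (G → ℂ)}

theorem iso_add (h : IsLinearIsometryOn E τ) {a b : L → ℂ} (ha : a ∈ E) (hb : b ∈ E) :
    τ (a + b) = τ a + τ b := h.1 a ha b hb

theorem iso_zsmul (h : IsLinearIsometryOn E τ) {a : L → ℂ} (ha : a ∈ E) (n : ℤ) :
    τ (n • a) = n • τ a := h.2.1 a ha n

theorem iso_nsmul (h : IsLinearIsometryOn E τ) {a : L → ℂ} (ha : a ∈ E) (n : ℕ) :
    τ (n • a) = n • τ a := by
  have := h.2.1 a ha (n : ℤ)
  simpa using this

theorem iso_inner (h : IsLinearIsometryOn E τ) {a b : L → ℂ} (ha : a ∈ E) (hb : b ∈ E) :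
    classInner (τ a) (τ b) = classInner a b := h.2.2.1 a ha b hb

theorem iso_gen (h : IsLinearIsometryOn E τ) {a : L → ℂ} (ha : a ∈ E) :
    IsGeneralizedCharacter G (τ a) := h.2.2.2 a ha

theorem iso_neg (h : IsLinearIsometryOn E τ) {a : L → ℂ} (ha : a ∈ E) :
    τ (-a) = -τ a := by
  have := h.2.1 a ha (-1)
  simpa using this

theorem iso_zero (h : IsLinearIsometryOn E τ) {a : L → ℂ} (ha : a ∈ E) :
    τ 0 = 0 := by
  have := h.2.1 a ha 0
  simpa using this

theorem iso_sub (h : IsLinearIsometryOn E τ) {a b : L → ℂ} (ha : a ∈ E) (hb : b ∈ E)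
    (hnb : -b ∈ E) : τ (a - b) = τ a - τ b := by
  rw [sub_eq_add_neg, h.1 a ha _ hnb, iso_neg h hb, sub_eq_add_neg]

theorem iso_sub_zspan {S : Set (L → ℂ)} (h : IsLinearIsometryOn (zspan S) τ) {a b : L → ℂ}
    (ha : a ∈ zspan S) (hb : b ∈ zspan S) : τ (a - b) = τ a - τ b :=
  iso_sub h ha hb (zspan_neg hb)

theorem iso_sub_zspanOn {S : Set (L → ℂ)} {A : Set L} (h : IsLinearIsometryOn (zspanOn S A) τ)
    {a b : L → ℂ} (ha : a ∈ zspanOn S A) (hb : b ∈ zspanOn S A) : τ (a - b) = τ a - τ b :=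
  iso_sub h ha hb (zspanOn_neg hb)

theorem iso_sum_zspan {S : Set (L → ℂ)} (h : IsLinearIsometryOn (zspan S) τ) {ι : Type*}
    (s : Finset ι) (f : ι → L → ℂ) (hf : ∀ i ∈ s, f i ∈ zspan S) :
    τ (∑ i ∈ s, f i) = ∑ i ∈ s, τ (f i) := by
  classical
  induction s using Finset.induction_on with
  | empty =>
    simpa using iso_zero h (zspan_zero S)
  | insert a s ha ih =>
    rw [Finset.sum_insert ha, Finset.sum_insert ha,
      iso_add h (hf a (Finset.mem_insert_self _ _))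
        (zspan_sum s f fun i hi => hf i (Finset.mem_insert_of_mem hi)),
      ih fun i hi => hf i (Finset.mem_insert_of_mem hi)]

theorem iso_sum_zspanOn {S : Set (L → ℂ)} {A : Set L} (h : IsLinearIsometryOn (zspanOn S A) τ)
    {ι : Type*} (s : Finset ι) (f : ι → L → ℂ) (hf : ∀ i ∈ s, f i ∈ zspanOn S A) :
    τ (∑ i ∈ s, f i) = ∑ i ∈ s, τ (f i) := by
  classical
  induction s using Finset.induction_on with
  | empty =>
    simpa using iso_zero h (zspanOn_zero S A)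
  | insert a s ha ih =>
    rw [Finset.sum_insert ha, Finset.sum_insert ha,
      iso_add h (hf a (Finset.mem_insert_self _ _))
        (zspanOn_sum s f fun i hi => hf i (Finset.mem_insert_of_mem hi)),
      ih fun i hi => hf i (Finset.mem_insert_of_mem hi)]

/-- Restriction of an isometry to a smaller domain. -/
theorem iso_mono {E' : Set (L → ℂ)} (h : IsLinearIsometryOn E τ) (hE : E' ⊆ E) :
    IsLinearIsometryOn E' τ :=
  ⟨fun a ha b hb => h.1 a (hE ha) b (hE hb), fun a ha n => h.2.1 a (hE ha) n,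
    fun a ha b hb => h.2.2.1 a (hE ha) b (hE hb), fun a ha => h.2.2.2 a (hE ha)⟩

/-- On a norm-one element the image is an irreducible character up to sign. -/
theorem iso_irr (h : IsLinearIsometryOn E τ) {a : L → ℂ} (ha : a ∈ E) (hn : classInner a a = 1) :
    IsIrrCharacter G (τ a) ∨ IsIrrCharacter G (-τ a) :=
  gen_norm_one (iso_gen h ha) (by rw [iso_inner h ha ha, hn])

end iso

end Cfsg.Agent.Lib.CoherenceBasic
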