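import Mathlib
import Cfsg.Agent.Lib.CoherenceBasic

/-!
# Extending isometries on integer spans

Adding one irreducible character to the domain of an isometry; gluing two isometries on orthogonal
integer spans; orthogonality of spans.
-/

set_option autoImplicit false
set_option linter.unusedSectionVars false
set_option linter.unusedVariables false

namespace Cfsg.Agent.Lib.CoherenceExt

open Cfsg Cfsg.Agent.Lib.CharBasic Cfsg.Agent.Lib.GenChar Cfsg.Agent.Lib.CoherenceBasic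
open scoped ComplexConjugate

variable {L : Type*} [Group L] [Fintype L] {G : Type*} [Group G] [Fintype G]

theorem zsmul_apply {X : Type*} (n : ℤ) (f : X → ℂ) (x : X) : (n • f) x = (n : ℂ) * f x := by
  simp

/-- Orthogonality extends to the integer spans on the right. -/
theorem inner_zspan_right {X : Set (L → ℂ)} {a : L → ℂ} (h : ∀ x ∈ X, classInner a x = 0)
    {b : L → ℂ} (hb : b ∈ zspan X) : classInner a b = 0 := by
  unfold zspan at hb
  induction hb using Submodule.span_induction with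
  | mem x hx => exact h x hx
  | zero => exact classInner_zero_right a
  | add x y _ _ hx hy => rw [classInner_add_right, hx, hy, add_zero]
  | smul n x _ hx => rw [classInner_zsmul_right, hx, mul_zero]

/-- Orthogonality extends to the integer spans on the left. -/
theorem inner_zspan_left {X : Set (L → ℂ)} {b : L → ℂ} (h : ∀ x ∈ X, classInner x b = 0)
    {a : L → ℂ} (ha : a ∈ zspan X) : classInner a b = 0 := by
  unfold zspan at ha
  induction ha using Submodule.span_induction with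
  | mem x hx => exact h x hx
  | zero => exact classInner_zero_left b
  | add x y _ _ hx hy => rw [classInner_add_left, hx, hy, add_zero]
  | smul n x _ hx => rw [classInner_zsmul_left, hx, mul_zero]

theorem inner_zspan_zspan {X Y : Set (L → ℂ)} (h : ∀ x ∈ X, ∀ y ∈ Y, classInner x y = 0)
    {a b : L → ℂ} (ha : a ∈ zspan X) (hb : b ∈ zspan Y) : classInner a b = 0 :=
  inner_zspan_left (fun x hx => inner_zspan_right (h x hx) hb) ha

/-- Orthogonality to the image of a span. -/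
theorem inner_image_right {S : Set (L → ℂ)} {τ : (L → ℂ) → (G → ℂ)}
    (hτ : IsLinearIsometryOn (zspan S) τ) {Δ : G → ℂ} (h : ∀ x ∈ S, classInner Δ (τ x) = 0)
    {b : L → ℂ} (hb : b ∈ zspan S) : classInner Δ (τ b) = 0 := by
  unfold zspan at hb
  induction hb using Submodule.span_induction with
  | mem x hx => exact h x hx
  | zero =>
    rw [iso_zero hτ (zspan_zero S)]
    exact classInner_zero_right Δ
  | add x y hx' hy' hx hy =>
    rw [iso_add hτ hx' hy', classInner_add_right, hx, hy, add_zero]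
  | smul n x hx' hx => rw [iso_zsmul hτ hx', classInner_zsmul_right, hx, mul_zero]

/-- Decomposition of an element of the span of `insert χ S`. -/
theorem exists_insert_decomp {S : Set (L → ℂ)} {χ f : L → ℂ} (hf : f ∈ zspan (insert χ S)) :
    ∃ f₀ ∈ zspan S, ∃ n : ℤ, f = f₀ + n • χ := by
  unfold zspan at hf
  have h : f ∈ Submodule.span ℤ (insert χ S) := hf
  rw [Submodule.mem_span_insert] at h
  obtain ⟨a, z, hz, rfl⟩ := h
  exact ⟨z, hz, a, add_comm _ _⟩

/-- Adding one irreducible character to the domain of an isometry. -/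
theorem extend_one {S : Set (L → ℂ)} (hS : ∀ ξ ∈ S, IsIrrCharacter L ξ) {χ : L → ℂ}
    (hχ : IsIrrCharacter L χ) (hχS : χ ∉ S) {τ₀ : (L → ℂ) → (G → ℂ)}
    (hτ₀ : IsLinearIsometryOn (zspan S) τ₀) {Δ : G → ℂ} (hΔ : IsGeneralizedCharacter G Δ)
    (hnorm : classInner Δ Δ = 1) (horth : ∀ ξ ∈ S, classInner Δ (τ₀ ξ) = 0) :
    ∃ τ₁ : (L → ℂ) → (G → ℂ), IsLinearIsometryOn (zspan (insert χ S)) τ₁ ∧
      ∀ f₀ ∈ zspan S, ∀ n : ℤ, τ₁ (f₀ + n • χ) = τ₀ f₀ + n • Δ := by
  classical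
  have horthχ : ∀ f₀ ∈ zspan S, classInner f₀ χ = 0 := fun f₀ hf₀ =>
    inner_zspan_left (fun ξ hξ => classInner_irr_ne (hS ξ hξ) hχ (fun h => hχS (h ▸ hξ))) hf₀
  have hχχ := classInner_irr_self hχ
  have hinnerχ : ∀ f₀ ∈ zspan S, ∀ n : ℤ, classInner (f₀ + n • χ) χ = n := by
    intro f₀ hf₀ n
    rw [classInner_add_left, horthχ f₀ hf₀, classInner_zsmul_left, hχχ]
    simp
  let τ₁ : (L → ℂ) → (G → ℂ) := fun f => τ₀ (f - classInner f χ • χ) + classInner f χ • Δ
  have hval : ∀ f₀ ∈ zspan S, ∀ n : ℤ, τ₁ (f₀ + n • χ) = τ₀ f₀ + n • Δ := by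
    intro f₀ hf₀ n
    show τ₀ (f₀ + n • χ - classInner (f₀ + n • χ) χ • χ) + classInner (f₀ + n • χ) χ • Δ = _
    rw [hinnerχ f₀ hf₀ n]
    have e1 : ((n : ℂ)) • χ = n • χ := Int.cast_smul_eq_zsmul ℂ n χ
    have e2 : ((n : ℂ)) • Δ = n • Δ := Int.cast_smul_eq_zsmul ℂ n Δ
    rw [e1, e2, add_sub_cancel_right]
  refine ⟨τ₁, ⟨?_, ?_, ?_, ?_⟩, hval⟩
  · intro a ha b hb
    obtain ⟨a₀, ha₀, n, rfl⟩ := exists_insert_decomp ha
    obtain ⟨b₀, hb₀, m, rfl⟩ := exists_insert_decomp hb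
    have e : a₀ + n • χ + (b₀ + m • χ) = (a₀ + b₀) + (n + m) • χ := by
      rw [add_smul]; abel
    rw [e, hval _ (zspan_add ha₀ hb₀), hval _ ha₀, hval _ hb₀, iso_add hτ₀ ha₀ hb₀, add_smul]
    abel
  · intro a ha k
    obtain ⟨a₀, ha₀, n, rfl⟩ := exists_insert_decomp ha
    have e : k • (a₀ + n • χ) = k • a₀ + (k * n) • χ := by
      rw [smul_add, mul_smul]
    rw [e, hval _ (zspan_zsmul ha₀ k), hval _ ha₀, iso_zsmul hτ₀ ha₀, smul_add, mul_smul]
  · intro a ha b hb
    obtain ⟨a₀, ha₀, n, rfl⟩ := exists_insert_decomp ha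
    obtain ⟨b₀, hb₀, m, rfl⟩ := exists_insert_decomp hb
    have h1 : ∀ c₀ ∈ zspan S, classInner (τ₀ c₀) Δ = 0 := fun c₀ hc₀ => by
      rw [← classInner_conj_symm, inner_image_right hτ₀ horth hc₀, map_zero]
    have h2 : ∀ c₀ ∈ zspan S, classInner χ c₀ = 0 := fun c₀ hc₀ => by
      rw [← classInner_conj_symm, horthχ c₀ hc₀, map_zero]
    rw [hval _ ha₀, hval _ hb₀]
    simp only [classInner_add_left, classInner_add_right, classInner_zsmul_left,
      classInner_zsmul_right]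
    rw [iso_inner hτ₀ ha₀ hb₀, h1 a₀ ha₀, inner_image_right hτ₀ horth hb₀, hnorm, horthχ a₀ ha₀,
      h2 b₀ hb₀, hχχ]
  · intro a ha
    obtain ⟨a₀, ha₀, n, rfl⟩ := exists_insert_decomp ha
    rw [hval _ ha₀]
    exact isGen_add (iso_gen hτ₀ ha₀) (isGen_zsmul hΔ n)

/-- Decomposition of an element of the span of a union. -/
theorem exists_union_decomp {X Y : Set (L → ℂ)} {f : L → ℂ} (hf : f ∈ zspan (X ∪ Y)) :
    ∃ a ∈ zspan X, ∃ b ∈ zspan Y, f = a + b := by
  unfold zspan at hf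
  have h : f ∈ Submodule.span ℤ (X ∪ Y) := hf
  rw [Submodule.span_union, Submodule.mem_sup] at h
  obtain ⟨a, ha, b, hb, rfl⟩ := h
  exact ⟨a, ha, b, hb, rfl⟩

/-- Gluing two isometries with orthogonal images on orthogonal spans. -/
theorem glue {X Y : Set (L → ℂ)} (hXY : ∀ x ∈ X, ∀ y ∈ Y, classInner x y = 0)
    {σ τ : (L → ℂ) → (G → ℂ)} (hσ : IsLinearIsometryOn (zspan X) σ)
    (hτ : IsLinearIsometryOn (zspan Y) τ) (hστ : ∀ x ∈ X, ∀ y ∈ Y, classInner (σ x) (τ y) = 0) :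
    ∃ τ₁ : (L → ℂ) → (G → ℂ), IsLinearIsometryOn (zspan (X ∪ Y)) τ₁ ∧
      ∀ a ∈ zspan X, ∀ b ∈ zspan Y, τ₁ (a + b) = σ a + τ b := by
  classical
  have huniq : ∀ a ∈ zspan X, ∀ b ∈ zspan Y, ∀ a' ∈ zspan X, ∀ b' ∈ zspan Y, a + b = a' + b' →
      a = a' ∧ b = b' := by
    intro a ha b hb a' ha' b' hb' h
    have h1 : a - a' = b' - b := by
      have : a - a' + (b - b') = 0 := by
        rw [sub_add_sub_comm, h, sub_self]
      rw [← sub_eq_zero, ← this]
      abel
    have h2 : classInner (a - a') (a - a') = 0 := by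
      nth_rw 2 [h1]
      exact inner_zspan_zspan hXY (zspan_sub ha ha') (zspan_sub hb' hb)
    have h3 : a - a' = 0 := classInner_self_eq_zero h2
    have h4 : a = a' := sub_eq_zero.mp h3
    subst h4
    exact ⟨rfl, add_left_cancel h⟩
  let τ₁ : (L → ℂ) → (G → ℂ) := fun f =>
    if h : ∃ p : (L → ℂ) × (L → ℂ), p.1 ∈ zspan X ∧ p.2 ∈ zspan Y ∧ f = p.1 + p.2 then
      σ (Classical.choose h).1 + τ (Classical.choose h).2 else 0
  have hval : ∀ a ∈ zspan X, ∀ b ∈ zspan Y, τ₁ (a + b) = σ a + τ b := by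
    intro a ha b hb
    have hex : ∃ p : (L → ℂ) × (L → ℂ), p.1 ∈ zspan X ∧ p.2 ∈ zspan Y ∧ a + b = p.1 + p.2 :=
      ⟨(a, b), ha, hb, rfl⟩
    show (if h : ∃ p : (L → ℂ) × (L → ℂ), p.1 ∈ zspan X ∧ p.2 ∈ zspan Y ∧ a + b = p.1 + p.2 then
      σ (Classical.choose h).1 + τ (Classical.choose h).2 else 0) = _
    rw [dif_pos hex]
    obtain ⟨h1, h2, h3⟩ := Classical.choose_spec hex
    obtain ⟨e1, e2⟩ := huniq a ha b hb _ h1 _ h2 h3
    rw [← e1, ← e2]
  have hcross : ∀ a ∈ zspan X, ∀ b ∈ zspan Y, classInner (σ a) (τ b) = 0 := by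
    intro a ha b hb
    refine inner_image_right hτ (fun y hy => ?_) hb
    have h1 : ∀ x ∈ X, classInner (τ y) (σ x) = 0 := fun x hx => by
      rw [← classInner_conj_symm, hστ x hx y hy, map_zero]
    rw [← classInner_conj_symm, inner_image_right hσ h1 ha, map_zero]
  have hcross' : ∀ a ∈ zspan X, ∀ b ∈ zspan Y, classInner (τ b) (σ a) = 0 := fun a ha b hb => by
    rw [← classInner_conj_symm, hcross a ha b hb, map_zero]
  have hXY' : ∀ a ∈ zspan X, ∀ b ∈ zspan Y, classInner b a = 0 := fun a ha b hb => by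
    rw [← classInner_conj_symm, inner_zspan_zspan hXY ha hb, map_zero]
  refine ⟨τ₁, ⟨?_, ?_, ?_, ?_⟩, hval⟩
  · intro f hf g hg
    obtain ⟨a, ha, b, hb, rfl⟩ := exists_union_decomp hf
    obtain ⟨a', ha', b', hb', rfl⟩ := exists_union_decomp hg
    have e : a + b + (a' + b') = (a + a') + (b + b') := by abel
    rw [e, hval _ (zspan_add ha ha') _ (zspan_add hb hb'), hval _ ha _ hb, hval _ ha' _ hb',
      iso_add hσ ha ha', iso_add hτ hb hb']
    abel
  · intro f hf k
    obtain ⟨a, ha, b, hb, rfl⟩ := exists_union_decomp hf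
    rw [smul_add, hval _ (zspan_zsmul ha k) _ (zspan_zsmul hb k), hval _ ha _ hb,
      iso_zsmul hσ ha, iso_zsmul hτ hb, smul_add]
  · intro f hf g hg
    obtain ⟨a, ha, b, hb, rfl⟩ := exists_union_decomp hf
    obtain ⟨a', ha', b', hb', rfl⟩ := exists_union_decomp hg
    rw [hval _ ha _ hb, hval _ ha' _ hb']
    simp only [classInner_add_left, classInner_add_right]
    rw [iso_inner hσ ha ha', hcross a ha b' hb', hcross' a' ha' b hb, iso_inner hτ hb hb',
      inner_zspan_zspan hXY ha hb', hXY' a' ha' b hb]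
  · intro f hf
    obtain ⟨a, ha, b, hb, rfl⟩ := exists_union_decomp hf
    rw [hval _ ha _ hb]
    exact isGen_add (iso_gen hσ ha) (iso_gen hτ hb)

/-- An element of the span of characters has an integer value at `1`. -/
theorem zspan_one_int {X : Set (L → ℂ)} (hX : ∀ x ∈ X, IsCharacter L x) {a : L → ℂ}
    (ha : a ∈ zspan X) : ∃ n : ℤ, a 1 = n := by
  unfold zspan at ha
  induction ha using Submodule.span_induction with
  | mem x hx =>
    obtain ⟨d, hd⟩ := isCharacter_one_eq (hX x hx)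
    exact ⟨d, by simp [hd]⟩
  | zero => exact ⟨0, by simp⟩
  | add x y _ _ hx hy =>
    obtain ⟨m, hm⟩ := hx
    obtain ⟨n, hn⟩ := hy
    exact ⟨m + n, by simp [hm, hn]⟩
  | smul k x _ hx =>
    obtain ⟨m, hm⟩ := hx
    exact ⟨k * m, by simp [hm]⟩

end Cfsg.Agent.Lib.CoherenceExt
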