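import Mathlib
import Cfsg.Agent.Lib.CoherenceExt

/-!
# Coherence systems: Bessel inequalities and construction of isometries from values

`exists_iso_of_values`: a map on a pairwise orthogonal set of functions preserving inner products
extends to a linear isometry on the integer span.  `bessel`: Bessel's inequality for the class
inner product.  `tight`: the integrality squeeze used throughout the theory of coherence.
-/

set_option autoImplicit false
set_option linter.unusedSectionVars false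
set_option linter.unusedVariables false

namespace Cfsg.Agent.Lib.CoherenceSys

open Cfsg Cfsg.Agent.Lib.CharBasic Cfsg.Agent.Lib.GenChar Cfsg.Agent.Lib.CoherenceBasic
open Cfsg.Agent.Lib.CoherenceExt
open scoped ComplexConjugate

variable {L : Type*} [Group L] [Fintype L] {G : Type*} [Group G] [Fintype G]

/-- A map preserving inner products on a pairwise orthogonal set of nonzero functions extends to a
linear isometry on the integer span. -/
theorem exists_iso_of_values {S : Set (L → ℂ)} (hne : ∀ x ∈ S, classInner x x ≠ 0)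
    (horth : ∀ x ∈ S, ∀ y ∈ S, x ≠ y → classInner x y = 0) (f : (L → ℂ) → (G → ℂ))
    (hfi : ∀ x ∈ S, ∀ y ∈ S, classInner (f x) (f y) = classInner x y)
    (hfg : ∀ x ∈ S, IsGeneralizedCharacter G (f x)) :
    ∃ τ₁ : (L → ℂ) → (G → ℂ), IsLinearIsometryOn (zspan S) τ₁ ∧ ∀ x ∈ S, τ₁ x = f x := by
  classical
  let v : S → L → ℂ := Subtype.val
  have hli : LinearIndependent ℤ v := by
    rw [linearIndependent_iff']
    intro s g hg i hi
    have h1 : classInner (∑ j ∈ s, g j • v j) (v i) = 0 := by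
      rw [hg, classInner_zero_left]
    rw [classInner_sum_left, Finset.sum_eq_single i] at h1
    · rw [classInner_zsmul_left] at h1
      have h2 := (mul_eq_zero.mp h1).resolve_right (hne _ i.2)
      exact_mod_cast h2
    · intro j _ hji
      rw [classInner_zsmul_left, horth _ j.2 _ i.2 (fun h => hji (Subtype.ext h)), mul_zero]
    · intro h; exact absurd hi h
  have hrange : Set.range v = S := Subtype.range_coe
  let φ : Submodule.span ℤ (Set.range v) →ₗ[ℤ] (G → ℂ) :=
    (Finsupp.linearCombination ℤ (fun x : S => f x)).comp hli.repr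
  have hφ : ∀ (x : S) (h : (x : L → ℂ) ∈ Submodule.span ℤ (Set.range v)), φ ⟨x, h⟩ = f x := by
    intro x h
    have h1 : hli.repr ⟨v x, h⟩ = Finsupp.single x 1 := hli.repr_eq_single x ⟨v x, h⟩ rfl
    change Finsupp.linearCombination ℤ (fun x : S => f x) (hli.repr ⟨v x, h⟩) = f x
    rw [h1]
    simp
  let τ₁ : (L → ℂ) → (G → ℂ) := fun a =>
    if h : a ∈ Submodule.span ℤ (Set.range v) then φ ⟨a, h⟩ else 0
  have hmem : ∀ {a : L → ℂ}, a ∈ zspan S → a ∈ Submodule.span ℤ (Set.range v) := by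
    intro a ha
    rw [hrange]
    exact ha
  have hval : ∀ {a : L → ℂ} (ha : a ∈ zspan S), τ₁ a = φ ⟨a, hmem ha⟩ := by
    intro a ha
    show (if h : a ∈ Submodule.span ℤ (Set.range v) then φ ⟨a, h⟩ else 0) = _
    rw [dif_pos (hmem ha)]
  have hvalS : ∀ x ∈ S, τ₁ x = f x := by
    intro x hx
    rw [hval (mem_zspan hx)]
    exact hφ ⟨x, hx⟩ _
  have hadd : ∀ a ∈ zspan S, ∀ b ∈ zspan S, τ₁ (a + b) = τ₁ a + τ₁ b := by
    intro a ha b hb
    rw [hval ha, hval hb, hval (zspan_add ha hb), ← map_add]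
    rfl
  have hsmul : ∀ a ∈ zspan S, ∀ n : ℤ, τ₁ (n • a) = n • τ₁ a := by
    intro a ha n
    rw [hval ha, hval (zspan_zsmul ha n), ← map_zsmul]
    rfl
  have h0 : τ₁ 0 = 0 := by
    rw [hval (zspan_zero S)]
    have : (⟨0, hmem (zspan_zero S)⟩ : Submodule.span ℤ (Set.range v)) = 0 := rfl
    rw [this, map_zero]
  -- inner product with a generator on the right
  have hi1 : ∀ y ∈ S, ∀ a ∈ zspan S, classInner (τ₁ a) (f y) = classInner a y := by
    intro y hy a ha
    have ha' := ha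
    unfold zspan at ha'
    induction ha' using Submodule.span_induction with
    | mem x hx => rw [hvalS x hx, hfi x hx y hy]
    | zero => rw [h0, classInner_zero_left, classInner_zero_left]
    | add p q hp hq ihp ihq =>
      rw [hadd p hp q hq, classInner_add_left, classInner_add_left, ihp hp, ihq hq]
    | smul n p hp ihp =>
      rw [hsmul p hp n, classInner_zsmul_left, classInner_zsmul_left, ihp hp]
  have hi2 : ∀ a ∈ zspan S, ∀ b ∈ zspan S, classInner (τ₁ a) (τ₁ b) = classInner a b := by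
    intro a ha b hb
    have hb' := hb
    unfold zspan at hb'
    induction hb' using Submodule.span_induction with
    | mem x hx => rw [hvalS x hx, hi1 x hx a ha]
    | zero => rw [h0, classInner_zero_right, classInner_zero_right]
    | add p q hp hq ihp ihq =>
      rw [hadd p hp q hq, classInner_add_right, classInner_add_right, ihp hp, ihq hq]
    | smul n p hp ihp =>
      rw [hsmul p hp n, classInner_zsmul_right, classInner_zsmul_right, ihp hp]
  have hg : ∀ a ∈ zspan S, IsGeneralizedCharacter G (τ₁ a) := by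
    intro a ha
    have ha' := ha
    unfold zspan at ha'
    induction ha' using Submodule.span_induction with
    | mem x hx => rw [hvalS x hx]; exact hfg x hx
    | zero => rw [h0]; exact isGen_zero
    | add p q hp hq ihp ihq =>
      rw [hadd p hp q hq]; exact isGen_add (ihp hp) (ihq hq)
    | smul n p hp ihp =>
      rw [hsmul p hp n]; exact isGen_zsmul (ihp hp) n
  exact ⟨τ₁, ⟨hadd, hsmul, hi2, hg⟩, hvalS⟩

/-- Bessel's inequality for the class inner product and a finite orthogonal family. -/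
theorem bessel {ι : Type*} (s : Finset ι) (e : ι → G → ℂ) (N : ι → ℝ) (hN : ∀ i ∈ s, 0 < N i)
    (h : ∀ i ∈ s, ∀ j ∈ s, i ≠ j → classInner (e i) (e j) = 0)
    (hn : ∀ i ∈ s, classInner (e i) (e i) = (N i : ℂ)) (v : G → ℂ) :
    ∑ i ∈ s, ‖classInner v (e i)‖ ^ 2 / N i ≤ (classInner v v).re := by
  classical
  set c : ι → ℂ := fun i => classInner v (e i) / (N i : ℂ) with hc
  set w : G → ℂ := v - ∑ i ∈ s, c i • e i with hw
  have hNc : ∀ i ∈ s, (N i : ℂ) ≠ 0 := fun i hi => by
    exact_mod_cast (hN i hi).ne'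
  have h1 : ∀ j ∈ s, classInner (∑ i ∈ s, c i • e i) (e j) = classInner v (e j) := by
    intro j hj
    rw [classInner_sum_left, Finset.sum_eq_single j]
    · rw [classInner_smul_left, hn j hj, hc]
      field_simp [hNc j hj]
    · intro i hi hij
      rw [classInner_smul_left, h i hi j hj hij, mul_zero]
    · intro hj'; exact absurd hj hj'
  have h2 : ∀ j ∈ s, classInner w (e j) = 0 := by
    intro j hj
    rw [hw, classInner_sub_left, h1 j hj, sub_self]
  have h3 : classInner w (∑ i ∈ s, c i • e i) = 0 := by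
    rw [classInner_sum_right]
    refine Finset.sum_eq_zero (fun i hi => ?_)
    rw [classInner_smul_right, h2 i hi, mul_zero]
  have h4 : classInner v v = classInner w w +
      classInner (∑ i ∈ s, c i • e i) (∑ i ∈ s, c i • e i) := by
    have e1 : v = w + ∑ i ∈ s, c i • e i := by rw [hw]; abel
    conv_lhs => rw [e1]
    rw [classInner_add_left, classInner_add_right, classInner_add_right, h3]
    have h5 : classInner (∑ i ∈ s, c i • e i) w = 0 := by
      rw [← classInner_conj_symm, h3, map_zero]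
    rw [h5]
    ring
  have h6 : classInner (∑ i ∈ s, c i • e i) (∑ i ∈ s, c i • e i) =
      ((∑ i ∈ s, ‖classInner v (e i)‖ ^ 2 / N i : ℝ) : ℂ) := by
    rw [classInner_sum_right]
    push_cast
    refine Finset.sum_congr rfl (fun j hj => ?_)
    rw [classInner_smul_right, h1 j hj, hc]
    have e2 : conj (classInner v (e j) / (N j : ℂ)) = conj (classInner v (e j)) / (N j : ℂ) := by
      rw [map_div₀, Complex.conj_ofReal]
    rw [e2]
    have e3 : (‖classInner v (e j)‖ : ℂ) ^ 2 = classInner v (e j) * conj (classInner v (e j)) := by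
      rw [Complex.mul_conj, Complex.normSq_eq_norm_sq]
      push_cast
      ring
    rw [e3]
    field_simp [hNc j hj]
  rw [h4, Complex.add_re, h6, Complex.ofReal_re]
  linarith [classInner_self_re_nonneg w]

/-- Bessel's inequality for a finite orthonormal set. -/
theorem bessel_orthonormal (F : Finset (G → ℂ))
    (hF : ∀ x ∈ F, ∀ y ∈ F, x ≠ y → classInner x y = 0)
    (hF1 : ∀ x ∈ F, classInner x x = 1) (v : G → ℂ) :
    ∑ x ∈ F, ‖classInner v x‖ ^ 2 ≤ (classInner v v).re := by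
  have h := bessel F (fun x => x) (fun _ => (1 : ℝ)) (fun _ _ => one_pos) hF
    (fun x hx => by rw [hF1 x hx]; simp) v
  simpa using h

/-- The integrality squeeze: an integer valued function with sum `p` on a finite set has sum of
squares at least `p`, with equality only if it takes the values `0` and `1`. -/
theorem int_sum_le_sum_sq {ι : Type*} (s : Finset ι) (a : ι → ℤ) :
    ∑ i ∈ s, a i ≤ ∑ i ∈ s, (a i) ^ 2 :=
  Finset.sum_le_sum (fun i _ => by
    rcases le_or_gt (a i) 0 with h | h <;> nlinarith)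

theorem int_zero_or_one_of_sum_sq {ι : Type*} (s : Finset ι) (a : ι → ℤ)
    (h : ∑ i ∈ s, (a i) ^ 2 ≤ ∑ i ∈ s, a i) : ∀ i ∈ s, a i = 0 ∨ a i = 1 := by
  intro i hi
  have h1 : ∀ j ∈ s, a j ≤ (a j) ^ 2 := fun j _ => by
    rcases le_or_gt (a j) 0 with h | h <;> nlinarith
  by_contra hcon
  push Not at hcon
  have h2 : a i < (a i) ^ 2 := by
    rcases lt_or_gt_of_ne hcon.1 with h | h
    · nlinarith
    · have : 2 ≤ a i := by
        have := hcon.2
        omega
      nlinarith
  have := Finset.sum_lt_sum h1 ⟨i, hi, h2⟩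
  omega

/-- The squeeze for two orthonormal sets `P`, `Q` and further elements `X`. -/
theorem tight {β : G → ℂ} (hβ : IsGeneralizedCharacter G β) (P Q X : Finset (G → ℂ))
    (hF : ∀ x ∈ P ∪ Q ∪ X, ∀ y ∈ P ∪ Q ∪ X, x ≠ y → classInner x y = 0)
    (hF1 : ∀ x ∈ P ∪ Q ∪ X, classInner x x = 1)
    (hPg : ∀ x ∈ P, IsGeneralizedCharacter G x) (hQg : ∀ x ∈ Q, IsGeneralizedCharacter G x)
    (hPQ : Disjoint P Q) (hPX : Disjoint (P ∪ Q) X)
    (p q : ℤ) (hp : ∑ x ∈ P, classInner β x = p) (hq : ∑ x ∈ Q, classInner β x = -q)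
    (hnorm : (classInner β β).re ≤ p + q) :
    (∀ x ∈ P, classInner β x = 0 ∨ classInner β x = 1) ∧
    (∀ x ∈ Q, classInner β x = 0 ∨ classInner β x = -1) ∧
    (∀ x ∈ X, classInner β x = 0) := by
  classical
  have hint : ∀ x ∈ P ∪ Q, ∃ n : ℤ, classInner β x = n := by
    intro x hx
    rcases Finset.mem_union.mp hx with hx | hx
    · exact classInner_gen_gen hβ (hPg x hx)
    · exact classInner_gen_gen hβ (hQg x hx)
  choose! a ha using hint
  have hPa : ∀ x ∈ P, classInner β x = a x := fun x hx => ha x (Finset.mem_union_left _ hx)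
  have hQa : ∀ x ∈ Q, classInner β x = a x := fun x hx => ha x (Finset.mem_union_right _ hx)
  have hsumP : ∑ x ∈ P, a x = p := by
    have : ((∑ x ∈ P, a x : ℤ) : ℂ) = p := by
      rw [← hp]; push_cast
      exact Finset.sum_congr rfl (fun x hx => (hPa x hx).symm)
    exact_mod_cast this
  have hsumQ : ∑ x ∈ Q, a x = -q := by
    have : ((∑ x ∈ Q, a x : ℤ) : ℂ) = ((-q : ℤ) : ℂ) := by
      push_cast
      rw [← hq]
      exact Finset.sum_congr rfl (fun x hx => (hQa x hx).symm)
    exact_mod_cast this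
  have hb := bessel_orthonormal (P ∪ Q ∪ X) hF hF1 β
  rw [Finset.sum_union hPX, Finset.sum_union hPQ] at hb
  have hPs : ∑ x ∈ P, ‖classInner β x‖ ^ 2 = ((∑ x ∈ P, (a x) ^ 2 : ℤ) : ℝ) := by
    push_cast
    refine Finset.sum_congr rfl (fun x hx => ?_)
    rw [hPa x hx]; simp
  have hQs : ∑ x ∈ Q, ‖classInner β x‖ ^ 2 = ((∑ x ∈ Q, (a x) ^ 2 : ℤ) : ℝ) := by
    push_cast
    refine Finset.sum_congr rfl (fun x hx => ?_)
    rw [hQa x hx]; simp
  rw [hPs, hQs] at hb
  have h1 := int_sum_le_sum_sq P a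
  have h2 := int_sum_le_sum_sq Q (fun x => - a x)
  simp only [neg_sq, Finset.sum_neg_distrib] at h2
  rw [hsumP] at h1
  rw [hsumQ, neg_neg] at h2
  have hXnn : 0 ≤ ∑ x ∈ X, ‖classInner β x‖ ^ 2 :=
    Finset.sum_nonneg (fun x _ => by positivity)
  have h1r : (p : ℝ) ≤ ((∑ x ∈ P, (a x) ^ 2 : ℤ) : ℝ) := by exact_mod_cast h1
  have h2r : (q : ℝ) ≤ ((∑ x ∈ Q, (a x) ^ 2 : ℤ) : ℝ) := by exact_mod_cast h2
  have hX0 : ∑ x ∈ X, ‖classInner β x‖ ^ 2 = 0 := by
    apply le_antisymm _ hXnn
    linarith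
  have hPle : ∑ x ∈ P, (a x) ^ 2 ≤ p := by
    have : ((∑ x ∈ P, (a x) ^ 2 : ℤ) : ℝ) ≤ p := by linarith
    exact_mod_cast this
  have hQle : ∑ x ∈ Q, (a x) ^ 2 ≤ q := by
    have : ((∑ x ∈ Q, (a x) ^ 2 : ℤ) : ℝ) ≤ q := by linarith
    exact_mod_cast this
  refine ⟨?_, ?_, ?_⟩
  · intro x hx
    have := int_zero_or_one_of_sum_sq P a (by rw [hsumP]; exact hPle) x hx
    rw [hPa x hx]
    rcases this with h | h
    · left; rw [h]; simp
    · right; rw [h]; simp
  · intro x hx
    have := int_zero_or_one_of_sum_sq Q (fun x => - a x)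
      (by simp only [neg_sq, Finset.sum_neg_distrib]; rw [hsumQ, neg_neg]; exact hQle) x hx
    rw [hQa x hx]
    rcases this with h | h
    · left
      have : a x = 0 := by simpa using h
      rw [this]; simp
    · right
      have : a x = -1 := by
        have h' : - a x = 1 := h
        omega
      rw [this]; simp
  · intro x hx
    have h3 := (Finset.sum_eq_zero_iff_of_nonneg (fun x _ => by positivity)).mp hX0 x hx
    have h4 : ‖classInner β x‖ = 0 := by
      have := pow_eq_zero_iff (n := 2) (by norm_num) |>.mp h3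
      exact this
    exact norm_eq_zero.mp h4


/-- Orthonormality of a set, in the form used below. -/
def OrthN (F : Finset (G → ℂ)) : Prop :=
  (∀ x ∈ F, ∀ y ∈ F, x ≠ y → classInner x y = 0) ∧ ∀ x ∈ F, classInner x x = 1

theorem disjoint_of_orth {P Q : Finset (G → ℂ)} (hP : OrthN P)
    (hPQ : ∀ x ∈ P, ∀ y ∈ Q, classInner x y = 0) : Disjoint P Q := by
  rw [Finset.disjoint_left]
  intro x hx hx'
  have h1 := hP.2 x hx
  rw [hPQ x hx x hx'] at h1
  exact zero_ne_one h1

theorem OrthN.union {P Q : Finset (G → ℂ)} (hP : OrthN P) (hQ : OrthN Q)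
    (hPQ : ∀ x ∈ P, ∀ y ∈ Q, classInner x y = 0) : OrthN (P ∪ Q) := by
  classical
  have hQP : ∀ x ∈ Q, ∀ y ∈ P, classInner x y = 0 := fun x hx y hy => by
    rw [← classInner_conj_symm, hPQ y hy x hx, map_zero]
  constructor
  · intro x hx y hy hxy
    rcases Finset.mem_union.mp hx with hx | hx <;> rcases Finset.mem_union.mp hy with hy | hy
    · exact hP.1 x hx y hy hxy
    · exact hPQ x hx y hy
    · exact hQP x hx y hy
    · exact hQ.1 x hx y hy hxy
  · intro x hx
    rcases Finset.mem_union.mp hx with hx | hx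
    · exact hP.2 x hx
    · exact hQ.2 x hx

/-- The squeeze, with orthonormality given blockwise. -/
theorem tight' {β : G → ℂ} (hβ : IsGeneralizedCharacter G β) {P Q X : Finset (G → ℂ)}
    (hP : OrthN P) (hQ : OrthN Q) (hX : OrthN X)
    (hPQ : ∀ x ∈ P, ∀ y ∈ Q, classInner x y = 0) (hPX : ∀ x ∈ P, ∀ y ∈ X, classInner x y = 0)
    (hQX : ∀ x ∈ Q, ∀ y ∈ X, classInner x y = 0)
    (hPg : ∀ x ∈ P, IsGeneralizedCharacter G x) (hQg : ∀ x ∈ Q, IsGeneralizedCharacter G x)
    (p q : ℤ) (hp : ∑ x ∈ P, classInner β x = p) (hq : ∑ x ∈ Q, classInner β x = -q)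
    (hnorm : (classInner β β).re ≤ p + q) :
    (∀ x ∈ P, classInner β x = 0 ∨ classInner β x = 1) ∧
    (∀ x ∈ Q, classInner β x = 0 ∨ classInner β x = -1) ∧
    (∀ x ∈ X, classInner β x = 0) := by
  classical
  have h1 : OrthN (P ∪ Q) := hP.union hQ hPQ
  have h2 : ∀ x ∈ P ∪ Q, ∀ y ∈ X, classInner x y = 0 := by
    intro x hx y hy
    rcases Finset.mem_union.mp hx with hx | hx
    · exact hPX x hx y hy
    · exact hQX x hx y hy
  have h3 : OrthN (P ∪ Q ∪ X) := h1.union hX h2
  exact tight hβ P Q X h3.1 h3.2 hPg hQg (disjoint_of_orth hP hPQ) (disjoint_of_orth h1 h2) p q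
    hp hq hnorm

section System

variable {S : Set (L → ℂ)} {τ : (L → ℂ) → (G → ℂ)} {R : (L → ℂ) → Finset (G → ℂ)}

theorem sys_one_conj (hS : IsCoherenceSystem S τ R) {χ : L → ℂ} (hχ : χ ∈ S) :
    conjFun χ 1 = χ 1 := by
  obtain ⟨d, hd⟩ := isCharacter_one_eq (hS.isCharacter χ hχ)
  simp [conjFun, hd]

theorem conjFun_conjFun' (χ : L → ℂ) : conjFun (conjFun χ) = χ := by
  funext x
  simp [conjFun]

theorem sys_ne_zero (hS : IsCoherenceSystem S τ R) {χ : L → ℂ} (hχ : χ ∈ S) : χ ≠ 0 := by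
  rintro rfl
  apply hS.conj_ne 0 hχ
  funext x
  simp [conjFun]

theorem sys_norm (hS : IsCoherenceSystem S τ R) {χ : L → ℂ} (hχ : χ ∈ S) :
    ∃ n : ℕ, 0 < n ∧ classInner χ χ = n := by
  obtain ⟨n, hn⟩ := classInner_self_eq_nat (isGen_of_isChar (hS.isCharacter χ hχ))
  refine ⟨n, ?_, hn⟩
  rcases Nat.eq_zero_or_pos n with h | h
  · exfalso
    rw [h] at hn
    exact sys_ne_zero hS hχ (classInner_self_eq_zero (by simpa using hn))
  · exact h

theorem sys_conj_orth (hS : IsCoherenceSystem S τ R) {χ : L → ℂ} (hχ : χ ∈ S) :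
    classInner χ (conjFun χ) = 0 :=
  hS.orthogonal χ hχ _ (hS.conj_mem χ hχ) (hS.conj_ne χ hχ).symm

theorem sys_diff_mem (hS : IsCoherenceSystem S τ R) {χ : L → ℂ} (hχ : χ ∈ S) :
    χ - conjFun χ ∈ zspanOn S {1}ᶜ := by
  rw [mem_zspanOn_compl_one]
  refine ⟨zspan_sub (mem_zspan hχ) (mem_zspan (hS.conj_mem χ hχ)), ?_⟩
  simp [sys_one_conj hS hχ]

theorem sys_sum_inner (hS : IsCoherenceSystem S τ R) {χ : L → ℂ} (hχ : χ ∈ S) (v : G → ℂ) :
    ∑ α ∈ R χ, classInner v α = classInner v (τ (χ - conjFun χ)) := by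
  rw [hS.sum_eq χ hχ, classInner_sum_right]

theorem sys_orthN (hS : IsCoherenceSystem S τ R) {χ : L → ℂ} (hχ : χ ∈ S) : OrthN (R χ) := by
  classical
  constructor
  · intro x hx y hy hxy
    rw [hS.orthonormal χ hχ x hx y hy, if_neg hxy]
  · intro x hx
    rw [hS.orthonormal χ hχ x hx x hx, if_pos rfl]

/-- Orthogonality of the sets `R` attached to orthogonal members. -/
theorem sys_R_orth (hS : IsCoherenceSystem S τ R) {χ ψ : L → ℂ} (hχ : χ ∈ S) (hψ : ψ ∈ S)
    (h1 : ψ ≠ χ) (h2 : ψ ≠ conjFun χ) : ∀ x ∈ R ψ, ∀ y ∈ R χ, classInner x y = 0 :=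
  hS.disjoint χ hχ ψ hψ (hS.orthogonal ψ hψ χ hχ h1) (hS.orthogonal ψ hψ _ (hS.conj_mem χ hχ) h2)

theorem sys_card_R (hS : IsCoherenceSystem S τ R) {χ : L → ℂ} (hχ : χ ∈ S) {n : ℕ}
    (hn : classInner χ χ = n) : (R χ).card = 2 * n := by
  classical
  have hm := sys_diff_mem hS hχ
  have h1 := iso_inner hS.isometry hm hm
  have h2 : classInner (χ - conjFun χ) (χ - conjFun χ) = 2 * (n : ℂ) := by
    rw [classInner_sub_left, classInner_sub_right, classInner_sub_right, sys_conj_orth hS hχ, hn]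
    have h3 : classInner (conjFun χ) χ = 0 := by
      rw [← classInner_conj_symm, sys_conj_orth hS hχ, map_zero]
    have h4 : classInner (conjFun χ) (conjFun χ) = n := by
      rw [classInner_conjFun_conjFun, hn]
      simp
    rw [h3, h4]
    ring
  rw [h2, hS.sum_eq χ hχ, classInner_sum_left] at h1
  have h5 : ∀ x ∈ R χ, classInner x (∑ α ∈ R χ, α) = 1 := by
    intro x hx
    rw [classInner_sum_right, Finset.sum_eq_single x]
    · exact (sys_orthN hS hχ).2 x hx
    · intro y hy hyx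
      exact (sys_orthN hS hχ).1 x hx y hy hyx.symm
    · intro h; exact absurd hx h
  rw [Finset.sum_congr rfl h5] at h1
  simp only [Finset.sum_const, nsmul_eq_mul, mul_one] at h1
  have h6 : ((R χ).card : ℂ) = ((2 * n : ℕ) : ℂ) := by
    rw [h1]; push_cast; ring
  exact_mod_cast h6

/-- Restriction of a coherence system to a subset closed under conjugation. -/
theorem IsCoherenceSystem.sub (hS : IsCoherenceSystem S τ R) {S₁ : Set (L → ℂ)} (h : S₁ ⊆ S)
    (hne : S₁.Nonempty) (hc : ∀ χ ∈ S₁, conjFun χ ∈ S₁) : IsCoherenceSystem S₁ τ R where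
  nonempty := hne
  isCharacter := fun χ hχ => hS.isCharacter χ (h hχ)
  conj_mem := hc
  conj_ne := fun χ hχ => hS.conj_ne χ (h hχ)
  isometry := iso_mono hS.isometry (zspanOn_mono h)
  map_one := fun α hα => hS.map_one α (zspanOn_mono h hα)
  orthogonal := fun χ hχ φ hφ => hS.orthogonal χ (h hχ) φ (h hφ)
  orthonormal := fun χ hχ => hS.orthonormal χ (h hχ)
  virtual := fun χ hχ => hS.virtual χ (h hχ)
  sum_eq := fun χ hχ => hS.sum_eq χ (h hχ)
  disjoint := fun χ hχ φ hφ => hS.disjoint χ (h hχ) φ (h hφ)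

/-- Two members of equal degree: the image of their difference splits over `R φ` and `R ψ`. -/
theorem pair_tight (hS : IsCoherenceSystem S τ R) {φ ψ : L → ℂ} (hφ : φ ∈ S) (hψ : ψ ∈ S)
    (hdeg : φ 1 = ψ 1) (h1 : ψ ≠ φ) (h2 : ψ ≠ conjFun φ) {n : ℕ} (hn : classInner φ φ = n)
    {X : Finset (G → ℂ)} (hX : OrthN X) (hX1 : ∀ x ∈ R φ, ∀ y ∈ X, classInner x y = 0)
    (hX2 : ∀ x ∈ R ψ, ∀ y ∈ X, classInner x y = 0) :
    (∀ α ∈ R φ, classInner (τ (φ - ψ)) α = 0 ∨ classInner (τ (φ - ψ)) α = 1) ∧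
    (∑ α ∈ R φ, classInner (τ (φ - ψ)) α = n) ∧
    (∀ x ∈ X, classInner (τ (φ - ψ)) x = 0) := by
  obtain ⟨m, hm0, hm⟩ := sys_norm hS hψ
  have hmem : φ - ψ ∈ zspanOn S {1}ᶜ := by
    rw [mem_zspanOn_compl_one]
    exact ⟨zspan_sub (mem_zspan hφ) (mem_zspan hψ), by simp [hdeg]⟩
  have h3 : φ ≠ ψ := fun h => h1 h.symm
  have h4 : φ ≠ conjFun ψ := by
    intro h
    apply h2
    rw [h, conjFun_conjFun']
  have h5 : classInner φ ψ = 0 := hS.orthogonal φ hφ ψ hψ h3
  have h6 : classInner ψ φ = 0 := hS.orthogonal ψ hψ φ hφ h1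
  have h7 : classInner ψ (conjFun φ) = 0 := hS.orthogonal ψ hψ _ (hS.conj_mem φ hφ) h2
  have h8 : classInner φ (conjFun ψ) = 0 := hS.orthogonal φ hφ _ (hS.conj_mem ψ hψ) h4
  have hsum1 : ∑ α ∈ R φ, classInner (τ (φ - ψ)) α = n := by
    rw [sys_sum_inner hS hφ, iso_inner hS.isometry hmem (sys_diff_mem hS hφ),
      classInner_sub_left, classInner_sub_right, classInner_sub_right, hn, sys_conj_orth hS hφ,
      h6, h7]
    ring
  have hsum2 : ∑ α ∈ R ψ, classInner (τ (φ - ψ)) α = -((m : ℤ) : ℂ) := by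
    rw [sys_sum_inner hS hψ, iso_inner hS.isometry hmem (sys_diff_mem hS hψ),
      classInner_sub_left, classInner_sub_right, classInner_sub_right, hm, sys_conj_orth hS hψ,
      h5, h8]
    push_cast
    ring
  have hnorm : (classInner (τ (φ - ψ)) (τ (φ - ψ))).re ≤ ((n : ℤ) : ℝ) + ((m : ℤ) : ℝ) := by
    rw [iso_inner hS.isometry hmem hmem, classInner_sub_left, classInner_sub_right,
      classInner_sub_right, hn, hm, h5, h6]
    simp
  have hPQ := sys_R_orth hS hψ hφ h3 h4
  obtain ⟨t1, _, t3⟩ := tight' (iso_gen hS.isometry hmem) (sys_orthN hS hφ) (sys_orthN hS hψ) hX hPQ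
    hX1 hX2 (hS.virtual φ hφ) (hS.virtual ψ hψ) n m (by rw [hsum1]; simp) hsum2 hnorm
  exact ⟨t1, hsum1, t3⟩

end System

end Cfsg.Agent.Lib.CoherenceSys
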