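import Mathlib
import Cfsg.Agent.Lib.CoherenceSys
import Cfsg.Agent.Lib.CharInd
import Cfsg.Agent.Lib.CharInduction
import Cfsg.Agent.Lib.CharKernel
import Cfsg.Agent.Lib.CharDecomp
import Cfsg.Agent.Lib.CharCentral
import Cfsg.Agent.Lib.CharCodegP

/-!
# The sets `inducedIrrAbove K A` of induced characters

Basic closure properties; the degree sum `∑ φ(1)²/⟨φ,φ⟩ = [L:K]([K:A]-1)`; degree bounds from central
sections; linear characters of solvable groups.
-/

set_option autoImplicit false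
set_option linter.unusedSectionVars false
set_option linter.unusedVariables false

namespace Cfsg.Agent.Lib.InducedIrr

open Cfsg Cfsg.Agent.Lib.CharBasic Cfsg.Agent.Lib.GenChar Cfsg.Agent.Lib.CoherenceBasic
open Cfsg.Agent.Lib.CoherenceExt Cfsg.Agent.Lib.CoherenceSys Cfsg.Agent.Lib.CharKernel
open Cfsg.Agent.Lib.CharDecomp Cfsg.Agent.Lib.CharInduction Cfsg.Agent.Lib.CharCentral
open scoped ComplexConjugate

section Basic

variable {L : Type*} [Group L] [Fintype L]

theorem conjFun_indFun (K : Subgroup L) (θ : K → ℂ) :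
    conjFun (indFun K θ) = indFun K (conjFun θ) := by
  classical
  funext g
  simp only [conjFun, Cfsg.Agent.Lib.CharInd.indFun_apply, map_mul, map_inv₀, map_natCast, map_sum]
  congr 1
  refine Finset.sum_congr rfl (fun x _ => ?_)
  by_cases h : x⁻¹ * g * x ∈ K
  · rw [Cfsg.Agent.Lib.CharInd.extendByZero_of_mem K _ h,
      Cfsg.Agent.Lib.CharInd.extendByZero_of_mem K _ h]
    rfl
  · rw [Cfsg.Agent.Lib.CharInd.extendByZero_of_not_mem K _ h,
      Cfsg.Agent.Lib.CharInd.extendByZero_of_not_mem K _ h, map_zero]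

theorem inducedIrrAbove_anti (K : Subgroup L) {A B : Subgroup L} (h : A ≤ B) :
    inducedIrrAbove K B ⊆ inducedIrrAbove K A := by
  rintro φ ⟨θ, h1, h2, h3, h4⟩
  exact ⟨θ, h1, h2, fun a ha => h3 a (h ha), h4⟩

theorem inducedIrrAbove_subset_bot (K A : Subgroup L) :
    inducedIrrAbove K A ⊆ inducedIrrAbove K ⊥ :=
  inducedIrrAbove_anti K bot_le

theorem inducedIrrAbove_finite (K A : Subgroup L) : (inducedIrrAbove K A).Finite := by
  classical
  apply Set.Finite.subset (Set.finite_range (fun θ : IrrCharacter K => indFun K (θ : K → ℂ)))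
  rintro φ ⟨θ, h1, -, -, rfl⟩
  exact ⟨⟨θ, h1⟩, rfl⟩

theorem inducedIrrAbove_conj (K A : Subgroup L) {φ : L → ℂ} (h : φ ∈ inducedIrrAbove K A) :
    conjFun φ ∈ inducedIrrAbove K A := by
  classical
  letI : Fintype K := Fintype.ofFinite K
  obtain ⟨θ, h1, h2, h3, rfl⟩ := h
  refine ⟨conjFun θ, isIrrCharacter_conjFun h1, ?_, ?_, conjFun_indFun K θ⟩
  · intro h
    apply h2
    funext x
    have := congrFun h x
    simp only [conjFun] at this
    have h5 : conj (conj (θ x)) = conj 1 := by rw [this]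
    simpa using h5
  · intro a ha
    simp only [conjFun]
    rw [h3 a ha]

/-- The value at an element of a normal subgroup of `L` in the kernel. -/
theorem indFun_eq_one_of_triv (K A : Subgroup L) [A.Normal] (hAK : A ≤ K) {θ : K → ℂ}
    (hθ : ∀ a : K, (a : L) ∈ A → θ a = θ 1) {a : L} (ha : a ∈ A) :
    indFun K θ a = indFun K θ 1 := by
  classical
  rw [Cfsg.Agent.Lib.CharInd.indFun_apply, Cfsg.Agent.Lib.CharInd.indFun_apply]
  congr 1
  refine Finset.sum_congr rfl (fun x _ => ?_)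
  have h1 : x⁻¹ * a * x ∈ A := by
    have := (inferInstance : A.Normal).conj_mem a ha x⁻¹
    simpa using this
  have h2 : x⁻¹ * a * x ∈ K := hAK h1
  have h3 : x⁻¹ * 1 * x = 1 := by group
  rw [Cfsg.Agent.Lib.CharInd.extendByZero_of_mem K _ h2, h3,
    Cfsg.Agent.Lib.CharInd.extendByZero_of_mem K _ K.one_mem]
  exact hθ ⟨_, h2⟩ h1

theorem triv_of_ind_eq (K A : Subgroup L) [A.Normal] (hAK : A ≤ K) {θ : K → ℂ}
    (hθ : IsCharacter K θ) (h : ∀ a ∈ A, indFun K θ a = indFun K θ 1) :
    ∀ a : K, (a : L) ∈ A → θ a = θ 1 := by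
  classical
  intro a ha
  have hmem : ∀ x : L, x⁻¹ * (a : L) * x ∈ K := fun x => by
    apply hAK
    have := (inferInstance : A.Normal).conj_mem a ha x⁻¹
    simpa using this
  let f : L → K := fun x => ⟨x⁻¹ * (a : L) * x, hmem x⟩
  have h1 := h a ha
  rw [Cfsg.Agent.Lib.CharInd.indFun_apply, Cfsg.Agent.Lib.CharInd.indFun_one] at h1
  have h2 : ∀ x : L, extendByZero K θ (x⁻¹ * (a : L) * x) = θ (f x) := fun x =>
    Cfsg.Agent.Lib.CharInd.extendByZero_of_mem K _ (hmem x)
  simp only [h2] at h1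
  have hK : (Nat.card K : ℂ) ≠ 0 := Cfsg.Agent.Lib.CharInd.natCard_subgroup_ne_zero K
  have h3 : ∑ x : L, θ (f x) = ((Finset.univ : Finset L).card : ℂ) * θ 1 := by
    have h4 : (Nat.card K : ℂ) * (K.index : ℂ) = (Finset.univ : Finset L).card := by
      rw [Finset.card_univ, ← Nat.card_eq_fintype_card, ← Subgroup.card_mul_index K]
      push_cast
      ring
    rw [← h4]
    field_simp at h1
    rw [h1]
  have h5 := char_eq_one_of_sum Finset.univ f hθ h3 1 (Finset.mem_univ _)
  have h6 : f 1 = a := by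
    ext
    simp [f]
  rwa [h6] at h5

end Basic

section Degrees

variable {G : Type*} [Group G] [Finite G]

/-- An element central modulo the kernel of an irreducible character has the maximal norm. -/
theorem central_mod_ker_norm {χ : G → ℂ} (hχ : IsIrrCharacter G χ) {z : G}
    (hz : ∀ g, χ (z * g * z⁻¹ * g⁻¹) = χ 1) : χ z * conj (χ z) = χ 1 * χ 1 := by
  classical
  have hc := IsIrrCharacter.isCharacter hχ
  obtain ⟨χ', h1, h2⟩ := exists_quotient_irr (charKer hc) hχ (fun x hx => hx)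
  have hcen : ∀ g : G ⧸ charKer hc, ((z : G ⧸ charKer hc)) * g = g * (z : G ⧸ charKer hc) := by
    intro g
    obtain ⟨g, rfl⟩ := QuotientGroup.mk_surjective g
    rw [← QuotientGroup.mk_mul, ← QuotientGroup.mk_mul, QuotientGroup.eq]
    have hmem : (z * g)⁻¹ * (g * z) ∈ charKer hc := by
      have hn := (inferInstance : (charKer hc).Normal).conj_mem (z * g * z⁻¹ * g⁻¹) (hz g) (g⁻¹ * z⁻¹)
      have e : g⁻¹ * z⁻¹ * (z * g * z⁻¹ * g⁻¹) * (g⁻¹ * z⁻¹)⁻¹ = z⁻¹ * g⁻¹ * z * g := by group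
      rw [e] at hn
      have e2 : (z * g)⁻¹ * (g * z) = g⁻¹ * z⁻¹ * g * z := by group
      rw [e2]
      have hn2 := (inferInstance : (charKer hc).Normal).conj_mem _ (Subgroup.inv_mem _ (hz g)) (g⁻¹ * z⁻¹)
      have e3 : g⁻¹ * z⁻¹ * (z * g * z⁻¹ * g⁻¹)⁻¹ * (g⁻¹ * z⁻¹)⁻¹ = g⁻¹ * z⁻¹ * g * z := by group
      rwa [e3] at hn2
    exact hmem
  have h4 := central_norm h1 (z := (z : G ⧸ charKer hc)) hcen
  rw [h2 z] at h4
  have h5 : χ' 1 = χ 1 := by
    have := h2 1
    simpa using this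
  rw [h5] at h4
  exact h4

/-- The bound `|Z| χ(1)² ≤ |G|` for a subgroup on which the character has maximal norm. -/
theorem card_mul_sq_le_of_norm {χ : G → ℂ} (hχ : IsIrrCharacter G χ) (Z : Subgroup G)
    (hZ : ∀ z ∈ Z, χ z * conj (χ z) = χ 1 * χ 1) : Nat.card Z * charDegree χ ^ 2 ≤ Nat.card G := by
  classical
  letI := Fintype.ofFinite G
  have hG : (Nat.card G : ℂ) ≠ 0 := natCard_ne_zero'
  have h1 := classInner_irr_self hχ
  unfold classInner at h1
  have h2 : ∑ g : G, χ g * conj (χ g) = (Nat.card G : ℂ) := by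
    field_simp at h1
    exact h1
  have hdeg := one_eq_charDegree (IsIrrCharacter.isCharacter hχ)
  have hnorm : ∀ g : G, χ g * conj (χ g) = ((‖χ g‖ ^ 2 : ℝ) : ℂ) := by
    intro g
    rw [Complex.mul_conj, Complex.normSq_eq_norm_sq]
  have h3 : ∑ g : G, ‖χ g‖ ^ 2 = (Nat.card G : ℝ) := by
    have : ((∑ g : G, ‖χ g‖ ^ 2 : ℝ) : ℂ) = ((Nat.card G : ℝ) : ℂ) := by
      push_cast
      rw [← h2]
      refine Finset.sum_congr rfl fun g _ => ?_
      rw [hnorm]
      push_cast
      rfl
    exact_mod_cast this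
  have hzval : ∀ g ∈ Finset.univ.filter (fun g : G => g ∈ Z),
      ‖χ g‖ ^ 2 = (charDegree χ : ℝ) ^ 2 := by
    intro g hg
    have hg' : g ∈ Z := by simpa using hg
    have h4 := hZ g hg'
    rw [hnorm, hdeg] at h4
    have h5 : ((‖χ g‖ ^ 2 : ℝ) : ℂ) = (((charDegree χ : ℝ) ^ 2 : ℝ) : ℂ) := by
      rw [h4]
      push_cast
      ring
    exact_mod_cast h5
  have hle : ∑ g ∈ Finset.univ.filter (fun g : G => g ∈ Z), ‖χ g‖ ^ 2 ≤
      ∑ g : G, ‖χ g‖ ^ 2 :=
    Finset.sum_le_sum_of_subset_of_nonneg (Finset.filter_subset _ _)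
      (fun _ _ _ => by positivity)
  rw [Finset.sum_congr rfl hzval, h3, Finset.sum_const, nsmul_eq_mul] at hle
  have hcard : (Finset.univ.filter (fun g : G => g ∈ Z)).card = Nat.card Z := by
    rw [Nat.card_eq_fintype_card, Fintype.card_subtype]
  rw [hcard] at hle
  exact_mod_cast hle

/-- A constituent of a character contains its kernel. -/
theorem constituent_ker {ψ ζ ψ' : G → ℂ} (hζ : IsCharacter G ζ) (hψ' : IsCharacter G ψ')
    (h : ψ = ζ + ψ') {g : G} (hg : ψ g = ψ 1) : ζ g = ζ 1 := by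
  have h1 : ψ g = ζ g + ψ' g := by rw [h]; rfl
  have h2 : ψ 1 = ζ 1 + ψ' 1 := by rw [h]; rfl
  obtain ⟨a, ha⟩ := isCharacter_one_eq hζ
  obtain ⟨b, hb⟩ := isCharacter_one_eq hψ'
  have h3 : (ζ g).re ≤ a := by
    have := (Complex.re_le_norm (ζ g)).trans (char_norm_le hζ g)
    rw [ha] at this
    simpa using this
  have h4 : (ψ' g).re ≤ b := by
    have := (Complex.re_le_norm (ψ' g)).trans (char_norm_le hψ' g)
    rw [hb] at this
    simpa using this
  have h5 : (ζ g).re + (ψ' g).re = a + b := by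
    have h6 : ζ g + ψ' g = ζ 1 + ψ' 1 := by rw [← h1, ← h2]; exact hg
    rw [ha, hb] at h6
    have h7 := congrArg Complex.re h6
    simpa using h7
  apply char_eq_one_of_re hζ
  rw [ha]
  simp
  linarith

end Degrees

section Section

variable {K : Type*} [Group K] [Finite K]

/-- A central section bound: if `D ≤ C` with `[D, C]` in the kernel of `θ`, then
`θ(1)² ≤ [K:C]² [C:D]`. -/
theorem deg_sq_le_of_section {θ : K → ℂ} (hθ : IsIrrCharacter K θ) (C D : Subgroup K) (hDC : D ≤ C)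
    (hcent : ∀ x ∈ D, ∀ y ∈ C, θ (x * y * x⁻¹ * y⁻¹) = θ 1) :
    charDegree θ ^ 2 ≤ C.index ^ 2 * D.relIndex C := by
  classical
  letI : Fintype K := Fintype.ofFinite K
  letI : Fintype C := Fintype.ofFinite C
  have hθc := IsIrrCharacter.isCharacter hθ
  have hres : IsCharacter C (fun c : C => θ c) := isCharacter_restrict C hθc
  obtain ⟨m, hm⟩ := exists_nat_decomp hres
  have hne : ∃ i : IrrCharacter C, m i ≠ 0 := by
    by_contra hcon
    push Not at hcon
    have h0 : (fun c : C => θ c) = 0 := by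
      rw [hm]
      exact Finset.sum_eq_zero (fun i _ => by rw [hcon i, zero_smul])
    have h1 := congrFun h0 1
    simp only [Pi.zero_apply, OneMemClass.coe_one] at h1
    exact isIrr_one_ne_zero hθ h1
  obtain ⟨i, hi⟩ := hne
  have hζ := i.2
  set ζ : C → ℂ := (i : C → ℂ) with hζdef
  have hin : classInner (fun c : C => θ c) ζ ≠ 0 := by
    rw [hm, classInner_nat_decomp m ζ hζ]
    exact_mod_cast hi
  obtain ⟨ψ', hψ', hdec⟩ := exists_char_add hres hζ hin
  have hζc := IsIrrCharacter.isCharacter hζ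
  -- `ζ(1)² ≤ [C:D]`
  have hnorm : ∀ z ∈ D.subgroupOf C, ζ z * conj (ζ z) = ζ 1 * ζ 1 := by
    intro z hz
    apply central_mod_ker_norm hζ
    intro g
    have h1 : (fun c : C => θ c) (z * g * z⁻¹ * g⁻¹) = (fun c : C => θ c) 1 := by
      simp only [OneMemClass.coe_one, Subgroup.coe_mul, Subgroup.coe_inv]
      exact hcent z (Subgroup.mem_subgroupOf.mp hz) g g.2
    exact constituent_ker hζc hψ' hdec h1
  have h2 := card_mul_sq_le_of_norm hζ (D.subgroupOf C) hnorm
  have h3 : charDegree ζ ^ 2 ≤ D.relIndex C := by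
    have h4 := Subgroup.card_mul_index (D.subgroupOf C)
    rw [← h4] at h2
    exact Nat.le_of_mul_le_mul_left h2 Nat.card_pos
  -- Frobenius
  have hfr : classInner (indFun C ζ) θ ≠ 0 := by
    rw [Cfsg.Agent.Lib.CharInd.frobenius C ζ (isClassFunction_of_isCharacter hθc),
      ← classInner_conj_symm]
    simpa using hin
  have hindc := Cfsg.Agent.Lib.CharInd.indFun_isCharacter C hζc
  obtain ⟨ψ'', hψ'', hdec2⟩ := exists_char_add hindc hθ hfr
  have h5 : (C.index : ℂ) * ζ 1 = θ 1 + ψ'' 1 := by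
    rw [← Cfsg.Agent.Lib.CharInd.indFun_one C ζ, hdec2]
    rfl
  rw [one_eq_charDegree hζc, one_eq_charDegree hθc, one_eq_charDegree hψ''] at h5
  have h6 : C.index * charDegree ζ = charDegree θ + charDegree ψ'' := by exact_mod_cast h5
  have h7 : charDegree θ ≤ C.index * charDegree ζ := by omega
  calc charDegree θ ^ 2 ≤ (C.index * charDegree ζ) ^ 2 := Nat.pow_le_pow_left h7 2
    _ = C.index ^ 2 * charDegree ζ ^ 2 := by ring
    _ ≤ C.index ^ 2 * D.relIndex C := Nat.mul_le_mul_left _ h3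

/-- A solvable group has a nonprincipal linear character trivial on a given proper normal subgroup. -/
theorem exists_linear_above (hs : Group.IsSolvable K) (N : Subgroup K) [N.Normal] (hN : N ≠ ⊤) :
    ∃ ℓ : K → ℂ, IsIrrCharacter K ℓ ∧ ℓ ≠ (fun _ => 1) ∧ (∀ n ∈ N, ℓ n = ℓ 1) ∧ ℓ 1 = 1 := by
  classical
  haveI : Nontrivial (K ⧸ N) := by
    apply QuotientGroup.nontrivial_iff.mpr
    exact hN
  haveI := hs
  have hcomm : commutator (K ⧸ N) ≠ ⊤ :=
    (Group.IsSolvable.commutator_lt_top_of_nontrivial (K ⧸ N)).ne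
  obtain ⟨F, q, hq, hF⟩ := Cfsg.Agent.Lib.CharCodegP.exists_hom_prime_index hcomm
  let f : K →* ℂˣ := F.comp (QuotientGroup.mk' N)
  refine ⟨fun g => ((f g : ℂˣ) : ℂ), isIrrCharacter_of_hom f, ?_, ?_, by simp⟩
  · intro h
    have h1 : F = 1 := by
      ext g
      have := congrFun h g
      simpa [f] using this
    have h2 : F.ker = ⊤ := by rw [h1]; exact MonoidHom.ker_one
    rw [h2, Subgroup.index_top] at hF
    exact hq.one_lt.ne hF
  · intro n hn
    have : f n = 1 := by
      simp only [f, MonoidHom.comp_apply, QuotientGroup.mk'_apply]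
      rw [(QuotientGroup.eq_one_iff n).mpr hn, map_one]
    simp [this]

end Section

section Sum

variable {L : Type*} [Group L] [Fintype L] {G : Type*} [Group G] [Fintype G]

/-- The sum `∑ φ(1)²/⟨φ,φ⟩` over `S(A)` is `[L:K]([K:A]-1)`. -/
theorem sum_deg_sq_div_norm (K : Subgroup L) [hK : K.Normal] {τ : (L → ℂ) → (G → ℂ)}
    {R : (L → ℂ) → Finset (G → ℂ)} (hS : IsCoherenceSystem (inducedIrrAbove K ⊥) τ R)
    (A : Subgroup L) [hAn : A.Normal] (hAK : A ≤ K) (d n : (L → ℂ) → ℕ)
    (hd : ∀ φ ∈ inducedIrrAbove K ⊥, φ 1 = (d φ : ℂ))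
    (hn : ∀ φ ∈ inducedIrrAbove K ⊥, classInner φ φ = (n φ : ℂ))
    (S₀ : Finset (L → ℂ)) (hS₀ : ∀ φ, φ ∈ S₀ ↔ φ ∈ inducedIrrAbove K A) :
    ∑ φ ∈ S₀, ((d φ : ℝ) ^ 2 / (n φ : ℝ)) = (K.index : ℝ) * ((A.relIndex K : ℝ) - 1) := by
  classical
  letI : Fintype K := Fintype.ofFinite K
  have hsub := inducedIrrAbove_subset_bot K A
  -- the degree
  set deg : IrrCharacter K → ℝ := fun θ => (charDegree (θ : K → ℂ) : ℝ) with hdeg
  have hdeg1 : ∀ θ : IrrCharacter K, (θ : K → ℂ) 1 = ((deg θ : ℝ) : ℂ) := by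
    intro θ
    simp only [hdeg]
    rw [one_eq_charDegree (IsIrrCharacter.isCharacter θ.2)]
    simp
  set triv : IrrCharacter K → Prop := fun θ => ∀ a : K, (a : L) ∈ A → (θ : K → ℂ) a = (θ : K → ℂ) 1
    with htriv
  set IA : Finset (IrrCharacter K) :=
    Finset.univ.filter (fun θ => (θ : K → ℂ) ≠ (fun _ => 1) ∧ triv θ) with hIA
  -- membership of `Ind θ`
  have hIAmem : ∀ θ ∈ IA, indFun K (θ : K → ℂ) ∈ S₀ := by
    intro θ hθ
    rw [hIA, Finset.mem_filter] at hθ
    rw [hS₀]
    exact ⟨θ, θ.2, hθ.2.1, hθ.2.2, rfl⟩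
  have heK : (K.index : ℝ) ≠ 0 := by
    have := K.index_ne_zero_of_finite
    exact_mod_cast this
  have hindone : ∀ h : K, indFun K (fun _ : K => (1 : ℂ)) h = (K.index : ℂ) := by
    intro h
    rw [indFun_of_mem_normal K hK]
    have h1 : ∀ x : L, conjBy K hK x (fun _ : K => (1 : ℂ)) h = 1 := by
      intro x
      rw [conjBy_apply]
    simp only [h1, Finset.sum_const, Finset.card_univ, nsmul_eq_mul, mul_one]
    have hKne := Cfsg.Agent.Lib.CharInd.natCard_subgroup_ne_zero K
    rw [← Nat.card_eq_fintype_card, ← Subgroup.card_mul_index K]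
    push_cast
    field_simp
  -- the fibres
  have hfib : ∀ φ ∈ S₀, ∑ θ ∈ IA.filter (fun θ : IrrCharacter K => indFun K θ.1 = φ), (deg θ) ^ 2 =
      (d φ : ℝ) ^ 2 / ((K.index : ℝ) * (n φ : ℝ)) := by
    intro φ hφ
    have hφA := (hS₀ φ).mp hφ
    have hφS := hsub hφA
    obtain ⟨θ₀, hθ₀, hne₀, htriv₀, hφθ₀⟩ := hφA
    have hφc := hS.isCharacter φ hφS
    have hφcl := isClassFunction_of_isCharacter hφc
    have hnpos : (n φ : ℂ) ≠ 0 := by
      obtain ⟨k, hk0, hk⟩ := sys_norm hS hφS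
      rw [← hn φ hφS, hk]
      exact_mod_cast hk0.ne'
    have hnposr : (n φ : ℝ) ≠ 0 := by exact_mod_cast hnpos
    have hf : IsClassFunction K (fun h : K => φ h) :=
      isClassFunction_of_isCharacter (isCharacter_restrict K hφc)
    have hexp := classFunction_eq_sum hf
    have hexp1 := congrFun hexp 1
    simp only [OneMemClass.coe_one, Finset.sum_apply, Pi.smul_apply, smul_eq_mul] at hexp1
    -- the coefficients
    have hcoef : ∀ χ : IrrCharacter K, classInner (fun h : K => φ h) (χ : K → ℂ) =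
        classInner φ (indFun K (χ : K → ℂ)) := by
      intro χ
      rw [← classInner_conj_symm,
        ← Cfsg.Agent.Lib.CharInd.frobenius K (χ : K → ℂ) hφcl, classInner_conj_symm]
    set F : Finset (IrrCharacter K) := IA.filter (fun θ : IrrCharacter K => indFun K θ.1 = φ) with hF
    have hval : ∀ χ : IrrCharacter K, classInner φ (indFun K (χ : K → ℂ)) * (χ : K → ℂ) 1 =
        if χ ∈ F then (n φ : ℂ) * (χ : K → ℂ) 1 else 0 := by
      intro χ
      by_cases h1 : (χ : K → ℂ) = fun _ => 1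
      · have hnot : χ ∉ F := by
          intro h
          rw [hF, hIA, Finset.mem_filter, Finset.mem_filter] at h
          exact h.1.2.1 h1
        rw [if_neg hnot, h1]
        have h2 : classInner φ (indFun K (fun _ : K => (1 : ℂ))) = 0 := by
          rw [hφθ₀, Cfsg.Agent.Lib.CharInd.frobenius K θ₀
            (Cfsg.Agent.Lib.CharInd.indFun_isClassFunction K _)]
          have h3 : (fun h : K => indFun K (fun _ : K => (1 : ℂ)) h) =
              (K.index : ℂ) • (fun _ : K => (1 : ℂ)) := by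
            funext h
            rw [hindone h]
            simp
          rw [h3, classInner_smul_right, classInner_irr_ne hθ₀ isIrrCharacter_one hne₀, mul_zero]
        rw [h2, zero_mul]
      · by_cases h2 : indFun K (χ : K → ℂ) = φ
        · have hχtriv : triv χ := by
            apply triv_of_ind_eq K A hAK (IsIrrCharacter.isCharacter χ.2)
            intro a ha
            rw [h2, hφθ₀]
            exact indFun_eq_one_of_triv K A hAK htriv₀ ha
          have hmem : χ ∈ F := by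
            rw [hF, hIA, Finset.mem_filter, Finset.mem_filter]
            exact ⟨⟨Finset.mem_univ _, h1, hχtriv⟩, h2⟩
          rw [if_pos hmem, h2, hn φ hφS]
        · have hnot : χ ∉ F := by
            intro h
            rw [hF, Finset.mem_filter] at h
            exact h2 h.2
          rw [if_neg hnot]
          have hmem : indFun K (χ : K → ℂ) ∈ inducedIrrAbove K ⊥ :=
            ⟨χ, χ.2, h1, fun a ha => by
              have : a = 1 := by
                ext
                simpa using ha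
              rw [this], rfl⟩
          rw [hS.orthogonal φ hφS _ hmem (fun h => h2 h.symm), zero_mul]
    have hsum1 : φ 1 = (n φ : ℂ) * ∑ χ ∈ F, (χ : K → ℂ) 1 := by
      rw [hexp1, Finset.mul_sum]
      simp only [hcoef, hval]
      rw [Finset.sum_ite_mem, Finset.univ_inter]
    -- each member has the same degree
    have hdegF : ∀ χ ∈ F, deg χ = (d φ : ℝ) / (K.index : ℝ) := by
      intro χ hχ
      rw [hF, Finset.mem_filter] at hχ
      have h1 : φ 1 = (K.index : ℂ) * ((deg χ : ℝ) : ℂ) := by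
        rw [← hχ.2, Cfsg.Agent.Lib.CharInd.indFun_one, hdeg1]
      rw [hd φ hφS] at h1
      have h2 : (d φ : ℝ) = (K.index : ℝ) * deg χ := by exact_mod_cast h1
      rw [h2]
      field_simp
    have hsum2 : (d φ : ℝ) = (n φ : ℝ) * ∑ χ ∈ F, deg χ := by
      have h1 : (d φ : ℂ) = (n φ : ℂ) * ((∑ χ ∈ F, deg χ : ℝ) : ℂ) := by
        rw [← hd φ hφS, hsum1]
        push_cast
        congr 1
        exact Finset.sum_congr rfl (fun χ _ => hdeg1 χ)
      exact_mod_cast h1
    have h3 : ∑ χ ∈ F, (deg χ) ^ 2 = ((d φ : ℝ) / (K.index : ℝ)) * ∑ χ ∈ F, deg χ := by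
      rw [Finset.mul_sum]
      refine Finset.sum_congr rfl (fun χ hχ => ?_)
      rw [sq]
      congr 1
      exact hdegF χ hχ
    rw [h3]
    have h4 : ∑ χ ∈ F, deg χ = (d φ : ℝ) / (n φ : ℝ) := by
      rw [hsum2]
      field_simp
    rw [h4]
    field_simp
  -- summation
  have hsum3 : ∑ φ ∈ S₀, ((d φ : ℝ) ^ 2 / (n φ : ℝ)) = (K.index : ℝ) * ∑ θ ∈ IA, (deg θ) ^ 2 := by
    rw [← Finset.sum_fiberwise_of_maps_to (t := S₀) (g := fun θ : IrrCharacter K => indFun K (θ : K → ℂ))
      hIAmem, Finset.mul_sum]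
    refine Finset.sum_congr rfl (fun φ hφ => ?_)
    rw [hfib φ hφ]
    have hnposr : (n φ : ℝ) ≠ 0 := by
      have hφS := hsub ((hS₀ φ).mp hφ)
      obtain ⟨k, hk0, hk⟩ := sys_norm hS hφS
      have h1 : (n φ : ℂ) = k := by rw [← hn φ hφS, hk]
      have h2 : (n φ) = k := by exact_mod_cast h1
      rw [h2]
      exact_mod_cast hk0.ne'
    field_simp
  rw [hsum3]
  congr 1
  -- the mass formula
  have hker := sum_ker_deg_sq (A.subgroupOf K)
  have hcard := Subgroup.card_mul_index (A.subgroupOf K)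
  rw [← hcard] at hker
  have hcancel := Nat.eq_of_mul_eq_mul_left Nat.card_pos hker
  have h5 : (∑ χ : IrrCharacter K, (if ∀ m ∈ A.subgroupOf K, (χ : K → ℂ) m = (χ : K → ℂ) 1 then
      (charDegree (χ : K → ℂ) : ℝ) ^ 2 else 0)) = (A.relIndex K : ℝ) := by
    have h6 : ((∑ χ : IrrCharacter K, (if ∀ m ∈ A.subgroupOf K, (χ : K → ℂ) m = (χ : K → ℂ) 1 then
      (charDegree (χ : K → ℂ)) ^ 2 else 0) : ℕ) : ℝ) = (A.relIndex K : ℝ) := by
      rw [hcancel]
      rfl
    rw [← h6]
    push_cast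
    refine Finset.sum_congr rfl (fun χ _ => ?_)
    split_ifs <;> simp
  have h7 : ∀ χ : IrrCharacter K, (∀ m ∈ A.subgroupOf K, (χ : K → ℂ) m = (χ : K → ℂ) 1) ↔ triv χ := by
    intro χ
    simp only [htriv, Subgroup.mem_subgroupOf]
  simp only [h7] at h5
  -- split off the trivial character
  set one : IrrCharacter K := ⟨fun _ => 1, isIrrCharacter_one⟩ with hone
  have hone_triv : triv one := fun a _ => rfl
  have hone_deg : deg one = 1 := by
    have h1 := hdeg1 one
    have h2 : ((deg one : ℝ) : ℂ) = ((1 : ℝ) : ℂ) := by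
      rw [← h1]
      simp [hone]
    exact_mod_cast h2
  have h8 : (∑ χ : IrrCharacter K, (if triv χ then (charDegree (χ : K → ℂ) : ℝ) ^ 2 else 0)) =
      (deg one) ^ 2 + ∑ θ ∈ IA, (deg θ) ^ 2 := by
    rw [← Finset.sum_filter]
    have h9 : Finset.univ.filter (fun χ => triv χ) = insert one IA := by
      ext χ
      simp only [Finset.mem_filter, Finset.mem_univ, true_and, Finset.mem_insert, hIA]
      constructor
      · intro h
        by_cases h1 : (χ : K → ℂ) = fun _ => 1
        · left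
          exact Subtype.ext h1
        · right
          exact ⟨h1, h⟩
      · rintro (rfl | h)
        · exact hone_triv
        · exact h.2
    have hnot : one ∉ IA := by
      intro h
      rw [hIA, Finset.mem_filter] at h
      exact h.2.1 rfl
    rw [h9, Finset.sum_insert hnot]
  rw [h8, hone_deg] at h5
  linarith

end Sum

end Cfsg.Agent.Lib.InducedIrr
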