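import Mathlib
import Cfsg.Agent.Lib.CharTable
import Cfsg.Agent.Lib.CharInduction

/-!
# Brauer's permutation lemma for conjugation on a normal subgroup

The number of irreducible characters of `H ⊴ G` fixed by an element `x` is the number of
conjugacy classes of `H` fixed by `x`.
-/

set_option autoImplicit false
set_option linter.unusedSectionVars false
set_option linter.unusedVariables false

namespace Cfsg.Agent.Lib.FixedIrr

open Cfsg Cfsg.Agent.Lib.CharBasic Cfsg.Agent.Lib.CharInd Cfsg.Agent.Lib.CharInduction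
  Cfsg.Agent.Lib.CharTable

variable {G : Type*} [Group G]

/-- The permutation of `Irr(H)` induced by `x`. -/
noncomputable def sigmaOf (H : Subgroup G) (hN : H.Normal) (x : G) (χ : IrrCharacter H) :
    IrrCharacter H :=
  ⟨conjBy H hN x χ, isIrrCharacter_conjBy H hN x χ.2⟩

theorem card_fixed_eq [Finite G] (H : Subgroup G) (hN : H.Normal) (x : G) :
    Nat.card {χ : IrrCharacter H // sigmaOf H hN x χ = χ} =
      Nat.card {C : ConjClasses H // ConjClasses.map (conjAut H hN x).toMonoidHom C = C} := by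
  classical
  have := Fintype.ofFinite H
  apply card_fixed_irr_eq_card_fixed_class
  intro χ g
  show conjBy H hN x χ g = _
  rw [conjBy_eq_comp]
  apply char_eq_of_isConj (IsIrrCharacter.isCharacter χ.2)
  apply isConj_comm.mp
  have : ConjClasses.map (conjAut H hN x).toMonoidHom (ConjClasses.mk g) =
      ConjClasses.mk (conjAut H hN x g) := rfl
  rw [this]
  exact isConj_out_mk _

/-- A fixed class is the class of some `n`, with `x n x⁻¹` conjugate to `n` in `H`. -/
theorem exists_of_fixed_class (H : Subgroup G) (hN : H.Normal) (x : G) (n : H)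
    (h : ConjClasses.map (conjAut H hN x).toMonoidHom (ConjClasses.mk n) = ConjClasses.mk n) :
    ∃ k ∈ H, x * (n : G) * x⁻¹ = k * n * k⁻¹ := by
  have h1 : ConjClasses.mk (conjAut H hN x n) = ConjClasses.mk n := h
  have h2 := ConjClasses.mk_eq_mk_iff_isConj.mp h1
  obtain ⟨k, hk⟩ := isConj_iff.mp (isConj_comm.mp h2)
  refine ⟨k, k.2, ?_⟩
  have := congrArg Subtype.val hk
  simp only [Subgroup.coe_mul, InvMemClass.coe_inv, conjAut_apply] at this
  exact this.symm

theorem fixed_class_of_commute (H : Subgroup G) (hN : H.Normal) (x : G) (n : H)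
    (h : x * (n : G) = n * x) :
    ConjClasses.map (conjAut H hN x).toMonoidHom (ConjClasses.mk n) = ConjClasses.mk n := by
  show ConjClasses.mk (conjAut H hN x n) = ConjClasses.mk n
  congr 1
  apply Subtype.ext
  rw [conjAut_apply, h]
  group

theorem sigmaOf_one (H : Subgroup G) (hN : H.Normal) (x : G) :
    sigmaOf H hN x ⟨fun _ => 1, isIrrCharacter_one⟩ = ⟨fun _ => 1, isIrrCharacter_one⟩ := by
  apply Subtype.ext
  rfl

/-- `x` fixes a non-principal irreducible character of `H` iff it fixes a non-trivial class. -/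
theorem exists_fixed_irr_iff [Finite G] (H : Subgroup G) (hN : H.Normal) (x : G) :
    (∃ θ : H → ℂ, IsIrrCharacter H θ ∧ θ ≠ (fun _ => 1) ∧ conjBy H hN x θ = θ) ↔
      ∃ n : H, n ≠ 1 ∧ ∃ k ∈ H, x * (n : G) * x⁻¹ = k * n * k⁻¹ := by
  classical
  have hcard := card_fixed_eq H hN x
  constructor
  · rintro ⟨θ, hθ, hne, hfix⟩
    -- two fixed characters
    have h2 : 1 < Nat.card {χ : IrrCharacter H // sigmaOf H hN x χ = χ} := by
      rw [Finite.one_lt_card_iff_nontrivial]
      refine ⟨⟨⟨⟨θ, hθ⟩, Subtype.ext hfix⟩,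
        ⟨⟨fun _ => 1, isIrrCharacter_one⟩, sigmaOf_one H hN x⟩, ?_⟩⟩
      intro h
      apply hne
      have := congrArg (fun y => (y.1 : H → ℂ)) h
      exact this
    rw [hcard, Finite.one_lt_card_iff_nontrivial] at h2
    obtain ⟨⟨C₁, h₁⟩, ⟨C₂, h₂⟩, hne'⟩ := h2
    -- one of them is not the trivial class
    have : ∃ C : ConjClasses H, ConjClasses.map (conjAut H hN x).toMonoidHom C = C ∧ C ≠ ConjClasses.mk 1 := by
      by_cases hc : C₁ = ConjClasses.mk 1
      · refine ⟨C₂, h₂, ?_⟩
        intro hc2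
        apply hne'
        apply Subtype.ext
        exact hc.trans hc2.symm
      · exact ⟨C₁, h₁, hc⟩
    obtain ⟨C, hC, hC1⟩ := this
    obtain ⟨n, rfl⟩ := ConjClasses.mk_surjective C
    refine ⟨n, ?_, exists_of_fixed_class H hN x n hC⟩
    rintro rfl
    exact hC1 rfl
  · rintro ⟨n, hn, k, hk, he⟩
    have hfixn : ConjClasses.map (conjAut H hN x).toMonoidHom (ConjClasses.mk n) = ConjClasses.mk n := by
      show ConjClasses.mk (conjAut H hN x n) = ConjClasses.mk n
      apply ConjClasses.mk_eq_mk_iff_isConj.mpr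
      apply isConj_comm.mp
      apply isConj_iff.mpr
      refine ⟨⟨k, hk⟩, ?_⟩
      apply Subtype.ext
      simp only [Subgroup.coe_mul, InvMemClass.coe_inv, conjAut_apply]
      exact he.symm
    have hfix1 : ConjClasses.map (conjAut H hN x).toMonoidHom (ConjClasses.mk (1 : H)) = ConjClasses.mk 1 := by
      apply fixed_class_of_commute
      simp
    have h2 : 1 < Nat.card {C : ConjClasses H // ConjClasses.map (conjAut H hN x).toMonoidHom C = C} := by
      rw [Finite.one_lt_card_iff_nontrivial]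
      refine ⟨⟨⟨_, hfixn⟩, ⟨_, hfix1⟩, ?_⟩⟩
      intro h
      have h3 := congrArg Subtype.val h
      simp only at h3
      have h4 := ConjClasses.mk_eq_mk_iff_isConj.mp h3
      exact hn (isConj_one_right.mp (isConj_comm.mp h4))
    rw [← hcard, Finite.one_lt_card_iff_nontrivial] at h2
    obtain ⟨⟨χ₁, h₁⟩, ⟨χ₂, h₂⟩, hne'⟩ := h2
    by_cases hc : (χ₁ : H → ℂ) = fun _ => 1
    · refine ⟨χ₂, χ₂.2, ?_, congrArg Subtype.val h₂⟩
      intro hc2
      apply hne'
      apply Subtype.ext
      apply Subtype.ext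
      exact hc.trans hc2.symm
    · exact ⟨χ₁, χ₁.2, hc, congrArg Subtype.val h₁⟩

end Cfsg.Agent.Lib.FixedIrr
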