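import Mathlib
import Cfsg.Agent.S1528
import Cfsg.Agent.Lib.InducedIrr

/-!
# Irreducible characters of a group with a Frobenius kernel

`L` a finite group, `H` a normal subgroup with `C_L(h) ≤ H` for `1 ≠ h ∈ H`.  The irreducible
characters of `L` non-trivial on `H` are exactly the characters induced from the non-principal
irreducible characters of `H`.
-/

set_option autoImplicit false
set_option linter.unusedSectionVars false
open Cfsg

namespace Cfsg.Agent.Lib.FrobIrr9

open Cfsg.Agent.Lib.CharBasic Cfsg.Agent.Lib.GenChar Cfsg.Agent.Lib.CharInd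
  Cfsg.Agent.Lib.CharInduction Cfsg.Agent.Lib.CharKernel Cfsg.Agent.Lib.FixedIrr
  Cfsg.Agent.Lib.InducedIrr Cfsg.Agent.Lib.CharDecomp
open scoped ComplexConjugate

variable {L : Type*} [Group L] [Fintype L] (H : Subgroup L) [hN : H.Normal]

/-- The irreducible characters non-trivial on `H`. -/
def SS : Set (L → ℂ) := {χ | IsIrrCharacter L χ ∧ ∃ h ∈ H, χ h ≠ χ 1}

variable {H}

theorem mem_SS {χ : L → ℂ} : χ ∈ SS H ↔ IsIrrCharacter L χ ∧ ∃ h ∈ H, χ h ≠ χ 1 := Iff.rfl

/-- The induced character is irreducible. -/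
theorem ind_irr (hC : ∀ h ∈ H, h ≠ 1 → Subgroup.centralizer ({h} : Set L) ≤ H) {θ : H → ℂ}
    (hθ : IsIrrCharacter H θ) (hne : θ ≠ fun _ => 1) : IsIrrCharacter L (indFun H θ) := by
  classical
  have := Fintype.ofFinite H
  have hnofix : ∀ x : L, x ∉ H → conjBy H hN x θ ≠ θ := by
    intro x hx hfix
    have hiff := exists_fixed_irr_iff H hN x
    obtain ⟨a, ha, k, hk, he⟩ := hiff.mp ⟨θ, hθ, hne, hfix⟩
    apply hx
    have hcent : k⁻¹ * x ∈ Subgroup.centralizer ({(a : L)} : Set L) := by
      rw [Subgroup.mem_centralizer_singleton_iff]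
      have h2 : x * a = k * a * k⁻¹ * x := by
        rw [← he]; group
      calc k⁻¹ * x * a = k⁻¹ * (x * a) := by group
        _ = k⁻¹ * (k * a * k⁻¹ * x) := by rw [h2]
        _ = a * (k⁻¹ * x) := by group
    have ha' : (a : L) ≠ 1 := fun h => ha (Subtype.ext h)
    have h3 := hC a a.2 ha' hcent
    have h4 := H.mul_mem hk h3
    simpa using h4
  have hstab : Nat.card {g : L // conjBy H hN g θ = θ} = Nat.card H := by
    apply Nat.card_congr
    apply Equiv.subtypeEquivRight
    intro g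
    constructor
    · intro h
      by_contra hg
      exact hnofix g hg h
    · intro hg
      funext a
      rw [conjBy_apply]
      have := isClassFunction_of_isCharacter (IsIrrCharacter.isCharacter hθ) a ⟨g, hg⟩
      exact this
  have hnorm := natCard_mul_classInner_indFun_self H hN θ hθ
  rw [hstab] at hnorm
  have hN0 : (Nat.card H : ℂ) ≠ 0 := Nat.cast_ne_zero.mpr Nat.card_pos.ne'
  have hnorm1 : classInner (indFun H θ) (indFun H θ) = 1 := by
    apply mul_left_cancel₀ hN0
    rw [hnorm, mul_one]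
  exact isIrrCharacter_of_norm_one (indFun_isCharacter H (IsIrrCharacter.isCharacter hθ)) hnorm1

/-- The induced character is non-trivial on `H`. -/
theorem ind_mem (hC : ∀ h ∈ H, h ≠ 1 → Subgroup.centralizer ({h} : Set L) ≤ H) {θ : H → ℂ}
    (hθ : IsIrrCharacter H θ) (hne : θ ≠ fun _ => 1) : indFun H θ ∈ SS H := by
  classical
  let _ : Fintype H := Fintype.ofFinite H
  refine ⟨ind_irr hC hθ hne, ?_⟩
  by_contra hcon
  push Not at hcon
  have h1 := triv_of_ind_eq H H le_rfl (IsIrrCharacter.isCharacter hθ) (fun a ha => hcon a ha)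
  apply hne
  -- `θ` is trivial on everything
  obtain ⟨d, hd⟩ := isIrr_one_pos hθ
  have h2 : ∀ a : H, θ a = θ 1 := fun a => h1 a a.2
  have h3 : classInner θ (fun _ => (1 : ℂ)) ≠ 0 := by
    have : classInner θ (fun _ => (1 : ℂ)) = θ 1 := by
      unfold classInner
      simp only [map_one, mul_one]
      rw [Finset.sum_congr rfl (fun a _ => h2 a)]
      simp only [Finset.sum_const, Finset.card_univ, nsmul_eq_mul, ← Nat.card_eq_fintype_card]
      have hne0 : (Nat.card H : ℂ) ≠ 0 := Nat.cast_ne_zero.mpr Nat.card_pos.ne'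
      field_simp
    rw [this]
    exact isIrr_one_ne_zero hθ
  by_contra hne2
  exact h3 (classInner_irr_ne hθ isIrrCharacter_one hne2)

/-- Members of `SS H` are induced. -/
theorem exists_of_mem (hC : ∀ h ∈ H, h ≠ 1 → Subgroup.centralizer ({h} : Set L) ≤ H) {χ : L → ℂ}
    (hχ : χ ∈ SS H) : ∃ θ : H → ℂ, IsIrrCharacter H θ ∧ θ ≠ (fun _ => 1) ∧ χ = indFun H θ := by
  obtain ⟨θ, hθ, h⟩ := Cfsg.Agent.S1528.result H hC χ hχ.1 hχ.2
  refine ⟨θ, hθ, ?_, h⟩
  rintro rfl
  obtain ⟨n, hn, hne⟩ := hχ.2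
  apply hne
  rw [h]
  have hc : ∀ u : H, indFun H (fun _ : H => (1 : ℂ)) u = (H.index : ℂ) := by
    intro u
    have hinv : conjBy H hN (1 : L) (fun _ : H => (1 : ℂ)) = fun _ => 1 := rfl
    rw [indFun_of_mem_normal H hN]
    simp only [conjBy_apply, Finset.sum_const, Finset.card_univ, nsmul_eq_mul, mul_one]
    have hKne := Cfsg.Agent.Lib.CharInd.natCard_subgroup_ne_zero H
    rw [← Nat.card_eq_fintype_card, ← Subgroup.card_mul_index H]
    push_cast
    field_simp
  have h1 := hc ⟨n, hn⟩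
  have h2 := hc 1
  simp only [OneMemClass.coe_one] at h1 h2
  rw [h1, h2]

/-- Members of `SS H` vanish off `H`. -/
theorem vanish_of_mem (hC : ∀ h ∈ H, h ≠ 1 → Subgroup.centralizer ({h} : Set L) ≤ H) {χ : L → ℂ}
    (hχ : χ ∈ SS H) {g : L} (hg : g ∉ H) : χ g = 0 := by
  obtain ⟨θ, -, -, rfl⟩ := exists_of_mem hC hχ
  exact indFun_of_not_mem_normal H hN θ hg

/-- The degree of an induced character. -/
theorem charDegree_ind {θ : H → ℂ} (hθ : IsCharacter H θ) :
    charDegree (indFun H θ) = H.index * charDegree θ := by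
  have h1 := Cfsg.Agent.Lib.CharInd.indFun_one H θ
  rw [one_eq_charDegree hθ, one_eq_charDegree (indFun_isCharacter H hθ)] at h1
  exact_mod_cast h1

open Classical in
/-- The sum of the squares of the degrees of the members of `SS H`. -/
theorem sum_sq_SS :
    ∑ χ : IrrCharacter L, (if ∃ h ∈ H, (χ : L → ℂ) h ≠ (χ : L → ℂ) 1 then
      charDegree (χ : L → ℂ) ^ 2 else 0) + H.index = Nat.card L := by
  classical
  have h1 := sum_ker_deg_sq H
  have h2 := sum_charDegree_sq (G := L)
  have h3 := Subgroup.card_mul_index H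
  rw [← h3] at h1
  have h4 := Nat.eq_of_mul_eq_mul_left Nat.card_pos h1
  rw [← h2, ← h4, ← Finset.sum_add_distrib]
  refine Finset.sum_congr (by ext; simp) (fun χ _ => ?_)
  by_cases h : ∃ h ∈ H, (χ : L → ℂ) h ≠ (χ : L → ℂ) 1
  · rw [if_pos h, if_neg (by push Not; exact h), add_zero]
  · rw [if_neg h, if_pos (by push Not at h; exact h), zero_add]

end Cfsg.Agent.Lib.FrobIrr9
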