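import Mathlib
import Cfsg.Agent.Lib.CohExt9
import Cfsg.Agent.Lib.CoherenceSys
import Cfsg.Agent.Lib.CharLattice

/-!
# Irreducible characters of equal degree are coherent
-/

set_option autoImplicit false
open Cfsg

namespace Cfsg.Agent.Lib.FrobCoh9

open Cfsg.Agent.Lib.CharBasic Cfsg.Agent.Lib.GenChar Cfsg.Agent.Lib.CoherenceBasic
  Cfsg.Agent.Lib.CoherenceExt Cfsg.Agent.Lib.CoherenceSys Cfsg.Agent.Lib.CharLattice
open scoped ComplexConjugate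

variable {L : Type*} [Group L] [Fintype L] {G : Type*} [Group G] [Fintype G]

/-- The common step: a virtual character `c` of norm one with `⟨c, τ(χ₀ - ψ)⟩ = 1` for all `ψ ≠ χ₀`
gives coherence. -/
theorem coherent_of_anchor (S : Set (L → ℂ)) (hirr : ∀ ξ ∈ S, IsIrrCharacter L ξ)
    (hdeg : ∀ φ ∈ S, ∀ ψ ∈ S, φ 1 = ψ 1) (τ : (L → ℂ) → (G → ℂ))
    (hτ : IsLinearIsometryOn (zspanOn S {1}ᶜ) τ) {χ₀ x₁ : L → ℂ} (hχ₀ : χ₀ ∈ S) (hx₁ : x₁ ∈ S)
    (hne : χ₀ ≠ x₁) (c : G → ℂ) (hc : IsGeneralizedCharacter G c) (hcc : classInner c c = 1)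
    (hcv : ∀ ψ ∈ S, ψ ≠ χ₀ → classInner c (τ (χ₀ - ψ)) = 1) :
    IsCoherent S {1}ᶜ τ := by
  classical
  have hdiff : ∀ φ ∈ S, ∀ ψ ∈ S, φ - ψ ∈ zspanOn S {1}ᶜ := by
    intro φ hφ ψ hψ
    rw [mem_zspanOn_compl_one]
    exact ⟨zspan_sub (mem_zspan hφ) (mem_zspan hψ), by simp [hdeg φ hφ ψ hψ]⟩
  have hvc : ∀ ψ ∈ S, ψ ≠ χ₀ → classInner (τ (χ₀ - ψ)) c = 1 := by
    intro ψ hψ h
    rw [← classInner_conj_symm, hcv ψ hψ h]
    simp
  have horth : ∀ x ∈ S, ∀ y ∈ S, x ≠ y → classInner x y = 0 := fun x hx y hy hxy =>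
    classInner_irr_ne (hirr x hx) (hirr y hy) hxy
  have hself : ∀ x ∈ S, classInner x x = 1 := fun x hx => classInner_irr_self (hirr x hx)
  set f : (L → ℂ) → (G → ℂ) := fun ψ => c - τ (χ₀ - ψ) with hf
  have hf0 : f χ₀ = c := by
    simp only [hf, sub_self]
    rw [iso_zero hτ (zspanOn_zero S _), sub_zero]
  have hfi : ∀ x ∈ S, ∀ y ∈ S, classInner (f x) (f y) = classInner x y := by
    intro x hx y hy
    have hexp : classInner (f x) (f y) = classInner c c - classInner c (τ (χ₀ - y))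
        - (classInner (τ (χ₀ - x)) c - classInner (τ (χ₀ - x)) (τ (χ₀ - y))) := by
      simp only [hf, classInner_sub_left, classInner_sub_right]
      ring
    rw [hexp, iso_inner hτ (hdiff _ hχ₀ _ hx) (hdiff _ hχ₀ _ hy), hcc]
    by_cases hx0 : x = χ₀
    · by_cases hy0 : y = χ₀
      · subst hx0
        subst hy0
        simp only [sub_self, iso_zero hτ (zspanOn_zero S _), classInner_zero_left,
          classInner_zero_right]
        rw [hself _ hχ₀]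
        ring
      · subst hx0
        rw [hcv y hy hy0]
        simp only [sub_self, iso_zero hτ (zspanOn_zero S _), classInner_zero_left]
        rw [horth _ hx _ hy (fun h => hy0 h.symm)]
    · by_cases hy0 : y = χ₀
      · subst hy0
        rw [hvc x hx hx0]
        simp only [sub_self, iso_zero hτ (zspanOn_zero S _), classInner_zero_right]
        rw [horth _ hx _ hy hx0]
      · rw [hvc x hx hx0, hcv y hy hy0]
        simp only [classInner_sub_left, classInner_sub_right]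
        rw [horth _ hχ₀ _ hy (fun h => hy0 h.symm), horth _ hx _ hχ₀ hx0, hself _ hχ₀]
        ring
  have hfg : ∀ x ∈ S, IsGeneralizedCharacter G (f x) := fun x hx =>
    isGen_sub hc (iso_gen hτ (hdiff _ hχ₀ _ hx))
  obtain ⟨τ₁, hτ₁, hτ₁v⟩ := exists_iso_of_values
    (fun x hx => by rw [hself x hx]; exact one_ne_zero) horth f hfi hfg
  have hd0 : χ₀ 1 ≠ 0 := isIrr_one_ne_zero (hirr χ₀ hχ₀)
  have hdecomp : ∀ θ ∈ zspan S, ∃ c : ℤ, θ - c • χ₀ ∈ zspanOn S {1}ᶜ ∧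
      τ₁ θ - c • τ₁ χ₀ = τ (θ - c • χ₀) := by
    intro θ hθ
    have hθ' := hθ
    unfold zspan at hθ'
    induction hθ' using Submodule.span_induction with
    | mem ψ hψ =>
      refine ⟨1, by simpa using hdiff ψ hψ χ₀ hχ₀, ?_⟩
      rw [one_smul, one_smul, hτ₁v ψ hψ, hτ₁v χ₀ hχ₀, hf0]
      simp only [hf]
      have e : ψ - χ₀ = -(χ₀ - ψ) := by abel
      rw [e, iso_neg hτ (hdiff _ hχ₀ _ hψ)]
      abel
    | zero =>
      refine ⟨0, by simpa using zspanOn_zero S _, ?_⟩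
      rw [zero_smul, zero_smul, sub_zero, sub_zero, iso_zero hτ₁ (zspan_zero S),
        iso_zero hτ (zspanOn_zero S _)]
    | add x y hx hy ihx ihy =>
      obtain ⟨c₁, h1, h2⟩ := ihx hx
      obtain ⟨c₂, h3, h4⟩ := ihy hy
      refine ⟨c₁ + c₂, ?_, ?_⟩
      · have e : x + y - (c₁ + c₂) • χ₀ = (x - c₁ • χ₀) + (y - c₂ • χ₀) := by
          rw [add_smul]; abel
        rw [e]
        exact zspanOn_add h1 h3
      · have e : x + y - (c₁ + c₂) • χ₀ = (x - c₁ • χ₀) + (y - c₂ • χ₀) := by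
          rw [add_smul]; abel
        rw [e, iso_add hτ h1 h3, ← h2, ← h4, iso_add hτ₁ hx hy, add_smul]
        abel
    | smul k x hx ihx =>
      obtain ⟨c, h1, h2⟩ := ihx hx
      refine ⟨k * c, ?_, ?_⟩
      · have e : k • x - (k * c) • χ₀ = k • (x - c • χ₀) := by
          rw [smul_sub, mul_smul]
        rw [e]
        exact zspanOn_zsmul h1 k
      · have e : k • x - (k * c) • χ₀ = k • (x - c • χ₀) := by
          rw [smul_sub, mul_smul]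
        rw [e, iso_zsmul hτ h1, ← h2, iso_zsmul hτ₁ hx, smul_sub, mul_smul]
  refine ⟨⟨χ₀ - x₁, hdiff _ hχ₀ _ hx₁, ?_⟩, τ₁, hτ₁, ?_⟩
  · intro h
    exact hne (sub_eq_zero.mp h)
  · intro θ hθ
    obtain ⟨c, h1, h2⟩ := hdecomp θ hθ.1
    have h3 := (mem_zspanOn_compl_one.mp h1).2
    have h4 := (mem_zspanOn_compl_one.mp hθ).2
    simp only [Pi.sub_apply, zsmul_apply, h4, zero_sub, neg_eq_zero] at h3
    have hc : c = 0 := by
      have := (mul_eq_zero.mp h3).resolve_right hd0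
      exact_mod_cast this
    subst hc
    simpa using h2

/-- A set of at least two irreducible characters of the same degree is coherent, for every
isometry on the combinations of degree zero with values of degree zero. -/
theorem coherent_same_degree (S : Set (L → ℂ)) (hirr : ∀ ξ ∈ S, IsIrrCharacter L ξ)
    (hdeg : ∀ φ ∈ S, ∀ ψ ∈ S, φ 1 = ψ 1) (h2 : ∃ a ∈ S, ∃ b ∈ S, a ≠ b) (τ : (L → ℂ) → (G → ℂ))
    (hτ : IsLinearIsometryOn (zspanOn S {1}ᶜ) τ) (hτ1 : ∀ α ∈ zspanOn S {1}ᶜ, τ α 1 = 0) :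
    IsCoherent S {1}ᶜ τ := by
  classical
  obtain ⟨χ₀, hχ₀, x₁, hx₁, hne⟩ := h2
  have hdiff : ∀ φ ∈ S, ∀ ψ ∈ S, φ - ψ ∈ zspanOn S {1}ᶜ := by
    intro φ hφ ψ hψ
    rw [mem_zspanOn_compl_one]
    exact ⟨zspan_sub (mem_zspan hφ) (mem_zspan hψ), by simp [hdeg φ hφ ψ hψ]⟩
  have horth : ∀ x ∈ S, ∀ y ∈ S, x ≠ y → classInner x y = 0 := fun x hx y hy hxy =>
    classInner_irr_ne (hirr x hx) (hirr y hy) hxy
  have hself : ∀ x ∈ S, classInner x x = 1 := fun x hx => classInner_irr_self (hirr x hx)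
  -- the differences
  have hpair : ∀ ψ ∈ S, ψ ≠ χ₀ → ∃ a b : G → ℂ, IsIrrCharacter G a ∧ IsIrrCharacter G b ∧ a ≠ b ∧
      τ (χ₀ - ψ) = a - b := by
    intro ψ hψ h
    apply exists_sub_of_norm_two (iso_gen hτ (hdiff _ hχ₀ _ hψ))
    · rw [iso_inner hτ (hdiff _ hχ₀ _ hψ) (hdiff _ hχ₀ _ hψ)]
      simp only [classInner_sub_left, classInner_sub_right]
      rw [hself _ hχ₀, hself _ hψ, horth _ hχ₀ _ hψ (Ne.symm h), horth _ hψ _ hχ₀ h]
      ring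
    · exact hτ1 _ (hdiff _ hχ₀ _ hψ)
  have hin : ∀ ψ ∈ S, ∀ ψ' ∈ S, ψ ≠ χ₀ → ψ' ≠ χ₀ → ψ ≠ ψ' →
      classInner (τ (χ₀ - ψ)) (τ (χ₀ - ψ')) = 1 := by
    intro ψ hψ ψ' hψ' h h' hh
    rw [iso_inner hτ (hdiff _ hχ₀ _ hψ) (hdiff _ hχ₀ _ hψ')]
    simp only [classInner_sub_left, classInner_sub_right]
    rw [hself _ hχ₀, horth _ hχ₀ _ hψ' (Ne.symm h'), horth _ hψ _ hχ₀ h, horth _ hψ _ hψ' hh]
    ring
  obtain ⟨a₁, b₁, ha₁, hb₁, hab₁, hv₁⟩ := hpair x₁ hx₁ (Ne.symm hne)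
  -- the two possibilities are exclusive for pairs
  by_cases hA : ∀ ψ ∈ S, ψ ≠ χ₀ → ∃ b : G → ℂ, IsIrrCharacter G b ∧ a₁ ≠ b ∧ τ (χ₀ - ψ) = a₁ - b
  · refine coherent_of_anchor S hirr hdeg τ hτ hχ₀ hx₁ hne a₁ (isGen_of_isIrr ha₁)
      (classInner_irr_self ha₁) ?_
    intro ψ hψ h
    obtain ⟨b, hb, hab, hv⟩ := hA ψ hψ h
    rw [hv, classInner_sub_right, classInner_irr_self ha₁, classInner_irr_ne ha₁ hb hab, sub_zero]
  · push Not at hA
    obtain ⟨ψ₂, hψ₂, h₂, hno⟩ := hA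
    obtain ⟨a₂, b₂, ha₂, hb₂, hab₂, hv₂⟩ := hpair ψ₂ hψ₂ h₂
    have hx₁ψ₂ : x₁ ≠ ψ₂ := by
      rintro rfl
      rw [hv₁] at hv₂
      exact absurd hv₁ (fun h => hno b₁ hb₁ hab₁ h)
    have hrel := rel_of_classInner_eq_one ha₁ hb₁ ha₂ hb₂ hab₁ hab₂ (by
      rw [← hv₁, ← hv₂]
      exact hin _ hx₁ _ hψ₂ (Ne.symm hne) h₂ hx₁ψ₂)
    have hb12 : b₁ = b₂ ∧ a₁ ≠ a₂ := by
      rcases hrel with ⟨h3, -⟩ | h3
      · exfalso
        exact hno b₂ hb₂ (by rw [h3]; exact hab₂) (by rw [h3]; exact hv₂)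
      · exact h3
    have hbuniv : ∀ ψ ∈ S, ψ ≠ χ₀ → ∃ a : G → ℂ, IsIrrCharacter G a ∧ a ≠ b₁ ∧ τ (χ₀ - ψ) = a - b₁ := by
      intro ψ hψ h
      by_cases hψ1 : ψ = x₁
      · exact ⟨a₁, ha₁, hab₁, by rw [hψ1]; exact hv₁⟩
      by_cases hψ2 : ψ = ψ₂
      · exact ⟨a₂, ha₂, by rw [hb12.1]; exact hab₂, by rw [hψ2, hb12.1]; exact hv₂⟩
      obtain ⟨a, b, ha, hb, hab, hv⟩ := hpair ψ hψ h
      have hrel1 := rel_of_classInner_eq_one ha₁ hb₁ ha hb hab₁ hab (by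
        rw [← hv₁, ← hv]
        exact hin _ hx₁ _ hψ (Ne.symm hne) h (Ne.symm hψ1))
      have hrel2 := rel_of_classInner_eq_one ha₂ hb₂ ha hb hab₂ hab (by
        rw [← hv₂, ← hv]
        exact hin _ hψ₂ _ hψ h₂ h (Ne.symm hψ2))
      rcases hrel1 with ⟨h3, h4⟩ | ⟨h3, -⟩
      · rcases hrel2 with ⟨h5, -⟩ | ⟨h5, -⟩
        · exact absurd (h3.trans h5.symm) hb12.2
        · rw [← hb12.1] at h5
          exact absurd h5 h4
      · exact ⟨a, ha, by rw [h3]; exact hab, by rw [h3]; exact hv⟩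
    refine coherent_of_anchor S hirr hdeg τ hτ hχ₀ hx₁ hne (-b₁) (isGen_neg (isGen_of_isIrr hb₁))
      ?_ ?_
    · rw [classInner_neg_left, classInner_neg_right, classInner_irr_self hb₁]
      ring
    · intro ψ hψ h
      obtain ⟨a, ha, hab, hv⟩ := hbuniv ψ hψ h
      rw [hv, classInner_neg_left, classInner_sub_right, classInner_irr_self hb₁,
        classInner_irr_ne hb₁ ha (Ne.symm hab)]
      ring

end Cfsg.Agent.Lib.FrobCoh9
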