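import Mathlib
import Cfsg.Agent.Lib.FrobCoh9
import Cfsg.Agent.Lib.CharKernel

/-!
# Iterations of the coherence criterion for finite sets of irreducible characters
-/

set_option autoImplicit false
set_option linter.unusedSectionVars false
open Cfsg

namespace Cfsg.Agent.Lib.CohLoop9

open Cfsg.Agent.Lib.CharBasic Cfsg.Agent.Lib.GenChar Cfsg.Agent.Lib.CharKernel
  Cfsg.Agent.Lib.CoherenceBasic Cfsg.Agent.Lib.FrobCoh9 Cfsg.Agent.Lib.CohExt9

variable {L : Type*} [Group L] [Fintype L] {G : Type*} [Group G] [Fintype G]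

/-- Adding the members of `F` to the coherent set `B` one at a time. -/
theorem coherent_add_all {B F : Finset (L → ℂ)} (hBF : B ⊆ F)
    (hFirr : ∀ ξ ∈ F, IsIrrCharacter L ξ) (τ : (L → ℂ) → (G → ℂ))
    (hτ : IsLinearIsometryOn (zspanOn (↑F : Set (L → ℂ)) {1}ᶜ) τ)
    (hτ1 : ∀ α ∈ zspanOn (↑F : Set (L → ℂ)) {1}ᶜ, τ α 1 = 0)
    (hB : IsCoherent (↑B : Set (L → ℂ)) {1}ᶜ τ) {ψ : L → ℂ} (hψ : ψ ∈ B)
    (hdvd : ∀ ξ ∈ F, ξ ∉ B → charDegree ψ ∣ charDegree ξ)
    (hlt : ∀ ξ ∈ F, ξ ∉ B → 2 * charDegree ψ * charDegree ξ < ∑ η ∈ B, charDegree η ^ 2) :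
    IsCoherent (↑F : Set (L → ℂ)) {1}ᶜ τ := by
  classical
  have hind : ∀ s : Finset (L → ℂ), s ⊆ F \ B → IsCoherent (↑(B ∪ s) : Set (L → ℂ)) {1}ᶜ τ := by
    intro s
    induction s using Finset.induction_on with
    | empty =>
      intro _
      rw [Finset.union_empty]
      exact hB
    | insert a s has ih =>
      intro hs
      have hsub : s ⊆ F \ B := fun x hx => hs (Finset.mem_insert_of_mem hx)
      have haF : a ∈ F \ B := hs (Finset.mem_insert_self _ _)
      have ha1 := Finset.mem_sdiff.mp haF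
      have hcoh := ih hsub
      have hsubF : B ∪ s ⊆ F := Finset.union_subset hBF (fun x hx => (Finset.mem_sdiff.mp (hsub hx)).1)
      rw [Finset.union_insert]
      have hsubF2 : (↑(insert a (B ∪ s)) : Set (L → ℂ)) ⊆ (↑F : Set (L → ℂ)) := by
        intro x hx
        rcases Finset.mem_insert.mp hx with rfl | hx
        · exact ha1.1
        · exact hsubF hx
      refine extend_coh (B ∪ s) a (fun ξ hξ => hFirr ξ (hsubF hξ)) (hFirr a ha1.1) ?_ charDegree ?_ τ
        (iso_mono hτ (zspanOn_mono hsubF2)) (fun α hα => hτ1 α (zspanOn_mono hsubF2 hα)) hcoh ψ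
        (Finset.mem_union_left _ hψ) (hdvd a ha1.1 ha1.2) ?_
      · intro h
        rcases Finset.mem_union.mp h with h | h
        · exact ha1.2 h
        · exact has h
      · intro ξ hξ
        exact one_eq_charDegree (IsIrrCharacter.isCharacter (hFirr ξ (hsubF2 hξ)))
      · refine lt_of_lt_of_le (hlt a ha1.1 ha1.2) ?_
        exact Finset.sum_le_sum_of_subset_of_nonneg Finset.subset_union_left
          (fun _ _ _ => Nat.zero_le _)
  have h := hind (F \ B) subset_rfl
  rwa [Finset.union_sdiff_of_subset hBF] at h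

/-- The coherence loop for a finite set of irreducible characters with all degrees divisible by
a smallest degree, attained at least twice. -/
theorem coherent_loop (F : Finset (L → ℂ)) (hFirr : ∀ ξ ∈ F, IsIrrCharacter L ξ)
    (τ : (L → ℂ) → (G → ℂ))
    (hτ : IsLinearIsometryOn (zspanOn (↑F : Set (L → ℂ)) {1}ᶜ) τ)
    (hτ1 : ∀ α ∈ zspanOn (↑F : Set (L → ℂ)) {1}ᶜ, τ α 1 = 0)
    {a b : L → ℂ} (ha : a ∈ F) (hb : b ∈ F) (hab : a ≠ b) (hdab : charDegree a = charDegree b)
    (hdvd : ∀ ξ ∈ F, charDegree a ∣ charDegree ξ)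
    (hstep : ∀ ξ ∈ F, charDegree a ≠ charDegree ξ →
      2 * charDegree a * charDegree ξ <
        ∑ η ∈ F.filter (fun η => charDegree η < charDegree ξ), charDegree η ^ 2) :
    IsCoherent (↑F : Set (L → ℂ)) {1}ᶜ τ := by
  classical
  set d : (L → ℂ) → ℕ := charDegree with hd
  have hd1 : ∀ ξ ∈ F, ξ 1 = (d ξ : ℂ) := fun ξ hξ =>
    one_eq_charDegree (IsIrrCharacter.isCharacter (hFirr ξ hξ))
  have hpos : ∀ ξ ∈ F, 0 < d ξ := fun ξ hξ => charDegree_pos (hFirr ξ hξ)
  set S₀ := F.filter (fun ξ => d ξ = d a) with hS₀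
  have hS₀F : S₀ ⊆ F := Finset.filter_subset _ _
  have haS : a ∈ S₀ := Finset.mem_filter.mpr ⟨ha, rfl⟩
  have hbS : b ∈ S₀ := Finset.mem_filter.mpr ⟨hb, hdab.symm⟩
  have hbase : IsCoherent (↑S₀ : Set (L → ℂ)) {1}ᶜ τ := by
    apply coherent_same_degree (↑S₀ : Set (L → ℂ)) (fun ξ hξ => hFirr ξ (hS₀F hξ))
    · intro φ hφ ψ hψ
      rw [hd1 φ (hS₀F hφ), hd1 ψ (hS₀F hψ), (Finset.mem_filter.mp hφ).2, (Finset.mem_filter.mp hψ).2]
    · exact ⟨a, haS, b, hbS, hab⟩
    · exact iso_mono hτ (zspanOn_mono (fun ξ hξ => hS₀F hξ))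
    · exact fun α hα => hτ1 α (zspanOn_mono (fun ξ hξ => hS₀F hξ) hα)
  have hind : ∀ n : ℕ, ∀ X : Finset (L → ℂ), X.card = n → S₀ ⊆ X → X ⊆ F →
      (∀ χ ∈ X, ∀ ξ ∈ F, d ξ < d χ → ξ ∈ X) → IsCoherent (↑X : Set (L → ℂ)) {1}ᶜ τ := by
    intro n
    induction n with
    | zero =>
      intro X hX hSX
      rw [Finset.card_eq_zero] at hX
      subst hX
      exact absurd (hSX haS) (by simp)
    | succ n ih =>
      intro X hX hSX hXF hdown
      by_cases hXS : X = S₀
      · rw [hXS]; exact hbase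
      have hXne : X.Nonempty := by
        rw [← Finset.card_pos]; omega
      obtain ⟨χ, hχX, hχmax⟩ := Finset.exists_max_image X d hXne
      have hχnot : χ ∉ S₀ := by
        intro hχ
        apply hXS
        apply Finset.Subset.antisymm _ hSX
        intro ξ hξ
        rw [hS₀, Finset.mem_filter]
        refine ⟨hXF hξ, ?_⟩
        have h1 := hχmax ξ hξ
        rw [(Finset.mem_filter.mp hχ).2] at h1
        exact le_antisymm h1 (Nat.le_of_dvd (hpos ξ (hXF hξ)) (hdvd ξ (hXF hξ)))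
      set X' := X.erase χ with hX'
      have hinsert : insert χ X' = X := Finset.insert_erase hχX
      have hχX' : χ ∉ X' := Finset.notMem_erase _ _
      have hcard' : X'.card = n := by
        rw [hX', Finset.card_erase_of_mem hχX]; omega
      have hSX' : S₀ ⊆ X' := by
        intro ξ hξ
        refine Finset.mem_erase.mpr ⟨?_, hSX hξ⟩
        rintro rfl
        exact hχnot hξ
      have hX'F : X' ⊆ F := (Finset.erase_subset _ _).trans hXF
      have hdown' : ∀ φ ∈ X', ∀ ξ ∈ F, d ξ < d φ → ξ ∈ X' := by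
        intro φ hφ ξ hξ hlt
        refine Finset.mem_erase.mpr ⟨?_, hdown φ (Finset.mem_of_mem_erase hφ) ξ hξ hlt⟩
        rintro rfl
        have := hχmax φ (Finset.mem_of_mem_erase hφ)
        omega
      have hcoh := ih X' hcard' hSX' hX'F hdown'
      rw [← hinsert]
      have hχF := hXF hχX
      have hne : d a ≠ d χ := by
        intro h
        exact hχnot (Finset.mem_filter.mpr ⟨hχF, h.symm⟩)
      have hsubS : (↑(insert χ X') : Set (L → ℂ)) ⊆ (↑F : Set (L → ℂ)) := by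
        rw [hinsert]
        exact fun ξ hξ => hXF hξ
      refine extend_coh X' χ (fun ξ hξ => hFirr ξ (hX'F hξ)) (hFirr χ hχF) hχX' d ?_ τ
        (iso_mono hτ (zspanOn_mono hsubS)) (fun α hα => hτ1 α (zspanOn_mono hsubS hα)) hcoh a
        (hSX' haS) (hdvd χ hχF) ?_
      · intro ξ hξ
        rw [hinsert] at hξ
        exact hd1 ξ (hXF hξ)
      · refine lt_of_lt_of_le (hstep χ hχF hne) ?_
        refine Finset.sum_le_sum_of_subset_of_nonneg ?_ (fun _ _ _ => Nat.zero_le _)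
        intro ξ hξ
        have h1 := Finset.mem_filter.mp hξ
        refine Finset.mem_erase.mpr ⟨?_, hdown χ hχX ξ h1.1 h1.2⟩
        rintro rfl
        exact absurd h1.2 (lt_irrefl _)
  exact hind F.card F rfl hS₀F subset_rfl (fun _ _ ξ hξ _ => hξ)

end Cfsg.Agent.Lib.CohLoop9
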