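import Mathlib
import Cfsg.Agent.Lib.CharInd
import Cfsg.Agent.Lib.FrobeniusSchur
import Cfsg.Agent.Lib.Clifford

/-!
# The Frobenius-Schur indicator of an irreducible induced character

If `ψ ∈ Irr(I)` is real valued and `Ind ψ` is irreducible then `ν(Ind ψ) = ν(ψ)`.
-/

set_option autoImplicit false
set_option linter.unusedSectionVars false
set_option linter.unusedVariables false
set_option linter.style.haveILetI false

namespace Cfsg.Agent.Lib.FSInd

open Cfsg Cfsg.Agent.Lib.CharBasic Cfsg.Agent.Lib.CharInd Cfsg.Agent.Lib.FrobeniusSchur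
open scoped ComplexConjugate Matrix

universe u

section Orth

variable {W : Type*} [Group W] [Fintype W] {n : Type*} [Fintype n] [DecidableEq n]

/-- The map `X ↦ A X Bᵀ`. -/
def sand2 (A B : Matrix n n ℂ) : Matrix n n ℂ →ₗ[ℂ] Matrix n n ℂ where
  toFun X := A * X * Bᵀ
  map_add' X Y := by rw [mul_add, add_mul]
  map_smul' c X := by simp

theorem sand2_apply (A B X : Matrix n n ℂ) : sand2 A B X = A * X * Bᵀ := rfl

theorem sand2_comp (A B C D : Matrix n n ℂ) : sand2 A B ∘ₗ sand2 C D = sand2 (A * C) (B * D) := by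
  apply LinearMap.ext
  intro X
  simp only [LinearMap.comp_apply, sand2_apply, Matrix.transpose_mul, Matrix.mul_assoc]

theorem sand2_single_apply (A B : Matrix n n ℂ) (i j k l : n) :
    sand2 A B (Matrix.single i j 1) k l = A k i * B l j := by
  rw [sand2_apply, Matrix.mul_apply, Finset.sum_eq_single j]
  · rw [Matrix.mul_single_apply_same, mul_one, Matrix.transpose_apply]
  · intro b _ hb
    rw [Matrix.mul_single_apply_of_ne (hbj := hb), zero_mul]
  · intro h; exact absurd (Finset.mem_univ _) h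

theorem trace_sand2 (A B : Matrix n n ℂ) :
    LinearMap.trace ℂ _ (sand2 A B) = A.trace * B.trace := by
  rw [trace_matrix_linear]
  simp_rw [sand2_single_apply]
  rw [Matrix.trace, Matrix.trace, Finset.sum_mul_sum]
  rfl

/-- Schur orthogonality. -/
theorem sum_entries_eq_zero (A B : W →* Matrix n n ℂ)
    (h : ∑ w, (A w).trace * (B w).trace = 0) (i j k l : n) :
    ∑ w, A w i j * B w k l = 0 := by
  classical
  have hW : (Fintype.card W : ℂ) ≠ 0 := by
    exact_mod_cast Fintype.card_ne_zero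
  let E : Matrix n n ℂ →ₗ[ℂ] Matrix n n ℂ :=
    (Fintype.card W : ℂ)⁻¹ • ∑ w, sand2 (A w) (B w)
  have hE : IsIdempotentElem E := by
    show E ∘ₗ E = E
    have h1 : ∀ a : W, sand2 (A a) (B a) ∘ₗ E = E := by
      intro a
      show sand2 (A a) (B a) ∘ₗ ((Fintype.card W : ℂ)⁻¹ • ∑ w, sand2 (A w) (B w)) =
        (Fintype.card W : ℂ)⁻¹ • ∑ w, sand2 (A w) (B w)
      rw [LinearMap.comp_smul]
      congr 1
      have h2 : sand2 (A a) (B a) ∘ₗ (∑ w, sand2 (A w) (B w)) =
          ∑ w, sand2 (A a) (B a) ∘ₗ sand2 (A w) (B w) := by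
        apply LinearMap.ext
        intro X
        simp [LinearMap.sum_apply]
      rw [h2]
      simp only [sand2_comp, ← map_mul]
      exact Fintype.sum_equiv (Equiv.mulLeft a) _ _ fun w => rfl
    have h3 : E ∘ₗ E = (Fintype.card W : ℂ)⁻¹ • ∑ w, sand2 (A w) (B w) ∘ₗ E := by
      apply LinearMap.ext
      intro X
      simp [E, LinearMap.sum_apply]
    rw [h3]
    simp only [h1, Finset.sum_const, Finset.card_univ]
    rw [← Nat.cast_smul_eq_nsmul ℂ, smul_smul, inv_mul_cancel₀ hW, one_smul]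
  have htr : LinearMap.trace ℂ _ E = 0 := by
    simp only [E, map_smul, map_sum, trace_sand2, h, smul_zero]
  have hE0 : E = 0 := (LinearMap.IsIdempotentElem.trace_eq_zero_iff hE).mp htr
  have h4 := congrArg (fun f : Matrix n n ℂ →ₗ[ℂ] Matrix n n ℂ => f (Matrix.single j l 1) i k) hE0
  simp only [E, LinearMap.smul_apply, LinearMap.sum_apply, Matrix.smul_apply, Matrix.sum_apply,
    sand2_single_apply, LinearMap.zero_apply, Matrix.zero_apply, smul_eq_mul] at h4
  rcases mul_eq_zero.mp h4 with h5 | h5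
  · exact absurd h5 (inv_ne_zero hW)
  · exact h5

end Orth

section Ind

variable {G : Type u} [Group G] [Fintype G] (I : Subgroup G) [Fintype I]

/-- The subgroup of `a ∈ I` with `g a g⁻¹ ∈ I`. -/
def wSub (g : G) : Subgroup I := (I.map (MulAut.conj g⁻¹).toMonoidHom).subgroupOf I

theorem mem_wSub {g : G} {a : I} : a ∈ wSub I g ↔ g * a * g⁻¹ ∈ I := by
  unfold wSub
  rw [Subgroup.mem_subgroupOf, Subgroup.mem_map]
  constructor
  · rintro ⟨b, hb, hba⟩
    have : b = g * a * g⁻¹ := by
      rw [← hba]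
      simp [MulAut.conj_apply]
      group
    rwa [← this]
  · intro h
    refine ⟨_, h, ?_⟩
    simp [MulAut.conj_apply]
    group

/-- Conjugation by `g` from `wSub I g` into `I`. -/
def wHom (g : G) : wSub I g →* I where
  toFun w := ⟨g * ((w : I) : G) * g⁻¹, mem_wSub I |>.mp w.2⟩
  map_one' := by
    apply Subtype.ext
    simp
  map_mul' a b := by
    apply Subtype.ext
    simp [mul_assoc]

@[simp] theorem wHom_coe (g : G) (w : wSub I g) : ((wHom I g w : I) : G) = g * ((w : I) : G) * g⁻¹ := rfl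

/-- `K g = ∑_{a ∈ I} ψ(a) conj(ψ°(g a g⁻¹))`. -/
noncomputable def kSum (ψ : I → ℂ) (g : G) : ℂ :=
  ∑ a : I, ψ a * conj (extendByZero I ψ (g * a * g⁻¹))

theorem kSum_eq (ψ : I → ℂ) (g : G) [Fintype (wSub I g)] :
    kSum I ψ g = ∑ w : wSub I g, ψ (w : I) * conj (ψ (wHom I g w)) := by
  classical
  unfold kSum
  have h1 : ∀ a : I, ψ a * conj (extendByZero I ψ (g * a * g⁻¹)) =
      extendByZero (wSub I g) (fun w => ψ (w : I) * conj (ψ (wHom I g w))) a := by
    intro a
    by_cases ha : a ∈ wSub I g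
    · rw [extendByZero_of_mem _ _ ha, extendByZero_of_mem I ψ ((mem_wSub I).mp ha)]
      rfl
    · rw [extendByZero_of_not_mem _ _ ha, extendByZero_of_not_mem I ψ (fun h => ha ((mem_wSub I).mpr h))]
      simp
  simp only [h1]
  exact sum_extendByZero (wSub I g) _

/-- For `g ∉ I`, irreducibility of the induced character forces `K g = 0`. -/
theorem kSum_eq_zero {ψ : I → ℂ} (hψ : IsIrrCharacter I ψ)
    (hχ : IsIrrCharacter G (indFun I ψ)) {g : G} (hg : g ∉ I) : kSum I ψ g = 0 := by
  classical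
  have hψc := IsIrrCharacter.isCharacter hψ
  have hcl : IsClassFunction I ψ := isClassFunction_of_isCharacter hψc
  have hI : (Nat.card I : ℂ) ≠ 0 := natCard_subgroup_ne_zero I
  -- nonnegativity
  have hnn : ∀ g : G, ∃ r : ℝ, 0 ≤ r ∧ kSum I ψ g = r := by
    intro g
    haveI : Fintype (wSub I g) := Fintype.ofFinite _
    rw [kSum_eq I ψ g]
    have h1 : IsCharacter (wSub I g) (fun w => ψ (w : I)) := isCharacter_comp (wSub I g).subtype hψc
    have h2 : IsCharacter (wSub I g) (fun w => ψ (wHom I g w)) := isCharacter_comp (wHom I g) hψc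
    obtain ⟨A, hA⟩ := classInner_char_char h1 h2
    have hne : (Nat.card (wSub I g) : ℂ) ≠ 0 := natCard_subgroup_ne_zero _
    refine ⟨(Nat.card (wSub I g) : ℝ) * (A : ℝ), by positivity, ?_⟩
    unfold classInner at hA
    push_cast
    rw [← hA]
    field_simp
  -- the total
  have hk : ∀ g : G, g ∈ I → kSum I ψ g = Nat.card I := by
    intro g hgI
    unfold kSum
    have h1 : ∀ a : I, ψ a * conj (extendByZero I ψ (g * a * g⁻¹)) = ψ a * conj (ψ a) := by
      intro a
      have h2 : g * (a : G) * g⁻¹ ∈ I := I.mul_mem (I.mul_mem hgI a.2) (I.inv_mem hgI)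
      rw [extendByZero_of_mem I ψ h2]
      have h3 := hcl a ⟨g, hgI⟩
      have h4 : ψ ⟨g * (a : G) * g⁻¹, h2⟩ = ψ a := by
        rw [← h3]
        congr 1
      rw [h4]
    simp only [h1]
    have h2 := classInner_irr_self hψ
    unfold classInner at h2
    field_simp at h2
    exact h2
  have htotal : ∑ g : G, kSum I ψ g = (Nat.card I : ℂ) * Nat.card I := by
    have h1 := classInner_irr_self hχ
    rw [frobenius I ψ (indFun_isClassFunction I ψ)] at h1
    unfold classInner at h1
    have h2 : ∀ a : I, ψ a * conj (indFun I ψ a) = (Nat.card I : ℂ)⁻¹ *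
        ∑ x : G, ψ a * conj (extendByZero I ψ (x * a * x⁻¹)) := by
      intro a
      rw [indFun_apply, map_mul, map_sum, map_inv₀, Complex.conj_natCast]
      rw [mul_left_comm, Finset.mul_sum]
      congr 1
      rw [← Equiv.sum_comp (Equiv.inv G)]
      refine Finset.sum_congr rfl fun x _ => ?_
      simp
    simp only [h2] at h1
    rw [← Finset.mul_sum, Finset.sum_comm, ← mul_assoc] at h1
    unfold kSum
    have h3 : (Nat.card I : ℂ)⁻¹ * (Nat.card I : ℂ)⁻¹ *
      ∑ x : G, ∑ a : I, ψ a * conj (extendByZero I ψ (x * a * x⁻¹)) = 1 := h1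
    field_simp at h3
    rw [h3]
    ring
  -- subtract the contribution of `I`
  choose r hr0 hr using hnn
  let s : G → ℝ := fun g => if g ∈ I then 0 else r g
  have hs0 : ∀ g, 0 ≤ s g := by
    intro g
    by_cases h : g ∈ I
    · simp [s, h]
    · simp [s, h, hr0 g]
  have hk' : ∀ g : G, kSum I ψ g = extendByZero I (fun _ => (Nat.card I : ℂ)) g + s g := by
    intro g
    by_cases h : g ∈ I
    · rw [extendByZero_of_mem I _ h, hk g h]
      simp [s, h]
    · rw [extendByZero_of_not_mem I _ h, hr g]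
      simp [s, h]
  have hsum : ((∑ g, s g : ℝ) : ℂ) = 0 := by
    push_cast
    have h1 : ∑ g : G, kSum I ψ g =
        ∑ g : G, extendByZero I (fun _ => (Nat.card I : ℂ)) g + ∑ g : G, (s g : ℂ) := by
      rw [← Finset.sum_add_distrib]
      exact Finset.sum_congr rfl fun g _ => hk' g
    rw [sum_extendByZero I, htotal] at h1
    simp only [Finset.sum_const, Finset.card_univ, nsmul_eq_mul] at h1
    rw [Fintype.card_eq_nat_card] at h1
    simpa using h1.symm
  have hsum' : ∑ g, s g = 0 := by exact_mod_cast hsum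
  have hsg := (Finset.sum_eq_zero_iff_of_nonneg (fun g _ => hs0 g)).mp hsum' g (Finset.mem_univ g)
  rw [hk' g, extendByZero_of_not_mem I _ hg, hsg]
  simp

/-- Key: `∑_{a ∈ I} ψ°((a g)²) = 0` for `g ∉ I`, when `ψ` is real and `Ind ψ` is irreducible. -/
theorem sum_sq_eq_zero {ψ : I → ℂ} (hψ : IsIrrCharacter I ψ) (hreal : ∀ a, (ψ a).im = 0)
    (hχ : IsIrrCharacter G (indFun I ψ)) {g : G} (hg : g ∉ I) :
    ∑ a : I, extendByZero I ψ (((a : G) * g) * ((a : G) * g)) = 0 := by
  classical
  by_cases hex : ∃ a₀ : I, ((a₀ : G) * g) * ((a₀ : G) * g) ∈ I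
  swap
  · push Not at hex
    exact Finset.sum_eq_zero fun a _ => extendByZero_of_not_mem I ψ (hex a)
  obtain ⟨a₀, ha₀⟩ := hex
  set g₀ : G := (a₀ : G) * g with hg₀
  have hg₀I : g₀ ∉ I := by
    intro h
    apply hg
    have : g = (a₀ : G)⁻¹ * g₀ := by rw [hg₀]; group
    rw [this]
    exact I.mul_mem (I.inv_mem a₀.2) h
  have hsq : g₀ * g₀ ∈ I := ha₀
  -- reindex
  have h1 : ∑ a : I, extendByZero I ψ (((a : G) * g) * ((a : G) * g)) =
      ∑ a : I, extendByZero I ψ (((a : G) * g₀) * ((a : G) * g₀)) := by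
    rw [← Equiv.sum_comp (Equiv.mulRight a₀)]
    refine Finset.sum_congr rfl fun a _ => ?_
    simp [hg₀, mul_assoc]
  rw [h1]
  obtain ⟨n, ρ, hρ, rfl⟩ := hψ
  haveI : Fintype (wSub I g₀) := Fintype.ofFinite _
  let Mat : I →* Matrix (Fin (Module.finrank ℂ (Fin n → ℂ))) (Fin (Module.finrank ℂ (Fin n → ℂ))) ℂ :=
    { toFun := matOf ρ
      map_one' := by
        unfold matOf
        simp
      map_mul' := matOf_mul ρ }
  have hMat : ∀ a : I, (Mat a).trace = ρ.character a := trace_matOf ρ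
  let B : wSub I g₀ →* _ := Mat.comp (wSub I g₀).subtype
  let A : wSub I g₀ →* _ := Mat.comp (wHom I g₀)
  have hsum0 : ∑ w, (A w).trace * (B w).trace = 0 := by
    have h2 := kSum_eq_zero I ⟨n, ρ, hρ, rfl⟩ hχ hg₀I
    rw [kSum_eq I _ g₀] at h2
    rw [← h2]
    refine Finset.sum_congr rfl fun w _ => ?_
    show (Mat _).trace * (Mat _).trace = _
    rw [hMat, hMat, mul_comm]
    congr 1
    exact (Complex.conj_eq_iff_im.mpr (hreal _)).symm
  have hort := sum_entries_eq_zero A B hsum0
  -- the square lies in `I`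
  let M := Mat ⟨g₀ * g₀, hsq⟩
  have h3 : ∀ a : I, extendByZero I ρ.character (((a : G) * g₀) * ((a : G) * g₀)) =
      extendByZero (wSub I g₀) (fun w : wSub I g₀ => (B w * A w * M).trace) a := by
    intro a
    by_cases ha : a ∈ wSub I g₀
    · have h4 : (a : G) * g₀ * ((a : G) * g₀) = (a : G) * (g₀ * a * g₀⁻¹) * (g₀ * g₀) := by group
      have hmem : (a : G) * g₀ * ((a : G) * g₀) ∈ I := by
        rw [h4]
        exact I.mul_mem (I.mul_mem a.2 ((mem_wSub I).mp ha)) hsq
      rw [extendByZero_of_mem I _ hmem, extendByZero_of_mem _ _ ha]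
      have h5 : B ⟨a, ha⟩ * A ⟨a, ha⟩ * M = Mat ⟨(a : G) * g₀ * ((a : G) * g₀), hmem⟩ := by
        show Mat a * Mat (wHom I g₀ ⟨a, ha⟩) * Mat ⟨g₀ * g₀, hsq⟩ = _
        rw [← map_mul, ← map_mul]
        congr 1
        apply Subtype.ext
        simp only [Subgroup.coe_mul, wHom_coe]
        exact h4.symm
      rw [h5, hMat]
    · rw [extendByZero_of_not_mem _ _ ha, extendByZero_of_not_mem]
      intro h
      apply ha
      rw [mem_wSub]
      have h4 : g₀ * a * g₀⁻¹ = (a : G)⁻¹ * ((a : G) * g₀ * ((a : G) * g₀)) * (g₀ * g₀)⁻¹ := by group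
      rw [h4]
      exact I.mul_mem (I.mul_mem (I.inv_mem a.2) h) (I.inv_mem hsq)
  simp only [h3]
  rw [sum_extendByZero (wSub I g₀)]
  have h6 : ∀ w : wSub I g₀, (B w * A w * M).trace =
      ∑ i, ∑ k, ∑ j, (A w j k * B w i j) * M k i := by
    intro w
    simp only [Matrix.trace, Matrix.diag_apply, Matrix.mul_apply, Finset.sum_mul]
    refine Finset.sum_congr rfl fun i _ => Finset.sum_congr rfl fun k _ =>
      Finset.sum_congr rfl fun j _ => ?_
    ring
  simp only [h6]
  rw [Finset.sum_comm]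
  refine Finset.sum_eq_zero fun i _ => ?_
  rw [Finset.sum_comm]
  refine Finset.sum_eq_zero fun k _ => ?_
  rw [Finset.sum_comm]
  refine Finset.sum_eq_zero fun j _ => ?_
  rw [← Finset.sum_mul, hort, zero_mul]

/-- The extension by zero of a function summed over squares. -/
theorem sum_sq_extend {ψ : I → ℂ} (hψ : IsIrrCharacter I ψ) (hreal : ∀ a, (ψ a).im = 0)
    (hχ : IsIrrCharacter G (indFun I ψ)) :
    ∑ g : G, extendByZero I ψ (g * g) = ∑ a : I, ψ (a * a) := by
  classical
  have hI : (Nat.card I : ℂ) ≠ 0 := natCard_subgroup_ne_zero I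
  have h1 : (Nat.card I : ℂ) * ∑ g : G, extendByZero I ψ (g * g) =
      ∑ g : G, ∑ a : I, extendByZero I ψ (((a : G) * g) * ((a : G) * g)) := by
    rw [Finset.sum_comm]
    have h2 : ∀ a : I, ∑ g : G, extendByZero I ψ (((a : G) * g) * ((a : G) * g)) =
        ∑ g : G, extendByZero I ψ (g * g) := fun a =>
      Equiv.sum_comp (Equiv.mulLeft (a : G)) (fun g => extendByZero I ψ (g * g))
    simp only [h2, Finset.sum_const, Finset.card_univ, nsmul_eq_mul]
    rw [Fintype.card_eq_nat_card]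
  have h3 : ∀ g : G, ∑ a : I, extendByZero I ψ (((a : G) * g) * ((a : G) * g)) =
      extendByZero I (fun _ => ∑ a : I, ψ (a * a)) g := by
    intro g
    by_cases hg : g ∈ I
    · rw [extendByZero_of_mem I _ hg]
      have h4 : ∀ a : I, extendByZero I ψ (((a : G) * g) * ((a : G) * g)) =
          ψ ((a * ⟨g, hg⟩) * (a * ⟨g, hg⟩)) := by
        intro a
        exact extendByZero_coe I ψ ((a * ⟨g, hg⟩) * (a * ⟨g, hg⟩))
      simp only [h4]
      exact Equiv.sum_comp (Equiv.mulRight (⟨g, hg⟩ : I)) (fun a => ψ (a * a))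
    · rw [extendByZero_of_not_mem I _ hg]
      exact sum_sq_eq_zero I hψ hreal hχ hg
  simp only [h3] at h1
  rw [sum_extendByZero I] at h1
  simp only [Finset.sum_const, Finset.card_univ, nsmul_eq_mul] at h1
  rw [Fintype.card_eq_nat_card] at h1
  exact mul_left_cancel₀ hI h1

/-- **The indicator of an irreducible induced character.** -/
theorem nu_indFun {ψ : I → ℂ} (hψ : IsIrrCharacter I ψ) (hreal : ∀ a, (ψ a).im = 0)
    (hχ : IsIrrCharacter G (indFun I ψ)) :
    (Nat.card G : ℂ)⁻¹ * ∑ g : G, indFun I ψ (g * g) =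
      (Nat.card I : ℂ)⁻¹ * ∑ a : I, ψ (a * a) := by
  classical
  have hI : (Nat.card I : ℂ) ≠ 0 := natCard_subgroup_ne_zero I
  have hG : (Nat.card G : ℂ) ≠ 0 := natCard_ne_zero'
  rw [← sum_sq_extend I hψ hreal hχ]
  simp only [indFun_apply]
  rw [← Finset.mul_sum, Finset.sum_comm]
  have h1 : ∀ x : G, ∑ g : G, extendByZero I ψ (x⁻¹ * (g * g) * x) = ∑ g : G, extendByZero I ψ (g * g) := by
    intro x
    refine Fintype.sum_equiv (MulAut.conj x⁻¹).toEquiv _ _ fun g => ?_
    simp only [MulEquiv.toEquiv_eq_coe, MulAut.conj_apply, EquivLike.coe_coe]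
    congr 1
    group
  simp only [h1, Finset.sum_const, Finset.card_univ, nsmul_eq_mul]
  rw [Fintype.card_eq_nat_card]
  field_simp

end Ind

end Cfsg.Agent.Lib.FSInd
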