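import Mathlib
import Cfsg.Agent.Lib.FSInd
import Cfsg.Agent.Lib.CosetAvg
import Cfsg.Agent.Lib.DetChar

/-!
# Multiplying an irreducible induced character by linear characters

For a non-abelian minimal normal subgroup `N` and `ψ ∈ Irr(I)` extending `φ ∈ Irr(N)` with `I` the
stabilizer of `φ`: `λ ↦ λ · Ind ψ` on linear characters has fibres of size at most `|G : I|`.
-/

set_option autoImplicit false
set_option linter.unusedSectionVars false
set_option linter.unusedVariables false
set_option linter.style.haveILetI false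

namespace Cfsg.Agent.Lib.LinTwist

open Cfsg Cfsg.Agent.Lib.CharBasic Cfsg.Agent.Lib.CharInd Cfsg.Agent.Lib.FSInd
open Cfsg.Agent.Lib.Clifford Cfsg.Agent.Lib.CosetAvg
open scoped ComplexConjugate

universe u

variable {G : Type u} [Group G]

/-- A homomorphism to `ℂˣ` is trivial on a non-abelian minimal normal subgroup. -/
theorem hom_trivial_of_minNormal {N : Subgroup G} (hN : N.Normal)
    (hmin : ∀ M : Subgroup G, M.Normal → M ≤ N → M = ⊥ ∨ M = N)
    (hna : ¬ IsMulCommutative N) (β : G →* ℂˣ) (n : G) (hn : n ∈ N) : β n = 1 := by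
  haveI := hN
  have h1 : (N ⊓ β.ker) ≤ N := inf_le_left
  rcases hmin _ (Subgroup.normal_inf_normal N β.ker) h1 with h | h
  · exfalso
    apply hna
    refine ⟨⟨fun a b => ?_⟩⟩
    apply Subtype.ext
    have h2 : (a : G) * b * (a : G)⁻¹ * (b : G)⁻¹ ∈ N ⊓ β.ker := by
      refine ⟨N.mul_mem (N.mul_mem (N.mul_mem a.2 b.2) (N.inv_mem a.2)) (N.inv_mem b.2), ?_⟩
      show _ ∈ β.ker
      rw [MonoidHom.mem_ker]
      simp only [map_mul, map_inv]
      rw [mul_comm (β a) (β b)]
      simp
    rw [h, Subgroup.mem_bot] at h2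
    have h3 : (a : G) * b = b * a := by
      have h4 : (a : G) * b * (a : G)⁻¹ = b := by
        have := mul_inv_eq_one.mp h2
        exact this
      calc (a : G) * b = (a : G) * b * (a : G)⁻¹ * a := by group
        _ = b * a := by rw [h4]
    simpa using h3
  · have : n ∈ N ⊓ β.ker := by rw [h]; exact hn
    exact this.2

section Main

variable [Fintype G] (N I : Subgroup G) [hN : N.Normal] [Fintype N] [Fintype I]

/-- Translating the stabilizer hypothesis of the statements. -/
theorem stab_iff {φ : N → ℂ}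
    (hI : ∀ g : G, g ∈ I ↔ ∀ n n' : N, (n' : G) = g * (n : G) * g⁻¹ → φ n' = φ n) :
    ∀ g : G, g ∈ I ↔ ∀ n : N, φ ⟨g * n * g⁻¹, hN.conj_mem (n : G) n.2 g⟩ = φ n := by
  intro g
  rw [hI g]
  constructor
  · intro h n
    exact h n _ rfl
  · intro h n n' hn
    have : n' = ⟨g * n * g⁻¹, hN.conj_mem (n : G) n.2 g⟩ := Subtype.ext hn
    rw [this]
    exact h n

variable {N I}

/-- The induced character does not vanish on any `N`-coset inside `I`. -/
theorem exists_ne_zero_coset {φ : N → ℂ} (hφ : IsIrrCharacter N φ)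
    (hI : ∀ g : G, g ∈ I ↔ ∀ n n' : N, (n' : G) = g * (n : G) * g⁻¹ → φ n' = φ n)
    (hNI : N ≤ I) {ψ : I → ℂ} (hψ : IsIrrCharacter I ψ)
    (hres : ∀ n : N, ψ (Subgroup.inclusion hNI n) = φ n) (x : I) :
    ∃ n : N, indFun I ψ ((n : G) * x) ≠ 0 := by
  classical
  have hover : (fun n : N => ψ ⟨(n : G), hNI n.2⟩) = φ := funext hres
  have hover1 : classInner (fun n : N => ψ ⟨(n : G), hNI n.2⟩) φ = 1 := by
    rw [hover]
    exact classInner_irr_self hφ
  obtain ⟨hχ, hinner⟩ := indFun_irr_of_over N I hφ (stab_iff N I hI) hNI hψ (by rw [hover1]; exact one_ne_zero)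
  rw [hover1] at hinner
  set χ₀ : G → ℂ := indFun I ψ with hχ₀
  let N' : Subgroup I := N.subgroupOf I
  haveI : N'.Normal := Subgroup.Normal.subgroupOf hN I
  haveI : Fintype N' := Fintype.ofFinite _
  let c : I → ℂ := fun a => χ₀ a
  have hcc : IsCharacter I c := isCharacter_restrict I (IsIrrCharacter.isCharacter hχ)
  let f : I → ℂ := cosetAvg N' c ψ
  have hfc : IsCharacter I f := isCharacter_cosetAvg N' hcc (IsIrrCharacter.isCharacter hψ)
  have hf1 : f 1 = 1 := by
    show cosetAvg N' c ψ 1 = 1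
    rw [cosetAvg_one]
    let e : N' ≃* N := Subgroup.subgroupOfEquivOfLe hNI
    have h1 := classInner_comp_mulEquiv e (fun n : N => χ₀ n) (fun n : N => ψ ⟨(n : G), hNI n.2⟩)
    have h2 : classInner (fun n : N => χ₀ n) (fun n : N => ψ ⟨(n : G), hNI n.2⟩) = 1 := by
      rw [hover]
      exact hinner
    rw [h2] at h1
    exact h1
  obtain ⟨β, hβ⟩ := exists_hom_of_degree_one hfc hf1
  have hfirr : IsIrrCharacter I f := by
    have : f = fun g => ((β g : ℂˣ) : ℂ) := funext hβ
    rw [this]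
    exact isIrrCharacter_of_hom β
  have hone : classInner f (fun _ => (1 : ℂ)) = 1 := by
    have h1 := classInner_cosetAvg N' (ψ := c) (χ := ψ) (β := fun _ => (1 : ℂ)) (fun _ _ => rfl)
    have h2 : ((fun _ => (1 : ℂ)) * ψ) = ψ := by
      funext a
      simp
    rw [h2] at h1
    rw [← h1]
    have h3 := classInner_irr_self hχ
    rw [frobenius I ψ (indFun_isClassFunction I ψ)] at h3
    rw [← classInner_conj_symm, h3]
    simp
  have hf_eq : f = fun _ => (1 : ℂ) := by
    by_contra hne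
    have := classInner_irr_ne hfirr isIrrCharacter_one hne
    rw [hone] at this
    exact one_ne_zero this
  by_contra hall
  push Not at hall
  have hx : f x = 0 := by
    show cosetAvg N' c ψ x = 0
    unfold cosetAvg
    rw [Finset.sum_eq_zero, mul_zero]
    intro n _
    have h1 : c ((n : I) * x) = 0 := by
      show χ₀ (((n : I) : G) * x) = 0
      exact hall ⟨((n : I) : G), n.2⟩
    rw [h1, zero_mul]
  rw [hf_eq] at hx
  exact one_ne_zero hx

/-- Two linear characters whose products with the induced character agree, agree on `I`. -/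
theorem eq_on_of_mul_eq {φ : N → ℂ} (hφ : IsIrrCharacter N φ)
    (hmin : ∀ M : Subgroup G, M.Normal → M ≤ N → M = ⊥ ∨ M = N)
    (hna : ¬ IsMulCommutative N)
    (hI : ∀ g : G, g ∈ I ↔ ∀ n n' : N, (n' : G) = g * (n : G) * g⁻¹ → φ n' = φ n)
    (hNI : N ≤ I) {ψ : I → ℂ} (hψ : IsIrrCharacter I ψ)
    (hres : ∀ n : N, ψ (Subgroup.inclusion hNI n) = φ n)
    (β γ : G →* ℂˣ)
    (h : ∀ g, (β g : ℂ) * indFun I ψ g = (γ g : ℂ) * indFun I ψ g) (x : I) :
    β x = γ x := by
  obtain ⟨n, hn⟩ := exists_ne_zero_coset hφ hI hNI hψ hres x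
  have h1 := mul_right_cancel₀ hn (h ((n : G) * x))
  have hβ := hom_trivial_of_minNormal hN hmin hna β n n.2
  have hγ := hom_trivial_of_minNormal hN hmin hna γ n n.2
  rw [map_mul, map_mul, hβ, hγ, one_mul, one_mul] at h1
  exact Units.ext h1

/-- A linear irreducible character is a homomorphism. -/
theorem exists_hom_of_charDegree {χ : G → ℂ} (hχ : IsIrrCharacter G χ) (h : charDegree χ = 1) :
    ∃ β : G →* ℂˣ, ∀ g, χ g = β g := by
  apply exists_hom_of_degree_one (IsIrrCharacter.isCharacter hχ)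
  obtain ⟨d, hd⟩ := isCharacter_one_eq (IsIrrCharacter.isCharacter hχ)
  unfold charDegree at h
  rw [hd] at h ⊢
  simp at h
  rw [h]
  simp

/-- Distinct homomorphisms to `ℂˣ` are linearly independent. -/
theorem linearIndependent_units {G : Type*} [Group G] {ι : Type*} (v : ι → G →* ℂˣ)
    (hinj : Function.Injective fun i => (fun g => ((v i g : ℂˣ) : ℂ))) :
    LinearIndependent ℂ (fun i => (fun g => ((v i g : ℂˣ) : ℂ))) := by
  have h1 : LinearIndependent ℂ (fun f : G →* ℂ => (f : G → ℂ)) := linearIndependent_monoidHom G ℂ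
  have h2 : Function.Injective fun i => ((Units.coeHom ℂ).comp (v i)) := by
    intro a b hab
    apply hinj
    funext g
    have := congrArg (fun f : G →* ℂ => f g) hab
    simpa using this
  have h3 := h1.comp _ h2
  have h4 : (fun i => (fun g => ((v i g : ℂˣ) : ℂ))) =
      (fun f : G →* ℂ => (f : G → ℂ)) ∘ fun i => ((Units.coeHom ℂ).comp (v i)) := by
    funext i g
    simp
  rw [h4]
  exact h3

/-- Characters of a subgroup agreeing on it: the bound for the number of linear characters which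
agree with a given one on `I`. -/
theorem card_le_index_of_agree {ι : Type*} [Fintype ι] (v : ι → G →* ℂˣ)
    (hinj : Function.Injective fun i => (fun g => ((v i g : ℂˣ) : ℂ)))
    {i₀ : ι} (hag : ∀ i (x : I), v i x = v i₀ x) : Fintype.card ι ≤ I.index := by
  classical
  let w : ι → (G ⧸ I) → ℂ := fun i q => (v i q.out : ℂ)
  have hli : LinearIndependent ℂ w := by
    rw [Fintype.linearIndependent_iff]
    intro c hc i
    have hG := linearIndependent_units v hinj
    rw [Fintype.linearIndependent_iff] at hG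
    apply hG c
    funext g
    let q : G ⧸ I := (g : G ⧸ I)
    have hq : q.out⁻¹ * g ∈ I := by
      have : (q.out : G ⧸ I) = g := q.out_eq'
      exact QuotientGroup.eq.mp this
    let y : I := ⟨q.out⁻¹ * g, hq⟩
    have h2 : ∀ i, ((v i g : ℂˣ) : ℂ) = (v i q.out : ℂ) * (v i₀ y : ℂ) := by
      intro i
      have h3 : g = q.out * (y : G) := by simp [y]
      rw [← hag i y]
      conv_lhs => rw [h3]
      rw [map_mul, Units.val_mul]
    have h3 := congrFun hc q
    simp only [Finset.sum_apply, Pi.smul_apply, smul_eq_mul, Pi.zero_apply, w] at h3 ⊢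
    simp only [h2]
    have h4 : ∑ x, c x * ((v x q.out : ℂ) * (v i₀ y : ℂ)) =
        (∑ x, c x * (v x q.out : ℂ)) * (v i₀ y : ℂ) := by
      rw [Finset.sum_mul]
      exact Finset.sum_congr rfl fun x _ => by ring
    rw [h4, h3, zero_mul]
  have h5 := hli.fintype_card_le_finrank
  rw [Module.finrank_fintype_fun_eq_card] at h5
  rw [Subgroup.index_eq_card, Nat.card_eq_fintype_card]
  exact h5

/-- **The counting statement.** -/
theorem card_le_mul {φ : N → ℂ} (hφ : IsIrrCharacter N φ)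
    (hmin : ∀ M : Subgroup G, M.Normal → M ≤ N → M = ⊥ ∨ M = N)
    (hna : ¬ IsMulCommutative N)
    (hI : ∀ g : G, g ∈ I ↔ ∀ n n' : N, (n' : G) = g * (n : G) * g⁻¹ → φ n' = φ n)
    (hNI : N ≤ I) {ψ : I → ℂ} (hψ : IsIrrCharacter I ψ)
    (hres : ∀ n : N, ψ (Subgroup.inclusion hNI n) = φ n)
    (S T : IrrCharacter G → Prop)
    (hS : ∀ χ, S χ → charDegree (χ : G → ℂ) = 1)
    (hST : ∀ χ, S χ → ∀ h : IsIrrCharacter G ((χ : G → ℂ) * indFun I ψ), T ⟨_, h⟩) :
    Nat.card {χ // S χ} ≤ I.index * Nat.card {χ // T χ} := by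
  classical
  have hover : (fun n : N => ψ ⟨(n : G), hNI n.2⟩) = φ := funext hres
  have hover1 : classInner (fun n : N => ψ ⟨(n : G), hNI n.2⟩) φ = 1 := by
    rw [hover]
    exact classInner_irr_self hφ
  obtain ⟨hχ, -⟩ := indFun_irr_of_over N I hφ (stab_iff N I hI) hNI hψ (by rw [hover1]; exact one_ne_zero)
  have hhom : ∀ χ : {χ // S χ}, ∃ β : G →* ℂˣ, ∀ g, (χ.1 : G → ℂ) g = β g := fun χ =>
    exists_hom_of_charDegree χ.1.2 (hS _ χ.2)
  choose hm hhm using hhom
  have hirr : ∀ χ : {χ // S χ}, IsIrrCharacter G ((χ.1 : G → ℂ) * indFun I ψ) := by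
    intro χ
    have h1 : (χ.1 : G → ℂ) = fun g => ((hm χ g : ℂˣ) : ℂ) := funext (hhm χ)
    rw [h1]
    exact DetChar.isIrr_mul_hom (hm χ) hχ
  let f : {χ // S χ} → {χ // T χ} := fun χ => ⟨⟨_, hirr χ⟩, hST _ χ.2 (hirr χ)⟩
  rw [Nat.card_eq_fintype_card, Nat.card_eq_fintype_card]
  rw [← Finset.card_univ, ← Finset.card_univ]
  apply Finset.card_le_mul_card_image_of_maps_to (f := f) (fun _ _ => Finset.mem_univ _)
  intro b _
  by_cases hb : ∃ a₀, f a₀ = b
  swap
  · rw [Finset.filter_false_of_mem]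
    · simp
    · intro a _ h
      exact hb ⟨a, h⟩
  obtain ⟨a₀, ha₀⟩ := hb
  rw [← Fintype.card_subtype]
  have hinj : Function.Injective (fun i : {a // f a = b} => (fun g => ((hm i.1 g : ℂˣ) : ℂ))) := by
    intro i j hij
    apply Subtype.ext
    apply Subtype.ext
    apply Subtype.ext
    rw [show ((i.1.1 : IrrCharacter G) : G → ℂ) = _ from funext (hhm i.1)]
    rw [show ((j.1.1 : IrrCharacter G) : G → ℂ) = _ from funext (hhm j.1)]
    exact hij
  apply card_le_index_of_agree (I := I) (fun i : {a // f a = b} => hm i.1) hinj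
    (i₀ := ⟨a₀, ha₀⟩)
  intro i x
  apply eq_on_of_mul_eq hφ hmin hna hI hNI hψ hres
  intro g
  have h1 : f i.1 = f a₀ := by rw [i.2, ha₀]
  have h2 : (f i.1).1.1 g = (f a₀).1.1 g := by rw [h1]
  have h3 : ((i.1.1 : IrrCharacter G) : G → ℂ) g * indFun I ψ g =
      ((a₀.1 : IrrCharacter G) : G → ℂ) g * indFun I ψ g := h2
  rw [hhm i.1 g, hhm a₀ g] at h3
  exact h3

end Main

/-- The degree of a function with a natural value at one. -/
theorem charDegree_eq_of_one {χ : G → ℂ} {d : ℕ} (h : χ 1 = d) : charDegree χ = d := by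
  unfold charDegree
  rw [h]
  simp

/-- An irreducible character with nonzero indicator is real valued. -/
theorem real_of_nu_ne_zero [Finite G] {χ : G → ℂ} (hχ : IsIrrCharacter G χ)
    [Fintype G] (h : (Nat.card G : ℂ)⁻¹ * ∑ g : G, χ (g * g) ≠ 0) (s : G) : (χ s).im = 0 := by
  obtain ⟨n, ρ, hρ, rfl⟩ := hχ
  have h1 := (FrobeniusSchur.frobeniusSchur ρ hρ).2
  by_contra hne
  exact h (h1.mpr ⟨s, hne⟩)

/-- A real valued homomorphism to `ℂˣ` squares to one. -/
theorem sq_eq_one_of_real [Finite G] (β : G →* ℂˣ) (g : G) (h : ((β g : ℂˣ) : ℂ).im = 0) :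
    ((β g : ℂˣ) : ℂ) * (β g : ℂˣ) = 1 := by
  have h1 : ((β g : ℂˣ) : ℂ) ^ Nat.card G = 1 := by
    rw [← Units.val_pow_eq_pow_val, ← map_pow, pow_card_eq_one', map_one, Units.val_one]
  have h2 : ‖((β g : ℂˣ) : ℂ)‖ = 1 := Complex.norm_eq_one_of_pow_eq_one h1 Nat.card_pos.ne'
  have h3 := Complex.normSq_eq_norm_sq ((β g : ℂˣ) : ℂ)
  rw [h2, Complex.normSq_apply, h] at h3
  apply Complex.ext
  · simp only [Complex.mul_re, h, Complex.one_re]
    linarith
  · simp [Complex.mul_im, h]

end Cfsg.Agent.Lib.LinTwist
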