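import Mathlib
import Cfsg.Agent.Lib.CohLoop9
import Cfsg.Agent.Lib.CoherenceSys

/-!
# Adding a character of small degree to a coherent set

The numerical argument behind Sibley's coherence theorem: if the multiplicities of the image of
`η₁ - d₁ χ₀` in the irreducible characters orthogonal to the image of the coherent set `T` are all
divisible by `d₁`, then `T` together with `χ₀` is coherent.
-/

set_option autoImplicit false
set_option linter.unusedSectionVars false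
set_option linter.unusedVariables false
open Cfsg

namespace Cfsg.Agent.Lib.SibLink9

open Cfsg.Agent.Lib.CharBasic Cfsg.Agent.Lib.GenChar Cfsg.Agent.Lib.CoherenceBasic
  Cfsg.Agent.Lib.CoherenceExt Cfsg.Agent.Lib.CoherenceSys
open scoped ComplexConjugate

variable {L : Type*} [Group L] [Fintype L] {G : Type*} [Group G] [Fintype G]

/-- The arithmetic of the norm equation. -/
theorem arith (D n R w : ℤ) (hD : Odd D) (hn : 0 ≤ n) (hR : 2 ≤ R) (hRe : Even R)
    (h : D ^ 2 * n = D ^ 2 - w ^ 2 * R - 2 * w) : n = 1 ∧ (w = 0 ∨ (w = -1 ∧ R = 2)) := by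
  have hw : 0 ≤ w * (w + 1) := by
    rcases le_or_gt 0 w with h0 | h0
    · positivity
    · have : w + 1 ≤ 0 := by omega
      nlinarith
  have hw2 : 0 ≤ w ^ 2 := sq_nonneg w
  have hpos : 0 ≤ w ^ 2 * R + 2 * w := by nlinarith
  have hDpos : 0 < D ^ 2 := by
    have : D ≠ 0 := by
      rintro rfl
      simp at hD
    positivity
  have hn1 : n ≤ 1 := by
    by_contra hc
    have : 2 ≤ n := by omega
    nlinarith
  have hn01 : n = 0 ∨ n = 1 := by omega
  rcases hn01 with rfl | rfl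
  · exfalso
    obtain ⟨t, rfl⟩ := hRe
    obtain ⟨s, rfl⟩ := hD
    have h2 : 2 * (w ^ 2 * t + w) = 4 * (s ^ 2 + s) + 1 := by
      nlinarith
    omega
  · refine ⟨rfl, ?_⟩
    have h2 : w * (w * R + 2) = 0 := by nlinarith
    rcases mul_eq_zero.mp h2 with h3 | h3
    · exact Or.inl h3
    · right
      have hw1 : w ≤ -1 := by
        by_contra hc
        have : 0 ≤ w := by omega
        nlinarith
      have hw2' : -1 ≤ w := by
        by_contra hc
        have : w ≤ -2 := by omega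
        nlinarith
      have hw3 : w = -1 := by omega
      subst hw3
      refine ⟨rfl, ?_⟩
      omega

/-- Swapping two characters of the same degree. -/
theorem swap_iso {S : Set (L → ℂ)} {a b : L → ℂ} (hS : S = {a, b}) (ha : IsIrrCharacter L a)
    (hb : IsIrrCharacter L b) (hab : a ≠ b) (h1 : a 1 = b 1)
    {τ₁ : (L → ℂ) → (G → ℂ)} (hτ₁ : IsLinearIsometryOn (zspan S) τ₁) :
    ∃ τ' : (L → ℂ) → (G → ℂ), IsLinearIsometryOn (zspan S) τ' ∧ τ' a = -τ₁ b ∧ τ' b = -τ₁ a ∧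
      ∀ γ ∈ zspanOn S {1}ᶜ, τ' γ = τ₁ γ := by
  classical
  subst hS
  have haS : a ∈ ({a, b} : Set (L → ℂ)) := Set.mem_insert _ _
  have hbS : b ∈ ({a, b} : Set (L → ℂ)) := Set.mem_insert_of_mem _ rfl
  set f : (L → ℂ) → (G → ℂ) := fun x => if x = a then -τ₁ b else -τ₁ a with hf
  have hfa : f a = -τ₁ b := by simp [hf]
  have hfb : f b = -τ₁ a := by simp [hf, hab.symm]
  have hirr : ∀ x ∈ ({a, b} : Set (L → ℂ)), IsIrrCharacter L x := by
    rintro x (rfl | rfl)
    · exact ha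
    · exact hb
  have hab0 : classInner a b = 0 := classInner_irr_ne ha hb hab
  have hba0 : classInner b a = 0 := classInner_irr_ne hb ha hab.symm
  have haa := classInner_irr_self ha
  have hbb := classInner_irr_self hb
  have hta := iso_inner hτ₁ (mem_zspan haS) (mem_zspan haS)
  have htb := iso_inner hτ₁ (mem_zspan hbS) (mem_zspan hbS)
  have htab := iso_inner hτ₁ (mem_zspan haS) (mem_zspan hbS)
  have htba := iso_inner hτ₁ (mem_zspan hbS) (mem_zspan haS)
  obtain ⟨τ', hτ', hval⟩ := exists_iso_of_values (S := ({a, b} : Set (L → ℂ))) (G := G)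
    (fun x hx => by rw [classInner_irr_self (hirr x hx)]; exact one_ne_zero)
    (fun x hx y hy hxy => classInner_irr_ne (hirr x hx) (hirr y hy) hxy) f
    (by
      rintro x (rfl | rfl) y (rfl | rfl)
      · rw [hfa, classInner_neg_left, classInner_neg_right, neg_neg, htb, hbb, haa]
      · rw [hfa, hfb, classInner_neg_left, classInner_neg_right, neg_neg, htba, hba0, hab0]
      · rw [hfa, hfb, classInner_neg_left, classInner_neg_right, neg_neg, htab, hab0, hba0]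
      · rw [hfb, classInner_neg_left, classInner_neg_right, neg_neg, hta, haa, hbb])
    (by
      rintro x (rfl | rfl)
      · rw [hfa]; exact isGen_neg (iso_gen hτ₁ (mem_zspan hbS))
      · rw [hfb]; exact isGen_neg (iso_gen hτ₁ (mem_zspan haS)))
  have hva : τ' a = -τ₁ b := by rw [hval a haS, hfa]
  have hvb : τ' b = -τ₁ a := by rw [hval b hbS, hfb]
  refine ⟨τ', hτ', hva, hvb, ?_⟩
  intro γ hγ
  obtain ⟨h2, h3⟩ := mem_zspanOn_compl_one.mp hγ
  have h4 : γ ∈ Submodule.span ℤ ({a, b} : Set (L → ℂ)) := h2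
  obtain ⟨i, j, rfl⟩ := Submodule.mem_span_pair.mp h4
  have ha1 : a 1 ≠ 0 := isIrr_one_ne_zero ha
  have hij : i + j = 0 := by
    simp only [Pi.add_apply, zsmul_apply, ← h1] at h3
    have : ((i + j : ℤ) : ℂ) * a 1 = 0 := by
      push_cast
      linear_combination h3
    have h5 := (mul_eq_zero.mp this).resolve_right ha1
    exact_mod_cast h5
  have hj : j = -i := by omega
  subst hj
  have hA := mem_zspan (S := ({a, b} : Set (L → ℂ))) haS
  have hB := mem_zspan (S := ({a, b} : Set (L → ℂ))) hbS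
  rw [iso_add hτ' (zspan_zsmul hA _) (zspan_zsmul hB _), iso_add hτ₁ (zspan_zsmul hA _) (zspan_zsmul hB _),
    iso_zsmul hτ' hA, iso_zsmul hτ' hB, iso_zsmul hτ₁ hA, iso_zsmul hτ₁ hB, hva, hvb]
  simp only [smul_neg, neg_smul, neg_neg]
  abel

/-- The last step: extending by `-Δ'`. -/
theorem link_final (T : Finset (L → ℂ)) (hT : ∀ η ∈ T, IsIrrCharacter L η) {χ₀ : L → ℂ}
    (hχ₀ : IsIrrCharacter L χ₀) (hχ₀T : χ₀ ∉ T) (e d₁ : ℕ) (he : 0 < e) (hχ₀1 : χ₀ 1 = e)
    (r : (L → ℂ) → ℕ) (hd : ∀ η ∈ T, η 1 = ((e * d₁ * r η : ℕ) : ℂ)) {η₁ : L → ℂ} (hη₁ : η₁ ∈ T)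
    (hr₁ : r η₁ = 1) (τ : (L → ℂ) → (G → ℂ))
    (hτ : IsLinearIsometryOn (zspanOn (↑(insert χ₀ T) : Set (L → ℂ)) {1}ᶜ) τ)
    (τ'' : (L → ℂ) → (G → ℂ)) (hτ'' : IsLinearIsometryOn (zspan (↑T : Set (L → ℂ))) τ'')
    (hag : ∀ α ∈ zspanOn (↑T : Set (L → ℂ)) {1}ᶜ, τ'' α = τ α)
    (hne : ∃ α ∈ zspanOn (↑T : Set (L → ℂ)) {1}ᶜ, α ≠ 0)
    (Δ' : G → ℂ) (hgen : IsGeneralizedCharacter G Δ') (hnorm : classInner Δ' Δ' = 1)
    (horth : ∀ η ∈ T, classInner Δ' (τ'' η) = 0)
    (hB : τ (η₁ - (d₁ : ℤ) • χ₀) = τ'' η₁ + (d₁ : ℤ) • Δ') :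
    IsCoherent (↑(insert χ₀ T) : Set (L → ℂ)) {1}ᶜ τ := by
  classical
  have hcoe : (↑(insert χ₀ T) : Set (L → ℂ)) = insert χ₀ (↑T : Set (L → ℂ)) := Finset.coe_insert _ _
  rw [hcoe] at hτ ⊢
  set S : Set (L → ℂ) := (↑T : Set (L → ℂ)) with hS
  have hSirr : ∀ ξ ∈ S, IsIrrCharacter L ξ := fun ξ h => hT ξ h
  have hχS : χ₀ ∉ S := hχ₀T
  have hη₁S : η₁ ∈ S := hη₁
  have hmono : zspanOn S ({1}ᶜ : Set L) ⊆ zspanOn (insert χ₀ S) ({1}ᶜ : Set L) :=
    zspanOn_mono (Set.subset_insert _ _)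
  obtain ⟨τ₂, hτ₂, hval⟩ := extend_one hSirr hχ₀ hχS hτ'' (isGen_neg hgen)
    (by rw [classInner_neg_left, classInner_neg_right, neg_neg, hnorm])
    (fun ξ hξ => by rw [classInner_neg_left, horth ξ hξ, neg_zero])
  -- values at `1` of the span
  have hone : ∀ f₀ ∈ zspan S, ∃ k : ℤ, f₀ 1 = (k : ℂ) * ((e : ℂ) * d₁) := by
    intro f₀ hf₀
    have h : f₀ ∈ Submodule.span ℤ S := hf₀
    induction h using Submodule.span_induction with
    | mem x hx =>
      refine ⟨r x, ?_⟩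
      rw [hd x hx]
      push_cast
      ring
    | zero => exact ⟨0, by simp⟩
    | add x y hx' hy' hx hy =>
      obtain ⟨m, hm⟩ := hx hx'
      obtain ⟨n, hn⟩ := hy hy'
      exact ⟨m + n, by simp [hm, hn]; ring⟩
    | smul c x hx' hx =>
      obtain ⟨m, hm⟩ := hx hx'
      exact ⟨c * m, by simp [hm]; ring⟩
  have hη₁one : η₁ 1 = (e : ℂ) * d₁ := by
    rw [hd η₁ hη₁, hr₁]
    push_cast
    ring
  have hβmem : η₁ - (d₁ : ℤ) • χ₀ ∈ zspanOn (insert χ₀ S) ({1}ᶜ : Set L) := by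
    rw [mem_zspanOn_compl_one]
    refine ⟨zspan_sub (mem_zspan (Set.mem_insert_of_mem _ hη₁S))
      (zspan_zsmul (mem_zspan (Set.mem_insert _ _)) _), ?_⟩
    simp only [Pi.sub_apply, zsmul_apply, hη₁one, hχ₀1]
    push_cast
    ring
  refine ⟨?_, τ₂, hτ₂, ?_⟩
  · obtain ⟨α, hα, hα0⟩ := hne
    exact ⟨α, hmono hα, hα0⟩
  intro α hα
  obtain ⟨h1, h2⟩ := mem_zspanOn_compl_one.mp hα
  obtain ⟨f₀, hf₀, n, rfl⟩ := exists_insert_decomp h1
  obtain ⟨k, hk⟩ := hone f₀ hf₀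
  have he' : (e : ℂ) ≠ 0 := by exact_mod_cast he.ne'
  have hn : n = -(k * d₁) := by
    simp only [Pi.add_apply, zsmul_apply, hk, hχ₀1] at h2
    have h3 : (e : ℂ) * ((k : ℂ) * d₁ + n) = 0 := by linear_combination h2
    have h4 := (mul_eq_zero.mp h3).resolve_left he'
    have h5 : ((k * d₁ + n : ℤ) : ℂ) = 0 := by
      push_cast
      exact h4
    have h6 : k * d₁ + n = 0 := by exact_mod_cast h5
    omega
  subst hn
  set γ : L → ℂ := f₀ - k • η₁ with hγ
  have hγmem : γ ∈ zspanOn S ({1}ᶜ : Set L) := by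
    rw [mem_zspanOn_compl_one]
    refine ⟨zspan_sub hf₀ (zspan_zsmul (mem_zspan hη₁S) _), ?_⟩
    simp only [hγ, Pi.sub_apply, zsmul_apply, hk, hη₁one]
    ring
  have hdec : f₀ + (-(k * (d₁ : ℤ))) • χ₀ = γ + k • (η₁ - (d₁ : ℤ) • χ₀) := by
    rw [hγ, smul_sub, smul_smul]
    rw [neg_smul]
    abel
  rw [hval f₀ hf₀, hdec, iso_add hτ (hmono hγmem) (zspanOn_zsmul hβmem _),
    iso_zsmul hτ hβmem, ← hag γ hγmem, hB, hγ,
    iso_sub_zspan hτ'' hf₀ (zspan_zsmul (mem_zspan hη₁S) _), iso_zsmul hτ'' (mem_zspan hη₁S),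
    smul_add, smul_neg, smul_smul]
  rw [neg_smul, neg_neg]
  abel

/-- The main linking step. -/
theorem link (T : Finset (L → ℂ)) (hT : ∀ η ∈ T, IsIrrCharacter L η) {χ₀ : L → ℂ}
    (hχ₀ : IsIrrCharacter L χ₀) (hχ₀T : χ₀ ∉ T) (e d₁ : ℕ) (he : 0 < e) (hodd : Odd d₁)
    (hχ₀1 : χ₀ 1 = e) (r : (L → ℂ) → ℕ) (hd : ∀ η ∈ T, η 1 = ((e * d₁ * r η : ℕ) : ℂ))
    {η₁ η₂ : L → ℂ} (hη₁ : η₁ ∈ T) (hη₂ : η₂ ∈ T) (hne : η₁ ≠ η₂) (hr₁ : r η₁ = 1) (hr₂ : r η₂ = 1)
    (heven : Even (∑ η ∈ T, r η ^ 2)) (τ : (L → ℂ) → (G → ℂ))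
    (hτ : IsLinearIsometryOn (zspanOn (↑(insert χ₀ T) : Set (L → ℂ)) {1}ᶜ) τ)
    (hcoh : IsCoherent (↑T : Set (L → ℂ)) {1}ᶜ τ)
    (hKey : ∀ ξ, IsIrrCharacter G ξ →
      (∀ γ ∈ zspanOn (↑T : Set (L → ℂ)) {1}ᶜ, classInner ξ (τ γ) = 0) →
        ∃ k : ℤ, classInner (τ (η₁ - (d₁ : ℤ) • χ₀)) ξ = (d₁ : ℂ) * k) :
    IsCoherent (↑(insert χ₀ T) : Set (L → ℂ)) {1}ᶜ τ := by
  classical
  obtain ⟨hne0, τ₁, hτ₁, hagree⟩ := hcoh
  have hd₁0 : (d₁ : ℂ) ≠ 0 := by
    have : d₁ ≠ 0 := by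
      rintro rfl
      simp at hodd
    exact_mod_cast this
  set S : Set (L → ℂ) := (↑T : Set (L → ℂ)) with hS
  have hSsub : S ⊆ (↑(insert χ₀ T) : Set (L → ℂ)) := by
    intro x hx
    exact Finset.mem_insert_of_mem hx
  have hmono : zspanOn S ({1}ᶜ : Set L) ⊆ zspanOn (↑(insert χ₀ T) : Set (L → ℂ)) ({1}ᶜ : Set L) :=
    zspanOn_mono hSsub
  have hη₁S : η₁ ∈ S := hη₁
  have hη₁one : η₁ 1 = (e : ℂ) * d₁ := by
    rw [hd η₁ hη₁, hr₁]
    push_cast
    ring
  have hirrη₁ := hT η₁ hη₁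
  have hirrη₂ := hT η₂ hη₂
  set β : L → ℂ := η₁ - (d₁ : ℤ) • χ₀ with hβ
  have hβmem : β ∈ zspanOn (↑(insert χ₀ T) : Set (L → ℂ)) ({1}ᶜ : Set L) := by
    rw [mem_zspanOn_compl_one]
    refine ⟨zspan_sub (mem_zspan (hSsub hη₁S))
      (zspan_zsmul (mem_zspan (by simp)) _), ?_⟩
    simp only [hβ, Pi.sub_apply, zsmul_apply, hη₁one, hχ₀1]
    push_cast
    ring
  set B : G → ℂ := τ β with hB
  have hBgen : IsGeneralizedCharacter G B := iso_gen hτ hβmem
  have hχ0 : ∀ η ∈ T, classInner χ₀ η = 0 := fun η hη =>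
    classInner_irr_ne hχ₀ (hT η hη) (fun h => hχ₀T (h ▸ hη))
  have h0χ : ∀ η ∈ T, classInner η χ₀ = 0 := fun η hη =>
    classInner_irr_ne (hT η hη) hχ₀ (fun h => hχ₀T (h ▸ hη))
  have hχχ := classInner_irr_self hχ₀
  have h11 := classInner_irr_self hirrη₁
  have hBB : classInner B B = 1 + (d₁ : ℂ) ^ 2 := by
    rw [hB, iso_inner hτ hβmem hβmem, hβ]
    simp only [classInner_sub_left, classInner_sub_right, classInner_zsmul_left,
      classInner_zsmul_right]
    rw [hχχ, hχ0 η₁ hη₁, h0χ η₁ hη₁, h11]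
    push_cast
    ring
  -- the images of the members of `T`
  have hτ₁gen : ∀ η ∈ T, IsGeneralizedCharacter G (τ₁ η) := fun η h => iso_gen hτ₁ (mem_zspan h)
  have hτ₁in : ∀ η ∈ T, ∀ η' ∈ T, classInner (τ₁ η) (τ₁ η') = classInner η η' :=
    fun η h η' h' => iso_inner hτ₁ (mem_zspan h) (mem_zspan h')
  have hinT : ∀ η ∈ T, ∀ η' ∈ T, η ≠ η' → classInner (τ₁ η) (τ₁ η') = 0 := fun η h η' h' hne' => by
    rw [hτ₁in η h η' h', classInner_irr_ne (hT η h) (hT η' h') hne']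
  have hself : ∀ η ∈ T, classInner (τ₁ η) (τ₁ η) = 1 := fun η h => by
    rw [hτ₁in η h η h, classInner_irr_self (hT η h)]
  have hc0 : ∀ η ∈ T, ∃ c : ℤ, classInner B (τ₁ η) = c := fun η h =>
    classInner_gen_gen hBgen (hτ₁gen η h)
  choose! c hc using hc0
  have hcs : ∀ η ∈ T, classInner (τ₁ η) B = c η := fun η h => by
    rw [← classInner_conj_symm, hc η h]
    simp
  set w : ℤ := c η₁ - 1 with hw
  set δ : (L → ℂ) → ℤ := fun η => if η = η₁ then 1 else 0 with hδ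
  -- the relation
  have hrel : ∀ η ∈ T, c η = r η * w + δ η := by
    intro η hη
    have hηS : η ∈ S := hη
    have hγ : η - (r η : ℤ) • η₁ ∈ zspanOn S ({1}ᶜ : Set L) := by
      rw [mem_zspanOn_compl_one]
      refine ⟨zspan_sub (mem_zspan hηS) (zspan_zsmul (mem_zspan hη₁S) _), ?_⟩
      simp only [Pi.sub_apply, zsmul_apply, hη₁one, hd η hη]
      push_cast
      ring
    have h1 := iso_inner hτ hβmem (hmono hγ)
    rw [← hB, ← hagree _ hγ, iso_sub_zspan hτ₁ (mem_zspan hηS) (zspan_zsmul (mem_zspan hη₁S) _),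
      iso_zsmul hτ₁ (mem_zspan hη₁S), classInner_sub_right, classInner_zsmul_right, hc η hη,
      hc η₁ hη₁] at h1
    have h2 : classInner η₁ η = (δ η : ℂ) := by
      by_cases h : η = η₁
      · subst h
        simp [hδ, h11]
      · simp only [hδ, if_neg h]
        rw [classInner_irr_ne hirrη₁ (hT η hη) (Ne.symm h)]
        simp
    have h3 : classInner β (η - (r η : ℤ) • η₁) = (δ η : ℂ) - r η := by
      rw [hβ]
      simp only [classInner_sub_left, classInner_sub_right, classInner_zsmul_left,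
        classInner_zsmul_right]
      rw [hχ0 η hη, hχ0 η₁ hη₁, h11, h2]
      push_cast
      ring
    rw [h3] at h1
    have h4 : ((c η - r η * c η₁ : ℤ) : ℂ) = ((δ η - r η : ℤ) : ℂ) := by
      push_cast
      push_cast at h1
      exact h1
    have h5 : c η - r η * c η₁ = δ η - r η := by exact_mod_cast h4
    rw [hw]
    linarith
  -- the remainder
  set E : G → ℂ := ∑ η ∈ T, c η • τ₁ η with hE
  set Δ : G → ℂ := B - E with hΔ
  have hEgen : IsGeneralizedCharacter G E :=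
    isGen_sum _ _ (fun η h => isGen_zsmul (hτ₁gen η h) _)
  have hΔgen : IsGeneralizedCharacter G Δ := isGen_sub hBgen hEgen
  have hEin : ∀ η ∈ T, classInner E (τ₁ η) = c η := by
    intro η hη
    rw [hE, classInner_sum_left, Finset.sum_eq_single η]
    · rw [classInner_zsmul_left, hself η hη, mul_one]
    · intro η' hη' hne'
      rw [classInner_zsmul_left, hinT η' hη' η hη hne', mul_zero]
    · intro h
      exact absurd hη h
  have hΔorth : ∀ η ∈ T, classInner Δ (τ₁ η) = 0 := by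
    intro η hη
    rw [hΔ, classInner_sub_left, hc η hη, hEin η hη, sub_self]
  have hΔE : classInner Δ E = 0 := by
    rw [hE, classInner_sum_right]
    refine Finset.sum_eq_zero (fun η hη => ?_)
    rw [classInner_zsmul_right, hΔorth η hη, mul_zero]
  have hEB : classInner E B = ((∑ η ∈ T, c η ^ 2 : ℤ) : ℂ) := by
    rw [hE, classInner_sum_left]
    push_cast
    refine Finset.sum_congr rfl (fun η hη => ?_)
    rw [classInner_zsmul_left, hcs η hη]
    ring
  have hΔΔ : classInner Δ Δ = 1 + (d₁ : ℂ) ^ 2 - ((∑ η ∈ T, c η ^ 2 : ℤ) : ℂ) := by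
    have h1 : classInner Δ Δ = classInner Δ B - classInner Δ E := by
      nth_rw 2 [hΔ]
      rw [classInner_sub_right]
    rw [h1, hΔE, sub_zero, hΔ, classInner_sub_left, hBB, hEB]
  -- the divisibility
  have hdiv : ∀ i : IrrCharacter G, ∃ k : ℤ, classInner Δ (i : G → ℂ) = (d₁ : ℂ) * k := by
    intro i
    by_cases h : ∀ η ∈ T, classInner (i : G → ℂ) (τ₁ η) = 0
    · have h1 : ∀ γ ∈ zspanOn S ({1}ᶜ : Set L), classInner (i : G → ℂ) (τ γ) = 0 := by
        intro γ hγ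
        rw [← hagree γ hγ]
        exact inner_image_right hτ₁ h hγ.1
      obtain ⟨k, hk⟩ := hKey i i.2 h1
      refine ⟨k, ?_⟩
      have h2 : classInner E (i : G → ℂ) = 0 := by
        rw [hE, classInner_sum_left]
        refine Finset.sum_eq_zero (fun η hη => ?_)
        rw [classInner_zsmul_left, ← classInner_conj_symm, h η hη]
        simp
      rw [hΔ, classInner_sub_left, h2, sub_zero]
      exact hk
    · push Not at h
      obtain ⟨η₀, hη₀, hne₀⟩ := h
      refine ⟨0, ?_⟩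
      rw [Int.cast_zero, mul_zero]
      rcases gen_norm_one (hτ₁gen η₀ hη₀) (hself η₀ hη₀) with h1 | h1
      · have h2 : (i : G → ℂ) = τ₁ η₀ := by
          by_contra hc'
          exact hne₀ (classInner_irr_ne i.2 h1 hc')
        rw [h2]
        exact hΔorth η₀ hη₀
      · have h2 : (i : G → ℂ) = -τ₁ η₀ := by
          by_contra hc'
          apply hne₀
          have h3 := classInner_irr_ne i.2 h1 hc'
          rwa [classInner_neg_right, neg_eq_zero] at h3
        rw [h2, classInner_neg_right, hΔorth η₀ hη₀, neg_zero]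
  -- the quotient
  obtain ⟨m, hm⟩ := exists_int_decomp hΔgen
  have hdvd : ∀ i : IrrCharacter G, ∃ k : ℤ, m i = d₁ * k := by
    intro i
    obtain ⟨k, hk⟩ := hdiv i
    refine ⟨k, ?_⟩
    have h1 := classInner_int_decomp m (i : G → ℂ) i.2
    rw [← hm, hk] at h1
    simp only [Subtype.coe_eta] at h1
    have h2 : ((m i : ℤ) : ℂ) = ((d₁ * k : ℤ) : ℂ) := by
      push_cast
      exact h1.symm
    exact_mod_cast h2
  choose m' hm' using hdvd
  set Δ' : G → ℂ := ∑ i, m' i • (i : G → ℂ) with hΔ'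
  have hΔ'gen : IsGeneralizedCharacter G Δ' :=
    isGen_sum _ _ (fun i _ => isGen_zsmul (isGen_of_isIrr i.2) _)
  have hΔeq : Δ = (d₁ : ℤ) • Δ' := by
    rw [hm, hΔ', Finset.smul_sum]
    refine Finset.sum_congr rfl (fun i _ => ?_)
    rw [hm' i, mul_smul]
  have hd₁ℤ : ((d₁ : ℤ) : ℂ) = (d₁ : ℂ) := by push_cast; rfl
  have hΔ'orth : ∀ η ∈ T, classInner Δ' (τ₁ η) = 0 := by
    intro η hη
    have h1 := hΔorth η hη
    rw [hΔeq, classInner_zsmul_left, hd₁ℤ] at h1
    exact (mul_eq_zero.mp h1).resolve_left hd₁0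
  obtain ⟨n, hn⟩ := classInner_self_eq_nat hΔ'gen
  have hnorm : (d₁ : ℂ) ^ 2 * n = 1 + (d₁ : ℂ) ^ 2 - ((∑ η ∈ T, c η ^ 2 : ℤ) : ℂ) := by
    rw [← hΔΔ, hΔeq, classInner_zsmul_left, classInner_zsmul_right, hn, hd₁ℤ]
    ring
  set R : ℤ := ∑ η ∈ T, (r η : ℤ) ^ 2 with hR
  have hsumc : ∑ η ∈ T, c η ^ 2 = w ^ 2 * R + 2 * w + 1 := by
    have h1 : ∀ η ∈ T, c η ^ 2 = w ^ 2 * (r η : ℤ) ^ 2 + 2 * w * ((r η : ℤ) * δ η) + δ η ^ 2 := by
      intro η hη
      rw [hrel η hη]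
      ring
    have h2 : ∑ η ∈ T, ((r η : ℤ) * δ η) = 1 := by
      rw [Finset.sum_eq_single η₁]
      · simp [hδ, hr₁]
      · intro b _ hb
        simp [hδ, hb]
      · intro h
        exact absurd hη₁ h
    have h3 : ∑ η ∈ T, δ η ^ 2 = 1 := by
      rw [Finset.sum_eq_single η₁]
      · simp [hδ]
      · intro b _ hb
        simp [hδ, hb]
      · intro h
        exact absurd hη₁ h
    rw [Finset.sum_congr rfl h1, Finset.sum_add_distrib, Finset.sum_add_distrib, ← Finset.mul_sum,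
      ← Finset.mul_sum, h2, h3]
    ring
  have hnormℤ : (d₁ : ℤ) ^ 2 * n = (d₁ : ℤ) ^ 2 - w ^ 2 * R - 2 * w := by
    have h1 : (((d₁ : ℤ) ^ 2 * n : ℤ) : ℂ) = (((d₁ : ℤ) ^ 2 - w ^ 2 * R - 2 * w : ℤ) : ℂ) := by
      rw [hsumc] at hnorm
      push_cast at hnorm ⊢
      linear_combination hnorm
    exact_mod_cast h1
  have hRge : 2 ≤ R := by
    have h1 : ∑ η ∈ ({η₁, η₂} : Finset (L → ℂ)), (r η : ℤ) ^ 2 ≤ R :=
      Finset.sum_le_sum_of_subset_of_nonneg
        (fun x hx => by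
          rcases Finset.mem_insert.mp hx with rfl | hx
          · exact hη₁
          · rw [Finset.mem_singleton.mp hx]; exact hη₂)
        (fun _ _ _ => sq_nonneg _)
    rw [Finset.sum_pair hne, hr₁, hr₂] at h1
    simpa using h1
  have hReven : Even R := by
    rw [hR]
    have : ((∑ η ∈ T, r η ^ 2 : ℕ) : ℤ) = ∑ η ∈ T, (r η : ℤ) ^ 2 := by push_cast; rfl
    rw [← this]
    exact_mod_cast heven
  have hoddℤ : Odd (d₁ : ℤ) := by exact_mod_cast hodd
  obtain ⟨hn1, hwcases⟩ := arith (d₁ : ℤ) n R w hoddℤ (by positivity) hRge hReven hnormℤ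
  have hn1' : classInner Δ' Δ' = 1 := by
    rw [hn]
    have : (n : ℤ) = 1 := hn1
    have h2 : n = 1 := by exact_mod_cast this
    rw [h2]
    simp
  have hBeq : B = E + (d₁ : ℤ) • Δ' := by
    rw [← hΔeq, hΔ]
    abel
  rcases hwcases with hw0 | ⟨hw1, hR2⟩
  · -- the first case
    have hEeq : E = τ₁ η₁ := by
      rw [hE, Finset.sum_eq_single η₁]
      · have h1 := hrel η₁ hη₁
        rw [hw0] at h1
        simp only [hδ, if_true, mul_zero, zero_add] at h1
        rw [h1, one_smul]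
      · intro b hb hbne
        have h1 := hrel b hb
        rw [hw0] at h1
        simp only [hδ, if_neg hbne, mul_zero, zero_add] at h1
        rw [h1, zero_smul]
      · intro h
        exact absurd hη₁ h
    refine link_final T hT hχ₀ hχ₀T e d₁ he hχ₀1 r hd hη₁ hr₁ τ hτ τ₁ hτ₁ hagree hne0 Δ' hΔ'gen hn1'
      hΔ'orth ?_
    rw [← hB, hBeq, hEeq]
  · -- the second case
    have hTeq : T = {η₁, η₂} := by
      apply Finset.Subset.antisymm _
      · intro x hx
        rcases Finset.mem_insert.mp hx with rfl | hx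
        · exact hη₁
        · rw [Finset.mem_singleton.mp hx]; exact hη₂
      intro x hx
      by_contra hxn
      have hxn1 : x ≠ η₁ := fun h => hxn (by simp [h])
      have hxn2 : x ≠ η₂ := fun h => hxn (by simp [h])
      have hrx : 1 ≤ (r x : ℤ) := by
        have h1 := isIrr_one_ne_zero (hT x hx)
        rw [hd x hx] at h1
        have h2 : r x ≠ 0 := by
          intro h3
          rw [h3] at h1
          simp at h1
        have : 1 ≤ r x := Nat.one_le_iff_ne_zero.mpr h2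
        exact_mod_cast this
      have h1 : ∑ η ∈ ({x, η₁, η₂} : Finset (L → ℂ)), (r η : ℤ) ^ 2 ≤ R :=
        Finset.sum_le_sum_of_subset_of_nonneg
          (fun y hy => by
            rcases Finset.mem_insert.mp hy with rfl | hy
            · exact hx
            rcases Finset.mem_insert.mp hy with rfl | hy
            · exact hη₁
            · rw [Finset.mem_singleton.mp hy]; exact hη₂)
          (fun _ _ _ => sq_nonneg _)
      rw [Finset.sum_insert (by simp [hxn1, hxn2]), Finset.sum_pair hne, hr₁, hr₂, hR2] at h1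
      push_cast at h1
      nlinarith
    have hSeq : S = {η₁, η₂} := by
      rw [hS, hTeq]
      simp
    have hone12 : η₁ 1 = η₂ 1 := by
      rw [hd η₁ hη₁, hd η₂ hη₂, hr₁, hr₂]
    obtain ⟨τ', hτ', hv1, hv2, hvag⟩ := swap_iso hSeq hirrη₁ hirrη₂ hne hone12 hτ₁
    have hc1 : c η₁ = 0 := by
      rw [hw] at hw1
      omega
    have hc2 : c η₂ = -1 := by
      have h1 := hrel η₂ hη₂
      rw [hr₂, hw1] at h1
      simp only [hδ, if_neg hne.symm] at h1
      simpa using h1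
    have hEeq : E = -τ₁ η₂ := by
      rw [hE, hTeq, Finset.sum_pair hne, hc1, hc2]
      simp
    refine link_final T hT hχ₀ hχ₀T e d₁ he hχ₀1 r hd hη₁ hr₁ τ hτ τ' hτ'
      (fun α hα => by rw [hvag α hα, hagree α hα]) hne0 Δ' hΔ'gen hn1' ?_ ?_
    · intro η hη
      rw [hTeq] at hη
      rcases Finset.mem_insert.mp hη with rfl | hη
      · rw [hv1, classInner_neg_right, hΔ'orth η₂ hη₂, neg_zero]
      · rw [Finset.mem_singleton.mp hη, hv2, classInner_neg_right, hΔ'orth η₁ hη₁, neg_zero]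
    · rw [← hB, hBeq, hEeq, hv1]

end Cfsg.Agent.Lib.SibLink9
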