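import Mathlib
import Cfsg.Agent.Lib.InducedIrr
import Cfsg.Agent.Lib.Carter
import Cfsg.Agent.Lib.CNMaxNil

/-!
# The sums `Lam K f` of the squares of the degrees smaller than `f`

For a finite nilpotent group `K` with an irreducible character of degree at least `f > 1`, one has
`f² ≤ Lam K f`, and `2 f² ≤ Lam K f` if `|K|` is not a prime power.
-/

set_option autoImplicit false
set_option linter.unusedSectionVars false
open Cfsg

namespace Cfsg.Agent.Lib.FrobLam9

open Cfsg.Agent.Lib.CharBasic Cfsg.Agent.Lib.GenChar Cfsg.Agent.Lib.CharInd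
  Cfsg.Agent.Lib.CharInduction Cfsg.Agent.Lib.CharKernel Cfsg.Agent.Lib.InducedIrr
open scoped ComplexConjugate

variable {K : Type*} [Group K] [Finite K]

/-- The sum of the squares of the degrees smaller than `f`. -/
noncomputable def Lam (K : Type*) [Group K] [Finite K] (f : ℕ) : ℕ :=
  ∑ χ : IrrCharacter K, if charDegree (χ : K → ℂ) < f then charDegree (χ : K → ℂ) ^ 2 else 0

theorem Lam_mono {f g : ℕ} (h : f ≤ g) : Lam K f ≤ Lam K g := by
  unfold Lam
  refine Finset.sum_le_sum (fun χ _ => ?_)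
  split_ifs with h1 h2
  · exact le_rfl
  · exact absurd (lt_of_lt_of_le h1 h) h2
  · exact Nat.zero_le _
  · exact le_rfl

/-- `[K : M]` is the sum of the squares of the degrees of the characters trivial on `M`. -/
theorem sum_ker_eq_index (M : Subgroup K) [M.Normal] :
    (∑ χ : IrrCharacter K, (@ite ℕ (∀ n ∈ M, (χ : K → ℂ) n = (χ : K → ℂ) 1)
        (Classical.propDecidable _) ((charDegree (χ : K → ℂ)) ^ 2) 0)) = M.index := by
  classical
  let _ := Fintype.ofFinite K
  have h1 := sum_ker_deg_sq M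
  have h3 := Subgroup.card_mul_index M
  rw [← h3] at h1
  have h2 := Nat.eq_of_mul_eq_mul_left Nat.card_pos h1
  convert h2

/-- The index of a normal subgroup such that the characters trivial on it have small degree. -/
theorem index_le_Lam {f : ℕ} (M : Subgroup K) [M.Normal]
    (hM : ∀ χ : IrrCharacter K, (∀ n ∈ M, (χ : K → ℂ) n = (χ : K → ℂ) 1) →
      charDegree (χ : K → ℂ) < f) : M.index ≤ Lam K f := by
  classical
  rw [← sum_ker_eq_index M]
  unfold Lam
  refine Finset.sum_le_sum (fun χ _ => ?_)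
  by_cases h : ∀ n ∈ M, (χ : K → ℂ) n = (χ : K → ℂ) 1
  · rw [if_pos h, if_pos (hM χ h)]
  · rw [if_neg h]
    exact Nat.zero_le _

/-- The degree bound for a subgroup central modulo the kernel. -/
theorem deg_sq_le_index {β : K → ℂ} (hβ : IsIrrCharacter K β) (M : Subgroup K)
    (hM : ∀ z ∈ M, ∀ g : K, β (z * g * z⁻¹ * g⁻¹) = β 1) : charDegree β ^ 2 ≤ M.index := by
  have h1 := card_mul_sq_le_of_norm hβ M (fun z hz => central_mod_ker_norm hβ (hM z hz))
  have h2 := Subgroup.card_mul_index M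
  rw [← h2] at h1
  exact Nat.le_of_mul_le_mul_left h1 Nat.card_pos

/-- In a nilpotent group, a non-trivial normal subgroup is not its commutator with the group. -/
theorem commutator_top_lt (hnil : Group.IsNilpotent K) {M : Subgroup K} (hM : M.Normal)
    (h1 : M ≠ ⊥) : ⁅M, (⊤ : Subgroup K)⁆ < M := by
  have hle : ⁅M, (⊤ : Subgroup K)⁆ ≤ M := Subgroup.commutator_le_left M ⊤
  refine lt_of_le_of_ne hle ?_
  intro heq
  apply h1
  obtain ⟨n, hn⟩ := (Subgroup.nilpotent_iff_lowerCentralSeries (G := K)).mp hnil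
  have hall : ∀ k : ℕ, M ≤ (⊤ : Subgroup K).lowerCentralSeries k := by
    intro k
    induction k with
    | zero => simp
    | succ k ih =>
      rw [← heq, Subgroup.lowerCentralSeries_succ]
      exact Subgroup.commutator_mono ih le_rfl
  rw [eq_bot_iff, ← hn]
  exact hall n

/-- A normal subgroup of a nilpotent group not in a normal subgroup `K₀` contains an element outside
`K₀` which is central modulo `K₀`. -/
theorem exists_central_mod (hnil : Group.IsNilpotent K) (K₀ : Subgroup K) [K₀.Normal] :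
    ∀ (n : ℕ) (C : Subgroup K), Nat.card C = n → C.Normal → ¬ C ≤ K₀ →
      ∃ z ∈ C, z ∉ K₀ ∧ ∀ g : K, z * g * z⁻¹ * g⁻¹ ∈ K₀ := by
  intro n
  induction n using Nat.strong_induction_on with
  | _ n ih =>
    intro C hn hC hCK
    by_cases hall : ∀ z ∈ C, ∀ g : K, z * g * z⁻¹ * g⁻¹ ∈ K₀
    · obtain ⟨z, hz, hzK⟩ := Set.not_subset.mp hCK
      exact ⟨z, hz, hzK, hall z hz⟩
    · push Not at hall
      obtain ⟨z, hz, g, hzg⟩ := hall
      have hC1 : C ≠ ⊥ := by
        rintro rfl
        exact hCK bot_le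
      have hlt := commutator_top_lt hnil hC hC1
      have hCn : (⁅C, (⊤ : Subgroup K)⁆).Normal := Subgroup.commutator_normal C ⊤
      have hcard : Nat.card ↥⁅C, (⊤ : Subgroup K)⁆ < n := by
        rw [← hn]
        have h := Set.ncard_lt_ncard (s := ((⁅C, (⊤ : Subgroup K)⁆ : Subgroup K) : Set K))
          (t := (C : Set K)) hlt (Set.toFinite _)
        rw [← Nat.card_coe_set_eq, ← Nat.card_coe_set_eq] at h
        exact h
      have hnot : ¬ ⁅C, (⊤ : Subgroup K)⁆ ≤ K₀ := by
        intro h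
        exact hzg (h (Subgroup.commutator_mem_commutator hz (Subgroup.mem_top g)))
      obtain ⟨w, hw, hwK, hwc⟩ := ih _ hcard _ rfl hCn hnot
      exact ⟨w, hlt.le hw, hwK, hwc⟩

/-- The minimal normal subgroup with only small degrees above it. -/
theorem exists_minimal_M {f : ℕ} (hf : 1 < f) {θ : K → ℂ} (hθ : IsIrrCharacter K θ)
    (hθf : f ≤ charDegree θ) :
    ∃ M : Subgroup K, M.Normal ∧ M ≠ ⊥ ∧
      (∀ χ : IrrCharacter K, (∀ n ∈ M, (χ : K → ℂ) n = (χ : K → ℂ) 1) →
        charDegree (χ : K → ℂ) < f) ∧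
      ∀ M₀ : Subgroup K, M₀.Normal → M₀ < M → ∃ β : K → ℂ, IsIrrCharacter K β ∧
        (∀ n ∈ M₀, β n = β 1) ∧ f ≤ charDegree β := by
  classical
  set P : Set (Subgroup K) := {M | M.Normal ∧ ∀ χ : IrrCharacter K,
    (∀ n ∈ M, (χ : K → ℂ) n = (χ : K → ℂ) 1) → charDegree (χ : K → ℂ) < f} with hP
  have htop : (⊤ : Subgroup K) ∈ P := by
    refine ⟨inferInstance, fun χ hχ => ?_⟩
    have h1 := deg_sq_le_index χ.2 ⊤ (fun z _ g => hχ _ (Subgroup.mem_top _))
    rw [Subgroup.index_top] at h1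
    nlinarith
  obtain ⟨M, hM⟩ := (Set.toFinite P).exists_minimal ⟨_, htop⟩
  refine ⟨M, hM.prop.1, ?_, hM.prop.2, ?_⟩
  · rintro rfl
    have h1 := hM.prop.2 ⟨θ, hθ⟩ (fun n hn => by
      rw [Subgroup.mem_bot.mp hn])
    exact absurd h1 (not_lt.mpr hθf)
  · intro M₀ hM₀ hlt
    by_contra hcon
    push Not at hcon
    have hmem : M₀ ∈ P := ⟨hM₀, fun χ hχ => hcon χ χ.2 hχ⟩
    exact absurd (hM.le_of_le hmem hlt.le) (not_le_of_gt hlt)

/-- **The degree lemma**: if a nilpotent group has a character of degree at least `f > 1` then the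
degrees smaller than `f` have squares adding to at least `f²`. -/
theorem sq_le_Lam (hnil : Group.IsNilpotent K) {f : ℕ} (hf : 1 < f) {θ : K → ℂ}
    (hθ : IsIrrCharacter K θ) (hθf : f ≤ charDegree θ) : f ^ 2 ≤ Lam K f := by
  obtain ⟨M, hMn, hM1, hM, hmin⟩ := exists_minimal_M hf hθ hθf
  have hlt := commutator_top_lt hnil hMn hM1
  obtain ⟨β, hβ, hβ0, hβf⟩ := hmin _ (Subgroup.commutator_normal M ⊤) hlt
  have h1 := deg_sq_le_index hβ M (fun z hz g =>
    hβ0 _ (Subgroup.commutator_mem_commutator hz (Subgroup.mem_top g)))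
  calc f ^ 2 ≤ charDegree β ^ 2 := Nat.pow_le_pow_left hβf 2
    _ ≤ M.index := h1
    _ ≤ Lam K f := index_le_Lam M hM

/-- A normal subgroup of a nilpotent group has a normal subgroup, containing its commutator with
the group, which contains every element of the subgroup of order prime to a certain prime. -/
theorem exists_prime_sub (hnil : Group.IsNilpotent K) {M : Subgroup K} (hM : M.Normal)
    (h1 : M ≠ ⊥) : ∃ (M₁ : Subgroup K) (q : ℕ), q.Prime ∧ M₁.Normal ∧ M₁ < M ∧
      ⁅M, (⊤ : Subgroup K)⁆ ≤ M₁ ∧ ∀ z ∈ M, Nat.Coprime (orderOf z) q → z ∈ M₁ := by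
  classical
  set M₀ : Subgroup K := ⁅M, (⊤ : Subgroup K)⁆ with hM₀
  have hlt : M₀ < M := commutator_top_lt hnil hM h1
  have hM₀n : M₀.Normal := Subgroup.commutator_normal M ⊤
  have hN0 : (M₀.subgroupOf M).Normal := Subgroup.Normal.subgroupOf hM₀n M
  set A := ↥M ⧸ M₀.subgroupOf M with hA
  have hAnt : Nontrivial A := by
    apply QuotientGroup.nontrivial_iff.mpr
    intro h
    apply not_le_of_gt hlt
    intro z hz
    have : (⟨z, hz⟩ : M) ∈ M₀.subgroupOf M := by rw [h]; exact Subgroup.mem_top _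
    exact Subgroup.mem_subgroupOf.mp this
  have hs : Group.IsSolvable K := by
    have := hnil
    infer_instance
  have hAs : Group.IsSolvable A := by
    have : Group.IsSolvable M := inferInstance
    infer_instance
  have hcomm : commutator A ≠ ⊤ := (Group.IsSolvable.commutator_lt_top_of_nontrivial A).ne
  obtain ⟨F, q, hq, hF⟩ := Cfsg.Agent.Lib.CharCodegP.exists_hom_prime_index hcomm
  set φ : ↥M →* A := QuotientGroup.mk' (M₀.subgroupOf M) with hφ
  set F' : ↥M →* ℂˣ := F.comp φ with hF'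
  have hφeq : ∀ a b : M, (a : K)⁻¹ * b ∈ M₀ → F' a = F' b := by
    intro a b hab
    have : φ a = φ b := by
      rw [hφ, QuotientGroup.mk'_apply, QuotientGroup.mk'_apply, QuotientGroup.eq]
      exact Subgroup.mem_subgroupOf.mpr (by simpa using hab)
    simp only [hF', MonoidHom.comp_apply, this]
  refine ⟨F'.ker.map M.subtype, q, hq, ?_, ?_, ?_, ?_⟩
  · constructor
    rintro _ ⟨z, hz, rfl⟩ g
    have hm : g * (z : K) * g⁻¹ ∈ M := hM.conj_mem z z.2 g
    refine ⟨⟨_, hm⟩, ?_, rfl⟩
    have h2 : F' z = F' ⟨_, hm⟩ := by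
      apply hφeq
      have h3 : (z : K)⁻¹ * (g * (z : K) * g⁻¹) = (z : K)⁻¹ * g * (z : K)⁻¹⁻¹ * g⁻¹ := by group
      simp only [SetLike.mem_coe] at *
      rw [h3]
      exact Subgroup.commutator_mem_commutator (M.inv_mem z.2) (Subgroup.mem_top g)
    rw [SetLike.mem_coe, MonoidHom.mem_ker] at hz ⊢
    rw [← h2, hz]
  · refine lt_of_le_of_ne (Subgroup.map_subtype_le _) ?_
    intro heq
    have hne : F.ker ≠ ⊤ := by
      intro h
      rw [h, Subgroup.index_top] at hF
      exact hq.one_lt.ne hF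
    apply hne
    rw [eq_top_iff]
    intro a _
    obtain ⟨b, rfl⟩ := QuotientGroup.mk'_surjective (M₀.subgroupOf M) a
    have hb : (b : K) ∈ F'.ker.map M.subtype := by rw [heq]; exact b.2
    obtain ⟨c, hc, hcb⟩ := hb
    have : c = b := Subtype.ext hcb
    subst this
    exact hc
  · intro z hz
    refine ⟨⟨z, hlt.le hz⟩, ?_, rfl⟩
    rw [SetLike.mem_coe, MonoidHom.mem_ker]
    have h2 : φ ⟨z, hlt.le hz⟩ = 1 := by
      rw [hφ, QuotientGroup.mk'_apply, QuotientGroup.eq_one_iff]
      exact Subgroup.mem_subgroupOf.mpr hz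
    simp only [hF', MonoidHom.comp_apply, h2, map_one]
  · intro z hz hcop
    refine ⟨⟨z, hz⟩, ?_, rfl⟩
    rw [SetLike.mem_coe, MonoidHom.mem_ker]
    set a := φ ⟨z, hz⟩ with ha
    have hker : F.ker.Normal := MonoidHom.normal_ker F
    have h2 : F a ^ q = 1 := by
      have := Subgroup.pow_index_mem F.ker a
      rw [hF, MonoidHom.mem_ker, map_pow] at this
      exact this
    have h3 : F a ^ orderOf z = 1 := by
      rw [← map_pow, ha, ← map_pow]
      have h4 : (⟨z, hz⟩ : M) ^ orderOf z = 1 := by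
        apply Subtype.ext
        simp [pow_orderOf_eq_one]
      rw [h4, map_one, map_one]
    have h4 : orderOf (F a) ∣ Nat.gcd (orderOf z) q :=
      Nat.dvd_gcd (orderOf_dvd_of_pow_eq_one h3) (orderOf_dvd_of_pow_eq_one h2)
    rw [hcop, Nat.dvd_one, orderOf_eq_one_iff] at h4
    exact h4

/-- Multiplication by a linear character. -/
noncomputable def mulLin (F : K →* ℂˣ) (χ : IrrCharacter K) : IrrCharacter K :=
  ⟨fun g => (χ : K → ℂ) g * ((F g : ℂˣ) : ℂ), by
    classical
    let _ := Fintype.ofFinite K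
    apply isIrrCharacter_of_norm_one
    · exact isCharacter_mul (IsIrrCharacter.isCharacter χ.2)
        (IsIrrCharacter.isCharacter (isIrrCharacter_of_hom F))
    · have h1 := classInner_irr_self χ.2
      unfold classInner at h1 ⊢
      rw [← h1]
      congr 1
      refine Finset.sum_congr rfl (fun g _ => ?_)
      have h2 : conj ((F g : ℂˣ) : ℂ) = ((F g : ℂˣ) : ℂ)⁻¹ := by
        have := char_conj_eq_inv (IsIrrCharacter.isCharacter (isIrrCharacter_of_hom F)) g
        simpa using this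
      have h3 : ((F g : ℂˣ) : ℂ) ≠ 0 := (F g).ne_zero
      rw [map_mul, h2]
      field_simp⟩

@[simp] theorem mulLin_apply (F : K →* ℂˣ) (χ : IrrCharacter K) (g : K) :
    (mulLin F χ : K → ℂ) g = (χ : K → ℂ) g * ((F g : ℂˣ) : ℂ) := rfl

theorem mulLin_injective (F : K →* ℂˣ) : Function.Injective (mulLin F) := by
  intro χ ψ h
  apply Subtype.ext
  funext g
  have h1 := congrFun (congrArg Subtype.val h) g
  simp only [mulLin_apply] at h1
  exact mul_right_cancel₀ (F g).ne_zero h1

theorem charDegree_mulLin (F : K →* ℂˣ) (χ : IrrCharacter K) :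
    charDegree (mulLin F χ : K → ℂ) = charDegree (χ : K → ℂ) := by
  unfold charDegree
  simp

/-- **The degree lemma** for a nilpotent group whose order is not a prime power. -/
theorem two_sq_le_Lam (hnil : Group.IsNilpotent K) (hnp : ¬ ∃ p m : ℕ, p.Prime ∧ Nat.card K = p ^ m)
    {f : ℕ} (hf : 1 < f) {θ : K → ℂ} (hθ : IsIrrCharacter K θ) (hθf : f ≤ charDegree θ) :
    2 * f ^ 2 ≤ Lam K f := by
  classical
  obtain ⟨M, hMn, hM1, hM, hmin⟩ := exists_minimal_M hf hθ hθf
  have hMidx := index_le_Lam M hM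
  have hlt := commutator_top_lt hnil hMn hM1
  have hsqM : f ^ 2 ≤ M.index := by
    obtain ⟨β, hβ, hβ0, hβf⟩ := hmin _ (Subgroup.commutator_normal M ⊤) hlt
    have h1 := deg_sq_le_index hβ M (fun z hz g =>
      hβ0 _ (Subgroup.commutator_mem_commutator hz (Subgroup.mem_top g)))
    exact (Nat.pow_le_pow_left hβf 2).trans h1
  obtain ⟨M₁, q, hq, hM₁n, hM₁lt, hM₁c, hM₁z⟩ := exists_prime_sub hnil hMn hM1
  haveI : Fact q.Prime := ⟨hq⟩
  haveI := hnil
  obtain ⟨Q⟩ : Nonempty (Sylow q K) := inferInstance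
  haveI hQn : (Q : Subgroup K).Normal := inferInstance
  obtain ⟨C, hCn, hCc, hC⟩ := Cfsg.Agent.Lib.Carter.exists_hall_part (C := K) q
  have hs : Group.IsSolvable K := inferInstance
  have hQtop : (Q : Subgroup K) ≠ ⊤ := by
    intro h
    apply hnp
    obtain ⟨m, hm⟩ := IsPGroup.iff_card.mp Q.isPGroup'
    refine ⟨q, m, hq, ?_⟩
    rw [← hm, h, Subgroup.card_top]
  obtain ⟨ℓ, hℓ, hℓne, hℓQ, hℓ1⟩ := exists_linear_above hs (Q : Subgroup K) hQtop
  obtain ⟨F, hF⟩ := exists_hom_of_degree_one (IsIrrCharacter.isCharacter hℓ) hℓ1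
  have hFQ : ∀ u ∈ (Q : Subgroup K), F u = 1 := by
    intro u hu
    have := hℓQ u hu
    rw [hF, hℓ1] at this
    exact Units.ext this
  have hFne : ∃ x, F x ≠ 1 := by
    by_contra hcon
    push Not at hcon
    apply hℓne
    funext g
    rw [hF, hcon g]
    simp
  by_cases hcase : ∀ n ∈ M, F n = 1
  · -- `F` is trivial on `M`: a `q'`-element outside `M`
    obtain ⟨x, hx⟩ := hFne
    obtain ⟨c, hcF, hcc⟩ : ∃ c : K, F c ≠ 1 ∧ (orderOf c).Coprime q := by
      obtain ⟨a, m, hqm, hxord⟩ : ∃ a m : ℕ, ¬ q ∣ m ∧ orderOf x = q ^ a * m := by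
        obtain ⟨a, m, hm, he⟩ := Nat.exists_eq_pow_mul_and_not_dvd (orderOf_pos x).ne' q hq.ne_one
        exact ⟨a, m, hm, he⟩
      have hcop : Nat.Coprime (q ^ a) m :=
        Nat.Coprime.pow_left _ ((Nat.Prime.coprime_iff_not_dvd hq).2 hqm)
      -- `x₁ = x^m` is a `q`-element
      have h1 : F (x ^ m) = 1 := by
        apply hFQ
        apply Cfsg.Agent.Lib.CNMaxNil.mem_sylow_of_nilpotent Q
        refine ⟨a, ?_⟩
        rw [← pow_mul, mul_comm, ← hxord, pow_orderOf_eq_one]
      -- `x₂ = x^(q^a)` is a `q'`-element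
      have h2 : F x ^ m = 1 := by rw [← map_pow, h1]
      refine ⟨x ^ q ^ a, ?_, ?_⟩
      · intro h3
        rw [map_pow] at h3
        have h4 : orderOf (F x) ∣ Nat.gcd (q ^ a) m :=
          Nat.dvd_gcd (orderOf_dvd_of_pow_eq_one h3) (orderOf_dvd_of_pow_eq_one h2)
        rw [hcop, Nat.dvd_one, orderOf_eq_one_iff] at h4
        exact hx h4
      · have h3 : orderOf (x ^ q ^ a) ∣ m := by
          apply orderOf_dvd_of_pow_eq_one
          rw [← pow_mul, ← hxord, pow_orderOf_eq_one]
        exact Nat.Coprime.coprime_dvd_left h3 ((Nat.Prime.coprime_iff_not_dvd hq).2 hqm).symm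
    have hcC : c ∈ C := hC c hcc
    have hcM : c ∉ M := fun h => hcF (hcase c h)
    obtain ⟨β, hβ, hβ0, hβf⟩ := hmin M₁ hM₁n hM₁lt
    have hβc := IsIrrCharacter.isCharacter hβ
    set K₀ : Subgroup K := charKer hβc with hK₀
    have hmemK₀ : ∀ g, g ∈ K₀ ↔ β g = β 1 := fun g => mem_charKer hβc
    haveI hK₀n : K₀.Normal := inferInstance
    set Z : Subgroup K := (Subgroup.center (K ⧸ K₀)).comap (QuotientGroup.mk' K₀) with hZ
    have hmemZ : ∀ z, z ∈ Z ↔ ∀ g : K, z * g * z⁻¹ * g⁻¹ ∈ K₀ := by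
      intro z
      rw [hZ, Subgroup.mem_comap, Subgroup.mem_center_iff]
      constructor
      · intro h g
        have h1 := h (g : K ⧸ K₀)
        rw [QuotientGroup.mk'_apply, ← QuotientGroup.mk_mul, ← QuotientGroup.mk_mul,
          QuotientGroup.eq] at h1
        have h2 := hK₀n.conj_mem _ h1 (g * z)
        have e : g * z * ((g * z)⁻¹ * (z * g)) * (g * z)⁻¹ = z * g * z⁻¹ * g⁻¹ := by group
        rwa [e] at h2
      · intro h g
        obtain ⟨g, rfl⟩ := QuotientGroup.mk_surjective g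
        rw [QuotientGroup.mk'_apply, ← QuotientGroup.mk_mul, ← QuotientGroup.mk_mul,
          QuotientGroup.eq]
        have h2 := hK₀n.conj_mem _ (h g) (g * z)⁻¹
        have e : (g * z)⁻¹ * (z * g * z⁻¹ * g⁻¹) * (g * z)⁻¹⁻¹ = (g * z)⁻¹ * (z * g) := by group
        rwa [e] at h2
    have hMZ : M ≤ Z := by
      intro z hz
      rw [hmemZ]
      intro g
      rw [hmemK₀]
      exact hβ0 _ (hM₁c (Subgroup.commutator_mem_commutator hz (Subgroup.mem_top g)))
    have hex : ∃ z ∈ Z, z ∉ M := by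
      by_cases hCK : C ≤ K₀
      · refine ⟨c, ?_, hcM⟩
        rw [hmemZ]
        intro g
        have h1 : c ∈ K₀ := hCK hcC
        have h2 := hK₀n.conj_mem _ (K₀.inv_mem h1) g
        have e : c * g * c⁻¹ * g⁻¹ = c * (g * c⁻¹ * g⁻¹) := by group
        rw [e]
        exact K₀.mul_mem h1 h2
      · obtain ⟨z, hzC, hzK, hzc⟩ := exists_central_mod hnil K₀ _ C rfl hCn hCK
        refine ⟨z, (hmemZ z).mpr hzc, ?_⟩
        intro hzM
        apply hzK
        have hzord : (orderOf z).Coprime q :=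
          Nat.Coprime.coprime_dvd_left (Subgroup.orderOf_dvd_natCard C hzC) hCc
        exact (hmemK₀ z).mpr (hβ0 z (hM₁z z hzM hzord))
    obtain ⟨z, hzZ, hzM⟩ := hex
    have hbound := card_mul_sq_le_of_norm hβ Z (fun w hw => central_mod_ker_norm hβ (fun g => by
      exact (hmemK₀ _).mp ((hmemZ w).mp hw g)))
    have hZM : 2 * Nat.card M ≤ Nat.card Z := by
      obtain ⟨k, hk⟩ := Subgroup.card_dvd_of_le hMZ
      have hk0 : k ≠ 0 := by
        rintro rfl
        rw [mul_zero] at hk
        exact Nat.card_pos.ne' hk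
      have hk1 : k ≠ 1 := by
        rintro rfl
        rw [mul_one] at hk
        have : (M : Set K) = Z := Set.eq_of_subset_of_ncard_le hMZ (by
          rw [← Nat.card_coe_set_eq, ← Nat.card_coe_set_eq]
          exact hk.le) (Set.toFinite _)
        exact hzM (by rw [← SetLike.mem_coe, this]; exact hzZ)
      rw [hk, mul_comm]
      exact Nat.mul_le_mul_left _ (by omega)
    have hcard := Subgroup.card_mul_index M
    have h5 : 2 * charDegree β ^ 2 ≤ M.index := by
      have h7 : Nat.card M * (2 * charDegree β ^ 2) ≤ Nat.card M * M.index := by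
        rw [hcard]
        calc Nat.card M * (2 * charDegree β ^ 2) = (2 * Nat.card M) * charDegree β ^ 2 := by ring
          _ ≤ Nat.card Z * charDegree β ^ 2 := Nat.mul_le_mul_right _ hZM
          _ ≤ Nat.card K := hbound
      exact Nat.le_of_mul_le_mul_left h7 Nat.card_pos
    have h6 : f ^ 2 ≤ charDegree β ^ 2 := Nat.pow_le_pow_left hβf 2
    omega
  · -- `F` is non-trivial on `M`
    push Not at hcase
    obtain ⟨n, hnM, hFn⟩ := hcase
    set A : Finset (IrrCharacter K) :=
      Finset.univ.filter (fun χ => ∀ m ∈ M, (χ : K → ℂ) m = (χ : K → ℂ) 1) with hA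
    set B : Finset (IrrCharacter K) := A.image (mulLin F) with hB
    have hdisj : Disjoint A B := by
      rw [Finset.disjoint_left]
      intro χ hχA hχB
      obtain ⟨ψ, hψA, rfl⟩ := Finset.mem_image.mp hχB
      have h1 := (Finset.mem_filter.mp hχA).2 n hnM
      have h2 := (Finset.mem_filter.mp hψA).2 n hnM
      simp only [mulLin_apply, map_one, Units.val_one, mul_one] at h1
      rw [h2] at h1
      have h3 := mul_left_cancel₀ (isIrr_one_ne_zero ψ.2) (h1.trans (mul_one _).symm)
      exact hFn (Units.ext h3)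
    have hsumA : ∑ χ ∈ A, charDegree (χ : K → ℂ) ^ 2 = M.index := by
      rw [← sum_ker_eq_index M, hA, Finset.sum_filter]
    have hsumB : ∑ χ ∈ B, charDegree (χ : K → ℂ) ^ 2 = M.index := by
      rw [hB, Finset.sum_image (fun a _ b _ h => mulLin_injective F h), ← hsumA]
      refine Finset.sum_congr rfl (fun χ _ => ?_)
      rw [charDegree_mulLin]
    have hle : ∑ χ ∈ A ∪ B, charDegree (χ : K → ℂ) ^ 2 ≤ Lam K f := by
      unfold Lam
      calc ∑ χ ∈ A ∪ B, charDegree (χ : K → ℂ) ^ 2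
          = ∑ χ ∈ A ∪ B, (if charDegree (χ : K → ℂ) < f then charDegree (χ : K → ℂ) ^ 2 else 0) := by
            refine Finset.sum_congr rfl (fun χ hχ => ?_)
            rw [if_pos]
            rcases Finset.mem_union.mp hχ with h | h
            · exact hM χ (Finset.mem_filter.mp h).2
            · obtain ⟨ψ, hψ, rfl⟩ := Finset.mem_image.mp h
              rw [charDegree_mulLin]
              exact hM ψ (Finset.mem_filter.mp hψ).2
        _ ≤ _ := Finset.sum_le_sum_of_subset_of_nonneg (Finset.subset_univ _)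
            (fun _ _ _ => Nat.zero_le _)
    rw [Finset.sum_union hdisj, hsumA, hsumB] at hle
    omega

end Cfsg.Agent.Lib.FrobLam9
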