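import Mathlib
import Cfsg.Agent.Lib.FrobCoh9
import Cfsg.Agent.Lib.FrobIrr9
import Cfsg.Agent.Lib.FrobLam9
import Cfsg.Agent.Lib.Kegel
import Cfsg.Agent.Lib.ZassCore

/-!
# Coherence of the characters induced from a Frobenius kernel
-/

set_option autoImplicit false
set_option linter.unusedSectionVars false
open Cfsg

namespace Cfsg.Agent.Lib.FrobCohMain9

open Cfsg.Agent.Lib.CharBasic Cfsg.Agent.Lib.GenChar Cfsg.Agent.Lib.CharInd
  Cfsg.Agent.Lib.CharInduction Cfsg.Agent.Lib.CharKernel Cfsg.Agent.Lib.InducedIrr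
  Cfsg.Agent.Lib.CoherenceBasic Cfsg.Agent.Lib.FrobIrr9 Cfsg.Agent.Lib.FrobLam9
  Cfsg.Agent.Lib.FrobCoh9 Cfsg.Agent.Lib.CohExt9
open scoped ComplexConjugate

variable {L : Type*} [Group L] [Fintype L] {G : Type*} [Group G] [Fintype G]
  {H : Subgroup L} [hN : H.Normal]

/-- The fibres of induction have at most `[L : H]` members. -/
theorem fibre_card_le {ξ : L → ℂ} (hξ : IsIrrCharacter L ξ) :
    (Finset.univ.filter (fun θ : IrrCharacter H => indFun H (θ : H → ℂ) = ξ)).card ≤ H.index := by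
  classical
  let _ : Fintype H := Fintype.ofFinite H
  set FIB := Finset.univ.filter (fun θ : IrrCharacter H => indFun H (θ : H → ℂ) = ξ) with hFIB
  have hr : IsCharacter H (fun h : H => ξ h) := isCharacter_restrict H (IsIrrCharacter.isCharacter hξ)
  obtain ⟨m, hm⟩ := exists_nat_decomp hr
  have hmFIB : ∀ θ ∈ FIB, m θ = 1 := by
    intro θ hθ
    have h1 : indFun H (θ : H → ℂ) = ξ := (Finset.mem_filter.mp hθ).2
    have h2 : classInner (θ : H → ℂ) (fun h : H => ξ h) = 1 := by
      rw [← frobenius H _ (isClassFunction_of_isCharacter (IsIrrCharacter.isCharacter hξ)), h1]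
      exact classInner_irr_self hξ
    have h3 : classInner (fun h : H => ξ h) (θ : H → ℂ) = 1 := by
      rw [← classInner_conj_symm, h2]
      simp
    rw [hm, classInner_nat_decomp m _ θ.2] at h3
    exact_mod_cast h3
  -- the value at one
  have h1 : charDegree ξ = ∑ θ : IrrCharacter H, m θ * charDegree (θ : H → ℂ) := by
    have h2 := congrFun hm 1
    rw [Finset.sum_apply] at h2
    simp only [OneMemClass.coe_one, Pi.smul_apply] at h2
    rw [one_eq_charDegree (IsIrrCharacter.isCharacter hξ)] at h2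
    have h3 : ∀ θ : IrrCharacter H, (θ : H → ℂ) 1 = (charDegree (θ : H → ℂ) : ℂ) :=
      fun θ => one_eq_charDegree (IsIrrCharacter.isCharacter θ.2)
    simp only [h3, nsmul_eq_mul] at h2
    exact_mod_cast h2
  have hFd : ∀ θ ∈ FIB, H.index * charDegree (θ : H → ℂ) = charDegree ξ := by
    intro θ hθ
    rw [← charDegree_ind (IsIrrCharacter.isCharacter θ.2), (Finset.mem_filter.mp hθ).2]
  have h2 : FIB.card * charDegree ξ ≤ H.index * charDegree ξ := by
    calc FIB.card * charDegree ξ = ∑ θ ∈ FIB, charDegree ξ := by simp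
      _ = ∑ θ ∈ FIB, H.index * charDegree (θ : H → ℂ) :=
          Finset.sum_congr rfl (fun θ hθ => (hFd θ hθ).symm)
      _ = H.index * ∑ θ ∈ FIB, m θ * charDegree (θ : H → ℂ) := by
          rw [Finset.mul_sum]
          refine Finset.sum_congr rfl (fun θ hθ => ?_)
          rw [hmFIB θ hθ, one_mul]
      _ ≤ H.index * charDegree ξ := by
          apply Nat.mul_le_mul_left
          rw [h1]
          exact Finset.sum_le_sum_of_subset_of_nonneg (Finset.subset_univ _)
            (fun _ _ _ => Nat.zero_le _)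
  exact Nat.le_of_mul_le_mul_right h2 (charDegree_pos hξ)

/-- The trivial character as an irreducible character. -/
noncomputable def one9 (K : Type*) [Group K] [Finite K] : IrrCharacter K :=
  ⟨fun _ => 1, isIrrCharacter_one⟩

theorem charDegree_one9 (K : Type*) [Group K] [Finite K] : charDegree (one9 K : K → ℂ) = 1 := by
  simp [charDegree, one9]

/-- The sum bound: the squares of the degrees of the induced characters of degree smaller than
`e f`. -/
theorem sum_lower (hC : ∀ h ∈ H, h ≠ 1 → Subgroup.centralizer ({h} : Set L) ≤ H)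
    (F : Finset (L → ℂ)) (hF : ∀ ξ, ξ ∈ F ↔ ξ ∈ SS H) {f : ℕ} (hf : 1 < f) :
    H.index * (Lam H f - 1) ≤ ∑ ξ ∈ F.filter (fun ξ => charDegree ξ < H.index * f), charDegree ξ ^ 2 := by
  classical
  let _ : Fintype H := Fintype.ofFinite H
  have he : 0 < H.index := Nat.pos_of_ne_zero Subgroup.index_ne_zero_of_finite
  set T := (Finset.univ.filter (fun θ : IrrCharacter H => charDegree (θ : H → ℂ) < f)).erase (one9 H)
    with hT
  have hone : one9 H ∈ Finset.univ.filter (fun θ : IrrCharacter H => charDegree (θ : H → ℂ) < f) := by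
    simp only [Finset.mem_filter, Finset.mem_univ, true_and]
    rw [charDegree_one9]
    exact hf
  have hLam : Lam H f = ∑ θ ∈ T, charDegree (θ : H → ℂ) ^ 2 + 1 := by
    unfold Lam
    rw [← Finset.sum_filter, hT, ← Finset.sum_erase_add _ _ hone, charDegree_one9]
    simp
  have hLam' : Lam H f - 1 = ∑ θ ∈ T, charDegree (θ : H → ℂ) ^ 2 := by omega
  rw [hLam', Finset.mul_sum]
  set F' := F.filter (fun ξ => charDegree ξ < H.index * f) with hF'
  have hmaps : ∀ θ ∈ T, indFun H (θ : H → ℂ) ∈ F' := by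
    intro θ hθ
    have h1 := Finset.mem_erase.mp hθ
    have h2 := (Finset.mem_filter.mp h1.2).2
    rw [hF', Finset.mem_filter, hF]
    refine ⟨ind_mem hC θ.2 ?_, ?_⟩
    · intro h3
      exact h1.1 (Subtype.ext h3)
    · rw [charDegree_ind (IsIrrCharacter.isCharacter θ.2)]
      exact Nat.mul_lt_mul_of_pos_left h2 he
  rw [← Finset.sum_fiberwise_of_maps_to hmaps]
  refine Finset.sum_le_sum (fun ξ hξ => ?_)
  have hξF := (Finset.mem_filter.mp hξ).1
  have hξS := (hF ξ).mp hξF
  have hcard : (T.filter (fun θ : IrrCharacter H => indFun H (θ : H → ℂ) = ξ)).card ≤ H.index := by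
    refine le_trans (Finset.card_le_card ?_) (fibre_card_le (H := H) hξS.1)
    intro θ hθ
    simp only [Finset.mem_filter, Finset.mem_univ, true_and] at hθ ⊢
    exact hθ.2
  have hterm : ∀ θ ∈ T.filter (fun θ : IrrCharacter H => indFun H (θ : H → ℂ) = ξ),
      H.index * charDegree (θ : H → ℂ) ^ 2 * H.index = charDegree ξ ^ 2 := by
    intro θ hθ
    have h1 := (Finset.mem_filter.mp hθ).2
    rw [← h1, charDegree_ind (IsIrrCharacter.isCharacter θ.2)]
    ring
  have hmul : (∑ θ ∈ T.filter (fun θ : IrrCharacter H => indFun H (θ : H → ℂ) = ξ),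
      H.index * charDegree (θ : H → ℂ) ^ 2) * H.index ≤ charDegree ξ ^ 2 * H.index := by
    rw [Finset.sum_mul, Finset.sum_congr rfl hterm]
    simp only [Finset.sum_const, smul_eq_mul]
    rw [mul_comm]
    exact Nat.mul_le_mul_left _ hcard
  exact Nat.le_of_mul_le_mul_right hmul he

/-- The set of the induced characters is a finite set. -/
theorem exists_finset_SS : ∃ F : Finset (L → ℂ), ∀ ξ, ξ ∈ F ↔ ξ ∈ SS H := by
  classical
  have hfin : (SS H).Finite := by
    refine Set.Finite.subset (Set.finite_range (fun χ : IrrCharacter L => (χ : L → ℂ))) ?_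
    intro ξ hξ
    exact ⟨⟨ξ, hξ.1⟩, rfl⟩
  exact ⟨hfin.toFinset, fun ξ => by simp⟩

/-- The coherence theorem in terms of the sums of the squares of the degrees. -/
theorem coherent_main (hC : ∀ h ∈ H, h ≠ 1 → Subgroup.centralizer ({h} : Set L) ≤ H)
    (τ : (L → ℂ) → (G → ℂ)) (hτ : IsLinearIsometryOn (zspanOn (SS H) {1}ᶜ) τ)
    (hτ1 : ∀ α ∈ zspanOn (SS H) {1}ᶜ, τ α 1 = 0)
    (h2 : H.index + 1 < Lam H 2)
    (hf : ∀ θ : IrrCharacter H, 1 < charDegree (θ : H → ℂ) →
      2 * H.index * charDegree (θ : H → ℂ) + 1 < Lam H (charDegree (θ : H → ℂ))) :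
    IsCoherent (SS H) {1}ᶜ τ := by
  classical
  let _ : Fintype H := Fintype.ofFinite H
  have he : 0 < H.index := Nat.pos_of_ne_zero Subgroup.index_ne_zero_of_finite
  obtain ⟨F, hF⟩ := exists_finset_SS (H := H)
  have hFirr : ∀ ξ ∈ F, IsIrrCharacter L ξ := fun ξ hξ => ((hF ξ).mp hξ).1
  set d : (L → ℂ) → ℕ := charDegree with hd
  have hd1 : ∀ ξ ∈ F, ξ 1 = (d ξ : ℂ) := fun ξ hξ =>
    one_eq_charDegree (IsIrrCharacter.isCharacter (hFirr ξ hξ))
  -- each degree is a multiple of `e`
  have hFdeg : ∀ ξ ∈ F, ∃ θ : IrrCharacter H, (θ : H → ℂ) ≠ (fun _ => 1) ∧ ξ = indFun H (θ : H → ℂ) ∧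
      d ξ = H.index * charDegree (θ : H → ℂ) := by
    intro ξ hξ
    obtain ⟨θ, hθ, hne, h⟩ := exists_of_mem hC ((hF ξ).mp hξ)
    refine ⟨⟨θ, hθ⟩, hne, h, ?_⟩
    rw [h]
    exact charDegree_ind (IsIrrCharacter.isCharacter hθ)
  set S₀ := F.filter (fun ξ => d ξ = H.index) with hS₀
  -- `S₀` has at least two members
  have hS₀2 : ∃ a ∈ S₀, ∃ b ∈ S₀, a ≠ b := by
    have hb := sum_lower hC F hF (f := 2) (by norm_num)
    have hsub : F.filter (fun ξ => charDegree ξ < H.index * 2) = S₀ := by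
      ext ξ
      simp only [hS₀, Finset.mem_filter]
      constructor
      · rintro ⟨h1, h3⟩
        refine ⟨h1, ?_⟩
        obtain ⟨θ, -, -, h4⟩ := hFdeg ξ h1
        have h5 : 0 < charDegree (θ : H → ℂ) := charDegree_pos θ.2
        have h6 : charDegree (θ : H → ℂ) < 2 := by
          rw [show charDegree ξ = d ξ from rfl, h4] at h3
          exact Nat.lt_of_mul_lt_mul_left h3
        have h7 : charDegree (θ : H → ℂ) = 1 := by omega
        rw [h4, h7, mul_one]
      · rintro ⟨h1, h3⟩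
        refine ⟨h1, ?_⟩
        rw [show charDegree ξ = d ξ from rfl, h3]
        omega
    rw [hsub] at hb
    have hsq : ∑ ξ ∈ S₀, charDegree ξ ^ 2 = S₀.card * H.index ^ 2 := by
      rw [Finset.card_eq_sum_ones, Finset.sum_mul]
      refine Finset.sum_congr rfl (fun ξ hξ => ?_)
      rw [show charDegree ξ = d ξ from rfl, (Finset.mem_filter.mp hξ).2, one_mul]
    rw [hsq] at hb
    have hcard : 1 < S₀.card := by
      by_contra hcon
      have h3 : S₀.card ≤ 1 := by omega
      have h4 : H.index * (Lam H 2 - 1) ≤ H.index ^ 2 := by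
        calc _ ≤ S₀.card * H.index ^ 2 := hb
          _ ≤ 1 * H.index ^ 2 := Nat.mul_le_mul_right _ h3
          _ = _ := one_mul _
      have h5 : H.index * (Lam H 2 - 1) ≤ H.index * H.index := by
        rw [← sq]; exact h4
      have h6 := Nat.le_of_mul_le_mul_left h5 he
      omega
    obtain ⟨a, ha, b, hb', hab⟩ := Finset.one_lt_card.mp hcard
    exact ⟨a, ha, b, hb', hab⟩
  have hS₀F : S₀ ⊆ F := Finset.filter_subset _ _
  -- the base case
  have hbase : IsCoherent (↑S₀ : Set (L → ℂ)) {1}ᶜ τ := by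
    have hsubS : (↑S₀ : Set (L → ℂ)) ⊆ SS H := fun ξ hξ => (hF ξ).mp (hS₀F hξ)
    apply coherent_same_degree (↑S₀ : Set (L → ℂ)) (fun ξ hξ => hFirr ξ (hS₀F hξ))
    · intro φ hφ ψ hψ
      rw [hd1 φ (hS₀F hφ), hd1 ψ (hS₀F hψ), (Finset.mem_filter.mp hφ).2, (Finset.mem_filter.mp hψ).2]
    · exact hS₀2
    · exact iso_mono hτ (zspanOn_mono hsubS)
    · exact fun α hα => hτ1 α (zspanOn_mono hsubS hα)
  -- the induction over the sets closed below
  have hind : ∀ n : ℕ, ∀ X : Finset (L → ℂ), X.card = n → S₀ ⊆ X → X ⊆ F →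
      (∀ χ ∈ X, ∀ ξ ∈ F, d ξ < d χ → ξ ∈ X) → IsCoherent (↑X : Set (L → ℂ)) {1}ᶜ τ := by
    intro n
    induction n with
    | zero =>
      intro X hX hSX
      obtain ⟨a, ha, -⟩ := hS₀2
      rw [Finset.card_eq_zero] at hX
      subst hX
      exact absurd (hSX ha) (by simp)
    | succ n ih =>
      intro X hX hSX hXF hdown
      by_cases hXS : X = S₀
      · rw [hXS]; exact hbase
      -- a member of maximal degree
      have hXne : X.Nonempty := by
        rw [← Finset.card_pos]; omega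
      obtain ⟨χ, hχX, hχmax⟩ := Finset.exists_max_image X d hXne
      have hχnot : χ ∉ S₀ := by
        intro hχ
        apply hXS
        apply Finset.Subset.antisymm _ hSX
        intro ξ hξ
        rw [hS₀, Finset.mem_filter]
        refine ⟨hXF hξ, ?_⟩
        have h1 := hχmax ξ hξ
        rw [(Finset.mem_filter.mp hχ).2] at h1
        obtain ⟨θ, -, -, h4⟩ := hFdeg ξ (hXF hξ)
        have h5 : 0 < charDegree (θ : H → ℂ) := charDegree_pos θ.2
        rw [h4] at h1 ⊢
        have h6 : charDegree (θ : H → ℂ) ≤ 1 := by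
          by_contra hc
          have : H.index * 2 ≤ H.index * charDegree (θ : H → ℂ) := Nat.mul_le_mul_left _ (by omega)
          omega
        have h7 : charDegree (θ : H → ℂ) = 1 := by omega
        rw [h7, mul_one]
      set X' := X.erase χ with hX'
      have hinsert : insert χ X' = X := Finset.insert_erase hχX
      have hχX' : χ ∉ X' := Finset.notMem_erase _ _
      have hcard' : X'.card = n := by
        rw [hX', Finset.card_erase_of_mem hχX]; omega
      have hSX' : S₀ ⊆ X' := by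
        intro ξ hξ
        refine Finset.mem_erase.mpr ⟨?_, hSX hξ⟩
        rintro rfl
        exact hχnot hξ
      have hX'F : X' ⊆ F := (Finset.erase_subset _ _).trans hXF
      have hdown' : ∀ φ ∈ X', ∀ ξ ∈ F, d ξ < d φ → ξ ∈ X' := by
        intro φ hφ ξ hξ hlt
        refine Finset.mem_erase.mpr ⟨?_, hdown φ (Finset.mem_of_mem_erase hφ) ξ hξ hlt⟩
        rintro rfl
        have := hχmax φ (Finset.mem_of_mem_erase hφ)
        omega
      have hcoh := ih X' hcard' hSX' hX'F hdown'
      rw [← hinsert]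
      obtain ⟨a, ha, -⟩ := hS₀2
      have hχF := hXF hχX
      obtain ⟨θ, hθne, -, hdθ⟩ := hFdeg χ hχF
      have hθ1 : 1 < charDegree (θ : H → ℂ) := by
        by_contra hc
        have h5 : 0 < charDegree (θ : H → ℂ) := charDegree_pos θ.2
        have h7 : charDegree (θ : H → ℂ) = 1 := by omega
        apply hχnot
        rw [hS₀, Finset.mem_filter]
        refine ⟨hχF, ?_⟩
        rw [hdθ, h7, mul_one]
      have hsubS : (↑(insert χ X') : Set (L → ℂ)) ⊆ SS H := by
        rw [hinsert]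
        exact fun ξ hξ => (hF ξ).mp (hXF hξ)
      refine extend_coh X' χ (fun ξ hξ => hFirr ξ (hX'F hξ)) (hFirr χ hχF) hχX' d ?_ τ
        (iso_mono hτ (zspanOn_mono hsubS)) (fun α hα => hτ1 α (zspanOn_mono hsubS hα)) hcoh a
        (hSX' ha) ?_ ?_
      · intro ξ hξ
        rw [hinsert] at hξ
        exact hd1 ξ (hXF hξ)
      · rw [(Finset.mem_filter.mp ha).2, hdθ]
        exact Dvd.intro _ rfl
      · rw [(Finset.mem_filter.mp ha).2, hdθ]
        have hb := sum_lower hC F hF hθ1
        have hsub : F.filter (fun ξ => charDegree ξ < H.index * charDegree (θ : H → ℂ)) ⊆ X' := by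
          intro ξ hξ
          have h1 := Finset.mem_filter.mp hξ
          have h2' : d ξ < d χ := by rw [hdθ]; exact h1.2
          refine Finset.mem_erase.mpr ⟨?_, hdown χ hχX ξ h1.1 h2'⟩
          rintro rfl
          omega
        have hle : ∑ ξ ∈ F.filter (fun ξ => charDegree ξ < H.index * charDegree (θ : H → ℂ)),
            charDegree ξ ^ 2 ≤ ∑ ξ ∈ X', d ξ ^ 2 :=
          Finset.sum_le_sum_of_subset_of_nonneg hsub (fun _ _ _ => Nat.zero_le _)
        have hm := hf θ hθ1
        have hm2 : 2 * H.index * charDegree (θ : H → ℂ) < Lam H (charDegree (θ : H → ℂ)) - 1 := by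
          omega
        calc 2 * H.index * (H.index * charDegree (θ : H → ℂ))
            = H.index * (2 * H.index * charDegree (θ : H → ℂ)) := by ring
          _ < H.index * (Lam H (charDegree (θ : H → ℂ)) - 1) := Nat.mul_lt_mul_of_pos_left hm2 he
          _ ≤ _ := hb.trans hle
  exact hind F.card F rfl hS₀F subset_rfl (fun _ _ ξ hξ _ => hξ) |> fun h => by
    have : (↑F : Set (L → ℂ)) = SS H := by
      ext ξ; simp [hF]
    rwa [this] at h

/-- `[H : M] ≡ 1` modulo `[L : H]` for each normal subgroup `M` of `L` in `H`: stated as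
`[L : M] = [L : H] * k` with `k ≡ 1`. -/
theorem index_modEq (hC : ∀ h ∈ H, h ≠ 1 → Subgroup.centralizer ({h} : Set L) ≤ H)
    (M : Subgroup L) [M.Normal] (hM : M ≤ H) : ∃ k : ℕ, M.index = H.index * (H.index * k + 1) := by
  classical
  let _ : Fintype H := Fintype.ofFinite H
  have he : 0 < H.index := Nat.pos_of_ne_zero Subgroup.index_ne_zero_of_finite
  have h1 := sum_ker_eq_index M
  have h2 := sum_ker_eq_index H
  -- the characters trivial on `M` and non-trivial on `H`
  set A : Finset (IrrCharacter L) := Finset.univ.filter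
    (fun χ => (∀ n ∈ M, (χ : L → ℂ) n = (χ : L → ℂ) 1) ∧ ¬ ∀ n ∈ H, (χ : L → ℂ) n = (χ : L → ℂ) 1) with hA
  have h3 : M.index = H.index + ∑ χ ∈ A, charDegree (χ : L → ℂ) ^ 2 := by
    rw [← h1, ← h2, hA, Finset.sum_filter, ← Finset.sum_add_distrib]
    refine Finset.sum_congr rfl (fun χ _ => ?_)
    by_cases h4 : ∀ n ∈ H, (χ : L → ℂ) n = (χ : L → ℂ) 1
    · have h5 : ∀ n ∈ M, (χ : L → ℂ) n = (χ : L → ℂ) 1 := fun n hn => h4 n (hM hn)
      rw [if_pos h5, if_pos h4, if_neg (fun h => h.2 h4), add_zero]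
    · by_cases h5 : ∀ n ∈ M, (χ : L → ℂ) n = (χ : L → ℂ) 1
      · rw [if_pos h5, if_neg h4, if_pos ⟨h5, h4⟩, zero_add]
      · rw [if_neg h5, if_neg h4, if_neg (fun h => h5 h.1), zero_add]
  have h4 : ∀ χ ∈ A, H.index ^ 2 ∣ charDegree (χ : L → ℂ) ^ 2 := by
    intro χ hχ
    have h5 := (Finset.mem_filter.mp hχ).2.2
    push Not at h5
    obtain ⟨θ, hθ, -, h6⟩ := exists_of_mem hC (χ := (χ : L → ℂ)) ⟨χ.2, h5⟩
    rw [h6, charDegree_ind (IsIrrCharacter.isCharacter hθ)]
    exact pow_dvd_pow_of_dvd (Dvd.intro _ rfl) 2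
  obtain ⟨k, hk⟩ : H.index ^ 2 ∣ ∑ χ ∈ A, charDegree (χ : L → ℂ) ^ 2 := Finset.dvd_sum h4
  refine ⟨k, ?_⟩
  rw [h3, hk]
  ring

/-- An element outside `H` of prime order. -/
theorem exists_prime_order (hC : ∀ h ∈ H, h ≠ 1 → Subgroup.centralizer ({h} : Set L) ≤ H)
    {x : L} (hx : x ∉ H) : ∃ y : L, ∃ p : ℕ, p.Prime ∧ y ∉ H ∧ y ^ p = 1 ∧ y ∈ Subgroup.zpowers x := by
  classical
  -- the order of `x` modulo `H`
  set m := Nat.find (⟨orderOf x, orderOf_pos x, by rw [pow_orderOf_eq_one]; exact H.one_mem⟩ :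
    ∃ m : ℕ, 0 < m ∧ x ^ m ∈ H) with hm
  have hm1 : 0 < m ∧ x ^ m ∈ H := Nat.find_spec (⟨orderOf x, orderOf_pos x, by
    rw [pow_orderOf_eq_one]; exact H.one_mem⟩ : ∃ m : ℕ, 0 < m ∧ x ^ m ∈ H)
  have hm2 : ∀ k, k < m → ¬ (0 < k ∧ x ^ k ∈ H) := fun k hk =>
    Nat.find_min (⟨orderOf x, orderOf_pos x, by rw [pow_orderOf_eq_one]; exact H.one_mem⟩ :
      ∃ m : ℕ, 0 < m ∧ x ^ m ∈ H) hk
  have hm3 : m ≠ 1 := by
    intro h
    rw [h, pow_one] at hm1
    exact hx hm1.2
  obtain ⟨p, hp, k, hk⟩ := Nat.exists_prime_and_dvd hm3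
  have hk0 : 0 < k := by
    rcases Nat.eq_zero_or_pos k with h | h
    · subst h
      simp at hk
      omega
    · exact h
  have hklt : k < m := by
    rw [hk]
    have := hp.two_le
    nlinarith
  set y := x ^ k with hy
  have hyH : y ∉ H := fun h => hm2 k hklt ⟨hk0, h⟩
  have hyp : y ^ p ∈ H := by
    rw [hy, ← pow_mul, mul_comm, ← hk]
    exact hm1.2
  refine ⟨y, p, hp, hyH, ?_, Subgroup.npow_mem_zpowers x k⟩
  by_contra hne
  apply hyH
  apply hC _ hyp hne
  rw [Subgroup.mem_centralizer_singleton_iff]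
  exact ((Commute.refl y).pow_left p).eq.symm

/-- `H` is nilpotent. -/
theorem nilpotent_kernel (hC : ∀ h ∈ H, h ≠ 1 → Subgroup.centralizer ({h} : Set L) ≤ H)
    (hH2 : H ≠ ⊤) : Group.IsNilpotent H := by
  classical
  obtain ⟨x, hx⟩ : ∃ x, x ∉ H := by
    by_contra hcon
    push Not at hcon
    exact hH2 (eq_top_iff.mpr (fun x _ => hcon x))
  obtain ⟨y, p, hp, hyH, hyp, -⟩ := exists_prime_order hC hx
  let α : MulAut H := MulAut.conjNormal y
  have hα : ∀ u : H, (α u : L) = y * u * y⁻¹ := fun u => by simp [α, MulAut.conjNormal_apply]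
  refine Cfsg.Agent.Lib.Kegel.nilpotent_of_fpf α ?_ hp ?_
  · intro u hu
    by_contra hne
    have hu' : (u : L) ≠ 1 := fun h => hne (Subtype.ext h)
    apply hyH
    apply hC u u.2 hu'
    rw [Subgroup.mem_centralizer_singleton_iff]
    have := congrArg (Subtype.val) hu
    rw [hα] at this
    rw [mul_inv_eq_iff_eq_mul] at this
    exact this.symm ▸ rfl
  · have h1 : α = MulAut.conjNormal y := rfl
    rw [h1, ← map_pow, hyp, map_one]

/-- An involution outside `H` makes `H` abelian: if `[L : H]` is even then `H` is abelian. -/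
theorem comm_of_even (hC : ∀ h ∈ H, h ≠ 1 → Subgroup.centralizer ({h} : Set L) ≤ H)
    (he : 2 ∣ H.index) : ∀ u ∈ H, ∀ v ∈ H, u * v = v * u := by
  classical
  have : Fact (Nat.Prime 2) := ⟨Nat.prime_two⟩
  have hcard : 2 ∣ Nat.card (L ⧸ H) := by
    rw [← Subgroup.index_eq_card]; exact he
  obtain ⟨q, hq⟩ := exists_prime_orderOf_dvd_card' (G := L ⧸ H) 2 hcard
  obtain ⟨x, rfl⟩ := QuotientGroup.mk_surjective q
  have hxH : x ∉ H := by
    intro h
    have h1 : (x : L ⧸ H) = 1 := (QuotientGroup.eq_one_iff x).mpr h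
    rw [h1, orderOf_one] at hq
    omega
  have hx2 : x ^ 2 ∈ H := by
    have h1 : ((x : L ⧸ H)) ^ 2 = 1 := by rw [← hq]; exact pow_orderOf_eq_one _
    rw [← QuotientGroup.mk_pow, QuotientGroup.eq_one_iff] at h1
    exact h1
  have hx21 : x * x = 1 := by
    by_contra hne
    rw [← sq] at hne
    apply hxH
    apply hC _ hx2 hne
    rw [Subgroup.mem_centralizer_singleton_iff]
    exact ((Commute.refl x).pow_left 2).eq.symm
  have hinv := Cfsg.Agent.Lib.ZassCore.inv_of_fpf H x hx21
    (fun y hy => hN.conj_mem y hy x) (by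
      intro y hy hfix
      by_contra hne
      apply hxH
      apply hC y hy hne
      rw [Subgroup.mem_centralizer_singleton_iff]
      rw [mul_inv_eq_iff_eq_mul] at hfix
      exact hfix)
  intro u hu v hv
  have h1 := hinv u hu
  have h2 := hinv v hv
  have h3 := hinv (u * v) (H.mul_mem hu hv)
  have h4 : x * (u * v) * x⁻¹ = (x * u * x⁻¹) * (x * v * x⁻¹) := by group
  rw [h4, h1, h2, mul_inv_rev] at h3
  have h5 := congrArg (·⁻¹) h3
  simpa using h5.symm

section Quot
variable {K : Type*} [Group K] [Finite K]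

/-- In a nilpotent group a proper normal subgroup together with the commutator subgroup is still
proper. -/
theorem commutator_sup_ne_top (hnil : Group.IsNilpotent K) (N : Subgroup K) [hN : N.Normal]
    (h1 : N ≠ ⊤) : ⁅(⊤ : Subgroup K), (⊤ : Subgroup K)⁆ ⊔ N ≠ ⊤ := by
  intro htop
  have hQ : Group.IsNilpotent (K ⧸ N) := inferInstance
  have hne : (⊤ : Subgroup (K ⧸ N)) ≠ ⊥ := by
    intro h
    apply h1
    rw [eq_top_iff]
    intro x _
    have : (x : K ⧸ N) ∈ (⊤ : Subgroup (K ⧸ N)) := Subgroup.mem_top _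
    rw [h, Subgroup.mem_bot, QuotientGroup.eq_one_iff] at this
    exact this
  have hlt := commutator_top_lt hQ Subgroup.normal_top hne
  have h2 := congrArg (Subgroup.map (QuotientGroup.mk' N)) htop
  rw [Subgroup.map_sup, Subgroup.map_commutator, Subgroup.map_top_of_surjective _
    (QuotientGroup.mk'_surjective N)] at h2
  have h3 : Subgroup.map (QuotientGroup.mk' N) N = ⊥ := by
    rw [eq_bot_iff]
    rintro _ ⟨x, hx, rfl⟩
    rw [Subgroup.mem_bot]
    exact (QuotientGroup.eq_one_iff x).mpr hx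
  rw [h3, sup_bot_eq] at h2
  exact hlt.ne h2

/-- The characters trivial on the commutator subgroup are linear. -/
theorem index_commutator_le_Lam : (⁅(⊤ : Subgroup K), (⊤ : Subgroup K)⁆).index ≤ Lam K 2 := by
  apply index_le_Lam
  intro χ hχ
  have h1 := deg_sq_le_index χ.2 (⊤ : Subgroup K) (fun z _ g => hχ _ (by
    have := Subgroup.commutator_mem_commutator (Subgroup.mem_top z) (Subgroup.mem_top g)
    simpa [commutatorElement_def] using this))
  rw [Subgroup.index_top] at h1
  by_contra hc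
  have h2 : 2 ≤ charDegree (χ : K → ℂ) := by omega
  have h3 : 2 ^ 2 ≤ charDegree (χ : K → ℂ) ^ 2 := Nat.pow_le_pow_left h2 2
  omega

/-- The `q'`-part is characteristic. -/
theorem hall_char {Y : Subgroup K} {q : ℕ} (hY1 : (Nat.card Y).Coprime q)
    (hY2 : ∀ c : K, (orderOf c).Coprime q → c ∈ Y) : Y.Characteristic := by
  rw [Subgroup.characteristic_iff_map_le]
  rintro φ _ ⟨y, hy, rfl⟩
  apply hY2
  have h1 : orderOf ((φ.toMonoidHom) y) = orderOf y := by
    exact MulEquiv.orderOf_eq φ y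
  rw [h1]
  have h2 : orderOf y ∣ Nat.card Y := Subgroup.orderOf_dvd_natCard Y hy
  exact Nat.Coprime.coprime_dvd_left h2 hY1

/-- The `q'`-part has a `q`-power as index. -/
theorem hall_index {Y : Subgroup K} [Y.Normal] {q : ℕ} [hq : Fact q.Prime]
    (hY2 : ∀ c : K, (orderOf c).Coprime q → c ∈ Y) : ∃ n : ℕ, Y.index = q ^ n := by
  obtain ⟨a, c, hc, hac⟩ := Nat.exists_eq_pow_mul_and_not_dvd (n := Nat.card K) Nat.card_pos.ne' q
    hq.out.ne_one
  have hP : IsPGroup q (K ⧸ Y) := by
    intro g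
    obtain ⟨g, rfl⟩ := QuotientGroup.mk_surjective g
    refine ⟨a, ?_⟩
    rw [← QuotientGroup.mk_pow, QuotientGroup.eq_one_iff]
    apply hY2
    have h1 : orderOf (g ^ q ^ a) ∣ c := by
      apply orderOf_dvd_of_pow_eq_one
      rw [← pow_mul, ← hac]
      exact pow_card_eq_one'
    have h2 : Nat.Coprime c q := ((Nat.Prime.coprime_iff_not_dvd hq.out).mpr hc).symm
    exact Nat.Coprime.coprime_dvd_left h1 h2
  obtain ⟨n, hn⟩ := IsPGroup.iff_card.mp hP
  exact ⟨n, by rw [Subgroup.index_eq_card]; exact hn⟩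

end Quot

/-- The index of a characteristic subgroup of `H` is `1` modulo `[L : H]`. -/
theorem index_sub_modEq (hC : ∀ h ∈ H, h ≠ 1 → Subgroup.centralizer ({h} : Set L) ≤ H)
    (M' : Subgroup H) [hM' : M'.Characteristic] : ∃ k : ℕ, M'.index = H.index * k + 1 := by
  have he : 0 < H.index := Nat.pos_of_ne_zero Subgroup.index_ne_zero_of_finite
  have hn : (M'.map H.subtype).Normal := ConjAct.normal_of_characteristic_of_normal
  obtain ⟨k, hk⟩ := index_modEq hC (M'.map H.subtype) (Subgroup.map_subtype_le M')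
  refine ⟨k, ?_⟩
  rw [Subgroup.index_map_subtype, mul_comm] at hk
  exact Nat.eq_of_mul_eq_mul_left he hk

/-- If `H` is nilpotent and not of prime power order, `H` has many linear characters. -/
theorem lam_two_ge (hC : ∀ h ∈ H, h ≠ 1 → Subgroup.centralizer ({h} : Set L) ≤ H)
    (hnil : Group.IsNilpotent H) (hodd : Odd H.index)
    (hnp : ¬ ∃ p m : ℕ, p.Prime ∧ Nat.card H = p ^ m) :
    (2 * H.index + 1) * (H.index + 1) ≤ Lam H 2 := by
  classical
  have he : 0 < H.index := Nat.pos_of_ne_zero Subgroup.index_ne_zero_of_finite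
  -- an odd prime
  obtain ⟨q, hqp, hqd, hqo⟩ : ∃ q : ℕ, q.Prime ∧ q ∣ Nat.card H ∧ Odd q := by
    rcases Nat.eq_two_pow_or_exists_odd_prime_and_dvd (Nat.card H) with ⟨k, hk⟩ | h
    · exact absurd ⟨2, k, Nat.prime_two, hk⟩ hnp
    · obtain ⟨p, hp1, hp2, hp3⟩ := h
      exact ⟨p, hp1, hp2, hp3⟩
  have : Fact q.Prime := ⟨hqp⟩
  have hnil' := hnil
  obtain ⟨Y, hYn, hYc, hYall⟩ := Cfsg.Agent.Lib.Carter.exists_hall_part (C := H) q
  obtain ⟨P⟩ : Nonempty (Sylow q H) := inferInstance
  have hPn : (P : Subgroup H).Normal := inferInstance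
  have hYch := hall_char hYc hYall
  have hPch : (P : Subgroup H).Characteristic := Sylow.characteristic_of_normal P hPn
  -- the two subgroups
  have hsupchar : ∀ N : Subgroup H, N.Characteristic →
      (⁅(⊤ : Subgroup H), (⊤ : Subgroup H)⁆ ⊔ N).Characteristic := by
    intro N hN'
    rw [Subgroup.characteristic_iff_map_eq]
    intro φ
    rw [Subgroup.map_sup]
    have h1 := (Subgroup.characteristic_iff_map_eq.mp hN') φ
    have h2 := (Subgroup.characteristic_iff_map_eq.mp
      (Subgroup.commutator_characteristic (⊤ : Subgroup H) (⊤ : Subgroup H))) φ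
    rw [h1, h2]
  set C' := ⁅(⊤ : Subgroup H), (⊤ : Subgroup H)⁆ with hC'
  have hY1 : Y ≠ ⊤ := by
    rintro rfl
    have h1 : Nat.card (⊤ : Subgroup H) = Nat.card H := Nat.card_congr Subgroup.topEquiv.toEquiv
    rw [h1] at hYc
    exact (Nat.Prime.coprime_iff_not_dvd hqp).mp hYc.symm hqd
  have hP1 : (P : Subgroup H) ≠ ⊤ := by
    intro htop
    have h1 : Nat.card (P : Subgroup H) = Nat.card H := by
      rw [htop]; exact Nat.card_congr Subgroup.topEquiv.toEquiv
    obtain ⟨n, hn⟩ := IsPGroup.iff_card.mp P.isPGroup'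
    apply hnp
    exact ⟨q, n, hqp, by rw [← h1]; exact hn⟩
  have hchar1 := hsupchar Y hYch
  have hchar2 := hsupchar P hPch
  obtain ⟨k₁, hk₁⟩ := index_sub_modEq hC (C' ⊔ Y)
  obtain ⟨k₂, hk₂⟩ := index_sub_modEq hC (C' ⊔ (P : Subgroup H))
  have hne1 : (C' ⊔ Y).index ≠ 1 := by
    intro h
    exact commutator_sup_ne_top hnil Y hY1 (Subgroup.index_eq_one.mp h)
  have hne2 : (C' ⊔ (P : Subgroup H)).index ≠ 1 := by
    intro h
    exact commutator_sup_ne_top hnil P hP1 (Subgroup.index_eq_one.mp h)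
  obtain ⟨n, hn⟩ := hall_index (Y := Y) (q := q) hYall
  have hd1 : (C' ⊔ Y).index ∣ q ^ n := by
    rw [← hn]; exact Subgroup.index_dvd_of_le le_sup_right
  have hd2 : (C' ⊔ (P : Subgroup H)).index ∣ (P : Subgroup H).index :=
    Subgroup.index_dvd_of_le le_sup_right
  have hnd : ¬ q ∣ (P : Subgroup H).index := P.not_dvd_index
  have hcop : Nat.Coprime (C' ⊔ Y).index (C' ⊔ (P : Subgroup H)).index := by
    have h1 : Nat.Coprime (q ^ n) (P : Subgroup H).index :=
      Nat.Coprime.pow_left n ((Nat.Prime.coprime_iff_not_dvd hqp).mpr hnd)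
    exact Nat.Coprime.coprime_dvd_left hd1 (Nat.Coprime.coprime_dvd_right hd2 h1)
  have hprod : (C' ⊔ Y).index * (C' ⊔ (P : Subgroup H)).index ∣ C'.index :=
    Nat.Coprime.mul_dvd_of_dvd_of_dvd hcop (Subgroup.index_dvd_of_le le_sup_left)
      (Subgroup.index_dvd_of_le le_sup_left)
  have hCpos : 0 < C'.index := Nat.pos_of_ne_zero Subgroup.index_ne_zero_of_finite
  have hle1 := Nat.le_of_dvd hCpos hprod
  have hle2 : C'.index ≤ Lam H 2 := index_commutator_le_Lam
  -- the sizes
  have hodd1 : Odd (C' ⊔ Y).index := by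
    have h1 : Odd (q ^ n) := hqo.pow
    exact Odd.of_dvd_nat h1 hd1
  have hk₁0 : k₁ ≠ 0 := by
    rintro rfl
    rw [mul_zero, zero_add] at hk₁
    exact hne1 hk₁
  have hk₂0 : k₂ ≠ 0 := by
    rintro rfl
    rw [mul_zero, zero_add] at hk₂
    exact hne2 hk₂
  have hk₁2 : 2 ≤ k₁ := by
    by_contra hc
    have h1 : k₁ = 1 := by omega
    rw [h1, mul_one] at hk₁
    rw [hk₁] at hodd1
    obtain ⟨a, ha⟩ := hodd
    obtain ⟨b, hb⟩ := hodd1
    omega
  have hb1 : 2 * H.index + 1 ≤ (C' ⊔ Y).index := by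
    rw [hk₁]
    have : H.index * 2 ≤ H.index * k₁ := Nat.mul_le_mul_left _ hk₁2
    omega
  have hb2 : H.index + 1 ≤ (C' ⊔ (P : Subgroup H)).index := by
    rw [hk₂]
    have : H.index * 1 ≤ H.index * k₂ := Nat.mul_le_mul_left _ (by omega)
    omega
  calc (2 * H.index + 1) * (H.index + 1) ≤ _ := Nat.mul_le_mul hb1 hb2
    _ ≤ C'.index := hle1
    _ ≤ _ := hle2

/-- The main theorem. -/
theorem coherent_or_pgroup (hH1 : H ≠ ⊥) (hH2 : H ≠ ⊤)
    (hC : ∀ h ∈ H, h ≠ 1 → Subgroup.centralizer ({h} : Set L) ≤ H)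
    (he : Nat.card H ≠ H.index + 1)
    (τ : (L → ℂ) → (G → ℂ)) (hτ : IsLinearIsometryOn (zspanOn (SS H) {1}ᶜ) τ)
    (hτ1 : ∀ α ∈ zspanOn (SS H) {1}ᶜ, τ α 1 = 0) :
    IsCoherent (SS H) {1}ᶜ τ ∨ ∃ p : ℕ, p.Prime ∧ (∃ m : ℕ, Nat.card H = p ^ m) ∧
      ¬ IsMulCommutative H ∧ (⁅H, H⁆.subgroupOf H).index ≤ 4 * H.index ^ 2 + 1 := by
  classical
  have he0 : 0 < H.index := Nat.pos_of_ne_zero Subgroup.index_ne_zero_of_finite
  have hnil := nilpotent_kernel hC hH2
  have hcom : (⁅H, H⁆.subgroupOf H) = ⁅(⊤ : Subgroup H), (⊤ : Subgroup H)⁆ := by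
    apply Subgroup.map_injective H.subtype_injective
    rw [Subgroup.map_commutator, Subgroup.map_subgroupOf_eq_of_le (Subgroup.commutator_le_left H H)]
    have h1 : Subgroup.map H.subtype (⊤ : Subgroup H) = H := by
      rw [← MonoidHom.range_eq_map, Subgroup.range_subtype]
    rw [h1]
  by_cases hab : ∀ u v : H, u * v = v * u
  · -- `H` abelian
    left
    have hh : (⊥ : Subgroup H).index = Nat.card H := Subgroup.index_bot
    have hdeg : ∀ θ : IrrCharacter H, charDegree (θ : H → ℂ) = 1 := by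
      intro θ
      have h1 := deg_sq_le_index θ.2 (⊤ : Subgroup H) (fun z _ g => by
        have h0 : z * g * z⁻¹ * g⁻¹ = 1 := by rw [hab z g, mul_assoc, mul_assoc, mul_inv_cancel_left, mul_inv_cancel]
        rw [h0])
      rw [Subgroup.index_top] at h1
      have h2 := charDegree_pos θ.2
      by_contra hc
      have h3 : 2 ≤ charDegree (θ : H → ℂ) := by omega
      have h4 : 2 ^ 2 ≤ charDegree (θ : H → ℂ) ^ 2 := Nat.pow_le_pow_left h3 2
      omega
    have hL : Nat.card H ≤ Lam H 2 := by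
      rw [← hh]
      apply index_le_Lam
      intro χ _
      rw [hdeg χ]
      omega
    obtain ⟨k, hk⟩ := index_sub_modEq hC (⊥ : Subgroup H)
    rw [hh] at hk
    have hk2 : 2 ≤ k := by
      by_contra hc
      have h1 : k = 0 ∨ k = 1 := by omega
      rcases h1 with rfl | rfl
      · rw [mul_zero, zero_add] at hk
        apply hH1
        have := (Subgroup.eq_bot_iff_card _).mpr hk
        exact this
      · rw [mul_one] at hk
        exact he hk
    refine coherent_main hC τ hτ hτ1 ?_ ?_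
    · have : H.index * 2 ≤ H.index * k := Nat.mul_le_mul_left _ hk2
      omega
    · intro θ hθ
      rw [hdeg θ] at hθ
      omega
  · have hodd : Odd H.index := by
      rw [← Nat.not_even_iff_odd, even_iff_two_dvd]
      intro h2
      apply hab
      intro u v
      exact Subtype.ext (comm_of_even hC h2 u u.2 v v.2)
    have hnc : ¬ IsMulCommutative H := by
      intro hcomm
      apply hab
      intro u v
      exact hcomm.is_comm.comm u v
    by_cases hp : ∃ p m : ℕ, p.Prime ∧ Nat.card H = p ^ m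
    · obtain ⟨p, m, hp1, hp2⟩ := hp
      by_cases hsmall : (⁅H, H⁆.subgroupOf H).index ≤ 4 * H.index ^ 2 + 1
      · right
        exact ⟨p, hp1, ⟨m, hp2⟩, hnc, hsmall⟩
      · left
        rw [hcom] at hsmall
        have hL := index_commutator_le_Lam (K := H)
        refine coherent_main hC τ hτ hτ1 ?_ ?_
        · have : H.index ≤ H.index ^ 2 := Nat.le_self_pow (by norm_num) _
          omega
        · intro θ hθ
          by_cases hfe : charDegree (θ : H → ℂ) ≤ 2 * H.index
          · have h1 : Lam H 2 ≤ Lam H (charDegree (θ : H → ℂ)) := Lam_mono hθ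
            have h2 : 2 * H.index * charDegree (θ : H → ℂ) ≤ 2 * H.index * (2 * H.index) :=
              Nat.mul_le_mul_left _ hfe
            have h3 : 2 * H.index * (2 * H.index) = 4 * H.index ^ 2 := by ring
            omega
          · have h1 := sq_le_Lam hnil hθ θ.2 le_rfl
            have h2 : (2 * H.index + 1) * charDegree (θ : H → ℂ) ≤ charDegree (θ : H → ℂ) ^ 2 := by
              rw [sq]
              exact Nat.mul_le_mul_right _ (by omega)
            have h3 : (2 * H.index + 1) * charDegree (θ : H → ℂ)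
              = 2 * H.index * charDegree (θ : H → ℂ) + charDegree (θ : H → ℂ) := by ring
            omega
    · left
      have hL := lam_two_ge hC hnil hodd hp
      have hexp : (2 * H.index + 1) * (H.index + 1) = 2 * H.index * H.index + 3 * H.index + 1 := by
        ring
      refine coherent_main hC τ hτ hτ1 ?_ ?_
      · have : 0 ≤ 2 * H.index * H.index := Nat.zero_le _
        omega
      · intro θ hθ
        by_cases hfe : charDegree (θ : H → ℂ) ≤ H.index + 1
        · have h1 : Lam H 2 ≤ Lam H (charDegree (θ : H → ℂ)) := Lam_mono hθ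
          have h2 : 2 * H.index * charDegree (θ : H → ℂ) ≤ 2 * H.index * (H.index + 1) :=
            Nat.mul_le_mul_left _ hfe
          have h3 : 2 * H.index * (H.index + 1) = 2 * H.index * H.index + 2 * H.index := by ring
          omega
        · have h1 := two_sq_le_Lam hnil hp hθ θ.2 le_rfl
          have h2 : (2 * H.index + 2) * charDegree (θ : H → ℂ) ≤ 2 * charDegree (θ : H → ℂ) ^ 2 := by
            have h3 : (2 * H.index + 2) * charDegree (θ : H → ℂ)
                = 2 * ((H.index + 1) * charDegree (θ : H → ℂ)) := by ring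
            rw [h3, sq]
            exact Nat.mul_le_mul_left _ (Nat.mul_le_mul_right _ (by omega))
          have h3 : (2 * H.index + 2) * charDegree (θ : H → ℂ)
              = 2 * H.index * charDegree (θ : H → ℂ) + 2 * charDegree (θ : H → ℂ) := by ring
          omega

end Cfsg.Agent.Lib.FrobCohMain9
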