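import Mathlib
import Cfsg.Agent.Lib.GL2Char
import Cfsg.Agent.Lib.CharDecomp
import Cfsg.Agent.Lib.CharValues
import Cfsg.Agent.Lib.Clifford

/-!
# The irreducible characters of `GL₂(q)`: classification by degree.
-/

set_option autoImplicit false
set_option linter.unusedSectionVars false
set_option linter.unusedSimpArgs false
set_option linter.style.haveILetI false

namespace Cfsg.Agent.Lib.GL2Irr

open Cfsg Cfsg.Agent.Lib.CharBasic Cfsg.Agent.Lib.CharInd Cfsg.Agent.Lib.GL2Char
  Cfsg.Agent.Lib.CharDecomp Matrix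
open scoped ComplexConjugate

variable {F : Type*} [Field F] [DecidableEq F] [Fintype F]

local notation "G2" => Matrix.GeneralLinearGroup (Fin 2) F
local notation "B2" => Cfsg.upperTriangularGL 2 F
local notation "X" => MulChar F ℂ

noncomputable instance instFintypeX : Fintype (MulChar F ℂ) := Fintype.ofFinite _

/-! ### Dual orthogonality -/

theorem card_X : Fintype.card (MulChar F ℂ) = Fintype.card F - 1 := by
  rw [← Nat.card_eq_fintype_card, MulChar.card_eq_card_units_of_hasEnoughRootsOfUnity,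
    Nat.card_eq_fintype_card, Fintype.card_units]

theorem cardF_sub_one_cast : ((Fintype.card F - 1 : ℕ) : ℂ) = (Fintype.card F : ℂ) - 1 := by
  rw [Nat.cast_sub Fintype.card_pos]
  simp

theorem sum_X_apply (a : Fˣ) :
    ∑ α : MulChar F ℂ, α (a : F) = if a = 1 then (Fintype.card F : ℂ) - 1 else 0 := by
  split_ifs with h
  · subst h
    simp only [Units.val_one, map_one, Finset.sum_const, Finset.card_univ, nsmul_eq_mul, mul_one]
    rw [card_X, cardF_sub_one_cast]
  · have ha : (a : F) ≠ 1 := fun e => h (Units.ext e)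
    obtain ⟨β, hβ⟩ := MulChar.exists_apply_ne_one_of_hasEnoughRootsOfUnity F ℂ ha
    have h1 : ∑ α : MulChar F ℂ, α (a : F) = β a * ∑ α : MulChar F ℂ, α (a : F) := by
      rw [Finset.mul_sum, ← Equiv.sum_comp (Equiv.mulLeft β)]
      refine Finset.sum_congr rfl fun α _ => ?_
      simp [MulChar.mul_apply]
    have h2 : (1 - β a) * ∑ α : MulChar F ℂ, α (a : F) = 0 := by
      rw [sub_mul, one_mul]
      exact sub_eq_zero.mpr h1
    exact (mul_eq_zero.mp h2).resolve_left (sub_ne_zero.mpr hβ.symm)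

theorem sum_X_conj (a b : Fˣ) :
    ∑ α : MulChar F ℂ, α (a : F) * conj (α (b : F)) =
      if a = b then (Fintype.card F : ℂ) - 1 else 0 := by
  have h := sum_X_apply (a * b⁻¹)
  have h2 : (a * b⁻¹ = 1) ↔ a = b := mul_inv_eq_one
  simp only [h2] at h
  rw [← h]
  refine Finset.sum_congr rfl fun α _ => ?_
  rw [mulChar_conj, MulChar.inv_apply', Units.val_mul, map_mul, Units.val_inv_eq_inv_val]

/-! ### Linear characters -/

/-- The linear character `α ∘ det`. -/
noncomputable def lin (α : MulChar F ℂ) : G2 → ℂ := fun g => α (g : Matrix (Fin 2) (Fin 2) F).det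

/-- `lin` as a homomorphism -/
noncomputable def linHom (α : MulChar F ℂ) : G2 →* ℂˣ :=
  α.toUnitHom.comp Matrix.GeneralLinearGroup.det

theorem lin_isIrr (α : MulChar F ℂ) : IsIrrCharacter G2 (lin α) := by
  have := isIrrCharacter_of_hom (linHom α)
  have e : (fun g => ((linHom α g : ℂˣ) : ℂ)) = lin α := by
    funext g
    simp [linHom, lin]
  rwa [e] at this

theorem lin_isChar (α : MulChar F ℂ) : IsCharacter G2 (lin α) :=
  IsIrrCharacter.isCharacter (lin_isIrr α)

theorem lin_isClass (α : MulChar F ℂ) : IsClassFunction G2 (lin α) :=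
  isClassFunction_of_isCharacter (lin_isChar α)

theorem lin_mk2 (α : MulChar F ℂ) (a b c d : F) (h : a * d - b * c ≠ 0) :
    lin α (mk2 a b c d h) = α (a * d - b * c) := by
  simp [lin, Matrix.det_fin_two_of]

theorem lin_injective : Function.Injective (lin (F := F)) := by
  intro α β h
  ext a
  have h1 := congrFun h (mk2 (a : F) 0 0 1 (by simp))
  simpa [lin_mk2] using h1

theorem sum_lin_bmk (γ : MulChar F ℂ) (a d : Fˣ) :
    ∑ s : F, lin γ ((bmk a d s : B2) : G2) = (Fintype.card F : ℂ) * (γ a * γ d) := by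
  have h : ∀ s : F, lin γ ((bmk a d s : B2) : G2) = γ a * γ d := by
    intro s
    have : ((bmk a d s : B2) : G2) = mk2 (a : F) s 0 (d : F) (mk2_det_ne a d s) := rfl
    rw [this, lin_mk2]
    simp
  simp [h, Finset.card_univ]

theorem ite_calc2 {q Q : ℂ} (hq : q ≠ 0) (hQ : Q ≠ 0) (p₁ p₂ : Prop) [Decidable p₁]
    [Decidable p₂] :
    (Q ^ 2 * q)⁻¹ * (q * ((if p₁ then Q else 0) * (if p₂ then Q else 0))) =
    (if p₁ ∧ p₂ then 1 else 0) := by
  by_cases h1 : p₁ <;> by_cases h2 : p₂ <;>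
    simp only [h1, h2, if_true, if_false, and_self, and_true, true_and, and_false,
      false_and, mul_zero, zero_mul, add_zero, zero_add] <;>
    field_simp

theorem classInner_chi_lin (α β γ : MulChar F ℂ) :
    classInner (chi α β) (lin γ) = if α = γ ∧ β = γ then 1 else 0 := by
  rw [classInner_chi_left α β (lin_isClass γ)]
  simp only [sum_lin_bmk, map_mul, map_natCast]
  have h : ∀ (a d : Fˣ), α a * β d * ((Fintype.card F : ℂ) * (conj (γ a) * conj (γ d))) =
      (Fintype.card F : ℂ) * ((α a * conj (γ a)) * (β d * conj (γ d))) := by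
    intros; ring
  have h1 : ∑ a : Fˣ, ∑ d : Fˣ, α a * β d * ((Fintype.card F : ℂ) * (conj (γ a) * conj (γ d))) =
      (Fintype.card F : ℂ) * ((∑ a : Fˣ, α a * conj (γ a)) * (∑ d : Fˣ, β d * conj (γ d))) := by
    simp only [h, ← Finset.mul_sum, Finset.sum_mul_sum]
  rw [h1]
  simp only [orth_mulChar]
  exact ite_calc2 card_ne card_sub_one_ne _ _

theorem classInner_lin_chi (α β γ : MulChar F ℂ) :
    classInner (lin γ) (chi α β) = if α = γ ∧ β = γ then 1 else 0 := by
  rw [← classInner_conj_symm, classInner_chi_lin]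
  split_ifs <;> simp

theorem classInner_lin_lin (α β : MulChar F ℂ) :
    classInner (lin α) (lin β) = if α = β then 1 else 0 := by
  split_ifs with h
  · subst h; exact classInner_irr_self (lin_isIrr α)
  · exact classInner_irr_ne (lin_isIrr α) (lin_isIrr β) (fun e => h (lin_injective e))

/-! ### The Steinberg type characters -/

/-- The character `chi α α - lin α`. -/
noncomputable def st (α : MulChar F ℂ) : G2 → ℂ := chi α α - lin α

theorem chi_eq_lin_add_st (α : MulChar F ℂ) : chi α α = lin α + st α := by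
  simp [st]

theorem st_isChar (α : MulChar F ℂ) : IsCharacter G2 (st α) := by
  obtain ⟨ψ, hψ, h⟩ := exists_char_add (chi_isChar α α) (lin_isIrr α) (by
    rw [classInner_chi_lin]; simp)
  have : st α = ψ := by
    simp [st, h]
  rwa [this]

theorem classInner_st_st (α β : MulChar F ℂ) :
    classInner (st α) (st β) = if α = β then 1 else 0 := by
  unfold st
  rw [classInner_sub_left, classInner_sub_right, classInner_sub_right, classInner_chi_chi,
    classInner_chi_lin, classInner_lin_chi, classInner_lin_lin]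
  by_cases h : α = β
  · subst h; simp
  · have h' : β ≠ α := fun e => h e.symm
    simp [h, h']

theorem st_isIrr (α : MulChar F ℂ) : IsIrrCharacter G2 (st α) := by
  apply isIrrCharacter_of_norm_one (st_isChar α)
  rw [classInner_st_st]
  simp

theorem classInner_chi_st (α β γ : MulChar F ℂ) :
    classInner (chi α β) (st γ) = if α = γ ∧ β = γ then 1 else 0 := by
  unfold st
  rw [classInner_sub_right, classInner_chi_chi, classInner_chi_lin]
  by_cases h : α = γ ∧ β = γ
  · simp [h]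
  · have h' : ¬ (α = γ ∧ β = γ) := h
    simp [h']

theorem classInner_lin_st (α β : MulChar F ℂ) : classInner (lin α) (st β) = 0 := by
  unfold st
  rw [classInner_sub_right, classInner_lin_chi, classInner_lin_lin]
  by_cases h : β = α
  · subst h; simp
  · have h' : α ≠ β := fun e => h e.symm
    simp [h, h']

/-- `IsCusp χ`: the class function `χ` is orthogonal to the whole principal series. -/
def IsCusp (χ : G2 → ℂ) : Prop := ∀ α β : MulChar F ℂ, classInner (chi α β) χ = 0

theorem eq_of_inner_ne {χ ψ : G2 → ℂ} (hχ : IsIrrCharacter G2 χ) (hψ : IsIrrCharacter G2 ψ)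
    (h : classInner χ ψ ≠ 0) : χ = ψ := by
  by_contra hne
  exact h (classInner_irr_ne hχ hψ hne)

/-- Every irreducible character is linear, Steinberg, principal series or cuspidal. -/
theorem classify {χ : G2 → ℂ} (hχ : IsIrrCharacter G2 χ) :
    (∃ α, χ = lin α) ∨ (∃ α, χ = st α) ∨ (∃ α β, α ≠ β ∧ χ = chi α β) ∨ IsCusp χ := by
  by_cases hc : IsCusp χ
  · exact Or.inr (Or.inr (Or.inr hc))
  · unfold IsCusp at hc
    push Not at hc
    obtain ⟨α, β, h⟩ := hc
    by_cases hαβ : α = β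
    · subst hαβ
      rw [chi_eq_lin_add_st, classInner_add_left] at h
      by_cases h1 : classInner (lin α) χ = 0
      · rw [h1, zero_add] at h
        exact Or.inr (Or.inl ⟨α, (eq_of_inner_ne (st_isIrr α) hχ h).symm⟩)
      · exact Or.inl ⟨α, (eq_of_inner_ne (lin_isIrr α) hχ h1).symm⟩
    · exact Or.inr (Or.inr (Or.inl ⟨α, β, hαβ, (eq_of_inner_ne (chi_isIrr α β hαβ) hχ h).symm⟩))

/-! ### Cuspidal class functions -/

/-- Fourier inversion on the torus. -/
theorem fourier_inversion (h : Fˣ → Fˣ → ℂ)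
    (H : ∀ α β : MulChar F ℂ, ∑ a : Fˣ, ∑ d : Fˣ, α a * β d * h a d = 0) (a₀ d₀ : Fˣ) :
    h a₀ d₀ = 0 := by
  have h1 : ∑ α : MulChar F ℂ, ∑ β : MulChar F ℂ, conj (α a₀) * conj (β d₀) *
      (∑ a : Fˣ, ∑ d : Fˣ, α a * β d * h a d) = 0 := by
    simp [H]
  have h2 : ∑ α : MulChar F ℂ, ∑ β : MulChar F ℂ, conj (α a₀) * conj (β d₀) *
      (∑ a : Fˣ, ∑ d : Fˣ, α a * β d * h a d) =
      ∑ a : Fˣ, ∑ d : Fˣ, h a d * ((∑ α : MulChar F ℂ, α a * conj (α a₀)) *
        (∑ β : MulChar F ℂ, β d * conj (β d₀))) := by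
    have e1 : ∀ a d : Fˣ, h a d * ((∑ α : MulChar F ℂ, α a * conj (α a₀)) *
        (∑ β : MulChar F ℂ, β d * conj (β d₀))) = ∑ α : MulChar F ℂ, ∑ β : MulChar F ℂ,
          h a d * ((α a * conj (α a₀)) * (β d * conj (β d₀))) := by
      intro a d
      rw [Finset.sum_mul_sum, Finset.mul_sum]
      simp only [Finset.mul_sum]
    simp only [e1]
    simp only [Finset.mul_sum]
    calc _ = ∑ α : MulChar F ℂ, ∑ a : Fˣ, ∑ β : MulChar F ℂ, ∑ d : Fˣ,
            conj (α a₀) * conj (β d₀) * (α a * β d * h a d) :=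
          Finset.sum_congr rfl fun α _ => Finset.sum_comm
      _ = ∑ a : Fˣ, ∑ α : MulChar F ℂ, ∑ β : MulChar F ℂ, ∑ d : Fˣ,
            conj (α a₀) * conj (β d₀) * (α a * β d * h a d) := Finset.sum_comm
      _ = ∑ a : Fˣ, ∑ α : MulChar F ℂ, ∑ d : Fˣ, ∑ β : MulChar F ℂ,
            conj (α a₀) * conj (β d₀) * (α a * β d * h a d) :=
          Finset.sum_congr rfl fun a _ => Finset.sum_congr rfl fun α _ => Finset.sum_comm
      _ = ∑ a : Fˣ, ∑ d : Fˣ, ∑ α : MulChar F ℂ, ∑ β : MulChar F ℂ,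
            conj (α a₀) * conj (β d₀) * (α a * β d * h a d) :=
          Finset.sum_congr rfl fun a _ => Finset.sum_comm
      _ = _ := by
          refine Finset.sum_congr rfl fun a _ => Finset.sum_congr rfl fun d _ =>
            Finset.sum_congr rfl fun α _ => Finset.sum_congr rfl fun β _ => ?_
          ring
  rw [h2] at h1
  simp only [sum_X_conj] at h1
  rw [Finset.sum_eq_single a₀, Finset.sum_eq_single d₀] at h1
  · simp only [if_true] at h1
    have hQ := card_sub_one_ne (F := F)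
    have : h a₀ d₀ * (((Fintype.card F : ℂ) - 1) * ((Fintype.card F : ℂ) - 1)) = 0 := h1
    exact (mul_eq_zero.mp this).resolve_right (mul_ne_zero hQ hQ)
  · intro d _ hd
    simp [hd]
  · intro h0; exact absurd (Finset.mem_univ _) h0
  · intro a _ ha
    simp [ha]
  · intro h0; exact absurd (Finset.mem_univ _) h0

/-- Along each `U`-coset of the torus, a class function orthogonal to the principal series sums to
zero. -/
theorem cusp_sum_zero {χ : G2 → ℂ} (hcl : IsClassFunction G2 χ) (hc : IsCusp χ) (a d : Fˣ) :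
    ∑ s : F, χ ((bmk a d s : B2) : G2) = 0 := by
  have hH : ∀ α β : MulChar F ℂ, ∑ a : Fˣ, ∑ d : Fˣ, α a * β d *
      conj (∑ s : F, χ ((bmk a d s : B2) : G2)) = 0 := by
    intro α β
    have h := hc α β
    rw [classInner_chi_left α β hcl] at h
    refine (mul_eq_zero.mp h).resolve_left ?_
    exact inv_ne_zero (mul_ne_zero (pow_ne_zero _ card_sub_one_ne) card_ne)
  have := fourier_inversion (fun a d => conj (∑ s : F, χ ((bmk a d s : B2) : G2))) hH a d
  exact (map_eq_zero (starRingEnd ℂ)).mp this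

/-- `U`-conjugates of a diagonal matrix with different entries. -/
theorem isConj_bmk_regular (a d : Fˣ) (s : F) (h : a ≠ d) :
    ∃ y : G2, y * ((bmk a d 0 : B2) : G2) * y⁻¹ = ((bmk a d s : B2) : G2) := by
  have hne : (d : F) - a ≠ 0 := sub_ne_zero.mpr (fun e => h (Units.ext e.symm))
  refine ⟨mk2 1 (s / (d - a)) 0 1 (by simp), ?_⟩
  rw [mul_inv_eq_iff_eq_mul]
  apply ext2
  · simp [(mul_entries _ _).1, mk2_apply00, mk2_apply01, mk2_apply10, mk2_apply11]
  · simp only [(mul_entries _ _).2.1, mk2_apply00, mk2_apply01, mk2_apply10, mk2_apply11, bmk_00,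
      bmk_01, bmk_10, bmk_11]
    field_simp
    ring
  · simp [(mul_entries _ _).2.2.1, mk2_apply00, mk2_apply01, mk2_apply10, mk2_apply11]
  · simp [(mul_entries _ _).2.2.2, mk2_apply00, mk2_apply01, mk2_apply10, mk2_apply11]

theorem sum_bmk_regular {χ : G2 → ℂ} (hcl : IsClassFunction G2 χ) (a d : Fˣ) (h : a ≠ d) :
    ∑ s : F, χ ((bmk a d s : B2) : G2) = (Fintype.card F : ℂ) * χ ((bmk a d 0 : B2) : G2) := by
  have h1 : ∀ s : F, χ ((bmk a d s : B2) : G2) = χ ((bmk a d 0 : B2) : G2) := by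
    intro s
    obtain ⟨y, hy⟩ := isConj_bmk_regular a d s h
    rw [← hy, hcl]
  simp [h1, Finset.card_univ]

/-- The transvection. -/
noncomputable def uu : G2 := ((bmk 1 1 1 : B2) : G2)

theorem bmk_one_zero : ((bmk (1 : Fˣ) 1 0 : B2) : G2) = 1 := by
  apply ext2 <;> simp

theorem isConj_bmk_unip (s : F) (h : s ≠ 0) :
    ∃ y : G2, y * uu * y⁻¹ = ((bmk (1 : Fˣ) 1 s : B2) : G2) := by
  refine ⟨mk2 s 0 0 1 (by simp [h]), ?_⟩
  rw [mul_inv_eq_iff_eq_mul]
  apply ext2
  · simp [uu, (mul_entries _ _).1, mk2_apply00, mk2_apply01, mk2_apply10, mk2_apply11]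
  · simp [uu, (mul_entries _ _).2.1, mk2_apply00, mk2_apply01, mk2_apply10, mk2_apply11]
  · simp [uu, (mul_entries _ _).2.2.1, mk2_apply00, mk2_apply01, mk2_apply10, mk2_apply11]
  · simp [uu, (mul_entries _ _).2.2.2, mk2_apply00, mk2_apply01, mk2_apply10, mk2_apply11]

theorem sum_bmk_unip {χ : G2 → ℂ} (hcl : IsClassFunction G2 χ) :
    ∑ s : F, χ ((bmk (1 : Fˣ) 1 s : B2) : G2) = χ 1 + ((Fintype.card F : ℂ) - 1) * χ uu := by
  rw [← Finset.add_sum_erase _ _ (Finset.mem_univ (0 : F)), bmk_one_zero]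
  congr 1
  have h1 : ∀ s ∈ Finset.univ.erase (0 : F), χ ((bmk (1 : Fˣ) 1 s : B2) : G2) = χ uu := by
    intro s hs
    obtain ⟨y, hy⟩ := isConj_bmk_unip s (Finset.ne_of_mem_erase hs)
    rw [← hy, hcl]
  rw [Finset.sum_congr rfl h1]
  simp [Finset.card_erase_of_mem, Finset.card_univ, cardF_sub_one_cast]

/-! ### Properties of an irreducible cuspidal character -/

theorem cusp_diag_zero {χ : G2 → ℂ} (hcl : IsClassFunction G2 χ) (hc : IsCusp χ) (a d : Fˣ)
    (h : a ≠ d) : χ ((bmk a d 0 : B2) : G2) = 0 := by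
  have h1 := cusp_sum_zero hcl hc a d
  rw [sum_bmk_regular hcl a d h] at h1
  exact (mul_eq_zero.mp h1).resolve_left card_ne

theorem cusp_unip {χ : G2 → ℂ} (hcl : IsClassFunction G2 χ) (hc : IsCusp χ) :
    χ 1 + ((Fintype.card F : ℂ) - 1) * χ uu = 0 := by
  rw [← sum_bmk_unip hcl]
  exact cusp_sum_zero hcl hc 1 1

/-- An algebraic integer which is a rational number is an integer. -/
theorem exists_int_of_isIntegral {z : ℂ} (hz : IsIntegral ℤ z) {a b : ℕ} (hb : b ≠ 0)
    (h : z * b = a) : ∃ k : ℤ, z = k := by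
  have hb' : (b : ℂ) ≠ 0 := by exact_mod_cast hb
  have hz' : z = (((a : ℚ) / (b : ℚ) : ℚ) : ℂ) := by
    push_cast
    field_simp
    exact h
  rw [hz'] at hz
  have h2 : IsIntegral ℤ ((a : ℚ) / (b : ℚ) : ℚ) := by
    have := (isIntegral_algebraMap_iff (A := ℚ) (B := ℂ) (R := ℤ)
      (algebraMap ℚ ℂ).injective (x := ((a : ℚ) / (b : ℚ) : ℚ))).mp
    exact this (by simpa using hz)
  obtain ⟨k, hk⟩ := IsIntegrallyClosed.isIntegral_iff.mp h2
  refine ⟨k, ?_⟩
  rw [hz', ← hk]
  simp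

/-- The multiplicity attached to an irreducible cuspidal character. -/
theorem cusp_exists_m {χ : G2 → ℂ} (hχ : IsIrrCharacter G2 χ) (hc : IsCusp χ) :
    ∃ m : ℕ, 1 ≤ m ∧ χ 1 = (m : ℂ) * ((Fintype.card F : ℂ) - 1) ∧ χ uu = -(m : ℂ) := by
  have hch := IsIrrCharacter.isCharacter hχ
  have hcl := isClassFunction_of_isCharacter hch
  have h0 := cusp_unip hcl hc
  obtain ⟨d, hdpos, hd⟩ := Cfsg.Agent.Lib.Clifford.irr_degree_pos hχ
  obtain ⟨n, ρ, rfl⟩ := id hch
  have hint : IsIntegral ℤ (-(ρ.character uu)) :=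
    (Cfsg.Agent.Lib.CharValues.isIntegral_character ρ uu).neg
  have hq : 1 < Fintype.card F := Fintype.one_lt_card
  have hz : -(ρ.character uu) * ((Fintype.card F - 1 : ℕ) : ℂ) = (d : ℂ) := by
    rw [cardF_sub_one_cast, ← hd]
    linear_combination -h0
  obtain ⟨k, hk⟩ := exists_int_of_isIntegral hint (by omega : Fintype.card F - 1 ≠ 0) hz
  rw [hk] at hz
  have hz' : k * ((Fintype.card F - 1 : ℕ) : ℤ) = (d : ℤ) := by exact_mod_cast hz
  have hkpos : 0 < k := by
    by_contra hneg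
    push Not at hneg
    have h1 : k * ((Fintype.card F - 1 : ℕ) : ℤ) ≤ 0 :=
      mul_nonpos_of_nonpos_of_nonneg hneg (by positivity)
    have h2 : (0 : ℤ) < d := by exact_mod_cast hdpos
    omega
  obtain ⟨m, rfl⟩ : ∃ m : ℕ, k = m := ⟨k.toNat, (Int.toNat_of_nonneg hkpos.le).symm⟩
  refine ⟨m, by exact_mod_cast hkpos, ?_, ?_⟩
  · rw [hd, ← hz, cardF_sub_one_cast]
    simp
  · have : ρ.character uu = -((m : ℤ) : ℂ) := by
      rw [← hk]; simp
    simpa using this

/-! ### Conjugacy classes: a lower bound for their number -/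

/-- The scalar matrices. -/
noncomputable def scal (c : Fˣ) : G2 := mk2 (c : F) 0 0 c (by simp)

/-- Companion matrices. -/
noncomputable def comp2 (t : F) (d : Fˣ) : G2 := mk2 0 (-(d : F)) 1 t (by simp)

theorem scal_comm (c : Fˣ) (y : G2) : y * scal c = scal c * y := by
  apply ext2 <;>
    simp [scal, (mul_entries _ _).1, (mul_entries _ _).2.1, (mul_entries _ _).2.2.1,
      (mul_entries _ _).2.2.2, mk2_apply00, mk2_apply01, mk2_apply10, mk2_apply11, mul_comm]

theorem isConj_scal {c : Fˣ} {g : G2} (h : IsConj (scal c) g) : g = scal c := by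
  obtain ⟨y, hy⟩ := isConj_iff.mp h
  rw [← hy, scal_comm, mul_assoc, mul_inv_cancel, mul_one]

theorem isConj_det {g h : G2} (H : IsConj g h) :
    (g : Matrix (Fin 2) (Fin 2) F).det = (h : Matrix (Fin 2) (Fin 2) F).det := by
  obtain ⟨y, hy⟩ := isConj_iff.mp H
  rw [← hy]
  have h1 : ((y * g * y⁻¹ : G2) : Matrix (Fin 2) (Fin 2) F) =
      (y : Matrix (Fin 2) (Fin 2) F) * g * ((y⁻¹ : G2) : Matrix (Fin 2) (Fin 2) F) := rfl
  rw [h1, Matrix.det_mul, Matrix.det_mul, mul_right_comm, ← Matrix.det_mul]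
  have h2 : (y : Matrix (Fin 2) (Fin 2) F) * ((y⁻¹ : G2) : Matrix (Fin 2) (Fin 2) F) = 1 := by
    rw [← Units.val_mul, mul_inv_cancel, Units.val_one]
  rw [h2, Matrix.det_one, one_mul]

theorem isConj_trace {g h : G2} (H : IsConj g h) :
    (g : Matrix (Fin 2) (Fin 2) F).trace = (h : Matrix (Fin 2) (Fin 2) F).trace := by
  obtain ⟨y, hy⟩ := isConj_iff.mp H
  rw [← hy]
  have h1 : ((y * g * y⁻¹ : G2) : Matrix (Fin 2) (Fin 2) F) =
      (y : Matrix (Fin 2) (Fin 2) F) * g * ((y⁻¹ : G2) : Matrix (Fin 2) (Fin 2) F) := rfl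
  rw [h1, Matrix.trace_mul_comm, ← mul_assoc]
  have h2 : ((y⁻¹ : G2) : Matrix (Fin 2) (Fin 2) F) * (y : Matrix (Fin 2) (Fin 2) F) = 1 := by
    rw [← Units.val_mul, inv_mul_cancel, Units.val_one]
  rw [h2, one_mul]

/-- The classes of scalar and companion matrices are pairwise different. -/
theorem classMap_injective : Function.Injective
    (fun x : Fˣ ⊕ (F × Fˣ) => match x with
      | Sum.inl c => ConjClasses.mk (scal c)
      | Sum.inr p => ConjClasses.mk (comp2 p.1 p.2)) := by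
  rintro (c | ⟨t, d⟩) (c' | ⟨t', d'⟩) h
  · have h1 := ConjClasses.mk_eq_mk_iff_isConj.mp h
    have h2 := isConj_scal h1
    have h3 : (c' : F) = c := congrArg (fun g : G2 => (g : Matrix (Fin 2) (Fin 2) F) 0 0) h2
    rw [Units.ext h3]
  · exfalso
    have h1 := ConjClasses.mk_eq_mk_iff_isConj.mp h
    have h2 := isConj_scal h1
    have h3 : (1 : F) = 0 := congrArg (fun g : G2 => (g : Matrix (Fin 2) (Fin 2) F) 1 0) h2
    exact one_ne_zero h3
  · exfalso
    have h1 := ConjClasses.mk_eq_mk_iff_isConj.mp h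
    have h2 := isConj_scal h1.symm
    have h3 : (1 : F) = 0 := congrArg (fun g : G2 => (g : Matrix (Fin 2) (Fin 2) F) 1 0) h2
    exact one_ne_zero h3
  · have h1 := ConjClasses.mk_eq_mk_iff_isConj.mp h
    have h2 := isConj_trace h1
    have h3 := isConj_det h1
    simp only [comp2, coe_mk2, Matrix.trace_fin_two_of, Matrix.det_fin_two_of, zero_add] at h2 h3
    have h4 : (d : F) = d' := by simpa using h3
    rw [h2, Units.ext h4]

theorem card_conjClasses_ge :
    (Fintype.card F) ^ 2 - 1 ≤ Nat.card (ConjClasses G2) := by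
  have h := Nat.card_le_card_of_injective _ (classMap_injective (F := F))
  refine le_trans (le_of_eq ?_) h
  simp only [Nat.card_eq_fintype_card, Fintype.card_sum, Fintype.card_prod, Fintype.card_units]
  have hq : 1 ≤ Fintype.card F := Fintype.card_pos
  obtain ⟨q, hq'⟩ : ∃ q, Fintype.card F = q + 1 := ⟨Fintype.card F - 1, by omega⟩
  rw [hq']
  simp only [add_tsub_cancel_right]
  have : (q + 1) ^ 2 - 1 = q + (q + 1) * q := by
    have : (q + 1) ^ 2 = q + (q + 1) * q + 1 := by ring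
    omega
  omega

/-! ### Counting -/

/-- Index set for the principal series of irreducibles. -/
abbrev PP (F : Type*) [Field F] := {p : Sym2 (MulChar F ℂ) // ¬ p.IsDiag}

/-- The principal series character of an unordered pair. -/
noncomputable def chiSym : Sym2 (MulChar F ℂ) → (G2 → ℂ) :=
  Sym2.lift ⟨fun α β => chi α β, fun α β => chi_comm α β⟩

theorem chiSym_mk (α β : MulChar F ℂ) : chiSym s(α, β) = chi α β := rfl

theorem chiSym_isIrr (p : PP F) : IsIrrCharacter G2 (chiSym p.1) := by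
  obtain ⟨p, hp⟩ := p
  induction p using Sym2.ind with
  | _ α β =>
    have : α ≠ β := by simpa using hp
    exact chi_isIrr α β this

theorem chiSym_injective : Function.Injective (fun p : PP F => chiSym (F := F) p.1) := by
  rintro ⟨p, hp⟩ ⟨r, hr⟩ h
  apply Subtype.ext
  induction p using Sym2.ind with
  | _ α β =>
    induction r using Sym2.ind with
    | _ α' β' =>
      have := (chi_eq_iff α β α' β').mp h
      exact Sym2.eq_iff.mpr this

/-- The family of non cuspidal irreducible characters. -/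
noncomputable def ee : MulChar F ℂ ⊕ (MulChar F ℂ ⊕ PP F) → IrrCharacter G2
  | Sum.inl α => ⟨lin α, lin_isIrr α⟩
  | Sum.inr (Sum.inl α) => ⟨st α, st_isIrr α⟩
  | Sum.inr (Sum.inr p) => ⟨chiSym p.1, chiSym_isIrr p⟩

theorem lin_ne_st (α β : MulChar F ℂ) : lin α ≠ st β := by
  intro h
  have := classInner_lin_st α β
  rw [h, classInner_st_st] at this
  simp at this

theorem lin_ne_chi (γ : MulChar F ℂ) (p : PP F) : lin γ ≠ chiSym p.1 := by
  obtain ⟨p, hp⟩ := p
  induction p using Sym2.ind with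
  | _ α β =>
    have hne : α ≠ β := by simpa using hp
    intro h
    have := classInner_lin_chi α β γ
    rw [h, show chiSym s(α, β) = chi α β from rfl, classInner_chi_chi] at this
    have h2 : ¬ (α = γ ∧ β = γ) := fun e => hne (e.1.trans e.2.symm)
    have h3 : ¬ (α = β ∧ β = α) := fun e => hne e.1
    simp [h2, h3, hne] at this

theorem st_ne_chi (γ : MulChar F ℂ) (p : PP F) : st γ ≠ chiSym p.1 := by
  obtain ⟨p, hp⟩ := p
  induction p using Sym2.ind with
  | _ α β =>
    have hne : α ≠ β := by simpa using hp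
    intro h
    have := classInner_chi_st α β γ
    rw [h, show chiSym s(α, β) = chi α β from rfl, classInner_chi_chi] at this
    have h2 : ¬ (α = γ ∧ β = γ) := fun e => hne (e.1.trans e.2.symm)
    have h3 : ¬ (α = β ∧ β = α) := fun e => hne e.1
    simp [h2, h3, hne] at this

theorem st_injective : Function.Injective (st (F := F)) := by
  intro α β h
  have := classInner_st_st α β
  rw [h, classInner_st_st] at this
  by_contra hne
  simp [hne] at this

theorem ee_injective : Function.Injective (ee (F := F)) := by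
  have h1 : ∀ (a b : MulChar F ℂ ⊕ (MulChar F ℂ ⊕ PP F)), (ee a : IrrCharacter G2) = ee b →
      (ee a : IrrCharacter G2).1 = (ee b).1 := fun a b h => by rw [h]
  rintro (α | α | p) (β | β | r) h <;> have h2 := h1 _ _ h <;> simp only [ee] at h2
  · rw [lin_injective h2]
  · exact absurd h2 (lin_ne_st _ _)
  · exact absurd h2 (lin_ne_chi _ _)
  · exact absurd h2.symm (lin_ne_st _ _)
  · rw [st_injective h2]
  · exact absurd h2 (st_ne_chi _ _)
  · exact absurd h2.symm (lin_ne_chi _ _)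
  · exact absurd h2.symm (st_ne_chi _ _)
  · rw [chiSym_injective h2]

theorem not_cusp_ee (x : MulChar F ℂ ⊕ (MulChar F ℂ ⊕ PP F)) : ¬ IsCusp (ee x).1 := by
  intro hc
  rcases x with α | α | ⟨p, hp⟩
  · have := hc α α
    simp only [ee] at this
    rw [classInner_chi_lin] at this
    simp at this
  · have := hc α α
    simp only [ee] at this
    rw [classInner_chi_st] at this
    simp at this
  · induction p using Sym2.ind with
    | _ α β =>
      have hne : α ≠ β := by simpa using hp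
      have := hc α β
      simp only [ee] at this
      rw [show chiSym s(α, β) = chi α β from rfl, classInner_chi_chi] at this
      simp [hne] at this

theorem exists_ee {χ : G2 → ℂ} (hχ : IsIrrCharacter G2 χ) (hc : ¬ IsCusp χ) :
    ∃ x, (ee x).1 = χ := by
  rcases classify hχ with ⟨α, rfl⟩ | ⟨α, rfl⟩ | ⟨α, β, hne, rfl⟩ | h
  · exact ⟨Sum.inl α, rfl⟩
  · exact ⟨Sum.inr (Sum.inl α), rfl⟩
  · exact ⟨Sum.inr (Sum.inr ⟨s(α, β), by simpa using hne⟩), rfl⟩
  · exact absurd h hc

theorem lin_one (α : MulChar F ℂ) : lin α (1 : G2) = 1 := by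
  simp [lin]

theorem chi_one (α β : MulChar F ℂ) : chi α β (1 : G2) = (Fintype.card F : ℂ) + 1 := by
  rw [chi_apply]
  simp [Finset.card_univ, add_comm]

theorem st_one (α : MulChar F ℂ) : st α (1 : G2) = (Fintype.card F : ℂ) := by
  simp [st, chi_one, lin_one]

theorem chiSym_one (p : PP F) : chiSym p.1 (1 : G2) = (Fintype.card F : ℂ) + 1 := by
  obtain ⟨p, hp⟩ := p
  induction p using Sym2.ind with
  | _ α β => exact chi_one α β

theorem card_PP : 2 * Fintype.card (PP F) = (Fintype.card F - 1) * (Fintype.card F - 1 - 1) := by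
  classical
  rw [Fintype.card_congr (Equiv.subtypeEquivRight (fun p => Iff.rfl)), Sym2.card_subtype_not_diag,
    card_X, Nat.choose_two_right]
  exact Nat.mul_div_cancel' (Nat.even_mul_pred_self _).two_dvd

theorem card_GL2 : Nat.card G2 =
    (Fintype.card F - 1) ^ 2 * Fintype.card F * (Fintype.card F + 1) := by
  have h := Matrix.card_GL_field (𝔽 := F) 2
  rw [h]
  simp only [Fin.prod_univ_two, Fin.val_zero, Fin.val_one, pow_zero, pow_one]
  have hq : 1 ≤ Fintype.card F := Fintype.card_pos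
  obtain ⟨q, hq'⟩ : ∃ q, Fintype.card F = q + 1 := ⟨Fintype.card F - 1, by omega⟩
  rw [hq']
  simp only [add_tsub_cancel_right]
  have h1 : (q + 1) ^ 2 - 1 = q * (q + 2) := by
    have : (q + 1) ^ 2 = q * (q + 2) + 1 := by ring
    omega
  have h2 : (q + 1) ^ 2 - (q + 1) = (q + 1) * q := by
    have : (q + 1) ^ 2 = (q + 1) * q + (q + 1) := by ring
    omega
  rw [h1, h2]
  ring

open Classical in
/-- The finset of cuspidal irreducibles. -/
noncomputable def cuspSet : Finset (IrrCharacter G2) := Finset.univ.filter (fun χ => IsCusp χ.1)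

/-- The multiplicity function on the irreducibles. -/
noncomputable def mFun (χ : IrrCharacter G2) : ℕ := by
  classical
  exact if h : IsCusp χ.1 then (cusp_exists_m χ.2 h).choose else 1

theorem mFun_spec (χ : IrrCharacter G2) (h : IsCusp χ.1) :
    1 ≤ mFun χ ∧ χ.1 1 = (mFun χ : ℂ) * ((Fintype.card F : ℂ) - 1) ∧ χ.1 uu = -(mFun χ : ℂ) := by
  unfold mFun
  rw [dif_pos h]
  exact (cusp_exists_m χ.2 h).choose_spec

theorem arith_S {Q C S : ℕ} (hQ : 1 ≤ Q) (hC : 2 * C = Q * (Q - 1))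
    (h : Q + Q * (Q + 1) ^ 2 + C * (Q + 2) ^ 2 + Q ^ 2 * S = Q ^ 2 * (Q + 1) * (Q + 2)) :
    2 * S = Q * (Q + 1) := by
  obtain ⟨P, rfl⟩ : ∃ P, Q = P + 1 := ⟨Q - 1, by omega⟩
  simp only [add_tsub_cancel_right] at hC
  have hC' : (2 : ℤ) * C = (P + 1) * P := by exact_mod_cast hC
  have h' : ((P : ℤ) + 1) + (P + 1) * (P + 1 + 1) ^ 2 + C * (P + 1 + 2) ^ 2 + (P + 1) ^ 2 * S =
      (P + 1) ^ 2 * (P + 1 + 1) * (P + 1 + 2) := by exact_mod_cast h
  have h2 : ((P : ℤ) + 1) ^ 2 * (2 * S - (P + 1) * (P + 1 + 1)) = 0 := by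
    linear_combination 2 * h' - (P + 1 + 2) ^ 2 * hC'
  have h3 : ((P : ℤ) + 1) ^ 2 ≠ 0 := by positivity
  have h4 := (mul_eq_zero.mp h2).resolve_left h3
  have h5 : (2 : ℤ) * S = (P + 1) * (P + 1 + 1) := by linarith
  exact_mod_cast h5

open Classical in
theorem filter_not_cusp :
    (Finset.univ.filter (fun χ : IrrCharacter G2 => ¬ IsCusp χ.1)) = Finset.univ.image ee := by
  ext χ
  simp only [Finset.mem_filter, Finset.mem_univ, true_and, Finset.mem_image]
  constructor
  · intro h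
    obtain ⟨x, hx⟩ := exists_ee χ.2 h
    exact ⟨x, Subtype.ext hx⟩
  · rintro ⟨x, rfl⟩
    exact not_cusp_ee x

open Classical in
theorem sum_over_irr (f : IrrCharacter G2 → ℂ) :
    ∑ χ, f χ = (∑ α : MulChar F ℂ, f (ee (Sum.inl α))) +
      ((∑ α : MulChar F ℂ, f (ee (Sum.inr (Sum.inl α)))) +
        (∑ p : PP F, f (ee (Sum.inr (Sum.inr p))))) + ∑ χ ∈ cuspSet, f χ := by
  unfold cuspSet
  rw [← Finset.sum_filter_add_sum_filter_not Finset.univ (fun χ : IrrCharacter G2 => IsCusp χ.1),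
    filter_not_cusp, Finset.sum_image ee_injective.injOn, Fintype.sum_sum_type,
    Fintype.sum_sum_type, add_comm]

theorem complex_cast_eq (z : ℂ) (n : ℕ) (h : z = n) : z * conj z = (n : ℂ) ^ 2 := by
  rw [h, Complex.conj_natCast, sq]

theorem sum_sq_complex :
    (Fintype.card (MulChar F ℂ) : ℂ) + Fintype.card (MulChar F ℂ) * (Fintype.card F : ℂ) ^ 2 +
      Fintype.card (PP F) * ((Fintype.card F : ℂ) + 1) ^ 2 +
      (∑ χ ∈ (cuspSet : Finset (IrrCharacter G2)), (mFun χ : ℂ) ^ 2) * ((Fintype.card F : ℂ) - 1) ^ 2 =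
        (Nat.card G2 : ℂ) := by
  rw [← sum_irr_degree_sq, sum_over_irr]
  have h1 : ∀ α : MulChar F ℂ, (ee (Sum.inl α) : IrrCharacter G2).1 1 *
      conj ((ee (Sum.inl α) : IrrCharacter G2).1 1) = 1 := by
    intro α
    simp [ee, lin_one]
  have h2 : ∀ α : MulChar F ℂ, (ee (Sum.inr (Sum.inl α)) : IrrCharacter G2).1 1 *
      conj ((ee (Sum.inr (Sum.inl α)) : IrrCharacter G2).1 1) = (Fintype.card F : ℂ) ^ 2 := by
    intro α
    apply complex_cast_eq
    simp [ee, st_one]
  have h3 : ∀ p : PP F, (ee (Sum.inr (Sum.inr p)) : IrrCharacter G2).1 1 *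
      conj ((ee (Sum.inr (Sum.inr p)) : IrrCharacter G2).1 1) = ((Fintype.card F : ℂ) + 1) ^ 2 := by
    intro p
    have := complex_cast_eq _ (Fintype.card F + 1)
      (show (ee (Sum.inr (Sum.inr p)) : IrrCharacter G2).1 1 = ((Fintype.card F + 1 : ℕ) : ℂ) by
        simp [ee, chiSym_one])
    rw [this]
    push_cast
    rfl
  have h4 : ∀ χ ∈ (cuspSet : Finset (IrrCharacter G2)), χ.1 1 * conj (χ.1 1) =
      (mFun χ : ℂ) ^ 2 * ((Fintype.card F : ℂ) - 1) ^ 2 := by
    intro χ hχ
    have hc : IsCusp χ.1 := by simpa [cuspSet] using hχ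
    have hm := (mFun_spec χ hc).2.1
    have hq := cardF_sub_one_cast (F := F)
    rw [hm, ← hq, ← Nat.cast_mul, complex_cast_eq _ _ rfl]
    push_cast
    ring
  rw [Finset.sum_congr rfl (fun α _ => h1 α), Finset.sum_congr rfl (fun α _ => h2 α),
    Finset.sum_congr rfl (fun p _ => h3 p), Finset.sum_congr rfl h4, ← Finset.sum_mul]
  simp only [Finset.sum_const, Finset.card_univ, nsmul_eq_mul, mul_one]
  ring

theorem sum_sq_nat :
    (Fintype.card F - 1) + (Fintype.card F - 1) * Fintype.card F ^ 2 +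
      Fintype.card (PP F) * (Fintype.card F + 1) ^ 2 +
      (Fintype.card F - 1) ^ 2 * (∑ χ ∈ (cuspSet : Finset (IrrCharacter G2)), (mFun χ) ^ 2) =
        Nat.card G2 := by
  have h := sum_sq_complex (F := F)
  rw [card_X, ← cardF_sub_one_cast] at h
  have h2 : (((Fintype.card F - 1) + (Fintype.card F - 1) * Fintype.card F ^ 2 +
      Fintype.card (PP F) * (Fintype.card F + 1) ^ 2 +
      (Fintype.card F - 1) ^ 2 * (∑ χ ∈ (cuspSet : Finset (IrrCharacter G2)), (mFun χ) ^ 2) : ℕ) : ℂ)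
      = (Nat.card G2 : ℂ) := by
    rw [← h]
    push_cast
    ring
  exact_mod_cast h2

theorem two_sum_m_sq : 2 * ∑ χ ∈ (cuspSet : Finset (IrrCharacter G2)), (mFun χ) ^ 2 =
    (Fintype.card F - 1) * Fintype.card F := by
  have h := sum_sq_nat (F := F)
  have hC := card_PP (F := F)
  rw [card_GL2] at h
  have hq : 2 ≤ Fintype.card F := Fintype.one_lt_card
  obtain ⟨Q, hQ⟩ : ∃ Q, Fintype.card F = Q + 1 := ⟨Fintype.card F - 1, by omega⟩
  rw [hQ] at h hC ⊢
  simp only [add_tsub_cancel_right] at h hC ⊢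
  exact arith_S (by omega) hC (by rw [← h])

theorem card_irr_split : Nat.card (IrrCharacter G2) =
    (Fintype.card F - 1) + ((Fintype.card F - 1) + Fintype.card (PP F)) +
      (cuspSet : Finset (IrrCharacter G2)).card := by
  classical
  have h := sum_over_irr (F := F) (fun _ => (1 : ℂ))
  simp only [Finset.sum_const, Finset.card_univ, nsmul_eq_mul, mul_one] at h
  rw [card_X] at h
  rw [Nat.card_eq_fintype_card]
  exact_mod_cast h

theorem card_cusp_ge : (Fintype.card F - 1) * Fintype.card F ≤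
    2 * (cuspSet : Finset (IrrCharacter G2)).card := by
  have h1 := card_irr_split (F := F)
  have h2 := card_conjClasses_ge (F := F)
  rw [← card_irr_eq_card_conjClasses, h1] at h2
  have hC := card_PP (F := F)
  have hq : 2 ≤ Fintype.card F := Fintype.one_lt_card
  obtain ⟨P, hP⟩ : ∃ P, Fintype.card F = P + 2 := ⟨Fintype.card F - 2, by omega⟩
  rw [hP] at h2 hC ⊢
  have e1 : P + 2 - 1 = P + 1 := by omega
  have e2 : P + 1 - 1 = P := by omega
  rw [e1] at h2 hC ⊢
  rw [e2] at hC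
  have e3 : (P + 2) ^ 2 - 1 = (P + 1) * (P + 3) := by
    have : (P + 2) ^ 2 = (P + 1) * (P + 3) + 1 := by ring
    omega
  rw [e3] at h2
  nlinarith

/-- The multiplicity of every cuspidal character is one. -/
theorem mFun_eq_one (χ : IrrCharacter G2) (hχ : IsCusp χ.1) : mFun χ = 1 := by
  have hmem : χ ∈ (cuspSet : Finset (IrrCharacter G2)) := by simpa [cuspSet] using hχ
  have h1 := two_sum_m_sq (F := F)
  have h2 := card_cusp_ge (F := F)
  have hle : ∀ ψ ∈ (cuspSet : Finset (IrrCharacter G2)), 1 ≤ (mFun ψ) ^ 2 := by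
    intro ψ hψ
    have hc : IsCusp ψ.1 := by simpa [cuspSet] using hψ
    exact Nat.one_le_pow _ _ (mFun_spec ψ hc).1
  have h3 : ∑ ψ ∈ (cuspSet : Finset (IrrCharacter G2)), 1 =
      ∑ ψ ∈ (cuspSet : Finset (IrrCharacter G2)), (mFun ψ) ^ 2 := by
    apply le_antisymm
    · exact Finset.sum_le_sum hle
    · rw [← Finset.card_eq_sum_ones]
      omega
  have h4 := (Finset.sum_eq_sum_iff_of_le hle).mp h3 χ hmem
  have h5 := (mFun_spec χ hχ).1
  by_contra hne
  have : 2 ≤ mFun χ := by omega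
  nlinarith

theorem two_card_cusp : 2 * (cuspSet : Finset (IrrCharacter G2)).card =
    (Fintype.card F - 1) * Fintype.card F := by
  rw [← two_sum_m_sq]
  congr 1
  rw [Finset.card_eq_sum_ones]
  refine Finset.sum_congr rfl fun χ hχ => ?_
  have hc : IsCusp χ.1 := by simpa [cuspSet] using hχ
  rw [mFun_eq_one χ hc]
  simp

/-- Degree and value at the transvection of an irreducible cuspidal character. -/
theorem cusp_degree {χ : G2 → ℂ} (hχ : IsIrrCharacter G2 χ) (hc : IsCusp χ) :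
    χ 1 = (Fintype.card F : ℂ) - 1 ∧ χ uu = -1 := by
  have h := mFun_spec ⟨χ, hχ⟩ hc
  rw [mFun_eq_one ⟨χ, hχ⟩ hc] at h
  simpa using h.2

/-! ### Values -/

theorem norm_mulChar_eq_one (α : MulChar F ℂ) {x : F} (hx : x ≠ 0) : ‖α x‖ = 1 := by
  have hq : 0 < Fintype.card F - 1 := by
    have : 1 < Fintype.card F := Fintype.one_lt_card
    omega
  apply Cfsg.Agent.Lib.CharValues.norm_eq_one_of_pow_eq_one hq
  rw [← map_pow, FiniteField.pow_card_sub_one_eq_one x hx, map_one]

/-- Having no eigenvector. -/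
def NoEig (g : G2) : Prop :=
  ∀ (c : F) (v : Fin 2 → F), v ≠ 0 → (g : Matrix (Fin 2) (Fin 2) F).mulVec v ≠ c • v

theorem noEig_c {g : G2} (h : NoEig g) : (g : Matrix (Fin 2) (Fin 2) F) 1 0 ≠ 0 := by
  intro h0
  apply h ((g : Matrix (Fin 2) (Fin 2) F) 0 0) ![1, 0]
  · intro h1
    have := congrFun h1 0
    simp at this
  · ext i
    fin_cases i <;> simp [Matrix.mulVec, dotProduct, Fin.sum_univ_two, h0]

theorem noEig_t {g : G2} (h : NoEig g) (t : F) :
    (g : Matrix (Fin 2) (Fin 2) F) 0 0 * t + (g : Matrix (Fin 2) (Fin 2) F) 0 1 -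
      t * ((g : Matrix (Fin 2) (Fin 2) F) 1 0 * t + (g : Matrix (Fin 2) (Fin 2) F) 1 1) ≠ 0 := by
  intro h0
  apply h ((g : Matrix (Fin 2) (Fin 2) F) 1 0 * t + (g : Matrix (Fin 2) (Fin 2) F) 1 1) ![t, 1]
  · intro h1
    have := congrFun h1 1
    simp at this
  · ext i
    fin_cases i
    · simp [Matrix.mulVec, dotProduct, Fin.sum_univ_two]
      linear_combination h0
    · simp [Matrix.mulVec, dotProduct, Fin.sum_univ_two]

theorem chi_noEig (α β : MulChar F ℂ) {g : G2} (h : NoEig g) : chi α β g = 0 := by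
  rw [chi_apply, if_neg (noEig_c h)]
  simp [noEig_t h]

theorem st_noEig (α : MulChar F ℂ) {g : G2} (h : NoEig g) :
    st α g = - α (g : Matrix (Fin 2) (Fin 2) F).det := by
  simp [st, chi_noEig α α h, lin]

theorem chi_uu (α β : MulChar F ℂ) : chi α β uu = 1 := by
  rw [chi_apply]
  simp [uu]

theorem lin_uu (α : MulChar F ℂ) : lin α uu = 1 := by
  simp [lin, uu, Matrix.det_fin_two]

theorem st_uu (α : MulChar F ℂ) : st α uu = 0 := by
  simp [st, chi_uu, lin_uu]

/-- A diagonal element with different entries. -/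
theorem chi_diag (α β : MulChar F ℂ) (a d : Fˣ) (h : a ≠ d) :
    chi α β ((bmk a d 0 : B2) : G2) = α a * β d + α d * β a := by
  rw [chi_apply]
  simp only [bmk_00, bmk_01, bmk_10, bmk_11, if_true, add_zero, zero_mul, zero_add, mul_zero,
    sub_zero]
  congr 1
  rw [Finset.sum_eq_single (0 : F)]
  · simp
  · intro t _ ht
    rw [if_neg]
    intro h0
    apply h
    apply Units.ext
    have : (t : F) * ((a : F) - d) = 0 := by linear_combination h0
    exact sub_eq_zero.mp ((mul_eq_zero.mp this).resolve_left ht)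
  · intro h0; exact absurd (Finset.mem_univ _) h0

theorem lin_bmk (α : MulChar F ℂ) (a d : Fˣ) (s : F) :
    lin α ((bmk a d s : B2) : G2) = α a * α d := by
  have : ((bmk a d s : B2) : G2) = mk2 (a : F) s 0 (d : F) (mk2_det_ne a d s) := rfl
  rw [this, lin_mk2]
  simp

theorem st_diag (α : MulChar F ℂ) (a d : Fˣ) (h : a ≠ d) :
    st α ((bmk a d 0 : B2) : G2) = α a * α d := by
  simp only [st, Pi.sub_apply, chi_diag α α a d h, lin_bmk]
  ring

/-- An element with zero off-diagonal entries. -/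
theorem eq_bmk_of_diag (g : G2) (h1 : (g : Matrix (Fin 2) (Fin 2) F) 0 1 = 0)
    (h2 : (g : Matrix (Fin 2) (Fin 2) F) 1 0 = 0) :
    ∃ a d : Fˣ, g = ((bmk a d 0 : B2) : G2) ∧ (g : Matrix (Fin 2) (Fin 2) F) 0 0 = a ∧
      (g : Matrix (Fin 2) (Fin 2) F) 1 1 = d := by
  have hdet := det_ne g
  rw [Matrix.det_fin_two, h1, h2, zero_mul, sub_zero] at hdet
  refine ⟨Units.mk0 _ (left_ne_zero_of_mul hdet), Units.mk0 _ (right_ne_zero_of_mul hdet), ?_,
    rfl, rfl⟩
  apply ext2
  · rfl
  · exact h1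
  · exact h2
  · rfl

/-! ### Degrees -/

theorem one_lt_card_F : 1 < Fintype.card F := Fintype.one_lt_card

theorem classify_deg {χ : G2 → ℂ} (hχ : IsIrrCharacter G2 χ) :
    χ 1 = 1 ∨ χ 1 = (Fintype.card F : ℂ) - 1 ∨ χ 1 = (Fintype.card F : ℂ) ∨
      χ 1 = (Fintype.card F : ℂ) + 1 := by
  rcases classify hχ with ⟨α, rfl⟩ | ⟨α, rfl⟩ | ⟨α, β, -, rfl⟩ | h
  · exact Or.inl (lin_one α)
  · exact Or.inr (Or.inr (Or.inl (st_one α)))
  · exact Or.inr (Or.inr (Or.inr (chi_one α β)))
  · exact Or.inr (Or.inl (cusp_degree hχ h).1)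

/-- Cast helpers: the four possible degrees. -/
theorem q_ne_one : (Fintype.card F : ℂ) ≠ 1 := by
  have : Fintype.card F ≠ 1 := (one_lt_card_F (F := F)).ne'
  exact_mod_cast this

theorem q_add_one_ne_one : (Fintype.card F : ℂ) + 1 ≠ 1 := by
  have := card_ne (F := F)
  simp [this]

theorem q_sub_one_ne_q : (Fintype.card F : ℂ) - 1 ≠ (Fintype.card F : ℂ) := by
  simp

theorem q_add_one_ne_q : (Fintype.card F : ℂ) + 1 ≠ (Fintype.card F : ℂ) := by
  simp

theorem q_sub_one_ne_q_add_one : (Fintype.card F : ℂ) - 1 ≠ (Fintype.card F : ℂ) + 1 := by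
  intro h
  have h2 : (2 : ℂ) = 0 := by linear_combination -h
  norm_num at h2

theorem q_sub_one_ne_one (hq : 3 ≤ Fintype.card F) : (Fintype.card F : ℂ) - 1 ≠ 1 := by
  intro h
  have h2 : (Fintype.card F : ℂ) = ((2 : ℕ) : ℂ) := by
    push_cast
    linear_combination h
  have : Fintype.card F = 2 := by exact_mod_cast h2
  omega

theorem deg_one_iff (hq : 3 ≤ Fintype.card F) {χ : G2 → ℂ} (hχ : IsIrrCharacter G2 χ)
    (h : χ 1 = 1) : ∃ α, χ = lin α := by
  rcases classify hχ with h1 | ⟨α, rfl⟩ | ⟨α, β, -, rfl⟩ | hc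
  · exact h1
  · rw [st_one] at h; exact absurd h q_ne_one
  · rw [chi_one] at h; exact absurd h q_add_one_ne_one
  · rw [(cusp_degree hχ hc).1] at h; exact absurd h (q_sub_one_ne_one hq)

theorem deg_q_iff {χ : G2 → ℂ} (hχ : IsIrrCharacter G2 χ)
    (h : χ 1 = (Fintype.card F : ℂ)) : ∃ α, χ = st α := by
  rcases classify hχ with ⟨α, rfl⟩ | h1 | ⟨α, β, -, rfl⟩ | hc
  · rw [lin_one] at h; exact absurd h.symm q_ne_one
  · exact h1
  · rw [chi_one] at h; exact absurd h q_add_one_ne_q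
  · rw [(cusp_degree hχ hc).1] at h; exact absurd h q_sub_one_ne_q

theorem deg_q_add_one_iff {χ : G2 → ℂ} (hχ : IsIrrCharacter G2 χ)
    (h : χ 1 = (Fintype.card F : ℂ) + 1) : ∃ α β, α ≠ β ∧ χ = chi α β := by
  rcases classify hχ with ⟨α, rfl⟩ | ⟨α, rfl⟩ | h1 | hc
  · rw [lin_one] at h; exact absurd h.symm q_add_one_ne_one
  · rw [st_one] at h; exact absurd h.symm q_add_one_ne_q
  · exact h1
  · rw [(cusp_degree hχ hc).1] at h; exact absurd h q_sub_one_ne_q_add_one

theorem deg_q_sub_one_iff (hq : 3 ≤ Fintype.card F) {χ : G2 → ℂ} (hχ : IsIrrCharacter G2 χ)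
    (h : χ 1 = (Fintype.card F : ℂ) - 1) : IsCusp χ := by
  rcases classify hχ with ⟨α, rfl⟩ | ⟨α, rfl⟩ | ⟨α, β, -, rfl⟩ | hc
  · rw [lin_one] at h; exact absurd h.symm (q_sub_one_ne_one hq)
  · rw [st_one] at h; exact absurd h.symm q_sub_one_ne_q
  · rw [chi_one] at h; exact absurd h.symm q_sub_one_ne_q_add_one
  · exact hc

/-! ### Counts -/

theorem card_deg_one (hq : 3 ≤ Fintype.card F) :
    Nat.card {χ : IrrCharacter G2 // (χ : G2 → ℂ) 1 = 1} = Fintype.card F - 1 := by
  rw [← card_X, ← Nat.card_eq_fintype_card]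
  symm
  apply Nat.card_congr
  refine Equiv.ofBijective (fun α => ⟨⟨lin α, lin_isIrr α⟩, lin_one α⟩) ⟨?_, ?_⟩
  · intro α β h
    exact lin_injective (congrArg (fun x : {χ : IrrCharacter G2 // (χ : G2 → ℂ) 1 = 1} => x.1.1) h)
  · rintro ⟨⟨χ, hχ⟩, h⟩
    obtain ⟨α, rfl⟩ := deg_one_iff hq hχ h
    exact ⟨α, rfl⟩

theorem card_deg_q :
    Nat.card {χ : IrrCharacter G2 // (χ : G2 → ℂ) 1 = (Fintype.card F : ℂ)} = Fintype.card F - 1 := by
  rw [← card_X, ← Nat.card_eq_fintype_card (α := MulChar F ℂ)]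
  symm
  apply Nat.card_congr
  refine Equiv.ofBijective (fun α => ⟨⟨st α, st_isIrr α⟩, st_one α⟩) ⟨?_, ?_⟩
  · intro α β h
    exact st_injective
      (congrArg (fun x : {χ : IrrCharacter G2 // (χ : G2 → ℂ) 1 = (Fintype.card F : ℂ)} => x.1.1) h)
  · rintro ⟨⟨χ, hχ⟩, h⟩
    obtain ⟨α, rfl⟩ := deg_q_iff hχ h
    exact ⟨α, rfl⟩

theorem card_deg_q_add_one :
    Nat.card {χ : IrrCharacter G2 // (χ : G2 → ℂ) 1 = (Fintype.card F : ℂ) + 1} =
      (Fintype.card F - 1) * (Fintype.card F - 2) / 2 := by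
  have h1 := card_PP (F := F)
  have h2 : Fintype.card F - 1 - 1 = Fintype.card F - 2 := by omega
  rw [h2] at h1
  have h3 : (Fintype.card F - 1) * (Fintype.card F - 2) / 2 = Fintype.card (PP F) := by
    rw [← h1]; simp
  rw [h3, ← Nat.card_eq_fintype_card (α := PP F)]
  symm
  apply Nat.card_congr
  refine Equiv.ofBijective (fun p => ⟨⟨chiSym p.1, chiSym_isIrr p⟩, chiSym_one p⟩) ⟨?_, ?_⟩
  · intro p r h
    exact chiSym_injective
      (congrArg (fun x : {χ : IrrCharacter G2 // (χ : G2 → ℂ) 1 = (Fintype.card F : ℂ) + 1} =>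
        x.1.1) h)
  · rintro ⟨⟨χ, hχ⟩, h⟩
    obtain ⟨α, β, hne, rfl⟩ := deg_q_add_one_iff hχ h
    exact ⟨⟨s(α, β), by simpa using hne⟩, rfl⟩

theorem card_deg_q_sub_one (hq : 3 ≤ Fintype.card F) :
    Nat.card {χ : IrrCharacter G2 // (χ : G2 → ℂ) 1 = (Fintype.card F : ℂ) - 1} =
      Fintype.card F * (Fintype.card F - 1) / 2 := by
  classical
  have h1 := two_card_cusp (F := F)
  have h2 : Fintype.card F * (Fintype.card F - 1) / 2 =
      (cuspSet : Finset (IrrCharacter G2)).card := by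
    rw [mul_comm, ← h1]; simp
  rw [h2, Nat.card_eq_fintype_card, Fintype.card_subtype]
  congr 1
  ext χ
  simp only [Finset.mem_filter, Finset.mem_univ, true_and, cuspSet]
  constructor
  · exact deg_q_sub_one_iff hq χ.2
  · exact fun hc => (cusp_degree χ.2 hc).1

end Cfsg.Agent.Lib.GL2Irr
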