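import Mathlib
import Cfsg.Agent.Lib.FrobCohMain9
import Cfsg.Agent.Lib.GL2Irr

/-!
# From coherence to the order bound

`N` a subgroup of `G` with a Frobenius kernel `K` such that the characters of `N` non-trivial on
`K` are coherent with respect to induction to `G`.  The argument of Feit:  the irreducible
characters of `G` outside the exceptional set either have degree divisible by `|K| - 1`, or they
are the images of the characters of `N` and the orthogonality relations give a divisibility.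
-/

set_option autoImplicit false
set_option linter.unusedSectionVars false
open Cfsg

namespace Cfsg.Agent.Lib.FrobPartI9

open Cfsg.Agent.Lib.CharBasic Cfsg.Agent.Lib.GenChar Cfsg.Agent.Lib.CharInd
  Cfsg.Agent.Lib.CharInduction Cfsg.Agent.Lib.CharKernel Cfsg.Agent.Lib.InducedIrr
  Cfsg.Agent.Lib.CoherenceBasic Cfsg.Agent.Lib.FrobIrr9 Cfsg.Agent.Lib.FrobLam9
  Cfsg.Agent.Lib.FrobCohMain9
open scoped ComplexConjugate

variable {G : Type*} [Group G] [Fintype G] {N : Subgroup G} [Fintype N] {K : Subgroup N}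
  [hKN : K.Normal]

/-- The degree divided by the index. -/
noncomputable def ff (K : Subgroup N) (ζ : N → ℂ) : ℕ := charDegree ζ / K.index

theorem ff_spec (hC : ∀ h ∈ K, h ≠ 1 → Subgroup.centralizer ({h} : Set N) ≤ K) {ζ : N → ℂ}
    (hζ : ζ ∈ SS K) : charDegree ζ = K.index * ff K ζ := by
  obtain ⟨θ, hθ, -, rfl⟩ := exists_of_mem hC hζ
  unfold ff
  rw [charDegree_ind (IsIrrCharacter.isCharacter hθ)]
  rw [Nat.mul_div_cancel_left _ (Nat.pos_of_ne_zero Subgroup.index_ne_zero_of_finite)]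

theorem ff_pos (hC : ∀ h ∈ K, h ≠ 1 → Subgroup.centralizer ({h} : Set N) ≤ K) {ζ : N → ℂ}
    (hζ : ζ ∈ SS K) : 0 < ff K ζ := by
  have h1 := ff_spec hC hζ
  have h2 := charDegree_pos hζ.1
  rw [h1] at h2
  exact Nat.pos_of_mul_pos_left h2 |> fun h => by
    rcases Nat.eq_zero_or_pos (ff K ζ) with h3 | h3
    · rw [h3, mul_zero] at h2; omega
    · exact h3

theorem one_eq_ff (hC : ∀ h ∈ K, h ≠ 1 → Subgroup.centralizer ({h} : Set N) ≤ K) {ζ : N → ℂ}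
    (hζ : ζ ∈ SS K) : ζ 1 = (K.index : ℂ) * ff K ζ := by
  rw [one_eq_charDegree (IsIrrCharacter.isCharacter hζ.1), ff_spec hC hζ]
  push_cast
  ring

open Classical in
/-- The irreducible characters non-trivial on `K`, as a finite set of irreducible characters. -/
noncomputable def TT (K : Subgroup N) : Finset (IrrCharacter N) :=
  Finset.univ.filter (fun χ => (χ : N → ℂ) ∈ SS K)

theorem mem_TT {χ : IrrCharacter N} : χ ∈ TT K ↔ (χ : N → ℂ) ∈ SS K := by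
  classical
  simp [TT]

theorem mem_TT_iff {χ : IrrCharacter N} : χ ∈ TT K ↔ ∃ h ∈ K, (χ : N → ℂ) h ≠ (χ : N → ℂ) 1 := by
  rw [mem_TT]
  exact ⟨fun h => h.2, fun h => ⟨χ.2, h⟩⟩

/-- The sum of the squares of the quotients `ζ(1) / e`. -/
noncomputable def ww (K : Subgroup N) : ℕ := ∑ ζ ∈ TT K, ff K (ζ : N → ℂ) ^ 2

/-- `e w + 1 = |K|`. -/
theorem index_mul_ww (hC : ∀ h ∈ K, h ≠ 1 → Subgroup.centralizer ({h} : Set N) ≤ K) :
    K.index * ww K + 1 = Nat.card K := by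
  classical
  have he : 0 < K.index := Nat.pos_of_ne_zero Subgroup.index_ne_zero_of_finite
  have h1 := sum_sq_SS (H := K)
  have h2 := Subgroup.card_mul_index K
  have h3 : ∑ χ : IrrCharacter N, (if ∃ h ∈ K, (χ : N → ℂ) h ≠ (χ : N → ℂ) 1 then
      charDegree (χ : N → ℂ) ^ 2 else 0) = K.index * (K.index * ww K) := by
    rw [← Finset.sum_filter]
    unfold ww
    rw [Finset.mul_sum, Finset.mul_sum]
    have h4 : Finset.univ.filter (fun χ : IrrCharacter N => ∃ h ∈ K, (χ : N → ℂ) h ≠ (χ : N → ℂ) 1) =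
        TT K := by
      ext χ
      simp only [Finset.mem_filter, Finset.mem_univ, true_and, mem_TT_iff]
    rw [h4]
    refine Finset.sum_congr rfl (fun χ hχ => ?_)
    rw [ff_spec hC (mem_TT.mp hχ)]
    ring
  rw [h3, ← h2] at h1
  have h5 : K.index * (K.index * ww K + 1) = K.index * Nat.card K := by
    rw [mul_add, mul_one, h1, mul_comm]
  exact Nat.eq_of_mul_eq_mul_left he h5

/-- The coherence data. -/
structure Coh9 (K : Subgroup N) (t : (N → ℂ) → (G → ℂ)) : Prop where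
  iso : IsLinearIsometryOn (zspan (SS K)) t
  agree : ∀ α ∈ zspanOn (SS K) {1}ᶜ, t α = indFun N α
  fro : ∀ h ∈ K, h ≠ 1 → Subgroup.centralizer ({h} : Set N) ≤ K

variable {t : (N → ℂ) → (G → ℂ)}

/-- The main relation: `t ζ - ζ^G` is `f_ζ (t ζ₀ - ζ₀^G)`. -/
theorem sub_formula (hc : Coh9 K t) {ζ ζ₀ : N → ℂ} (hζ : ζ ∈ SS K) (hζ₀ : ζ₀ ∈ SS K)
    (hf : ff K ζ₀ = 1) : t ζ - indFun N ζ = ff K ζ • (t ζ₀ - indFun N ζ₀) := by
  set n := ff K ζ with hn
  have h1 : ζ ∈ zspan (SS K) := mem_zspan hζ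
  have h0 : ζ₀ ∈ zspan (SS K) := mem_zspan hζ₀
  have h2 : n • ζ₀ ∈ zspan (SS K) := zspan_nsmul h0 n
  have hβ : ζ - n • ζ₀ ∈ zspanOn (SS K) {1}ᶜ := by
    rw [mem_zspanOn_compl_one]
    refine ⟨zspan_sub h1 h2, ?_⟩
    simp only [Pi.sub_apply, Pi.smul_apply]
    rw [one_eq_ff hc.fro hζ, one_eq_ff hc.fro hζ₀, hf, nsmul_eq_mul]
    simp [hn]
    ring
  have h3 := hc.agree _ hβ
  have h4 : t (ζ - n • ζ₀) = t ζ - n • t ζ₀ := by
    rw [iso_sub hc.iso h1 h2 (zspan_neg h2), iso_nsmul hc.iso h0]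
  have h5 : indFun N (ζ - n • ζ₀) = indFun N ζ - n • indFun N ζ₀ := by
    rw [indFun_sub, ← Nat.cast_smul_eq_nsmul ℂ, indFun_smul, Nat.cast_smul_eq_nsmul]
  rw [h4, h5] at h3
  rw [smul_sub]
  have h6 : t ζ = indFun N ζ - n • indFun N ζ₀ + n • t ζ₀ := by
    rw [← h3]; abel
  rw [h6]; abel

/-- The inner product relation. -/
theorem inner_formula (hc : Coh9 K t) {ζ ζ₀ : N → ℂ} (hζ : ζ ∈ SS K) (hζ₀ : ζ₀ ∈ SS K)
    (hf : ff K ζ₀ = 1) {τ : G → ℂ} (hτ : IsClassFunction G τ) :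
    classInner (t ζ) τ - classInner ζ (fun n : N => τ n) =
      (ff K ζ : ℂ) * classInner (t ζ₀ - indFun N ζ₀) τ := by
  rw [← frobenius N ζ hτ, ← classInner_sub_left, sub_formula hc hζ hζ₀ hf,
    ← Nat.cast_smul_eq_nsmul ℂ, classInner_smul_left]

/-- Images are generalized characters of norm one. -/
theorem image_norm (hc : Coh9 K t) {ζ : N → ℂ} (hζ : ζ ∈ SS K) :
    classInner (t ζ) (t ζ) = 1 := by
  rw [iso_inner hc.iso (mem_zspan hζ) (mem_zspan hζ), classInner_irr_self hζ.1]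

theorem image_orth (hc : Coh9 K t) {ζ ξ : N → ℂ} (hζ : ζ ∈ SS K) (hξ : ξ ∈ SS K) (h : ζ ≠ ξ) :
    classInner (t ζ) (t ξ) = 0 := by
  rw [iso_inner hc.iso (mem_zspan hζ) (mem_zspan hξ), classInner_irr_ne hζ.1 hξ.1 h]

theorem Phi_gen (hc : Coh9 K t) {ζ₀ : N → ℂ} (hζ₀ : ζ₀ ∈ SS K) :
    IsGeneralizedCharacter G (t ζ₀ - indFun N ζ₀) :=
  isGen_sub (iso_gen hc.iso (mem_zspan hζ₀))
    (isGen_of_isChar (indFun_isCharacter N (IsIrrCharacter.isCharacter hζ₀.1)))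

/-- **Case 1**. -/
theorem case1 (hc : Coh9 K t) {ζ₀ : N → ℂ} (hζ₀ : ζ₀ ∈ SS K) (hf : ff K ζ₀ = 1)
    {τ : G → ℂ} (hτ : IsIrrCharacter G τ)
    (h1 : ∀ l : IrrCharacter N, l ∉ TT K → classInner (fun n : N => τ n) (l : N → ℂ) = 0)
    (h2 : ∀ ζ ∈ SS K, classInner (t ζ) τ = 0) :
    (Nat.card K - 1) ∣ charDegree τ := by
  classical
  have hτc := IsIrrCharacter.isCharacter hτ
  have hτcl := isClassFunction_of_isCharacter hτc
  obtain ⟨g, hg⟩ := classInner_gen_irr (Phi_gen hc hζ₀) hτ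
  have hval : ∀ ζ : IrrCharacter N, ζ ∈ TT K →
      classInner (fun n : N => τ n) (ζ : N → ℂ) = -((ff K (ζ : N → ℂ) : ℂ) * g) := by
    intro ζ hζ
    have h3 := inner_formula hc (mem_TT.mp hζ) hζ₀ hf hτcl
    rw [h2 _ (mem_TT.mp hζ), hg, zero_sub] at h3
    have h4 : classInner (ζ : N → ℂ) (fun n : N => τ n) = -((ff K (ζ : N → ℂ) : ℂ) * g) := by
      rw [← h3]; ring
    rw [← classInner_conj_symm, h4]
    simp
  have hres : IsClassFunction N (fun n : N => τ n) :=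
    isClassFunction_of_isCharacter (isCharacter_restrict N hτc)
  have hexp := congrFun (classFunction_eq_sum hres) 1
  rw [Finset.sum_apply] at hexp
  simp only [OneMemClass.coe_one, Pi.smul_apply, smul_eq_mul] at hexp
  have h3 : ∑ χ : IrrCharacter N, classInner (fun n : N => τ n) (χ : N → ℂ) * (χ : N → ℂ) 1 =
      ∑ χ ∈ TT K, (-((ff K (χ : N → ℂ) : ℂ) * g)) * ((K.index : ℂ) * ff K (χ : N → ℂ)) := by
    rw [← Finset.sum_subset (Finset.subset_univ (TT K))]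
    · refine Finset.sum_congr rfl (fun χ hχ => ?_)
      rw [hval χ hχ, one_eq_ff hc.fro (mem_TT.mp hχ)]
    · intro χ _ hχ
      rw [h1 χ hχ, zero_mul]
  rw [h3, one_eq_charDegree hτc] at hexp
  have h4 : ((Nat.card K - 1 : ℕ) : ℂ) = (K.index : ℂ) * ww K := by
    have h5 := index_mul_ww hc.fro
    have h6 : Nat.card K - 1 = K.index * ww K := by omega
    rw [h6]; push_cast; rfl
  have h5 : (charDegree τ : ℂ) = ((Nat.card K - 1 : ℕ) : ℂ) * (-(g : ℂ)) := by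
    rw [hexp, h4, ww]
    push_cast
    rw [Finset.mul_sum, Finset.sum_mul]
    refine Finset.sum_congr rfl (fun χ _ => ?_)
    ring
  have h6 : ((charDegree τ : ℕ) : ℤ) = ((Nat.card K - 1 : ℕ) : ℤ) * (-g) := by
    exact_mod_cast h5
  exact Int.natCast_dvd_natCast.mp ⟨_, h6⟩

/-- **Case 2**. -/
theorem case2 (hc : Coh9 K t) {ζ₀ : N → ℂ} (hζ₀ : ζ₀ ∈ SS K) (hf : ff K ζ₀ = 1)
    (h2T : ∃ a ∈ SS K, ∃ b ∈ SS K, a ≠ b)
    (Exc : Finset (IrrCharacter G))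
    (hE3 : ∀ τ ∈ Exc, ∃ c : ℂ, ∀ ζ ∈ SS K, classInner ζ (fun n : N => (τ : G → ℂ) n) = c * ζ 1)
    (hall : ∀ τ : IrrCharacter G, τ ∉ Exc → ∃ ζ ∈ SS K, classInner (t ζ) (τ : G → ℂ) ≠ 0)
    {x y : G} (hx : ∀ g : G, g⁻¹ * x * g ∉ N) (hy : ∀ g : G, g⁻¹ * y * g ∉ N) (hxy : ¬ IsConj x y)
    (hsum : ∑ τ ∈ Exc, (τ : G → ℂ) x * conj ((τ : G → ℂ) y) = 2) :
    ww K ∣ 2 := by
  classical
  -- the signs
  have hA : ∀ ζ : IrrCharacter N, ζ ∈ TT K → ∃ τ : IrrCharacter G, ∃ ε : ℤ, (ε = 1 ∨ ε = -1) ∧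
      t (ζ : N → ℂ) = ε • (τ : G → ℂ) := by
    intro ζ hζ
    rcases gen_norm_one (iso_gen hc.iso (mem_zspan (mem_TT.mp hζ))) (image_norm hc (mem_TT.mp hζ))
      with h | h
    · exact ⟨⟨_, h⟩, 1, Or.inl rfl, by simp⟩
    · exact ⟨⟨_, h⟩, -1, Or.inr rfl, by simp⟩
  haveI : Nonempty (IrrCharacter G) := ⟨⟨fun _ => 1, isIrrCharacter_one⟩⟩
  choose! tt ε hε hte using hA
  have hinner : ∀ ζ ∈ TT K, ∀ τ : G → ℂ, classInner (t (ζ : N → ℂ)) τ =
      (ε ζ : ℂ) * classInner ((tt ζ : IrrCharacter G) : G → ℂ) τ := by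
    intro ζ hζ τ
    rw [hte ζ hζ, ← Int.cast_smul_eq_zsmul ℂ, classInner_smul_left]
  have hεne : ∀ ζ ∈ TT K, (ε ζ : ℂ) ≠ 0 := by
    intro ζ hζ
    rcases hε ζ hζ with h | h <;> rw [h] <;> norm_num
  have hεconj : ∀ ζ ∈ TT K, (ε ζ : ℂ) * conj (ε ζ : ℂ) = 1 := by
    intro ζ hζ
    rcases hε ζ hζ with h | h <;> rw [h] <;> simp
  -- nonzero inner product determines the character
  have hC1 : ∀ ζ ∈ TT K, ∀ τ : IrrCharacter G, classInner (t (ζ : N → ℂ)) (τ : G → ℂ) ≠ 0 →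
      τ = tt ζ := by
    intro ζ hζ τ hne
    by_contra hcon
    apply hne
    rw [hinner ζ hζ, classInner_irr_ne (tt ζ).2 τ.2 (fun h => hcon (Subtype.ext h.symm)), mul_zero]
  have hself : ∀ ζ ∈ TT K, classInner (t (ζ : N → ℂ)) ((tt ζ : IrrCharacter G) : G → ℂ) = ε ζ := by
    intro ζ hζ
    rw [hinner ζ hζ, classInner_irr_self (tt ζ).2, mul_one]
  have hinj : ∀ ζ ∈ TT K, ∀ ξ ∈ TT K, tt ζ = tt ξ → ζ = ξ := by
    intro ζ hζ ξ hξ h
    by_contra hne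
    have h1 := image_orth hc (mem_TT.mp hζ) (mem_TT.mp hξ) (fun h' => hne (Subtype.ext h'))
    rw [hinner ζ hζ, hte ξ hξ, ← Int.cast_smul_eq_zsmul ℂ, classInner_smul_right, ← h,
      classInner_irr_self (tt ζ).2, mul_one] at h1
    have h2 : (ε ζ : ℂ) * conj (ε ξ : ℂ) ≠ 0 := by
      apply mul_ne_zero (hεne ζ hζ)
      rw [Ne, map_eq_zero]
      exact hεne ξ hξ
    exact h2 h1
  -- the images are not exceptional
  have hnotExc : ∀ ζ ∈ TT K, tt ζ ∉ Exc := by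
    intro ζ hζ hmem
    obtain ⟨c, hcv⟩ := hE3 _ hmem
    set τ := tt ζ with hτ
    have hτcl : IsClassFunction G (τ : G → ℂ) :=
      isClassFunction_of_isCharacter (IsIrrCharacter.isCharacter τ.2)
    have hform : ∀ ξ ∈ SS K, classInner (t ξ) (τ : G → ℂ) = (ff K ξ : ℂ) *
        (c * K.index + classInner (t ζ₀ - indFun N ζ₀) (τ : G → ℂ)) := by
      intro ξ hξ
      have h1 := inner_formula hc hξ hζ₀ hf hτcl
      rw [hcv ξ hξ, one_eq_ff hc.fro hξ] at h1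
      rw [mul_add, ← h1]
      ring
    have hB : (c * K.index + classInner (t ζ₀ - indFun N ζ₀) (τ : G → ℂ)) ≠ 0 := by
      intro h0
      have h1 := hform _ (mem_TT.mp hζ)
      rw [h0, mul_zero, hτ, hself ζ hζ] at h1
      exact hεne ζ hζ h1
    obtain ⟨a, ha, b, hb, hab⟩ := h2T
    obtain ⟨ξ, hξ, hξne⟩ : ∃ ξ ∈ SS K, ξ ≠ (ζ : N → ℂ) := by
      by_cases h : a = (ζ : N → ℂ)
      · exact ⟨b, hb, fun h' => hab (h.trans h'.symm)⟩
      · exact ⟨a, ha, h⟩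
    have hξT : (⟨ξ, hξ.1⟩ : IrrCharacter N) ∈ TT K := mem_TT.mpr hξ
    have h2 : classInner (t ξ) (τ : G → ℂ) ≠ 0 := by
      rw [hform ξ hξ]
      refine mul_ne_zero ?_ hB
      exact_mod_cast (ff_pos hc.fro hξ).ne'
    have h3 := hC1 _ hξT τ h2
    have h4 := hinj _ hξT _ hζ (h3.symm.trans hτ)
    exact hξne (congrArg Subtype.val h4)
  -- the union
  have huniv : (Finset.univ : Finset (IrrCharacter G)) = Exc ∪ (TT K).image tt := by
    ext τ
    simp only [Finset.mem_univ, Finset.mem_union, Finset.mem_image, true_iff]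
    by_cases h : τ ∈ Exc
    · exact Or.inl h
    · right
      obtain ⟨ζ, hζ, hne⟩ := hall τ h
      have hζT : (⟨ζ, hζ.1⟩ : IrrCharacter N) ∈ TT K := mem_TT.mpr hζ
      exact ⟨_, hζT, (hC1 _ hζT τ hne).symm⟩
  have hdisj : Disjoint Exc ((TT K).image tt) := by
    rw [Finset.disjoint_left]
    intro τ hτ hτ2
    obtain ⟨ζ, hζ, rfl⟩ := Finset.mem_image.mp hτ2
    exact hnotExc ζ hζ hτ
  have horth := sum_irr_mul_conj x y
  rw [if_neg hxy, huniv, Finset.sum_union hdisj, hsum, Finset.sum_image (fun a ha b hb h =>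
    hinj a ha b hb h)] at horth
  -- the values
  have hval : ∀ (z : G), (∀ g : G, g⁻¹ * z * g ∉ N) → ∀ ξ : N → ℂ, indFun N ξ z = 0 := by
    intro z hz ξ
    exact indFun_eq_zero_of_not_conj N ξ hz
  set Φ := t ζ₀ - indFun N ζ₀ with hΦ
  have hterm : ∀ ζ ∈ TT K, ((tt ζ : IrrCharacter G) : G → ℂ) x * conj (((tt ζ : IrrCharacter G) : G → ℂ) y)
      = ((ff K (ζ : N → ℂ) ^ 2 : ℕ) : ℂ) * (Φ x * conj (Φ y)) := by
    intro ζ hζ
    have hs := sub_formula hc (mem_TT.mp hζ) hζ₀ hf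
    have h1 : ∀ z : G, (∀ g : G, g⁻¹ * z * g ∉ N) →
        (ε ζ : ℂ) * ((tt ζ : IrrCharacter G) : G → ℂ) z = (ff K (ζ : N → ℂ) : ℂ) * Φ z := by
      intro z hz
      have h2 := congrFun hs z
      simp only [Pi.sub_apply, Pi.smul_apply, hval z hz, sub_zero] at h2
      rw [hte ζ hζ] at h2
      simp only [Pi.smul_apply, zsmul_eq_mul, nsmul_eq_mul] at h2
      rw [h2]
      simp only [hΦ, Pi.sub_apply, hval z hz, sub_zero]
    have h3 := h1 x hx
    have h4 := h1 y hy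
    calc ((tt ζ : IrrCharacter G) : G → ℂ) x * conj (((tt ζ : IrrCharacter G) : G → ℂ) y)
        = ((ε ζ : ℂ) * conj (ε ζ : ℂ)) * (((tt ζ : IrrCharacter G) : G → ℂ) x *
            conj (((tt ζ : IrrCharacter G) : G → ℂ) y)) := by rw [hεconj ζ hζ, one_mul]
      _ = ((ε ζ : ℂ) * ((tt ζ : IrrCharacter G) : G → ℂ) x) *
            conj ((ε ζ : ℂ) * ((tt ζ : IrrCharacter G) : G → ℂ) y) := by
          rw [map_mul]; ring
      _ = _ := by
          rw [h3, h4, map_mul, Complex.conj_natCast]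
          push_cast
          ring
  rw [Finset.sum_congr rfl hterm, ← Finset.sum_mul, ← Nat.cast_sum] at horth
  change 2 + ((ww K : ℕ) : ℂ) * (Φ x * conj (Φ y)) = 0 at horth
  have hΦint : ∀ z : G, IsIntegral ℤ (Φ z) := gen_isIntegral (Phi_gen hc hζ₀)
  have hzint : IsIntegral ℤ (-(Φ x * conj (Φ y))) := by
    apply IsIntegral.neg
    apply IsIntegral.mul (hΦint x)
    exact (hΦint y).map ((starRingEnd ℂ).toIntAlgHom)
  have hw0 : ww K ≠ 0 := by
    intro h0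
    rw [h0] at horth
    norm_num at horth
  have hmul : -(Φ x * conj (Φ y)) * (ww K : ℂ) = ((2 : ℕ) : ℂ) := by
    push_cast
    linear_combination -horth
  obtain ⟨k, hk⟩ := Cfsg.Agent.Lib.GL2Irr.exists_int_of_isIntegral hzint hw0 hmul
  rw [hk] at hmul
  have h5 : (k : ℤ) * (ww K : ℤ) = (2 : ℤ) := by exact_mod_cast hmul
  have h6 : ((ww K : ℕ) : ℤ) ∣ ((2 : ℕ) : ℤ) := ⟨k, by rw [mul_comm]; exact_mod_cast h5.symm⟩
  exact Int.natCast_dvd_natCast.mp h6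

/-- **Part I**, abstract version: coherence and the knowledge of the exceptional characters imply the
bound `|K| - 1 ≤ 2 e`. -/
theorem abstract_bound (hc : Coh9 K t) {ζ₀ : N → ℂ} (hζ₀ : ζ₀ ∈ SS K) (hf : ff K ζ₀ = 1)
    (h2T : ∃ a ∈ SS K, ∃ b ∈ SS K, a ≠ b)
    (Exc : Finset (IrrCharacter G))
    (hE2 : ∀ τ : IrrCharacter G, τ ∉ Exc → ∀ l : IrrCharacter N, l ∉ TT K →
      classInner (fun n : N => (τ : G → ℂ) n) (l : N → ℂ) = 0)
    (hE3 : ∀ τ ∈ Exc, ∃ c : ℂ, ∀ ζ ∈ SS K, classInner ζ (fun n : N => (τ : G → ℂ) n) = c * ζ 1)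
    {x y : G} (hx : ∀ g : G, g⁻¹ * x * g ∉ N) (hy : ∀ g : G, g⁻¹ * y * g ∉ N) (hxy : ¬ IsConj x y)
    (hsum : ∑ τ ∈ Exc, (τ : G → ℂ) x * conj ((τ : G → ℂ) y) = 2)
    (hcard : Nat.card G = (Nat.card K + 1) * (Nat.card K * K.index)) :
    Nat.card K - 1 ≤ 2 * K.index := by
  classical
  have he0 : 0 < K.index := Nat.pos_of_ne_zero Subgroup.index_ne_zero_of_finite
  have hw := index_mul_ww hc.fro
  by_cases hall : ∀ τ : IrrCharacter G, τ ∉ Exc → ∃ ζ ∈ SS K, classInner (t ζ) (τ : G → ℂ) ≠ 0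
  · have h1 := case2 hc hζ₀ hf h2T Exc hE3 hall hx hy hxy hsum
    have h2 : ww K ≤ 2 := Nat.le_of_dvd (by norm_num) h1
    have h3 : K.index * ww K ≤ K.index * 2 := Nat.mul_le_mul_left _ h2
    rw [mul_comm 2]
    omega
  · push Not at hall
    obtain ⟨τ, hτ, h0⟩ := hall
    have h1 := case1 hc hζ₀ hf τ.2 (hE2 τ hτ) h0
    have h2 := charDegree_dvd_card τ.2
    have h3 := h1.trans h2
    rw [hcard] at h3
    -- `m = h - 1` divides `(m + 2) (m + 1) e`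
    obtain ⟨m, hm⟩ : ∃ m, Nat.card K = m + 1 := ⟨Nat.card K - 1, by
      have := Nat.card_pos (α := K); omega⟩
    rw [hm] at h3 ⊢
    simp only [Nat.add_sub_cancel] at h3 ⊢
    have h4 : (m + 1 + 1) * ((m + 1) * K.index) = m * ((m + 3) * K.index) + 2 * K.index := by ring
    rw [h4] at h3
    have h5 : m ∣ 2 * K.index := (Nat.dvd_add_right (Dvd.intro _ rfl)).mp h3
    exact Nat.le_of_dvd (by omega) h5

end Cfsg.Agent.Lib.FrobPartI9
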