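import Mathlib
import Cfsg.Agent.Lib.FrobCohMain9
import Cfsg.Agent.Lib.FrobPartI9

/-!
# Induction from a normaliser of a trivial intersection kernel

`N` a subgroup of `G`, `K` a Frobenius kernel of `N`, such that conjugates in `N` of non-identity
elements of `K` are conjugates under `N`.  Induction to `G` is then an isometry on the integer
combinations of degree zero of the characters of `N` non-trivial on `K`.
-/

set_option autoImplicit false
set_option linter.unusedSectionVars false
open Cfsg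

namespace Cfsg.Agent.Lib.TIFrob9

open Cfsg.Agent.Lib.CharBasic Cfsg.Agent.Lib.GenChar Cfsg.Agent.Lib.CharInd
  Cfsg.Agent.Lib.CharInduction Cfsg.Agent.Lib.CharKernel
  Cfsg.Agent.Lib.CoherenceBasic Cfsg.Agent.Lib.FrobIrr9
open scoped ComplexConjugate

variable {G : Type*} [Group G] [Fintype G] {N : Subgroup G} [Fintype N] {K : Subgroup N}

/-- Control of fusion. -/
def Fus (K : Subgroup N) : Prop :=
  ∀ x : N, x ∈ K → x ≠ 1 → ∀ g : G, g⁻¹ * (x : G) * g ∈ N → g ∈ N

/-- The value of an induced class function at the non-identity elements of the kernel. -/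
theorem ind_val (hf : Fus K) (β : N → ℂ) (hβ : IsClassFunction N β) {x : N} (hx : x ∈ K)
    (hx1 : x ≠ 1) : indFun N β (x : G) = β x := by
  classical
  unfold indFun
  have hterm : ∀ g : G, extendByZero N β (g⁻¹ * (x : G) * g) = if g ∈ N then β x else 0 := by
    intro g
    by_cases hg : g ∈ N
    · rw [if_pos hg]
      have h2 : g⁻¹ * (x : G) * g ∈ N := N.mul_mem (N.mul_mem (N.inv_mem hg) x.2) hg
      rw [extendByZero_of_mem _ _ h2]
      have h3 := hβ x ⟨g, hg⟩⁻¹
      have h4 : (⟨g, hg⟩⁻¹ : N) * x * (⟨g, hg⟩⁻¹ : N)⁻¹ = ⟨g⁻¹ * (x : G) * g, h2⟩ := by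
        apply Subtype.ext
        simp
      rw [h4] at h3
      exact h3
    · rw [if_neg hg]
      exact extendByZero_of_not_mem _ _ (fun h => hg (hf x hx hx1 g h))
  rw [Finset.sum_congr rfl (fun g _ => hterm g), Finset.sum_ite, Finset.sum_const_zero, add_zero,
    Finset.sum_const, nsmul_eq_mul]
  have h3 : (Finset.univ.filter (fun g : G => g ∈ N)).card = Nat.card N := by
    rw [Nat.card_eq_fintype_card, Fintype.card_subtype]
  rw [h3]
  have hne : (Nat.card N : ℂ) ≠ 0 := by exact_mod_cast Nat.card_pos.ne'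
  field_simp

/-- The inner product of induced functions, the first vanishing off the kernel and at `1`. -/
theorem inner_ind_ind (hf : Fus K) {α β : N → ℂ} (hαK : ∀ n, n ∉ K → α n = 0) (hα1 : α 1 = 0)
    (hβ : IsClassFunction N β) :
    classInner (indFun N α) (indFun N β) = classInner α β := by
  classical
  rw [CharInd.frobenius _ _ (indFun_isClassFunction _ _)]
  unfold classInner
  congr 1
  refine Finset.sum_congr rfl (fun n _ => ?_)
  by_cases hn1 : n = 1
  · subst hn1
    rw [hα1, zero_mul, zero_mul]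
  · by_cases hnK : n ∈ K
    · show α n * conj (indFun N β (n : G)) = _
      rw [ind_val hf β hβ hnK hn1]
    · rw [hαK n hnK, zero_mul, zero_mul]

section Iso

variable [hKN : K.Normal]

/-- Elements of the span are generalized characters vanishing off the kernel. -/
theorem zspan_props (hC : ∀ h ∈ K, h ≠ 1 → Subgroup.centralizer ({h} : Set N) ≤ K) {α : N → ℂ}
    (hα : α ∈ zspan (SS K)) :
    IsGeneralizedCharacter N α ∧ ∀ n, n ∉ K → α n = 0 := by
  have hα' : α ∈ Submodule.span ℤ (SS K) := hα
  induction hα' using Submodule.span_induction with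
  | mem x hx =>
    exact ⟨isGen_of_isIrr hx.1, fun n hn => vanish_of_mem hC hx hn⟩
  | zero => exact ⟨isGen_zero, fun _ _ => rfl⟩
  | add x y _ _ hx hy =>
    have hx' := hx (Submodule.span_mono subset_rfl ‹_›)
    have hy' := hy (Submodule.span_mono subset_rfl ‹_›)
    exact ⟨isGen_add hx'.1 hy'.1, fun n hn => by simp [hx'.2 n hn, hy'.2 n hn]⟩
  | smul c x _ hx =>
    have hx' := hx (Submodule.span_mono subset_rfl ‹_›)
    exact ⟨isGen_zsmul hx'.1 c, fun n hn => by simp [hx'.2 n hn]⟩

omit [hKN : K.Normal] in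
theorem indFun_zsmul9 (α : N → ℂ) (n : ℤ) :
    indFun N (n • α) = n • indFun N α := by
  rw [← Int.cast_smul_eq_zsmul ℂ, indFun_smul, Int.cast_smul_eq_zsmul]

omit [hKN : K.Normal] in
theorem ind_gen9 {α : N → ℂ} (hα : IsGeneralizedCharacter N α) :
    IsGeneralizedCharacter G (indFun N α) := by
  obtain ⟨χ, ψ, h1, h2, rfl⟩ := hα
  rw [indFun_sub]
  exact isGen_sub (isGen_of_isChar (indFun_isCharacter _ h1)) (isGen_of_isChar (indFun_isCharacter _ h2))

/-- Induction is an isometry on the combinations of degree zero. -/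
theorem iso_ind (hf : Fus K) (hC : ∀ h ∈ K, h ≠ 1 → Subgroup.centralizer ({h} : Set N) ≤ K) :
    IsLinearIsometryOn (zspanOn (SS K) {1}ᶜ) (indFun N) := by
  refine ⟨fun α _ β _ => indFun_add _ _ _, fun α _ n => indFun_zsmul9 α n, ?_, ?_⟩
  · intro α hα β hβ
    obtain ⟨h1, h2⟩ := mem_zspanOn_compl_one.mp hα
    obtain ⟨h3, -⟩ := mem_zspanOn_compl_one.mp hβ
    have h4 := zspan_props hC h1
    have h5 := zspan_props hC h3
    exact inner_ind_ind hf h4.2 h2 (isGen_isClassFunction h5.1)
  · intro α hα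
    exact ind_gen9 (zspan_props hC (mem_zspanOn_compl_one.mp hα).1).1

omit [hKN : K.Normal] in
/-- The induced functions vanish at `1`. -/
theorem ind_vanish (S : Set (N → ℂ)) (α : N → ℂ)
    (hα : α ∈ zspanOn S {1}ᶜ) : indFun N α 1 = 0 := by
  rw [indFun_one, (mem_zspanOn_compl_one.mp hα).2, mul_zero]

end Iso

/-! ### From the trivial intersection property -/

section TI

variable {K₀ : Subgroup G}

/-- An element of `N` of order prime to `[N : K]` lies in `K`. -/
theorem mem_of_coprime {L : Type*} [Group L] [Finite L] {K : Subgroup L} [K.Normal] {y : L}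
    (hy : (orderOf y).Coprime K.index) : y ∈ K := by
  have h1 : orderOf (y : L ⧸ K) ∣ orderOf y := by
    apply orderOf_dvd_of_pow_eq_one
    rw [← QuotientGroup.mk_pow, pow_orderOf_eq_one]
    rfl
  have h2 : orderOf (y : L ⧸ K) ∣ K.index := by
    rw [Subgroup.index_eq_card]
    exact orderOf_dvd_natCard _
  have h3 : orderOf (y : L ⧸ K) = 1 := Nat.eq_one_of_dvd_coprimes hy h1 h2
  rw [orderOf_eq_one_iff, QuotientGroup.eq_one_iff] at h3
  exact h3

/-- Control of fusion from the trivial intersection property. -/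
theorem fus_of_TI (hTI : IsTISubset (K₀ : Set G))
    {N : Subgroup G} [Fintype N] (hN : N = Subgroup.normalizer (K₀ : Set G))
    [(K₀.subgroupOf N).Normal]
    (hcop : (Nat.card K₀).Coprime (K₀.subgroupOf N).index) : Fus (K₀.subgroupOf N) := by
  intro x hx hx1 g hg
  by_contra hgN
  rw [Subgroup.mem_subgroupOf] at hx
  have hx1' : (x : G) ≠ 1 := fun h => hx1 (Subtype.ext h)
  have hord : orderOf (⟨g⁻¹ * (x : G) * g, hg⟩ : N) = orderOf (x : G) := by
    rw [Subgroup.orderOf_mk]
    have : g⁻¹ * (x : G) * g = g⁻¹ * (x : G) * g⁻¹⁻¹ := by simp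
    rw [this, ← MulAut.conj_apply]
    exact MulEquiv.orderOf_eq _ _
  have hmem : (⟨g⁻¹ * (x : G) * g, hg⟩ : N) ∈ K₀.subgroupOf N := by
    apply mem_of_coprime
    rw [hord]
    exact Nat.Coprime.coprime_dvd_left (Subgroup.orderOf_dvd_natCard K₀ hx) hcop
  rw [Subgroup.mem_subgroupOf] at hmem
  have hgN' : g⁻¹ ∉ Subgroup.normalizer (K₀ : Set G) := by
    rw [← hN]
    exact fun h => hgN (by simpa using N.inv_mem h)
  apply hx1'
  refine hTI g⁻¹ hgN' x hx ?_
  simpa using hmem

end TI

end Cfsg.Agent.Lib.TIFrob9
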