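import Mathlib
import Cfsg.Prelude.Def_Blocks
import Cfsg.Agent.Lib.CharKernel
import Cfsg.Agent.Lib.CharDecomp
import Cfsg.Agent.Lib.CharInduction
import Cfsg.Agent.Lib.CharClifford
import Cfsg.Agent.Lib.CharCentral

/-!
# Twisting by linear characters of an abelian quotient; Clifford numerics

For `π : G →* Q`, `Q` a finite abelian group: the number of `λ : Q →* ℂˣ` with `φ λ = φ` is the norm of
the restriction of `φ` to `ker π`.  Numerical form of Clifford's theorem.
-/

set_option autoImplicit false
set_option linter.style.haveILetI false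

namespace Cfsg.Agent.Lib.CharTwist

open Cfsg Cfsg.Agent.Lib.CharBasic Cfsg.Agent.Lib.CharInd Cfsg.Agent.Lib.CharKernel
  Cfsg.Agent.Lib.CharDecomp Cfsg.Agent.Lib.CharInduction Cfsg.Agent.Lib.CharClifford
open scoped ComplexConjugate

universe u v

section Sum

variable {Q : Type v} [CommGroup Q] [Finite Q]

/-- The dual group separates points. -/
theorem exists_hom_ne_one {x : Q} (hx : x ≠ 1) : ∃ l : Q →* ℂˣ, l x ≠ 1 :=
  CommGroup.exists_apply_ne_one_of_hasEnoughRootsOfUnity Q ℂ hx

theorem card_hom : Nat.card (Q →* ℂˣ) = Nat.card Q :=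
  CommGroup.card_monoidHom_of_hasEnoughRootsOfUnity Q ℂ

/-- Orthogonality of the dual group. -/
theorem sum_hom [Fintype (Q →* ℂˣ)] (x : Q) [Decidable (x = 1)] :
    ∑ l : Q →* ℂˣ, ((l x : ℂˣ) : ℂ) = if x = 1 then (Nat.card Q : ℂ) else 0 := by
  split_ifs with hx
  · subst hx
    simp only [map_one, Units.val_one, Finset.sum_const, Finset.card_univ, nsmul_eq_mul, mul_one]
    rw [← Nat.card_eq_fintype_card, card_hom]
  · obtain ⟨m, hm⟩ := exists_hom_ne_one hx
    have h1 : ∑ l : Q →* ℂˣ, ((l x : ℂˣ) : ℂ) =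
        ∑ l : Q →* ℂˣ, (((m * l) x : ℂˣ) : ℂ) :=
      (Fintype.sum_equiv (Equiv.mulLeft m) _ _ (fun _ => rfl)).symm
    have h2 : ∑ l : Q →* ℂˣ, (((m * l) x : ℂˣ) : ℂ) =
        ((m x : ℂˣ) : ℂ) * ∑ l : Q →* ℂˣ, ((l x : ℂˣ) : ℂ) := by
      rw [Finset.mul_sum]
      refine Finset.sum_congr rfl fun l _ => ?_
      simp [MonoidHom.mul_apply]
    rw [h2] at h1
    have h3 : (1 - ((m x : ℂˣ) : ℂ)) * ∑ l : Q →* ℂˣ, ((l x : ℂˣ) : ℂ) = 0 := by
      linear_combination h1
    rcases mul_eq_zero.mp h3 with h4 | h4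
    · exfalso
      apply hm
      apply Units.ext
      simp only [Units.val_one]
      linear_combination -h4
    · exact h4

end Sum

section Twist

variable {G : Type u} [Group G] [Finite G] {Q : Type v} [CommGroup Q] [Finite Q] (π : G →* Q)

/-- The twist of a function by a linear character of the quotient. -/
def twist (φ : G → ℂ) (l : Q →* ℂˣ) : G → ℂ := fun g => φ g * ((l (π g) : ℂˣ) : ℂ)

theorem twist_apply (φ : G → ℂ) (l : Q →* ℂˣ) (g : G) :
    twist π φ l g = φ g * ((l (π g) : ℂˣ) : ℂ) := rfl

theorem twist_one (φ : G → ℂ) : twist π φ 1 = φ := by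
  funext g
  simp [twist]

theorem twist_twist (φ : G → ℂ) (l m : Q →* ℂˣ) : twist π (twist π φ l) m = twist π φ (l * m) := by
  funext g
  simp [twist, MonoidHom.mul_apply, mul_assoc]

/-- Values of a linear character have absolute value one. -/
theorem hom_mul_conj (f : G →* ℂˣ) (g : G) : ((f g : ℂˣ) : ℂ) * conj ((f g : ℂˣ) : ℂ) = 1 := by
  have hc := IsIrrCharacter.isCharacter (isIrrCharacter_of_hom f)
  have h := char_conj_eq_inv hc g
  rw [h, map_inv, ← Units.val_mul, mul_inv_cancel, Units.val_one]

theorem isCharacter_twist {φ : G → ℂ} (hφ : IsCharacter G φ) (l : Q →* ℂˣ) :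
    IsCharacter G (twist π φ l) :=
  isCharacter_mul hφ (IsIrrCharacter.isCharacter (isIrrCharacter_of_hom (l.comp π)))

theorem classInner_twist_twist [Fintype G] (φ ψ : G → ℂ) (l : Q →* ℂˣ) :
    classInner (twist π φ l) (twist π ψ l) = classInner φ ψ := by
  unfold classInner twist
  congr 1
  refine Finset.sum_congr rfl fun g _ => ?_
  have h := hom_mul_conj (l.comp π) g
  simp only [MonoidHom.comp_apply] at h
  rw [map_mul]
  linear_combination (φ g * conj (ψ g)) * h

theorem isIrrCharacter_twist {φ : G → ℂ} (hφ : IsIrrCharacter G φ) (l : Q →* ℂˣ) :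
    IsIrrCharacter G (twist π φ l) := by
  classical
  letI := Fintype.ofFinite G
  apply isIrrCharacter_of_norm_one (isCharacter_twist π (IsIrrCharacter.isCharacter hφ) l)
  rw [classInner_twist_twist, classInner_irr_self hφ]

theorem charDegree_twist (φ : G → ℂ) (l : Q →* ℂˣ) : charDegree (twist π φ l) = charDegree φ := by
  simp [charDegree, twist]

/-- The stabilizer of `φ` under twisting. -/
def twistStab (φ : G → ℂ) : Subgroup (Q →* ℂˣ) where
  carrier := {l | twist π φ l = φ}
  mul_mem' := by
    intro a b ha hb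
    show twist π φ (a * b) = φ
    rw [← twist_twist, show twist π φ a = φ from ha]
    exact hb
  one_mem' := twist_one π φ
  inv_mem' := by
    intro a ha
    show twist π φ a⁻¹ = φ
    have h1 : twist π (twist π φ a) a⁻¹ = φ := by
      have h2 : a * a⁻¹ = 1 := by
        ext x
        simp
      rw [twist_twist, h2, twist_one]
    rwa [show twist π φ a = φ from ha] at h1

theorem mem_twistStab {φ : G → ℂ} {l : Q →* ℂˣ} : l ∈ twistStab π φ ↔ twist π φ l = φ := Iff.rfl

/-- `#{λ : φ λ = φ}` is the norm of the restriction of `φ` to the kernel. -/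
theorem card_twistStab (hπ : Function.Surjective π) (N : Subgroup G) (hN : ∀ g, π g = 1 ↔ g ∈ N)
    [Fintype G] [Fintype N] {φ : G → ℂ} (hφ : IsIrrCharacter G φ) :
    (Nat.card (twistStab π φ) : ℂ) = classInner (fun n : N => φ n) (fun n : N => φ n) := by
  classical
  letI : Fintype (Q →* ℂˣ) := Fintype.ofFinite _
  have h1 : (Nat.card (twistStab π φ) : ℂ) =
      ∑ l : Q →* ℂˣ, classInner (twist π φ l) φ := by
    have : ∀ l : Q →* ℂˣ, classInner (twist π φ l) φ = if l ∈ twistStab π φ then 1 else 0 := by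
      intro l
      rw [classInner_irr (isIrrCharacter_twist π hφ l) hφ]
      simp only [mem_twistStab]
    simp only [this]
    rw [Finset.sum_boole, Nat.card_eq_fintype_card, Fintype.card_subtype]
  rw [h1]
  unfold classInner
  rw [← Finset.mul_sum]
  simp only [twist_apply]
  have h2 : ∑ l : Q →* ℂˣ, ∑ g : G, φ g * ((l (π g) : ℂˣ) : ℂ) * conj (φ g) =
      ∑ g : G, φ g * conj (φ g) * (if π g = 1 then (Nat.card Q : ℂ) else 0) := by
    rw [Finset.sum_comm]
    refine Finset.sum_congr rfl fun g _ => ?_
    rw [← sum_hom, Finset.mul_sum]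
    refine Finset.sum_congr rfl fun l _ => ?_
    ring
  rw [h2]
  have h3 : ∑ g : G, φ g * conj (φ g) * (if π g = 1 then (Nat.card Q : ℂ) else 0) =
      (Nat.card Q : ℂ) * ∑ n : N, φ n * conj (φ n) := by
    rw [Finset.mul_sum]
    have h4 : ∑ n : N, (Nat.card Q : ℂ) * (φ n * conj (φ n)) =
        ∑ g ∈ Finset.univ.filter (fun g : G => g ∈ N), (Nat.card Q : ℂ) * (φ g * conj (φ g)) := by
      refine Finset.sum_bij (fun n _ => (n : G)) (by simp) ?_ ?_ ?_
      · intro a _ b _ h
        exact Subtype.ext h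
      · intro b hb
        exact ⟨⟨b, by simpa using hb⟩, Finset.mem_univ _, rfl⟩
      · intro a _
        rfl
    rw [h4, Finset.sum_filter]
    refine Finset.sum_congr rfl fun g _ => ?_
    simp only [hN]
    split_ifs
    · ring
    · ring
  rw [h3]
  have hQN : Nat.card G = Nat.card N * Nat.card Q := by
    have h5 : Nat.card N = Nat.card π.ker := by
      congr 2
      ext g
      rw [MonoidHom.mem_ker, hN]
    rw [h5, mul_comm]
    have h6 := Subgroup.card_mul_index π.ker
    rw [Subgroup.index_ker, MonoidHom.range_eq_top.mpr hπ, Subgroup.card_top] at h6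
    rw [mul_comm]
    exact h6.symm
  rw [hQN]
  have hN0 : (Nat.card N : ℂ) ≠ 0 := by exact_mod_cast Nat.card_pos.ne'
  have hQ0 : (Nat.card Q : ℂ) ≠ 0 := by exact_mod_cast Nat.card_pos.ne'
  push_cast
  field_simp

end Twist

section Clifford

variable {G : Type u} [Group G] [Fintype G] (N : Subgroup G) (hN : N.Normal) [Fintype N]

/-- Numerical form of Clifford's theorem. -/
theorem clifford_numeric [DecidableEq (N → ℂ)] {φ : G → ℂ} (hφ : IsIrrCharacter G φ) {ψ : N → ℂ}
    (hψ : IsIrrCharacter N ψ) (h : classInner (fun n : N => φ n) ψ ≠ 0) :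
    ∃ e : ℕ, e ≠ 0 ∧ classInner (fun n : N => φ n) ψ = e ∧
      charDegree φ = e * (Finset.univ.image (fun g : G => conjBy N hN g ψ)).card * charDegree ψ ∧
      classInner (fun n : N => φ n) (fun n : N => φ n) =
        ((e ^ 2 * (Finset.univ.image (fun g : G => conjBy N hN g ψ)).card : ℕ) : ℂ) := by
  classical
  have hc := IsIrrCharacter.isCharacter hφ
  obtain ⟨e, he⟩ := classInner_char_irr (isCharacter_restrict N hc) hψ
  have he0 : e ≠ 0 := by
    rintro rfl
    exact h (by simpa using he)
  have hsum := restrict_eq_smul_sum N hN hφ hψ h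
  rw [he] at hsum
  set O := Finset.univ.image (fun g : G => conjBy N hN g ψ) with hO
  have hOirr : ∀ a ∈ O, IsIrrCharacter N a := by
    intro a ha
    obtain ⟨g, -, rfl⟩ := Finset.mem_image.mp ha
    exact isIrrCharacter_conjBy N hN g hψ
  have hOone : ∀ a ∈ O, a 1 = ψ 1 := by
    intro a ha
    obtain ⟨g, -, rfl⟩ := Finset.mem_image.mp ha
    rw [conjBy_apply]
    congr 1
    apply Subtype.ext
    simp
  refine ⟨e, he0, he, ?_, ?_⟩
  · have h1 := congrFun hsum 1
    simp only [OneMemClass.coe_one, Pi.smul_apply, Finset.sum_apply, smul_eq_mul] at h1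
    rw [Finset.sum_congr rfl hOone, Finset.sum_const, nsmul_eq_mul] at h1
    rw [one_eq_charDegree hc, one_eq_charDegree (IsIrrCharacter.isCharacter hψ)] at h1
    have h2 : ((charDegree φ : ℕ) : ℂ) = ((e * O.card * charDegree ψ : ℕ) : ℂ) := by
      rw [h1]
      push_cast
      ring
    exact_mod_cast h2
  · rw [hsum, classInner_smul_left, classInner_smul_right, classInner_sum_left]
    have h3 : ∀ a ∈ O, classInner a (∑ b ∈ O, b) = 1 := by
      intro a ha
      rw [classInner_sum_right, Finset.sum_eq_single a]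
      · exact classInner_irr_self (hOirr a ha)
      · intro b hb hne
        exact classInner_irr_ne (hOirr a ha) (hOirr b hb) (Ne.symm hne)
      · intro h
        exact absurd ha h
    rw [Finset.sum_congr rfl h3]
    simp only [Finset.sum_const, nsmul_eq_mul, mul_one, map_natCast]
    push_cast
    ring

/-- The size of the orbit of a character of a normal subgroup divides the index. -/
theorem card_orbit_dvd_index [DecidableEq (N → ℂ)] {ψ : N → ℂ} (hψ : IsCharacter N ψ) :
    (Finset.univ.image (fun g : G => conjBy N hN g ψ)).card ∣ N.index := by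
  classical
  -- the stabilizer
  let T : Subgroup G :=
    { carrier := {g | conjBy N hN g ψ = ψ}
      mul_mem' := by
        intro a b ha hb
        show conjBy N hN (a * b) ψ = ψ
        rw [← conjBy_conjBy, show conjBy N hN a ψ = ψ from ha]
        exact hb
      one_mem' := conjBy_one N hN ψ
      inv_mem' := by
        intro a ha
        show conjBy N hN a⁻¹ ψ = ψ
        have h1 : conjBy N hN a⁻¹ (conjBy N hN a ψ) = ψ := by
          rw [conjBy_conjBy, mul_inv_cancel, conjBy_one]
        rwa [show conjBy N hN a ψ = ψ from ha] at h1 }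
  have hNT : N ≤ T := by
    intro n hn
    show conjBy N hN n ψ = ψ
    funext m
    rw [conjBy_apply]
    exact isClassFunction_of_isCharacter hψ m ⟨n, hn⟩
  have hfib : ∀ a ∈ Finset.univ.image (fun g : G => conjBy N hN g ψ),
      (Finset.univ.filter fun y : G => conjBy N hN y ψ = a).card = Nat.card T := by
    intro a ha
    obtain ⟨x, -, rfl⟩ := Finset.mem_image.mp ha
    have := card_filter_conjBy_eq N hN ψ x
    have h2 : (Finset.univ.filter fun y : G => conjBy N hN y ψ = conjBy N hN x ψ) =
        (Finset.univ.filter fun y : G => conjBy N hN x ψ = conjBy N hN y ψ) := by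
      ext y
      simp [eq_comm]
    rw [h2, this]
    rfl
  have hcard := Finset.card_eq_sum_card_image (fun g : G => conjBy N hN g ψ) Finset.univ
  rw [Finset.sum_congr rfl hfib, Finset.sum_const, smul_eq_mul, Finset.card_univ,
    ← Nat.card_eq_fintype_card] at hcard
  have h1 := Subgroup.card_mul_index N
  rw [hcard] at h1
  obtain ⟨r, hr⟩ := Subgroup.card_dvd_of_le hNT
  rw [hr] at h1
  refine ⟨r, ?_⟩
  have h2 : 0 < Nat.card N := Nat.card_pos
  apply Nat.eq_of_mul_eq_mul_left h2
  rw [h1]
  ring

section Main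

include hN in
/-- A character of a group with a `p`-group abelian quotient and degree prime to `p` restricts
with norm one. -/
theorem norm_restrict_eq_one {Q : Type v} [CommGroup Q] [Finite Q] (π : G →* Q)
    (hπ : Function.Surjective π) (hN' : ∀ g, π g = 1 ↔ g ∈ N) {p k : ℕ} (hp : p.Prime)
    (hQ : Nat.card Q = p ^ k) {φ : G → ℂ} (hφ : IsIrrCharacter G φ) (hdeg : ¬ p ∣ charDegree φ) :
    Nat.card (twistStab π φ) = 1 := by
  classical
  have hc := IsIrrCharacter.isCharacter hφ
  -- a constituent of the restriction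
  obtain ⟨m, hm⟩ := exists_nat_decomp (isCharacter_restrict N hc)
  have hex : ∃ i : IrrCharacter N, m i ≠ 0 := by
    by_contra hall
    push Not at hall
    have h0 : (fun h : N => φ h) = 0 := by
      rw [hm]
      simp [hall]
    have := congrFun h0 1
    simp only [OneMemClass.coe_one, Pi.zero_apply] at this
    exact Cfsg.Agent.Lib.CharAvg.irr_one_ne_zero hφ this
  obtain ⟨i, hi⟩ := hex
  have hinner : classInner (fun h : N => φ h) (i : N → ℂ) ≠ 0 := by
    rw [hm, classInner_nat_decomp m i i.2]
    exact_mod_cast hi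
  obtain ⟨e, he0, -, hdeg2, hnorm⟩ := clifford_numeric N hN hφ i.2 hinner
  have hcard := card_twistStab π hπ N hN' hφ
  rw [hnorm] at hcard
  have hcard2 : Nat.card (twistStab π φ) =
      e ^ 2 * (Finset.univ.image (fun g : G => conjBy N hN g (i : N → ℂ))).card := by
    exact_mod_cast hcard
  -- the stabilizer has `p`-power order
  have hdvd : Nat.card (twistStab π φ) ∣ p ^ k := by
    rw [← hQ]
    have h5 := Subgroup.card_subgroup_dvd_card (twistStab π φ)
    rwa [card_hom] at h5
  obtain ⟨j, -, hj⟩ := (Nat.dvd_prime_pow hp).mp hdvd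
  by_contra hne
  have hj0 : j ≠ 0 := by
    rintro rfl
    exact hne (by simpa using hj)
  have hpd : p ∣ e ^ 2 * (Finset.univ.image (fun g : G => conjBy N hN g (i : N → ℂ))).card := by
    rw [← hcard2, hj]
    exact dvd_pow_self p hj0
  apply hdeg
  rw [hdeg2]
  rcases hp.dvd_mul.mp hpd with h1 | h1
  · exact Dvd.dvd.mul_right (Dvd.dvd.mul_right (hp.dvd_of_dvd_pow h1) _) _
  · exact Dvd.dvd.mul_right (Dvd.dvd.mul_left h1 _) _

end Main

end Clifford

section Free

/-- A sum over a set with a free group action, of an invariant function with algebraic integer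
values, is the order of the group times an algebraic integer. -/
theorem exists_sum_eq_card_mul {Λ X : Type*} [Group Λ] [Fintype Λ] [Fintype X] [MulAction Λ X]
    (hfree : ∀ (a : Λ) (x : X), a • x = x → a = 1) (f : X → ℂ) (hf : ∀ (a : Λ) (x : X), f (a • x) = f x)
    (hint : ∀ x, IsIntegral ℤ (f x)) :
    ∃ s : ℂ, IsIntegral ℤ s ∧ ∑ x, f x = (Fintype.card Λ : ℂ) * s := by
  classical
  letI : Fintype (MulAction.orbitRel.Quotient Λ X) := Fintype.ofFinite _
  let e := MulAction.selfEquivSigmaOrbits Λ X
  refine ⟨∑ ω : MulAction.orbitRel.Quotient Λ X, f (Quotient.out ω), ?_, ?_⟩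
  · exact IsIntegral.sum _ fun ω _ => hint _
  · have h1 : ∑ x, f x = ∑ p : (Σ ω : MulAction.orbitRel.Quotient Λ X,
        MulAction.orbit Λ (Quotient.out ω)), f (p.2 : X) := by
      refine Fintype.sum_equiv e _ _ fun x => ?_
      have : ((e x).2 : X) = x := rfl
      rw [this]
    rw [h1, Fintype.sum_sigma, Finset.mul_sum]
    refine Finset.sum_congr rfl fun ω _ => ?_
    have h2 : ∀ y : MulAction.orbit Λ (Quotient.out ω), f (y : X) = f (Quotient.out ω) := by
      rintro ⟨y, a, rfl⟩
      exact hf a _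
    simp only [h2, Finset.sum_const, nsmul_eq_mul, Finset.card_univ]
    congr 2
    have h3 := MulAction.card_orbit_mul_card_stabilizer_eq_card_group Λ (Quotient.out ω)
    have h4 : Fintype.card (MulAction.stabilizer Λ (Quotient.out ω)) = 1 := by
      rw [Fintype.card_eq_one_iff]
      refine ⟨1, ?_⟩
      rintro ⟨a, ha⟩
      apply Subtype.ext
      exact hfree a _ (MulAction.mem_stabilizer_iff.mp ha)
    rw [h4, mul_one] at h3
    exact h3

end Free

end Cfsg.Agent.Lib.CharTwist
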