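import Mathlib
import Cfsg.Agent.Lib.TIFrob9
import Cfsg.Agent.Lib.CohLoop9
import Cfsg.Agent.Lib.SibLink9
import Cfsg.Agent.Lib.CharCentral
import Cfsg.Agent.Lib.RealChars
import Cfsg.Agent.Lib.LinTwist
import Cfsg.Agent.S1523

/-!
# Sibley's coherence theorem

`L` a group of odd order with a Frobenius kernel `H` of prime power order, `Z` a non-trivial
subgroup of `H`, normal in `L`, central in `H`.  The characters of `L` non-trivial on `Z` are
coherent (for any isometry), and if `Z` lies in the commutator subgroup of `H` and induction to `G`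
is an isometry with `H` a trivial intersection Sylow subgroup then all characters of `L` non-trivial
on `H` are coherent.
-/

set_option autoImplicit false
set_option linter.unusedSectionVars false
set_option linter.unusedVariables false
open Cfsg

namespace Cfsg.Agent.Lib.Sibley9

open Cfsg.Agent.Lib.CharBasic Cfsg.Agent.Lib.GenChar Cfsg.Agent.Lib.CharInd
  Cfsg.Agent.Lib.CharInduction Cfsg.Agent.Lib.CharKernel Cfsg.Agent.Lib.CharCentral
  Cfsg.Agent.Lib.CoherenceBasic Cfsg.Agent.Lib.CoherenceExt Cfsg.Agent.Lib.FrobIrr9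
  Cfsg.Agent.Lib.FrobCohMain9 Cfsg.Agent.Lib.CohLoop9 Cfsg.Agent.Lib.SibLink9
  Cfsg.Agent.Lib.TIFrob9
open scoped ComplexConjugate

variable {L : Type*} [Group L] [Fintype L] {G : Type*} [Group G] [Fintype G]
  {H : Subgroup L} [hHN : H.Normal]

/-- The degree divided by the index. -/
noncomputable def dd (H : Subgroup L) (χ : L → ℂ) : ℕ := charDegree χ / H.index

theorem index_pos' : 0 < H.index := Nat.pos_of_ne_zero Subgroup.index_ne_zero_of_finite

/-- The value of `dd` at an induced character. -/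
theorem dd_ind {θ : H → ℂ} (hθ : IsCharacter H θ) : dd H (indFun H θ) = charDegree θ := by
  unfold dd
  rw [charDegree_ind hθ, Nat.mul_div_cancel_left _ index_pos']

theorem dd_spec (hC : ∀ h ∈ H, h ≠ 1 → Subgroup.centralizer ({h} : Set L) ≤ H) {χ : L → ℂ}
    (hχ : χ ∈ SS H) : charDegree χ = H.index * dd H χ := by
  obtain ⟨θ, hθ, -, rfl⟩ := exists_of_mem hC hχ
  rw [dd_ind (IsIrrCharacter.isCharacter hθ), charDegree_ind (IsIrrCharacter.isCharacter hθ)]

theorem dd_pos (hC : ∀ h ∈ H, h ≠ 1 → Subgroup.centralizer ({h} : Set L) ≤ H) {χ : L → ℂ}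
    (hχ : χ ∈ SS H) : 0 < dd H χ := by
  obtain ⟨θ, hθ, -, rfl⟩ := exists_of_mem hC hχ
  rw [dd_ind (IsIrrCharacter.isCharacter hθ)]
  exact charDegree_pos hθ

/-- The values of `dd` are powers of `p`. -/
theorem dd_pow {p : ℕ} [hp : Fact p.Prime] (hP : IsPGroup p H)
    (hC : ∀ h ∈ H, h ≠ 1 → Subgroup.centralizer ({h} : Set L) ≤ H) {χ : L → ℂ}
    (hχ : χ ∈ SS H) : ∃ a : ℕ, dd H χ = p ^ a := by
  obtain ⟨θ, hθ, -, rfl⟩ := exists_of_mem hC hχ
  rw [dd_ind (IsIrrCharacter.isCharacter hθ)]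
  obtain ⟨n, hn⟩ := IsPGroup.iff_card.mp hP
  have h1 := charDegree_dvd_card hθ
  rw [hn] at h1
  obtain ⟨j, -, hj⟩ := (Nat.dvd_prime_pow hp.out).mp h1
  exact ⟨j, hj⟩

theorem charDegree_conjFun {χ : L → ℂ} (hχ : IsCharacter L χ) :
    charDegree (conjFun χ) = charDegree χ := by
  have h1 := one_eq_charDegree (isCharacter_conjFun hχ)
  have h2 := one_eq_charDegree hχ
  have h3 : conjFun χ 1 = conj (χ 1) := rfl
  rw [h3, h2, Complex.conj_natCast] at h1
  exact_mod_cast h1.symm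

theorem conj_mem_SS {Z : Subgroup L} {χ : L → ℂ} (hχ : χ ∈ SS Z) : conjFun χ ∈ SS Z := by
  obtain ⟨h1, z, hz, h2⟩ := hχ
  refine ⟨isIrrCharacter_conjFun h1, z, hz, ?_⟩
  intro h
  apply h2
  have h3 : conj (χ z) = conj (χ 1) := h
  exact (starRingEnd ℂ).injective h3

/-- No member of `SS Z` is real, in a group of odd order. -/
theorem conj_ne {Z : Subgroup L} (hodd : Odd (Nat.card L)) {χ : L → ℂ} (hχ : χ ∈ SS Z) :
    conjFun χ ≠ χ := by
  intro h
  obtain ⟨h1, z, hz, h2⟩ := hχ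
  have hreal : ∀ g : L, (χ g).im = 0 := by
    intro g
    have h3 : conj (χ g) = χ g := congrFun h g
    exact Complex.conj_eq_iff_im.mp h3
  have h4 := Cfsg.Agent.Lib.RealChars.eq_one_of_real hodd ⟨χ, h1⟩ hreal
  apply h2
  have h5 : χ = fun _ => 1 := h4
  rw [h5]

/-- The finite set of the characters non-trivial on `Z`. -/
noncomputable def FF (Z : Subgroup L) : Finset (L → ℂ) := by
  classical
  exact (Finset.univ.filter (fun i : IrrCharacter L => ∃ z ∈ Z, (i : L → ℂ) z ≠ (i : L → ℂ) 1)).image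
    Subtype.val

theorem mem_FF {Z : Subgroup L} {ξ : L → ℂ} : ξ ∈ FF Z ↔ ξ ∈ SS Z := by
  classical
  unfold FF
  simp only [Finset.mem_image, Finset.mem_filter, Finset.mem_univ, true_and]
  constructor
  · rintro ⟨i, hi, rfl⟩
    exact ⟨i.2, hi⟩
  · rintro ⟨h1, h2⟩
    exact ⟨⟨ξ, h1⟩, h2, rfl⟩

theorem coe_FF {Z : Subgroup L} : (↑(FF Z) : Set (L → ℂ)) = SS Z := by
  ext ξ
  exact mem_FF

open Classical in
theorem sum_FF (Z : Subgroup L) (g : (L → ℂ) → ℕ) :
    ∑ ξ ∈ FF Z, g ξ = ∑ i : IrrCharacter L, if ∃ z ∈ Z, (i : L → ℂ) z ≠ (i : L → ℂ) 1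
      then g i else 0 := by
  unfold FF
  rw [Finset.sum_image (fun a _ b _ h => Subtype.ext h), Finset.sum_filter]

/-- The hypotheses. -/
structure Hyp (p : ℕ) (H Z : Subgroup L) : Prop where
  hC : ∀ h ∈ H, h ≠ 1 → Subgroup.centralizer ({h} : Set L) ≤ H
  hP : IsPGroup p H
  hp3 : 3 ≤ p
  hodd : Odd (Nat.card L)
  hZH : Z ≤ H
  hZ1 : Z ≠ ⊥
  hZc : ∀ z ∈ Z, ∀ h ∈ H, z * h = h * z

section Main

variable {p : ℕ} [hp : Fact p.Prime] {Z : Subgroup L} [hZN : Z.Normal]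

theorem SS_mono (hZH : Z ≤ H) {χ : L → ℂ} (hχ : χ ∈ SS Z) : χ ∈ SS H := by
  obtain ⟨h1, z, hz, h2⟩ := hχ
  exact ⟨h1, z, hZH hz, h2⟩

/-- The index of `Z` in `H`. -/
noncomputable abbrev YY (H Z : Subgroup L) : ℕ := (Z.subgroupOf H).index

theorem card_subOf (hZH : Z ≤ H) : Nat.card (Z.subgroupOf H) = Nat.card Z :=
  Nat.card_congr (Subgroup.subgroupOfEquivOfLe hZH).toEquiv

theorem card_mul_YY (hZH : Z ≤ H) : Nat.card Z * YY H Z = Nat.card H := by
  have h := Subgroup.card_mul_index (Z.subgroupOf H)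
  rwa [card_subOf hZH] at h

theorem index_eq_YY (hZH : Z ≤ H) : Z.index = H.index * YY H Z := by
  have h := Subgroup.relIndex_mul_index hZH
  rw [Subgroup.relIndex] at h
  rw [← h, mul_comm]

/-- `d ^ 2` is at most the index. -/
theorem dd_sq_le (hy : Hyp p H Z) {χ : L → ℂ} (hχ : χ ∈ SS H) : dd H χ ^ 2 ≤ YY H Z := by
  classical
  obtain ⟨θ, hθ, -, rfl⟩ := exists_of_mem hy.hC hχ
  rw [dd_ind (IsIrrCharacter.isCharacter hθ)]
  have h1 := card_center_mul_sq_le hθ
  have h2 : Nat.card Z ≤ Nat.card (Subgroup.center H) := by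
    let f : Z → Subgroup.center H := fun z => ⟨⟨z, hy.hZH z.2⟩, by
      rw [Subgroup.mem_center_iff]
      intro g
      apply Subtype.ext
      exact (hy.hZc z z.2 g g.2).symm⟩
    refine Nat.card_le_card_of_injective f ?_
    intro a b hab
    apply Subtype.ext
    have h3 : ((f a : H) : L) = ((f b : H) : L) := by rw [hab]
    exact h3
  have h3 := card_mul_YY (H := H) (Z := Z) hy.hZH
  have h4 : Nat.card Z * charDegree θ ^ 2 ≤ Nat.card Z * YY H Z := by
    rw [h3]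
    exact le_trans (Nat.mul_le_mul_right _ h2) h1
  exact Nat.le_of_mul_le_mul_left h4 Nat.card_pos

/-- `d ^ 2` divides the index. -/
theorem dd_sq_dvd (hy : Hyp p H Z) {χ : L → ℂ} (hχ : χ ∈ SS H) : dd H χ ^ 2 ∣ YY H Z := by
  obtain ⟨a, ha⟩ := dd_pow hy.hP hy.hC hχ
  have h1 := dd_sq_le hy hχ
  obtain ⟨n, hn⟩ := IsPGroup.iff_card.mp hy.hP
  have h3 := card_mul_YY (H := H) (Z := Z) hy.hZH
  have h4 : YY H Z ∣ p ^ n := by
    rw [← hn, ← h3]
    exact Dvd.intro_left _ rfl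
  obtain ⟨b, -, hb⟩ := (Nat.dvd_prime_pow hp.out).mp h4
  rw [ha, ← pow_mul, hb] at h1 ⊢
  have h5 : a * 2 ≤ b := (Nat.pow_le_pow_iff_right hp.out.one_lt).mp h1
  exact pow_dvd_pow _ h5

/-- The sum of the squares of the `d`. -/
noncomputable def AA (H Z : Subgroup L) : ℕ := ∑ ξ ∈ FF Z, dd H ξ ^ 2

/-- The basic relation. -/
theorem index_mul_AA (hy : Hyp p H Z) : H.index * AA H Z + YY H Z = Nat.card H := by
  classical
  have he : 0 < H.index := index_pos'
  have h1 := sum_sq_SS (H := Z)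
  have h2 : ∑ i : IrrCharacter L, (if ∃ z ∈ Z, (i : L → ℂ) z ≠ (i : L → ℂ) 1 then
      charDegree (i : L → ℂ) ^ 2 else 0) = H.index ^ 2 * AA H Z := by
    rw [← sum_FF Z (fun ξ => charDegree ξ ^ 2), AA, Finset.mul_sum]
    refine Finset.sum_congr rfl (fun ξ hξ => ?_)
    rw [dd_spec hy.hC (SS_mono hy.hZH (mem_FF.mp hξ))]
    ring
  rw [h2, index_eq_YY hy.hZH, ← Subgroup.card_mul_index H] at h1
  have h3 : H.index * (H.index * AA H Z + YY H Z) = H.index * Nat.card H := by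
    rw [mul_comm H.index (Nat.card H), ← h1]
    ring
  exact Nat.eq_of_mul_eq_mul_left he h3

theorem odd_H (hy : Hyp p H Z) : Odd (Nat.card H) := by
  have h := hy.hodd
  rw [← Subgroup.card_mul_index H] at h
  exact (Nat.odd_mul.mp h).1

theorem odd_index (hy : Hyp p H Z) : Odd H.index := by
  have h := hy.hodd
  rw [← Subgroup.card_mul_index H] at h
  exact (Nat.odd_mul.mp h).2

theorem odd_Z (hy : Hyp p H Z) : Odd (Nat.card Z) := by
  have h := odd_H hy
  rw [← card_mul_YY hy.hZH] at h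
  exact (Nat.odd_mul.mp h).1

theorem odd_YY (hy : Hyp p H Z) : Odd (YY H Z) := by
  have h := odd_H hy
  rw [← card_mul_YY hy.hZH] at h
  exact (Nat.odd_mul.mp h).2

theorem coprime_index (hy : Hyp p H Z) : H.index.Coprime (Nat.card H) := by
  obtain ⟨k, hk⟩ := index_sub_modEq hy.hC (⊥ : Subgroup H)
  rw [Subgroup.index_bot] at hk
  rw [hk]
  simp

/-- The properties of the sum. -/
theorem AA_props (hy : Hyp p H Z) : YY H Z ∣ AA H Z ∧ Even (AA H Z) ∧ 2 * YY H Z ≤ AA H Z := by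
  have he : 0 < H.index := index_pos'
  have h1 := index_mul_AA hy
  have h2 := card_mul_YY (H := H) (Z := Z) hy.hZH
  have hY : 0 < YY H Z := Nat.pos_of_ne_zero Subgroup.index_ne_zero_of_finite
  have hZ2 : 1 < Nat.card Z := by
    have : Nontrivial Z := (Subgroup.nontrivial_iff_ne_bot Z).mpr hy.hZ1
    exact Finite.one_lt_card
  obtain ⟨q, hq⟩ : ∃ q, Nat.card Z = q + 1 := ⟨Nat.card Z - 1, by omega⟩
  have hq2 : Even q := by
    have h3 := odd_Z hy
    rw [hq] at h3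
    by_contra hc
    have := Nat.not_even_iff_odd.mp hc
    exact (Nat.not_even_iff_odd.mpr h3) (this.add_one)
  have h3 : H.index * AA H Z = q * YY H Z := by
    rw [hq] at h2
    have : (q + 1) * YY H Z = q * YY H Z + YY H Z := by ring
    omega
  have hcop : (YY H Z).Coprime H.index := by
    have h4 : YY H Z ∣ Nat.card H := by rw [← h2]; exact Dvd.intro_left _ rfl
    exact Nat.Coprime.coprime_dvd_left h4 (coprime_index hy).symm
  have hdvd : YY H Z ∣ AA H Z := hcop.dvd_of_dvd_mul_left (by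
    rw [h3]; exact Dvd.intro_left _ rfl)
  have heven : Even (AA H Z) := by
    have h4 : Even (H.index * AA H Z) := by
      rw [h3]; exact hq2.mul_right _
    exact (Nat.even_mul.mp h4).resolve_left (Nat.not_even_iff_odd.mpr (odd_index hy))
  refine ⟨hdvd, heven, ?_⟩
  obtain ⟨m, hm⟩ := hdvd
  have hq0 : q ≠ 0 := by
    rintro rfl
    omega
  have hm0 : m ≠ 0 := by
    rintro rfl
    rw [hm, mul_zero, mul_zero] at h3
    have := Nat.mul_pos (Nat.pos_of_ne_zero hq0) hY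
    omega
  have hme : Even m := by
    rw [hm] at heven
    exact (Nat.even_mul.mp heven).resolve_left (Nat.not_even_iff_odd.mpr (odd_YY hy))
  obtain ⟨t, ht⟩ := hme
  rw [hm, ht]
  have : 1 ≤ t := by omega
  calc 2 * YY H Z ≤ YY H Z * (2 * t) := by nlinarith
    _ = _ := by ring

/-- Powers of `p` ordered by size. -/
theorem pow_dvd_of_le {a b c d : ℕ} (hab : a = p ^ c) (hb : b = p ^ d) (h : a ≤ b) : a ∣ b := by
  subst hab hb
  exact pow_dvd_pow _ ((Nat.pow_le_pow_iff_right hp.out.one_lt).mp h)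

/-- A bigger power of `p` is at least `p` times bigger. -/
theorem pow_mul_le {a b c d : ℕ} (hab : a = p ^ c) (hb : b = p ^ d) (h : a < b) : p * a ≤ b := by
  subst hab hb
  have h1 : c < d := (Nat.pow_lt_pow_iff_right hp.out.one_lt).mp h
  calc p * p ^ c = p ^ (c + 1) := by ring
    _ ≤ p ^ d := Nat.pow_le_pow_right hp.out.pos h1

/-- The characters non-trivial on `Z` are coherent. -/
theorem coherent_T (hy : Hyp p H Z) (τ : (L → ℂ) → (G → ℂ))
    (hτ : IsLinearIsometryOn (zspanOn (SS H) {1}ᶜ) τ)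
    (hτ1 : ∀ α ∈ zspanOn (SS H) {1}ᶜ, τ α 1 = 0) :
    IsCoherent (SS Z) {1}ᶜ τ := by
  classical
  rw [← coe_FF (Z := Z)]
  have hsub : ∀ ξ ∈ FF Z, ξ ∈ SS H := fun ξ hξ => SS_mono hy.hZH (mem_FF.mp hξ)
  have hsubset : (↑(FF Z) : Set (L → ℂ)) ⊆ SS H := fun ξ hξ => hsub ξ hξ
  have he : 0 < H.index := index_pos'
  obtain ⟨hdvd, heven, h2Y⟩ := AA_props hy
  have hY : 0 < YY H Z := Nat.pos_of_ne_zero Subgroup.index_ne_zero_of_finite
  have hne : (FF Z).Nonempty := by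
    rw [Finset.nonempty_iff_ne_empty]
    intro h
    unfold AA at h2Y
    rw [h] at h2Y
    simp at h2Y
    omega
  obtain ⟨η₁, hη₁, hmin⟩ := Finset.exists_min_image (FF Z) (dd H) hne
  have hη₁S := mem_FF.mp hη₁
  have hη₂ : conjFun η₁ ∈ FF Z := mem_FF.mpr (conj_mem_SS hη₁S)
  have hdeg12 : charDegree η₁ = charDegree (conjFun η₁) :=
    (charDegree_conjFun (IsIrrCharacter.isCharacter hη₁S.1)).symm
  have hpowF : ∀ ξ ∈ FF Z, ∃ a : ℕ, dd H ξ = p ^ a := fun ξ hξ => dd_pow hy.hP hy.hC (hsub ξ hξ)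
  have hdspec : ∀ ξ ∈ FF Z, charDegree ξ = H.index * dd H ξ := fun ξ hξ => dd_spec hy.hC (hsub ξ hξ)
  have hdvdmin : ∀ ξ ∈ FF Z, dd H η₁ ∣ dd H ξ := by
    intro ξ hξ
    obtain ⟨a, ha⟩ := hpowF η₁ hη₁
    obtain ⟨b, hb⟩ := hpowF ξ hξ
    exact pow_dvd_of_le ha hb (hmin ξ hξ)
  refine coherent_loop (FF Z) (fun ξ hξ => (mem_FF.mp hξ).1) τ
    (iso_mono hτ (zspanOn_mono hsubset)) (fun α hα => hτ1 α (zspanOn_mono hsubset hα)) hη₁ hη₂
    (conj_ne hy.hodd hη₁S).symm hdeg12 ?_ ?_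
  · intro ξ hξ
    rw [hdspec η₁ hη₁, hdspec ξ hξ]
    exact Nat.mul_dvd_mul_left _ (hdvdmin ξ hξ)
  · intro ξ hξ hne2
    rw [hdspec η₁ hη₁, hdspec ξ hξ] at hne2 ⊢
    have hne3 : dd H η₁ ≠ dd H ξ := fun h => hne2 (by rw [h])
    have hlt : dd H η₁ < dd H ξ := lt_of_le_of_ne (hmin ξ hξ) hne3
    set D := dd H ξ with hD
    set d₁ := dd H η₁ with hd₁
    have hd₁pos : 0 < d₁ := dd_pos hy.hC (hsub η₁ hη₁)
    obtain ⟨a, ha⟩ := hpowF η₁ hη₁
    obtain ⟨b, hb⟩ := hpowF ξ hξ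
    have h3 : 3 * d₁ ≤ D := by
      have := pow_mul_le ha hb hlt
      calc 3 * d₁ ≤ p * d₁ := Nat.mul_le_mul_right _ hy.hp3
        _ ≤ D := this
    -- the filter
    set X := (FF Z).filter (fun η => charDegree η < H.index * D) with hX
    have hXsum : ∑ η ∈ X, charDegree η ^ 2 = H.index ^ 2 * ∑ η ∈ X, dd H η ^ 2 := by
      rw [Finset.mul_sum]
      refine Finset.sum_congr rfl (fun η hη => ?_)
      rw [hdspec η (Finset.mem_filter.mp hη).1]
      ring
    rw [hXsum]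
    have hdvdX : D ^ 2 ∣ ∑ η ∈ X, dd H η ^ 2 := by
      have h1 : D ^ 2 ∣ AA H Z := (dd_sq_dvd hy (hsub ξ hξ)).trans hdvd
      have h2 : AA H Z = ∑ η ∈ X, dd H η ^ 2 +
          ∑ η ∈ (FF Z).filter (fun η => ¬ charDegree η < H.index * D), dd H η ^ 2 := by
        unfold AA
        rw [hX, Finset.sum_filter_add_sum_filter_not]
      have h4 : D ^ 2 ∣ ∑ η ∈ (FF Z).filter (fun η => ¬ charDegree η < H.index * D), dd H η ^ 2 := by
        refine Finset.dvd_sum (fun η hη => ?_)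
        have h5 := Finset.mem_filter.mp hη
        apply pow_dvd_pow_of_dvd
        obtain ⟨c, hc⟩ := hpowF η h5.1
        refine pow_dvd_of_le hb hc ?_
        by_contra hlt2
        apply h5.2
        rw [hdspec η h5.1]
        exact Nat.mul_lt_mul_of_pos_left (not_le.mp hlt2) he
      rw [h2] at h1
      exact (Nat.dvd_add_left h4).mp h1
    have hη₁X : η₁ ∈ X := by
      rw [hX, Finset.mem_filter]
      refine ⟨hη₁, ?_⟩
      rw [hdspec η₁ hη₁]
      exact Nat.mul_lt_mul_of_pos_left hlt he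
    have hpos : 0 < ∑ η ∈ X, dd H η ^ 2 := by
      refine Finset.sum_pos' (fun _ _ => Nat.zero_le _) ⟨η₁, hη₁X, ?_⟩
      positivity
    have hge : D ^ 2 ≤ ∑ η ∈ X, dd H η ^ 2 := Nat.le_of_dvd hpos hdvdX
    have hDpos : 0 < D := by omega
    have h5 : 2 * d₁ * D < D ^ 2 := by nlinarith
    have h6 : 2 * (H.index * d₁) * (H.index * D) = H.index ^ 2 * (2 * d₁ * D) := by ring
    rw [h6]
    exact Nat.mul_lt_mul_of_pos_left (lt_of_lt_of_le h5 hge) (by positivity)

end Main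

end Cfsg.Agent.Lib.Sibley9
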