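import Mathlib
import Cfsg.Agent.Lib.Sibley9

/-!
# Sibley's coherence theorem: the characters of the group and the main statement
-/

set_option autoImplicit false
set_option linter.unusedSectionVars false
set_option linter.unusedVariables false
open Cfsg

namespace Cfsg.Agent.Lib.SibKey9

open Cfsg.Agent.Lib.CharBasic Cfsg.Agent.Lib.GenChar Cfsg.Agent.Lib.CharInd
  Cfsg.Agent.Lib.CharInduction Cfsg.Agent.Lib.CharKernel Cfsg.Agent.Lib.CharCentral
  Cfsg.Agent.Lib.CoherenceBasic Cfsg.Agent.Lib.CoherenceExt Cfsg.Agent.Lib.FrobIrr9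
  Cfsg.Agent.Lib.FrobCohMain9 Cfsg.Agent.Lib.CohLoop9 Cfsg.Agent.Lib.SibLink9
  Cfsg.Agent.Lib.TIFrob9 Cfsg.Agent.Lib.Sibley9
open scoped ComplexConjugate

variable {G : Type*} [Group G] [Fintype G]

section Abs

variable {N : Subgroup G} [Fintype N] {Z : Subgroup N}

/-- The basic computation with the restriction of an irreducible character of `G`. -/
theorem key_abs (e d₁ : ℕ) (he : 0 < e) (F : Finset (N → ℂ)) (hF : ∀ ξ, ξ ∈ F ↔ ξ ∈ SS Z)
    (r : (N → ℂ) → ℕ) (hr : ∀ η ∈ F, η 1 = ((e * d₁ * r η : ℕ) : ℂ)) {η₁ : N → ℂ} (hη₁ : η₁ ∈ F)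
    (hr₁ : r η₁ = 1) {ξ : G → ℂ} (hξ : IsIrrCharacter G ξ)
    (horth : ∀ γ ∈ zspanOn (↑F : Set (N → ℂ)) {1}ᶜ, classInner ξ (indFun N γ) = 0) :
    ∃ a : ℕ, classInner η₁ (fun n : N => ξ n) = a ∧
      ∀ z ∈ Z, z ≠ 1 → (e : ℂ) * d₁ * (ξ 1 - ξ (z : N)) = a * Nat.card N := by
  classical
  have hξc := isClassFunction_of_isCharacter (IsIrrCharacter.isCharacter hξ)
  set ρ : N → ℂ := fun n : N => ξ n with hρ
  have hρc : IsCharacter N ρ := isCharacter_restrict N (IsIrrCharacter.isCharacter hξ)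
  obtain ⟨m, hm⟩ := exists_nat_decomp hρc
  have hinner : ∀ i : IrrCharacter N, classInner (i : N → ℂ) ρ = m i := by
    intro i
    have h1 := classInner_nat_decomp m (i : N → ℂ) i.2
    rw [← hm] at h1
    simp only [Subtype.coe_eta] at h1
    rw [← classInner_conj_symm, h1]
    simp
  have hFirr : ∀ η ∈ F, IsIrrCharacter N η := fun η hη => ((hF η).mp hη).1
  have hη₁one : η₁ 1 = (e : ℂ) * d₁ := by
    rw [hr η₁ hη₁, hr₁]
    push_cast
    ring
  have hrel : ∀ η ∈ F, classInner η ρ = (r η : ℂ) * classInner η₁ ρ := by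
    intro η hη
    have hγ : η - (r η : ℤ) • η₁ ∈ zspanOn (↑F : Set (N → ℂ)) ({1}ᶜ : Set N) := by
      rw [mem_zspanOn_compl_one]
      refine ⟨zspan_sub (mem_zspan hη) (zspan_zsmul (mem_zspan hη₁) _), ?_⟩
      simp only [Pi.sub_apply, zsmul_apply, hη₁one, hr η hη]
      push_cast
      ring
    have h1 := horth _ hγ
    have h2 : classInner (indFun N (η - (r η : ℤ) • η₁)) ξ = 0 := by
      rw [← classInner_conj_symm, h1, map_zero]
    rw [CharInd.frobenius N _ hξc, classInner_sub_left, classInner_zsmul_left] at h2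
    push_cast at h2
    exact sub_eq_zero.mp h2
  set i₁ : IrrCharacter N := ⟨η₁, hFirr η₁ hη₁⟩ with hi₁
  refine ⟨m i₁, hinner i₁, ?_⟩
  intro z hz hz1
  have hval : ∀ x : N, ξ (x : G) = ∑ i : IrrCharacter N, (m i : ℂ) * (i : N → ℂ) x := by
    intro x
    have h1 := congrFun hm x
    rw [Finset.sum_apply] at h1
    simp only [Pi.smul_apply, nsmul_eq_mul] at h1
    exact h1
  have h1 : ξ 1 = ξ ((1 : N) : G) := by simp
  have hsum := sum_irr_deg_mul z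
  rw [if_neg hz1] at hsum
  have hsum1 := sum_irr_deg_mul (1 : N)
  rw [if_pos rfl] at hsum1
  have hterm : ∀ i : IrrCharacter N, (e : ℂ) * d₁ * ((m i : ℂ) * ((i : N → ℂ) 1 - (i : N → ℂ) z)) =
      (m i₁ : ℂ) * ((i : N → ℂ) 1 * (i : N → ℂ) 1 - (i : N → ℂ) 1 * (i : N → ℂ) z) := by
    intro i
    by_cases hi : (i : N → ℂ) ∈ SS Z
    · have hiF := (hF _).mpr hi
      have h2 := hrel _ hiF
      rw [hinner i, hinner i₁] at h2
      rw [h2, hr _ hiF]
      push_cast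
      ring
    · have h2 : (i : N → ℂ) z = (i : N → ℂ) 1 := by
        by_contra h3
        exact hi ⟨i.2, z, hz, h3⟩
      rw [h2]
      ring
  calc (e : ℂ) * d₁ * (ξ 1 - ξ (z : N))
      = (e : ℂ) * d₁ * ∑ i : IrrCharacter N, (m i : ℂ) * ((i : N → ℂ) 1 - (i : N → ℂ) z) := by
        rw [h1, hval, hval, ← Finset.sum_sub_distrib]
        congr 1
        refine Finset.sum_congr rfl (fun i _ => ?_)
        ring
    _ = ∑ i : IrrCharacter N, (m i₁ : ℂ) *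
          ((i : N → ℂ) 1 * (i : N → ℂ) 1 - (i : N → ℂ) 1 * (i : N → ℂ) z) := by
        rw [Finset.mul_sum]
        exact Finset.sum_congr rfl (fun i _ => hterm i)
    _ = _ := by
        rw [← Finset.mul_sum, Finset.sum_sub_distrib, hsum, hsum1, sub_zero]

end Abs

section Sylow

variable {p : ℕ} [hp : Fact p.Prime] (P : Sylow p G)

local notation "NN" => Subgroup.normalizer (((P : Sylow p G) : Subgroup G) : Set G)

/-- The divisibility. -/
theorem key_div (hTI : IsTISubset ((P : Subgroup G) : Set G))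
    [Fintype (NN)]
    (hodd : Odd (Nat.card (NN)))
    (hC₀ : ∀ k ∈ (P : Subgroup G), k ≠ 1 → Subgroup.centralizer ({k} : Set G) ≤ (P : Subgroup G))
    {Z : Subgroup (NN)} [hZN : Z.Normal]
    (hZH : Z ≤ (P : Subgroup G).subgroupOf (NN))
    (hZ1 : Z ≠ ⊥)
    (hZc : ∀ z ∈ Z, ∀ h ∈ (P : Subgroup G).subgroupOf (NN),
      z * h = h * z)
    (e d₁ : ℕ) (he : 0 < e) (hd₁ : 0 < d₁)
    (hcard : Nat.card (NN) = e * Nat.card (P : Subgroup G))
    (F : Finset (NN → ℂ)) (hF : ∀ ξ, ξ ∈ F ↔ ξ ∈ SS Z)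
    (r : (NN → ℂ) → ℕ)
    (hr : ∀ η ∈ F, η 1 = ((e * d₁ * r η : ℕ) : ℂ))
    {η₁ : NN → ℂ} (hη₁ : η₁ ∈ F)
    (hr₁ : r η₁ = 1) {ξ : G → ℂ} (hξ : IsIrrCharacter G ξ)
    (horth : ∀ γ ∈ zspanOn (↑F : Set (NN → ℂ)) {1}ᶜ,
      classInner ξ (indFun (NN) γ) = 0) :
    ∃ t : ℤ, classInner η₁ (fun n : NN => ξ n) =
      (d₁ : ℂ) * t := by
  classical
  obtain ⟨a, ha, hmain⟩ := key_abs e d₁ he F hF r hr hη₁ hr₁ hξ horth
  have he' : (e : ℂ) ≠ 0 := by exact_mod_cast he.ne'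
  have hd₁' : (d₁ : ℂ) ≠ 0 := by exact_mod_cast hd₁.ne'
  have hmain' : ∀ z ∈ Z, z ≠ 1 → (d₁ : ℂ) * (ξ 1 - ξ (z : NN)) = a * Nat.card (P : Subgroup G) := by
    intro z hz hz1
    have h1 := hmain z hz hz1
    rw [hcard] at h1
    push_cast at h1
    have h2 : (e : ℂ) * ((d₁ : ℂ) * (ξ 1 - ξ (z : NN))) = (e : ℂ) * (a * Nat.card (P : Subgroup G)) := by
      linear_combination h1
    exact mul_left_cancel₀ he' h2
  set ZG : Subgroup G := Z.map (NN).subtype with hZG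
  have hmemZG : ∀ z ∈ ZG, ∃ z' ∈ Z, (z' : G) = z := by
    rintro z ⟨z', hz', rfl⟩
    exact ⟨z', hz', rfl⟩
  have hZG1 : ZG ≠ ⊥ := by
    intro h
    apply hZ1
    rw [eq_bot_iff]
    intro z hz
    have h2 : (z : G) ∈ ZG := ⟨z, hz, rfl⟩
    rw [h, Subgroup.mem_bot] at h2
    rw [Subgroup.mem_bot]
    exact Subtype.ext h2
  have hne1 : ∀ z' : NN, (z' : G) ≠ 1 → z' ≠ 1 := fun z' h h2 => h (by rw [h2]; rfl)
  have hne2 : ∀ z' : NN, z' ≠ 1 → (z' : G) ≠ 1 := fun z' h h2 => h (Subtype.ext h2)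
  obtain ⟨z₀', hz₀', hz₀1'⟩ : ∃ z ∈ Z, z ≠ 1 := by
    by_contra hc
    push Not at hc
    exact hZ1 ((Subgroup.eq_bot_iff_forall _).mpr hc)
  have hZPle : ZG ≤ (P : Subgroup G) := by
    rintro z ⟨z', hz', rfl⟩
    exact hZH hz'
  have hcent : ∀ z ∈ ZG, z ≠ 1 → NN ⊓ Subgroup.centralizer ({z} : Set G) = (P : Subgroup G) := by
    rintro z ⟨z', hz', rfl⟩ hz1
    apply le_antisymm
    · exact fun x hx => hC₀ _ (hZH hz') hz1 hx.2
    · intro x hx
      have hxN : x ∈ NN := Subgroup.le_normalizer hx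
      refine ⟨hxN, Subgroup.mem_centralizer_singleton_iff.mpr ?_⟩
      have h3 := hZc z' hz' ⟨x, hxN⟩ (Subgroup.mem_subgroupOf.mpr hx)
      have h4 := congrArg Subtype.val h3
      exact h4.symm
  have hS := Cfsg.Agent.S1523.result p P hTI hodd ZG hZG1 hZPle
    (by
      rintro x hx z ⟨z', hz', rfl⟩
      have h3 := hZN.conj_mem z' hz' ⟨x, hx⟩
      exact ⟨_, h3, rfl⟩)
    (by
      rintro z ⟨z', hz', rfl⟩ y hy
      have h3 := hZc z' hz' ⟨y, Subgroup.le_normalizer hy⟩ (Subgroup.mem_subgroupOf.mpr hy)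
      exact congrArg Subtype.val h3)
    (by
      intro z hz z2 hz2 h1 h2
      rw [hcent z hz h1, hcent z2 hz2 h2])
    ξ hξ
    (by
      rintro z ⟨z', hz', rfl⟩ z2 ⟨z2', hz2', rfl⟩ h1 h2
      have h3 := hmain' z' hz' (hne1 z' h1)
      have h4 := hmain' z2' hz2' (hne1 z2' h2)
      have h5 := mul_left_cancel₀ hd₁' (h3.trans h4.symm)
      have h6 : ξ (z' : NN) = ξ (z2' : NN) := by linear_combination -h5
      exact h6)
    (z₀' : NN) ⟨z₀', hz₀', rfl⟩ (hne2 _ hz₀1')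
  obtain ⟨n, D, hn, hD, t, ht⟩ := hS
  refine ⟨t, ?_⟩
  rw [ha]
  have h7 := hmain' z₀' hz₀' hz₀1'
  rw [hn, hD] at h7
  have h8 : ((d₁ : ℤ) * (D - n) : ℂ) = ((a : ℤ) * (Nat.card (P : Subgroup G) : ℤ) : ℂ) := by
    push_cast
    exact h7
  have h9 : (d₁ : ℤ) * (D - n) = (a : ℤ) * (Nat.card (P : Subgroup G) : ℤ) := by
    exact_mod_cast h8
  rw [ht] at h9
  have hPpos : ((Nat.card (P : Subgroup G) : ℕ) : ℤ) ≠ 0 := by
    exact_mod_cast (Nat.card_pos (α := (P : Subgroup G))).ne'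
  have h10 : (Nat.card (P : Subgroup G) : ℤ) * ((d₁ : ℤ) * t) =
      (Nat.card (P : Subgroup G) : ℤ) * (a : ℤ) := by
    linear_combination h9
  have h11 := mul_left_cancel₀ hPpos h10
  have h12 : (((d₁ : ℤ) * t : ℤ) : ℂ) = ((a : ℤ) : ℂ) := by rw [h11]
  push_cast at h12
  exact h12.symm

end Sylow

end Cfsg.Agent.Lib.SibKey9
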