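import Mathlib
import Cfsg.Agent.Lib.SibKey9
import Cfsg.Agent.Lib.BrolineGT

/-!
# Sibley's coherence theorem: the main statement for non-abelian Sylow subgroups
-/

set_option autoImplicit false
set_option linter.unusedSectionVars false
set_option linter.unusedVariables false
open Cfsg

namespace Cfsg.Agent.Lib.SibMain9

open Cfsg.Agent.Lib.CharBasic Cfsg.Agent.Lib.GenChar Cfsg.Agent.Lib.CharInd
  Cfsg.Agent.Lib.CharInduction Cfsg.Agent.Lib.CharKernel Cfsg.Agent.Lib.CharCentral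
  Cfsg.Agent.Lib.CoherenceBasic Cfsg.Agent.Lib.CoherenceExt Cfsg.Agent.Lib.FrobIrr9
  Cfsg.Agent.Lib.FrobCohMain9 Cfsg.Agent.Lib.CohLoop9 Cfsg.Agent.Lib.SibLink9
  Cfsg.Agent.Lib.TIFrob9 Cfsg.Agent.Lib.Sibley9 Cfsg.Agent.Lib.SibKey9
open scoped ComplexConjugate commutatorElement

section L

variable {L : Type*} [Group L] [Fintype L] {H : Subgroup L} [hHN : H.Normal] {p : ℕ}
  [hp : Fact p.Prime]

/-- A non-trivial linear character of a non-trivial `p`-group. -/
theorem exists_linear (hP : IsPGroup p H) (hH1 : H ≠ ⊥) :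
    ∃ θ : H → ℂ, IsIrrCharacter H θ ∧ θ ≠ (fun _ => 1) ∧ charDegree θ = 1 ∧
      ∀ c ∈ commutator H, θ c = 1 := by
  classical
  have hnil : Group.IsNilpotent H := hP.isNilpotent
  have hntr : Nontrivial H := (Subgroup.nontrivial_iff_ne_bot H).mpr hH1
  have hind : (commutator H).index ≠ 1 := by
    intro h
    have h1 := Subgroup.index_eq_one.mp h
    have h2 := commutator_sup_ne_top hnil (⊥ : Subgroup H) bot_ne_top
    apply h2
    rw [sup_bot_eq]
    exact h1
  have hc := card_not_dvd hP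
  have hcard : 1 < (Finset.univ.filter
      (fun χ : IrrCharacter H => ¬ p ∣ charDegree (χ : H → ℂ))).card := by
    rw [hc]
    have : (commutator H).index ≠ 0 := Subgroup.index_ne_zero_of_finite
    omega
  obtain ⟨χ, hχ, hne⟩ := Finset.exists_mem_ne hcard (one9 H)
  have hχ2 := (Finset.mem_filter.mp hχ).2
  have hdeg : charDegree (χ : H → ℂ) = 1 :=
    (pGroup_degree_one_or_dvd hP χ.2).resolve_right hχ2
  refine ⟨χ, χ.2, ?_, hdeg, ?_⟩
  · intro h
    exact hne (Subtype.ext h)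
  · intro c hc
    obtain ⟨β, hβ⟩ := Cfsg.Agent.Lib.LinTwist.exists_hom_of_charDegree χ.2 hdeg
    rw [hβ]
    have h2 : c ∈ β.ker := Abelianization.commutator_subset_ker β hc
    rw [MonoidHom.mem_ker] at h2
    rw [h2]
    simp

/-- The value of an induced function trivial on the conjugates of an element. -/
theorem ind_trivial_on {Z : Subgroup L} [hZ : Z.Normal] (hZH : Z ≤ H) {θ : H → ℂ}
    (hθ1 : ∀ z : H, (z : L) ∈ Z → θ z = 1) {z : L} (hz : z ∈ Z) : indFun H θ z = H.index := by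
  classical
  have hterm : ∀ x : L, extendByZero H θ (x⁻¹ * z * x) = 1 := by
    intro x
    have h1 : x⁻¹ * z * x ∈ Z := by
      have := hZ.conj_mem z hz x⁻¹
      simpa using this
    rw [extendByZero_of_mem _ _ (hZH h1)]
    exact hθ1 _ h1
  rw [indFun_apply, Finset.sum_congr rfl (fun x _ => hterm x), Finset.sum_const, nsmul_eq_mul,
    mul_one, Finset.card_univ, ← Nat.card_eq_fintype_card, ← Subgroup.card_mul_index H]
  have hne : (Nat.card H : ℂ) ≠ 0 := natCard_subgroup_ne_zero H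
  push_cast
  field_simp

end L

section Sub

variable {G : Type*} [Group G] [Fintype G]

theorem frob_sub {K₀ N : Subgroup G}
    (hC₀ : ∀ k ∈ K₀, k ≠ 1 → Subgroup.centralizer ({k} : Set G) ≤ K₀) :
    ∀ h ∈ K₀.subgroupOf N, h ≠ 1 → Subgroup.centralizer ({h} : Set N) ≤ K₀.subgroupOf N := by
  intro h hh hh1 x hx
  rw [Subgroup.mem_subgroupOf] at hh ⊢
  rw [Subgroup.mem_centralizer_singleton_iff] at hx
  have hh1' : (h : G) ≠ 1 := fun h' => hh1 (Subtype.ext h')
  apply hC₀ _ hh hh1'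
  rw [Subgroup.mem_centralizer_singleton_iff]
  exact congrArg Subtype.val hx

end Sub

section Sylow

variable {G : Type*} [Group G] [Fintype G] {p : ℕ} [hp : Fact p.Prime] (P : Sylow p G)

local notation "NN" => Subgroup.normalizer (((P : Sylow p G) : Subgroup G) : Set G)
local notation "HH" => Subgroup.subgroupOf ((P : Sylow p G) : Subgroup G)
  (Subgroup.normalizer (((P : Sylow p G) : Subgroup G) : Set G))

theorem card_HH : Nat.card HH = Nat.card (P : Subgroup G) :=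
  Nat.card_congr (Subgroup.subgroupOfEquivOfLe Subgroup.le_normalizer).toEquiv

theorem isP_HH : IsPGroup p HH := by
  obtain ⟨n, hn⟩ := IsPGroup.iff_card.mp P.isPGroup'
  exact IsPGroup.iff_card.mpr ⟨n, by rw [card_HH, hn]⟩

theorem coprime_HH : (Nat.card (P : Subgroup G)).Coprime (HH).index := by
  have h1 := Subgroup.relIndex_mul_index (Subgroup.le_normalizer (H := (P : Subgroup G)))
  rw [Subgroup.relIndex] at h1
  have h2 : (HH).index ∣ (P : Subgroup G).index := by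
    rw [← h1]
    exact Dvd.intro _ rfl
  exact Nat.Coprime.coprime_dvd_right h2 P.card_coprime_index

/-- The non-abelian case of Sibley's theorem. -/
theorem sibley_nonabelian (hp2 : p ≠ 2) (hna : ¬ IsMulCommutative (P : Subgroup G))
    (hTI : IsTISubset ((P : Subgroup G) : Set G))
    (hC₀ : ∀ k ∈ (P : Subgroup G), k ≠ 1 → Subgroup.centralizer ({k} : Set G) ≤ (P : Subgroup G))
    [Fintype NN] :
    IsCoherent (SS (HH)) {1}ᶜ (indFun NN) := by
  classical
  have hp3 : 3 ≤ p := by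
    have := hp.out.two_le
    omega
  have hHN : (HH).Normal := Subgroup.normal_in_normalizer
  have hC : ∀ h ∈ HH, h ≠ 1 → Subgroup.centralizer ({h} : Set NN) ≤ HH := frob_sub hC₀
  have hPg : IsPGroup p HH := isP_HH P
  have hfus : Fus (HH) := fus_of_TI hTI rfl (coprime_HH P)
  have hiso : IsLinearIsometryOn (zspanOn (SS (HH)) {1}ᶜ) (indFun NN) := iso_ind hfus hC
  have hvan : ∀ α ∈ zspanOn (SS (HH)) {1}ᶜ, indFun NN α 1 = 0 := fun α hα => ind_vanish _ α hα
  -- non-commutativity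
  have hnc : ∃ u v : HH, u * v ≠ v * u := by
    by_contra hcon
    push Not at hcon
    apply hna
    refine ⟨⟨?_⟩⟩
    intro x y
    have h1 := hcon ⟨⟨x, Subgroup.le_normalizer x.2⟩, Subgroup.mem_subgroupOf.mpr x.2⟩
      ⟨⟨y, Subgroup.le_normalizer y.2⟩, Subgroup.mem_subgroupOf.mpr y.2⟩
    apply Subtype.ext
    exact congrArg (fun w : HH => ((w : NN) : G)) h1
  -- odd order
  have hoddP : Odd (Nat.card (P : Subgroup G)) := by
    obtain ⟨n, hn⟩ := IsPGroup.iff_card.mp P.isPGroup'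
    rw [hn]
    exact (hp.out.odd_of_ne_two hp2).pow
  have hodde : Odd (HH).index := by
    rw [← Nat.not_even_iff_odd, even_iff_two_dvd]
    intro h2
    obtain ⟨u, v, huv⟩ := hnc
    apply huv
    exact Subtype.ext (comm_of_even hC h2 u u.2 v v.2)
  have hcardN : Nat.card NN = (HH).index * Nat.card (P : Subgroup G) := by
    rw [← Subgroup.card_mul_index (HH), card_HH, mul_comm]
  have hoddN : Odd (Nat.card NN) := by
    rw [hcardN]
    exact hodde.mul hoddP
  -- the subgroup `Z`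
  have hnil : Group.IsNilpotent HH := hPg.isNilpotent
  set M : Subgroup HH := commutator HH ⊓ Subgroup.center HH with hM
  have hMch : M.Characteristic := inferInstance
  set Z : Subgroup NN := M.map (HH).subtype with hZ
  have hZN : Z.Normal := ConjAct.normal_of_characteristic_of_normal
  have hcomm1 : commutator HH ≠ ⊥ := by
    intro h
    obtain ⟨u, v, huv⟩ := hnc
    have h1 : ⁅u, v⁆ ∈ commutator HH := Subgroup.commutator_mem_commutator (Subgroup.mem_top _)
      (Subgroup.mem_top _)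
    rw [h, Subgroup.mem_bot, commutatorElement_eq_one_iff_mul_comm] at h1
    exact huv h1
  have hM1 : M ≠ ⊥ := Cfsg.Agent.Lib.BrolineGT.inf_center_ne_bot (commutator HH) hcomm1
  have hZ1 : Z ≠ ⊥ := by
    intro h
    apply hM1
    exact (Subgroup.map_eq_bot_iff_of_injective _ (HH).subtype_injective).mp h
  have hZH : Z ≤ HH := Subgroup.map_subtype_le M
  have hZc : ∀ z ∈ Z, ∀ h ∈ HH, z * h = h * z := by
    rintro _ ⟨z, hz, rfl⟩ h hh
    have h1 := (Subgroup.mem_center_iff.mp hz.2) ⟨h, hh⟩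
    exact (congrArg Subtype.val h1).symm
  have hy : Hyp p (HH) Z := ⟨hC, hPg, hp3, hoddN, hZH, hZ1, hZc⟩
  -- the first coherence
  have hcohT := coherent_T hy (indFun NN) hiso hvan
  rw [← coe_FF (Z := Z)] at hcohT
  have hsub : ∀ ξ ∈ FF Z, ξ ∈ SS (HH) := fun ξ hξ => SS_mono hZH (mem_FF.mp hξ)
  have he : 0 < (HH).index := index_pos'
  obtain ⟨hdvd, heven, h2Y⟩ := AA_props hy
  have hY : 0 < YY (HH) Z := Nat.pos_of_ne_zero Subgroup.index_ne_zero_of_finite
  have hne : (FF Z).Nonempty := by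
    rw [Finset.nonempty_iff_ne_empty]
    intro h
    have h5 : AA (HH) Z = 0 := by
      unfold AA
      rw [h]
      simp
    omega
  obtain ⟨η₁, hη₁, hmin⟩ := Finset.exists_min_image (FF Z) (dd (HH)) hne
  have hη₁S := mem_FF.mp hη₁
  have hη₂ : conjFun η₁ ∈ FF Z := mem_FF.mpr (conj_mem_SS hη₁S)
  have hne12 : η₁ ≠ conjFun η₁ := (conj_ne hoddN hη₁S).symm
  have hdeg12 : charDegree (conjFun η₁) = charDegree η₁ :=
    charDegree_conjFun (IsIrrCharacter.isCharacter hη₁S.1)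
  have hpowF : ∀ ξ ∈ FF Z, ∃ a : ℕ, dd (HH) ξ = p ^ a := fun ξ hξ => dd_pow hPg hC (hsub ξ hξ)
  have hdspec : ∀ ξ ∈ FF Z, charDegree ξ = (HH).index * dd (HH) ξ :=
    fun ξ hξ => dd_spec hC (hsub ξ hξ)
  set d₁ : ℕ := dd (HH) η₁ with hd₁
  have hd₁pos : 0 < d₁ := dd_pos hC (hsub η₁ hη₁)
  have hd₁odd : Odd d₁ := by
    obtain ⟨a, ha⟩ := hpowF η₁ hη₁
    rw [hd₁, ha]
    exact (hp.out.odd_of_ne_two hp2).pow
  have hdvdmin : ∀ ξ ∈ FF Z, d₁ ∣ dd (HH) ξ := by
    intro ξ hξ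
    obtain ⟨a, ha⟩ := hpowF η₁ hη₁
    obtain ⟨b, hb⟩ := hpowF ξ hξ
    exact pow_dvd_of_le ha hb (hmin ξ hξ)
  set r : (NN → ℂ) → ℕ := fun η => dd (HH) η / d₁ with hr
  have hrr : ∀ η ∈ FF Z, dd (HH) η = d₁ * r η := fun η hη =>
    (Nat.mul_div_cancel' (hdvdmin η hη)).symm
  have hr₁ : r η₁ = 1 := Nat.div_self hd₁pos
  have hr₂ : r (conjFun η₁) = 1 := by
    have h1 : dd (HH) (conjFun η₁) = d₁ := by
      rw [hd₁]
      unfold dd
      rw [hdeg12]
    simp only [hr]
    rw [h1]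
    exact Nat.div_self hd₁pos
  have hd : ∀ η ∈ FF Z, η 1 = (((HH).index * d₁ * r η : ℕ) : ℂ) := by
    intro η hη
    rw [one_eq_charDegree (IsIrrCharacter.isCharacter (mem_FF.mp hη).1), hdspec η hη, hrr η hη,
      mul_assoc]
  have hevenr : Even (∑ η ∈ FF Z, r η ^ 2) := by
    have h1 : AA (HH) Z = d₁ ^ 2 * ∑ η ∈ FF Z, r η ^ 2 := by
      unfold AA
      rw [Finset.mul_sum]
      refine Finset.sum_congr rfl (fun η hη => ?_)
      rw [hrr η hη]
      ring
    rw [h1] at heven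
    exact (Nat.even_mul.mp heven).resolve_left
      (Nat.not_even_iff_odd.mpr hd₁odd.pow)
  -- the character `χ₀`
  have hH1 : HH ≠ ⊥ := by
    intro h
    apply hZ1
    rw [eq_bot_iff, ← h]
    exact hZH
  obtain ⟨θ₀, hθ₀, hθ₀ne, hθ₀deg, hθ₀c⟩ := exists_linear hPg hH1
  set χ₀ : NN → ℂ := indFun HH θ₀ with hχ₀
  have hχ₀S : χ₀ ∈ SS (HH) := ind_mem hC hθ₀ hθ₀ne
  have hθ₀one : θ₀ 1 = 1 := by
    rw [one_eq_charDegree (IsIrrCharacter.isCharacter hθ₀), hθ₀deg]
    simp
  have hχ₀1 : χ₀ 1 = ((HH).index : ℂ) := by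
    rw [hχ₀, indFun_one, hθ₀one, mul_one]
  have hχ₀Z : ∀ z ∈ Z, χ₀ z = χ₀ 1 := by
    intro z hz
    rw [hχ₀1, hχ₀]
    refine ind_trivial_on hZH ?_ hz
    intro w hw
    obtain ⟨w', hw', hww⟩ := hw
    have h1 : w' = w := Subtype.ext hww
    rw [← h1]
    exact hθ₀c _ hw'.1
  have hχ₀T : χ₀ ∉ FF Z := by
    intro h
    obtain ⟨-, z, hz, h2⟩ := mem_FF.mp h
    exact h2 (hχ₀Z z hz)
  have hsubB : (↑(insert χ₀ (FF Z)) : Set (NN → ℂ)) ⊆ SS (HH) := by
    intro x hx
    rcases Finset.mem_insert.mp hx with rfl | hx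
    · exact hχ₀S
    · exact hsub x hx
  have hξc : ∀ ξ : G → ℂ, IsIrrCharacter G ξ → IsClassFunction G ξ := fun ξ hξ =>
    isClassFunction_of_isCharacter (IsIrrCharacter.isCharacter hξ)
  -- the link
  have hB : IsCoherent (↑(insert χ₀ (FF Z)) : Set (NN → ℂ)) {1}ᶜ (indFun NN) := by
    refine link (FF Z) (fun ξ hξ => (mem_FF.mp hξ).1) hχ₀S.1 hχ₀T (HH).index d₁ he hd₁odd hχ₀1 r hd
      hη₁ hη₂ hne12 hr₁ hr₂ hevenr (indFun NN) (iso_mono hiso (zspanOn_mono hsubB)) hcohT ?_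
    intro ξ hξ horth
    obtain ⟨t, ht⟩ := key_div P hTI hoddN hC₀ hZH hZ1 hZc (HH).index d₁ he hd₁pos hcardN (FF Z)
      (fun ξ => mem_FF) r hd hη₁ hr₁ hξ horth
    obtain ⟨b, hb⟩ := classInner_char_char (IsIrrCharacter.isCharacter hχ₀S.1)
      (isCharacter_restrict NN (IsIrrCharacter.isCharacter hξ))
    refine ⟨t - b, ?_⟩
    rw [CharInd.frobenius NN _ (hξc ξ hξ), classInner_sub_left, classInner_zsmul_left, ht, hb]
    push_cast
    ring
  -- the rest
  have hfinal := coherent_add_all (F := FF (HH)) (B := insert χ₀ (FF Z))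
    (by
      intro x hx
      exact mem_FF.mpr (hsubB hx))
    (fun ξ hξ => (mem_FF.mp hξ).1) (indFun NN)
    (by rw [coe_FF]; exact hiso)
    (by rw [coe_FF]; exact hvan)
    hB (Finset.mem_insert_self χ₀ _)
    (by
      intro ξ hξ _
      rw [hχ₀, charDegree_ind (IsIrrCharacter.isCharacter hθ₀), hθ₀deg, mul_one,
        dd_spec hC (mem_FF.mp hξ)]
      exact Dvd.intro _ rfl)
    (by
      intro ξ hξ _
      have hξS := mem_FF.mp hξ
      rw [dd_spec hC hξS, Finset.sum_insert hχ₀T, hχ₀, charDegree_ind (IsIrrCharacter.isCharacter hθ₀),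
        hθ₀deg, mul_one]
      have h1 : ∑ η ∈ FF Z, charDegree η ^ 2 = (HH).index ^ 2 * AA (HH) Z := by
        unfold AA
        rw [Finset.mul_sum]
        refine Finset.sum_congr rfl (fun η hη => ?_)
        rw [hdspec η hη]
        ring
      rw [h1]
      have h2 := dd_sq_le hy hξS
      have h3 : dd (HH) ξ ≤ dd (HH) ξ ^ 2 := Nat.le_self_pow (by norm_num) _
      have h4 : 2 * dd (HH) ξ < 1 + AA (HH) Z := by omega
      have h5 : 2 * (HH).index * ((HH).index * dd (HH) ξ) = (HH).index ^ 2 * (2 * dd (HH) ξ) := by ring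
      have h6 : (HH).index ^ 2 + (HH).index ^ 2 * AA (HH) Z = (HH).index ^ 2 * (1 + AA (HH) Z) := by ring
      rw [h5, h6]
      exact Nat.mul_lt_mul_of_pos_left h4 (by positivity))
  rwa [coe_FF] at hfinal

end Sylow

end Cfsg.Agent.Lib.SibMain9
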