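import Mathlib
import Cfsg.Agent.Lib.SibMain9

/-!
# The case `|H| = [L : H] + 1` of a Frobenius kernel
-/

set_option autoImplicit false
set_option linter.unusedSectionVars false
set_option linter.unusedVariables false
open Cfsg

namespace Cfsg.Agent.Lib.SibSingle9

open Cfsg.Agent.Lib.CharBasic Cfsg.Agent.Lib.GenChar Cfsg.Agent.Lib.CharInd
  Cfsg.Agent.Lib.CharKernel Cfsg.Agent.Lib.FrobIrr9 Cfsg.Agent.Lib.Sibley9

variable {L : Type*} [Group L] [Finite L] {H : Subgroup L} [hHN : H.Normal]

/-- The centraliser and the conjugacy class of a non-identity element. -/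
theorem single_class (hC : ∀ h ∈ H, h ≠ 1 → Subgroup.centralizer ({h} : Set L) ≤ H)
    (hcard : Nat.card H = H.index + 1) {x : L} (hx : x ∈ H) (hx1 : x ≠ 1) :
    Subgroup.centralizer ({x} : Set L) = H ∧ ∀ y ∈ H, y ≠ 1 → IsConj x y := by
  classical
  have he : 0 < H.index := Nat.pos_of_ne_zero Subgroup.index_ne_zero_of_finite
  let _ : Fintype L := Fintype.ofFinite L
  have h1 := card_conj_mul_card_centralizer x
  rw [← Subgroup.card_mul_index H, hcard] at h1
  set s : Set L := {y | IsConj x y} with hs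
  set t : Set L := (H : Set L) \ {1} with ht
  have hst : s ⊆ t := by
    intro y hy
    have hy' : IsConj x y := hy
    obtain ⟨c, hc⟩ := isConj_iff.mp hy'
    refine ⟨?_, ?_⟩
    · rw [← hc]
      exact hHN.conj_mem x hx c
    · rw [Set.mem_singleton_iff, ← hc]
      intro h
      apply hx1
      have h2 : c * x * c⁻¹ = c * 1 * c⁻¹ := by rw [h]; group
      simpa using h2
  have htcard : t.ncard = H.index := by
    rw [ht, Set.ncard_sdiff_singleton_of_mem (by exact H.one_mem), ← Nat.card_coe_set_eq]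
    have : Nat.card (H : Set L) = Nat.card H := rfl
    rw [this, hcard]
    simp
  have hscard : Nat.card {y : L // IsConj x y} = s.ncard := by
    rw [← Nat.card_coe_set_eq]
    rfl
  have hsle : s.ncard ≤ H.index := by
    rw [← htcard]
    exact Set.ncard_le_ncard hst (Set.toFinite _)
  have hCle : Nat.card (Subgroup.centralizer ({x} : Set L)) ≤ Nat.card H :=
    Subgroup.card_le_of_le (hC x hx hx1)
  rw [hscard] at h1
  rw [hcard] at hCle
  set c := Nat.card (Subgroup.centralizer ({x} : Set L)) with hc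
  have hCeq : c = H.index + 1 := by
    by_contra hne
    have h2 : c < H.index + 1 := lt_of_le_of_ne hCle hne
    have h3 : s.ncard * c ≤ H.index * c := Nat.mul_le_mul_right _ hsle
    have h4 : H.index * c < H.index * (H.index + 1) := Nat.mul_lt_mul_of_pos_left h2 he
    nlinarith
  have hseq : s.ncard = H.index := by
    rw [hCeq] at h1
    have h2 : s.ncard * (H.index + 1) = H.index * (H.index + 1) := by
      rw [h1]
      ring
    exact Nat.eq_of_mul_eq_mul_right (Nat.succ_pos _) h2
  constructor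
  · apply Subgroup.eq_of_le_of_card_ge (hC x hx hx1)
    rw [hcard, ← hc, hCeq]
  · have hsteq : s = t := Set.eq_of_subset_of_ncard_le hst (by rw [htcard, hseq]) (Set.toFinite _)
    intro y hy hy1
    have h2 : y ∈ t := ⟨hy, hy1⟩
    rw [← hsteq] at h2
    exact h2

/-- The kernel is abelian of prime exponent. -/
theorem single_props (hC : ∀ h ∈ H, h ≠ 1 → Subgroup.centralizer ({h} : Set L) ≤ H)
    (hH1 : H ≠ ⊥) (hcard : Nat.card H = H.index + 1) :
    (∀ a ∈ H, ∀ b ∈ H, a * b = b * a) ∧ ∃ q : ℕ, q.Prime ∧ q ∣ Nat.card H ∧ ∀ a ∈ H, a ^ q = 1 := by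
  classical
  refine ⟨?_, ?_⟩
  · intro a ha b hb
    by_cases ha1 : a = 1
    · rw [ha1]; simp
    · have h1 := (single_class hC hcard ha ha1).1
      have h2 : b ∈ Subgroup.centralizer ({a} : Set L) := by rw [h1]; exact hb
      exact (Subgroup.mem_centralizer_singleton_iff.mp h2).symm
  · have hnt : Nontrivial H := (Subgroup.nontrivial_iff_ne_bot H).mpr hH1
    have hc1 : Nat.card H ≠ 1 := Finite.one_lt_card.ne'
    obtain ⟨q, hq, hqd⟩ := Nat.exists_prime_and_dvd hc1
    have : Fact q.Prime := ⟨hq⟩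
    obtain ⟨x, hx⟩ := exists_prime_orderOf_dvd_card' (G := H) q hqd
    refine ⟨q, hq, hqd, ?_⟩
    intro a ha
    have hx1 : (x : L) ≠ 1 := by
      intro h
      have h2 : x = 1 := Subtype.ext h
      rw [h2, orderOf_one] at hx
      exact hq.one_lt.ne hx
    have hxq : (x : L) ^ q = 1 := by
      have h2 : x ^ q = 1 := by rw [← hx]; exact pow_orderOf_eq_one x
      exact congrArg Subtype.val h2
    by_cases ha1 : a = 1
    · rw [ha1]; simp
    · obtain ⟨c, hc⟩ := isConj_iff.mp ((single_class hC hcard x.2 hx1).2 a ha ha1)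
      rw [← hc, conj_pow, hxq]
      simp

variable [Fintype L]

/-- There is exactly one character. -/
theorem single_card (hC : ∀ h ∈ H, h ≠ 1 → Subgroup.centralizer ({h} : Set L) ≤ H)
    (hcard : Nat.card H = H.index + 1) : Nat.card {χ : L → ℂ // χ ∈ SS H} = 1 := by
  classical
  have he : 0 < H.index := index_pos'
  have h1 := sum_sq_SS (H := H)
  rw [← sum_FF H (fun ξ => charDegree ξ ^ 2), ← Subgroup.card_mul_index H, hcard] at h1
  have h2 : ∑ ξ ∈ FF H, charDegree ξ ^ 2 = H.index ^ 2 * ∑ ξ ∈ FF H, dd H ξ ^ 2 := by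
    rw [Finset.mul_sum]
    refine Finset.sum_congr rfl (fun ξ hξ => ?_)
    rw [dd_spec hC (mem_FF.mp hξ)]
    ring
  have h3 : ∑ ξ ∈ FF H, dd H ξ ^ 2 = 1 := by
    rw [h2] at h1
    have h4 : H.index ^ 2 * ∑ ξ ∈ FF H, dd H ξ ^ 2 = H.index ^ 2 * 1 := by
      have : (H.index + 1) * H.index = H.index ^ 2 + H.index := by ring
      omega
    exact Nat.eq_of_mul_eq_mul_left (by positivity) h4
  have h4 : (FF H).card ≤ 1 := by
    rw [← h3, Finset.card_eq_sum_ones]
    refine Finset.sum_le_sum (fun ξ hξ => ?_)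
    have := dd_pos hC (mem_FF.mp hξ)
    exact Nat.one_le_pow _ _ this
  have h5 : (FF H).Nonempty := by
    rw [Finset.nonempty_iff_ne_empty]
    intro h
    rw [h] at h3
    simp at h3
  have h6 : (FF H).card = 1 := by
    have := Finset.card_pos.mpr h5
    omega
  rw [← h6]
  exact Nat.subtype_card _ (fun x => mem_FF)

end Cfsg.Agent.Lib.SibSingle9
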