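import Mathlib
import Cfsg.Agent.Lib.SibSingle9

/-!
# Sibley's coherence theorem: the final forms
-/

set_option autoImplicit false
set_option linter.unusedSectionVars false
set_option linter.unusedVariables false
open Cfsg

namespace Cfsg.Agent.Lib.SibTop9

open Cfsg.Agent.Lib.CharBasic Cfsg.Agent.Lib.GenChar Cfsg.Agent.Lib.CharInd
  Cfsg.Agent.Lib.CharKernel Cfsg.Agent.Lib.CoherenceBasic Cfsg.Agent.Lib.FrobIrr9
  Cfsg.Agent.Lib.FrobCohMain9 Cfsg.Agent.Lib.TIFrob9 Cfsg.Agent.Lib.Sibley9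
  Cfsg.Agent.Lib.SibMain9 Cfsg.Agent.Lib.SibSingle9

section Sylow

variable {G : Type*} [Group G] [Fintype G] {p : ℕ} [hp : Fact p.Prime] (P : Sylow p G)

local notation "NN" => Subgroup.normalizer (((P : Sylow p G) : Subgroup G) : Set G)
local notation "HH" => Subgroup.subgroupOf ((P : Sylow p G) : Subgroup G)
  (Subgroup.normalizer (((P : Sylow p G) : Subgroup G) : Set G))

/-- The characters non-trivial on a central subgroup. -/
theorem sibley_central (hp2 : p ≠ 2) (hna : ¬ IsMulCommutative (P : Subgroup G))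
    (hTI : IsTISubset ((P : Subgroup G) : Set G))
    (hC₀ : ∀ k ∈ (P : Subgroup G), k ≠ 1 → Subgroup.centralizer ({k} : Set G) ≤ (P : Subgroup G))
    [Fintype NN] (Z : Subgroup G) (hZ1 : Z ≠ ⊥)
    (hZP : ∀ z ∈ Z, z ∈ (P : Subgroup G) ∧ ∀ y ∈ (P : Subgroup G), z * y = y * z)
    (hZn : ∀ x ∈ NN, ∀ z ∈ Z, x * z * x⁻¹ ∈ Z) :
    IsCoherent (SS (Z.subgroupOf NN)) {1}ᶜ (indFun NN) := by
  classical
  have hp3 : 3 ≤ p := by
    have := hp.out.two_le
    omega
  have hHN : (HH).Normal := Subgroup.normal_in_normalizer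
  have hC : ∀ h ∈ HH, h ≠ 1 → Subgroup.centralizer ({h} : Set NN) ≤ HH := frob_sub hC₀
  have hPg : IsPGroup p HH := isP_HH P
  have hfus : Fus (HH) := fus_of_TI hTI rfl (coprime_HH P)
  have hiso : IsLinearIsometryOn (zspanOn (SS (HH)) {1}ᶜ) (indFun NN) := iso_ind hfus hC
  have hvan : ∀ α ∈ zspanOn (SS (HH)) {1}ᶜ, indFun NN α 1 = 0 := fun α hα => ind_vanish _ α hα
  have hoddP : Odd (Nat.card (P : Subgroup G)) := by
    obtain ⟨n, hn⟩ := IsPGroup.iff_card.mp P.isPGroup'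
    rw [hn]
    exact (hp.out.odd_of_ne_two hp2).pow
  have hnc : ∃ u v : HH, u * v ≠ v * u := by
    by_contra hcon
    push Not at hcon
    apply hna
    refine ⟨⟨?_⟩⟩
    intro x y
    have h1 := hcon ⟨⟨x, Subgroup.le_normalizer x.2⟩, Subgroup.mem_subgroupOf.mpr x.2⟩
      ⟨⟨y, Subgroup.le_normalizer y.2⟩, Subgroup.mem_subgroupOf.mpr y.2⟩
    apply Subtype.ext
    exact congrArg (fun w : HH => ((w : NN) : G)) h1
  have hodde : Odd (HH).index := by
    rw [← Nat.not_even_iff_odd, even_iff_two_dvd]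
    intro h2
    obtain ⟨u, v, huv⟩ := hnc
    apply huv
    exact Subtype.ext (comm_of_even hC h2 u u.2 v v.2)
  have hcardN : Nat.card NN = (HH).index * Nat.card (P : Subgroup G) := by
    rw [← Subgroup.card_mul_index (HH), card_HH, mul_comm]
  have hoddN : Odd (Nat.card NN) := by
    rw [hcardN]
    exact hodde.mul hoddP
  set Z' : Subgroup NN := Z.subgroupOf NN with hZ'
  have hZ'N : Z'.Normal := by
    constructor
    intro n hn g
    rw [hZ', Subgroup.mem_subgroupOf] at hn ⊢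
    exact hZn g g.2 n hn
  have hZ'H : Z' ≤ HH := by
    intro z hz
    rw [hZ', Subgroup.mem_subgroupOf] at hz
    exact Subgroup.mem_subgroupOf.mpr (hZP _ hz).1
  have hZ'1 : Z' ≠ ⊥ := by
    intro h
    apply hZ1
    rw [eq_bot_iff]
    intro z hz
    have hzN : z ∈ NN := Subgroup.le_normalizer (hZP z hz).1
    have h2 : (⟨z, hzN⟩ : NN) ∈ Z' := Subgroup.mem_subgroupOf.mpr hz
    rw [h, Subgroup.mem_bot] at h2
    rw [Subgroup.mem_bot]
    exact congrArg Subtype.val h2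
  have hZ'c : ∀ z ∈ Z', ∀ h ∈ HH, z * h = h * z := by
    intro z hz h hh
    rw [hZ', Subgroup.mem_subgroupOf] at hz
    exact Subtype.ext ((hZP _ hz).2 _ (Subgroup.mem_subgroupOf.mp hh))
  exact coherent_T ⟨hC, hPg, hp3, hoddN, hZ'H, hZ'1, hZ'c⟩ (indFun NN) hiso hvan

/-- Sibley's theorem. -/
theorem sibley_full (hp2 : p ≠ 2) (hP1 : (P : Subgroup G) ≠ ⊥)
    (hTI : IsTISubset ((P : Subgroup G) : Set G))
    (hlt : (P : Subgroup G) < NN)
    (hC₀ : ∀ k ∈ (P : Subgroup G), k ≠ 1 → Subgroup.centralizer ({k} : Set G) ≤ (P : Subgroup G))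
    [Fintype NN] :
    (Nat.card {χ : NN → ℂ // χ ∈ SS (HH)} = 1 ∧ IsElementaryAbelian p (P : Subgroup G) ∧
      Nat.card (P : Subgroup G) = (HH).index + 1) ∨
    IsCoherent (SS (HH)) {1}ᶜ (indFun NN) := by
  classical
  by_cases hna : IsMulCommutative (P : Subgroup G)
  swap
  · exact Or.inr (sibley_nonabelian P hp2 hna hTI hC₀)
  have hHN : (HH).Normal := Subgroup.normal_in_normalizer
  have hC : ∀ h ∈ HH, h ≠ 1 → Subgroup.centralizer ({h} : Set NN) ≤ HH := frob_sub hC₀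
  have hfus : Fus (HH) := fus_of_TI hTI rfl (coprime_HH P)
  have hiso : IsLinearIsometryOn (zspanOn (SS (HH)) {1}ᶜ) (indFun NN) := iso_ind hfus hC
  have hvan : ∀ α ∈ zspanOn (SS (HH)) {1}ᶜ, indFun NN α 1 = 0 := fun α hα => ind_vanish _ α hα
  have hH1 : HH ≠ ⊥ := by
    intro h
    apply hP1
    rw [eq_bot_iff]
    intro x hx
    have h2 : (⟨x, Subgroup.le_normalizer hx⟩ : NN) ∈ HH := Subgroup.mem_subgroupOf.mpr hx
    rw [h, Subgroup.mem_bot] at h2
    rw [Subgroup.mem_bot]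
    exact congrArg Subtype.val h2
  have hH2 : HH ≠ ⊤ := by
    intro h
    apply hlt.not_ge
    intro x hx
    have h2 : (⟨x, hx⟩ : NN) ∈ HH := by rw [h]; trivial
    exact Subgroup.mem_subgroupOf.mp h2
  by_cases he : Nat.card HH = (HH).index + 1
  · left
    refine ⟨single_card hC he, ?_, ?_⟩
    · refine ⟨hna, ?_⟩
      obtain ⟨-, q, hq, hqd, hq2⟩ := single_props hC hH1 he
      have hqp : q = p := by
        obtain ⟨n, hn⟩ := IsPGroup.iff_card.mp (isP_HH P)
        rw [hn] at hqd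
        exact (Nat.prime_dvd_prime_iff_eq hq hp.out).mp (hq.dvd_of_dvd_pow hqd)
      rw [hqp] at hq2
      intro a ha
      have h2 := hq2 ⟨a, Subgroup.le_normalizer ha⟩ (Subgroup.mem_subgroupOf.mpr ha)
      exact congrArg Subtype.val h2
    · rw [← card_HH]
      exact he
  · right
    refine (coherent_or_pgroup hH1 hH2 hC he (indFun NN) hiso hvan).resolve_right ?_
    rintro ⟨q, -, -, hnc, -⟩
    apply hnc
    refine ⟨⟨?_⟩⟩
    intro a b
    have h1 := hna.is_comm.comm ⟨((a : HH) : NN), Subgroup.mem_subgroupOf.mp a.2⟩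
      ⟨((b : HH) : NN), Subgroup.mem_subgroupOf.mp b.2⟩
    have h2 : (((a : HH) : NN) : G) * (((b : HH) : NN) : G) = (((b : HH) : NN) : G) * (((a : HH) : NN) : G) :=
      congrArg (fun w : (P : Subgroup G) => (w : G)) h1
    apply Subtype.ext
    apply Subtype.ext
    exact h2

end Sylow

end Cfsg.Agent.Lib.SibTop9
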