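import Mathlib
import Cfsg.Agent.Lib.SibTop9

/-!
# Coherence for nilpotent trivial intersection Frobenius kernels
-/

set_option autoImplicit false
set_option linter.unusedSectionVars false
set_option linter.unusedVariables false
open Cfsg

namespace Cfsg.Agent.Lib.SibKernel9

open Cfsg.Agent.Lib.CharBasic Cfsg.Agent.Lib.GenChar Cfsg.Agent.Lib.CharInd
  Cfsg.Agent.Lib.CharKernel Cfsg.Agent.Lib.CoherenceBasic Cfsg.Agent.Lib.FrobIrr9
  Cfsg.Agent.Lib.FrobCohMain9 Cfsg.Agent.Lib.TIFrob9 Cfsg.Agent.Lib.Sibley9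
  Cfsg.Agent.Lib.SibMain9 Cfsg.Agent.Lib.SibSingle9 Cfsg.Agent.Lib.SibTop9
open scoped commutatorElement

/-- The commutator subgroup in two guises. -/
theorem subgroupOf_commutator_eq {X : Type*} [Group X] (A : Subgroup X) :
    (⁅A, A⁆.subgroupOf A) = commutator A := by
  apply Subgroup.map_injective A.subtype_injective
  have hle : ⁅A, A⁆ ≤ A := Subgroup.commutator_le.mpr (fun a ha b hb =>
    A.mul_mem (A.mul_mem (A.mul_mem ha hb) (A.inv_mem ha)) (A.inv_mem hb))
  rw [commutator_def, Subgroup.map_commutator, Subgroup.map_subgroupOf_eq_of_le hle]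
  have h1 : Subgroup.map A.subtype (⊤ : Subgroup A) = A := by
    rw [← MonoidHom.range_eq_map, Subgroup.range_subtype]
  rw [h1]

/-- The index of the commutator subgroup is invariant under isomorphism. -/
theorem index_commutator_equiv {X Y : Type*} [Group X] [Group Y] (e : X ≃* Y) :
    (commutator X).index = (commutator Y).index := by
  have h1 : (commutator X).map (e : X →* Y) = commutator Y := by
    rw [commutator_def, commutator_def, Subgroup.map_commutator,
      Subgroup.map_top_of_surjective _ e.surjective]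
  rw [← h1, Subgroup.index_map_equiv]

section Kernel

variable {G : Type*} [Group G] [Fintype G] {K : Subgroup G}

local notation "NK" => Subgroup.normalizer ((K : Subgroup G) : Set G)
local notation "HK" => Subgroup.subgroupOf (K : Subgroup G) (Subgroup.normalizer ((K : Subgroup G) : Set G))

theorem card_HK : Nat.card HK = Nat.card K :=
  Nat.card_congr (Subgroup.subgroupOfEquivOfLe Subgroup.le_normalizer).toEquiv

/-- A `p`-group Frobenius kernel with index prime to its order is a Sylow subgroup. -/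
theorem sylow_of_kernel {p : ℕ} [hp : Fact p.Prime] (hKp : IsPGroup p K) (hK1 : K ≠ ⊥)
    (hcop : (Nat.card K).Coprime (HK).index) : ∃ P : Sylow p G, (P : Subgroup G) = K := by
  classical
  obtain ⟨S, hS⟩ := hKp.exists_le_sylow
  refine ⟨S, ?_⟩
  by_contra hne
  have hlt : K < (S : Subgroup G) := lt_of_le_of_ne hS (Ne.symm hne)
  have hnil : Group.IsNilpotent (S : Subgroup G) := S.isPGroup'.isNilpotent
  have hcond := Group.normalizerCondition_of_isNilpotent (G := (S : Subgroup G))
  have hlt2 : K.subgroupOf (S : Subgroup G) < ⊤ := by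
    rw [lt_top_iff_ne_top]
    intro h
    apply hlt.not_ge
    intro x hx
    have : (⟨x, hx⟩ : (S : Subgroup G)) ∈ K.subgroupOf (S : Subgroup G) := by
      rw [h]
      trivial
    exact Subgroup.mem_subgroupOf.mp this
  obtain ⟨x, hx1, hx2⟩ := SetLike.exists_of_lt (hcond _ hlt2)
  have hxN : (x : G) ∈ NK := by
    rw [Subgroup.mem_normalizer_iff]
    intro h
    by_cases hh : h ∈ (S : Subgroup G)
    · have h1 := (Subgroup.mem_normalizer_iff.mp hx1) ⟨h, hh⟩
      rw [Subgroup.mem_subgroupOf, Subgroup.mem_subgroupOf] at h1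
      exact h1
    · constructor
      · intro h2
        exact absurd (hS h2) hh
      · intro h2
        exfalso
        apply hh
        have h3 := hS h2
        have h4 : h = (x : G)⁻¹ * ((x : G) * h * (x : G)⁻¹) * x := by group
        rw [h4]
        exact (S : Subgroup G).mul_mem ((S : Subgroup G).mul_mem ((S : Subgroup G).inv_mem x.2) h3) x.2
  -- the order of `x` is prime to the index
  have hpK : p ∣ Nat.card K := by
    have hnt : Nontrivial K := (Subgroup.nontrivial_iff_ne_bot K).mpr hK1
    obtain ⟨n, hn⟩ := IsPGroup.iff_card.mp hKp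
    have h1 : Nat.card K ≠ 1 := Finite.one_lt_card.ne'
    rw [hn] at h1 ⊢
    have h2 : n ≠ 0 := by
      rintro rfl
      simp at h1
    exact dvd_pow_self p h2
  have hpe : p.Coprime (HK).index := Nat.Coprime.coprime_dvd_left hpK hcop
  obtain ⟨k, hk⟩ := S.isPGroup' x
  have hHNn : (HK).Normal := Subgroup.normal_in_normalizer
  have hmem : (⟨x, hxN⟩ : NK) ∈ HK := by
    apply mem_of_coprime
    have h1 : orderOf (⟨x, hxN⟩ : NK) ∣ p ^ k := by
      apply orderOf_dvd_of_pow_eq_one
      apply Subtype.ext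
      have := congrArg Subtype.val hk
      simpa using this
    exact Nat.Coprime.coprime_dvd_left h1 (Nat.Coprime.pow_left k hpe)
  apply hx2
  exact Subgroup.mem_subgroupOf.mpr (Subgroup.mem_subgroupOf.mp hmem)

/-- The main dichotomy. -/
theorem kernel_main (hK1 : K ≠ ⊥) (hTI : IsTISubset (K : Set G)) (hlt : K < NK)
    (hC₀ : ∀ k ∈ K, k ≠ 1 → Subgroup.centralizer ({k} : Set G) ≤ K) [Fintype NK] :
    Nat.card K = (HK).index + 1 ∨ IsCoherent (SS (HK)) {1}ᶜ (indFun NK) ∨
      (Nat.card K = 2 ^ (Nat.card G).factorization 2 ∧ ¬ IsMulCommutative K ∧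
        (⁅K, K⁆.subgroupOf K).index < 4 * (HK).index ^ 2) := by
  classical
  have hHN : (HK).Normal := Subgroup.normal_in_normalizer
  have hC : ∀ h ∈ HK, h ≠ 1 → Subgroup.centralizer ({h} : Set NK) ≤ HK := frob_sub hC₀
  have hcop : (Nat.card K).Coprime (HK).index := by
    obtain ⟨k, hk⟩ := index_sub_modEq hC (⊥ : Subgroup HK)
    rw [Subgroup.index_bot, card_HK] at hk
    rw [hk]
    simp
  have hfus : Fus (HK) := fus_of_TI hTI rfl hcop
  have hiso : IsLinearIsometryOn (zspanOn (SS (HK)) {1}ᶜ) (indFun NK) := iso_ind hfus hC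
  have hvan : ∀ α ∈ zspanOn (SS (HK)) {1}ᶜ, indFun NK α 1 = 0 := fun α hα => ind_vanish _ α hα
  have hH1 : HK ≠ ⊥ := by
    intro h
    apply hK1
    rw [eq_bot_iff]
    intro x hx
    have h2 : (⟨x, Subgroup.le_normalizer hx⟩ : NK) ∈ HK := Subgroup.mem_subgroupOf.mpr hx
    rw [h, Subgroup.mem_bot] at h2
    rw [Subgroup.mem_bot]
    exact congrArg Subtype.val h2
  have hH2 : HK ≠ ⊤ := by
    intro h
    apply hlt.not_ge
    intro x hx
    have h2 : (⟨x, hx⟩ : NK) ∈ HK := by rw [h]; trivial
    exact Subgroup.mem_subgroupOf.mp h2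
  by_cases he : Nat.card K = (HK).index + 1
  · exact Or.inl he
  right
  have he' : Nat.card HK ≠ (HK).index + 1 := by
    rw [card_HK]
    exact he
  rcases coherent_or_pgroup hH1 hH2 hC he' (indFun NK) hiso hvan with h | ⟨p, hp, ⟨m, hm⟩, hnc, hI⟩
  · exact Or.inl h
  have : Fact p.Prime := ⟨hp⟩
  have hKp : IsPGroup p K := IsPGroup.iff_card.mpr ⟨m, by rw [← card_HK]; exact hm⟩
  have hna : ¬ IsMulCommutative K := by
    intro hcomm
    apply hnc
    refine ⟨⟨?_⟩⟩
    intro a b
    have h1 := hcomm.is_comm.comm ⟨((a : HK) : NK), Subgroup.mem_subgroupOf.mp a.2⟩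
      ⟨((b : HK) : NK), Subgroup.mem_subgroupOf.mp b.2⟩
    have h2 : (((a : HK) : NK) : G) * (((b : HK) : NK) : G) = (((b : HK) : NK) : G) * (((a : HK) : NK) : G) :=
      congrArg (fun w : K => (w : G)) h1
    apply Subtype.ext
    apply Subtype.ext
    exact h2
  obtain ⟨P, hP⟩ := sylow_of_kernel hKp hK1 hcop
  by_cases hp2 : p = 2
  · right
    subst hp2
    refine ⟨?_, hna, ?_⟩
    · rw [← hP]
      exact P.card_eq_multiplicity
    · -- the index
      have hI0 : (⁅K, K⁆.subgroupOf K).index = (commutator (HK)).index := by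
        rw [subgroupOf_commutator_eq]
        exact (index_commutator_equiv (Subgroup.subgroupOfEquivOfLe Subgroup.le_normalizer)).symm
      have hI1 : (⁅HK, HK⁆.subgroupOf HK).index = (commutator (HK)).index := by
        rw [subgroupOf_commutator_eq]
      rw [hI1] at hI
      rw [hI0]
      set I := (commutator (HK)).index with hIdef
      set e := (HK).index with he2
      obtain ⟨k, hk⟩ := index_sub_modEq hC (commutator (HK))
      rw [← hIdef, ← he2] at hk
      have hnil : Group.IsNilpotent HK := nilpotent_kernel hC hH2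
      have hne1 : I ≠ 1 := by
        intro h
        have h1 := Subgroup.index_eq_one.mp h
        have hntr : (⊥ : Subgroup HK) ≠ ⊤ := by
          have : Nontrivial HK := (Subgroup.nontrivial_iff_ne_bot _).mpr hH1
          exact bot_ne_top
        have h2 := commutator_sup_ne_top hnil (⊥ : Subgroup HK) hntr
        apply h2
        rw [sup_bot_eq]
        exact h1
      have hevenI : Even I := by
        have h1 : I ∣ 2 ^ m := by
          rw [← hm, hIdef]
          exact Subgroup.index_dvd_card _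
        obtain ⟨j, -, hj⟩ := (Nat.dvd_prime_pow Nat.prime_two).mp h1
        rw [hj]
        have hj0 : j ≠ 0 := by
          rintro rfl
          simp at hj
          exact hne1 hj
        exact (Nat.even_pow.mpr ⟨even_two, hj0⟩)
      have hodde : Odd e := by
        rw [← Nat.not_even_iff_odd, even_iff_two_dvd]
        intro h2
        apply hnc
        refine ⟨⟨?_⟩⟩
        intro u v
        exact Subtype.ext (comm_of_even hC h2 u u.2 v v.2)
      have he1 : e ≠ 1 := by
        intro h
        exact hH2 (Subgroup.index_eq_one.mp h)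
      have hepos : 0 < e := hodde.pos
      have hne2 : I ≠ 4 * e ^ 2 + 1 := by
        intro h
        rw [h] at hevenI
        obtain ⟨t, ht⟩ := hevenI
        omega
      have hne3 : I ≠ 4 * e ^ 2 := by
        intro h
        have h1 : e ∣ 1 := by
          have h2 : e ∣ e * k + 1 := by
            rw [← hk, h]
            exact Dvd.intro (4 * e) (by ring)
          exact (Nat.dvd_add_right (Dvd.intro _ rfl)).mp h2
        exact he1 (Nat.dvd_one.mp h1)
      omega
  · left
    subst hP
    exact sibley_nonabelian P hp2 hna hTI hC₀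

/-- The single character case. -/
theorem kernel_single (hK1 : K ≠ ⊥)
    (hC₀ : ∀ k ∈ K, k ≠ 1 → Subgroup.centralizer ({k} : Set G) ≤ K) [Fintype NK]
    (he : Nat.card K = (HK).index + 1) :
    Nat.card {χ : NK → ℂ // χ ∈ SS (HK)} = 1 ∧ ∃ p : ℕ, p.Prime ∧ IsElementaryAbelian p K := by
  classical
  have hHN : (HK).Normal := Subgroup.normal_in_normalizer
  have hC : ∀ h ∈ HK, h ≠ 1 → Subgroup.centralizer ({h} : Set NK) ≤ HK := frob_sub hC₀
  have hH1 : HK ≠ ⊥ := by
    intro h
    apply hK1
    rw [eq_bot_iff]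
    intro x hx
    have h2 : (⟨x, Subgroup.le_normalizer hx⟩ : NK) ∈ HK := Subgroup.mem_subgroupOf.mpr hx
    rw [h, Subgroup.mem_bot] at h2
    rw [Subgroup.mem_bot]
    exact congrArg Subtype.val h2
  have he' : Nat.card HK = (HK).index + 1 := by
    rw [card_HK]
    exact he
  refine ⟨single_card hC he', ?_⟩
  obtain ⟨hcomm, q, hq, -, hq2⟩ := single_props hC hH1 he'
  refine ⟨q, hq, ⟨⟨?_⟩⟩, ?_⟩
  · intro a b
    have h1 := hcomm ⟨a, Subgroup.le_normalizer a.2⟩ (Subgroup.mem_subgroupOf.mpr a.2)
      ⟨b, Subgroup.le_normalizer b.2⟩ (Subgroup.mem_subgroupOf.mpr b.2)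
    apply Subtype.ext
    exact congrArg (fun w : NK => (w : G)) h1
  · intro a ha
    have h2 := hq2 ⟨a, Subgroup.le_normalizer ha⟩ (Subgroup.mem_subgroupOf.mpr ha)
    exact congrArg (fun w : NK => (w : G)) h2

/-- The odd case. -/
theorem kernel_odd (hK1 : K ≠ ⊥) (hTI : IsTISubset (K : Set G)) (hlt : K < NK)
    (hC₀ : ∀ k ∈ K, k ≠ 1 → Subgroup.centralizer ({k} : Set G) ≤ K) [Fintype NK]
    (hodd : Odd (Nat.card NK)) : IsCoherent (SS (HK)) {1}ᶜ (indFun NK) := by
  classical
  have h1 := hodd
  rw [← Subgroup.card_mul_index (HK), card_HK] at h1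
  obtain ⟨h2, h3⟩ := Nat.odd_mul.mp h1
  rcases kernel_main hK1 hTI hlt hC₀ with he | h | ⟨h4, h5, -⟩
  · exfalso
    rw [he] at h2
    obtain ⟨a, ha⟩ := h2
    obtain ⟨b, hb⟩ := h3
    omega
  · exact h
  · exfalso
    apply h5
    rw [h4] at h2
    have h6 : (Nat.card G).factorization 2 = 0 := by
      by_contra hne
      exact (Nat.not_even_iff_odd.mpr h2) ((Nat.even_pow.mpr ⟨even_two, hne⟩))
    rw [h6, pow_zero] at h4
    have h7 : Subsingleton K := (Nat.card_eq_one_iff_unique.mp h4).1
    refine ⟨⟨fun a b => Subsingleton.elim _ _⟩⟩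

end Kernel

end Cfsg.Agent.Lib.SibKernel9
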