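import Mathlib
import Cfsg.Agent.Lib.BGTy6
import Cfsg.Agent.Lib.DadeCount
import Cfsg.Agent.Lib.FrobIrr9
import Cfsg.Agent.Lib.RealChars
import Cfsg.Agent.Lib.InducedIrr
import Cfsg.Agent.Lib.FpfGeneral
import Cfsg.Agent.S1501
import Cfsg.Agent.S1514
import Cfsg.Agent.S1521
import Cfsg.Agent.S1524

/-!
# Coherence for a Frobenius maximal subgroup of Type I.
-/

set_option autoImplicit false
set_option linter.unusedSectionVars false
set_option linter.unusedVariables false
set_option linter.style.haveILetI false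
set_option linter.unusedSimpArgs false

namespace Cfsg.Agent.Lib.BGTy8

open Cfsg Subgroup Cfsg.Agent.Lib.CharBasic Cfsg.Agent.Lib.GenChar Cfsg.Agent.Lib.CharInd
  Cfsg.Agent.Lib.CoherenceBasic Cfsg.Agent.Lib.InducedIrr Cfsg.Agent.Lib.DadeCount
open scoped commutatorElement

section Abs

variable {L : Type*} [Group L] [Fintype L] {K : Subgroup L} [hKn : K.Normal]

theorem ind_vanish (θ : K → ℂ) {g : L} (hg : g ∉ K) : indFun K θ g = 0 := by
  apply indFun_eq_zero_of_not_conj
  intro x hx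
  apply hg
  have := hKn.conj_mem _ hx x
  have h2 : x * (x⁻¹ * g * x) * x⁻¹ = g := by group
  rwa [h2] at this

theorem zspan_vanish {α : L → ℂ} (hα : α ∈ zspan (inducedIrrAbove K ⊥)) {g : L} (hg : g ∉ K) :
    α g = 0 := by
  unfold zspan at hα
  induction hα using Submodule.span_induction with
  | mem x hx =>
    obtain ⟨θ, -, -, -, rfl⟩ := hx
    exact ind_vanish θ hg
  | zero => rfl
  | add x y _ _ hx hy => simp [hx, hy]
  | smul a x _ hx => simp [hx]

theorem zspan_gen {α : L → ℂ} (hα : α ∈ zspan (inducedIrrAbove K ⊥)) :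
    IsGeneralizedCharacter L α := by
  unfold zspan at hα
  induction hα using Submodule.span_induction with
  | mem x hx =>
    obtain ⟨θ, hθ, -, -, rfl⟩ := hx
    exact isGen_of_isChar (indFun_isCharacter K (Cfsg.Agent.Lib.CharBasic.IsIrrCharacter.isCharacter hθ))
  | zero => exact isGen_zero
  | add x y _ _ hx hy => exact isGen_add hx hy
  | smul a x _ hx => exact isGen_zsmul hx a

/-- The commutator map of an element outside a Frobenius kernel is bijective on the kernel, hence
such an element has no fixed point on the abelianisation. -/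
theorem mem_commutator_of_not_mem (hC : ∀ h ∈ K, h ≠ 1 → Subgroup.centralizer ({h} : Set L) ≤ K)
    {x k : L} (hx : x ∉ K) (hk : k ∈ K) (h : x * k * x⁻¹ * k⁻¹ ∈ ⁅K, K⁆) : k ∈ ⁅K, K⁆ := by
  classical
  -- the map on `K`
  let f : K → K := fun u => ⟨x * u * x⁻¹ * (u : L)⁻¹, K.mul_mem (hKn.conj_mem _ u.2 x) (K.inv_mem u.2)⟩
  have hinj : Function.Injective f := by
    intro u v huv
    have h1 : x * (u : L) * x⁻¹ * (u : L)⁻¹ = x * v * x⁻¹ * (v : L)⁻¹ := congrArg Subtype.val huv
    have h2 : x⁻¹ * ((v : L)⁻¹ * u) = ((v : L)⁻¹ * u) * x⁻¹ := by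
      have h3 : (u : L) * x⁻¹ * (u : L)⁻¹ = v * x⁻¹ * (v : L)⁻¹ := by
        have : x⁻¹ * (x * (u : L) * x⁻¹ * (u : L)⁻¹) = x⁻¹ * (x * v * x⁻¹ * (v : L)⁻¹) := by rw [h1]
        simpa [mul_assoc] using this
      have h4 : (v : L)⁻¹ * ((u : L) * x⁻¹ * (u : L)⁻¹) * u = (v : L)⁻¹ * (v * x⁻¹ * (v : L)⁻¹) * u := by
        rw [h3]
      simpa [mul_assoc] using h4.symm
    by_contra hne
    have hne' : (v : L)⁻¹ * u ≠ 1 := by
      intro h5
      apply hne
      apply Subtype.ext
      have : (u : L) = v := by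
        have := congrArg (fun t => (v : L) * t) h5
        simpa using this
      exact this
    have hmem : (v : L)⁻¹ * u ∈ K := K.mul_mem (K.inv_mem v.2) u.2
    have hx' : x⁻¹ ∈ Subgroup.centralizer ({(v : L)⁻¹ * u} : Set L) := by
      rw [Subgroup.mem_centralizer_singleton_iff]
      rw [mul_assoc] at h2 ⊢
      exact h2.symm ▸ rfl
    exact hx (by simpa using K.inv_mem (hC _ hmem hne' hx'))
  have hbij : Function.Bijective f := Finite.injective_iff_bijective.mp hinj
  -- the preimage of the commutator subgroup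
  have hKd : ⁅K, K⁆ ≤ K := Subgroup.commutator_le_left K K
  have hKdn : (⁅K, K⁆).Normal := Subgroup.commutator_normal K K
  let D : Set K := {u | (u : L) ∈ ⁅K, K⁆}
  have hfD : ∀ u : K, u ∈ D → f u ∈ D := by
    intro u hu
    exact (⁅K, K⁆).mul_mem (hKdn.conj_mem _ hu x) ((⁅K, K⁆).inv_mem hu)
  let fD : D → D := fun u => ⟨f u, hfD u u.2⟩
  have hfDi : Function.Injective fD := by
    intro u v huv
    exact Subtype.ext (hinj (congrArg Subtype.val huv))
  obtain ⟨u, huk⟩ := (Finite.injective_iff_surjective.mp hfDi) ⟨f ⟨k, hk⟩, h⟩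
  have h6 : f u = f ⟨k, hk⟩ := congrArg Subtype.val huk
  have h7 := hinj h6
  have h8 : (u : K) ∈ D := u.2
  rw [h7] at h8
  exact h8

theorem iso_of_dade {G : Type*} [Group G] [Fintype G] {A : Set G} {M : Subgroup G} [Fintype M] {H : G → Subgroup G}
    (hD : DadeHypothesis A M H) {S : Set (M → ℂ)}
    (hgen : ∀ α ∈ zspanOn S {1}ᶜ, IsGeneralizedCharacter M α)
    (hA : ∀ α ∈ zspanOn S {1}ᶜ, ∀ x : M, (x : G) ∉ A → α x = 0) :
    IsLinearIsometryOn (zspanOn S {1}ᶜ) (dadeIsometry A M H) := by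
  classical
  refine ⟨?_, ?_, ?_, ?_⟩
  · intro α _ β _
    funext g
    simp only [dadeIsometry, Pi.add_apply]
    split_ifs <;> simp
  · intro α _ n
    funext g
    simp only [dadeIsometry, Pi.smul_apply]
    split_ifs <;> simp
  · intro α hα β hβ
    exact classInner_dade_dade hD (isGen_isClassFunction (hgen α hα)) (hA α hα)
      (isGen_isClassFunction (hgen β hβ))
  · intro α hα
    exact Cfsg.Agent.S1501.result A M H hD α (hgen α hα) (hA α hα)

theorem dade_one {G : Type*} [Group G] [Fintype G] {A : Set G} {M : Subgroup G} [Fintype M] {H : G → Subgroup G}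
    (hD : DadeHypothesis A M H) (α : M → ℂ) : dadeIsometry A M H α 1 = 0 := by
  apply dade_eq_zero
  rintro ⟨a, ha, x, u, hu, h⟩
  have h1 : (a : G) * u = 1 := by
    rw [← h]; group
  have h2 : u = (a : G)⁻¹ := by
    exact eq_inv_of_mul_eq_one_right h1
  have ha1 : (a : G) ∈ H a := by
    have := (H a).inv_mem hu
    rwa [h2, inv_inv] at this
  have : (a : G) = 1 := inf_L_eq_one hD ha ha1 a.2
  exact hD.one_not_mem (this ▸ ha)

/-- When every `H a` is trivial the Dade map is ordinary induction. -/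
theorem dade_eq_ind {G : Type*} [Group G] [Fintype G] {A : Set G} {M : Subgroup G} [Fintype M] {H : G → Subgroup G}
    (hD : DadeHypothesis A M H) (hH : ∀ a ∈ A, H a = ⊥) {α : M → ℂ} (hα : IsClassFunction M α)
    (hαA : ∀ x : M, (x : G) ∉ A → α x = 0) : dadeIsometry A M H α = indFun M α := by
  classical
  funext g
  have h1 := sum_pairs hD hα g
  have hcard : (Nat.card M : ℂ) ≠ 0 := natCard_subgroup_ne_zero M
  rw [indFun_apply]
  have h2 : ∑ p : G × M, (if (p.2 : G) ∈ A ∧ (p.2 : G)⁻¹ * (p.1 * g * p.1⁻¹) ∈ H p.2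
      then α p.2 / (Nat.card (H p.2) : ℂ) else 0) = ∑ x : G, extendByZero M α (x⁻¹ * g * x) := by
    rw [Fintype.sum_prod_type]
    rw [← Equiv.sum_comp (Equiv.inv G)]
    apply Finset.sum_congr rfl
    intro x _
    simp only [Equiv.inv_apply, inv_inv]
    by_cases hxM : x⁻¹ * g * x ∈ M
    · rw [Finset.sum_eq_single (⟨x⁻¹ * g * x, hxM⟩ : M)]
      · by_cases hA' : x⁻¹ * g * x ∈ A
        · rw [if_pos]
          · rw [hH _ hA', extendByZero_of_mem M α hxM]
            simp
          · refine ⟨hA', ?_⟩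
            simp only [inv_mul_cancel]
            exact one_mem _
        · rw [if_neg (fun h => hA' h.1), extendByZero_of_mem M α hxM, hαA ⟨_, hxM⟩ hA']
      · intro b _ hb
        rw [if_neg]
        rintro ⟨hbA, hb2⟩
        rw [hH _ hbA, Subgroup.mem_bot] at hb2
        apply hb
        apply Subtype.ext
        exact inv_mul_eq_one.mp hb2
      · intro h; exact absurd (Finset.mem_univ _) h
    · rw [extendByZero_of_not_mem M α hxM]
      apply Finset.sum_eq_zero
      intro b _
      rw [if_neg]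
      rintro ⟨hbA, hb2⟩
      rw [hH _ hbA, Subgroup.mem_bot] at hb2
      apply hxM
      rw [← inv_mul_eq_one.mp hb2]
      exact b.2
  rw [h2] at h1
  rw [h1]
  field_simp

/-- The abstract coherence statement for a Frobenius kernel. -/
theorem coh_abs {G : Type*} [Group G] [Fintype G] (hodd : Odd (Nat.card L)) (hnil : Group.IsNilpotent K)
    (hK1 : K ≠ ⊥) (hK2 : K ≠ ⊤) (hC : ∀ h ∈ K, h ≠ 1 → Subgroup.centralizer ({h} : Set L) ≤ K)
    (τ : (L → ℂ) → (G → ℂ)) (hτ : IsLinearIsometryOn (zspanOn (inducedIrrAbove K ⊥) {1}ᶜ) τ)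
    (hτ1 : ∀ α ∈ zspanOn (inducedIrrAbove K ⊥) {1}ᶜ, τ α 1 = 0)
    (hgood : ⁅K, K⁆ ≤ ⊥ ∨ (¬ ∃ p m : ℕ, p.Prime ∧ Nat.card K = p ^ m) ∨
      ∃ p m : ℕ, p.Prime ∧ Nat.card K = p ^ m ∧ K.index ∣ p - 1) :
    IsCoherent (inducedIrrAbove K ⊥) {1}ᶜ τ := by
  classical
  have hsolv : Group.IsSolvable K := by infer_instance
  -- members of the set
  have hirr : ∀ χ ∈ inducedIrrAbove K ⊥, IsIrrCharacter L χ := by
    rintro χ ⟨θ, hθ, hne, -, rfl⟩
    exact Cfsg.Agent.Lib.FrobIrr9.ind_irr hC hθ hne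
  have hne : (⊥ : Subgroup K) ≠ ⊤ := by
    intro h
    apply hK1
    rw [eq_bot_iff]
    intro x hx
    have : (⟨x, hx⟩ : K) ∈ (⊥ : Subgroup K) := by rw [h]; trivial
    have h2 : (⟨x, hx⟩ : K) = 1 := Subgroup.mem_bot.mp this
    exact Subgroup.mem_bot.mpr (congrArg Subtype.val h2)
  have hSne : (inducedIrrAbove K ⊥).Nonempty := by
    obtain ⟨ℓ, hℓ, hℓ1, -, -⟩ := exists_linear_above hsolv (⊥ : Subgroup K) hne
    refine ⟨indFun K ℓ, ℓ, hℓ, hℓ1, ?_, rfl⟩
    intro a ha
    have : (a : L) = 1 := Subgroup.mem_bot.mp ha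
    have h2 : a = 1 := Subtype.ext this
    rw [h2]
  have hconj : ∀ χ ∈ inducedIrrAbove K ⊥, conjFun χ ∈ inducedIrrAbove K ⊥ ∧ conjFun χ ≠ χ := by
    intro χ hχ
    refine ⟨inducedIrrAbove_conj K ⊥ hχ, ?_⟩
    intro hreal
    have h1 : χ = fun _ => 1 := by
      refine Cfsg.Agent.Lib.RealChars.eq_one_of_real hodd ⟨χ, hirr χ hχ⟩ ?_
      intro g
      have := congrFun hreal g
      simp only [conjFun] at this
      exact Complex.conj_eq_iff_im.mp this
    obtain ⟨θ, hθ, hne', -, rfl⟩ := hχ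
    obtain ⟨h, hh, h2⟩ := (Cfsg.Agent.Lib.FrobIrr9.mem_SS.mp
      (Cfsg.Agent.Lib.FrobIrr9.ind_mem hC hθ hne')).2
    apply h2
    rw [h1]
  obtain ⟨R, hR⟩ := Cfsg.Agent.S1514.result _ hSne hirr hconj τ hτ hτ1
  have hKd : ⁅K, K⁆ < K := by
    have hs : Group.IsSolvable L ∨ True := Or.inr trivial
    have hne2 : Nontrivial K := by
      rw [Subgroup.nontrivial_iff_ne_bot]
      exact hK1
    have h1 := Group.IsSolvable.commutator_lt_top_of_nontrivial K
    have hle : ⁅K, K⁆ ≤ K := Subgroup.commutator_le_left K K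
    refine lt_of_le_of_ne hle ?_
    intro h2
    apply (lt_top_iff_ne_top.mp h1)
    rw [eq_top_iff]
    intro x _
    have hx : (x : L) ∈ ⁅K, K⁆ := by rw [h2]; exact x.2
    have hmap : (commutator K).map K.subtype = ⁅K, K⁆ := by
      rw [commutator_def, Subgroup.map_commutator]
      have : Subgroup.map K.subtype (⊤ : Subgroup K) = K := by
        rw [← MonoidHom.range_eq_map, Subgroup.range_subtype]
      rw [this]
    rw [← hmap] at hx
    obtain ⟨y, hy, hyx⟩ := hx
    have : y = x := Subtype.ext hyx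
    rw [← this]; exact hy
  have hrel : (⊥ : Subgroup L).relIndex K = Nat.card K := by
    rw [Subgroup.relIndex, Subgroup.bot_subgroupOf, Subgroup.index_bot]
  refine Cfsg.Agent.S1521.result K hsolv τ R hR hodd ⊥ bot_le ?_ (⁅K, K⁆ ⊔ ⊥) rfl ?_
    (lt_top_iff_ne_top.mpr hK2) ?_ ?_
  · infer_instance
  · rwa [sup_bot_eq]
  · intro k hk hkn x hx
    rw [sup_bot_eq] at hkn hx
    by_contra hxK
    exact hkn (mem_commutator_of_not_mem hC hxK hk hx)
  · rcases hgood with h | h | ⟨p, m, hp, hm, he⟩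
    · exact Or.inr (Or.inr (Or.inr (Or.inl h)))
    · refine Or.inr (Or.inr (Or.inl ?_))
      rwa [hrel]
    · refine Or.inr (Or.inr (Or.inr (Or.inr ⟨p, m, hp, ?_, he⟩)))
      rw [hrel, hm]

end Abs

section Main

variable {G : Type*} [Group G] [Fintype G]

open Cfsg.Agent.Lib.OddOrderCore

/-- The order of a Frobenius complement divides `p - 1` as soon as its exponent does. -/
theorem index_dvd (M : Subgroup G) {K : Subgroup M} [hKn : K.Normal] (hodd : Odd (Nat.card M)) (hK1 : K ≠ ⊥)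
    (hC : ∀ h ∈ K, h ≠ 1 → Subgroup.centralizer ({h} : Set M) ≤ K)
    {U : Subgroup M} (hU : Subgroup.IsComplement' K U) {n : ℕ}
    (hexp : Monoid.exponent (M ⧸ K) ∣ n) : K.index ∣ n := by
  classical
  rw [show K.index = Nat.card U from (hU.symm.index_eq_card)]
  rw [Nat.dvd_iff_prime_pow_dvd_dvd]
  intro r k hr hk
  haveI : Fact r.Prime := ⟨hr⟩
  by_cases hk0 : k = 0
  · simp [hk0]
  obtain ⟨R⟩ : Nonempty (Sylow r U) := inferInstance
  have hkR : r ^ k ∣ Nat.card R := R.pow_dvd_card_of_pow_dvd_card hk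
  -- `R` as a subgroup of `M`
  set P : Subgroup M := (R : Subgroup U).map U.subtype with hP
  have hPU : P ≤ U := Subgroup.map_subtype_le _
  have hcard : Nat.card P = Nat.card R :=
    Subgroup.card_map_of_injective U.subtype_injective
  have hPp : IsPGroup r P := by
    have := R.isPGroup'
    exact this.map U.subtype |>.of_equiv (MulEquiv.refl _)
  have hr2 : r ≠ 2 := by
    rintro rfl
    have h1 : (2 : ℕ) ∣ Nat.card U := dvd_trans (dvd_pow_self 2 hk0) hk
    have h2 : Nat.card U ∣ Nat.card M := Subgroup.card_subgroup_dvd_card U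
    exact (Nat.not_even_iff_odd.mpr hodd) (even_iff_two_dvd.mpr (h1.trans h2))
  have hUK : ∀ a ∈ U, a ≠ 1 → a ∉ K := by
    intro a ha ha1 haK
    have := hU.disjoint
    exact ha1 (Subgroup.disjoint_def.mp this haK ha)
  have hNorm : P ≤ Subgroup.normalizer (K : Set M) := by
    intro a _
    rw [Subgroup.mem_normalizer_iff]
    intro y
    refine ⟨fun h => hKn.conj_mem y h a, fun h => ?_⟩
    have := hKn.conj_mem _ h a⁻¹
    simpa [mul_assoc] using this
  have hfpf : ∀ a ∈ P, a ≠ 1 → K ⊓ Subgroup.centralizer {a} = ⊥ := by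
    intro a ha ha1
    rw [eq_bot_iff]
    rintro y ⟨hy, hyc⟩
    by_contra hy1
    have hy1' : y ≠ 1 := fun h => hy1 (Subgroup.mem_bot.mpr h)
    apply hUK a (hPU ha) ha1
    apply hC y hy hy1'
    rw [Subgroup.mem_centralizer_singleton_iff]
    exact ((Subgroup.mem_centralizer_singleton_iff.mp hyc)).symm ▸ rfl
  have hcyc : IsCyclic P := by
    rcases Cfsg.Agent.Lib.FpfGeneral.isCyclic_or_quaternion_of_fpf P K hK1 hNorm hfpf hPp with h | h
    · exact h
    · exact absurd h.1 hr2
  obtain ⟨g, hg⟩ := hcyc.exists_generator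
  have hord : orderOf g = Nat.card P := orderOf_eq_card_of_forall_mem_zpowers hg
  have hgU : (g : M) ∈ U := hPU g.2
  have hpow : (g : M) ^ n = 1 := by
    by_contra hne
    apply hUK _ (U.pow_mem hgU n) hne
    have h1 : ((g : M) : M ⧸ K) ^ n = 1 :=
      by
        obtain ⟨c, hc⟩ := hexp
        rw [hc, pow_mul, Monoid.pow_exponent_eq_one, one_pow]
    exact (QuotientGroup.eq_one_iff _).mp (by simpa using h1)
  have hdvd : orderOf g ∣ n := by
    apply orderOf_dvd_of_pow_eq_one
    exact Subtype.ext (by simpa using hpow)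
  rw [hord, hcard] at hdvd
  exact hkR.trans hdvd

/-- The coherence statement for a Frobenius maximal subgroup of Type I. -/
theorem s1542_core (hG : IsMinSimpleOddOrder G) (L : Subgroup G) [Fintype L] (hL : IsCoatom L) (hI : IsOfTypeI L)
    (hfrob : ∀ x ∈ fittingHallOf L, x ≠ 1 → L ⊓ Subgroup.centralizer ({x} : Set G) ≤ fittingHallOf L)
    (hD : DadeHypothesis (typeA L) L (supportR L)) :
    (∀ χ ∈ inducedIrrAbove (fittingHall L) ⊥, IsIrrCharacter L χ) ∧
      IsCoherent (inducedIrrAbove (fittingHall L) ⊥) {1}ᶜ (dadeIsometry (typeA L) L (supportR L)) := by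
  classical
  obtain ⟨hFF, hcases⟩ := id hI
  obtain ⟨hsol, hodd, hK1, hK2, U, hU1, hU, -, -⟩ := hFF
  obtain ⟨hKn, hnil, hcop⟩ := fittingHall_mem L
  have hmemOf : ∀ k : L, (k : G) ∈ fittingHallOf L ↔ k ∈ fittingHall L := by
    intro k
    constructor
    · rintro ⟨y, hy, hyk⟩
      have : y = k := Subtype.ext hyk
      rwa [← this]
    · intro h
      exact ⟨k, h, rfl⟩
  have hKL : fittingHallOf L ≤ L := Subgroup.map_subtype_le _
  have hC : ∀ h ∈ fittingHall L, h ≠ 1 →
      Subgroup.centralizer ({h} : Set L) ≤ fittingHall L := by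
    intro h hh hh1 y hy
    rw [← hmemOf]
    refine hfrob h ((hmemOf h).2 hh) (fun h2 => hh1 (Subtype.ext h2)) ⟨y.2, ?_⟩
    exact Subgroup.mem_centralizer_singleton_iff.mpr
      (congrArg Subtype.val (Subgroup.mem_centralizer_singleton_iff.mp hy))
  have hirr : ∀ χ ∈ inducedIrrAbove (fittingHall L) ⊥, IsIrrCharacter L χ := by
    rintro χ ⟨θ, hθ, hne, -, rfl⟩
    exact Cfsg.Agent.Lib.FrobIrr9.ind_irr hC hθ hne
  refine ⟨hirr, ?_⟩
  -- the Dade map is a linear isometry
  have hA : ∀ α ∈ zspanOn (inducedIrrAbove (fittingHall L) ⊥) {1}ᶜ, ∀ x : L, (x : G) ∉ typeA L → α x = 0 := by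
    intro α hα x hx
    by_cases hx1 : x = 1
    · rw [hx1]; exact (mem_zspanOn_compl_one.mp hα).2
    · apply zspan_vanish hα.1
      intro hxK
      apply hx
      rw [typeA, if_pos hI]
      refine ⟨x.2, fun h => hx1 (Subtype.ext h), x, (hmemOf x).2 hxK, fun h => hx1 (Subtype.ext h), rfl⟩
  have hgen : ∀ α ∈ zspanOn (inducedIrrAbove (fittingHall L) ⊥) {1}ᶜ, IsGeneralizedCharacter L α :=
    fun α hα => zspan_gen hα.1
  have hiso := iso_of_dade hD hgen hA
  have hone : ∀ α ∈ zspanOn (inducedIrrAbove (fittingHall L) ⊥) {1}ᶜ,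
      dadeIsometry (typeA L) L (supportR L) α 1 = 0 := fun α _ => dade_one hD α
  have hnilL : Group.IsNilpotent (fittingHallOf L) := by
    have e : fittingHall L ≃* fittingHallOf L :=
      (fittingHall L).equivMapOfInjective L.subtype L.subtype_injective
    exact nilpotent_of_surjective e.toMonoidHom e.surjective
  rcases hcases with hTI | ⟨hab, -, -⟩ | ⟨hexp, -⟩
  · -- the trivial intersection case
    have hfw : ∀ m ∈ L, ∀ y ∈ fittingHallOf L, m * y * m⁻¹ ∈ fittingHallOf L := by
      rintro m hm y ⟨k, hk, rfl⟩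
      exact (hmemOf _).2 (hKn.conj_mem k hk ⟨m, hm⟩)
    have hN : normalizer (fittingHallOf L : Set G) = L := by
      obtain ⟨x, hxK, hx1⟩ := (fittingHall L).bot_or_exists_ne_one.resolve_left hK1
      refine Cfsg.Agent.Lib.BGTy1.normalizer_eq_of hG hL hKL ⟨x, (hmemOf x).2 hxK, fun h => hx1 (Subtype.ext h)⟩ ?_
      intro m hm
      rw [Subgroup.mem_normalizer_iff]
      intro y
      refine ⟨hfw m hm y, fun hy => ?_⟩
      simpa [mul_assoc] using hfw m⁻¹ (L.inv_mem hm) _ hy
    have hsub : (fittingHallOf L).subgroupOf L = fittingHall L := by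
      ext x
      rw [Subgroup.mem_subgroupOf]
      exact hmemOf x
    have hcoh := Cfsg.Agent.S1524.result (fittingHallOf L) L (U.map L.subtype) hodd hKL
      (Subgroup.map_subtype_le _) ?_ ?_ hnilL hfw ?_ ?_ ?_ hTI hN
    · rw [hsub] at hcoh
      obtain ⟨hne, τ₁, hiso₁, hag⟩ := hcoh
      refine ⟨hne, τ₁, hiso₁, fun α hα => (hag α hα).trans ?_⟩
      refine (dade_eq_ind hD ?_ (isGen_isClassFunction (hgen α hα)) (hA α hα)).symm
      intro a ha
      rw [typeA, if_pos hI] at ha
      obtain ⟨haL, ha1, x, hx, hx1, hax⟩ := ha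
      have haH : a ∈ fittingHallOf L := hfrob x hx hx1 ⟨haL, Subgroup.mem_centralizer_singleton_iff.mpr hax⟩
      have hCa : centralizer ({a} : Set G) ≤ L := by
        intro c hc
        by_contra hcL
        rw [← hN] at hcL
        apply ha1
        refine hTI c hcL a haH ?_
        have : c * a * c⁻¹ = a := by
          rw [Subgroup.mem_centralizer_singleton_iff.mp hc]; group
        rw [this]; exact haH
      unfold supportR
      rw [dif_neg]
      rintro ⟨h, -⟩
      exact h hCa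
    · intro h
      apply hK1
      rw [eq_bot_iff]
      intro x hx
      have : (x : G) ∈ fittingHallOf L := (hmemOf x).2 hx
      rw [h] at this
      exact Subgroup.mem_bot.mpr (Subtype.ext (Subgroup.mem_bot.mp this))
    · intro h
      apply hU1
      rw [eq_bot_iff]
      intro x hx
      have : (x : G) ∈ U.map L.subtype := ⟨x, hx, rfl⟩
      rw [h] at this
      exact Subgroup.mem_bot.mpr (Subtype.ext (Subgroup.mem_bot.mp this))
    · rw [eq_bot_iff]
      rintro x ⟨hx1, u, hu, rfl⟩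
      have huK := (hmemOf u).1 hx1
      have := Subgroup.disjoint_def.mp hU.disjoint huK hu
      rw [this]; exact one_mem _
    · have h1 : fittingHallOf L ⊔ U.map L.subtype = (fittingHall L ⊔ U).map L.subtype := by
        rw [Subgroup.map_sup]; rfl
      rw [h1, hU.sup_eq_top, ← MonoidHom.range_eq_map, Subgroup.range_subtype]
    · rintro w ⟨u, hu, rfl⟩ hw1 h hh hc
      have hhL := hKL hh
      by_contra hne
      have hk : (⟨h, hhL⟩ : L) ∈ fittingHall L := (hmemOf _).1 hh
      have hu1 : u ≠ 1 := fun h2 => hw1 (by rw [h2]; rfl)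
      have : u ∈ fittingHall L := by
        apply hC _ hk (fun h2 => hne (congrArg Subtype.val h2))
        rw [Subgroup.mem_centralizer_singleton_iff]
        exact Subtype.ext hc
      exact hu1 (Subgroup.disjoint_def.mp hU.disjoint this hu)
  · refine coh_abs hodd hnil hK1 hK2 hC _ hiso hone (Or.inl ?_)
    rw [Subgroup.commutator_le]
    intro a ha b hb
    have h1 : ((a : L) : G) ∈ fittingHallOf L := (hmemOf a).2 ha
    have h2 : ((b : L) : G) ∈ fittingHallOf L := (hmemOf b).2 hb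
    have h3 := (hab.is_comm).comm ⟨_, h1⟩ ⟨_, h2⟩
    have h5 : ((a : L) : G) * ((b : L) : G) = ((b : L) : G) * ((a : L) : G) := congrArg Subtype.val h3
    have h4 : a * b = b * a := Subtype.ext h5
    rw [Subgroup.mem_bot, commutatorElement_eq_one_iff_mul_comm]
    exact h4
  · by_cases hpp : ∃ p m : ℕ, p.Prime ∧ Nat.card (fittingHall L) = p ^ m
    · obtain ⟨p, m, hp, hm⟩ := hpp
      have hcard : Nat.card (fittingHallOf L) = Nat.card (fittingHall L) :=
        Subgroup.card_map_of_injective L.subtype_injective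
      have hm0 : m ≠ 0 := by
        rintro rfl
        rw [pow_zero] at hm
        apply hK1
        exact (Subgroup.card_eq_one).mp hm
      have hpd : p ∣ Nat.card (fittingHallOf L) := by
        rw [hcard, hm]; exact dvd_pow_self p hm0
      refine coh_abs hodd hnil hK1 hK2 hC _ hiso hone (Or.inr (Or.inr ⟨p, m, hp, hm, ?_⟩))
      exact index_dvd L hodd hK1 hC hU (hexp p hp hpd)
    · exact coh_abs hodd hnil hK1 hK2 hC _ hiso hone (Or.inr (Or.inl hpp))

end Main

end Cfsg.Agent.Lib.BGTy8
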