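import Mathlib
import Cfsg.Agent.Lib.BGZH
import Cfsg.Agent.Lib.BGU1

/-!
# Bender-Glauberman section 14: type II, III, IV maximal subgroups.
-/

set_option autoImplicit false
set_option linter.unusedSectionVars false
set_option linter.unusedVariables false
set_option linter.style.haveILetI false
set_option linter.unusedSimpArgs false

namespace Cfsg.Agent.Lib.BGZI

open Cfsg Subgroup Cfsg.Agent.Lib.CoprimeInv Cfsg.Agent.Lib.BGTrans Cfsg.Agent.Lib.BGM1
  Cfsg.Agent.Lib.BGSigma2 Cfsg.Agent.Lib.BGM2 Cfsg.Agent.Lib.BGZ1 Cfsg.Agent.Lib.OddOrderCore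
  Cfsg.Agent.Lib.BGSigma4 Cfsg.Agent.Lib.BGZ2 Cfsg.Agent.Lib.BGZ3 Cfsg.Agent.Lib.BGZ4
  Cfsg.Agent.Lib.BGZ5 Cfsg.Agent.Lib.BGZ6 Cfsg.Agent.Lib.BGZ7 Cfsg.Agent.Lib.BGZ8
  Cfsg.Agent.Lib.BGTau7 Cfsg.Agent.Lib.BGZC Cfsg.Agent.Lib.BGZD Cfsg.Agent.Lib.BGZE
  Cfsg.Agent.Lib.BGZ9 Cfsg.Agent.Lib.BGZB Cfsg.Agent.Lib.BGZH

open scoped commutatorElement

universe u

variable {G : Type u} [Group G] [Finite G]

/-! ### `fittingHall` -/

instance fittingHall_char (X : Type*) [Group X] [Finite X] : (fittingHall X).Characteristic := by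
  rw [Subgroup.characteristic_iff_map_le]
  intro φ
  obtain ⟨h1, h2, h3⟩ := fittingHall_mem X
  apply le_fittingHall
  · exact Subgroup.Normal.map h1 _ φ.surjective
  · exact Group.nilpotent_of_mulEquiv (φ.subgroupMap (fittingHall X))
  · have h4 : (((fittingHall X).map φ.toMonoidHom)).index = (fittingHall X).index :=
      Subgroup.index_map_equiv _ φ
    have h5 : Nat.card ((fittingHall X).map φ.toMonoidHom) = Nat.card (fittingHall X) :=
      Nat.card_congr (φ.subgroupMap (fittingHall X)).symm.toEquiv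
    rw [h4, h5]
    exact h3

theorem fittingHallOf_le (M : Subgroup G) : fittingHallOf M ≤ M := Subgroup.map_subtype_le _

theorem nil_fittingHallOf (M : Subgroup G) : Group.IsNilpotent (fittingHallOf M) :=
  haveI := (fittingHall_mem M).2.1
  Group.nilpotent_of_mulEquiv (Subgroup.equivMapOfInjective (fittingHall M) M.subtype M.subtype_injective)

theorem card_fittingHallOf (M : Subgroup G) : Nat.card (fittingHallOf M) = Nat.card (fittingHall M) :=
  Nat.card_congr (Subgroup.equivMapOfInjective _ _ M.subtype_injective).symm.toEquiv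

theorem relIndex_fittingHallOf (M : Subgroup G) : (fittingHallOf M).relIndex M = (fittingHall M).index := by
  unfold fittingHallOf Subgroup.relIndex
  rw [Subgroup.subgroupOf, Subgroup.comap_map_eq_self_of_injective M.subtype_injective]

theorem coprime_fittingHallOf (M : Subgroup G) :
    (Nat.card (fittingHallOf M)).Coprime ((fittingHallOf M).relIndex M) := by
  rw [card_fittingHallOf, relIndex_fittingHallOf]
  exact (fittingHall_mem M).2.2

theorem normal_fittingHallOf (M : Subgroup G) : M ≤ normalizer (fittingHallOf M : Set G) := by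
  have h : (fittingHall M).Normal := fittingHall_normal M
  intro m hm
  rw [mem_normalizer_iff]
  intro x
  constructor
  · rintro ⟨y, hy, rfl⟩
    refine ⟨⟨m, hm⟩ * y * ⟨m, hm⟩⁻¹, h.conj_mem y hy ⟨m, hm⟩, rfl⟩
  · rintro ⟨y, hy, hxy⟩
    refine ⟨⟨m, hm⟩⁻¹ * y * (⟨m, hm⟩⁻¹)⁻¹, h.conj_mem y hy _, ?_⟩
    have h2 : (y : G) = m * x * m⁻¹ := hxy
    simp only [Subgroup.coe_subtype, MulMemClass.coe_mul, InvMemClass.coe_inv, h2]
    group

/-- A normal nilpotent Hall subgroup lies in `M_F`. -/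
theorem le_fittingHallOf' {M A : Subgroup G} (hAM : A ≤ M) (hN : M ≤ normalizer (A : Set G))
    (hnil : Group.IsNilpotent A) (hc : (Nat.card A).Coprime (A.relIndex M)) : A ≤ fittingHallOf M := by
  have hA₁ : (A.subgroupOf M).Normal := (Subgroup.normal_subgroupOf_iff_le_normalizer hAM).mpr hN
  have hle := le_fittingHall hA₁
    (Group.nilpotent_of_mulEquiv (Subgroup.subgroupOfEquivOfLe hAM).symm)
    (by rw [card_subgroupOf_of_le hAM]; exact hc)
  intro x hx
  exact ⟨⟨x, hAM hx⟩, hle hx, rfl⟩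

/-! ### Complements of `M_F` in `M_σ` -/

/-- `K`-invariant nilpotent complement of `M_F` in `M_σ`. -/
theorem exists_V (I : Inp G) {M K U : Subgroup G} (hM : IsCoatom M)
    (hKU : IsSigmaDecomposition M K U) (hU : U = ⊥) (hK1 : K ≠ ⊥) :
    ∃ V : Subgroup G, Group.IsNilpotent V ∧ K ≤ normalizer (V : Set G) ∧
      IsComplIn (fittingHallOf M) V (sigmaCore M) := by
  classical
  have hG := I.hG
  have hs : Group.IsSolvable M := solvable_of_le_coatom hG hM le_rfl
  have hFσ : fittingHallOf M ≤ sigmaCore M := Cfsg.Agent.Lib.BGCent.fittingHallOf_le_sigmaCore hG hM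
  have hKM : K ≤ M := hKU.hall.1
  obtain ⟨B, hKB, hB⟩ := exists_hall_ge (π := {q | q.Prime ∧ ¬ q ∣ Nat.card (fittingHallOf M)}) hs hKM (by
    intro r hr hd
    refine ⟨hr, fun h2 => ?_⟩
    have h3 : r ∈ kappa M := hKU.hall.2.1 r hr hd
    exact Cfsg.Agent.Lib.BGCent.not_kappa_of_sigma
      (primes_sigmaCore r hr (h2.trans (Subgroup.card_dvd_of_le hFσ))) h3)
  have hBM := hB.1
  have hbot : fittingHallOf M ⊓ B = ⊥ := by
    apply (Subgroup.disjoint_of_coprime_natCard _).eq_bot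
    apply Nat.coprime_of_dvd
    intro k hk hk1 hk2
    exact (hB.2.1 k hk hk2).2 hk1
  have hFn := normal_fittingHallOf M
  have hsup : fittingHallOf M ⊔ B = M := by
    apply le_antisymm (sup_le (fittingHallOf_le M) hBM)
    have hi : (fittingHallOf M ⊔ B).relIndex M = 1 := by
      by_contra hne
      obtain ⟨k, hk, hkd⟩ := Nat.exists_prime_and_dvd hne
      have h1 : k ∣ (fittingHallOf M).relIndex M := hkd.trans (Subgroup.relIndex_dvd_of_le_left M le_sup_left)
      have h2 : k ∣ B.relIndex M := hkd.trans (Subgroup.relIndex_dvd_of_le_left M le_sup_right)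
      have h3 : k ∣ Nat.card (fittingHallOf M) := by
        by_contra h4
        exact hB.2.2 k hk ⟨hk, h4⟩ h2
      have h5 := Nat.dvd_gcd h3 h1
      rw [coprime_fittingHallOf M] at h5
      exact hk.one_lt.ne' (Nat.dvd_one.mp h5)
    exact Subgroup.relIndex_eq_one.mp hi
  have hmul : ∀ m ∈ M, ∃ a ∈ fittingHallOf M, ∃ b ∈ B, m = a * b := by
    intro m hm
    rw [← hsup, sup_comm] at hm
    obtain ⟨b, hb, a, ha, rfl⟩ := Cfsg.Agent.Lib.BGTau3.mul_of_mem_sup (hBM.trans hFn) hm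
    exact ⟨b * a * b⁻¹, (mem_normalizer_iff.mp (hFn (hBM hb)) a).mp ha, b, hb, by group⟩
  refine ⟨B ⊓ sigmaCore M, ?_, ?_, hFσ, inf_le_right, ?_, ?_⟩
  · -- nilpotent
    have h55 := Cfsg.Agent.Lib.H6F5.s1355_core hG hM hKU (Cfsg.Agent.Lib.H6F6.hprime_of I hM hKU)
      (Cfsg.Agent.Lib.H6F6.hqp_of I hM hKU)
    have hnil := h55.2.2.2.2
    have hD : sigmaCore M = ⁅M, M⁆ := by
      have := derived_eq I hM hKU hK1
      rw [this, hU, bot_sup_eq]
    set W : Subgroup G := B ⊓ sigmaCore M with hW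
    have hWM : W ≤ M := inf_le_left.trans hBM
    have hWD : ∀ w : W, (⟨w, hWM w.2⟩ : M) ∈ commutator M := by
      intro w
      have h1 : (w : G) ∈ ⁅M, M⁆ := by rw [← hD]; exact w.2.2
      have h2 : (commutator M).map M.subtype = ⁅M, M⁆ := by
        have h3 : (⊤ : Subgroup M).map M.subtype = M := by
          rw [← MonoidHom.range_eq_map, Subgroup.range_subtype]
        rw [commutator_def, Subgroup.map_commutator, h3]
      rw [← h2] at h1
      obtain ⟨x, hx, hxe⟩ := h1
      have : x = (⟨w, hWM w.2⟩ : M) := Subtype.ext hxe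
      rw [← this]; exact hx
    let f : W →* ↥((commutator M).map (QuotientGroup.mk' (fittingHall M))) :=
      ((QuotientGroup.mk' (fittingHall M)).comp (Subgroup.inclusion hWM)).codRestrict _ (by
        intro w
        exact ⟨_, hWD w, rfl⟩)
    have hf : Function.Injective f := by
      rw [injective_iff_map_eq_one]
      intro w hw
      have h3 : QuotientGroup.mk' (fittingHall M) (⟨w, hWM w.2⟩ : M) = 1 := congrArg Subtype.val hw
      rw [QuotientGroup.mk'_apply, QuotientGroup.eq_one_iff] at h3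
      have h4 : (w : G) ∈ fittingHallOf M ⊓ B := ⟨⟨_, h3, rfl⟩, w.2.1⟩
      rw [hbot] at h4
      exact Subtype.ext h4
    exact Cfsg.Agent.Lib.BGZH.nil_of_inj f hf
  · intro k hk
    rw [mem_normalizer_iff]
    intro w
    have hb := mem_normalizer_iff.mp (le_normalizer (hKB hk) : k ∈ normalizer (B : Set G)) w
    have hs2 := mem_normalizer_iff.mp (le_normalizer_sigmaCore (hKM hk)) w
    simp only [Subgroup.mem_inf, hb, hs2]
  · exact le_bot_iff.mp ((inf_le_inf_left _ inf_le_left).trans hbot.le)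
  · intro m hm
    obtain ⟨a, ha, b, hb, rfl⟩ := hmul m (sigmaCore_le hm)
    refine ⟨a, ha, b, ⟨hb, ?_⟩, rfl⟩
    have h1 : b = a⁻¹ * (a * b) := by group
    rw [h1]
    exact (sigmaCore M).mul_mem ((sigmaCore M).inv_mem (hFσ ha)) hm

/-! ### Types III and IV -/

theorem compl_sigma_U (I : Inp G) {M K U : Subgroup G} (hM : IsCoatom M)
    (hKU : IsSigmaDecomposition M K U) (hK1 : K ≠ ⊥) : IsComplIn (sigmaCore M) U ⁅M, M⁆ := by
  have hD := derived_eq I hM hKU hK1
  refine ⟨Cfsg.Agent.Lib.BGP3D.sigmaCore_le_derived I.hG hM, by rw [hD]; exact le_sup_left, ?_, ?_⟩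
  · apply le_bot_iff.mp
    rw [← hKU.compl.2.2.1, inf_comm]
    exact inf_le_inf_left _ le_sup_right
  · intro m hm
    rw [hD] at hm
    obtain ⟨u, hu, t, ht, rfl⟩ := Cfsg.Agent.Lib.BGTau3.mul_of_mem_sup
      (hKU.compl.1.trans le_normalizer_sigmaCore) hm
    exact ⟨u * t * u⁻¹, (mem_normalizer_iff.mp (le_normalizer_sigmaCore (hKU.compl.1 hu)) t).mp ht, u, hu, by group⟩

theorem fwd_III (I : Inp G) {M K U W₁ V W₂ : Subgroup G} (hM : IsCoatom M)
    (hKU : IsSigmaDecomposition M K U) (T : IsTypePWith M W₁ V W₂) (hV1 : V ≠ ⊥)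
    (hN : normalizer (V : Set G) ≤ M) : K ≠ ⊥ ∧ U = ⊥ ∧ fittingHallOf M ≠ sigmaCore M := by
  classical
  have hG := I.hG
  have hK1 : K ≠ ⊥ := K_ne_of_typeP I hM hKU T
  have hD := derived_eq I hM hKU hK1
  have hVc := T.U_compl
  by_cases hU : U = ⊥
  · refine ⟨hK1, hU, ?_⟩
    intro hF
    rw [hU, bot_sup_eq, ← hF] at hD
    rw [hD] at hVc
    apply hV1
    have h1 := hVc.2.2.1
    exact le_bot_iff.mp (by rw [← h1]; exact le_inf hVc.2.1 le_rfl)
  · exfalso
    have hF : fittingHallOf M = sigmaCore M := by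
      by_contra hne
      exact hU (Cfsg.Agent.Lib.H6F5.s1357_core hG hM hKU hne (Cfsg.Agent.Lib.H6F6.hprime_of I hM hKU)
        (Cfsg.Agent.Lib.H6F6.hqp_of I hM hKU)).1
    have h63 := Cfsg.Agent.Lib.BGZG.s1363 I M hM K U hKU hK1
    apply h63.2
    -- `V` and `U` are conjugate in `M`
    have hcV := card_mul_card_of_isComplIn hVc
    have hcU := card_mul_card_of_isComplIn (compl_sigma_U I hM hKU hK1)
    have hcard : Nat.card V = Nat.card U := by
      apply Nat.eq_of_mul_eq_mul_left (Nat.card_pos (α := sigmaCore M))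
      rw [hcU, ← hcV, hF]
    have hVM : V ≤ M := hVc.2.1.trans (derived_le M)
    have hs : Group.IsSolvable M := solvable_of_le_coatom hG hM le_rfl
    obtain ⟨g, hg, hle⟩ := Cfsg.Agent.Lib.BGCent.exists_conj_hall hs
      (Cfsg.Agent.Lib.BGU0.U_hall hG hM hKU) hVM (by
        intro q hq hd
        rw [hcard] at hd
        exact ⟨hq, Cfsg.Agent.Lib.BGCent.primes_U hG hM hKU hq hd⟩)
    have hVeq : V = cj U g := by
      apply Subgroup.eq_of_le_of_card_ge hle
      rw [card_cj, hcard]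
    intro x hx
    have h1 : g * x * g⁻¹ ∈ normalizer (V : Set G) := by
      rw [hVeq]
      have h2 := Subgroup.map_equiv_normalizer_eq U (MulAut.conj g)
      change _ = normalizer ((cj U g : Subgroup G) : Set G) at h2
      rw [← h2]
      exact ⟨x, hx, rfl⟩
    have h3 := hN h1
    have h4 : x = g⁻¹ * (g * x * g⁻¹) * g := by group
    rw [h4]
    exact mul_mem (mul_mem (inv_mem hg) h3) hg

/-- **S1382**. -/
theorem s1382 (I : Inp G) (M : Subgroup G) (hM : IsCoatom M) (K U : Subgroup G)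
    (hKU : IsSigmaDecomposition M K U) :
    (IsOfTypeIII M ∨ IsOfTypeIV M) ↔ (K ≠ ⊥ ∧ U = ⊥ ∧ fittingHallOf M ≠ sigmaCore M) := by
  classical
  have hG := I.hG
  constructor
  · rintro (⟨W₁, V, W₂, T, hV1, -, -, -, hN⟩ | ⟨W₁, V, W₂, T, hV1, -, -, -, hN⟩)
    · exact fwd_III I hM hKU T hV1 hN
    · exact fwd_III I hM hKU T hV1 hN
  · rintro ⟨hK1, hU, hne⟩
    obtain ⟨V, hVnil, hVn, hVc⟩ := exists_V I hM hKU hU hK1
    have hD : ⁅M, M⁆ = sigmaCore M := by
      rw [derived_eq I hM hKU hK1, hU, bot_sup_eq]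
    have T := typeP I hM hKU hK1 hVnil hVn (by rw [hD]; exact hVc)
    have hV1 : V ≠ ⊥ := by
      rintro rfl
      apply hne
      apply le_antisymm hVc.1
      intro m hm
      obtain ⟨a, ha, b, hb, rfl⟩ := hVc.2.2.2 m hm
      have hb1 : b = 1 := hb
      rw [hb1, mul_one]
      exact ha
    have hN := normalizer_le_of_compl hG hM hVnil hV1 hVc
    obtain ⟨-, hTI, hp⟩ := Cfsg.Agent.Lib.H6F5.s1357_core hG hM hKU hne
      (Cfsg.Agent.Lib.H6F6.hprime_of I hM hKU) (Cfsg.Agent.Lib.H6F6.hqp_of I hM hKU)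
    by_cases hab : IsMulCommutative V
    · exact Or.inl ⟨K, V, _, T, hV1, hp, hTI, hab, hN⟩
    · exact Or.inr ⟨K, V, _, T, hV1, hp, hTI, hab, hN⟩

/-! ### Type II -/

/-- The Frobenius-type structure of `M'`. -/
theorem typeF_derived (I : Inp G) {M K U : Subgroup G} (hM : IsCoatom M)
    (hKU : IsSigmaDecomposition M K U) (hK1 : K ≠ ⊥) (hU1 : U ≠ ⊥)
    (hU₀ : ∃ U₀ : Subgroup G, U₀ ≤ U ∧ Monoid.exponent U₀ = Monoid.exponent U ∧ ∀ u ∈ U₀, u ∈ sigmaHat M → u = 1) :
    IsOfTypeF ↥⁅M, M⁆ ∧ fittingHallOf ⁅M, M⁆ = fittingHallOf M := by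
  classical
  have hG := I.hG
  have hF : fittingHallOf M = sigmaCore M := by
    by_contra hne
    exact hU1 (Cfsg.Agent.Lib.H6F5.s1357_core hG hM hKU hne (Cfsg.Agent.Lib.H6F6.hprime_of I hM hKU)
      (Cfsg.Agent.Lib.H6F6.hqp_of I hM hKU)).1
  have hUab := (Cfsg.Agent.Lib.BGZG.s1363 I M hM K U hKU hK1).1
  have hc := compl_sigma_U I hM hKU hK1
  have h55 := Cfsg.Agent.Lib.H6F5.s1355_core hG hM hKU (Cfsg.Agent.Lib.H6F6.hprime_of I hM hKU)
      (Cfsg.Agent.Lib.H6F6.hqp_of I hM hKU)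
  set D : Subgroup G := ⁅M, M⁆ with hD
  have hDM : D ≤ M := derived_le M
  have hDn : M ≤ normalizer (D : Set G) := le_normalizer_self_commutator M
  have hUD : U ≤ D := hc.2.1
  have hσD : sigmaCore M ≤ D := hc.1
  -- the Fitting-Hall subgroups agree
  have hFD : fittingHallOf D = fittingHallOf M := by
    apply le_antisymm
    · apply le_fittingHallOf' ((fittingHallOf_le D).trans hDM)
      · exact hDn.trans (Cfsg.Agent.Lib.FitPair.normalizer_le_normalizer_map (fittingHall D))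
      · exact nil_fittingHallOf D
      · rw [← Subgroup.relIndex_mul_relIndex _ D M (fittingHallOf_le D) hDM]
        apply Nat.Coprime.mul_right (coprime_fittingHallOf D)
        have h1 : D.relIndex M = Nat.card K := by
          have h2 := card_mul_card_of_isComplIn (compl_derived I hM hKU hK1)
          have h3 : Nat.card D * D.relIndex M = Nat.card M := by
            have := Subgroup.card_mul_index (D.subgroupOf M)
            rwa [card_subgroupOf_of_le hDM] at this
          exact Nat.eq_of_mul_eq_mul_left (Nat.card_pos (α := D)) (h3.trans h2.symm)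
        rw [h1]
        apply Nat.coprime_of_dvd
        intro r hr h2 h3
        exact derived_not_kappa I hM hKU hK1 hr (h2.trans (Subgroup.card_dvd_of_le (fittingHallOf_le D)))
          (hKU.hall.2.1 r hr h3)
    · apply le_fittingHallOf' (by rw [hF]; exact hσD)
      · exact fun x hx => normal_fittingHallOf M (hDM hx)
      · exact nil_fittingHallOf M
      · have h1 := Subgroup.relIndex_mul_relIndex (fittingHallOf M) D M (by rw [hF]; exact hσD) hDM
        have h2 := coprime_fittingHallOf M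
        rw [← h1] at h2
        exact Nat.Coprime.coprime_dvd_right (Dvd.intro _ rfl) h2
  have hFH : fittingHall D = (fittingHallOf M).subgroupOf D := by
    rw [← hFD]
    unfold fittingHallOf
    rw [Subgroup.subgroupOf, Subgroup.comap_map_eq_self_of_injective D.subtype_injective]
  refine ⟨⟨solvable_of_le_coatom hG hM hDM, Odd.of_dvd_nat hG.1 (Subgroup.card_subgroup_dvd_card _), ?_, ?_, ?_⟩, hFD⟩
  · intro hb
    apply h55.1
    rw [← hFD]
    unfold fittingHallOf
    rw [hb, Subgroup.map_bot]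
  · intro ht
    have h1 : fittingHallOf D = D := by
      unfold fittingHallOf
      rw [ht, ← MonoidHom.range_eq_map, Subgroup.range_subtype]
    rw [hFD, hF] at h1
    apply hU1
    apply le_bot_iff.mp
    rw [← hc.2.2.1]
    exact le_inf (by rw [h1]; exact hUD) le_rfl
  · obtain ⟨U₀, hU₀U, hexp, hfree⟩ := hU₀
    refine ⟨U.subgroupOf D, ?_, ?_, ⟨U.subgroupOf D, le_rfl, le_normalizer, ?_, fun x hx hx1 => inf_le_left⟩,
      ⟨U₀.subgroupOf D, ?_, ?_, ?_⟩⟩
    · intro hb
      apply hU1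
      rw [Subgroup.subgroupOf_eq_bot] at hb
      exact le_bot_iff.mp (hb le_rfl hUD)
    · rw [hFH, hF]
      apply Subgroup.isComplement'_of_coprime
      · rw [card_subgroupOf_of_le hσD, card_subgroupOf_of_le hUD]
        exact card_mul_card_of_isComplIn hc
      · rw [card_subgroupOf_of_le hσD, card_subgroupOf_of_le hUD]
        apply Nat.coprime_of_dvd
        intro r hr h2 h3
        exact (Cfsg.Agent.Lib.BGCent.primes_U hG hM hKU hr h3).2 (primes_sigmaCore r hr h2)
    · refine ⟨⟨?_⟩⟩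
      rintro ⟨a, ha⟩ ⟨b, hb⟩
      apply Subtype.ext
      apply Subtype.ext
      show (a : G) * (b : G) = (b : G) * (a : G)
      exact congrArg Subtype.val (hUab.is_comm.comm (⟨a.1, ha⟩ : U) ⟨b.1, hb⟩)
    · intro x hx
      exact hU₀U hx
    · rw [Monoid.exponent_eq_of_mulEquiv (Subgroup.subgroupOfEquivOfLe (hU₀U.trans hUD)),
        Monoid.exponent_eq_of_mulEquiv (Subgroup.subgroupOfEquivOfLe hUD), hexp]
    · intro u hu hu1 x hx hux
      by_contra hx1
      have hx2 : (x : G) ∈ fittingHallOf D := ⟨x, hx, rfl⟩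
      rw [hFD, hF] at hx2
      apply hu1
      apply Subtype.ext
      apply hfree u hu
      refine ⟨hDM u.2, x, hx2, fun h => hx1 (Subtype.ext h), ?_⟩
      exact congrArg Subtype.val hux

/-- **S1381**, second direction. -/
theorem bwd_II (I : Inp G) {M K U : Subgroup G} (hM : IsCoatom M)
    (hKU : IsSigmaDecomposition M K U) (hK1 : K ≠ ⊥) (hU1 : U ≠ ⊥)
    (hU₀ : ∃ U₀ : Subgroup G, U₀ ≤ U ∧ Monoid.exponent U₀ = Monoid.exponent U ∧ ∀ u ∈ U₀, u ∈ sigmaHat M → u = 1) :
    IsOfTypeII M := by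
  classical
  have hG := I.hG
  have hF : fittingHallOf M = sigmaCore M := by
    by_contra hne
    exact hU1 (Cfsg.Agent.Lib.H6F5.s1357_core hG hM hKU hne (Cfsg.Agent.Lib.H6F6.hprime_of I hM hKU)
      (Cfsg.Agent.Lib.H6F6.hqp_of I hM hKU)).1
  have h63 := Cfsg.Agent.Lib.BGZG.s1363 I M hM K U hKU hK1
  have h72 := s1372 I M hM K U hKU hK1 hU1
  have hUnil : Group.IsNilpotent U := by
    letI : CommGroup U := { (inferInstance : Group U) with mul_comm := h63.1.is_comm.comm }
    infer_instance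
  have T := typeP I hM hKU hK1 hUnil hKU.normal (by rw [hF]; exact compl_sigma_U I hM hKU hK1)
  obtain ⟨h1, h2⟩ := typeF_derived I hM hKU hK1 hU1 hU₀
  exact ⟨K, U, _, T, hU1, h72.1, h72.2.1, h63.1, h63.2, h1, h2⟩

/-- **S1381**. -/
theorem s1381 (I : Inp G) (M : Subgroup G) (hM : IsCoatom M) (K U : Subgroup G)
    (hKU : IsSigmaDecomposition M K U)
    (hU₀ : ∃ U₀ : Subgroup G, U₀ ≤ U ∧ Monoid.exponent U₀ = Monoid.exponent U ∧ ∀ u ∈ U₀, u ∈ sigmaHat M → u = 1) :
    IsOfTypeII M ↔ (K ≠ ⊥ ∧ U ≠ ⊥) := by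
  classical
  have hG := I.hG
  constructor
  · rintro ⟨W₁, V, W₂, T, hV1, -, -, -, hN, -, -⟩
    have hK1 : K ≠ ⊥ := K_ne_of_typeP I hM hKU T
    refine ⟨hK1, ?_⟩
    intro hU
    apply hN
    have hD : ⁅M, M⁆ = sigmaCore M := by
      rw [derived_eq I hM hKU hK1, hU, bot_sup_eq]
    have hVc := T.U_compl
    rw [hD] at hVc
    exact normalizer_le_of_compl hG hM T.U_nilpotent hV1 hVc
  · rintro ⟨hK1, hU1⟩
    exact bwd_II I hM hKU hK1 hU1 hU₀

/-- **S1383**, first direction. -/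
theorem fwd_V (I : Inp G) {M K U W₁ V W₂ : Subgroup G} (hM : IsCoatom M)
    (hKU : IsSigmaDecomposition M K U) (T : IsTypePWith M W₁ V W₂) (hV : V = ⊥) :
    K ≠ ⊥ ∧ U = ⊥ ∧ fittingHallOf M = sigmaCore M := by
  classical
  have hG := I.hG
  have hK1 : K ≠ ⊥ := K_ne_of_typeP I hM hKU T
  have hVc := T.U_compl
  have hD : ⁅M, M⁆ ≤ fittingHallOf M := by
    intro m hm
    obtain ⟨a, ha, b, hb, rfl⟩ := hVc.2.2.2 m hm
    have hb1 : b = 1 := by rw [hV] at hb; exact hb
    rw [hb1, mul_one]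
    exact ha
  have hσ : sigmaCore M ≤ fittingHallOf M := (Cfsg.Agent.Lib.BGP3D.sigmaCore_le_derived hG hM).trans hD
  have hF : fittingHallOf M = sigmaCore M :=
    le_antisymm (Cfsg.Agent.Lib.BGCent.fittingHallOf_le_sigmaCore hG hM) hσ
  refine ⟨hK1, ?_, hF⟩
  have hc := compl_sigma_U I hM hKU hK1
  apply le_bot_iff.mp
  rw [← hc.2.2.1]
  exact le_inf (by rw [← hF]; exact hc.2.1.trans hD) le_rfl

end Cfsg.Agent.Lib.BGZI
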