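import Mathlib
import Cfsg.Agent.Lib.BGZI
import Cfsg.Agent.Lib.ExtraAut
import Cfsg.Agent.S0058
import Cfsg.Agent.S1375
import Cfsg.Agent.S1376
import Cfsg.Agent.S1404
import Cfsg.Agent.S1420
import Cfsg.Agent.S1426
import Cfsg.Agent.S1448
import Cfsg.Agent.S1453

/-!
# Bender-Glauberman, Theorem 15.7 for `K ≠ 1`, `U = 1`: preliminaries.
-/

set_option autoImplicit false
set_option linter.unusedSectionVars false
set_option linter.unusedVariables false
set_option linter.style.haveILetI false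
set_option linter.unusedSimpArgs false

namespace Cfsg.Agent.Lib.BGZJ

open Cfsg Subgroup Cfsg.Agent.Lib.CoprimeInv Cfsg.Agent.Lib.BGTrans Cfsg.Agent.Lib.BGM1
  Cfsg.Agent.Lib.BGSigma2 Cfsg.Agent.Lib.BGM2 Cfsg.Agent.Lib.BGZ1 Cfsg.Agent.Lib.OddOrderCore
  Cfsg.Agent.Lib.BGSigma4 Cfsg.Agent.Lib.BGZ2 Cfsg.Agent.Lib.BGZ3 Cfsg.Agent.Lib.BGZ4
  Cfsg.Agent.Lib.BGZ5 Cfsg.Agent.Lib.BGZ6 Cfsg.Agent.Lib.BGZ7 Cfsg.Agent.Lib.BGZ8
  Cfsg.Agent.Lib.BGTau7 Cfsg.Agent.Lib.BGZC Cfsg.Agent.Lib.BGZD Cfsg.Agent.Lib.BGZE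
  Cfsg.Agent.Lib.BGZ9 Cfsg.Agent.Lib.BGZB Cfsg.Agent.Lib.BGZH Cfsg.Agent.Lib.BGZI

open scoped commutatorElement

universe u

variable {G : Type u} [Group G] [Finite G]

/-- `k ^ (p - 1)` fixes an element of order `p` whose cyclic group is normalized by `k`. -/
theorem pow_conj_of_eq {p : ℕ} [hp : Fact p.Prime] {a k : G} {d : ℕ} (ha : a ^ p = 1) (ha1 : a ≠ 1)
    (hk : k * a * k⁻¹ = a ^ d) (hd : ¬ p ∣ d) : k ^ (p - 1) * a * (k ^ (p - 1))⁻¹ = a := by
  have hn : ∀ n : ℕ, k ^ n * a * (k ^ n)⁻¹ = a ^ (d ^ n) := by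
    intro n
    induction n with
    | zero => simp
    | succ n ih =>
      have h1 : k ^ (n + 1) * a * (k ^ (n + 1))⁻¹ = k * (k ^ n * a * (k ^ n)⁻¹) * k⁻¹ := by
        rw [pow_succ']; group
      rw [h1, ih, ← conj_pow, hk, ← pow_mul, pow_succ']
  rw [hn]
  have ho : orderOf a = p := orderOf_eq_prime ha ha1
  have hmod : d ^ (p - 1) ≡ 1 [MOD orderOf a] := by
    rw [ho]
    apply (ZMod.natCast_eq_natCast_iff _ _ p).mp
    push_cast
    apply ZMod.pow_card_sub_one_eq_one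
    intro h0
    exact hd ((ZMod.natCast_eq_zero_iff d p).mp h0)
  calc a ^ d ^ (p - 1) = a ^ 1 := pow_eq_pow_iff_modEq.mpr hmod
    _ = a := pow_one a

/-- A `p'`-element normalizing an elementary abelian group `W` of order `p²` and a subgroup `Z` of order `p`
of it: its `(p-1)`-th power centralizes `W`. -/
theorem tri {p : ℕ} [hp : Fact p.Prime] {W Z : Subgroup G} {k : G} (hW : ∀ a ∈ W, ∀ b ∈ W, a * b = b * a)
    (hWp : ∀ a ∈ W, a ^ p = 1) (hZW : Z ≤ W) (hcW : Nat.card W = p ^ 2) (hcZ : Nat.card Z = p)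
    (hkW : k ∈ normalizer (W : Set G)) (hkZ : k ∈ normalizer (Z : Set G)) (hko : ¬ p ∣ orderOf k) :
    ∀ w ∈ W, k ^ (p - 1) * w * (k ^ (p - 1))⁻¹ = w := by
  classical
  have hZfix : ∀ a ∈ Z, k ^ (p - 1) * a * (k ^ (p - 1))⁻¹ = a := by
    intro a ha
    by_cases ha1 : a = 1
    · subst ha1; simp
    have hZa : Z = zpowers a := eq_zpowers_of_prime (by rw [hcZ]; exact hp.out) ha ha1
    have h1 : k * a * k⁻¹ ∈ Z := (mem_normalizer_iff.mp hkZ a).mp ha
    rw [hZa] at h1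
    obtain ⟨d, hd0⟩ := (mem_powers_iff_mem_zpowers).mpr h1
    have hd : a ^ d = k * a * k⁻¹ := hd0
    apply pow_conj_of_eq (hWp a (hZW ha)) ha1 hd.symm
    intro hdvd
    obtain ⟨e, rfl⟩ := hdvd
    rw [pow_mul, hWp a (hZW ha), one_pow] at hd
    apply ha1
    have h2 : k * a * k⁻¹ = 1 := hd.symm
    have h3 : a = k⁻¹ * (k * a * k⁻¹) * k := by group
    rw [h3, h2]; group
  intro w hw
  by_cases hwZ : w ∈ Z
  · exact hZfix w hwZ
  have hw1 : w ≠ 1 := fun h => hwZ (h ▸ one_mem Z)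
  have hWN : W ≤ normalizer (Z : Set G) := by
    intro b hb
    rw [mem_normalizer_iff]
    intro a
    have hc : ∀ a ∈ Z, b * a * b⁻¹ = a := by
      intro a ha
      rw [hW b hb a (hZW ha)]; group
    constructor
    · intro ha
      rw [hc a ha]; exact ha
    · intro ha
      have h1 := hc _ ha
      have h2 : a = b⁻¹ * (b * a * b⁻¹) * b := by group
      have h3 : b * (b * a * b⁻¹) * b⁻¹ = b * a * b⁻¹ := h1
      have h4 : b * a * b⁻¹ = a := by
        have h5 := mul_left_cancel (a := b) (b := (b * a * b⁻¹) * b⁻¹) (c := a * b⁻¹) (by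
          simpa [mul_assoc] using h3)
        exact mul_right_cancel h5
      rwa [h4] at ha
  have hzw : zpowers w ≤ W := by rw [zpowers_le]; exact hw
  have hsup : zpowers w ⊔ Z = W := by
    apply le_antisymm (sup_le hzw hZW)
    have hd1 : p ∣ Nat.card (zpowers w ⊔ Z : Subgroup G) := by
      rw [← hcZ]; exact Subgroup.card_dvd_of_le le_sup_right
    have hd2 : Nat.card (zpowers w ⊔ Z : Subgroup G) ∣ p ^ 2 := by
      rw [← hcW]; exact Subgroup.card_dvd_of_le (sup_le hzw hZW)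
    obtain ⟨j, hj, hje⟩ := (Nat.dvd_prime_pow hp.out).mp hd2
    have hj1 : j ≠ 1 := by
      rintro rfl
      rw [pow_one] at hje
      have h1 : Z = zpowers w ⊔ Z := Subgroup.eq_of_le_of_card_ge le_sup_right (by rw [hje, hcZ])
      apply hwZ
      rw [h1]
      exact (le_sup_left : zpowers w ≤ zpowers w ⊔ Z) (mem_zpowers w)
    have hj0 : j ≠ 0 := by
      rintro rfl
      rw [pow_zero] at hje
      rw [hje] at hd1
      exact hp.out.one_lt.ne' (Nat.dvd_one.mp hd1)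
    have hj2 : j = 2 := by omega
    apply le_of_eq
    symm
    apply Subgroup.eq_of_le_of_card_ge (sup_le hzw hZW)
    rw [hje, hj2, hcW]
  have hy : k * w * k⁻¹ ∈ zpowers w ⊔ Z := by
    rw [hsup]; exact (mem_normalizer_iff.mp hkW w).mp hw
  obtain ⟨e, he, v, hv, hyev⟩ := Cfsg.Agent.Lib.BGTau3.mul_of_mem_sup (hzw.trans hWN) hy
  obtain ⟨d, hd0⟩ := (mem_powers_iff_mem_zpowers).mpr he
  have hd00 : e = w ^ d := hd0.symm
  subst hd00
  have hd : ¬ p ∣ d := by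
    intro hdvd
    obtain ⟨e, rfl⟩ := hdvd
    rw [pow_mul, hWp w hw, one_pow, one_mul] at hyev
    apply hwZ
    apply (mem_normalizer_iff.mp hkZ w).mpr
    rw [hyev]; exact hv
  have hit : ∀ n : ℕ, ∃ a ∈ Z, k ^ n * w * (k ^ n)⁻¹ = w ^ (d ^ n) * a := by
    intro n
    induction n with
    | zero => exact ⟨1, one_mem Z, by simp⟩
    | succ n ih =>
      obtain ⟨a, ha, hae⟩ := ih
      have hvW := hZW hv
      have hC : Commute (w ^ d) v := hW _ (pow_mem hw d) _ hvW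
      refine ⟨v ^ (d ^ n) * (k * a * k⁻¹), mul_mem (pow_mem hv _) ((mem_normalizer_iff.mp hkZ a).mp ha), ?_⟩
      have h1 : k ^ (n + 1) * w * (k ^ (n + 1))⁻¹ = k * (k ^ n * w * (k ^ n)⁻¹) * k⁻¹ := by
        rw [pow_succ']; group
      have h2 : k * (w ^ d ^ n * a) * k⁻¹ = (k * w * k⁻¹) ^ d ^ n * (k * a * k⁻¹) := by
        rw [conj_pow]; group
      rw [h1, hae, h2, hyev, hC.mul_pow, ← pow_mul, pow_succ']
      group
  obtain ⟨a, ha, hae⟩ := hit (p - 1)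
  have hmod : d ^ (p - 1) ≡ 1 [MOD orderOf w] := by
    rw [orderOf_eq_prime (hWp w hw) hw1]
    apply (ZMod.natCast_eq_natCast_iff _ _ p).mp
    push_cast
    apply ZMod.pow_card_sub_one_eq_one
    intro h0
    exact hd ((ZMod.natCast_eq_zero_iff d p).mp h0)
  have hww : w ^ d ^ (p - 1) = w := by
    calc w ^ d ^ (p - 1) = w ^ 1 := pow_eq_pow_iff_modEq.mpr hmod
      _ = w := pow_one w
  rw [hww] at hae
  set k₁ := k ^ (p - 1) with hk₁
  have hit2 : ∀ m : ℕ, k₁ ^ m * w * (k₁ ^ m)⁻¹ = w * a ^ m := by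
    intro m
    induction m with
    | zero => simp
    | succ m ih =>
      have h1 : k₁ ^ (m + 1) * w * (k₁ ^ (m + 1))⁻¹ = k₁ * (k₁ ^ m * w * (k₁ ^ m)⁻¹) * k₁⁻¹ := by
        rw [pow_succ']; group
      have h2 : k₁ * (w * a ^ m) * k₁⁻¹ = (k₁ * w * k₁⁻¹) * (k₁ * a * k₁⁻¹) ^ m := by
        rw [conj_pow]; group
      rw [h1, ih, h2, hae, hZfix a ha, pow_succ']
      group
  have h3 := hit2 (orderOf k₁)
  rw [pow_orderOf_eq_one] at h3
  have h4 : a ^ orderOf k₁ = 1 := by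
    have : w = w * a ^ orderOf k₁ := by simpa using h3
    simpa using this.symm
  have hcop : (orderOf k₁).Coprime p := by
    have h5 : orderOf k₁ ∣ orderOf k := orderOf_pow_dvd _
    have h6 : ¬ p ∣ orderOf k₁ := fun h => hko (h.trans h5)
    exact ((Nat.Prime.coprime_iff_not_dvd hp.out).mpr h6).symm
  have ha1 : a = 1 := by
    have h7 := orderOf_dvd_of_pow_eq_one h4
    have h8 := orderOf_dvd_of_pow_eq_one (hWp a (hZW ha))
    have h9 := Nat.dvd_gcd h7 h8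
    rw [hcop] at h9
    exact orderOf_eq_one_iff.mp (Nat.dvd_one.mp h9)
  rw [hae, ha1, mul_one]

/-- A commutator with commuting extra factors. -/
theorem comm_elim {a b a' b' : G} (c2 : a * b' = b' * a) (c3 : a' * b = b * a') (c5 : b * b' = b' * b) :
    ⁅a * b, a' * b'⁆ = ⁅a, a'⁆ := by
  rw [commutatorElement_def, commutatorElement_def]
  have e1 : a * b * (a' * b') = a * a' * (b * b') := by
    rw [mul_assoc a b, ← mul_assoc b a', ← c3, mul_assoc a' b, ← mul_assoc a a']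
  rw [e1, c5, mul_inv_rev a b, mul_inv_rev a' b']
  have hc1 : a⁻¹ * b' = b' * a⁻¹ := by
    calc a⁻¹ * b' = a⁻¹ * (b' * a) * a⁻¹ := by group
      _ = a⁻¹ * (a * b') * a⁻¹ := by rw [c2]
      _ = b' * a⁻¹ := by group
  calc a * a' * (b' * b) * (b⁻¹ * a⁻¹) * (b'⁻¹ * a'⁻¹) = a * a' * (b' * a⁻¹) * b'⁻¹ * a'⁻¹ := by group
    _ = a * a' * (a⁻¹ * b') * b'⁻¹ * a'⁻¹ := by rw [hc1]
    _ = a * a' * a⁻¹ * a'⁻¹ := by group

theorem le_normalizer_of_comm {A B : Subgroup G} (h : ∀ a ∈ A, ∀ b ∈ B, a * b = b * a) :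
    A ≤ normalizer (B : Set G) := by
  intro a ha
  rw [mem_normalizer_iff]
  intro b
  have hc : ∀ b ∈ B, a * b * a⁻¹ = b := by
    intro b hb
    rw [h a ha b hb]; group
  constructor
  · intro hb
    rw [hc b hb]; exact hb
  · intro hb
    have h1 := hc _ hb
    have h3 : a * (a * b * a⁻¹) * a⁻¹ = a * b * a⁻¹ := h1
    have h4 : a * b * a⁻¹ = b := by
      have h5 := mul_left_cancel (a := a) (b := (a * b * a⁻¹) * a⁻¹) (c := b * a⁻¹) (by
        simpa [mul_assoc] using h3)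
      exact mul_right_cancel h5
    rwa [h4] at hb

theorem card_dvd_of_pow {K : Subgroup G} (hc : IsCyclic K) {n : ℕ} (h : ∀ k ∈ K, k ^ n = 1) : Nat.card K ∣ n := by
  obtain ⟨g, hg⟩ := IsCyclic.exists_generator (α := K)
  have h1 : orderOf g = Nat.card K := orderOf_eq_card_of_forall_mem_zpowers hg
  rw [← h1]
  apply orderOf_dvd_of_pow_eq_one
  apply Subtype.ext
  simpa using h g g.2

theorem char_closure {R : Type*} [Group R] (S : Set R) (hS : ∀ φ : MulAut R, ∀ s ∈ S, φ s ∈ S) :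
    (closure S).Characteristic := by
  rw [Subgroup.characteristic_iff_map_le]
  intro φ
  rw [Subgroup.map_le_iff_le_comap, closure_le]
  intro s hs
  exact subset_closure (hS φ s hs)

theorem char_pow_of_char {R : Type*} [Group R] (H : Subgroup R) [h : H.Characteristic] (n : ℕ) :
    (closure {x : R | x ∈ H ∧ x ^ n = 1}).Characteristic := by
  apply char_closure
  rintro φ s ⟨hs, hsp⟩
  refine ⟨?_, by rw [← map_pow, hsp, map_one]⟩
  have h2 : s ∈ H.comap φ.toMonoidHom := by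
    rw [h.fixed φ]; exact hs
  exact h2

/-! ### The context -/

/-- `M = M_σ K` with `M_σ = M_F`. -/
structure VCtx (M K U : Subgroup G) : Prop where
  I : Inp G
  hM : IsCoatom M
  hKU : IsSigmaDecomposition M K U
  hK1 : K ≠ ⊥
  hU : U = ⊥
  hF : fittingHallOf M = sigmaCore M

namespace VCtx

variable {M K U : Subgroup G} (C : VCtx M K U)
include C

theorem nil : Group.IsNilpotent (sigmaCore M) := by
  rw [← C.hF]; exact nil_fittingHallOf M

theorem der : ⁅M, M⁆ = sigmaCore M := by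
  rw [derived_eq C.I C.hM C.hKU C.hK1, C.hU, bot_sup_eq]

theorem kst_le : sigmaCore M ⊓ centralizer (K : Set G) ≤ ⁅sigmaCore M, sigmaCore M⁆ := by
  have h := kst_le_derived C.I C.hM C.hKU C.hK1
  rwa [C.der] at h

theorem mem_fit {h : G} (hh : h ∈ sigmaCore M) : h ∈ fittingOf (sigmaCore M) :=
  Cfsg.Agent.Lib.BGFix.le_fittingOf _ _ le_rfl
    (fun k hk l hl => mul_mem (mul_mem hk hl) (inv_mem hk)) C.nil hh

theorem split (p : ℕ) [Fact p.Prime] {h : G} (hh : h ∈ sigmaCore M) :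
    ∃ a ∈ Cfsg.Agent.Lib.FitPair.Op p (sigmaCore M), ∃ b ∈ Cfsg.Agent.Lib.FitPair.Opp p (sigmaCore M), h = a * b :=
  Cfsg.Agent.Lib.FitPair.exists_mul_of_mem_fittingOf p (C.mem_fit hh)

theorem kst_ne : sigmaCore M ⊓ centralizer (K : Set G) ≠ ⊥ :=
  (s1364 C.I M C.hM K U C.hKU C.hK1).2.1

theorem card_kst : (Nat.card ↥(sigmaCore M ⊓ centralizer (K : Set G))).Prime :=
  Cfsg.Agent.Lib.H6F6.hqp_of C.I C.hM C.hKU C.hU

theorem cent_k {k : G} (hk : k ∈ K) (hk1 : k ≠ 1) :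
    sigmaCore M ⊓ centralizer ({k} : Set G) = sigmaCore M ⊓ centralizer (K : Set G) :=
  Cfsg.Agent.Lib.H6F6.hprime_of C.I C.hM C.hKU k hk hk1

theorem not_comm : ¬ IsMulCommutative (sigmaCore M) := by
  intro h
  apply C.kst_ne
  apply le_bot_iff.mp
  refine C.kst_le.trans ?_
  rw [Subgroup.commutator_le]
  intro a ha b hb
  have h1 : a * b = b * a := congrArg Subtype.val (h.is_comm.comm (⟨a, ha⟩ : sigmaCore M) ⟨b, hb⟩)
  rw [commutatorElement_eq_one_iff_mul_comm.mpr h1]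
  exact one_mem _

theorem compl_K : IsComplIn K (sigmaCore M) M := by
  refine ⟨C.hKU.hall.1, sigmaCore_le, ?_, ?_⟩
  · have h := inf_derived_eq_bot C.I C.hM C.hKU C.hK1
    rwa [C.der] at h
  · intro m hm
    have hsup := sup_eq_of_dec C.hKU
    rw [C.hU, bot_sup_eq] at hsup
    rw [← hsup] at hm
    exact Cfsg.Agent.Lib.BGTau3.mul_of_mem_sup (C.hKU.hall.1.trans le_normalizer_sigmaCore) hm

theorem K_norm (p : ℕ) : K ≤ normalizer (Cfsg.Agent.Lib.FitPair.Op p (sigmaCore M) : Set G) :=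
  (C.hKU.hall.1.trans le_normalizer_sigmaCore).trans (Cfsg.Agent.Lib.FitPair.normalizer_le_Op p _)

theorem K_norm' (p : ℕ) : K ≤ normalizer (Cfsg.Agent.Lib.FitPair.Opp p (sigmaCore M) : Set G) :=
  (C.hKU.hall.1.trans le_normalizer_sigmaCore).trans (Cfsg.Agent.Lib.FitPair.normalizer_le_Opp p _)

theorem kappa_ne : (kappa M).Nonempty := by
  obtain ⟨r, hr, hd⟩ : ∃ r : ℕ, r.Prime ∧ r ∣ Nat.card K := by
    have h1 : Nat.card K ≠ 1 := fun h => C.hK1 ((Subgroup.card_eq_one).mp h)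
    exact ⟨_, Nat.minFac_prime h1, Nat.minFac_dvd _⟩
  exact ⟨r, C.hKU.hall.2.1 r hr hd⟩

end VCtx

/-- An element of `M_σ` of prime order with large centralizer. -/
structure NCtx (M K U N : Subgroup G) (x : G) (p : ℕ) [Fact p.Prime] : Prop where
  C : VCtx M K U
  hx : x ∈ sigmaCore M
  hx1 : x ≠ 1
  hxp : x ^ p = 1
  hxM : ¬ centralizer ({x} : Set G) ≤ M
  hN : IsCoatom N
  hxN : centralizer ({x} : Set G) ≤ N
  hRn : centralizer ({x} : Set G) ≤ normalizer ((sigmaCore N ⊓ centralizer ({x} : Set G) : Subgroup G) : Set G)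
  hRc : IsComplIn (M ⊓ centralizer ({x} : Set G)) (sigmaCore N ⊓ centralizer ({x} : Set G)) (centralizer ({x} : Set G))
  hMN : IsComplIn (M ⊓ N) (sigmaCore N) N

namespace NCtx

variable {M K U N : Subgroup G} {x : G} {p : ℕ} [hp : Fact p.Prime] (D : NCtx M K U N x p)
include D

theorem primes {Y : Subgroup G} (hY : Y ≤ M ⊓ N) {r : ℕ} (hr : r.Prime) (hd : r ∣ Nat.card Y) : r ∉ sigma N := by
  intro hσ
  haveI : Fact r.Prime := ⟨hr⟩
  obtain ⟨w, hw⟩ := exists_prime_orderOf_dvd_card' r hd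
  have hw1 : (w : G) ≠ 1 := by
    intro h
    have h2 : w = 1 := Subtype.ext h
    rw [h2, orderOf_one] at hw
    exact hr.ne_one hw.symm
  have ho : orderOf (w : G) = r := by rw [← hw]; simp
  have h1 : (w : G) ∈ sigmaCore N := by
    apply mem_core_of_primes D.C.I.hG D.hN (hY w.2).2
    intro q hq hqd
    rw [ho] at hqd
    rw [(Nat.prime_dvd_prime_iff_eq hq hr).mp hqd]
    exact hσ
  have h2 : (w : G) ∈ (M ⊓ N) ⊓ sigmaCore N := ⟨hY w.2, h1⟩
  rw [D.hMN.2.2.1] at h2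
  exact hw1 h2

theorem primes_elt {a : G} (ha : a ∈ M ⊓ N) {r : ℕ} (hr : r.Prime) (hd : r ∣ orderOf a) : r ∉ sigma N := by
  apply D.primes (Y := zpowers a) (by rw [zpowers_le]; exact ha) hr
  rw [Nat.card_zpowers]; exact hd

theorem comm_of_nil {Y : Subgroup G} (hY : Y ≤ M ⊓ N) (hnil : Group.IsNilpotent Y) : IsMulCommutative Y :=
  (Cfsg.Agent.S1420.result D.C.I.hG N D.hN (M ⊓ N) D.hMN).1 Y (hY.trans inf_le_right) hnil
    (fun q hq hd => D.primes hY hq hd)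

theorem R_ne : sigmaCore N ⊓ centralizer ({x} : Set G) ≠ ⊥ := by
  intro h
  apply D.hxM
  intro c hc
  obtain ⟨a, ha, b, hb, rfl⟩ := D.hRc.2.2.2 c hc
  rw [h] at hb
  have hb1 : b = 1 := hb
  rw [hb1, mul_one]
  exact ha.1

theorem x_mem_Op : x ∈ Cfsg.Agent.Lib.FitPair.Op p (sigmaCore M) :=
  Cfsg.Agent.Lib.FitPair.mem_Op_of_pelt (D.C.mem_fit D.hx) ⟨1, by rw [pow_one]; exact D.hxp⟩

theorem mem_cent_of_Opp {b : G} (hb : b ∈ Cfsg.Agent.Lib.FitPair.Opp p (sigmaCore M)) :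
    b ∈ centralizer ({x} : Set G) := by
  show b ∈ centralizer ({x} : Set G)
  rw [mem_centralizer_singleton_iff]
  exact (Cfsg.Agent.Lib.FitPair.Op_comm_Opp p _ x D.x_mem_Op b hb).symm

theorem Opp_le : Cfsg.Agent.Lib.FitPair.Opp p (sigmaCore M) ≤ M ⊓ N := fun b hb =>
  ⟨sigmaCore_le (Cfsg.Agent.Lib.FitPair.Opp_le p _ hb), D.hxN (D.mem_cent_of_Opp hb)⟩

theorem nil_of_le {Y : Subgroup G} (hY : Y ≤ sigmaCore M) : Group.IsNilpotent Y :=
  haveI := D.C.nil
  Cfsg.Agent.Lib.BGZH.nil_of_inj (Subgroup.inclusion hY) (Subgroup.inclusion_injective hY)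

theorem Opp_comm : IsMulCommutative (Cfsg.Agent.Lib.FitPair.Opp p (sigmaCore M)) :=
  D.comm_of_nil D.Opp_le (D.nil_of_le (Cfsg.Agent.Lib.FitPair.Opp_le p _))

theorem der_le : ⁅sigmaCore M, sigmaCore M⁆ ≤
    ⁅Cfsg.Agent.Lib.FitPair.Op p (sigmaCore M), Cfsg.Agent.Lib.FitPair.Op p (sigmaCore M)⁆ := by
  rw [Subgroup.commutator_le]
  intro g hg g' hg'
  obtain ⟨a, ha, b, hb, rfl⟩ := D.C.split p hg
  obtain ⟨a', ha', b', hb', rfl⟩ := D.C.split p hg'
  have hbb : b * b' = b' * b := congrArg Subtype.val (D.Opp_comm.is_comm.comm (⟨b, hb⟩ : Cfsg.Agent.Lib.FitPair.Opp p (sigmaCore M)) ⟨b', hb'⟩)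
  have c1 := Cfsg.Agent.Lib.FitPair.Op_comm_Opp p _ a ha b hb
  have c2 := Cfsg.Agent.Lib.FitPair.Op_comm_Opp p _ a ha b' hb'
  have c3 := Cfsg.Agent.Lib.FitPair.Op_comm_Opp p _ a' ha' b hb
  have c4 := Cfsg.Agent.Lib.FitPair.Op_comm_Opp p _ a' ha' b' hb'
  have e : ⁅a * b, a' * b'⁆ = ⁅a, a'⁆ := comm_elim c2 c3 hbb
  rw [e]
  exact Subgroup.commutator_mem_commutator ha ha'

theorem kst_le_P : sigmaCore M ⊓ centralizer (K : Set G) ≤
    ⁅Cfsg.Agent.Lib.FitPair.Op p (sigmaCore M), Cfsg.Agent.Lib.FitPair.Op p (sigmaCore M)⁆ :=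
  D.C.kst_le.trans D.der_le

theorem derP_le : ⁅Cfsg.Agent.Lib.FitPair.Op p (sigmaCore M), Cfsg.Agent.Lib.FitPair.Op p (sigmaCore M)⁆ ≤
    Cfsg.Agent.Lib.FitPair.Op p (sigmaCore M) :=
  derived_le _

theorem card_kst : Nat.card ↥(sigmaCore M ⊓ centralizer (K : Set G)) = p := by
  have h1 := D.C.card_kst
  have h2 : IsPGroup p ↥(sigmaCore M ⊓ centralizer (K : Set G)) :=
    (Cfsg.Agent.Lib.FitPair.isPGroup_Op p (sigmaCore M)).to_le (D.kst_le_P.trans D.derP_le)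
  obtain ⟨k, hk⟩ := IsPGroup.iff_card.mp h2
  rw [hk] at h1 ⊢
  have h3 : k = 1 := by
    by_contra hne
    have h4 : k = 0 ∨ 2 ≤ k := by omega
    rcases h4 with rfl | h5
    · simp at h1
      exact Nat.not_prime_one h1
    · exact Nat.Prime.not_prime_pow h5 h1
  rw [h3, pow_one]

theorem not_le_N : ¬ sigmaCore M ≤ N := by
  intro h
  exact D.C.not_comm (D.comm_of_nil (le_inf sigmaCore_le h) D.C.nil)

theorem P_not_comm : ¬ IsMulCommutative (Cfsg.Agent.Lib.FitPair.Op p (sigmaCore M)) := by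
  intro h
  apply D.C.kst_ne
  apply le_bot_iff.mp
  refine D.kst_le_P.trans ?_
  rw [Subgroup.commutator_le]
  intro a ha b hb
  have h1 : a * b = b * a := congrArg Subtype.val (h.is_comm.comm (⟨a, ha⟩ : Cfsg.Agent.Lib.FitPair.Op p (sigmaCore M)) ⟨b, hb⟩)
  rw [commutatorElement_eq_one_iff_mul_comm.mpr h1]
  exact one_mem _

theorem kappa_N_empty : kappa N = ∅ := by
  by_contra h
  have h2 : (kappa N).Nonempty := Set.nonempty_iff_ne_empty.mpr h
  have h3 := (Cfsg.Agent.S1376.result D.C.I.hG M D.C.hM x D.hx D.hx1 D.hxM N D.hN D.hxN h2).1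
  obtain ⟨r, hr⟩ := D.C.kappa_ne
  rw [h3] at hr
  exact hr

/-- An element commuting with a non-identity element of `N_σ`: `τ₂(N)` and the centralizer lies in `N`. -/
theorem s32 {y a : G} (hy : y ∈ sigmaCore N) (hy1 : y ≠ 1) (ha : a ∈ M ⊓ N) (ha1 : a ≠ 1) (hay : a * y = y * a) :
    (∀ r : ℕ, r.Prime → r ∣ orderOf a → r ∈ tau2 N) ∧ centralizer ({a} : Set G) ≤ N := by
  have h1 : a ∈ N ⊓ centralizer ({y} : Set G) := by
    refine ⟨ha.2, ?_⟩
    show a ∈ centralizer ({y} : Set G)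
    rw [mem_centralizer_singleton_iff]
    exact hay
  rcases D.C.I.s32 N D.hN y hy hy1 a h1 ha1 (fun r hr hd => D.primes_elt ha hr hd) with ⟨h2, -⟩ | ⟨h2, -, h3, -⟩
  · exfalso
    have h4 : orderOf a ≠ 1 := by simpa using ha1
    have hm := h2 _ (Nat.minFac_prime h4) (Nat.minFac_dvd _)
    rw [D.kappa_N_empty] at hm
    exact hm
  · exact ⟨h2, h3⟩

theorem Q_cyclic : IsCyclic (Cfsg.Agent.Lib.FitPair.Opp p (sigmaCore M)) := by
  classical
  by_contra hnc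
  set Q := Cfsg.Agent.Lib.FitPair.Opp p (sigmaCore M) with hQ
  set R := sigmaCore N ⊓ centralizer ({x} : Set G) with hR
  haveI := D.Opp_comm
  have hQC : Q ≤ centralizer ({x} : Set G) := fun b hb => D.mem_cent_of_Opp hb
  have hcop : (Nat.card Q).Coprime (Nat.card R) := by
    apply Nat.coprime_of_dvd
    intro r hr h1 h2
    exact D.primes D.Opp_le hr h1 (primes_sigmaCore r hr (h2.trans (Subgroup.card_dvd_of_le inf_le_left)))
  have hsup := Cfsg.Agent.S0058.result Q R hnc (hQC.trans D.hRn) hcop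
  obtain ⟨a, ⟨haQ, ha1⟩, hne⟩ : ∃ a ∈ {a : G | a ∈ Q ∧ a ≠ 1}, R ⊓ centralizer {a} ≠ ⊥ := by
    by_contra hall
    push Not at hall
    apply D.R_ne
    show R = ⊥
    rw [← hsup]
    exact le_bot_iff.mp (iSup₂_le fun a ha => (hall a ha).le)
  obtain ⟨y, hy, hy1⟩ := exists_mem_ne_one hne
  have hayc : a * y = y * a := (mem_centralizer_singleton_iff.mp hy.2).symm
  have h2 := (D.s32 hy.1.1 hy1 (D.Opp_le haQ) ha1 hayc).2
  apply D.not_le_N
  intro h hh
  obtain ⟨u, hu, b, hb, rfl⟩ := D.C.split p hh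
  refine mul_mem (h2 ?_) (D.Opp_le hb).2
  show u ∈ centralizer ({a} : Set G)
  rw [mem_centralizer_singleton_iff]
  exact Cfsg.Agent.Lib.FitPair.Op_comm_Opp p _ u hu a haQ

theorem order_x : orderOf x = p := orderOf_eq_prime D.hxp D.hx1

theorem tau2_N : p ∈ tau2 N := by
  obtain ⟨y, hy, hy1⟩ := exists_mem_ne_one D.R_ne
  have hyc : y ∈ centralizer ({x} : Set G) := hy.2
  rw [mem_centralizer_singleton_iff] at hyc
  have hxx : x ∈ centralizer ({x} : Set G) := by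
    rw [mem_centralizer_singleton_iff]
  have h := (D.s32 hy.1 hy1 ⟨sigmaCore_le D.hx, D.hxN hxx⟩ D.hx1 hyc.symm).1
  exact h p hp.out (by rw [D.order_x])

theorem CP_comm : IsMulCommutative ↥(Cfsg.Agent.Lib.FitPair.Op p (sigmaCore M) ⊓ centralizer ({x} : Set G)) := by
  apply D.comm_of_nil
  · exact fun c hc => ⟨sigmaCore_le (Cfsg.Agent.Lib.FitPair.Op_le p _ hc.1), D.hxN hc.2⟩
  · exact D.nil_of_le (inf_le_left.trans (Cfsg.Agent.Lib.FitPair.Op_le p _))

end NCtx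

end Cfsg.Agent.Lib.BGZJ
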