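import Mathlib
import Cfsg.Agent.Lib.BGZJ

/-!
# Bender-Glauberman, Theorem 15.7 for `K ≠ 1`, `U = 1`.
-/

set_option autoImplicit false
set_option linter.unusedSectionVars false
set_option linter.unusedVariables false
set_option linter.style.haveILetI false
set_option linter.unusedSimpArgs false

namespace Cfsg.Agent.Lib.BGZK

open Cfsg Subgroup Cfsg.Agent.Lib.CoprimeInv Cfsg.Agent.Lib.BGTrans Cfsg.Agent.Lib.BGM1
  Cfsg.Agent.Lib.BGSigma2 Cfsg.Agent.Lib.BGM2 Cfsg.Agent.Lib.BGZ1 Cfsg.Agent.Lib.OddOrderCore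
  Cfsg.Agent.Lib.BGSigma4 Cfsg.Agent.Lib.BGZ2 Cfsg.Agent.Lib.BGZ3 Cfsg.Agent.Lib.BGZ4
  Cfsg.Agent.Lib.BGZ5 Cfsg.Agent.Lib.BGZ6 Cfsg.Agent.Lib.BGZ7 Cfsg.Agent.Lib.BGZ8
  Cfsg.Agent.Lib.BGTau7 Cfsg.Agent.Lib.BGZC Cfsg.Agent.Lib.BGZD Cfsg.Agent.Lib.BGZE
  Cfsg.Agent.Lib.BGZ9 Cfsg.Agent.Lib.BGZB Cfsg.Agent.Lib.BGZH Cfsg.Agent.Lib.BGZI
  Cfsg.Agent.Lib.BGZJ Cfsg.Agent.Lib.FitPair

open scoped commutatorElement

universe u

variable {G : Type u} [Group G] [Finite G]

variable {M K U N : Subgroup G} {x : G} {p : ℕ} [hp : Fact p.Prime]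

theorem odd_p (C : VCtx M K U) (hd : p ∣ Nat.card G) : p ≠ 2 := by
  rintro rfl
  have h1 : Odd (Nat.card G) := C.I.hG.1
  exact (Nat.not_even_iff_odd.mpr h1) (even_iff_two_dvd.mpr hd)

theorem p_sigma (D : NCtx M K U N x p) : p ∈ sigma M := by
  apply primes_sigmaCore p hp.out
  rw [← D.order_x]
  exact Subgroup.orderOf_dvd_natCard _ D.hx

theorem p_not_dvd_K (D : NCtx M K U N x p) {k : G} (hk : k ∈ K) : ¬ p ∣ orderOf k := by
  intro h
  have h1 : p ∈ kappa M := D.C.hKU.hall.2.1 p hp.out (h.trans (Subgroup.orderOf_dvd_natCard _ hk))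
  exact Cfsg.Agent.Lib.BGCent.not_kappa_of_sigma (p_sigma D) h1

/-- **Case of rank at least `3`**. -/
theorem case_a (D : NCtx M K U N x p) (hr : ¬ PRankLE p 2 ↥(Op p (sigmaCore M))) :
    Nat.card K ∣ p - 1 := by
  classical
  have hG := D.C.I.hG
  set P := Op p (sigmaCore M) with hPd
  have hPp : IsPGroup p P := isPGroup_Op p _
  have hxP : x ∈ P := D.x_mem_Op
  set xt : P := ⟨x, hxP⟩ with hxt
  have hxt1 : xt ≠ 1 := fun h => D.hx1 (congrArg Subtype.val h)
  have hcomm : ∀ y₁ y₂ : P, y₁ * xt = xt * y₁ → y₂ * xt = xt * y₂ → y₁ * y₂ = y₂ * y₁ := by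
    intro y₁ y₂ h1 h2
    have hy₁ : (y₁ : G) ∈ P ⊓ centralizer ({x} : Set G) := by
      refine ⟨y₁.2, ?_⟩
      show (y₁ : G) ∈ centralizer ({x} : Set G)
      rw [mem_centralizer_singleton_iff]
      exact congrArg Subtype.val h1
    have hy₂ : (y₂ : G) ∈ P ⊓ centralizer ({x} : Set G) := by
      refine ⟨y₂.2, ?_⟩
      show (y₂ : G) ∈ centralizer ({x} : Set G)
      rw [mem_centralizer_singleton_iff]
      exact congrArg Subtype.val h2
    apply Subtype.ext
    show (y₁ : G) * (y₂ : G) = (y₂ : G) * (y₁ : G)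
    exact congrArg Subtype.val (D.CP_comm.is_comm.comm (⟨_, hy₁⟩ : ↥(P ⊓ centralizer ({x} : Set G))) ⟨_, hy₂⟩)
  let E : Subgroup P :=
    { carrier := {y | y * xt = xt * y ∧ y ^ p = 1}
      mul_mem' := by
        rintro a b ⟨ha1, ha2⟩ ⟨hb1, hb2⟩
        refine ⟨?_, ?_⟩
        · rw [mul_assoc, hb1, ← mul_assoc, ha1, mul_assoc]
        · have hc : Commute a b := hcomm a b ha1 hb1
          rw [hc.mul_pow, ha2, hb2, one_mul]
      one_mem' := ⟨by simp, by simp⟩
      inv_mem' := by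
        rintro a ⟨ha1, ha2⟩
        refine ⟨?_, by rw [inv_pow, ha2, inv_one]⟩
        have : a⁻¹ * (a * xt) * a⁻¹ = a⁻¹ * (xt * a) * a⁻¹ := by rw [ha1]
        simpa [mul_assoc] using this.symm }
  have hE : IsElementaryAbelian p E := by
    refine ⟨⟨⟨?_⟩⟩, fun a ha => ha.2⟩
    rintro ⟨a, ha⟩ ⟨b, hb⟩
    exact Subtype.ext (hcomm a b ha.1 hb.1)
  have hEmax : ∀ B : Subgroup P, IsElementaryAbelian p B → E ≤ B → B = E := by
    intro B hB hle
    apply le_antisymm _ hle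
    intro b hb
    have hxtE : xt ∈ E := ⟨rfl, Subtype.ext (by simpa using D.hxp)⟩
    refine ⟨?_, hB.2 b hb⟩
    exact congrArg Subtype.val (hB.1.is_comm.comm (⟨b, hb⟩ : B) ⟨xt, hle hxtE⟩)
  have hxtE : xt ∈ E := ⟨rfl, Subtype.ext (by simpa using D.hxp)⟩
  have hordxt : orderOf xt = p := by
    have : orderOf xt = orderOf (xt : G) := (Subgroup.orderOf_coe xt).symm
    rw [this]; exact D.order_x
  -- the order of `E`
  have hEcard : Nat.card E = p ^ 2 := by
    have hleN : E.map P.subtype ≤ N := by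
      rintro _ ⟨y, hy, rfl⟩
      apply D.hxN
      show (y : G) ∈ centralizer ({x} : Set G)
      rw [mem_centralizer_singleton_iff]
      exact congrArg Subtype.val hy.1
    have h1 : Nat.card ((E.map P.subtype).subgroupOf N) ≤ p ^ 2 := by
      apply D.tau2_N.2.2.1
      · refine ⟨⟨?_⟩⟩
        rintro ⟨⟨a, ha⟩, ha'⟩ ⟨⟨b, hb⟩, hb'⟩
        apply Subtype.ext
        apply Subtype.ext
        show a * b = b * a
        obtain ⟨y₁, hy₁, rfl⟩ := ha'
        obtain ⟨y₂, hy₂, rfl⟩ := hb'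
        exact congrArg Subtype.val (hcomm y₁ y₂ hy₁.1 hy₂.1)
      · rintro ⟨a, ha⟩ ha'
        apply Subtype.ext
        obtain ⟨y₁, hy₁, rfl⟩ := ha'
        show ((y₁ : P) : G) ^ p = 1
        exact congrArg Subtype.val hy₁.2
    rw [card_subgroupOf_of_le hleN, Subgroup.card_map_of_injective P.subtype_injective] at h1
    obtain ⟨k, hk⟩ := IsPGroup.iff_card.mp (hPp.to_subgroup E)
    rw [hk] at h1 ⊢
    have hk2 : k ≤ 2 := (Nat.pow_le_pow_iff_right hp.out.one_lt).mp h1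
    have hdv : p ∣ Nat.card E := by
      rw [← hordxt, ← Subgroup.orderOf_mk xt hxtE]
      exact orderOf_dvd_natCard _
    rw [hk] at hdv
    have hk0 : k ≠ 0 := by
      rintro rfl
      rw [pow_zero] at hdv
      exact hp.out.one_lt.ne' (Nat.dvd_one.mp hdv)
    by_cases hk1 : k = 1
    · exfalso
      subst hk1
      rw [pow_one] at hk
      haveI hnt : Nontrivial P := ⟨⟨xt, 1, hxt1⟩⟩
      obtain ⟨l, hl⟩ := IsPGroup.iff_card.mp (hPp.to_subgroup (center P))
      have hct := hPp.center_nontrivial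
      have hdc : p ∣ Nat.card (center P) := by
        rw [hl]
        apply dvd_pow_self
        rintro rfl
        rw [pow_zero] at hl
        exact (Finite.one_lt_card_iff_nontrivial.mpr hct).ne' hl
      obtain ⟨z, hz⟩ := exists_prime_orderOf_dvd_card' p hdc
      have hz2 : orderOf (z : P) = p := by rw [Subgroup.orderOf_coe, hz]
      have hzE : (z : P) ∈ E := by
        refine ⟨(mem_center_iff.mp z.2 xt).symm, ?_⟩
        rw [← hz2]; exact pow_orderOf_eq_one _
      have hEx : E = zpowers xt := by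
        symm
        apply Subgroup.eq_of_le_of_card_ge
        · rw [zpowers_le]; exact hxtE
        · rw [hk, Nat.card_zpowers, hordxt]
      rw [hEx] at hzE
      have hzz : zpowers (z : P) = zpowers xt := by
        apply Subgroup.eq_of_le_of_card_ge
        · rw [zpowers_le]; exact hzE
        · rw [Nat.card_zpowers, Nat.card_zpowers, hordxt, hz2]
      have hxc : xt ∈ center P := by
        have h2 : xt ∈ zpowers (z : P) := by rw [hzz]; exact mem_zpowers xt
        have h3 : zpowers (z : P) ≤ center P := by rw [zpowers_le]; exact z.2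
        exact h3 h2
      apply D.P_not_comm
      refine ⟨⟨?_⟩⟩
      intro a b
      have h4 := fun y : P => (mem_center_iff.mp hxc y)
      exact hcomm a b (h4 a) (h4 b)
    · have : k = 2 := by omega
      rw [this]
  have hp2 : p ≠ 2 := odd_p D.C (by rw [← D.order_x]; exact orderOf_dvd_natCard x)
  obtain ⟨-, hZs, ⟨hWe, hWc⟩, -, -⟩ := Cfsg.Agent.S1453.result (R := ↥P) p hp2 hPp hr E hE hEcard hEmax
  set Zs : Subgroup P := closure {y : P | y ∈ center P ∧ y ^ p = 1} with hZsd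
  set W : Subgroup P := closure {y : P | y ∈ Subgroup.upperCentralSeries P 2 ∧ y ^ p = 1} with hWd
  haveI hZsc : Zs.Characteristic := char_pow_of_char (center P) p
  haveI hWcc : W.Characteristic := char_pow_of_char (Subgroup.upperCentralSeries P 2) p
  have hZsW : Zs ≤ W := by
    apply Subgroup.closure_mono
    rintro y ⟨hy, hyp⟩
    refine ⟨?_, hyp⟩
    have h1 : center P ≤ Subgroup.upperCentralSeries P 2 := by
      rw [← Subgroup.upperCentralSeries_one]
      exact Subgroup.upperCentralSeries_mono P (by norm_num)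
    exact h1 hy
  have hk_all : ∀ k ∈ K, k ^ (p - 1) = 1 := by
    intro k hk
    by_contra hne
    have hkP : k ∈ normalizer (P : Set G) := D.C.K_norm p hk
    have htri := tri (p := p) (W := W.map P.subtype) (Z := Zs.map P.subtype) (k := k) ?_ ?_
      (Subgroup.map_mono hZsW) (by rw [Subgroup.card_map_of_injective P.subtype_injective, hWc])
      (by rw [Subgroup.card_map_of_injective P.subtype_injective, hZs])
      (normalizer_le_normalizer_map W hkP) (normalizer_le_normalizer_map Zs hkP) (p_not_dvd_K D hk)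
    · have hle : W.map P.subtype ≤ sigmaCore M ⊓ centralizer (K : Set G) := by
        rw [← D.C.cent_k (pow_mem hk (p - 1)) hne]
        intro w hw
        refine ⟨?_, ?_⟩
        · obtain ⟨y, -, rfl⟩ := hw
          exact Op_le p _ y.2
        · show w ∈ centralizer ({k ^ (p - 1)} : Set G)
          rw [mem_centralizer_singleton_iff]
          have h1 := htri w hw
          have h2 : k ^ (p - 1) * w = w * k ^ (p - 1) := by
            calc k ^ (p - 1) * w = (k ^ (p - 1) * w * (k ^ (p - 1))⁻¹) * k ^ (p - 1) := by group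
              _ = w * k ^ (p - 1) := by rw [h1]
          exact h2.symm
      have h3 := Subgroup.card_le_of_le hle
      rw [Subgroup.card_map_of_injective P.subtype_injective, hWc, D.card_kst] at h3
      have h4 : p ^ 2 > p := by
        have := hp.out.two_le
        nlinarith
      omega
    · rintro _ ⟨a, ha, rfl⟩ _ ⟨b, hb, rfl⟩
      exact congrArg Subtype.val (congrArg Subtype.val (hWe.1.is_comm.comm (⟨a, ha⟩ : W) ⟨b, hb⟩))
    · rintro _ ⟨a, ha, rfl⟩
      exact congrArg Subtype.val (hWe.2 a ha)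
  exact card_dvd_of_pow D.C.hKU.cyclic hk_all

theorem Op_inf_Opp (p : ℕ) [Fact p.Prime] (X : Subgroup G) : Op p X ⊓ Opp p X = ⊥ := by
  apply (Subgroup.disjoint_of_coprime_natCard _).eq_bot
  obtain ⟨k, hk⟩ := IsPGroup.iff_card.mp (isPGroup_Op p X)
  rw [hk]
  exact Nat.Coprime.pow_left k (coprime_Opp p X).symm

theorem comm_le_of_norm {A B : Subgroup G} (h : B ≤ normalizer (A : Set G)) : ⁅A, B⁆ ≤ A := by
  rw [Subgroup.commutator_le]
  intro a ha b hb
  rw [commutatorElement_def]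
  have h1 : b * a⁻¹ * b⁻¹ ∈ A := (mem_normalizer_iff.mp (h hb) a⁻¹).mp (inv_mem ha)
  have h2 : a * b * a⁻¹ * b⁻¹ = a * (b * a⁻¹ * b⁻¹) := by group
  rw [h2]
  exact mul_mem ha h1

/-- `[O_p(H), K] = O_p(H)`. -/
theorem comm_Op (C : VCtx M K U) (p : ℕ) [Fact p.Prime] :
    ⁅Op p (sigmaCore M), K⁆ = Op p (sigmaCore M) := by
  classical
  set P := Op p (sigmaCore M) with hP
  set Q := Opp p (sigmaCore M) with hQ
  have hH := (Cfsg.Agent.S1426.result C.I.hG M C.hM K C.compl_K).2.1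
  have hPK : ⁅P, K⁆ ≤ P := comm_le_of_norm (C.K_norm p)
  have hQK : ⁅Q, K⁆ ≤ Q := comm_le_of_norm (C.K_norm' p)
  apply le_antisymm hPK
  have hPQ := Op_comm_Opp p (sigmaCore M)
  have hle : sigmaCore M ≤ ⁅P, K⁆ ⊔ ⁅Q, K⁆ := by
    conv_lhs => rw [← hH]
    rw [Subgroup.commutator_le]
    intro h hh k hk
    obtain ⟨a, ha, b, hb, rfl⟩ := C.split p hh
    have hbk : ⁅b, k⁆ ∈ Q := hQK (Subgroup.commutator_mem_commutator hb hk)
    have e : ⁅a * b, k⁆ = ⁅b, k⁆ * ⁅a, k⁆ := by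
      have h1 : ⁅a * b, k⁆ = a * ⁅b, k⁆ * a⁻¹ * ⁅a, k⁆ := by
        simp only [commutatorElement_def]; group
      rw [h1, hPQ a ha _ hbk]
      group
    rw [e]
    exact mul_mem ((le_sup_right : ⁅Q, K⁆ ≤ ⁅P, K⁆ ⊔ ⁅Q, K⁆) (Subgroup.commutator_mem_commutator hb hk))
      ((le_sup_left : ⁅P, K⁆ ≤ ⁅P, K⁆ ⊔ ⁅Q, K⁆) (Subgroup.commutator_mem_commutator ha hk))
  intro a ha
  have hn : ⁅P, K⁆ ≤ normalizer ((⁅Q, K⁆ : Subgroup G) : Set G) :=
    le_normalizer_of_comm fun e he v hv => hPQ e (hPK he) v (hQK hv)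
  obtain ⟨e, he, v, hv, rfl⟩ := Cfsg.Agent.Lib.BGTau3.mul_of_mem_sup hn (hle (Op_le p _ ha))
  have hvP : v ∈ P := by
    have h1 : v = e⁻¹ * (e * v) := by group
    rw [h1]
    exact mul_mem (inv_mem (hPK he)) ha
  have hv1 : v = 1 := by
    have h2 : v ∈ P ⊓ Q := ⟨hvP, hQK hv⟩
    rw [Op_inf_Opp] at h2
    exact h2
  rw [hv1, mul_one]
  exact he

/-- The power of a conjugation automorphism. -/
theorem conjOn_pow_apply (P : Subgroup G) (g : G) (hg : g ∈ normalizer (P : Set G)) (n : ℕ) (y : P) :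
    (((conjOn P g hg ^ n : MulAut P) y : P) : G) = g ^ n * y * (g ^ n)⁻¹ := by
  induction n with
  | zero => simp
  | succ n ih =>
    rw [pow_succ', MulAut.mul_apply, conjOn_apply, ih, pow_succ']
    group

/-- **Case of rank two**. -/
theorem case_b (D : NCtx M K U N x p) (hr : PRankLE p 2 ↥(Op p (sigmaCore M))) :
    Nat.card K ∣ p - 1 ∨ (Nat.card ↥(Op p (sigmaCore M)) = p ^ 3 ∧ Nat.card K ∣ p + 1) := by
  classical
  have hG := D.C.I.hG
  set P := Op p (sigmaCore M) with hPd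
  set kst := sigmaCore M ⊓ centralizer (K : Set G) with hkst
  have hPp : IsPGroup p P := isPGroup_Op p _
  have hxP : x ∈ P := D.x_mem_Op
  have hp2 : p ≠ 2 := odd_p D.C (by rw [← D.order_x]; exact orderOf_dvd_natCard x)
  have hP1 : P ≠ ⊥ := by
    intro h
    rw [h] at hxP
    exact D.hx1 hxP
  have hKn := D.C.K_norm p
  have hcop : (Nat.card K).Coprime p := by
    apply Nat.Coprime.symm
    rw [Nat.Prime.coprime_iff_not_dvd hp.out]
    intro hd
    exact Cfsg.Agent.Lib.BGCent.not_kappa_of_sigma (p_sigma D) (D.C.hKU.hall.2.1 p hp.out hd)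
  have hodd : Odd (Nat.card K) := Odd.of_dvd_nat hG.1 (Subgroup.card_subgroup_dvd_card _)
  obtain ⟨-, hor⟩ := Cfsg.Agent.S1448.result p hp2 P K hPp hP1 hr hKn hcop hodd (comm_Op D.C p)
  obtain ⟨R₁, R₂, hsup, hcomm, hnab, hc3, hexp, hcyc, hclo⟩ := hor.resolve_left D.P_not_comm
  have hR₁P : R₁ ≤ P := hsup ▸ le_sup_left
  have hR₂P : R₂ ≤ P := hsup ▸ le_sup_right
  have hR₂c : ∀ a ∈ R₂, ∀ b ∈ R₂, a * b = b * a := fun a ha b hb => mul_comm_of_isCyclic hcyc ha hb
  have hR₁N : R₁ ≤ normalizer (R₂ : Set G) := le_normalizer_of_comm hcomm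
  have hsplit : ∀ a ∈ P, ∃ r ∈ R₁, ∃ s ∈ R₂, a = r * s := by
    intro a ha
    rw [← hsup] at ha
    exact Cfsg.Agent.Lib.BGTau3.mul_of_mem_sup hR₁N ha
  have hder : ⁅P, P⁆ ≤ ⁅R₁, R₁⁆ := by
    rw [Subgroup.commutator_le]
    intro g hg g' hg'
    obtain ⟨a, ha, b, hb, rfl⟩ := hsplit g hg
    obtain ⟨a', ha', b', hb', rfl⟩ := hsplit g' hg'
    rw [comm_elim (hcomm a ha b' hb') (hcomm a' ha' b hb) (hR₂c b hb b' hb')]
    exact Subgroup.commutator_mem_commutator ha ha'
  have hkR₁' : kst ≤ ⁅R₁, R₁⁆ := D.kst_le_P.trans hder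
  have hkR₁ : kst ≤ R₁ := hkR₁'.trans (derived_le R₁)
  have hkR₂ : kst ≤ R₂ := by
    refine hkR₁'.trans ?_
    rw [← hclo, closure_le]
    rintro y ⟨hy, -⟩
    exact hy
  obtain ⟨z, hz, hz1⟩ := exists_mem_ne_one D.C.kst_ne
  obtain ⟨u, v, huv⟩ : ∃ u v : R₁, u * v ≠ v * u := by
    by_contra hall
    push Not at hall
    exact hnab ⟨⟨hall⟩⟩
  have hcen := Cfsg.Agent.Lib.ExtraAut.card_center (p := p) hc3 huv
  have hRcen : ∀ c ∈ R₁, (∀ a ∈ R₁, c * a = a * c) → c ∈ kst := by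
    have hle : kst ≤ (center R₁).map R₁.subtype := by
      intro y hy
      refine ⟨⟨y, hkR₁ hy⟩, ?_, rfl⟩
      refine mem_center_iff.mpr ?_
      rintro ⟨a, ha⟩
      apply Subtype.ext
      exact hcomm a ha y (hkR₂ hy)
    have heq : kst = (center R₁).map R₁.subtype := by
      apply Subgroup.eq_of_le_of_card_ge hle
      rw [Subgroup.card_map_of_injective R₁.subtype_injective, hcen, D.card_kst]
    intro c hc hca
    rw [heq]
    refine ⟨⟨c, hc⟩, ?_, rfl⟩
    refine mem_center_iff.mpr ?_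
    rintro ⟨a, ha⟩
    apply Subtype.ext
    exact (hca a ha).symm
  have hPcen : ∀ c ∈ P, (∀ a ∈ P, c * a = a * c) → c ∈ R₂ := by
    intro c hc hca
    obtain ⟨r, hr, s, hs, rfl⟩ := hsplit c hc
    have hrk : r ∈ kst := by
      apply hRcen r hr
      intro a ha
      have h1 := hca a (hR₁P ha)
      have h2 : s * a = a * s := (hcomm a ha s hs).symm
      have h3 : r * s * a = r * a * s := by rw [mul_assoc, h2, mul_assoc]
      have h4 : a * (r * s) = a * r * s := by rw [mul_assoc]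
      rw [h3, h4] at h1
      exact mul_right_cancel h1
    exact mul_mem (hkR₂ hrk) hs
  have hR₂cen : ∀ c ∈ R₂, ∀ a ∈ P, c * a = a * c := by
    intro c hc a ha
    obtain ⟨r, hr, s, hs, rfl⟩ := hsplit a ha
    rw [← mul_assoc, ← hcomm r hr c hc, mul_assoc, hR₂c c hc s hs, mul_assoc]
  have hKR₂ : K ≤ normalizer (R₂ : Set G) := by
    intro k hk
    apply Cfsg.Agent.Lib.BGP2C.mem_normalizer_of_conj_mem
    intro c hc
    apply hPcen
    · exact (mem_normalizer_iff.mp (hKn hk) c).mp (hR₂P hc)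
    · intro a ha
      have ha' : k⁻¹ * a * k ∈ P := by
        have := (mem_normalizer_iff.mp (hKn (inv_mem hk)) a).mp ha
        simpa using this
      have h1 := hR₂cen c hc _ ha'
      calc k * c * k⁻¹ * a = k * (c * (k⁻¹ * a * k)) * k⁻¹ := by group
        _ = k * ((k⁻¹ * a * k) * c) * k⁻¹ := by rw [h1]
        _ = a * (k * c * k⁻¹) := by group
  have hR₂p : IsPGroup p R₂ := hPp.to_le hR₂P
  have hKz : ∀ k ∈ K, ∀ y ∈ kst, k * y * k⁻¹ = y := by
    intro k hk y hy
    have h1 : k * y = y * k := mem_centralizer_iff.mp hy.2 k hk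
    rw [h1]; group
  have hcen2 : ∀ k ∈ K, ∀ c ∈ R₂, k * c * k⁻¹ = c := by
    intro k hk c hc
    exact centralizes_cyclic_coprime hcyc hR₂p (hKR₂ hk) (p_not_dvd_K D hk) (hkR₂ hz) hz1 (hKz k hk z hz) hc
  have hR₂k : R₂ ≤ kst := by
    intro c hc
    refine ⟨Op_le p _ (hR₂P hc), ?_⟩
    show c ∈ centralizer (K : Set G)
    rw [mem_centralizer_iff]
    intro k hk
    have h1 := hcen2 k hk c hc
    calc k * c = (k * c * k⁻¹) * k := by group
      _ = c * k := by rw [h1]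
  have hPR₁ : P = R₁ := by
    apply le_antisymm _ hR₁P
    rw [← hsup]
    exact sup_le le_rfl (hR₂k.trans hkR₁)
  have hcP : Nat.card ↥P = p ^ 3 := by rw [hPR₁]; exact hc3
  have hPe : ∀ a : ↥P, a ^ p = 1 := by
    rintro ⟨a, ha⟩
    have ha' : a ∈ R₁ := hPR₁ ▸ ha
    have h1 := Monoid.pow_exponent_eq_one (⟨a, ha'⟩ : R₁)
    rw [hexp] at h1
    apply Subtype.ext
    have h2 : a ^ p = 1 := congrArg Subtype.val h1
    exact h2
  have hna : ¬ ∀ a b : ↥P, a * b = b * a := by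
    intro h
    exact D.P_not_comm ⟨⟨h⟩⟩
  haveI : IsCyclic K := D.C.hKU.cyclic
  obtain ⟨g₀, hg₀⟩ := IsCyclic.exists_generator (α := K)
  have hcK : orderOf (g₀ : G) = Nat.card K := by
    rw [Subgroup.orderOf_coe]
    exact orderOf_eq_card_of_forall_mem_zpowers hg₀
  set g : G := (g₀ : G) with hg
  have hgK : g ∈ K := g₀.2
  set φ : MulAut ↥P := conjOn P g (hKn hgK) with hφ
  have hφpow : ∀ (n : ℕ) (y : ↥P), (((φ ^ n) y : ↥P) : G) = g ^ n * y * (g ^ n)⁻¹ :=
    fun n y => conjOn_pow_apply P g (hKn hgK) n y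
  have hφg : ∀ n : ℕ, g ^ n = 1 → φ ^ n = 1 := by
    intro n hn
    ext y
    rw [hφpow, hn]
    simp
  have hcentP : ∀ y : ↥P, (y : G) ∈ kst → y ∈ center ↥P := by
    intro y hy
    rw [mem_center_iff]
    rintro ⟨b, hb⟩
    apply Subtype.ext
    exact (hR₂cen y (hkR₂ hy) b hb).symm
  have hfix : ∀ (n : ℕ) (y : ↥P), g ^ n ≠ 1 → g ^ n * y * (g ^ n)⁻¹ = y → (y : G) ∈ kst := by
    intro n y hn hy
    rw [hkst, ← D.C.cent_k (pow_mem hgK n) hn]
    refine ⟨Op_le p _ y.2, ?_⟩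
    show (y : G) ∈ centralizer ({g ^ n} : Set G)
    rw [mem_centralizer_singleton_iff]
    calc (y : G) * g ^ n = g ^ n * y * (g ^ n)⁻¹ * g ^ n := by rw [hy]
      _ = g ^ n * y := by group
  have hgφ : ∀ n : ℕ, φ ^ n = 1 → g ^ n = 1 := by
    intro n hn
    by_contra hne
    have hle : P ≤ kst := by
      intro y hy
      apply hfix n ⟨y, hy⟩ hne
      have h1 := hφpow n ⟨y, hy⟩
      rw [hn] at h1
      exact h1.symm
    have h3 := Subgroup.card_le_of_le hle
    rw [hcP, D.card_kst] at h3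
    have h4 : p ^ 3 > p := by
      have h5 := hp.out.two_le
      have h6 : p ^ 3 = p * p * p := by ring
      nlinarith
    omega
  have hord : ¬ p ∣ orderOf φ := by
    intro h
    have h1 : orderOf φ ∣ orderOf g := orderOf_dvd_of_pow_eq_one (hφg _ (pow_orderOf_eq_one g))
    exact p_not_dvd_K D hgK (h.trans h1)
  have hres := Cfsg.Agent.Lib.ExtraAut.aut_extra (P := ↥P) hp2 hcP hPe hna φ
    (by
      intro y hy
      apply Subtype.ext
      have h1 : (y : G) ∈ kst := by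
        apply hR₂k
        apply hPcen y y.2
        intro a ha
        have := mem_center_iff.mp hy ⟨a, ha⟩
        exact (congrArg Subtype.val this).symm
      exact hKz g hgK y h1)
    hord
    (by
      intro n hn y hy
      have hn' : g ^ n ≠ 1 := fun h => hn (hφg n h)
      apply hcentP
      apply hfix n y hn'
      rw [← hφpow, hy])
  rcases hres with h | h
  · left
    rw [← hcK]
    exact orderOf_dvd_of_pow_eq_one (hgφ _ h)
  · right
    refine ⟨hcP, ?_⟩
    rw [← hcK]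
    exact orderOf_dvd_of_pow_eq_one (hgφ _ h)

/-- The conclusion of Type `V` when `K ≠ 1`, `U = 1`, `M_F = M_σ`. -/
theorem clause_V (C : VCtx M K U) :
    IsTISubset (fittingHallOf M : Set G) ∨
      (∃ p : ℕ, p.Prime ∧ p ∣ Nat.card (fittingHallOf M) ∧ Nat.card K ∣ p - 1 ∧
        IsCyclic (pPrimeCore p (fittingHallOf M))) ∨
      (∃ p : ℕ, p.Prime ∧ p ∣ Nat.card (fittingHallOf M) ∧
        Nat.card (pCore p (fittingHallOf M)) = p ^ 3 ∧
        Nat.card K ∣ p + 1 ∧ IsCyclic (pPrimeCore p (fittingHallOf M))) := by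
  classical
  have hG := C.I.hG
  by_cases hTI : IsTISubset (fittingHallOf M : Set G)
  · exact Or.inl hTI
  right
  unfold IsTISubset at hTI
  push Not at hTI
  obtain ⟨g, hg, x₀, hx₀, hgx, hx₀1⟩ := hTI
  have hgM : g ∉ M := fun h => hg (normal_fittingHallOf M h)
  rw [C.hF] at hgx hx₀
  have hgx' : g * x₀ * g⁻¹ ∈ sigmaCore M := hgx
  have hx₀' : x₀ ∈ sigmaCore M := hx₀
  have ho1 : orderOf x₀ ≠ 1 := fun h => hx₀1 (orderOf_eq_one_iff.mp h)
  set p := (orderOf x₀).minFac with hpdef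
  have hpp : p.Prime := Nat.minFac_prime ho1
  haveI : Fact p.Prime := ⟨hpp⟩
  have hpd : p ∣ orderOf x₀ := Nat.minFac_dvd _
  set x := x₀ ^ (orderOf x₀ / p) with hxdef
  have hxo : orderOf x = p := by
    rw [hxdef, orderOf_pow_orderOf_div (orderOf_pos x₀).ne' hpd]
  have hxp : x ^ p = 1 := by rw [← hxo]; exact pow_orderOf_eq_one x
  have hx1 : x ≠ 1 := by
    intro h
    rw [h, orderOf_one] at hxo
    exact hpp.one_lt.ne hxo
  have hx : x ∈ sigmaCore M := pow_mem hx₀' _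
  have hgxx : g * x * g⁻¹ ∈ sigmaCore M := by
    rw [hxdef, ← conj_pow]
    exact pow_mem hgx' _
  have hpσ : p ∈ sigma M := by
    apply primes_sigmaCore p hpp
    rw [← hxo]
    exact Subgroup.orderOf_dvd_natCard _ hx
  have hxM' : x ∈ M := sigmaCore_le hx
  have hxM : ¬ centralizer ({x} : Set G) ≤ M := by
    intro hle
    have hXp : IsPGroup p (zpowers x) := by
      rw [IsPGroup.iff_card]
      exact ⟨1, by rw [Nat.card_zpowers, hxo, pow_one]⟩
    have hX1 : zpowers x ≠ ⊥ := by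
      rw [Ne, zpowers_eq_bot]
      exact hx1
    have hXM : zpowers x ≤ M := by
      rw [zpowers_le]; exact hxM'
    have hmap : (zpowers x).map (MulAut.conj g).toMonoidHom ≤ M := by
      rw [Subgroup.map_le_iff_le_comap, zpowers_le]
      show g * x * g⁻¹ ∈ M
      exact sigmaCore_le hgxx
    obtain ⟨m, hm, c, hc, rfl⟩ := (Cfsg.Agent.S1404.result hG M C.hM p hpσ (zpowers x) hXp hX1 hXM).1 g hmap
    apply hgM
    refine mul_mem hm (hle ?_)
    rw [mem_centralizer_singleton_iff]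
    have h1 := mem_centralizer_iff.mp hc x (mem_zpowers x)
    exact h1.symm
  obtain ⟨N, ⟨hN, hxN⟩, -, -, hRn, hRc, hMN, -⟩ := Cfsg.Agent.S1375.result hG M C.hM x hx hx1 hxM
  have D : NCtx M K U N x p := ⟨C, hx, hx1, hxp, hxM, hN, hxN, hRn, hRc, hMN⟩
  have hQ : IsCyclic (pPrimeCore p (fittingHallOf M)) := by
    rw [C.hF]
    haveI h1 : IsCyclic (Opp p (sigmaCore M)) := D.Q_cyclic
    haveI h2 : IsCyclic ((pPrimeCore p ↥(sigmaCore M)).map (sigmaCore M).subtype) := h1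
    exact isCyclic_of_injective
      (Subgroup.equivMapOfInjective (pPrimeCore p ↥(sigmaCore M)) (sigmaCore M).subtype
        (sigmaCore M).subtype_injective).toMonoidHom (MulEquiv.injective _)
  have hdvd : p ∣ Nat.card (fittingHallOf M) := by
    rw [C.hF, ← hxo]
    exact Subgroup.orderOf_dvd_natCard _ hx
  have hcase : Nat.card K ∣ p - 1 ∨ (Nat.card ↥(Op p (sigmaCore M)) = p ^ 3 ∧ Nat.card K ∣ p + 1) := by
    by_cases hr : PRankLE p 2 ↥(Op p (sigmaCore M))
    · exact case_b D hr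
    · exact Or.inl (case_a D hr)
  rcases hcase with h | ⟨h3, h⟩
  · exact Or.inl ⟨p, hpp, hdvd, h, hQ⟩
  · refine Or.inr ⟨p, hpp, hdvd, ?_, h, hQ⟩
    rw [C.hF, ← h3]
    exact (Subgroup.card_map_of_injective (sigmaCore M).subtype_injective).symm

theorem s1383 (I : Inp G) (M : Subgroup G) (hM : IsCoatom M) (K U : Subgroup G)
    (hKU : IsSigmaDecomposition M K U) :
    IsOfTypeV M ↔ (K ≠ ⊥ ∧ U = ⊥ ∧ fittingHallOf M = sigmaCore M) := by
  classical
  constructor
  · rintro ⟨W₁, V, W₂, T, hV, -⟩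
    exact fwd_V I hM hKU T hV
  · rintro ⟨hK1, hU, hF⟩
    have hD : ⁅M, M⁆ = sigmaCore M := by
      rw [derived_eq I hM hKU hK1, hU, bot_sup_eq]
    have hnil : Group.IsNilpotent (⊥ : Subgroup G) := inferInstance
    have hVc : IsComplIn (fittingHallOf M) ⊥ ⁅M, M⁆ := by
      rw [hD, hF]
      refine ⟨le_rfl, bot_le, inf_bot_eq _, ?_⟩
      intro m hm
      exact ⟨m, hm, 1, one_mem _, (mul_one m).symm⟩
    have hVn : K ≤ normalizer ((⊥ : Subgroup G) : Set G) := by
      intro k hk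
      rw [mem_normalizer_iff]
      intro y
      simp
    exact ⟨K, ⊥, _, typeP I hM hKU hK1 hnil hVn hVc, rfl, clause_V ⟨I, hM, hKU, hK1, hU, hF⟩⟩

end Cfsg.Agent.Lib.BGZK
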