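import Mathlib
import Cfsg.Agent.Lib.BGTy6
import Cfsg.Agent.S1355
import Cfsg.Agent.Lib.BGZI
import Cfsg.Agent.S1357
import Cfsg.Agent.S1364
import Cfsg.Agent.S1372
import Cfsg.Agent.S1376
import Cfsg.Agent.S1381
import Cfsg.Agent.S1382
import Cfsg.Agent.S1383
import Cfsg.Agent.S1436
import Cfsg.Agent.S1437

/-!
# The input for the language of types, from the statements landed.
-/

set_option autoImplicit false
set_option linter.unusedSectionVars false
set_option linter.unusedVariables false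
set_option linter.style.haveILetI false
set_option linter.unusedSimpArgs false

namespace Cfsg.Agent.Lib.BGTy9

open Cfsg Subgroup Cfsg.Agent.Lib.CoprimeInv Cfsg.Agent.Lib.BGTrans Cfsg.Agent.Lib.BGM1
  Cfsg.Agent.Lib.BGM2 Cfsg.Agent.Lib.BGZ1 Cfsg.Agent.Lib.OddOrderCore
  Cfsg.Agent.Lib.BGZ2 Cfsg.Agent.Lib.BGZ3 Cfsg.Agent.Lib.BGZ5 Cfsg.Agent.Lib.BGZ8 Cfsg.Agent.Lib.BGZ9 Cfsg.Agent.Lib.BGZB
  Cfsg.Agent.Lib.BGCent Cfsg.Agent.Lib.BGTy1 Cfsg.Agent.Lib.BGTy2 Cfsg.Agent.Lib.BGTy3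
  Cfsg.Agent.Lib.BGTy4 Cfsg.Agent.Lib.BGTy5 Cfsg.Agent.Lib.BGTy6

universe u

variable {G : Type u} [Group G] [Finite G]

/-- A subgroup of Frobenius type has no `κ`-part. -/
theorem K_eq_bot_of_typeF (hG : IsMinSimpleOddOrder G) {M K U : Subgroup G} (hM : IsCoatom M)
    (hd : IsSigmaDecomposition M K U) (hF : IsOfTypeF ↥M) : K = ⊥ := by
  by_contra hK
  obtain ⟨hsolv, -, -, -, V, -, hc, -, U₀, hU₀, hexp, hfpf⟩ := hF
  have hc1 : Nat.card K ≠ 1 := fun h => hK (Subgroup.eq_bot_of_card_eq _ h)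
  obtain ⟨p, hp, hpd⟩ := Nat.exists_prime_and_dvd hc1
  haveI : Fact p.Prime := ⟨hp⟩
  have hpk : p ∈ kappa M := hd.hall.2.1 p hp hpd
  have hKM : K ≤ M := hd.hall.1
  have hpM : p ∣ Nat.card M := hpd.trans (Subgroup.card_dvd_of_le hKM)
  have hpH : ¬ p ∣ Nat.card (fittingHall ↥M) := by
    intro h
    rw [← card_fittingHallOf M] at h
    have h2 := Nat.dvd_trans h (Subgroup.card_dvd_of_le (Cfsg.Agent.Lib.BGCent.fittingHallOf_le_sigmaCore hG hM))
    exact hpk.2.2.1 (primes_sigmaCore p hp h2)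
  have hpV : p ∣ Nat.card V := by
    have h3 := hc.card_mul
    rw [← h3] at hpM
    exact (hp.dvd_mul.mp hpM).resolve_left hpH
  obtain ⟨v, hv⟩ := exists_prime_orderOf_dvd_card' p hpV
  have hpe : p ∣ Monoid.exponent U₀ := by
    rw [hexp, ← hv]
    exact Monoid.order_dvd_exponent v
  have hpU : p ∣ Nat.card U₀ := hpe.trans Group.exponent_dvd_nat_card
  obtain ⟨u, hu⟩ := exists_prime_orderOf_dvd_card' p hpU
  have hu1 : (u : ↥M) ≠ 1 := by
    intro h
    have : u = 1 := Subtype.ext h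
    rw [this, orderOf_one] at hu
    exact hp.one_lt.ne hu
  have hou : orderOf ((u : ↥M) : G) = p := by
    rw [← hu, Subgroup.orderOf_coe, Subgroup.orderOf_coe]
  have hBM : Subgroup.zpowers ((u : ↥M) : G) ≤ M := by
    rw [Subgroup.zpowers_le]
    exact (u : ↥M).2
  obtain ⟨g, hg, hle⟩ := exists_conj_hall hsolv hd.hall hBM (by
    intro r hr hrd
    rw [Nat.card_zpowers, hou] at hrd
    rw [(Nat.prime_dvd_prime_iff_eq hr hp).mp hrd]
    exact hpk)
  have huK : ((u : ↥M) : G) ∈ cj K g := hle (Subgroup.mem_zpowers _)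
  rw [mem_cj] at huK
  have h64 := (Cfsg.Agent.S1364.result hG M hM K U hd hK)
  obtain ⟨-, hne, hleF, -⟩ := h64
  obtain ⟨z, hz, hz1⟩ := (Subgroup.bot_or_exists_ne_one _).resolve_left hne
  have hzF := hleF hz
  have hcomm : g⁻¹ * ((u : ↥M) : G) * g * z = z * (g⁻¹ * ((u : ↥M) : G) * g) := by
    have := (Subgroup.mem_centralizer_iff.mp (Subgroup.mem_inf.mp hz).2) _ huK
    exact this
  have hgzF : g * z * g⁻¹ ∈ fittingHallOf M :=
    (mem_normalizer_iff.mp (Cfsg.Agent.Lib.BGZI.normal_fittingHallOf M hg) z).mp hzF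
  obtain ⟨x, hx, hxe⟩ := hgzF
  have hxx : (x : G) = g * z * g⁻¹ := hxe
  have hcx : (u : ↥M) * x = x * (u : ↥M) := by
    apply Subtype.ext
    simp only [Subgroup.coe_mul]
    rw [hxx]
    have e1 : ((u : ↥M) : G) * (g * z * g⁻¹) = g * (g⁻¹ * ((u : ↥M) : G) * g * z) * g⁻¹ := by group
    have e2 : g * z * g⁻¹ * ((u : ↥M) : G) = g * (z * (g⁻¹ * ((u : ↥M) : G) * g)) * g⁻¹ := by group
    rw [e1, e2, hcomm]
  have hx1 := hfpf (u : ↥M) u.2 hu1 x hx hcx
  apply hz1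
  have : g * z * g⁻¹ = 1 := by
    rw [← hxx, hx1]; rfl
  have h5 : z = g⁻¹ * (g * z * g⁻¹) * g := by group
  rw [h5, this]; group

/-- The input for the statements. -/
theorem tyInp_of (hG : IsMinSimpleOddOrder G) : TyInp G where
  hG := hG
  s55 := fun M hM => by
    obtain ⟨h1, h2, h3, h4, -⟩ := Cfsg.Agent.S1355.result hG M hM
    exact ⟨h1, h2, h3, h4⟩
  s57 := fun M hM K U hd hne => Cfsg.Agent.S1357.result hG M hM K U hd hne
  s37 := fun M hM K U hd hne => (Cfsg.Agent.S1437.result hG M hM K U hd hne).2.1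
  s72 := fun M hM K U hd hK hU => (Cfsg.Agent.S1372.result hG M hM K U hd hK hU).2
  s80 := fun M hM K U hd hI => by
    have hK := K_eq_bot_of_typeF hG hM hd hI.1
    refine ⟨hK, ?_⟩
    rintro rfl
    subst hK
    have h1 := sup_eq_of_dec hd
    simp only [bot_sup_eq] at h1
    obtain ⟨h1', h2, h3, h4, -⟩ := Cfsg.Agent.S1355.result hG M hM
    rw [h1] at h3
    exact (lt_of_le_of_lt h3 h4).false
  s81 := fun M hM K U hd => Cfsg.Agent.S1381.result hG M hM K U hd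
  s82 := fun M hM K U hd => Cfsg.Agent.S1382.result hG M hM K U hd
  s83 := fun M hM K U hd => Cfsg.Agent.S1383.result hG M hM K U hd
  s36 := fun M hM x hx hx1 hxM N hN hxN => (Cfsg.Agent.S1436.result hG M hM x hx hx1 hxM N hN hxN).1
  s76 := fun M hM x hx hx1 hxM N hN hxN hk => by
    obtain ⟨h1, h2, -⟩ := Cfsg.Agent.S1376.result hG M hM x hx hx1 hxM N hN hxN hk
    exact ⟨h1, h2⟩

end Cfsg.Agent.Lib.BGTy9
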