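import Mathlib

/-!
# Frobenius-type actions on abelian groups (for the Uniqueness Theorem)

`frob_rel`: relative form of the double-product computation: a Frobenius-type pair `P`, `Y`
acting on an invariant subgroup `W` of an abelian group, without fixed points of either, forces
`w ^ |P| = 1` on `W`.

`two_frob`: the weight-free contradiction used in the last step of the Uniqueness Theorem.
-/

set_option autoImplicit false
set_option linter.unusedSectionVars false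
set_option linter.unusedVariables false

namespace Cfsg.Agent.Lib.BGUT1

open Subgroup

universe u v

section frob

variable {Γ : Type u} {V : Type v} [Group Γ] [Finite Γ] [CommGroup V]

/-- Relative form of the Frobenius fixed point computation. -/
theorem frob_rel (ρ : Γ →* MulAut V) (P Y : Subgroup Γ)
    (hYP : ∀ c ∈ Y, ∀ x ∈ P, c * x * c⁻¹ ∈ P)
    (hfpf : ∀ c ∈ Y, c ≠ 1 → ∀ x ∈ P, x * c = c * x → x = 1)
    (W : Subgroup V) (hWP : ∀ x ∈ P, ∀ w ∈ W, ρ x w ∈ W) (hWY : ∀ c ∈ Y, ∀ w ∈ W, ρ c w ∈ W)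
    (hP : ∀ w ∈ W, (∀ x ∈ P, ρ x w = w) → w = 1)
    (hY : ∀ w ∈ W, (∀ c ∈ Y, ρ c w = w) → w = 1) {v : V} (hv : v ∈ W) :
    v ^ Nat.card P = 1 := by
  classical
  cases nonempty_fintype P
  cases nonempty_fintype Y
  -- norms are fixed
  have hNP : ∀ w ∈ W, ∏ x : P, ρ (x : Γ) w = 1 := by
    intro w hw
    apply hP
    · exact W.prod_mem fun x _ => hWP x x.2 w hw
    · intro y hy
      rw [map_prod]
      apply Fintype.prod_equiv (Equiv.mulLeft (⟨y, hy⟩ : P))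
      intro x
      simp
  have hNY : ∀ w ∈ W, ∏ c : Y, ρ (c : Γ) w = 1 := by
    intro w hw
    apply hY
    · exact W.prod_mem fun x _ => hWY x x.2 w hw
    · intro y hy
      rw [map_prod]
      apply Fintype.prod_equiv (Equiv.mulLeft (⟨y, hy⟩ : Y))
      intro x
      simp
  -- the double product
  have hS1 : ∏ x : P, ∏ c : Y, ρ ((x : Γ) * (c : Γ) * (x : Γ)⁻¹) v = 1 := by
    apply Finset.prod_eq_one
    intro x _
    have : ∏ c : Y, ρ ((x : Γ) * (c : Γ) * (x : Γ)⁻¹) v =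
        ρ (x : Γ) (∏ c : Y, ρ (c : Γ) (ρ (x : Γ)⁻¹ v)) := by
      rw [map_prod]
      apply Finset.prod_congr rfl
      intro c _
      rw [map_mul, map_mul, map_inv]
      rfl
    rw [this, hNY _ (hWP _ (P.inv_mem x.2) v hv), map_one]
  have hS2 : ∏ c : Y, ∏ x : P, ρ ((x : Γ) * (c : Γ) * (x : Γ)⁻¹) v = v ^ Nat.card P := by
    rw [Finset.prod_eq_single (1 : Y)]
    · have h0 : ∀ x : P, ρ ((x : Γ) * (((1 : Y) : Γ)) * (x : Γ)⁻¹) v = v := by
        intro x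
        have : (x : Γ) * (((1 : Y) : Γ)) * (x : Γ)⁻¹ = 1 := by simp
        rw [this, map_one]
        rfl
      rw [Finset.prod_congr rfl (fun x _ => h0 x), Finset.prod_const, Finset.card_univ,
        Nat.card_eq_fintype_card]
    · intro c _ hc
      have hc' : (c : Γ) ≠ 1 := fun h => hc (Subtype.ext h)
      let φ : P → P := fun x => x * ⟨(c : Γ) * (x : Γ)⁻¹ * (c : Γ)⁻¹, hYP c c.2 _ (P.inv_mem x.2)⟩
      have hφinj : Function.Injective φ := by
        intro x x' h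
        have h1 : (x : Γ) * ((c : Γ) * (x : Γ)⁻¹ * (c : Γ)⁻¹) =
            (x' : Γ) * ((c : Γ) * (x' : Γ)⁻¹ * (c : Γ)⁻¹) := congrArg Subtype.val h
        have hu : (x' : Γ)⁻¹ * (x : Γ) ∈ P := P.mul_mem (P.inv_mem x'.2) x.2
        have h2 : ((x' : Γ)⁻¹ * (x : Γ)) * (c : Γ) = (c : Γ) * ((x' : Γ)⁻¹ * (x : Γ)) := by
          have h3 : (x' : Γ)⁻¹ * (x : Γ) = (c : Γ) * (x' : Γ)⁻¹ * (c : Γ)⁻¹ * ((c : Γ) * (x : Γ)⁻¹ * (c : Γ)⁻¹)⁻¹ := by
            calc (x' : Γ)⁻¹ * (x : Γ) = (x' : Γ)⁻¹ * ((x : Γ) * ((c : Γ) * (x : Γ)⁻¹ * (c : Γ)⁻¹)) * ((c : Γ) * (x : Γ)⁻¹ * (c : Γ)⁻¹)⁻¹ := by group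
              _ = (x' : Γ)⁻¹ * ((x' : Γ) * ((c : Γ) * (x' : Γ)⁻¹ * (c : Γ)⁻¹)) * ((c : Γ) * (x : Γ)⁻¹ * (c : Γ)⁻¹)⁻¹ := by rw [h1]
              _ = _ := by group
          calc ((x' : Γ)⁻¹ * (x : Γ)) * (c : Γ) = ((c : Γ) * (x' : Γ)⁻¹ * (c : Γ)⁻¹ * ((c : Γ) * (x : Γ)⁻¹ * (c : Γ)⁻¹)⁻¹) * (c : Γ) := by rw [← h3]
            _ = (c : Γ) * ((x' : Γ)⁻¹ * (x : Γ)) := by group
        have h4 := hfpf c c.2 hc' _ hu h2
        have h5 : (x : Γ) = (x' : Γ) := by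
          have := congrArg (fun z => (x' : Γ) * z) h4
          simpa using this
        exact Subtype.ext h5
      have hφbij : Function.Bijective φ := Finite.injective_iff_bijective.mp hφinj
      have : ∏ x : P, ρ ((x : Γ) * (c : Γ) * (x : Γ)⁻¹) v = ∏ x : P, ρ ((φ x : P) : Γ) (ρ (c : Γ) v) := by
        apply Finset.prod_congr rfl
        intro x _
        have : (x : Γ) * (c : Γ) * (x : Γ)⁻¹ = ((φ x : P) : Γ) * (c : Γ) := by
          show (x : Γ) * (c : Γ) * (x : Γ)⁻¹ = ((x : Γ) * ((c : Γ) * (x : Γ)⁻¹ * (c : Γ)⁻¹)) * (c : Γ)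
          group
        rw [this, map_mul]
        rfl
      rw [this, hφbij.prod_comp (fun x : P => ρ (x : Γ) (ρ (c : Γ) v)), hNP _ (hWY _ c.2 v hv)]
    · simp
  rw [← hS2, Finset.prod_comm, hS1]

/-- The norm attached to a subgroup `P`, as an endomorphism of `V`. -/
noncomputable def normHom (ρ : Γ →* MulAut V) (P : Subgroup Γ) : V →* V :=
  letI : Fintype P := Fintype.ofFinite P
  { toFun := fun v => ∏ x : P, ρ (x : Γ) v
    map_one' := by simp
    map_mul' := fun a b => by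
      simp only [map_mul]
      exact Finset.prod_mul_distrib }

theorem normHom_apply (ρ : Γ →* MulAut V) (P : Subgroup Γ) [Fintype P] (v : V) :
    normHom ρ P v = ∏ x : P, ρ (x : Γ) v := by
  classical
  show (letI : Fintype P := Fintype.ofFinite P; ∏ x : P, ρ (x : Γ) v) = _
  exact Finset.prod_congr (by ext; simp) (fun _ _ => rfl)

/-- The norm is fixed by `P`. -/
theorem normHom_fixed (ρ : Γ →* MulAut V) (P : Subgroup Γ) {x : Γ} (hx : x ∈ P) (v : V) :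
    ρ x (normHom ρ P v) = normHom ρ P v := by
  classical
  cases nonempty_fintype P
  rw [normHom_apply, map_prod]
  apply Fintype.prod_equiv (Equiv.mulLeft (⟨x, hx⟩ : P))
  intro y
  simp

/-- The norm intertwines `ρ g`, for `g` normalizing `P`. -/
theorem normHom_of_normalizer (ρ : Γ →* MulAut V) (P : Subgroup Γ) {g : Γ}
    (hg : g ∈ normalizer (P : Set Γ)) (v : V) :
    normHom ρ P (ρ g v) = ρ g (normHom ρ P v) := by
  classical
  cases nonempty_fintype P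
  rw [normHom_apply, normHom_apply, map_prod]
  let φ : P → P := fun x => ⟨g * (x : Γ) * g⁻¹, (mem_normalizer_iff.mp hg _).mp x.2⟩
  have hφinj : Function.Injective φ := by
    intro x x' h
    have h1 : g * (x : Γ) * g⁻¹ = g * (x' : Γ) * g⁻¹ := congrArg Subtype.val h
    apply Subtype.ext
    have := congrArg (fun z => g⁻¹ * z * g) h1
    simpa [mul_assoc] using this
  have hφbij : Function.Bijective φ := Finite.injective_iff_bijective.mp hφinj
  rw [← hφbij.prod_comp (fun x : P => ρ (x : Γ) (ρ g v))]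
  apply Finset.prod_congr rfl
  intro x _
  show ρ (g * (x : Γ) * g⁻¹) (ρ g v) = ρ g (ρ (x : Γ) v)
  rw [map_mul, map_mul, map_inv]
  simp [MulAut.mul_apply]

/-- The kernel of the norm: the part of `V` without nontrivial fixed points of `P`. -/
noncomputable def uPart (ρ : Γ →* MulAut V) (P : Subgroup Γ) : Subgroup V := (normHom ρ P).ker

theorem mem_uPart {ρ : Γ →* MulAut V} {P : Subgroup Γ} {v : V} :
    v ∈ uPart ρ P ↔ normHom ρ P v = 1 := MonoidHom.mem_ker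

theorem uPart_stable {ρ : Γ →* MulAut V} {P : Subgroup Γ} {g : Γ}
    (hg : g ∈ normalizer (P : Set Γ)) {v : V} (hv : v ∈ uPart ρ P) : ρ g v ∈ uPart ρ P := by
  rw [mem_uPart] at hv ⊢
  rw [normHom_of_normalizer ρ P hg, hv, map_one]

/-- Commutators lie in `uPart`. -/
theorem comm_mem_uPart (ρ : Γ →* MulAut V) (P : Subgroup Γ) {x : Γ} (hx : x ∈ P) (v : V) :
    ρ x v * v⁻¹ ∈ uPart ρ P := by
  rw [mem_uPart, map_mul, map_inv, normHom_of_normalizer ρ P (le_normalizer hx), normHom_fixed ρ P hx,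
    mul_inv_cancel]

/-- A fixed element of `uPart` has order dividing `|P|`. -/
theorem pow_card_of_fixed_uPart {ρ : Γ →* MulAut V} {P : Subgroup Γ} {w : V} (hw : w ∈ uPart ρ P)
    (hf : ∀ x ∈ P, ρ x w = w) : w ^ Nat.card P = 1 := by
  classical
  cases nonempty_fintype P
  rw [mem_uPart, normHom_apply] at hw
  have : ∏ x : P, ρ (x : Γ) w = ∏ _x : P, w := Finset.prod_congr rfl fun x _ => hf x x.2
  rw [this, Finset.prod_const, Finset.card_univ, ← Nat.card_eq_fintype_card] at hw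
  exact hw

/-- Elements of exponent `s`: `w ^ n = 1` with `n` prime to `s` forces `w = 1`. -/
theorem eq_one_of_pow_coprime {w : V} {s n : ℕ} (hs : w ^ s = 1) (hn : w ^ n = 1)
    (hc : Nat.Coprime s n) : w = 1 := by
  have h1 : orderOf w ∣ Nat.gcd s n := Nat.dvd_gcd (orderOf_dvd_of_pow_eq_one hs)
    (orderOf_dvd_of_pow_eq_one hn)
  rw [hc.gcd_eq_one] at h1
  exact orderOf_eq_one_iff.mp (Nat.dvd_one.mp h1)

/-- A subgroup stable under `ρ z` is stable under all powers of `z`. -/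
theorem stable_zpowers (ρ : Γ →* MulAut V) (W : Subgroup V) {z : Γ} (hWz : ∀ w ∈ W, ρ z w ∈ W)
    {x : Γ} (hx : x ∈ zpowers z) {w : V} (hw : w ∈ W) : ρ x w ∈ W := by
  obtain ⟨k, rfl⟩ := mem_zpowers_iff.mp hx
  have hk : ∃ n : ℕ, z ^ k = z ^ n := by
    refine ⟨(k % orderOf z).toNat, ?_⟩
    have hpos : (0:ℤ) < orderOf z := by exact_mod_cast orderOf_pos z
    rw [← zpow_natCast, Int.toNat_of_nonneg (Int.emod_nonneg _ hpos.ne')]
    exact (zpow_mod_orderOf z k).symm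
  obtain ⟨n, hn⟩ := hk
  rw [hn]
  clear hn
  induction n with
  | zero => simpa using hw
  | succ n ih =>
    rw [pow_succ', map_mul, MulAut.mul_apply]
    exact hWz _ ih

/-- Existence of fixed points: if `e` normalizes `⟨z⟩` without centralizing `z`, with
`z`, `e` of prime orders, then `e` has a nontrivial fixed point on every nontrivial invariant
subgroup of `uPart`. -/
theorem exists_fixed_of_frob (ρ : Γ →* MulAut V) {z e : Γ} {t p s : ℕ} (ht : t.Prime) (hp : p.Prime)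
    (hs : s.Prime) (hzt : orderOf z = t) (hep : e ^ p = 1) (hn : e ∈ normalizer (zpowers z : Set Γ))
    (hm : ¬ Commute e z) (hts : t ≠ s) (W : Subgroup V) (hW : W ≠ ⊥)
    (hWs : ∀ w ∈ W, w ^ s = 1) (hWU : W ≤ uPart ρ (zpowers z))
    (hWz : ∀ w ∈ W, ρ z w ∈ W) (hWe : ∀ w ∈ W, ρ e w ∈ W) :
    ∃ w ∈ W, w ≠ 1 ∧ ρ e w = w := by
  by_contra hno
  push Not at hno
  have hYP : ∀ c ∈ zpowers e, ∀ x ∈ zpowers z, c * x * c⁻¹ ∈ zpowers z := by
    intro c hc x hx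
    have : c ∈ normalizer (zpowers z : Set Γ) := (zpowers_le.mpr hn) hc
    exact (mem_normalizer_iff.mp this _).mp hx
  have hfpf : ∀ c ∈ zpowers e, c ≠ 1 → ∀ x ∈ zpowers z, x * c = c * x → x = 1 := by
    intro c hc hc1 x hx hxc
    by_contra hx1
    apply hm
    -- `x` generates `⟨z⟩` and `c` generates `⟨e⟩`.
    have hzx : z ∈ zpowers x := by
      have hcard : Nat.card (zpowers z) = t := by rw [Nat.card_zpowers, hzt]
      have h1 : zpowers x = zpowers z := by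
        apply Subgroup.eq_of_le_of_card_ge (zpowers_le.mpr hx)
        rw [hcard]
        have h2 : orderOf x ∣ t := by
          rw [← hzt]
          obtain ⟨k, rfl⟩ := mem_zpowers_iff.mp hx
          exact orderOf_dvd_of_pow_eq_one (by
            rw [← zpow_natCast, ← zpow_mul, mul_comm, zpow_mul, zpow_natCast, pow_orderOf_eq_one, one_zpow])
        rcases (Nat.dvd_prime ht).mp h2 with h3 | h3
        · exact absurd (orderOf_eq_one_iff.mp h3) hx1
        · rw [Nat.card_zpowers, h3]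
      rw [h1]
      exact mem_zpowers z
    have hec : e ∈ zpowers c := by
      have h2 : orderOf c ∣ p := by
        obtain ⟨k, rfl⟩ := mem_zpowers_iff.mp hc
        exact orderOf_dvd_of_pow_eq_one (by
          rw [← zpow_natCast, ← zpow_mul, mul_comm, zpow_mul, zpow_natCast, hep, one_zpow])
      have hep' : orderOf e ∣ p := orderOf_dvd_of_pow_eq_one hep
      have h1 : zpowers c = zpowers e := by
        apply Subgroup.eq_of_le_of_card_ge (zpowers_le.mpr hc)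
        rw [Nat.card_zpowers, Nat.card_zpowers]
        rcases (Nat.dvd_prime hp).mp h2 with h3 | h3
        · exact absurd (orderOf_eq_one_iff.mp h3) hc1
        · rw [h3]
          exact Nat.le_of_dvd hp.pos hep'
      rw [h1]
      exact mem_zpowers e
    have hcx : Commute c x := (Commute.symm hxc)
    have hcz : Commute c z := by
      obtain ⟨k, rfl⟩ := mem_zpowers_iff.mp hzx
      exact hcx.zpow_right k
    obtain ⟨k, rfl⟩ := mem_zpowers_iff.mp hec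
    exact hcz.zpow_left k
  have hP : ∀ w ∈ W, (∀ x ∈ zpowers z, ρ x w = w) → w = 1 := by
    intro w hw hf
    have h1 := pow_card_of_fixed_uPart (hWU hw) hf
    rw [Nat.card_zpowers, hzt] at h1
    exact eq_one_of_pow_coprime (hWs w hw) h1 ((Nat.coprime_primes hs ht).mpr (Ne.symm hts))
  have hY : ∀ w ∈ W, (∀ c ∈ zpowers e, ρ c w = w) → w = 1 := by
    intro w hw hf
    by_contra hw1
    exact hno w hw hw1 (hf e (mem_zpowers e))
  have hWP : ∀ x ∈ zpowers z, ∀ w ∈ W, ρ x w ∈ W := fun x hx w hw =>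
    stable_zpowers ρ W hWz hx hw
  have hWY : ∀ c ∈ zpowers e, ∀ w ∈ W, ρ c w ∈ W := fun x hx w hw =>
    stable_zpowers ρ W hWe hx hw
  apply hW
  rw [eq_bot_iff]
  intro w hw
  rw [Subgroup.mem_bot]
  have h1 := frob_rel ρ (zpowers z) (zpowers e) hYP hfpf W hWP hWY hP hY hw
  rw [Nat.card_zpowers, hzt] at h1
  exact eq_one_of_pow_coprime (hWs w hw) h1 ((Nat.coprime_primes hs ht).mpr (Ne.symm hts))

end frob

section basics

variable {Γ : Type u} {V : Type v} [Group Γ] [Group V]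

/-- `C_V(e)` is "cyclic" in the strong form: every nontrivial fixed element generates all fixed
elements. -/
def Cy (ρ : Γ →* MulAut V) (e : Γ) : Prop :=
  ∀ x y : V, ρ e x = x → ρ e y = y → x ≠ 1 → y ∈ zpowers x

theorem fixed_of_zpowers {ρ : Γ →* MulAut V} {g x : Γ} {v : V} (hx : x ∈ zpowers g) (h : ρ g v = v) :
    ρ x v = v := by
  obtain ⟨k, rfl⟩ := mem_zpowers_iff.mp hx
  have h0 : ρ g ∈ MulAction.stabilizer (MulAut V) v := h
  have := (MulAction.stabilizer (MulAut V) v).zpow_mem h0 k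
  rw [map_zpow]
  exact this

theorem generator_of_ne_one [Finite Γ] {z h : Γ} {t : ℕ} (ht : t.Prime) (hzt : orderOf z = t)
    (hh : h ∈ zpowers z) (h1 : h ≠ 1) : z ∈ zpowers h := by
  have h2 : zpowers h = zpowers z := by
    apply Subgroup.eq_of_le_of_card_ge (zpowers_le.mpr hh)
    rw [Nat.card_zpowers, Nat.card_zpowers, hzt]
    have h3 : orderOf h ∣ t := by
      rw [← hzt]
      obtain ⟨k, rfl⟩ := mem_zpowers_iff.mp hh
      exact orderOf_dvd_of_pow_eq_one (by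
        rw [← zpow_natCast, ← zpow_mul, mul_comm, zpow_mul, zpow_natCast, pow_orderOf_eq_one, one_zpow])
    rcases (Nat.dvd_prime ht).mp h3 with h4 | h4
    · exact absurd (orderOf_eq_one_iff.mp h4) h1
    · rw [h4]
  rw [h2]
  exact mem_zpowers z

end basics

section twofrob

variable {Γ : Type u} {V : Type v} [Group Γ] [Finite Γ] [CommGroup V]

/-- Scalar part: the elements of `U` on which `a` acts as the power `α`. -/
def scal (ρ : Γ →* MulAut V) (a : Γ) (α : ℤ) (U : Subgroup V) : Subgroup V where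
  carrier := {u | u ∈ U ∧ ρ a u = u ^ α}
  mul_mem' := by
    rintro x y ⟨hx, hx'⟩ ⟨hy, hy'⟩
    exact ⟨U.mul_mem hx hy, by rw [map_mul, hx', hy', mul_zpow]⟩
  one_mem' := ⟨U.one_mem, by simp⟩
  inv_mem' := by
    rintro x ⟨hx, hx'⟩
    exact ⟨U.inv_mem hx, by rw [map_inv, hx', inv_zpow]⟩

theorem mem_scal {ρ : Γ →* MulAut V} {a : Γ} {α : ℤ} {U : Subgroup V} {u : V} :
    u ∈ scal ρ a α U ↔ u ∈ U ∧ ρ a u = u ^ α := Iff.rfl

theorem comm_apply (ρ : Γ →* MulAut V) {g h : Γ} (hc : Commute g h) (x : V) :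
    ρ g (ρ h x) = ρ h (ρ g x) := by
  rw [← MulAut.mul_apply, ← MulAut.mul_apply, ← map_mul, ← map_mul, hc.eq]

theorem scal_stable {ρ : Γ →* MulAut V} {a g : Γ} {α : ℤ} {U : Subgroup V}
    (hg : Commute g a) (hU : ∀ u ∈ U, ρ g u ∈ U) {u : V} (hu : u ∈ scal ρ a α U) :
    ρ g u ∈ scal ρ a α U := by
  obtain ⟨h1, h2⟩ := hu
  refine ⟨hU u h1, ?_⟩
  rw [comm_apply ρ hg.symm, h2, map_zpow]

theorem mem_normalizer_zpowers_of_commute {g z : Γ} (h : Commute g z) :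
    g ∈ normalizer (zpowers z : Set Γ) := by
  rw [mem_normalizer_iff]
  intro x
  have key : ∀ x : Γ, x ∈ zpowers z → g * x * g⁻¹ = x := by
    rintro _ hx
    obtain ⟨k, rfl⟩ := mem_zpowers_iff.mp hx
    have := (h.zpow_right k).eq
    rw [this]; group
  constructor
  · intro hx
    rw [key x hx]; exact hx
  · intro hx
    have hx' : g * x * g⁻¹ ∈ zpowers z := hx
    -- `g⁻¹` also commutes with `z`
    have h2 : ∀ y ∈ zpowers z, g⁻¹ * y * g = y := by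
      rintro _ hy
      obtain ⟨k, rfl⟩ := mem_zpowers_iff.mp hy
      have := (h.inv_left.zpow_right k).eq
      rw [this]; group
    have h3 := h2 _ hx'
    have h4 : g⁻¹ * (g * x * g⁻¹) * g = x := by group
    rw [h4] at h3
    rw [h3]; exact hx

theorem modEq_of_zpow_eq {x : V} {s : ℕ} (hs : s.Prime) (hxs : x ^ s = 1) (hx : x ≠ 1) {n m : ℤ}
    (h : x ^ n = x ^ m) : n ≡ m [ZMOD s] := by
  have : Fact s.Prime := ⟨hs⟩
  have h1 : orderOf x = s := orderOf_eq_prime hxs hx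
  have := zpow_eq_zpow_iff_modEq.mp h
  rwa [h1] at this

set_option maxHeartbeats 2000000 in
/-- **The two Frobenius actions** are incompatible with "one weight per kernel line". -/
theorem two_frob (ρ : Γ →* MulAut V) {s p t₁ t₂ : ℕ} (hs : s.Prime) (hp : p.Prime) (ht₁ : t₁.Prime)
    (ht₂ : t₂.Prime) (hVs : ∀ v : V, v ^ s = 1) {a₁ a₂ z₁ z₂ : Γ}
    (ha : Commute a₁ a₂) (ha₁ : a₁ ^ p = 1) (ha₂ : a₂ ^ p = 1) (hp2 : p ≠ 2)
    (hz₁ : orderOf z₁ = t₁) (hz₂ : orderOf z₂ = t₂) (ht₁s : t₁ ≠ s) (ht₂s : t₂ ≠ s)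
    (hc₁ : Commute a₁ z₁) (hc₂ : Commute a₂ z₂)
    (hn₁ : a₂ ∈ normalizer (zpowers z₁ : Set Γ)) (hn₂ : a₁ ∈ normalizer (zpowers z₂ : Set Γ))
    (hm₁ : ¬ Commute a₂ z₁) (hm₂ : ¬ Commute a₁ z₂)
    (hv₁ : ∃ v, ρ z₁ v ≠ v) (hv₂ : ∃ v, ρ z₂ v ≠ v)
    (hcyc₀ : Cy ρ a₁) (hcyc₁ : Cy ρ (a₁ * a₂)) (hcyc₂ : Cy ρ (a₁ ^ 2 * a₂)) : False := by
  set e₁ := a₁ * a₂ with he₁
  set e₂ := a₁ ^ 2 * a₂ with he₂
  -- the norm parts
  have hU₁ne : uPart ρ (zpowers z₁) ≠ ⊥ := by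
    obtain ⟨v, hv⟩ := hv₁
    intro h
    have h1 := comm_mem_uPart ρ (zpowers z₁) (mem_zpowers z₁) v
    rw [h, Subgroup.mem_bot] at h1
    exact hv (by rwa [mul_inv_eq_one] at h1)
  have hU₂ne : uPart ρ (zpowers z₂) ≠ ⊥ := by
    obtain ⟨v, hv⟩ := hv₂
    intro h
    have h1 := comm_mem_uPart ρ (zpowers z₂) (mem_zpowers z₂) v
    rw [h, Subgroup.mem_bot] at h1
    exact hv (by rwa [mul_inv_eq_one] at h1)
  -- normalizers
  have hN₁a₁ := mem_normalizer_zpowers_of_commute hc₁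
  have hN₂a₂ := mem_normalizer_zpowers_of_commute hc₂
  have hN₁e₁ : e₁ ∈ normalizer (zpowers z₁ : Set Γ) := mul_mem hN₁a₁ hn₁
  have hN₁e₂ : e₂ ∈ normalizer (zpowers z₁ : Set Γ) := mul_mem (pow_mem hN₁a₁ 2) hn₁
  have hN₂e₁ : e₁ ∈ normalizer (zpowers z₂ : Set Γ) := mul_mem hn₂ hN₂a₂
  have hN₂e₂ : e₂ ∈ normalizer (zpowers z₂ : Set Γ) := mul_mem (pow_mem hn₂ 2) hN₂a₂
  have hNz₁ : z₁ ∈ normalizer (zpowers z₁ : Set Γ) := le_normalizer (mem_zpowers z₁)
  have hNz₂ : z₂ ∈ normalizer (zpowers z₂ : Set Γ) := le_normalizer (mem_zpowers z₂)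
  -- non commuting
  have hm₁e₁ : ¬ Commute e₁ z₁ := fun h => hm₁ (by
    have : a₂ = a₁⁻¹ * e₁ := by rw [he₁]; group
    rw [this]; exact hc₁.inv_left.mul_left h)
  have hm₁e₂ : ¬ Commute e₂ z₁ := fun h => hm₁ (by
    have : a₂ = (a₁ ^ 2)⁻¹ * e₂ := by rw [he₂]; group
    rw [this]; exact (hc₁.pow_left 2).inv_left.mul_left h)
  have hm₂e₁ : ¬ Commute e₁ z₂ := fun h => hm₂ (by
    have : a₁ = e₁ * a₂⁻¹ := by rw [he₁]; group
    rw [this]; exact h.mul_left hc₂.inv_left)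
  have hm₂e₂ : ¬ Commute e₂ z₂ := fun h => hm₂ (by
    have h1 : Commute (a₁ ^ 2) z₂ := by
      have : a₁ ^ 2 = e₂ * a₂⁻¹ := by rw [he₂]; group
      rw [this]; exact h.mul_left hc₂.inv_left
    obtain ⟨k, hk⟩ : ∃ k, p = 2 * k + 1 := by
      rcases hp.eq_two_or_odd' with h2 | h2
      · exact absurd h2 hp2
      · exact h2
    have h2 : a₁ = (a₁ ^ 2) ^ (k + 1) := by
      have h3 : a₁ ^ (2 * (k + 1)) = a₁ := by
        have : 2 * (k + 1) = p + 1 := by omega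
        rw [this, pow_succ, ha₁, one_mul]
      rw [← pow_mul, h3]
    rw [h2]
    exact h1.pow_left _)
  -- powers
  have he₁p : e₁ ^ p = 1 := by rw [he₁, ha.mul_pow, ha₁, ha₂, one_mul]
  have he₂p : e₂ ^ p = 1 := by
    rw [he₂, (ha.pow_left 2).mul_pow, ← pow_mul, mul_comm 2 p, pow_mul, ha₁, one_pow, ha₂, one_mul]
  have hce₁a₁ : Commute e₁ a₁ := (Commute.refl a₁).mul_left ha.symm
  have hce₁a₂ : Commute e₁ a₂ := ha.mul_left (Commute.refl a₂)
  have hce₂a₁ : Commute e₂ a₁ := ((Commute.refl a₁).pow_left 2).mul_left ha.symm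
  have hce₂a₂ : Commute e₂ a₂ := (ha.pow_left 2).mul_left (Commute.refl a₂)
  -- the first fixed vector
  obtain ⟨v, hvU, hv1, hve⟩ := exists_fixed_of_frob ρ ht₁ hp hs hz₁ he₁p hN₁e₁ hm₁e₁ ht₁s
    (uPart ρ (zpowers z₁)) hU₁ne (fun w _ => hVs w) le_rfl
    (fun w hw => uPart_stable hNz₁ hw) (fun w hw => uPart_stable hN₁e₁ hw)
  obtain ⟨α, hα⟩ : ∃ α : ℤ, ρ a₁ v = v ^ α := by
    have h1 := hcyc₁ v (ρ a₁ v) hve (by rw [comm_apply ρ hce₁a₁, hve]) hv1
    obtain ⟨k, hk⟩ := mem_zpowers_iff.mp h1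
    exact ⟨k, hk.symm⟩
  -- the second fixed vector
  obtain ⟨v', hvU', hv1', hve'⟩ := exists_fixed_of_frob ρ ht₂ hp hs hz₂ he₁p hN₂e₁ hm₂e₁ ht₂s
    (uPart ρ (zpowers z₂)) hU₂ne (fun w _ => hVs w) le_rfl
    (fun w hw => uPart_stable hNz₂ hw) (fun w hw => uPart_stable hN₂e₁ hw)
  obtain ⟨β, hβ⟩ : ∃ β : ℤ, ρ a₂ v' = v' ^ β := by
    have h1 := hcyc₁ v' (ρ a₂ v') hve' (by rw [comm_apply ρ hce₁a₂, hve']) hv1'
    obtain ⟨k, hk⟩ := mem_zpowers_iff.mp h1
    exact ⟨k, hk.symm⟩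
  -- the scalar parts
  set W₁ := scal ρ a₁ α (uPart ρ (zpowers z₁)) with hW₁
  set W₂ := scal ρ a₂ β (uPart ρ (zpowers z₂)) with hW₂
  have hvW₁ : v ∈ W₁ := ⟨hvU, hα⟩
  have hvW₂ : v' ∈ W₂ := ⟨hvU', hβ⟩
  have hW₁ne : W₁ ≠ ⊥ := fun h => hv1 (by rwa [h, Subgroup.mem_bot] at hvW₁)
  have hW₂ne : W₂ ≠ ⊥ := fun h => hv1' (by rwa [h, Subgroup.mem_bot] at hvW₂)
  have hW₁z : ∀ w ∈ W₁, ρ z₁ w ∈ W₁ := fun w hw =>
    scal_stable hc₁.symm (fun u hu => uPart_stable hNz₁ hu) hw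
  have hW₂z : ∀ w ∈ W₂, ρ z₂ w ∈ W₂ := fun w hw =>
    scal_stable hc₂.symm (fun u hu => uPart_stable hNz₂ hu) hw
  obtain ⟨u, huW, hu1, hue⟩ := exists_fixed_of_frob ρ ht₁ hp hs hz₁ he₂p hN₁e₂ hm₁e₂ ht₁s
    W₁ hW₁ne (fun w _ => hVs w) (fun w hw => hw.1) hW₁z
    (fun w hw => scal_stable hce₂a₁ (fun u hu => uPart_stable hN₁e₂ hu) hw)
  obtain ⟨u', huW', hu1', hue'⟩ := exists_fixed_of_frob ρ ht₂ hp hs hz₂ he₂p hN₂e₂ hm₂e₂ ht₂s
    W₂ hW₂ne (fun w _ => hVs w) (fun w hw => hw.1) hW₂z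
    (fun w hw => scal_stable hce₂a₂ (fun u hu => uPart_stable hN₂e₂ hu) hw)
  -- scalars on the common vectors
  have hαβ : α * β ≡ 1 [ZMOD s] := by
    have h1 := hcyc₁ v' v hve' hve hv1'
    obtain ⟨n, hn⟩ := mem_zpowers_iff.mp h1
    have h2 : ρ a₂ v = v ^ β := by
      rw [← hn, map_zpow, hβ, zpow_comm]
    have h3 : v = v ^ (α * β) := by
      calc v = ρ e₁ v := hve.symm
        _ = ρ a₁ (ρ a₂ v) := by rw [he₁, map_mul, MulAut.mul_apply]
        _ = v ^ (α * β) := by rw [h2, map_zpow, hα, zpow_mul]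
    have h4 : v ^ (1 : ℤ) = v ^ (α * β) := by rw [zpow_one]; exact h3
    exact (modEq_of_zpow_eq hs (hVs v) hv1 h4).symm
  have hααβ : α * (α * β) ≡ 1 [ZMOD s] := by
    have h1 := hcyc₂ u' u hue' hue hu1'
    obtain ⟨n, hn⟩ := mem_zpowers_iff.mp h1
    have h2 : ρ a₂ u = u ^ β := by
      rw [← hn, map_zpow, huW'.2, zpow_comm]
    have hu₁ : ρ a₁ u = u ^ α := huW.2
    have h3 : u = u ^ (α * (α * β)) := by
      calc u = ρ e₂ u := hue.symm
        _ = ρ a₁ (ρ a₁ (ρ a₂ u)) := by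
          rw [he₂, map_mul, map_pow, MulAut.mul_apply, pow_two, MulAut.mul_apply]
        _ = u ^ (α * (α * β)) := by
          rw [h2, map_zpow, map_zpow, hu₁, map_zpow, hu₁, ← zpow_mul, ← zpow_mul]
    have h4 : u ^ (1 : ℤ) = u ^ (α * (α * β)) := by rw [zpow_one]; exact h3
    exact (modEq_of_zpow_eq hs (hVs u) hu1 h4).symm
  have hα1 : α ≡ 1 [ZMOD s] := by
    have h1 : α * (α * β) ≡ α * 1 [ZMOD s] := Int.ModEq.mul_left α hαβ
    rw [mul_one] at h1
    exact h1.symm.trans hααβ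
  -- hence `a₁` centralizes `W₁`
  have hW₁a : ∀ x ∈ W₁, ρ a₁ x = x := by
    intro x hx
    rw [hx.2]
    by_cases hx1 : x = 1
    · rw [hx1, one_zpow]
    · have h1 : orderOf x = s := by
        have : Fact s.Prime := ⟨hs⟩
        exact orderOf_eq_prime (hVs x) hx1
      have h2 : x ^ α = x ^ (1 : ℤ) := zpow_eq_zpow_iff_modEq.mpr (by rw [h1]; exact hα1)
      rw [h2, zpow_one]
  have hW₁v : ∀ x ∈ W₁, x ∈ zpowers v := fun x hx =>
    hcyc₀ v x (hW₁a v hvW₁) (hW₁a x hx) hv1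
  -- the elements of `N(⟨z₁⟩) ∩ C(a₁)` act as powers on `W₁`
  have hpow : ∀ g : Γ, (∀ x ∈ W₁, ρ g x ∈ W₁) → ∃ γ : ℤ, ∀ x ∈ W₁, ρ g x = x ^ γ := by
    intro g hg
    obtain ⟨k, hk⟩ := mem_zpowers_iff.mp (hW₁v _ (hg v hvW₁))
    refine ⟨k, fun x hx => ?_⟩
    obtain ⟨n, hn⟩ := mem_zpowers_iff.mp (hW₁v x hx)
    rw [← hn, map_zpow, ← hk, zpow_comm]
  have ha₂W : ∀ x ∈ W₁, ρ a₂ x ∈ W₁ := fun x hx =>
    scal_stable ha.symm (fun u hu => uPart_stable hn₁ hu) hx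
  have ha₂iW : ∀ x ∈ W₁, ρ a₂⁻¹ x ∈ W₁ := fun x hx =>
    scal_stable ha.symm.inv_left (fun u hu => uPart_stable (inv_mem hn₁) hu) hx
  obtain ⟨ζ, hζ⟩ := hpow z₁ hW₁z
  obtain ⟨γ, hγ⟩ := hpow a₂ ha₂W
  obtain ⟨κ, hκ⟩ := hpow a₂⁻¹ ha₂iW
  set w := a₂ * z₁ * a₂⁻¹ with hw
  have hwP : w ∈ zpowers z₁ := (mem_normalizer_iff.mp hn₁ _).mp (mem_zpowers z₁)
  have hwne : z₁⁻¹ * w ≠ 1 := by
    intro h
    apply hm₁
    have h1 : w = z₁ := by
      have := congrArg (fun y => z₁ * y) h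
      simpa using this
    show a₂ * z₁ = z₁ * a₂
    calc a₂ * z₁ = w * a₂ := by rw [hw]; group
      _ = z₁ * a₂ := by rw [h1]
  have hfix : ρ (z₁⁻¹ * w) v = v := by
    have h1 : ρ a₂ (ρ a₂⁻¹ v) = v := by
      rw [← MulAut.mul_apply, ← map_mul, mul_inv_cancel, map_one]; rfl
    have h2 : ρ w v = ρ z₁ v := by
      calc ρ w v = ρ a₂ (ρ z₁ (ρ a₂⁻¹ v)) := by
            rw [hw, map_mul, map_mul, MulAut.mul_apply, MulAut.mul_apply]
        _ = ρ z₁ (ρ a₂ (ρ a₂⁻¹ v)) := by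
            have hy := ha₂iW v hvW₁
            rw [hζ _ hy, map_zpow, hγ _ hy, map_zpow, hζ _ hy, zpow_comm]
        _ = ρ z₁ v := by rw [h1]
    rw [map_mul, MulAut.mul_apply, h2, map_inv]
    rw [← MulAut.mul_apply, inv_mul_cancel]
    rfl
  have hz₁fix : ρ z₁ v = v :=
    fixed_of_zpowers (generator_of_ne_one ht₁ hz₁ (mul_mem (inv_mem (mem_zpowers z₁)) hwP) hwne) hfix
  have hvt : v ^ t₁ = 1 := by
    have h1 := pow_card_of_fixed_uPart hvU (fun x hx => fixed_of_zpowers hx hz₁fix)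
    rwa [Nat.card_zpowers, hz₁] at h1
  exact hv1 (eq_one_of_pow_coprime (hVs v) hvt ((Nat.coprime_primes hs ht₁).mpr (Ne.symm ht₁s)))

end twofrob

end Cfsg.Agent.Lib.BGUT1
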