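import Mathlib
import Cfsg.Agent.Lib.BGUT1
import Cfsg.Agent.Lib.CoprimeHyper
import Cfsg.Agent.Lib.Frat

/-!
# Action on the Frattini quotient of a normal `s`-subgroup: lifting the results of `BGUT1`.
-/

set_option autoImplicit false
set_option linter.unusedSectionVars false
set_option linter.unusedVariables false
set_option linter.style.haveILetI false

namespace Cfsg.Agent.Lib.BGUT2

open Subgroup Cfsg.Agent.Lib.BGUT1 Cfsg.Agent.Lib.Frat
open Cfsg.Agent.Lib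
open scoped commutatorElement

universe u

/-- Characteristic subgroups are invariant. -/
theorem char_mem' {X : Type*} [Group X] (H : Subgroup X) [h : H.Characteristic] (τ : MulAut X) {y : X}
    (hy : y ∈ H) : τ y ∈ H := by
  have h1 := h.fixed (MulEquiv.symm τ)
  have h3 : τ y ∈ H.comap (MulEquiv.symm τ).toMonoidHom := by
    show (MulEquiv.symm τ) (τ y) ∈ H
    simpa using hy
  rwa [h1] at h3

/-- The automorphism induced on a quotient. -/
noncomputable def quotA {G : Type*} [Group G] [Finite G] (α : MulAut G) (N : Subgroup G) [N.Normal]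
    (h : ∀ x ∈ N, α x ∈ N) : MulAut (G ⧸ N) :=
  QuotientGroup.congr N N α (by
    apply le_antisymm
    · rintro _ ⟨x, hx, rfl⟩
      exact h x hx
    · have h1 : (N.map (α : G →* G)) ≤ N := by
        rintro _ ⟨x, hx, rfl⟩
        exact h x hx
      exact (Subgroup.eq_of_le_of_card_ge h1 (by rw [Subgroup.card_map_of_injective α.injective])).symm.le)

theorem quotA_mk {G : Type*} [Group G] [Finite G] (α : MulAut G) (N : Subgroup G) [N.Normal]
    (h : ∀ x ∈ N, α x ∈ N) (x : G) : quotA α N h (x : G ⧸ N) = ((α x : G) : G ⧸ N) := rfl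

section abs

variable {X : Type u} [Group X] [Finite X] (R : Subgroup X) [hRn : R.Normal]

/-- The action on the Frattini quotient of a normal subgroup. -/
noncomputable def psiR : X →* MulAut (R ⧸ frattini R) :=
  MonoidHom.mk' (fun x => quotA (MulAut.conjNormal x) (frattini R)
      (fun _ hy => char_mem' _ _ hy)) (by
    intro x y
    ext v
    obtain ⟨u, rfl⟩ := QuotientGroup.mk_surjective v
    rw [MulAut.mul_apply, quotA_mk, quotA_mk, quotA_mk, map_mul, MulAut.mul_apply])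

theorem psiR_mk (x : X) (u : R) :
    psiR R x (u : R ⧸ frattini R) = ((MulAut.conjNormal x u : R) : R ⧸ frattini R) := rfl

variable {R} {s : ℕ} [hs : Fact s.Prime]

theorem vR_comm (hR : IsPGroup s R) (a b : R ⧸ frattini R) : a * b = b * a := by
  obtain ⟨a, rfl⟩ := QuotientGroup.mk_surjective a
  obtain ⟨b, rfl⟩ := QuotientGroup.mk_surjective b
  rw [← QuotientGroup.mk_mul, ← QuotientGroup.mk_mul, QuotientGroup.eq]
  have h1 : ⁅b⁻¹, a⁻¹⁆ ∈ commutator R :=
    Subgroup.commutator_mem_commutator (Subgroup.mem_top _) (Subgroup.mem_top _)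
  have h2 := commutator_le_frattini hR h1
  have h3 : (a * b)⁻¹ * (b * a) = ⁅b⁻¹, a⁻¹⁆ := by
    rw [commutatorElement_def]; group
  rwa [h3]

theorem vR_exp (hR : IsPGroup s R) (a : R ⧸ frattini R) : a ^ s = 1 := by
  obtain ⟨a, rfl⟩ := QuotientGroup.mk_surjective a
  rw [← QuotientGroup.mk_pow, QuotientGroup.eq_one_iff]
  exact pow_mem_frattini hR a

theorem isPGroup_frattini_map (hR : IsPGroup s R) : IsPGroup s ((frattini R).map R.subtype) :=
  (IsPGroup.to_subgroup hR _).map _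

/-- Lifting fixed elements of the Frattini quotient. -/
theorem lift_fixed {q : ℕ} [hq : Fact q.Prime] (hR : IsPGroup s R) (hqs : q ≠ s) {g : X}
    (hg : IsPGroup q (zpowers g)) (u : R) (hf : psiR R g (u : R ⧸ frattini R) = u) :
    ∃ y : R, (y : R ⧸ frattini R) = u ∧ g * (y : X) * g⁻¹ = y := by
  set K : Subgroup X := (frattini R).map R.subtype with hK
  have hKp : IsPGroup s K := isPGroup_frattini_map hR
  have hqK : ¬ q ∣ Nat.card K := by
    intro h
    obtain ⟨k, hk⟩ := IsPGroup.iff_card.mp hKp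
    rw [hk] at h
    exact hqs ((Nat.prime_dvd_prime_iff_eq hq.out hs.out).mp (hq.out.dvd_of_dvd_pow h))
  obtain ⟨w, hw, hfix⟩ := CoprimeHyper.exists_fixed_in_coset (p := q) (zpowers g) K hg hqK
    (by
      rintro b hb _ ⟨φ, hφ, rfl⟩
      refine ⟨MulAut.conjNormal b φ, char_mem' (frattini R) _ hφ, ?_⟩
      simp [MulAut.conjNormal_apply])
    (u : X)
    (by
      intro b hb
      have h1 : psiR R b (u : R ⧸ frattini R) = u := fixed_of_zpowers hb hf
      rw [psiR_mk, eq_comm, QuotientGroup.eq] at h1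
      refine ⟨_, h1, ?_⟩
      simp [MulAut.conjNormal_apply, mul_assoc])
  obtain ⟨φ, hφ, rfl⟩ := hw
  refine ⟨u * φ, ?_, ?_⟩
  · rw [QuotientGroup.mk_mul, (QuotientGroup.eq_one_iff φ).mpr hφ, mul_one]
  · simpa using hfix g (mem_zpowers g)

/-- A nontrivial conjugation action induces a nontrivial action on the Frattini quotient. -/
theorem nontriv {q : ℕ} [hq : Fact q.Prime] (hR : IsPGroup s R) (hqs : q ≠ s) {g : X}
    (hg : IsPGroup q (zpowers g)) (hRg : ∃ r ∈ R, g * r * g⁻¹ ≠ r) :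
    ∃ v, psiR R g v ≠ v := by
  by_contra hno
  push Not at hno
  obtain ⟨r, hr, hne⟩ := hRg
  let C : Subgroup R := (centralizer ({g} : Set X)).subgroupOf R
  have h1 : C ⊔ frattini R = ⊤ := by
    rw [eq_top_iff]
    intro x _
    obtain ⟨y, hy, hyf⟩ := lift_fixed hR hqs hg x (hno _)
    have hyC : y ∈ C := by
      show (y : X) ∈ centralizer ({g} : Set X)
      rw [Subgroup.mem_centralizer_singleton_iff]
      calc (y : X) * g = (g * (y : X) * g⁻¹) * g := by rw [hyf]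
        _ = g * y := by group
    have h2 : y⁻¹ * x ∈ frattini R := by
      rwa [QuotientGroup.eq] at hy
    have h3 : x = y * (y⁻¹ * x) := by group
    rw [h3]
    exact mul_mem (Subgroup.mem_sup_left hyC) (Subgroup.mem_sup_right h2)
  have h2 : C = ⊤ := frattini_nongenerating h1
  apply hne
  have h3 : (⟨r, hr⟩ : R) ∈ C := by rw [h2]; trivial
  have h4 : r ∈ centralizer ({g} : Set X) := h3
  rw [Subgroup.mem_centralizer_singleton_iff] at h4
  rw [← h4]
  group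

/-- Cyclic fixed points on `R` give `Cy`. -/
theorem cy_of_cyclic {q : ℕ} [hq : Fact q.Prime] (hR : IsPGroup s R) (hqs : q ≠ s) {g : X}
    (hg : IsPGroup q (zpowers g)) (hc : IsCyclic ↥(R ⊓ centralizer ({g} : Set X))) :
    Cy (psiR R) g := by
  intro x y hx hy hx1
  obtain ⟨x, rfl⟩ := QuotientGroup.mk_surjective x
  obtain ⟨y, rfl⟩ := QuotientGroup.mk_surjective y
  obtain ⟨x', hx', hxf⟩ := lift_fixed hR hqs hg x hx
  obtain ⟨y', hy', hyf⟩ := lift_fixed hR hqs hg y hy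
  rw [← hx'] at hx1 ⊢
  rw [← hy']
  obtain ⟨c, hc⟩ := hc
  have hmem : ∀ w : R, g * (w : X) * g⁻¹ = w →
      ∃ k : ℤ, (w : R) = ⟨(c : X), (c.2).1⟩ ^ k := by
    intro w hw
    have h1 : (w : X) ∈ R ⊓ centralizer ({g} : Set X) := by
      refine ⟨w.2, ?_⟩
      show (w : X) ∈ centralizer ({g} : Set X)
      rw [Subgroup.mem_centralizer_singleton_iff]
      calc (w : X) * g = (g * (w : X) * g⁻¹) * g := by rw [hw]
        _ = g * w := by group
    obtain ⟨k, hk⟩ := hc ⟨_, h1⟩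
    refine ⟨k, ?_⟩
    apply Subtype.ext
    have := congrArg Subtype.val hk
    simpa using this.symm
  obtain ⟨i, hi⟩ := hmem x' hxf
  obtain ⟨j, hj⟩ := hmem y' hyf
  set c' : R := ⟨(c : X), (c.2).1⟩ with hc'
  set C : R ⧸ frattini R := (c' : R ⧸ frattini R) with hC
  have hx2 : ((x' : R) : R ⧸ frattini R) = C ^ i := by
    rw [hi, hC]; rfl
  have hy2 : ((y' : R) : R ⧸ frattini R) = C ^ j := by
    rw [hj, hC]; rfl
  have hC1 : C ≠ 1 := by
    intro h
    rw [hx2, h, one_zpow] at hx1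
    exact hx1 rfl
  have hCs : orderOf C = s := orderOf_eq_prime (vR_exp hR C) hC1
  have hmem2 : C ∈ zpowers ((x' : R) : R ⧸ frattini R) :=
    generator_of_ne_one (Γ := R ⧸ frattini R) hs.out hCs (by rw [hx2]; exact zpow_mem (mem_zpowers C) i) hx1
  rw [hy2]
  exact zpow_mem hmem2 j

/-- `T9` in abstract form. -/
theorem frob_lift_abs {t p : ℕ} [ht : Fact t.Prime] [hp : Fact p.Prime] (hR : IsPGroup s R) {z e : X}
    (hzt : orderOf z = t) (hep : e ^ p = 1) (hn : e ∈ normalizer (zpowers z : Set X))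
    (hm : ¬ Commute e z) (hts : t ≠ s) (hps : p ≠ s) (hRz : ∃ r ∈ R, z * r * z⁻¹ ≠ r) :
    ∃ y ∈ R, e * y * e⁻¹ = y ∧ z * y * z⁻¹ ≠ y := by
  have hzP : IsPGroup t (zpowers z) := by
    rw [IsPGroup.iff_card, Nat.card_zpowers, hzt]
    exact ⟨1, (pow_one t).symm⟩
  have heP : IsPGroup p (zpowers e) := by
    rw [IsPGroup.iff_card, Nat.card_zpowers]
    rcases (Nat.dvd_prime hp.out).mp (orderOf_dvd_of_pow_eq_one hep) with h | h
    · exact ⟨0, by simpa using h⟩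
    · exact ⟨1, by simpa using h⟩
  letI : CommGroup (R ⧸ frattini R) := { (inferInstance : Group (R ⧸ frattini R)) with
    mul_comm := vR_comm hR }
  obtain ⟨v, hv⟩ := nontriv hR hts hzP hRz
  have hUne : uPart (psiR R) (zpowers z) ≠ ⊥ := by
    intro h
    have h1 := comm_mem_uPart (psiR R) (zpowers z) (mem_zpowers z) v
    rw [h, Subgroup.mem_bot] at h1
    exact hv (by rwa [mul_inv_eq_one] at h1)
  obtain ⟨w, hwU, hw1, hwe⟩ := exists_fixed_of_frob (psiR R) ht.out hp.out hs.out hzt hep hn hm hts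
    (uPart (psiR R) (zpowers z)) hUne (fun w _ => vR_exp hR w) le_rfl
    (fun w hw => uPart_stable (le_normalizer (mem_zpowers z)) hw) (fun w hw => uPart_stable hn hw)
  obtain ⟨x, rfl⟩ := QuotientGroup.mk_surjective w
  obtain ⟨y, hy, hyf⟩ := lift_fixed hR hps heP x hwe
  refine ⟨y, y.2, hyf, ?_⟩
  intro hzy
  apply hw1
  have h1 : psiR R z (x : R ⧸ frattini R) = x := by
    rw [← hy, psiR_mk]
    congr 1
    apply Subtype.ext
    simpa [MulAut.conjNormal_apply] using hzy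
  have h2 := pow_card_of_fixed_uPart hwU (fun g hg => fixed_of_zpowers hg h1)
  rw [Nat.card_zpowers, hzt] at h2
  exact eq_one_of_pow_coprime (vR_exp hR _) h2 ((Nat.coprime_primes hs.out ht.out).mpr (Ne.symm hts))

theorem isPGroup_zpowers_of_pow {q : ℕ} [hq : Fact q.Prime] {g : X} (hg : g ^ q = 1) :
    IsPGroup q (zpowers g) := by
  rw [IsPGroup.iff_card, Nat.card_zpowers]
  rcases (Nat.dvd_prime hq.out).mp (orderOf_dvd_of_pow_eq_one hg) with h | h
  · exact ⟨0, by simpa using h⟩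
  · exact ⟨1, by simpa using h⟩

/-- `T10` in abstract form. -/
theorem two_frob_abs {t₁ t₂ p : ℕ} [ht₁ : Fact t₁.Prime] [ht₂ : Fact t₂.Prime] [hp : Fact p.Prime]
    (hR : IsPGroup s R) {a₁ a₂ z₁ z₂ : X}
    (ha : Commute a₁ a₂) (ha₁ : a₁ ^ p = 1) (ha₂ : a₂ ^ p = 1) (hp2 : p ≠ 2) (hps : p ≠ s)
    (hz₁ : orderOf z₁ = t₁) (hz₂ : orderOf z₂ = t₂) (ht₁s : t₁ ≠ s) (ht₂s : t₂ ≠ s)
    (hc₁ : Commute a₁ z₁) (hc₂ : Commute a₂ z₂)
    (hn₁ : a₂ ∈ normalizer (zpowers z₁ : Set X)) (hn₂ : a₁ ∈ normalizer (zpowers z₂ : Set X))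
    (hm₁ : ¬ Commute a₂ z₁) (hm₂ : ¬ Commute a₁ z₂)
    (hR₁ : ∃ r ∈ R, z₁ * r * z₁⁻¹ ≠ r) (hR₂ : ∃ r ∈ R, z₂ * r * z₂⁻¹ ≠ r)
    (hcyc₀ : IsCyclic ↥(R ⊓ centralizer ({a₁} : Set X)))
    (hcyc₁ : IsCyclic ↥(R ⊓ centralizer ({a₁ * a₂} : Set X)))
    (hcyc₂ : IsCyclic ↥(R ⊓ centralizer ({a₁ ^ 2 * a₂} : Set X))) : False := by
  have hz₁P : IsPGroup t₁ (zpowers z₁) := isPGroup_zpowers_of_pow (by rw [← hz₁, pow_orderOf_eq_one])
  have hz₂P : IsPGroup t₂ (zpowers z₂) := isPGroup_zpowers_of_pow (by rw [← hz₂, pow_orderOf_eq_one])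
  have h1 : (a₁ * a₂) ^ p = 1 := by rw [ha.mul_pow, ha₁, ha₂, one_mul]
  have h2 : (a₁ ^ 2 * a₂) ^ p = 1 := by
    rw [(ha.pow_left 2).mul_pow, ← pow_mul, mul_comm 2 p, pow_mul, ha₁, one_pow, ha₂, one_mul]
  letI : CommGroup (R ⧸ frattini R) := { (inferInstance : Group (R ⧸ frattini R)) with
    mul_comm := vR_comm hR }
  exact two_frob (psiR R) hs.out hp.out ht₁.out ht₂.out (vR_exp hR) ha ha₁ ha₂ hp2 hz₁ hz₂ ht₁s ht₂s
    hc₁ hc₂ hn₁ hn₂ hm₁ hm₂ (nontriv hR ht₁s hz₁P hR₁) (nontriv hR ht₂s hz₂P hR₂)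
    (cy_of_cyclic hR hps (isPGroup_zpowers_of_pow ha₁) hcyc₀)
    (cy_of_cyclic hR hps (isPGroup_zpowers_of_pow h1) hcyc₁)
    (cy_of_cyclic hR hps (isPGroup_zpowers_of_pow h2) hcyc₂)

end abs

section concrete

variable {G : Type u} [Group G] [Finite G]

theorem coe_mem_zpowers_iff {N : Subgroup G} {z h : N} :
    h ∈ zpowers z ↔ (h : G) ∈ zpowers (z : G) := by
  constructor
  · intro hh
    obtain ⟨k, rfl⟩ := mem_zpowers_iff.mp hh
    exact mem_zpowers_iff.mpr ⟨k, by simp⟩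
  · intro hh
    obtain ⟨k, hk⟩ := mem_zpowers_iff.mp hh
    exact mem_zpowers_iff.mpr ⟨k, Subtype.ext (by simpa using hk)⟩

theorem mem_normalizer_zpowers_coe {N : Subgroup G} {z e : N}
    (h : (e : G) ∈ normalizer (zpowers (z : G) : Set G)) :
    e ∈ normalizer (zpowers z : Set N) := by
  rw [mem_normalizer_iff]
  intro x
  rw [coe_mem_zpowers_iff, coe_mem_zpowers_iff]
  have h1 := (mem_normalizer_iff.mp h) (x : G)
  simpa using h1

theorem cyclic_transfer {N R : Subgroup G} {g : N}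
    (h : IsCyclic ↥(R ⊓ centralizer ({(g : G)} : Set G))) :
    IsCyclic ↥(R.subgroupOf N ⊓ centralizer ({g} : Set N)) := by
  let f : ↥(R.subgroupOf N ⊓ centralizer ({g} : Set N)) →* ↥(R ⊓ centralizer ({(g : G)} : Set G)) :=
    { toFun := fun x => ⟨((x : N) : G), by
        refine ⟨x.2.1, ?_⟩
        show ((x : N) : G) ∈ centralizer ({(g : G)} : Set G)
        have h2 : (x : N) ∈ centralizer ({g} : Set N) := x.2.2
        rw [Subgroup.mem_centralizer_singleton_iff] at h2 ⊢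
        exact congrArg Subtype.val h2⟩
      map_one' := rfl
      map_mul' := fun _ _ => rfl }
  refine isCyclic_of_injective f ?_
  intro x y hxy
  apply Subtype.ext
  apply Subtype.ext
  have h3 := congrArg Subtype.val hxy
  exact h3

variable {s : ℕ} [hs : Fact s.Prime]

/-- `T9` in a subgroup `R` of `G`. -/
theorem frob_lift {t p : ℕ} [ht : Fact t.Prime] [hp : Fact p.Prime] (R : Subgroup G)
    (hR : IsPGroup s R) {z e : G} (hzN : z ∈ normalizer (R : Set G)) (heN : e ∈ normalizer (R : Set G))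
    (hzt : orderOf z = t) (hep : e ^ p = 1) (hn : e ∈ normalizer (zpowers z : Set G))
    (hm : ¬ Commute e z) (hts : t ≠ s) (hps : p ≠ s) (hRz : ∃ r ∈ R, z * r * z⁻¹ ≠ r) :
    ∃ y ∈ R, e * y * e⁻¹ = y ∧ z * y * z⁻¹ ≠ y := by
  set N : Subgroup G := normalizer (R : Set G) with hN
  have hRN : R ≤ N := le_normalizer
  haveI hnorm : (R.subgroupOf N).Normal := normal_subgroupOf_of_le_normalizer le_rfl
  have hR' : IsPGroup s (R.subgroupOf N) := hR.comap_subtype
  obtain ⟨r, hr, hrz⟩ := hRz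
  obtain ⟨y, hy, hye, hyz⟩ := frob_lift_abs (X := N) (R := R.subgroupOf N) (z := ⟨z, hzN⟩) (e := ⟨e, heN⟩)
    hR' (by rw [Subgroup.orderOf_mk]; exact hzt) (Subtype.ext (by simpa using hep))
    (mem_normalizer_zpowers_coe hn)
    (fun h => hm (by simpa [Commute, SemiconjBy, Subtype.ext_iff] using h))
    hts hps
    ⟨⟨r, hRN hr⟩, by simpa [Subgroup.mem_subgroupOf] using hr, by
      intro h
      exact hrz (by simpa [Subtype.ext_iff] using h)⟩
  refine ⟨(y : G), hy, by simpa [Subtype.ext_iff] using hye, ?_⟩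
  intro h
  exact hyz (Subtype.ext (by simpa using h))

/-- `T10` in a subgroup `R` of `G`. -/
theorem two_frob_subgroup {t₁ t₂ p : ℕ} [ht₁ : Fact t₁.Prime] [ht₂ : Fact t₂.Prime] [hp : Fact p.Prime]
    (R : Subgroup G) (hR : IsPGroup s R) {a₁ a₂ z₁ z₂ : G}
    (ha₁N : a₁ ∈ normalizer (R : Set G)) (ha₂N : a₂ ∈ normalizer (R : Set G))
    (hz₁N : z₁ ∈ normalizer (R : Set G)) (hz₂N : z₂ ∈ normalizer (R : Set G))
    (ha : Commute a₁ a₂) (ha₁ : a₁ ^ p = 1) (ha₂ : a₂ ^ p = 1) (hp2 : p ≠ 2) (hps : p ≠ s)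
    (hz₁ : orderOf z₁ = t₁) (hz₂ : orderOf z₂ = t₂) (ht₁s : t₁ ≠ s) (ht₂s : t₂ ≠ s)
    (hc₁ : Commute a₁ z₁) (hc₂ : Commute a₂ z₂)
    (hn₁ : a₂ ∈ normalizer (zpowers z₁ : Set G)) (hn₂ : a₁ ∈ normalizer (zpowers z₂ : Set G))
    (hm₁ : ¬ Commute a₂ z₁) (hm₂ : ¬ Commute a₁ z₂)
    (hR₁ : ∃ r ∈ R, z₁ * r * z₁⁻¹ ≠ r) (hR₂ : ∃ r ∈ R, z₂ * r * z₂⁻¹ ≠ r)
    (hcyc₀ : IsCyclic ↥(R ⊓ centralizer ({a₁} : Set G)))
    (hcyc₁ : IsCyclic ↥(R ⊓ centralizer ({a₁ * a₂} : Set G)))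
    (hcyc₂ : IsCyclic ↥(R ⊓ centralizer ({a₁ ^ 2 * a₂} : Set G))) : False := by
  set N : Subgroup G := normalizer (R : Set G) with hN
  have hRN : R ≤ N := le_normalizer
  haveI hnorm : (R.subgroupOf N).Normal := normal_subgroupOf_of_le_normalizer le_rfl
  have hR' : IsPGroup s (R.subgroupOf N) := hR.comap_subtype
  have conv : ∀ z : N, (∃ r ∈ R, (z : G) * r * (z : G)⁻¹ ≠ r) →
      ∃ r ∈ R.subgroupOf N, z * r * z⁻¹ ≠ r := by
    rintro z ⟨r, hr, hrz⟩
    refine ⟨⟨r, hRN hr⟩, by simpa [Subgroup.mem_subgroupOf] using hr, ?_⟩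
    intro h
    exact hrz (by simpa [Subtype.ext_iff] using h)
  let A₁ : N := ⟨a₁, ha₁N⟩
  let A₂ : N := ⟨a₂, ha₂N⟩
  let Z₁ : N := ⟨z₁, hz₁N⟩
  let Z₂ : N := ⟨z₂, hz₂N⟩
  have comm_conv : ∀ {x y : N}, Commute (x : G) (y : G) → Commute x y := fun h =>
    Subtype.ext (by simpa using h.eq)
  have comm_conv' : ∀ {x y : N}, Commute x y → Commute (x : G) (y : G) := fun h =>
    congrArg Subtype.val h.eq
  exact two_frob_abs (X := N) (R := R.subgroupOf N) (a₁ := A₁) (a₂ := A₂) (z₁ := Z₁) (z₂ := Z₂) hR'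
    (comm_conv ha) (Subtype.ext (by simpa [A₁] using ha₁)) (Subtype.ext (by simpa [A₂] using ha₂))
    hp2 hps
    (by rw [Subgroup.orderOf_mk]; exact hz₁) (by rw [Subgroup.orderOf_mk]; exact hz₂) ht₁s ht₂s
    (comm_conv hc₁) (comm_conv hc₂)
    (mem_normalizer_zpowers_coe hn₁) (mem_normalizer_zpowers_coe hn₂)
    (fun h => hm₁ (comm_conv' h)) (fun h => hm₂ (comm_conv' h))
    (conv Z₁ hR₁) (conv Z₂ hR₂)
    (cyclic_transfer (g := A₁) hcyc₀)
    (cyclic_transfer (g := A₁ * A₂) hcyc₁)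
    (cyclic_transfer (g := A₁ ^ 2 * A₂) hcyc₂)

end concrete

end Cfsg.Agent.Lib.BGUT2
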