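import Mathlib
import Cfsg.Prelude.Def_OddOrderLocal
import Cfsg.Prelude.Def_Amalgam
import Cfsg.Agent.Lib.BGFit5
import Cfsg.Agent.Lib.BGUT2
import Cfsg.Agent.S1398
import Cfsg.Agent.S1401
import Cfsg.Agent.S1456

/-!
# Uniqueness Theorem: cyclic subgroup lemmas; the type I maximal subgroups.
-/

set_option autoImplicit false
set_option linter.unusedSectionVars false
set_option linter.unusedVariables false
set_option linter.style.haveILetI false
set_option linter.unusedSimpArgs false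

namespace Cfsg.Agent.Lib.BGUT3

open Cfsg Subgroup Cfsg.Agent.Lib.CoprimeInv Cfsg.Agent.Lib.BGTrans Cfsg.Agent.Lib.BGTrans2
  Cfsg.Agent.Lib.PCore Cfsg.Agent.Lib.BGUniq Cfsg.Agent.Lib.BGUniq2 Cfsg.Agent.Lib.BGUniq3
  Cfsg.Agent.Lib.BGFit1 Cfsg.Agent.Lib.BGFit2 Cfsg.Agent.Lib.BGFit5
  Cfsg.Agent.Lib.BGUT1 Cfsg.Agent.Lib.BGUT2

universe u

section cyc

theorem le_of_card_dvd_cyc {Z : Type u} [Group Z] [Finite Z] [IsCyclic Z] (X Y : Subgroup Z)
    (h : Nat.card X ∣ Nat.card Y) : X ≤ Y := by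
  classical
  cases nonempty_fintype Z
  intro x hx
  set n := Nat.card Y with hn
  have hn0 : 0 < n := Nat.card_pos
  have hle := IsCyclic.card_pow_eq_one_le (α := Z) hn0
  set S : Finset Z := Finset.univ.filter (fun a => a ^ n = 1) with hS
  set T : Finset Z := Finset.univ.filter (fun a => a ∈ Y) with hT
  have hTS : T ⊆ S := by
    intro a ha
    rw [hT, Finset.mem_filter] at ha
    rw [hS, Finset.mem_filter]
    refine ⟨Finset.mem_univ a, ?_⟩
    have := pow_card_eq_one' (x := (⟨a, ha.2⟩ : Y))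
    exact congrArg Subtype.val this
  have hTcard : T.card = n := by
    rw [hn, Nat.card_eq_fintype_card, hT, Fintype.card_subtype]
  have hTS' : T = S := Finset.eq_of_subset_of_card_le hTS (by rw [hTcard]; exact hle)
  have hxS : x ∈ S := by
    rw [hS, Finset.mem_filter]
    refine ⟨Finset.mem_univ x, ?_⟩
    obtain ⟨m, hm⟩ := h
    rw [hm, pow_mul]
    have := pow_card_eq_one' (x := (⟨x, hx⟩ : X))
    have h2 : x ^ Nat.card X = 1 := congrArg Subtype.val this
    rw [h2, one_pow]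
  rw [← hTS', hT, Finset.mem_filter] at hxS
  exact hxS.2

variable {G : Type u} [Group G] [Finite G]

theorem le_of_card_dvd_in_cyc {Z X Y : Subgroup G} (hZ : IsCyclic Z) (hX : X ≤ Z) (hY : Y ≤ Z)
    (h : Nat.card X ∣ Nat.card Y) : X ≤ Y := by
  have h1 : X.subgroupOf Z ≤ Y.subgroupOf Z := by
    apply le_of_card_dvd_cyc
    rw [card_subgroupOf_of_le hX, card_subgroupOf_of_le hY]
    exact h
  intro x hx
  have h2 : (⟨x, hX hx⟩ : Z) ∈ X.subgroupOf Z := hx
  exact h1 h2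

theorem comparable_in_cyc {s : ℕ} [hs : Fact s.Prime] {Z X Y : Subgroup G} (hZ : IsCyclic Z)
    (hZs : IsPGroup s Z) (hX : X ≤ Z) (hY : Y ≤ Z) : X ≤ Y ∨ Y ≤ X := by
  obtain ⟨a, ha⟩ := IsPGroup.iff_card.mp (hZs.to_le hX)
  obtain ⟨b, hb⟩ := IsPGroup.iff_card.mp (hZs.to_le hY)
  rcases le_total a b with h | h
  · left
    exact le_of_card_dvd_in_cyc hZ hX hY (by rw [ha, hb]; exact pow_dvd_pow s h)
  · right
    exact le_of_card_dvd_in_cyc hZ hY hX (by rw [ha, hb]; exact pow_dvd_pow s h)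

theorem mem_zpowers_of_orderOf_eq {Z : Subgroup G} (hZ : IsCyclic Z) {u v : G} (hu : u ∈ Z)
    (hv : v ∈ Z) (h : orderOf u = orderOf v) : u ∈ zpowers v := by
  have h1 : zpowers u ≤ zpowers v := le_of_card_dvd_in_cyc hZ (zpowers_le.mpr hu) (zpowers_le.mpr hv)
    (by rw [Nat.card_zpowers, Nat.card_zpowers, h])
  exact h1 (mem_zpowers u)

/-- Conjugation on a cyclic subgroup is a power map. -/
theorem cyc_power {R : Subgroup G} (hR : IsCyclic R) {x : G} (hx : x ∈ normalizer (R : Set G)) :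
    ∃ i : ℤ, ∀ r ∈ R, x * r * x⁻¹ = r ^ i := by
  obtain ⟨g, hg⟩ := hR
  have h1 : x * (g : G) * x⁻¹ ∈ R := (mem_normalizer_iff.mp hx _).mp g.2
  obtain ⟨i, hi⟩ := mem_zpowers_iff.mp (hg ⟨_, h1⟩)
  have hi' : (g : G) ^ i = x * (g : G) * x⁻¹ := by simpa using congrArg Subtype.val hi
  refine ⟨i, fun r hr => ?_⟩
  obtain ⟨k, hk⟩ := mem_zpowers_iff.mp (hg ⟨r, hr⟩)
  have hk' : (g : G) ^ k = r := by simpa using congrArg Subtype.val hk
  rw [← hk', ← conj_zpow, ← hi', zpow_comm]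

/-- If `a` normalizes `⟨z⟩` without centralizing `z` of prime order, and both normalize a cyclic
subgroup `R`, then `z` centralizes `R`. -/
theorem centralizes_of_moved {R : Subgroup G} (hR : IsCyclic R) {a z : G}
    (ha : a ∈ normalizer (R : Set G)) (hz : z ∈ normalizer (R : Set G)) {t : ℕ} (ht : t.Prime)
    (hzt : orderOf z = t) (hn : a ∈ normalizer (zpowers z : Set G)) (hm : ¬ Commute a z) :
    ∀ r ∈ R, z * r * z⁻¹ = r := by
  intro r hr
  obtain ⟨i, hi⟩ := cyc_power hR hz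
  obtain ⟨j, hj⟩ := cyc_power hR ha
  set h := a⁻¹ * z⁻¹ * a * z with hh
  have h1 : h ∈ zpowers z := by
    have h2 : a⁻¹ * z⁻¹ * a ∈ zpowers z := by
      have := (mem_normalizer_iff.mp (inv_mem hn) z⁻¹).mp (inv_mem (mem_zpowers z))
      simpa using this
    exact mul_mem h2 (mem_zpowers z)
  have h2 : h ≠ 1 := by
    intro h3
    apply hm
    show a * z = z * a
    have h6 : z * a * h = a * z := by rw [hh]; group
    rw [h3, mul_one] at h6
    exact h6.symm
  have h3 : h * r * h⁻¹ = r := by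
    have hA : (a * z) * r * (a * z)⁻¹ = (z * a) * r * (z * a)⁻¹ := by
      have e1 : (a * z) * r * (a * z)⁻¹ = a * (z * r * z⁻¹) * a⁻¹ := by group
      have e2 : (z * a) * r * (z * a)⁻¹ = z * (a * r * a⁻¹) * z⁻¹ := by group
      rw [e1, e2, hi r hr, hj r hr, ← conj_zpow, ← conj_zpow, hi r hr, hj r hr, zpow_comm]
    have e3 : h = (z * a)⁻¹ * (a * z) := by rw [hh]; group
    rw [e3]
    calc (z * a)⁻¹ * (a * z) * r * ((z * a)⁻¹ * (a * z))⁻¹
        = (z * a)⁻¹ * ((a * z) * r * (a * z)⁻¹) * (z * a) := by group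
      _ = (z * a)⁻¹ * ((z * a) * r * (z * a)⁻¹) * (z * a) := by rw [hA]
      _ = r := by group
  have h4 : z ∈ zpowers h := generator_of_ne_one ht hzt h1 h2
  have h5 : h ∈ centralizer ({r} : Set G) := by
    rw [Subgroup.mem_centralizer_singleton_iff]
    exact comm_of_conj_eq h3
  have h6 := (zpowers_le.mpr h5) h4
  rw [Subgroup.mem_centralizer_singleton_iff] at h6
  rw [h6]
  group

/-- A `p'`-element normalizing a cyclic `s`-group and fixing an element of order `s` centralizes it. -/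
theorem cyc_moved {Z : Subgroup G} {s p : ℕ} [hs : Fact s.Prime] [hp : Fact p.Prime] (hZ : IsCyclic Z)
    (hZs : IsPGroup s Z) {a : G} (haN : a ∈ normalizer (Z : Set G)) (hap : a ^ p = 1) (hps : p ≠ s)
    {z : G} (hzZ : z ∈ Z) (hzs : orderOf z = s) (hfix : a * z * a⁻¹ = z) {x : G} (hx : x ∈ Z) :
    a * x * a⁻¹ = x := by
  by_contra hne
  have hcomm : ∀ u ∈ Z, ∀ v ∈ Z, Commute u v := by
    intro u hu v hv
    haveI := hZ
    have h1 : (⟨u, hu⟩ : Z) * ⟨v, hv⟩ = ⟨v, hv⟩ * ⟨u, hu⟩ := mul_comm' _ _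
    exact congrArg Subtype.val h1
  set y := a * x * a⁻¹ with hy
  have hyZ : y ∈ Z := (mem_normalizer_iff.mp haN _).mp hx
  set w := x⁻¹ * y with hw
  have hwZ : w ∈ Z := mul_mem (inv_mem hx) hyZ
  have hw1 : w ≠ 1 := by
    intro h
    apply hne
    rw [hw, inv_mul_eq_one] at h
    exact h.symm
  -- `z ∈ ⟨w⟩`
  have hzw : z ∈ zpowers w := by
    have h1 : zpowers z ≤ zpowers w := by
      apply le_of_card_dvd_in_cyc hZ (zpowers_le.mpr hzZ) (zpowers_le.mpr hwZ)
      rw [Nat.card_zpowers, Nat.card_zpowers, hzs]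
      obtain ⟨k, hk⟩ := (IsPGroup.iff_orderOf.mp hZs) ⟨w, hwZ⟩
      have hk' : orderOf w = s ^ k := by rw [← Subgroup.orderOf_mk w hwZ]; exact hk
      rw [hk']
      have hk0 : k ≠ 0 := by
        rintro rfl
        rw [pow_zero] at hk'
        exact hw1 (orderOf_eq_one_iff.mp hk')
      exact dvd_pow_self s hk0
    exact h1 (mem_zpowers z)
  obtain ⟨k, hk⟩ := mem_zpowers_iff.mp hzw
  set x₁ := x ^ k with hx₁
  have hstep : a * x₁ * a⁻¹ = x₁ * z := by
    rw [hx₁, ← conj_zpow, ← hy, ← hk]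
    have h1 : y = x * w := by rw [hw]; group
    rw [h1, (hcomm x hx w hwZ).mul_zpow]
  have hpow : ∀ n : ℕ, a ^ n * x₁ * (a ^ n)⁻¹ = x₁ * z ^ n := by
    intro n
    induction n with
    | zero => simp
    | succ n ih =>
      have e1 : a ^ (n + 1) * x₁ * (a ^ (n + 1))⁻¹ = a * (a ^ n * x₁ * (a ^ n)⁻¹) * a⁻¹ := by
        rw [pow_succ']; group
      rw [e1, ih]
      have e2 : a * (x₁ * z ^ n) * a⁻¹ = (a * x₁ * a⁻¹) * (a * z * a⁻¹) ^ n := by
        rw [conj_pow]; group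
      rw [e2, hstep, hfix, pow_succ', mul_assoc]
  have h1 := hpow p
  rw [hap, one_mul, inv_one, mul_one] at h1
  have h2 : z ^ p = 1 := by
    have := mul_left_cancel (a := x₁) (b := z ^ p) (c := 1) (by rw [← h1, mul_one])
    exact this
  have h3 : s ∣ p := by rw [← hzs]; exact orderOf_dvd_of_pow_eq_one h2
  exact hps ((Nat.prime_dvd_prime_iff_eq hs.out hp.out).mp h3).symm

end cyc

section geom

variable {G : Type u} [Group G] [Finite G] {p : ℕ} [hp : Fact p.Prime]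

/-- An elementary abelian subgroup of order `p³`. -/
structure EA3 (A₀ : Subgroup G) (p : ℕ) : Prop where
  comm : ∀ a ∈ A₀, ∀ b ∈ A₀, a * b = b * a
  exp : ∀ a ∈ A₀, a ^ p = 1
  card : Nat.card A₀ = p ^ 3

variable {A₀ : Subgroup G}

theorem EA3.orderOf (h : EA3 A₀ p) {a : G} (ha : a ∈ A₀) (h1 : a ≠ 1) : orderOf a = p :=
  orderOf_eq_prime (h.exp a ha) h1

theorem EA3.isPGroup (h : EA3 A₀ p) : IsPGroup p A₀ :=
  IsPGroup.iff_card.mpr ⟨3, h.card⟩

theorem EA3.isMulCommutative (h : EA3 A₀ p) : IsMulCommutative A₀ :=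
  ⟨⟨fun a b => Subtype.ext (h.comm a a.2 b b.2)⟩⟩

theorem EA3.le_normalizer (h : EA3 A₀ p) {X Y : Subgroup G} (hX : X ≤ A₀) (hY : Y ≤ A₀) :
    X ≤ normalizer (Y : Set G) := by
  intro x hx
  rw [mem_normalizer_iff]
  intro y
  have key : ∀ y ∈ A₀, x * y * x⁻¹ = y := fun y hy => by
    rw [h.comm x (hX hx) y hy]; group
  constructor
  · intro hy'
    rw [key y (hY hy')]; exact hy'
  · intro hy'
    have h1 : x * y * x⁻¹ ∈ A₀ := hY hy'
    have h2 : y = x⁻¹ * (x * y * x⁻¹) * x := by group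
    have h3 : y ∈ A₀ := by
      rw [h2]
      exact mul_mem (mul_mem (inv_mem (hX hx)) h1) (hX hx)
    rwa [key y h3] at hy'

theorem EA3.card_le (h : EA3 A₀ p) {X : Subgroup G} (hX : X ≤ A₀) : Nat.card X ≤ p ^ 3 := by
  rw [← h.card]
  exact Nat.le_of_dvd Nat.card_pos (Subgroup.card_dvd_of_le hX)

theorem EA3.exists_inter (h : EA3 A₀ p) {X Y : Subgroup G} (hX : X ≤ A₀) (hY : Y ≤ A₀)
    (hXc : p ^ 2 ≤ Nat.card X) (hYc : p ^ 2 ≤ Nat.card Y) : ∃ c, c ∈ X ∧ c ∈ Y ∧ c ≠ 1 := by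
  have hpp : p.Prime := hp.out
  have h1 := card_sup_mul_card_inf (h.le_normalizer hX hY)
  have h2 : Nat.card ↥(X ⊔ Y) ≤ p ^ 3 := h.card_le (sup_le hX hY)
  have h3 : Nat.card ↥(X ⊓ Y) ≠ 1 := by
    intro h4
    rw [h4, mul_one] at h1
    have h5 : p ^ 2 * p ^ 2 ≤ Nat.card X * Nat.card Y := Nat.mul_le_mul hXc hYc
    have h6 : p ^ 3 < p ^ 2 * p ^ 2 := by
      rw [← pow_add]
      exact Nat.pow_lt_pow_right hpp.one_lt (by norm_num)
    omega
  have h4 : X ⊓ Y ≠ ⊥ := fun h5 => h3 (by rw [h5]; exact Subgroup.card_bot)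
  obtain ⟨c, hc, hc1⟩ := exists_mem_ne_one h4
  exact ⟨c, hc.1, hc.2, hc1⟩

theorem EA3.card_ge_of_not_cyclic (h : EA3 A₀ p) {L : Subgroup G} (hL : L ≤ A₀) (hc : ¬ IsCyclic L) :
    p ^ 2 ≤ Nat.card L := by
  have hpp : p.Prime := hp.out
  obtain ⟨k, hk⟩ := IsPGroup.iff_card.mp (h.isPGroup.to_le hL)
  rw [hk]
  by_contra hlt
  push Not at hlt
  have hk2 : k < 2 := (Nat.pow_lt_pow_iff_right hpp.one_lt).mp hlt
  interval_cases k
  · apply hc
    rw [pow_zero] at hk
    have : Subsingleton L := (Nat.card_eq_one_iff_unique.mp hk).1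
    infer_instance
  · apply hc
    rw [pow_one] at hk
    exact isCyclic_of_prime_card hk

theorem EA3.card_ge_of_relIndex (h : EA3 A₀ p) {B : Subgroup G} (hB : B ≤ A₀)
    (hi : B.relIndex A₀ ≤ p) : p ^ 2 ≤ Nat.card B := by
  have hpp : p.Prime := hp.out
  have h1 : Nat.card (B.subgroupOf A₀) * (B.subgroupOf A₀).index = Nat.card A₀ :=
    Subgroup.card_mul_index _
  rw [card_subgroupOf_of_le hB, h.card] at h1
  have h2 : (B.subgroupOf A₀).index = B.relIndex A₀ := rfl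
  rw [h2] at h1
  by_contra hlt
  push Not at hlt
  have h3 : Nat.card B * B.relIndex A₀ < p ^ 2 * p := by
    have hpos : 0 < B.relIndex A₀ := by
      rcases Nat.eq_zero_or_pos (B.relIndex A₀) with h0 | h0
      · rw [h0, mul_zero] at h1
        exact absurd h1.symm (pow_ne_zero 3 hpp.ne_zero)
      · exact h0
    calc Nat.card B * B.relIndex A₀ < p ^ 2 * B.relIndex A₀ := Nat.mul_lt_mul_of_pos_right hlt hpos
      _ ≤ p ^ 2 * p := Nat.mul_le_mul_left _ hi
  rw [h1, pow_succ] at h3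
  exact lt_irrefl _ h3

/-- The "line" through two points. -/
abbrev line (c e : G) : Subgroup G := zpowers c ⊔ zpowers e

theorem line_le {K : Subgroup G} {c e : G} (hc : c ∈ K) (he : e ∈ K) : line c e ≤ K :=
  sup_le (zpowers_le.mpr hc) (zpowers_le.mpr he)

theorem EA3.line_card (h : EA3 A₀ p) {c e : G} (hc : c ∈ A₀) (he : e ∈ A₀) (hc1 : c ≠ 1)
    (hec : e ∉ zpowers c) : Nat.card (line c e) = p ^ 2 := by
  have hpp : p.Prime := hp.out
  have he1 : e ≠ 1 := fun h1 => hec (by rw [h1]; exact one_mem _)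
  have h1 := card_sup_mul_card_inf (h.le_normalizer (zpowers_le.mpr hc) (zpowers_le.mpr he))
  have h2 : zpowers c ⊓ zpowers e = ⊥ := by
    rw [eq_bot_iff]
    intro x hx
    by_contra hx1
    rw [Subgroup.mem_bot] at hx1
    apply hec
    have hx2 : e ∈ zpowers x := generator_of_ne_one hpp (h.orderOf he he1) hx.2 hx1
    exact (zpowers_le.mpr hx.1) hx2
  rw [h2, Subgroup.card_bot, mul_one, Nat.card_zpowers, Nat.card_zpowers, h.orderOf hc hc1,
    h.orderOf he he1] at h1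
  rw [h1, pow_two]

theorem EA3.not_cyclic_of_card (h : EA3 A₀ p) {L : Subgroup G} (hL : L ≤ A₀)
    (hc : Nat.card L = p ^ 2) : ¬ IsCyclic L := by
  have hpp : p.Prime := hp.out
  apply not_isCyclic_of_ea hpp (fun a ha => h.exp a (hL ha))
  rw [hc]
  calc p = p ^ 1 := (pow_one p).symm
    _ < p ^ 2 := Nat.pow_lt_pow_right hpp.one_lt (by norm_num)

/-- A hyperplane and a point outside generate. -/
theorem EA3.sup_eq (h : EA3 A₀ p) {L : Subgroup G} (hL : L ≤ A₀) (hc : Nat.card L = p ^ 2) {x : G}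
    (hx : x ∈ A₀) (hxL : x ∉ L) : L ⊔ zpowers x = A₀ := by
  have hpp : p.Prime := hp.out
  have hx1 : x ≠ 1 := fun h1 => hxL (by rw [h1]; exact one_mem _)
  have h1 := card_sup_mul_card_inf (h.le_normalizer hL (zpowers_le.mpr hx))
  have h2 : L ⊓ zpowers x = ⊥ := by
    rw [eq_bot_iff]
    intro y hy
    by_contra hy1
    rw [Subgroup.mem_bot] at hy1
    apply hxL
    have hx2 : x ∈ zpowers y := generator_of_ne_one hpp (h.orderOf hx hx1) hy.2 hy1
    exact (zpowers_le.mpr hy.1) hx2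
  rw [h2, Subgroup.card_bot, mul_one, Nat.card_zpowers, hc, h.orderOf hx hx1] at h1
  apply Subgroup.eq_of_le_of_card_ge (sup_le hL (zpowers_le.mpr hx))
  rw [h1, h.card]
  rw [pow_succ]

/-- The centralizer of `z` in `A₀` is exactly a given hyperplane. -/
theorem EA3.moved (h : EA3 A₀ p) {L : Subgroup G} (hL : L ≤ A₀) (hc : Nat.card L = p ^ 2) {z a x : G}
    (hLz : L ≤ centralizer ({z} : Set G)) (ha : a ∈ A₀) (ham : ¬ Commute a z) (hx : x ∈ A₀)
    (hxL : x ∉ L) : ¬ Commute x z := by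
  intro hxz
  apply ham
  have h1 := h.sup_eq hL hc hx hxL
  have h2 : A₀ ≤ centralizer ({z} : Set G) := by
    rw [← h1]
    refine sup_le hLz (zpowers_le.mpr ?_)
    rw [Subgroup.mem_centralizer_singleton_iff]
    exact hxz
  have h3 := h2 ha
  rw [Subgroup.mem_centralizer_singleton_iff] at h3
  exact h3

/-- Two hyperplanes meet in a point. -/
theorem EA3.meet (h : EA3 A₀ p) {L L' : Subgroup G} (hL : L ≤ A₀) (hL' : L' ≤ A₀)
    (hc : Nat.card L = p ^ 2) (hc' : Nat.card L' = p ^ 2) (hne : L ≠ L') {c x : G} (hcL : c ∈ L)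
    (hcL' : c ∈ L') (hc1 : c ≠ 1) (hxL : x ∈ L) (hxL' : x ∈ L') : x ∈ zpowers c := by
  have hpp : p.Prime := hp.out
  have hex : ∃ y ∈ L', y ∉ L := by
    by_contra hno
    push Not at hno
    exact hne (Subgroup.eq_of_le_of_card_ge hno (by rw [hc, hc'])).symm
  obtain ⟨y, hyL', hyL⟩ := hex
  have h1 := h.sup_eq hL hc (hL' hyL') hyL
  have h2 : L ⊔ L' = A₀ := by
    apply le_antisymm (sup_le hL hL')
    rw [← h1]
    exact sup_le_sup_left (zpowers_le.mpr hyL') L
  have h3 := card_sup_mul_card_inf (h.le_normalizer hL hL')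
  rw [h2, h.card, hc, hc'] at h3
  have h4 : Nat.card ↥(L ⊓ L') = p := by
    have h5 : p ^ 3 * Nat.card ↥(L ⊓ L') = p ^ 3 * p := by
      rw [h3]; ring
    exact Nat.eq_of_mul_eq_mul_left (pow_pos hpp.pos 3) h5
  have h5 : zpowers c = L ⊓ L' := by
    apply Subgroup.eq_of_le_of_card_ge (zpowers_le.mpr (Subgroup.mem_inf.mpr ⟨hcL, hcL'⟩))
    rw [h4, Nat.card_zpowers, h.orderOf (hL hcL) hc1]
  rw [h5]
  exact Subgroup.mem_inf.mpr ⟨hxL, hxL'⟩

/-- Two lines through a point of a hyperplane, different from it and from each other. -/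
theorem EA3.exists_two_lines (h : EA3 A₀ p) {L : Subgroup G} (hL : L ≤ A₀) (hc : Nat.card L = p ^ 2)
    {c : G} (hcL : c ∈ L) (hc1 : c ≠ 1) :
    ∃ e₂ e₃ : G, e₂ ∈ A₀ ∧ e₃ ∈ A₀ ∧ e₂ ∉ L ∧ e₃ ∉ L ∧ e₂ ∉ line c e₃ ∧ e₃ ∉ line c e₂ := by
  have hpp : p.Prime := hp.out
  -- a point of `L` outside `⟨c⟩`
  have hu : ∃ u ∈ L, u ∉ zpowers c := by
    by_contra hno
    push Not at hno
    have h1 : Nat.card L ≤ Nat.card (zpowers c) := Subgroup.card_le_of_le hno
    rw [hc, Nat.card_zpowers, h.orderOf (hL hcL) hc1] at h1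
    have h2 : p ^ 1 < p ^ 2 := Nat.pow_lt_pow_right hpp.one_lt (by norm_num)
    rw [pow_one] at h2
    omega
  obtain ⟨u, huL, huc⟩ := hu
  have hv : ∃ v ∈ A₀, v ∉ L := by
    by_contra hno
    push Not at hno
    have h1 : Nat.card A₀ ≤ Nat.card L := Subgroup.card_le_of_le hno
    rw [hc, h.card] at h1
    have h2 : p ^ 2 < p ^ 3 := Nat.pow_lt_pow_right hpp.one_lt (by norm_num)
    omega
  obtain ⟨v, hvA, hvL⟩ := hv
  have hLline : L = line c u := by
    symm
    apply Subgroup.eq_of_le_of_card_ge (line_le hcL huL)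
    rw [hc, h.line_card (hL hcL) (hL huL) hc1 huc]
  have huv : u * v ∉ L := fun h1 => hvL (by
    have : v = u⁻¹ * (u * v) := by group
    rw [this]
    exact mul_mem (inv_mem huL) h1)
  have hcz : zpowers c ≤ L := zpowers_le.mpr hcL
  refine ⟨v, u * v, hvA, mul_mem (hL huL) hvA, hvL, huv, ?_, ?_⟩
  · intro h1
    -- `u ∈ line c (u * v)`, so `L = line c (u * v)`.
    have hmem : u ∈ line c (u * v) := by
      have e : (u * v) * v⁻¹ = u := by group
      have h0 := mul_mem (Subgroup.mem_sup_right (mem_zpowers (u * v)) : u * v ∈ line c (u * v)) (inv_mem h1)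
      rwa [e] at h0
    have h2 : L ≤ line c (u * v) := by
      rw [hLline]
      exact line_le (Subgroup.mem_sup_left (mem_zpowers _)) hmem
    have h3 : L = line c (u * v) := by
      apply Subgroup.eq_of_le_of_card_ge h2
      rw [hc, h.line_card (hL hcL) (mul_mem (hL huL) hvA) hc1 (fun h4 => huv (hcz h4))]
    exact huv (by rw [h3]; exact Subgroup.mem_sup_right (mem_zpowers _))
  · intro h1
    have hmem : u ∈ line c v := by
      have e : (u * v) * v⁻¹ = u := by group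
      have h0 := mul_mem h1 (inv_mem (Subgroup.mem_sup_right (mem_zpowers v) : v ∈ line c v))
      rwa [e] at h0
    have h2 : L ≤ line c v := by
      rw [hLline]
      exact line_le (Subgroup.mem_sup_left (mem_zpowers _)) hmem
    have h3 : L = line c v := by
      apply Subgroup.eq_of_le_of_card_ge h2
      rw [hc, h.line_card (hL hcL) hvA hc1 (fun h4 => hvL (hcz h4))]
    exact hvL (by rw [h3]; exact Subgroup.mem_sup_right (mem_zpowers _))

end geom

end Cfsg.Agent.Lib.BGUT3
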