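import Mathlib
import Cfsg.Agent.Lib.BGUT3

/-!
# Uniqueness Theorem: maximal subgroups `H` with `H' ≰ F(H)`.
-/

set_option autoImplicit false
set_option linter.unusedSectionVars false
set_option linter.unusedVariables false
set_option linter.style.haveILetI false
set_option linter.unusedSimpArgs false

namespace Cfsg.Agent.Lib.BGUT4

open Cfsg Subgroup Cfsg.Agent.Lib.CoprimeInv Cfsg.Agent.Lib.BGTrans Cfsg.Agent.Lib.BGTrans2
  Cfsg.Agent.Lib.PCore Cfsg.Agent.Lib.BGUniq Cfsg.Agent.Lib.BGUniq2 Cfsg.Agent.Lib.BGUniq3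
  Cfsg.Agent.Lib.BGFit1 Cfsg.Agent.Lib.BGFit2 Cfsg.Agent.Lib.BGFit5
  Cfsg.Agent.Lib.BGUT1 Cfsg.Agent.Lib.BGUT2 Cfsg.Agent.Lib.BGUT3

universe u

variable {G : Type u} [Group G] [Finite G]

/-- `H' ≰ F(H)`. -/
def NotII (H : Subgroup G) : Prop := ¬ commutator H ≤ fittingSubgroup H

theorem ti_ea (hG : IsMinSimpleOddOrder G) {H : Subgroup G} (hH : IsCoatom H) (hd : NotII H)
    {r : ℕ} [Fact r.Prime] {U : Subgroup G} (hUF : U ≤ fittingOf H) (hUc : IsMulCommutative U)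
    (hUe : ∀ u ∈ U, u ^ r = 1) :
    ∃ q : ℕ, q.Prime ∧ ∃ E : Subgroup G, E ≤ fittingOf H ∧ E ≤ centralizer (U : Set G) ∧
      IsMulCommutative E ∧ (∀ a ∈ E, a ^ q = 1) ∧ q ^ 2 < Nat.card E := by
  haveI : Group.IsSolvable H := IsMin.solvable hG hH.1
  have hUH : U ≤ H := hUF.trans (fittingOf_le_self H)
  have hU'F : U.subgroupOf H ≤ fittingSubgroup H := by
    intro x hx
    obtain ⟨y, hy, hyx⟩ := hUF hx
    have h1 : y = x := Subtype.ext hyx
    rwa [← h1]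
  have hU'e : IsElementaryAbelian r (U.subgroupOf H) :=
    ⟨Cfsg.Agent.Lib.BGTH.isMulCommutative_subgroupOf H hUc,
      fun a ha => Subtype.ext (by simpa using hUe a ha)⟩
  have hr : ¬ RankLE 2 ↥(fittingSubgroup H ⊓ centralizer (U.subgroupOf H : Set H)) := fun h =>
    hd (Cfsg.Agent.S1456.result (IsMin.odd_card hG H) r (U.subgroupOf H) hU'F hU'e h)
  obtain ⟨q, hq, E', hE'Z, hE'c, hE'e, hE'k⟩ := exists_elemAb_of_not_rankLE hr
  refine ⟨q, hq, E'.map H.subtype, Subgroup.map_mono (hE'Z.trans inf_le_left), ?_, ?_, ?_, ?_⟩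
  · rintro _ ⟨x, hx, rfl⟩
    rw [Subgroup.mem_centralizer_iff]
    intro u hu
    have h1 := Subgroup.mem_centralizer_iff.mp (hE'Z hx).2 ⟨u, hUH hu⟩ hu
    exact congrArg Subtype.val h1
  · refine ⟨⟨?_⟩⟩
    rintro ⟨_, x, hx, rfl⟩ ⟨_, y, hy, rfl⟩
    apply Subtype.ext
    have h1 := hE'c.is_comm.comm ⟨x, hx⟩ ⟨y, hy⟩
    exact congrArg (fun w : E' => ((w : H) : G)) h1
  · rintro _ ⟨x, hx, rfl⟩
    simpa using congrArg Subtype.val (hE'e x hx)
  · rw [Subgroup.card_map_of_injective H.subtype_injective]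
    exact hE'k

theorem uniq_of_ea (hG : IsMinSimpleOddOrder G) {H : Subgroup G} (hH : IsCoatom H) {q : ℕ} (hq : q.Prime)
    {E : Subgroup G} (hEF : E ≤ fittingOf H) (hEc : IsMulCommutative E) (hEe : ∀ a ∈ E, a ^ q = 1)
    (hEk : q ^ 2 < Nat.card E) : InUniqueMaximal E := by
  haveI : Fact q.Prime := ⟨hq⟩
  have hEp : IsPGroup q E := fun a => ⟨1, Subtype.ext (by simpa using hEe a a.2)⟩
  have hF : ¬ PRankLE q 2 ↥(fittingOf H) := by
    rw [BGSigma.prankLE_iff]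
    intro h
    have := h E hEF hEc hEe
    omega
  have hE3 : ¬ PRankLE q 2 ↥E := by
    rw [BGSigma.prankLE_iff]
    intro h
    have := h E le_rfl hEc hEe
    omega
  exact Cfsg.Agent.S1401.result hG H hH q hF E hEp hEc hE3

theorem eq_of_uniq {E H H₁ : Subgroup G} (hE : InUniqueMaximal E) (hH : IsCoatom H) (hEH : E ≤ H)
    (hH₁ : IsCoatom H₁) (hEH₁ : E ≤ H₁) : H₁ = H := by
  obtain ⟨M, _, huniq⟩ := hE
  rw [huniq H₁ ⟨hH₁, hEH₁⟩, huniq H ⟨hH, hEH⟩]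

/-- Noncyclic subgroups of `F(H)` lie only in `H`. -/
theorem eq_of_not_cyclic (hG : IsMinSimpleOddOrder G) {H : Subgroup G} (hH : IsCoatom H) (hd : NotII H)
    {r : ℕ} [Fact r.Prime] {D : Subgroup G} (hDF : D ≤ fittingOf H) (hDp : IsPGroup r D)
    (hDc : ¬ IsCyclic D) {H₁ : Subgroup G} (hH₁ : IsCoatom H₁) (hDH₁ : D ≤ H₁) : H₁ = H := by
  have hD1 : D ≠ ⊥ := by
    rintro rfl
    exact hDc inferInstance
  have hodd : r ≠ 2 := prime_ne_two_of_dvd hG (dvd_of_isPGroup hDp hD1)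
  have hr1 : ¬ RankLE 1 D := not_rankLE_one_of_not_cyclic hodd hDp hDc
  obtain ⟨r', hr', U, hUD, hUc, hUe, hUk⟩ := exists_elemAb_of_not_rankLE hr1
  haveI : Fact r'.Prime := ⟨hr'⟩
  obtain ⟨q, hq, E, hEF, hEU, hEc, hEe, hEk⟩ := ti_ea hG hH hd (hUD.trans hDF) hUc hUe
  have hEu := uniq_of_ea hG hH hq hEF hEc hEe hEk
  have hUu : InUniqueMaximal U := passes_to_centralizing hG hEu (le_centralizer_comm hEU)
    (not_rankLE_of_ea hr' hUc hUe hUk)
  exact eq_of_uniq hUu hH ((hUD.trans hDF).trans (fittingOf_le_self H)) hH₁ (hUD.trans hDH₁)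

/-- Centralizers of prime order elements of `F(H)` lie in `H`. -/
theorem centralizer_le_of_fitting (hG : IsMinSimpleOddOrder G) {H : Subgroup G} (hH : IsCoatom H)
    (hd : NotII H) {t : ℕ} (ht : t.Prime) {z : G} (hz : z ∈ fittingOf H) (hzt : orderOf z = t) :
    centralizer ({z} : Set G) ≤ H := by
  haveI : Fact t.Prime := ⟨ht⟩
  have hz1 : z ≠ 1 := by
    rintro rfl
    rw [orderOf_one] at hzt
    exact ht.one_lt.ne hzt
  have hUc : IsMulCommutative (zpowers z) := inferInstance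
  have hUe : ∀ u ∈ zpowers z, u ^ t = 1 := by
    intro u hu
    obtain ⟨k, rfl⟩ := mem_zpowers_iff.mp hu
    rw [← zpow_natCast, ← zpow_mul, mul_comm, zpow_mul, zpow_natCast, ← hzt, pow_orderOf_eq_one, one_zpow]
  obtain ⟨q, hq, E, hEF, hEU, hEc, hEe, hEk⟩ := ti_ea hG hH hd (zpowers_le.mpr hz) hUc hUe
  have hEu := uniq_of_ea hG hH hq hEF hEc hEe hEk
  obtain ⟨H₁, hH₁, hle⟩ := exists_coatom_ge (IsMin.centralizer_singleton_ne_top hG hz1)
  have hEC : E ≤ centralizer ({z} : Set G) := by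
    intro e he
    rw [Subgroup.mem_centralizer_singleton_iff]
    exact (Subgroup.mem_centralizer_iff.mp (hEU he) z (mem_zpowers z)).symm
  have h1 := eq_of_uniq hEu hH (hEF.trans (fittingOf_le_self H)) hH₁ (hEC.trans hle)
  rwa [← h1]

/-- The context of the final argument. -/
structure Ctx (p : ℕ) (A A₀ : Subgroup G) : Prop where
  hG : IsMinSimpleOddOrder G
  hAp : IsPGroup p A
  hAc : IsMulCommutative A
  hA₀A : A₀ ≤ A
  hA₀ : EA3 A₀ p
  hTH : TransitivityHypothesis A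
  hZ : ¬ RankLE 2 ↥(A ⊓ centralizer (A : Set G))
  hnu : ¬ InUniqueMaximal A

/-- Maximal subgroups containing `A`, with `H' ≰ F(H)`. -/
structure TI (A H : Subgroup G) : Prop where
  hH : IsCoatom H
  hAH : A ≤ H
  hd : NotII H

variable {p : ℕ} [hp : Fact p.Prime] {A A₀ H : Subgroup G}

theorem Ctx.hA₀H (c : Ctx p A A₀) (hH : TI A H) : A₀ ≤ H := c.hA₀A.trans hH.hAH

theorem Ctx.hA3 (c : Ctx p A A₀) : ¬ PRankLE p 2 ↥A := by
  have hpp : p.Prime := hp.out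
  rw [BGSigma.prankLE_iff]
  intro h
  have h1 := h A₀ c.hA₀A c.hA₀.isMulCommutative c.hA₀.exp
  rw [c.hA₀.card] at h1
  have h2 : p ^ 2 < p ^ 3 := Nat.pow_lt_pow_right hpp.one_lt (by norm_num)
  omega

/-- A prime with noncyclic `O_s(H)`. -/
theorem Ctx.exists_prime (c : Ctx p A A₀) (hH : TI A H) :
    ∃ s : ℕ, s.Prime ∧ s ≠ p ∧ ¬ IsCyclic (pCoreOf s H) := by
  have hpp : p.Prime := hp.out
  obtain ⟨q, hq, E, hEF, -, hEc, hEe, hEk⟩ := ti_ea (r := p) (U := ⊥) c.hG hH.hH hH.hd bot_le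
    inferInstance (by
      intro u hu
      rw [Subgroup.mem_bot] at hu
      simp [hu])
  refine ⟨q, hq, ?_, ?_⟩
  · rintro rfl
    apply c.hnu
    apply Cfsg.Agent.S1401.result c.hG H hH.hH q ?_ A c.hAp c.hAc c.hA3
    rw [BGSigma.prankLE_iff]
    intro h
    have := h E hEF hEc hEe
    omega
  · intro hcyc
    haveI : Fact q.Prime := ⟨hq⟩
    have hEp : IsPGroup q E := fun a => ⟨1, Subtype.ext (by simpa using hEe a a.2)⟩
    have h1 : E ≤ pCoreOf q H := le_pCoreOf_of_le_fittingOf hEF hEp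
    haveI := hcyc
    have h2 : IsCyclic E := Subgroup.isCyclic_of_le h1
    refine not_isCyclic_of_ea hq hEe ?_ h2
    calc q = q ^ 1 := (pow_one q).symm
      _ < q ^ 2 := Nat.pow_lt_pow_right hq.one_lt (by norm_num)
      _ < _ := hEk

theorem Ctx.uniq_of_le (c : Ctx p A A₀) {L : Subgroup G} (hLA : L ≤ A) (hL : InUniqueMaximal L)
    (hH : IsCoatom H) (hAH : A ≤ H) : False := by
  apply c.hnu
  refine ⟨H, ⟨hH, hAH⟩, ?_⟩
  rintro H₂ ⟨hH₂, hAH₂⟩
  exact eq_of_uniq hL hH (hLA.trans hAH) hH₂ (hLA.trans hAH₂)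

/-- A noncyclic subgroup of `O_s(H)` centralized by `c` forces `C(c) ≤ H`. -/
theorem centralizer_le_of_not_cyclic (hG : IsMinSimpleOddOrder G) (hH : IsCoatom H) (hd : NotII H)
    {s : ℕ} [Fact s.Prime] {D : Subgroup G} (hDF : D ≤ pCoreOf s H) (hDc : ¬ IsCyclic D) {b : G}
    (hb : b ≠ 1) (hDb : D ≤ centralizer ({b} : Set G)) : centralizer ({b} : Set G) ≤ H := by
  obtain ⟨H₁, hH₁, hle⟩ := exists_coatom_ge (IsMin.centralizer_singleton_ne_top hG hb)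
  have h1 := eq_of_not_cyclic hG hH hd (hDF.trans (pCoreOf_le_fittingOf s H))
    ((isPGroup_pCoreOf s H).to_le hDF) hDc hH₁ (hDb.trans hle)
  rwa [← h1]

/-- **One weight per line**: `C_{O_s(H)}(L)` is cyclic for noncyclic `L ≤ A₀`. -/
theorem Ctx.line_cyclic (c : Ctx p A A₀) (hH : TI A H) {s : ℕ} [Fact s.Prime] {L : Subgroup G}
    (hL : L ≤ A₀) (hLc : ¬ IsCyclic L) :
    IsCyclic ↥(pCoreOf s H ⊓ centralizer (L : Set G)) := by
  by_contra hno
  have hLe : IsElementaryAbelian p L :=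
    ⟨comm_of_le hL c.hA₀.isMulCommutative, fun a ha => c.hA₀.exp a (hL ha)⟩
  have hLU : InUniqueMaximal L := by
    apply Cfsg.Agent.S1398.result c.hG H hH.hH p L (hL.trans (c.hA₀H hH)) hLe hLc
    left
    intro b hb hb1
    apply centralizer_le_of_not_cyclic c.hG hH.hH hH.hd inf_le_left hno hb1
    intro x hx
    rw [Subgroup.mem_centralizer_singleton_iff]
    exact (Subgroup.mem_centralizer_iff.mp hx.2 b hb).symm
  exact c.uniq_of_le (hL.trans c.hA₀A) hLU hH.hH hH.hAH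

/-- Coprime generation over the hyperplanes of a noncyclic subgroup of `A₀`. -/
theorem Ctx.le_of_fixed (c : Ctx p A A₀) {L X K : Subgroup G} (hL : L ≤ A₀) (hX : ¬ p ∣ Nat.card X)
    (hLX : L ≤ normalizer (X : Set G))
    (h : ∀ B : Subgroup G, B ≤ L → B.relIndex L ≤ p → X ⊓ centralizer (B : Set G) ≤ K) : X ≤ K := by
  rw [CoprimeHyper.eq_iSup_inf_centralizer L X (comm_of_le hL c.hA₀.isMulCommutative)
    (fun a ha => c.hA₀.exp a (hL ha)) hX hLX]
  exact iSup_le fun B => h B.1 B.2.1 B.2.2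

/-- A subgroup `B` of a noncyclic subgroup of `A₀` of relative index `≤ p` is nontrivial. -/
theorem Ctx.exists_ne_one_of_relIndex (c : Ctx p A A₀) {L B : Subgroup G} (hL : L ≤ A₀)
    (hLc : ¬ IsCyclic L) (hB : B ≤ L) (hi : B.relIndex L ≤ p) : ∃ b ∈ B, b ≠ 1 := by
  have hpp : p.Prime := hp.out
  apply exists_mem_ne_one
  rintro rfl
  have h1 : Nat.card ((⊥ : Subgroup G).subgroupOf L) * ((⊥ : Subgroup G).subgroupOf L).index = Nat.card L :=
    Subgroup.card_mul_index _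
  rw [card_subgroupOf_of_le bot_le, Subgroup.card_bot, one_mul] at h1
  have h2 : ((⊥ : Subgroup G).subgroupOf L).index = (⊥ : Subgroup G).relIndex L := rfl
  rw [h2] at h1
  have h3 := c.hA₀.card_ge_of_not_cyclic hL hLc
  rw [← h1] at h3
  have h4 : p ^ 1 < p ^ 2 := Nat.pow_lt_pow_right hpp.one_lt (by norm_num)
  rw [pow_one] at h4
  omega

/-- **A point with noncyclic fixed points.** -/
theorem Ctx.exists_point (c : Ctx p A A₀) (hH : TI A H) {s : ℕ} [hs : Fact s.Prime] (hsp : s ≠ p)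
    (hS : ¬ IsCyclic (pCoreOf s H)) :
    ∃ x ∈ A₀, x ≠ 1 ∧ ¬ IsCyclic ↥(pCoreOf s H ⊓ centralizer ({x} : Set G)) := by
  by_contra hno
  push Not at hno
  set S := pCoreOf s H with hSdef
  have hSp : IsPGroup s S := isPGroup_pCoreOf s H
  have hpS : ¬ p ∣ Nat.card S := by
    intro h
    obtain ⟨k, hk⟩ := IsPGroup.iff_card.mp hSp
    rw [hk] at h
    exact hsp ((Nat.prime_dvd_prime_iff_eq hp.out hs.out).mp (hp.out.dvd_of_dvd_pow h)).symm
  have hA₀S : A₀ ≤ normalizer (S : Set G) := (c.hA₀H hH).trans (le_normalizer_pCoreOf s H)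
  let ι := {B : Subgroup G // B ≤ A₀ ∧ B.relIndex A₀ ≤ p}
  haveI : Nonempty ι := ⟨⟨A₀, le_rfl, by
    rw [Subgroup.relIndex_self]
    exact hp.out.one_lt.le⟩⟩
  obtain ⟨B₀, hB₀⟩ := Finite.exists_max (fun B : ι => Nat.card ↥(S ⊓ centralizer ((B : Subgroup G) : Set G)))
  have hpt : ∀ B : ι, ∃ x ∈ A₀, x ≠ 1 ∧ x ∈ (B₀ : Subgroup G) ∧ x ∈ (B : Subgroup G) := by
    intro B
    obtain ⟨x, hx1, hx2, hx3⟩ := c.hA₀.exists_inter B₀.2.1 B.2.1
      (c.hA₀.card_ge_of_relIndex B₀.2.1 B₀.2.2) (c.hA₀.card_ge_of_relIndex B.2.1 B.2.2)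
    exact ⟨x, B.2.1 hx2, hx3, hx1, hx2⟩
  have hle : S ≤ S ⊓ centralizer ((B₀ : Subgroup G) : Set G) := by
    apply c.le_of_fixed le_rfl hpS hA₀S
    intro B hB hi
    obtain ⟨x, hxA, hx1, hxB₀, hxB⟩ := hpt ⟨B, hB, hi⟩
    have hZc := hno x hxA hx1
    have hsub : ∀ B' : Subgroup G, x ∈ B' → S ⊓ centralizer (B' : Set G) ≤ S ⊓ centralizer ({x} : Set G) := by
      intro B' hx' y hy
      refine Subgroup.mem_inf.mpr ⟨hy.1, ?_⟩
      rw [Subgroup.mem_centralizer_singleton_iff]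
      exact (Subgroup.mem_centralizer_iff.mp hy.2 x hx').symm
    rcases comparable_in_cyc hZc (hSp.to_le inf_le_left) (hsub B hxB) (hsub _ hxB₀) with h1 | h1
    · exact h1
    · have h2 := hB₀ ⟨B, hB, hi⟩
      have h3 : S ⊓ centralizer ((B₀ : Subgroup G) : Set G) = S ⊓ centralizer (B : Set G) :=
        Subgroup.eq_of_le_of_card_ge h1 h2
      rw [h3]
  obtain ⟨x, hxA, hx1, hxB₀, -⟩ := hpt B₀
  apply hS
  have hcyc := hno x hxA hx1
  have hSle : S ≤ S ⊓ centralizer ({x} : Set G) := by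
    intro y hy
    refine Subgroup.mem_inf.mpr ⟨hy, ?_⟩
    rw [Subgroup.mem_centralizer_singleton_iff]
    exact (Subgroup.mem_centralizer_iff.mp (hle hy).2 x hxB₀).symm
  exact Subgroup.isCyclic_of_le hSle

/-- `C(A₀) ≤ H`. -/
theorem Ctx.centralizer_le (c : Ctx p A A₀) (hH : TI A H) : centralizer (A₀ : Set G) ≤ H := by
  obtain ⟨s, hs, hsp, hS⟩ := c.exists_prime hH
  haveI : Fact s.Prime := ⟨hs⟩
  obtain ⟨x, hxA, hx1, hxc⟩ := c.exists_point hH hsp hS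
  have h1 := centralizer_le_of_not_cyclic c.hG hH.hH hH.hd (inf_le_left) hxc hx1 inf_le_right
  refine le_trans ?_ h1
  intro y hy
  rw [Subgroup.mem_centralizer_singleton_iff]
  exact (Subgroup.mem_centralizer_iff.mp hy x hxA).symm

/-- All `A`-invariant `s`-subgroups lie in `H`, when `O_s(H)` is noncyclic. -/
theorem Ctx.inv_le (c : Ctx p A A₀) (hH : TI A H) {s : ℕ} [hs : Fact s.Prime] (hsp : s ≠ p)
    (hS : ¬ IsCyclic (pCoreOf s H)) {Y : Subgroup G} (hY : IsPGroup s Y)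
    (hAY : A ≤ normalizer (Y : Set G)) : Y ≤ H := by
  have hSp : IsPGroup s (pCoreOf s H) := isPGroup_pCoreOf s H
  have hqA : ¬ s ∣ Nat.card A := by
    intro h
    obtain ⟨k, hk⟩ := IsPGroup.iff_card.mp c.hAp
    rw [hk] at h
    exact hsp ((Nat.prime_dvd_prime_iff_eq hs.out hp.out).mp (hs.out.dvd_of_dvd_pow h))
  obtain ⟨Q₀, hQ₀, hSQ₀⟩ := exists_maxInv_ge (A := A) (H := ⊤) (π := {s}) (Y := pCoreOf s H)
    (mem_invSubgroups_singleton.mpr ⟨le_top, hSp, hH.hAH.trans (le_normalizer_pCoreOf s H)⟩)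
  obtain ⟨Q₁, hQ₁, hYQ₁⟩ := exists_maxInv_ge (A := A) (H := ⊤) (π := {s}) (Y := Y)
    (mem_invSubgroups_singleton.mpr ⟨le_top, hY, hAY⟩)
  have hQ₀p : IsPGroup s Q₀ := (mem_invSubgroups_singleton.mp hQ₀.1).2.1
  have hQ₀H : Q₀ ≤ H := by
    by_contra hn
    have hlt : Q₀ ⊓ H < Q₀ := lt_of_le_of_ne inf_le_left (fun h => hn (by rw [← h]; exact inf_le_right))
    obtain ⟨t, htQ, htn, htN⟩ := CoprimeInv.exists_mem_normalizer_of_lt hQ₀p hlt
    have hS1 : pCoreOf s H ≠ ⊥ := by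
      intro h
      rw [h] at hS
      exact hS inferInstance
    have hbot : Q₀ ⊓ H ≠ ⊥ := by
      intro h
      apply hS1
      rw [eq_bot_iff, ← h]
      exact le_inf hSQ₀ (pCoreOf_le s H)
    obtain ⟨H₁, hH₁, hle⟩ := exists_coatom_ge (IsMin.normalizer_ne_top c.hG hbot
      (IsMin.isPGroup_ne_top c.hG (hQ₀p.to_le inf_le_left)))
    have hSH₁ : pCoreOf s H ≤ H₁ :=
      (le_inf hSQ₀ (pCoreOf_le s H)).trans (le_normalizer.trans hle)
    have h1 := eq_of_not_cyclic c.hG hH.hH hH.hd (pCoreOf_le_fittingOf s H) hSp hS hH₁ hSH₁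
    rw [h1] at hle
    exact htn ⟨htQ, hle htN⟩
  obtain ⟨k, hk, hQk⟩ := TH.conj_of_rank_three c.hG c.hTH c.hZ hqA Q₀ hQ₀ Q₁ hQ₁
  have hkH : k ∈ H := by
    have h1 : k ∈ centralizer (A : Set G) := piCoreOf_le _ _ hk
    exact c.centralizer_le hH (Subgroup.centralizer_le c.hA₀A h1)
  intro y hy
  have hy1 : y ∈ cj Q₀ k := by rw [← hQk]; exact hYQ₁ hy
  rw [mem_cj] at hy1
  have hy2 := hQ₀H hy1
  have : y = k * (k⁻¹ * y * k) * k⁻¹ := by group
  rw [this]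
  exact mul_mem (mul_mem hkH hy2) (inv_mem hkH)

/-- Distinct `TI` subgroups have no common prime with noncyclic `O_s`. -/
theorem Ctx.prime_ne (c : Ctx p A A₀) {H₁ : Subgroup G} (hH : TI A H) (hH₁ : TI A H₁) (hne : H₁ ≠ H)
    {s : ℕ} [hs : Fact s.Prime] (hsp : s ≠ p) (hS : ¬ IsCyclic (pCoreOf s H))
    (hS₁ : ¬ IsCyclic (pCoreOf s H₁)) : False := by
  have h1 : pCoreOf s H₁ ≤ H := c.inv_le hH hsp hS (isPGroup_pCoreOf s H₁)
    (hH₁.hAH.trans (le_normalizer_pCoreOf s H₁))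
  have h2 := eq_of_not_cyclic c.hG hH₁.hH hH₁.hd (pCoreOf_le_fittingOf s H₁) (isPGroup_pCoreOf s H₁) hS₁
    hH.hH h1
  exact hne h2.symm

end Cfsg.Agent.Lib.BGUT4
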