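import Mathlib
import Cfsg.Agent.Lib.BGUT4

/-!
# Uniqueness Theorem: the chain of maximal subgroups with `H' ≰ F(H)` leads to a contradiction.
-/

set_option autoImplicit false
set_option linter.unusedSectionVars false
set_option linter.unusedVariables false
set_option linter.style.haveILetI false
set_option linter.unusedSimpArgs false

namespace Cfsg.Agent.Lib.BGUT4

open Cfsg Subgroup Cfsg.Agent.Lib.CoprimeInv Cfsg.Agent.Lib.BGTrans Cfsg.Agent.Lib.BGTrans2
  Cfsg.Agent.Lib.PCore Cfsg.Agent.Lib.BGUniq Cfsg.Agent.Lib.BGUniq2 Cfsg.Agent.Lib.BGUniq3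
  Cfsg.Agent.Lib.BGFit1 Cfsg.Agent.Lib.BGFit2 Cfsg.Agent.Lib.BGFit5
  Cfsg.Agent.Lib.BGUT1 Cfsg.Agent.Lib.BGUT2 Cfsg.Agent.Lib.BGUT3
open scoped commutatorElement

universe u

variable {G : Type u} [Group G] [Finite G]

theorem mem_normalizer_inf {X Y : Subgroup G} {g : G} (hX : g ∈ normalizer (X : Set G))
    (hY : g ∈ normalizer (Y : Set G)) : g ∈ normalizer ((X ⊓ Y : Subgroup G) : Set G) := by
  rw [mem_normalizer_iff] at hX hY ⊢
  intro y
  rw [Subgroup.mem_inf, Subgroup.mem_inf, hX y, hY y]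

theorem mem_normalizer_zpowers_of_conj_mem {b z : G} (h : b * z * b⁻¹ ∈ zpowers z) :
    b ∈ normalizer (zpowers z : Set G) := by
  apply mem_normalizer_of_cj_eq
  apply Subgroup.eq_of_le_of_card_ge
  · rintro _ ⟨x, hx, rfl⟩
    obtain ⟨k, rfl⟩ := mem_zpowers_iff.mp hx
    show b * z ^ k * b⁻¹ ∈ zpowers z
    rw [← conj_zpow]
    exact zpow_mem h k
  · rw [card_cj]

theorem comm_mem_fitting {H : Subgroup G} (hII : commutator H ≤ fittingSubgroup H) {x y : G}
    (hx : x ∈ H) (hy : y ∈ H) : x * y * x⁻¹ * y⁻¹ ∈ fittingOf H := by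
  have h1 : ⁅(⟨x, hx⟩ : H), (⟨y, hy⟩ : H)⁆ ∈ commutator H :=
    Subgroup.commutator_mem_commutator (Subgroup.mem_top _) (Subgroup.mem_top _)
  exact ⟨_, hII h1, by simp [commutatorElement_def]⟩

theorem mem_centralizer_line {c e y : G} (hc : Commute y c) (he : Commute y e) :
    y ∈ centralizer ((line c e : Subgroup G) : Set G) := by
  have h1 : line c e ≤ centralizer ({y} : Set G) := by
    apply line_le
    · rw [Subgroup.mem_centralizer_singleton_iff]; exact hc.symm
    · rw [Subgroup.mem_centralizer_singleton_iff]; exact he.symm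
  rw [Subgroup.mem_centralizer_iff]
  intro x hx
  have h2 := h1 hx
  rw [Subgroup.mem_centralizer_singleton_iff] at h2
  exact h2

theorem comm_of_mem_centralizer {L : Subgroup G} {y x : G} (hy : y ∈ centralizer (L : Set G))
    (hx : x ∈ L) : Commute x y := (Subgroup.mem_centralizer_iff.mp hy x hx)

theorem comm_of_le_centralizer {L : Subgroup G} {z x : G} (hL : L ≤ centralizer ({z} : Set G))
    (hx : x ∈ L) : Commute x z := by
  have h1 := hL hx
  rw [Subgroup.mem_centralizer_singleton_iff] at h1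
  exact h1

variable {p : ℕ} [hp : Fact p.Prime] {A A₀ M H N : Subgroup G}

theorem Ctx.le_centralizer_point (c : Ctx p A A₀) {x : G} (hx : x ∈ A₀) :
    A ≤ centralizer ({x} : Set G) := by
  intro y hy
  rw [Subgroup.mem_centralizer_singleton_iff]
  have h1 := c.hAc.is_comm.comm (⟨y, hy⟩ : A) ⟨x, c.hA₀A hx⟩
  exact congrArg Subtype.val h1

/-- A type II maximal subgroup containing `z` and `A` forces its invariant `p'`-subgroups into `M`. -/
theorem Ctx.le_of_typeII (c : Ctx p A A₀) (hM : TI A M) {t : ℕ} [ht : Fact t.Prime] (htp : t ≠ p)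
    (hV : ¬ IsCyclic (pCoreOf t M)) {z : G} (hzV : z ∈ pCoreOf t M) (hzt : orderOf z = t)
    (hH : IsCoatom H) (hAH : A ≤ H) (hII : commutator H ≤ fittingSubgroup H) (hzH : z ∈ H) {a : G}
    (haA : a ∈ A₀) (han : a ∈ normalizer (zpowers z : Set G)) (ham : ¬ Commute a z) {Y : Subgroup G}
    (hYH : Y ≤ H) (hY : (Nat.card Y).Coprime p) (hAY : A ≤ normalizer (Y : Set G)) : Y ≤ M := by
  have hpp : p.Prime := hp.out
  have hA₀H : A₀ ≤ H := c.hA₀A.trans hAH
  -- `z ∈ F(H)`
  have hzF : z ∈ fittingOf H := by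
    set w := a * z * a⁻¹ * z⁻¹ with hw
    have hwF : w ∈ fittingOf H := comm_mem_fitting hII (hA₀H haA) hzH
    have hwz : w ∈ zpowers z := mul_mem ((mem_normalizer_iff.mp han _).mp (mem_zpowers z))
      (inv_mem (mem_zpowers z))
    have hw1 : w ≠ 1 := by
      intro h
      apply ham
      show a * z = z * a
      have h1 : a * z * a⁻¹ = z := by
        have := congrArg (fun y => y * z) h
        simpa [hw] using this
      calc a * z = (a * z * a⁻¹) * a := by group
        _ = z * a := by rw [h1]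
    have h2 := generator_of_ne_one ht.out hzt hwz hw1
    exact (zpowers_le.mpr hwF) h2
  have hzCM : centralizer ({z} : Set G) ≤ M :=
    centralizer_le_of_fitting c.hG hM.hH hM.hd ht.out (pCoreOf_le_fittingOf t M hzV) hzt
  have hYne : Y ≠ ⊤ := by
    rintro rfl
    exact hH.1 (top_le_iff.mp hYH)
  apply le_of_forall_prime_inv (IsMin.solvable c.hG hYne) hAY (coprime_of_isPGroup hY c.hAp)
  intro q hq Q hQY hQ hAQ
  by_cases hqt : q = t
  · subst hqt
    exact c.inv_le hM htp hV hQ hAQ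
  intro x hx
  have hxH : x ∈ H := hYH (hQY hx)
  set K : Subgroup G := Q ⊓ fittingOf H with hK
  have hpK : ¬ p ∣ Nat.card K := by
    intro h
    have h1 : Nat.card K ∣ Nat.card Y := Subgroup.card_dvd_of_le (inf_le_left.trans hQY)
    have h2 := Nat.dvd_gcd (h.trans h1) (dvd_refl p)
    rw [hY.gcd_eq_one] at h2
    exact hpp.one_lt.ne' (Nat.dvd_one.mp h2)
  obtain ⟨u, hu, hfix⟩ := CoprimeHyper.exists_fixed_in_coset (p := p) A₀ K c.hA₀.isPGroup hpK
    (by
      intro b hb k hk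
      refine Subgroup.mem_inf.mpr ⟨?_, ?_⟩
      · exact (mem_normalizer_iff.mp (hAQ (c.hA₀A hb)) _).mp hk.1
      · exact (mem_normalizer_iff.mp (le_normalizer_fittingOf H (hA₀H hb)) _).mp hk.2)
    x
    (by
      intro b hb
      refine Subgroup.mem_inf.mpr ⟨?_, ?_⟩
      · exact mul_mem (inv_mem hx) ((mem_normalizer_iff.mp (hAQ (c.hA₀A hb)) _).mp hx)
      · have h1 := comm_mem_fitting hII (inv_mem hxH) (hA₀H hb)
        have h2 : x⁻¹ * (b * x * b⁻¹) = x⁻¹ * b * x⁻¹⁻¹ * b⁻¹ := by group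
        rw [h2]
        exact h1)
  have hxu : x * u ∈ M := by
    apply c.centralizer_le hM
    rw [Subgroup.mem_centralizer_iff]
    intro b hb
    have h1 := hfix b hb
    calc b * (x * u) = (b * (x * u) * b⁻¹) * b := by group
      _ = (x * u) * b := by rw [h1]
  have huM : u ∈ M := by
    apply hzCM
    rw [Subgroup.mem_centralizer_singleton_iff]
    have hu1 : K ≤ pCoreOf q H := le_pCoreOf_of_le_fittingOf inf_le_right (hQ.to_le inf_le_left)
    have hz1 : zpowers z ≤ pCoreOf t H := by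
      apply le_pCoreOf_of_le_fittingOf (zpowers_le.mpr hzF)
      rw [IsPGroup.iff_card, Nat.card_zpowers, hzt]
      exact ⟨1, (pow_one t).symm⟩
    exact comm_of_pgroups (isPGroup_pCoreOf q H) (isPGroup_pCoreOf t H) hqt (pCoreOf_le q H)
      (pCoreOf_le t H) (le_normalizer_pCoreOf q H) (le_normalizer_pCoreOf t H) u (hu1 hu) z
      (hz1 (mem_zpowers z))
  have h3 : x = (x * u) * u⁻¹ := by group
  rw [h3]
  exact mul_mem hxu (inv_mem huM)

/-- **Next coatom.** -/
theorem Ctx.exists_next_coatom (c : Ctx p A A₀) (hM : TI A M) {t : ℕ} [ht : Fact t.Prime] (htp : t ≠ p)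
    (hV : ¬ IsCyclic (pCoreOf t M)) {z : G} (hzV : z ∈ pCoreOf t M) (hzt : orderOf z = t)
    {L : Subgroup G} (hL : L ≤ A₀) (hLc : ¬ IsCyclic L) (hLz : L ≤ centralizer ({z} : Set G))
    {a : G} (haA : a ∈ A₀) (han : a ∈ normalizer (zpowers z : Set G)) (ham : ¬ Commute a z) :
    ∃ N : Subgroup G, TI A N ∧ N ≠ M ∧ ∃ x ∈ L, x ≠ 1 ∧ centralizer ({x} : Set G) ≤ N := by
  have hA1 : A ≠ ⊥ := c.hTH.1
  have hnot : ¬ InvLe A M p := fun h => c.hnu (unique_of_inv c.hG hM.hH hM.hAH c.hAp hA1 h)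
  unfold InvLe at hnot
  push Not at hnot
  obtain ⟨Y, hY, hAY, hYM⟩ := hnot
  have hpY : ¬ p ∣ Nat.card Y := by
    intro h
    have h2 := Nat.dvd_gcd h (dvd_refl p)
    rw [hY.gcd_eq_one] at h2
    exact hp.out.one_lt.ne' (Nat.dvd_one.mp h2)
  obtain ⟨x, hxL, hx1, hxY⟩ : ∃ x ∈ L, x ≠ 1 ∧ ¬ Y ⊓ centralizer ({x} : Set G) ≤ M := by
    by_contra hno
    push Not at hno
    apply hYM
    apply c.le_of_fixed hL hpY ((hL.trans c.hA₀A).trans hAY)
    intro B hB hi
    obtain ⟨b, hb, hb1⟩ := c.exists_ne_one_of_relIndex hL hLc hB hi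
    refine le_trans ?_ (hno b (hB hb) hb1)
    intro y hy
    refine Subgroup.mem_inf.mpr ⟨hy.1, ?_⟩
    rw [Subgroup.mem_centralizer_singleton_iff]
    exact (Subgroup.mem_centralizer_iff.mp hy.2 b hb).symm
  obtain ⟨H, hH, hle⟩ := exists_coatom_ge (IsMin.centralizer_singleton_ne_top c.hG hx1)
  have hAx : A ≤ centralizer ({x} : Set G) := c.le_centralizer_point (hL hxL)
  have hAH : A ≤ H := hAx.trans hle
  have hzH : z ∈ H := by
    apply hle
    rw [Subgroup.mem_centralizer_singleton_iff]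
    exact (comm_of_le_centralizer hLz hxL).symm
  refine ⟨H, ⟨hH, hAH, ?_⟩, ?_, x, hxL, hx1, hle⟩
  · intro hII
    apply hxY
    refine c.le_of_typeII hM htp hV hzV hzt hH hAH hII hzH haA han ham (inf_le_right.trans hle) ?_ ?_
    · exact Nat.Coprime.coprime_dvd_left (Subgroup.card_dvd_of_le inf_le_left) hY
    · apply le_normalizer_inf hAY
      exact hAx.trans le_normalizer
  · rintro rfl
    exact hxY (inf_le_right.trans hle)

/-- **Incoming**: an element of `F(M)` in `N` acts nontrivially at a point of its line. -/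
theorem Ctx.exists_incoming (c : Ctx p A A₀) (hM : TI A M) (hN : TI A N) (hne : N ≠ M) {t s : ℕ}
    [ht : Fact t.Prime] [hs : Fact s.Prime] (htp : t ≠ p) (hsp : s ≠ p)
    (hS : ¬ IsCyclic (pCoreOf s N)) {z : G} (hzV : z ∈ pCoreOf t M) (hzt : orderOf z = t) (hzN : z ∈ N)
    {L : Subgroup G} (hL : L ≤ A₀) (hLc : ¬ IsCyclic L) (hLz : L ≤ centralizer ({z} : Set G))
    {a : G} (haA : a ∈ A₀) (han : a ∈ normalizer (zpowers z : Set G)) (ham : ¬ Commute a z) :
    ∃ x ∈ L, x ≠ 1 ∧ centralizer ({x} : Set G) ≤ N ∧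
      ¬ IsCyclic ↥(pCoreOf s N ⊓ centralizer ({x} : Set G)) ∧
      ∃ r ∈ pCoreOf s N ⊓ centralizer ({x} : Set G), z * r * z⁻¹ ≠ r := by
  have hzCM : centralizer ({z} : Set G) ≤ M :=
    centralizer_le_of_fitting c.hG hM.hH hM.hd ht.out (pCoreOf_le_fittingOf t M hzV) hzt
  set S := pCoreOf s N with hSdef
  have hSp : IsPGroup s S := isPGroup_pCoreOf s N
  have hpS : ¬ p ∣ Nat.card S := by
    intro h
    obtain ⟨k, hk⟩ := IsPGroup.iff_card.mp hSp
    rw [hk] at h
    exact hsp ((Nat.prime_dvd_prime_iff_eq hp.out hs.out).mp (hp.out.dvd_of_dvd_pow h)).symm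
  have hNS : N ≤ normalizer (S : Set G) := le_normalizer_pCoreOf s N
  have hA₀N : A₀ ≤ N := c.hA₀H hN
  have hSz : ¬ S ≤ centralizer ({z} : Set G) := by
    intro h
    exact hne (eq_of_not_cyclic c.hG hN.hH hN.hd (pCoreOf_le_fittingOf s N) hSp hS hM.hH
      (h.trans hzCM)).symm
  obtain ⟨x, hxL, hx1, hxz⟩ : ∃ x ∈ L, x ≠ 1 ∧ ¬ S ⊓ centralizer ({x} : Set G) ≤ centralizer ({z} : Set G) := by
    by_contra hno
    push Not at hno
    apply hSz
    apply c.le_of_fixed hL hpS ((hL.trans hA₀N).trans hNS)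
    intro B hB hi
    obtain ⟨b, hb, hb1⟩ := c.exists_ne_one_of_relIndex hL hLc hB hi
    refine le_trans ?_ (hno b (hB hb) hb1)
    intro y hy
    refine Subgroup.mem_inf.mpr ⟨hy.1, ?_⟩
    rw [Subgroup.mem_centralizer_singleton_iff]
    exact (Subgroup.mem_centralizer_iff.mp hy.2 b hb).symm
  obtain ⟨r, hr, hrz⟩ := Set.not_subset.mp hxz
  have hrz' : z * r * z⁻¹ ≠ r := by
    intro h
    apply hrz
    show r ∈ centralizer ({z} : Set G)
    rw [Subgroup.mem_centralizer_singleton_iff]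
    exact (comm_of_conj_eq h).symm
  have hxA : x ∈ A₀ := hL hxL
  have hnc : ¬ IsCyclic ↥(S ⊓ centralizer ({x} : Set G)) := by
    intro hcyc
    apply hrz'
    refine centralizes_of_moved hcyc ?_ ?_ ht.out hzt han ham r hr
    · apply mem_normalizer_inf (hNS (hA₀N haA))
      apply le_normalizer
      rw [Subgroup.mem_centralizer_singleton_iff]
      exact c.hA₀.comm a haA x hxA
    · apply mem_normalizer_inf (hNS hzN)
      apply le_normalizer
      rw [Subgroup.mem_centralizer_singleton_iff]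
      exact (comm_of_le_centralizer hLz hxL).symm
  exact ⟨x, hxL, hx1, centralizer_le_of_not_cyclic c.hG hN.hH hN.hd inf_le_left hnc hx1 inf_le_right,
    hnc, r, hr, hrz'⟩

/-- **Frobenius step.** -/
theorem Ctx.frob_step (c : Ctx p A A₀) (hN : TI A N) {t s : ℕ} [ht : Fact t.Prime] [hs : Fact s.Prime]
    (hsp : s ≠ p) (hts : t ≠ s) {z x : G} (hzt : orderOf z = t) (hzN : z ∈ N)
    (hzx : z ∈ centralizer ({x} : Set G)) (hxA : x ∈ A₀)
    {L : Subgroup G} (hL : L ≤ A₀) (hLc : ¬ IsCyclic L) (hLz : L ≤ centralizer ({z} : Set G))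
    {a : G} (haA : a ∈ A₀) (han : a ∈ normalizer (zpowers z : Set G)) (ham : ¬ Commute a z)
    {e : G} (heA : e ∈ A₀) (hen : e ∈ normalizer (zpowers z : Set G)) (hem : ¬ Commute e z)
    (hr : ∃ r ∈ pCoreOf s N ⊓ centralizer ({x} : Set G), z * r * z⁻¹ ≠ r) :
    ∃ y ∈ pCoreOf s N, Commute y x ∧ Commute y e ∧ y ∉ centralizer (A₀ : Set G) := by
  set S := pCoreOf s N with hSdef
  have hSp : IsPGroup s S := isPGroup_pCoreOf s N
  have hNS : N ≤ normalizer (S : Set G) := le_normalizer_pCoreOf s N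
  have hA₀N : A₀ ≤ N := c.hA₀H hN
  have hcomm : ∀ b ∈ A₀, ∀ d ∈ A₀, b ∈ centralizer ({d} : Set G) := fun b hb d hd => by
    rw [Subgroup.mem_centralizer_singleton_iff]
    exact c.hA₀.comm b hb d hd
  obtain ⟨y, hy, hye, hyz⟩ := frob_lift (s := s) (t := t) (p := p) (S ⊓ centralizer ({x} : Set G))
    (hSp.to_le inf_le_left) (mem_normalizer_inf (hNS hzN) (le_normalizer hzx))
    (mem_normalizer_inf (hNS (hA₀N heA)) (le_normalizer (hcomm e heA x hxA))) hzt
    (c.hA₀.exp e heA) hen hem hts hsp.symm hr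
  have hyx : y ∈ centralizer ({x} : Set G) := hy.2
  rw [Subgroup.mem_centralizer_singleton_iff] at hyx
  refine ⟨y, hy.1, hyx, comm_of_conj_eq hye |>.symm, ?_⟩
  intro hyA
  apply hyz
  have hy0 : y ∈ S ⊓ centralizer (L : Set G) := by
    refine Subgroup.mem_inf.mpr ⟨hy.1, ?_⟩
    exact Subgroup.centralizer_le hL hyA
  refine centralizes_of_moved (c.line_cyclic hN hL hLc) ?_ ?_ ht.out hzt han ham y hy0
  · apply mem_normalizer_inf (hNS (hA₀N haA))
    apply le_normalizer
    rw [Subgroup.mem_centralizer_iff]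
    intro d hd
    exact c.hA₀.comm d (hL hd) a haA
  · apply mem_normalizer_inf (hNS hzN)
    apply le_normalizer
    rw [Subgroup.mem_centralizer_iff]
    intro d hd
    exact comm_of_le_centralizer hLz hd

/-- **Choice of an element of prime order on a line.** -/
theorem Ctx.pick (c : Ctx p A A₀) (hN : TI A N) {s : ℕ} [hs : Fact s.Prime] (hsp : s ≠ p)
    {L : Subgroup G} (hL : L ≤ A₀) (hLc : ¬ IsCyclic L) {y : G} (hyS : y ∈ pCoreOf s N)
    (hyL : y ∈ centralizer (L : Set G)) (hyA : y ∉ centralizer (A₀ : Set G)) :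
    ∃ z ∈ pCoreOf s N, orderOf z = s ∧ L ≤ centralizer ({z} : Set G) ∧
      A₀ ≤ normalizer (zpowers z : Set G) ∧ ∃ a ∈ A₀, ¬ Commute a z := by
  set S := pCoreOf s N with hSdef
  have hSp : IsPGroup s S := isPGroup_pCoreOf s N
  set Z := S ⊓ centralizer (L : Set G) with hZdef
  have hZc : IsCyclic Z := c.line_cyclic hN hL hLc
  have hZp : IsPGroup s Z := hSp.to_le inf_le_left
  have hNS : N ≤ normalizer (S : Set G) := le_normalizer_pCoreOf s N
  have hA₀N : A₀ ≤ N := c.hA₀H hN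
  have hy1 : y ≠ 1 := by
    rintro rfl
    exact hyA (one_mem _)
  have hyZ : y ∈ Z := Subgroup.mem_inf.mpr ⟨hyS, hyL⟩
  have hZne : Z ≠ ⊥ := by
    intro h
    rw [h, Subgroup.mem_bot] at hyZ
    exact hy1 hyZ
  have hsd : s ∣ Nat.card Z := dvd_card_of_isPGroup hZp hZne
  obtain ⟨z', hz'⟩ := exists_prime_orderOf_dvd_card' s hsd
  set z : G := (z' : G) with hz
  have hzZ : z ∈ Z := z'.2
  have hzs : orderOf z = s := by rw [hz, Subgroup.orderOf_coe]; exact hz'
  have haN : ∀ a ∈ A₀, a ∈ normalizer (Z : Set G) := by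
    intro a ha
    apply mem_normalizer_inf (hNS (hA₀N ha))
    apply le_normalizer
    rw [Subgroup.mem_centralizer_iff]
    intro d hd
    exact c.hA₀.comm d (hL hd) a ha
  have hzL : L ≤ centralizer ({z} : Set G) := by
    intro d hd
    rw [Subgroup.mem_centralizer_singleton_iff]
    exact Subgroup.mem_centralizer_iff.mp hzZ.2 d hd
  refine ⟨z, hzZ.1, hzs, hzL, ?_, ?_⟩
  · intro b hb
    apply mem_normalizer_zpowers_of_conj_mem
    have hbz : b * z * b⁻¹ ∈ Z := (mem_normalizer_iff.mp (haN b hb) _).mp hzZ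
    apply mem_zpowers_of_orderOf_eq hZc hbz hzZ
    have : b * z * b⁻¹ = (MulAut.conj b) z := rfl
    rw [this, MulEquiv.orderOf_eq]
  · by_contra hno
    push Not at hno
    apply hyA
    rw [Subgroup.mem_centralizer_iff]
    intro a ha
    have h1 := hno a ha
    have h2 : a * y * a⁻¹ = y := cyc_moved hZc hZp (haN a ha) (c.hA₀.exp a ha) hsp.symm hzZ hzs
      (conj_eq_of_comm h1) hyZ
    exact comm_of_conj_eq h2

end Cfsg.Agent.Lib.BGUT4
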