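import Mathlib
import Cfsg.Agent.Lib.BGUT5

/-!
# Uniqueness Theorem: the final chain.
-/

set_option autoImplicit false
set_option linter.unusedSectionVars false
set_option linter.unusedVariables false
set_option linter.style.haveILetI false
set_option linter.unusedSimpArgs false

namespace Cfsg.Agent.Lib.BGUT4

open Cfsg Subgroup Cfsg.Agent.Lib.CoprimeInv Cfsg.Agent.Lib.BGTrans Cfsg.Agent.Lib.BGTrans2
  Cfsg.Agent.Lib.PCore Cfsg.Agent.Lib.BGUniq Cfsg.Agent.Lib.BGUniq2 Cfsg.Agent.Lib.BGUniq3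
  Cfsg.Agent.Lib.BGFit1 Cfsg.Agent.Lib.BGFit2 Cfsg.Agent.Lib.BGFit5
  Cfsg.Agent.Lib.BGUT1 Cfsg.Agent.Lib.BGUT2 Cfsg.Agent.Lib.BGUT3

universe u

variable {G : Type u} [Group G] [Finite G] {p : ℕ} [hp : Fact p.Prime] {A A₀ M H N : Subgroup G}

/-- **One step of the chain.** -/
theorem Ctx.step (c : Ctx p A A₀) (hM : TI A M) {t : ℕ} [ht : Fact t.Prime] (htp : t ≠ p)
    (hV : ¬ IsCyclic (pCoreOf t M)) {z : G} (hzV : z ∈ pCoreOf t M) (hzt : orderOf z = t)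
    {L : Subgroup G} (hL : L ≤ A₀) (hLc : ¬ IsCyclic L) (hLz : L ≤ centralizer ({z} : Set G))
    {a : G} (haA : a ∈ A₀) (han : a ∈ normalizer (zpowers z : Set G)) (ham : ¬ Commute a z) :
    ∃ (N : Subgroup G) (s : ℕ), TI A N ∧ N ≠ M ∧ s.Prime ∧ s ≠ p ∧ s ≠ t ∧ ¬ IsCyclic (pCoreOf s N) ∧
      z ∈ N ∧ ∃ x ∈ L, x ≠ 1 ∧ centralizer ({x} : Set G) ≤ N ∧
        ¬ IsCyclic ↥(pCoreOf s N ⊓ centralizer ({x} : Set G)) ∧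
        ∃ r ∈ pCoreOf s N ⊓ centralizer ({x} : Set G), z * r * z⁻¹ ≠ r := by
  obtain ⟨N, hN, hne, x₀, hx₀L, hx₀1, hx₀N⟩ := c.exists_next_coatom hM htp hV hzV hzt hL hLc hLz haA han ham
  have hzN : z ∈ N := by
    apply hx₀N
    rw [Subgroup.mem_centralizer_singleton_iff]
    exact (comm_of_le_centralizer hLz hx₀L).symm
  obtain ⟨s, hs, hsp, hS⟩ := c.exists_prime hN
  haveI : Fact s.Prime := ⟨hs⟩
  have hst : s ≠ t := by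
    rintro rfl
    exact c.prime_ne hM hN hne htp hV hS
  obtain ⟨x, hxL, hx1, hxN, hR, r, hr, hrz⟩ := c.exists_incoming hM hN hne htp hsp hS hzV hzt hzN hL hLc
    hLz haA han ham
  exact ⟨N, s, hN, hne, hs, hsp, hst, hS, hzN, x, hxL, hx1, hxN, hR, r, hr, hrz⟩

/-- **Start of the chain.** -/
theorem Ctx.exists_start (c : Ctx p A A₀) (hM : TI A M) {t : ℕ} [ht : Fact t.Prime] (htp : t ≠ p)
    (hV : ¬ IsCyclic (pCoreOf t M)) :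
    ∃ L ≤ A₀, Nat.card L = p ^ 2 ∧ ∃ z ∈ pCoreOf t M, orderOf z = t ∧ L ≤ centralizer ({z} : Set G) ∧
      A₀ ≤ normalizer (zpowers z : Set G) ∧ ∃ a ∈ A₀, ¬ Commute a z := by
  have hpp : p.Prime := hp.out
  set S := pCoreOf t M with hSdef
  have hSp : IsPGroup t S := isPGroup_pCoreOf t M
  have hpS : ¬ p ∣ Nat.card S := by
    intro h
    obtain ⟨k, hk⟩ := IsPGroup.iff_card.mp hSp
    rw [hk] at h
    exact htp ((Nat.prime_dvd_prime_iff_eq hp.out ht.out).mp (hp.out.dvd_of_dvd_pow h)).symm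
  have hA₀nc : ¬ IsCyclic A₀ := by
    apply not_isCyclic_of_ea hpp c.hA₀.exp
    rw [c.hA₀.card]
    calc p = p ^ 1 := (pow_one p).symm
      _ < p ^ 3 := Nat.pow_lt_pow_right hpp.one_lt (by norm_num)
  have hSA : ¬ S ≤ centralizer (A₀ : Set G) := by
    intro h
    apply hV
    have h1 := c.line_cyclic (s := t) hM le_rfl hA₀nc
    have h2 : S ≤ S ⊓ centralizer (A₀ : Set G) := le_inf le_rfl h
    haveI := h1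
    exact Subgroup.isCyclic_of_le h2
  have hex : ∃ B : Subgroup G, B ≤ A₀ ∧ B.relIndex A₀ ≤ p ∧
      ¬ S ⊓ centralizer (B : Set G) ≤ centralizer (A₀ : Set G) := by
    by_contra hno
    push Not at hno
    apply hSA
    apply c.le_of_fixed le_rfl hpS ((c.hA₀H hM).trans (le_normalizer_pCoreOf t M))
    intro B hB hi
    exact hno B hB hi
  obtain ⟨B, hB, hi, hBS⟩ := hex
  obtain ⟨y, hy, hyA⟩ := Set.not_subset.mp hBS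
  have hcard : Nat.card B = p ^ 2 := by
    have h1 := c.hA₀.card_ge_of_relIndex hB hi
    have hne : B ≠ A₀ := by
      rintro rfl
      exact hyA hy.2
    have hlt : B < A₀ := lt_of_le_of_ne hB hne
    have h2 := card_lt_of_lt' hlt
    rw [c.hA₀.card] at h2
    obtain ⟨k, hk⟩ := IsPGroup.iff_card.mp (c.hA₀.isPGroup.to_le hB)
    rw [hk] at h1 h2 ⊢
    have h3 : 2 ≤ k := (Nat.pow_le_pow_iff_right hpp.one_lt).mp h1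
    have h4 : k < 3 := (Nat.pow_lt_pow_iff_right hpp.one_lt).mp h2
    have : k = 2 := by omega
    rw [this]
  have hBc : ¬ IsCyclic B := c.hA₀.not_cyclic_of_card hB hcard
  obtain ⟨z, hz, hzt, hzL, hzN, a, ha, ham⟩ := c.pick hM htp hB hBc hy.1 hy.2 hyA
  exact ⟨B, hB, hcard, z, hz, hzt, hzL, hzN, a, ha, ham⟩

/-- `e ∈ L`, `e ≠ 1`, `x ∉ L` give `e ∉ ⟨x⟩`. -/
theorem not_mem_zpowers_of {L : Subgroup G} (h : EA3 A₀ p) {x e : G} (hxA : x ∈ A₀) (hx1 : x ≠ 1)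
    (heL : e ∈ L) (he1 : e ≠ 1) (hxL : x ∉ L) : e ∉ zpowers x := by
  intro hex
  exact hxL ((zpowers_le.mpr heL) (generator_of_ne_one hp.out (h.orderOf hxA hx1) hex he1))

/-- The cyclicity needed in the last step. -/
theorem Ctx.cyc_of_point (c : Ctx p A A₀) (hN : TI A N) {s : ℕ} [Fact s.Prime] {x e : G} (hxA : x ∈ A₀)
    (heA : e ∈ A₀) (hx1 : x ≠ 1) (hex : e ∉ zpowers x) :
    IsCyclic ↥((pCoreOf s N ⊓ centralizer ({x} : Set G)) ⊓ centralizer ({e} : Set G)) := by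
  have h1 := c.line_cyclic (s := s) hN (line_le hxA heA)
    (c.hA₀.not_cyclic_of_card (line_le hxA heA) (c.hA₀.line_card hxA heA hx1 hex))
  haveI := h1
  apply Subgroup.isCyclic_of_le (H' := pCoreOf s N ⊓ centralizer ((line x e : Subgroup G) : Set G))
  intro y hy
  have hy1 : y ∈ pCoreOf s N ⊓ centralizer ({x} : Set G) := hy.1
  have hy2 : y ∈ centralizer ({x} : Set G) := hy1.2
  have hy3 : y ∈ centralizer ({e} : Set G) := hy.2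
  rw [Subgroup.mem_centralizer_singleton_iff] at hy2 hy3
  exact Subgroup.mem_inf.mpr ⟨hy1.1, mem_centralizer_line hy2 hy3⟩

set_option maxHeartbeats 1000000 in
/-- **The chain**: no maximal subgroup `H ≥ A` has `H' ≰ F(H)`, when `A` is not a uniqueness subgroup. -/
theorem Ctx.false_of_TI (c : Ctx p A A₀) (hM : TI A M) : False := by
  have hpp : p.Prime := hp.out
  have hE := c.hA₀
  have hA1 : A ≠ ⊥ := c.hTH.1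
  have hp2 : p ≠ 2 := prime_ne_two_of_dvd c.hG (dvd_of_isPGroup c.hAp hA1)
  obtain ⟨t, ht, htp, hV⟩ := c.exists_prime hM
  haveI : Fact t.Prime := ⟨ht⟩
  obtain ⟨L₁, hL₁, hL₁k, z₁, hz₁V, hz₁t, hL₁z, hA₀z₁, a₁, ha₁, ha₁m⟩ := c.exists_start hM htp hV
  have hL₁c := hE.not_cyclic_of_card hL₁ hL₁k
  -- first step
  obtain ⟨N₁, s₁, hN₁, hN₁M, hs₁, hs₁p, hs₁t, hS₁, hz₁N₁, x₁, hx₁L, hx₁1, hx₁N, hR₁, r₁, hr₁, hr₁z⟩ :=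
    c.step hM htp hV hz₁V hz₁t hL₁ hL₁c hL₁z ha₁ (hA₀z₁ ha₁) ha₁m
  haveI : Fact s₁.Prime := ⟨hs₁⟩
  have hx₁A : x₁ ∈ A₀ := hL₁ hx₁L
  have hz₁x₁ : z₁ ∈ centralizer ({x₁} : Set G) := by
    rw [Subgroup.mem_centralizer_singleton_iff]
    exact (comm_of_le_centralizer hL₁z hx₁L).symm
  -- two lines through `x₁`
  obtain ⟨e₂, e₃, he₂A, he₃A, he₂L, he₃L, he₂3, he₃2⟩ := hE.exists_two_lines hL₁ hL₁k hx₁L hx₁1
  have hcz₁ : zpowers x₁ ≤ L₁ := zpowers_le.mpr hx₁L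
  have he₂x₁ : e₂ ∉ zpowers x₁ := fun h => he₂L (hcz₁ h)
  have he₃x₁ : e₃ ∉ zpowers x₁ := fun h => he₃L (hcz₁ h)
  set L₂ := line x₁ e₂ with hL₂def
  set L₃ := line x₁ e₃ with hL₃def
  have hL₂ : L₂ ≤ A₀ := line_le hx₁A he₂A
  have hL₃ : L₃ ≤ A₀ := line_le hx₁A he₃A
  have hL₂k : Nat.card L₂ = p ^ 2 := hE.line_card hx₁A he₂A hx₁1 he₂x₁
  have hL₃k : Nat.card L₃ = p ^ 2 := hE.line_card hx₁A he₃A hx₁1 he₃x₁
  have hL₂c := hE.not_cyclic_of_card hL₂ hL₂k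
  have hL₃c := hE.not_cyclic_of_card hL₃ hL₃k
  have hx₁L₂ : x₁ ∈ L₂ := Subgroup.mem_sup_left (mem_zpowers x₁)
  have hx₁L₃ : x₁ ∈ L₃ := Subgroup.mem_sup_left (mem_zpowers x₁)
  have he₂L₂ : e₂ ∈ L₂ := Subgroup.mem_sup_right (mem_zpowers e₂)
  have he₃L₃ : e₃ ∈ L₃ := Subgroup.mem_sup_right (mem_zpowers e₃)
  have hL₂L₃ : L₂ ≠ L₃ := fun h => he₂3 (by rw [← h]; exact he₂L₂)
  -- new elements `z₂`, `z₃`
  obtain ⟨y₂, hy₂S, hy₂x, hy₂e, hy₂A⟩ := c.frob_step hN₁ hs₁p hs₁t.symm hz₁t hz₁N₁ hz₁x₁ hx₁A hL₁ hL₁c hL₁z ha₁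
    (hA₀z₁ ha₁) ha₁m he₂A (hA₀z₁ he₂A) (hE.moved hL₁ hL₁k hL₁z ha₁ ha₁m he₂A he₂L) ⟨r₁, hr₁, hr₁z⟩
  obtain ⟨y₃, hy₃S, hy₃x, hy₃e, hy₃A⟩ := c.frob_step hN₁ hs₁p hs₁t.symm hz₁t hz₁N₁ hz₁x₁ hx₁A hL₁ hL₁c hL₁z ha₁
    (hA₀z₁ ha₁) ha₁m he₃A (hA₀z₁ he₃A) (hE.moved hL₁ hL₁k hL₁z ha₁ ha₁m he₃A he₃L) ⟨r₁, hr₁, hr₁z⟩
  obtain ⟨z₂, hz₂S, hz₂t, hL₂z, hA₀z₂, a₂, ha₂, ha₂m⟩ :=
    c.pick hN₁ hs₁p hL₂ hL₂c hy₂S (mem_centralizer_line hy₂x hy₂e) hy₂A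
  obtain ⟨z₃, hz₃S, hz₃t, hL₃z, hA₀z₃, a₃, ha₃, ha₃m⟩ :=
    c.pick hN₁ hs₁p hL₃ hL₃c hy₃S (mem_centralizer_line hy₃x hy₃e) hy₃A
  -- two new coatoms
  obtain ⟨N₂, s₂, hN₂, hN₂₁, hs₂, hs₂p, hs₂₁, hS₂, hz₂N₂, x₂, hx₂L, hx₂1, hx₂N, hR₂, r₂, hr₂, hr₂z⟩ :=
    c.step hN₁ hs₁p hS₁ hz₂S hz₂t hL₂ hL₂c hL₂z ha₂ (hA₀z₂ ha₂) ha₂m
  obtain ⟨N₃, s₃, hN₃, hN₃₁, hs₃, hs₃p, hs₃₁, hS₃, hz₃N₃, x₃, hx₃L, hx₃1, hx₃N, hR₃, r₃, hr₃, hr₃z⟩ :=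
    c.step hN₁ hs₁p hS₁ hz₃S hz₃t hL₃ hL₃c hL₃z ha₃ (hA₀z₃ ha₃) ha₃m
  haveI : Fact s₂.Prime := ⟨hs₂⟩
  haveI : Fact s₃.Prime := ⟨hs₃⟩
  have hx₂A : x₂ ∈ A₀ := hL₂ hx₂L
  have hx₃A : x₃ ∈ A₀ := hL₃ hx₃L
  -- the points are different
  have hnot : ∀ {N' : Subgroup G} {x' : G}, TI A N' → N' ≠ N₁ → centralizer ({x'} : Set G) ≤ N' →
      x' ∉ zpowers x₁ := by
    intro N' x' hN' hne hx'N hmem
    apply hne
    apply eq_of_not_cyclic c.hG hN₁.hH hN₁.hd (inf_le_left.trans (pCoreOf_le_fittingOf s₁ N₁))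
      ((isPGroup_pCoreOf s₁ N₁).to_le inf_le_left) hR₁ hN'.hH
    refine le_trans ?_ hx'N
    intro y hy
    have hy2 : y ∈ centralizer ({x₁} : Set G) := hy.2
    rw [Subgroup.mem_centralizer_singleton_iff] at hy2 ⊢
    obtain ⟨k, rfl⟩ := mem_zpowers_iff.mp hmem
    exact ((Commute.symm hy2 |>.zpow_left k).symm).eq
  have hx₂x₁ : x₂ ∉ zpowers x₁ := hnot hN₂ hN₂₁ hx₂N
  have hx₃x₁ : x₃ ∉ zpowers x₁ := hnot hN₃ hN₃₁ hx₃N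
  have hx₃L₂ : x₃ ∉ L₂ := fun h => hx₃x₁ (hE.meet hL₂ hL₃ hL₂k hL₃k hL₂L₃ hx₁L₂ hx₁L₃ hx₁1 h hx₃L)
  have hx₂L₃ : x₂ ∉ L₃ := fun h => hx₂x₁ (hE.meet hL₂ hL₃ hL₂k hL₃k hL₂L₃ hx₁L₂ hx₁L₃ hx₁1 hx₂L h)
  -- `N₂ ≠ N₃`
  have hN₂₃ : N₂ ≠ N₃ := by
    intro h
    have hDc : IsCyclic ↥(pCoreOf s₁ N₁ ⊓ N₂) := by
      by_contra hDc
      exact hN₂₁ (eq_of_not_cyclic c.hG hN₁.hH hN₁.hd (inf_le_left.trans (pCoreOf_le_fittingOf s₁ N₁))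
        ((isPGroup_pCoreOf s₁ N₁).to_le inf_le_left) hDc hN₂.hH inf_le_right)
    have h1 : z₃ ∈ zpowers z₂ := mem_zpowers_of_orderOf_eq hDc
      (Subgroup.mem_inf.mpr ⟨hz₃S, by rw [h]; exact hz₃N₃⟩) (Subgroup.mem_inf.mpr ⟨hz₂S, hz₂N₂⟩)
      (by rw [hz₃t, hz₂t])
    have h2 : Commute e₂ z₃ := by
      obtain ⟨k, rfl⟩ := mem_zpowers_iff.mp h1
      exact (comm_of_le_centralizer hL₂z he₂L₂).zpow_right k
    exact hE.moved hL₃ hL₃k hL₃z ha₃ ha₃m he₂A he₂3 h2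
  have hs₂₃ : s₂ ≠ s₃ := by
    rintro rfl
    exact c.prime_ne hN₂ hN₃ hN₂₃.symm hs₂p hS₂ hS₃
  -- the point `x₃` moves `z₂`; a new element `z₀`
  have hz₂x₂ : z₂ ∈ centralizer ({x₂} : Set G) := by
    rw [Subgroup.mem_centralizer_singleton_iff]
    exact (comm_of_le_centralizer hL₂z hx₂L).symm
  obtain ⟨y₀, hy₀S, hy₀x, hy₀e, hy₀A⟩ := c.frob_step hN₂ hs₂p hs₂₁.symm hz₂t hz₂N₂ hz₂x₂ hx₂A hL₂ hL₂c hL₂z ha₂
    (hA₀z₂ ha₂) ha₂m hx₃A (hA₀z₂ hx₃A) (hE.moved hL₂ hL₂k hL₂z ha₂ ha₂m hx₃A hx₃L₂) ⟨r₂, hr₂, hr₂z⟩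
  have hx₃x₂ : x₃ ∉ zpowers x₂ := fun h => hx₃L₂ ((zpowers_le.mpr hx₂L) h)
  set L₀ := line x₂ x₃ with hL₀def
  have hL₀ : L₀ ≤ A₀ := line_le hx₂A hx₃A
  have hL₀k : Nat.card L₀ = p ^ 2 := hE.line_card hx₂A hx₃A hx₂1 hx₃x₂
  have hL₀c := hE.not_cyclic_of_card hL₀ hL₀k
  have hx₂L₀ : x₂ ∈ L₀ := Subgroup.mem_sup_left (mem_zpowers x₂)
  have hx₃L₀ : x₃ ∈ L₀ := Subgroup.mem_sup_right (mem_zpowers x₃)
  obtain ⟨z₀, hz₀S, hz₀t, hL₀z, hA₀z₀, a₀, ha₀, ha₀m⟩ :=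
    c.pick hN₂ hs₂p hL₀ hL₀c hy₀S (mem_centralizer_line hy₀x hy₀e) hy₀A
  have hz₀x₃ : z₀ ∈ centralizer ({x₃} : Set G) := by
    rw [Subgroup.mem_centralizer_singleton_iff]
    exact (comm_of_le_centralizer hL₀z hx₃L₀).symm
  have hz₃x₃ : z₃ ∈ centralizer ({x₃} : Set G) := by
    rw [Subgroup.mem_centralizer_singleton_iff]
    exact (comm_of_le_centralizer hL₃z hx₃L).symm
  have hz₀N₃ : z₀ ∈ N₃ := hx₃N hz₀x₃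
  -- `x₁ ∉ L₀`
  have hx₁L₀ : x₁ ∉ L₀ := by
    intro h
    have hne : L₀ ≠ L₂ := fun h' => hx₃L₂ (by rw [← h']; exact hx₃L₀)
    have h1 : x₁ ∈ zpowers x₂ := hE.meet hL₀ hL₂ hL₀k hL₂k hne hx₂L₀ hx₂L hx₂1 h hx₁L₂
    exact hx₂x₁ (generator_of_ne_one hpp (hE.orderOf hx₂A hx₂1) h1 hx₁1)
  have hm₁ : ¬ Commute x₁ z₀ := hE.moved hL₀ hL₀k hL₀z ha₀ ha₀m hx₁A hx₁L₀
  have hm₂ : ¬ Commute x₂ z₃ := hE.moved hL₃ hL₃k hL₃z ha₃ ha₃m hx₂A hx₂L₃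
  -- the group `R`
  set S₃ := pCoreOf s₃ N₃ with hS₃def
  set R := S₃ ⊓ centralizer ({x₃} : Set G) with hRdef
  have hRp : IsPGroup s₃ R := (isPGroup_pCoreOf s₃ N₃).to_le inf_le_left
  have hNS : N₃ ≤ normalizer (S₃ : Set G) := le_normalizer_pCoreOf s₃ N₃
  have hA₀N₃ : A₀ ≤ N₃ := c.hA₀H hN₃
  have hnormA : ∀ b ∈ A₀, b ∈ normalizer (R : Set G) := by
    intro b hb
    apply mem_normalizer_inf (hNS (hA₀N₃ hb))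
    apply le_normalizer
    rw [Subgroup.mem_centralizer_singleton_iff]
    exact hE.comm b hb x₃ hx₃A
  have hR₀ : ∃ r ∈ R, z₀ * r * z₀⁻¹ ≠ r := by
    by_contra hno
    push Not at hno
    have hRle : R ≤ N₂ := by
      intro r hr
      apply centralizer_le_of_fitting c.hG hN₂.hH hN₂.hd hs₂ (pCoreOf_le_fittingOf s₂ N₂ hz₀S) hz₀t
      rw [Subgroup.mem_centralizer_singleton_iff]
      exact (comm_of_conj_eq (hno r hr)).symm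
    exact hN₂₃ (eq_of_not_cyclic c.hG hN₃.hH hN₃.hd (inf_le_left.trans (pCoreOf_le_fittingOf s₃ N₃))
      hRp hR₃ hN₂.hH hRle)
  have hx₁x₃ : x₃ ≠ 1 := hx₃1
  -- cyclic points
  have hL₂e : ∀ e ∈ L₂, e ≠ 1 → e ∉ zpowers x₃ := fun e he he1 =>
    not_mem_zpowers_of hE hx₃A hx₃1 he he1 hx₃L₂
  have hc₀ := c.cyc_of_point (s := s₃) hN₃ hx₃A hx₂A hx₃1 (hL₂e x₂ hx₂L hx₂1)
  have hc₁ := c.cyc_of_point (s := s₃) hN₃ hx₃A (mul_mem hx₂A hx₁A) hx₃1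
    (hL₂e _ (mul_mem hx₂L hx₁L₂) (by
      intro h
      apply hx₂x₁
      rw [mul_eq_one_iff_eq_inv.mp h]
      exact inv_mem (mem_zpowers x₁)))
  have hc₂ := c.cyc_of_point (s := s₃) hN₃ hx₃A (mul_mem (pow_mem hx₂A 2) hx₁A) hx₃1
    (hL₂e _ (mul_mem (pow_mem hx₂L 2) hx₁L₂) (by
      intro h
      apply hx₂x₁
      have h1 : x₂ ^ 2 ∈ zpowers x₁ := by
        rw [mul_eq_one_iff_eq_inv.mp h]
        exact inv_mem (mem_zpowers x₁)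
      obtain ⟨k, hk⟩ : ∃ k, p = 2 * k + 1 := by
        rcases hpp.eq_two_or_odd' with h2 | h2
        · exact absurd h2 hp2
        · exact h2
      have h2 : x₂ = (x₂ ^ 2) ^ (k + 1) := by
        have h3 : x₂ ^ (2 * (k + 1)) = x₂ := by
          have : 2 * (k + 1) = p + 1 := by omega
          rw [this, pow_succ, hE.exp x₂ hx₂A, one_mul]
        rw [← pow_mul, h3]
      rw [h2]
      exact pow_mem h1 _))
  exact two_frob_subgroup (s := s₃) (t₁ := s₂) (t₂ := s₁) (p := p) R hRp (hnormA x₂ hx₂A) (hnormA x₁ hx₁A)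
    (mem_normalizer_inf (hNS hz₀N₃) (le_normalizer hz₀x₃))
    (mem_normalizer_inf (hNS hz₃N₃) (le_normalizer hz₃x₃))
    (hE.comm x₂ hx₂A x₁ hx₁A) (hE.exp x₂ hx₂A) (hE.exp x₁ hx₁A) hp2 hs₃p.symm hz₀t hz₃t hs₂₃ hs₃₁.symm
    (comm_of_le_centralizer hL₀z hx₂L₀) (comm_of_le_centralizer hL₃z hx₁L₃)
    (hA₀z₀ hx₁A) (hA₀z₃ hx₂A) hm₁ hm₂ hR₀ ⟨r₃, hr₃, hr₃z⟩ hc₀ hc₁ hc₂

end Cfsg.Agent.Lib.BGUT4
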