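import Mathlib
import Cfsg.Agent.Lib.BGUT6

/-!
# Uniqueness Theorem: the case where all maximal subgroups above `A` satisfy `H' ≤ F(H)`.
-/

set_option autoImplicit false
set_option linter.unusedSectionVars false
set_option linter.unusedVariables false
set_option linter.style.haveILetI false
set_option linter.unusedSimpArgs false

namespace Cfsg.Agent.Lib.BGUT4

open Cfsg Subgroup Cfsg.Agent.Lib.CoprimeInv Cfsg.Agent.Lib.BGTrans Cfsg.Agent.Lib.BGTrans2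
  Cfsg.Agent.Lib.PCore Cfsg.Agent.Lib.BGUniq Cfsg.Agent.Lib.BGUniq2 Cfsg.Agent.Lib.BGUniq3
  Cfsg.Agent.Lib.BGFit1 Cfsg.Agent.Lib.BGFit2 Cfsg.Agent.Lib.BGFit5
  Cfsg.Agent.Lib.BGUT1 Cfsg.Agent.Lib.BGUT2 Cfsg.Agent.Lib.BGUT3

universe u

variable {G : Type u} [Group G] [Finite G]

/-- The commutators `[a, y]`, `a ∈ A₀`, `y` in an `A₀`-invariant `q`-subgroup centralized by `L`. -/
def tGen (A₀ L : Subgroup G) (q : ℕ) : Set G :=
  {g | ∃ Y : Subgroup G, IsPGroup q Y ∧ A₀ ≤ normalizer (Y : Set G) ∧ Y ≤ centralizer (L : Set G) ∧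
    ∃ a ∈ A₀, ∃ y ∈ Y, g = a * y * a⁻¹ * y⁻¹}

/-- The subgroup `T_L(q)`. -/
def tL (A₀ L : Subgroup G) (q : ℕ) : Subgroup G := closure (tGen A₀ L q)

/-- All generators of all `T_L(q)`. -/
def uGen (p : ℕ) (A₀ : Subgroup G) (q : ℕ) : Set G :=
  {g | ∃ L : Subgroup G, L ≤ A₀ ∧ L.relIndex A₀ ≤ p ∧ g ∈ tGen A₀ L q}

/-- The subgroup `U(q)`. -/
def uQ (p : ℕ) (A₀ : Subgroup G) (q : ℕ) : Subgroup G := closure (uGen p A₀ q)

theorem tL_le_uQ {p : ℕ} {A₀ L : Subgroup G} {q : ℕ} (hL : L ≤ A₀) (hi : L.relIndex A₀ ≤ p) :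
    tL A₀ L q ≤ uQ p A₀ q :=
  closure_mono fun _ hg => ⟨L, hL, hi, hg⟩

theorem mem_normalizer_closure_of_conj {S : Set G} {k : G} (h : ∀ g ∈ S, k * g * k⁻¹ ∈ S) :
    k ∈ normalizer (closure S : Set G) := by
  apply mem_normalizer_of_cj_eq
  apply Subgroup.eq_of_le_of_card_ge
  · rintro _ ⟨x, hx, rfl⟩
    show k * x * k⁻¹ ∈ closure S
    induction hx using closure_induction with
    | mem y hy => exact subset_closure (h y hy)
    | one => simp
    | mul a b _ _ ha hb =>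
      have : k * (a * b) * k⁻¹ = (k * a * k⁻¹) * (k * b * k⁻¹) := by group
      rw [this]
      exact mul_mem ha hb
    | inv a _ ha =>
      have : k * a⁻¹ * k⁻¹ = (k * a * k⁻¹)⁻¹ := by group
      rw [this]
      exact inv_mem ha
  · rw [card_cj]

theorem tGen_conj {A₀ L : Subgroup G} {q : ℕ} {k : G} (hk : k ∈ centralizer (A₀ : Set G)) (hL : L ≤ A₀)
    {g : G} (hg : g ∈ tGen A₀ L q) : k * g * k⁻¹ ∈ tGen A₀ L q := by
  obtain ⟨Y, hY, hA₀Y, hYL, a, ha, y, hy, rfl⟩ := hg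
  have hcomm : ∀ b ∈ A₀, Commute b k := fun b hb => Subgroup.mem_centralizer_iff.mp hk b hb
  refine ⟨cj Y k, hY.map _, ?_, ?_, a, ha, k * y * k⁻¹, ?_, ?_⟩
  · intro b hb
    rw [mem_normalizer_iff]
    intro h
    rw [mem_cj, mem_cj]
    have h1 := mem_normalizer_iff.mp (hA₀Y hb) (k⁻¹ * h * k)
    have h2 : k⁻¹ * (b * h * b⁻¹) * k = b * (k⁻¹ * h * k) * b⁻¹ := by
      have h4 : k⁻¹ * b = b * k⁻¹ := ((hcomm b hb).inv_right).symm
      have h5 : b⁻¹ * k = k * b⁻¹ := (hcomm b hb).inv_left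
      calc k⁻¹ * (b * h * b⁻¹) * k = (k⁻¹ * b) * h * (b⁻¹ * k) := by group
        _ = (b * k⁻¹) * h * (k * b⁻¹) := by rw [h4, h5]
        _ = b * (k⁻¹ * h * k) * b⁻¹ := by group
    rw [h2]
    exact h1
  · intro h hh
    rw [mem_cj] at hh
    rw [Subgroup.mem_centralizer_iff]
    intro x hx
    have h1 := Subgroup.mem_centralizer_iff.mp (hYL hh) x hx
    have h3 : x * k = k * x := hcomm x (hL hx)
    have h4 : k⁻¹ * x = x * k⁻¹ := ((hcomm x (hL hx)).inv_right).symm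
    calc x * h = k * (x * (k⁻¹ * h * k)) * k⁻¹ := by
          calc x * h = (k * k⁻¹) * x * h * (k * k⁻¹) := by group
            _ = k * (k⁻¹ * x) * h * k * k⁻¹ := by group
            _ = k * (x * k⁻¹) * h * k * k⁻¹ := by rw [h4]
            _ = k * (x * (k⁻¹ * h * k)) * k⁻¹ := by group
      _ = k * ((k⁻¹ * h * k) * x) * k⁻¹ := by rw [h1]
      _ = h * (k * x * k⁻¹) := by group
      _ = h * (x * k * k⁻¹) := by rw [h3]
      _ = h * x := by group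
  · rw [mem_cj]
    have : k⁻¹ * (k * y * k⁻¹) * k = y := by group
    rw [this]
    exact hy
  · have h3 : a * k = k * a := hcomm a ha
    have h4 : a⁻¹ * k = k * a⁻¹ := (hcomm a ha).inv_left
    calc k * (a * y * a⁻¹ * y⁻¹) * k⁻¹ = (k * a) * y * a⁻¹ * y⁻¹ * k⁻¹ := by group
      _ = (a * k) * y * a⁻¹ * y⁻¹ * k⁻¹ := by rw [h3]
      _ = a * k * y * k⁻¹ * (k * a⁻¹) * y⁻¹ * k⁻¹ := by group
      _ = a * k * y * k⁻¹ * (a⁻¹ * k) * y⁻¹ * k⁻¹ := by rw [h4]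
      _ = a * (k * y * k⁻¹) * a⁻¹ * (k * y * k⁻¹)⁻¹ := by group

theorem centralizer_le_normalizer_tL {A₀ L : Subgroup G} {q : ℕ} (hL : L ≤ A₀) :
    centralizer (A₀ : Set G) ≤ normalizer (tL A₀ L q : Set G) :=
  fun _ hk => mem_normalizer_closure_of_conj fun _ hg => tGen_conj hk hL hg

theorem centralizer_le_normalizer_uQ {p : ℕ} {A₀ : Subgroup G} {q : ℕ} :
    centralizer (A₀ : Set G) ≤ normalizer (uQ p A₀ q : Set G) := by
  intro k hk
  apply mem_normalizer_closure_of_conj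
  rintro g ⟨L, hL, hi, hg⟩
  exact ⟨L, hL, hi, tGen_conj hk hL hg⟩

variable {p : ℕ} [hp : Fact p.Prime] {A A₀ L : Subgroup G}

/-- `T_L(q) ≤ O_q(H)`. -/
theorem Ctx.tL_le_core (c : Ctx p A A₀)
    (hII : ∀ H : Subgroup G, IsCoatom H → A ≤ H → commutator H ≤ fittingSubgroup H)
    (hL : L ≤ A₀) {x : G} (hxL : x ∈ L) {H : Subgroup G} (hH : IsCoatom H)
    (hxH : centralizer ({x} : Set G) ≤ H) {q : ℕ} [Fact q.Prime] : tL A₀ L q ≤ pCoreOf q H := by
  have hAH : A ≤ H := (c.le_centralizer_point (hL hxL)).trans hxH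
  rw [tL, closure_le]
  rintro g ⟨Y, hY, hA₀Y, hYL, a, ha, y, hy, rfl⟩
  have hyH : y ∈ H := by
    apply hxH
    rw [Subgroup.mem_centralizer_singleton_iff]
    exact (Subgroup.mem_centralizer_iff.mp (hYL hy) x hxL).symm
  apply le_pCoreOf_of_le_fittingOf (E := Y ⊓ fittingOf H) inf_le_right (hY.to_le inf_le_left)
  refine Subgroup.mem_inf.mpr ⟨?_, comm_mem_fitting (hII H hH hAH) (hAH (c.hA₀A ha)) hyH⟩
  exact mul_mem ((mem_normalizer_iff.mp (hA₀Y ha) y).mp hy) (inv_mem hy)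

/-- A point in every hyperplane. -/
theorem Ctx.exists_hyp_point (c : Ctx p A A₀) (hL : L ≤ A₀) (hi : L.relIndex A₀ ≤ p) :
    ∃ x ∈ L, x ≠ 1 := by
  have hpp : p.Prime := hp.out
  apply c.exists_ne_one_of_relIndex le_rfl _ hL hi
  apply not_isCyclic_of_ea hpp c.hA₀.exp
  rw [c.hA₀.card]
  calc p = p ^ 1 := (pow_one p).symm
    _ < p ^ 3 := Nat.pow_lt_pow_right hpp.one_lt (by norm_num)

theorem Ctx.tL_isPGroup (c : Ctx p A A₀)
    (hII : ∀ H : Subgroup G, IsCoatom H → A ≤ H → commutator H ≤ fittingSubgroup H)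
    (hL : L ≤ A₀) (hi : L.relIndex A₀ ≤ p) {q : ℕ} [Fact q.Prime] : IsPGroup q (tL A₀ L q) := by
  obtain ⟨x, hxL, hx1⟩ := c.exists_hyp_point hL hi
  obtain ⟨H, hH, hle⟩ := exists_coatom_ge (IsMin.centralizer_singleton_ne_top c.hG hx1)
  exact (isPGroup_pCoreOf q H).to_le (c.tL_le_core hII hL hxL hH hle)

/-- `T_L(q)` lies in any fixed maximal invariant `q`-subgroup. -/
theorem Ctx.tL_le_maxInv (c : Ctx p A A₀)
    (hII : ∀ H : Subgroup G, IsCoatom H → A ≤ H → commutator H ≤ fittingSubgroup H)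
    (hL : L ≤ A₀) (hi : L.relIndex A₀ ≤ p) {q : ℕ} [hq : Fact q.Prime] (hqp : q ≠ p)
    {Q₀ : Subgroup G} (hQ₀ : Q₀ ∈ maxInvSubgroups ⊤ A {q}) : tL A₀ L q ≤ Q₀ := by
  have hqA : ¬ q ∣ Nat.card A := by
    intro h
    obtain ⟨k, hk⟩ := IsPGroup.iff_card.mp c.hAp
    rw [hk] at h
    exact hqp ((Nat.prime_dvd_prime_iff_eq hq.out hp.out).mp (hq.out.dvd_of_dvd_pow h))
  have hCA₀ : A ≤ centralizer (A₀ : Set G) := by
    intro y hy
    rw [Subgroup.mem_centralizer_iff]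
    intro x hx
    exact congrArg Subtype.val (c.hAc.is_comm.comm (⟨x, c.hA₀A hx⟩ : A) ⟨y, hy⟩)
  obtain ⟨Q₁, hQ₁, hQ₁T⟩ := exists_maxInv_ge (A := A) (H := ⊤) (π := {q}) (Y := tL A₀ L q)
    (mem_invSubgroups_singleton.mpr ⟨le_top, c.tL_isPGroup hII hL hi,
      hCA₀.trans (centralizer_le_normalizer_tL hL)⟩)
  obtain ⟨k, hk, hQk⟩ := TH.conj_of_rank_three c.hG c.hTH c.hZ hqA Q₁ hQ₁ Q₀ hQ₀
  have hk1 : k ∈ centralizer (A : Set G) := piCoreOf_le _ _ hk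
  have hk2 : k ∈ centralizer (A₀ : Set G) := Subgroup.centralizer_le c.hA₀A hk1
  have h1 : cj (tL A₀ L q) k = tL A₀ L q := cj_eq_of_mem_normalizer (centralizer_le_normalizer_tL hL hk2)
  rw [hQk, ← h1]
  exact cj_mono hQ₁T k

theorem Ctx.uQ_le_maxInv (c : Ctx p A A₀)
    (hII : ∀ H : Subgroup G, IsCoatom H → A ≤ H → commutator H ≤ fittingSubgroup H)
    {q : ℕ} [hq : Fact q.Prime] (hqp : q ≠ p)
    {Q₀ : Subgroup G} (hQ₀ : Q₀ ∈ maxInvSubgroups ⊤ A {q}) : uQ p A₀ q ≤ Q₀ := by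
  rw [uQ, closure_le]
  rintro g ⟨L, hL, hi, hg⟩
  exact c.tL_le_maxInv hII hL hi hqp hQ₀ (subset_closure hg)

theorem Ctx.uQ_isPGroup (c : Ctx p A A₀)
    (hII : ∀ H : Subgroup G, IsCoatom H → A ≤ H → commutator H ≤ fittingSubgroup H)
    {q : ℕ} [hq : Fact q.Prime] (hqp : q ≠ p) : IsPGroup q (uQ p A₀ q) := by
  obtain ⟨Q₀, hQ₀, -⟩ := exists_maxInv_ge (A := A) (H := ⊤) (π := {q}) (Y := ⊥)
    (mem_invSubgroups_singleton.mpr ⟨le_top, IsPGroup.of_bot, by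
      intro a _
      rw [mem_normalizer_iff]
      intro y
      simp⟩)
  exact (mem_invSubgroups_singleton.mp hQ₀.1).2.1.to_le (c.uQ_le_maxInv hII hqp hQ₀)

/-- Generators of `U(q)` and `U(r)` commute. -/
theorem Ctx.tGen_comm (c : Ctx p A A₀)
    (hII : ∀ H : Subgroup G, IsCoatom H → A ≤ H → commutator H ≤ fittingSubgroup H)
    {q r : ℕ} [Fact q.Prime] [Fact r.Prime] (hqr : q ≠ r) {g h : G} (hg : g ∈ uGen p A₀ q)
    (hh : h ∈ uGen p A₀ r) : g * h = h * g := by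
  obtain ⟨L, hL, hi, hg⟩ := hg
  obtain ⟨L', hL', hi', hh⟩ := hh
  obtain ⟨x, hx, hx', hx1⟩ := c.hA₀.exists_inter hL hL' (c.hA₀.card_ge_of_relIndex hL hi)
    (c.hA₀.card_ge_of_relIndex hL' hi')
  obtain ⟨H, hH, hle⟩ := exists_coatom_ge (IsMin.centralizer_singleton_ne_top c.hG hx1)
  have h1 := c.tL_le_core (q := q) hII hL hx hH hle (subset_closure hg)
  have h2 := c.tL_le_core (q := r) hII hL' hx' hH hle (subset_closure hh)
  exact comm_of_pgroups (isPGroup_pCoreOf q H) (isPGroup_pCoreOf r H) hqr (pCoreOf_le q H) (pCoreOf_le r H)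
    (le_normalizer_pCoreOf q H) (le_normalizer_pCoreOf r H) g h1 h h2

theorem Ctx.uQ_le_centralizer (c : Ctx p A A₀)
    (hII : ∀ H : Subgroup G, IsCoatom H → A ≤ H → commutator H ≤ fittingSubgroup H)
    {q r : ℕ} [Fact q.Prime] [Fact r.Prime] (hqr : q ≠ r) :
    uQ p A₀ q ≤ centralizer (uQ p A₀ r : Set G) := by
  rw [uQ, closure_le]
  intro g hg
  show g ∈ centralizer (uQ p A₀ r : Set G)
  rw [Subgroup.mem_centralizer_iff]
  intro h hh
  have h1 : uQ p A₀ r ≤ centralizer ({g} : Set G) := by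
    rw [uQ, closure_le]
    intro h' hh'
    show h' ∈ centralizer ({g} : Set G)
    rw [Subgroup.mem_centralizer_singleton_iff]
    exact (c.tGen_comm hII hqr hg hh').symm
  have h2 := h1 hh
  rw [Subgroup.mem_centralizer_singleton_iff] at h2
  exact h2

/-- The maximal subgroup `M₀`. -/
theorem Ctx.exists_M₀ (c : Ctx p A A₀)
    (hII : ∀ H : Subgroup G, IsCoatom H → A ≤ H → commutator H ≤ fittingSubgroup H) :
    ∃ M₀ : Subgroup G, IsCoatom M₀ ∧ centralizer (A₀ : Set G) ≤ M₀ ∧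
      ∀ (q : ℕ) [Fact q.Prime], q ≠ p → uQ p A₀ q ≤ M₀ := by
  have hA₀1 : A₀ ≠ ⊥ := by
    intro h
    have h1 := c.hA₀.card
    rw [h, Subgroup.card_bot] at h1
    exact (Nat.one_lt_pow (by norm_num) hp.out.one_lt).ne h1
  by_cases h : ∃ q₀ : ℕ, q₀.Prime ∧ q₀ ≠ p ∧ uQ p A₀ q₀ ≠ ⊥
  · obtain ⟨q₀, hq₀, hq₀p, hU⟩ := h
    haveI : Fact q₀.Prime := ⟨hq₀⟩
    obtain ⟨M₀, hM₀, hle⟩ := exists_coatom_ge (IsMin.normalizer_ne_top c.hG hU
      (IsMin.isPGroup_ne_top c.hG (c.uQ_isPGroup hII hq₀p)))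
    refine ⟨M₀, hM₀, centralizer_le_normalizer_uQ.trans hle, ?_⟩
    intro q _ hqp
    by_cases hqq : q = q₀
    · subst hqq
      exact le_normalizer.trans hle
    · refine le_trans ?_ hle
      exact (c.uQ_le_centralizer hII hqq).trans (BGTrans.centralizer_le_normalizer _)
  · push Not at h
    obtain ⟨M₀, hM₀, hle⟩ := exists_coatom_ge (centralizer_ne_top c.hG hA₀1
      (IsMin.isPGroup_ne_top c.hG c.hA₀.isPGroup))
    refine ⟨M₀, hM₀, hle, ?_⟩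
    intro q hq hqp
    rw [h q hq.out hqp]
    exact bot_le

/-- The invariant subgroups of order prime to `p` all lie in `M₀`. -/
theorem Ctx.invLe_M₀ (c : Ctx p A A₀)
    (hII : ∀ H : Subgroup G, IsCoatom H → A ≤ H → commutator H ≤ fittingSubgroup H)
    {M₀ : Subgroup G} (hC : centralizer (A₀ : Set G) ≤ M₀)
    (hU : ∀ (q : ℕ) [Fact q.Prime], q ≠ p → uQ p A₀ q ≤ M₀) : InvLe A M₀ p := by
  intro Y hY hAY
  have hA1 : A ≠ ⊥ := c.hTH.1
  have hpG : p ∣ Nat.card G := dvd_of_isPGroup c.hAp hA1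
  apply le_of_forall_prime_inv (IsMin.solvable c.hG (ne_top_of_coprime hY hpG)) hAY
    (coprime_of_isPGroup hY c.hAp)
  intro q _ Q hQY hQ hAQ
  by_cases hqp : q = p
  · subst hqp
    have hQ1 : Q = ⊥ := eq_bot_of_pgroup_of_coprime hQ
      (Nat.Coprime.coprime_dvd_left (Subgroup.card_dvd_of_le hQY) hY)
    rw [hQ1]
    exact bot_le
  have hpQ : ¬ p ∣ Nat.card Q := by
    intro h
    obtain ⟨k, hk⟩ := IsPGroup.iff_card.mp hQ
    rw [hk] at h
    exact hqp ((Nat.prime_dvd_prime_iff_eq hp.out (Fact.out : q.Prime)).mp (hp.out.dvd_of_dvd_pow h)).symm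
  apply c.le_of_fixed le_rfl hpQ (c.hA₀A.trans hAQ)
  intro B hB hi x hx
  set X := Q ⊓ centralizer (B : Set G) with hXdef
  have hXp : IsPGroup q X := hQ.to_le inf_le_left
  have hA₀X : A₀ ≤ normalizer (X : Set G) := by
    intro b hb
    apply mem_normalizer_inf (hAQ (c.hA₀A hb))
    apply normalizer_le_normalizer_centralizer B
    apply BGTrans.centralizer_le_normalizer B
    rw [Subgroup.mem_centralizer_iff]
    intro e he
    exact c.hA₀.comm e (hB he) b hb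
  have hxU : ∀ b ∈ A₀, ∀ y ∈ X, b * y * b⁻¹ * y⁻¹ ∈ X ⊓ uQ p A₀ q := by
    intro b hb y hy
    refine Subgroup.mem_inf.mpr ⟨?_, subset_closure ⟨B, hB, hi, X, hXp, hA₀X, inf_le_right, b, hb, y, hy, rfl⟩⟩
    exact mul_mem ((mem_normalizer_iff.mp (hA₀X hb) y).mp hy) (inv_mem hy)
  have hKp : ¬ p ∣ Nat.card ↥(X ⊓ uQ p A₀ q) := by
    intro h
    obtain ⟨k, hk⟩ := IsPGroup.iff_card.mp (hXp.to_le (inf_le_left : X ⊓ uQ p A₀ q ≤ X))
    rw [hk] at h
    exact hqp ((Nat.prime_dvd_prime_iff_eq hp.out (Fact.out : q.Prime)).mp (hp.out.dvd_of_dvd_pow h)).symm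
  have hA₀C : A₀ ≤ centralizer (A₀ : Set G) := by
    intro y hy
    rw [Subgroup.mem_centralizer_iff]
    intro e he
    exact c.hA₀.comm e he y hy
  obtain ⟨u, hu, hfix⟩ := CoprimeHyper.exists_fixed_in_coset (p := p) A₀ (X ⊓ uQ p A₀ q) c.hA₀.isPGroup hKp
    (fun b hb k hk => (mem_normalizer_iff.mp (mem_normalizer_inf (hA₀X hb)
      (centralizer_le_normalizer_uQ (hA₀C hb))) k).mp hk) x
    (fun b hb => by
      have h1 := hxU b hb x⁻¹ (inv_mem hx)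
      have h2 := inv_mem h1
      have : (b * x⁻¹ * b⁻¹ * x⁻¹⁻¹)⁻¹ = x⁻¹ * (b * x * b⁻¹) := by group
      rwa [this] at h2)
  have h3 : x * u ∈ M₀ := by
    apply hC
    rw [Subgroup.mem_centralizer_iff]
    intro e he
    exact comm_of_conj_eq (hfix e he)
  have h4 : u ∈ M₀ := hU q hqp hu.2
  have : x = (x * u) * u⁻¹ := by group
  rw [this]
  exact mul_mem h3 (inv_mem h4)

/-- **All `H' ≤ F(H)` is impossible**. -/
theorem Ctx.false_of_II (c : Ctx p A A₀)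
    (hII : ∀ H : Subgroup G, IsCoatom H → A ≤ H → commutator H ≤ fittingSubgroup H) : False := by
  obtain ⟨M₀, hM₀, hC, hU⟩ := c.exists_M₀ hII
  have hA1 : A ≠ ⊥ := c.hTH.1
  have hAC : A ≤ centralizer (A₀ : Set G) := by
    intro y hy
    rw [Subgroup.mem_centralizer_iff]
    intro x hx
    exact congrArg Subtype.val (c.hAc.is_comm.comm (⟨x, c.hA₀A hx⟩ : A) ⟨y, hy⟩)
  exact c.hnu (unique_of_inv c.hG hM₀ (hAC.trans hC) c.hAp hA1 (c.invLe_M₀ hII hC hU))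

/-- **The context is contradictory**. -/
theorem Ctx.elim (c : Ctx p A A₀) : False := by
  by_cases h : ∃ H, TI A H
  · obtain ⟨H, hH⟩ := h
    exact c.false_of_TI hH
  · apply c.false_of_II
    intro H hH hAH
    by_contra hd
    exact h ⟨H, ⟨hH, hAH, hd⟩⟩

end Cfsg.Agent.Lib.BGUT4
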