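import Mathlib

/-!
# Abstract Brauer--Suzuki--Wall: the basic configuration

`Data G` bundles the hypotheses of the abstract Brauer--Suzuki--Wall theorem:
an involution `t`, an abelian `K ∋ t` with `C(t) = K⟨s⟩`, `s` inverting `K`, `C_K(s) = ⟨t⟩`,
`K` a TI subgroup with normalizer `C(t)` and all involutions conjugate.
-/

set_option autoImplicit false

namespace Cfsg.Agent.Lib.BSW

universe u

/-- The hypotheses of the abstract Brauer--Suzuki--Wall theorem. -/
structure Data (G : Type u) [Group G] where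
  t : G
  K : Subgroup G
  s : G
  ht : orderOf t = 2
  hKab : ∀ a ∈ K, ∀ b ∈ K, a * b = b * a
  hKH : K ≤ Subgroup.centralizer ({t} : Set G)
  htK : t ∈ K
  hs : orderOf s = 2
  hsH : s ∈ Subgroup.centralizer ({t} : Set G)
  hsK : s ∉ K
  hH : K ⊔ Subgroup.zpowers s = Subgroup.centralizer ({t} : Set G)
  hCK : K ⊓ Subgroup.centralizer ({s} : Set G) = Subgroup.zpowers t
  hinv : ∀ x ∈ K, s * x * s⁻¹ = x⁻¹
  hTI : ∀ g : G, g ∉ Subgroup.centralizer ({t} : Set G) →
    K ⊓ K.map (MulAut.conj g).toMonoidHom = ⊥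
  hconj : ∀ x y : G, orderOf x = 2 → orderOf y = 2 → IsConj x y

variable {G : Type u} [Group G] (D : Data G)

/-- The number of involutions `u` with `u g` an involution. -/
noncomputable def I (g : G) : ℕ := Nat.card {u : G // orderOf u = 2 ∧ orderOf (u * g) = 2}

namespace Data

/-- The centralizer of `t`. -/
abbrev H : Subgroup G := Subgroup.centralizer ({D.t} : Set G)

theorem mem_H {g : G} : g ∈ D.H ↔ g * D.t = D.t * g := by
  rw [Subgroup.mem_centralizer_singleton_iff]

theorem s_sq : D.s * D.s = 1 := by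
  have := pow_orderOf_eq_one D.s
  rw [D.hs, pow_two] at this
  exact this

theorem s_inv : D.s⁻¹ = D.s := inv_eq_of_mul_eq_one_left D.s_sq

theorem s_ne_one : D.s ≠ 1 := by
  intro h
  have := D.hs
  rw [h, orderOf_one] at this
  omega

theorem t_sq : D.t * D.t = 1 := by
  have := pow_orderOf_eq_one D.t
  rw [D.ht, pow_two] at this
  exact this

theorem t_inv : D.t⁻¹ = D.t := inv_eq_of_mul_eq_one_left D.t_sq

theorem t_ne_one : D.t ≠ 1 := by
  intro h
  have := D.ht
  rw [h, orderOf_one] at this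
  omega

theorem s_mul_mem (x : G) (hx : x ∈ D.K) : D.s * x = x⁻¹ * D.s := by
  have := D.hinv x hx
  rw [D.s_inv] at this
  rw [← this, mul_assoc, D.s_sq, mul_one]

/-- The explicit subgroup `K ∪ K s`. -/
def L : Subgroup G where
  carrier := {g | g ∈ D.K ∨ ∃ k ∈ D.K, g = k * D.s}
  one_mem' := Or.inl D.K.one_mem
  mul_mem' := by
    rintro a b (ha | ⟨k, hk, rfl⟩) (hb | ⟨k', hk', rfl⟩)
    · exact Or.inl (D.K.mul_mem ha hb)
    · exact Or.inr ⟨a * k', D.K.mul_mem ha hk', by group⟩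
    · refine Or.inr ⟨k * b⁻¹, D.K.mul_mem hk (D.K.inv_mem hb), ?_⟩
      rw [mul_assoc, D.s_mul_mem b hb, mul_assoc]
    · refine Or.inl ?_
      have : k * D.s * (k' * D.s) = k * k'⁻¹ := by
        rw [mul_assoc, ← mul_assoc D.s, D.s_mul_mem k' hk', mul_assoc k'⁻¹, D.s_sq, mul_one]
      rw [this]
      exact D.K.mul_mem hk (D.K.inv_mem hk')
  inv_mem' := by
    rintro a (ha | ⟨k, hk, rfl⟩)
    · exact Or.inl (D.K.inv_mem ha)
    · refine Or.inr ⟨k, hk, ?_⟩
      rw [mul_inv_rev, D.s_inv, D.s_mul_mem _ (D.K.inv_mem hk), inv_inv]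

/-- Elements of `H` are in `K` or `K s`. -/
theorem mem_H_iff {g : G} : g ∈ D.H ↔ g ∈ D.K ∨ ∃ k ∈ D.K, g = k * D.s := by
  constructor
  · intro hg
    have hle : D.K ⊔ Subgroup.zpowers D.s ≤ D.L := by
      refine sup_le (fun x hx => Or.inl hx) ?_
      rw [Subgroup.zpowers_le]
      exact Or.inr ⟨1, D.K.one_mem, by simp⟩
    have hg' : g ∈ D.K ⊔ Subgroup.zpowers D.s := by rw [D.hH]; exact hg
    exact hle hg'
  · rintro (h | ⟨k, hk, rfl⟩)
    · exact D.hKH h
    · exact Subgroup.mul_mem _ (D.hKH hk) D.hsH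

theorem K_le_H : D.K ≤ D.H := D.hKH

/-- An element `k s` inverts `K`. -/
theorem mul_s_conj {k x : G} (hk : k ∈ D.K) (hx : x ∈ D.K) :
    (k * D.s) * x * (k * D.s)⁻¹ = x⁻¹ := by
  have h1 : (k * D.s) * x * (k * D.s)⁻¹ = k * (D.s * x * D.s⁻¹) * k⁻¹ := by group
  rw [h1, D.hinv x hx]
  have := D.hKab k hk x⁻¹ (D.K.inv_mem hx)
  rw [this]
  group

theorem mul_s_sq {k : G} (hk : k ∈ D.K) : (k * D.s) * (k * D.s) = 1 := by
  rw [mul_assoc, ← mul_assoc D.s, D.s_mul_mem k hk, mul_assoc k⁻¹, D.s_sq, mul_one]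
  group

theorem mul_s_not_mem {k : G} (hk : k ∈ D.K) : k * D.s ∉ D.K := by
  intro h
  apply D.hsK
  have : D.s = k⁻¹ * (k * D.s) := by group
  rw [this]
  exact D.K.mul_mem (D.K.inv_mem hk) h

theorem orderOf_mul_s {k : G} (hk : k ∈ D.K) : orderOf (k * D.s) = 2 := by
  apply orderOf_eq_prime
  · rw [pow_two]; exact D.mul_s_sq hk
  · intro h
    exact D.mul_s_not_mem hk (h ▸ D.K.one_mem)

/-- Involutions of `K` equal `t`. -/
theorem eq_t_of_sq {x : G} (hx : x ∈ D.K) (h2 : x * x = 1) (h1 : x ≠ 1) : x = D.t := by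
  have h3 : x ∈ D.K ⊓ Subgroup.centralizer ({D.s} : Set G) := by
    refine ⟨hx, ?_⟩
    show x ∈ Subgroup.centralizer ({D.s} : Set G)
    rw [Subgroup.mem_centralizer_singleton_iff]
    have h4 := D.hinv x hx
    rw [inv_eq_of_mul_eq_one_left h2] at h4
    rw [D.s_inv] at h4
    have : x * D.s = D.s * x * D.s * D.s := by rw [h4]
    rw [mul_assoc (D.s * x), D.s_sq, mul_one] at this
    exact this
  rw [D.hCK] at h3
  obtain ⟨n, hn⟩ := h3
  have hne : ∀ n : ℤ, D.t ^ n = 1 ∨ D.t ^ n = D.t := by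
    intro n
    rcases Int.even_or_odd' n with ⟨m, rfl | rfl⟩
    · left
      rw [zpow_mul, zpow_two, D.t_sq, one_zpow]
    · right
      rw [zpow_add, zpow_mul, zpow_two, D.t_sq, one_zpow, one_mul, zpow_one]
  rcases hne n with h | h
  · exact absurd (by rw [← hn]; exact h) h1
  · have hn' : D.t ^ n = x := hn
    rw [← hn', h]

/-- TI in elementwise form. -/
theorem mem_H_of_conj_mem {x g : G} (hx : x ∈ D.K) (h1 : x ≠ 1) (hg : g * x * g⁻¹ ∈ D.K) :
    g ∈ D.H := by
  by_contra hn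
  have h2 := D.hTI g hn
  have h3 : g * x * g⁻¹ ∈ D.K ⊓ D.K.map (MulAut.conj g).toMonoidHom := by
    refine ⟨hg, ?_⟩
    exact ⟨x, hx, by simp [MulAut.conj_apply]⟩
  rw [h2, Subgroup.mem_bot] at h3
  apply h1
  have : x = g⁻¹ * (g * x * g⁻¹) * g := by group
  rw [this, h3]
  group

/-- For `x ∈ K` with `x² ≠ 1` the centralizer is `K`. -/
theorem centralizer_eq_K {x : G} (hx : x ∈ D.K) (h2 : x * x ≠ 1) :
    Subgroup.centralizer ({x} : Set G) = D.K := by
  have h1 : x ≠ 1 := by
    rintro rfl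
    simp at h2
  ext g
  rw [Subgroup.mem_centralizer_singleton_iff]
  constructor
  · intro hg
    have hgH : g ∈ D.H := by
      apply D.mem_H_of_conj_mem hx h1
      rw [hg]
      simpa using hx
    rcases D.mem_H_iff.mp hgH with h | ⟨k, hk, rfl⟩
    · exact h
    · exfalso
      have h3 := D.mul_s_conj hk hx
      rw [hg] at h3
      have h4 : x = x⁻¹ := by
        rw [← h3]
        group
      apply h2
      nth_rewrite 2 [h4]
      group
  · intro hg
    exact D.hKab g hg x hx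

/-- Elements of `H` outside `K` are exactly the `k s`. -/
theorem mem_sdiff_iff {u : G} : (u ∈ D.H ∧ u ∉ D.K) ↔ ∃ k ∈ D.K, u = k * D.s := by
  constructor
  · rintro ⟨h1, h2⟩
    rcases D.mem_H_iff.mp h1 with h | h
    · exact absurd h h2
    · exact h
  · rintro ⟨k, hk, rfl⟩
    exact ⟨D.mem_H_iff.mpr (Or.inr ⟨k, hk, rfl⟩), D.mul_s_not_mem hk⟩

theorem card_sdiff [Finite G] : Nat.card {u : G // u ∈ D.H ∧ u ∉ D.K} = Nat.card D.K := by
  refine (Nat.card_congr ?_).symm
  refine Equiv.ofBijective (fun k : D.K => ⟨(k : G) * D.s, D.mem_sdiff_iff.mpr ⟨k, k.2, rfl⟩⟩) ⟨?_, ?_⟩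
  · intro a b h
    have h' : (a : G) * D.s = (b : G) * D.s := congrArg Subtype.val h
    exact Subtype.ext (mul_right_cancel h')
  · rintro ⟨u, hu⟩
    obtain ⟨k, hk, rfl⟩ := D.mem_sdiff_iff.mp hu
    exact ⟨⟨k, hk⟩, rfl⟩

/-- `|C(t)| = 2 |K|`. -/
theorem card_H [Finite G] : Nat.card D.H = 2 * Nat.card D.K := by
  classical
  have h1 : Nat.card D.H = Nat.card {u : G // u ∈ D.H} := rfl
  have e : {u : G // u ∈ D.H} ≃ D.K ⊕ {u : G // u ∈ D.H ∧ u ∉ D.K} := by
    refine ⟨fun u => if h : u.1 ∈ D.K then Sum.inl ⟨u.1, h⟩ else Sum.inr ⟨u.1, u.2, h⟩,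
      fun v => match v with
        | Sum.inl a => ⟨a.1, D.hKH a.2⟩
        | Sum.inr a => ⟨a.1, a.2.1⟩, ?_, ?_⟩
    · intro u
      by_cases h : u.1 ∈ D.K <;> simp [h]
    · rintro (a | a)
      · simp
      · have := a.2.2
        simp [this]
  rw [h1, Nat.card_congr e]
  have : Finite D.K := inferInstance
  have hf : Finite {u : G // u ∈ D.H ∧ u ∉ D.K} := inferInstance
  rw [Nat.card_sum, D.card_sdiff]
  ring

/-- Involutions `u` such that `u x` is an involution, for `x ∈ K`, `x ≠ 1`. -/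
theorem invol_iff {x : G} (hx : x ∈ D.K) (h1 : x ≠ 1) (u : G) :
    (orderOf u = 2 ∧ orderOf (u * x) = 2) ↔ (u ∈ D.H ∧ u ∉ D.K) := by
  constructor
  · rintro ⟨h2, h3⟩
    have hu : u * u = 1 := by
      have := pow_orderOf_eq_one u
      rwa [h2, pow_two] at this
    have hux : (u * x) * (u * x) = 1 := by
      have := pow_orderOf_eq_one (u * x)
      rwa [h3, pow_two] at this
    have huinv : u⁻¹ = u := inv_eq_of_mul_eq_one_left hu
    have hconj : u * x * u⁻¹ = x⁻¹ := by
      rw [huinv]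
      apply eq_inv_of_mul_eq_one_left
      rw [← hux]
      group
    have huH : u ∈ D.H := by
      apply D.mem_H_of_conj_mem hx h1
      rw [hconj]
      exact D.K.inv_mem hx
    refine ⟨huH, ?_⟩
    intro huK
    have hu1 : u ≠ 1 := by
      rintro rfl
      rw [orderOf_one] at h2
      omega
    have hut := D.eq_t_of_sq huK hu hu1
    have hux1 : u * x ≠ 1 := by
      intro h
      rw [h, orderOf_one] at h3
      omega
    have hut2 := D.eq_t_of_sq (D.K.mul_mem huK hx) hux hux1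
    rw [hut] at hut2
    apply h1
    have : D.t * x = D.t * 1 := by rw [hut2, mul_one]
    exact mul_left_cancel this
  · intro hu
    obtain ⟨k, hk, rfl⟩ := D.mem_sdiff_iff.mp hu
    refine ⟨D.orderOf_mul_s hk, ?_⟩
    have : k * D.s * x = (k * x⁻¹) * D.s := by
      rw [mul_assoc, D.s_mul_mem x hx, mul_assoc]
    rw [this]
    exact D.orderOf_mul_s (D.K.mul_mem hk (D.K.inv_mem hx))

theorem I_of_mem [Finite G] {x : G} (hx : x ∈ D.K) (h1 : x ≠ 1) : I x = Nat.card D.K := by
  rw [I, ← D.card_sdiff]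
  exact Nat.card_congr (Equiv.subtypeEquivRight (D.invol_iff hx h1))

/-- The set of non-identity conjugates of elements of `K`. -/
def U : Set G := {g | ∃ f : G, ∃ x ∈ D.K, x ≠ 1 ∧ g = f * x * f⁻¹}

theorem one_not_mem_U : (1 : G) ∉ D.U := by
  rintro ⟨f, x, _, h1, h2⟩
  apply h1
  have : x = f⁻¹ * (f * x * f⁻¹) * f := by group
  rw [this, ← h2]
  group

theorem ne_one_of_mem_U {g : G} (hg : g ∈ D.U) : g ≠ 1 := by
  rintro rfl
  exact D.one_not_mem_U hg

theorem conj_mem_U {g : G} (hg : g ∈ D.U) (f : G) : f * g * f⁻¹ ∈ D.U := by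
  obtain ⟨f', x, hx, h1, rfl⟩ := hg
  exact ⟨f * f', x, hx, h1, by group⟩

/-- Involutions lie in `U`. -/
theorem invol_mem_U {w : G} (hw : orderOf w = 2) : w ∈ D.U := by
  obtain ⟨c, hc⟩ := isConj_iff.mp (D.hconj D.t w D.ht hw)
  exact ⟨c, D.t, D.htK, D.t_ne_one, hc.symm⟩

theorem not_conj_mem_K {g : G} (h1 : g ≠ 1) (hU : g ∉ D.U) (y : G) : y⁻¹ * g * y ∉ D.K := by
  intro h
  apply hU
  refine ⟨y, _, h, ?_, by group⟩
  intro h2
  apply h1
  have : g = y * (y⁻¹ * g * y) * y⁻¹ := by group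
  rw [this, h2]
  group

end Data

/-- Transport of the data along an automorphism. -/
def Data.map (φ : G ≃* G) : Data G where
  t := φ D.t
  K := D.K.map φ.toMonoidHom
  s := φ D.s
  ht := by rw [MulEquiv.orderOf_eq]; exact D.ht
  hKab := by
    rintro _ ⟨a, ha, rfl⟩ _ ⟨b, hb, rfl⟩
    show φ a * φ b = φ b * φ a
    rw [← map_mul, ← map_mul, D.hKab a ha b hb]
  hKH := by
    rintro _ ⟨a, ha, rfl⟩
    have h := D.hKH ha
    rw [Subgroup.mem_centralizer_singleton_iff] at h ⊢
    show φ a * φ D.t = φ D.t * φ a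
    rw [← map_mul, ← map_mul, h]
  htK := ⟨D.t, D.htK, rfl⟩
  hs := by rw [MulEquiv.orderOf_eq]; exact D.hs
  hsH := by
    have h := D.hsH
    rw [Subgroup.mem_centralizer_singleton_iff] at h ⊢
    rw [← map_mul, ← map_mul, h]
  hsK := by
    rintro ⟨a, ha, h⟩
    have : a = D.s := φ.injective h
    exact D.hsK (this ▸ ha)
  hH := by
    have h1 : ∀ g : G, g ∈ Subgroup.centralizer ({φ D.t} : Set G) ↔
        φ.symm g ∈ Subgroup.centralizer ({D.t} : Set G) := by
      intro g
      rw [Subgroup.mem_centralizer_singleton_iff, Subgroup.mem_centralizer_singleton_iff]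
      constructor
      · intro h
        apply φ.injective
        simp [map_mul, h]
      · intro h
        have := congrArg φ h
        simpa [map_mul] using this
    apply le_antisymm
    · refine sup_le ?_ ?_
      · rintro _ ⟨a, ha, rfl⟩
        have h := D.hKH ha
        rw [Subgroup.mem_centralizer_singleton_iff] at h ⊢
        show φ a * φ D.t = φ D.t * φ a
        rw [← map_mul, ← map_mul, h]
      · rw [Subgroup.zpowers_le]
        have h := D.hsH
        rw [Subgroup.mem_centralizer_singleton_iff] at h ⊢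
        rw [← map_mul, ← map_mul, h]
    · intro g hg
      have h2 := (h1 g).mp hg
      rcases D.mem_H_iff.mp h2 with h | ⟨k, hk, h⟩
      · have : g = φ (φ.symm g) := by simp
        rw [this]
        exact Subgroup.mem_sup_left ⟨_, h, rfl⟩
      · have : g = φ k * φ D.s := by
          rw [← map_mul, ← h]
          simp
        rw [this]
        exact Subgroup.mul_mem _ (Subgroup.mem_sup_left ⟨k, hk, rfl⟩)
          (Subgroup.mem_sup_right (Subgroup.mem_zpowers _))
  hCK := by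
    ext g
    constructor
    · rintro ⟨⟨a, ha, rfl⟩, h2⟩
      have h3 : a ∈ D.K ⊓ Subgroup.centralizer ({D.s} : Set G) := by
        refine ⟨ha, ?_⟩
        have h2' : φ a ∈ Subgroup.centralizer ({φ D.s} : Set G) := h2
        show a ∈ Subgroup.centralizer ({D.s} : Set G)
        rw [Subgroup.mem_centralizer_singleton_iff] at h2' ⊢
        apply φ.injective
        simpa [map_mul] using h2'
      rw [D.hCK] at h3
      obtain ⟨n, rfl⟩ := h3
      exact ⟨n, by simp⟩
    · rintro ⟨n, rfl⟩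
      have h3 : D.t ^ n ∈ D.K ⊓ Subgroup.centralizer ({D.s} : Set G) := by
        rw [D.hCK]
        exact ⟨n, rfl⟩
      refine ⟨⟨D.t ^ n, h3.1, by simp⟩, ?_⟩
      have h4 := h3.2
      show (φ D.t) ^ n ∈ Subgroup.centralizer ({φ D.s} : Set G)
      have h4' : D.t ^ n ∈ Subgroup.centralizer ({D.s} : Set G) := h4
      rw [Subgroup.mem_centralizer_singleton_iff] at h4' ⊢
      have := congrArg φ h4'
      simpa [map_mul] using this
  hinv := by
    rintro _ ⟨a, ha, rfl⟩
    show φ D.s * φ a * (φ D.s)⁻¹ = (φ a)⁻¹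
    rw [← map_inv, ← map_mul, ← map_mul, D.hinv a ha, map_inv]
  hTI := by
    intro g hg
    have hg' : φ.symm g ∉ Subgroup.centralizer ({D.t} : Set G) := by
      intro h
      apply hg
      rw [Subgroup.mem_centralizer_singleton_iff] at h ⊢
      have := congrArg φ h
      simpa [map_mul] using this
    have h := D.hTI _ hg'
    rw [eq_bot_iff]
    rintro y ⟨⟨a, ha, rfl⟩, ⟨_, ⟨b, hb, rfl⟩, hy⟩⟩
    have h3 : a ∈ D.K ⊓ D.K.map (MulAut.conj (φ.symm g)).toMonoidHom := by
      refine ⟨ha, b, hb, ?_⟩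
      apply φ.injective
      simp only [MulEquiv.coe_toMonoidHom, MulAut.conj_apply] at hy ⊢
      simpa [map_mul] using hy
    rw [h, Subgroup.mem_bot] at h3
    subst h3
    simp
  hconj := by
    intro x y hx hy
    have := D.hconj x y hx hy
    exact this

end Cfsg.Agent.Lib.BSW
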