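import Mathlib
import Cfsg.Agent.Lib.CharLattice

/-!
# Integer vectors of small norm
-/

set_option autoImplicit false
set_option linter.unusedSectionVars false

namespace Cfsg.Agent.Lib.BSW

universe u

section Combi

variable {ι : Type u} [Fintype ι] [DecidableEq ι]

theorem int_sq_one {a : ℤ} (h : a ^ 2 = 1) : a = 1 ∨ a = -1 := by
  have h2 : (a - 1) * (a + 1) = 0 := by ring_nf; omega
  rcases mul_eq_zero.mp h2 with h3 | h3
  · left; omega
  · right; omega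

theorem entries_two (y : ι → ℤ) (h : ∑ i, y i ^ 2 = 2) :
    ∃ p q, p ≠ q ∧ (y p = 1 ∨ y p = -1) ∧ (y q = 1 ∨ y q = -1) ∧ ∀ i, i ≠ p → i ≠ q → y i = 0 := by
  obtain ⟨p, q, hpq, h1, h2, h3⟩ := Cfsg.Agent.Lib.CharLattice.exists_pair_of_sum_sq_eq_two y h
  exact ⟨p, q, hpq, int_sq_one h1, int_sq_one h2, h3⟩

theorem entries_one (y : ι → ℤ) (h : ∑ i, y i ^ 2 = 1) :
    ∃ p, (y p = 1 ∨ y p = -1) ∧ ∀ i, i ≠ p → y i = 0 := by
  have hex : ∃ p, y p ≠ 0 := by
    by_contra hn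
    push Not at hn
    simp [hn] at h
  obtain ⟨p, hp⟩ := hex
  have h1 : y p ^ 2 + ∑ i ∈ Finset.univ.erase p, y i ^ 2 = 1 :=
    (Finset.add_sum_erase _ (fun i => y i ^ 2) (Finset.mem_univ p)).trans h
  have h2 : 0 ≤ ∑ i ∈ Finset.univ.erase p, y i ^ 2 := Finset.sum_nonneg fun i _ => sq_nonneg _
  have h3 : 1 ≤ y p ^ 2 := by
    have : y p ^ 2 ≠ 0 := pow_ne_zero _ hp
    have h4 := sq_nonneg (y p)
    omega
  have h4 : y p ^ 2 = 1 := by omega
  have h5 : ∑ i ∈ Finset.univ.erase p, y i ^ 2 = 0 := by omega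
  refine ⟨p, int_sq_one h4, fun i hi => ?_⟩
  have := (Finset.sum_eq_zero_iff_of_nonneg (fun i _ => sq_nonneg (y i))).mp h5 i
    (Finset.mem_erase.mpr ⟨hi, Finset.mem_univ i⟩)
  exact pow_eq_zero_iff (by norm_num) |>.mp this

theorem entries_three (y : ι → ℤ) (h : ∑ i, y i ^ 2 = 3) :
    ∃ p q r, p ≠ q ∧ p ≠ r ∧ q ≠ r ∧ (y p = 1 ∨ y p = -1) ∧ (y q = 1 ∨ y q = -1) ∧
      (y r = 1 ∨ y r = -1) ∧ ∀ i, i ≠ p → i ≠ q → i ≠ r → y i = 0 := by
  have hex : ∃ p, y p ≠ 0 := by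
    by_contra hn
    push Not at hn
    simp [hn] at h
  obtain ⟨p, hp⟩ := hex
  have hsq : ∀ i, y i ^ 2 ≤ 3 := fun i => by
    rw [← h]
    exact Finset.single_le_sum (f := fun i => y i ^ 2) (fun i _ => sq_nonneg (y i)) (Finset.mem_univ i)
  have hpp : y p = 1 ∨ y p = -1 := by
    have h3 := hsq p
    have : -1 ≤ y p ∧ y p ≤ 1 := by
      constructor <;> nlinarith
    omega
  have hp2 : y p ^ 2 = 1 := by rcases hpp with h | h <;> rw [h] <;> norm_num
  let y' : ι → ℤ := fun i => if i = p then 0 else y i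
  have hy' : ∑ i, y' i ^ 2 = 2 := by
    have h1 : ∑ i, y i ^ 2 = y p ^ 2 + ∑ i ∈ Finset.univ.erase p, y i ^ 2 :=
      (Finset.add_sum_erase _ (fun i => y i ^ 2) (Finset.mem_univ p)).symm
    have h2 : ∑ i, y' i ^ 2 = y' p ^ 2 + ∑ i ∈ Finset.univ.erase p, y' i ^ 2 :=
      (Finset.add_sum_erase _ (fun i => y' i ^ 2) (Finset.mem_univ p)).symm
    have h3 : ∑ i ∈ Finset.univ.erase p, y' i ^ 2 = ∑ i ∈ Finset.univ.erase p, y i ^ 2 := by
      refine Finset.sum_congr rfl fun i hi => ?_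
      simp [y', (Finset.mem_erase.mp hi).1]
    have h4 : y' p = 0 := by simp [y']
    rw [h2, h3, h4]
    omega
  obtain ⟨q, r, hqr, hq, hr, h0⟩ := entries_two y' hy'
  have hqp : q ≠ p := by
    rintro rfl
    simp [y'] at hq
  have hrp : r ≠ p := by
    rintro rfl
    simp [y'] at hr
  have hyq : y' q = y q := by simp [y', hqp]
  have hyr : y' r = y r := by simp [y', hrp]
  refine ⟨p, q, r, hqp.symm, hrp.symm, hqr, hpp, hyq ▸ hq, hyr ▸ hr, fun i h1 h2 h3 => ?_⟩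
  have := h0 i h2 h3
  simpa [y', h1] using this

/-- Sum against a vector supported on two indices. -/
theorem sum_two {R : Type*} [CommRing R] (y : ι → ℤ) {p q : ι} (hpq : p ≠ q)
    (h0 : ∀ i, i ≠ p → i ≠ q → y i = 0) (w : ι → R) :
    ∑ i, (y i : R) * w i = (y p : R) * w p + (y q : R) * w q := by
  apply Finset.sum_eq_add p q hpq
  · intro c _ hc
    rw [h0 c hc.1 hc.2]
    simp
  · intro h; exact absurd (Finset.mem_univ p) h
  · intro h; exact absurd (Finset.mem_univ q) h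

theorem sum_two' (y w : ι → ℤ) {p q : ι} (hpq : p ≠ q)
    (h0 : ∀ i, i ≠ p → i ≠ q → y i = 0) :
    ∑ i, y i * w i = y p * w p + y q * w q := by
  have := sum_two (R := ℤ) y hpq h0 w
  simpa using this

theorem sum_one {R : Type*} [CommRing R] (y : ι → ℤ) {p : ι}
    (h0 : ∀ i, i ≠ p → y i = 0) (w : ι → R) :
    ∑ i, (y i : R) * w i = (y p : R) * w p := by
  apply Finset.sum_eq_single p
  · intro c _ hc
    rw [h0 c hc]
    simp
  · intro h; exact absurd (Finset.mem_univ p) h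

theorem sum_one' (y w : ι → ℤ) {p : ι} (h0 : ∀ i, i ≠ p → y i = 0) :
    ∑ i, y i * w i = y p * w p := by
  have := sum_one (R := ℤ) y h0 w
  simpa using this

theorem entry_of_norm_le (y : ι → ℤ) {N : ℤ} (h : ∑ i, y i ^ 2 = N) (hN : N ≤ 3) (i : ι) :
    y i = 0 ∨ y i = 1 ∨ y i = -1 := by
  have h3 : y i ^ 2 ≤ 3 := by
    calc y i ^ 2 ≤ ∑ i, y i ^ 2 :=
          Finset.single_le_sum (f := fun i => y i ^ 2) (fun i _ => sq_nonneg (y i)) (Finset.mem_univ i)
      _ ≤ 3 := by omega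
  have : -1 ≤ y i ∧ y i ≤ 1 := by
    constructor <;> nlinarith
  omega

theorem aux4 (A B C E : ℤ) (hA : A = 1 ∨ A = -1) (hB : B = 1 ∨ B = -1) (hC : C = 0 ∨ C = 1 ∨ C = -1)
    (hE : E = 0 ∨ E = 1 ∨ E = -1) (h : A * C + B * E = 1) :
    (C = A ∧ E = 0) ∨ (E = B ∧ C = 0) := by
  rcases hA with rfl | rfl <;> rcases hB with rfl | rfl <;> rcases hC with rfl | rfl | rfl <;>
    rcases hE with rfl | rfl | rfl <;> first | (exfalso; omega) | simp

/-- Two vectors of norm two with inner product one share exactly one entry. -/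
theorem common_two (y y' : ι → ℤ) (h : ∑ i, y i ^ 2 = 2) (h' : ∑ i, y' i ^ 2 = 2)
    (hi : ∑ i, y i * y' i = 1) :
    ∃ j v v', j ≠ v ∧ j ≠ v' ∧ v ≠ v' ∧ (y j = 1 ∨ y j = -1) ∧ y' j = y j ∧
      (y v = 1 ∨ y v = -1) ∧ (y' v' = 1 ∨ y' v' = -1) ∧
      (∀ i, i ≠ j → i ≠ v → y i = 0) ∧ (∀ i, i ≠ j → i ≠ v' → y' i = 0) := by
  obtain ⟨p, q, hpq, hp, hq, h0⟩ := entries_two y h
  obtain ⟨p', q', hpq', hp', hq', h0'⟩ := entries_two y' h'
  rw [sum_two' y y' hpq h0] at hi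
  have hep := entry_of_norm_le y' h' (by norm_num) p
  have heq := entry_of_norm_le y' h' (by norm_num) q
  -- the key case split
  have hcase : (y' p = y p ∧ y' q = 0) ∨ (y' q = y q ∧ y' p = 0) :=
    aux4 _ _ _ _ hp hq hep heq hi
  have key : ∀ (a b : ι), a ≠ b → (y a = 1 ∨ y a = -1) → (y b = 1 ∨ y b = -1) →
      (∀ i, i ≠ a → i ≠ b → y i = 0) → y' a = y a → y' b = 0 →
      ∃ j v v', j ≠ v ∧ j ≠ v' ∧ v ≠ v' ∧ (y j = 1 ∨ y j = -1) ∧ y' j = y j ∧
      (y v = 1 ∨ y v = -1) ∧ (y' v' = 1 ∨ y' v' = -1) ∧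
      (∀ i, i ≠ j → i ≠ v → y i = 0) ∧ (∀ i, i ≠ j → i ≠ v' → y' i = 0) := by
    intro a b hab ha hb h0a h1 h2
    have hane : y' a ≠ 0 := by
      rw [h1]
      rcases ha with h | h <;> rw [h] <;> norm_num
    have hbp : b ≠ p' ∨ y' p' = 0 := by
      by_cases hb' : b = p'
      · right; rw [← hb']; exact h2
      · left; exact hb'
    by_cases hap : a = p'
    · subst hap
      refine ⟨a, b, q', hab, hpq', ?_, ha, h1, hb, hq', h0a, fun i h3 h4 => h0' i h3 h4⟩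
      rintro rfl
      rw [h2] at hq'
      simp at hq'
    · have haq : a = q' := by
        by_contra hn
        exact hane (h0' a hap hn)
      subst haq
      refine ⟨a, b, p', hab, hpq'.symm, ?_, ha, h1, hb, hp', h0a, fun i h3 h4 => h0' i h4 h3⟩
      rintro rfl
      rw [h2] at hp'
      simp at hp'
  rcases hcase with ⟨h1, h2⟩ | ⟨h1, h2⟩
  · exact key p q hpq hp hq h0 h1 h2
  · exact key q p hpq.symm hq hp (fun i a b => h0 i b a) h1 h2

/-- The star lemma: pairwise meeting edges with an odd functional form a star. -/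
theorem star_three (y₁ y₂ y₃ X : ι → ℤ) (h₁ : ∑ i, y₁ i ^ 2 = 2) (h₂ : ∑ i, y₂ i ^ 2 = 2)
    (h₃ : ∑ i, y₃ i ^ 2 = 2) (h12 : ∑ i, y₁ i * y₂ i = 1) (h31 : ∑ i, y₃ i * y₁ i = 1)
    (h32 : ∑ i, y₃ i * y₂ i = 1)
    (o₁ : (∑ i, y₁ i * X i) % 2 = 1) (o₂ : (∑ i, y₂ i * X i) % 2 = 1)
    (o₃ : (∑ i, y₃ i * X i) % 2 = 1) {j : ι} (hj : y₁ j = 1 ∨ y₁ j = -1) (hjj : y₂ j = y₁ j) :
    y₃ j = y₁ j := by
  -- the other entries of `y₁` and `y₂`
  obtain ⟨j', v, v', hjv, hjv', hvv', hj1, hj2, hv, hv', h0, h0'⟩ := common_two y₁ y₂ h₁ h₂ h12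
  have hjeq : j' = j := by
    by_contra hne
    have h1 : y₁ j = 0 ∨ j = v := by
      by_cases h : j = v
      · right; exact h
      · left; exact h0 j (Ne.symm hne) h
    have h2 : y₂ j = 0 ∨ j = v' := by
      by_cases h : j = v'
      · right; exact h
      · left; exact h0' j (Ne.symm hne) h
    rcases h1 with h1 | h1
    · rcases hj with hj | hj <;> omega
    · rcases h2 with h2 | h2
      · rw [hjj] at h2
        rcases hj with hj | hj <;> omega
      · exact hvv' (h1.symm.trans h2)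
  subst hjeq
  have e1 : ∑ i, y₁ i * y₃ i = 1 := by
    rw [← h31]
    exact Finset.sum_congr rfl fun i _ => mul_comm _ _
  have e2 : ∑ i, y₂ i * y₃ i = 1 := by
    rw [← h32]
    exact Finset.sum_congr rfl fun i _ => mul_comm _ _
  rw [sum_two' y₁ y₃ hjv h0] at e1
  rw [sum_two' y₂ y₃ hjv' h0'] at e2
  rw [← sum_two' y₁ X hjv h0 |>.symm] at o₁
  rw [← sum_two' y₂ X hjv' h0' |>.symm] at o₂
  by_contra hne
  have hj3 := entry_of_norm_le y₃ h₃ (by norm_num) j'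
  have hv3 := entry_of_norm_le y₃ h₃ (by norm_num) v
  have hv'3 := entry_of_norm_le y₃ h₃ (by norm_num) v'
  have hc1 := aux4 _ _ _ _ hj1 hv hj3 hv3 e1
  have hc2 := aux4 _ _ _ _ (hj2 ▸ hj1) hv' hj3 hv'3 e2
  have hv1 : y₃ v = y₁ v ∧ y₃ j' = 0 := by
    rcases hc1 with h | h
    · exact absurd h.1 hne
    · exact h
  have hv2 : y₃ v' = y₂ v' ∧ y₃ j' = 0 := by
    rcases hc2 with h | h
    · exfalso
      rw [hj2] at h
      exact hne h.1
    · exact h
  -- the support of `y₃` is `{v, v'}`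
  obtain ⟨p, q, hpq, hp, hq, h03⟩ := entries_two y₃ h₃
  have hvne : y₃ v ≠ 0 := by
    rw [hv1.1]
    rcases hv with h | h <;> rw [h] <;> norm_num
  have hv'ne : y₃ v' ≠ 0 := by
    rw [hv2.1]
    rcases hv' with h | h <;> rw [h] <;> norm_num
  have hvm : v = p ∨ v = q := by
    by_contra hn
    push Not at hn
    exact hvne (h03 v hn.1 hn.2)
  have hv'm : v' = p ∨ v' = q := by
    by_contra hn
    push Not at hn
    exact hv'ne (h03 v' hn.1 hn.2)
  have h0v : ∀ i, i ≠ v → i ≠ v' → y₃ i = 0 := by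
    intro i h1 h2
    apply h03
    · rcases hvm with rfl | rfl
      · exact h1
      · rcases hv'm with rfl | rfl
        · exact h2
        · exact absurd rfl hvv'
    · rcases hvm with rfl | rfl
      · rcases hv'm with rfl | rfl
        · exact absurd rfl hvv'
        · exact h2
      · exact h1
  rw [sum_two' y₃ X hvv' h0v, hv1.1, hv2.1] at o₃
  rw [hj2] at o₂
  rcases hj1 with a | a <;> rcases hv with b | b <;> rcases hv' with c | c <;>
    simp only [a, b, c] at o₁ o₂ o₃ <;> omega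

end Combi

end Cfsg.Agent.Lib.BSW
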