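import Mathlib
import Cfsg.Agent.Lib.BSWCombi

/-!
# The combinatorial core of exceptional characters for the abstract Brauer--Suzuki--Wall theorem
-/

set_option autoImplicit false
set_option linter.unusedSectionVars false

namespace Cfsg.Agent.Lib.BSW

universe u v

/-- The numerical data extracted from the characters. -/
structure Core (Λ : Type u) (ι : Type v) [Fintype Λ] [Fintype ι] [DecidableEq Λ] [DecidableEq ι] where
  triv : Λ
  bar : Λ → Λ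
  i₁ : ι
  a : Λ → ι → ℤ
  X : ι → ℤ
  n : ι → ℤ
  s : Λ → ℤ
  k : ℕ
  m : ℕ
  V : ℚ
  hinner : ∀ l l', l ≠ triv → l' ≠ triv →
    ∑ i, a l i * a l' i = 2 + (if l = l' then 1 else 0) + (if l = bar l' then 1 else 0)
  hai1 : ∀ l, l ≠ triv → a l i₁ = 1
  hX1 : X i₁ = 1
  hn1 : n i₁ = 1
  hnpos : ∀ i, 0 < n i
  hs : ∀ l, s l = 1 ∨ s l = -1
  hstriv : s triv = 1
  hsbar : ∀ l, s (bar l) = s l
  hsumS : ∑ l, s l = 0
  hbarbar : ∀ l, bar (bar l) = l
  hbartriv : bar triv = triv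
  hreal : (Finset.univ.filter fun l => bar l = l).card = 2
  hcard : Fintype.card Λ = k
  hk : 2 ≤ k
  hE1 : ∀ l, l ≠ triv → ∑ i, a l i * X i = 2 - 2 * s l
  hE2 : ∀ l, l ≠ triv → ∑ i, a l i * n i = 0
  hE4 : ∀ l, l ≠ triv → ∑ i, (a l i : ℚ) * ((X i : ℚ) ^ 2 / (n i : ℚ)) = V
  hrow : ∀ i, X i = - ∑ l ∈ Finset.univ.erase triv, a l i * s l
  hV : V = 2 * (k : ℚ) ^ 2 / (m : ℚ)
  hm : 0 < m
  hdiv : ∀ j, n j ∣ (m : ℤ) * X j
  hcong2 : k = 2 → ∀ j δ, (δ = 1 ∨ δ = -1) → δ * X j = 1 → (δ * n j) % 4 = 1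

variable {Λ : Type u} {ι : Type v} [Fintype Λ] [Fintype ι] [DecidableEq Λ] [DecidableEq ι]
  (C : Core Λ ι)

namespace Core

theorem bar_ne_triv {l : Λ} (hl : l ≠ C.triv) : C.bar l ≠ C.triv := by
  intro h
  apply hl
  rw [← C.hbarbar l, h, C.hbartriv]

/-- `a` with the trivial character removed. -/
def Y (l : Λ) (i : ι) : ℤ := C.a l i - (if i = C.i₁ then 1 else 0)

theorem sumY (l : Λ) (w : ι → ℤ) : ∑ i, C.Y l i * w i = ∑ i, C.a l i * w i - w C.i₁ := by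
  simp [Y, sub_mul, Finset.sum_sub_distrib, ite_mul]

theorem sumY_q (l : Λ) (w : ι → ℚ) :
    ∑ i, (C.Y l i : ℚ) * w i = ∑ i, (C.a l i : ℚ) * w i - w C.i₁ := by
  simp [Y, sub_mul, Finset.sum_sub_distrib, ite_mul]

theorem Y_i1 {l : Λ} (hl : l ≠ C.triv) : C.Y l C.i₁ = 0 := by
  simp [Y, C.hai1 l hl]

theorem Y_ne {l : Λ} {i : ι} (hi : i ≠ C.i₁) : C.Y l i = C.a l i := by
  simp [Y, hi]

theorem innerY {l l' : Λ} (hl : l ≠ C.triv) (hl' : l' ≠ C.triv) :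
    ∑ i, C.Y l i * C.Y l' i = ∑ i, C.a l i * C.a l' i - 1 := by
  rw [sumY, C.Y_i1 hl', sub_zero]
  simp only [Y, mul_sub, Finset.sum_sub_distrib]
  simp [C.hai1 l hl]

theorem normY_nonreal {l : Λ} (hl : l ≠ C.triv) (hr : C.bar l ≠ l) : ∑ i, C.Y l i ^ 2 = 2 := by
  have h1 := C.innerY hl hl
  rw [C.hinner l l hl hl, if_pos rfl, if_neg (fun h => hr h.symm)] at h1
  simp only [pow_two]
  omega

theorem normY_real {l : Λ} (hl : l ≠ C.triv) (hr : C.bar l = l) : ∑ i, C.Y l i ^ 2 = 3 := by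
  have h1 := C.innerY hl hl
  rw [C.hinner l l hl hl, if_pos rfl, if_pos hr.symm] at h1
  simp only [pow_two]
  omega

theorem orthY {l l' : Λ} (hl : l ≠ C.triv) (hl' : l' ≠ C.triv) (h1 : l ≠ l') (h2 : l ≠ C.bar l') :
    ∑ i, C.Y l i * C.Y l' i = 1 := by
  rw [C.innerY hl hl', C.hinner l l' hl hl', if_neg h1, if_neg h2]
  norm_num

/-- Conjugate characters have the same multiplicity vector. -/
theorem a_bar {l : Λ} (hl : l ≠ C.triv) : C.a (C.bar l) = C.a l := by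
  by_cases hr : C.bar l = l
  · rw [hr]
  have hb := C.bar_ne_triv hl
  have h1 := C.hinner l l hl hl
  have h2 := C.hinner l (C.bar l) hl hb
  have h3 := C.hinner (C.bar l) (C.bar l) hb hb
  rw [if_pos rfl, if_neg (fun h => hr h.symm)] at h1
  rw [if_neg (fun h => hr h.symm), C.hbarbar, if_pos rfl] at h2
  rw [if_pos rfl, C.hbarbar, if_neg hr] at h3
  have h4 : ∑ i, (C.a l i - C.a (C.bar l) i) ^ 2 = 0 := by
    have : ∀ i, (C.a l i - C.a (C.bar l) i) ^ 2 =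
        C.a l i * C.a l i - 2 * (C.a l i * C.a (C.bar l) i) + C.a (C.bar l) i * C.a (C.bar l) i := by
      intro i; ring
    simp only [this, Finset.sum_add_distrib, Finset.sum_sub_distrib, ← Finset.mul_sum]
    rw [h1, h2, h3]
    norm_num
  funext i
  have h5 := (Finset.sum_eq_zero_iff_of_nonneg (fun i _ => sq_nonneg (C.a l i - C.a (C.bar l) i))).mp
    h4 i (Finset.mem_univ i)
  have h6 : C.a l i - C.a (C.bar l) i = 0 := pow_eq_zero_iff (by norm_num) |>.mp h5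
  omega

theorem Y_bar {l : Λ} (hl : l ≠ C.triv) : C.Y (C.bar l) = C.Y l := by
  funext i
  simp [Y, C.a_bar hl]

/-- The unique nontrivial real `l₀`. -/
theorem exists_real : ∃ l₀, l₀ ≠ C.triv ∧ C.bar l₀ = l₀ ∧ ∀ l, l ≠ C.triv → C.bar l = l → l = l₀ := by
  obtain ⟨x, y, hxy, he⟩ := Finset.card_eq_two.mp C.hreal
  have htr : C.triv ∈ ({x, y} : Finset Λ) := by
    rw [← he]
    simp [C.hbartriv]
  have hm : ∀ l, C.bar l = l ↔ l = x ∨ l = y := by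
    intro l
    have : l ∈ (Finset.univ.filter fun l => C.bar l = l) ↔ l ∈ ({x, y} : Finset Λ) := by rw [he]
    simpa using this
  simp only [Finset.mem_insert, Finset.mem_singleton] at htr
  rcases htr with h | h
  · refine ⟨y, ?_, (hm y).mpr (Or.inr rfl), ?_⟩
    · rw [h]; exact hxy.symm
    · intro l hl hb
      rcases (hm l).mp hb with h1 | h1
      · exact absurd (h1.trans h.symm) hl
      · exact h1
  · refine ⟨x, ?_, (hm x).mpr (Or.inl rfl), ?_⟩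
    · rw [h]; exact hxy
    · intro l hl hb
      rcases (hm l).mp hb with h1 | h1
      · exact h1
      · exact absurd (h1.trans h.symm) hl

/-- Counting the two values of `s`. -/
theorem card_s : 2 * (Finset.univ.filter fun l => C.s l = 1).card = C.k ∧
    2 * (Finset.univ.filter fun l => C.s l = -1).card = C.k := by
  have h1 : ∀ l, C.s l = (if C.s l = 1 then 1 else 0) - (if C.s l = -1 then 1 else 0) := by
    intro l
    rcases C.hs l with h | h <;> simp [h]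
  have h2 : ∀ l, (1 : ℤ) = (if C.s l = 1 then 1 else 0) + (if C.s l = -1 then 1 else 0) := by
    intro l
    rcases C.hs l with h | h <;> simp [h]
  have h3 : ∑ l, C.s l = ((Finset.univ.filter fun l => C.s l = 1).card : ℤ) -
      ((Finset.univ.filter fun l => C.s l = -1).card : ℤ) := by
    conv_lhs => rw [Finset.sum_congr rfl (fun l _ => h1 l)]
    rw [Finset.sum_sub_distrib, Finset.sum_boole, Finset.sum_boole]
  have h4 : (Fintype.card Λ : ℤ) = ((Finset.univ.filter fun l => C.s l = 1).card : ℤ) +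
      ((Finset.univ.filter fun l => C.s l = -1).card : ℤ) := by
    have : (Fintype.card Λ : ℤ) = ∑ l : Λ, (1 : ℤ) := by simp
    rw [this, Finset.sum_congr rfl (fun l _ => h2 l), Finset.sum_add_distrib, Finset.sum_boole,
      Finset.sum_boole]
  rw [C.hsumS] at h3
  rw [C.hcard] at h4
  constructor <;> omega

theorem other_entry (y : ι → ℤ) (h : ∑ i, y i ^ 2 = 2) {j : ι} (hj : y j = 1 ∨ y j = -1) :
    ∃ v, v ≠ j ∧ (y v = 1 ∨ y v = -1) ∧ ∀ i, i ≠ j → i ≠ v → y i = 0 := by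
  obtain ⟨p, q, hpq, hp, hq, h0⟩ := entries_two y h
  by_cases hjp : j = p
  · subst hjp
    exact ⟨q, hpq.symm, hq, h0⟩
  · have hjq : j = q := by
      by_contra hn
      have := h0 j hjp hn
      rcases hj with h1 | h1 <;> omega
    subst hjq
    exact ⟨p, hpq, hp, fun i h1 h2 => h0 i h2 h1⟩

/-- The weights `X²/n`. -/
def w (i : ι) : ℚ := (C.X i : ℚ) ^ 2 / (C.n i : ℚ)

theorem n_ne (i : ι) : (C.n i : ℚ) ≠ 0 := by
  have := C.hnpos i
  exact_mod_cast this.ne'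

theorem w_i1 : C.w C.i₁ = 1 := by
  simp [w, C.hX1, C.hn1]

theorem sumY_X {l : Λ} (hl : l ≠ C.triv) : ∑ i, C.Y l i * C.X i = 1 - 2 * C.s l := by
  rw [sumY, C.hE1 l hl, C.hX1]
  ring

theorem sumY_n {l : Λ} (hl : l ≠ C.triv) : ∑ i, C.Y l i * C.n i = -1 := by
  rw [sumY, C.hE2 l hl, C.hn1]
  ring

theorem sumY_w {l : Λ} (hl : l ≠ C.triv) : ∑ i, (C.Y l i : ℚ) * C.w i = C.V - 1 := by
  rw [sumY_q, C.w_i1]
  congr 1
  exact C.hE4 l hl

theorem odd_Y {l : Λ} (hl : l ≠ C.triv) : (∑ i, C.Y l i * C.X i) % 2 = 1 := by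
  rw [C.sumY_X hl]
  rcases C.hs l with h | h <;> rw [h] <;> norm_num

theorem eps_div {ε : ℤ} (hε : ε = 1 ∨ ε = -1) {x y : ℤ} (hy : (y : ℚ) ≠ 0) :
    (ε : ℚ) * ((x : ℚ) ^ 2 / (y : ℚ)) = (((ε * x : ℤ) : ℚ)) ^ 2 / ((ε * y : ℤ) : ℚ) := by
  rcases hε with rfl | rfl
  · simp
  · push_cast
    field_simp

/-- The shape of a non-real column containing `j₀`. -/
theorem V_partial {l : Λ} (hl : l ≠ C.triv) (hr : C.bar l ≠ l) {j₀ : ι} {ε : ℤ}
    (hε : ε = 1 ∨ ε = -1) (hj : C.Y l j₀ = ε) :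
    ∃ v σ, v ≠ j₀ ∧ (σ = 1 ∨ σ = -1) ∧ C.Y l v = σ ∧ (∀ i, i ≠ j₀ → i ≠ v → C.Y l i = 0) ∧
      σ * C.n v = -1 - ε * C.n j₀ ∧ σ * C.X v = 1 - 2 * C.s l - ε * C.X j₀ ∧
      C.V = 1 + (((ε * C.X j₀ : ℤ) : ℚ)) ^ 2 / ((ε * C.n j₀ : ℤ) : ℚ) +
        ((1 - 2 * C.s l - ε * C.X j₀ : ℤ) : ℚ) ^ 2 / ((-1 - ε * C.n j₀ : ℤ) : ℚ) := by
  have hn2 := C.normY_nonreal hl hr
  have hj' : C.Y l j₀ = 1 ∨ C.Y l j₀ = -1 := by rw [hj]; exact hε
  obtain ⟨v, hv, hvv, h0⟩ := other_entry _ hn2 hj'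
  have e1 := C.sumY_n hl
  have e2 := C.sumY_X hl
  have e3 := C.sumY_w hl
  rw [sum_two' (C.Y l) _ hv.symm h0, hj] at e1 e2
  rw [sum_two (R := ℚ) (C.Y l) hv.symm h0, hj] at e3
  refine ⟨v, C.Y l v, hv, hvv, rfl, h0, by linarith, by linarith, ?_⟩
  have h1 : C.V = 1 + (ε : ℚ) * C.w j₀ + (C.Y l v : ℚ) * C.w v := by linarith
  rw [h1, w, w, eps_div hε (C.n_ne j₀), eps_div hvv (C.n_ne v)]
  have h2 : C.Y l v * C.X v = 1 - 2 * C.s l - ε * C.X j₀ := by linarith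
  have h3 : C.Y l v * C.n v = -1 - ε * C.n j₀ := by linarith
  rw [h2, h3]

end Core

/-- A center: a signed irreducible occurring in all `(1 - λ)^G`. -/
structure IsCenter (j₀ : ι) (ε : ℤ) : Prop where
  hε : ε = 1 ∨ ε = -1
  hj : j₀ ≠ C.i₁
  ha : ∀ l, l ≠ C.triv → C.a l j₀ = ε

namespace IsCenter

variable {C} {j₀ : ι} {ε : ℤ} (hc : IsCenter C j₀ ε)

include hc

theorem eps_sq : ε * ε = 1 := by
  rcases hc.hε with rfl | rfl <;> norm_num

theorem X_center : C.X j₀ = ε := by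
  have h1 := C.hrow j₀
  have h2 : ∑ l ∈ Finset.univ.erase C.triv, C.a l j₀ * C.s l = ε * ∑ l ∈ Finset.univ.erase C.triv, C.s l := by
    rw [Finset.mul_sum]
    refine Finset.sum_congr rfl fun l hl => ?_
    rw [hc.ha l (Finset.mem_erase.mp hl).1]
  have h3 : ∑ l ∈ Finset.univ.erase C.triv, C.s l = -1 := by
    have := Finset.add_sum_erase Finset.univ C.s (Finset.mem_univ C.triv)
    rw [C.hsumS, C.hstriv] at this
    linarith
  rw [h2, h3] at h1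
  linarith

/-- The reduced column. -/
def R (_hc : IsCenter C j₀ ε) (l : Λ) (i : ι) : ℤ :=
  C.a l i - (if i = C.i₁ then 1 else 0) - (if i = j₀ then ε else 0)

theorem sumR (l : Λ) (w : ι → ℤ) :
    ∑ i, hc.R l i * w i = ∑ i, C.a l i * w i - w C.i₁ - ε * w j₀ := by
  simp [R, sub_mul, Finset.sum_sub_distrib, ite_mul]

theorem sumR_q (l : Λ) (w : ι → ℚ) :
    ∑ i, (hc.R l i : ℚ) * w i = ∑ i, (C.a l i : ℚ) * w i - w C.i₁ - (ε : ℚ) * w j₀ := by
  simp [R, sub_mul, Finset.sum_sub_distrib, ite_mul]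

theorem R_i1 {l : Λ} (hl : l ≠ C.triv) : hc.R l C.i₁ = 0 := by
  simp [R, C.hai1 l hl, hc.hj.symm]

theorem R_j0 {l : Λ} (hl : l ≠ C.triv) : hc.R l j₀ = 0 := by
  simp [R, hc.ha l hl, hc.hj]

theorem R_ne {l : Λ} {i : ι} (h1 : i ≠ C.i₁) (h2 : i ≠ j₀) : hc.R l i = C.a l i := by
  simp [R, h1, h2]

theorem innerR {l l' : Λ} (hl : l ≠ C.triv) (hl' : l' ≠ C.triv) :
    ∑ i, hc.R l i * hc.R l' i = ∑ i, C.a l i * C.a l' i - 2 := by
  rw [sumR, hc.R_i1 hl', hc.R_j0 hl', mul_zero, sub_zero, sub_zero]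
  simp only [R, mul_sub, Finset.sum_sub_distrib, mul_ite, mul_one, mul_zero]
  simp [C.hai1 l hl, hc.ha l hl]
  have := hc.eps_sq
  linarith

theorem normR_nonreal {l : Λ} (hl : l ≠ C.triv) (hr : C.bar l ≠ l) : ∑ i, hc.R l i ^ 2 = 1 := by
  have h1 := hc.innerR hl hl
  rw [C.hinner l l hl hl, if_pos rfl, if_neg (fun h => hr h.symm)] at h1
  simp only [pow_two]
  omega

theorem normR_real {l : Λ} (hl : l ≠ C.triv) (hr : C.bar l = l) : ∑ i, hc.R l i ^ 2 = 2 := by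
  have h1 := hc.innerR hl hl
  rw [C.hinner l l hl hl, if_pos rfl, if_pos hr.symm] at h1
  simp only [pow_two]
  omega

theorem orthR {l l' : Λ} (hl : l ≠ C.triv) (hl' : l' ≠ C.triv) (h1 : l ≠ l') (h2 : l ≠ C.bar l') :
    ∑ i, hc.R l i * hc.R l' i = 0 := by
  rw [hc.innerR hl hl', C.hinner l l' hl hl', if_neg h1, if_neg h2]
  norm_num

theorem sumR_X {l : Λ} (hl : l ≠ C.triv) : ∑ i, hc.R l i * C.X i = - 2 * C.s l := by
  rw [sumR, C.hE1 l hl, C.hX1, hc.X_center, hc.eps_sq]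
  ring

theorem sumR_n {l : Λ} (hl : l ≠ C.triv) : ∑ i, hc.R l i * C.n i = -1 - ε * C.n j₀ := by
  rw [sumR, C.hE2 l hl, C.hn1]
  ring

theorem sumR_w {l : Λ} (hl : l ≠ C.triv) :
    ∑ i, (hc.R l i : ℚ) * C.w i = C.V - 1 - 1 / ((ε * C.n j₀ : ℤ) : ℚ) := by
  rw [sumR_q, C.w_i1]
  have h1 : ∑ i, (C.a l i : ℚ) * C.w i = C.V := C.hE4 l hl
  rw [h1]
  have h2 : (ε : ℚ) * C.w j₀ = 1 / ((ε * C.n j₀ : ℤ) : ℚ) := by
    rw [Core.w, Core.eps_div hc.hε (C.n_ne j₀), hc.X_center, hc.eps_sq]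
    simp
  rw [h2]

/-- The entry of a non-real reduced column. -/
theorem nonreal_entry {l : Λ} (hl : l ≠ C.triv) (hr : C.bar l ≠ l) :
    ∃ v σ, (σ = 1 ∨ σ = -1) ∧ hc.R l v = σ ∧ (∀ i, i ≠ v → hc.R l i = 0) ∧
      σ * C.n v = -1 - ε * C.n j₀ ∧ σ * C.X v = -2 * C.s l := by
  obtain ⟨v, hv, h0⟩ := entries_one _ (hc.normR_nonreal hl hr)
  refine ⟨v, _, hv, rfl, h0, ?_, ?_⟩
  · have := hc.sumR_n hl
    rwa [sum_one' _ _ h0] at this
  · have := hc.sumR_X hl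
    rwa [sum_one' _ _ h0] at this

/-- The formula for `V` from a non-real column. -/
theorem V_formula {l : Λ} (hl : l ≠ C.triv) (hr : C.bar l ≠ l) :
    C.V = 1 + 1 / ((ε * C.n j₀ : ℤ) : ℚ) + 4 / ((-1 - ε * C.n j₀ : ℤ) : ℚ) := by
  obtain ⟨v, σ, hσ, h1, h0, h2, h3⟩ := hc.nonreal_entry hl hr
  have h4 := hc.sumR_w hl
  rw [sum_one (R := ℚ) _ h0, h1, Core.w, Core.eps_div hσ (C.n_ne v), h3, h2] at h4
  have h5 : (((-2 * C.s l : ℤ)) : ℚ) ^ 2 = 4 := by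
    rcases C.hs l with h | h <;> rw [h] <;> norm_num
  rw [h5] at h4
  linarith

theorem R_zero_of_real_support {l l₀ : Λ} (hl : l ≠ C.triv) (hr : C.bar l ≠ l) (hl₀ : l₀ ≠ C.triv)
    (hb : C.bar l₀ = l₀) {j : ι} (hj : hc.R l₀ j ≠ 0) : hc.R l j = 0 := by
  obtain ⟨v, σ, hσ, h1, h0, -, -⟩ := hc.nonreal_entry hl hr
  have hne : l₀ ≠ l := by
    rintro rfl
    exact hr hb
  have hne2 : l₀ ≠ C.bar l := by
    intro h
    apply hr
    have h3 : C.bar l₀ = l := by rw [h, C.hbarbar]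
    rw [hb] at h3
    rw [← h3, hb]
  have h2 := hc.orthR hl₀ hl hne hne2
  have h3 : ∑ i, hc.R l i * hc.R l₀ i = 0 := by
    rw [← h2]
    exact Finset.sum_congr rfl fun i _ => mul_comm _ _
  rw [sum_one' _ _ h0, h1] at h3
  have h4 : hc.R l₀ v = 0 := by
    rcases hσ with rfl | rfl <;> omega
  apply h0
  rintro rfl
  exact hj h4

/-- The value of `X` on the support of the real reduced column. -/
theorem X_real_support {l₀ : Λ} (hl₀ : l₀ ≠ C.triv) (hb : C.bar l₀ = l₀)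
    (hu : ∀ l, l ≠ C.triv → C.bar l = l → l = l₀) {j : ι} (hj : hc.R l₀ j ≠ 0) :
    C.X j = - (hc.R l₀ j * C.s l₀) := by
  have hj1 : j ≠ C.i₁ := by
    rintro rfl
    exact hj (hc.R_i1 hl₀)
  have hj2 : j ≠ j₀ := by
    rintro rfl
    exact hj (hc.R_j0 hl₀)
  rw [C.hrow j, Finset.sum_eq_single l₀]
  · rw [hc.R_ne hj1 hj2]
  · intro l hl hne
    have hlt := (Finset.mem_erase.mp hl).1
    have hr : C.bar l ≠ l := fun h => hne (hu l hlt h)
    have := hc.R_zero_of_real_support hlt hr hl₀ hb hj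
    rw [hc.R_ne hj1 hj2] at this
    rw [this, zero_mul]
  · intro h
    exact absurd (Finset.mem_erase.mpr ⟨hl₀, Finset.mem_univ _⟩) h

/-- The two entries of the real column have equal signed degree, if a non-real column exists. -/
theorem AB_of_nonreal {l₁ l₀ : Λ} (hl₁ : l₁ ≠ C.triv) (hr₁ : C.bar l₁ ≠ l₁) (hl₀ : l₀ ≠ C.triv)
    (hb : C.bar l₀ = l₀) (hu : ∀ l, l ≠ C.triv → C.bar l = l → l = l₀) :
    ∀ j, hc.R l₀ j ≠ 0 → 2 * hc.R l₀ j * C.n j = -1 - ε * C.n j₀ := by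
  obtain ⟨p, q, hpq, hp, hq, h0⟩ := entries_two _ (hc.normR_real hl₀ hb)
  have hs₀ : (((C.s l₀ : ℤ) : ℚ)) ^ 2 = 1 := by
    rcases C.hs l₀ with h | h <;> rw [h] <;> norm_num
  have hpne : hc.R l₀ p ≠ 0 := by rcases hp with h | h <;> rw [h] <;> norm_num
  have hqne : hc.R l₀ q ≠ 0 := by rcases hq with h | h <;> rw [h] <;> norm_num
  have hXp := hc.X_real_support hl₀ hb hu hpne
  have hXq := hc.X_real_support hl₀ hb hu hqne
  have e1 := hc.sumR_n hl₀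
  rw [sum_two' _ _ hpq h0] at e1
  have e2 := hc.sumR_w hl₀
  rw [sum_two (R := ℚ) _ hpq h0, Core.w, Core.w, Core.eps_div hp (C.n_ne p),
    Core.eps_div hq (C.n_ne q)] at e2
  have hvf := hc.V_formula hl₁ hr₁
  obtain ⟨v, σ, hσ, -, -, hv, -⟩ := hc.nonreal_entry hl₁ hr₁
  have hne : (((-1 - ε * C.n j₀ : ℤ)) : ℚ) ≠ 0 := by
    rw [← hv]
    have : σ * C.n v ≠ 0 := by
      apply mul_ne_zero
      · rcases hσ with rfl | rfl <;> norm_num
      · exact (C.hnpos v).ne'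
    exact_mod_cast this
  set A := hc.R l₀ p * C.n p with hA
  set B := hc.R l₀ q * C.n q with hB
  have hX1 : ((hc.R l₀ p * C.X p : ℤ) : ℚ) ^ 2 = 1 := by
    rw [hXp]
    rcases hp with h | h <;> rcases C.hs l₀ with h' | h' <;> rw [h, h'] <;> norm_num
  have hX2 : ((hc.R l₀ q * C.X q : ℤ) : ℚ) ^ 2 = 1 := by
    rw [hXq]
    rcases hq with h | h <;> rcases C.hs l₀ with h' | h' <;> rw [h, h'] <;> norm_num
  rw [hX1, hX2] at e2
  have hA0 : (A : ℚ) ≠ 0 := by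
    have : A ≠ 0 := mul_ne_zero hpne (C.hnpos p).ne'
    exact_mod_cast this
  have hB0 : (B : ℚ) ≠ 0 := by
    have : B ≠ 0 := mul_ne_zero hqne (C.hnpos q).ne'
    exact_mod_cast this
  have hsum : ((-1 - ε * C.n j₀ : ℤ) : ℚ) = (A : ℚ) + (B : ℚ) := by
    rw [← e1]
    push_cast
    ring
  have h5 : 1 / (A : ℚ) + 1 / (B : ℚ) = 4 / ((A : ℚ) + (B : ℚ)) := by
    rw [← hsum]
    rw [hvf] at e2
    linarith
  have hAB0 : (A : ℚ) + (B : ℚ) ≠ 0 := by rw [← hsum]; exact hne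
  have h6 : ((A : ℚ) - B) ^ 2 = 0 := by
    field_simp at h5
    nlinarith
  have h7 : (A : ℚ) = B := by
    have := pow_eq_zero_iff (n := 2) (by norm_num) |>.mp h6
    linarith
  have h8 : A = B := by exact_mod_cast h7
  intro j hj
  by_cases hjp : j = p
  · subst hjp
    have h9 : 2 * hc.R l₀ j * C.n j = 2 * A := by rw [hA]; ring
    rw [h9]
    omega
  · have hjq : j = q := by
      by_contra hn
      exact hj (h0 j hjp hn)
    subst hjq
    have h9 : 2 * hc.R l₀ j * C.n j = 2 * B := by rw [hB]; ring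
    rw [h9]
    omega

/-- The weight identity. -/
theorem weights {l₀ : Λ} (hl₀ : l₀ ≠ C.triv) (hb : C.bar l₀ = l₀)
    (hu : ∀ l, l ≠ C.triv → C.bar l = l → l = l₀)
    (hAB : ∀ j, hc.R l₀ j ≠ 0 → 2 * hc.R l₀ j * C.n j = -1 - ε * C.n j₀)
    {j : ι} (hj1 : j ≠ C.i₁) (hj2 : j ≠ j₀) :
    C.X j ^ 2 * (-1 - ε * C.n j₀) = 2 * (∑ l ∈ Finset.univ.erase C.triv, C.a l j) * C.n j := by
  by_cases h : ∃ l, l ≠ C.triv ∧ C.bar l ≠ l ∧ C.a l j ≠ 0
  · obtain ⟨l, hl, hr, hne⟩ := h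
    obtain ⟨v, σ, hσ, h1, h0, h2, h3⟩ := hc.nonreal_entry hl hr
    have hjv : j = v := by
      by_contra hn
      apply hne
      rw [← hc.R_ne hj1 hj2]
      exact h0 j hn
    subst hjv
    have hal : C.a l j = σ := by rw [← hc.R_ne hj1 hj2]; exact h1
    have habl : C.a (C.bar l) j = σ := by rw [C.a_bar hl]; exact hal
    have hlb : l ≠ C.bar l := fun h => hr h.symm
    have hother : ∀ m, m ≠ C.triv → m ≠ l → m ≠ C.bar l → C.a m j = 0 := by
      intro m hm h4 h5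
      have h6 := hc.orthR hl hm (Ne.symm h4) (by
        intro h7
        apply h5
        rw [h7, C.hbarbar])
      rw [sum_one' _ _ h0, h1] at h6
      rw [← hc.R_ne hj1 hj2]
      rcases hσ with rfl | rfl <;> omega
    have hmem1 : l ∈ Finset.univ.erase C.triv := Finset.mem_erase.mpr ⟨hl, Finset.mem_univ _⟩
    have hmem2 : C.bar l ∈ Finset.univ.erase C.triv :=
      Finset.mem_erase.mpr ⟨C.bar_ne_triv hl, Finset.mem_univ _⟩
    have hs1 : ∑ m ∈ Finset.univ.erase C.triv, C.a m j = σ + σ := by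
      rw [Finset.sum_eq_add l (C.bar l) hlb, hal, habl]
      · intro c hc' hc2
        exact hother c (Finset.mem_erase.mp hc').1 hc2.1 hc2.2
      · intro h; exact absurd hmem1 h
      · intro h; exact absurd hmem2 h
    have hs2 : ∑ m ∈ Finset.univ.erase C.triv, C.a m j * C.s m = σ * C.s l + σ * C.s l := by
      rw [Finset.sum_eq_add l (C.bar l) hlb, hal, habl, C.hsbar]
      · intro c hc' hc2
        rw [hother c (Finset.mem_erase.mp hc').1 hc2.1 hc2.2, zero_mul]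
      · intro h; exact absurd hmem1 h
      · intro h; exact absurd hmem2 h
    have hX := C.hrow j
    rw [hs2] at hX
    rw [hs1, hX, ← h2]
    rcases hσ with rfl | rfl <;> rcases C.hs l with h | h <;> rw [h] <;> ring
  · push Not at h
    have hz : ∀ m, m ≠ C.triv → m ≠ l₀ → C.a m j = 0 := by
      intro m hm hm2
      exact h m hm (fun h3 => hm2 (hu m hm h3))
    have hmem : l₀ ∈ Finset.univ.erase C.triv := Finset.mem_erase.mpr ⟨hl₀, Finset.mem_univ _⟩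
    have hs1 : ∑ m ∈ Finset.univ.erase C.triv, C.a m j = C.a l₀ j := by
      rw [Finset.sum_eq_single l₀]
      · intro c hc' hc2
        exact hz c (Finset.mem_erase.mp hc').1 hc2
      · intro h; exact absurd hmem h
    have hs2 : ∑ m ∈ Finset.univ.erase C.triv, C.a m j * C.s m = C.a l₀ j * C.s l₀ := by
      rw [Finset.sum_eq_single l₀]
      · intro c hc' hc2
        rw [hz c (Finset.mem_erase.mp hc').1 hc2, zero_mul]
      · intro h; exact absurd hmem h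
    have hX := C.hrow j
    rw [hs2] at hX
    rw [hs1, hX]
    by_cases h0 : C.a l₀ j = 0
    · rw [h0]; ring
    · have hR : hc.R l₀ j = C.a l₀ j := hc.R_ne hj1 hj2
      have h3 := hAB j (by rw [hR]; exact h0)
      rw [hR] at h3
      have h4 := entry_of_norm_le _ (hc.normR_real hl₀ hb) (by norm_num) j
      rw [hR] at h4
      rw [← h3]
      rcases h4 with h4 | h4 | h4
      · exact absurd h4 h0
      · rw [h4]; rcases C.hs l₀ with h' | h' <;> rw [h'] <;> ring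
      · rw [h4]; rcases C.hs l₀ with h' | h' <;> rw [h'] <;> ring

end IsCenter

namespace Core

/-- Center when there are non-real columns of both signs. -/
theorem center_big {lp lm l₀ : Λ} (hlp : lp ≠ C.triv) (hrp : C.bar lp ≠ lp) (hsp : C.s lp = 1)
    (hlm : lm ≠ C.triv) (hrm : C.bar lm ≠ lm) (hsm : C.s lm = -1)
    (hl₀ : l₀ ≠ C.triv) (hb : C.bar l₀ = l₀) (hu : ∀ l, l ≠ C.triv → C.bar l = l → l = l₀) :
    ∃ j₀ ε, IsCenter C j₀ ε := by
  have hne1 : lp ≠ lm := by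
    rintro rfl
    rw [hsp] at hsm
    norm_num at hsm
  have hne2 : lp ≠ C.bar lm := by
    intro h
    have := C.hsbar lm
    rw [← h, hsp, hsm] at this
    norm_num at this
  have hnp := C.normY_nonreal hlp hrp
  have hnm := C.normY_nonreal hlm hrm
  have hi := C.orthY hlp hlm hne1 hne2
  obtain ⟨j, v, v', hjv, hjv', hvv', hj1, hj2, hv, hv', h0, h0'⟩ := common_two _ _ hnp hnm hi
  have hji : j ≠ C.i₁ := by
    rintro rfl
    rw [C.Y_i1 hlp] at hj1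
    omega
  set ε := C.Y lp j with hε
  have hnon : ∀ l, l ≠ C.triv → C.bar l ≠ l → C.Y l j = ε := by
    intro l hl hr
    by_cases h1 : l = lp
    · rw [h1]
    by_cases h2 : l = C.bar lp
    · rw [h2, C.Y_bar hlp]
    by_cases h3 : l = lm
    · rw [h3]; exact hj2
    by_cases h4 : l = C.bar lm
    · rw [h4, C.Y_bar hlm]; exact hj2
    exact star_three (C.Y lp) (C.Y lm) (C.Y l) C.X hnp hnm (C.normY_nonreal hl hr) hi
      (C.orthY hl hlp h1 h2) (C.orthY hl hlm h3 h4) (C.odd_Y hlp) (C.odd_Y hlm) (C.odd_Y hl) hj1 hj2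
  -- `τ = 1`
  obtain ⟨v₁, σ₁, -, hσ₁, -, -, hn₁, -, hV₁⟩ := C.V_partial hlp hrp hj1 (rfl : C.Y lp j = C.Y lp j)
  obtain ⟨v₂, σ₂, -, -, -, -, -, -, hV₂⟩ := C.V_partial hlm hrm hj1 (hj2)
  have hne : (((-1 - ε * C.n j : ℤ)) : ℚ) ≠ 0 := by
    rw [← hn₁]
    have : σ₁ * C.n v₁ ≠ 0 := by
      apply mul_ne_zero
      · rcases hσ₁ with rfl | rfl <;> norm_num
      · exact (C.hnpos v₁).ne'
    exact_mod_cast this
  have hτ : ε * C.X j = 1 := by
    have h5 := hV₁.symm.trans hV₂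
    rw [hsp, hsm] at h5
    have h6 : (((1 - 2 * 1 - ε * C.X j : ℤ)) : ℚ) ^ 2 = (((1 - 2 * (-1) - ε * C.X j : ℤ)) : ℚ) ^ 2 := by
      have h7 := add_left_cancel h5
      exact (div_left_inj' hne).mp h7
    have h8 : (((ε * C.X j : ℤ)) : ℚ) = 1 := by
      push_cast at h6 ⊢
      nlinarith
    exact_mod_cast h8
  refine ⟨j, ε, hj1, hji, ?_⟩
  have hεs : ε * ε = 1 := by rcases hj1 with h | h <;> rw [h] <;> norm_num
  -- the real column
  have hX : C.X j = ε := by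
    have : C.X j = ε * (ε * C.X j) := by rw [← mul_assoc, hεs, one_mul]
    rw [this, hτ, mul_one]
  have ho : C.a l₀ j = ε := by
    have h1 := C.hrow j
    have h2 : ∑ l ∈ Finset.univ.erase C.triv, C.a l j * C.s l =
        ∑ l ∈ Finset.univ.erase C.triv, (ε * C.s l + (if l = l₀ then (C.a l₀ j - ε) * C.s l₀ else 0)) := by
      refine Finset.sum_congr rfl fun l hl => ?_
      have hlt := (Finset.mem_erase.mp hl).1
      by_cases hl0 : l = l₀
      · subst hl0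
        simp
        ring
      · have hr : C.bar l ≠ l := fun h => hl0 (hu l hlt h)
        rw [if_neg hl0, add_zero, ← C.Y_ne hji, hnon l hlt hr]
    have h3 : ∑ l ∈ Finset.univ.erase C.triv, C.s l = -1 := by
      have := Finset.add_sum_erase Finset.univ C.s (Finset.mem_univ C.triv)
      rw [C.hsumS, C.hstriv] at this
      linarith
    rw [h2, Finset.sum_add_distrib, ← Finset.mul_sum, h3, Finset.sum_ite_eq' ] at h1
    rw [if_pos (Finset.mem_erase.mpr ⟨hl₀, Finset.mem_univ _⟩), hX] at h1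
    have h4 : (C.a l₀ j - ε) * C.s l₀ = 0 := by linarith
    rcases mul_eq_zero.mp h4 with h5 | h5
    · omega
    · rcases C.hs l₀ with h6 | h6 <;> omega
  intro l hl
  by_cases hr : C.bar l = l
  · rw [hu l hl hr]; exact ho
  · rw [← C.Y_ne hji]; exact hnon l hl hr

/-- Center when `k = 4`. -/
theorem center_four {l₁ l₀ : Λ} (hl₁ : l₁ ≠ C.triv) (hr₁ : C.bar l₁ ≠ l₁)
    (hl₀ : l₀ ≠ C.triv) (hb : C.bar l₀ = l₀) (hne : l₁ ≠ l₀)
    (hall : ∀ l, l ≠ C.triv → l = l₀ ∨ l = l₁ ∨ l = C.bar l₁) :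
    ∃ j₀ ε, IsCenter C j₀ ε := by
  have hn1 := C.normY_nonreal hl₁ hr₁
  have hn0 := C.normY_real hl₀ hb
  have hne2 : l₁ ≠ C.bar l₀ := by rw [hb]; exact hne
  have hi := C.orthY hl₁ hl₀ hne hne2
  obtain ⟨p, q, hpq, hp, hq, h0⟩ := entries_two _ hn1
  rw [sum_two' _ _ hpq h0] at hi
  have hep := entry_of_norm_le _ hn0 (by norm_num) p
  have heq := entry_of_norm_le _ hn0 (by norm_num) q
  have key : ∀ j, (C.Y l₁ j = 1 ∨ C.Y l₁ j = -1) → C.Y l₀ j = C.Y l₁ j →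
      ∃ j₀ ε, IsCenter C j₀ ε := by
    intro j hj1 hj2
    have hji : j ≠ C.i₁ := by
      rintro rfl
      rw [C.Y_i1 hl₁] at hj1
      omega
    refine ⟨j, C.Y l₁ j, hj1, hji, ?_⟩
    intro l hl
    rcases hall l hl with rfl | rfl | rfl
    · rw [← C.Y_ne hji]; exact hj2
    · rw [← C.Y_ne hji]
    · rw [← C.Y_ne hji, C.Y_bar hl₁]
  rcases aux4 _ _ _ _ hp hq hep heq hi with h | h
  · exact key p hp h.1
  · exact key q hq h.1

/-- The candidate values for `k = 2`. -/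
def L2 : List ℤ := [-23, -19, -15, -11, -7, -3, 1, 5, 9, 13, 17, 21]

theorem check2 : ∀ m ∈ List.range 24, ∀ e₁ ∈ L2, ∀ e₂ ∈ L2,
    (-1 - e₁ - e₂) % 4 = 1 → e₁ ∣ (m : ℤ) → e₂ ∣ (m : ℤ) → (-1 - e₁ - e₂) ∣ (m : ℤ) → m ≠ 0 →
    8 * (e₁ * e₂ * (-1 - e₁ - e₂)) =
      (m : ℤ) * (e₁ * e₂ * (-1 - e₁ - e₂) + e₂ * (-1 - e₁ - e₂) + e₁ * (-1 - e₁ - e₂) + e₁ * e₂) →
    (e₁ = -3 ∧ e₂ = 1 ∧ (-1 - e₁ - e₂) = 1) ∨ (e₁ = 1 ∧ e₂ = -3 ∧ (-1 - e₁ - e₂) = 1) ∨
    (e₁ = 1 ∧ e₂ = 1 ∧ (-1 - e₁ - e₂) = -3) ∨ (e₁ = 5 ∧ e₂ = -3 ∧ (-1 - e₁ - e₂) = -3) ∨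
    (e₁ = -3 ∧ e₂ = 5 ∧ (-1 - e₁ - e₂) = -3) ∨ (e₁ = -3 ∧ e₂ = -3 ∧ (-1 - e₁ - e₂) = 5) := by
  decide +kernel

theorem one_div_ge (e : ℤ) (h : e % 4 = 1) : (-1 / 3 : ℚ) ≤ 1 / (e : ℚ) := by
  by_cases h0 : 0 < e
  · have : (0 : ℚ) < 1 / (e : ℚ) := by
      have : (0 : ℚ) < e := by exact_mod_cast h0
      positivity
    linarith
  · have h1 : e ≤ -3 := by omega
    have h2 : (e : ℚ) ≤ -3 := by exact_mod_cast h1
    rw [le_div_iff_of_neg (by linarith)]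
    linarith

theorem arith_two (e₁ e₂ e₃ : ℤ) (m : ℕ) (hm : 0 < m) (h1 : e₁ % 4 = 1) (h2 : e₂ % 4 = 1)
    (h3 : e₃ % 4 = 1) (hs : e₁ + e₂ + e₃ = -1) (d1 : e₁ ∣ (m : ℤ)) (d2 : e₂ ∣ (m : ℤ))
    (d3 : e₃ ∣ (m : ℤ))
    (hV : (8 : ℚ) / (m : ℚ) = 1 + 1 / (e₁ : ℚ) + 1 / (e₂ : ℚ) + 1 / (e₃ : ℚ)) :
    (e₁ = -3 ∧ e₂ = 1 ∧ e₃ = 1) ∨ (e₁ = 1 ∧ e₂ = -3 ∧ e₃ = 1) ∨
    (e₁ = 1 ∧ e₂ = 1 ∧ e₃ = -3) ∨ (e₁ = 5 ∧ e₂ = -3 ∧ e₃ = -3) ∨
    (e₁ = -3 ∧ e₂ = 5 ∧ e₃ = -3) ∨ (e₁ = -3 ∧ e₂ = -3 ∧ e₃ = 5) := by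
  have hmq : (0 : ℚ) < m := by exact_mod_cast hm
  have g1 := one_div_ge e₁ h1
  have g2 := one_div_ge e₂ h2
  have g3 := one_div_ge e₃ h3
  have pos : ∀ e : ℤ, 0 < e → (0 : ℚ) < 1 / (e : ℚ) := by
    intro e he
    have : (0 : ℚ) < e := by exact_mod_cast he
    positivity
  have hbig : (1 / 3 : ℚ) < 8 / (m : ℚ) := by
    rw [hV]
    have : 0 < e₁ ∨ 0 < e₂ ∨ 0 < e₃ := by
      by_contra hn
      push Not at hn
      omega
    rcases this with h | h | h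
    · have := pos e₁ h; linarith
    · have := pos e₂ h; linarith
    · have := pos e₃ h; linarith
  have hm24 : m < 24 := by
    rw [lt_div_iff₀ hmq] at hbig
    have : (m : ℚ) < 24 := by linarith
    exact_mod_cast this
  have bd : ∀ e : ℤ, e ∣ (m : ℤ) → e % 4 = 1 → e ∈ L2 := by
    intro e he h4
    have h5 : |e| ≤ (m : ℤ) := by
      have := Int.le_of_dvd (by exact_mod_cast hm) ((abs_dvd e _).mpr he)
      exact this
    have h6 := abs_le.mp h5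
    have h7 : -23 ≤ e ∧ e ≤ 23 := by omega
    simp only [L2, List.mem_cons, List.not_mem_nil, or_false]
    omega
  have he3 : e₃ = -1 - e₁ - e₂ := by omega
  subst he3
  have hne : ∀ e : ℤ, e % 4 = 1 → (e : ℚ) ≠ 0 := by
    intro e he h0
    have : e = 0 := by exact_mod_cast h0
    subst this
    norm_num at he
  have hz1 := hne _ h1
  have hz2 := hne _ h2
  have hz3 := hne _ h3
  have hq : (8 : ℚ) * ((e₁ : ℚ) * e₂ * ((-1 - e₁ - e₂ : ℤ) : ℚ)) =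
      (m : ℚ) * ((e₁ : ℚ) * e₂ * ((-1 - e₁ - e₂ : ℤ) : ℚ) + e₂ * ((-1 - e₁ - e₂ : ℤ) : ℚ) +
        e₁ * ((-1 - e₁ - e₂ : ℤ) : ℚ) + e₁ * e₂) := by
    have hmq' : (m : ℚ) ≠ 0 := hmq.ne'
    field_simp at hV
    linarith
  have hi : 8 * (e₁ * e₂ * (-1 - e₁ - e₂)) =
      (m : ℤ) * (e₁ * e₂ * (-1 - e₁ - e₂) + e₂ * (-1 - e₁ - e₂) + e₁ * (-1 - e₁ - e₂) + e₁ * e₂) := by
    exact_mod_cast hq
  exact check2 m (List.mem_range.mpr hm24) e₁ (bd _ d1 h1) e₂ (bd _ d2 h2) h3 d1 d2 d3 hm.ne' hi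

theorem sum_three {R : Type*} [CommRing R] (y : ι → ℤ) {p q r : ι} (hpq : p ≠ q) (hpr : p ≠ r)
    (hqr : q ≠ r) (h0 : ∀ i, i ≠ p → i ≠ q → i ≠ r → y i = 0) (w : ι → R) :
    ∑ i, (y i : R) * w i = (y p : R) * w p + (y q : R) * w q + (y r : R) * w r := by
  have h1 : ∑ i ∈ ({p, q, r} : Finset ι), (y i : R) * w i = ∑ i, (y i : R) * w i := by
    apply Finset.sum_subset (Finset.subset_univ _)
    intro x _ hx
    simp only [Finset.mem_insert, Finset.mem_singleton, not_or] at hx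
    rw [h0 x hx.1 hx.2.1 hx.2.2]
    simp
  rw [← h1, Finset.sum_insert, Finset.sum_insert, Finset.sum_singleton]
  · ring
  · simpa using hqr
  · simp [hpq, hpr]

theorem center_two (hk : C.k = 2) {l₀ : Λ} (hl₀ : l₀ ≠ C.triv) (hb : C.bar l₀ = l₀)
    (hall : ∀ l, l ≠ C.triv → l = l₀) :
    ∃ j₀ ε, ∃ hc : IsCenter C j₀ ε,
      (∀ j, hc.R l₀ j ≠ 0 → 2 * hc.R l₀ j * C.n j = -1 - ε * C.n j₀) ∧
      C.V = 1 + 1 / ((ε * C.n j₀ : ℤ) : ℚ) + 4 / ((-1 - ε * C.n j₀ : ℤ) : ℚ) ∧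
      (-1 - ε * C.n j₀ ≠ 0) := by
  have hs₀ : C.s l₀ = -1 := by
    have h1 : ∑ l, C.s l = C.s C.triv + C.s l₀ := by
      apply Finset.sum_eq_add C.triv l₀ hl₀.symm
      · intro c _ hc
        exact absurd (hall c hc.1) hc.2
      · intro h; exact absurd (Finset.mem_univ _) h
      · intro h; exact absurd (Finset.mem_univ _) h
    rw [C.hsumS, C.hstriv] at h1
    omega
  have hn3 := C.normY_real hl₀ hb
  set Y₀ := C.Y l₀ with hY₀
  obtain ⟨p, q, r, hpq, hpr, hqr, hp, hq, hr, h0⟩ := entries_three Y₀ hn3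
  have hi0 : Y₀ C.i₁ = 0 := C.Y_i1 hl₀
  have hmem : l₀ ∈ Finset.univ.erase C.triv := Finset.mem_erase.mpr ⟨hl₀, Finset.mem_univ _⟩
  have hXa : ∀ j, C.X j = C.a l₀ j := by
    intro j
    rw [C.hrow j, Finset.sum_eq_single l₀, hs₀]
    · ring
    · intro c hc hc2
      exact absurd (hall c (Finset.mem_erase.mp hc).1) hc2
    · intro h; exact absurd hmem h
  have hne_i : ∀ j, (Y₀ j = 1 ∨ Y₀ j = -1) → j ≠ C.i₁ := by
    rintro j hj rfl
    rw [hi0] at hj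
    omega
  have hXY : ∀ j, (Y₀ j = 1 ∨ Y₀ j = -1) → C.X j = Y₀ j := by
    intro j hj
    rw [hXa, hY₀, C.Y_ne (hne_i j hj)]
  have hsq : ∀ j, (Y₀ j = 1 ∨ Y₀ j = -1) → Y₀ j * C.X j = 1 := by
    intro j hj
    rw [hXY j hj]
    rcases hj with h | h <;> rw [h] <;> norm_num
  have hcong : ∀ j, (Y₀ j = 1 ∨ Y₀ j = -1) → (Y₀ j * C.n j) % 4 = 1 := by
    intro j hj
    exact C.hcong2 hk j _ hj (hsq j hj)
  have hdvd : ∀ j, (Y₀ j = 1 ∨ Y₀ j = -1) → (Y₀ j * C.n j) ∣ (C.m : ℤ) := by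
    intro j hj
    have h1 := C.hdiv j
    rw [hXY j hj] at h1
    rcases hj with h | h <;> rw [h] at h1 ⊢
    · simpa using h1
    · simpa using h1
  have hsumn : Y₀ p * C.n p + Y₀ q * C.n q + Y₀ r * C.n r = -1 := by
    have h1 := C.sumY_n hl₀
    have h2 := sum_three (R := ℤ) Y₀ hpq hpr hqr h0 C.n
    simp only [Int.cast_id] at h2
    rw [← h1, hY₀] at *
    exact h2.symm
  have hw : ∀ j, (Y₀ j = 1 ∨ Y₀ j = -1) → (Y₀ j : ℚ) * C.w j = 1 / ((Y₀ j * C.n j : ℤ) : ℚ) := by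
    intro j hj
    rw [w, eps_div hj (C.n_ne j), hsq j hj]
    simp
  have hsumw : C.V - 1 = 1 / ((Y₀ p * C.n p : ℤ) : ℚ) + 1 / ((Y₀ q * C.n q : ℤ) : ℚ) +
      1 / ((Y₀ r * C.n r : ℤ) : ℚ) := by
    rw [← C.sumY_w hl₀, ← hw p hp, ← hw q hq, ← hw r hr]
    exact sum_three (R := ℚ) Y₀ hpq hpr hqr h0 C.w
  have key : ∀ j₀ b c, j₀ ≠ b → j₀ ≠ c → b ≠ c → (Y₀ j₀ = 1 ∨ Y₀ j₀ = -1) → (Y₀ b = 1 ∨ Y₀ b = -1) →
      (Y₀ c = 1 ∨ Y₀ c = -1) → (∀ i, i ≠ j₀ → i ≠ b → i ≠ c → Y₀ i = 0) →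
      2 * (Y₀ b * C.n b) = -1 - Y₀ j₀ * C.n j₀ → 2 * (Y₀ c * C.n c) = -1 - Y₀ j₀ * C.n j₀ →
      (C.V - 1 = 1 / ((Y₀ j₀ * C.n j₀ : ℤ) : ℚ) + 1 / ((Y₀ b * C.n b : ℤ) : ℚ) +
        1 / ((Y₀ c * C.n c : ℤ) : ℚ)) →
      ∃ j₀ ε, ∃ hc : IsCenter C j₀ ε,
      (∀ j, hc.R l₀ j ≠ 0 → 2 * hc.R l₀ j * C.n j = -1 - ε * C.n j₀) ∧
      C.V = 1 + 1 / ((ε * C.n j₀ : ℤ) : ℚ) + 4 / ((-1 - ε * C.n j₀ : ℤ) : ℚ) ∧
      (-1 - ε * C.n j₀ ≠ 0) := by
    intro j₀ b c h1 h2 h3 hj hb' hc' h00 hvb hvc hv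
    have hji := hne_i j₀ hj
    have hc0 : IsCenter C j₀ (Y₀ j₀) := by
      refine ⟨hj, hji, ?_⟩
      intro l hl
      rw [hall l hl, hY₀, C.Y_ne hji]
    refine ⟨j₀, Y₀ j₀, hc0, ?_, ?_, ?_⟩
    · intro j hj'
      have hj1 : j ≠ C.i₁ := by
        rintro rfl
        exact hj' (hc0.R_i1 hl₀)
      have hj2 : j ≠ j₀ := by
        rintro rfl
        exact hj' (hc0.R_j0 hl₀)
      have hR : hc0.R l₀ j = Y₀ j := by
        rw [hc0.R_ne hj1 hj2, hY₀, C.Y_ne hj1]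
      rw [hR] at hj' ⊢
      by_cases hjb : j = b
      · subst hjb
        rw [← hvb]
        ring
      · have hjc : j = c := by
          by_contra hn
          exact hj' (h00 j hj2 hjb hn)
        subst hjc
        rw [← hvc]
        ring
    · have h4 : C.V = 1 + 1 / ((Y₀ j₀ * C.n j₀ : ℤ) : ℚ) + 1 / ((Y₀ b * C.n b : ℤ) : ℚ) +
        1 / ((Y₀ c * C.n c : ℤ) : ℚ) := by linarith
      have hbc : Y₀ b * C.n b = Y₀ c * C.n c := by omega
      rw [h4, ← hbc, ← hvb]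
      have hA : ((Y₀ b * C.n b : ℤ) : ℚ) ≠ 0 := by
        have : Y₀ b * C.n b ≠ 0 := by
          apply mul_ne_zero
          · rcases hb' with h | h <;> rw [h] <;> norm_num
          · exact (C.hnpos b).ne'
        exact_mod_cast this
      push_cast at hA ⊢
      field_simp
      ring
    · rw [← hvb]
      have : Y₀ b * C.n b ≠ 0 := by
        apply mul_ne_zero
        · rcases hb' with h | h <;> rw [h] <;> norm_num
        · exact (C.hnpos b).ne'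
      omega
  have hV8 : (8 : ℚ) / (C.m : ℚ) = 1 + 1 / ((Y₀ p * C.n p : ℤ) : ℚ) + 1 / ((Y₀ q * C.n q : ℤ) : ℚ) +
      1 / ((Y₀ r * C.n r : ℤ) : ℚ) := by
    have h1 := C.hV
    rw [hk] at h1
    norm_num at h1
    have h2 : C.V = 8 / (C.m : ℚ) := h1
    rw [← h2]
    linarith
  rcases arith_two _ _ _ C.m C.hm (hcong p hp) (hcong q hq) (hcong r hr) hsumn (hdvd p hp)
    (hdvd q hq) (hdvd r hr) hV8 with h | h | h | h | h | h
  · exact key p q r hpq hpr hqr hp hq hr h0 (by omega) (by omega) hsumw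
  · exact key q p r hpq.symm hqr hpr hq hp hr (fun i h1 h2 h3 => h0 i h2 h1 h3) (by omega) (by omega)
      (by rw [hsumw]; ring)
  · exact key r p q hpr.symm hqr.symm hpq hr hp hq (fun i h1 h2 h3 => h0 i h2 h3 h1) (by omega) (by omega)
      (by rw [hsumw]; ring)
  · exact key p q r hpq hpr hqr hp hq hr h0 (by omega) (by omega) hsumw
  · exact key q p r hpq.symm hqr hpr hq hp hr (fun i h1 h2 h3 => h0 i h2 h1 h3) (by omega) (by omega)
      (by rw [hsumw]; ring)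
  · exact key r p q hpr.symm hqr.symm hpq hr hp hq (fun i h1 h2 h3 => h0 i h2 h3 h1) (by omega) (by omega)
      (by rw [hsumw]; ring)

/-- The main output of the combinatorial core. -/
theorem exists_center :
    ∃ j₀ ε, ∃ _hc : IsCenter C j₀ ε,
      C.V = 1 + 1 / ((ε * C.n j₀ : ℤ) : ℚ) + 4 / ((-1 - ε * C.n j₀ : ℤ) : ℚ) ∧
      (-1 - ε * C.n j₀ ≠ 0) ∧
      ∀ j, j ≠ C.i₁ → j ≠ j₀ → C.X j ^ 2 * (-1 - ε * C.n j₀) =
        2 * (∑ l ∈ Finset.univ.erase C.triv, C.a l j) * C.n j := by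
  obtain ⟨l₀, hl₀, hb, hu⟩ := C.exists_real
  obtain ⟨hc1, hc2⟩ := C.card_s
  have hk := C.hk
  -- a non-real column exists when `k ≥ 4`
  have big : ∀ {l₁ : Λ} {j₀ : ι} {ε : ℤ} (hc : IsCenter C j₀ ε), l₁ ≠ C.triv → C.bar l₁ ≠ l₁ →
      ∃ j₀ ε, ∃ _hc : IsCenter C j₀ ε,
      C.V = 1 + 1 / ((ε * C.n j₀ : ℤ) : ℚ) + 4 / ((-1 - ε * C.n j₀ : ℤ) : ℚ) ∧
      (-1 - ε * C.n j₀ ≠ 0) ∧
      ∀ j, j ≠ C.i₁ → j ≠ j₀ → C.X j ^ 2 * (-1 - ε * C.n j₀) =
        2 * (∑ l ∈ Finset.univ.erase C.triv, C.a l j) * C.n j := by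
    intro l₁ j₀ ε hc h1 h2
    refine ⟨j₀, ε, hc, hc.V_formula h1 h2, ?_, ?_⟩
    · obtain ⟨v, σ, hσ, -, -, hv, -⟩ := hc.nonreal_entry h1 h2
      rw [← hv]
      apply mul_ne_zero
      · rcases hσ with rfl | rfl <;> norm_num
      · exact (C.hnpos v).ne'
    · intro j hj1 hj2
      exact hc.weights hl₀ hb hu (hc.AB_of_nonreal h1 h2 hl₀ hb hu) hj1 hj2
  by_cases hk2 : C.k = 2
  · have hall : ∀ l, l ≠ C.triv → l = l₀ := by
      intro l hl
      by_contra hne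
      have h3 : ({C.triv, l₀, l} : Finset Λ).card = 3 := by
        rw [Finset.card_insert_of_notMem, Finset.card_insert_of_notMem, Finset.card_singleton]
        · simpa using fun h : l₀ = l => hne h.symm
        · simp only [Finset.mem_insert, Finset.mem_singleton, not_or]
          exact ⟨hl₀.symm, hl.symm⟩
      have h4 := Finset.card_le_univ ({C.triv, l₀, l} : Finset Λ)
      rw [h3, C.hcard] at h4
      omega
    obtain ⟨j₀, ε, hc, h1, h2, h3⟩ := C.center_two hk2 hl₀ hb hall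
    exact ⟨j₀, ε, hc, h2, h3, fun j hj1 hj2 => hc.weights hl₀ hb hu h1 hj1 hj2⟩
  -- find the non-real columns
  have hkm : (Finset.univ.filter fun l => C.s l = -1).card ≥ 2 := by omega
  have hminus : ∃ l ∈ (Finset.univ.filter fun l => C.s l = -1), l ∉ ({l₀} : Finset Λ) :=
    Finset.exists_mem_notMem_of_card_lt_card (by
      rw [Finset.card_singleton]
      omega)
  obtain ⟨lm, hlm1, hlm2⟩ := hminus
  have hsm : C.s lm = -1 := (Finset.mem_filter.mp hlm1).2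
  have hlm0 : lm ≠ l₀ := by simpa using hlm2
  have hlmt : lm ≠ C.triv := by
    rintro rfl
    rw [C.hstriv] at hsm
    norm_num at hsm
  have hrm : C.bar lm ≠ lm := fun h => hlm0 (hu lm hlmt h)
  by_cases hk4 : C.k = 4
  · have hall : ∀ l, l ≠ C.triv → l = l₀ ∨ l = lm ∨ l = C.bar lm := by
      intro l hl
      by_contra hne
      push Not at hne
      have hb1 : C.bar lm ≠ C.triv := C.bar_ne_triv hlmt
      have hb2 : C.bar lm ≠ l₀ := by
        intro h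
        apply hlm0
        rw [← C.hbarbar lm, h, hb]
      have h3 : ({C.triv, l₀, lm, C.bar lm, l} : Finset Λ).card = 5 := by
        rw [Finset.card_insert_of_notMem, Finset.card_insert_of_notMem, Finset.card_insert_of_notMem,
          Finset.card_insert_of_notMem, Finset.card_singleton]
        · simp only [Finset.mem_singleton]
          exact fun h => hne.2.2 h.symm
        · simp only [Finset.mem_insert, Finset.mem_singleton, not_or]
          exact ⟨hrm.symm, fun h => hne.2.1 h.symm⟩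
        · simp only [Finset.mem_insert, Finset.mem_singleton, not_or]
          exact ⟨hlm0.symm, hb2.symm, fun h => hne.1 h.symm⟩
        · simp only [Finset.mem_insert, Finset.mem_singleton, not_or]
          exact ⟨hl₀.symm, hlmt.symm, hb1.symm, hl.symm⟩
      have h4 := Finset.card_le_univ ({C.triv, l₀, lm, C.bar lm, l} : Finset Λ)
      rw [h3, C.hcard] at h4
      omega
    obtain ⟨j₀, ε, hc⟩ := C.center_four hlmt hrm hl₀ hb hlm0 hall
    exact big hc hlmt hrm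
  · have hk6 : 6 ≤ C.k := by omega
    have hplus : ∃ l ∈ (Finset.univ.filter fun l => C.s l = 1), l ∉ ({C.triv, l₀} : Finset Λ) := by
      apply Finset.exists_mem_notMem_of_card_lt_card
      have : ({C.triv, l₀} : Finset Λ).card ≤ 2 := Finset.card_le_two
      omega
    obtain ⟨lp, hlp1, hlp2⟩ := hplus
    have hsp : C.s lp = 1 := (Finset.mem_filter.mp hlp1).2
    simp only [Finset.mem_insert, Finset.mem_singleton, not_or] at hlp2
    have hrp : C.bar lp ≠ lp := fun h => hlp2.2 (hu lp hlp2.1 h)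
    obtain ⟨j₀, ε, hc⟩ := C.center_big hlp2.1 hrp hsp hlmt hrm hsm hl₀ hb hu
    exact big hc hlmt hrm

end Core

end Cfsg.Agent.Lib.BSW
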