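import Mathlib
import Cfsg.Agent.Lib.BSWBase
import Cfsg.Agent.Lib.BSWAb
import Cfsg.Agent.Lib.CharLattice
import Cfsg.Agent.Lib.CharAvg

/-!
# Abstract Brauer--Suzuki--Wall: the induced functions `(1 - λ)^G`
-/

set_option autoImplicit false
set_option linter.unusedSectionVars false

namespace Cfsg.Agent.Lib.BSW

open Cfsg Cfsg.Agent.Lib.CharBasic Cfsg.Agent.Lib.CharInd Cfsg.Agent.Lib.BSWAb
  Cfsg.Agent.Lib.CharLattice
open scoped ComplexConjugate Classical

universe u

variable {G : Type u} [Group G] [Fintype G] (D : Data G) [Fintype D.K]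

theorem Data.hcK : ∀ a b : D.K, a * b = b * a := by
  intro a b
  exact Subtype.ext (D.hKab a a.2 b b.2)

/-- Values of an induced function on `K`. -/
theorem Data.ind_on_K (θ : D.K → ℂ) (x : D.K) (hx : (x : G) ≠ 1) :
    indFun D.K θ (x : G) = θ x + θ x⁻¹ := by
  rw [indFun_apply]
  have hf : ∀ y : G, extendByZero D.K θ (y⁻¹ * x * y) =
      (if y ∈ D.K then θ x else 0) + (if y ∈ D.H ∧ y ∉ D.K then θ x⁻¹ else 0) := by
    intro y
    by_cases hy : y ∈ D.K
    · have h1 : y⁻¹ * x * y = x := by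
        rw [D.hKab _ (D.K.mul_mem (D.K.inv_mem hy) x.2) y hy]
        group
      rw [h1, extendByZero_coe, if_pos hy, if_neg (fun h => h.2 hy), add_zero]
    · by_cases hyH : y ∈ D.H
      · obtain ⟨k, hk, rfl⟩ := D.mem_sdiff_iff.mp ⟨hyH, hy⟩
        have h2 : (k * D.s)⁻¹ = k * D.s := inv_eq_of_mul_eq_one_left (D.mul_s_sq hk)
        have h1 : (k * D.s)⁻¹ * x * (k * D.s) = ((x⁻¹ : D.K) : G) := by
          rw [h2]
          have := D.mul_s_conj hk x.2
          rw [h2] at this
          rw [this]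
          simp
        rw [h1, extendByZero_coe, if_neg hy, if_pos ⟨hyH, hy⟩, zero_add]
      · have h1 : y⁻¹ * x * y ∉ D.K := by
          intro h
          apply hyH
          have h2 : y⁻¹ ∈ D.H := by
            apply D.mem_H_of_conj_mem x.2 hx
            rw [inv_inv]
            exact h
          simpa using (D.H.inv_mem h2)
        rw [extendByZero_of_not_mem _ _ h1, if_neg hy, if_neg (fun h => hyH h.1), add_zero]
  simp only [hf]
  rw [Finset.sum_add_distrib, Finset.sum_ite, Finset.sum_ite, Finset.sum_const_zero,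
    Finset.sum_const_zero, add_zero, add_zero, Finset.sum_const, Finset.sum_const]
  have hc1 : (Finset.univ.filter fun y : G => y ∈ D.K).card = Nat.card D.K := by
    rw [Nat.card_eq_fintype_card, Fintype.card_subtype]
  have hc2 : (Finset.univ.filter fun y : G => y ∈ D.H ∧ y ∉ D.K).card = Nat.card D.K := by
    rw [← D.card_sdiff, Nat.card_eq_fintype_card, Fintype.card_subtype]
  rw [hc1, hc2]
  have hK : (Nat.card D.K : ℂ) ≠ 0 := by exact_mod_cast Nat.card_pos.ne'
  simp only [nsmul_eq_mul]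
  field_simp

/-- `(1 - λ)^G`. -/
noncomputable def Data.phi (l : IrrCharacter D.K) : G → ℂ :=
  indFun D.K (fun x => 1 - (l : D.K → ℂ) x)

theorem Data.phi_on_K (l : IrrCharacter D.K) (x : D.K) :
    D.phi l (x : G) = 2 - (l : D.K → ℂ) x - (l : D.K → ℂ) x⁻¹ := by
  by_cases hx : (x : G) = 1
  · have hx' : x = 1 := Subtype.ext hx
    subst hx'
    have h1 : ((1 : D.K) : G) = 1 := rfl
    rw [h1, Data.phi, indFun_one, inv_one, deg_one D.hcK]
    simp
    norm_num
  · rw [Data.phi, D.ind_on_K _ x hx]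
    ring

theorem Data.phi_one (l : IrrCharacter D.K) : D.phi l 1 = 0 := by
  have := D.phi_on_K l 1
  simp only [inv_one, deg_one D.hcK] at this
  rw [show ((1 : D.K) : G) = 1 from rfl] at this
  rw [this]
  norm_num

theorem Data.phi_conj (l : IrrCharacter D.K) (f g : G) : D.phi l (f * g * f⁻¹) = D.phi l g :=
  indFun_conj _ _ _ _

theorem Data.phi_of_not_U (l : IrrCharacter D.K) {g : G} (h1 : g ≠ 1) (hU : g ∉ D.U) :
    D.phi l g = 0 :=
  indFun_eq_zero_of_not_conj _ _ (D.not_conj_mem_K h1 hU)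

theorem Data.phi_isClass (l : IrrCharacter D.K) : IsClassFunction G (D.phi l) :=
  indFun_isClassFunction _ _

theorem Data.exists_a (l : IrrCharacter D.K) :
    ∃ a : IrrCharacter G → ℤ, D.phi l = ∑ i, (a i : ℂ) • (i : G → ℂ) := by
  apply exists_int_decomp
  refine ⟨indFun D.K (fun _ => 1), indFun D.K (l : D.K → ℂ), indFun_isCharacter _ isCharacter_one,
    indFun_isCharacter _ (IsIrrCharacter.isCharacter l.2), ?_⟩
  rw [← indFun_sub]
  rfl

/-- The multiplicity vector of `(1-λ)^G`. -/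
noncomputable def Data.a (l : IrrCharacter D.K) : IrrCharacter G → ℤ :=
  Classical.choose (D.exists_a l)

theorem Data.phi_eq (l : IrrCharacter D.K) : D.phi l = ∑ i, (D.a l i : ℂ) • (i : G → ℂ) :=
  Classical.choose_spec (D.exists_a l)

theorem Data.phi_apply (l : IrrCharacter D.K) (g : G) :
    D.phi l g = ∑ i : IrrCharacter G, (D.a l i : ℂ) * (i : G → ℂ) g := by
  rw [D.phi_eq]
  simp [Finset.sum_apply]

theorem Data.classInner_phi (l : IrrCharacter D.K) (i : IrrCharacter G) :
    classInner (D.phi l) (i : G → ℂ) = D.a l i := by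
  rw [D.phi_eq]
  exact classInner_int_decomp _ _

/-- The multiplicity as an average over `K`. -/
theorem Data.a_expr (l : IrrCharacter D.K) (i : IrrCharacter G) :
    (D.a l i : ℂ) = (Nat.card D.K : ℂ)⁻¹ *
      ∑ x : D.K, (1 - (l : D.K → ℂ) x) * conj ((i : G → ℂ) (x : G)) := by
  rw [← D.classInner_phi, Data.phi, CharInd.frobenius _ _ (isClassFunction_of_isCharacter
    (IsIrrCharacter.isCharacter i.2))]
  rfl

theorem classInner_pair (a b : IrrCharacter G → ℤ) :
    classInner (∑ i, (a i : ℂ) • (i : G → ℂ)) (∑ i, (b i : ℂ) • (i : G → ℂ)) =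
      ((∑ i, a i * b i : ℤ) : ℂ) := by
  rw [classInner_sum_right]
  push_cast
  refine Finset.sum_congr rfl fun i _ => ?_
  rw [classInner_smul_right, classInner_int_decomp]
  simp [mul_comm]

/-- Inner products of the `(1-λ)^G`. -/
theorem Data.inner_phi (l m : IrrCharacter D.K) (hl : l ≠ triv) (hm : m ≠ triv) :
    classInner (D.phi l) (D.phi m) =
      2 + (if l = m then 1 else 0) + (if l = bar m then 1 else 0) := by
  rw [Data.phi, CharInd.frobenius _ _ (D.phi_isClass m)]
  unfold classInner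
  have hK : (Nat.card D.K : ℂ) ≠ 0 := by exact_mod_cast Nat.card_pos.ne'
  have h1 : ∀ x : D.K, (1 - (l : D.K → ℂ) x) * conj (D.phi m (x : G)) =
      2 - (m : D.K → ℂ) x⁻¹ - (m : D.K → ℂ) x - 2 * (l : D.K → ℂ) x
        + (l : D.K → ℂ) x * (m : D.K → ℂ) x⁻¹
        + (l : D.K → ℂ) x * ((bar m : IrrCharacter D.K) : D.K → ℂ) x⁻¹ := by
    intro x
    rw [D.phi_on_K, bar_apply, inv_inv]
    have h2 : conj ((m : D.K → ℂ) x) = (m : D.K → ℂ) x⁻¹ :=
      char_conj_eq_inv (IsIrrCharacter.isCharacter m.2) x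
    have h3 : conj ((m : D.K → ℂ) x⁻¹) = (m : D.K → ℂ) x := by
      rw [char_conj_eq_inv (IsIrrCharacter.isCharacter m.2) x⁻¹, inv_inv]
    simp only [map_sub, h2, h3, map_ofNat]
    ring
  simp only [h1]
  simp only [Finset.sum_add_distrib, Finset.sum_sub_distrib, ← Finset.mul_sum]
  have h2 : ∑ x : D.K, (m : D.K → ℂ) x⁻¹ = 0 := by
    have := Equiv.sum_comp (Equiv.inv D.K) (fun x => (m : D.K → ℂ) x)
    simp only [Equiv.inv_apply] at this
    rw [this, sum_eq, if_neg hm]
  rw [h2, sum_eq, if_neg hm, sum_eq, if_neg hl, inner_row, inner_row]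
  simp only [Finset.sum_const, Finset.card_univ, nsmul_eq_mul, Fintype.card_eq_nat_card]
  field_simp
  split_ifs <;> ring

theorem Data.inner_a (l m : IrrCharacter D.K) (hl : l ≠ triv) (hm : m ≠ triv) :
    ∑ i, D.a l i * D.a m i = 2 + (if l = m then 1 else 0) + (if l = bar m then 1 else 0) := by
  have h1 := D.inner_phi l m hl hm
  rw [D.phi_eq l, D.phi_eq m, classInner_pair] at h1
  have h2 : ((∑ i, D.a l i * D.a m i : ℤ) : ℂ) =
      ((2 + (if l = m then 1 else 0) + (if l = bar m then 1 else 0) : ℤ) : ℂ) := by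
    rw [h1]
    split_ifs <;> norm_num
  exact_mod_cast h2

/-- The multiplicity of the trivial character in `(1-λ)^G`. -/
theorem Data.a_triv (l : IrrCharacter D.K) (hl : l ≠ triv) : D.a l triv = 1 := by
  have h1 := D.a_expr l (triv : IrrCharacter G)
  have hK : (Nat.card D.K : ℂ) ≠ 0 := by exact_mod_cast Nat.card_pos.ne'
  have h2 : ∀ x : D.K, (1 - (l : D.K → ℂ) x) * conj (((triv : IrrCharacter G) : G → ℂ) (x : G)) =
      1 - (l : D.K → ℂ) x := by
    intro x
    simp [triv]
  simp only [h2, Finset.sum_sub_distrib] at h1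
  rw [sum_eq, if_neg hl] at h1
  simp only [Finset.sum_const, Finset.card_univ, nsmul_eq_mul, Fintype.card_eq_nat_card,
    mul_one, sub_zero] at h1
  rw [inv_mul_cancel₀ hK] at h1
  exact_mod_cast h1

/-- Values on `K` recovered from the multiplicities. -/
theorem Data.row (i : IrrCharacter G) (x : D.K) (hx : (x : G) ≠ 1) :
    (i : G → ℂ) (x : G) =
      - ∑ l : IrrCharacter D.K, (D.a l i : ℂ) * (l : D.K → ℂ) x := by
  have hK : (Nat.card D.K : ℂ) ≠ 0 := by exact_mod_cast Nat.card_pos.ne'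
  have hx' : x ≠ 1 := fun h => hx (by rw [h]; rfl)
  simp only [D.a_expr]
  have h1 : ∑ l : IrrCharacter D.K, (Nat.card D.K : ℂ)⁻¹ *
      (∑ y : D.K, (1 - (l : D.K → ℂ) y) * conj ((i : G → ℂ) (y : G))) * (l : D.K → ℂ) x =
      (Nat.card D.K : ℂ)⁻¹ * ∑ y : D.K, conj ((i : G → ℂ) (y : G)) *
        ∑ l : IrrCharacter D.K, (1 - (l : D.K → ℂ) y) * (l : D.K → ℂ) x := by
    simp only [Finset.mul_sum, Finset.sum_mul]
    rw [Finset.sum_comm]
    refine Finset.sum_congr rfl fun y _ => Finset.sum_congr rfl fun l _ => ?_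
    ring
  rw [h1]
  have h2 : ∀ y : D.K, ∑ l : IrrCharacter D.K, (1 - (l : D.K → ℂ) y) * (l : D.K → ℂ) x =
      - (if x = y⁻¹ then (Nat.card D.K : ℂ) else 0) := by
    intro y
    have h3 := column_one D.hcK x
    rw [if_neg hx'] at h3
    have h4 := column D.hcK x y⁻¹
    simp only [inv_inv] at h4
    simp only [sub_mul, one_mul, Finset.sum_sub_distrib]
    rw [h3, zero_sub]
    have h5 : ∑ l : IrrCharacter D.K, (l : D.K → ℂ) y * (l : D.K → ℂ) x =
        ∑ l : IrrCharacter D.K, (l : D.K → ℂ) x * (l : D.K → ℂ) y :=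
      Finset.sum_congr rfl fun l _ => mul_comm _ _
    rw [h5]
    congr 1
    convert h4
  simp only [h2]
  have h5 : ∑ y : D.K, conj ((i : G → ℂ) (y : G)) * -(if x = y⁻¹ then (Nat.card D.K : ℂ) else 0) =
      - (conj ((i : G → ℂ) ((x⁻¹ : D.K) : G)) * (Nat.card D.K : ℂ)) := by
    rw [Finset.sum_eq_single x⁻¹]
    · simp
    · intro b _ hb
      rw [if_neg, neg_zero, mul_zero]
      intro h
      apply hb
      rw [h, inv_inv]
    · intro h
      exact absurd (Finset.mem_univ _) h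
  rw [h5]
  have h6 : conj ((i : G → ℂ) ((x⁻¹ : D.K) : G)) = (i : G → ℂ) (x : G) := by
    have : ((x⁻¹ : D.K) : G) = (x : G)⁻¹ := rfl
    rw [this, char_conj_eq_inv (IsIrrCharacter.isCharacter i.2), inv_inv]
  rw [h6]
  field_simp

end Cfsg.Agent.Lib.BSW
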