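import Mathlib
import Cfsg.Agent.Lib.BSWChar

/-!
# Abstract Brauer--Suzuki--Wall: counting products of two involutions by characters
-/

set_option autoImplicit false
set_option linter.unusedSectionVars false

namespace Cfsg.Agent.Lib.BSW

open Cfsg Cfsg.Agent.Lib.CharBasic Cfsg.Agent.Lib.CharInd Cfsg.Agent.Lib.BSWAb
  Cfsg.Agent.Lib.CharLattice
open scoped ComplexConjugate Classical

universe u

variable {G : Type u} [Group G] [Fintype G]

theorem card_fiber (t u : G) :
    (Finset.univ.filter fun b : G => b * t * b⁻¹ = u).card =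
      if IsConj t u then Nat.card (Subgroup.centralizer ({t} : Set G)) else 0 := by
  by_cases h : IsConj t u
  · rw [if_pos h]
    obtain ⟨b₀, rfl⟩ := isConj_iff.mp h
    have e : {b : G // b * t * b⁻¹ = b₀ * t * b₀⁻¹} ≃ Subgroup.centralizer ({t} : Set G) := by
      refine ⟨fun b => ⟨b₀⁻¹ * b.1, ?_⟩, fun z => ⟨b₀ * z.1, ?_⟩, ?_, ?_⟩
      · rw [Subgroup.mem_centralizer_singleton_iff]
        have h1 : b₀⁻¹ * b.1 * t * (b₀⁻¹ * b.1)⁻¹ = t := by
          calc b₀⁻¹ * b.1 * t * (b₀⁻¹ * b.1)⁻¹ = b₀⁻¹ * (b.1 * t * b.1⁻¹) * b₀ := by group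
            _ = t := by rw [b.2]; group
        exact mul_inv_eq_iff_eq_mul.mp h1
      · have hz := z.2
        rw [Subgroup.mem_centralizer_singleton_iff] at hz
        have h1 : z.1 * t * z.1⁻¹ = t := mul_inv_eq_iff_eq_mul.mpr hz
        calc b₀ * z.1 * t * (b₀ * z.1)⁻¹ = b₀ * (z.1 * t * z.1⁻¹) * b₀⁻¹ := by group
          _ = b₀ * t * b₀⁻¹ := by rw [h1]
      · intro b
        apply Subtype.ext
        simp
      · intro z
        apply Subtype.ext
        simp
    rw [← Nat.card_congr e, Nat.card_eq_fintype_card, Fintype.card_subtype]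
  · rw [if_neg h]
    rw [Finset.card_eq_zero, Finset.filter_eq_empty_iff]
    intro b _ hb
    exact h (isConj_iff.mpr ⟨b, hb⟩)

theorem sum_conj_fiber (t : G) (f : G → ℂ) :
    ∑ b : G, f (b * t * b⁻¹) =
      (Nat.card (Subgroup.centralizer ({t} : Set G)) : ℂ) * ∑ u : G, (if IsConj t u then f u else 0) := by
  have h1 : ∑ b : G, f (b * t * b⁻¹) =
      ∑ u : G, ∑ b ∈ Finset.univ.filter (fun b : G => b * t * b⁻¹ = u), f (b * t * b⁻¹) :=
    (Finset.sum_fiberwise _ _ _).symm
  rw [h1, Finset.mul_sum]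
  refine Finset.sum_congr rfl fun u _ => ?_
  have h2 : ∑ b ∈ Finset.univ.filter (fun b : G => b * t * b⁻¹ = u), f (b * t * b⁻¹) =
      ∑ b ∈ Finset.univ.filter (fun b : G => b * t * b⁻¹ = u), f u :=
    Finset.sum_congr rfl fun b hb => by rw [(Finset.mem_filter.mp hb).2]
  rw [h2, Finset.sum_const, card_fiber]
  by_cases h : IsConj t u
  · simp
  · simp

variable (D : Data G)

theorem Data.order_iff (u : G) : orderOf u = 2 ↔ IsConj D.t u := by
  constructor
  · intro h
    exact D.hconj _ _ D.ht h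
  · intro h
    obtain ⟨c, rfl⟩ := isConj_iff.mp h
    have : orderOf (c * D.t * c⁻¹) = orderOf ((MulAut.conj c) D.t) := by
      rw [MulAut.conj_apply]
    rw [this, MulEquiv.orderOf_eq, D.ht]

/-- The class-algebra formula for `I`. -/
theorem Data.count_formula (g : G) :
    (I g : ℂ) = (Nat.card G : ℂ) / (Nat.card D.H : ℂ) ^ 2 *
      ∑ i : IrrCharacter G, ((i : G → ℂ) D.t) ^ 2 * (i : G → ℂ) g / (i : G → ℂ) 1 := by
  have hc : (Nat.card D.H : ℂ) ≠ 0 := by exact_mod_cast Nat.card_pos.ne'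
  have ht_conj : ∀ i : IrrCharacter G, conj ((i : G → ℂ) D.t) = (i : G → ℂ) D.t := by
    intro i
    rw [char_conj_eq_inv (IsIrrCharacter.isCharacter i.2), D.t_inv]
  -- the class indicator
  have hind : ∀ v : G, (if IsConj D.t v then (1 : ℂ) else 0) =
      (Nat.card D.H : ℂ)⁻¹ * ∑ i : IrrCharacter G, (i : G → ℂ) v * (i : G → ℂ) D.t := by
    intro v
    have h1 := sum_irr_mul_conj v D.t
    simp only [ht_conj] at h1
    rw [h1]
    by_cases h : IsConj D.t v
    · rw [if_pos h, if_pos h.symm]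
      field_simp
    · rw [if_neg h, if_neg (fun h' => h h'.symm), mul_zero]
  have hI : (I g : ℂ) = ∑ u : G, (if IsConj D.t u then
      (if IsConj D.t (u * g) then (1 : ℂ) else 0) else 0) := by
    rw [I, Nat.card_eq_fintype_card, Fintype.card_subtype]
    rw [Finset.card_filter]
    push_cast
    refine Finset.sum_congr rfl fun u _ => ?_
    have hp : (orderOf u = 2 ∧ orderOf (u * g) = 2) ↔ (IsConj D.t u ∧ IsConj D.t (u * g)) :=
      and_congr (D.order_iff _) (D.order_iff _)
    by_cases h1 : IsConj D.t u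
    · by_cases h2 : IsConj D.t (u * g)
      · rw [if_pos (hp.mpr ⟨h1, h2⟩), if_pos h1, if_pos h2]
      · rw [if_neg (fun h => h2 (hp.mp h).2), if_pos h1, if_neg h2]
    · rw [if_neg (fun h => h1 (hp.mp h).1), if_neg h1]
  rw [hI]
  have h2 : ∀ u : G, (if IsConj D.t u then
      (if IsConj D.t (u * g) then (1 : ℂ) else 0) else 0) =
      (Nat.card D.H : ℂ)⁻¹ * ∑ i : IrrCharacter G, (i : G → ℂ) D.t *
        (if IsConj D.t u then (i : G → ℂ) (u * g) else 0) := by
    intro u
    rw [hind (u * g)]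
    by_cases h : IsConj D.t u
    · rw [if_pos h]
      congr 1
      refine Finset.sum_congr rfl fun i _ => ?_
      rw [if_pos h]
      exact mul_comm _ _
    · rw [if_neg h]
      have : ∀ i : IrrCharacter G, (i : G → ℂ) D.t *
          (if IsConj D.t u then (i : G → ℂ) (u * g) else 0) = 0 := by
        intro i
        rw [if_neg h, mul_zero]
      simp only [this, Finset.sum_const_zero, mul_zero]
  simp only [h2]
  rw [← Finset.mul_sum, Finset.sum_comm]
  have h3 : ∀ i : IrrCharacter G, ∑ u : G, (i : G → ℂ) D.t *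
      (if IsConj D.t u then (i : G → ℂ) (u * g) else 0) =
      (Nat.card D.H : ℂ)⁻¹ * (Nat.card G : ℂ) * ((i : G → ℂ) D.t) ^ 2 * (i : G → ℂ) g /
        (i : G → ℂ) 1 := by
    intro i
    rw [← Finset.mul_sum]
    have h4 := sum_conj_fiber D.t (fun u => (i : G → ℂ) (u * g))
    have h5 := Cfsg.Agent.Lib.CharAvg.irr_avg i.2 g D.t
    have h6 : ∀ b : G, (i : G → ℂ) (b * D.t * b⁻¹ * g) = (i : G → ℂ) (g * (b * D.t * b⁻¹)) :=
      fun b => char_mul_comm' (IsIrrCharacter.isCharacter i.2) _ _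
    simp only [h6] at h4
    have h7 := Cfsg.Agent.Lib.CharAvg.irr_one_ne_zero i.2
    rw [h4] at h5
    field_simp
    have hH : Nat.card D.H = Nat.card (Subgroup.centralizer ({D.t} : Set G)) := rfl
    rw [hH] at hc ⊢
    linear_combination ((i : G → ℂ) D.t) * h5
  simp only [h3]
  rw [Finset.mul_sum, Finset.mul_sum]
  refine Finset.sum_congr rfl fun i _ => ?_
  field_simp

end Cfsg.Agent.Lib.BSW
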