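import Mathlib
import Cfsg.Agent.Lib.BSWCount
import Cfsg.Agent.Lib.BSWCore
import Cfsg.Agent.Lib.CharIntegrality

/-!
# Abstract Brauer--Suzuki--Wall: the numerical core from the characters
-/

set_option autoImplicit false
set_option linter.unusedSectionVars false

namespace Cfsg.Agent.Lib.BSW

open Cfsg Cfsg.Agent.Lib.CharBasic Cfsg.Agent.Lib.CharInd Cfsg.Agent.Lib.BSWAb
  Cfsg.Agent.Lib.CharLattice
open scoped ComplexConjugate Classical

universe u

variable {G : Type u} [Group G] [Fintype G]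

theorem int_dvd_of_isIntegral_div {a b : ℤ} (hb : b ≠ 0) (h : IsIntegral ℤ ((a : ℂ) / (b : ℂ))) :
    b ∣ a := by
  have h1 : (a : ℂ) / (b : ℂ) = algebraMap ℚ ℂ ((a : ℚ) / (b : ℚ)) := by
    simp
  rw [h1, isIntegral_algebraMap_iff (algebraMap ℚ ℂ).injective] at h
  obtain ⟨z, hz⟩ := IsIntegrallyClosed.isIntegral_iff.mp h
  have hbQ : (b : ℚ) ≠ 0 := by exact_mod_cast hb
  have h2 : (a : ℚ) = (z : ℚ) * (b : ℚ) := by
    have : (z : ℚ) = (a : ℚ) / (b : ℚ) := by simpa using hz
    rw [this]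
    field_simp
  have h3 : a = z * b := by exact_mod_cast h2
  exact ⟨z, by rw [h3]; ring⟩

/-- The average of an irreducible character over a subgroup is a natural number. -/
theorem avg_irr (i : IrrCharacter G) (U : Subgroup G) [Fintype U] :
    ∃ N : ℕ, ∑ u : U, (i : G → ℂ) (u : G) = (Nat.card U : ℂ) * N := by
  obtain ⟨N, hN⟩ := classInner_char_irr (isCharacter_restrict U (IsIrrCharacter.isCharacter i.2))
    (isIrrCharacter_one (G := U))
  refine ⟨N, ?_⟩
  unfold classInner at hN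
  simp only [map_one, mul_one] at hN
  have hU : (Nat.card U : ℂ) ≠ 0 := by exact_mod_cast Nat.card_pos.ne'
  rw [← hN]
  field_simp

theorem deg_spec (i : IrrCharacter G) :
    ∃ n : ℕ, 0 < n ∧ (i : G → ℂ) 1 = n := Cfsg.Agent.Lib.CharAvg.irr_one_eq i.2

/-- The degree as an integer. -/
noncomputable def deg (i : IrrCharacter G) : ℤ := (Classical.choose (deg_spec i) : ℕ)

theorem deg_pos (i : IrrCharacter G) : 0 < deg i := by
  have := (Classical.choose_spec (deg_spec i)).1
  unfold deg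
  exact_mod_cast this

theorem deg_cast (i : IrrCharacter G) : ((deg i : ℤ) : ℂ) = (i : G → ℂ) 1 := by
  have := (Classical.choose_spec (deg_spec i)).2
  unfold deg
  push_cast
  exact this.symm

variable (D : Data G) [Fintype D.K]

/-- `t` as an element of `K`. -/
def Data.tK : D.K := ⟨D.t, D.htK⟩

theorem Data.tK_ne : D.tK ≠ 1 := by
  intro h
  exact D.t_ne_one (congrArg Subtype.val h)

theorem Data.tK_inv : D.tK⁻¹ = D.tK := Subtype.ext D.t_inv

theorem Data.l_t (l : IrrCharacter D.K) :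
    (l : D.K → ℂ) D.tK = 1 ∨ (l : D.K → ℂ) D.tK = -1 := by
  have h1 := mul_inv_irr D.hcK l D.tK
  rw [D.tK_inv] at h1
  have h2 : ((l : D.K → ℂ) D.tK - 1) * ((l : D.K → ℂ) D.tK + 1) = 0 := by
    linear_combination h1
  rcases mul_eq_zero.mp h2 with h | h
  · left; linear_combination h
  · right; linear_combination h

/-- The sign of `l` at `t`. -/
noncomputable def Data.sgn (l : IrrCharacter D.K) : ℤ := if (l : D.K → ℂ) D.tK = 1 then 1 else -1

theorem Data.sgn_cast (l : IrrCharacter D.K) : ((D.sgn l : ℤ) : ℂ) = (l : D.K → ℂ) D.tK := by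
  unfold Data.sgn
  by_cases h : (l : D.K → ℂ) D.tK = 1
  · rw [if_pos h, h]; simp
  · rw [if_neg h]
    rcases D.l_t l with h' | h'
    · exact absurd h' h
    · rw [h']; simp

theorem Data.a_triv_zero (i : IrrCharacter G) : D.a triv i = 0 := by
  have h1 := D.a_expr triv i
  have h2 : ∀ x : D.K, (1 - ((triv : IrrCharacter D.K) : D.K → ℂ) x) * conj ((i : G → ℂ) (x : G)) = 0 := by
    intro x
    simp [triv]
  simp only [h2, Finset.sum_const_zero, mul_zero] at h1
  exact_mod_cast h1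

/-- The value at `t`, as an integer. -/
noncomputable def Data.X (i : IrrCharacter G) : ℤ :=
  - ∑ l ∈ (Finset.univ : Finset (IrrCharacter D.K)).erase triv, D.a l i * D.sgn l

theorem Data.X_cast (i : IrrCharacter G) : ((D.X i : ℤ) : ℂ) = (i : G → ℂ) D.t := by
  have h1 := D.row i D.tK D.t_ne_one
  have h2 : ((D.tK : D.K) : G) = D.t := rfl
  rw [h2] at h1
  rw [h1, Data.X]
  push_cast
  congr 1
  rw [← Finset.add_sum_erase _ _ (Finset.mem_univ (triv : IrrCharacter D.K))]
  rw [D.a_triv_zero]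
  simp only [Int.cast_zero, zero_mul, zero_add]
  refine Finset.sum_congr rfl fun l _ => ?_
  rw [D.sgn_cast]

theorem Data.sum_sgn : ∑ l : IrrCharacter D.K, D.sgn l = 0 := by
  have h1 := column_one D.hcK D.tK
  rw [if_neg D.tK_ne] at h1
  have h2 : ((∑ l : IrrCharacter D.K, D.sgn l : ℤ) : ℂ) = 0 := by
    push_cast
    simp only [D.sgn_cast]
    exact h1
  exact_mod_cast h2

theorem Data.sgn_triv : D.sgn triv = 1 := by
  unfold Data.sgn
  rw [if_pos]
  simp [triv]

theorem Data.sgn_bar (l : IrrCharacter D.K) : D.sgn (bar l) = D.sgn l := by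
  have h1 : ((D.sgn (bar l) : ℤ) : ℂ) = ((D.sgn l : ℤ) : ℂ) := by
    rw [D.sgn_cast, D.sgn_cast, bar_apply, D.tK_inv]
  exact_mod_cast h1

theorem Data.hk : 2 ≤ Nat.card D.K := by
  have h1 : 1 < Nat.card D.K := by
    apply Finite.one_lt_card_iff_nontrivial.mpr
    exact ⟨D.tK, 1, D.tK_ne⟩
  omega

theorem Data.card_sq_one :
    (Finset.univ.filter fun x : D.K => x * x = 1).card = 2 := by
  have : (Finset.univ.filter fun x : D.K => x * x = 1) = {1, D.tK} := by
    ext x
    simp only [Finset.mem_filter, Finset.mem_univ, true_and, Finset.mem_insert, Finset.mem_singleton]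
    constructor
    · intro h
      by_cases h1 : x = 1
      · exact Or.inl h1
      · right
        apply Subtype.ext
        exact D.eq_t_of_sq x.2 (congrArg Subtype.val h) (fun h' => h1 (Subtype.ext h'))
    · rintro (rfl | rfl)
      · simp
      · exact Subtype.ext D.t_sq
  rw [this, Finset.card_pair D.tK_ne.symm]

theorem Data.index_pos : 0 < D.H.index := Nat.pos_of_ne_zero (Subgroup.index_ne_zero_of_finite)

theorem Data.card_G : Nat.card G = 2 * Nat.card D.K * D.H.index := by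
  rw [← D.card_H]
  exact (Subgroup.card_mul_index D.H).symm

/-- The value of `V`. -/
noncomputable def Data.V : ℚ := 2 * (Nat.card D.K : ℚ) ^ 2 / (D.H.index : ℚ)

/-- The class-algebra constant on `K`. -/
theorem Data.F_on_K (x : D.K) (hx : (x : G) ≠ 1) :
    ∑ i : IrrCharacter G, ((i : G → ℂ) D.t) ^ 2 * (i : G → ℂ) (x : G) / (i : G → ℂ) 1 =
      ((D.V : ℚ) : ℂ) := by
  have h1 := D.count_formula (x : G)
  rw [D.I_of_mem x.2 hx, D.card_G, D.card_H] at h1
  have hk : (Nat.card D.K : ℂ) ≠ 0 := by exact_mod_cast Nat.card_pos.ne'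
  have hm : (D.H.index : ℂ) ≠ 0 := by exact_mod_cast D.index_pos.ne'
  unfold Data.V
  push_cast at h1 ⊢
  field_simp at h1 ⊢
  linear_combination -h1

theorem Data.F_conj (x : D.K) (hx : (x : G) ≠ 1) :
    ∑ i : IrrCharacter G, conj ((i : G → ℂ) (x : G)) * (((D.X i : ℤ) : ℂ) ^ 2 / ((deg i : ℤ) : ℂ)) =
      ((D.V : ℚ) : ℂ) := by
  have h1 := congrArg conj (D.F_on_K x hx)
  rw [map_sum, map_ratCast] at h1
  rw [← h1]
  refine Finset.sum_congr rfl fun i _ => ?_
  rw [← D.X_cast, ← deg_cast]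
  simp only [map_div₀, map_mul, map_pow, map_intCast]
  ring

theorem Data.sgn_cases (l : IrrCharacter D.K) : D.sgn l = 1 ∨ D.sgn l = -1 := by
  unfold Data.sgn
  split_ifs <;> simp

theorem bar_triv' {A : Type u} [Group A] [Fintype A] : bar (triv : IrrCharacter A) = triv := by
  apply Subtype.ext
  funext x
  rw [bar_apply]
  rfl

theorem deg_triv : deg (triv : IrrCharacter G) = 1 := by
  have h := deg_cast (triv : IrrCharacter G)
  have h2 : ((deg (triv : IrrCharacter G) : ℤ) : ℂ) = ((1 : ℤ) : ℂ) := by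
    rw [h]
    simp [triv]
  exact_mod_cast h2

theorem Data.X_triv : D.X triv = 1 := by
  have h := D.X_cast (triv : IrrCharacter G)
  have h2 : ((D.X (triv : IrrCharacter G) : ℤ) : ℂ) = ((1 : ℤ) : ℂ) := by
    rw [h]
    simp [triv]
  exact_mod_cast h2

theorem Data.hE1 (l : IrrCharacter D.K) :
    ∑ i, D.a l i * D.X i = 2 - 2 * D.sgn l := by
  have h1 := D.phi_apply l D.t
  have h2 := D.phi_on_K l D.tK
  have h3 : ((D.tK : D.K) : G) = D.t := rfl
  rw [h3, h1, D.tK_inv, ← D.sgn_cast] at h2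
  have h4 : ((∑ i, D.a l i * D.X i : ℤ) : ℂ) = ((2 - 2 * D.sgn l : ℤ) : ℂ) := by
    push_cast
    simp only [D.X_cast]
    rw [h2]
    ring
  exact_mod_cast h4

theorem Data.hE2 (l : IrrCharacter D.K) :
    ∑ i, D.a l i * deg i = 0 := by
  have h1 := D.phi_apply l 1
  rw [D.phi_one] at h1
  have h4 : ((∑ i, D.a l i * deg i : ℤ) : ℂ) = ((0 : ℤ) : ℂ) := by
    push_cast
    simp only [deg_cast]
    exact h1.symm
  exact_mod_cast h4

theorem Data.hE4 (l : IrrCharacter D.K) (hl : l ≠ triv) :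
    ∑ i, (D.a l i : ℚ) * ((D.X i : ℚ) ^ 2 / (deg i : ℚ)) = D.V := by
  have hK : (Nat.card D.K : ℂ) ≠ 0 := by exact_mod_cast Nat.card_pos.ne'
  have h2 : ((∑ i, (D.a l i : ℚ) * ((D.X i : ℚ) ^ 2 / (deg i : ℚ)) : ℚ) : ℂ) = ((D.V : ℚ) : ℂ) := by
    push_cast
    simp only [D.a_expr]
    have h3 : ∑ i : IrrCharacter G, (Nat.card D.K : ℂ)⁻¹ *
        (∑ x : D.K, (1 - (l : D.K → ℂ) x) * conj ((i : G → ℂ) (x : G))) *
          (((D.X i : ℤ) : ℂ) ^ 2 / ((deg i : ℤ) : ℂ)) =
        (Nat.card D.K : ℂ)⁻¹ * ∑ x : D.K, (1 - (l : D.K → ℂ) x) *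
          ∑ i : IrrCharacter G, conj ((i : G → ℂ) (x : G)) *
            (((D.X i : ℤ) : ℂ) ^ 2 / ((deg i : ℤ) : ℂ)) := by
      simp only [Finset.mul_sum, Finset.sum_mul]
      rw [Finset.sum_comm]
      refine Finset.sum_congr rfl fun y _ => Finset.sum_congr rfl fun i _ => ?_
      ring
    rw [h3]
    have h4 : ∀ x : D.K, (1 - (l : D.K → ℂ) x) *
          ∑ i : IrrCharacter G, conj ((i : G → ℂ) (x : G)) *
            (((D.X i : ℤ) : ℂ) ^ 2 / ((deg i : ℤ) : ℂ)) =
        (1 - (l : D.K → ℂ) x) * ((D.V : ℚ) : ℂ) := by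
      intro x
      by_cases hx : (x : G) = 1
      · have hx' : x = 1 := Subtype.ext hx
        rw [hx', deg_one D.hcK]
        simp
      · rw [D.F_conj x hx]
    simp only [h4, ← Finset.sum_mul, Finset.sum_sub_distrib]
    rw [sum_eq, if_neg hl]
    simp only [Finset.sum_const, Finset.card_univ, nsmul_eq_mul, Fintype.card_eq_nat_card,
      mul_one, sub_zero]
    rw [← mul_assoc, inv_mul_cancel₀ hK, one_mul]
  exact_mod_cast h2

theorem Data.hdiv (j : IrrCharacter G) : deg j ∣ (D.H.index : ℤ) * D.X j := by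
  obtain ⟨n, ρ, hρ, hj⟩ := j.2
  have h1 := Cfsg.Agent.Lib.CharIntegrality.isIntegral_index_mul_character_div ρ hρ D.t
  apply int_dvd_of_isIntegral_div (deg_pos j).ne'
  have h2 : ρ.character D.t = (j : G → ℂ) D.t := by rw [hj]
  have h3 : (Module.finrank ℂ (Fin n → ℂ) : ℂ) = (j : G → ℂ) 1 := by
    rw [← hj, char_one_eq_rep ρ]
    simp
  rw [h2, h3, ← D.X_cast, ← deg_cast] at h1
  push_cast
  exact h1

/-- A character taking a constant sign on `H#` has degree congruent to the sign. -/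
theorem Data.H_avg (i : IrrCharacter G) (δ : ℤ) (hδ : δ = 1 ∨ δ = -1)
    (h : ∀ x ∈ D.H, x ≠ 1 → (δ : ℂ) * (i : G → ℂ) x = 1) :
    ∃ z : ℤ, δ * deg i - 1 = 2 * (Nat.card D.K : ℤ) * z := by
  obtain ⟨N, hN⟩ := avg_irr i D.H
  have hcard : (Nat.card D.H : ℂ) = 2 * (Nat.card D.K : ℂ) := by
    rw [D.card_H]; push_cast; ring
  have hδ2 : (δ : ℂ) * (δ : ℂ) = 1 := by
    rcases hδ with rfl | rfl <;> simp
  have h1 : ∑ u : D.H, (δ : ℂ) * (i : G → ℂ) (u : G) =
      (δ : ℂ) * (deg i : ℂ) + ((Nat.card D.H : ℂ) - 1) := by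
    rw [← Finset.add_sum_erase _ _ (Finset.mem_univ (1 : D.H))]
    congr 1
    · rw [deg_cast]; rfl
    · have h2 : ∀ u ∈ (Finset.univ : Finset D.H).erase 1, (δ : ℂ) * (i : G → ℂ) (u : G) = 1 := by
        intro u hu
        apply h u u.2
        intro h3
        exact (Finset.mem_erase.mp hu).1 (Subtype.ext h3)
      rw [Finset.sum_congr rfl h2]
      simp only [Finset.sum_const, Finset.card_erase_of_mem (Finset.mem_univ _), nsmul_eq_mul,
        mul_one, Finset.card_univ, Fintype.card_eq_nat_card]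
      rw [Nat.cast_sub Nat.card_pos]
      simp
  rw [← Finset.mul_sum, hN] at h1
  refine ⟨δ * N - 1, ?_⟩
  have h3 : ((δ * deg i - 1 : ℤ) : ℂ) = ((2 * (Nat.card D.K : ℤ) * (δ * N - 1) : ℤ) : ℂ) := by
    push_cast
    rw [hcard] at h1
    linear_combination -h1
  exact_mod_cast h3

/-- Every non-identity element of `H` is either in `K` or an involution conjugate to `t`. -/
theorem Data.H_cases {x : G} (hx : x ∈ D.H) : x ∈ D.K ∨ IsConj D.t x := by
  by_cases h : x ∈ D.K
  · exact Or.inl h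
  · right
    obtain ⟨k, hk, rfl⟩ := D.mem_sdiff_iff.mp ⟨hx, h⟩
    exact (D.order_iff _).mp (D.orderOf_mul_s hk)

/-- The numerical core attached to the data. -/
noncomputable def Data.core : Core (IrrCharacter D.K) (IrrCharacter G) where
  triv := triv
  bar := bar
  i₁ := triv
  a := D.a
  X := D.X
  n := deg
  s := D.sgn
  k := Nat.card D.K
  m := D.H.index
  V := D.V
  hinner := D.inner_a
  hai1 := D.a_triv
  hX1 := D.X_triv
  hn1 := deg_triv
  hnpos := deg_pos
  hs := D.sgn_cases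
  hstriv := D.sgn_triv
  hsbar := D.sgn_bar
  hsumS := D.sum_sgn
  hbarbar := bar_bar
  hbartriv := bar_triv'
  hreal := by rw [card_real D.hcK]; convert D.card_sq_one
  hcard := by
    rw [Fintype.card_eq_nat_card]; exact card_irr D.hcK
  hk := D.hk
  hE1 := fun l _ => D.hE1 l
  hE2 := fun l _ => D.hE2 l
  hE4 := D.hE4
  hrow := fun _ => rfl
  hV := rfl
  hm := D.index_pos
  hdiv := D.hdiv
  hcong2 := by
    intro hk2 j δ hδ h
    obtain ⟨z, hz⟩ := D.H_avg j δ hδ (by
      intro x hx hx1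
      have hXc : (δ : ℂ) * (j : G → ℂ) D.t = 1 := by
        rw [← D.X_cast]
        exact_mod_cast h
      rcases D.H_cases hx with hK | hc
      · have h1 : x = D.t := by
          have h2 : Nat.card D.K = 2 := hk2
          have h3 : ∀ a b : D.K, a ≠ 1 → b ≠ 1 → a = b := by
            intro a b ha hb
            by_contra hab
            have h4 : ({1, a, b} : Finset D.K).card = 3 := by
              rw [Finset.card_insert_of_notMem, Finset.card_pair hab]
              simp only [Finset.mem_insert, Finset.mem_singleton, not_or]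
              exact ⟨ha.symm, hb.symm⟩
            have h5 := Finset.card_le_univ ({1, a, b} : Finset D.K)
            rw [h4, Fintype.card_eq_nat_card, h2] at h5
            omega
          have h4 := h3 ⟨x, hK⟩ D.tK (fun h' => hx1 (congrArg Subtype.val h')) D.tK_ne
          exact congrArg Subtype.val h4
        rw [h1]
        exact hXc
      · have h2 : (j : G → ℂ) x = (j : G → ℂ) D.t := by
          obtain ⟨c, hc⟩ := isConj_iff.mp hc
          rw [← hc]
          exact char_apply_conj (IsIrrCharacter.isCharacter j.2) D.t c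
        rw [h2]
        exact hXc)
    have hk2' : (Nat.card D.K : ℤ) = 2 := by exact_mod_cast hk2
    show (δ * deg j) % 4 = 1
    rw [hk2'] at hz
    omega

end Cfsg.Agent.Lib.BSW
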