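import Mathlib
import Cfsg.Agent.Lib.BSWBase

/-!
# Abstract Brauer--Suzuki--Wall: elements inverted by an involution
-/

set_option autoImplicit false
set_option linter.unusedSectionVars false

namespace Cfsg.Agent.Lib.BSW

universe u

variable {G : Type u} [Group G]

/-- The centralizer of an element. -/
abbrev Cen (g : G) : Subgroup G := Subgroup.centralizer ({g} : Set G)

theorem mem_Cen {x g : G} : x ∈ Cen g ↔ x * g = g * x :=
  Subgroup.mem_centralizer_singleton_iff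

theorem mem_Cen_comm {x g : G} : x ∈ Cen g ↔ g ∈ Cen x := by
  rw [mem_Cen, mem_Cen]
  exact eq_comm

theorem self_mem_Cen (g : G) : g ∈ Cen g := mem_Cen.mpr rfl

/-- The conjugate subgroup. -/
def cj (f : G) (P : Subgroup G) : Subgroup G := P.map (MulAut.conj f).toMonoidHom

theorem mem_cj {f x : G} {P : Subgroup G} : x ∈ cj f P ↔ f⁻¹ * x * f ∈ P := by
  constructor
  · rintro ⟨y, hy, rfl⟩
    have : f⁻¹ * ((MulAut.conj f).toMonoidHom y) * f = y := by
      simp only [MulEquiv.coe_toMonoidHom, MulAut.conj_apply]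
      group
    rw [this]
    exact hy
  · intro h
    refine ⟨_, h, ?_⟩
    simp only [MulEquiv.coe_toMonoidHom, MulAut.conj_apply]
    group

theorem conj_mem_cj {f x : G} {P : Subgroup G} : f * x * f⁻¹ ∈ cj f P ↔ x ∈ P := by
  rw [mem_cj]
  have : f⁻¹ * (f * x * f⁻¹) * f = x := by group
  rw [this]

theorem cj_cj (f f' : G) (P : Subgroup G) : cj f (cj f' P) = cj (f * f') P := by
  ext x
  rw [mem_cj, mem_cj, mem_cj]
  have : (f * f')⁻¹ * x * (f * f') = f'⁻¹ * (f⁻¹ * x * f) * f' := by group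
  rw [this]

theorem cj_one (P : Subgroup G) : cj 1 P = P := by
  ext x
  rw [mem_cj]
  simp

theorem card_cj [Finite G] (f : G) (P : Subgroup G) : Nat.card (cj f P) = Nat.card P :=
  Nat.card_congr (P.equivMapOfInjective _ (MulAut.conj f).injective).toEquiv.symm

theorem Cen_conj (f g : G) : Cen (f * g * f⁻¹) = cj f (Cen g) := by
  ext x
  rw [mem_cj, mem_Cen, mem_Cen]
  constructor
  · intro h
    have : f⁻¹ * x * f * g = f⁻¹ * (x * (f * g * f⁻¹)) * f := by group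
    rw [this, h]
    group
  · intro h
    have h1 : x * (f * g * f⁻¹) = f * (f⁻¹ * x * f * g) * f⁻¹ := by group
    rw [h1, h]
    group

theorem Cen_inv (g : G) : Cen g⁻¹ = Cen g := by
  ext x
  rw [mem_Cen, mem_Cen]
  constructor
  · intro h
    calc x * g = g * (g⁻¹ * x) * g := by group
      _ = g * (x * g⁻¹) * g := by rw [h]
      _ = g * x := by group
  · intro h
    calc x * g⁻¹ = g⁻¹ * (g * x) * g⁻¹ := by group
      _ = g⁻¹ * (x * g) * g⁻¹ := by rw [h]
      _ = g⁻¹ * x := by group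

theorem orderOf_two_of {w : G} (h1 : w * w = 1) (h2 : w ≠ 1) : orderOf w = 2 :=
  orderOf_eq_prime (by rw [pow_two]; exact h1) h2

theorem sq_of_orderOf {w : G} (h : orderOf w = 2) : w * w = 1 := by
  have := pow_orderOf_eq_one w
  rw [h, pow_two] at this
  exact this

theorem ne_one_of_orderOf {w : G} (h : orderOf w = 2) : w ≠ 1 := by
  rintro rfl
  simp at h

theorem inv_of_orderOf {w : G} (h : orderOf w = 2) : w⁻¹ = w :=
  inv_eq_of_mul_eq_one_left (sq_of_orderOf h)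

theorem orderOf_conj' (f w : G) : orderOf (f * w * f⁻¹) = orderOf w := by
  have : f * w * f⁻¹ = (MulAut.conj f) w := by simp [MulAut.conj_apply]
  rw [this, MulEquiv.orderOf_eq]

/-- A fixed-point-free involutory automorphism inverts. -/
theorem fpf_inverts [Finite G] (A : Subgroup G) {u : G} (hu : u * u = 1)
    (hN : ∀ a ∈ A, u * a * u⁻¹ ∈ A) (hfix : ∀ a ∈ A, u * a * u⁻¹ = a → a = 1) :
    ∀ a ∈ A, u * a * u⁻¹ = a⁻¹ := by
  have huinv : u⁻¹ = u := inv_eq_of_mul_eq_one_left hu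
  let F : A → A := fun a => ⟨(a : G)⁻¹ * (u * a * u⁻¹), A.mul_mem (A.inv_mem a.2) (hN a a.2)⟩
  have hF : Function.Injective F := by
    intro a b hab
    have h1 : (a : G)⁻¹ * (u * a * u⁻¹) = (b : G)⁻¹ * (u * b * u⁻¹) := congrArg Subtype.val hab
    have h2 : u * ((b : G) * (a : G)⁻¹) * u⁻¹ = (b : G) * (a : G)⁻¹ := by
      have h3 : u * (b : G) * u⁻¹ = (b : G) * ((a : G)⁻¹ * (u * a * u⁻¹)) := by
        rw [h1]; group
      calc u * ((b : G) * (a : G)⁻¹) * u⁻¹ = (u * (b : G) * u⁻¹) * (u * a * u⁻¹)⁻¹ := by group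
        _ = (b : G) * ((a : G)⁻¹ * (u * a * u⁻¹)) * (u * a * u⁻¹)⁻¹ := by rw [h3]
        _ = (b : G) * (a : G)⁻¹ := by group
    have h3 := hfix _ (A.mul_mem b.2 (A.inv_mem a.2)) h2
    apply Subtype.ext
    exact (mul_inv_eq_one.mp h3).symm
  have hS := Finite.injective_iff_surjective.mp hF
  intro x hx
  obtain ⟨a, ha⟩ := hS ⟨x, hx⟩
  have h1 : (a : G)⁻¹ * (u * a * u⁻¹) = x := congrArg Subtype.val ha
  rw [← h1]
  have h2 : u * ((a : G)⁻¹ * (u * a * u⁻¹)) * u⁻¹ = (u * (a : G)⁻¹ * u⁻¹) * ((u * u) * a * (u * u)⁻¹) := by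
    group
  rw [h2, hu]
  simp only [one_mul, inv_one, mul_one, mul_inv_rev, inv_inv, huinv]
  group

theorem comm_of_inverted (A : Subgroup G) {u : G} (h : ∀ a ∈ A, u * a * u⁻¹ = a⁻¹) :
    ∀ a ∈ A, ∀ b ∈ A, a * b = b * a := by
  intro a ha b hb
  have h1 := h _ (A.mul_mem ha hb)
  have h2 : u * (a * b) * u⁻¹ = (u * a * u⁻¹) * (u * b * u⁻¹) := by group
  rw [h2, h a ha, h b hb] at h1
  have h3 : (a⁻¹ * b⁻¹)⁻¹ = ((a * b)⁻¹)⁻¹ := by rw [h1]
  simp only [mul_inv_rev, inv_inv] at h3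
  exact h3.symm

namespace Data

variable (D : Data G)

/-- Data based at a given conjugate. -/
theorem exists_map (f : G) : ∃ D' : Data G, D'.t = f * D.t * f⁻¹ ∧ D'.U = D.U ∧
    Nat.card D'.K = Nat.card D.K ∧ (∀ x ∈ D.K, f * x * f⁻¹ ∈ D'.K) := by
  refine ⟨D.map (MulAut.conj f), ?_, ?_, ?_, ?_⟩
  · simp [Data.map, MulAut.conj_apply]
  · ext g
    constructor
    · rintro ⟨a, x, ⟨y, hy, rfl⟩, h1, rfl⟩
      refine ⟨a * f, y, hy, ?_, ?_⟩
      · rintro rfl
        apply h1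
        simp
      · simp only [MulEquiv.coe_toMonoidHom, MulAut.conj_apply]
        group
    · rintro ⟨a, x, hx, h1, rfl⟩
      refine ⟨a * f⁻¹, f * x * f⁻¹, ⟨x, hx, ?_⟩, ?_, ?_⟩
      · simp [MulAut.conj_apply]
      · intro h
        apply h1
        have : x = f⁻¹ * (f * x * f⁻¹) * f := by group
        rw [this, h]
        group
      · group
  · exact Nat.card_congr (D.K.equivMapOfInjective _ (MulAut.conj f).injective).toEquiv.symm
  · intro x hx
    exact ⟨x, hx, by simp [MulAut.conj_apply]⟩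

/-- Data based at any involution. -/
theorem exists_at {w : G} (hw : orderOf w = 2) :
    ∃ D' : Data G, D'.t = w ∧ D'.U = D.U ∧ Nat.card D'.K = Nat.card D.K := by
  obtain ⟨c, hc⟩ := isConj_iff.mp (D.hconj D.t w D.ht hw)
  obtain ⟨D', h1, h2, h3, _⟩ := D.exists_map c
  exact ⟨D', by rw [h1, hc], h2, h3⟩

theorem mem_U_of_mem_K {x : G} (hx : x ∈ D.K) (h1 : x ≠ 1) : x ∈ D.U :=
  ⟨1, x, hx, h1, by group⟩

/-- The Data containing an element of `U`. -/
theorem exists_of_U {y : G} (hy : y ∈ D.U) :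
    ∃ D' : Data G, y ∈ D'.K ∧ D'.U = D.U ∧ Nat.card D'.K = Nat.card D.K := by
  obtain ⟨f, x, hx, _, rfl⟩ := hy
  obtain ⟨D', _, h2, h3, h4⟩ := D.exists_map f
  exact ⟨D', h4 x hx, h2, h3⟩

/-- `g` is neither trivial nor in `U`. -/
def IsZ (g : G) : Prop := g ≠ 1 ∧ g ∉ D.U

variable {D}

theorem IsZ.conj {g : G} (h : D.IsZ g) (f : G) : D.IsZ (f * g * f⁻¹) := by
  refine ⟨?_, ?_⟩
  · intro h1
    apply h.1
    have : g = f⁻¹ * (f * g * f⁻¹) * f := by group
    rw [this, h1]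
    group
  · intro h1
    apply h.2
    have := D.conj_mem_U h1 f⁻¹
    have h2 : f⁻¹ * (f * g * f⁻¹) * f⁻¹⁻¹ = g := by group
    rwa [h2] at this

theorem IsZ.not_invol {g : G} (h : D.IsZ g) : orderOf g ≠ 2 := fun h1 => h.2 (D.invol_mem_U h1)

theorem IsZ.sq_ne {g : G} (h : D.IsZ g) : g * g ≠ 1 := fun h1 => h.not_invol (orderOf_two_of h1 h.1)

theorem IsZ.inv {g : G} (h : D.IsZ g) : D.IsZ g⁻¹ := by
  refine ⟨inv_ne_one.mpr h.1, ?_⟩
  rintro ⟨f, x, hx, h1, h2⟩
  apply h.2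
  refine ⟨f, x⁻¹, D.K.inv_mem hx, inv_ne_one.mpr h1, ?_⟩
  have : g = (g⁻¹)⁻¹ := by group
  rw [this, h2]
  group

/-- No involution commutes with `g`. -/
theorem IsZ.no_invol {g : G} (h : D.IsZ g) {w : G} (hw : w ∈ Cen g) (h2 : w * w = 1) : w = 1 := by
  by_contra hne
  have hw2 : orderOf w = 2 := orderOf_two_of h2 hne
  obtain ⟨D', h3, h4, _⟩ := D.exists_at hw2
  have hg : g ∈ D'.H := by
    rw [D'.mem_H, h3]
    exact (mem_Cen.mp hw).symm
  rcases D'.mem_H_iff.mp hg with h5 | ⟨k, hk, h5⟩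
  · apply h.2
    rw [← h4]
    exact D'.mem_U_of_mem_K h5 h.1
  · apply h.not_invol
    rw [h5]
    exact D'.orderOf_mul_s hk

/-- An element of a `K`, not of order two, has centralizer `K`. -/
theorem Cen_of_U {y : G} (hy : y ∈ D.U) (h2 : y * y ≠ 1) :
    ∃ D' : Data G, Cen y = D'.K ∧ y ∈ D'.K ∧ D'.U = D.U ∧ Nat.card D'.K = Nat.card D.K := by
  obtain ⟨D', h3, h4, h5⟩ := D.exists_of_U hy
  exact ⟨D', D'.centralizer_eq_K h3 h2, h3, h4, h5⟩

/-- The non-identity elements of the centralizer of `g` lie off `U`. -/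
theorem IsZ.of_mem_Cen {g : G} (h : D.IsZ g) {y : G} (hy : y ∈ Cen g) (h1 : y ≠ 1) : D.IsZ y := by
  refine ⟨h1, fun hU => ?_⟩
  have hsq : y * y ≠ 1 := fun h2 => h1 (h.no_invol hy h2)
  obtain ⟨D', h3, _, h5, _⟩ := Cen_of_U hU hsq
  have hg : g ∈ D'.K := by
    rw [← h3]
    exact mem_Cen_comm.mp hy
  apply h.2
  rw [← h5]
  exact D'.mem_U_of_mem_K hg h.1

/-- An involution fixes no non-identity element of `Z`. -/
theorem IsZ.no_fix {y : G} (h : D.IsZ y) {u : G} (hu : orderOf u = 2) : u * y * u⁻¹ ≠ y := by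
  intro h1
  obtain ⟨D', h3, h4, _⟩ := D.exists_at hu
  have hy : y ∈ D'.H := by
    rw [D'.mem_H, h3]
    have h2 : u * y = y * u := by
      nth_rewrite 2 [← h1]
      group
    exact h2.symm
  rcases D'.mem_H_iff.mp hy with h5 | ⟨k, hk, h5⟩
  · apply h.2
    rw [← h4]
    exact D'.mem_U_of_mem_K h5 h.1
  · apply h.not_invol
    rw [h5]
    exact D'.orderOf_mul_s hk

variable [Finite G]

/-- If an involution inverts `g`, it inverts the centralizer of `g`. -/
theorem IsZ.inverts {g : G} (h : D.IsZ g) {u : G} (hu : orderOf u = 2) (hg : u * g * u⁻¹ = g⁻¹) :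
    ∀ c ∈ Cen g, u * c * u⁻¹ = c⁻¹ := by
  apply fpf_inverts (Cen g) (sq_of_orderOf hu)
  · intro a ha
    have h1 : u * a * u⁻¹ ∈ Cen (u * g * u⁻¹) := by
      rw [Cen_conj]
      exact conj_mem_cj.mpr ha
    rw [hg, Cen_inv] at h1
    exact h1
  · intro a ha h1
    by_contra hne
    exact (h.of_mem_Cen ha hne).no_fix hu h1

theorem IsZ.Cen_comm {g : G} (h : D.IsZ g) {u : G} (hu : orderOf u = 2) (hg : u * g * u⁻¹ = g⁻¹) :
    ∀ a ∈ Cen g, ∀ b ∈ Cen g, a * b = b * a :=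
  comm_of_inverted _ (h.inverts hu hg)

/-- The condition defining `I` for elements of `Z`. -/
theorem IsZ.invol_iff {g : G} (h : D.IsZ g) (u : G) :
    (orderOf u = 2 ∧ orderOf (u * g) = 2) ↔ (orderOf u = 2 ∧ u * g * u⁻¹ = g⁻¹) := by
  constructor
  · rintro ⟨h1, h2⟩
    refine ⟨h1, ?_⟩
    have h3 := sq_of_orderOf h2
    rw [inv_of_orderOf h1]
    have h4 : (u * g * u) * g = 1 := by
      rw [← h3]
      group
    exact eq_inv_of_mul_eq_one_left h4
  · rintro ⟨h1, h2⟩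
    refine ⟨h1, orderOf_two_of ?_ ?_⟩
    · rw [inv_of_orderOf h1] at h2
      have : u * g * (u * g) = (u * g * u) * g := by group
      rw [this, h2]
      group
    · intro h3
      apply h.not_invol
      have : g = u⁻¹ := eq_inv_of_mul_eq_one_right h3
      rw [this, inv_of_orderOf h1]
      exact h1

theorem IsZ.exists_inverter {g : G} (h : D.IsZ g) (hI : I g ≠ 0) :
    ∃ u, orderOf u = 2 ∧ u * g * u⁻¹ = g⁻¹ := by
  rw [I] at hI
  have : Nonempty {u : G // orderOf u = 2 ∧ orderOf (u * g) = 2} := by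
    by_contra hne
    rw [not_nonempty_iff] at hne
    exact hI Nat.card_of_isEmpty
  obtain ⟨⟨u, hu⟩⟩ := this
  exact ⟨u, (h.invol_iff u).mp hu⟩

theorem IsZ.I_ne_zero {g : G} (h : D.IsZ g) {u : G} (hu : orderOf u = 2)
    (hg : u * g * u⁻¹ = g⁻¹) : I g ≠ 0 := by
  rw [I]
  have : Nonempty {u : G // orderOf u = 2 ∧ orderOf (u * g) = 2} :=
    ⟨⟨u, (h.invol_iff u).mpr ⟨hu, hg⟩⟩⟩
  exact Nat.card_pos.ne'

/-- The number of inverting involutions is the order of the centralizer. -/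
theorem IsZ.I_eq {g : G} (h : D.IsZ g) {u : G} (hu : orderOf u = 2) (hg : u * g * u⁻¹ = g⁻¹) :
    I g = Nat.card (Cen g) := by
  rw [I]
  have huinv := inv_of_orderOf hu
  have hsq := sq_of_orderOf hu
  have hinv := h.inverts hu hg
  refine Nat.card_congr ⟨fun v => ⟨v.1 * u, ?_⟩, fun c => ⟨c.1 * u, ?_⟩, ?_, ?_⟩
  · obtain ⟨h1, h2⟩ := (h.invol_iff v.1).mp v.2
    rw [mem_Cen]
    have h3 : v.1 * u * g = v.1 * (u * g * u⁻¹) * u := by group
    rw [h3, hg]
    have h4 : v.1 * g⁻¹ * u = (v.1 * g⁻¹ * v.1⁻¹) * (v.1 * u) := by group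
    rw [h4]
    have h5 : v.1 * g⁻¹ * v.1⁻¹ = g := by
      have : v.1 * g⁻¹ * v.1⁻¹ = (v.1 * g * v.1⁻¹)⁻¹ := by group
      rw [this, h2, inv_inv]
    rw [h5]
  · apply (h.invol_iff _).mpr
    have hc := c.2
    constructor
    · apply orderOf_two_of
      · have h3 : c.1 * u * (c.1 * u) = c.1 * (u * c.1 * u⁻¹) * (u * u) := by
          group
        rw [h3, hinv c.1 hc, hsq]
        group
      · intro h3
        have h4 : u = c.1⁻¹ := eq_inv_of_mul_eq_one_right h3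
        have h5 : u ∈ Cen g := by
          rw [h4]
          exact (Cen g).inv_mem hc
        exact ne_one_of_orderOf hu (h.no_invol h5 hsq)
    · have h3 : c.1 * u * g * (c.1 * u)⁻¹ = c.1 * (u * g * u⁻¹) * c.1⁻¹ := by group
      rw [h3, hg]
      have hc' : c.1 ∈ Cen g⁻¹ := by rw [Cen_inv]; exact hc
      rw [mem_Cen.mp hc']
      group
  · intro v
    apply Subtype.ext
    show v.1 * u * u = v.1
    rw [mul_assoc, hsq, mul_one]
  · intro c
    apply Subtype.ext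
    show c.1 * u * u = c.1
    rw [mul_assoc, hsq, mul_one]

/-- Centralizers of real elements of `Z` form a partition. -/
theorem IsZ.Cen_eq {g : G} (h : D.IsZ g) {u : G} (hu : orderOf u = 2) (hg : u * g * u⁻¹ = g⁻¹)
    {y : G} (hy : y ∈ Cen g) (h1 : y ≠ 1) : Cen y = Cen g := by
  have hZ := h.of_mem_Cen hy h1
  have hyinv := h.inverts hu hg y hy
  apply le_antisymm
  · intro x hx
    rw [mem_Cen]
    exact hZ.Cen_comm hu hyinv x hx g (mem_Cen_comm.mp hy)
  · intro x hx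
    rw [mem_Cen]
    exact h.Cen_comm hu hg x hx y hy

end Data

theorem orderOf_conj'' (f x : G) : orderOf (f⁻¹ * x * f) = orderOf x := by
  have := orderOf_conj' f⁻¹ x
  rwa [inv_inv] at this

/-- `I` is conjugation invariant. -/
theorem I_conj [Finite G] (f g : G) : I (f * g * f⁻¹) = I g := by
  rw [I, I]
  refine Nat.card_congr ⟨fun v => ⟨f⁻¹ * v.1 * f, ?_, ?_⟩, fun v => ⟨f * v.1 * f⁻¹, ?_, ?_⟩, ?_, ?_⟩
  · rw [orderOf_conj'']
    exact v.2.1
  · have h1 : f⁻¹ * v.1 * f * g = f⁻¹ * (v.1 * (f * g * f⁻¹)) * f := by group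
    rw [h1, orderOf_conj'']
    exact v.2.2
  · rw [orderOf_conj']
    exact v.2.1
  · have h1 : f * v.1 * f⁻¹ * (f * g * f⁻¹) = f * (v.1 * g) * f⁻¹ := by group
    rw [h1, orderOf_conj']
    exact v.2.2
  · intro v
    apply Subtype.ext
    show f * (f⁻¹ * v.1 * f) * f⁻¹ = v.1
    group
  · intro v
    apply Subtype.ext
    show f⁻¹ * (f * v.1 * f⁻¹) * f = v.1
    group

end Cfsg.Agent.Lib.BSW
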