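import Mathlib
import Cfsg.Agent.Lib.BSWGroup

/-!
# Abstract Brauer--Suzuki--Wall: a doubly transitive system of self-centralizing subgroups
-/

set_option autoImplicit false
set_option linter.unusedSectionVars false

namespace Cfsg.Agent.Lib.BSW

universe u

variable {G : Type u} [Group G] [Finite G]

theorem card_ne_one_sub (P : Subgroup G) : Nat.card {x : G // x ∈ P ∧ x ≠ 1} = Nat.card P - 1 := by
  classical
  let _ : Fintype P := Fintype.ofFinite P
  have e : {x : G // x ∈ P ∧ x ≠ 1} ≃ {x : P // x ≠ 1} :=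
    { toFun := fun x => ⟨⟨x.1, x.2.1⟩, fun h => x.2.2 (congrArg Subtype.val h)⟩
      invFun := fun x => ⟨x.1.1, x.1.2, fun h => x.2 (Subtype.ext h)⟩
      left_inv := fun _ => rfl
      right_inv := fun _ => rfl }
  rw [Nat.card_congr e, Nat.card_eq_fintype_card, Fintype.card_subtype_compl, Nat.card_eq_fintype_card]
  simp

/-- A fixed-point-free element of prime order. -/
theorem prime_dvd_of_free (P : Subgroup G) {h : G} {p : ℕ} (hp : p.Prime) (hh : orderOf h = p)
    (hN : ∀ x ∈ P, h * x * h⁻¹ ∈ P) (hfix : ∀ x ∈ P, x ≠ 1 → h * x * h⁻¹ ≠ x) :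
    p ∣ Nat.card P - 1 := by
  classical
  have : Fact p.Prime := ⟨hp⟩
  let _ : Fintype {x : G // x ∈ P ∧ x ≠ 1} := Fintype.ofFinite _
  let τ : {x : G // x ∈ P ∧ x ≠ 1} → {x : G // x ∈ P ∧ x ≠ 1} := fun x =>
    ⟨h * x.1 * h⁻¹, hN x.1 x.2.1, fun h1 => x.2.2 (by
      have : x.1 = h⁻¹ * (h * x.1 * h⁻¹) * h := by group
      rw [this, h1]
      group)⟩
  let f : Function.End {x : G // x ∈ P ∧ x ≠ 1} := τ
  have hf : f ^ p ^ 1 = 1 := by
    rw [pow_one]
    funext u
    have h1 : ∀ i : ℕ, ((f ^ i : Function.End _) u).1 = h ^ i * u.1 * (h ^ i)⁻¹ := by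
      intro i
      induction i with
      | zero => simp; rfl
      | succ i ih =>
        rw [pow_succ', pow_succ']
        show h * ((f ^ i : Function.End _) u).1 * h⁻¹ = _
        rw [ih]
        group
    apply Subtype.ext
    rw [h1, ← hh, pow_orderOf_eq_one]
    simp
    rfl
  have h1 := Equiv.Perm.card_fixedPoints_modEq hf
  have h2 : Fintype.card (Function.fixedPoints f) = 0 := by
    rw [Fintype.card_eq_zero_iff]
    refine ⟨fun x => ?_⟩
    have h3 : τ x.1 = x.1 := x.2
    exact hfix x.1.1 x.1.2.1 x.1.2.2 (congrArg Subtype.val h3)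
  rw [h2] at h1
  have h3 : p ∣ Fintype.card {x : G // x ∈ P ∧ x ≠ 1} := (Nat.modEq_zero_iff_dvd).1 h1
  rw [← Nat.card_eq_fintype_card, card_ne_one_sub] at h3
  exact h3

/-- A subgroup of order `q` all of whose non-identity elements have centralizer the subgroup. -/
structure Good (q : ℕ) (P : Subgroup G) : Prop where
  card : Nat.card P = q
  cen : ∀ y ∈ P, y ≠ 1 → Cen y = P

namespace Good

variable {q : ℕ} {P P' : Subgroup G}

theorem comm (hP : Good q P) : ∀ a ∈ P, ∀ b ∈ P, a * b = b * a := by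
  intro a ha b hb
  by_cases h : b = 1
  · rw [h]; simp
  · have : a ∈ Cen b := by rw [hP.cen b hb h]; exact ha
    exact mem_Cen.mp this

theorem conj (hP : Good q P) (f : G) : Good q (cj f P) := by
  refine ⟨by rw [card_cj]; exact hP.card, ?_⟩
  intro y hy h1
  have h2 := mem_cj.mp hy
  have h3 : f⁻¹ * y * f ≠ 1 := by
    intro h
    apply h1
    have : y = f * (f⁻¹ * y * f) * f⁻¹ := by group
    rw [this, h]
    group
  have h4 := hP.cen _ h2 h3
  have h5 : y = f * (f⁻¹ * y * f) * f⁻¹ := by group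
  rw [h5, Cen_conj, h4]

theorem eq_of_mem (hP : Good q P) (hP' : Good q P') {y : G} (h1 : y ∈ P) (h2 : y ∈ P') (h3 : y ≠ 1) :
    P = P' := by
  rw [← hP.cen y h1 h3, hP'.cen y h2 h3]

/-- A non-trivial element of `P` does not normalize another `P'`. -/
theorem norm_trivial (hP : Good q P) (hP' : Good q P') (hne : P ≠ P') {h : G} (hh : h ∈ P)
    (hN : ∀ x ∈ P', h * x * h⁻¹ ∈ P') : h = 1 := by
  by_contra h1
  have hn : orderOf h ≠ 1 := fun h2 => h1 (orderOf_eq_one_iff.mp h2)
  have hn0 : orderOf h ≠ 0 := (orderOf_pos h).ne'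
  have hp := Nat.minFac_prime hn
  set p := (orderOf h).minFac with hpdef
  have hdvd : p ∣ orderOf h := Nat.minFac_dvd _
  set h₀ := h ^ (orderOf h / p) with hh₀
  have ho : orderOf h₀ = p := orderOf_pow_orderOf_div hn0 hdvd
  have h₀P : h₀ ∈ P := P.pow_mem hh _
  have h₀1 : h₀ ≠ 1 := by
    intro h2
    rw [h2, orderOf_one] at ho
    exact hp.one_lt.ne ho
  have hN' : ∀ j : ℕ, ∀ x ∈ P', h ^ j * x * (h ^ j)⁻¹ ∈ P' := by
    intro j
    induction j with
    | zero => intro x hx; simpa using hx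
    | succ j ih =>
      intro x hx
      have h2 : h ^ (j + 1) * x * (h ^ (j + 1))⁻¹ = h * (h ^ j * x * (h ^ j)⁻¹) * h⁻¹ := by
        rw [pow_succ']
        group
      rw [h2]
      exact hN _ (ih x hx)
  have hd1 := prime_dvd_of_free P' hp ho (hN' _) (by
    intro x hx hx1 hfix
    have h2 : h₀ ∈ Cen x := by
      rw [mem_Cen]
      nth_rewrite 2 [← hfix]
      group
    rw [hP'.cen x hx hx1] at h2
    exact hne (hP.eq_of_mem hP' h₀P h2 h₀1) )
  have hd2 : p ∣ q := by
    rw [← hP.card]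
    exact hdvd.trans (Subgroup.orderOf_dvd_natCard P hh)
  rw [hP'.card] at hd1
  have hq : 0 < q := by rw [← hP.card]; exact Nat.card_pos
  have hd3 : p ∣ 1 := by
    have := Nat.dvd_sub hd2 hd1
    have h3 : q - (q - 1) = 1 := by omega
    rwa [h3] at this
  exact hp.one_lt.ne' (Nat.dvd_one.mp hd3)

end Good

theorem cj_self_of_mem {P : Subgroup G} {h : G} (hh : h ∈ P) : cj h P = P := by
  ext x
  rw [mem_cj]
  constructor
  · intro h1
    have : x = h * (h⁻¹ * x * h) * h⁻¹ := by group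
    rw [this]
    exact P.mul_mem (P.mul_mem hh h1) (P.inv_mem hh)
  · intro h1
    exact P.mul_mem (P.mul_mem (P.inv_mem hh) h1) hh

theorem mem_N_iff {P : Subgroup G} {f : G} :
    f ∈ Subgroup.normalizer (P : Set G) ↔ cj f P = P := by
  rw [Subgroup.mem_normalizer_iff]
  constructor
  · intro h
    ext x
    rw [mem_cj]
    have h1 := h (f⁻¹ * x * f)
    have h2 : f * (f⁻¹ * x * f) * f⁻¹ = x := by group
    rw [h2] at h1
    exact h1
  · intro h x
    nth_rewrite 2 [← h]
    exact conj_mem_cj.symm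

theorem cj_eq_of_N {P : Subgroup G} {f : G} (h : f ∈ Subgroup.normalizer (P : Set G)) : cj f P = P :=
  mem_N_iff.mp h

theorem mem_N_of_forall {P : Subgroup G} {f : G} (h : ∀ x ∈ P, f * x * f⁻¹ ∈ P) :
    f ∈ Subgroup.normalizer (P : Set G) := by
  classical
  rw [mem_N_iff]
  have h1 : cj f P ≤ P := by
    intro y hy
    have := h _ (mem_cj.mp hy)
    have h2 : f * (f⁻¹ * y * f) * f⁻¹ = y := by group
    rwa [h2] at this
  exact Subgroup.eq_of_le_of_card_ge h1 (by rw [card_cj])

theorem forall_of_N {P : Subgroup G} {f : G} (h : f ∈ Subgroup.normalizer (P : Set G)) :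
    ∀ x ∈ P, f * x * f⁻¹ ∈ P := by
  intro x hx
  rw [← cj_eq_of_N h]
  exact conj_mem_cj.mpr hx

/-- Orbit-stabilizer for the conjugation action. -/
theorem orbit_card (A P : Subgroup G) (S : Finset (Subgroup G))
    (h : ∀ R, R ∈ S ↔ ∃ a ∈ A, R = cj a P) :
    Nat.card A = S.card * Nat.card (A ⊓ Subgroup.normalizer (P : Set G) : Subgroup G) := by
  classical
  let _ : Fintype A := Fintype.ofFinite A
  have h1 : (Finset.univ : Finset A).card =
      ∑ R ∈ S, ((Finset.univ : Finset A).filter (fun a : A => cj (a : G) P = R)).card :=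
    Finset.card_eq_sum_card_fiberwise (fun (a : A) _ => (h (cj (a : G) P)).mpr ⟨a.1, a.2, rfl⟩)
  have h2 : ∀ R ∈ S, ((Finset.univ : Finset A).filter (fun a : A => cj (a : G) P = R)).card =
      Nat.card (A ⊓ Subgroup.normalizer (P : Set G) : Subgroup G) := by
    intro R hR
    obtain ⟨a₀, ha₀, rfl⟩ := (h R).mp hR
    rw [← Fintype.card_subtype, ← Nat.card_eq_fintype_card]
    have e : {a : A // cj (a : G) P = cj a₀ P} ≃
        ↥(A ⊓ Subgroup.normalizer (P : Set G) : Subgroup G) :=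
      { toFun := fun a => ⟨a₀⁻¹ * a.1.1, A.mul_mem (A.inv_mem ha₀) a.1.2, by
          show a₀⁻¹ * a.1.1 ∈ Subgroup.normalizer (P : Set G)
          rw [mem_N_iff, ← cj_cj, a.2, cj_cj]
          simp [cj_one]⟩
        invFun := fun b => ⟨⟨a₀ * b.1, A.mul_mem ha₀ b.2.1⟩, by
          have := cj_eq_of_N b.2.2
          show cj (a₀ * b.1) P = cj a₀ P
          rw [← cj_cj, this]⟩
        left_inv := by
          intro a
          apply Subtype.ext
          apply Subtype.ext
          simp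
        right_inv := by
          intro b
          apply Subtype.ext
          simp }
    exact Nat.card_congr e
  rw [Nat.card_eq_fintype_card, ← Finset.card_univ, h1, Finset.sum_congr rfl h2, Finset.sum_const,
    smul_eq_mul]

/-- A conjugation-closed system of `q + 1` self-centralizing subgroups of order `q`. -/
structure Sys (q : ℕ) (Ω : Finset (Subgroup G)) : Prop where
  good : ∀ P ∈ Ω, Good q P
  conj : ∀ P ∈ Ω, ∀ f, cj f P ∈ Ω
  card : Ω.card = q + 1
  q2 : 2 ≤ q

namespace Sys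

variable {q : ℕ} {Ω : Finset (Subgroup G)} (hS : Sys q Ω) {P P' P'' : Subgroup G}

include hS

/-- `P` acts regularly on the rest of the system. -/
theorem regular (hP : P ∈ Ω) (hP' : P' ∈ Ω) (hne : P' ≠ P) (hP'' : P'' ∈ Ω) (hne' : P'' ≠ P) :
    ∃ h ∈ P, P'' = cj h P' := by
  classical
  let _ : Fintype P := Fintype.ofFinite P
  have hgP := hS.good P hP
  have hgP' := hS.good P' hP'
  set F := (Finset.univ : Finset P).image (fun h : P => cj (h : G) P') with hF
  have hinj : Function.Injective (fun h : P => cj (h : G) P') := by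
    intro a b hab
    have hab' : cj (a : G) P' = cj (b : G) P' := hab
    have h1 : (b : G)⁻¹ * a = 1 := by
      apply hgP.norm_trivial hgP' hne.symm (P.mul_mem (P.inv_mem b.2) a.2)
      intro x hx
      have h2 : (a : G) * x * (a : G)⁻¹ ∈ cj (a : G) P' := conj_mem_cj.mpr hx
      rw [hab', mem_cj] at h2
      have h3 : (b : G)⁻¹ * a * x * ((b : G)⁻¹ * a)⁻¹ =
          (b : G)⁻¹ * ((a : G) * x * (a : G)⁻¹) * b := by group
      rw [h3]
      exact h2
    apply Subtype.ext
    have := inv_mul_eq_one.mp h1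
    exact this.symm
  have hsub : F ⊆ Ω.erase P := by
    intro R hR
    obtain ⟨h, _, rfl⟩ := Finset.mem_image.mp hR
    refine Finset.mem_erase.mpr ⟨?_, hS.conj P' hP' h⟩
    intro h1
    apply hne
    have h2 : cj (h : G)⁻¹ (cj (h : G) P') = P' := by
      rw [cj_cj]; simp [cj_one]
    rw [← h2, h1]
    exact cj_self_of_mem (P.inv_mem h.2)
  have hcard : (Ω.erase P).card ≤ F.card := by
    rw [Finset.card_erase_of_mem hP, hS.card, hF, Finset.card_image_of_injective _ hinj,
      Finset.card_univ, ← Nat.card_eq_fintype_card, hgP.card]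
    omega
  have heq := Finset.eq_of_subset_of_card_le hsub hcard
  have h1 : P'' ∈ F := by
    rw [heq]
    exact Finset.mem_erase.mpr ⟨hne', hP''⟩
  obtain ⟨h, _, h2⟩ := Finset.mem_image.mp h1
  exact ⟨h, h.2, h2.symm⟩

/-- The system is a single conjugacy class. -/
theorem transitive (hP : P ∈ Ω) (hP' : P' ∈ Ω) : ∃ f, P' = cj f P := by
  classical
  by_cases hne : P' = P
  · exact ⟨1, by rw [cj_one, hne]⟩
  · have h1 : 0 < ((Ω.erase P).erase P').card := by
      rw [Finset.card_erase_of_mem (Finset.mem_erase.mpr ⟨hne, hP'⟩),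
        Finset.card_erase_of_mem hP, hS.card]
      have := hS.q2
      omega
    obtain ⟨R, hR⟩ := Finset.card_pos.mp h1
    have hR1 := Finset.mem_erase.mp hR
    have hR2 := Finset.mem_erase.mp hR1.2
    obtain ⟨h, _, h2⟩ := hS.regular hR2.2 hP hR2.1.symm hP' hR1.1.symm
    exact ⟨h, h2⟩

/-- The order of the stabilizer of two points. -/
theorem card_G (hP : P ∈ Ω) (hP' : P' ∈ Ω) (hne : P' ≠ P) :
    Nat.card G = (q + 1) * (q * Nat.card
      (Subgroup.normalizer (P : Set G) ⊓ Subgroup.normalizer (P' : Set G) : Subgroup G)) := by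
  classical
  have h1 := orbit_card ⊤ P Ω (by
    intro R
    constructor
    · intro hR
      obtain ⟨f, hf⟩ := hS.transitive hP hR
      exact ⟨f, Subgroup.mem_top _, hf⟩
    · rintro ⟨a, _, rfl⟩
      exact hS.conj P hP a)
  rw [Subgroup.card_top, top_inf_eq, hS.card] at h1
  have h2 := orbit_card (Subgroup.normalizer (P : Set G)) P' (Ω.erase P) (by
    intro R
    constructor
    · intro hR
      obtain ⟨hR1, hR2⟩ := Finset.mem_erase.mp hR
      obtain ⟨h, hh, h3⟩ := hS.regular hP hP' hne hR2 hR1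
      exact ⟨h, Subgroup.le_normalizer hh, h3⟩
    · rintro ⟨a, ha, rfl⟩
      refine Finset.mem_erase.mpr ⟨?_, hS.conj P' hP' a⟩
      intro h3
      apply hne
      have h2 : cj a⁻¹ (cj a P') = P' := by
        rw [cj_cj]; simp [cj_one]
      rw [← h2, h3]
      exact cj_eq_of_N ((Subgroup.normalizer (P : Set G)).inv_mem ha))
  rw [Finset.card_erase_of_mem hP, hS.card] at h2
  simp only [Nat.add_sub_cancel] at h2
  rw [h1, h2]

/-- `N(P) = P D`, elementwise. -/
theorem exists_decomp (hP : P ∈ Ω) (hP' : P' ∈ Ω) (hne : P' ≠ P) {n : G}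
    (hn : n ∈ Subgroup.normalizer (P : Set G)) :
    ∃ h ∈ P, h⁻¹ * n ∈ Subgroup.normalizer (P' : Set G) := by
  have h1 : cj n P' ≠ P := by
    intro h3
    apply hne
    have h2 : cj n⁻¹ (cj n P') = P' := by
      rw [cj_cj]; simp [cj_one]
    rw [← h2, h3]
    exact cj_eq_of_N ((Subgroup.normalizer (P : Set G)).inv_mem hn)
  obtain ⟨h, hh, h2⟩ := hS.regular hP hP' hne (hS.conj P' hP' n) h1
  refine ⟨h, hh, mem_N_iff.mpr ?_⟩
  rw [← cj_cj, h2, cj_cj]
  simp [cj_one]

theorem N_eq_sup (hP : P ∈ Ω) (hP' : P' ∈ Ω) (hne : P' ≠ P) :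
    Subgroup.normalizer (P : Set G) =
      P ⊔ (Subgroup.normalizer (P : Set G) ⊓ Subgroup.normalizer (P' : Set G)) := by
  apply le_antisymm
  · intro n hn
    obtain ⟨h, hh, h2⟩ := hS.exists_decomp hP hP' hne hn
    have h3 : n = h * (h⁻¹ * n) := by group
    rw [h3]
    refine Subgroup.mul_mem _ (Subgroup.mem_sup_left hh) (Subgroup.mem_sup_right ⟨?_, h2⟩)
    exact Subgroup.mul_mem _ (Subgroup.inv_mem _ (Subgroup.le_normalizer hh)) hn
  · exact sup_le Subgroup.le_normalizer inf_le_left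

theorem inf_eq_bot (hP : P ∈ Ω) (hP' : P' ∈ Ω) (hne : P' ≠ P) :
    P ⊓ (Subgroup.normalizer (P : Set G) ⊓ Subgroup.normalizer (P' : Set G)) = ⊥ := by
  rw [eq_bot_iff]
  rintro h ⟨h1, _, h3⟩
  rw [Subgroup.mem_bot]
  exact (hS.good P hP).norm_trivial (hS.good P' hP') hne.symm h1 (forall_of_N h3)

end Sys

/-- Building the system from the elements of `Z₀`. -/
theorem Sys.of_elements {q : ℕ} (Z₀ : Finset G) [DecidableEq (Subgroup G)]
    (hne : ∀ g ∈ Z₀, g ≠ 1)
    (hgood : ∀ g ∈ Z₀, Good q (Cen g))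
    (hsub : ∀ g ∈ Z₀, ∀ y ∈ Cen g, y ≠ 1 → y ∈ Z₀)
    (hconj : ∀ g ∈ Z₀, ∀ f, f * g * f⁻¹ ∈ Z₀)
    (hcard : Z₀.card + 1 = q * q) (hq : 2 ≤ q) :
    Sys q (Z₀.image (fun g => Cen g)) := by
  classical
  refine ⟨?_, ?_, ?_, hq⟩
  · intro P hP
    obtain ⟨g, hg, rfl⟩ := Finset.mem_image.mp hP
    exact hgood g hg
  · intro P hP f
    obtain ⟨g, hg, rfl⟩ := Finset.mem_image.mp hP
    rw [← Cen_conj]
    exact Finset.mem_image_of_mem _ (hconj g hg f)
  · let _ : Fintype G := Fintype.ofFinite G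
    have h1 : Z₀.card = ∑ P ∈ Z₀.image (fun g => Cen g), (Z₀.filter (fun g => Cen g = P)).card :=
      Finset.card_eq_sum_card_image _ _
    have h2 : ∀ P ∈ Z₀.image (fun g => Cen g), (Z₀.filter (fun g => Cen g = P)).card = q - 1 := by
      intro P hP
      obtain ⟨g, hg, rfl⟩ := Finset.mem_image.mp hP
      have h3 := hgood g hg
      rw [← h3.card, ← card_ne_one_sub]
      let _ : Fintype {x : G // x ∈ Cen g ∧ x ≠ 1} := Fintype.ofFinite _
      rw [Nat.card_eq_fintype_card, Fintype.card_subtype]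
      congr 1
      ext y
      simp only [Finset.mem_filter, Finset.mem_univ, true_and]
      constructor
      · rintro ⟨hy, hy2⟩
        refine ⟨?_, hne y hy⟩
        rw [← hy2]
        exact self_mem_Cen y
      · rintro ⟨hy, hy2⟩
        exact ⟨hsub g hg y hy hy2, h3.cen y hy hy2⟩
    rw [Finset.sum_congr rfl h2, Finset.sum_const, smul_eq_mul] at h1
    set c := (Z₀.image (fun g => Cen g)).card
    have h4 : c * (q - 1) + 1 = q * q := by rw [← h1]; exact hcard
    obtain ⟨r, rfl⟩ : ∃ r, q = r + 1 := ⟨q - 1, by omega⟩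
    simp only [Nat.add_sub_cancel] at h4
    have h5 : r ≠ 0 := by omega
    have h6 : c * r = (r + 1 + 1) * r := by nlinarith
    exact Nat.eq_of_mul_eq_mul_right (Nat.pos_of_ne_zero h5) h6

end Cfsg.Agent.Lib.BSW
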