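import Mathlib
import Cfsg.Agent.Lib.BSWTI

/-!
# Abstract Brauer--Suzuki--Wall: the case `q = 2 |K| + 1`
-/

set_option autoImplicit false
set_option linter.unusedSectionVars false

namespace Cfsg.Agent.Lib.BSW

universe u

variable {G : Type u} [Group G] [Finite G]

/-- The conclusion of the theorem. -/
def Concl (G : Type u) [Group G] : Prop :=
  ∃ Q D : Subgroup G, 2 * Nat.card G = Nat.card ↥Q * (Nat.card ↥Q + 1) * (Nat.card ↥Q - 1) ∧
      (∀ x ∈ Q, x ≠ 1 → Subgroup.centralizer ({x} : Set G) = Q) ∧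
      IsMulCommutative ↥D ∧ 2 * Nat.card ↥D + 1 = Nat.card ↥Q ∧ Q ⊓ D = ⊥ ∧
      Subgroup.normalizer (Q : Set G) = Q ⊔ D ∧
      ∀ X : Subgroup G, X ≤ D → X ≠ ⊥ →
        Subgroup.normalizer (X : Set G) = Subgroup.normalizer (D : Set G) ∧
        ∃ u : G, orderOf u = 2 ∧ u ∉ D ∧ (∀ d ∈ D, u * d * u⁻¹ = d⁻¹) ∧
          Subgroup.normalizer (D : Set G) = D ⊔ Subgroup.zpowers u

theorem isMulCommutative_of {D : Subgroup G} (h : ∀ a ∈ D, ∀ b ∈ D, a * b = b * a) :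
    IsMulCommutative ↥D :=
  ⟨⟨fun a b => Subtype.ext (h a a.2 b b.2)⟩⟩

/-- The normalizer of a non-trivial subgroup of `K`. -/
theorem Data.normalizer_eq (D : Data G) {X : Subgroup G} (hX : X ≤ D.K) (h : X ≠ ⊥) :
    Subgroup.normalizer (X : Set G) = D.H := by
  apply le_antisymm
  · intro f hf
    obtain ⟨x, hx, h1⟩ := X.bot_or_exists_ne_one.resolve_left h
    exact D.mem_H_of_conj_mem (hX hx) h1 (hX (forall_of_N hf x hx))
  · intro f hf
    apply mem_N_of_forall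
    intro x hx
    rcases D.mem_H_iff.mp hf with h1 | ⟨k, hk, rfl⟩
    · have : f * x * f⁻¹ = x := by
        rw [D.hKab f h1 x (hX hx)]
        group
      rw [this]
      exact hx
    · rw [D.mul_s_conj hk (hX hx)]
      exact X.inv_mem hx

theorem Data.K_ne_bot (D : Data G) : D.K ≠ ⊥ := by
  intro h
  have h1 := D.htK
  rw [h, Subgroup.mem_bot] at h1
  exact D.t_ne_one h1

/-- An involution normalizing a `Good` subgroup inverts it. -/
theorem Data.inverts_of_N {D : Data G} {Q : Subgroup G}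
    (hZ : ∀ y ∈ Q, y ≠ 1 → D.IsZ y) {v : G} (hv : orderOf v = 2)
    (hN : v ∈ Subgroup.normalizer (Q : Set G)) : ∀ a ∈ Q, v * a * v⁻¹ = a⁻¹ := by
  apply fpf_inverts Q (sq_of_orderOf hv) (forall_of_N hN)
  intro a ha h1
  by_contra hne
  exact (hZ a ha hne).no_fix hv h1

section CaseA

variable (D : Data G) (Z₀ : Finset G) (q : ℕ)
  (hmem : ∀ g ∈ Z₀, g ≠ 1 ∧ g ∉ D.U) (hcard : Z₀.card + 1 = q * q)
  (hk : 2 ≤ Nat.card D.K) (hG : Nat.card G = 2 * Nat.card D.K * D.H.index)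
  (hq : q = 2 * Nat.card D.K + 1) (hm : 2 * D.H.index = q * (q + 1))
  (hI0 : ∀ g ∈ Z₀, I g = q)
  (hI1 : ∀ g, g ≠ 1 → g ∉ D.U → g ∉ Z₀ → I g = Nat.card D.K + 1)

include hmem hcard hk hG hq hm hI0 hI1

theorem caseA : Concl G := by
  classical
  have hq5 : 5 ≤ q := by omega
  have hq0 : q ≠ 0 := by omega
  have hIq : ∀ g ∈ Z₀, I g ≠ 0 := by
    intro g hg
    rw [hI0 g hg]
    exact hq0
  have hZ : ∀ g ∈ Z₀, D.IsZ g := fun g hg => hmem g hg
  -- centralizers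
  have hCard : ∀ g ∈ Z₀, Nat.card (Cen g) = q := by
    intro g hg
    obtain ⟨u, hu, hgu⟩ := (hZ g hg).exists_inverter (hIq g hg)
    rw [← (hZ g hg).I_eq hu hgu, hI0 g hg]
  have hgood : ∀ g ∈ Z₀, Good q (Cen g) := by
    intro g hg
    refine ⟨hCard g hg, ?_⟩
    intro y hy h1
    obtain ⟨u, hu, hgu⟩ := (hZ g hg).exists_inverter (hIq g hg)
    exact (hZ g hg).Cen_eq hu hgu hy h1
  have hsub : ∀ g ∈ Z₀, ∀ y ∈ Cen g, y ≠ 1 → y ∈ Z₀ := by
    intro g hg y hy h1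
    by_contra hn
    have hyZ := (hZ g hg).of_mem_Cen hy h1
    obtain ⟨u, hu, hgu⟩ := (hZ g hg).exists_inverter (hIq g hg)
    have h2 := (hZ g hg).inverts hu hgu y hy
    have h3 := hyZ.I_eq hu h2
    rw [hI1 y h1 hyZ.2 hn, (hgood g hg).cen y hy h1, hCard g hg] at h3
    omega
  have hconj : ∀ g ∈ Z₀, ∀ f, f * g * f⁻¹ ∈ Z₀ := by
    intro g hg f
    by_contra hn
    have h1 := (hZ g hg).conj f
    have h2 := hI1 _ h1.1 h1.2 hn
    rw [I_conj, hI0 g hg] at h2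
    omega
  have hS : Sys q (Z₀.image (fun g => Cen g)) :=
    Sys.of_elements Z₀ (fun g hg => (hZ g hg).1) hgood hsub hconj hcard (by omega)
  -- base points
  have hne0 : Z₀.Nonempty := by
    rw [← Finset.card_pos]
    nlinarith
  obtain ⟨g₀, hg₀⟩ := hne0
  set Ω := Z₀.image (fun g => Cen g) with hΩ
  set Q := Cen g₀ with hQ
  have hQΩ : Q ∈ Ω := Finset.mem_image_of_mem _ hg₀
  have hex : 0 < (Ω.erase Q).card := by
    rw [Finset.card_erase_of_mem hQΩ, hS.card]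
    omega
  obtain ⟨Q', hQ'⟩ := Finset.card_pos.mp hex
  obtain ⟨hne, hQ'Ω⟩ := Finset.mem_erase.mp hQ'
  set D₀ : Subgroup G := Subgroup.normalizer (Q : Set G) ⊓ Subgroup.normalizer (Q' : Set G) with hD₀
  have hgQ := hS.good Q hQΩ
  have hinf := hS.inf_eq_bot hQΩ hQ'Ω hne
  have hcardD : Nat.card D₀ = Nat.card D.K := by
    have h1 := hS.card_G hQΩ hQ'Ω hne
    rw [hG] at h1
    have h2 : (q + 1) * (q * Nat.card D₀) = (q + 1) * (q * Nat.card D.K) := by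
      rw [← h1]
      have h3 : 2 * Nat.card D.K * D.H.index = Nat.card D.K * (2 * D.H.index) := by ring
      rw [h3, hm]
      ring
    exact Nat.eq_of_mul_eq_mul_left (by omega) (Nat.eq_of_mul_eq_mul_left (by omega) h2)
  have hZQ : ∀ y ∈ Q, y ≠ 1 → D.IsZ y := fun y hy h1 => (hZ g₀ hg₀).of_mem_Cen hy h1
  -- the involution of `D₀`
  obtain ⟨u, hu, hgu⟩ := (hZ g₀ hg₀).exists_inverter (hIq g₀ hg₀)
  have huQ : ∀ a ∈ Q, u * a * u⁻¹ = a⁻¹ := (hZ g₀ hg₀).inverts hu hgu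
  have huN : u ∈ Subgroup.normalizer (Q : Set G) :=
    mem_N_of_forall (fun a ha => by rw [huQ a ha]; exact Q.inv_mem ha)
  obtain ⟨h, hh, hw⟩ := hS.exists_decomp hQΩ hQ'Ω hne huN
  set w := h⁻¹ * u with hwdef
  have hwD : w ∈ D₀ :=
    ⟨Subgroup.mul_mem _ (Subgroup.inv_mem _ (Subgroup.le_normalizer hh)) huN, hw⟩
  have hwsq : w * w = 1 := by
    have h1 : w * w = h⁻¹ * (u * h⁻¹ * u⁻¹) * (u * u) := by
      rw [hwdef]
      group
    rw [h1, huQ _ (Q.inv_mem hh), sq_of_orderOf hu]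
    group
  have hw1 : w ≠ 1 := by
    intro h1
    have h2 : u = h := by
      have : u = h * w := by rw [hwdef]; group
      rw [this, h1, mul_one]
    exact ne_one_of_orderOf hu ((hZ g₀ hg₀).no_invol (h2 ▸ hh) (sq_of_orderOf hu))
  have hwo : orderOf w = 2 := orderOf_two_of hwsq hw1
  -- uniqueness
  have huniq : ∀ v ∈ D₀, orderOf v = 2 → v = w := by
    intro v hv hvo
    have h1 := Data.inverts_of_N (D := D) hZQ hvo hv.1
    have h2 := Data.inverts_of_N (D := D) hZQ hwo hwD.1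
    have h3 : v * w ∈ Cen g₀ := by
      rw [mem_Cen]
      have h4 : v * w * g₀ * (v * w)⁻¹ = v * (w * g₀ * w⁻¹) * v⁻¹ := by group
      have h5 : v * w * g₀ * (v * w)⁻¹ = g₀ := by
        rw [h4, h2 g₀ (self_mem_Cen g₀)]
        have h6 : v * g₀⁻¹ * v⁻¹ = (v * g₀ * v⁻¹)⁻¹ := by group
        rw [h6, h1 g₀ (self_mem_Cen g₀), inv_inv]
      exact mul_inv_eq_iff_eq_mul.mp h5
    have h4 : v * w ∈ Q ⊓ D₀ := ⟨h3, D₀.mul_mem hv hwD⟩
    rw [hinf, Subgroup.mem_bot] at h4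
    have h5 : v = w⁻¹ := eq_inv_of_mul_eq_one_left h4
    rw [h5, inv_of_orderOf hwo]
  -- `D₀ = K_w`
  obtain ⟨D', hD't, hD'U, hD'k⟩ := D.exists_at hwo
  have hle : D₀ ≤ D'.K := by
    intro d hd
    have h1 : d * w * d⁻¹ = w := by
      apply huniq _ (D₀.mul_mem (D₀.mul_mem hd hwD) (D₀.inv_mem hd))
      rw [orderOf_conj']
      exact hwo
    have h2 : d ∈ D'.H := by
      rw [D'.mem_H, hD't]
      exact mul_inv_eq_iff_eq_mul.mp h1
    rcases D'.mem_H_iff.mp h2 with h3 | ⟨k, hk', h3⟩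
    · exact h3
    · exfalso
      have h4 : orderOf d = 2 := by
        rw [h3]
        exact D'.orderOf_mul_s hk'
      have h5 := huniq d hd h4
      have h6 : d ∈ D'.K := by
        rw [h5, ← hD't]
        exact D'.htK
      rw [h3] at h6
      exact D'.mul_s_not_mem hk' h6
  have hDeq : D₀ = D'.K := by
    apply Subgroup.eq_of_le_of_card_ge hle
    rw [hcardD, hD'k]
  have hcardQ : Nat.card Q = q := hgQ.card
  refine ⟨Q, D₀, ?_, hgQ.cen, ?_, ?_, hinf, hS.N_eq_sup hQΩ hQ'Ω hne, ?_⟩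
  · rw [hcardQ, hG]
    have h3 : 2 * (2 * Nat.card D.K * D.H.index) = (2 * Nat.card D.K) * (2 * D.H.index) := by ring
    have h4 : q - 1 = 2 * Nat.card D.K := by omega
    rw [h3, hm, h4]
    ring
  · apply isMulCommutative_of
    rw [hDeq]
    exact D'.hKab
  · rw [hcardQ, hcardD, hq]
  · intro X hX hXne
    rw [hDeq] at hX ⊢
    rw [D'.normalizer_eq hX hXne, D'.normalizer_eq le_rfl D'.K_ne_bot]
    exact ⟨rfl, D'.s, D'.hs, D'.hsK, D'.hinv, D'.hH.symm⟩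

end CaseA

end Cfsg.Agent.Lib.BSW
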