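import Mathlib
import Cfsg.Agent.Lib.BSWCaseA
import Cfsg.Agent.Lib.BSWCount

/-!
# Abstract Brauer--Suzuki--Wall: the case `q = 2 |K| - 1`
-/

set_option autoImplicit false
set_option linter.unusedSectionVars false

namespace Cfsg.Agent.Lib.BSW

universe u

variable {G : Type u} [Group G] [Finite G]

/-- The numerical data in the second case. -/
structure BData (D : Data G) (Z₀ : Finset G) (q : ℕ) : Prop where
  hmem : ∀ g ∈ Z₀, g ≠ 1 ∧ g ∉ D.U
  hcard : Z₀.card + 1 = q * q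
  hk : 2 ≤ Nat.card D.K
  hG : Nat.card G = 2 * Nat.card D.K * D.H.index
  hq : q + 1 = 2 * Nat.card D.K
  hm : 2 * D.H.index + q = q * q
  hI0 : ∀ g ∈ Z₀, I g = 0
  hI1 : ∀ g, g ≠ 1 → g ∉ D.U → g ∉ Z₀ → I g + 1 = Nat.card D.K
  hA : ∀ A : Subgroup G, (∀ y ∈ A, y ≠ 1 → y ∈ Z₀) → Nat.card A ∣ q

namespace BData

variable {D : Data G} {Z₀ : Finset G} {q : ℕ} (B : BData D Z₀ q)

include B

theorem hZ {g : G} (hg : g ∈ Z₀) : D.IsZ g := B.hmem g hg

theorem nonreal {g : G} (hg : g ∈ Z₀) {u : G} (hu : orderOf u = 2) : u * g * u⁻¹ ≠ g⁻¹ := by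
  intro h
  exact (B.hZ hg).I_ne_zero hu h (B.hI0 g hg)

theorem mem_of_I {g : G} (hg : D.IsZ g) (hI : I g = 0) : g ∈ Z₀ := by
  by_contra hn
  have := B.hI1 g hg.1 hg.2 hn
  have := B.hk
  omega

theorem conj_mem {g : G} (hg : g ∈ Z₀) (f : G) : f * g * f⁻¹ ∈ Z₀ :=
  B.mem_of_I ((B.hZ hg).conj f) (by rw [I_conj]; exact B.hI0 g hg)

theorem inv_mem {g : G} (hg : g ∈ Z₀) : g⁻¹ ∈ Z₀ := by
  apply B.mem_of_I ((B.hZ hg).inv)
  by_contra hn
  obtain ⟨u, hu, h1⟩ := ((B.hZ hg).inv).exists_inverter hn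
  apply B.nonreal hg hu
  have h2 : u * g * u⁻¹ = (u * g⁻¹ * u⁻¹)⁻¹ := by group
  rw [h2, h1]
  simp

/-- The centralizer of an element of `Z₀` consists of elements of `Z₀`. -/
theorem sub {g : G} (hg : g ∈ Z₀) {y : G} (hy : y ∈ Cen g) (h1 : y ≠ 1) : y ∈ Z₀ := by
  by_contra hn
  have hZy := (B.hZ hg).of_mem_Cen hy h1
  have hI := B.hI1 y hZy.1 hZy.2 hn
  have hk := B.hk
  have hI' : I y ≠ 0 := by omega
  obtain ⟨u, hu, h2⟩ := hZy.exists_inverter hI'
  have h3 := hZy.inverts hu h2 g (mem_Cen_comm.mp hy)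
  exact B.nonreal hg hu h3

theorem q_odd : Odd q := ⟨Nat.card D.K - 1, by have := B.hq; have := B.hk; omega⟩

theorem q_ge : 3 ≤ q := by have := B.hq; have := B.hk; omega

theorem cen_dvd {g : G} (hg : g ∈ Z₀) : Nat.card (Cen g) ∣ q :=
  B.hA _ (fun _ hy h1 => B.sub hg hy h1)

/-- An element of `Z₀` is not conjugate to its inverse. -/
theorem not_conj {g : G} (hg : g ∈ Z₀) (f : G) : f * g * f⁻¹ ≠ g⁻¹ := by
  intro h
  have hodd : Odd (Nat.card (Cen g)) := Odd.of_dvd_nat B.q_odd (B.cen_dvd hg)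
  obtain ⟨a, ha⟩ := hodd
  have hz : f * f ∈ Cen g := by
    rw [mem_Cen]
    have h1 : f * f * g * (f * f)⁻¹ = f * (f * g * f⁻¹) * f⁻¹ := by group
    have h2 : f * f * g * (f * f)⁻¹ = g := by
      rw [h1, h]
      have h3 : f * g⁻¹ * f⁻¹ = (f * g * f⁻¹)⁻¹ := by group
      rw [h3, h, inv_inv]
    exact mul_inv_eq_iff_eq_mul.mp h2
  have hzc : (f * f) ^ (Nat.card (Cen g)) = 1 :=
    orderOf_dvd_iff_pow_eq_one.mp (Subgroup.orderOf_dvd_natCard _ hz)
  have hza : (f * f) ^ a ∈ Cen g⁻¹ := by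
    rw [Cen_inv]
    exact Subgroup.pow_mem _ hz _
  set v := (f * f) ^ a * f with hv
  have hcomm : Commute ((f * f) ^ a) f := (Commute.mul_left (Commute.refl f) (Commute.refl f)).pow_left a
  have hvsq : v * v = 1 := by
    have h1 : v * v = (f * f) ^ (2 * a + 1) := by
      have h0 : 2 * a + 1 = a + a + 1 := by ring
      rw [h0, pow_succ, pow_add, hv]
      calc (f * f) ^ a * f * ((f * f) ^ a * f) = (f * f) ^ a * (f * (f * f) ^ a) * f := by
            simp only [mul_assoc]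
        _ = (f * f) ^ a * ((f * f) ^ a * f) * f := by rw [← hcomm.eq]
        _ = (f * f) ^ a * (f * f) ^ a * (f * f) := by simp only [mul_assoc]
    rw [h1, ← ha, hzc]
  have hvg : v * g * v⁻¹ = g⁻¹ := by
    have h1 : v * g * v⁻¹ = (f * f) ^ a * (f * g * f⁻¹) * ((f * f) ^ a)⁻¹ := by
      rw [hv]
      group
    rw [h1, h]
    rw [mem_Cen.mp hza]
    group
  have hv1 : v ≠ 1 := by
    intro h1
    rw [h1] at hvg
    simp only [one_mul, inv_one, mul_one] at hvg
    apply (B.hZ hg).sq_ne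
    nth_rewrite 1 [hvg]
    simp
  exact B.nonreal hg (orderOf_two_of hvsq hv1) hvg

/-- `2 |G| = q (q² - 1)`. -/
theorem two_card : 2 * Nat.card G = q * Z₀.card := by
  have h1 := B.hG
  have h2 := B.hq
  have h3 := B.hm
  have h4 := B.hcard
  have h5 : 2 * Nat.card G = (q + 1) * (2 * D.H.index) := by rw [h1, h2]; ring
  rw [h5]
  zify at h3 h4 ⊢
  have h6 : (2 * (D.H.index : ℤ)) = q * q - q := by linarith
  have h7 : (Z₀.card : ℤ) = q * q - 1 := by linarith
  rw [h6, h7]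
  ring

theorem card_pos' : 0 < Z₀.card := by
  have h4 := B.hcard
  have h5 := B.q_ge
  nlinarith

/-- The order of the centralizer, and the two classes. -/
theorem card_and_classes {g : G} (hg : g ∈ Z₀) :
    Nat.card (Cen g) = q ∧ ∀ y ∈ Z₀, IsConj g y ∨ IsConj g⁻¹ y := by
  classical
  let _ : Fintype G := Fintype.ofFinite G
  set Cl := Finset.univ.filter (fun y => IsConj g y) with hCl
  set Cl' := Finset.univ.filter (fun y => IsConj g⁻¹ y) with hCl'
  have h1 : Cl.card * Nat.card (Cen g) = Nat.card G := by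
    have := CharInd.card_conj_mul_card_centralizer g
    rwa [Nat.card_eq_fintype_card (α := {x // IsConj g x}), Fintype.card_subtype] at this
  have h2 : Cl'.card * Nat.card (Cen g) = Nat.card G := by
    have := CharInd.card_conj_mul_card_centralizer g⁻¹
    have h' : Subgroup.centralizer ({g⁻¹} : Set G) = Cen g := Cen_inv g
    rwa [Nat.card_eq_fintype_card (α := {x // IsConj g⁻¹ x}), Fintype.card_subtype, h'] at this
  have hcc : Cl'.card = Cl.card := Nat.eq_of_mul_eq_mul_right Nat.card_pos (h2.trans h1.symm)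
  have hsub1 : Cl ⊆ Z₀ := by
    intro y hy
    obtain ⟨c, rfl⟩ := isConj_iff.mp (Finset.mem_filter.mp hy).2
    exact B.conj_mem hg c
  have hsub2 : Cl' ⊆ Z₀ := by
    intro y hy
    obtain ⟨c, rfl⟩ := isConj_iff.mp (Finset.mem_filter.mp hy).2
    exact B.conj_mem (B.inv_mem hg) c
  have hdisj : Disjoint Cl Cl' := by
    rw [Finset.disjoint_left]
    intro y hy hy'
    have h3 := (Finset.mem_filter.mp hy).2
    have h4 := (Finset.mem_filter.mp hy').2
    obtain ⟨c, hc⟩ := isConj_iff.mp (h3.trans h4.symm)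
    exact B.not_conj hg c hc
  have hle : Cl.card + Cl'.card ≤ Z₀.card := by
    have := Finset.card_le_card (Finset.union_subset hsub1 hsub2)
    rwa [Finset.card_union_of_disjoint hdisj] at this
  obtain ⟨r, hr⟩ := B.cen_dvd hg
  have hc0 : 0 < Nat.card (Cen g) := Nat.card_pos
  have h3 : 2 * Cl.card = r * Z₀.card := by
    apply Nat.eq_of_mul_eq_mul_right hc0
    have h4 := B.two_card
    rw [hr] at h4
    calc 2 * Cl.card * Nat.card (Cen g) = 2 * (Cl.card * Nat.card (Cen g)) := by ring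
      _ = Nat.card (Cen g) * r * Z₀.card := by rw [h1]; exact h4
      _ = r * Z₀.card * Nat.card (Cen g) := by ring
  have hs := B.card_pos'
  have hr1 : r = 1 := by
    have h4 : r * Z₀.card ≤ 1 * Z₀.card := by
      rw [← h3, one_mul]
      omega
    have h5 : r ≤ 1 := Nat.le_of_mul_le_mul_right h4 hs
    have h6 : r ≠ 0 := by
      rintro rfl
      have := B.q_ge
      omega
    omega
  subst hr1
  rw [mul_one] at hr
  refine ⟨hr.symm, ?_⟩
  intro y hy
  have h4 : Cl ∪ Cl' = Z₀ := by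
    apply Finset.eq_of_subset_of_card_le (Finset.union_subset hsub1 hsub2)
    rw [Finset.card_union_of_disjoint hdisj, hcc]
    omega
  rw [← h4] at hy
  rcases Finset.mem_union.mp hy with h5 | h5
  · exact Or.inl (Finset.mem_filter.mp h5).2
  · exact Or.inr (Finset.mem_filter.mp h5).2

/-- `Q` meets its conjugate under an involution trivially. -/
theorem TI {g : G} (hg : g ∈ Z₀) {u : G} (hu : orderOf u = 2) : Cen g ⊓ cj u (Cen g) = ⊥ := by
  set P := Cen g ⊓ cj u (Cen g) with hPdef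
  have hP : ∀ y ∈ P, y ≠ 1 → y ∈ Z₀ := fun y hy h1 => B.sub hg hy.1 h1
  have huinv := inv_of_orderOf hu
  have h1 := fpf_inverts P (sq_of_orderOf hu) (by
    intro y hy
    refine ⟨?_, conj_mem_cj.mpr hy.1⟩
    have h2 := mem_cj.mp hy.2
    rw [huinv] at h2 ⊢
    exact h2) (by
    intro a ha h
    by_contra hne
    exact (B.hZ (hP a ha hne)).no_fix hu h)
  rw [eq_bot_iff]
  intro y hy
  rw [Subgroup.mem_bot]
  by_contra hne
  exact B.nonreal (hP y hy hne) hu (h1 y hy)

/-- The decomposition of `G`. -/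
theorem decomp {g₀ : G} (hg₀ : g₀ ∈ Z₀) (f : G) :
    f * g₀ * f⁻¹ ∈ Cen g₀ ∨ ∃ h ∈ Cen g₀, ∃ u, orderOf u = 2 ∧ f = h * u := by
  classical
  let _ : Fintype G := Fintype.ofFinite G
  set Q := Cen g₀ with hQ
  have hcQ : Nat.card Q = q := (B.card_and_classes hg₀).1
  have hcl := (B.card_and_classes hg₀).2
  set Qf := Finset.univ.filter (· ∈ Q) with hQfdef
  have hQf : Qf.card = q := by
    rw [← hcQ, hQfdef, ← Fintype.card_subtype, Nat.card_eq_fintype_card]
  set X := Finset.univ.filter (fun u : G => orderOf u = 2) with hXdef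
  have hX : X.card = D.H.index := by
    have h1 : X = Finset.univ.filter (fun u : G => IsConj D.t u) := by
      ext u
      simp only [hXdef, Finset.mem_filter, Finset.mem_univ, true_and]
      exact D.order_iff u
    have h2 := CharInd.card_conj_mul_card_centralizer D.t
    rw [Nat.card_eq_fintype_card (α := {x // IsConj D.t x}), Fintype.card_subtype, ← h1] at h2
    have h3 := Subgroup.card_mul_index D.H
    apply Nat.eq_of_mul_eq_mul_right (Nat.card_pos (α := D.H))
    rw [h2, ← h3, mul_comm]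
  set W := (Qf ×ˢ X).image (fun p : G × G => p.1 * p.2) with hWdef
  have hW : W.card = q * D.H.index := by
    rw [hWdef, Finset.card_image_of_injOn, Finset.card_product, hQf, hX]
    rintro ⟨h, u⟩ hp ⟨h', u'⟩ hp' heq
    simp only [Finset.coe_product, Set.mem_prod, Finset.mem_coe, hQfdef, hXdef, Finset.mem_filter,
      Finset.mem_univ, true_and] at hp hp'
    have heq' : h * u = h' * u' := heq
    have h1 : h'⁻¹ * h = 1 := by
      by_contra hne
      have h2 : h'⁻¹ * h ∈ Z₀ := B.sub hg₀ (Q.mul_mem (Q.inv_mem hp'.1) hp.1) hne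
      apply B.nonreal h2 hp.2
      have h3 : (h'⁻¹ * h) * u = u' := by
        rw [mul_assoc, heq']
        group
      have h4 := sq_of_orderOf hp'.2
      rw [← h3] at h4
      have h5 : (u * (h'⁻¹ * h) * u) * (h'⁻¹ * h) = 1 := by
        have h6 : (u * (h'⁻¹ * h) * u) * (h'⁻¹ * h) =
            u * ((h'⁻¹ * h) * u * ((h'⁻¹ * h) * u)) * u⁻¹ := by
          rw [inv_of_orderOf hp.2]
          simp only [mul_assoc]
          rw [sq_of_orderOf hp.2, mul_one]
        rw [h6, h4]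
        group
      rw [inv_of_orderOf hp.2]
      exact eq_inv_of_mul_eq_one_left h5
    have h2 : h' = h := inv_mul_eq_one.mp h1
    subst h2
    have h3 : u = u' := mul_left_cancel heq'
    rw [h3]
  set A := Finset.univ.filter (fun f : G => f * g₀ * f⁻¹ ∈ Q) with hAdef
  set Rp := Finset.univ.filter (fun y : G => y ∈ Q ∧ y ≠ 1 ∧ IsConj g₀ y) with hRp
  set Rm := Finset.univ.filter (fun y : G => y ∈ Q ∧ y ≠ 1 ∧ IsConj g₀⁻¹ y) with hRm
  have hRmc : Rm.card = Rp.card := by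
    have h1 : Rm = Rp.image (fun y => y⁻¹) := by
      ext y
      simp only [hRm, hRp, Finset.mem_image, Finset.mem_filter, Finset.mem_univ, true_and]
      constructor
      · rintro ⟨h1, h2, h3⟩
        obtain ⟨c, hc⟩ := isConj_iff.mp h3
        refine ⟨y⁻¹, ⟨Q.inv_mem h1, inv_ne_one.mpr h2, isConj_iff.mpr ⟨c, ?_⟩⟩, by simp⟩
        rw [← hc]
        group
      · rintro ⟨z, ⟨h1, h2, h3⟩, rfl⟩
        obtain ⟨c, hc⟩ := isConj_iff.mp h3
        refine ⟨Q.inv_mem h1, inv_ne_one.mpr h2, isConj_iff.mpr ⟨c, ?_⟩⟩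
        rw [← hc]
        group
    rw [h1, Finset.card_image_of_injective _ inv_injective]
  have hRd : Disjoint Rp Rm := by
    rw [Finset.disjoint_left]
    intro y hy hy'
    have h3 := (Finset.mem_filter.mp hy).2.2.2
    have h4 := (Finset.mem_filter.mp hy').2.2.2
    obtain ⟨c, hc⟩ := isConj_iff.mp (h3.trans h4.symm)
    exact B.not_conj hg₀ c hc
  have hRu : Rp ∪ Rm = Finset.univ.filter (fun y : G => y ∈ Q ∧ y ≠ 1) := by
    ext y
    simp only [hRp, hRm, Finset.mem_union, Finset.mem_filter, Finset.mem_univ, true_and]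
    constructor
    · rintro (⟨h1, h2, _⟩ | ⟨h1, h2, _⟩) <;> exact ⟨h1, h2⟩
    · rintro ⟨h1, h2⟩
      rcases hcl y (B.sub hg₀ h1 h2) with h3 | h3
      · exact Or.inl ⟨h1, h2, h3⟩
      · exact Or.inr ⟨h1, h2, h3⟩
  have hR : 2 * Rp.card + 1 = q := by
    have h1 := card_ne_one_sub Q
    rw [Nat.card_eq_fintype_card (α := {x : G // x ∈ Q ∧ x ≠ 1}), Fintype.card_subtype, ← hRu,
      Finset.card_union_of_disjoint hRd, hRmc, hcQ] at h1
    have := B.q_ge
    omega
  have hAc : A.card = Rp.card * q := by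
    have h1 : A.card = ∑ r ∈ Rp, (A.filter (fun f => f * g₀ * f⁻¹ = r)).card := by
      apply Finset.card_eq_sum_card_fiberwise
      intro f hf
      have h2 := (Finset.mem_filter.mp hf).2
      refine Finset.mem_filter.mpr ⟨Finset.mem_univ _, h2, ?_, isConj_iff.mpr ⟨f, rfl⟩⟩
      exact ((B.hZ hg₀).conj f).1
    have h2 : ∀ r ∈ Rp, (A.filter (fun f => f * g₀ * f⁻¹ = r)).card = q := by
      intro r hr
      obtain ⟨h3, _, h5⟩ := (Finset.mem_filter.mp hr).2
      have h6 : A.filter (fun f => f * g₀ * f⁻¹ = r) =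
          Finset.univ.filter (fun f : G => f * g₀ * f⁻¹ = r) := by
        ext f
        simp only [hAdef, Finset.mem_filter, Finset.mem_univ, true_and]
        constructor
        · exact fun h => h.2
        · intro h
          exact ⟨by rw [h]; exact h3, h⟩
      rw [h6, card_fiber, if_pos h5]
      exact hcQ
    rw [h1, Finset.sum_congr rfl h2, Finset.sum_const, smul_eq_mul]
  have hAm : A.card = D.H.index := by
    have h1 := B.hm
    have h2 : 2 * A.card + q = q * q := by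
      rw [hAc]
      calc 2 * (Rp.card * q) + q = (2 * Rp.card + 1) * q := by ring
        _ = q * q := by rw [hR]
    omega
  have hdisj : Disjoint A W := by
    rw [Finset.disjoint_left]
    intro f hf hf'
    obtain ⟨⟨h, u⟩, hp, hpe⟩ := Finset.mem_image.mp hf'
    simp only [Finset.mem_product, hQfdef, hXdef, Finset.mem_filter, Finset.mem_univ,
      true_and] at hp
    have hpe' : h * u = f := hpe
    have h1 := (Finset.mem_filter.mp hf).2
    rw [← hpe'] at h1
    have h2 : u * g₀ * u⁻¹ ∈ Q := by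
      have h3 : u * g₀ * u⁻¹ = h⁻¹ * (h * u * g₀ * (h * u)⁻¹) * h := by group
      rw [h3]
      exact Q.mul_mem (Q.mul_mem (Q.inv_mem hp.1) h1) hp.1
    have h3 : u * g₀ * u⁻¹ ∈ Q ⊓ cj u Q := ⟨h2, conj_mem_cj.mpr (self_mem_Cen g₀)⟩
    rw [B.TI hg₀ hp.2, Subgroup.mem_bot] at h3
    exact ((B.hZ hg₀).conj u).1 h3
  have hunion : A ∪ W = Finset.univ := by
    apply Finset.eq_univ_of_card
    rw [Finset.card_union_of_disjoint hdisj, hAm, hW, ← Nat.card_eq_fintype_card, B.hG,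
      ← B.hq]
    ring
  have hf : f ∈ A ∪ W := by
    rw [hunion]
    exact Finset.mem_univ _
  rcases Finset.mem_union.mp hf with h1 | h1
  · exact Or.inl (Finset.mem_filter.mp h1).2
  · right
    obtain ⟨⟨h, u⟩, hp, hpe⟩ := Finset.mem_image.mp h1
    simp only [Finset.mem_product, hQfdef, hXdef, Finset.mem_filter, Finset.mem_univ,
      true_and] at hp
    exact ⟨h, hp.1, u, hp.2, hpe.symm⟩

/-- Every element of `Z₀` is a conjugate of `g₀` or `g₀⁻¹`. -/
theorem exists_conj {g₀ a : G} (hg₀ : g₀ ∈ Z₀) (ha : a ∈ Z₀) :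
    ∃ f, Cen a = cj f (Cen g₀) ∧ (a = f * g₀ * f⁻¹ ∨ a⁻¹ = f * g₀ * f⁻¹) := by
  rcases (B.card_and_classes hg₀).2 a ha with h | h
  · obtain ⟨f, hf⟩ := isConj_iff.mp h
    exact ⟨f, by rw [← hf, Cen_conj], Or.inl hf.symm⟩
  · obtain ⟨f, hf⟩ := isConj_iff.mp h
    have h1 : a⁻¹ = f * g₀ * f⁻¹ := by
      rw [← hf]
      group
    exact ⟨f, by rw [← Cen_inv a, h1, Cen_conj], Or.inr h1⟩

/-- The centralizer is abelian. -/
theorem cen_comm {g₀ : G} (hg₀ : g₀ ∈ Z₀) : ∀ a ∈ Cen g₀, ∀ b ∈ Cen g₀, a * b = b * a := by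
  intro a ha b hb
  by_cases ha1 : a = 1
  · rw [ha1]; simp
  by_cases hb1 : b = 1
  · rw [hb1]; simp
  obtain ⟨f, hf1, hf2⟩ := B.exists_conj hg₀ (B.sub hg₀ ha ha1)
  obtain ⟨f', hf1', hf2'⟩ := B.exists_conj hg₀ (B.sub hg₀ hb hb1)
  have hga : g₀ ∈ cj f (Cen g₀) := by
    rw [← hf1]
    exact mem_Cen_comm.mp ha
  have hgb : g₀ ∈ cj f' (Cen g₀) := by
    rw [← hf1']
    exact mem_Cen_comm.mp hb
  rcases B.decomp hg₀ (f⁻¹ * f') with h1 | ⟨h, hh, u, hu, h1⟩
  · have h2 : f' * g₀ * f'⁻¹ ∈ cj f (Cen g₀) := by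
      rw [mem_cj]
      have h3 : f⁻¹ * (f' * g₀ * f'⁻¹) * f = (f⁻¹ * f') * g₀ * (f⁻¹ * f')⁻¹ := by group
      rw [h3]
      exact h1
    rw [← hf1] at h2
    have h3 : b ∈ Cen a := by
      rcases hf2' with h4 | h4
      · rw [h4]; exact h2
      · have h5 : b = (b⁻¹)⁻¹ := by simp
        rw [h5, h4]
        exact (Cen a).inv_mem h2
    exact (mem_Cen.mp h3).symm
  · exfalso
    have h2 := mem_cj.mp hga
    have h3 := mem_cj.mp hgb
    have h4 : h⁻¹ * (f⁻¹ * g₀ * f) * h ∈ Cen g₀ ⊓ cj u (Cen g₀) := by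
      refine ⟨(Cen g₀).mul_mem ((Cen g₀).mul_mem ((Cen g₀).inv_mem hh) h2) hh, ?_⟩
      show h⁻¹ * (f⁻¹ * g₀ * f) * h ∈ cj u (Cen g₀)
      rw [mem_cj]
      have h5 : f' = f * (h * u) := by rw [← h1]; group
      rw [h5] at h3
      have h6 : u⁻¹ * (h⁻¹ * (f⁻¹ * g₀ * f) * h) * u = (f * (h * u))⁻¹ * g₀ * (f * (h * u)) := by
        group
      rw [h6]
      exact h3
    rw [B.TI hg₀ hu, Subgroup.mem_bot] at h4
    apply (B.hZ hg₀).1
    have h5 : g₀ = f * h * (h⁻¹ * (f⁻¹ * g₀ * f) * h) * (f * h)⁻¹ := by group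
    rw [h5, h4]
    group

/-- Each centralizer is `Good`. -/
theorem good {g₀ : G} (hg₀ : g₀ ∈ Z₀) : Good q (Cen g₀) := by
  have hc := (B.card_and_classes hg₀).1
  refine ⟨hc, ?_⟩
  intro y hy h1
  have hy0 := B.sub hg₀ hy h1
  have hc' := (B.card_and_classes hy0).1
  have hle : Cen g₀ ≤ Cen y := by
    intro x hx
    rw [mem_Cen]
    exact B.cen_comm hg₀ x hx y hy
  exact (Subgroup.eq_of_le_of_card_ge hle (by rw [hc, hc'])).symm

theorem caseB : Concl G := by
  classical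
  have hq3 := B.q_ge
  have hZne : Z₀.Nonempty := Finset.card_pos.mp B.card_pos'
  obtain ⟨g₀, hg₀⟩ := hZne
  have hS : Sys q (Z₀.image (fun g => Cen g)) :=
    Sys.of_elements Z₀ (fun g hg => (B.hZ hg).1) (fun g hg => B.good hg)
      (fun g hg y hy h1 => B.sub hg hy h1) (fun g hg f => B.conj_mem hg f) B.hcard (by omega)
  set Ω := Z₀.image (fun g => Cen g) with hΩ
  set Q := Cen g₀ with hQ
  have hQΩ : Q ∈ Ω := Finset.mem_image_of_mem _ hg₀
  have hgQ := hS.good Q hQΩ
  set u₀ := D.t with hu₀def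
  have hu₀ : orderOf u₀ = 2 := D.ht
  have hu₀sq := sq_of_orderOf hu₀
  have hu₀inv := inv_of_orderOf hu₀
  set Q' := cj u₀ Q with hQ'
  have hTI : Q ⊓ Q' = ⊥ := B.TI hg₀ hu₀
  clear_value Q'
  have hg₀Q : g₀ ∈ Q := self_mem_Cen g₀
  have hg₀1 := (B.hZ hg₀).1
  have hne : Q' ≠ Q := by
    intro h
    rw [h, inf_idem] at hTI
    rw [hTI, Subgroup.mem_bot] at hg₀Q
    exact hg₀1 hg₀Q
  have hQ'Ω : Q' ∈ Ω := by rw [hQ']; exact hS.conj Q hQΩ u₀
  have hgQ' := hS.good Q' hQ'Ω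
  set D₀ : Subgroup G := Subgroup.normalizer (Q : Set G) ⊓ Subgroup.normalizer (Q' : Set G) with hD₀
  have hinf : Q ⊓ D₀ = ⊥ := hS.inf_eq_bot hQΩ hQ'Ω hne
  have hcardQ : Nat.card Q = q := hgQ.card
  -- the order of `D₀`
  have hcardD : 2 * Nat.card D₀ + 1 = q := by
    have h1 := hS.card_G hQΩ hQ'Ω hne
    have h2 := B.two_card
    have h3 := B.hcard
    rw [h1] at h2
    obtain ⟨r, rfl⟩ : ∃ r, q = r + 1 := ⟨q - 1, by omega⟩
    have h4 : Z₀.card = (r + 2) * r := by nlinarith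
    rw [h4] at h2
    have h5 : (r + 1 + 1) * (r + 1) * (2 * Nat.card D₀) = (r + 1 + 1) * (r + 1) * r := by
      calc (r + 1 + 1) * (r + 1) * (2 * Nat.card D₀) =
          2 * ((r + 1 + 1) * ((r + 1) * Nat.card D₀)) := by ring
        _ = (r + 1) * ((r + 2) * r) := h2
        _ = (r + 1 + 1) * (r + 1) * r := by ring
    have h6 := Nat.eq_of_mul_eq_mul_left (by positivity) h5
    omega
  have hu₀N : u₀ ∉ Subgroup.normalizer (Q : Set G) := by
    intro h
    exact hne (hQ'.trans (cj_eq_of_N h))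
  have hcc : cj u₀ Q' = Q := by
    rw [hQ', cj_cj, hu₀sq, cj_one]
  -- `u₀` inverts `D₀`
  have hinvD : ∀ d ∈ D₀, u₀ * d * u₀⁻¹ = d⁻¹ := by
    intro d hd
    have hf1 : cj (u₀ * d) Q = Q' := by
      rw [← cj_cj, cj_eq_of_N hd.1, hQ']
    have hf2 : cj (u₀ * d) Q' = Q := by
      rw [← cj_cj, cj_eq_of_N hd.2, hcc]
    rcases B.decomp hg₀ (u₀ * d) with h1 | ⟨h, hh, u, hu, hfe⟩
    · exfalso
      have h2 : u₀ * d * g₀ * (u₀ * d)⁻¹ ≠ 1 := ((B.hZ hg₀).conj (u₀ * d)).1
      have h3 := hgQ.cen _ h1 h2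
      rw [Cen_conj, hf1] at h3
      exact hne h3
    · have huinv := inv_of_orderOf hu
      have husq := sq_of_orderOf hu
      have h3 : cj u Q' = Q := by
        have h4 : cj h (cj u Q') = Q := by rw [cj_cj, ← hfe, hf2]
        have h5 : cj h⁻¹ (cj h (cj u Q')) = cj u Q' := by
          rw [cj_cj]; simp [cj_one]
        rw [← h5, h4]
        exact cj_self_of_mem (Q.inv_mem hh)
      have h4 : cj u Q = Q' := by
        rw [← h3, cj_cj, husq, cj_one]
      have h5 : cj h Q' = Q' := by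
        nth_rewrite 1 [← h4]
        rw [cj_cj, ← hfe, hf1]
      have h6 : h = 1 := by
        apply hgQ.norm_trivial hgQ' hne.symm hh
        intro x hx
        rw [← h5]
        exact conj_mem_cj.mpr hx
      rw [h6, one_mul] at hfe
      have h7 : (u₀ * d) * (u₀ * d) = 1 := by
        rw [hfe]
        exact husq
      rw [hu₀inv]
      have h8 : u₀ * d * u₀ * d = 1 := by
        rw [← h7]
        group
      exact eq_inv_of_mul_eq_one_left h8
  have hDcomm := comm_of_inverted D₀ hinvD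
  have hu₀D : u₀ ∉ D₀ := fun h => hu₀N h.1
  -- centralizers in `D₀`
  have hcenD : ∀ y ∈ D₀, y ≠ 1 → Cen y = D₀ := by
    intro y hy h1
    have hle : D₀ ≤ Cen y := by
      intro x hx
      rw [mem_Cen]
      exact hDcomm x hx y hy
    have hsq : y * y ≠ 1 := by
      intro h2
      have h3 := B.TI hg₀ (orderOf_two_of h2 h1)
      rw [← hQ, cj_eq_of_N hy.1, inf_idem] at h3
      rw [h3, Subgroup.mem_bot] at hg₀Q
      exact hg₀1 hg₀Q
    have hk := B.hk
    have hq' := B.hq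
    have hyU : y ∉ D.U := by
      intro hU
      obtain ⟨D', h3, _, _, h5⟩ := Data.Cen_of_U hU hsq
      have h6 : D₀ ≤ D'.K := by
        rw [← h3]
        exact hle
      have h7 := Subgroup.card_dvd_of_le h6
      rw [h5] at h7
      have h8 : Nat.card D.K = Nat.card D₀ + 1 := by omega
      rw [h8] at h7
      have h9 : Nat.card D₀ ∣ 1 := (Nat.dvd_add_right dvd_rfl).mp h7
      have h10 := Nat.dvd_one.mp h9
      have h11 := Subgroup.eq_bot_of_card_eq D₀ h10
      rw [h11, Subgroup.mem_bot] at hy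
      exact h1 hy
    have hyZ : D.IsZ y := ⟨h1, hyU⟩
    have hinv := hinvD y hy
    have hyZ0 : y ∉ Z₀ := fun h => B.nonreal h hu₀ hinv
    have hI := B.hI1 y h1 hyU hyZ0
    have hI2 := hyZ.I_eq hu₀ hinv
    rw [hI2] at hI
    symm
    apply Subgroup.eq_of_le_of_card_ge hle
    omega
  -- fixed points
  have hfix : ∀ y ∈ D₀, y ≠ 1 → ∀ R ∈ Ω, y ∈ Subgroup.normalizer (R : Set G) → R = Q ∨ R = Q' := by
    intro y hy h1 R hR hyR
    by_cases hRQ : R = Q
    · exact Or.inl hRQ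
    right
    obtain ⟨h, hh, rfl⟩ := hS.regular hQΩ hQ'Ω hne hR hRQ
    have hhN : h ∈ Subgroup.normalizer (Q : Set G) := Subgroup.le_normalizer hh
    set y' := h⁻¹ * y * h with hy'
    have hy'1 : y' ≠ 1 := by
      intro h2
      apply h1
      have : y = h * y' * h⁻¹ := by rw [hy']; group
      rw [this, h2]
      group
    have hy'D : y' ∈ D₀ := by
      refine ⟨Subgroup.mul_mem _ (Subgroup.mul_mem _ (Subgroup.inv_mem _ hhN) hy.1) hhN, ?_⟩
      show y' ∈ Subgroup.normalizer (Q' : Set G)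
      rw [mem_N_iff]
      have h2 : cj (h * y') Q' = cj h Q' := by
        have h3 : h * y' = y * h := by rw [hy']; group
        rw [h3, ← cj_cj, cj_eq_of_N hyR]
      have h3 : cj h⁻¹ (cj (h * y') Q') = cj h⁻¹ (cj h Q') := by rw [h2]
      rw [cj_cj, cj_cj] at h3
      simpa [cj_one] using h3
    have hcen1 := hcenD y' hy'D hy'1
    have hcen2 := hcenD y hy h1
    have hcen3 : Cen y' = cj h⁻¹ D₀ := by
      have h2 : y' = h⁻¹ * y * h⁻¹⁻¹ := by rw [hy']; group
      rw [h2, Cen_conj, hcen2]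
    have hD0N : cj h⁻¹ D₀ = D₀ := by rw [← hcen3, hcen1]
    have hyD' : h * y * h⁻¹ ∈ D₀ := by
      have h2 := mem_cj.mp (hD0N.symm ▸ hy : y ∈ cj h⁻¹ D₀)
      simpa using h2
    have hcomm : h * y * h⁻¹ * y⁻¹ ∈ Q ⊓ D₀ := by
      refine ⟨?_, D₀.mul_mem hyD' (D₀.inv_mem hy)⟩
      have h2 : h * y * h⁻¹ * y⁻¹ = h * (y * h⁻¹ * y⁻¹) := by group
      rw [h2]
      exact Q.mul_mem hh (forall_of_N hy.1 _ (Q.inv_mem hh))
    rw [hinf, Subgroup.mem_bot] at hcomm
    have h3 : h ∈ Cen y := by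
      rw [mem_Cen]
      have h4 : h * y * h⁻¹ = y := mul_inv_eq_one.mp hcomm
      exact mul_inv_eq_iff_eq_mul.mp h4
    rw [hcen2] at h3
    have h4 : h ∈ Q ⊓ D₀ := ⟨hh, h3⟩
    rw [hinf, Subgroup.mem_bot] at h4
    rw [h4, cj_one]
  refine ⟨Q, D₀, ?_, hgQ.cen, isMulCommutative_of hDcomm, ?_, hinf, hS.N_eq_sup hQΩ hQ'Ω hne, ?_⟩
  · rw [hcardQ, B.two_card]
    have h3 := B.hcard
    have h4 : Z₀.card = (q + 1) * (q - 1) := by
      obtain ⟨r, rfl⟩ : ∃ r, q = r + 1 := ⟨q - 1, by omega⟩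
      simp only [Nat.add_sub_cancel]
      nlinarith
    rw [h4]
    ring
  · rw [hcardQ, hcardD]
  · intro X hX hXne
    obtain ⟨y, hyX, hy1⟩ := X.bot_or_exists_ne_one.resolve_left hXne
    have hyD := hX hyX
    have hDne : D₀ ≠ ⊥ := by
      intro h
      rw [h, Subgroup.mem_bot] at hyD
      exact hy1 hyD
    have hle1 : ∀ Y : Subgroup G, Y ≤ D₀ → D₀ ⊔ Subgroup.zpowers u₀ ≤ Subgroup.normalizer (Y : Set G) := by
      intro Y hY
      refine sup_le ?_ ?_
      · intro d hd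
        apply mem_N_of_forall
        intro x hx
        have h1 : d * x * d⁻¹ = x := by
          rw [hDcomm d hd x (hY hx)]
          group
        rw [h1]
        exact hx
      · rw [Subgroup.zpowers_le]
        apply mem_N_of_forall
        intro x hx
        rw [hinvD x (hY hx)]
        exact Y.inv_mem hx
    have hle2 : Subgroup.normalizer (X : Set G) ≤ Subgroup.normalizer (D₀ : Set G) := by
      intro f hf
      rw [mem_N_iff]
      have h1 := forall_of_N hf y hyX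
      have h2 : f * y * f⁻¹ ≠ 1 := by
        intro h2
        apply hy1
        have : y = f⁻¹ * (f * y * f⁻¹) * f := by group
        rw [this, h2]
        group
      have h3 := hcenD _ (hX h1) h2
      rw [Cen_conj, hcenD y hyD hy1] at h3
      exact h3
    have hle3 : Subgroup.normalizer (D₀ : Set G) ≤ D₀ ⊔ Subgroup.zpowers u₀ := by
      intro f hf
      have hz : f⁻¹ * y * f ∈ D₀ := by
        have h1 := forall_of_N (Subgroup.inv_mem _ hf) y hyD
        simpa using h1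
      have hN : ∀ R ∈ Ω, (f⁻¹ * y * f ∈ Subgroup.normalizer (R : Set G)) →
          y ∈ Subgroup.normalizer (cj f R : Set G) := by
        intro R _ h1
        rw [mem_N_iff]
        have h2 : y * f = f * (f⁻¹ * y * f) := by group
        rw [cj_cj, h2, ← cj_cj, cj_eq_of_N h1]
      have hc1 := hfix y hyD hy1 _ (hS.conj Q hQΩ f) (hN Q hQΩ hz.1)
      have hc2 := hfix y hyD hy1 _ (hS.conj Q' hQ'Ω f) (hN Q' hQ'Ω hz.2)
      have hinjf : cj f Q ≠ cj f Q' := by
        intro h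
        apply hne
        have h1 : cj f⁻¹ (cj f Q) = cj f⁻¹ (cj f Q') := by rw [h]
        rw [cj_cj, cj_cj] at h1
        simpa [cj_one] using h1.symm
      rcases hc1 with h1 | h1
      · rcases hc2 with h2 | h2
        · exact absurd (h1.trans h2.symm) hinjf
        · apply Subgroup.mem_sup_left
          exact ⟨mem_N_iff.mpr h1, mem_N_iff.mpr h2⟩
      · rcases hc2 with h2 | h2
        · have h3 : u₀ * f ∈ D₀ := by
            refine ⟨mem_N_iff.mpr ?_, mem_N_iff.mpr ?_⟩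
            · rw [← cj_cj, h1, hcc]
            · rw [← cj_cj, h2, hQ']
          have h4 : f = u₀⁻¹ * (u₀ * f) := by group
          rw [h4]
          exact Subgroup.mul_mem _ (Subgroup.mem_sup_right (Subgroup.inv_mem _ (Subgroup.mem_zpowers _)))
            (Subgroup.mem_sup_left h3)
        · exact absurd (h1.trans h2.symm) hinjf
    refine ⟨le_antisymm hle2 (hle3.trans (hle1 X hX)), u₀, hu₀, hu₀D, hinvD, ?_⟩
    exact le_antisymm hle3 (hle1 D₀ le_rfl)

end BData

end Cfsg.Agent.Lib.BSW
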