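import Mathlib
import Cfsg.Agent.Lib.BSWBuild
import Cfsg.Agent.Lib.CharValues

/-!
# Abstract Brauer--Suzuki--Wall: the numerical output of the character computations
-/

set_option autoImplicit false
set_option linter.unusedSectionVars false

namespace Cfsg.Agent.Lib.BSW

open Cfsg Cfsg.Agent.Lib.CharBasic Cfsg.Agent.Lib.CharInd Cfsg.Agent.Lib.BSWAb
  Cfsg.Agent.Lib.CharLattice
open scoped ComplexConjugate Classical

universe u

variable {G : Type u} [Group G] [Fintype G] (D : Data G) [Fintype D.K]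

/-- The exceptional character package. -/
structure Data.Center (χ : IrrCharacter G) (ε : ℤ) : Prop where
  hε : ε = 1 ∨ ε = -1
  hχ : χ ≠ triv
  ha : ∀ l, l ≠ triv → D.a l χ = ε
  hV : D.V = 1 + 1 / ((ε * deg χ : ℤ) : ℚ) + 4 / ((-1 - ε * deg χ : ℤ) : ℚ)
  hne : -1 - ε * deg χ ≠ 0
  hw : ∀ j, j ≠ triv → j ≠ χ → D.X j ^ 2 * (-1 - ε * deg χ) =
      2 * (∑ l ∈ Finset.univ.erase triv, D.a l j) * deg j

theorem Data.exists_Center : ∃ χ ε, D.Center χ ε := by
  obtain ⟨j₀, ε, hc, hV, hne, hw⟩ := D.core.exists_center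
  exact ⟨j₀, ε, ⟨hc.hε, hc.hj, hc.ha, hV, hne, hw⟩⟩

theorem sum_erase_triv (x : D.K) (hx : (x : G) ≠ 1) :
    ∑ l ∈ (Finset.univ : Finset (IrrCharacter D.K)).erase triv, (l : D.K → ℂ) x = -1 := by
  have hx' : x ≠ 1 := fun h => hx (by rw [h]; rfl)
  have h1 := column_one D.hcK x
  rw [if_neg hx', ← Finset.add_sum_erase _ _ (Finset.mem_univ (triv : IrrCharacter D.K))] at h1
  have h2 : ((triv : IrrCharacter D.K) : D.K → ℂ) x = 1 := rfl
  rw [h2] at h1
  linear_combination h1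

theorem Data.card_erase_triv :
    (((Finset.univ : Finset (IrrCharacter D.K)).erase triv).card : ℤ) = (Nat.card D.K : ℤ) - 1 := by
  rw [Finset.card_erase_of_mem (Finset.mem_univ _), Finset.card_univ, Fintype.card_eq_nat_card,
    card_irr D.hcK, Nat.cast_sub Nat.card_pos]
  simp

namespace Data.Center

variable {D} {χ : IrrCharacter G} {ε : ℤ} (hC : D.Center χ ε)

include hC

theorem eps_sq : ε * ε = 1 := by
  rcases hC.hε with rfl | rfl <;> simp

theorem eps_sq_c : (ε : ℂ) * (ε : ℂ) = 1 := by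
  have := hC.eps_sq
  exact_mod_cast this

theorem on_K {x : G} (hx : x ∈ D.K) (h1 : x ≠ 1) : (ε : ℂ) * (χ : G → ℂ) x = 1 := by
  have h2 := D.row χ ⟨x, hx⟩ h1
  rw [← Finset.add_sum_erase _ _ (Finset.mem_univ (triv : IrrCharacter D.K)), D.a_triv_zero] at h2
  have h3 : ∑ l ∈ (Finset.univ : Finset (IrrCharacter D.K)).erase triv,
      (D.a l χ : ℂ) * (l : D.K → ℂ) ⟨x, hx⟩ =
      (ε : ℂ) * ∑ l ∈ (Finset.univ : Finset (IrrCharacter D.K)).erase triv,
        (l : D.K → ℂ) ⟨x, hx⟩ := by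
    rw [Finset.mul_sum]
    refine Finset.sum_congr rfl fun l hl => ?_
    rw [hC.ha l (Finset.mem_erase.mp hl).1]
  rw [h3, sum_erase_triv D ⟨x, hx⟩ h1] at h2
  simp only [Int.cast_zero, zero_mul, zero_add] at h2
  have h4 : (χ : G → ℂ) x = (ε : ℂ) := by
    rw [h2]; ring
  rw [h4]
  exact hC.eps_sq_c

theorem on_conj {x f : G} (hx : (ε : ℂ) * (χ : G → ℂ) x = 1) :
    (ε : ℂ) * (χ : G → ℂ) (f * x * f⁻¹) = 1 := by
  rw [char_apply_conj (IsIrrCharacter.isCharacter χ.2)]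
  exact hx

theorem on_t : (ε : ℂ) * (χ : G → ℂ) D.t = 1 := hC.on_K D.htK D.t_ne_one

theorem on_H {x : G} (hx : x ∈ D.H) (h1 : x ≠ 1) : (ε : ℂ) * (χ : G → ℂ) x = 1 := by
  rcases D.H_cases hx with h | h
  · exact hC.on_K h h1
  · obtain ⟨c, hc⟩ := isConj_iff.mp h
    rw [← hc]
    exact hC.on_conj hC.on_t

theorem on_U {g : G} (hg : g ∈ D.U) : (ε : ℂ) * (χ : G → ℂ) g = 1 := by
  obtain ⟨f, x, hx, h1, rfl⟩ := hg
  exact hC.on_conj (hC.on_K hx h1)

theorem X_eq : D.X χ = ε := by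
  have h1 : ((ε * D.X χ : ℤ) : ℂ) = ((1 : ℤ) : ℂ) := by
    push_cast
    rw [D.X_cast]
    exact hC.on_t
  have h2 : ε * D.X χ = 1 := by exact_mod_cast h1
  have h3 := hC.eps_sq
  have h4 : ε * (D.X χ - ε) = 0 := by linear_combination h2 - h3
  rcases mul_eq_zero.mp h4 with h | h
  · rw [h] at h3; simp at h3
  · linarith

theorem e_ne : ε * deg χ ≠ 0 := by
  have := deg_pos χ
  rcases hC.hε with rfl | rfl <;> simp <;> omega

/-- `e ≡ 1 mod 2k`. -/
theorem exists_z : ∃ z : ℤ, ε * deg χ - 1 = 2 * (Nat.card D.K : ℤ) * z :=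
  D.H_avg χ ε hC.hε (fun _ hx h1 => hC.on_H hx h1)

/-- The main numerical equation. -/
theorem main_eq {z : ℤ} (hz : ε * deg χ - 1 = 2 * (Nat.card D.K : ℤ) * z) :
    (ε * deg χ) * (ε * deg χ + 1) = 2 * (D.H.index : ℤ) * z ^ 2 := by
  have hV := hC.hV
  have hne := hC.hne
  have he := hC.e_ne
  set e := ε * deg χ with he_def
  have hk : (Nat.card D.K : ℤ) ≠ 0 := by exact_mod_cast Nat.card_pos.ne'
  have hm : (D.H.index : ℤ) ≠ 0 := by exact_mod_cast D.index_pos.ne'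
  have heq : (e : ℚ) ≠ 0 := by exact_mod_cast he
  have hneq : ((-1 - e : ℤ) : ℚ) ≠ 0 := by exact_mod_cast hne
  have hkq : (Nat.card D.K : ℚ) ≠ 0 := by exact_mod_cast Nat.card_pos.ne'
  have hmq : (D.H.index : ℚ) ≠ 0 := by exact_mod_cast D.index_pos.ne'
  have hneq' : (-1 - (e : ℚ)) ≠ 0 := by
    intro h
    apply hneq
    push_cast
    exact h
  rw [Data.V] at hV
  have h1 : 2 * (Nat.card D.K : ℚ) ^ 2 * ((e : ℚ) * (-1 - (e : ℚ))) =
      (D.H.index : ℚ) * ((e : ℚ) * (-1 - (e : ℚ)) + (-1 - (e : ℚ)) + 4 * (e : ℚ)) := by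
    push_cast at hV
    field_simp at hV
    linear_combination hV
  have hzq : (e : ℚ) - 1 = 2 * (Nat.card D.K : ℚ) * (z : ℚ) := by exact_mod_cast hz
  have h2 : (e : ℚ) * ((e : ℚ) + 1) = 2 * (D.H.index : ℚ) * (z : ℚ) ^ 2 := by
    have h3 : 2 * (Nat.card D.K : ℚ) ^ 2 * ((e : ℚ) * ((e : ℚ) + 1)) =
        2 * (Nat.card D.K : ℚ) ^ 2 * (2 * (D.H.index : ℚ) * (z : ℚ) ^ 2) := by
      have h4 : (D.H.index : ℚ) * ((e : ℚ) - 1) ^ 2 =
          2 * (Nat.card D.K : ℚ) ^ 2 * ((e : ℚ) * ((e : ℚ) + 1)) := by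
        linear_combination h1
      rw [← h4, hzq]
      ring
    exact mul_left_cancel₀ (by positivity) h3
  exact_mod_cast h2

/-- `z = ±1`, and `2m = e(e+1)`. -/
theorem z_cases : (ε * deg χ = 1 + 2 * (Nat.card D.K : ℤ) ∨ ε * deg χ = 1 - 2 * (Nat.card D.K : ℤ)) ∧
    (ε * deg χ) * (ε * deg χ + 1) = 2 * (D.H.index : ℤ) := by
  obtain ⟨z, hz⟩ := hC.exists_z
  have h1 := hC.main_eq hz
  set e := ε * deg χ with he_def
  set k : ℤ := (Nat.card D.K : ℤ) with hk_def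
  set m : ℤ := (D.H.index : ℤ) with hm_def
  have he : e = 1 + 2 * k * z := by linarith
  have h2 : (1 + 2 * k * z) * (1 + k * z) = m * z ^ 2 := by
    have h3 : 2 * ((1 + 2 * k * z) * (1 + k * z)) = 2 * (m * z ^ 2) := by
      rw [he] at h1
      linear_combination h1
    linarith
  have h3 : z ∣ 1 := by
    have h4 : z ∣ m * z ^ 2 := ⟨m * z, by ring⟩
    rw [← h2] at h4
    have h5 : (1 + 2 * k * z) * (1 + k * z) = 1 + z * (3 * k + 2 * k ^ 2 * z) := by ring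
    rw [h5] at h4
    exact (Int.dvd_add_left (Dvd.intro _ rfl)).mp h4
  have h4 : z = 1 ∨ z = -1 := by
    rcases Int.isUnit_iff.mp (isUnit_of_dvd_one h3) with h | h
    · exact Or.inl h
    · exact Or.inr h
  rcases h4 with rfl | rfl
  · refine ⟨Or.inl (by linarith), ?_⟩
    rw [h1]; ring
  · refine ⟨Or.inr (by linarith), ?_⟩
    rw [h1]; ring

/-- The inner sum over the "rest" of the characters. -/
theorem sum_rest {g : G} (h1 : g ≠ 1) (hU : g ∉ D.U) (l : IrrCharacter D.K) (hl : l ≠ triv) :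
    ∑ i ∈ ((Finset.univ : Finset (IrrCharacter G)).erase triv).erase χ,
      (D.a l i : ℂ) * (i : G → ℂ) g = -1 - (ε : ℂ) * (χ : G → ℂ) g := by
  have h2 := D.phi_apply l g
  rw [D.phi_of_not_U l h1 hU, ← Finset.add_sum_erase _ _ (Finset.mem_univ (triv : IrrCharacter G)),
    ← Finset.add_sum_erase _ _ (Finset.mem_erase.mpr ⟨hC.hχ, Finset.mem_univ χ⟩), D.a_triv l hl,
    hC.ha l hl] at h2
  have h3 : ((triv : IrrCharacter G) : G → ℂ) g = 1 := rfl
  rw [h3] at h2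
  push_cast at h2
  linear_combination -h2

/-- The value of the class sum. -/
theorem F_value {g : G} (h1 : g ≠ 1) (hU : g ∉ D.U) :
    ((-1 - ε * deg χ : ℤ) : ℂ) *
        ∑ i : IrrCharacter G, ((i : G → ℂ) D.t) ^ 2 * (i : G → ℂ) g / (i : G → ℂ) 1 =
      ((-1 - ε * deg χ : ℤ) : ℂ) * (1 + (χ : G → ℂ) g / (deg χ : ℂ)) +
        2 * ((Nat.card D.K : ℂ) - 1) * (-1 - (ε : ℂ) * (χ : G → ℂ) g) := by
  rw [← Finset.add_sum_erase _ _ (Finset.mem_univ (triv : IrrCharacter G)),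
    ← Finset.add_sum_erase _ _ (Finset.mem_erase.mpr ⟨hC.hχ, Finset.mem_univ χ⟩)]
  have h2 : ((triv : IrrCharacter G) : G → ℂ) D.t = 1 := rfl
  have h3 : ((triv : IrrCharacter G) : G → ℂ) g = 1 := rfl
  have h4 : ((triv : IrrCharacter G) : G → ℂ) 1 = 1 := rfl
  rw [h2, h3, h4, ← D.X_cast χ, hC.X_eq, ← deg_cast χ]
  have hrest : ((-1 - ε * deg χ : ℤ) : ℂ) *
      ∑ i ∈ ((Finset.univ : Finset (IrrCharacter G)).erase triv).erase χ,
        ((i : G → ℂ) D.t) ^ 2 * (i : G → ℂ) g / (i : G → ℂ) 1 =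
      2 * ((Nat.card D.K : ℂ) - 1) * (-1 - (ε : ℂ) * (χ : G → ℂ) g) := by
    rw [Finset.mul_sum]
    have h5 : ∀ i ∈ ((Finset.univ : Finset (IrrCharacter G)).erase triv).erase χ,
        ((-1 - ε * deg χ : ℤ) : ℂ) * (((i : G → ℂ) D.t) ^ 2 * (i : G → ℂ) g / (i : G → ℂ) 1) =
        2 * ∑ l ∈ (Finset.univ : Finset (IrrCharacter D.K)).erase triv,
          (D.a l i : ℂ) * (i : G → ℂ) g := by
      intro i hi
      have hi1 := (Finset.mem_erase.mp hi).1
      have hi2 := (Finset.mem_erase.mp (Finset.mem_erase.mp hi).2).1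
      have h6 := hC.hw i hi2 hi1
      have h7 : ((D.X i ^ 2 * (-1 - ε * deg χ) : ℤ) : ℂ) =
          ((2 * (∑ l ∈ Finset.univ.erase triv, D.a l i) * deg i : ℤ) : ℂ) := by rw [h6]
      have hd : ((deg i : ℤ) : ℂ) ≠ 0 := by exact_mod_cast (deg_pos i).ne'
      rw [← D.X_cast i, ← deg_cast i, ← Finset.sum_mul]
      push_cast at h7 ⊢
      field_simp
      linear_combination ((i : G → ℂ) g) * h7
    rw [Finset.sum_congr rfl h5, ← Finset.mul_sum, Finset.sum_comm]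
    have h6 : ∀ l ∈ (Finset.univ : Finset (IrrCharacter D.K)).erase triv,
        ∑ i ∈ ((Finset.univ : Finset (IrrCharacter G)).erase triv).erase χ,
          (D.a l i : ℂ) * (i : G → ℂ) g = -1 - (ε : ℂ) * (χ : G → ℂ) g := by
      intro l hl
      exact hC.sum_rest h1 hU l (Finset.mem_erase.mp hl).1
    rw [Finset.sum_congr rfl h6, Finset.sum_const, nsmul_eq_mul]
    have h7 : (((Finset.univ : Finset (IrrCharacter D.K)).erase triv).card : ℂ) =
        (Nat.card D.K : ℂ) - 1 := by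
      have := D.card_erase_triv
      exact_mod_cast this
    rw [h7]
    ring
  rw [mul_add, mul_add, hrest]
  have hd : ((deg χ : ℤ) : ℂ) ≠ 0 := by exact_mod_cast (deg_pos χ).ne'
  have h8 : (ε : ℂ) ^ 2 = 1 := by rw [pow_two]; exact hC.eps_sq_c
  simp only [h8]
  ring

/-- The value of `I` off `U`. -/
theorem I_value {g : G} (h1 : g ≠ 1) (hU : g ∉ D.U) :
    4 * (Nat.card D.K : ℂ) * (I g : ℂ) =
      (((ε * deg χ : ℤ) : ℂ) + (ε : ℂ) * (χ : G → ℂ) g) * (1 + ((ε * deg χ : ℤ) : ℂ)) +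
       2 * ((Nat.card D.K : ℂ) - 1) * ((ε * deg χ : ℤ) : ℂ) * (1 + (ε : ℂ) * (χ : G → ℂ) g) := by
  have h2 := D.count_formula g
  have h3 := hC.F_value h1 hU
  have hm := hC.z_cases.2
  have hmc : ((ε * deg χ : ℤ) : ℂ) * (((ε * deg χ : ℤ) : ℂ) + 1) = 2 * (D.H.index : ℂ) := by
    exact_mod_cast hm
  set F := ∑ i : IrrCharacter G, ((i : G → ℂ) D.t) ^ 2 * (i : G → ℂ) g / (i : G → ℂ) 1 with hF
  rw [D.card_G, D.card_H] at h2
  have hk : (Nat.card D.K : ℂ) ≠ 0 := by exact_mod_cast Nat.card_pos.ne'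
  have hd : ((deg χ : ℤ) : ℂ) ≠ 0 := by exact_mod_cast (deg_pos χ).ne'
  have hI : 2 * (Nat.card D.K : ℂ) * (I g : ℂ) = (D.H.index : ℂ) * F := by
    rw [h2]
    push_cast
    field_simp
  have he : ((ε * deg χ : ℤ) : ℂ) * ((χ : G → ℂ) g / (deg χ : ℂ)) = (ε : ℂ) * (χ : G → ℂ) g := by
    push_cast
    field_simp
  have hne : ((-1 - ε * deg χ : ℤ) : ℂ) ≠ 0 := by exact_mod_cast hC.hne
  have h4 : ((-1 - ε * deg χ : ℤ) : ℂ) = -1 - ((ε * deg χ : ℤ) : ℂ) := by push_cast; ring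
  rw [h4] at h3 hne
  set e := ((ε * deg χ : ℤ) : ℂ) with he_def
  set r := (χ : G → ℂ) g / (deg χ : ℂ) with hr
  have h5 : (1 + e) * F = (1 + e) * (1 + r) + 2 * ((Nat.card D.K : ℂ) - 1) * (1 + (ε : ℂ) * (χ : G → ℂ) g) := by
    linear_combination -h3
  have h6 : 4 * (Nat.card D.K : ℂ) * (I g : ℂ) = e * (1 + e) * F := by
    linear_combination 2 * hI - F * hmc
  rw [h6]
  linear_combination e * h5 + (1 + e) * he

theorem isIntegral_T (g : G) : IsIntegral ℤ ((ε : ℂ) * (χ : G → ℂ) g) := by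
  obtain ⟨n, ρ, hρ, hj⟩ := χ.2
  have h1 := Cfsg.Agent.Lib.CharValues.isIntegral_character ρ g
  rw [hj] at h1
  exact (isIntegral_algebraMap (R := ℤ) (A := ℂ) (x := ε)).mul h1

end Data.Center

theorem int_of_integral {w : ℂ} (hw : IsIntegral ℤ w) {a b : ℤ} (hb : b ≠ 0)
    (h : (b : ℂ) * w = (a : ℂ)) : ∃ τ : ℤ, w = (τ : ℂ) := by
  have hb' : (b : ℂ) ≠ 0 := by exact_mod_cast hb
  have h1 : (a : ℂ) / (b : ℂ) = w := by
    rw [← h]
    field_simp
  rw [← h1] at hw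
  obtain ⟨τ, rfl⟩ := int_dvd_of_isIntegral_div hb hw
  refine ⟨τ, ?_⟩
  rw [← h1]
  push_cast
  field_simp

/-- `U` as a finset. -/
noncomputable def Data.Uf : Finset G := Finset.univ.filter (· ∈ D.U)

/-- The elements that are neither trivial nor in `U`. -/
noncomputable def Data.Zf : Finset G := Finset.univ.filter (fun g => g ≠ 1 ∧ g ∉ D.U)

theorem Data.sum_split {R : Type*} [AddCommMonoid R] (f : G → R) :
    ∑ g, f g = f 1 + ∑ g ∈ D.Uf, f g + ∑ g ∈ D.Zf, f g := by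
  have h1 : (Finset.univ : Finset G) = {1} ∪ (D.Uf ∪ D.Zf) := by
    ext g
    simp only [Finset.mem_univ, Finset.mem_union, Finset.mem_singleton, Data.Uf, Data.Zf,
      Finset.mem_filter, true_and, true_iff]
    by_cases h1 : g = 1
    · exact Or.inl h1
    · by_cases h2 : g ∈ D.U
      · exact Or.inr (Or.inl h2)
      · exact Or.inr (Or.inr ⟨h1, h2⟩)
  have hd1 : Disjoint D.Uf D.Zf := by
    rw [Finset.disjoint_left]
    intro g hg hg'
    simp only [Data.Uf, Data.Zf, Finset.mem_filter, Finset.mem_univ, true_and] at hg hg'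
    exact hg'.2 hg
  have hd2 : Disjoint ({1} : Finset G) (D.Uf ∪ D.Zf) := by
    rw [Finset.disjoint_singleton_left]
    simp [Data.Uf, Data.Zf, D.one_not_mem_U]
  rw [h1, Finset.sum_union hd2, Finset.sum_union hd1, Finset.sum_singleton, add_assoc]

theorem Data.card_split : 1 + D.Uf.card + D.Zf.card = Nat.card G := by
  have h := D.sum_split (fun _ => (1 : ℕ))
  simp only [Finset.sum_const, smul_eq_mul, mul_one, Finset.card_univ,
    Fintype.card_eq_nat_card] at h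
  exact h.symm

theorem Data.card_U : D.Uf.card + D.H.index = Nat.card D.K * D.H.index := by
  have hK : (Nat.card D.K : ℂ) ≠ 0 := by exact_mod_cast Nat.card_pos.ne'
  have hG : (Nat.card G : ℂ) ≠ 0 := by exact_mod_cast Nat.card_pos.ne'
  have hm : (D.H.index : ℂ) ≠ 0 := by exact_mod_cast D.index_pos.ne'
  set ψ : G → ℂ := indFun D.K (fun _ => 1) with hψ
  have h1 : classInner ψ (fun _ => 1) = 1 := by
    rw [hψ, CharInd.frobenius _ _ (isClassFunction_of_isCharacter isCharacter_one)]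
    unfold classInner
    simp only [map_one, mul_one, Finset.sum_const, Finset.card_univ, nsmul_eq_mul,
      Fintype.card_eq_nat_card]
    exact inv_mul_cancel₀ hK
  have h2 : ∑ g, ψ g = (Nat.card G : ℂ) := by
    unfold classInner at h1
    simp only [map_one, mul_one] at h1
    field_simp at h1
    exact h1
  rw [D.sum_split] at h2
  have h3 : ψ 1 = 2 * (D.H.index : ℂ) := by
    rw [hψ, indFun_one]
    have h4 : Nat.card D.K * D.K.index = 2 * Nat.card D.K * D.H.index := by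
      rw [Subgroup.card_mul_index, D.card_G]
    have h5 : D.K.index = 2 * D.H.index := by
      have : 0 < Nat.card D.K := Nat.card_pos
      nlinarith [Nat.eq_of_mul_eq_mul_left this (by rw [h4]; ring : Nat.card D.K * D.K.index = Nat.card D.K * (2 * D.H.index))]
    rw [h5]
    push_cast
    ring
  have h4 : ∀ g ∈ D.Uf, ψ g = 2 := by
    intro g hg
    simp only [Data.Uf, Finset.mem_filter, Finset.mem_univ, true_and] at hg
    obtain ⟨f, x, hx, h1, rfl⟩ := hg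
    rw [hψ, indFun_conj]
    have := D.ind_on_K (fun _ => 1) ⟨x, hx⟩ h1
    rw [this]
    norm_num
  have h5 : ∀ g ∈ D.Zf, ψ g = 0 := by
    intro g hg
    simp only [Data.Zf, Finset.mem_filter, Finset.mem_univ, true_and] at hg
    exact indFun_eq_zero_of_not_conj _ _ (D.not_conj_mem_K hg.1 hg.2)
  rw [Finset.sum_congr rfl h4, Finset.sum_congr rfl h5, h3, D.card_G] at h2
  simp only [Finset.sum_const, nsmul_eq_mul] at h2
  have h6 : ((D.Uf.card + D.H.index : ℕ) : ℂ) = ((Nat.card D.K * D.H.index : ℕ) : ℂ) := by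
    push_cast at h2 ⊢
    linear_combination h2 / 2
  exact_mod_cast h6

namespace Data.Center

variable {D} {χ : IrrCharacter G} {ε : ℤ} (hC : D.Center χ ε)

include hC

/-- The values of the exceptional character off `U` are integers. -/
theorem exists_tau {g : G} (h1 : g ≠ 1) (hU : g ∉ D.U) : ∃ τ : ℤ, (ε : ℂ) * (χ : G → ℂ) g = τ ∧
    4 * (Nat.card D.K : ℤ) * (I g : ℤ) =
      (ε * deg χ + τ) * (1 + ε * deg χ) + 2 * ((Nat.card D.K : ℤ) - 1) * (ε * deg χ) * (1 + τ) := by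
  have h2 := hC.I_value h1 hU
  have hk2 := D.hk
  have hK : (Nat.card D.K : ℤ) ≠ 0 := by exact_mod_cast Nat.card_pos.ne'
  have hKc : (Nat.card D.K : ℂ) ≠ 0 := by exact_mod_cast Nat.card_pos.ne'
  have hint := hC.isIntegral_T g
  have h3 : ∃ τ : ℤ, (ε : ℂ) * (χ : G → ℂ) g = τ := by
    rcases hC.z_cases.1 with he | he
    · rw [he] at h2
      apply int_of_integral hint (a := (I g : ℤ) - 2 * Nat.card D.K - 1) (b := Nat.card D.K) hK
      push_cast at h2 ⊢
      apply mul_left_cancel₀ (mul_ne_zero (by norm_num : (4 : ℂ) ≠ 0) hKc)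
      linear_combination -h2
    · rw [he] at h2
      have hK1 : (Nat.card D.K : ℤ) - 1 ≠ 0 := by omega
      have hK1c : (Nat.card D.K : ℂ) - 1 ≠ 0 := by exact_mod_cast hK1
      apply int_of_integral hint (a := -(I g : ℤ)) (b := (Nat.card D.K : ℤ) - 1) hK1
      push_cast at h2 ⊢
      apply mul_left_cancel₀ (mul_ne_zero (by norm_num : (4 : ℂ) ≠ 0) hKc)
      linear_combination h2
  obtain ⟨τ, hτ⟩ := h3
  refine ⟨τ, hτ, ?_⟩
  rw [hτ] at h2
  have h4 : ((4 * (Nat.card D.K : ℤ) * (I g : ℤ) : ℤ) : ℂ) =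
      (((ε * deg χ + τ) * (1 + ε * deg χ) +
        2 * ((Nat.card D.K : ℤ) - 1) * (ε * deg χ) * (1 + τ) : ℤ) : ℂ) := by
    push_cast at h2 ⊢
    exact h2
  exact_mod_cast h4

/-- The two sums over `G`. -/
theorem sums (τ : G → ℤ)
    (hτ : ∀ g, g ≠ 1 → g ∉ D.U → (ε : ℂ) * (χ : G → ℂ) g = τ g) :
    ε * deg χ + (D.Uf.card : ℤ) + ∑ g ∈ D.Zf, τ g = 0 ∧
    (ε * deg χ) ^ 2 + (D.Uf.card : ℤ) + ∑ g ∈ D.Zf, τ g ^ 2 = (Nat.card G : ℤ) := by
  have hG : (Nat.card G : ℂ) ≠ 0 := by exact_mod_cast Nat.card_pos.ne'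
  have h1 : classInner (χ : G → ℂ) (fun _ => 1) = 0 :=
    classInner_irr_ne χ.2 (triv : IrrCharacter G).2 (fun h => hC.hχ (Subtype.ext h))
  have h2 := classInner_irr_self χ.2
  unfold classInner at h1 h2
  simp only [map_one, mul_one] at h1
  have h3 : ∑ g, (χ : G → ℂ) g = 0 := by
    rcases mul_eq_zero.mp h1 with h | h
    · exact absurd h (inv_ne_zero hG)
    · exact h
  have h4 : ∑ g, (χ : G → ℂ) g * conj ((χ : G → ℂ) g) = (Nat.card G : ℂ) := by
    field_simp at h2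
    exact h2
  have hone : (ε : ℂ) * (χ : G → ℂ) 1 = ((ε * deg χ : ℤ) : ℂ) := by
    rw [← deg_cast]; push_cast; ring
  have hsU : ∀ g ∈ D.Uf, (ε : ℂ) * (χ : G → ℂ) g = 1 := by
    intro g hg
    simp only [Data.Uf, Finset.mem_filter, Finset.mem_univ, true_and] at hg
    exact hC.on_U hg
  have hsZ : ∀ g ∈ D.Zf, (ε : ℂ) * (χ : G → ℂ) g = τ g := by
    intro g hg
    simp only [Data.Zf, Finset.mem_filter, Finset.mem_univ, true_and] at hg
    exact hτ g hg.1 hg.2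
  constructor
  · have h5 : ∑ g, (ε : ℂ) * (χ : G → ℂ) g = 0 := by
      rw [← Finset.mul_sum, h3, mul_zero]
    rw [D.sum_split, hone, Finset.sum_congr rfl hsU, Finset.sum_congr rfl hsZ] at h5
    simp only [Finset.sum_const, nsmul_eq_mul, mul_one] at h5
    have h6 : ((ε * deg χ + (D.Uf.card : ℤ) + ∑ g ∈ D.Zf, τ g : ℤ) : ℂ) = ((0 : ℤ) : ℂ) := by
      push_cast at h5 ⊢
      exact h5
    exact_mod_cast h6
  · have h5 : ∑ g, ((ε : ℂ) * (χ : G → ℂ) g) * conj ((ε : ℂ) * (χ : G → ℂ) g) =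
        (Nat.card G : ℂ) := by
      rw [← h4]
      refine Finset.sum_congr rfl fun g _ => ?_
      rw [map_mul, map_intCast]
      linear_combination ((χ : G → ℂ) g) * conj ((χ : G → ℂ) g) * hC.eps_sq_c
    have hU2 : ∑ g ∈ D.Uf, ((ε : ℂ) * (χ : G → ℂ) g) * conj ((ε : ℂ) * (χ : G → ℂ) g) =
        (D.Uf.card : ℂ) := by
      rw [Finset.sum_congr rfl (fun g hg => by rw [hsU g hg, map_one, mul_one] :
        ∀ g ∈ D.Uf, ((ε : ℂ) * (χ : G → ℂ) g) * conj ((ε : ℂ) * (χ : G → ℂ) g) = 1)]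
      simp
    have hZ2 : ∑ g ∈ D.Zf, ((ε : ℂ) * (χ : G → ℂ) g) * conj ((ε : ℂ) * (χ : G → ℂ) g) =
        ∑ g ∈ D.Zf, ((τ g : ℂ)) ^ 2 := by
      refine Finset.sum_congr rfl fun g hg => ?_
      rw [hsZ g hg, map_intCast]
      ring
    rw [D.sum_split, hone, hU2, hZ2, map_intCast] at h5
    have h6 : (((ε * deg χ) ^ 2 + (D.Uf.card : ℤ) + ∑ g ∈ D.Zf, τ g ^ 2 : ℤ) : ℂ) =
        ((Nat.card G : ℤ) : ℂ) := by
      push_cast at h5 ⊢
      rw [← h5]
      ring
    exact_mod_cast h6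

/-- The subgroup condition. -/
theorem subgroup_dvd (A : Subgroup G)
    (hτ : ∀ y ∈ A, y ≠ 1 → (ε : ℂ) * (χ : G → ℂ) y = 0) :
    (Nat.card A : ℤ) ∣ ε * deg χ := by
  let _ : Fintype A := Fintype.ofFinite A
  obtain ⟨N, hN⟩ := avg_irr χ A
  have h1 : ∑ u : A, (ε : ℂ) * (χ : G → ℂ) (u : G) = ((ε * deg χ : ℤ) : ℂ) := by
    rw [← Finset.add_sum_erase _ _ (Finset.mem_univ (1 : A))]
    have h2 : ∀ u ∈ (Finset.univ : Finset A).erase 1, (ε : ℂ) * (χ : G → ℂ) (u : G) = 0 := by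
      intro u hu
      apply hτ u u.2
      intro h3
      exact (Finset.mem_erase.mp hu).1 (Subtype.ext h3)
    rw [Finset.sum_eq_zero h2, add_zero, show ((1 : A) : G) = 1 from rfl, ← deg_cast]
    push_cast
    rfl
  rw [← Finset.mul_sum, hN] at h1
  refine ⟨ε * N, ?_⟩
  have h3 : ((ε * deg χ : ℤ) : ℂ) = (((Nat.card A : ℤ) * (ε * N) : ℤ) : ℂ) := by
    rw [← h1]
    push_cast
    ring
  exact_mod_cast h3

end Data.Center

/-- The numerical output of the character theory. -/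
theorem Data.numerics :
    ∃ (Z₀ : Finset G) (q : ℕ),
      (∀ g ∈ Z₀, g ≠ 1 ∧ g ∉ D.U) ∧ Z₀.card + 1 = q * q ∧
      ((q = 2 * Nat.card D.K + 1 ∧ 2 * D.H.index = q * (q + 1) ∧ (∀ g ∈ Z₀, I g = q) ∧
          ∀ g, g ≠ 1 → g ∉ D.U → g ∉ Z₀ → I g = Nat.card D.K + 1) ∨
       (q + 1 = 2 * Nat.card D.K ∧ 2 * D.H.index + q = q * q ∧ (∀ g ∈ Z₀, I g = 0) ∧
          (∀ g, g ≠ 1 → g ∉ D.U → g ∉ Z₀ → I g + 1 = Nat.card D.K) ∧
          ∀ A : Subgroup G, (∀ y ∈ A, y ≠ 1 → y ∈ Z₀) → Nat.card A ∣ q)) := by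
  obtain ⟨χ, ε, hC⟩ := D.exists_Center
  have hτ0 : ∀ g : G, ∃ τ : ℤ, g ≠ 1 → g ∉ D.U → (ε : ℂ) * (χ : G → ℂ) g = τ ∧
      4 * (Nat.card D.K : ℤ) * (I g : ℤ) =
      (ε * deg χ + τ) * (1 + ε * deg χ) + 2 * ((Nat.card D.K : ℤ) - 1) * (ε * deg χ) * (1 + τ) := by
    intro g
    by_cases h1 : g ≠ 1 ∧ g ∉ D.U
    · obtain ⟨τ, hτ⟩ := hC.exists_tau h1.1 h1.2
      exact ⟨τ, fun _ _ => hτ⟩
    · exact ⟨0, fun a b => absurd ⟨a, b⟩ h1⟩
  choose τ hτ using hτ0
  obtain ⟨hS1, hS2⟩ := hC.sums τ (fun g h1 hU => (hτ g h1 hU).1)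
  obtain ⟨hecases, hem⟩ := hC.z_cases
  have hU := D.card_U
  have hsplit := D.card_split
  have hcG := D.card_G
  have hk2 := D.hk
  have hk0 : (Nat.card D.K : ℤ) ≠ 0 := by exact_mod_cast Nat.card_pos.ne'
  set e := ε * deg χ with he_def
  set k : ℤ := (Nat.card D.K : ℤ) with hk_def
  set m : ℤ := (D.H.index : ℤ) with hm_def
  have hUz : (D.Uf.card : ℤ) + m = k * m := by
    rw [hk_def, hm_def]; exact_mod_cast hU
  have hGz : (Nat.card G : ℤ) = 2 * k * m := by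
    rw [hk_def, hm_def]; exact_mod_cast hcG
  have hsum0 : ∑ g ∈ D.Zf, τ g * (τ g + 1) = 0 := by
    have : ∑ g ∈ D.Zf, τ g * (τ g + 1) = ∑ g ∈ D.Zf, τ g ^ 2 + ∑ g ∈ D.Zf, τ g := by
      rw [← Finset.sum_add_distrib]
      refine Finset.sum_congr rfl fun g _ => ?_
      ring
    rw [this]
    linear_combination hS2 + hS1 - hem - 2 * hUz + hGz
  have hnn : ∀ g ∈ D.Zf, 0 ≤ τ g * (τ g + 1) := by
    intro g _
    rcases le_or_gt 0 (τ g) with h | h
    · positivity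
    · have : τ g + 1 ≤ 0 := by omega
      exact mul_nonneg_of_nonpos_of_nonpos h.le this
  have hzero := (Finset.sum_eq_zero_iff_of_nonneg hnn).mp hsum0
  have hτval : ∀ g ∈ D.Zf, τ g = 0 ∨ τ g = -1 := by
    intro g hg
    rcases mul_eq_zero.mp (hzero g hg) with h | h
    · exact Or.inl h
    · right; omega
  -- counts
  set Z₀ := D.Zf.filter (fun g => τ g = 0) with hZ₀
  set Z₁ := D.Zf.filter (fun g => ¬ τ g = 0) with hZ₁
  have hcZ : (Z₀.card : ℤ) + (Z₁.card : ℤ) = (D.Zf.card : ℤ) := by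
    have := Finset.card_filter_add_card_filter_not (s := D.Zf) (fun g => τ g = 0)
    exact_mod_cast this
  have hS3 : ∑ g ∈ D.Zf, τ g = -(Z₁.card : ℤ) := by
    rw [← Finset.sum_filter_add_sum_filter_not D.Zf (fun g => τ g = 0)]
    have h1 : ∑ g ∈ D.Zf.filter (fun g => τ g = 0), τ g = 0 :=
      Finset.sum_eq_zero (fun g hg => (Finset.mem_filter.mp hg).2)
    have h2 : ∑ g ∈ D.Zf.filter (fun g => ¬ τ g = 0), τ g =
        ∑ g ∈ D.Zf.filter (fun g => ¬ τ g = 0), (-1 : ℤ) := by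
      refine Finset.sum_congr rfl fun g hg => ?_
      obtain ⟨h3, h4⟩ := Finset.mem_filter.mp hg
      rcases hτval g h3 with h | h
      · exact absurd h h4
      · exact h
    rw [h1, h2]
    simp [hZ₁]
  have hsplitz : (1 : ℤ) + (D.Uf.card : ℤ) + (D.Zf.card : ℤ) = (Nat.card G : ℤ) := by
    exact_mod_cast hsplit
  have hcard0 : (Z₀.card : ℤ) + 1 = e ^ 2 := by
    rw [hS3] at hS1
    linear_combination hcZ + hsplitz + hS1 + hGz - 2 * hUz - hem
  have hmem0 : ∀ g ∈ Z₀, g ≠ 1 ∧ g ∉ D.U := by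
    intro g hg
    have := (Finset.mem_filter.mp hg).1
    simpa [Data.Zf] using this
  have hI0 : ∀ g ∈ Z₀, 4 * k * (I g : ℤ) = e * (1 + e) + 2 * (k - 1) * e := by
    intro g hg
    obtain ⟨h1, h2⟩ := hmem0 g hg
    have h3 := (hτ g h1 h2).2
    rw [(Finset.mem_filter.mp hg).2] at h3
    rw [h3]
    ring
  have hI1 : ∀ g, g ≠ 1 → g ∉ D.U → g ∉ Z₀ → 4 * k * (I g : ℤ) = (e - 1) * (1 + e) := by
    intro g h1 h2 h4
    have hgZ : g ∈ D.Zf := by simp [Data.Zf, h1, h2]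
    have h5 : τ g = -1 := by
      rcases hτval g hgZ with h | h
      · exact absurd (Finset.mem_filter.mpr ⟨hgZ, h⟩) h4
      · exact h
    have h3 := (hτ g h1 h2).2
    rw [h5] at h3
    rw [h3]
    ring
  rcases hecases with he | he
  · -- z = +1
    refine ⟨Z₀, 2 * Nat.card D.K + 1, hmem0, ?_, Or.inl ⟨rfl, ?_, ?_, ?_⟩⟩
    · have : ((Z₀.card + 1 : ℕ) : ℤ) = (((2 * Nat.card D.K + 1) * (2 * Nat.card D.K + 1) : ℕ) : ℤ) := by
        push_cast
        rw [hcard0, he]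
        ring
      exact_mod_cast this
    · have : ((2 * D.H.index : ℕ) : ℤ) =
          (((2 * Nat.card D.K + 1) * (2 * Nat.card D.K + 1 + 1) : ℕ) : ℤ) := by
        push_cast
        rw [he] at hem
        linear_combination -hem
      exact_mod_cast this
    · intro g hg
      have h1 := hI0 g hg
      rw [he] at h1
      have h2 : 4 * k * ((I g : ℤ) - (2 * k + 1)) = 0 := by linear_combination h1
      have h3 := (mul_eq_zero.mp h2).resolve_left (by simpa using hk0)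
      have h4 : ((I g : ℕ) : ℤ) = ((2 * Nat.card D.K + 1 : ℕ) : ℤ) := by
        push_cast
        linarith
      exact_mod_cast h4
    · intro g h0 h1 h2
      have h3 := hI1 g h0 h1 h2
      rw [he] at h3
      have h4 : 4 * k * ((I g : ℤ) - (k + 1)) = 0 := by linear_combination h3
      have h5 := (mul_eq_zero.mp h4).resolve_left (by simpa using hk0)
      have h6 : ((I g : ℕ) : ℤ) = ((Nat.card D.K + 1 : ℕ) : ℤ) := by
        push_cast
        linarith
      exact_mod_cast h6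
  · -- z = -1
    refine ⟨Z₀, 2 * Nat.card D.K - 1, hmem0, ?_, Or.inr ⟨?_, ?_, ?_, ?_, ?_⟩⟩
    · have h0 : ((2 * Nat.card D.K - 1 : ℕ) : ℤ) = 2 * k - 1 := by
        rw [Nat.cast_sub (by omega)]
        push_cast
        rfl
      have : ((Z₀.card + 1 : ℕ) : ℤ) = (((2 * Nat.card D.K - 1) * (2 * Nat.card D.K - 1) : ℕ) : ℤ) := by
        rw [Nat.cast_mul, h0]
        push_cast
        rw [hcard0, he]
        ring
      exact_mod_cast this
    · omega
    · have h0 : ((2 * Nat.card D.K - 1 : ℕ) : ℤ) = 2 * k - 1 := by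
        rw [Nat.cast_sub (by omega)]
        push_cast
        rfl
      have : ((2 * D.H.index + (2 * Nat.card D.K - 1) : ℕ) : ℤ) =
          (((2 * Nat.card D.K - 1) * (2 * Nat.card D.K - 1) : ℕ) : ℤ) := by
        rw [Nat.cast_mul, Nat.cast_add, h0]
        push_cast
        rw [he] at hem
        linear_combination -hem
      exact_mod_cast this
    · intro g hg
      have h1 := hI0 g hg
      rw [he] at h1
      have h2 : 4 * k * (I g : ℤ) = 0 := by linear_combination h1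
      have h3 := (mul_eq_zero.mp h2).resolve_left (by simpa using hk0)
      exact_mod_cast h3
    · intro g h0 h1 h2
      have h3 := hI1 g h0 h1 h2
      rw [he] at h3
      have h4 : 4 * k * ((I g : ℤ) + 1 - k) = 0 := by linear_combination h3
      have h5 := (mul_eq_zero.mp h4).resolve_left (by simpa using hk0)
      have h6 : ((I g + 1 : ℕ) : ℤ) = ((Nat.card D.K : ℕ) : ℤ) := by
        push_cast
        linarith
      exact_mod_cast h6
    · intro A hA
      have h1 := hC.subgroup_dvd A (by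
        intro y hy hy1
        have h2 := hA y hy hy1
        obtain ⟨h3, h4⟩ := hmem0 y h2
        rw [(hτ y h3 h4).1, (Finset.mem_filter.mp h2).2]
        simp)
      have h0 : ((2 * Nat.card D.K - 1 : ℕ) : ℤ) = -e := by
        rw [Nat.cast_sub (by omega), he]
        push_cast
        rw [hk_def]
        ring
      have h2 : (Nat.card A : ℤ) ∣ ((2 * Nat.card D.K - 1 : ℕ) : ℤ) := by
        rw [h0]
        exact (dvd_neg).mpr h1
      exact_mod_cast h2

end Cfsg.Agent.Lib.BSW
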