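import Mathlib
import Cfsg.Agent.Lib.QuatTab

/-!
# Tables of the binary tetrahedral, octahedral and icosahedral groups (modulo `±1`)
-/

set_option autoImplicit false

namespace Cfsg.Agent.Lib.QuatTabs

open Cfsg.Agent.Lib.QuatTab

/-- `(√2 + √2 i) / 2`. -/
def hO : QE := ⟨(0, 1), (0, 1), (0, 0), (0, 0)⟩
/-- `(τ + (τ - 1) i + j) / 2`. -/
def uI : QE := ⟨(0, 1), (-1, 1), (1, 0), (0, 0)⟩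

/-- Generators of the tetrahedral group. -/
def gensT : List QE := [om1, om2, qconj om1, qconj om2]
/-- Generators of the octahedral group. -/
def gensO : List QE := [om1, om2, qconj om1, qconj om2, hO, qconj hO]
/-- Generators of the icosahedral group. -/
def gensI : List QE := [om1, om2, qconj om1, qconj om2, uI, qconj uI]

def tabT : List QE := [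
  ⟨(2,0),(0,0),(0,0),(0,0)⟩,
  ⟨(1,0),(1,0),(1,0),(1,0)⟩,
  ⟨(1,0),(1,0),(1,0),(-1,0)⟩,
  ⟨(1,0),(1,0),(-1,0),(1,0)⟩,
  ⟨(1,0),(1,0),(-1,0),(-1,0)⟩,
  ⟨(1,0),(-1,0),(1,0),(1,0)⟩,
  ⟨(1,0),(-1,0),(1,0),(-1,0)⟩,
  ⟨(1,0),(-1,0),(-1,0),(1,0)⟩,
  ⟨(1,0),(-1,0),(-1,0),(-1,0)⟩,
  ⟨(0,0),(2,0),(0,0),(0,0)⟩,
  ⟨(0,0),(0,0),(2,0),(0,0)⟩,
  ⟨(0,0),(0,0),(0,0),(2,0)⟩]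

def tabO : List QE := [
  ⟨(2,0),(0,0),(0,0),(0,0)⟩,
  ⟨(1,0),(1,0),(1,0),(1,0)⟩,
  ⟨(1,0),(1,0),(1,0),(-1,0)⟩,
  ⟨(1,0),(1,0),(-1,0),(1,0)⟩,
  ⟨(1,0),(1,0),(-1,0),(-1,0)⟩,
  ⟨(1,0),(-1,0),(1,0),(1,0)⟩,
  ⟨(1,0),(-1,0),(1,0),(-1,0)⟩,
  ⟨(1,0),(-1,0),(-1,0),(1,0)⟩,
  ⟨(1,0),(-1,0),(-1,0),(-1,0)⟩,
  ⟨(0,1),(0,1),(0,0),(0,0)⟩,
  ⟨(0,1),(0,0),(0,1),(0,0)⟩,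
  ⟨(0,1),(0,0),(0,0),(0,1)⟩,
  ⟨(0,1),(0,0),(0,0),(0,-1)⟩,
  ⟨(0,1),(0,0),(0,-1),(0,0)⟩,
  ⟨(0,1),(0,-1),(0,0),(0,0)⟩,
  ⟨(0,0),(2,0),(0,0),(0,0)⟩,
  ⟨(0,0),(0,1),(0,1),(0,0)⟩,
  ⟨(0,0),(0,1),(0,0),(0,1)⟩,
  ⟨(0,0),(0,1),(0,0),(0,-1)⟩,
  ⟨(0,0),(0,1),(0,-1),(0,0)⟩,
  ⟨(0,0),(0,0),(2,0),(0,0)⟩,
  ⟨(0,0),(0,0),(0,1),(0,1)⟩,
  ⟨(0,0),(0,0),(0,1),(0,-1)⟩,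
  ⟨(0,0),(0,0),(0,0),(2,0)⟩]

def tabI : List QE := [
  ⟨(2,0),(0,0),(0,0),(0,0)⟩,
  ⟨(1,0),(1,0),(1,0),(1,0)⟩,
  ⟨(1,0),(1,0),(1,0),(-1,0)⟩,
  ⟨(1,0),(1,0),(-1,0),(1,0)⟩,
  ⟨(1,0),(1,0),(-1,0),(-1,0)⟩,
  ⟨(1,0),(1,-1),(0,0),(0,1)⟩,
  ⟨(1,0),(1,-1),(0,0),(0,-1)⟩,
  ⟨(1,0),(0,1),(1,-1),(0,0)⟩,
  ⟨(1,0),(0,1),(-1,1),(0,0)⟩,
  ⟨(1,0),(0,0),(0,1),(1,-1)⟩,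
  ⟨(1,0),(0,0),(0,1),(-1,1)⟩,
  ⟨(1,0),(0,0),(0,-1),(1,-1)⟩,
  ⟨(1,0),(0,0),(0,-1),(-1,1)⟩,
  ⟨(1,0),(0,-1),(1,-1),(0,0)⟩,
  ⟨(1,0),(0,-1),(-1,1),(0,0)⟩,
  ⟨(1,0),(-1,1),(0,0),(0,1)⟩,
  ⟨(1,0),(-1,1),(0,0),(0,-1)⟩,
  ⟨(1,0),(-1,0),(1,0),(1,0)⟩,
  ⟨(1,0),(-1,0),(1,0),(-1,0)⟩,
  ⟨(1,0),(-1,0),(-1,0),(1,0)⟩,
  ⟨(1,0),(-1,0),(-1,0),(-1,0)⟩,
  ⟨(1,-1),(1,0),(0,1),(0,0)⟩,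
  ⟨(1,-1),(1,0),(0,-1),(0,0)⟩,
  ⟨(1,-1),(0,1),(0,0),(1,0)⟩,
  ⟨(1,-1),(0,1),(0,0),(-1,0)⟩,
  ⟨(1,-1),(0,0),(1,0),(0,1)⟩,
  ⟨(1,-1),(0,0),(1,0),(0,-1)⟩,
  ⟨(1,-1),(0,0),(-1,0),(0,1)⟩,
  ⟨(1,-1),(0,0),(-1,0),(0,-1)⟩,
  ⟨(1,-1),(0,-1),(0,0),(1,0)⟩,
  ⟨(1,-1),(0,-1),(0,0),(-1,0)⟩,
  ⟨(1,-1),(-1,0),(0,1),(0,0)⟩,
  ⟨(1,-1),(-1,0),(0,-1),(0,0)⟩,
  ⟨(0,1),(1,0),(0,0),(1,-1)⟩,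
  ⟨(0,1),(1,0),(0,0),(-1,1)⟩,
  ⟨(0,1),(1,-1),(1,0),(0,0)⟩,
  ⟨(0,1),(1,-1),(-1,0),(0,0)⟩,
  ⟨(0,1),(0,0),(1,-1),(1,0)⟩,
  ⟨(0,1),(0,0),(1,-1),(-1,0)⟩,
  ⟨(0,1),(0,0),(-1,1),(1,0)⟩,
  ⟨(0,1),(0,0),(-1,1),(-1,0)⟩,
  ⟨(0,1),(-1,1),(1,0),(0,0)⟩,
  ⟨(0,1),(-1,1),(-1,0),(0,0)⟩,
  ⟨(0,1),(-1,0),(0,0),(1,-1)⟩,
  ⟨(0,1),(-1,0),(0,0),(-1,1)⟩,
  ⟨(0,0),(2,0),(0,0),(0,0)⟩,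
  ⟨(0,0),(1,0),(1,-1),(0,1)⟩,
  ⟨(0,0),(1,0),(1,-1),(0,-1)⟩,
  ⟨(0,0),(1,0),(-1,1),(0,1)⟩,
  ⟨(0,0),(1,0),(-1,1),(0,-1)⟩,
  ⟨(0,0),(1,-1),(0,1),(1,0)⟩,
  ⟨(0,0),(1,-1),(0,1),(-1,0)⟩,
  ⟨(0,0),(1,-1),(0,-1),(1,0)⟩,
  ⟨(0,0),(1,-1),(0,-1),(-1,0)⟩,
  ⟨(0,0),(0,1),(1,0),(1,-1)⟩,
  ⟨(0,0),(0,1),(1,0),(-1,1)⟩,
  ⟨(0,0),(0,1),(-1,0),(1,-1)⟩,
  ⟨(0,0),(0,1),(-1,0),(-1,1)⟩,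
  ⟨(0,0),(0,0),(2,0),(0,0)⟩,
  ⟨(0,0),(0,0),(0,0),(2,0)⟩]

/-- The check for the tetrahedral table. -/
theorem tabT_ok :
    q1 ∈ tabT ∧ (∀ A ∈ tabT, qnorm 0 0 A = (4, 0)) ∧
    (∀ G ∈ gensT, qnorm 0 0 G = (4, 0) ∧ qconj G ∈ gensT ∧ qmul 0 0 G (qconj G) = dbl q1) ∧
    (∀ A ∈ tabT, ∀ G ∈ gensT, ∃ C ∈ tabT, qmul 0 0 A G = dbl C ∨ qmul 0 0 A G = qneg (dbl C)) := by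
  decide +kernel

/-- The check for the octahedral table. -/
theorem tabO_ok :
    q1 ∈ tabO ∧ (∀ A ∈ tabO, qnorm 0 2 A = (4, 0)) ∧
    (∀ G ∈ gensO, qnorm 0 2 G = (4, 0) ∧ qconj G ∈ gensO ∧ qmul 0 2 G (qconj G) = dbl q1) ∧
    (∀ A ∈ tabO, ∀ G ∈ gensO, ∃ C ∈ tabO, qmul 0 2 A G = dbl C ∨ qmul 0 2 A G = qneg (dbl C)) := by
  decide +kernel

/-- The check for the icosahedral table. -/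
theorem tabI_ok :
    q1 ∈ tabI ∧ (∀ A ∈ tabI, qnorm 1 1 A = (4, 0)) ∧
    (∀ G ∈ gensI, qnorm 1 1 G = (4, 0) ∧ qconj G ∈ gensI ∧ qmul 1 1 G (qconj G) = dbl q1) ∧
    (∀ A ∈ tabI, ∀ G ∈ gensI, ∃ C ∈ tabI, qmul 1 1 A G = dbl C ∨ qmul 1 1 A G = qneg (dbl C)) := by
  decide +kernel

theorem tabT_length : tabT.length = 12 := by decide +kernel
theorem tabO_length : tabO.length = 24 := by decide +kernel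
theorem tabI_length : tabI.length = 60 := by decide +kernel

/-- Powers of `hO`. -/
theorem hO_sq : qmul 0 2 hO hO = dbl qi := by decide +kernel
theorem qnorm_hO : qnorm 0 2 hO = (4, 0) := by decide +kernel

/-- `uI²`. -/
def uI2 : QE := ⟨(-1, 1), (1, 0), (0, 1), (0, 0)⟩
/-- `uI³`. -/
def uI3 : QE := ⟨(1, -1), (1, 0), (0, 1), (0, 0)⟩
/-- `uI⁴`. -/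
def uI4 : QE := ⟨(0, -1), (-1, 1), (1, 0), (0, 0)⟩

theorem uI_pow : qmul 1 1 uI uI = dbl uI2 ∧ qmul 1 1 uI2 uI = dbl uI3 ∧ qmul 1 1 uI3 uI = dbl uI4 ∧
    qmul 1 1 uI4 uI = dbl (qneg q1) := by decide +kernel

theorem uI_norm : qnorm 1 1 uI = (4, 0) ∧ qnorm 1 1 uI2 = (4, 0) ∧ qnorm 1 1 uI3 = (4, 0) ∧ qnorm 1 1 uI4 = (4, 0) := by
  decide +kernel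

end Cfsg.Agent.Lib.QuatTabs
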