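import Mathlib
import Cfsg.Agent.Lib.PSL2TorMax
import Cfsg.Agent.Lib.BurnsidePQ
import Cfsg.Agent.Lib.PSL2Excl

/-!
# Solvable subgroups of `PSL₂`
-/

set_option autoImplicit false
set_option linter.style.haveILetI false
set_option linter.unusedVariables false
set_option linter.unusedSectionVars false

namespace Cfsg.Agent.Lib.PSL2Solv

open Matrix Subgroup
open Cfsg.Agent.Lib.SL2Core Cfsg.Agent.Lib.DicksonMat Cfsg.Agent.Lib.DicksonAbs Cfsg.Agent.Lib.DicksonStruct
open Cfsg.Agent.Lib.PSL2Max Cfsg.Agent.Lib.PSL2Cnt Cfsg.Agent.Lib.PSL2Coat Cfsg.Agent.Lib.PSL2Nor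
open Cfsg.Agent.Lib.SL2Bor

lemma isSolvable_dihedral (n : ℕ) : Group.IsSolvable (DihedralGroup n) := by
  let g : DihedralGroup n →* Multiplicative (ZMod 2) :=
    MonoidHom.mk' (fun x => match x with
      | DihedralGroup.r _ => 1
      | DihedralGroup.sr _ => Multiplicative.ofAdd 1) (by
        rintro (a | a) (b | b) <;>
          simp only [DihedralGroup.r_mul_r, DihedralGroup.r_mul_sr, DihedralGroup.sr_mul_r, DihedralGroup.sr_mul_sr] <;>
          decide)
  haveI : Group.IsSolvable g.ker := Group.isSolvable_of_comm (by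
    rintro ⟨a, ha⟩ ⟨b, hb⟩
    have hr : ∀ x : DihedralGroup n, x ∈ g.ker → ∃ i, x = DihedralGroup.r i := by
      rintro (i | i) hx
      · exact ⟨i, rfl⟩
      · exfalso
        have : (Multiplicative.ofAdd (1 : ZMod 2)) = 1 := hx
        revert this
        decide
    obtain ⟨i, rfl⟩ := hr a ha
    obtain ⟨j, rfl⟩ := hr b hb
    apply Subtype.ext
    simp [add_comm])
  exact Group.isSolvable_of_ker_le_range g.ker.subtype g (by simp)

section bor

variable {F : Type*} [Field F]

/-- The character of the Borel subgroup. -/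
noncomputable def borChar (F : Type*) [Field F] : Bor F →* Fˣ :=
  MonoidHom.mk' (fun g => Units.mk0 _ (bor_ne_zero g.2)) (by
    intro a b
    ext
    exact mul_entries_bor a.2 b.2)

lemma isSolvable_Bor : Group.IsSolvable (Bor F) := by
  haveI : Group.IsSolvable (borChar F).ker := Group.isSolvable_of_comm (by
    rintro ⟨a, ha⟩ ⟨b, hb⟩
    have ha1 : ((a : SL2 F) : Matrix (Fin 2) (Fin 2) F) 0 0 = 1 := congrArg Units.val (MonoidHom.mem_ker.mp ha)
    have hb1 : ((b : SL2 F) : Matrix (Fin 2) (Fin 2) F) 0 0 = 1 := congrArg Units.val (MonoidHom.mem_ker.mp hb)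
    have ha2 := bor_diag a.2
    have hb2 := bor_diag b.2
    rw [ha1, one_mul] at ha2
    rw [hb1, one_mul] at hb2
    have ha3 := mem_Bor.mp a.2
    have hb3 := mem_Bor.mp b.2
    apply Subtype.ext
    apply Subtype.ext
    apply sl2_ext
    · change (((a : SL2 F) * (b : SL2 F) : SL2 F) : Matrix (Fin 2) (Fin 2) F) 0 0 = (((b : SL2 F) * (a : SL2 F) : SL2 F) : Matrix (Fin 2) (Fin 2) F) 0 0
      rw [mul_apply2, mul_apply2, ha1, hb1, ha3, hb3]
      ring
    · change (((a : SL2 F) * (b : SL2 F) : SL2 F) : Matrix (Fin 2) (Fin 2) F) 0 1 = (((b : SL2 F) * (a : SL2 F) : SL2 F) : Matrix (Fin 2) (Fin 2) F) 0 1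
      rw [mul_apply2, mul_apply2, ha1, hb1, ha2, hb2]
      ring
    · change (((a : SL2 F) * (b : SL2 F) : SL2 F) : Matrix (Fin 2) (Fin 2) F) 1 0 = (((b : SL2 F) * (a : SL2 F) : SL2 F) : Matrix (Fin 2) (Fin 2) F) 1 0
      rw [mul_apply2, mul_apply2, ha3, hb3]
      ring
    · change (((a : SL2 F) * (b : SL2 F) : SL2 F) : Matrix (Fin 2) (Fin 2) F) 1 1 = (((b : SL2 F) * (a : SL2 F) : SL2 F) : Matrix (Fin 2) (Fin 2) F) 1 1
      rw [mul_apply2, mul_apply2, ha3, hb3, ha2, hb2]
      ring)
  exact Group.isSolvable_of_ker_le_range (borChar F).ker.subtype (borChar F) (by simp)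

variable [Fintype F]

lemma isSolvable_normalizer_parabolic {A : SL2 F} (hA : A ∉ center (SL2 F)) (ht : tr A * tr A = 4) :
    Group.IsSolvable (normalizer ((MM (proj A) : Subgroup (PSL2 F)) : Set (PSL2 F))) := by
  obtain ⟨g, X, hg, h10, h00, h01⟩ := exists_upper hA ht
  let φ : Bor F →* PSL2 F := proj.comp ((MulAut.conj g).toMonoidHom.comp (Bor F).subtype)
  haveI : Group.IsSolvable (Bor F) := isSolvable_Bor
  haveI : Group.IsSolvable φ.range := Group.isSolvable_of_surjective φ.rangeRestrict_surjective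
  have hle : normalizer ((MM (proj A) : Subgroup (PSL2 F)) : Set (PSL2 F)) ≤ φ.range := by
    intro x hx
    obtain ⟨U, rfl⟩ := proj_surjective x
    have h1 := (mem_normalizer_parabolic hA hg h10 h00 h01 U).mp hx
    refine ⟨⟨g⁻¹ * U * g, mem_Bor.mpr h1⟩, ?_⟩
    change proj (g * (g⁻¹ * U * g) * g⁻¹) = proj U
    congr 1
    group
  exact Group.isSolvable_of_isSolvable_injective (Subgroup.inclusion_injective hle)

end bor

lemma isSolvable_of_card_2_3 {G : Type*} [Group G] [Finite G] (n a b : ℕ) (h : Nat.card G = n) (hn : n = 2 ^ a * 3 ^ b) :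
    Group.IsSolvable G :=
  Cfsg.Agent.Lib.BurnsidePQ.isSolvable_of_card_eq 2 3 Nat.prime_two Nat.prime_three n G h ⟨a, b, hn⟩

lemma isSolvable_PSL2_three {K : Type*} [Field K] [Fintype K] (hK : Fintype.card K = 3) : Group.IsSolvable (PSL2 K) := by
  have h := card_PSL2_form (K := K)
  rw [hK] at h
  norm_num at h
  exact isSolvable_of_card_2_3 12 2 1 (by omega) (by norm_num)

lemma isSolvable_PSL2_two {K : Type*} [Field K] [Fintype K] (hK : Fintype.card K = 2) : Group.IsSolvable (PSL2 K) := by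
  have h := card_PSL2_form (K := K)
  rw [hK] at h
  norm_num at h
  exact isSolvable_of_card_2_3 6 1 1 (by omega) (by norm_num)

lemma isSolvable_alt4 : Group.IsSolvable (alternatingGroup (Fin 4)) :=
  isSolvable_of_card_2_3 12 2 1 card_alt4 (by norm_num)

lemma isSolvable_perm4 : Group.IsSolvable (Equiv.Perm (Fin 4)) :=
  isSolvable_of_card_2_3 24 3 1 card_perm4 (by norm_num)

lemma not_isSolvable_alt5 : ¬ Group.IsSolvable (alternatingGroup (Fin 5)) := by
  intro h
  haveI : IsSimpleGroup (alternatingGroup (Fin 5)) := alternatingGroup.isSimpleGroup_five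
  have h1 := (IsSimpleGroup.comm_iff_isSolvable (G := alternatingGroup (Fin 5))).mpr h
  revert h1
  decide +kernel

lemma isSolvable_of_equiv {G H : Type*} [Group G] [Group H] (e : G ≃* H) [Group.IsSolvable H] : Group.IsSolvable G :=
  Group.isSolvable_of_surjective (f := e.symm.toMonoidHom) e.symm.surjective

/-- Prime power equalities. -/
lemma pow_prime_eq {l r a s : ℕ} (hl : l.Prime) (hr : r.Prime) (hs : s.Prime) (h : a ^ s = l ^ r) : a = l ∧ s = r := by
  have h1 : a ∣ l ^ r := by
    rw [← h]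
    exact dvd_pow_self a hs.ne_zero
  obtain ⟨i, hi, rfl⟩ := (Nat.dvd_prime_pow hl).mp h1
  rw [← pow_mul] at h
  have h2 : i * s = r := Nat.pow_right_injective hl.two_le h
  rcases Nat.Prime.eq_one_or_self_of_dvd hr i ⟨s, h2.symm⟩ with h3 | h3
  · subst h3
    rw [one_mul] at h2
    exact ⟨pow_one l, h2⟩
  · subst h3
    have : s = 1 := by
      have h4 : i * s = i * 1 := by rw [h2, mul_one]
      exact Nat.eq_of_mul_eq_mul_left hr.pos h4
    exact absurd this hs.ne_one

section subfield

variable {F : Type*} [Field F] [Fintype F]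

open Cfsg.Agent.Lib.PSL2Lat Cfsg.Agent.Lib.PSL2Sub

lemma card_bot_subfield (p : ℕ) [Fact p.Prime] [CharP F p] : Nat.card (⊥ : Subfield F) = p := by
  rw [← ZMod.fieldRange_castHom_eq_bot p]
  let f : ZMod p →+* F := ZMod.castHom (dvd_refl p) F
  have h1 : Nat.card f.fieldRange = Nat.card (ZMod p) :=
    Nat.card_congr (Equiv.ofInjective f f.injective).symm
  rw [Nat.card_zmod] at h1
  exact h1

/-- A proper subfield subgroup of size at least four is not solvable. -/
lemma not_isSolvable_range (K₀ : Subfield F) (h4 : 4 ≤ Nat.card K₀) : ¬ Group.IsSolvable (pslMap K₀.subtype).range := by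
  intro hs
  have e2 : (pslMap K₀.subtype).range ≃* PSL2 K₀ := (MonoidHom.ofInjective (pslMap_injective K₀.subtype)).symm
  haveI : Group.IsSolvable (PSL2 K₀) := isSolvable_of_equiv e2.symm
  haveI : IsSimpleGroup (PSL2 K₀) := Matrix.ProjectiveSpecialLinearGroup.rank_two_simple h4
  have h1 := (IsSimpleGroup.comm_iff_isSolvable (G := PSL2 K₀)).mpr inferInstance
  exact proj_uu_vv_ne (h1 _ _)

end subfield

end Cfsg.Agent.Lib.PSL2Solv
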