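import Mathlib
import Cfsg.Agent.Lib.ZJCore3
import Cfsg.Agent.Lib.ZJStrong
import Cfsg.Agent.S0650

/-!
# The ZJ-theorem for the full centre of the elementary abelian Thompson subgroup.
-/

set_option autoImplicit false
set_option linter.unusedVariables false
set_option linter.style.haveILetI false

open Cfsg
open scoped commutatorElement

namespace Cfsg.Agent.Lib.ZJe

open Cfsg.Agent.Lib.PCore Cfsg.Agent.Lib.ZJCore Cfsg.Agent.Lib.ZJCore2 Cfsg.Agent.Lib.ZJCore3
  Cfsg.Agent.Lib.ZJStrong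

variable {G : Type*} [Group G] {p : ℕ} [hpf : Fact p.Prime]

omit hpf in
/-- `J_e` as the join of the family. -/
theorem thompsonSubgroupOf_eq_sSup [Finite G] (P : Subgroup G) :
    thompsonSubgroupOf p P = sSup (maxFam (clsEA p) P) := by
  apply le_antisymm
  · unfold thompsonSubgroupOf thompsonSubgroup
    rw [Subgroup.map_le_iff_le_comap]
    apply sSup_le
    intro A0 hA0 x hx
    rw [← fam_EA_eq] at hA0
    exact (le_sSup hA0 : A0.map P.subtype ≤ sSup (maxFam (clsEA p) P)) ⟨x, hx, rfl⟩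
  · apply sSup_le
    intro A hA
    have h1 : A.subgroupOf P ∈ maxElementaryAbelianSubgroups p P := by
      rw [← fam_EA_eq]
      show (A.subgroupOf P).map P.subtype ∈ maxFam (clsEA p) P
      rw [Subgroup.map_subgroupOf_eq_of_le hA.1]
      exact hA
    have h2 : A.subgroupOf P ≤ thompsonSubgroup p P := le_sSup h1
    have h3 := Subgroup.map_mono (f := P.subtype) h2
    rwa [Subgroup.map_subgroupOf_eq_of_le hA.1] at h3

omit hpf in
/-- An element of exponent `p` in `P` commuting with a member of the family lies in it. -/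
theorem mem_of_commute [Finite G] {P A : Subgroup G} (hA : A ∈ maxFam (clsEA p) P) {y : G}
    (hyP : y ∈ P) (hy : y ^ p = 1) (hcomm : ∀ a ∈ A, a * y = y * a) : y ∈ A := by
  classical
  have hab : ∀ a ∈ A, ∀ b ∈ A, a * b = b * a := clsComm_comm A hA.2.1.1
  have hexp : ∀ a ∈ A, a ^ p = 1 := hA.2.1.2
  set k : Set G := (A : Set G) ∪ {y} with hk
  have hkc : ∀ x ∈ k, ∀ z ∈ k, x * z = z * x := by
    rintro x (hx | hx) z (hz | hz)
    · exact hab x hx z hz
    · rw [Set.mem_singleton_iff.mp hz]; exact hcomm x hx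
    · rw [Set.mem_singleton_iff.mp hx]; exact (hcomm z hz).symm
    · rw [Set.mem_singleton_iff.mp hx, Set.mem_singleton_iff.mp hz]
  set B := Subgroup.closure k with hB
  have hBc : IsMulCommutative B := Subgroup.isMulCommutative_closure hkc
  have hBcomm : ∀ a ∈ B, ∀ b ∈ B, a * b = b * a := by
    intro a ha b hb
    exact congrArg Subtype.val (hBc.is_comm.comm (⟨a, ha⟩ : B) ⟨b, hb⟩)
  have hBexp : ∀ b ∈ B, b ^ p = 1 := by
    intro b hb
    induction hb using Subgroup.closure_induction with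
    | mem x hx =>
      rcases hx with hx | hx
      · exact hexp x hx
      · rw [Set.mem_singleton_iff.mp hx]; exact hy
    | one => simp
    | mul a b ha hb ih1 ih2 =>
      have : Commute a b := hBcomm a ha b hb
      rw [this.mul_pow, ih1, ih2, one_mul]
    | inv a ha ih => rw [inv_pow, ih, inv_one]
  have hBP : B ≤ P := by
    rw [hB, Subgroup.closure_le]
    rintro x (hx | hx)
    · exact hA.1 hx
    · rw [Set.mem_singleton_iff.mp hx]; exact hyP
  have hAB : A ≤ B := fun a ha => Subgroup.subset_closure (Or.inl ha)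
  have hcls : clsEA p B := ⟨hBc, hBexp⟩
  have hcard := hA.2.2 B hBP hcls
  have heq : A = B := Subgroup.eq_of_le_of_card_ge hAB hcard
  rw [heq]
  exact Subgroup.subset_closure (Or.inr rfl)

/-- A power identity in class two. -/
theorem comm_pow_aux {x y c : G} (hcx : c * x = x * c) (hcy : c * y = y * c)
    (h : x * y = c * y * x) (n : ℕ) : x ^ n * y = c ^ n * y * x ^ n := by
  induction n with
  | zero => simp
  | succ n ih =>
    have hcn : Commute c (x ^ n) := (show Commute c x from hcx).pow_right n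
    calc x ^ (n + 1) * y = x ^ n * (x * y) := by rw [pow_succ]; group
      _ = x ^ n * (c * y * x) := by rw [h]
      _ = (x ^ n * c) * y * x := by group
      _ = c * (x ^ n * y) * x := by rw [← hcn.eq]; group
      _ = c * (c ^ n * y * x ^ n) * x := by rw [ih]
      _ = c ^ (n + 1) * y * x ^ (n + 1) := by rw [pow_succ' c, pow_succ x]; group

/-- The replacement property of the family, from the proof of `maxFam_normal`. -/
theorem maxFam_rep [Finite G] (hp : p ≠ 2) (P : Sylow p G) (B : Subgroup G)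
    (hBP : B ≤ (P : Subgroup G)) (hBn : B.Normal) (U : Subgroup G)
    (hU : U ∈ maxFam (clsEA p) (P : Subgroup G)) (hB'U : ⁅B, B⁆ ≤ U) (hBU : ¬ B ≤ U) :
    ∃ A ∈ maxFam (clsEA p) (P : Subgroup G), ⁅B, B⁆ ≤ A ∧ ¬ B ≤ A ∧
      B ≤ Subgroup.normalizer (A : Set G) := by
  set cls := clsEA (G := G) p with hcls
  have hab : ∀ A, cls A → ∀ x ∈ A, ∀ y ∈ A, x * y = y * x := fun A h => clsComm_comm A h.1
  have hrepcls : ∀ (P : Subgroup G) (U0 T0 : Subgroup P), cls (U0.map P.subtype) → IsMulCommutative T0 →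
      Monoid.exponent T0 ∣ Monoid.exponent U0 → cls (T0.map P.subtype) := fun P U0 T0 => hrep_EA P U0 T0
  set PP : Subgroup G := (P : Subgroup G) with hPP
  have hsub : Function.Injective PP.subtype := PP.subtype_injective
  let B0 : Subgroup PP := B.subgroupOf PP
  have hB0n : B0.Normal := inferInstance
  have hB0map : B0.map PP.subtype = B := Subgroup.map_subgroupOf_eq_of_le hBP
  let 𝒰 : Set (Subgroup PP) := {A0 | A0.map PP.subtype ∈ maxFam cls PP}
  let U0 : Subgroup PP := U.subgroupOf PP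
  have hU0map : U0.map PP.subtype = U := Subgroup.map_subgroupOf_eq_of_le hU.1
  have hU0 : U0 ∈ 𝒰 := by
    show U0.map PP.subtype ∈ maxFam cls PP
    rw [hU0map]; exact hU
  have hcomm0 : ⁅B0, B0⁆.map PP.subtype = ⁅B, B⁆ := by
    rw [Subgroup.map_commutator, hB0map]
  have h1 : ⁅B0, B0⁆ ≤ U0 := by
    rw [← Subgroup.map_le_map_iff_of_injective hsub, hcomm0, hU0map]
    exact hB'U
  have h2 : ¬ B0 ≤ U0 := by
    intro h
    apply hBU
    rw [← hU0map, ← hB0map]
    exact Subgroup.map_mono h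
  have hcard_T : ∀ T0 : Subgroup PP, Nat.card (T0.map PP.subtype) = Nat.card T0 := fun T0 =>
    Subgroup.card_map_of_injective hsub
  obtain ⟨A0, hA0, h3, h4, h5⟩ := replacement_general P.isPGroup' hp 𝒰 (by
      intro U1 hU1
      have hU1' := hab _ hU1.2.1
      exact ⟨⟨fun x y => by
        apply Subtype.ext
        have := hU1' (x : PP) ⟨x, x.2, rfl⟩ (y : PP) ⟨y, y.2, rfl⟩
        apply Subtype.ext
        exact this⟩⟩) (by
      intro U1 hU1 b T hT hcard hcomm hexp
      show T.map PP.subtype ∈ maxFam cls PP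
      refine ⟨Subgroup.map_subtype_le _, hrepcls PP U1 T hU1.2.1 hcomm hexp, ?_⟩
      intro C hC hCc
      rw [hcard_T, hcard, ← hcard_T]
      exact hU1.2.2 C hC hCc) B0 U0 hU0 h1 h2
  refine ⟨A0.map PP.subtype, hA0, ?_, ?_, ?_⟩
  · rw [← hcomm0]
    exact Subgroup.map_mono h3
  · intro h
    apply h4
    rw [← hB0map] at h
    exact (Subgroup.map_le_map_iff_of_injective hsub).mp h
  · intro b hb
    have hbP : b ∈ PP := hBP hb
    have hb0 : (⟨b, hbP⟩ : PP) ∈ B0 := hb
    have hb1 := Subgroup.mem_normalizer_iff.mp (h5 hb0)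
    rw [Subgroup.mem_normalizer_iff]
    intro x
    constructor
    · rintro ⟨y, hy, rfl⟩
      exact ⟨_, (hb1 y).mp hy, rfl⟩
    · rintro ⟨y, hy, hyx⟩
      have hx : x = (⟨b, hbP⟩⁻¹ * y * ⟨b, hbP⟩ : PP) := by
        show x = b⁻¹ * (y : G) * b
        have : (y : G) = b * x * b⁻¹ := hyx
        rw [this]; group
      refine ⟨⟨b, hbP⟩⁻¹ * y * ⟨b, hbP⟩, ?_, hx.symm⟩
      apply (hb1 _).mpr
      have : (⟨b, hbP⟩ * (⟨b, hbP⟩⁻¹ * y * ⟨b, hbP⟩) * (⟨b, hbP⟩ : PP)⁻¹ : PP) = y := by group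
      rw [this]; exact hy

set_option maxHeartbeats 1000000 in
/-- **The ZJ-theorem for `Z(J_e)`**. -/
theorem zj_e_normal [Finite G] (hp : p ≠ 2) (P : Sylow p G)
    (hc : Subgroup.centralizer (pCore p G : Set G) ≤ pCore p G)
    (hst : ∀ (V : Subgroup G) [V.Normal], IsPGroup p V → IsPStableOn p V) :
    (centerThompsonOf p (P : Subgroup G)).Normal := by
  classical
  set PP : Subgroup G := (P : Subgroup G) with hPP
  set 𝒜 := maxFam (clsEA p) PP with h𝒜
  have hle : ∀ A ∈ 𝒜, A ≤ PP := fun A hA => hA.1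
  have hab : ∀ A ∈ 𝒜, ∀ x ∈ A, ∀ y ∈ A, x * y = y * x := fun A hA => clsComm_comm A hA.2.1.1
  have hconj : ∀ A ∈ 𝒜, ∀ g : G, (∀ x ∈ A, g * x * g⁻¹ ∈ PP) →
      A.map (MulAut.conj g).toMonoidHom ∈ 𝒜 := by
    intro A hA g hg
    refine ⟨?_, clsEA_map (MulAut.conj g) A hA.2.1, ?_⟩
    · rintro _ ⟨x, hx, rfl⟩
      exact hg x hx
    · intro B hB hBc
      rw [card_map_conj]
      exact hA.2.2 B hB hBc
  set J := thompsonSubgroupOf p PP with hJ
  have hJ𝒜 : J = sSup 𝒜 := thompsonSubgroupOf_eq_sSup PP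
  have hAJ : ∀ A ∈ 𝒜, A ≤ J := fun A hA => hJ𝒜 ▸ le_sSup hA
  have hJP : J ≤ PP := by
    rw [hJ𝒜]
    exact sSup_le hle
  set Z := centerThompsonOf p PP with hZ
  have hZJ : Z ≤ J := inf_le_left
  have hZcJ : ∀ z ∈ Z, ∀ j ∈ J, j * z = z * j := by
    intro z hz j hj
    exact Subgroup.mem_centralizer_iff.mp hz.2 j hj
  have hZA : ∀ z ∈ Z, ∀ A ∈ 𝒜, ∀ a ∈ A, a * z = z * a := fun z hz A hA a ha =>
    hZcJ z hz a (hAJ A hA ha)
  have hZab : ∀ x ∈ Z, ∀ y ∈ Z, x * y = y * x := fun x hx y hy => hZcJ y hy x (hZJ hx)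
  have hZP : Z ≤ PP := hZJ.trans hJP
  -- the intersection of the family
  have hO₁n : (sInf 𝒜).Normal :=
    maxFam_normal clsEA_map (fun A h => clsComm_comm A h.1) hrep_EA hp P hc hst
  have hO₁ : ∀ x ∈ Z, x ^ p = 1 → x ∈ sInf 𝒜 := by
    intro x hx hxp
    have h1 := omegaOne_centerThompsonOf_eq_sInf (p := p) PP P.isPGroup'
    rw [← h1]
    exact Subgroup.subset_closure ⟨hx, hxp⟩
  have hO₁Z : sInf 𝒜 ≤ Z := by
    intro x hx
    have hxA : ∀ A ∈ 𝒜, x ∈ A := fun A hA => (Subgroup.mem_sInf.mp hx) A hA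
    have hne : 𝒜.Nonempty := maxFam_nonempty (clsEA_bot p) PP
    obtain ⟨A₀, hA₀⟩ := hne
    refine Subgroup.mem_inf.2 ⟨hAJ A₀ hA₀ (hxA A₀ hA₀), ?_⟩
    have : J ≤ Subgroup.centralizer ({x} : Set G) := by
      rw [hJ𝒜]
      apply sSup_le
      intro A hA a ha
      rw [Subgroup.mem_centralizer_singleton_iff]
      exact hab A hA a ha x (hxA A hA)
    rw [Subgroup.mem_centralizer_iff]
    intro j hj
    exact (Subgroup.mem_centralizer_singleton_iff.mp (this hj))
  -- conjugation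
  have hconjJ : ∀ n : G, (∀ A ∈ 𝒜, ∀ a ∈ A, n⁻¹ * a * n ∈ PP) → ∀ z ∈ Z, n * z * n⁻¹ ∈ Z := by
    intro n hn z hz
    have h1 : ∀ j ∈ J, n⁻¹ * j * n ∈ J := by
      have : J ≤ J.comap (MulAut.conj n⁻¹).toMonoidHom := by
        conv_lhs => rw [hJ𝒜]
        apply sSup_le
        intro A hA a ha
        have h2 := hconj A hA n⁻¹ (by
          intro x hx
          have := hn A hA x hx
          simpa using this)
        have h3 := hAJ _ h2 ⟨a, ha, rfl⟩
        simpa [Subgroup.mem_comap] using h3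
      intro j hj
      have := this hj
      simpa [Subgroup.mem_comap] using this
    have h2 : n⁻¹ ∈ Subgroup.normalizer (J : Set G) :=
      Cfsg.Agent.S0650.mem_normalizer_of_forall (fun x hx => by simpa using h1 x hx)
    have h3 : n ∈ Subgroup.normalizer (J : Set G) := by simpa using Subgroup.inv_mem _ h2
    refine Subgroup.mem_inf.2 ⟨(Subgroup.mem_normalizer_iff.mp h3 z).mp hz.1, ?_⟩
    rw [Subgroup.mem_centralizer_iff]
    intro j hj
    have h4 := hZcJ z hz (n⁻¹ * j * n) (h1 j hj)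
    calc j * (n * z * n⁻¹) = n * ((n⁻¹ * j * n) * z) * n⁻¹ := by group
      _ = n * (z * (n⁻¹ * j * n)) * n⁻¹ := by rw [h4]
      _ = n * z * n⁻¹ * j := by group
  set W := Z.normalCore with hW
  have hWn : W.Normal := inferInstance
  have hWZ : W ≤ Z := Subgroup.normalCore_le Z
  by_contra hnot
  -- P normalizes Z
  have hPZ : ∀ x ∈ PP, ∀ z ∈ Z, x * z * x⁻¹ ∈ Z := by
    intro x hx z hz
    apply hconjJ x _ z hz
    intro A hA a ha
    exact PP.mul_mem (PP.mul_mem (PP.inv_mem hx) (hle A hA ha)) hx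
  have hWne : ¬ Z ≤ W := by
    intro h
    apply hnot
    have : Z = W := le_antisymm h hWZ
    rw [this]; exact hWn
  -- find z
  have hP_nil : Group.IsNilpotent PP := P.isPGroup'.isNilpotent
  obtain ⟨z, hzZ, hzW, hzcomm, hzp⟩ : ∃ z ∈ Z, z ∉ W ∧ (∀ x ∈ PP, ⁅z, x⁆ ∈ W) ∧ z ^ p ∈ W := by
    let W' : Subgroup PP := W.subgroupOf PP
    have hW'n : W'.Normal := inferInstance
    let X := PP ⧸ W'
    let π : PP →* X := QuotientGroup.mk' W'
    have hπ : Function.Surjective π := QuotientGroup.mk'_surjective W'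
    have hπW : ∀ y : PP, π y = 1 ↔ (y : G) ∈ W := fun y => by
      rw [QuotientGroup.mk'_apply, QuotientGroup.eq_one_iff]
      exact Iff.rfl
    let Z' : Subgroup PP := Z.subgroupOf PP
    have hZ'n : Z'.Normal := by
      constructor
      intro n hn g
      exact hPZ g g.2 n hn
    let N : Subgroup X := Z'.map π
    have hNn : N.Normal := Subgroup.Normal.map hZ'n π hπ
    have hXp : IsPGroup p X := P.isPGroup'.to_quotient W'
    have hXnil : Group.IsNilpotent X := hXp.isNilpotent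
    have hNne : N ≠ ⊥ := by
      intro h
      apply hWne
      intro y hy
      have hyP := hZP hy
      have h1 : π ⟨y, hyP⟩ ∈ N := ⟨⟨y, hyP⟩, hy, rfl⟩
      rw [h, Subgroup.mem_bot] at h1
      exact (hπW _).1 h1
    obtain ⟨x, hxN, hx1, hxc⟩ := exists_center_of_normal N hNne
    obtain ⟨k, hk⟩ := IsPGroup.iff_orderOf.mp hXp x
    have hk0 : k ≠ 0 := by
      rintro rfl
      rw [pow_zero, orderOf_eq_one_iff] at hk
      exact hx1 hk
    obtain ⟨z₀, hz₀, rfl⟩ := hxN
    set e := p ^ (k - 1) with he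
    have hek : e * p = p ^ k := by
      rw [he, ← pow_succ]
      congr 1
      omega
    have hpk : π z₀ ^ (e * p) = 1 := by
      rw [hek, ← hk, pow_orderOf_eq_one]
    have hne1 : π z₀ ^ e ≠ 1 := by
      intro h
      have h1 := orderOf_dvd_of_pow_eq_one h
      rw [hk, he] at h1
      have h2 := (Nat.pow_dvd_pow_iff_le_right (Fact.out : p.Prime).one_lt).1 h1
      omega
    refine ⟨((z₀ ^ e : PP) : G), ?_, ?_, ?_, ?_⟩
    · have : z₀ ^ e ∈ Z' := Z'.pow_mem hz₀ e
      exact this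
    · intro hW'
      apply hne1
      rw [← map_pow]
      exact (hπW _).2 hW'
    · intro y hy
      have h1 : (π z₀ ^ e) * π ⟨y, hy⟩ = π ⟨y, hy⟩ * (π z₀ ^ e) :=
        ((show Commute (π ⟨y, hy⟩) (π z₀) from Subgroup.mem_center_iff.mp hxc _).pow_right e).eq.symm
      have h2 : π ⁅z₀ ^ e, ⟨y, hy⟩⁆ = 1 := by
        rw [map_commutatorElement, commutatorElement_eq_one_iff_mul_comm, map_pow]
        exact h1
      have h3 := (hπW _).1 h2
      simpa [commutatorElement_def] using h3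
    · have h1 : π ((z₀ ^ e) ^ p) = 1 := by
        rw [map_pow, map_pow, ← pow_mul]
        exact hpk
      have h2 := (hπW _).1 h1
      simpa using h2
  set Q := pCore p G with hQ
  have hWP : W ≤ PP := hWZ.trans hZP
  have hWQ : W ≤ Q := le_pCore hWn (P.isPGroup'.to_le hWP)
  have hQP : Q ≤ PP := pCore_le_sylow p P
  have hCW : (Subgroup.centralizer (W : Set G)).Normal := Subgroup.normal_centralizer
  let C1 := Cfsg.sectionKernel Q W
  have hC1n : C1.Normal := sectionKernel_normal Q W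
  let T := C1 ⊓ Subgroup.centralizer (W : Set G)
  have hTn : T.Normal := Subgroup.normal_inf_normal _ _
  have hzC1 : z ∈ C1 := by
    apply mem_sectionKernel.mpr
    intro q hq
    have h1 := hzcomm q (hQP hq)
    rw [← commutatorElement_inv]
    exact W.inv_mem h1
  have hzCW : z ∈ Subgroup.centralizer (W : Set G) := by
    rw [Subgroup.mem_centralizer_iff]
    intro w hw
    exact hZab w (hWZ hw) z hzZ
  have hzT : z ∈ T := ⟨hzC1, hzCW⟩
  have hWord : ∀ k ∈ W, ∃ n, orderOf k = p ^ n := by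
    intro k hk
    obtain ⟨n, hn⟩ := IsPGroup.iff_orderOf.mp (P.isPGroup'.to_le hWP) ⟨k, hk⟩
    exact ⟨n, by rwa [Subgroup.orderOf_mk] at hn⟩
  have hTp : IsPGroup p T := by
    apply Cfsg.Agent.Lib.CharPLocal.isPGroup_of_forall_coprime
    intro y hy hyc
    have hyQ : y ∈ Subgroup.centralizer (Q : Set G) := by
      rw [Subgroup.mem_centralizer_iff]
      intro q hq
      have h1 := mem_sectionKernel.mp hy.1 q hq
      have hk : y * q * y⁻¹ * q⁻¹ ∈ W := by
        have := W.inv_mem h1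
        rwa [commutatorElement_inv, commutatorElement_def] at this
      set k := y * q * y⁻¹ * q⁻¹ with hkdef
      have hy2 : y ∈ Subgroup.centralizer (W : Set G) := hy.2
      rw [Subgroup.mem_centralizer_iff] at hy2
      have hyk : y * k * y⁻¹ = k := by
        rw [← hy2 k hk]; group
      have hyq : y * q * y⁻¹ = k * q := by rw [hkdef]; group
      have hk1 := Cfsg.Agent.Lib.CharPLocal.stab_eq_one hyk hyq hyc (hWord k hk)
      have h2 : y * q * y⁻¹ = q := by rw [hyq, hk1, one_mul]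
      rw [mul_inv_eq_iff_eq_mul] at h2
      exact h2.symm
    have hyQ' := hc hyQ
    have hQp : IsPGroup p Q := isPGroup_pCore p
    obtain ⟨n, hn⟩ := IsPGroup.iff_orderOf.mp hQp ⟨y, hyQ'⟩
    rw [Subgroup.orderOf_mk] at hn
    rw [hn] at hyc
    have : orderOf y = 1 := by
      rcases n with _ | n
      · simpa using hn
      · exfalso
        have h3 := Nat.Coprime.coprime_dvd_left (dvd_pow_self p (Nat.succ_ne_zero n)) hyc
        have := (Nat.coprime_self p).mp h3
        exact (Fact.out : p.Prime).one_lt.ne' this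
    exact orderOf_eq_one_iff.mp this
  have hTQ : T ≤ Q := le_pCore hTn hTp
  have hzQ : z ∈ Q := hTQ hzT
  -- Y
  let Y : Subgroup G := Subgroup.normalClosure {z} ⊔ W
  have hYn : Y.Normal := inferInstance
  have hYQ : Y ≤ Q := by
    apply sup_le
    · apply Subgroup.normalClosure_le_normal
      rintro _ rfl
      exact hzQ
    · exact hWQ
  have hYC1 : Y ≤ C1 := by
    apply sup_le
    · apply Subgroup.normalClosure_le_normal
      rintro _ rfl
      exact hzC1
    · exact le_sectionKernel Q W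
  have hYp : IsPGroup p Y := (isPGroup_pCore (G := G) p).to_le hYQ
  have hY' : ⁅Y, Y⁆ ≤ W := by
    rw [Subgroup.commutator_le]
    intro y₁ hy₁ y₂ hy₂
    exact mem_sectionKernel.mp (hYC1 hy₂) y₁ (hYQ hy₁)
  have hzY : z ∈ Y := (le_sup_left : Subgroup.normalClosure {z} ≤ Y)
    (Subgroup.subset_normalClosure rfl)
  have hWY : W ≤ Y := le_sup_right
  have hYC : Y ≤ Subgroup.centralizer (W : Set G) := by
    apply sup_le
    · apply Subgroup.normalClosure_le_normal
      rintro _ rfl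
      exact hzCW
    · intro w hw
      rw [Subgroup.mem_centralizer_iff]
      intro v hv
      exact hZab v (hWZ hv) w (hWZ hw)
  have hWcen : ∀ w ∈ W, ∀ y ∈ Y, w * y = y * w := fun w hw y hy =>
    Subgroup.mem_centralizer_iff.mp (hYC hy) w hw
  have hcomm : ∀ x ∈ Y, ∀ y ∈ Y, x * y * x⁻¹ * y⁻¹ ∈ W := by
    intro x hx y hy
    have := hY' (Subgroup.commutator_mem_commutator hx hy)
    rwa [commutatorElement_def] at this
  -- `p`-th powers of `Y` lie in `W`
  have hYpow : ∀ y ∈ Y, y ^ p ∈ W := by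
    have hY_eq : Y = Subgroup.closure (Group.conjugatesOfSet ({z} : Set G) ∪ (W : Set G)) := by
      rw [Subgroup.closure_union, Subgroup.closure_eq]
      rfl
    intro y hy
    rw [hY_eq] at hy
    have hY_le : Subgroup.closure (Group.conjugatesOfSet ({z} : Set G) ∪ (W : Set G)) = Y := hY_eq.symm
    induction hy using Subgroup.closure_induction with
    | mem x hx =>
      rcases hx with hx | hx
      · rw [Group.mem_conjugatesOfSet_iff] at hx
        obtain ⟨a, ha, hax⟩ := hx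
        rw [Set.mem_singleton_iff.mp ha] at hax
        obtain ⟨c, rfl⟩ := isConj_iff.mp hax
        rw [conj_pow]
        exact hWn.conj_mem _ hzp c
      · exact W.pow_mem hx p
    | one => simp
    | mul a b ha hb ih1 ih2 =>
      rw [hY_le] at ha hb
      have h1 : (QuotientGroup.mk' W a) * (QuotientGroup.mk' W b) =
          (QuotientGroup.mk' W b) * (QuotientGroup.mk' W a) := by
        rw [← map_mul, ← map_mul, QuotientGroup.mk'_eq_mk']
        refine ⟨(a * b)⁻¹ * (b * a), ?_, by group⟩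
        have h2 : (a * b)⁻¹ * (b * a) = b⁻¹ * a⁻¹ * b⁻¹⁻¹ * a⁻¹⁻¹ := by group
        rw [h2]
        exact hcomm b⁻¹ (Y.inv_mem hb) a⁻¹ (Y.inv_mem ha)
      have h4 : QuotientGroup.mk' W ((a * b) ^ p) = 1 := by
        have ha1 : QuotientGroup.mk' W (a ^ p) = 1 := (QuotientGroup.eq_one_iff _).2 ih1
        have hb1 : QuotientGroup.mk' W (b ^ p) = 1 := (QuotientGroup.eq_one_iff _).2 ih2
        rw [map_pow, map_mul, (show Commute _ _ from h1).mul_pow, ← map_pow, ← map_pow, ha1, hb1,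
          one_mul]
      exact (QuotientGroup.eq_one_iff _).1 h4
    | inv a ha ih => rw [inv_pow]; exact W.inv_mem ih
  -- commutators have order `p`
  have hcpow : ∀ x ∈ Y, ∀ y ∈ Y, (x * y * x⁻¹ * y⁻¹) ^ p = 1 := by
    intro x hx y hy
    set c := x * y * x⁻¹ * y⁻¹ with hcdef
    have hcW : c ∈ W := hcomm x hx y hy
    have h1 : x * y = c * y * x := by rw [hcdef]; group
    have h2 := comm_pow_aux (hWcen c hcW x hx) (hWcen c hcW y hy) h1 p
    have h3 := hWcen _ (hYpow x hx) y hy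
    rw [h3] at h2
    have h4 : y * x ^ p = c ^ p * (y * x ^ p) := by rw [← mul_assoc]; exact h2
    exact (mul_eq_right.mp h4.symm)
  have hp2 : 2 ∣ p - 1 := by
    have := (Fact.out : p.Prime).even_sub_one hp
    exact even_iff_two_dvd.mp this
  have hmulpow : ∀ x ∈ Y, ∀ y ∈ Y, (x * y) ^ p = x ^ p * y ^ p := by
    intro x hx y hy
    set c := y * x * y⁻¹ * x⁻¹ with hcdef
    have hcW : c ∈ W := hcomm y hy x hx
    have h1 : y * x = c * x * y := by rw [hcdef]; group
    have h2 := Cfsg.Agent.S0650.mul_pow_class_two h1 (hWcen c hcW x hx) (hWcen c hcW y hy) p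
    have h3 : c ^ (p * (p - 1) / 2) = 1 := by
      rw [Nat.mul_div_assoc p hp2, pow_mul, hcpow y hy x hx, one_pow]
    rw [h2, h3, mul_one]
  -- Y₁
  let Y₁ : Subgroup G :=
    { carrier := {y | y ∈ Y ∧ y ^ p = 1}
      mul_mem' := fun {a b} ha hb => ⟨Y.mul_mem ha.1 hb.1, by
        rw [hmulpow a ha.1 b hb.1, ha.2, hb.2, one_mul]⟩
      one_mem' := ⟨Y.one_mem, one_pow p⟩
      inv_mem' := fun {a} ha => ⟨Y.inv_mem ha.1, by rw [inv_pow, ha.2, inv_one]⟩ }
  have hY₁Y : Y₁ ≤ Y := fun y hy => hy.1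
  have hY₁mem : ∀ y, y ∈ Y → y ^ p = 1 → y ∈ Y₁ := fun y h1 h2 => ⟨h1, h2⟩
  have hY₁n : Y₁.Normal := by
    constructor
    intro y hy g
    refine ⟨hYn.conj_mem y hy.1 g, ?_⟩
    rw [conj_pow, hy.2]
    simp
  have hY₁P : Y₁ ≤ PP := hY₁Y.trans (hYQ.trans hQP)
  have hY₁p : IsPGroup p Y₁ := P.isPGroup'.to_le hY₁P
  -- commutators of `Y₁`
  have hY₁' : ∀ U ∈ 𝒜, ⁅Y₁, Y₁⁆ ≤ U := by
    intro U hU
    rw [Subgroup.commutator_le]
    intro a ha b hb
    rw [commutatorElement_def]
    have h1 := hcomm a ha.1 b hb.1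
    have h2 := hO₁ _ (hWZ h1) (hcpow a ha.1 b hb.1)
    exact (Subgroup.mem_sInf.mp h2) U hU
  -- the action
  have hCn : (Subgroup.centralizer (Y : Set G)).Normal := Subgroup.normal_centralizer
  let C := Subgroup.centralizer (Y : Set G)
  let πC : G →* G ⧸ C := QuotientGroup.mk' C
  have hπC : Function.Surjective πC := QuotientGroup.mk'_surjective C
  let M : Subgroup G := (pCore p (G ⧸ C)).comap πC
  have hMn : M.Normal := Subgroup.Normal.comap inferInstance πC
  have hC₁n : (Subgroup.centralizer (Y₁ : Set G)).Normal := Subgroup.normal_centralizer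
  let C₁ := Subgroup.centralizer (Y₁ : Set G)
  let π₁ : G →* G ⧸ C₁ := QuotientGroup.mk' C₁
  have hπ₁ : Function.Surjective π₁ := QuotientGroup.mk'_surjective C₁
  let M₁ : Subgroup G := (pCore p (G ⧸ C₁)).comap π₁
  have hM₁n : M₁.Normal := Subgroup.Normal.comap inferInstance π₁
  have hC₁M₁ : C₁ ≤ M₁ := by
    intro x hx
    show π₁ x ∈ pCore p (G ⧸ C₁)
    rw [show π₁ x = 1 from (QuotientGroup.eq_one_iff _).2 hx]
    exact one_mem _
  -- `p'`-elements trivial on `Y₁` are trivial on `Y`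
  have hW0 : ∀ u : G, (orderOf u).Coprime p → u ∈ C₁ → ∀ y ∈ Y, u * y * u⁻¹ = y := by
    intro u hu huC
    have hu1 : ∀ y ∈ Y₁, u * y * u⁻¹ = y := by
      intro y hy
      rw [(Subgroup.mem_centralizer_iff.mp huC y hy).symm, mul_inv_cancel_right]
    have hWfix : ∀ k : ℕ, ∀ w ∈ W, w ^ (p ^ k) = 1 → u * w * u⁻¹ = w := by
      intro k
      induction k with
      | zero =>
        intro w _ hw
        have : w = 1 := by simpa using hw
        simp [this]
      | succ k ih =>
        intro w hw hwk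
        have h1 := ih (w ^ p) (W.pow_mem hw p) (by
          rw [← pow_mul, ← pow_succ']
          exact hwk)
        set t := u * w * u⁻¹ * w⁻¹ with ht
        have htW : t ∈ W := W.mul_mem (hWn.conj_mem w hw u) (W.inv_mem hw)
        have ht1 : t ^ p = 1 := by
          have h2 : Commute (u * w * u⁻¹) w⁻¹ := hZab _ (hWZ (hWn.conj_mem w hw u)) _ (hWZ (W.inv_mem hw))
          rw [ht, h2.mul_pow, conj_pow, h1, inv_pow, mul_inv_cancel]
        have ht2 : u * t * u⁻¹ = t := hu1 t (hY₁mem t (hWY htW) ht1)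
        have ht3 : u * w * u⁻¹ = t * w := by rw [ht]; group
        have ht4 := Cfsg.Agent.Lib.CharPLocal.stab_eq_one ht2 ht3 hu (hWord t htW)
        rw [ht3, ht4, one_mul]
    have hWfix' : ∀ w ∈ W, u * w * u⁻¹ = w := by
      intro w hw
      obtain ⟨k, hk⟩ := hWord w hw
      refine hWfix k w hw ?_
      rw [← hk, pow_orderOf_eq_one]
    intro y hy
    set t := u * y * u⁻¹ * y⁻¹ with ht
    have hcy : u * y * u⁻¹ ∈ Y := hYn.conj_mem y hy u
    have htY : t ∈ Y := Y.mul_mem hcy (Y.inv_mem hy)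
    have ht1 : t ^ p = 1 := by
      rw [ht, hmulpow _ hcy _ (Y.inv_mem hy), conj_pow, hWfix' _ (hYpow y hy), inv_pow,
        mul_inv_cancel]
    have ht2 : u * t * u⁻¹ = t := hu1 t (hY₁mem t htY ht1)
    have ht3 : u * y * u⁻¹ = t * y := by rw [ht]; group
    have htord : ∃ n, orderOf t = p ^ n := by
      obtain ⟨n, hn⟩ := IsPGroup.iff_orderOf.mp hYp ⟨t, htY⟩
      exact ⟨n, by rwa [Subgroup.orderOf_mk] at hn⟩
    have ht4 := Cfsg.Agent.Lib.CharPLocal.stab_eq_one ht2 ht3 hu htord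
    rw [ht3, ht4, one_mul]
  have hM₁M : M₁ ≤ M := by
    rw [show M = (pCore p (G ⧸ C)).comap πC from rfl, ← Subgroup.map_le_iff_le_comap]
    apply le_pCore (Subgroup.Normal.map hM₁n πC hπC)
    apply Cfsg.Agent.Lib.CharPLocal.isPGroup_of_forall_coprime
    rintro _ ⟨x, hx, rfl⟩ hyc
    -- the `p'`-part
    have hord : orderOf x ≠ 0 := (orderOf_pos x).ne'
    obtain ⟨a, m, hm, hfac⟩ := Nat.exists_eq_pow_mul_and_not_dvd hord p (Fact.out : p.Prime).ne_one
    set u := x ^ (p ^ a) with hu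
    have hu1 : u ^ m = 1 := by
      rw [hu, ← pow_mul, ← hfac, pow_orderOf_eq_one]
    have huord : (orderOf u).Coprime p := by
      have h1 : orderOf u ∣ m := orderOf_dvd_of_pow_eq_one hu1
      exact Nat.Coprime.coprime_dvd_left h1 ((Nat.Prime.coprime_iff_not_dvd Fact.out).2 hm).symm
    have huM₁ : u ∈ M₁ := M₁.pow_mem hx _
    have huC₁ : u ∈ C₁ := by
      have h1 : π₁ u ∈ pCore p (G ⧸ C₁) := huM₁
      obtain ⟨n, hn⟩ := IsPGroup.iff_orderOf.mp (isPGroup_pCore (G := G ⧸ C₁) p) ⟨_, h1⟩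
      rw [Subgroup.orderOf_mk] at hn
      have h2 : orderOf (π₁ u) ∣ orderOf u := orderOf_map_dvd π₁ u
      have h3 : orderOf (π₁ u) = 1 := by
        rcases n with _ | n
        · simpa using hn
        · exfalso
          rw [hn] at h2
          have h4 : p ∣ orderOf u := (dvd_pow_self p (Nat.succ_ne_zero n)).trans h2
          exact (Nat.Prime.coprime_iff_not_dvd Fact.out).1 huord.symm h4
      exact (QuotientGroup.eq_one_iff _).1 (orderOf_eq_one_iff.mp h3)
    have huC : u ∈ C := by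
      rw [show C = Subgroup.centralizer (Y : Set G) from rfl, Subgroup.mem_centralizer_iff]
      intro y hy
      have := hW0 u huord huC₁ y hy
      rw [mul_inv_eq_iff_eq_mul] at this
      exact this.symm
    -- so `πC x` is a `p`-element
    have h1 : πC x ^ (p ^ a) = 1 := by
      rw [← map_pow]
      exact (QuotientGroup.eq_one_iff _).2 huC
    have h2 : orderOf (πC x) ∣ p ^ a := orderOf_dvd_of_pow_eq_one h1
    have h3 : orderOf (πC x) = 1 := Nat.Coprime.eq_one_of_dvd (Nat.Coprime.pow_right a hyc) h2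
    exact orderOf_eq_one_iff.mp h3
  have hMfac : ∀ m ∈ M, ∃ d ∈ PP, ∃ c ∈ C, m = d * c := by
    intro m hm
    have h1 := pCore_le_sylow p (P.mapSurjective hπC) hm
    rw [Sylow.coe_mapSurjective] at h1
    obtain ⟨d, hd, hdm⟩ := h1
    refine ⟨d, hd, d⁻¹ * m, ?_, by group⟩
    have h2 : πC (d⁻¹ * m) = 1 := by
      rw [map_mul, map_inv, hdm]; simp
    exact (QuotientGroup.eq_one_iff _).mp h2
  have hYM : Y ≤ Cfsg.sectionKernel M W := by
    apply sup_le
    · apply Subgroup.normalClosure_le_normal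
      intro x hx
      rw [Set.mem_singleton_iff.mp hx]
      apply mem_sectionKernel.mpr
      intro m hm
      obtain ⟨d, hd, c, hc', rfl⟩ := hMfac m hm
      have h1 : c * z = z * c := by
        have hc'' : c ∈ Subgroup.centralizer (Y : Set G) := hc'
        rw [Subgroup.mem_centralizer_iff] at hc''
        exact (hc'' z hzY).symm
      have h2 : ⁅d * c, z⁆ = ⁅d, z⁆ := by
        simp only [commutatorElement_def]
        calc d * c * z * (d * c)⁻¹ * z⁻¹ = d * (c * z) * c⁻¹ * d⁻¹ * z⁻¹ := by group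
          _ = d * (z * c) * c⁻¹ * d⁻¹ * z⁻¹ := by rw [h1]
          _ = d * z * d⁻¹ * z⁻¹ := by group
      rw [h2, ← commutatorElement_inv]
      exact W.inv_mem (hzcomm d hd)
    · exact le_sectionKernel M W
  -- all members of the family contain `Y₁`
  have hYA : ∀ U ∈ 𝒜, Y₁ ≤ U := by
    intro U hU
    by_contra hYU
    obtain ⟨A, hA, hA1, hA2, hA3⟩ := maxFam_rep hp P Y₁ hY₁P hY₁n U hU (hY₁' U hU) hYU
    have hAM : A ≤ M := by
      intro a ha
      apply hM₁M
      have hq : ⁅⁅Y₁, Subgroup.zpowers a⁆, Subgroup.zpowers a⁆ = ⊥ := by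
        have h1 : Subgroup.zpowers a ≤ A := by
          rw [Subgroup.zpowers_le]; exact ha
        have h2 : ⁅Y₁, Subgroup.zpowers a⁆ ≤ A := by
          rw [Subgroup.commutator_le]
          intro y hy b hb
          rw [commutatorElement_def]
          have h3 := (Subgroup.mem_normalizer_iff.mp (hA3 hy) b).mp (h1 hb)
          exact A.mul_mem h3 (A.inv_mem (h1 hb))
        rw [eq_bot_iff, Subgroup.commutator_le]
        intro u hu v hv
        rw [Subgroup.mem_bot, commutatorElement_eq_one_iff_mul_comm]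
        exact hab A hA u (h2 hu) v (h1 hv)
      exact hst Y₁ hY₁p a hq
    -- every conjugate of `z` commutes with `A`
    have hconjz : ∀ g : G, ∀ a ∈ A, a * (g * z * g⁻¹) = (g * z * g⁻¹) * a := by
      intro g a ha
      obtain ⟨m, hm, n, hn, rfl⟩ := exists_frattini P M g
      set z₁ := n * z * n⁻¹ with hz₁
      have hz₁Y : z₁ ∈ Y := hYn.conj_mem z hzY n
      have hz₁A : a * z₁ = z₁ * a := by
        have hcond : ∀ x ∈ A, n⁻¹ * x * n⁻¹⁻¹ ∈ PP := by
          intro x hx
          have hx' : x ∈ PP ⊓ M := ⟨hle A hA hx, hAM hx⟩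
          have h1 := (Subgroup.mem_normalizer_iff.mp (Subgroup.inv_mem _ hn) x).mp hx'
          exact h1.1
        have h1 := hconj A hA n⁻¹ hcond
        have h2 : n⁻¹ * a * n ∈ A.map (MulAut.conj n⁻¹).toMonoidHom :=
          ⟨a, ha, by simp⟩
        have h3 := hZA z hzZ _ h1 _ h2
        calc a * (n * z * n⁻¹) = n * ((n⁻¹ * a * n) * z) * n⁻¹ := by group
          _ = n * (z * (n⁻¹ * a * n)) * n⁻¹ := by rw [h3]
          _ = (n * z * n⁻¹) * a := by group
      have h4 : ⁅m, z₁⁆ ∈ W := mem_sectionKernel.mp (hYM hz₁Y) m hm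
      have h5 : m * n * z * (m * n)⁻¹ = ⁅m, z₁⁆ * z₁ := by
        rw [commutatorElement_def, hz₁]; group
      rw [h5]
      have h6 := hZA _ (hWZ h4) A hA a ha
      calc a * (⁅m, z₁⁆ * z₁) = (a * ⁅m, z₁⁆) * z₁ := by group
        _ = (⁅m, z₁⁆ * a) * z₁ := by rw [h6]
        _ = ⁅m, z₁⁆ * (a * z₁) := by group
        _ = ⁅m, z₁⁆ * (z₁ * a) := by rw [hz₁A]
        _ = ⁅m, z₁⁆ * z₁ * a := by group
    have hYcomm : ∀ a ∈ A, Y ≤ Subgroup.centralizer ({a} : Set G) := by
      intro a ha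
      apply sup_le
      · rw [Subgroup.normalClosure, Subgroup.closure_le]
        intro y hy
        rw [Group.mem_conjugatesOfSet_iff] at hy
        obtain ⟨b, hb, hy⟩ := hy
        rw [Set.mem_singleton_iff.mp hb] at hy
        obtain ⟨c, rfl⟩ := isConj_iff.mp hy
        show c * z * c⁻¹ ∈ Subgroup.centralizer ({a} : Set G)
        rw [Subgroup.mem_centralizer_singleton_iff]
        exact (hconjz c a ha).symm
      · intro w hw
        rw [Subgroup.mem_centralizer_singleton_iff]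
        exact (hZA w (hWZ hw) A hA a ha).symm
    apply hA2
    intro y hy
    refine mem_of_commute hA (hY₁P hy) hy.2 ?_
    intro a ha
    exact (Subgroup.mem_centralizer_singleton_iff.mp (hYcomm a ha hy.1)).symm
  -- hence all members lie in `M`
  have hAM : ∀ A ∈ 𝒜, A ≤ M := by
    intro A hA a ha
    apply hM₁M
    apply hC₁M₁
    rw [Subgroup.mem_centralizer_iff]
    intro y hy
    exact hab A hA y (hYA A hA hy) a ha
  -- so all conjugates of `z` lie in `Z`
  have hconjz : ∀ g : G, g * z * g⁻¹ ∈ Z := by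
    intro g
    obtain ⟨m, hm, n, hn, rfl⟩ := exists_frattini P M g
    set z₁ := n * z * n⁻¹ with hz₁
    have hz₁Y : z₁ ∈ Y := hYn.conj_mem z hzY n
    have hz₁Z : z₁ ∈ Z := by
      apply hconjJ n _ z hzZ
      intro A hA a ha
      have hx' : a ∈ PP ⊓ M := ⟨hle A hA ha, hAM A hA ha⟩
      have h1 := (Subgroup.mem_normalizer_iff.mp (Subgroup.inv_mem _ hn) a).mp hx'
      have h2 : n⁻¹ * a * n⁻¹⁻¹ ∈ PP := h1.1
      simpa using h2
    have h4 : ⁅m, z₁⁆ ∈ W := mem_sectionKernel.mp (hYM hz₁Y) m hm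
    have h5 : m * n * z * (m * n)⁻¹ = ⁅m, z₁⁆ * z₁ := by
      rw [commutatorElement_def, hz₁]; group
    rw [h5]
    exact Z.mul_mem (hWZ h4) hz₁Z
  have hYZ : Y ≤ Z := by
    apply sup_le
    · rw [Subgroup.normalClosure, Subgroup.closure_le]
      intro y hy
      rw [Group.mem_conjugatesOfSet_iff] at hy
      obtain ⟨a, ha, hy⟩ := hy
      rw [Set.mem_singleton_iff.mp ha] at hy
      obtain ⟨c, rfl⟩ := isConj_iff.mp hy
      exact hconjz c
    · exact hWZ
  have hYW : Y ≤ W := Subgroup.normal_le_normalCore.mpr hYZ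
  exact hzW (hYW hzY)

section Transport

variable {H : Type*} [Group H] [Finite G] [Finite H]

omit hpf in
theorem card_map_of_injOn (f : G →* H) {S A : Subgroup G} (hinj : ∀ x ∈ S, f x = 1 → x = 1) (hA : A ≤ S) :
    Nat.card (A.map f) = Nat.card A := by
  have h1 : Set.InjOn f (A : Set G) := by
    intro x hx y hy hxy
    have h2 : f (x * y⁻¹) = 1 := by rw [map_mul, map_inv, hxy, mul_inv_cancel]
    have h3 := hinj _ (S.mul_mem (hA hx) (S.inv_mem (hA hy))) h2
    rwa [mul_inv_eq_one] at h3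
  have h2 : Nat.card (A.map f) = (f '' (A : Set G)).ncard := by
    rw [← Nat.card_coe_set_eq]
    rfl
  rw [h2, h1.ncard_image, ← Nat.card_coe_set_eq]
  rfl

omit hpf [Finite G] [Finite H] in
theorem map_inf_comap_eq (f : G →* H) {S : Subgroup G} {B : Subgroup H} (hB : B ≤ S.map f) :
    (S ⊓ B.comap f).map f = B := by
  apply le_antisymm
  · rintro _ ⟨x, hx, rfl⟩
    exact hx.2
  · intro y hy
    obtain ⟨x, hx, rfl⟩ := hB hy
    exact ⟨x, ⟨hx, hy⟩, rfl⟩

omit hpf [Finite G] [Finite H] in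
theorem clsEA_map_iff (f : G →* H) {S A : Subgroup G} (hinj : ∀ x ∈ S, f x = 1 → x = 1) (hA : A ≤ S) :
    clsEA p (A.map f) ↔ clsEA p A := by
  constructor
  · intro h
    refine ⟨⟨⟨?_⟩⟩, ?_⟩
    · rintro ⟨x, hx⟩ ⟨y, hy⟩
      apply Subtype.ext
      have h1 : f x * f y = f y * f x := clsComm_comm _ h.1 _ ⟨x, hx, rfl⟩ _ ⟨y, hy, rfl⟩
      have h2 : f (x * y * (y * x)⁻¹) = 1 := by
        rw [map_mul, map_inv, map_mul, map_mul, h1, mul_inv_cancel]
      have h3 := hinj _ (S.mul_mem (S.mul_mem (hA hx) (hA hy))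
        (S.inv_mem (S.mul_mem (hA hy) (hA hx)))) h2
      rwa [mul_inv_eq_one] at h3
    · intro x hx
      have h1 : f x ^ p = 1 := h.2 _ ⟨x, hx, rfl⟩
      apply hinj _ (S.pow_mem (hA hx) p)
      rw [map_pow, h1]
  · intro h
    refine ⟨⟨⟨?_⟩⟩, ?_⟩
    · rintro ⟨_, x, hx, rfl⟩ ⟨_, y, hy, rfl⟩
      apply Subtype.ext
      show f x * f y = f y * f x
      rw [← map_mul, ← map_mul, clsComm_comm A h.1 x hx y hy]
    · rintro _ ⟨x, hx, rfl⟩
      show f x ^ p = 1
      rw [← map_pow, h.2 x hx, map_one]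

/-- `J_e` under a homomorphism injective on the subgroup. -/
theorem map_thompsonSubgroupOf (f : G →* H) (S : Subgroup G) (hinj : ∀ x ∈ S, f x = 1 → x = 1) :
    (thompsonSubgroupOf p S).map f = thompsonSubgroupOf p (S.map f) := by
  rw [thompsonSubgroupOf_eq_sSup, thompsonSubgroupOf_eq_sSup]
  have hlift : ∀ B : Subgroup H, B ≤ S.map f → Nat.card (S ⊓ B.comap f : Subgroup G) = Nat.card B := by
    intro B hB
    rw [← card_map_of_injOn f hinj (inf_le_left : S ⊓ B.comap f ≤ S), map_inf_comap_eq f hB]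
  apply le_antisymm
  · rw [Subgroup.map_le_iff_le_comap]
    apply sSup_le
    intro A hA x hx
    have h1 : A.map f ∈ maxFam (clsEA p) (S.map f) := by
      refine ⟨Subgroup.map_mono hA.1, (clsEA_map_iff f hinj hA.1).2 hA.2.1, ?_⟩
      intro B hB hBc
      rw [card_map_of_injOn f hinj hA.1, ← hlift B hB]
      apply hA.2.2 _ inf_le_left
      rw [← clsEA_map_iff f hinj (inf_le_left : S ⊓ B.comap f ≤ S), map_inf_comap_eq f hB]
      exact hBc
    exact (le_sSup h1 : A.map f ≤ sSup (maxFam (clsEA p) (S.map f))) ⟨x, hx, rfl⟩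
  · apply sSup_le
    intro B hB
    have h1 : S ⊓ B.comap f ∈ maxFam (clsEA p) S := by
      refine ⟨inf_le_left, ?_, ?_⟩
      · rw [← clsEA_map_iff f hinj (inf_le_left : S ⊓ B.comap f ≤ S), map_inf_comap_eq f hB.1]
        exact hB.2.1
      · intro C hC hCc
        rw [hlift B hB.1, ← card_map_of_injOn f hinj hC]
        exact hB.2.2 _ (Subgroup.map_mono hC) ((clsEA_map_iff f hinj hC).2 hCc)
    have h2 := Subgroup.map_mono (f := f) (le_sSup h1 : S ⊓ B.comap f ≤ sSup (maxFam (clsEA p) S))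
    rwa [map_inf_comap_eq f hB.1] at h2

/-- `Z(J_e)` under a homomorphism injective on the subgroup. -/
theorem map_centerThompsonOf (f : G →* H) (S : Subgroup G) (hinj : ∀ x ∈ S, f x = 1 → x = 1) :
    (centerThompsonOf p S).map f = centerThompsonOf p (S.map f) := by
  have hJ := map_thompsonSubgroupOf (p := p) f S hinj
  have hJS : thompsonSubgroupOf p S ≤ S := by
    unfold thompsonSubgroupOf
    exact Subgroup.map_subtype_le _
  unfold centerThompsonOf
  rw [← hJ]
  set J := thompsonSubgroupOf p S with hJdef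
  apply le_antisymm
  · rintro _ ⟨x, ⟨hx1, hx2⟩, rfl⟩
    refine Subgroup.mem_inf.2 ⟨⟨x, hx1, rfl⟩, ?_⟩
    rw [Subgroup.mem_centralizer_iff]
    rintro _ ⟨j, hj, rfl⟩
    have h1 : j * x = x * j := Subgroup.mem_centralizer_iff.mp hx2 j hj
    show f j * f x = f x * f j
    rw [← map_mul, h1, map_mul]
  · rintro y ⟨⟨x, hx, rfl⟩, hy⟩
    refine ⟨x, Subgroup.mem_inf.2 ⟨hx, ?_⟩, rfl⟩
    rw [Subgroup.mem_centralizer_iff]
    intro j hj
    have hy' : f x ∈ Subgroup.centralizer ((J.map f : Subgroup H) : Set H) := hy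
    have h1 : f j * f x = f x * f j := Subgroup.mem_centralizer_iff.mp hy' _ ⟨j, hj, rfl⟩
    have h2 : f (j * x * (x * j)⁻¹) = 1 := by
      rw [map_mul, map_inv, map_mul, map_mul, h1, mul_inv_cancel]
    have h3 := hinj _ (S.mul_mem (S.mul_mem (hJS hj) (hJS hx))
      (S.inv_mem (S.mul_mem (hJS hx) (hJS hj)))) h2
    rwa [mul_inv_eq_one] at h3

end Transport

end Cfsg.Agent.Lib.ZJe
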