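import Mathlib
import Cfsg.Prelude.Def_BaumannBlocks
import Cfsg.Agent.Lib.PLocalTools
import Cfsg.Agent.Lib.ZJe
import Cfsg.Agent.Lib.JCompBasic

/-!
# Baumann blocks: the basic commutator calculus

`p`-subgroups normalized by `B(T)` normalize `B(T)`, and a subgroup `E = O^p(E) = [E, B(T)]` is normalized by every
`p`-subgroup normalized by both `E` and `B(T)`.
-/

set_option autoImplicit false

open Cfsg
open scoped commutatorElement

namespace Cfsg.Agent.Lib.BauBlock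

variable {G : Type*} [Group G]

/-- `⁅H, K⁆` is normalized by `H`. -/
theorem conj_mem_comm_left {H K : Subgroup G} {h x : G} (hh : h ∈ H) (hx : x ∈ ⁅H, K⁆) :
    h * x * h⁻¹ ∈ ⁅H, K⁆ := Cfsg.Agent.Lib.CharPLocal.conj_mem_commutator_left hh hx

/-- `⁅H, K⁆` is normalized by `K`. -/
theorem conj_mem_comm_right {H K : Subgroup G} {k x : G} (hk : k ∈ K) (hx : x ∈ ⁅H, K⁆) :
    k * x * k⁻¹ ∈ ⁅H, K⁆ := by
  rw [Subgroup.commutator_comm] at hx ⊢
  exact conj_mem_comm_left hk hx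

theorem le_normalizer_comm_left (H K : Subgroup G) : H ≤ Subgroup.normalizer ((⁅H, K⁆ : Subgroup G) : Set G) := by
  intro h hh
  rw [Subgroup.mem_normalizer_iff]
  intro x
  constructor
  · intro hx; exact conj_mem_comm_left hh hx
  · intro hx
    have := conj_mem_comm_left (H.inv_mem hh) hx
    have e : h⁻¹ * (h * x * h⁻¹) * h⁻¹⁻¹ = x := by group
    rwa [e] at this

theorem le_normalizer_comm_right (H K : Subgroup G) : K ≤ Subgroup.normalizer ((⁅H, K⁆ : Subgroup G) : Set G) := by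
  rw [Subgroup.commutator_comm]; exact le_normalizer_comm_left K H

/-- A `p'`-element `x` normalizing `Q₂ ≥ Q₃`, where `Q₃ ⊴ Q₂`, `Q₂` is a `p`-group, `x` acts trivially on `Q₂ / Q₃`, and
`x` moves `q` inside `Q₂`: then `x` moves `q` inside `Q₃`. -/
theorem comm_mem_of_coprime {p : ℕ} [Fact p.Prime] {x q : G} {Q₂ Q₃ : Subgroup G}
    (hx : (orderOf x).Coprime p) (hQ₂ : IsPGroup p Q₂) (hle : Q₃ ≤ Q₂)
    (hn : ∀ c ∈ Q₂, ∀ u ∈ Q₃, c * u * c⁻¹ ∈ Q₃)
    (hxQ : ∀ c ∈ Q₂, x * c * x⁻¹ ∈ Q₂)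
    (hx₃ : ∀ c ∈ Q₂, c⁻¹ * (x * c * x⁻¹) ∈ Q₃)
    (hq : x * q * x⁻¹ * q⁻¹ ∈ Q₂) : x * q * x⁻¹ * q⁻¹ ∈ Q₃ := by
  set c := x * q * x⁻¹ * q⁻¹ with hc
  have key : ∀ n : ℕ, (c ^ n)⁻¹ * (x ^ n * q * (x ^ n)⁻¹ * q⁻¹) ∈ Q₃ := by
    intro n
    induction n with
    | zero => simpa using Q₃.one_mem
    | succ n ih =>
      set d := x ^ n * q * (x ^ n)⁻¹ * q⁻¹ with hd
      have hcn : c ^ n ∈ Q₂ := Q₂.pow_mem hq n
      have hd₂ : d ∈ Q₂ := by
        have := Q₂.mul_mem hcn (hle ih)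
        simpa using this
      have e : (c ^ (n + 1))⁻¹ * (x ^ (n + 1) * q * (x ^ (n + 1))⁻¹ * q⁻¹) =
          c⁻¹ * (((c ^ n)⁻¹ * d) * (d⁻¹ * (x * d * x⁻¹))) * c⁻¹⁻¹ := by
        have e1 : x ^ (n + 1) * q * (x ^ (n + 1))⁻¹ * q⁻¹ = (x * d * x⁻¹) * c := by
          rw [hd, hc, pow_succ']; group
        rw [e1, pow_succ]; group
      rw [e]
      exact hn _ (Q₂.inv_mem hq) _ (Q₃.mul_mem ih (hx₃ d hd₂))
  have h1 := key (orderOf x)
  rw [pow_orderOf_eq_one] at h1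
  simp only [one_mul, inv_one, mul_one, mul_inv_cancel] at h1
  have h2 : c ^ orderOf x ∈ Q₃ := by simpa using Q₃.inv_mem h1
  -- `c` is a `p`-element
  obtain ⟨a, ha⟩ := hQ₂ ⟨c, hq⟩
  have ha' : c ^ p ^ a = 1 := by simpa using congrArg Subtype.val ha
  have hcop : (orderOf x).Coprime (orderOf c) := by
    have h3 : orderOf c ∣ p ^ a := orderOf_dvd_of_pow_eq_one ha'
    exact Nat.Coprime.coprime_dvd_right h3 (Nat.Coprime.pow_right a hx)
  obtain ⟨b, hb⟩ := exists_pow_eq_self_of_coprime hcop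
  rw [← hb]
  exact Q₃.pow_mem h2 b

/-- `E = O^p(E)` acting on the `p`-group `Q`: `[E, Q] = [E, E, Q]`. -/
theorem comm_le_comm_comm {p : ℕ} [Fact p.Prime] [Finite G] {E Q : Subgroup G}
    (hE : pResidualOf p E = E) (hQ : IsPGroup p Q) (hEQ : E ≤ Subgroup.normalizer (Q : Set G)) :
    ⁅E, Q⁆ ≤ ⁅E, (⁅E, Q⁆ : Subgroup G)⁆ := by
  set Q₂ : Subgroup G := ⁅E, Q⁆ with hQ₂
  set Q₃ : Subgroup G := ⁅E, Q₂⁆ with hQ₃
  have hQ₂le : Q₂ ≤ Q := by
    rw [hQ₂, Subgroup.commutator_le]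
    intro e he q hq
    have h1 : e * q * e⁻¹ ∈ Q := (Subgroup.mem_normalizer_iff.mp (hEQ he) q).mp hq
    show e * q * e⁻¹ * q⁻¹ ∈ Q
    exact Q.mul_mem h1 (Q.inv_mem hq)
  have hQ₂p : IsPGroup p Q₂ := hQ.to_le hQ₂le
  have hQ₃le : Q₃ ≤ Q₂ := by
    rw [hQ₃, Subgroup.commutator_le]
    intro e he c hc
    have h1 : e * c * e⁻¹ ∈ Q₂ := conj_mem_comm_left he hc
    show e * c * e⁻¹ * c⁻¹ ∈ Q₂
    exact Q₂.mul_mem h1 (Q₂.inv_mem hc)
  -- the elements of `E` moving `Q` inside `Q₃`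
  let M : Subgroup G :=
    { carrier := {e | e ∈ E ∧ ∀ q ∈ Q, e * q * e⁻¹ * q⁻¹ ∈ Q₃}
      one_mem' := ⟨E.one_mem, fun q _ => by simpa using Q₃.one_mem⟩
      mul_mem' := by
        rintro a b ⟨ha, ha'⟩ ⟨hb, hb'⟩
        refine ⟨E.mul_mem ha hb, fun q hq => ?_⟩
        have e1 : a * b * q * (a * b)⁻¹ * q⁻¹ = a * (b * q * b⁻¹ * q⁻¹) * a⁻¹ * (a * q * a⁻¹ * q⁻¹) := by group
        rw [e1]
        exact Q₃.mul_mem (conj_mem_comm_left ha (hb' q hq)) (ha' q hq)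
      inv_mem' := by
        rintro a ⟨ha, ha'⟩
        refine ⟨E.inv_mem ha, fun q hq => ?_⟩
        have h1 : a⁻¹ * q * a⁻¹⁻¹ ∈ Q := (Subgroup.mem_normalizer_iff.mp (hEQ (E.inv_mem ha)) q).mp hq
        have h2 := Q₃.inv_mem (ha' _ h1)
        have e1 : (a * (a⁻¹ * q * a⁻¹⁻¹) * a⁻¹ * (a⁻¹ * q * a⁻¹⁻¹)⁻¹)⁻¹ = a⁻¹ * q * a⁻¹⁻¹ * q⁻¹ := by group
        rwa [e1] at h2 }
  have hME : E ≤ M := by
    have hgen : E = (Subgroup.closure {g : ↥E | Nat.Coprime (orderOf g) p}).map E.subtype := hE.symm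
    intro e he
    rw [hgen] at he
    obtain ⟨e', he', rfl⟩ := he
    have : Subgroup.closure {g : ↥E | Nat.Coprime (orderOf g) p} ≤ M.comap E.subtype := by
      rw [Subgroup.closure_le]
      intro g hg
      refine ⟨g.2, fun q hq => ?_⟩
      have hg' : (orderOf (g : G)).Coprime p := by
        rw [Subgroup.orderOf_coe]; exact hg
      refine comm_mem_of_coprime hg' hQ₂p hQ₃le ?_ ?_ ?_ ?_
      · intro c hc u hu
        rw [hQ₃] at hu ⊢
        exact conj_mem_comm_right hc hu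
      · intro c hc; exact conj_mem_comm_left g.2 hc
      · intro c hc
        have h1 : (g : G) * c * (g : G)⁻¹ * c⁻¹ ∈ Q₃ := Subgroup.commutator_mem_commutator g.2 hc
        have h2 : c⁻¹ * ((g : G) * c * (g : G)⁻¹) = c⁻¹ * ((g : G) * c * (g : G)⁻¹ * c⁻¹) * c⁻¹⁻¹ := by group
        show c⁻¹ * ((g : G) * c * (g : G)⁻¹) ∈ Q₃
        rw [h2]
        rw [hQ₃] at h1 ⊢
        exact conj_mem_comm_right (Q₂.inv_mem hc) h1
      · exact Subgroup.commutator_mem_commutator g.2 hq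
    exact this he'
  rw [hQ₂, Subgroup.commutator_le]
  intro e he q hq
  exact (hME he).2 q hq

/-! ## The Baumann subgroup and Sylow subgroups -/

open Cfsg.Agent.Lib.PLocalTools in
theorem thompson_le_baumann [Finite G] (p : ℕ) (T : Subgroup G) :
    thompsonSubgroupOf p T ≤ baumannSubgroupOf p T := by
  refine le_inf (thompsonOf_le p T) ?_
  rw [Subgroup.le_centralizer_iff]
  exact (omegaOne_le p _).trans inf_le_right

open Cfsg.Agent.Lib.PLocalTools Cfsg.Agent.Lib.ThompsonJ in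
/-- If `J(T) ≤ T'` for Sylow subgroups `T, T'`, then `J(T') = J(T)`. -/
theorem thompson_eq_of_le [Finite G] {p : ℕ} [Fact p.Prime] (T T' : Sylow p G)
    (h : thompsonSubgroupOf p (T : Subgroup G) ≤ T') :
    thompsonSubgroupOf p (T' : Subgroup G) = thompsonSubgroupOf p (T : Subgroup G) := by
  obtain ⟨g, hg⟩ := Cfsg.Agent.Lib.PResid.exists_conj_sylow T T'
  symm
  apply Subgroup.eq_of_le_of_card_ge
  · rw [thompsonOf_eq_sSup p (T : Subgroup G)]
    refine sSup_le fun A hA => ?_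
    refine le_thompsonOf ⟨(le_thompsonOf hA).trans h, hA.2.1, fun B hB hB' => ?_⟩
    have hB₀ : B.map (MulAut.conj g⁻¹).toMonoidHom ≤ T := by
      have h1 := Subgroup.map_mono (f := (MulAut.conj g⁻¹).toMonoidHom) hB
      rw [hg, Cfsg.Agent.Lib.PResid.conj_map_inv_conj] at h1
      exact h1
    have h2 := hA.2.2 _ hB₀ (ea_map hB' _)
    have h3 : Nat.card ↥(B.map (MulAut.conj g⁻¹).toMonoidHom) = Nat.card B :=
      Nat.card_congr (Subgroup.equivMapOfInjective B _ (MulAut.conj g⁻¹).injective).symm.toEquiv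
    rwa [h3] at h2
  · rw [hg, thompsonOf_map_conj]
    exact le_of_eq (Nat.card_congr (Subgroup.equivMapOfInjective _ _ (MulAut.conj g).injective).symm.toEquiv)

open Cfsg.Agent.Lib.PLocalTools Cfsg.Agent.Lib.ZJe in
/-- `B(T^g) = B(T)^g`. -/
theorem baumann_map_conj [Finite G] (p : ℕ) [Fact p.Prime] (T : Subgroup G) (g : G) :
    baumannSubgroupOf p (T.map (MulAut.conj g).toMonoidHom) =
      (baumannSubgroupOf p T).map (MulAut.conj g).toMonoidHom := by
  unfold baumannSubgroupOf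
  have h1 : centerThompsonOf p (T.map (MulAut.conj g).toMonoidHom) =
      (centerThompsonOf p T).map (MulAut.conj g).toMonoidHom :=
    (map_centerThompsonOf (p := p) (MulAut.conj g).toMonoidHom T (fun x _ hx => by
      have h2 : g * x * g⁻¹ = 1 := hx
      exact conj_eq_one_iff.mp h2)).symm
  rw [h1, ← map_omegaOne p _ _ (MulAut.conj g).injective]
  ext x
  simp only [Subgroup.mem_inf, Cfsg.Agent.Lib.PResid.mem_conj_map, Subgroup.mem_centralizer_iff]
  constructor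
  · rintro ⟨hx, hc⟩
    refine ⟨hx, fun w hw => ?_⟩
    have := hc (g * w * g⁻¹) (by
      rw [SetLike.mem_coe, Cfsg.Agent.Lib.PResid.mem_conj_map]
      simpa [mul_assoc] using hw)
    have e : g * w * g⁻¹ * x = g * (w * (g⁻¹ * x * g)) * g⁻¹ := by group
    have e' : x * (g * w * g⁻¹) = g * ((g⁻¹ * x * g) * w) * g⁻¹ := by group
    rw [e, e'] at this
    exact mul_left_cancel (mul_right_cancel this)
  · rintro ⟨hx, hc⟩
    refine ⟨hx, fun w hw => ?_⟩
    rw [SetLike.mem_coe, Cfsg.Agent.Lib.PResid.mem_conj_map] at hw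
    have h3 := hc _ hw
    have e : w * x = g * ((g⁻¹ * w * g) * (g⁻¹ * x * g)) * g⁻¹ := by group
    have e' : x * w = g * ((g⁻¹ * x * g) * (g⁻¹ * w * g)) * g⁻¹ := by group
    rw [e, e', h3]

/-- If `B(T) ≤ T'` for Sylow subgroups `T, T'`, then `B(T') = B(T)`. -/
theorem baumann_eq_of_le [Finite G] {p : ℕ} [Fact p.Prime] (T T' : Sylow p G)
    (h : baumannSubgroupOf p (T : Subgroup G) ≤ T') :
    baumannSubgroupOf p (T' : Subgroup G) = baumannSubgroupOf p (T : Subgroup G) := by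
  have hJ := thompson_eq_of_le T T' ((thompson_le_baumann p _).trans h)
  obtain ⟨g, hg⟩ := Cfsg.Agent.Lib.PResid.exists_conj_sylow T T'
  symm
  apply Subgroup.eq_of_le_of_card_ge
  · refine le_inf h (inf_le_right.trans ?_)
    unfold centerThompsonOf
    rw [hJ]
  · rw [hg, baumann_map_conj]
    exact le_of_eq (Nat.card_congr (Subgroup.equivMapOfInjective _ _ (MulAut.conj g).injective).symm.toEquiv)

/-- A Sylow subgroup normalizes its Baumann subgroup. -/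
theorem le_normalizer_baumann [Finite G] (p : ℕ) [Fact p.Prime] (T : Subgroup G) :
    T ≤ Subgroup.normalizer (baumannSubgroupOf p T : Set G) := by
  intro t ht
  rw [Cfsg.Agent.Lib.PResid.mem_normalizer_iff_conj_map]
  have h1 := baumann_map_conj p T t
  rw [Cfsg.Agent.Lib.PResid.conj_map_eq_of_mem_normalizer (Subgroup.le_normalizer ht)] at h1
  exact h1.symm

/-- A `p`-subgroup normalized by `B(T)` normalizes `B(T)`. -/
theorem le_normalizer_baumann_of [Finite G] {p : ℕ} [Fact p.Prime] (T : Sylow p G) {Q : Subgroup G}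
    (hQ : IsPGroup p Q) (h : baumannSubgroupOf p (T : Subgroup G) ≤ Subgroup.normalizer (Q : Set G)) :
    Q ≤ Subgroup.normalizer (baumannSubgroupOf p (T : Subgroup G) : Set G) := by
  have hB : IsPGroup p (baumannSubgroupOf p (T : Subgroup G)) := T.isPGroup'.to_le inf_le_left
  have hp : IsPGroup p (baumannSubgroupOf p (T : Subgroup G) ⊔ Q : Subgroup G) :=
    hB.to_sup_of_normal_right' hQ h
  obtain ⟨T', hT'⟩ := hp.exists_le_sylow
  have h1 := baumann_eq_of_le T T' (le_sup_left.trans hT')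
  have h2 := le_normalizer_baumann p (T' : Subgroup G)
  rw [h1] at h2
  exact (le_sup_right.trans hT').trans h2

/-- `E = [E, x]`-elements: membership in the normalizer from commutators. -/
theorem le_normalizer_of_comm_le {E Q : Subgroup G} (h : ⁅E, Q⁆ ≤ E) : Q ≤ Subgroup.normalizer (E : Set G) := by
  have key : ∀ q ∈ Q, ∀ x ∈ E, q * x * q⁻¹ ∈ E := by
    intro q hq x hx
    have h1 : x⁻¹ * q * x⁻¹⁻¹ * q⁻¹ ∈ E := h (Subgroup.commutator_mem_commutator (E.inv_mem hx) hq)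
    have e : q * x * q⁻¹ = x * (x⁻¹ * q * x⁻¹⁻¹ * q⁻¹) := by group
    rw [e]
    exact E.mul_mem hx h1
  intro q hq
  rw [Subgroup.mem_normalizer_iff]
  intro x
  refine ⟨key q hq x, fun hx => ?_⟩
  have := key q⁻¹ (Q.inv_mem hq) _ hx
  have e : q⁻¹ * (q * x * q⁻¹) * q⁻¹⁻¹ = x := by group
  rwa [e] at this

/-- The key statement: `E = O^p(E) = [E, B(T)]` is normalized by every `p`-subgroup normalized by `E` and `B(T)`. -/
theorem le_normalizer_of_block [Finite G] {p : ℕ} [Fact p.Prime] (T : Sylow p G) {E Q : Subgroup G}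
    (hE : pResidualOf p E = E) (hEB : ⁅E, baumannSubgroupOf p (T : Subgroup G)⁆ = E)
    (hQ : IsPGroup p Q) (hBQ : baumannSubgroupOf p (T : Subgroup G) ≤ Subgroup.normalizer (Q : Set G))
    (hEQ : E ≤ Subgroup.normalizer (Q : Set G)) : Q ≤ Subgroup.normalizer (E : Set G) := by
  set B := baumannSubgroupOf p (T : Subgroup G) with hB
  have hBE : B ≤ Subgroup.normalizer (E : Set G) := Cfsg.Agent.Lib.JCompBasic.le_normalizer_of_commutator_eq hEB
  set L : Subgroup G := E ⊔ B with hL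
  have hLQ : L ≤ Subgroup.normalizer (Q : Set G) := sup_le hEQ hBQ
  have hLE : L ≤ Subgroup.normalizer (E : Set G) := sup_le Subgroup.le_normalizer hBE
  let M : Subgroup G :=
    { carrier := {g | g ∈ L ∧ ∀ q ∈ Q, g * q * g⁻¹ * q⁻¹ ∈ L}
      one_mem' := ⟨L.one_mem, fun q _ => by simpa using L.one_mem⟩
      mul_mem' := by
        rintro a b ⟨ha, ha'⟩ ⟨hb, hb'⟩
        refine ⟨L.mul_mem ha hb, fun q hq => ?_⟩
        have e1 : a * b * q * (a * b)⁻¹ * q⁻¹ = a * (b * q * b⁻¹ * q⁻¹) * a⁻¹ * (a * q * a⁻¹ * q⁻¹) := by group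
        rw [e1]
        exact L.mul_mem (L.mul_mem (L.mul_mem ha (hb' q hq)) (L.inv_mem ha)) (ha' q hq)
      inv_mem' := by
        rintro a ⟨ha, ha'⟩
        refine ⟨L.inv_mem ha, fun q hq => ?_⟩
        have h1 : a⁻¹ * q * a⁻¹⁻¹ ∈ Q := (Subgroup.mem_normalizer_iff.mp (hLQ (L.inv_mem ha)) q).mp hq
        have h2 := L.inv_mem (ha' _ h1)
        have e1 : (a * (a⁻¹ * q * a⁻¹⁻¹) * a⁻¹ * (a⁻¹ * q * a⁻¹⁻¹)⁻¹)⁻¹ = a⁻¹ * q * a⁻¹⁻¹ * q⁻¹ := by group
        rwa [e1] at h2 }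
  have hconj : ∀ e ∈ E, ∀ b ∈ B, e * b * e⁻¹ ∈ M := by
    intro e he b hb
    have heL : e ∈ L := (le_sup_left : E ≤ L) he
    have hbL : b ∈ L := (le_sup_right : B ≤ L) hb
    refine ⟨L.mul_mem (L.mul_mem heL hbL) (L.inv_mem heL), fun q hq => ?_⟩
    -- the conjugate of `T`
    set T' : Sylow p G := e • T with hT'
    have hT'c : (T' : Subgroup G) = (T : Subgroup G).map (MulAut.conj e).toMonoidHom :=
      Cfsg.Agent.Lib.PResid.coe_smul_eq_conj_map T e
    have hB' : baumannSubgroupOf p (T' : Subgroup G) = B.map (MulAut.conj e).toMonoidHom := by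
      rw [hT'c, baumann_map_conj]
    have hB'Q : baumannSubgroupOf p (T' : Subgroup G) ≤ Subgroup.normalizer (Q : Set G) := by
      rw [hB']
      rintro _ ⟨c, hc, rfl⟩
      exact (Subgroup.mul_mem _ (Subgroup.mul_mem _ (hEQ he) (hBQ hc)) (Subgroup.inv_mem _ (hEQ he)))
    have hQB' := le_normalizer_baumann_of T' hQ hB'Q
    have hmem : e * b * e⁻¹ ∈ baumannSubgroupOf p (T' : Subgroup G) := by
      rw [hB']; exact ⟨b, hb, rfl⟩
    have h1 : q * (e * b * e⁻¹)⁻¹ * q⁻¹ ∈ baumannSubgroupOf p (T' : Subgroup G) :=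
      (Subgroup.mem_normalizer_iff.mp (hQB' hq) _).mp (Subgroup.inv_mem _ hmem)
    have h2 : baumannSubgroupOf p (T' : Subgroup G) ≤ L := by
      rw [hB']
      rintro _ ⟨c, hc, rfl⟩
      exact L.mul_mem (L.mul_mem heL ((le_sup_right : B ≤ L) hc)) (L.inv_mem heL)
    have e2 : e * b * e⁻¹ * q * (e * b * e⁻¹)⁻¹ * q⁻¹ = (e * b * e⁻¹) * (q * (e * b * e⁻¹)⁻¹ * q⁻¹) := by group
    rw [e2]
    exact L.mul_mem (h2 hmem) (h2 h1)
  have hEM : E ≤ M := by
    conv_lhs => rw [← hEB]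
    rw [Subgroup.commutator_le]
    intro e he b hb
    have h1 := hconj e he b hb
    have h2 := hconj 1 E.one_mem b hb
    simp only [one_mul, inv_one, mul_one] at h2
    show e * b * e⁻¹ * b⁻¹ ∈ M
    exact M.mul_mem h1 (M.inv_mem h2)
  have h1 : ⁅E, Q⁆ ≤ L := by
    rw [Subgroup.commutator_le]
    intro e he q hq
    exact (hEM he).2 q hq
  have h2 : ⁅E, L⁆ ≤ E := by
    rw [Subgroup.commutator_le]
    intro e he l hl
    have h3 : l * e⁻¹ * l⁻¹ ∈ E := (Subgroup.mem_normalizer_iff.mp (hLE hl) _).mp (E.inv_mem he)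
    have e2 : e * l * e⁻¹ * l⁻¹ = e * (l * e⁻¹ * l⁻¹) := by group
    show e * l * e⁻¹ * l⁻¹ ∈ E
    rw [e2]
    exact E.mul_mem he h3
  have h3 : ⁅E, Q⁆ ≤ E :=
    (comm_le_comm_comm hE hQ hEQ).trans ((Subgroup.commutator_mono le_rfl h1).trans h2)
  exact le_normalizer_of_comm_le h3

end Cfsg.Agent.Lib.BauBlock
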