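import Mathlib
import Cfsg.Prelude.Def_BaumannBlocks
import Cfsg.Agent.Lib.BauBlock
import Cfsg.Agent.Lib.BauSec

/-!
# Baumann blocks: location of the commutator module

For a block `E` of a group of characteristic `p`: `E = O^p(E O_p(G))`, `W_E = [Ω₁Z(O_p(E)), E] = [E, Ω₁Z(O_p(G))]`,
and `W_E` is not centralized by `J(T)`.
-/

set_option autoImplicit false

open Cfsg
open scoped commutatorElement

namespace Cfsg.Agent.Lib.BauBlock2

open Cfsg.Agent.Lib.BauBlock Cfsg.Agent.Lib.PLocalTools Cfsg.Agent.Lib.ThompsonJ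

variable {G : Type*} [Group G]

theorem pCoreOf_le (p : ℕ) (X : Subgroup G) : pCoreOf p X ≤ X := Subgroup.map_subtype_le _

theorem isPGroup_pCoreOf [Finite G] (p : ℕ) [Fact p.Prime] (X : Subgroup G) : IsPGroup p (pCoreOf p X) :=
  (Cfsg.Agent.Lib.PCore.isPGroup_pCore p).map X.subtype

theorem le_normalizer_pCoreOf (p : ℕ) (X : Subgroup G) :
    X ≤ Subgroup.normalizer (pCoreOf p X : Set G) := by
  intro x hx
  have hn : (pCore p X).Normal := @Subgroup.normal_of_characteristic _ _ _ (Cfsg.Agent.Lib.PCore.pCore_characteristic p)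
  have h1 : (⟨x, hx⟩ : X) ∈ Subgroup.normalizer ((pCore p X : Subgroup X) : Set X) := by
    rw [Subgroup.normalizer_eq_top_iff.mpr hn]; trivial
  exact Subgroup.le_normalizer_map (H := pCore p X) X.subtype (Subgroup.mem_map_of_mem _ h1)

theorem le_pCoreOf {p : ℕ} {Y X : Subgroup G} (hYX : Y ≤ X) (hXY : X ≤ Subgroup.normalizer (Y : Set G))
    (hY : IsPGroup p Y) : Y ≤ pCoreOf p X := by
  have hnormal : (Y.subgroupOf X).Normal := Subgroup.normal_subgroupOf_of_le_normalizer hXY
  have h1 : Y.subgroupOf X ≤ pCore p X := Cfsg.Agent.Lib.PCore.le_pCore hnormal hY.comap_subtype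
  intro y hy
  exact ⟨⟨y, hYX hy⟩, h1 hy, rfl⟩

theorem omegaOneCenter_le (p : ℕ) (X : Subgroup G) : omegaOneCenter p X ≤ X :=
  (omegaOne_le p _).trans inf_le_left

theorem omegaOneCenter_le_centralizer (p : ℕ) (X : Subgroup G) :
    omegaOneCenter p X ≤ Subgroup.centralizer (X : Set G) :=
  (omegaOne_le p _).trans inf_le_right

theorem omegaOneCenter_ea (p : ℕ) (X : Subgroup G) : IsElementaryAbelian p (omegaOneCenter p X) :=
  omegaOne_ea fun x hx y hy => (Subgroup.mem_centralizer_iff.mp hy.2 x hx.1).symm ▸ rfl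

theorem conj_mem_omegaOne {p : ℕ} {H : Subgroup G} {g x : G} (h : ∀ y ∈ H, g * y * g⁻¹ ∈ H)
    (hx : x ∈ omegaOne p H) : g * x * g⁻¹ ∈ omegaOne p H := by
  unfold omegaOne at hx ⊢
  induction hx using Subgroup.closure_induction with
  | mem x hx =>
    refine Subgroup.subset_closure ⟨h x hx.1, ?_⟩
    rw [conj_pow, hx.2]; simp
  | one => simpa using Subgroup.one_mem _
  | mul a b _ _ iha ihb =>
    have : g * (a * b) * g⁻¹ = (g * a * g⁻¹) * (g * b * g⁻¹) := by group
    rw [this]; exact Subgroup.mul_mem _ iha ihb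
  | inv a _ ih =>
    have : g * a⁻¹ * g⁻¹ = (g * a * g⁻¹)⁻¹ := by group
    rw [this]; exact Subgroup.inv_mem _ ih

theorem conj_mem_center {X : Subgroup G} {g x : G} (hg : g ∈ Subgroup.normalizer (X : Set G))
    (hx : x ∈ X ⊓ Subgroup.centralizer (X : Set G)) :
    g * x * g⁻¹ ∈ X ⊓ Subgroup.centralizer (X : Set G) := by
  refine ⟨(Subgroup.mem_normalizer_iff.mp hg x).mp hx.1, ?_⟩
  refine Subgroup.mem_centralizer_iff.mpr ?_
  intro y hy
  have h1 : g⁻¹ * y * g ∈ X := by
    have := (Subgroup.mem_normalizer_iff.mp (Subgroup.inv_mem _ hg) y).mp hy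
    simpa using this
  have h2 := Subgroup.mem_centralizer_iff.mp hx.2 _ h1
  calc y * (g * x * g⁻¹) = g * ((g⁻¹ * y * g) * x) * g⁻¹ := by group
    _ = g * (x * (g⁻¹ * y * g)) * g⁻¹ := by rw [h2]
    _ = g * x * g⁻¹ * y := by group

theorem normalizer_le_normalizer_omegaOneCenter (p : ℕ) (X : Subgroup G) :
    Subgroup.normalizer (X : Set G) ≤ Subgroup.normalizer (omegaOneCenter p X : Set G) := by
  intro g hg
  rw [Subgroup.mem_normalizer_iff]
  intro x
  constructor
  · intro hx
    exact conj_mem_omegaOne (fun y hy => conj_mem_center hg hy) hx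
  · intro hx
    have := conj_mem_omegaOne (g := g⁻¹) (fun y hy => conj_mem_center (Subgroup.inv_mem _ hg) hy) hx
    have e : g⁻¹ * (g * x * g⁻¹) * g⁻¹⁻¹ = x := by group
    rwa [e] at this

section block

variable {p : ℕ} {T E : Subgroup G}

/-- Normal subgroups inside `W` meet `W / C_W(E)` trivially or fill it. -/
theorem block_sec_W (hE : IsBaumannBlock p T E) {Y : Subgroup G}
    (hYU : Y ≤ omegaOneCenter p (pCoreOf p E)) (hEY : E ≤ Subgroup.normalizer (Y : Set G))
    (hY : ¬ Y ≤ omegaOneCenter p (pCoreOf p E) ⊓ Subgroup.centralizer (E : Set G)) :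
    omegaOneCenter p (pCoreOf p E) ≤
      Y ⊔ (omegaOneCenter p (pCoreOf p E) ⊓ Subgroup.centralizer (E : Set G)) := by
  rcases hE.2.2.2.2 with ⟨F, _, _, n, _, _, h, _⟩ | ⟨_, m, _, h, _⟩
  · exact Cfsg.Agent.Lib.BauSec.le_sup_of_sl2 h hYU hEY hY
  · exact Cfsg.Agent.Lib.BauSec.le_sup_of_alt ⟨m, rfl⟩ h hYU hEY hY

theorem comm_of_mem_W {a b : G} (ha : a ∈ omegaOneCenter p (pCoreOf p E)) (hb : b ∈ pCoreOf p E) :
    a * b = b * a :=
  (Subgroup.mem_centralizer_iff.mp (omegaOneCenter_le_centralizer p _ ha) b hb).symm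

/-- Abelian normal subgroups of `E` inside `O_p(E)` lie in `W`. -/
theorem block_le_W (hE : IsBaumannBlock p T E) {Y : Subgroup G}
    (hYP : Y ≤ pCoreOf p E) (hEY : E ≤ Subgroup.normalizer (Y : Set G))
    (hab : ∀ a ∈ Y, ∀ b ∈ Y, a * b = b * a) : Y ≤ omegaOneCenter p (pCoreOf p E) := by
  rcases hE.2.2.2.2 with ⟨F, _, _, n, hcard, _, _, h | ⟨hp3, h1, h2, _, h4, h5, _⟩⟩ | ⟨_, m, _, _, h⟩
  · rw [← h]; exact hYP
  · by_contra hY
    have hsec := Cfsg.Agent.Lib.BauSec.le_sup_of_sl2 h1 hYP hEY hY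
    -- `P` would be abelian
    have hcomm : ⁅pCoreOf p E, pCoreOf p E⁆ = ⊥ := by
      have hP : ∀ x ∈ Y ⊔ omegaOneCenter p (pCoreOf p E), x ∈ pCoreOf p E :=
        fun x hx => (sup_le hYP (omegaOneCenter_le p _)) hx
      have h1' : ∀ y ∈ Y, ∀ x ∈ Y ⊔ omegaOneCenter p (pCoreOf p E), y * x = x * y := by
        intro y hy
        have : Y ⊔ omegaOneCenter p (pCoreOf p E) ≤ Subgroup.centralizer ({y} : Set G) := by
          rw [sup_le_iff]
          constructor
          · intro a ha
            rw [Subgroup.mem_centralizer_singleton_iff]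
            exact hab a ha y hy
          · intro a ha
            rw [Subgroup.mem_centralizer_singleton_iff]
            exact comm_of_mem_W ha (hYP hy)
        intro x hx
        exact (Subgroup.mem_centralizer_singleton_iff.mp (this hx)).symm
      have h2' : ∀ x ∈ Y ⊔ omegaOneCenter p (pCoreOf p E), ∀ x' ∈ Y ⊔ omegaOneCenter p (pCoreOf p E),
          x * x' = x' * x := by
        intro x hx x' hx'
        have : Y ⊔ omegaOneCenter p (pCoreOf p E) ≤ Subgroup.centralizer ({x} : Set G) := by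
          rw [sup_le_iff]
          constructor
          · intro a ha
            rw [Subgroup.mem_centralizer_singleton_iff]
            exact h1' a ha x hx
          · intro a ha
            rw [Subgroup.mem_centralizer_singleton_iff]
            exact comm_of_mem_W ha (hP x hx)
        exact (Subgroup.mem_centralizer_singleton_iff.mp (this hx')).symm
      rw [← le_bot_iff, Subgroup.commutator_le]
      intro a ha b hb
      rw [Subgroup.mem_bot, commutatorElement_def, h2' a (hsec ha) b (hsec hb)]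
      group
    have hne : n ≠ 0 := by
      rintro rfl
      rw [pow_zero] at hcard
      exact (Fintype.one_lt_card (α := F)).ne' hcard
    rw [hcomm] at h2
    rw [h4, ← h2] at h5
    simp only [Subgroup.card_bot] at h5
    have : 3 ^ n = 1 := h5.symm
    exact hne (by simpa using this)
  · rw [← h]; exact hYP

theorem pCore_normal (p : ℕ) : (pCore p G).Normal :=
  @Subgroup.normal_of_characteristic _ _ _ (Cfsg.Agent.Lib.PCore.pCore_characteristic p)

/-- `V = Ω₁Z(O_p(G))` is normal. -/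
theorem omegaCore_normal (p : ℕ) : (omegaOneCenter p (pCore p G)).Normal := by
  have hn : (pCore p G).Normal := pCore_normal p
  rw [← Subgroup.normalizer_eq_top_iff, ← top_le_iff]
  have := normalizer_le_normalizer_omegaOneCenter p (pCore p G)
  rwa [Subgroup.normalizer_eq_top_iff.mpr hn] at this

theorem comm_V_le_V : ⁅E, omegaOneCenter p (pCore p G)⁆ ≤ omegaOneCenter p (pCore p G) := by
  have := omegaCore_normal (G := G) p
  rw [Subgroup.commutator_le]
  intro e _ v hv
  rw [commutatorElement_def]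
  exact Subgroup.mul_mem _ (this.conj_mem v hv e) (Subgroup.inv_mem _ hv)

end block

section main

variable [Finite G] {p : ℕ} [Fact p.Prime]

theorem isPGroup_omegaCore : IsPGroup p (omegaOneCenter p (pCore p G)) :=
  (Cfsg.Agent.Lib.PCore.isPGroup_pCore p).to_le (omegaOneCenter_le p _)

variable (S : Sylow p G) {E : Subgroup G} (hE : IsBaumannBlock p (S : Subgroup G) E)

include hE

theorem pCore_le_normalizer : pCore p G ≤ Subgroup.normalizer (E : Set G) := by
  have hn : (pCore p G).Normal := pCore_normal p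
  refine le_normalizer_of_block S hE.1 hE.2.1 (Cfsg.Agent.Lib.PCore.isPGroup_pCore p) ?_ ?_ <;>
  · rw [Subgroup.normalizer_eq_top_iff.mpr hn]; exact le_top

theorem comm_V_le_E : ⁅E, omegaOneCenter p (pCore p G)⁆ ≤ E := by
  rw [Subgroup.commutator_le]
  intro e he v hv
  have h1 := pCore_le_normalizer S hE (omegaOneCenter_le p _ hv)
  have h2 := (Subgroup.mem_normalizer_iff.mp h1 e⁻¹).mp (E.inv_mem he)
  rw [commutatorElement_def, mul_assoc, mul_assoc]
  refine E.mul_mem he ?_
  rw [← mul_assoc]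
  exact h2

/-- `Y' = [E, V]` satisfies `[E, Y'] = Y'`. -/
theorem comm_comm_V :
    ⁅E, (⁅E, omegaOneCenter p (pCore p G)⁆ : Subgroup G)⁆ = ⁅E, omegaOneCenter p (pCore p G)⁆ := by
  have hV := omegaCore_normal (G := G) p
  apply le_antisymm
  · rw [Subgroup.commutator_le]
    intro e he y hy
    rw [commutatorElement_def]
    exact Subgroup.mul_mem _ (conj_mem_comm_left he hy) (Subgroup.inv_mem _ hy)
  · refine comm_le_comm_comm hE.1 isPGroup_omegaCore ?_
    rw [Subgroup.normalizer_eq_top_iff.mpr hV]; exact le_top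

theorem comm_V_ne_bot (hG : Subgroup.centralizer (pCore p G : Set G) ≤ pCore p G) :
    ⁅E, omegaOneCenter p (pCore p G)⁆ ≠ ⊥ := by
  intro h
  apply hE.2.2.2.1
  rw [← le_bot_iff, ← h]
  refine Subgroup.commutator_mono le_rfl (omegaOne_mono p ?_)
  have hRT := Cfsg.Agent.Lib.PCore.pCore_le_sylow p S
  intro x hx
  have hxc : x ∈ Subgroup.centralizer (pCore p G : Set G) := by
    refine Subgroup.mem_centralizer_iff.mpr fun r hr => ?_
    exact Subgroup.mem_centralizer_iff.mp hx.2 r (hRT hr)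
  exact ⟨hG hxc, hxc⟩

/-- `[E, V]` lies in `W` and equals `[W, E]`. -/
theorem comm_V_le_W :
    ⁅E, omegaOneCenter p (pCore p G)⁆ ≤ omegaOneCenter p (pCoreOf p E) := by
  refine block_le_W hE ?_ (le_normalizer_comm_left _ _) ?_
  · refine le_pCoreOf (comm_V_le_E S hE) (le_normalizer_comm_left _ _) ?_
    exact isPGroup_omegaCore.to_le comm_V_le_V
  · intro a ha b hb
    exact ea_comm (omegaOneCenter_ea p _) (comm_V_le_V ha) (comm_V_le_V hb)

theorem comm_W_eq (hG : Subgroup.centralizer (pCore p G : Set G) ≤ pCore p G) :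
    ⁅omegaOneCenter p (pCoreOf p E), E⁆ = ⁅E, omegaOneCenter p (pCore p G)⁆ := by
  have hY1 := comm_V_le_W S hE
  have hY2 := comm_comm_V S hE
  have hY3 := comm_V_ne_bot S hE hG
  apply le_antisymm
  · -- `Y'` is not central in `E`
    have hY4 : ¬ ⁅E, omegaOneCenter p (pCore p G)⁆ ≤
        omegaOneCenter p (pCoreOf p E) ⊓ Subgroup.centralizer (E : Set G) := by
      intro hc
      apply hY3
      rw [← hY2, ← le_bot_iff, Subgroup.commutator_le]
      intro e he y hy
      have := Subgroup.mem_centralizer_iff.mp (hc hy).2 e he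
      rw [Subgroup.mem_bot, commutatorElement_def, this]
      group
    have hsec := block_sec_W hE hY1 (le_normalizer_comm_left _ _) hY4
    set Y' : Subgroup G := ⁅E, omegaOneCenter p (pCore p G)⁆ with hY'
    have hcW : ∀ a ∈ omegaOneCenter p (pCoreOf p E), ∀ b ∈ omegaOneCenter p (pCoreOf p E), a * b = b * a :=
      fun a ha b hb => ea_comm (omegaOneCenter_ea p _) ha hb
    let D : Subgroup G :=
      { carrier := {g | g ∈ omegaOneCenter p (pCoreOf p E) ∧ ∀ e ∈ E, ⁅g, e⁆ ∈ Y'}
        one_mem' := ⟨Subgroup.one_mem _, fun e _ => by simp⟩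
        mul_mem' := by
          rintro a b ⟨ha, ha'⟩ ⟨hb, hb'⟩
          refine ⟨Subgroup.mul_mem _ ha hb, fun e he => ?_⟩
          have e1 : ⁅a * b, e⁆ = a * ⁅b, e⁆ * a⁻¹ * ⁅a, e⁆ := by
            simp only [commutatorElement_def]; group
          have e2 : a * ⁅b, e⁆ * a⁻¹ = ⁅b, e⁆ := by
            rw [hcW a ha _ (hY1 (hb' e he))]; group
          rw [e1, e2]
          exact Y'.mul_mem (hb' e he) (ha' e he)
        inv_mem' := by
          rintro a ⟨ha, ha'⟩
          refine ⟨Subgroup.inv_mem _ ha, fun e he => ?_⟩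
          have e1 : ⁅a⁻¹, e⁆ = a⁻¹ * (⁅a, e⁆)⁻¹ * a := by
            simp only [commutatorElement_def]; group
          have e2 : a⁻¹ * (⁅a, e⁆)⁻¹ * a = (⁅a, e⁆)⁻¹ := by
            rw [mul_assoc, ← hcW a ha _ (Subgroup.inv_mem _ (hY1 (ha' e he)))]; group
          rw [e1, e2]
          exact Y'.inv_mem (ha' e he) }
    have hWD : omegaOneCenter p (pCoreOf p E) ≤ D := by
      refine hsec.trans (sup_le ?_ ?_)
      · intro y hy
        refine ⟨hY1 hy, fun e he => ?_⟩
        have e1 : ⁅y, e⁆ = y * (e * y⁻¹ * e⁻¹) := by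
          simp only [commutatorElement_def]; group
        rw [e1]
        exact Y'.mul_mem hy (conj_mem_comm_left he (Y'.inv_mem hy))
      · intro z hz
        refine ⟨hz.1, fun e he => ?_⟩
        have := Subgroup.mem_centralizer_iff.mp hz.2 e he
        have e1 : ⁅z, e⁆ = 1 := by
          rw [commutatorElement_def, ← this]; group
        rw [e1]
        exact Y'.one_mem
    rw [Subgroup.commutator_le]
    intro w hw e he
    exact (hWD hw).2 e he
  · calc ⁅E, omegaOneCenter p (pCore p G)⁆ = ⁅E, (⁅E, omegaOneCenter p (pCore p G)⁆ : Subgroup G)⁆ := hY2.symm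
      _ ≤ ⁅E, omegaOneCenter p (pCoreOf p E)⁆ := Subgroup.commutator_mono le_rfl hY1
      _ = ⁅omegaOneCenter p (pCoreOf p E), E⁆ := Subgroup.commutator_comm _ _

theorem residual_sup : pResidualOf p (E ⊔ pCore p G) = E := by
  have hRE := pCore_le_normalizer S hE
  have hRp : IsPGroup p (pCore p G) := Cfsg.Agent.Lib.PCore.isPGroup_pCore p
  apply le_antisymm
  · unfold pResidualOf pResidual
    rw [Subgroup.map_le_iff_le_comap, Subgroup.closure_le]
    rintro ⟨x, hx⟩ hc
    have hc' : (orderOf x).Coprime p := by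
      have : orderOf (⟨x, hx⟩ : ↥(E ⊔ pCore p G)) = orderOf x := Subgroup.orderOf_mk x hx
      rw [← this]; exact hc
    exact Cfsg.Agent.Lib.JCompBasic.mem_of_coprime_of_mem_sup hRE hRp hx hc'
  · conv_lhs => rw [← hE.1]
    unfold pResidualOf pResidual
    rw [Subgroup.map_le_iff_le_comap, Subgroup.closure_le]
    rintro ⟨x, hx⟩ hc
    have hc' : (orderOf x).Coprime p := by
      have : orderOf (⟨x, hx⟩ : ↥E) = orderOf x := Subgroup.orderOf_mk x hx
      rw [← this]; exact hc
    refine ⟨⟨x, (le_sup_left : E ≤ E ⊔ pCore p G) hx⟩, Subgroup.subset_closure ?_, rfl⟩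
    show (orderOf (⟨x, _⟩ : ↥(E ⊔ pCore p G))).Coprime p
    rw [Subgroup.orderOf_mk]
    exact hc'

theorem comm_thompson_ne_bot (hG : Subgroup.centralizer (pCore p G : Set G) ≤ pCore p G) :
    ⁅⁅omegaOneCenter p (pCoreOf p E), E⁆, thompsonSubgroupOf p (S : Subgroup G)⁆ ≠ ⊥ := by
  rw [comm_W_eq S hE hG]
  intro hJ
  set Y : Subgroup G := ⁅E, omegaOneCenter p (pCore p G)⁆ with hY
  have hYV : Y ≤ omegaOneCenter p (pCore p G) := comm_V_le_V
  have hY2 : ⁅E, Y⁆ = Y := comm_comm_V S hE
  have hY3 : Y ≠ ⊥ := comm_V_ne_bot S hE hG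
  have hYea : IsElementaryAbelian p Y := ea_mono (omegaOneCenter_ea p _) hYV
  have hYT : Y ≤ (S : Subgroup G) :=
    hYV.trans ((omegaOneCenter_le p _).trans (Cfsg.Agent.Lib.PCore.pCore_le_sylow p S))
  have hYJc : ∀ y ∈ Y, ∀ j ∈ thompsonSubgroupOf p (S : Subgroup G), y * j = j * y := by
    intro y hy j hj
    have := Subgroup.commutator_mem_commutator hy hj
    rw [hJ, Subgroup.mem_bot, commutatorElement_eq_one_iff_mul_comm] at this
    exact this
  have hYA : ∀ A ∈ maxEAIn p (S : Subgroup G), Y ≤ A := by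
    intro A hA
    have hAJ := le_thompsonOf hA
    have h1 : IsElementaryAbelian p (A ⊔ Y) :=
      ea_sup hA.2.1 hYea fun a ha y hy => (hYJc y hy a (hAJ ha)).symm
    have h2 := hA.2.2 (A ⊔ Y) (sup_le hA.1 hYT) h1
    have h3 : A = A ⊔ Y := Subgroup.eq_of_le_of_card_ge le_sup_left h2
    rw [h3]; exact le_sup_right
  obtain ⟨A, hA⟩ := exists_mem_maxEAIn p (S : Subgroup G)
  have hYJ : Y ≤ thompsonSubgroupOf p (S : Subgroup G) := (hYA A hA).trans (le_thompsonOf hA)
  have hBY : ⁅baumannSubgroupOf p (S : Subgroup G), Y⁆ = ⊥ := by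
    rw [← le_bot_iff, Subgroup.commutator_le]
    intro b hb y hy
    have hyZ : y ∈ omegaOne p (centerThompsonOf p (S : Subgroup G)) := by
      refine mem_omegaOne ⟨hYJ hy, ?_⟩ (hYea.2 y hy)
      refine Subgroup.mem_centralizer_iff.mpr fun j hj => (hYJc y hy j hj).symm
    have := Subgroup.mem_centralizer_iff.mp hb.2 y hyZ
    rw [Subgroup.mem_bot, commutatorElement_def, ← this]
    group
  have h3 : ⁅⁅E, baumannSubgroupOf p (S : Subgroup G)⁆, Y⁆ = ⊥ := by
    apply Subgroup.commutator_commutator_eq_bot_of_rotate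
    · rw [hBY]; exact Subgroup.commutator_bot_left _
    · rw [Subgroup.commutator_comm Y E, hY2, Subgroup.commutator_comm, hBY]
  rw [hE.2.1] at h3
  apply hY3
  rw [← hY2, h3]

end main

end Cfsg.Agent.Lib.BauBlock2
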