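import Mathlib
import Cfsg.Prelude.Def_BaumannBlocks
import Cfsg.Agent.Lib.BauBlock2
import Cfsg.Agent.Lib.BauSchur
import Cfsg.Agent.Lib.PResid
import Cfsg.Agent.Lib.BrolineGT
import Cfsg.Agent.Lib.LocalCore

/-!
# Subnormal Baumann blocks: basic facts
-/

set_option autoImplicit false

open Cfsg
open scoped commutatorElement

namespace Cfsg.Agent.Lib.BauSub

open Cfsg.Agent.Lib.BauBlock Cfsg.Agent.Lib.BauBlock2 Cfsg.Agent.Lib.PLocalTools Cfsg.Agent.Lib.BauSchur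

variable {G : Type*} [Group G]

abbrev Qb (p : ℕ) (E : Subgroup G) : Subgroup G := pCoreOf p E
abbrev Wb (p : ℕ) (E : Subgroup G) : Subgroup G := omegaOneCenter p (pCoreOf p E)
abbrev Zb (p : ℕ) (E : Subgroup G) : Subgroup G :=
  omegaOneCenter p (pCoreOf p E) ⊓ Subgroup.centralizer (E : Set G)
abbrev Vb (p : ℕ) (G : Type*) [Group G] : Subgroup G := omegaOneCenter p (pCore p G)

/-- Elements normalizing `E` (elementwise). -/
theorem conj_mem_of_normalizer {E : Subgroup G} {g x : G} (hg : g ∈ Subgroup.normalizer (E : Set G))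
    (hx : x ∈ E) : g * x * g⁻¹ ∈ E := (Subgroup.mem_normalizer_iff.mp hg x).mp hx

theorem mem_normalizer_of_conj [Finite G] {E : Subgroup G} {g : G} (h : ∀ x ∈ E, g * x * g⁻¹ ∈ E) :
    g ∈ Subgroup.normalizer (E : Set G) := by
  rw [Subgroup.mem_normalizer_iff]
  intro x
  refine ⟨h x, fun hx => ?_⟩
  -- conjugation is injective on the finite `E`
  let f : E → E := fun y => ⟨g * y * g⁻¹, h y y.2⟩
  have hf : Function.Injective f := by
    intro a b hab
    have : g * (a : G) * g⁻¹ = g * (b : G) * g⁻¹ := congrArg Subtype.val hab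
    exact Subtype.ext (by simpa using this)
  obtain ⟨y, hy⟩ := Finite.injective_iff_surjective.mp hf ⟨g * x * g⁻¹, hx⟩
  have : g * (y : G) * g⁻¹ = g * x * g⁻¹ := congrArg Subtype.val hy
  have e : (y : G) = x := by simpa using this
  rw [← e]; exact y.2

/-- A coprime element whose commutator with `x` is fixed must commute with `x`. -/
theorem eq_one_of_fixed_comm {p : ℕ} [Fact p.Prime] {y x : G} (hy : (orderOf y).Coprime p)
    (hc : y * (y * x * y⁻¹ * x⁻¹) * y⁻¹ = y * x * y⁻¹ * x⁻¹)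
    {a : ℕ} (hpa : (y * x * y⁻¹ * x⁻¹) ^ p ^ a = 1) : y * x * y⁻¹ * x⁻¹ = 1 := by
  set c := y * x * y⁻¹ * x⁻¹ with hcdef
  have hstep : y * x * y⁻¹ = c * x := by rw [hcdef]; group
  have hn : ∀ n : ℕ, y ^ n * x * (y ^ n)⁻¹ = c ^ n * x := by
    intro n
    induction n with
    | zero => simp
    | succ n ih =>
      have hcn : y * c ^ n * y⁻¹ = c ^ n := by
        rw [← conj_pow, hc]
      calc y ^ (n + 1) * x * (y ^ (n + 1))⁻¹ = y * (y ^ n * x * (y ^ n)⁻¹) * y⁻¹ := by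
            rw [pow_succ']; group
        _ = y * (c ^ n * x) * y⁻¹ := by rw [ih]
        _ = (y * c ^ n * y⁻¹) * (y * x * y⁻¹) := by group
        _ = c ^ n * (c * x) := by rw [hcn, hstep]
        _ = c ^ (n + 1) * x := by rw [pow_succ]; group
  have h1 := hn (orderOf y)
  rw [pow_orderOf_eq_one] at h1
  simp only [one_mul, inv_one, mul_one] at h1
  have h2 : c ^ orderOf y = 1 := by
    have : c ^ orderOf y * x = x := h1.symm
    simpa using this
  have h3 : orderOf c ∣ p ^ a := orderOf_dvd_of_pow_eq_one hpa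
  have h4 : orderOf c ∣ orderOf y := orderOf_dvd_of_pow_eq_one h2
  have h5 : Nat.Coprime (orderOf c) (orderOf c) :=
    Nat.Coprime.coprime_dvd_left h4 (Nat.Coprime.coprime_dvd_right h3 (Nat.Coprime.pow_right a hy))
  exact orderOf_eq_one_iff.mp (Nat.coprime_self _ |>.mp h5)

/-- If every `p'`-element of `E` lies in `K` and `E = O^p(E)`, then `E ≤ K`. -/
theorem le_of_residual {p : ℕ} {E K : Subgroup G} (hE : pResidualOf p E = E)
    (h : ∀ x ∈ E, (orderOf x).Coprime p → x ∈ K) : E ≤ K := by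
  rw [← hE]
  unfold pResidualOf pResidual
  rw [Subgroup.map_le_iff_le_comap, Subgroup.closure_le]
  rintro ⟨x, hx⟩ hc
  have hc' : (orderOf x).Coprime p := by
    have : orderOf (⟨x, hx⟩ : ↥E) = orderOf x := Subgroup.orderOf_mk x hx
    rw [← this]; exact hc
  exact h x hx hc'

section facts

variable [Finite G] {p : ℕ} [Fact p.Prime] {T : Subgroup G} {E : Subgroup G}

theorem isP_of_mem_R {x : G} (hx : x ∈ pCore p G) : ∃ a : ℕ, x ^ p ^ a = 1 := by
  obtain ⟨a, ha⟩ := (Cfsg.Agent.Lib.PCore.isPGroup_pCore p (G := G)) ⟨x, hx⟩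
  exact ⟨a, by simpa using congrArg Subtype.val ha⟩

theorem Qb_eq (hEs : E.IsSubnormal) : Qb p E = E ⊓ pCore p G :=
  Cfsg.Agent.Lib.PResid.map_pCore_eq_of_isSubnormal hEs

theorem Qb_le_R (hEs : E.IsSubnormal) : Qb p E ≤ pCore p G := by
  rw [Qb_eq hEs]; exact inf_le_right

theorem Qb_le_E : Qb p E ≤ E := pCoreOf_le p E

theorem Wb_le_Q : Wb p E ≤ Qb p E := omegaOneCenter_le p _

theorem Zb_le_W : Zb p E ≤ Wb p E := inf_le_left

/-- `W` is central in `Q`. -/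
theorem W_comm_Q {a b : G} (ha : a ∈ Wb p E) (hb : b ∈ Qb p E) : a * b = b * a :=
  (Subgroup.mem_centralizer_iff.mp (omegaOneCenter_le_centralizer p _ ha) b hb).symm

theorem W_comm_W {a b : G} (ha : a ∈ Wb p E) (hb : b ∈ Wb p E) : a * b = b * a :=
  W_comm_Q ha (Wb_le_Q hb)

theorem W_pow {a : G} (ha : a ∈ Wb p E) : a ^ p = 1 := (omegaOneCenter_ea p _).2 a ha

theorem Z_comm_E {z e : G} (hz : z ∈ Zb p E) (he : e ∈ E) : e * z * e⁻¹ = z := by
  have := Subgroup.mem_centralizer_iff.mp hz.2 e he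
  rw [this]; group

theorem R_normal : (pCore p G).Normal := pCore_normal p G

theorem conj_R (g : G) {x : G} (hx : x ∈ pCore p G) : g * x * g⁻¹ ∈ pCore p G :=
  (R_normal (p := p) (G := G)).conj_mem x hx g

theorem conj_V (g : G) {x : G} (hx : x ∈ Vb p G) : g * x * g⁻¹ ∈ Vb p G :=
  (omegaCore_normal (G := G) p).conj_mem x hx g

theorem V_le_R : Vb p G ≤ pCore p G := omegaOneCenter_le p _

theorem V_comm_R {a b : G} (ha : a ∈ Vb p G) (hb : b ∈ pCore p G) : a * b = b * a :=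
  (Subgroup.mem_centralizer_iff.mp (omegaOneCenter_le_centralizer p _ ha) b hb).symm

theorem V_comm_V {a b : G} (ha : a ∈ Vb p G) (hb : b ∈ Vb p G) : a * b = b * a :=
  V_comm_R ha (V_le_R hb)

/-- An element of `R` centralizing `R` of order dividing `p` lies in `V`. -/
theorem mem_V {x : G} (hx : x ∈ pCore p G) (hc : ∀ r ∈ pCore p G, r * x = x * r) (hp : x ^ p = 1) :
    x ∈ Vb p G :=
  mem_omegaOne ⟨hx, Subgroup.mem_centralizer_iff.mpr (fun r hr => hc r hr)⟩ hp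

/-- Conjugation by an element normalizing `E` preserves `Q`. -/
theorem conj_Q (hEs : E.IsSubnormal) {g x : G} (hg : g ∈ Subgroup.normalizer (E : Set G))
    (hx : x ∈ Qb p E) : g * x * g⁻¹ ∈ Qb p E := by
  rw [Qb_eq hEs] at hx ⊢
  exact ⟨conj_mem_of_normalizer hg hx.1, conj_R g hx.2⟩

theorem normalizer_le_normalizer_Q (hEs : E.IsSubnormal) :
    Subgroup.normalizer (E : Set G) ≤ Subgroup.normalizer (Qb p E : Set G) := by
  intro g hg
  exact mem_normalizer_of_conj (fun x hx => conj_Q hEs hg hx)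

theorem conj_W (hEs : E.IsSubnormal) {g x : G} (hg : g ∈ Subgroup.normalizer (E : Set G))
    (hx : x ∈ Wb p E) : g * x * g⁻¹ ∈ Wb p E :=
  conj_mem_of_normalizer (normalizer_le_normalizer_omegaOneCenter p _ (normalizer_le_normalizer_Q hEs hg)) hx

theorem conj_Z (hEs : E.IsSubnormal) {g x : G} (hg : g ∈ Subgroup.normalizer (E : Set G))
    (hx : x ∈ Zb p E) : g * x * g⁻¹ ∈ Zb p E := by
  refine ⟨conj_W hEs hg hx.1, Subgroup.mem_centralizer_iff.mpr fun e he => ?_⟩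
  have h1 : g⁻¹ * e * g ∈ E := by
    have := conj_mem_of_normalizer (Subgroup.inv_mem _ hg) (x := e) he
    simpa using this
  have h2 := Subgroup.mem_centralizer_iff.mp hx.2 _ h1
  calc e * (g * x * g⁻¹) = g * ((g⁻¹ * e * g) * x) * g⁻¹ := by group
    _ = g * (x * (g⁻¹ * e * g)) * g⁻¹ := by rw [h2]
    _ = g * x * g⁻¹ * e := by group

theorem E_le_normalizer_W (hEs : E.IsSubnormal) : E ≤ Subgroup.normalizer (Wb p E : Set G) :=
  Subgroup.le_normalizer.trans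
    ((normalizer_le_normalizer_Q hEs).trans (normalizer_le_normalizer_omegaOneCenter p _))

theorem conj_Q_of_mem (hEs : E.IsSubnormal) {g x : G} (hg : g ∈ E) (hx : x ∈ Qb p E) :
    g * x * g⁻¹ ∈ Qb p E := conj_Q hEs (Subgroup.le_normalizer hg) hx

theorem conj_W_of_mem (hEs : E.IsSubnormal) {g x : G} (hg : g ∈ E) (hx : x ∈ Wb p E) :
    g * x * g⁻¹ ∈ Wb p E := conj_W hEs (Subgroup.le_normalizer hg) hx

variable (hE : IsBaumannBlock p T E) (hEs : E.IsSubnormal)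

include hE in
theorem irr_W {Y : Subgroup G} (hYU : Y ≤ Wb p E) (hEY : E ≤ Subgroup.normalizer (Y : Set G))
    (hY : ¬ Y ≤ Zb p E) : Wb p E ≤ Y ⊔ Zb p E := block_sec_W hE hYU hEY hY

/-- Exceptional block data. -/
structure ExcData (p : ℕ) (T E : Subgroup G) : Prop where
  p3 : p = 3
  irr : ∀ Y : Subgroup G, Y ≤ Qb p E → E ≤ Subgroup.normalizer (Y : Set G) → ¬ Y ≤ Wb p E →
    Qb p E ≤ Y ⊔ Wb p E
  comm : ⁅Qb p E, Qb p E⁆ = Zb p E
  cz : E ⊓ Subgroup.centralizer (E : Set G) = Zb p E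
  ne : Zb p E ≠ ⊥
  quad : ∀ b : G, b ∈ baumannSubgroupOf p T → b ∉ Subgroup.centralizer (Wb p E : Set G) →
    ¬ ⁅⁅Qb p E, Subgroup.zpowers b⁆, Subgroup.zpowers b⁆ ≤ E ⊓ Subgroup.centralizer (E : Set G)

include hE in
theorem block_dich : Qb p E = Wb p E ∨ ExcData p T E := by
  rcases hE.2.2.2.2 with ⟨F, _, _, n, hcard, _, _, h | ⟨hp3, h1, h2, _, h4, h5, hf⟩⟩ | ⟨_, m, _, _, h⟩
  · exact Or.inl h
  · refine Or.inr ⟨hp3, fun Y h₁ h₂ h₃ => Cfsg.Agent.Lib.BauSec.le_sup_of_sl2 h1 h₁ h₂ h₃, h2, h4, ?_, hf⟩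
    intro hbot
    have hne : n ≠ 0 := by
      rintro rfl
      rw [pow_zero] at hcard
      exact (Fintype.one_lt_card (α := F)).ne' hcard
    have hbot' : omegaOneCenter p (pCoreOf p E) ⊓ Subgroup.centralizer (E : Set G) = ⊥ := hbot
    rw [h4, hbot'] at h5
    simp only [Subgroup.card_bot] at h5
    have : 3 ^ n = 1 := h5.symm
    exact hne (by simpa using this)
  · exact Or.inl h

/-- `Q` is not abelian in the exceptional case. -/
theorem ExcData.not_abelian (hx : ExcData p T E) : ¬ ∀ a ∈ Qb p E, ∀ b ∈ Qb p E, a * b = b * a := by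
  intro hab
  apply hx.ne
  rw [← hx.comm, ← le_bot_iff, Subgroup.commutator_le]
  intro a ha b hb
  rw [Subgroup.mem_bot, commutatorElement_def, hab a ha b hb]
  group

/-! ### Sylow-free forms -/

variable (S : Sylow p G) (hS : IsBaumannBlock p (S : Subgroup G) E)

include hS in
theorem R_le_normalizer : pCore p G ≤ Subgroup.normalizer (E : Set G) := pCore_le_normalizer S hS

include hS in
theorem conj_E_of_R {r e : G} (hr : r ∈ pCore p G) (he : e ∈ E) : r * e * r⁻¹ ∈ E :=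
  conj_mem_of_normalizer (R_le_normalizer S hS hr) he

include hS hEs in
theorem comm_mem_Q {r e : G} (hr : r ∈ pCore p G) (he : e ∈ E) : e * r * e⁻¹ * r⁻¹ ∈ Qb p E := by
  rw [Qb_eq hEs]
  constructor
  · have h := conj_E_of_R S hS hr (E.inv_mem he)
    have e1 : e * r * e⁻¹ * r⁻¹ = e * (r * e⁻¹ * r⁻¹) := by group
    rw [e1]; exact E.mul_mem he h
  · exact (pCore p G).mul_mem (conj_R e hr) ((pCore p G).inv_mem hr)

include hS hEs in
theorem comm_mem_Q' {r e : G} (hr : r ∈ pCore p G) (he : e ∈ E) : r * e * r⁻¹ * e⁻¹ ∈ Qb p E := by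
  have h := (Qb p E).inv_mem (comm_mem_Q hEs S hS hr he)
  have e1 : (e * r * e⁻¹ * r⁻¹)⁻¹ = r * e * r⁻¹ * e⁻¹ := by group
  rwa [e1] at h


/-- Existence of a central element modulo `M`. -/
theorem exists_central_mod {P N M : Subgroup G} (hP : IsPGroup p P) (hNP : N ≤ P) (hMN : M ≤ N)
    (hN : ∀ r ∈ P, ∀ x ∈ N, r * x * r⁻¹ ∈ N) (hM : ∀ r ∈ P, ∀ x ∈ M, r * x * r⁻¹ ∈ M)
    (hne : ¬ N ≤ M) : ∃ x ∈ N, x ∉ M ∧ ∀ r ∈ P, r * x * r⁻¹ * x⁻¹ ∈ M := by
  classical
  let M' : Subgroup P := M.subgroupOf P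
  haveI hM'n : M'.Normal := ⟨fun a ha g => hM g g.2 a ha⟩
  let N' : Subgroup P := N.subgroupOf P
  haveI hN'n : N'.Normal := ⟨fun a ha g => hN g g.2 a ha⟩
  let Γ := P ⧸ M'
  let π : P →* Γ := QuotientGroup.mk' M'
  have hπ : Function.Surjective π := QuotientGroup.mk'_surjective M'
  haveI : Fact p.Prime := inferInstance
  have hΓ : IsPGroup p Γ := hP.to_quotient M'
  haveI : Group.IsNilpotent Γ := hΓ.isNilpotent
  let N₁ : Subgroup Γ := N'.map π
  haveI : N₁.Normal := Subgroup.Normal.map hN'n π hπ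
  have hN₁ : N₁ ≠ ⊥ := by
    intro hb
    apply hne
    intro x hx
    have h1 : π ⟨x, hNP hx⟩ ∈ N₁ := ⟨⟨x, hNP hx⟩, hx, rfl⟩
    rw [hb, Subgroup.mem_bot] at h1
    exact (QuotientGroup.eq_one_iff (N := M') (⟨x, hNP hx⟩ : P)).mp h1
  have h2 := Cfsg.Agent.Lib.BrolineGT.inf_center_ne_bot N₁ hN₁
  obtain ⟨c, hc, hc1⟩ := (Subgroup.bot_or_exists_ne_one _).resolve_left h2
  obtain ⟨⟨x, hxP⟩, hxN, rfl⟩ := hc.1
  refine ⟨x, hxN, ?_, ?_⟩
  · intro hxM
    apply hc1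
    exact (QuotientGroup.eq_one_iff (N := M') (⟨x, hxP⟩ : P)).mpr hxM
  · intro r hr
    have hcen := Subgroup.mem_center_iff.mp hc.2 (π ⟨r, hr⟩)
    have h3 : π (⟨r, hr⟩ * ⟨x, hxP⟩ * (⟨r, hr⟩ : P)⁻¹ * (⟨x, hxP⟩ : P)⁻¹) = 1 := by
      rw [map_mul, map_mul, map_mul, map_inv, map_inv, hcen]
      group
    exact (QuotientGroup.eq_one_iff (N := M') _).mp h3

include hS hEs in
/-- `R` acts trivially on `Q / W`. -/
theorem comm_R_Q_mem_W {r a : G} (hr : r ∈ pCore p G)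
    (ha : a ∈ Qb p E) : r * a * r⁻¹ * a⁻¹ ∈ Wb p E := by
  have hrn := R_le_normalizer S hS hr
  rcases block_dich hS with h | hx
  · have h1 : r * a * r⁻¹ ∈ Qb p E := conj_Q hEs hrn ha
    have h2 : r * a * r⁻¹ * a⁻¹ ∈ Qb p E := (Qb p E).mul_mem h1 ((Qb p E).inv_mem ha)
    rw [h] at h2
    exact h2
  · -- the subgroup of elements with the property
    let Y : Subgroup G :=
      { carrier := {x | x ∈ Qb p E ∧ ∀ r ∈ pCore p G, r * x * r⁻¹ * x⁻¹ ∈ Wb p E}
        one_mem' := ⟨Subgroup.one_mem _, fun r _ => by simp [Subgroup.one_mem]⟩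
        mul_mem' := by
          rintro a b ⟨ha, ha'⟩ ⟨hb, hb'⟩
          refine ⟨Subgroup.mul_mem _ ha hb, fun r hr => ?_⟩
          have e1 : r * (a * b) * r⁻¹ * (a * b)⁻¹ =
              (r * a * r⁻¹ * a⁻¹) * (a * (r * b * r⁻¹ * b⁻¹) * a⁻¹) := by group
          rw [e1]
          exact (Wb p E).mul_mem (ha' r hr) (conj_W_of_mem hEs (Qb_le_E ha) (hb' r hr))
        inv_mem' := by
          rintro a ⟨ha, ha'⟩
          refine ⟨Subgroup.inv_mem _ ha, fun r hr => ?_⟩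
          have e1 : r * a⁻¹ * r⁻¹ * a = a⁻¹ * (r * a * r⁻¹ * a⁻¹)⁻¹ * a := by group
          have h2 := conj_W_of_mem hEs (E.inv_mem (Qb_le_E ha)) ((Wb p E).inv_mem (ha' r hr))
          simp only [inv_inv] at h2 ⊢
          rw [e1]
          simpa using h2 }
    have hYQ : Y ≤ Qb p E := fun x hx => hx.1
    have hEY : E ≤ Subgroup.normalizer (Y : Set G) := by
      intro e he
      refine mem_normalizer_of_conj fun x hx => ⟨conj_Q_of_mem hEs he hx.1, fun r hr => ?_⟩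
      have hr' : e⁻¹ * r * e ∈ pCore p G := by
        have := conj_R (p := p) e⁻¹ hr
        simpa using this
      have h1 := conj_W_of_mem hEs he (hx.2 _ hr')
      have e1 : e * ((e⁻¹ * r * e) * x * (e⁻¹ * r * e)⁻¹ * x⁻¹) * e⁻¹ =
          r * (e * x * e⁻¹) * r⁻¹ * (e * x * e⁻¹)⁻¹ := by group
      rwa [e1] at h1
    have hYW : ¬ Y ≤ Wb p E := by
      have hnotle : ¬ Qb p E ≤ Wb p E := by
        intro hle
        apply hx.not_abelian
        intro a ha b hb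
        exact W_comm_Q (hle ha) hb
      obtain ⟨x, hxQ, hxW, hxc⟩ := exists_central_mod (p := p) (Cfsg.Agent.Lib.PCore.isPGroup_pCore p (G := G))
        (Qb_le_R hEs) Wb_le_Q
        (fun r hr x hx => conj_Q hEs (R_le_normalizer S hS hr) hx)
        (fun r hr x hx => conj_W hEs (R_le_normalizer S hS hr) hx) hnotle
      intro hle
      exact hxW (hle ⟨hxQ, hxc⟩)
    have h3 := hx.irr Y hYQ hEY hYW
    have h4 : Y ⊔ Wb p E ≤ Y := by
      refine sup_le le_rfl fun w hw => ⟨Wb_le_Q hw, fun r hr => ?_⟩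
      have h5 := conj_W hEs (R_le_normalizer S hS hr) hw
      exact (Wb p E).mul_mem h5 ((Wb p E).inv_mem hw)
    exact (h4 (h3 ha)).2 r hr

include hS hEs in
/-- `P = [W, E] ≤ V`, `P ≰ Z`. -/
theorem P_not_le_Z (hG : Subgroup.centralizer (pCore p G : Set G) ≤ pCore p G) :
    ¬ (⁅Wb p E, E⁆ : Subgroup G) ≤ Zb p E := by
  intro hc
  have hY3 := comm_V_ne_bot S hS hG
  apply hY3
  rw [← comm_comm_V S hS, ← comm_W_eq S hS hG, ← le_bot_iff, Subgroup.commutator_le]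
  intro e he y hy
  have := Subgroup.mem_centralizer_iff.mp (hc hy).2 e he
  rw [Subgroup.mem_bot, commutatorElement_def, this]
  group

include hS in
theorem P_le_V (hG : Subgroup.centralizer (pCore p G : Set G) ≤ pCore p G) :
    (⁅Wb p E, E⁆ : Subgroup G) ≤ Vb p G := by
  rw [comm_W_eq S hS hG]; exact comm_V_le_V

include hEs in
theorem P_le_W : (⁅Wb p E, E⁆ : Subgroup G) ≤ Wb p E := by
  rw [Subgroup.commutator_le]
  intro w hw e he
  have e1 : ⁅w, e⁆ = w * (e * w⁻¹ * e⁻¹) := by rw [commutatorElement_def]; group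
  rw [e1]
  exact (Wb p E).mul_mem hw (conj_W_of_mem hEs he ((Wb p E).inv_mem hw))

include hS hEs in
theorem W_le_P_sup_Z (hG : Subgroup.centralizer (pCore p G : Set G) ≤ pCore p G) :
    Wb p E ≤ ⁅Wb p E, E⁆ ⊔ Zb p E :=
  irr_W hS (P_le_W hEs) (le_normalizer_comm_right _ _) (P_not_le_Z hEs S hS hG)

/-- Elements of the sup of two commuting subgroups of `W`. -/
theorem mem_sup_W {A B : Subgroup G} (hA : A ≤ Wb p E) (hB : B ≤ Wb p E) {x : G} (hx : x ∈ A ⊔ B) :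
    ∃ a ∈ A, ∃ b ∈ B, x = a * b := by
  have hc : ⁅A, B⁆ = ⊥ := by
    rw [← le_bot_iff, Subgroup.commutator_le]
    intro a ha b hb
    rw [Subgroup.mem_bot, commutatorElement_def, W_comm_W (hA ha) (hB hb)]
    group
  exact Cfsg.Agent.Lib.LocalCore.mem_sup_of_commute hc hx

include hS hEs in
/-- `W ≤ V`. -/
theorem W_le_V (hG : Subgroup.centralizer (pCore p G : Set G) ≤ pCore p G) : Wb p E ≤ Vb p G := by
  rcases block_dich hS with h | hx
  · have h1 : (⁅Wb p E, E⁆ : Subgroup G) = Wb p E := by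
      have h2 : (⁅Qb p E, E⁆ : Subgroup G) = Qb p E := hS.2.2.1
      rw [h] at h2
      exact h2
    rw [← h1]
    exact P_le_V S hS hG
  · refine (W_le_P_sup_Z hEs S hS hG).trans (sup_le (P_le_V S hS hG) ?_)
    intro z hz
    have hzW := hz.1
    refine mem_V (Qb_le_R hEs (Wb_le_Q hzW)) (fun r hr => ?_) (W_pow hzW)
    have hz2 : z ∈ (⁅Qb p E, Qb p E⁆ : Subgroup G) := by rw [hx.comm]; exact hz
    have hcomm : (⁅Qb p E, Qb p E⁆ : Subgroup G) ≤ Subgroup.centralizer ({r} : Set G) := by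
      rw [Subgroup.commutator_le]
      intro a ha b hb
      rw [Subgroup.mem_centralizer_singleton_iff]
      have h1 := comm_R_Q_mem_W hEs S hS hr ha
      have h2 := comm_R_Q_mem_W hEs S hS hr hb
      set w₁ := r * a * r⁻¹ * a⁻¹ with hw₁
      set w₂ := r * b * r⁻¹ * b⁻¹ with hw₂
      have ea : r * a * r⁻¹ = w₁ * a := by rw [hw₁]; group
      have eb : r * b * r⁻¹ = w₂ * b := by rw [hw₂]; group
      have ha1 : a * w₂ = w₂ * a := (W_comm_Q h2 ha).symm
      have hb1 : b * w₁ = w₁ * b := (W_comm_Q h1 hb).symm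
      have hw : w₁ * w₂ = w₂ * w₁ := W_comm_W h1 h2
      have key : r * ⁅a, b⁆ * r⁻¹ = ⁅a, b⁆ := by
        have e1 : r * ⁅a, b⁆ * r⁻¹ = ⁅r * a * r⁻¹, r * b * r⁻¹⁆ := by
          simp only [commutatorElement_def]; group
        rw [e1, ea, eb]
        simp only [commutatorElement_def]
        have e2 : w₁ * a * (w₂ * b) * (w₁ * a)⁻¹ * (w₂ * b)⁻¹ = w₁ * (a * w₂) * b * a⁻¹ * w₁⁻¹ * b⁻¹ * w₂⁻¹ := by group
        rw [e2, ha1]
        have e3 : w₁ * (w₂ * a) * b * a⁻¹ * w₁⁻¹ * b⁻¹ * w₂⁻¹ = w₁ * w₂ * (a * b * a⁻¹) * w₁⁻¹ * b⁻¹ * w₂⁻¹ := by group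
        rw [e3]
        have hab : (a * b * a⁻¹) * w₁⁻¹ = w₁⁻¹ * (a * b * a⁻¹) := by
          have h3 := W_comm_Q ((Wb p E).inv_mem h1) ((Qb p E).mul_mem ((Qb p E).mul_mem ha hb) ((Qb p E).inv_mem ha))
          exact h3.symm
        have e4 : w₁ * w₂ * (a * b * a⁻¹) * w₁⁻¹ * b⁻¹ * w₂⁻¹ = w₁ * w₂ * ((a * b * a⁻¹) * w₁⁻¹) * b⁻¹ * w₂⁻¹ := by group
        rw [e4, hab]
        have e5 : w₁ * w₂ * (w₁⁻¹ * (a * b * a⁻¹)) * b⁻¹ * w₂⁻¹ = (w₁ * w₂ * w₁⁻¹) * (a * b * a⁻¹ * b⁻¹) * w₂⁻¹ := by group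
        rw [e5]
        have hw' : w₁ * w₂ * w₁⁻¹ = w₂ := by rw [hw]; group
        rw [hw']
        have h4 : w₂ * (a * b * a⁻¹ * b⁻¹) = (a * b * a⁻¹ * b⁻¹) * w₂ :=
          W_comm_Q h2 ((Qb p E).mul_mem ((Qb p E).mul_mem ((Qb p E).mul_mem ha hb) ((Qb p E).inv_mem ha)) ((Qb p E).inv_mem hb))
        rw [h4]
        group
      have : r * ⁅a, b⁆ = ⁅a, b⁆ * r := by
        calc r * ⁅a, b⁆ = r * ⁅a, b⁆ * r⁻¹ * r := by group
          _ = ⁅a, b⁆ * r := by rw [key]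
      exact this.symm
    exact (Subgroup.mem_centralizer_singleton_iff.mp (hcomm hz2)).symm

end facts

end Cfsg.Agent.Lib.BauSub
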