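import Mathlib
import Cfsg.Agent.Lib.BauSub1

/-!
# Subnormal Baumann blocks commuting modulo `O_p(G)`
-/

set_option autoImplicit false

open Cfsg
open scoped commutatorElement

namespace Cfsg.Agent.Lib.BauSub

open Cfsg.Agent.Lib.BauBlock Cfsg.Agent.Lib.BauBlock2 Cfsg.Agent.Lib.PLocalTools Cfsg.Agent.Lib.BauSchur

variable {G : Type*} [Group G]

theorem conj_mem_comm {A B : Subgroup G} {g x : G} (hA : ∀ a ∈ A, g * a * g⁻¹ ∈ A) (hB : ∀ b ∈ B, g * b * g⁻¹ ∈ B)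
    (hx : x ∈ (⁅A, B⁆ : Subgroup G)) : g * x * g⁻¹ ∈ (⁅A, B⁆ : Subgroup G) := by
  have h : (⁅A, B⁆ : Subgroup G) ≤ (⁅A, B⁆ : Subgroup G).comap (MulAut.conj g).toMonoidHom := by
    rw [Subgroup.commutator_le]
    intro a ha b hb
    change g * ⁅a, b⁆ * g⁻¹ ∈ (⁅A, B⁆ : Subgroup G)
    have e : g * ⁅a, b⁆ * g⁻¹ = ⁅g * a * g⁻¹, g * b * g⁻¹⁆ := by
      simp only [commutatorElement_def]; group
    rw [e]
    exact Subgroup.commutator_mem_commutator (hA a ha) (hB b hb)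
  exact h hx

/-- The subgroup of elements normalizing `U`, `U₀` and acting trivially on `U / U₀`. -/
def secKer (U U₀ : Subgroup G) : Subgroup G where
  carrier := {g | g ∈ Subgroup.normalizer (U : Set G) ∧ g ∈ Subgroup.normalizer (U₀ : Set G) ∧
    ∀ u ∈ U, u⁻¹ * (g * u * g⁻¹) ∈ U₀}
  one_mem' := ⟨Subgroup.one_mem _, Subgroup.one_mem _, fun u _ => by simp [Subgroup.one_mem]⟩
  mul_mem' := by
    rintro a b ⟨ha1, ha2, ha3⟩ ⟨hb1, hb2, hb3⟩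
    refine ⟨Subgroup.mul_mem _ ha1 hb1, Subgroup.mul_mem _ ha2 hb2, fun u hu => ?_⟩
    have h1 := hb3 u hu
    have e : u⁻¹ * (a * b * u * (a * b)⁻¹) =
        (u⁻¹ * (a * u * a⁻¹)) * (a * (u⁻¹ * (b * u * b⁻¹)) * a⁻¹) := by group
    rw [e]
    exact U₀.mul_mem (ha3 u hu) (conj_mem_of_normalizer ha2 h1)
  inv_mem' := by
    rintro a ⟨ha1, ha2, ha3⟩
    refine ⟨Subgroup.inv_mem _ ha1, Subgroup.inv_mem _ ha2, fun u hu => ?_⟩
    have hu' : a⁻¹ * u * a⁻¹⁻¹ ∈ U := conj_mem_of_normalizer (Subgroup.inv_mem _ ha1) hu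
    have h1 := U₀.inv_mem (ha3 _ hu')
    have e : u⁻¹ * (a⁻¹ * u * a⁻¹⁻¹) = ((a⁻¹ * u * a⁻¹⁻¹)⁻¹ * (a * (a⁻¹ * u * a⁻¹⁻¹) * a⁻¹))⁻¹ := by group
    rw [e]
    exact h1

/-- Commutators lie in `secKer` as soon as the actions commute. -/
theorem comm_mem_secKer {U U₀ : Subgroup G} {a b : G}
    (ha1 : a ∈ Subgroup.normalizer (U : Set G)) (ha2 : a ∈ Subgroup.normalizer (U₀ : Set G))
    (hb1 : b ∈ Subgroup.normalizer (U : Set G)) (hb2 : b ∈ Subgroup.normalizer (U₀ : Set G))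
    (h : ∀ u ∈ U, (a * (b * u * b⁻¹) * a⁻¹)⁻¹ * (b * (a * u * a⁻¹) * b⁻¹) ∈ U₀) : ⁅a, b⁆ ∈ secKer U U₀ := by
  rw [commutatorElement_def]
  refine ⟨Subgroup.mul_mem _ (Subgroup.mul_mem _ (Subgroup.mul_mem _ ha1 hb1) (Subgroup.inv_mem _ ha1)) (Subgroup.inv_mem _ hb1),
    Subgroup.mul_mem _ (Subgroup.mul_mem _ (Subgroup.mul_mem _ ha2 hb2) (Subgroup.inv_mem _ ha2)) (Subgroup.inv_mem _ hb2),
    fun u hu => ?_⟩
  have hv : (b * a)⁻¹ * u * (b * a)⁻¹⁻¹ ∈ U := by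
    refine conj_mem_of_normalizer (Subgroup.inv_mem _ (Subgroup.mul_mem _ hb1 ha1)) hu
  have h1 := U₀.inv_mem (h _ hv)
  have e : u⁻¹ * (a * b * a⁻¹ * b⁻¹ * u * (a * b * a⁻¹ * b⁻¹)⁻¹) =
      ((a * (b * ((b * a)⁻¹ * u * (b * a)⁻¹⁻¹) * b⁻¹) * a⁻¹)⁻¹ *
        (b * (a * ((b * a)⁻¹ * u * (b * a)⁻¹⁻¹) * a⁻¹) * b⁻¹))⁻¹ := by group
  rw [e]
  exact h1

section main

variable [Finite G] {p : ℕ} [Fact p.Prime] {E F : Subgroup G}
  (S₁ S₂ : Sylow p G) (hE : IsBaumannBlock p (S₁ : Subgroup G) E) (hF : IsBaumannBlock p (S₂ : Subgroup G) F)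
  (hEs : E.IsSubnormal) (hFs : F.IsSubnormal)
  (hG : Subgroup.centralizer (pCore p G : Set G) ≤ pCore p G)

include hE in
/-- `[E, F] ≤ R` implies `F ≤ N(E)`. -/
theorem le_norm_of_comm (hc : ⁅E, F⁆ ≤ pCore p G) : F ≤ Subgroup.normalizer (E : Set G) := by
  intro f hf
  refine mem_normalizer_of_conj ?_
  have key : E ≤ E.comap (MulAut.conj f).toMonoidHom := by
    refine le_of_residual hE.1 fun e he hco => ?_
    change f * e * f⁻¹ ∈ E
    have h1 : ⁅e, f⁆ ∈ pCore p G := hc (Subgroup.commutator_mem_commutator he hf)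
    have e1 : f * e * f⁻¹ = (⁅e, f⁆)⁻¹ * e := by rw [commutatorElement_def]; group
    have h2 : f * e * f⁻¹ ∈ E ⊔ pCore p G := by
      rw [e1]
      exact Subgroup.mul_mem _ (Subgroup.mem_sup_right (Subgroup.inv_mem _ h1)) (Subgroup.mem_sup_left he)
    have hco' : (orderOf (f * e * f⁻¹)).Coprime p := by
      have : orderOf (f * e * f⁻¹) = orderOf e := by
        have := orderOf_injective (MulAut.conj f).toMonoidHom (MulAut.conj f).injective e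
        exact this
      rw [this]; exact hco
    exact Cfsg.Agent.Lib.JCompBasic.mem_of_coprime_of_mem_sup (R_le_normalizer S₁ hE)
      (Cfsg.Agent.Lib.PCore.isPGroup_pCore p) h2 hco'
  exact fun x hx => key hx

include hE hEs in
/-- Elements of `F` and `E` have commutators in `Q_E`. -/
theorem comm_mem_QE (hc : ⁅E, F⁆ ≤ pCore p G) {y e : G} (hy : y ∈ F) (he : e ∈ E) :
    y * e * y⁻¹ * e⁻¹ ∈ Qb p E := by
  rw [Qb_eq hEs]
  refine ⟨E.mul_mem (conj_mem_of_normalizer (le_norm_of_comm S₁ hE hc hy) he) (E.inv_mem he), ?_⟩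
  have h1 : ⁅e, y⁆ ∈ pCore p G := hc (Subgroup.commutator_mem_commutator he hy)
  have e1 : y * e * y⁻¹ * e⁻¹ = (⁅e, y⁆)⁻¹ := by rw [commutatorElement_def]; group
  rw [e1]
  exact Subgroup.inv_mem _ h1

include hE hEs in
/-- The action of `F` on `W_E` commutes with that of `E`. -/
theorem act_comm_W (hc : ⁅E, F⁆ ≤ pCore p G) {y e w : G} (hy : y ∈ F) (he : e ∈ E) (hw : w ∈ Wb p E) :
    y * (e * w * e⁻¹) * y⁻¹ = e * (y * w * y⁻¹) * e⁻¹ := by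
  have hq := comm_mem_QE S₁ hE hEs hc hy he
  set q := y * e * y⁻¹ * e⁻¹ with hqdef
  have hw' : y * w * y⁻¹ ∈ Wb p E := conj_W hEs (le_norm_of_comm S₁ hE hc hy) hw
  have hw'' : e * (y * w * y⁻¹) * e⁻¹ ∈ Wb p E := conj_W_of_mem hEs he hw'
  have e1 : y * (e * w * e⁻¹) * y⁻¹ = q * (e * (y * w * y⁻¹) * e⁻¹) * q⁻¹ := by
    rw [hqdef]; group
  rw [e1, (W_comm_Q hw'' hq).symm]
  group

include hE hEs hG in
theorem Z_ne_W : Zb p E ≠ Wb p E := by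
  intro h
  apply P_not_le_Z hEs S₁ hE hG
  rw [h]
  exact P_le_W hEs

include hE hEs hG in
/-- Schur's lemma on `W_E / Z_E`, for elements of `F`. -/
theorem schur_W (hc : ⁅E, F⁆ ≤ pCore p G) {y₁ y₂ u : G} (h₁ : y₁ ∈ F) (h₂ : y₂ ∈ F) (hu : u ∈ Wb p E) :
    (y₁ * (y₂ * u * y₂⁻¹) * y₁⁻¹)⁻¹ * (y₂ * (y₁ * u * y₁⁻¹) * y₂⁻¹) ∈ Zb p E := by
  have hs : SecData (Wb p E) (Zb p E) :=
    ⟨Zb_le_W, fun u hu v hv => by
      rw [W_comm_W hu (Zb_le_W hv)]; simpa using hv,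
     fun a ha b hb => by
      rw [W_comm_W ha hb]; simp [Subgroup.one_mem]⟩
  have hNE : ∀ e ∈ E, NormSec (Wb p E) (Zb p E) e := fun e he =>
    ⟨fun u hu => conj_W_of_mem hEs he hu, fun u hu => conj_Z hEs (Subgroup.le_normalizer he) hu⟩
  have hNF : F ≤ Subgroup.normalizer (E : Set G) := le_norm_of_comm S₁ hE hc
  have hNy : ∀ y ∈ F, NormSec (Wb p E) (Zb p E) y := fun y hy =>
    ⟨fun u hu => conj_W hEs (hNF hy) hu, fun u hu => conj_Z hEs (hNF hy) hu⟩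
  refine section_comm hs (E : Set G) hNE ?_ (Z_ne_W S₁ hE hEs hG) (hNy y₁ h₁) (hNy y₂ h₂) ?_ ?_ hu
  · intro Y hY1 hY2 hY3
    by_cases hle : Y ≤ Zb p E
    · exact Or.inl (le_antisymm hle hY2)
    · refine Or.inr (le_antisymm hY1 ?_)
      have := irr_W hE hY1 (fun e he => mem_normalizer_of_conj (hY3 e he)) hle
      rwa [sup_eq_left.mpr hY2] at this
  · intro e he u hu
    rw [act_comm_W S₁ hE hEs hc h₁ he hu, inv_mul_cancel]
    exact Subgroup.one_mem _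
  · intro e he u hu
    rw [act_comm_W S₁ hE hEs hc h₂ he hu, inv_mul_cancel]
    exact Subgroup.one_mem _

include hE hEs hG in
/-- The derived group of `F` acts trivially on `W_E / Z_E`. -/
theorem derived_le_secKer_W (hc : ⁅E, F⁆ ≤ pCore p G) : ⁅F, F⁆ ≤ secKer (Wb p E) (Zb p E) := by
  have hNF : F ≤ Subgroup.normalizer (E : Set G) := le_norm_of_comm S₁ hE hc
  have hnW : ∀ y ∈ F, y ∈ Subgroup.normalizer (Wb p E : Set G) := fun y hy =>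
    mem_normalizer_of_conj fun u hu => conj_W hEs (hNF hy) hu
  have hnZ : ∀ y ∈ F, y ∈ Subgroup.normalizer (Zb p E : Set G) := fun y hy =>
    mem_normalizer_of_conj fun u hu => conj_Z hEs (hNF hy) hu
  rw [Subgroup.commutator_le]
  intro a ha b hb
  exact comm_mem_secKer (hnW a ha) (hnZ a ha) (hnW b hb) (hnZ b hb)
    fun u hu => schur_W S₁ hE hEs hG hc ha hb hu

/-- `F` is not of order-three type: its derived group acts nontrivially on `W_F / Z_F`. -/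
def NotC3 (p : ℕ) (F : Subgroup G) : Prop :=
  ∃ f ∈ (⁅F, F⁆ : Subgroup G), ∃ u ∈ Wb p F, u⁻¹ * (f * u * f⁻¹) ∉ Zb p F

include hE hF hEs hFs hG in
theorem Y_le_WF : (⁅F, Wb p E⁆ : Subgroup G) ≤ Wb p F := by
  rw [Subgroup.commutator_le]
  intro f hf w hw
  have hwV := W_le_V hEs S₁ hE hG hw
  have h1 : ⁅f, w⁆ ∈ Qb p F := by
    have := comm_mem_Q hFs S₂ hF (V_le_R hwV) hf
    simpa [commutatorElement_def] using this
  have h2 : ⁅f, w⁆ ∈ Vb p G := by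
    rw [commutatorElement_def]
    exact (Vb p G).mul_mem (conj_V f hwV) ((Vb p G).inv_mem hwV)
  refine mem_omegaOne ⟨h1, Subgroup.mem_centralizer_iff.mpr fun q hq => ?_⟩ ?_
  · exact (V_comm_R h2 (Qb_le_R hFs hq)).symm
  · exact (omegaOneCenter_ea p _).2 _ h2

include hE hEs in
theorem Y_le_WE (hc : ⁅E, F⁆ ≤ pCore p G) : (⁅F, Wb p E⁆ : Subgroup G) ≤ Wb p E := by
  rw [Subgroup.commutator_le]
  intro f hf w hw
  rw [commutatorElement_def]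
  exact (Wb p E).mul_mem (conj_W hEs (le_norm_of_comm S₁ hE hc hf) hw) ((Wb p E).inv_mem hw)

include hE hF hEs hFs in
theorem E_norm_Y (hc : ⁅E, F⁆ ≤ pCore p G) :
    E ≤ Subgroup.normalizer ((⁅F, Wb p E⁆ : Subgroup G) : Set G) := by
  have hc' : ⁅F, E⁆ ≤ pCore p G := by rw [Subgroup.commutator_comm]; exact hc
  intro e he
  refine mem_normalizer_of_conj fun x hx => conj_mem_comm ?_ ?_ hx
  · intro a ha
    exact conj_mem_of_normalizer (le_norm_of_comm S₂ hF hc' he) ha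
  · intro a ha
    exact conj_W_of_mem hEs he ha

include hE hF hEs hFs hG in
/-- If `Y = [F, W_E]` lies in `Z_F` then `F` centralizes `W_E`. -/
theorem not_Y_le_ZF (hc : ⁅E, F⁆ ≤ pCore p G) (hY : ¬ (⁅F, Wb p E⁆ : Subgroup G) ≤ Zb p E) :
    ¬ (⁅F, Wb p E⁆ : Subgroup G) ≤ Zb p F := by
  intro hle
  apply hY
  have hFC : F ≤ Subgroup.centralizer (Wb p E : Set G) := by
    refine le_of_residual hF.1 fun y hy hco => ?_
    refine Subgroup.mem_centralizer_iff.mpr fun w hw => ?_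
    have h1 : ⁅y, w⁆ ∈ Zb p F := hle (Subgroup.commutator_mem_commutator hy hw)
    have h2 : y * ⁅y, w⁆ * y⁻¹ = ⁅y, w⁆ := Z_comm_E h1 hy
    obtain ⟨a, ha⟩ := isP_of_mem_R (p := p) (Qb_le_R hFs (Wb_le_Q h1.1))
    have h3 := eq_one_of_fixed_comm (p := p) hco (by simpa [commutatorElement_def] using h2)
      (a := a) (by simpa [commutatorElement_def] using ha)
    have h4 : y * w * y⁻¹ = w := by
      have : y * w * y⁻¹ * w⁻¹ * w = w := by rw [h3]; simp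
      simpa using this
    calc w * y = y * w * y⁻¹ * y := by rw [h4]
      _ = y * w := by group
  rw [Subgroup.commutator_le]
  intro f hf w hw
  have := Subgroup.mem_centralizer_iff.mp (hFC hf) w hw
  rw [commutatorElement_def, ← this]
  simp [Subgroup.one_mem]

include hE hF hEs hFs hG in
/-- **Main lemma**: if `F` is not of order-three type, `[F, W_E] ≤ Z_E`. -/
theorem Y_le_Z (hc : ⁅E, F⁆ ≤ pCore p G) (hn : NotC3 p F) : (⁅F, Wb p E⁆ : Subgroup G) ≤ Zb p E := by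
  by_contra hY
  have hYWF := Y_le_WF S₁ S₂ hE hF hEs hFs hG
  have hYWE := Y_le_WE S₁ hE hEs hc
  have hYZF := not_Y_le_ZF S₁ S₂ hE hF hEs hFs hG hc hY
  have hW1 : Wb p E ≤ ⁅F, Wb p E⁆ ⊔ Zb p E :=
    irr_W hE hYWE (E_norm_Y S₁ S₂ hE hF hEs hFs hc) hY
  have hW2 : Wb p F ≤ ⁅F, Wb p E⁆ ⊔ Zb p F :=
    irr_W hF hYWF (le_normalizer_comm_left _ _) hYZF
  have hNF : F ≤ Subgroup.normalizer (E : Set G) := le_norm_of_comm S₁ hE hc
  have hD := derived_le_secKer_W S₁ hE hEs hG hc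
  -- `[F', W_F] ≤ Z_E`
  have hX : (⁅(⁅F, F⁆ : Subgroup G), Wb p F⁆ : Subgroup G) ≤ Zb p E := by
    rw [Subgroup.commutator_le]
    intro f hf u hu
    obtain ⟨y, hy, ζ, hζ, rfl⟩ := mem_sup_W hYWF Zb_le_W (hW2 hu)
    have hfF : f ∈ F := (Cfsg.Agent.Lib.LocalCore.commutator_self_le F) hf
    have h1 : y⁻¹ * (f * y * f⁻¹) ∈ Zb p E := (hD hf).2.2 y (hYWE hy)
    have h2 : f * ζ * f⁻¹ = ζ := Z_comm_E hζ hfF
    have hyW : f * y * f⁻¹ ∈ Wb p F := conj_W_of_mem hFs hfF (hYWF hy)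
    have e1 : ⁅f, y * ζ⁆ = f * y * f⁻¹ * y⁻¹ := by
      rw [commutatorElement_def]
      have e2 : f * (y * ζ) * f⁻¹ = (f * y * f⁻¹) * (f * ζ * f⁻¹) := by group
      rw [e2, h2]
      have e3 : ζ * (y * ζ)⁻¹ = y⁻¹ := by
        rw [mul_inv_rev]; group
      rw [mul_assoc, e3]
    rw [e1]
    have e4 : f * y * f⁻¹ * y⁻¹ = y⁻¹ * (f * y * f⁻¹) := W_comm_W hyW ((Wb p F).inv_mem (hYWF hy))
    rw [e4]
    exact h1
  obtain ⟨f₀, hf₀, u₀, hu₀, hne⟩ := hn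
  have hXW : (⁅(⁅F, F⁆ : Subgroup G), Wb p F⁆ : Subgroup G) ≤ Wb p F := by
    rw [Subgroup.commutator_le]
    intro f hf u hu
    rw [commutatorElement_def]
    exact (Wb p F).mul_mem (conj_W_of_mem hFs ((Cfsg.Agent.Lib.LocalCore.commutator_self_le F) hf) hu) ((Wb p F).inv_mem hu)
  have hXnorm : F ≤ Subgroup.normalizer ((⁅(⁅F, F⁆ : Subgroup G), Wb p F⁆ : Subgroup G) : Set G) := by
    intro f hf
    refine mem_normalizer_of_conj fun x hx => conj_mem_comm ?_ ?_ hx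
    · intro a ha
      exact conj_mem_comm (fun b hb => F.mul_mem (F.mul_mem hf hb) (F.inv_mem hf))
        (fun b hb => F.mul_mem (F.mul_mem hf hb) (F.inv_mem hf)) ha
    · intro a ha
      exact conj_W_of_mem hFs hf ha
  have hXZ : ¬ (⁅(⁅F, F⁆ : Subgroup G), Wb p F⁆ : Subgroup G) ≤ Zb p F := by
    intro hle
    apply hne
    have h1 : ⁅f₀, u₀⁆ ∈ Zb p F := hle (Subgroup.commutator_mem_commutator hf₀ hu₀)
    have e : u₀⁻¹ * (f₀ * u₀ * f₀⁻¹) = ⁅f₀, u₀⁆ := by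
      rw [commutatorElement_def]
      exact W_comm_W ((Wb p F).inv_mem hu₀) (conj_W_of_mem hFs ((Cfsg.Agent.Lib.LocalCore.commutator_self_le F) hf₀) hu₀)
    rw [e]; exact h1
  have hW3 := irr_W hF hXW hXnorm hXZ
  -- every element of `W_E` is a product of elements of `Z_E` and `Z_F`
  apply hY
  rw [Subgroup.commutator_le]
  intro f hf w hw
  obtain ⟨y, hy, ζ₀, hζ₀, rfl⟩ := mem_sup_W hYWE Zb_le_W (hW1 hw)
  obtain ⟨x, hx, ζ₂, hζ₂, hyx⟩ := mem_sup_W hXW Zb_le_W (hW3 (hYWF hy))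
  have hxZ := hX hx
  -- `y ζ₀ = x ζ₂ ζ₀`
  have h2 : f * ζ₂ * f⁻¹ = ζ₂ := Z_comm_E hζ₂ hf
  have h3 : f * x * f⁻¹ ∈ Zb p E := conj_Z hEs (hNF hf) hxZ
  have h4 : f * ζ₀ * f⁻¹ ∈ Zb p E := conj_Z hEs (hNF hf) hζ₀
  have hζ₂W : ζ₂ ∈ Wb p E := by
    have : ζ₂ = x⁻¹ * y := by rw [hyx]; group
    rw [this]
    exact (Wb p E).mul_mem ((Wb p E).inv_mem (Zb_le_W hxZ)) (hYWE hy)
  subst hyx
  have e1 : ⁅f, x * ζ₂ * ζ₀⁆ = (f * x * f⁻¹) * ζ₂ * (f * ζ₀ * f⁻¹) * (x * ζ₂ * ζ₀)⁻¹ := by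
    rw [commutatorElement_def]
    have e2 : f * (x * ζ₂ * ζ₀) * f⁻¹ = (f * x * f⁻¹) * (f * ζ₂ * f⁻¹) * (f * ζ₀ * f⁻¹) := by group
    rw [e2, h2]
  rw [e1]
  have hd : ζ₂ * ((f * ζ₀ * f⁻¹) * ζ₀⁻¹) = ((f * ζ₀ * f⁻¹) * ζ₀⁻¹) * ζ₂ :=
    W_comm_W hζ₂W (Zb_le_W ((Zb p E).mul_mem h4 ((Zb p E).inv_mem hζ₀)))
  have e3 : (f * x * f⁻¹) * ζ₂ * (f * ζ₀ * f⁻¹) * (x * ζ₂ * ζ₀)⁻¹ =
      (f * x * f⁻¹) * (f * ζ₀ * f⁻¹) * ζ₀⁻¹ * x⁻¹ := by
    calc (f * x * f⁻¹) * ζ₂ * (f * ζ₀ * f⁻¹) * (x * ζ₂ * ζ₀)⁻¹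
        = (f * x * f⁻¹) * (ζ₂ * ((f * ζ₀ * f⁻¹) * ζ₀⁻¹)) * ζ₂⁻¹ * x⁻¹ := by group
      _ = (f * x * f⁻¹) * (((f * ζ₀ * f⁻¹) * ζ₀⁻¹) * ζ₂) * ζ₂⁻¹ * x⁻¹ := by rw [hd]
      _ = (f * x * f⁻¹) * (f * ζ₀ * f⁻¹) * ζ₀⁻¹ * x⁻¹ := by group
  rw [e3]
  exact (Zb p E).mul_mem ((Zb p E).mul_mem ((Zb p E).mul_mem h3 h4) ((Zb p E).inv_mem hζ₀)) ((Zb p E).inv_mem hxZ)

include hE hF hEs hFs hG in
/-- Symmetry of the failure of `Y ≤ Z`. -/
theorem not_YFE_le_ZF (hc : ⁅E, F⁆ ≤ pCore p G) (hY : ¬ (⁅F, Wb p E⁆ : Subgroup G) ≤ Zb p E) :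
    ¬ (⁅E, Wb p F⁆ : Subgroup G) ≤ Zb p F := by
  intro hle
  apply hY
  have hYWF := Y_le_WF S₁ S₂ hE hF hEs hFs hG
  have hYWE := Y_le_WE S₁ hE hEs hc
  have hW1 : Wb p E ≤ ⁅F, Wb p E⁆ ⊔ Zb p E :=
    irr_W hE hYWE (E_norm_Y S₁ S₂ hE hF hEs hFs hc) hY
  have hNF : F ≤ Subgroup.normalizer (E : Set G) := le_norm_of_comm S₁ hE hc
  -- `P ≤ Z_F`
  have hP : (⁅Wb p E, E⁆ : Subgroup G) ≤ Zb p F := by
    rw [Subgroup.commutator_le]
    intro w hw e he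
    obtain ⟨y, hy, ζ, hζ, rfl⟩ := mem_sup_W hYWE Zb_le_W (hW1 hw)
    have h1 : ⁅e, y⁆ ∈ Zb p F := hle (Subgroup.commutator_mem_commutator he (hYWF hy))
    have h2 : e * ζ * e⁻¹ = ζ := Z_comm_E hζ he
    have e1 : ⁅y * ζ, e⁆ = (⁅e, y⁆)⁻¹ := by
      have h3 : ζ * e * ζ⁻¹ = e := by
        have : e * ζ = ζ * e := by
          calc e * ζ = e * ζ * e⁻¹ * e := by group
            _ = ζ * e := by rw [h2]
        rw [← this]; group
      simp only [commutatorElement_def]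
      calc y * ζ * e * (y * ζ)⁻¹ * e⁻¹ = y * (ζ * e * ζ⁻¹) * y⁻¹ * e⁻¹ := by group
        _ = y * e * y⁻¹ * e⁻¹ := by rw [h3]
        _ = (e * y * e⁻¹ * y⁻¹)⁻¹ := by group
    rw [e1]
    exact Subgroup.inv_mem _ h1
  rw [Subgroup.commutator_le]
  intro f hf w hw
  obtain ⟨π, hπ, ζ, hζ, rfl⟩ := mem_sup_W (P_le_W hEs) Zb_le_W (W_le_P_sup_Z hEs S₁ hE hG hw)
  have h1 : f * π * f⁻¹ = π := Z_comm_E (hP hπ) hf
  have h4 : f * ζ * f⁻¹ ∈ Zb p E := conj_Z hEs (hNF hf) hζ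
  have hπW := P_le_W hEs hπ
  have hd : π * ((f * ζ * f⁻¹) * ζ⁻¹) = ((f * ζ * f⁻¹) * ζ⁻¹) * π :=
    W_comm_W hπW (Zb_le_W ((Zb p E).mul_mem h4 ((Zb p E).inv_mem hζ)))
  have e1 : ⁅f, π * ζ⁆ = (f * ζ * f⁻¹) * ζ⁻¹ := by
    rw [commutatorElement_def]
    have e2 : f * (π * ζ) * f⁻¹ = (f * π * f⁻¹) * (f * ζ * f⁻¹) := by group
    rw [e2, h1]
    calc π * (f * ζ * f⁻¹) * (π * ζ)⁻¹ = (π * ((f * ζ * f⁻¹) * ζ⁻¹)) * π⁻¹ := by group
      _ = (f * ζ * f⁻¹) * ζ⁻¹ := by rw [hd]; group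
  rw [e1]
  exact (Zb p E).mul_mem h4 ((Zb p E).inv_mem hζ)

include hE hF hEs hFs hG in
/-- The other main lemma: if `E` is not of order-three type, `[F, W_E] ≤ Z_E`. -/
theorem Y_le_Z' (hc : ⁅E, F⁆ ≤ pCore p G) (hn : NotC3 p E) : (⁅F, Wb p E⁆ : Subgroup G) ≤ Zb p E := by
  by_contra hY
  have hc' : ⁅F, E⁆ ≤ pCore p G := by rw [Subgroup.commutator_comm]; exact hc
  exact not_YFE_le_ZF S₁ S₂ hE hF hEs hFs hG hc hY (Y_le_Z S₂ S₁ hF hE hFs hEs hG hc' hn)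

/-- Commutators are unchanged by central factors. -/
theorem comm_central_factor {a b u v : G} (hu1 : u * a = a * u) (hu2 : u * b = b * u) (hv1 : v * a = a * v)
    (hv2 : v * b = b * v) (huv : u * v = v * u) : ⁅u * a, v * b⁆ = ⁅a, b⁆ := by
  simp only [commutatorElement_def]
  have h1 : u * a * (v * b) = u * v * (a * b) := by
    calc u * a * (v * b) = u * (a * v) * b := by group
      _ = u * (v * a) * b := by rw [hv1]
      _ = u * v * (a * b) := by group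
  have h2 : v * b * (u * a) = u * v * (b * a) := by
    calc v * b * (u * a) = v * (b * u) * a := by group
      _ = v * (u * b) * a := by rw [hu2]
      _ = (v * u) * (b * a) := by group
      _ = u * v * (b * a) := by rw [huv]
  have e : u * a * (v * b) * (u * a)⁻¹ * (v * b)⁻¹ = (u * a * (v * b)) * (v * b * (u * a))⁻¹ := by group
  rw [e, h1, h2]
  have hta : Commute (u * v) a := Commute.mul_left hu1 hv1
  have htb : Commute (u * v) b := Commute.mul_left hu2 hv2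
  have htab : Commute (u * v) (a * b * a⁻¹ * b⁻¹) :=
    ((hta.mul_right htb).mul_right hta.inv_right).mul_right htb.inv_right
  have e2 : u * v * (a * b) * (u * v * (b * a))⁻¹ = (u * v) * (a * b * a⁻¹ * b⁻¹) * (u * v)⁻¹ := by group
  rw [e2, htab.eq]
  group

include hE hEs in
/-- Schur's lemma on `Q_E / W_E`. -/
theorem derived_le_secKer_Q (hx : ExcData p (S₁ : Subgroup G) E) (hc : ⁅E, F⁆ ≤ pCore p G) :
    ⁅F, F⁆ ≤ secKer (Qb p E) (Wb p E) := by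
  have hNF : F ≤ Subgroup.normalizer (E : Set G) := le_norm_of_comm S₁ hE hc
  have hQQ : ∀ a ∈ Qb p E, ∀ b ∈ Qb p E, a * b * a⁻¹ * b⁻¹ ∈ Wb p E := by
    intro a ha b hb
    have : ⁅a, b⁆ ∈ (⁅Qb p E, Qb p E⁆ : Subgroup G) := Subgroup.commutator_mem_commutator ha hb
    rw [hx.comm] at this
    exact this.1
  have hs : SecData (Qb p E) (Wb p E) :=
    ⟨Wb_le_Q, fun u hu v hv => conj_W_of_mem hEs (Qb_le_E hu) hv, hQQ⟩
  have hnQ : ∀ y ∈ F, y ∈ Subgroup.normalizer (Qb p E : Set G) := fun y hy =>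
    normalizer_le_normalizer_Q hEs (hNF hy)
  have hnW : ∀ y ∈ F, y ∈ Subgroup.normalizer (Wb p E : Set G) := fun y hy =>
    mem_normalizer_of_conj fun u hu => conj_W hEs (hNF hy) hu
  have hNE : ∀ e ∈ E, NormSec (Qb p E) (Wb p E) e := fun e he =>
    ⟨fun u hu => conj_Q_of_mem hEs he hu, fun u hu => conj_W_of_mem hEs he hu⟩
  have hNy : ∀ y ∈ F, NormSec (Qb p E) (Wb p E) y := fun y hy =>
    ⟨fun u hu => conj_Q hEs (hNF hy) hu, fun u hu => conj_W hEs (hNF hy) hu⟩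
  have hne : Wb p E ≠ Qb p E := by
    intro h
    apply hx.not_abelian
    intro a ha b hb
    exact W_comm_Q (h ▸ ha) hb
  have hcomm : ∀ y ∈ F, ∀ e ∈ E, ∀ u ∈ Qb p E,
      (y * (e * u * e⁻¹) * y⁻¹)⁻¹ * (e * (y * u * y⁻¹) * e⁻¹) ∈ Wb p E := by
    intro y hy e he u hu
    have hq := comm_mem_QE S₁ hE hEs hc hy he
    set q := y * e * y⁻¹ * e⁻¹ with hqdef
    have hu' : e * (y * u * y⁻¹) * e⁻¹ ∈ Qb p E := conj_Q_of_mem hEs he (conj_Q hEs (hNF hy) hu)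
    have e1 : (y * (e * u * e⁻¹) * y⁻¹)⁻¹ * (e * (y * u * y⁻¹) * e⁻¹) =
        q * (e * (y * u * y⁻¹) * e⁻¹)⁻¹ * q⁻¹ * (e * (y * u * y⁻¹) * e⁻¹) := by
      rw [hqdef]; group
    rw [e1]
    have h5 := hQQ _ hq _ ((Qb p E).inv_mem hu')
    rwa [inv_inv] at h5
  rw [Subgroup.commutator_le]
  intro a ha b hb
  refine comm_mem_secKer (hnQ a ha) (hnW a ha) (hnQ b hb) (hnW b hb) fun u hu => ?_
  refine section_comm hs (E : Set G) hNE ?_ hne (hNy a ha) (hNy b hb) (hcomm a ha) (hcomm b hb) hu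
  intro Y hY1 hY2 hY3
  by_cases hle : Y ≤ Wb p E
  · exact Or.inl (le_antisymm hle hY2)
  · refine Or.inr (le_antisymm hY1 ?_)
    have := hx.irr Y hY1 (fun e he => mem_normalizer_of_conj (hY3 e he)) hle
    rwa [sup_eq_left.mpr hY2] at this

include hE hF hEs hFs hG in
/-- In the exceptional case `[F, Q_E] ≤ W_E`. -/
theorem comm_Q_le_W (hx : ExcData p (S₁ : Subgroup G) E) (hc : ⁅E, F⁆ ≤ pCore p G)
    (hN2 : ExcData p (S₂ : Subgroup G) F →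
      ∃ f ∈ (⁅F, F⁆ : Subgroup G), ∃ u ∈ Qb p F, u⁻¹ * (f * u * f⁻¹) ∉ Wb p F) :
    (⁅F, Qb p E⁆ : Subgroup G) ≤ Wb p E := by
  by_contra hY
  have hc' : ⁅F, E⁆ ≤ pCore p G := by rw [Subgroup.commutator_comm]; exact hc
  have hNF : F ≤ Subgroup.normalizer (E : Set G) := le_norm_of_comm S₁ hE hc
  have hNE : E ≤ Subgroup.normalizer (F : Set G) := le_norm_of_comm S₂ hF hc'
  have hYQE : (⁅F, Qb p E⁆ : Subgroup G) ≤ Qb p E := by
    rw [Subgroup.commutator_le]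
    intro f hf a ha
    rw [commutatorElement_def]
    exact (Qb p E).mul_mem (conj_Q hEs (hNF hf) ha) ((Qb p E).inv_mem ha)
  have hYQF : (⁅F, Qb p E⁆ : Subgroup G) ≤ Qb p F := by
    rw [Subgroup.commutator_le]
    intro f hf a ha
    have := comm_mem_Q hFs S₂ hF (Qb_le_R hEs ha) hf
    simpa [commutatorElement_def] using this
  have hEY : E ≤ Subgroup.normalizer ((⁅F, Qb p E⁆ : Subgroup G) : Set G) := by
    intro e he
    refine mem_normalizer_of_conj fun x hx => conj_mem_comm ?_ ?_ hx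
    · intro a ha
      exact conj_mem_of_normalizer (hNE he) ha
    · intro a ha
      exact conj_Q_of_mem hEs he ha
  have hQ1 := hx.irr _ hYQE hEY hY
  -- a product decomposition in `Y W`
  have hcYW : ⁅(⁅F, Qb p E⁆ : Subgroup G), Wb p E⁆ = ⊥ := by
    rw [← le_bot_iff, Subgroup.commutator_le]
    intro a ha w hw
    rw [Subgroup.mem_bot, commutatorElement_def, ← W_comm_Q hw (hYQE ha)]
    group
  -- `Y` is not abelian
  have hYab : ¬ ∀ a ∈ (⁅F, Qb p E⁆ : Subgroup G), ∀ b ∈ (⁅F, Qb p E⁆ : Subgroup G), a * b = b * a := by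
    intro hab
    apply hx.not_abelian
    intro a ha b hb
    obtain ⟨y₁, hy₁, w₁, hw₁, rfl⟩ := Cfsg.Agent.Lib.LocalCore.mem_sup_of_commute hcYW (hQ1 ha)
    obtain ⟨y₂, hy₂, w₂, hw₂, rfl⟩ := Cfsg.Agent.Lib.LocalCore.mem_sup_of_commute hcYW (hQ1 hb)
    have h1 : w₁ * y₂ = y₂ * w₁ := W_comm_Q hw₁ (hYQE hy₂)
    have h2 : w₂ * y₁ = y₁ * w₂ := W_comm_Q hw₂ (hYQE hy₁)
    have h3 : w₁ * w₂ = w₂ * w₁ := W_comm_W hw₁ hw₂
    calc y₁ * w₁ * (y₂ * w₂) = y₁ * (w₁ * y₂) * w₂ := by group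
      _ = y₁ * (y₂ * w₁) * w₂ := by rw [h1]
      _ = (y₁ * y₂) * (w₁ * w₂) := by group
      _ = (y₂ * y₁) * (w₂ * w₁) := by rw [hab y₁ hy₁ y₂ hy₂, h3]
      _ = y₂ * (y₁ * w₂) * w₁ := by group
      _ = y₂ * (w₂ * y₁) * w₁ := by rw [h2]
      _ = y₂ * w₂ * (y₁ * w₁) := by group
  have hYWF : ¬ (⁅F, Qb p E⁆ : Subgroup G) ≤ Wb p F := by
    intro hle
    apply hYab
    intro a ha b hb
    exact W_comm_W (hle ha) (hle hb)
  have hxF : ExcData p (S₂ : Subgroup G) F := by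
    rcases block_dich hF with h | h
    · exfalso
      apply hYWF
      rw [← h]
      exact hYQF
    · exact h
  have hQ2 := hxF.irr _ hYQF (le_normalizer_comm_left _ _) hYWF
  have hD := derived_le_secKer_Q S₁ hE hEs hx hc
  have hcYWF : ⁅(⁅F, Qb p E⁆ : Subgroup G), Wb p F⁆ = ⊥ := by
    rw [← le_bot_iff, Subgroup.commutator_le]
    intro a ha w hw
    rw [Subgroup.mem_bot, commutatorElement_def, ← W_comm_Q hw (hYQF ha)]
    group
  -- `[F', Q_F] ≤ V`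
  have hX : (⁅(⁅F, F⁆ : Subgroup G), Qb p F⁆ : Subgroup G) ≤ Vb p G := by
    rw [Subgroup.commutator_le]
    intro f hf u hu
    have hfF : f ∈ F := (Cfsg.Agent.Lib.LocalCore.commutator_self_le F) hf
    obtain ⟨y, hy, w, hw, rfl⟩ := Cfsg.Agent.Lib.LocalCore.mem_sup_of_commute hcYWF (hQ2 hu)
    have hyQ := hYQE hy
    have h1 : y⁻¹ * (f * y * f⁻¹) ∈ Wb p E := (hD hf).2.2 y hyQ
    have h2 : f * w * f⁻¹ * w⁻¹ ∈ Wb p F :=
      (Wb p F).mul_mem (conj_W_of_mem hFs hfF hw) ((Wb p F).inv_mem hw)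
    set c := f * w * f⁻¹ * w⁻¹ with hc0
    have h3 : c * y⁻¹ = y⁻¹ * c := W_comm_Q h2 ((Qb p F).inv_mem (hYQF hy))
    have e1 : ⁅f, y * w⁆ = (f * y * f⁻¹) * y⁻¹ * c := by
      rw [commutatorElement_def]
      calc f * (y * w) * f⁻¹ * (y * w)⁻¹ = (f * y * f⁻¹) * c * y⁻¹ := by rw [hc0]; group
        _ = (f * y * f⁻¹) * y⁻¹ * c := by rw [mul_assoc, h3]; group
    rw [e1]
    have h4 : (f * y * f⁻¹) * y⁻¹ = y * (y⁻¹ * (f * y * f⁻¹)) * y⁻¹ := by group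
    rw [h4]
    refine (Vb p G).mul_mem ?_ (W_le_V hFs S₂ hF hG h2)
    exact W_le_V hEs S₁ hE hG (conj_W_of_mem hEs (Qb_le_E hyQ) h1)
  obtain ⟨f₀, hf₀, u₀, hu₀, hne⟩ := hN2 hxF
  have hXQ : (⁅(⁅F, F⁆ : Subgroup G), Qb p F⁆ : Subgroup G) ≤ Qb p F := by
    rw [Subgroup.commutator_le]
    intro f hf u hu
    rw [commutatorElement_def]
    exact (Qb p F).mul_mem (conj_Q_of_mem hFs ((Cfsg.Agent.Lib.LocalCore.commutator_self_le F) hf) hu)
      ((Qb p F).inv_mem hu)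
  have hXnorm : F ≤ Subgroup.normalizer ((⁅(⁅F, F⁆ : Subgroup G), Qb p F⁆ : Subgroup G) : Set G) := by
    intro f hf
    refine mem_normalizer_of_conj fun x hx => conj_mem_comm ?_ ?_ hx
    · intro a ha
      exact conj_mem_comm (fun b hb => F.mul_mem (F.mul_mem hf hb) (F.inv_mem hf))
        (fun b hb => F.mul_mem (F.mul_mem hf hb) (F.inv_mem hf)) ha
    · intro a ha
      exact conj_Q_of_mem hFs hf ha
  have hXW : ¬ (⁅(⁅F, F⁆ : Subgroup G), Qb p F⁆ : Subgroup G) ≤ Wb p F := by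
    intro hle
    apply hne
    have h1 : ⁅f₀, u₀⁆ ∈ Wb p F := hle (Subgroup.commutator_mem_commutator hf₀ hu₀)
    have e : u₀⁻¹ * (f₀ * u₀ * f₀⁻¹) = u₀⁻¹ * ⁅f₀, u₀⁆ * u₀ := by
      rw [commutatorElement_def]; group
    rw [e]
    exact conj_W_of_mem hFs (Qb_le_E ((Qb p F).inv_mem hu₀)) h1 |> fun h => by simpa using h
  have hQ3 := hxF.irr _ hXQ hXnorm hXW
  have hle : Qb p F ≤ Vb p G := hQ3.trans (sup_le hX (W_le_V hFs S₂ hF hG))
  apply hxF.not_abelian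
  intro a ha b hb
  exact V_comm_V (hle ha) (hle hb)

include hE hEs in
/-- From `[F, W_E] ≤ Z_E` and `[F, Q_E] ≤ W_E` in the exceptional case: `p'`-elements of `F` centralize `Q_E`. -/
theorem cent_Q (hc : ⁅E, F⁆ ≤ pCore p G) (hY : (⁅F, Wb p E⁆ : Subgroup G) ≤ Zb p E)
    (hQ : ExcData p (S₁ : Subgroup G) E → (⁅F, Qb p E⁆ : Subgroup G) ≤ Wb p E)
    {y a : G} (hy : y ∈ F) (hco : (orderOf y).Coprime p) (ha : a ∈ Qb p E) : y * a * y⁻¹ = a := by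
  have hNF : F ≤ Subgroup.normalizer (E : Set G) := le_norm_of_comm S₁ hE hc
  have hWc : ∀ w ∈ Wb p E, y * w * y⁻¹ * w⁻¹ ∈ Zb p E := by
    intro w hw
    have := hY (Subgroup.commutator_mem_commutator hy hw)
    simpa [commutatorElement_def] using this
  rcases block_dich hE with h | hx
  · -- `Q = W = [W, E]`
    have h1 : (⁅E, Wb p E⁆ : Subgroup G) = Wb p E := by
      have h2 : (⁅Qb p E, E⁆ : Subgroup G) = Qb p E := hE.2.2.1
      rw [h, Subgroup.commutator_comm] at h2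
      exact h2
    have h3 : (⁅E, Wb p E⁆ : Subgroup G) ≤ Subgroup.centralizer ({y} : Set G) := by
      rw [Subgroup.commutator_le]
      intro e he w hw
      rw [Subgroup.mem_centralizer_singleton_iff]
      have hz := hWc w hw
      set c := y * w * y⁻¹ * w⁻¹ with hcdef
      have ew : y * w * y⁻¹ = c * w := by rw [hcdef]; group
      have hw' : e * w * e⁻¹ ∈ Wb p E := conj_W_of_mem hEs he hw
      have hce : e * c * e⁻¹ = c := Z_comm_E hz he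
      have key : y * ⁅e, w⁆ * y⁻¹ = ⁅e, w⁆ := by
        rw [commutatorElement_def]
        have e1 : y * (e * w * e⁻¹ * w⁻¹) * y⁻¹ = (y * (e * w * e⁻¹) * y⁻¹) * (y * w * y⁻¹)⁻¹ := by group
        rw [e1, act_comm_W S₁ hE hEs hc hy he hw, ew]
        have e2 : e * (c * w) * e⁻¹ = (e * c * e⁻¹) * (e * w * e⁻¹) := by group
        rw [e2, hce]
        have h4 : c * (e * w * e⁻¹) = (e * w * e⁻¹) * c := W_comm_W (Zb_le_W hz) hw'
        rw [h4]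
        have h5 : c * w⁻¹ = w⁻¹ * c := W_comm_W (Zb_le_W hz) ((Wb p E).inv_mem hw)
        calc e * w * e⁻¹ * c * (c * w)⁻¹ = e * w * e⁻¹ * (c * w⁻¹) * c⁻¹ := by group
          _ = e * w * e⁻¹ * (w⁻¹ * c) * c⁻¹ := by rw [h5]
          _ = e * w * e⁻¹ * w⁻¹ := by group
      calc ⁅e, w⁆ * y = y * ⁅e, w⁆ * y⁻¹ * y := by rw [key]
        _ = y * ⁅e, w⁆ := by group
    have hyw := Subgroup.mem_centralizer_singleton_iff.mp (h3 (by rw [h1, ← h]; exact ha))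
    calc y * a * y⁻¹ = a * y * y⁻¹ := by rw [← hyw]
      _ = a := by group
  · -- exceptional
    have hQW : ∀ a ∈ Qb p E, y * a * y⁻¹ * a⁻¹ ∈ Wb p E := by
      intro a ha
      have := hQ hx (Subgroup.commutator_mem_commutator hy ha)
      simpa [commutatorElement_def] using this
    have hQZ : ∀ a ∈ Qb p E, y * a * y⁻¹ * a⁻¹ ∈ Zb p E := by
      intro a ha
      refine comm_mem_of_coprime (p := p) (Q₂ := Wb p E) (Q₃ := Zb p E) hco ?_ Zb_le_W ?_ ?_ ?_ (hQW a ha)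
      · exact (isPGroup_pCoreOf p E).to_le Wb_le_Q
      · intro c hc u hu
        rw [W_comm_W hc (Zb_le_W hu)]
        simpa using hu
      · intro c hc
        exact conj_W hEs (hNF hy) hc
      · intro c hc
        have h1 := hWc c hc
        have h2 : c⁻¹ * (y * c * y⁻¹) = y * c * y⁻¹ * c⁻¹ :=
          W_comm_W ((Wb p E).inv_mem hc) (conj_W hEs (hNF hy) hc)
        rw [h2]; exact h1
    -- `y` centralizes `Z = [Q, Q]`
    have hZ : (⁅Qb p E, Qb p E⁆ : Subgroup G) ≤ Subgroup.centralizer ({y} : Set G) := by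
      rw [Subgroup.commutator_le]
      intro a ha b hb
      rw [Subgroup.mem_centralizer_singleton_iff]
      have h1 := hQZ a ha
      have h2 := hQZ b hb
      set u := y * a * y⁻¹ * a⁻¹ with hu
      set v := y * b * y⁻¹ * b⁻¹ with hv
      have ea : y * a * y⁻¹ = u * a := by rw [hu]; group
      have eb : y * b * y⁻¹ = v * b := by rw [hv]; group
      have key : y * ⁅a, b⁆ * y⁻¹ = ⁅a, b⁆ := by
        have e1 : y * ⁅a, b⁆ * y⁻¹ = ⁅y * a * y⁻¹, y * b * y⁻¹⁆ := by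
          simp only [commutatorElement_def]; group
        rw [e1, ea, eb]
        exact comm_central_factor (W_comm_Q (Zb_le_W h1) ha) (W_comm_Q (Zb_le_W h1) hb)
          (W_comm_Q (Zb_le_W h2) ha) (W_comm_Q (Zb_le_W h2) hb) (W_comm_W (Zb_le_W h1) (Zb_le_W h2))
      calc ⁅a, b⁆ * y = y * ⁅a, b⁆ * y⁻¹ * y := by rw [key]
        _ = y * ⁅a, b⁆ := by group
    have h1 := hQZ a ha
    have h2 : y * (y * a * y⁻¹ * a⁻¹) * y⁻¹ = y * a * y⁻¹ * a⁻¹ := by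
      have h3 : y * a * y⁻¹ * a⁻¹ ∈ (⁅Qb p E, Qb p E⁆ : Subgroup G) := by rw [hx.comm]; exact h1
      have h4 := Subgroup.mem_centralizer_singleton_iff.mp (hZ h3)
      calc y * (y * a * y⁻¹ * a⁻¹) * y⁻¹ = (y * a * y⁻¹ * a⁻¹) * y * y⁻¹ := by rw [← h4]
        _ = y * a * y⁻¹ * a⁻¹ := by group
    obtain ⟨k, hk⟩ := isP_of_mem_R (p := p) (Qb_le_R hEs (Wb_le_Q (Zb_le_W h1)))
    have h3 := eq_one_of_fixed_comm (p := p) hco h2 hk
    have : y * a * y⁻¹ * a⁻¹ * a = a := by rw [h3]; simp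
    simpa using this

include hE hEs in
/-- Conclusion: `[E, F] = 1`. -/
theorem comm_eq_bot_of (hc : ⁅E, F⁆ ≤ pCore p G) (hFr : pResidualOf p F = F)
    (hY : (⁅F, Wb p E⁆ : Subgroup G) ≤ Zb p E)
    (hQ : ExcData p (S₁ : Subgroup G) E → (⁅F, Qb p E⁆ : Subgroup G) ≤ Wb p E) : ⁅E, F⁆ = ⊥ := by
  have hFC : F ≤ Subgroup.centralizer (E : Set G) := by
    refine le_of_residual hFr fun y hy hco => ?_
    refine Subgroup.mem_centralizer_iff.mpr fun e he => ?_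
    have h1 := comm_mem_QE S₁ hE hEs hc hy he
    have h2 := cent_Q S₁ hE hEs hc hY hQ hy hco h1
    obtain ⟨k, hk⟩ := isP_of_mem_R (p := p) (Qb_le_R hEs h1)
    have h3 := eq_one_of_fixed_comm (p := p) hco h2 hk
    have h4 : y * e * y⁻¹ = e := by
      have : y * e * y⁻¹ * e⁻¹ * e = e := by rw [h3]; simp
      simpa using this
    calc e * y = y * e * y⁻¹ * y := by rw [h4]
      _ = y * e := by group
  rw [← le_bot_iff, Subgroup.commutator_le]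
  intro e he f hf
  have := Subgroup.mem_centralizer_iff.mp (hFC hf) e he
  rw [Subgroup.mem_bot, commutatorElement_def, this]
  group

include hE hF hEs hFs hG in
/-- **Step B**. -/
theorem stepB (hc : ⁅E, F⁆ ≤ pCore p G) (hn : NotC3 p F ∨ NotC3 p E)
    (hN2 : ExcData p (S₂ : Subgroup G) F →
      ∃ f ∈ (⁅F, F⁆ : Subgroup G), ∃ u ∈ Qb p F, u⁻¹ * (f * u * f⁻¹) ∉ Wb p F) : ⁅E, F⁆ = ⊥ := by
  refine comm_eq_bot_of S₁ hE hEs hc hF.1 ?_ (fun hx => comm_Q_le_W S₁ S₂ hE hF hEs hFs hG hx hc hN2)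
  rcases hn with h | h
  · exact Y_le_Z S₁ S₂ hE hF hEs hFs hG hc h
  · exact Y_le_Z' S₁ S₂ hE hF hEs hFs hG hc h

end main

end Cfsg.Agent.Lib.BauSub
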