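import Mathlib
import Cfsg.Agent.Lib.BauSub2
import Cfsg.Agent.Lib.SLBlock

/-!
# Baumann blocks: the small linear groups
-/

set_option autoImplicit false

open Cfsg
open scoped commutatorElement

namespace Cfsg.Agent.Lib.BauSub

open Cfsg.Agent.Lib.BauBlock Cfsg.Agent.Lib.BauBlock2 Cfsg.Agent.Lib.PLocalTools Cfsg.Agent.Lib.BauSchur

abbrev S3 := Matrix.SpecialLinearGroup (Fin 2) (ZMod 3)
abbrev S2 := Matrix.SpecialLinearGroup (Fin 2) (ZMod 2)
abbrev K3 : Subgroup S3 := commutator S3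
abbrev K2 : Subgroup S2 := commutator S2

def IsQ (A : S3) : Prop := A = 1 ∨ A = -1 ∨ A.1 0 0 + A.1 1 1 = 0
instance : DecidablePred IsQ := fun A => by unfold IsQ; infer_instance

def U3 : S3 := ⟨!![1, 1; 0, 1], by decide⟩
def L3 : S3 := ⟨!![1, 0; 1, 1], by decide⟩
def U2 : S2 := ⟨!![1, 1; 0, 1], by decide⟩
def L2 : S2 := ⟨!![1, 0; 1, 1], by decide⟩

set_option maxRecDepth 100000 in
theorem isQ_mul : ∀ A B : S3, IsQ A → IsQ B → IsQ (A * B) := by decide

set_option maxRecDepth 100000 in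
theorem isQ_comm : ∀ A B : S3, IsQ ⁅A, B⁆ := by decide

set_option maxRecDepth 100000 in
theorem isQ_inv : ∀ A : S3, IsQ A → IsQ A⁻¹ := by decide

set_option maxRecDepth 100000 in
theorem isQ_words : ∀ A : S3, IsQ A → A = 1 ∨ A = ⁅U3, L3⁆ * ⁅U3, L3⁆ ∨ A = ⁅U3, L3⁆ ∨ A = ⁅U3, L3⁆⁻¹ ∨
    A = ⁅U3, L3⁻¹⁆ ∨ A = ⁅U3, L3⁻¹⁆⁻¹ ∨ A = ⁅U3⁻¹, L3⁆ ∨ A = ⁅U3⁻¹, L3⁆⁻¹ := by decide

set_option maxRecDepth 100000 in
theorem isQ_trans : ∀ v w : Fin 2 → ZMod 3, v ≠ 0 → w ≠ 0 → ∃ A : S3, IsQ A ∧ A.1.mulVec v = w := by decide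

set_option maxRecDepth 100000 in
theorem isQ_cases : ∀ A : S3, IsQ A → A = 1 ∨ A = -1 ∨ A * A = -1 := by decide

set_option maxRecDepth 100000 in
theorem isQ_fpf : ∀ (A : S3) (v : Fin 2 → ZMod 3), IsQ A → A ≠ 1 → A.1.mulVec v = v → v = 0 := by decide

set_option maxRecDepth 100000 in
theorem isQ_pow8 : ∀ A : S3, IsQ A → A ^ 8 = 1 := by decide

set_option maxRecDepth 100000 in
theorem isQ_neg : IsQ (-1 : S3) := by decide

set_option maxRecDepth 100000 in
theorem isQ_noeig : ∀ (A : S3) (v : Fin 2 → ZMod 3), IsQ A → A ≠ 1 → A ≠ -1 → v ≠ 0 →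
    A.1.mulVec v ≠ v ∧ A.1.mulVec v ≠ -v := by decide

set_option maxRecDepth 100000 in
theorem isQ_sq_one : ∀ A : S3, IsQ A → A * A = 1 → A ≠ 1 → A = -1 := by decide

set_option maxRecDepth 100000 in
theorem neg_one_act : ∀ v : Fin 2 → ZMod 3, (-1 : S3).1.mulVec v = -v := by decide

set_option maxRecDepth 100000 in
theorem neg_one_sq : (-1 : S3) * (-1 : S3) = 1 := by decide

set_option maxRecDepth 100000 in
theorem exists_order4 : ∃ A : S3, IsQ A ∧ A * A = -1 ∧ A ≠ 1 ∧ A ≠ -1 := by decide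

set_option maxRecDepth 100000 in
theorem isQ_not_one_sq : ∀ A : S3, IsQ A → A ≠ 1 → A ≠ -1 → A * A = -1 := by decide

theorem z3_two_eq_zero {v : Fin 2 → ZMod 3} (h : v + v = 0) : v = 0 := by
  revert v; decide

theorem z3_three {v : Fin 2 → ZMod 3} : v + v + v = 0 := by
  revert v; decide

set_option maxRecDepth 100000 in
theorem gen3 : ∀ v w z : Fin 2 → ZMod 3, v ≠ 0 → w ≠ 0 → w ≠ v → w ≠ -v →
    ∃ i j : ZMod 3, z = i • v + j • w := by decide

def Q8H : Subgroup S3 where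
  carrier := {A | IsQ A}
  mul_mem' {a b} ha hb := isQ_mul a b ha hb
  one_mem' := Or.inl rfl
  inv_mem' {a} ha := isQ_inv a ha

theorem K3_le_isQ {A : S3} (hA : A ∈ K3) : IsQ A := by
  have hle : commutator S3 ≤ Q8H := by
    rw [commutator_def, Subgroup.commutator_le]
    intro a _ b _
    exact isQ_comm a b
  exact hle hA

theorem isQ_mem_K3 {A : S3} (hA : IsQ A) : A ∈ K3 := by
  have hc : ∀ a b : S3, ⁅a, b⁆ ∈ K3 := fun a b =>
    Subgroup.commutator_mem_commutator (Subgroup.mem_top _) (Subgroup.mem_top _)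
  rcases isQ_words A hA with h | h | h | h | h | h | h | h <;> rw [h]
  · exact Subgroup.one_mem _
  · exact Subgroup.mul_mem _ (hc _ _) (hc _ _)
  · exact hc _ _
  · exact Subgroup.inv_mem _ (hc _ _)
  · exact hc _ _
  · exact Subgroup.inv_mem _ (hc _ _)
  · exact hc _ _
  · exact Subgroup.inv_mem _ (hc _ _)

/-- `K3` is not abelian. -/
theorem K3_nonab : ∃ A ∈ K3, ∃ B ∈ K3, ⁅A, B⁆ ≠ 1 := by
  refine ⟨⁅U3, L3⁆, isQ_mem_K3 (isQ_comm _ _), ⁅U3, L3⁻¹⁆, isQ_mem_K3 (isQ_comm _ _), ?_⟩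
  decide

/-! ### `p = 2` -/

set_option maxRecDepth 100000 in
theorem K2_elems : ∀ a b : S2, ⁅a, b⁆ = 1 ∨ ⁅a, b⁆ = ⁅U2, L2⁆ ∨ ⁅a, b⁆ = ⁅U2, L2⁆⁻¹ := by decide

def IsC (A : S2) : Prop := A = 1 ∨ A = ⁅U2, L2⁆ ∨ A = ⁅U2, L2⁆⁻¹
instance : DecidablePred IsC := fun A => by unfold IsC; infer_instance

set_option maxRecDepth 100000 in
theorem isC_mul : ∀ A B : S2, IsC A → IsC B → IsC (A * B) := by decide
set_option maxRecDepth 100000 in
theorem isC_inv : ∀ A : S2, IsC A → IsC A⁻¹ := by decide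
set_option maxRecDepth 100000 in
theorem isC_cases : ∀ A : S2, IsC A → A = 1 ∨ A * A * A = 1 := by decide
set_option maxRecDepth 100000 in
theorem isC_fpf : ∀ (A : S2) (v : Fin 2 → ZMod 2), IsC A → A ≠ 1 → A.1.mulVec v = v → v = 0 := by decide
set_option maxRecDepth 100000 in
theorem isC_trans : ∀ v w : Fin 2 → ZMod 2, v ≠ 0 → w ≠ 0 → ∃ A : S2, IsC A ∧ A.1.mulVec v = w := by decide
set_option maxRecDepth 100000 in
theorem isC_norm : ∀ (A : S2) (v : Fin 2 → ZMod 2), IsC A → A ≠ 1 →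
    v + A.1.mulVec v + (A * A).1.mulVec v = 0 := by decide
set_option maxRecDepth 100000 in
theorem isC_comm : ∀ A B : S2, IsC A → IsC B → A * B = B * A := by decide
set_option maxRecDepth 100000 in
theorem isC_pow3 : ∀ A : S2, IsC A → A ^ 3 = 1 := by decide
set_option maxRecDepth 100000 in
theorem gen2 : ∀ v w z : Fin 2 → ZMod 2, v ≠ 0 → w ≠ 0 → w ≠ v →
    ∃ i j : ZMod 2, z = i • v + j • w := by decide

def C3H : Subgroup S2 where
  carrier := {A | IsC A}
  mul_mem' {a b} ha hb := isC_mul a b ha hb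
  one_mem' := Or.inl rfl
  inv_mem' {a} ha := isC_inv a ha

theorem K2_le_isC {A : S2} (hA : A ∈ K2) : IsC A := by
  have hle : commutator S2 ≤ C3H := by
    rw [commutator_def, Subgroup.commutator_le]
    intro a _ b _
    rcases K2_elems a b with h | h | h
    · exact Or.inl h
    · exact Or.inr (Or.inl h)
    · exact Or.inr (Or.inr h)
  exact hle hA

theorem isC_mem_K2 {A : S2} (hA : IsC A) : A ∈ K2 := by
  have hc : ⁅U2, L2⁆ ∈ K2 := Subgroup.commutator_mem_commutator (Subgroup.mem_top _) (Subgroup.mem_top _)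
  rcases hA with h | h | h <;> rw [h]
  · exact Subgroup.one_mem _
  · exact hc
  · exact Subgroup.inv_mem _ hc

/-! ### Transfer along a ring isomorphism -/

section transfer

variable {G : Type*} [Group G] {F F' : Type*} [Field F] [Field F']

theorem map_SL_surjective (e : F ≃+* F') :
    Function.Surjective (Matrix.SpecialLinearGroup.map (n := Fin 2) (e : F →+* F')) := by
  intro A
  refine ⟨Matrix.SpecialLinearGroup.map (n := Fin 2) (e.symm : F' →+* F) A, ?_⟩
  ext i j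
  simp [Matrix.SpecialLinearGroup.map_apply_coe, RingHom.mapMatrix_apply]

theorem map_SL_injective (e : F ≃+* F') :
    Function.Injective (Matrix.SpecialLinearGroup.map (n := Fin 2) (e : F →+* F')) := by
  intro A B h
  ext i j
  have := congrArg (fun M : Matrix.SpecialLinearGroup (Fin 2) F' => M.1 i j) h
  have h2 : e (A.1 i j) = e (B.1 i j) := by
    simpa [Matrix.SpecialLinearGroup.map_apply_coe, RingHom.mapMatrix_apply] using this
  exact e.injective h2

theorem map_commutator_SL (e : F ≃+* F') :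
    (commutator (Matrix.SpecialLinearGroup (Fin 2) F)).map
      (Matrix.SpecialLinearGroup.map (n := Fin 2) (e : F →+* F')) =
    commutator (Matrix.SpecialLinearGroup (Fin 2) F') := by
  rw [commutator_def, commutator_def, Subgroup.map_commutator, ← MonoidHom.range_eq_map,
    MonoidHom.range_eq_top.mpr (map_SL_surjective e)]

theorem card_commutator_SL [Finite F] (e : F ≃+* F') :
    Nat.card (commutator (Matrix.SpecialLinearGroup (Fin 2) F)) =
    Nat.card (commutator (Matrix.SpecialLinearGroup (Fin 2) F')) := by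
  rw [← map_commutator_SL e]
  exact (Subgroup.card_map_of_injective (map_SL_injective e)).symm

theorem acts_transfer (e : F ≃+* F') {E U U₀ : Subgroup G}
    (h : ActsAsSL2OnSection F (commutator (Matrix.SpecialLinearGroup (Fin 2) F)) E U U₀) :
    ActsAsSL2OnSection F' (commutator (Matrix.SpecialLinearGroup (Fin 2) F')) E U U₀ := by
  obtain ⟨h1, h2, ρ, ψ, hρ, hψ, hk, ha⟩ := h
  let φ := Matrix.SpecialLinearGroup.map (n := Fin 2) (e : F →+* F')
  let ζ : (Fin 2 → F) →+ (Fin 2 → F') :=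
    { toFun := fun v i => e (v i)
      map_zero' := by funext i; simp
      map_add' := by intro a b; funext i; simp }
  have hζ : Function.Bijective ζ := by
    constructor
    · intro a b hab
      funext i
      exact e.injective (congrFun hab i)
    · intro v
      exact ⟨fun i => e.symm (v i), by funext i; change e (e.symm (v i)) = v i; simp⟩
  refine ⟨h1, h2, φ.comp ρ, (AddMonoidHom.toMultiplicative ζ).comp ψ, ?_, ?_, ?_, ?_⟩
  · rw [MonoidHom.range_comp, hρ]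
    exact map_commutator_SL e
  · intro v
    obtain ⟨a, ha'⟩ := hζ.2 (Multiplicative.toAdd v)
    obtain ⟨u, hu⟩ := hψ (Multiplicative.ofAdd a)
    refine ⟨u, ?_⟩
    change Multiplicative.ofAdd (ζ (Multiplicative.toAdd (ψ u))) = v
    rw [hu]
    change Multiplicative.ofAdd (ζ a) = v
    rw [ha']
    rfl
  · intro u
    rw [← hk u]
    constructor
    · intro h
      have h2 : ζ (Multiplicative.toAdd (ψ u)) = ζ 0 := by
        rw [map_zero]
        exact congrArg Multiplicative.toAdd h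
      have h3 := hζ.1 h2
      exact congrArg Multiplicative.ofAdd h3
    · intro h
      change Multiplicative.ofAdd (ζ (Multiplicative.toAdd (ψ u))) = 1
      rw [h]
      change Multiplicative.ofAdd (ζ 0) = 1
      rw [map_zero]
      rfl
  · intro g u
    obtain ⟨w, hw, hw2⟩ := ha g u
    refine ⟨w, hw, ?_⟩
    change ζ (Multiplicative.toAdd (ψ w)) = _
    rw [hw2]
    funext i
    change e (((ρ g : Matrix.SpecialLinearGroup (Fin 2) F) : Matrix (Fin 2) (Fin 2) F).mulVec (Multiplicative.toAdd (ψ u)) i) = _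
    exact RingHom.map_mulVec (e : F →+* F') _ _ i

end transfer

/-! ### Sections over prime fields -/

section sec

variable {G : Type*} [Group G]

structure Sec (q : ℕ) [Fact q.Prime] (K : Subgroup (Matrix.SpecialLinearGroup (Fin 2) (ZMod q)))
    (E U U₀ : Subgroup G) where
  nU : E ≤ Subgroup.normalizer (U : Set G)
  le : U₀ ≤ U
  ρ : E →* Matrix.SpecialLinearGroup (Fin 2) (ZMod q)
  ψ : U →* Multiplicative (Fin 2 → ZMod q)
  rng : ρ.range = K
  surj : Function.Surjective ψ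
  ker : ∀ u : U, ψ u = 1 ↔ (u : G) ∈ U₀
  eqv : ∀ (e : E) (u : U), ∃ w : U, (w : G) = (e : G) * (u : G) * (e : G)⁻¹ ∧
    Multiplicative.toAdd (ψ w) = ((ρ e : Matrix.SpecialLinearGroup (Fin 2) (ZMod q)) : Matrix (Fin 2) (Fin 2) (ZMod q)).mulVec
      (Multiplicative.toAdd (ψ u))

theorem nonempty_sec_of_acts {q : ℕ} [Fact q.Prime] {K} {E U U₀ : Subgroup G}
    (h : ActsAsSL2OnSection (ZMod q) K E U U₀) : Nonempty (Sec q K E U U₀) := by
  obtain ⟨h1, h2, ρ, ψ, hρ, hψ, hk, ha⟩ := h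
  exact ⟨⟨h1, h2, ρ, ψ, hρ, hψ, hk, ha⟩⟩

theorem sl_mul_ext {q : ℕ} [Fact q.Prime] (A : Matrix.SpecialLinearGroup (Fin 2) (ZMod q))
    (h : ∀ v : Fin 2 → ZMod q, A.1.mulVec v = v) : A = 1 := by
  apply Subtype.ext
  ext i j
  have h1 := congrFun (h (Pi.single j 1)) i
  rw [Matrix.mulVec_single_one] at h1
  simpa [Matrix.one_apply, Pi.single_apply, eq_comm] using h1

namespace Sec

variable {q : ℕ} [Fact q.Prime] {K : Subgroup (Matrix.SpecialLinearGroup (Fin 2) (ZMod q))} {E U U₀ : Subgroup G}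
  (S : Sec q K E U U₀)

include S

/-- Coordinates. -/
def ev (u : U) : Fin 2 → ZMod q := Multiplicative.toAdd (S.ψ u)

theorem ev_mul (a b : U) : S.ev (a * b) = S.ev a + S.ev b := by
  simp [ev, map_mul]

theorem ev_one : S.ev 1 = 0 := by simp [ev]

theorem ev_inv (a : U) : S.ev a⁻¹ = - S.ev a := by
  simp [ev, map_inv]

theorem ev_pow (a : U) (n : ℕ) : S.ev (a ^ n) = n • S.ev a := by
  simp [ev, map_pow]

theorem ev_eq_zero {u : U} : S.ev u = 0 ↔ (u : G) ∈ U₀ := by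
  rw [← S.ker u]
  rfl

theorem ev_surj (v : Fin 2 → ZMod q) : ∃ u : U, S.ev u = v := by
  obtain ⟨u, hu⟩ := S.surj (Multiplicative.ofAdd v)
  exact ⟨u, by simp [ev, hu]⟩

theorem conj_mem (e : E) (u : U) : (e : G) * (u : G) * (e : G)⁻¹ ∈ U :=
  (Subgroup.mem_normalizer_iff.mp (S.nU e.2) u).mp u.2

/-- Conjugation on `U`. -/
def cj (e : E) (u : U) : U := ⟨(e : G) * (u : G) * (e : G)⁻¹, S.conj_mem e u⟩

theorem ev_cj (e : E) (u : U) : S.ev (S.cj e u) =
    ((S.ρ e : Matrix.SpecialLinearGroup (Fin 2) (ZMod q)) : Matrix (Fin 2) (Fin 2) (ZMod q)).mulVec (S.ev u) := by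
  obtain ⟨w, hw, hw2⟩ := S.eqv e u
  have : S.cj e u = w := Subtype.ext hw.symm
  rw [this]
  exact hw2

theorem cj_mul (e : E) (a b : U) : S.cj e (a * b) = S.cj e a * S.cj e b := by
  apply Subtype.ext
  simp only [cj, Subgroup.coe_mul]
  group

theorem cj_U₀ (e : E) {u : U} (hu : (u : G) ∈ U₀) : ((S.cj e u : U) : G) ∈ U₀ := by
  rw [← S.ev_eq_zero, ev_cj, S.ev_eq_zero.mpr hu, Matrix.mulVec_zero]

theorem conj_U₀ (e : E) {u : G} (hu : u ∈ U₀) : (e : G) * u * (e : G)⁻¹ ∈ U₀ :=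
  S.cj_U₀ e (u := ⟨u, S.le hu⟩) hu

theorem le_norm₀ [Finite G] : E ≤ Subgroup.normalizer (U₀ : Set G) := by
  intro e he
  refine Cfsg.Agent.Lib.BauSub.mem_normalizer_of_conj fun x hx => S.conj_U₀ ⟨e, he⟩ hx

/-- Conjugation by `e` is trivial on the section if the matrix is `1`. -/
theorem triv {e : E} (he : S.ρ e = 1) (u : U) : S.ev (S.cj e u) = S.ev u := by
  rw [ev_cj, he]; simp

/-- An element of `E` acting trivially on the section has trivial matrix. -/
theorem rho_eq_one_of {e : E} (h : ∀ u : U, S.ev (S.cj e u) = S.ev u) : S.ρ e = 1 := by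
  apply sl_mul_ext
  intro v
  obtain ⟨u, rfl⟩ := S.ev_surj v
  rw [← ev_cj, h]

/-- A non-abelian image gives `NotC3`-type data. -/
theorem not_comm (hK : ∃ A ∈ K, ∃ B ∈ K, ⁅A, B⁆ ≠ 1) :
    ∃ f ∈ (⁅E, E⁆ : Subgroup G), ∃ u ∈ U, u⁻¹ * (f * u * f⁻¹) ∉ U₀ := by
  obtain ⟨A, hA, B, hB, hAB⟩ := hK
  rw [← S.rng] at hA hB
  obtain ⟨a, rfl⟩ := hA
  obtain ⟨b, rfl⟩ := hB
  by_contra hcon
  push Not at hcon
  apply hAB
  rw [← map_commutatorElement]
  apply S.rho_eq_one_of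
  intro u
  have h1 := hcon ((⁅a, b⁆ : E) : G) (Subgroup.commutator_mem_commutator a.2 b.2) u u.2
  have h2 : S.ev (u⁻¹ * S.cj ⁅a, b⁆ u) = 0 := S.ev_eq_zero.mpr h1
  rw [ev_mul, ev_inv] at h2
  exact (neg_add_eq_zero.mp h2).symm

/-- Subgroups of `U` containing the kernel and a generating pair are everything. -/
theorem gen (D : Subgroup U) (h0 : ∀ u : U, (u : G) ∈ U₀ → u ∈ D) {x y : U} (hx : x ∈ D) (hy : y ∈ D)
    (hg : ∀ z : Fin 2 → ZMod q, ∃ i j : ZMod q, z = i • S.ev x + j • S.ev y) (u : U) : u ∈ D := by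
  obtain ⟨i, j, h⟩ := hg (S.ev u)
  have e1 : ∀ (n : ZMod q) (v : Fin 2 → ZMod q), n • v = (n.val) • v := by
    intro n v
    funext k
    simp [Pi.smul_apply, nsmul_eq_mul]
  have h2 : S.ev ((x ^ i.val * y ^ j.val)⁻¹ * u) = 0 := by
    rw [ev_mul, ev_inv, ev_mul, ev_pow, ev_pow, h, e1 i, e1 j]
    simp
  have h3 := h0 _ (S.ev_eq_zero.mp h2)
  have h4 : x ^ i.val * y ^ j.val ∈ D := D.mul_mem (D.pow_mem hx _) (D.pow_mem hy _)
  have e2 : u = (x ^ i.val * y ^ j.val) * ((x ^ i.val * y ^ j.val)⁻¹ * u) := by group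
  rw [e2]
  exact D.mul_mem h4 h3

end Sec

end sec

end Cfsg.Agent.Lib.BauSub
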