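import Mathlib
import Cfsg.Agent.Lib.BauSub3

/-!
# Baumann blocks: sections over `𝔽₃`
-/

set_option autoImplicit false

open Cfsg
open scoped commutatorElement

namespace Cfsg.Agent.Lib.BauSub

open Cfsg.Agent.Lib.BauBlock Cfsg.Agent.Lib.BauBlock2 Cfsg.Agent.Lib.PLocalTools Cfsg.Agent.Lib.BauSchur

section

variable {G : Type*} [Group G]

structure SecK (q : ℕ) [Fact q.Prime] (K : Subgroup (Matrix.SpecialLinearGroup (Fin 2) (ZMod q)))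
    (Q E U U₀ : Subgroup G) extends Sec q K E U U₀ where
  kerρ : ∀ e : E, toSec.ρ e = 1 ↔ (e : G) ∈ Q

theorem Sec.ev_eq_iff {q : ℕ} [Fact q.Prime] {K} {E U U₀ : Subgroup G} (S : Sec q K E U U₀) {a b : U} :
    S.ev a = S.ev b ↔ (a : G)⁻¹ * (b : G) ∈ U₀ := by
  have h : S.ev (a⁻¹ * b) = 0 ↔ ((a⁻¹ * b : U) : G) ∈ U₀ := S.ev_eq_zero
  rw [Sec.ev_mul, Sec.ev_inv, neg_add_eq_zero] at h
  exact h

theorem Sec.ev_eq_neg_iff {q : ℕ} [Fact q.Prime] {K} {E U U₀ : Subgroup G} (S : Sec q K E U U₀) {a b : U} :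
    S.ev a = - S.ev b ↔ (a : G) * (b : G) ∈ U₀ := by
  have h : S.ev (a * b) = 0 ↔ ((a * b : U) : G) ∈ U₀ := S.ev_eq_zero
  rw [Sec.ev_mul, add_eq_zero_iff_eq_neg] at h
  exact h

theorem Sec.cj_one {q : ℕ} [Fact q.Prime] {K} {E U U₀ : Subgroup G} (S : Sec q K E U U₀) (u : U) :
    S.cj 1 u = u := by
  apply Subtype.ext
  simp [Sec.cj]

theorem Sec.cj_mul_left {q : ℕ} [Fact q.Prime] {K} {E U U₀ : Subgroup G} (S : Sec q K E U U₀) (a b : E) (u : U) :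
    S.cj (a * b) u = S.cj a (S.cj b u) := by
  apply Subtype.ext
  simp only [Sec.cj, Subgroup.coe_mul]
  group

theorem Sec.cj_inv {q : ℕ} [Fact q.Prime] {K} {E U U₀ : Subgroup G} (S : Sec q K E U U₀) (e : E) (u : U) :
    S.cj e u⁻¹ = (S.cj e u)⁻¹ := by
  apply Subtype.ext
  simp only [Sec.cj, Subgroup.coe_inv]
  group

theorem Sec.cj_one_right {q : ℕ} [Fact q.Prime] {K} {E U U₀ : Subgroup G} (S : Sec q K E U U₀) (e : E) :
    S.cj e 1 = 1 := by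
  apply Subtype.ext
  simp [Sec.cj]

section three

variable {E U U₀ Q : Subgroup G}

theorem Sec.isQ_rho (S : Sec 3 K3 E U U₀) (e : E) : IsQ (S.ρ e) :=
  K3_le_isQ (by
    have h : S.ρ e ∈ S.ρ.range := ⟨e, rfl⟩
    rw [S.rng] at h
    exact h)

theorem Sec.ex_rho (S : Sec 3 K3 E U U₀) {A : S3} (hA : IsQ A) : ∃ e : E, S.ρ e = A := by
  have : A ∈ S.ρ.range := by rw [S.rng]; exact isQ_mem_K3 hA
  exact this

/-- Two `Q₈`-sections on the same section act alike. -/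
theorem same_action {E F : Subgroup G} (S₁ : Sec 3 K3 E U U₀) (S₂ : Sec 3 K3 F U U₀) (x : E) :
    ∃ y : F, ∀ u : U, S₁.ev (S₁.cj x u) = S₁.ev (S₂.cj y u) := by
  by_cases h1 : S₁.ρ x = 1
  · refine ⟨1, fun u => ?_⟩
    rw [S₂.cj_one, S₁.ev_cj, h1]
    simp
  by_cases h2 : S₁.ρ x = -1
  · obtain ⟨y, hy⟩ := S₂.ex_rho isQ_neg
    refine ⟨y, fun u => ?_⟩
    rw [S₁.ev_cj, h2, neg_one_act]
    have h3 : S₂.ev (S₂.cj y u) = - S₂.ev u := by rw [S₂.ev_cj, hy, neg_one_act]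
    have h4 := S₂.ev_eq_neg_iff.mp h3
    exact (S₁.ev_eq_neg_iff.mpr h4).symm ▸ rfl
  -- the generic case
  have hA := S₁.isQ_rho x
  have hA2 := isQ_not_one_sq _ hA h1 h2
  let v₀ : Fin 2 → ZMod 3 := ![1, 0]
  have hv₀ : v₀ ≠ 0 := by decide
  obtain ⟨u₁, hu₁⟩ := S₁.ev_surj v₀
  set u₂ := S₁.cj x u₁ with hu₂
  have hu₂e : S₁.ev u₂ = (S₁.ρ x).1.mulVec v₀ := by rw [hu₂, S₁.ev_cj, hu₁]
  obtain ⟨hne1, hne2⟩ := isQ_noeig _ v₀ hA h1 h2 hv₀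
  have hA3 : ∀ v : Fin 2 → ZMod 3, (S₁.ρ x).1.mulVec ((S₁.ρ x).1.mulVec v) = - v := by
    intro v
    rw [Matrix.mulVec_mulVec]
    have : (S₁.ρ x).1 * (S₁.ρ x).1 = ((S₁.ρ x * S₁.ρ x : S3)).1 := rfl
    rw [this, hA2, neg_one_act]
  have hu₂ne : S₁.ev u₂ ≠ 0 := by
    rw [hu₂e]
    intro h0
    have := hA3 v₀
    rw [h0, Matrix.mulVec_zero] at this
    exact hv₀ (neg_eq_zero.mp this.symm)
  have hz : ∀ u : U, S₁.ev u ≠ 0 → S₂.ev u ≠ 0 := by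
    intro u hu h0
    exact hu (S₁.ev_eq_zero.mpr (S₂.ev_eq_zero.mp h0))
  obtain ⟨B, hB, hBv⟩ := isQ_trans (S₂.ev u₁) (S₂.ev u₂) (hz _ (by rw [hu₁]; exact hv₀)) (hz _ hu₂ne)
  obtain ⟨y, hy⟩ := S₂.ex_rho hB
  have hy1 : S₂.ev (S₂.cj y u₁) = S₂.ev u₂ := by rw [S₂.ev_cj, hy, hBv]
  have hy1' : S₁.ev (S₂.cj y u₁) = S₁.ev u₂ := S₁.ev_eq_iff.mpr (S₂.ev_eq_iff.mp hy1)
  have hB1 : B ≠ 1 := by
    rintro rfl
    have h5 : S₂.ev u₂ = S₂.ev u₁ := by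
      rw [← hBv]; simp
    have h6 := S₁.ev_eq_iff.mpr (S₂.ev_eq_iff.mp h5)
    rw [hu₂e, hu₁] at h6
    exact hne1 h6
  have hB2 : B ≠ -1 := by
    rintro rfl
    have h5 : S₂.ev u₂ = - S₂.ev u₁ := by
      rw [← hBv, neg_one_act]
    have h6 := S₁.ev_eq_neg_iff.mpr (S₂.ev_eq_neg_iff.mp h5)
    rw [hu₂e, hu₁] at h6
    exact hne2 h6
  have hB3 := isQ_not_one_sq _ hB hB1 hB2
  have hy2 : S₂.ev (S₂.cj y u₂) = - S₂.ev u₁ := by
    rw [S₂.ev_cj, hy, ← hBv, Matrix.mulVec_mulVec]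
    have : B.1 * B.1 = ((B * B : S3)).1 := rfl
    rw [this, hB3, neg_one_act]
  have hy2' : S₁.ev (S₂.cj y u₂) = - S₁.ev u₁ := S₁.ev_eq_neg_iff.mpr (S₂.ev_eq_neg_iff.mp hy2)
  refine ⟨y, ?_⟩
  let D : Subgroup U :=
    { carrier := {u | S₁.ev (S₁.cj x u) = S₁.ev (S₂.cj y u)}
      mul_mem' := by
        intro a b ha hb
        change S₁.ev (S₁.cj x (a * b)) = S₁.ev (S₂.cj y (a * b))
        rw [S₁.cj_mul, S₂.cj_mul, S₁.ev_mul, S₁.ev_mul, show S₁.ev (S₁.cj x a) = S₁.ev (S₂.cj y a) from ha,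
          show S₁.ev (S₁.cj x b) = S₁.ev (S₂.cj y b) from hb]
      one_mem' := by
        change S₁.ev (S₁.cj x 1) = S₁.ev (S₂.cj y 1)
        rw [S₁.cj_one_right, S₂.cj_one_right]
      inv_mem' := by
        intro a ha
        change S₁.ev (S₁.cj x a⁻¹) = S₁.ev (S₂.cj y a⁻¹)
        rw [S₁.cj_inv, S₂.cj_inv, S₁.ev_inv, S₁.ev_inv, show S₁.ev (S₁.cj x a) = S₁.ev (S₂.cj y a) from ha] }
  have hD : ∀ u : U, u ∈ D := by
    refine S₁.gen D ?_ (x := u₁) (y := u₂) ?_ ?_ ?_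
    · intro u hu
      change S₁.ev (S₁.cj x u) = S₁.ev (S₂.cj y u)
      rw [S₁.ev_eq_zero.mpr (S₁.cj_U₀ x hu), S₁.ev_eq_zero.mpr (S₂.cj_U₀ y hu)]
    · change S₁.ev (S₁.cj x u₁) = S₁.ev (S₂.cj y u₁)
      rw [hy1']
    · change S₁.ev (S₁.cj x u₂) = S₁.ev (S₂.cj y u₂)
      rw [hy2', hu₁, S₁.ev_cj, hu₂e, hA3]
    · intro z
      rw [hu₁, hu₂e]
      exact gen3 _ _ z hv₀ (by rw [← hu₂e]; exact hu₂ne) hne1 hne2
  exact hD

end three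

end

/-! ### The subgroup `P = [W, E]` for `p = 3` -/

section P3

variable {G : Type*} [Group G] [Finite G] {E : Subgroup G}
  (S : SecK 3 K3 (Qb 3 E) E (Wb 3 E) (Zb 3 E)) (hEs : E.IsSubnormal)

set_option maxRecDepth 100000 in
theorem neg_central : ∀ A : S3, (-1 : S3) * A = A * (-1 : S3) := by decide

include S in
theorem comm_t_mem_Q {t e : E} (ht : S.ρ t = -1) : (t : G) * e * (t : G)⁻¹ * (e : G)⁻¹ ∈ Qb 3 E := by
  have h := (S.kerρ (t * e * t⁻¹ * e⁻¹)).mp (by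
    simp only [map_mul, map_inv, ht]
    rw [neg_central (S.ρ e)]
    simp)
  simpa using h

include S hEs in
/-- `t` inverts `P = [W, E]`. -/
theorem inv_P {t : E} (ht : S.ρ t = -1) {v : G} (hv : v ∈ (⁅Wb 3 E, E⁆ : Subgroup G)) :
    (t : G) * v * (t : G)⁻¹ * v = 1 := by
  let D : Subgroup G :=
    { carrier := {v | v ∈ Wb 3 E ∧ (t : G) * v * (t : G)⁻¹ * v = 1}
      one_mem' := ⟨Subgroup.one_mem _, by simp⟩
      mul_mem' := by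
        rintro a b ⟨ha, ha2⟩ ⟨hb, hb2⟩
        refine ⟨Subgroup.mul_mem _ ha hb, ?_⟩
        have h1 := W_comm_W (conj_W_of_mem hEs t.2 hb) ha
        calc (t : G) * (a * b) * (t : G)⁻¹ * (a * b)
            = ((t : G) * a * (t : G)⁻¹) * (((t : G) * b * (t : G)⁻¹) * a) * b := by group
          _ = ((t : G) * a * (t : G)⁻¹) * (a * ((t : G) * b * (t : G)⁻¹)) * b := by rw [h1]
          _ = ((t : G) * a * (t : G)⁻¹ * a) * ((t : G) * b * (t : G)⁻¹ * b) := by group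
          _ = 1 := by rw [ha2, hb2]; simp
      inv_mem' := by
        rintro a ⟨ha, ha2⟩
        refine ⟨Subgroup.inv_mem _ ha, ?_⟩
        have h1 := W_comm_W (conj_W_of_mem hEs t.2 ha) ha
        calc (t : G) * a⁻¹ * (t : G)⁻¹ * a⁻¹ = ((t : G) * a * (t : G)⁻¹)⁻¹ * a⁻¹ := by group
          _ = (a * ((t : G) * a * (t : G)⁻¹))⁻¹ := by group
          _ = ((t : G) * a * (t : G)⁻¹ * a)⁻¹ := by rw [h1]
          _ = 1 := by rw [ha2]; simp }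
  have hle : (⁅Wb 3 E, E⁆ : Subgroup G) ≤ D := by
    rw [Subgroup.commutator_le]
    intro w hw e he
    refine ⟨P_le_W hEs (Subgroup.commutator_mem_commutator hw he), ?_⟩
    rw [commutatorElement_def]
    set a := (t : G) * w * (t : G)⁻¹ with ha
    have haW : a ∈ Wb 3 E := conj_W_of_mem hEs t.2 hw
    have hq := comm_t_mem_Q S (t := t) (e := ⟨e, he⟩) ht
    set q := (t : G) * e * (t : G)⁻¹ * e⁻¹ with hqd
    have hb : e * a⁻¹ * e⁻¹ ∈ Wb 3 E := conj_W_of_mem hEs he (Subgroup.inv_mem _ haW)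
    have e1 : (t : G) * (e * w⁻¹ * e⁻¹) * (t : G)⁻¹ = q * (e * a⁻¹ * e⁻¹) * q⁻¹ := by
      rw [hqd, ha]; group
    have e2 : q * (e * a⁻¹ * e⁻¹) * q⁻¹ = e * a⁻¹ * e⁻¹ := by
      rw [W_comm_Q hb hq |>.symm]; group
    have hn : a * w ∈ Zb 3 E := by
      have h1 : (⟨w, hw⟩ : Wb 3 E) = ⟨w, hw⟩ := rfl
      have h2 := (Sec.ev_eq_neg_iff S.toSec (a := S.cj t ⟨w, hw⟩) (b := ⟨w, hw⟩)).mp (by
        rw [Sec.ev_cj, ht, neg_one_act])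
      exact h2
    have hz := Z_comm_E hn he
    have hw' : e * w⁻¹ * e⁻¹ ∈ Wb 3 E := conj_W_of_mem hEs he (Subgroup.inv_mem _ hw)
    have hcomm1 : (e * a⁻¹ * e⁻¹) * w = w * (e * a⁻¹ * e⁻¹) := W_comm_W hb hw
    have hcomm2 : a * w = w * a := W_comm_W haW hw
    have hcomm3 : a⁻¹ * w⁻¹ = (a * w)⁻¹ :=
      calc a⁻¹ * w⁻¹ = w⁻¹ * a⁻¹ := W_comm_W (Subgroup.inv_mem _ haW) (Subgroup.inv_mem _ hw)
        _ = (a * w)⁻¹ := by group
    calc (t : G) * (w * e * w⁻¹ * e⁻¹) * (t : G)⁻¹ * (w * e * w⁻¹ * e⁻¹)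
        = a * ((t : G) * (e * w⁻¹ * e⁻¹) * (t : G)⁻¹) * w * (e * w⁻¹ * e⁻¹) := by rw [ha]; group
      _ = a * (e * a⁻¹ * e⁻¹) * w * (e * w⁻¹ * e⁻¹) := by rw [e1, e2]
      _ = a * ((e * a⁻¹ * e⁻¹) * w) * (e * w⁻¹ * e⁻¹) := by group
      _ = a * (w * (e * a⁻¹ * e⁻¹)) * (e * w⁻¹ * e⁻¹) := by rw [hcomm1]
      _ = (a * w) * (e * (a⁻¹ * w⁻¹) * e⁻¹) := by group
      _ = (a * w) * (e * (a * w)⁻¹ * e⁻¹) := by rw [hcomm3]
      _ = (a * w) * (e * (a * w) * e⁻¹)⁻¹ := by group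
      _ = 1 := by rw [hz]; group
  exact (hle hv).2

include S hEs in
theorem P_inf_Z {v : G} (hv : v ∈ (⁅Wb 3 E, E⁆ : Subgroup G)) (hz : v ∈ Zb 3 E) : v = 1 := by
  obtain ⟨t, ht⟩ := S.ex_rho isQ_neg
  have h1 := inv_P S hEs ht hv
  rw [Z_comm_E hz t.2] at h1
  have h3 : v ^ 3 = 1 := W_pow hz.1
  have e : v = v ^ 3 * (v * v)⁻¹ := by group
  rw [e, h3, h1]; simp

include S hEs in
/-- Non-kernel elements have no fixed points on `P`. -/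
theorem fpf_P {e : E} (he : (e : G) ∉ Qb 3 E) {v : G} (hv : v ∈ (⁅Wb 3 E, E⁆ : Subgroup G))
    (hfix : (e : G) * v * (e : G)⁻¹ = v) : v = 1 := by
  have hvW := P_le_W hEs hv
  refine P_inf_Z S hEs hv ?_
  have hρ : S.ρ e ≠ 1 := fun h' => he ((S.kerρ e).mp h')
  have h1 : S.ev (S.cj e ⟨v, hvW⟩) = S.ev ⟨v, hvW⟩ := by
    congr 1
    exact Subtype.ext hfix
  rw [Sec.ev_cj] at h1
  have := isQ_fpf _ _ (Sec.isQ_rho S.toSec e) hρ h1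
  exact Sec.ev_eq_zero S.toSec |>.mp this

include S hEs in
theorem card_P (hW : Wb 3 E ≤ ⁅Wb 3 E, E⁆ ⊔ Zb 3 E) : Nat.card (⁅Wb 3 E, E⁆ : Subgroup G) = 9 := by
  let f : (⁅Wb 3 E, E⁆ : Subgroup G) → (Fin 2 → ZMod 3) := fun v => S.ev ⟨v, P_le_W hEs v.2⟩
  have hf : Function.Bijective f := by
    constructor
    · intro a b hab
      have h1 := Sec.ev_eq_iff S.toSec |>.mp hab
      have h2 : (a : G)⁻¹ * b = 1 := P_inf_Z S hEs (Subgroup.mul_mem _ (Subgroup.inv_mem _ a.2) b.2) h1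
      apply Subtype.ext
      have : (b : G) = a * ((a : G)⁻¹ * b) := by group
      rw [this, h2, mul_one]
    · intro v
      obtain ⟨u, hu⟩ := Sec.ev_surj S.toSec v
      obtain ⟨a, ha, z, hz, huz⟩ := mem_sup_W (P_le_W hEs) Zb_le_W (hW u.2)
      refine ⟨⟨a, ha⟩, ?_⟩
      rw [← hu]
      apply Sec.ev_eq_iff S.toSec |>.mpr
      change a⁻¹ * (u : G) ∈ _
      rw [huz]
      simpa using hz
  rw [Nat.card_eq_of_bijective f hf, Nat.card_eq_fintype_card]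
  decide

end P3

end Cfsg.Agent.Lib.BauSub
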