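import Mathlib
import Cfsg.Agent.Lib.BauSub4

/-!
# Baumann blocks: the types
-/

set_option autoImplicit false

open Cfsg
open scoped commutatorElement

namespace Cfsg.Agent.Lib.BauSub

open Cfsg.Agent.Lib.BauBlock Cfsg.Agent.Lib.BauBlock2 Cfsg.Agent.Lib.PLocalTools Cfsg.Agent.Lib.BauSchur
  Cfsg.Agent.Lib.BauSec Cfsg.Agent.Lib.LocalCore

section

variable {G : Type*} [Group G]

theorem acts_not_comm {F : Type*} [Field F] {K : Subgroup (Matrix.SpecialLinearGroup (Fin 2) F)} {E U U₀ : Subgroup G}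
    (h : ActsAsSL2OnSection F K E U U₀) (hK : ∃ A ∈ K, ∃ B ∈ K, ⁅A, B⁆ ≠ 1) :
    ∃ f ∈ (⁅E, E⁆ : Subgroup G), ∃ u ∈ U, u⁻¹ * (f * u * f⁻¹) ∉ U₀ := by
  obtain ⟨_, _, ρ, ψ, hρ, hψ, hk, ha⟩ := h
  obtain ⟨A, hA, B, hB, hAB⟩ := hK
  rw [← hρ] at hA hB
  obtain ⟨a, rfl⟩ := hA
  obtain ⟨b, rfl⟩ := hB
  by_contra hcon
  push Not at hcon
  apply hAB
  rw [← map_commutatorElement]
  apply Subtype.ext
  ext i j
  obtain ⟨u, hu⟩ := hψ (Multiplicative.ofAdd (Pi.single j 1))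
  have h1 := hcon ((⁅a, b⁆ : E) : G) (Subgroup.commutator_mem_commutator a.2 b.2) u u.2
  obtain ⟨w, hw, hw2⟩ := ha ⁅a, b⁆ u
  have h2 : ψ (u⁻¹ * w) = 1 := (hk _).mpr (by
    change (u : G)⁻¹ * (w : G) ∈ U₀
    rw [hw]; exact h1)
  have h3 : ψ w = ψ u := by
    rw [map_mul, map_inv] at h2
    exact (inv_mul_eq_one.mp h2).symm
  rw [h3, hu] at hw2
  change Pi.single j 1 = ((ρ ⁅a, b⁆ : Matrix.SpecialLinearGroup (Fin 2) F) : Matrix (Fin 2) (Fin 2) F).mulVec (Pi.single j 1) at hw2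
  have h4 := congrFun hw2 i
  rw [Matrix.mulVec_single_one] at h4
  rw [Matrix.SpecialLinearGroup.coe_one, Matrix.one_apply]
  simpa [Pi.single_apply, eq_comm] using h4.symm

variable [Finite G]

theorem kerρ_of {p q : ℕ} [Fact p.Prime] [Fact q.Prime] {K} {E U U₀ : Subgroup G} (S : Sec q K E U U₀)
    (hcard : Nat.card (E ⧸ pCore p E) = Nat.card K)
    (htriv : ∀ a : E, (a : G) ∈ Qb p E → ∀ u : U, S.ev (S.cj a u) = S.ev u) :
    ∀ e : E, S.ρ e = 1 ↔ (e : G) ∈ Qb p E := by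
  have hle : pCore p E ≤ S.ρ.ker := by
    intro e he
    rw [MonoidHom.mem_ker]
    exact S.rho_eq_one_of (htriv e ⟨e, he, rfl⟩)
  have hi : (pCore p E).index = S.ρ.ker.index := by
    rw [Subgroup.index_ker, S.rng, ← hcard]
    rfl
  have hc : Nat.card S.ρ.ker ≤ Nat.card (pCore p E) := by
    have h1 := Subgroup.card_mul_index (pCore p E)
    have h2 := Subgroup.card_mul_index S.ρ.ker
    rw [hi] at h1
    have hpos : 0 < S.ρ.ker.index := Nat.pos_of_ne_zero Subgroup.index_ne_zero_of_finite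
    exact (Nat.eq_of_mul_eq_mul_right hpos (h2.trans h1.symm)).le
  have heq := Subgroup.eq_of_le_of_card_ge hle hc
  intro e
  rw [← MonoidHom.mem_ker, ← heq]
  constructor
  · intro h
    exact ⟨e, h, rfl⟩
  · rintro ⟨x, hx, hxe⟩
    have : x = e := Subtype.ext hxe
    rwa [← this]

set_option maxRecDepth 100000 in
theorem card_K3 : Nat.card K3 = 8 := by
  have h : Nat.card K3 = Nat.card {A : S3 // IsQ A} :=
    Nat.card_congr (Equiv.subtypeEquivRight fun A => ⟨K3_le_isQ, isQ_mem_K3⟩)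
  rw [h, Nat.card_eq_fintype_card]
  decide

set_option maxRecDepth 100000 in
theorem card_K2 : Nat.card K2 = 3 := by
  have h : Nat.card K2 = Nat.card {A : S2 // IsC A} :=
    Nat.card_congr (Equiv.subtypeEquivRight fun A => ⟨K2_le_isC, isC_mem_K2⟩)
  rw [h, Nat.card_eq_fintype_card]
  decide

/-- Small blocks at `p = 3`. -/
structure Sm3 (E : Subgroup G) : Prop where
  card : Nat.card (E ⧸ pCore 3 E) = 8
  sW : Nonempty (SecK 3 K3 (Qb 3 E) E (Wb 3 E) (Zb 3 E))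
  sQ : Qb 3 E = Wb 3 E ∨ Nonempty (SecK 3 K3 (Qb 3 E) E (Qb 3 E) (Wb 3 E))

/-- Small blocks at `p = 2`. -/
structure Sm2 (E : Subgroup G) : Prop where
  card : Nat.card (E ⧸ pCore 2 E) = 3
  qw : Qb 2 E = Wb 2 E
  fpf : ∀ x ∈ E, x ∉ Qb 2 E → ∀ u ∈ Wb 2 E, u⁻¹ * (x * u * x⁻¹) ∈ Zb 2 E → u ∈ Zb 2 E
  cardW : Zb 2 E = ⊥ → Nat.card (Wb 2 E) = 4

theorem triv_W {p q : ℕ} [Fact p.Prime] [Fact q.Prime] {K} {E : Subgroup G} (S : Sec q K E (Wb p E) (Zb p E)) (a : E)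
    (ha : (a : G) ∈ Qb p E) (u : Wb p E) : S.ev (S.cj a u) = S.ev u := by
  congr 1
  apply Subtype.ext
  change (a : G) * u * (a : G)⁻¹ = u
  rw [← W_comm_Q u.2 ha]
  group

theorem sm3_of {E : Subgroup G} (hcard : Nat.card (E ⧸ pCore 3 E) = 8)
    (h1 : ActsAsSL2OnSection (ZMod 3) K3 E (Wb 3 E) (Zb 3 E))
    (h2 : Qb 3 E = Wb 3 E ∨ (ActsAsSL2OnSection (ZMod 3) K3 E (Qb 3 E) (Wb 3 E) ∧
      ⁅Qb 3 E, Qb 3 E⁆ = Zb 3 E)) : Sm3 E := by
  obtain ⟨S⟩ := nonempty_sec_of_acts h1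
  have hc : Nat.card (E ⧸ pCore 3 E) = Nat.card K3 := by rw [hcard, card_K3]
  refine ⟨hcard, ⟨⟨S, kerρ_of S hc (triv_W S)⟩⟩, ?_⟩
  rcases h2 with h | ⟨h, hcomm⟩
  · exact Or.inl h
  · refine Or.inr ?_
    obtain ⟨S'⟩ := nonempty_sec_of_acts h
    refine ⟨⟨S', kerρ_of S' hc ?_⟩⟩
    intro a ha u
    apply Sec.ev_eq_iff S' |>.mpr
    have hm : ⁅(a : G), (u : G)⁻¹⁆ ∈ (⁅Qb 3 E, Qb 3 E⁆ : Subgroup G) :=
      Subgroup.commutator_mem_commutator ha (Subgroup.inv_mem _ u.2)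
    rw [hcomm] at hm
    have e1 : (((S'.cj a u : Qb 3 E) : G))⁻¹ * (u : G) = ⁅(a : G), (u : G)⁻¹⁆ := by
      simp only [Sec.cj, commutatorElement_def]; group
    rw [e1]
    exact hm.1

theorem sm2_of_linear {E : Subgroup G} (hcard : Nat.card (E ⧸ pCore 2 E) = 3) (hq : Qb 2 E = Wb 2 E)
    (h1 : ActsAsSL2OnSection (ZMod 2) K2 E (Wb 2 E) (Zb 2 E)) : Sm2 E := by
  obtain ⟨S⟩ := nonempty_sec_of_acts h1
  have hc : Nat.card (E ⧸ pCore 2 E) = Nat.card K2 := by rw [hcard, card_K2]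
  have hk := kerρ_of S hc (triv_W S)
  refine ⟨hcard, hq, ?_, ?_⟩
  · intro x hx hxQ u hu h
    have hρ : S.ρ ⟨x, hx⟩ ≠ 1 := fun h' => hxQ ((hk ⟨x, hx⟩).mp h')
    have hC : IsC (S.ρ ⟨x, hx⟩) := K2_le_isC (by
      have h' : S.ρ ⟨x, hx⟩ ∈ S.ρ.range := ⟨_, rfl⟩
      rw [S.rng] at h'
      exact h')
    have h1 : S.ev (S.cj ⟨x, hx⟩ ⟨u, hu⟩) = S.ev ⟨u, hu⟩ := ((Sec.ev_eq_iff S (a := ⟨u, hu⟩)
      (b := S.cj ⟨x, hx⟩ ⟨u, hu⟩)).mpr h).symm
    rw [Sec.ev_cj] at h1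
    exact Sec.ev_eq_zero S |>.mp (isC_fpf _ _ hC hρ h1)
  · intro hZ
    have hf : Function.Bijective (fun u : Wb 2 E => S.ev u) := by
      constructor
      · intro a b hab
        have h2 := Sec.ev_eq_iff S |>.mp hab
        rw [hZ, Subgroup.mem_bot] at h2
        apply Subtype.ext
        exact inv_mul_eq_one.mp h2
      · exact S.ev_surj
    rw [Nat.card_eq_of_bijective _ hf, Nat.card_eq_fintype_card]
    decide

set_option maxRecDepth 100000 in
theorem alt3_ext : ∀ σ : Equiv.Perm (Fin 3), (∀ v : Fin 3 → ZMod 2, ∑ i, v i = 0 → ∀ i, v (σ⁻¹ i) = v i) → σ = 1 := by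
  decide

set_option maxRecDepth 100000 in
theorem alt3_fpf : ∀ σ : Equiv.Perm (Fin 3), Equiv.Perm.sign σ = 1 → σ ≠ 1 → ∀ v : Fin 3 → ZMod 2, ∑ i, v i = 0 →
    (∀ i, v (σ⁻¹ i) = v i) → v = 0 := by
  decide

set_option maxRecDepth 100000 in
theorem card_alt3 : Nat.card (alternatingGroup (Fin 3)) = 3 := by
  rw [Nat.card_eq_fintype_card]
  decide

set_option maxRecDepth 100000 in
theorem card_even3 : Nat.card {v : Fin 3 → ZMod 2 // ∑ i, v i = 0} = 4 := by
  rw [Nat.card_eq_fintype_card]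
  decide

theorem sm2_of_alt {E : Subgroup G} (hcard : Nat.card (E ⧸ pCore 2 E) = 3) (hq : Qb 2 E = Wb 2 E)
    (h1 : ActsAsOddPermModuleOnSection 3 (alternatingGroup (Fin 3)) E (Wb 2 E) (Zb 2 E)) : Sm2 E := by
  obtain ⟨_, _, ρ, ψ, hρ, h0, hs, hk, ha⟩ := h1
  have hker : ∀ e : E, ρ e = 1 ↔ (e : G) ∈ Qb 2 E := by
    have hle : pCore 2 E ≤ ρ.ker := by
      intro e he
      rw [MonoidHom.mem_ker]
      refine alt3_ext _ fun v hv i => ?_
      obtain ⟨u, hu⟩ := hs v hv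
      obtain ⟨w, hw, hw2⟩ := ha e u
      have hwu : w = u := by
        apply Subtype.ext
        rw [hw, ← W_comm_Q u.2 (⟨e, he, rfl⟩ : (e : G) ∈ Qb 2 E)]
        group
      rw [hwu, hu] at hw2
      exact (hw2 i).symm
    have hi : (pCore 2 E).index = ρ.ker.index := by
      rw [Subgroup.index_ker, hρ, card_alt3, ← hcard]
      rfl
    have hc : Nat.card ρ.ker ≤ Nat.card (pCore 2 E) := by
      have h1 := Subgroup.card_mul_index (pCore 2 E)
      have h2 := Subgroup.card_mul_index ρ.ker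
      rw [hi] at h1
      have hpos : 0 < ρ.ker.index := Nat.pos_of_ne_zero Subgroup.index_ne_zero_of_finite
      exact (Nat.eq_of_mul_eq_mul_right hpos (h2.trans h1.symm)).le
    have heq := Subgroup.eq_of_le_of_card_ge hle hc
    intro e
    rw [← MonoidHom.mem_ker, ← heq]
    constructor
    · intro h
      exact ⟨e, h, rfl⟩
    · rintro ⟨x, hx, hxe⟩
      have : x = e := Subtype.ext hxe
      rwa [← this]
  refine ⟨hcard, hq, ?_, ?_⟩
  · intro x hx hxQ u hu h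
    have hne : ρ ⟨x, hx⟩ ≠ 1 := fun h' => hxQ ((hker ⟨x, hx⟩).mp h')
    have hsign : Equiv.Perm.sign (ρ ⟨x, hx⟩) = 1 := by
      have h' : ρ ⟨x, hx⟩ ∈ ρ.range := ⟨_, rfl⟩
      rw [hρ] at h'
      exact h'
    obtain ⟨w, hw, hw2⟩ := ha ⟨x, hx⟩ ⟨u, hu⟩
    have h2 : ψ (⟨u, hu⟩⁻¹ * w) = 1 := (hk _).mpr (by
      change u⁻¹ * (w : G) ∈ _
      rw [hw]; exact h)
    have h3 : ψ w = ψ ⟨u, hu⟩ := by
      rw [map_mul, map_inv] at h2
      exact (inv_mul_eq_one.mp h2).symm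
    rw [h3] at hw2
    have h4 := alt3_fpf _ hsign hne _ (h0 ⟨u, hu⟩) (fun i => (hw2 i).symm)
    exact (hk ⟨u, hu⟩).mp h4
  · intro hZ
    let f : Wb 2 E → {v : Fin 3 → ZMod 2 // ∑ i, v i = 0} := fun u => ⟨Multiplicative.toAdd (ψ u), h0 u⟩
    have hf : Function.Bijective f := by
      constructor
      · intro a b hab
        have h1 : ψ a = ψ b := congrArg (fun x => Multiplicative.ofAdd x.1) hab
        have h2 : ψ (a⁻¹ * b) = 1 := by rw [map_mul, map_inv, h1]; simp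
        have h3 := (hk _).mp h2
        rw [hZ, Subgroup.mem_bot] at h3
        apply Subtype.ext
        exact inv_mul_eq_one.mp h3
      · rintro ⟨v, hv⟩
        obtain ⟨u, hu⟩ := hs v hv
        exact ⟨u, Subtype.ext hu⟩
    rw [Nat.card_eq_of_bijective f hf, card_even3]

/-- Good data of a quasisimple block. -/
def QSData (p : ℕ) (T E : Subgroup G) : Prop :=
  IsQuasisimple (E ⧸ pCore p E) ∧ NotC3 p E ∧
    (ExcData p T E → ∃ f ∈ (⁅E, E⁆ : Subgroup G), ∃ u ∈ Qb p E, u⁻¹ * (f * u * f⁻¹) ∉ Wb p E)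

theorem sl_nonab {F : Type*} [Field F] (hF : 4 ≤ Nat.card F) [Fintype F] :
    IsQuasisimple (Matrix.SpecialLinearGroup (Fin 2) F) ∧
    commutator (Matrix.SpecialLinearGroup (Fin 2) F) = ⊤ ∧
    ∃ A ∈ commutator (Matrix.SpecialLinearGroup (Fin 2) F),
      ∃ B ∈ commutator (Matrix.SpecialLinearGroup (Fin 2) F), ⁅A, B⁆ ≠ 1 := by
  have hqs : IsQuasisimple (Matrix.SpecialLinearGroup (Fin 2) F) :=
    Cfsg.Agent.Lib.SLBlock.qs_SL_two (Fintype.card_fin 2) hF
  have hp : commutator (Matrix.SpecialLinearGroup (Fin 2) F) = ⊤ := hqs.1.commutator_eq_top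
  refine ⟨hqs, hp, upp 1, by rw [hp]; trivial, low 1, by rw [hp]; trivial, ?_⟩
  intro h
  rw [commutatorElement_eq_one_iff_mul_comm] at h
  have := congrArg (fun M : Matrix.SpecialLinearGroup (Fin 2) F => M.1 0 0) h
  change ((upp (1 : F)).1 * (low (1 : F)).1) 0 0 = ((low (1 : F)).1 * (upp (1 : F)).1) 0 0 at this
  simp [upp, low, Matrix.mul_apply, Fin.sum_univ_two] at this

theorem qs_of_alt {n : ℕ} (h5 : 5 ≤ Nat.card (Fin n)) : IsQuasisimple (alternatingGroup (Fin n)) := by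
  have hs := alternatingGroup.isSimpleGroup (α := Fin n) h5
  have hp := commutator_alternatingGroup_eq_top (α := Fin n) h5
  refine qs_of_perfect hp fun N hN => ?_
  rcases hs.eq_bot_or_eq_top_of_normal N hN with h | h
  · exact Or.inr (h ▸ bot_le)
  · exact Or.inl h

theorem notC3_of_alt {n : ℕ} (hn : 5 ≤ n) {E U U₀ : Subgroup G}
    (h : ActsAsOddPermModuleOnSection n (alternatingGroup (Fin n)) E U U₀) :
    ∃ f ∈ (⁅E, E⁆ : Subgroup G), ∃ u ∈ U, u⁻¹ * (f * u * f⁻¹) ∉ U₀ := by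
  obtain ⟨_, _, ρ, ψ, hρ, h0, hs, hk, ha⟩ := h
  let a : Fin n := ⟨0, by omega⟩
  let b : Fin n := ⟨1, by omega⟩
  let c : Fin n := ⟨2, by omega⟩
  have hab : a ≠ b := by simp [a, b, Fin.ext_iff]
  have hbc : b ≠ c := by simp [b, c, Fin.ext_iff]
  have hac : a ≠ c := by simp [a, c, Fin.ext_iff]
  have h5 : 5 ≤ Nat.card (Fin n) := by simpa using hn
  have hσ := cyc_mem hab hbc
  rw [← commutator_alternatingGroup_eq_self h5, ← hρ, MonoidHom.range_eq_map, ← Subgroup.map_commutator] at hσ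
  obtain ⟨f₀, hf₀, hfσ⟩ := hσ
  have hfE : (f₀ : G) ∈ (⁅E, E⁆ : Subgroup G) := by
    rw [← Subgroup.map_subtype_commutator]
    exact ⟨f₀, hf₀, rfl⟩
  refine ⟨f₀, hfE, ?_⟩
  have hsum : ∑ i, wt2 a b i = 0 := by
    simp only [wt2, Pi.add_apply, Finset.sum_add_distrib, Finset.sum_pi_single', Finset.mem_univ, if_true]
    decide
  obtain ⟨u, hu⟩ := hs _ hsum
  refine ⟨u, u.2, fun hmem => ?_⟩
  obtain ⟨w, hw, hw2⟩ := ha f₀ u
  have h2 : ψ (u⁻¹ * w) = 1 := (hk _).mpr (by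
    change (u : G)⁻¹ * (w : G) ∈ _
    rw [hw]; exact hmem)
  have h3 : ψ w = ψ u := by
    rw [map_mul, map_inv] at h2
    exact (inv_mul_eq_one.mp h2).symm
  have h4 : wt2 a b = wt2 b c := by
    rw [← wt2_cycle hab hbc hac, ← hu]
    funext k
    have := hw2 k
    rw [h3, hfσ] at this
    exact this
  have h5' := congrFun h4 a
  rw [wt2_left hab, wt2_other hab hac] at h5'
  exact absurd h5' (by decide)

variable {p : ℕ} [Fact p.Prime] {T E : Subgroup G}

/-- Type of a block. -/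
theorem block_type (hE : IsBaumannBlock p T E) (hEs : E.IsSubnormal) :
    QSData p T E ∨ (p = 3 ∧ Sm3 E) ∨ (p = 2 ∧ Sm2 E) := by
  rcases hE.2.2.2.2 with ⟨F, iF, fF, n, hcard, ⟨iso⟩, hacts, hQ⟩ | ⟨hp2, m, ⟨iso⟩, hacts, hQ⟩
  · have hc1 : 1 < Fintype.card F := Fintype.one_lt_card
    have hn0 : n ≠ 0 := by
      rintro rfl
      simp [hcard] at hc1
    have hdvd : p ∣ Fintype.card F := by
      rw [hcard]; exact dvd_pow_self p hn0
    have hp := (Fact.out : p.Prime)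
    rcases (by omega : Fintype.card F = 2 ∨ Fintype.card F = 3 ∨ 4 ≤ Fintype.card F) with h2 | h3 | h4
    · have hp2 : p = 2 := by
        rw [h2] at hdvd
        exact (Nat.prime_dvd_prime_iff_eq hp Nat.prime_two).mp hdvd
      subst hp2
      right; right
      refine ⟨rfl, ?_⟩
      let e : ZMod 2 ≃+* F := ZMod.ringEquivOfPrime F Nat.prime_two h2
      have hcd : Nat.card (E ⧸ pCore 2 E) = 3 := by
        rw [Nat.card_congr iso.toEquiv, card_commutator_SL e.symm]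
        exact card_K2
      have hq : Qb 2 E = Wb 2 E := by
        rcases hQ with h | ⟨h, _⟩
        · exact h
        · omega
      exact sm2_of_linear hcd hq (acts_transfer e.symm hacts)
    · have hp3 : p = 3 := by
        rw [h3] at hdvd
        exact (Nat.prime_dvd_prime_iff_eq hp Nat.prime_three).mp hdvd
      subst hp3
      right; left
      refine ⟨rfl, ?_⟩
      let e : ZMod 3 ≃+* F := ZMod.ringEquivOfPrime F Nat.prime_three h3
      have hcd : Nat.card (E ⧸ pCore 3 E) = 8 := by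
        rw [Nat.card_congr iso.toEquiv, card_commutator_SL e.symm]
        exact card_K3
      refine sm3_of hcd (acts_transfer e.symm hacts) ?_
      rcases hQ with h | ⟨_, h, h', _⟩
      · exact Or.inl h
      · exact Or.inr ⟨acts_transfer e.symm h, h'⟩
    · left
      have hF4 : 4 ≤ Nat.card F := by rwa [Nat.card_eq_fintype_card]
      obtain ⟨hqs, hperf, hK⟩ := sl_nonab (F := F) hF4
      refine ⟨?_, ?_, ?_⟩
      · exact qs_of_mulEquiv ((iso.trans (MulEquiv.subgroupCongr hperf)).trans Subgroup.topEquiv).symm hqs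
      · exact acts_not_comm hacts hK
      · intro hx
        rcases hQ with h | ⟨_, h, _⟩
        · exact absurd (fun a ha b hb => W_comm_W (h.le ha) (h.le hb)) hx.not_abelian
        · exact acts_not_comm h hK
  · subst hp2
    rcases (by omega : m = 0 ∨ m = 1 ∨ 2 ≤ m) with rfl | rfl | hm
    · exfalso
      have h1 : Nat.card (E ⧸ pCore 2 E) = 1 := by
        rw [Nat.card_congr iso.toEquiv, Nat.card_eq_fintype_card]
        decide
      have htop : pCore 2 E = ⊤ := Subgroup.index_eq_one.mp h1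
      have hle : E ≤ ⊥ := by
        refine le_of_residual hE.1 fun x hx hco => ?_
        have hxQ : (⟨x, hx⟩ : E) ∈ pCore 2 E := by rw [htop]; trivial
        obtain ⟨a, ha⟩ := (Cfsg.Agent.Lib.PCore.isPGroup_pCore 2 (G := E)) ⟨⟨x, hx⟩, hxQ⟩
        have h3 : x ^ 2 ^ a = 1 := by simpa using congrArg (fun y => ((y : E) : G)) (congrArg Subtype.val ha)
        have h4 : orderOf x ∣ 2 ^ a := orderOf_dvd_of_pow_eq_one h3
        have h5 : Nat.Coprime (orderOf x) (orderOf x) :=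
          Nat.Coprime.coprime_dvd_right h4 (Nat.Coprime.pow_right a hco)
        rw [Subgroup.mem_bot]
        exact orderOf_eq_one_iff.mp (Nat.coprime_self _ |>.mp h5)
      apply hE.2.2.2.1
      rw [le_bot_iff.mp hle]
      exact Subgroup.commutator_bot_left _
    · right; right
      refine ⟨rfl, ?_⟩
      have hcd : Nat.card (E ⧸ pCore 2 E) = 3 := by
        rw [Nat.card_congr iso.toEquiv]
        exact card_alt3
      exact sm2_of_alt hcd hQ hacts
    · left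
      have h5 : 5 ≤ Nat.card (Fin (2 * m + 1)) := by simp; omega
      refine ⟨qs_of_mulEquiv iso.symm (qs_of_alt h5), notC3_of_alt (by omega) hacts, ?_⟩
      intro hx
      exact absurd hx.p3 (by norm_num)

end

end Cfsg.Agent.Lib.BauSub
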