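import Mathlib
import Cfsg.Agent.Lib.BauSub5

/-!
# Baumann blocks: conjugation
-/

set_option autoImplicit false

open Cfsg
open scoped commutatorElement

namespace Cfsg.Agent.Lib.BauSub

open Cfsg.Agent.Lib.BauBlock Cfsg.Agent.Lib.BauBlock2 Cfsg.Agent.Lib.PLocalTools Cfsg.Agent.Lib.BauSchur
  Cfsg.Agent.Lib.BauSec Cfsg.Agent.Lib.LocalCore

section

variable {G : Type*} [Group G]

abbrev cn (g : G) : G →* G := (MulAut.conj g).toMonoidHom

theorem cn_apply (g x : G) : cn g x = g * x * g⁻¹ := rfl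

theorem cn_inj (g : G) : Function.Injective (cn g) := (MulAut.conj g).injective

theorem mem_map_cn {S : Subgroup G} {g x : G} : x ∈ S.map (cn g) ↔ g⁻¹ * x * g ∈ S := by
  constructor
  · rintro ⟨y, hy, rfl⟩
    have : g⁻¹ * (cn g y) * g = y := by rw [cn_apply]; group
    rwa [this]
  · intro h
    exact ⟨_, h, by rw [cn_apply]; group⟩

theorem conj_mem_map {S : Subgroup G} {g x : G} (hx : x ∈ S) : g * x * g⁻¹ ∈ S.map (cn g) := ⟨x, hx, rfl⟩

/-- Pulling back along conjugation. -/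
noncomputable def bk (g : G) (E : Subgroup G) : ↥(E.map (cn g)) →* ↥E :=
  (MulEquiv.subgroupMap (MulAut.conj g) E).symm.toMonoidHom

theorem bk_coe (g : G) (E : Subgroup G) (x : ↥(E.map (cn g))) : ((bk g E x : E) : G) = g⁻¹ * x * g := rfl

theorem bk_surj (g : G) (E : Subgroup G) : Function.Surjective (bk g E) :=
  (MulEquiv.subgroupMap (MulAut.conj g) E).symm.surjective

theorem map_cn_mono_norm [Finite G] {E U : Subgroup G} (g : G) (h : E ≤ Subgroup.normalizer (U : Set G)) :
    E.map (cn g) ≤ Subgroup.normalizer ((U.map (cn g) : Subgroup G) : Set G) := by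
  rintro _ ⟨e, he, rfl⟩
  refine mem_normalizer_of_conj ?_
  rintro _ ⟨u, hu, rfl⟩
  refine ⟨e * u * e⁻¹, (Subgroup.mem_normalizer_iff.mp (h he) u).mp hu, ?_⟩
  simp only [cn_apply]
  group

theorem acts_map [Finite G] {F : Type*} [Field F] {K : Subgroup (Matrix.SpecialLinearGroup (Fin 2) F)}
    {E U U₀ : Subgroup G} (g : G) (h : ActsAsSL2OnSection F K E U U₀) :
    ActsAsSL2OnSection F K (E.map (cn g)) (U.map (cn g)) (U₀.map (cn g)) := by
  obtain ⟨h1, h2, ρ, ψ, hρ, hψ, hk, ha⟩ := h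
  refine ⟨map_cn_mono_norm g h1, Subgroup.map_mono h2, ρ.comp (bk g E), ψ.comp (bk g U), ?_, hψ.comp (bk_surj g U), ?_, ?_⟩
  · rw [MonoidHom.range_comp, MonoidHom.range_eq_top.mpr (bk_surj g E), ← MonoidHom.range_eq_map, hρ]
  · intro u
    rw [mem_map_cn]
    exact hk (bk g U u)
  · intro e u
    obtain ⟨w, hw, hw2⟩ := ha (bk g E e) (bk g U u)
    refine ⟨⟨g * w * g⁻¹, conj_mem_map w.2⟩, ?_, ?_⟩
    · change g * (w : G) * g⁻¹ = _
      rw [hw, bk_coe, bk_coe]
      group
    · have : bk g U ⟨g * w * g⁻¹, conj_mem_map w.2⟩ = w := by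
        apply Subtype.ext
        rw [bk_coe]
        group
      simp only [MonoidHom.comp_apply]
      rw [this]
      exact hw2

theorem acts_odd_map [Finite G] {n : ℕ} {K : Subgroup (Equiv.Perm (Fin n))}
    {E U U₀ : Subgroup G} (g : G) (h : ActsAsOddPermModuleOnSection n K E U U₀) :
    ActsAsOddPermModuleOnSection n K (E.map (cn g)) (U.map (cn g)) (U₀.map (cn g)) := by
  obtain ⟨h1, h2, ρ, ψ, hρ, h0, hs, hk, ha⟩ := h
  refine ⟨map_cn_mono_norm g h1, Subgroup.map_mono h2, ρ.comp (bk g E), ψ.comp (bk g U), ?_, fun u => h0 _, ?_, ?_, ?_⟩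
  · rw [MonoidHom.range_comp, MonoidHom.range_eq_top.mpr (bk_surj g E), ← MonoidHom.range_eq_map, hρ]
  · intro v hv
    obtain ⟨u, hu⟩ := hs v hv
    obtain ⟨u', rfl⟩ := bk_surj g U u
    exact ⟨u', hu⟩
  · intro u
    rw [mem_map_cn]
    exact hk (bk g U u)
  · intro e u
    obtain ⟨w, hw, hw2⟩ := ha (bk g E e) (bk g U u)
    refine ⟨⟨g * w * g⁻¹, conj_mem_map w.2⟩, ?_, ?_⟩
    · change g * (w : G) * g⁻¹ = _
      rw [hw, bk_coe, bk_coe]
      group
    · have : bk g U ⟨g * w * g⁻¹, conj_mem_map w.2⟩ = w := by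
        apply Subtype.ext
        rw [bk_coe]
        group
      simp only [MonoidHom.comp_apply]
      rw [this]
      exact hw2

theorem centralizer_map_cn (X : Subgroup G) (g : G) :
    Subgroup.centralizer ((X.map (cn g) : Subgroup G) : Set G) = (Subgroup.centralizer (X : Set G)).map (cn g) := by
  ext y
  rw [mem_map_cn, Subgroup.mem_centralizer_iff, Subgroup.mem_centralizer_iff]
  constructor
  · intro h x hx
    have := h (g * x * g⁻¹) (conj_mem_map hx)
    have e1 : x * (g⁻¹ * y * g) = g⁻¹ * (g * x * g⁻¹ * y) * g := by group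
    have e2 : g⁻¹ * y * g * x = g⁻¹ * (y * (g * x * g⁻¹)) * g := by group
    rw [e1, e2, this]
  · rintro h _ ⟨x, hx, rfl⟩
    have := h x hx
    rw [cn_apply]
    have e1 : g * x * g⁻¹ * y = g * (x * (g⁻¹ * y * g)) * g⁻¹ := by group
    have e2 : y * (g * x * g⁻¹) = g * (g⁻¹ * y * g * x) * g⁻¹ := by group
    rw [e1, e2, this]

theorem omegaCenter_map (p : ℕ) (X : Subgroup G) (g : G) :
    omegaOneCenter p (X.map (cn g)) = (omegaOneCenter p X).map (cn g) := by
  unfold omegaOneCenter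
  rw [map_omegaOne p _ _ (cn_inj g), map_inf_centralizer]

theorem frat_map (Q : Subgroup G) (g : G) :
    (frattini ↥(Q.map (cn g))).map (Q.map (cn g)).subtype = ((frattini ↥Q).map Q.subtype).map (cn g) := by
  let e : Q ≃* Q.map (cn g) := MulEquiv.subgroupMap (MulAut.conj g) Q
  have h1 := frattini_le_comap_frattini_of_surjective (φ := e.toMonoidHom) e.surjective
  have h2 := frattini_le_comap_frattini_of_surjective (φ := e.symm.toMonoidHom) e.symm.surjective
  ext x
  constructor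
  · rintro ⟨y, hy, rfl⟩
    refine ⟨((e.symm y : Q) : G), ⟨e.symm y, h2 hy, rfl⟩, ?_⟩
    have : e (e.symm y) = y := e.apply_symm_apply y
    exact congrArg Subtype.val this
  · rintro ⟨_, ⟨z, hz, rfl⟩, rfl⟩
    exact ⟨e z, h1 hz, rfl⟩

variable [Finite G] {p : ℕ} [Fact p.Prime]

theorem map_R (g : G) : (pCore p G).map (cn g) = pCore p G := by
  apply le_antisymm
  · rintro _ ⟨x, hx, rfl⟩
    exact conj_R g hx
  · intro x hx
    rw [mem_map_cn]
    have := conj_R g⁻¹ hx
    simpa using this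

variable {E : Subgroup G}

theorem subnormal_map (hEs : E.IsSubnormal) (g : G) : (E.map (cn g)).IsSubnormal :=
  Subgroup.IsSubnormal.map (MulAut.conj g).surjective hEs

theorem Q_map (hEs : E.IsSubnormal) (g : G) : pCoreOf p (E.map (cn g)) = (pCoreOf p E).map (cn g) := by
  have h1 : pCoreOf p E = E ⊓ pCore p G := Qb_eq (p := p) hEs
  have h2 : pCoreOf p (E.map (cn g)) = E.map (cn g) ⊓ pCore p G := Qb_eq (p := p) (subnormal_map hEs g)
  rw [h2, h1, Subgroup.map_inf _ _ _ (cn_inj g), map_R]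

theorem W_map (hEs : E.IsSubnormal) (g : G) :
    omegaOneCenter p (pCoreOf p (E.map (cn g))) = (omegaOneCenter p (pCoreOf p E)).map (cn g) := by
  rw [Q_map hEs, omegaCenter_map]

theorem Z_map (hEs : E.IsSubnormal) (g : G) :
    omegaOneCenter p (pCoreOf p (E.map (cn g))) ⊓ Subgroup.centralizer ((E.map (cn g) : Subgroup G) : Set G) =
      (omegaOneCenter p (pCoreOf p E) ⊓ Subgroup.centralizer (E : Set G)).map (cn g) := by
  rw [W_map hEs, centralizer_map_cn, Subgroup.map_inf _ _ _ (cn_inj g)]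

theorem residual_map (h : pResidualOf p E = E) (g : G) : pResidualOf p (E.map (cn g)) = E.map (cn g) := by
  have h1 : pResidualOf p (E.map (cn g)) = (pResidualOf p E).map (cn g) := by
    unfold pResidualOf
    rw [Cfsg.Agent.Lib.PResid.map_pResidual_eq_closure, Cfsg.Agent.Lib.PResid.map_pResidual_eq_closure,
      MonoidHom.map_closure]
    congr 1
    ext x
    constructor
    · rintro ⟨⟨y, hy, rfl⟩, hx⟩
      refine ⟨y, ⟨hy, ?_⟩, rfl⟩
      rwa [orderOf_injective (cn g) (cn_inj g)] at hx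
    · rintro ⟨y, ⟨hy, hc⟩, rfl⟩
      refine ⟨⟨y, hy, rfl⟩, ?_⟩
      rwa [orderOf_injective (cn g) (cn_inj g)]
  rw [h1, h]

theorem quot_equiv (g : G) : Nonempty (↥(E.map (cn g)) ⧸ pCore p ↥(E.map (cn g)) ≃* ↥E ⧸ pCore p ↥E) := by
  let e : E ≃* E.map (cn g) := MulEquiv.subgroupMap (MulAut.conj g) E
  have h1 : (pCore p ↥(E.map (cn g))).map e.symm.toMonoidHom ≤ pCore p ↥E :=
    Cfsg.Agent.Lib.CharPLocal.map_pCore_le_of_equiv e.symm
  have h2 : (pCore p ↥E).map e.toMonoidHom ≤ pCore p ↥(E.map (cn g)) :=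
    Cfsg.Agent.Lib.CharPLocal.map_pCore_le_of_equiv e
  refine ⟨QuotientGroup.congr _ _ e.symm (le_antisymm h1 ?_)⟩
  intro x hx
  refine ⟨e x, h2 ⟨x, hx, rfl⟩, ?_⟩
  exact e.symm_apply_apply x

theorem block_conj {T : Subgroup G} (hE : IsBaumannBlock p T E) (hEs : E.IsSubnormal) (g : G) :
    IsBaumannBlock p (T.map (cn g)) (E.map (cn g)) := by
  have hQ' := Q_map (p := p) hEs g
  have hW' := W_map (p := p) hEs g
  have hZ' := Z_map (p := p) hEs g
  obtain ⟨qe⟩ := quot_equiv (p := p) (E := E) g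
  refine ⟨residual_map hE.1 g, ?_, ?_, ?_, ?_⟩
  · rw [baumann_map_conj, ← Subgroup.map_commutator, hE.2.1]
  · rw [hQ', ← Subgroup.map_commutator, hE.2.2.1]
  · rw [omegaCenter_map, ← Subgroup.map_commutator]
    intro h
    apply hE.2.2.2.1
    exact (Subgroup.map_eq_bot_iff_of_injective _ (cn_inj g)).mp h
  rcases hE.2.2.2.2 with ⟨F, iF, fF, n, hcard, ⟨iso⟩, hacts, hQ⟩ | ⟨hp2, m, ⟨iso⟩, hacts, hQ⟩
  · refine Or.inl ⟨F, iF, fF, n, hcard, ⟨qe.trans iso⟩, ?_, ?_⟩
    · rw [hZ', hW']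
      exact acts_map g hacts
    · rcases hQ with h | ⟨hp3, h1, h2, h3, h4, h5, h6⟩
      · left
        rw [hW', hQ']
        exact congrArg _ h
      · right
        have hcz : E.map (cn g) ⊓ Subgroup.centralizer ((E.map (cn g) : Subgroup G) : Set G) =
            (E ⊓ Subgroup.centralizer (E : Set G)).map (cn g) := by
          rw [centralizer_map_cn, Subgroup.map_inf _ _ _ (cn_inj g)]
        refine ⟨hp3, ?_, ?_, ?_, ?_, ?_, ?_⟩
        · rw [hW', hQ']
          exact acts_map g h1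
        · rw [hZ', hQ', ← Subgroup.map_commutator, h2]
        · have hfr : ∀ Q' : Subgroup G, Q' = (pCoreOf p E).map (cn g) →
              (frattini ↥Q').map Q'.subtype = ((frattini ↥(pCoreOf p E)).map (pCoreOf p E).subtype).map (cn g) := by
            rintro _ rfl
            exact frat_map _ g
          rw [hZ', hfr _ hQ', h3]
        · rw [hZ', hcz, h4]
        · rw [hcz, Subgroup.card_map_of_injective (cn_inj g)]
          exact h5
        · intro b hb hbW hle
          have hb₀ : g⁻¹ * b * g ∈ baumannSubgroupOf p T := by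
            rw [baumann_map_conj] at hb
            exact mem_map_cn.mp hb
          have hbe : b = cn g (g⁻¹ * b * g) := by rw [cn_apply]; group
          refine h6 _ hb₀ ?_ ?_
          · intro hc
            apply hbW
            rw [hW', centralizer_map_cn, mem_map_cn]
            exact hc
          · rw [hQ', hbe, ← MonoidHom.map_zpowers, ← Subgroup.map_commutator, ← Subgroup.map_commutator,
              hcz] at hle
            exact (Subgroup.map_le_map_iff_of_injective (cn_inj g)).mp hle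
  · refine Or.inr ⟨hp2, m, ⟨qe.trans iso⟩, ?_, ?_⟩
    · rw [hZ', hW']
      exact acts_odd_map g hacts
    · rw [hW', hQ']
      exact congrArg _ hQ

/-- Sylow version. -/
theorem exists_sylow_map (S : Sylow p G) (g : G) : ∃ S' : Sylow p G, (S' : Subgroup G) = (S : Subgroup G).map (cn g) := by
  refine ⟨g • S, ?_⟩
  ext x
  rw [Sylow.coe_subgroup_smul, Subgroup.mem_smul_pointwise_iff_exists]
  constructor
  · rintro ⟨y, hy, rfl⟩
    exact ⟨y, hy, rfl⟩
  · rintro ⟨y, hy, rfl⟩
    exact ⟨y, hy, rfl⟩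

theorem block_conj' (hE : ∃ S : Sylow p G, IsBaumannBlock p (S : Subgroup G) E) (hEs : E.IsSubnormal) (g : G) :
    ∃ S : Sylow p G, IsBaumannBlock p (S : Subgroup G) (E.map (cn g)) := by
  obtain ⟨S, hS⟩ := hE
  obtain ⟨S', hS'⟩ := exists_sylow_map S g
  exact ⟨S', hS' ▸ block_conj hS hEs g⟩

end

end Cfsg.Agent.Lib.BauSub
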