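import Mathlib
import Cfsg.Agent.Lib.BauSub6

/-!
# Baumann blocks: the skeleton of the induction
-/

set_option autoImplicit false

open Cfsg
open scoped commutatorElement

namespace Cfsg.Agent.Lib.BauSub

open Cfsg.Agent.Lib.BauBlock Cfsg.Agent.Lib.BauBlock2 Cfsg.Agent.Lib.PLocalTools Cfsg.Agent.Lib.BauSchur
  Cfsg.Agent.Lib.BauSec Cfsg.Agent.Lib.LocalCore

section skeleton

variable {Γ : Type*} [Group Γ] [Finite Γ]

theorem exists_normal_max {r : ℕ} [Fact r.Prime] {A X : Subgroup Γ} (hAX : A ≤ X) (hne : A ≠ X) (hp : IsPGroup r X) :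
    ∃ M : Subgroup Γ, A ≤ M ∧ M ≤ X ∧ M ≠ X ∧ ∀ x ∈ X, ∀ m ∈ M, x * m * x⁻¹ ∈ M := by
  have hnil : Group.IsNilpotent X := hp.isNilpotent
  have hA₀ : A.subgroupOf X ≠ ⊤ := by
    intro h
    exact hne (le_antisymm hAX (Subgroup.subgroupOf_eq_top.mp h))
  obtain ⟨M₀, hM₀, hle⟩ := (eq_top_or_exists_le_coatom (A.subgroupOf X)).resolve_left hA₀
  have hn : M₀.Normal := Subgroup.NormalizerCondition.normal_of_coatom M₀ Group.normalizerCondition_of_isNilpotent hM₀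
  refine ⟨M₀.map X.subtype, ?_, Subgroup.map_subtype_le _, ?_, ?_⟩
  · intro a ha
    exact ⟨⟨a, hAX ha⟩, hle ha, rfl⟩
  · intro h
    apply hM₀.1
    rw [eq_top_iff]
    intro x _
    have : (x : Γ) ∈ M₀.map X.subtype := by rw [h]; exact x.2
    obtain ⟨y, hy, hyx⟩ := this
    have : y = x := Subtype.ext hyx
    rwa [← this]
  · rintro x hx _ ⟨m, hm, rfl⟩
    exact ⟨⟨x, hx⟩ * m * ⟨x, hx⟩⁻¹, hn.conj_mem m hm ⟨x, hx⟩, rfl⟩

theorem card_lt_of_le_ne {A B : Subgroup Γ} (h : A ≤ B) (hne : A ≠ B) : Nat.card A < Nat.card B := by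
  refine lt_of_le_of_ne (Subgroup.card_le_of_le h) fun hc => hne ?_
  exact Subgroup.eq_of_le_of_card_ge h hc.ge

theorem skeleton {r : ℕ} [Fact r.Prime] (𝓑 : Set (Subgroup Γ))
    (hp : ∀ A ∈ 𝓑, ∀ B ∈ 𝓑, IsPGroup r ↥(A ⊔ B))
    (hc : ∀ A ∈ 𝓑, ∀ g : Γ, A.map (cn g) ∈ 𝓑)
    (hS : ∀ A ∈ 𝓑, ∀ B ∈ 𝓑, A ≤ B → A = B)
    (hN : ∀ A ∈ 𝓑, ∀ B ∈ 𝓑, A ≤ Subgroup.normalizer (B : Set Γ) → B ≤ Subgroup.normalizer (A : Set Γ) →
      A = B ∨ ⁅A, B⁆ = ⊥)
    (hH : ∀ A ∈ 𝓑, ∀ B ∈ 𝓑, (∀ g ∈ B, ∀ h ∈ B, A.map (cn g) = A.map (cn h) ∨ ⁅A.map (cn g), A.map (cn h)⁆ = ⊥) →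
      B ≤ Subgroup.normalizer (A : Set Γ)) :
    ∀ A ∈ 𝓑, ∀ B ∈ 𝓑, A = B ∨ ⁅A, B⁆ = ⊥ := by
  have key : ∀ n : ℕ, ∀ A ∈ 𝓑, ∀ B ∈ 𝓑, Nat.card ↥(A ⊔ B) = n → A = B ∨ ⁅A, B⁆ = ⊥ := by
    intro n
    induction n using Nat.strong_induction_on with
    | _ n ih =>
      have step : ∀ A ∈ 𝓑, ∀ B ∈ 𝓑, Nat.card ↥(A ⊔ B) = n → B ≤ Subgroup.normalizer (A : Set Γ) := by
        intro A hA B hB hn
        by_cases hBA : B ≤ A
        · rw [hS B hB A hA hBA]
          exact Subgroup.le_normalizer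
        refine hH A hA B hB fun g hg h hh => ?_
        have hne : A ≠ A ⊔ B := fun he => hBA (he ▸ le_sup_right)
        obtain ⟨M, hAM, hMX, hMne, hnorm⟩ := exists_normal_max (r := r) le_sup_left hne (hp A hA B hB)
        have hgA : ∀ k ∈ B, A.map (cn k) ≤ M := by
          rintro k hk _ ⟨a, ha, rfl⟩
          exact hnorm k (Subgroup.mem_sup_right hk) a (hAM ha)
        have hlt : Nat.card ↥(A.map (cn g) ⊔ A.map (cn h)) < n := by
          rw [← hn]
          calc _ ≤ Nat.card M := Subgroup.card_le_of_le (sup_le (hgA g hg) (hgA h hh))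
            _ < _ := card_lt_of_le_ne hMX hMne
        exact ih _ hlt _ (hc A hA g) _ (hc A hA h) rfl
      intro A hA B hB hn
      have h1 := step A hA B hB hn
      have h2 := step B hB A hA (by rw [sup_comm]; exact hn)
      exact hN A hA B hB h2 h1
  exact fun A hA B hB => key _ A hA B hB rfl

end skeleton

section chain

variable {G : Type*} [Group G] [Finite G] {p : ℕ} [Fact p.Prime]

theorem mem_of_coprime_pows {H : Subgroup G} {s : G} {m n : ℕ} (hc : Nat.Coprime m n) (hm : s ^ m ∈ H) (hn : s ^ n ∈ H) :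
    s ∈ H := by
  have h := Nat.Coprime.gcd_eq_one hc
  have e : s = s ^ ((m : ℤ) * Nat.gcdA m n + (n : ℤ) * Nat.gcdB m n) := by
    rw [← Nat.gcd_eq_gcd_ab m n, hc.gcd_eq_one]
    simp
  rw [e, zpow_add, zpow_mul, zpow_mul]
  exact H.mul_mem (H.zpow_mem (by simpa using hm) _) (H.zpow_mem (by simpa using hn) _)

/-- An element which is an `r`-element modulo `R` whose `p'`-powers centralize `R` lies in `R`. -/
theorem mem_R_of_central {r a : ℕ} (hG : Subgroup.centralizer (pCore p G : Set G) ≤ pCore p G)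
    (hr : r.Coprime p) {s : G} (hs : s ^ r ^ a ∈ pCore p G)
    (hy : ∀ n : ℕ, (orderOf (s ^ n)).Coprime p → ∀ x ∈ pCore p G, s ^ n * x * (s ^ n)⁻¹ * x⁻¹ = 1) :
    s ∈ pCore p G := by
  obtain ⟨k, hk⟩ := isP_of_mem_R (p := p) hs
  have h1 : (s ^ p ^ k) ^ r ^ a = 1 := by
    rw [← pow_mul, mul_comm, pow_mul, hk]
  have hco : (orderOf (s ^ p ^ k)).Coprime p :=
    Nat.Coprime.coprime_dvd_left (orderOf_dvd_of_pow_eq_one h1) (Nat.Coprime.pow_left a hr)
  have hcen := hy _ hco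
  have hmem : s ^ p ^ k ∈ pCore p G := by
    apply hG
    refine Subgroup.mem_centralizer_iff.mpr fun x hx => ?_
    have := hcen x hx
    have e : s ^ p ^ k * x = (s ^ p ^ k * x * (s ^ p ^ k)⁻¹ * x⁻¹) * (x * s ^ p ^ k) := by group
    rw [e, this, one_mul]
  obtain ⟨l, hl⟩ := isP_of_mem_R (p := p) hmem
  have h2 : orderOf (s ^ p ^ k) ∣ p ^ l := orderOf_dvd_of_pow_eq_one hl
  have h3 : Nat.Coprime (orderOf (s ^ p ^ k)) (orderOf (s ^ p ^ k)) :=
    Nat.Coprime.coprime_dvd_right h2 (Nat.Coprime.pow_right l hco)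
  have h4 : s ^ p ^ k = 1 := orderOf_eq_one_iff.mp (Nat.coprime_self _ |>.mp h3)
  refine mem_of_coprime_pows (m := r ^ a) (n := p ^ k) (Nat.Coprime.pow _ _ hr) hs ?_
  rw [h4]; exact Subgroup.one_mem _

theorem pow_mem_secKer {U U₀ : Subgroup G} {s : G} (h : s ∈ secKer U U₀) (n : ℕ) : s ^ n ∈ secKer U U₀ :=
  Subgroup.pow_mem _ h n

/-- Walking down a step of a chain. -/
theorem chain_step {y : G} (hy : (orderOf y).Coprime p) {U₂ U₃ : Subgroup G} (hU : IsPGroup p U₂) (hle : U₃ ≤ U₂)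
    (hn : ∀ c ∈ U₂, ∀ u ∈ U₃, c * u * c⁻¹ ∈ U₃) (hyk : y ∈ secKer U₂ U₃) {q : G}
    (hq : y * q * y⁻¹ * q⁻¹ ∈ U₂) : y * q * y⁻¹ * q⁻¹ ∈ U₃ :=
  comm_mem_of_coprime hy hU hle hn (fun c hc => conj_mem_of_normalizer hyk.1 hc) hyk.2.2 hq

/-- Bottom of a chain: trivial action. -/
theorem secKer_bot_iff {U : Subgroup G} {y : G} (hyN : y ∈ Subgroup.normalizer (U : Set G))
    (h : ∀ u ∈ U, y * u * y⁻¹ = u) : y ∈ secKer U ⊥ := by
  refine ⟨hyN, ?_, fun u hu => ?_⟩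
  · rw [Subgroup.mem_normalizer_iff]
    intro x
    constructor
    · intro hx
      rw [Subgroup.mem_bot] at hx
      rw [hx]; simp [Subgroup.one_mem]
    · intro hx
      have hx' : y * x * y⁻¹ = 1 := hx
      have : x = 1 := by
        have e : x = y⁻¹ * (y * x * y⁻¹) * y := by group
        rw [e, hx']; group
      rw [this]; exact Subgroup.one_mem _
  · rw [h u hu]; simp [Subgroup.one_mem]

end chain

section trans

variable {G : Type*} [Group G] [Finite G] {p : ℕ} [Fact p.Prime] {E F : Subgroup G}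

abbrev prj (p : ℕ) (G : Type*) [Group G] : G →* G ⧸ pCore p G :=
  haveI := pCore_normal (G := G) p
  QuotientGroup.mk' (pCore p G)

theorem prj_eq_one {x : G} : prj p G x = 1 ↔ x ∈ pCore p G := QuotientGroup.eq_one_iff x

theorem ker_prj : (prj p G).ker = pCore p G := QuotientGroup.ker_mk' _

theorem prj_surj : Function.Surjective (prj p G) := QuotientGroup.mk'_surjective _

theorem map_conj_prj (E : Subgroup G) (g : G) :
    (E.map (cn g)).map (prj p G) = (E.map (prj p G)).map (cn (prj p G g)) := by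
  ext x
  constructor
  · rintro ⟨_, ⟨e, he, rfl⟩, rfl⟩
    refine ⟨prj p G e, ⟨e, he, rfl⟩, ?_⟩
    simp [cn_apply, map_mul, map_inv]
  · rintro ⟨_, ⟨e, he, rfl⟩, rfl⟩
    refine ⟨cn g e, ⟨e, he, rfl⟩, ?_⟩
    simp [cn_apply, map_mul, map_inv]

/-- A subnormal block with fixed `|E/Q|`. -/
def Good (p c : ℕ) (E : Subgroup G) : Prop :=
  E.IsSubnormal ∧ (∃ S : Sylow p G, IsBaumannBlock p (S : Subgroup G) E) ∧ Nat.card (E ⧸ pCore p E) = c

theorem Good.conj {c : ℕ} (h : Good p c E) (g : G) : Good p c (E.map (cn g)) := by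
  obtain ⟨qe⟩ := quot_equiv (p := p) (E := E) g
  exact ⟨subnormal_map h.1 g, block_conj' h.2.1 h.1 g, (Nat.card_congr qe.toEquiv).trans h.2.2⟩

theorem card_map_prj (hEs : E.IsSubnormal) :
    Nat.card (E.map (prj p G)) = Nat.card (E ⧸ pCore p E) := by
  let ρ : E →* G ⧸ pCore p G := (prj p G).comp E.subtype
  have hk : ρ.ker = pCore p E := by
    ext x
    rw [MonoidHom.mem_ker]
    change prj p G x = 1 ↔ _
    rw [prj_eq_one]
    have h1 : pCoreOf p E = E ⊓ pCore p G := Qb_eq hEs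
    constructor
    · intro hx
      have h2 : (x : G) ∈ pCoreOf p E := by rw [h1]; exact ⟨x.2, hx⟩
      obtain ⟨y, hy, hyx⟩ := h2
      have : y = x := Subtype.ext hyx
      rwa [← this]
    · intro hx
      have h2 : (x : G) ∈ pCoreOf p E := ⟨x, hx, rfl⟩
      rw [h1] at h2
      exact h2.2
  have h2 : ρ.range = E.map (prj p G) := by
    rw [MonoidHom.range_comp, Subgroup.range_subtype]
  rw [← h2, ← Subgroup.index_ker, hk]
  rfl

theorem pgroup_map {c r k : ℕ} [Fact r.Prime] (hc : c = r ^ k) (h : Good p c E) : IsPGroup r (E.map (prj p G)) := by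
  refine IsPGroup.of_card (n := k) ?_
  rw [card_map_prj h.1, h.2.2, hc]

theorem map_le_core {c r k : ℕ} [Fact r.Prime] (hc : c = r ^ k) (h : Good p c E) :
    E.map (prj p G) ≤ pCore r (G ⧸ pCore p G) :=
  Cfsg.Agent.Lib.PResid.le_pCore_of_isSubnormal (Subgroup.IsSubnormal.map prj_surj h.1) (pgroup_map hc h)

theorem eq_of_map_eq {c : ℕ} (hE : Good p c E) (hF : Good p c F) (h : E.map (prj p G) = F.map (prj p G)) : E = F := by
  have h1 : E ⊔ pCore p G = F ⊔ pCore p G := by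
    have h2 := congrArg (Subgroup.comap (prj p G)) h
    rwa [Subgroup.comap_map_eq, Subgroup.comap_map_eq, ker_prj] at h2
  obtain ⟨S₁, hS₁⟩ := hE.2.1
  obtain ⟨S₂, hS₂⟩ := hF.2.1
  rw [← residual_sup S₁ hS₁, ← residual_sup S₂ hS₂, h1]

theorem eq_of_le_sup {c : ℕ} (hE : Good p c E) (hF : Good p c F) (h : E ≤ F ⊔ pCore p G) : E = F := by
  apply eq_of_map_eq hE hF
  have h1 : E.map (prj p G) ≤ F.map (prj p G) := by
    rintro _ ⟨e, he, rfl⟩
    have h2 := h he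
    have h3 : e ∈ (F.map (prj p G)).comap (prj p G) := by
      rw [Subgroup.comap_map_eq, ker_prj]
      exact h2
    exact h3
  refine Subgroup.eq_of_le_of_card_ge h1 ?_
  rw [card_map_prj hE.1, card_map_prj hF.1, hE.2.2, hF.2.2]

theorem comm_map_iff : ⁅E.map (prj p G), F.map (prj p G)⁆ = ⊥ ↔ ⁅E, F⁆ ≤ pCore p G := by
  rw [← Subgroup.map_commutator, Subgroup.map_eq_bot_iff, ker_prj]

theorem norm_of_map {c : ℕ} (hE : Good p c E) (h : F.map (prj p G) ≤ Subgroup.normalizer ((E.map (prj p G) : Subgroup _) : Set _)) :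
    F ≤ Subgroup.normalizer (E : Set G) := by
  intro f hf
  obtain ⟨S, hS⟩ := hE.2.1
  refine mem_normalizer_of_conj ?_
  have key : E ≤ E.comap (MulAut.conj f).toMonoidHom := by
    refine le_of_residual hS.1 fun e he hco => ?_
    change f * e * f⁻¹ ∈ E
    have h1 := conj_mem_of_normalizer (h ⟨f, hf, rfl⟩) (⟨e, he, rfl⟩ : prj p G e ∈ E.map (prj p G))
    have h2 : f * e * f⁻¹ ∈ (E.map (prj p G)).comap (prj p G) := by
      change prj p G (f * e * f⁻¹) ∈ E.map (prj p G)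
      rw [map_mul, map_mul, map_inv]
      exact h1
    rw [Subgroup.comap_map_eq, ker_prj] at h2
    have hco' : (orderOf (f * e * f⁻¹)).Coprime p := by
      have : orderOf (f * e * f⁻¹) = orderOf e := by
        have := orderOf_injective (MulAut.conj f).toMonoidHom (MulAut.conj f).injective e
        exact this
      rw [this]; exact hco
    exact Cfsg.Agent.Lib.JCompBasic.mem_of_coprime_of_mem_sup (R_le_normalizer S hS)
      (Cfsg.Agent.Lib.PCore.isPGroup_pCore p) h2 hco'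
  exact fun x hx => key hx

/-- The induction, translated to `G`. -/
theorem skeleton_G {c r k : ℕ} [Fact r.Prime] (hc : c = r ^ k)
    (hN : ∀ E F : Subgroup G, Good p c E → Good p c F → E ≤ Subgroup.normalizer (F : Set G) →
      F ≤ Subgroup.normalizer (E : Set G) → E = F ∨ ⁅E, F⁆ ≤ pCore p G)
    (hH : ∀ E F : Subgroup G, Good p c E → Good p c F →
      (∀ g ∈ F, ∀ h ∈ F, E.map (cn g) = E.map (cn h) ∨ ⁅E.map (cn g), E.map (cn h)⁆ ≤ pCore p G) →
      F ≤ Subgroup.normalizer (E : Set G))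
    {E F : Subgroup G} (hE : Good p c E) (hF : Good p c F) : E = F ∨ ⁅E, F⁆ ≤ pCore p G := by
  let 𝓑 : Set (Subgroup (G ⧸ pCore p G)) := {A | ∃ E : Subgroup G, Good p c E ∧ A = E.map (prj p G)}
  have key := skeleton (r := r) 𝓑 ?_ ?_ ?_ ?_ ?_ _ ⟨E, hE, rfl⟩ _ ⟨F, hF, rfl⟩
  · rcases key with h | h
    · exact Or.inl (eq_of_map_eq hE hF h)
    · exact Or.inr (comm_map_iff.mp h)
  · rintro _ ⟨E₁, h₁, rfl⟩ _ ⟨F₁, h₂, rfl⟩
    exact (Cfsg.Agent.Lib.PCore.isPGroup_pCore r).to_le (sup_le (map_le_core hc h₁) (map_le_core hc h₂))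
  · rintro _ ⟨E₁, h₁, rfl⟩ g
    obtain ⟨g, rfl⟩ := prj_surj (p := p) g
    exact ⟨_, h₁.conj g, (map_conj_prj _ _).symm⟩
  · rintro _ ⟨E₁, h₁, rfl⟩ _ ⟨F₁, h₂, rfl⟩ hle
    refine Subgroup.eq_of_le_of_card_ge hle ?_
    rw [card_map_prj h₁.1, card_map_prj h₂.1, h₁.2.2, h₂.2.2]
  · rintro _ ⟨E₁, h₁, rfl⟩ _ ⟨F₁, h₂, rfl⟩ h3 h4
    rcases hN E₁ F₁ h₁ h₂ (norm_of_map h₂ h3) (norm_of_map h₁ h4) with h | h
    · exact Or.inl (congrArg _ h)
    · exact Or.inr (comm_map_iff.mpr h)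
  · rintro _ ⟨E₁, h₁, rfl⟩ _ ⟨F₁, h₂, rfl⟩ h3
    have h5 := hH E₁ F₁ h₁ h₂ ?_
    · rintro _ ⟨f, hf, rfl⟩
      exact Subgroup.le_normalizer_map _ (Subgroup.mem_map_of_mem _ (h5 hf))
    · intro g hg h hh
      rcases h3 _ ⟨g, hg, rfl⟩ _ ⟨h, hh, rfl⟩ with h6 | h6
      · left
        rw [← map_conj_prj, ← map_conj_prj] at h6
        exact eq_of_map_eq (h₁.conj g) (h₁.conj h) h6
      · right
        rw [← map_conj_prj, ← map_conj_prj] at h6
        exact comm_map_iff.mp h6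

end trans

end Cfsg.Agent.Lib.BauSub
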