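import Mathlib
import Cfsg.Agent.Lib.BauSub7

/-!
# Baumann blocks: `P = [W, E]`, and the case `p = 2`
-/

set_option autoImplicit false

open Cfsg
open scoped commutatorElement

namespace Cfsg.Agent.Lib.BauSub

open Cfsg.Agent.Lib.BauBlock Cfsg.Agent.Lib.BauBlock2 Cfsg.Agent.Lib.PLocalTools Cfsg.Agent.Lib.BauSchur
  Cfsg.Agent.Lib.BauSec Cfsg.Agent.Lib.LocalCore

section general

variable {G : Type*} [Group G] [Finite G] {p : ℕ} [Fact p.Prime] {E F : Subgroup G}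

theorem mem_R_chain1 (hG : Subgroup.centralizer (pCore p G : Set G) ≤ pCore p G) {W : Subgroup G}
    (hWR : W ≤ pCore p G) (hWn : ∀ r ∈ pCore p G, ∀ u ∈ W, r * u * r⁻¹ ∈ W) {r a : ℕ} (hr : r.Coprime p) {s : G}
    (hs : s ^ r ^ a ∈ pCore p G) (h1 : s ∈ secKer (pCore p G) W) (h2 : s ∈ secKer W ⊥) : s ∈ pCore p G := by
  refine mem_R_of_central hG hr hs fun n hn x hx => ?_
  have hR : IsPGroup p (pCore p G) := Cfsg.Agent.Lib.PCore.isPGroup_pCore p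
  have h3 : s ^ n * x * (s ^ n)⁻¹ * x⁻¹ ∈ pCore p G :=
    Subgroup.mul_mem _ (conj_R _ hx) (Subgroup.inv_mem _ hx)
  have h4 := chain_step hn hR hWR hWn (pow_mem_secKer h1 n) h3
  have h5 := chain_step hn (hR.to_le hWR) (bot_le) (fun c _ u hu => by
    rw [Subgroup.mem_bot] at hu ⊢
    rw [hu]; simp) (pow_mem_secKer h2 n) h4
  exact h5

theorem E_secKer_R (S : Sylow p G) (hS : IsBaumannBlock p (S : Subgroup G) E) (hEs : E.IsSubnormal) {e : G}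
    (he : e ∈ E) : e ∈ secKer (pCore p G) (Qb p E) := by
  refine ⟨?_, ?_, fun u hu => ?_⟩
  · rw [Subgroup.normalizer_eq_top_iff.mpr (pCore_normal p G)]; trivial
  · exact normalizer_le_normalizer_Q hEs (Subgroup.le_normalizer he)
  · have h1 := comm_mem_Q hEs S hS hu he
    have h2 := conj_Q hEs (R_le_normalizer S hS (Subgroup.inv_mem _ hu)) h1
    have e1 : u⁻¹ * (e * u * e⁻¹) = u⁻¹ * (e * u * e⁻¹ * u⁻¹) * u⁻¹⁻¹ := by group
    rw [e1]; exact h2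

theorem comm_V_mem_P (S : Sylow p G) (hS : IsBaumannBlock p (S : Subgroup G) E)
    (hG : Subgroup.centralizer (pCore p G : Set G) ≤ pCore p G) {e u : G} (he : e ∈ E) (hu : u ∈ Vb p G) :
    e * u * e⁻¹ * u⁻¹ ∈ (⁅Wb p E, E⁆ : Subgroup G) := by
  rw [comm_W_eq S hS hG]
  exact Subgroup.commutator_mem_commutator he hu

theorem P_le_E (hEs : E.IsSubnormal) : (⁅Wb p E, E⁆ : Subgroup G) ≤ E :=
  (P_le_W hEs).trans (Wb_le_Q.trans Qb_le_E)

/-- Counting independent subgroups. -/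
theorem count3 {P₀ P₁ P₂ M C₁ C₂ : Subgroup G} (h0 : P₀ ≤ M) (h1 : P₁ ≤ M) (h2 : P₂ ≤ M) (h01 : P₀ ≤ C₁)
    (h02 : P₀ ≤ C₂) (h12 : P₁ ≤ C₂) (hc1 : P₁ ⊓ C₁ = ⊥) (hc2 : P₂ ⊓ C₂ = ⊥) :
    Nat.card P₀ * Nat.card P₁ * Nat.card P₂ ≤ Nat.card M := by
  let f : P₀ × P₁ × P₂ → M := fun x => ⟨x.1 * x.2.1 * x.2.2, M.mul_mem (M.mul_mem (h0 x.1.2) (h1 x.2.1.2)) (h2 x.2.2.2)⟩
  have hf : Function.Injective f := by
    rintro ⟨a, b, c⟩ ⟨a', b', c'⟩ h
    have h3 : (a : G) * b * c = a' * b' * c' := congrArg Subtype.val h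
    have h4 : (c' : G) * (c : G)⁻¹ = ((a' : G) * b')⁻¹ * (a * b) := by
      have : (a : G) * b = a' * b' * c' * (c : G)⁻¹ := by rw [← h3]; group
      rw [this]; group
    have h5 : (c' : G) * (c : G)⁻¹ ∈ P₂ ⊓ C₂ := by
      refine ⟨P₂.mul_mem c'.2 (P₂.inv_mem c.2), ?_⟩
      rw [h4]
      exact C₂.mul_mem (C₂.inv_mem (C₂.mul_mem (h02 a'.2) (h12 b'.2))) (C₂.mul_mem (h02 a.2) (h12 b.2))
    rw [hc2, Subgroup.mem_bot] at h5
    have h6 : (c' : G) = c := by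
      have e : (c' : G) = (c' : G) * (c : G)⁻¹ * c := by group
      rw [e, h5, one_mul]
    have h7 : (a : G) * b = a' * b' := by
      rw [h6] at h3
      exact mul_right_cancel h3
    have h8 : (b' : G) * (b : G)⁻¹ = (a' : G)⁻¹ * a := by
      have : (a : G) = a' * b' * (b : G)⁻¹ := by rw [← h7]; group
      rw [this]; group
    have h9 : (b' : G) * (b : G)⁻¹ ∈ P₁ ⊓ C₁ := by
      refine ⟨P₁.mul_mem b'.2 (P₁.inv_mem b.2), ?_⟩
      rw [h8]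
      exact C₁.mul_mem (C₁.inv_mem (h01 a'.2)) (h01 a.2)
    rw [hc1, Subgroup.mem_bot] at h9
    have h10 : (b' : G) = b := by
      have e : (b' : G) = (b' : G) * (b : G)⁻¹ * b := by group
      rw [e, h9, one_mul]
    have h11 : (a : G) = a' := by
      rw [h10] at h7
      exact mul_right_cancel h7
    have e1 : a = a' := Subtype.ext h11
    have e2 : b = b' := Subtype.ext h10.symm
    have e3 : c = c' := Subtype.ext h6.symm
    rw [e1, e2, e3]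
  have := Nat.card_le_card_of_injective f hf
  rwa [Nat.card_prod, Nat.card_prod, ← mul_assoc] at this

theorem card_sup_le {A B : Subgroup G} (h : ⁅A, B⁆ = ⊥) : Nat.card ↥(A ⊔ B) ≤ Nat.card A * Nat.card B := by
  let f : A × B → ↥(A ⊔ B) := fun x => ⟨x.1 * x.2, Subgroup.mul_mem _ (Subgroup.mem_sup_left x.1.2) (Subgroup.mem_sup_right x.2.2)⟩
  have hf : Function.Surjective f := by
    rintro ⟨z, hz⟩
    obtain ⟨a, ha, b, hb, rfl⟩ := mem_sup_of_commute h hz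
    exact ⟨(⟨a, ha⟩, ⟨b, hb⟩), rfl⟩
  have := Nat.card_le_card_of_surjective f hf
  rwa [Nat.card_prod] at this

/-- Three pairwise commuting conjugates are too many. -/
theorem three_conj_false {n : ℕ} (hn : 1 < n) (S₁ S₂ : Sylow p G) (hS₁ : IsBaumannBlock p (S₁ : Subgroup G) E)
    (hS₂ : IsBaumannBlock p (S₂ : Subgroup G) F) (hEs : E.IsSubnormal)
    (hG : Subgroup.centralizer (pCore p G : Set G) ≤ pCore p G)
    (hcE : Nat.card (⁅Wb p E, E⁆ : Subgroup G) = n) (hcF : Nat.card (⁅Wb p F, F⁆ : Subgroup G) = n)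
    (hcent : (⁅Wb p E, E⁆ : Subgroup G) ⊓ Subgroup.centralizer (E : Set G) = ⊥) {g : G} (hg : g ∈ F)
    (h01 : ⁅E, E.map (cn g)⁆ = ⊥) (h02 : ⁅E, E.map (cn (g * g))⁆ = ⊥)
    (h12 : ⁅E.map (cn g), E.map (cn (g * g))⁆ = ⊥) : False := by
  set P₀ : Subgroup G := ⁅Wb p E, E⁆ with hP₀
  set Pf : Subgroup G := ⁅Wb p F, F⁆ with hPf
  have hP₀E : P₀ ≤ E := P_le_E hEs
  have hP₀V : P₀ ≤ Vb p G := P_le_V S₁ hS₁ hG
  have hPfV : Pf ≤ Vb p G := P_le_V S₂ hS₂ hG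
  have hcomm : ⁅P₀, Pf⁆ = ⊥ := by
    rw [← le_bot_iff, Subgroup.commutator_le]
    intro a ha b hb
    rw [Subgroup.mem_bot, commutatorElement_def, V_comm_V (hP₀V ha) (hPfV hb)]
    group
  have hM : ∀ k ∈ F, P₀.map (cn k) ≤ P₀ ⊔ Pf := by
    rintro k hk _ ⟨x, hx, rfl⟩
    have h1 := comm_V_mem_P S₂ hS₂ hG hk (hP₀V hx)
    have e : cn k x = x * (k * x * k⁻¹ * x⁻¹) := by
      rw [cn_apply]
      have := V_comm_V (p := p) (conj_V k (hP₀V hx)) (hP₀V hx)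
      calc k * x * k⁻¹ = (k * x * k⁻¹) * x * x⁻¹ := by group
        _ = x * (k * x * k⁻¹) * x⁻¹ := by rw [this]
        _ = x * (k * x * k⁻¹ * x⁻¹) := by group
    rw [e]
    exact Subgroup.mul_mem _ (Subgroup.mem_sup_left hx) (Subgroup.mem_sup_right h1)
  have hcm : ∀ k : G, (P₀.map (cn k)) ⊓ Subgroup.centralizer ((E.map (cn k) : Subgroup G) : Set G) = ⊥ := by
    intro k
    rw [centralizer_map_cn, ← Subgroup.map_inf _ _ _ (cn_inj k), hcent, Subgroup.map_bot]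
  have hcomm_c : ∀ {A B : Subgroup G}, ⁅A, B⁆ = ⊥ → A ≤ Subgroup.centralizer (B : Set G) := by
    intro A B h a ha
    refine Subgroup.mem_centralizer_iff.mpr fun b hb => ?_
    have := commutator_eq_bot_iff_elementwise.mp h a ha b hb
    exact this.symm
  have hcount := count3 (P₀ := P₀) (P₁ := P₀.map (cn g)) (P₂ := P₀.map (cn (g * g))) (M := P₀ ⊔ Pf)
    (C₁ := Subgroup.centralizer ((E.map (cn g) : Subgroup G) : Set G))
    (C₂ := Subgroup.centralizer ((E.map (cn (g * g)) : Subgroup G) : Set G)) le_sup_left (hM g hg)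
    (hM (g * g) (F.mul_mem hg hg)) (hP₀E.trans (hcomm_c h01)) (hP₀E.trans (hcomm_c h02))
    ((Subgroup.map_mono hP₀E).trans (hcomm_c h12)) (hcm g) (hcm (g * g))
  rw [Subgroup.card_map_of_injective (cn_inj g), Subgroup.card_map_of_injective (cn_inj _), hcE] at hcount
  have hsup := card_sup_le hcomm
  rw [hcE, hcF] at hsup
  have h3 : n * n * n ≤ n * n := hcount.trans hsup
  have h4 : 0 < n * n := by positivity
  have h5 : n * n * n > n * n := by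
    calc n * n * n > n * n * 1 := Nat.mul_lt_mul_of_pos_left hn h4
      _ = n * n := mul_one _
  omega

end general

section two

variable {G : Type*} [Group G] [Finite G] {E F : Subgroup G}

theorem pow3_mem (h : Sm2 E) {x : G} (hx : x ∈ E) : x ^ 3 ∈ Qb 2 E := by
  have h1 : (QuotientGroup.mk ⟨x, hx⟩ : E ⧸ pCore 2 E) ^ 3 = 1 := by
    rw [← h.card]; exact pow_card_eq_one'
  have h2 : (⟨x, hx⟩ : E) ^ 3 ∈ pCore 2 E := by
    rw [← QuotientGroup.eq_one_iff, QuotientGroup.mk_pow]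
    exact h1
  exact ⟨_, h2, by simp⟩

theorem comm_mem_Q2 (h : Sm2 E) {x e : G} (hx : x ∈ E) (he : e ∈ E) : x * e * x⁻¹ * e⁻¹ ∈ Qb 2 E := by
  haveI : Fact (Nat.Prime 3) := ⟨Nat.prime_three⟩
  haveI hcyc : IsCyclic (E ⧸ pCore 2 E) := isCyclic_of_prime_card h.card
  have h1 : (QuotientGroup.mk ⟨x, hx⟩ : E ⧸ pCore 2 E) * QuotientGroup.mk ⟨e, he⟩ =
      QuotientGroup.mk ⟨e, he⟩ * QuotientGroup.mk ⟨x, hx⟩ := (IsCyclic.commGroup (α := E ⧸ pCore 2 E)).mul_comm _ _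
  have h2 : (⟨x, hx⟩ : E) * ⟨e, he⟩ * (⟨x, hx⟩ : E)⁻¹ * (⟨e, he⟩ : E)⁻¹ ∈ pCore 2 E := by
    rw [← QuotientGroup.eq_one_iff, QuotientGroup.mk_mul, QuotientGroup.mk_mul, QuotientGroup.mk_mul,
      QuotientGroup.mk_inv, QuotientGroup.mk_inv, h1]
    group
  exact ⟨_, h2, rfl⟩

/-- The norm element. -/
def Nm (x u : G) : G := u * (x * u * x⁻¹) * (x * (x * u * x⁻¹) * x⁻¹)

variable (h : Sm2 E) (hEs : E.IsSubnormal)

include h hEs

theorem conj3 {x u : G} (hx : x ∈ E) (hu : u ∈ Wb 2 E) : x * (x * (x * u * x⁻¹) * x⁻¹) * x⁻¹ = u := by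
  have h1 := W_comm_Q hu (pow3_mem h hx)
  have e : x * (x * (x * u * x⁻¹) * x⁻¹) * x⁻¹ = x ^ 3 * u * (x ^ 3)⁻¹ := by
    rw [pow_three]; group
  rw [e, ← h1, mul_inv_cancel_right]

theorem Nm_mem {x u : G} (hx : x ∈ E) (hu : u ∈ Wb 2 E) : Nm x u ∈ Wb 2 E := by
  have h1 := conj_W_of_mem hEs hx hu
  exact Subgroup.mul_mem _ (Subgroup.mul_mem _ hu h1) (conj_W_of_mem hEs hx h1)

omit h in
theorem Nm_mul {x a b : G} (hx : x ∈ E) (ha : a ∈ Wb 2 E) (hb : b ∈ Wb 2 E) : Nm x (a * b) = Nm x a * Nm x b := by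
  have ha1 := conj_W_of_mem hEs hx ha
  have hb1 := conj_W_of_mem hEs hx hb
  have ha2 := conj_W_of_mem hEs hx ha1
  have c1 : b * (x * a * x⁻¹) = (x * a * x⁻¹) * b := W_comm_W hb ha1
  have c2 : b * (x * b * x⁻¹) * (x * (x * a * x⁻¹) * x⁻¹) = (x * (x * a * x⁻¹) * x⁻¹) * (b * (x * b * x⁻¹)) :=
    W_comm_W (Subgroup.mul_mem _ hb hb1) ha2
  unfold Nm
  have e1 : x * (a * b) * x⁻¹ = (x * a * x⁻¹) * (x * b * x⁻¹) := by group
  have e2 : x * ((x * a * x⁻¹) * (x * b * x⁻¹)) * x⁻¹ = (x * (x * a * x⁻¹) * x⁻¹) * (x * (x * b * x⁻¹) * x⁻¹) := by group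
  rw [e1, e2]
  calc a * b * ((x * a * x⁻¹) * (x * b * x⁻¹)) * ((x * (x * a * x⁻¹) * x⁻¹) * (x * (x * b * x⁻¹) * x⁻¹))
      = a * (b * (x * a * x⁻¹)) * (x * b * x⁻¹) * ((x * (x * a * x⁻¹) * x⁻¹) * (x * (x * b * x⁻¹) * x⁻¹)) := by group
    _ = a * ((x * a * x⁻¹) * b) * (x * b * x⁻¹) * ((x * (x * a * x⁻¹) * x⁻¹) * (x * (x * b * x⁻¹) * x⁻¹)) := by rw [c1]
    _ = a * (x * a * x⁻¹) * (b * (x * b * x⁻¹) * (x * (x * a * x⁻¹) * x⁻¹)) * (x * (x * b * x⁻¹) * x⁻¹) := by group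
    _ = a * (x * a * x⁻¹) * ((x * (x * a * x⁻¹) * x⁻¹) * (b * (x * b * x⁻¹))) * (x * (x * b * x⁻¹) * x⁻¹) := by rw [c2]
    _ = _ := by group

omit h in
theorem Nm_inv {x a : G} (hx : x ∈ E) (ha : a ∈ Wb 2 E) : Nm x a⁻¹ = (Nm x a)⁻¹ := by
  have h1 : Nm x (a * a⁻¹) = Nm x a * Nm x a⁻¹ := Nm_mul hEs hx ha (Subgroup.inv_mem _ ha)
  have h2 : Nm x (a * a⁻¹) = 1 := by simp [Nm]
  rw [h2] at h1
  exact (inv_eq_of_mul_eq_one_right h1.symm).symm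

theorem Nm_fix {x u : G} (hx : x ∈ E) (hu : u ∈ Wb 2 E) : x * Nm x u * x⁻¹ = Nm x u := by
  have h1 := conj_W_of_mem hEs hx hu
  have h2 := conj_W_of_mem hEs hx h1
  have h3 := conj3 h hEs hx hu
  have e : x * Nm x u * x⁻¹ = (x * u * x⁻¹) * (x * (x * u * x⁻¹) * x⁻¹) * (x * (x * (x * u * x⁻¹) * x⁻¹) * x⁻¹) := by
    unfold Nm; group
  rw [e, h3]
  unfold Nm
  exact (W_comm_W (Subgroup.mul_mem _ h1 h2) hu).trans (mul_assoc _ _ _).symm

theorem Nm_mem_Z {x u : G} (hx : x ∈ E) (hxQ : x ∉ Qb 2 E) (hu : u ∈ Wb 2 E) : Nm x u ∈ Zb 2 E := by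
  refine h.fpf x hx hxQ _ (Nm_mem h hEs hx hu) ?_
  rw [Nm_fix h hEs hx hu]
  simp [Subgroup.one_mem]

theorem conj_conj_comm {x e v : G} (hx : x ∈ E) (he : e ∈ E) (hv : v ∈ Wb 2 E) :
    x * (e * v * e⁻¹) * x⁻¹ = e * (x * v * x⁻¹) * e⁻¹ := by
  have hq := comm_mem_Q2 h hx he
  have h1 : e * (x * v * x⁻¹) * e⁻¹ ∈ Wb 2 E := conj_W_of_mem hEs he (conj_W_of_mem hEs hx hv)
  have e1 : x * (e * v * e⁻¹) * x⁻¹ = (x * e * x⁻¹ * e⁻¹) * (e * (x * v * x⁻¹) * e⁻¹) * (x * e * x⁻¹ * e⁻¹)⁻¹ := by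
    group
  rw [e1, ← W_comm_Q h1 hq]
  group

theorem Nm_conj {x e v : G} (hx : x ∈ E) (he : e ∈ E) (hv : v ∈ Wb 2 E) : Nm x (e * v * e⁻¹) = e * Nm x v * e⁻¹ := by
  unfold Nm
  have h1 := conj_conj_comm h hEs hx he hv
  have h2 := conj_conj_comm h hEs hx he (conj_W_of_mem hEs hx hv)
  rw [h1, h2]
  group

theorem Nm_comm {x w e : G} (hx : x ∈ E) (hxQ : x ∉ Qb 2 E) (he : e ∈ E) (hw : w ∈ Wb 2 E) : Nm x ⁅w, e⁆ = 1 := by
  have e1 : ⁅w, e⁆ = w * (e * w⁻¹ * e⁻¹) := by rw [commutatorElement_def]; group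
  have hw' := conj_W_of_mem hEs he (Subgroup.inv_mem _ hw)
  rw [e1, Nm_mul hEs hx hw hw', Nm_conj h hEs hx he (Subgroup.inv_mem _ hw), Nm_inv hEs hx hw]
  have h3 := Z_comm_E (Nm_mem_Z h hEs hx hxQ hw) he
  have e2 : e * (Nm x w)⁻¹ * e⁻¹ = (e * Nm x w * e⁻¹)⁻¹ := by group
  rw [e2, h3]
  group

theorem exists_not_Q : ∃ x ∈ E, x ∉ Qb 2 E := by
  by_contra hcon
  push Not at hcon
  have h1 : pCore 2 E = ⊤ := by
    rw [eq_top_iff]
    intro x _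
    obtain ⟨y, hy, hyx⟩ := hcon x x.2
    have : y = x := Subtype.ext hyx
    rwa [← this]
  have h2 := h.card
  have h3 : (pCore 2 E).index = 1 := Subgroup.index_eq_one.mpr h1
  have h4 : (pCore 2 E).index = 3 := h2
  omega

/-- `Z = 1` and `W = [W, E]`. -/
theorem Z_bot {T : Subgroup G} (hT : IsBaumannBlock 2 T E) : Zb 2 E = ⊥ := by
  obtain ⟨x, hx, hxQ⟩ := exists_not_Q h hEs
  have hP : (⁅Wb 2 E, E⁆ : Subgroup G) = Wb 2 E := by
    have h2 : (⁅Qb 2 E, E⁆ : Subgroup G) = Qb 2 E := hT.2.2.1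
    rwa [h.qw] at h2
  let D : Subgroup G :=
    { carrier := {v | v ∈ Wb 2 E ∧ Nm x v = 1}
      one_mem' := ⟨Subgroup.one_mem _, by simp [Nm]⟩
      mul_mem' := by
        rintro a b ⟨ha, ha2⟩ ⟨hb, hb2⟩
        refine ⟨Subgroup.mul_mem _ ha hb, ?_⟩
        rw [Nm_mul hEs hx ha hb, ha2, hb2, one_mul]
      inv_mem' := by
        rintro a ⟨ha, ha2⟩
        refine ⟨Subgroup.inv_mem _ ha, ?_⟩
        rw [Nm_inv hEs hx ha, ha2, inv_one] }
  have hle : (⁅Wb 2 E, E⁆ : Subgroup G) ≤ D := by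
    rw [Subgroup.commutator_le]
    intro w hw e he
    exact ⟨P_le_W hEs (Subgroup.commutator_mem_commutator hw he), Nm_comm h hEs hx hxQ he hw⟩
  rw [eq_bot_iff]
  intro z hz
  have h1 : z ∈ (⁅Wb 2 E, E⁆ : Subgroup G) := by rw [hP]; exact hz.1
  have h2 := (hle h1).2
  have h3 := Z_comm_E hz hx
  unfold Nm at h2
  rw [h3, h3] at h2
  have h4 : z ^ 2 = 1 := W_pow hz.1
  rw [Subgroup.mem_bot]
  have e : z = z * z * z * (z ^ 2)⁻¹ := by group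
  rw [e, h2, h4]; simp

theorem P_eq_W {T : Subgroup G} (hT : IsBaumannBlock 2 T E) : (⁅Wb 2 E, E⁆ : Subgroup G) = Wb 2 E := by
  have h2 : (⁅Qb 2 E, E⁆ : Subgroup G) = Qb 2 E := hT.2.2.1
  rwa [h.qw] at h2

theorem card_P2 {T : Subgroup G} (hT : IsBaumannBlock 2 T E) : Nat.card (⁅Wb 2 E, E⁆ : Subgroup G) = 4 := by
  rw [P_eq_W h hEs hT]
  exact h.cardW (Z_bot h hEs hT)

theorem cent_P2 {T : Subgroup G} (hT : IsBaumannBlock 2 T E) :
    (⁅Wb 2 E, E⁆ : Subgroup G) ⊓ Subgroup.centralizer (E : Set G) = ⊥ := by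
  rw [P_eq_W h hEs hT]
  exact Z_bot h hEs hT

theorem norm_one {T : Subgroup G} (hT : IsBaumannBlock 2 T E) {x u : G} (hx : x ∈ E) (hxQ : x ∉ Qb 2 E)
    (hu : u ∈ Wb 2 E) : u * (x * u * x⁻¹) * (x * (x * u * x⁻¹) * x⁻¹) = 1 := by
  have := Nm_mem_Z h hEs hx hxQ hu
  rw [Z_bot h hEs hT, Subgroup.mem_bot] at this
  exact this

theorem fix_one {T : Subgroup G} (hT : IsBaumannBlock 2 T E) {x u : G} (hx : x ∈ E) (hxQ : x ∉ Qb 2 E)
    (hu : u ∈ Wb 2 E) (hfix : x * u * x⁻¹ = u) : u = 1 := by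
  have h1 := h.fpf x hx hxQ u hu (by rw [hfix]; simp [Subgroup.one_mem])
  rwa [Z_bot h hEs hT, Subgroup.mem_bot] at h1

omit h hEs

theorem four_elems {W : Subgroup G} (hc : Nat.card W = 4) {a b c d w : G} (ha : a ∈ W) (hb : b ∈ W) (hc' : c ∈ W)
    (hd : d ∈ W) (hw : w ∈ W) (h1 : a ≠ b) (h2 : a ≠ c) (h3 : a ≠ d) (h4 : b ≠ c) (h5 : b ≠ d) (h6 : c ≠ d) :
    w = a ∨ w = b ∨ w = c ∨ w = d := by
  by_contra hcon
  push Not at hcon
  obtain ⟨h7, h8, h9, h10⟩ := hcon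
  let f : Fin 5 → W := ![⟨a, ha⟩, ⟨b, hb⟩, ⟨c, hc'⟩, ⟨d, hd⟩, ⟨w, hw⟩]
  have hf : Function.Injective f := by
    intro i j hij
    have hij' := congrArg Subtype.val hij
    fin_cases i <;> fin_cases j <;> first
      | rfl
      | (exfalso; simp [f] at hij'; first
        | exact h1 hij' | exact h2 hij' | exact h3 hij' | exact h4 hij' | exact h5 hij' | exact h6 hij'
        | exact h7 hij' | exact h8 hij' | exact h9 hij' | exact h10 hij'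
        | exact h1 hij'.symm | exact h2 hij'.symm | exact h3 hij'.symm | exact h4 hij'.symm | exact h5 hij'.symm
        | exact h6 hij'.symm | exact h7 hij'.symm | exact h8 hij'.symm | exact h9 hij'.symm | exact h10 hij'.symm)
  have := Nat.card_le_card_of_injective f hf
  rw [hc] at this
  simp at this

theorem same_W2 (hE : Sm2 E) (hF : Sm2 F) (hEs : E.IsSubnormal) (hFs : F.IsSubnormal) {T₁ T₂ : Subgroup G}
    (hT₁ : IsBaumannBlock 2 T₁ E) (hT₂ : IsBaumannBlock 2 T₂ F) (hW : Wb 2 F = Wb 2 E) {x : G} (hx : x ∈ E)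
    (hxQ : x ∉ Qb 2 E) : ∃ y ∈ F, ∀ u ∈ Wb 2 E, y * u * y⁻¹ = x * u * x⁻¹ := by
  have hcard : Nat.card (Wb 2 E) = 4 := hE.cardW (Z_bot hE hEs hT₁)
  have hnt : Nontrivial (Wb 2 E) := by
    rw [← Finite.one_lt_card_iff_nontrivial, hcard]; norm_num
  obtain ⟨⟨u₀, hu₀⟩, hne⟩ := exists_ne (1 : Wb 2 E)
  have hu₀1 : u₀ ≠ 1 := fun h => hne (Subtype.ext h)
  set a := x * u₀ * x⁻¹ with ha
  set b := x * a * x⁻¹ with hb
  have haW : a ∈ Wb 2 E := conj_W_of_mem hEs hx hu₀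
  have hbW : b ∈ Wb 2 E := conj_W_of_mem hEs hx haW
  have hn : u₀ * a * b = 1 := norm_one hE hEs hT₁ hx hxQ hu₀
  have hsq : ∀ z ∈ Wb 2 E, z * z = 1 := fun z hz => by
    have : z ^ 2 = 1 := W_pow hz
    rwa [pow_two] at this
  have ha1 : a ≠ 1 := by
    intro h
    apply hu₀1
    have e : u₀ = x⁻¹ * (x * u₀ * x⁻¹) * x := by group
    rw [e, ← ha, h]; group
  have hau : a ≠ u₀ := fun h => hu₀1 (fix_one hE hEs hT₁ hx hxQ hu₀ h)
  have hb1 : b ≠ 1 := by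
    intro h
    apply ha1
    have e : a = x⁻¹ * (x * a * x⁻¹) * x := by group
    rw [e, ← hb, h]; group
  have hbu : b ≠ u₀ := by
    intro h
    apply ha1
    rw [h] at hn
    have c1 : a * u₀ = u₀ * a := W_comm_W haW hu₀
    calc a = (u₀ * u₀) * a := by rw [hsq u₀ hu₀, one_mul]
      _ = u₀ * (u₀ * a) := by group
      _ = u₀ * (a * u₀) := by rw [c1]
      _ = u₀ * a * u₀ := by group
      _ = 1 := hn
  have hba : b ≠ a := fun h => ha1 (fix_one hE hEs hT₁ hx hxQ haW h)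
  have hfour : ∀ w ∈ Wb 2 E, w = 1 ∨ w = u₀ ∨ w = a ∨ w = b := fun w hw =>
    four_elems hcard (Subgroup.one_mem _) hu₀ haW hbW hw (Ne.symm hu₀1) (Ne.symm ha1) (Ne.symm hb1) (Ne.symm hau)
      (Ne.symm hbu) (Ne.symm hba)
  obtain ⟨y₀, hy₀, hy₀Q⟩ := exists_not_Q hF hFs
  have hu₀F : u₀ ∈ Wb 2 F := by rw [hW]; exact hu₀
  have hcW : y₀ * u₀ * y₀⁻¹ ∈ Wb 2 E := by
    rw [← hW]; exact conj_W_of_mem hFs hy₀ hu₀F
  have hnF := norm_one hF hFs hT₂ hy₀ hy₀Q hu₀F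
  obtain ⟨y₁, hy₁, hy₁a⟩ : ∃ y₁ ∈ F, y₁ * u₀ * y₁⁻¹ = a := by
    rcases hfour _ hcW with h | h | h | h
    · exfalso
      apply hu₀1
      have e : u₀ = y₀⁻¹ * (y₀ * u₀ * y₀⁻¹) * y₀ := by group
      rw [e, h]; group
    · exact absurd (fix_one hF hFs hT₂ hy₀ hy₀Q hu₀F h) hu₀1
    · exact ⟨y₀, hy₀, h⟩
    · refine ⟨y₀ * y₀, F.mul_mem hy₀ hy₀, ?_⟩
      rw [h] at hnF
      have c1 : a * b = b * a := W_comm_W haW hbW
      have h2 : u₀ * b * (y₀ * b * y₀⁻¹) = u₀ * b * a := by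
        rw [hnF, mul_assoc u₀ b a, ← c1, ← mul_assoc, hn]
      have h3 := mul_left_cancel h2
      rw [← h3, ← h]
      group
  have hy₁Q : y₁ ∉ Qb 2 F := by
    intro hq
    apply hau
    have := W_comm_Q hu₀F hq
    rw [← hy₁a, ← this]
    group
  have hn₁ := norm_one hF hFs hT₂ hy₁ hy₁Q hu₀F
  rw [hy₁a] at hn₁
  have hab : y₁ * a * y₁⁻¹ = b := mul_left_cancel (hn₁.trans hn.symm)
  have hc₁ := conj3 hF hFs hy₁ hu₀F
  rw [hy₁a, hab] at hc₁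
  have hc₂ : x * b * x⁻¹ = u₀ := conj3 hE hEs hx hu₀
  refine ⟨y₁, hy₁, fun w hw => ?_⟩
  rcases hfour w hw with rfl | rfl | rfl | rfl
  · simp
  · rw [hy₁a]
  · rw [hab]
  · rw [hc₁, hc₂]

theorem not_qs_of_pgroup {X : Type*} [Group X] [Finite X] {q : ℕ} [Fact q.Prime] (h : IsQuasisimple X)
    (hp : IsPGroup q X) (hn : 1 < Nat.card X) : False := by
  haveI : Nontrivial X := Finite.one_lt_card_iff_nontrivial.mp hn
  haveI := h.1
  haveI : Group.IsNilpotent X := hp.isNilpotent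
  exact Group.IsPerfect.not_isSolvable X inferInstance

theorem sm2_of_good (h : Good 2 3 E) : Sm2 E := by
  obtain ⟨hs, ⟨S, hS⟩, hc⟩ := h
  rcases block_type hS hs with h | ⟨h, _⟩ | ⟨_, h⟩
  · exfalso
    exact not_qs_of_pgroup (q := 3) h.1 (IsPGroup.of_card (n := 1) (by simpa using hc)) (by rw [hc]; norm_num)
  · omega
  · exact h

theorem sm3_of_good (h : Good 3 8 E) : Sm3 E := by
  obtain ⟨hs, ⟨S, hS⟩, hc⟩ := h
  rcases block_type hS hs with h | ⟨_, h⟩ | ⟨h, _⟩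
  · exfalso
    exact not_qs_of_pgroup (q := 2) h.1 (IsPGroup.of_card (n := 3) (by rw [hc]; norm_num)) (by rw [hc]; norm_num)
  · exact h
  · omega

theorem C2 (hE : Good 2 3 E) (hF : Good 2 3 F) (hG : Subgroup.centralizer (pCore 2 G : Set G) ≤ pCore 2 G)
    (hc : ⁅E, F⁆ ≤ pCore 2 G) : E = F ∨ ⁅E, F⁆ = ⊥ := by
  have hE2 := sm2_of_good hE
  have hF2 := sm2_of_good hF
  obtain ⟨hEs, ⟨S₁, hS₁⟩, _⟩ := id hE
  obtain ⟨hFs, ⟨S₂, hS₂⟩, _⟩ := id hF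
  have hZE := Z_bot hE2 hEs hS₁
  have hZF := Z_bot hF2 hFs hS₂
  have hc' : ⁅F, E⁆ ≤ pCore 2 G := by rw [Subgroup.commutator_comm]; exact hc
  by_cases hY : (⁅F, Wb 2 E⁆ : Subgroup G) ≤ Zb 2 E
  · right
    exact comm_eq_bot_of S₁ hS₁ hEs hc hS₂.1 hY (fun hx => absurd hx.p3 (by norm_num))
  by_cases hY' : (⁅E, Wb 2 F⁆ : Subgroup G) ≤ Zb 2 F
  · right
    have := comm_eq_bot_of S₂ hS₂ hFs hc' hS₁.1 hY' (fun hx => absurd hx.p3 (by norm_num))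
    rwa [Subgroup.commutator_comm] at this
  left
  have hW1 : Wb 2 E ≤ ⁅F, Wb 2 E⁆ := by
    have := irr_W hS₁ (Y_le_WE S₁ hS₁ hEs hc) (E_norm_Y S₁ S₂ hS₁ hS₂ hEs hFs hc) hY
    rwa [hZE, sup_bot_eq] at this
  have hW1' : Wb 2 E ≤ Wb 2 F := hW1.trans (Y_le_WF S₁ S₂ hS₁ hS₂ hEs hFs hG)
  have hW2 : Wb 2 F ≤ ⁅E, Wb 2 F⁆ := by
    have := irr_W hS₂ (Y_le_WE S₂ hS₂ hFs hc') (E_norm_Y S₂ S₁ hS₂ hS₁ hFs hEs hc') hY'
    rwa [hZF, sup_bot_eq] at this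
  have hW2' : Wb 2 F ≤ Wb 2 E := hW2.trans (Y_le_WF S₂ S₁ hS₂ hS₁ hFs hEs hG)
  have hWeq : Wb 2 F = Wb 2 E := le_antisymm hW2' hW1'
  refine eq_of_le_sup hE hF ?_
  intro x hx
  by_cases hxQ : x ∈ Qb 2 E
  · exact Subgroup.mem_sup_right (Qb_le_R hEs hxQ)
  obtain ⟨y, hy, hyact⟩ := same_W2 hE2 hF2 hEs hFs hS₁ hS₂ hWeq hx hxQ
  have hqE : Qb 2 E = Wb 2 E := hE2.qw
  have hqF : Qb 2 F = Wb 2 E := hF2.qw.trans hWeq
  have hs : x⁻¹ * y ∈ pCore 2 G := by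
    refine mem_R_chain1 hG (W := Wb 2 E) (Wb_le_Q.trans (Qb_le_R hEs))
      (fun r hr u hu => conj_W hEs (R_le_normalizer S₁ hS₁ hr) hu) (r := 3) (a := 1) (by norm_num) ?_ ?_ ?_
    · rw [← prj_eq_one (p := 2)]
      have hcomm : Commute (prj 2 G x)⁻¹ (prj 2 G y) := by
        have h1 : ⁅x, y⁆ ∈ pCore 2 G := hc (Subgroup.commutator_mem_commutator hx hy)
        rw [← prj_eq_one (p := 2), map_commutatorElement, commutatorElement_eq_one_iff_mul_comm] at h1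
        exact (show Commute (prj 2 G x) (prj 2 G y) from h1).inv_left
      have hx3 : (prj 2 G x) ^ 3 = 1 := by
        rw [← map_pow, prj_eq_one]
        exact Qb_le_R hEs (pow3_mem hE2 hx)
      have hy3 : (prj 2 G y) ^ 3 = 1 := by
        rw [← map_pow, prj_eq_one]
        exact Qb_le_R hFs (pow3_mem hF2 hy)
      rw [map_pow, map_mul, map_inv, pow_one, hcomm.mul_pow, inv_pow, hx3, hy3]
      simp
    · have a := E_secKer_R S₁ hS₁ hEs (E.inv_mem hx)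
      have b := E_secKer_R S₂ hS₂ hFs hy
      rw [hqE] at a
      rw [hqF] at b
      exact Subgroup.mul_mem _ a b
    · refine secKer_bot_iff ?_ fun u hu => ?_
      · refine Subgroup.mul_mem _ (E_le_normalizer_W hEs (E.inv_mem hx)) ?_
        have := E_le_normalizer_W (p := 2) hFs hy
        rwa [hWeq] at this
      · have e : x⁻¹ * y * u * (x⁻¹ * y)⁻¹ = x⁻¹ * (y * u * y⁻¹) * x := by group
        rw [e, hyact u hu]
        group
  have e : x = y * (x⁻¹ * y)⁻¹ := by group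
  rw [e]
  exact Subgroup.mul_mem _ (Subgroup.mem_sup_left hy) (Subgroup.mem_sup_right (Subgroup.inv_mem _ hs))

theorem map_cn_one (E : Subgroup G) : E.map (cn 1) = E := by
  ext x
  rw [mem_map_cn]
  simp

theorem map_cn_mul (E : Subgroup G) (g h : G) : E.map (cn (g * h)) = (E.map (cn h)).map (cn g) := by
  ext x
  rw [mem_map_cn, mem_map_cn, mem_map_cn]
  have e : (g * h)⁻¹ * x * (g * h) = h⁻¹ * (g⁻¹ * x * g) * h := by group
  rw [e]

theorem norm_of_map_eq {g : G} (h : E.map (cn g) = E) : g ∈ Subgroup.normalizer (E : Set G) := by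
  refine mem_normalizer_of_conj fun x hx => ?_
  rw [← h]
  exact conj_mem_map hx

theorem H2 (hE : Good 2 3 E) (hF : Good 2 3 F) (hG : Subgroup.centralizer (pCore 2 G : Set G) ≤ pCore 2 G)
    (hyp : ∀ g ∈ F, ∀ h ∈ F, E.map (cn g) = E.map (cn h) ∨ ⁅E.map (cn g), E.map (cn h)⁆ ≤ pCore 2 G) :
    F ≤ Subgroup.normalizer (E : Set G) := by
  have hE2 := sm2_of_good hE
  have hF2 := sm2_of_good hF
  obtain ⟨hEs, ⟨S₁, hS₁⟩, _⟩ := id hE
  obtain ⟨hFs, ⟨S₂, hS₂⟩, _⟩ := id hF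
  intro g hg
  by_contra hgN
  have hne01 : E ≠ E.map (cn g) := fun h => hgN (norm_of_map_eq h.symm)
  have hne02 : E ≠ E.map (cn (g * g)) := by
    intro h
    apply hgN
    have h1 := norm_of_map_eq h.symm
    have h2 : g ^ 3 ∈ Subgroup.normalizer (E : Set G) :=
      R_le_normalizer S₁ hS₁ (Qb_le_R hFs (pow3_mem hF2 hg))
    have e : g = g ^ 3 * (g * g)⁻¹ := by rw [pow_three]; group
    rw [e]
    exact Subgroup.mul_mem _ h2 (Subgroup.inv_mem _ h1)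
  have hne12 : E.map (cn g) ≠ E.map (cn (g * g)) := by
    intro h
    rw [map_cn_mul] at h
    exact hne01 (Subgroup.map_injective (cn_inj g) h)
  have h01 : ⁅E, E.map (cn g)⁆ = ⊥ := by
    have h1 := (hyp 1 F.one_mem g hg).resolve_left (by rw [map_cn_one]; exact hne01)
    rw [map_cn_one] at h1
    exact (C2 hE (hE.conj g) hG h1).resolve_left hne01
  have h02 : ⁅E, E.map (cn (g * g))⁆ = ⊥ := by
    have h1 := (hyp 1 F.one_mem (g * g) (F.mul_mem hg hg)).resolve_left (by rw [map_cn_one]; exact hne02)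
    rw [map_cn_one] at h1
    exact (C2 hE (hE.conj _) hG h1).resolve_left hne02
  have h12 : ⁅E.map (cn g), E.map (cn (g * g))⁆ = ⊥ := by
    have h1 := (hyp g hg (g * g) (F.mul_mem hg hg)).resolve_left hne12
    exact (C2 (hE.conj _) (hE.conj _) hG h1).resolve_left hne12
  exact three_conj_false (n := 4) (by norm_num) S₁ S₂ hS₁ hS₂ hEs hG (card_P2 hE2 hEs hS₁) (card_P2 hF2 hFs hS₂)
    (cent_P2 hE2 hEs hS₁) hg h01 h02 h12

/-- A commutator of mutually normalizing subgroups lies in both. -/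
theorem comm_mem_both {A B : Subgroup G} (hA : A ≤ Subgroup.normalizer (B : Set G))
    (hB : B ≤ Subgroup.normalizer (A : Set G)) {a b : G} (ha : a ∈ A) (hb : b ∈ B) :
    ⁅a, b⁆ ∈ A ∧ ⁅a, b⁆ ∈ B := by
  rw [commutatorElement_def]
  constructor
  · have h1 := conj_mem_of_normalizer (hB hb) (A.inv_mem ha)
    have e : a * b * a⁻¹ * b⁻¹ = a * (b * a⁻¹ * b⁻¹) := by group
    rw [e]
    exact A.mul_mem ha h1
  · exact B.mul_mem (conj_mem_of_normalizer (hA ha) hb) (B.inv_mem hb)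

theorem N2 (hE : Good 2 3 E) (hF : Good 2 3 F) (h1 : E ≤ Subgroup.normalizer (F : Set G))
    (h2 : F ≤ Subgroup.normalizer (E : Set G)) : E = F ∨ ⁅E, F⁆ ≤ pCore 2 G := by
  by_contra hcon
  push Not at hcon
  obtain ⟨hne, hle⟩ := hcon
  rw [Subgroup.commutator_le] at hle
  push Not at hle
  obtain ⟨e, he, f, hf, hc⟩ := hle
  obtain ⟨hcE, hcF⟩ := comm_mem_both h1 h2 he hf
  apply hne
  apply eq_of_map_eq hE hF
  set I := E.map (prj 2 G) ⊓ F.map (prj 2 G) with hI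
  have hne1 : prj 2 G ⁅e, f⁆ ≠ 1 := fun h => hc (prj_eq_one.mp h)
  have hmem : prj 2 G ⁅e, f⁆ ∈ I := ⟨⟨_, hcE, rfl⟩, ⟨_, hcF, rfl⟩⟩
  have hIne : I ≠ ⊥ := by
    intro h
    rw [h, Subgroup.mem_bot] at hmem
    exact hne1 hmem
  have hcard1 : Nat.card (E.map (prj 2 G)) = 3 := by rw [card_map_prj hE.1, hE.2.2]
  have hcard2 : Nat.card (F.map (prj 2 G)) = 3 := by rw [card_map_prj hF.1, hF.2.2]
  have hd : Nat.card I ∣ 3 := by
    rw [← hcard1]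
    exact Subgroup.card_dvd_of_le inf_le_left
  have hI3 : Nat.card I = 3 := by
    rcases (Nat.dvd_prime Nat.prime_three).mp hd with h | h
    · exact absurd (Subgroup.eq_bot_of_card_eq I h) hIne
    · exact h
  have e1 : I = E.map (prj 2 G) := Subgroup.eq_of_le_of_card_ge inf_le_left (by rw [hcard1, hI3])
  have e2 : I = F.map (prj 2 G) := Subgroup.eq_of_le_of_card_ge inf_le_right (by rw [hcard2, hI3])
  rw [← e1, ← e2]

theorem final2 (hE : Good 2 3 E) (hF : Good 2 3 F) (hG : Subgroup.centralizer (pCore 2 G : Set G) ≤ pCore 2 G) :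
    E = F ∨ ⁅E, F⁆ = ⊥ := by
  rcases skeleton_G (r := 3) (k := 1) (c := 3) (by norm_num) (fun _ _ a b c d => N2 a b c d)
    (fun _ _ a b c => H2 a b hG c) hE hF with h | h
  · exact Or.inl h
  · exact C2 hE hF hG h

end two

end Cfsg.Agent.Lib.BauSub
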