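import Mathlib
import Cfsg.Agent.Lib.BauSub8

/-!
# Baumann blocks: quadratic action on sections of order nine
-/

set_option autoImplicit false

open Cfsg
open scoped commutatorElement

namespace Cfsg.Agent.Lib.BauSub

open Cfsg.Agent.Lib.BauBlock Cfsg.Agent.Lib.BauBlock2 Cfsg.Agent.Lib.PLocalTools Cfsg.Agent.Lib.BauSchur
  Cfsg.Agent.Lib.BauSec Cfsg.Agent.Lib.LocalCore

section

variable {G : Type*} [Group G] [Finite G]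

/-- Elements of `S` fixed by `t` modulo `Z`. -/
def fixSub (t : G) (S Z : Subgroup G) (hn : ∀ s ∈ S, ∀ z ∈ Z, s * z * s⁻¹ ∈ Z) : Subgroup G where
  carrier := {a | a ∈ S ∧ t * a * t⁻¹ * a⁻¹ ∈ Z}
  one_mem' := ⟨S.one_mem, by simp [Z.one_mem]⟩
  mul_mem' := by
    rintro a b ⟨ha, ha2⟩ ⟨hb, hb2⟩
    refine ⟨S.mul_mem ha hb, ?_⟩
    have e : t * (a * b) * t⁻¹ * (a * b)⁻¹ = (t * a * t⁻¹ * a⁻¹) * (a * (t * b * t⁻¹ * b⁻¹) * a⁻¹) := by group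
    rw [e]
    exact Z.mul_mem ha2 (hn a ha _ hb2)
  inv_mem' := by
    rintro a ⟨ha, ha2⟩
    refine ⟨S.inv_mem ha, ?_⟩
    have e : t * a⁻¹ * t⁻¹ * a⁻¹⁻¹ = a⁻¹ * (t * a * t⁻¹ * a⁻¹)⁻¹ * a⁻¹⁻¹ := by group
    rw [e]
    exact hn _ (S.inv_mem ha) _ (Z.inv_mem ha2)

theorem gen_psi {S Z : Subgroup G} (ψ : S →* Multiplicative (Fin 2 → ZMod 3))
    (hk : ∀ u : S, ψ u = 1 ↔ (u : G) ∈ Z) (D : Subgroup G) (hZ : Z ≤ D) {x y : S} (hx : (x : G) ∈ D) (hy : (y : G) ∈ D)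
    (hg : ∀ z : Fin 2 → ZMod 3, ∃ i j : ZMod 3, z = i • Multiplicative.toAdd (ψ x) + j • Multiplicative.toAdd (ψ y))
    (u : S) : (u : G) ∈ D := by
  obtain ⟨i, j, h⟩ := hg (Multiplicative.toAdd (ψ u))
  have e1 : ∀ (n : ZMod 3) (v : Fin 2 → ZMod 3), n • v = (n.val) • v := by
    intro n v
    funext k
    simp [Pi.smul_apply, nsmul_eq_mul]
  have h2 : ψ ((x ^ i.val * y ^ j.val)⁻¹ * u) = 1 := by
    rw [map_mul, map_inv, map_mul, map_pow, map_pow, inv_mul_eq_one]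
    apply Multiplicative.toAdd.injective
    rw [toAdd_mul, toAdd_pow, toAdd_pow, h, e1 i, e1 j]
  have h3 := hZ ((hk _).mp h2)
  have e2 : (u : G) = (x : G) ^ i.val * (y : G) ^ j.val * ((((x ^ i.val * y ^ j.val)⁻¹ * u : S)) : G) := by
    push_cast
    group
  rw [e2]
  exact D.mul_mem (D.mul_mem (D.pow_mem hx _) (D.pow_mem hy _)) h3

/-- A `3`-element acts quadratically on a section of order nine. -/
theorem quad_of_nine {S Z : Subgroup G} {b : G} (ψ : S →* Multiplicative (Fin 2 → ZMod 3))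
    (hs : Function.Surjective ψ) (hk : ∀ u : S, ψ u = 1 ↔ (u : G) ∈ Z) (hZS : Z ≤ S)
    (hbS : b ∈ Subgroup.normalizer (S : Set G)) (hbZ : b ∈ Subgroup.normalizer (Z : Set G))
    (hSZ : ∀ s ∈ S, ∀ z ∈ Z, s * z * s⁻¹ ∈ Z) (hP : IsPGroup 3 ↥(S ⊔ Subgroup.zpowers b)) {s : G} (hs' : s ∈ S) :
    b * (b * s * b⁻¹ * s⁻¹) * b⁻¹ * (b * s * b⁻¹ * s⁻¹)⁻¹ ∈ Z := by
  classical
  set P := S ⊔ Subgroup.zpowers b with hPd
  have hSN : S ≤ Subgroup.normalizer (S : Set G) := Subgroup.le_normalizer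
  have hPS : P ≤ Subgroup.normalizer (S : Set G) :=
    sup_le hSN ((Subgroup.zpowers_le).mpr hbS)
  have hZN : S ≤ Subgroup.normalizer (Z : Set G) := fun s hs => mem_normalizer_of_conj (hSZ s hs)
  have hPZ : P ≤ Subgroup.normalizer (Z : Set G) :=
    sup_le hZN ((Subgroup.zpowers_le).mpr hbZ)
  have hbP : b ∈ P := Subgroup.mem_sup_right (Subgroup.mem_zpowers b)
  have hSP : S ≤ P := le_sup_left
  have hne : ¬ S ≤ Z := by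
    intro h
    obtain ⟨u, hu⟩ := hs (Multiplicative.ofAdd ![1, 0])
    have h1 := (hk u).mpr (h u.2)
    rw [hu] at h1
    exact absurd (congrArg Multiplicative.toAdd h1) (by decide)
  obtain ⟨x, hxS, hxZ, hx⟩ := exists_central_mod hP hSP hZS (fun r hr u hu => conj_mem_of_normalizer (hPS hr) hu)
    (fun r hr u hu => conj_mem_of_normalizer (hPZ hr) hu) hne
  -- the second centre
  let D : Subgroup G :=
    { carrier := {a | a ∈ S ∧ ∀ r ∈ P, r * a * r⁻¹ * a⁻¹ ∈ Z}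
      one_mem' := ⟨S.one_mem, fun r _ => by simp [Z.one_mem]⟩
      mul_mem' := by
        rintro a c ⟨ha, ha2⟩ ⟨hc, hc2⟩
        refine ⟨S.mul_mem ha hc, fun r hr => ?_⟩
        have e : r * (a * c) * r⁻¹ * (a * c)⁻¹ = (r * a * r⁻¹ * a⁻¹) * (a * (r * c * r⁻¹ * c⁻¹) * a⁻¹) := by group
        rw [e]
        exact Z.mul_mem (ha2 r hr) (hSZ a ha _ (hc2 r hr))
      inv_mem' := by
        rintro a ⟨ha, ha2⟩
        refine ⟨S.inv_mem ha, fun r hr => ?_⟩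
        have e : r * a⁻¹ * r⁻¹ * a⁻¹⁻¹ = a⁻¹ * (r * a * r⁻¹ * a⁻¹)⁻¹ * a⁻¹⁻¹ := by group
        rw [e]
        exact hSZ _ (S.inv_mem ha) _ (Z.inv_mem (ha2 r hr)) }
  have hZD : Z ≤ D := fun z hz => ⟨hZS hz, fun r hr =>
    Z.mul_mem (conj_mem_of_normalizer (hPZ hr) hz) (Z.inv_mem hz)⟩
  have hxD : x ∈ D := ⟨hxS, hx⟩
  have hDinv : ∀ r ∈ P, ∀ d ∈ D, r * d * r⁻¹ ∈ D := by
    rintro r hr d ⟨hd, hd2⟩
    refine ⟨conj_mem_of_normalizer (hPS hr) hd, fun r' hr' => ?_⟩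
    have hrr : r⁻¹ * r' * r ∈ P := P.mul_mem (P.mul_mem (P.inv_mem hr) hr') hr
    have h1 := hd2 _ hrr
    have h2 := conj_mem_of_normalizer (hPZ hr) h1
    have e : r' * (r * d * r⁻¹) * r'⁻¹ * (r * d * r⁻¹)⁻¹ = r * ((r⁻¹ * r' * r) * d * (r⁻¹ * r' * r)⁻¹ * d⁻¹) * r⁻¹ := by
      group
    rw [e]
    exact h2
  suffices hgoal : b * s * b⁻¹ * s⁻¹ ∈ D from hgoal.2 b hbP
  by_cases hSD : S ≤ D
  · exact hSD (S.mul_mem (conj_mem_of_normalizer hbS hs') (S.inv_mem hs'))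
  obtain ⟨y, hyS, hyD, hy⟩ := exists_central_mod hP hSP (fun a ha => (show a ∈ D from ha).1)
    (fun r hr u hu => conj_mem_of_normalizer (hPS hr) hu) hDinv hSD
  -- `x, y` generate
  let D₂ : Subgroup G :=
    { carrier := {a | a ∈ S ∧ b * a * b⁻¹ * a⁻¹ ∈ D}
      one_mem' := ⟨S.one_mem, by simp [D.one_mem]⟩
      mul_mem' := by
        rintro a c ⟨ha, ha2⟩ ⟨hc, hc2⟩
        refine ⟨S.mul_mem ha hc, ?_⟩
        have e : b * (a * c) * b⁻¹ * (a * c)⁻¹ = (b * a * b⁻¹ * a⁻¹) * (a * (b * c * b⁻¹ * c⁻¹) * a⁻¹) := by group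
        rw [e]
        exact D.mul_mem ha2 (hDinv a (hSP ha) _ hc2)
      inv_mem' := by
        rintro a ⟨ha, ha2⟩
        refine ⟨S.inv_mem ha, ?_⟩
        have e : b * a⁻¹ * b⁻¹ * a⁻¹⁻¹ = a⁻¹ * (b * a * b⁻¹ * a⁻¹)⁻¹ * a⁻¹⁻¹ := by group
        rw [e]
        exact hDinv _ (hSP (S.inv_mem ha)) _ (D.inv_mem ha2) }
  have hxv : Multiplicative.toAdd (ψ ⟨x, hxS⟩) ≠ 0 := fun h => hxZ ((hk _).mp h)
  have hyv : Multiplicative.toAdd (ψ ⟨y, hyS⟩) ≠ 0 := fun h => hyD (hZD ((hk _).mp h))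
  have hxy : Multiplicative.toAdd (ψ ⟨y, hyS⟩) ≠ Multiplicative.toAdd (ψ ⟨x, hxS⟩) := by
    intro h
    apply hyD
    have h1 : ψ (⟨x, hxS⟩⁻¹ * ⟨y, hyS⟩) = 1 := by
      rw [map_mul, map_inv, show ψ ⟨y, hyS⟩ = ψ ⟨x, hxS⟩ from h]
      simp
    have h2 := hZD ((hk _).mp h1)
    have e : y = x * (x⁻¹ * y) := by group
    rw [e]
    exact D.mul_mem hxD h2
  have hxy' : Multiplicative.toAdd (ψ ⟨y, hyS⟩) ≠ - Multiplicative.toAdd (ψ ⟨x, hxS⟩) := by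
    intro h
    apply hyD
    have h1 : ψ (⟨x, hxS⟩ * ⟨y, hyS⟩) = 1 := by
      apply Multiplicative.toAdd.injective
      rw [map_mul, toAdd_mul, h]
      simp
    have h2 := hZD ((hk _).mp h1)
    have e : y = x⁻¹ * (x * y) := by group
    rw [e]
    exact D.mul_mem (D.inv_mem hxD) h2
  have hfin := gen_psi ψ hk D₂ (fun z hz => ⟨hZS hz, hZD (Z.mul_mem (conj_mem_of_normalizer hbZ hz) (Z.inv_mem hz))⟩)
    (x := ⟨x, hxS⟩) (y := ⟨y, hyS⟩) ⟨hxS, hZD (hx b hbP)⟩ ⟨hyS, hy b hbP⟩ (fun z => gen3 _ _ z hxv hyv hxy hxy') ⟨s, hs'⟩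
  exact hfin.2

theorem secKer_conj {U U₀ : Subgroup G} {g t : G} (hU : g ∈ Subgroup.normalizer (U : Set G))
    (hU₀ : g ∈ Subgroup.normalizer (U₀ : Set G)) (ht : t ∈ secKer U U₀) : g * t * g⁻¹ ∈ secKer U U₀ := by
  refine ⟨Subgroup.mul_mem _ (Subgroup.mul_mem _ hU ht.1) (Subgroup.inv_mem _ hU),
    Subgroup.mul_mem _ (Subgroup.mul_mem _ hU₀ ht.2.1) (Subgroup.inv_mem _ hU₀), fun u hu => ?_⟩
  have h1 : g⁻¹ * u * g ∈ U := by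
    have := conj_mem_of_normalizer (Subgroup.inv_mem _ hU) hu
    simpa using this
  have h2 := conj_mem_of_normalizer hU₀ (ht.2.2 _ h1)
  have e : u⁻¹ * (g * t * g⁻¹ * u * (g * t * g⁻¹)⁻¹) =
      g * ((g⁻¹ * u * g)⁻¹ * (t * (g⁻¹ * u * g) * t⁻¹)) * g⁻¹ := by group
  rw [e]
  exact h2

theorem split23 {u : G} {k : ℕ} (hu : u ^ 2 ^ k ∈ pCore 3 G) :
    ∃ u₂ ∈ Subgroup.zpowers u, ∃ u₃ ∈ Subgroup.zpowers u, u = u₂ * u₃ ∧ u₃ ∈ pCore 3 G ∧ (orderOf u₂).Coprime 3 := by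
  obtain ⟨l, hl⟩ := isP_of_mem_R (p := 3) hu
  have hc : Nat.Coprime (3 ^ l) (2 ^ k) := Nat.Coprime.pow _ _ (by norm_num)
  set A := Nat.gcdA (3 ^ l) (2 ^ k) with hA
  set B := Nat.gcdB (3 ^ l) (2 ^ k) with hB
  have e : (1 : ℤ) = ((3 ^ l : ℕ) : ℤ) * A + ((2 ^ k : ℕ) : ℤ) * B := by
    have := Nat.gcd_eq_gcd_ab (3 ^ l) (2 ^ k)
    rw [hc.gcd_eq_one] at this
    simpa using this
  refine ⟨(u ^ 3 ^ l) ^ A, ?_, (u ^ 2 ^ k) ^ B, ?_, ?_, ?_, ?_⟩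
  · exact Subgroup.zpow_mem _ (Subgroup.pow_mem _ (Subgroup.mem_zpowers u) _) _
  · exact Subgroup.zpow_mem _ (Subgroup.pow_mem _ (Subgroup.mem_zpowers u) _) _
  · have h1 : u = u ^ (((3 ^ l : ℕ) : ℤ) * A + ((2 ^ k : ℕ) : ℤ) * B) := by
      rw [← e]; simp
    conv_lhs => rw [h1]
    rw [zpow_add, zpow_mul, zpow_mul, zpow_natCast, zpow_natCast]
  · exact Subgroup.zpow_mem _ hu _
  · have h2 : ((u ^ 3 ^ l) ^ A) ^ 2 ^ k = 1 := by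
      rw [← zpow_natCast, zpow_comm]
      have : (u ^ 3 ^ l) ^ ((2 ^ k : ℕ) : ℤ) = 1 := by
        rw [zpow_natCast, ← pow_mul, mul_comm, pow_mul, hl]
      rw [this]; simp
    exact Nat.Coprime.coprime_dvd_left (orderOf_dvd_of_pow_eq_one h2) (Nat.Coprime.pow_left _ (by norm_num))

variable {E : Subgroup G}

theorem star (S₁ : Sylow 3 G) (hS : IsBaumannBlock 3 (S₁ : Subgroup G) E) (hEs : E.IsSubnormal)
    (hG : Subgroup.centralizer (pCore 3 G : Set G) ≤ pCore 3 G) (hx : ExcData 3 (S₁ : Subgroup G) E)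
    (sW : Sec 3 K3 E (Wb 3 E) (Zb 3 E)) (sQ : Sec 3 K3 E (Qb 3 E) (Wb 3 E)) {t₀ : G}
    (h1 : t₀ ∈ secKer (pCore 3 G) (Qb 3 E)) (h2 : t₀ ∈ secKer (Qb 3 E) (Wb 3 E))
    (h3 : t₀ ∈ Subgroup.normalizer (Zb 3 E : Set G)) (hinv : ∀ u ∈ Wb 3 E, u * (t₀ * u * t₀⁻¹) ∈ Zb 3 E)
    (h2g : prj 3 G t₀ ∈ pCore 2 (G ⧸ pCore 3 G)) : False := by
  have hZW : Zb 3 E ≤ Wb 3 E := Zb_le_W
  have hWQ : Wb 3 E ≤ Qb 3 E := Wb_le_Q
  have hQR : Qb 3 E ≤ pCore 3 G := Qb_le_R hEs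
  have hWV : Wb 3 E ≤ Vb 3 G := W_le_V hEs S₁ hS hG
  have hQQ : ∀ a ∈ Qb 3 E, ∀ c ∈ Qb 3 E, a * c * a⁻¹ * c⁻¹ ∈ Zb 3 E := by
    intro a ha c hc
    have : ⁅a, c⁆ ∈ (⁅Qb 3 E, Qb 3 E⁆ : Subgroup G) := Subgroup.commutator_mem_commutator ha hc
    rw [hx.comm] at this
    exact this
  have hZc : ∀ s ∈ Qb 3 E, ∀ z ∈ Zb 3 E, s * z * s⁻¹ = z := by
    intro s hs z hz
    rw [← W_comm_Q (hZW hz) hs]
    group
  have hQZ : ∀ s ∈ Qb 3 E, ∀ z ∈ Zb 3 E, s * z * s⁻¹ ∈ Zb 3 E := fun s hs z hz => by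
    rw [hZc s hs z hz]; exact hz
  have hsq : ∀ w ∈ Wb 3 E, w * w ∈ Zb 3 E → w ∈ Zb 3 E := by
    intro w hw h
    have h3 : w ^ 3 = 1 := W_pow hw
    have e : w = (w * w) * (w * w) * (w ^ 3)⁻¹ := by group
    rw [e, h3, inv_one, mul_one]
    exact (Zb 3 E).mul_mem h h
  -- (i)
  have hRQ : ∀ r ∈ pCore 3 G, ∀ a ∈ Qb 3 E, r * a * r⁻¹ * a⁻¹ ∈ Zb 3 E := by
    intro r hr a ha
    have hc : r * a * r⁻¹ * a⁻¹ ∈ Wb 3 E := comm_R_Q_mem_W hEs S₁ hS hr ha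
    set c := r * a * r⁻¹ * a⁻¹ with hcd
    have hq' : r⁻¹ * (t₀ * r * t₀⁻¹) ∈ Qb 3 E := h1.2.2 r hr
    set q := r⁻¹ * (t₀ * r * t₀⁻¹) with hqd
    have hw : a⁻¹ * (t₀ * a * t₀⁻¹) ∈ Wb 3 E := h2.2.2 a ha
    set w := a⁻¹ * (t₀ * a * t₀⁻¹) with hwd
    have er : t₀ * r * t₀⁻¹ = r * q := by rw [hqd]; group
    have ea : t₀ * a * t₀⁻¹ = a * w := by rw [hwd]; group
    have hd := hQQ q hq' a ha
    have hrd : r * (q * a * q⁻¹ * a⁻¹) * r⁻¹ ∈ Zb 3 E := conj_Z hEs (R_le_normalizer S₁ hS hr) hd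
    set z := r * (q * a * q⁻¹ * a⁻¹) * r⁻¹ with hzd
    have hwc : w * (q⁻¹ * r⁻¹) = (q⁻¹ * r⁻¹) * w :=
      V_comm_R (hWV hw) ((pCore 3 G).mul_mem ((pCore 3 G).inv_mem (hQR hq')) ((pCore 3 G).inv_mem hr))
    have e1 : t₀ * c * t₀⁻¹ = z * c := by
      have : t₀ * c * t₀⁻¹ = (t₀ * r * t₀⁻¹) * (t₀ * a * t₀⁻¹) * (t₀ * r * t₀⁻¹)⁻¹ * (t₀ * a * t₀⁻¹)⁻¹ := by
        rw [hcd]; group
      rw [this, er, ea]
      calc r * q * (a * w) * (r * q)⁻¹ * (a * w)⁻¹ = r * q * a * (w * (q⁻¹ * r⁻¹)) * w⁻¹ * a⁻¹ := by group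
        _ = r * q * a * ((q⁻¹ * r⁻¹) * w) * w⁻¹ * a⁻¹ := by rw [hwc]
        _ = z * c := by rw [hzd, hcd]; group
    have h4 := hinv c hc
    rw [e1] at h4
    apply hsq c hc
    have hzc : c * z = z * c := W_comm_W hc (hZW hrd)
    have e2 : c * c = z⁻¹ * (c * (z * c)) := by
      calc c * c = z⁻¹ * (z * c) * c := by group
        _ = z⁻¹ * (c * z) * c := by rw [hzc]
        _ = z⁻¹ * (c * (z * c)) := by group
    rw [e2]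
    exact (Zb 3 E).mul_mem ((Zb 3 E).inv_mem hrd) h4
  -- (ii)
  obtain ⟨b, hbB, hbC⟩ : ∃ b ∈ baumannSubgroupOf 3 (S₁ : Subgroup G), b ∉ Subgroup.centralizer (Wb 3 E : Set G) := by
    by_contra hcon
    push Not at hcon
    have hBW : ⁅baumannSubgroupOf 3 (S₁ : Subgroup G), Wb 3 E⁆ = ⊥ := by
      rw [← le_bot_iff, Subgroup.commutator_le]
      intro c hc w hw
      rw [Subgroup.mem_bot, commutatorElement_def, ← Subgroup.mem_centralizer_iff.mp (hcon c hc) w hw]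
      group
    have hWB : ⁅Wb 3 E, baumannSubgroupOf 3 (S₁ : Subgroup G)⁆ = ⊥ := by
      rw [Subgroup.commutator_comm]; exact hBW
    have e1 : ⁅⁅baumannSubgroupOf 3 (S₁ : Subgroup G), Wb 3 E⁆, E⁆ = ⊥ := by
      rw [hBW]; exact Subgroup.commutator_bot_left _
    have e2 : ⁅⁅Wb 3 E, E⁆, baumannSubgroupOf 3 (S₁ : Subgroup G)⁆ = ⊥ :=
      le_bot_iff.mp ((Subgroup.commutator_mono (P_le_W hEs) le_rfl).trans hWB.le)
    have e3 := Subgroup.commutator_commutator_eq_bot_of_rotate e1 e2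
    rw [hS.2.1] at e3
    apply P_not_le_Z hEs S₁ hS hG
    rw [Subgroup.commutator_comm, e3]
    exact bot_le
  have hbS₁ : b ∈ (S₁ : Subgroup G) := hbB.1
  have hbE : b ∈ Subgroup.normalizer (E : Set G) := by
    refine mem_normalizer_of_conj fun e he => ?_
    have h4 : ⁅b, e⁆ ∈ (⁅baumannSubgroupOf 3 (S₁ : Subgroup G), E⁆ : Subgroup G) :=
      Subgroup.commutator_mem_commutator hbB he
    rw [Subgroup.commutator_comm, hS.2.1] at h4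
    have e1 : b * e * b⁻¹ = ⁅b, e⁆ * e := by rw [commutatorElement_def]; group
    rw [e1]
    exact E.mul_mem h4 he
  have hbQ : b ∈ Subgroup.normalizer (Qb 3 E : Set G) := normalizer_le_normalizer_Q hEs hbE
  have hbW : b ∈ Subgroup.normalizer (Wb 3 E : Set G) := normalizer_le_normalizer_omegaOneCenter 3 _ hbQ
  have hbZ : b ∈ Subgroup.normalizer (Zb 3 E : Set G) := mem_normalizer_of_conj fun z hz => conj_Z hEs hbE hz
  -- (iii)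
  set t₁ := b * t₀ * b⁻¹ with ht₁
  have h2₁ : t₁ ∈ secKer (Qb 3 E) (Wb 3 E) := secKer_conj hbQ hbW h2
  have h3₁ : t₁ ∈ Subgroup.normalizer (Zb 3 E : Set G) :=
    Subgroup.mul_mem _ (Subgroup.mul_mem _ hbZ h3) (Subgroup.inv_mem _ hbZ)
  have hinv₁ : ∀ w ∈ Wb 3 E, w * (t₁ * w * t₁⁻¹) ∈ Zb 3 E := by
    intro w hw
    have hw' : b⁻¹ * w * b ∈ Wb 3 E := by
      have := conj_mem_of_normalizer (Subgroup.inv_mem _ hbW) hw
      simpa using this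
    have h4 := conj_mem_of_normalizer hbZ (hinv _ hw')
    have e : b * (b⁻¹ * w * b * (t₀ * (b⁻¹ * w * b) * t₀⁻¹)) * b⁻¹ = w * (t₁ * w * t₁⁻¹) := by
      rw [ht₁]; group
    rwa [e] at h4
  set u := t₀⁻¹ * t₁ with hu
  have hu1 : u ∈ secKer (Qb 3 E) (Wb 3 E) := Subgroup.mul_mem _ (Subgroup.inv_mem _ h2) h2₁
  have hu2 : u ∈ secKer (Wb 3 E) (Zb 3 E) := by
    refine ⟨hu1.2.1, Subgroup.mul_mem _ (Subgroup.inv_mem _ h3) h3₁, fun w hw => ?_⟩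
    have ha : t₁ * w * t₁⁻¹ ∈ Wb 3 E := conj_mem_of_normalizer h2₁.2.1 hw
    have hw'' : t₀⁻¹ * w * t₀ ∈ Wb 3 E := by
      have := conj_mem_of_normalizer (Subgroup.inv_mem _ h2.2.1) hw
      simpa using this
    have hz₁ := hinv₁ w hw
    have hz₂ : (t₀⁻¹ * w * t₀) * w ∈ Zb 3 E := by
      have := hinv _ hw''
      have e : t₀⁻¹ * w * t₀ * (t₀ * (t₀⁻¹ * w * t₀) * t₀⁻¹) = (t₀⁻¹ * w * t₀) * w := by group
      rwa [e] at this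
    have hz₃ : t₀⁻¹ * (w * (t₁ * w * t₁⁻¹)) * t₀ ∈ Zb 3 E := by
      have := conj_mem_of_normalizer (Subgroup.inv_mem _ h3) hz₁
      simpa using this
    have e : w⁻¹ * (u * w * u⁻¹) = ((t₀⁻¹ * w * t₀) * w)⁻¹ * (t₀⁻¹ * (w * (t₁ * w * t₁⁻¹)) * t₀) := by
      rw [hu]; group
    rw [e]
    exact (Zb 3 E).mul_mem ((Zb 3 E).inv_mem hz₂) hz₃
  have hub : prj 3 G u ∈ pCore 2 (G ⧸ pCore 3 G) := by
    have hn := pCore_normal 2 (G ⧸ pCore 3 G)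
    rw [hu, ht₁, map_mul, map_mul, map_mul, map_inv, map_inv]
    exact Subgroup.mul_mem _ (Subgroup.inv_mem _ h2g) (hn.conj_mem _ h2g _)
  obtain ⟨k, hk⟩ := isP_of_mem_R (p := 2) hub
  have huk : u ^ 2 ^ k ∈ pCore 3 G := by
    rw [← prj_eq_one (p := 3), map_pow]
    exact hk
  obtain ⟨u₂, hu₂, u₃, hu₃, hsplit, hu₃R, hco⟩ := split23 huk
  have hz1 : Subgroup.zpowers u ≤ secKer (Qb 3 E) (Wb 3 E) := (Subgroup.zpowers_le).mpr hu1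
  have hz2 : Subgroup.zpowers u ≤ secKer (Wb 3 E) (Zb 3 E) := (Subgroup.zpowers_le).mpr hu2
  have hQp : IsPGroup 3 (Qb 3 E) := (Cfsg.Agent.Lib.PCore.isPGroup_pCore 3).to_le hQR
  have huZ : ∀ a ∈ Qb 3 E, u * a * u⁻¹ * a⁻¹ ∈ Zb 3 E := by
    intro a ha
    have hc₃ := hRQ u₃ hu₃R a ha
    have hq : u₂ * a * u₂⁻¹ * a⁻¹ ∈ Qb 3 E :=
      (Qb 3 E).mul_mem (conj_mem_of_normalizer (hz1 hu₂).1 ha) ((Qb 3 E).inv_mem ha)
    have s1 := chain_step hco hQp hWQ (fun c hc w hw => by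
      have := W_comm_Q hw hc
      rw [← this]
      simpa using hw) (hz1 hu₂) hq
    have s2 := chain_step hco (hQp.to_le hWQ) hZW (fun c hc w hw => by
      have := W_comm_W hc (hZW hw)
      rw [this]
      simpa using hw) (hz2 hu₂) s1
    have e : u * a * u⁻¹ * a⁻¹ = (u₂ * (u₃ * a * u₃⁻¹ * a⁻¹) * u₂⁻¹) * (u₂ * a * u₂⁻¹ * a⁻¹) := by
      rw [hsplit]; group
    rw [e]
    exact (Zb 3 E).mul_mem (conj_mem_of_normalizer (hz2 hu₂).2.1 hc₃) s2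
  have ht₁a : ∀ a ∈ Qb 3 E, (t₁ * a * t₁⁻¹) * (t₀ * a * t₀⁻¹)⁻¹ ∈ Zb 3 E := by
    intro a ha
    have h4 := conj_mem_of_normalizer h3 (huZ a ha)
    have e : t₀ * (u * a * u⁻¹ * a⁻¹) * t₀⁻¹ = (t₁ * a * t₁⁻¹) * (t₀ * a * t₀⁻¹)⁻¹ := by
      rw [hu]; group
    rwa [e] at h4
  -- (iv)
  let A : Subgroup G := fixSub t₀ (Qb 3 E) (Zb 3 E) hQZ
  have hAQ : A ≤ Qb 3 E := fun a ha => ha.1
  have hAb : ∀ a ∈ A, b * a * b⁻¹ ∈ A := by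
    rintro a ⟨ha, ha2⟩
    have ha' : b * a * b⁻¹ ∈ Qb 3 E := conj_mem_of_normalizer hbQ ha
    refine ⟨ha', ?_⟩
    have h4 := conj_mem_of_normalizer hbZ ha2
    have h5 := ht₁a _ ha'
    have e : t₀ * (b * a * b⁻¹) * t₀⁻¹ * (b * a * b⁻¹)⁻¹ =
        ((t₁ * (b * a * b⁻¹) * t₁⁻¹) * (t₀ * (b * a * b⁻¹) * t₀⁻¹)⁻¹)⁻¹ * (b * (t₀ * a * t₀⁻¹ * a⁻¹) * b⁻¹) := by
      rw [ht₁]; group
    rw [e]
    exact (Zb 3 E).mul_mem ((Zb 3 E).inv_mem h5) h4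
  have hAW : ∀ w ∈ Wb 3 E, w ∈ A → w ∈ Zb 3 E := by
    intro w hw hwA
    apply hsq w hw
    have h4 := hinv w hw
    have h5 := hwA.2
    set c := t₀ * w * t₀⁻¹ * w⁻¹ with hc
    have e1 : t₀ * w * t₀⁻¹ = c * w := by rw [hc]; group
    rw [e1] at h4
    have hcw : w * c = c * w := W_comm_W hw (hZW h5)
    have e2 : w * w = c⁻¹ * (w * (c * w)) := by
      calc w * w = c⁻¹ * (c * w) * w := by group
        _ = c⁻¹ * (w * c) * w := by rw [hcw]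
        _ = _ := by group
    rw [e2]
    exact (Zb 3 E).mul_mem ((Zb 3 E).inv_mem h5) h4
  have hZA : Zb 3 E ≤ A := fun z hz =>
    ⟨hWQ (hZW hz), (Zb 3 E).mul_mem (conj_mem_of_normalizer h3 hz) ((Zb 3 E).inv_mem hz)⟩
  have hQAW : ∀ a ∈ Qb 3 E, ∃ ap ∈ A, ∃ w ∈ Wb 3 E, a = ap * w := by
    intro a ha
    have hw₀ : a⁻¹ * (t₀ * a * t₀⁻¹) ∈ Wb 3 E := h2.2.2 a ha
    set w₀ := a⁻¹ * (t₀ * a * t₀⁻¹) with hw₀d
    have hw' : w₀⁻¹ ∈ Wb 3 E := Subgroup.inv_mem _ hw₀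
    have hz := hinv _ hw'
    set y := t₀ * w₀⁻¹ * t₀⁻¹ with hy
    set z := w₀⁻¹ * y with hzd
    have ey : y = w₀ * z := by rw [hzd]; group
    refine ⟨a * w₀⁻¹, ⟨(Qb 3 E).mul_mem ha (hWQ hw'), ?_⟩, w₀, hw₀, by group⟩
    have e1 : t₀ * (a * w₀⁻¹) * t₀⁻¹ = a * w₀ * y := by
      rw [hy, hw₀d]; group
    have hw3 : w₀ ^ 3 = 1 := W_pow hw₀
    have hzc : w₀ * z = z * w₀ := W_comm_W hw₀ (hZW hz)
    have e2 : a * w₀ * y * (a * w₀⁻¹)⁻¹ = a * z * a⁻¹ := by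
      rw [ey]
      calc a * w₀ * (w₀ * z) * (a * w₀⁻¹)⁻¹ = a * (w₀ * w₀ * z * w₀) * a⁻¹ := by group
        _ = a * (z * (w₀ * w₀ * w₀)) * a⁻¹ := by
            have : w₀ * w₀ * z = z * (w₀ * w₀) := by
              calc w₀ * w₀ * z = w₀ * (w₀ * z) := by group
                _ = w₀ * (z * w₀) := by rw [hzc]
                _ = (w₀ * z) * w₀ := by group
                _ = (z * w₀) * w₀ := by rw [hzc]
                _ = z * (w₀ * w₀) := by group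
            rw [this]; group
        _ = a * z * a⁻¹ := by
            have : w₀ * w₀ * w₀ = 1 := by
              have h6 := hw3
              rw [pow_three] at h6
              rw [mul_assoc]; exact h6
            rw [this]; group
    rw [e1, e2]
    exact hQZ a ha z hz
  -- (v)
  have hRS : pCore 3 G ≤ (S₁ : Subgroup G) := Cfsg.Agent.Lib.PCore.pCore_le_sylow 3 S₁
  have hbzp : Subgroup.zpowers b ≤ (S₁ : Subgroup G) := (Subgroup.zpowers_le).mpr hbS₁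
  have hq_W : ∀ s ∈ Wb 3 E, b * (b * s * b⁻¹ * s⁻¹) * b⁻¹ * (b * s * b⁻¹ * s⁻¹)⁻¹ ∈ Zb 3 E := fun s hs =>
    quad_of_nine sW.ψ sW.surj sW.ker hZW hbW hbZ (fun s hs z hz => hQZ s (hWQ hs) z hz)
      (S₁.isPGroup'.to_le (sup_le ((hWQ.trans hQR).trans hRS) hbzp)) hs
  let ψA : A →* Multiplicative (Fin 2 → ZMod 3) := sQ.ψ.comp (Subgroup.inclusion hAQ)
  have hψAs : Function.Surjective ψA := by
    intro v
    obtain ⟨a, ha⟩ := sQ.surj v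
    obtain ⟨ap, hap, w, hw, he⟩ := hQAW a a.2
    refine ⟨⟨ap, hap⟩, ?_⟩
    rw [← ha]
    have h4 : sQ.ψ (⟨w, hWQ hw⟩ : Qb 3 E) = 1 := (sQ.ker _).mpr hw
    have h5 : a = Subgroup.inclusion hAQ ⟨ap, hap⟩ * ⟨w, hWQ hw⟩ := Subtype.ext he
    rw [h5, map_mul, h4, mul_one]
    rfl
  have hψAk : ∀ u : A, ψA u = 1 ↔ (u : G) ∈ Zb 3 E := by
    intro u
    have h4 := sQ.ker (Subgroup.inclusion hAQ u)
    constructor
    · intro h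
      exact hAW _ (h4.mp h) u.2
    · intro h
      exact h4.mpr (hZW h)
  have hq_A : ∀ s ∈ A, b * (b * s * b⁻¹ * s⁻¹) * b⁻¹ * (b * s * b⁻¹ * s⁻¹)⁻¹ ∈ Zb 3 E := fun s hs =>
    quad_of_nine ψA hψAs hψAk hZA (mem_normalizer_of_conj hAb) hbZ (fun s hs z hz => hQZ s (hAQ hs) z hz)
      (S₁.isPGroup'.to_le (sup_le ((hAQ.trans hQR).trans hRS) hbzp)) hs
  -- (vi)
  let DQ : Subgroup G := fixSub b (Qb 3 E) (Zb 3 E) hQZ
  have hDQinv : ∀ s ∈ Qb 3 E, ∀ d ∈ DQ, s * d * s⁻¹ ∈ DQ := by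
    rintro s hs d ⟨hd, hd2⟩
    have hsd := hQQ s hs d hd
    set z := s * d * s⁻¹ * d⁻¹ with hz
    refine ⟨(Qb 3 E).mul_mem ((Qb 3 E).mul_mem hs hd) ((Qb 3 E).inv_mem hs), ?_⟩
    have e : s * d * s⁻¹ = z * d := by rw [hz]; group
    rw [e]
    have e2 : b * (z * d) * b⁻¹ * (z * d)⁻¹ = (b * z * b⁻¹) * (b * d * b⁻¹ * d⁻¹) * z⁻¹ := by group
    rw [e2]
    exact (Zb 3 E).mul_mem ((Zb 3 E).mul_mem (conj_mem_of_normalizer hbZ hsd) hd2) ((Zb 3 E).inv_mem hsd)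
  let D₂ : Subgroup G := fixSub b (Qb 3 E) DQ hDQinv
  have hcQ : ∀ s ∈ Qb 3 E, b * s * b⁻¹ * s⁻¹ ∈ Qb 3 E := fun s hs =>
    (Qb 3 E).mul_mem (conj_mem_of_normalizer hbQ hs) ((Qb 3 E).inv_mem hs)
  have hQD₂ : ∀ a ∈ Qb 3 E, a ∈ D₂ := by
    intro a ha
    obtain ⟨ap, hap, w, hw, rfl⟩ := hQAW a ha
    refine D₂.mul_mem ⟨hAQ hap, hcQ _ (hAQ hap), hq_A _ hap⟩ ⟨hWQ hw, hcQ _ (hWQ hw), hq_W _ hw⟩
  have hbD : b ∈ Subgroup.normalizer (DQ : Set G) := by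
    refine mem_normalizer_of_conj ?_
    rintro d ⟨hd, hd2⟩
    refine ⟨conj_mem_of_normalizer hbQ hd, ?_⟩
    have e : b * (b * d * b⁻¹) * b⁻¹ * (b * d * b⁻¹)⁻¹ = b * (b * d * b⁻¹ * d⁻¹) * b⁻¹ := by group
    rw [e]
    exact conj_mem_of_normalizer hbZ hd2
  have hb1 : b ∈ secKer (Qb 3 E) DQ := by
    refine ⟨hbQ, hbD, fun v hv => ?_⟩
    have h4 := (hQD₂ v hv).2
    have h5 := hDQinv _ ((Qb 3 E).inv_mem hv) _ h4
    have e : v⁻¹ * (b * v * b⁻¹) = v⁻¹ * (b * v * b⁻¹ * v⁻¹) * v⁻¹⁻¹ := by group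
    rw [e]
    exact h5
  have hb2 : b ∈ secKer DQ (Zb 3 E) := by
    refine ⟨hbD, hbZ, fun v hv => ?_⟩
    have h5 := hQZ _ ((Qb 3 E).inv_mem hv.1) _ hv.2
    have e : v⁻¹ * (b * v * b⁻¹) = v⁻¹ * (b * v * b⁻¹ * v⁻¹) * v⁻¹⁻¹ := by group
    rw [e]
    exact h5
  have hz1' : Subgroup.zpowers b ≤ secKer (Qb 3 E) DQ := (Subgroup.zpowers_le).mpr hb1
  have hz2' : Subgroup.zpowers b ≤ secKer DQ (Zb 3 E) := (Subgroup.zpowers_le).mpr hb2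
  have hf1 : (⁅Qb 3 E, Subgroup.zpowers b⁆ : Subgroup G) ≤ DQ := by
    rw [Subgroup.commutator_le]
    intro a ha β hβ
    have h4 := (hz1' hβ).2.2 a⁻¹ ((Qb 3 E).inv_mem ha)
    have e : ⁅a, β⁆ = a⁻¹⁻¹ * (β * a⁻¹ * β⁻¹) := by rw [commutatorElement_def]; group
    rw [e]
    exact h4
  have hf2 : (⁅DQ, Subgroup.zpowers b⁆ : Subgroup G) ≤ Zb 3 E := by
    rw [Subgroup.commutator_le]
    intro a ha β hβ
    have h4 := (hz2' hβ).2.2 a⁻¹ (DQ.inv_mem ha)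
    have e : ⁅a, β⁆ = a⁻¹⁻¹ * (β * a⁻¹ * β⁻¹) := by rw [commutatorElement_def]; group
    rw [e]
    exact h4
  apply hx.quad b hbB hbC
  rw [hx.cz]
  exact (Subgroup.commutator_mono hf1 le_rfl).trans hf2

end

end Cfsg.Agent.Lib.BauSub
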