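import Mathlib
import Cfsg.Agent.Lib.BauSub9

/-!
# Baumann blocks: the case `p = 3`
-/

set_option autoImplicit false

open Cfsg
open scoped commutatorElement

namespace Cfsg.Agent.Lib.BauSub

open Cfsg.Agent.Lib.BauBlock Cfsg.Agent.Lib.BauBlock2 Cfsg.Agent.Lib.PLocalTools Cfsg.Agent.Lib.BauSchur
  Cfsg.Agent.Lib.BauSec Cfsg.Agent.Lib.LocalCore

section

variable {G : Type*} [Group G] [Finite G] {E F : Subgroup G}

theorem Sm3.notC3 (h : Sm3 E) : NotC3 3 E := by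
  obtain ⟨S⟩ := h.sW
  exact S.toSec.not_comm K3_nonab

theorem Sm3.hN2 {T : Subgroup G} (h : Sm3 E) (hx : ExcData 3 T E) :
    ∃ f ∈ (⁅E, E⁆ : Subgroup G), ∃ u ∈ Qb 3 E, u⁻¹ * (f * u * f⁻¹) ∉ Wb 3 E := by
  rcases h.sQ with h1 | ⟨⟨S⟩⟩
  · exact absurd (fun a ha b hb => W_comm_W (h1.le ha) (h1.le hb)) hx.not_abelian
  · exact S.toSec.not_comm K3_nonab

theorem C3 (hE : Good 3 8 E) (hF : Good 3 8 F) (hG : Subgroup.centralizer (pCore 3 G : Set G) ≤ pCore 3 G)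
    (hc : ⁅E, F⁆ ≤ pCore 3 G) : ⁅E, F⁆ = ⊥ := by
  have hF3 := sm3_of_good hF
  obtain ⟨hEs, ⟨S₁, hS₁⟩, _⟩ := hE
  obtain ⟨hFs, ⟨S₂, hS₂⟩, _⟩ := hF
  exact stepB S₁ S₂ hS₁ hS₂ hEs hFs hG hc (Or.inl hF3.notC3) (fun hx => hF3.hN2 hx)

set_option maxRecDepth 100000 in
theorem neg_one_ne_one : (-1 : S3) ≠ 1 := by decide

set_option maxRecDepth 100000 in
theorem inv_order4 : ∀ A B : S3, A * A = -1 → (B = 1 ∨ B = -1) → A⁻¹ * B ≠ 1 ∧ A⁻¹ * B ≠ -1 := by decide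

theorem cent_P3 (S : SecK 3 K3 (Qb 3 E) E (Wb 3 E) (Zb 3 E)) (hEs : E.IsSubnormal) :
    (⁅Wb 3 E, E⁆ : Subgroup G) ⊓ Subgroup.centralizer (E : Set G) = ⊥ := by
  rw [eq_bot_iff]
  rintro v ⟨hv, hc⟩
  obtain ⟨t, ht⟩ := Sec.ex_rho S.toSec isQ_neg
  have htQ : (t : G) ∉ Qb 3 E := fun h => neg_one_ne_one (ht.symm.trans ((S.kerρ t).mpr h))
  have hfix : (t : G) * v * (t : G)⁻¹ = v := by
    rw [Subgroup.mem_centralizer_iff.mp hc t t.2]
    group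
  exact fpf_P S hEs htQ hv hfix

/-- The core of (H) at `p = 3`. -/
theorem H3_gen (hE : Good 3 8 E) (hF : Good 3 8 F) (hG : Subgroup.centralizer (pCore 3 G : Set G) ≤ pCore 3 G)
    (hyp : ∀ g ∈ F, ∀ h ∈ F, E.map (cn g) = E.map (cn h) ∨ ⁅E.map (cn g), E.map (cn h)⁆ ≤ pCore 3 G)
    (SF : SecK 3 K3 (Qb 3 F) F (Wb 3 F) (Zb 3 F)) {g₀ : F} (hg1 : SF.ρ g₀ ≠ 1) (hg2 : SF.ρ g₀ ≠ -1) :
    (g₀ : G) ∈ Subgroup.normalizer (E : Set G) := by
  obtain ⟨SE⟩ := (sm3_of_good hE).sW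
  obtain ⟨hEs, ⟨S₁, hS₁⟩, _⟩ := id hE
  obtain ⟨hFs, ⟨S₂, hS₂⟩, _⟩ := id hF
  set g : G := (g₀ : G) with hgd
  have hg : g ∈ F := g₀.2
  by_contra hgN
  have hne01 : E ≠ E.map (cn g) := fun h => hgN (norm_of_map_eq h.symm)
  have hne12 : E.map (cn g) ≠ E.map (cn (g * g)) := by
    intro h
    rw [map_cn_mul] at h
    exact hne01 (Subgroup.map_injective (cn_inj g) h)
  have h01 : ⁅E, E.map (cn g)⁆ = ⊥ := by
    have h1 := (hyp 1 F.one_mem g hg).resolve_left (by rw [map_cn_one]; exact hne01)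
    rw [map_cn_one] at h1
    exact C3 hE (hE.conj g) hG h1
  have hcE := card_P SE hEs (W_le_P_sup_Z hEs S₁ hS₁ hG)
  have hcF := card_P SF hFs (W_le_P_sup_Z hFs S₂ hS₂ hG)
  have hcent := cent_P3 SE hEs
  by_cases h2 : E.map (cn (g * g)) = E
  swap
  · have h02 : ⁅E, E.map (cn (g * g))⁆ = ⊥ := by
      have h1 := (hyp 1 F.one_mem (g * g) (F.mul_mem hg hg)).resolve_left (by rw [map_cn_one]; exact fun h => h2 h.symm)
      rw [map_cn_one] at h1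
      exact C3 hE (hE.conj _) hG h1
    have h12 : ⁅E.map (cn g), E.map (cn (g * g))⁆ = ⊥ := by
      have h1 := (hyp g hg (g * g) (F.mul_mem hg hg)).resolve_left hne12
      exact C3 (hE.conj _) (hE.conj _) hG h1
    exact three_conj_false (n := 9) (by norm_num) S₁ S₂ hS₁ hS₂ hEs hG hcE hcF hcent hg h01 h02 h12
  -- `g²` normalizes `E`
  set P₀ : Subgroup G := ⁅Wb 3 E, E⁆ with hP₀
  set P₁ : Subgroup G := P₀.map (cn g) with hP₁
  set Pf : Subgroup G := ⁅Wb 3 F, F⁆ with hPf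
  have hP₀V : P₀ ≤ Vb 3 G := P_le_V S₁ hS₁ hG
  have hP₁V : P₁ ≤ Vb 3 G := by
    rintro _ ⟨a, ha, rfl⟩
    exact conj_V g (hP₀V ha)
  have hgg : g * g ∈ Subgroup.normalizer (E : Set G) := norm_of_map_eq h2
  have hP₀gg : ∀ v ∈ P₀, (g * g) * v * (g * g)⁻¹ ∈ P₀ := fun v hv =>
    conj_mem_comm (fun a ha => conj_W hEs hgg ha) (fun a ha => conj_mem_of_normalizer hgg ha) hv
  have hg01 : ∀ a ∈ P₀, g * a * g⁻¹ ∈ P₁ := fun a ha => conj_mem_map ha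
  have hg10 : ∀ b ∈ P₁, g * b * g⁻¹ ∈ P₀ := by
    rintro _ ⟨a, ha, rfl⟩
    have := hP₀gg a ha
    rw [cn_apply]
    have e : g * (g * a * g⁻¹) * g⁻¹ = (g * g) * a * (g * g)⁻¹ := by group
    rwa [e]
  have hcm : P₁ ⊓ Subgroup.centralizer ((E.map (cn g) : Subgroup G) : Set G) = ⊥ := by
    rw [centralizer_map_cn, ← Subgroup.map_inf _ _ _ (cn_inj g), hcent, Subgroup.map_bot]
  have hP₀C : P₀ ≤ Subgroup.centralizer ((E.map (cn g) : Subgroup G) : Set G) := by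
    intro a ha
    refine Subgroup.mem_centralizer_iff.mpr fun b hb => ?_
    exact (commutator_eq_bot_iff_elementwise.mp h01 a (P_le_E hEs ha) b hb).symm
  have hdisj : ∀ v, v ∈ P₀ → v ∈ P₁ → v = 1 := by
    intro v h0 h1
    have : v ∈ P₁ ⊓ Subgroup.centralizer ((E.map (cn g) : Subgroup G) : Set G) := ⟨h1, hP₀C h0⟩
    rw [hcm] at this
    exact this
  have hcP₁ : Nat.card P₁ = 9 := by
    rw [hP₁, Subgroup.card_map_of_injective (cn_inj g)]; exact hcE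
  -- pigeonhole
  let f : P₀ × P₁ → Pf := fun x => ⟨g * (x.1 * x.2) * g⁻¹ * ((x.1 : G) * x.2)⁻¹,
    comm_V_mem_P S₂ hS₂ hG hg ((Vb 3 G).mul_mem (hP₀V x.1.2) (hP₁V x.2.2))⟩
  have hlt : Nat.card Pf < Nat.card (P₀ × P₁) := by
    rw [Nat.card_prod, hcE, hcP₁, hcF]; norm_num
  have hni : ¬ Function.Injective f := fun hinj => absurd (Nat.card_le_card_of_injective f hinj) (not_le.mpr hlt)
  obtain ⟨⟨a, b⟩, ⟨a', b'⟩, heq, hne⟩ := Function.not_injective_iff.mp hni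
  have heq' : g * ((a : G) * b) * g⁻¹ * ((a : G) * b)⁻¹ = g * ((a' : G) * b') * g⁻¹ * ((a' : G) * b')⁻¹ :=
    congrArg Subtype.val heq
  set A := (a : G)⁻¹ * a' with hA
  set B := (b : G)⁻¹ * b' with hB
  have hAP : A ∈ P₀ := P₀.mul_mem (P₀.inv_mem a.2) a'.2
  have hBP : B ∈ P₁ := P₁.mul_mem (P₁.inv_mem b.2) b'.2
  have hcV : ∀ {x y : G}, x ∈ Vb 3 G → y ∈ Vb 3 G → x * y = y * x := fun hx hy => V_comm_V hx hy
  have ha := hP₀V a.2
  have ha' := hP₀V a'.2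
  have hb := hP₁V b.2
  have hb' := hP₁V b'.2
  have hAV := hP₀V hAP
  have hBV := hP₁V hBP
  -- `AB` is fixed
  have hfix : g * (A * B) * g⁻¹ = A * B := by
    have e1 : (a' : G) * b' = (a : G) * b * (A * B) := by
      rw [hA, hB]
      have hc1 : (b : G) * ((a : G)⁻¹ * a') = ((a : G)⁻¹ * a') * b := hcV hb hAV
      calc (a' : G) * b' = a * ((a : G)⁻¹ * a') * (b * ((b : G)⁻¹ * b')) := by group
        _ = a * (((a : G)⁻¹ * a') * b) * ((b : G)⁻¹ * b') := by group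
        _ = a * (b * ((a : G)⁻¹ * a')) * ((b : G)⁻¹ * b') := by rw [hc1]
        _ = _ := by group
    rw [e1] at heq'
    set x := (a : G) * b with hx
    have hxV : x ∈ Vb 3 G := (Vb 3 G).mul_mem ha hb
    have hABV : A * B ∈ Vb 3 G := (Vb 3 G).mul_mem hAV hBV
    have e2 : g * (x * (A * B)) * g⁻¹ * (x * (A * B))⁻¹ =
        (g * x * g⁻¹) * (g * (A * B) * g⁻¹) * ((A * B)⁻¹ * x⁻¹) := by group
    rw [e2] at heq'
    have hc2 : (g * (A * B) * g⁻¹) * ((A * B)⁻¹ * x⁻¹) = x⁻¹ * ((g * (A * B) * g⁻¹) * (A * B)⁻¹) := by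
      have h3 : (g * (A * B) * g⁻¹) * (A * B)⁻¹ ∈ Vb 3 G :=
        (Vb 3 G).mul_mem (conj_V g hABV) ((Vb 3 G).inv_mem hABV)
      have := hcV h3 ((Vb 3 G).inv_mem hxV)
      calc (g * (A * B) * g⁻¹) * ((A * B)⁻¹ * x⁻¹) = ((g * (A * B) * g⁻¹) * (A * B)⁻¹) * x⁻¹ := by group
        _ = _ := this
    have h4 : (g * x * g⁻¹) * x⁻¹ = (g * x * g⁻¹) * (x⁻¹ * ((g * (A * B) * g⁻¹) * (A * B)⁻¹)) := by
      rw [← hc2, ← mul_assoc (g * x * g⁻¹)]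
      exact heq'
    have h5 : (g * (A * B) * g⁻¹) * (A * B)⁻¹ = 1 := by
      have h6 : x⁻¹ = x⁻¹ * ((g * (A * B) * g⁻¹) * (A * B)⁻¹) := mul_left_cancel h4
      exact left_eq_mul.mp h6
    exact mul_inv_eq_one.mp h5
  -- splitting
  have hga : g * A * g⁻¹ ∈ P₁ := hg01 A hAP
  have hgb : g * B * g⁻¹ ∈ P₀ := hg10 B hBP
  have hgaV := hP₁V hga
  have hgbV := hP₀V hgb
  have hsplit : (g * B * g⁻¹) = A ∧ (g * A * g⁻¹) = B := by
    have e1 : (g * A * g⁻¹) * (g * B * g⁻¹) = A * B := by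
      rw [← hfix]; group
    have e2 : (g * B * g⁻¹) * (g * A * g⁻¹) = A * B := by rw [← e1]; exact hcV hgbV hgaV
    have e3 : A⁻¹ * (g * B * g⁻¹) = B * (g * A * g⁻¹)⁻¹ := by
      have : (g * B * g⁻¹) = A * B * (g * A * g⁻¹)⁻¹ := by rw [← e2]; group
      rw [this]; group
    have h1 : A⁻¹ * (g * B * g⁻¹) = 1 := hdisj _ (P₀.mul_mem (P₀.inv_mem hAP) hgb)
      (by rw [e3]; exact P₁.mul_mem hBP (P₁.inv_mem hga))
    have h2 : g * B * g⁻¹ = A := by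
      have : A⁻¹ * (g * B * g⁻¹) = 1 := h1
      exact (inv_mul_eq_one.mp this).symm
    refine ⟨h2, ?_⟩
    rw [h2] at e2
    exact mul_left_cancel e2
  obtain ⟨hgB, hgA⟩ := hsplit
  have hA1 : A ≠ 1 := by
    intro hA1
    have hB1 : B = 1 := by rw [← hgA, hA1]; group
    apply hne
    have ea : a = a' := by
      apply Subtype.ext
      have : (a : G) * A = a' := by rw [hA]; group
      rw [← this, hA1, mul_one]
    have eb : b = b' := by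
      apply Subtype.ext
      have : (b : G) * B = b' := by rw [hB]; group
      rw [← this, hB1, mul_one]
    rw [ea, eb]
  set v := A * B⁻¹ with hv
  have hvV : v ∈ Vb 3 G := (Vb 3 G).mul_mem hAV ((Vb 3 G).inv_mem hBV)
  have hv1 : v ≠ 1 := by
    intro h
    apply hA1
    have e : A = B := by
      have : A * B⁻¹ = 1 := h
      exact mul_inv_eq_one.mp this
    refine hdisj A hAP ?_
    rw [e]; exact hBP
  have hgv : g * v * g⁻¹ = v⁻¹ := by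
    have e : g * v * g⁻¹ = (g * A * g⁻¹) * (g * B * g⁻¹)⁻¹ := by rw [hv]; group
    have key : ∀ X Y : G, Y * X⁻¹ = (X * Y⁻¹)⁻¹ := fun X Y => by group
    rw [e, hgA, hgB]
    exact key A B
  have hv3 : v ^ 3 = 1 := (omegaOneCenter_ea 3 _).2 v hvV
  have hvP : v ∈ Pf := by
    have h1 := comm_V_mem_P S₂ hS₂ hG hg hvV
    rw [hgv] at h1
    have e : v = v⁻¹ * v⁻¹ := by
      have : v * (v * v) = 1 := by rw [← pow_three]; exact hv3
      have h2 : v * v = v⁻¹ := eq_inv_of_mul_eq_one_right this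
      rw [← h2]
      calc v = (v * (v * v)) * v := by rw [this, one_mul]
        _ = _ := by group
    rw [e]
    exact h1
  have hggv : (g * g) * v * (g * g)⁻¹ = v := by
    have e : (g * g) * v * (g * g)⁻¹ = g * (g * v * g⁻¹) * g⁻¹ := by group
    rw [e, hgv]
    have e2 : g * v⁻¹ * g⁻¹ = (g * v * g⁻¹)⁻¹ := by group
    rw [e2, hgv, inv_inv]
  have hggQ : ((g₀ * g₀ : F) : G) ∉ Qb 3 F := by
    intro h
    have h3 := (SF.kerρ (g₀ * g₀)).mpr h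
    rw [map_mul, isQ_not_one_sq _ (Sec.isQ_rho SF.toSec g₀) hg1 hg2] at h3
    exact neg_one_ne_one h3
  exact hv1 (fpf_P SF hFs hggQ hvP hggv)

theorem H3 (hE : Good 3 8 E) (hF : Good 3 8 F) (hG : Subgroup.centralizer (pCore 3 G : Set G) ≤ pCore 3 G)
    (hyp : ∀ g ∈ F, ∀ h ∈ F, E.map (cn g) = E.map (cn h) ∨ ⁅E.map (cn g), E.map (cn h)⁆ ≤ pCore 3 G) :
    F ≤ Subgroup.normalizer (E : Set G) := by
  obtain ⟨SF⟩ := (sm3_of_good hF).sW
  intro x hx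
  by_cases h1 : SF.ρ ⟨x, hx⟩ = 1 ∨ SF.ρ ⟨x, hx⟩ = -1
  · obtain ⟨A₀, hQA, hA2, hA1, hAm⟩ := exists_order4
    obtain ⟨g₀, hg₀⟩ := Sec.ex_rho SF.toSec hQA
    have h2 := H3_gen hE hF hG hyp SF (g₀ := g₀) (by change SF.toSec.ρ g₀ ≠ 1; rw [hg₀]; exact hA1)
      (by change SF.toSec.ρ g₀ ≠ -1; rw [hg₀]; exact hAm)
    have h4 := inv_order4 A₀ _ hA2 h1
    have h3 := H3_gen hE hF hG hyp SF (g₀ := g₀⁻¹ * ⟨x, hx⟩)
      (by
        rw [map_mul, map_inv]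
        change (SF.toSec.ρ g₀)⁻¹ * _ ≠ 1
        rw [hg₀]; exact h4.1)
      (by
        rw [map_mul, map_inv]
        change (SF.toSec.ρ g₀)⁻¹ * _ ≠ -1
        rw [hg₀]; exact h4.2)
    have e : x = (g₀ : G) * (((g₀⁻¹ * ⟨x, hx⟩ : F)) : G) := by
      push_cast
      group
    rw [e]
    exact Subgroup.mul_mem _ h2 h3
  · push Not at h1
    exact H3_gen hE hF hG hyp SF (g₀ := ⟨x, hx⟩) h1.1 h1.2

end

end Cfsg.Agent.Lib.BauSub
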