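import Mathlib
import Cfsg.Agent.Lib.BauSub10

/-!
# Baumann blocks: mutually normalizing blocks at `p = 3`
-/

set_option autoImplicit false

open Cfsg
open scoped commutatorElement

namespace Cfsg.Agent.Lib.BauSub

open Cfsg.Agent.Lib.BauBlock Cfsg.Agent.Lib.BauBlock2 Cfsg.Agent.Lib.PLocalTools Cfsg.Agent.Lib.BauSchur
  Cfsg.Agent.Lib.BauSec Cfsg.Agent.Lib.LocalCore

section

variable {G : Type*} [Group G] [Finite G] {E F : Subgroup G}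

theorem agree_secKer {U U₀ : Subgroup G} (S₁ : Sec 3 K3 E U U₀) (S₂ : Sec 3 K3 F U U₀) (x : E) (y : F)
    (h : ∀ u : U, S₁.ev (S₁.cj x u) = S₁.ev (S₂.cj y u)) : (x : G)⁻¹ * y ∈ secKer U U₀ := by
  refine ⟨Subgroup.mul_mem _ (Subgroup.inv_mem _ (S₁.nU x.2)) (S₂.nU y.2),
    Subgroup.mul_mem _ (Subgroup.inv_mem _ (S₁.le_norm₀ x.2)) (S₂.le_norm₀ y.2), fun u hu => ?_⟩
  have h1 : ((x : G) * u * (x : G)⁻¹)⁻¹ * ((y : G) * u * (y : G)⁻¹) ∈ U₀ := (Sec.ev_eq_iff S₁).mp (h ⟨u, hu⟩)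
  have h2 := conj_mem_of_normalizer (Subgroup.inv_mem _ (S₁.le_norm₀ x.2)) h1
  have e : u⁻¹ * ((x : G)⁻¹ * y * u * ((x : G)⁻¹ * y)⁻¹) =
      (x : G)⁻¹ * (((x : G) * u * (x : G)⁻¹)⁻¹ * ((y : G) * u * (y : G)⁻¹)) * (x : G)⁻¹⁻¹ := by group
  rw [e]
  exact h2

theorem Q_le3 (hE : Good 3 8 E) (hF : Good 3 8 F) (hG : Subgroup.centralizer (pCore 3 G : Set G) ≤ pCore 3 G)
    {t : G} (htE : t ∈ E) (htF : t ∈ F) (S : SecK 3 K3 (Qb 3 E) E (Wb 3 E) (Zb 3 E)) (ht : S.ρ ⟨t, htE⟩ = -1) :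
    Qb 3 E ≤ Qb 3 F := by
  have hEm := sm3_of_good hE
  obtain ⟨hEs, ⟨S₁, hS₁⟩, _⟩ := hE
  obtain ⟨hFs, ⟨S₂, hS₂⟩, _⟩ := hF
  have hR : Qb 3 E ≤ pCore 3 G := Qb_le_R hEs
  have hcomm : ∀ r ∈ pCore 3 G, t * r * t⁻¹ * r⁻¹ ∈ Qb 3 F := fun r hr => comm_mem_Q hFs S₂ hS₂ hr htF
  have hPF : (⁅Wb 3 E, E⁆ : Subgroup G) ≤ Qb 3 F := by
    intro v hv
    have h1 := inv_P S hEs ht hv
    have hvW := P_le_W hEs hv
    have h2 := hcomm v (hR (Wb_le_Q hvW))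
    have h3 : t * v * t⁻¹ = v⁻¹ := eq_inv_of_mul_eq_one_left h1
    rw [h3] at h2
    have hv3 : v ^ 3 = 1 := W_pow hvW
    have e : v = v⁻¹ * v⁻¹ := by
      have h4 : v * (v * v) = 1 := by rw [← pow_three]; exact hv3
      have h5 : v * v = v⁻¹ := eq_inv_of_mul_eq_one_right h4
      rw [← h5]
      calc v = (v * (v * v)) * v := by rw [h4, one_mul]
        _ = _ := by group
    rw [e]
    exact h2
  rcases block_dich hS₁ with h | hx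
  · have hP : (⁅Wb 3 E, E⁆ : Subgroup G) = Wb 3 E := by
      have h2 : (⁅Qb 3 E, E⁆ : Subgroup G) = Qb 3 E := hS₁.2.2.1
      rwa [h] at h2
    intro a ha
    apply hPF
    rw [hP]
    exact h.le ha
  · obtain ⟨S'⟩ : Nonempty (SecK 3 K3 (Qb 3 E) E (Qb 3 E) (Wb 3 E)) := by
      rcases hEm.sQ with h1 | h1
      · exact absurd (fun a ha b hb => W_comm_W (h1.le ha) (h1.le hb)) hx.not_abelian
      · exact h1
    have hρ' : S'.ρ ⟨t, htE⟩ = -1 := by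
      refine isQ_sq_one _ (Sec.isQ_rho S'.toSec _) ?_ ?_
      · rw [← map_mul]
        refine (S'.kerρ _).mpr ?_
        have := (S.kerρ (⟨t, htE⟩ * ⟨t, htE⟩)).mp (by rw [map_mul, ht]; exact neg_one_sq)
        exact this
      · exact fun h => neg_one_ne_one (ht.symm.trans ((S.kerρ _).mpr ((S'.kerρ _).mp h)))
    have hdec : ∀ a ∈ Qb 3 E, ∃ c ∈ Qb 3 E, c ∈ Qb 3 F ∧ ∃ w ∈ Wb 3 E, a = w * c := by
      intro a ha
      have hcE : t * a * t⁻¹ * a⁻¹ ∈ Qb 3 E :=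
        (Qb 3 E).mul_mem (conj_Q_of_mem hEs htE ha) ((Qb 3 E).inv_mem ha)
      refine ⟨_, hcE, hcomm a (hR ha), a * (t * a * t⁻¹ * a⁻¹)⁻¹, ?_, by group⟩
      have h1 : S'.ev (⟨a, ha⟩ * (S'.cj ⟨t, htE⟩ ⟨a, ha⟩ * ⟨a, ha⟩⁻¹)⁻¹) = 0 := by
        rw [Sec.ev_mul, Sec.ev_inv, Sec.ev_mul, Sec.ev_inv, Sec.ev_cj]
        change S'.ev ⟨a, ha⟩ + -(((S'.ρ ⟨t, htE⟩ : S3)).1.mulVec (S'.ev ⟨a, ha⟩) + -S'.ev ⟨a, ha⟩) = 0
        rw [hρ', neg_one_act]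
        have := z3_three (v := S'.ev ⟨a, ha⟩)
        rw [← this]
        abel
      exact (Sec.ev_eq_zero S'.toSec).mp h1
    have hmemF : ∀ a ∈ Qb 3 F, ∀ b ∈ Qb 3 F, ⁅a, b⁆ ∈ Qb 3 F := by
      intro a ha b hb
      rw [commutatorElement_def]
      exact (Qb 3 F).mul_mem ((Qb 3 F).mul_mem ((Qb 3 F).mul_mem ha hb) ((Qb 3 F).inv_mem ha)) ((Qb 3 F).inv_mem hb)
    have hZ : Zb 3 E ≤ Qb 3 F := by
      rw [← hx.comm, Subgroup.commutator_le]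
      intro a ha b hb
      obtain ⟨c₁, hc₁, hc₁F, w₁, hw₁, rfl⟩ := hdec a ha
      obtain ⟨c₂, hc₂, hc₂F, w₂, hw₂, rfl⟩ := hdec b hb
      rw [comm_central_factor (W_comm_Q hw₁ hc₁) (W_comm_Q hw₁ hc₂) (W_comm_Q hw₂ hc₁) (W_comm_Q hw₂ hc₂)
        (W_comm_W hw₁ hw₂)]
      exact hmemF _ hc₁F _ hc₂F
    have hW : Wb 3 E ≤ Qb 3 F := by
      intro w hw
      obtain ⟨p, hp, z, hz, e⟩ := mem_sup_W (P_le_W hEs) Zb_le_W (W_le_P_sup_Z hEs S₁ hS₁ hG hw)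
      rw [e]
      exact (Qb 3 F).mul_mem (hPF hp) (hZ hz)
    intro a ha
    obtain ⟨c, _, hcF, w, hw, rfl⟩ := hdec a ha
    exact (Qb 3 F).mul_mem (hW hw) hcF

theorem N3 (hE : Good 3 8 E) (hF : Good 3 8 F) (hG : Subgroup.centralizer (pCore 3 G : Set G) ≤ pCore 3 G)
    (h1 : E ≤ Subgroup.normalizer (F : Set G)) (h2 : F ≤ Subgroup.normalizer (E : Set G)) :
    E = F ∨ ⁅E, F⁆ ≤ pCore 3 G := by
  by_contra hcon
  push Not at hcon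
  obtain ⟨hne, hle⟩ := hcon
  rw [Subgroup.commutator_le] at hle
  push Not at hle
  obtain ⟨e, he, f, hf, hc⟩ := hle
  apply hne
  apply eq_of_le_sup hE hF
  have hEm := sm3_of_good hE
  have hFm := sm3_of_good hF
  obtain ⟨SE⟩ := hEm.sW
  obtain ⟨SF⟩ := hFm.sW
  obtain ⟨hEs, ⟨S₁, hS₁⟩, _⟩ := id hE
  obtain ⟨hFs, ⟨S₂, hS₂⟩, _⟩ := id hF
  obtain ⟨hcE, hcF⟩ := comm_mem_both h1 h2 he hf
  have hqE : ∀ x ∈ E, x ∈ pCore 3 G → x ∈ Qb 3 E := fun x h h' => by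
    rw [Qb_eq hEs]; exact ⟨h, h'⟩
  have hqF : ∀ x ∈ F, x ∈ pCore 3 G → x ∈ Qb 3 F := fun x h h' => by
    rw [Qb_eq hFs]; exact ⟨h, h'⟩
  obtain ⟨t, htE, htF, hρE⟩ : ∃ t, ∃ (a : t ∈ E) (_ : t ∈ F), SE.ρ ⟨t, a⟩ = -1 := by
    have hA : SE.ρ ⟨⁅e, f⁆, hcE⟩ ≠ 1 := fun h => hc (Qb_le_R hEs ((SE.kerρ _).mp h))
    rcases isQ_cases _ (Sec.isQ_rho SE.toSec ⟨_, hcE⟩) with h | h | h
    · exact absurd h hA
    · exact ⟨_, hcE, hcF, h⟩
    · refine ⟨⁅e, f⁆ * ⁅e, f⁆, E.mul_mem hcE hcE, F.mul_mem hcF hcF, ?_⟩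
      have : (⟨⁅e, f⁆ * ⁅e, f⁆, E.mul_mem hcE hcE⟩ : E) = ⟨_, hcE⟩ * ⟨_, hcE⟩ := rfl
      rw [this, map_mul]
      exact h
  have htR : t ∉ pCore 3 G := fun h => neg_one_ne_one (hρE.symm.trans ((SE.kerρ _).mpr (hqE t htE h)))
  have hρF : SF.ρ ⟨t, htF⟩ = -1 := by
    refine isQ_sq_one _ (Sec.isQ_rho SF.toSec _) ?_ ?_
    · rw [← map_mul]
      refine (SF.kerρ _).mpr (hqF _ (F.mul_mem htF htF) ?_)
      have := (SE.kerρ (⟨t, htE⟩ * ⟨t, htE⟩)).mp (by rw [map_mul, hρE]; exact neg_one_sq)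
      exact Qb_le_R hEs this
    · exact fun h => htR (Qb_le_R hFs ((SF.kerρ _).mp h))
  have hQ : Qb 3 E = Qb 3 F := le_antisymm (Q_le3 hE hF hG htE htF SE hρE) (Q_le3 hF hE hG htF htE SF hρF)
  have hW : Wb 3 F = Wb 3 E := by
    change omegaOneCenter 3 (pCoreOf 3 F) = omegaOneCenter 3 (pCoreOf 3 E)
    rw [show pCoreOf 3 E = pCoreOf 3 F from hQ]
  have hO2E : ∀ x ∈ E, prj 3 G x ∈ pCore 2 (G ⧸ pCore 3 G) := fun x hx =>
    map_le_core (r := 2) (k := 3) (by norm_num) hE ⟨x, hx, rfl⟩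
  have hO2F : ∀ x ∈ F, prj 3 G x ∈ pCore 2 (G ⧸ pCore 3 G) := fun x hx =>
    map_le_core (r := 2) (k := 3) (by norm_num) hF ⟨x, hx, rfl⟩
  have hO2 : ∀ x ∈ E, ∀ y ∈ F, prj 3 G (x⁻¹ * y) ∈ pCore 2 (G ⧸ pCore 3 G) := fun x hx y hy => by
    rw [map_mul, map_inv]
    exact Subgroup.mul_mem _ (Subgroup.inv_mem _ (hO2E x hx)) (hO2F y hy)
  have hpow : ∀ x ∈ E, ∀ y ∈ F, ∃ a : ℕ, (x⁻¹ * y) ^ 2 ^ a ∈ pCore 3 G := fun x hx y hy => by
    obtain ⟨k, hk⟩ := isP_of_mem_R (p := 2) (hO2 x hx y hy)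
    exact ⟨k, by rw [← prj_eq_one (p := 3), map_pow]; exact hk⟩
  have hsR : ∀ x ∈ E, ∀ y ∈ F, x⁻¹ * y ∈ secKer (pCore 3 G) (Qb 3 E) := fun x hx y hy => by
    refine Subgroup.mul_mem _ (E_secKer_R S₁ hS₁ hEs (E.inv_mem hx)) ?_
    rw [hQ]
    exact E_secKer_R S₂ hS₂ hFs hy
  have hWR : Wb 3 E ≤ pCore 3 G := Wb_le_Q.trans (Qb_le_R hEs)
  have hWn : ∀ r ∈ pCore 3 G, ∀ u ∈ Wb 3 E, r * u * r⁻¹ ∈ Wb 3 E := fun r hr u hu =>
    conj_W hEs (R_le_normalizer S₁ hS₁ hr) hu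
  rcases block_dich hS₁ with hQW | hx
  · -- non-exceptional
    have hQF' : Qb 3 F = Wb 3 F := hQ.symm.trans (hQW.trans hW.symm)
    have hZE : Zb 3 E = ⊥ := by
      rw [eq_bot_iff]
      intro z hz
      have h3 : (⁅Qb 3 E, E⁆ : Subgroup G) = Qb 3 E := hS₁.2.2.1
      rw [hQW] at h3
      exact P_inf_Z SE hEs (by rw [h3]; exact hz.1) hz
    have hZF : Zb 3 F = ⊥ := by
      rw [eq_bot_iff]
      intro z hz
      have h3 : (⁅Qb 3 F, F⁆ : Subgroup G) = Qb 3 F := hS₂.2.2.1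
      rw [hQF'] at h3
      exact P_inf_Z SF hFs (by rw [h3]; exact hz.1) hz
    have hZZ : Zb 3 F = Zb 3 E := hZF.trans hZE.symm
    obtain ⟨S₂'⟩ : Nonempty (Sec 3 K3 F (Wb 3 E) (Zb 3 E)) := by
      rw [← hW, ← hZZ]
      exact ⟨SF.toSec⟩
    intro x hx'
    obtain ⟨y, hy⟩ := same_action SE.toSec S₂' ⟨x, hx'⟩
    have hk := agree_secKer SE.toSec S₂' ⟨x, hx'⟩ y hy
    rw [hZE] at hk
    obtain ⟨a, ha⟩ := hpow x hx' y y.2
    have hs : x⁻¹ * y ∈ pCore 3 G := by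
      refine mem_R_chain1 hG (W := Wb 3 E) hWR hWn (r := 2) (a := a) (by norm_num) ha ?_ hk
      rw [← hQW]
      exact hsR x hx' y y.2
    have e : x = y * (x⁻¹ * y)⁻¹ := by group
    rw [e]
    exact Subgroup.mul_mem _ (Subgroup.mem_sup_left y.2) (Subgroup.mem_sup_right (Subgroup.inv_mem _ hs))
  · -- exceptional
    have hxF : ExcData 3 (S₂ : Subgroup G) F := by
      rcases block_dich hS₂ with h | h
      · exfalso
        apply hx.not_abelian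
        intro a ha b hb
        have ha' : a ∈ Qb 3 F := hQ.le ha
        have hb' : b ∈ Qb 3 F := hQ.le hb
        exact W_comm_W (h.le ha') (h.le hb')
      · exact h
    have hZZ : Zb 3 F = Zb 3 E := by
      rw [← hxF.comm, ← hx.comm, hQ]
    obtain ⟨S₂'⟩ : Nonempty (Sec 3 K3 F (Wb 3 E) (Zb 3 E)) := by
      rw [← hW, ← hZZ]
      exact ⟨SF.toSec⟩
    obtain ⟨SEQ⟩ : Nonempty (SecK 3 K3 (Qb 3 E) E (Qb 3 E) (Wb 3 E)) := by
      rcases hEm.sQ with h3 | h3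
      · exact absurd (fun a ha b hb => W_comm_W (h3.le ha) (h3.le hb)) hx.not_abelian
      · exact h3
    obtain ⟨SFQ⟩ : Nonempty (Sec 3 K3 F (Qb 3 E) (Wb 3 E)) := by
      rcases hFm.sQ with h3 | h3
      · exact absurd (fun a ha b hb => W_comm_W (h3.le ha) (h3.le hb)) hxF.not_abelian
      · obtain ⟨h4⟩ := h3
        rw [← hW, hQ]
        exact ⟨h4.toSec⟩
    intro x hx'
    obtain ⟨y₁, hy₁⟩ := same_action SEQ.toSec SFQ ⟨x, hx'⟩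
    obtain ⟨y₂, hy₂⟩ := same_action SE.toSec S₂' ⟨x, hx'⟩
    have hsQ := agree_secKer SEQ.toSec SFQ ⟨x, hx'⟩ y₁ hy₁
    have hsRQ := hsR x hx' y₁ y₁.2
    set s := x⁻¹ * (y₁ : G) with hs
    change s ∈ secKer (Qb 3 E) (Wb 3 E) at hsQ
    set B : S3 := S₂'.ρ (y₂⁻¹ * y₁) with hB
    have hform : ∀ w w' : Wb 3 E, (w' : G) = s * w * s⁻¹ → S₂'.ev w' = B.1.mulVec (S₂'.ev w) := by
      intro w w' hw'
      set w₁ := S₂'.cj y₁ w with hw₁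
      have h3 : SE.cj ⟨x, hx'⟩ w' = w₁ := by
        apply Subtype.ext
        change x * (w' : G) * x⁻¹ = (y₁ : G) * w * (y₁ : G)⁻¹
        rw [hw', hs]
        group
      have h4 := hy₂ w'
      rw [h3] at h4
      have h5 : S₂'.ev w₁ = S₂'.ev (S₂'.cj y₂ w') := (Sec.ev_eq_iff S₂').mpr ((Sec.ev_eq_iff SE.toSec).mp h4)
      have h6 : S₂'.ev (S₂'.cj y₂⁻¹ w₁) = S₂'.ev w' := by
        rw [Sec.ev_cj, h5, ← Sec.ev_cj, ← Sec.cj_mul_left, inv_mul_cancel, Sec.cj_one]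
      rw [← h6, Sec.ev_cj, hw₁, Sec.ev_cj, Matrix.mulVec_mulVec, hB, map_mul]
      rfl
    have hZn : s ∈ Subgroup.normalizer (Zb 3 E : Set G) :=
      Subgroup.mul_mem _ (Subgroup.inv_mem _ (Sec.le_norm₀ SE.toSec hx')) (Sec.le_norm₀ S₂' y₁.2)
    have hsO2 : prj 3 G s ∈ pCore 2 (G ⧸ pCore 3 G) := hO2 x hx' y₁ y₁.2
    have hss : s ∈ pCore 3 G := by
      by_cases hB1 : B = 1
      · have hsWZ : s ∈ secKer (Wb 3 E) (Zb 3 E) := by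
          refine ⟨hsQ.2.1, hZn, fun u hu => ?_⟩
          have h3 := hform ⟨u, hu⟩ ⟨s * u * s⁻¹, conj_mem_of_normalizer hsQ.2.1 hu⟩ rfl
          rw [hB1] at h3
          have h4 : S₂'.ev ⟨u, hu⟩ = S₂'.ev ⟨s * u * s⁻¹, conj_mem_of_normalizer hsQ.2.1 hu⟩ := by
            rw [h3]; simp
          exact (Sec.ev_eq_iff S₂').mp h4
        have hsZ : s ∈ secKer (Zb 3 E) ⊥ := by
          refine secKer_bot_iff hZn fun z hz => ?_
          have h3 : (y₁ : G) * z * (y₁ : G)⁻¹ = z := Z_comm_E (by rw [hZZ]; exact hz) y₁.2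
          have h4 : x⁻¹ * z * x⁻¹⁻¹ = z := Z_comm_E hz (E.inv_mem hx')
          have e1 : s * z * s⁻¹ = x⁻¹ * ((y₁ : G) * z * (y₁ : G)⁻¹) * x⁻¹⁻¹ := by rw [hs]; group
          rw [e1, h3, h4]
        obtain ⟨a, ha⟩ := hpow x hx' y₁ y₁.2
        refine mem_R_of_central hG (r := 2) (a := a) (by norm_num) ha fun n hn q hq => ?_
        have hRp : IsPGroup 3 (pCore 3 G) := Cfsg.Agent.Lib.PCore.isPGroup_pCore 3
        have c₀ : s ^ n * q * (s ^ n)⁻¹ * q⁻¹ ∈ pCore 3 G :=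
          Subgroup.mul_mem _ (conj_R _ hq) (Subgroup.inv_mem _ hq)
        have c₁ := chain_step hn hRp (Qb_le_R hEs) (fun c hc u hu => conj_Q hEs (R_le_normalizer S₁ hS₁ hc) hu)
          (pow_mem_secKer hsRQ n) c₀
        have c₂ := chain_step hn (hRp.to_le (Qb_le_R hEs)) Wb_le_Q (fun c hc u hu => by
          rw [← W_comm_Q hu hc]; simpa using hu) (pow_mem_secKer hsQ n) c₁
        have c₃ := chain_step hn (hRp.to_le hWR) Zb_le_W (fun c hc u hu => by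
          rw [W_comm_W hc (Zb_le_W hu)]; simpa using hu) (pow_mem_secKer hsWZ n) c₂
        have c₄ := chain_step hn (hRp.to_le ((Zb_le_W).trans hWR)) bot_le (fun c _ u hu => by
          rw [Subgroup.mem_bot] at hu ⊢
          rw [hu]; simp) (pow_mem_secKer hsZ n) c₃
        exact c₄
      · exfalso
        by_cases hB2 : B = -1
        · refine star S₁ hS₁ hEs hG hx SE.toSec SEQ.toSec hsRQ hsQ hZn (fun u hu => ?_) hsO2
          have hm := conj_mem_of_normalizer hsQ.2.1 hu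
          have h3 := hform ⟨u, hu⟩ ⟨s * u * s⁻¹, hm⟩ rfl
          rw [hB2, neg_one_act] at h3
          have h4 : u * (s * u * s⁻¹) = (s * u * s⁻¹) * u := W_comm_W hu hm
          rw [h4]
          exact (Sec.ev_eq_neg_iff S₂').mp h3
        · have hBB : B * B = -1 := isQ_not_one_sq _ (Sec.isQ_rho S₂' _) hB1 hB2
          have hN2 : s * s ∈ Subgroup.normalizer (Wb 3 E : Set G) := Subgroup.mul_mem _ hsQ.2.1 hsQ.2.1
          refine star (t₀ := s * s) S₁ hS₁ hEs hG hx SE.toSec SEQ.toSec (Subgroup.mul_mem _ hsRQ hsRQ)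
            (Subgroup.mul_mem _ hsQ hsQ) (Subgroup.mul_mem _ hZn hZn) (fun u hu => ?_)
            (by rw [map_mul]; exact Subgroup.mul_mem _ hsO2 hsO2)
          have hm := conj_mem_of_normalizer hsQ.2.1 hu
          have hm2 := conj_mem_of_normalizer hsQ.2.1 hm
          have h3 := hform ⟨u, hu⟩ ⟨s * u * s⁻¹, hm⟩ rfl
          have h4 := hform ⟨s * u * s⁻¹, hm⟩ ⟨s * (s * u * s⁻¹) * s⁻¹, hm2⟩ rfl
          rw [h3, Matrix.mulVec_mulVec] at h4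
          have h5 : B.1 * B.1 = ((B * B : S3)).1 := rfl
          rw [h5, hBB, neg_one_act] at h4
          have e1 : s * s * u * (s * s)⁻¹ = s * (s * u * s⁻¹) * s⁻¹ := by group
          rw [e1]
          have h6 : u * (s * (s * u * s⁻¹) * s⁻¹) = (s * (s * u * s⁻¹) * s⁻¹) * u := W_comm_W hu hm2
          rw [h6]
          exact (Sec.ev_eq_neg_iff S₂').mp h4
    have e : x = (y₁ : G) * s⁻¹ := by rw [hs]; group
    rw [e]
    exact Subgroup.mul_mem _ (Subgroup.mem_sup_left y₁.2) (Subgroup.mem_sup_right (Subgroup.inv_mem _ hss))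

theorem final3 (hE : Good 3 8 E) (hF : Good 3 8 F) (hG : Subgroup.centralizer (pCore 3 G : Set G) ≤ pCore 3 G) :
    E = F ∨ ⁅E, F⁆ = ⊥ := by
  rcases skeleton_G (r := 2) (k := 3) (c := 8) (by norm_num) (fun _ _ a b c d => N3 a b hG c d)
    (fun _ _ a b c => H3 a b hG c) hE hF with h | h
  · exact Or.inl h
  · exact Or.inr (C3 hE hF hG h)

end

end Cfsg.Agent.Lib.BauSub
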