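import Mathlib
import Cfsg.Agent.Lib.BauSub11

/-!
# Subnormal Baumann blocks in a group of characteristic `p`: equal or commuting
-/

set_option autoImplicit false

open Cfsg
open scoped commutatorElement

namespace Cfsg.Agent.Lib.BauSub

open Cfsg.Agent.Lib.BauBlock Cfsg.Agent.Lib.BauBlock2 Cfsg.Agent.Lib.PLocalTools Cfsg.Agent.Lib.BauSchur
  Cfsg.Agent.Lib.BauSec Cfsg.Agent.Lib.LocalCore

theorem qs_map {G : Type*} [Group G] [Finite G] {p : ℕ} [Fact p.Prime] {E : Subgroup G} (hEs : E.IsSubnormal)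
    (h : IsQuasisimple (E ⧸ pCore p E)) : IsComponent (E.map (prj p G)) := by
  refine ⟨Subgroup.IsSubnormal.map prj_surj hEs, ?_⟩
  let ρ : E →* G ⧸ pCore p G := (prj p G).comp E.subtype
  have hk : ρ.ker = pCore p E := by
    ext x
    rw [MonoidHom.mem_ker]
    change prj p G x = 1 ↔ _
    rw [prj_eq_one]
    have h1 : pCoreOf p E = E ⊓ pCore p G := Qb_eq hEs
    constructor
    · intro hx
      have h2 : (x : G) ∈ pCoreOf p E := by rw [h1]; exact ⟨x.2, hx⟩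
      obtain ⟨y, hy, hyx⟩ := h2
      have : y = x := Subtype.ext hyx
      rwa [← this]
    · intro hx
      have h2 : (x : G) ∈ pCoreOf p E := ⟨x, hx, rfl⟩
      rw [h1] at h2
      exact h2.2
  have h2 : ρ.range = E.map (prj p G) := by
    rw [MonoidHom.range_comp, Subgroup.range_subtype]
  have e1 : E ⧸ pCore p E ≃* E ⧸ ρ.ker := QuotientGroup.quotientMulEquivOfEq hk.symm
  have e2 : E ⧸ ρ.ker ≃* ρ.range := QuotientGroup.quotientKerEquivRange ρ
  have e3 : ρ.range ≃* E.map (prj p G) := MulEquiv.subgroupCongr h2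
  exact qs_of_mulEquiv (e1.trans (e2.trans e3)) h

/-- A quasisimple block and a small block. -/
theorem qs_small {G : Type*} [Group G] [Finite G] {p c r k : ℕ} [Fact p.Prime] [Fact r.Prime] (hck : c = r ^ k)
    {E F : Subgroup G} (hEs : E.IsSubnormal) (hq : IsQuasisimple (E ⧸ pCore p E)) (hF : Good p c F) :
    ⁅E, F⁆ ≤ pCore p G := by
  rw [← comm_map_iff]
  have hL := qs_map hEs hq
  have h1 := comp_commute_fitting hL
  have hnil : Group.IsNilpotent (F.map (prj p G)) := (pgroup_map hck hF).isNilpotent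
  have h2 := subnormal_nilpotent_le_fitting (Subgroup.IsSubnormal.map prj_surj hF.1) hnil
  exact le_bot_iff.mp ((Subgroup.commutator_mono le_rfl h2).trans h1.le)

theorem subnormal_blocks {G : Type*} [Group G] [Finite G] {p : ℕ} [Fact p.Prime]
    (hG : Subgroup.centralizer (Cfsg.pCore p G : Set G) ≤ Cfsg.pCore p G) (E F : Subgroup G)
    (hE : ∃ T : Sylow p G, Cfsg.IsBaumannBlock p (T : Subgroup G) E)
    (hF : ∃ T : Sylow p G, Cfsg.IsBaumannBlock p (T : Subgroup G) F) (hEs : E.IsSubnormal) (hFs : F.IsSubnormal) :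
    E = F ∨ ⁅E, F⁆ = ⊥ := by
  obtain ⟨S₁, hS₁⟩ := hE
  obtain ⟨S₂, hS₂⟩ := hF
  rcases block_type hS₁ hEs with qE | ⟨hp, mE⟩ | ⟨hp, mE⟩ <;>
    rcases block_type hS₂ hFs with qF | ⟨hp', mF⟩ | ⟨hp', mF⟩
  · -- both quasisimple
    have hK := qs_map hEs qE.1
    have hL := qs_map hFs qF.1
    by_cases hne : E.map (prj p G) = F.map (prj p G)
    · left
      have h1 : E ⊔ pCore p G = F ⊔ pCore p G := by
        have h2 := congrArg (Subgroup.comap (prj p G)) hne
        rwa [Subgroup.comap_map_eq, Subgroup.comap_map_eq, ker_prj] at h2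
      rw [← residual_sup S₁ hS₁, ← residual_sup S₂ hS₂, h1]
    · right
      have hc := comm_map_iff.mp (comp_commute_of_ne hK hL hne)
      exact stepB S₁ S₂ hS₁ hS₂ hEs hFs hG hc (Or.inl qF.2.1) qF.2.2
  · subst hp'
    right
    have hF' : Good 3 8 F := ⟨hFs, ⟨S₂, hS₂⟩, mF.card⟩
    have hc := qs_small (r := 2) (k := 3) (by norm_num) hEs qE.1 hF'
    exact stepB S₁ S₂ hS₁ hS₂ hEs hFs hG hc (Or.inr qE.2.1) (fun hx => mF.hN2 hx)
  · subst hp'
    right
    have hF' : Good 2 3 F := ⟨hFs, ⟨S₂, hS₂⟩, mF.card⟩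
    have hc := qs_small (r := 3) (k := 1) (by norm_num) hEs qE.1 hF'
    exact stepB S₁ S₂ hS₁ hS₂ hEs hFs hG hc (Or.inr qE.2.1) (fun hx => absurd hx.p3 (by norm_num))
  · subst hp
    right
    have hE' : Good 3 8 E := ⟨hEs, ⟨S₁, hS₁⟩, mE.card⟩
    have hc := qs_small (r := 2) (k := 3) (by norm_num) hFs qF.1 hE'
    have := stepB S₂ S₁ hS₂ hS₁ hFs hEs hG hc (Or.inr qF.2.1) (fun hx => mE.hN2 hx)
    rwa [Subgroup.commutator_comm] at this
  · subst hp
    exact final3 ⟨hEs, ⟨S₁, hS₁⟩, mE.card⟩ ⟨hFs, ⟨S₂, hS₂⟩, mF.card⟩ hG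
  · exfalso; omega
  · subst hp
    right
    have hE' : Good 2 3 E := ⟨hEs, ⟨S₁, hS₁⟩, mE.card⟩
    have hc := qs_small (r := 3) (k := 1) (by norm_num) hFs qF.1 hE'
    have := stepB S₂ S₁ hS₂ hS₁ hFs hEs hG hc (Or.inr qF.2.1) (fun hx => absurd hx.p3 (by norm_num))
    rwa [Subgroup.commutator_comm] at this
  · exfalso; omega
  · subst hp
    exact final2 ⟨hEs, ⟨S₁, hS₁⟩, mE.card⟩ ⟨hFs, ⟨S₂, hS₂⟩, mF.card⟩ hG

end Cfsg.Agent.Lib.BauSub
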