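import Mathlib
import Cfsg.Agent.Lib.BrauerInd
import Cfsg.Agent.Lib.CharClifford
import Cfsg.Agent.Lib.Clifford

/-!
# Dade's theorem on `p`-elementary subgroups and invariant characters
-/

set_option autoImplicit false
set_option linter.style.haveILetI false
set_option linter.unusedVariables false

namespace Cfsg.Agent.Lib.DadeElem

open Cfsg Cfsg.Agent.Lib.CharBasic Cfsg.Agent.Lib.CharInd Cfsg.Agent.Lib.CharInduction
open Cfsg.Agent.Lib.Clifford Cfsg.Agent.Lib.CharClifford Cfsg.Agent.Lib.BrauerInd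
open scoped ComplexConjugate

universe u

section Orbit

/-- Counting modulo `p` along orbits of size a power of `p`. -/
theorem exists_fixed_of_sum_not_dvd {Γ X : Type*} [Group Γ] [MulAction Γ X] [Fintype X]
    {p k : ℕ} (hp : p.Prime) (f : X → ℕ) (hf : ∀ (g : Γ) (x : X), f (g • x) = f x)
    (horb : ∀ x : X, Nat.card (MulAction.orbit Γ x) ∣ p ^ k) (hsum : ¬ p ∣ ∑ x, f x) :
    ∃ x, (∀ g : Γ, g • x = x) ∧ ¬ p ∣ f x := by
  classical
  by_contra hcon
  push Not at hcon
  apply hsum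
  letI : Fintype (MulAction.orbitRel.Quotient Γ X) := Fintype.ofFinite _
  let q : X → MulAction.orbitRel.Quotient Γ X := fun x => Quotient.mk _ x
  rw [← Finset.sum_fiberwise Finset.univ q f]
  apply Finset.dvd_sum
  intro ω _
  obtain ⟨x₀, rfl⟩ : ∃ x₀, q x₀ = ω := Quotient.exists_rep ω
  have hfil : ∀ y ∈ Finset.univ.filter (fun y => q y = q x₀), f y = f x₀ := by
    intro y hy
    have hy' : q y = q x₀ := (Finset.mem_filter.mp hy).2
    have hmem : y ∈ MulAction.orbit Γ x₀ := Quotient.exact hy'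
    obtain ⟨g, rfl⟩ := hmem
    exact hf g x₀
  rw [Finset.sum_congr rfl hfil, Finset.sum_const, smul_eq_mul]
  have hcard : (Finset.univ.filter (fun y => q y = q x₀)).card =
      Nat.card (MulAction.orbit Γ x₀) := by
    rw [Nat.card_eq_fintype_card, Fintype.card_subtype]
    congr 1
    ext y
    simp only [Finset.mem_filter, Finset.mem_univ, true_and]
    exact ⟨fun h => Quotient.exact h, fun h => Quotient.sound h⟩
  rw [hcard]
  by_cases h1 : Nat.card (MulAction.orbit Γ x₀) = 1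
  · have hfix : ∀ g : Γ, g • x₀ = x₀ := by
      intro g
      have hsub : Subsingleton (MulAction.orbit Γ x₀) := (Nat.card_eq_one_iff_unique.mp h1).1
      have := Subsingleton.elim (⟨g • x₀, MulAction.mem_orbit x₀ g⟩ : MulAction.orbit Γ x₀)
        ⟨x₀, MulAction.mem_orbit_self x₀⟩
      exact congrArg Subtype.val this
    exact Dvd.dvd.mul_left (hcon x₀ hfix) _
  · obtain ⟨j, -, hj⟩ := (Nat.dvd_prime_pow hp).mp (horb x₀)
    rw [hj] at h1 ⊢
    have hj0 : j ≠ 0 := by
      rintro rfl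
      simp at h1
    exact Dvd.dvd.mul_right (dvd_pow_self p hj0) _

end Orbit

section Local

variable {E : Type u} [Group E] [Fintype E] (K : Subgroup E) (hK : K.Normal) [Fintype K]

/-- The action by conjugation of `E` on the irreducible characters of a normal subgroup. -/
def irrAction : MulAction E (IrrCharacter K) where
  smul g ξ := ⟨conjBy K hK g⁻¹ ξ.1, isIrrCharacter_conjBy K hK g⁻¹ ξ.2⟩
  one_smul ξ := by
    apply Subtype.ext
    show conjBy K hK 1⁻¹ ξ.1 = ξ.1
    rw [inv_one, conjBy_one]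
  mul_smul a b ξ := by
    apply Subtype.ext
    show conjBy K hK (a * b)⁻¹ ξ.1 = conjBy K hK a⁻¹ (conjBy K hK b⁻¹ ξ.1)
    rw [conjBy_conjBy, mul_inv_rev]

/-- If the multiplicity `[φ ϑ, ϑ]` over `K` of an invariant character is prime to `p`, some
invariant irreducible constituent of `ϑ` has multiplicity prime to `p`. -/
theorem exists_invariant_constituent {p k : ℕ} (hp : p.Prime) (hind : K.index ∣ p ^ k)
    {ϑ : K → ℂ} (hϑ : IsCharacter K ϑ)
    (hinv : ∀ (g : E), conjBy K hK g ϑ = ϑ)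
    {φ : E → ℂ} (hφ : IsCharacter E φ) {c : ℕ}
    (hc : classInner (fun x : K => φ x * ϑ x) ϑ = c) (hpc : ¬ p ∣ c) :
    ∃ ξ : K → ℂ, IsIrrCharacter K ξ ∧ (∀ g : E, conjBy K hK g ξ = ξ) ∧
      ∃ m : ℕ, ¬ p ∣ m ∧ classInner ϑ ξ = m := by
  classical
  letI := irrAction K hK
  have hsmul : ∀ (g : E) (ξ : IrrCharacter K), ((g • ξ : IrrCharacter K) : K → ℂ) =
      conjBy K hK g⁻¹ ξ.1 := fun _ _ => rfl
  obtain ⟨m, hm⟩ := exists_nat_decomp hϑ
  have hφres := isCharacter_restrict K hφ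
  have hφcl := isClassFunction_of_isCharacter hφ
  have hb : ∀ ξ : IrrCharacter K, ∃ n : ℕ, classInner (fun x : K => φ x * ξ.1 x) ϑ = n := fun ξ =>
    classInner_char_char (isCharacter_mul hφres (IsIrrCharacter.isCharacter ξ.2)) hϑ
  choose b hb using hb
  have ha : ∀ ξ : IrrCharacter K, classInner ϑ ξ.1 = m ξ := by
    intro ξ
    rw [hm, classInner_nat_decomp m ξ.1 ξ.2]
  have hdecomp : c = ∑ ξ, m ξ * b ξ := by
    have h1 : (fun x : K => φ x * ϑ x) = ∑ ξ : IrrCharacter K, (m ξ : ℂ) • (fun x : K => φ x * ξ.1 x) := by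
      funext x
      conv_lhs => rw [hm]
      simp [Finset.sum_apply, Finset.mul_sum]
      refine Finset.sum_congr rfl fun i _ => ?_
      ring
    have h2 : (c : ℂ) = ((∑ ξ, m ξ * b ξ : ℕ) : ℂ) := by
      rw [← hc, h1, classInner_sum_left]
      push_cast
      refine Finset.sum_congr rfl fun ξ _ => ?_
      rw [classInner_smul_left, hb]
    exact_mod_cast h2
  have hconjmul : ∀ (g : E) (ξ : K → ℂ), (fun x : K => φ x * conjBy K hK g ξ x) =
      conjBy K hK g (fun x : K => φ x * ξ x) := by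
    intro g ξ
    funext x
    simp only [conjBy_apply]
    congr 1
    exact (hφcl (x : E) g).symm
  have hminv : ∀ (g : E) (ξ : IrrCharacter K), m (g • ξ) = m ξ := by
    intro g ξ
    have h1 : (m (g • ξ) : ℂ) = m ξ := by
      rw [← ha, ← ha, hsmul]
      conv_lhs => rw [← hinv g⁻¹]
      exact classInner_conjBy K hK g⁻¹ _ _
    exact_mod_cast h1
  have hbinv : ∀ (g : E) (ξ : IrrCharacter K), b (g • ξ) = b ξ := by
    intro g ξ
    have h1 : (b (g • ξ) : ℂ) = b ξ := by
      rw [← hb, ← hb, hsmul, hconjmul]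
      conv_lhs => rw [← hinv g⁻¹]
      rw [hinv g⁻¹]
      conv_lhs => arg 2; rw [← hinv g⁻¹]
      exact classInner_conjBy K hK g⁻¹ _ _
    exact_mod_cast h1
  have horb : ∀ ξ : IrrCharacter K, Nat.card (MulAction.orbit E ξ) ∣ p ^ k := by
    intro ξ
    rw [Nat.card_coe_set_eq, ← MulAction.index_stabilizer]
    refine (Subgroup.index_dvd_of_le ?_).trans hind
    intro y hy
    rw [MulAction.mem_stabilizer_iff]
    apply Subtype.ext
    rw [hsmul]
    funext x
    simp only [conjBy_apply]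
    have hx : (y⁻¹ * x * y⁻¹⁻¹ : E) = ((⟨y⁻¹, K.inv_mem hy⟩ : K) * x * (⟨y⁻¹, K.inv_mem hy⟩ : K)⁻¹ : K) := by
      simp
    have hcl := isClassFunction_of_isCharacter (IsIrrCharacter.isCharacter ξ.2) x
      (⟨y⁻¹, K.inv_mem hy⟩ : K)
    rw [← hcl]
    congr 1
  obtain ⟨ξ, hfix, hpx⟩ := exists_fixed_of_sum_not_dvd (Γ := E) hp (fun ξ => m ξ * b ξ)
    (fun g ξ => by simp only [hminv, hbinv]) horb (by rwa [← hdecomp])
  refine ⟨ξ.1, ξ.2, ?_, m ξ, fun h => hpx (Dvd.dvd.mul_right h _), ha ξ⟩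
  intro g
  have := hfix g⁻¹
  have h2 := congrArg Subtype.val this
  rw [hsmul, inv_inv] at h2
  exact h2

end Local

section Global

variable {G : Type u} [Group G] [Fintype G] (N : Subgroup G) [hN : N.Normal]

/-- Averaging the induced function against an invariant function on the normal subgroup. -/
theorem sum_indFun_mul (E : Subgroup G) [Fintype N] [Fintype E] [Fintype ↥(E ⊓ N)] (φ : E → ℂ) (w : N → ℂ)
    (hw : ∀ (g : G) (n : N), w ⟨g * n * g⁻¹, hN.conj_mem (n : G) n.2 g⟩ = w n) :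
    (Nat.card N : ℂ)⁻¹ * ∑ n : N, indFun E φ n * w n =
      ((E ⊔ N).index : ℂ) * ((Nat.card ↥(E ⊓ N) : ℂ)⁻¹ *
        ∑ x : ↥(E ⊓ N), φ ⟨x, x.2.1⟩ * w ⟨x, x.2.2⟩) := by
  classical
  have hw' : ∀ (x : G) (n : N), w ⟨x⁻¹ * n * x, by simpa using hN.conj_mem (n : G) n.2 x⁻¹⟩ = w n := by
    intro x n
    have := hw x⁻¹ n
    simp only [inv_inv] at this
    exact this
  have h1 : ∀ n : N, indFun E φ n * w n =
      (Nat.card E : ℂ)⁻¹ * ∑ x : G, extendByZero E φ (x⁻¹ * n * x) *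
        w ⟨x⁻¹ * n * x, by simpa using hN.conj_mem (n : G) n.2 x⁻¹⟩ := by
    intro n
    show ((Nat.card E : ℂ)⁻¹ * ∑ x : G, extendByZero E φ (x⁻¹ * n * x)) * w n = _
    rw [mul_assoc, Finset.sum_mul]
    congr 1
    refine Finset.sum_congr rfl fun x _ => ?_
    rw [hw' x n]
  have h2 : ∀ x : G, ∑ n : N, extendByZero E φ (x⁻¹ * n * x) *
        w ⟨x⁻¹ * n * x, by simpa using hN.conj_mem (n : G) n.2 x⁻¹⟩ =
      ∑ n : N, extendByZero E φ n * w n := by
    intro x
    refine Fintype.sum_equiv (conjAut N hN x⁻¹).toEquiv _ _ fun n => ?_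
    have hh : conjAut N hN x⁻¹ n = ⟨x⁻¹ * n * x, by simpa using hN.conj_mem (n : G) n.2 x⁻¹⟩ :=
      Subtype.ext (by simp [conjAut_apply])
    simp only [MulEquiv.toEquiv_eq_coe, EquivLike.coe_coe, hh]
  have h3 : ∑ n : N, extendByZero E φ n * w n = ∑ x : ↥(E ⊓ N), φ ⟨x, x.2.1⟩ * w ⟨x, x.2.2⟩ := by
    let s : Finset N := Finset.univ.filter (fun n => (n : G) ∈ E)
    have hz : ∑ n : N, extendByZero E φ n * w n = ∑ n ∈ s, extendByZero E φ n * w n := by
      symm
      apply Finset.sum_subset (Finset.subset_univ _)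
      intro n _ hn
      have hn' : (n : G) ∉ E := fun h => hn (Finset.mem_filter.mpr ⟨Finset.mem_univ _, h⟩)
      rw [extendByZero_of_not_mem E φ hn', zero_mul]
    rw [hz]
    symm
    refine Finset.sum_bij (fun x _ => (⟨x, x.2.2⟩ : N)) ?_ ?_ ?_ ?_
    · intro x _
      exact Finset.mem_filter.mpr ⟨Finset.mem_univ _, x.2.1⟩
    · intro a _ b _ hab
      apply Subtype.ext
      exact congrArg (fun y : N => (y : G)) hab
    · intro n hn
      have hn' := (Finset.mem_filter.mp hn).2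
      exact ⟨⟨n, hn', n.2⟩, Finset.mem_univ _, rfl⟩
    · intro x _
      rw [extendByZero_of_mem E φ x.2.1]
  have hcard : (Nat.card G : ℂ) = ((E ⊔ N).index : ℂ) * (Nat.card N : ℂ) *
      ((N.subgroupOf E).index : ℂ) := by
    have e1 : N.relIndex (E ⊔ N) * (E ⊔ N).index = N.index := Subgroup.relIndex_mul_index le_sup_right
    have e2 : N.relIndex (E ⊔ N) = N.relIndex E := Subgroup.relIndex_sup_right E N
    have e3 : Nat.card N * N.index = Nat.card G := Subgroup.card_mul_index N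
    have e4 : (N.subgroupOf E).index = N.relIndex E := rfl
    rw [e4, ← e3, ← e1, e2]
    push_cast
    ring
  have hcardE : (Nat.card E : ℂ) = (Nat.card ↥(E ⊓ N) : ℂ) * ((N.subgroupOf E).index : ℂ) := by
    have e1 : Nat.card (N.subgroupOf E) * (N.subgroupOf E).index = Nat.card E :=
      Subgroup.card_mul_index _
    have e2 : Nat.card (N.subgroupOf E) = Nat.card ↥(E ⊓ N) := by
      refine Nat.card_congr ⟨fun y => ⟨y.1.1, y.1.2, y.2⟩, fun x => ⟨⟨x.1, x.2.1⟩, x.2.2⟩, ?_, ?_⟩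
      · intro y
        rfl
      · intro x
        rfl
    rw [← e1, e2]
    push_cast
    ring
  have hrne : ((N.subgroupOf E).index : ℂ) ≠ 0 := by
    exact_mod_cast Subgroup.index_ne_zero_of_finite
  have hNne : (Nat.card N : ℂ) ≠ 0 := natCard_ne_zero'
  have hEne : (Nat.card ↥(E ⊓ N) : ℂ) ≠ 0 := natCard_ne_zero'
  simp_rw [h1]
  rw [← Finset.mul_sum]
  rw [Finset.sum_comm]
  simp_rw [h2]
  rw [Finset.sum_const, Finset.card_univ, ← Nat.card_eq_fintype_card (α := G), nsmul_eq_mul, h3,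
    hcard, hcardE]
  field_simp

end Global

section Main

variable {G : Type u} [Group G] [Fintype G]

/-- Dade's theorem. -/
theorem exists_elementary (p : ℕ) (hp : p.Prime) (N : Subgroup G) [hN : N.Normal]
    (hind : ∃ k : ℕ, N.index = p ^ k) (ϑ : N → ℂ) (hϑ : IsIrrCharacter N ϑ)
    (hinv : ∀ (g : G) (n : N), ϑ ⟨g * n * g⁻¹, hN.conj_mem (n : G) n.2 g⟩ = ϑ n) :
    ∃ (E : Subgroup G) (φ : ↥(E ⊓ N) → ℂ), IsElementary p E ∧ E ⊔ N = ⊤ ∧
      IsIrrCharacter ↥(E ⊓ N) φ ∧
      (∀ (g : G) (hg : g ∈ E) (x : ↥(E ⊓ N)), φ ⟨g * x * g⁻¹, ⟨(E.mul_mem (E.mul_mem hg x.2.1)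
        (E.inv_mem hg)), hN.conj_mem (x : G) x.2.2 g⟩⟩ = φ x) ∧
      ∃ m : ℕ, ¬ p ∣ m ∧ (Nat.card ↥(E ⊓ N) : ℂ)⁻¹ *
        ∑ᶠ x : ↥(E ⊓ N), ϑ ⟨(x : G), x.2.2⟩ * conj (φ x) = (m : ℂ) := by
  classical
  haveI : Fact p.Prime := ⟨hp⟩
  letI : Fintype N := Fintype.ofFinite _
  obtain ⟨k, hk⟩ := hind
  by_contra hcon
  -- the functional
  let Φ : (G → ℂ) → ℂ := fun f => (Nat.card N : ℂ)⁻¹ * ∑ n : N, f n * (ϑ n * conj (ϑ n))
  have hΦadd : ∀ f g, Φ (f + g) = Φ f + Φ g := by
    intro f g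
    simp only [Φ, Pi.add_apply, add_mul, Finset.sum_add_distrib, mul_add]
  have hΦneg : ∀ f, Φ (-f) = - Φ f := by
    intro f
    simp only [Φ, Pi.neg_apply, neg_mul, Finset.sum_neg_distrib, mul_neg]
  have hΦ0 : Φ 0 = 0 := by simp [Φ]
  have hgen : ∀ (E : Subgroup G) (φ : E → ℂ), IsElementary p E → IsCharacter E φ →
      ∃ z : ℤ, Φ (indFun E φ) = p * z := by
    intro E φ hE hφ
    letI : Fintype E := Fintype.ofFinite _
    letI : Fintype ↥(E ⊓ N) := Fintype.ofFinite _
    have hw : ∀ (g : G) (n : N), (fun n : N => ϑ n * conj (ϑ n))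
        ⟨g * n * g⁻¹, hN.conj_mem (n : G) n.2 g⟩ = (fun n : N => ϑ n * conj (ϑ n)) n := by
      intro g n
      simp only [hinv]
    have hform := sum_indFun_mul N E φ (fun n : N => ϑ n * conj (ϑ n)) hw
    -- the integer `c`
    have hϑc := IsIrrCharacter.isCharacter hϑ
    let inE : ↥(E ⊓ N) →* E := Subgroup.inclusion inf_le_left
    let inN : ↥(E ⊓ N) →* N := Subgroup.inclusion inf_le_right
    have hφK : IsCharacter ↥(E ⊓ N) (fun x => φ (inE x)) := isCharacter_comp inE hφ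
    have hϑK : IsCharacter ↥(E ⊓ N) (fun x => ϑ (inN x)) := isCharacter_comp inN hϑc
    obtain ⟨c, hc⟩ := classInner_char_char (isCharacter_mul hφK hϑK) hϑK
    have hcform : (Nat.card ↥(E ⊓ N) : ℂ)⁻¹ * ∑ x : ↥(E ⊓ N), φ ⟨x, x.2.1⟩ *
        (fun n : N => ϑ n * conj (ϑ n)) ⟨x, x.2.2⟩ = c := by
      rw [← hc]
      unfold classInner
      congr 1
      refine Finset.sum_congr rfl fun x _ => ?_
      simp only [Pi.mul_apply]
      rw [mul_assoc]
      rfl
    have hΦE : Φ (indFun E φ) = ((E ⊔ N).index : ℂ) * c := by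
      rw [← hcform]
      exact hform
    have hindex : (E ⊔ N).index ∣ p ^ k := by
      rw [← hk]
      exact Subgroup.index_dvd_of_le le_sup_right
    by_cases htop : E ⊔ N = ⊤
    · -- the main case
      have hi : (E ⊔ N).index = 1 := by rw [htop, Subgroup.index_top]
      by_cases hpc : p ∣ c
      · obtain ⟨z, rfl⟩ := hpc
        refine ⟨z, ?_⟩
        rw [hΦE, hi]
        push_cast
        ring
      · exfalso
        apply hcon
        -- pass to `E`
        let K : Subgroup E := N.subgroupOf E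
        have hKn : K.Normal := Subgroup.normal_subgroupOf
        letI : Fintype K := Fintype.ofFinite _
        let ε : ↥(E ⊓ N) ≃* K :=
          { toFun := fun x => ⟨⟨x.1, x.2.1⟩, x.2.2⟩
            invFun := fun y => ⟨y.1.1, y.1.2, y.2⟩
            left_inv := fun x => rfl
            right_inv := fun y => rfl
            map_mul' := fun x y => rfl }
        let ϑ' : K → ℂ := fun x => ϑ ⟨x.1.1, x.2⟩
        let ιN : K →* N :=
          { toFun := fun x => ⟨x.1.1, x.2⟩, map_one' := rfl, map_mul' := fun _ _ => rfl }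
        have hϑ' : IsCharacter K ϑ' := isCharacter_comp ιN hϑc
        have hKindex : K.index ∣ p ^ k := by
          have e1 : K.index = N.relIndex E := rfl
          have e2 : N.relIndex (E ⊔ N) = N.relIndex E := Subgroup.relIndex_sup_right E N
          rw [e1, ← e2, htop, Subgroup.relIndex_top_right, hk]
        have hinv' : ∀ g : E, conjBy K hKn g ϑ' = ϑ' := by
          intro g
          funext x
          exact hinv g ⟨x.1.1, x.2⟩
        have hc' : classInner (fun x : K => φ x * ϑ' x) ϑ' = c := by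
          rw [← hc]
          exact (classInner_comp_mulEquiv ε (fun x : K => φ x * ϑ' x) ϑ').symm
        obtain ⟨ξ, hξ, hfix, m, hpm, hm⟩ :=
          exists_invariant_constituent K hKn hp hKindex hϑ' hinv' hφ hc' hpc
        refine ⟨E, ξ ∘ ε, hE, htop, isIrrCharacter_comp_of_surjective ε.toMonoidHom ε.surjective hξ,
          ?_, m, hpm, ?_⟩
        · intro g hg x
          exact congrFun (hfix ⟨g, hg⟩) (ε x)
        · rw [finsum_eq_sum_of_fintype, ← hm, ← classInner_comp_mulEquiv ε ϑ' ξ]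
          rfl
    · have hi1 : (E ⊔ N).index ≠ 1 := by
        rwa [Ne, Subgroup.index_eq_one]
      obtain ⟨j, -, hj⟩ := (Nat.dvd_prime_pow hp).mp hindex
      have hj0 : j ≠ 0 := by
        rintro rfl
        exact hi1 (by simpa using hj)
      refine ⟨(p ^ (j - 1) * c : ℕ), ?_⟩
      rw [hΦE, hj]
      obtain ⟨j', rfl⟩ := Nat.exists_eq_succ_of_ne_zero hj0
      push_cast
      rw [pow_succ]
      ring
  have hspan : ∀ f ∈ elemSpan p G, ∃ z : ℤ, Φ f = p * z := by
    intro f hf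
    induction hf using AddSubgroup.closure_induction with
    | mem f hf =>
      obtain ⟨E, φ, hE, hφ, rfl⟩ := hf
      exact hgen E φ hE hφ
    | zero => exact ⟨0, by simp [hΦ0]⟩
    | add a b _ _ ha hb =>
      obtain ⟨x, hx⟩ := ha
      obtain ⟨y, hy⟩ := hb
      refine ⟨x + y, ?_⟩
      rw [hΦadd, hx, hy]
      push_cast
      ring
    | neg a _ ha =>
      obtain ⟨x, hx⟩ := ha
      refine ⟨-x, ?_⟩
      rw [hΦneg, hx]
      push_cast
      ring
  obtain ⟨m, hpm, hmem⟩ := exists_const_mem_elemSpan (G := G) p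
  obtain ⟨z, hz⟩ := hspan _ hmem
  apply hpm
  have hnorm : Φ (fun _ => (m : ℂ)) = m := by
    have h1 := classInner_irr_self hϑ
    unfold classInner at h1
    simp only [Φ]
    have : ∑ n : N, (m : ℂ) * (ϑ n * conj (ϑ n)) = (m : ℂ) * ∑ n : N, ϑ n * conj (ϑ n) :=
      (Finset.mul_sum _ _ _).symm
    rw [this, mul_left_comm, h1, mul_one]
  rw [hnorm] at hz
  refine ⟨z, ?_⟩
  exact_mod_cast hz

end Main

end Cfsg.Agent.Lib.DadeElem
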