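import Mathlib
import Cfsg.Agent.Lib.ImplGroup
import Cfsg.Agent.Lib.DadeElem
import Cfsg.Agent.Lib.CharCodegP

/-!
# Extending invariant characters from a normal subgroup of `p`-power index

If a linear character of a subgroup `H` with `H N = G` occurs in `ϑ` restricted to `H ∩ N` with
multiplicity prime to `p` then the invariant character `ϑ` extends to `G`.
-/

set_option autoImplicit false
set_option linter.style.haveILetI false
set_option linter.unusedVariables false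
set_option linter.unusedSectionVars false

namespace Cfsg.Agent.Lib.DadeExt

open Cfsg Cfsg.Agent.Lib.CharBasic Cfsg.Agent.Lib.CharInduction Cfsg.Agent.Lib.CentralExt
open Cfsg.Agent.Lib.ImplGroup
open Module
open scoped ComplexConjugate

universe u v w

section ExtLemmas

variable {G : Type u} [Group G] {N : Subgroup G} {E : Type v} {C : Type w} [Group E] [CommGroup C]
  (X : Ext N E C)

/-- A hom on the inverse image of a supplement of `N`, trivial on the lift of `H ∩ N`, extends. -/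
theorem exists_retraction_of_sup [hN : N.Normal] (H : Subgroup G) (hHN : H ⊔ N = ⊤)
    (δ : H.comap X.π →* C) {m : ℕ}
    (h1 : ∀ (c : C) (h : X.ι c ∈ H.comap X.π), δ ⟨X.ι c, h⟩ = c ^ m)
    (h2 : ∀ (n : N) (h : X.hat n ∈ H.comap X.π), δ ⟨X.hat n, h⟩ = 1) :
    ∃ T : E →* C, (∀ c, T (X.ι c) = c ^ m) ∧ ∀ n, T (X.hat n) = 1 := by
  let Nh : Subgroup E := X.hat.range
  haveI hNh : Nh.Normal := by
    constructor
    rintro _ ⟨n, rfl⟩ g
    obtain ⟨m, hm⟩ := X.conj_hat g n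
    exact ⟨m, hm.symm⟩
  let q : E →* E ⧸ Nh := QuotientGroup.mk' Nh
  let f : H.comap X.π →* E ⧸ Nh := q.comp (H.comap X.π).subtype
  have hqhat : ∀ n : N, q (X.hat n) = 1 := by
    intro n
    exact (QuotientGroup.eq_one_iff _).mpr ⟨n, rfl⟩
  have hsurj : Function.Surjective f := by
    intro y
    obtain ⟨x, rfl⟩ := QuotientGroup.mk_surjective y
    have hmem : X.π x ∈ H ⊔ N := by rw [hHN]; trivial
    obtain ⟨h, hh, n, hn, hhn⟩ := Subgroup.mem_sup_of_normal_right.mp hmem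
    refine ⟨⟨x * (X.hat ⟨n, hn⟩)⁻¹, ?_⟩, ?_⟩
    · show X.π (x * (X.hat ⟨n, hn⟩)⁻¹) ∈ H
      rw [map_mul, map_inv, X.π_hat, ← hhn]
      simpa using hh
    · show q (x * (X.hat ⟨n, hn⟩)⁻¹) = q x
      rw [map_mul, map_inv, hqhat, inv_one, mul_one]
  have hker : f.ker ≤ δ.ker := by
    rintro ⟨y, hy⟩ hfy
    have h3 : q y = 1 := hfy
    obtain ⟨n, rfl⟩ : y ∈ Nh := (QuotientGroup.eq_one_iff _).mp h3
    exact h2 n hy
  let δbar : E ⧸ Nh →* C := f.liftOfSurjective hsurj ⟨δ, hker⟩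
  have hδbar : ∀ y, δbar (f y) = δ y := fun y =>
    MonoidHom.liftOfRightInverse_comp_apply f _ _ ⟨δ, hker⟩ y
  refine ⟨δbar.comp q, ?_, ?_⟩
  · intro c
    have hmem : X.ι c ∈ H.comap X.π := by
      show X.π (X.ι c) ∈ H
      rw [X.π_ι]
      exact H.one_mem
    rw [← h1 c hmem, ← hδbar]
    rfl
  · intro n
    show δbar (q (X.hat n)) = 1
    rw [hqhat, map_one]

/-- A retraction up to an exponent prime to the index of `N` gives a section. -/
theorem exists_section_of_coprime [hN : N.Normal] [N.FiniteIndex] (T : E →* C) {m : ℕ}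
    (h1 : ∀ c, T (X.ι c) = c ^ m) (h2 : ∀ n, T (X.hat n) = 1) (hcop : Nat.Coprime m N.index) :
    ∃ s : G →* E, (∀ g, X.π (s g) = g) ∧ ∀ n : N, s n = X.hat n := by
  obtain ⟨t, ht1, ht2⟩ := X.exists_retraction_of_section N le_rfl X.hat X.π_hat (fun n => rfl)
  obtain ⟨T₁, hT1, hT2⟩ := X.transfer_retraction N t ht1 ht2 le_rfl
  have hgcd := Nat.gcd_eq_gcd_ab m N.index
  rw [hcop.gcd_eq_one] at hgcd
  let a := Nat.gcdA m N.index
  let b := Nat.gcdB m N.index
  let T₂ : E →* C := ((zpowGroupHom a).comp T) * ((zpowGroupHom b).comp T₁)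
  apply X.exists_section_of_retraction T₂
  · intro c
    show (T (X.ι c)) ^ a * (T₁ (X.ι c)) ^ b = c
    rw [h1, hT1, ← zpow_natCast, ← zpow_natCast, ← zpow_mul, ← zpow_mul, ← zpow_add]
    have : (m : ℤ) * a + (N.index : ℤ) * b = 1 := by
      have := hgcd
      push_cast at this
      exact this.symm
    rw [this, zpow_one]
  · intro n
    show (T (X.hat n)) ^ a * (T₁ (X.hat n)) ^ b = 1
    rw [h2, hT2]
    simp

end ExtLemmas

section Eigen

variable {G : Type u} [Group G] (N : Subgroup G) [hN : N.Normal] {V : Type v} [AddCommGroup V]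
  [Module ℂ V] (ρ : Representation ℂ N V) (H : Subgroup G) (μ : H →* ℂˣ)

/-- The eigenspace of `ρ` on `H ∩ N` for the linear character `μ`. -/
def eigenSp : Submodule ℂ V where
  carrier := {v | ∀ x : ↥(H ⊓ N), ρ ⟨x, x.2.2⟩ v = ((μ ⟨x, x.2.1⟩ : ℂˣ) : ℂ) • v}
  add_mem' := by
    intro a b ha hb x
    rw [map_add, ha x, hb x, smul_add]
  zero_mem' := by
    intro x
    simp
  smul_mem' := by
    intro c v hv x
    rw [map_smul, hv x, smul_comm]

theorem mem_eigenSp {v : V} :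
    v ∈ eigenSp N ρ H μ ↔ ∀ x : ↥(H ⊓ N), ρ ⟨x, x.2.2⟩ v = ((μ ⟨x, x.2.1⟩ : ℂˣ) : ℂ) • v := Iff.rfl

/-- The implementers over `H`, twisted by `μ⁻¹`. -/
noncomputable def eigenEnd : H.comap (implπ N ρ) →* Module.End ℂ V where
  toFun y := (((μ ⟨implπ N ρ y, y.2⟩)⁻¹ : ℂˣ) : ℂ) • ((implRep N ρ y : (Module.End ℂ V)ˣ) : Module.End ℂ V)
  map_one' := by
    have h1 : (⟨implπ N ρ ((1 : H.comap (implπ N ρ)) : implGroup N ρ), (1 : H.comap (implπ N ρ)).2⟩ : H) = 1 := by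
      apply Subtype.ext
      simp
    simp only [h1, map_one, inv_one, Units.val_one, one_smul]
    rfl
  map_mul' := by
    intro a b
    have h2 : μ ⟨implπ N ρ ((a * b : H.comap (implπ N ρ)) : implGroup N ρ), (a * b).2⟩ =
        μ ⟨implπ N ρ a, a.2⟩ * μ ⟨implπ N ρ b, b.2⟩ := by
      rw [← map_mul]
      rfl
    rw [h2, smul_mul_smul_comm]
    congr 1
    rw [mul_inv_rev, Units.val_mul, mul_comm]

theorem eigenEnd_mem (y : H.comap (implπ N ρ)) {v : V} (hv : v ∈ eigenSp N ρ H μ) :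
    eigenEnd N ρ H μ y v ∈ eigenSp N ρ H μ := by
  intro x
  obtain ⟨⟨⟨g, A⟩, hy⟩, hgH⟩ := y
  have hgH' : g ∈ H := hgH
  have hmem : g⁻¹ * x * g ∈ N := by
    have := hN.conj_mem (x : G) x.2.2 g⁻¹
    simpa using this
  let n : N := ⟨g⁻¹ * x * g, hmem⟩
  have hcomm := hy n
  have hconj : conjAut N hN g n = ⟨x, x.2.2⟩ := by
    apply Subtype.ext
    simp [conjAut_apply, n, mul_assoc]
  simp only at hcomm
  rw [hconj] at hcomm
  have hxH : (⟨g⁻¹ * x * g, H.mul_mem (H.mul_mem (H.inv_mem hgH') x.2.1) hgH'⟩ : H) =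
      (⟨g, hgH'⟩ : H)⁻¹ * ⟨x, x.2.1⟩ * ⟨g, hgH'⟩ := rfl
  have hμ : μ ⟨g⁻¹ * x * g, H.mul_mem (H.mul_mem (H.inv_mem hgH') x.2.1) hgH'⟩ = μ ⟨x, x.2.1⟩ := by
    rw [hxH, map_mul, map_mul, map_inv]
    rw [mul_comm (μ ⟨g, hgH'⟩)⁻¹, inv_mul_cancel_right]
  have hv' := hv ⟨g⁻¹ * x * g, ⟨H.mul_mem (H.mul_mem (H.inv_mem hgH') x.2.1) hgH', hmem⟩⟩
  rw [hμ] at hv'
  have hA : ρ ⟨x, x.2.2⟩ ((A : Module.End ℂ V) v) = ((μ ⟨x, x.2.1⟩ : ℂˣ) : ℂ) • (A : Module.End ℂ V) v := by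
    have h1 := LinearMap.congr_fun hcomm v
    simp only [Module.End.mul_apply] at h1
    rw [← h1]
    have h2 : ρ n v = ((μ ⟨x, x.2.1⟩ : ℂˣ) : ℂ) • v := hv'
    rw [h2, map_smul]
  show ρ ⟨x, x.2.2⟩ (((( μ ⟨g, hgH⟩)⁻¹ : ℂˣ) : ℂ) • (A : Module.End ℂ V) v) =
    ((μ ⟨x, x.2.1⟩ : ℂˣ) : ℂ) • ((((μ ⟨g, hgH⟩)⁻¹ : ℂˣ) : ℂ) • (A : Module.End ℂ V) v)
  rw [map_smul, hA, smul_comm]

/-- The action on the eigenspace. -/
noncomputable def eigenAct : H.comap (implπ N ρ) →* Module.End ℂ (eigenSp N ρ H μ) where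
  toFun y := (eigenEnd N ρ H μ y).restrict (fun v hv => eigenEnd_mem N ρ H μ y hv)
  map_one' := by
    apply LinearMap.ext
    intro v
    apply Subtype.ext
    simp [LinearMap.restrict_apply]
  map_mul' := by
    intro a b
    apply LinearMap.ext
    intro v
    apply Subtype.ext
    simp [LinearMap.restrict_apply]

theorem eigenAct_coe (y : H.comap (implπ N ρ)) (v : eigenSp N ρ H μ) :
    ((eigenAct N ρ H μ y v : eigenSp N ρ H μ) : V) = eigenEnd N ρ H μ y v := rfl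

/-- The determinant on the eigenspace. -/
noncomputable def eigenDet : H.comap (implπ N ρ) →* ℂˣ :=
  ((LinearMap.det : Module.End ℂ (eigenSp N ρ H μ) →* ℂ).comp (eigenAct N ρ H μ)).toHomUnits

theorem eigenDet_val (y : H.comap (implπ N ρ)) :
    ((eigenDet N ρ H μ y : ℂˣ) : ℂ) = LinearMap.det (eigenAct N ρ H μ y) := rfl

theorem eigenDet_scalar (c : ℂˣ) (h : implι N ρ c ∈ H.comap (implπ N ρ)) :
    eigenDet N ρ H μ ⟨implι N ρ c, h⟩ = c ^ finrank ℂ (eigenSp N ρ H μ) := by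
  apply Units.ext
  rw [eigenDet_val]
  have h1 : eigenAct N ρ H μ ⟨implι N ρ c, h⟩ = (c : ℂ) • LinearMap.id := by
    apply LinearMap.ext
    intro v
    apply Subtype.ext
    rw [eigenAct_coe]
    have h2 : (⟨implπ N ρ (implι N ρ c), h⟩ : H) = 1 := by
      apply Subtype.ext
      rfl
    show (((μ ⟨implπ N ρ (implι N ρ c), h⟩)⁻¹ : ℂˣ) : ℂ) •
      ((scalarUnit c : (Module.End ℂ V)ˣ) : Module.End ℂ V) v = _
    rw [h2, scalarUnit_val]
    simp
  rw [h1, LinearMap.det_smul, LinearMap.det_id, mul_one]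
  simp

theorem eigenDet_hat (n : N) (h : implHat N ρ n ∈ H.comap (implπ N ρ)) :
    eigenDet N ρ H μ ⟨implHat N ρ n, h⟩ = 1 := by
  apply Units.ext
  rw [eigenDet_val]
  have hnH : (n : G) ∈ H := h
  have h1 : eigenAct N ρ H μ ⟨implHat N ρ n, h⟩ = LinearMap.id := by
    apply LinearMap.ext
    intro v
    apply Subtype.ext
    rw [eigenAct_coe]
    show (((μ ⟨(n : G), h⟩)⁻¹ : ℂˣ) : ℂ) • ρ n (v : V) = v
    have h2 := v.2 ⟨n, hnH, n.2⟩
    have h3 : ρ n (v : V) = ((μ ⟨n, hnH⟩ : ℂˣ) : ℂ) • (v : V) := h2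
    rw [h3, smul_smul]
    simp
  rw [h1, LinearMap.det_id]
  simp

/-- `μ⁻¹ ρ` on `H ∩ N`. -/
noncomputable def twistRep : Representation ℂ ↥(H ⊓ N) V where
  toFun x := (((μ ⟨x, x.2.1⟩)⁻¹ : ℂˣ) : ℂ) • ρ ⟨x, x.2.2⟩
  map_one' := by
    have h1 : (⟨((1 : ↥(H ⊓ N)) : G), (1 : ↥(H ⊓ N)).2.1⟩ : H) = 1 := rfl
    have h2 : (⟨((1 : ↥(H ⊓ N)) : G), (1 : ↥(H ⊓ N)).2.2⟩ : N) = 1 := rfl
    simp only [h1, h2, map_one, inv_one, Units.val_one, one_smul]
  map_mul' := by
    intro a b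
    have h1 : (⟨((a * b : ↥(H ⊓ N)) : G), (a * b).2.1⟩ : H) = ⟨a, a.2.1⟩ * ⟨b, b.2.1⟩ := rfl
    have h2 : (⟨((a * b : ↥(H ⊓ N)) : G), (a * b).2.2⟩ : N) = ⟨a, a.2.2⟩ * ⟨b, b.2.2⟩ := rfl
    simp only [h1, h2, map_mul, mul_inv_rev, Units.val_mul]
    rw [smul_mul_smul_comm, mul_comm ((((μ ⟨b, b.2.1⟩)⁻¹ : ℂˣ) : ℂ))]

theorem invariants_twistRep : (twistRep N ρ H μ).invariants = eigenSp N ρ H μ := by
  ext v
  rw [Representation.mem_invariants, mem_eigenSp]
  constructor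
  · intro h x
    have h1 := h x
    have h2 : (((μ ⟨x, x.2.1⟩)⁻¹ : ℂˣ) : ℂ) • ρ ⟨x, x.2.2⟩ v = v := h1
    calc ρ ⟨x, x.2.2⟩ v = ((μ ⟨x, x.2.1⟩ : ℂˣ) : ℂ) •
          ((((μ ⟨x, x.2.1⟩)⁻¹ : ℂˣ) : ℂ) • ρ ⟨x, x.2.2⟩ v) := by
            rw [smul_smul]
            simp
      _ = _ := by rw [h2]
  · intro h x
    show (((μ ⟨x, x.2.1⟩)⁻¹ : ℂˣ) : ℂ) • ρ ⟨x, x.2.2⟩ v = v
    rw [h x, smul_smul]
    simp

variable [Fintype ↥(H ⊓ N)]

/-- The dimension of the eigenspace is the multiplicity. -/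
theorem finrank_eigenSp [FiniteDimensional ℂ V] :
    (finrank ℂ (eigenSp N ρ H μ) : ℂ) =
      classInner (fun x : ↥(H ⊓ N) => ρ.character ⟨x, x.2.2⟩)
        (fun x : ↥(H ⊓ N) => ((μ ⟨x, x.2.1⟩ : ℂˣ) : ℂ)) := by
  letI : Invertible (Nat.card ↥(H ⊓ N) : ℂ) := invertibleOfNonzero natCard_ne_zero'
  rw [← invariants_twistRep, ← Representation.card_inv_mul_sum_char_eq_finrank]
  unfold classInner
  congr 1
  refine Finset.sum_congr rfl fun x _ => ?_
  let μ' : ↥(H ⊓ N) →* ℂˣ := μ.comp (Subgroup.inclusion inf_le_left)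
  have hconj : conj ((μ ⟨x, x.2.1⟩ : ℂˣ) : ℂ) = (((μ ⟨x, x.2.1⟩)⁻¹ : ℂˣ) : ℂ) := by
    have h1 := char_conj_eq_inv (IsIrrCharacter.isCharacter (isIrrCharacter_of_hom μ')) x
    have h2 : μ' x⁻¹ = (μ' x)⁻¹ := map_inv _ _
    simp only [h2] at h1
    exact h1
  rw [hconj]
  show LinearMap.trace ℂ V ((((μ ⟨x, x.2.1⟩)⁻¹ : ℂˣ) : ℂ) • ρ ⟨x, x.2.2⟩) = _
  rw [map_smul, smul_eq_mul, mul_comm]
  rfl

end Eigen

section Main

variable {G : Type u} [Group G] [Fintype G] (N : Subgroup G) [hN : N.Normal]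

/-- If a linear character of a supplement `H` of `N` occurs in `ϑ` on `H ∩ N` with multiplicity
prime to the index of `N`, then the invariant character `ϑ` extends to `G`. -/
theorem exists_ext_of_linear_mult {ϑ : N → ℂ} (hϑ : IsIrrCharacter N ϑ)
    (hinv : ∀ (g : G) (n : N), ϑ ⟨g * n * g⁻¹, hN.conj_mem (n : G) n.2 g⟩ = ϑ n)
    (H : Subgroup G) (hHN : H ⊔ N = ⊤) (μ : H →* ℂˣ) {m : ℕ} (hcop : Nat.Coprime m N.index)
    [Fintype ↥(H ⊓ N)]
    (hmult : classInner (fun x : ↥(H ⊓ N) => ϑ ⟨x, x.2.2⟩)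
      (fun x : ↥(H ⊓ N) => ((μ ⟨x, x.2.1⟩ : ℂˣ) : ℂ)) = m) :
    ∃ χ : G → ℂ, IsIrrCharacter G χ ∧ ∀ n : N, χ n = ϑ n := by
  obtain ⟨k, ρ, hρ, rfl⟩ := hϑ
  have hsurj := exists_impl N ρ hinv
  let X := implExt N ρ hρ hsurj
  have hfin : finrank ℂ (eigenSp N ρ H μ) = m := by
    have := finrank_eigenSp N ρ H μ
    rw [hmult] at this
    exact_mod_cast this
  obtain ⟨T, hT1, hT2⟩ := exists_retraction_of_sup X H hHN (eigenDet N ρ H μ) (m := m)
    (fun c h => by rw [← hfin]; exact eigenDet_scalar N ρ H μ c h)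
    (fun n h => eigenDet_hat N ρ H μ n h)
  obtain ⟨s, -, hs⟩ := exists_section_of_coprime X T hT1 hT2 hcop
  exact irr_ext_of_section N ρ hρ s hs

end Main

section ExtendHom

/-- A hom from a subgroup of a finite abelian group extends. -/
theorem exists_extend_hom {A : Type u} {B : Type v} [Group A] [Group B] [Finite A]
    (hc : ∀ a b : A, a * b = b * a) (j : B →* A) (hj : Function.Injective j) (ψ : B →* ℂˣ) :
    ∃ ψ' : A →* ℂˣ, ∀ b, ψ' (j b) = ψ b := by
  classical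
  letI : CommGroup A := { (inferInstance : Group A) with mul_comm := hc }
  let e : B ≃* j.range := MonoidHom.ofInjective hj
  let ψ₀ : j.range →* ℂˣ := ψ.comp e.symm.toMonoidHom
  haveI : NeZero (Monoid.exponent A) := ⟨Monoid.exponent_ne_zero_of_finite⟩
  obtain ⟨ψ', hψ'⟩ := MonoidHom.domRestrict_surjective (G := A) (M := ℂ) j.range ψ₀
  refine ⟨ψ', fun b => ?_⟩
  have h1 := DFunLike.congr_fun hψ' (e b)
  have h2 : ψ₀ (e b) = ψ b := by
    show ψ (e.symm (e b)) = ψ b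
    rw [MulEquiv.symm_apply_apply]
  rw [← h2, ← h1]
  rfl

end ExtendHom

section Elementary

variable {E : Type u} [Group E] [Finite E] {p : ℕ} [hp : Fact p.Prime]

/-- Characters of a normal subgroup of `p`-power index of an elementary group. -/
theorem elementary_extend (hE : IsElementary p E) (K : Subgroup E) [hK : K.Normal] {j : ℕ}
    (hj : K.index ∣ p ^ j)
    (hQ : ∀ Q : Subgroup E, IsPGroup p Q → (∀ a ∈ Q ⊓ K, ∀ b ∈ Q ⊓ K, a * b = b * a) ∧
      ∀ ψ : ↥(Q ⊓ K) →* ℂˣ, ∃ ν : Q →* ℂˣ, ∀ y : ↥(Q ⊓ K), ν ⟨y, y.2.1⟩ = ψ y) :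
    (∀ a b : K, a * b = b * a) ∧ ∀ φ : K →* ℂˣ, ∃ μ : E →* ℂˣ, ∀ y : K, μ y = φ y := by
  classical
  obtain ⟨x, hx, hc, k, hk⟩ := hE
  let X : Subgroup E := Subgroup.zpowers x
  have hXc : ∀ y ∈ X, ∀ z : E, y * z = z * y := by
    intro y hy z
    have hle : X ≤ Subgroup.center E := by
      rw [Subgroup.zpowers_le]
      exact hx
    exact ((Subgroup.mem_center_iff.mp (hle hy)) z).symm
  let Q : Sylow p E := default
  have hQp : IsPGroup p (Q : Subgroup E) := Q.isPGroup'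
  obtain ⟨b, hb⟩ := IsPGroup.iff_card.mp hQp
  have hX : Nat.card X = orderOf x := Nat.card_zpowers x
  have hcE : Nat.card X * p ^ k = Nat.card E := by
    rw [← hk]
    exact Subgroup.card_mul_index X
  have hQi : ¬ p ∣ (Q : Subgroup E).index := Q.not_dvd_index
  have hcQ : p ^ b * (Q : Subgroup E).index = Nat.card E := by
    rw [← hb]
    exact Subgroup.card_mul_index _
  have hcop : Nat.Coprime p (orderOf x) := hc.symm
  have hbk : p ^ b = p ^ k := by
    apply Nat.dvd_antisymm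
    · have h1 : p ^ b ∣ Nat.card X * p ^ k := by
        rw [hcE, ← hcQ]
        exact Dvd.intro _ rfl
      rw [hX] at h1
      exact (Nat.Coprime.pow_left b hcop).dvd_of_dvd_mul_left h1
    · have h1 : p ^ k ∣ p ^ b * (Q : Subgroup E).index := by
        rw [hcQ, ← hcE]
        exact Dvd.intro_left _ rfl
      have h2 : Nat.Coprime (p ^ k) (Q : Subgroup E).index :=
        Nat.Coprime.pow_left k ((Nat.Prime.coprime_iff_not_dvd hp.out).mpr hQi)
      exact h2.dvd_of_dvd_mul_right h1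
  have hcard : Nat.card X * Nat.card (Q : Subgroup E) = Nat.card E := by
    rw [hb, hbk, hcE]
  have hcomm : ∀ (a : X) (b : (Q : Subgroup E)), Commute (X.subtype a) ((Q : Subgroup E).subtype b) :=
    fun a b => hXc a a.2 b
  let c : X × (Q : Subgroup E) →* E := MonoidHom.noncommCoprod X.subtype (Q : Subgroup E).subtype hcomm
  have hcapply : ∀ (a : X) (b : (Q : Subgroup E)), c (a, b) = (a : E) * b := fun a b => rfl
  have hinj : Function.Injective c := by
    rw [injective_iff_map_eq_one]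
    rintro ⟨a, b'⟩ hab
    rw [hcapply] at hab
    have h1 : (a : E) = (b' : E)⁻¹ := eq_inv_of_mul_eq_one_left hab
    have h2 : orderOf (a : E) ∣ orderOf x := by
      rw [← hX]
      exact Subgroup.orderOf_dvd_natCard X a.2
    have h3 : orderOf (a : E) ∣ p ^ b := by
      rw [← hb]
      rw [h1]
      exact Subgroup.orderOf_dvd_natCard _ ((Q : Subgroup E).inv_mem b'.2)
    have h4 : orderOf (a : E) = 1 :=
      Nat.Coprime.eq_one_of_dvd ((Nat.Coprime.pow_left b hcop).coprime_dvd_left h3) h2 |> fun h => h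
    have h5 : (a : E) = 1 := orderOf_eq_one_iff.mp h4
    have h6 : (b' : E) = 1 := by
      rw [h5] at hab
      simpa using hab
    exact Prod.ext (Subtype.ext h5) (Subtype.ext h6)
  have hbij : Function.Bijective c := by
    refine hinj.bijective_of_nat_card_le ?_
    rw [Nat.card_prod, hcard]
  let e : X × (Q : Subgroup E) ≃* E := MulEquiv.ofBijective c hbij
  have hdecomp : ∀ z : E, ∃ (a : X) (b : (Q : Subgroup E)), z = (a : E) * b := by
    intro z
    obtain ⟨⟨a, b⟩, hab⟩ := hbij.2 z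
    exact ⟨a, b, hab.symm⟩
  -- `x` lies in `K`
  have hxK : x ∈ K := by
    let y : E ⧸ K := (x : E)
    have h1 : y ^ orderOf x = 1 := by
      show ((x ^ orderOf x : E) : E ⧸ K) = 1
      rw [pow_orderOf_eq_one]
      rfl
    have h2 : y ^ K.index = 1 := by
      show ((x ^ K.index : E) : E ⧸ K) = 1
      exact (QuotientGroup.eq_one_iff _).mpr (Subgroup.pow_index_mem K x)
    have hgcd : Nat.gcd (orderOf x) K.index = 1 :=
      Nat.Coprime.coprime_dvd_right hj (Nat.Coprime.pow_right j hc)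
    have h3 : y ^ Nat.gcd (orderOf x) K.index = 1 := pow_gcd_eq_one.mpr ⟨h1, h2⟩
    rw [hgcd, pow_one] at h3
    exact (QuotientGroup.eq_one_iff _).mp h3
  have hXK : X ≤ K := by
    rw [Subgroup.zpowers_le]
    exact hxK
  obtain ⟨hab, hext⟩ := hQ Q hQp
  have hpart : ∀ (z : K) (a : X) (b : (Q : Subgroup E)), (z : E) = (a : E) * b →
      (b : E) ∈ (Q : Subgroup E) ⊓ K := by
    intro z a b hz
    refine ⟨b.2, ?_⟩
    have : (b : E) = (a : E)⁻¹ * z := by
      rw [hz]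
      group
    rw [this]
    exact K.mul_mem (K.inv_mem (hXK a.2)) z.2
  constructor
  · intro u v
    apply Subtype.ext
    obtain ⟨a, b', hu⟩ := hdecomp u
    obtain ⟨a', b'', hv⟩ := hdecomp v
    have h1 := hpart u a b' hu
    have h2 := hpart v a' b'' hv
    have h3 := hab _ h1 _ h2
    show (u : E) * v = v * u
    rw [hu, hv]
    calc (a : E) * b' * (a' * b'') = a * a' * ((b' : E) * b'') := by
          rw [mul_assoc (a : E), ← mul_assoc (b' : E), ← hXc a' a'.2 b', mul_assoc (a' : E),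
            ← mul_assoc (a : E)]
      _ = a' * a * ((b'' : E) * b') := by rw [h3, hXc a a.2 a']
      _ = a' * b'' * ((a : E) * b') := by
          rw [mul_assoc (a' : E) a, ← mul_assoc (a : E) (b'' : E), hXc a a.2 b'', mul_assoc (b'' : E),
            ← mul_assoc (a' : E)]
  · intro φ
    let φX : X →* ℂˣ := φ.comp (Subgroup.inclusion hXK)
    let ψ : ↥((Q : Subgroup E) ⊓ K) →* ℂˣ := φ.comp (Subgroup.inclusion inf_le_right)
    obtain ⟨ν, hν⟩ := hext ψ
    refine ⟨(MonoidHom.coprod φX ν).comp e.symm.toMonoidHom, fun y => ?_⟩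
    obtain ⟨a, b', hy⟩ := hdecomp y
    have h1 := hpart y a b' hy
    have h2 : e.symm (y : E) = (a, b') := by
      rw [MulEquiv.symm_apply_eq, hy]
      rfl
    show MonoidHom.coprod φX ν (e.symm (y : E)) = φ y
    rw [h2, MonoidHom.coprod_apply]
    have h3 : ν b' = ψ ⟨b', h1⟩ := hν ⟨b', h1⟩
    rw [h3]
    show φ _ * φ _ = φ y
    rw [← map_mul]
    congr 1
    apply Subtype.ext
    exact hy.symm

end Elementary

section Sylow

variable {G : Type u} [Group G] [Fintype G]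

/-- Isaacs: invariant characters extend under the central Sylow condition. -/
theorem ext_of_central_sylow (p : ℕ) [hp : Fact p.Prime] (N : Subgroup G) [hN : N.Normal]
    (hind : ∃ k : ℕ, N.index = p ^ k) (P : Sylow p G)
    (hcent : ∀ x ∈ (P : Subgroup G) ⊓ N, ∀ y ∈ (P : Subgroup G), x * y = y * x)
    (hlin : ∀ lam : ↥((P : Subgroup G) ⊓ N) → ℂ, IsCharacter ↥((P : Subgroup G) ⊓ N) lam →
      lam 1 = 1 → ∃ μ : ↥(P : Subgroup G) → ℂ, IsCharacter ↥(P : Subgroup G) μ ∧ μ 1 = 1 ∧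
        ∀ x : ↥((P : Subgroup G) ⊓ N), μ ⟨(x : G), x.2.1⟩ = lam x)
    (ϑ : N → ℂ) (hϑ : IsIrrCharacter N ϑ)
    (hinv : ∀ (g : G) (n : N), ϑ ⟨g * n * g⁻¹, hN.conj_mem (n : G) n.2 g⟩ = ϑ n) :
    ∃ χ : G → ℂ, IsIrrCharacter G χ ∧ ∀ n : N, χ n = ϑ n := by
  classical
  obtain ⟨E, φ, hE, htop, hφ, hφinv, m, hpm, hm⟩ :=
    Cfsg.Agent.Lib.DadeElem.exists_elementary p hp.out N hind ϑ hϑ hinv
  obtain ⟨k, hk⟩ := hind
  let K : Subgroup E := N.subgroupOf E
  haveI hKn : K.Normal := Subgroup.normal_subgroupOf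
  have hKindex : K.index ∣ p ^ k := by
    have e1 : K.index = N.relIndex E := rfl
    have e2 : N.relIndex (E ⊔ N) = N.relIndex E := Subgroup.relIndex_sup_right E N
    rw [e1, ← e2, htop, Subgroup.relIndex_top_right, hk]
  have hQ : ∀ Q : Subgroup E, IsPGroup p Q → (∀ a ∈ Q ⊓ K, ∀ b ∈ Q ⊓ K, a * b = b * a) ∧
      ∀ ψ : ↥(Q ⊓ K) →* ℂˣ, ∃ ν : Q →* ℂˣ, ∀ y : ↥(Q ⊓ K), ν ⟨y, y.2.1⟩ = ψ y := by
    intro Q hQp
    let Q' : Subgroup G := Q.map E.subtype
    have hQ'p : IsPGroup p Q' := hQp.map E.subtype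
    obtain ⟨R, hR⟩ := hQ'p.exists_le_sylow
    obtain ⟨g, hg⟩ := MulAction.exists_smul_eq G P R
    have hmemP : ∀ y : Q, g⁻¹ * ((y : E) : G) * g ∈ (P : Subgroup G) := by
      intro y
      have h1 : ((y : E) : G) ∈ (R : Subgroup G) := hR ⟨y, y.2, rfl⟩
      rw [← hg, Sylow.coe_subgroup_smul, Subgroup.mem_pointwise_smul_iff_inv_smul_mem] at h1
      simpa [MulAut.smul_def, MulAut.conj_apply] using h1
    let j : Q →* (P : Subgroup G) :=
      { toFun := fun y => ⟨g⁻¹ * ((y : E) : G) * g, hmemP y⟩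
        map_one' := by
          apply Subtype.ext
          simp
        map_mul' := by
          intro a b
          apply Subtype.ext
          simp only [Subgroup.coe_mul]
          group }
    have hjcoe : ∀ y : Q, ((j y : (P : Subgroup G)) : G) = g⁻¹ * ((y : E) : G) * g := fun y => rfl
    have hjinj : Function.Injective j := by
      rw [injective_iff_map_eq_one]
      intro y hy
      have h1 : g⁻¹ * ((y : E) : G) * g = 1 := congrArg Subtype.val hy
      apply Subtype.ext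
      apply Subtype.ext
      have h2 : ((y : E) : G) = g * 1 * g⁻¹ := by
        rw [← h1]
        group
      simpa using h2
    have hmemN : ∀ y : ↥(Q ⊓ K), g⁻¹ * ((y : E) : G) * g ∈ N := by
      intro y
      have h1 : ((y : E) : G) ∈ N := y.2.2
      have := hN.conj_mem _ h1 g⁻¹
      simpa using this
    have hPNc : ∀ a b : ↥((P : Subgroup G) ⊓ N), a * b = b * a := by
      intro a b
      apply Subtype.ext
      exact hcent a a.2 b b.2.1
    constructor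
    · intro a ha b hb
      have h1 := hcent (g⁻¹ * a * g) ⟨hmemP ⟨a, ha.1⟩, hmemN ⟨a, ha⟩⟩ (g⁻¹ * b * g) (hmemP ⟨b, hb.1⟩)
      apply Subtype.ext
      have h2 : g⁻¹ * ((a : E) : G) * g * (g⁻¹ * ((b : E) : G) * g) =
          g⁻¹ * (((a : E) : G) * ((b : E) : G)) * g := by group
      have h3 : g⁻¹ * ((b : E) : G) * g * (g⁻¹ * ((a : E) : G) * g) =
          g⁻¹ * (((b : E) : G) * ((a : E) : G)) * g := by group
      rw [h2, h3] at h1
      have h4 := mul_right_cancel h1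
      have h5 := mul_left_cancel h4
      simpa using h5
    · intro ψ
      let j₀ : ↥(Q ⊓ K) →* ↥((P : Subgroup G) ⊓ N) :=
        { toFun := fun y => ⟨g⁻¹ * ((y : E) : G) * g, hmemP ⟨y, y.2.1⟩, hmemN y⟩
          map_one' := by
            apply Subtype.ext
            simp
          map_mul' := by
            intro a b
            apply Subtype.ext
            simp only [Subgroup.coe_mul]
            group }
      have hj₀inj : Function.Injective j₀ := by
        rw [injective_iff_map_eq_one]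
        intro y hy
        have h1 : g⁻¹ * ((y : E) : G) * g = 1 := congrArg Subtype.val hy
        apply Subtype.ext
        apply Subtype.ext
        have h2 : ((y : E) : G) = g * 1 * g⁻¹ := by
          rw [← h1]
          group
        simpa using h2
      obtain ⟨ψ', hψ'⟩ := exists_extend_hom hPNc j₀ hj₀inj ψ
      obtain ⟨μ₀, hμ₀, hμ₀1, hμ₀r⟩ := hlin (fun x => ((ψ' x : ℂˣ) : ℂ))
        (IsIrrCharacter.isCharacter (isIrrCharacter_of_hom ψ')) (by simp)
      obtain ⟨muh, hmuh⟩ := exists_hom_of_degree_one hμ₀ hμ₀1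
      refine ⟨muh.comp j, fun y => ?_⟩
      apply Units.ext
      rw [← hψ' y]
      show ((muh (j ⟨y, y.2.1⟩) : ℂˣ) : ℂ) = ((ψ' (j₀ y) : ℂˣ) : ℂ)
      have h1 := hμ₀r (j₀ y)
      rw [← h1]
      have h2 := hmuh (j ⟨y, y.2.1⟩)
      exact h2.symm
  obtain ⟨hKab, hKext⟩ := elementary_extend hE K hKindex hQ
  letI : Fintype ↥(E ⊓ N) := Fintype.ofFinite _
  let ε : ↥(E ⊓ N) ≃* K :=
    { toFun := fun x => ⟨⟨x.1, x.2.1⟩, x.2.2⟩
      invFun := fun y => ⟨y.1.1, y.1.2, y.2⟩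
      left_inv := fun x => rfl
      right_inv := fun y => rfl
      map_mul' := fun x y => rfl }
  have hENc : ∀ a b : ↥(E ⊓ N), a * b = b * a := by
    intro a b
    apply ε.injective
    rw [map_mul, map_mul]
    exact hKab _ _
  have hφ1 : φ 1 = 1 := Cfsg.Agent.Lib.CharCodegP.irr_one_of_comm hENc hφ
  obtain ⟨f, hf⟩ := exists_hom_of_degree_one (IsIrrCharacter.isCharacter hφ) hφ1
  obtain ⟨μ, hμ⟩ := hKext (f.comp ε.symm.toMonoidHom)
  have hμφ : ∀ x : ↥(E ⊓ N), ((μ ⟨x, x.2.1⟩ : ℂˣ) : ℂ) = φ x := by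
    intro x
    have h1 := hμ (ε x)
    have h2 : μ ⟨x, x.2.1⟩ = f x := by
      have h3 : (f.comp ε.symm.toMonoidHom) (ε x) = f x := by
        show f (ε.symm (ε x)) = f x
        rw [MulEquiv.symm_apply_apply]
      rw [← h3, ← h1]
      rfl
    rw [h2, hf]
  have hcop : Nat.Coprime m N.index := by
    rw [hk]
    exact Nat.Coprime.pow_right k ((Nat.Prime.coprime_iff_not_dvd hp.out).mpr hpm).symm
  refine exists_ext_of_linear_mult N hϑ hinv E htop μ hcop ?_
  rw [finsum_eq_sum_of_fintype] at hm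
  rw [← hm]
  unfold classInner
  congr 1
  refine Finset.sum_congr rfl fun x _ => ?_
  show ϑ ⟨x, x.2.2⟩ * conj ((μ ⟨x, x.2.1⟩ : ℂˣ) : ℂ) = _
  rw [hμφ]

end Sylow

end Cfsg.Agent.Lib.DadeExt
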