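import Mathlib

/-!
# Group theory preparations for characters fully ramified over a normal subgroup

A Sylow subgroup of `H/K` lifts to a subgroup `Q` of `H` containing `Z` with `Q/Z` Sylow in `H/Z`,
with the Frattini factorization with respect to `Q ⊓ K`; and complements from an action.
-/

set_option autoImplicit false
set_option linter.style.haveILetI false

namespace Cfsg.Agent.Lib.FullyRamGroup

open Subgroup

universe u v

variable {H : Type u} [Group H] [Finite H]

/-- `|K : Q ∩ K|` divides `|H : Q|` for `K` normal. -/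
theorem relIndex_dvd_index_right (Q K : Subgroup H) [K.Normal] : Q.relIndex K ∣ Q.index := by
  have h1 : (Q ⊓ K).index = K.relIndex Q * Q.index := by
    rw [← inf_relIndex_left, relIndex_mul_index inf_le_left]
  have h2 : (Q ⊓ K).index = Q.relIndex K * K.index := by
    rw [← inf_relIndex_right, relIndex_mul_index inf_le_right]
  have h3 : K.index = K.relIndex Q * (Q ⊔ K).index := by
    rw [← relIndex_sup_right, relIndex_mul_index le_sup_right]
  rw [h3] at h2
  have hne : K.relIndex Q ≠ 0 := Subgroup.index_ne_zero_of_finite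
  have h4 : Q.relIndex K * (Q ⊔ K).index = Q.index := by
    apply Nat.eq_of_mul_eq_mul_left (Nat.pos_of_ne_zero hne)
    rw [← h1, h2]
    ring
  exact ⟨_, h4.symm⟩

/-- The preparation of the Sylow situation. -/
theorem exists_lift (Z K : Subgroup H) [Z.Normal] [K.Normal] (hZK : Z ≤ K) (p : ℕ) [Fact p.Prime]
    (P : Sylow p (H ⧸ K)) :
    ∃ Q : Subgroup H, Z ≤ Q ∧ (∃ a : ℕ, (Z.subgroupOf Q).index = p ^ a) ∧ ¬ p ∣ Q.index ∧
      Q.map (QuotientGroup.mk' K) = (P : Subgroup (H ⧸ K)) ∧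
      ¬ p ∣ Q.relIndex K ∧
      ∀ h : H, ∃ n ∈ normalizer ((Q ⊓ K : Subgroup H) : Set H), ∃ k ∈ K, h = n * k := by
  classical
  let πZ : H →* H ⧸ Z := QuotientGroup.mk' Z
  let πK : H →* H ⧸ K := QuotientGroup.mk' K
  have hπZs : Function.Surjective πZ := QuotientGroup.mk'_surjective Z
  let f : H ⧸ Z →* H ⧸ K := QuotientGroup.map Z K (MonoidHom.id H) (fun z hz => hZK hz)
  have hfπ : ∀ x : H, f (πZ x) = πK x := fun x => rfl
  have hf : Function.Surjective f := by
    intro y
    obtain ⟨x, rfl⟩ := QuotientGroup.mk'_surjective K y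
    exact ⟨πZ x, rfl⟩
  obtain ⟨S, hS⟩ := Sylow.mapSurjective_surjective hf p P
  have hSP : (S : Subgroup (H ⧸ Z)).map f = (P : Subgroup (H ⧸ K)) := by
    rw [← hS, Sylow.coe_mapSurjective]
  let Q : Subgroup H := (S : Subgroup (H ⧸ Z)).comap πZ
  have hker : πZ.ker = Z := QuotientGroup.ker_mk' Z
  have hZQ : Z ≤ Q := by
    intro z hz
    change πZ z ∈ S
    have : πZ z = 1 := by rw [← MonoidHom.mem_ker, hker]; exact hz
    rw [this]
    exact one_mem _
  have hmapQ : Q.map πZ = S := map_comap_eq_self_of_surjective hπZs _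
  let Kb : Subgroup (H ⧸ Z) := K.map πZ
  haveI hKbN : Kb.Normal := Subgroup.Normal.map inferInstance πZ hπZs
  have hKcomap : K = Kb.comap πZ := by
    rw [comap_map_eq, hker, sup_eq_left.mpr hZK]
  have hK1 : Q ⊓ K = ((S : Subgroup (H ⧸ Z)) ⊓ Kb).comap πZ := by
    rw [comap_inf, ← hKcomap]
  refine ⟨Q, hZQ, ?_, ?_, ?_, ?_, ?_⟩
  · -- `Q / Z` is a `p`-group
    have h1 : Z.relIndex Q = Nat.card (S : Subgroup (H ⧸ Z)) := by
      have := relIndex_ker (K := Q) πZ
      rw [hker, hmapQ] at this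
      exact this
    obtain ⟨a, ha⟩ := IsPGroup.iff_card.mp S.isPGroup'
    exact ⟨a, by rw [← relIndex, h1, ha]⟩
  · -- the index
    rw [index_comap_of_surjective _ hπZs]
    exact S.not_dvd_index
  · -- the image
    have : Q.map πK = (Q.map πZ).map f := by
      rw [map_map]
      rfl
    change Q.map πK = _
    rw [this, hmapQ, hSP]
  · -- `K / K₁`
    intro hd
    apply (show ¬ p ∣ Q.index from by
      rw [index_comap_of_surjective _ hπZs]
      exact S.not_dvd_index)
    exact hd.trans (relIndex_dvd_index_right Q K)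
  · -- Frattini
    intro h
    -- a Sylow subgroup of `Kb`
    have hpg : IsPGroup p (((S : Subgroup (H ⧸ Z)) ⊓ Kb).subgroupOf Kb) := by
      have h1 : IsPGroup p (S : Subgroup (H ⧸ Z)) := S.isPGroup'
      have h2 : IsPGroup p ((S : Subgroup (H ⧸ Z)) ⊓ Kb : Subgroup (H ⧸ Z)) :=
        h1.to_le inf_le_left
      exact h2.comap_of_injective Kb.subtype Subtype.coe_injective
    have hidx : ¬ p ∣ (((S : Subgroup (H ⧸ Z)) ⊓ Kb).subgroupOf Kb).index := by
      intro hd
      have h1 : (((S : Subgroup (H ⧸ Z)) ⊓ Kb).subgroupOf Kb).index =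
          (S : Subgroup (H ⧸ Z)).relIndex Kb := inf_relIndex_right _ _
      rw [h1] at hd
      exact S.not_dvd_index (hd.trans (relIndex_dvd_index_right _ Kb))
    let T : Sylow p Kb := hpg.toSylow hidx
    have hT : (T : Subgroup Kb).map Kb.subtype = (S : Subgroup (H ⧸ Z)) ⊓ Kb := by
      have : (T : Subgroup Kb) = ((S : Subgroup (H ⧸ Z)) ⊓ Kb).subgroupOf Kb := rfl
      rw [this, subgroupOf_map_subtype, inf_assoc, inf_idem]
    have hF := Sylow.normalizer_sup_eq_top T
    have hTmap : T.map Kb.subtype = ((S : Subgroup (H ⧸ Z)) ⊓ Kb : Subgroup (H ⧸ Z)) := hT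
    have hmem : πZ h ∈ ((normalizer (((S : Subgroup (H ⧸ Z)) ⊓ Kb : Subgroup (H ⧸ Z)) : Set (H ⧸ Z)) ⊔ Kb :
        Subgroup (H ⧸ Z)) : Set (H ⧸ Z)) := by
      rw [← hT]
      have : normalizer (((T : Subgroup Kb).map Kb.subtype : Subgroup (H ⧸ Z)) : Set (H ⧸ Z)) ⊔ Kb = ⊤ := hF
      rw [this]
      trivial
    rw [Subgroup.mul_normal] at hmem
    obtain ⟨a, ha, b, hb, hab⟩ := hmem
    obtain ⟨a₀, rfl⟩ := hπZs a
    obtain ⟨k₀, hk₀, rfl⟩ := hb
    have h5 : (a₀ * k₀)⁻¹ * h ∈ Z := by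
      rw [← hker, MonoidHom.mem_ker, map_mul, map_inv, map_mul]
      have h6 : πZ a₀ * πZ k₀ = πZ h := hab
      rw [h6, inv_mul_cancel]
    refine ⟨a₀, ?_, k₀ * ((a₀ * k₀)⁻¹ * h), K.mul_mem hk₀ (hZK h5), by group⟩
    rw [mem_normalizer_iff]
    intro x
    rw [hK1]
    rw [mem_comap, mem_comap, map_mul, map_mul, map_inv]
    exact (mem_normalizer_iff.mp ha) (πZ x)

/-- Orbits of a normal subgroup of a transitive group all have the same size. -/
theorem orbit_card_dvd {A : Type*} {X : Type*} [Group A] [MulAction A X] [Finite X]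
    (W : Subgroup A) [hW : W.Normal] (htrans : ∀ a b : X, ∃ g : A, g • a = b) (a : X) :
    Nat.card (MulAction.orbit W a) ∣ Nat.card X := by
  classical
  haveI := Fintype.ofFinite (MulAction.orbitRel.Quotient W X)
  have hsame : ∀ b : X, Nat.card (MulAction.orbit W b) = Nat.card (MulAction.orbit W a) := by
    intro b
    obtain ⟨g, rfl⟩ := htrans a b
    let F : MulAction.orbit W a → MulAction.orbit W (g • a) := fun x =>
      ⟨g • (x : X), by
        obtain ⟨w, hw⟩ := x.2
        have : g • (x : X) = (⟨g * (w : A) * g⁻¹, hW.conj_mem _ w.2 g⟩ : W) • (g • a) := by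
          rw [← hw]
          simp [Subgroup.smul_def, mul_smul]
        rw [this]
        exact MulAction.mem_orbit _ _⟩
    have hF : Function.Bijective F := by
      constructor
      · intro x y hxy
        apply Subtype.ext
        have : g • (x : X) = g • (y : X) := congrArg Subtype.val hxy
        exact MulAction.injective g this
      · rintro ⟨y, w, hw⟩
        refine ⟨⟨g⁻¹ • y, ⟨g⁻¹ * (w : A) * g, by
          have := hW.conj_mem _ w.2 g⁻¹
          simpa using this⟩, ?_⟩, ?_⟩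
        · rw [← hw]
          simp [Subgroup.smul_def, mul_smul]
        · apply Subtype.ext
          simp [F]
    exact (Nat.card_congr (Equiv.ofBijective F hF)).symm
  rw [Nat.card_congr (MulAction.selfEquivSigmaOrbits W X), Nat.card_sigma]
  apply Finset.dvd_sum
  intro ω _
  have h1 : Nat.card ↑(MulAction.orbit W (Quotient.out ω)) = Nat.card (MulAction.orbit W a) :=
    hsame _
  rw [← h1]

/-- Complements from an action. -/
theorem exists_complement_of_action (K Q N₀ : Subgroup H) [K.Normal] (hQN : Q ≤ N₀)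
    (hFr : ∀ h : H, ∃ n ∈ N₀, ∃ k ∈ K, h = n * k)
    (p : ℕ) [hp : Fact p.Prime] (ha : ∃ a : ℕ, Nat.card (Q.map (QuotientGroup.mk' K)) = p ^ a)
    (hidx : ¬ p ∣ Q.relIndex K)
    {X : Type*} [Finite X] [MulAction N₀ X] (a₀ : X)
    (htrans : ∀ a b : X, ∃ q : N₀, (q : H) ∈ Q ∧ q • a = b)
    (hreg : ∀ (a : X) (q : N₀), (q : H) ∈ Q → q • a = a → (q : H) ∈ K)
    (hK1 : ∀ (a : X) (q : N₀), (q : H) ∈ Q ⊓ K → q • a = a) :
    ∃ M : Subgroup (H ⧸ K), M.IsComplement' (Q.map (QuotientGroup.mk' K)) := by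
  classical
  let π : H →* H ⧸ K := QuotientGroup.mk' K
  have hπ1 : ∀ x, x ∈ K ↔ π x = 1 := fun x => (QuotientGroup.eq_one_iff x).symm
  -- the size of `X`
  let Q₀ : Subgroup N₀ := Q.subgroupOf N₀
  have hcardX : Nat.card X = Nat.card (Q.map π) := by
    let f : Q₀ →* H ⧸ K := π.comp (N₀.subtype.comp Q₀.subtype)
    have h1 : f.range = (Q.map π).comap (MonoidHom.id _) := by
      ext y
      simp only [MonoidHom.mem_range, comap_id, mem_map]
      constructor
      · rintro ⟨q, rfl⟩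
        exact ⟨_, q.2, rfl⟩
      · rintro ⟨q, hq, rfl⟩
        exact ⟨⟨⟨q, hQN hq⟩, hq⟩, rfl⟩
    have h2 : f.ker = MulAction.stabilizer Q₀ a₀ := by
      ext q
      rw [MonoidHom.mem_ker, MulAction.mem_stabilizer_iff]
      constructor
      · intro hq
        apply hK1
        refine ⟨q.2, ?_⟩
        exact (hπ1 _).mpr hq
      · intro hq
        apply (hπ1 _).mp
        exact hreg a₀ (q : N₀) q.2 hq
    have h3 : Nat.card X = (MulAction.stabilizer Q₀ a₀).index := by
      rw [MulAction.index_stabilizer]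
      have : MulAction.orbit Q₀ a₀ = Set.univ := by
        ext b
        simp only [Set.mem_univ, iff_true]
        obtain ⟨q, hq, rfl⟩ := htrans a₀ b
        exact ⟨⟨q, hq⟩, rfl⟩
      rw [this, Set.ncard_univ]
    rw [h3, ← h2, index_ker, h1]
    rfl
  -- the normal subgroup `W`
  let W₀ : Subgroup N₀ := K.subgroupOf N₀
  haveI hW₀ : W₀.Normal := Subgroup.normal_subgroupOf
  have hWfix : ∀ (a : X) (w : N₀), (w : H) ∈ K → w • a = a := by
    intro a w hw
    have hd1 : Nat.card (MulAction.orbit W₀ a) ∣ Nat.card X :=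
      orbit_card_dvd W₀ (fun b c => by
        obtain ⟨q, -, hq⟩ := htrans b c
        exact ⟨q, hq⟩) a
    have hd2 : ¬ p ∣ Nat.card (MulAction.orbit W₀ a) := by
      rw [Nat.card_coe_set_eq, ← MulAction.index_stabilizer W₀ a]
      let g : W₀ →* H := N₀.subtype.comp W₀.subtype
      have hgr : g.range = N₀ ⊓ K := by
        ext y
        simp only [MonoidHom.mem_range, mem_inf]
        constructor
        · rintro ⟨x, rfl⟩
          exact ⟨x.1.2, x.2⟩
        · rintro ⟨h1, h2⟩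
          exact ⟨⟨⟨y, h1⟩, h2⟩, rfl⟩
      have hle : (Q ⊓ K).comap g ≤ MulAction.stabilizer W₀ a := by
        intro x hx
        rw [MulAction.mem_stabilizer_iff]
        exact hK1 a (x : N₀) hx
      intro hd
      apply hidx
      have h1 : ((Q ⊓ K).comap g).index = (Q ⊓ K).relIndex (N₀ ⊓ K) := by
        rw [index_comap, hgr]
      have h2 : (Q ⊓ K).relIndex (N₀ ⊓ K) * (N₀ ⊓ K).relIndex K = (Q ⊓ K).relIndex K :=
        relIndex_mul_relIndex _ _ _ (inf_le_inf_right K hQN) inf_le_right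
      rw [← inf_relIndex_right, ← h2, ← h1]
      exact (hd.trans (index_dvd_of_le hle)).trans (dvd_mul_right _ _)
    obtain ⟨k, hk⟩ := ha
    rw [hcardX, hk] at hd1
    obtain ⟨j, -, hj⟩ := (Nat.dvd_prime_pow hp.out).mp hd1
    have hj0 : j = 0 := by
      by_contra hne
      apply hd2
      rw [hj]
      exact dvd_pow_self p hne
    rw [hj0, pow_zero] at hj
    have hsub : Subsingleton (MulAction.orbit W₀ a) := (Nat.card_eq_one_iff_unique.mp hj).1
    have h1 : (⟨w, hw⟩ : W₀) • a ∈ MulAction.orbit W₀ a := MulAction.mem_orbit _ _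
    have h2 : a ∈ MulAction.orbit W₀ a := MulAction.mem_orbit_self a
    have := congrArg Subtype.val (Subsingleton.elim (⟨_, h1⟩ : MulAction.orbit W₀ a) ⟨_, h2⟩)
    exact this
  refine ⟨(MulAction.stabilizer N₀ a₀).map (π.comp N₀.subtype), ?_⟩
  apply isComplement'_of_disjoint_and_mul_eq_univ
  · rw [Subgroup.disjoint_def]
    rintro y ⟨s, hs, rfl⟩ ⟨q, hq, hqs⟩
    have hqN : q ∈ N₀ := hQN hq
    have hsk : (q⁻¹ * (s : H)) ∈ K := by
      rw [hπ1, map_mul, map_inv]
      have : π q = π (s : H) := hqs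
      rw [this, inv_mul_cancel]
    have hfix : (⟨q⁻¹ * (s : H), N₀.mul_mem (N₀.inv_mem hqN) s.2⟩ : N₀) • a₀ = a₀ :=
      hWfix a₀ _ hsk
    have hs' : s • a₀ = a₀ := hs
    have hq' : (⟨q, hqN⟩ : N₀) • a₀ = a₀ := by
      have h1 : (⟨q, hqN⟩ : N₀) * (⟨q⁻¹ * (s : H), N₀.mul_mem (N₀.inv_mem hqN) s.2⟩ : N₀) = s := by
        apply Subtype.ext
        simp
      have h2 : (⟨q, hqN⟩ : N₀) • ((⟨q⁻¹ * (s : H), N₀.mul_mem (N₀.inv_mem hqN) s.2⟩ : N₀) • a₀) = a₀ := by
        rw [← mul_smul, h1, hs']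
      rw [hfix] at h2
      exact h2
    have hqK : q ∈ K := hreg a₀ ⟨q, hqN⟩ hq hq'
    have h1 : π q = 1 := (hπ1 q).mp hqK
    change π (s : H) = 1
    have h2 : π (s : H) = π q := hqs.symm
    rw [h2]
    exact h1
  · ext y
    simp only [Set.mem_univ, iff_true]
    obtain ⟨h, rfl⟩ := QuotientGroup.mk'_surjective K y
    obtain ⟨n, hn, k, hk, rfl⟩ := hFr h
    obtain ⟨q', hq', hq'a⟩ := htrans a₀ ((⟨n, hn⟩ : N₀)⁻¹ • a₀)
    let s : N₀ := ⟨n, hn⟩ * q'
    have hs : s ∈ MulAction.stabilizer N₀ a₀ := by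
      rw [MulAction.mem_stabilizer_iff, mul_smul, hq'a, smul_inv_smul]
    refine Set.mem_mul.mpr ⟨π (s : H), ⟨s, hs, rfl⟩, π (q' : H)⁻¹, ⟨(q' : H)⁻¹, Q.inv_mem hq', rfl⟩, ?_⟩
    have hk1 : π k = 1 := (hπ1 k).mp hk
    change π (n * q') * (π (q' : H))⁻¹ = (QuotientGroup.mk' K) (n * k)
    change _ = π (n * k)
    rw [map_mul, map_mul, hk1, mul_one, mul_assoc, mul_inv_cancel, mul_one]

end Cfsg.Agent.Lib.FullyRamGroup
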