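import Mathlib
import Cfsg.Agent.S0900
import Cfsg.Agent.S0886
import Cfsg.Agent.Lib.CosetAvg
import Cfsg.Agent.Lib.CharClifford
import Cfsg.Agent.Lib.FullyRamGroup

/-!
# Characters fully ramified over a normal subgroup
-/

set_option autoImplicit false
set_option linter.style.haveILetI false
set_option linter.unusedSectionVars false
set_option linter.unusedVariables false

namespace Cfsg.Agent.Lib.FullyRam

open Subgroup Cfsg Cfsg.Agent.Lib.CharBasic Cfsg.Agent.Lib.CharInd Cfsg.Agent.Lib.CharInduction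
open Cfsg.Agent.Lib.Clifford Cfsg.Agent.Lib.CosetAvg
open scoped ComplexConjugate

universe u

/-- The sum of the squares of the multiplicities over an invariant character. -/
theorem sum_sq_mult {G : Type u} [Group G] [Fintype G] (N : Subgroup G) [hN : N.Normal] [Fintype N]
    {θ : N → ℂ} (hθ : IsIrrCharacter N θ)
    (hinv : ∀ (g : G) (n : N), θ ⟨g * n * g⁻¹, hN.conj_mem (n : G) n.2 g⟩ = θ n) :
    ∃ b : IrrCharacter G → ℕ, (∀ ξ : IrrCharacter G, classInner (fun n : N => (ξ : G → ℂ) n) θ = b ξ) ∧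
      ∑ ξ, b ξ ^ 2 = N.index := by
  classical
  have hΦ := indFun_isCharacter N (IsIrrCharacter.isCharacter hθ)
  obtain ⟨m, hm⟩ := exists_nat_decomp hΦ
  refine ⟨m, fun ξ => ?_, ?_⟩
  · rw [← classInner_indFun_eq N hθ (IsIrrCharacter.isCharacter ξ.2), hm,
      classInner_nat_decomp m _ ξ.2]
  · have h1 : classInner (indFun N θ) (indFun N θ) = (N.index : ℂ) := by
      rw [frobenius N θ (indFun_isClassFunction N θ)]
      have h2 : (fun n : N => indFun N θ n) = (N.index : ℂ) • θ := by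
        funext n
        simp only [Pi.smul_apply, smul_eq_mul]
        exact indFun_of_invariant N hN hinv n
      rw [h2, classInner_smul_right, classInner_irr_self hθ]
      simp
    have h3 := classInner_nat_decomp_self m
    rw [← hm, h1] at h3
    exact_mod_cast h3.symm

/-- The character `χ` of `G` is fully ramified over `θ` in the normal subgroup `N`. -/
structure FR {G : Type u} [Group G] (N : Subgroup G) (χ : G → ℂ) (θ : N → ℂ) (e : ℕ) : Prop where
  hχ : IsIrrCharacter G χ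
  hθ : IsIrrCharacter N θ
  hres : (fun n : N => χ n) = (e : ℂ) • θ
  he : e ^ 2 = N.index

namespace FR

variable {G : Type u} [Group G] [Fintype G] {N : Subgroup G} [hN : N.Normal] [Fintype N]
  {χ : G → ℂ} {θ : N → ℂ} {e : ℕ}

theorem vanish (h : FR N χ θ e) : ∀ g : G, g ∉ N → χ g = 0 :=
  Cfsg.Agent.S0900.vanish_of_a N h.hχ h.hθ e h.hres h.he

theorem inv (h : FR N χ θ e) :
    ∀ (g : G) (n : N), θ ⟨g * n * g⁻¹, hN.conj_mem (n : G) n.2 g⟩ = θ n :=
  Cfsg.Agent.S0900.invariant_of_a N h.hχ e h.hres h.he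

theorem unique (h : FR N χ θ e) {ξ : G → ℂ} (hξ : IsIrrCharacter G ξ)
    (h0 : classInner (fun n : N => ξ n) θ ≠ 0) : ξ = χ := by
  apply Cfsg.Agent.S0900.c_of_a N h.hχ h.hθ e h.hres h.he hξ
  rw [classInner_indFun_eq N h.hθ (IsIrrCharacter.isCharacter hξ)]
  exact h0

end FR

section Coprime

variable {H : Type u} [Group H] [Fintype H] {Z : Subgroup H} [hZ : Z.Normal] [Fintype Z]
  {χ : H → ℂ} {θ : Z → ℂ} {e : ℕ}

/-- A subgroup `Q` of coprime index inherits full ramification. -/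
theorem exists_FR_of_coprime (h : FR Z χ θ e) (Q : Subgroup H) (hZQ : Z ≤ Q)
    (hcop : Nat.Coprime (Z.subgroupOf Q).index Q.index) :
    ∃ (β : Q → ℂ) (b : ℕ), FR (Z.subgroupOf Q) β (θ ∘ (Subgroup.subgroupOfEquivOfLe hZQ)) b := by
  classical
  haveI : Fintype Q := Fintype.ofFinite _
  let Z' : Subgroup Q := Z.subgroupOf Q
  haveI hZ'n : Z'.Normal := Subgroup.normal_subgroupOf
  haveI : Fintype Z' := Fintype.ofFinite _
  let ε : Z' ≃* Z := Subgroup.subgroupOfEquivOfLe hZQ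
  have hε : ∀ n : Z', ((ε n : Z) : H) = ((n : Q) : H) := fun n => rfl
  have hθ' : IsIrrCharacter Z' (θ ∘ ε) :=
    isIrrCharacter_comp_of_surjective ε.toMonoidHom ε.surjective h.hθ
  have hinv' : ∀ (g : Q) (n : Z'), (θ ∘ ε) ⟨g * n * g⁻¹, hZ'n.conj_mem _ n.2 g⟩ = (θ ∘ ε) n := by
    intro g n
    have h1 := h.inv g (ε n)
    rw [Function.comp_apply, Function.comp_apply, ← h1]
    rfl
  obtain ⟨b, hb, hsum⟩ := sum_sq_mult Z' hθ' hinv'
  set q := Z'.index with hq
  set r := Q.index with hr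
  have hqpos : 0 < q := Nat.pos_of_ne_zero Subgroup.index_ne_zero_of_finite
  have hqr : q * r = e ^ 2 := by
    rw [h.he]
    exact relIndex_mul_index hZQ
  -- the multiplicity formula
  have hcQ : IsCharacter Q (fun x : Q => χ x) :=
    isCharacter_restrict Q (IsIrrCharacter.isCharacter h.hχ)
  have key : ∀ ξ : IrrCharacter Q, q ∣ b ξ ^ 2 := by
    intro ξ
    obtain ⟨m, hm⟩ := classInner_char_irr hcQ ξ.2
    have hform : (q : ℂ) * m = (e : ℂ) * b ξ := by
      have hF : ∀ x : Q, x ∉ Z' → (fun x : Q => χ x) x * conj ((ξ : Q → ℂ) x) = 0 := by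
        intro x hx
        have : (x : H) ∉ Z := hx
        simp [h.vanish _ this]
      have hcardZ' : (Nat.card Z' : ℂ) ≠ 0 := natCard_subgroup_ne_zero Z'
      have hcardQ : (Nat.card Q : ℂ) = q * Nat.card Z' := by
        rw [hq]
        exact_mod_cast (Subgroup.index_mul_card Z').symm
      have hval : ∀ n : Z', χ ((n : Q) : H) = (e : ℂ) * (θ ∘ ε) n := by
        intro n
        have h1 := congrFun h.hres (ε n)
        simp only [Pi.smul_apply, smul_eq_mul] at h1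
        exact h1
      have h2 : classInner (θ ∘ ε) (fun n : Z' => (ξ : Q → ℂ) n) = (b ξ : ℂ) := by
        rw [← classInner_conj_symm, hb ξ]
        simp
      have h3 : classInner (fun x : Q => χ x) (ξ : Q → ℂ) * (Nat.card Q : ℂ) =
          (e : ℂ) * (Nat.card Z' : ℂ) * (b ξ : ℂ) := by
        rw [← h2]
        unfold classInner
        rw [Cfsg.Agent.Lib.CharInduction.sum_of_vanish_off Z' _ hF]
        have hQne : (Nat.card Q : ℂ) ≠ 0 := natCard_subgroup_ne_zero Q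
        rw [mul_comm ((Nat.card Q : ℂ)⁻¹), mul_assoc, inv_mul_cancel₀ hQne, mul_one]
        simp only [hval]
        rw [mul_assoc, mul_inv_cancel_left₀ hcardZ', Finset.mul_sum]
        refine Finset.sum_congr rfl fun n _ => ?_
        simp only [Function.comp_apply]
        ring
      rw [hm, hcardQ] at h3
      apply mul_right_cancel₀ hcardZ'
      linear_combination h3
    have hform' : q * m = e * b ξ := by exact_mod_cast hform
    have h4 : q * m ^ 2 = r * b ξ ^ 2 := by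
      apply Nat.eq_of_mul_eq_mul_left hqpos
      calc q * (q * m ^ 2) = (q * m) ^ 2 := by ring
        _ = (e * b ξ) ^ 2 := by rw [hform']
        _ = e ^ 2 * b ξ ^ 2 := by ring
        _ = q * (r * b ξ ^ 2) := by rw [← hqr]; ring
    exact (Nat.Coprime.dvd_of_dvd_mul_left hcop ⟨m ^ 2, h4.symm⟩)
  obtain ⟨ξ₀, hξ₀⟩ : ∃ ξ : IrrCharacter Q, b ξ ≠ 0 := by
    by_contra hall
    push Not at hall
    rw [Finset.sum_eq_zero (fun ξ _ => by rw [hall ξ]; simp)] at hsum
    omega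
  have hle : b ξ₀ ^ 2 ≤ q := by
    rw [← hsum]
    exact Finset.single_le_sum (f := fun ξ => b ξ ^ 2) (fun _ _ => Nat.zero_le _) (Finset.mem_univ _)
  have heq : b ξ₀ ^ 2 = q :=
    le_antisymm hle (Nat.le_of_dvd (Nat.pos_of_ne_zero (pow_ne_zero _ hξ₀)) (key ξ₀))
  have hover : classInner (fun n : Z' => (ξ₀ : Q → ℂ) n) (θ ∘ ε) ≠ 0 := by
    rw [hb]
    exact_mod_cast hξ₀
  obtain ⟨e', -, h5, h6⟩ := restrict_eq_smul_of_invariant Z' hθ' hinv' ξ₀.2 hover
  have h7 : e' = b ξ₀ := by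
    rw [hb] at h6
    exact_mod_cast h6.symm
  refine ⟨ξ₀, b ξ₀, ξ₀.2, hθ', ?_, heq⟩
  rw [← h7]
  exact h5

end Coprime

section Constituents

variable {M N : Type u} [Group M] [Group N] [Fintype M] [Fintype N]

/-- A character lying over `θ` along `j` has an irreducible constituent lying over `θ`. -/
theorem exists_constituent_over (j : N →* M) {ψ : M → ℂ} (hψ : IsCharacter M ψ) {θ : N → ℂ}
    (h : classInner (ψ ∘ j) θ ≠ 0) :
    ∃ γ : M → ℂ, IsIrrCharacter M γ ∧ classInner ψ γ ≠ 0 ∧ classInner (γ ∘ j) θ ≠ 0 := by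
  classical
  obtain ⟨m, rfl⟩ := exists_nat_decomp hψ
  have h1 : ((∑ i, m i • (i : M → ℂ)) ∘ j) = ∑ i, (m i : ℂ) • ((i : M → ℂ) ∘ j) := by
    funext n
    simp [Finset.sum_apply]
  rw [h1, classInner_sum_left] at h
  obtain ⟨i, -, hi⟩ := Finset.exists_ne_zero_of_sum_ne_zero h
  rw [classInner_smul_left] at hi
  have hi1 := left_ne_zero_of_mul hi
  have hi2 := right_ne_zero_of_mul hi
  refine ⟨i, i.2, ?_, hi2⟩
  rw [classInner_nat_decomp m _ i.2]
  exact hi1

/-- Lying over is transitive. -/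
theorem over_trans (j : N →* M) {ψ γ : M → ℂ} (hψ : IsCharacter M ψ) (hγ : IsIrrCharacter M γ)
    {θ : N → ℂ} (hθ : IsIrrCharacter N θ)
    (h1 : classInner ψ γ ≠ 0) (h2 : classInner (γ ∘ j) θ ≠ 0) : classInner (ψ ∘ j) θ ≠ 0 := by
  classical
  obtain ⟨m, rfl⟩ := exists_nat_decomp hψ
  have h3 : ((∑ i, m i • (i : M → ℂ)) ∘ j) = ∑ i, (m i : ℂ) • ((i : M → ℂ) ∘ j) := by
    funext n
    simp [Finset.sum_apply]
  have hr : ∀ i : IrrCharacter M, ∃ r : ℕ, classInner ((i : M → ℂ) ∘ j) θ = r := fun i =>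
    classInner_char_irr (isCharacter_comp j (IsIrrCharacter.isCharacter i.2)) hθ
  choose r hr using hr
  rw [classInner_nat_decomp m _ hγ] at h1
  rw [h3, classInner_sum_left]
  have h4 : ∑ i, classInner ((m i : ℂ) • ((i : M → ℂ) ∘ j)) θ = ((∑ i, m i * r i : ℕ) : ℂ) := by
    push_cast
    refine Finset.sum_congr rfl fun i _ => ?_
    rw [classInner_smul_left, hr]
  rw [h4]
  have h5 : m ⟨γ, hγ⟩ * r ⟨γ, hγ⟩ ≠ 0 := by
    apply mul_ne_zero
    · exact_mod_cast h1
    · intro h0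
      apply h2
      have := hr ⟨γ, hγ⟩
      rw [h0] at this
      simpa using this
  have h6 : m ⟨γ, hγ⟩ * r ⟨γ, hγ⟩ ≤ ∑ i, m i * r i :=
    Finset.single_le_sum (f := fun i => m i * r i) (fun _ _ => Nat.zero_le _) (Finset.mem_univ _)
  have h7 : ∑ i, m i * r i ≠ 0 := by omega
  exact_mod_cast h7

end Constituents

section InG

variable {G : Type u} [Group G] [Fintype G] {N : Subgroup G} [hN : N.Normal] [Fintype N]
  {β : G → ℂ} {θ : N → ℂ} {f : ℕ}

/-- Every irreducible character of `M ≥ N` lying over `θ` lies under `β`. -/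
theorem FR.under (h : FR N β θ f) (M : Subgroup G) [hM : M.Normal] [Fintype M] (hNM : N ≤ M)
    {γ : M → ℂ} (hγ : IsIrrCharacter M γ)
    (hover : classInner (γ ∘ Subgroup.inclusion hNM) θ ≠ 0) : classInner (fun x : M => β x) γ ≠ 0 := by
  classical
  have hΦ := indFun_isCharacter M (IsIrrCharacter.isCharacter hγ)
  obtain ⟨m, hm⟩ := exists_nat_decomp hΦ
  obtain ⟨ξ, hξ⟩ : ∃ ξ : IrrCharacter G, m ξ ≠ 0 := by
    by_contra hall
    push Not at hall
    have h1 : indFun M γ 1 ≠ 0 := by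
      rw [indFun_one]
      apply mul_ne_zero
      · exact_mod_cast (Subgroup.index_ne_zero_of_finite)
      · exact irr_degree_ne_zero hγ
    apply h1
    rw [hm]
    simp [hall]
  have hξc := IsIrrCharacter.isCharacter ξ.2
  have h2 : classInner (fun x : M => (ξ : G → ℂ) x) γ ≠ 0 := by
    rw [← classInner_indFun_eq M hγ hξc, hm, classInner_nat_decomp m _ ξ.2]
    exact_mod_cast hξ
  have h3 := over_trans (Subgroup.inclusion hNM) (isCharacter_restrict M hξc) hγ h.hθ h2 hover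
  have h4 : (ξ : G → ℂ) = β := h.unique ξ.2 h3
  rw [← h4]
  exact h2

/-- Irreducible characters of `M` over `θ` are conjugate. -/
theorem FR.conj_of_over (h : FR N β θ f) (M : Subgroup G) [hM : M.Normal] [Fintype M] (hNM : N ≤ M)
    {γ γ' : M → ℂ} (hγ : IsIrrCharacter M γ) (hγ' : IsIrrCharacter M γ')
    (hover : classInner (γ ∘ Subgroup.inclusion hNM) θ ≠ 0)
    (hover' : classInner (γ' ∘ Subgroup.inclusion hNM) θ ≠ 0) : ∃ g : G, γ' = conjBy M hM g γ :=
  Cfsg.Agent.Lib.CharClifford.exists_conj_of_constituents M hM h.hχ hγ hγ'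
    (h.under M hNM hγ hover) (h.under M hNM hγ' hover')

/-- The unique irreducible character over `γ`, the quotient being cyclic: `γ` has trivial
stabilizer modulo `M`. -/
theorem mem_of_stab {M : Subgroup G} [hM : M.Normal] [Fintype M] {γ : M → ℂ} (hγ : IsIrrCharacter M γ)
    (huniq : ∀ ξ : G → ℂ, IsIrrCharacter G ξ → classInner (fun x : M => ξ x) γ ≠ 0 → ξ = β)
    (hβ : IsIrrCharacter G β)
    (hcyc : IsCyclic (G ⧸ M)) {g : G} (hg : ∀ n : M, γ ⟨g * n * g⁻¹, hM.conj_mem _ n.2 g⟩ = γ n) :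
    g ∈ M := by
  classical
  let T : Subgroup G :=
    { carrier := {x | ∀ n : M, γ ⟨x * n * x⁻¹, hM.conj_mem _ n.2 x⟩ = γ n}
      one_mem' := by
        intro n
        congr 1
        ext
        simp
      mul_mem' := by
        intro a b ha hb n
        have h1 := ha ⟨b * n * b⁻¹, hM.conj_mem _ n.2 b⟩
        have h2 := hb n
        rw [← h2, ← h1]
        congr 1
        ext
        simp [mul_assoc]
      inv_mem' := by
        intro a ha n
        have h1 := ha ⟨a⁻¹ * n * a⁻¹⁻¹, hM.conj_mem _ n.2 a⁻¹⟩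
        rw [← h1]
        congr 1
        ext
        simp [mul_assoc] }
  have hT : ∀ x : G, x ∈ T ↔ ∀ n : M, γ ⟨x * n * x⁻¹, hM.conj_mem _ n.2 x⟩ = γ n := fun x => Iff.rfl
  have hMT : M ≤ T := by
    intro x hx n
    have := char_apply_conj (IsIrrCharacter.isCharacter hγ) n ⟨x, hx⟩
    exact this
  haveI : Fintype T := Fintype.ofFinite _
  let M' : Subgroup T := M.subgroupOf T
  haveI hM'n : M'.Normal := Subgroup.normal_subgroupOf
  haveI : Fintype M' := Fintype.ofFinite _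
  let ε : M' ≃* M := Subgroup.subgroupOfEquivOfLe hMT
  have hε : ∀ n : M', ((ε n : M) : G) = ((n : T) : G) := fun n => rfl
  have hγ' : IsIrrCharacter M' (γ ∘ ε) :=
    isIrrCharacter_comp_of_surjective ε.toMonoidHom ε.surjective hγ
  have hinv' : ∀ (x : T) (n : M'), (γ ∘ ε) ⟨x * n * x⁻¹, hM'n.conj_mem _ n.2 x⟩ = (γ ∘ ε) n := by
    intro x n
    have h1 := x.2 (ε n)
    rw [Function.comp_apply, Function.comp_apply, ← h1]
    rfl
  have hcyc' : IsCyclic (T ⧸ M') := by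
    have hle : M' ≤ M.comap T.subtype := fun x hx => hx
    apply isCyclic_of_injective (QuotientGroup.map M' M T.subtype hle)
    rw [injective_iff_map_eq_one]
    intro y hy
    obtain ⟨x, rfl⟩ := QuotientGroup.mk_surjective y
    have h1 : ((x : G) : G ⧸ M) = 1 := hy
    rw [QuotientGroup.eq_one_iff] at h1 ⊢
    exact h1
  obtain ⟨τ, hτ, hτres⟩ := Cfsg.Agent.S0886.result M' hcyc' (γ ∘ ε) hγ' hinv'
  have hτM : (fun n : M => τ ⟨(n : G), hMT n.2⟩) = γ := by
    funext n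
    exact hτres ⟨⟨(n : G), hMT n.2⟩, n.2⟩
  have hτ1 : classInner (fun n : M => τ ⟨(n : G), hMT n.2⟩) γ = 1 := by
    rw [hτM]; exact classInner_irr_self hγ
  obtain ⟨hind, hmul⟩ := indFun_irr_of_over M T hγ hT hMT hτ (by rw [hτ1]; exact one_ne_zero)
  have hmul' : classInner (fun n : M => indFun T τ n) γ ≠ 0 := by
    rw [hmul, hτ1]; exact one_ne_zero
  have hβτ : indFun T τ = β := huniq _ hind hmul'
  have hβ1 : classInner (fun n : M => β n) γ = 1 := by
    rw [← hβτ, hmul, hτ1]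
  -- the restriction of `β` to `T`
  have hβT := isCharacter_restrict T (IsIrrCharacter.isCharacter hβ)
  obtain ⟨k, hk⟩ := exists_nat_decomp hβT
  have hr : ∀ i : IrrCharacter T, ∃ r : ℕ,
      classInner (fun n : M => (i : T → ℂ) ⟨(n : G), hMT n.2⟩) γ = r := fun i =>
    classInner_char_irr (isCharacter_comp (Subgroup.inclusion hMT)
      (IsIrrCharacter.isCharacter i.2)) hγ
  choose r hr using hr
  have hsum : ∑ i, k i * r i = 1 := by
    have h1 : (fun n : M => β n) =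
        ∑ i, (k i : ℂ) • (fun n : M => (i : T → ℂ) ⟨(n : G), hMT n.2⟩) := by
      funext n
      have h2 := congrFun hk ⟨(n : G), hMT n.2⟩
      simp only at h2
      rw [h2]
      simp [Finset.sum_apply]
    rw [h1, classInner_sum_left] at hβ1
    have h3 : ∑ i, classInner ((k i : ℂ) • (fun n : M => (i : T → ℂ) ⟨(n : G), hMT n.2⟩)) γ =
        ((∑ i, k i * r i : ℕ) : ℂ) := by
      push_cast
      refine Finset.sum_congr rfl fun i _ => ?_
      rw [classInner_smul_left, hr]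
    rw [h3] at hβ1
    exact_mod_cast hβ1
  -- every constituent over `γ` occurs
  have hocc : ∀ (ψ : T → ℂ) (hψ : IsIrrCharacter T ψ),
      classInner (fun n : M => ψ ⟨(n : G), hMT n.2⟩) γ ≠ 0 →
      k ⟨ψ, hψ⟩ * r ⟨ψ, hψ⟩ ≠ 0 := by
    intro ψ hψ hover
    obtain ⟨hind', hmul2⟩ := indFun_irr_of_over M T hγ hT hMT hψ hover
    have h1 : indFun T ψ = β := huniq _ hind' (by rw [hmul2]; exact hover)
    have h2 : classInner (indFun T ψ) β = 1 := by
      rw [h1]; exact classInner_irr_self hβ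
    rw [frobenius T ψ (isClassFunction_of_isCharacter (IsIrrCharacter.isCharacter hβ))] at h2
    have h3 : classInner (fun x : T => β x) ψ = 1 := by
      rw [← classInner_conj_symm, h2, map_one]
    rw [hk, classInner_nat_decomp k ψ hψ] at h3
    apply mul_ne_zero
    · intro h0
      rw [h0] at h3
      simp at h3
    · intro h0
      apply hover
      rw [hr ⟨ψ, hψ⟩, h0]
      simp
  -- uniqueness over `γ`
  have hall : ∀ ψ : T → ℂ, IsIrrCharacter T ψ → classInner (indFun M' (γ ∘ ε)) ψ ≠ 0 → ψ = τ := by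
    intro ψ hψ hne
    rw [classInner_indFun_eq M' hγ' (IsIrrCharacter.isCharacter hψ)] at hne
    have hover : classInner (fun n : M => ψ ⟨(n : G), hMT n.2⟩) γ ≠ 0 := by
      have h1 : (fun n : M' => ψ n) = (fun n : M => ψ ⟨(n : G), hMT n.2⟩) ∘ ε := rfl
      rw [h1, classInner_comp_mulEquiv] at hne
      exact hne
    by_contra hne2
    have h1 := hocc ψ hψ hover
    have h2 := hocc τ hτ (by rw [hτ1]; exact one_ne_zero)
    have hne3 : (⟨ψ, hψ⟩ : IrrCharacter T) ≠ ⟨τ, hτ⟩ := fun he => hne2 (congrArg Subtype.val he)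
    have h3 := Finset.sum_le_sum_of_subset_of_nonneg (f := fun i => k i * r i)
      (Finset.subset_univ ({⟨ψ, hψ⟩, ⟨τ, hτ⟩} : Finset (IrrCharacter T)))
      (fun _ _ _ => Nat.zero_le _)
    rw [Finset.sum_pair hne3, hsum] at h3
    omega
  have hcon : classInner (fun n : M' => τ n) (γ ∘ ε) ≠ 0 := by
    have h1 : (fun n : M' => τ n) = γ ∘ ε := funext hτres
    rw [h1, classInner_irr_self hγ']
    exact one_ne_zero
  obtain ⟨e, he1, he2⟩ := Cfsg.Agent.S0900.a_of_c M' hτ hγ' hcon hinv' hall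
  have he3 : e = 1 := by
    have h1 : (fun n : M' => τ n) = γ ∘ ε := funext hτres
    rw [h1] at he1
    have h2 := congrFun he1 1
    simp only [Pi.smul_apply, smul_eq_mul] at h2
    have h3 : (γ ∘ ε) 1 ≠ 0 := irr_degree_ne_zero hγ'
    have h4 : (e : ℂ) = 1 := by
      apply mul_right_cancel₀ h3
      rw [one_mul]
      exact h2.symm
    exact_mod_cast h4
  have hidx : M'.index = 1 := by
    rw [← he2, he3, one_pow]
  have hgT : g ∈ T := hg
  have h1 : (⟨g, hgT⟩ : T) ∈ M' := by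
    rw [Subgroup.index_eq_one] at hidx
    rw [hidx]
    trivial
  exact h1

end InG

section Main

variable {H : Type u} [Group H] [Fintype H] {Z : Subgroup H} [hZ : Z.Normal] [Fintype Z]
  {χ : H → ℂ} {θ : Z → ℂ} {e : ℕ}

/-- The irreducible characters of `K₁ ≥ Z` over `θ`. -/
abbrev XX (θ : Z → ℂ) (K₁ : Subgroup H) [Fintype K₁] (hZK₁ : Z ≤ K₁) : Type _ :=
  {γ : K₁ → ℂ // IsIrrCharacter K₁ γ ∧ classInner (γ ∘ Subgroup.inclusion hZK₁) θ ≠ 0}

variable {K₁ : Subgroup H} [Fintype K₁] {hZK₁ : Z ≤ K₁}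

instance XX.finite : Finite (XX θ K₁ hZK₁) := by
  apply Finite.of_injective (fun a : XX θ K₁ hZK₁ => (⟨a.1, a.2.1⟩ : IrrCharacter K₁))
  intro a b hab
  apply Subtype.ext
  simpa using hab

/-- Conjugation of `K₁` by the inverse of an element of the normalizer. -/
def cc (n : normalizer (K₁ : Set H)) : K₁ ≃* K₁ := K₁.normalizerMonoidHom n⁻¹

theorem cc_coe (n : normalizer (K₁ : Set H)) (k : K₁) :
    ((cc n k : K₁) : H) = (n : H)⁻¹ * k * n := by
  change ((n⁻¹ : normalizer (K₁ : Set H)) : H) * k * ((n⁻¹ : normalizer (K₁ : Set H)) : H)⁻¹ = _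
  simp

/-- The action on characters. -/
def XX.smul (h : FR Z χ θ e) (n : normalizer (K₁ : Set H)) (a : XX θ K₁ hZK₁) : XX θ K₁ hZK₁ :=
  ⟨a.1 ∘ cc n, isIrrCharacter_comp_of_surjective (cc n).toMonoidHom (cc n).surjective a.2.1, by
    let τ : Z ≃* Z := conjAut Z hZ (n : H)⁻¹
    have h1 : (a.1 ∘ cc n) ∘ Subgroup.inclusion hZK₁ = (a.1 ∘ Subgroup.inclusion hZK₁) ∘ τ := by
      funext z
      simp only [Function.comp_apply]
      congr 1
    have h2 : θ ∘ τ = θ := by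
      funext z
      exact h.inv (n : H)⁻¹ z
    have h3 := classInner_comp_mulEquiv τ (a.1 ∘ Subgroup.inclusion hZK₁) θ
    rw [h2] at h3
    rw [h1, h3]
    exact a.2.2⟩

theorem XX.smul_apply (h : FR Z χ θ e) (n : normalizer (K₁ : Set H)) (a : XX θ K₁ hZK₁) (k : K₁) :
    (XX.smul h n a).1 k = a.1 (cc n k) := rfl

/-- The action on characters. -/
def XX.action (h : FR Z χ θ e) : MulAction (normalizer (K₁ : Set H)) (XX θ K₁ hZK₁) where
  smul := XX.smul h
  one_smul a := by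
    apply Subtype.ext
    funext k
    show a.1 (cc 1 k) = a.1 k
    have h1 : cc 1 k = k := by
      ext
      rw [cc_coe]
      simp
    rw [h1]
  mul_smul x y a := by
    apply Subtype.ext
    funext k
    show a.1 (cc (x * y) k) = a.1 (cc y (cc x k))
    have h1 : cc (x * y) k = cc y (cc x k) := by
      ext
      rw [cc_coe, cc_coe, cc_coe]
      simp [mul_assoc]
    rw [h1]

/-- Elements of `Q` normalize `Q ⊓ K`. -/
theorem le_normalizer_inf (Q K : Subgroup H) [hK : K.Normal] :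
    Q ≤ normalizer ((Q ⊓ K : Subgroup H) : Set H) := by
  intro q hq
  rw [mem_normalizer_iff]
  intro x
  constructor
  · rintro ⟨h1, h2⟩
    exact ⟨Q.mul_mem (Q.mul_mem hq h1) (Q.inv_mem hq), hK.conj_mem x h2 q⟩
  · rintro ⟨h1, h2⟩
    constructor
    · have := Q.mul_mem (Q.mul_mem (Q.inv_mem hq) h1) hq
      simpa [mul_assoc] using this
    · have := hK.conj_mem _ h2 q⁻¹
      simpa [mul_assoc] using this

theorem normal_inf_subgroupOf (Q K : Subgroup H) [hK : K.Normal] : ((Q ⊓ K).subgroupOf Q).Normal := by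
  constructor
  intro n hn g
  rw [Subgroup.mem_subgroupOf] at hn ⊢
  exact ⟨(Q.mul_mem (Q.mul_mem g.2 n.2) (Q.inv_mem g.2)), hK.conj_mem _ hn.2 g⟩

variable {K : Subgroup H} [hK : K.Normal]

/-- The restriction to the level of `Q`. -/
theorem XX.over_Q (Q : Subgroup H) (hZQ : Z ≤ Q) (hZK₁ : Z ≤ Q ⊓ K)
    [Fintype (Q ⊓ K : Subgroup H)] [Fintype ((Q ⊓ K).subgroupOf Q)] [Fintype (Z.subgroupOf Q)]
    (hZ' : Z.subgroupOf Q ≤ (Q ⊓ K).subgroupOf Q) (a : (Q ⊓ K : Subgroup H) → ℂ)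
    (ha : classInner (a ∘ Subgroup.inclusion hZK₁) θ ≠ 0) :
    classInner ((a ∘ (Subgroup.subgroupOfEquivOfLe (inf_le_left : Q ⊓ K ≤ Q))) ∘ Subgroup.inclusion hZ')
      (θ ∘ (Subgroup.subgroupOfEquivOfLe hZQ)) ≠ 0 := by
  have h1 : (a ∘ (Subgroup.subgroupOfEquivOfLe (inf_le_left : Q ⊓ K ≤ Q))) ∘ Subgroup.inclusion hZ' =
      (a ∘ Subgroup.inclusion hZK₁) ∘ (Subgroup.subgroupOfEquivOfLe hZQ) := rfl
  rw [h1, classInner_comp_mulEquiv]
  exact ha

/-- `Q` is transitive on the characters over `θ`. -/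
theorem XX.trans (h : FR Z χ θ e) (Q : Subgroup H) (hZQ : Z ≤ Q) (hZK₁ : Z ≤ Q ⊓ K)
    [Fintype (Q ⊓ K : Subgroup H)] {β : Q → ℂ} {f : ℕ}
    (hβ : FR (Z.subgroupOf Q) β (θ ∘ (Subgroup.subgroupOfEquivOfLe hZQ)) f)
    (a b : XX θ (Q ⊓ K) hZK₁) :
    ∃ q : normalizer ((Q ⊓ K : Subgroup H) : Set H), (q : H) ∈ Q ∧ XX.smul h q a = b := by
  classical
  haveI : Fintype Q := Fintype.ofFinite _
  haveI : Fintype ((Q ⊓ K).subgroupOf Q) := Fintype.ofFinite _
  haveI : Fintype (Z.subgroupOf Q) := Fintype.ofFinite _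
  haveI hMn : ((Q ⊓ K).subgroupOf Q).Normal := normal_inf_subgroupOf Q K
  have hZ' : Z.subgroupOf Q ≤ (Q ⊓ K).subgroupOf Q := fun x hx => hZK₁ hx
  let ε₁ := Subgroup.subgroupOfEquivOfLe (inf_le_left : Q ⊓ K ≤ Q)
  have ha' : IsIrrCharacter ((Q ⊓ K).subgroupOf Q) (a.1 ∘ ε₁) :=
    isIrrCharacter_comp_of_surjective ε₁.toMonoidHom ε₁.surjective a.2.1
  have hb' : IsIrrCharacter ((Q ⊓ K).subgroupOf Q) (b.1 ∘ ε₁) :=
    isIrrCharacter_comp_of_surjective ε₁.toMonoidHom ε₁.surjective b.2.1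
  obtain ⟨g, hg⟩ := hβ.conj_of_over ((Q ⊓ K).subgroupOf Q) hZ' ha' hb'
    (XX.over_Q Q hZQ hZK₁ hZ' a.1 a.2.2) (XX.over_Q Q hZQ hZK₁ hZ' b.1 b.2.2)
  refine ⟨⟨(g : H)⁻¹, le_normalizer_inf Q K (Q.inv_mem g.2)⟩, Q.inv_mem g.2, ?_⟩
  apply Subtype.ext
  funext k
  have h1 := congrFun hg ⟨⟨(k : H), k.2.1⟩, k.2⟩
  show a.1 (cc _ k) = b.1 k
  have h2 : b.1 k = (b.1 ∘ ε₁) ⟨⟨(k : H), k.2.1⟩, k.2⟩ := rfl
  rw [h2, h1, conjBy_apply]
  show a.1 _ = a.1 _
  apply congrArg
  ext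
  rw [cc_coe]
  simp
  rfl

/-- The regularity in the cyclic case. -/
theorem XX.reg_cyc (h : FR Z χ θ e) (Q : Subgroup H) (hZQ : Z ≤ Q) (hZK₁ : Z ≤ Q ⊓ K)
    [Fintype (Q ⊓ K : Subgroup H)] {β : Q → ℂ} {f : ℕ}
    (hβ : FR (Z.subgroupOf Q) β (θ ∘ (Subgroup.subgroupOfEquivOfLe hZQ)) f)
    (hcyc : ∀ (hn : ((Q ⊓ K).subgroupOf Q).Normal), IsCyclic (Q ⧸ (Q ⊓ K).subgroupOf Q))
    (a : XX θ (Q ⊓ K) hZK₁) (q : normalizer ((Q ⊓ K : Subgroup H) : Set H)) (hq : (q : H) ∈ Q)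
    (hfix : XX.smul h q a = a) : (q : H) ∈ K := by
  classical
  haveI : Fintype Q := Fintype.ofFinite _
  haveI : Fintype ((Q ⊓ K).subgroupOf Q) := Fintype.ofFinite _
  haveI : Fintype (Z.subgroupOf Q) := Fintype.ofFinite _
  haveI hMn : ((Q ⊓ K).subgroupOf Q).Normal := normal_inf_subgroupOf Q K
  have hZ' : Z.subgroupOf Q ≤ (Q ⊓ K).subgroupOf Q := fun x hx => hZK₁ hx
  let ε₁ := Subgroup.subgroupOfEquivOfLe (inf_le_left : Q ⊓ K ≤ Q)
  have ha' : IsIrrCharacter ((Q ⊓ K).subgroupOf Q) (a.1 ∘ ε₁) :=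
    isIrrCharacter_comp_of_surjective ε₁.toMonoidHom ε₁.surjective a.2.1
  have hover := XX.over_Q Q hZQ hZK₁ hZ' a.1 a.2.2
  have huniq : ∀ ξ : Q → ℂ, IsIrrCharacter Q ξ →
      classInner (fun x : (Q ⊓ K).subgroupOf Q => ξ x) (a.1 ∘ ε₁) ≠ 0 → ξ = β := by
    intro ξ hξ h0
    have h3 := over_trans (Subgroup.inclusion hZ')
      (isCharacter_restrict _ (IsIrrCharacter.isCharacter hξ)) ha' hβ.hθ h0 hover
    exact hβ.unique hξ h3
  have hmem : (⟨(q : H)⁻¹, Q.inv_mem hq⟩ : Q) ∈ (Q ⊓ K).subgroupOf Q := by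
    apply mem_of_stab ha' huniq hβ.hχ (hcyc hMn)
    intro n
    have h2 := congrFun (congrArg Subtype.val hfix) (ε₁ n)
    rw [XX.smul_apply] at h2
    show a.1 _ = a.1 _
    rw [← h2]
    apply congrArg
    ext
    rw [cc_coe]
    show (q : H)⁻¹ * (((n : Q) : H)) * ((q : H)⁻¹)⁻¹ = _
    rw [inv_inv]
    rfl
  have h3 : (q : H)⁻¹ ∈ K := (Subgroup.mem_subgroupOf.mp hmem).2
  simpa using K.inv_mem h3

/-- The main assembly. -/
theorem exists_complement (h : FR Z χ θ e) (hZK : Z ≤ K) (p : ℕ) [Fact p.Prime]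
    (P : Sylow p (H ⧸ K)) (Q : Subgroup H) (hZQ : Z ≤ Q)
    (hmap : Q.map (QuotientGroup.mk' K) = (P : Subgroup (H ⧸ K)))
    (hidx : ¬ p ∣ Q.relIndex K)
    (hFr : ∀ h : H, ∃ n ∈ normalizer ((Q ⊓ K : Subgroup H) : Set H), ∃ k ∈ K, h = n * k)
    [Fintype (Q ⊓ K : Subgroup H)] {β : Q → ℂ} {f : ℕ}
    (hβ : FR (Z.subgroupOf Q) β (θ ∘ (Subgroup.subgroupOfEquivOfLe hZQ)) f)
    (hreg : ∀ (hZK₁ : Z ≤ Q ⊓ K) (a : XX θ (Q ⊓ K) hZK₁)
      (q : normalizer ((Q ⊓ K : Subgroup H) : Set H)),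
      (q : H) ∈ Q → XX.smul h q a = a → (q : H) ∈ K) :
    ∃ M : Subgroup (H ⧸ K), M.IsComplement' (P : Subgroup (H ⧸ K)) := by
  classical
  have hZK₁ : Z ≤ Q ⊓ K := le_inf hZQ hZK
  letI := XX.action (K₁ := Q ⊓ K) (hZK₁ := hZK₁) h
  -- a point
  obtain ⟨a₀⟩ : Nonempty (XX θ (Q ⊓ K) hZK₁) := by
    have hc := isCharacter_restrict (Q ⊓ K) (IsIrrCharacter.isCharacter h.hχ)
    have he0 : (e : ℂ) ≠ 0 := by
      intro h0
      have h1 : e = 0 := by exact_mod_cast h0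
      have h2 := h.he
      rw [h1] at h2
      exact Subgroup.index_ne_zero_of_finite (H := Z) (by simpa using h2.symm)
    have hne : classInner ((fun x : (Q ⊓ K : Subgroup H) => χ x) ∘ Subgroup.inclusion hZK₁) θ ≠ 0 := by
      have h1 : ((fun x : (Q ⊓ K : Subgroup H) => χ x) ∘ Subgroup.inclusion hZK₁) = (e : ℂ) • θ := h.hres
      rw [h1, classInner_smul_left, classInner_irr_self h.hθ, mul_one]
      exact he0
    obtain ⟨γ, hγ, -, hγ2⟩ := exists_constituent_over (Subgroup.inclusion hZK₁) hc hne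
    exact ⟨⟨γ, hγ, hγ2⟩⟩
  have hcard : ∃ a : ℕ, Nat.card (Q.map (QuotientGroup.mk' K)) = p ^ a := by
    rw [hmap]
    exact IsPGroup.iff_card.mp P.isPGroup'
  obtain ⟨M, hM⟩ := Cfsg.Agent.Lib.FullyRamGroup.exists_complement_of_action K Q
    (normalizer ((Q ⊓ K : Subgroup H) : Set H)) (le_normalizer_inf Q K) hFr p hcard hidx a₀
    (fun a b => XX.trans h Q hZQ hZK₁ hβ a b) (fun a q hq hfix => hreg hZK₁ a q hq hfix)
    (by
      intro a q hq
      apply Subtype.ext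
      funext k
      show a.1 (cc q k) = a.1 k
      have h1 := char_apply_conj (IsIrrCharacter.isCharacter a.2.1) k (⟨(q : H)⁻¹, (Q ⊓ K).inv_mem hq⟩)
      rw [← h1]
      apply congrArg
      ext
      rw [cc_coe]
      simp)
  rw [hmap] at hM
  exact ⟨M, hM⟩

end Main

end Cfsg.Agent.Lib.FullyRam
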