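import Mathlib
import Cfsg.Agent.Lib.CosetAvg
import Cfsg.Agent.Lib.CharClifford
import Cfsg.Agent.Lib.CharKernel
import Cfsg.Agent.Lib.CharNormal
import Cfsg.Agent.Lib.CharCodegP

/-!
# Restriction of an invariant irreducible character across an abelian chief factor

We work inside `K` with a normal subgroup `A` such that `K / A` is abelian and with a group `Γ`
acting on `K` by automorphisms, such that `A` is minimal below `K`.
-/

set_option autoImplicit false
set_option linter.style.haveILetI false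
set_option linter.unusedVariables false
set_option linter.unusedSectionVars false

namespace Cfsg.Agent.Lib.ChiefRestrict

open Cfsg Cfsg.Agent.Lib.CharBasic Cfsg.Agent.Lib.CharInd Cfsg.Agent.Lib.CharInduction
open Cfsg.Agent.Lib.Clifford Cfsg.Agent.Lib.CosetAvg Cfsg.Agent.Lib.CharClifford
open Cfsg.Agent.Lib.CharKernel
open scoped ComplexConjugate

variable {K : Type*} [Group K] [Fintype K] (A : Subgroup K) [hA : A.Normal] [Fintype A]
  {ϑ : K → ℂ}

/-- The sum of the coset averages of `|ϑ|²` is `|K|`. -/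
theorem sum_cosetAvg (hϑ : IsIrrCharacter K ϑ) : ∑ x, cosetAvg A ϑ ϑ x = (Nat.card K : ℂ) := by
  have h1 := classInner_irr_self hϑ
  unfold classInner at h1
  rw [sum_eq_sum_avg A] at h1
  have hne : (Nat.card K : ℂ) ≠ 0 := natCard_ne_zero'
  have h2 : ∑ x, cosetAvg A ϑ ϑ x = (Nat.card K : ℂ) * ((Nat.card K : ℂ)⁻¹ *
      ∑ g, ((Nat.card A : ℂ)⁻¹ * ∑ n : A, ϑ (n * g) * conj (ϑ (n * g)))) := by
    rw [← mul_assoc, mul_inv_cancel₀ hne, one_mul]
    rfl
  rw [h2, h1, mul_one]

/-- A constituent of the average has `A` in its kernel. -/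
theorem constituent_ker (hϑ : IsIrrCharacter K ϑ) {i : K → ℂ} (hi : IsIrrCharacter K i)
    (h : classInner (cosetAvg A ϑ ϑ) i ≠ 0) : ∀ a ∈ A, i a = i 1 := by
  by_contra hcon
  push Not at hcon
  obtain ⟨a, ha, hne⟩ := hcon
  apply h
  unfold classInner
  have h1 : ∑ g, cosetAvg A ϑ ϑ g * conj (i g) = 0 := by
    have h2 : ∑ g, cosetAvg A ϑ ϑ g * conj (i g) = ∑ g, conj (i g) * cosetAvg A ϑ ϑ g :=
      Finset.sum_congr rfl fun g _ => mul_comm _ _
    rw [h2, sum_mul_invariant A (fun g => conj (i g)) (cosetAvg A ϑ ϑ) (cosetAvg_mul_left A ϑ ϑ)]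
    apply Finset.sum_eq_zero
    intro g _
    have h3 : ∑ n : A, i (n * g) = 0 := by
      have h4 := CharNormal.sum_mul_normal_eq_zero hi A ⟨a, ha, hne⟩ g
      rw [← h4]
      exact Finset.sum_congr rfl fun n _ => char_mul_comm' (IsIrrCharacter.isCharacter hi) _ _
    have h5 : ∑ n : A, conj (i (n * g)) = 0 := by
      rw [← map_sum, h3, map_zero]
    rw [h5]
    simp
  rw [h1, mul_zero]

variable (hcomm : ∀ x y : K, x * y * x⁻¹ * y⁻¹ ∈ A)

include hcomm in
theorem quotient_comm (x y : K ⧸ A) : x * y = y * x := by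
  induction x using QuotientGroup.induction_on with
  | H x =>
    induction y using QuotientGroup.induction_on with
    | H y =>
      rw [← QuotientGroup.mk_mul, ← QuotientGroup.mk_mul, QuotientGroup.eq]
      have := hcomm y⁻¹ x⁻¹
      simpa [mul_assoc] using this

include hcomm in
/-- A constituent of the average is linear. -/
theorem constituent_linear (hϑ : IsIrrCharacter K ϑ) {i : K → ℂ} (hi : IsIrrCharacter K i)
    (h : classInner (cosetAvg A ϑ ϑ) i ≠ 0) : i 1 = 1 := by
  obtain ⟨χ', hχ', hval⟩ := exists_quotient_irr A hi (constituent_ker A hϑ hi h)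
  have h1 := CharCodegP.irr_one_of_comm (quotient_comm A hcomm) hχ'
  rw [← hval 1]
  exact h1

include hcomm in
/-- Multiplying by a constituent of the average fixes `ϑ`. -/
theorem constituent_fix (hϑ : IsIrrCharacter K ϑ) {i : K → ℂ} (hi : IsIrrCharacter K i)
    (h : classInner (cosetAvg A ϑ ϑ) i ≠ 0) : i * ϑ = ϑ := by
  have hic := IsIrrCharacter.isCharacter hi
  have hϑc := IsIrrCharacter.isCharacter hϑ
  obtain ⟨lam, hlam⟩ := exists_hom_of_degree_one hic (constituent_linear A hcomm hϑ hi h)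
  have hnorm : ∀ x, i x * conj (i x) = 1 := by
    intro x
    rw [Complex.mul_conj, Complex.normSq_eq_norm_sq, hlam]
    have h1 : ((lam x : ℂˣ) : ℂ) ^ Nat.card K = 1 := by
      rw [← Units.val_pow_eq_pow_val, ← map_pow, pow_card_eq_one', map_one, Units.val_one]
    have h2 := CharValues.norm_eq_one_of_pow_eq_one Nat.card_pos h1
    rw [h2]
    simp
  have hirr : IsIrrCharacter K (i * ϑ) := by
    apply isIrrCharacter_of_norm_one (isCharacter_mul hic hϑc)
    have h1 := classInner_irr_self hϑ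
    unfold classInner at h1 ⊢
    rw [← h1]
    congr 1
    refine Finset.sum_congr rfl fun x _ => ?_
    simp only [Pi.mul_apply, map_mul]
    calc i x * ϑ x * (conj (i x) * conj (ϑ x)) = (i x * conj (i x)) * (ϑ x * conj (ϑ x)) := by ring
      _ = _ := by rw [hnorm, one_mul]
  by_contra hne
  apply h
  have hinv : ∀ (n : A) (g : K), i (n * g) = i g := fun n g =>
    char_mul_of_mem_ker' hic (constituent_ker A hϑ hi h n n.2)
  rw [← classInner_cosetAvg A hinv]
  exact classInner_irr_ne hϑ hirr (Ne.symm hne)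

include hcomm in
/-- The average of `|ϑ|²` vanishes off its kernel. -/
theorem cosetAvg_eq_of_ne_zero (hϑ : IsIrrCharacter K ϑ) {x : K} (hx : cosetAvg A ϑ ϑ x ≠ 0) :
    cosetAvg A ϑ ϑ x = cosetAvg A ϑ ϑ 1 := by
  classical
  have hϑc := IsIrrCharacter.isCharacter hϑ
  have hfc := isCharacter_cosetAvg A hϑc hϑc
  -- a coset element on which `ϑ` does not vanish
  obtain ⟨a, ha⟩ : ∃ a : A, ϑ (a * x) ≠ 0 := by
    by_contra hall
    push Not at hall
    apply hx
    unfold cosetAvg
    simp [hall]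
  obtain ⟨m, hm⟩ := exists_nat_decomp hfc
  have hmi : ∀ i : IrrCharacter K, classInner (cosetAvg A ϑ ϑ) (i : K → ℂ) = m i := by
    intro i
    rw [hm]
    exact classInner_nat_decomp m _ i.2
  have key : ∀ i : IrrCharacter K, m i ≠ 0 → (i : K → ℂ) x = (i : K → ℂ) 1 := by
    intro i hi
    have h0 : classInner (cosetAvg A ϑ ϑ) (i : K → ℂ) ≠ 0 := by
      rw [hmi]
      exact_mod_cast hi
    have h1 := congrFun (constituent_fix A hcomm hϑ i.2 h0) (a * x)
    simp only [Pi.mul_apply] at h1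
    have h2 : (i : K → ℂ) (a * x) = 1 := by
      apply mul_right_cancel₀ ha
      rw [h1, one_mul]
    rw [char_mul_of_mem_ker' (IsIrrCharacter.isCharacter i.2)
      (constituent_ker A hϑ i.2 h0 a a.2)] at h2
    rw [h2, constituent_linear A hcomm hϑ i.2 h0]
  rw [hm]
  simp only [Finset.sum_apply, Pi.smul_apply]
  refine Finset.sum_congr rfl fun i _ => ?_
  by_cases hi : m i = 0
  · simp [hi]
  · rw [key i hi]

section Action

variable {Γ : Type*} [Group Γ] (σ : Γ →* MulAut K) (hAσ : ∀ (g : Γ), ∀ a ∈ A, σ g a ∈ A)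

include hAσ in
/-- The action of `Γ` on `A`. -/
def autA (g : Γ) : A ≃* A where
  toFun a := ⟨σ g a, hAσ g a a.2⟩
  invFun a := ⟨σ g⁻¹ a, hAσ g⁻¹ a a.2⟩
  left_inv a := by
    apply Subtype.ext
    show σ g⁻¹ (σ g a) = a
    rw [map_inv]
    exact (σ g).symm_apply_apply _
  right_inv a := by
    apply Subtype.ext
    show σ g (σ g⁻¹ a) = a
    rw [map_inv]
    exact (σ g).apply_symm_apply _
  map_mul' a b := by
    apply Subtype.ext
    simp

theorem autA_coe (g : Γ) (a : A) : ((autA A σ hAσ g a : A) : K) = σ g a := rfl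

variable (hϑσ : ∀ (g : Γ) (x : K), ϑ (σ g x) = ϑ x)

include hAσ hϑσ in
theorem cosetAvg_sigma (g : Γ) (x : K) : cosetAvg A ϑ ϑ (σ g x) = cosetAvg A ϑ ϑ x := by
  unfold cosetAvg
  congr 1
  rw [← Equiv.sum_comp (autA A σ hAσ g).toEquiv]
  refine Finset.sum_congr rfl fun a _ => ?_
  have h1 : (((autA A σ hAσ g).toEquiv a : A) : K) * σ g x = σ g ((a : K) * x) := by
    rw [map_mul]
    rfl
  rw [h1, hϑσ]

/-- The set of irreducible constituents of `ϑ|_A`. -/
def constituents (ϑ : K → ℂ) : Set (A → ℂ) :=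
  {φ | IsIrrCharacter A φ ∧ classInner (fun n : A => ϑ n) φ ≠ 0}

theorem conjBy_of_mem {φ : A → ℂ} (hφ : IsIrrCharacter A φ) {a : K} (ha : a ∈ A) :
    conjBy A hA a φ = φ := by
  funext n
  rw [conjBy_apply]
  have h1 := char_apply_conj (IsIrrCharacter.isCharacter hφ) n (⟨a, ha⟩ : A)
  exact h1

/-- The subgroup of `K` fixing all the constituents of `ϑ|_A`. -/
def fixConstituents (ϑ : K → ℂ) : Subgroup K where
  carrier := {x | ∀ φ ∈ constituents A ϑ, conjBy A hA x φ = φ}
  one_mem' := fun φ _ => conjBy_one A hA φ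
  mul_mem' := by
    intro a b ha hb φ hφ
    rw [← conjBy_conjBy, ha φ hφ, hb φ hφ]
  inv_mem' := by
    intro a ha φ hφ
    have h1 := conjBy_conjBy A hA a a⁻¹ φ
    rw [ha φ hφ, mul_inv_cancel, conjBy_one] at h1
    exact h1

theorem mem_fixConstituents {x : K} :
    x ∈ fixConstituents A ϑ ↔ ∀ φ ∈ constituents A ϑ, conjBy A hA x φ = φ := Iff.rfl

theorem le_fixConstituents : A ≤ fixConstituents A ϑ := fun _ ha _ hφ =>
  conjBy_of_mem A hφ.1 ha

include hAσ hϑσ in
theorem fixConstituents_sigma (g : Γ) {x : K} (hx : x ∈ fixConstituents A ϑ) :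
    σ g x ∈ fixConstituents A ϑ := by
  intro φ hφ
  let e := autA A σ hAσ g
  have hφ' : (φ ∘ e) ∈ constituents A ϑ := by
    refine ⟨isIrrCharacter_comp_of_surjective e.toMonoidHom e.surjective hφ.1, ?_⟩
    have h1 := classInner_comp_mulEquiv e (fun n : A => ϑ n) φ
    have h2 : ((fun n : A => ϑ n) ∘ e) = fun n : A => ϑ n := by
      funext n
      exact hϑσ g n
    rw [h2] at h1
    rw [h1]
    exact hφ.2
  have h1 := hx _ hφ'
  funext n
  have h2 := congrFun h1 (e.symm n)
  rw [conjBy_apply] at h2 ⊢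
  simp only [Function.comp_apply, MulEquiv.apply_symm_apply] at h2
  rw [← h2]
  congr 1
  apply Subtype.ext
  show _ = ((e _ : A) : K)
  rw [autA_coe]
  simp only [map_mul, map_inv]
  congr 2
  exact (congrArg Subtype.val (e.apply_symm_apply n)).symm

end Action

/-- Restriction of an invariant irreducible character across an abelian chief factor, inside `K`. -/
theorem restrict_chief (hϑ : IsIrrCharacter K ϑ)
    (hcomm : ∀ x y : K, x * y * x⁻¹ * y⁻¹ ∈ A)
    {Γ : Type*} [Group Γ] (σ : Γ →* MulAut K) (hAσ : ∀ (g : Γ), ∀ a ∈ A, σ g a ∈ A)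
    (hϑσ : ∀ (g : Γ) (x : K), ϑ (σ g x) = ϑ x)
    (hchief : ∀ M : Subgroup K, (∀ g : Γ, ∀ x ∈ M, σ g x ∈ M) → A ≤ M → M = A ∨ M = ⊤) :
    IsIrrCharacter A (fun x : A => ϑ x) ∨
    (∃ (φ : A → ℂ) (e : ℕ), IsIrrCharacter A φ ∧ (fun x : A => ϑ x) = (e : ℂ) • φ ∧
      e ^ 2 = A.index) ∨
    (∃ F : Finset (A → ℂ), (∀ φ ∈ F, IsIrrCharacter A φ) ∧ F.card = A.index ∧
      (fun x : A => ϑ x) = ∑ φ ∈ F, φ) := by
  classical
  have hϑc := IsIrrCharacter.isCharacter hϑ
  have hres := isCharacter_restrict A hϑc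
  have hcl := isClassFunction_of_isCharacter hres
  obtain ⟨φ₀, hφ₀⟩ : ∃ φ₀, φ₀ ∈ constituents A ϑ := by
    by_contra hall
    push Not at hall
    have h1 := classFunction_eq_sum hcl
    have h2 : (fun x : A => ϑ x) = 0 := by
      rw [h1]
      apply Finset.sum_eq_zero
      intro i _
      have h3 : (i : A → ℂ) ∉ constituents A ϑ := hall _
      have h4 : classInner (fun x : A => ϑ x) (i : A → ℂ) = 0 := by
        by_contra hne
        exact h3 ⟨i.2, hne⟩
      rw [h4, zero_smul]
    exact irr_degree_ne_zero hϑ (congrFun h2 1)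
  have hAcard : Nat.card K = Nat.card A * A.index := (Subgroup.card_mul_index A).symm
  have hAne : (Nat.card A : ℂ) ≠ 0 := natCard_ne_zero'
  rcases hchief (fixConstituents A ϑ) (fun g x hx => fixConstituents_sigma A σ hAσ hϑσ g hx)
    (le_fixConstituents A) with hT | hT
  · -- the constituents are not fixed: the restriction is a sum of distinct conjugates
    right; right
    have hT₀ : ∀ g : K, g ∈ A ↔ ∀ n : A, φ₀ ⟨g * n * g⁻¹, hA.conj_mem (n : K) n.2 g⟩ = φ₀ n := by
      intro g
      constructor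
      · intro hg n
        exact congrFun (conjBy_of_mem A hφ₀.1 hg) n
      · intro h
        have h1 : conjBy A hA g φ₀ = φ₀ := funext h
        rw [← hT]
        intro φ hφ
        obtain ⟨y, hy⟩ := exists_conj_of_constituents A hA hϑ hφ₀.1 hφ.1 hφ₀.2 hφ.2
        have hc : y⁻¹ * g⁻¹ * y * g ∈ A := by simpa using hcomm y⁻¹ g⁻¹
        have h2 : y * g = g * y * (y⁻¹ * g⁻¹ * y * g) := by group
        rw [hy, conjBy_conjBy, h2, ← conjBy_conjBy A hA (g * y) (y⁻¹ * g⁻¹ * y * g),
          ← conjBy_conjBy A hA g y, h1, ← hy]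
        exact conjBy_of_mem A hφ.1 hc
    obtain ⟨ψ, hψ, hind, hmul⟩ := exists_inertia_char A A hφ₀.1 hT₀ le_rfl hϑ hφ₀.2
    have hψ' : (fun n : A => ψ ⟨(n : K), (le_rfl : A ≤ A) n.2⟩) = ψ := rfl
    rw [hψ'] at hmul
    have hψφ : ψ = φ₀ := by
      by_contra hne
      apply hφ₀.2
      rw [← hmul]
      exact classInner_irr_ne hψ hφ₀.1 hne
    have he : classInner (fun n : A => ϑ n) φ₀ = 1 := by
      rw [← hmul, hψφ, classInner_irr_self hφ₀.1]
    refine ⟨Finset.univ.image (fun x : K => conjBy A hA x φ₀), ?_, ?_, ?_⟩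
    · intro φ hφ
      obtain ⟨x, -, rfl⟩ := Finset.mem_image.mp hφ
      exact isIrrCharacter_conjBy A hA x hφ₀.1
    · have hstab : Nat.card {g : K // conjBy A hA g φ₀ = φ₀} = Nat.card A := by
        apply Nat.card_congr
        apply Equiv.subtypeEquivRight
        intro g
        rw [hT₀ g]
        exact funext_iff
      have hcard := Finset.card_eq_sum_card_image (fun x : K => conjBy A hA x φ₀)
        (Finset.univ : Finset K)
      have hfib : ∀ b ∈ Finset.univ.image (fun x : K => conjBy A hA x φ₀),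
          (Finset.univ.filter fun x : K => conjBy A hA x φ₀ = b).card = Nat.card A := by
        intro b hb
        obtain ⟨x, -, rfl⟩ := Finset.mem_image.mp hb
        rw [← hstab, ← card_filter_conjBy_eq A hA φ₀ x]
        congr 1
        ext y
        simp [eq_comm]
      rw [Finset.sum_congr rfl hfib, Finset.sum_const, smul_eq_mul, Finset.card_univ,
        ← Nat.card_eq_fintype_card, hAcard, mul_comm] at hcard
      exact (Nat.eq_of_mul_eq_mul_right Nat.card_pos hcard).symm
    · have h1 := restrict_eq_smul_sum A hA hϑ hφ₀.1 hφ₀.2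
      rw [he, one_smul] at h1
      exact h1
  · -- the constituent is invariant
    have hinv : ∀ (g : K) (n : A), φ₀ ⟨g * n * g⁻¹, hA.conj_mem (n : K) n.2 g⟩ = φ₀ n := by
      intro g n
      have h1 : g ∈ fixConstituents A ϑ := by
        rw [hT]
        exact Subgroup.mem_top g
      exact congrFun (h1 φ₀ hφ₀) n
    obtain ⟨e, he0, hres2, he⟩ := restrict_eq_smul_of_invariant A hφ₀.1 hinv hϑ hφ₀.2
    have hf1 : cosetAvg A ϑ ϑ 1 = (e : ℂ) ^ 2 := by
      rw [cosetAvg_one, hres2, classInner_smul_left, classInner_smul_right,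
        classInner_irr_self hφ₀.1]
      simp
      ring
    have hfc := isCharacter_cosetAvg A hϑc hϑc
    have hUσ : ∀ g : Γ, ∀ x ∈ charKer hfc, σ g x ∈ charKer hfc := by
      intro g x hx
      show cosetAvg A ϑ ϑ (σ g x) = cosetAvg A ϑ ϑ 1
      rw [cosetAvg_sigma A σ hAσ hϑσ]
      exact hx
    have hf2 : ∀ n : A, cosetAvg A ϑ ϑ n = cosetAvg A ϑ ϑ 1 := by
      intro n
      have := cosetAvg_mul_left A ϑ ϑ n 1
      simpa using this
    have hAU : A ≤ charKer hfc := fun a ha => hf2 ⟨a, ha⟩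
    have hsum := sum_cosetAvg A hϑ
    rcases hchief (charKer hfc) hUσ hAU with hU | hU
    · right; left
      refine ⟨φ₀, e, hφ₀.1, hres2, ?_⟩
      have hvan : ∀ x, x ∉ A → cosetAvg A ϑ ϑ x = 0 := by
        intro x hx
        by_contra h
        apply hx
        rw [← hU]
        exact cosetAvg_eq_of_ne_zero A hcomm hϑ h
      rw [sum_of_vanish_off A _ hvan, Finset.sum_congr rfl (fun n _ => hf2 n), hf1,
        Finset.sum_const, Finset.card_univ, nsmul_eq_mul, hAcard,
        ← Nat.card_eq_fintype_card] at hsum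
      push_cast at hsum
      have h1 := mul_left_cancel₀ hAne hsum
      exact_mod_cast h1
    · left
      have hall : ∀ x, cosetAvg A ϑ ϑ x = cosetAvg A ϑ ϑ 1 := by
        intro x
        have : x ∈ charKer hfc := by
          rw [hU]
          exact Subgroup.mem_top x
        exact this
      rw [Finset.sum_congr rfl (fun x _ => hall x), Finset.sum_const, Finset.card_univ,
        nsmul_eq_mul, ← Nat.card_eq_fintype_card] at hsum
      have h1 : cosetAvg A ϑ ϑ 1 = 1 := by
        have h2 : (Nat.card K : ℂ) ≠ 0 := natCard_ne_zero'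
        apply mul_left_cancel₀ h2
        rw [hsum, mul_one]
      apply isIrrCharacter_of_norm_one hres
      rw [← cosetAvg_one]
      exact h1

end Cfsg.Agent.Lib.ChiefRestrict
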