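import Mathlib
import Cfsg.Agent.S0857
import Cfsg.Agent.Lib.Clifford
import Cfsg.Agent.Lib.DegreeDiv
import Cfsg.Agent.Lib.BrauerInd
import Cfsg.Agent.Lib.IndFunBasic

/-!
# Relative M-groups

Transport of induced characters from a subgroup of a subgroup, and the theorem that a group
whose chief factors above `N` have non-square order is a relative M-group over `N`.
-/

set_option autoImplicit false
set_option linter.style.haveILetI false
set_option linter.unusedVariables false

namespace Cfsg.Agent.Lib.RelMono

open Cfsg Cfsg.Agent.Lib.CharBasic Cfsg.Agent.Lib.CharInd Cfsg.Agent.Lib.Clifford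
open Cfsg.Agent.Lib.DegreeDiv Cfsg.Agent.Lib.BrauerInd

universe u

section Transport

variable {G : Type u} [Group G]

/-- Induction is insensitive to an equality of subgroups. -/
theorem indFun_congr_subgroup [Fintype G] {A B : Subgroup G} (hAB : A = B) (f : A → ℂ) (g : B → ℂ)
    (h : ∀ x : A, f x = g ⟨x, hAB ▸ x.2⟩) : indFun A f = indFun B g := by
  subst hAB
  have : f = g := funext fun x => h x
  rw [this]

/-- The isomorphism of a subgroup of `T` with its image in `G`. -/
noncomputable def mapEquiv (T : Subgroup G) (H' : Subgroup T) : H' ≃* H'.map T.subtype :=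
  H'.equivMapOfInjective T.subtype T.subtype_injective

theorem mapEquiv_coe (T : Subgroup G) (H' : Subgroup T) (x : H') :
    ((mapEquiv T H' x : H'.map T.subtype) : G) = ((x : T) : G) := rfl

theorem mapEquiv_symm_coe (T : Subgroup G) (H' : Subgroup T) (x : H'.map T.subtype) :
    (((mapEquiv T H').symm x : H') : T).1 = (x : G) := by
  have := mapEquiv_coe T H' ((mapEquiv T H').symm x)
  rw [MulEquiv.apply_symm_apply] at this
  exact this.symm

/-- Transitivity of induction through the image in `G` of a subgroup of `T`. -/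
theorem indFun_map_subtype [Fintype G] (T : Subgroup G) [Fintype T] (H' : Subgroup T) (ψ' : H' → ℂ) :
    indFun (H'.map T.subtype) (ψ' ∘ (mapEquiv T H').symm) = indFun T (indFun H' ψ') := by
  have hle : H'.map T.subtype ≤ T := by
    rintro _ ⟨x, -, rfl⟩
    exact x.2
  rw [← Cfsg.Agent.Lib.IndFunBasic.indFun_indFun (H'.map T.subtype) T hle]
  congr 1
  have hsub : (H'.map T.subtype).subgroupOf T = H' :=
    Subgroup.comap_map_eq_self_of_injective T.subtype_injective H'
  apply indFun_congr_subgroup hsub
  intro x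
  simp only [Function.comp_apply]
  congr 1
  apply Subtype.ext
  apply Subtype.ext
  exact mapEquiv_symm_coe T H' _

end Transport

section Hyp

variable {G : Type u} [Group G]

/-- The hypothesis on chief factors. -/
def HChief (N : Subgroup G) : Prop :=
  ∀ (H K L : Subgroup G), N ≤ L → L < K → K ≤ H → (∀ h ∈ H, ∀ k ∈ K, h * k * h⁻¹ ∈ K) →
    (∀ h ∈ H, ∀ l ∈ L, h * l * h⁻¹ ∈ L) →
    (∀ M : Subgroup G, L ≤ M → M ≤ K → (∀ h ∈ H, ∀ m ∈ M, h * m * h⁻¹ ∈ M) → M = L ∨ M = K) →
    ¬ IsSquare (L.relIndex K)

theorem HChief.subgroupOf {N : Subgroup G} (h : HChief N) (T : Subgroup G) (hNT : N ≤ T) :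
    HChief (N.subgroupOf T) := by
  intro H K L hNL hLK hKH hK hL hbetween
  have hinj := T.subtype_injective
  have hmapmem : ∀ (A : Subgroup T) (x : T), (x : G) ∈ A.map T.subtype ↔ x ∈ A := by
    intro A x
    constructor
    · rintro ⟨y, hy, hyx⟩
      have : y = x := Subtype.ext hyx
      exact this ▸ hy
    · intro hx
      exact ⟨x, hx, rfl⟩
  have := h (H.map T.subtype) (K.map T.subtype) (L.map T.subtype) ?_ ?_ ?_ ?_ ?_ ?_
  · rwa [Subgroup.relIndex_map_map_of_injective _ _ hinj] at this
  · intro n hn
    exact ⟨⟨n, hNT hn⟩, hNL hn, rfl⟩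
  · exact (Subgroup.map_lt_map_iff_of_injective hinj).mpr hLK
  · exact Subgroup.map_mono hKH
  · rintro _ ⟨x, hx, rfl⟩ _ ⟨y, hy, rfl⟩
    exact ⟨x * y * x⁻¹, hK x hx y hy, by simp⟩
  · rintro _ ⟨x, hx, rfl⟩ _ ⟨y, hy, rfl⟩
    exact ⟨x * y * x⁻¹, hL x hx y hy, by simp⟩
  · intro M hLM hMK hM
    have hMT : M ≤ T := hMK.trans (by rintro _ ⟨x, -, rfl⟩; exact x.2)
    have hmap : (M.subgroupOf T).map T.subtype = M := by
      rw [Subgroup.map_subgroupOf_eq_of_le hMT]
    have hr := hbetween (M.subgroupOf T) ?_ ?_ ?_
    · rcases hr with hr | hr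
      · left
        rw [← hmap, hr]
      · right
        rw [← hmap, hr]
    · intro x hx
      show (x : G) ∈ M
      exact hLM ⟨x, hx, rfl⟩
    · intro x hx
      have : (x : G) ∈ K.map T.subtype := hMK hx
      exact (hmapmem K x).mp this
    · intro x hx m hm
      show ((x * m * x⁻¹ : T) : G) ∈ M
      exact hM x ⟨x, hx, rfl⟩ m hm

theorem solvable_quotient_subgroupOf {N : Subgroup G} [N.Normal] (hs : Group.IsSolvable (G ⧸ N))
    (T : Subgroup G) : Group.IsSolvable (T ⧸ N.subgroupOf T) := by
  haveI : (N.subgroupOf T).Normal := Subgroup.normal_subgroupOf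
  let f : T →* G ⧸ N := (QuotientGroup.mk' N).comp T.subtype
  have hf : N.subgroupOf T ≤ f.ker := by
    intro x hx
    rw [MonoidHom.mem_ker]
    exact (QuotientGroup.eq_one_iff _).mpr hx
  let g : T ⧸ N.subgroupOf T →* G ⧸ N := QuotientGroup.lift _ f hf
  have hg : Function.Injective g := by
    rw [injective_iff_map_eq_one]
    intro a
    induction a using QuotientGroup.induction_on with
    | H x =>
      intro hx
      have : ((x : G) : G ⧸ N) = 1 := hx
      rw [QuotientGroup.eq_one_iff] at this ⊢
      exact this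
  exact Group.isSolvable_of_isSolvable_injective hg

end Hyp

section Abelian

open scoped commutatorElement

variable {G : Type u} [Group G]

/-- A chief factor inside a solvable section is abelian. -/
theorem commutator_le_of_chief {N L M : Subgroup G} [N.Normal] [hL : L.Normal] [hM : M.Normal]
    (hs : Group.IsSolvable (G ⧸ N)) (hNL : N ≤ L) (hLM : L < M)
    (hchief : ∀ M' : Subgroup G, M'.Normal → L ≤ M' → M' ≤ M → M' = L ∨ M' = M) :
    ⁅M, M⁆ ≤ L := by
  have hD : (⁅M, M⁆ ⊔ L).Normal := Subgroup.sup_normal _ _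
  rcases hchief _ hD le_sup_right (sup_le (Subgroup.commutator_le_left M M) hLM.le) with h | h
  · rw [← h]
    exact le_sup_left
  · exfalso
    have hsup : ∀ k : ℕ, ∃ A : Subgroup G, A.Normal ∧ A ⊔ L = M ∧
        A.map (QuotientGroup.mk' N) ≤ derivedSeries (G ⧸ N) k := by
      intro k
      induction k with
      | zero =>
        refine ⟨M, hM, sup_eq_left.mpr hLM.le, ?_⟩
        simp
      | succ k ih =>
        obtain ⟨A, hA, hAL, hAs⟩ := ih
        refine ⟨⁅A, A⁆, inferInstance, ?_, ?_⟩
        · apply le_antisymm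
          · refine sup_le ?_ hLM.le
            rw [← hAL]
            exact (Subgroup.commutator_mono le_sup_left le_sup_left).trans (by
              rw [hAL]
              exact Subgroup.commutator_le_left M M)
          · have h2 : ⁅M, M⁆ ≤ ⁅A, A⁆ ⊔ L := by
              have hq : ⁅A ⊔ L, A ⊔ L⁆ ≤ ⁅A, A⁆ ⊔ L := by
                rw [Subgroup.commutator_le]
                intro x hx y hy
                obtain ⟨a, ha, l, hl, rfl⟩ := Subgroup.mem_sup_of_normal_right.mp hx
                obtain ⟨b, hb, l', hl', rfl⟩ := Subgroup.mem_sup_of_normal_right.mp hy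
                -- work modulo `L`
                have hmod : ((⁅a * l, b * l'⁆ : G) : G ⧸ L) = ((⁅a, b⁆ : G) : G ⧸ L) := by
                  have hl1 : ((l : G) : G ⧸ L) = 1 := (QuotientGroup.eq_one_iff _).mpr hl
                  have hl2 : ((l' : G) : G ⧸ L) = 1 := (QuotientGroup.eq_one_iff _).mpr hl'
                  simp only [commutatorElement_def, QuotientGroup.mk_mul, QuotientGroup.mk_inv,
                    hl1, hl2, mul_one]
                have hmem : ⁅a * l, b * l'⁆ * ⁅a, b⁆⁻¹ ∈ L := by
                  rw [← QuotientGroup.eq_one_iff]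
                  simp only [QuotientGroup.mk_mul, QuotientGroup.mk_inv, hmod]
                  simp
                have hcomm : ⁅a, b⁆ ∈ ⁅A, A⁆ := Subgroup.commutator_mem_commutator ha hb
                have : ⁅a * l, b * l'⁆ = (⁅a * l, b * l'⁆ * ⁅a, b⁆⁻¹) * ⁅a, b⁆ := by group
                rw [this, sup_comm]
                exact Subgroup.mul_mem_sup hmem hcomm
              rwa [hAL] at hq
            calc M = ⁅M, M⁆ ⊔ L := h.symm
              _ ≤ ⁅A, A⁆ ⊔ L := sup_le h2 le_sup_right
        · rw [derivedSeries_succ, Subgroup.map_commutator]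
          exact Subgroup.commutator_mono hAs hAs
    obtain ⟨n, hn⟩ := Group.isSolvable_def _ |>.mp hs
    obtain ⟨A, -, hAL, hAs⟩ := hsup n
    rw [hn] at hAs
    have hAN : A ≤ N := by
      intro a ha
      have : ((a : G) : G ⧸ N) ∈ (⊥ : Subgroup (G ⧸ N)) := hAs ⟨a, ha, rfl⟩
      rw [Subgroup.mem_bot, QuotientGroup.eq_one_iff] at this
      exact this
    have : M ≤ L := by
      rw [← hAL]
      exact sup_le (hAN.trans hNL) le_rfl
    exact absurd hLM (not_lt_of_ge this)

end Abelian

section Descent

variable {G : Type u} [Group G] [Fintype G]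

/-- Two distinct irreducible characters cannot have a homogeneous sum. -/
theorem not_homogeneous_of_two {χ : G → ℂ} {F : Finset (G → ℂ)} (hF : ∀ φ ∈ F, IsIrrCharacter G φ)
    (h1 : 1 < F.card) {φ' : G → ℂ} {e : ℕ} (hφ' : IsIrrCharacter G φ')
    (h : ∑ φ ∈ F, φ = (e : ℂ) • φ') : False := by
  classical
  obtain ⟨a, ha, b, hb, hab⟩ := Finset.one_lt_card.mp h1
  have key : ∀ c ∈ F, c = φ' := by
    intro c hc
    by_contra hne
    have h3 : classInner (∑ φ ∈ F, φ) c = 1 := by
      have : (∑ φ ∈ F, φ) = ∑ φ ∈ F, (fun x => φ x) := rfl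
      rw [classInner_sum_left, Finset.sum_eq_single c]
      · exact classInner_irr_self (hF c hc)
      · intro d hd hdc
        exact classInner_irr_ne (hF d hd) (hF c hc) hdc
      · intro hc'
        exact absurd hc hc'
    rw [h, classInner_smul_left, classInner_irr_ne hφ' (hF c hc) (Ne.symm hne), mul_zero] at h3
    exact zero_ne_one h3
  exact hab ((key a ha).trans (key b hb).symm)

theorem irr_restrict_of_homogeneous {N : Subgroup G} [hN : N.Normal]
    (hs : Group.IsSolvable (G ⧸ N)) (hc : HChief N) {χ : G → ℂ}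
    (hhom : ∀ M : Subgroup G, M.Normal → N ≤ M →
      ∃ (φ : M → ℂ) (e : ℕ), IsIrrCharacter M φ ∧ (fun m : M => χ m) = (e : ℂ) • φ)
    (hcl : IsClassFunction G χ) :
    ∀ (k : ℕ) (M : Subgroup G), M.Normal → N ≤ M → Nat.card M = k →
      IsIrrCharacter M (fun m : M => χ m) → IsIrrCharacter N (fun m : N => χ m) := by
  classical
  intro k
  induction k using Nat.strong_induction_on with
  | _ k ih =>
    intro M hM hNM hk hirr
    by_cases hEq : M = N
    · subst hEq
      exact hirr
    have hNM' : N < M := lt_of_le_of_ne hNM (Ne.symm hEq)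
    -- a maximal normal subgroup of `G` below `M` containing `N`
    have hfin : ({L : Subgroup G | L.Normal ∧ N ≤ L ∧ L < M}).Finite := Set.toFinite _
    obtain ⟨L, hLmax⟩ := hfin.exists_maximal ⟨N, hN, le_rfl, hNM'⟩
    obtain ⟨hLn, hNL, hLM⟩ := hLmax.prop
    have hchief : ∀ M' : Subgroup G, M'.Normal → L ≤ M' → M' ≤ M → M' = L ∨ M' = M := by
      intro M' hM' hLM' hM'M
      by_cases hE : M' = M
      · exact Or.inr hE
      · left
        have hlt : M' < M := lt_of_le_of_ne hM'M hE
        exact hLmax.eq_of_ge ⟨hM', hNL.trans hLM', hlt⟩ hLM'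
    have hab : ⁅M, M⁆ ≤ L := commutator_le_of_chief hs hNL hLM hchief
    have hcardlt : Nat.card L < k := by
      rw [← hk]
      by_contra hcon
      exact hLM.ne (Subgroup.eq_of_le_of_card_ge hLM.le (not_lt.mp hcon))
    have hinv : ∀ (g : G) (n : M), (fun m : M => χ m) ⟨g * n * g⁻¹, hM.conj_mem (n : G) n.2 g⟩ =
        (fun m : M => χ m) n := by
      intro g n
      exact hcl (n : G) g
    rcases Cfsg.Agent.S0857.result M L hLM hchief hab _ hirr hinv with h | ⟨φ, e, hφ, hres, he⟩ |
      ⟨F, hF, hcard, hsum⟩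
    · exact ih _ hcardlt L hLn hNL rfl h
    · exfalso
      refine hc ⊤ M L hNL hLM le_top (fun h _ k hk => hM.conj_mem k hk h)
        (fun h _ k hk => hLn.conj_mem k hk h) ?_ ⟨e, by rw [← he]; ring⟩
      intro M' hLM' hM'M hinvM'
      exact hchief M' ⟨fun n hn g => hinvM' g trivial n hn⟩ hLM' hM'M
    · exfalso
      obtain ⟨φ', e', hφ', hres'⟩ := hhom L hLn hNL
      have h1 : 1 < F.card := by
        rw [hcard]
        have hne : L.relIndex M ≠ 0 := by
          show (L.subgroupOf M).index ≠ 0
          exact Subgroup.index_ne_zero_of_finite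
        have hne1 : L.relIndex M ≠ 1 := by
          rw [Ne, Subgroup.relIndex_eq_one]
          exact not_le_of_gt hLM
        omega
      exact not_homogeneous_of_two (χ := fun m : L => χ m) hF h1 hφ' (by rw [← hsum]; exact hres')

end Descent

section Main

/-- The relative M-group theorem. -/
theorem main : ∀ (n : ℕ) (G : Type u) [Group G] [Fintype G] (N : Subgroup G) [N.Normal],
    N.index = n → Group.IsSolvable (G ⧸ N) → HChief N → ∀ χ : G → ℂ, IsIrrCharacter G χ →
    ∃ (H : Subgroup G) (hNH : N ≤ H) (ψ : H → ℂ), IsIrrCharacter H ψ ∧ indFun H ψ = χ ∧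
      IsIrrCharacter N (fun n : N => ψ ⟨(n : G), hNH n.2⟩) := by
  intro n
  induction n using Nat.strong_induction_on with
  | _ n ih =>
    intro G _ _ N hN hn hs hc χ hχ
    classical
    have hχc := IsIrrCharacter.isCharacter hχ
    have hcl := isClassFunction_of_isCharacter hχc
    by_cases hhom : ∀ M : Subgroup G, M.Normal → N ≤ M →
        ∃ (φ : M → ℂ) (e : ℕ), IsIrrCharacter M φ ∧ (fun m : M => χ m) = (e : ℂ) • φ
    · -- the whole group works
      have htop : IsIrrCharacter (⊤ : Subgroup G) (fun m : (⊤ : Subgroup G) => χ m) :=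
        isIrrCharacter_comp_of_surjective (⊤ : Subgroup G).subtype
          (fun g => ⟨⟨g, trivial⟩, rfl⟩) hχ
      have hNirr := irr_restrict_of_homogeneous hs hc hhom hcl _ ⊤ inferInstance le_top rfl htop
      refine ⟨⊤, le_top, fun m => χ m, htop, ?_, hNirr⟩
      funext g
      rw [indFun_top _ (isClassFunction_of_isCharacter (IsIrrCharacter.isCharacter htop))]
    · push Not at hhom
      obtain ⟨M, hM, hNM, hnon⟩ := hhom
      haveI : Fintype M := Fintype.ofFinite _
      have hχM := isCharacter_restrict M hχc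
      obtain ⟨φ, hφ, hcon⟩ := exists_constituent hχM (by simpa using irr_degree_ne_zero hχ)
      let T := inertia M hM φ
      have hMT : M ≤ T := le_inertia M hM (IsIrrCharacter.isCharacter hφ)
      have hTne : T ≠ ⊤ := by
        intro hT
        have hinv : ∀ (g : G) (n : M), φ ⟨g * n * g⁻¹, hM.conj_mem (n : G) n.2 g⟩ = φ n := by
          intro g n
          have : g ∈ T := by rw [hT]; trivial
          exact this n
        obtain ⟨e, -, hres, -⟩ := restrict_eq_smul_of_invariant M hφ hinv hχ hcon
        exact hnon φ e hφ hres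
      obtain ⟨ψ, hψ, hind, -⟩ := exists_inertia_char M T hφ (mem_inertia M hM φ) hMT hχ hcon
      haveI : Fintype T := Fintype.ofFinite _
      have hNT : N ≤ T := hNM.trans hMT
      have hindex : (N.subgroupOf T).index < n := by
        have h1 : N.relIndex T * T.index = N.index := Subgroup.relIndex_mul_index hNT
        have hNi : N.index ≠ 0 := Subgroup.index_ne_zero_of_finite
        have h2 : T.index ≠ 1 := by
          rwa [Ne, Subgroup.index_eq_one]
        have h3 : T.index ≠ 0 := Subgroup.index_ne_zero_of_finite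
        have h4 : N.relIndex T ≠ 0 := by
          show (N.subgroupOf T).index ≠ 0
          exact Subgroup.index_ne_zero_of_finite
        show N.relIndex T < n
        rw [← hn, ← h1]
        have : 2 ≤ T.index := by omega
        nlinarith [Nat.pos_of_ne_zero h4]
      obtain ⟨H', hNH', ψ', hψ', hind', hres'⟩ := ih _ hindex (↥T) (N.subgroupOf T) rfl
        (solvable_quotient_subgroupOf hs T) (hc.subgroupOf T hNT) ψ hψ
      let e := mapEquiv T H'
      have hNH : N ≤ H'.map T.subtype := by
        intro x hx
        exact ⟨⟨x, hNT hx⟩, hNH' hx, rfl⟩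
      refine ⟨H'.map T.subtype, hNH, ψ' ∘ e.symm, ?_, ?_, ?_⟩
      · exact isIrrCharacter_comp_of_surjective e.symm.toMonoidHom e.symm.surjective hψ'
      · rw [indFun_map_subtype, hind', hind]
      · let ε : N ≃* N.subgroupOf T := (Subgroup.subgroupOfEquivOfLe hNT).symm
        have hε := isIrrCharacter_comp_of_surjective ε.toMonoidHom ε.surjective hres'
        convert hε using 2 with x
        simp only [Function.comp_apply]
        congr 1
        apply Subtype.ext
        apply Subtype.ext
        exact mapEquiv_symm_coe T H' _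

end Main

end Cfsg.Agent.Lib.RelMono
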