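import Mathlib
import Cfsg.Agent.Lib.DadeExt
import Cfsg.Agent.Lib.RelMono
import Cfsg.Agent.Lib.FullyRam

/-!
# Dade: relative M-groups over a normal subgroup with abelian Sylow subgroups are M-groups
-/

set_option autoImplicit false
set_option linter.style.haveILetI false
set_option linter.unusedVariables false
set_option linter.unusedSectionVars false

namespace Cfsg.Agent.Lib.DadeMono

open Cfsg Cfsg.Agent.Lib.CharBasic Cfsg.Agent.Lib.CharInd Cfsg.Agent.Lib.Clifford
open Cfsg.Agent.Lib.DegreeDiv Cfsg.Agent.Lib.DadeExt Cfsg.Agent.Lib.RelMono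
open scoped ComplexConjugate

universe u

section Hyp

variable {G : Type u} [Group G]

/-- Every `p`-subgroup of `N` is abelian. -/
def HAb (N : Subgroup G) : Prop :=
  ∀ (p : ℕ), p.Prime → ∀ P : Subgroup G, P ≤ N → IsPGroup p P → ∀ a ∈ P, ∀ b ∈ P, a * b = b * a

theorem hAb_of_sylow [Finite G] (N : Subgroup G)
    (hab : ∀ (p : ℕ) [Fact p.Prime] (P : Sylow p N), ∀ a ∈ P, ∀ b ∈ P, a * b = b * a) : HAb N := by
  intro p hp P hPN hPp a ha b hb
  haveI : Fact p.Prime := ⟨hp⟩
  let P' : Subgroup N := P.subgroupOf N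
  have hP'p : IsPGroup p P' := by
    have e : P' ≃* P := Subgroup.subgroupOfEquivOfLe hPN
    exact hPp.of_equiv e.symm
  obtain ⟨R, hR⟩ := hP'p.exists_le_sylow
  have h := hab p R ⟨a, hPN ha⟩ (hR ha) ⟨b, hPN hb⟩ (hR hb)
  exact congrArg Subtype.val h

theorem HAb.mono {N K : Subgroup G} (h : HAb N) (hKN : K ≤ N) : HAb K :=
  fun p hp P hPK hPp => h p hp P (hPK.trans hKN) hPp

theorem HAb.subgroupOf {N : Subgroup G} (h : HAb N) (T : Subgroup G) : HAb (N.subgroupOf T) := by
  intro p hp P hPN hPp a ha b hb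
  have hP' : IsPGroup p (P.map T.subtype) := hPp.map T.subtype
  have hle : P.map T.subtype ≤ N := by
    rintro _ ⟨x, hx, rfl⟩
    exact hPN hx
  have := h p hp _ hle hP' (a : G) ⟨a, ha, rfl⟩ (b : G) ⟨b, hb, rfl⟩
  exact Subtype.ext this

end Hyp

section Chief

variable {G : Type u} [Group G] [Finite G]

/-- An abelian chief factor is a `p`-group. -/
theorem exists_prime_pow_relIndex {K N : Subgroup G} [hK : K.Normal] [hN : N.Normal] (hKN : K < N)
    (hchief : ∀ M : Subgroup G, M.Normal → K ≤ M → M ≤ N → M = K ∨ M = N) (hab : ⁅N, N⁆ ≤ K) :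
    ∃ p k : ℕ, p.Prime ∧ K.relIndex N = p ^ k := by
  classical
  let A := ↥N ⧸ K.subgroupOf N
  have hcard : Nat.card A = K.relIndex N := rfl
  have hne1 : K.relIndex N ≠ 1 := by
    rw [Ne, Subgroup.relIndex_eq_one]
    exact not_le_of_gt hKN
  obtain ⟨p, hp, hpd⟩ := Nat.exists_prime_and_dvd hne1
  haveI : Fact p.Prime := ⟨hp⟩
  haveI : (K.subgroupOf N).Normal := Subgroup.normal_subgroupOf
  have hcomm : ∀ a ∈ N, ∀ b ∈ N, Commute ((a : G) : G ⧸ K) ((b : G) : G ⧸ K) := by
    intro a ha b hb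
    have h1 : a * b * a⁻¹ * b⁻¹ ∈ K := by
      apply hab
      exact Subgroup.commutator_mem_commutator ha hb
    have h2 : ((a * b * a⁻¹ * b⁻¹ : G) : G ⧸ K) = 1 := (QuotientGroup.eq_one_iff _).mpr h1
    show ((a : G) : G ⧸ K) * ((b : G) : G ⧸ K) = ((b : G) : G ⧸ K) * ((a : G) : G ⧸ K)
    have h3 : ((a : G) : G ⧸ K) * ((b : G) : G ⧸ K) * ((a : G) : G ⧸ K)⁻¹ * ((b : G) : G ⧸ K)⁻¹ = 1 :=
      h2
    have h4 := mul_inv_eq_one.mp h3
    exact mul_inv_eq_iff_eq_mul.mp h4
  let M : Subgroup G :=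
    { carrier := {g | g ∈ N ∧ g ^ p ∈ K}
      mul_mem' := by
        rintro a b ⟨ha, ha'⟩ ⟨hb, hb'⟩
        refine ⟨N.mul_mem ha hb, ?_⟩
        rw [← QuotientGroup.eq_one_iff] at ha' hb' ⊢
        have h1 : ((a * b : G) : G ⧸ K) = (a : G ⧸ K) * (b : G ⧸ K) := rfl
        have h2 : ((a ^ p : G) : G ⧸ K) = (a : G ⧸ K) ^ p := rfl
        have h3 : ((b ^ p : G) : G ⧸ K) = (b : G ⧸ K) ^ p := rfl
        have h4 : (((a * b) ^ p : G) : G ⧸ K) = ((a * b : G) : G ⧸ K) ^ p := rfl
        rw [h4, h1, (hcomm a ha b hb).mul_pow, ← h2, ← h3, ha', hb', mul_one]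
      one_mem' := ⟨N.one_mem, by simp⟩
      inv_mem' := by
        rintro a ⟨ha, ha'⟩
        refine ⟨N.inv_mem ha, ?_⟩
        rw [inv_pow]
        exact K.inv_mem ha' }
  have hMn : M.Normal := by
    constructor
    rintro a ⟨ha, ha'⟩ g
    refine ⟨hN.conj_mem a ha g, ?_⟩
    rw [conj_pow]
    exact hK.conj_mem _ ha' g
  have hKM : K ≤ M := fun k hk => ⟨hKN.le hk, K.pow_mem hk p⟩
  have hMN : M ≤ N := fun g hg => hg.1
  have hallp : ∀ n ∈ N, n ^ p ∈ K := by
    rcases hchief M hMn hKM hMN with h | h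
    · exfalso
      obtain ⟨a, ha⟩ : ∃ a : A, orderOf a = p := exists_prime_orderOf_dvd_card' p (by rwa [hcard])
      obtain ⟨n, rfl⟩ := QuotientGroup.mk_surjective a
      have h1 : (n : ↥N ⧸ K.subgroupOf N) ^ p = 1 := by
        rw [← ha]
        exact pow_orderOf_eq_one _
      have h2 : (n : G) ^ p ∈ K := by
        have h3 : ((n ^ p : ↥N) : ↥N ⧸ K.subgroupOf N) = 1 := h1
        have h4 := (QuotientGroup.eq_one_iff _).mp h3
        exact h4
      have h3 : (n : G) ∈ K := by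
        rw [← h]
        exact ⟨n.2, h2⟩
      have h4 : (n : ↥N ⧸ K.subgroupOf N) = 1 := (QuotientGroup.eq_one_iff _).mpr h3
      rw [h4, orderOf_one] at ha
      exact hp.one_lt.ne ha
    · intro n hn
      rw [← h] at hn
      exact hn.2
  have hpg : IsPGroup p A := by
    intro a
    obtain ⟨n, rfl⟩ := QuotientGroup.mk_surjective a
    refine ⟨1, ?_⟩
    rw [pow_one]
    have : ((n ^ p : ↥N) : ↥N ⧸ K.subgroupOf N) = 1 :=
      (QuotientGroup.eq_one_iff _).mpr (hallp n n.2)
    exact this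
  obtain ⟨k, hk⟩ := IsPGroup.iff_card.mp hpg
  exact ⟨p, k, hp, by rw [← hcard, hk]⟩

end Chief

section Ramified

variable {G : Type u} [Group G] [Fintype G]

/-- Over a normal subgroup with abelian `p`-subgroups there is no fully ramified section of
`p`-power order. -/
theorem not_fully_ramified {K N : Subgroup G} [hK : K.Normal] [hN : N.Normal] (hKN : K < N)
    (hab : HAb N) {p k : ℕ} (hp : p.Prime) (hk : K.relIndex N = p ^ k)
    {ϑ : N → ℂ} (hϑ : IsIrrCharacter N ϑ) {η : K → ℂ} (hη : IsIrrCharacter K η) {e : ℕ}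
    (hres : (fun x : K => ϑ ⟨(x : G), hKN.le x.2⟩) = (e : ℂ) • η) (he : e ^ 2 = K.relIndex N) :
    False := by
  classical
  haveI : Fact p.Prime := ⟨hp⟩
  letI : Fintype N := Fintype.ofFinite _
  let K' : Subgroup N := K.subgroupOf N
  haveI hK'n : K'.Normal := Subgroup.normal_subgroupOf
  letI : Fintype K' := Fintype.ofFinite _
  letI : Fintype K := Fintype.ofFinite _
  let ε : K' ≃* K := Subgroup.subgroupOfEquivOfLe hKN.le
  have hε : ∀ x : K', ((ε x : K) : G) = ((x : N) : G) := fun x => rfl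
  let η' : K' → ℂ := η ∘ ε
  have hη' : IsIrrCharacter K' η' := isIrrCharacter_comp_of_surjective ε.toMonoidHom ε.surjective hη
  have hne1 : K.relIndex N ≠ 1 := by
    rw [Ne, Subgroup.relIndex_eq_one]
    exact not_le_of_gt hKN
  have he1 : e ≠ 1 := by
    rintro rfl
    exact hne1 (by rw [← he]; norm_num)
  have he0 : e ≠ 0 := by
    rintro rfl
    have : K.relIndex N ≠ 0 := by
      show (K.subgroupOf N).index ≠ 0
      exact Subgroup.index_ne_zero_of_finite
    exact this (by rw [← he]; norm_num)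
  have heC : (e : ℂ) ≠ 0 := by exact_mod_cast he0
  have hres' : (fun x : K' => ϑ x) = (e : ℂ) • η' := by
    funext x
    exact congrFun hres (ε x)
  have hϑc := IsIrrCharacter.isCharacter hϑ
  have hcl := isClassFunction_of_isCharacter hϑc
  have hinv' : ∀ (g : N) (n : K'), η' ⟨g * n * g⁻¹, hK'n.conj_mem (n : N) n.2 g⟩ = η' n := by
    intro g n
    have h1 : ∀ y : K', ϑ y = (e : ℂ) * η' y := by
      intro y
      exact congrFun hres' y
    have h2 := h1 ⟨g * n * g⁻¹, hK'n.conj_mem (n : N) n.2 g⟩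
    have h3 := h1 n
    have h4 : ϑ ((⟨g * n * g⁻¹, hK'n.conj_mem (n : N) n.2 g⟩ : K') : N) = ϑ (n : N) := by
      show ϑ (g * n * g⁻¹) = ϑ n
      exact hcl (n : N) g
    rw [h4, h3] at h2
    exact (mul_left_cancel₀ heC h2).symm
  let P : Sylow p N := default
  have hPab : ∀ a ∈ (P : Subgroup N), ∀ b ∈ (P : Subgroup N), a * b = b * a := by
    intro a ha b hb
    have hP' : IsPGroup p ((P : Subgroup N).map N.subtype) := P.isPGroup'.map N.subtype
    have hle : (P : Subgroup N).map N.subtype ≤ N := by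
      rintro _ ⟨x, -, rfl⟩
      exact x.2
    exact Subtype.ext (hab p hp _ hle hP' a ⟨a, ha, rfl⟩ b ⟨b, hb, rfl⟩)
  have hcent : ∀ x ∈ (P : Subgroup N) ⊓ K', ∀ y ∈ (P : Subgroup N), x * y = y * x :=
    fun x hx y hy => hPab x hx.1 y hy
  have hlin : ∀ lam : ↥((P : Subgroup N) ⊓ K') → ℂ, IsCharacter ↥((P : Subgroup N) ⊓ K') lam →
      lam 1 = 1 → ∃ μ : ↥(P : Subgroup N) → ℂ, IsCharacter ↥(P : Subgroup N) μ ∧ μ 1 = 1 ∧
        ∀ x : ↥((P : Subgroup N) ⊓ K'), μ ⟨(x : N), x.2.1⟩ = lam x := by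
    intro lam hlam hlam1
    obtain ⟨f, hf⟩ := exists_hom_of_degree_one hlam hlam1
    have hPc : ∀ a b : ↥(P : Subgroup N), a * b = b * a :=
      fun a b => Subtype.ext (hPab a a.2 b b.2)
    let j : ↥((P : Subgroup N) ⊓ K') →* ↥(P : Subgroup N) := Subgroup.inclusion inf_le_left
    obtain ⟨f', hf'⟩ := exists_extend_hom hPc j (Subgroup.inclusion_injective _) f
    refine ⟨fun x => ((f' x : ℂˣ) : ℂ), IsIrrCharacter.isCharacter (isIrrCharacter_of_hom f'),
      by simp, fun x => ?_⟩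
    rw [hf x, ← hf' x]
    rfl
  obtain ⟨χ₁, hχ₁, hχ₁r⟩ := ext_of_central_sylow p K' ⟨k, hk⟩ P hcent hlin η' hη' hinv'
  obtain ⟨b, hb, hsum⟩ := Cfsg.Agent.Lib.FullyRam.sum_sq_mult K' hη' hinv'
  have hb1 : (b ⟨χ₁, hχ₁⟩ : ℂ) = 1 := by
    rw [← hb ⟨χ₁, hχ₁⟩]
    have : (fun n : K' => χ₁ n) = η' := funext hχ₁r
    show classInner (fun n : K' => χ₁ n) η' = 1
    rw [this]
    exact classInner_irr_self hη'
  have hb2 : (b ⟨ϑ, hϑ⟩ : ℂ) = e := by
    rw [← hb ⟨ϑ, hϑ⟩]
    show classInner (fun n : K' => ϑ n) η' = e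
    rw [hres', classInner_smul_left, classInner_irr_self hη', mul_one]
  have hb1' : b ⟨χ₁, hχ₁⟩ = 1 := by exact_mod_cast hb1
  have hb2' : b ⟨ϑ, hϑ⟩ = e := by exact_mod_cast hb2
  have hindex : K'.index = e ^ 2 := by
    rw [he]
    rfl
  by_cases heq : (⟨χ₁, hχ₁⟩ : IrrCharacter N) = ⟨ϑ, hϑ⟩
  · rw [heq, hb2'] at hb1'
    exact he1 hb1'
  · have h1 : ∑ ξ ∈ ({⟨χ₁, hχ₁⟩, ⟨ϑ, hϑ⟩} : Finset (IrrCharacter N)), b ξ ^ 2 ≤ ∑ ξ, b ξ ^ 2 :=
      Finset.sum_le_sum_of_subset (Finset.subset_univ _)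
    rw [Finset.sum_pair heq, hb1', hb2', hsum, hindex] at h1
    omega

end Ramified

section Main

/-- The case of characters irreducible over `N`. -/
theorem main : ∀ (n : ℕ) (G : Type u) [Group G] [Fintype G] [Group.IsSolvable G] (N : Subgroup G)
    [N.Normal], Nat.card N = n → HAb N → ∀ χ : G → ℂ, IsIrrCharacter G χ →
    IsIrrCharacter N (fun x : N => χ x) →
    ∃ (U : Subgroup G) (lam : U → ℂ), IsCharacter U lam ∧ lam 1 = 1 ∧ indFun U lam = χ := by
  intro n
  induction n using Nat.strong_induction_on with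
  | _ n ih =>
    intro G _ _ _ N hN hn hab χ hχ hχN
    classical
    have hχc := IsIrrCharacter.isCharacter hχ
    have hcl := isClassFunction_of_isCharacter hχc
    by_cases hNbot : N = ⊥
    · subst hNbot
      have hcomm : ∀ a b : (⊥ : Subgroup G), a * b = b * a := fun a b => by
        rw [Subsingleton.elim a b]
      have h1 : (fun x : (⊥ : Subgroup G) => χ x) 1 = 1 :=
        Cfsg.Agent.Lib.CharCodegP.irr_one_of_comm hcomm hχN
      have h1' : χ 1 = 1 := by simpa using h1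
      have htop : IsCharacter (⊤ : Subgroup G) (fun m : (⊤ : Subgroup G) => χ m) :=
        isCharacter_restrict ⊤ hχc
      refine ⟨⊤, fun m => χ m, htop, by simpa using h1', ?_⟩
      funext g
      rw [indFun_top _ (isClassFunction_of_isCharacter htop)]
    have hlt : ⊥ < N := bot_lt_iff_ne_bot.mpr hNbot
    have hfin : ({L : Subgroup G | L.Normal ∧ L < N}).Finite := Set.toFinite _
    obtain ⟨K, hKmax⟩ := hfin.exists_maximal ⟨⊥, inferInstance, hlt⟩
    obtain ⟨hKn, hKN⟩ := hKmax.prop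
    have hchief : ∀ M' : Subgroup G, M'.Normal → K ≤ M' → M' ≤ N → M' = K ∨ M' = N := by
      intro M' hM' hKM' hM'N
      by_cases hE : M' = N
      · exact Or.inr hE
      · left
        have hlt : M' < N := lt_of_le_of_ne hM'N hE
        exact hKmax.eq_of_ge ⟨hM', hlt⟩ hKM'
    have hs : Group.IsSolvable (G ⧸ (⊥ : Subgroup G)) := inferInstance
    have hcomm : ⁅N, N⁆ ≤ K := commutator_le_of_chief hs bot_le hKN hchief
    have hcardlt : Nat.card K < n := by
      rw [← hn]
      by_contra hcon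
      exact hKN.ne (Subgroup.eq_of_le_of_card_ge hKN.le (not_lt.mp hcon))
    have hinv : ∀ (g : G) (x : N), (fun m : N => χ m) ⟨g * x * g⁻¹, hN.conj_mem (x : G) x.2 g⟩ =
        (fun m : N => χ m) x := by
      intro g x
      exact hcl (x : G) g
    rcases Cfsg.Agent.S0857.result N K hKN hchief hcomm _ hχN hinv with h | ⟨φ, e, hφ, hres, he⟩ |
      ⟨F, hF, hcard, hsum⟩
    · exact ih _ hcardlt G K rfl (hab.mono hKN.le) χ hχ h
    · exfalso
      obtain ⟨p, k, hp, hk⟩ := exists_prime_pow_relIndex hKN hchief hcomm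
      exact not_fully_ramified hKN hab hp hk hχN hφ hres he
    · -- the character splits
      letI : Fintype K := Fintype.ofFinite _
      have hF0 : F.Nonempty := by
        rw [← Finset.card_pos, hcard]
        have : (K.subgroupOf N).index ≠ 0 := Subgroup.index_ne_zero_of_finite
        exact Nat.pos_of_ne_zero this
      obtain ⟨η, hηF⟩ := hF0
      have hη := hF η hηF
      have hsum' : (fun x : K => χ x) = ∑ φ ∈ F, φ := hsum
      have hmult : classInner (fun x : K => χ x) η = 1 := by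
        rw [hsum', classInner_sum_left, Finset.sum_eq_single η]
        · exact classInner_irr_self hη
        · intro d hd hdc
          exact classInner_irr_ne (hF d hd) hη hdc
        · intro h
          exact absurd hηF h
      let T := inertia K hKn η
      have hKT : K ≤ T := le_inertia K hKn (IsIrrCharacter.isCharacter hη)
      obtain ⟨ψ, hψ, hind, hψmult⟩ := exists_inertia_char K T hη (mem_inertia K hKn η) hKT hχ
        (by rw [hmult]; exact one_ne_zero)
      have hover : classInner (fun x : K => ψ ⟨(x : G), hKT x.2⟩) η ≠ 0 := by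
        rw [hψmult, hmult]
        exact one_ne_zero
      obtain ⟨e', he'0, hψres, hψe⟩ := restrict_inertia_eq_smul K T hη (mem_inertia K hKn η) hKT hψ
        hover
      have he'1 : e' = 1 := by
        have : (e' : ℂ) = 1 := by rw [← hψe, hψmult, hmult]
        exact_mod_cast this
      subst he'1
      letI : Fintype T := Fintype.ofFinite _
      let K' : Subgroup T := K.subgroupOf T
      haveI hK'n : K'.Normal := Subgroup.normal_subgroupOf
      let ε : K' ≃* K := Subgroup.subgroupOfEquivOfLe hKT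
      have hirr : IsIrrCharacter K' (fun x : K' => ψ x) := by
        have h1 : (fun x : K' => ψ x) = η ∘ ε := by
          funext x
          have h2 := congrFun hψres (ε x)
          simp only [Nat.cast_one, one_smul] at h2
          exact h2
        rw [h1]
        exact isIrrCharacter_comp_of_surjective ε.toMonoidHom ε.surjective hη
      have hcardK' : Nat.card K' = Nat.card K := Nat.card_congr ε.toEquiv
      obtain ⟨U', lam', hlam', hlam1, hlamind⟩ := ih _ hcardlt (↥T) K' hcardK'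
        (hab.mono hKN.le |>.subgroupOf T) ψ hψ hirr
      let e := mapEquiv T U'
      refine ⟨U'.map T.subtype, lam' ∘ e.symm, isCharacter_comp e.symm.toMonoidHom hlam', ?_, ?_⟩
      · simp [hlam1]
      · rw [indFun_map_subtype, hlamind, hind]

/-- Dade's theorem. -/
theorem dade {G : Type u} [Group G] [Fintype G] [Group.IsSolvable G] (N : Subgroup G) [N.Normal]
    (hab : HAb N)
    (hrel : ∀ χ : G → ℂ, IsIrrCharacter G χ → ∃ (H : Subgroup G) (hNH : N ≤ H) (ψ : H → ℂ),
      IsIrrCharacter H ψ ∧ indFun H ψ = χ ∧ IsIrrCharacter N (fun n : N => ψ ⟨(n : G), hNH n.2⟩))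
    (χ : G → ℂ) (hχ : IsIrrCharacter G χ) :
    ∃ (U : Subgroup G) (lam : U → ℂ), IsCharacter U lam ∧ lam 1 = 1 ∧ indFun U lam = χ := by
  classical
  obtain ⟨H, hNH, ψ, hψ, hind, hres⟩ := hrel χ hχ
  letI : Fintype H := Fintype.ofFinite _
  let N' : Subgroup H := N.subgroupOf H
  haveI : N'.Normal := Subgroup.normal_subgroupOf
  let ε : N' ≃* N := Subgroup.subgroupOfEquivOfLe hNH
  have hirr : IsIrrCharacter N' (fun x : N' => ψ x) :=
    isIrrCharacter_comp_of_surjective ε.toMonoidHom ε.surjective hres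
  obtain ⟨U', lam', hlam', hlam1, hlamind⟩ := main _ (↥H) N' rfl (hab.subgroupOf H) ψ hψ hirr
  let e := mapEquiv H U'
  refine ⟨U'.map H.subtype, lam' ∘ e.symm, isCharacter_comp e.symm.toMonoidHom hlam', ?_, ?_⟩
  · simp [hlam1]
  · rw [indFun_map_subtype, hlamind, hind]

end Main

end Cfsg.Agent.Lib.DadeMono
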