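import Mathlib
import Cfsg.Agent.S0857
import Cfsg.Agent.Lib.CosetAvg
import Cfsg.Agent.Lib.RelMono
import Cfsg.Agent.Lib.DadeMono
import Cfsg.Agent.Lib.Monomial

/-!
# Characters induced from a maximal subgroup, irreducible over the core

Mackey's formula for a normal supplement, and the lemma preceding Berger's theorem.
-/

set_option autoImplicit false
set_option linter.style.haveILetI false
set_option linter.unusedVariables false
set_option linter.unusedSectionVars false

namespace Cfsg.Agent.Lib.BergerLemma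

open Cfsg Cfsg.Agent.Lib.CharBasic Cfsg.Agent.Lib.CharInd Cfsg.Agent.Lib.CharInduction
open Cfsg.Agent.Lib.Clifford Cfsg.Agent.Lib.CharClifford Cfsg.Agent.Lib.CosetAvg
open Cfsg.Agent.Lib.RelMono Cfsg.Agent.Lib.DadeMono
open scoped ComplexConjugate commutatorElement

universe u

section Irr

variable {A : Type u} [Group A] [Fintype A]

/-- An irreducible character is not a sum of two nonzero characters. -/
theorem eq_zero_of_irr_eq_add {α β γ : A → ℂ} (hα : IsIrrCharacter A α) (hβ : IsCharacter A β)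
    (hγ : IsCharacter A γ) (h : α = β + γ) : β = 0 ∨ γ = 0 := by
  obtain ⟨n₁, h₁⟩ := classInner_char_char hβ hβ
  obtain ⟨n₂, h₂⟩ := classInner_char_char hγ hγ
  obtain ⟨n₃, h₃⟩ := classInner_char_char hβ hγ
  obtain ⟨n₄, h₄⟩ := classInner_char_char hγ hβ
  have h1 := classInner_irr_self hα
  rw [h, classInner_add_left, classInner_add_right,
    classInner_add_right, h₁, h₂, h₃, h₄] at h1
  have h2 : n₁ + n₃ + (n₄ + n₂) = 1 := by exact_mod_cast h1
  by_cases hn : n₁ = 0
  · left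
    apply classInner_self_eq_zero
    rw [h₁, hn]
    simp
  · right
    have : n₂ = 0 := by omega
    apply classInner_self_eq_zero
    rw [h₂, this]
    simp

variable {B : Type u} [Group B] [Fintype B]

/-- A character whose composite with a homomorphism is irreducible is irreducible. -/
theorem irr_of_comp_irr (j : A →* B) {ψ : B → ℂ} (hψ : IsCharacter B ψ)
    (hj : IsIrrCharacter A (ψ ∘ j)) : IsIrrCharacter B ψ := by
  classical
  obtain ⟨m, hm⟩ := exists_nat_decomp hψ
  have h1 : ψ 1 ≠ 0 := by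
    have := irr_degree_ne_zero hj
    simpa using this
  obtain ⟨i₀, hi₀⟩ : ∃ i₀, m i₀ ≠ 0 := by
    by_contra hcon
    push Not at hcon
    apply h1
    rw [hm]
    simp [Finset.sum_apply, hcon]
  let m' : IrrCharacter B → ℕ := Function.update m i₀ (m i₀ - 1)
  let ψ' : B → ℂ := ∑ i, m' i • (i : B → ℂ)
  have hψ'c : IsCharacter B ψ' := isCharacter_of_nat_decomp m'
  have hdec : ψ = (i₀ : B → ℂ) + ψ' := by
    have : m = Function.update m' i₀ (m' i₀ + 1) := by
      funext i
      by_cases hi : i = i₀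
      · subst hi
        simp [m']
        omega
      · simp [m', hi]
    rw [hm]
    conv_lhs => rw [this]
    simp only [ψ']
    rw [← Finset.add_sum_erase _ _ (Finset.mem_univ i₀), ← Finset.add_sum_erase (Finset.univ) (fun i => m' i • (i : B → ℂ)) (Finset.mem_univ i₀)]
    rw [Function.update_self, add_smul, one_smul]
    have : ∑ x ∈ Finset.univ.erase i₀, Function.update m' i₀ (m' i₀ + 1) x • (x : B → ℂ) =
        ∑ x ∈ Finset.univ.erase i₀, m' x • (x : B → ℂ) := by
      refine Finset.sum_congr rfl fun x hx => ?_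
      rw [Function.update_of_ne (Finset.ne_of_mem_erase hx)]
    rw [this]
    abel
  have hsplit : ψ ∘ j = ((i₀ : B → ℂ) ∘ j) + (ψ' ∘ j) := by
    rw [hdec]
    rfl
  rcases eq_zero_of_irr_eq_add hj (isCharacter_comp j (IsIrrCharacter.isCharacter i₀.2))
    (isCharacter_comp j hψ'c) hsplit with h | h
  · exfalso
    have := congrFun h 1
    simp only [Function.comp_apply, map_one, Pi.zero_apply] at this
    exact irr_degree_ne_zero i₀.2 this
  · have h2 : ψ' 1 = 0 := by
      have := congrFun h 1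
      simpa using this
    have h3 := eq_zero_of_one_eq_zero hψ'c h2
    rw [hdec, h3, add_zero]
    exact i₀.2

end Irr

section Mackey

variable {G : Type u} [Group G] [Fintype G]

/-- Cardinality of a product with a normal subgroup. -/
theorem card_mul_of_sup (H M : Subgroup G) [hM : M.Normal] (hsup : H ⊔ M = ⊤) :
    Nat.card G * Nat.card (H.subgroupOf M) = Nat.card H * Nat.card M := by
  have e1 : M.relIndex (H ⊔ M) = M.relIndex H := Subgroup.relIndex_sup_right H M
  rw [hsup, Subgroup.relIndex_top_right] at e1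
  have e2 : Nat.card M * M.index = Nat.card G := Subgroup.card_mul_index M
  have e3 : Nat.card (M.subgroupOf H) * (M.subgroupOf H).index = Nat.card H :=
    Subgroup.card_mul_index _
  have e4 : (M.subgroupOf H).index = M.relIndex H := rfl
  have e5 : Nat.card (H.subgroupOf M) = Nat.card (M.subgroupOf H) := by
    refine Nat.card_congr ⟨fun x => ⟨⟨x.1.1, x.2⟩, x.1.2⟩, fun x => ⟨⟨x.1.1, x.2⟩, x.1.2⟩, ?_, ?_⟩
    · intro x
      rfl
    · intro x
      rfl
  rw [e5, ← e2, ← e3, e4, e1]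
  ring

/-- Summing a function over `G` which is right invariant under a supplement `H` of `M`. -/
theorem sum_of_right_invariant (H M : Subgroup G) [hM : M.Normal] [Fintype M] (hsup : H ⊔ M = ⊤)
    (g : G → ℂ) (hg : ∀ (x : G), ∀ h ∈ H, g (x * h) = g x) :
    (Nat.card M : ℂ) * ∑ x : G, g x = (Nat.card G : ℂ) * ∑ z : M, g z := by
  have h1 : ∀ x : G, ∑ z : M, g ((z : G) * x) = ∑ z : M, g z := by
    intro x
    have hmem : x ∈ H ⊔ M := by rw [hsup]; trivial
    have hmem' : x ∈ M ⊔ H := by rwa [sup_comm]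
    obtain ⟨z₁, hz₁, h₁, hh₁, rfl⟩ := Subgroup.mem_sup_of_normal_left.mp hmem'
    have h2 : ∀ z : M, g ((z : G) * (z₁ * h₁)) = g ((z * ⟨z₁, hz₁⟩ : M) : G) := by
      intro z
      rw [← mul_assoc, hg _ h₁ hh₁]
      rfl
    simp_rw [h2]
    exact Fintype.sum_equiv (Equiv.mulRight ⟨z₁, hz₁⟩) _ _ fun z => rfl
  have h2 : ∑ z : M, ∑ x : G, g ((z : G) * x) = ∑ x : G, ∑ z : M, g ((z : G) * x) :=
    Finset.sum_comm
  have h3 : ∀ z : M, ∑ x : G, g ((z : G) * x) = ∑ x : G, g x := fun z =>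
    Fintype.sum_equiv (Equiv.mulLeft (z : G)) _ _ fun x => rfl
  simp_rw [h3, h1] at h2
  simp only [Finset.sum_const, Finset.card_univ, nsmul_eq_mul] at h2
  rw [← Nat.card_eq_fintype_card, ← Nat.card_eq_fintype_card] at h2
  exact h2

/-- Mackey's formula for a normal supplement. -/
theorem indFun_restrict_of_sup (H M : Subgroup G) [hM : M.Normal] [Fintype M] (hsup : H ⊔ M = ⊤)
    {θ : H → ℂ} (hθ : IsClassFunction H θ) (y : M) :
    indFun H θ (y : G) =
      indFun (H.subgroupOf M) (fun x => θ ⟨((x : M) : G), Subgroup.mem_subgroupOf.mp x.2⟩) y := by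
  classical
  set θ' : H.subgroupOf M → ℂ := fun x => θ ⟨((x : M) : G), Subgroup.mem_subgroupOf.mp x.2⟩ with hθ'
  let g : G → ℂ := fun x => extendByZero H θ (x⁻¹ * y * x)
  have hg : ∀ (x : G), ∀ h ∈ H, g (x * h) = g x := by
    intro x h hh
    show extendByZero H θ ((x * h)⁻¹ * y * (x * h)) = extendByZero H θ (x⁻¹ * y * x)
    have : (x * h)⁻¹ * (y : G) * (x * h) = h⁻¹ * (x⁻¹ * y * x) * h := by group
    rw [this]
    by_cases hmem : x⁻¹ * (y : G) * x ∈ H
    · have h2 : h⁻¹ * (x⁻¹ * (y : G) * x) * h ∈ H :=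
        H.mul_mem (H.mul_mem (H.inv_mem hh) hmem) hh
      rw [extendByZero_of_mem H θ h2, extendByZero_of_mem H θ hmem]
      have h3 := hθ ⟨x⁻¹ * y * x, hmem⟩ (⟨h, hh⟩ : H)⁻¹
      rw [← h3]
      congr 1
      apply Subtype.ext
      simp
    · have h2 : h⁻¹ * (x⁻¹ * (y : G) * x) * h ∉ H := by
        intro h3
        apply hmem
        have h4 := H.mul_mem (H.mul_mem hh h3) (H.inv_mem hh)
        simpa [mul_assoc] using h4
      rw [extendByZero_of_not_mem H θ h2, extendByZero_of_not_mem H θ hmem]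
  have hsum := sum_of_right_invariant H M hsup g hg
  have hcard := card_mul_of_sup H M hsup
  have hcard' : (Nat.card G : ℂ) * (Nat.card (H.subgroupOf M) : ℂ) =
      (Nat.card H : ℂ) * (Nat.card M : ℂ) := by exact_mod_cast hcard
  have hext : ∀ z : M, g z = extendByZero (H.subgroupOf M) θ' (z⁻¹ * y * z) := by
    intro z
    show extendByZero H θ (((z : G))⁻¹ * y * z) = _
    by_cases hmem : (z : G)⁻¹ * (y : G) * z ∈ H
    · have h2 : z⁻¹ * y * z ∈ H.subgroupOf M := by
        rw [Subgroup.mem_subgroupOf]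
        simpa using hmem
      rw [extendByZero_of_mem H θ hmem, extendByZero_of_mem _ θ' h2]
      rfl
    · have h2 : z⁻¹ * y * z ∉ H.subgroupOf M := by
        rw [Subgroup.mem_subgroupOf]
        simpa using hmem
      rw [extendByZero_of_not_mem H θ hmem, extendByZero_of_not_mem _ θ' h2]
  show (Nat.card H : ℂ)⁻¹ * ∑ x : G, g x =
    (Nat.card (H.subgroupOf M) : ℂ)⁻¹ * ∑ z : M, extendByZero (H.subgroupOf M) θ' (z⁻¹ * y * z)
  simp_rw [← hext]
  have hH : (Nat.card H : ℂ) ≠ 0 := natCard_ne_zero'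
  have hM' : (Nat.card M : ℂ) ≠ 0 := natCard_ne_zero'
  have hU : (Nat.card (H.subgroupOf M) : ℂ) ≠ 0 := natCard_ne_zero'
  have hG : (Nat.card G : ℂ) ≠ 0 := natCard_ne_zero'
  field_simp
  have h5 : (Nat.card M : ℂ) * ((Nat.card (H.subgroupOf M) : ℂ) * ∑ x : G, g x) =
      (Nat.card M : ℂ) * ((Nat.card H : ℂ) * ∑ z : M, g z) := by
    calc _ = (Nat.card (H.subgroupOf M) : ℂ) * ((Nat.card M : ℂ) * ∑ x : G, g x) := by ring
      _ = (Nat.card (H.subgroupOf M) : ℂ) * ((Nat.card G : ℂ) * ∑ z : M, g z) := by rw [hsum]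
      _ = ((Nat.card G : ℂ) * (Nat.card (H.subgroupOf M) : ℂ)) * ∑ z : M, g z := by ring
      _ = _ := by rw [hcard']; ring
  have h6 := mul_left_cancel₀ hM' h5
  linear_combination h6

end Mackey

section Central

variable {G : Type u} [Group G]

/-- An element of a normal section inside a `p`-section which is central modulo the bottom. -/
theorem exists_central_of_pgroup [Finite G] {p : ℕ} [hp : Fact p.Prime] {L V Y : Subgroup G}
    [hL : L.Normal] [hV : V.Normal] (hLV : L < V) (hVY : V ≤ Y) {k : ℕ}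
    (hk : L.relIndex Y = p ^ k) :
    ∃ v ∈ V, v ∉ L ∧ ∀ y ∈ Y, y * v * y⁻¹ * v⁻¹ ∈ L := by
  classical
  let L' : Subgroup Y := L.subgroupOf Y
  haveI hL' : L'.Normal := Subgroup.normal_subgroupOf
  let D := ↥Y ⧸ L'
  have hD : IsPGroup p D := IsPGroup.of_card (n := k) hk
  haveI hnil : Group.IsNilpotent D := hD.isNilpotent
  let img : Set D := {a | ∃ v : Y, (v : G) ∈ V ∧ (v : D) = a}
  let Z : Set D := {a | a = 1 ∨ a ∉ img}
  obtain ⟨v₀, hv₀V, hv₀L⟩ : ∃ v₀ ∈ V, v₀ ∉ L := by
    by_contra hcon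
    push Not at hcon
    exact hLV.not_ge hcon
  have hmkL : ∀ v : Y, (v : D) = 1 ↔ (v : G) ∈ L := fun v => QuotientGroup.eq_one_iff v
  obtain ⟨a, haZ, hacomm⟩ := Cfsg.Agent.Lib.Monomial.exists_central_mod Z (Or.inl rfl)
    ⟨((⟨v₀, hVY hv₀V⟩ : Y) : D), fun h => by
      rcases h with h | h
      · exact hv₀L ((hmkL _).mp h)
      · exact h ⟨⟨v₀, hVY hv₀V⟩, hv₀V, rfl⟩⟩
  have ha1 : a ≠ 1 := fun h => haZ (Or.inl h)
  have haimg : a ∈ img := by
    by_contra h
    exact haZ (Or.inr h)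
  obtain ⟨v, hvV, rfl⟩ := haimg
  refine ⟨v, hvV, fun h => ha1 ((hmkL v).mpr h), fun y hy => ?_⟩
  have h1 := hacomm ((⟨y, hy⟩ : Y) : D)
  have hmem : ((⟨y, hy⟩ : Y) * v * (⟨y, hy⟩ : Y)⁻¹ * v⁻¹ : Y) ∈ V.subgroupOf Y := by
    rw [Subgroup.mem_subgroupOf]
    simp only [Subgroup.coe_mul, Subgroup.coe_inv]
    exact V.mul_mem (hV.conj_mem _ hvV y) (V.inv_mem hvV)
  have h2 : (((⟨y, hy⟩ : Y) * v * (⟨y, hy⟩ : Y)⁻¹ * v⁻¹ : Y) : D) =
      ((⟨y, hy⟩ : Y) : D) * (v : D) * ((⟨y, hy⟩ : Y) : D)⁻¹ * (v : D)⁻¹ := rfl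
  rcases h1 with h1 | h1
  · rw [← h2] at h1
    exact (hmkL _).mp h1
  · exfalso
    apply h1
    exact ⟨_, Subgroup.mem_subgroupOf.mp hmem, h2⟩

end Central

section Coset

variable {Y : Type u} [Group Y] [Fintype Y]

/-- The final counting on two cosets. -/
theorem coset_contra (V L : Subgroup Y) [hV : V.Normal] [hL : L.Normal] [Fintype V] [Fintype L]
    (hLV : L ≤ V) {μ : Y → ℂ} (hμ : IsCharacter Y μ) (hμV : IsIrrCharacter V (fun n : V => μ n))
    (u v₀ : Y) (hv₀ : v₀ ∈ V) (hc : v₀ * u * v₀⁻¹ * u⁻¹ ∉ L)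
    (hsum : ∑ l : L, μ (l * u) * conj (μ (l * u)) = (Nat.card V : ℂ)) : False := by
  classical
  have h0 := avg_norm_sq_eq_one V hμ hμV u
  have hVne : (Nat.card V : ℂ) ≠ 0 := natCard_ne_zero'
  have h1 : ∑ n : V, μ (n * u) * conj (μ (n * u)) = (Nat.card V : ℂ) := by
    field_simp at h0
    exact h0
  let F : V → ℝ := fun n => Complex.normSq (μ (n * u))
  let a : L → ℝ := fun l => Complex.normSq (μ (l * u))
  have hF : ∑ n, F n = (Nat.card V : ℝ) := by
    have : ((∑ n, F n : ℝ) : ℂ) = ((Nat.card V : ℝ) : ℂ) := by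
      push_cast
      rw [← h1]
      refine Finset.sum_congr rfl fun n _ => ?_
      rw [Complex.mul_conj]
    exact_mod_cast this
  have ha : ∑ l, a l = (Nat.card V : ℝ) := by
    have : ((∑ l, a l : ℝ) : ℂ) = ((Nat.card V : ℝ) : ℂ) := by
      push_cast
      rw [← hsum]
      refine Finset.sum_congr rfl fun n _ => ?_
      rw [Complex.mul_conj]
    exact_mod_cast this
  have hcV : v₀ * u * v₀⁻¹ * u⁻¹ ∈ V := by
    have h2 : u * v₀⁻¹ * u⁻¹ ∈ V := hV.conj_mem _ (V.inv_mem hv₀) u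
    have h3 := V.mul_mem hv₀ h2
    simpa [mul_assoc] using h3
  let c : V := ⟨v₀ * u * v₀⁻¹ * u⁻¹, hcV⟩
  let i₁ : L → V := fun l => ⟨l, hLV l.2⟩
  let i₂ : L → V := fun l => ⟨l, hLV l.2⟩ * c
  have hi₁ : Function.Injective i₁ := by
    intro x y h
    exact Subtype.ext (congrArg (fun z : V => (z : Y)) h)
  have hi₂ : Function.Injective i₂ := by
    intro x y h
    exact hi₁ (mul_right_cancel h)
  let S₁ := Finset.univ.image i₁
  let S₂ := Finset.univ.image i₂
  have hdisj : Disjoint S₁ S₂ := by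
    rw [Finset.disjoint_left]
    intro n hn₁ hn₂
    obtain ⟨x, -, rfl⟩ := Finset.mem_image.mp hn₁
    obtain ⟨y, -, hy⟩ := Finset.mem_image.mp hn₂
    apply hc
    have h2 : ((y : Y)) * (v₀ * u * v₀⁻¹ * u⁻¹) = x := congrArg (fun z : V => (z : Y)) hy
    have h3 : v₀ * u * v₀⁻¹ * u⁻¹ = (y : Y)⁻¹ * x := by
      rw [← h2]
      group
    rw [h3]
    exact L.mul_mem (L.inv_mem y.2) x.2
  have hS₁ : ∑ n ∈ S₁, F n = ∑ l, a l := by
    rw [Finset.sum_image (fun x _ y _ h => hi₁ h)]
  have hS₂ : ∑ n ∈ S₂, F n = ∑ l, a l := by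
    rw [Finset.sum_image (fun x _ y _ h => hi₂ h)]
    symm
    refine Fintype.sum_equiv (conjAut L hL v₀).toEquiv _ _ fun l => ?_
    show Complex.normSq (μ (l * u)) = Complex.normSq (μ (((conjAut L hL v₀ l : L) : Y) * c * u))
    have h2 : ((conjAut L hL v₀ l : L) : Y) * (c : Y) * u = v₀ * (l * u) * v₀⁻¹ := by
      rw [conjAut_apply]
      show v₀ * l * v₀⁻¹ * (v₀ * u * v₀⁻¹ * u⁻¹) * u = _
      group
    have h3 : μ (((conjAut L hL v₀ l : L) : Y) * c * u) = μ (l * u) := by
      rw [h2]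
      exact isClassFunction_of_isCharacter hμ _ _
    rw [h3]
  have hnonneg : ∀ n ∈ Finset.univ, n ∉ S₁ ∪ S₂ → 0 ≤ F n := fun n _ _ => Complex.normSq_nonneg _
  have hle : ∑ n ∈ S₁ ∪ S₂, F n ≤ ∑ n, F n :=
    Finset.sum_le_sum_of_subset_of_nonneg (Finset.subset_univ _) hnonneg
  rw [Finset.sum_union hdisj, hS₁, hS₂, ha, hF] at hle
  have hpos : (0 : ℝ) < Nat.card V := by exact_mod_cast Nat.card_pos
  linarith

end Coset

section Main

variable {G : Type u} [Group G] [Fintype G]

/-- A scalar multiple of a sum of at least two distinct irreducible characters is not homogeneous. -/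
theorem not_homog_smul {F : Finset (G → ℂ)} (hF : ∀ φ ∈ F, IsIrrCharacter G φ) (h1 : 1 < F.card)
    {φ' : G → ℂ} {c z : ℂ} (hc : c ≠ 0) (hφ' : IsIrrCharacter G φ')
    (h : c • ∑ φ ∈ F, φ = z • φ') : False := by
  classical
  obtain ⟨a, ha, b, hb, hab⟩ := Finset.one_lt_card.mp h1
  have key : ∀ d ∈ F, d = φ' := by
    intro d hd
    by_contra hne
    have h3 : classInner (c • ∑ φ ∈ F, φ) d = c := by
      rw [classInner_smul_left, classInner_sum_left, Finset.sum_eq_single d]
      · rw [classInner_irr_self (hF d hd), mul_one]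
      · intro e he hed
        exact classInner_irr_ne (hF e he) (hF d hd) hed
      · intro hc'
        exact absurd hd hc'
    rw [h, classInner_smul_left, classInner_irr_ne hφ' (hF d hd) (Ne.symm hne), mul_zero] at h3
    exact hc h3.symm
  exact hab ((key a ha).trans (key b hb).symm)

/-- The lemma for the core of `H`. -/
theorem false_of_core (L H : Subgroup G) [hL : L.Normal] (hLH : L ≤ H)
    (hcore : ∀ N : Subgroup G, N.Normal → N ≤ H → N ≤ L) (hmax : IsCoatom H)
    (hs : Group.IsSolvable (G ⧸ L)) (ϑ : H → ℂ) (hϑ : IsIrrCharacter H ϑ)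
    (hϑL : IsIrrCharacter L (fun x : L => ϑ ⟨(x : G), hLH x.2⟩))
    (hind : IsIrrCharacter G (indFun H ϑ))
    (hhom : ∀ M : Subgroup G, M.Normal → L ≤ M →
      ∃ (φ : M → ℂ) (e : ℕ), IsIrrCharacter M φ ∧ (fun m : M => indFun H ϑ m) = (e : ℂ) • φ) :
    False := by
  classical
  set χ : G → ℂ := indFun H ϑ with hχdef
  have hϑc := IsIrrCharacter.isCharacter hϑ
  have hϑcl := isClassFunction_of_isCharacter hϑc
  have hχc := IsIrrCharacter.isCharacter hind
  have hχcl := isClassFunction_of_isCharacter hχc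
  set φ : L → ℂ := fun x : L => ϑ ⟨(x : G), hLH x.2⟩ with hφdef
  -- values on `L`
  have hχL : ∀ n : L, χ n = (Nat.card H : ℂ)⁻¹ * ∑ x : G, conjBy L hL x⁻¹ φ n := by
    intro n
    show indFun H ϑ n = _
    rw [indFun_apply]
    congr 1
    refine Finset.sum_congr rfl fun x _ => ?_
    have hmem : x⁻¹ * (n : G) * x ∈ L := by
      have := hL.conj_mem (n : G) n.2 x⁻¹
      simpa using this
    rw [extendByZero_of_mem H ϑ (hLH hmem)]
    simp only [conjBy_apply, hφdef, inv_inv]
  obtain ⟨φ₀, e₀, hφ₀, hres₀⟩ := hhom L hL le_rfl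
  have hrn : ∀ x : G, ∃ r : ℕ, classInner (conjBy L hL x⁻¹ φ) φ = r := fun x =>
    classInner_char_irr (isCharacter_conjBy L hL x⁻¹ (IsIrrCharacter.isCharacter hϑL)) hϑL
  choose r hr using hrn
  have hr1 : r 1 = 1 := by
    have h1 := hr 1
    rw [inv_one, conjBy_one, classInner_irr_self hϑL] at h1
    exact_mod_cast h1.symm
  have hHne : (Nat.card H : ℂ) ≠ 0 := natCard_ne_zero'
  have hcon : classInner (fun n : L => χ n) φ ≠ 0 := by
    have h1 : (fun n : L => χ n) = (Nat.card H : ℂ)⁻¹ • ∑ x : G, conjBy L hL x⁻¹ φ := by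
      funext n
      rw [hχL n]
      simp [Finset.sum_apply]
    rw [h1, classInner_smul_left, classInner_sum_left]
    simp_rw [hr]
    apply mul_ne_zero (inv_ne_zero hHne)
    have h2 : 0 < ∑ x : G, r x :=
      Finset.sum_pos' (fun _ _ => Nat.zero_le _) ⟨1, Finset.mem_univ _, by rw [hr1]; exact one_pos⟩
    exact_mod_cast h2.ne'
  have heq₀ : ∀ ψ : L → ℂ, IsIrrCharacter L ψ → classInner (fun n : L => χ n) ψ ≠ 0 → ψ = φ₀ := by
    intro ψ hψ hne
    by_contra hne2
    apply hne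
    have : (fun n : L => χ n) = (e₀ : ℂ) • φ₀ := hres₀
    rw [this, classInner_smul_left, classInner_irr_ne hφ₀ hψ (Ne.symm hne2), mul_zero]
  have hφφ₀ := heq₀ φ hϑL hcon
  have hinvφ : ∀ g : G, conjBy L hL g φ = φ := by
    intro g
    rw [heq₀ (conjBy L hL g φ) (isIrrCharacter_conjBy L hL g hϑL) (by
      rw [classInner_restrict_conjBy L hL g hχcl]
      exact hcon), hφφ₀]
  have hindexH : (H.index : ℂ) * (Nat.card H : ℂ) = Nat.card G := by
    have := Subgroup.index_mul_card H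
    exact_mod_cast this
  have hχLval : ∀ n : L, χ n = (H.index : ℂ) * φ n := by
    intro n
    rw [hχL n]
    simp_rw [hinvφ]
    rw [Finset.sum_const, Finset.card_univ, ← Nat.card_eq_fintype_card, nsmul_eq_mul, ← hindexH]
    field_simp
  -- the chief factor `V / L`
  have hLtop : L ≠ ⊤ := fun h => hmax.1 (top_le_iff.mp (h ▸ hLH))
  have hfin : ({N : Subgroup G | N.Normal ∧ L < N}).Finite := Set.toFinite _
  obtain ⟨V, hVmin⟩ := hfin.exists_minimal ⟨⊤, inferInstance, lt_top_iff_ne_top.mpr hLtop⟩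
  obtain ⟨hVn, hLV⟩ := hVmin.prop
  have hchiefV : ∀ M : Subgroup G, M.Normal → L ≤ M → M ≤ V → M = L ∨ M = V := by
    intro M hM hLM hMV
    by_cases hE : M = L
    · exact Or.inl hE
    · right
      exact hVmin.eq_of_le ⟨hM, lt_of_le_of_ne hLM (Ne.symm hE)⟩ hMV
  have habV : ⁅V, V⁆ ≤ L := commutator_le_of_chief hs le_rfl hLV hchiefV
  have hVH : ¬ V ≤ H := fun h => hLV.not_ge (hcore V hVn h)
  have hsupV : H ⊔ V = ⊤ := hmax.2 _ (lt_of_le_of_ne le_sup_left (fun h => hVH (by
    rw [h]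
    exact le_sup_right)))
  have hcommV : ∀ v ∈ V, ∀ x ∈ V, v * x * v⁻¹ * x⁻¹ ∈ L := by
    intro v hv x hx
    apply habV
    exact Subgroup.commutator_mem_commutator hv hx
  have hinfV : H ⊓ V = L := by
    have hN₀ : (H ⊓ V).Normal := by
      constructor
      rintro x ⟨hxH, hxV⟩ g
      have hg : g ∈ H ⊔ V := by rw [hsupV]; trivial
      obtain ⟨h, hh, v, hv, rfl⟩ := Subgroup.mem_sup_of_normal_right.mp hg
      have h1 : v * x * v⁻¹ ∈ H := by
        have h2 := hcommV v hv x hxV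
        have h3 : v * x * v⁻¹ = (v * x * v⁻¹ * x⁻¹) * x := by group
        rw [h3]
        exact H.mul_mem (hLH h2) hxH
      have h4 : h * v * x * (h * v)⁻¹ = h * (v * x * v⁻¹) * h⁻¹ := by group
      rw [h4]
      refine ⟨H.mul_mem (H.mul_mem hh h1) (H.inv_mem hh), ?_⟩
      exact hVn.conj_mem _ (hVn.conj_mem _ hxV v) h
    rcases hchiefV _ hN₀ (le_inf hLH hLV.le) inf_le_right with h | h
    · exact h
    · exfalso
      apply hVH
      rw [← h]
      exact inf_le_left
  have hcardUV : Nat.card (H.subgroupOf V) = Nat.card L := by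
    refine Nat.card_congr ⟨fun x => ⟨x.1.1, by rw [← hinfV]; exact ⟨x.2, x.1.2⟩⟩,
      fun x => ⟨⟨x.1, hLV.le x.2⟩, hLH x.2⟩, ?_, ?_⟩
    · intro x
      rfl
    · intro x
      rfl
  have hrelL : L.relIndex V * Nat.card L = Nat.card V := by
    have h1 := Subgroup.card_mul_index (L.subgroupOf V)
    have h2 : Nat.card (L.subgroupOf V) = Nat.card L :=
      Nat.card_congr (Subgroup.subgroupOfEquivOfLe hLV.le).toEquiv
    rw [h2] at h1
    rw [mul_comm]
    exact h1
  have hE : H.index = L.relIndex V := by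
    have h1 := card_mul_of_sup H V hsupV
    rw [hcardUV, ← Subgroup.index_mul_card H, ← hrelL] at h1
    have hHpos : 0 < Nat.card H := Nat.card_pos
    have hLpos : 0 < Nat.card L := Nat.card_pos
    have h2 : H.index * Nat.card H * Nat.card L = L.relIndex V * Nat.card H * Nat.card L := by
      rw [h1]
      ring
    exact Nat.eq_of_mul_eq_mul_right hHpos (Nat.eq_of_mul_eq_mul_right hLpos h2)
  -- the norm on `V`
  let UV : Subgroup V := H.subgroupOf V
  let θV : UV → ℂ := fun x => ϑ ⟨((x : V) : G), Subgroup.mem_subgroupOf.mp x.2⟩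
  have hmemUV : ∀ x : UV, ((x : V) : G) ∈ L := by
    intro x
    rw [← hinfV]
    exact ⟨Subgroup.mem_subgroupOf.mp x.2, (x : V).2⟩
  let εV : UV ≃* L :=
    { toFun := fun x => ⟨((x : V) : G), hmemUV x⟩
      invFun := fun x => ⟨⟨x, hLV.le x.2⟩, hLH x.2⟩
      left_inv := fun x => rfl
      right_inv := fun x => rfl
      map_mul' := fun x y => rfl }
  have hθVirr : IsIrrCharacter UV θV :=
    isIrrCharacter_comp_of_surjective εV.toMonoidHom εV.surjective hϑL
  have hMackeyV : (fun y : V => χ y) = indFun UV θV := by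
    funext y
    exact indFun_restrict_of_sup H V hsupV hϑcl y
  have hχVc : IsClassFunction V (fun y : V => χ y) :=
    isClassFunction_of_isCharacter (isCharacter_restrict V hχc)
  have hnormV : classInner (fun y : V => χ y) (fun y : V => χ y) = (H.index : ℂ) := by
    conv_lhs => arg 1; rw [hMackeyV]
    rw [frobenius UV θV hχVc]
    have h1 : (fun h : UV => χ ((h : V) : G)) = (H.index : ℂ) • θV := by
      funext h
      have := hχLval ⟨((h : V) : G), hmemUV h⟩
      exact this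
    show classInner θV (fun h : UV => χ ((h : V) : G)) = _
    rw [h1, classInner_smul_right, classInner_irr_self hθVirr, mul_one, map_natCast]
  obtain ⟨μ₁, e, hμ₁, hresV⟩ := hhom V hVn hLV.le
  have hee : e ^ 2 = H.index := by
    have h1 := hnormV
    rw [hresV, classInner_smul_left, classInner_smul_right, classInner_irr_self hμ₁] at h1
    rw [map_natCast] at h1
    have h2 : ((e ^ 2 : ℕ) : ℂ) = (H.index : ℂ) := by
      push_cast
      rw [← h1]
      ring
    exact_mod_cast h2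
  have hrelVne1 : L.relIndex V ≠ 1 := by
    rw [Ne, Subgroup.relIndex_eq_one]
    exact hLV.not_ge
  -- `V ≠ G`
  have hVtop : V ≠ ⊤ := by
    rintro rfl
    have h1 : classInner (fun y : (⊤ : Subgroup G) => χ y) (fun y : (⊤ : Subgroup G) => χ y) = 1 := by
      have h2 := classInner_comp_mulEquiv (Subgroup.topEquiv (G := G)) χ χ
      rw [classInner_irr_self hind] at h2
      exact h2
    rw [hnormV] at h1
    have h2 : H.index = 1 := by exact_mod_cast h1
    exact hrelVne1 (by rw [← hE, h2])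
  -- the chief factor `Y / V`
  have hfin2 : ({N : Subgroup G | N.Normal ∧ V < N}).Finite := Set.toFinite _
  obtain ⟨Y, hYmin⟩ := hfin2.exists_minimal ⟨⊤, inferInstance, lt_top_iff_ne_top.mpr hVtop⟩
  obtain ⟨hYn, hVY⟩ := hYmin.prop
  have hchiefY : ∀ M : Subgroup G, M.Normal → V ≤ M → M ≤ Y → M = V ∨ M = Y := by
    intro M hM hVM hMY
    by_cases hE' : M = V
    · exact Or.inl hE'
    · right
      exact hYmin.eq_of_le ⟨hM, lt_of_le_of_ne hVM (Ne.symm hE')⟩ hMY
  have habY : ⁅Y, Y⁆ ≤ V := commutator_le_of_chief hs hLV.le hVY hchiefY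
  obtain ⟨q, x, hq, hqx⟩ := exists_prime_pow_relIndex hVY hchiefY habY
  obtain ⟨p, k, hp, hpk⟩ := exists_prime_pow_relIndex hLV hchiefV habV
  have hLY : L ≤ Y := hLV.le.trans hVY.le
  -- `H ∩ Y` does not centralize `V / L`
  have hnc : ∃ u ∈ H ⊓ Y, ∃ v₀ ∈ V, v₀ * u * v₀⁻¹ * u⁻¹ ∉ L := by
    by_contra hcon2
    push Not at hcon2
    have hUn : (H ⊓ Y).Normal := by
      constructor
      rintro u ⟨huH, huY⟩ g
      have hg : g ∈ H ⊔ V := by rw [hsupV]; trivial
      obtain ⟨h, hh, v, hv, rfl⟩ := Subgroup.mem_sup_of_normal_right.mp hg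
      have h1 : v * u * v⁻¹ ∈ H := by
        have h2 := hcon2 u ⟨huH, huY⟩ v hv
        have h3 : v * u * v⁻¹ = (v * u * v⁻¹ * u⁻¹) * u := by group
        rw [h3]
        exact H.mul_mem (hLH h2) huH
      have h4 : h * v * u * (h * v)⁻¹ = h * (v * u * v⁻¹) * h⁻¹ := by group
      rw [h4]
      refine ⟨H.mul_mem (H.mul_mem hh h1) (H.inv_mem hh), ?_⟩
      exact hYn.conj_mem _ (hYn.conj_mem _ huY v) h
    have hUL := hcore _ hUn inf_le_left
    apply hVY.not_ge
    intro y hy
    have hmem : y ∈ H ⊔ V := by rw [hsupV]; trivial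
    obtain ⟨h, hh, v, hv, rfl⟩ := Subgroup.mem_sup_of_normal_right.mp hmem
    have h1 : h ∈ Y := by
      have h2 := Y.mul_mem hy (Y.inv_mem (hVY.le hv))
      simpa using h2
    exact V.mul_mem (hLV.le (hUL ⟨hh, h1⟩)) hv
  obtain ⟨u, huU, v₀, hv₀, huv⟩ := hnc
  -- different primes
  have hqp : q ≠ p := by
    rintro rfl
    haveI : Fact q.Prime := ⟨hq⟩
    have hLYp : L.relIndex Y = q ^ (k + x) := by
      have := Subgroup.relIndex_mul_relIndex L V Y hLV.le hVY.le
      rw [← this, hpk, hqx, pow_add]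
    obtain ⟨v₁, hv₁V, hv₁L, hv₁⟩ := exists_central_of_pgroup hLV hVY.le hLYp
    let C₀ : Subgroup G :=
      { carrier := {v | v ∈ V ∧ ∀ y ∈ Y, y * v * y⁻¹ * v⁻¹ ∈ L}
        mul_mem' := by
          rintro a b ⟨ha, ha'⟩ ⟨hb, hb'⟩
          refine ⟨V.mul_mem ha hb, fun y hy => ?_⟩
          have h1 : y * (a * b) * y⁻¹ * (a * b)⁻¹ =
              (y * a * y⁻¹ * a⁻¹) * (a * (y * b * y⁻¹ * b⁻¹) * a⁻¹) := by group
          rw [h1]
          exact L.mul_mem (ha' y hy) (hL.conj_mem _ (hb' y hy) a)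
        one_mem' := ⟨V.one_mem, fun y _ => by simp [L.one_mem]⟩
        inv_mem' := by
          rintro a ⟨ha, ha'⟩
          refine ⟨V.inv_mem ha, fun y hy => ?_⟩
          have h1 : y * a⁻¹ * y⁻¹ * a⁻¹⁻¹ = a⁻¹ * (y * a * y⁻¹ * a⁻¹)⁻¹ * a := by group
          rw [h1]
          have := hL.conj_mem _ (L.inv_mem (ha' y hy)) a⁻¹
          simpa using this }
    have hC₀n : C₀.Normal := by
      constructor
      rintro a ⟨ha, ha'⟩ g
      refine ⟨hVn.conj_mem _ ha g, fun y hy => ?_⟩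
      have hy' : g⁻¹ * y * g ∈ Y := by
        have := hYn.conj_mem _ hy g⁻¹
        simpa using this
      have h1 : y * (g * a * g⁻¹) * y⁻¹ * (g * a * g⁻¹)⁻¹ =
          g * ((g⁻¹ * y * g) * a * (g⁻¹ * y * g)⁻¹ * a⁻¹) * g⁻¹ := by group
      rw [h1]
      exact hL.conj_mem _ (ha' _ hy') g
    have hLC₀ : L ≤ C₀ := by
      intro l hl
      refine ⟨hLV.le hl, fun y hy => ?_⟩
      exact L.mul_mem (hL.conj_mem _ hl y) (L.inv_mem hl)
    rcases hchiefV C₀ hC₀n hLC₀ (fun v hv => hv.1) with h | h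
    · apply hv₁L
      rw [← h]
      exact ⟨hv₁V, hv₁⟩
    · apply huv
      have hv₀C : v₀ ∈ C₀ := by
        rw [h]
        exact hv₀
      have h1 := L.inv_mem (hv₀C.2 u huU.2)
      have h2 : (u * v₀ * u⁻¹ * v₀⁻¹)⁻¹ = v₀ * u * v₀⁻¹ * u⁻¹ := by group
      rwa [h2] at h1
  -- the character over `Y`
  obtain ⟨μ₂, c, hμ₂, hresY⟩ := hhom Y hYn hLY
  have hχ1 : χ 1 ≠ 0 := irr_degree_ne_zero hind
  have hcne : (c : ℂ) ≠ 0 := by
    intro h0
    apply hχ1
    have := congrFun hresY 1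
    simp only [Pi.smul_apply, smul_eq_mul, h0, zero_mul] at this
    exact this
  have hresY' : ∀ y : Y, χ y = (c : ℂ) * μ₂ y := fun y => congrFun hresY y
  have hμ₂inv : ∀ (g : G) (n : Y), μ₂ ⟨g * n * g⁻¹, hYn.conj_mem (n : G) n.2 g⟩ = μ₂ n := by
    intro g n
    have h1 := hresY' ⟨g * n * g⁻¹, hYn.conj_mem (n : G) n.2 g⟩
    have h2 := hresY' n
    have h3 : χ (g * n * g⁻¹) = χ n := hχcl (n : G) g
    simp only at h1
    rw [h3, h2] at h1
    exact (mul_left_cancel₀ hcne h1).symm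
  have hnormVc : ∀ {ψ : V → ℂ} {z : ℕ}, IsIrrCharacter V ψ → (fun y : V => χ y) = (z : ℂ) • ψ →
      z ^ 2 = H.index := by
    intro ψ z hψ hz
    have h1 := hnormV
    rw [hz, classInner_smul_left, classInner_smul_right, classInner_irr_self hψ] at h1
    rw [map_natCast] at h1
    have h2 : ((z ^ 2 : ℕ) : ℂ) = (H.index : ℂ) := by
      push_cast
      rw [← h1]
      ring
    exact_mod_cast h2
  have hVrestr : ∀ y : V, χ y = (c : ℂ) * μ₂ ⟨y, hVY.le y.2⟩ := fun y => hresY' ⟨y, hVY.le y.2⟩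
  rcases Cfsg.Agent.S0857.result Y V hVY hchiefY habY μ₂ hμ₂ hμ₂inv with h | ⟨φ', b, hφ', hb, hbb⟩ |
    ⟨F, hF, hFcard, hFsum⟩
  · -- the main case
    have hce : c = e := by
      have h1 : (fun y : V => χ y) = (c : ℂ) • (fun y : V => μ₂ ⟨y, hVY.le y.2⟩) := by
        funext y
        exact hVrestr y
      have h2 := hnormVc h h1
      have h3 : c ^ 2 = e ^ 2 := by rw [h2, hee]
      exact Nat.pow_left_injective (n := 2) (by norm_num) h3
    subst hce
    -- Mackey and Frobenius over `Y`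
    let U' : Subgroup Y := H.subgroupOf Y
    let τ' : U' → ℂ := fun x => ϑ ⟨((x : Y) : G), Subgroup.mem_subgroupOf.mp x.2⟩
    have hτ'c : IsCharacter U' τ' := by
      let j : U' →* H :=
        { toFun := fun x => ⟨((x : Y) : G), Subgroup.mem_subgroupOf.mp x.2⟩
          map_one' := rfl
          map_mul' := fun _ _ => rfl }
      exact isCharacter_comp j hϑc
    let jL : L →* U' :=
      { toFun := fun x => ⟨⟨x, hLY x.2⟩, hLH x.2⟩
        map_one' := rfl
        map_mul' := fun _ _ => rfl }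
    have hτ'irr : IsIrrCharacter U' τ' := irr_of_comp_irr jL hτ'c hϑL
    have hMackeyY : (fun y : Y => χ y) = indFun U' τ' := by
      funext y
      exact indFun_restrict_of_sup H Y (by
        rw [eq_top_iff, ← hsupV]
        exact sup_le_sup_left hVY.le _) hϑcl y
    have hμ₂c := IsIrrCharacter.isCharacter hμ₂
    have hμ₂cl := isClassFunction_of_isCharacter hμ₂c
    have hfrob := frobenius U' τ' hμ₂cl
    rw [← hMackeyY, hresY, classInner_smul_left, classInner_irr_self hμ₂, mul_one] at hfrob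
    let ψ : U' → ℂ := fun x => μ₂ x
    have hψc : IsCharacter U' ψ := isCharacter_restrict U' hμ₂c
    have hψτ : classInner ψ τ' = (c : ℂ) := by
      rw [← classInner_conj_symm, ← hfrob]
      simp
    obtain ⟨m, hm⟩ := exists_nat_decomp hψc
    have hmτ : m ⟨τ', hτ'irr⟩ = c := by
      have h1 := hψτ
      rw [hm, classInner_nat_decomp m τ' hτ'irr] at h1
      exact_mod_cast h1
    -- degrees
    have hdeg : μ₂ 1 = (c : ℂ) * ϑ 1 := by
      have h1 : χ 1 = (H.index : ℂ) * ϑ 1 := indFun_one H ϑ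
      have h2 := hresY' 1
      have h3 : χ ((1 : Y) : G) = χ 1 := rfl
      rw [h3, h1, ← hee] at h2
      push_cast at h2
      have h4 : (c : ℂ) * ((c : ℂ) * ϑ 1) = (c : ℂ) * μ₂ 1 := by
        rw [← h2]
        ring
      exact (mul_left_cancel₀ hcne h4).symm
    have hτ1 : τ' 1 = ϑ 1 := rfl
    let i₀ : IrrCharacter U' := ⟨τ', hτ'irr⟩
    let m' : IrrCharacter U' → ℕ := Function.update m i₀ 0
    let ψ' : U' → ℂ := ∑ i, m' i • (i : U' → ℂ)
    have hψ'c : IsCharacter U' ψ' := isCharacter_of_nat_decomp m'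
    have hdec : ψ = (c : ℂ) • τ' + ψ' := by
      rw [hm]
      simp only [ψ']
      rw [← Finset.add_sum_erase _ _ (Finset.mem_univ i₀),
        ← Finset.add_sum_erase (Finset.univ) (fun i => m' i • (i : U' → ℂ)) (Finset.mem_univ i₀)]
      have h1 : m' i₀ = 0 := by simp [m']
      rw [h1, zero_smul, zero_add, hmτ]
      have h2 : ∑ x ∈ Finset.univ.erase i₀, m' x • (x : U' → ℂ) =
          ∑ x ∈ Finset.univ.erase i₀, m x • (x : U' → ℂ) := by
        refine Finset.sum_congr rfl fun x hx => ?_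
        simp only [m']
        rw [Function.update_of_ne (Finset.ne_of_mem_erase hx)]
      rw [h2]
      congr 1
      funext x
      simp [i₀]
    have hψ'1 : ψ' 1 = 0 := by
      have h1 := congrFun hdec 1
      simp only [Pi.add_apply, Pi.smul_apply, smul_eq_mul] at h1
      have h2 : ψ 1 = μ₂ 1 := rfl
      rw [h2, hdeg, hτ1] at h1
      linear_combination -h1
    have hψ'0 := eq_zero_of_one_eq_zero hψ'c hψ'1
    have hψval : ∀ x : U', μ₂ x = (c : ℂ) * τ' x := by
      intro x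
      have h1 := congrFun hdec x
      rw [hψ'0] at h1
      simpa using h1
    -- the final counting
    let V' : Subgroup Y := V.subgroupOf Y
    let L' : Subgroup Y := L.subgroupOf Y
    haveI hV'n : V'.Normal := Subgroup.normal_subgroupOf
    haveI hL'n : L'.Normal := Subgroup.normal_subgroupOf
    have hL'V' : L' ≤ V' := by
      intro y hy
      exact hLV.le hy
    let εV' : V' ≃* V := Subgroup.subgroupOfEquivOfLe hVY.le
    have hμ₂V' : IsIrrCharacter V' (fun n : V' => μ₂ n) :=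
      isIrrCharacter_comp_of_surjective εV'.toMonoidHom εV'.surjective h
    let u' : Y := ⟨u, huU.2⟩
    let v₀' : Y := ⟨v₀, hVY.le hv₀⟩
    have hcard : ((Nat.card V' : ℕ) : ℂ) = (c : ℂ) ^ 2 * (Nat.card L : ℂ) := by
      have h1 : Nat.card V' = Nat.card V := Nat.card_congr εV'.toEquiv
      rw [h1, ← hrelL, ← hE, ← hee]
      push_cast
      ring
    refine coset_contra V' L' hL'V' hμ₂c hμ₂V' u' v₀' hv₀ ?_ ?_
    · intro h1
      exact huv h1
    · rw [hcard]
      -- the sum in `H`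
      let L₁ : Subgroup H := L.subgroupOf H
      haveI hL₁n : L₁.Normal := Subgroup.normal_subgroupOf
      let ε₁ : L₁ ≃* L := Subgroup.subgroupOfEquivOfLe hLH
      have hϑL₁ : IsIrrCharacter L₁ (fun n : L₁ => ϑ n) :=
        isIrrCharacter_comp_of_surjective ε₁.toMonoidHom ε₁.surjective hϑL
      have havg := avg_norm_sq_eq_one L₁ hϑc hϑL₁ (⟨u, huU.1⟩ : H)
      have hL₁card : Nat.card L₁ = Nat.card L := Nat.card_congr ε₁.toEquiv
      rw [hL₁card] at havg
      have hLne : (Nat.card L : ℂ) ≠ 0 := natCard_ne_zero'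
      have hsum₁ : ∑ n : L₁, ϑ (n * (⟨u, huU.1⟩ : H)) * conj (ϑ (n * (⟨u, huU.1⟩ : H))) =
          (Nat.card L : ℂ) := by
        field_simp at havg
        exact havg
      rw [← hsum₁, Finset.mul_sum]
      let ε₂ : L' ≃ L₁ :=
        { toFun := fun x => ⟨⟨((x : Y) : G), hLH x.2⟩, x.2⟩
          invFun := fun x => ⟨⟨((x : H) : G), hLY x.2⟩, x.2⟩
          left_inv := fun x => rfl
          right_inv := fun x => rfl }
      refine Fintype.sum_equiv ε₂ _ _ fun l => ?_
      have hmemU : ((l : Y) * u' : Y) ∈ U' := by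
        rw [Subgroup.mem_subgroupOf]
        exact H.mul_mem (hLH l.2) huU.1
      have h1 : μ₂ ((l : Y) * u') = (c : ℂ) * τ' ⟨(l : Y) * u', hmemU⟩ := hψval ⟨(l : Y) * u', hmemU⟩
      have h2 : τ' ⟨(l : Y) * u', hmemU⟩ = ϑ ((ε₂ l : H) * (⟨u, huU.1⟩ : H)) := rfl
      rw [h1, h2]
      simp only [map_mul, map_natCast]
      ring
  · -- the fully ramified case
    exfalso
    have h1 : (fun y : V => χ y) = ((c * b : ℕ) : ℂ) • φ' := by
      funext y
      have h2 := hVrestr y
      have h3 := congrFun hb y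
      simp only [Pi.smul_apply, smul_eq_mul] at h3
      rw [h2, h3]
      simp only [Pi.smul_apply, smul_eq_mul]
      push_cast
      ring
    have h2 := hnormVc hφ' h1
    have h3 : V.relIndex Y ∣ L.relIndex V := by
      rw [← hE, ← h2, mul_pow, ← hbb]
      exact Dvd.intro_left _ rfl
    rw [hqx, hpk] at h3
    have hcop : Nat.Coprime q p := (Nat.coprime_primes hq hp).mpr hqp
    have h4 : q ^ x = 1 := Nat.Coprime.eq_one_of_dvd (Nat.Coprime.pow x k hcop) h3
    have hne : V.relIndex Y ≠ 1 := by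
      rw [Ne, Subgroup.relIndex_eq_one]
      exact hVY.not_ge
    exact hne (by rw [hqx, h4])
  · -- the splitting case
    exfalso
    have h1 : 1 < F.card := by
      rw [hFcard]
      have hne : V.relIndex Y ≠ 1 := by
        rw [Ne, Subgroup.relIndex_eq_one]
        exact hVY.not_ge
      have hne0 : V.relIndex Y ≠ 0 := by
        show (V.subgroupOf Y).index ≠ 0
        exact Subgroup.index_ne_zero_of_finite
      omega
    refine not_homog_smul hF h1 hcne hμ₁ (z := e) ?_
    rw [← hFsum, ← hresV]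
    funext y
    have h2 := hVrestr y
    simp only [Pi.smul_apply, smul_eq_mul]
    exact h2.symm

/-- The lemma before Berger's theorem. -/
theorem exists_not_homogeneous (L H : Subgroup G) [hL : L.Normal] (hLH : L ≤ H) (hmax : IsCoatom H)
    (hs : Group.IsSolvable (G ⧸ L)) (ϑ : H → ℂ) (hϑ : IsIrrCharacter H ϑ)
    (hϑL : IsIrrCharacter L (fun x : L => ϑ ⟨(x : G), hLH x.2⟩))
    (hind : IsIrrCharacter G (indFun H ϑ)) :
    ∃ M : Subgroup G, M.Normal ∧ L ≤ M ∧
      ¬ ∃ (φ : M → ℂ) (e : ℕ), IsIrrCharacter M φ ∧ (fun m : M => indFun H ϑ m) = (e : ℂ) • φ := by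
  classical
  by_contra hcon
  push Not at hcon
  let C : Subgroup G := H.normalCore
  haveI hCn : C.Normal := Subgroup.normalCore_normal H
  have hLC : L ≤ C := Subgroup.normal_le_normalCore.mpr hLH
  have hCH : C ≤ H := Subgroup.normalCore_le H
  have hϑc := IsIrrCharacter.isCharacter hϑ
  let jC : C →* H := Subgroup.inclusion hCH
  let jL : L →* C := Subgroup.inclusion hLC
  have hϑC : IsIrrCharacter C (fun x : C => ϑ ⟨(x : G), hCH x.2⟩) :=
    irr_of_comp_irr jL (isCharacter_comp jC hϑc) hϑL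
  have hsC : Group.IsSolvable (G ⧸ C) := by
    let f : G ⧸ L →* G ⧸ C := QuotientGroup.map L C (MonoidHom.id G) (fun x hx => hLC hx)
    have hf : Function.Surjective f := by
      intro y
      obtain ⟨g, rfl⟩ := QuotientGroup.mk_surjective y
      exact ⟨(g : G ⧸ L), rfl⟩
    exact Group.isSolvable_of_surjective hf
  exact false_of_core C H hCH (fun N hN hNH => Subgroup.normal_le_normalCore.mpr hNH) hmax hsC ϑ hϑ
    hϑC hind (fun M hM hCM => by
      obtain ⟨φ, e, hφ, h⟩ := hcon M hM (hLC.trans hCM)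
      exact ⟨φ, e, hφ, h⟩)

end Main

end Cfsg.Agent.Lib.BergerLemma
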