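import Mathlib
import Cfsg.Prelude.Def_OddOrderLocal
import Cfsg.Agent.Lib.OddPGroup
import Cfsg.Agent.Lib.Frat
import Cfsg.Agent.Lib.AutRankTwo
import Cfsg.Agent.Lib.Replacement

/-!
# Huppert's criterion: `p` odd, no quotient of order `p³` and exponent `p` implies metacyclic
-/

set_option autoImplicit false

open scoped commutatorElement

namespace Cfsg.Agent.Lib.Huppert

universe u

variable {R : Type u} [Group R] {p : ℕ} [hp : Fact p.Prime]

/-- The hypothesis: quotients of exponent `p` have order at most `p²`. -/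
def H1 (p : ℕ) (R : Type u) [Group R] : Prop :=
  ∀ W : Subgroup R, W.Normal → (∀ x, x ^ p ∈ W) → W.index ≤ p ^ 2

omit hp in
lemma H1_quotient (N : Subgroup R) [N.Normal] (h : H1 p R) : H1 p (R ⧸ N) := by
  intro W hW hx
  have := h (W.comap (QuotientGroup.mk' N)) (Subgroup.Normal.comap hW _) (by
    intro x
    rw [Subgroup.mem_comap, map_pow]
    exact hx _)
  rwa [Subgroup.index_comap_of_surjective _ (QuotientGroup.mk'_surjective N)] at this

omit hp in
lemma isMetacyclic_of_data (U : Subgroup R) (hU : U.Normal) (u v : R) (hu : U = Subgroup.zpowers u)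
    (hv : ∀ x, ∃ k : ℤ, ∃ t ∈ U, x = v ^ k * t) : Cfsg.IsMetacyclic R := by
  refine ⟨U, hU, ?_, ?_⟩
  · rw [hu]; infer_instance
  · refine ⟨⟨(v : R ⧸ U), fun y => ?_⟩⟩
    obtain ⟨x, rfl⟩ := QuotientGroup.mk_surjective y
    obtain ⟨k, t, ht, rfl⟩ := hv x
    refine ⟨k, ?_⟩
    show ((v : R ⧸ U)) ^ k = ((v ^ k * t : R) : R ⧸ U)
    rw [QuotientGroup.mk_mul, (QuotientGroup.eq_one_iff t).mpr ht, mul_one]
    rfl

omit hp in
lemma isMetacyclic_of_isCyclic [IsCyclic R] : Cfsg.IsMetacyclic R := by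
  obtain ⟨g, hg⟩ := IsCyclic.exists_generator (α := R)
  refine isMetacyclic_of_data ⊤ inferInstance g 1 ?_ ?_
  · rw [eq_comm, eq_top_iff]
    intro x _
    exact hg x
  · intro x
    exact ⟨0, x, Subgroup.mem_top x, by simp⟩

omit hp in
lemma metacyclic_data (N : Subgroup R) [N.Normal] (h : Cfsg.IsMetacyclic (R ⧸ N)) :
    ∃ U : Subgroup R, U.Normal ∧ N ≤ U ∧ ∃ u ∈ U, ∃ v : R,
      (∀ t ∈ U, ∃ k : ℤ, ∃ n ∈ N, t = u ^ k * n) ∧ (∀ x, ∃ k : ℤ, ∃ t ∈ U, x = v ^ k * t) := by
  obtain ⟨Ū, hn, hc1, hc2⟩ := h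
  let π := QuotientGroup.mk' N
  have hπ : Function.Surjective π := QuotientGroup.mk'_surjective N
  refine ⟨Ū.comap π, Subgroup.Normal.comap hn π, ?_, ?_⟩
  · intro x hx
    rw [Subgroup.mem_comap]
    have : π x = 1 := (QuotientGroup.eq_one_iff x).mpr hx
    rw [this]
    exact one_mem _
  obtain ⟨⟨g, hgU⟩, hg⟩ := hc1.exists_generator
  obtain ⟨u, hu⟩ := hπ g
  obtain ⟨g₁, hg₁⟩ := hc2.exists_generator
  obtain ⟨g₀, rfl⟩ := QuotientGroup.mk_surjective g₁
  obtain ⟨v, rfl⟩ := hπ g₀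
  refine ⟨u, by rw [Subgroup.mem_comap, hu]; exact hgU, v, ?_, ?_⟩
  · intro t ht
    obtain ⟨k, hk⟩ := Subgroup.mem_zpowers_iff.mp (hg ⟨π t, ht⟩)
    refine ⟨k, (u ^ k)⁻¹ * t, ?_, by group⟩
    rw [← QuotientGroup.ker_mk' N, MonoidHom.mem_ker, map_mul, map_inv, map_zpow, hu]
    have h2 : g ^ k = π t := congrArg Subtype.val hk
    rw [h2, inv_mul_cancel]
  · intro x
    obtain ⟨k, hk⟩ := Subgroup.mem_zpowers_iff.mp (hg₁ ((π x : R ⧸ N) : (R ⧸ N) ⧸ Ū))
    refine ⟨k, (v ^ k)⁻¹ * x, ?_, by group⟩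
    rw [Subgroup.mem_comap, map_mul, map_inv, map_zpow, ← QuotientGroup.eq_one_iff, QuotientGroup.mk_mul,
      QuotientGroup.mk_inv, QuotientGroup.mk_zpow]
    rw [← hk]
    exact inv_mul_cancel _

/-- Reduction: a metacyclic quotient by a central subgroup forces the derived subgroup to be cyclic. -/
lemma lemmaB [Finite R] (N U : Subgroup R) (hNc : N ≤ Subgroup.center R) (hU : U.Normal) (u v : R)
    (hu : u ∈ U) (hut : ∀ t ∈ U, ∃ k : ℤ, ∃ n ∈ N, t = u ^ k * n)
    (hvx : ∀ x, ∃ k : ℤ, ∃ t ∈ U, x = v ^ k * t) :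
    commutator R ≤ Subgroup.zpowers ⁅u, v⁆ ∧ ⁅u, v⁆ ∈ U := by
  have hab : ∀ s ∈ U, ∀ t ∈ U, s * t = t * s := by
    intro s hs t ht
    obtain ⟨k, n, hn, rfl⟩ := hut s hs
    obtain ⟨l, m, hm, rfl⟩ := hut t ht
    have h1 : ∀ g, Commute g n := fun g => Subgroup.mem_center_iff.mp (hNc hn) g
    have h2 : ∀ g, Commute g m := fun g => Subgroup.mem_center_iff.mp (hNc hm) g
    have h3 : Commute (u ^ k) (u ^ l) := (Commute.refl u).zpow_zpow k l
    have h4 : Commute (u ^ k * n) (u ^ l * m) :=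
      (h3.mul_left (h1 _).symm).mul_right (h2 _)
    exact h4
  have hzU : ⁅u, v⁆ ∈ U := by
    rw [commutatorElement_def, show u * v * u⁻¹ * v⁻¹ = u * (v * u⁻¹ * v⁻¹) by group]
    exact U.mul_mem hu (hU.conj_mem _ (U.inv_mem hu) v)
  have hconj : ∀ t ∈ U, v * t⁻¹ * v⁻¹ ∈ U := fun t ht => hU.conj_mem _ (U.inv_mem ht) v
  -- the commutator map on `U`
  let f : U →* R := MonoidHom.mk' (fun t => ⁅(t : R), v⁆) (by
    intro s t
    show ⁅((s : R) * t), v⁆ = ⁅(s : R), v⁆ * ⁅(t : R), v⁆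
    simp only [commutatorElement_def]
    have h1 := hab _ (hconj s s.2) _ (U.mul_mem t.2 (hconj t t.2))
    calc (s : R) * t * v * ((s : R) * t)⁻¹ * v⁻¹
        = s * ((t * (v * (t : R)⁻¹ * v⁻¹)) * (v * (s : R)⁻¹ * v⁻¹)) := by group
      _ = s * ((v * (s : R)⁻¹ * v⁻¹) * (t * (v * (t : R)⁻¹ * v⁻¹))) := by rw [h1]
      _ = s * v * (s : R)⁻¹ * v⁻¹ * (t * v * (t : R)⁻¹ * v⁻¹) := by group)
  have hfN : ∀ t : U, (t : R) ∈ N → f t = 1 := by
    intro t ht
    show ⁅(t : R), v⁆ = 1
    rw [commutatorElement_def]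
    have : (t : R) * v = v * t := (Subgroup.mem_center_iff.mp (hNc ht) v).symm
    rw [this]
    group
  set L := Subgroup.zpowers ⁅u, v⁆ with hL
  have hfL : ∀ t ∈ U, ⁅t, v⁆ ∈ L := by
    intro t ht
    obtain ⟨k, n, hn, rfl⟩ := hut t ht
    have hnU : n ∈ U := by
      have h1 : u ^ k * n ∈ U := ht
      have h2 : u ^ k ∈ U := U.zpow_mem hu k
      have := U.mul_mem (U.inv_mem h2) h1
      simpa using this
    have h1 : (⟨u ^ k * n, ht⟩ : U) = (⟨u, hu⟩ : U) ^ k * ⟨n, hnU⟩ := by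
      apply Subtype.ext
      simp
    have h2 : ⁅u ^ k * n, v⁆ = f ⟨u ^ k * n, ht⟩ := rfl
    rw [h2, h1, map_mul, hfN ⟨n, hnU⟩ hn, mul_one, map_zpow]
    exact Subgroup.zpow_mem _ (Subgroup.mem_zpowers _) k
  have hLU : L ≤ U := by
    rw [hL, Subgroup.zpowers_le]
    exact hzU
  have hLn : L.Normal := by
    rw [← Subgroup.normalizer_eq_top_iff, eq_top_iff]
    intro g _
    have hv : v ∈ Subgroup.normalizer (L : Set R) := by
      apply Cfsg.Agent.Lib.Replacement.mem_normalizer_of_forall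
      intro x hx
      obtain ⟨k, rfl⟩ := Subgroup.mem_zpowers_iff.mp hx
      rw [← conj_zpow]
      apply Subgroup.zpow_mem
      have h1 : v * ⁅u, v⁆ * v⁻¹ = ⁅v * u * v⁻¹, v⁆ := by
        simp only [commutatorElement_def]
        group
      rw [h1]
      exact hfL _ (hU.conj_mem u hu v)
    have hUL : ∀ t ∈ U, t ∈ Subgroup.normalizer (L : Set R) := by
      intro t ht
      apply Cfsg.Agent.Lib.Replacement.mem_normalizer_of_forall
      intro x hx
      rw [hab t ht x (hLU hx), mul_inv_cancel_right]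
      exact hx
    obtain ⟨k, t, ht, rfl⟩ := hvx g
    exact Subgroup.mul_mem _ (Subgroup.zpow_mem _ hv k) (hUL t ht)
  refine ⟨?_, hzU⟩
  rw [commutator_def, Subgroup.commutator_le]
  intro x _ y _
  obtain ⟨k, t, ht, rfl⟩ := hvx x
  obtain ⟨l, s, hs, rfl⟩ := hvx y
  rw [← QuotientGroup.eq_one_iff]
  have hvU : ∀ r ∈ U, Commute ((r : R) : R ⧸ L) ((v : R) : R ⧸ L) := by
    intro r hr
    have h1 := (QuotientGroup.eq_one_iff ⁅r, v⁆).mpr (hfL r hr)
    rw [commutatorElement_def, QuotientGroup.mk_mul, QuotientGroup.mk_mul, QuotientGroup.mk_mul,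
      QuotientGroup.mk_inv, QuotientGroup.mk_inv] at h1
    exact commutatorElement_eq_one_iff_commute.mp (by rw [commutatorElement_def]; exact h1)
  have hUU : Commute ((t : R) : R ⧸ L) ((s : R) : R ⧸ L) := by
    show ((t : R) : R ⧸ L) * ((s : R) : R ⧸ L) = ((s : R) : R ⧸ L) * ((t : R) : R ⧸ L)
    rw [← QuotientGroup.mk_mul, ← QuotientGroup.mk_mul, hab t ht s hs]
  have hmain : Commute ((v ^ k * t : R) : R ⧸ L) ((v ^ l * s : R) : R ⧸ L) := by
    rw [QuotientGroup.mk_mul, QuotientGroup.mk_mul, QuotientGroup.mk_zpow, QuotientGroup.mk_zpow]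
    have h1 : Commute (((v : R) : R ⧸ L) ^ k) (((v : R) : R ⧸ L) ^ l) := (Commute.refl _).zpow_zpow k l
    have h2 : Commute (((v : R) : R ⧸ L) ^ k) ((s : R) : R ⧸ L) := ((hvU s hs).symm.zpow_left k)
    have h3 : Commute ((t : R) : R ⧸ L) (((v : R) : R ⧸ L) ^ l) := ((hvU t ht).zpow_right l)
    exact (h1.mul_right h2).mul_left (h3.mul_right hUU)
  have := commutatorElement_eq_one_iff_commute.mpr hmain
  rw [commutatorElement_def] at this ⊢
  simpa only [QuotientGroup.mk_mul, QuotientGroup.mk_inv, mul_assoc] using this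

lemma comm_of_card_le {Q : Type*} [Group Q] [Finite Q] (hQ : IsPGroup p Q) (h : Nat.card Q ≤ p ^ 2) :
    ∀ a b : Q, a * b = b * a := by
  have hpp : p.Prime := hp.out
  obtain ⟨n, hn⟩ := IsPGroup.iff_card.mp hQ
  have hn2 : n ≤ 2 := by
    rw [hn] at h
    exact (Nat.pow_le_pow_iff_right hpp.one_lt).mp h
  have hcases : n = 0 ∨ n = 1 ∨ n = 2 := by omega
  rcases hcases with rfl | rfl | rfl
  · rw [pow_zero] at hn
    have := (Nat.card_eq_one_iff_unique.mp hn).1
    intro a b
    exact Subsingleton.elim _ _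
  · rw [pow_one] at hn
    have : IsCyclic Q := isCyclic_of_prime_card hn
    exact fun a b => this.isMulCommutative.is_comm.comm a b
  · exact fun a b => (IsPGroup.isMulCommutative_of_card_eq_prime_sq hn).is_comm.comm a b

/-- A central element of order `p` in a nontrivial normal subgroup. -/
lemma exists_central_order [Finite R] (hR : IsPGroup p R) (N : Subgroup R) (hN : N.Normal) (hne : N ≠ ⊥) :
    ∃ z ∈ N, orderOf z = p ∧ z ∈ Subgroup.center R := by
  have hpp : p.Prime := hp.out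
  obtain ⟨w, hwN, hw1, hwZ⟩ := Cfsg.Agent.Lib.OddPGroup.exists_central_of_normal hR N hN hne
  obtain ⟨k, hk⟩ := IsPGroup.iff_orderOf.mp hR w
  have hk0 : k ≠ 0 := by
    rintro rfl
    rw [pow_zero, orderOf_eq_one_iff] at hk
    exact hw1 hk
  obtain ⟨k, rfl⟩ := Nat.exists_eq_succ_of_ne_zero hk0
  refine ⟨w ^ (p ^ k), N.pow_mem hwN _, ?_, Subgroup.pow_mem _ hwZ _⟩
  have := orderOf_pow_orderOf_div (x := w) (n := p) (by rw [hk]; exact (pow_pos hpp.pos _).ne')
    (by rw [hk]; exact dvd_pow_self p (Nat.succ_ne_zero k))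
  rw [hk, Nat.pow_succ, Nat.mul_div_cancel _ hpp.pos] at this
  exact this

/-- The class two case. -/
lemma lemmaA [Finite R] (hp2 : p ≠ 2) (hR : IsPGroup p R) (h1 : H1 p R) (w : R)
    (hw : commutator R ≤ Subgroup.zpowers w) (hwc : w ∈ Subgroup.center R) (hwp : w ^ p = 1) :
    Cfsg.IsMetacyclic R := by
  classical
  have hpp : p.Prime := hp.out
  have hodd : Odd p := hpp.odd_of_ne_two hp2
  have hzc : Subgroup.zpowers w ≤ Subgroup.center R := by rw [Subgroup.zpowers_le]; exact hwc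
  have hzp : ∀ y ∈ Subgroup.zpowers w, y ^ p = 1 := by
    intro y hy
    obtain ⟨k, rfl⟩ := Subgroup.mem_zpowers_iff.mp hy
    rw [← zpow_natCast, zpow_comm, zpow_natCast, hwp, one_zpow]
  have hc : ∀ x y : R, ⁅x, y⁆ ∈ Subgroup.zpowers w := fun x y =>
    hw (Subgroup.commutator_mem_commutator (Subgroup.mem_top _) (Subgroup.mem_top _))
  have hcomm : ∀ x y : R, x⁻¹ * y⁻¹ * x * y ∈ Subgroup.center R := by
    intro x y
    have : x⁻¹ * y⁻¹ * x * y = ⁅x⁻¹, y⁻¹⁆ := by rw [commutatorElement_def]; group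
    rw [this]
    exact hzc (hc _ _)
  have hpow : ∀ x : R, x ^ p ∈ Subgroup.center R := by
    intro x
    rw [Subgroup.mem_center_iff]
    intro y
    have hcc : ∀ g, Commute g ⁅y, x⁆ := fun g => Subgroup.mem_center_iff.mp (hzc (hc y x)) g
    have h2 : y * x * y⁻¹ = ⁅y, x⁆ * x := by rw [commutatorElement_def]; group
    have h3 : y * x ^ p * y⁻¹ = x ^ p := by
      rw [← conj_pow, h2, (hcc x).symm.mul_pow, hzp _ (hc y x), one_mul]
    calc y * x ^ p = (y * x ^ p * y⁻¹) * y := by group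
      _ = x ^ p * y := by rw [h3]
  have hmul := Cfsg.Agent.Lib.OddPGroup.mul_pow_odd hodd hpow hcomm
  let powHom : R →* R := MonoidHom.mk' (fun x => x ^ p) hmul
  let P : Subgroup R := powHom.range
  have hxP : ∀ x : R, x ^ p ∈ P := fun x => ⟨x, rfl⟩
  have hPc : P ≤ Subgroup.center R := by
    rintro _ ⟨x, rfl⟩
    exact hpow x
  have hPn : P.Normal := by
    constructor
    intro x hx g
    rw [(Subgroup.mem_center_iff.mp (hPc hx) g)]
    simpa using hx
  have hPi := h1 P hPn hxP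
  have hcP : commutator R ≤ P := by
    have hQ : IsPGroup p (R ⧸ P) := hR.of_surjective (QuotientGroup.mk' P) (QuotientGroup.mk'_surjective P)
    have hcomm2 := comm_of_card_le hQ hPi
    rw [commutator_def, Subgroup.commutator_le]
    intro x _ y _
    rw [← QuotientGroup.eq_one_iff, commutatorElement_def]
    simp only [QuotientGroup.mk_mul, QuotientGroup.mk_inv]
    rw [hcomm2 (x : R ⧸ P) y]
    group
  -- choice of `c`
  let 𝒞 : Set R := {c | commutator R ≤ Subgroup.zpowers c}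
  obtain ⟨c, hc𝒞, hcmax⟩ := Set.exists_max_image 𝒞 orderOf (Set.toFinite 𝒞) ⟨w, hw⟩
  have hc𝒞' : commutator R ≤ Subgroup.zpowers c := hc𝒞
  by_cases hc1 : c = 1
  · have hbot : commutator R ≤ ⊥ := by simpa [hc1] using hc𝒞'
    have hall : ∀ y : R, y = 1 := by
      intro y
      have h1 : y ∈ 𝒞 := hbot.trans bot_le
      have h2 := hcmax y h1
      rw [hc1, orderOf_one] at h2
      exact orderOf_eq_one_iff.mp (le_antisymm h2 (orderOf_pos y))
    have : Subsingleton R := ⟨fun a b => by rw [hall a, hall b]⟩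
    have : IsCyclic R := isCyclic_of_subsingleton
    exact isMetacyclic_of_isCyclic
  have hcnotP : c ∉ P := by
    rintro ⟨c₁, rfl⟩
    have hc₁ : c₁ ∈ 𝒞 := by
      refine hc𝒞'.trans ?_
      rw [Subgroup.zpowers_le]
      exact Subgroup.pow_mem _ (Subgroup.mem_zpowers _) _
    have h2 := hcmax c₁ hc₁
    obtain ⟨m, hm⟩ := IsPGroup.iff_orderOf.mp hR c₁
    rcases m with _ | m
    · rw [pow_zero, orderOf_eq_one_iff] at hm
      apply hc1
      show c₁ ^ p = 1
      rw [hm, one_pow]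
    · have h3 : orderOf (c₁ ^ p) = p ^ m := by
        rw [orderOf_pow' c₁ hpp.ne_zero, hm, Nat.gcd_eq_right (dvd_pow_self p (Nat.succ_ne_zero m)), pow_succ,
          Nat.mul_div_cancel _ hpp.pos]
      have h4 : orderOf c₁ ≤ orderOf (c₁ ^ p) := h2
      rw [h3, hm] at h4
      exact absurd ((Nat.pow_le_pow_iff_right hpp.one_lt).mp h4) (by omega)
  -- `⟨c⟩` is normal
  have hcn : (Subgroup.zpowers c).Normal := Cfsg.Agent.Lib.Frat.normal_of_commutator_le hc𝒞'
  -- the index computation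
  set S := P ⊔ Subgroup.zpowers c with hS
  have hPS : P < S := by
    refine lt_of_le_of_ne le_sup_left ?_
    intro h
    apply hcnotP
    rw [h]
    exact (le_sup_right : Subgroup.zpowers c ≤ S) (Subgroup.mem_zpowers c)
  have hSi : S.index ≤ p := by
    have h2 := Cfsg.Agent.Lib.AutRankTwo.card_mul_le_of_lt hR hPS
    have h3 := Subgroup.card_mul_index P
    have h4 := Subgroup.card_mul_index S
    have h5 : Nat.card P * (p * S.index) ≤ Nat.card P * p ^ 2 := by
      calc Nat.card P * (p * S.index) = (p * Nat.card P) * S.index := by ring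
        _ ≤ Nat.card S * S.index := Nat.mul_le_mul_right _ h2
        _ = Nat.card P * P.index := by rw [h3, h4]
        _ ≤ Nat.card P * p ^ 2 := Nat.mul_le_mul_left _ hPi
    have h6 := Nat.le_of_mul_le_mul_left h5 Nat.card_pos
    rw [pow_two] at h6
    exact Nat.le_of_mul_le_mul_left h6 hpp.pos
  obtain ⟨t, ht⟩ : ∃ t : R, S ⊔ Subgroup.zpowers t = ⊤ := by
    by_cases hStop : S = ⊤
    · exact ⟨1, by simp [hStop]⟩
    · obtain ⟨t, ht⟩ : ∃ t, t ∉ S := by
        by_contra hcon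
        push Not at hcon
        exact hStop (eq_top_iff.mpr fun x _ => hcon x)
      refine ⟨t, ?_⟩
      have hlt : S < S ⊔ Subgroup.zpowers t := by
        refine lt_of_le_of_ne le_sup_left ?_
        intro h
        apply ht
        rw [h]
        exact (le_sup_right : Subgroup.zpowers t ≤ _) (Subgroup.mem_zpowers t)
      have h2 := Cfsg.Agent.Lib.AutRankTwo.card_mul_le_of_lt hR hlt
      have h4 := Subgroup.card_mul_index S
      have h5 : Nat.card R ≤ Nat.card (S ⊔ Subgroup.zpowers t : Subgroup R) := by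
        rw [← h4, mul_comm]
        exact (Nat.mul_le_mul_right _ hSi).trans h2
      exact Subgroup.eq_top_of_le_card _ h5
  have htop : Subgroup.zpowers t ⊔ Subgroup.zpowers c = ⊤ := by
    apply frattini_nongenerating
    rw [eq_top_iff, ← ht, hS]
    refine sup_le (sup_le ?_ (le_sup_right.trans le_sup_left)) (le_sup_left.trans le_sup_left)
    rintro _ ⟨x, rfl⟩
    exact (le_sup_right : frattini R ≤ _) (Cfsg.Agent.Lib.Frat.pow_mem_frattini hR x)
  refine isMetacyclic_of_data (Subgroup.zpowers c) hcn c t rfl ?_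
  intro x
  have hx : x ∈ ((Subgroup.zpowers t ⊔ Subgroup.zpowers c : Subgroup R) : Set R) := by
    rw [htop]
    exact Subgroup.mem_top x
  rw [Subgroup.mul_normal] at hx
  obtain ⟨a, ha, b, hb, rfl⟩ := Set.mem_mul.mp hx
  obtain ⟨k, rfl⟩ := Subgroup.mem_zpowers_iff.mp ha
  exact ⟨k, b, hb, rfl⟩

/-- **Huppert**: for `p` odd, a `p`-group without quotients of order `p³` and exponent `p` is metacyclic. -/
theorem huppert_aux (hp2 : p ≠ 2) (n : ℕ) : ∀ (R : Type u) [Group R] [Finite R], Nat.card R = n →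
    IsPGroup p R → H1 p R → Cfsg.IsMetacyclic R := by
  induction n using Nat.strong_induction_on with
  | _ n ih =>
  intro R _ _ hn hR h1
  classical
  have hpp : p.Prime := hp.out
  -- quotient by a central subgroup of order `p`
  have hquot : ∀ z : R, orderOf z = p → z ∈ Subgroup.center R →
      ∃ _ : (Subgroup.zpowers z).Normal, ∃ U : Subgroup R, U.Normal ∧ Subgroup.zpowers z ≤ U ∧ ∃ u ∈ U, ∃ v : R,
      (∀ t ∈ U, ∃ k : ℤ, ∃ n ∈ Subgroup.zpowers z, t = u ^ k * n) ∧ (∀ x, ∃ k : ℤ, ∃ t ∈ U, x = v ^ k * t) := by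
    intro z hz hzc
    have hN : (Subgroup.zpowers z).Normal := by
      constructor
      intro x hx g
      have hle : Subgroup.zpowers z ≤ Subgroup.center R := by rw [Subgroup.zpowers_le]; exact hzc
      rw [Subgroup.mem_center_iff.mp (hle hx) g]
      simpa using hx
    refine ⟨hN, ?_⟩
    have hcard : Nat.card (R ⧸ Subgroup.zpowers z) * p = Nat.card R := by
      have := Subgroup.card_eq_card_quotient_mul_card_subgroup (Subgroup.zpowers z)
      rw [Nat.card_zpowers, hz] at this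
      exact this.symm
    have hlt : Nat.card (R ⧸ Subgroup.zpowers z) < n := by
      rw [← hn, ← hcard]
      have h0 : 0 < Nat.card (R ⧸ Subgroup.zpowers z) := Nat.card_pos
      nlinarith [hpp.two_le]
    have := ih _ hlt (R ⧸ Subgroup.zpowers z) rfl
      (hR.of_surjective (QuotientGroup.mk' _) (QuotientGroup.mk'_surjective _)) (H1_quotient _ h1)
    exact metacyclic_data _ this
  by_cases hnt : Nontrivial R
  swap
  · have : Subsingleton R := not_nontrivial_iff_subsingleton.mp hnt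
    have : IsCyclic R := isCyclic_of_subsingleton
    exact isMetacyclic_of_isCyclic
  obtain ⟨z₀, -, hz₀, hz₀c⟩ := exists_central_order hR ⊤ inferInstance (by simp)
  obtain ⟨-, U₀, hU₀, hNU₀, u₀, hu₀, v₀, hut₀, hvx₀⟩ := hquot z₀ hz₀ hz₀c
  have hz₀c' : Subgroup.zpowers z₀ ≤ Subgroup.center R := by rw [Subgroup.zpowers_le]; exact hz₀c
  obtain ⟨hcomm₀, -⟩ := lemmaB _ U₀ hz₀c' hU₀ u₀ v₀ hu₀ hut₀ hvx₀
  set z := ⁅u₀, v₀⁆ with hzdef
  have hzcomm : z ∈ commutator R :=
    Subgroup.commutator_mem_commutator (Subgroup.mem_top _) (Subgroup.mem_top _)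
  obtain ⟨k, hk⟩ := IsPGroup.iff_orderOf.mp hR z
  by_cases hk1 : k ≤ 1
  · -- class two
    have hzp : z ^ p = 1 := by
      rw [← orderOf_dvd_iff_pow_eq_one, hk]
      have := pow_dvd_pow p hk1
      rwa [pow_one] at this
    by_cases hz1 : z = 1
    · refine lemmaA hp2 hR h1 z hcomm₀ ?_ hzp
      rw [hz1]
      exact one_mem _
    · have hne : commutator R ≠ ⊥ := by
        intro h
        rw [h] at hzcomm
        exact hz1 (Subgroup.mem_bot.mp hzcomm)
      obtain ⟨z₁, hz₁, hz₁o, hz₁c⟩ := exists_central_order hR (commutator R) inferInstance hne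
      have hzo : orderOf z = p := by
        have : k = 0 ∨ k = 1 := by omega
        rcases this with rfl | rfl
        · rw [pow_zero, orderOf_eq_one_iff] at hk
          exact absurd hk hz1
        · rw [hk, pow_one]
      have heq : Subgroup.zpowers z₁ = Subgroup.zpowers z := by
        apply Subgroup.eq_of_le_of_card_ge
        · rw [Subgroup.zpowers_le]
          exact hcomm₀ hz₁
        · rw [Nat.card_zpowers, Nat.card_zpowers, hzo, hz₁o]
      have hzm : z ∈ Subgroup.zpowers z₁ := by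
        rw [heq]
        exact Subgroup.mem_zpowers z
      have hle : Subgroup.zpowers z₁ ≤ Subgroup.center R := by rw [Subgroup.zpowers_le]; exact hz₁c
      exact lemmaA hp2 hR h1 z hcomm₀ (hle hzm) hzp
  · -- `|R'| ≥ p²`
    have hk2 : 2 ≤ k := by omega
    have hz1 : z ≠ 1 := by
      rintro h
      rw [h, orderOf_one] at hk
      have := Nat.one_lt_pow (n := k) (by omega) hpp.one_lt
      omega
    have hne : commutator R ≠ ⊥ := by
      intro h
      rw [h] at hzcomm
      exact hz1 (Subgroup.mem_bot.mp hzcomm)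
    obtain ⟨z₁, hz₁, hz₁o, hz₁c⟩ := exists_central_order hR (commutator R) inferInstance hne
    obtain ⟨hN₁, U, hU, hNU, u, hu, v, hut, hvx⟩ := hquot z₁ hz₁o hz₁c
    have hz₁c' : Subgroup.zpowers z₁ ≤ Subgroup.center R := by rw [Subgroup.zpowers_le]; exact hz₁c
    obtain ⟨hcomm₁, huvU⟩ := lemmaB _ U hz₁c' hU u v hu hut hvx
    -- `z ∈ U`
    have hzU : z ∈ U := by
      have h2 : Subgroup.zpowers ⁅u, v⁆ ≤ U := by rw [Subgroup.zpowers_le]; exact huvU
      exact h2 (hcomm₁ hzcomm)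
    obtain ⟨a, n₁, hn₁, hza⟩ := hut z hzU
    -- `z₁` is a `p`-th power of a power of `z`
    obtain ⟨e, he⟩ : ∃ e : ℕ, z₁ = z ^ e := by
      have := hcomm₀ hz₁
      have h2 := (isOfFinOrder_of_finite z).mem_powers_iff_mem_zpowers.mpr this
      obtain ⟨e, he⟩ := h2
      exact ⟨e, he.symm⟩
    have hpe : p ∣ e := by
      by_contra hcop
      have h3 : (orderOf z).Coprime e := by
        rw [hk]
        exact Nat.Coprime.pow_left k ((Nat.Prime.coprime_iff_not_dvd hpp).mpr hcop)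
      have h4 := Nat.Coprime.orderOf_pow h3
      rw [← he, hz₁o, hk] at h4
      have h5 : p ^ 1 = p ^ k := by rw [pow_one]; exact h4
      have := Nat.pow_right_injective hpp.two_le h5
      omega
    obtain ⟨i, rfl⟩ := hpe
    have hn₁p : n₁ ^ p = 1 := by
      obtain ⟨j, rfl⟩ := Subgroup.mem_zpowers_iff.mp hn₁
      rw [← zpow_natCast, zpow_comm, zpow_natCast, ← hz₁o, pow_orderOf_eq_one, one_zpow]
    have hn₁c : ∀ g, Commute g n₁ := fun g => Subgroup.mem_center_iff.mp (hz₁c' hn₁) g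
    have hz₁u : z₁ ∈ Subgroup.zpowers u := by
      rw [he, pow_mul, hza, (hn₁c _).mul_pow, hn₁p, mul_one]
      exact Subgroup.pow_mem _ (Subgroup.zpow_mem _ (Subgroup.mem_zpowers u) a |> fun h => Subgroup.pow_mem _ h p) i
    have hUeq : U = Subgroup.zpowers u := by
      apply le_antisymm
      · intro t ht
        obtain ⟨k', n', hn', rfl⟩ := hut t ht
        refine Subgroup.mul_mem _ (Subgroup.zpow_mem _ (Subgroup.mem_zpowers u) k') ?_
        have : Subgroup.zpowers z₁ ≤ Subgroup.zpowers u := by rw [Subgroup.zpowers_le]; exact hz₁u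
        exact this hn'
      · rw [Subgroup.zpowers_le]
        exact hu
    exact isMetacyclic_of_data U hU u v hUeq hvx

/-- **Huppert**: for `p` odd, a `p`-group without quotients of order `p³` and exponent `p` is metacyclic. -/
theorem huppert [Finite R] (hp2 : p ≠ 2) (hR : IsPGroup p R) (h1 : H1 p R) : Cfsg.IsMetacyclic R :=
  huppert_aux hp2 _ R rfl hR h1

end Cfsg.Agent.Lib.Huppert
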