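import Mathlib
import Cfsg.Agent.Lib.Frat
import Cfsg.Agent.Lib.PNormalEA

/-!
# `p`-central `p`-groups for odd `p`

A group is `p`-central when all elements of order dividing `p` are central.  For odd `p`:
* the quotient by the elements of order dividing `p` is again `p`-central;
* `x ^ p = y ^ p` forces `(x⁻¹ y) ^ p = 1`;
* the Frattini index is at most the number of elements of order dividing `p`.

We also show that if `E` is maximal among normal elementary abelian subgroups of a `p`-group `P`
(`p` odd) then every element of order `p` of `C_P(E)` lies in `E`.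
-/

set_option autoImplicit false
set_option linter.style.haveILetI false
set_option linter.unusedSectionVars false
set_option linter.unusedVariables false

namespace Cfsg.Agent.Lib.PCentral

open Subgroup

universe u

/-- Class-two power formula. -/
theorem pow_mul_of_rel {G : Type*} [Group G] (x y c : G) (hyx : y * x = x * y * c)
    (hcx : c * x = x * c) (hcy : c * y = y * c) :
    ∀ m : ℕ, (x * y) ^ m = x ^ m * y ^ m * c ^ (m.choose 2) := by
  have h1 : ∀ m : ℕ, y ^ m * x = x * y ^ m * c ^ m := by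
    intro m
    induction m with
    | zero => simp
    | succ m ih =>
      calc y ^ (m + 1) * x = y ^ m * (y * x) := by rw [pow_succ]; group
        _ = y ^ m * (x * y * c) := by rw [hyx]
        _ = (y ^ m * x) * y * c := by group
        _ = x * y ^ m * c ^ m * y * c := by rw [ih]
        _ = x * y ^ m * (c ^ m * y) * c := by group
        _ = x * y ^ m * (y * c ^ m) * c := by
            rw [(show Commute (c ^ m) y from (show Commute c y from hcy).pow_left m).eq]
        _ = x * y ^ (m + 1) * c ^ (m + 1) := by rw [pow_succ, pow_succ]; group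
  have h2 : ∀ m : ℕ, c ^ m * x = x * c ^ m := fun m =>
    ((show Commute c x from hcx).pow_left m).eq
  have h3 : ∀ m n : ℕ, c ^ m * y ^ n = y ^ n * c ^ m := fun m n =>
    ((show Commute c y from hcy).pow_pow m n).eq
  intro m
  induction m with
  | zero => simp
  | succ m ih =>
    have hch : (m + 1).choose 2 = m.choose 2 + m := by
      rw [show (2 : ℕ) = 1 + 1 from rfl, Nat.choose_succ_succ, Nat.choose_one_right, add_comm]
    calc (x * y) ^ (m + 1) = (x * y) ^ m * (x * y) := pow_succ _ _
      _ = x ^ m * y ^ m * c ^ (m.choose 2) * (x * y) := by rw [ih]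
      _ = x ^ m * y ^ m * (c ^ (m.choose 2) * x) * y := by group
      _ = x ^ m * y ^ m * (x * c ^ (m.choose 2)) * y := by rw [h2]
      _ = x ^ m * (y ^ m * x) * c ^ (m.choose 2) * y := by group
      _ = x ^ m * (x * y ^ m * c ^ m) * c ^ (m.choose 2) * y := by rw [h1]
      _ = x ^ (m + 1) * y ^ m * (c ^ m * c ^ (m.choose 2)) * y := by rw [pow_succ]; group
      _ = x ^ (m + 1) * y ^ m * c ^ (m + m.choose 2) * y := by rw [pow_add c m (m.choose 2)]
      _ = x ^ (m + 1) * y ^ m * (c ^ (m + m.choose 2) * y) := by group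
      _ = x ^ (m + 1) * y ^ m * (y * c ^ (m + m.choose 2)) := by
          rw [(show Commute (c ^ (m + m.choose 2)) y from (show Commute c y from hcy).pow_left _).eq]
      _ = x ^ (m + 1) * y ^ (m + 1) * c ^ ((m + 1).choose 2) := by
          rw [hch, add_comm (m.choose 2) m, pow_succ y m]; group

/-- For odd `p`, class-two `p`-th powers are multiplicative when the commutator has order `p`. -/
theorem pow_mul_of_rel_odd {G : Type*} [Group G] {p : ℕ} (hp : p.Prime) (hp2 : p ≠ 2) (x y c : G)
    (hyx : y * x = x * y * c) (hcx : c * x = x * c) (hcy : c * y = y * c) (hc : c ^ p = 1) :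
    (x * y) ^ p = x ^ p * y ^ p := by
  rw [pow_mul_of_rel x y c hyx hcx hcy p]
  have h2 : 2 < p := lt_of_le_of_ne hp.two_le (Ne.symm hp2)
  obtain ⟨t, ht⟩ := hp.dvd_choose_self (k := 2) (by norm_num) h2
  rw [ht, pow_mul, hc, one_pow, mul_one]

/-- All elements of order dividing `p` are central. -/
def PC (p : ℕ) (K : Type*) [Group K] : Prop := ∀ z : K, z ^ p = 1 → ∀ u : K, z * u = u * z

/-- **Lemma A.** In a `p`-central `p`-group (`p` odd), if `(x ^ p) ^ p = 1` then all commutators
of `x` have order dividing `p`. -/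
theorem lemA {p : ℕ} [hpp : Fact p.Prime] (hp2 : p ≠ 2) :
    ∀ (n : ℕ) (K : Type u) [Group K] [Finite K], Nat.card K = n → IsPGroup p K → PC p K →
      ∀ x g : K, (x ^ p) ^ p = 1 → (g * x * g⁻¹ * x⁻¹) ^ p = 1 := by
  intro n
  induction n using Nat.strong_induction_on with
  | _ n ih =>
    intro K _ _ hn hK hPC x g hx
    by_cases htop : Subgroup.closure ({x} : Set K) = ⊤
    · have hg : g ∈ Subgroup.closure ({x} : Set K) := by rw [htop]; trivial
      obtain ⟨k, rfl⟩ := Subgroup.mem_closure_singleton.mp hg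
      have : x ^ k * x * (x ^ k)⁻¹ * x⁻¹ = 1 := by
        have hc : Commute (x ^ k) x := (Commute.refl x).zpow_left k
        rw [hc.eq]; group
      rw [this, one_pow]
    · obtain ⟨M, hM, hxM⟩ := (eq_top_or_exists_le_coatom
        (Subgroup.closure ({x} : Set K))).resolve_left htop
      have hMn : M.Normal := Frat.normal_of_commutator_le
        ((Frat.commutator_le_frattini hK).trans (frattini_le_coatom hM))
      have hxM' : x ∈ M := hxM (Subgroup.subset_closure rfl)
      set a := g * x * g⁻¹ with ha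
      have haM : a ∈ M := hMn.conj_mem x hxM' g
      have hcen := hPC (x ^ p) hx
      have hap : a ^ p = x ^ p := by
        rw [ha, conj_pow, ← hcen g]
        group
      have hlt : Nat.card M < n := by
        rw [← hn]
        have := Subgroup.card_le_card_group M
        refine lt_of_le_of_ne this ?_
        intro h
        exact hM.1 (Subgroup.eq_top_of_card_eq M h)
      have hPCM : PC p M := by
        intro z hz u
        apply Subtype.ext
        have hz' : (z : K) ^ p = 1 := by
          have := congrArg (Subtype.val) hz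
          simpa using this
        exact hPC (z : K) hz' (u : K)
      have key := ih _ hlt M rfl (hK.to_subgroup M) hPCM ⟨a, haM⟩ ⟨x, hxM'⟩
        (by
          apply Subtype.ext
          show ((a ^ p) ^ p) = 1
          rw [hap, hx])
      have key' : (x * a * x⁻¹ * a⁻¹) ^ p = 1 := by
        have := congrArg (Subtype.val) key
        simpa using this
      set c0 := x * a * x⁻¹ * a⁻¹ with hc0
      have hc0cen := hPC c0 key'
      have hrel : x⁻¹ * a = a * x⁻¹ * c0⁻¹ := by
        have h1 : x⁻¹ * a * c0 = a * x⁻¹ := by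
          calc x⁻¹ * a * c0 = x⁻¹ * (a * c0) := by group
            _ = x⁻¹ * (c0 * a) := by rw [hc0cen a]
            _ = a * x⁻¹ := by rw [hc0]; group
        calc x⁻¹ * a = x⁻¹ * a * c0 * c0⁻¹ := by group
          _ = a * x⁻¹ * c0⁻¹ := by rw [h1]
      have hpow := pow_mul_of_rel_odd hpp.out hp2 a x⁻¹ c0⁻¹ hrel
        (by
          have := hc0cen x⁻¹
          calc c0⁻¹ * a = (a⁻¹ * c0)⁻¹ := by group
            _ = (c0 * a⁻¹)⁻¹ := by rw [hc0cen a⁻¹]
            _ = a * c0⁻¹ := by group)
        (by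
          calc c0⁻¹ * x⁻¹ = (x * c0)⁻¹ := by group
            _ = (c0 * x)⁻¹ := by rw [hc0cen x]
            _ = x⁻¹ * c0⁻¹ := by group)
        (by rw [inv_pow, key', inv_one])
      rw [hpow, hap, inv_pow]
      group

/-- The subgroup of elements of order dividing `p` in a `p`-central group. -/
def Om (p : ℕ) (K : Type*) [Group K] (h : PC p K) : Subgroup K where
  carrier := {z | z ^ p = 1}
  mul_mem' := by
    intro a b ha hb
    have hc : Commute a b := h a ha b
    show (a * b) ^ p = 1
    rw [hc.mul_pow, ha, hb, one_mul]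
  one_mem' := one_pow p
  inv_mem' := by
    intro a ha
    show a⁻¹ ^ p = 1
    rw [inv_pow, ha, inv_one]

theorem mem_Om {p : ℕ} {K : Type*} [Group K] {h : PC p K} {z : K} : z ∈ Om p K h ↔ z ^ p = 1 :=
  Iff.rfl

instance Om_normal {p : ℕ} {K : Type*} [Group K] {h : PC p K} : (Om p K h).Normal := by
  constructor
  intro n hn g
  rw [mem_Om] at hn ⊢
  rw [conj_pow, hn]
  group

/-- The quotient of a `p`-central group by `Om` is `p`-central. -/
theorem pc_quot {p : ℕ} [hpp : Fact p.Prime] (hp2 : p ≠ 2) {K : Type u} [Group K] [Finite K]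
    (hK : IsPGroup p K) (h : PC p K) : PC p (K ⧸ Om p K h) := by
  intro z hz u
  obtain ⟨x, rfl⟩ := QuotientGroup.mk_surjective z
  obtain ⟨g, rfl⟩ := QuotientGroup.mk_surjective u
  have h1 : x ^ p ∈ Om p K h := by
    rw [← QuotientGroup.eq_one_iff]
    rw [QuotientGroup.mk_pow]
    exact hz
  have h2 := lemA hp2 _ K rfl hK h x g (mem_Om.mp h1)
  have h3 : g * x * g⁻¹ * x⁻¹ ∈ Om p K h := mem_Om.mpr h2
  rw [← QuotientGroup.eq_one_iff] at h3
  have h4 : (g : K ⧸ Om p K h) * x * (g : K ⧸ Om p K h)⁻¹ * (x : K ⧸ Om p K h)⁻¹ = 1 := h3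
  calc (x : K ⧸ Om p K h) * g
      = ((g : K ⧸ Om p K h) * x * (g : K ⧸ Om p K h)⁻¹ * (x : K ⧸ Om p K h)⁻¹)⁻¹ * (g * x) := by
        group
    _ = g * x := by rw [h4]; group

/-- **Lemma C.** In a `p`-central `p`-group (`p` odd) `x ^ p = y ^ p` forces `(x⁻¹ y) ^ p = 1`. -/
theorem lemC {p : ℕ} [hpp : Fact p.Prime] (hp2 : p ≠ 2) :
    ∀ (n : ℕ) (K : Type u) [Group K] [Finite K], Nat.card K = n → IsPGroup p K → PC p K →
      ∀ x y : K, x ^ p = y ^ p → (x⁻¹ * y) ^ p = 1 := by
  intro n
  induction n using Nat.strong_induction_on with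
  | _ n ih =>
    intro K _ _ hn hK hPC x y hxy
    by_cases htriv : Subsingleton K
    · rw [Subsingleton.elim (x⁻¹ * y) 1, one_pow]
    · haveI : Nontrivial K := not_subsingleton_iff_nontrivial.mp htriv
      have hne : Om p K hPC ≠ ⊥ := by
        have hdvd : p ∣ Nat.card K := by
          obtain ⟨k, hk⟩ := IsPGroup.iff_card.mp hK
          rw [hk]
          have hk0 : k ≠ 0 := by
            rintro rfl
            rw [pow_zero] at hk
            exact (Finite.one_lt_card (α := K)).ne' hk
          exact dvd_pow_self p hk0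
        obtain ⟨z, hz⟩ := exists_prime_orderOf_dvd_card' p hdvd
        intro hbot
        have : z ∈ Om p K hPC := by
          rw [mem_Om, ← hz]
          exact pow_orderOf_eq_one z
        rw [hbot, Subgroup.mem_bot] at this
        rw [this, orderOf_one] at hz
        exact hpp.out.one_lt.ne hz
      have hlt : Nat.card (K ⧸ Om p K hPC) < n := by
        rw [← hn]
        have h1 := Subgroup.card_mul_index (Om p K hPC)
        have h2 : 1 < Nat.card (Om p K hPC) := by
          have : Nontrivial (Om p K hPC) := (Subgroup.nontrivial_iff_ne_bot _).mpr hne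
          exact Finite.one_lt_card
        have h3 : 0 < Nat.card K := Nat.card_pos
        rw [Subgroup.index_eq_card] at h1
        rw [← h1]
        have h4 : 0 < Nat.card (K ⧸ Om p K hPC) := by
          rcases Nat.eq_zero_or_pos (Nat.card (K ⧸ Om p K hPC)) with h | h
          · rw [h, mul_zero] at h1; omega
          · exact h
        nlinarith
      have hQ : IsPGroup p (K ⧸ Om p K hPC) := hK.to_quotient _
      have h1 := ih _ hlt (K ⧸ Om p K hPC) rfl hQ (pc_quot hp2 hK hPC)
        (x : K ⧸ Om p K hPC) (y : K ⧸ Om p K hPC) (by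
          rw [← QuotientGroup.mk_pow, ← QuotientGroup.mk_pow, hxy])
      set u := x⁻¹ * y with hu
      have h2 : u ^ p ∈ Om p K hPC := by
        rw [← QuotientGroup.eq_one_iff, QuotientGroup.mk_pow, hu, QuotientGroup.mk_mul,
          QuotientGroup.mk_inv]
        exact h1
      have h3 := lemA hp2 _ K rfl hK hPC u x (mem_Om.mp h2)
      set c := x * u * x⁻¹ * u⁻¹ with hc
      have hccen := hPC c h3
      have hrel : u * x = x * u * c⁻¹ := by
        have h1 : u * x * c = x * u := by
          calc u * x * c = c * (u * x) := (hccen (u * x)).symm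
            _ = x * u := by rw [hc]; group
        calc u * x = u * x * c * c⁻¹ := by group
          _ = x * u * c⁻¹ := by rw [h1]
      have hpow := pow_mul_of_rel_odd hpp.out hp2 x u c⁻¹ hrel
        (by
          calc c⁻¹ * x = (x⁻¹ * c)⁻¹ := by group
            _ = (c * x⁻¹)⁻¹ := by rw [hccen x⁻¹]
            _ = x * c⁻¹ := by group)
        (by
          calc c⁻¹ * u = (u⁻¹ * c)⁻¹ := by group
            _ = (c * u⁻¹)⁻¹ := by rw [hccen u⁻¹]
            _ = u * c⁻¹ := by group)
        (by rw [inv_pow, h3, inv_one])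
      have hy : y = x * u := by rw [hu]; group
      rw [← hy, ← hxy] at hpow
      exact mul_left_cancel (a := x ^ p) (by rw [← hpow, mul_one])

/-- **Frattini bound**: the Frattini index of a `p`-central `p`-group (`p` odd) is at most the
number of elements of order dividing `p`. -/
theorem frattini_index_le {p : ℕ} [hpp : Fact p.Prime] (hp2 : p ≠ 2) {K : Type u} [Group K]
    [Finite K] (hK : IsPGroup p K) (h : PC p K) :
    (frattini K).index ≤ Nat.card (Om p K h) := by
  classical
  haveI : Fintype K := Fintype.ofFinite K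
  -- the `p`-power map has fibres of size at most `card Om`
  let Φ := frattini K
  have hpw : ∀ x : K, x ^ p ∈ Φ := fun x => Frat.pow_mem_frattini hK x
  let r : Φ → K := fun v => if hv : ∃ x : K, x ^ p = v then hv.choose else 1
  have hr : ∀ x : K, (r ⟨x ^ p, hpw x⟩) ^ p = x ^ p := by
    intro x
    have hv : ∃ y : K, y ^ p = ((⟨x ^ p, hpw x⟩ : Φ) : K) := ⟨x, rfl⟩
    simp only [r, dif_pos hv]
    exact hv.choose_spec
  let F : K → Φ × Om p K h := fun x =>
    (⟨x ^ p, hpw x⟩, ⟨(r ⟨x ^ p, hpw x⟩)⁻¹ * x,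
      mem_Om.mpr (lemC hp2 _ K rfl hK h _ _ (hr x))⟩)
  have hF : Function.Injective F := by
    intro x y hxy
    have h1 := congrArg Prod.fst hxy
    have h2 := congrArg Prod.snd hxy
    simp only [F] at h1 h2
    have h3 := congrArg Subtype.val h2
    simp only at h3
    rw [h1] at h3
    exact mul_left_cancel h3
  have hcard : Nat.card K ≤ Nat.card Φ * Nat.card (Om p K h) := by
    have := Nat.card_le_card_of_injective F hF
    rwa [Nat.card_prod] at this
  have hmul := Subgroup.card_mul_index Φ
  have hpos : 0 < Nat.card Φ := Nat.card_pos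
  rw [← hmul] at hcard
  exact Nat.le_of_mul_le_mul_left hcard hpos

/-- A nontrivial `p`-central `p`-group has a nontrivial `Om`. -/
theorem Om_ne_bot {p : ℕ} [hpp : Fact p.Prime] {K : Type*} [Group K] [Finite K]
    (hK : IsPGroup p K) (hPC : PC p K) [Nontrivial K] : Om p K hPC ≠ ⊥ := by
  have hdvd : p ∣ Nat.card K := by
    obtain ⟨k, hk⟩ := IsPGroup.iff_card.mp hK
    rw [hk]
    have hk0 : k ≠ 0 := by
      rintro rfl
      rw [pow_zero] at hk
      exact (Finite.one_lt_card (α := K)).ne' hk
    exact dvd_pow_self p hk0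
  obtain ⟨z, hz⟩ := exists_prime_orderOf_dvd_card' p hdvd
  intro hbot
  have : z ∈ Om p K hPC := by
    rw [mem_Om, ← hz]
    exact pow_orderOf_eq_one z
  rw [hbot, Subgroup.mem_bot] at this
  rw [this, orderOf_one] at hz
  exact hpp.out.one_lt.ne hz

/-- **Lemma D.** `K` normal in the `p`-group `P` (`p` odd), `x` of order dividing `p`, all elements
of order dividing `p` of `K` central in `K` and centralized by `x`.  Then `(x y) ^ p = 1` with
`y ∈ K` forces `y ^ p = 1`. -/
theorem lemD {p : ℕ} [hpp : Fact p.Prime] (hp2 : p ≠ 2) :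
    ∀ (n : ℕ) (P : Type u) [Group P] [Finite P], IsPGroup p P → ∀ (K : Subgroup P) [K.Normal],
      Nat.card K = n → ∀ x : P, x ^ p = 1 →
      (∀ z ∈ K, z ^ p = 1 → (∀ u ∈ K, z * u = u * z) ∧ x * z = z * x) →
      ∀ y ∈ K, (x * y) ^ p = 1 → y ^ p = 1 := by
  intro n
  induction n using Nat.strong_induction_on with
  | _ n ih =>
    intro P _ _ hP K hKn hn x hx hK y hy hxy
    by_cases hbot : K = ⊥
    · rw [hbot, Subgroup.mem_bot] at hy
      rw [hy, one_pow]
    have hPK : IsPGroup p K := hP.to_subgroup K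
    have hPC : PC p K := by
      intro z hz u
      apply Subtype.ext
      have hz' : (z : P) ^ p = 1 := by
        have := congrArg Subtype.val hz
        simpa using this
      exact (hK z z.2 hz').1 u u.2
    -- the subgroup `Ω` of elements of order dividing `p` of `K`, inside `P`
    set Ω : Subgroup P := (Om p K hPC).map K.subtype with hΩ
    have hmemΩ : ∀ z : P, z ∈ Ω ↔ z ∈ K ∧ z ^ p = 1 := by
      intro z
      constructor
      · rintro ⟨w, hw, rfl⟩
        refine ⟨w.2, ?_⟩
        have := congrArg Subtype.val (mem_Om.mp hw)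
        simpa using this
      · rintro ⟨hz, hzp⟩
        refine ⟨⟨z, hz⟩, ?_, rfl⟩
        rw [SetLike.mem_coe, mem_Om]
        apply Subtype.ext
        simpa using hzp
    haveI hΩn : Ω.Normal := by
      constructor
      intro z hz g
      rw [hmemΩ] at hz ⊢
      refine ⟨hKn.conj_mem z hz.1 g, ?_⟩
      rw [conj_pow, hz.2]
      group
    -- facts about elements with `z ^ p ∈ Ω`
    have hfact1 : ∀ z ∈ K, z ^ p ∈ Ω → ∀ u ∈ K, u * z * u⁻¹ * z⁻¹ ∈ Ω := by
      intro z hz hzp u hu
      have h1 := lemA hp2 _ K rfl hPK hPC ⟨z, hz⟩ ⟨u, hu⟩ (by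
        apply Subtype.ext
        simpa using ((hmemΩ _).mp hzp).2)
      have h2 : (u * z * u⁻¹ * z⁻¹) ^ p = 1 := by
        have := congrArg Subtype.val h1
        simpa using this
      exact (hmemΩ _).mpr ⟨K.mul_mem (K.mul_mem (K.mul_mem hu hz) (K.inv_mem hu)) (K.inv_mem hz), h2⟩
    have hfact2 : ∀ z ∈ K, z ^ p ∈ Ω → z⁻¹ * (x * z * x⁻¹) ∈ Ω := by
      intro z hz hzp
      have hz2 := (hmemΩ _).mp hzp
      have hxz : x * z ^ p = z ^ p * x := (hK _ hz2.1 hz2.2).2
      have hconj : x * z * x⁻¹ ∈ K := hKn.conj_mem z hz x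
      have hpw : (x * z * x⁻¹) ^ p = z ^ p := by
        rw [conj_pow, hxz]
        group
      have h1 := lemC hp2 _ K rfl hPK hPC ⟨z, hz⟩ ⟨x * z * x⁻¹, hconj⟩ (by
        apply Subtype.ext
        simpa using hpw.symm)
      have h2 : (z⁻¹ * (x * z * x⁻¹)) ^ p = 1 := by
        have := congrArg Subtype.val h1
        simpa using this
      exact (hmemΩ _).mpr ⟨K.mul_mem (K.inv_mem hz) hconj, h2⟩
    -- quotient
    let π := QuotientGroup.mk' Ω
    have hπ : Function.Surjective π := QuotientGroup.mk'_surjective Ω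
    have hπ1 : ∀ a : P, π a = 1 ↔ a ∈ Ω := fun a => by
      simpa [π] using QuotientGroup.eq_one_iff (N := Ω) a
    haveI hKbarn : (K.map π).Normal := hKn.map π hπ
    have hcardlt : Nat.card (K.map π) < n := by
      let f : K →* P ⧸ Ω := π.comp K.subtype
      have hrange : f.range = K.map π := by
        rw [MonoidHom.range_comp, Subgroup.range_subtype]
      have hmul := Subgroup.card_mul_index f.ker
      rw [Subgroup.index_ker, hrange] at hmul
      haveI : Nontrivial K := (Subgroup.nontrivial_iff_ne_bot K).mpr hbot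
      have hne := Om_ne_bot hPK hPC
      obtain ⟨w0, hw0⟩ := (Subgroup.ne_bot_iff_exists_ne_one).mp hne
      have hw : (w0 : K) ∈ Om p K hPC := w0.2
      have hw1 : (w0 : K) ≠ 1 := fun h => hw0 (Subtype.ext h)
      set w : K := (w0 : K)
      have hker : f.ker ≠ ⊥ := by
        intro h
        have : w ∈ f.ker := by
          rw [MonoidHom.mem_ker]
          apply (hπ1 _).mpr
          exact (hmemΩ _).mpr ⟨w.2, by
            have := congrArg Subtype.val (mem_Om.mp hw)
            simpa using this⟩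
        rw [h, Subgroup.mem_bot] at this
        exact hw1 this
      have h2 : 1 < Nat.card f.ker := by
        haveI : Nontrivial f.ker := (Subgroup.nontrivial_iff_ne_bot _).mpr hker
        exact Finite.one_lt_card
      have h3 : 0 < Nat.card (K.map π) := Nat.card_pos
      rw [← hn, ← hmul]
      nlinarith
    have hQ : IsPGroup p (P ⧸ Ω) := hP.to_quotient Ω
    have hypow : (π y) ^ p = 1 := by
      refine ih _ hcardlt (P ⧸ Ω) hQ (K.map π) rfl (π x) (by rw [← map_pow, hx, map_one]) ?_
        (π y) ⟨y, hy, rfl⟩ (by rw [← map_mul, ← map_pow, hxy, map_one])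
      rintro _ ⟨z, hz, rfl⟩ hzp
      have hzp' : z ^ p ∈ Ω := (hπ1 _).mp (by rw [map_pow, hzp])
      constructor
      · rintro _ ⟨u, hu, rfl⟩
        have h1 := (hπ1 _).mpr (hfact1 z hz hzp' u hu)
        have h2 : π u * π z * (π u)⁻¹ * (π z)⁻¹ = 1 := by simpa using h1
        calc π z * π u = (π u * π z * (π u)⁻¹ * (π z)⁻¹)⁻¹ * (π u * π z) := by group
          _ = π u * π z := by rw [h2]; group
      · have h1 := (hπ1 _).mpr (hfact2 z hz hzp')
        have h2 : (π z)⁻¹ * (π x * π z * (π x)⁻¹) = 1 := by simpa using h1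
        calc π x * π z = π z * ((π z)⁻¹ * (π x * π z * (π x)⁻¹)) * π x := by group
          _ = π z * π x := by rw [h2]; group
    have hyp : y ^ p ∈ Ω := (hπ1 _).mp (by rw [map_pow, hypow])
    have hc := hfact2 y hy hyp
    set c := y⁻¹ * (x * y * x⁻¹) with hcdef
    have hc2 := (hmemΩ _).mp hc
    have hc3 := hK c hc2.1 hc2.2
    have hcy : c * y = y * c := hc3.1 y hy
    have hxc : x * c = c * x := hc3.2
    -- `y x = x y c⁻¹`
    have hrel : y * x = x * y * c⁻¹ := by
      have h1 : x * y = y * c * x := by rw [hcdef]; group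
      rw [h1]
      calc y * x = y * (x * c) * c⁻¹ := by group
        _ = y * (c * x) * c⁻¹ := by rw [hxc]
        _ = y * c * x * c⁻¹ := by group
    have hpow := pow_mul_of_rel_odd hpp.out hp2 x y c⁻¹ hrel
      (by
        calc c⁻¹ * x = (x⁻¹ * c)⁻¹ := by group
          _ = (c * x⁻¹)⁻¹ := by
              congr 1
              have : x⁻¹ * c * x = c := by
                calc x⁻¹ * c * x = x⁻¹ * (c * x) := by group
                  _ = x⁻¹ * (x * c) := by rw [hxc]
                  _ = c := by group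
              calc x⁻¹ * c = x⁻¹ * c * x * x⁻¹ := by group
                _ = c * x⁻¹ := by rw [this]
          _ = x * c⁻¹ := by group)
      (by
        calc c⁻¹ * y = (y⁻¹ * c)⁻¹ := by group
          _ = (c * y⁻¹)⁻¹ := by
              congr 1
              have : y⁻¹ * c * y = c := by
                calc y⁻¹ * c * y = y⁻¹ * (c * y) := by group
                  _ = y⁻¹ * (y * c) := by rw [hcy]
                  _ = c := by group
              calc y⁻¹ * c = y⁻¹ * c * y * y⁻¹ := by group
                _ = c * y⁻¹ := by rw [this]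
          _ = y * c⁻¹ := by group)
      (by rw [inv_pow, hc2.2, inv_one])
    rw [hxy, hx, one_mul] at hpow
    exact hpow.symm

/-- Adjoining an element which is central modulo the normal subgroup `K`. -/
theorem exists_central_ext {P : Type*} [Group P] (K : Subgroup P) [hK : K.Normal] (z : P)
    (hz : ∀ g : P, g * z * g⁻¹ * z⁻¹ ∈ K) :
    ∃ A : Subgroup P, A.Normal ∧ K ≤ A ∧ z ∈ A ∧ (∀ a ∈ A, ∃ i : ℤ, ∃ k ∈ K, a = z ^ i * k) ∧
      (∀ a ∈ A, ∀ g : P, g * a * g⁻¹ * a⁻¹ ∈ K) := by
  let π := QuotientGroup.mk' K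
  have hπ1 : ∀ a : P, π a = 1 ↔ a ∈ K := fun a => by
    simpa [π] using QuotientGroup.eq_one_iff (N := K) a
  have hcen : ∀ g : P, Commute (π g) (π z) := by
    intro g
    have h1 := (hπ1 _).mpr (hz g)
    have h2 : π g * π z * (π g)⁻¹ * (π z)⁻¹ = 1 := by simpa using h1
    show π g * π z = π z * π g
    calc π g * π z = (π g * π z * (π g)⁻¹ * (π z)⁻¹) * (π z * π g) := by group
      _ = π z * π g := by rw [h2]; group
  have hzn : (Subgroup.zpowers (π z)).Normal := by
    constructor
    rintro _ ⟨i, rfl⟩ g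
    obtain ⟨g, rfl⟩ := QuotientGroup.mk'_surjective K g
    refine ⟨i, ?_⟩
    have hc : Commute (π g) (π z ^ i) := (hcen g).zpow_right i
    show π z ^ i = π g * π z ^ i * (π g)⁻¹
    rw [hc.eq]
    group
  refine ⟨(Subgroup.zpowers (π z)).comap π, hzn.comap π, ?_, ?_, ?_, ?_⟩
  · intro k hk
    rw [Subgroup.mem_comap, (hπ1 k).mpr hk]
    exact one_mem _
  · exact Subgroup.mem_comap.mpr (Subgroup.mem_zpowers _)
  · intro a ha
    obtain ⟨i, hi⟩ := Subgroup.mem_comap.mp ha
    refine ⟨i, (z ^ i)⁻¹ * a, (hπ1 _).mp ?_, by group⟩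
    rw [map_mul, map_inv, ← hi, map_zpow]
    simp
  · intro a ha g
    obtain ⟨i, hi⟩ := Subgroup.mem_comap.mp ha
    apply (hπ1 _).mp
    have hc : Commute (π g) (π z ^ i) := (hcen g).zpow_right i
    simp only [map_mul, map_inv, ← hi]
    show π g * π z ^ i * (π g)⁻¹ * (π z ^ i)⁻¹ = 1
    rw [hc.eq]
    group

/-- If `E` is maximal among normal elementary abelian subgroups of the `p`-group `P` (`p` odd),
every element of order dividing `p` centralizing `E` lies in `E`. -/
theorem mem_of_centralizes {p : ℕ} [hpp : Fact p.Prime] (hp2 : p ≠ 2) {P : Type u} [Group P]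
    [Finite P] (hP : IsPGroup p P) (E : Subgroup P) [hEn : E.Normal]
    (hEab : ∀ a ∈ E, ∀ b ∈ E, a * b = b * a) (hEp : ∀ a ∈ E, a ^ p = 1)
    (hEmax : ∀ A : Subgroup P, A.Normal → (∀ a ∈ A, ∀ b ∈ A, a * b = b * a) →
      (∀ a ∈ A, a ^ p = 1) → E ≤ A → A ≤ E)
    (x : P) (hxC : x ∈ Subgroup.centralizer (E : Set P)) (hxp : x ^ p = 1) : x ∈ E := by
  classical
  by_contra hxE
  set C := Subgroup.centralizer (E : Set P) with hC
  have hCn : C.Normal := by
    constructor
    intro c hc g
    rw [hC, Subgroup.mem_centralizer_iff] at hc ⊢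
    intro h hh
    have h1 := hc (g⁻¹ * h * g) (by
      have := hEn.conj_mem h hh g⁻¹
      simpa using this)
    calc h * (g * c * g⁻¹) = g * ((g⁻¹ * h * g) * c) * g⁻¹ := by group
      _ = g * (c * (g⁻¹ * h * g)) * g⁻¹ := by rw [h1]
      _ = g * c * g⁻¹ * h := by group
  let S : Set (Subgroup P) := {K | K.Normal ∧ K ≤ C ∧ ∀ z ∈ K, z ^ p = 1 → z ∈ E}
  have hS0 : (⊥ : Subgroup P) ∈ S := by
    refine ⟨inferInstance, bot_le, ?_⟩
    intro z hz _
    rw [Subgroup.mem_bot] at hz
    rw [hz]
    exact one_mem _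
  obtain ⟨K, hK⟩ := S.toFinite.exists_maximal ⟨⊥, hS0⟩
  obtain ⟨hKn, hKC, hKE⟩ := hK.1
  haveI := hKn
  have hxK : x ∉ K := fun h => hxE (hKE x h hxp)
  have hne : ¬ C ≤ K := fun h => hxK (h hxC)
  obtain ⟨z, hzC, hzK, hzc⟩ := PNormalEA.exists_central_mod hP K C hne
  obtain ⟨D, hDn, hKD, hzD, hDform, hDcen⟩ := exists_central_ext K z hzc
  have hDC : D ≤ C := by
    intro a ha
    obtain ⟨i, k, hk, rfl⟩ := hDform a ha
    exact C.mul_mem (C.zpow_mem hzC i) (hKC hk)
  have hDS : D ∉ S := by
    intro hD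
    exact hzK (hK.2 hD hKD hzD)
  have : ∃ w ∈ D, w ^ p = 1 ∧ w ∉ E := by
    by_contra hcon
    push Not at hcon
    exact hDS ⟨hDn, hDC, hcon⟩
  obtain ⟨w, hwD, hwp, hwE⟩ := this
  have hwC : w ∈ C := hDC hwD
  have hcommE : ∀ e ∈ E, ∀ c ∈ C, e * c = c * e := by
    intro e he c hc
    exact (Subgroup.mem_centralizer_iff.mp hc) e he
  have hcond : ∀ z0 ∈ K, z0 ^ p = 1 → (∀ u ∈ K, z0 * u = u * z0) ∧ w * z0 = z0 * w := by
    intro z0 hz0 hz0p
    have hz0E := hKE z0 hz0 hz0p
    exact ⟨fun u hu => hcommE z0 hz0E u (hKC hu), (hcommE z0 hz0E w hwC).symm⟩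
  have hcE : ∀ g : P, g * w * g⁻¹ * w⁻¹ ∈ E := by
    intro g
    have h1 := hDcen w hwD g
    have hy : w⁻¹ * (g * w * g⁻¹) ∈ K := by
      have := hKn.conj_mem _ h1 w⁻¹
      have h2 : w⁻¹ * (g * w * g⁻¹ * w⁻¹) * w⁻¹⁻¹ = w⁻¹ * (g * w * g⁻¹) := by group
      rwa [h2] at this
    have hpw : (w * (w⁻¹ * (g * w * g⁻¹))) ^ p = 1 := by
      have : w * (w⁻¹ * (g * w * g⁻¹)) = g * w * g⁻¹ := by group
      rw [this, conj_pow, hwp]
      group
    have hyp := lemD hp2 _ P hP K rfl w hwp hcond _ hy hpw
    have hyE := hKE _ hy hyp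
    have := hEn.conj_mem _ hyE w
    have h3 : w * (w⁻¹ * (g * w * g⁻¹)) * w⁻¹ = g * w * g⁻¹ * w⁻¹ := by group
    rwa [h3] at this
  obtain ⟨A, hAn, hEA, hwA, hAform, -⟩ := exists_central_ext E w hcE
  have hAab : ∀ a ∈ A, ∀ b ∈ A, a * b = b * a := by
    intro a ha b hb
    obtain ⟨i, e, he, rfl⟩ := hAform a ha
    obtain ⟨j, f, hf, rfl⟩ := hAform b hb
    have h1 : Commute (w ^ i) (w ^ j) := (Commute.refl w).zpow_zpow i j
    have h2 : Commute e f := hEab e he f hf
    have h3 : Commute e (w ^ j) :=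
      ((show Commute e w from hcommE e he w hwC).zpow_right j)
    have h4 : Commute f (w ^ i) :=
      ((show Commute f w from hcommE f hf w hwC).zpow_right i)
    have h5 : Commute (w ^ i * e) (w ^ j * f) :=
      Commute.mul_left (Commute.mul_right h1 h4.symm) (Commute.mul_right h3 h2)
    exact h5.eq
  have hAp : ∀ a ∈ A, a ^ p = 1 := by
    intro a ha
    obtain ⟨i, e, he, rfl⟩ := hAform a ha
    have h3 : Commute (w ^ i) e := ((show Commute e w from hcommE e he w hwC).zpow_right i).symm
    rw [h3.mul_pow, hEp e he, mul_one, ← zpow_natCast, ← zpow_mul, mul_comm, zpow_mul,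
      zpow_natCast, hwp, one_zpow]
  exact hwE (hEmax A hAn hAab hAp hEA hwA)

/-- Consequently a group mapping injectively into `C_P(E)` has Frattini index at most `#E`. -/
theorem frattini_index_le_of_centralizes {p : ℕ} [hpp : Fact p.Prime] (hp2 : p ≠ 2) {P : Type u}
    [Group P] [Finite P] (hP : IsPGroup p P) (E : Subgroup P) [hEn : E.Normal]
    (hEab : ∀ a ∈ E, ∀ b ∈ E, a * b = b * a) (hEp : ∀ a ∈ E, a ^ p = 1)
    (hEmax : ∀ A : Subgroup P, A.Normal → (∀ a ∈ A, ∀ b ∈ A, a * b = b * a) →
      (∀ a ∈ A, a ^ p = 1) → E ≤ A → A ≤ E)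
    {W : Type u} [Group W] [Finite W] (ι : W →* P) (hι : Function.Injective ι)
    (hιC : ∀ w, ι w ∈ Subgroup.centralizer (E : Set P)) :
    (frattini W).index ≤ Nat.card E := by
  have hmem : ∀ z : W, z ^ p = 1 → ι z ∈ E := fun z hz =>
    mem_of_centralizes hp2 hP E hEab hEp hEmax (ι z) (hιC z) (by rw [← map_pow, hz, map_one])
  have hPC : PC p W := by
    intro z hz u
    apply hι
    rw [map_mul, map_mul]
    exact (Subgroup.mem_centralizer_iff.mp (hιC u)) (ι z) (hmem z hz)
  have hW : IsPGroup p W := hP.of_injective ι hι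
  refine (frattini_index_le hp2 hW hPC).trans ?_
  let j : Om p W hPC → E := fun z => ⟨ι z, hmem z (mem_Om.mp z.2)⟩
  have hj : Function.Injective j := by
    intro a b hab
    apply Subtype.ext
    apply hι
    exact congrArg Subtype.val hab
  exact Nat.card_le_card_of_injective j hj

end Cfsg.Agent.Lib.PCentral
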