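import Mathlib
import Cfsg.Prelude.Def_PLocal
import Cfsg.Agent.Lib.CyclicMax
import Cfsg.Agent.Lib.Replacement
import Cfsg.Agent.Lib.Uniserial

/-!
# `Ω₁` of `p`-groups with a cyclic maximal subgroup, `p` odd.
-/

set_option autoImplicit false

open Cfsg
open scoped commutatorElement Pointwise

namespace Cfsg.Agent.Lib.OmegaCyc

open Cfsg.Agent.Lib.CyclicMax

variable {X : Type*} [Group X] [Finite X] {p : ℕ} [hp : Fact p.Prime]

/-- The core computation. -/
theorem core (hp2 : p ≠ 2) {t : ℕ} (ht : 2 ≤ t) {a b z : X} {e : ℕ} (hoa : orderOf a = p ^ (t - 1)) (hbp : b ^ p = 1)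
    (hb : b ∉ Subgroup.zpowers a) (hz : z = a ^ (p ^ (t - 2))) (hab : b * a * b⁻¹ = a * z ^ e)
    (hzb : b * z = z * b) (hgen : ∀ x : X, ∃ i j : ℕ, x = a ^ j * b ^ i) :
    ∃ A : Subgroup X, (∀ x, x ∈ A ↔ x ^ p = 1) ∧ (∀ x ∈ A, ∀ y ∈ A, x * y = y * x) ∧ Nat.card A = p ^ 2 := by
  have hpp : p.Prime := hp.out
  set q := p ^ (t - 2) with hq
  have hN : p ^ (t - 1) = q * p := by
    rw [hq, ← pow_succ]; congr 1; omega
  have hza : Commute z a := by
    rw [hz]
    exact (Commute.refl a).pow_left q
  have hzb' : Commute z b := hzb.symm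
  have hzp : z ^ p = 1 := by
    rw [hz, ← pow_mul, ← hN, ← hoa, pow_orderOf_eq_one]
  have hz1 : z ≠ 1 := by
    intro h
    rw [hz] at h
    have h1 : orderOf a ∣ q := orderOf_dvd_of_pow_eq_one h
    rw [hoa, hN] at h1
    have h2 : q * p ≤ q := Nat.le_of_dvd (pow_pos hpp.pos _) h1
    have h3 : q * 2 ≤ q * p := Nat.mul_le_mul_left _ hpp.two_le
    have h4 : 0 < q := pow_pos hpp.pos _
    omega
  have hb1 : b ≠ 1 := by
    intro h
    apply hb
    rw [h]
    exact Subgroup.one_mem _
  -- the subgroup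
  let A : Subgroup X := Subgroup.closure {z, b}
  have hAcomm : ∀ x ∈ A, ∀ y ∈ A, x * y = y * x := by
    have : IsMulCommutative A := by
      apply Subgroup.isMulCommutative_closure
      rintro s (rfl | rfl) u (rfl | rfl)
      · rfl
      · exact hzb.symm
      · exact hzb
      · rfl
    intro x hx y hy
    exact congrArg Subtype.val (mul_comm' (⟨x, hx⟩ : A) ⟨y, hy⟩)
  have hApow : ∀ x ∈ A, x ^ p = 1 := by
    intro x hx
    induction hx using Subgroup.closure_induction with
    | mem y hy =>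
      rcases hy with rfl | rfl
      · exact hzp
      · exact hbp
    | one => simp
    | mul u v hu hv h1 h2 =>
      have huv : Commute u v := hAcomm u hu v hv
      rw [huv.mul_pow, h1, h2, one_mul]
    | inv u _ h1 => simp [h1]
  have hzA : z ∈ A := Subgroup.subset_closure (by simp)
  have hbA : b ∈ A := Subgroup.subset_closure (by simp)
  -- the power formula
  have hconjbi : ∀ i j : ℕ, b ^ i * a ^ j * (b ^ i)⁻¹ = a ^ j * z ^ (e * i * j) := by
    intro i
    induction i with
    | zero =>
      intro j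
      simp
    | succ i ih =>
      intro j
      have e1 : b ^ (i + 1) * a ^ j * (b ^ (i + 1))⁻¹ = b * (b ^ i * a ^ j * (b ^ i)⁻¹) * b⁻¹ := by
        rw [pow_succ' b i]; group
      rw [e1, ih]
      have e2 : b * (a ^ j * z ^ (e * i * j)) * b⁻¹ = (b * a * b⁻¹) ^ j * (b * z * b⁻¹) ^ (e * i * j) := by
        rw [conj_pow, conj_pow]; group
      have e3 : b * z * b⁻¹ = z := by rw [hzb]; group
      rw [e2, e3, hab, (hza.pow_left e).symm.mul_pow, mul_assoc, ← pow_mul, ← pow_add]
      congr 2
      ring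
  have hcommbi : ∀ i j : ℕ, b ^ i * a ^ j = z ^ (e * i * j) * (a ^ j * b ^ i) := by
    intro i j
    have h1 := hconjbi i j
    have h2 : b ^ i * a ^ j = (b ^ i * a ^ j * (b ^ i)⁻¹) * b ^ i := by group
    rw [h2, h1]
    have h3 : Commute (z ^ (e * i * j)) (a ^ j) := hza.pow_pow _ _
    rw [← h3.eq]
    group
  have hpow : ∀ i j : ℕ, (a ^ j * b ^ i) ^ p = a ^ (j * p) := by
    intro i j
    have h1 := mul_pow_class_two' (x := a ^ j) (y := b ^ i) (z := z ^ (e * i * j))
      (by rw [hcommbi]; group) (hza.pow_pow _ _).eq (hzb'.pow_pow _ _).eq p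
    rw [h1]
    have h2 : (b ^ i) ^ p = 1 := by rw [← pow_mul, mul_comm, pow_mul, hbp, one_pow]
    have h3 : (z ^ (e * i * j)) ^ p.choose 2 = 1 := by
      obtain ⟨c, hc⟩ := Nat.Prime.dvd_choose_self hpp (by norm_num : 2 ≠ 0)
        (lt_of_le_of_ne hpp.two_le (Ne.symm hp2))
      have e4 : e * i * j * (p * c) = p * (e * i * j * c) := by ring
      rw [hc, ← pow_mul, e4, pow_mul, hzp, one_pow]
    rw [h2, h3, mul_one, mul_one, pow_mul]
  have hAmem : ∀ x, x ∈ A ↔ x ^ p = 1 := by
    intro x
    refine ⟨hApow x, fun hx => ?_⟩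
    obtain ⟨i, j, rfl⟩ := hgen x
    rw [hpow] at hx
    have h1 : orderOf a ∣ j * p := orderOf_dvd_of_pow_eq_one hx
    rw [hoa, hN] at h1
    obtain ⟨l, rfl⟩ : q ∣ j := Nat.dvd_of_mul_dvd_mul_right hpp.pos h1
    have e1 : a ^ (q * l) = z ^ l := by rw [hz, pow_mul]
    rw [e1]
    exact A.mul_mem (A.pow_mem hzA l) (A.pow_mem hbA i)
  refine ⟨A, hAmem, hAcomm, ?_⟩
  -- the order of `A`
  have hcl : A = Subgroup.zpowers z ⊔ Subgroup.zpowers b := by
    show Subgroup.closure {z, b} = _
    rw [Subgroup.zpowers_eq_closure, Subgroup.zpowers_eq_closure, ← Subgroup.closure_union]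
    rfl
  have hcz : Nat.card (Subgroup.zpowers z) = p := by
    rw [Nat.card_zpowers]
    exact orderOf_eq_prime hzp hz1
  have hcb : Nat.card (Subgroup.zpowers b) = p := by
    rw [Nat.card_zpowers]
    exact orderOf_eq_prime hbp hb1
  have hnorm : Subgroup.zpowers z ≤ Subgroup.normalizer (Subgroup.zpowers b : Set X) := by
    rw [Subgroup.zpowers_le]
    apply Cfsg.Agent.Lib.Replacement.mem_normalizer_of_forall
    intro x hx
    obtain ⟨i, rfl⟩ := Subgroup.mem_zpowers_iff.mp hx
    have : Commute z (b ^ i) := hzb'.zpow_right i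
    rw [this.eq, mul_assoc, mul_inv_cancel, mul_one]
    exact Subgroup.zpow_mem_zpowers b i
  have h1 := Cfsg.Agent.Lib.Replacement.card_sup_mul_card_inf _ _ hnorm
  have hinf : Subgroup.zpowers z ⊓ Subgroup.zpowers b = ⊥ := by
    have hd : Nat.card ↥(Subgroup.zpowers z ⊓ Subgroup.zpowers b) ∣ Nat.card (Subgroup.zpowers b) :=
      Subgroup.card_dvd_of_le inf_le_right
    rw [hcb] at hd
    rcases Nat.Prime.eq_one_or_self_of_dvd hpp _ hd with h2 | h2
    · exact Subgroup.card_eq_one.mp h2
    · exfalso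
      have h3 : Subgroup.zpowers z ⊓ Subgroup.zpowers b = Subgroup.zpowers b :=
        Subgroup.eq_of_le_of_card_ge inf_le_right (by rw [h2, hcb])
      have h4 : b ∈ Subgroup.zpowers z := by
        have := Subgroup.mem_zpowers b
        rw [← h3] at this
        exact this.1
      apply hb
      have h5 : Subgroup.zpowers z ≤ Subgroup.zpowers a := by
        rw [Subgroup.zpowers_le, hz]
        exact Subgroup.pow_mem _ (Subgroup.mem_zpowers a) _
      exact h5 h4
  rw [hinf, Subgroup.card_bot, mul_one, hcz, hcb] at h1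
  rw [hcl, h1, pow_two]

/-- A subgroup of index `p` together with an element outside. -/
theorem exists_rep {t : ℕ} (ht : Nat.card X = p ^ t) (ht1 : 1 ≤ t) {a b : X} (hoa : orderOf a = p ^ (t - 1))
    (hb : b ∉ Subgroup.zpowers a) : ∀ x : X, ∃ i j : ℕ, x = a ^ j * b ^ i := by
  have hpp : p.Prime := hp.out
  set H := Subgroup.zpowers a with hH
  have hcardH : Nat.card H = p ^ (t - 1) := by rw [hH, Nat.card_zpowers, hoa]
  have hi : H.index = p := by
    have h1 := Subgroup.card_mul_index H
    rw [hcardH, ht] at h1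
    have e : p ^ t = p ^ (t - 1) * p := by rw [← pow_succ]; congr 1; omega
    rw [e] at h1
    exact Nat.eq_of_mul_eq_mul_left (pow_pos hpp.pos _) h1
  have hminFac : (Nat.card X).minFac = p := by
    rw [ht]
    exact Nat.Prime.pow_minFac hpp (by omega)
  have hHn : H.Normal := Subgroup.normal_of_index_eq_minFac_card (by rw [hminFac, hi])
  have hle : H ≤ H ⊔ Subgroup.zpowers b := le_sup_left
  have htop : H ⊔ Subgroup.zpowers b = ⊤ := by
    have h1 := Subgroup.relIndex_mul_index hle
    rw [hi] at h1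
    rcases Nat.Prime.eq_one_or_self_of_dvd hpp _ ⟨_, h1.symm⟩ with h2 | h2
    · exfalso
      rw [Subgroup.relIndex_eq_one] at h2
      exact hb (h2 (Subgroup.mem_sup_right (Subgroup.mem_zpowers b)))
    · rw [h2] at h1
      have h3 : (H ⊔ Subgroup.zpowers b).index = 1 := by
        apply Nat.eq_of_mul_eq_mul_left hpp.pos
        rw [h1, mul_one]
      exact Subgroup.index_eq_one.mp h3
  intro x
  have hx : x ∈ H ⊔ Subgroup.zpowers b := by rw [htop]; exact Subgroup.mem_top _
  rw [← SetLike.mem_coe, Subgroup.normal_mul] at hx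
  obtain ⟨h, hh, k, hk, rfl⟩ := Set.mem_mul.mp hx
  obtain ⟨j, rfl⟩ := (mem_powers_iff_mem_zpowers).mpr hh
  obtain ⟨i, rfl⟩ := (mem_powers_iff_mem_zpowers).mpr hk
  exact ⟨i, j, rfl⟩

/-- **`Ω₁` of a noncyclic `p`-group with a cyclic subgroup of index `p`, `p` odd.** -/
theorem omega_cyclic_max (hp2 : p ≠ 2) {t : ℕ} (ht : Nat.card X = p ^ t) (C : Subgroup X) (hC : IsCyclic C)
    (hCi : C.index = p) (hnc : ¬ IsCyclic X) :
    ∃ A : Subgroup X, (∀ x, x ∈ A ↔ x ^ p = 1) ∧ (∀ x ∈ A, ∀ y ∈ A, x * y = y * x) ∧ Nat.card A = p ^ 2 := by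
  have hpp : p.Prime := hp.out
  have ht2 : 2 ≤ t := by
    by_contra hlt
    have hcases : t = 0 ∨ t = 1 := by omega
    rcases hcases with rfl | rfl
    · rw [pow_zero] at ht
      have := Nat.card_eq_one_iff_unique.mp ht
      apply hnc
      have hs : Subsingleton X := this.1
      exact isCyclic_of_subsingleton
    · rw [pow_one] at ht
      have : Fact (Nat.card X).Prime := ⟨by rw [ht]; exact hpp⟩
      exact hnc (isCyclic_of_prime_card rfl)
  by_cases hna : ∃ x y : X, x * y ≠ y * x
  · have ht3 : 3 ≤ t := by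
      by_contra hlt
      have h2 : t = 2 := by omega
      subst h2
      obtain ⟨x, y, hxy⟩ := hna
      have := IsPGroup.isMulCommutative_of_card_eq_prime_sq ht
      exact hxy (congrArg (fun u : X => u) (mul_comm' x y))
    obtain ⟨a, b, hoa, hob, hb, hab⟩ := exists_gens_odd hp2 t ht3 ht C hC hCi hna
    have hbp : b ^ p = 1 := by rw [← hob, pow_orderOf_eq_one]
    set q := p ^ (t - 2) with hq
    have hqq : orderOf a ∣ q * q := by
      rw [hoa, hq, ← pow_add]
      exact pow_dvd_pow p (by omega)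
    have hab2 : b * a * b⁻¹ = a * (a ^ q) ^ 1 := by rw [hab, pow_add, pow_one, pow_one]
    have hzq : (a ^ q) ^ q = 1 := by
      rw [← pow_mul]
      exact orderOf_dvd_iff_pow_eq_one.mp hqq
    have hzb : b * a ^ q = a ^ q * b := by
      have h1 : b * a ^ q * b⁻¹ = a ^ q := by
        rw [← conj_pow, hab2, pow_one]
        have : Commute a (a ^ q) := (Commute.refl a).pow_right q
        rw [this.mul_pow, hzq, mul_one]
      calc b * a ^ q = (b * a ^ q * b⁻¹) * b := by group
        _ = a ^ q * b := by rw [h1]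
    exact core hp2 ht2 hoa hbp hb rfl hab2 hzb (exists_rep ht (by omega) hoa hb)
  · push Not at hna
    -- the abelian case
    obtain ⟨g, hg⟩ := hC.exists_generator
    set a : X := (g : X) with ha
    have hCz : C = Subgroup.zpowers a := by
      apply le_antisymm
      · intro y hy
        obtain ⟨i, hi⟩ := Subgroup.mem_zpowers_iff.mp (hg ⟨y, hy⟩)
        refine Subgroup.mem_zpowers_iff.mpr ⟨i, ?_⟩
        have := congrArg Subtype.val hi
        simpa using this
      · rw [Subgroup.zpowers_le]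
        exact g.2
    have hcardC : Nat.card C = p ^ (t - 1) := by
      have h1 := Subgroup.card_mul_index C
      rw [hCi, ht] at h1
      have h2 : p ^ t = p ^ (t - 1) * p := by
        rw [← pow_succ]; congr 1; omega
      rw [h2] at h1
      exact Nat.eq_of_mul_eq_mul_right hpp.pos h1
    have hoa : orderOf a = p ^ (t - 1) := by
      rw [← Nat.card_zpowers, ← hCz, hcardC]
    have hne : C ≠ ⊤ := by
      intro h
      rw [h, Subgroup.index_top] at hCi
      exact hpp.one_lt.ne hCi
    obtain ⟨x, hx⟩ : ∃ x, x ∉ C := by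
      by_contra hall
      push Not at hall
      exact hne (eq_top_iff.mpr fun y _ => hall y)
    have hCn : C.Normal := by
      constructor
      intro u hu w
      rw [hna w u, mul_assoc, mul_inv_cancel, mul_one]
      exact hu
    have hxp : x ^ p ∈ C := by
      have := Subgroup.pow_index_mem C x
      rwa [hCi] at this
    rw [hCz] at hxp
    obtain ⟨u, hu⟩ := (mem_powers_iff_mem_zpowers).mpr hxp
    have hu' : a ^ u = x ^ p := hu
    have hpu : p ∣ u := by
      by_contra hnd
      apply hnc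
      have hcop : Nat.Coprime u (p ^ (t - 1)) :=
        Nat.Coprime.pow_right _ ((Nat.Prime.coprime_iff_not_dvd hpp).mpr hnd).symm
      have h1pt : 1 < p ^ (t - 1) := Nat.one_lt_pow (by omega) hpp.one_lt
      obtain ⟨v, -, hv⟩ := Nat.exists_mul_mod_eq_one_of_coprime hcop h1pt
      have haeq : a = (x ^ p) ^ v := by
        rw [← hu', ← pow_mul, ← pow_mod_orderOf, hoa, hv, pow_one]
      have hCle : C ≤ Subgroup.zpowers x := by
        rw [hCz, Subgroup.zpowers_le, haeq, ← pow_mul]
        exact Subgroup.pow_mem _ (Subgroup.mem_zpowers x) _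
      have hlt : C < Subgroup.zpowers x := lt_of_le_of_ne hCle (by
        intro h
        apply hx
        rw [h]
        exact Subgroup.mem_zpowers x)
      have hcardlt : Nat.card C < Nat.card (Subgroup.zpowers x) := by
        have h1 := Cfsg.Agent.Lib.Uniserial.relIndex_mul_card hlt.le
        have h2 : C.relIndex (Subgroup.zpowers x) ≠ 1 := by
          intro h3
          exact hlt.not_ge (Subgroup.relIndex_eq_one.mp h3)
        have h3 : C.relIndex (Subgroup.zpowers x) ≠ 0 := by
          intro h3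
          rw [h3, mul_zero] at h1
          exact Nat.card_pos.ne h1
        have h4 : 0 < Nat.card C := Nat.card_pos
        rw [← h1]
        exact lt_mul_of_one_lt_right h4 (by omega)
      have hd : Nat.card (Subgroup.zpowers x) ∣ p ^ t := by
        rw [← ht]
        exact Subgroup.card_subgroup_dvd_card _
      obtain ⟨j, hj, hjx⟩ := (Nat.dvd_prime_pow hpp).mp hd
      rw [hcardC, hjx] at hcardlt
      have hjt : t - 1 < j := (Nat.pow_lt_pow_iff_right hpp.one_lt).mp hcardlt
      have hjeq : j = t := by omega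
      rw [hjeq, Nat.card_zpowers] at hjx
      exact isCyclic_of_orderOf_eq_card x (by rw [ht, hjx])
    obtain ⟨s, hs⟩ := hpu
    set b := x * (a ^ s)⁻¹ with hbdef
    have hbp : b ^ p = 1 := by
      have hc : Commute x (a ^ s)⁻¹ := hna _ _
      rw [hbdef, hc.mul_pow, ← hu', hs, inv_pow, ← pow_mul, mul_comm s p, mul_inv_cancel]
    have hb : b ∉ Subgroup.zpowers a := by
      intro h
      apply hx
      rw [hCz]
      have e : x = b * a ^ s := by rw [hbdef]; group
      rw [e]
      exact Subgroup.mul_mem _ h (Subgroup.pow_mem _ (Subgroup.mem_zpowers a) s)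
    refine core hp2 ht2 hoa hbp hb rfl (e := 0) ?_ (hna _ _) (exists_rep ht (by omega) hoa hb)
    rw [pow_zero, mul_one, hna b a, mul_assoc, mul_inv_cancel, mul_one]

end Cfsg.Agent.Lib.OmegaCyc
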