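import Mathlib
import Cfsg.Prelude.Def_PLocal
import Cfsg.Agent.Lib.OmegaCyc
import Cfsg.Agent.Lib.OddPGroup

/-!
# `Ω₁` of `p`-groups with a cyclic maximal subgroup: subgroup version.
-/

set_option autoImplicit false

namespace Cfsg.Agent.Lib.OmegaCyc2

variable {R : Type*} [Group R] [Finite R] {p : ℕ} [hp : Fact p.Prime]

/-- Subgroup version of `omega_cyclic_max`. -/
theorem omega_of_relIndex (hp2 : p ≠ 2) (hR : IsPGroup p R) (T N : Subgroup R) (hNT : N ≤ T)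
    (hNc : IsCyclic N) (hi : N.relIndex T = p) (hTc : ¬ IsCyclic T) :
    ∃ A : Subgroup R, (∀ x, x ∈ A ↔ x ∈ T ∧ x ^ p = 1) ∧ (∀ x ∈ A, ∀ y ∈ A, x * y = y * x) ∧
      Nat.card A = p ^ 2 := by
  obtain ⟨t, ht⟩ := IsPGroup.iff_card.mp (hR.to_subgroup T)
  have hCc : IsCyclic (N.subgroupOf T) :=
    isCyclic_of_surjective (Subgroup.subgroupOfEquivOfLe hNT).symm.toMonoidHom
      (Subgroup.subgroupOfEquivOfLe hNT).symm.surjective
  have hCi : (N.subgroupOf T).index = p := hi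
  obtain ⟨A₀, hA₁, hA₂, hA₃⟩ := Cfsg.Agent.Lib.OmegaCyc.omega_cyclic_max hp2 ht _ hCc hCi hTc
  refine ⟨A₀.map T.subtype, ?_, ?_, ?_⟩
  · intro x
    constructor
    · rintro ⟨y, hy, rfl⟩
      refine ⟨y.2, ?_⟩
      have := (hA₁ y).1 hy
      simpa using congrArg T.subtype this
    · rintro ⟨hxT, hx⟩
      refine ⟨⟨x, hxT⟩, ?_, rfl⟩
      refine (hA₁ _).2 ?_
      apply Subtype.ext
      simpa using hx
  · rintro _ ⟨x, hx, rfl⟩ _ ⟨y, hy, rfl⟩
    simpa using congrArg T.subtype (hA₂ x hx y hy)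
  · rw [← hA₃]
    exact Nat.card_congr (A₀.equivMapOfInjective T.subtype T.subtype_injective).symm.toEquiv

end Cfsg.Agent.Lib.OmegaCyc2
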