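import Mathlib
import Cfsg.Prelude.Def_CaseTheorems
import Cfsg.Agent.Lib.ExtraBasics
import Cfsg.Agent.Lib.PCentral
import Cfsg.Agent.Lib.Huppert
import Cfsg.Agent.Lib.MaxClassPow2
import Cfsg.Agent.S2277

/-!
# Blackburn's classification of `p`-groups of rank two: the plane

`M` is a normal elementary abelian subgroup of order `p²` of the `p`-group `G` of rank at most two; `C = C_G(M)`,
`ζ` generates a central subgroup of order `p` in `M`.
-/

set_option autoImplicit false
set_option linter.style.haveILetI false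
set_option linter.unusedSectionVars false
set_option linter.unusedVariables false

namespace Cfsg.Agent.Lib.BlackburnA

open Subgroup Cfsg
open scoped commutatorElement

universe u

/-- The data of the plane. -/
structure Plane (p : ℕ) {G : Type u} [Group G] (M : Subgroup G) (ζ : G) : Prop where
  hG : IsPGroup p G
  hrk : PRankLE p 2 G
  nor : M.Normal
  ab : ∀ a ∈ M, ∀ b ∈ M, a * b = b * a
  exp : ∀ a ∈ M, a ^ p = 1
  card : Nat.card M = p ^ 2
  ζM : ζ ∈ M
  ζne : ζ ≠ 1
  ζcen : ∀ g : G, g * ζ = ζ * g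
  act : ∀ m ∈ M, ∀ g : G, m⁻¹ * (g⁻¹ * m * g) ∈ zpowers ζ

variable {G : Type u} [Group G] [Finite G] {p : ℕ} [hp : Fact p.Prime]

/-- The plane exists in a non-cyclic group. -/
theorem exists_plane (hp2 : p ≠ 2) (hG : IsPGroup p G) (hrk : PRankLE p 2 G) (hnc : ¬ IsCyclic G) :
    ∃ (M : Subgroup G) (ζ : G), Plane p M ζ := by
  classical
  have hpp := hp.out
  obtain ⟨M, hMn, hMab, hMe, hMc⟩ := Cfsg.Agent.S2277.normal_plane hp2 hG hnc
  have hMne : M ≠ ⊥ := by
    rintro rfl
    have : Nat.card (⊥ : Subgroup G) = 1 := Nat.card_unique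
    rw [this] at hMc
    have : 1 < p ^ 2 := Nat.one_lt_pow (by norm_num) hpp.one_lt
    omega
  obtain ⟨ζ, hζM, hζo, hζZ⟩ := Cfsg.Agent.Lib.Huppert.exists_central_order hG M hMn hMne
  have hζne : ζ ≠ 1 := by
    rintro rfl
    rw [orderOf_one] at hζo
    exact hpp.one_lt.ne hζo
  have hζcen : ∀ g : G, g * ζ = ζ * g := fun g => (Subgroup.mem_center_iff.mp hζZ g)
  refine ⟨M, ζ, hG, hrk, hMn, hMab, hMe, hMc, hζM, hζne, hζcen, ?_⟩
  -- the quotient by the central subgroup
  set Z := zpowers ζ with hZ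
  haveI hZn : Z.Normal := by
    constructor
    rintro _ ⟨k, rfl⟩ g
    refine ⟨k, ?_⟩
    have : Commute g (ζ ^ k) := ((show Commute g ζ from hζcen g).zpow_right k)
    simp only
    rw [this.eq]
    group
  have hZc : Nat.card Z = p := by
    rw [hZ, Nat.card_zpowers, hζo]
  have hZM : Z ≤ M := (zpowers_le).mpr hζM
  let π := QuotientGroup.mk' Z
  haveI : (M.map π).Normal := hMn.map π (QuotientGroup.mk'_surjective Z)
  have hcard : Nat.card (M.map π) = p := by
    have h1 := Subgroup.index_ker (π.comp M.subtype)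
    have h0 : (π.comp M.subtype).range = M.map π := by
      rw [MonoidHom.range_comp, Subgroup.range_subtype]
    rw [h0] at h1
    rw [← h1]
    have h2 : (π.comp M.subtype).ker = Z.subgroupOf M := by
      rw [← MonoidHom.comap_ker, QuotientGroup.ker_mk']
      rfl
    rw [h2]
    have h3 := Subgroup.card_mul_index (Z.subgroupOf M)
    have h4 : Nat.card (Z.subgroupOf M) = p := by
      rw [← hZc]
      exact Nat.card_congr (Subgroup.subgroupOfEquivOfLe hZM).toEquiv
    rw [h4, hMc, pow_two] at h3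
    exact Nat.eq_of_mul_eq_mul_left hpp.pos h3
  have hcen := Cfsg.Agent.Lib.ExtraBasics.le_center_of_normal_of_card
    (hG.to_quotient Z) (M.map π) hcard
  intro m hm g
  have h1 : π m ∈ Subgroup.center (G ⧸ Z) := hcen ⟨m, hm, rfl⟩
  have h2 := Subgroup.mem_center_iff.mp h1 (π g)
  rw [← QuotientGroup.eq_one_iff]
  show π (m⁻¹ * (g⁻¹ * m * g)) = 1
  simp only [map_mul, map_inv]
  calc (π m)⁻¹ * ((π g)⁻¹ * π m * π g) = (π m)⁻¹ * ((π g)⁻¹ * (π m * π g)) := by group
    _ = (π m)⁻¹ * ((π g)⁻¹ * (π g * π m)) := by rw [← h2]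
    _ = 1 := by group

namespace Plane

variable {M : Subgroup G} {ζ : G}

theorem orderOf_ζ (h : Plane p M ζ) : orderOf ζ = p :=
  orderOf_eq_prime (h.exp ζ h.ζM) h.ζne

theorem card_Z (h : Plane p M ζ) : Nat.card (zpowers ζ) = p := by
  rw [Nat.card_zpowers, h.orderOf_ζ]

theorem Z_le (h : Plane p M ζ) : zpowers ζ ≤ M := zpowers_le.mpr h.ζM

theorem conj_mem (h : Plane p M ζ) {m : G} (hm : m ∈ M) (g : G) : g⁻¹ * m * g ∈ M := by
  have := h.nor.conj_mem m hm g⁻¹
  simpa using this

theorem Z_comm (h : Plane p M ζ) {e : G} (he : e ∈ zpowers ζ) (g : G) : g * e = e * g := by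
  obtain ⟨k, rfl⟩ := he
  exact ((show Commute g ζ from h.ζcen g).zpow_right k).eq

theorem ζ_pow (h : Plane p M ζ) : ζ ^ p = 1 := h.exp ζ h.ζM

theorem Z_normal (h : Plane p M ζ) : (zpowers ζ).Normal := by
  constructor
  intro e he g
  rw [h.Z_comm he g]
  simpa using he

/-- The decomposition of the plane. -/
theorem decomp (h : Plane p M ζ) {y : G} (hy : y ∈ M) (hyZ : y ∉ zpowers ζ) :
    ∀ m ∈ M, ∃ i j : ℕ, m = y ^ i * ζ ^ j := by
  have hpp := hp.out
  haveI : Finite M := inferInstance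
  set T := zpowers y ⊔ zpowers ζ with hT
  have hTM : T ≤ M := sup_le (zpowers_le.mpr hy) h.Z_le
  have hZT : zpowers ζ ≤ T := le_sup_right
  have hne : zpowers ζ ≠ T := by
    intro he
    exact hyZ (he ▸ (le_sup_left : zpowers y ≤ T) (mem_zpowers y))
  have hT2 : Nat.card T = p ^ 2 := by
    have hd : Nat.card T ∣ p ^ 2 := by
      rw [← h.card]
      exact Subgroup.card_dvd_of_le hTM
    obtain ⟨k, hk2, hk⟩ := (Nat.dvd_prime_pow hpp).mp hd
    have hdz : p ∣ Nat.card T := by
      rw [← h.card_Z]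
      exact Subgroup.card_dvd_of_le hZT
    rw [hk] at hdz ⊢
    interval_cases k
    · simp at hdz
      exact absurd hdz hpp.one_lt.ne'
    · exfalso
      apply hne
      apply Subgroup.eq_of_le_of_card_ge hZT
      rw [hk, h.card_Z, pow_one]
    · rfl
  have hTeq : T = M := Subgroup.eq_of_le_of_card_ge hTM (by rw [hT2, h.card])
  intro m hm
  haveI := h.Z_normal
  rw [← hTeq, hT, Subgroup.mem_sup_of_normal_right] at hm
  obtain ⟨a, ha, b, hb, rfl⟩ := hm
  have hy0 : y ^ p = 1 := h.exp y hy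
  have hz0 : ζ ^ p = 1 := h.ζ_pow
  obtain ⟨i, rfl⟩ := (mem_powers_iff_mem_zpowers.mpr ha)
  obtain ⟨j, rfl⟩ := (mem_powers_iff_mem_zpowers.mpr hb)
  exact ⟨i, j, rfl⟩

/-- The centralizer of `M`. -/
theorem mem_C_of_comm (h : Plane p M ζ) {y g : G} (hy : y ∈ M) (hyZ : y ∉ zpowers ζ) (hg : y * g = g * y) :
    g ∈ centralizer (M : Set G) := by
  rw [mem_centralizer_iff]
  intro m hm
  obtain ⟨i, j, rfl⟩ := h.decomp hy hyZ m hm
  have h1 : Commute (y ^ i) g := (show Commute y g from hg).pow_left i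
  have h2 : Commute (ζ ^ j) g := ((show Commute g ζ from h.ζcen g).symm).pow_left j
  exact (h1.mul_left h2).eq

theorem mem_Z_of_comm (h : Plane p M ζ) {m g : G} (hm : m ∈ M) (hg : g ∉ centralizer (M : Set G))
    (hc : m * g = g * m) : m ∈ zpowers ζ := by
  by_contra hmZ
  exact hg (h.mem_C_of_comm hm hmZ hc)

theorem M_le_C (h : Plane p M ζ) : M ≤ centralizer (M : Set G) := by
  intro a ha
  rw [mem_centralizer_iff]
  intro b hb
  exact h.ab b hb a ha

/-- Elements of order `p` of `C` lie in `M`. -/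
theorem mem_M (h : Plane p M ζ) {c : G} (hc : c ∈ centralizer (M : Set G)) (hcp : c ^ p = 1) : c ∈ M := by
  classical
  have hpp := hp.out
  set T := M ⊔ zpowers c with hT
  haveI := h.nor
  have hcm : ∀ m ∈ M, m * c = c * m := fun m hm => (mem_centralizer_iff.mp hc) m hm
  have hdecomp : ∀ t ∈ T, ∃ m ∈ M, ∃ k : ℤ, t = m * c ^ k := by
    intro t ht
    rw [hT, Subgroup.mem_sup_of_normal_left] at ht
    obtain ⟨m, hm, b, ⟨k, rfl⟩, rfl⟩ := ht
    exact ⟨m, hm, k, rfl⟩
  have hcom : ∀ a ∈ T, ∀ b ∈ T, a * b = b * a := by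
    intro a ha b hb
    obtain ⟨m, hm, k, rfl⟩ := hdecomp a ha
    obtain ⟨m', hm', k', rfl⟩ := hdecomp b hb
    have h1 : Commute m (c ^ k') := ((show Commute m c from hcm m hm).zpow_right k')
    have h2 : Commute (c ^ k) m' := ((show Commute m' c from hcm m' hm').zpow_right k).symm
    have h3 : Commute (c ^ k) (c ^ k') := (Commute.refl c).zpow_zpow k k'
    have h4 : Commute m m' := h.ab m hm m' hm'
    exact ((h4.mul_right h1).mul_left (h2.mul_right h3)).eq
  have hexp : ∀ a ∈ T, a ^ p = 1 := by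
    intro a ha
    obtain ⟨m, hm, k, rfl⟩ := hdecomp a ha
    have h1 : Commute m (c ^ k) := ((show Commute m c from hcm m hm).zpow_right k)
    rw [h1.mul_pow, h.exp m hm, one_mul, ← zpow_natCast, ← zpow_mul, mul_comm, zpow_mul, zpow_natCast, hcp, one_zpow]
  have hrk := h.hrk T ⟨⟨fun a b => Subtype.ext (hcom a a.2 b b.2)⟩⟩ hexp
  have hMT : M ≤ T := le_sup_left
  have heq : M = T := Subgroup.eq_of_le_of_card_ge hMT (by rw [h.card]; exact hrk)
  rw [heq]
  exact (le_sup_right : zpowers c ≤ T) (mem_zpowers c)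

theorem exists_y (h : Plane p M ζ) : ∃ y ∈ M, y ∉ zpowers ζ := by
  have hpp := hp.out
  by_contra hcon
  push Not at hcon
  have h1 : M ≤ zpowers ζ := hcon
  have h2 := Nat.card_le_card_of_injective (Subgroup.inclusion h1) (Subgroup.inclusion_injective h1)
  rw [h.card, h.card_Z] at h2
  have h3 : p < p ^ 2 := by
    rw [pow_two]
    exact (Nat.lt_mul_iff_one_lt_left hpp.pos).mpr hpp.one_lt
  omega

theorem C_normal (h : Plane p M ζ) : (centralizer (M : Set G)).Normal := by
  haveI := h.nor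
  infer_instance

theorem card_le (h : Plane p M ζ) : Nat.card G ≤ p * Nat.card (centralizer (M : Set G)) := by
  obtain ⟨y, hy, hyZ⟩ := h.exists_y
  have h1 := Cfsg.Agent.Lib.MaxClassPow.card_le_of_conj y (⊤ : Subgroup G) (zpowers ζ) (by
    intro g _
    have h2 := h.act y hy g⁻¹
    rw [inv_inv] at h2
    have h3 : ⁅g, y⁆ = y * (y⁻¹ * (g * y * g⁻¹)) * y⁻¹ := by
      rw [commutatorElement_def]; group
    rw [h3, h.Z_comm h2 y]
    simpa using h2)
  rw [Nat.card_congr (Subgroup.topEquiv).toEquiv, h.card_Z] at h1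
  refine h1.trans (Nat.mul_le_mul_left _ ?_)
  apply Subgroup.card_le_of_le
  intro g hg
  apply h.mem_C_of_comm hy hyZ
  exact (mem_centralizer_singleton_iff.mp hg).symm

theorem index_C (h : Plane p M ζ) (hC : centralizer (M : Set G) ≠ ⊤) : (centralizer (M : Set G)).index = p := by
  have hpp := hp.out
  have h1 := Subgroup.card_mul_index (centralizer (M : Set G))
  have h2 := h.card_le
  rw [← h1] at h2
  have h3 : (centralizer (M : Set G)).index ≤ p := by
    rw [mul_comm] at h2
    exact Nat.le_of_mul_le_mul_right h2 Nat.card_pos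
  have h4 : (centralizer (M : Set G)).index ∣ Nat.card G := Subgroup.index_dvd_card _
  obtain ⟨n, hn⟩ := IsPGroup.iff_card.mp h.hG
  rw [hn] at h4
  obtain ⟨k, hk, hke⟩ := (Nat.dvd_prime_pow hpp).mp h4
  rw [hke] at h3 ⊢
  rcases k with _ | k
  · exfalso
    rw [pow_zero] at hke
    exact hC (Subgroup.index_eq_one.mp hke)
  · rcases k with _ | k
    · simp
    · exfalso
      have : p ^ 2 ≤ p ^ (k + 1 + 1) := Nat.pow_le_pow_right hpp.pos (by omega)
      have h5 : p < p ^ 2 := by
        rw [pow_two]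
        exact (Nat.lt_mul_iff_one_lt_left hpp.pos).mpr hpp.one_lt
      omega

/-- A subgroup containing `C` properly is everything. -/
theorem top_of_le (h : Plane p M ζ) {T : Subgroup G} (hT : centralizer (M : Set G) ≤ T) {x : G} (hxT : x ∈ T)
    (hx : x ∉ centralizer (M : Set G)) : T = ⊤ := by
  have hpp := hp.out
  have hC : centralizer (M : Set G) ≠ ⊤ := by
    intro he
    rw [he] at hx
    exact hx (mem_top x)
  have h1 := Subgroup.relIndex_mul_index hT
  rw [h.index_C hC] at h1
  rcases (Nat.dvd_prime hpp).mp (Dvd.intro_left _ h1) with h2 | h2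
  · exact Subgroup.index_eq_one.mp h2
  · exfalso
    rw [h2] at h1
    have h3 : (centralizer (M : Set G)).relIndex T = 1 := by
      have := hpp.pos
      exact Nat.eq_of_mul_eq_mul_right this (by rw [h1, one_mul])
    exact hx (Subgroup.relIndex_eq_one.mp h3 hxT)

/-- `G/C` is abelian. -/
theorem comm_mem_C (h : Plane p M ζ) (a b : G) : a * b * a⁻¹ * b⁻¹ ∈ centralizer (M : Set G) := by
  have hpp := hp.out
  by_cases hC : centralizer (M : Set G) = ⊤
  · rw [hC]
    exact mem_top _
  haveI := h.C_normal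
  haveI : IsCyclic (G ⧸ centralizer (M : Set G)) := by
    apply isCyclic_of_prime_card (p := p)
    rw [← Subgroup.index_eq_card]
    exact h.index_C hC
  rw [← QuotientGroup.eq_one_iff]
  have h1 : ((a : G ⧸ centralizer (M : Set G))) * b = b * a :=
    (IsCyclic.isMulCommutative (α := G ⧸ centralizer (M : Set G))).is_comm.comm _ _
  show ((a * b * a⁻¹ * b⁻¹ : G) : G ⧸ centralizer (M : Set G)) = 1
  simp only [QuotientGroup.mk_mul, QuotientGroup.mk_inv]
  rw [h1]
  group

/-- `C` is `p`-central. -/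
theorem pc (h : Plane p M ζ) : Cfsg.Agent.Lib.PCentral.PC p (centralizer (M : Set G)) := by
  intro z hz u
  apply Subtype.ext
  have hz' : (z : G) ^ p = 1 := by
    have := congrArg Subtype.val hz
    simpa using this
  have hzM := h.mem_M z.2 hz'
  exact (mem_centralizer_iff.mp u.2 z hzM)

theorem C_p (h : Plane p M ζ) : IsPGroup p (centralizer (M : Set G)) := h.hG.to_subgroup _

end Plane

end Cfsg.Agent.Lib.BlackburnA
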