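import Mathlib
import Cfsg.Agent.Lib.BlackburnA
import Cfsg.Agent.Lib.OddPGroup
import Cfsg.Agent.Lib.RankTwoA2

/-!
# Blackburn's classification of `p`-groups of rank two: the structure

An element `x` of order `p` outside `C = C_G(M)` with `[C, x] ≤ M` determines the group.
-/

set_option autoImplicit false
set_option linter.style.haveILetI false
set_option linter.unusedSectionVars false
set_option linter.unusedVariables false

namespace Cfsg.Agent.Lib.BlackburnB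

open Subgroup Cfsg Cfsg.Agent.Lib.BlackburnA

universe u

variable {G : Type u} [Group G] [Finite G] {p : ℕ} [hp : Fact p.Prime]
variable {M : Subgroup G} {ζ : G}

/-- The commutator with `x`. -/
def dl (x c : G) : G := c⁻¹ * (x⁻¹ * c * x)

theorem conj_eq (x c : G) : x⁻¹ * c * x = c * dl x c := by
  unfold dl; group

theorem dl_eq_one {x c : G} (h : dl x c = 1) : c * x = x * c := by
  have h1 := conj_eq x c
  rw [h, mul_one] at h1
  calc c * x = x * (x⁻¹ * c * x) := by group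
    _ = x * c := by rw [h1]

theorem dl_of_comm {x c : G} (h : c * x = x * c) : dl x c = 1 := by
  unfold dl
  calc c⁻¹ * (x⁻¹ * c * x) = c⁻¹ * (x⁻¹ * (c * x)) := by group
    _ = c⁻¹ * (x⁻¹ * (x * c)) := by rw [h]
    _ = 1 := by group

section star

variable (h : Plane p M ζ) {x : G} (hxC : x ∉ centralizer (M : Set G))
  (hδ : ∀ c ∈ centralizer (M : Set G), dl x c ∈ M)

include h hδ in
theorem dl_mul {c₁ c₂ : G} (h₁ : c₁ ∈ centralizer (M : Set G)) (h₂ : c₂ ∈ centralizer (M : Set G)) :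
    dl x (c₁ * c₂) = dl x c₁ * dl x c₂ := by
  have h3 : dl x c₁ * c₂⁻¹ = c₂⁻¹ * dl x c₁ :=
    (mem_centralizer_iff.mp (inv_mem h₂)) _ (hδ c₁ h₁)
  unfold dl at h3 ⊢
  calc (c₁ * c₂)⁻¹ * (x⁻¹ * (c₁ * c₂) * x) = c₂⁻¹ * (c₁⁻¹ * (x⁻¹ * c₁ * x)) * (x⁻¹ * c₂ * x) := by group
    _ = (c₁⁻¹ * (x⁻¹ * c₁ * x)) * c₂⁻¹ * (x⁻¹ * c₂ * x) := by rw [h3]
    _ = _ := by group

include h hδ in
theorem dl_pow {c : G} (hc : c ∈ centralizer (M : Set G)) (k : ℕ) : dl x (c ^ k) = dl x c ^ k := by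
  induction k with
  | zero => simp [dl]
  | succ k ih =>
    rw [pow_succ, dl_mul h hδ (pow_mem hc k) hc, ih, pow_succ]

include h in
theorem dl_M {m : G} (hm : m ∈ M) : dl x m ∈ zpowers ζ := h.act m hm x

include h hxC in
theorem dl_ne {m : G} (hm : m ∈ M) (hmZ : m ∉ zpowers ζ) : dl x m ≠ 1 := by
  intro he
  exact hmZ (h.mem_Z_of_comm hm hxC (dl_eq_one he))

include h in
theorem dl_Z {e : G} (he : e ∈ zpowers ζ) : dl x e = 1 :=
  dl_of_comm (h.Z_comm he x).symm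

/-- `dl x y₀` generates `⟨ζ⟩`. -/
theorem Z_le_powers (h : Plane p M ζ) {e₀ : G} (he₀ : e₀ ∈ zpowers ζ) (hne : e₀ ≠ 1) {e : G} (he : e ∈ zpowers ζ) :
    ∃ t : ℕ, e = e₀ ^ t := by
  have hpp := hp.out
  have he₀p : e₀ ^ p = 1 := h.exp e₀ (h.Z_le he₀)
  have ho : orderOf e₀ = p := orderOf_eq_prime he₀p hne
  have h1 : zpowers e₀ ≤ zpowers ζ := zpowers_le.mpr he₀
  have h2 : zpowers e₀ = zpowers ζ :=
    Subgroup.eq_of_le_of_card_ge h1 (by rw [h.card_Z, Nat.card_zpowers, ho])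
  rw [← h2] at he
  obtain ⟨t, ht⟩ := mem_powers_iff_mem_zpowers.mpr he
  exact ⟨t, ht.symm⟩

/-- A subgroup of `C` meeting `M` in `⟨ζ⟩` is cyclic. -/
theorem cyc (hp2 : p ≠ 2) (h : Plane p M ζ) {K : Subgroup G} (hKu : ∀ u ∈ K, u ^ p = 1 → u ∈ zpowers ζ) (hζ : ζ ∈ K) :
    ∃ z ∈ K, K = zpowers z := by
  classical
  have hpp := hp.out
  have hZK : zpowers ζ ≤ K := zpowers_le.mpr hζ
  have hcy : IsCyclic K := by
    apply Cfsg.Agent.Lib.OddPGroup.isCyclic_of_unique hp2 (h.hG.to_subgroup K)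
    have key : ∀ H : Subgroup K, Nat.card H = p → H = (zpowers ζ).subgroupOf K := by
      intro H hH
      apply Subgroup.eq_of_le_of_card_ge
      · intro u hu
        rw [mem_subgroupOf]
        apply hKu u u.2
        have h2 : (⟨u, hu⟩ : H) ^ p = 1 := by
          rw [← hH]
          exact pow_card_eq_one'
        have h3 := congrArg (fun w : H => ((w : K) : G)) h2
        simpa using h3
      · rw [hH, ← h.card_Z]
        exact le_of_eq (Nat.card_congr (Subgroup.subgroupOfEquivOfLe hZK).toEquiv)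
    intro H J hH hJ
    rw [key H hH, key J hJ]
  obtain ⟨g, hg⟩ := IsCyclic.exists_generator (α := K)
  refine ⟨g, g.2, ?_⟩
  ext u
  constructor
  · intro hu
    obtain ⟨k, hk⟩ := hg ⟨u, hu⟩
    refine ⟨k, ?_⟩
    have := congrArg Subtype.val hk
    simpa using this
  · rintro ⟨k, rfl⟩
    exact zpow_mem g.2 k

include h hxC in
/-- Order count. -/
theorem card_K {K : Subgroup G} (hKC : K ≤ centralizer (M : Set G)) {y₀ : G} (hy₀ : y₀ ∈ M) (hy₀K : y₀ ∉ K)
    (hcov : ∀ c ∈ centralizer (M : Set G), ∃ i : ℕ, ∃ u ∈ K, c = y₀ ^ i * u) {n : ℕ} (hn : Nat.card G = p ^ n) :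
    Nat.card K * p ^ 2 = p ^ n := by
  have hpp := hp.out
  have hC : centralizer (M : Set G) ≠ ⊤ := by
    intro he
    rw [he] at hxC
    exact hxC (mem_top x)
  have hy₀p : y₀ ^ p ∈ K := by
    rw [h.exp y₀ hy₀]
    exact one_mem _
  have h1 : K.relIndex (centralizer (M : Set G)) ≤ p :=
    Cfsg.Agent.Lib.RankTwoA2.relIndex_le_of_gen (h.M_le_C hy₀) hy₀p hcov
  have h2 : K.relIndex (centralizer (M : Set G)) ≠ 1 := by
    intro he
    exact hy₀K (Subgroup.relIndex_eq_one.mp he (h.M_le_C hy₀))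
  have h3 := Subgroup.relIndex_mul_index hKC
  rw [h.index_C hC] at h3
  have h4 := Subgroup.card_mul_index K
  have h5 : K.relIndex (centralizer (M : Set G)) ∣ p ^ n := by
    rw [← hn, ← h4, ← h3]
    exact Dvd.dvd.mul_left (Dvd.intro _ rfl) _
  obtain ⟨k, hk, hke⟩ := (Nat.dvd_prime_pow hpp).mp h5
  have h6 : K.relIndex (centralizer (M : Set G)) = p := by
    rw [hke] at h1 h2 ⊢
    rcases k with _ | k
    · simp at h2
    · rcases k with _ | k
      · simp
      · exfalso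
        have h7 : p ^ 2 ≤ p ^ (k + 1 + 1) := Nat.pow_le_pow_right hpp.pos (by omega)
        have h8 : p < p ^ 2 := by
          rw [pow_two]
          exact (Nat.lt_mul_iff_one_lt_left hpp.pos).mpr hpp.one_lt
        omega
  rw [h6] at h3
  rw [← hn, ← h4, ← h3, pow_two]

/-- The elements of order `p` in a cyclic `p`-group. -/
theorem Z_form {z u : G} {k : ℕ} (hz : orderOf z = p ^ (k + 1)) (hu : u ∈ zpowers z) (hup : u ^ p = 1) :
    ∃ s : ℕ, u = z ^ (p ^ k * s) := by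
  have hpp := hp.out
  obtain ⟨a, rfl⟩ := mem_powers_iff_mem_zpowers.mpr hu
  have h1 : z ^ (a * p) = 1 := by
    rw [pow_mul]
    exact hup
  have h2 := orderOf_dvd_of_pow_eq_one h1
  rw [hz, pow_succ] at h2
  have h3 : p ^ k ∣ a := Nat.dvd_of_mul_dvd_mul_right hpp.pos h2
  obtain ⟨s, rfl⟩ := h3
  exact ⟨s, rfl⟩

include h in
/-- The generation. -/
theorem gen_top {T K : Subgroup G} {y y₀ : G} (hx : x ∈ T) (hxC : x ∉ centralizer (M : Set G)) (hKT : K ≤ T)
    (hζ : ζ ∈ K) (hyT : y ∈ T) (hyM : y ∈ M) (hyZ : y ∉ zpowers ζ) (hy₀ : y₀ ∈ M)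
    (hcov : ∀ c ∈ centralizer (M : Set G), ∃ i : ℕ, ∃ u ∈ K, c = y₀ ^ i * u) : T = ⊤ := by
  have hMT : M ≤ T := by
    intro m hm
    obtain ⟨i, j, rfl⟩ := h.decomp hyM hyZ m hm
    exact mul_mem (pow_mem hyT i) (pow_mem (hKT hζ) j)
  have hCT : centralizer (M : Set G) ≤ T := by
    intro c hc
    obtain ⟨i, u, hu, rfl⟩ := hcov c hc
    exact mul_mem (pow_mem (hMT hy₀) i) (hKT hu)
  exact h.top_of_le hCT hx hxC

end star

end Cfsg.Agent.Lib.BlackburnB
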