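import Mathlib
import Cfsg.Agent.Lib.BlackburnB

/-!
# Blackburn's classification of `p`-groups of rank two: the structure, part two
-/

set_option autoImplicit false
set_option linter.style.haveILetI false
set_option linter.unusedSectionVars false
set_option linter.unusedVariables false

namespace Cfsg.Agent.Lib.BlackburnC

open Subgroup Cfsg Cfsg.Agent.Lib.BlackburnA Cfsg.Agent.Lib.BlackburnB

universe u

variable {G : Type u} [Group G] [Finite G] {p : ℕ} [hp : Fact p.Prime]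
variable {M : Subgroup G} {ζ : G}

/-- The rank one kind: `G` is the central product of `⟨x, y⟩` and the cyclic group `⟨z⟩`. -/
theorem family_two (hp2 : p ≠ 2) (h : Plane p M ζ) {x : G} (hxC : x ∉ centralizer (M : Set G)) (hxp : x ^ p = 1)
    (hδ : ∀ c ∈ centralizer (M : Set G), dl x c ∈ M) {n : ℕ} (hn : Nat.card G = p ^ n)
    (hcase : ∀ c ∈ centralizer (M : Set G), dl x c ∈ zpowers ζ) :
    3 ≤ n ∧ ∃ x y z : G, Subgroup.closure ({x, y, z} : Set G) = ⊤ ∧ x ^ p = 1 ∧ y ^ p = 1 ∧ z ^ p ^ (n - 2) = 1 ∧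
        x * z = z * x ∧ y * z = z * y ∧ x⁻¹ * y * x = y * z ^ p ^ (n - 3) := by
  classical
  have hpp := hp.out
  obtain ⟨y₀, hy₀, hy₀Z⟩ := h.exists_y
  set e₀ := dl x y₀ with he₀
  have he₀Z : e₀ ∈ zpowers ζ := dl_M h hy₀
  have he₀1 : e₀ ≠ 1 := dl_ne h hxC hy₀ hy₀Z
  set K : Subgroup G := centralizer (M : Set G) ⊓ centralizer ({x} : Set G) with hK
  have hKC : K ≤ centralizer (M : Set G) := inf_le_left
  have hζK : ζ ∈ K :=
    Subgroup.mem_inf.mpr ⟨h.M_le_C h.ζM, mem_centralizer_singleton_iff.mpr (h.ζcen x).symm⟩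
  have hKu : ∀ u ∈ K, u ^ p = 1 → u ∈ zpowers ζ := by
    intro u hu hup
    have hm := h.mem_M (Subgroup.mem_inf.mp hu).1 hup
    exact h.mem_Z_of_comm hm hxC (mem_centralizer_singleton_iff.mp (Subgroup.mem_inf.mp hu).2)
  obtain ⟨z, hzK, hKz⟩ := cyc hp2 h hKu hζK
  have hcov : ∀ c ∈ centralizer (M : Set G), ∃ i : ℕ, ∃ u ∈ K, c = y₀ ^ i * u := by
    intro c hc
    obtain ⟨t, ht⟩ := Z_le_powers h he₀Z he₀1 (hcase c hc)
    have hy₀C := h.M_le_C hy₀
    refine ⟨t, (y₀ ^ t)⁻¹ * c, Subgroup.mem_inf.mpr ⟨mul_mem (inv_mem (pow_mem hy₀C t)) hc, ?_⟩, by group⟩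
    rw [mem_centralizer_singleton_iff]
    apply dl_eq_one
    have h1 : c = y₀ ^ t * ((y₀ ^ t)⁻¹ * c) := by group
    have h2 := congrArg (dl x) h1
    rw [dl_mul h hδ (pow_mem hy₀C t) (mul_mem (inv_mem (pow_mem hy₀C t)) hc), dl_pow h hδ hy₀C, ht] at h2
    exact mul_left_cancel (a := e₀ ^ t) (by rw [← h2, mul_one])
  have hy₀K : y₀ ∉ K := by
    intro hyK
    exact he₀1 (dl_of_comm (mem_centralizer_singleton_iff.mp (Subgroup.mem_inf.mp hyK).2))
  have hcard := card_K h hxC hKC hy₀ hy₀K hcov hn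
  -- the order of `z`
  have hoz : orderOf z = Nat.card K := by
    rw [hKz, Nat.card_zpowers]
  have hK1 : 1 < Nat.card K := by
    haveI : Nontrivial K := ⟨⟨⟨ζ, hζK⟩, 1, fun he => h.ζne (congrArg Subtype.val he)⟩⟩
    exact Finite.one_lt_card
  obtain ⟨a, ha⟩ : ∃ a, Nat.card K = p ^ a := by
    have hd : Nat.card K ∣ p ^ n := ⟨p ^ 2, hcard.symm⟩
    obtain ⟨a, _, ha⟩ := (Nat.dvd_prime_pow hpp).mp hd
    exact ⟨a, ha⟩
  have ha0 : a ≠ 0 := by
    rintro rfl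
    rw [ha, pow_zero] at hK1
    exact lt_irrefl _ hK1
  obtain ⟨k, rfl⟩ := Nat.exists_eq_succ_of_ne_zero ha0
  have hnk : n = k + 3 := by
    rw [ha, ← pow_add] at hcard
    exact ((Nat.pow_right_injective hpp.two_le) hcard).symm.trans (by omega)
  subst hnk
  refine ⟨by omega, ?_⟩
  have hn2 : k + 3 - 2 = k + 1 := by omega
  have hn3 : k + 3 - 3 = k := by omega
  rw [hn2, hn3]
  have hoz' : orderOf z = p ^ (k + 1) := by
    rw [hoz, ha]
  set ε := z ^ p ^ k with hε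
  have hεp : ε ^ p = 1 := by
    rw [hε, ← pow_mul, ← pow_succ, ← hoz']
    exact pow_orderOf_eq_one z
  have hεK : ε ∈ K := pow_mem hzK _
  have hεZ := hKu ε hεK hεp
  have hε1 : ε ≠ 1 := by
    apply pow_ne_one_of_lt_orderOf (pow_ne_zero _ hpp.ne_zero)
    rw [hoz']
    exact Nat.pow_lt_pow_right hpp.one_lt (by omega)
  obtain ⟨t, ht⟩ := Z_le_powers h he₀Z he₀1 hεZ
  have hy₀C := h.M_le_C hy₀
  have hyM : y₀ ^ t ∈ M := pow_mem hy₀ t
  have hdy : dl x (y₀ ^ t) = ε := by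
    rw [dl_pow h hδ hy₀C, ht]
  have hyZ : y₀ ^ t ∉ zpowers ζ := by
    intro hz
    rw [dl_Z h hz] at hdy
    exact hε1 hdy.symm
  refine ⟨x, y₀ ^ t, z, ?_, hxp, h.exp _ hyM, ?_, ?_, ?_, ?_⟩
  · apply h.top_of_le (x := x) _ (subset_closure (by simp)) hxC
    intro c hc
    obtain ⟨i, u, hu, rfl⟩ := hcov c hc
    have hzT : z ∈ closure ({x, y₀ ^ t, z} : Set G) := subset_closure (by simp)
    have hKT : K ≤ closure ({x, y₀ ^ t, z} : Set G) := by
      rw [hKz]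
      exact zpowers_le.mpr hzT
    have hyT : y₀ ^ t ∈ closure ({x, y₀ ^ t, z} : Set G) := subset_closure (by simp)
    have hMT : M ≤ closure ({x, y₀ ^ t, z} : Set G) := by
      intro m hm
      obtain ⟨i, j, rfl⟩ := h.decomp hyM hyZ m hm
      exact mul_mem (pow_mem hyT i) (pow_mem (hKT hζK) j)
    exact mul_mem (pow_mem (hMT hy₀) i) (hKT hu)
  · rw [← hoz']
    exact pow_orderOf_eq_one z
  · exact (mem_centralizer_singleton_iff.mp (Subgroup.mem_inf.mp hzK).2).symm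
  · exact mem_centralizer_iff.mp (Subgroup.mem_inf.mp hzK).1 _ hyM
  · rw [conj_eq, hdy]

/-- The powers of an element of order `p`. -/
theorem powers_of_ne {a e w : G} (ha : a ^ p = 1) (he : e ∈ zpowers a) (hne : e ≠ 1) (hw : w ∈ zpowers a) :
    ∃ t : ℕ, w = e ^ t := by
  have hpp := hp.out
  have ha1 : a ≠ 1 := by
    rintro rfl
    rw [zpowers_one_eq_bot, Subgroup.mem_bot] at he
    exact hne he
  have hea : e ^ p = 1 := by
    obtain ⟨k, rfl⟩ := he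
    simp only
    rw [← zpow_natCast, ← zpow_mul, mul_comm, zpow_mul, zpow_natCast, ha, one_zpow]
  have ho : orderOf e = p := orderOf_eq_prime hea hne
  have hoa : orderOf a = p := orderOf_eq_prime ha ha1
  have h1 : zpowers e ≤ zpowers a := zpowers_le.mpr he
  have h2 : zpowers e = zpowers a :=
    Subgroup.eq_of_le_of_card_ge h1 (by rw [Nat.card_zpowers, Nat.card_zpowers, ho, hoa])
  rw [← h2] at hw
  obtain ⟨t, ht⟩ := mem_powers_iff_mem_zpowers.mpr hw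
  exact ⟨t, ht.symm⟩

/-- The case of a cyclic subgroup of index `p²`, not centralizing `x`. -/
theorem family_three_aux (hp2 : p ≠ 2) (h : Plane p M ζ) {x : G} (hxC : x ∉ centralizer (M : Set G)) (hxp : x ^ p = 1)
    (hδ : ∀ c ∈ centralizer (M : Set G), dl x c ∈ M) {n : ℕ} (hn : Nat.card G = p ^ n)
    {c₀ : G} (hc₀ : c₀ ∈ centralizer (M : Set G)) (hc₀Z : dl x c₀ ∉ zpowers ζ) :
    4 ≤ n ∧ ∃ (s : ℕ) (y z : G), ¬ p ∣ s ∧ Subgroup.closure ({x, y, z} : Set G) = ⊤ ∧ y ^ p = 1 ∧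
      z ^ p ^ (n - 2) = 1 ∧ y * z = z * y ∧ x⁻¹ * y * x = y * z ^ (s * p ^ (n - 3)) ∧ x⁻¹ * z * x = y * z ∧
      ∀ g : G, g * z ^ (s * p ^ (n - 3)) = z ^ (s * p ^ (n - 3)) * g := by
  classical
  have hpp := hp.out
  obtain ⟨y₀, hy₀, hy₀Z⟩ := h.exists_y
  have hy₀C := h.M_le_C hy₀
  set e₀ := dl x y₀ with he₀
  have he₀Z : e₀ ∈ zpowers ζ := dl_M h hy₀
  have he₀1 : e₀ ≠ 1 := dl_ne h hxC hy₀ hy₀Z
  set y₁ := dl x c₀ with hy₁
  have hy₁M : y₁ ∈ M := hδ c₀ hc₀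
  have hy₁p : y₁ ^ p = 1 := h.exp _ hy₁M
  -- the line `L` meets `⟨ζ⟩` trivially
  have hLZ : ∀ e ∈ zpowers y₁, e ∈ zpowers ζ → e = 1 := by
    intro e he heZ
    by_contra hne
    obtain ⟨t, ht⟩ := powers_of_ne hy₁p he hne (mem_zpowers y₁)
    apply hc₀Z
    rw [ht]
    exact pow_mem heZ t
  -- the subgroup `K`
  have hdl1 : dl x (1 : G) = 1 := by simp [dl]
  have hdlinv : ∀ c ∈ centralizer (M : Set G), dl x c⁻¹ = (dl x c)⁻¹ := by
    intro c hc
    have h1 := dl_mul h hδ hc (inv_mem hc)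
    rw [mul_inv_cancel, hdl1] at h1
    exact (inv_eq_of_mul_eq_one_right h1.symm).symm
  let K : Subgroup G :=
    { carrier := {c | c ∈ centralizer (M : Set G) ∧ dl x c ∈ zpowers y₁}
      mul_mem' := by
        rintro a b ⟨ha, ha'⟩ ⟨hb, hb'⟩
        refine ⟨mul_mem ha hb, ?_⟩
        rw [dl_mul h hδ ha hb]
        exact mul_mem ha' hb'
      one_mem' := ⟨one_mem _, by rw [hdl1]; exact one_mem _⟩
      inv_mem' := by
        rintro a ⟨ha, ha'⟩
        refine ⟨inv_mem ha, ?_⟩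
        rw [hdlinv a ha]
        exact inv_mem ha' }
  have hKmem : ∀ c, c ∈ K ↔ c ∈ centralizer (M : Set G) ∧ dl x c ∈ zpowers y₁ := fun c => Iff.rfl
  have hKC : K ≤ centralizer (M : Set G) := fun c hc => hc.1
  have hζK : ζ ∈ K := by
    refine ⟨h.M_le_C h.ζM, ?_⟩
    rw [dl_Z h (mem_zpowers ζ)]
    exact one_mem _
  have hZK : zpowers ζ ≤ K := zpowers_le.mpr hζK
  have hc₀K : c₀ ∈ K := ⟨hc₀, mem_zpowers _⟩
  have hKu : ∀ u ∈ K, u ^ p = 1 → u ∈ zpowers ζ := by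
    intro u hu hup
    have hm := h.mem_M hu.1 hup
    have h1 := hLZ _ hu.2 (dl_M h hm)
    exact h.mem_Z_of_comm hm hxC (dl_eq_one h1)
  obtain ⟨z, hzK, hKz⟩ := cyc hp2 h hKu hζK
  have hy₁Z : y₁ ∉ zpowers ζ := hc₀Z
  have hcov : ∀ c ∈ centralizer (M : Set G), ∃ i : ℕ, ∃ u ∈ K, c = y₀ ^ i * u := by
    intro c hc
    obtain ⟨i, j, hij⟩ := h.decomp hy₁M hy₁Z _ (hδ c hc)
    obtain ⟨t, ht⟩ := Z_le_powers h he₀Z he₀1 (pow_mem (mem_zpowers ζ) j)
    have hu : (y₀ ^ t)⁻¹ * c ∈ centralizer (M : Set G) := mul_mem (inv_mem (pow_mem hy₀C t)) hc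
    refine ⟨t, (y₀ ^ t)⁻¹ * c, ⟨hu, ?_⟩, by group⟩
    have h1 : c = y₀ ^ t * ((y₀ ^ t)⁻¹ * c) := by group
    have h2 := congrArg (dl x) h1
    rw [dl_mul h hδ (pow_mem hy₀C t) hu, dl_pow h hδ hy₀C, hij, ht] at h2
    have h3 : dl x ((y₀ ^ t)⁻¹ * c) = y₁ ^ i := by
      have h4 : e₀ ^ t * y₁ ^ i = y₁ ^ i * e₀ ^ t :=
        h.ab _ (pow_mem (h.Z_le he₀Z) t) _ (pow_mem hy₁M i)
      rw [← h4] at h2
      exact (mul_left_cancel h2).symm
    rw [h3]
    exact pow_mem (mem_zpowers _) i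
  have hy₀K : y₀ ∉ K := by
    intro hyK
    exact he₀1 (hLZ _ hyK.2 he₀Z)
  have hcard := card_K h hxC hKC hy₀ hy₀K hcov hn
  have hoz : orderOf z = Nat.card K := by
    rw [hKz, Nat.card_zpowers]
  obtain ⟨a, ha⟩ : ∃ a, Nat.card K = p ^ a := by
    have hd : Nat.card K ∣ p ^ n := ⟨p ^ 2, hcard.symm⟩
    obtain ⟨a, _, ha⟩ := (Nat.dvd_prime_pow hpp).mp hd
    exact ⟨a, ha⟩
  have hKcard : p < Nat.card K := by
    by_contra hle
    push Not at hle
    have he : zpowers ζ = K := Subgroup.eq_of_le_of_card_ge hZK (by rw [h.card_Z]; exact hle)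
    have hcZ : c₀ ∈ zpowers ζ := by
      rw [he]; exact hc₀K
    apply hc₀Z
    rw [hy₁, dl_Z h hcZ]
    exact one_mem _
  have ha2 : 2 ≤ a := by
    rw [ha] at hKcard
    by_contra hlt
    have : a ≤ 1 := by omega
    have h3 : p ^ a ≤ p ^ 1 := Nat.pow_le_pow_right hpp.pos this
    rw [pow_one] at h3
    omega
  obtain ⟨k, rfl⟩ : ∃ k, a = k + 2 := ⟨a - 2, by omega⟩
  have hnk : n = k + 4 := by
    rw [ha, ← pow_add] at hcard
    exact ((Nat.pow_right_injective hpp.two_le) hcard).symm.trans (by omega)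
  subst hnk
  refine ⟨by omega, ?_⟩
  have hn2 : k + 4 - 2 = k + 2 := by omega
  have hn3 : k + 4 - 3 = k + 1 := by omega
  rw [hn2, hn3]
  have hoz' : orderOf z = p ^ (k + 1 + 1) := by
    rw [hoz, ha]
  set y := dl x z with hy
  have hzC : z ∈ centralizer (M : Set G) := hzK.1
  have hyM : y ∈ M := hδ z hzC
  have hyZ : y ∉ zpowers ζ := by
    intro hyZ
    have hc₀z : c₀ ∈ zpowers z := hKz ▸ hc₀K
    obtain ⟨b, hb⟩ := mem_powers_iff_mem_zpowers.mpr hc₀z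
    apply hc₀Z
    rw [hy₁, ← hb, dl_pow h hδ hzC]
    exact pow_mem hyZ b
  set f := dl x y with hf
  have hfZ : f ∈ zpowers ζ := dl_M h hyM
  have hf1 : f ≠ 1 := dl_ne h hxC hyM hyZ
  have hfp : f ^ p = 1 := h.exp f (h.Z_le hfZ)
  have hfz : f ∈ zpowers z := hKz ▸ hZK hfZ
  obtain ⟨s, hs⟩ := Z_form (k := k + 1) hoz' hfz hfp
  refine ⟨s, y, z, ?_, ?_, h.exp y hyM, ?_, ?_, ?_, ?_, ?_⟩
  · rintro ⟨t, rfl⟩
    apply hf1
    rw [hs, show p ^ (k + 1) * (p * t) = p ^ (k + 1 + 1) * t by ring, pow_mul, ← hoz', pow_orderOf_eq_one, one_pow]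
  · apply gen_top h (K := K) (y := y) (y₀ := y₀) (subset_closure (by simp)) hxC _ hζK (subset_closure (by simp)) hyM hyZ hy₀ hcov
    rw [hKz]
    exact zpowers_le.mpr (subset_closure (by simp))
  · rw [← hoz']
    exact pow_orderOf_eq_one z
  · exact mem_centralizer_iff.mp hzC _ hyM
  · rw [conj_eq, ← hf, hs, mul_comm s]
  · rw [conj_eq]
    exact (mem_centralizer_iff.mp hzC _ hyM).symm
  · intro g
    rw [mul_comm s, ← hs]
    exact h.Z_comm hfZ g

/-- Normalizing the constant `s`. -/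
theorem normalize {x y z : G} {s m : ℕ} (hs : ¬ p ∣ s) (hsq : IsSquare (s : ZMod p))
    (hgen : Subgroup.closure ({x, y, z} : Set G) = ⊤) (hxp : x ^ p = 1) (hyp : y ^ p = 1) (hzp : z ^ p ^ (m + 1) = 1)
    (hyz : y * z = z * y) (hfc : ∀ g : G, g * z ^ (s * p ^ m) = z ^ (s * p ^ m) * g)
    (h1 : x⁻¹ * y * x = y * z ^ (s * p ^ m)) (h2 : x⁻¹ * z * x = y * z) :
    ∃ x' y' : G, Subgroup.closure ({x', y', z} : Set G) = ⊤ ∧ x' ^ p = 1 ∧ y' ^ p = 1 ∧ y' * z = z * y' ∧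
      x'⁻¹ * y' * x' = y' * z ^ (1 * p ^ m) ∧ x'⁻¹ * z * x' = y' * z := by
  classical
  have hpp := hp.out
  set f := z ^ (s * p ^ m) with hf
  have hfp : f ^ p = 1 := by
    rw [hf, ← pow_mul, show s * p ^ m * p = p ^ (m + 1) * s by ring, pow_mul, hzp, one_pow]
  have hfcx : Commute x f := hfc x
  have hfcy : Commute y f := hfc y
  have hfcz : Commute z f := hfc z
  obtain ⟨a, ha⟩ := hsq
  have ha0 : a ≠ 0 := by
    rintro rfl
    rw [mul_zero] at ha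
    exact hs ((ZMod.natCast_eq_zero_iff s p).mp ha)
  set b := (a⁻¹).val with hb
  set b' := a.val with hb'
  have hbc : (b : ZMod p) = a⁻¹ := ZMod.natCast_zmod_val _
  have hbc' : (b' : ZMod p) = a := ZMod.natCast_zmod_val _
  have hbb : ((b * b' : ℕ) : ZMod p) = ((1 : ℕ) : ZMod p) := by
    push_cast
    rw [hbc, hbc', inv_mul_cancel₀ ha0]
  have hsb : ((s * (b * b) : ℕ) : ZMod p) = ((1 : ℕ) : ZMod p) := by
    push_cast
    rw [ha, hbc]
    field_simp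
  -- iterated conjugation
  have I2 : ∀ i : ℕ, (x ^ i)⁻¹ * y * x ^ i = y * f ^ i := by
    intro i
    induction i with
    | zero => simp
    | succ i ih =>
      calc (x ^ (i + 1))⁻¹ * y * x ^ (i + 1) = x⁻¹ * ((x ^ i)⁻¹ * y * x ^ i) * x := by rw [pow_succ]; group
        _ = x⁻¹ * (y * f ^ i) * x := by rw [ih]
        _ = (x⁻¹ * y * x) * (x⁻¹ * f ^ i * x) := by group
        _ = (y * f) * f ^ i := by
          rw [h1]
          congr 1
          have := (hfcx.pow_right i).eq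
          calc x⁻¹ * f ^ i * x = x⁻¹ * (f ^ i * x) := by group
            _ = x⁻¹ * (x * f ^ i) := by rw [this]
            _ = f ^ i := by group
        _ = y * f ^ (i + 1) := by rw [pow_succ' f i]; group
  have hxf : ∀ j : ℕ, x⁻¹ * f ^ j * x = f ^ j := by
    intro j
    have := (hfcx.pow_right j).eq
    calc x⁻¹ * f ^ j * x = x⁻¹ * (f ^ j * x) := by group
      _ = x⁻¹ * (x * f ^ j) := by rw [this]
      _ = f ^ j := by group
  have hxy : ∀ j : ℕ, x⁻¹ * y ^ j * x = (y * f) ^ j := by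
    intro j
    have e : x⁻¹ * y ^ j * x = (x⁻¹ * y * x) ^ j := by
      have := conj_pow (a := x⁻¹) (b := y) (i := j)
      simpa using this.symm
    rw [e, h1]
  have I3 : ∀ i : ℕ, (x ^ i)⁻¹ * z * x ^ i = z * y ^ i * f ^ (i.choose 2) := by
    intro i
    induction i with
    | zero => simp
    | succ i ih =>
      have hch : (i + 1).choose 2 = i + i.choose 2 := by
        rw [show (2 : ℕ) = 1 + 1 from rfl, Nat.choose_succ_succ, Nat.choose_one_right]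
      calc (x ^ (i + 1))⁻¹ * z * x ^ (i + 1) = x⁻¹ * ((x ^ i)⁻¹ * z * x ^ i) * x := by rw [pow_succ]; group
        _ = x⁻¹ * (z * y ^ i * f ^ (i.choose 2)) * x := by rw [ih]
        _ = (x⁻¹ * z * x) * (x⁻¹ * y ^ i * x) * (x⁻¹ * f ^ (i.choose 2) * x) := by group
        _ = (y * z) * (y * f) ^ i * f ^ (i.choose 2) := by rw [h2, hxy, hxf]
        _ = (z * y) * (y ^ i * f ^ i) * f ^ (i.choose 2) := by
            rw [hyz, (show Commute y f from hfcy).mul_pow]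
        _ = z * y ^ (i + 1) * f ^ ((i + 1).choose 2) := by
            rw [hch, pow_succ' y i, pow_add f]
            group
  set C₂ := b.choose 2 with hC₂
  have hzy' : ∀ j : ℕ, y ^ j * z = z * y ^ j := fun j => ((show Commute y z from hyz).pow_left j).eq
  refine ⟨x ^ b, y ^ b * f ^ C₂, ?_, ?_, ?_, ?_, ?_, ?_⟩
  · -- generation
    set T := Subgroup.closure ({x ^ b, y ^ b * f ^ C₂, z} : Set G) with hT
    have hxbT : x ^ b ∈ T := subset_closure (by simp)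
    have hyT0 : y ^ b * f ^ C₂ ∈ T := subset_closure (by simp)
    have hzT : z ∈ T := subset_closure (by simp)
    have hfT : f ∈ T := pow_mem hzT _
    have hyb : y ^ b ∈ T := by
      have := mul_mem hyT0 (inv_mem (pow_mem hfT C₂))
      simpa using this
    have hxT : x ∈ T := by
      have e := Cfsg.Agent.Lib.RankTwoA2.pow_eq_pow_of_cast' hxp hbb
      rw [pow_one, pow_mul] at e
      rw [← e]
      exact pow_mem hxbT _
    have hyT : y ∈ T := by
      have e := Cfsg.Agent.Lib.RankTwoA2.pow_eq_pow_of_cast' hyp hbb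
      rw [pow_one, pow_mul] at e
      rw [← e]
      exact pow_mem hyb _
    rw [eq_top_iff, ← hgen, closure_le]
    rintro g (rfl | rfl | rfl)
    · exact hxT
    · exact hyT
    · exact hzT
  · rw [← pow_mul, mul_comm, pow_mul, hxp, one_pow]
  · have hc : Commute (y ^ b) (f ^ C₂) := hfcy.pow_pow b C₂
    rw [hc.mul_pow, ← pow_mul, mul_comm b, pow_mul, hyp, one_pow, one_mul, ← pow_mul, mul_comm C₂, pow_mul, hfp, one_pow]
  · have hc : Commute (f ^ C₂) z := (hfcz.pow_right C₂).symm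
    calc y ^ b * f ^ C₂ * z = y ^ b * (f ^ C₂ * z) := by group
      _ = y ^ b * (z * f ^ C₂) := by rw [hc.eq]
      _ = (y ^ b * z) * f ^ C₂ := by group
      _ = z * (y ^ b * f ^ C₂) := by rw [hzy']; group
  · -- the constant
    have e1 : (x ^ b)⁻¹ * (y ^ b * f ^ C₂) * x ^ b = ((x ^ b)⁻¹ * y * x ^ b) ^ b * ((x ^ b)⁻¹ * f ^ C₂ * x ^ b) := by
      have e := conj_pow (a := (x ^ b)⁻¹) (b := y) (i := b)
      rw [inv_inv] at e
      rw [e]
      group
    have hxfb : (x ^ b)⁻¹ * f ^ C₂ * x ^ b = f ^ C₂ := by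
      have := ((hfcx.pow_left b).pow_right C₂).eq
      calc (x ^ b)⁻¹ * f ^ C₂ * x ^ b = (x ^ b)⁻¹ * (f ^ C₂ * x ^ b) := by group
        _ = (x ^ b)⁻¹ * (x ^ b * f ^ C₂) := by rw [this]
        _ = f ^ C₂ := by group
    rw [e1, hxfb, I2 b, (show Commute y (f ^ b) from hfcy.pow_right b).mul_pow, ← pow_mul]
    have e2 : f ^ (b * b) = z ^ (1 * p ^ m) := by
      rw [hf, ← pow_mul]
      apply pow_eq_pow_iff_modEq.mpr
      have h3 : s * (b * b) ≡ 1 [MOD p] := (ZMod.natCast_eq_natCast_iff _ _ p).mp hsb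
      have h4 : p ^ m * (s * (b * b)) ≡ p ^ m * 1 [MOD p ^ m * p] := Nat.ModEq.mul_left' _ h3
      have h5 : orderOf z ∣ p ^ m * p := by
        rw [← pow_succ]
        exact orderOf_dvd_of_pow_eq_one hzp
      have h6 := h4.of_dvd h5
      rw [show s * p ^ m * (b * b) = p ^ m * (s * (b * b)) by ring, show 1 * p ^ m = p ^ m * 1 by ring]
      exact h6
    rw [e2]
    have hc : Commute (f ^ C₂) (z ^ (1 * p ^ m)) := (hfcz.pow_pow _ _).symm
    rw [← e2]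
    have hc' : Commute (f ^ (b * b)) (f ^ C₂) := Commute.pow_pow_self f _ _
    calc y ^ b * f ^ (b * b) * f ^ C₂ = y ^ b * (f ^ (b * b) * f ^ C₂) := by group
      _ = y ^ b * (f ^ C₂ * f ^ (b * b)) := by rw [hc'.eq]
      _ = y ^ b * f ^ C₂ * f ^ (b * b) := by group
  · rw [I3 b]
    have hc : Commute (f ^ C₂) z := (hfcz.pow_right C₂).symm
    calc z * y ^ b * f ^ C₂ = (y ^ b * z) * f ^ C₂ := by rw [hzy']
      _ = y ^ b * (z * f ^ C₂) := by group
      _ = y ^ b * (f ^ C₂ * z) := by rw [hc.eq]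
      _ = y ^ b * f ^ C₂ * z := by group

/-- The structure theorem. -/
theorem structure_of_star (hp2 : p ≠ 2) (h : Plane p M ζ) {x : G} (hxC : x ∉ centralizer (M : Set G)) (hxp : x ^ p = 1)
    (hδ : ∀ c ∈ centralizer (M : Set G), dl x c ∈ M) {n : ℕ} (hn : Nat.card G = p ^ n) :
    (3 ≤ n ∧ ∃ x y z : G, Subgroup.closure ({x, y, z} : Set G) = ⊤ ∧ x ^ p = 1 ∧ y ^ p = 1 ∧ z ^ p ^ (n - 2) = 1 ∧
        x * z = z * x ∧ y * z = z * y ∧ x⁻¹ * y * x = y * z ^ p ^ (n - 3)) ∨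
    (4 ≤ n ∧ ∃ (s : ℕ) (x y z : G), (s = 1 ∨ ¬ IsSquare (s : ZMod p)) ∧ Subgroup.closure ({x, y, z} : Set G) = ⊤ ∧
        x ^ p = 1 ∧ y ^ p = 1 ∧ z ^ p ^ (n - 2) = 1 ∧ y * z = z * y ∧ x⁻¹ * y * x = y * z ^ (s * p ^ (n - 3)) ∧
        x⁻¹ * z * x = y * z) := by
  by_cases hcase : ∀ c ∈ centralizer (M : Set G), dl x c ∈ zpowers ζ
  · exact Or.inl (family_two hp2 h hxC hxp hδ hn hcase)
  · push Not at hcase
    obtain ⟨c₀, hc₀, hc₀Z⟩ := hcase
    obtain ⟨hn4, s, y, z, hs, hgen, hyp, hzp, hyz, h1, h2, hfc⟩ := family_three_aux hp2 h hxC hxp hδ hn hc₀ hc₀Z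
    refine Or.inr ⟨hn4, ?_⟩
    by_cases hsq : IsSquare (s : ZMod p)
    · obtain ⟨m, rfl⟩ : ∃ m, n = m + 3 := ⟨n - 3, by omega⟩
      have hn2 : m + 3 - 2 = m + 1 := by omega
      have hn3 : m + 3 - 3 = m := by omega
      rw [hn2] at hzp ⊢
      rw [hn3] at h1 hfc ⊢
      obtain ⟨x', y', hgen', hx', hy', hyz', h1', h2'⟩ := normalize hs hsq hgen hxp hyp hzp hyz hfc h1 h2
      exact ⟨1, x', y', z, Or.inl rfl, hgen', hx', hy', hzp, hyz', h1', h2'⟩
    · exact ⟨s, x, y, z, Or.inr hsq, hgen, hxp, hyp, hzp, hyz, h1, h2⟩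

end Cfsg.Agent.Lib.BlackburnC
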