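import Mathlib
import Cfsg.Prelude.Def_OddOrderLocal
import Cfsg.Agent.Lib.Huppert
import Cfsg.Agent.Lib.HallPetrescu
import Cfsg.Agent.Lib.MaxClass
import Cfsg.Agent.Lib.PSolv

/-!
# For `p > 3`, a `p`-group without subgroups of exponent `p` and order `p³` is metacyclic
-/

set_option autoImplicit false

open scoped commutatorElement

namespace Cfsg.Agent.Lib.Huppert2

open Cfsg.Agent.Lib.Huppert

universe u

variable {R : Type u} [Group R] {p : ℕ} [hp : Fact p.Prime]

omit hp in
lemma isMetacyclic_of_surjective {S : Type*} [Group S] (f : R →* S) (hf : Function.Surjective f)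
    (h : Cfsg.IsMetacyclic R) : Cfsg.IsMetacyclic S := by
  obtain ⟨N, hn, hc1, hc2⟩ := h
  have hnm : (N.map f).Normal := Subgroup.Normal.map hn f hf
  refine ⟨N.map f, hnm, ?_, ?_⟩
  · exact isCyclic_of_surjective (f.subgroupMap N) (f.subgroupMap_surjective N)
  · refine isCyclic_of_surjective (QuotientGroup.map N (N.map f) f (Subgroup.le_comap_map f N)) ?_
    intro y
    obtain ⟨y₀, rfl⟩ := QuotientGroup.mk_surjective y
    obtain ⟨x, rfl⟩ := hf y₀
    exact ⟨(x : R ⧸ N), rfl⟩

lemma card_cyclic_le {C : Type*} [Group C] [Finite C] [IsCyclic C] (h : ∀ x : C, x ^ p = 1) :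
    Nat.card C ≤ p := by
  have hpp : p.Prime := hp.out
  rw [← IsCyclic.exponent_eq_card]
  exact Nat.le_of_dvd hpp.pos (Monoid.exponent_dvd_of_forall_pow_eq_one h)

lemma card_le_of_metacyclic [Finite R] (h : Cfsg.IsMetacyclic R) (hexp : ∀ x : R, x ^ p = 1) :
    Nat.card R ≤ p ^ 2 := by
  obtain ⟨N, hn, hc1, hc2⟩ := h
  have h1 : Nat.card N ≤ p := card_cyclic_le (fun x => Subtype.ext (by simpa using hexp x))
  have h2 : Nat.card (R ⧸ N) ≤ p := card_cyclic_le (fun x => by
    obtain ⟨x₀, rfl⟩ := QuotientGroup.mk_surjective x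
    rw [← QuotientGroup.mk_pow, hexp, QuotientGroup.mk_one])
  rw [Subgroup.card_eq_card_quotient_mul_card_subgroup N, pow_two]
  exact Nat.mul_le_mul h2 h1

/-- Normal subgroups of every intermediate order. -/
lemma exists_normal_between [Finite R] (hR : IsPGroup p R) (W V : Subgroup R) (hW : W.Normal) (hV : V.Normal)
    (hWV : W ≤ V) (k : ℕ) (hk : p ^ k * Nat.card W ≤ Nat.card V) :
    ∃ W₁ : Subgroup R, W₁.Normal ∧ W ≤ W₁ ∧ W₁ ≤ V ∧ Nat.card W₁ = p ^ k * Nat.card W := by
  have hpp : p.Prime := hp.out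
  induction k with
  | zero => exact ⟨W, hW, le_rfl, hWV, by simp⟩
  | succ k ih =>
    have h0 : 0 < Nat.card W := Nat.card_pos
    have hle : p ^ k * Nat.card W ≤ p ^ (k + 1) * Nat.card W :=
      Nat.mul_le_mul_right _ (Nat.pow_le_pow_right hpp.pos (Nat.le_succ k))
    obtain ⟨W₁, hW₁n, hWW₁, hW₁V, hW₁c⟩ := ih (hle.trans hk)
    have hlt : Nat.card W₁ < Nat.card V := by
      rw [hW₁c]
      refine lt_of_lt_of_le ?_ hk
      have h1 : p ^ k < p ^ (k + 1) := Nat.pow_lt_pow_right hpp.one_lt (Nat.lt_succ_self k)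
      exact Nat.mul_lt_mul_of_pos_right h1 h0
    have := hW₁n
    let π := QuotientGroup.mk' W₁
    have hπ : Function.Surjective π := QuotientGroup.mk'_surjective W₁
    have hne : V.map π ≠ ⊥ := by
      intro h
      rw [Subgroup.map_eq_bot_iff, QuotientGroup.ker_mk'] at h
      exact absurd (Subgroup.card_le_of_le h) (by omega)
    have hVmn : (V.map π).Normal := Subgroup.Normal.map hV π hπ
    obtain ⟨z, hzV, hzo, hzc⟩ := exists_central_order (hR.of_surjective π hπ) (V.map π) hVmn hne
    have hzn : (Subgroup.zpowers z).Normal := by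
      constructor
      intro x hx g
      have hle : Subgroup.zpowers z ≤ Subgroup.center _ := by rw [Subgroup.zpowers_le]; exact hzc
      rw [Subgroup.mem_center_iff.mp (hle hx) g]
      simpa using hx
    refine ⟨(Subgroup.zpowers z).comap π, Subgroup.Normal.comap hzn π, ?_, ?_, ?_⟩
    · intro x hx
      have : π x = 1 := by
        have := hWW₁ hx
        exact (QuotientGroup.eq_one_iff x).mpr this
      rw [Subgroup.mem_comap, this]
      exact one_mem _
    · intro x hx
      have hle : Subgroup.zpowers z ≤ V.map π := by rw [Subgroup.zpowers_le]; exact hzV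
      obtain ⟨s, hs, hsx⟩ := hle hx
      have h1 : s⁻¹ * x ∈ W₁ := by
        rw [← QuotientGroup.ker_mk' W₁]
        show π (s⁻¹ * x) = 1
        rw [map_mul, map_inv, hsx, inv_mul_cancel]
      have h2 := V.mul_mem hs (hW₁V h1)
      simpa using h2
    · have := Cfsg.Agent.Lib.PSolv.card_comap_of_surjective π hπ (Subgroup.zpowers z)
      rw [Nat.card_zpowers, hzo, QuotientGroup.ker_mk', hW₁c] at this
      rw [this, pow_succ']
      ring

/-- The key computation in a group of order `p⁴`. -/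
lemma quartic {Y : Type*} [Group Y] [Finite Y] (hp5 : 3 < p) (hY : Nat.card Y = p ^ 4) (z : Y)
    (hzc : z ∈ Subgroup.center Y) (hzo : orderOf z = p) (hpow : ∀ y : Y, y ^ p ∈ Subgroup.zpowers z) :
    ∃ X : Subgroup Y, Nat.card X = p ^ 3 ∧ ∀ x ∈ X, x ^ p = 1 := by
  classical
  have hpp : p.Prime := hp.out
  have hodd : Odd p := hpp.odd_of_ne_two (by omega)
  have hG : IsPGroup p Y := IsPGroup.of_card hY
  have hJ : (⊤ : Subgroup Y).lowerCentralSeries 3 = ⊥ :=
    Cfsg.Agent.Lib.MaxClass.lcs_eq_bot_of_card hG hY (by norm_num)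
  have hzle : Subgroup.zpowers z ≤ Subgroup.center Y := by rw [Subgroup.zpowers_le]; exact hzc
  have hcen : ∀ y g : Y, Commute g (y ^ p) := fun y g => Subgroup.mem_center_iff.mp (hzle (hpow y)) g
  -- `γ₃` is central
  have h3c : ∀ e ∈ (⊤ : Subgroup Y).lowerCentralSeries 2, ∀ g : Y, Commute g e := by
    intro e he g
    have h1 : ⁅e, g⁆ ∈ (⊤ : Subgroup Y).lowerCentralSeries 3 :=
      Subgroup.commutator_mem_commutator he (Subgroup.mem_top g)
    rw [hJ, Subgroup.mem_bot] at h1
    exact (commutatorElement_eq_one_iff_commute.mp h1).symm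
  have hDcomm : ∀ a ∈ (⊤ : Subgroup Y).lowerCentralSeries 1, ∀ b ∈ (⊤ : Subgroup Y).lowerCentralSeries 1,
      Commute a b := by
    intro a ha b hb
    have h1 : ⁅a, b⁆ ∈ (⊤ : Subgroup Y).lowerCentralSeries 3 := by
      have := Cfsg.Agent.Lib.HallPetrescu.lcs_comm (G := Y) 1 1
      exact this (Subgroup.commutator_mem_commutator ha hb)
    rw [hJ, Subgroup.mem_bot] at h1
    exact commutatorElement_eq_one_iff_commute.mp h1
  -- `⁅x, y⁆ ^ p = 1`
  have hwp : ∀ x y : Y, ⁅x, y⁆ ^ p = 1 := by
    intro x y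
    set w := ⁅x, y⁆ with hw
    have hwm : w ∈ (⊤ : Subgroup Y).lowerCentralSeries 1 :=
      Subgroup.commutator_mem_commutator (by
        rw [Subgroup.lowerCentralSeries_zero]; exact Subgroup.mem_top x) (Subgroup.mem_top y)
    set e := ⁅x, w⁆ with he
    have hem : e ∈ (⊤ : Subgroup Y).lowerCentralSeries 2 := by
      have h1 : ⁅w, x⁆ ∈ (⊤ : Subgroup Y).lowerCentralSeries 2 :=
        Subgroup.commutator_mem_commutator hwm (Subgroup.mem_top x)
      have h2 : e = ⁅w, x⁆⁻¹ := by rw [he, commutatorElement_inv]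
      rw [h2]
      exact Subgroup.inv_mem _ h1
    have hec : ∀ g : Y, Commute g e := h3c e hem
    have hconj : x * w * x⁻¹ = e * w := by
      rw [he, commutatorElement_def]
      group
    have hep : e ^ p = 1 := by
      have h1 : x * w ^ p * x⁻¹ = (e * w) ^ p := by rw [← conj_pow, hconj]
      rw [(hec w).symm.mul_pow] at h1
      have h2 : x * w ^ p * x⁻¹ = w ^ p := by
        rw [(hcen w x).eq]
        group
      rw [h2] at h1
      have h3 : (1 : Y) * w ^ p = e ^ p * w ^ p := by rw [one_mul]; exact h1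
      exact (mul_right_cancel h3).symm
    have hind : ∀ k : ℕ, ⁅x ^ k, y⁆ = w ^ k * e ^ (k.choose 2) := by
      intro k
      induction k with
      | zero => simp [commutatorElement_def]
      | succ k ih =>
        have h1 : ⁅x ^ (k + 1), y⁆ = x * ⁅x ^ k, y⁆ * x⁻¹ * w := by
          rw [hw]
          simp only [commutatorElement_def]
          rw [pow_succ']
          group
        have h2 : x * w ^ k * x⁻¹ = e ^ k * w ^ k := by
          rw [← conj_pow, hconj, (hec w).symm.mul_pow]
        have h3 : x * e ^ (k.choose 2) * x⁻¹ = e ^ (k.choose 2) := by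
          rw [((hec x).pow_right _).eq]
          group
        have h4 : x * (w ^ k * e ^ (k.choose 2)) * x⁻¹
            = (x * w ^ k * x⁻¹) * (x * e ^ (k.choose 2) * x⁻¹) := by group
        rw [h1, ih, h4, h2, h3]
        have hch : (k + 1).choose 2 = k + k.choose 2 := by
          rw [Nat.choose_succ_succ' k 1, Nat.choose_one_right]
        rw [hch, pow_add e, pow_succ w]
        have hcomm1 : Commute (e ^ (k.choose 2)) w := ((hec w).pow_right _).symm
        have hcomm2 : Commute (e ^ k) (w ^ k) := ((hec (w ^ k)).pow_right _).symm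
        calc e ^ k * w ^ k * e ^ k.choose 2 * w = e ^ k * w ^ k * (e ^ k.choose 2 * w) := by group
          _ = e ^ k * w ^ k * (w * e ^ k.choose 2) := by rw [hcomm1.eq]
          _ = (e ^ k * w ^ k) * w * e ^ k.choose 2 := by group
          _ = (w ^ k * e ^ k) * w * e ^ k.choose 2 := by rw [hcomm2.eq]
          _ = w ^ k * (e ^ k * w) * e ^ k.choose 2 := by group
          _ = w ^ k * (w * e ^ k) * e ^ k.choose 2 := by rw [((hec w).pow_right k).symm.eq]
          _ = w ^ k * w * (e ^ k * e ^ k.choose 2) := by group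
    have h5 := hind p
    have h6 : ⁅x ^ p, y⁆ = 1 := by
      rw [commutatorElement_eq_one_iff_commute]
      exact (hcen x y).symm
    rw [h6] at h5
    obtain ⟨c, hc⟩ : p ∣ p.choose 2 := by
      have := Cfsg.Agent.Lib.HallPetrescu.pow_dvd_choose hpp 1 2 (by norm_num) (by omega)
      simpa using this
    rw [hc, pow_mul, hep, one_pow, mul_one] at h5
    exact h5.symm
  -- the derived subgroup has exponent `p`
  have hDp : ∀ d ∈ (⊤ : Subgroup Y).lowerCentralSeries 1, d ^ p = 1 := by
    intro d hd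
    have hd' : d ∈ ⁅(⊤ : Subgroup Y), (⊤ : Subgroup Y)⁆ := by simpa [Subgroup.lowerCentralSeries_succ] using hd
    rw [Subgroup.commutator_def] at hd'
    induction hd' using Subgroup.closure_induction with
    | mem x hx =>
      obtain ⟨a, _, b, _, rfl⟩ := hx
      exact hwp a b
    | one => exact one_pow p
    | mul a b ha hb iha ihb =>
      have ha' : a ∈ (⊤ : Subgroup Y).lowerCentralSeries 1 := by
        simpa [Subgroup.lowerCentralSeries_succ, Subgroup.commutator_def] using ha
      have hb' : b ∈ (⊤ : Subgroup Y).lowerCentralSeries 1 := by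
        simpa [Subgroup.lowerCentralSeries_succ, Subgroup.commutator_def] using hb
      rw [(hDcomm a ha' b hb').mul_pow, iha ha', ihb hb', one_mul]
    | inv a ha iha =>
      have ha' : a ∈ (⊤ : Subgroup Y).lowerCentralSeries 1 := by
        simpa [Subgroup.lowerCentralSeries_succ, Subgroup.commutator_def] using ha
      rw [inv_pow, iha ha', inv_one]
  -- the power map is a homomorphism
  have hmul : ∀ a b : Y, (a * b) ^ p = a ^ p * b ^ p := by
    intro a b
    obtain ⟨c, hc, h⟩ := Cfsg.Agent.Lib.HallPetrescu.pow_mul_mem a b p 4 hJ ⊥ (by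
      intro j hj2 hj4 d hd
      have hd1 : d ∈ (⊤ : Subgroup Y).lowerCentralSeries 1 := by
        exact (Subgroup.lowerCentralSeries_antitone (⊤ : Subgroup Y) (show 1 ≤ j - 1 by omega)) hd
      obtain ⟨c, hc⟩ : p ∣ p.choose j := by
        have := Cfsg.Agent.Lib.HallPetrescu.pow_dvd_choose hpp 1 j (by omega) (by omega)
        simpa using this
      rw [hc, pow_mul, hDp d hd1, one_pow]
      exact one_mem _)
    rw [Subgroup.mem_bot] at hc
    rw [h, hc, mul_one]
  let f : Y →* Y := MonoidHom.mk' (fun x => x ^ p) hmul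
  have hrange : Nat.card f.range ≤ p := by
    have h1 : f.range ≤ Subgroup.zpowers z := by
      rintro _ ⟨x, rfl⟩
      exact hpow x
    have h2 := Subgroup.card_le_of_le h1
    rwa [Nat.card_zpowers, hzo] at h2
  have hcardK : p ^ 3 ≤ Nat.card f.ker := by
    have h1 : Nat.card Y = Nat.card f.ker * Nat.card f.range := by
      rw [← Subgroup.index_ker, Subgroup.card_mul_index]
    rw [hY] at h1
    have h2 : p ^ 3 * p ≤ Nat.card f.ker * p := by
      calc p ^ 3 * p = p ^ 4 := by ring
        _ = Nat.card f.ker * Nat.card f.range := h1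
        _ ≤ Nat.card f.ker * p := Nat.mul_le_mul_left _ hrange
    exact Nat.le_of_mul_le_mul_right h2 hpp.pos
  obtain ⟨m, hm⟩ := IsPGroup.iff_card.mp (hG.to_subgroup f.ker)
  have hm3 : 3 ≤ m := by
    rw [hm] at hcardK
    exact (Nat.pow_le_pow_iff_right hpp.one_lt).mp hcardK
  have hdvd : p ^ 3 ∣ Nat.card f.ker := by
    rw [hm]
    exact pow_dvd_pow p hm3
  obtain ⟨X₀, hX₀⟩ := Sylow.exists_subgroup_card_pow_prime p hdvd
  refine ⟨X₀.map f.ker.subtype, ?_, ?_⟩
  · rw [← hX₀]
    exact Nat.card_congr (X₀.equivMapOfInjective _ f.ker.subtype_injective).symm.toEquiv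
  · rintro _ ⟨x, _, rfl⟩
    exact x.2

/-- For `p > 3`, a finite `p`-group in which subgroups of exponent `p` have order at most `p²` is metacyclic. -/
theorem metacyclic_aux (hp3 : 3 < p) (n : ℕ) : ∀ (R : Type u) [Group R] [Finite R], Nat.card R = n →
    IsPGroup p R → (∀ A : Subgroup R, (∀ a ∈ A, a ^ p = 1) → Nat.card A ≤ p ^ 2) → Cfsg.IsMetacyclic R := by
  have hpp : p.Prime := hp.out
  induction n using Nat.strong_induction_on with
  | _ n ih =>
  intro R _ _ hn hR hO
  by_contra hnm
  have hH : ¬ H1 p R := fun h => hnm (huppert (by omega) hR h)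
  unfold H1 at hH
  push Not at hH
  obtain ⟨W, hWn, hWp, hWi⟩ := hH
  have hcardR : Nat.card W * W.index = Nat.card R := Subgroup.card_mul_index W
  obtain ⟨m, hm⟩ := IsPGroup.iff_card.mp (hR.of_surjective (QuotientGroup.mk' W) (QuotientGroup.mk'_surjective W))
  have hmi : W.index = p ^ m := hm
  have hm3 : 3 ≤ m := by
    rw [hmi] at hWi
    have := (Nat.pow_lt_pow_iff_right hpp.one_lt).mp hWi
    omega
  obtain ⟨m, rfl⟩ := Nat.exists_eq_add_of_le hm3
  -- a normal subgroup of index exactly `p³`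
  obtain ⟨W₁, hW₁n, hWW₁, -, hW₁c⟩ := exists_normal_between hR W ⊤ hWn inferInstance le_top m (by
    rw [Nat.card_congr (Subgroup.topEquiv (G := R)).toEquiv, ← hcardR, hmi, mul_comm]
    refine Nat.mul_le_mul_left _ ?_
    exact Nat.pow_le_pow_right hpp.pos (by omega))
  have hcardR₁ : Nat.card W₁ * p ^ 3 = Nat.card R := by
    rw [hW₁c, ← hcardR, hmi]
    ring
  have hW₁p : ∀ x, x ^ p ∈ W₁ := fun x => hWW₁ (hWp x)
  by_cases hbot : W₁ = ⊥
  · subst hbot
    have h1 := hO ⊤ (fun a _ => Subgroup.mem_bot.mp (hW₁p a))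
    rw [Nat.card_congr (Subgroup.topEquiv (G := R)).toEquiv, ← hcardR₁] at h1
    simp only [Subgroup.card_bot, one_mul] at h1
    exact absurd ((Nat.pow_le_pow_iff_right hpp.one_lt).mp h1) (by omega)
  -- an index `p` normal subgroup of `W₁`
  obtain ⟨a, ha⟩ := IsPGroup.iff_card.mp (hR.to_subgroup W₁)
  have ha0 : a ≠ 0 := by
    rintro rfl
    rw [pow_zero] at ha
    exact hbot (Subgroup.card_eq_one.mp ha)
  obtain ⟨a, rfl⟩ := Nat.exists_eq_succ_of_ne_zero ha0
  obtain ⟨N, hNn, -, hNW, hNc⟩ := exists_normal_between hR ⊥ W₁ inferInstance hW₁n bot_le a (by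
    simp only [Subgroup.card_bot, mul_one]
    rw [ha]
    exact Nat.pow_le_pow_right hpp.pos (Nat.le_succ a))
  simp only [Subgroup.card_bot, mul_one] at hNc
  have := hNn
  let π := QuotientGroup.mk' N
  have hπ : Function.Surjective π := QuotientGroup.mk'_surjective N
  have hcardY : Nat.card (R ⧸ N) = p ^ 4 := by
    have h1 := Subgroup.card_eq_card_quotient_mul_card_subgroup N
    rw [← hcardR₁, ha, hNc, pow_succ] at h1
    have h2 : Nat.card (R ⧸ N) * p ^ a = p ^ 4 * p ^ a := by
      rw [← h1]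
      ring
    exact Nat.eq_of_mul_eq_mul_right (pow_pos hpp.pos a) h2
  -- the central subgroup of order `p`
  have hcardZ : Nat.card (W₁.map π) = p := by
    have h1 := Cfsg.Agent.Lib.PSolv.card_comap_of_surjective π hπ (W₁.map π)
    rw [Subgroup.comap_map_eq, QuotientGroup.ker_mk', sup_eq_left.mpr hNW, ha, hNc, pow_succ] at h1
    have h2 : p ^ a * p = p ^ a * Nat.card (W₁.map π) := by rw [h1]; ring
    exact (Nat.eq_of_mul_eq_mul_left (pow_pos hpp.pos a) h2).symm
  have hYp : IsPGroup p (R ⧸ N) := hR.of_surjective π hπ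
  have hZn : (W₁.map π).Normal := Subgroup.Normal.map hW₁n π hπ
  have hZne : W₁.map π ≠ ⊥ := by
    intro h
    rw [h, Subgroup.card_bot] at hcardZ
    exact hpp.one_lt.ne hcardZ
  obtain ⟨z, hzZ, hzo, hzc⟩ := exists_central_order hYp (W₁.map π) hZn hZne
  have hZeq : Subgroup.zpowers z = W₁.map π := by
    apply Subgroup.eq_of_le_of_card_ge
    · rw [Subgroup.zpowers_le]
      exact hzZ
    · rw [hcardZ, Nat.card_zpowers, hzo]
  obtain ⟨X, hXc, hXp⟩ := quartic hp3 hcardY z hzc hzo (by
    intro y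
    rw [hZeq]
    obtain ⟨x, rfl⟩ := hπ y
    exact ⟨x ^ p, hW₁p x, by simp⟩)
  -- the preimage is proper, hence metacyclic
  have hXt : Nat.card (X.comap π) < n := by
    have h1 := Cfsg.Agent.Lib.PSolv.card_comap_of_surjective π hπ X
    rw [QuotientGroup.ker_mk', hXc] at h1
    rw [h1, ← hn, Subgroup.card_eq_card_quotient_mul_card_subgroup N]
    show _ < Nat.card (R ⧸ N) * _
    rw [hcardY]
    have h0 : 0 < Nat.card N := Nat.card_pos
    have h3 : p ^ 3 < p ^ 4 := Nat.pow_lt_pow_right hpp.one_lt (by norm_num)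
    exact Nat.mul_lt_mul_of_pos_right h3 h0
  have hmX : Cfsg.IsMetacyclic (X.comap π) := by
    refine ih _ hXt (X.comap π) rfl (hR.to_subgroup _) ?_
    intro A hA
    have h1 := hO (A.map (X.comap π).subtype) (by
      rintro _ ⟨a, ha, rfl⟩
      have := hA a ha
      exact congrArg (X.comap π).subtype this)
    rwa [show Nat.card (A.map (X.comap π).subtype) = Nat.card A from
      Nat.card_congr (A.equivMapOfInjective _ (Subgroup.subtype_injective _)).symm.toEquiv] at h1
  have hmX2 : Cfsg.IsMetacyclic X := by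
    refine isMetacyclic_of_surjective (π.subgroupComap X) ?_ hmX
    exact π.subgroupComap_surjective_of_surjective X hπ
  have hfin := card_le_of_metacyclic (p := p) hmX2 (fun x => Subtype.ext (by simpa using hXp x x.2))
  rw [hXc] at hfin
  exact absurd ((Nat.pow_le_pow_iff_right hpp.one_lt).mp hfin) (by omega)

theorem metacyclic_main [Finite R] (hp3 : 3 < p) (hR : IsPGroup p R)
    (hO : ∀ A : Subgroup R, (∀ a ∈ A, a ^ p = 1) → Nat.card A ≤ p ^ 2) : Cfsg.IsMetacyclic R :=
  metacyclic_aux hp3 _ R rfl hR hO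

end Cfsg.Agent.Lib.Huppert2
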