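import Mathlib
import Cfsg.Agent.Lib.BlackburnB
import Cfsg.Agent.Lib.Huppert2
import Cfsg.Agent.Lib.RankTwoRep
import Cfsg.Agent.Lib.RegularP
import Cfsg.Agent.S4209

/-!
# Blackburn's classification of `p`-groups of rank two: the case `p ≥ 5`
-/

set_option autoImplicit false
set_option linter.style.haveILetI false
set_option linter.unusedSectionVars false
set_option linter.unusedVariables false

namespace Cfsg.Agent.Lib.BlackburnD

open Subgroup Cfsg Cfsg.Agent.Lib.BlackburnA Cfsg.Agent.Lib.BlackburnB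
open scoped commutatorElement

universe u

variable {G : Type u} [Group G] [Finite G] {p : ℕ} [hp : Fact p.Prime]
variable {M : Subgroup G} {ζ : G}

/-- A short central series. -/
theorem lcs_three {X : Type*} [Group X] (T₁ T₂ : Subgroup X) (h1 : ∀ a b : X, ⁅a, b⁆ ∈ T₁)
    (h2 : ∀ t ∈ T₁, ∀ k : X, ⁅t, k⁆ ∈ T₂) (h3 : ∀ t ∈ T₂, ∀ k : X, ⁅t, k⁆ = 1) :
    (⊤ : Subgroup X).lowerCentralSeries 3 = ⊥ := by
  have e1 : (⊤ : Subgroup X).lowerCentralSeries 1 ≤ T₁ := by
    rw [Subgroup.lowerCentralSeries_succ, Subgroup.commutator_le]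
    intro a _ b _
    exact h1 a b
  have e2 : (⊤ : Subgroup X).lowerCentralSeries 2 ≤ T₂ := by
    rw [Subgroup.lowerCentralSeries_succ, Subgroup.commutator_le]
    intro a ha b _
    exact h2 a (e1 ha) b
  rw [Subgroup.lowerCentralSeries_succ, eq_bot_iff, Subgroup.commutator_le]
  intro a ha b _
  rw [Subgroup.mem_bot]
  exact h3 a (e2 ha) b

/-- Commutators of a generating set lie in a normal subgroup. -/
theorem closure_comm {N : Subgroup G} [hN : N.Normal] (S : Set G) (hgen : ∀ a ∈ S, ∀ b ∈ S, a * b * a⁻¹ * b⁻¹ ∈ N) :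
    ∀ a ∈ closure S, ∀ b ∈ closure S, a * b * a⁻¹ * b⁻¹ ∈ N := by
  let π := QuotientGroup.mk' N
  have hπ : ∀ a b : G, π a * π b = π b * π a → a * b * a⁻¹ * b⁻¹ ∈ N := by
    intro a b hab
    rw [← QuotientGroup.eq_one_iff]
    show π (a * b * a⁻¹ * b⁻¹) = 1
    simp only [map_mul, map_inv]
    rw [hab]
    group
  have hπ' : ∀ a b : G, a * b * a⁻¹ * b⁻¹ ∈ N → π a * π b = π b * π a := by
    intro a b hab
    have h1 : π (a * b * a⁻¹ * b⁻¹) = 1 := (QuotientGroup.eq_one_iff _).mpr hab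
    simp only [map_mul, map_inv] at h1
    calc π a * π b = (π a * π b * (π a)⁻¹ * (π b)⁻¹) * (π b * π a) := by group
      _ = π b * π a := by rw [h1, one_mul]
  have step1 : ∀ a ∈ S, closure S ≤ (centralizer ({π a} : Set (G ⧸ N))).comap π := by
    intro a ha
    rw [closure_le]
    intro b hb
    show π b ∈ centralizer ({π a} : Set (G ⧸ N))
    rw [mem_centralizer_singleton_iff]
    exact (hπ' a b (hgen a ha b hb)).symm
  have step2 : ∀ b ∈ closure S, closure S ≤ (centralizer ({π b} : Set (G ⧸ N))).comap π := by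
    intro b hb
    rw [closure_le]
    intro a ha
    have h1 := step1 a ha hb
    show π a ∈ centralizer ({π b} : Set (G ⧸ N))
    rw [mem_centralizer_singleton_iff]
    have h2 : π b ∈ centralizer ({π a} : Set (G ⧸ N)) := h1
    rw [mem_centralizer_singleton_iff] at h2
    exact h2.symm
  intro a ha b hb
  apply hπ
  have h2 : π a ∈ centralizer ({π b} : Set (G ⧸ N)) := step2 b hb ha
  rw [mem_centralizer_singleton_iff] at h2
  exact h2

/-- A subgroup generated by elements of order `p` whose commutators lie in `M` has order at most `p³`. -/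
theorem card_closure_le (h5 : 3 < p) (h : Plane p M ζ) (S : Set G) (hS : ∀ s ∈ S, s ^ p = 1)
    (hgen : ∀ a ∈ S, ∀ b ∈ S, a * b * a⁻¹ * b⁻¹ ∈ M) : Nat.card (closure S) ≤ p ^ 3 := by
  have hpp := hp.out
  haveI := h.nor
  set K := closure S with hK
  have hcomm := closure_comm S hgen
  have hcl : (⊤ : Subgroup K).lowerCentralSeries 3 = ⊥ := by
    apply lcs_three (M.subgroupOf K) ((zpowers ζ).subgroupOf K)
    · intro a b
      rw [mem_subgroupOf]
      exact hcomm a a.2 b b.2
    · intro t ht k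
      rw [mem_subgroupOf] at ht ⊢
      have h2 := h.act (t : G)⁻¹ (inv_mem ht) (k : G)⁻¹
      simp only [inv_inv] at h2
      have h3 : (((⁅t, k⁆ : K) : G)) = (t : G) * ((k : G) * (t : G)⁻¹ * (k : G)⁻¹) := by
        simp [commutatorElement_def, mul_assoc]
      rw [h3]
      exact h2
    · intro t ht k
      rw [mem_subgroupOf] at ht
      rw [commutatorElement_eq_one_iff_mul_comm]
      apply Subtype.ext
      exact (h.Z_comm ht k).symm
  have hp4 : 3 ≤ p - 1 := by omega
  have hcl2 : (⊤ : Subgroup K).lowerCentralSeries (p - 1) = ⊥ := by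
    have := Subgroup.lowerCentralSeries_antitone (⊤ : Subgroup K) hp4
    rw [hcl] at this
    exact le_bot_iff.mp this
  have hKp : IsPGroup p K := h.hG.to_subgroup K
  have hreg := Cfsg.Agent.S4209.result hKp hcl2
  have hKe : ∀ k : K, k ^ p = 1 := by
    intro k
    have hcl3 : closure (((↑) : K → G) ⁻¹' S) = ⊤ := Subgroup.closure_closure_coe_preimage
    have h1 := Cfsg.Agent.Lib.RegularP.pow_eq_one_of_mem_closure hreg 1
      (((↑) : K → G) ⁻¹' S) (by
        intro s hs
        apply Subtype.ext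
        simpa using hS _ hs) k (by
          rw [hcl3]
          trivial)
    simpa using h1
  apply Cfsg.Agent.Lib.RankTwoRep.card_le_cube_of_exponent hKp
  intro B hB
  have h1 := h.hrk (B.map K.subtype) ?_ ?_
  · rwa [Subgroup.card_map_of_injective K.subtype_injective] at h1
  · refine ⟨⟨?_⟩⟩
    rintro ⟨_, a, ha, rfl⟩ ⟨_, b, hb, rfl⟩
    apply Subtype.ext
    have := congrArg Subtype.val (hB.is_comm.comm (⟨a, ha⟩ : B) ⟨b, hb⟩)
    show (a : G) * b = b * a
    exact congrArg Subtype.val this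
  · rintro _ ⟨a, ha, rfl⟩
    exact congrArg Subtype.val (hKe a)

/-- The tower argument: a subgroup of exponent `p` and order larger than `p²` is normal. -/
theorem tower (h5 : 3 < p) (h : Plane p M ζ) (A : Subgroup G) (hAe : ∀ a ∈ A, a ^ p = 1)
    (hAc : p ^ 2 < Nat.card A) : normalizer (A : Set G) = ⊤ := by
  classical
  have hpp := hp.out
  by_contra hN
  haveI : Group.IsNilpotent G := h.hG.isNilpotent
  have hlt : normalizer (A : Set G) < ⊤ := lt_top_iff_ne_top.mpr hN
  have hlt2 : normalizer (A : Set G) < normalizer (normalizer (A : Set G) : Set G) :=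
    Group.normalizerCondition_of_isNilpotent (G := G) _ hlt
  obtain ⟨g, hgN, hg⟩ := SetLike.exists_of_lt hlt2
  -- the conjugate
  let A₁ : Subgroup G := A.map (MulAut.conj g).toMonoidHom
  have hA₁ : ∀ b, b ∈ A₁ ↔ ∃ a ∈ A, g * a * g⁻¹ = b := by
    intro b
    simp [A₁, MulAut.conj_apply]
  have hA₁e : ∀ b ∈ A₁, b ^ p = 1 := by
    intro b hb
    obtain ⟨a, ha, rfl⟩ := (hA₁ b).mp hb
    rw [conj_pow, hAe a ha]
    group
  have hAN : ∀ a ∈ A, a ∈ normalizer (A : Set G) := fun a ha => Subgroup.le_normalizer ha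
  have hA₁n : ∀ a ∈ A, ∀ b ∈ A₁, a * b * a⁻¹ ∈ A₁ := by
    intro a ha b hb
    obtain ⟨a₀, ha₀, rfl⟩ := (hA₁ b).mp hb
    have h1 : g⁻¹ * a * g ∈ normalizer (A : Set G) := by
      have h2 := (mem_normalizer_iff.mp (inv_mem hgN)) a
      simp only [inv_inv] at h2
      exact h2.mp (hAN a ha)
    have h2 : (g⁻¹ * a * g) * a₀ * (g⁻¹ * a * g)⁻¹ ∈ A := (mem_normalizer_iff.mp h1 a₀).mp ha₀
    rw [hA₁]
    refine ⟨(g⁻¹ * a * g) * a₀ * (g⁻¹ * a * g)⁻¹, h2, ?_⟩
    group
  have hne : A₁ ≠ A := by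
    intro he
    apply hg
    rw [mem_normalizer_iff]
    intro a
    constructor
    · intro ha
      have : g * a * g⁻¹ ∈ A₁ := (hA₁ _).mpr ⟨a, ha, rfl⟩
      rw [he] at this
      exact this
    · intro ha
      have h3 : g * a * g⁻¹ ∈ A₁ := by
        rw [he]
        exact ha
      obtain ⟨a', ha', he'⟩ := (hA₁ _).mp h3
      have : a' = a := by
        have h4 : g * a' = g * a := mul_right_cancel he'
        exact mul_left_cancel h4
      rw [← this]
      exact ha'
  have hA₁c : Nat.card A₁ = Nat.card A :=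
    Subgroup.card_map_of_injective (MulAut.conj g).injective
  -- the join
  set S : Set G := (A : Set G) ∪ (A₁ : Set G) with hS
  have hgen : ∀ a ∈ S, ∀ b ∈ S, a * b * a⁻¹ * b⁻¹ ∈ M := by
    have hC := h.comm_mem_C
    have hCM : ∀ c, c ^ p = 1 → c ∈ centralizer (M : Set G) → c ∈ M := fun c hc hcC => h.mem_M hcC hc
    rintro a (ha | ha) b (hb | hb)
    · apply hCM _ _ (hC a b)
      apply hAe
      exact mul_mem (mul_mem (mul_mem ha hb) (inv_mem ha)) (inv_mem hb)
    · apply hCM _ _ (hC a b)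
      apply hA₁e
      exact mul_mem (hA₁n a ha b hb) (inv_mem hb)
    · apply hCM _ _ (hC a b)
      apply hA₁e
      have h1 := hA₁n b hb a ha
      have h2 : a * b * a⁻¹ * b⁻¹ = a * (b * a⁻¹ * b⁻¹) := by group
      rw [h2]
      apply mul_mem ha
      have h3 : b * a⁻¹ * b⁻¹ = (b * a * b⁻¹)⁻¹ := by group
      rw [h3]
      exact inv_mem h1
    · apply hCM _ _ (hC a b)
      apply hA₁e
      exact mul_mem (mul_mem (mul_mem ha hb) (inv_mem ha)) (inv_mem hb)
  have hSp : ∀ s ∈ S, s ^ p = 1 := by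
    rintro s (hs | hs)
    · exact hAe s hs
    · exact hA₁e s hs
  have hKc := card_closure_le h5 h S hSp hgen
  have hAK : A ≤ closure S := fun a ha => subset_closure (show a ∈ S from Or.inl ha)
  have hA₁K : A₁ ≤ closure S := fun a ha => subset_closure (show a ∈ S from Or.inr ha)
  have hcA : Nat.card A = p ^ 3 := by
    have h1 : Nat.card A ≤ p ^ 3 := (Subgroup.card_le_of_le hAK).trans hKc
    obtain ⟨k, hk⟩ := IsPGroup.iff_card.mp (h.hG.to_subgroup A)
    rw [hk] at hAc h1 ⊢
    have h2 := (Nat.pow_lt_pow_iff_right hpp.one_lt).mp hAc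
    have h3 := (Nat.pow_le_pow_iff_right hpp.one_lt).mp h1
    rw [show k = 3 by omega]
  have hAKeq : A = closure S := Subgroup.eq_of_le_of_card_ge hAK (by rw [hcA]; exact hKc)
  apply hne
  apply Subgroup.eq_of_le_of_card_ge (by rw [hAKeq]; exact hA₁K)
  rw [hA₁c]

/-- The element `x` for `p ≥ 5`. -/
theorem star_five (h5 : 3 < p) (h : Plane p M ζ) (hnm : ¬ IsMetacyclic G) :
    ∃ x, x ∉ centralizer (M : Set G) ∧ x ^ p = 1 ∧ ∀ c ∈ centralizer (M : Set G), dl x c ∈ M := by
  classical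
  have hpp := hp.out
  have hex : ∃ A : Subgroup G, (∀ a ∈ A, a ^ p = 1) ∧ p ^ 2 < Nat.card A := by
    by_contra hcon
    push Not at hcon
    exact hnm (Cfsg.Agent.Lib.Huppert2.metacyclic_main h5 h.hG hcon)
  obtain ⟨A, hAe, hAc⟩ := hex
  have hx : ∃ x ∈ A, x ∉ centralizer (M : Set G) := by
    by_contra hcon
    push Not at hcon
    have h1 : A ≤ M := fun a ha => h.mem_M (hcon a ha) (hAe a ha)
    have h2 := Subgroup.card_le_of_le h1
    rw [h.card] at h2
    omega
  obtain ⟨x, hxA, hxC⟩ := hx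
  refine ⟨x, hxC, hAe x hxA, ?_⟩
  intro c hc
  have hn := tower h5 h A hAe hAc
  have hAn : A.Normal := Subgroup.normalizer_eq_top_iff.mp hn
  haveI := h.C_normal
  have h1 : dl x c ∈ A := by
    have e : dl x c = (c⁻¹ * x⁻¹ * c) * x := by
      unfold dl; group
    rw [e]
    apply mul_mem _ hxA
    have := hAn.conj_mem x⁻¹ (inv_mem hxA) c⁻¹
    simpa using this
  have h2 : dl x c ∈ centralizer (M : Set G) := by
    apply mul_mem (inv_mem hc)
    have := (h.C_normal).conj_mem c hc x⁻¹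
    simpa using this
  exact h.mem_M h2 (hAe _ h1)

end Cfsg.Agent.Lib.BlackburnD
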