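import Mathlib
import Cfsg.Agent.Lib.BlackburnB

/-!
# Blackburn's classification of `p`-groups of rank two: the case `p = 3`, first part
-/

set_option autoImplicit false
set_option linter.style.haveILetI false
set_option linter.unusedSectionVars false
set_option linter.unusedVariables false

namespace Cfsg.Agent.Lib.BlackburnE

open Subgroup Cfsg Cfsg.Agent.Lib.BlackburnA Cfsg.Agent.Lib.BlackburnB Cfsg.Agent.Lib.PCentral

universe u

/-- The `p`-th powers lie in `W`: the index of `W` is at most the number of elements of order dividing `p`. -/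
theorem card_le_of_pow {p : ℕ} [hpp : Fact p.Prime] (hp2 : p ≠ 2) {K : Type u} [Group K]
    [Finite K] (hK : IsPGroup p K) (hPC : PC p K) (W : Subgroup K) (hW : ∀ x : K, x ^ p ∈ W) :
    Nat.card K ≤ Nat.card W * Nat.card (Om p K hPC) := by
  classical
  haveI : Fintype K := Fintype.ofFinite K
  let r : W → K := fun v => if hv : ∃ x : K, x ^ p = v then hv.choose else 1
  have hr : ∀ x : K, (r ⟨x ^ p, hW x⟩) ^ p = x ^ p := by
    intro x
    have hv : ∃ y : K, y ^ p = ((⟨x ^ p, hW x⟩ : W) : K) := ⟨x, rfl⟩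
    simp only [r, dif_pos hv]
    exact hv.choose_spec
  let F : K → W × Om p K hPC := fun x =>
    (⟨x ^ p, hW x⟩, ⟨(r ⟨x ^ p, hW x⟩)⁻¹ * x,
      mem_Om.mpr (lemC hp2 _ K rfl hK hPC _ _ (hr x))⟩)
  have hF : Function.Injective F := by
    intro x y hxy
    have h1 := congrArg Prod.fst hxy
    have h2 := congrArg Prod.snd hxy
    simp only [F] at h1 h2
    have h3 := congrArg Subtype.val h2
    simp only at h3
    rw [h1] at h3
    exact mul_left_cancel h3
  have := Nat.card_le_card_of_injective F hF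
  rwa [Nat.card_prod] at this

variable {G : Type u} [Group G] [Finite G] [hp3 : Fact (Nat.Prime 3)]
variable {M : Subgroup G} {ζ : G}

local notation "C₀" => centralizer ((M : Subgroup G) : Set G)

namespace Plane3

variable (h : Plane 3 M ζ)

include h in
/-- Commutators with elements of order dividing `9`. -/
theorem comm_mem {c t : G} (hc : c ∈ centralizer (M : Set G)) (hc9 : c ^ 9 = 1) (ht : t ∈ centralizer (M : Set G)) :
    t * c * t⁻¹ * c⁻¹ ∈ M := by
  have h3 : (⟨c, hc⟩ : centralizer (M : Set G)) ^ 3 ^ 1 = (⟨c, hc⟩ : centralizer (M : Set G)) ^ 3 ^ 1 := rfl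
  have h1 := lemA (p := 3) (by norm_num) _ (centralizer (M : Set G)) rfl h.C_p h.pc ⟨c, hc⟩ ⟨t, ht⟩ (by
    apply Subtype.ext
    show (c ^ 3) ^ 3 = 1
    rw [← pow_mul]
    exact hc9)
  have h2 : (t * c * t⁻¹ * c⁻¹) ^ 3 = 1 := congrArg Subtype.val h1
  apply h.mem_M _ h2
  exact mul_mem (mul_mem (mul_mem ht hc) (inv_mem ht)) (inv_mem hc)

include h in
theorem comm_central {c t : G} (hc : c ∈ centralizer (M : Set G)) (hc9 : c ^ 9 = 1) (ht : t ∈ centralizer (M : Set G))
    {u : G} (hu : u ∈ centralizer (M : Set G)) : (t * c * t⁻¹ * c⁻¹) * u = u * (t * c * t⁻¹ * c⁻¹) :=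
  (mem_centralizer_iff.mp hu) _ (comm_mem h hc hc9 ht)

include h in
/-- The cube map is multiplicative on elements of order dividing `9`. -/
theorem mul_cube {a b : G} (ha : a ∈ centralizer (M : Set G)) (ha9 : a ^ 9 = 1) (hb : b ∈ centralizer (M : Set G))
    (hb9 : b ^ 9 = 1) : (a * b) ^ 3 = a ^ 3 * b ^ 3 := by
  have hai : a⁻¹ ^ 9 = 1 := by rw [inv_pow, ha9, inv_one]
  set w := b⁻¹ * a⁻¹ * b⁻¹⁻¹ * a⁻¹⁻¹ with hw
  have hwM : w ∈ M := comm_mem h (inv_mem ha) hai (inv_mem hb)
  have hw3 : w ^ 3 = 1 := h.exp w hwM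
  have e : b * a = a * b * w := by
    rw [hw]; group
  apply pow_mul_of_rel_odd (Fact.out : Nat.Prime 3) (by norm_num) a b w e _ _ hw3
  · exact ((mem_centralizer_iff.mp ha) w hwM)
  · exact ((mem_centralizer_iff.mp hb) w hwM)

include h in
theorem cube_mem {c : G} (hc : c ∈ centralizer (M : Set G)) (hc9 : c ^ 9 = 1) : c ^ 3 ∈ M := by
  apply h.mem_M (pow_mem hc 3)
  rw [← pow_mul]
  exact hc9

include h in
/-- Cubes commute with elements of order dividing `9` in `C`. -/
theorem comm_cube {c t : G} (hc : c ∈ centralizer (M : Set G)) (hc9 : c ^ 9 = 1) (ht : t ∈ centralizer (M : Set G)) :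
    c * t ^ 3 = t ^ 3 * c := by
  set m := t * c * t⁻¹ * c⁻¹ with hm
  have hmM : m ∈ M := comm_mem h hc hc9 ht
  have hm3 : m ^ 3 = 1 := h.exp m hmM
  have hmt : m * t = t * m := (mem_centralizer_iff.mp ht) m hmM
  have hmc : m * c = c * m := (mem_centralizer_iff.mp hc) m hmM
  have e1 : t * c = m * c * t := by
    rw [hm]; group
  have e2 : t ^ 3 * c = m ^ 3 * c * t ^ 3 := by
    calc t ^ 3 * c = t * t * (t * c) := by simp only [pow_three, mul_assoc]
      _ = t * t * (m * c * t) := by rw [e1]
      _ = t * (t * m) * c * t := by group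
      _ = t * (m * t) * c * t := by rw [hmt]
      _ = (t * m) * (t * c) * t := by group
      _ = (m * t) * (m * c * t) * t := by rw [e1, hmt]
      _ = m * (t * m) * c * t * t := by group
      _ = m * (m * t) * c * t * t := by rw [hmt]
      _ = m * m * (t * c) * t * t := by group
      _ = m * m * (m * c * t) * t * t := by rw [e1]
      _ = m ^ 3 * c * t ^ 3 := by simp only [pow_three, mul_assoc]
  rw [e2, hm3, one_mul]

/-- The subgroup generated by cubes. -/
def Ag (M : Subgroup G) : Subgroup G := closure {y | ∃ t ∈ centralizer (M : Set G), y = t ^ 3}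

include h in
theorem Ag_le : Ag M ≤ centralizer (M : Set G) := by
  rw [Ag, closure_le]
  rintro _ ⟨t, ht, rfl⟩
  exact pow_mem ht 3

include h in
/-- The order count: `Ag` has index at most `27`. -/
theorem card_Ag : Nat.card G ≤ 27 * Nat.card (Ag M) := by
  classical
  have hle := Ag_le (h := h)
  set A' := (Ag M).subgroupOf (centralizer (M : Set G)) with hA'
  have h1 := card_le_of_pow (p := 3) (by norm_num) h.C_p h.pc A' (by
    intro x
    rw [hA', mem_subgroupOf]
    exact subset_closure ⟨x, x.2, rfl⟩)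
  have h2 : Nat.card (Om 3 (centralizer (M : Set G)) h.pc) ≤ 9 := by
    have hinj : Function.Injective (fun z : Om 3 (centralizer (M : Set G)) h.pc =>
        (⟨((z : centralizer (M : Set G)) : G), h.mem_M (z : centralizer (M : Set G)).2
          (congrArg Subtype.val (mem_Om.mp z.2))⟩ : M)) := by
      intro a b hab
      apply Subtype.ext
      apply Subtype.ext
      exact Subtype.mk.inj hab
    have := Nat.card_le_card_of_injective _ hinj
    rw [h.card] at this
    simpa using this
  have h3 : Nat.card A' ≤ Nat.card (Ag M) := by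
    exact le_of_eq (Nat.card_congr (Subgroup.subgroupOfEquivOfLe hle).toEquiv)
  have h4 := h.card_le
  calc Nat.card G ≤ 3 * Nat.card (centralizer (M : Set G)) := h4
    _ ≤ 3 * (Nat.card A' * Nat.card (Om 3 (centralizer (M : Set G)) h.pc)) := Nat.mul_le_mul_left _ h1
    _ ≤ 3 * (Nat.card (Ag M) * 9) := Nat.mul_le_mul_left _ (Nat.mul_le_mul h3 h2)
    _ = 27 * Nat.card (Ag M) := by ring

include h in
/-- If all cubes lie in a subgroup of index more than `9`, all cubes lie in `Ag`. -/
theorem mem_Ag {W : Subgroup G} (hW : ∀ g : G, g ^ 3 ∈ W) (hidx : 9 < W.index) (g : G) : g ^ 3 ∈ Ag M := by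
  have hpp : Nat.Prime 3 := hp3.out
  have hle : Ag M ≤ W := by
    rw [Ag, closure_le]
    rintro _ ⟨t, _, rfl⟩
    exact hW t
  have h1 := card_Ag (h := h)
  have h2 := Subgroup.card_mul_index W
  have hidx27 : 27 ≤ W.index := by
    have hd : W.index ∣ Nat.card G := Subgroup.index_dvd_card W
    obtain ⟨n, hn⟩ := IsPGroup.iff_card.mp h.hG
    rw [hn] at hd
    obtain ⟨k, _, hk⟩ := (Nat.dvd_prime_pow hpp).mp hd
    rw [hk] at hidx ⊢
    have : 2 < k := by
      by_contra hk2
      have : k ≤ 2 := by omega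
      have h3 : 3 ^ k ≤ 3 ^ 2 := Nat.pow_le_pow_right (by norm_num) this
      omega
    calc 27 = 3 ^ 3 := by norm_num
      _ ≤ 3 ^ k := Nat.pow_le_pow_right (by norm_num) this
  have h3 : Nat.card W ≤ Nat.card (Ag M) := by
    have hpos : 0 < Nat.card W := Nat.card_pos
    have h4 : Nat.card W * 27 ≤ Nat.card W * W.index := Nat.mul_le_mul_left _ hidx27
    rw [h2] at h4
    omega
  have heq : Ag M = W := Subgroup.eq_of_le_of_card_ge hle h3
  rw [heq]
  exact hW g

include h in
/-- The cubes commute with the elements of order dividing `9` of `C`. -/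
theorem cube_comm {W : Subgroup G} (hW : ∀ g : G, g ^ 3 ∈ W) (hidx : 9 < W.index) (g : G) {c : G}
    (hc : c ∈ centralizer (M : Set G)) (hc9 : c ^ 9 = 1) : c * g ^ 3 = g ^ 3 * c := by
  have h1 : Ag M ≤ centralizer ({c} : Set G) := by
    rw [Ag, closure_le]
    rintro _ ⟨t, ht, rfl⟩
    show t ^ 3 ∈ centralizer ({c} : Set G)
    rw [mem_centralizer_singleton_iff]
    exact (comm_cube h hc hc9 ht).symm
  have h2 := h1 (mem_Ag h hW hidx g)
  rw [mem_centralizer_singleton_iff] at h2
  exact h2.symm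

end Plane3

end Cfsg.Agent.Lib.BlackburnE
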