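import Mathlib
import Cfsg.Agent.Lib.BlackburnE

/-!
# Blackburn's classification of `p`-groups of rank two: the case `p = 3`, second part
-/

set_option autoImplicit false
set_option linter.style.haveILetI false
set_option linter.unusedSectionVars false
set_option linter.unusedVariables false

namespace Cfsg.Agent.Lib.BlackburnF

open Subgroup Cfsg Cfsg.Agent.Lib.BlackburnA Cfsg.Agent.Lib.BlackburnB Cfsg.Agent.Lib.PCentral
open Cfsg.Agent.Lib.BlackburnE

universe u

variable {G : Type u} [Group G] [Finite G] [hp3 : Fact (Nat.Prime 3)]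
variable {M : Subgroup G} {ζ : G}

/-- An element `g` outside `C` with a large centralizer commutes with a cube root of `ζ`. -/
theorem exists_w (h : Plane 3 M ζ) {g : G} (hg : g ∉ centralizer (M : Set G))
    (hc : 9 < Nat.card (centralizer ({g} : Set G))) :
    ∃ w ∈ centralizer (M : Set G), w * g = g * w ∧ w ^ 3 = ζ := by
  classical
  have hpp : Nat.Prime 3 := hp3.out
  set Cg := centralizer ({g} : Set G) with hCg
  set D := centralizer (M : Set G) ⊓ Cg with hD
  haveI := h.C_normal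
  have hD9 : 9 ≤ Nat.card D := by
    have h1 := Subgroup.card_mul_index ((centralizer (M : Set G)).subgroupOf Cg)
    have h2 : ((centralizer (M : Set G)).subgroupOf Cg).index ≤ 3 := by
      have hCtop : centralizer (M : Set G) ≠ ⊤ := by
        intro he
        rw [he] at hg
        exact hg (mem_top g)
      have h3 := Subgroup.relIndex_dvd_index_of_normal (centralizer (M : Set G)) Cg
      rw [h.index_C hCtop] at h3
      exact Nat.le_of_dvd (by norm_num) h3
    have h3 : Nat.card ((centralizer (M : Set G)).subgroupOf Cg) ≤ Nat.card D := by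
      apply Nat.card_le_card_of_injective
        (fun x : ((centralizer (M : Set G)).subgroupOf Cg) =>
          (⟨x.1.1, Subgroup.mem_inf.mpr ⟨mem_subgroupOf.mp x.2, x.1.2⟩⟩ : D))
      intro a b hab
      apply Subtype.ext
      apply Subtype.ext
      exact Subtype.mk.inj hab
    have h4 : 27 ≤ Nat.card Cg := by
      obtain ⟨k, hk⟩ := IsPGroup.iff_card.mp (h.hG.to_subgroup Cg)
      rw [hk] at hc ⊢
      have : 2 < k := by
        by_contra hk2
        have : k ≤ 2 := by omega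
        have h5 : 3 ^ k ≤ 3 ^ 2 := Nat.pow_le_pow_right (by norm_num) this
        omega
      calc 27 = 3 ^ 3 := by norm_num
        _ ≤ 3 ^ k := Nat.pow_le_pow_right (by norm_num) this
    have h5 : 27 ≤ Nat.card D * 3 := by
      calc 27 ≤ Nat.card Cg := h4
        _ = _ := h1.symm
        _ ≤ Nat.card D * 3 := Nat.mul_le_mul h3 h2
    omega
  have hζD : ζ ∈ D := Subgroup.mem_inf.mpr ⟨h.M_le_C h.ζM, mem_centralizer_singleton_iff.mpr (h.ζcen g).symm⟩
  have hKu : ∀ u ∈ D, u ^ 3 = 1 → u ∈ zpowers ζ := by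
    intro u hu hup
    have hm := h.mem_M (Subgroup.mem_inf.mp hu).1 hup
    exact h.mem_Z_of_comm hm hg (mem_centralizer_singleton_iff.mp (Subgroup.mem_inf.mp hu).2)
  obtain ⟨z, hzD, hDz⟩ := cyc (by norm_num) h hKu hζD
  have hoz : orderOf z = Nat.card D := by
    rw [hDz, Nat.card_zpowers]
  obtain ⟨k, hk⟩ := IsPGroup.iff_card.mp (h.hG.to_subgroup D)
  have hk2 : 2 ≤ k := by
    rw [hk] at hD9
    by_contra hlt
    have : k ≤ 1 := by omega
    have h5 : 3 ^ k ≤ 3 ^ 1 := Nat.pow_le_pow_right (by norm_num) this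
    omega
  obtain ⟨l, rfl⟩ : ∃ l, k = l + 2 := ⟨k - 2, by omega⟩
  have hoz' : orderOf z = 3 ^ (l + 2) := by rw [hoz, hk]
  set w₁ := z ^ 3 ^ l with hw₁
  have he3 : (w₁ ^ 3) ^ 3 = 1 := by
    rw [hw₁, ← pow_mul, ← pow_mul, show 3 ^ l * (3 * 3) = 3 ^ (l + 2) by ring, ← hoz']
    exact pow_orderOf_eq_one z
  have he1 : w₁ ^ 3 ≠ 1 := by
    rw [hw₁, ← pow_mul]
    apply pow_ne_one_of_lt_orderOf (by positivity)
    rw [hoz', show 3 ^ l * 3 = 3 ^ (l + 1) by ring]
    exact Nat.pow_lt_pow_right (by norm_num) (by omega)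
  have heD : w₁ ^ 3 ∈ D := pow_mem (pow_mem hzD _) 3
  have heZ := hKu _ heD he3
  obtain ⟨t, ht⟩ := Z_le_powers h heZ he1 (mem_zpowers ζ)
  have hw₁D : w₁ ∈ D := pow_mem hzD _
  refine ⟨w₁ ^ t, (Subgroup.mem_inf.mp (pow_mem hw₁D t)).1, ?_, ?_⟩
  · exact mem_centralizer_singleton_iff.mp (Subgroup.mem_inf.mp (pow_mem hw₁D t)).2
  · calc (w₁ ^ t) ^ 3 = (w₁ ^ 3) ^ t := pow_right_comm w₁ t 3
      _ = ζ := ht.symm

/-- The cubes of the elements of order dividing `9` in `C` lie in `⟨ζ⟩`. -/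
theorem cube_mem_Z (h : Plane 3 M ζ) {g w : G} (hg : g ∉ centralizer (M : Set G))
    (hcom : ∀ c ∈ centralizer (M : Set G), c ^ 9 = 1 → c * g ^ 3 = g ^ 3 * c)
    (hw : w ∈ centralizer (M : Set G)) (hwg : w * g = g * w) (hw3 : w ^ 3 = ζ) :
    ∀ c ∈ centralizer (M : Set G), c ^ 9 = 1 → c ^ 3 ∈ zpowers ζ := by
  classical
  intro c hc hc9
  by_contra huZ
  haveI := h.C_normal
  set u := c ^ 3 with hu
  have huM : u ∈ M := Plane3.cube_mem h hc hc9
  set e₀ := dl g u with he₀
  have he₀Z : e₀ ∈ zpowers ζ := dl_M h huM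
  have he₀1 : e₀ ≠ 1 := dl_ne h hg huM huZ
  have hαC : ∀ t ∈ centralizer (M : Set G), g⁻¹ * t * g ∈ centralizer (M : Set G) := by
    intro t ht
    have := (h.C_normal).conj_mem t ht g⁻¹
    simpa using this
  have hα9 : ∀ t : G, t ^ 9 = 1 → (g⁻¹ * t * g) ^ 9 = 1 := by
    intro t ht
    have := conj_pow (a := g⁻¹) (b := t) (i := 9)
    rw [inv_inv] at this
    rw [this, ht]
    group
  have hci : c⁻¹ ^ 9 = 1 := by rw [inv_pow, hc9, inv_one]
  set d := dl g c with hd
  have hdC : d ∈ centralizer (M : Set G) := mul_mem (inv_mem hc) (hαC c hc)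
  have hd3 : d ^ 3 = e₀ := by
    rw [hd, dl, Plane3.mul_cube h (inv_mem hc) hci (hαC c hc) (hα9 c hc9), he₀, dl, hu]
    have := conj_pow (a := g⁻¹) (b := c) (i := 3)
    rw [inv_inv] at this
    rw [this, inv_pow]
  have he₀3 : e₀ ^ 3 = 1 := h.exp e₀ (h.Z_le he₀Z)
  have hd9 : d ^ 9 = 1 := by
    rw [show (9 : ℕ) = 3 * 3 by norm_num, pow_mul, hd3, he₀3]
  obtain ⟨j, hj⟩ := Z_le_powers h (mem_zpowers ζ) h.ζne he₀Z
  have hw9 : w ^ 9 = 1 := by
    rw [show (9 : ℕ) = 3 * 3 by norm_num, pow_mul, hw3]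
    exact h.ζ_pow
  have hwj9 : ((w ^ j)⁻¹) ^ 9 = 1 := by
    rw [inv_pow, ← pow_mul, mul_comm, pow_mul, hw9, one_pow, inv_one]
  have hwjC : (w ^ j)⁻¹ ∈ centralizer (M : Set G) := inv_mem (pow_mem hw j)
  set m := d * (w ^ j)⁻¹ with hm
  have hmC : m ∈ centralizer (M : Set G) := mul_mem hdC hwjC
  have hm3 : m ^ 3 = 1 := by
    rw [hm, Plane3.mul_cube h hdC hd9 hwjC hwj9, hd3, hj, inv_pow, ← pow_mul, mul_comm j 3, pow_mul, hw3]
    group
  have hmM : m ∈ M := h.mem_M hmC hm3
  have hdm : d = m * w ^ j := by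
    rw [hm]; group
  set e := dl g m with he
  have heZ : e ∈ zpowers ζ := dl_M h hmM
  have hecen : ∀ y : G, y * e = e * y := fun y => h.Z_comm heZ y
  have he3 : e ^ 3 = 1 := h.exp e (h.Z_le heZ)
  have hαw : g⁻¹ * w ^ j * g = w ^ j := by
    have h1 : Commute (w ^ j) g := (show Commute w g from hwg).pow_left j
    calc g⁻¹ * w ^ j * g = g⁻¹ * (w ^ j * g) := by group
      _ = g⁻¹ * (g * w ^ j) := by rw [h1.eq]
      _ = w ^ j := by group
  have hαd : g⁻¹ * d * g = d * e := by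
    calc g⁻¹ * d * g = (g⁻¹ * m * g) * (g⁻¹ * w ^ j * g) := by rw [hdm]; group
      _ = (m * e) * w ^ j := by rw [hαw, conj_eq]
      _ = m * (e * w ^ j) := by group
      _ = m * (w ^ j * e) := by rw [hecen]
      _ = d * e := by rw [hdm]; group
  have hαe : g⁻¹ * e * g = e := by
    calc g⁻¹ * e * g = g⁻¹ * (g * e) := by rw [mul_assoc, ← hecen g]
      _ = e := by group
  have hαc : g⁻¹ * c * g = c * d := conj_eq g c
  have e3 : (g ^ 3)⁻¹ * c * g ^ 3 = c := by
    have := hcom c hc hc9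
    calc (g ^ 3)⁻¹ * c * g ^ 3 = (g ^ 3)⁻¹ * (c * g ^ 3) := by group
      _ = (g ^ 3)⁻¹ * (g ^ 3 * c) := by rw [this]
      _ = c := by group
  have e4 : (g ^ 3)⁻¹ * c * g ^ 3 = c * d ^ 3 := by
    have s1 : g⁻¹ * (c * d) * g = c * d * (d * e) := by
      calc g⁻¹ * (c * d) * g = (g⁻¹ * c * g) * (g⁻¹ * d * g) := by group
        _ = _ := by rw [hαc, hαd]
    have s2 : g⁻¹ * (c * d * (d * e)) * g = c * d * (d * e) * ((d * e) * e) := by
      have : g⁻¹ * (c * d * (d * e)) * g = (g⁻¹ * c * g) * (g⁻¹ * d * g) * ((g⁻¹ * d * g) * (g⁻¹ * e * g)) := by group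
      rw [this, hαc, hαd, hαe]
    have s3 : c * d * (d * e) * ((d * e) * e) = c * d ^ 3 := by
      calc c * d * (d * e) * ((d * e) * e) = c * d * d * (e * d) * e * e := by group
        _ = c * d * d * (d * e) * e * e := by rw [← hecen d]
        _ = c * d ^ 3 * e ^ 3 := by simp only [pow_three, mul_assoc]
        _ = c * d ^ 3 := by rw [he3, mul_one]
    calc (g ^ 3)⁻¹ * c * g ^ 3 = g⁻¹ * (g⁻¹ * (g⁻¹ * c * g) * g) * g := by simp only [pow_three, mul_inv_rev, mul_assoc]
      _ = c * d ^ 3 := by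
        rw [hαc, s1, s2, s3]
  rw [e3] at e4
  have h9 : d ^ 3 = 1 := by
    have := mul_left_cancel (a := c) (b := 1) (c := d ^ 3) (by rw [mul_one]; exact e4)
    exact this.symm
  rw [hd3] at h9
  exact he₀1 h9

/-- With the cubes of elements of order dividing `9` in `⟨ζ⟩`, the group `C` is abelian. -/
theorem C_comm (h : Plane 3 M ζ) (hZc : ∀ c ∈ centralizer (M : Set G), c ^ 9 = 1 → c ^ 3 ∈ zpowers ζ) :
    ∀ a ∈ centralizer (M : Set G), ∀ b ∈ centralizer (M : Set G), a * b = b * a := by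
  classical
  have hpp : Nat.Prime 3 := hp3.out
  set R := centralizer (M : Set G) with hR
  set N : Subgroup R := M.subgroupOf R with hN
  have hNcen : N ≤ Subgroup.center R := by
    intro n hn
    rw [Subgroup.mem_center_iff]
    intro r
    apply Subtype.ext
    exact ((mem_centralizer_iff.mp r.2) n hn).symm
  haveI : N.Normal := by
    constructor
    intro n hn g
    have := hNcen hn
    rw [Subgroup.mem_center_iff] at this
    rw [this g]
    simpa using hn
  have hRp : IsPGroup 3 R := h.C_p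
  -- lifting
  have hlift : ∀ x : R ⧸ N, x ^ 3 = 1 → x ≠ 1 → ∃ r : R, (r : R ⧸ N) = x ∧ (r : G) ^ 9 = 1 ∧ (r : G) ^ 3 ≠ 1 ∧
      (r : G) ^ 3 ∈ zpowers ζ := by
    intro x hx hx1
    obtain ⟨r, rfl⟩ := QuotientGroup.mk_surjective x
    have h1 : r ^ 3 ∈ N := by
      rw [← QuotientGroup.eq_one_iff, QuotientGroup.mk_pow]
      exact hx
    have h2 : (r : G) ^ 3 ∈ M := by
      have := mem_subgroupOf.mp h1
      simpa using this
    have h3 : (r : G) ^ 9 = 1 := by
      rw [show (9 : ℕ) = 3 * 3 by norm_num, pow_mul]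
      exact h.exp _ h2
    refine ⟨r, rfl, h3, ?_, hZc r r.2 h3⟩
    intro h4
    apply hx1
    rw [QuotientGroup.eq_one_iff, hN, mem_subgroupOf]
    exact h.mem_M r.2 h4
  have hsub : ∀ H J : Subgroup (R ⧸ N), Nat.card H = 3 → Nat.card J = 3 → J ≤ H := by
    intro H J hH hJ k hk
    by_cases hk1 : k = 1
    · rw [hk1]
      exact one_mem _
    have hk3 : k ^ 3 = 1 := by
      have h2 : (⟨k, hk⟩ : J) ^ 3 = 1 := by
        rw [← hJ]
        exact pow_card_eq_one'
      have h3 := congrArg Subtype.val h2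
      simpa using h3
    -- a generator of `H`
    haveI : Fact (Nat.Prime (Nat.card H)) := ⟨by rw [hH]; exact hpp⟩
    have hnt : Nontrivial H := by
      apply Finite.one_lt_card_iff_nontrivial.mp
      rw [hH]
      norm_num
    obtain ⟨⟨x, hxH⟩, hx1⟩ := exists_ne (1 : H)
    have hx1' : x ≠ 1 := fun he => hx1 (Subtype.ext he)
    have hx3 : x ^ 3 = 1 := by
      have h2 : (⟨x, hxH⟩ : H) ^ 3 = 1 := by
        rw [← hH]
        exact pow_card_eq_one'
      have h3 := congrArg Subtype.val h2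
      simpa using h3
    obtain ⟨r, hr, hr9, hr3, hrZ⟩ := hlift x hx3 hx1'
    obtain ⟨s, hs, hs9, hs3, hsZ⟩ := hlift k hk3 hk1
    obtain ⟨t, ht⟩ := Z_le_powers h hrZ hr3 hsZ
    have hrt : (((r ^ t)⁻¹ : R) : G) ^ 9 = 1 := by
      simp only [InvMemClass.coe_inv, SubmonoidClass.coe_pow]
      rw [inv_pow, ← pow_mul, mul_comm, pow_mul, hr9, one_pow, inv_one]
    set v : R := s * (r ^ t)⁻¹ with hv
    have hv3 : (v : G) ^ 3 = 1 := by
      have e := Plane3.mul_cube h s.2 hs9 ((r ^ t)⁻¹ : R).2 hrt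
      have e2 : (v : G) = (s : G) * (((r ^ t)⁻¹ : R) : G) := rfl
      rw [e2, e, ht]
      simp only [InvMemClass.coe_inv, SubmonoidClass.coe_pow]
      rw [inv_pow, ← pow_mul, ← pow_mul, mul_comm]
      group
    have hvN : v ∈ N := by
      rw [hN, mem_subgroupOf]
      exact h.mem_M v.2 hv3
    have e3 : k = x ^ t := by
      have e4 : ((v : R) : R ⧸ N) = 1 := (QuotientGroup.eq_one_iff _).mpr hvN
      rw [hv, QuotientGroup.mk_mul, QuotientGroup.mk_inv, QuotientGroup.mk_pow, hs, hr] at e4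
      exact (mul_inv_eq_one.mp e4)
    rw [e3]
    exact pow_mem hxH t
  have hcyc : IsCyclic (R ⧸ N) := by
    apply Cfsg.Agent.Lib.OddPGroup.isCyclic_of_unique (p := 3) (by norm_num) (hRp.to_quotient N)
    intro H J hH hJ
    exact Subgroup.eq_of_le_of_card_ge (hsub J H hJ hH) (by rw [hH, hJ])
  have hcomm := (QuotientGroup.mk' N).isMulCommutative_of_isCyclic_of_ker_le_center (by
    rw [QuotientGroup.ker_mk']
    exact hNcen)
  intro a ha b hb
  exact congrArg Subtype.val (hcomm.is_comm.comm ⟨a, ha⟩ ⟨b, hb⟩)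

/-- An element of order three outside `C`. -/
theorem exists_order_three (h : Plane 3 M ζ)
    (hab : ∀ a ∈ centralizer (M : Set G), ∀ b ∈ centralizer (M : Set G), a * b = b * a)
    (hAg : ∀ g : G, g ^ 3 ∈ Plane3.Ag M)
    (hw : ∀ g : G, g ∉ centralizer (M : Set G) → ∃ w ∈ centralizer (M : Set G), w * g = g * w ∧ w ^ 3 = ζ)
    {g : G} (hg : g ∉ centralizer (M : Set G)) :
    ∃ x, x ∉ centralizer (M : Set G) ∧ x ^ 3 = 1 := by
  classical
  haveI := h.C_normal
  have hcube : ∀ y ∈ Plane3.Ag M, ∃ s ∈ centralizer (M : Set G), y = s ^ 3 := by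
    intro y hy
    unfold Plane3.Ag at hy
    induction hy using Subgroup.closure_induction with
    | mem y hy =>
      obtain ⟨t, ht, rfl⟩ := hy
      exact ⟨t, ht, rfl⟩
    | one => exact ⟨1, one_mem _, by simp⟩
    | mul a b _ _ ha hb =>
      obtain ⟨s, hs, rfl⟩ := ha
      obtain ⟨s', hs', rfl⟩ := hb
      refine ⟨s * s', mul_mem hs hs', ?_⟩
      have : Commute s s' := hab s hs s' hs'
      rw [this.mul_pow]
    | inv a _ ha =>
      obtain ⟨s, hs, rfl⟩ := ha
      exact ⟨s⁻¹, inv_mem hs, by rw [inv_pow]⟩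
  obtain ⟨s, hs, hgs⟩ := hcube _ (hAg g)
  have hαC : ∀ t ∈ centralizer (M : Set G), g⁻¹ * t * g ∈ centralizer (M : Set G) := by
    intro t ht
    have := (h.C_normal).conj_mem t ht g⁻¹
    simpa using this
  set d := dl g s with hd
  have hdC : d ∈ centralizer (M : Set G) := mul_mem (inv_mem hs) (hαC s hs)
  have hA : g⁻¹ * s * g = s * d := conj_eq g s
  have hsd : s * d = d * s := hab s hs d hdC
  have hd3 : d ^ 3 = 1 := by
    have e1 : g⁻¹ * s ^ 3 * g = s ^ 3 := by
      rw [← hgs]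
      calc g⁻¹ * g ^ 3 * g = g⁻¹ * (g ^ 3 * g) := by group
        _ = g⁻¹ * (g * g ^ 3) := by rw [(Commute.refl g).pow_left 3 |>.eq]
        _ = g ^ 3 := by group
    have e2 : g⁻¹ * s ^ 3 * g = (g⁻¹ * s * g) ^ 3 := by
      have := conj_pow (a := g⁻¹) (b := s) (i := 3)
      rw [inv_inv] at this
      exact this.symm
    rw [e2, hA, (show Commute s d from hsd).mul_pow] at e1
    exact mul_left_cancel (a := s ^ 3) (by rw [e1, mul_one])
  have hdM : d ∈ M := h.mem_M hdC hd3
  set e := dl g d with he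
  have heZ : e ∈ zpowers ζ := dl_M h hdM
  have hecen : ∀ y : G, y * e = e * y := fun y => h.Z_comm heZ y
  have hB : g⁻¹ * (s * d) * g = (s * d) * (d * e) := by
    calc g⁻¹ * (s * d) * g = (g⁻¹ * s * g) * (g⁻¹ * d * g) := by group
      _ = _ := by rw [hA, conj_eq]
  set x₁ := g * s⁻¹ with hx₁
  have hx₁C : x₁ ∉ centralizer (M : Set G) := by
    intro hc
    apply hg
    have := mul_mem hc hs
    rwa [hx₁, inv_mul_cancel_right] at this
  have hx₁3 : x₁ ^ 3 = e⁻¹ := by
    have e1 : x₁ ^ 3 = g ^ 3 * ((g⁻¹ * (g⁻¹ * s * g) * g)⁻¹ * (g⁻¹ * s * g)⁻¹ * s⁻¹) := by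
      rw [hx₁]
      simp only [pow_three]
      group
    rw [e1, hA, hB, hgs]
    have e2 : s * (s * d) * (s * d * (d * e)) = s ^ 3 * e := by
      calc s * (s * d) * (s * d * (d * e)) = s * s * (d * s) * d * d * e := by group
        _ = s * s * (s * d) * d * d * e := by rw [← hsd]
        _ = s ^ 3 * d ^ 3 * e := by simp only [pow_three, mul_assoc]
        _ = s ^ 3 * e := by rw [hd3, mul_one]
    have e3 : ((s * d * (d * e))⁻¹ * (s * d)⁻¹ * s⁻¹) = (s ^ 3 * e)⁻¹ := by
      rw [← e2]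
      group
    rw [e3, hecen (s ^ 3)]
    group
  obtain ⟨w, hwC, hwg, hw3⟩ := hw x₁ hx₁C
  obtain ⟨j, hj⟩ := Z_le_powers h (mem_zpowers ζ) h.ζne (inv_mem heZ)
  refine ⟨x₁ * (w ^ j)⁻¹, ?_, ?_⟩
  · intro hc
    apply hx₁C
    have := mul_mem hc (pow_mem hwC j)
    rwa [inv_mul_cancel_right] at this
  · have hc : Commute x₁ (w ^ j)⁻¹ := (((show Commute w x₁ from hwg).pow_left j).symm).inv_right
    rw [hc.mul_pow, hx₁3, hj, inv_pow, ← pow_mul, mul_comm j 3, pow_mul, hw3]
    group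

/-- The commutators of `C` with an element of order three lie in `M`. -/
theorem star_of_order_three (h : Plane 3 M ζ)
    (hab : ∀ a ∈ centralizer (M : Set G), ∀ b ∈ centralizer (M : Set G), a * b = b * a)
    (hZc : ∀ c ∈ centralizer (M : Set G), c ^ 9 = 1 → c ^ 3 ∈ zpowers ζ)
    {x w : G} (hxC : x ∉ centralizer (M : Set G)) (hx3 : x ^ 3 = 1) (hw : w ∈ centralizer (M : Set G))
    (hwx : w * x = x * w) (hw3 : w ^ 3 = ζ) :
    ∀ c ∈ centralizer (M : Set G), dl x c ∈ M := by
  classical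
  haveI := h.C_normal
  set α : G → G := fun t => x⁻¹ * t * x with hα
  have hαC : ∀ t ∈ centralizer (M : Set G), α t ∈ centralizer (M : Set G) := by
    intro t ht
    have := (h.C_normal).conj_mem t ht x⁻¹
    simpa [hα] using this
  have hαmul : ∀ s t : G, α (s * t) = α s * α t := by
    intro s t
    simp only [hα]
    group
  have hα3 : ∀ t : G, α (α (α t)) = t := by
    intro t
    simp only [hα]
    have : x⁻¹ * (x⁻¹ * (x⁻¹ * t * x) * x) * x = (x ^ 3)⁻¹ * t * x ^ 3 := by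
      simp only [pow_three, mul_inv_rev, mul_assoc]
    rw [this, hx3]
    group
  set N : G → G := fun t => α (α t) * α t * t with hN
  have hNmul : ∀ s ∈ centralizer (M : Set G), ∀ t ∈ centralizer (M : Set G), N (s * t) = N s * N t := by
    intro s hs t ht
    simp only [hN, hαmul]
    have h1 := hαC s hs
    have h2 := hαC t ht
    have h3 := hαC _ h1
    have h4 := hαC _ h2
    -- all the elements commute
    have c1 : α (α t) * α s = α s * α (α t) := hab _ h4 _ h1
    have c2 : α (α t) * s = s * α (α t) := hab _ h4 _ hs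
    have c3 : α t * s = s * α t := hab _ h2 _ hs
    calc α (α s) * α (α t) * (α s * α t) * (s * t)
        = α (α s) * (α (α t) * α s) * α t * s * t := by group
      _ = α (α s) * (α s * α (α t)) * α t * s * t := by rw [c1]
      _ = α (α s) * α s * α (α t) * (α t * s) * t := by group
      _ = α (α s) * α s * α (α t) * (s * α t) * t := by rw [c3]
      _ = α (α s) * α s * (α (α t) * s) * α t * t := by group
      _ = α (α s) * α s * (s * α (α t)) * α t * t := by rw [c2]
      _ = α (α s) * α s * s * (α (α t) * α t * t) := by group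
  have hN1 : N 1 = 1 := by
    simp [hN, hα]
  have hNpow : ∀ s ∈ centralizer (M : Set G), ∀ k : ℕ, N (s ^ k) = N s ^ k := by
    intro s hs k
    induction k with
    | zero => simpa using hN1
    | succ k ih =>
      rw [pow_succ, hNmul _ (pow_mem hs k) _ hs, ih, pow_succ]
  -- `N` on `M`
  have hNM : ∀ m ∈ M, N m = 1 := by
    intro m hm
    set e := dl x m with he
    have heZ : e ∈ zpowers ζ := dl_M h hm
    have hecen : ∀ y : G, y * e = e * y := fun y => h.Z_comm heZ y
    have he3 : e ^ 3 = 1 := h.exp e (h.Z_le heZ)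
    have hm3 : m ^ 3 = 1 := h.exp m hm
    have a1 : α m = m * e := conj_eq x m
    have a2 : α e = e := by
      simp only [hα]
      calc x⁻¹ * e * x = x⁻¹ * (e * x) := by group
        _ = x⁻¹ * (x * e) := by rw [hecen x]
        _ = e := by group
    have a3 : α (α m) = m * e * e := by
      rw [a1, hαmul, a1, a2]
    simp only [hN]
    rw [a3, a1]
    calc m * e * e * (m * e) * m = m * e * (e * m) * e * m := by group
      _ = m * e * (m * e) * e * m := by rw [← hecen m]
      _ = m * (e * m) * e * e * m := by group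
      _ = m * (m * e) * e * e * m := by rw [← hecen m]
      _ = m * m * (e * e * e) * m := by group
      _ = m * m * (e ^ 3) * m := by simp only [pow_three, mul_assoc]
      _ = m ^ 3 := by rw [he3, mul_one]; simp only [pow_three, mul_assoc]
      _ = 1 := hm3
  have hNw : N w = w ^ 3 := by
    have a1 : α w = w := by
      simp only [hα]
      calc x⁻¹ * w * x = x⁻¹ * (w * x) := by group
        _ = x⁻¹ * (x * w) := by rw [hwx]
        _ = w := by group
    simp only [hN]
    rw [a1, a1]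
    simp only [pow_three, mul_assoc]
  -- the key
  have key : ∀ v ∈ centralizer (M : Set G), v ^ 9 = 1 → N v = v ^ 3 := by
    intro v hv hv9
    obtain ⟨j, hj⟩ := Z_le_powers h (mem_zpowers ζ) h.ζne (hZc v hv hv9)
    have hwj : w ^ j ∈ centralizer (M : Set G) := pow_mem hw j
    have hc : Commute v (w ^ j)⁻¹ := (show Commute v (w ^ j) from hab v hv _ hwj).inv_right
    set m := v * (w ^ j)⁻¹ with hm
    have hmC : m ∈ centralizer (M : Set G) := mul_mem hv (inv_mem hwj)
    have hm3 : m ^ 3 = 1 := by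
      rw [hm, hc.mul_pow, hj, inv_pow, ← pow_mul, mul_comm j 3, pow_mul, hw3]
      group
    have hmM := h.mem_M hmC hm3
    have e1 : v = m * w ^ j := by
      rw [hm]; group
    calc N v = N (m * w ^ j) := by rw [← e1]
      _ = N m * N (w ^ j) := hNmul _ hmC _ hwj
      _ = (w ^ 3) ^ j := by rw [hNM m hmM, one_mul, hNpow _ hw, hNw]
      _ = v ^ 3 := by rw [hj, hw3]
  have key2 : ∀ v ∈ centralizer (M : Set G), N v = 1 → ∀ k : ℕ, v ^ 3 ^ k = 1 → v ^ 3 = 1 := by
    intro v hv hNv k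
    induction k with
    | zero =>
      intro h0
      rw [pow_zero, pow_one] at h0
      rw [h0, one_pow]
    | succ k ih =>
      intro h1
      rcases k with _ | k
      · simpa using h1
      · apply ih
        have hv9 : (v ^ 3 ^ k) ^ 9 = 1 := by
          rw [← pow_mul, show 3 ^ k * 9 = 3 ^ (k + 1 + 1) by ring]
          exact h1
        have h2 := key _ (pow_mem hv _) hv9
        rw [hNpow v hv, hNv, one_pow] at h2
        rw [show 3 ^ (k + 1) = 3 ^ k * 3 by ring, pow_mul]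
        exact h2.symm
  intro c hc
  have hdC : dl x c ∈ centralizer (M : Set G) := mul_mem (inv_mem hc) (hαC c hc)
  have hNd : N (dl x c) = 1 := by
    have e1 : dl x c = c⁻¹ * α c := rfl
    have hαinv : ∀ t : G, α t⁻¹ = (α t)⁻¹ := by
      intro t
      simp only [hα]
      group
    have e2 : α (dl x c) = (α c)⁻¹ * α (α c) := by
      rw [e1, hαmul, hαinv]
    have e3 : α (α (dl x c)) = (α (α c))⁻¹ * c := by
      rw [e2, hαmul, hαinv, hα3]
    simp only [hN]
    rw [e3, e2, e1]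
    have h1 := hαC c hc
    have h2 := hαC _ h1
    have c1 : c * (α c)⁻¹ = (α c)⁻¹ * c := hab _ hc _ (inv_mem h1)
    have c2 : c * α (α c) = α (α c) * c := hab _ hc _ h2
    have c3 : (α c)⁻¹ * α (α c) = α (α c) * (α c)⁻¹ := hab _ (inv_mem h1) _ h2
    calc (α (α c))⁻¹ * c * ((α c)⁻¹ * α (α c)) * (c⁻¹ * α c)
        = (α (α c))⁻¹ * c * (α (α c) * (α c)⁻¹) * (c⁻¹ * α c) := by rw [c3]
      _ = (α (α c))⁻¹ * (c * α (α c)) * (α c)⁻¹ * (c⁻¹ * α c) := by group
      _ = (α (α c))⁻¹ * (α (α c) * c) * (α c)⁻¹ * (c⁻¹ * α c) := by rw [c2]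
      _ = (c * (α c)⁻¹) * c⁻¹ * α c := by group
      _ = ((α c)⁻¹ * c) * c⁻¹ * α c := by rw [c1]
      _ = 1 := by group
  obtain ⟨k, hk⟩ := (IsPGroup.iff_orderOf.mp h.hG) (dl x c)
  have hk1 : (dl x c) ^ 3 ^ k = 1 := by
    rw [← hk]
    exact pow_orderOf_eq_one _
  exact h.mem_M hdC (key2 _ hdC hNd k hk1)

/-- The main result for `p = 3`. -/
theorem star_three (h : Plane 3 M ζ) {g : G} (hg : g ∉ centralizer (M : Set G))
    {W : Subgroup G} (hW : ∀ g : G, g ^ 3 ∈ W) (hidx : 9 < W.index)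
    (hcen : ∀ g : G, g ∉ centralizer (M : Set G) → 9 < Nat.card (centralizer ({g} : Set G))) :
    ∃ x, x ∉ centralizer (M : Set G) ∧ x ^ 3 = 1 ∧ ∀ c ∈ centralizer (M : Set G), dl x c ∈ M := by
  have hw : ∀ g : G, g ∉ centralizer (M : Set G) → ∃ w ∈ centralizer (M : Set G), w * g = g * w ∧ w ^ 3 = ζ :=
    fun g hg => exists_w h hg (hcen g hg)
  obtain ⟨w, hwC, hwg, hw3⟩ := hw g hg
  have hZc : ∀ c ∈ centralizer (M : Set G), c ^ 9 = 1 → c ^ 3 ∈ zpowers ζ :=
    cube_mem_Z h hg (fun c hc hc9 => Plane3.cube_comm h hW hidx g hc hc9) hwC hwg hw3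
  have hab := C_comm h hZc
  obtain ⟨x, hxC, hx3⟩ := exists_order_three h hab (fun g => Plane3.mem_Ag h hW hidx g) hw hg
  obtain ⟨w', hw'C, hw'x, hw'3⟩ := hw x hxC
  exact ⟨x, hxC, hx3, star_of_order_three h hab hZc hxC hx3 hw'C hw'x hw'3⟩

end Cfsg.Agent.Lib.BlackburnF
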