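import Mathlib
import Cfsg.Agent.Lib.BlkFrob

/-!
# The Frobenius congruence for powers of `p`
-/

set_option autoImplicit false
set_option linter.unusedSectionVars false
set_option linter.unusedVariables false
set_option linter.style.haveILetI false

namespace Cfsg.Agent.Lib.BlkFrobPow

open Cfsg Cfsg.Agent.Lib.CharBasic Cfsg.Agent.Lib.CharIntegrality
open Cfsg.Agent.Lib.BlockLocal Cfsg.Agent.Lib.BlockIdem Cfsg.Agent.Lib.BlkFrob

universe u v

section Fixed

/-- A sum over a set with a permutation of `p`-power order is congruent to the sum over the fixed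
points. -/
theorem sum_eq_fixed_add_pow {p : ℕ} (hp : p.Prime) (R : Subring ℂ) (n : ℕ) :
    ∀ {X : Type v} [Fintype X] [DecidableEq X] (σ : Equiv.Perm X) (_ : σ ^ p ^ n = 1) (f : X → ℂ)
      (_ : ∀ x, f (σ x) = f x) (_ : ∀ x, f x ∈ R),
      ∃ r ∈ R, ∑ x, f x = (∑ x, if σ x = x then f x else 0) + (p : ℂ) * r := by
  induction n with
  | zero =>
    intro X _ _ σ hσ f hf hR
    refine ⟨0, R.zero_mem, ?_⟩
    have h1 : σ = 1 := by simpa using hσ
    simp [h1]
  | succ n ih =>
    intro X _ _ σ hσ f hf hR
    classical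
    set τ := σ ^ p ^ n with hτ
    have hτp : τ ^ p = 1 := by
      rw [hτ, ← pow_mul, ← pow_succ, hσ]
    have hfk : ∀ (m : ℕ) (x : X), f ((σ ^ m) x) = f x := by
      intro m x
      induction m with
      | zero => simp
      | succ m ih' =>
        rw [pow_succ', Equiv.Perm.mul_apply, hf, ih']
    obtain ⟨r₁, hr₁, h1⟩ := sum_eq_fixed_add hp τ hτp f (fun x => hfk _ x) R hR
    -- the fixed points of `τ`
    let P : X → Prop := fun x => τ x = x
    have hPσ : ∀ x, P (σ x) ↔ P x := by
      intro x
      simp only [P]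
      have h2 : τ (σ x) = σ (τ x) := by
        have : Commute τ σ := (Commute.refl σ).pow_left _
        exact congrFun (congrArg DFunLike.coe this.eq) x
      rw [h2]
      simp
    let σ' : Equiv.Perm {x // P x} := σ.subtypePerm hPσ
    have hpow : ∀ (m : ℕ) (x : {x // P x}), ((σ' ^ m) x : X) = (σ ^ m) (x : X) := by
      intro m x
      induction m with
      | zero => simp
      | succ m ih' =>
        rw [pow_succ', pow_succ', Equiv.Perm.mul_apply, Equiv.Perm.mul_apply]
        show σ (((σ' ^ m) x : {x // P x}) : X) = _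
        rw [ih']
    have hσ' : σ' ^ p ^ n = 1 := by
      ext x
      rw [hpow]
      exact x.2
    obtain ⟨r₂, hr₂, h2⟩ := ih σ' hσ' (fun x => f x) (fun x => hf x) (fun x => hR x)
    refine ⟨r₁ + r₂, R.add_mem hr₁ hr₂, ?_⟩
    have h3 : (∑ x, if τ x = x then f x else 0) = ∑ x : {x // P x}, f x := by
      rw [← Finset.sum_filter]
      exact Finset.sum_subtype _ (by simp [P]) _
    have h4 : (∑ x : {x // P x}, if σ' x = x then f x else 0) =
        ∑ x, if σ x = x then f x else 0 := by
      have h5 : ∀ x : X, σ x = x → P x := by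
        intro x hx
        simp only [P, hτ]
        have : ∀ m : ℕ, (σ ^ m) x = x := by
          intro m
          induction m with
          | zero => simp
          | succ m ih' => rw [pow_succ', Equiv.Perm.mul_apply, ih', hx]
        exact this _
      have h6 : (∑ x : {x // P x}, if σ' x = x then f x else 0) =
          ∑ x ∈ Finset.univ.filter (fun x : {x // P x} => σ' x = x), f x := by
        rw [Finset.sum_filter]
      rw [h6, ← Finset.sum_filter]
      refine Finset.sum_bij (fun x _ => (x : X)) ?_ ?_ ?_ ?_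
      · intro x hx
        rw [Finset.mem_filter] at hx ⊢
        refine ⟨Finset.mem_univ _, ?_⟩
        have := congrArg Subtype.val hx.2
        exact this
      · intro x _ y _ hxy
        exact Subtype.ext hxy
      · intro x hx
        rw [Finset.mem_filter] at hx
        refine ⟨⟨x, h5 x hx.2⟩, ?_, rfl⟩
        rw [Finset.mem_filter]
        exact ⟨Finset.mem_univ _, Subtype.ext hx.2⟩
      · intro x _
        rfl
    rw [h1, h3, h2, h4]
    ring

end Fixed

section Tuples

variable {G : Type u} [Group G] [Fintype G] [DecidableEq G] {p : ℕ}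

/-- The coefficient at `1` of a `p ^ n`-th convolution power. -/
theorem pw_one_eq_pow (hp : p.Prime) (n : ℕ) (a : G → ℂ) (R : Subring ℂ) (hR : ∀ y, a y ∈ R) :
    ∃ r ∈ R, pw a (p ^ n) 1 = (∑ y : G, if y ^ p ^ n = 1 then a y ^ p ^ n else 0) + (p : ℂ) * r := by
  classical
  haveI : Fact p.Prime := ⟨hp⟩
  rw [pw_eq_sum_vector]
  set q := p ^ n with hq
  have hq0 : 0 < q := pow_pos hp.pos n
  set X := {v : List.Vector G q // v.toList.prod = 1} with hX
  have hsum : (∑ v : List.Vector G q, if v.toList.prod = 1 then vecProd a v else 0) =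
      ∑ v : X, vecProd a v.1 := by
    rw [← Finset.sum_filter]
    exact Finset.sum_subtype _ (by simp) _
  rw [hsum]
  -- rotation
  let rot : ℕ → X → X := fun k v =>
    ⟨⟨_, (v.1.1.length_rotate k).trans v.1.2⟩, List.prod_rotate_eq_one_of_prod_eq_one v.2 k⟩
  have hrot0 : ∀ v, rot 0 v = v := fun v => Subtype.ext (Subtype.ext v.1.1.rotate_zero)
  have hrot2 : ∀ j k v, rot k (rot j v) = rot (j + k) v := fun j k v =>
    Subtype.ext (Subtype.ext (v.1.1.rotate_rotate j k))
  have hrotp : ∀ v, rot q v = v := fun v =>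
    Subtype.ext (Subtype.ext ((congr_arg _ v.1.2.symm).trans v.1.1.rotate_length))
  let σ : Equiv.Perm X := ⟨rot 1, rot (q - 1),
    fun s => by
      rw [hrot2, add_tsub_cancel_of_le hq0, hrotp],
    fun s => by
      rw [hrot2, tsub_add_cancel_of_le hq0, hrotp]⟩
  have hσk : ∀ k v, (σ ^ k) v = rot k v := by
    intro k
    induction k with
    | zero => intro v; rw [hrot0]; rfl
    | succ k ih =>
      intro v
      rw [pow_succ, Equiv.Perm.mul_apply, ih, add_comm, ← hrot2]
      rfl
  have hσp : σ ^ p ^ n = 1 := by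
    ext v
    rw [← hq, hσk, hrotp]
    rfl
  have hinv : ∀ v : X, vecProd a (σ v).1 = vecProd a v.1 := by
    intro v
    show ((v.1.1.rotate 1).map a).prod = (v.1.1.map a).prod
    exact ((List.rotate_perm v.1.1 1).map a).prod_eq
  obtain ⟨r, hr, h⟩ := sum_eq_fixed_add_pow hp R n σ hσp (fun v : X => vecProd a v.1) hinv (fun v => by
    unfold vecProd
    apply Subring.list_prod_mem
    intro x hx
    obtain ⟨y, -, rfl⟩ := List.mem_map.mp hx
    exact hR y)
  refine ⟨r, hr, ?_⟩
  rw [h]
  congr 1
  -- the fixed points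
  have hfix : (∑ v : X, if σ v = v then vecProd a v.1 else 0) =
      ∑ v ∈ Finset.univ.filter (fun v : X => σ v = v), vecProd a v.1 := by
    rw [Finset.sum_filter]
  rw [hfix, ← Finset.sum_filter]
  symm
  have hrep : ∀ y : G, y ^ q = 1 → (List.replicate q y).length = q := fun y _ => by simp
  refine Finset.sum_bij (fun y hy => (⟨⟨List.replicate q y, by simp⟩, by
    have hy' : y ^ q = 1 := (Finset.mem_filter.mp hy).2
    simpa using hy'⟩ : X)) ?_ ?_ ?_ ?_
  · intro y hy
    rw [Finset.mem_filter]
    refine ⟨Finset.mem_univ _, ?_⟩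
    apply Subtype.ext
    apply Subtype.ext
    exact List.rotate_replicate y q 1
  · intro y hy y' hy' h
    have h1 := congrArg (fun v : X => v.1.1) h
    simp only at h1
    have h2 := List.replicate_right_injective (n := q) hq0.ne' h1
    exact h2
  · intro v hv
    have hv' : σ v = v := (Finset.mem_filter.mp hv).2
    have h1 : v.1.1.rotate 1 = v.1.1 := congrArg (fun v : X => v.1.1) hv'
    obtain ⟨y, hy⟩ := List.rotate_one_eq_self_iff_eq_replicate.mp h1
    have hlen : v.1.1.length = q := v.1.2
    rw [hlen] at hy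
    have hyp : y ^ q = 1 := by
      have := v.2
      show y ^ q = 1
      have h3 : v.1.1.prod = 1 := this
      rw [hy] at h3
      simpa using h3
    refine ⟨y, Finset.mem_filter.mpr ⟨Finset.mem_univ _, hyp⟩, ?_⟩
    apply Subtype.ext
    apply Subtype.ext
    exact hy.symm
  · intro y hy
    show a y ^ q = ((List.replicate q y).map a).prod
    simp

/-- **The Frobenius congruence** for a class function and powers of `p`. -/
theorem pw_pow_eq (hp : p.Prime) (n : ℕ) {w : G → ℂ} (hw : IsClassFunction G w) (R : Subring ℂ)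
    (hR : ∀ y, w y ∈ R) (g : G) :
    ∃ r ∈ R, pw w (p ^ n) (g ^ p ^ n) =
      (∑ y : G, if y ^ p ^ n = 1 then w (y * g) ^ p ^ n else 0) + (p : ℂ) * r := by
  obtain ⟨r, hr, h⟩ := pw_one_eq_pow hp n (fun y => w (y * g)) R (fun y => hR _)
  rw [pw_translate hw, one_mul] at h
  exact ⟨r, hr, h⟩

end Tuples

end Cfsg.Agent.Lib.BlkFrobPow
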