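import Mathlib
import Cfsg.Agent.Lib.BlkNormalSub
import Cfsg.Agent.Lib.BlkFrob
import Cfsg.Agent.Lib.BlkFrobPow
import Cfsg.Agent.Lib.BlockDefect
import Cfsg.Agent.Lib.BlockOsima
import Cfsg.Agent.Lib.BlockOrtho

/-!
# Counting blocks by regular classes
-/

set_option autoImplicit false
set_option linter.unusedSectionVars false
set_option linter.unusedVariables false
set_option linter.style.haveILetI false

namespace Cfsg.Agent.Lib.BlkCount

open Cfsg Cfsg.Agent.Lib.CharBasic Cfsg.Agent.Lib.CharInd Cfsg.Agent.Lib.CharIntegrality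
open Cfsg.Agent.Lib.BlockLocal Cfsg.Agent.Lib.BlockIdem Cfsg.Agent.Lib.BlkBasic
open Cfsg.Agent.Lib.BlockDefect Cfsg.Agent.Lib.BlockOsima Cfsg.Agent.Lib.BlkNormalSub
open Cfsg.Agent.Lib.BrauerPair (BlockT)
open Cfsg.Agent.Lib.BlkFrob Cfsg.Agent.Lib.BlkFrobPow
open scoped ComplexConjugate

universe u

/-- Linear algebra over a field: a one-sided inverse bounds the sizes. -/
theorem card_le_of_mul_eq_one {k : Type*} [Field k] {m n : Type*} [Fintype m] [Fintype n]
    [DecidableEq m] (A : Matrix m n k) (W : Matrix n m k) (h : A * W = 1) :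
    Fintype.card m ≤ Fintype.card n := by
  have h1 : (A * W).rank ≤ A.rank := Matrix.rank_mul_le_left A W
  rw [h, Matrix.rank_one] at h1
  exact h1.trans (Matrix.rank_le_card_width A)

variable {G : Type u} [Group G] [Fintype G] {p : ℕ} [hp : Fact p.Prime] {M : Ideal AlgInt}

/-- **Min-max**: a class with a central character outside the ideal has defect at least the defect of
the block. -/
theorem blockDefect_le_of_centralChar (hM : IsPModular p M) {B : Set (IrrCharacter G)}
    (hB : IsPBlock M B) {χ : IrrCharacter G} (hχ : χ ∈ B) {g : G}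
    (hg : ¬ MemLocalIdeal M (centralChar (χ : G → ℂ) g)) :
    blockDefect p B ≤ (Nat.card (Subgroup.centralizer ({g} : Set G))).factorization p := by
  classical
  obtain ⟨D, hD⟩ := exists_isDefectGroup hM hB
  obtain ⟨S⟩ : Nonempty (Sylow p (Subgroup.centralizer ({g} : Set G))) := inferInstance
  obtain ⟨t, ht⟩ := IsDefectGroup.exists_conj_le hM hB hD hχ hg (leDefect_of_sylow g S)
  have h1 := card_isDefectGroup hM hB hD
  have h2 : Nat.card D ≤ Nat.card ((S : Subgroup (Subgroup.centralizer ({g} : Set G))).map
      (Subgroup.centralizer ({g} : Set G)).subtype) := by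
    rw [← Subgroup.card_map_of_injective (f := (MulAut.conj t).toMonoidHom) (K := D)
      (MulAut.conj t).injective]
    exact Subgroup.card_le_of_le ht
  rw [Subgroup.card_map_of_injective Subtype.val_injective, Sylow.card_eq_multiplicity S, h1] at h2
  exact (Nat.pow_le_pow_iff_right hp.out.one_lt).mp h2

theorem blockCoeff_mul_centralChar_conj (B : Set (IrrCharacter G)) (χ : IrrCharacter G) (t g : G) :
    blockCoeff B (t * g * t⁻¹) * centralChar (χ : G → ℂ) (t * g * t⁻¹) =
      blockCoeff B g * centralChar (χ : G → ℂ) g := by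
  rw [BlkBasic.blockCoeff_isClassFunction B g t, centralChar_conj]

theorem out_mk_value (B : Set (IrrCharacter G)) (χ : IrrCharacter G) (g : G) :
    blockCoeff B (Quotient.out (ConjClasses.mk g)) * centralChar (χ : G → ℂ) (Quotient.out (ConjClasses.mk g)) =
      blockCoeff B g * centralChar (χ : G → ℂ) g := by
  have h1 : IsConj g (Quotient.out (ConjClasses.mk g)) :=
    (ConjClasses.mk_eq_mk_iff_isConj.mp (Quotient.out_eq _)).symm
  obtain ⟨t, ht⟩ := isConj_iff.mp h1
  rw [← ht, blockCoeff_mul_centralChar_conj]

theorem memLocalIdeal_of_residue_eq_zero [M.IsPrime] (x : localSubring M)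
    (h : IsLocalRing.residue (localSubring M) x = 0) : MemLocalIdeal M (x : ℂ) := by
  by_contra hcon
  rw [IsLocalRing.residue_eq_zero_iff, IsLocalRing.mem_maximalIdeal, mem_nonunits_iff] at h
  apply h
  refine IsUnit.of_mul_eq_one (⟨(x : ℂ)⁻¹, memLocalRing_inv x.2 hcon⟩ : localSubring M) ?_
  apply Subtype.ext
  exact mul_inv_eq_one_of_not_memLocalIdeal hcon

/-- Action of a subgroup by conjugation. -/
@[reducible] noncomputable def conjAction (U : Subgroup G) : MulAction U G :=
  { smul := fun u x => (u : G) * x * (u : G)⁻¹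
    one_smul := by
      intro x
      change ((1 : U) : G) * x * ((1 : U) : G)⁻¹ = x
      simp
    mul_smul := by
      intro a b x
      change ((a * b : U) : G) * x * ((a * b : U) : G)⁻¹ = (a : G) * ((b : G) * x * (b : G)⁻¹) * (a : G)⁻¹
      simp only [Subgroup.coe_mul, mul_inv_rev]
      group }

/-- The `R`-valued class functions with coefficients in the local ideal on `C(Q)` form an ideal. -/
theorem conv_mem_of_centralizer (hM : IsPModular p M) {Q : Subgroup G} (hQ : IsPGroup p Q) {f k : G → ℂ}
    (hf : IsClassFunction G f) (hk : IsClassFunction G k) (hfR : ∀ g, MemLocalRing M (f g))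
    (hkR : ∀ g, MemLocalRing M (k g))
    (hI : ∀ x ∈ Subgroup.centralizer (Q : Set G), MemLocalIdeal M (f x)) {z : G}
    (hz : z ∈ Subgroup.centralizer (Q : Set G)) : MemLocalIdeal M (conv f k z) := by
  classical
  have := hM.2.1.isPrime
  letI := conjAction Q
  have hsmul : ∀ (u : Q) (x : G), u • x = (u : G) * x * (u : G)⁻¹ := fun _ _ => rfl
  unfold conv
  refine memLocalIdeal_sum_of_invariant hM hQ (fun x => f x * k (x⁻¹ * z)) ?_ ?_ ?_
  · intro u x
    simp only [hsmul]
    rw [hf x u]
    have h1 : ((u : G) * x * (u : G)⁻¹)⁻¹ * z = (u : G) * (x⁻¹ * z) * (u : G)⁻¹ := by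
      have h2 : (u : G) * z = z * (u : G) := Subgroup.mem_centralizer_iff.mp hz u u.2
      calc ((u : G) * x * (u : G)⁻¹)⁻¹ * z = (u : G) * x⁻¹ * (u : G)⁻¹ * z := by group
        _ = (u : G) * x⁻¹ * ((u : G)⁻¹ * z * (u : G)) * (u : G)⁻¹ := by group
        _ = (u : G) * x⁻¹ * z * (u : G)⁻¹ := by
            have h3 : (u : G)⁻¹ * z * (u : G) = z := by
              rw [mul_assoc, ← h2, inv_mul_cancel_left]
            rw [h3]
        _ = (u : G) * (x⁻¹ * z) * (u : G)⁻¹ := by group
    rw [h1, hk]
  · intro x
    exact memLocalRing_mul (hfR _) (hkR _)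
  · intro x hx
    refine memLocalIdeal_mul_right (hI x ?_) (hkR _)
    rw [Subgroup.mem_centralizer_iff]
    intro u hu
    have h2 := hx ⟨u, hu⟩
    rw [hsmul] at h2
    calc u * x = (u * x * u⁻¹) * u := by group
      _ = x * u := by
        have h3 : u * x * u⁻¹ = x := h2
        rw [h3]

/-- The idempotent of a union of blocks as a sum of block idempotents. -/
theorem blockCoeff_closed_eq_sum [M.IsPrime] {S : Set (IrrCharacter G)} (hS : BlockClosed M S) (x : G) :
    blockCoeff S x = ∑ F : BlockT M G,
      @ite ℂ (F.1 ⊆ S) (Classical.propDecidable _) (blockCoeff F.1 x) 0 := by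
  classical
  have h1 : ∀ χ : IrrCharacter G, blkInd S χ = ∑ F : BlockT M G,
      @ite ℂ (F.1 ⊆ S) (Classical.propDecidable _) (blkInd F.1 χ) 0 := by
    intro χ
    rw [Finset.sum_eq_single (⟨blockOf M (χ : G → ℂ), ⟨χ, rfl⟩⟩ : BlockT M G)]
    · by_cases hχ : χ ∈ S
      · have h2 : blockOf M (χ : G → ℂ) ⊆ S := fun ψ hψ => hS χ hχ ψ hψ
        rw [if_pos h2, blkInd_of_mem hχ, blkInd_of_mem (mem_blockOf_self χ)]
      · have h2 : ¬ blockOf M (χ : G → ℂ) ⊆ S := fun h => hχ (h (mem_blockOf_self χ))
        rw [if_neg h2, blkInd_of_not_mem hχ]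
    · intro F _ hF
      have h2 : χ ∉ F.1 := by
        intro hχ
        apply hF
        apply Subtype.ext
        rcases eq_or_disjoint_of_isPBlock F.2 (⟨χ, rfl⟩ : IsPBlock M (blockOf M (χ : G → ℂ))) with h | h
        · exact h
        · exact absurd (mem_blockOf_self χ) (Set.disjoint_left.1 h hχ)
      split_ifs with h3
      · exact blkInd_of_not_mem h2
      · rfl
    · intro h
      exact absurd (Finset.mem_univ _) h
  rw [blockCoeff_apply]
  simp_rw [h1, Finset.sum_mul]
  rw [Finset.sum_comm]
  refine Finset.sum_congr rfl fun F _ => ?_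
  split_ifs with h3
  · rw [blockCoeff_apply]
  · simp

/-- A block with a coefficient at an element centralizing the Sylow subgroup outside the ideal has
the Sylow subgroup as a defect group. -/
theorem isDefectGroup_of_coeff (hM : IsPModular p M) (P : Sylow p G) {B : Set (IrrCharacter G)}
    (hB : IsPBlock M B) {x : G} (hx : x ∈ Subgroup.centralizer ((P : Subgroup G) : Set G))
    (h : ¬ MemLocalIdeal M (blockCoeff B x)) : IsDefectGroup p M B (P : Subgroup G) := by
  classical
  obtain ⟨D, hD⟩ := exists_isDefectGroup hM hB
  have h1 := IsDefectGroup.sylow_conj hM hB hD h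
  have h2 : (P : Subgroup G) ≤ Subgroup.centralizer ({x} : Set G) := by
    intro u hu
    rw [Subgroup.mem_centralizer_singleton_iff]
    exact (Subgroup.mem_centralizer_iff.mp hx u hu)
  obtain ⟨t, ht⟩ := h1 (P : Subgroup G) P.isPGroup' h2
  have h3 : IsDefectGroup p M B (D.map (MulAut.conj t⁻¹).toMonoidHom) := IsDefectGroup.conj hD t⁻¹
  have hDp : IsPGroup p D := by
    obtain ⟨g, -, S, rfl⟩ := hD
    exact (Cfsg.Agent.Lib.BlkSylow.isSylowIn_of_sylow S).1
  obtain ⟨S, hS⟩ := hDp.exists_le_sylow
  have hc : Nat.card D ≤ Nat.card (P : Subgroup G) := by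
    refine (Subgroup.card_le_of_le hS).trans ?_
    rw [Sylow.card_eq_multiplicity S, Sylow.card_eq_multiplicity P]
  have h4 : (P : Subgroup G).map (MulAut.conj t).toMonoidHom = D := by
    apply Subgroup.eq_of_le_of_card_ge ht
    rw [Subgroup.card_map_of_injective (MulAut.conj t).injective]
    exact hc
  have h5 : D.map (MulAut.conj t⁻¹).toMonoidHom = (P : Subgroup G) := by
    rw [← h4, Subgroup.map_map]
    convert Subgroup.map_id (P : Subgroup G)
    ext y
    simp only [MonoidHom.coe_comp, Function.comp_apply, MonoidHom.id_apply]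
    change t⁻¹ * (t * y * t⁻¹) * t⁻¹⁻¹ = y
    group
  rwa [h5] at h3

/-- **Brauer**: regular classes of maximal defect give independent central characters of the blocks
of maximal defect. -/
theorem card_le_blocks (hM : IsPModular p M) (P : Sylow p G) {ι : Type*} [Fintype ι] (n : ι → G)
    (hreg : ∀ i, ¬ p ∣ orderOf (n i)) (hC : ∀ i, n i ∈ Subgroup.centralizer ((P : Subgroup G) : Set G))
    (hinj : ∀ i j, IsConj (n i) (n j) → i = j) :
    Fintype.card ι ≤ Nat.card {B : Set (IrrCharacter G) // IsPBlock M B ∧ IsDefectGroup p M B (P : Subgroup G)} := by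
  classical
  haveI hprime := hM.2.1.isPrime
  let 𝔅 := {B : Set (IrrCharacter G) // IsPBlock M B ∧ IsDefectGroup p M B (P : Subgroup G)}
  letI : Fintype 𝔅 := Fintype.ofFinite _
  have hrep : ∀ B : 𝔅, ∃ χ : IrrCharacter G, B.1 = blockOf M (χ : G → ℂ) := fun B => B.2.1
  choose χB hχB using hrep
  have hχBmem : ∀ B : 𝔅, χB B ∈ B.1 := fun B => by
    rw [hχB B]
    exact mem_blockOf_self _
  have hωR : ∀ (χ : IrrCharacter G) (x : G), MemLocalRing M (centralChar (χ : G → ℂ) x) :=
    fun χ x => memLocalRing_of_isIntegral (isIntegral_centralChar χ x)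
  let res := IsLocalRing.residue (localSubring M)
  let W : ι → 𝔅 → IsLocalRing.ResidueField (localSubring M) :=
    fun i B => res ⟨centralChar (χB B : G → ℂ) (n i), hωR _ _⟩
  have hind : LinearIndependent (IsLocalRing.ResidueField (localSubring M)) W := by
    rw [Fintype.linearIndependent_iff]
    intro c hc i₀
    -- lifts of the coefficients
    have hsurj := IsLocalRing.residue_surjective (R := localSubring M)
    choose lift hlift using hsurj
    set a : ι → localSubring M := fun i => lift (c i) with ha
    have haR : ∀ i, MemLocalRing M (a i : ℂ) := fun i => (a i).2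
    -- the central element
    set z : G → ℂ := ∑ i, (a i : ℂ) • castFun (classIndicator (n i)) with hz
    have hzapp : ∀ x, z x = ∑ i, (a i : ℂ) * (classIndicator (n i) x : ℂ) := by
      intro x
      simp [hz, Finset.sum_apply, castFun]
    have hzcl : IsClassFunction G z := by
      intro x t
      rw [hzapp, hzapp]
      refine Finset.sum_congr rfl fun i _ => ?_
      rw [classIndicator_mem (n i) x t]
    have hzR : ∀ x, MemLocalRing M (z x) := by
      intro x
      rw [hzapp]
      exact memLocalRing_sum _ _ fun i _ => memLocalRing_mul (haR i) (memLocalRing_intCast _)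
    -- values of `z`
    have hzn : ∀ i, z (n i) = a i := by
      intro i
      rw [hzapp, Finset.sum_eq_single i]
      · rw [classIndicator_of_conj (IsConj.refl _)]
        simp
      · intro j _ hj
        rw [classIndicator_of_not_conj (fun h => hj (hinj _ _ h))]
        simp
      · intro h
        exact absurd (Finset.mem_univ _) h
    have hzsing : ∀ x, p ∣ orderOf x → z x = 0 := by
      intro x hx
      rw [hzapp]
      refine Finset.sum_eq_zero fun i _ => ?_
      rw [classIndicator_of_not_conj]
      · simp
      · intro h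
        obtain ⟨t, ht⟩ := isConj_iff.mp h
        apply hreg i
        rw [← ht] at hx
        have h2 : orderOf (t * n i * t⁻¹) = orderOf (n i) := by
          have : t * n i * t⁻¹ = (MulAut.conj t) (n i) := rfl
          rw [this, MulEquiv.orderOf_eq]
        rwa [h2] at hx
    have hzomega : ∀ χ : IrrCharacter G, omega (χ : G → ℂ) z =
        ∑ i, (a i : ℂ) * centralChar (χ : G → ℂ) (n i) := by
      intro χ
      rw [hz, omega_sum]
      refine Finset.sum_congr rfl fun i _ => ?_
      rw [omega_smul, omega_classIndicator]
    set y : IrrCharacter G → ℂ := fun χ => omega (χ : G → ℂ) z with hy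
    have hyZ : y ∈ Zc (G := G) M := mem_Zc_of_classFunction hzcl hzR
    have hinvy : invF y = z := invF_omega hzcl
    -- the central characters in the blocks of maximal defect are in the ideal
    have hyB : ∀ (B : 𝔅) (χ : IrrCharacter G), χ ∈ B.1 → MemLocalIdeal M (y χ) := by
      intro B χ hχ
      have h1 := congrFun (hc) B
      simp only [Finset.sum_apply, Pi.smul_apply, Pi.zero_apply, smul_eq_mul] at h1
      have h2 : res (∑ i, a i * (⟨centralChar (χB B : G → ℂ) (n i), hωR _ _⟩ : localSubring M)) = 0 := by
        rw [map_sum, ← h1]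
        refine Finset.sum_congr rfl fun i _ => ?_
        rw [map_mul]
        have h9 : res (a i) = c i := hlift (c i)
        rw [h9]
      have h3 := memLocalIdeal_of_residue_eq_zero _ h2
      have h4 : ((∑ i, a i * (⟨centralChar (χB B : G → ℂ) (n i), hωR _ _⟩ : localSubring M) :
          localSubring M) : ℂ) = ∑ i, (a i : ℂ) * centralChar (χB B : G → ℂ) (n i) := by
        push_cast
        rfl
      rw [h4] at h3
      simp only [hy]
      rw [hzomega]
      have h5 : ∑ i, (a i : ℂ) * centralChar (χ : G → ℂ) (n i) =
          (∑ i, (a i : ℂ) * centralChar (χB B : G → ℂ) (n i)) + ∑ i, (a i : ℂ) *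
            (centralChar (χ : G → ℂ) (n i) - centralChar (χB B : G → ℂ) (n i)) := by
        rw [← Finset.sum_add_distrib]
        refine Finset.sum_congr rfl fun i _ => ?_
        ring
      rw [h5]
      refine memLocalIdeal_add h3 (memLocalIdeal_sum _ _ fun i _ => memLocalIdeal_mul_left (haR i) ?_)
      exact sameBlock_of_mem B.2.1 hχ (hχBmem B) (n i)
    -- the union of the blocks of maximal defect
    set S : Set (IrrCharacter G) := {χ | ∃ B : 𝔅, χ ∈ B.1} with hS
    have hSclosed : BlockClosed M S := by
      rintro ψ ⟨B, hB⟩ ψ' h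
      refine ⟨B, ?_⟩
      have h1 := blockClosed_of_isPBlock B.2.1
      exact h1 ψ hB ψ' h
    have hScclosed : BlockClosed M Sᶜ := by
      intro ψ hψ ψ' h hψ'
      exact hψ (hSclosed ψ' hψ' ψ (sameBlock_symm h))
    set e : IrrCharacter G → ℂ := blkInd S with he
    set e' : IrrCharacter G → ℂ := blkInd Sᶜ with he'
    have hinve' : invF e' = blockCoeff Sᶜ := (blockCoeff_eq_invF' Sᶜ).symm
    have he'Z : e' ∈ Zc (G := G) M := blkInd_mem_Zc_of_closed hScclosed
    -- the coefficients of `e'` vanish on the centralizer
    have he'I : ∀ x ∈ Subgroup.centralizer ((P : Subgroup G) : Set G),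
        MemLocalIdeal M (invF e' x) := by
      intro x hx
      rw [hinve', blockCoeff_closed_eq_sum hScclosed]
      refine memLocalIdeal_sum _ _ fun F _ => ?_
      split_ifs with hF
      · by_contra hcon
        have h1 := isDefectGroup_of_coeff hM P F.2 hx hcon
        obtain ⟨χ, hχ⟩ := F.2
        have h2 : χ ∈ F.1 := by
          rw [hχ]
          exact mem_blockOf_self _
        exact hF h2 ⟨⟨F.1, F.2, h1⟩, h2⟩
      · exact memLocalIdeal_zero
    -- nilpotency
    have hval : ∀ χ, MemLocalIdeal M ((y * e) χ) := by
      intro χ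
      rw [Pi.mul_apply]
      by_cases hχ : χ ∈ S
      · obtain ⟨B, hB⟩ := hχ
        exact memLocalIdeal_mul_right (hyB B χ hB) (by rw [he, blkInd_of_mem (show χ ∈ S from ⟨B, hB⟩)]; exact memLocalRing_one)
      · rw [he, blkInd_of_not_mem hχ, mul_zero]
        exact memLocalIdeal_zero
    obtain ⟨N₀, hN₀⟩ := Cf_pow_large hM hval
    -- powers of `z` on the centralizer of `P`
    have hpow : ∀ k, N₀ ≤ k → 1 ≤ k → ∀ x ∈ Subgroup.centralizer ((P : Subgroup G) : Set G),
        MemLocalIdeal M (pw z k x) := by
      intro k hk hk1 x hx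
      have h1 : y ^ k = (y * e) ^ k + e' * y ^ k := by
        funext χ
        simp only [Pi.add_apply, Pi.mul_apply, Pi.pow_apply]
        by_cases hχ : χ ∈ S
        · have h2 : χ ∉ Sᶜ := fun h => h hχ
          rw [he, he', blkInd_of_mem hχ, blkInd_of_not_mem h2]
          ring
        · rw [he, he', blkInd_of_not_mem hχ, blkInd_of_mem hχ, mul_zero, zero_pow (by omega)]
          ring
      have h2 : pw z k = invF (y ^ k) := by rw [invF_pow, hinvy]
      rw [h2, h1, invF_add, Pi.add_apply]
      refine memLocalIdeal_add (hN₀ k hk x) ?_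
      rw [invF_mul]
      exact conv_mem_of_centralizer hM P.isPGroup' (invF_isClassFunction _) (invF_isClassFunction _)
        he'Z (pow_mem hyZ k) he'I hx
    -- the Frobenius congruence at `n i₀`
    have hkey : MemLocalIdeal M (a i₀ : ℂ) := by
      set g := n i₀ with hg
      have hgC := hC i₀
      have hgreg := hreg i₀
      set m := orderOf g with hm
      have hm0 : 0 < m := orderOf_pos g
      have hcop : Nat.Coprime p m := (Nat.Prime.coprime_iff_not_dvd hp.out).mpr hgreg
      -- a large exponent
      set t := Nat.totient m * (N₀ + Nat.card G + 1) with ht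
      have htot : 0 < Nat.totient m := Nat.totient_pos.mpr hm0
      have ht1 : N₀ + Nat.card G + 1 ≤ t := Nat.le_mul_of_pos_left _ htot
      have hq1 : p ^ t ≡ 1 [MOD m] := by
        rw [ht, pow_mul]
        have h1 := Nat.ModEq.pow_totient hcop
        simpa using h1.pow (N₀ + Nat.card G + 1)
      have hgq : g ^ p ^ t = g := by
        have h1 : g ^ p ^ t = g ^ 1 := by
          rw [hm] at hq1
          exact pow_eq_pow_iff_modEq.mpr hq1
        simpa using h1
      have htlt : t < p ^ t := Nat.lt_pow_self hp.out.one_lt
      obtain ⟨r, hr, hfrob⟩ := pw_pow_eq hp.out t hzcl (localSubring M) hzR g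
      rw [hgq] at hfrob
      have h1 : MemLocalIdeal M (pw z (p ^ t) g) :=
        hpow _ (by omega) (by omega) g hgC
      have hpI : MemLocalIdeal M (p : ℂ) := memLocalIdeal_natCast_of_dvd hM dvd_rfl
      set q := p ^ t with hq
      -- the sum
      have h2 : MemLocalIdeal M (∑ y' : G, if y' ^ q = 1 then z (y' * g) ^ q else 0) := by
        have h3 := memLocalIdeal_sub h1 (memLocalIdeal_mul_right hpI hr)
        rw [hfrob] at h3
        simpa using h3
      -- the terms apart from `y' = 1`
      letI := conjAction (P : Subgroup G)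
      have hsmul : ∀ (u : (P : Subgroup G)) (x : G), u • x = (u : G) * x * (u : G)⁻¹ := fun _ _ => rfl
      have h4 : MemLocalIdeal M (∑ y' : G, if y' = 1 then 0 else
          (if y' ^ q = 1 then z (y' * g) ^ q else 0)) := by
        refine memLocalIdeal_sum_of_invariant hM P.isPGroup' _ ?_ ?_ ?_
        · intro u x
          simp only [hsmul]
          have h5 : (u : G) * x * (u : G)⁻¹ = 1 ↔ x = 1 := by
            constructor
            · intro h
              have : x = (u : G)⁻¹ * ((u : G) * x * (u : G)⁻¹) * (u : G) := by group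
              rw [this, h]
              group
            · rintro rfl
              group
          have h6 : ((u : G) * x * (u : G)⁻¹) ^ q = 1 ↔ x ^ q = 1 := by
            rw [show (u : G) * x * (u : G)⁻¹ = (MulAut.conj (u : G)) x from rfl, ← map_pow, map_eq_one_iff _ (MulAut.conj (u : G)).injective]
          have h7 : z ((u : G) * x * (u : G)⁻¹ * g) = z (x * g) := by
            have h8 : (u : G) * g = g * (u : G) := Subgroup.mem_centralizer_iff.mp hgC u u.2
            have h9 : (u : G) * x * (u : G)⁻¹ * g = (u : G) * (x * g) * (u : G)⁻¹ := by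
              have h10 : (u : G)⁻¹ * g = g * (u : G)⁻¹ := by
                rw [eq_mul_inv_iff_mul_eq, mul_assoc, ← h8, inv_mul_cancel_left]
              rw [mul_assoc ((u : G) * x), h10]
              group
            rw [h9, hzcl]
          simp only [h5, h6, h7]
        · intro x
          split_ifs
          · exact memLocalRing_zero
          · exact memLocalRing_pow (hzR _) _
          · exact memLocalRing_zero
        · intro x hx
          split_ifs with hx1 hx2
          · exact memLocalIdeal_zero
          · -- `x` is a `p`-element centralizing the Sylow subgroup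
            have hxC : ∀ u ∈ (P : Subgroup G), u * x = x * u := by
              intro u hu
              have h2 := hx ⟨u, hu⟩
              rw [hsmul] at h2
              have h3 : u * x * u⁻¹ = x := h2
              calc u * x = (u * x * u⁻¹) * u := by group
                _ = x * u := by rw [h3]
            have hxp : IsPGroup p (Subgroup.zpowers x) := by
              rw [IsPGroup.iff_card]
              obtain ⟨j, -, hj⟩ := (Nat.dvd_prime_pow hp.out).mp (orderOf_dvd_of_pow_eq_one hx2)
              refine ⟨j, ?_⟩
              rw [Nat.card_zpowers, hj]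
            have hxle : Subgroup.zpowers x ≤ Subgroup.normalizer ((P : Subgroup G) : Set G) := by
              rw [Subgroup.zpowers_le]
              exact Subgroup.centralizer_le_normalizer _ (Subgroup.mem_centralizer_iff.mpr hxC)
            have hsup : IsPGroup p ↥(Subgroup.zpowers x ⊔ (P : Subgroup G)) :=
              IsPGroup.to_sup_of_normal_right' hxp P.isPGroup' hxle
            have hxP : x ∈ (P : Subgroup G) := by
              have h3 := P.is_maximal' hsup le_sup_right
              rw [← h3]
              exact Subgroup.mem_sup_left (Subgroup.mem_zpowers x)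
            have hcomm : Commute x g := Subgroup.mem_centralizer_iff.mp hgC x hxP
            have hordx : ∃ j, orderOf x = p ^ j := by
              obtain ⟨j, -, hj⟩ := (Nat.dvd_prime_pow hp.out).mp (orderOf_dvd_of_pow_eq_one hx2)
              exact ⟨j, hj⟩
            have hpart := Cfsg.Agent.Lib.BlkOrth.pPart_of_mul hcomm hordx hgreg
            have hsing : p ∣ orderOf (x * g) := by
              by_contra hcon
              exact hx1 ((Cfsg.Agent.Lib.BlkOrth.pPart_regular_iff hp.out hpart).mp hcon)
            rw [hzsing _ hsing, zero_pow (by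
              rw [hq]
              exact (pow_pos hp.out.pos _).ne')]
            exact memLocalIdeal_zero
          · exact memLocalIdeal_zero
      have h5 : (∑ y' : G, if y' ^ q = 1 then z (y' * g) ^ q else 0) =
          z g ^ q + ∑ y' : G, if y' = 1 then 0 else (if y' ^ q = 1 then z (y' * g) ^ q else 0) := by
        have h6 : ∀ y' : G, (if y' ^ q = 1 then z (y' * g) ^ q else 0) =
            (if y' = 1 then z g ^ q else 0) +
              (if y' = 1 then 0 else (if y' ^ q = 1 then z (y' * g) ^ q else 0)) := by
          intro y'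
          by_cases h7 : y' = 1
          · subst h7
            simp
          · simp [h7]
        rw [Finset.sum_congr rfl fun y' _ => h6 y', Finset.sum_add_distrib]
        congr 1
        simp
      rw [h5] at h2
      have h6 := memLocalIdeal_sub h2 h4
      rw [add_sub_cancel_right] at h6
      rw [← hzn i₀]
      exact (memLocalIdeal_pow_iff (hzR _) (by
        rw [hq]
        exact (pow_pos hp.out.pos _).ne')).mp h6
    have h7 := residue_eq_zero_of_memLocalIdeal _ hkey
    have h8 : res (a i₀) = c i₀ := hlift (c i₀)
    rw [← h8]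
    exact h7
  have h1 := hind.fintype_card_le_finrank
  rw [Module.finrank_fintype_fun_eq_card] at h1
  rw [Nat.card_eq_fintype_card]
  exact h1

end Cfsg.Agent.Lib.BlkCount
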