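import Mathlib
import Cfsg.Agent.Lib.ImplGroup
import Cfsg.Agent.Lib.CosetAvg
import Cfsg.Agent.Lib.CharCentral
import Cfsg.Agent.Lib.CharKernel
import Cfsg.Agent.Lib.BlkLink

/-!
# A finite central cover in which an invariant irreducible character extends

For `N ◁ G` and an invariant irreducible representation `ρ` of `N`, the pairs `(g, X)` with
`X ρ(n) X⁻¹ = ρ(g n g⁻¹)` and `det(X)^|N| = 1` form a finite group `E`, with a surjection `π : E → G`
whose kernel consists of central scalars, an embedding `N → E`, and a representation `R` of `E`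
extending `ρ`.  Characters of `G` over `ρ` are products `ν ζ`, with `ζ` the character of `R` and `ν` a
character of `E / N`.
-/

set_option autoImplicit false
set_option linter.unusedVariables false
set_option linter.unusedSectionVars false
set_option linter.style.haveILetI false

namespace Cfsg.Agent.Lib.BlkCover

open Cfsg Cfsg.Agent.Lib.CharBasic Cfsg.Agent.Lib.CharInduction Cfsg.Agent.Lib.ImplGroup
open Cfsg.Agent.Lib.CosetAvg Cfsg.Agent.Lib.CharInd
open scoped ComplexConjugate
open Module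

universe u

section Construction

variable {G : Type u} [Group G] [Finite G] (N : Subgroup G) [hN : N.Normal] {k : ℕ}
  (ρ : Representation ℂ N (Fin k → ℂ))

/-- The determinant on the implementers. -/
noncomputable def detHom : implGroup N ρ →* ℂˣ :=
  (Units.map (LinearMap.det : Module.End ℂ (Fin k → ℂ) →* ℂ)).comp (implRep N ρ)

/-- The implementers with determinant of order dividing `|N|`. -/
noncomputable def implFin : Subgroup (implGroup N ρ) :=
  ((powMonoidHom (Nat.card N)).comp (detHom N ρ)).ker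

theorem mem_implFin {x : implGroup N ρ} : x ∈ implFin N ρ ↔ (detHom N ρ x) ^ Nat.card N = 1 := by
  unfold implFin
  rw [MonoidHom.mem_ker]
  rfl

theorem detHom_val (x : implGroup N ρ) : ((detHom N ρ x : ℂˣ) : ℂ) =
    LinearMap.det ((x : G × (Module.End ℂ (Fin k → ℂ))ˣ).2 : Module.End ℂ (Fin k → ℂ)) := rfl

theorem detHom_scalar (c : ℂˣ) : detHom N ρ (implι N ρ c) = c ^ k := by
  apply Units.ext
  rw [detHom_val]
  show LinearMap.det ((scalarUnit c : (Module.End ℂ (Fin k → ℂ))ˣ) : Module.End ℂ (Fin k → ℂ)) = _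
  rw [scalarUnit_val, LinearMap.det_smul]
  simp

theorem detHom_hat (n : N) : (detHom N ρ (implHat N ρ n)) ^ Nat.card N = 1 := by
  rw [← map_pow, ← map_pow, pow_card_eq_one', map_one, map_one]

/-- The projection. -/
noncomputable def piF : implFin N ρ →* G := (implπ N ρ).comp (implFin N ρ).subtype

/-- The lift of `N`. -/
noncomputable def hatF : N →* implFin N ρ where
  toFun n := ⟨implHat N ρ n, (mem_implFin N ρ).mpr (detHom_hat N ρ n)⟩
  map_one' := by
    apply Subtype.ext
    simp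
  map_mul' := by
    intro a b
    apply Subtype.ext
    simp

/-- The representation. -/
noncomputable def repF : Representation ℂ (implFin N ρ) (Fin k → ℂ) :=
  (Units.coeHom (Module.End ℂ (Fin k → ℂ))).comp ((implRep N ρ).comp (implFin N ρ).subtype)

theorem exists_normalized (hk : k ≠ 0) (hinv : ∀ g : G, ∃ X : (Module.End ℂ (Fin k → ℂ))ˣ, (g, X) ∈ implGroup N ρ)
    (g : G) : ∃ x : implFin N ρ, piF N ρ x = g := by
  obtain ⟨X, hX⟩ := hinv g
  set x₀ : implGroup N ρ := ⟨(g, X), hX⟩ with hx₀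
  obtain ⟨b, hb⟩ := units_exists_pow (detHom N ρ x₀)⁻¹ k (Nat.pos_of_ne_zero hk)
  refine ⟨⟨implι N ρ b * x₀, (mem_implFin N ρ).mpr ?_⟩, ?_⟩
  · rw [map_mul, detHom_scalar, hb]
    simp
  · show implπ N ρ (implι N ρ b * x₀) = g
    rw [map_mul]
    show (1 : G) * g = g
    rw [one_mul]

theorem implFin_finite (hρ : ρ.IsIrreducible)
    (hinv : ∀ (g : G) (n : N), ρ.character (conjAut N hN g n) = ρ.character n) :
    Finite (implFin N ρ) := by
  classical
  have hV : Nontrivial (Fin k → ℂ) := ((isIrreducible_iff ρ).mp hρ).1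
  have hk : k ≠ 0 := by
    rintro rfl
    exact not_subsingleton _ (inferInstance : Subsingleton (Fin 0 → ℂ))
  have hN0 : Nat.card N ≠ 0 := Nat.card_pos.ne'
  haveI : NeZero (k * Nat.card N) := ⟨mul_ne_zero hk hN0⟩
  choose r hr using exists_normalized N ρ hk (exists_impl N ρ hinv)
  let f : G × rootsOfUnity (k * Nat.card N) ℂ → implFin N ρ := fun a =>
    ⟨implι N ρ (a.2 : ℂˣ), (mem_implFin N ρ).mpr (by
      rw [detHom_scalar, ← pow_mul]
      exact a.2.2)⟩ * r a.1
  have hX := implExt N ρ hρ (exists_impl N ρ hinv)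
  apply Finite.of_surjective f
  intro x
  have h1 : (implExt N ρ hρ (exists_impl N ρ hinv)).π ((x : implGroup N ρ) * ((r (piF N ρ x) : implFin N ρ) : implGroup N ρ)⁻¹) = 1 := by
    show implπ N ρ _ = 1
    rw [map_mul, map_inv]
    have h2 : implπ N ρ ((r (piF N ρ x) : implFin N ρ) : implGroup N ρ) = piF N ρ x := hr _
    rw [h2]
    exact mul_inv_cancel _
  obtain ⟨c, hc⟩ := (implExt N ρ hρ (exists_impl N ρ hinv)).ker _ h1
  have hc' : implι N ρ c = (x : implGroup N ρ) * ((r (piF N ρ x) : implFin N ρ) : implGroup N ρ)⁻¹ := hc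
  have hcr : c ^ (k * Nat.card N) = 1 := by
    have h3 : (detHom N ρ (implι N ρ c)) ^ Nat.card N = 1 := by
      rw [hc', map_mul, map_inv, mul_pow, inv_pow, (mem_implFin N ρ).mp x.2,
        (mem_implFin N ρ).mp (r (piF N ρ x)).2]
      simp
    rwa [detHom_scalar, ← pow_mul] at h3
  refine ⟨(piF N ρ x, ⟨c, (mem_rootsOfUnity _ _).mpr hcr⟩), ?_⟩
  apply Subtype.ext
  show implι N ρ c * ((r (piF N ρ x) : implFin N ρ) : implGroup N ρ) = x
  rw [hc']
  group

end Construction

/-- The data of a finite cover. -/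
structure Cover {G : Type u} [Group G] (N : Subgroup G) {k : ℕ}
    (ρ : Representation ℂ N (Fin k → ℂ)) (E : Type u) [Group E] where
  π : E →* G
  hat : N →* E
  R : Representation ℂ E (Fin k → ℂ)
  surj : Function.Surjective π
  π_hat : ∀ n, π (hat n) = n
  R_hat : ∀ n, R (hat n) = ρ n
  ker_central : ∀ x, π x = 1 → ∀ y, x * y = y * x
  ker_pow : ∀ x, π x = 1 → x ^ (k * Nat.card N) = 1
  ker_scalar : ∀ x, π x = 1 → ∃ c : ℂ, R x = c • 1
  conj_hat : ∀ (x : E) (n : N), ∃ m : N, x * hat n * x⁻¹ = hat m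

theorem exists_cover {G : Type u} [Group G] [Finite G] (N : Subgroup G) [hN : N.Normal] {k : ℕ}
    (ρ : Representation ℂ N (Fin k → ℂ)) (hρ : ρ.IsIrreducible)
    (hinv : ∀ (g : G) (n : N), ρ.character (conjAut N hN g n) = ρ.character n) :
    ∃ (E : Type u) (_ : Group E) (_ : Finite E), Nonempty (Cover N ρ E) := by
  classical
  have hV : Nontrivial (Fin k → ℂ) := ((isIrreducible_iff ρ).mp hρ).1
  have hk : k ≠ 0 := by
    rintro rfl
    exact not_subsingleton _ (inferInstance : Subsingleton (Fin 0 → ℂ))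
  have hsurj := exists_impl N ρ hinv
  have hker : ∀ x : implFin N ρ, piF N ρ x = 1 → ∃ c : ℂˣ, (x : implGroup N ρ) = implι N ρ c ∧
      c ^ (k * Nat.card N) = 1 := by
    intro x hx
    obtain ⟨c, hc⟩ := (implExt N ρ hρ hsurj).ker (x : implGroup N ρ) hx
    have hc' : implι N ρ c = (x : implGroup N ρ) := hc
    refine ⟨c, hc'.symm, ?_⟩
    have h3 := (mem_implFin N ρ).mp x.2
    rwa [← hc', detHom_scalar, ← pow_mul] at h3
  refine ⟨implFin N ρ, inferInstance, implFin_finite N ρ hρ hinv, ⟨?_⟩⟩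
  exact
    { π := piF N ρ
      hat := hatF N ρ
      R := repF N ρ
      surj := exists_normalized N ρ hk hsurj
      π_hat := fun n => rfl
      R_hat := fun n => rfl
      ker_central := by
        intro x hx y
        obtain ⟨c, hc, -⟩ := hker x hx
        apply Subtype.ext
        show (x : implGroup N ρ) * (y : implGroup N ρ) = (y : implGroup N ρ) * (x : implGroup N ρ)
        rw [hc]
        exact (implExt N ρ hρ hsurj).central c _
      ker_pow := by
        intro x hx
        obtain ⟨c, hc, hc2⟩ := hker x hx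
        apply Subtype.ext
        show (x : implGroup N ρ) ^ _ = 1
        rw [hc, ← map_pow, hc2, map_one]
      ker_scalar := by
        intro x hx
        obtain ⟨c, hc, -⟩ := hker x hx
        refine ⟨(c : ℂ), ?_⟩
        show (((x : implGroup N ρ) : G × (Module.End ℂ (Fin k → ℂ))ˣ).2 : Module.End ℂ (Fin k → ℂ)) = _
        rw [hc]
        show ((scalarUnit c : (Module.End ℂ (Fin k → ℂ))ˣ) : Module.End ℂ (Fin k → ℂ)) = _
        exact scalarUnit_val c
      conj_hat := by
        intro x n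
        obtain ⟨m, hm⟩ := (implExt N ρ hρ hsurj).conj_hat (x : implGroup N ρ) n
        refine ⟨m, ?_⟩
        apply Subtype.ext
        exact hm }


/-! ### Regular elements and surjections with kernel of order prime to `p` -/

section Regular

variable {A B : Type*} [Group A] [Group B] {p : ℕ}

theorem dvd_orderOf_iff [Finite A] (f : A →* B) (hp : p.Prime) (hk : ¬ p ∣ Nat.card f.ker) (x : A) :
    p ∣ orderOf (f x) ↔ p ∣ orderOf x := by
  constructor
  · intro h
    exact h.trans (orderOf_map_dvd f x)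
  · intro h
    set m := orderOf (f x) with hm
    have h1 : x ^ m ∈ f.ker := by
      rw [MonoidHom.mem_ker, map_pow, hm, pow_orderOf_eq_one]
    have h2 : (x ^ m) ^ Nat.card f.ker = 1 := by
      have := pow_card_eq_one' (x := (⟨x ^ m, h1⟩ : f.ker))
      simpa [Subtype.ext_iff] using this
    rw [← pow_mul] at h2
    have h3 := orderOf_dvd_of_pow_eq_one h2
    rcases (Nat.Prime.dvd_mul hp).mp (h.trans h3) with h4 | h4
    · exact h4
    · exact absurd h4 hk

theorem sum_comp_surj [Fintype A] [Fintype B] (f : A →* B) (hf : Function.Surjective f) (F : B → ℂ) :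
    ∑ x, F (f x) = (Nat.card f.ker : ℂ) * ∑ y, F y := by
  classical
  rw [← Finset.sum_fiberwise (s := Finset.univ) (g := f) (f := fun x => F (f x)), Finset.mul_sum]
  refine Finset.sum_congr rfl fun y _ => ?_
  have h1 : ∀ x ∈ Finset.univ.filter (fun x => f x = y), F (f x) = F y := by
    intro x hx
    rw [(Finset.mem_filter.mp hx).2]
  rw [Finset.sum_congr rfl h1, Finset.sum_const, nsmul_eq_mul]
  congr 1
  obtain ⟨x₀, rfl⟩ := hf y
  have h2 : (Finset.univ.filter (fun x => f x = f x₀)).card = Nat.card f.ker := by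
    rw [Nat.card_eq_fintype_card, ← Fintype.card_subtype]
    apply Fintype.card_congr
    exact
      { toFun := fun x => ⟨x₀⁻¹ * x.1, by
          rw [MonoidHom.mem_ker, map_mul, map_inv, x.2, inv_mul_cancel]⟩
        invFun := fun k => ⟨x₀ * k.1, by
          rw [map_mul, MonoidHom.mem_ker.mp k.2, mul_one]⟩
        left_inv := fun x => by
          apply Subtype.ext
          simp
        right_inv := fun k => by
          apply Subtype.ext
          simp }
  rw [h2]

theorem regInner_comp [Fintype A] [Fintype B] (f : A →* B) (hf : Function.Surjective f) (hp : p.Prime)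
    (hk : ¬ p ∣ Nat.card f.ker) (φ φ' : B → ℂ) :
    Cfsg.Agent.Lib.BlkLink.regInner p (φ ∘ f) (φ' ∘ f) =
      (Nat.card f.ker : ℂ) * Cfsg.Agent.Lib.BlkLink.regInner p φ φ' := by
  classical
  unfold Cfsg.Agent.Lib.BlkLink.regInner
  rw [← sum_comp_surj f hf]
  refine Finset.sum_congr rfl fun x _ => ?_
  have h1 := dvd_orderOf_iff f hp hk x
  by_cases h : p ∣ orderOf x
  · rw [if_neg (not_not.mpr h), if_neg (not_not.mpr (h1.mpr h))]
  · rw [if_pos h, if_pos (fun h2 => h (h1.mp h2))]
    rfl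

end Regular

/-! ### Consequences -/

section Consequences

variable {G : Type u} [Group G] [Fintype G] {N : Subgroup G} [hN : N.Normal] [Fintype N] {k : ℕ}
  {ρ : Representation ℂ N (Fin k → ℂ)} {E : Type u} [Group E] [Fintype E] (C : Cover N ρ E)

/-- `N`, inside `E`. -/
def Cover.A : Subgroup E := C.hat.range

theorem Cover.hat_injective : Function.Injective C.hat := fun a b h => by
  have := congrArg C.π h
  rw [C.π_hat, C.π_hat] at this
  exact Subtype.ext this

instance Cover.A_normal : C.A.Normal := by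
  constructor
  rintro _ ⟨n, rfl⟩ x
  obtain ⟨m, hm⟩ := C.conj_hat x n
  exact ⟨m, hm.symm⟩

/-- The character of `R`. -/
noncomputable def Cover.ζ : E → ℂ := C.R.character

theorem Cover.ζ_hat (n : N) : C.ζ (C.hat n) = ρ.character n := by
  show LinearMap.trace ℂ _ (C.R (C.hat n)) = LinearMap.trace ℂ _ (ρ n)
  rw [C.R_hat]

theorem Cover.isCharacter_ζ : IsCharacter E C.ζ := ⟨k, C.R, rfl⟩

/-- The isomorphism of `N` with `A`. -/
noncomputable def Cover.eqv : N ≃* C.A := MonoidHom.ofInjective C.hat_injective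

theorem Cover.eqv_coe (n : N) : ((C.eqv n : C.A) : E) = C.hat n := rfl

theorem Cover.isIrr_ζ_A (hρ : ρ.IsIrreducible) : IsIrrCharacter C.A (fun a : C.A => C.ζ a) := by
  have h1 : IsIrrCharacter N ρ.character := ⟨k, ρ, hρ, rfl⟩
  have h2 := isIrrCharacter_comp_of_surjective C.eqv.symm.toMonoidHom C.eqv.symm.surjective h1
  convert h2 using 1
  funext a
  obtain ⟨n, rfl⟩ := C.eqv.surjective a
  simp only [Function.comp_apply]
  rw [Cover.eqv_coe, Cover.ζ_hat]
  simp

theorem Cover.card_A : Nat.card C.A = Nat.card N := Nat.card_congr C.eqv.symm.toEquiv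

theorem Cover.classInner_A (χ : G → ℂ) [Fintype C.A] :
    classInner (fun a : C.A => (χ ∘ C.π) a) (fun a : C.A => C.ζ a) =
      classInner (fun n : N => χ n) ρ.character := by
  have h1 := Cfsg.Agent.Lib.Clifford.classInner_comp_mulEquiv C.eqv
    (fun a : C.A => (χ ∘ C.π) a) (fun a : C.A => C.ζ a)
  rw [← h1]
  congr 1
  · funext n
    simp only [Function.comp_apply]
    rw [Cover.eqv_coe, C.π_hat]
  · funext n
    simp only [Function.comp_apply]
    rw [Cover.eqv_coe, Cover.ζ_hat]

theorem Cover.isIrr_mul_ζ (hρ : ρ.IsIrreducible) [Fintype C.A] {ν : E → ℂ} (hν : IsIrrCharacter E ν)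
    (hinv : ∀ (a : C.A) (x : E), ν ((a : E) * x) = ν x) : IsIrrCharacter E (ν * C.ζ) := by
  apply isIrrCharacter_of_norm_one (isCharacter_mul (IsIrrCharacter.isCharacter hν) C.isCharacter_ζ)
  rw [classInner_mul_mul_of_invariant C.A C.isCharacter_ζ (C.isIrr_ζ_A hρ) hinv hinv]
  exact classInner_irr_self hν

/-- **Gallagher's decomposition.** -/
theorem Cover.exists_decomp (hρ : ρ.IsIrreducible) [Fintype C.A] {χ : G → ℂ} (hχ : IsIrrCharacter G χ)
    (h0 : classInner (fun n : N => χ n) ρ.character ≠ 0) :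
    ∃ ν : E → ℂ, IsIrrCharacter E ν ∧ (∀ (a : C.A) (x : E), ν ((a : E) * x) = ν x) ∧
      ∀ x, χ (C.π x) = ν x * C.ζ x := by
  have hχ' : IsIrrCharacter E (χ ∘ C.π) := isIrrCharacter_comp_of_surjective C.π C.surj hχ
  have h1 : classInner (fun a : C.A => (χ ∘ C.π) a) (fun a : C.A => C.ζ a) ≠ 0 := by
    rw [C.classInner_A]
    exact h0
  have hν := isIrr_cosetAvg C.A C.isCharacter_ζ (C.isIrr_ζ_A hρ) hχ' h1
  have hinv : ∀ (a : C.A) (x : E), cosetAvg C.A (χ ∘ C.π) C.ζ ((a : E) * x) = cosetAvg C.A (χ ∘ C.π) C.ζ x :=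
    cosetAvg_mul_left C.A _ _
  refine ⟨_, hν, hinv, ?_⟩
  have hirr := C.isIrr_mul_ζ hρ hν hinv
  have h2 : classInner (χ ∘ C.π) (cosetAvg C.A (χ ∘ C.π) C.ζ * C.ζ) = 1 := by
    rw [classInner_cosetAvg C.A hinv]
    exact classInner_irr_self hν
  by_contra hcon
  push Not at hcon
  have hne : (χ ∘ C.π) ≠ cosetAvg C.A (χ ∘ C.π) C.ζ * C.ζ := by
    intro h3
    obtain ⟨x, hx⟩ := hcon
    exact hx (congrFun h3 x)
  rw [classInner_irr_ne hχ' hirr hne] at h2
  exact zero_ne_one h2

/-- Descent to `G`. -/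
theorem Cover.exists_descend {ξ : E → ℂ} (hξ : IsIrrCharacter E ξ)
    (hker : ∀ x, C.π x = 1 → ξ x = ξ 1) :
    ∃ χ : G → ℂ, IsIrrCharacter G χ ∧ ∀ x, χ (C.π x) = ξ x := by
  have hker' : ∀ x ∈ C.π.ker, ξ x = ξ 1 := fun x hx => hker x (MonoidHom.mem_ker.mp hx)
  obtain ⟨χ', h1, h2⟩ := Cfsg.Agent.Lib.CharKernel.exists_quotient_irr C.π.ker hξ hker'
  let e : (E ⧸ C.π.ker) ≃* G := QuotientGroup.quotientKerEquivOfSurjective C.π C.surj
  refine ⟨χ' ∘ e.symm, isIrrCharacter_comp_of_surjective e.symm.toMonoidHom e.symm.surjective h1, fun x => ?_⟩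
  have h3 : e (x : E ⧸ C.π.ker) = C.π x := rfl
  simp only [Function.comp_apply]
  rw [← h3, MulEquiv.symm_apply_apply, h2]

/-- Regular sum of a product with `ζ`. -/
theorem Cover.regInner_mul_ζ {p : ℕ} (hp : p.Prime) (hpN : ¬ p ∣ Nat.card N) (hρ : ρ.IsIrreducible)
    [Fintype C.A] {ν ν' : E → ℂ}
    (hν : ∀ (a : C.A) (x : E), ν ((a : E) * x) = ν x) (hν' : ∀ (a : C.A) (x : E), ν' ((a : E) * x) = ν' x) :
    Cfsg.Agent.Lib.BlkLink.regInner p (ν * C.ζ) (ν' * C.ζ) =
      Cfsg.Agent.Lib.BlkLink.regInner p ν ν' := by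
  classical
  unfold Cfsg.Agent.Lib.BlkLink.regInner
  set β : E → ℂ := fun x => @ite ℂ (¬ p ∣ orderOf x) (Classical.propDecidable _) (ν x * conj (ν' x)) 0 with hβ
  have hreg : ∀ (a : C.A) (x : E), p ∣ orderOf ((a : E) * x) ↔ p ∣ orderOf x := by
    intro a x
    have hk : ¬ p ∣ Nat.card (QuotientGroup.mk' C.A).ker := by
      rw [QuotientGroup.ker_mk', C.card_A]
      exact hpN
    rw [← dvd_orderOf_iff (QuotientGroup.mk' C.A) hp hk, ← dvd_orderOf_iff (QuotientGroup.mk' C.A) hp hk x]
    have h1 : (QuotientGroup.mk' C.A) ((a : E) * x) = (QuotientGroup.mk' C.A) x := by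
      rw [map_mul]
      have : (QuotientGroup.mk' C.A) (a : E) = 1 := by
        rw [← MonoidHom.mem_ker, QuotientGroup.ker_mk']
        exact a.2
      rw [this, one_mul]
    rw [h1]
  have hβinv : ∀ (a : C.A) (x : E), β ((a : E) * x) = β x := by
    intro a x
    simp only [hβ]
    by_cases h : p ∣ orderOf x
    · rw [if_neg (not_not.mpr h), if_neg (not_not.mpr ((hreg a x).mpr h))]
    · rw [if_pos h, if_pos (fun h2 => h ((hreg a x).mp h2)), hν, hν']
  have h1 := sum_mul_invariant C.A (fun x => C.ζ x * conj (C.ζ x)) β hβinv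
  have h2 : ∀ x, (Nat.card C.A : ℂ)⁻¹ * ∑ a : C.A, C.ζ ((a : E) * x) * conj (C.ζ ((a : E) * x)) = 1 :=
    fun x => avg_norm_sq_eq_one C.A C.isCharacter_ζ (C.isIrr_ζ_A hρ) x
  simp only [h2, one_mul] at h1
  rw [← h1]
  refine Finset.sum_congr rfl fun x _ => ?_
  simp only [hβ, Pi.mul_apply, map_mul]
  by_cases h : p ∣ orderOf x
  · rw [if_neg (not_not.mpr h), if_neg (not_not.mpr h), mul_zero]
  · rw [if_pos h, if_pos h]
    ring

end Consequences

end Cfsg.Agent.Lib.BlkCover
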