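import Mathlib
import Cfsg.Agent.Lib.CharPow
import Cfsg.Agent.Lib.CharRational
import Cfsg.Agent.Lib.GenChar
import Cfsg.Agent.Lib.BlockNormal
import Cfsg.Agent.Lib.BlockVal

/-!
# Galois conjugation on blocks

For `k` coprime to `|G|`, the map `χ ↦ χ (· ^ k)` permutes the irreducible characters and preserves
blocks.
-/

set_option autoImplicit false
set_option linter.unusedSectionVars false
set_option linter.style.haveILetI false

namespace Cfsg.Agent.Lib.BlockGal

open Cfsg Cfsg.Agent.Lib.CharBasic Cfsg.Agent.Lib.CharPow Cfsg.Agent.Lib.BlockNormal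
open scoped ComplexConjugate

variable {G : Type*} [Group G] [Finite G]

/-- The Galois conjugate of an irreducible character. -/
noncomputable def powIrr {k : ℕ} (hk : (Nat.card G).Coprime k) (χ : IrrCharacter G) :
    IrrCharacter G :=
  ⟨fun g => (χ : G → ℂ) (g ^ k), by
    classical
    letI := Fintype.ofFinite G
    exact isIrr_pow χ.2 hk⟩

@[simp] theorem powIrr_apply {k : ℕ} (hk : (Nat.card G).Coprime k) (χ : IrrCharacter G) (g : G) :
    (powIrr hk χ : G → ℂ) g = (χ : G → ℂ) (g ^ k) := rfl

theorem powIrr_injective {k : ℕ} (hk : (Nat.card G).Coprime k) :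
    Function.Injective (powIrr (G := G) hk) := by
  intro χ ψ h
  apply Subtype.ext
  funext g
  have h1 := congrFun (congrArg Subtype.val h) ((powCoprime hk).symm g)
  have h2 : ((powCoprime hk).symm g) ^ k = g := (powCoprime hk).apply_symm_apply g
  simp only [powIrr_apply, h2] at h1
  exact h1

theorem centralizer_pow {k : ℕ} (hk : (Nat.card G).Coprime k) (g : G) :
    Subgroup.centralizer ({g ^ k} : Set G) = Subgroup.centralizer ({g} : Set G) := by
  have hk' : k.Coprime (orderOf g) :=
    (Nat.Coprime.coprime_dvd_left (orderOf_dvd_natCard g) hk).symm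
  obtain ⟨m, hm⟩ := exists_pow_eq_self_of_coprime hk'
  ext x
  rw [Subgroup.mem_centralizer_singleton_iff, Subgroup.mem_centralizer_singleton_iff]
  constructor
  · intro h
    have hc : Commute x (g ^ k) := h
    have := hc.pow_right m
    rw [hm] at this
    exact this
  · intro h
    have hc : Commute x g := h
    exact hc.pow_right k

theorem centralChar_powIrr {k : ℕ} (hk : (Nat.card G).Coprime k) (χ : IrrCharacter G) (g : G) :
    centralChar (powIrr hk χ : G → ℂ) g = centralChar (χ : G → ℂ) (g ^ k) := by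
  simp only [centralChar, powIrr_apply, one_pow, centralizer_pow hk g]

theorem centralChar_one_pow {k : ℕ} (hk : (Nat.card G).Coprime k) (g : G) :
    centralChar (fun _ : G => (1 : ℂ)) g = centralChar (fun _ : G => (1 : ℂ)) (g ^ k) := by
  simp only [centralChar, centralizer_pow hk g]

/-- Conjugation preserves the same-block relation. -/
theorem sameBlock_powIrr {M : Ideal AlgInt} {k : ℕ} (hk : (Nat.card G).Coprime k)
    {χ ψ : IrrCharacter G} (h : SameBlock M (χ : G → ℂ) (ψ : G → ℂ)) :
    SameBlock M (powIrr hk χ : G → ℂ) (powIrr hk ψ : G → ℂ) := by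
  intro g
  rw [centralChar_powIrr, centralChar_powIrr]
  exact h _

/-- The principal block is stable. -/
theorem powIrr_mem_principalBlock {M : Ideal AlgInt} {k : ℕ} (hk : (Nat.card G).Coprime k)
    {χ : IrrCharacter G} (h : χ ∈ principalBlock M G) : powIrr hk χ ∈ principalBlock M G := by
  intro g
  rw [centralChar_powIrr, centralChar_one_pow hk]
  exact h _

/-- A block containing a character fixed by conjugation is stable. -/
theorem powIrr_mem_of_stable {M : Ideal AlgInt} {k : ℕ} (hk : (Nat.card G).Coprime k)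
    {χ ψ : IrrCharacter G} (h : SameBlock M (χ : G → ℂ) (ψ : G → ℂ))
    (hχ : powIrr hk χ = χ) : SameBlock M (χ : G → ℂ) (powIrr hk ψ : G → ℂ) := by
  have := sameBlock_powIrr hk h
  rwa [hχ] at this

/-- A character value fixed under all Galois substitutions is a rational integer. -/
theorem exists_int_of_pow_eq {χ : G → ℂ} (hχ : IsCharacter G χ) (x : G)
    (hfix : ∀ k : ℕ, (Nat.card G).Coprime k → χ (x ^ k) = χ x) : ∃ z : ℤ, χ x = z := by
  classical
  have hne : NeZero (Nat.card G) := ⟨Nat.card_pos.ne'⟩
  obtain ⟨m, μ, h1, h2⟩ := Cfsg.Agent.Lib.CharGalois.exists_roots hχ x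
  have hx1 : χ x = ∑ i, μ i := by
    have := h2 1
    simpa using this
  have hq : ∃ q : ℚ, ∑ i, μ i = (q : ℂ) := by
    rw [Cfsg.Agent.Lib.CharRational.sum_roots_rat_iff (Nat.card G) μ h1]
    intro u
    rw [← h2, ← hx1]
    apply hfix
    have := ZMod.val_coe_unit_coprime u
    exact this.symm
  obtain ⟨q, hq⟩ := hq
  have hint : IsIntegral ℤ ((q : ℚ) : ℂ) := by
    rw [← hq, ← hx1]
    exact Cfsg.Agent.Lib.BlockVal.isIntegral_char hχ x
  have hint' : IsIntegral ℤ q := by
    rw [← isIntegral_algebraMap_iff (B := ℂ) (algebraMap ℚ ℂ).injective]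
    exact hint
  obtain ⟨z, hz⟩ := IsIntegrallyClosed.isIntegral_iff.mp hint'
  refine ⟨z, ?_⟩
  rw [hx1, hq, ← hz]
  simp

end Cfsg.Agent.Lib.BlockGal
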