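import Mathlib
import Cfsg.Agent.Lib.GalAmgm

/-!
# Galois averaging for reduced binary Hermitian forms

If `w₁ i, w₂ i` are cyclotomic integers, not both zero, and `α, β, γ` is a reduced form, and the sum of
the values of the form at `(w₁ i, w₂ i)` is a rational number `N`, then the number of indices is at
most `N / α`.
-/

set_option autoImplicit false

namespace Cfsg.Agent.Lib.GalForm

open Cfsg.Agent.Lib.GalAmgm
open scoped ComplexConjugate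

/-- The pointwise bound for a reduced form. -/
theorem form_lower (a b : ℂ) (α β γ : ℝ) (hα : 0 < α) (hβ : 2 * |β| ≤ α) (hγ : α ≤ γ) :
    α / 2 * (‖a‖ ^ 2 + ‖b‖ ^ 2) ≤
      α * ‖a‖ ^ 2 + β * (2 * (a * conj b).re) + γ * ‖b‖ ^ 2 := by
  have h1 : |(a * conj b).re| ≤ ‖a‖ * ‖b‖ := by
    have := Complex.abs_re_le_norm (a * conj b)
    rwa [norm_mul, Complex.norm_conj] at this
  have h2 : |β * (2 * (a * conj b).re)| ≤ α * (‖a‖ * ‖b‖) := by
    rw [abs_mul, abs_mul, abs_two]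
    have h3 : 0 ≤ ‖a‖ * ‖b‖ := by positivity
    have h4 : 0 ≤ |(a * conj b).re| := abs_nonneg _
    nlinarith [abs_nonneg β]
  have h3 := neg_abs_le (β * (2 * (a * conj b).re))
  have h4 : α * (‖a‖ * ‖b‖) ≤ α / 2 * (‖a‖ ^ 2 + ‖b‖ ^ 2) := by
    have : 0 ≤ (‖a‖ - ‖b‖) ^ 2 := sq_nonneg _
    nlinarith
  have h5 : α * ‖b‖ ^ 2 ≤ γ * ‖b‖ ^ 2 := by
    have : 0 ≤ ‖b‖ ^ 2 := by positivity
    nlinarith
  linarith

/-- The value of an embedding on the form. -/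
theorem emb_form (n : ℕ) [NeZero n] (φ : cycF n →ₐ[ℚ] ℂ) (x y : cycF n) :
    φ (x * conjF n y) + φ (y * conjF n x) = ((2 * (φ x * conj (φ y)).re : ℝ) : ℂ) := by
  rw [map_mul, map_mul, emb_conjF, emb_conjF]
  have h : φ y * conj (φ x) = conj (φ x * conj (φ y)) := by
    rw [map_mul, Complex.conj_conj, mul_comm]
  rw [h, Complex.add_conj]

/-- **Galois averaging for a reduced form.** -/
theorem card_mul_le_of_form (n : ℕ) [NeZero n] {ι : Type*} (s : Finset ι) (w₁ w₂ : ι → ℂ)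
    (h₁ : ∀ i, w₁ i ∈ cycF n) (h₂ : ∀ i, w₂ i ∈ cycF n)
    (hi₁ : ∀ i, IsIntegral ℤ (w₁ i)) (hi₂ : ∀ i, IsIntegral ℤ (w₂ i))
    (hne : ∀ i ∈ s, w₁ i ≠ 0 ∨ w₂ i ≠ 0) (α β γ : ℤ) (hα : 0 < α) (hβ : 2 * |β| ≤ α)
    (hγ : α ≤ γ ∨ ∀ i, w₂ i = 0) (N : ℚ)
    (hN : ∑ i ∈ s, ((α : ℂ) * (w₁ i * conj (w₁ i)) + (β : ℂ) * (w₁ i * conj (w₂ i) + w₂ i * conj (w₁ i)) +
      (γ : ℂ) * (w₂ i * conj (w₂ i))) = (N : ℂ)) :
    (s.card : ℝ) * α ≤ N := by
  classical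
  -- the lifts
  let W₁ : ι → cycF n := fun i => ⟨w₁ i, h₁ i⟩
  let W₂ : ι → cycF n := fun i => ⟨w₂ i, h₂ i⟩
  have hW₁ : ∀ i, ((W₁ i : cycF n) : ℂ) = w₁ i := fun i => rfl
  have hW₂ : ∀ i, ((W₂ i : cycF n) : ℂ) = w₂ i := fun i => rfl
  set P : (cycF n →ₐ[ℚ] ℂ) → ι → ℝ := fun φ i =>
    (α : ℝ) * ‖φ (W₁ i)‖ ^ 2 + (β : ℝ) * (2 * (φ (W₁ i) * conj (φ (W₂ i))).re) +
      (γ : ℝ) * ‖φ (W₂ i)‖ ^ 2 with hP
  have hsum : ∑ i ∈ s, ((α : cycF n) * (W₁ i * conjF n (W₁ i)) +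
      (β : cycF n) * (W₁ i * conjF n (W₂ i) + W₂ i * conjF n (W₁ i)) +
      (γ : cycF n) * (W₂ i * conjF n (W₂ i))) = algebraMap ℚ (cycF n) N := by
    apply Subtype.ext
    rw [show ((algebraMap ℚ (cycF n) N : cycF n) : ℂ) = (N : ℂ) from by simp, ← hN]
    push_cast
    refine Finset.sum_congr rfl fun i _ => ?_
    simp only [coe_conjF, hW₁, hW₂]
  have hφ : ∀ φ : cycF n →ₐ[ℚ] ℂ, ∑ i ∈ s, P φ i = (N : ℝ) := by
    intro φ
    have h1 := congrArg φ hsum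
    rw [map_sum, AlgHom.commutes] at h1
    have h2 : ∀ i ∈ s, φ ((α : cycF n) * (W₁ i * conjF n (W₁ i)) +
      (β : cycF n) * (W₁ i * conjF n (W₂ i) + W₂ i * conjF n (W₁ i)) +
      (γ : cycF n) * (W₂ i * conjF n (W₂ i))) = ((P φ i : ℝ) : ℂ) := by
      intro i _
      simp only [map_add, map_mul, map_intCast]
      have h3 := emb_form n φ (W₁ i) (W₂ i)
      simp only [map_mul] at h3
      rw [h3, emb_conjF, emb_conjF, Complex.mul_conj, Complex.mul_conj, Complex.normSq_eq_norm_sq,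
        Complex.normSq_eq_norm_sq]
      simp only [hP]
      push_cast
      ring
    rw [Finset.sum_congr rfl h2] at h1
    have h3 : ((∑ i ∈ s, P φ i : ℝ) : ℂ) = ((N : ℝ) : ℂ) := by
      push_cast at h1 ⊢
      rw [h1]
      simp
    exact Complex.ofReal_injective h3
  set C : ℝ := (Fintype.card (cycF n →ₐ[ℚ] ℂ) : ℝ) with hC
  have hcard : (0 : ℝ) < C := by
    have : Nonempty (cycF n →ₐ[ℚ] ℂ) := ⟨(cycF n).val⟩
    rw [hC]
    exact_mod_cast Fintype.card_pos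
  have hαR : (0 : ℝ) < α := by exact_mod_cast hα
  have hβR : 2 * |(β : ℝ)| ≤ α := by exact_mod_cast hβ
  have hint₁ : ∀ i, IsIntegral ℤ ((W₁ i : cycF n) : ℂ) := fun i => hi₁ i
  have hint₂ : ∀ i, IsIntegral ℤ ((W₂ i : cycF n) : ℂ) := fun i => hi₂ i
  have hne₁ : ∀ i, w₁ i ≠ 0 → W₁ i ≠ 0 := fun i h h0 => h (by rw [← hW₁, h0]; simp)
  have hne₂ : ∀ i, w₂ i ≠ 0 → W₂ i ≠ 0 := fun i h h0 => h (by rw [← hW₂, h0]; simp)
  have h4 : ∀ i ∈ s, C * α ≤ ∑ φ : cycF n →ₐ[ℚ] ℂ, P φ i := by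
    intro i hi
    by_cases hz₂ : w₂ i = 0
    · -- the second coordinate vanishes
      have hz₁ : w₁ i ≠ 0 := (hne i hi).resolve_right (not_not.mpr hz₂)
      have h5 := card_le_sum_norm_sq n (W₁ i) (hint₁ i) (hne₁ i hz₁)
      have h6 : W₂ i = 0 := by
        apply Subtype.ext
        rw [hW₂, hz₂]
        rfl
      have h7 : ∀ φ : cycF n →ₐ[ℚ] ℂ, P φ i = (α : ℝ) * ‖φ (W₁ i)‖ ^ 2 := by
        intro φ
        simp only [hP, h6, map_zero]
        simp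
      simp_rw [h7]
      rw [← Finset.mul_sum]
      nlinarith
    · have hγ' : α ≤ γ := by
        rcases hγ with h | h
        · exact h
        · exact absurd (h i) hz₂
      have hγR : (α : ℝ) ≤ γ := by exact_mod_cast hγ'
      by_cases hz₁ : w₁ i = 0
      · have h5 := card_le_sum_norm_sq n (W₂ i) (hint₂ i) (hne₂ i hz₂)
        have h6 : W₁ i = 0 := by
          apply Subtype.ext
          rw [hW₁, hz₁]
          rfl
        have h7 : ∀ φ : cycF n →ₐ[ℚ] ℂ, P φ i = (γ : ℝ) * ‖φ (W₂ i)‖ ^ 2 := by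
          intro φ
          simp only [hP, h6, map_zero]
          simp
        simp_rw [h7]
        rw [← Finset.mul_sum]
        nlinarith
      · have h5 := card_le_sum_norm_sq n (W₁ i) (hint₁ i) (hne₁ i hz₁)
        have h6 := card_le_sum_norm_sq n (W₂ i) (hint₂ i) (hne₂ i hz₂)
        have h7 : ∀ φ ∈ (Finset.univ : Finset (cycF n →ₐ[ℚ] ℂ)),
            (α : ℝ) / 2 * (‖φ (W₁ i)‖ ^ 2 + ‖φ (W₂ i)‖ ^ 2) ≤ P φ i := fun φ _ =>
          form_lower _ _ _ _ _ hαR hβR hγR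
        have h8 := Finset.sum_le_sum h7
        rw [← Finset.mul_sum, Finset.sum_add_distrib] at h8
        nlinarith
  have h5 := Finset.sum_le_sum h4
  rw [Finset.sum_const, nsmul_eq_mul, Finset.sum_comm] at h5
  simp_rw [hφ] at h5
  rw [Finset.sum_const, Finset.card_univ, nsmul_eq_mul] at h5
  have h6 : C * ((s.card : ℝ) * α) ≤ C * N := by
    calc C * ((s.card : ℝ) * α) = (s.card : ℝ) * (C * α) := by ring
      _ ≤ _ := h5
  exact le_of_mul_le_mul_left h6 hcard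

end Cfsg.Agent.Lib.GalForm
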