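import Mathlib

/-!
# Lagrange reduction of binary forms

For a lattice of functions with an integral Hermitian form, whose complex span has dimension at most
two, we find a reduced pair of generators.
-/

set_option autoImplicit false

namespace Cfsg.Agent.Lib.LagrangeRed

open scoped ComplexConjugate

section Abstract

variable {V : Type*} [AddCommGroup V] (B : V → V → ℤ)

/-- The descent of Lagrange. -/
theorem exists_reduced_of_gen (hadd : ∀ x y z, B (x + y) z = B x z + B y z)
    (hsym : ∀ x y, B x y = B y x) (hpos : ∀ x, 0 ≤ B x x) (hdef : ∀ x, B x x = 0 → x = 0)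
    (e₁ e₂ : V) (hgen : ∀ f : V, ∃ m n : ℤ, f = m • e₁ + n • e₂) (hne : ∃ f : V, f ≠ 0) :
    ∃ φ₁ φ₂ : V, (∀ f : V, ∃ m n : ℤ, f = m • φ₁ + n • φ₂) ∧ 0 < B φ₁ φ₁ ∧
      2 * |B φ₁ φ₂| ≤ B φ₁ φ₁ ∧ (B φ₁ φ₁ ≤ B φ₂ φ₂ ∨ φ₂ = 0) := by
  have hadd' : ∀ x y z, B z (x + y) = B z x + B z y := fun x y z => by
    rw [hsym, hadd, hsym x, hsym y]
  have hz : ∀ z, B 0 z = 0 := by
    intro z
    have := hadd 0 0 z
    rw [add_zero] at this
    omega
  have hz' : ∀ z, B z 0 = 0 := fun z => by rw [hsym, hz]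
  have hpos' : ∀ x, x ≠ 0 → 0 < B x x := fun x hx =>
    lt_of_le_of_ne (hpos x) (fun h => hx (hdef x h.symm))
  have hn : ∀ x z, B (-x) z = - B x z := by
    intro x z
    have := hadd x (-x) z
    rw [add_neg_cancel, hz] at this
    omega
  have hn' : ∀ x z, B z (-x) = - B z x := fun x z => by rw [hsym, hn, hsym]
  have hsub : ∀ x y, B (x - y) (x - y) = B x x - 2 * B x y + B y y := by
    intro x y
    rw [sub_eq_add_neg, hadd, hadd', hadd', hn, hn, hn', hn', hsym y x]
    ring
  have hadd2 : ∀ x y, B (x + y) (x + y) = B x x + 2 * B x y + B y y := by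
    intro x y
    rw [hadd, hadd', hadd', hsym y x]
    ring
  -- the induction
  induction' hN : (B e₁ e₁ + B e₂ e₂).toNat using Nat.strong_induction_on with N ih generalizing e₁ e₂
  -- a reduction step, for a pair with the first norm at most the second
  have key : ∀ a c : V, (∀ f : V, ∃ m n : ℤ, f = m • a + n • c) → a ≠ 0 → B a a ≤ B c c →
      (B a a + B c c).toNat = N →
      ∃ φ₁ φ₂ : V, (∀ f : V, ∃ m n : ℤ, f = m • φ₁ + n • φ₂) ∧ 0 < B φ₁ φ₁ ∧
        2 * |B φ₁ φ₂| ≤ B φ₁ φ₁ ∧ (B φ₁ φ₁ ≤ B φ₂ φ₂ ∨ φ₂ = 0) := by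
    intro a c hac ha hle hNN
    have hα := hpos' a ha
    by_cases h1 : 2 * |B a c| ≤ B a a
    · exact ⟨a, c, hac, hα, h1, Or.inl hle⟩
    · rw [not_le] at h1
      rcases lt_abs.mp (show B a a / 2 < |B a c| by omega) with h2 | h2
      · -- replace `c` by `c - a`
        have h3 : B a a < 2 * B a c := by omega
        have h4 := hsub c a
        rw [hsym c a] at h4
        refine ih (B a a + B (c - a) (c - a)).toNat ?_ a (c - a) ?_ rfl
        · have := hpos (c - a)
          omega
        · intro f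
          obtain ⟨m, n, hf⟩ := hac f
          refine ⟨m + n, n, ?_⟩
          rw [hf, smul_sub, add_smul]
          abel
      · -- replace `c` by `c + a`
        have h3 : B a a < - (2 * B a c) := by omega
        have h4 := hadd2 c a
        rw [hsym c a] at h4
        refine ih (B a a + B (c + a) (c + a)).toNat ?_ a (c + a) ?_ rfl
        · have := hpos (c + a)
          omega
        · intro f
          obtain ⟨m, n, hf⟩ := hac f
          refine ⟨m - n, n, ?_⟩
          rw [hf, smul_add, sub_smul]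
          abel
  by_cases h1 : e₁ = 0
  · -- the first generator vanishes
    subst h1
    have h2 : e₂ ≠ 0 := by
      rintro rfl
      obtain ⟨f, hf⟩ := hne
      obtain ⟨m, n, h⟩ := hgen f
      apply hf
      rw [h]
      simp
    refine ⟨e₂, 0, ?_, hpos' _ h2, ?_, Or.inr rfl⟩
    · intro f
      obtain ⟨m, n, h⟩ := hgen f
      exact ⟨n, 0, by rw [h]; simp⟩
    · rw [hz']
      simpa using hpos e₂
  · by_cases h2 : e₂ = 0
    · subst h2
      refine ⟨e₁, 0, ?_, hpos' _ h1, ?_, Or.inr rfl⟩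
      · intro f
        obtain ⟨m, n, h⟩ := hgen f
        exact ⟨m, 0, by rw [h]; simp⟩
      · rw [hz']
        simpa using hpos e₁
    · rcases le_total (B e₁ e₁) (B e₂ e₂) with h3 | h3
      · exact key e₁ e₂ hgen h1 h3 hN
      · refine key e₂ e₁ ?_ h2 h3 (by rw [add_comm]; exact hN)
        intro f
        obtain ⟨m, n, h⟩ := hgen f
        exact ⟨n, m, by rw [h]; abel⟩

end Abstract

section Concrete

variable {ι X : Type*} [Fintype ι] [Fintype X]

/-- The form. -/
noncomputable def Bc (c : ℝ) (f g : X → ℂ) : ℂ := (c : ℂ) * ∑ s, f s * conj (g s)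

theorem Bc_add_left (c : ℝ) (f f' g : X → ℂ) : Bc c (f + f') g = Bc c f g + Bc c f' g := by
  unfold Bc
  rw [← mul_add, ← Finset.sum_add_distrib]
  congr 1
  refine Finset.sum_congr rfl fun s _ => ?_
  simp only [Pi.add_apply]
  ring

theorem Bc_add_right (c : ℝ) (f g g' : X → ℂ) : Bc c f (g + g') = Bc c f g + Bc c f g' := by
  unfold Bc
  rw [← mul_add, ← Finset.sum_add_distrib]
  congr 1
  refine Finset.sum_congr rfl fun s _ => ?_
  simp only [Pi.add_apply, map_add]
  ring

theorem Bc_smul_left (c : ℝ) (z : ℂ) (f g : X → ℂ) : Bc c (z • f) g = z * Bc c f g := by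
  unfold Bc
  have h : ∑ s, (z • f) s * conj (g s) = z * ∑ s, f s * conj (g s) := by
    rw [Finset.mul_sum]
    refine Finset.sum_congr rfl fun s _ => ?_
    simp only [Pi.smul_apply, smul_eq_mul]
    ring
  rw [h]
  ring

theorem Bc_zsmul_left (c : ℝ) (z : ℤ) (f g : X → ℂ) : Bc c (z • f) g = (z : ℂ) * Bc c f g := by
  rw [← Bc_smul_left]
  congr 1
  funext s
  simp

theorem Bc_zsmul_right (c : ℝ) (z : ℤ) (f g : X → ℂ) : Bc c f (z • g) = (z : ℂ) * Bc c f g := by
  unfold Bc
  have h : ∑ s, f s * conj ((z • g) s) = (z : ℂ) * ∑ s, f s * conj (g s) := by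
    rw [Finset.mul_sum]
    refine Finset.sum_congr rfl fun s _ => ?_
    simp only [Pi.smul_apply, zsmul_eq_mul, map_mul, map_intCast]
    ring
  rw [h]
  ring

theorem Bc_self (c : ℝ) (f : X → ℂ) : Bc c f f = ((c * ∑ s, ‖f s‖ ^ 2 : ℝ) : ℂ) := by
  unfold Bc
  push_cast
  congr 1
  refine Finset.sum_congr rfl fun s _ => ?_
  rw [Complex.mul_conj, Complex.normSq_eq_norm_sq]
  push_cast
  rfl

theorem Bc_conj (c : ℝ) (f g : X → ℂ) : conj (Bc c f g) = Bc c g f := by
  unfold Bc
  rw [map_mul, Complex.conj_ofReal, map_sum]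
  congr 1
  refine Finset.sum_congr rfl fun s _ => ?_
  rw [map_mul, Complex.conj_conj, mul_comm]

/-- A `ℤ`-linearly independent family with integral positive definite Gram matrix is `ℂ`-independent:
the number of elements of a `ℤ`-basis is bounded by the complex rank. -/
theorem finrank_le (c : ℝ) (hc : 0 < c) (V : Submodule ℤ (X → ℂ))
    (hint : ∀ f ∈ V, ∀ g ∈ V, ∃ n : ℤ, Bc c f g = n) (W : Submodule ℂ (X → ℂ))
    (hW : ∀ f ∈ V, f ∈ W) {r : ℕ} (b : Module.Basis (Fin r) ℤ V) :
    r ≤ Module.finrank ℂ W := by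
  classical
  have hne : (c : ℂ) ≠ 0 := by exact_mod_cast hc.ne'
  choose! G hG using hint
  set Gm : Matrix (Fin r) (Fin r) ℤ := Matrix.of fun i j => G (b i : X → ℂ) (b j : X → ℂ) with hGm
  have hGmC : ∀ i j, ((Gm i j : ℤ) : ℂ) = Bc c (b i : X → ℂ) (b j : X → ℂ) := by
    intro i j
    exact (hG _ (b i).2 _ (b j).2).symm
  have hdet : Gm.det ≠ 0 := by
    intro h0
    obtain ⟨v, hv, hv0⟩ := Matrix.exists_mulVec_eq_zero_iff.mpr h0
    apply hv
    set f : X → ℂ := ∑ j, v j • (b j : X → ℂ) with hf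
    have h1 : ∀ i, Bc c (b i : X → ℂ) f = 0 := by
      intro i
      have h2 := congrFun hv0 i
      simp only [Matrix.mulVec, dotProduct, Pi.zero_apply] at h2
      have h3 : ∑ j, (Gm i j * v j : ℤ) = 0 := h2
      have h4 : Bc c (b i : X → ℂ) f = ((∑ j, Gm i j * v j : ℤ) : ℂ) := by
        simp only [hf]
        have h5 : ∀ (s : Finset (Fin r)), Bc c (b i : X → ℂ) (∑ j ∈ s, v j • (b j : X → ℂ)) =
            ((∑ j ∈ s, Gm i j * v j : ℤ) : ℂ) := by
          intro s
          induction s using Finset.induction_on with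
          | empty =>
            simp [Bc]
          | insert a s ha ih =>
            rw [Finset.sum_insert ha, Bc_add_right, ih, Bc_zsmul_right, Finset.sum_insert ha,
              ← hGmC]
            push_cast
            ring
        exact h5 _
      rw [h4, h3]
      simp
    have h2 : Bc c f f = 0 := by
      have h5 : ∀ (s : Finset (Fin r)), Bc c (∑ j ∈ s, v j • (b j : X → ℂ)) f = 0 := by
        intro s
        induction s using Finset.induction_on with
        | empty =>
          simp [Bc]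
        | insert a s ha ih =>
          rw [Finset.sum_insert ha, Bc_add_left, ih, Bc_zsmul_left, h1, mul_zero, add_zero]
      exact h5 _
    have h3 : f = 0 := by
      rw [Bc_self] at h2
      have h4 : c * ∑ s, ‖f s‖ ^ 2 = 0 := by exact_mod_cast h2
      have h5 : ∑ s, ‖f s‖ ^ 2 = 0 := (mul_eq_zero.mp h4).resolve_left hc.ne'
      rw [Finset.sum_eq_zero_iff_of_nonneg (fun s _ => by positivity)] at h5
      funext s
      have := h5 s (Finset.mem_univ s)
      simpa using this
    have h4 : ∑ j, v j • b j = 0 := by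
      apply Subtype.ext
      simp only [Submodule.coe_sum, Submodule.coe_smul, Submodule.coe_zero]
      exact h3
    exact Fintype.linearIndependent_iff.mp b.linearIndependent v h4 |> funext
  have hdetC : (Gm.map (Int.castRingHom ℂ)).det ≠ 0 := by
    have h1 : (Gm.map (Int.castRingHom ℂ)).det = Int.castRingHom ℂ Gm.det := by
      rw [RingHom.map_det]
      rfl
    rw [h1]
    simpa using hdet
  have hli : LinearIndependent ℂ (fun i : Fin r => (⟨(b i : X → ℂ), hW _ (b i).2⟩ : W)) := by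
    rw [Fintype.linearIndependent_iff]
    intro z hz i
    have h1 : ∑ j, z j • (b j : X → ℂ) = 0 := by
      have := congrArg (Subtype.val) hz
      simpa using this
    have h2 : Matrix.vecMul z (Gm.map (Int.castRingHom ℂ)) = 0 := by
      funext k
      simp only [Matrix.vecMul, dotProduct, Pi.zero_apply, Matrix.map_apply]
      have h3 : Bc c (∑ j, z j • (b j : X → ℂ)) (b k : X → ℂ) = 0 := by
        rw [h1]
        simp [Bc]
      have h5 : ∀ (s : Finset (Fin r)), Bc c (∑ j ∈ s, z j • (b j : X → ℂ)) (b k : X → ℂ) =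
          ∑ j ∈ s, z j * Int.castRingHom ℂ (Gm j k) := by
        intro s
        induction s using Finset.induction_on with
        | empty =>
          simp [Bc]
        | insert a s ha ih =>
          rw [Finset.sum_insert ha, Bc_add_left, ih, Bc_smul_left, Finset.sum_insert ha]
          simp only [eq_intCast]
          rw [hGmC]
      rw [← h5, h3]
    exact congrFun (Matrix.eq_zero_of_vecMul_eq_zero hdetC h2) i
  have := LinearIndependent.fintype_card_le_finrank hli
  simpa using this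

/-- Two generators of a lattice of rank at most two. -/
theorem exists_two_gens {V : Type*} [AddCommGroup V] {r : ℕ} (hr : r ≤ 2)
    (b : Module.Basis (Fin r) ℤ V) : ∃ e₁ e₂ : V, ∀ f : V, ∃ m n : ℤ, f = m • e₁ + n • e₂ := by
  interval_cases r
  · refine ⟨0, 0, fun f => ⟨0, 0, ?_⟩⟩
    have := b.sum_repr f
    simpa using this.symm
  · refine ⟨b 0, 0, fun f => ⟨b.repr f 0, 0, ?_⟩⟩
    have := b.sum_repr f
    rw [Fin.sum_univ_one] at this
    simpa using this.symm
  · refine ⟨b 0, b 1, fun f => ⟨b.repr f 0, b.repr f 1, ?_⟩⟩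
    have := b.sum_repr f
    rw [Fin.sum_univ_two] at this
    exact this.symm

/-- **Lagrange reduction** of an integral positive semi-definite Gram matrix of rank at most two. -/
theorem exists_reduced (Q : ι → ι → ℤ) (u : ι → X → ℂ) (c : ℝ) (hc : 0 < c)
    (hQ : ∀ i j, (Q i j : ℂ) = Bc c (u i) (u j))
    (hrank : Module.finrank ℂ (Submodule.span ℂ (Set.range u)) ≤ 2)
    (hne : ∃ i, u i ≠ 0) :
    ∃ (α β γ : ℤ) (x y a : ι → ℤ),
      (∀ i j, Q i j = α * x i * x j + β * (x i * y j + y i * x j) + γ * y i * y j) ∧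
      ∑ i, ∑ j, a i * a j * Q i j = α ∧ 0 < α ∧ 2 * |β| ≤ α ∧ (α ≤ γ ∨ ∀ i, y i = 0) := by
  classical
  set V : Submodule ℤ (X → ℂ) := Submodule.span ℤ (Set.range u) with hV
  have hmem : ∀ i, u i ∈ V := fun i => Submodule.subset_span ⟨i, rfl⟩
  -- integrality
  have hint : ∀ f ∈ V, ∀ g ∈ V, ∃ n : ℤ, Bc c f g = n := by
    intro f hf g hg
    induction hf using Submodule.span_induction with
    | mem f hf =>
      obtain ⟨i, rfl⟩ := hf
      induction hg using Submodule.span_induction with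
      | mem g hg =>
        obtain ⟨j, rfl⟩ := hg
        exact ⟨Q i j, (hQ i j).symm⟩
      | zero => exact ⟨0, by simp [Bc]⟩
      | add x y _ _ hx hy =>
        obtain ⟨n, hn⟩ := hx
        obtain ⟨m, hm⟩ := hy
        exact ⟨n + m, by rw [Bc_add_right, hn, hm]; push_cast; rfl⟩
      | smul z x _ hx =>
        obtain ⟨n, hn⟩ := hx
        exact ⟨z * n, by rw [Bc_zsmul_right, hn]; push_cast; rfl⟩
    | zero => exact ⟨0, by simp [Bc]⟩
    | add x y _ _ hx hy =>
      obtain ⟨n, hn⟩ := hx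
      obtain ⟨m, hm⟩ := hy
      exact ⟨n + m, by rw [Bc_add_left, hn, hm]; push_cast; rfl⟩
    | smul z x _ hx =>
      obtain ⟨n, hn⟩ := hx
      exact ⟨z * n, by rw [Bc_zsmul_left, hn]; push_cast; rfl⟩
  -- the form on `V`
  choose B hB using fun f : V => fun g : V => hint f f.2 g g.2
  have hcast : ∀ {a b : ℤ}, (a : ℂ) = b → a = b := fun h => by exact_mod_cast h
  have hadd : ∀ x y z : V, B (x + y) z = B x z + B y z := by
    intro x y z
    apply hcast
    rw [← hB]
    push_cast
    rw [Bc_add_left, hB, hB]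
  have hsym : ∀ x y : V, B x y = B y x := by
    intro x y
    apply hcast
    have h1 : conj ((B x y : ℤ) : ℂ) = (B y x : ℂ) := by
      rw [← hB, ← hB, Bc_conj]
    rw [← h1, map_intCast]
  have hselfR : ∀ x : V, ((B x x : ℤ) : ℝ) = c * ∑ s, ‖(x : X → ℂ) s‖ ^ 2 := by
    intro x
    have h1 := hB x x
    rw [Bc_self] at h1
    exact_mod_cast h1.symm
  have hpos : ∀ x : V, 0 ≤ B x x := by
    intro x
    have h1 := hselfR x
    have h2 : (0 : ℝ) ≤ (B x x : ℝ) := by
      rw [h1]
      positivity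
    exact_mod_cast h2
  have hdef : ∀ x : V, B x x = 0 → x = 0 := by
    intro x h0
    have h1 := hselfR x
    rw [h0] at h1
    have h2 : c * ∑ s, ‖(x : X → ℂ) s‖ ^ 2 = 0 := by
      rw [← h1]
      simp
    have h5 : ∑ s, ‖(x : X → ℂ) s‖ ^ 2 = 0 := (mul_eq_zero.mp h2).resolve_left hc.ne'
    rw [Finset.sum_eq_zero_iff_of_nonneg (fun s _ => by positivity)] at h5
    apply Subtype.ext
    funext s
    have := h5 s (Finset.mem_univ s)
    simpa using this
  -- the basis
  have : Module.Finite ℤ V := Module.Finite.span_of_finite ℤ (Set.finite_range u)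
  have : Module.IsTorsionFree ℤ V := inferInstance
  have hbas := Module.finBasis ℤ V
  have hr : Module.finrank ℤ V ≤ 2 := by
    refine le_trans (finrank_le c hc V hint (Submodule.span ℂ (Set.range u)) ?_ hbas) hrank
    intro f hf
    induction hf using Submodule.span_induction with
    | mem f hf => exact Submodule.subset_span hf
    | zero => exact Submodule.zero_mem _
    | add x y _ _ hx hy => exact Submodule.add_mem _ hx hy
    | smul z x _ hx =>
      rw [← Int.cast_smul_eq_zsmul ℂ z x]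
      exact Submodule.smul_mem _ _ hx
  obtain ⟨e₁, e₂, hgen⟩ := exists_two_gens hr hbas
  obtain ⟨i₀, hi₀⟩ := hne
  have hne' : ∃ f : V, f ≠ 0 := ⟨⟨u i₀, hmem i₀⟩, fun h => hi₀ (congrArg Subtype.val h)⟩
  obtain ⟨φ₁, φ₂, hφ, hα, hβ, hγ⟩ := exists_reduced_of_gen B hadd hsym hpos hdef e₁ e₂ hgen hne'
  -- coordinates
  have hco : ∃ x y : ι → ℤ, (∀ i, (⟨u i, hmem i⟩ : V) = x i • φ₁ + y i • φ₂) ∧
      (B φ₁ φ₁ ≤ B φ₂ φ₂ ∨ ∀ i, y i = 0) := by
    choose x y hxy using fun i => hφ ⟨u i, hmem i⟩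
    rcases hγ with h | h
    · exact ⟨x, y, hxy, Or.inl h⟩
    · refine ⟨x, 0, fun i => ?_, Or.inr fun i => rfl⟩
      rw [hxy i, h]
      simp
  obtain ⟨x, y, hxy, hγ'⟩ := hco
  have hu : ∀ i, u i = x i • (φ₁ : X → ℂ) + y i • (φ₂ : X → ℂ) := by
    intro i
    have := congrArg Subtype.val (hxy i)
    simpa using this
  -- `a`
  obtain ⟨a, ha⟩ := (Submodule.mem_span_range_iff_exists_fun ℤ).mp φ₁.2
  have hB11 : Bc c (φ₁ : X → ℂ) φ₁ = (B φ₁ φ₁ : ℂ) := hB _ _
  have hB12 : Bc c (φ₁ : X → ℂ) φ₂ = (B φ₁ φ₂ : ℂ) := hB _ _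
  have hB21 : Bc c (φ₂ : X → ℂ) φ₁ = (B φ₁ φ₂ : ℂ) := by rw [hsym φ₁ φ₂]; exact hB _ _
  have hB22 : Bc c (φ₂ : X → ℂ) φ₂ = (B φ₂ φ₂ : ℂ) := hB _ _
  refine ⟨B φ₁ φ₁, B φ₁ φ₂, B φ₂ φ₂, x, y, a, ?_, ?_, hα, hβ, hγ'⟩
  · intro i j
    apply hcast
    rw [hQ, hu i, hu j, Bc_add_left, Bc_add_right, Bc_add_right]
    simp only [Bc_zsmul_left, Bc_zsmul_right, hB11, hB12, hB21, hB22]
    push_cast
    ring
  · apply hcast
    rw [← hB11, ← ha]
    push_cast
    have h5 : ∀ (f : X → ℂ) (s : Finset ι), Bc c (∑ i ∈ s, a i • u i) f =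
        ∑ i ∈ s, (a i : ℂ) * Bc c (u i) f := by
      intro f s
      induction s using Finset.induction_on with
      | empty => simp [Bc]
      | insert a' s ha' ih =>
        rw [Finset.sum_insert ha', Bc_add_left, ih, Bc_zsmul_left, Finset.sum_insert ha']
    have h6 : ∀ (f : X → ℂ) (s : Finset ι), Bc c f (∑ i ∈ s, a i • u i) =
        ∑ i ∈ s, (a i : ℂ) * Bc c f (u i) := by
      intro f s
      induction s using Finset.induction_on with
      | empty => simp [Bc]
      | insert a' s ha' ih =>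
        rw [Finset.sum_insert ha', Bc_add_right, ih, Bc_zsmul_right, Finset.sum_insert ha']
    rw [h5]
    refine Finset.sum_congr rfl fun i _ => ?_
    rw [h6, Finset.mul_sum]
    refine Finset.sum_congr rfl fun j _ => ?_
    rw [← hQ]
    ring

end Concrete

end Cfsg.Agent.Lib.LagrangeRed
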