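import Mathlib
import Cfsg.Agent.Lib.BlockMajor
import Cfsg.Agent.Lib.LagrangeRed
import Cfsg.Agent.Lib.GalForm

/-!
# Norm identities for a major subsection

For a `p`-element `y`, its centralizer `H` and a block `b` of `H` inducing the block `B` of `G`:
* `sum_RR_self`: `∑_{χ ∈ B} ‖χ_y⁰‖² p ^ d = l(b) p ^ d`;
* `sum_nn`: the norm of the coordinates with respect to a generalized character in `b`;
* `nn_ne_zero`: the coordinates with respect to an element of unit norm do not vanish.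
-/

set_option autoImplicit false
set_option linter.unusedSectionVars false
set_option linter.unusedVariables false
set_option linter.style.haveILetI false

namespace Cfsg.Agent.Lib.BlockMajorForm

open Cfsg Cfsg.Agent.Lib.CharBasic Cfsg.Agent.Lib.CharInd Cfsg.Agent.Lib.CharIntegrality
open Cfsg.Agent.Lib.BlockLocal Cfsg.Agent.Lib.BlockIdem Cfsg.Agent.Lib.BlockQ
open Cfsg.Agent.Lib.BlockOrtho Cfsg.Agent.Lib.BlockVal Cfsg.Agent.Lib.BlockMajor
open Cfsg.Agent.Lib.BlockSubsection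
open scoped ComplexConjugate

universe u

section Trace

variable {G : Type u} [Group G] [Fintype G] {M : Ideal AlgInt} [M.IsPrime]

/-- The trace from `H` to `G` of a central element with local coefficients. -/
theorem trace_mem_Zc (H : Subgroup G) [Fintype H] (μ : H → ℂ) (hμ : IsClassFunction H μ)
    (hR : ∀ h, MemLocalRing M (μ h)) :
    (fun χ : IrrCharacter G => (H.index : ℂ) * (∑ c : H, μ c * (χ : G → ℂ) c) / (χ : G → ℂ) 1) ∈
      Zc M := by
  classical
  letI : Fintype (ConjClasses H) := Fintype.ofFinite _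
  -- the multiplicities
  have hm : ∀ k : H, ∃ m : ℕ, (H.index : ℂ) * ((Subgroup.centralizer ({k} : Set H)).index : ℂ) =
      ((Subgroup.centralizer ({(k : G)} : Set G)).index : ℂ) * (m : ℂ) := by
    intro k
    set CH := Subgroup.centralizer ({k} : Set H) with hCH
    set CG := Subgroup.centralizer ({(k : G)} : Set G) with hCG
    have hle : CH.map H.subtype ≤ CG := by
      rintro _ ⟨v, hv, rfl⟩
      have hv' : v ∈ CH := hv
      rw [hCH, Subgroup.mem_centralizer_singleton_iff] at hv'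
      rw [hCG, Subgroup.mem_centralizer_singleton_iff]
      exact congrArg Subtype.val hv'
    have h1 : Nat.card CH ∣ Nat.card CG := by
      rw [← Subgroup.card_map_of_injective H.subtype_injective]
      exact Subgroup.card_dvd_of_le hle
    obtain ⟨m, hm⟩ := h1
    refine ⟨m, ?_⟩
    have h2 : H.index * CH.index * Nat.card CH = CG.index * m * Nat.card CH := by
      have h3 := Subgroup.card_mul_index H
      have h4 := Subgroup.card_mul_index CH
      have h5 := Subgroup.card_mul_index CG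
      rw [hm] at h5
      calc H.index * CH.index * Nat.card CH = H.index * (Nat.card CH * CH.index) := by ring
        _ = Nat.card G := by rw [h4, mul_comm, h3]
        _ = _ := by rw [← h5]; ring
    have h3 : H.index * CH.index = CG.index * m :=
      Nat.eq_of_mul_eq_mul_right Nat.card_pos h2
    exact_mod_cast h3
  choose m hm using hm
  have h1 : (fun χ : IrrCharacter G => (H.index : ℂ) * (∑ c : H, μ c * (χ : G → ℂ) c) / (χ : G → ℂ) 1) =
      ∑ K : ConjClasses H, ((μ (Quotient.out K) * (m (Quotient.out K) : ℂ)) •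
        fun χ : IrrCharacter G => centralChar (χ : G → ℂ) ((Quotient.out K : H) : G)) := by
    funext χ
    rw [Finset.sum_apply]
    have hF : IsClassFunction H (fun c => μ c * (χ : G → ℂ) c) := by
      intro g h
      simp only
      rw [hμ g h]
      have := isClassFunction_of_isCharacter (IsIrrCharacter.isCharacter χ.2) (g : G) (h : G)
      simp only [Subgroup.coe_mul, Subgroup.coe_inv]
      rw [this]
    rw [sum_eq_sum_conjClasses _ hF, Finset.mul_sum, Finset.sum_div]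
    refine Finset.sum_congr rfl fun K _ => ?_
    simp only [Pi.smul_apply, smul_eq_mul]
    unfold centralChar
    set k : H := Quotient.out K with hk
    have h2 := hm k
    calc (H.index : ℂ) * (((Subgroup.centralizer ({k} : Set H)).index : ℂ) *
          (μ k * (χ : G → ℂ) k)) / (χ : G → ℂ) 1
        = ((H.index : ℂ) * ((Subgroup.centralizer ({k} : Set H)).index : ℂ)) *
          (μ k * (χ : G → ℂ) k) / (χ : G → ℂ) 1 := by ring
      _ = _ := by rw [h2]; ring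
  rw [h1]
  refine sum_mem fun K _ => ?_
  exact smul_mem_Zc (memLocalRing_mul (hR _) (memLocalRing_natCast _)) (centralChar_mem_Zc _)

/-- The half of the rank one property. -/
theorem memLocalIdeal_sum_Q_of_T {p : ℕ} (hM : IsPModular p M) {b : Set (IrrCharacter G)} (hb : IsPBlock M b)
    {ξ₀ : IrrCharacter G} (hξ₀ : ξ₀ ∈ b)
    (v w : IrrCharacter G → ℂ) (hv : ∀ ξ, MemLocalRing M (v ξ)) (hw : ∀ ξ, MemLocalRing M (w ξ))
    (hTv : MemLocalIdeal M (∑ ξ ∈ bF b, v ξ * omega (ξ₀ : G → ℂ) (regInv p (ξ : G → ℂ)))) :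
    MemLocalIdeal M (∑ ξ ∈ bF b, ∑ ξ' ∈ bF b, v ξ * w ξ' * (Q p b ξ ξ' : ℂ)) := by
  classical
  set W : IrrCharacter G → IrrCharacter G → ℂ :=
    fun ξ ξ' => omega (ξ' : G → ℂ) (regInv p (ξ : G → ℂ)) with hWdef
  have hWc : ∀ ξ : IrrCharacter G, (fun ψ : IrrCharacter G => W ξ ψ) ∈ Zc M := fun ξ =>
    omega_regInv_mem_Zc (IsIrrCharacter.isCharacter ξ.2)
  have hWR : ∀ ξ ξ', MemLocalRing M (W ξ ξ') := fun ξ ξ' => memLocalRing_of_mem_Zc (hWc ξ) ξ'
  have hsame : ∀ {ψ : IrrCharacter G}, ψ ∈ b → SameBlock M (ψ : G → ℂ) (ξ₀ : G → ℂ) := by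
    intro ψ hψ
    have hb0 : b = blockOf M (ψ : G → ℂ) := by
      obtain ⟨ξ, rfl⟩ := hb
      exact (blockOf_eq_of_mem hψ).symm
    rw [hb0] at hξ₀
    exact hξ₀
  have hWsub : ∀ ξ {ψ : IrrCharacter G}, ψ ∈ b → MemLocalIdeal M (W ξ ψ - W ξ ξ₀) := fun ξ _ hψ =>
    memLocalIdeal_sub_of_mem_Zc (hWc ξ) (hsame hψ)
  set T : (IrrCharacter G → ℂ) → ℂ := fun u => ∑ ξ ∈ bF b, u ξ * W ξ ξ₀ with hT
  set D : (IrrCharacter G → ℂ) → ℂ := fun u => ∑ ξ ∈ bF b, u ξ * gg p b ξ with hD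
  have hDR : ∀ u : IrrCharacter G → ℂ, (∀ ξ, MemLocalRing M (u ξ)) → MemLocalRing M (D u) := fun u hu =>
    memLocalRing_sum _ _ fun ξ hξ => memLocalRing_mul (hu ξ) (memLocalRing_gg hM hb (mem_bF.mp hξ))
  have h1 : MemLocalIdeal M ((∑ ξ ∈ bF b, ∑ ξ' ∈ bF b, v ξ * w ξ' * (Q p b ξ ξ' : ℂ)) - T v * D w) := by
    have h2 : T v * D w = ∑ ξ ∈ bF b, ∑ ξ' ∈ bF b, v ξ * w ξ' * (gg p b ξ' * W ξ ξ₀) := by
      simp only [hT, hD]
      rw [Finset.sum_mul_sum]
      refine Finset.sum_congr rfl fun ξ _ => Finset.sum_congr rfl fun ξ' _ => ?_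
      ring
    rw [h2, ← Finset.sum_sub_distrib]
    refine memLocalIdeal_sum _ _ fun ξ _ => ?_
    rw [← Finset.sum_sub_distrib]
    refine memLocalIdeal_sum _ _ fun ξ' hξ' => ?_
    have hξ'b := mem_bF.mp hξ'
    rw [Q_eq_gg_mul hM hb ξ hξ'b, ← mul_sub, ← mul_sub]
    exact memLocalIdeal_mul_left (memLocalRing_mul (hv ξ) (hw ξ'))
      (memLocalIdeal_mul_left (memLocalRing_gg hM hb hξ'b) (hWsub ξ hξ'b))
  have h2 : MemLocalIdeal M (T v * D w) := memLocalIdeal_mul_right hTv (hDR w hw)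
  have h3 := memLocalIdeal_add h1 h2
  rwa [sub_add_cancel] at h3

end Trace

section Section

variable {G : Type u} [Group G] [Fintype G] {p : ℕ} [hpF : Fact p.Prime] {M : Ideal AlgInt}
variable {y : G} {H : Subgroup G} [Fintype H]

/-- The sum of the norms of the contributions. -/
theorem sum_RR_self (hM : IsPModular p M) (hy : ∃ k : ℕ, orderOf y = p ^ k)
    (hH : H = Subgroup.centralizer ({y} : Set G)) {b : Set (IrrCharacter H)}
    {B : Set (IrrCharacter G)} (hind : IsInducedBlock M H b B) :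
    ∑ χ ∈ bF B, RR p hH b χ χ = (blockRank p b : ℂ) * (p : ℂ) ^ blockDefect p b := by
  classical
  have hb := hind.1
  set reg := Finset.univ.filter (fun s : H => ¬ p ∣ orderOf s) with hreg
  have hcard : (Nat.card H : ℂ) ≠ 0 := by exact_mod_cast Nat.card_pos.ne'
  have h1 : ∀ χ, RR p hH b χ χ = (p : ℂ) ^ blockDefect p b *
      ((Nat.card H : ℂ)⁻¹ * ∑ s ∈ reg, th hH b χ s * conj (th hH b χ s)) := by
    intro χ
    unfold RR
    rw [classInner_pReg_eq_sum]
  simp_rw [h1]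
  rw [← Finset.mul_sum, ← Finset.mul_sum, Finset.sum_comm]
  have h2 : ∀ s ∈ reg, ∑ χ ∈ bF B, th hH b χ s * conj (th hH b χ s) =
      ∑ ξ ∈ bF b, (ξ : H → ℂ) s * conj ((ξ : H → ℂ) s) := fun s hs =>
    sum_B_th_mul_conj hM hy hH hind (Finset.mem_filter.mp hs).2 (Finset.mem_filter.mp hs).2
  rw [Finset.sum_congr rfl h2]
  have h5 : (Nat.card H : ℂ) * (blockRank p b : ℂ) =
      ∑ s ∈ reg, ∑ ξ ∈ bF b, (ξ : H → ℂ) s * conj ((ξ : H → ℂ) s) := by
    rw [card_mul_blockRank hM hb, Finset.sum_filter]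
    refine Finset.sum_congr rfl fun g _ => ?_
    rw [← finsum_mem_eq_sum_indB, finsum_mem_eq_sum_bF]
    by_cases hg : p ∣ orderOf g
    · simp [pRegularPart_of_sing _ hg, hg]
    · simp only [pRegularPart_of_reg _ hg, hg, not_false_eq_true, if_true]
  rw [← h5, inv_mul_cancel_left₀ hcard]
  ring

/-- The element of the lattice with coordinates `a`. -/
noncomputable def lam (b : Set (IrrCharacter H)) (a : IrrCharacter H → ℤ) : H → ℂ :=
  fun s => ∑ ξ' ∈ bF b, (a ξ' : ℂ) * (ξ' : H → ℂ) s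

/-- The coordinates of `χ` at `y` with respect to `lam b a`. -/
noncomputable def nn (hH : H = Subgroup.centralizer ({y} : Set G)) (p : ℕ) (b : Set (IrrCharacter H))
    (χ : IrrCharacter G) (a : IrrCharacter H → ℤ) : ℂ :=
  ∑ ξ ∈ bF b, ∑ ξ' ∈ bF b, vv hH χ ξ * (a ξ' : ℂ) * (Q p b ξ ξ' : ℂ)

theorem classInner_lam (α : H → ℂ) (b : Set (IrrCharacter H)) (a : IrrCharacter H → ℤ) :
    classInner α (lam b a) = ∑ ξ' ∈ bF b, (a ξ' : ℂ) * classInner α (ξ' : H → ℂ) := by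
  unfold classInner lam
  simp_rw [map_sum, map_mul, map_intCast, Finset.mul_sum]
  rw [Finset.sum_comm]
  refine Finset.sum_congr rfl fun ξ' _ => Finset.sum_congr rfl fun s _ => ?_
  ring

theorem nn_eq_classInner (hM : IsPModular p M) (hH : H = Subgroup.centralizer ({y} : Set G))
    {b : Set (IrrCharacter H)} (hb : IsPBlock M b) (χ : IrrCharacter G) (a : IrrCharacter H → ℤ) :
    nn hH p b χ a = (p : ℂ) ^ blockDefect p b *
      classInner (pRegularPart p (th hH b χ)) (lam b a) := by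
  rw [classInner_pReg_expand (p := p) (β := lam b a) (bF b) (vv hH χ) (fun ξ => (a ξ : ℂ))
    (th_eq hH b χ) (fun s => rfl), Finset.mul_sum]
  unfold nn
  refine Finset.sum_congr rfl fun ξ _ => ?_
  rw [Finset.mul_sum]
  refine Finset.sum_congr rfl fun ξ' hξ' => ?_
  rw [← Q_spec hM hb ξ (mem_bF.mp hξ'), map_intCast]
  ring

/-- The sum of the squares of the integers `∑ a ξ' Q ξ ξ'`. -/
theorem sum_ZZ (hM : IsPModular p M) {b : Set (IrrCharacter H)} (hb : IsPBlock M b)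
    (a : IrrCharacter H → ℤ) :
    ∑ ξ ∈ bF b, (∑ ξ' ∈ bF b, a ξ' * Q p b ξ ξ') * (∑ ξ' ∈ bF b, a ξ' * Q p b ξ ξ') =
      (p : ℤ) ^ blockDefect p b * ∑ ξ' ∈ bF b, ∑ ξ'' ∈ bF b, a ξ' * a ξ'' * Q p b ξ' ξ'' := by
  simp_rw [Finset.sum_mul_sum]
  rw [Finset.sum_comm, Finset.mul_sum]
  refine Finset.sum_congr rfl fun ξ' hξ' => ?_
  rw [Finset.sum_comm, Finset.mul_sum]
  refine Finset.sum_congr rfl fun ξ'' hξ'' => ?_
  have h1 := sum_Q_mul_Q hM hb (mem_bF.mp hξ') (mem_bF.mp hξ'')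
  calc ∑ ξ ∈ bF b, a ξ' * Q p b ξ ξ' * (a ξ'' * Q p b ξ ξ'')
      = a ξ' * a ξ'' * ∑ ξ ∈ bF b, Q p b ξ' ξ * Q p b ξ ξ'' := by
        rw [Finset.mul_sum]
        refine Finset.sum_congr rfl fun ξ hξ => ?_
        rw [Q_symm hM hb (mem_bF.mp hξ) (mem_bF.mp hξ')]
        ring
    _ = _ := by rw [h1]; ring

/-- The expansion of a norm in a kernel. -/
theorem sum_norm_expand {ι : Type*} (S : Finset ι) (f : ι → H → ℂ) (F : H → ℂ) (c₀ : ℂ)
    (reg : Finset H) :
    ∑ i ∈ S, (c₀ * ∑ s ∈ reg, f i s * conj (F s)) * conj (c₀ * ∑ s ∈ reg, f i s * conj (F s)) =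
      (c₀ * conj c₀) * ∑ s ∈ reg, ∑ s' ∈ reg,
        (∑ i ∈ S, f i s * conj (f i s')) * (conj (F s) * F s') := by
  have h1 : ∀ i, (c₀ * ∑ s ∈ reg, f i s * conj (F s)) * conj (c₀ * ∑ s ∈ reg, f i s * conj (F s)) =
      (c₀ * conj c₀) * ∑ s ∈ reg, ∑ s' ∈ reg, f i s * conj (f i s') * (conj (F s) * F s') := by
    intro i
    rw [map_mul, map_sum, mul_mul_mul_comm, Finset.sum_mul_sum]
    congr 1
    refine Finset.sum_congr rfl fun s _ => Finset.sum_congr rfl fun s' _ => ?_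
    rw [map_mul, Complex.conj_conj]
    ring
  simp_rw [h1]
  rw [← Finset.mul_sum]
  congr 1
  rw [Finset.sum_comm]
  refine Finset.sum_congr rfl fun s _ => ?_
  rw [Finset.sum_comm]
  refine Finset.sum_congr rfl fun s' _ => ?_
  rw [Finset.sum_mul]

/-- The key norm identity. -/
theorem sum_nn_mul_conj (hM : IsPModular p M) (hy : ∃ k : ℕ, orderOf y = p ^ k)
    (hH : H = Subgroup.centralizer ({y} : Set G)) {b : Set (IrrCharacter H)}
    {B : Set (IrrCharacter G)} (hind : IsInducedBlock M H b B) (a : IrrCharacter H → ℤ) :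
    ∑ χ ∈ bF B, nn hH p b χ a * conj (nn hH p b χ a) =
      (((p : ℤ) ^ blockDefect p b * ∑ ξ' ∈ bF b, ∑ ξ'' ∈ bF b, a ξ' * a ξ'' * Q p b ξ' ξ'' : ℤ) : ℂ) := by
  classical
  have hb := hind.1
  set reg := Finset.univ.filter (fun s : H => ¬ p ∣ orderOf s) with hreg
  set c₀ : ℂ := (p : ℂ) ^ blockDefect p b * (Nat.card H : ℂ)⁻¹ with hc₀
  set F := lam b a with hF
  have h1 : ∀ χ, nn hH p b χ a = c₀ * ∑ s ∈ reg, th hH b χ s * conj (F s) := by
    intro χ
    rw [nn_eq_classInner hM hH hb, classInner_pReg_eq_sum, hc₀, mul_assoc]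
  -- the integers
  set z : IrrCharacter H → ℤ := fun ξ => ∑ ξ' ∈ bF b, a ξ' * Q p b ξ ξ' with hz
  have h2 : ∀ ξ : IrrCharacter H, (z ξ : ℂ) = c₀ * ∑ s ∈ reg, (ξ : H → ℂ) s * conj (F s) := by
    intro ξ
    have h3 := classInner_pReg_eq_sum (p := p) (ξ : H → ℂ) F
    rw [hc₀, mul_assoc, ← h3, classInner_lam, Finset.mul_sum]
    simp only [hz]
    push_cast
    refine Finset.sum_congr rfl fun ξ' hξ' => ?_
    rw [← Q_spec hM hb ξ (mem_bF.mp hξ')]
    ring
  simp_rw [h1]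
  rw [sum_norm_expand]
  have h3 : ∀ s ∈ reg, ∀ s' ∈ reg, ∑ χ ∈ bF B, th hH b χ s * conj (th hH b χ s') =
      ∑ ξ ∈ bF b, (ξ : H → ℂ) s * conj ((ξ : H → ℂ) s') := fun s hs s' hs' =>
    sum_B_th_mul_conj hM hy hH hind (Finset.mem_filter.mp hs).2 (Finset.mem_filter.mp hs').2
  rw [Finset.sum_congr rfl fun s hs => Finset.sum_congr rfl fun s' hs' => by rw [h3 s hs s' hs']]
  rw [← sum_norm_expand (bF b) (fun (ξ : IrrCharacter H) (s : H) => (ξ : H → ℂ) s) F c₀ reg]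
  rw [← sum_ZZ hM hb a]
  push_cast
  refine Finset.sum_congr rfl fun ξ _ => ?_
  rw [← h2 ξ, map_intCast]
  simp only [hz]
  push_cast
  rfl

/-- The trace function. -/
noncomputable def mu (hH : H = Subgroup.centralizer ({y} : Set G)) (p : ℕ) (b : Set (IrrCharacter H))
    (a : IrrCharacter H → ℤ) : H → ℂ :=
  fun c => ∑ ξ' ∈ bF b, (a ξ' : ℂ) * regInv p (ξ' : H → ℂ) ((yH hH)⁻¹ * c)

theorem mu_isClassFunction (hH : H = Subgroup.centralizer ({y} : Set G)) (b : Set (IrrCharacter H))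
    (a : IrrCharacter H → ℤ) : IsClassFunction H (mu hH p b a) := by
  intro g h
  unfold mu
  refine Finset.sum_congr rfl fun ξ' _ => ?_
  congr 1
  have h1 : (yH hH)⁻¹ * (h * g * h⁻¹) = h * ((yH hH)⁻¹ * g) * h⁻¹ := by
    have h2 : (yH hH)⁻¹ * h = h * (yH hH)⁻¹ := by
      have h3 := yH_central hH h
      rw [inv_mul_eq_iff_eq_mul, ← mul_assoc, h3, mul_assoc, mul_inv_cancel, mul_one]
    calc (yH hH)⁻¹ * (h * g * h⁻¹) = ((yH hH)⁻¹ * h) * g * h⁻¹ := by group
      _ = (h * (yH hH)⁻¹) * g * h⁻¹ := by rw [h2]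
      _ = _ := by group
  rw [h1, regInv_isClassFunction (isClassFunction_of_isCharacter (IsIrrCharacter.isCharacter ξ'.2))]

theorem mu_local [M.IsPrime] (hH : H = Subgroup.centralizer ({y} : Set G)) (b : Set (IrrCharacter H))
    (a : IrrCharacter H → ℤ) (c : H) : MemLocalRing M (mu hH p b a c) := by
  unfold mu
  exact memLocalRing_sum _ _ fun ξ' _ => memLocalRing_mul (memLocalRing_intCast _)
    (memLocalRing_regInv (IsIrrCharacter.isCharacter ξ'.2) _)

/-- The inner product with the section function. -/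
theorem classInner_thetaZ_reg (hH : H = Subgroup.centralizer ({y} : Set G)) (χ : IrrCharacter G)
    (ξ' : IrrCharacter H) :
    classInner (pRegularPart p (thetaZ (χ : G → ℂ) y H)) (ξ' : H → ℂ) =
      (Nat.card H : ℂ)⁻¹ * ∑ c : H, regInv p (ξ' : H → ℂ) ((yH hH)⁻¹ * c) * (χ : G → ℂ) c := by
  unfold classInner
  congr 1
  rw [← Equiv.sum_comp (Equiv.mulLeft (yH hH))
    (fun c : H => regInv p (ξ' : H → ℂ) ((yH hH)⁻¹ * c) * (χ : G → ℂ) c)]
  refine Finset.sum_congr rfl fun s _ => ?_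
  simp only [Equiv.coe_mulLeft, inv_mul_cancel_left]
  have h1 : (((yH hH) * s : H) : G) = y * s := rfl
  rw [h1]
  unfold regInv
  by_cases hs : p ∣ orderOf s
  · rw [pRegularPart_of_sing _ hs, pRegularPart_of_sing _ (by rwa [orderOf_inv])]
    ring
  · rw [pRegularPart_of_reg _ hs, pRegularPart_of_reg _ (by rwa [orderOf_inv]),
      char_conj_eq_inv (IsIrrCharacter.isCharacter ξ'.2)]
    simp only [thetaZ]
    ring

/-- The expansion of the section function in the block. -/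
theorem sum_vv_mul_Q (hM : IsPModular p M) (hH : H = Subgroup.centralizer ({y} : Set G))
    {b : Set (IrrCharacter H)} (hb : IsPBlock M b) (χ : IrrCharacter G)
    {ξ' : IrrCharacter H} (hξ' : ξ' ∈ b) :
    ∑ ξ ∈ bF b, vv hH χ ξ * (Q p b ξ ξ' : ℂ) = (p : ℂ) ^ blockDefect p b *
      classInner (pRegularPart p (thetaZ (χ : G → ℂ) y H)) (ξ' : H → ℂ) := by
  classical
  have hcl := thetaZ_isClassFunction hH (isClassFunction_of_isCharacter (IsIrrCharacter.isCharacter χ.2))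
  have h1 := classFunction_eq_sum hcl
  have h2 : pRegularPart p (thetaZ (χ : G → ℂ) y H) =
      fun s => ∑ ξ : IrrCharacter H, vv hH χ ξ * pRegularPart p (ξ : H → ℂ) s := by
    funext s
    by_cases hs : p ∣ orderOf s
    · simp [pRegularPart_of_sing _ hs]
    · simp only [pRegularPart_of_reg _ hs]
      conv_lhs => rw [h1]
      rw [Finset.sum_apply]
      refine Finset.sum_congr rfl fun ξ _ => ?_
      simp only [Pi.smul_apply, smul_eq_mul]
      rw [classInner_thetaZ]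
      rfl
  have h3 : classInner (pRegularPart p (thetaZ (χ : G → ℂ) y H)) (ξ' : H → ℂ) =
      ∑ ξ : IrrCharacter H, vv hH χ ξ * classInner (pRegularPart p (ξ : H → ℂ)) (ξ' : H → ℂ) := by
    rw [h2]
    unfold classInner
    simp_rw [Finset.sum_mul, Finset.mul_sum]
    rw [Finset.sum_comm]
    refine Finset.sum_congr rfl fun ξ _ => Finset.sum_congr rfl fun s _ => ?_
    ring
  rw [h3, Finset.mul_sum]
  symm
  have h4 : ∀ ξ : IrrCharacter H, (p : ℂ) ^ blockDefect p b * (vv hH χ ξ *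
      classInner (pRegularPart p (ξ : H → ℂ)) (ξ' : H → ℂ)) = vv hH χ ξ * (Q p b ξ ξ' : ℂ) := by
    intro ξ
    rw [← Q_spec hM hb ξ hξ']
    ring
  simp_rw [h4]
  symm
  apply Finset.sum_subset (Finset.subset_univ _)
  intro ξ _ hξ
  have hMp := hM.2.1.isPrime
  have h5 : Q p b ξ ξ' = 0 := by
    have h6 := Q_eq_gg_mul hM hb ξ hξ'
    rw [omega_regInv_eq_zero hM hb hξ' (fun h => hξ (mem_bF.mpr h)), mul_zero] at h6
    exact_mod_cast h6
  rw [h5]
  simp

/-- The central element whose central characters compute `nn`. -/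
noncomputable def cc (hH : H = Subgroup.centralizer ({y} : Set G)) (p : ℕ) (b : Set (IrrCharacter H))
    (a : IrrCharacter H → ℤ) : IrrCharacter G → ℂ :=
  fun χ => (H.index : ℂ) * (∑ c : H, mu hH p b a c * (χ : G → ℂ) c) / (χ : G → ℂ) 1

theorem cc_mem_Zc [M.IsPrime] (hH : H = Subgroup.centralizer ({y} : Set G)) (b : Set (IrrCharacter H))
    (a : IrrCharacter H → ℤ) : cc hH p b a ∈ Zc M :=
  trace_mem_Zc H _ (mu_isClassFunction hH b a) (mu_local hH b a)

theorem nn_eq_gg_mul_cc (hM : IsPModular p M) (hH : H = Subgroup.centralizer ({y} : Set G))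
    {b : Set (IrrCharacter H)} (hb : IsPBlock M b) (χ : IrrCharacter G) (a : IrrCharacter H → ℤ) :
    nn hH p b χ a = (p : ℂ) ^ blockDefect p b * (χ : G → ℂ) 1 / (Nat.card G : ℂ) * cc hH p b a χ := by
  have h0 : nn hH p b χ a = ∑ ξ' ∈ bF b, (a ξ' : ℂ) * ((p : ℂ) ^ blockDefect p b *
      classInner (pRegularPart p (thetaZ (χ : G → ℂ) y H)) (ξ' : H → ℂ)) := by
    unfold nn
    rw [Finset.sum_comm]
    refine Finset.sum_congr rfl fun ξ' hξ' => ?_
    rw [← sum_vv_mul_Q hM hH hb χ (mem_bF.mp hξ'), Finset.mul_sum]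
    refine Finset.sum_congr rfl fun ξ _ => ?_
    ring
  have hχ := irr_one_ne_zero' χ.2
  have hG : (Nat.card G : ℂ) ≠ 0 := natCard_ne_zero'
  have hHc : (Nat.card H : ℂ) ≠ 0 := by exact_mod_cast Nat.card_pos.ne'
  have hidx : (Nat.card G : ℂ) = (Nat.card H : ℂ) * (H.index : ℂ) := by
    rw [← Nat.cast_mul, Subgroup.card_mul_index]
  have hI : (H.index : ℂ) ≠ 0 := by
    intro h
    rw [h, mul_zero] at hidx
    exact hG hidx
  rw [h0]
  simp_rw [classInner_thetaZ_reg hH χ]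
  unfold cc mu
  set X : ℂ := ∑ ξ' ∈ bF b, ∑ c : H, (a ξ' : ℂ) * regInv p (ξ' : H → ℂ) ((yH hH)⁻¹ * c) * (χ : G → ℂ) c with hX
  have h1 : ∑ ξ' ∈ bF b, (a ξ' : ℂ) * ((p : ℂ) ^ blockDefect p b * ((Nat.card H : ℂ)⁻¹ *
      ∑ c : H, regInv p (ξ' : H → ℂ) ((yH hH)⁻¹ * c) * (χ : G → ℂ) c)) =
      (p : ℂ) ^ blockDefect p b * (Nat.card H : ℂ)⁻¹ * X := by
    rw [hX, Finset.mul_sum]
    refine Finset.sum_congr rfl fun ξ' _ => ?_
    have h3 : ∑ c : H, (a ξ' : ℂ) * regInv p (ξ' : H → ℂ) ((yH hH)⁻¹ * c) * (χ : G → ℂ) c =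
        (a ξ' : ℂ) * ∑ c : H, regInv p (ξ' : H → ℂ) ((yH hH)⁻¹ * c) * (χ : G → ℂ) c := by
      rw [Finset.mul_sum]
      refine Finset.sum_congr rfl fun c _ => ?_
      ring
    rw [h3]
    ring
  have h2 : ∑ c : H, (∑ ξ' ∈ bF b, (a ξ' : ℂ) * regInv p (ξ' : H → ℂ) ((yH hH)⁻¹ * c)) * (χ : G → ℂ) c = X := by
    rw [hX, Finset.sum_comm]
    refine Finset.sum_congr rfl fun c _ => ?_
    rw [Finset.sum_mul]
  rw [h1, h2, hidx]
  field_simp

/-- A non-zero factor. -/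
theorem gg_ne_zero (χ : IrrCharacter G) (d : ℕ) :
    (p : ℂ) ^ d * (χ : G → ℂ) 1 / (Nat.card G : ℂ) ≠ 0 := by
  have hχ := irr_one_ne_zero' χ.2
  have hG : (Nat.card G : ℂ) ≠ 0 := natCard_ne_zero'
  have hp0 : (p : ℂ) ≠ 0 := by exact_mod_cast hpF.out.ne_zero
  exact div_ne_zero (mul_ne_zero (pow_ne_zero _ hp0) hχ) hG

/-- The coordinates with respect to a lattice element of norm prime to `p` do not vanish. -/
theorem nn_ne_zero (hM : IsPModular p M) (hy : ∃ k : ℕ, orderOf y = p ^ k)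
    (hH : H = Subgroup.centralizer ({y} : Set G)) {b : Set (IrrCharacter H)}
    {B : Set (IrrCharacter G)} (hind : IsInducedBlock M H b B) (a : IrrCharacter H → ℤ)
    (hd : blockDefect p b = blockDefect p B)
    (ha : ¬ (p : ℤ) ∣ ∑ ξ ∈ bF b, ∑ ξ' ∈ bF b, a ξ * a ξ' * Q p b ξ ξ')
    {χ : IrrCharacter G} (hχ : χ ∈ B) : nn hH p b χ a ≠ 0 := by
  classical
  have hMp := hM.2.1.isPrime
  have hb := hind.1
  have hB := hind.2.1
  obtain ⟨k, hk⟩ := hy
  have hn : y ^ (p ^ k) = 1 := by rw [← hk]; exact pow_orderOf_eq_one y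
  obtain ⟨ξ₀, hξ₀, h0⟩ := exists_minExp (p := p) hb
  obtain ⟨χ₀, hχ₀, h0χ⟩ := exists_minExp (p := p) hB
  have hv : ∀ ξ, MemLocalRing M (vv hH χ₀ ξ) := fun ξ => by
    unfold vv
    refine memLocalRing_mul (memLocalRing_natCast _) (memLocalRing_of_isIntegral ?_)
    exact isIntegral_of_root (pow_ne_zero _ hpF.out.ne_zero) (om_pow_eq_one hH ξ hn)
  have hw : ∀ ξ, MemLocalRing M ((a ξ : ℂ)) := fun ξ => memLocalRing_intCast _
  -- `T a` is a unit
  have hTa : ¬ MemLocalIdeal M (∑ ξ ∈ bF b, (a ξ : ℂ) * omega (ξ₀ : H → ℂ) (regInv p (ξ : H → ℂ))) := by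
    intro h
    have h1 := memLocalIdeal_sum_Q_of_T hM hb hξ₀ (fun ξ => (a ξ : ℂ)) (fun ξ => (a ξ : ℂ)) hw hw h
    apply ha
    rw [← memLocalIdeal_intCast_iff hM]
    push_cast
    exact h1
  -- `nn χ₀ a` is a unit
  have hunit : ¬ MemLocalIdeal M (nn hH p b χ₀ a) := by
    unfold nn
    refine not_memLocalIdeal_sum_Q hM hb hξ₀ h0 (vv hH χ₀) (fun ξ => (a ξ : ℂ)) hv hw ?_ hTa
    exact not_memLocalIdeal_T hM hind hξ₀ hχ₀ h0χ (om hH)
      (fun ξ => Cfsg.Agent.Lib.BlockOsima.memLocalIdeal_sub_one_of_pow hM (om_pow_eq_one hH ξ hn))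
  -- the central element
  have hc := cc_mem_Zc (M := M) (p := p) hH b a
  have hu0 : ¬ MemLocalIdeal M (cc hH p b a χ₀) := by
    intro h
    apply hunit
    rw [nn_eq_gg_mul_cc hM hH hb, hd]
    exact memLocalIdeal_mul_left (memLocalRing_gg hM hB hχ₀) h
  have hsame : SameBlock M (χ : G → ℂ) (χ₀ : G → ℂ) := by
    have hb0 : B = blockOf M (χ : G → ℂ) := by
      obtain ⟨ξ, rfl⟩ := hB
      exact (blockOf_eq_of_mem hχ).symm
    rw [hb0] at hχ₀
    exact hχ₀
  have h2 := memLocalIdeal_sub_of_mem_Zc hc hsame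
  have hu : ¬ MemLocalIdeal M (cc hH p b a χ) := by
    intro h
    apply hu0
    have h3 := memLocalIdeal_sub h h2
    simpa using h3
  rw [nn_eq_gg_mul_cc hM hH hb]
  refine mul_ne_zero (gg_ne_zero χ _) ?_
  intro h
  apply hu
  rw [h]
  exact memLocalIdeal_zero

theorem vv_mem_cycF (hH : H = Subgroup.centralizer ({y} : Set G)) (χ : IrrCharacter G)
    (ξ : IrrCharacter H) {n : ℕ} (hn : y ^ n = 1) : vv hH χ ξ ∈ Cfsg.Agent.Lib.GalAmgm.cycF n := by
  unfold vv
  exact mul_mem (Cfsg.Agent.Lib.GalAmgm.natCast_mem_cycF n _)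
    (Cfsg.Agent.Lib.GalAmgm.mem_cycF_of_pow (om_pow_eq_one hH ξ hn))

theorem vv_isIntegral (hH : H = Subgroup.centralizer ({y} : Set G)) (χ : IrrCharacter G)
    (ξ : IrrCharacter H) {n : ℕ} (hn0 : n ≠ 0) (hn : y ^ n = 1) : IsIntegral ℤ (vv hH χ ξ) := by
  unfold vv
  exact IsIntegral.mul (isIntegral_natCast _) (isIntegral_of_root hn0 (om_pow_eq_one hH ξ hn))

/-- The number of characters of the block is at most the product of `p ^ d` and a norm prime to `p`. -/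
theorem card_le_of_unit (hM : IsPModular p M) (hy : ∃ k : ℕ, orderOf y = p ^ k)
    (hH : H = Subgroup.centralizer ({y} : Set G)) {b : Set (IrrCharacter H)}
    {B : Set (IrrCharacter G)} (hind : IsInducedBlock M H b B) (a : IrrCharacter H → ℤ)
    (hd : blockDefect p b = blockDefect p B)
    (ha : ¬ (p : ℤ) ∣ ∑ ξ ∈ bF b, ∑ ξ' ∈ bF b, a ξ * a ξ' * Q p b ξ ξ') :
    ((bF B).card : ℝ) ≤ (((p : ℤ) ^ blockDefect p b * ∑ ξ' ∈ bF b, ∑ ξ'' ∈ bF b,
      a ξ' * a ξ'' * Q p b ξ' ξ'' : ℤ) : ℝ) := by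
  classical
  obtain ⟨k, hk⟩ := id hy
  have hn : y ^ (p ^ k) = 1 := by rw [← hk]; exact pow_orderOf_eq_one y
  have hn0 : p ^ k ≠ 0 := pow_ne_zero _ hpF.out.ne_zero
  haveI : NeZero (p ^ k) := ⟨hn0⟩
  have h1 := Cfsg.Agent.Lib.GalAmgm.card_le_of_sum_mul_conj (p ^ k) (bF B)
    (fun χ => nn hH p b χ a)
    (fun χ _ => sum_mem fun ξ _ => sum_mem fun ξ' _ => mul_mem (mul_mem (vv_mem_cycF hH χ ξ hn)
      (Cfsg.Agent.Lib.GalAmgm.intCast_mem_cycF _ _)) (Cfsg.Agent.Lib.GalAmgm.intCast_mem_cycF _ _))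
    (fun χ _ => IsIntegral.sum _ fun ξ _ => IsIntegral.sum _ fun ξ' _ => IsIntegral.mul
      (IsIntegral.mul (vv_isIntegral hH χ ξ hn0 hn) (isIntegral_intCast _)) (isIntegral_intCast _))
    (fun χ hχ => nn_ne_zero hM hy hH hind a hd ha (mem_bF.mp hχ))
    (((p : ℤ) ^ blockDefect p b * ∑ ξ' ∈ bF b, ∑ ξ'' ∈ bF b,
      a ξ' * a ξ'' * Q p b ξ' ξ'' : ℤ) : ℚ) (by
      rw [sum_nn_mul_conj hM hy hH hind a]
      simp)
  simpa using h1

/-- **Reduced forms**: the main counting theorem. -/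
theorem card_le (hM : IsPModular p M) (hy : ∃ k : ℕ, orderOf y = p ^ k)
    (hH : H = Subgroup.centralizer ({y} : Set G)) {b : Set (IrrCharacter H)}
    {B : Set (IrrCharacter G)} (hind : IsInducedBlock M H b B)
    (hd : blockDefect p b = blockDefect p B) (hl : blockRank p b ≤ 2) :
    (bF B).card ≤ p ^ blockDefect p B := by
  classical
  have hMp := hM.2.1.isPrime
  have hb := hind.1
  have hB := hind.2.1
  have hp := hpF.out
  have hpC : (p : ℂ) ≠ 0 := by exact_mod_cast hp.ne_zero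
  obtain ⟨k, hk⟩ := id hy
  have hn : y ^ (p ^ k) = 1 := by rw [← hk]; exact pow_orderOf_eq_one y
  have hn0 : p ^ k ≠ 0 := pow_ne_zero _ hp.ne_zero
  haveI : NeZero (p ^ k) := ⟨hn0⟩
  obtain ⟨ξ₀, hξ₀, h0⟩ := exists_minExp (p := p) hb
  -- the Gram matrix
  set ι := {ξ // ξ ∈ bF b} with hι
  set c : ℝ := (p : ℝ) ^ blockDefect p b * (Nat.card H : ℝ)⁻¹ with hc
  have hc0 : 0 < c := by
    have hH0 : (0 : ℝ) < Nat.card H := by exact_mod_cast Nat.card_pos
    have hp0 : (0 : ℝ) < p := by exact_mod_cast hp.pos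
    positivity
  set u : ι → H → ℂ := fun i => pRegularPart p ((i.1 : IrrCharacter H) : H → ℂ) with hu
  have hQ : ∀ i j : ι, (Q p b i.1 j.1 : ℂ) = Cfsg.Agent.Lib.LagrangeRed.Bc c (u i) (u j) := by
    intro i j
    rw [← Q_spec hM hb i.1 (mem_bF.mp j.2), classInner_pRegularPart_eq]
    unfold Cfsg.Agent.Lib.LagrangeRed.Bc classInner
    simp only [hc, hu]
    push_cast
    ring
  have hrank : Module.finrank ℂ (Submodule.span ℂ (Set.range u)) ≤ 2 := by
    have h1 : Set.range u = (fun χ : IrrCharacter H => pRegularPart p (χ : H → ℂ)) '' b := by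
      ext f
      constructor
      · rintro ⟨i, rfl⟩
        exact ⟨i.1, mem_bF.mp i.2, rfl⟩
      · rintro ⟨ξ, hξ, rfl⟩
        exact ⟨⟨ξ, mem_bF.mpr hξ⟩, rfl⟩
    rw [h1]
    exact hl
  have hne : ∃ i, u i ≠ 0 := by
    refine ⟨⟨ξ₀, mem_bF.mpr hξ₀⟩, fun h => ?_⟩
    have h1 := congrFun h 1
    simp only [hu, Pi.zero_apply] at h1
    rw [pRegularPart_of_reg _ (by simp [hp.one_lt.ne'])] at h1
    exact irr_one_ne_zero' ξ₀.2 h1
  obtain ⟨α, β, γ, x, y', a, hform, haa, hα, hβ, hγ⟩ :=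
    Cfsg.Agent.Lib.LagrangeRed.exists_reduced (fun i j : ι => Q p b i.1 j.1) u c hc0 hQ hrank hne
  -- extensions
  let ext : (ι → ℤ) → IrrCharacter H → ℤ := fun f ξ => if h : ξ ∈ bF b then f ⟨ξ, h⟩ else 0
  have hext : ∀ (f : ι → ℤ) {ξ} (h : ξ ∈ bF b), ext f ξ = f ⟨ξ, h⟩ := fun f ξ h => dif_pos h
  set X := ext x with hX
  set Y := ext y' with hY
  set A := ext a with hA
  have hform' : ∀ ξ ∈ bF b, ∀ ξ' ∈ bF b, Q p b ξ ξ' =
      α * X ξ * X ξ' + β * (X ξ * Y ξ' + Y ξ * X ξ') + γ * Y ξ * Y ξ' := by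
    intro ξ hξ ξ' hξ'
    rw [hX, hY, hext x hξ, hext x hξ', hext y' hξ, hext y' hξ']
    exact hform ⟨ξ, hξ⟩ ⟨ξ', hξ'⟩
  have hAA : ∑ ξ ∈ bF b, ∑ ξ' ∈ bF b, A ξ * A ξ' * Q p b ξ ξ' = α := by
    rw [← haa, ← Finset.sum_coe_sort (bF b)]
    refine Finset.sum_congr rfl fun i _ => ?_
    rw [← Finset.sum_coe_sort (bF b)]
    refine Finset.sum_congr rfl fun j _ => ?_
    rw [hA, hext a i.2, hext a j.2]
  by_cases hα1 : α = 1
  · -- a vector of norm one
    have h1 := card_le_of_unit hM hy hH hind A hd (by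
      rw [hAA, hα1]
      intro h
      have := Int.isUnit_iff.mp (isUnit_of_dvd_one h)
      have hp2 := hp.two_le
      omega)
    rw [hAA, hα1, mul_one, hd] at h1
    have h2 : ((bF B).card : ℝ) ≤ ((p ^ blockDefect p B : ℕ) : ℝ) := by
      simpa using h1
    exact_mod_cast h2
  · -- the form has minimum at least two
    have hα2 : 2 ≤ α := by omega
    -- the non-vanishing
    let e₀ : IrrCharacter H → ℤ := fun ξ => if ξ = ξ₀ then 1 else 0
    have hξ₀F : ξ₀ ∈ bF b := mem_bF.mpr hξ₀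
    have he₀ : ∑ ξ ∈ bF b, ∑ ξ' ∈ bF b, e₀ ξ * e₀ ξ' * Q p b ξ ξ' = Q p b ξ₀ ξ₀ := by
      rw [Finset.sum_eq_single ξ₀, Finset.sum_eq_single ξ₀]
      · simp [e₀]
      · intro ξ' _ h
        simp [e₀, h]
      · intro h
        exact absurd hξ₀F h
      · intro ξ _ h
        refine Finset.sum_eq_zero fun ξ' _ => ?_
        simp [e₀, h]
      · intro h
        exact absurd hξ₀F h
    have hunit : ¬ (p : ℤ) ∣ ∑ ξ ∈ bF b, ∑ ξ' ∈ bF b, e₀ ξ * e₀ ξ' * Q p b ξ ξ' := by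
      rw [he₀, ← memLocalIdeal_intCast_iff hM, Q_eq_gg_mul hM hb ξ₀ hξ₀]
      intro h
      rcases (memLocalIdeal_mul_iff (memLocalRing_gg hM hb hξ₀)
        (memLocalRing_of_mem_Zc (omega_regInv_mem_Zc (IsIrrCharacter.isCharacter ξ₀.2)) ξ₀)).mp h with h1 | h1
      · exact not_memLocalIdeal_gg hM hb hξ₀ h0 h1
      · exact not_memLocalIdeal_W hM hb hξ₀ h0 h1
    set w₁ : IrrCharacter G → ℂ := fun χ => ∑ ξ ∈ bF b, vv hH χ ξ * (X ξ : ℂ) with hw₁
    set w₂ : IrrCharacter G → ℂ := fun χ => ∑ ξ ∈ bF b, vv hH χ ξ * (Y ξ : ℂ) with hw₂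
    have hne : ∀ χ ∈ bF B, w₁ χ ≠ 0 ∨ w₂ χ ≠ 0 := by
      intro χ hχ
      by_contra hcon
      push Not at hcon
      apply nn_ne_zero hM hy hH hind e₀ hd hunit (mem_bF.mp hχ)
      have h1 : nn hH p b χ e₀ = w₁ χ * ((α : ℂ) * (X ξ₀ : ℂ) + (β : ℂ) * (Y ξ₀ : ℂ)) +
          w₂ χ * ((β : ℂ) * (X ξ₀ : ℂ) + (γ : ℂ) * (Y ξ₀ : ℂ)) := by
        unfold nn
        simp only [hw₁, hw₂]
        rw [Finset.sum_mul, Finset.sum_mul, ← Finset.sum_add_distrib]
        refine Finset.sum_congr rfl fun ξ hξ => ?_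
        rw [Finset.sum_eq_single ξ₀]
        · rw [hform' ξ hξ ξ₀ hξ₀F]
          simp only [e₀, if_true]
          push_cast
          ring
        · intro ξ' _ h
          simp [e₀, h]
        · intro h
          exact absurd hξ₀F h
      rw [h1, hcon.1, hcon.2]
      ring
    have hsum : ∑ χ ∈ bF B, ((α : ℂ) * (w₁ χ * conj (w₁ χ)) +
        (β : ℂ) * (w₁ χ * conj (w₂ χ) + w₂ χ * conj (w₁ χ)) + (γ : ℂ) * (w₂ χ * conj (w₂ χ))) =
        (((blockRank p b * p ^ blockDefect p b : ℕ) : ℚ) : ℂ) := by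
      have h1 := sum_RR_self hM hy hH hind
      push_cast
      rw [← h1]
      refine Finset.sum_congr rfl fun χ _ => ?_
      rw [RR_eq hM hH hb]
      simp only [hw₁, hw₂, map_sum, map_mul, map_intCast]
      rw [Finset.sum_mul_sum, Finset.sum_mul_sum, Finset.sum_mul_sum, Finset.sum_mul_sum]
      simp only [Finset.mul_sum, ← Finset.sum_add_distrib]
      refine Finset.sum_congr rfl fun ξ hξ => Finset.sum_congr rfl fun ξ' hξ' => ?_
      rw [hform' ξ hξ ξ' hξ']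
      push_cast
      ring
    have hγ' : α ≤ γ ∨ ∀ χ, w₂ χ = 0 := by
      rcases hγ with h | h
      · exact Or.inl h
      · refine Or.inr fun χ => ?_
        simp only [hw₂]
        refine Finset.sum_eq_zero fun ξ hξ => ?_
        rw [hY, hext y' hξ, h]
        simp
    have hmain := Cfsg.Agent.Lib.GalForm.card_mul_le_of_form (p ^ k) (bF B) w₁ w₂
      (fun χ => sum_mem fun ξ _ => mul_mem (vv_mem_cycF hH χ ξ hn)
        (Cfsg.Agent.Lib.GalAmgm.intCast_mem_cycF _ _))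
      (fun χ => sum_mem fun ξ _ => mul_mem (vv_mem_cycF hH χ ξ hn)
        (Cfsg.Agent.Lib.GalAmgm.intCast_mem_cycF _ _))
      (fun χ => IsIntegral.sum _ fun ξ _ => IsIntegral.mul (vv_isIntegral hH χ ξ hn0 hn)
        (isIntegral_intCast _))
      (fun χ => IsIntegral.sum _ fun ξ _ => IsIntegral.mul (vv_isIntegral hH χ ξ hn0 hn)
        (isIntegral_intCast _))
      hne α β γ hα hβ hγ' _ hsum
    rw [hd] at hmain
    have h1 : (((bF B).card * α : ℤ) : ℝ) ≤ ((blockRank p b * p ^ blockDefect p B : ℕ) : ℝ) := by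
      push_cast at hmain ⊢
      exact hmain
    have h2 : ((bF B).card : ℤ) * α ≤ ((blockRank p b * p ^ blockDefect p B : ℕ) : ℤ) := by
      exact_mod_cast h1
    have h3 : ((bF B).card : ℤ) * α ≤ α * (p ^ blockDefect p B : ℕ) := by
      refine le_trans h2 ?_
      push_cast
      have h4 : (blockRank p b : ℤ) ≤ α := by
        have : (blockRank p b : ℤ) ≤ 2 := by exact_mod_cast hl
        omega
      have h5 : (0 : ℤ) ≤ (p : ℤ) ^ blockDefect p B := by positivity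
      exact mul_le_mul_of_nonneg_right h4 h5
    have h4 : ((bF B).card : ℤ) ≤ (p ^ blockDefect p B : ℕ) := by
      have : α * ((bF B).card : ℤ) ≤ α * (p ^ blockDefect p B : ℕ) := by
        rw [mul_comm]
        exact h3
      exact le_of_mul_le_mul_left this hα
    exact_mod_cast h4

end Section

end Cfsg.Agent.Lib.BlockMajorForm
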