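import Cfsg.Agent.Lib.Chev.Core
import Cfsg.Agent.Lib.Chev.Cells
import Cfsg.Agent.Lib.StChevP50

/-!
# The Borel-Tits theorem for the Chevalley groups, via real cocharacters

We follow the idea of Kempf and Rousseau in an elementary form.  For a real vector `x` on the
fundamental roots, `Fp x` is generated by the root elements for the roots of `x`-height at least 1.
Among the `x` such that a conjugate of the given `p`-subgroup lies in `Fp x`, an `x` with least
(Weyl invariant) norm is essentially unique.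
-/

set_option autoImplicit false
set_option linter.unusedSectionVars false
set_option linter.unusedVariables false

namespace Cfsg.Agent.Lib.BorelTits50

open Cfsg Cfsg.Lie Cfsg.Agent.Lib.Chev Cfsg.Agent.Lib.Chev.Tri Matrix

variable {F : Type*} [Field F] {T : Tabs} {X : Extra} {R : RootTab} {D : ChevalleyDatum}

/-- A real linear functional on root coordinates. -/
noncomputable def lin (R : RootTab) (D : ChevalleyDatum) (x : Fin D.rank → ℝ) (r : ℕ) : ℝ :=
  ∑ j : Fin D.rank, x j * (R.rcAt r j : ℝ)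

/-- The real grading of the coordinates. -/
noncomputable def grR (R : RootTab) (D : ChevalleyDatum) (x : Fin D.rank → ℝ) (b : D.Idx) : ℝ :=
  ∑ j : Fin D.rank, x j * (rcIdx R D b j : ℝ)

@[simp] theorem grR_inl (x : Fin D.rank → ℝ) (i : Fin D.rank) : grR R D x (Sum.inl i) = 0 := by
  simp [grR]

@[simp] theorem grR_inr (x : Fin D.rank → ℝ) (s : Fin D.nroots) :
    grR R D x (Sum.inr s) = lin R D x s := rfl

/-- The roots of height at least one. -/
def Sx (R : RootTab) (D : ChevalleyDatum) (x : Fin D.rank → ℝ) (r : ℕ) : Prop :=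
  r < D.nroots ∧ 1 ≤ lin R D x r

/-- The group generated by the root elements of height at least one. -/
def Fp (R : RootTab) (D : ChevalleyDatum) (F : Type*) [Field F] (x : Fin D.rank → ℝ) :
    Subgroup (GL D.Idx F) :=
  Full.rootClosure D F (Sx R D x)

/-- The filtration condition. -/
def FU (R : RootTab) (D : ChevalleyDatum) (x : Fin D.rank → ℝ) (M : Matrix D.Idx D.Idx F) : Prop :=
  ∀ i j, (M - 1) i j ≠ 0 → 1 ≤ grR R D x i - grR R D x j

theorem FU_one (x : Fin D.rank → ℝ) : FU R D x (1 : Matrix D.Idx D.Idx F) := by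
  intro i j h
  simp at h

theorem FU_mul {x : Fin D.rank → ℝ} {M M' : Matrix D.Idx D.Idx F} (h : FU R D x M)
    (h' : FU R D x M') : FU R D x (M * M') := by
  intro i j hij
  have e : M * M' - 1 = (M - 1) * (M' - 1) + (M - 1) + (M' - 1) := by noncomm_ring
  rw [e, Matrix.add_apply, Matrix.add_apply] at hij
  by_cases h1 : (M - 1) i j = 0
  · by_cases h2 : (M' - 1) i j = 0
    · rw [h1, h2, add_zero, add_zero, Matrix.mul_apply] at hij
      obtain ⟨k, _, hk⟩ := Finset.exists_ne_zero_of_sum_ne_zero hij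
      have h3 := h i k (left_ne_zero_of_mul hk)
      have h4 := h' k j (right_ne_zero_of_mul hk)
      linarith
    · exact h' i j h2
  · exact h i j h1

theorem FU_x (hF : Full T X R D) {x : Fin D.rank → ℝ} {s : ℕ} (hs : s < D.nroots)
    (h1 : 1 ≤ lin R D x s) (t : F) : FU R D x (D.x F s t) := by
  intro i j hij
  by_cases hne : i = j
  · subst hne
    exfalso
    apply hij
    simp [Matrix.sub_apply, hF.x_entry_self hs t i]
  · rw [Matrix.sub_apply, Matrix.one_apply_ne hne, sub_zero] at hij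
    obtain ⟨k, hk, h2⟩ := hF.x_entry_ne hs hne hij
    have h3 : grR R D x i = grR R D x j + k * lin R D x s := by
      unfold grR lin
      rw [Finset.mul_sum, ← Finset.sum_add_distrib]
      apply Finset.sum_congr rfl
      intro m _
      rw [h2 m m.2]
      push_cast
      ring
    have h4 : (1 : ℝ) ≤ k := by exact_mod_cast hk
    rw [h3]
    nlinarith

theorem FU_of_mem (hF : Full T X R D) {x : Fin D.rank → ℝ} {v : GL D.Idx F}
    (hv : v ∈ Fp R D F x) :
    FU R D x (v : Matrix D.Idx D.Idx F) ∧ FU R D x ((v⁻¹ : GL D.Idx F) : Matrix D.Idx D.Idx F) := by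
  unfold Fp Full.rootClosure at hv
  induction hv using Subgroup.closure_induction with
  | mem g hg =>
    obtain ⟨s, t, hs, hg⟩ := hg
    rw [hF.c.eq_xG hg, hF.c.xG_inv]
    constructor
    · rw [Checks.coe_xG]
      exact FU_x hF hs.1 hs.2 t
    · rw [Checks.coe_xG]
      exact FU_x hF hs.1 hs.2 (-t)
  | one =>
    simpa using FU_one x
  | mul a b _ _ ha hb =>
    constructor
    · rw [Units.val_mul]
      exact FU_mul ha.1 hb.1
    · rw [_root_.mul_inv_rev, Units.val_mul]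
      exact FU_mul hb.2 ha.2
  | inv a _ ha =>
    rw [inv_inv]
    exact ⟨ha.2, ha.1⟩

theorem lin_neg (hF : Full T X R D) (x : Fin D.rank → ℝ) {r : ℕ} (hr : r < D.nroots) :
    lin R D x (D.neg r) = - lin R D x r := by
  unfold lin
  rw [← Finset.sum_neg_distrib]
  apply Finset.sum_congr rfl
  intro j _
  rw [hF.rc_neg hr j.2]
  push_cast
  ring

/-- An entry of an ordered product. -/
theorem ordW_entry (hF : Full T X R D) {k : ℕ} (hk : R.N ≤ k) (hkn : k < D.nroots) (t : ℕ → F)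
    (i : Fin D.rank) :
    ((hF.ordW k t : GL D.Idx F) : Matrix D.Idx D.Idx F) (Sum.inl i)
        (Sum.inr ⟨D.neg k, hF.neg_lt hkn⟩) =
      (((D.coroot.getD k #[]).getD i 0 : ℤ) : F) * t k := by
  obtain ⟨ℓ, d, M, hd, hℓ⟩ := Full.exists_lev R D hF.phiW
  have hΦk := hF.phi_pos hkn hk
  set m : ℕ := (R.lin D.rank hF.phiW k).toNat with hm
  have hm1 : (m : ℤ) = R.lin D.rank hF.phiW k := by
    rw [hm]
    omega
  have hle : Full.Uk D F (k + 1) ≤ UT (F := F) ℓ m d hd := by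
    unfold Full.Uk Full.rootClosure
    rw [Subgroup.closure_le]
    rintro g ⟨s, u, hs, hg⟩
    rw [SetLike.mem_coe, hF.c.eq_xG hg, mem_UT, Checks.coe_xG]
    intro a b hab
    by_cases hne : a = b
    · subst hne
      simp [Matrix.sub_apply, hF.x_entry_self hs.2 u a]
    · rw [Matrix.sub_apply, Matrix.one_apply_ne hne, sub_zero]
      by_contra h0
      obtain ⟨c, hc, h1⟩ := hF.x_entry_ne hs.2 hne h0
      have h2 := hF.gr_add hF.phiW h1
      have h3 : R.lin D.rank hF.phiW k < R.lin D.rank hF.phiW s :=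
        hF.phi_strict (by omega) hs.2
      have h5 : (1 : ℤ) ≤ c := by exact_mod_cast hc
      have h6 : R.lin D.rank hF.phiW s ≤ (c : ℤ) * R.lin D.rank hF.phiW s := by
        have : 0 < R.lin D.rank hF.phiW s := by omega
        nlinarith
      have h7 := hℓ a
      have h8 := hℓ b
      omega
  have hn := hF.neg_lt hkn
  rw [hF.ordW_succ hkn, Units.val_mul, Checks.coe_xG]
  set w : GL D.Idx F := hF.ordW (k + 1) t with hw0
  have hw : ((w : GL D.Idx F) : Matrix D.Idx D.Idx F) - 1 ∈ J ℓ (m + 1) :=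
    mem_UT.1 (hle (hF.ordW_mem _ _))
  have hx : D.x F k (t k) - 1 ∈ J ℓ 1 := by
    refine J_of_entries (fun a => hF.x_entry_self hkn _ a) ?_
    intro a b hne h
    obtain ⟨c, hc, h1⟩ := hF.x_entry_ne hkn hne h
    have h2 := hF.gr_add hF.phiW h1
    have h5 : (1 : ℤ) ≤ c := by exact_mod_cast hc
    have h6 : R.lin D.rank hF.phiW k ≤ (c : ℤ) * R.lin D.rank hF.phiW k := by
      nlinarith
    have h7 := hℓ a
    have h8 := hℓ b
    omega
  have e : D.x F k (t k) * ((w : GL D.Idx F) : Matrix D.Idx D.Idx F) = D.x F k (t k) +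
      ((D.x F k (t k) - 1) * (((w : GL D.Idx F) : Matrix D.Idx D.Idx F) - 1) +
        (((w : GL D.Idx F) : Matrix D.Idx D.Idx F) - 1)) := by noncomm_ring
  have h1 : (D.x F k (t k) - 1) * (((w : GL D.Idx F) : Matrix D.Idx D.Idx F) - 1) +
      (((w : GL D.Idx F) : Matrix D.Idx D.Idx F) - 1) ∈ J ℓ (m + 1) :=
    J_add (J_anti (by omega) (J_mul hx hw)) hw
  rw [e, Matrix.add_apply, h1 _ _ ?_, add_zero, hF.x_entry_coroot hkn]
  have h7 := hℓ (Sum.inl i)
  have h8 := hℓ (Sum.inr ⟨D.neg k, hn⟩)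
  rw [gr_inl] at h7
  rw [gr_inr] at h8
  have h9 : R.lin D.rank hF.phiW (D.neg k) = - R.lin D.rank hF.phiW k := hF.lin_neg _ hkn
  simp only at h8
  rw [h9] at h8
  omega

/-- Support of an ordered product in `Fp`. -/
theorem support_of_mem (hF : Full T X R D) (y : Fin D.rank → ℝ) :
    ∀ (m k : ℕ), k + m = D.nroots → R.N ≤ k → ∀ t : ℕ → F,
      hF.ordW k t ∈ Fp R D F y → ∀ r, k ≤ r → r < D.nroots → t r ≠ 0 → 1 ≤ lin R D y r := by
  intro m
  induction m with
  | zero =>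
    intro k hk _ t _ r h1 h2
    omega
  | succ m ih =>
    intro k hk hkN t hv
    have hkn : k < D.nroots := by omega
    have hFU := (FU_of_mem hF hv).1
    have h1 : t k ≠ 0 → 1 ≤ lin R D y k := by
      intro ht
      obtain ⟨i, hi⟩ : ∃ i : Fin D.rank, (((D.coroot.getD k #[]).getD i 0 : ℤ) : F) ≠ 0 := by
        by_contra hcon
        push Not at hcon
        have hb := hF.r.bez k hkn
        rw [sumZ_eq] at hb
        have hb2 := congrArg (fun z : ℤ => (z : F)) hb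
        simp only [Int.cast_sum, Int.cast_mul, Int.cast_one] at hb2
        rw [Finset.sum_eq_zero] at hb2
        · exact zero_ne_one hb2
        · intro j hj
          rw [hcon ⟨j, Finset.mem_range.1 hj⟩, mul_zero]
      have hn := hF.neg_lt hkn
      have h2 := hFU (Sum.inl i) (Sum.inr ⟨D.neg k, hn⟩) (by
        rw [Matrix.sub_apply, Matrix.one_apply_ne (by simp), sub_zero, ordW_entry hF hkN hkn]
        exact mul_ne_zero hi ht)
      rw [grR_inl, grR_inr] at h2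
      simp only at h2
      rw [lin_neg hF y hkn] at h2
      linarith
    have h2 : hF.c.xG k (t k) ∈ Fp R D F y := by
      by_cases ht : t k = 0
      · rw [ht, hF.c.xG_zero]
        exact one_mem _
      · exact hF.xG_mem_rootClosure ⟨hkn, h1 ht⟩ _
    have h3 : hF.ordW (k + 1) t ∈ Fp R D F y := by
      have := Subgroup.mul_mem _ (Subgroup.inv_mem _ h2) hv
      rw [hF.ordW_succ hkn] at this
      simpa using this
    intro r hr1 hr2 htr
    rcases Nat.lt_or_eq_of_le hr1 with h4 | h4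
    · exact ih (k + 1) (by omega) (by omega) t h3 r h4 hr2 htr
    · subst h4
      exact h1 htr

theorem ordW_mem_rootClosure (hF : Full T X R D) {Q : ℕ → Prop} {k : ℕ} {t : ℕ → F}
    (h : ∀ r, k ≤ r → r < D.nroots → t r ≠ 0 → Q r) : hF.ordW k t ∈ Full.rootClosure D F Q := by
  apply hF.c.wordG_mem
  intro p hp
  simp only [List.mem_map, List.mem_range'_1] at hp
  obtain ⟨r, hr, rfl⟩ := hp
  by_cases ht : t r = 0
  · simp only [ht, hF.c.xG_zero]
    exact one_mem _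
  · exact hF.xG_mem_rootClosure (h r hr.1 (by omega) ht) _

/-- Dominant vectors. -/
def Dom (x : Fin D.rank → ℝ) : Prop := ∀ i, 0 ≤ x i

theorem lin_nonneg (hF : Full T X R D) {x : Fin D.rank → ℝ} (hx : Dom x) {r : ℕ}
    (hr : r < D.nroots) (hp : R.N ≤ r) : 0 ≤ lin R D x r := by
  apply Finset.sum_nonneg
  intro j _
  have h1 := hF.rc_nonneg hr hp j.2
  have h2 : (0 : ℝ) ≤ (R.rcAt r j : ℝ) := by exact_mod_cast h1
  exact mul_nonneg (hx j) h2

theorem lin_nonpos (hF : Full T X R D) {x : Fin D.rank → ℝ} (hx : Dom x) {r : ℕ}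
    (hp : r < R.N) : lin R D x r ≤ 0 := by
  apply Finset.sum_nonpos
  intro j _
  have h1 := hF.rc_nonpos hp j.2
  have h2 : (R.rcAt r j : ℝ) ≤ 0 := by exact_mod_cast h1
  exact mul_nonpos_of_nonneg_of_nonpos (hx j) h2

/-- A root of height at least one, for a dominant vector, is positive. -/
theorem pos_of_Sx (hF : Full T X R D) {x : Fin D.rank → ℝ} (hx : Dom x) {r : ℕ}
    (h : Sx R D x r) : R.N ≤ r := by
  by_contra h1
  have := lin_nonpos hF hx (not_le.1 h1)
  have := h.2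
  linarith

theorem Fp_le_U (hF : Full T X R D) {x : Fin D.rank → ℝ} (hx : Dom x) :
    Fp R D F x ≤ D.posUnipotent F := by
  unfold Fp Full.rootClosure
  rw [Subgroup.closure_le]
  rintro g ⟨s, t, hs, hg⟩
  rw [SetLike.mem_coe, hF.c.eq_xG hg]
  exact hF.xG_mem_U hs.1 (pos_of_Sx hF hx hs) t

/-- The sum of two functionals -/
noncomputable def mid (x y : Fin D.rank → ℝ) : Fin D.rank → ℝ := fun i => (x i + y i) / 2

theorem lin_mid (x y : Fin D.rank → ℝ) (r : ℕ) :
    lin R D (mid x y) r = (lin R D x r + lin R D y r) / 2 := by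
  unfold lin mid
  rw [← Finset.sum_add_distrib, Finset.sum_div]
  apply Finset.sum_congr rfl
  intro j _
  ring

/-- The midpoint lemma. -/
theorem mem_mid (hF : Full T X R D) {x y : Fin D.rank → ℝ} (hx : Dom x) {v : GL D.Idx F}
    (h1 : v ∈ Fp R D F x) (h2 : v ∈ Fp R D F y) : v ∈ Fp R D F (mid x y) := by
  have h2N := hF.two
  have h3 := Fp_le_U hF hx h1
  rw [hF.U_eq_Uk] at h3
  obtain ⟨t, rfl⟩ := hF.exists_ordW R.N R.N (by omega) le_rfl _ h3
  apply ordW_mem_rootClosure hF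
  intro r hr1 hr2 ht
  refine ⟨hr2, ?_⟩
  rw [lin_mid]
  have h4 := support_of_mem hF x R.N R.N (by omega) le_rfl t h1 r hr1 hr2 ht
  have h5 := support_of_mem hF y R.N R.N (by omega) le_rfl t h2 r hr1 hr2 ht
  linarith

/-- The Borel subgroup normalises `Fp x` for dominant `x`. -/
theorem borel_le_normalizer (hF : Full T X R D) {x : Fin D.rank → ℝ} (hx : Dom x) :
    D.borelSubgroup F ≤ Subgroup.normalizer (Fp R D F x : Set (GL D.Idx F)) := by
  apply sup_le
  · unfold ChevalleyDatum.posUnipotent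
    rw [Subgroup.closure_le]
    rintro g ⟨r, t, hr, hg⟩
    rw [SetLike.mem_coe, hF.c.eq_xG hg]
    obtain ⟨hr0, hrN⟩ := (hF.isPos_iff).1 hr
    apply hF.xG_mem_normalizer hr0
    · intro s hs
      refine ⟨hs.1, ?_⟩
      rintro rfl
      have h1 := hs.2
      rw [lin_neg hF x hr0] at h1
      have h2 := lin_nonneg hF hx hr0 hrN
      linarith
    · intro s hs hsr c hc
      have hne : s ≠ D.neg r := by
        rintro rfl
        have h1 := hs.2
        rw [lin_neg hF x hr0] at h1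
        have h2 := lin_nonneg hF hx hr0 hrN
        linarith
      obtain ⟨h4, h5, h6, h7⟩ := hF.commTerms_spec hr0 hs.1 hsr hne hc
      refine ⟨h4, ?_⟩
      have h8 : lin R D x c.1 = (c.2.2.1 : ℝ) * lin R D x r + (c.2.2.2 : ℝ) * lin R D x s := by
        unfold lin
        rw [Finset.mul_sum, Finset.mul_sum, ← Finset.sum_add_distrib]
        apply Finset.sum_congr rfl
        intro j _
        rw [h7 j j.2]
        push_cast
        ring
      rw [h8]
      have h9 := lin_nonneg hF hx hr0 hrN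
      have h10 := hs.2
      have h11 : (1 : ℝ) ≤ (c.2.2.1 : ℝ) := by exact_mod_cast h5
      have h12 : (1 : ℝ) ≤ (c.2.2.2 : ℝ) := by exact_mod_cast h6
      nlinarith
  · exact hF.diagonal_le_normalizer_closure (Sx R D x) (fun r hr => hr.1)

/-! ### The action of the monomial group -/

/-- The action of a permutation on vectors. -/
noncomputable def actV (hF : Full T X R D) (σ : Equiv.Perm (Fin D.nroots)) (x : Fin D.rank → ℝ) :
    Fin D.rank → ℝ :=
  fun i => lin R D x (σ⁻¹ (hF.pF i))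

theorem lin_actV (hF : Full T X R D) {σ : Equiv.Perm (Fin D.nroots)} (hσ : σ ∈ hF.Wk Set.univ)
    (x : Fin D.rank → ℝ) (s : Fin D.nroots) :
    lin R D (actV hF σ x) s = lin R D x (σ⁻¹ s) := by
  have h1 : σ⁻¹ ∈ hF.Wk Set.univ := Subgroup.inv_mem _ hσ
  have h2 : ∀ k : Fin D.rank, (R.rcAt (σ⁻¹ s) k : ℝ) =
      ∑ m : Fin D.rank, (R.rcAt (σ⁻¹ (hF.pF m)) k : ℝ) * (R.rcAt s m : ℝ) := by
    intro k
    rw [hF.rc_eq_sum h1 s k.2]
    push_cast
    rfl
  unfold lin actV lin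
  simp_rw [h2, Finset.mul_sum, Finset.sum_mul]
  rw [Finset.sum_comm]
  apply Finset.sum_congr rfl
  intro j _
  apply Finset.sum_congr rfl
  intro k _
  ring

theorem conj_mem_Fp (hF : Full T X R D) (n : ↥(D.monomialSubgroup F)) (x : Fin D.rank → ℝ)
    {v : GL D.Idx F} (hv : v ∈ Fp R D F x) :
    n.1 * v * n.1⁻¹ ∈ Fp R D F (actV hF (hF.rhoN F n) x) := by
  unfold Fp Full.rootClosure at hv
  induction hv using Subgroup.closure_induction with
  | mem g hg =>
    obtain ⟨s, t, hs, hg⟩ := hg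
    rw [hF.c.eq_xG hg]
    obtain ⟨u, hu⟩ := hF.rhoN_spec_apply n ⟨s, hs.1⟩
    have h1 := hu t
    simp only at h1
    rw [h1]
    apply hF.xG_mem_rootClosure
    refine ⟨Fin.is_lt _, ?_⟩
    rw [lin_actV hF (hF.rhoN_mem_Wk n)]
    simpa using hs.2
  | one => simp
  | mul a b _ _ ha hb =>
    have e : n.1 * (a * b) * n.1⁻¹ = (n.1 * a * n.1⁻¹) * (n.1 * b * n.1⁻¹) := by group
    rw [e]
    exact mul_mem ha hb
  | inv a _ ha =>
    have e : n.1 * a⁻¹ * n.1⁻¹ = (n.1 * a * n.1⁻¹)⁻¹ := by group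
    rw [e]
    exact inv_mem ha

/-- The Weyl invariant norm. -/
noncomputable def Qn (R : RootTab) (D : ChevalleyDatum) (x : Fin D.rank → ℝ) : ℝ :=
  ∑ r : Fin D.nroots, (lin R D x r) ^ 2

theorem Qn_actV (hF : Full T X R D) {σ : Equiv.Perm (Fin D.nroots)} (hσ : σ ∈ hF.Wk Set.univ)
    (x : Fin D.rank → ℝ) : Qn R D (actV hF σ x) = Qn R D x := by
  unfold Qn
  simp_rw [lin_actV hF hσ]
  exact Equiv.sum_comp σ⁻¹ (fun r : Fin D.nroots => (lin R D x r) ^ 2)

theorem lin_simple (hF : Full T X R D) (x : Fin D.rank → ℝ) (i : Fin D.rank) :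
    lin R D x (D.simple i) = x i := by
  unfold lin
  rw [Finset.sum_eq_single i]
  · rw [hF.simple_rc i.2 i.2, if_pos rfl]
    simp
  · intro j _ hj
    rw [hF.simple_rc i.2 j.2, if_neg (fun e => hj (Fin.ext e.symm))]
    simp
  · simp

theorem actV_one (hF : Full T X R D) (x : Fin D.rank → ℝ) : actV hF 1 x = x := by
  funext i
  exact lin_simple hF x i

theorem sq_le_Qn (hF : Full T X R D) (x : Fin D.rank → ℝ) (i : Fin D.rank) :
    (x i) ^ 2 ≤ Qn R D x := by
  have h := Finset.single_le_sum (f := fun r : Fin D.nroots => (lin R D x r) ^ 2)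
    (fun r _ => sq_nonneg _) (Finset.mem_univ (hF.pF i))
  have e : lin R D x ((hF.pF i : Fin D.nroots) : ℕ) = x i := lin_simple hF x i
  simp only [e] at h
  exact h

theorem eq_zero_of_Qn (hF : Full T X R D) {x : Fin D.rank → ℝ} (h : Qn R D x ≤ 0) : x = 0 := by
  funext i
  have h1 := sq_le_Qn hF x i
  have h2 : (x i) ^ 2 ≤ 0 := h1.trans h
  have h3 : (x i) ^ 2 = 0 := le_antisymm h2 (sq_nonneg _)
  simpa using h3

theorem lin_sub (x y : Fin D.rank → ℝ) (r : ℕ) :
    lin R D (x - y) r = lin R D x r - lin R D y r := by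
  unfold lin
  rw [← Finset.sum_sub_distrib]
  apply Finset.sum_congr rfl
  intro j _
  simp only [Pi.sub_apply]
  ring

/-- The parallelogram law. -/
theorem Qn_mid (x y : Fin D.rank → ℝ) :
    Qn R D (mid x y) = (Qn R D x + Qn R D y) / 2 - Qn R D (x - y) / 4 := by
  unfold Qn
  rw [← Finset.sum_add_distrib, Finset.sum_div, Finset.sum_div, ← Finset.sum_sub_distrib]
  apply Finset.sum_congr rfl
  intro r _
  rw [lin_mid, lin_sub]
  ring

/-- Every vector has a dominant conjugate. -/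
theorem exists_dominant (hF : Full T X R D) (x : Fin D.rank → ℝ) :
    ∃ n : ↥(D.monomialSubgroup F), Dom (actV hF (hF.rhoN F n) x) := by
  classical
  set Pos := (Finset.univ.filter fun r : Fin D.nroots => R.N ≤ (r : ℕ)) with hPos
  let pot : Equiv.Perm (Fin D.nroots) → ℝ := fun σ => ∑ r ∈ Pos, lin R D x (σ⁻¹ r)
  obtain ⟨σ₀, ⟨n, rfl⟩, hmax⟩ := Set.exists_max_image (Set.range (hF.rhoN F)) pot (Set.toFinite _)
    ⟨_, ⟨1, rfl⟩⟩
  refine ⟨n, fun i => ?_⟩
  by_contra hneg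
  push Not at hneg
  set σ := hF.rhoN F n with hσdef
  have hσ := hF.rhoN_mem_Wk n
  set f : Fin D.nroots → ℝ := fun r => lin R D x (σ⁻¹ r) with hf
  have hfneg : ∀ r, f (hF.negF r) = - f r := by
    intro r
    simp only [hf]
    rw [hF.neg_comm (Subgroup.inv_mem _ hσ) r]
    exact lin_neg hF x (Fin.is_lt _)
  have hmax' := hmax _ ⟨hF.nN i.2 * n, rfl⟩
  have hσ' : hF.rhoN F (hF.nN i.2 * n) = hF.wPerm i.2 * σ := by
    rw [map_mul, hF.rhoN_nN]
  have h1 : pot (hF.rhoN F (hF.nN i.2 * n)) = ∑ r ∈ Pos, f (hF.wPerm i.2 r) := by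
    simp only [pot, hf]
    rw [hσ', _root_.mul_inv_rev, hF.wPerm_inv]
    rfl
  have h2 : pot σ = ∑ r ∈ Pos, f r := rfl
  set p := hF.pF i with hp
  have hpPos : p ∈ Pos := by
    rw [hPos, Finset.mem_filter]
    exact ⟨Finset.mem_univ _, hF.simple_ge i.2⟩
  have h3 : ∑ r ∈ Pos, f (hF.wPerm i.2 r) =
      f (hF.wPerm i.2 p) + ∑ r ∈ Pos.erase p, f (hF.wPerm i.2 r) :=
    (Finset.add_sum_erase _ _ hpPos).symm
  have h4 : ∑ r ∈ Pos, f r = f p + ∑ r ∈ Pos.erase p, f r :=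
    (Finset.add_sum_erase _ _ hpPos).symm
  have hww : ∀ r, hF.wPerm i.2 (hF.wPerm i.2 r) = r := fun r => Fin.ext (hF.wf_wf i.2 r.2)
  have hstable : ∀ r ∈ Pos.erase p, hF.wPerm i.2 r ∈ Pos.erase p := by
    intro r hr
    rw [Finset.mem_erase, hPos, Finset.mem_filter] at hr ⊢
    obtain ⟨h5, _, h6⟩ := hr
    have h7 := hF.wf_pos r.2 h6 i.2 (fun h => h5 (Fin.ext h))
    refine ⟨fun h => h7.2 (congrArg Fin.val h), Finset.mem_univ _, h7.1⟩
  have h5 : ∑ r ∈ Pos.erase p, f (hF.wPerm i.2 r) = ∑ r ∈ Pos.erase p, f r := by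
    apply Finset.sum_bij (fun r _ => hF.wPerm i.2 r)
    · exact hstable
    · intro a _ b _ h
      exact (hF.wPerm i.2).injective h
    · intro b hb
      exact ⟨hF.wPerm i.2 b, hstable b hb, hww b⟩
    · intro a _
      rfl
  have h6 : f (hF.wPerm i.2 p) = - f p := by
    rw [← hfneg]
    congr 1
    exact hF.wPerm_simple i.2
  have h7 : f p < 0 := hneg
  have h8 : pot σ = f p + ∑ r ∈ Pos.erase p, f r := by rw [h2, h4]
  have h9 : pot (hF.rhoN F (hF.nN i.2 * n)) = - f p + ∑ r ∈ Pos.erase p, f r := by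
    rw [h1, h3, h5, h6]
  linarith

/-- The set of zero coordinates. -/
def Jx (x : Fin D.rank → ℝ) : Set ℕ := {i | ∃ h : i < D.rank, x ⟨i, h⟩ = 0}

/-- `w_i` fixes the height if the coordinate vanishes. -/
theorem lin_wf_of_zero (hF : Full T X R D) {y : Fin D.rank → ℝ} {i : ℕ} (hi : i < D.rank)
    (h0 : y ⟨i, hi⟩ = 0) {s : ℕ} (hs : s < D.nroots) : lin R D y (X.wf i s) = lin R D y s := by
  unfold lin
  apply Finset.sum_congr rfl
  intro j _
  rw [hF.wf_rc hi hs j.2]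
  by_cases hj : (j : ℕ) = i
  · have : j = ⟨i, hi⟩ := Fin.ext hj
    rw [this, h0]
    simp
  · rw [if_neg hj, sub_zero]

/-- The stabiliser of a dominant vector. -/
theorem stab (hF : Full T X R D) {x y : Fin D.rank → ℝ} (hx : Dom x) (hy : Dom y) :
    ∀ (k : ℕ) (n : ↥(D.monomialSubgroup F)), Full.invF R D (hF.rhoN F n) = k →
      actV hF (hF.rhoN F n) y = x → x = y ∧ n.1 ∈ D.parabolicSubgroup F (Jx y) := by
  intro k
  induction k with
  | zero =>
    intro n hk hact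
    have h1 := hF.eq_one_of_invF (hF.rhoN_mem_Wk n) hk
    rw [h1, actV_one] at hact
    refine ⟨hact.symm, ?_⟩
    apply hF.borel_le_parabolic
    apply hF.c.diagonal_le_borel
    apply hF.mem_diagonal_of_pos'
    intro z hz
    rw [h1]
    exact hz
  | succ k ih =>
    intro n hk hact
    have hσ := hF.rhoN_mem_Wk n
    obtain ⟨i, hi, -, hneg⟩ := hF.exists_simple_neg hσ (by rw [hk]; omega)
    have hy0 : y ⟨i, hi⟩ = 0 := by
      apply le_antisymm _ (hy _)
      have h1 : lin R D x ((hF.rhoN F n) ⟨D.simple i, hF.simple_lt hi⟩) = y ⟨i, hi⟩ := by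
        rw [← hact, lin_actV hF hσ]
        have e : (hF.rhoN F n)⁻¹ ((hF.rhoN F n) ⟨D.simple i, hF.simple_lt hi⟩) =
            ⟨D.simple i, hF.simple_lt hi⟩ := by simp
        rw [e]
        exact lin_simple hF y ⟨i, hi⟩
      rw [← h1]
      exact lin_nonpos hF hx hneg
    have hiJ : i ∈ Jx y := ⟨hi, hy0⟩
    have hrho : hF.rhoN F (n * hF.nN hi) = hF.rhoN F n * hF.wPerm hi := by
      rw [map_mul, hF.rhoN_nN]
    have hk' : Full.invF R D (hF.rhoN F (n * hF.nN hi)) = k := by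
      rw [hrho]
      have := (hF.invF_mul hσ hi).2 hneg
      omega
    have hact' : actV hF (hF.rhoN F (n * hF.nN hi)) y = x := by
      rw [← hact]
      funext j
      unfold actV
      rw [hrho, _root_.mul_inv_rev, hF.wPerm_inv, Equiv.Perm.mul_apply]
      exact lin_wf_of_zero hF hi hy0 (Fin.is_lt _)
    obtain ⟨h1, h2⟩ := ih _ hk' hact'
    refine ⟨h1, ?_⟩
    have h3 : n.1 = (n * hF.nN hi).1 * (hF.nS i)⁻¹ := by
      show n.1 = n.1 * hF.nS i * (hF.nS i)⁻¹
      group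
    rw [h3]
    exact mul_mem h2 (inv_mem (hF.nS_mem_parabolic hi hiJ))

/-! ### Admissible pairs -/

/-- Admissible pairs. -/
def Adm (R : RootTab) (D : ChevalleyDatum) (U : Subgroup (GL D.Idx F)) (g : GL D.Idx F)
    (x : Fin D.rank → ℝ) : Prop :=
  g ∈ D.group F ∧ ∀ u ∈ U, g⁻¹ * u * g ∈ Fp R D F x

/-- Admissible vectors. -/
def XX (R : RootTab) (D : ChevalleyDatum) (U : Subgroup (GL D.Idx F)) : Set (Fin D.rank → ℝ) :=
  {x | ∃ g, Adm R D U g x}

theorem continuous_lin (r : ℕ) : Continuous (fun x : Fin D.rank → ℝ => lin R D x r) := by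
  unfold lin
  fun_prop

theorem continuous_Qn : Continuous (fun x : Fin D.rank → ℝ => Qn R D x) := by
  unfold Qn
  exact continuous_finsetSum _ (fun r _ => (continuous_lin (r : ℕ)).pow 2)

theorem isClosed_XX (U : Subgroup (GL D.Idx F)) : IsClosed (XX R D U) := by
  classical
  let P : Set (Fin D.nroots) → Prop := fun Ψ => ∃ g ∈ D.group F, ∀ u ∈ U,
    g⁻¹ * u * g ∈ Full.rootClosure D F (fun r => ∃ h : r < D.nroots, (⟨r, h⟩ : Fin D.nroots) ∈ Ψ)
  have e : XX R D U = ⋃ Ψ ∈ {Ψ | P Ψ}, {x | ∀ r ∈ Ψ, 1 ≤ lin R D x ((r : Fin D.nroots) : ℕ)} := by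
    ext x
    simp only [Set.mem_iUnion, exists_prop]
    constructor
    · rintro ⟨g, hg, hU⟩
      refine ⟨{r | 1 ≤ lin R D x ((r : Fin D.nroots) : ℕ)}, ⟨g, hg, fun u hu => ?_⟩, fun r hr => hr⟩
      have h1 := hU u hu
      refine (Subgroup.closure_mono ?_) h1
      rintro v ⟨s, t, hs, hv⟩
      exact ⟨s, t, ⟨hs.1, hs.2⟩, hv⟩
    · rintro ⟨Ψ, ⟨g, hg, hU⟩, hx⟩
      refine ⟨g, hg, fun u hu => ?_⟩
      have h1 := hU u hu
      refine (Subgroup.closure_mono ?_) h1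
      rintro v ⟨s, t, ⟨hs, hs'⟩, hv⟩
      exact ⟨s, t, ⟨hs, hx _ hs'⟩, hv⟩
  rw [e]
  apply Set.Finite.isClosed_biUnion (Set.toFinite _)
  intro Ψ _
  have : {x : Fin D.rank → ℝ | ∀ r ∈ Ψ, 1 ≤ lin R D x ((r : Fin D.nroots) : ℕ)} =
      ⋂ r ∈ Ψ, {x | 1 ≤ lin R D x ((r : Fin D.nroots) : ℕ)} := by
    ext
    simp
  rw [this]
  apply isClosed_biInter
  intro r _
  exact isClosed_le continuous_const (continuous_lin _)

/-- A minimiser exists. -/
theorem exists_min (hF : Full T X R D) (U : Subgroup (GL D.Idx F)) (h : (XX R D U).Nonempty) :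
    ∃ x ∈ XX R D U, ∀ x' ∈ XX R D U, Qn R D x ≤ Qn R D x' := by
  obtain ⟨x₀, hx₀⟩ := h
  set K : Set (Fin D.rank → ℝ) := XX R D U ∩ {x | Qn R D x ≤ Qn R D x₀} with hK
  have hKc : IsClosed K := (isClosed_XX U).inter (isClosed_le continuous_Qn continuous_const)
  set B : ℝ := Qn R D x₀ + 1 with hB
  have hsub : K ⊆ Set.pi Set.univ (fun _ => Set.Icc (-B) B) := by
    rintro x ⟨_, hx⟩ i _
    have h1 := sq_le_Qn hF x i
    have h2 : Qn R D x ≤ Qn R D x₀ := hx
    have h3 : 0 ≤ Qn R D x₀ := le_trans (sq_nonneg _) (h1.trans h2)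
    constructor <;> nlinarith
  have hcomp : IsCompact K :=
    (isCompact_univ_pi (fun _ => isCompact_Icc)).of_isClosed_subset hKc hsub
  obtain ⟨x, hx, hmin⟩ := hcomp.exists_isMinOn ⟨x₀, hx₀, le_refl (Qn R D x₀)⟩
    (continuous_Qn.continuousOn)
  refine ⟨x, hx.1, fun x' hx' => ?_⟩
  by_cases h1 : Qn R D x' ≤ Qn R D x₀
  · exact hmin ⟨hx', h1⟩
  · have h2 : Qn R D x ≤ Qn R D x₀ := hx.2
    linarith [not_le.1 h1]

/-- Uniqueness of dominant minimisers. -/
theorem unique_min (hF : Full T X R D) (U : Subgroup (GL D.Idx F)) {g₁ g₂ : GL D.Idx F}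
    {x₁ x₂ : Fin D.rank → ℝ} (h₁ : Adm R D U g₁ x₁) (h₂ : Adm R D U g₂ x₂) (d₁ : Dom x₁)
    (d₂ : Dom x₂) (m₁ : ∀ x' ∈ XX R D U, Qn R D x₁ ≤ Qn R D x')
    (m₂ : ∀ x' ∈ XX R D U, Qn R D x₂ ≤ Qn R D x') :
    g₁⁻¹ * g₂ ∈ D.parabolicSubgroup F (Jx x₂) := by
  obtain ⟨n, hn, hgn⟩ := Cfsg.Agent.Lib.BNPair.exists_mem_dc (P := hF.bnPair F)
    (⟨g₁⁻¹ * g₂, mul_mem (inv_mem h₁.1) h₂.1⟩ : ↥(D.group F))
  obtain ⟨b, hb, b', hb', e⟩ := Cfsg.Agent.Lib.BNPair.mem_dc.1 hgn
  have hb1 : b.1 ∈ D.borelSubgroup F := Subgroup.mem_subgroupOf.1 hb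
  have hb2 : b'.1 ∈ D.borelSubgroup F := Subgroup.mem_subgroupOf.1 hb'
  have hn1 : n.1 ∈ D.monomialSubgroup F := Subgroup.mem_subgroupOf.1 hn
  have he : g₁⁻¹ * g₂ = b.1 * n.1 * b'.1 := congrArg Subtype.val e
  set nn : ↥(D.monomialSubgroup F) := ⟨n.1, hn1⟩ with hnn
  set σ := hF.rhoN F nn with hσdef
  set y := actV hF σ x₂ with hy
  have hσ : σ ∈ hF.Wk Set.univ := hF.rhoN_mem_Wk nn
  set g := g₁ * b.1 with hg
  have hgG : g ∈ D.group F := mul_mem h₁.1 (hF.c.borel_le_group hb1)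
  have hg2 : g = g₂ * b'.1⁻¹ * n.1⁻¹ := by
    have h3 : g₂ = g₁ * (b.1 * n.1 * b'.1) := by
      rw [← he]
      group
    rw [hg, h3]
    group
  have hkey : ∀ u ∈ U, g⁻¹ * u * g ∈ Fp R D F x₁ ∧ g⁻¹ * u * g ∈ Fp R D F y := by
    intro u hu
    constructor
    · have h1 := h₁.2 u hu
      have h2 := (Subgroup.mem_set_normalizer_iff.1
        (borel_le_normalizer hF d₁ (inv_mem hb1)) _).1 h1
      have e2 : g⁻¹ * u * g = b.1⁻¹ * (g₁⁻¹ * u * g₁) * (b.1⁻¹)⁻¹ := by
        rw [hg]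
        group
      rw [e2]
      exact h2
    · have h1 := h₂.2 u hu
      have h2 := (Subgroup.mem_set_normalizer_iff.1 (borel_le_normalizer hF d₂ hb2) _).1 h1
      have h3 := conj_mem_Fp hF nn x₂ h2
      have e2 : g⁻¹ * u * g = nn.1 * (b'.1 * (g₂⁻¹ * u * g₂) * b'.1⁻¹) * nn.1⁻¹ := by
        rw [hg2, hnn]
        group
      rw [e2]
      exact h3
  have hAdm : Adm R D U g (mid x₁ y) :=
    ⟨hgG, fun u hu => mem_mid hF d₁ (hkey u hu).1 (hkey u hu).2⟩
  have hQ1 := m₁ _ ⟨g, hAdm⟩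
  have hQ2 : Qn R D y = Qn R D x₂ := Qn_actV hF hσ x₂
  have hQ3 : Qn R D x₁ = Qn R D x₂ := le_antisymm (m₁ _ ⟨g₂, h₂⟩) (m₂ _ ⟨g₁, h₁⟩)
  rw [Qn_mid, hQ2, ← hQ3] at hQ1
  have hQ4 : Qn R D (x₁ - y) ≤ 0 := by linarith
  have hQ5 : x₁ = y := sub_eq_zero.1 (eq_zero_of_Qn hF hQ4)
  obtain ⟨_, hP⟩ := stab hF d₁ d₂ _ nn rfl hQ5.symm
  rw [he]
  refine mul_mem (mul_mem (hF.borel_le_parabolic _ hb1) hP) (hF.borel_le_parabolic _ hb2)

theorem Fp_le_radical (hF : Full T X R D) {x : Fin D.rank → ℝ} (hx : Dom x) :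
    Fp R D F x ≤ D.unipotentRadical F (Jx x) := by
  rw [Full.unipotentRadical_eq]
  apply Subgroup.closure_mono
  rintro v ⟨s, t, hs, hv⟩
  refine ⟨s, t, ?_, hv⟩
  have h1 := pos_of_Sx hF hx hs
  have h2 : (0 : ℝ) < ∑ j : Fin D.rank, x j * (R.rcAt s j : ℝ) := lt_of_lt_of_le one_pos hs.2
  obtain ⟨j, _, hj⟩ := Finset.exists_lt_of_sum_lt (s := Finset.univ) (f := fun _ => (0 : ℝ))
    (g := fun j : Fin D.rank => x j * (R.rcAt s j : ℝ)) (by simpa using h2)
  have h3 : 0 ≤ (R.rcAt s j : ℝ) := by exact_mod_cast hF.rc_nonneg hs.1 h1 j.2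
  have h4 : 0 < (R.rcAt s j : ℝ) := by
    rcases h3.lt_or_eq with h | h
    · exact h
    · rw [← h, mul_zero] at hj
      exact absurd hj (lt_irrefl _)
  have h5 : 0 < R.rcAt s j := by exact_mod_cast h4
  apply hF.QU_of_rc hs.1 j.2 _ h5
  rintro ⟨_, h6⟩
  have h7 : x j = 0 := h6
  rw [h7, zero_mul] at hj
  exact lt_irrefl _ hj

/-- Every positive root has height at least one for the all-one vector. -/
theorem U_le_Fp_one (hF : Full T X R D) : D.posUnipotent F ≤ Fp R D F (fun _ => 1) := by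
  apply Subgroup.closure_mono
  rintro v ⟨s, t, hs, hv⟩
  obtain ⟨hs1, hs2⟩ := (hF.isPos_iff).1 hs
  refine ⟨s, t, ⟨hs1, ?_⟩, hv⟩
  obtain ⟨j, hj, h1⟩ := hF.exists_rc_pos hs1 hs2
  have h2 : lin R D (fun _ => 1) s = ((∑ j : Fin D.rank, R.rcAt s j : ℤ) : ℝ) := by
    unfold lin
    push_cast
    simp
  rw [h2]
  have h3 : R.rcAt s (⟨j, hj⟩ : Fin D.rank) ≤ ∑ j : Fin D.rank, R.rcAt s j :=
    Finset.single_le_sum (f := fun j : Fin D.rank => R.rcAt s j)
      (fun i _ => hF.rc_nonneg hs1 hs2 i.2) (Finset.mem_univ _)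
  have h4 : (1 : ℤ) ≤ ∑ j : Fin D.rank, R.rcAt s j := by
    have : 0 < R.rcAt s (⟨j, hj⟩ : Fin D.rank) := h1
    omega
  exact_mod_cast h4

/-- A `p`-subgroup is conjugate into `U`. -/
theorem exists_conj_U (hF : Full T X R D) [Fintype F] {p : ℕ} [hp : Fact p.Prime] [CharP F p]
    (U : Subgroup (GL D.Idx F)) (hUG : U ≤ D.group F) (hU : IsPGroup p ↥U) :
    ∃ g ∈ D.group F, ∀ u ∈ U, g⁻¹ * u * g ∈ D.posUnipotent F := by
  classical
  haveI : Finite ↥(D.group F) := inferInstance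
  have hU' : IsPGroup p (U.subgroupOf (D.group F)) :=
    hU.of_equiv (Subgroup.subgroupOfEquivOfLe hUG).symm
  obtain ⟨Q, hQ⟩ := hU'.exists_le_sylow
  let S : Sylow p ↥(D.group F) := Sylow.ofCard (StChev50.UU D F) (by
    rw [StChev50.card_UU hF, StChev50.p_part hF])
  obtain ⟨g, hg⟩ := MulAction.exists_smul_eq ↥(D.group F) Q S
  refine ⟨g⁻¹.1, (g⁻¹).2, fun u hu => ?_⟩
  have h1 : (⟨u, hUG hu⟩ : ↥(D.group F)) ∈ (Q : Subgroup ↥(D.group F)) :=
    hQ (Subgroup.mem_subgroupOf.2 hu)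
  have h2 : g * (⟨u, hUG hu⟩ : ↥(D.group F)) * g⁻¹ ∈ (S : Subgroup ↥(D.group F)) := by
    rw [← hg, Sylow.coe_subgroup_smul, Subgroup.mem_pointwise_smul_iff_inv_smul_mem]
    simpa [MulAut.inv_def, MulAut.conj_apply, mul_assoc] using h1
  have h3 : g.1 * u * g.1⁻¹ ∈ D.posUnipotent F := Subgroup.mem_subgroupOf.1 h2
  simpa using h3

/-- **Borel-Tits**. -/
theorem borel_tits (hF : Full T X R D) [Fintype F] {p : ℕ} [hp : Fact p.Prime] [CharP F p]
    (U : Subgroup (GL D.Idx F)) (hUG : U ≤ D.group F) (hU : IsPGroup p ↥U) (hne : U ≠ ⊥) :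
    ∃ g ∈ D.group F, ∃ J : Set ℕ, (∃ i, i < D.rank ∧ i ∉ J) ∧
      Subgroup.normalizer (U : Set (GL D.Idx F)) ⊓ D.group F ≤
        (D.parabolicSubgroup F J).map (MulAut.conj g).toMonoidHom ∧
      U ≤ (D.unipotentRadical F J).map (MulAut.conj g).toMonoidHom := by
  obtain ⟨g₀, hg₀, hg₀U⟩ := exists_conj_U hF U hUG hU
  have hx0 : (fun _ => 1) ∈ XX R D U := ⟨g₀, hg₀, fun u hu => U_le_Fp_one hF (hg₀U u hu)⟩
  obtain ⟨x, ⟨g, hg⟩, hmin⟩ := exists_min hF U ⟨_, hx0⟩
  obtain ⟨n, hdom⟩ := exists_dominant hF (F := F) x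
  set x' := actV hF (hF.rhoN F n) x with hx'
  have hA : Adm R D U (g * n.1⁻¹) x' := by
    refine ⟨mul_mem hg.1 (inv_mem (hF.c.monomial_le_group n.2)), fun u hu => ?_⟩
    have h1 := conj_mem_Fp hF n x (hg.2 u hu)
    have e : (g * n.1⁻¹)⁻¹ * u * (g * n.1⁻¹) = n.1 * (g⁻¹ * u * g) * n.1⁻¹ := by group
    rw [e]
    exact h1
  have hm : ∀ x'' ∈ XX R D U, Qn R D x' ≤ Qn R D x'' := by
    rw [hx', Qn_actV hF (hF.rhoN_mem_Wk n)]
    exact hmin
  set g' := g * n.1⁻¹ with hg'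
  refine ⟨g', hA.1, Jx x', ?_, ?_, ?_⟩
  · by_contra hcon
    push Not at hcon
    apply hne
    rw [eq_bot_iff]
    intro u hu
    have h0 : Fp R D F x' = ⊥ := by
      unfold Fp Full.rootClosure
      rw [Subgroup.closure_eq_bot_iff]
      rintro v ⟨s, t, hs, _⟩
      exfalso
      have h2 : lin R D x' s = 0 := by
        unfold lin
        apply Finset.sum_eq_zero
        intro j _
        obtain ⟨_, h3⟩ := hcon j j.2
        have h4 : x' j = 0 := h3
        rw [h4, zero_mul]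
      have := hs.2
      rw [h2] at this
      linarith
    have h1 := hA.2 u hu
    rw [h0, Subgroup.mem_bot] at h1
    rw [Subgroup.mem_bot]
    have e : u = g' * (g'⁻¹ * u * g') * g'⁻¹ := by group
    rw [e, h1]
    group
  · rintro h ⟨hN, hG⟩
    have hA' : Adm R D U (h * g') x' := by
      refine ⟨mul_mem hG hA.1, fun u hu => ?_⟩
      have h1 : h⁻¹ ∈ Subgroup.normalizer (U : Set (GL D.Idx F)) := inv_mem hN
      have h2 := (Subgroup.mem_set_normalizer_iff.1 h1 u).1 hu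
      have h3 := hA.2 _ h2
      have e : (h * g')⁻¹ * u * (h * g') = g'⁻¹ * (h⁻¹ * u * h⁻¹⁻¹) * g' := by group
      rw [e]
      exact h3
    have h1 := unique_min hF U hA hA' hdom hdom hm hm
    refine ⟨_, h1, ?_⟩
    simp only [MulEquiv.coe_toMonoidHom, MulAut.conj_apply]
    group
  · intro u hu
    have h1 := hA.2 u hu
    refine ⟨_, Fp_le_radical hF hdom h1, ?_⟩
    simp only [MulEquiv.coe_toMonoidHom, MulAut.conj_apply]
    group

end Cfsg.Agent.Lib.BorelTits50
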