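import Cfsg.Agent.Lib.InvolutionFusion2

/-!
# The Brauer-Fowler theorem
-/

set_option linter.style.haveILetI false
set_option linter.unusedSectionVars false

namespace Cfsg.Agent.Lib.BrauerFowler

open Cfsg.Agent.Lib.InvolutionPairs Cfsg.Agent.Lib.InvolutionFusion
open Cfsg.Agent.Lib.InvolutionCount

variable {G : Type*} [Group G]

/-- Elements conjugating `x` to `x` or `x⁻¹`: the extended centralizer. -/
def extendedCentralizer (x : G) : Subgroup G where
  carrier := {g | g * x * g⁻¹ = x ∨ g * x * g⁻¹ = x⁻¹}
  one_mem' := by simp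
  mul_mem' := by
    intro a b ha hb
    simp only [Set.mem_ofPred_eq] at ha hb ⊢
    have e : a * b * x * (a * b)⁻¹ = a * (b * x * b⁻¹) * a⁻¹ := by group
    have hinv : ∀ y : G, a * y * a⁻¹ = x → a * y⁻¹ * a⁻¹ = x⁻¹ := by
      intro y hy
      rw [← hy]; group
    have hinv' : ∀ y : G, a * y * a⁻¹ = x⁻¹ → a * y⁻¹ * a⁻¹ = x := by
      intro y hy
      have : a * y⁻¹ * a⁻¹ = (a * y * a⁻¹)⁻¹ := by group
      rw [this, hy, inv_inv]
    rw [e]
    rcases hb with hb | hb <;> rw [hb]
    · exact ha
    · rcases ha with ha | ha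
      · exact Or.inr (hinv _ ha)
      · exact Or.inl (hinv' _ ha)
  inv_mem' := by
    intro a ha
    simp only [Set.mem_ofPred_eq] at ha ⊢
    rcases ha with ha | ha
    · left
      nth_rewrite 1 [← ha]
      group
    · right
      have h1 : a⁻¹ * x⁻¹ * a = x := by rw [← ha]; group
      have h2 : a⁻¹ * x * a⁻¹⁻¹ = (a⁻¹ * x⁻¹ * a)⁻¹ := by group
      rw [h2, h1]

lemma mem_extendedCentralizer (x g : G) :
    g ∈ extendedCentralizer x ↔ g * x * g⁻¹ = x ∨ g * x * g⁻¹ = x⁻¹ := Iff.rfl

/-- The order of the extended centralizer of a real non-involution. -/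
theorem card_extendedCentralizer [Finite G] (x : G) (hreal : IsConj x x⁻¹) (hx : x ^ 2 ≠ 1) :
    Nat.card (extendedCentralizer x) = 2 * Nat.card (Subgroup.centralizer ({x} : Set G)) := by
  classical
  haveI := Fintype.ofFinite G
  have hne : x ≠ x⁻¹ := by
    intro h
    apply hx
    rw [pow_two]
    nth_rewrite 2 [h]
    exact mul_inv_cancel x
  have h1 : Nat.card (extendedCentralizer x) =
      (Finset.univ.filter (fun g : G => g * x * g⁻¹ = x ∨ g * x * g⁻¹ = x⁻¹)).card := by
    rw [Nat.card_eq_fintype_card, ← Finset.card_univ, ← Fintype.card_subtype]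
    apply Fintype.card_congr
    exact Equiv.refl _
  have h2 : Nat.card (Subgroup.centralizer ({x} : Set G)) =
      (Finset.univ.filter (fun g : G => g * x * g⁻¹ = x)).card := by
    rw [Nat.card_eq_fintype_card, ← Fintype.card_subtype]
    apply Fintype.card_congr
    apply Equiv.subtypeEquivRight
    intro g
    rw [Subgroup.mem_centralizer_singleton_iff, mul_inv_eq_iff_eq_mul]
  have h3 : Nat.card (Subgroup.centralizer ({x} : Set G)) =
      (Finset.univ.filter (fun g : G => g * x * g⁻¹ = x⁻¹)).card := by
    rw [← card_inverters_eq x hreal, Nat.card_eq_fintype_card, Fintype.card_subtype]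
  rw [h1, Finset.filter_or, Finset.card_union_of_disjoint, ← h2, ← h3, two_mul]
  rw [Finset.disjoint_filter]
  intro g _ h4 h5
  exact hne (h4.symm.trans h5)

/-- The counting heart of the Brauer-Fowler theorem. -/
theorem exists_subgroup_index [Finite G] (heven : Even (Nat.card G))
    (hZ : Odd (Nat.card (Subgroup.center G))) :
    ∃ H : Subgroup G, H ≠ ⊤ ∧ (H.index = 2 ∨
      2 * H.index * (Nat.card {t : G // orderOf t = 2}) ^ 2 <
        Nat.card G * (Nat.card G + Nat.card {t : G // orderOf t = 2})) := by
  classical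
  haveI := Fintype.ofFinite G
  by_contra hcon
  push Not at hcon
  set m := Nat.card {t : G // orderOf t = 2} with hm
  set n := Nat.card G with hn
  have hnpos : 0 < n := Nat.card_pos
  have hmodd : Odd m := odd_card_involutions heven
  have hmpos : 0 < m := hmodd.pos
  -- Subgroups of index two do not exist, and every proper subgroup has a large index.
  have hindex : ∀ H : Subgroup G, H ≠ ⊤ → H.index ≠ 2 ∧ n * (n + m) ≤ 2 * H.index * m ^ 2 := by
    intro H hH
    obtain ⟨h1, h2⟩ := hcon H hH
    exact ⟨h1, h2⟩
  -- the local count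
  let c : G → ℕ := fun x =>
    Nat.card {p : G × G // orderOf p.1 = 2 ∧ orderOf p.2 = 2 ∧ p.1 * p.2 = x}
  -- involutions
  have hbound1 : ∀ x : G, orderOf x = 2 → (c x + 2) * (n + m) ≤ 2 * m ^ 2 := by
    intro x hx
    have h1 : c x + 2 ≤ Nat.card (Subgroup.centralizer ({x} : Set G)) := (card_pairs_le x).2.2 hx
    have hne : Subgroup.centralizer ({x} : Set G) ≠ ⊤ := by
      intro ht
      -- `x` is central, contradicting the odd order of the centre
      have hxc : x ∈ Subgroup.center G := by
        rw [Subgroup.mem_center_iff]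
        intro g
        have : g ∈ Subgroup.centralizer ({x} : Set G) := by rw [ht]; trivial
        rw [Subgroup.mem_centralizer_singleton_iff] at this
        exact this
      have h2 := Subgroup.orderOf_dvd_natCard (Subgroup.center G) hxc
      rw [hx] at h2
      exact (Nat.not_even_iff_odd.2 hZ) (even_iff_two_dvd.2 h2)
    have h3 := (hindex _ hne).2
    have h4 := Subgroup.card_mul_index (Subgroup.centralizer ({x} : Set G))
    have h5 : n * (Nat.card (Subgroup.centralizer ({x} : Set G)) * (n + m)) ≤ n * (2 * m ^ 2) := by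
      calc n * (Nat.card (Subgroup.centralizer ({x} : Set G)) * (n + m))
          = Nat.card (Subgroup.centralizer ({x} : Set G)) * (n * (n + m)) := by ring
        _ ≤ Nat.card (Subgroup.centralizer ({x} : Set G)) *
              (2 * (Subgroup.centralizer ({x} : Set G)).index * m ^ 2) :=
            Nat.mul_le_mul_left _ h3
        _ = (Nat.card (Subgroup.centralizer ({x} : Set G)) *
              (Subgroup.centralizer ({x} : Set G)).index) * (2 * m ^ 2) := by ring
        _ = n * (2 * m ^ 2) := by rw [h4]
    have h6 := Nat.le_of_mul_le_mul_left h5 hnpos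
    exact (Nat.mul_le_mul_right _ h1).trans h6
  -- other elements
  have hbound2 : ∀ x : G, x ^ 2 ≠ 1 → c x * (n + m) ≤ m ^ 2 := by
    intro x hx
    by_cases hreal : IsConj x x⁻¹
    · have h1 : c x ≤ Nat.card (Subgroup.centralizer ({x} : Set G)) := (card_pairs_le x).1
      have h2 := card_extendedCentralizer x hreal hx
      by_cases htop : extendedCentralizer x = ⊤
      · -- the centralizer has index two
        exfalso
        have h3 : Nat.card (Subgroup.centralizer ({x} : Set G)) * 2 = n := by
          rw [htop, Subgroup.card_top] at h2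
          omega
        have h4 := Subgroup.card_mul_index (Subgroup.centralizer ({x} : Set G))
        have h5 : (Subgroup.centralizer ({x} : Set G)).index = 2 := by
          have hpos : 0 < Nat.card (Subgroup.centralizer ({x} : Set G)) := Nat.card_pos
          apply Nat.eq_of_mul_eq_mul_left hpos
          rw [h4, h3]
        have hne : Subgroup.centralizer ({x} : Set G) ≠ ⊤ := by
          intro ht
          rw [ht, Subgroup.index_top] at h5
          omega
        exact (hindex _ hne).1 h5
      · have h3 := (hindex _ htop).2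
        have h4 := Subgroup.card_mul_index (extendedCentralizer x)
        rw [h2] at h4
        have h5 : n * (Nat.card (Subgroup.centralizer ({x} : Set G)) * (n + m)) ≤ n * m ^ 2 := by
          calc n * (Nat.card (Subgroup.centralizer ({x} : Set G)) * (n + m))
              = Nat.card (Subgroup.centralizer ({x} : Set G)) * (n * (n + m)) := by ring
            _ ≤ Nat.card (Subgroup.centralizer ({x} : Set G)) *
                  (2 * (extendedCentralizer x).index * m ^ 2) :=
                Nat.mul_le_mul_left _ h3
            _ = (2 * Nat.card (Subgroup.centralizer ({x} : Set G)) *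
                  (extendedCentralizer x).index) * m ^ 2 := by ring
            _ = n * m ^ 2 := by rw [h4]
        have h6 := Nat.le_of_mul_le_mul_left h5 hnpos
        exact (Nat.mul_le_mul_right _ h1).trans h6
    · have : c x = 0 := (card_pairs_le x).2.1 hreal
      rw [this, zero_mul]
      exact Nat.zero_le _
  -- the total count
  let J : Finset G := Finset.univ.filter (fun t => orderOf t = 2)
  have hJ : J.card = m := by
    rw [hm, Nat.card_eq_fintype_card, Fintype.card_subtype]
  let PP : Finset (G × G) := J ×ˢ J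
  have hPP : PP.card = m ^ 2 := by
    rw [Finset.card_product, hJ, pow_two]
  have hcx : ∀ x : G, c x = (PP.filter (fun p => p.1 * p.2 = x)).card := by
    intro x
    simp only [c]
    rw [Nat.card_eq_fintype_card, Fintype.card_subtype]
    congr 1
    ext p
    simp [PP, J, and_assoc]
  have htotal : ∑ x : G, c x = m ^ 2 := by
    rw [← hPP, Finset.card_eq_sum_card_fiberwise (f := fun p : G × G => p.1 * p.2)
      (t := Finset.univ) (by intro p _; simp)]
    exact Finset.sum_congr rfl (fun x _ => hcx x)
  have hc1 : c 1 = m := by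
    simp only [c]
    rw [hm]
    apply Nat.card_congr
    refine ⟨fun p => ⟨p.1.1, p.2.1⟩, fun t => ⟨(t.1, t.1), t.2, t.2, mul_self_of_orderOf t.2⟩,
      ?_, ?_⟩
    · rintro ⟨⟨u, v⟩, hu, hv, huv⟩
      simp only at huv
      have : v = u := by
        have h2 : v = u⁻¹ := eq_inv_of_mul_eq_one_right huv
        rw [h2, inv_eq_self_of_orderOf hu]
      subst this
      rfl
    · rintro ⟨t, ht⟩
      rfl
  -- the pointwise bound in the integers
  let b : G → ℤ := fun x =>
    (m : ℤ) ^ 2 + (if x = 1 then (m : ℤ) * (n + m) - (m : ℤ) ^ 2 else 0) +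
      (if orderOf x = 2 then (m : ℤ) ^ 2 - 2 * (n + m) else 0)
  have hb : ∀ x : G, ((c x : ℤ)) * (n + m) ≤ b x := by
    intro x
    simp only [b]
    by_cases hx1 : x = 1
    · subst hx1
      have : orderOf (1 : G) ≠ 2 := by simp
      rw [if_pos rfl, if_neg this, hc1]
      linarith
    · rw [if_neg hx1]
      by_cases hx2 : orderOf x = 2
      · rw [if_pos hx2]
        have := hbound1 x hx2
        have h' : ((c x : ℤ) + 2) * ((n : ℤ) + m) ≤ 2 * (m : ℤ) ^ 2 := by exact_mod_cast this
        linarith
      · rw [if_neg hx2]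
        have hx3 : x ^ 2 ≠ 1 := fun h => hx2 (orderOf_eq_prime h hx1)
        have := hbound2 x hx3
        have h' : (c x : ℤ) * ((n : ℤ) + m) ≤ (m : ℤ) ^ 2 := by exact_mod_cast this
        linarith
  have hsumb : ∑ x : G, b x =
      (n : ℤ) * (m : ℤ) ^ 2 + ((m : ℤ) * (n + m) - (m : ℤ) ^ 2) +
        (m : ℤ) * ((m : ℤ) ^ 2 - 2 * (n + m)) := by
    simp only [b]
    rw [Finset.sum_add_distrib, Finset.sum_add_distrib, Finset.sum_const, Finset.card_univ,
      ← Nat.card_eq_fintype_card, ← hn, Finset.sum_ite_eq' Finset.univ (1 : G),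
      if_pos (Finset.mem_univ _), Finset.sum_ite, Finset.sum_const_zero, add_zero, Finset.sum_const]
    have : (Finset.univ.filter (fun x : G => orderOf x = 2)).card = m := hJ
    rw [this]
    simp
  have hsum : (m : ℤ) ^ 2 * (n + m) ≤ ∑ x : G, b x := by
    calc (m : ℤ) ^ 2 * (n + m) = (((∑ x : G, c x) : ℕ) : ℤ) * (n + m) := by
          rw [htotal]; push_cast; ring
      _ = ∑ x : G, ((c x : ℤ)) * (n + m) := by
          push_cast
          rw [Finset.sum_mul]
      _ ≤ ∑ x : G, b x := Finset.sum_le_sum (fun x _ => hb x)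
  rw [hsumb] at hsum
  have hm' : (0 : ℤ) < m := by exact_mod_cast hmpos
  have hn' : (0 : ℤ) < n := by exact_mod_cast hnpos
  nlinarith [mul_pos hm' hn', mul_pos hm' hm']

end Cfsg.Agent.Lib.BrauerFowler
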