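import Cfsg.Agent.Lib.BrauerFowler
import Cfsg.Agent.Lib.InvolutionIndexTwo

/-!
# Consequences of the Brauer-Fowler theorem
-/

set_option linter.style.haveILetI false
set_option linter.unusedSectionVars false

universe u

namespace Cfsg.Agent.Lib.BrauerFowler2

open Cfsg.Agent.Lib.InvolutionPairs Cfsg.Agent.Lib.InvolutionFusion
open Cfsg.Agent.Lib.InvolutionCount Cfsg.Agent.Lib.BrauerFowler
open Cfsg.Agent.Lib.InvolutionIndexTwo

variable {G : Type u} [Group G]

/-- The action on the cosets of a proper subgroup of a simple group is faithful. -/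
lemma toPermHom_injective_of_simple [IsSimpleGroup G] (H : Subgroup G) (hH : H ≠ ⊤) :
    Function.Injective (MulAction.toPermHom G (G ⧸ H)) := by
  rw [← MonoidHom.ker_eq_bot_iff]
  rcases (MulAction.toPermHom G (G ⧸ H)).normal_ker.eq_bot_or_eq_top with h | h
  · exact h
  · exfalso
    apply hH
    rw [eq_top_iff]
    intro g _
    have hg : g ∈ (MulAction.toPermHom G (G ⧸ H)).ker := by rw [h]; trivial
    rw [MonoidHom.mem_ker] at hg
    have h2 := congrArg (fun σ : Equiv.Perm (G ⧸ H) => σ ((1 : G) : G ⧸ H)) hg
    simp only [MulAction.toPermHom_apply, MulAction.toPerm_apply, Equiv.Perm.coe_one, id_eq] at h2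
    have h3 : ((g * 1 : G) : G ⧸ H) = ((1 : G) : G ⧸ H) := h2
    rw [QuotientGroup.eq] at h3
    simpa using h3

/-- A simple group divides the factorial of the index of a proper subgroup. -/
theorem card_dvd_factorial_index [Finite G] [IsSimpleGroup G] (H : Subgroup G) (hH : H ≠ ⊤) :
    Nat.card G ∣ H.index.factorial := by
  classical
  haveI := Fintype.ofFinite (G ⧸ H)
  have h1 := Subgroup.card_dvd_of_injective _ (toPermHom_injective_of_simple H hH)
  have h2 : Nat.card (Equiv.Perm (G ⧸ H)) = H.index.factorial := by
    rw [Nat.card_eq_fintype_card, Fintype.card_perm, Subgroup.index_eq_card,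
      Nat.card_eq_fintype_card]
  rwa [h2] at h1

/-- Lower bound for the number of involutions in terms of a centralizer. -/
lemma card_le_mul_centralizer [Finite G] (t : G) (ht : orderOf t = 2) :
    Nat.card G ≤ Nat.card {u : G // orderOf u = 2} * Nat.card (Subgroup.centralizer ({t} : Set G)) := by
  rw [← card_conj_mul_card_centralizer t]
  apply Nat.mul_le_mul_right
  apply Nat.card_le_card_of_injective
    (fun u : {u : G // IsConj t u} =>
      (⟨u.1, by rw [← orderOf_eq_of_isConj u.2]; exact ht⟩ : {u : G // orderOf u = 2}))
  rintro ⟨a, ha⟩ ⟨b, hb⟩ h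
  simpa using h

/-- S0212, the Brauer-Fowler bound. -/
theorem card_le_factorial [Finite G] [IsSimpleGroup G] (t : G) (ht : orderOf t = 2) :
    Nat.card G ≤ Nat.factorial (2 * (Nat.card (Subgroup.centralizer ({t} : Set G))) ^ 2) := by
  classical
  set N := Nat.card (Subgroup.centralizer ({t} : Set G)) with hN
  have hNpos : 0 < N := Nat.card_pos
  set n := Nat.card G with hn
  have hnpos : 0 < n := Nat.card_pos
  by_cases hcentral : t ∈ Subgroup.center G
  · -- the centralizer is everything
    have h1 : Subgroup.centralizer ({t} : Set G) = ⊤ := by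
      rw [eq_top_iff]
      intro g _
      rw [Subgroup.mem_centralizer_singleton_iff]
      exact (Subgroup.mem_center_iff.1 hcentral g)
    have h2 : N = n := by rw [hN, h1, Subgroup.card_top]
    rw [← h2]
    calc N ≤ 2 * N ^ 2 := by nlinarith
      _ ≤ _ := Nat.self_le_factorial _
  · -- the centre is trivial
    have hZ : Subgroup.center G = ⊥ := by
      rcases (inferInstance : (Subgroup.center G).Normal).eq_bot_or_eq_top with h | h
      · exact h
      · exfalso
        apply hcentral
        rw [h]
        trivial
    have hodd : Odd (Nat.card (Subgroup.center G)) := by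
      rw [hZ, Subgroup.card_bot]
      exact odd_one
    have heven : Even (Nat.card G) := by
      have := orderOf_dvd_natCard t
      rw [ht] at this
      exact even_iff_two_dvd.2 this
    obtain ⟨H, hH, hcase⟩ := exists_subgroup_index heven hodd
    have hdvd := card_dvd_factorial_index H hH
    have hfact : H.index.factorial ≤ Nat.factorial (2 * N ^ 2) → n ≤ Nat.factorial (2 * N ^ 2) :=
      fun h => (Nat.le_of_dvd (Nat.factorial_pos _) hdvd).trans h
    apply hfact
    apply Nat.factorial_le
    rcases hcase with h2 | hlt
    · rw [h2]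
      nlinarith
    · set m := Nat.card {u : G // orderOf u = 2} with hm
      have hle : n ≤ m * N := card_le_mul_centralizer t ht
      have hmpos : 0 < m := by
        by_contra h0
        have : m = 0 := by omega
        rw [this, zero_mul] at hle
        omega
      have h3 : 2 * H.index * m ^ 2 < m ^ 2 * (N * (N + 1)) := by
        calc 2 * H.index * m ^ 2 < n * (n + m) := hlt
          _ ≤ (m * N) * (m * N + m) := Nat.mul_le_mul hle (by omega)
          _ = m ^ 2 * (N * (N + 1)) := by ring
      have h4 : 2 * H.index < N * (N + 1) := by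
        apply Nat.lt_of_mul_lt_mul_left (a := m ^ 2)
        calc m ^ 2 * (2 * H.index) = 2 * H.index * m ^ 2 := by ring
          _ < _ := h3
      nlinarith

/-- The subgroup of index two has half the order. -/
lemma card_of_index_two {H : Subgroup G} [Finite G] (h : H.index = 2) :
    2 * Nat.card H = Nat.card G := by
  rw [← Subgroup.card_mul_index H, h, mul_comm]

/-- Comparison of orders when passing to a quotient by a central subgroup of order 2. -/
theorem exists_large_subgroup_aux : ∀ (n : ℕ) (G : Type u) [Group G] [Finite G],
    Nat.card G = n → Even n → 2 < n → ∃ H : Subgroup G, H ≠ ⊤ ∧ n < (Nat.card H) ^ 3 := by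
  intro n
  induction n using Nat.strong_induction_on with
  | _ n ih =>
  intro G _ _ hGn heven hgt
  classical
  haveI : Fact (Nat.Prime 2) := ⟨Nat.prime_two⟩
  have hindex2 : ∀ H : Subgroup G, H.index = 2 → ∃ H : Subgroup G, H ≠ ⊤ ∧ n < (Nat.card H) ^ 3 := by
    intro H hH
    refine ⟨H, ?_, ?_⟩
    · rintro rfl
      simp at hH
    · have h1 := card_of_index_two hH
      rw [hGn] at h1
      have h2 : 2 ≤ Nat.card H := by omega
      rw [← h1]
      nlinarith [Nat.pos_of_ne_zero (by omega : Nat.card H ≠ 0), mul_le_mul h2 h2 (by omega) (by omega)]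
  by_cases hcentral : ∃ z : G, orderOf z = 2 ∧ z ∈ Subgroup.center G
  · obtain ⟨z, hz, hzc⟩ := hcentral
    -- the normal subgroup `⟨z⟩`
    have hZ0n : (Subgroup.zpowers z).Normal := by
      constructor
      intro a ha g
      have h1 : g * a * g⁻¹ = a := by
        obtain ⟨k, rfl⟩ := Subgroup.mem_zpowers_iff.1 ha
        have : Commute g (z ^ k) := Commute.zpow_right (Subgroup.mem_center_iff.1 hzc g) k
        rw [this.eq, mul_inv_cancel_right]
      rw [h1]; exact ha
    have hZ0card : Nat.card (Subgroup.zpowers z) = 2 := by
      rw [Nat.card_zpowers, hz]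
    have hQcard : 2 * Nat.card (G ⧸ Subgroup.zpowers z) = n := by
      have := Subgroup.card_eq_card_quotient_mul_card_subgroup (Subgroup.zpowers z)
      rw [hZ0card, hGn] at this
      omega
    by_cases hQeven : Even (Nat.card (G ⧸ Subgroup.zpowers z))
    · by_cases hQ2 : 2 < Nat.card (G ⧸ Subgroup.zpowers z)
      · -- induction
        obtain ⟨Hb, hHb, hHbc⟩ := ih (Nat.card (G ⧸ Subgroup.zpowers z)) (by omega)
          (G ⧸ Subgroup.zpowers z) rfl hQeven hQ2
        let f := QuotientGroup.mk' (Subgroup.zpowers z)
        have hf : Function.Surjective f := QuotientGroup.mk'_surjective _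
        refine ⟨Hb.comap f, ?_, ?_⟩
        · intro h
          apply hHb
          rw [eq_top_iff]
          intro x _
          obtain ⟨g, rfl⟩ := hf x
          have : g ∈ Hb.comap f := by rw [h]; trivial
          exact this
        · have h1 : (Hb.comap f).index = Hb.index := Subgroup.index_comap_of_surjective Hb hf
          have h2 := Subgroup.card_mul_index (Hb.comap f)
          have h3 := Subgroup.card_mul_index Hb
          rw [h1, hGn] at h2
          have hpos : 0 < Hb.index := Nat.pos_of_ne_zero Subgroup.index_ne_zero_of_finite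
          have h4 : Nat.card (Hb.comap f) = 2 * Nat.card Hb := by
            apply Nat.eq_of_mul_eq_mul_right hpos
            rw [h2, mul_assoc, h3, hQcard]
          rw [h4]
          have h5 : 0 < Nat.card Hb := Nat.card_pos
          have h6 : (Nat.card Hb) ^ 3 ≤ 4 * (Nat.card Hb) ^ 3 := by omega
          calc n = 2 * Nat.card (G ⧸ Subgroup.zpowers z) := hQcard.symm
            _ < 2 * (Nat.card Hb) ^ 3 := by omega
            _ ≤ (2 * Nat.card Hb) ^ 3 := by
              have : (2 * Nat.card Hb) ^ 3 = 8 * (Nat.card Hb) ^ 3 := by ring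
              omega
      · -- order 4
        have h4 : n = 4 := by
          obtain ⟨k, hk⟩ := hQeven
          have : 0 < Nat.card (G ⧸ Subgroup.zpowers z) := Nat.card_pos
          omega
        refine ⟨Subgroup.zpowers z, ?_, ?_⟩
        · intro h
          rw [h, Subgroup.card_top, hGn] at hZ0card
          omega
        · rw [hZ0card, h4]
          norm_num
    · -- the Sylow 2-subgroup is `⟨z⟩`, hence cyclic
      rw [Nat.not_even_iff_odd] at hQeven
      obtain ⟨T⟩ : Nonempty (Sylow 2 G) := Sylow.nonempty
      have hTcard : Nat.card (T : Subgroup G) = 2 := by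
        obtain ⟨k, hk⟩ := T.isPGroup'.exists_card_eq
        have h1 := Subgroup.card_mul_index (T : Subgroup G)
        have h2 := T.not_dvd_index
        rw [hk, hGn] at h1
        rcases k with _ | _ | k
        · rw [pow_zero, one_mul] at h1
          rw [h1] at h2
          exact absurd (even_iff_two_dvd.1 heven) h2
        · rw [hk]; norm_num
        · exfalso
          obtain ⟨c, hc⟩ := hQeven
          have h3 : 2 * (2 * c + 1) = 2 ^ (k + 1 + 1) * (T : Subgroup G).index := by
            rw [← hc, hQcard, h1]
          have h4 : 2 ^ (k + 1 + 1) = 2 * 2 ^ (k + 1) := by ring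
          rw [h4, mul_assoc] at h3
          have h5 := Nat.eq_of_mul_eq_mul_left (by norm_num) h3
          have h6 : 2 ^ (k + 1) = 2 * 2 ^ k := by ring
          rw [h6, mul_assoc] at h5
          omega
      have hcyc : IsCyclic (T : Subgroup G) :=
        isCyclic_of_prime_card (p := 2) hTcard
      obtain ⟨H, hH⟩ := exists_index_two_of_isCyclic_sylow (hGn ▸ heven) T hcyc
      exact hindex2 H hH
  · -- the centre has odd order
    push Not at hcentral
    have hZodd : Odd (Nat.card (Subgroup.center G)) := by
      by_contra h
      rw [Nat.not_odd_iff_even] at h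
      obtain ⟨x, hx⟩ := exists_prime_orderOf_dvd_card' (G := Subgroup.center G) 2
        (even_iff_two_dvd.1 h)
      exact hcentral x.1 (by rw [← hx, Subgroup.orderOf_coe]) x.2
    obtain ⟨H, hH, hcase⟩ := exists_subgroup_index (hGn ▸ heven) hZodd
    rcases hcase with h2 | hlt
    · exact hindex2 H h2
    · -- an involution with a largest centralizer
      obtain ⟨t₀, ht₀⟩ := exists_prime_orderOf_dvd_card' (G := G) 2 (by
        rw [hGn]; exact even_iff_two_dvd.1 heven)
      let Invs : Set G := {t | orderOf t = 2}
      obtain ⟨t, ht, htmax⟩ := Set.exists_max_image Invs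
        (fun t => Nat.card (Subgroup.centralizer ({t} : Set G))) (Set.toFinite _) ⟨t₀, ht₀⟩
      have ht2 : orderOf t = 2 := ht
      set N := Nat.card (Subgroup.centralizer ({t} : Set G)) with hN
      have hNpos : 0 < N := Nat.card_pos
      have hCtop : Subgroup.centralizer ({t} : Set G) ≠ ⊤ := by
        intro h
        apply hcentral t ht2
        rw [Subgroup.mem_center_iff]
        intro g
        have : g ∈ Subgroup.centralizer ({t} : Set G) := by rw [h]; trivial
        rw [Subgroup.mem_centralizer_singleton_iff] at this
        exact this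
      by_cases hnN : n < N ^ 3
      · exact ⟨_, hCtop, hnN⟩
      · -- single class of involutions
        have hsingle : ∀ s : G, orderOf s = 2 → IsConj t s := by
          intro s hs
          by_contra hnc
          have hnc' : ¬ IsConj s t := fun h => hnc h.symm
          have := card_lt_cube s t hs ht2 hnc' htmax
          rw [hGn] at this
          exact hnN this
        set m := Nat.card {u : G // orderOf u = 2} with hm
        have hmN : m * N = n := by
          rw [← hGn, ← card_conj_mul_card_centralizer t]
          congr 1
          apply Nat.card_congr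
          refine ⟨fun u => ⟨u.1, hsingle u.1 u.2⟩,
            fun u => ⟨u.1, by rw [← orderOf_eq_of_isConj u.2]; exact ht2⟩, ?_, ?_⟩
          · rintro ⟨a, ha⟩; rfl
          · rintro ⟨a, ha⟩; rfl
        refine ⟨H, hH, ?_⟩
        -- compute
        rw [hGn] at hlt
        have hmpos : 0 < m := by
          by_contra h0
          have : m = 0 := by omega
          rw [this, zero_mul] at hmN
          omega
        have h3 : 2 * H.index * m ^ 2 < m ^ 2 * (N * (N + 1)) := by
          calc 2 * H.index * m ^ 2 < n * (n + m) := hlt
            _ = (m * N) * (m * N + m) := by rw [hmN]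
            _ = m ^ 2 * (N * (N + 1)) := by ring
        have h4 : 2 * H.index < N * (N + 1) := by
          apply Nat.lt_of_mul_lt_mul_left (a := m ^ 2)
          calc m ^ 2 * (2 * H.index) = 2 * H.index * m ^ 2 := by ring
            _ < _ := h3
        have hN2 : 2 ≤ N := by
          -- `t` lies in its centralizer
          have h1 : t ∈ Subgroup.centralizer ({t} : Set G) := by
            rw [Subgroup.mem_centralizer_singleton_iff]
          have h2 := Subgroup.orderOf_dvd_natCard (Subgroup.centralizer ({t} : Set G)) h1
          rw [ht2] at h2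
          exact Nat.le_of_dvd hNpos h2
        have h5 : H.index < N ^ 2 := by nlinarith
        have h6 := Subgroup.card_mul_index H
        rw [hGn] at h6
        have hHpos : 0 < Nat.card H := Nat.card_pos
        have h7 : n < Nat.card H * N ^ 2 := by
          rw [← h6]
          exact Nat.mul_lt_mul_of_pos_left h5 hHpos
        have hnN' : N ^ 3 ≤ n := by omega
        by_contra hcon
        have hH3 : (Nat.card H) ^ 3 ≤ n := by omega
        have hnpos : 0 < n := by omega
        have h8 : n ^ 3 < (Nat.card H * N ^ 2) ^ 3 := Nat.pow_lt_pow_left h7 (by norm_num)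
        have h9 : (Nat.card H * N ^ 2) ^ 3 = (Nat.card H) ^ 3 * (N ^ 3) ^ 2 := by ring
        have h10 : (Nat.card H) ^ 3 * (N ^ 3) ^ 2 ≤ n * n ^ 2 :=
          Nat.mul_le_mul hH3 (Nat.pow_le_pow_left hnN' 2)
        have h11 : n * n ^ 2 = n ^ 3 := by ring
        omega

/-- S0232. -/
theorem exists_large_subgroup [Finite G] (heven : Even (Nat.card G)) (hgt : 2 < Nat.card G) :
    ∃ H : Subgroup G, H ≠ ⊤ ∧ Nat.card G < (Nat.card H) ^ 3 :=
  exists_large_subgroup_aux _ G rfl heven hgt

end Cfsg.Agent.Lib.BrauerFowler2
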