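import Mathlib
import Cfsg.Prelude.Def_Characters
import Cfsg.Agent.Lib.CharInduction
import Cfsg.Agent.Lib.CharIto

/-!
# Weight spaces of an abelian normal subgroup (Clifford theory for an abelian normal subgroup)

Let `ρ` be an irreducible representation of `G` and `A` an abelian normal subgroup. If `ν` is a
weight of `A` on `V` with weight space `W` and `T` is the stabiliser of `ν`, then `W` is an
irreducible representation of `T`, on which `A` acts by scalars, and
`dim V = [G : T] * dim W`.
-/

set_option autoImplicit false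
set_option linter.style.haveILetI false
set_option linter.unusedSectionVars false

namespace Cfsg.Agent.Lib.CharWeight

open Cfsg
open Cfsg.Agent.Lib.CharBasic
open Cfsg.Agent.Lib.CharInduction
open Cfsg.Agent.Lib
open Module

universe u v

variable {G : Type u} [Group G] {V : Type v} [AddCommGroup V] [Module ℂ V]
  (ρ : Representation ℂ G V) (A : Subgroup G)

/-- The weight space of a weight `ν : A →* ℂ`. -/
def weightSpace (ν : A →* ℂ) : Submodule ℂ V where
  carrier := {w | ∀ a : A, ρ a w = ν a • w}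
  add_mem' := by
    intro x y hx hy a
    rw [map_add, hx a, hy a, smul_add]
  zero_mem' := by
    intro a
    simp
  smul_mem' := by
    intro c x hx a
    rw [map_smul, hx a, smul_comm]

theorem mem_weightSpace {ν : A →* ℂ} {w : V} :
    w ∈ weightSpace ρ A ν ↔ ∀ a : A, ρ a w = ν a • w := Iff.rfl

variable {A}

/-- The conjugate of a weight: `(twist g ν) a = ν (g⁻¹ a g)`. -/
def twist (hA : A.Normal) (g : G) (ν : A →* ℂ) : A →* ℂ :=
  ν.comp (conjAut A hA g⁻¹).toMonoidHom

theorem twist_apply (hA : A.Normal) (g : G) (ν : A →* ℂ) (a : A) :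
    twist hA g ν a = ν (conjAut A hA g⁻¹ a) := rfl

theorem twist_one (hA : A.Normal) (ν : A →* ℂ) : twist hA 1 ν = ν := by
  ext a
  rw [twist_apply]
  congr 1
  ext
  simp [conjAut_apply]

theorem twist_mul (hA : A.Normal) (g h : G) (ν : A →* ℂ) :
    twist hA (g * h) ν = twist hA g (twist hA h ν) := by
  ext a
  rw [twist_apply, twist_apply, twist_apply]
  congr 1
  ext
  simp [conjAut_apply, mul_assoc]

theorem map_mem_weightSpace (hA : A.Normal) (g : G) {ν : A →* ℂ} {w : V}
    (hw : w ∈ weightSpace ρ A ν) : ρ g w ∈ weightSpace ρ A (twist hA g ν) := by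
  intro a
  have h1 := hw (conjAut A hA g⁻¹ a)
  have h2 : ((conjAut A hA g⁻¹ a : A) : G) = g⁻¹ * a * g := by
    rw [conjAut_apply]
    simp
  have h3 : (a : G) * g = g * ((conjAut A hA g⁻¹ a : A) : G) := by
    rw [h2]
    group
  rw [← Module.End.mul_apply, ← map_mul, h3, map_mul, Module.End.mul_apply, h1, map_smul]
  rfl

/-- Stabiliser of a weight. -/
def inertia (hA : A.Normal) (ν : A →* ℂ) : Subgroup G where
  carrier := {g | twist hA g ν = ν}
  mul_mem' := by
    intro g h hg hh
    show twist hA (g * h) ν = ν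
    rw [twist_mul]
    show twist hA g (twist hA h ν) = ν
    rw [show twist hA h ν = ν from hh]
    exact hg
  one_mem' := twist_one hA ν
  inv_mem' := by
    intro g hg
    show twist hA g⁻¹ ν = ν
    nth_rewrite 1 [← (show twist hA g ν = ν from hg)]
    rw [← twist_mul, inv_mul_cancel, twist_one]

theorem mem_inertia (hA : A.Normal) (ν : A →* ℂ) {g : G} :
    g ∈ inertia hA ν ↔ twist hA g ν = ν := Iff.rfl

theorem le_inertia (hA : A.Normal) (hcomm : ∀ a ∈ A, ∀ b ∈ A, a * b = b * a) (ν : A →* ℂ) :
    A ≤ inertia hA ν := by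
  intro a ha
  rw [mem_inertia]
  ext b
  rw [twist_apply]
  congr 1
  ext
  rw [conjAut_apply, hcomm _ (A.inv_mem ha) b b.2]
  simp

section Proj

variable [Fintype A]

/-- Averaging operator attached to a weight. -/
noncomputable def proj (ν : A →* ℂ) : V →ₗ[ℂ] V :=
  (Nat.card A : ℂ)⁻¹ • ∑ a : A, ν a⁻¹ • ρ a

theorem proj_apply_of_mem [DecidableEq (A →* ℂ)] (ν κ : A →* ℂ) {w : V}
    (hw : w ∈ weightSpace ρ A κ) :
    proj ρ ν w = if κ = ν then w else 0 := by
  classical
  have hA0 : (Nat.card A : ℂ) ≠ 0 := by exact_mod_cast Nat.card_pos.ne'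
  unfold proj
  simp only [LinearMap.smul_apply, LinearMap.sum_apply]
  have h1 : ∀ a : A, ν a⁻¹ • ρ (a : G) w = (ν a⁻¹ * κ a) • w := by
    intro a
    rw [hw a, smul_smul]
  simp_rw [h1]
  rw [← Finset.sum_smul, smul_smul]
  -- the hom a ↦ ν a⁻¹ * κ a
  let f : A →* ℂ :=
    { toFun := fun a => ν a⁻¹ * κ a
      map_one' := by simp
      map_mul' := by
        intro a b
        simp only [mul_inv_rev, map_mul]
        ring }
  have h2 := sum_hom_units f
  have h3 : ∑ a : A, ν a⁻¹ * κ a = ∑ a : A, f a := rfl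
  rw [h3, h2]
  by_cases hκ : κ = ν
  · subst hκ
    have hf : f = 1 := by
      ext a
      show κ a⁻¹ * κ a = 1
      rw [← map_mul]
      simp
    rw [if_pos hf, if_pos rfl, ← Nat.card_eq_fintype_card]
    rw [inv_mul_cancel₀ hA0, one_smul]
  · have hf : f ≠ 1 := by
      intro hf
      apply hκ
      ext a
      have h4 : ν a⁻¹ * κ a = 1 := congrArg (fun T : A →* ℂ => T a) hf
      have h5 : ν a⁻¹ * ν a = 1 := by
        rw [← map_mul]
        simp
      have h6 : ν a⁻¹ ≠ 0 := fun h => by
        rw [h, zero_mul] at h5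
        exact zero_ne_one h5
      exact mul_left_cancel₀ h6 (h4.trans h5.symm)
    rw [if_neg hf, if_neg hκ]
    simp

end Proj

/-- The representation of the stabiliser on a weight space. -/
def restrictRep (hA : A.Normal) (ν : A →* ℂ) :
    Representation ℂ (inertia hA ν) (weightSpace ρ A ν) where
  toFun t := (ρ t).restrict (fun w hw => by
    have h := map_mem_weightSpace ρ hA (t : G) hw
    rwa [show twist hA (t : G) ν = ν from t.2] at h)
  map_one' := by
    apply LinearMap.ext
    intro w
    apply Subtype.ext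
    simp
  map_mul' := by
    intro a b
    apply LinearMap.ext
    intro w
    apply Subtype.ext
    simp

theorem restrictRep_apply (hA : A.Normal) (ν : A →* ℂ) (t : inertia hA ν)
    (w : weightSpace ρ A ν) : ((restrictRep ρ hA ν t w : weightSpace ρ A ν) : V) = ρ t w := rfl

section Spread



/-- The sum of the translates of a subspace along a transversal. -/
def spreadSpace (T : Subgroup G) [Fintype (G ⧸ T)] (X : Submodule ℂ V) : Submodule ℂ V where
  carrier := {v | ∃ f : G ⧸ T → V, (∀ q, f q ∈ X) ∧ v = ∑ q, ρ (Quotient.out q) (f q)}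
  add_mem' := by
    rintro _ _ ⟨f, hf, rfl⟩ ⟨f', hf', rfl⟩
    refine ⟨f + f', fun q => X.add_mem (hf q) (hf' q), ?_⟩
    simp [Finset.sum_add_distrib]
  zero_mem' := ⟨0, fun q => X.zero_mem, by simp⟩
  smul_mem' := by
    rintro c _ ⟨f, hf, rfl⟩
    exact ⟨c • f, fun q => X.smul_mem c (hf q), by simp [Finset.smul_sum]⟩

theorem spreadSpace_invariant (T : Subgroup G) [Fintype (G ⧸ T)] (X : Submodule ℂ V)
    (hX : ∀ t ∈ T, ∀ x ∈ X, ρ t x ∈ X) (g : G) {v : V} (hv : v ∈ spreadSpace ρ T X) :
    ρ g v ∈ spreadSpace ρ T X := by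
  classical
  obtain ⟨f, hf, rfl⟩ := hv
  -- the element τ q
  let act : G ⧸ T → G ⧸ T := fun q => g • q
  let act' : G ⧸ T → G ⧸ T := fun q => g⁻¹ • q
  have hact : ∀ q, act' (act q) = q := fun q => inv_smul_smul g q
  have hact' : ∀ q, act (act' q) = q := fun q => smul_inv_smul g q
  let τ : G ⧸ T → G := fun q => (Quotient.out (act q))⁻¹ * (g * Quotient.out q)
  have hτ : ∀ q, τ q ∈ T := by
    intro q
    have h1 : ((g * Quotient.out q : G) : G ⧸ T) = act q := by
      show ((g * Quotient.out q : G) : G ⧸ T) = g • q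
      conv_rhs => rw [← QuotientGroup.out_eq' q]
      rfl
    rw [← QuotientGroup.eq, QuotientGroup.out_eq', h1]
  have hdec : ∀ q, g * Quotient.out q = Quotient.out (act q) * τ q := by
    intro q
    simp [τ]
  refine ⟨fun q' => ρ (τ (act' q')) (f (act' q')), fun q' => hX _ (hτ _) _ (hf _), ?_⟩
  rw [map_sum]
  refine Fintype.sum_bijective act (Function.bijective_iff_has_inverse.mpr ⟨act', hact, hact'⟩)
    _ _ ?_
  intro q
  simp only [hact]
  rw [← Module.End.mul_apply, ← map_mul, hdec, map_mul, Module.End.mul_apply]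

theorem spreadSpace_eq_top (hρ : ρ.IsIrreducible) (T : Subgroup G) [Fintype (G ⧸ T)]
    (X : Submodule ℂ V) (hX : ∀ t ∈ T, ∀ x ∈ X, ρ t x ∈ X) (hne : X ≠ ⊥) :
    spreadSpace ρ T X = ⊤ := by
  classical
  obtain ⟨_, hirr⟩ := (isIrreducible_iff ρ).mp hρ
  rcases hirr _ (fun g v hv => spreadSpace_invariant ρ T X hX g hv) with h | h
  · exfalso
    obtain ⟨x, hx, hx0⟩ := Submodule.exists_mem_ne_zero_of_ne_bot hne
    set q₀ : G ⧸ T := ((1 : G) : G ⧸ T) with hq₀
    have hmem : ρ (Quotient.out q₀) x ∈ spreadSpace ρ T X := by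
      refine ⟨Function.update 0 q₀ x, ?_, ?_⟩
      · intro q
        by_cases hq : q = q₀
        · subst hq
          simpa using hx
        · simp [Function.update_of_ne hq]
      · symm
        refine (Finset.sum_eq_single q₀ ?_ ?_).trans (by simp)
        · intro q _ hq
          simp [Function.update_of_ne hq]
        · intro h; exact absurd (Finset.mem_univ _) h
    rw [h] at hmem
    have h0 : ρ (Quotient.out q₀) x = 0 := (Submodule.mem_bot _).mp hmem
    have h1 : ρ (Quotient.out q₀)⁻¹ (ρ (Quotient.out q₀) x) = x := by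
      rw [← Module.End.mul_apply, ← map_mul]
      simp
    rw [h0, map_zero] at h1
    exact hx0 h1.symm
  · exact h

variable [Finite G] [Fintype A]

theorem twist_eq_iff (hA : A.Normal) (ν : A →* ℂ) (a b : G) :
    twist hA a ν = twist hA b ν ↔ ((a : G) : G ⧸ inertia hA ν) = (b : G) := by
  rw [QuotientGroup.eq, mem_inertia]
  constructor
  · intro h
    have h1 := congrArg (twist hA a⁻¹) h
    rw [← twist_mul, ← twist_mul, inv_mul_cancel, twist_one] at h1
    exact h1.symm
  · intro h
    have h1 := congrArg (twist hA a) h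
    rw [← twist_mul, mul_inv_cancel_left] at h1
    exact h1.symm

/-- A nonzero subspace of a weight space invariant under the stabiliser is the whole weight space. -/
theorem weightSpace_le (hρ : ρ.IsIrreducible) (hA : A.Normal) (ν : A →* ℂ)
    [Fintype (G ⧸ inertia hA ν)] (X : Submodule ℂ V) (hXW : X ≤ weightSpace ρ A ν)
    (hX : ∀ t ∈ inertia hA ν, ∀ x ∈ X, ρ t x ∈ X) (hne : X ≠ ⊥) : weightSpace ρ A ν ≤ X := by
  classical
  intro w hw
  have hv : w ∈ spreadSpace ρ (inertia hA ν) X := by
    rw [spreadSpace_eq_top ρ hρ _ X hX hne]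
    trivial
  obtain ⟨f, hf, hwf⟩ := hv
  have h1 := proj_apply_of_mem ρ ν ν hw
  rw [if_pos rfl] at h1
  rw [← h1, hwf, map_sum]
  set q₀ : G ⧸ inertia hA ν := ((1 : G) : G ⧸ inertia hA ν) with hq₀
  have h4 : ∑ q, proj ρ ν (ρ (Quotient.out q) (f q)) = proj ρ ν (ρ (Quotient.out q₀) (f q₀)) := by
    refine Finset.sum_eq_single q₀ ?_ ?_
    · intro q _ hq
      have h2 := proj_apply_of_mem ρ ν (twist hA (Quotient.out q) ν)
        (map_mem_weightSpace ρ hA _ (hXW (hf q)))
      have h3 : twist hA (Quotient.out q) ν ≠ ν := by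
        intro h
        apply hq
        have h4 : twist hA (Quotient.out q) ν = twist hA 1 ν := by rw [twist_one, h]
        have h5 := (twist_eq_iff hA ν _ _).mp h4
        rw [QuotientGroup.out_eq'] at h5
        exact h5
      rw [if_neg h3] at h2
      exact h2
    · intro h; exact absurd (Finset.mem_univ _) h
  rw [h4]
  · have h2 := proj_apply_of_mem ρ ν (twist hA (Quotient.out q₀) ν)
      (map_mem_weightSpace ρ hA _ (hXW (hf q₀)))
    have h3 : twist hA (Quotient.out q₀) ν = ν := by
      have := (twist_eq_iff hA ν (Quotient.out q₀) 1).mpr (QuotientGroup.out_eq' q₀)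
      rwa [twist_one] at this
    rw [h3, if_pos rfl] at h2
    rw [h2]
    apply hX _ _ _ (hf q₀)
    exact h3

/-- The restricted representation is irreducible. -/
theorem restrictRep_isIrreducible (hρ : ρ.IsIrreducible) (hA : A.Normal) (ν : A →* ℂ)
    (hW : weightSpace ρ A ν ≠ ⊥) : (restrictRep ρ hA ν).IsIrreducible := by
  classical
  haveI : Fintype (G ⧸ inertia hA ν) := Fintype.ofFinite _
  rw [isIrreducible_iff]
  refine ⟨Submodule.nontrivial_iff_ne_bot.mpr hW, fun U hU => ?_⟩
  by_cases hU0 : U = ⊥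
  · exact Or.inl hU0
  · right
    let X : Submodule ℂ V := U.map (weightSpace ρ A ν).subtype
    have hXW : X ≤ weightSpace ρ A ν := by
      rintro _ ⟨u, -, rfl⟩
      exact u.2
    have hXinv : ∀ t ∈ inertia hA ν, ∀ x ∈ X, ρ t x ∈ X := by
      rintro t ht _ ⟨u, hu, rfl⟩
      exact ⟨restrictRep ρ hA ν ⟨t, ht⟩ u, hU _ u hu, rfl⟩
    have hXne : X ≠ ⊥ := by
      intro h
      apply hU0
      rw [eq_bot_iff]
      intro u hu
      have h1 : (u : V) ∈ X := ⟨u, hu, rfl⟩
      rw [h] at h1
      exact (Submodule.mem_bot _).mpr (Subtype.ext ((Submodule.mem_bot _).mp h1))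
    have hle := weightSpace_le ρ hρ hA ν X hXW hXinv hXne
    rw [eq_top_iff]
    intro w _
    obtain ⟨u, hu, huw⟩ := hle w.2
    have : u = w := Subtype.ext huw
    rwa [← this]

/-- The dimension formula. -/
theorem finrank_eq_index_mul (hρ : ρ.IsIrreducible) (hA : A.Normal) (ν : A →* ℂ)
    (hW : weightSpace ρ A ν ≠ ⊥) [FiniteDimensional ℂ V] :
    finrank ℂ V = (inertia hA ν).index * finrank ℂ (weightSpace ρ A ν) := by
  classical
  haveI : Fintype (G ⧸ inertia hA ν) := Fintype.ofFinite _
  let W := weightSpace ρ A ν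
  let Φ : (G ⧸ inertia hA ν → W) →ₗ[ℂ] V :=
    { toFun := fun f => ∑ q, ρ (Quotient.out q) (f q : V)
      map_add' := by
        intro f g
        simp [Finset.sum_add_distrib]
      map_smul' := by
        intro c f
        simp [Finset.smul_sum] }
  have hinv : ∀ t ∈ inertia hA ν, ∀ x ∈ W, ρ t x ∈ W := by
    intro t ht x hx
    have h := map_mem_weightSpace ρ hA t hx
    rwa [show twist hA t ν = ν from ht] at h
  have hsurj : Function.Surjective Φ := by
    intro v
    have hv : v ∈ spreadSpace ρ (inertia hA ν) W := by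
      rw [spreadSpace_eq_top ρ hρ _ W hinv hW]
      trivial
    obtain ⟨f, hf, hvf⟩ := hv
    exact ⟨fun q => ⟨f q, hf q⟩, hvf.symm⟩
  have hinj : Function.Injective Φ := by
    rw [← LinearMap.ker_eq_bot, LinearMap.ker_eq_bot']
    intro f hf
    funext q₀
    apply Subtype.ext
    have hf' : ∑ q, ρ (Quotient.out q) (f q : V) = 0 := hf
    have h1 := congrArg (proj ρ (twist hA (Quotient.out q₀) ν)) hf'
    have h4 : ∑ q, proj ρ (twist hA (Quotient.out q₀) ν) (ρ (Quotient.out q) (f q : V))
        = proj ρ (twist hA (Quotient.out q₀) ν) (ρ (Quotient.out q₀) (f q₀ : V)) := by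
      refine Finset.sum_eq_single q₀ ?_ ?_
      · intro q _ hq
        have h2 := proj_apply_of_mem ρ (twist hA (Quotient.out q₀) ν) (twist hA (Quotient.out q) ν)
          (map_mem_weightSpace ρ hA (Quotient.out q) (f q).2)
        rw [if_neg] at h2
        · exact h2
        · intro h
          apply hq
          have h5 := (twist_eq_iff hA ν _ _).mp h
          rwa [QuotientGroup.out_eq', QuotientGroup.out_eq'] at h5
      · intro h; exact absurd (Finset.mem_univ _) h
    rw [map_sum, map_zero, h4] at h1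
    · have h2 := proj_apply_of_mem ρ (twist hA (Quotient.out q₀) ν) (twist hA (Quotient.out q₀) ν)
        (map_mem_weightSpace ρ hA (Quotient.out q₀) (f q₀).2)
      rw [if_pos rfl] at h2
      rw [h2] at h1
      have h3 : ρ (Quotient.out q₀)⁻¹ (ρ (Quotient.out q₀) (f q₀ : V)) = (f q₀ : V) := by
        rw [← Module.End.mul_apply, ← map_mul]
        simp
      rw [h1, map_zero] at h3
      exact h3.symm
  have hfr := (LinearEquiv.ofBijective Φ ⟨hinj, hsurj⟩).finrank_eq
  rw [← hfr, Module.finrank_pi_fintype]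
  simp only [Finset.sum_const, Finset.card_univ, smul_eq_mul]
  rw [Subgroup.index_eq_card, Nat.card_eq_fintype_card]

end Spread

/-- Commuting representation operators have a common weight. -/
theorem exists_weight [FiniteDimensional ℂ V] [Nontrivial V]
    (hcomm : ∀ a ∈ A, ∀ b ∈ A, a * b = b * a) :
    ∃ ν : A →* ℂ, weightSpace ρ A ν ≠ ⊥ := by
  obtain ⟨v, hv0, hv⟩ := exists_common_eigenvector (fun a : A => ρ (a : G)) (by
    intro i j
    have h : ρ (i : G) * ρ (j : G) = ρ (j : G) * ρ (i : G) := by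
      rw [← map_mul, ← map_mul, hcomm _ i.2 _ j.2]
    exact h)
  choose c hc using hv
  have hinj : ∀ {x y : ℂ}, x • v = y • v → x = y := fun {x y} h => smul_left_injective ℂ hv0 h
  let ν : A →* ℂ :=
    { toFun := c
      map_one' := by
        apply hinj
        rw [← hc 1]
        simp
      map_mul' := by
        intro a b
        apply hinj
        have h1 : ρ ((a * b : A) : G) v = ρ (a : G) (ρ (b : G) v) := by
          rw [Subgroup.coe_mul, map_mul, Module.End.mul_apply]
        rw [← hc (a * b), h1, hc b, map_smul, hc a, smul_smul, mul_comm] }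
  refine ⟨ν, fun h => hv0 ?_⟩
  have h1 : v ∈ weightSpace ρ A ν := fun a => hc a
  rw [h] at h1
  exact (Submodule.mem_bot _).mp h1

/-- Itô's theorem on character degrees. -/
theorem finrank_dvd_index [Finite G] [FiniteDimensional ℂ V] (hρ : ρ.IsIrreducible)
    (hA : A.Normal) (hcomm : ∀ a ∈ A, ∀ b ∈ A, a * b = b * a) : finrank ℂ V ∣ A.index := by
  classical
  haveI : Nontrivial V := ((isIrreducible_iff ρ).mp hρ).1
  haveI : Fintype A := Fintype.ofFinite _
  obtain ⟨ν, hν⟩ := exists_weight ρ hcomm
  have h1 := finrank_eq_index_mul ρ hρ hA ν hν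
  have h2 := restrictRep_isIrreducible ρ hρ hA ν hν
  haveI : FiniteDimensional ℂ (weightSpace ρ A ν) := inferInstance
  have h3 := CharIto.finrank_dvd_index_of_scalar (restrictRep ρ hA ν) h2
    (A.subgroupOf (inertia hA ν)) (by
      intro n hn
      refine ⟨ν ⟨(n : G), hn⟩, ?_⟩
      apply LinearMap.ext
      intro w
      apply Subtype.ext
      exact w.2 ⟨(n : G), hn⟩)
  rw [h1]
  have h4 : A.relIndex (inertia hA ν) * (inertia hA ν).index = A.index :=
    Subgroup.relIndex_mul_index (le_inertia hA hcomm ν)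
  rw [← h4, mul_comm]
  exact Nat.mul_dvd_mul_right h3 _

end Cfsg.Agent.Lib.CharWeight
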