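import Mathlib
import Cfsg.Agent.Lib.CharDecomp
import Cfsg.Agent.Lib.Clifford
import Cfsg.Agent.Lib.CharClifford
import Cfsg.Agent.Lib.GenChar
import Cfsg.Agent.Lib.BrauerInd
import Cfsg.Agent.Lib.BergerLemma
import Cfsg.Agent.S4464

/-!
# The character theory behind the Broline–Garrison lemma

If `ψ` is a constituent of `χ τ` with `N ≤ ker χ`, then `ψ|_N` and `τ|_N` lie over the same orbit, and the
inner product of `ψ|_N` and `τ|_N` is `χ(1) + r` for a natural number `r`.
-/

set_option autoImplicit false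
set_option linter.style.haveILetI false
set_option linter.unusedSectionVars false

namespace Cfsg.Agent.Lib.BrolineChar

open Cfsg Cfsg.Agent.Lib.CharBasic Cfsg.Agent.Lib.CharInd Cfsg.Agent.Lib.CharInduction
  Cfsg.Agent.Lib.Clifford Cfsg.Agent.Lib.CharClifford Cfsg.Agent.Lib.CharDecomp
  Cfsg.Agent.Lib.GenChar Cfsg.Agent.Lib.BrauerInd
open scoped ComplexConjugate

universe u

variable {G : Type u} [Group G] [Fintype G]

/-- If the restriction of an irreducible character to a normal subgroup `N` contains the trivial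
character, then `N` lies in the kernel. -/
theorem le_ker_of_inner_one_ne (N : Subgroup G) [hN : N.Normal] [Fintype N] {τ : G → ℂ}
    (hτ : IsIrrCharacter G τ) (h : classInner (fun n : N => τ n) (fun _ => 1) ≠ 0) :
    ∀ n ∈ N, τ n = τ 1 := by
  obtain ⟨e, he0, h1, h2⟩ :=
    restrict_eq_smul_of_invariant N isIrrCharacter_one (fun _ _ => rfl) hτ h
  intro n hn
  have h3 := congrFun h1 ⟨n, hn⟩
  have h4 := congrFun h1 1
  simp only [Pi.smul_apply, smul_eq_mul, mul_one, OneMemClass.coe_one] at h3 h4
  rw [h3, h4]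

/-- The inner product with the trivial character of a character with the subgroup in its kernel. -/
theorem inner_one_of_le_ker (N : Subgroup G) [Fintype N] {χ : G → ℂ} (h : ∀ n ∈ N, χ n = χ 1) :
    classInner (fun n : N => χ n) (fun _ => 1) = χ 1 := by
  unfold classInner
  have h1 : ∀ n : N, χ n * conj (1 : ℂ) = χ 1 := fun n => by
    rw [h n n.2, map_one, mul_one]
  simp only [h1, Finset.sum_const, Finset.card_univ, nsmul_eq_mul, ← Nat.card_eq_fintype_card]
  have := natCard_ne_zero' (G := N)
  field_simp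

theorem inner_mul_conj (ψ τ χ : G → ℂ) :
    classInner (ψ * conjFun τ) χ = conj (classInner (χ * τ) ψ) := by
  unfold classInner conjFun
  simp only [map_mul, map_inv₀, map_natCast, map_sum, Complex.conj_conj, Pi.mul_apply]
  congr 1
  refine Finset.sum_congr rfl fun g _ => ?_
  ring

/-- The splitting of `ψ τ̄` when `ψ` is a constituent of `χ τ`. -/
theorem exists_split {χ τ ψ : G → ℂ} (hχ : IsIrrCharacter G χ) (hτ : IsIrrCharacter G τ)
    (hψ : IsIrrCharacter G ψ) (h : classInner (χ * τ) ψ ≠ 0) :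
    ∃ ρ : G → ℂ, IsCharacter G ρ ∧ ψ * conjFun τ = χ + ρ := by
  apply exists_char_add (isCharacter_mul (IsIrrCharacter.isCharacter hψ)
    (isCharacter_conjFun (IsIrrCharacter.isCharacter hτ))) hχ
  rw [inner_mul_conj]
  intro h0
  exact h ((map_eq_zero _).mp h0)

theorem inner_restrict_eq (S : Subgroup G) [Fintype S] (ψ τ : G → ℂ) :
    classInner (fun n : S => ψ n) (fun n : S => τ n) =
      classInner (fun n : S => (ψ * conjFun τ) n) (fun _ => 1) := by
  unfold classInner conjFun
  simp [Pi.mul_apply]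

/-- The inner product of the restrictions as a sum. -/
theorem inner_eq_add (S : Subgroup G) [Fintype S] {χ τ ψ ρ : G → ℂ}
    (h : ψ * conjFun τ = χ + ρ) :
    classInner (fun n : S => ψ n) (fun n : S => τ n) =
      classInner (fun n : S => χ n) (fun _ => 1) + classInner (fun n : S => ρ n) (fun _ => 1) := by
  rw [inner_restrict_eq, h]
  exact classInner_add_left (fun n : S => χ n) (fun n : S => ρ n) _

/-- If `T ⊴ G` lies in `ker ψ`, and in a subgroup `R` such that `τ|_R` contains the trivial character,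
and `ψ` is a constituent of `χ τ`, then `T` lies in `ker χ`. -/
theorem le_ker_of_le_ker_of_mul (T R : Subgroup G) [T.Normal] [Fintype T] [Fintype R] (hTR : T ≤ R)
    {χ τ ψ : G → ℂ} (hχ : IsIrrCharacter G χ) (hτ : IsIrrCharacter G τ) (hψ : IsIrrCharacter G ψ)
    (hτR : classInner (fun n : R => τ n) (fun _ => 1) ≠ 0) (h : classInner (χ * τ) ψ ≠ 0)
    (hT : ∀ t ∈ T, ψ t = ψ 1) : ∀ t ∈ T, χ t = χ 1 := by
  have hτc := IsIrrCharacter.isCharacter hτ
  have hχc := IsIrrCharacter.isCharacter hχ
  have hψc := IsIrrCharacter.isCharacter hψ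
  have h1 := Cfsg.Agent.S4464.comp_one_ne_zero (Subgroup.inclusion hTR)
    (isCharacter_restrict R hτc) hτR
  have hτT : ∀ t ∈ T, τ t = τ 1 := le_ker_of_inner_one_ne T hτ h1
  obtain ⟨ρ, hρ, hsplit⟩ := exists_char_add (isCharacter_mul hχc hτc) hψ h
  have h2 : classInner (fun n : T => (χ * τ) n) (fun _ => 1) =
      classInner (fun n : T => ψ n) (fun _ => 1) + classInner (fun n : T => ρ n) (fun _ => 1) := by
    rw [hsplit]
    exact classInner_add_left (fun n : T => ψ n) (fun n : T => ρ n) _
  rw [inner_one_of_le_ker T hT] at h2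
  obtain ⟨k, hk⟩ := classInner_char_irr (isCharacter_restrict T hρ) (isIrrCharacter_one (G := T))
  obtain ⟨d, hd⟩ := isCharacter_one_eq hψc
  have hd0 : ψ 1 ≠ 0 := irr_degree_ne_zero hψ
  have hne : (classInner (fun n : T => (χ * τ) n) (fun _ => 1) : ℂ) ≠ 0 := by
    rw [h2, hk, hd]
    have hd1 : d ≠ 0 := by
      rintro rfl
      apply hd0
      rw [hd]
      simp
    exact_mod_cast (by omega : d + k ≠ 0)
  have h3 : (fun n : T => (χ * τ) n) = (τ 1) • (fun n : T => χ n) := by
    funext n
    simp only [Pi.mul_apply, Pi.smul_apply, smul_eq_mul]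
    rw [hτT n n.2, mul_comm]
  rw [h3, classInner_smul_left] at hne
  exact le_ker_of_inner_one_ne T hχ (right_ne_zero_of_mul hne)

/-- The constituents of `ψ|_N` and `τ|_N` are the same when `ψ` is a constituent of `χ τ` and
`N ≤ ker χ`. -/
theorem inner_restrict_ne_of_mul (N : Subgroup G) [hN : N.Normal] [Fintype N] {χ τ ψ : G → ℂ}
    (hχ : IsIrrCharacter G χ) (hτ : IsIrrCharacter G τ) (hψ : IsIrrCharacter G ψ)
    (hχN : ∀ n ∈ N, χ n = χ 1) (h : classInner (χ * τ) ψ ≠ 0) {ξ : N → ℂ}
    (hξ : IsIrrCharacter N ξ) (hτξ : classInner (fun n : N => τ n) ξ ≠ 0) :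
    classInner (fun n : N => ψ n) ξ ≠ 0 := by
  have hτc := IsIrrCharacter.isCharacter hτ
  have hχc := IsIrrCharacter.isCharacter hχ
  have hψc := IsIrrCharacter.isCharacter hψ
  have hψcl := isClassFunction_of_isCharacter hψc
  obtain ⟨ξ', hξ', hne⟩ := exists_constituent (isCharacter_restrict N hψc)
    (by simpa using irr_degree_ne_zero hψ)
  obtain ⟨ρ, hρ, hsplit⟩ := exists_char_add (isCharacter_mul hχc hτc) hψ h
  have h2 : classInner (fun n : N => (χ * τ) n) ξ' =
      classInner (fun n : N => ψ n) ξ' + classInner (fun n : N => ρ n) ξ' := by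
    rw [hsplit]
    exact classInner_add_left (fun n : N => ψ n) (fun n : N => ρ n) _
  obtain ⟨k, hk⟩ := classInner_char_irr (isCharacter_restrict N hρ) hξ'
  obtain ⟨d, hd⟩ := classInner_char_irr (isCharacter_restrict N hψc) hξ'
  have hne2 : classInner (fun n : N => (χ * τ) n) ξ' ≠ 0 := by
    rw [h2, hk, hd]
    have hd1 : d ≠ 0 := by
      rintro rfl
      apply hne
      rw [hd]
      simp
    exact_mod_cast (by omega : d + k ≠ 0)
  have h3 : (fun n : N => (χ * τ) n) = (χ 1) • (fun n : N => τ n) := by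
    funext n
    simp only [Pi.mul_apply, Pi.smul_apply, smul_eq_mul]
    rw [hχN n n.2]
  rw [h3, classInner_smul_left] at hne2
  obtain ⟨g, hg⟩ := exists_conj_of_constituents N hN hτ hξ hξ' hτξ (right_ne_zero_of_mul hne2)
  rw [hg, classInner_restrict_conjBy N hN g hψcl] at hne
  exact hne

/-- The inner product of restrictions of irreducible characters over the same orbit. -/
theorem inner_restrict_mul_degree (N : Subgroup G) [hN : N.Normal] [Fintype N] {τ ψ : G → ℂ}
    (hτ : IsIrrCharacter G τ) (hψ : IsIrrCharacter G ψ) {ξ : N → ℂ} (hξ : IsIrrCharacter N ξ)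
    (hτξ : classInner (fun n : N => τ n) ξ ≠ 0) (hψξ : classInner (fun n : N => ψ n) ξ ≠ 0) :
    classInner (fun n : N => ψ n) (fun n : N => τ n) * ξ 1 =
      classInner (fun n : N => τ n) ξ * ψ 1 := by
  classical
  have hτc := IsIrrCharacter.isCharacter hτ
  have hψc := IsIrrCharacter.isCharacter hψ
  have hψcl := isClassFunction_of_isCharacter hψc
  have h1 := restrict_eq_smul_sum N hN hτ hξ hτξ
  have h2 := restrict_eq_smul_sum N hN hψ hξ hψξ
  set O := Finset.univ.image (fun g : G => conjBy N hN g ξ) with hO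
  obtain ⟨a, ha⟩ := classInner_char_irr (isCharacter_restrict N hτc) hξ
  have h3 : ψ 1 = classInner (fun n : N => ψ n) ξ * (O.card * ξ 1) := by
    have h4 := congrFun h2 1
    simp only [OneMemClass.coe_one, Pi.smul_apply, smul_eq_mul, Finset.sum_apply] at h4
    rw [h4]
    congr 1
    rw [Finset.sum_congr rfl (g := fun _ => ξ 1)]
    · simp
    · intro x hx
      obtain ⟨g, -, rfl⟩ := Finset.mem_image.mp hx
      rw [conjBy_apply]
      congr 1
      ext
      simp
  have h5 : classInner (fun n : N => ψ n) (fun n : N => τ n) =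
      classInner (fun n : N => τ n) ξ * (O.card * classInner (fun n : N => ψ n) ξ) := by
    conv_lhs => rw [h1]
    rw [classInner_smul_right, classInner_sum_right, ha]
    simp only [map_natCast]
    congr 1
    rw [Finset.sum_congr rfl (g := fun _ => classInner (fun n : N => ψ n) ξ)]
    · simp
    · intro x hx
      obtain ⟨g, -, rfl⟩ := Finset.mem_image.mp hx
      exact classInner_restrict_conjBy N hN g hψcl ξ
  rw [h5, h3]
  ring

/-- The numeric upshot: a multiplicity and a constituent `τ` of the permutation character. -/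
theorem exists_tau (R N : Subgroup G) [hN : N.Normal] [Fintype N] [Fintype R] (hsup : R ⊔ N = ⊤)
    [Fintype (R.subgroupOf N)] {ξ : N → ℂ} (hξ : IsIrrCharacter N ξ) {a : ℕ}
    (ha : classInner (fun x : R.subgroupOf N => ξ x) (fun _ => 1) = a) (ha0 : a ≠ 0) :
    ∃ τ : G → ℂ, IsIrrCharacter G τ ∧ classInner (fun n : R => τ n) (fun _ => 1) ≠ 0 ∧
      ∃ e : ℕ, classInner (fun n : N => τ n) ξ = e ∧ e ≠ 0 ∧ e ≤ a := by
  classical
  have hξc := IsIrrCharacter.isCharacter hξ
  have hξcl := isClassFunction_of_isCharacter hξc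
  set Ψ := indFun R (fun _ => (1 : ℂ)) with hΨ
  have hΨc : IsCharacter G Ψ := indFun_isCharacter R isCharacter_one
  obtain ⟨m, hm⟩ := exists_nat_decomp hΨc
  have h1 : (fun n : N => Ψ n) = indFun (R.subgroupOf N) (fun _ => (1 : ℂ)) := by
    funext y
    exact Cfsg.Agent.Lib.BergerLemma.indFun_restrict_of_sup R N hsup
      (isClassFunction_of_isCharacter isCharacter_one) y
  have h2 : classInner (fun n : N => Ψ n) ξ = a := by
    rw [h1, Cfsg.Agent.Lib.CharInd.frobenius _ _ hξcl, ← classInner_conj_symm, ha]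
    simp
  have h3 : ∀ i : IrrCharacter G, ∃ k : ℕ, classInner (fun n : N => (i : G → ℂ) n) ξ = k :=
    fun i => classInner_char_irr (isCharacter_restrict N (IsIrrCharacter.isCharacter i.2)) hξ
  choose k hk using h3
  have h4 : classInner (fun n : N => Ψ n) ξ = ((∑ i, m i * k i : ℕ) : ℂ) := by
    have h5 : (fun n : N => Ψ n) = ∑ i, (m i : ℂ) • (fun n : N => (i : G → ℂ) n) := by
      funext n
      conv_lhs => rw [hm]
      simp [Finset.sum_apply]
    rw [h5, classInner_sum_left]
    push_cast
    refine Finset.sum_congr rfl fun i _ => ?_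
    rw [classInner_smul_left, hk]
  have h6 : ∑ i, m i * k i = a := by
    rw [h2] at h4
    exact_mod_cast h4.symm
  obtain ⟨i, -, hi⟩ : ∃ i ∈ Finset.univ, m i * k i ≠ 0 := by
    by_contra hcon
    push Not at hcon
    rw [Finset.sum_eq_zero hcon] at h6
    exact ha0 h6.symm
  have hmi : m i ≠ 0 := left_ne_zero_of_mul hi
  have hki : k i ≠ 0 := right_ne_zero_of_mul hi
  refine ⟨(i : G → ℂ), i.2, ?_, k i, hk i, hki, ?_⟩
  · have h7 : classInner Ψ (i : G → ℂ) = m i := by
      rw [hm]
      exact classInner_nat_decomp m _ i.2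
    rw [Cfsg.Agent.Lib.CharInd.frobenius _ _
      (isClassFunction_of_isCharacter (IsIrrCharacter.isCharacter i.2))] at h7
    intro h8
    rw [← classInner_conj_symm, h8] at h7
    simp only [map_zero] at h7
    exact hmi (by exact_mod_cast h7.symm)
  · rw [← h6]
    calc k i ≤ m i * k i := Nat.le_mul_of_pos_left _ (Nat.pos_of_ne_zero hmi)
      _ ≤ ∑ j, m j * k j := Finset.single_le_sum (f := fun j => m j * k j)
          (fun _ _ => Nat.zero_le _) (Finset.mem_univ i)

end Cfsg.Agent.Lib.BrolineChar
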