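import Mathlib

/-!
# The arithmetic of a character table with two special columns

This is the numerical heart of the theorem on involution centralizers of order eight.
-/

set_option autoImplicit false
set_option linter.unusedVariables false

namespace Cfsg.Agent.Lib.D8CentArith

/-- First numerical case. -/
theorem num_plus (m h : ℤ) (hh : 0 ≤ h) (hm : Odd m)
    (heq : m * (h + 1) ^ 2 = 4 * (2 * h + 1) * (4 * h + 3)) : h = 1 ∧ m = 21 := by
  have c1 : IsCoprime (h + 1) (2 * h + 1) := ⟨2, -1, by ring⟩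
  have c2 : IsCoprime (h + 1) (4 * h + 3) := ⟨4, -1, by ring⟩
  have c3 : IsCoprime ((h + 1) ^ 2) ((2 * h + 1) * (4 * h + 3)) :=
    (IsCoprime.mul_right c1 c2).pow_left
  have hd : (h + 1) ^ 2 ∣ 4 * ((2 * h + 1) * (4 * h + 3)) := ⟨m, by rw [← mul_assoc, ← heq]; ring⟩
  have hd2 : (h + 1) ^ 2 ∣ 4 := c3.dvd_of_dvd_mul_right hd
  have hle := Int.le_of_dvd (by norm_num) hd2
  have h2 : h ≤ 1 := by nlinarith
  have h3 : h = 0 ∨ h = 1 := by omega
  rcases h3 with rfl | rfl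
  · exfalso
    have : m = 12 := by linarith
    subst this
    exact absurd hm (by decide)
  · refine ⟨rfl, ?_⟩
    linarith

/-- Second numerical case. -/
theorem num_minus (m h : ℤ) (hh : 0 ≤ h) (hm : Odd m)
    (heq : m * (h) ^ 2 = 4 * (2 * h + 1) * (4 * h + 1)) : h = 2 ∧ m = 45 := by
  have c1 : IsCoprime h (2 * h + 1) := ⟨-2, 1, by ring⟩
  have c2 : IsCoprime h (4 * h + 1) := ⟨-4, 1, by ring⟩
  have c3 : IsCoprime (h ^ 2) ((2 * h + 1) * (4 * h + 1)) :=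
    (IsCoprime.mul_right c1 c2).pow_left
  have hd : h ^ 2 ∣ 4 * ((2 * h + 1) * (4 * h + 1)) := ⟨m, by rw [← mul_assoc, ← heq]; ring⟩
  have hd2 : h ^ 2 ∣ 4 := c3.dvd_of_dvd_mul_right hd
  have hle := Int.le_of_dvd (by norm_num) hd2
  have h2 : h ≤ 2 := by nlinarith
  have h3 : h = 0 ∨ h = 1 ∨ h = 2 := by omega
  rcases h3 with rfl | rfl | rfl
  · norm_num at heq
  · exfalso
    have : m = 60 := by linarith
    subst this
    exact absurd hm (by decide)
  · refine ⟨rfl, ?_⟩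
    linarith

/-- The case analysis once the signs of the principal-block-like characters are normalized. -/
theorem core (N : ℕ) (hN : N % 16 = 8) (s d2 d3 η f1 f2 f3 f4 : ℤ)
    (hs : s = 1 ∨ s = -1) (hd2 : d2 = 1 ∨ d2 = -1) (hd3 : d3 = 1 ∨ d3 = -1) (hη : η = 1 ∨ η = -1)
    (p1 : 0 < f1) (p2 : 0 < f2) (p3 : 0 < f3) (p4 : 0 < f4)
    (o2 : Odd f2)
    (e5 : 1 + s * f1 + d2 * f2 + d3 * f3 = 0)
    (e4 : 1 + s * f1 - d2 * f2 - d3 * f3 + 2 * η * f4 = 0)
    (e7 : (N : ℚ) * (1 + s / f1 + d2 / f2 + d3 / f3) = 256)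
    (e6 : (N : ℚ) * (1 + s / f1 - d2 / f2 - d3 / f3 + 8 * η / f4) = 256) :
    N = 168 ∨ N = 360 := by
  have hNpos : (N : ℚ) ≠ 0 := by
    have : N ≠ 0 := by rintro rfl; simp at hN
    exact_mod_cast this
  have q1 : (f1 : ℚ) ≠ 0 := by exact_mod_cast p1.ne'
  have q2 : (f2 : ℚ) ≠ 0 := by exact_mod_cast p2.ne'
  have q3 : (f3 : ℚ) ≠ 0 := by exact_mod_cast p3.ne'
  have q4 : (f4 : ℚ) ≠ 0 := by exact_mod_cast p4.ne'
  have sq2 : d2 * d2 = 1 := by rcases hd2 with rfl | rfl <;> norm_num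
  have sq3 : d3 * d3 = 1 := by rcases hd3 with rfl | rfl <;> norm_num
  have sqη : η * η = 1 := by rcases hη with rfl | rfl <;> norm_num
  -- linear relation
  have l1 : η * f4 = d2 * f2 + d3 * f3 := by linarith
  -- reciprocal relation
  have r1 : (d2 : ℚ) / f2 + d3 / f3 = 4 * η / f4 := by
    have := mul_left_cancel₀ hNpos (e7.trans e6.symm)
    have h8 : 8 * (η : ℚ) / f4 = 2 * (4 * η / f4) := by ring
    rw [h8] at this
    linarith
  have r2 : (f4 : ℚ) * (d2 * f3 + d3 * f2) = 4 * η * f2 * f3 := by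
    field_simp at r1
    linarith
  have r3 : f4 * (d2 * f3 + d3 * f2) = 4 * η * f2 * f3 := by exact_mod_cast r2
  have r4 : (d2 * f2 + d3 * f3) * (d2 * f3 + d3 * f2) = 4 * f2 * f3 := by
    rw [← l1]
    calc η * f4 * (d2 * f3 + d3 * f2) = η * (f4 * (d2 * f3 + d3 * f2)) := by ring
      _ = (η * η) * (4 * f2 * f3) := by rw [r3]; ring
      _ = _ := by rw [sqη]; ring
  have r5 : (d2 * d3) * (f2 ^ 2 + f3 ^ 2) = 2 * f2 * f3 := by
    have : (d2 * f2 + d3 * f3) * (d2 * f3 + d3 * f2) =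
        (d2 * d2) * (f2 * f3) + (d3 * d3) * (f2 * f3) + (d2 * d3) * (f2 ^ 2 + f3 ^ 2) := by ring
    rw [this, sq2, sq3] at r4
    linarith
  have hd23 : d3 = d2 ∧ f3 = f2 := by
    rcases hd2 with rfl | rfl <;> rcases hd3 with rfl | rfl
    · refine ⟨rfl, ?_⟩
      have : (f3 - f2) ^ 2 = 0 := by nlinarith
      have := pow_eq_zero_iff (two_ne_zero) |>.mp this
      linarith
    · exfalso; nlinarith [mul_pos p2 p3, sq_nonneg f2, sq_nonneg f3]
    · exfalso; nlinarith [mul_pos p2 p3, sq_nonneg f2, sq_nonneg f3]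
    · refine ⟨rfl, ?_⟩
      have : (f3 - f2) ^ 2 = 0 := by nlinarith
      have := pow_eq_zero_iff (two_ne_zero) |>.mp this
      linarith
  obtain ⟨rfl, rfl⟩ := hd23
  -- write `N = 8 m`
  obtain ⟨q, hq⟩ : ∃ q : ℕ, N = 8 * (2 * q + 1) := ⟨N / 16, by omega⟩
  have hNq : (N : ℚ) = 8 * (2 * q + 1) := by rw [hq]; push_cast; ring
  obtain ⟨h, hh⟩ := o2
  subst hh
  have hnn : 0 ≤ h := by omega
  rcases hd2 with rfl | rfl
  · -- `δ = 1`: `s = -1`, `f1 = 2 f + 1`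
    have hs1 : s = -1 := by
      rcases hs with rfl | rfl
      · exfalso; nlinarith
      · rfl
    subst hs1
    have hf1 : f1 = 2 * (2 * h + 1) + 1 := by linarith
    subst hf1
    rw [hNq] at e7
    push_cast at e7 q1 q3
    have e8 : ((2 * q + 1 : ℚ)) * ((h : ℚ) + 1) ^ 2 = 4 * (2 * h + 1) * (4 * h + 3) := by
      have hne1 : (2 * (2 * (h : ℚ) + 1) + 1) ≠ 0 := q1
      have hne2 : (2 * (h : ℚ) + 1) ≠ 0 := q3
      field_simp at e7
      nlinarith [e7]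
    have e9 : ((2 * (q : ℤ) + 1)) * (h + 1) ^ 2 = 4 * (2 * h + 1) * (4 * h + 3) := by
      exact_mod_cast e8
    obtain ⟨-, hm⟩ := num_plus _ h hnn ⟨(q : ℤ), rfl⟩ e9
    left
    have : q = 10 := by omega
    rw [hq, this]
  · -- `δ = -1`: `s = 1`, `f1 = 2 f - 1`
    have hs1 : s = 1 := by
      rcases hs with rfl | rfl
      · rfl
      · exfalso; nlinarith
    subst hs1
    have hf1 : f1 = 2 * (2 * h + 1) - 1 := by linarith
    subst hf1
    rw [hNq] at e7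
    push_cast at e7 q1 q3
    have e8 : ((2 * q + 1 : ℚ)) * (h : ℚ) ^ 2 = 4 * (2 * h + 1) * (4 * h + 1) := by
      have hne1 : (2 * (2 * (h : ℚ) + 1) - 1) ≠ 0 := q1
      have hne2 : (2 * (h : ℚ) + 1) ≠ 0 := q3
      field_simp at e7
      nlinarith [e7]
    have e9 : ((2 * (q : ℤ) + 1)) * h ^ 2 = 4 * (2 * h + 1) * (4 * h + 1) := by
      exact_mod_cast e8
    obtain ⟨-, hm⟩ := num_minus _ h hnn ⟨(q : ℤ), rfl⟩ e9
    right
    have : q = 22 := by omega
    rw [hq, this]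

theorem core1 (N : ℕ) (hN : N % 16 = 8) (s d2 d3 α f1 f2 f3 f4 : ℤ)
    (hs : s = 1 ∨ s = -1) (hd2 : d2 = 1 ∨ d2 = -1) (hd3 : d3 = 1 ∨ d3 = -1) (hα : α = 2 ∨ α = -2)
    (p1 : 0 < f1) (p2 : 0 < f2) (p3 : 0 < f3) (p4 : 0 < f4)
    (o2 : Odd f2)
    (e5 : 1 + f1 * s + f2 * d2 + f3 * d3 = 0)
    (e4 : 1 + f1 * s + f2 * (-d2) + f3 * (-d3) + f4 * α = 0)
    (e7 : (N : ℚ) * (1 + s / f1 + d2 / f2 + d3 / f3) = 256)
    (e6 : (N : ℚ) * (1 + s / f1 + (-d2 : ℤ) / f2 + (-d3 : ℤ) / f3 + (α : ℚ) ^ 2 * α / f4) = 256) :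
    N = 168 ∨ N = 360 := by
  obtain ⟨η, hη, rfl⟩ : ∃ η : ℤ, (η = 1 ∨ η = -1) ∧ α = 2 * η := by
    rcases hα with rfl | rfl
    · exact ⟨1, Or.inl rfl, by norm_num⟩
    · exact ⟨-1, Or.inr rfl, by norm_num⟩
  refine core N hN s d2 d3 η f1 f2 f3 f4 hs hd2 hd3 hη p1 p2 p3 p4 o2 (by linarith) (by linarith) e7 ?_
  rw [← e6]
  congr 1
  have hsq : (η : ℚ) ^ 2 = 1 := by
    rcases hη with rfl | rfl <;> norm_num
  push_cast
  have : (2 * (η : ℚ)) ^ 2 * (2 * η) = 8 * η := by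
    have : (2 * (η : ℚ)) ^ 2 * (2 * η) = 8 * ((η : ℚ) ^ 2 * η) := by ring
    rw [this, hsq, one_mul]
  rw [this]
  ring

theorem core2 (N : ℕ) (hN : N % 16 = 8) (a1 a2 a3 b1 b2 b3 α f1 f2 f3 f4 : ℤ)
    (ha1 : a1 = 1 ∨ a1 = -1) (ha2 : a2 = 1 ∨ a2 = -1) (ha3 : a3 = 1 ∨ a3 = -1)
    (hb1 : b1 = 1 ∨ b1 = -1) (hb2 : b2 = 1 ∨ b2 = -1) (hb3 : b3 = 1 ∨ b3 = -1)
    (hα : α = 2 ∨ α = -2)
    (p1 : 0 < f1) (p2 : 0 < f2) (p3 : 0 < f3) (p4 : 0 < f4)
    (o1 : Odd f1) (o2 : Odd f2) (o3 : Odd f3)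
    (e3 : 1 + a1 * b1 + a2 * b2 + a3 * b3 = 0)
    (e4 : 1 + f1 * a1 + f2 * a2 + f3 * a3 + f4 * α = 0)
    (e5 : 1 + f1 * b1 + f2 * b2 + f3 * b3 = 0)
    (e6 : (N : ℚ) * (1 + a1 / f1 + a2 / f2 + a3 / f3 + (α : ℚ) ^ 2 * α / f4) = 256)
    (e7 : (N : ℚ) * (1 + b1 / f1 + b2 / f2 + b3 / f3) = 256) :
    N = 168 ∨ N = 360 := by
  have key : (a1 = b1 ∧ a2 = -b2 ∧ a3 = -b3) ∨ (a2 = b2 ∧ a1 = -b1 ∧ a3 = -b3) ∨
      (a3 = b3 ∧ a1 = -b1 ∧ a2 = -b2) := by
    rcases ha1 with rfl | rfl <;> rcases ha2 with rfl | rfl <;> rcases ha3 with rfl | rfl <;>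
    rcases hb1 with rfl | rfl <;> rcases hb2 with rfl | rfl <;> rcases hb3 with rfl | rfl <;>
    simp at e3 ⊢
  rcases key with ⟨rfl, rfl, rfl⟩ | ⟨rfl, rfl, rfl⟩ | ⟨rfl, rfl, rfl⟩
  · refine core1 N hN a1 b2 b3 α f1 f2 f3 f4 ha1 hb2 hb3 hα p1 p2 p3 p4 o2 e5 e4 e7 e6
  · refine core1 N hN a2 b1 b3 α f2 f1 f3 f4 ha2 hb1 hb3 hα p2 p1 p3 p4 o1 (by linarith) (by linarith)
      (by rw [← e7]; congr 1; ring) (by rw [← e6]; congr 1; ring)
  · refine core1 N hN a3 b1 b2 α f3 f1 f2 f4 ha3 hb1 hb2 hα p3 p1 p2 p4 o1 (by linarith) (by linarith)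
      (by rw [← e7]; congr 1; ring) (by rw [← e6]; congr 1; ring)

/-- Finite sums supported on five given indices. -/
theorem sum_five {ι R : Type*} [Fintype ι] [DecidableEq ι] [AddCommMonoid R] (g : ι → R)
    (i0 i1 i2 i3 i4 : ι) (h01 : i0 ≠ i1) (h02 : i0 ≠ i2) (h03 : i0 ≠ i3) (h04 : i0 ≠ i4)
    (h12 : i1 ≠ i2) (h13 : i1 ≠ i3) (h14 : i1 ≠ i4) (h23 : i2 ≠ i3) (h24 : i2 ≠ i4) (h34 : i3 ≠ i4)
    (hg : ∀ i, i ≠ i0 → i ≠ i1 → i ≠ i2 → i ≠ i3 → i ≠ i4 → g i = 0) :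
    ∑ i, g i = g i0 + (g i1 + (g i2 + (g i3 + g i4))) := by
  have hs : ∑ i ∈ ({i0, i1, i2, i3, i4} : Finset ι), g i = ∑ i, g i := by
    apply Finset.sum_subset (Finset.subset_univ _)
    intro i _ hi
    simp only [Finset.mem_insert, Finset.mem_singleton, not_or] at hi
    exact hg i hi.1 hi.2.1 hi.2.2.1 hi.2.2.2.1 hi.2.2.2.2
  rw [← hs]
  rw [Finset.sum_insert (by simp [h01, h02, h03, h04]), Finset.sum_insert (by simp [h12, h13, h14]),
    Finset.sum_insert (by simp [h23, h24]), Finset.sum_insert (by simp [h34]),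
    Finset.sum_singleton]

theorem arith {ι : Type*} [Fintype ι] (A B F : ι → ℤ) (i₀ : ι) (hF : ∀ i, 0 < F i)
    (hA₀ : A i₀ = 1) (hB₀ : B i₀ = 1) (hF₀ : F i₀ = 1)
    (hAB : ∀ i, Even (A i - B i)) (hBF : ∀ i, Even (B i - F i))
    (h1 : ∑ i, A i ^ 2 = 8) (h2 : ∑ i, B i ^ 2 = 4) (h3 : ∑ i, A i * B i = 0)
    (h4 : ∑ i, F i * A i = 0) (h5 : ∑ i, F i * B i = 0)
    (N : ℕ) (hN : N % 16 = 8)
    (h6 : (N : ℚ) * ∑ i, (A i : ℚ) ^ 2 * A i / F i = 256)
    (h7 : (N : ℚ) * ∑ i, (A i : ℚ) ^ 2 * B i / F i = 256) :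
    N = 168 ∨ N = 360 := by
  classical
  -- values of `B`
  have hBle : ∀ i, i ≠ i₀ → B i ^ 2 + 1 ≤ 4 := by
    intro i hi
    have h := Finset.sum_le_sum_of_subset_of_nonneg (f := fun i => B i ^ 2)
      (Finset.subset_univ ({i, i₀} : Finset ι)) (fun j _ _ => sq_nonneg _)
    rw [Finset.sum_pair hi, h2] at h
    simp only [hB₀] at h
    linarith
  have hBv : ∀ i, B i = 0 ∨ B i ^ 2 = 1 := by
    intro i
    by_cases hi : i = i₀
    · right; rw [hi, hB₀]; norm_num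
    · have := hBle i hi
      have h11 : B i ≤ 1 := by nlinarith
      have h12 : -1 ≤ B i := by nlinarith
      have : B i = 0 ∨ B i = 1 ∨ B i = -1 := by omega
      rcases this with h | h | h
      · exact Or.inl h
      · right; rw [h]; norm_num
      · right; rw [h]; norm_num
  let T : Finset ι := Finset.univ.filter fun i => B i ≠ 0
  have hTcard : T.card = 4 := by
    have : ∑ i, B i ^ 2 = ∑ i, if B i ≠ 0 then (1 : ℤ) else 0 := by
      refine Finset.sum_congr rfl fun i _ => ?_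
      rcases hBv i with h | h
      · simp [h]
      · have : B i ≠ 0 := by
          intro h0; rw [h0] at h; norm_num at h
        simp [this, h]
    rw [h2, Finset.sum_boole] at this
    have h4' : (T.card : ℤ) = 4 := this.symm
    exact_mod_cast h4'
  have hi₀T : i₀ ∈ T := by simp [T, hB₀]
  -- values of `A`
  have hAle : ∀ i, A i ^ 2 ≤ 8 := by
    intro i
    have := Finset.single_le_sum (f := fun i => A i ^ 2) (fun j _ => sq_nonneg _) (Finset.mem_univ i)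
    rw [h1] at this
    exact this
  have hAbd : ∀ i, -2 ≤ A i ∧ A i ≤ 2 := by
    intro i
    have := hAle i
    constructor <;> nlinarith
  have hAT : ∀ i ∈ T, A i = 1 ∨ A i = -1 := by
    intro i hi
    have hne : B i ≠ 0 := by simpa [T] using hi
    have hB1 : B i ^ 2 = 1 := (hBv i).resolve_left hne
    have hB2 : B i = 1 ∨ B i = -1 := by
      have : (B i - 1) * (B i + 1) = 0 := by ring_nf; linarith
      rcases mul_eq_zero.mp this with h | h
      · left; linarith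
      · right; linarith
    obtain ⟨k, hk⟩ := hAB i
    obtain ⟨h3, h4⟩ := hAbd i
    rcases hB2 with hb | hb <;> rw [hb] at hk <;> omega
  have hAnT : ∀ i, i ∉ T → A i = 0 ∨ A i = 2 ∨ A i = -2 := by
    intro i hi
    have hne : B i = 0 := by simpa [T] using hi
    obtain ⟨k, hk⟩ := hAB i
    rw [hne] at hk
    obtain ⟨h3, h4⟩ := hAbd i
    omega
  let U : Finset ι := Finset.univ.filter fun i => i ∉ T ∧ A i ≠ 0
  have hUcard : U.card = 1 := by
    have hsplit : ∑ i, A i ^ 2 = ∑ i, ((if i ∈ T then (1 : ℤ) else 0) + 4 * (if i ∈ U then (1 : ℤ) else 0)) := by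
      refine Finset.sum_congr rfl fun i _ => ?_
      by_cases hi : i ∈ T
      · have hU : i ∉ U := by simp [U, hi]
        rcases hAT i hi with h | h <;> simp [h, hi, hU]
      · rcases hAnT i hi with h | h | h
        · have hU : i ∉ U := by simp [U, h]
          simp [h, hi, hU]
        · have hU : i ∈ U := by simp [U, h, hi]
          simp [h, hi, hU]
        · have hU : i ∈ U := by simp [U, h, hi]
          simp [h, hi, hU]
    rw [h1, Finset.sum_add_distrib, ← Finset.mul_sum, Finset.sum_ite_mem, Finset.sum_ite_mem] at hsplit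
    simp only [Finset.univ_inter, Finset.sum_const, smul_eq_mul, nsmul_eq_mul, mul_one, hTcard] at hsplit
    push_cast at hsplit
    have : (U.card : ℤ) = 1 := by linarith
    exact_mod_cast this
  obtain ⟨i4, hU⟩ := Finset.card_eq_one.mp hUcard
  have hi4 : i4 ∈ U := by rw [hU]; simp
  have hi4T : i4 ∉ T := by
    have : i4 ∈ U := hi4
    simp only [U, Finset.mem_filter, Finset.mem_univ, true_and] at this
    exact this.1
  have hi4A : A i4 ≠ 0 := by
    have : i4 ∈ U := hi4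
    simp only [U, Finset.mem_filter, Finset.mem_univ, true_and] at this
    exact this.2
  have hTe : (T.erase i₀).card = 3 := by rw [Finset.card_erase_of_mem hi₀T, hTcard]
  obtain ⟨i1, i2, i3, h12, h13, h23, hTe'⟩ := Finset.card_eq_three.mp hTe
  have hmem : ∀ i, i ∈ T ↔ i = i₀ ∨ i = i1 ∨ i = i2 ∨ i = i3 := by
    intro i
    constructor
    · intro hi
      by_cases h0 : i = i₀
      · exact Or.inl h0
      · have : i ∈ T.erase i₀ := Finset.mem_erase.mpr ⟨h0, hi⟩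
        rw [hTe'] at this
        simpa using Or.inr this
    · rintro (rfl | h)
      · exact hi₀T
      · have : i ∈ T.erase i₀ := by rw [hTe']; simpa using h
        exact (Finset.mem_erase.mp this).2
  have hi1T : i1 ∈ T := (hmem i1).mpr (by simp)
  have hi2T : i2 ∈ T := (hmem i2).mpr (by simp)
  have hi3T : i3 ∈ T := (hmem i3).mpr (by simp)
  have h01 : i₀ ≠ i1 := by
    have : i1 ∈ T.erase i₀ := by rw [hTe']; simp
    exact (Finset.mem_erase.mp this).1.symm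
  have h02 : i₀ ≠ i2 := by
    have : i2 ∈ T.erase i₀ := by rw [hTe']; simp
    exact (Finset.mem_erase.mp this).1.symm
  have h03 : i₀ ≠ i3 := by
    have : i3 ∈ T.erase i₀ := by rw [hTe']; simp
    exact (Finset.mem_erase.mp this).1.symm
  have h04 : i₀ ≠ i4 := fun h => hi4T (h ▸ hi₀T)
  have h14 : i1 ≠ i4 := fun h => hi4T (h ▸ hi1T)
  have h24 : i2 ≠ i4 := fun h => hi4T (h ▸ hi2T)
  have h34 : i3 ≠ i4 := fun h => hi4T (h ▸ hi3T)
  -- off the five, both `A` and `B` vanish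
  have hoffB : ∀ i, i ≠ i₀ → i ≠ i1 → i ≠ i2 → i ≠ i3 → B i = 0 := by
    intro i a b c d
    by_contra hne
    have : i ∈ T := by simp [T, hne]
    rcases (hmem i).mp this with h | h | h | h
    · exact a h
    · exact b h
    · exact c h
    · exact d h
  have hoffA : ∀ i, i ≠ i₀ → i ≠ i1 → i ≠ i2 → i ≠ i3 → i ≠ i4 → A i = 0 := by
    intro i a b c d f
    by_contra hne
    have hiT : i ∉ T := by
      intro hi
      rcases (hmem i).mp hi with h | h | h | h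
      · exact a h
      · exact b h
      · exact c h
      · exact d h
    have : i ∈ U := by simp [U, hne, hiT]
    rw [hU] at this
    exact f (by simpa using this)
  have hB4 : B i4 = 0 := by simpa [T] using hi4T
  have hBval : ∀ i ∈ T, B i = 1 ∨ B i = -1 := by
    intro i hi
    have hne : B i ≠ 0 := by simpa [T] using hi
    have hB1 : B i ^ 2 = 1 := (hBv i).resolve_left hne
    have : (B i - 1) * (B i + 1) = 0 := by ring_nf; linarith
    rcases mul_eq_zero.mp this with h | h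
    · left; linarith
    · right; linarith
  have hF1odd : ∀ i ∈ T, Odd (F i) := by
    intro i hi
    obtain ⟨k, hk⟩ := hBF i
    rcases hBval i hi with h | h <;> rw [h] at hk <;> exact ⟨-k - (if B i = 1 then 0 else 1) + 0, by
      rw [h] at *; simp <;> omega⟩
  -- expand the sums
  have e3 := h3
  rw [sum_five (fun i => A i * B i) i₀ i1 i2 i3 i4 h01 h02 h03 h04 h12 h13 h14 h23 h24 h34
    (fun i a b c d f => by simp [hoffA i a b c d f])] at e3
  have e4 := h4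
  rw [sum_five (fun i => F i * A i) i₀ i1 i2 i3 i4 h01 h02 h03 h04 h12 h13 h14 h23 h24 h34
    (fun i a b c d f => by simp [hoffA i a b c d f])] at e4
  have e5 := h5
  rw [sum_five (fun i => F i * B i) i₀ i1 i2 i3 i4 h01 h02 h03 h04 h12 h13 h14 h23 h24 h34
    (fun i a b c d f => by simp [hoffB i a b c d])] at e5
  have e6 := h6
  rw [sum_five (fun i => (A i : ℚ) ^ 2 * A i / F i) i₀ i1 i2 i3 i4 h01 h02 h03 h04 h12 h13 h14 h23 h24 h34
    (fun i a b c d f => by simp [hoffA i a b c d f])] at e6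
  have e7 := h7
  rw [sum_five (fun i => (A i : ℚ) ^ 2 * B i / F i) i₀ i1 i2 i3 i4 h01 h02 h03 h04 h12 h13 h14 h23 h24 h34
    (fun i a b c d f => by simp [hoffB i a b c d])] at e7
  simp only [hA₀, hB₀, hF₀, hB4] at e3 e4 e5 e6 e7
  have hα : A i4 = 2 ∨ A i4 = -2 := by
    rcases hAnT i4 hi4T with h | h | h
    · exact absurd h hi4A
    · exact Or.inl h
    · exact Or.inr h
  have a1 := hAT i1 hi1T
  have a2 := hAT i2 hi2T
  have a3 := hAT i3 hi3T
  have sq : ∀ i ∈ T, (A i : ℚ) ^ 2 = 1 := by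
    intro i hi
    rcases hAT i hi with h | h <;> rw [h] <;> norm_num
  rw [sq i1 hi1T, sq i2 hi2T, sq i3 hi3T] at e7
  have e6' : ∀ i ∈ T, (A i : ℚ) ^ 2 * A i / F i = A i / F i := by
    intro i hi
    rw [sq i hi, one_mul]
  rw [e6' i1 hi1T, e6' i2 hi2T, e6' i3 hi3T] at e6
  refine core2 N hN (A i1) (A i2) (A i3) (B i1) (B i2) (B i3) (A i4) (F i1) (F i2) (F i3) (F i4)
    a1 a2 a3 (hBval i1 hi1T) (hBval i2 hi2T) (hBval i3 hi3T) hα (hF _) (hF _) (hF _) (hF _)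
    (hF1odd _ hi1T) (hF1odd _ hi2T) (hF1odd _ hi3T) (by linarith) (by linarith) (by linarith)
    ?_ ?_
  · rw [← e6]
    congr 1
    norm_num
    ring
  · rw [← e7]
    congr 1
    norm_num
    ring

end Cfsg.Agent.Lib.D8CentArith
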