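import Mathlib

/-!
# Groups with an involution whose centralizer is dihedral of order eight: the group theory

All involutions are conjugate, and the relevant counts are those of the dihedral group.
-/

set_option autoImplicit false
set_option linter.unusedVariables false
set_option linter.unusedSectionVars false
set_option maxRecDepth 10000

namespace Cfsg.Agent.Lib.D8CentGroup

open Subgroup DihedralGroup

theorem dih_center : ∀ x : DihedralGroup 4, (∀ y : DihedralGroup 4, x * y = y * x) → x ≠ 1 →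
    x = r 2 := by decide

theorem dih_inv : ∀ x : DihedralGroup 4, x ^ 2 = 1 → x ≠ 1 → x = r 2 ∨ ∃ i, x = sr i := by decide

theorem dih_rot_inv : ∀ i : ZMod 4, (r i : DihedralGroup 4) ^ 2 = 1 → (r i : DihedralGroup 4) ≠ 1 →
    (r i : DihedralGroup 4) = r 2 := by decide

theorem card_comm_r1 : Fintype.card {x : DihedralGroup 4 // x * r 1 = r 1 * x} = 4 := by decide

theorem card_refl_r2 : Fintype.card {x : DihedralGroup 4 //
    (x ^ 2 = 1 ∧ x ≠ 1) ∧ ((x⁻¹ * r 2) ^ 2 = 1 ∧ x⁻¹ * r 2 ≠ 1)} = 4 := by decide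

theorem card_refl_r1 : Fintype.card {x : DihedralGroup 4 //
    (x ^ 2 = 1 ∧ x ≠ 1) ∧ ((x⁻¹ * r 1) ^ 2 = 1 ∧ x⁻¹ * r 1 ≠ 1)} = 4 := by decide

/-- The rotation subgroup. -/
def rotSub : Subgroup (DihedralGroup 4) where
  carrier := {x | ∃ i, x = r i}
  mul_mem' := by
    rintro _ _ ⟨i, rfl⟩ ⟨j, rfl⟩
    exact ⟨i + j, rfl⟩
  one_mem' := ⟨0, rfl⟩
  inv_mem' := by
    rintro _ ⟨i, rfl⟩
    exact ⟨-i, rfl⟩

theorem card_rot : Nat.card rotSub = 4 := by
  classical
  have h : Nat.card rotSub = Fintype.card (ZMod 4) := by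
    rw [← Nat.card_eq_fintype_card]
    refine Nat.card_congr ?_
    refine ⟨fun x => ?_, fun i => ⟨r i, i, rfl⟩, ?_, ?_⟩
    · obtain ⟨x, hx⟩ := x
      exact match x, hx with
        | r i, _ => i
        | sr i, h => absurd h (by rintro ⟨j, hj⟩; cases hj)
    · rintro ⟨x, hx⟩
      cases x with
      | r i => rfl
      | sr i => exact absurd hx (by rintro ⟨j, hj⟩; cases hj)
    · intro i
      rfl
  rw [h]
  rfl

section

variable {G : Type*} [Group G] {t : G} (e : centralizer ({t} : Set G) ≃* DihedralGroup 4)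

/-- The inverse of the isomorphism as a map into the whole group. -/
def inG (x : DihedralGroup 4) : G := ((e.symm x : centralizer ({t} : Set G)) : G)

@[simp] theorem inG_mul (x y : DihedralGroup 4) : inG e (x * y) = inG e x * inG e y := by
  simp [inG]

@[simp] theorem inG_one : inG e 1 = 1 := by simp [inG]

@[simp] theorem inG_inv (x : DihedralGroup 4) : inG e x⁻¹ = (inG e x)⁻¹ := by simp [inG]

@[simp] theorem inG_pow (x : DihedralGroup 4) (n : ℕ) : inG e (x ^ n) = (inG e x) ^ n := by simp [inG]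

theorem inG_inj {x y : DihedralGroup 4} (h : inG e x = inG e y) : x = y := by
  have := Subtype.ext h
  exact e.symm.injective this

theorem inG_eq_iff {x y : DihedralGroup 4} : inG e x = inG e y ↔ x = y :=
  ⟨inG_inj e, fun h => by rw [h]⟩

theorem inG_eq_one_iff {x : DihedralGroup 4} : inG e x = 1 ↔ x = 1 := by
  rw [← inG_one e, inG_eq_iff]

theorem inG_mem (x : DihedralGroup 4) : inG e x ∈ centralizer ({t} : Set G) := (e.symm x).2

theorem inG_comm (x : DihedralGroup 4) : inG e x * t = t * inG e x := by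
  have := inG_mem e x
  rw [mem_centralizer_singleton_iff] at this
  exact this

theorem exists_inG {g : G} (hg : g ∈ centralizer ({t} : Set G)) : ∃ x, g = inG e x :=
  ⟨e ⟨g, hg⟩, by simp [inG]⟩

theorem mem_tS : t ∈ centralizer ({t} : Set G) := by
  rw [mem_centralizer_singleton_iff]

omit e in
theorem t_ne_one (ht : orderOf t = 2) : t ≠ 1 := by
  rintro rfl
  simp at ht

omit e in
theorem t_sq (ht : orderOf t = 2) : t ^ 2 = 1 := by
  rw [← ht]; exact pow_orderOf_eq_one t

variable (ht : orderOf t = 2)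
include ht

/-- `t` corresponds to the central involution. -/
theorem inG_r2 : inG e (r 2) = t := by
  obtain ⟨x, hx⟩ := exists_inG e (mem_tS (t := t))
  have hc : ∀ y : DihedralGroup 4, x * y = y * x := by
    intro y
    apply inG_inj e
    rw [inG_mul, inG_mul, ← hx]
    exact (inG_comm e y).symm
  have hne : x ≠ 1 := by
    rintro rfl
    rw [inG_one] at hx
    exact t_ne_one ht hx
  rw [dih_center x hc hne] at hx
  exact hx.symm

include e

/-- A nontrivial central element of the centralizer is `t`. -/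
theorem eq_t_of_central {x : G} (hx : x ∈ centralizer ({t} : Set G)) (hne : x ≠ 1)
    (hc : ∀ y ∈ centralizer ({t} : Set G), x * y = y * x) : x = t := by
  obtain ⟨w, rfl⟩ := exists_inG e hx
  have hw : ∀ y : DihedralGroup 4, w * y = y * w := by
    intro y
    apply inG_inj e
    rw [inG_mul, inG_mul]
    exact hc _ (inG_mem e y)
  have hne' : w ≠ 1 := by
    rintro rfl
    exact hne (inG_one e)
  rw [dih_center w hw hne', inG_r2 e ht]

/-- The centralizer is self-normalizing. -/
theorem normalizer_le : normalizer (centralizer ({t} : Set G) : Set G) ≤ centralizer ({t} : Set G) := by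
  intro g hg
  have hmem : ∀ y, y ∈ centralizer ({t} : Set G) ↔ g * y * g⁻¹ ∈ centralizer ({t} : Set G) := by
    intro y
    exact (mem_normalizer_iff.mp hg) y
  have h1 : g * t * g⁻¹ ∈ centralizer ({t} : Set G) := (hmem t).mp mem_tS
  have h2 : g * t * g⁻¹ = t := by
    refine eq_t_of_central e ht h1 ?_ ?_
    · intro h
      have : t = 1 := by
        have h3 : g * t = g := by
          calc g * t = g * t * g⁻¹ * g := by group
            _ = g := by rw [h, one_mul]
        simpa using h3
      exact t_ne_one ht this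
    · intro y hy
      have h3 : g⁻¹ * y * g ∈ centralizer ({t} : Set G) := by
        rw [hmem]
        convert hy using 1
        group
      rw [mem_centralizer_singleton_iff] at h3
      calc g * t * g⁻¹ * y = g * (t * (g⁻¹ * y * g)) * g⁻¹ := by group
        _ = g * ((g⁻¹ * y * g) * t) * g⁻¹ := by rw [h3]
        _ = y * (g * t * g⁻¹) := by group
  rw [mem_centralizer_singleton_iff]
  calc g * t = (g * t * g⁻¹) * g := by group
    _ = t * g := by rw [h2]

end

section Finite

variable {G : Type*} [Group G] [Finite G] {t : G} (e : centralizer ({t} : Set G) ≃* DihedralGroup 4)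
  (ht : orderOf t = 2)

omit [Finite G] in
include e in
theorem card_S : Nat.card (centralizer ({t} : Set G)) = 8 := by
  rw [Nat.card_congr e.toEquiv, DihedralGroup.nat_card]

include e ht in
/-- `|G| ≡ 8 mod 16`. -/
theorem card_mod : Nat.card G % 16 = 8 := by
  haveI : Fact (Nat.Prime 2) := ⟨Nat.prime_two⟩
  have h1 : Nat.card (centralizer ({t} : Set G)) = 2 ^ 3 := by rw [card_S e]; norm_num
  have h2 := Sylow.card_normalizer_modEq_card h1
  have h3 : normalizer (centralizer ({t} : Set G) : Set G) = centralizer ({t} : Set G) :=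
    le_antisymm (normalizer_le e ht) le_normalizer
  rw [h3, card_S e] at h2
  have h4 : 8 % 2 ^ (3 + 1) = Nat.card G % 2 ^ (3 + 1) := h2
  omega

end Finite

section Perm

open Equiv Equiv.Perm

theorem perm_inv_card {α : Type*} [Fintype α] [DecidableEq α] [Nonempty α] (σ : Perm α)
    (hσ : σ ^ 2 = 1) (hfree : ∀ x, σ x ≠ x) :
    ∃ k, Fintype.card α = 2 * k ∧ sign σ = (-1) ^ k := by
  have hne : σ ≠ 1 := by
    rintro rfl
    obtain ⟨x⟩ := ‹Nonempty α›
    exact hfree x rfl
  have hord : orderOf σ = 2 := orderOf_eq_prime hσ hne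
  obtain ⟨n, hn⟩ := cycleType_prime_order (σ := σ) (by rw [hord]; exact Nat.prime_two)
  rw [hord] at hn
  refine ⟨n + 1, ?_, ?_⟩
  · have h1 := sum_cycleType σ
    have h2 : σ.support = Finset.univ := by
      ext x
      simp [hfree x]
    rw [h2, hn, Multiset.sum_replicate, Finset.card_univ] at h1
    simpa [mul_comm] using h1.symm
  · rw [sign_of_cycleType, hn, Multiset.sum_replicate, Multiset.card_replicate]
    have : (n + 1) • 2 + (n + 1) = 2 * (n + 1) + (n + 1) := by
      simp only [smul_eq_mul, mul_comm]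
    rw [this, pow_add, pow_mul]
    simp

end Perm

section Cosets

variable {G : Type*} [Group G] [Finite G]

theorem smul_coe_eq_iff (M : Subgroup G) (u g : G) :
    (u • (g : G ⧸ M)) = (g : G ⧸ M) ↔ g⁻¹ * u * g ∈ M := by
  change ((u * g : G) : G ⧸ M) = (g : G ⧸ M) ↔ _
  rw [QuotientGroup.eq]
  have : (u * g)⁻¹ * g = (g⁻¹ * u * g)⁻¹ * (g⁻¹ * g) * (g⁻¹ * g) * (g⁻¹ * g) * g⁻¹ * g := by
    group
  constructor
  · intro h
    have h2 : (g⁻¹ * u * g)⁻¹ = (u * g)⁻¹ * g := by group
    rw [← h2] at h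
    exact (M.inv_mem_iff).mp h
  · intro h
    have h2 : (u * g)⁻¹ * g = (g⁻¹ * u * g)⁻¹ := by group
    rw [h2]
    exact M.inv_mem h

theorem hom_trivial (hperf : commutator G = ⊤) (f : G →* ℤˣ) (g : G) : f g = 1 := by
  have h1 : commutator G ≤ f.ker := by
    rw [commutator_def, Subgroup.commutator_le]
    intro a _ b _
    rw [MonoidHom.mem_ker, map_commutatorElement, commutatorElement_eq_one_iff_commute]
    exact Commute.all _ _
  rw [hperf] at h1
  exact h1 (mem_top g)

/-- Thompson's transfer in its sign form. -/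
theorem exists_conj_mem (hperf : commutator G = ⊤) (M : Subgroup G) (k : ℕ) (hk : Odd k)
    (hidx : M.index = 2 * k) (u : G) (hu : u ^ 2 = 1) : ∃ g, g⁻¹ * u * g ∈ M := by
  classical
  by_contra hno
  push Not at hno
  haveI : Fintype (G ⧸ M) := Fintype.ofFinite _
  let τ : G →* Equiv.Perm (G ⧸ M) := MulAction.toPermHom G (G ⧸ M)
  have hσ : (τ u) ^ 2 = 1 := by rw [← map_pow, hu, map_one]
  have hfree : ∀ x, (τ u) x ≠ x := by
    intro x
    induction x using QuotientGroup.induction_on with
    | H g =>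
      intro h
      exact hno g ((smul_coe_eq_iff M u g).mp h)
  obtain ⟨k', hk', hs⟩ := perm_inv_card (τ u) hσ hfree
  have hc : Fintype.card (G ⧸ M) = M.index := by
    rw [Subgroup.index, Nat.card_eq_fintype_card]
  have hkk : k' = k := by omega
  subst hkk
  have h1 := hom_trivial hperf (Equiv.Perm.sign.comp τ) u
  have h2 : Equiv.Perm.sign (τ u) = 1 := h1
  rw [hs, hk.neg_one_pow] at h2
  exact absurd h2 (by decide)

end Cosets

section Main

variable {G : Type*} [Group G] [Finite G] {t : G} (e : centralizer ({t} : Set G) ≃* DihedralGroup 4)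
  (ht : orderOf t = 2)

include e ht in
/-- Every involution of a perfect group as above is conjugate to `t`. -/
theorem inv_conj_t (hperf : commutator G = ⊤) {u : G} (hu2 : u ^ 2 = 1) (hu1 : u ≠ 1) :
    ∃ g, g * t * g⁻¹ = u := by
  let M : Subgroup G := (rotSub.map e.symm.toMonoidHom).map (centralizer ({t} : Set G)).subtype
  have hMcard : Nat.card M = 4 := by
    have h1 : Nat.card M = Nat.card (rotSub.map e.symm.toMonoidHom) :=
      Subgroup.card_map_of_injective (Subtype.val_injective)
    have h2 : Nat.card (rotSub.map e.symm.toMonoidHom) = Nat.card rotSub :=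
      Subgroup.card_map_of_injective e.symm.injective
    rw [h1, h2, card_rot]
  have hmod := card_mod e ht
  have hidx : M.index * 4 = Nat.card G := by
    rw [← hMcard, mul_comm]
    exact Subgroup.card_mul_index M
  obtain ⟨q, hq⟩ : ∃ q, Nat.card G = 8 * (2 * q + 1) := ⟨Nat.card G / 16, by omega⟩
  have hidx2 : M.index = 2 * (2 * q + 1) := by omega
  obtain ⟨g, hg⟩ := exists_conj_mem hperf M (2 * q + 1) ⟨q, rfl⟩ hidx2 u hu2
  refine ⟨g, ?_⟩
  obtain ⟨y, ⟨x, ⟨i, rfl⟩, rfl⟩, hy⟩ := hg
  have hy' : g⁻¹ * u * g = inG e (r i) := hy.symm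
  have h1 : (inG e (r i)) ^ 2 = 1 := by
    rw [← hy']
    have : (g⁻¹ * u * g) ^ 2 = g⁻¹ * u ^ 2 * g := by simp [pow_two, mul_assoc]
    rw [this, hu2]
    group
  have h2 : inG e (r i) ≠ 1 := by
    rw [← hy']
    intro h
    apply hu1
    have : u = g * (g⁻¹ * u * g) * g⁻¹ := by group
    rw [this, h]
    group
  have h3 : (r i : DihedralGroup 4) ^ 2 = 1 := by
    apply inG_inj e
    rw [inG_pow, h1, inG_one]
  have h4 : (r i : DihedralGroup 4) ≠ 1 := by
    rintro h
    apply h2
    rw [h, inG_one]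
  rw [dih_rot_inv i h3 h4, inG_r2 e ht] at hy'
  rw [← hy']
  group

/-- Transport of counting problems into the dihedral group. -/
theorem card_transport (P : G → Prop) (hP : ∀ g, P g → g ∈ centralizer ({t} : Set G)) :
    Nat.card {g // P g} = Nat.card {x : DihedralGroup 4 // P (inG e x)} := by
  refine Nat.card_congr ⟨fun g => ⟨e ⟨g.1, hP _ g.2⟩, ?_⟩, fun x => ⟨inG e x.1, x.2⟩, ?_, ?_⟩
  · have : inG e (e ⟨g.1, hP _ g.2⟩) = g.1 := by simp [inG]
    rw [this]
    exact g.2
  · rintro ⟨g, hg⟩
    simp [inG]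
  · rintro ⟨x, hx⟩
    simp [inG]

/-- The element of order four. -/
def cc : G := inG e (r 1)

theorem r1_sq : (r 1 : DihedralGroup 4) ^ 2 = r 2 := by decide

include ht in
theorem cc_sq : (cc e) ^ 2 = t := by
  rw [cc, ← inG_pow, r1_sq, inG_r2 e ht]

include ht in
theorem cc_pow_four : (cc e) ^ 4 = 1 := by
  have : (cc e) ^ 4 = ((cc e) ^ 2) ^ 2 := by rw [← pow_mul]
  rw [this, cc_sq e ht, t_sq ht]

theorem cc_conj_inv : IsConj (cc e) (cc e)⁻¹ := by
  rw [isConj_iff]
  refine ⟨inG e (sr 0), ?_⟩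
  have h : (sr 0 : DihedralGroup 4) * r 1 * (sr 0)⁻¹ = (r 1)⁻¹ := by decide
  rw [cc, ← inG_inv, ← inG_inv, ← inG_mul, ← inG_mul, h]

include ht in
theorem card_C_cc : Nat.card (centralizer ({cc e} : Set G)) = 4 := by
  classical
  have h1 : Nat.card (centralizer ({cc e} : Set G)) = Nat.card {g : G // g * cc e = cc e * g} := by
    refine Nat.card_congr (Equiv.subtypeEquivRight fun g => ?_)
    rw [mem_centralizer_singleton_iff]
  rw [h1, card_transport e (fun g => g * cc e = cc e * g)]
  · have h2 : Nat.card {x : DihedralGroup 4 // inG e x * cc e = cc e * inG e x} =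
        Nat.card {x : DihedralGroup 4 // x * r 1 = r 1 * x} := by
      refine Nat.card_congr (Equiv.subtypeEquivRight fun x => ?_)
      rw [cc, ← inG_mul, ← inG_mul, inG_eq_iff]
    rw [h2, Nat.card_eq_fintype_card, card_comm_r1]
  · intro g hg
    have hg' : g * cc e = cc e * g := hg
    rw [mem_centralizer_singleton_iff, ← cc_sq e ht, pow_two, ← mul_assoc, hg', mul_assoc, hg',
      mul_assoc]

include e ht in
theorem not_conj_cc : ¬ IsConj t (cc e) := by
  intro h
  have h2 := h.pow 2
  rw [t_sq ht, cc_sq e ht, isConj_one_right] at h2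
  exact t_ne_one ht h2

include e ht in
theorem not_conj_one_t : ¬ IsConj t 1 := by
  intro h
  rw [isConj_one_left] at h
  exact t_ne_one ht h

include ht in
theorem not_conj_one_cc : ¬ IsConj (cc e) 1 := by
  intro h
  rw [isConj_one_left] at h
  have := cc_sq e ht
  rw [h, one_pow] at this
  exact t_ne_one ht this.symm

/-- An auxiliary predicate: both `u` and `u⁻¹ z` are involutions. -/
def PP (z u : G) : Prop := (u ^ 2 = 1 ∧ u ≠ 1) ∧ ((u⁻¹ * z) ^ 2 = 1 ∧ u⁻¹ * z ≠ 1)

/-- If `u` and `u⁻¹ z` are involutions then `u` inverts `z`. -/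
theorem PP_invert {z u : G} (h : PP z u) : u * z * u⁻¹ = z⁻¹ := by
  obtain ⟨⟨h1, -⟩, ⟨h2, -⟩⟩ := h
  have hu : u⁻¹ = u := by
    rw [eq_comm, ← mul_eq_one_iff_eq_inv, ← pow_two, h1]
  set w := u⁻¹ * z with hw
  have hw' : w⁻¹ = w := by
    rw [eq_comm, ← mul_eq_one_iff_eq_inv, ← pow_two, h2]
  have hz : z = u * w := by rw [hw]; group
  have huu : u * u = 1 := by rw [← pow_two, h1]
  rw [hz, mul_inv_rev, hu, hw', ← mul_assoc u u w, huu, one_mul]

include ht in
/-- The involutions occurring are in the centralizer of `t`. -/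
theorem PP_t_mem {u : G} (h : PP t u) : u ∈ centralizer ({t} : Set G) := by
  have h1 := PP_invert h
  rw [mem_centralizer_singleton_iff]
  have h2 : t⁻¹ = t := by
    rw [eq_comm, ← mul_eq_one_iff_eq_inv, ← pow_two, t_sq ht]
  rw [h2] at h1
  calc u * t = u * t * u⁻¹ * u := by group
    _ = t * u := by rw [h1]

include ht in
theorem PP_cc_mem {u : G} (h : PP (cc e) u) : u ∈ centralizer ({t} : Set G) := by
  have h1 := PP_invert h
  rw [mem_centralizer_singleton_iff]
  have h2 : u * t * u⁻¹ = t := by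
    have h3 : u * (cc e) ^ 2 * u⁻¹ = (u * cc e * u⁻¹) ^ 2 := by
      simp [pow_two, mul_assoc]
    rw [← cc_sq e ht, h3, h1, inv_pow, cc_sq e ht]
    rw [eq_comm, ← mul_eq_one_iff_eq_inv, ← pow_two, t_sq ht]
  calc u * t = u * t * u⁻¹ * u := by group
    _ = t * u := by rw [h2]

theorem PP_inG_iff (x w : DihedralGroup 4) :
    PP (inG e w) (inG e x) ↔ (x ^ 2 = 1 ∧ x ≠ 1) ∧ ((x⁻¹ * w) ^ 2 = 1 ∧ x⁻¹ * w ≠ 1) := by
  unfold PP
  rw [← inG_inv, ← inG_mul, ← inG_pow, ← inG_pow, ← inG_one e, inG_eq_iff, inG_eq_iff]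
  simp only [ne_eq, inG_one, inG_eq_one_iff]

include e ht in
theorem card_PP_t : Nat.card {u : G // PP t u} = 4 := by
  classical
  rw [card_transport e (PP t) (fun g hg => PP_t_mem ht hg)]
  have h2 : Nat.card {x : DihedralGroup 4 // PP t (inG e x)} = Fintype.card {x : DihedralGroup 4 //
      (x ^ 2 = 1 ∧ x ≠ 1) ∧ ((x⁻¹ * r 2) ^ 2 = 1 ∧ x⁻¹ * r 2 ≠ 1)} := by
    rw [← Nat.card_eq_fintype_card]
    refine Nat.card_congr (Equiv.subtypeEquivRight fun x => ?_)
    rw [← PP_inG_iff e x (r 2), inG_r2 e ht]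
  rw [h2]
  convert card_refl_r2

include ht in
theorem card_PP_cc : Nat.card {u : G // PP (cc e) u} = 4 := by
  classical
  rw [card_transport e (PP (cc e)) (fun g hg => PP_cc_mem e ht hg)]
  have h2 : Nat.card {x : DihedralGroup 4 // PP (cc e) (inG e x)} = Fintype.card {x : DihedralGroup 4 //
      (x ^ 2 = 1 ∧ x ≠ 1) ∧ ((x⁻¹ * r 1) ^ 2 = 1 ∧ x⁻¹ * r 1 ≠ 1)} := by
    rw [← Nat.card_eq_fintype_card]
    refine Nat.card_congr (Equiv.subtypeEquivRight fun x => ?_)
    rw [← PP_inG_iff e x (r 1), cc]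
  rw [h2]
  convert card_refl_r1

include e in
/-- The fibres of the conjugation map. -/
theorem card_fiber {u a₀ : G} (ha₀ : a₀ * t * a₀⁻¹ = u) : Nat.card {a : G // a * t * a⁻¹ = u} = 8 := by
  rw [← card_S e]
  refine Nat.card_congr ⟨fun a => ⟨a₀⁻¹ * a.1, ?_⟩, fun s => ⟨a₀ * s.1, ?_⟩, ?_, ?_⟩
  · rw [mem_centralizer_singleton_iff]
    have h : a.1 * t * a.1⁻¹ = a₀ * t * a₀⁻¹ := a.2.trans ha₀.symm
    have h1 : a.1 * t = a₀ * t * a₀⁻¹ * a.1 := by rw [← h]; group
    calc a₀⁻¹ * a.1 * t = a₀⁻¹ * (a.1 * t) := by group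
      _ = t * (a₀⁻¹ * a.1) := by rw [h1]; group
  · have h2 := s.2
    rw [mem_centralizer_singleton_iff] at h2
    rw [← ha₀]
    calc a₀ * s.1 * t * (a₀ * s.1)⁻¹ = a₀ * (s.1 * t) * (a₀ * s.1)⁻¹ := by group
      _ = a₀ * t * a₀⁻¹ := by rw [h2]; group
  · rintro ⟨a, ha⟩
    simp
  · rintro ⟨s, hs⟩
    simp

section Count

variable [Fintype G] (hperf : commutator G = ⊤)

open scoped Classical in
include e ht hperf in
/-- The count of pairs of conjugates of `t` with product `z`. -/
theorem count_eq (z : G) (hz : Nat.card {u : G // PP z u} = 4) :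
    ∑ a : G, ∑ b : G, (if z⁻¹ * (a * t * a⁻¹) * (b * t * b⁻¹) = 1 then 1 else 0) = 256 := by
  have ht1 := t_ne_one ht
  have ht2 := t_sq ht
  have hconj : ∀ a : G, ((a * t * a⁻¹) ^ 2 = 1 ∧ a * t * a⁻¹ ≠ 1) := by
    intro a
    constructor
    · have : (a * t * a⁻¹) ^ 2 = a * t ^ 2 * a⁻¹ := by simp [pow_two, mul_assoc]
      rw [this, ht2]; group
    · intro h
      apply ht1
      have : t = a⁻¹ * (a * t * a⁻¹) * a := by group
      rw [this, h]; group
  -- inner sum
  have hinner : ∀ a : G, ∑ b : G, (if z⁻¹ * (a * t * a⁻¹) * (b * t * b⁻¹) = 1 then 1 else 0) =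
      if PP z (a * t * a⁻¹) then 8 else 0 := by
    intro a
    set u := a * t * a⁻¹ with hu
    have h1 : ∀ b : G, z⁻¹ * u * (b * t * b⁻¹) = 1 ↔ b * t * b⁻¹ = u⁻¹ * z := by
      intro b
      constructor
      · intro h
        calc b * t * b⁻¹ = (z⁻¹ * u)⁻¹ * (z⁻¹ * u * (b * t * b⁻¹)) := by group
          _ = u⁻¹ * z := by rw [h]; group
      · intro h
        rw [h]; group
    simp only [h1]
    rw [Finset.sum_boole]
    by_cases hP : PP z u
    · rw [if_pos hP]
      obtain ⟨b₀, hb₀⟩ := inv_conj_t e ht hperf hP.2.1 hP.2.2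
      have := card_fiber e hb₀
      rw [Nat.card_eq_fintype_card, Fintype.card_subtype] at this
      rw [this]
      rfl
    · rw [if_neg hP]
      have h0 : Finset.univ.filter (fun b : G => b * t * b⁻¹ = u⁻¹ * z) = ∅ := by
        rw [Finset.filter_eq_empty_iff]
        intro b _ hb
        apply hP
        refine ⟨hconj a, ?_⟩
        rw [← hb]
        exact hconj b
      rw [h0]
      rfl
  simp only [hinner]
  rw [Finset.sum_ite, Finset.sum_const_zero, add_zero, Finset.sum_const, smul_eq_mul]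
  -- the number of `a`
  have hcard : (Finset.univ.filter fun a : G => PP z (a * t * a⁻¹)).card = 32 := by
    have hpp : (Finset.univ.filter (PP z)).card = 4 := by
      rw [← Fintype.card_subtype, ← Nat.card_eq_fintype_card]
      exact hz
    rw [Finset.card_eq_sum_card_fiberwise (f := fun a : G => a * t * a⁻¹)
      (t := Finset.univ.filter (PP z))]
    · have : ∀ u ∈ Finset.univ.filter (PP z),
          ((Finset.univ.filter fun a : G => PP z (a * t * a⁻¹)).filter
            (fun a => a * t * a⁻¹ = u)).card = 8 := by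
        intro u hu
        have hPu : PP z u := by simpa using hu
        obtain ⟨a₀, ha₀⟩ := inv_conj_t e ht hperf hPu.1.1 hPu.1.2
        have h8 := card_fiber e ha₀
        rw [Nat.card_eq_fintype_card, Fintype.card_subtype] at h8
        rw [← h8]
        congr 1
        ext a
        simp only [Finset.mem_filter, Finset.mem_univ, true_and]
        constructor
        · exact fun h => h.2
        · intro h
          exact ⟨by rw [h]; exact hPu, h⟩
      rw [Finset.sum_congr rfl this, Finset.sum_const, hpp]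
      rfl
    · intro a ha
      simpa using ha
  rw [hcard]

end Count

end Main

end Cfsg.Agent.Lib.D8CentGroup
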