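import Mathlib
import Cfsg.Agent.Lib.CharBasic
import Cfsg.Agent.Lib.CharInd
import Cfsg.Agent.Lib.CharValues
import Cfsg.Agent.Lib.CharAvg
import Cfsg.Agent.Lib.CharKernel
import Cfsg.Agent.Lib.D8CentArith
import Cfsg.Agent.Lib.D8CentGroup

/-!
# Groups with an involution whose centralizer is dihedral of order eight: the characters
-/

set_option autoImplicit false
set_option linter.unusedVariables false
set_option linter.unusedSectionVars false

namespace Cfsg.Agent.Lib.D8CentChar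

open Subgroup Cfsg Cfsg.Agent.Lib.CharBasic Cfsg.Agent.Lib.CharInd Cfsg.Agent.Lib.D8CentGroup
open scoped ComplexConjugate

/-- Distribution of a family of fourth roots of unity. -/
theorem fourth_roots {ι : Type*} (s : Finset ι) (μ : ι → ℂ) (hμ : ∀ i ∈ s, μ i ^ 4 = 1) :
    ∃ a b d f : ℕ, (s.card : ℂ) = a + b + d + f ∧ ∑ i ∈ s, μ i = (a : ℂ) - b + ((d : ℂ) - f) * Complex.I ∧
      ∑ i ∈ s, μ i ^ 2 = (a : ℂ) + b - d - f := by
  classical
  induction s using Finset.induction_on with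
  | empty => exact ⟨0, 0, 0, 0, by simp⟩
  | insert x s hx ih =>
    obtain ⟨a, b, d, f, h1, h2, h3⟩ := ih fun i hi => hμ i (Finset.mem_insert_of_mem hi)
    have hx4 := hμ x (Finset.mem_insert_self _ _)
    have hI : Complex.I ^ 2 = -1 := Complex.I_sq
    have hcases : μ x = 1 ∨ μ x = -1 ∨ μ x = Complex.I ∨ μ x = -Complex.I := by
      have : (μ x - 1) * ((μ x + 1) * ((μ x - Complex.I) * (μ x + Complex.I))) = 0 := by
        have : (μ x - 1) * ((μ x + 1) * ((μ x - Complex.I) * (μ x + Complex.I))) =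
            μ x ^ 4 - 1 + (μ x ^ 2 - 1) * (- (1 + Complex.I ^ 2)) := by ring
        rw [this, hx4, hI]; ring
      rcases mul_eq_zero.mp this with h | h
      · left; exact sub_eq_zero.mp h
      rcases mul_eq_zero.mp h with h | h
      · right; left; exact eq_neg_of_add_eq_zero_left h
      rcases mul_eq_zero.mp h with h | h
      · right; right; left; exact sub_eq_zero.mp h
      · right; right; right; exact eq_neg_of_add_eq_zero_left h
    rw [Finset.card_insert_of_notMem hx, Finset.sum_insert hx, Finset.sum_insert hx, h2, h3]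
    push_cast
    rw [h1]
    rcases hcases with h | h | h | h <;> rw [h]
    · exact ⟨a + 1, b, d, f, by push_cast; ring, by push_cast; ring, by push_cast; ring⟩
    · exact ⟨a, b + 1, d, f, by push_cast; ring, by push_cast; ring, by push_cast; ring⟩
    · exact ⟨a, b, d + 1, f, by push_cast; ring, by push_cast; ring, by push_cast; rw [hI]; ring⟩
    · exact ⟨a, b, d, f + 1, by push_cast; ring, by push_cast; ring, by
        push_cast
        rw [neg_sq, hI]
        ring⟩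

/-- Values of a character on an element of order dividing four which is real. -/
theorem char_values {G : Type*} [Group G] [Finite G] {χ : G → ℂ} (hχ : IsCharacter G χ) {c : G}
    (hc : c ^ 4 = 1) (hreal : IsConj c c⁻¹) :
    ∃ a b d : ℕ, χ 1 = (a : ℂ) + b + 2 * d ∧ χ c = (a : ℂ) - b ∧ χ (c ^ 2) = (a : ℂ) + b - 2 * d := by
  classical
  obtain ⟨n, ρ, rfl⟩ := id hχ
  have h4 : (ρ c) ^ 4 = 1 := by rw [← map_pow, hc, map_one]
  obtain ⟨B, μ, h1, h2⟩ := Cfsg.Agent.Lib.CharValues.exists_eigenbasis (ρ c) (by norm_num) h4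
  obtain ⟨a, b, d, f, h3, h5, h6⟩ := fourth_roots Finset.univ μ fun i _ => h2 i
  have hval : ρ.character c = ∑ i, μ i :=
    Cfsg.Agent.Lib.CharValues.trace_eq_sum_of_eigenbasis (ρ c) B μ h1
  have hval2 : ρ.character (c ^ 2) = ∑ i, μ i ^ 2 := by
    refine Cfsg.Agent.Lib.CharValues.trace_eq_sum_of_eigenbasis (ρ (c ^ 2)) B (fun i => μ i ^ 2) fun i => ?_
    rw [pow_two, map_mul, Module.End.mul_apply, h1, map_smul, h1, smul_smul, pow_two]
  have hone : ρ.character 1 = ((Finset.univ : Finset (Fin (Module.finrank ℂ (Fin n → ℂ)))).card : ℂ) := by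
    rw [char_one_eq_rep]
    simp
  have hconj : conj (ρ.character c) = ρ.character c := by
    rw [char_conj_eq_inv hχ]
    obtain ⟨h, hh⟩ := isConj_iff.mp hreal
    rw [← hh]
    exact isClassFunction_of_isCharacter hχ c h
  have hdf : (d : ℂ) = f := by
    rw [hval, h5] at hconj
    simp only [map_add, map_sub, map_mul, Complex.conj_I, Complex.conj_natCast] at hconj
    have h7 : 2 * (((d : ℂ) - f) * Complex.I) = 0 := by
      linear_combination -hconj
    have h8 : ((d : ℂ) - f) * Complex.I = 0 := by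
      simpa using h7
    have h9 := (mul_eq_zero.mp h8).resolve_right Complex.I_ne_zero
    exact sub_eq_zero.mp h9
  refine ⟨a, b, d, ?_, ?_, ?_⟩
  · rw [hone, h3, ← hdf]; ring
  · rw [hval, h5, hdf]; ring
  · rw [hval2, h6, ← hdf]; ring

section Formula

variable {G : Type*} [Group G] [Fintype G]

open scoped Classical in
/-- The structure constant formula, in the form of a double sum. -/
theorem struct_formula (t z : G) :
    (Nat.card G : ℂ) * ((∑ a : G, ∑ b : G, (if z⁻¹ * (a * t * a⁻¹) * (b * t * b⁻¹) = 1 then 1 else 0) : ℕ) : ℂ)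
      = (Nat.card G : ℂ) ^ 2 * ∑ χ : IrrCharacter G,
          (χ : G → ℂ) t ^ 2 * (χ : G → ℂ) z⁻¹ / (χ : G → ℂ) 1 := by
  set N : ℂ := (Nat.card G : ℂ) with hN
  have hstep : ∀ a b : G, N * ((if z⁻¹ * (a * t * a⁻¹) * (b * t * b⁻¹) = 1 then 1 else 0 : ℕ) : ℂ) =
      ∑ χ : IrrCharacter G, (χ : G → ℂ) 1 * (χ : G → ℂ) (z⁻¹ * (a * t * a⁻¹) * (b * t * b⁻¹)) := by
    intro a b
    rw [Cfsg.Agent.Lib.CharKernel.sum_irr_deg_mul]
    split_ifs <;> simp [hN]
  push_cast
  rw [Finset.mul_sum]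
  simp only [Finset.mul_sum]
  have h1 : ∀ a b : G, N * (if z⁻¹ * (a * t * a⁻¹) * (b * t * b⁻¹) = 1 then (1 : ℂ) else 0) =
      ∑ χ : IrrCharacter G, (χ : G → ℂ) 1 * (χ : G → ℂ) (z⁻¹ * (a * t * a⁻¹) * (b * t * b⁻¹)) := by
    intro a b
    rw [← hstep a b]
    split_ifs <;> simp
  simp only [h1]
  -- interchange
  have h2 : ∑ a : G, ∑ b : G, ∑ χ : IrrCharacter G,
      (χ : G → ℂ) 1 * (χ : G → ℂ) (z⁻¹ * (a * t * a⁻¹) * (b * t * b⁻¹)) =
      ∑ χ : IrrCharacter G, ∑ a : G, ((χ : G → ℂ) 1 * ∑ b : G,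
        (χ : G → ℂ) ((z⁻¹ * (a * t * a⁻¹)) * (b * t * b⁻¹))) := by
    simp only [Finset.mul_sum]
    symm
    rw [Finset.sum_comm]
    refine Finset.sum_congr rfl fun a _ => ?_
    rw [Finset.sum_comm]
  rw [h2]
  refine Finset.sum_congr rfl fun χ _ => ?_
  have hχ := χ.2
  have h3 : ∀ a : G, (χ : G → ℂ) 1 * ∑ b : G, (χ : G → ℂ) ((z⁻¹ * (a * t * a⁻¹)) * (b * t * b⁻¹)) =
      N * (χ : G → ℂ) (z⁻¹ * (a * t * a⁻¹)) * (χ : G → ℂ) t := fun a =>
    Cfsg.Agent.Lib.CharAvg.irr_avg hχ _ t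
  simp only [h3]
  have h4 := Cfsg.Agent.Lib.CharAvg.irr_avg hχ z⁻¹ t
  have h5 := Cfsg.Agent.Lib.CharAvg.irr_one_ne_zero hχ
  have h6 : ∑ a : G, (χ : G → ℂ) (z⁻¹ * (a * t * a⁻¹)) =
      N * (χ : G → ℂ) z⁻¹ * (χ : G → ℂ) t / (χ : G → ℂ) 1 := by
    rw [eq_div_iff h5, mul_comm, h4]
  rw [← Finset.sum_mul, ← Finset.mul_sum, h6]
  field_simp

end Formula

section Main

variable {G : Type*} [Group G] [Fintype G]

/-- The theorem: a perfect group with an involution whose centralizer is dihedral of order eight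
has order `168` or `360`. -/
theorem card_eq (hperf : commutator G = ⊤) (t : G) (ht : orderOf t = 2)
    (e : centralizer ({t} : Set G) ≃* DihedralGroup 4) : Nat.card G = 168 ∨ Nat.card G = 360 := by
  classical
  set c : G := cc e with hc
  have hc2 : c ^ 2 = t := cc_sq e ht
  have hc4 : c ^ 4 = 1 := cc_pow_four e ht
  have hcr : IsConj c c⁻¹ := cc_conj_inv e
  have hv : ∀ χ : IrrCharacter G, ∃ A B F : ℤ, (χ : G → ℂ) t = A ∧ (χ : G → ℂ) c = B ∧ (χ : G → ℂ) 1 = F ∧
      0 < F ∧ Even (A - B) ∧ Even (B - F) := by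
    intro χ
    obtain ⟨a, b, d, h1, h2, h3⟩ := char_values (IsIrrCharacter.isCharacter χ.2) hc4 hcr
    refine ⟨(a : ℤ) + b - 2 * d, (a : ℤ) - b, (a : ℤ) + b + 2 * d, ?_, ?_, ?_, ?_, ?_, ?_⟩
    · rw [← hc2, h3]; push_cast; ring
    · rw [h2]; push_cast; ring
    · rw [h1]; push_cast; ring
    · obtain ⟨n, hn, h4⟩ := Cfsg.Agent.Lib.CharAvg.irr_one_eq χ.2
      have h5 : (((a : ℤ) + b + 2 * d : ℤ) : ℂ) = ((n : ℤ) : ℂ) := by
        push_cast
        rw [← h1, h4]
      have h6 : (a : ℤ) + b + 2 * d = n := by exact_mod_cast h5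
      omega
    · exact ⟨(b : ℤ) - d, by ring⟩
    · exact ⟨-(b : ℤ) - d, by ring⟩
  choose A B F h1 h2 h3 h4 h5 h6 using hv
  let i₀ : IrrCharacter G := ⟨fun _ => 1, isIrrCharacter_one⟩
  have hA₀ : A i₀ = 1 := by
    have := h1 i₀
    have h : ((A i₀ : ℤ) : ℂ) = ((1 : ℤ) : ℂ) := by rw [← this]; simp [i₀]
    exact_mod_cast h
  have hB₀ : B i₀ = 1 := by
    have := h2 i₀
    have h : ((B i₀ : ℤ) : ℂ) = ((1 : ℤ) : ℂ) := by rw [← this]; simp [i₀]
    exact_mod_cast h
  have hF₀ : F i₀ = 1 := by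
    have := h3 i₀
    have h : ((F i₀ : ℤ) : ℂ) = ((1 : ℤ) : ℂ) := by rw [← this]; simp [i₀]
    exact_mod_cast h
  have hconjI : ∀ n : ℤ, conj (n : ℂ) = n := fun n => map_intCast (starRingEnd ℂ) n
  have s1 : ∑ χ, A χ ^ 2 = 8 := by
    have := sum_irr_mul_conj t t
    rw [if_pos (IsConj.refl t), card_S e] at this
    simp only [h1, hconjI] at this
    have h : ((∑ χ, A χ ^ 2 : ℤ) : ℂ) = ((8 : ℤ) : ℂ) := by
      push_cast
      have h8 : ((8 : ℕ) : ℂ) = 8 := by norm_num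
      rw [h8] at this
      rw [← this]
      refine Finset.sum_congr rfl fun χ _ => ?_
      ring
    exact_mod_cast h
  have s2 : ∑ χ, B χ ^ 2 = 4 := by
    have := sum_irr_mul_conj c c
    rw [if_pos (IsConj.refl c), hc, card_C_cc e ht, ← hc] at this
    simp only [h2, hconjI] at this
    have h : ((∑ χ, B χ ^ 2 : ℤ) : ℂ) = ((4 : ℤ) : ℂ) := by
      push_cast
      have h8 : ((4 : ℕ) : ℂ) = 4 := by norm_num
      rw [h8] at this
      rw [← this]
      refine Finset.sum_congr rfl fun χ _ => ?_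
      ring
    exact_mod_cast h
  have s3 : ∑ χ, A χ * B χ = 0 := by
    have := sum_irr_mul_conj t c
    rw [if_neg (not_conj_cc e ht)] at this
    simp only [h1, h2, hconjI] at this
    have h : ((∑ χ, A χ * B χ : ℤ) : ℂ) = ((0 : ℤ) : ℂ) := by
      push_cast
      exact this
    exact_mod_cast h
  have s4 : ∑ χ, F χ * A χ = 0 := by
    have := sum_irr_mul_conj t (1 : G)
    rw [if_neg (not_conj_one_t e ht)] at this
    simp only [h1, h3, hconjI] at this
    have h : ((∑ χ, F χ * A χ : ℤ) : ℂ) = ((0 : ℤ) : ℂ) := by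
      push_cast
      refine Eq.trans (Finset.sum_congr rfl fun χ _ => ?_) this
      ring
    exact_mod_cast h
  have s5 : ∑ χ, F χ * B χ = 0 := by
    have := sum_irr_mul_conj c (1 : G)
    rw [if_neg (not_conj_one_cc e ht)] at this
    simp only [h2, h3, hconjI] at this
    have h : ((∑ χ, F χ * B χ : ℤ) : ℂ) = ((0 : ℤ) : ℂ) := by
      push_cast
      refine Eq.trans (Finset.sum_congr rfl fun χ _ => ?_) this
      ring
    exact_mod_cast h
  have hNne : (Nat.card G : ℂ) ≠ 0 := by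
    exact_mod_cast (Nat.card_pos (α := G)).ne'
  have hmain : ∀ z : G, (∑ a : G, ∑ b : G, (if z⁻¹ * (a * t * a⁻¹) * (b * t * b⁻¹) = 1 then 1 else 0)) = 256 →
      (Nat.card G : ℂ) * ∑ χ : IrrCharacter G, (χ : G → ℂ) t ^ 2 * (χ : G → ℂ) z⁻¹ / (χ : G → ℂ) 1 = 256 := by
    intro z hz
    have := struct_formula t z
    have h7 : (Nat.card G : ℂ) * (256 : ℂ) = (Nat.card G : ℂ) ^ 2 * ∑ χ : IrrCharacter G,
          (χ : G → ℂ) t ^ 2 * (χ : G → ℂ) z⁻¹ / (χ : G → ℂ) 1 := by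
      rw [← this, hz]
      norm_num
    have h8 : (Nat.card G : ℂ) * ((Nat.card G : ℂ) * ∑ χ : IrrCharacter G,
          (χ : G → ℂ) t ^ 2 * (χ : G → ℂ) z⁻¹ / (χ : G → ℂ) 1) = (Nat.card G : ℂ) * (256 : ℂ) := by
      rw [h7]; ring
    exact mul_left_cancel₀ hNne h8
  have ht1 : t⁻¹ = t := by
    rw [eq_comm, ← mul_eq_one_iff_eq_inv, ← pow_two, t_sq ht]
  have s6 : (Nat.card G : ℚ) * ∑ χ, (A χ : ℚ) ^ 2 * A χ / F χ = 256 := by
    have h7 := hmain t (by
      convert count_eq e ht hperf t (card_PP_t e ht))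
    rw [ht1] at h7
    simp only [h1, h3] at h7
    have h : (((Nat.card G : ℚ) * ∑ χ, (A χ : ℚ) ^ 2 * A χ / F χ : ℚ) : ℂ) = ((256 : ℚ) : ℂ) := by
      push_cast
      exact h7
    exact_mod_cast h
  have s7 : (Nat.card G : ℚ) * ∑ χ, (A χ : ℚ) ^ 2 * B χ / F χ = 256 := by
    have h7 := hmain c (by
      convert count_eq e ht hperf c (card_PP_cc e ht))
    have hcinv : ∀ χ : IrrCharacter G, (χ : G → ℂ) c⁻¹ = B χ := by
      intro χ
      rw [← h2 χ]
      obtain ⟨h, hh⟩ := isConj_iff.mp hcr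
      rw [← hh]
      exact isClassFunction_of_isCharacter (IsIrrCharacter.isCharacter χ.2) c h
    simp only [h1, h3, hcinv] at h7
    have h : (((Nat.card G : ℚ) * ∑ χ, (A χ : ℚ) ^ 2 * B χ / F χ : ℚ) : ℂ) = ((256 : ℚ) : ℂ) := by
      push_cast
      exact h7
    exact_mod_cast h
  exact Cfsg.Agent.Lib.D8CentArith.arith A B F i₀ h4 hA₀ hB₀ hF₀ h5 h6 s1 s2 s3 s4 s5
    (Nat.card G) (card_mod e ht) s6 s7

end Main

end Cfsg.Agent.Lib.D8CentChar
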