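import Mathlib
import Cfsg.Agent.Lib.MiniTC

/-!
# Data for the coset enumerations of the amalgam of two copies of the symmetric group on four letters
over the dihedral group of order eight.

Generated by a script: the trees and the traces of the scans.
-/

set_option autoImplicit false
set_option maxRecDepth 100000

namespace Cfsg.Agent.Lib.D8A6Data

open Cfsg.Agent.Lib.MiniTC

/-- The inverses of the letters `a, b, c, c⁻¹, d, d⁻¹`. -/
def invL : ℕ → ℕ
  | 0 => 0
  | 1 => 1
  | 2 => 3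
  | 3 => 2
  | 4 => 5
  | 5 => 4
  | n + 6 => n + 6

/-- The parameters. -/
def cfg : Cfg := ⟨6, invL, 40, 1000000, 1000000⟩

/-- The letters. -/
def lets : List ℕ := [0, 1, 2, 3, 4, 5]

/-- The relators of the amalgam. -/
def baseR : List (List ℕ) :=
  [[0, 1, 0, 1, 0, 1, 0, 1], [2, 2, 2], [1, 2, 1, 2], [2, 0, 1, 0, 1, 3, 0], [2, 0, 3, 0, 1, 0, 1, 0], [4, 4, 4], [0, 4, 0, 4], [4, 0, 1, 0, 1, 5, 1], [4, 1, 5, 0, 1, 0, 1, 1]]

/-- A word repeated. -/
def rep (w : List ℕ) : ℕ → List ℕ
  | 0 => []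
  | n + 1 => w ++ rep w n

/-- The relators with the orders of `c d` and `c d⁻¹`. -/
def relsOf (n m : ℕ) : List (List ℕ) := baseR ++ [rep [2, 4] n, rep [2, 5] m]

/-- The relators and the generators of the subgroup. -/
def relsSub (n m : ℕ) : List (List ℕ) := relsOf n m ++ [[0], [1], [2]]

/-- The check of the collapse: the letter `d` fixes the base node. -/
def collapsed (n m : ℕ) (tree : List (ℕ × ℕ)) (trace : List ℕ) : Bool :=
  let s := final cfg lets (relsSub n m) 11 tree trace
  match qEdge cfg s 0 4 with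
  | 0 => false
  | d + 1 => Nat.beq d 0

/-- The tree of the case `1, 1`. -/
def tree11 : List (ℕ × ℕ) := [(0,4),(1,4),(2,1),(3,0)]

/-- The trace of the case `1, 1`. -/
def trace11 : List ℕ := [11,12,13,5,6,7,8,9]

theorem check11 : collapsed 1 1 tree11 trace11 = true := by decide +kernel

/-- The tree of the case `1, 2`. -/
def tree12 : List (ℕ × ℕ) := [(0,4),(1,4),(2,1),(3,0)]

/-- The trace of the case `1, 2`. -/
def trace12 : List ℕ := [11,12,13,5,6,7,8,9]

theorem check12 : collapsed 1 2 tree12 trace12 = true := by decide +kernel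

/-- The tree of the case `1, 3`. -/
def tree13 : List (ℕ × ℕ) := [(0,4),(1,4),(2,1),(3,0)]

/-- The trace of the case `1, 3`. -/
def trace13 : List ℕ := [11,12,13,5,6,7,8,9]

theorem check13 : collapsed 1 3 tree13 trace13 = true := by decide +kernel

/-- The tree of the case `1, 4`. -/
def tree14 : List (ℕ × ℕ) := [(0,4),(1,4),(2,1),(3,0)]

/-- The trace of the case `1, 4`. -/
def trace14 : List ℕ := [11,12,13,5,6,7,8,9]

theorem check14 : collapsed 1 4 tree14 trace14 = true := by decide +kernel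

/-- The tree of the case `1, 5`. -/
def tree15 : List (ℕ × ℕ) := [(0,4),(1,4),(2,1),(3,0)]

/-- The trace of the case `1, 5`. -/
def trace15 : List ℕ := [11,12,13,5,6,7,8,9]

theorem check15 : collapsed 1 5 tree15 trace15 = true := by decide +kernel

/-- The tree of the case `2, 1`. -/
def tree21 : List (ℕ × ℕ) := [(0,4),(1,4),(2,1),(3,0)]

/-- The trace of the case `2, 1`. -/
def trace21 : List ℕ := [11,12,13,5,6,7,8,9,10]

theorem check21 : collapsed 2 1 tree21 trace21 = true := by decide +kernel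

/-- The tree of the case `2, 2`. -/
def tree22 : List (ℕ × ℕ) := [(0,4),(1,4),(2,1),(3,0)]

/-- The trace of the case `2, 2`. -/
def trace22 : List ℕ := [11,12,13,5,6,7,8,9,10,257]

theorem check22 : collapsed 2 2 tree22 trace22 = true := by decide +kernel

/-- The tree of the case `2, 3`. -/
def tree23 : List (ℕ × ℕ) := [(0,4),(1,4),(2,1),(3,0),(2,2),(5,5)]

/-- The trace of the case `2, 3`. -/
def trace23 : List ℕ := [11,12,13,5,6,7,8,9,10,257,258]

theorem check23 : collapsed 2 3 tree23 trace23 = true := by decide +kernel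

/-- The tree of the case `2, 4`. -/
def tree24 : List (ℕ × ℕ) := [(0,4),(1,4),(2,1),(3,0),(2,2),(5,5),(6,2),(7,5)]

/-- The trace of the case `2, 4`. -/
def trace24 : List ℕ := [11,12,13,5,6,7,8,9,10,257,258]

theorem check24 : collapsed 2 4 tree24 trace24 = true := by decide +kernel

/-- The tree of the case `2, 5`. -/
def tree25 : List (ℕ × ℕ) := [(0,4),(1,4),(2,1),(3,0),(2,2),(5,5),(6,2),(7,5),(8,2),(9,5)]

/-- The trace of the case `2, 5`. -/
def trace25 : List ℕ := [11,12,13,5,6,7,8,9,10,257,258]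

theorem check25 : collapsed 2 5 tree25 trace25 = true := by decide +kernel

/-- The tree of the case `3, 1`. -/
def tree31 : List (ℕ × ℕ) := [(0,4),(1,4),(2,1),(3,0),(1,2),(5,4)]

/-- The trace of the case `3, 1`. -/
def trace31 : List ℕ := [11,12,13,5,6,7,8,9,10]

theorem check31 : collapsed 3 1 tree31 trace31 = true := by decide +kernel

/-- The tree of the case `3, 2`. -/
def tree32 : List (ℕ × ℕ) := [(0,4),(1,4),(2,1),(3,0),(1,2),(5,4)]

/-- The trace of the case `3, 2`. -/
def trace32 : List ℕ := [11,12,13,5,6,7,8,9,10,257,258]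

theorem check32 : collapsed 3 2 tree32 trace32 = true := by decide +kernel

/-- The tree of the case `3, 3`. -/
def tree33 : List (ℕ × ℕ) := [(0,4),(1,4),(2,1),(3,0),(1,2),(5,4),(2,2),(7,5),(5,0),(9,1),(10,0),(5,5),(12,2),(7,4),(14,2)]

/-- The trace of the case `3, 3`. -/
def trace33 : List ℕ := [11,12,13,5,6,7,8,9,10,257,258,259,260,266,513,514,515,521,1285,1286,1287]

theorem check33 : collapsed 3 3 tree33 trace33 = true := by decide +kernel

/-- The tree of the case `3, 4`. -/
def tree34 : List (ℕ × ℕ) := [(0,4),(1,4),(2,1),(3,0),(1,2),(5,4),(2,2),(7,5),(8,2),(9,5),(5,0),(11,1),(12,0),(5,5),(14,2),(15,5),(16,2),(7,4),(18,2)]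

/-- The trace of the case `3, 4`. -/
def trace34 : List ℕ := [11,12,13,5,6,7,8,9,10,257,258,259,260,266,513,514,515,521,1285,1286,1287]

theorem check34 : collapsed 3 4 tree34 trace34 = true := by decide +kernel

/-- The tree of the case `3, 5`. -/
def tree35 : List (ℕ × ℕ) := [(0,4),(1,4),(2,1),(3,0),(1,2),(5,4),(2,2),(7,5),(8,2),(9,5),(10,2),(11,5),(5,0),(13,1),(14,0),(5,5),(16,2),(17,5),(18,2),(19,5),(20,2),(7,4),(22,2)]

/-- The trace of the case `3, 5`. -/
def trace35 : List ℕ := [11,12,13,5,6,7,8,9,10,257,258,259,260,266,513,514,515,521,1285,1286,1287]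

theorem check35 : collapsed 3 5 tree35 trace35 = true := by decide +kernel

/-- The tree of the case `4, 1`. -/
def tree41 : List (ℕ × ℕ) := [(0,4),(1,4),(2,1),(3,0),(1,2),(5,4),(6,2),(7,4)]

/-- The trace of the case `4, 1`. -/
def trace41 : List ℕ := [11,12,13,5,6,7,8,9,10]

theorem check41 : collapsed 4 1 tree41 trace41 = true := by decide +kernel

/-- The tree of the case `4, 2`. -/
def tree42 : List (ℕ × ℕ) := [(0,4),(1,4),(2,1),(3,0),(1,2),(5,4),(6,2),(7,4)]

/-- The trace of the case `4, 2`. -/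
def trace42 : List ℕ := [11,12,13,5,6,7,8,9,10,257,258]

theorem check42 : collapsed 4 2 tree42 trace42 = true := by decide +kernel

/-- The tree of the case `4, 3`. -/
def tree43 : List (ℕ × ℕ) := [(0,4),(1,4),(2,1),(3,0),(1,2),(5,4),(6,2),(7,4),(2,2),(9,5),(5,0),(11,1),(12,0),(5,5),(14,2),(9,4),(16,2),(17,4),(18,2)]

/-- The trace of the case `4, 3`. -/
def trace43 : List ℕ := [11,12,13,5,6,7,8,9,10,257,258,259,260,266,513,514,515,521,1285,1286,1287]

theorem check43 : collapsed 4 3 tree43 trace43 = true := by decide +kernel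

/-- The tree of the case `4, 4`. -/
def tree44 : List (ℕ × ℕ) := [(0,4),(1,4),(2,1),(3,0),(1,2),(5,4),(6,2),(7,4),(2,2),(9,5),(10,2),(11,5),(5,0),(13,1),(14,0),(5,5),(16,2),(17,5),(18,2),(9,4),(20,2),(21,4),(22,2),(6,0),(24,1),(25,0),(11,2),(27,4),(28,2),(29,4),(23,2),(31,5),(32,2),(33,5),(11,0),(35,1),(19,2),(7,0),(38,1),(39,0),(40,1)]

/-- The trace of the case `4, 4`. -/
def trace44 : List ℕ := [11,12,13,5,6,7,8,9,10,257,258,259,260,266,513,514,515,521,1285,1286,1287,1288,1289,1290,1536,1537,1538,1539,1540,1542]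

theorem check44 : collapsed 4 4 tree44 trace44 = true := by decide +kernel

/-- The tree of the case `4, 5`. -/
def tree45 : List (ℕ × ℕ) := [(0,4),(1,4),(2,1),(3,0),(1,2),(5,4),(6,2),(7,4),(2,2),(9,5),(10,2),(11,5),(12,2),(13,5),(5,0),(15,1),(16,0),(5,5),(18,2),(19,5),(20,2),(21,5),(22,2),(9,4),(24,2),(25,4),(26,2),(6,0),(28,1),(29,0),(13,2),(31,4),(32,2),(33,4),(27,2),(35,5),(36,2),(37,5),(38,2),(39,5),(13,0),(41,1),(23,2),(7,0),(44,1),(45,0),(46,1),(24,1),(48,0),(49,1),(18,1),(7,5),(52,2),(53,5),(54,2),(55,5),(56,2),(11,0),(58,1),(59,0),(40,0),(61,1),(62,0),(63,1)]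

/-- The trace of the case `4, 5`. -/
def trace45 : List ℕ := [11,12,13,5,6,7,8,9,10,257,258,259,260,266,513,514,515,521,1285,1286,1287,1288,1289,1290,1536,1537,1538,1539,1540,1542,1543,1544,1546,1792,1794,1795,1796,1797]

theorem check45 : collapsed 4 5 tree45 trace45 = true := by decide +kernel

/-- The tree of the case `5, 1`. -/
def tree51 : List (ℕ × ℕ) := [(0,4),(1,4),(2,1),(3,0),(1,2),(5,4),(6,2),(7,4),(8,2),(9,4)]

/-- The trace of the case `5, 1`. -/
def trace51 : List ℕ := [11,12,13,5,6,7,8,9,10]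

theorem check51 : collapsed 5 1 tree51 trace51 = true := by decide +kernel

/-- The tree of the case `5, 2`. -/
def tree52 : List (ℕ × ℕ) := [(0,4),(1,4),(2,1),(3,0),(1,2),(5,4),(6,2),(7,4),(8,2),(9,4)]

/-- The trace of the case `5, 2`. -/
def trace52 : List ℕ := [11,12,13,5,6,7,8,9,10,257,258]

theorem check52 : collapsed 5 2 tree52 trace52 = true := by decide +kernel

/-- The tree of the case `5, 3`. -/
def tree53 : List (ℕ × ℕ) := [(0,4),(1,4),(2,1),(3,0),(1,2),(5,4),(6,2),(7,4),(8,2),(9,4),(2,2),(11,5),(5,0),(13,1),(14,0),(5,5),(16,2),(11,4),(18,2),(19,4),(20,2),(21,4),(22,2)]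

/-- The trace of the case `5, 3`. -/
def trace53 : List ℕ := [11,12,13,5,6,7,8,9,10,257,258,259,260,266,513,514,515,521,1285,1286,1287]

theorem check53 : collapsed 5 3 tree53 trace53 = true := by decide +kernel

/-- The tree of the case `5, 5`. -/
def tree55 : List (ℕ × ℕ) := [(0,4),(1,4),(2,1),(3,0),(1,2),(5,4),(6,2),(7,4),(8,2),(9,4),(2,2),(11,5),(12,2),(13,5),(14,2),(15,5),(5,0),(17,1),(18,0),(5,5),(20,2),(21,5),(22,2),(23,5),(24,2),(11,4),(26,2),(27,4),(28,2),(29,4),(30,2),(6,0),(32,1),(33,0),(15,2),(35,4),(36,2),(37,4),(38,2),(39,4),(31,2),(41,5),(42,2),(43,5),(44,2),(45,5),(15,0),(47,1),(25,2),(7,0),(50,1),(51,0),(52,1),(26,1),(54,0),(55,1),(20,1),(7,5),(58,2),(59,5),(60,2),(61,5),(62,2),(13,0),(64,1),(65,0),(46,0),(67,1),(68,0),(69,1),(50,4),(8,0),(72,1),(73,0),(8,1),(45,2),(76,4),(77,2),(78,4),(79,2),(80,4),(46,5),(82,2),(83,5),(84,2),(85,5),(86,2),(87,5),(23,0),(89,1),(75,2),(9,0),(92,1),(93,0),(94,1),(71,1),(96,0),(97,1),(58,1),(9,5),(100,2),(101,5),(102,2),(103,5),(104,2),(95,0),(106,1),(107,0),(88,0),(109,1),(110,0),(111,1)]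

/-- The trace of the case `5, 5`. -/
def trace55 : List ℕ := [11,12,13,5,6,7,8,9,10,257,258,259,260,266,513,514,515,521,1285,1286,1287,1288,1289,1290,1536,1537,1538,1539,1540,1542,1543,1544,1546,1792,1794,1795,1796,1797,1798,1799,1800,1801,1802,2048,2049,2050,2051,2052,2054,2055,2056,2058,2304,2306,2307,2308,2309,2310,2311,2312]

theorem check55 : collapsed 5 5 tree55 trace55 = true := by decide +kernel

/-- All the collapses. -/
theorem collapsed_all (n m : ℕ) (hn : n = 1 ∨ n = 2 ∨ n = 3 ∨ n = 4 ∨ n = 5)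
    (hm : m = 1 ∨ m = 2 ∨ m = 3 ∨ m = 4 ∨ m = 5) (hnm : ¬ (n = 5 ∧ m = 4)) :
    ∃ tree trace, collapsed n m tree trace = true := by
  rcases hn with rfl | rfl | rfl | rfl | rfl <;> rcases hm with rfl | rfl | rfl | rfl | rfl <;>
  first
    | exact ⟨tree11, trace11, check11⟩
    | exact ⟨tree12, trace12, check12⟩
    | exact ⟨tree13, trace13, check13⟩
    | exact ⟨tree14, trace14, check14⟩
    | exact ⟨tree15, trace15, check15⟩
    | exact ⟨tree21, trace21, check21⟩
    | exact ⟨tree22, trace22, check22⟩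
    | exact ⟨tree23, trace23, check23⟩
    | exact ⟨tree24, trace24, check24⟩
    | exact ⟨tree25, trace25, check25⟩
    | exact ⟨tree31, trace31, check31⟩
    | exact ⟨tree32, trace32, check32⟩
    | exact ⟨tree33, trace33, check33⟩
    | exact ⟨tree34, trace34, check34⟩
    | exact ⟨tree35, trace35, check35⟩
    | exact ⟨tree41, trace41, check41⟩
    | exact ⟨tree42, trace42, check42⟩
    | exact ⟨tree43, trace43, check43⟩
    | exact ⟨tree44, trace44, check44⟩
    | exact ⟨tree45, trace45, check45⟩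
    | exact ⟨tree51, trace51, check51⟩
    | exact ⟨tree52, trace52, check52⟩
    | exact ⟨tree53, trace53, check53⟩
    | exact ⟨tree55, trace55, check55⟩
    | exact absurd ⟨rfl, rfl⟩ hnm

end Cfsg.Agent.Lib.D8A6Data
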