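import Mathlib
import Cfsg.Agent.Lib.D8A6Data
import Cfsg.Agent.Lib.D8A6Table
import Cfsg.Agent.Lib.TableAction

/-!
# Consequences of the coset enumerations for the amalgam

Two copies of the symmetric group on four letters over the dihedral group of order eight, with the
orders of `c d` and `c d⁻¹` given.
-/

set_option autoImplicit false
set_option linter.unusedVariables false
set_option linter.unusedSectionVars false
set_option maxRecDepth 100000

namespace Cfsg.Agent.Lib.D8A6Pres

open Cfsg.Agent.Lib.MiniTC Cfsg.Agent.Lib.D8A6Data Cfsg.Agent.Lib.D8A6Table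

section

variable {G : Type*} [Group G]

/-- The relations of the amalgam. -/
structure AmRel (a b c d : G) : Prop where
  ha : a * a = 1
  hb : b * b = 1
  hab : a * b * a * b * a * b * a * b = 1
  hc : c * c * c = 1
  hbc : b * c * b * c = 1
  r3 : c * (a * b * a * b) * c⁻¹ * a = 1
  r4 : c * a * c⁻¹ * (a * b * a * b) * a = 1
  hd : d * d * d = 1
  had : a * d * a * d = 1
  r7 : d * (a * b * a * b) * d⁻¹ * b = 1
  r8 : d * b * d⁻¹ * (a * b * a * b) * b = 1

/-- The letters. -/
def genOf (a b c d : G) : ℕ → G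
  | 0 => a
  | 1 => b
  | 2 => c
  | 3 => c⁻¹
  | 4 => d
  | 5 => d⁻¹
  | _ + 6 => 1

/-- The value of a word. -/
def evW (g : ℕ → G) (w : List ℕ) : G := (w.map g).prod

@[simp] theorem evW_nil (g : ℕ → G) : evW g [] = 1 := rfl

@[simp] theorem evW_cons (g : ℕ → G) (i : ℕ) (w : List ℕ) : evW g (i :: w) = g i * evW g w := by
  simp [evW]

theorem evW_append (g : ℕ → G) (u w : List ℕ) : evW g (u ++ w) = evW g u * evW g w := by
  simp [evW]

variable {a b c d : G}

theorem genOf_inv (h : AmRel a b c d) (g : ℕ) : genOf a b c d (invL g) = (genOf a b c d g)⁻¹ := by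
  match g with
  | 0 => exact eq_inv_of_mul_eq_one_left h.ha
  | 1 => exact eq_inv_of_mul_eq_one_left h.hb
  | 2 => rfl
  | 3 => exact (inv_inv c).symm
  | 4 => rfl
  | 5 => exact (inv_inv d).symm
  | n + 6 => exact (inv_one).symm

theorem evW_rep (g : ℕ → G) (w : List ℕ) (n : ℕ) : evW g (rep w n) = (evW g w) ^ n := by
  induction n with
  | zero => simp [rep]
  | succ n ih => rw [rep, evW_append, ih, pow_succ']

theorem evW_relsOf (h : AmRel a b c d) {n m : ℕ} (hn : (c * d) ^ n = 1) (hm : (c * d⁻¹) ^ m = 1) :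
    ∀ w ∈ relsOf n m, evW (genOf a b c d) w = 1 := by
  intro w hw
  simp only [relsOf, baseR, List.mem_append, List.mem_cons, List.not_mem_nil, or_false] at hw
  rcases hw with (rfl | rfl | rfl | rfl | rfl | rfl | rfl | rfl | rfl) | (rfl | rfl)
  · simpa [genOf, mul_assoc] using h.hab
  · simpa [genOf, mul_assoc] using h.hc
  · simpa [genOf, mul_assoc] using h.hbc
  · simpa [genOf, mul_assoc] using h.r3
  · simpa [genOf, mul_assoc] using h.r4
  · simpa [genOf, mul_assoc] using h.hd
  · simpa [genOf, mul_assoc] using h.had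
  · simpa [genOf, mul_assoc] using h.r7
  · simpa [genOf, mul_assoc] using h.r8
  · rw [evW_rep]
    simpa [genOf] using hn
  · rw [evW_rep]
    simpa [genOf] using hm

theorem length_relsOf (n m : ℕ) : (relsOf n m).length = 11 := rfl

/-- What a property of all the words of a list gives for its numbered entries. -/
theorem getD_of_forall {P : List ℕ → Prop} (R : List (List ℕ)) (h0 : P []) (h : ∀ w ∈ R, P w) (i : ℕ) :
    P (R.getD i []) := by
  by_cases hi : i < R.length
  · rw [List.getD_eq_getElem _ _ hi]
    exact h _ (List.getElem_mem hi)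
  · rw [List.getD_eq_default _ _ (by omega)]
    exact h0

/-- The words collapse: `d` lies in every subgroup containing `a, b, c`. -/
theorem mem_of_collapsed (h : AmRel a b c d) {n m : ℕ} (hn : (c * d) ^ n = 1)
    (hm : (c * d⁻¹) ^ m = 1) (H : Subgroup G) (ha : a ∈ H) (hb : b ∈ H) (hc : c ∈ H)
    {tree : List (ℕ × ℕ)} {trace : List ℕ} (hchk : collapsed n m tree trace = true) : d ∈ H := by
  let g := genOf a b c d
  let act : ℕ → (G ⧸ H) → (G ⧸ H) := fun i x => (g i)⁻¹ • x
  have hw : ∀ (w : List ℕ) (x : G ⧸ H), wAct act w x = (evW g w)⁻¹ • x := by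
    intro w
    induction w with
    | nil => intro x; simp [wAct]
    | cons i w ih =>
      intro x
      simp only [wAct, ih, evW_cons, mul_inv_rev, mul_smul, act]
  have hi := genOf_inv h
  have hinv : ∀ i x, act (cfg.inv i) (act i x) = x := by
    intro i x
    show (g (invL i))⁻¹ • (g i)⁻¹ • x = x
    rw [show g (invL i) = (g i)⁻¹ from hi i, inv_inv, smul_inv_smul]
  have hinv' : ∀ i x, act i (act (cfg.inv i) x) = x := by
    intro i x
    show (g i)⁻¹ • (g (invL i))⁻¹ • x = x
    rw [show g (invL i) = (g i)⁻¹ from hi i, inv_inv, inv_smul_smul]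
  have hrels := evW_relsOf h hn hm
  have hfix : ∀ u ∈ H, u⁻¹ • ((1 : G) : G ⧸ H) = ((1 : G) : G ⧸ H) := by
    intro u hu
    rw [MulAction.Quotient.smul_coe]
    simp only [smul_eq_mul, mul_one]
    exact QuotientGroup.eq.mpr (by simpa using hu)
  have hR : ∀ ri x, ri < 11 → wAct act ((relsSub n m).getD ri []) x = x := by
    intro ri x hri
    have e : (relsSub n m).getD ri [] = (relsOf n m).getD ri [] := by
      unfold relsSub
      rw [List.getD_append _ _ _ _ (by rw [length_relsOf]; exact hri)]
    rw [e]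
    apply getD_of_forall (P := fun w => wAct act w x = x)
    · rfl
    · intro w hw'
      rw [hw, hrels w hw']
      simp
  have hS : ∀ ri, wAct act ((relsSub n m).getD ri []) ((1 : G) : G ⧸ H) = ((1 : G) : G ⧸ H) := by
    intro ri
    apply getD_of_forall (P := fun w => wAct act w ((1 : G) : G ⧸ H) = ((1 : G) : G ⧸ H))
    · rfl
    · intro w hw'
      unfold relsSub at hw'
      rcases List.mem_append.mp hw' with h1 | h1
      · rw [hw, hrels w h1]
        simp
      · simp only [List.mem_cons, List.not_mem_nil, or_false] at h1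
        rcases h1 with rfl | rfl | rfl
        · exact hfix a ha
        · exact hfix b hb
        · exact hfix c hc
  obtain ⟨v, h0, hg⟩ := exists_good (C := cfg) (act := act) hinv hinv' ((1 : G) : G ⧸ H)
    (L := lets) (R := relsSub n m) (nrel := 11) hR hS tree trace
  unfold collapsed at hchk
  simp only at hchk
  generalize hq : qEdge cfg (final cfg lets (relsSub n m) 11 tree trace) 0 4 = q at hchk
  cases q with
  | zero => simp at hchk
  | succ y =>
    simp only at hchk
    have hy : y = 0 := Nat.eq_of_beq_eq_true hchk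
    subst hy
    have := qEdge_sound hg hq
    rw [h0] at this
    have e2 : d⁻¹ • ((1 : G) : G ⧸ H) = ((1 : G) : G ⧸ H) := this.symm
    rw [MulAction.Quotient.smul_coe] at e2
    simp only [smul_eq_mul, mul_one] at e2
    have := QuotientGroup.eq.mp e2
    simpa using this

end

section table

variable {G A : Type*} [Group G] [Group A] [Finite G]
variable {a b c d : G} {a' b' c' d' : A}

/-- The right multiplication action. -/
def actR {G : Type*} [Group G] (g : ℕ → G) : ℕ → G → G := fun i x => x * g i

theorem wAct_actR {G : Type*} [Group G] (g : ℕ → G) (w : List ℕ) (x : G) :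
    wAct (actR g) w x = x * evW g w := by
  induction w generalizing x with
  | nil => simp [wAct]
  | cons i w ih => simp [wAct, ih, actR, mul_assoc]

theorem exists_vals_table {G : Type*} [Group G] {a b c d : G} (h : AmRel a b c d)
    (hn : (c * d) ^ 5 = 1) (hm : (c * d⁻¹) ^ 4 = 1) :
    ∃ v : ℕ → G, v 0 = 1 ∧ Good cfg (actR (genOf a b c d)) v (final cfg lets (relsOf 5 4) 11 tree trace) := by
  let g := genOf a b c d
  have hi := genOf_inv h
  have hinv : ∀ i x, actR g (cfg.inv i) (actR g i x) = x := by
    intro i x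
    show x * g i * g (invL i) = x
    rw [show g (invL i) = (g i)⁻¹ from hi i]
    group
  have hinv' : ∀ i x, actR g i (actR g (cfg.inv i) x) = x := by
    intro i x
    show x * g (invL i) * g i = x
    rw [show g (invL i) = (g i)⁻¹ from hi i]
    group
  have hrels := evW_relsOf h hn hm
  have hR : ∀ ri x, wAct (actR g) ((relsOf 5 4).getD ri []) x = x := by
    intro ri x
    apply getD_of_forall (P := fun w => wAct (actR g) w x = x)
    · rfl
    · intro w hw'
      rw [wAct_actR, hrels w hw', mul_one]
  exact exists_good hinv hinv' 1 (fun ri x _ => hR ri x) (fun ri => hR ri 1) tree trace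

/-- The closure of the table, in a usable form. -/
theorem closed_form {j g : ℕ} (hj : j ∈ live) (hg : g < 6) :
    ∃ y, qEdge cfg (final cfg lets (relsOf 5 4) 11 tree trace) j g = y + 1 ∧ y ∈ live := by
  have h := closed_check
  unfold closedB at h
  rw [List.all_eq_true] at h
  have h1 := h j hj
  rw [List.all_eq_true] at h1
  have h2 := h1 g (by
    simp only [lets, List.mem_cons, List.not_mem_nil, or_false]
    omega)
  revert h2
  cases hq : qEdge cfg (final cfg lets (relsOf 5 4) 11 tree trace) j g with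
  | zero => simp
  | succ y =>
    intro h2
    exact ⟨y, rfl, memB_iff _ _ h2⟩

/-- A morphism from the table. -/
theorem exists_hom_of_rel (h : AmRel a b c d) (hn : (c * d) ^ 5 = 1) (hm : (c * d⁻¹) ^ 4 = 1)
    (h' : AmRel a' b' c' d') (hn' : (c' * d') ^ 5 = 1) (hm' : (c' * d'⁻¹) ^ 4 = 1)
    (hcard : Nat.card G = 360)
    (hgen : Subgroup.closure ({a, b, c, d} : Set G) = ⊤) :
    ∃ φ : G →* A, φ a = a' ∧ φ b = b' ∧ φ c = c' ∧ φ d = d' := by
  classical
  obtain ⟨vG, hv0, hvG⟩ := exists_vals_table h hn hm
  obtain ⟨vA, hw0, hvA⟩ := exists_vals_table h' hn' hm'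
  set g := genOf a b c d with hgdef
  set g' := genOf a' b' c' d' with hgdef'
  -- the table
  have hstep : ∀ {j i : ℕ}, j ∈ live → i < 6 → ∃ y ∈ live, vG y = vG j * g i ∧ vA y = vA j * g' i := by
    intro j i hj hi
    obtain ⟨y, hy, hyl⟩ := closed_form hj hi
    exact ⟨y, hyl, qEdge_sound hvG hy, qEdge_sound hvA hy⟩
  -- the generators
  have hcl : Subgroup.closure (Set.range (fun i : Fin 6 => g i)) = ⊤ := by
    rw [eq_top_iff, ← hgen, Subgroup.closure_le]
    have hmem : ∀ i : Fin 6, g i ∈ Subgroup.closure (Set.range (fun i : Fin 6 => g i)) :=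
      fun i => Subgroup.subset_closure ⟨i, rfl⟩
    rintro x (rfl | rfl | rfl | rfl)
    · exact hmem 0
    · exact hmem 1
    · exact hmem 2
    · exact hmem 4
  -- surjectivity
  let S : Submonoid G :=
    { carrier := {u | ∀ j ∈ live, ∃ y ∈ live, vG y = vG j * u ∧ True}
      one_mem' := fun j hj => ⟨j, hj, by simp, trivial⟩
      mul_mem' := by
        intro u u' hu hu' j hj
        obtain ⟨y, hy, hy1, -⟩ := hu j hj
        obtain ⟨y', hy', hy1', -⟩ := hu' y hy
        exact ⟨y', hy', by rw [hy1', hy1, mul_assoc], trivial⟩ }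
  have hS : S = ⊤ := by
    apply Cfsg.Agent.Lib.TableAction.submonoid_eq_top_of_closure _ hcl
    intro i j hj
    obtain ⟨y, hy, h1, -⟩ := hstep hj i.2
    exact ⟨y, hy, h1, trivial⟩
  have hsurj : ∀ x : G, ∃ y ∈ live, vG y = x := by
    intro x
    have hx : x ∈ S := by rw [hS]; trivial
    obtain ⟨y, hy, h1, -⟩ := hx 0 zero_mem
    exact ⟨y, hy, by rw [h1, hv0, one_mul]⟩
  -- injectivity on the live nodes
  have hlen : live.length = 360 := live_length
  let f : Fin live.length → G := fun i => vG live[i]
  have hfs : Function.Surjective f := by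
    intro x
    obtain ⟨y, hy, h1⟩ := hsurj x
    obtain ⟨i, hi, rfl⟩ := List.getElem_of_mem hy
    exact ⟨⟨i, hi⟩, h1⟩
  have hfb : Function.Bijective f := by
    refine (Function.Surjective.bijective_of_nat_card_le hfs ?_)
    rw [Nat.card_eq_fintype_card, Fintype.card_fin, hlen, hcard]
  have hinj : ∀ {y y' : ℕ}, y ∈ live → y' ∈ live → vG y = vG y' → vA y = vA y' := by
    intro y y' hy hy' e
    obtain ⟨i, hi, rfl⟩ := List.getElem_of_mem hy
    obtain ⟨i', hi', rfl⟩ := List.getElem_of_mem hy'
    have : (⟨i, hi⟩ : Fin live.length) = ⟨i', hi'⟩ := hfb.1 e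
    have e2 : i = i' := congrArg Fin.val this
    subst e2
    rfl
  -- the map
  choose j hjl hjv using hsurj
  let F : G → A := fun x => vA (j x)
  have hF : ∀ {y : ℕ}, y ∈ live → F (vG y) = vA y := by
    intro y hy
    exact hinj (hjl _) hy (hjv _)
  have hF1 : F 1 = 1 := by
    have := hF zero_mem
    rwa [hv0, hw0] at this
  have hFstep : ∀ (x : G) (i : ℕ), i < 6 → F (x * g i) = F x * g' i := by
    intro x i hi
    obtain ⟨y, hy, h1, h2⟩ := hstep (hjl x) hi
    rw [hjv] at h1
    rw [← h1, hF hy, h2]
  have hFg : ∀ i : ℕ, i < 6 → F (g i) = g' i := by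
    intro i hi
    have := hFstep 1 i hi
    rwa [one_mul, hF1, one_mul] at this
  let S2 : Submonoid G :=
    { carrier := {u | ∀ x, F (x * u) = F x * F u}
      one_mem' := fun x => by simp [hF1]
      mul_mem' := by
        intro u u' hu hu' x
        rw [← mul_assoc, hu', hu, hu' u, mul_assoc] }
  have hS2 : S2 = ⊤ := by
    apply Cfsg.Agent.Lib.TableAction.submonoid_eq_top_of_closure _ hcl
    intro i x
    show F (x * g i) = F x * F (g i)
    rw [hFstep x i i.2, hFg i i.2]
  have hall : ∀ u x, F (x * u) = F x * F u := by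
    intro u x
    have hu : u ∈ S2 := by rw [hS2]; trivial
    exact hu x
  let φ : G →* A := { toFun := F, map_one' := hF1, map_mul' := fun x y => hall y x }
  refine ⟨φ, hFg 0 (by norm_num), hFg 1 (by norm_num), hFg 2 (by norm_num), hFg 4 (by norm_num)⟩

end table

section A6

open Equiv

/-- The letter `a` in the alternating group. -/
def pA : Perm (Fin 6) := ⟨![2, 3, 0, 1, 4, 5], ![2, 3, 0, 1, 4, 5], by decide, by decide⟩
/-- The letter `b` in the alternating group. -/
def pB : Perm (Fin 6) := ⟨![1, 0, 2, 3, 5, 4], ![1, 0, 2, 3, 5, 4], by decide, by decide⟩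
/-- The letter `c` in the alternating group. -/
def pC : Perm (Fin 6) := ⟨![1, 3, 2, 0, 4, 5], ![3, 0, 2, 1, 4, 5], by decide, by decide⟩
/-- The letter `d` in the alternating group. -/
def pD : Perm (Fin 6) := ⟨![4, 5, 0, 1, 2, 3], ![2, 3, 4, 5, 0, 1], by decide, by decide⟩

theorem pA_mem : pA ∈ alternatingGroup (Fin 6) := by
  rw [Perm.mem_alternatingGroup]; decide +kernel
theorem pB_mem : pB ∈ alternatingGroup (Fin 6) := by
  rw [Perm.mem_alternatingGroup]; decide +kernel
theorem pC_mem : pC ∈ alternatingGroup (Fin 6) := by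
  rw [Perm.mem_alternatingGroup]; decide +kernel
theorem pD_mem : pD ∈ alternatingGroup (Fin 6) := by
  rw [Perm.mem_alternatingGroup]; decide +kernel

/-- The letter `a`. -/
def qA : alternatingGroup (Fin 6) := ⟨pA, pA_mem⟩
/-- The letter `b`. -/
def qB : alternatingGroup (Fin 6) := ⟨pB, pB_mem⟩
/-- The letter `c`. -/
def qC : alternatingGroup (Fin 6) := ⟨pC, pC_mem⟩
/-- The letter `d`. -/
def qD : alternatingGroup (Fin 6) := ⟨pD, pD_mem⟩

theorem rel_A6 : AmRel qA qB qC qD where
  ha := by apply Subtype.ext; show pA * pA = 1; decide +kernel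
  hb := by apply Subtype.ext; show pB * pB = 1; decide +kernel
  hab := by apply Subtype.ext; show pA * pB * pA * pB * pA * pB * pA * pB = 1; decide +kernel
  hc := by apply Subtype.ext; show pC * pC * pC = 1; decide +kernel
  hbc := by apply Subtype.ext; show pB * pC * pB * pC = 1; decide +kernel
  r3 := by apply Subtype.ext; show pC * (pA * pB * pA * pB) * pC⁻¹ * pA = 1; decide +kernel
  r4 := by apply Subtype.ext; show pC * pA * pC⁻¹ * (pA * pB * pA * pB) * pA = 1; decide +kernel
  hd := by apply Subtype.ext; show pD * pD * pD = 1; decide +kernel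
  had := by apply Subtype.ext; show pA * pD * pA * pD = 1; decide +kernel
  r7 := by apply Subtype.ext; show pD * (pA * pB * pA * pB) * pD⁻¹ * pB = 1; decide +kernel
  r8 := by apply Subtype.ext; show pD * pB * pD⁻¹ * (pA * pB * pA * pB) * pB = 1; decide +kernel

theorem cd_A6 : (qC * qD) ^ 5 = 1 := by
  apply Subtype.ext; show (pC * pD) ^ 5 = 1; decide +kernel

theorem cD_A6 : (qC * qD⁻¹) ^ 4 = 1 := by
  apply Subtype.ext; show (pC * pD⁻¹) ^ 4 = 1; decide +kernel

theorem qA_ne : qA ≠ 1 := by
  intro h
  have : pA = 1 := congrArg Subtype.val h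
  revert this
  decide +kernel

theorem card_A6 : Nat.card (alternatingGroup (Fin 6)) = 360 := by
  have h := two_mul_nat_card_alternatingGroup (α := Fin 6)
  rw [Nat.card_eq_fintype_card (α := Perm (Fin 6)), Fintype.card_perm, Fintype.card_fin] at h
  have h2 : Nat.factorial 6 = 720 := by decide
  omega

/-- The identification. -/
theorem iso_A6_of_rel {G : Type*} [Group G] [Finite G] [IsSimpleGroup G] {a b c d : G}
    (h : AmRel a b c d) (hn : (c * d) ^ 5 = 1) (hm : (c * d⁻¹) ^ 4 = 1)
    (hcard : Nat.card G = 360) (hgen : Subgroup.closure ({a, b, c, d} : Set G) = ⊤) :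
    Nonempty (G ≃* alternatingGroup (Fin 6)) := by
  obtain ⟨φ, h1, -, -, -⟩ := exists_hom_of_rel h hn hm rel_A6 cd_A6 cD_A6 hcard hgen
  have hinj : Function.Injective φ := by
    rw [injective_iff_map_eq_one]
    rcases IsSimpleGroup.eq_bot_or_eq_top_of_normal φ.ker inferInstance with hk | hk
    · intro x hx
      have : x ∈ φ.ker := hx
      rwa [hk] at this
    · exfalso
      have : a ∈ φ.ker := by rw [hk]; trivial
      rw [MonoidHom.mem_ker, h1] at this
      exact qA_ne this
  have hb : Function.Bijective φ := by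
    rw [Nat.bijective_iff_injective_and_card]
    exact ⟨hinj, by rw [hcard, card_A6]⟩
  exact ⟨MulEquiv.ofBijective φ hb⟩

end A6

end Cfsg.Agent.Lib.D8A6Pres
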