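import Mathlib
import Cfsg.Agent.Lib.D8CentGroup
import Cfsg.Agent.Lib.D8A6Pres
import Cfsg.Agent.Lib.SylowConjLemmas

/-!
# Involutions with centralizer dihedral of order eight: fusion

Notation: `T = C(t) ≅ D₈`, `a = inG (sr 0)`, `b = inG (sr 1)`.  The two four-groups of `T` are not
conjugate, and an element conjugating `t` to `a` normalizes the four-group of `a`.
-/

set_option autoImplicit false
set_option linter.unusedVariables false
set_option linter.unusedSectionVars false
set_option linter.unusedSimpArgs false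
set_option maxRecDepth 10000

namespace Cfsg.Agent.Lib.D8Fus

open Subgroup DihedralGroup
open Cfsg.Agent.Lib.D8CentGroup

/-- The automorphism of the dihedral group exchanging the two classes of reflections. -/
def swapD : DihedralGroup 4 ≃* DihedralGroup 4 where
  toFun := fun x => match x with
    | r i => r (-i)
    | sr i => sr (1 - i)
  invFun := fun x => match x with
    | r i => r (-i)
    | sr i => sr (1 - i)
  left_inv := by decide
  right_inv := by decide
  map_mul' := by decide

/-- The four-group of the reflections `sr 0`, `sr 2`. -/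
def vA : Subgroup (DihedralGroup 4) where
  carrier := {x | x = 1 ∨ x = r 2 ∨ x = sr 0 ∨ x = sr 2}
  mul_mem' := by
    have : ∀ x y : DihedralGroup 4, (x = 1 ∨ x = r 2 ∨ x = sr 0 ∨ x = sr 2) →
      (y = 1 ∨ y = r 2 ∨ y = sr 0 ∨ y = sr 2) →
      (x * y = 1 ∨ x * y = r 2 ∨ x * y = sr 0 ∨ x * y = sr 2) := by decide
    intro x y hx hy
    exact this x y hx hy
  one_mem' := Or.inl rfl
  inv_mem' := by
    have : ∀ x : DihedralGroup 4, (x = 1 ∨ x = r 2 ∨ x = sr 0 ∨ x = sr 2) →
      (x⁻¹ = 1 ∨ x⁻¹ = r 2 ∨ x⁻¹ = sr 0 ∨ x⁻¹ = sr 2) := by decide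
    intro x hx
    exact this x hx

section

variable {G : Type*} [Group G] {t : G} (e : centralizer ({t} : Set G) ≃* DihedralGroup 4)

/-- The first reflection. -/
def aa : G := inG e (sr 0)
/-- The second reflection. -/
def bb : G := inG e (sr 1)

theorem inG_rw (x y z : DihedralGroup 4) (h : x * y = z) : inG e x * inG e y = inG e z := by
  rw [← inG_mul, h]

/-- Conjugation in `D₈` as a rewriting rule. -/
theorem inG_rw' (x y z w : DihedralGroup 4) (h : x * y = z * w) (u : G) :
    inG e x * (inG e y * u) = inG e z * (inG e w * u) := by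
  rw [← mul_assoc, ← mul_assoc, ← inG_mul, ← inG_mul, h]

variable (ht : orderOf t = 2)
include ht

/-- Reading `sr 2` as `a t`. -/
theorem inG_sr2 : inG e (sr 2) = aa e * t := by
  have : (sr 2 : DihedralGroup 4) = sr 0 * r 2 := by decide
  rw [this, inG_mul, inG_r2 e ht]
  rfl

theorem inG_sr3 : inG e (sr 3) = bb e * t := by
  have : (sr 3 : DihedralGroup 4) = sr 1 * r 2 := by decide
  rw [this, inG_mul, inG_r2 e ht]
  rfl

theorem aa_sq : aa e * aa e = 1 := by
  unfold aa
  rw [inG_rw e _ _ 1 (by decide), inG_one]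

theorem bb_sq : bb e * bb e = 1 := by
  unfold bb
  rw [inG_rw e _ _ 1 (by decide), inG_one]

theorem t_t : t * t = 1 := by
  have := t_sq ht
  rwa [pow_two] at this

theorem t_aa : t * aa e = aa e * t := (inG_comm e _).symm

theorem t_bb : t * bb e = bb e * t := (inG_comm e _).symm

theorem abab : aa e * bb e * aa e * bb e = t := by
  unfold aa bb
  rw [inG_rw e (sr 0) (sr 1) (r 1) (by decide), mul_assoc, inG_rw e (sr 0) (sr 1) (r 1) (by decide),
    inG_rw e _ _ (r 2) (by decide), inG_r2 e ht]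

theorem ab8 : aa e * bb e * aa e * bb e * aa e * bb e * aa e * bb e = 1 := by
  have h := abab e ht
  calc _ = (aa e * bb e * aa e * bb e) * (aa e * bb e * aa e * bb e) := by group
    _ = 1 := by rw [h, t_t ht]

theorem bb_aa_bb : bb e * aa e * bb e = aa e * t := by
  unfold aa bb
  rw [inG_rw e (sr 1) (sr 0) (r (-1)) (by decide), inG_rw e (r (-1)) (sr 1) (sr 2) (by decide),
    inG_sr2 e ht]
  rfl

theorem aa_bb_aa : aa e * bb e * aa e = bb e * t := by
  unfold aa bb
  rw [inG_rw e (sr 0) (sr 1) (r 1) (by decide), inG_rw e (r 1) (sr 0) (sr 3) (by decide),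
    inG_sr3 e ht]
  rfl

theorem t_ne_aa : t ≠ aa e := by
  intro h
  have h2 : inG e (r 2) = inG e (sr 0) := (inG_r2 e ht).trans h
  exact absurd (inG_inj e h2) (by decide)

theorem aa_ne_one : aa e ≠ 1 := by
  intro h
  have := (inG_eq_one_iff e).1 h
  exact absurd this (by decide)

theorem bb_ne_one : bb e ≠ 1 := by
  intro h
  have := (inG_eq_one_iff e).1 h
  exact absurd this (by decide)

/-- The elements commuting with `t` and `a`. -/
theorem comm_t_aa {x : G} (h1 : x * t = t * x) (h2 : x * aa e = aa e * x) :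
    x = 1 ∨ x = t ∨ x = aa e ∨ x = aa e * t := by
  obtain ⟨w, rfl⟩ := exists_inG e (mem_centralizer_singleton_iff.2 h1)
  have hw : w * sr 0 = sr 0 * w := by
    apply inG_inj e
    rw [inG_mul, inG_mul]
    exact h2
  have key : ∀ w : DihedralGroup 4, w * sr 0 = sr 0 * w → w = 1 ∨ w = r 2 ∨ w = sr 0 ∨ w = sr 2 := by
    decide
  rcases key w hw with rfl | rfl | rfl | rfl
  · left; exact inG_one e
  · right; left; exact inG_r2 e ht
  · right; right; left; rfl
  · right; right; right; exact inG_sr2 e ht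

/-- The involutions commuting with `t`. -/
theorem inv_comm_t {x : G} (h1 : x * t = t * x) (h2 : x ^ 2 = 1) (h3 : x ≠ 1) :
    x = t ∨ x = aa e ∨ x = aa e * t ∨ x = bb e ∨ x = bb e * t := by
  obtain ⟨w, rfl⟩ := exists_inG e (mem_centralizer_singleton_iff.2 h1)
  have h2' : w ^ 2 = 1 := by
    apply inG_inj e
    rw [inG_pow, h2, inG_one]
  have h3' : w ≠ 1 := by
    rintro rfl
    exact h3 (inG_one e)
  have key : ∀ w : DihedralGroup 4, w ^ 2 = 1 → w ≠ 1 →
      w = r 2 ∨ w = sr 0 ∨ w = sr 2 ∨ w = sr 1 ∨ w = sr 3 := by decide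
  rcases key w h2' h3' with rfl | rfl | rfl | rfl | rfl
  · left; exact inG_r2 e ht
  · right; left; rfl
  · right; right; left; exact inG_sr2 e ht
  · right; right; right; left; rfl
  · right; right; right; right; exact inG_sr3 e ht

include e in
/-- The fourth power of a commuting element. -/
theorem pow_four_of_comm {x : G} (h1 : x * t = t * x) : x ^ 4 = 1 := by
  obtain ⟨w, rfl⟩ := exists_inG e (mem_centralizer_singleton_iff.2 h1)
  have key : ∀ w : DihedralGroup 4, w ^ 4 = 1 := by decide
  rw [← inG_pow, key, inG_one]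

end

section swap

variable {G : Type*} [Group G] {t : G} (e : centralizer ({t} : Set G) ≃* DihedralGroup 4)

/-- The isomorphism with exchanged reflections. -/
def eS : centralizer ({t} : Set G) ≃* DihedralGroup 4 := e.trans swapD

theorem aa_eS : aa (eS e) = bb e := rfl

theorem bb_eS : bb (eS e) = aa e := rfl

end swap

/-- Over a finite subgroup, it suffices to check one inclusion for the normalizer. -/
theorem mem_normalizer_of_conj_mem {G : Type*} [Group G] (V : Subgroup G) [Finite V] (u : G)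
    (h : ∀ x ∈ V, u * x * u⁻¹ ∈ V) : u ∈ normalizer (V : Set G) := by
  let f : V → V := fun x => ⟨u * x * u⁻¹, h x x.2⟩
  have hf : Function.Injective f := by
    intro x y hxy
    have h1 : u * (x : G) * u⁻¹ = u * y * u⁻¹ := congrArg Subtype.val hxy
    apply Subtype.ext
    simpa using h1
  have hs : Function.Surjective f := Finite.injective_iff_surjective.mp hf
  rw [mem_normalizer_iff]
  intro x
  refine ⟨h x, fun hx => ?_⟩
  obtain ⟨y, hy⟩ := hs ⟨u * x * u⁻¹, hx⟩
  have h1 : u * (y : G) * u⁻¹ = u * x * u⁻¹ := congrArg Subtype.val hy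
  have h2 : (y : G) = x := by simpa using h1
  rw [← h2]
  exact y.2

section four

variable {G : Type*} [Group G] {t : G} (e : centralizer ({t} : Set G) ≃* DihedralGroup 4)

/-- The four-group of `a`. -/
def VV : Subgroup G := (vA.map e.symm.toMonoidHom).map (centralizer ({t} : Set G)).subtype

theorem mem_VV_iff {x : G} : x ∈ VV e ↔ ∃ w ∈ vA, x = inG e w := by
  constructor
  · rintro ⟨y, ⟨w, hw, rfl⟩, rfl⟩
    exact ⟨w, hw, rfl⟩
  · rintro ⟨w, hw, rfl⟩
    exact ⟨_, ⟨w, hw, rfl⟩, rfl⟩

variable (ht : orderOf t = 2)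
include ht

theorem mem_VV {x : G} : x ∈ VV e ↔ x = 1 ∨ x = t ∨ x = aa e ∨ x = aa e * t := by
  rw [mem_VV_iff]
  constructor
  · rintro ⟨w, hw, rfl⟩
    rcases hw with rfl | rfl | rfl | rfl
    · left; exact inG_one e
    · right; left; exact inG_r2 e ht
    · right; right; left; rfl
    · right; right; right; exact inG_sr2 e ht
  · rintro (rfl | rfl | rfl | rfl)
    · exact ⟨1, Or.inl rfl, (inG_one e).symm⟩
    · exact ⟨r 2, Or.inr (Or.inl rfl), (inG_r2 e ht).symm⟩
    · exact ⟨sr 0, Or.inr (Or.inr (Or.inl rfl)), rfl⟩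
    · exact ⟨sr 2, Or.inr (Or.inr (Or.inr rfl)), (inG_sr2 e ht).symm⟩

omit ht in
theorem finite_VV : Finite (VV e) := by
  have : Finite (vA : Subgroup (DihedralGroup 4)) := inferInstance
  refine Finite.of_surjective (fun w : vA => (⟨inG e w, (mem_VV_iff e).2 ⟨w, w.2, rfl⟩⟩ : VV e)) ?_
  rintro ⟨x, hx⟩
  obtain ⟨w, hw, rfl⟩ := (mem_VV_iff e).1 hx
  exact ⟨⟨w, hw⟩, rfl⟩

omit ht in
include e in
theorem finite_T : Finite (centralizer ({t} : Set G)) :=
  Finite.of_equiv _ e.symm.toEquiv

omit ht in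
/-- The centralizer normalizes the four-group. -/
theorem T_le_normalizer : centralizer ({t} : Set G) ≤ normalizer ((VV e : Subgroup G) : Set G) := by
  intro s hs
  have := finite_VV e
  apply mem_normalizer_of_conj_mem
  intro x hx
  obtain ⟨w, hw, rfl⟩ := (mem_VV_iff e).1 hx
  obtain ⟨u, rfl⟩ := exists_inG e hs
  rw [mem_VV_iff]
  refine ⟨u * w * u⁻¹, ?_, by simp⟩
  have key : ∀ u w : DihedralGroup 4, (w = 1 ∨ w = r 2 ∨ w = sr 0 ∨ w = sr 2) →
      (u * w * u⁻¹ = 1 ∨ u * w * u⁻¹ = r 2 ∨ u * w * u⁻¹ = sr 0 ∨ u * w * u⁻¹ = sr 2) := by decide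
  exact key u w hw

omit ht in
theorem VV_inter {x : G} (h1 : x ∈ VV e) (h2 : x ∈ VV (eS e)) : x = 1 ∨ x = inG e (r 2) := by
  obtain ⟨w, hw, rfl⟩ := (mem_VV_iff e).1 h1
  obtain ⟨w', hw', h3⟩ := (mem_VV_iff (eS e)).1 h2
  have h4 : inG (eS e) w' = inG e (swapD.symm w') := rfl
  rw [h4] at h3
  have h5 := inG_inj e h3
  have key : ∀ w w' : DihedralGroup 4, (w = 1 ∨ w = r 2 ∨ w = sr 0 ∨ w = sr 2) →
      (w' = 1 ∨ w' = r 2 ∨ w' = sr 0 ∨ w' = sr 2) → w = swapD.symm w' → w = 1 ∨ w = r 2 := by decide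
  rcases key w w' hw hw' h5 with rfl | rfl
  · left; exact inG_one e
  · right; rfl

include e in
/-- `T` is a Sylow subgroup. -/
theorem exists_sylow [Finite G] : ∃ S : Sylow 2 G, (S : Subgroup G) = centralizer ({t} : Set G) := by
  have : Fact (Nat.Prime 2) := ⟨Nat.prime_two⟩
  have hc : Nat.card (centralizer ({t} : Set G)) = 8 := card_S e
  have hp : IsPGroup 2 (centralizer ({t} : Set G)) := IsPGroup.of_card (n := 3) (by rw [hc]; norm_num)
  obtain ⟨S, hS⟩ := hp.exists_le_sylow
  refine ⟨S, (Subgroup.eq_of_le_of_card_ge hS ?_).symm⟩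
  rw [hc]
  obtain ⟨k, hk⟩ := IsPGroup.iff_card.mp S.isPGroup'
  rw [hk]
  have hd : 2 ^ k ∣ Nat.card G := by
    rw [← hk]
    exact Subgroup.card_subgroup_dvd_card _
  obtain ⟨q, hq⟩ : ∃ q, Nat.card G = 8 * (2 * q + 1) := ⟨Nat.card G / 16, by
    have := card_mod e ht
    omega⟩
  rw [hq] at hd
  have hcop : Nat.Coprime (2 ^ k) (2 * q + 1) := by
    apply Nat.Coprime.pow_left
    simp
  have h8 : 2 ^ k ∣ 8 := hcop.dvd_of_dvd_mul_right hd
  exact Nat.le_of_dvd (by norm_num) h8

/-- An element conjugating `t` into `a` maps the four-group of `a` to itself. -/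
theorem conj_aa_classes [Finite G] {g : G} (hg : g * t * g⁻¹ = aa e) :
    g⁻¹ * t * g = aa e ∨ g⁻¹ * t * g = aa e * t := by
  have : Fact (Nat.Prime 2) := ⟨Nat.prime_two⟩
  set y := g⁻¹ * t * g with hy
  have hgy : g * y * g⁻¹ = t := by rw [hy]; group
  have hyt : y * t = t * y := by
    have h1 : t * aa e = aa e * t := t_aa e ht
    rw [← hg] at h1
    have h2 : y * t = g⁻¹ * (t * (g * t * g⁻¹)) * g := by rw [hy]; group
    have h3 : t * y = g⁻¹ * ((g * t * g⁻¹) * t) * g := by rw [hy]; group
    rw [h2, h3, h1]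
  have ht2 := t_sq ht
  have htt := t_t ht
  have hy2 : y ^ 2 = 1 := by
    rw [hy, pow_two]
    have : g⁻¹ * t * g * (g⁻¹ * t * g) = g⁻¹ * (t * t) * g := by group
    rw [this, htt]
    group
  have hy1 : y ≠ 1 := by
    intro h
    have : t = 1 := by
      have h2 := hgy
      rw [h] at h2
      simpa using h2.symm
    exact t_ne_one ht this
  by_contra hbad
  push Not at hbad
  have hcases : y = bb e ∨ y = bb e * t := by
    rcases inv_comm_t e ht hyt hy2 hy1 with h | h | h | h | h
    · exfalso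
      rw [h] at hgy
      exact t_ne_aa e ht (hgy.symm.trans hg)
    · exact absurd h hbad.1
    · exact absurd h hbad.2
    · exact Or.inl h
    · exact Or.inr h
  have hV2 : ∀ {x : G}, x ∈ VV (eS e) ↔ x = 1 ∨ x = t ∨ x = y ∨ x = y * t := by
    intro x
    rw [mem_VV (eS e) ht, aa_eS]
    rcases hcases with h | h
    · rw [h]
    · rw [h, mul_assoc, htt, mul_one]
      tauto
  have hyV : y ∈ VV (eS e) := hV2.2 (Or.inr (Or.inr (Or.inl rfl)))
  obtain ⟨S, hS⟩ := exists_sylow e ht
  have := finite_VV e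
  have := finite_VV (eS e)
  have hfT := finite_T e
  have hcomm : t * aa e = aa e * t := t_aa e ht
  have hg1 : ∀ x ∈ VV (eS e), g * x * g⁻¹ ∈ VV e := by
    intro x hx
    rw [mem_VV e ht]
    rcases hV2.1 hx with rfl | rfl | rfl | rfl
    · left; group
    · right; right; left; exact hg
    · right; left; exact hgy
    · right; right; right
      have : g * (y * t) * g⁻¹ = (g * y * g⁻¹) * (g * t * g⁻¹) := by group
      rw [this, hgy, hg, hcomm]
  have hginvA : g⁻¹ * aa e * g = t := by rw [← hg]; group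
  have hg2 : ∀ x ∈ VV e, g⁻¹ * x * g ∈ VV (eS e) := by
    intro x hx
    rw [hV2]
    rcases (mem_VV e ht).1 hx with rfl | rfl | rfl | rfl
    · left; group
    · right; right; left; rfl
    · right; left; exact hginvA
    · right; right; right
      have : g⁻¹ * (aa e * t) * g = (g⁻¹ * aa e * g) * (g⁻¹ * t * g) := by group
      rw [this, hginvA, ← hy]
      exact hyt.symm
  -- the conjugate of `T`
  let K : Subgroup G := normalizer ((VV e : Subgroup G) : Set G)
  let T' : Subgroup G := (centralizer ({t} : Set G)).map (MulAut.conj g).toMonoidHom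
  have hSK : (S : Subgroup G) ≤ K := by rw [hS]; exact T_le_normalizer e
  have hT' : IsPGroup 2 T' := by
    have hc : Nat.card (centralizer ({t} : Set G)) = 8 := card_S e
    have hp : IsPGroup 2 (centralizer ({t} : Set G)) := IsPGroup.of_card (n := 3) (by rw [hc]; norm_num)
    exact hp.map _
  have hT'K : T' ≤ K := by
    rintro _ ⟨s, hs, rfl⟩
    apply mem_normalizer_of_conj_mem
    intro x hx
    have h1 := hg2 x hx
    have h2 : s ∈ normalizer ((VV (eS e) : Subgroup G) : Set G) := T_le_normalizer (eS e) hs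
    have h3 := (mem_normalizer_iff.mp h2 _).mp h1
    have h4 := hg1 _ h3
    have : (MulAut.conj g).toMonoidHom s * x * ((MulAut.conj g).toMonoidHom s)⁻¹ =
        g * (s * (g⁻¹ * x * g) * s⁻¹) * g⁻¹ := by
      simp only [MulEquiv.toMonoidHom_eq_coe, MonoidHom.coe_coe, MulAut.conj_apply]
      group
    rw [this]
    exact h4
  obtain ⟨k, hk, hkT⟩ := Cfsg.Agent.Lib.SylowConjLemmas.exists_conj_mem_of_le S K hSK T' hT' hT'K
  have hx : k * g ∈ centralizer ({t} : Set G) := by
    apply normalizer_le e ht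
    apply mem_normalizer_of_conj_mem
    intro s hs
    have h1 := hkT _ (Subgroup.mem_map_of_mem _ hs)
    rw [hS] at h1
    have : k * g * s * (k * g)⁻¹ = k * ((MulAut.conj g).toMonoidHom s) * k⁻¹ := by
      simp only [MulEquiv.toMonoidHom_eq_coe, MonoidHom.coe_coe, MulAut.conj_apply]
      group
    rw [this]
    exact h1
  have hxt : k * g * t = t * (k * g) := mem_centralizer_singleton_iff.1 hx
  have h1 : k * g * y * (k * g)⁻¹ ∈ VV (eS e) :=
    (mem_normalizer_iff.mp (T_le_normalizer (eS e) hx) _).mp hyV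
  have h2 : k * g * y * (k * g)⁻¹ ∈ VV e := by
    have : k * g * y * (k * g)⁻¹ = k * (g * y * g⁻¹) * k⁻¹ := by group
    rw [this, hgy]
    exact (mem_normalizer_iff.mp hk _).mp ((mem_VV e ht).2 (Or.inr (Or.inl rfl)))
  have h3 : y = t := by
    rcases VV_inter e h2 h1 with h | h
    · exfalso
      apply hy1
      have : y = (k * g)⁻¹ * (k * g * y * (k * g)⁻¹) * (k * g) := by group
      rw [this, h]
      group
    · rw [inG_r2 e ht] at h
      have h4 : (k * g) * y = t * (k * g) := by
        calc (k * g) * y = (k * g * y * (k * g)⁻¹) * (k * g) := by group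
          _ = t * (k * g) := by rw [h]
      rw [← hxt] at h4
      exact mul_left_cancel h4
  rw [h3] at hgy
  exact t_ne_aa e ht (hgy.symm.trans hg)

end four

variable {G' : Type*} [Group G']

/-- The element of order three. -/
theorem three_elts {G : Type*} [Group G] {t a b g : G} (htt : t * t = 1) (haa : a * a = 1)
    (hbb : b * b = 1) (hta : t * a = a * t) (hbt : b * t = t * b) (hba : b * a * b = a * t)
    (h1 : g * t * g⁻¹ = a) (h2 : g * a * g⁻¹ = a * t)
    (hC : ∀ x : G, x * t = t * x → x * a = a * x → x = 1 ∨ x = t ∨ x = a ∨ x = a * t) (hne : t ≠ a) :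
    ∃ c : G, c * c * c = 1 ∧ b * c * b * c = 1 ∧ c * t * c⁻¹ = a ∧ c * a * c⁻¹ = a * t := by
  have tt' : ∀ u, t * (t * u) = u := fun u => by rw [← mul_assoc, htt, one_mul]
  have aa' : ∀ u, a * (a * u) = u := fun u => by rw [← mul_assoc, haa, one_mul]
  have bb' : ∀ u, b * (b * u) = u := fun u => by rw [← mul_assoc, hbb, one_mul]
  have ta' : ∀ u, t * (a * u) = a * (t * u) := fun u => by rw [← mul_assoc, hta, mul_assoc]
  have bt' : ∀ u, b * (t * u) = t * (b * u) := fun u => by rw [← mul_assoc, hbt, mul_assoc]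
  have hba2 : b * a = a * t * b := by
    calc b * a = b * a * b * b := by rw [mul_assoc (b * a), hbb, mul_one]
      _ = a * t * b := by rw [hba]
  have ba' : ∀ u, b * (a * u) = a * (t * (b * u)) := fun u => by
    rw [← mul_assoc, hba2]; simp only [mul_assoc]
  have g1 : g * t = a * g := by
    calc g * t = g * t * g⁻¹ * g := by group
      _ = a * g := by rw [h1]
  have g2 : g * a = a * t * g := by
    calc g * a = g * a * g⁻¹ * g := by group
      _ = a * t * g := by rw [h2]
  have g1' : ∀ u, g * (t * u) = a * (g * u) := fun u => by rw [← mul_assoc, g1, mul_assoc]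
  have g2' : ∀ u, g * (a * u) = a * (t * (g * u)) := fun u => by
    rw [← mul_assoc, g2]; simp only [mul_assoc]
  -- the cube of `g`
  have hw0 : g * g * g * t = t * (g * g * g) := by
    simp only [mul_assoc, g1', g2', ta', tt', aa', g1, g2]
  have hw1 : g * g * g * a = a * (g * g * g) := by
    simp only [mul_assoc, g1', g2', ta', tt', aa', g1, g2]
  have hw2 : (g * g * g) * (g * g * g) = 1 := by
    rcases hC _ hw0 hw1 with h | h | h | h <;> rw [h]
    · simp
    · exact htt
    · exact haa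
    · calc a * t * (a * t) = a * (t * (a * t)) := by group
        _ = 1 := by rw [ta', aa', htt]
  set c0 := g * g * g * g with hc0
  have c03 : c0 * c0 * c0 = 1 := by
    calc c0 * c0 * c0 = g * g * g * g * (g * g * g * g) * (g * g * g * g) := rfl
      _ = ((g * g * g) * (g * g * g)) * ((g * g * g) * (g * g * g)) := by group
      _ = 1 := by rw [hw2, one_mul]
  have c1 : c0 * t = a * c0 := by
    have : c0 * t = g * (g * g * g * t) := by rw [hc0]; group
    rw [this, hw0, hc0]
    calc g * (t * (g * g * g)) = (g * t) * (g * g * g) := by group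
      _ = a * (g * g * g * g) := by rw [g1]; group
  have c2 : c0 * a = a * t * c0 := by
    have : c0 * a = g * (g * g * g * a) := by rw [hc0]; group
    rw [this, hw1, hc0]
    calc g * (a * (g * g * g)) = (g * a) * (g * g * g) := by group
      _ = a * t * (g * g * g * g) := by rw [g2]; group
  have c1' : ∀ u, c0 * (t * u) = a * (c0 * u) := fun u => by rw [← mul_assoc, c1, mul_assoc]
  have c2' : ∀ u, c0 * (a * u) = a * (t * (c0 * u)) := fun u => by
    rw [← mul_assoc, c2]; simp only [mul_assoc]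
  clear_value c0
  -- the element `b c₀ b c₀`
  have hw3 : b * c0 * b * c0 * t = t * (b * c0 * b * c0) := by
    simp only [mul_assoc, c1', c2', ta', tt', aa', bt', ba', c1, c2]
  have hw4 : b * c0 * b * c0 * a = a * (b * c0 * b * c0) := by
    simp only [mul_assoc, c1', c2', ta', tt', aa', bt', ba', c1, c2]
  have hwc : b * (b * c0 * b * c0) * b = c0 * (b * c0 * b * c0) * c0⁻¹ := by
    simp only [mul_assoc, bb', mul_inv_cancel, mul_one]
  have tc : t * c0 = c0 * (a * t) := by
    simp only [c2', c1, ta', aa']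
  rcases hC _ hw3 hw4 with h | h | h | h
  · refine ⟨c0, c03, h, ?_, ?_⟩
    · rw [c1]; group
    · rw [c2]; group
  · exfalso
    rw [h] at hwc
    have h5 : b * t * b = t := by rw [hbt, mul_assoc, hbb, mul_one]
    rw [h5, c1] at hwc
    apply hne
    rw [hwc]
    group
  · -- the element `c₀ t`
    have hb : b * c0 * b * c0 * a = 1 := by rw [h, haa]
    have tc' : ∀ u, t * (c0 * u) = c0 * (a * (t * u)) := fun u => by
      rw [← mul_assoc, tc]; simp only [mul_assoc]
    have tb' : ∀ u, t * (b * u) = b * (t * u) := fun u => (bt' u).symm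
    have ac' : ∀ u, a * (c0 * u) = c0 * (t * u) := fun u => (c1' u).symm
    refine ⟨c0 * t, ?_, ?_, ?_, ?_⟩
    · calc c0 * t * (c0 * t) * (c0 * t) = c0 * (t * (c0 * (t * (c0 * t)))) := by group
        _ = c0 * c0 * c0 := by
          simp only [tc', tt', ac', ta', htt, haa, mul_one, mul_assoc]
        _ = 1 := c03
    · calc b * (c0 * t) * b * (c0 * t) = b * (c0 * (t * (b * (c0 * t)))) := by group
        _ = b * c0 * b * c0 * a := by
          simp only [tb', tc', htt, mul_one, mul_assoc]
        _ = 1 := hb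
    · calc c0 * t * t * (c0 * t)⁻¹ = c0 * t * c0⁻¹ := by
            simp only [mul_inv_rev]
            calc c0 * t * t * (t⁻¹ * c0⁻¹) = c0 * t * (t * t⁻¹) * c0⁻¹ := by group
              _ = c0 * t * c0⁻¹ := by simp
        _ = a := by rw [c1]; group
    · calc c0 * t * a * (c0 * t)⁻¹ = c0 * (t * a * t⁻¹) * c0⁻¹ := by group
        _ = c0 * a * c0⁻¹ := by
          have h7 : t * a * t⁻¹ = a := by rw [hta]; group
          rw [h7]
        _ = a * t := by rw [c2]; group
  · exfalso
    rw [h] at hwc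
    have h5 : b * (a * t) * b = a := by
      simp only [mul_assoc, ba', bt', tt', hbb, htt, mul_one]
    have h6 : c0 * (a * t) * c0⁻¹ = t := by
      rw [← tc]; group
    rw [h5, h6] at hwc
    exact hne hwc.symm

/-- The element of order three in the group `T`, from the fusion of `t` and `a`. -/
theorem exists_c [Finite G'] {t : G'} (e : centralizer ({t} : Set G') ≃* DihedralGroup 4)
    (ht : orderOf t = 2) (hf : ∃ g, g * t * g⁻¹ = aa e) :
    ∃ c : G', c * c * c = 1 ∧ bb e * c * bb e * c = 1 ∧ c * t * c⁻¹ = aa e ∧ c * aa e * c⁻¹ = aa e * t := by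
  obtain ⟨g, hg⟩ := hf
  have htt := t_t ht
  have haa := aa_sq e ht
  have hbb := bb_sq e ht
  have hta := t_aa e ht
  have hbt : bb e * t = t * bb e := (t_bb e ht).symm
  have hba := bb_aa_bb e ht
  have hne := t_ne_aa e ht
  have key : ∃ g₁, g₁ * t * g₁⁻¹ = aa e ∧ g₁ * aa e * g₁⁻¹ = aa e * t := by
    rcases conj_aa_classes e ht hg with h | h
    · -- a transposition on the four-group: correct by `b`
      have h1 : g * aa e * g⁻¹ = t := by rw [← h]; group
      refine ⟨g * bb e, ?_, ?_⟩
      · calc g * bb e * t * (g * bb e)⁻¹ = g * (bb e * t * (bb e)⁻¹) * g⁻¹ := by group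
          _ = g * t * g⁻¹ := by rw [hbt]; group
          _ = aa e := hg
      · have hi : (bb e)⁻¹ = bb e := inv_eq_of_mul_eq_one_left hbb
        calc g * bb e * aa e * (g * bb e)⁻¹ = g * (bb e * aa e * (bb e)⁻¹) * g⁻¹ := by group
          _ = g * (aa e * t) * g⁻¹ := by rw [hi, hba]
          _ = (g * aa e * g⁻¹) * (g * t * g⁻¹) := by group
          _ = aa e * t := by rw [h1, hg, hta]
    · refine ⟨g, hg, ?_⟩
      have h1 : g * (aa e * t) * g⁻¹ = t := by rw [← h]; group
      calc g * aa e * g⁻¹ = g * (aa e * t * t) * g⁻¹ := by rw [mul_assoc (aa e), htt, mul_one]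
        _ = (g * (aa e * t) * g⁻¹) * (g * t * g⁻¹) := by group
        _ = aa e * t := by rw [h1, hg, hta]
  obtain ⟨g₁, h1, h2⟩ := key
  exact three_elts htt haa hbb hta hbt hba h1 h2 (fun x h3 h4 => comm_t_aa e ht h3 h4) hne

/-- The relations of the amalgam, from the fusion. -/
theorem exists_amRel [Finite G'] {t : G'} (e : centralizer ({t} : Set G') ≃* DihedralGroup 4)
    (ht : orderOf t = 2) (hfa : ∃ g, g * t * g⁻¹ = aa e) (hfb : ∃ g, g * t * g⁻¹ = bb e) :
    ∃ c d : G', Cfsg.Agent.Lib.D8A6Pres.AmRel (aa e) (bb e) c d ∧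
      c * t * c⁻¹ = aa e ∧ c * aa e * c⁻¹ = aa e * t ∧
      d * t * d⁻¹ = bb e ∧ d * bb e * d⁻¹ = bb e * t := by
  obtain ⟨c, c1, c2, c3, c4⟩ := exists_c e ht hfa
  obtain ⟨d, d1, d2, d3, d4⟩ := exists_c (eS e) ht hfb
  rw [aa_eS, bb_eS] at *
  have htt := t_t ht
  have haa := aa_sq e ht
  have hbb := bb_sq e ht
  have hab := abab e ht
  refine ⟨c, d, ⟨haa, hbb, ab8 e ht, c1, c2, ?_, ?_, d1, d2, ?_, ?_⟩, c3, c4, d3, d4⟩
  · rw [hab, c3, haa]
  · rw [hab, c4, mul_assoc (aa e), htt, mul_one, haa]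
  · rw [hab, d3, hbb]
  · rw [hab, d4, mul_assoc (bb e), htt, mul_one, hbb]

end Cfsg.Agent.Lib.D8Fus
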