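import Mathlib
import Cfsg.Agent.Lib.D8Fus
import Cfsg.Agent.Lib.D8CentChar
import Cfsg.Agent.Lib.BSWGroup
import Cfsg.Agent.Lib.SylowConjLemmas

/-!
# Involutions with centralizer dihedral of order eight: the fused case

If `t` is conjugate to a reflection of each class of `C(t) ≅ D₈`, the group is simple of order `168`
or `360`.
-/

set_option autoImplicit false
set_option linter.unusedVariables false
set_option linter.unusedSectionVars false
set_option linter.unusedSimpArgs false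
set_option maxRecDepth 10000

namespace Cfsg.Agent.Lib.D8Simple

open Subgroup DihedralGroup
open Cfsg.Agent.Lib.D8CentGroup Cfsg.Agent.Lib.D8Fus

variable {G : Type*} [Group G] {t : G} (e : centralizer ({t} : Set G) ≃* DihedralGroup 4)
  (ht : orderOf t = 2)

include ht

/-- The two reflections of the same four-group are conjugate. -/
theorem conj_aa_t : ∃ g : G, g * aa e * g⁻¹ = aa e * t := by
  refine ⟨inG e (r 1), ?_⟩
  have h1 : (inG e (r 1))⁻¹ = inG e (r (-1)) := by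
    rw [← inG_inv]; rfl
  rw [h1]
  unfold aa
  rw [inG_rw e (r 1) (sr 0) (sr (-1)) (by decide), inG_rw e (sr (-1)) (r (-1)) (sr 2) (by decide),
    inG_sr2 e ht]
  rfl

/-- An involution is conjugate into `T`. -/
theorem inv_conj_into [Finite G] {u : G} (hu2 : u ^ 2 = 1) (hu1 : u ≠ 1) :
    ∃ g, g * u * g⁻¹ = t ∨ g * u * g⁻¹ = aa e ∨ g * u * g⁻¹ = aa e * t ∨ g * u * g⁻¹ = bb e ∨
      g * u * g⁻¹ = bb e * t := by
  have : Fact (Nat.Prime 2) := ⟨Nat.prime_two⟩
  obtain ⟨S, hS⟩ := exists_sylow e ht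
  have hp : IsPGroup 2 (zpowers u) := by
    apply IsPGroup.of_card (n := 1)
    rw [Nat.card_zpowers, orderOf_eq_prime hu2 hu1]
    norm_num
  obtain ⟨g, hg⟩ := Cfsg.Agent.Lib.SylowConjLemmas.exists_conj_mem S _ hp
  have h1 := hg u (mem_zpowers u)
  rw [hS] at h1
  refine ⟨g, ?_⟩
  apply inv_comm_t e ht (mem_centralizer_singleton_iff.1 h1)
  · have : (g * u * g⁻¹) ^ 2 = g * u ^ 2 * g⁻¹ := by simp [pow_two, mul_assoc]
    rw [this, hu2]
    group
  · intro h
    apply hu1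
    have : u = g⁻¹ * (g * u * g⁻¹) * g := by group
    rw [this, h]
    group

/-- If `t` fuses with `a`, all of `a`, `a t` are conjugate to `t`. -/
theorem conj_of_fus {g : G} (hg : g * t * g⁻¹ = aa e) :
    ∃ g', g' * t * g'⁻¹ = aa e * t := by
  obtain ⟨g₁, h1⟩ := conj_aa_t e ht
  refine ⟨g₁ * g, ?_⟩
  calc g₁ * g * t * (g₁ * g)⁻¹ = g₁ * (g * t * g⁻¹) * g₁⁻¹ := by group
    _ = aa e * t := by rw [hg, h1]

/-- In the fully fused case, all involutions are conjugate to `t`. -/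
theorem all_conj [Finite G] (hfa : ∃ g, g * t * g⁻¹ = aa e) (hfb : ∃ g, g * t * g⁻¹ = bb e)
    {u : G} (hu2 : u ^ 2 = 1) (hu1 : u ≠ 1) : ∃ g, g * t * g⁻¹ = u := by
  have key : ∃ g₁ g₂, g₁ * u * g₁⁻¹ = g₂ * t * g₂⁻¹ := by
    obtain ⟨g₁, h⟩ := inv_conj_into e ht hu2 hu1
    obtain ⟨g₂, h2⟩ := hfa
    obtain ⟨g₃, h3⟩ := conj_of_fus e ht h2
    obtain ⟨g₄, h4⟩ := hfb
    obtain ⟨g₅, h5⟩ := conj_of_fus (eS e) ht (g := g₄) h4
    rw [aa_eS] at h5
    rcases h with h | h | h | h | h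
    · exact ⟨g₁, 1, by rw [h]; group⟩
    · exact ⟨g₁, g₂, by rw [h, h2]⟩
    · exact ⟨g₁, g₃, by rw [h, h3]⟩
    · exact ⟨g₁, g₄, by rw [h, h4]⟩
    · exact ⟨g₁, g₅, by rw [h, h5]⟩
  obtain ⟨g₁, g₂, h⟩ := key
  refine ⟨g₁⁻¹ * g₂, ?_⟩
  calc g₁⁻¹ * g₂ * t * (g₁⁻¹ * g₂)⁻¹ = g₁⁻¹ * (g₂ * t * g₂⁻¹) * g₁ := by group
    _ = u := by rw [← h]; group

include e in
/-- An element commuting with a conjugate of `t` has fourth power one. -/
theorem pow_four_of_comm_conj {u x g : G} (hg : g * t * g⁻¹ = u) (hx : x * u = u * x) : x ^ 4 = 1 := by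
  have h1 : (g⁻¹ * x * g) * t = t * (g⁻¹ * x * g) := by
    have h2 : x * (g * t * g⁻¹) = (g * t * g⁻¹) * x := by rw [hg, hx]
    calc (g⁻¹ * x * g) * t = g⁻¹ * (x * (g * t * g⁻¹)) * g := by group
      _ = g⁻¹ * ((g * t * g⁻¹) * x) * g := by rw [h2]
      _ = t * (g⁻¹ * x * g) := by group
  have h3 := pow_four_of_comm e ht h1
  have h4 : (g⁻¹ * x * g) ^ 4 = g⁻¹ * x ^ 4 * g := by
    simp only [pow_succ, pow_zero, one_mul]
    group
  rw [h4] at h3
  calc x ^ 4 = g * (g⁻¹ * x ^ 4 * g) * g⁻¹ := by group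
    _ = 1 := by rw [h3]; group

/-- A normal subgroup of odd order is trivial if `t` fuses with `a`. -/
theorem odd_normal_trivial [Finite G] (hfa : ∃ g, g * t * g⁻¹ = aa e) (N : Subgroup G) [hN : N.Normal]
    (hodd : Odd (Nat.card N)) : N = ⊥ := by
  obtain ⟨g₂, h2⟩ := hfa
  obtain ⟨g₃, h3⟩ := conj_of_fus e ht h2
  have hfix : ∀ {u g : G}, g * t * g⁻¹ = u → ∀ x ∈ N, x * u = u * x → x = 1 := by
    intro u g hg x hx hxu
    have h4 := pow_four_of_comm_conj e ht hg hxu
    have h5 : orderOf x ∣ 4 := orderOf_dvd_of_pow_eq_one h4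
    have h6 : orderOf x ∣ Nat.card N := by
      have := orderOf_dvd_natCard (⟨x, hx⟩ : N)
      rwa [Subgroup.orderOf_mk] at this
    have h7 : Nat.Coprime 4 (Nat.card N) := by
      have : Nat.Coprime (2 ^ 2) (Nat.card N) := Nat.Coprime.pow_left 2 hodd.coprime_two_left
      simpa using this
    have h8 : orderOf x = 1 := Nat.eq_one_of_dvd_coprimes h7 h5 h6
    exact orderOf_eq_one_iff.1 h8
  have hinv : ∀ {u g : G}, g * t * g⁻¹ = u → ∀ x ∈ N, u * x * u⁻¹ = x⁻¹ := by
    intro u g hg x hx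
    have hu : u * u = 1 := by
      rw [← hg]
      have : g * t * g⁻¹ * (g * t * g⁻¹) = g * (t * t) * g⁻¹ := by group
      rw [this, t_t ht]
      group
    exact Cfsg.Agent.Lib.BSW.fpf_inverts N hu (fun a ha => hN.conj_mem a ha u) (fun y hy h => hfix hg y hy (by
      calc y * u = u * y * u⁻¹ * u := by rw [h]
        _ = u * y := by group)) x hx
  rw [Subgroup.eq_bot_iff_forall]
  intro x hx
  have h1 := hinv h2 x hx
  have h4 := hinv (u := t) (g := 1) (by group) x hx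
  apply hfix h3 x hx
  have hta : (aa e * t) * x * (aa e * t)⁻¹ = x := by
    calc (aa e * t) * x * (aa e * t)⁻¹ = aa e * (t * x * t⁻¹) * (aa e)⁻¹ := by group
      _ = aa e * x⁻¹ * (aa e)⁻¹ := by rw [h4]
      _ = (aa e * x * (aa e)⁻¹)⁻¹ := by group
      _ = x := by rw [h1, inv_inv]
  calc x * (aa e * t) = (aa e * t) * x * (aa e * t)⁻¹ * (aa e * t) := by rw [hta]
    _ = (aa e * t) * x := by group

/-- In the fully fused case, the centralizer is generated by the two reflections. -/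
theorem T_le_of_mem (N : Subgroup G) (h1 : aa e ∈ N) (h2 : bb e ∈ N) :
    centralizer ({t} : Set G) ≤ N := by
  intro x hx
  obtain ⟨w, rfl⟩ := exists_inG e hx
  have key : ∀ w : DihedralGroup 4, w = 1 ∨ w = sr 0 ∨ w = sr 1 ∨ w = sr 0 * sr 1 ∨ w = sr 1 * sr 0 ∨
      w = sr 0 * sr 1 * sr 0 ∨ w = sr 1 * sr 0 * sr 1 ∨ w = sr 0 * sr 1 * sr 0 * sr 1 := by decide
  have hA : inG e (sr 0) ∈ N := h1
  have hB : inG e (sr 1) ∈ N := h2
  rcases key w with rfl | rfl | rfl | rfl | rfl | rfl | rfl | rfl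
  · rw [inG_one]; exact N.one_mem
  · exact hA
  · exact hB
  · rw [inG_mul]; exact N.mul_mem hA hB
  · rw [inG_mul]; exact N.mul_mem hB hA
  · rw [inG_mul, inG_mul]; exact N.mul_mem (N.mul_mem hA hB) hA
  · rw [inG_mul, inG_mul]; exact N.mul_mem (N.mul_mem hB hA) hB
  · rw [inG_mul, inG_mul, inG_mul]; exact N.mul_mem (N.mul_mem (N.mul_mem hA hB) hA) hB

/-- A normal subgroup containing the two reflections is everything. -/
theorem eq_top_of_mem [Finite G] (N : Subgroup G) [hN : N.Normal] (h1 : aa e ∈ N) (h2 : bb e ∈ N) :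
    N = ⊤ := by
  have : Fact (Nat.Prime 2) := ⟨Nat.prime_two⟩
  obtain ⟨S, hS⟩ := exists_sylow e ht
  have hT := T_le_of_mem e ht N h1 h2
  have h3 : normalizer ((S : Subgroup G) : Set G) ⊔ N = ⊤ := S.normalizer_sup_eq_top' (N := N) (by
    show (S : Subgroup G) ≤ N
    rw [hS]; exact hT)
  have h4 : normalizer ((S : Subgroup G) : Set G) ≤ N := by
    rw [hS]
    exact (normalizer_le e ht).trans hT
  rw [sup_of_le_right h4] at h3
  exact h3

/-- The fully fused case: the group is simple. -/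
theorem isSimple [Finite G] (hfa : ∃ g, g * t * g⁻¹ = aa e) (hfb : ∃ g, g * t * g⁻¹ = bb e) :
    IsSimpleGroup G := by
  have : Nontrivial G := ⟨⟨t, 1, t_ne_one ht⟩⟩
  refine ⟨?_⟩
  intro N hN
  by_cases hodd : Odd (Nat.card N)
  · left
    exact odd_normal_trivial e ht hfa N hodd
  · right
    have heven : 2 ∣ Nat.card N := by
      rw [← even_iff_two_dvd]
      exact Nat.not_odd_iff_even.mp hodd
    have : Fact (Nat.Prime 2) := ⟨Nat.prime_two⟩
    obtain ⟨x, hx⟩ := exists_prime_orderOf_dvd_card' (G := N) 2 heven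
    have hu2 : (x : G) ^ 2 = 1 := by
      have := pow_orderOf_eq_one x
      rw [hx] at this
      exact congrArg Subtype.val this
    have hu1 : (x : G) ≠ 1 := by
      intro h
      have : x = 1 := Subtype.ext h
      rw [this, orderOf_one] at hx
      omega
    have hmem : ∀ {u : G}, u ^ 2 = 1 → u ≠ 1 → u ∈ N := by
      intro u h1 h2
      obtain ⟨g₁, hg₁⟩ := all_conj e ht hfa hfb hu2 hu1
      obtain ⟨g₂, hg₂⟩ := all_conj e ht hfa hfb h1 h2
      have : u = (g₂ * g₁⁻¹) * x * (g₂ * g₁⁻¹)⁻¹ := by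
        rw [← hg₁, ← hg₂]; group
      rw [this]
      exact hN.conj_mem _ x.2 _
    apply eq_top_of_mem e ht N
    · apply hmem
      · rw [pow_two]; exact aa_sq e ht
      · exact aa_ne_one e ht
    · apply hmem
      · rw [pow_two]; exact bb_sq e ht
      · exact bb_ne_one e ht

/-- The fully fused case: the group is perfect. -/
theorem isPerfect [Finite G] (hfa : ∃ g, g * t * g⁻¹ = aa e) (hfb : ∃ g, g * t * g⁻¹ = bb e) :
    commutator G = ⊤ := by
  have := isSimple e ht hfa hfb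
  rcases (inferInstance : (commutator G).Normal).eq_bot_or_eq_top with h | h
  · exfalso
    obtain ⟨g, hg⟩ := hfa
    have h1 : Subgroup.center G = ⊤ := (commutator_eq_bot_iff_center_eq_top G).1 h
    have h2 : g ∈ Subgroup.center G := by rw [h1]; trivial
    have h3 : g * t = t * g := (Subgroup.mem_center_iff.1 h2 t).symm
    apply t_ne_aa e ht
    rw [← hg, h3]
    group
  · exact h

/-- The fully fused case: the order is `168` or `360`. -/
theorem card_eq [Finite G] (hfa : ∃ g, g * t * g⁻¹ = aa e) (hfb : ∃ g, g * t * g⁻¹ = bb e) :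
    Nat.card G = 168 ∨ Nat.card G = 360 := by
  have := Fintype.ofFinite G
  exact Cfsg.Agent.Lib.D8CentChar.card_eq (isPerfect e ht hfa hfb) t ht e

end Cfsg.Agent.Lib.D8Simple
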