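import Mathlib
import Cfsg.Agent.Lib.D8Simple
import Cfsg.Agent.Lib.SmallGroups
import Cfsg.Agent.Lib.SmallGroups2

/-!
# Involutions with centralizer dihedral of order eight: order `360`

A group of order `360` with `C(t) ≅ D₈`, with `t` fused to both classes of reflections of `C(t)`, is
the alternating group of degree six: the orders of `c d` and `c d⁻¹` are at most five, and coset
enumerations settle all the cases.
-/

set_option autoImplicit false
set_option linter.unusedVariables false
set_option linter.unusedSectionVars false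
set_option linter.unusedSimpArgs false
set_option maxRecDepth 10000

namespace Cfsg.Agent.Lib.D8A6Main

open Subgroup DihedralGroup
open Cfsg.Agent.Lib.D8CentGroup Cfsg.Agent.Lib.D8Fus Cfsg.Agent.Lib.D8Simple
open Cfsg.Agent.Lib.SmallGroups Cfsg.Agent.Lib.SmallGroups2
open Cfsg.Agent.Lib.D8A6Pres Cfsg.Agent.Lib.D8A6Data

/-- A subgroup of order the full power of a prime is a Sylow subgroup. -/
theorem exists_sylow_of_card {G : Type*} [Group G] [Finite G] {p k m : ℕ} [hp : Fact p.Prime]
    (hcard : Nat.card G = p ^ k * m) (hm : ¬ p ∣ m) (H : Subgroup G) (hH : Nat.card H = p ^ k) :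
    ∃ S : Sylow p G, (S : Subgroup G) = H := by
  have hpg : IsPGroup p H := IsPGroup.of_card hH
  obtain ⟨S, hS⟩ := hpg.exists_le_sylow
  refine ⟨S, (Subgroup.eq_of_le_of_card_ge hS ?_).symm⟩
  rw [hH]
  obtain ⟨j, hj⟩ := IsPGroup.iff_card.mp S.isPGroup'
  rw [hj]
  have hd : p ^ j ∣ p ^ k * m := by
    rw [← hj, ← hcard]
    exact Subgroup.card_subgroup_dvd_card _
  have hcop : Nat.Coprime (p ^ j) m := by
    apply Nat.Coprime.pow_left
    exact (Nat.Prime.coprime_iff_not_dvd hp.out).2 hm
  exact Nat.le_of_dvd (pow_pos hp.out.pos k) (hcop.dvd_of_dvd_mul_right hd)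

/-- From an index six subgroup. -/
theorem iso_of_embedding {G : Type*} [Group G] [Finite G] (hcard : Nat.card G = 360) (n : ℕ)
    (hn : n = 6) (f : G →* alternatingGroup (Fin n)) (hf : Function.Injective f) :
    Nonempty (G ≃* alternatingGroup (Fin 6)) := by
  subst hn
  have hb : Function.Bijective f := by
    rw [Nat.bijective_iff_injective_and_card]
    exact ⟨hf, by rw [hcard, card_A6]⟩
  exact ⟨MulEquiv.ofBijective f hb⟩

/-- A conjugate of a generator of a cyclic group of order nine by a two-element. -/
theorem conj_cases {G : Type*} [Group G] {w y : G} (hy : orderOf y = 9) (hw : w ^ 4 = 1)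
    (h : w * y * w⁻¹ ∈ zpowers y) : w * y * w⁻¹ = y ∨ w * y * w⁻¹ = y⁻¹ := by
  obtain ⟨k, hk⟩ := Subgroup.mem_zpowers_iff.mp h
  have hstep : ∀ j : ℤ, w * y ^ j * w⁻¹ = y ^ (k * j) := by
    intro j
    rw [← conj_zpow, ← hk, ← zpow_mul]
  have h4 : y = y ^ (k * (k * (k * k))) := by
    have h5 : w * (w * (w * (w * y * w⁻¹) * w⁻¹) * w⁻¹) * w⁻¹ = y ^ (k * (k * (k * k))) := by
      rw [← hk, hstep, hstep, hstep]
    have h6 : w * (w * (w * (w * y * w⁻¹) * w⁻¹) * w⁻¹) * w⁻¹ = w ^ 4 * y * (w ^ 4)⁻¹ := by
      simp only [pow_succ, pow_zero, one_mul]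
      group
    rw [h6, hw] at h5
    simpa using h5
  have hdvd : (9 : ℤ) ∣ k * (k * (k * k)) - 1 := by
    have h5 : y ^ (k * (k * (k * k)) - 1) = 1 := by
      rw [zpow_sub, ← h4, zpow_one, mul_inv_cancel]
    have := orderOf_dvd_iff_zpow_eq_one.mpr h5
    rwa [hy] at this
  set r := k % 9 with hr
  have hr0 : 0 ≤ r := Int.emod_nonneg _ (by norm_num)
  have hr9 : r < 9 := Int.emod_lt_of_pos _ (by norm_num)
  have hm : (r * (r * (r * r)) - 1) % 9 = 0 := by
    have hk9 : k ≡ r [ZMOD 9] := (Int.mod_modEq k 9).symm
    have h5 : (k * (k * (k * k)) - 1) % 9 = (r * (r * (r * r)) - 1) % 9 :=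
      (hk9.mul (hk9.mul (hk9.mul hk9))).sub_right 1
    rw [← h5]
    exact Int.emod_eq_zero_of_dvd hdvd
  have key : ∀ s : ℤ, 0 ≤ s → s < 9 → (s * (s * (s * s)) - 1) % 9 = 0 → s = 1 ∨ s = 8 := by
    intro s h0 h9 hs
    interval_cases s <;> first | omega | (norm_num at hs)
  have hrr : r = 1 ∨ r = 8 := key r hr0 hr9 hm
  have hyk : y ^ k = y ^ r := by
    rw [hr]
    have := zpow_mod_orderOf y k
    rw [hy] at this
    exact this.symm
  rw [← hk, hyk]
  rcases hrr with h1 | h1
  · left; rw [h1, zpow_one]
  · right
    rw [h1]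
    apply eq_inv_of_mul_eq_one_left
    have h2 : y ^ 9 = 1 := by rw [← hy]; exact pow_orderOf_eq_one y
    rw [← h2, show (9 : ℕ) = 8 + 1 from rfl, pow_succ, zpow_ofNat]

section

variable {G : Type*} [Group G] [Finite G] {t : G} (e : centralizer ({t} : Set G) ≃* DihedralGroup 4)
  (ht : orderOf t = 2) (hfa : ∃ g, g * t * g⁻¹ = aa e) (hfb : ∃ g, g * t * g⁻¹ = bb e)
  (hcard : Nat.card G = 360)

include e ht hfa hfb

theorem not_comm : ¬ IsMulCommutative G := by
  intro h
  obtain ⟨g, hg⟩ := hfa
  apply t_ne_aa e ht
  rw [← hg, h.is_comm.comm g t]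
  group

/-- Elements commuting with an involution have fourth power one. -/
theorem pow_four_of_inv {u x : G} (hu2 : u ^ 2 = 1) (hu1 : u ≠ 1) (hx : x * u = u * x) : x ^ 4 = 1 := by
  obtain ⟨g, hg⟩ := all_conj e ht hfa hfb hu2 hu1
  exact pow_four_of_comm_conj e ht hg hx

/-- An element of even order has order at most four. -/
theorem even_order {x : G} (h2 : 2 ∣ orderOf x) : x ^ 4 = 1 := by
  have h0 : orderOf x ≠ 0 := (orderOf_pos x).ne'
  have h1 := orderOf_pow_orderOf_div h0 h2
  set u := x ^ (orderOf x / 2) with hu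
  have hu2 : u ^ 2 = 1 := by
    rw [← h1]; exact pow_orderOf_eq_one u
  have hu1 : u ≠ 1 := by
    intro h
    rw [h, orderOf_one] at h1
    omega
  exact pow_four_of_inv e ht hfa hfb hu2 hu1 (by rw [hu]; exact (pow_mul_comm' x _).symm)

/-- A nontrivial element of a subgroup of exponent dividing four has an involution among its powers. -/
theorem no_comm_of_two_power {u y : G} (h4 : u ^ 4 = 1) (hu : u ≠ 1) (hc : y * u = u * y) : y ^ 4 = 1 := by
  by_cases h2 : u ^ 2 = 1
  · exact pow_four_of_inv e ht hfa hfb h2 hu hc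
  · have h3 : (u ^ 2) ^ 2 = 1 := by rw [← pow_mul]; exact h4
    refine pow_four_of_inv e ht hfa hfb h3 h2 ?_
    rw [pow_two, ← mul_assoc, hc, mul_assoc, hc, mul_assoc]

variable (h6 : ¬ ∃ H : Subgroup G, H.index = 6)

omit h6 in
include hcard in
/-- There is no element of order nine. -/
theorem no_order_nine {y : G} (hy : orderOf y = 9) : False := by
  have hf3 : Fact (Nat.Prime 3) := ⟨by norm_num⟩
  have hf2 : Fact (Nat.Prime 2) := ⟨Nat.prime_two⟩
  have hsimple := isSimple e ht hfa hfb
  have hG := not_comm e ht hfa hfb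
  have hc : Nat.card G = 3 ^ 2 * 40 := by rw [hcard]; norm_num
  have hcP : Nat.card (zpowers y) = 3 ^ 2 := by rw [Nat.card_zpowers, hy]; norm_num
  obtain ⟨S, hS⟩ := exists_sylow_of_card hc (by norm_num) (zpowers y) hcP
  have hmem := card_sylow_mem_filter hc (by norm_num) (by norm_num)
  have hfilter : (Nat.divisors 40).filter (fun n => n % 3 = 1 % 3) = {1, 4, 10, 40} := by decide +kernel
  rw [hfilter] at hmem
  have hN := card_normalizer_mul_card_sylow S
  have hidx : (normalizer ((S : Subgroup G) : Set G)).index = Nat.card (Sylow 3 G) :=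
    (Sylow.card_eq_index_normalizer S).symm
  simp only [Finset.mem_insert, Finset.mem_singleton] at hmem
  rcases hmem with h | h | h | h
  · exact card_sylow_ne_one hG (p := 3) (by rw [hcard]; norm_num) h
  · -- index four
    have hne : normalizer ((S : Subgroup G) : Set G) ≠ ⊤ := by
      intro htop
      rw [htop, Subgroup.index_top] at hidx
      omega
    have := two_mul_card_dvd_factorial_index hG _ hne
    rw [hidx, h, hcard] at this
    exact absurd this (by decide)
  · -- ten Sylow subgroups: the normalizer has order 36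
    rw [h, hcard] at hN
    have hN36 : Nat.card (normalizer ((S : Subgroup G) : Set G)) = 36 := by omega
    set N := normalizer ((S : Subgroup G) : Set G) with hNdef
    obtain ⟨K, hK⟩ := Sylow.exists_subgroup_card_pow_prime (G := N) 2 (n := 2) (by
      rw [hN36]; norm_num)
    have hK4 : Nat.card K = 4 := by rw [hK]; norm_num
    -- the elements of `K` act by `y ↦ y^{±1}`
    have hpow : ∀ u : K, ((u : N) : G) ^ 4 = 1 := by
      intro u
      have h1 : u ^ 4 = 1 := by
        rw [← hK4]; exact pow_card_eq_one'
      have h2 : (u : N) ^ 4 = 1 := by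
        have := congrArg (Subtype.val) h1
        simpa using this
      have h3 := congrArg (Subtype.val) h2
      simpa using h3
    have hact : ∀ u : K, ((u : N) : G) * y * ((u : N) : G)⁻¹ = y ∨
        ((u : N) : G) * y * ((u : N) : G)⁻¹ = y⁻¹ := by
      intro u
      have hwN : ((u : N) : G) ∈ normalizer ((S : Subgroup G) : Set G) := (u : N).2
      have hyS : y ∈ (S : Subgroup G) := by rw [hS]; exact mem_zpowers y
      have h1 := (mem_normalizer_iff.mp hwN y).mp hyS
      rw [hS] at h1
      exact conj_cases hy (hpow u) h1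
    have hno4 : y ^ 4 ≠ 1 := by
      intro h1
      have := orderOf_dvd_of_pow_eq_one h1
      rw [hy] at this
      omega
    have hinv : ∀ u : K, u ≠ 1 → ((u : N) : G) * y * ((u : N) : G)⁻¹ = y⁻¹ := by
      intro u hu
      rcases hact u with h1 | h1
      · exfalso
        apply hno4
        refine no_comm_of_two_power e ht hfa hfb (hpow u) ?_ (u := ((u : N) : G)) ?_
        · intro h2
          apply hu
          apply Subtype.ext
          apply Subtype.ext
          exact h2
        · calc y * ((u : N) : G) = ((u : N) : G) * y * ((u : N) : G)⁻¹ * ((u : N) : G) := by rw [h1]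
            _ = ((u : N) : G) * y := by group
      · exact h1
    -- two different nontrivial elements
    have hex : ∃ u₁ u₂ : K, u₁ ≠ 1 ∧ u₂ ≠ 1 ∧ u₁ ≠ u₂ := by
      classical
      by_contra hno
      push Not at hno
      let f : K → Bool := fun x => decide (x = 1)
      have hf : Function.Injective f := by
        intro x x' hxx
        by_cases h1 : x = 1
        · have : x' = 1 := by
            have h3 : f x' = true := by rw [← hxx]; simp [f, h1]
            simpa [f] using h3
          rw [h1, this]
        · have h2 : x' ≠ 1 := by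
            intro h3
            have h4 : f x = true := by rw [hxx]; simp [f, h3]
            exact h1 (by simpa [f] using h4)
          exact hno x x' h1 h2
      have := Nat.card_le_card_of_injective f hf
      rw [hK4, Nat.card_eq_fintype_card, Fintype.card_bool] at this
      omega
    obtain ⟨u₁, u₂, h1, h2, h3⟩ := hex
    have hv : u₁ * u₂⁻¹ ≠ 1 := by
      intro h4
      exact h3 (mul_inv_eq_one.mp h4)
    have h4 := hinv _ hv
    have h5 := hinv u₁ h1
    have h6 := hinv u₂ h2
    have h7 : ((u₂ : N) : G)⁻¹ * y * ((u₂ : N) : G) = y⁻¹ := by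
      have h8 : y = ((u₂ : N) : G)⁻¹ * y⁻¹ * ((u₂ : N) : G) := by
        rw [← h6]; group
      have h9 : y⁻¹ = (((u₂ : N) : G)⁻¹ * y⁻¹ * ((u₂ : N) : G))⁻¹ := by rw [← h8]
      rw [h9]
      group
    have h10 : (((u₁ * u₂⁻¹ : K) : N) : G) * y * (((u₁ * u₂⁻¹ : K) : N) : G)⁻¹ = y := by
      have e1 : (((u₁ * u₂⁻¹ : K) : N) : G) = ((u₁ : N) : G) * ((u₂ : N) : G)⁻¹ := by
        simp
      rw [e1]
      calc ((u₁ : N) : G) * ((u₂ : N) : G)⁻¹ * y * (((u₁ : N) : G) * ((u₂ : N) : G)⁻¹)⁻¹
          = ((u₁ : N) : G) * (((u₂ : N) : G)⁻¹ * y * ((u₂ : N) : G)) * ((u₁ : N) : G)⁻¹ := by group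
        _ = ((u₁ : N) : G) * y⁻¹ * ((u₁ : N) : G)⁻¹ := by rw [h7]
        _ = (((u₁ : N) : G) * y * ((u₁ : N) : G)⁻¹)⁻¹ := by group
        _ = y := by rw [h5, inv_inv]
    rw [h10] at h4
    apply hno4
    have h11 : y * y = 1 := by
      nth_rewrite 1 [h4]
      group
    calc y ^ 4 = (y * y) * (y * y) := by
          rw [show (4 : ℕ) = 2 + 2 from rfl, pow_add, pow_two]
      _ = 1 := by rw [h11, one_mul]
  · -- forty Sylow subgroups: the normalizer is the Sylow subgroup
    rw [h, hcard] at hN
    have hN9 : Nat.card (normalizer ((S : Subgroup G) : Set G)) = 9 := by omega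
    have hle : (S : Subgroup G) ≤ normalizer ((S : Subgroup G) : Set G) := le_normalizer
    have heq : (S : Subgroup G) = normalizer ((S : Subgroup G) : Set G) := by
      apply Subgroup.eq_of_le_of_card_ge hle
      rw [hN9, hS, hcP]
      norm_num
    apply not_normalizer_le_centralizer hG (p := 3) (by rw [hcard]; norm_num) S
    rw [← heq, hS]
    intro g hg
    rw [Subgroup.mem_centralizer_iff]
    intro s hs
    obtain ⟨i, rfl⟩ := Subgroup.mem_zpowers_iff.mp hg
    obtain ⟨j, rfl⟩ := Subgroup.mem_zpowers_iff.mp hs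
    exact ((Commute.refl y).zpow_zpow j i).eq

include hcard h6 in
/-- There is no element of order fifteen. -/
theorem no_order_fifteen {y : G} (hy : orderOf y = 15) : False := by
  have hf5 : Fact (Nat.Prime 5) := ⟨by norm_num⟩
  have hsimple := isSimple e ht hfa hfb
  have hG := not_comm e ht hfa hfb
  have hc : Nat.card G = 5 ^ 1 * 72 := by rw [hcard]; norm_num
  set w := y ^ 3 with hw
  have hwo : orderOf w = 5 := by
    have := orderOf_pow_orderOf_div (x := y) (n := 5) (by rw [hy]; norm_num) (by rw [hy]; norm_num)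
    rw [hy] at this
    exact this
  have hcP : Nat.card (zpowers w) = 5 ^ 1 := by rw [Nat.card_zpowers, hwo]; norm_num
  obtain ⟨S, hS⟩ := exists_sylow_of_card hc (by norm_num) (zpowers w) hcP
  have hmem := card_sylow_mem_filter hc (by norm_num) (by norm_num)
  have hfilter : (Nat.divisors 72).filter (fun n => n % 5 = 1 % 5) = {1, 6, 36} := by decide +kernel
  rw [hfilter] at hmem
  have hN := card_normalizer_mul_card_sylow S
  have hidx : (normalizer ((S : Subgroup G) : Set G)).index = Nat.card (Sylow 5 G) :=
    (Sylow.card_eq_index_normalizer S).symm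
  simp only [Finset.mem_insert, Finset.mem_singleton] at hmem
  rcases hmem with h | h | h
  · exact card_sylow_ne_one hG (p := 5) (by rw [hcard]; norm_num) h
  · exact h6 ⟨_, by rw [hidx, h]⟩
  · rw [h, hcard] at hN
    have hN10 : Nat.card (normalizer ((S : Subgroup G) : Set G)) = 10 := by omega
    have hyN : y ∈ normalizer ((S : Subgroup G) : Set G) := by
      rw [hS]
      apply mem_normalizer_of_conj_mem
      intro x hx
      obtain ⟨i, rfl⟩ := Subgroup.mem_zpowers_iff.mp hx
      have : Commute y (w ^ i) := ((Commute.refl y).pow_right 3).zpow_right i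
      rw [this.eq]
      simpa using hx
    have h1 := Subgroup.orderOf_dvd_natCard _ hyN
    rw [hy, hN10] at h1
    omega

include hcard h6 in
/-- The orders of the elements. -/
theorem order_cases (x : G) : orderOf x = 1 ∨ orderOf x = 2 ∨ orderOf x = 3 ∨ orderOf x = 4 ∨
    orderOf x = 5 := by
  by_cases h2 : 2 ∣ orderOf x
  · have h4 := even_order e ht hfa hfb h2
    have h5 : orderOf x ∣ 4 := orderOf_dvd_of_pow_eq_one h4
    have h6 : orderOf x ≤ 4 := Nat.le_of_dvd (by norm_num) h5
    have h7 := orderOf_pos x
    interval_cases (orderOf x) <;> simp_all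
  · have h3 : orderOf x ∣ 360 := by
      rw [← hcard]
      exact orderOf_dvd_natCard x
    have h4 : orderOf x ∣ 45 := by
      have h5 : Nat.Coprime (orderOf x) 8 := by
        have : Nat.Coprime (orderOf x) (2 ^ 3) :=
          Nat.Coprime.pow_right 3 ((Nat.Prime.coprime_iff_not_dvd Nat.prime_two).2 h2).symm
        simpa using this
      exact h5.dvd_of_dvd_mul_left (by simpa using h3)
    have hnine : ¬ 9 ∣ orderOf x := by
      intro h9
      have := orderOf_pow_orderOf_div (orderOf_pos x).ne' h9
      exact no_order_nine e ht hfa hfb hcard this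
    have hdiv : orderOf x ∈ Nat.divisors 45 := Nat.mem_divisors.2 ⟨h4, by norm_num⟩
    have hd45 : Nat.divisors 45 = {1, 3, 5, 9, 15, 45} := by decide +kernel
    rw [hd45] at hdiv
    simp only [Finset.mem_insert, Finset.mem_singleton] at hdiv
    rcases hdiv with h | h | h | h | h | h
    · left; exact h
    · right; right; left; exact h
    · right; right; right; right; exact h
    · exact absurd (by rw [h]) hnine
    · exact (no_order_fifteen e ht hfa hfb hcard h6 h).elim
    · exact absurd (by rw [h]; norm_num) hnine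

omit h6 in
include hcard in
/-- **The identification of order `360`.** -/
theorem iso_A6 : Nonempty (G ≃* alternatingGroup (Fin 6)) := by
  have hsimple := isSimple e ht hfa hfb
  have hG := not_comm e ht hfa hfb
  by_cases h6 : ∃ H : Subgroup G, H.index = 6
  · obtain ⟨H, hH⟩ := h6
    have hne : H ≠ ⊤ := by
      rintro rfl
      simp at hH
    obtain ⟨f, hf⟩ := exists_embedding_alternating hG H hne
    exact iso_of_embedding hcard _ hH f hf
  · obtain ⟨c, d, hrel, c3, c4, d3, d4⟩ := exists_amRel e ht hfa hfb
    have hn : (c * d) ^ orderOf (c * d) = 1 := pow_orderOf_eq_one _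
    have hm : (c * d⁻¹) ^ orderOf (c * d⁻¹) = 1 := pow_orderOf_eq_one _
    by_cases h54 : orderOf (c * d) = 5 ∧ orderOf (c * d⁻¹) = 4
    · -- generation
      have hgen : closure ({aa e, bb e, c, d} : Set G) = ⊤ := by
        by_contra hne
        set L := closure ({aa e, bb e, c, d} : Set G) with hL
        have hmem : ∀ x ∈ ({aa e, bb e, c, d} : Set G), x ∈ L := fun x hx => subset_closure hx
        have ha : aa e ∈ L := hmem _ (by simp)
        have hb : bb e ∈ L := hmem _ (by simp)
        have hc : c ∈ L := hmem _ (by simp)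
        have hd : d ∈ L := hmem _ (by simp)
        have hT := T_le_of_mem e ht L ha hb
        have h8 : 8 ∣ Nat.card L := by
          rw [← card_S e]
          exact Subgroup.card_dvd_of_le hT
        have hf3 : Fact (Nat.Prime 3) := ⟨by norm_num⟩
        have hc1 : c ≠ 1 := by
          rintro rfl
          apply t_ne_aa e ht
          rw [← c3]
          group
        have h3 : orderOf c = 3 := by
          apply orderOf_eq_prime _ hc1
          rw [pow_succ, pow_two]
          exact hrel.hc
        have h3L : 3 ∣ Nat.card L := by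
          rw [← h3]
          exact Subgroup.orderOf_dvd_natCard L hc
        have h5L : 5 ∣ Nat.card L := by
          rw [← h54.1]
          exact Subgroup.orderOf_dvd_natCard L (L.mul_mem hc hd)
        have h24 : 8 * 3 ∣ Nat.card L := Nat.Coprime.mul_dvd_of_dvd_of_dvd (by norm_num) h8 h3L
        have h120 : 8 * 3 * 5 ∣ Nat.card L := Nat.Coprime.mul_dvd_of_dvd_of_dvd (by norm_num) h24 h5L
        obtain ⟨q, hq⟩ := h120
        have hmul : Nat.card L * L.index = 360 := by rw [Subgroup.card_mul_index, hcard]
        rw [hq] at hmul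
        have h3q : q * L.index = 3 := by nlinarith
        have hidx : L.index ∣ 3 := ⟨q, by rw [← h3q, mul_comm]⟩
        have hidx' : L.index = 1 ∨ L.index = 3 := (Nat.dvd_prime (by norm_num)).1 hidx
        have := two_mul_card_dvd_factorial_index hG L hne
        rcases hidx' with h | h
        · exact hne (Subgroup.index_eq_one.1 h)
        · rw [h, hcard] at this
          exact absurd this (by decide)
      have h1 : (c * d) ^ 5 = 1 := by rw [← h54.1]; exact hn
      have h2 : (c * d⁻¹) ^ 4 = 1 := by rw [← h54.2]; exact hm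
      exact iso_A6_of_rel hrel h1 h2 hcard hgen
    · exfalso
      obtain ⟨tree, trace, hchk⟩ := collapsed_all _ _ (order_cases e ht hfa hfb hcard h6 (c * d))
        (order_cases e ht hfa hfb hcard h6 (c * d⁻¹)) h54
      have hfinV := finite_VV e
      have hd := mem_of_collapsed hrel hn hm (normalizer ((VV e : Subgroup G) : Set G))
        (T_le_normalizer e (inG_mem e _)) (T_le_normalizer e (inG_mem e _))
        (by
          apply mem_normalizer_of_conj_mem
          intro x hx
          rw [mem_VV e ht] at hx ⊢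
          rcases hx with rfl | rfl | rfl | rfl
          · left; group
          · right; right; left; exact c3
          · right; right; right; exact c4
          · right; left
            have : c * (aa e * t) * c⁻¹ = (c * aa e * c⁻¹) * (c * t * c⁻¹) := by group
            rw [this, c3, c4, mul_assoc, t_aa e ht, ← mul_assoc, aa_sq e ht, one_mul])
        hchk
      have htV : t ∈ VV e := (mem_VV e ht).2 (Or.inr (Or.inl rfl))
      have hbV : bb e ∈ VV e := by
        have := (mem_normalizer_iff.mp hd t).mp htV
        rwa [d3] at this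
      have hbV' : bb e ∈ VV (eS e) := by
        rw [mem_VV (eS e) ht, aa_eS]
        right; right; left; rfl
      rcases VV_inter e hbV hbV' with h | h
      · exact bb_ne_one e ht h
      · exact absurd (inG_inj e h) (by decide)

end

end Cfsg.Agent.Lib.D8A6Main
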