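import Mathlib
import Cfsg.Agent.Lib.D8A6Main

/-!
# An explicit identification with the alternating group of degree six

If `C(t) ≅ D₈` and the group is isomorphic to `A₆`, then the amalgam data can be transported to the
explicit elements of `A₆`.
-/

set_option autoImplicit false
set_option linter.unusedVariables false
set_option linter.unusedSectionVars false
set_option linter.unusedSimpArgs false
set_option maxRecDepth 10000

namespace Cfsg.Agent.Lib.C2S4A6

open Subgroup DihedralGroup Equiv
open Cfsg.Agent.Lib.D8CentGroup Cfsg.Agent.Lib.D8Fus Cfsg.Agent.Lib.D8Simple Cfsg.Agent.Lib.D8A6Pres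
  Cfsg.Agent.Lib.D8A6Data Cfsg.Agent.Lib.D8A6Main Cfsg.Agent.Lib.SmallGroups

theorem orders_perm : ∀ p : Perm (Fin 6), Perm.sign p = 1 →
    p ^ 1 = 1 ∨ p ^ 2 = 1 ∨ p ^ 3 = 1 ∨ p ^ 4 = 1 ∨ p ^ 5 = 1 := by decide +kernel

theorem orders_A6 (x : alternatingGroup (Fin 6)) :
    orderOf x = 1 ∨ orderOf x = 2 ∨ orderOf x = 3 ∨ orderOf x = 4 ∨ orderOf x = 5 := by
  have hx : Perm.sign (x : Perm (Fin 6)) = 1 := Perm.mem_alternatingGroup.1 x.2
  have key : ∀ n : ℕ, (x : Perm (Fin 6)) ^ n = 1 → orderOf x ∣ n := by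
    intro n hn
    apply orderOf_dvd_of_pow_eq_one
    apply Subtype.ext
    simpa using hn
  have h0 := orderOf_pos x
  rcases orders_perm _ hx with h | h | h | h | h
  · have := Nat.le_of_dvd (by norm_num) (key _ h)
    interval_cases (orderOf x) <;> simp_all
  · have := Nat.le_of_dvd (by norm_num) (key _ h)
    interval_cases (orderOf x) <;> simp_all
  · have := Nat.le_of_dvd (by norm_num) (key _ h)
    interval_cases (orderOf x) <;> simp_all
  · have := Nat.le_of_dvd (by norm_num) (key _ h)
    interval_cases (orderOf x) <;> simp_all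
  · have := Nat.le_of_dvd (by norm_num) (key _ h)
    interval_cases (orderOf x) <;> simp_all

section

variable {G : Type*} [Group G] [Finite G] {t : G} (e : centralizer ({t} : Set G) ≃* DihedralGroup 4)
  (ht : orderOf t = 2) (hfa : ∃ g, g * t * g⁻¹ = aa e) (hfb : ∃ g, g * t * g⁻¹ = bb e)
  (hcard : Nat.card G = 360)

include ht hfa hfb hcard

/-- The explicit isomorphism. -/
theorem exists_explicit (ψ : G ≃* alternatingGroup (Fin 6)) :
    ∃ c d : G, AmRel (aa e) (bb e) c d ∧ c * t * c⁻¹ = aa e ∧ c * aa e * c⁻¹ = aa e * t ∧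
      d * t * d⁻¹ = bb e ∧ d * bb e * d⁻¹ = bb e * t ∧
      closure ({aa e, bb e, c, d} : Set G) = ⊤ ∧
      ∃ φ : G ≃* alternatingGroup (Fin 6), φ (aa e) = qA ∧ φ (bb e) = qB ∧ φ c = qC ∧ φ d = qD := by
  have hsimple := isSimple e ht hfa hfb
  have hG := not_comm e ht hfa hfb
  have hord : ∀ x : G, orderOf x = 1 ∨ orderOf x = 2 ∨ orderOf x = 3 ∨ orderOf x = 4 ∨ orderOf x = 5 := by
    intro x
    have := orders_A6 (ψ x)
    rwa [MulEquiv.orderOf_eq] at this
  obtain ⟨c, d, hrel, c3, c4, d3, d4⟩ := exists_amRel e ht hfa hfb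
  have hn : (c * d) ^ orderOf (c * d) = 1 := pow_orderOf_eq_one _
  have hm : (c * d⁻¹) ^ orderOf (c * d⁻¹) = 1 := pow_orderOf_eq_one _
  have h54 : orderOf (c * d) = 5 ∧ orderOf (c * d⁻¹) = 4 := by
    by_contra h54
    obtain ⟨tree, trace, hchk⟩ := collapsed_all _ _ (hord (c * d)) (hord (c * d⁻¹)) h54
    have hfinV := finite_VV e
    have hd := mem_of_collapsed hrel hn hm (normalizer ((VV e : Subgroup G) : Set G))
      (T_le_normalizer e (inG_mem e _)) (T_le_normalizer e (inG_mem e _))
      (by
        apply mem_normalizer_of_conj_mem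
        intro x hx
        rw [mem_VV e ht] at hx ⊢
        rcases hx with rfl | rfl | rfl | rfl
        · left; group
        · right; right; left; exact c3
        · right; right; right; exact c4
        · right; left
          have : c * (aa e * t) * c⁻¹ = (c * aa e * c⁻¹) * (c * t * c⁻¹) := by group
          rw [this, c3, c4, mul_assoc, t_aa e ht, ← mul_assoc, aa_sq e ht, one_mul])
      hchk
    have htV : t ∈ VV e := (mem_VV e ht).2 (Or.inr (Or.inl rfl))
    have hbV : bb e ∈ VV e := by
      have := (mem_normalizer_iff.mp hd t).mp htV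
      rwa [d3] at this
    have hbV' : bb e ∈ VV (eS e) := by
      rw [mem_VV (eS e) ht, aa_eS]
      right; right; left; rfl
    rcases VV_inter e hbV hbV' with h | h
    · exact bb_ne_one e ht h
    · exact absurd (inG_inj e h) (by decide)
  -- generation
  have hgen : closure ({aa e, bb e, c, d} : Set G) = ⊤ := by
    by_contra hne
    set L := closure ({aa e, bb e, c, d} : Set G) with hL
    have hmem : ∀ x ∈ ({aa e, bb e, c, d} : Set G), x ∈ L := fun x hx => subset_closure hx
    have ha : aa e ∈ L := hmem _ (by simp)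
    have hb : bb e ∈ L := hmem _ (by simp)
    have hc : c ∈ L := hmem _ (by simp)
    have hd : d ∈ L := hmem _ (by simp)
    have hT := T_le_of_mem e ht L ha hb
    have h8 : 8 ∣ Nat.card L := by
      rw [← card_S e]
      exact Subgroup.card_dvd_of_le hT
    have hf3 : Fact (Nat.Prime 3) := ⟨by norm_num⟩
    have hc1 : c ≠ 1 := by
      rintro rfl
      apply t_ne_aa e ht
      rw [← c3]
      group
    have h3 : orderOf c = 3 := by
      apply orderOf_eq_prime _ hc1
      rw [pow_succ, pow_two]
      exact hrel.hc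
    have h3L : 3 ∣ Nat.card L := by
      rw [← h3]
      exact Subgroup.orderOf_dvd_natCard L hc
    have h5L : 5 ∣ Nat.card L := by
      rw [← h54.1]
      exact Subgroup.orderOf_dvd_natCard L (L.mul_mem hc hd)
    have h24 : 8 * 3 ∣ Nat.card L := Nat.Coprime.mul_dvd_of_dvd_of_dvd (by norm_num) h8 h3L
    have h120 : 8 * 3 * 5 ∣ Nat.card L := Nat.Coprime.mul_dvd_of_dvd_of_dvd (by norm_num) h24 h5L
    obtain ⟨q, hq⟩ := h120
    have hmul : Nat.card L * L.index = 360 := by rw [Subgroup.card_mul_index, hcard]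
    rw [hq] at hmul
    have h3q : q * L.index = 3 := by nlinarith
    have hidx : L.index ∣ 3 := ⟨q, by rw [← h3q, mul_comm]⟩
    have hidx' : L.index = 1 ∨ L.index = 3 := (Nat.dvd_prime (by norm_num)).1 hidx
    have := two_mul_card_dvd_factorial_index hG L hne
    rcases hidx' with h | h
    · exact hne (Subgroup.index_eq_one.1 h)
    · rw [h, hcard] at this
      exact absurd this (by decide)
  have h1 : (c * d) ^ 5 = 1 := by rw [← h54.1]; exact hn
  have h2 : (c * d⁻¹) ^ 4 = 1 := by rw [← h54.2]; exact hm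
  obtain ⟨φ, hφa, hφb, hφc, hφd⟩ := exists_hom_of_rel hrel h1 h2 rel_A6 cd_A6 cD_A6 hcard hgen
  have hinj : Function.Injective φ := by
    rw [injective_iff_map_eq_one]
    rcases IsSimpleGroup.eq_bot_or_eq_top_of_normal φ.ker inferInstance with hk | hk
    · intro x hx
      have : x ∈ φ.ker := hx
      rwa [hk] at this
    · exfalso
      have : aa e ∈ φ.ker := by rw [hk]; trivial
      rw [MonoidHom.mem_ker, hφa] at this
      exact qA_ne this
  have hb : Function.Bijective φ := by
    rw [Nat.bijective_iff_injective_and_card]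
    exact ⟨hinj, by rw [hcard, card_A6]⟩
  exact ⟨c, d, hrel, c3, c4, d3, d4, hgen, MulEquiv.ofBijective φ hb, hφa, hφb, hφc, hφd⟩

end

end Cfsg.Agent.Lib.C2S4A6
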