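import Mathlib
import Cfsg.Agent.Lib.D8Simple

/-!
# Thompson's transfer in the form of an index two subgroup, for `C(t) ≅ D₈`
-/

set_option autoImplicit false
set_option linter.unusedVariables false
set_option linter.unusedSectionVars false
set_option linter.unusedSimpArgs false
set_option maxRecDepth 10000

namespace Cfsg.Agent.Lib.D8Index

open Subgroup DihedralGroup
open Cfsg.Agent.Lib.D8CentGroup Cfsg.Agent.Lib.D8Fus Cfsg.Agent.Lib.D8Simple

/-- Thompson's transfer: an involution with no conjugate in a subgroup of index twice an odd number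
lies outside a subgroup of index two. -/
theorem exists_index_two {G : Type*} [Group G] [Finite G] (M : Subgroup G) (k : ℕ) (hk : Odd k)
    (hidx : M.index = 2 * k) (u : G) (hu : u ^ 2 = 1) (hno : ∀ g : G, g⁻¹ * u * g ∉ M) :
    ∃ H : Subgroup G, H.index = 2 ∧ u ∉ H := by
  classical
  let _ : Fintype (G ⧸ M) := Fintype.ofFinite _
  let τ : G →* Equiv.Perm (G ⧸ M) := MulAction.toPermHom G (G ⧸ M)
  have hσ : (τ u) ^ 2 = 1 := by rw [← map_pow, hu, map_one]
  have hfree : ∀ x, (τ u) x ≠ x := by
    intro x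
    induction x using QuotientGroup.induction_on with
    | H g =>
      intro h
      exact hno g ((smul_coe_eq_iff M u g).mp h)
  obtain ⟨k', hk', hs⟩ := perm_inv_card (τ u) hσ hfree
  have hc : Fintype.card (G ⧸ M) = M.index := by
    rw [Subgroup.index, Nat.card_eq_fintype_card]
  have hkk : k' = k := by omega
  subst hkk
  let f : G →* ℤˣ := Equiv.Perm.sign.comp τ
  have hfu : f u = -1 := by
    show Equiv.Perm.sign (τ u) = -1
    rw [hs, hk.neg_one_pow]
  refine ⟨f.ker, ?_, ?_⟩
  · have hsurj : Function.Surjective f := by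
      intro y
      rcases Int.units_eq_one_or y with rfl | rfl
      · exact ⟨1, map_one f⟩
      · exact ⟨u, hfu⟩
    rw [Subgroup.index_ker, MonoidHom.range_eq_top.mpr hsurj, Subgroup.card_top]
    simp
  · intro h
    rw [MonoidHom.mem_ker, hfu] at h
    exact absurd h (by decide)

section

variable {G : Type*} [Group G] [Finite G] {t : G} (e : centralizer ({t} : Set G) ≃* DihedralGroup 4)
  (ht : orderOf t = 2)

include ht

/-- If `t` is not conjugate to `a`, there is a subgroup of index two not containing `a`. -/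
theorem index_two_of_not_fused (hno : ¬ ∃ g, g * t * g⁻¹ = aa e) :
    ∃ H : Subgroup G, H.index = 2 ∧ aa e ∉ H := by
  let M : Subgroup G := (rotSub.map e.symm.toMonoidHom).map (centralizer ({t} : Set G)).subtype
  have hMcard : Nat.card M = 4 := by
    have h1 : Nat.card M = Nat.card (rotSub.map e.symm.toMonoidHom) :=
      Subgroup.card_map_of_injective (Subtype.val_injective)
    have h2 : Nat.card (rotSub.map e.symm.toMonoidHom) = Nat.card rotSub :=
      Subgroup.card_map_of_injective e.symm.injective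
    rw [h1, h2, card_rot]
  have hmod := card_mod e ht
  have hidx : M.index * 4 = Nat.card G := by
    rw [← hMcard, mul_comm]
    exact Subgroup.card_mul_index M
  obtain ⟨q, hq⟩ : ∃ q, Nat.card G = 8 * (2 * q + 1) := ⟨Nat.card G / 16, by omega⟩
  have hidx2 : M.index = 2 * (2 * q + 1) := by omega
  have ha2 : (aa e) ^ 2 = 1 := by rw [pow_two]; exact aa_sq e ht
  refine exists_index_two M (2 * q + 1) ⟨q, rfl⟩ hidx2 (aa e) ha2 ?_
  intro g hg
  obtain ⟨y, ⟨x, ⟨i, rfl⟩, rfl⟩, hy⟩ := hg
  have hy' : g⁻¹ * aa e * g = inG e (r i) := hy.symm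
  have h1 : (inG e (r i)) ^ 2 = 1 := by
    rw [← hy']
    have : (g⁻¹ * aa e * g) ^ 2 = g⁻¹ * (aa e) ^ 2 * g := by simp [pow_two, mul_assoc]
    rw [this, ha2]
    group
  have h2 : inG e (r i) ≠ 1 := by
    rw [← hy']
    intro h
    apply aa_ne_one e ht
    have : aa e = g * (g⁻¹ * aa e * g) * g⁻¹ := by group
    rw [this, h]
    group
  have h3 : (r i : DihedralGroup 4) ^ 2 = 1 := by
    apply inG_inj e
    rw [inG_pow, h1, inG_one]
  have h4 : (r i : DihedralGroup 4) ≠ 1 := by
    rintro h
    apply h2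
    rw [h, inG_one]
  rw [dih_rot_inv i h3 h4, inG_r2 e ht] at hy'
  apply hno
  refine ⟨g, ?_⟩
  calc g * t * g⁻¹ = g * (g⁻¹ * aa e * g) * g⁻¹ := by rw [hy']
    _ = aa e := by group

end

end Cfsg.Agent.Lib.D8Index
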