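import Mathlib
import Cfsg.Agent.Lib.D8Fus
import Cfsg.Agent.Lib.D8A6Main
import Cfsg.Agent.Lib.SylowConjLemmas

/-!
# Groups whose involutions have Klein four centralizers

Let `H` be a finite group in which every involution lies in a subgroup `U` of order four and exponent
two containing the centralizer of each of its involutions, with `|N(U)| = 12`.  Then, if these
subgroups are conjugate, `|H| = 12` or `|H| = 60`.
-/

set_option autoImplicit false
set_option linter.unusedVariables false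
set_option linter.unusedSectionVars false
set_option linter.unusedSimpArgs false
set_option maxRecDepth 10000

namespace Cfsg.Agent.Lib.D8KPt

open Subgroup

variable {H : Type*} [Group H]

/-- A conjugate subgroup. -/
def cj (g : H) (U : Subgroup H) : Subgroup H := U.map (MulAut.conj g).toMonoidHom

theorem mem_cj {g y : H} {U : Subgroup H} : y ∈ cj g U ↔ g⁻¹ * y * g ∈ U := by
  constructor
  · rintro ⟨x, hx, rfl⟩
    have : g⁻¹ * (MulAut.conj g).toMonoidHom x * g = x := by
      simp only [MulEquiv.toMonoidHom_eq_coe, MonoidHom.coe_coe, MulAut.conj_apply]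
      group
    rwa [this]
  · intro h
    refine ⟨_, h, ?_⟩
    simp only [MulEquiv.toMonoidHom_eq_coe, MonoidHom.coe_coe, MulAut.conj_apply]
    group

theorem conj_mem_cj {g x : H} {U : Subgroup H} (hx : x ∈ U) : g * x * g⁻¹ ∈ cj g U := by
  rw [mem_cj]
  have : g⁻¹ * (g * x * g⁻¹) * g = x := by group
  rwa [this]

theorem card_cj (g : H) (U : Subgroup H) : Nat.card (cj g U) = Nat.card U :=
  Subgroup.card_map_of_injective (MulAut.conj g).injective

theorem mem_normalizer_cj {g u : H} {U : Subgroup H} :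
    u ∈ normalizer ((cj g U : Subgroup H) : Set H) ↔ g⁻¹ * u * g ∈ normalizer (U : Set H) := by
  rw [mem_normalizer_iff, mem_normalizer_iff]
  constructor
  · intro h x
    have h1 := h (g * x * g⁻¹)
    rw [mem_cj, mem_cj] at h1
    have e1 : g⁻¹ * (g * x * g⁻¹) * g = x := by group
    have e2 : g⁻¹ * (u * (g * x * g⁻¹) * u⁻¹) * g = g⁻¹ * u * g * x * (g⁻¹ * u * g)⁻¹ := by group
    rwa [e1, e2] at h1
  · intro h x
    have h1 := h (g⁻¹ * x * g)
    rw [mem_cj, mem_cj]
    have e2 : g⁻¹ * (u * x * u⁻¹) * g = g⁻¹ * u * g * (g⁻¹ * x * g) * (g⁻¹ * u * g)⁻¹ := by group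
    rwa [e2]

theorem card_normalizer_cj (g : H) (U : Subgroup H) :
    Nat.card (normalizer ((cj g U : Subgroup H) : Set H)) = Nat.card (normalizer (U : Set H)) := by
  have : normalizer ((cj g U : Subgroup H) : Set H) = cj g (normalizer (U : Set H)) := by
    ext u
    rw [mem_normalizer_cj, mem_cj]
  rw [this, card_cj]

theorem mem_normalizer_conj {g u : H} {U : Subgroup H} (hu : u ∈ normalizer (U : Set H)) :
    g * u * g⁻¹ ∈ normalizer ((cj g U : Subgroup H) : Set H) := by
  rw [mem_normalizer_cj]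
  have : g⁻¹ * (g * u * g⁻¹) * g = u := by group
  rwa [this]

theorem cj_mul (g g' : H) (U : Subgroup H) : cj (g * g') U = cj g (cj g' U) := by
  ext x
  rw [mem_cj, mem_cj, mem_cj]
  have : g'⁻¹ * (g⁻¹ * x * g) * g' = (g * g')⁻¹ * x * (g * g') := by group
  rw [this]

theorem cj_eq_iff {g : H} {U : Subgroup H} [Finite H] : cj g U = U ↔ g ∈ normalizer (U : Set H) := by
  constructor
  · intro h
    rw [mem_normalizer_iff]
    intro x
    constructor
    · intro hx
      have := conj_mem_cj (g := g) hx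
      rwa [h] at this
    · intro hx
      rw [← h, mem_cj] at hx
      have e : g⁻¹ * (g * x * g⁻¹) * g = x := by group
      rwa [e] at hx
  · intro hg
    ext x
    rw [mem_cj]
    have h1 := (mem_normalizer_iff.mp hg) (g⁻¹ * x * g)
    have e : g * (g⁻¹ * x * g) * g⁻¹ = x := by group
    rw [e] at h1
    exact h1

/-- The subgroups in question. -/
structure Pt (U : Subgroup H) : Prop where
  sq : ∀ x ∈ U, x * x = 1
  cent : ∀ x ∈ U, x ≠ 1 → ∀ y, y * x = x * y → y ∈ U
  card : Nat.card U = 4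
  cardN : Nat.card (normalizer (U : Set H)) = 12

theorem Pt.cj {U : Subgroup H} (h : Pt U) (g : H) : Pt (cj g U) where
  sq := by
    intro x hx
    rw [mem_cj] at hx
    have h1 := h.sq _ hx
    calc x * x = g * ((g⁻¹ * x * g) * (g⁻¹ * x * g)) * g⁻¹ := by group
      _ = 1 := by rw [h1]; group
  cent := by
    intro x hx hx1 y hy
    rw [mem_cj] at hx ⊢
    apply h.cent _ hx
    · intro h2
      apply hx1
      calc x = g * (g⁻¹ * x * g) * g⁻¹ := by group
        _ = 1 := by rw [h2]; group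
    · calc g⁻¹ * y * g * (g⁻¹ * x * g) = g⁻¹ * (y * x) * g := by group
        _ = g⁻¹ * (x * y) * g := by rw [hy]
        _ = _ := by group
  card := by rw [card_cj, h.card]
  cardN := by rw [card_normalizer_cj, h.cardN]

theorem Pt.comm {U : Subgroup H} (h : Pt U) {x y : H} (hx : x ∈ U) (hy : y ∈ U) : x * y = y * x := by
  have h1 := h.sq _ (U.mul_mem hx hy)
  have h2 := h.sq _ hx
  have h3 := h.sq _ hy
  calc x * y = x * y * (x * y) * (y⁻¹ * x⁻¹) * 1 := by group
    _ = y⁻¹ * x⁻¹ := by rw [h1]; group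
    _ = y * x := by
      rw [inv_eq_of_mul_eq_one_left h2, inv_eq_of_mul_eq_one_left h3]

section

variable [Finite H] {U U' : Subgroup H}

theorem Pt.eq_of_mem (hU : Pt U) (hU' : Pt U') {x : H} (hx : x ∈ U) (hx' : x ∈ U') (h1 : x ≠ 1) :
    U = U' := by
  have hle : U ≤ U' := by
    intro y hy
    exact hU'.cent x hx' h1 y (hU.comm hy hx)
  apply Subgroup.eq_of_le_of_card_ge hle
  rw [hU.card, hU'.card]

/-- `U` is normal of index three in its normalizer. -/
theorem Pt.index_three (hU : Pt U) :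
    ((U.subgroupOf (normalizer (U : Set H)))).index = 3 := by
  have h1 := Subgroup.card_mul_index (U.subgroupOf (normalizer (U : Set H)))
  have h2 : Nat.card (U.subgroupOf (normalizer (U : Set H))) = 4 := by
    rw [← hU.card]
    exact Nat.card_congr (Subgroup.subgroupOfEquivOfLe le_normalizer).toEquiv
  rw [h2, hU.cardN] at h1
  omega

theorem Pt.inv_mem (hU : Pt U) {x : H} (hx : x ∈ normalizer (U : Set H)) (hxx : x * x = 1) : x ∈ U := by
  have : (U.subgroupOf (normalizer (U : Set H))).Normal := Subgroup.normal_in_normalizer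
  have h1 := Subgroup.pow_index_mem (U.subgroupOf (normalizer (U : Set H))) (⟨x, hx⟩ : normalizer (U : Set H))
  rw [hU.index_three, Subgroup.mem_subgroupOf] at h1
  have h2 : ((⟨x, hx⟩ : normalizer (U : Set H)) ^ 3 : normalizer (U : Set H)).1 = x ^ 3 := rfl
  rw [h2] at h1
  have h3 : x ^ 3 = x := by
    rw [pow_succ, pow_two, hxx, one_mul]
  rwa [h3] at h1

/-- No element of the normalizer inverts an element of order three of the normalizer. -/
theorem Pt.no_invert (hU : Pt U) {c u : H} (hc : c ∈ normalizer (U : Set H))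
    (hu : u ∈ normalizer (U : Set H)) (hc3 : c * c * c = 1) (hc1 : c ≠ 1) (h : u * c * u⁻¹ = c⁻¹) :
    False := by
  have : (U.subgroupOf (normalizer (U : Set H))).Normal := Subgroup.normal_in_normalizer
  set K := U.subgroupOf (normalizer (U : Set H)) with hK
  have hf : Fact (Nat.Prime 3) := ⟨by norm_num⟩
  have hcard : Nat.card (normalizer (U : Set H) ⧸ K) = 3 := hU.index_three
  have hcyc : IsCyclic (normalizer (U : Set H) ⧸ K) := isCyclic_of_prime_card hcard
  have hcomm : ∀ a b : normalizer (U : Set H) ⧸ K, a * b = b * a := hcyc.isMulCommutative.is_comm.comm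
  have h1 := hcomm (QuotientGroup.mk ⟨u, hu⟩) (QuotientGroup.mk ⟨c, hc⟩)
  have h2 : (⟨c, hc⟩ : normalizer (U : Set H))⁻¹ * ((⟨u, hu⟩ : normalizer (U : Set H))⁻¹ * ⟨c, hc⟩ * ⟨u, hu⟩) ∈ K ∨ True :=
    Or.inr trivial
  have h3 : ((QuotientGroup.mk (⟨u, hu⟩ * ⟨c, hc⟩) : normalizer (U : Set H) ⧸ K)) =
      QuotientGroup.mk (⟨c, hc⟩ * ⟨u, hu⟩) := by
    rw [QuotientGroup.mk_mul, QuotientGroup.mk_mul, h1]
  rw [QuotientGroup.eq, Subgroup.mem_subgroupOf] at h3
  have h4 : (((⟨u, hu⟩ * ⟨c, hc⟩ : normalizer (U : Set H))⁻¹ * (⟨c, hc⟩ * ⟨u, hu⟩) : normalizer (U : Set H)) : H) =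
      (u * c)⁻¹ * (c * u) := rfl
  rw [h4] at h3
  -- `u c = c⁻¹ u`
  have huc : u * c = c⁻¹ * u := by
    calc u * c = u * c * u⁻¹ * u := by group
      _ = c⁻¹ * u := by rw [h]
  rw [huc] at h3
  have h5 : (c⁻¹ * u)⁻¹ * (c * u) = u⁻¹ * (c * c) * u := by group
  rw [h5] at h3
  have h6 : c * c = u * (u⁻¹ * (c * c) * u) * u⁻¹ := by group
  have h7 : c * c ∈ U := by
    rw [h6]
    exact (mem_normalizer_iff.mp hu _).mp h3
  have h8 := hU.sq _ h7
  apply hc1
  have h9 : c * c = c⁻¹ := eq_inv_of_mul_eq_one_left hc3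
  have h10 : c⁻¹ * c⁻¹ = 1 := by rw [← h9]; exact h8
  have h11 : c = c⁻¹ * c⁻¹ := by
    calc c = c * (c * c * c) := by rw [hc3, mul_one]
      _ = (c * c) * (c * c) := by group
      _ = c⁻¹ * c⁻¹ := by rw [h9]
  rw [h11, h10]

/-- Two different involutions of a point. -/
theorem Pt.exists_two (hU : Pt U) : ∃ y y' : H, y ∈ U ∧ y' ∈ U ∧ y ≠ 1 ∧ y' ≠ 1 ∧ y ≠ y' := by
  classical
  by_contra hno
  push Not at hno
  let f : U → Bool := fun x => decide (x = 1)
  have hf : Function.Injective f := by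
    intro x x' hxx
    by_cases h1 : x = 1
    · have h3 : f x' = true := by rw [← hxx]; simp [f, h1]
      have h4 : x' = 1 := by simpa [f] using h3
      rw [h1, h4]
    · have h2 : x' ≠ 1 := by
        intro h3
        have h4 : f x = true := by rw [hxx]; simp [f, h3]
        exact h1 (by simpa [f] using h4)
      exact Subtype.ext (hno x x' x.2 x'.2 (fun h => h1 (Subtype.ext h)) (fun h => h2 (Subtype.ext h)))
  have := Nat.card_le_card_of_injective f hf
  rw [hU.card, Nat.card_eq_fintype_card, Fintype.card_bool] at this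
  omega

/-- The involution exchanging two involutions with a product of odd order. -/
theorem exists_swap_elt {x y : H} (hx : x * x = 1) (hy : y * y = 1) (hodd : ¬ 2 ∣ orderOf (x * y)) :
    ∃ t : H, t * t = 1 ∧ t * x * t⁻¹ = y := by
  have hxi : x⁻¹ = x := inv_eq_of_mul_eq_one_left hx
  have hyi : y⁻¹ = y := inv_eq_of_mul_eq_one_left hy
  set u := x * y with hu
  obtain ⟨j, hj⟩ : ∃ j, orderOf u = 2 * j + 1 := by
    have : Odd (orderOf u) := by
      rw [← Nat.not_even_iff_odd, even_iff_two_dvd]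
      exact hodd
    exact this
  have hun : u ^ (2 * j + 1) = 1 := by rw [← hj]; exact pow_orderOf_eq_one u
  have hxu : x * u * x⁻¹ = u⁻¹ := by
    rw [hu, hxi, mul_inv_rev, hxi, hyi, ← mul_assoc, hx, one_mul]
  have hxuj : x * u ^ j * x⁻¹ = (u ^ j)⁻¹ := by
    rw [← conj_pow, hxu, inv_pow]
  have hxuj' : x * u ^ j = (u ^ j)⁻¹ * x := by
    calc x * u ^ j = x * u ^ j * x⁻¹ * x := by group
      _ = (u ^ j)⁻¹ * x := by rw [hxuj]
  refine ⟨u ^ j * x, ?_, ?_⟩
  · calc u ^ j * x * (u ^ j * x) = u ^ j * (x * u ^ j) * x := by group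
      _ = u ^ j * ((u ^ j)⁻¹ * x) * x := by rw [hxuj']
      _ = x * x := by group
      _ = 1 := hx
  · have htinv : (u ^ j * x)⁻¹ = u ^ j * x := by
      apply inv_eq_of_mul_eq_one_left
      calc u ^ j * x * (u ^ j * x) = u ^ j * (x * u ^ j) * x := by group
        _ = u ^ j * ((u ^ j)⁻¹ * x) * x := by rw [hxuj']
        _ = x * x := by group
        _ = 1 := hx
    rw [htinv]
    calc u ^ j * x * x * (u ^ j * x) = u ^ j * (x * x) * u ^ j * x := by group
      _ = u ^ j * u ^ j * x := by rw [hx, mul_one]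
      _ = u ^ (2 * j) * x := by rw [two_mul, pow_add]
      _ = u⁻¹ * x := by
        congr 1
        apply eq_inv_of_mul_eq_one_left
        rw [← pow_succ]
        exact hun
      _ = y := by
        rw [hu, mul_inv_rev, hxi, hyi, mul_assoc, hx, mul_one]

variable (hJ : ∀ x : H, x * x = 1 → x ≠ 1 → ∃ U : Subgroup H, Pt U ∧ x ∈ U)

include hJ

theorem odd_order_mul (hU : Pt U) (hU' : Pt U') (hne : U ≠ U') {x y : H} (hx : x ∈ U) (hy : y ∈ U')
    (hx1 : x ≠ 1) (hy1 : y ≠ 1) : ¬ 2 ∣ orderOf (x * y) := by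
  intro h2
  have hxx := hU.sq x hx
  have hyy := hU'.sq y hy
  have hxi : x⁻¹ = x := inv_eq_of_mul_eq_one_left hxx
  have hyi : y⁻¹ = y := inv_eq_of_mul_eq_one_left hyy
  have h1 := orderOf_pow_orderOf_div (orderOf_pos (x * y)).ne' h2
  set v := (x * y) ^ (orderOf (x * y) / 2) with hv
  have hvv : v * v = 1 := by
    rw [← pow_two, ← h1]
    exact pow_orderOf_eq_one v
  have hv1 : v ≠ 1 := by
    intro h
    rw [h, orderOf_one] at h1
    omega
  have hvi : v⁻¹ = v := inv_eq_of_mul_eq_one_left hvv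
  have hxv : x * v * x⁻¹ = v := by
    have h3 : x * (x * y) * x⁻¹ = (x * y)⁻¹ := by
      rw [hxi, mul_inv_rev, hxi, hyi, ← mul_assoc, hxx, one_mul]
    rw [hv, ← conj_pow, h3, inv_pow, ← hv, hvi]
  have hyv : y * v * y⁻¹ = v := by
    have h3 : y * (x * y) * y⁻¹ = (x * y)⁻¹ := by
      rw [hyi, mul_inv_rev, hxi, hyi, mul_assoc, mul_assoc, hyy, mul_one]
    rw [hv, ← conj_pow, h3, inv_pow, ← hv, hvi]
  obtain ⟨U2, hU2, hvU2⟩ := hJ v hvv hv1
  have hx2 : x ∈ U2 := by
    apply hU2.cent v hvU2 hv1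
    calc x * v = x * v * x⁻¹ * x := by group
      _ = v * x := by rw [hxv]
  have hy2 : y ∈ U2 := by
    apply hU2.cent v hvU2 hv1
    calc y * v = y * v * y⁻¹ * y := by group
      _ = v * y := by rw [hyv]
  exact hne ((hU.eq_of_mem hU2 hx hx2 hx1).trans (hU'.eq_of_mem hU2 hy hy2 hy1).symm)

/-- Two different involutions exchanging two points. -/
theorem two_swaps (hU : Pt U) (hU' : Pt U') (hne : U ≠ U') :
    ∃ t₁ t₂ : H, t₁ * t₁ = 1 ∧ t₂ * t₂ = 1 ∧ t₁ ≠ t₂ ∧ cj t₁ U = U' ∧ cj t₂ U = U' := by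
  obtain ⟨x, _, hx, _, hx1, _⟩ := hU.exists_two
  obtain ⟨y, y', hy, hy', hy1, hy1', hyy⟩ := hU'.exists_two
  obtain ⟨t₁, h1, h2⟩ := exists_swap_elt (hU.sq x hx) (hU'.sq y hy)
    (odd_order_mul hJ hU hU' hne hx hy hx1 hy1)
  obtain ⟨t₂, h3, h4⟩ := exists_swap_elt (hU.sq x hx) (hU'.sq y' hy')
    (odd_order_mul hJ hU hU' hne hx hy' hx1 hy1')
  refine ⟨t₁, t₂, h1, h3, ?_, ?_, ?_⟩
  · rintro rfl
    exact hyy (h2.symm.trans h4)
  · apply (hU.cj t₁).eq_of_mem hU' (x := y) _ hy hy1
    rw [← h2]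
    exact conj_mem_cj hx
  · apply (hU.cj t₂).eq_of_mem hU' (x := y') _ hy' hy1'
    rw [← h4]
    exact conj_mem_cj hx

omit hJ in
theorem cj_involutive {t : H} (ht : t * t = 1) (U : Subgroup H) : cj t (cj t U) = U := by
  rw [← cj_mul, ht]
  ext x
  rw [mem_cj]
  simp

/-- The stabilizer of two points has order three. -/
theorem card_two_points (hU : Pt U) (hU' : Pt U') (hne : U ≠ U') :
    Nat.card (normalizer (U : Set H) ⊓ normalizer (U' : Set H) : Subgroup H) = 3 := by
  set D := normalizer (U : Set H) ⊓ normalizer (U' : Set H) with hD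
  obtain ⟨t₁, t₂, h1, h2, h3, h4, h5⟩ := two_swaps hJ hU hU' hne
  have hmem : t₁ * t₂ ∈ D := by
    have h6 : cj t₂ U' = U := by rw [← h5]; exact cj_involutive h2 U
    have h7 : cj t₁ U' = U := by rw [← h4]; exact cj_involutive h1 U
    constructor
    · show t₁ * t₂ ∈ normalizer (U : Set H)
      rw [← cj_eq_iff, cj_mul, h5, h7]
    · show t₁ * t₂ ∈ normalizer (U' : Set H)
      rw [← cj_eq_iff, cj_mul, h6, h4]
  have hne1 : t₁ * t₂ ≠ 1 := by
    intro h
    apply h3
    have h8 : t₁ = t₂⁻¹ := eq_inv_of_mul_eq_one_left h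
    rw [h8, inv_eq_of_mul_eq_one_left h2]
  have hdvd : Nat.card D ∣ 12 := by
    rw [← hU.cardN]
    exact Subgroup.card_dvd_of_le inf_le_left
  have hodd : ¬ 2 ∣ Nat.card D := by
    intro h
    have : Fact (Nat.Prime 2) := ⟨Nat.prime_two⟩
    obtain ⟨v, hv⟩ := exists_prime_orderOf_dvd_card' (G := D) 2 h
    have hv2 : (v : H) * v = 1 := by
      have := pow_orderOf_eq_one v
      rw [hv, pow_two] at this
      exact congrArg Subtype.val this
    have hv1 : (v : H) ≠ 1 := by
      intro h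
      have : v = 1 := Subtype.ext h
      rw [this, orderOf_one] at hv
      omega
    have h6 := hU.inv_mem v.2.1 hv2
    have h7 := hU'.inv_mem v.2.2 hv2
    exact hne (hU.eq_of_mem hU' h6 h7 hv1)
  have hne1' : Nat.card D ≠ 1 := by
    intro h
    have hs : Subsingleton D := (Nat.card_eq_one_iff_unique.1 h).1
    have : (⟨t₁ * t₂, hmem⟩ : D) = 1 := Subsingleton.elim _ _
    exact hne1 (congrArg Subtype.val this)
  have hdiv : Nat.card D ∈ Nat.divisors 12 := Nat.mem_divisors.2 ⟨hdvd, by norm_num⟩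
  have hd12 : Nat.divisors 12 = {1, 2, 3, 4, 6, 12} := by decide +kernel
  rw [hd12] at hdiv
  simp only [Finset.mem_insert, Finset.mem_singleton] at hdiv
  rcases hdiv with h | h | h | h | h | h
  · exact absurd h hne1'
  · rw [h] at hodd; omega
  · exact h
  · rw [h] at hodd; omega
  · rw [h] at hodd; omega
  · rw [h] at hodd; omega

/-- An involution exchanging two points inverts the elements of their common stabilizer. -/
theorem swap_inverts (hU : Pt U) (hU' : Pt U') (hne : U ≠ U') {t c : H} (ht : t * t = 1)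
    (hsw : cj t U = U') (hc : c ∈ normalizer (U : Set H)) (hc' : c ∈ normalizer (U' : Set H))
    (hc1 : c ≠ 1) : c * c * c = 1 ∧ t * c * t⁻¹ = c⁻¹ := by
  set D := normalizer (U : Set H) ⊓ normalizer (U' : Set H) with hD
  have hcard : Nat.card D = 3 := card_two_points hJ hU hU' hne
  have hcD : c ∈ D := ⟨hc, hc'⟩
  have hc3 : c ^ 3 = 1 := by
    have : (⟨c, hcD⟩ : D) ^ 3 = 1 := by
      rw [← hcard]
      exact pow_card_eq_one'
    exact congrArg Subtype.val this
  have hc3' : c * c * c = 1 := by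
    rw [← hc3, pow_succ, pow_two]
  refine ⟨hc3', ?_⟩
  have hf : Fact (Nat.Prime 3) := ⟨by norm_num⟩
  have hord : orderOf c = 3 := orderOf_eq_prime hc3 hc1
  have hsw' : cj t U' = U := by rw [← hsw]; exact cj_involutive ht U
  have hd : t * c * t⁻¹ ∈ D := by
    constructor
    · have := mem_normalizer_conj (g := t) hc'
      rwa [hsw'] at this
    · have := mem_normalizer_conj (g := t) hc
      rwa [hsw] at this
  have hzp : zpowers c = D := by
    apply Subgroup.eq_of_le_of_card_ge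
    · rw [Subgroup.zpowers_le]
      exact hcD
    · rw [hcard, Nat.card_zpowers, hord]
  rw [← hzp] at hd
  obtain ⟨k, hk⟩ := Subgroup.mem_zpowers_iff.mp hd
  have hk3 : c ^ k = c ^ (k % 3) := by
    have := zpow_mod_orderOf c k
    rw [hord] at this
    exact this.symm
  have h0 : 0 ≤ k % 3 := Int.emod_nonneg _ (by norm_num)
  have h3 : k % 3 < 3 := Int.emod_lt_of_pos _ (by norm_num)
  rw [hk3] at hk
  have hne1 : t * c * t⁻¹ ≠ 1 := by
    intro h
    apply hc1
    calc c = t⁻¹ * (t * c * t⁻¹) * t := by group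
      _ = 1 := by rw [h]; group
  generalize k % 3 = r at hk h0 h3
  interval_cases r
  · exfalso
    apply hne1
    rw [← hk]
    simp
  · exfalso
    -- `t` commutes with `c`
    have ht1 : t ≠ 1 := by
      rintro rfl
      apply hne
      rw [← hsw]
      ext x
      rw [mem_cj]
      simp
    obtain ⟨U2, hU2, htU2⟩ := hJ t ht ht1
    have hcomm : c * t = t * c := by
      have h5 : t * c * t⁻¹ = c := by rw [← hk]; simp
      calc c * t = t * c * t⁻¹ * t := by rw [h5]
        _ = t * c := by group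
    have hcU2 := hU2.cent t htU2 ht1 c hcomm
    have h6 := hU2.sq c hcU2
    apply hc1
    calc c = c * c * c * (c * c)⁻¹ := by group
      _ = 1 := by rw [hc3', h6]; group
  · rw [← hk]
    apply eq_inv_of_mul_eq_one_left
    calc c ^ (2 : ℤ) * c = c * c * c := by
          rw [zpow_ofNat, pow_two]
      _ = 1 := hc3'

/-- There are no three different points with a common element of order three. -/
theorem no_three {U₁ U₂ U₃ : Subgroup H} (h1 : Pt U₁) (h2 : Pt U₂) (h3 : Pt U₃) (h12 : U₁ ≠ U₂)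
    (h13 : U₁ ≠ U₃) (h23 : U₂ ≠ U₃) {c : H} (hc1 : c ∈ normalizer (U₁ : Set H))
    (hc2 : c ∈ normalizer (U₂ : Set H)) (hc3 : c ∈ normalizer (U₃ : Set H)) (hc : c ≠ 1) : False := by
  obtain ⟨t, -, ht, -, -, htU, -⟩ := two_swaps hJ h1 h2 h12
  obtain ⟨t', -, ht', -, -, htU', -⟩ := two_swaps hJ h1 h3 h13
  obtain ⟨t'', -, ht'', -, -, htU'', -⟩ := two_swaps hJ h2 h3 h23
  obtain ⟨hc33, h4⟩ := swap_inverts hJ h1 h2 h12 ht htU hc1 hc2 hc
  obtain ⟨-, h5⟩ := swap_inverts hJ h1 h3 h13 ht' htU' hc1 hc3 hc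
  obtain ⟨-, h6⟩ := swap_inverts hJ h2 h3 h23 ht'' htU'' hc2 hc3 hc
  have hu : t'' * t * t' ∈ normalizer (U₃ : Set H) := by
    rw [← cj_eq_iff, cj_mul, cj_mul]
    have h7 : cj t' U₃ = U₁ := by rw [← htU']; exact cj_involutive ht' U₁
    rw [h7, htU, htU'']
  apply h3.no_invert hc3 hu hc33 hc
  calc t'' * t * t' * c * (t'' * t * t')⁻¹ = t'' * (t * (t' * c * t'⁻¹) * t⁻¹) * t''⁻¹ := by group
    _ = t'' * (t * c⁻¹ * t⁻¹) * t''⁻¹ := by rw [h5]
    _ = t'' * (t * c * t⁻¹)⁻¹ * t''⁻¹ := by group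
    _ = t'' * c * t''⁻¹ := by rw [h4, inv_inv]
    _ = c⁻¹ := h6

omit hJ in
/-- Subgroups of order three in a subgroup of order twelve are conjugate. -/
theorem exists_conj_three {A D₁ D₂ : Subgroup H} (hA : Nat.card A = 12) (h1 : D₁ ≤ A) (h2 : D₂ ≤ A)
    (hc1 : Nat.card D₁ = 3) (hc2 : Nat.card D₂ = 3) :
    ∃ u ∈ A, ∀ x ∈ D₂, u * x * u⁻¹ ∈ D₁ := by
  have hf : Fact (Nat.Prime 3) := ⟨by norm_num⟩
  have h1' : Nat.card (D₁.subgroupOf A) = 3 ^ 1 := by
    rw [pow_one, ← hc1]
    exact Nat.card_congr (Subgroup.subgroupOfEquivOfLe h1).toEquiv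
  have h2' : Nat.card (D₂.subgroupOf A) = 3 ^ 1 := by
    rw [pow_one, ← hc2]
    exact Nat.card_congr (Subgroup.subgroupOfEquivOfLe h2).toEquiv
  obtain ⟨S, hS⟩ := Cfsg.Agent.Lib.D8A6Main.exists_sylow_of_card (G := A) (p := 3) (k := 1) (m := 4)
    (by rw [hA]; norm_num) (by norm_num) _ h1'
  obtain ⟨g, hg⟩ := Cfsg.Agent.Lib.SylowConjLemmas.exists_conj_mem S (D₂.subgroupOf A)
    (IsPGroup.of_card h2')
  refine ⟨g, g.2, ?_⟩
  intro x hx
  have h3 := hg ⟨x, h2 hx⟩ (Subgroup.mem_subgroupOf.mpr hx)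
  rw [hS, Subgroup.mem_subgroupOf] at h3
  exact h3

/-- **The order.** -/
theorem card_eq_of_pt {V : Subgroup H} (hV : Pt V) : Nat.card H = 12 ∨ Nat.card H = 60 := by
  classical
  set N₀ := normalizer (V : Set H) with hN₀
  have hmul : Nat.card N₀ * N₀.index = Nat.card H := Subgroup.card_mul_index N₀
  have hN12 : Nat.card N₀ = 12 := hV.cardN
  rw [hN12] at hmul
  by_cases hs : ∀ s, s ∈ N₀
  · left
    have : N₀ = ⊤ := by
      ext x
      simp [hs x]
    rw [this, Subgroup.index_top] at hmul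
    omega
  · right
    push Not at hs
    obtain ⟨s, hs⟩ := hs
    have hneV : ∀ w, w ∉ N₀ → cj w V ≠ V := by
      intro w hw h
      exact hw (cj_eq_iff.mp h)
    set U₁ := cj s V with hU₁
    have hP₁ : Pt U₁ := hV.cj s
    have hD₁ := card_two_points hJ hV hP₁ (hneV s hs).symm
    -- the transitivity
    have htrans : ∀ w, w ∉ N₀ → ∃ u ∈ N₀, s⁻¹ * (u * w) ∈ N₀ := by
      intro w hw
      set U₂ := cj w V with hU₂
      have hP₂ : Pt U₂ := hV.cj w
      have hD₂ := card_two_points hJ hV hP₂ (hneV w hw).symm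
      obtain ⟨u, hu, huc⟩ := exists_conj_three (A := N₀) hN12 inf_le_left inf_le_left hD₁ hD₂
      refine ⟨u, hu, ?_⟩
      -- an element of order three
      obtain ⟨c₂, hc₂⟩ : ∃ c₂ : (N₀ ⊓ normalizer (U₂ : Set H) : Subgroup H), c₂ ≠ 1 := by
        have hnt : Nontrivial (N₀ ⊓ normalizer (U₂ : Set H) : Subgroup H) := by
          apply Finite.one_lt_card_iff_nontrivial.mp
          rw [hD₂]
          norm_num
        exact exists_ne 1
      have hc₂' : (c₂ : H) ≠ 1 := fun h => hc₂ (Subtype.ext h)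
      set c := u * (c₂ : H) * u⁻¹ with hc
      have hcD := huc c₂ c₂.2
      have hc1 : c ≠ 1 := by
        intro h
        apply hc₂'
        calc (c₂ : H) = u⁻¹ * c * u := by rw [hc]; group
          _ = 1 := by rw [h]; group
      set U₃ := cj u U₂ with hU₃
      have hP₃ : Pt U₃ := hP₂.cj u
      have hcU₃ : c ∈ normalizer (U₃ : Set H) := mem_normalizer_conj c₂.2.2
      have hU₃eq : U₃ = cj (u * w) V := by rw [hU₃, hU₂, cj_mul]
      have hne3 : V ≠ U₃ := by
        intro h
        rw [hU₃eq] at h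
        apply hw
        have h2 : u * w ∈ N₀ := cj_eq_iff.mp h.symm
        have h3 : w = u⁻¹ * (u * w) := by group
        rw [h3]
        exact N₀.mul_mem (N₀.inv_mem hu) h2
      by_cases h13 : U₁ = U₃
      · have h4 : cj (s⁻¹ * (u * w)) V = V := by
          rw [cj_mul, ← hU₃eq, ← h13, hU₁, ← cj_mul, inv_mul_cancel]
          ext x
          rw [mem_cj]
          simp
        exact cj_eq_iff.mp h4
      · exact (no_three hJ hV hP₁ hP₃ (hneV s hs).symm hne3 h13 hcD.1 hcD.2 hcU₃ hc1).elim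
    -- the count
    let pt : H ⧸ N₀ := ((s : H) : H ⧸ N₀)
    let base : H ⧸ N₀ := ((1 : H) : H ⧸ N₀)
    have huniv : (Set.univ : Set (H ⧸ N₀)) = insert base (MulAction.orbit N₀ pt) := by
      ext q
      simp only [Set.mem_univ, Set.mem_insert_iff, true_iff]
      obtain ⟨w, rfl⟩ := QuotientGroup.mk_surjective q
      by_cases hw : w ∈ N₀
      · left
        show (w : H ⧸ N₀) = ((1 : H) : H ⧸ N₀)
        rw [QuotientGroup.eq]
        simpa using hw
      · right
        obtain ⟨u, hu, h1⟩ := htrans w hw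
        refine ⟨⟨u, hu⟩⁻¹, ?_⟩
        show ((u⁻¹ : H) • ((s : H) : H ⧸ N₀)) = (w : H ⧸ N₀)
        rw [MulAction.Quotient.smul_coe, smul_eq_mul, QuotientGroup.eq]
        have : (u⁻¹ * s)⁻¹ * w = s⁻¹ * (u * w) := by group
        rw [this]
        exact h1
    have hbase : base ∉ MulAction.orbit N₀ pt := by
      rintro ⟨u, hu⟩
      have h1 : ((u : H) • ((s : H) : H ⧸ N₀)) = ((1 : H) : H ⧸ N₀) := hu
      rw [MulAction.Quotient.smul_coe, smul_eq_mul, QuotientGroup.eq] at h1
      apply hs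
      have h3 : (u : H) * s ∈ N₀ := by
        have := N₀.inv_mem h1
        simpa using this
      have h2 : s = (u : H)⁻¹ * ((u : H) * s) := by group
      rw [h2]
      exact N₀.mul_mem (N₀.inv_mem u.2) h3
    -- the stabilizer
    have hstab : (MulAction.stabilizer N₀ pt).map N₀.subtype =
        normalizer (V : Set H) ⊓ normalizer (U₁ : Set H) := by
      ext u
      constructor
      · rintro ⟨v, hv, rfl⟩
        refine ⟨v.2, ?_⟩
        have h1 : ((v : H) • ((s : H) : H ⧸ N₀)) = ((s : H) : H ⧸ N₀) := hv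
        rw [MulAction.Quotient.smul_coe, smul_eq_mul, QuotientGroup.eq] at h1
        show (v : H) ∈ normalizer (U₁ : Set H)
        rw [hU₁, mem_normalizer_cj]
        have : s⁻¹ * (v : H) * s = (((v : H) * s)⁻¹ * s)⁻¹ := by
          group
        rw [this]
        exact N₀.inv_mem h1
      · rintro ⟨h1, h2⟩
        refine ⟨⟨u, h1⟩, ?_, rfl⟩
        show (u • ((s : H) : H ⧸ N₀)) = ((s : H) : H ⧸ N₀)
        rw [MulAction.Quotient.smul_coe, smul_eq_mul, QuotientGroup.eq]
        have h3 : u ∈ normalizer (U₁ : Set H) := h2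
        rw [hU₁, mem_normalizer_cj] at h3
        have : (u * s)⁻¹ * s = (s⁻¹ * u * s)⁻¹ := by group
        rw [this]
        exact N₀.inv_mem h3
    have hstabcard : Nat.card (MulAction.stabilizer N₀ pt) = 3 := by
      rw [← hD₁, ← hstab]
      exact (Subgroup.card_map_of_injective N₀.subtype_injective).symm
    have hidx : (MulAction.stabilizer N₀ pt).index = 4 := by
      have := Subgroup.card_mul_index (MulAction.stabilizer N₀ pt)
      rw [hstabcard, hN12] at this
      omega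
    have horbit : (MulAction.orbit N₀ pt).ncard = 4 := by
      rw [← MulAction.index_stabilizer]
      exact hidx
    have hcardQ : Nat.card (H ⧸ N₀) = 5 := by
      have h1 : (Set.univ : Set (H ⧸ N₀)).ncard = 5 := by
        rw [huniv, Set.ncard_insert_of_notMem hbase, horbit]
      rwa [Set.ncard_univ] at h1
    have : N₀.index = 5 := hcardQ
    rw [this] at hmul
    omega

end

end Cfsg.Agent.Lib.D8KPt
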