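import Mathlib

/-!
# A small verified coset-enumeration checker.

Given a group `G`, elements `g i`, a subgroup `H`, a candidate coset table `T` and coset
representatives given by words, a list of tree edges and a list of relator scans are replayed by a
boolean checker (to be run by the kernel with `decide +kernel`).  Its soundness theorem gives
`G = ⋃ H τ_j`, hence `|G| ≤ m * |H|`.
-/

set_option autoImplicit false

namespace Cfsg.Agent.Lib.SmallTC

variable {G : Type*} [Group G]

/-- value of a (positive) word -/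
def ev (g : ℕ → G) (w : List ℕ) : G := (w.map g).prod

@[simp] theorem ev_nil (g : ℕ → G) : ev g [] = 1 := rfl

@[simp] theorem ev_cons (g : ℕ → G) (i : ℕ) (w : List ℕ) : ev g (i :: w) = g i * ev g w := by
  simp [ev]

theorem ev_append (g : ℕ → G) (v w : List ℕ) : ev g (v ++ w) = ev g v * ev g w := by
  simp [ev]

/-- The edges traversed from `j` when reading the word `r` in the table `T`. -/
def path (T : ℕ → ℕ → ℕ) : ℕ → List ℕ → List (ℕ × ℕ)
  | _, [] => []
  | j, i :: r => (j, i) :: path T (T j i) r

/-- The end point of the path. -/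
def endp (T : ℕ → ℕ → ℕ) : ℕ → List ℕ → ℕ
  | j, [] => j
  | j, i :: r => endp T (T j i) r

/-- Schreier element of an edge. -/
def sch (g : ℕ → G) (T : ℕ → ℕ → ℕ) (τ : ℕ → G) (e : ℕ × ℕ) : G :=
  τ e.1 * g e.2 * (τ (T e.1 e.2))⁻¹

theorem prod_path (g : ℕ → G) (T : ℕ → ℕ → ℕ) (τ : ℕ → G) (j : ℕ) (r : List ℕ) :
    ((path T j r).map (sch g T τ)).prod = τ j * ev g r * (τ (endp T j r))⁻¹ := by
  induction r generalizing j with
  | nil => simp [path, endp]
  | cons i r ih => simp [path, endp, ih, sch, mul_assoc]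

/-- Is the edge known? The set of known edges is a bit mask. -/
def known (K : ℕ) (e : ℕ × ℕ) : Bool := K.testBit (Nat.pair e.1 e.2)

/-- Add an edge to the mask. -/
def addE (K : ℕ) (e : ℕ × ℕ) : ℕ := K ||| 2 ^ Nat.pair e.1 e.2

theorem known_addE (K : ℕ) (e e' : ℕ × ℕ) (h : known (addE K e) e' = true) :
    e' = e ∨ known K e' = true := by
  unfold known addE at *
  rw [Nat.testBit_or, Bool.or_eq_true] at h
  rcases h with h | h
  · exact Or.inr h
  · left
    rw [Nat.testBit_two_pow] at h
    have h1 : Nat.pair e.1 e.2 = Nat.pair e'.1 e'.2 := by simpa using h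
    obtain ⟨h2, h3⟩ := Nat.pair_eq_pair.mp h1
    exact (Prod.ext h2 h3).symm

/-- One scan of the word `r` from `j`. -/
def scanStep (T : ℕ → ℕ → ℕ) (K j : ℕ) (r : List ℕ) : ℕ :=
  if endp T j r = j then
    match (path T j r).filter (fun e => !known K e) with
    | [e] => addE K e
    | _ => K
  else K

/-- The tree step: the representative of `T j i` is the representative of `j` followed by `i`. -/
def treeStep (T : ℕ → ℕ → ℕ) (words : ℕ → List ℕ) (K j i : ℕ) : ℕ :=
  if words (T j i) = words j ++ [i] then addE K (j, i) else K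

/-- Replay: first the tree edges and then the scans (start, relator index). -/
def run (T : ℕ → ℕ → ℕ) (words : ℕ → List ℕ) (R : ℕ → List ℕ) (nrel : ℕ)
    (tree scans : List (ℕ × ℕ)) : ℕ :=
  let K₀ := tree.foldl (fun K e => treeStep T words K e.1 e.2) 0
  scans.foldl (fun K s =>
    if decide (s.2 < nrel) || decide (s.1 = 0) then scanStep T K s.1 (R s.2) else K) K₀

/-- The whole check. -/
def check (T : ℕ → ℕ → ℕ) (words : ℕ → List ℕ) (R : ℕ → List ℕ) (nrel m k : ℕ)
    (tree scans : List (ℕ × ℕ)) : Bool :=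
  let K := run T words R nrel tree scans
  decide (0 < m) && decide (words 0 = []) &&
  (List.range m).all (fun j => (List.range k).all fun i => known K (j, i) && decide (T j i < m))

/-- Invariant: every known edge has its Schreier element in `H`. -/
def Good (g : ℕ → G) (T : ℕ → ℕ → ℕ) (τ : ℕ → G) (H : Subgroup G) (K : ℕ) : Prop :=
  ∀ e, known K e = true → sch g T τ e ∈ H

theorem good_add {g : ℕ → G} {T : ℕ → ℕ → ℕ} {τ : ℕ → G} {H : Subgroup G} {K : ℕ} {e : ℕ × ℕ}
    (hK : Good g T τ H K) (he : sch g T τ e ∈ H) : Good g T τ H (addE K e) := by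
  intro e' h
  rcases known_addE K e e' h with rfl | h
  · exact he
  · exact hK _ h

theorem split_filter {α : Type*} (p : α → Bool) (l : List α) (e : α) (h : l.filter p = [e]) :
    ∃ A B, l = A ++ e :: B ∧ (∀ x ∈ A, p x = false) ∧ (∀ x ∈ B, p x = false) := by
  induction l with
  | nil => simp at h
  | cons a l ih =>
    by_cases ha : p a = true
    · rw [List.filter_cons_of_pos ha] at h
      simp only [List.cons.injEq] at h
      obtain ⟨rfl, h2⟩ := h
      refine ⟨[], l, rfl, by simp, ?_⟩
      intro x hx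
      have : x ∉ l.filter p := by rw [h2]; simp
      simpa [List.mem_filter, hx] using this
    · rw [List.filter_cons_of_neg ha] at h
      obtain ⟨A, B, rfl, hA, hB⟩ := ih h
      refine ⟨a :: A, B, rfl, ?_, hB⟩
      intro x hx
      rcases List.mem_cons.mp hx with rfl | hx
      · simpa using ha
      · exact hA x hx

theorem prod_mem_of_known {g : ℕ → G} {T : ℕ → ℕ → ℕ} {τ : ℕ → G} {H : Subgroup G} {K : ℕ}
    (hK : Good g T τ H K) (l : List (ℕ × ℕ)) (hl : ∀ x ∈ l, (!known K x) = false) :
    (l.map (sch g T τ)).prod ∈ H := by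
  apply Subgroup.list_prod_mem
  intro x hx
  obtain ⟨e, he, rfl⟩ := List.mem_map.mp hx
  apply hK
  simpa using hl e he

theorem good_scan {g : ℕ → G} {T : ℕ → ℕ → ℕ} {τ : ℕ → G} {H : Subgroup G} {K j : ℕ} {r : List ℕ}
    (hK : Good g T τ H K) (hr : τ j * ev g r * (τ j)⁻¹ ∈ H) :
    Good g T τ H (scanStep T K j r) := by
  unfold scanStep
  split_ifs with h
  · split
    · rename_i e hf
      apply good_add hK
      obtain ⟨A, B, hAB, hA, hB⟩ := split_filter _ _ _ hf
      have h1 := prod_path g T τ j r
      rw [h, hAB, List.map_append, List.prod_append, List.map_cons, List.prod_cons] at h1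
      have h2 := prod_mem_of_known hK A hA
      have h3 := prod_mem_of_known hK B hB
      have h4 : sch g T τ e = ((A.map (sch g T τ)).prod)⁻¹ * (τ j * ev g r * (τ j)⁻¹) *
          ((B.map (sch g T τ)).prod)⁻¹ := by
        rw [← h1]; group
      rw [h4]
      exact H.mul_mem (H.mul_mem (H.inv_mem h2) hr) (H.inv_mem h3)
    · exact hK
  · exact hK

theorem good_tree {g : ℕ → G} {T : ℕ → ℕ → ℕ} {words : ℕ → List ℕ} {H : Subgroup G} {K j i : ℕ}
    (hK : Good g T (fun j => ev g (words j)) H K) :
    Good g T (fun j => ev g (words j)) H (treeStep T words K j i) := by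
  unfold treeStep
  split_ifs with h
  · apply good_add hK
    have : sch g T (fun j => ev g (words j)) (j, i) = 1 := by
      simp [sch, h, ev_append]
    rw [this]
    exact H.one_mem
  · exact hK

theorem good_zero (g : ℕ → G) (T : ℕ → ℕ → ℕ) (τ : ℕ → G) (H : Subgroup G) : Good g T τ H 0 := by
  intro e h
  simp [known] at h

theorem good_run {g : ℕ → G} {T : ℕ → ℕ → ℕ} {words : ℕ → List ℕ} {R : ℕ → List ℕ} {nrel : ℕ}
    {H : Subgroup G}
    (hR : ∀ j r, (r < nrel ∨ j = 0) →
      ev g (words j) * ev g (R r) * (ev g (words j))⁻¹ ∈ H)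
    (tree scans : List (ℕ × ℕ)) :
    Good g T (fun j => ev g (words j)) H (run T words R nrel tree scans) := by
  unfold run
  simp only
  have key : ∀ (l : List (ℕ × ℕ)) (K : ℕ), Good g T (fun j => ev g (words j)) H K →
      Good g T (fun j => ev g (words j)) H (l.foldl (fun K e => treeStep T words K e.1 e.2) K) := by
    intro l
    induction l with
    | nil => intro K h; exact h
    | cons a l ih => intro K h; exact ih _ (good_tree h)
  have key2 : ∀ (l : List (ℕ × ℕ)) (K : ℕ), Good g T (fun j => ev g (words j)) H K →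
      Good g T (fun j => ev g (words j)) H (l.foldl (fun K s =>
        if decide (s.2 < nrel) || decide (s.1 = 0) then scanStep T K s.1 (R s.2) else K) K) := by
    intro l
    induction l with
    | nil => intro K h; exact h
    | cons a l ih =>
      intro K h
      apply ih
      dsimp only
      split_ifs with h1
      · apply good_scan h
        apply hR
        simpa using h1
      · exact h
  exact key2 _ _ (key _ _ (good_zero _ _ _ _))

/-- Soundness of the checker: all the Schreier elements lie in `H`. -/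
theorem sch_mem_of_check {g : ℕ → G} {T : ℕ → ℕ → ℕ} {words : ℕ → List ℕ} {R : ℕ → List ℕ}
    {nrel m k : ℕ} {tree scans : List (ℕ × ℕ)} {H : Subgroup G}
    (hR : ∀ j r, (r < nrel ∨ j = 0) →
      ev g (words j) * ev g (R r) * (ev g (words j))⁻¹ ∈ H)
    (hc : check T words R nrel m k tree scans = true) :
    0 < m ∧ words 0 = [] ∧ ∀ j < m, ∀ i < k, T j i < m ∧
      ev g (words j) * g i * (ev g (words (T j i)))⁻¹ ∈ H := by
  unfold check at hc
  simp only [Bool.and_eq_true, decide_eq_true_eq, List.all_eq_true, List.mem_range] at hc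
  obtain ⟨⟨h1, h2⟩, h3⟩ := hc
  refine ⟨h1, h2, ?_⟩
  intro j hj i hi
  obtain ⟨h4, h5⟩ := h3 j hj i hi
  exact ⟨h5, good_run hR tree scans _ h4⟩

/-- Covering: if all positive words in the generators exhaust `G`, then `G = ⋃ H τ_j`. -/
theorem cover_of_check {g : ℕ → G} {T : ℕ → ℕ → ℕ} {words : ℕ → List ℕ} {R : ℕ → List ℕ}
    {nrel m k : ℕ} {tree scans : List (ℕ × ℕ)} {H : Subgroup G}
    (hR : ∀ j r, (r < nrel ∨ j = 0) →
      ev g (words j) * ev g (R r) * (ev g (words j))⁻¹ ∈ H)
    (hc : check T words R nrel m k tree scans = true)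
    (hgen : ∀ a : G, ∃ w : List ℕ, (∀ i ∈ w, i < k) ∧ a = ev g w) (a : G) :
    ∃ j < m, a * (ev g (words j))⁻¹ ∈ H := by
  obtain ⟨h0, hw0, hs⟩ := sch_mem_of_check hR hc
  obtain ⟨w, hw, rfl⟩ := hgen a
  -- right multiplication: read the word from its end
  have key : ∀ w : List ℕ, (∀ i ∈ w, i < k) → ∀ j < m, ∀ b : G, b * (ev g (words j))⁻¹ ∈ H →
      ∃ j' < m, (b * ev g w) * (ev g (words j'))⁻¹ ∈ H := by
    intro w
    induction w with
    | nil =>
      intro _ j hj b hb
      exact ⟨j, hj, by simpa using hb⟩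
    | cons i w ih =>
      intro hw j hj b hb
      have hi : i < k := hw i (by simp)
      obtain ⟨h1, h2⟩ := hs j hj i hi
      have h3 := ih (fun x hx => hw x (by simp [hx])) (T j i) h1 (b * g i) (by
        have : b * g i * (ev g (words (T j i)))⁻¹ =
            (b * (ev g (words j))⁻¹) * (ev g (words j) * g i * (ev g (words (T j i)))⁻¹) := by
          group
        rw [this]
        exact H.mul_mem hb h2)
      obtain ⟨j', hj', h4⟩ := h3
      refine ⟨j', hj', ?_⟩
      rw [ev_cons, ← mul_assoc]
      exact h4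
  have := key w hw 0 h0 1 (by simp [hw0, H.one_mem])
  simpa using this

/-- The order bound. -/
theorem finite_card_le_of_check {g : ℕ → G} {T : ℕ → ℕ → ℕ} {words : ℕ → List ℕ} {R : ℕ → List ℕ}
    {nrel m k : ℕ} {tree scans : List (ℕ × ℕ)} {H : Subgroup G} [Finite H]
    (hR : ∀ j r, (r < nrel ∨ j = 0) →
      ev g (words j) * ev g (R r) * (ev g (words j))⁻¹ ∈ H)
    (hc : check T words R nrel m k tree scans = true)
    (hgen : ∀ a : G, ∃ w : List ℕ, (∀ i ∈ w, i < k) ∧ a = ev g w) :
    Finite G ∧ Nat.card G ≤ m * Nat.card H := by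
  classical
  have hcov := cover_of_check hR hc hgen
  choose j hj hmem using hcov
  let f : G → Fin m × H := fun a => (⟨j a, hj a⟩, ⟨a * (ev g (words (j a)))⁻¹, hmem a⟩)
  have hf : Function.Injective f := by
    intro a b hab
    have h1 : j a = j b := congrArg (fun x => (x.1 : ℕ)) hab
    have h2 : a * (ev g (words (j a)))⁻¹ = b * (ev g (words (j b)))⁻¹ :=
      congrArg (fun x => ((x.2 : H) : G)) hab
    rw [h1] at h2
    exact mul_right_cancel h2
  have hfin : Finite G := Finite.of_injective f hf
  refine ⟨hfin, ?_⟩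
  have := Nat.card_le_card_of_injective f hf
  simpa [Nat.card_prod] using this

/-- From finite orders and a generating family: all elements are positive words. -/
theorem pos_words_of_closure {g : ℕ → G} {k : ℕ}
    (hcl : Subgroup.closure (g '' {i | i < k}) = ⊤)
    (hord : ∀ i < k, ∃ n, (g i) ^ (n + 1) = 1) (a : G) :
    ∃ w : List ℕ, (∀ i ∈ w, i < k) ∧ a = ev g w := by
  have hinv : ∀ i < k, ∃ w : List ℕ, (∀ x ∈ w, x < k) ∧ (g i)⁻¹ = ev g w := by
    intro i hi
    obtain ⟨n, hn⟩ := hord i hi
    refine ⟨List.replicate n i, ?_, ?_⟩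
    · intro x hx
      rw [List.eq_of_mem_replicate hx]; exact hi
    · have : ev g (List.replicate n i) = g i ^ n := by simp [ev]
      rw [this]
      rw [pow_succ] at hn
      exact inv_eq_of_mul_eq_one_right (by rw [← hn]; exact (pow_mul_comm' _ _).symm)
  have hmem : a ∈ Subgroup.closure (g '' {i | i < k}) := by rw [hcl]; trivial
  induction hmem using Subgroup.closure_induction'' with
  | mem x hx =>
    obtain ⟨i, hi, rfl⟩ := hx
    exact ⟨[i], by simpa using hi, by simp⟩
  | inv_mem x hx =>
    obtain ⟨i, hi, rfl⟩ := hx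
    exact hinv i hi
  | one => exact ⟨[], by simp, by simp⟩
  | mul x y _ _ hx hy =>
    obtain ⟨w₁, h1, rfl⟩ := hx
    obtain ⟨w₂, h2, rfl⟩ := hy
    refine ⟨w₁ ++ w₂, ?_, by rw [ev_append]⟩
    intro i hi
    rcases List.mem_append.mp hi with h | h
    · exact h1 i h
    · exact h2 i h

/-- A list lookup used for tables. -/
def nth {α : Type*} (d : α) : List α → ℕ → α
  | [], _ => d
  | a :: _, 0 => a
  | _ :: l, n + 1 => nth d l n

/-- The table given by a list of rows. -/
def tbl (l : List (List ℕ)) (j i : ℕ) : ℕ := nth 0 (nth [] l j) i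

end Cfsg.Agent.Lib.SmallTC
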