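import Mathlib
import Cfsg.Agent.Lib.SmallTC

set_option autoImplicit false
set_option linter.style.haveILetI false

/-!
# The presentations `⟨x, y | x², y³, (xy)³⟩` of `A₄` and `⟨x, y | x², y³, (xy)⁴⟩` of `S₄`
-/

namespace Cfsg.Agent.Lib.SmallPres

open Cfsg.Agent.Lib.SmallTC

/-- coset table -/
def tbS : List (List ℕ) := [[1,2],[0,3],[4,5],[6,7],[2,8],[9,0],[3,10],[11,1],[12,13],[5,14],[15,16],[7,17],[8,11],[18,4],[19,15],[10,9],[20,6],[21,12],[13,22],[14,18],[16,23],[17,20],[23,19],[22,21]]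
/-- representatives -/
def wdS : List (List ℕ) := [[],[0],[1],[0,1],[1,0],[1,1],[0,1,0],[0,1,1],[1,0,1],[1,1,0],[0,1,0,1],[0,1,1,0],[1,0,1,0],[1,0,1,1],[1,1,0,1],[0,1,0,1,0],[0,1,0,1,1],[0,1,1,0,1],[1,0,1,1,0],[1,1,0,1,0],[0,1,0,1,1,0],[0,1,1,0,1,0],[1,0,1,1,0,1],[0,1,0,1,1,0,1]]
/-- relators -/
def rlS : List (List ℕ) := [[0,0],[1,1,1],[0,1,0,1,0,1,0,1]]
/-- tree edges -/
def trS : List (ℕ × ℕ) := [(0,0),(0,1),(1,1),(2,0),(2,1),(3,0),(3,1),(4,1),(5,0),(6,1),(7,0),(8,0),(8,1),(9,1),(10,0),(10,1),(11,1),(13,0),(14,0),(16,0),(17,0),(18,1),(20,1)]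
/-- scans -/
def scS : List (ℕ × ℕ) := [(0,0),(2,0),(3,0),(5,0),(7,0),(8,0),(10,0),(13,0),(14,0),(16,0),(17,0),(0,1),(1,1),(4,1),(6,1),(0,2),(1,2),(4,2),(6,2),(9,1),(11,1),(18,1),(20,1),(12,2),(15,2)]

theorem tc_okS : check (tbl tbS) (nth [] wdS) (nth [] rlS) 3 24 2 trS scS = true := by
  decide +kernel

/-- the relators -/
abbrev relsS : Set (FreeGroup (Fin 2)) :=
  {FreeGroup.of (0 : Fin 2) ^ 2, FreeGroup.of (1 : Fin 2) ^ 3,
    (FreeGroup.of (0 : Fin 2) * FreeGroup.of 1) ^ 4}

/-- the presented group -/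
abbrev PS := PresentedGroup relsS

/-- generators -/
def ggS : ℕ → PS
  | 0 => PresentedGroup.of 0
  | 1 => PresentedGroup.of 1
  | _ => 1

theorem g0S : ggS 0 ^ 2 = 1 := by
  have : PresentedGroup.mk relsS (FreeGroup.of 0 ^ 2) = 1 := PresentedGroup.one_of_mem (by simp [relsS])
  simpa [ggS, PresentedGroup.of] using this

theorem g1S : ggS 1 ^ 3 = 1 := by
  have : PresentedGroup.mk relsS (FreeGroup.of 1 ^ 3) = 1 := PresentedGroup.one_of_mem (by simp [relsS])
  simpa [ggS, PresentedGroup.of] using this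

theorem g01S : (ggS 0 * ggS 1) ^ 4 = 1 := by
  have : PresentedGroup.mk relsS ((FreeGroup.of 0 * FreeGroup.of 1) ^ 4) = 1 :=
    PresentedGroup.one_of_mem (by simp [relsS])
  simpa [ggS, PresentedGroup.of] using this

theorem ev_rlS (r : ℕ) : ev ggS (nth [] rlS r) = 1 := by
  match r with
  | 0 =>
    have := g0S
    show ev ggS [0, 0] = 1
    simp only [pow_succ, pow_zero, one_mul] at this
    simpa [ev] using this
  | 1 =>
    have := g1S
    show ev ggS [1, 1, 1] = 1
    simp only [pow_succ, pow_zero, one_mul] at this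
    simpa [ev, mul_assoc] using this
  | 2 =>
    have := g01S
    show ev ggS [0, 1, 0, 1, 0, 1, 0, 1] = 1
    simp only [pow_succ, pow_zero, one_mul] at this
    simpa [ev, mul_assoc] using this
  | (n + 3) => rfl

theorem card_leS : Finite PS ∧ Nat.card PS ≤ 24 := by
  have hcl : Subgroup.closure (ggS '' {i | i < 2}) = ⊤ := by
    rw [eq_top_iff, ← PresentedGroup.closure_range_of relsS, Subgroup.closure_le]
    rintro _ ⟨i, rfl⟩
    apply Subgroup.subset_closure
    fin_cases i
    · exact ⟨0, by simp, rfl⟩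
    · exact ⟨1, by simp, rfl⟩
  have hord : ∀ i < 2, ∃ n, (ggS i) ^ (n + 1) = 1 := by
    intro i hi
    interval_cases i
    · exact ⟨1, g0S⟩
    · exact ⟨2, g1S⟩
  have h := finite_card_le_of_check (H := (⊥ : Subgroup PS)) (g := ggS)
    (by
      intro j r _
      rw [ev_rlS, mul_one, mul_inv_cancel]
      exact Subgroup.one_mem _) tc_okS (pos_words_of_closure hcl hord)
  refine ⟨h.1, ?_⟩
  simpa using h.2

/-- first image -/
def XS : Equiv.Perm (Fin 4) := Equiv.swap 0 1
/-- second image -/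
def YS : Equiv.Perm (Fin 4) := Equiv.swap 1 2 * Equiv.swap 2 3

theorem hXS : XS ^ 2 = 1 := by decide
theorem hYS : YS ^ 3 = 1 := by decide
theorem hXYS : (XS * YS) ^ 4 = 1 := by decide

/-- the homomorphism onto the symmetric group -/
def φS : PS →* Equiv.Perm (Fin 4) :=
  PresentedGroup.toGroup (f := ![XS, YS]) (by
    intro r hr
    simp only [relsS, Set.mem_insert_iff, Set.mem_singleton_iff] at hr
    rcases hr with rfl | rfl | rfl
    · simpa using hXS
    · simpa using hYS
    · simpa using hXYS)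

/-- evaluation on the generators -/
def evS : List ℕ → Equiv.Perm (Fin 4) :=
  fun w => ev (fun i => if i = 0 then XS else YS) w

theorem all_wordsS : ∀ g : Equiv.Perm (Fin 4), g ∈ wdS.map evS := by decide +kernel

theorem φS_surj : Function.Surjective φS := by
  have hx : XS ∈ φS.range := ⟨PresentedGroup.of 0, by simp [φS]⟩
  have hy : YS ∈ φS.range := ⟨PresentedGroup.of 1, by simp [φS]⟩
  have key : ∀ w : List ℕ, evS w ∈ φS.range := by
    intro w
    induction w with
    | nil => exact φS.range.one_mem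
    | cons i w ih =>
      have : evS (i :: w) = (if i = 0 then XS else YS) * evS w := by simp [evS]
      rw [this]
      refine φS.range.mul_mem ?_ ih
      split_ifs
      · exact hx
      · exact hy
  intro g
  obtain ⟨w, _, rfl⟩ := List.mem_map.mp (all_wordsS g)
  exact key w

/-- The presentation of `S₄`. -/
theorem iso_S4 : Function.Bijective φS := by
  obtain ⟨hfin, hle⟩ := card_leS
  rw [Nat.bijective_iff_surjective_and_card]
  refine ⟨φS_surj, ?_⟩
  have h1 := Nat.card_le_card_of_surjective φS φS_surj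
  have h2 : Nat.card (Equiv.Perm (Fin 4)) = 24 := by
    rw [Nat.card_perm]; simp; decide
  omega

/-- Homomorphisms from `S₄`. -/
theorem exists_hom_S4 {G : Type*} [Group G] (x y : G) (hx : x ^ 2 = 1) (hy : y ^ 3 = 1)
    (hxy : (x * y) ^ 4 = 1) : ∃ φ : Equiv.Perm (Fin 4) →* G, φ XS = x ∧ φ YS = y := by
  let ψ : PS →* G := PresentedGroup.toGroup (f := ![x, y]) (by
    intro r hr
    simp only [relsS, Set.mem_insert_iff, Set.mem_singleton_iff] at hr
    rcases hr with rfl | rfl | rfl
    · simpa using hx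
    · simpa using hy
    · simpa using hxy)
  let e : PS ≃* Equiv.Perm (Fin 4) := MulEquiv.ofBijective φS iso_S4
  refine ⟨ψ.comp e.symm.toMonoidHom, ?_, ?_⟩
  · have : e.symm XS = PresentedGroup.of 0 := by
      rw [MulEquiv.symm_apply_eq]
      show XS = φS (PresentedGroup.of 0)
      simp [φS]
    simp only [MonoidHom.comp_apply]
    show ψ (e.symm XS) = x
    rw [this]
    simp [ψ]
  · have : e.symm YS = PresentedGroup.of 1 := by
      rw [MulEquiv.symm_apply_eq]
      show YS = φS (PresentedGroup.of 1)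
      simp [φS]
    simp only [MonoidHom.comp_apply]
    show ψ (e.symm YS) = y
    rw [this]
    simp [ψ]

/-! ## `A₄` -/

/-- coset table -/
def tbA : List (List ℕ) := [[1,2],[0,3],[4,5],[6,7],[2,8],[9,0],[3,9],[8,1],[7,10],[5,11],[11,4],[10,6]]
/-- representatives -/
def wdA : List (List ℕ) := [[],[0],[1],[0,1],[1,0],[1,1],[0,1,0],[0,1,1],[1,0,1],[1,1,0],[1,0,1,1],[1,1,0,1]]
/-- relators -/
def rlA : List (List ℕ) := [[0,0],[1,1,1],[0,1,0,1,0,1]]
/-- tree edges -/
def trA : List (ℕ × ℕ) := [(0,0),(0,1),(1,1),(2,0),(2,1),(3,0),(3,1),(4,1),(5,0),(8,1),(9,1)]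
/-- scans -/
def scA : List (ℕ × ℕ) := [(0,0),(2,0),(3,0),(5,0),(0,1),(1,1),(4,1),(0,2),(1,2),(4,2),(7,0),(10,0),(6,1)]

theorem tc_okA : check (tbl tbA) (nth [] wdA) (nth [] rlA) 3 12 2 trA scA = true := by
  decide +kernel

/-- the relators -/
abbrev relsA : Set (FreeGroup (Fin 2)) :=
  {FreeGroup.of (0 : Fin 2) ^ 2, FreeGroup.of (1 : Fin 2) ^ 3,
    (FreeGroup.of (0 : Fin 2) * FreeGroup.of 1) ^ 3}

/-- the presented group -/
abbrev PA := PresentedGroup relsA

/-- generators -/
def ggA : ℕ → PA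
  | 0 => PresentedGroup.of 0
  | 1 => PresentedGroup.of 1
  | _ => 1

theorem g0A : ggA 0 ^ 2 = 1 := by
  have : PresentedGroup.mk relsA (FreeGroup.of 0 ^ 2) = 1 := PresentedGroup.one_of_mem (by simp [relsA])
  simpa [ggA, PresentedGroup.of] using this

theorem g1A : ggA 1 ^ 3 = 1 := by
  have : PresentedGroup.mk relsA (FreeGroup.of 1 ^ 3) = 1 := PresentedGroup.one_of_mem (by simp [relsA])
  simpa [ggA, PresentedGroup.of] using this

theorem g01A : (ggA 0 * ggA 1) ^ 3 = 1 := by
  have : PresentedGroup.mk relsA ((FreeGroup.of 0 * FreeGroup.of 1) ^ 3) = 1 :=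
    PresentedGroup.one_of_mem (by simp [relsA])
  simpa [ggA, PresentedGroup.of] using this

theorem ev_rlA (r : ℕ) : ev ggA (nth [] rlA r) = 1 := by
  match r with
  | 0 =>
    have := g0A
    show ev ggA [0, 0] = 1
    simp only [pow_succ, pow_zero, one_mul] at this
    simpa [ev] using this
  | 1 =>
    have := g1A
    show ev ggA [1, 1, 1] = 1
    simp only [pow_succ, pow_zero, one_mul] at this
    simpa [ev, mul_assoc] using this
  | 2 =>
    have := g01A
    show ev ggA [0, 1, 0, 1, 0, 1] = 1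
    simp only [pow_succ, pow_zero, one_mul] at this
    simpa [ev, mul_assoc] using this
  | (n + 3) => rfl

theorem card_leA : Finite PA ∧ Nat.card PA ≤ 12 := by
  have hcl : Subgroup.closure (ggA '' {i | i < 2}) = ⊤ := by
    rw [eq_top_iff, ← PresentedGroup.closure_range_of relsA, Subgroup.closure_le]
    rintro _ ⟨i, rfl⟩
    apply Subgroup.subset_closure
    fin_cases i
    · exact ⟨0, by simp, rfl⟩
    · exact ⟨1, by simp, rfl⟩
  have hord : ∀ i < 2, ∃ n, (ggA i) ^ (n + 1) = 1 := by
    intro i hi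
    interval_cases i
    · exact ⟨1, g0A⟩
    · exact ⟨2, g1A⟩
  have h := finite_card_le_of_check (H := (⊥ : Subgroup PA)) (g := ggA)
    (by
      intro j r _
      rw [ev_rlA, mul_one, mul_inv_cancel]
      exact Subgroup.one_mem _) tc_okA (pos_words_of_closure hcl hord)
  refine ⟨h.1, ?_⟩
  simpa using h.2

/-- first image -/
def XA : alternatingGroup (Fin 4) :=
  ⟨Equiv.swap 0 1 * Equiv.swap 2 3, by rw [Equiv.Perm.mem_alternatingGroup]; decide⟩
/-- second image -/
def YA : alternatingGroup (Fin 4) :=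
  ⟨Equiv.swap 0 1 * Equiv.swap 1 2, by rw [Equiv.Perm.mem_alternatingGroup]; decide⟩

theorem hXA : XA ^ 2 = 1 := by decide
theorem hYA : YA ^ 3 = 1 := by decide
theorem hXYA : (XA * YA) ^ 3 = 1 := by decide

/-- the homomorphism onto the alternating group -/
def φA : PA →* alternatingGroup (Fin 4) :=
  PresentedGroup.toGroup (f := ![XA, YA]) (by
    intro r hr
    simp only [relsA, Set.mem_insert_iff, Set.mem_singleton_iff] at hr
    rcases hr with rfl | rfl | rfl
    · simpa using hXA
    · simpa using hYA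
    · simpa using hXYA)

/-- evaluation on the generators -/
def evA : List ℕ → alternatingGroup (Fin 4) :=
  fun w => ev (fun i => if i = 0 then XA else YA) w

theorem all_wordsA : ∀ g : alternatingGroup (Fin 4), g ∈ wdA.map evA := by decide +kernel

theorem φA_surj : Function.Surjective φA := by
  have hx : XA ∈ φA.range := ⟨PresentedGroup.of 0, by simp [φA]⟩
  have hy : YA ∈ φA.range := ⟨PresentedGroup.of 1, by simp [φA]⟩
  have key : ∀ w : List ℕ, evA w ∈ φA.range := by
    intro w
    induction w with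
    | nil => exact φA.range.one_mem
    | cons i w ih =>
      have : evA (i :: w) = (if i = 0 then XA else YA) * evA w := by simp [evA]
      rw [this]
      refine φA.range.mul_mem ?_ ih
      split_ifs
      · exact hx
      · exact hy
  intro g
  obtain ⟨w, _, rfl⟩ := List.mem_map.mp (all_wordsA g)
  exact key w

/-- The presentation of `A₄`. -/
theorem iso_A4 : Function.Bijective φA := by
  obtain ⟨hfin, hle⟩ := card_leA
  rw [Nat.bijective_iff_surjective_and_card]
  refine ⟨φA_surj, ?_⟩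
  have h1 := Nat.card_le_card_of_surjective φA φA_surj
  have h2 : Nat.card (alternatingGroup (Fin 4)) = 12 := by
    rw [nat_card_alternatingGroup]; simp; decide
  omega

/-- Homomorphisms from `A₄`. -/
theorem exists_hom_A4 {G : Type*} [Group G] (x y : G) (hx : x ^ 2 = 1) (hy : y ^ 3 = 1)
    (hxy : (x * y) ^ 3 = 1) : ∃ φ : alternatingGroup (Fin 4) →* G, φ XA = x ∧ φ YA = y := by
  let ψ : PA →* G := PresentedGroup.toGroup (f := ![x, y]) (by
    intro r hr
    simp only [relsA, Set.mem_insert_iff, Set.mem_singleton_iff] at hr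
    rcases hr with rfl | rfl | rfl
    · simpa using hx
    · simpa using hy
    · simpa using hxy)
  let e : PA ≃* alternatingGroup (Fin 4) := MulEquiv.ofBijective φA iso_A4
  refine ⟨ψ.comp e.symm.toMonoidHom, ?_, ?_⟩
  · have : e.symm XA = PresentedGroup.of 0 := by
      rw [MulEquiv.symm_apply_eq]
      show XA = φA (PresentedGroup.of 0)
      simp [φA]
    simp only [MonoidHom.comp_apply]
    show ψ (e.symm XA) = x
    rw [this]
    simp [ψ]
  · have : e.symm YA = PresentedGroup.of 1 := by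
      rw [MulEquiv.symm_apply_eq]
      show YA = φA (PresentedGroup.of 1)
      simp [φA]
    simp only [MonoidHom.comp_apply]
    show ψ (e.symm YA) = y
    rw [this]
    simp [ψ]

end Cfsg.Agent.Lib.SmallPres
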