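import Mathlib
import Cfsg.Agent.Lib.D8KPt
import Cfsg.Agent.Lib.D8Index
import Cfsg.Agent.Lib.SmallPres

/-!
# Involutions with centralizer dihedral of order eight: exactly one class of reflections is fused

Then the group has a subgroup of index two with Klein four Sylow subgroups, it has order `24` or `120`
and it is a symmetric group.
-/

set_option autoImplicit false
set_option linter.unusedVariables false
set_option linter.unusedSectionVars false
set_option linter.unusedSimpArgs false
set_option maxRecDepth 10000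

namespace Cfsg.Agent.Lib.D8OneFused

open Subgroup DihedralGroup
open Cfsg.Agent.Lib.D8CentGroup Cfsg.Agent.Lib.D8Fus Cfsg.Agent.Lib.D8Simple
open Cfsg.Agent.Lib.D8Index Cfsg.Agent.Lib.D8KPt

/-- A subgroup containing a subgroup of index three given by a covering. -/
theorem card_of_cover {G : Type*} [Group G] [Finite G] (A K : Subgroup G) (c : G) (hKA : K ≤ A)
    (hc : c ∈ A) (hc3 : c * c * c = 1) (hc1 : c ≠ 1) (hK : ¬ 3 ∣ Nat.card K)
    (hcov : ∀ x ∈ A, x ∈ K ∨ c⁻¹ * x ∈ K ∨ c⁻¹ * c⁻¹ * x ∈ K) : Nat.card A = 3 * Nat.card K := by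
  classical
  have hf : Fact (Nat.Prime 3) := ⟨by norm_num⟩
  have hord : orderOf c = 3 := by
    apply orderOf_eq_prime _ hc1
    rw [pow_succ, pow_two]
    exact hc3
  have h3 : 3 ∣ Nat.card A := by
    rw [← hord]
    exact Subgroup.orderOf_dvd_natCard A hc
  have hKd : Nat.card K ∣ Nat.card A := Subgroup.card_dvd_of_le hKA
  have hcop : Nat.Coprime 3 (Nat.card K) := (Nat.Prime.coprime_iff_not_dvd (by norm_num)).2 hK
  have hd : 3 * Nat.card K ∣ Nat.card A := hcop.mul_dvd_of_dvd_of_dvd h3 hKd
  apply le_antisymm _ (Nat.le_of_dvd Nat.card_pos hd)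
  -- the injection
  have hex : ∀ x : A, ∃ i : Fin 3, (c⁻¹) ^ (i : ℕ) * (x : G) ∈ K := by
    intro x
    rcases hcov x x.2 with h | h | h
    · exact ⟨0, by simpa using h⟩
    · exact ⟨1, by simpa using h⟩
    · refine ⟨2, ?_⟩
      have : c⁻¹ ^ ((2 : Fin 3) : ℕ) = c⁻¹ * c⁻¹ := by
        show c⁻¹ ^ 2 = _
        rw [pow_two]
      rw [this]
      exact h
  choose i hi using hex
  let f : A → Fin 3 × K := fun x => (i x, ⟨_, hi x⟩)
  have hf' : Function.Injective f := by
    intro x y hxy
    have h1 : i x = i y := congrArg Prod.fst hxy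
    have h2 : (c⁻¹) ^ ((i x : Fin 3) : ℕ) * (x : G) = (c⁻¹) ^ ((i y : Fin 3) : ℕ) * (y : G) :=
      congrArg (fun p => ((p.2 : K) : G)) hxy
    rw [h1] at h2
    exact Subtype.ext (mul_left_cancel h2)
  have := Nat.card_le_card_of_injective f hf'
  rwa [Nat.card_prod, Nat.card_eq_fintype_card (α := Fin 3), Fintype.card_fin] at this

section

variable {G : Type*} [Group G] [Finite G] {t : G} (e : centralizer ({t} : Set G) ≃* DihedralGroup 4)
  (ht : orderOf t = 2)

omit [Finite G] in
theorem card_VV : Nat.card (VV e) = 4 := by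
  have h1 : Nat.card (VV e) = Nat.card (vA.map e.symm.toMonoidHom) :=
    Subgroup.card_map_of_injective (Subtype.val_injective)
  have h2 : Nat.card (vA.map e.symm.toMonoidHom) = Nat.card vA :=
    Subgroup.card_map_of_injective e.symm.injective
  rw [h1, h2]
  have key : Fintype.card {x : DihedralGroup 4 // x = 1 ∨ x = r 2 ∨ x = sr 0 ∨ x = sr 2} = 4 := by decide
  have h3 : Nat.card vA = Nat.card {x : DihedralGroup 4 // x = 1 ∨ x = r 2 ∨ x = sr 0 ∨ x = sr 2} := rfl
  rw [h3, Nat.card_eq_fintype_card, key]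

include ht

omit [Finite G] in
theorem VV_sq {x : G} (hx : x ∈ VV e) : x * x = 1 := by
  have htt := t_t ht
  have haa := aa_sq e ht
  rcases (mem_VV e ht).1 hx with rfl | rfl | rfl | rfl
  · simp
  · exact htt
  · exact haa
  · calc aa e * t * (aa e * t) = aa e * (t * aa e) * t := by group
      _ = aa e * (aa e * t) * t := by rw [t_aa e ht]
      _ = (aa e * aa e) * (t * t) := by group
      _ = 1 := by rw [haa, htt, one_mul]

omit [Finite G] in
theorem rho_conj : inG e (r 1) * aa e * (inG e (r 1))⁻¹ = aa e * t := by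
  have h1 : (inG e (r 1))⁻¹ = inG e (r (-1)) := by
    rw [← inG_inv]; rfl
  rw [h1]
  unfold aa
  rw [inG_rw e (r 1) (sr 0) (sr (-1)) (by decide), inG_rw e (sr (-1)) (r (-1)) (sr 2) (by decide),
    inG_sr2 e ht]
  rfl

omit [Finite G] ht in
theorem ab_eq_rho : aa e * bb e = inG e (r 1) := inG_rw e _ _ _ (by decide)

/-- An element mapping `t` into the four-group normalizes it. -/
theorem mem_normalizer_of_conj {g : G} (h1 : g * t * g⁻¹ ∈ VV e) :
    g ∈ normalizer ((VV e : Subgroup G) : Set G) := by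
  have hfin := finite_VV e
  have htt := t_t ht
  have hta := t_aa e ht
  -- the case of `a`
  have key : ∀ {g : G}, g * t * g⁻¹ = aa e → g ∈ normalizer ((VV e : Subgroup G) : Set G) := by
    intro g hg
    apply mem_normalizer_of_conj_mem
    intro x hx
    rw [mem_VV e ht] at hx ⊢
    rcases conj_aa_classes e ht hg with h | h
    · have h2 : g * aa e * g⁻¹ = t := by rw [← h]; group
      rcases hx with rfl | rfl | rfl | rfl
      · left; group
      · right; right; left; exact hg
      · right; left; exact h2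
      · right; right; right
        have : g * (aa e * t) * g⁻¹ = (g * aa e * g⁻¹) * (g * t * g⁻¹) := by group
        rw [this, h2, hg, hta]
    · have h2 : g * (aa e * t) * g⁻¹ = t := by rw [← h]; group
      have h3 : g * aa e * g⁻¹ = aa e * t := by
        calc g * aa e * g⁻¹ = g * (aa e * t * t) * g⁻¹ := by rw [mul_assoc (aa e), htt, mul_one]
          _ = (g * (aa e * t) * g⁻¹) * (g * t * g⁻¹) := by group
          _ = aa e * t := by rw [h2, hg, hta]
      rcases hx with rfl | rfl | rfl | rfl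
      · left; group
      · right; right; left; exact hg
      · right; right; right; exact h3
      · right; left; exact h2
  rcases (mem_VV e ht).1 h1 with h | h | h | h
  · exfalso
    apply t_ne_one ht
    calc t = g⁻¹ * (g * t * g⁻¹) * g := by group
      _ = 1 := by rw [h]; group
  · have : g ∈ centralizer ({t} : Set G) := by
      rw [mem_centralizer_singleton_iff]
      calc g * t = g * t * g⁻¹ * g := by group
        _ = t * g := by rw [h]
    exact T_le_normalizer e this
  · exact key h
  · set ρ := inG e (r 1) with hρ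
    have h2 : ρ * aa e * ρ⁻¹ = aa e * t := rho_conj e ht
    have h3 : ρ⁻¹ * g ∈ normalizer ((VV e : Subgroup G) : Set G) := by
      apply key
      calc ρ⁻¹ * g * t * (ρ⁻¹ * g)⁻¹ = ρ⁻¹ * (g * t * g⁻¹) * ρ := by group
        _ = ρ⁻¹ * (ρ * aa e * ρ⁻¹) * ρ := by rw [h, h2]
        _ = aa e := by group
    have h4 : ρ ∈ normalizer ((VV e : Subgroup G) : Set G) := T_le_normalizer e (inG_mem e _)
    have h5 := mul_mem h4 h3
    simpa using h5

omit [Finite G] in
/-- Every nontrivial element of the four-group is conjugate to `t` if `t` fuses with `a`. -/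
theorem VV_conj_t (hfa : ∃ g, g * t * g⁻¹ = aa e) {x : G} (hx : x ∈ VV e) (h1 : x ≠ 1) :
    ∃ g, g * t * g⁻¹ = x := by
  obtain ⟨g, hg⟩ := hfa
  rcases (mem_VV e ht).1 hx with rfl | rfl | rfl | rfl
  · exact absurd rfl h1
  · exact ⟨1, by group⟩
  · exact ⟨g, hg⟩
  · exact conj_of_fus e ht hg

/-- The subgroup of index two. -/
theorem exists_H (hfa : ∃ g, g * t * g⁻¹ = aa e) (hnb : ¬ ∃ g, g * t * g⁻¹ = bb e) :
    ∃ H : Subgroup G, H.index = 2 ∧ bb e ∉ H := by
  have hmod := card_mod e ht
  have hidx : (VV e).index * 4 = Nat.card G := by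
    rw [← card_VV e, mul_comm]
    exact Subgroup.card_mul_index (VV e)
  obtain ⟨q, hq⟩ : ∃ q, Nat.card G = 8 * (2 * q + 1) := ⟨Nat.card G / 16, by omega⟩
  have hidx2 : (VV e).index = 2 * (2 * q + 1) := by omega
  have hb2 : (bb e) ^ 2 = 1 := by rw [pow_two]; exact bb_sq e ht
  refine exists_index_two (VV e) (2 * q + 1) ⟨q, rfl⟩ hidx2 (bb e) hb2 ?_
  intro g hg
  have h1 : g⁻¹ * bb e * g ≠ 1 := by
    intro h
    apply bb_ne_one e ht
    calc bb e = g * (g⁻¹ * bb e * g) * g⁻¹ := by group
      _ = 1 := by rw [h]; group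
  obtain ⟨g', hg'⟩ := VV_conj_t e ht hfa hg h1
  apply hnb
  refine ⟨g * g', ?_⟩
  calc g * g' * t * (g * g')⁻¹ = g * (g' * t * g'⁻¹) * g⁻¹ := by group
    _ = bb e := by rw [hg']; group

section H

variable (H : Subgroup G) (hH : H.index = 2) (hb : bb e ∉ H) (hfa : ∃ g, g * t * g⁻¹ = aa e)

omit ht [Finite G] in
include hH in
theorem norm_H : H.Normal := Subgroup.normal_of_index_eq_two hH

omit ht [Finite G] in
include hH in
theorem sq_mem (x : G) : x * x ∈ H := by
  have := norm_H H hH
  have h := Subgroup.pow_index_mem H x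
  rwa [hH, pow_two] at h

omit [Finite G] in
include e hH in
theorem t_mem : t ∈ H := by
  have h := sq_mem H hH (inG e (r 1))
  rwa [inG_rw e (r 1) (r 1) (r 2) (by decide), inG_r2 e ht] at h

omit [Finite G] in
include hH hfa in
theorem VV_le : VV e ≤ H := by
  have := norm_H H hH
  intro x hx
  by_cases h1 : x = 1
  · rw [h1]; exact H.one_mem
  obtain ⟨g, rfl⟩ := VV_conj_t e ht hfa hx h1
  exact Subgroup.Normal.conj_mem this _ (t_mem e ht H hH) g

omit ht [Finite G] in
include hH in
theorem c_mem {c : G} (hc : c * c * c = 1) : c ∈ H := by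
  have h1 := sq_mem H hH c
  have h2 := H.mul_mem h1 h1
  have h3 : c * c * (c * c) = c := by
    calc c * c * (c * c) = (c * c * c) * c := by group
      _ = c := by rw [hc, one_mul]
  rwa [h3] at h2

omit [Finite G] in
include hH hb hfa in
/-- The elements of `T` in `H` are those of the four-group. -/
theorem T_inter {x : G} (hx : x * t = t * x) (h : x ∈ H) : x ∈ VV e := by
  obtain ⟨w, rfl⟩ := exists_inG e (mem_centralizer_singleton_iff.2 hx)
  have key : ∀ w : DihedralGroup 4, (w = 1 ∨ w = r 2 ∨ w = sr 0 ∨ w = sr 2) ∨ w = sr 1 ∨ w = sr 3 ∨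
      w = r 1 ∨ w = r 3 := by decide
  have hV := VV_le e ht H hH hfa
  have ha : aa e ∈ H := hV ((mem_VV e ht).2 (Or.inr (Or.inr (Or.inl rfl))))
  have htH := t_mem e ht H hH
  have h1 : ∀ {y : G}, y ∉ H → y * t ∉ H := by
    intro y hy h2
    apply hy
    have := H.mul_mem h2 htH
    simpa [mul_assoc, t_t ht] using this
  have h2 : inG e (r 1) ∉ H := by
    rw [← ab_eq_rho e]
    intro h3
    exact hb ((Subgroup.mul_mem_cancel_left H ha).1 h3)
  rcases key w with hw | rfl | rfl | rfl | rfl
  · exact (mem_VV_iff e).2 ⟨w, hw, rfl⟩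
  · exact absurd h hb
  · rw [inG_sr3 e ht] at h
    exact absurd h (h1 hb)
  · exact absurd h h2
  · have h4 : inG e (r 3) = inG e (r 1) * t :=
      calc inG e (r 3) = inG e (r 1) * inG e (r 2) := (inG_rw e _ _ _ (by decide)).symm
        _ = inG e (r 1) * t := by rw [inG_r2 e ht]
    rw [h4] at h
    exact absurd h (h1 h2)

/-- The cover of the normalizer by cosets of `T`. -/
theorem cover_T {c x : G} (hc1 : c * t * c⁻¹ = aa e) (hc2 : c * aa e * c⁻¹ = aa e * t)
    (hx : x * t * x⁻¹ ∈ VV e) :
    x * t = t * x ∨ (c⁻¹ * x) * t = t * (c⁻¹ * x) ∨ (c⁻¹ * c⁻¹ * x) * t = t * (c⁻¹ * c⁻¹ * x) := by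
  have hcomm : ∀ y : G, y * t * y⁻¹ = t → y * t = t * y := by
    intro y hy
    calc y * t = y * t * y⁻¹ * y := by group
      _ = t * y := by rw [hy]
  rcases (mem_VV e ht).1 hx with h | h | h | h
  · exfalso
    apply t_ne_one ht
    calc t = x⁻¹ * (x * t * x⁻¹) * x := by group
      _ = 1 := by rw [h]; group
  · exact Or.inl (hcomm _ h)
  · right; left
    apply hcomm
    calc c⁻¹ * x * t * (c⁻¹ * x)⁻¹ = c⁻¹ * (x * t * x⁻¹) * c := by group
      _ = c⁻¹ * (c * t * c⁻¹) * c := by rw [h, hc1]
      _ = t := by group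
  · right; right
    apply hcomm
    calc c⁻¹ * c⁻¹ * x * t * (c⁻¹ * c⁻¹ * x)⁻¹ = c⁻¹ * (c⁻¹ * (x * t * x⁻¹) * c) * c := by
          simp only [mul_inv_rev, inv_inv, mul_assoc]
      _ = c⁻¹ * (c⁻¹ * (c * aa e * c⁻¹) * c) * c := by rw [h, hc2]
      _ = c⁻¹ * aa e * c := by group
      _ = c⁻¹ * (c * t * c⁻¹) * c := by rw [hc1]
      _ = t := by group

/-- The order of the normalizer of the four-group. -/
theorem card_W {c : G} (hc3 : c * c * c = 1) (hc1 : c * t * c⁻¹ = aa e) (hc2 : c * aa e * c⁻¹ = aa e * t) :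
    Nat.card (normalizer ((VV e : Subgroup G) : Set G)) = 24 := by
  have hc0 : c ≠ 1 := by
    rintro rfl
    apply t_ne_aa e ht
    rw [← hc1]
    group
  have := card_of_cover (normalizer ((VV e : Subgroup G) : Set G)) (centralizer ({t} : Set G)) c
    (T_le_normalizer e)
    (mem_normalizer_of_conj e ht (by rw [hc1]; exact (mem_VV e ht).2 (Or.inr (Or.inr (Or.inl rfl)))))
    hc3 hc0 (by rw [card_S e]; norm_num) (by
      intro x hx
      have h1 : x * t * x⁻¹ ∈ VV e := by
        refine (mem_normalizer_iff.mp hx t).1 ((mem_VV e ht).2 (Or.inr (Or.inl rfl)))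
      rcases cover_T e ht hc1 hc2 h1 with h | h | h
      · exact Or.inl (mem_centralizer_singleton_iff.2 h)
      · exact Or.inr (Or.inl (mem_centralizer_singleton_iff.2 h))
      · exact Or.inr (Or.inr (mem_centralizer_singleton_iff.2 h)))
  rw [this, card_S e]

omit ht in
/-- The four-group inside `H`. -/
def VH : Subgroup H := (VV e).subgroupOf H

omit ht [Finite G] in
theorem mem_VH {x : H} : x ∈ VH e H ↔ (x : G) ∈ VV e := Subgroup.mem_subgroupOf

omit ht [Finite G] in
theorem mem_normalizer_VH_of {x : H} (hx : (x : G) ∈ normalizer ((VV e : Subgroup G) : Set G)) :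
    x ∈ normalizer ((VH e H : Subgroup H) : Set H) := by
  rw [mem_normalizer_iff]
  intro y
  rw [mem_VH, mem_VH]
  exact mem_normalizer_iff.mp hx y

include hH hb hfa in
/-- The four-group of `H` has the required property. -/
theorem pt_VH : Pt (VH e H) := by
  have hV := VV_le e ht H hH hfa
  have hnH := norm_H H hH
  have htH := t_mem e ht H hH
  obtain ⟨c, c3, -, c1, c2⟩ := exists_c e ht hfa
  have hcH : c ∈ H := c_mem H hH c3
  refine ⟨?_, ?_, ?_, ?_⟩
  · intro x hx
    apply Subtype.ext
    exact VV_sq e ht ((mem_VH e H).1 hx)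
  · intro x hx hx1 y hy
    rw [mem_VH] at hx ⊢
    have hx1' : (x : G) ≠ 1 := fun h => hx1 (Subtype.ext h)
    have hy' : (y : G) * x = x * y := congrArg Subtype.val hy
    obtain ⟨g, hg⟩ := VV_conj_t e ht hfa hx hx1'
    have hgN := mem_normalizer_of_conj e ht (g := g) (by rw [hg]; exact hx)
    have hy1 : g⁻¹ * y * g ∈ H := by
      have := hnH.conj_mem y y.2 g⁻¹
      simpa using this
    have hcomm : (g⁻¹ * y * g) * t = t * (g⁻¹ * y * g) := by
      have h2 : (y : G) * (g * t * g⁻¹) = (g * t * g⁻¹) * y := by rw [hg, hy']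
      calc (g⁻¹ * y * g) * t = g⁻¹ * ((y : G) * (g * t * g⁻¹)) * g := by group
        _ = g⁻¹ * ((g * t * g⁻¹) * y) * g := by rw [h2]
        _ = t * (g⁻¹ * y * g) := by group
    have h3 := T_inter e ht H hH hb hfa hcomm hy1
    have h4 := (mem_normalizer_iff.mp hgN _).1 h3
    have h5 : g * (g⁻¹ * (y : G) * g) * g⁻¹ = y := by group
    rwa [h5] at h4
  · have : Nat.card (VH e H) = Nat.card (VV e) := Nat.card_congr (Subgroup.subgroupOfEquivOfLe hV).toEquiv
    rw [this, card_VV]
  · have hVc : Nat.card (VH e H) = 4 := by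
      have : Nat.card (VH e H) = Nat.card (VV e) := Nat.card_congr (Subgroup.subgroupOfEquivOfLe hV).toEquiv
      rw [this, card_VV]
    have hc0 : (⟨c, hcH⟩ : H) ≠ 1 := by
      intro h
      have h2 : c = 1 := congrArg Subtype.val h
      apply t_ne_aa e ht
      rw [← c1, h2]
      group
    have := card_of_cover (normalizer ((VH e H : Subgroup H) : Set H)) (VH e H) (⟨c, hcH⟩ : H)
      le_normalizer
      (mem_normalizer_VH_of e H (mem_normalizer_of_conj e ht (by
        rw [c1]; exact (mem_VV e ht).2 (Or.inr (Or.inr (Or.inl rfl))))))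
      (Subtype.ext c3) hc0 (by rw [hVc]; norm_num) (by
        intro x hx
        have h1 : (x : G) * t * (x : G)⁻¹ ∈ VV e := by
          have h2 : (⟨t, htH⟩ : H) ∈ VH e H := by
            rw [mem_VH]
            exact (mem_VV e ht).2 (Or.inr (Or.inl rfl))
          have h3 := (mem_normalizer_iff.mp hx _).1 h2
          rwa [mem_VH] at h3
        rcases cover_T e ht c1 c2 h1 with h | h | h
        · left
          rw [mem_VH]
          exact T_inter e ht H hH hb hfa h x.2
        · right; left
          rw [mem_VH]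
          refine T_inter e ht H hH hb hfa h ?_
          exact H.mul_mem (H.inv_mem hcH) x.2
        · right; right
          rw [mem_VH]
          refine T_inter e ht H hH hb hfa h ?_
          exact H.mul_mem (H.mul_mem (H.inv_mem hcH) (H.inv_mem hcH)) x.2)
    rw [this, hVc]

include hH hb hfa in
/-- Every involution of `H` lies in a conjugate of the four-group. -/
theorem exists_pt_of_inv (x : H) (hx1 : x * x = 1) (hx2 : x ≠ 1) : ∃ U : Subgroup H, Pt U ∧ x ∈ U := by
  have hnH := norm_H H hH
  have hV := VV_le e ht H hH hfa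
  have htH := t_mem e ht H hH
  have hx1' : (x : G) ^ 2 = 1 := by
    rw [pow_two]
    exact congrArg Subtype.val hx1
  have hx2' : (x : G) ≠ 1 := fun h => hx2 (Subtype.ext h)
  -- a conjugate in the four-group
  have key : ∃ g : G, g * x * g⁻¹ ∈ VV e := by
    obtain ⟨g, hg⟩ := inv_conj_into e ht hx1' hx2'
    have h1 : g * x * g⁻¹ ∈ H := hnH.conj_mem x x.2 g
    refine ⟨g, ?_⟩
    rcases hg with h | h | h | h | h
    · rw [h]; exact (mem_VV e ht).2 (Or.inr (Or.inl rfl))
    · rw [h]; exact (mem_VV e ht).2 (Or.inr (Or.inr (Or.inl rfl)))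
    · rw [h]; exact (mem_VV e ht).2 (Or.inr (Or.inr (Or.inr rfl)))
    · rw [h] at h1; exact absurd h1 hb
    · rw [h] at h1
      exfalso
      apply hb
      have := H.mul_mem h1 htH
      simpa [mul_assoc, t_t ht] using this
  obtain ⟨g, hg⟩ := key
  have key2 : ∃ g' : H, (g' : G) * x * (g' : G)⁻¹ ∈ VV e := by
    by_cases hgH : g ∈ H
    · exact ⟨⟨g, hgH⟩, hg⟩
    · have h1 : bb e * g ∈ H := by
        rw [Subgroup.mul_mem_iff_of_index_two hH]
        exact iff_of_false hb hgH
      refine ⟨⟨bb e * g, h1⟩, ?_⟩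
      have h2 : bb e ∈ normalizer ((VV e : Subgroup G) : Set G) := T_le_normalizer e (inG_mem e _)
      have h3 := (mem_normalizer_iff.mp h2 _).1 hg
      have h4 : bb e * (g * x * g⁻¹) * (bb e)⁻¹ = bb e * g * x * (bb e * g)⁻¹ := by group
      rwa [h4] at h3
  obtain ⟨g', hg'⟩ := key2
  refine ⟨cj g'⁻¹ (VH e H), (pt_VH e ht H hH hb hfa).cj _, ?_⟩
  rw [mem_cj, mem_VH]
  simpa using hg'

include hH hb hfa in
/-- The order of `H`. -/
theorem card_H : Nat.card H = 12 ∨ Nat.card H = 60 :=
  card_eq_of_pt (exists_pt_of_inv e ht H hH hb hfa) (pt_VH e ht H hH hb hfa)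

include e hH hb hfa in
/-- The case of order `120`. -/
theorem iso_S5 (hcard : Nat.card G = 120) : Nonempty (G ≃* Equiv.Perm (Fin 5)) := by
  classical
  have hnH := norm_H H hH
  have hpt := pt_VH e ht H hH hb hfa
  have htt := t_t ht
  obtain ⟨c, c3, -, c1, c2⟩ := exists_c e ht hfa
  set W := normalizer ((VV e : Subgroup G) : Set G) with hW
  have hWc : Nat.card W = 24 := card_W e ht c3 c1 c2
  have hidx : W.index = 5 := by
    have := Subgroup.card_mul_index W
    rw [hWc, hcard] at this
    omega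
  have hKn : W.normalCore.Normal := Subgroup.normalCore_normal W
  have hKW : W.normalCore ≤ W := Subgroup.normalCore_le W
  have step1 : ∀ y ∈ W.normalCore, y ∈ VV e → y = 1 := by
    intro y hy hyV
    by_contra hy1
    obtain ⟨g, rfl⟩ := VV_conj_t e ht hfa hyV hy1
    have h1 : t ∈ W.normalCore := by
      have h0 := hKn.conj_mem _ hy g⁻¹
      have e1 : g⁻¹ * (g * t * g⁻¹) * g⁻¹⁻¹ = t := by group
      rwa [e1] at h0
    have h2 : W = ⊤ := by
      rw [eq_top_iff]
      intro g _
      apply mem_normalizer_of_conj e ht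
      have h3 : g * t * g⁻¹ ∈ W.normalCore := hKn.conj_mem t h1 g
      have h4 : g * t * g⁻¹ ∈ H := hnH.conj_mem t (t_mem e ht H hH) g
      have h5 : (⟨g * t * g⁻¹, h4⟩ : H) ∈ normalizer ((VH e H : Subgroup H) : Set H) :=
        mem_normalizer_VH_of e H (hKW h3)
      have h6 : (⟨g * t * g⁻¹, h4⟩ : H) * ⟨g * t * g⁻¹, h4⟩ = 1 := by
        apply Subtype.ext
        show g * t * g⁻¹ * (g * t * g⁻¹) = 1
        calc g * t * g⁻¹ * (g * t * g⁻¹) = g * (t * t) * g⁻¹ := by group
          _ = 1 := by rw [htt]; group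
      have h7 := hpt.inv_mem h5 h6
      exact (mem_VH e H).1 h7
    rw [h2, Subgroup.index_top] at hidx
    omega
  have hK : W.normalCore = ⊥ := by
    rw [eq_bot_iff]
    intro x hx
    rw [Subgroup.mem_bot]
    have hcomm : ∀ v ∈ VV e, x * v = v * x := by
      intro v hv
      have h1 : x * v * x⁻¹ * v⁻¹ ∈ VV e :=
        (VV e).mul_mem ((mem_normalizer_iff.mp (hKW hx) v).1 hv) ((VV e).inv_mem hv)
      have h2 : x * v * x⁻¹ * v⁻¹ ∈ W.normalCore := by
        have h3 := hKn.conj_mem _ (W.normalCore.inv_mem hx) v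
        have h4 := W.normalCore.mul_mem hx h3
        have h5 : x * (v * x⁻¹ * v⁻¹) = x * v * x⁻¹ * v⁻¹ := by group
        rwa [h5] at h4
      have h3 := step1 _ h2 h1
      calc x * v = x * v * x⁻¹ * v⁻¹ * (v * x) := by group
        _ = v * x := by rw [h3, one_mul]
    have h4 := comm_t_aa e ht (hcomm t ((mem_VV e ht).2 (Or.inr (Or.inl rfl))))
      (hcomm (aa e) ((mem_VV e ht).2 (Or.inr (Or.inr (Or.inl rfl)))))
    exact step1 x hx ((mem_VV e ht).2 h4)
  have hinj : Function.Injective (MulAction.toPermHom G (G ⧸ W)) := by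
    rw [← MonoidHom.ker_eq_bot_iff, ← Subgroup.normalCore_eq_ker, hK]
  have hcardq : Nat.card (G ⧸ W) = 5 := hidx
  let e' : G ⧸ W ≃ Fin 5 := Finite.equivFinOfCardEq hcardq
  let f : G →* Equiv.Perm (Fin 5) :=
    (Equiv.permCongrHom e').toMonoidHom.comp (MulAction.toPermHom G (G ⧸ W))
  have hf : Function.Injective f :=
    (Equiv.permCongrHom e').injective.comp hinj
  have hbij : Function.Bijective f := by
    apply hf.bijective_of_nat_card_le
    rw [hcard, Nat.card_eq_fintype_card, Fintype.card_perm, Fintype.card_fin]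
    decide
  exact ⟨MulEquiv.ofBijective f hbij⟩

end H

omit ht [Finite G] in
/-- A test in the symmetric group of degree four: the square of `XS * YS` is a product of two conjugates
of any nontrivial element, or a conjugate of it. -/
theorem S4_key : ∀ w : Equiv.Perm (Fin 4), w ≠ 1 → ∃ g₁ g₂ : Equiv.Perm (Fin 4),
    (Cfsg.Agent.Lib.SmallPres.XS * Cfsg.Agent.Lib.SmallPres.YS) ^ 2 = g₁ * w * g₁⁻¹ * (g₂ * w * g₂⁻¹) ∨
    (Cfsg.Agent.Lib.SmallPres.XS * Cfsg.Agent.Lib.SmallPres.YS) ^ 2 = g₁ * w * g₁⁻¹ := by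
  decide +kernel

/-- The case of order `24`. -/
theorem iso_S4 (hfa : ∃ g, g * t * g⁻¹ = aa e) (hcard : Nat.card G = 24) :
    Nonempty (G ≃* Equiv.Perm (Fin 4)) := by
  obtain ⟨c, c3, c4, c1, c2⟩ := exists_c e ht hfa
  have hbb := bb_sq e ht
  have haa := aa_sq e ht
  have htt := t_t ht
  have hta := t_aa e ht
  have htb := t_bb e ht
  set a := aa e with ha
  set b := bb e with hb
  have hct : c * t = a * c := by
    rw [← c1]; group
  have hca : c * a = a * t * c := by
    rw [← c2]; group
  have hbcb : b * c * b = c * c := by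
    have h1 : b * c * b * c * (c * c) = (c * c) := by rw [c4, one_mul]
    calc b * c * b = b * c * b * (c * c * c) := by rw [c3, mul_one]
      _ = b * c * b * c * (c * c) := by group
      _ = c * c := h1
  have hy3 : (c * t) ^ 3 = 1 := by
    rw [hct]
    calc (a * c) ^ 3 = a * (c * a) * (c * a) * c := by simp only [pow_succ, pow_zero, one_mul, mul_assoc]
      _ = a * (a * t * c) * (a * t * c) * c := by rw [hca]
      _ = (a * a) * t * (c * a) * t * (c * c) := by simp only [mul_assoc]
      _ = t * (a * t * c) * t * (c * c) := by rw [hca, haa, one_mul]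
      _ = t * a * t * (c * t) * (c * c) := by simp only [mul_assoc]
      _ = t * a * t * (a * c) * (c * c) := by rw [hct]
      _ = t * a * (t * a) * (c * c * c) := by simp only [mul_assoc]
      _ = t * a * (a * t) := by rw [hta, c3, mul_one]
      _ = t * (a * a) * t := by simp only [mul_assoc]
      _ = 1 := by rw [haa, mul_one, htt]
  have hz : b * (c * t) * (b * (c * t)) = a := by
    calc b * (c * t) * (b * (c * t)) = b * c * (t * b) * (c * t) := by simp only [mul_assoc]
      _ = b * c * (b * t) * (c * t) := by rw [htb]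
      _ = (b * c * b) * (t * (c * t)) := by simp only [mul_assoc]
      _ = c * c * (t * (c * t)) := by rw [hbcb]
      _ = c * (c * t) * (c * t) := by simp only [mul_assoc]
      _ = c * (a * c) * (a * c) := by rw [hct]
      _ = (c * a) * (c * a) * c := by simp only [mul_assoc]
      _ = (a * t * c) * (a * t * c) * c := by rw [hca]
      _ = a * t * (c * a) * t * (c * c) := by simp only [mul_assoc]
      _ = a * t * (a * t * c) * t * (c * c) := by rw [hca]
      _ = a * t * (a * t) * (c * t) * (c * c) := by simp only [mul_assoc]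
      _ = a * t * (a * t) * (a * c) * (c * c) := by rw [hct]
      _ = (a * t * (a * t)) * a * (c * c * c) := by simp only [mul_assoc]
      _ = (t * a * (a * t)) * a := by rw [c3, mul_one, hta]
      _ = (t * (a * a) * t) * a := by simp only [mul_assoc]
      _ = a := by rw [haa, mul_one, htt, one_mul]
  have hx2 : b ^ 2 = 1 := by rw [pow_two]; exact hbb
  have hxy : (b * (c * t)) ^ 4 = 1 := by
    have : (b * (c * t)) ^ 4 = (b * (c * t) * (b * (c * t))) * (b * (c * t) * (b * (c * t))) := by
      simp only [pow_succ, pow_zero, one_mul, mul_assoc]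
    rw [this, hz, haa]
  obtain ⟨φ, h1, h2⟩ := Cfsg.Agent.Lib.SmallPres.exists_hom_S4 b (c * t) hx2 hy3 hxy
  have hz2 : φ ((Cfsg.Agent.Lib.SmallPres.XS * Cfsg.Agent.Lib.SmallPres.YS) ^ 2) = a := by
    rw [map_pow, map_mul, h1, h2, pow_two, hz]
  have ha1 : a ≠ 1 := aa_ne_one e ht
  have hinj : Function.Injective φ := by
    rw [injective_iff_map_eq_one]
    intro w hw
    by_contra hw1
    obtain ⟨g₁, g₂, h | h⟩ := S4_key w hw1
    · rw [h] at hz2
      simp only [map_mul, map_inv, hw, mul_one, mul_inv_cancel] at hz2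
      exact ha1 hz2.symm
    · rw [h] at hz2
      simp only [map_mul, map_inv, hw, mul_one, mul_inv_cancel] at hz2
      exact ha1 hz2.symm
  have hbij : Function.Bijective φ := by
    apply hinj.bijective_of_nat_card_le
    rw [hcard, Nat.card_eq_fintype_card, Fintype.card_perm, Fintype.card_fin]
    decide
  exact ⟨(MulEquiv.ofBijective φ hbij).symm⟩

/-- **The case where exactly one class of reflections fuses with `t`.** -/
theorem main (hfa : ∃ g, g * t * g⁻¹ = aa e) (hnb : ¬ ∃ g, g * t * g⁻¹ = bb e) :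
    Nonempty (G ≃* Equiv.Perm (Fin 4)) ∨ Nonempty (G ≃* Equiv.Perm (Fin 5)) := by
  obtain ⟨H, hH, hb⟩ := exists_H e ht hfa hnb
  have hm := Subgroup.card_mul_index H
  rw [hH] at hm
  rcases card_H e ht H hH hb hfa with h | h
  · left
    exact iso_S4 e ht hfa (by omega)
  · right
    exact iso_S5 e ht H hH hb hfa (by omega)

end

end Cfsg.Agent.Lib.D8OneFused
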