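import Mathlib
import Cfsg.Agent.Lib.D8OneFused
import Cfsg.Agent.Lib.SylowConjLemmas

/-!
# Involutions with centralizer `Z₂ × S₄`

`t` is an involution, `L : S₄ → G` parametrizes a complement to `t` in `C(t)`, and `C(L z₀)` is the
Sylow subgroup `⟨t⟩ × L(D₈)`.
-/

set_option autoImplicit false
set_option linter.unusedVariables false
set_option linter.unusedSectionVars false
set_option linter.unusedSimpArgs false
set_option maxRecDepth 10000

namespace Cfsg.Agent.Lib.C2S4Par

open Subgroup Equiv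

/-- The symmetric group of degree four. -/
abbrev P4 := Perm (Fin 4)

/-- The central element of the dihedral group. -/
def z0 : P4 := swap 0 1 * swap 2 3
/-- A double transposition. -/
def d1 : P4 := swap 0 2 * swap 1 3
/-- A double transposition. -/
def d2 : P4 := swap 0 3 * swap 1 2
/-- A transposition. -/
def u0 : P4 := swap 0 1
/-- A transposition. -/
def u2 : P4 := swap 1 2
/-- An element of order three. -/
def r0 : P4 := ⟨![2, 0, 3 - 2, 3], ![1, 2, 0, 3], by decide, by decide⟩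

theorem r0_z0 : r0 * z0 * r0⁻¹ = d1 := by decide +kernel
theorem r0_d1 : r0 * d1 * r0⁻¹ = d1 * z0 := by decide +kernel
theorem r0_three : r0 * r0 * r0 = 1 := by decide +kernel
theorem r0_ne : r0 ≠ 1 := by decide +kernel
theorem d1_z0 : d1 * z0 = d2 := by decide +kernel
theorem sign_z0 : Perm.sign z0 = 1 := by decide +kernel
theorem sign_u0 : Perm.sign u0 = -1 := by decide +kernel
theorem u0_d1_comm : u0 * d1 * u0⁻¹ * d1⁻¹ = z0 := by decide +kernel
theorem u0_z0 : u0 * z0 = z0 * u0 := by decide +kernel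
theorem d1_z0' : d1 * z0 = z0 * d1 := by decide +kernel
theorem u0u2 : u0 * u2 ≠ u2 * u0 := by decide +kernel
theorem z0_ne : z0 ≠ 1 := by decide +kernel

/-- Involutions of `S₄`. -/
def inV (π : P4) : Prop := π = z0 ∨ π = d1 ∨ π = d2

instance : DecidablePred inV := fun π => by unfold inV; infer_instance

theorem inv_cases : ∀ π : P4, π ^ 2 = 1 → π = 1 ∨ inV π ∨ ∃ ρ : P4, ρ * u0 * ρ⁻¹ = π := by decide +kernel

theorem inV_conj : ∀ π : P4, inV π → ∃ ρ : P4, ρ * z0 * ρ⁻¹ = π := by decide +kernel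

theorem inV_mul : ∀ π π' : P4, inV π → inV π' → π * π' = 1 ∨ inV (π * π') := by decide +kernel

theorem D_pow : ∀ π : P4, π * z0 = z0 * π → π ^ 4 = 1 := by decide +kernel

theorem D_comm : ∀ π π' : P4, π * z0 = z0 * π → π' * z0 = z0 * π' →
    π * π' * π⁻¹ * π'⁻¹ = 1 ∨ π * π' * π⁻¹ * π'⁻¹ = z0 := by decide +kernel

theorem even_squares : ∀ π : P4, Perm.sign π = 1 → ∃ ρ ρ' : P4, π = ρ ^ 2 * ρ' ^ 2 := by decide +kernel

theorem card_u0_class : (Finset.univ.filter (fun π : P4 => ∃ ρ : P4, ρ * u0 * ρ⁻¹ = π)).card = 6 := by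
  decide +kernel

theorem u0_mem_class : ∃ ρ : P4, ρ * u0 * ρ⁻¹ = u0 := ⟨1, by simp⟩

theorem u2_mem_class : ∃ ρ : P4, ρ * u0 * ρ⁻¹ = u2 := by decide +kernel

section

variable {G : Type*} [Group G]

theorem comm_t_left {t a b : G} (ha : Commute t a) (hb : Commute t b) :
    (t * a) * b * (t * a)⁻¹ * b⁻¹ = a * b * a⁻¹ * b⁻¹ := by
  have hw : Commute t (a * b * a⁻¹) := (ha.mul_right hb).mul_right ha.inv_right
  calc (t * a) * b * (t * a)⁻¹ * b⁻¹ = (t * (a * b * a⁻¹)) * t⁻¹ * b⁻¹ := by group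
    _ = ((a * b * a⁻¹) * t) * t⁻¹ * b⁻¹ := by rw [hw.eq]
    _ = _ := by group

theorem comm_t_right {t x b : G} (hx : Commute t x) (hb : Commute t b) :
    x * (t * b) * x⁻¹ * (t * b)⁻¹ = x * b * x⁻¹ * b⁻¹ := by
  have hw : Commute t (x * b * x⁻¹ * b⁻¹) :=
    ((hx.mul_right hb).mul_right hx.inv_right).mul_right hb.inv_right
  have h1 : x * (t * b) * x⁻¹ * (t * b)⁻¹ = (x * t) * b * x⁻¹ * b⁻¹ * t⁻¹ := by group
  rw [h1, ← hx.eq]
  calc t * x * b * x⁻¹ * b⁻¹ * t⁻¹ = t * (x * b * x⁻¹ * b⁻¹) * t⁻¹ := by group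
    _ = (x * b * x⁻¹ * b⁻¹) * t * t⁻¹ := by rw [hw.eq]
    _ = _ := by group

/-- The parametrized data. -/
structure Par (t : G) (L : P4 →* G) : Prop where
  tt : t * t = 1
  ht1 : t ≠ 1
  inj : Function.Injective L
  comm : ∀ π, L π * t = t * L π
  hne : ∀ π, L π ≠ t
  cover : ∀ x, x * t = t * x → ∃ π, x = L π ∨ x = t * L π
  hz : ∀ x, x * L z0 = L z0 * x ↔ ∃ π, π * z0 = z0 * π ∧ (x = L π ∨ x = t * L π)
  hS : ∃ S : Sylow 2 G, (S : Subgroup G) = centralizer ({L z0} : Set G)
  hodd : ∃ k, Odd k ∧ Nat.card G = 16 * k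
  cardC : Nat.card (centralizer ({t} : Set G)) = 48

variable {t : G} {L : P4 →* G}

/-- Twisting the complement by the sign. -/
noncomputable def twist (t : G) (L : P4 →* G) (hc : ∀ π, L π * t = t * L π) (htt : t * t = 1) : P4 →* G where
  toFun π := if Perm.sign π = 1 then L π else t * L π
  map_one' := by simp
  map_mul' := by
    intro π ρ
    have hs : Perm.sign (π * ρ) = Perm.sign π * Perm.sign ρ := map_mul _ _ _
    have hn : (-1 : ℤˣ) ≠ 1 := by decide
    have hm : (-1 : ℤˣ) * (-1) = 1 := by decide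
    rcases Int.units_eq_one_or (Perm.sign π) with h1 | h1 <;>
    rcases Int.units_eq_one_or (Perm.sign ρ) with h2 | h2
    · simp [hs, h1, h2]
    · simp only [hs, h1, h2, map_mul, one_mul, if_true, hn, if_false]
      rw [← mul_assoc, ← mul_assoc (L π), hc]
    · simp only [hs, h1, h2, map_mul, mul_one, if_true, hn, if_false, mul_assoc]
    · simp only [hs, h1, h2, map_mul, hm, if_true, hn, if_false]
      calc L π * L ρ = L π * (t * t) * L ρ := by rw [htt, mul_one]
        _ = t * L π * (t * L ρ) := by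
          rw [← mul_assoc, hc, mul_assoc, mul_assoc]

theorem twist_apply_even {hc : ∀ π, L π * t = t * L π} {htt : t * t = 1} {π : P4} (h : Perm.sign π = 1) :
    twist t L hc htt π = L π := by
  show (if Perm.sign π = 1 then L π else t * L π) = L π
  rw [if_pos h]

theorem twist_apply_odd {hc : ∀ π, L π * t = t * L π} {htt : t * t = 1} {π : P4} (h : Perm.sign π = -1) :
    twist t L hc htt π = t * L π := by
  show (if Perm.sign π = 1 then L π else t * L π) = t * L π
  rw [if_neg (by rw [h]; decide)]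

namespace Par

variable (h : Par t L)
include h

theorem L_eq_one {π : P4} (hπ : L π = 1) : π = 1 := h.inj (by rw [hπ, map_one])

theorem comm' (π : P4) (u : G) : t * (L π * u) = L π * (t * u) := by
  rw [← mul_assoc, ← mul_assoc, h.comm]

theorem tt' (u : G) : t * (t * u) = u := by rw [← mul_assoc, h.tt, one_mul]

/-- The twisted parametrization. -/
theorem twist_par : Par t (twist t L h.comm h.tt) := by
  have hev : ∀ {π : P4}, Perm.sign π = 1 ∨ Perm.sign π = -1 := fun {π} => Int.units_eq_one_or _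
  have hz' : twist t L h.comm h.tt z0 = L z0 := twist_apply_even sign_z0
  refine ⟨h.tt, h.ht1, ?_, ?_, ?_, ?_, ?_, ?_, h.hodd, h.cardC⟩
  · intro π ρ hπ
    rcases hev (π := π) with h1 | h1 <;> rcases hev (π := ρ) with h2 | h2
    · rw [twist_apply_even h1, twist_apply_even h2] at hπ
      exact h.inj hπ
    · rw [twist_apply_even h1, twist_apply_odd h2] at hπ
      exfalso
      apply h.hne (π * ρ⁻¹)
      rw [map_mul, map_inv, hπ]
      group
    · rw [twist_apply_odd h1, twist_apply_even h2] at hπ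
      exfalso
      apply h.hne (ρ * π⁻¹)
      rw [map_mul, map_inv, ← hπ]
      group
    · rw [twist_apply_odd h1, twist_apply_odd h2] at hπ
      exact h.inj (mul_left_cancel hπ)
  · intro π
    rcases hev (π := π) with h1 | h1
    · rw [twist_apply_even h1]; exact h.comm π
    · rw [twist_apply_odd h1, mul_assoc, h.comm]
  · intro π
    rcases hev (π := π) with h1 | h1
    · rw [twist_apply_even h1]; exact h.hne π
    · rw [twist_apply_odd h1]
      intro h2
      have h3 : L π = 1 := by simpa using h2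
      have h4 := h.L_eq_one h3
      rw [h4] at h1
      exact absurd h1 (by decide)
  · intro x hx
    obtain ⟨π, h1⟩ := h.cover x hx
    refine ⟨π, ?_⟩
    rcases hev (π := π) with h2 | h2
    · rw [twist_apply_even h2]; exact h1
    · rw [twist_apply_odd h2]
      rcases h1 with h1 | h1
      · right; rw [h.tt', h1]
      · left; exact h1
  · intro x
    rw [hz', h.hz]
    constructor
    · rintro ⟨π, h0, h1⟩
      refine ⟨π, h0, ?_⟩
      rcases hev (π := π) with h2 | h2
      · rw [twist_apply_even h2]; exact h1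
      · rw [twist_apply_odd h2]
        rcases h1 with h1 | h1
        · right; rw [h.tt', h1]
        · left; exact h1
    · rintro ⟨π, h0, h1⟩
      refine ⟨π, h0, ?_⟩
      rcases hev (π := π) with h2 | h2
      · rw [twist_apply_even h2] at h1; exact h1
      · rw [twist_apply_odd h2, h.tt'] at h1
        rcases h1 with h1 | h1
        · right; exact h1
        · left; exact h1
  · rw [hz']; exact h.hS

/-- Elements of the centralizer of `z` have fourth power one. -/
theorem pow_four {x : G} (hx : x * L z0 = L z0 * x) : x ^ 4 = 1 := by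
  obtain ⟨π, h0, h1⟩ := (h.hz x).1 hx
  have h2 : (L π) ^ 4 = 1 := by rw [← map_pow, D_pow π h0, map_one]
  rcases h1 with rfl | rfl
  · exact h2
  · have : (t * L π) ^ 4 = (t * t) * (t * t) * (L π) ^ 4 := by
      simp only [pow_succ, pow_zero, one_mul, mul_assoc, h.comm']
    rw [this, h.tt, h2]; simp

/-- The fourth power argument: `z` is not conjugate to `t`. -/
theorem not_t_z : ¬ ∃ g, g * t * g⁻¹ = L z0 := by
  rintro ⟨g, hg⟩
  set x := g * L r0 * g⁻¹ with hx
  have h1 : x * L z0 = L z0 * x := by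
    rw [← hg, hx]
    calc g * L r0 * g⁻¹ * (g * t * g⁻¹) = g * (L r0 * t) * g⁻¹ := by group
      _ = g * (t * L r0) * g⁻¹ := by rw [h.comm]
      _ = g * t * g⁻¹ * (g * L r0 * g⁻¹) := by group
  have h2 := h.pow_four h1
  have h3 : x * x * x = 1 := by
    rw [hx]
    calc g * L r0 * g⁻¹ * (g * L r0 * g⁻¹) * (g * L r0 * g⁻¹) = g * (L r0 * L r0 * L r0) * g⁻¹ := by group
      _ = 1 := by rw [← map_mul, ← map_mul, r0_three, map_one]; group
  have h4 : x = 1 := by
    have : x ^ 4 = (x * x * x) * x := by simp only [pow_succ, pow_zero, one_mul, mul_assoc]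
    rw [this, h3, one_mul] at h2
    exact h2
  have h5 : L r0 = 1 := by
    calc L r0 = g⁻¹ * x * g := by rw [hx]; group
      _ = 1 := by rw [h4]; group
  exact r0_ne (h.L_eq_one h5)

/-- Commutators in `C(z)`. -/
theorem comm_in {x y : G} (hx : x * L z0 = L z0 * x) (hy : y * L z0 = L z0 * y) :
    x * y * x⁻¹ * y⁻¹ = 1 ∨ x * y * x⁻¹ * y⁻¹ = L z0 := by
  obtain ⟨π, h0, h1⟩ := (h.hz x).1 hx
  obtain ⟨ρ, h0', h2⟩ := (h.hz y).1 hy
  have hct : ∀ σ, Commute t (L σ) := fun σ => (h.comm σ).symm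
  have key : x * y * x⁻¹ * y⁻¹ = L (π * ρ * π⁻¹ * ρ⁻¹) := by
    have hmap : L (π * ρ * π⁻¹ * ρ⁻¹) = L π * L ρ * (L π)⁻¹ * (L ρ)⁻¹ := by simp
    rw [hmap]
    rcases h1 with rfl | rfl <;> rcases h2 with rfl | rfl
    · rfl
    · exact comm_t_right (hct π) (hct ρ)
    · exact comm_t_left (hct π) (hct ρ)
    · rw [comm_t_right ((Commute.refl t).mul_right (hct π)) (hct ρ)]
      exact comm_t_left (hct π) (hct ρ)
  rw [key]
  rcases D_comm π ρ h0 h0' with h3 | h3
  · left; rw [h3, map_one]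
  · right; rw [h3]

theorem hzz : L z0 * L z0 = 1 := by
  rw [← map_mul]
  have : z0 * z0 = 1 := by decide +kernel
  rw [this, map_one]

theorem z_ne_one : L z0 ≠ 1 := fun hh => z0_ne (h.L_eq_one hh)

theorem tz_ne_one : t * L z0 ≠ 1 := by
  intro hh
  have h1 : L z0 = t := by
    have h2 : t * (t * L z0) = t := by rw [hh, mul_one]
    rwa [h.tt'] at h2
  exact h.hne _ h1

/-- An element centralizing `z` centralizes `t`. -/
theorem comm_t_of_comm_z {x : G} (hx : x * L z0 = L z0 * x) : x * t = t * x := by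
  obtain ⟨π, h0, h1⟩ := (h.hz x).1 hx
  rcases h1 with rfl | rfl
  · exact h.comm π
  · rw [mul_assoc, h.comm]

/-- An element normalizing `C(z)` centralizes `z`. -/
theorem norm_z {g : G} (hg : ∀ x, x * L z0 = L z0 * x → (g * x * g⁻¹) * L z0 = L z0 * (g * x * g⁻¹)) :
    g * L z0 * g⁻¹ = L z0 := by
  have hu : L u0 * L z0 = L z0 * L u0 := by rw [← map_mul, ← map_mul, u0_z0]
  have hd : L d1 * L z0 = L z0 * L d1 := by rw [← map_mul, ← map_mul, d1_z0']
  have h1 : L z0 = L u0 * L d1 * (L u0)⁻¹ * (L d1)⁻¹ := by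
    rw [← u0_d1_comm]; simp
  have h2 := h.comm_in (hg _ hu) (hg _ hd)
  have h3 : (g * L u0 * g⁻¹) * (g * L d1 * g⁻¹) * (g * L u0 * g⁻¹)⁻¹ * (g * L d1 * g⁻¹)⁻¹ = g * L z0 * g⁻¹ := by
    rw [h1]
    group
  rw [h3] at h2
  rcases h2 with h2 | h2
  · exfalso
    apply h.z_ne_one
    calc L z0 = g⁻¹ * (g * L z0 * g⁻¹) * g := by group
      _ = 1 := by rw [h2]; group
  · exact h2

/-- The involutions `z` and `t z` are not conjugate. -/
theorem not_z_tz [Finite G] : ¬ IsConj (L z0) (t * L z0) := by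
  rw [isConj_iff]
  rintro ⟨g, hg⟩
  have hle : centralizer ({L z0} : Set G) ≤ centralizer ({t * L z0} : Set G) := by
    intro x hx
    rw [mem_centralizer_singleton_iff] at hx ⊢
    have h1 := h.comm_t_of_comm_z hx
    rw [← mul_assoc, h1, mul_assoc, hx, mul_assoc]
  have heq : centralizer ({t * L z0} : Set G) = Cfsg.Agent.Lib.D8KPt.cj g (centralizer ({L z0} : Set G)) := by
    ext x
    rw [Cfsg.Agent.Lib.D8KPt.mem_cj, mem_centralizer_singleton_iff, mem_centralizer_singleton_iff, ← hg]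
    constructor
    · intro h1
      calc g⁻¹ * x * g * L z0 = g⁻¹ * (x * (g * L z0 * g⁻¹)) * g := by group
        _ = g⁻¹ * ((g * L z0 * g⁻¹) * x) * g := by rw [h1]
        _ = L z0 * (g⁻¹ * x * g) := by group
    · intro h1
      calc x * (g * L z0 * g⁻¹) = g * (g⁻¹ * x * g * L z0) * g⁻¹ := by group
        _ = g * (L z0 * (g⁻¹ * x * g)) * g⁻¹ := by rw [h1]
        _ = g * L z0 * g⁻¹ * x := by group
  have heq2 : centralizer ({L z0} : Set G) = centralizer ({t * L z0} : Set G) := by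
    apply Subgroup.eq_of_le_of_card_ge hle
    rw [heq, Cfsg.Agent.Lib.D8KPt.card_cj]
  have h2 : g * L z0 * g⁻¹ = L z0 := by
    apply h.norm_z
    intro x hx
    rw [← mem_centralizer_singleton_iff, heq2, heq, Cfsg.Agent.Lib.D8KPt.mem_cj]
    have e1 : g⁻¹ * (g * x * g⁻¹) * g = x := by group
    rw [e1, mem_centralizer_singleton_iff]
    exact hx
  rw [hg] at h2
  have h3 : t = 1 := by
    have h4 : t * L z0 * (L z0)⁻¹ = L z0 * (L z0)⁻¹ := by rw [h2]
    simpa using h4
  exact h.ht1 h3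

/-- The involutions `t` and `t z` are not conjugate. -/
theorem not_t_tz [Finite G] : ¬ IsConj t (t * L z0) := by
  rw [isConj_iff]
  rintro ⟨g, hg⟩
  have hf : Fact (Nat.Prime 2) := ⟨Nat.prime_two⟩
  obtain ⟨S, hS⟩ := h.hS
  have hle : centralizer ({L z0} : Set G) ≤ centralizer ({t * L z0} : Set G) := by
    intro x hx
    rw [mem_centralizer_singleton_iff] at hx ⊢
    have h1 := h.comm_t_of_comm_z hx
    rw [← mul_assoc, h1, mul_assoc, hx, mul_assoc]
  have hp : IsPGroup 2 (Cfsg.Agent.Lib.D8KPt.cj g (S : Subgroup G)) :=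
    S.isPGroup'.map _
  have hle2 : Cfsg.Agent.Lib.D8KPt.cj g (S : Subgroup G) ≤ centralizer ({t * L z0} : Set G) := by
    intro x hx
    rw [Cfsg.Agent.Lib.D8KPt.mem_cj, hS, mem_centralizer_singleton_iff] at hx
    have h1 := h.comm_t_of_comm_z hx
    rw [mem_centralizer_singleton_iff, ← hg]
    calc x * (g * t * g⁻¹) = g * (g⁻¹ * x * g * t) * g⁻¹ := by group
      _ = g * (t * (g⁻¹ * x * g)) * g⁻¹ := by rw [h1]
      _ = g * t * g⁻¹ * x := by group
  obtain ⟨k, hk, hk2⟩ := Cfsg.Agent.Lib.SylowConjLemmas.exists_conj_mem_of_le S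
    (centralizer ({t * L z0} : Set G)) (by rw [hS]; exact hle) _ hp hle2
  have hkk : k * (t * L z0) = (t * L z0) * k := mem_centralizer_singleton_iff.1 hk
  have h1 : (k * g) * L z0 * (k * g)⁻¹ = L z0 := by
    apply h.norm_z
    intro x hx
    have h2 : x ∈ (S : Subgroup G) := by rw [hS, mem_centralizer_singleton_iff]; exact hx
    have h3 := hk2 (g * x * g⁻¹) (Cfsg.Agent.Lib.D8KPt.conj_mem_cj h2)
    rw [hS, mem_centralizer_singleton_iff] at h3
    have e1 : k * (g * x * g⁻¹) * k⁻¹ = k * g * x * (k * g)⁻¹ := by group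
    rwa [e1] at h3
  have h2 : (k * g) * L z0 = L z0 * (k * g) := by
    calc k * g * L z0 = (k * g) * L z0 * (k * g)⁻¹ * (k * g) := by group
      _ = L z0 * (k * g) := by rw [h1]
  have h3 := h.comm_t_of_comm_z h2
  have h4 : (k * g) * t * (k * g)⁻¹ = t * L z0 := by
    calc (k * g) * t * (k * g)⁻¹ = k * (g * t * g⁻¹) * k⁻¹ := by group
      _ = k * (t * L z0) * k⁻¹ := by rw [hg]
      _ = t * L z0 := by rw [hkk]; group
  have h5 : (k * g) * t * (k * g)⁻¹ = t := by rw [h3]; group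
  rw [h5] at h4
  exact h.z_ne_one (by simpa using h4.symm)

theorem not_t_z' : ¬ IsConj t (L z0) := by
  rw [isConj_iff]
  exact h.not_t_z

omit h in
theorem conj_L (π ρ : P4) : L ρ * L π * (L ρ)⁻¹ = L (ρ * π * ρ⁻¹) := by simp

theorem conj_tL (π ρ : P4) : L ρ * (t * L π) * (L ρ)⁻¹ = t * L (ρ * π * ρ⁻¹) := by
  calc L ρ * (t * L π) * (L ρ)⁻¹ = (L ρ * t) * L π * (L ρ)⁻¹ := by group
    _ = t * (L ρ * L π * (L ρ)⁻¹) := by rw [h.comm]; group
    _ = t * L (ρ * π * ρ⁻¹) := by rw [conj_L]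

theorem inV_conj_L {π : P4} (hπ : inV π) : IsConj (L z0) (L π) := by
  obtain ⟨ρ, hρ⟩ := inV_conj π hπ
  rw [isConj_iff]
  exact ⟨L ρ, by rw [conj_L, hρ]⟩

theorem inV_conj_tL {π : P4} (hπ : inV π) : IsConj (t * L z0) (t * L π) := by
  obtain ⟨ρ, hρ⟩ := inV_conj π hπ
  rw [isConj_iff]
  exact ⟨L ρ, by rw [h.conj_tL, hρ]⟩

/-- The involutions of `C(t)`. -/
theorem inv_cases_C {y : G} (hy : y * t = t * y) (hy2 : y * y = 1) :
    y = 1 ∨ y = t ∨ (∃ π, inV π ∧ y = L π) ∨ (∃ π, inV π ∧ y = t * L π) ∨ IsConj (L u0) y ∨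
      IsConj (t * L u0) y := by
  obtain ⟨π, h1⟩ := h.cover y hy
  have hπ : π ^ 2 = 1 := by
    apply h.L_eq_one
    rw [pow_two, map_mul]
    rcases h1 with rfl | rfl
    · exact hy2
    · have h2 : t * L π * (t * L π) = L π * L π := by
        rw [mul_assoc, h.comm', h.tt']
      rwa [h2] at hy2
  rcases inv_cases π hπ with rfl | h2 | ⟨ρ, rfl⟩
  · rcases h1 with rfl | rfl
    · left; exact map_one L
    · right; left; rw [map_one, mul_one]
  · rcases h1 with h1 | h1
    · right; right; left; exact ⟨π, h2, h1⟩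
    · right; right; right; left; exact ⟨π, h2, h1⟩
  · rcases h1 with rfl | rfl
    · right; right; right; right; left
      rw [isConj_iff]
      exact ⟨L ρ, conj_L _ _⟩
    · right; right; right; right; right
      rw [isConj_iff]
      exact ⟨L ρ, h.conj_tL _ _⟩

/-- Transpositions and their products with `t` are not both conjugate to `t`. -/
theorem not_both [Finite G] (h1 : IsConj t (L u0)) (h2 : IsConj t (t * L u0)) : False := by
  have nA := h.not_t_z'
  have nB := h.not_z_tz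
  have nC := h.not_t_tz
  obtain ⟨g, hg⟩ := isConj_iff.1 h1
  have hzu : L z0 * L u0 = L u0 * L z0 := by rw [← map_mul, ← map_mul, u0_z0]
  have ht' : t = g⁻¹ * L u0 * g := by rw [← hg]; group
  set y := g⁻¹ * L z0 * g with hy
  set y' := g⁻¹ * (t * L z0) * g with hy'
  have cy : IsConj (L z0) y := isConj_iff.2 ⟨g⁻¹, by rw [hy]; group⟩
  have cy' : IsConj (t * L z0) y' := isConj_iff.2 ⟨g⁻¹, by rw [hy']; group⟩
  have hg' : g⁻¹ * L u0 * g = t := ht'.symm
  have hyt : y * t = t * y := by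
    calc y * t = y * (g⁻¹ * L u0 * g) := by rw [hg']
      _ = g⁻¹ * (L z0 * L u0) * g := by rw [hy]; group
      _ = g⁻¹ * (L u0 * L z0) * g := by rw [hzu]
      _ = (g⁻¹ * L u0 * g) * y := by rw [hy]; group
      _ = t * y := by rw [hg']
  have hyt' : y' * t = t * y' := by
    have e : t * L z0 * L u0 = L u0 * (t * L z0) := by
      rw [mul_assoc, hzu, ← mul_assoc, ← mul_assoc, h.comm]
    calc y' * t = y' * (g⁻¹ * L u0 * g) := by rw [hg']
      _ = g⁻¹ * (t * L z0 * L u0) * g := by rw [hy']; group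
      _ = g⁻¹ * (L u0 * (t * L z0)) * g := by rw [e]
      _ = (g⁻¹ * L u0 * g) * y' := by rw [hy']; group
      _ = t * y' := by rw [hg']
  have hzz := h.hzz
  have hyy : y * y = 1 := by
    rw [hy]
    calc g⁻¹ * L z0 * g * (g⁻¹ * L z0 * g) = g⁻¹ * (L z0 * L z0) * g := by group
      _ = 1 := by rw [hzz]; group
  have htz2 : t * L z0 * (t * L z0) = 1 := by
    rw [mul_assoc, h.comm', h.tt', hzz]
  have hyy' : y' * y' = 1 := by
    rw [hy']
    calc g⁻¹ * (t * L z0) * g * (g⁻¹ * (t * L z0) * g) = g⁻¹ * (t * L z0 * (t * L z0)) * g := by group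
      _ = 1 := by rw [htz2]; group
  have hy1 : y ≠ 1 := by
    intro h3
    apply h.z_ne_one
    calc L z0 = g * y * g⁻¹ := by rw [hy]; group
      _ = 1 := by rw [h3]; group
  have hy1' : y' ≠ 1 := by
    intro h3
    apply h.tz_ne_one
    calc t * L z0 = g * y' * g⁻¹ := by rw [hy']; group
      _ = 1 := by rw [h3]; group
  -- the shape of `y`
  obtain ⟨π₁, hπ₁, hy1e⟩ : ∃ π, inV π ∧ y = L π := by
    rcases h.inv_cases_C hyt hyy with h3 | h3 | h3 | ⟨π, h3, h4⟩ | h3 | h3
    · exact absurd h3 hy1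
    · exfalso; rw [h3] at cy; exact nA cy.symm
    · exact h3
    · exfalso; rw [h4] at cy; exact nB (cy.trans (h.inV_conj_tL h3).symm)
    · exfalso; exact nA ((h1.trans h3).trans cy.symm)
    · exfalso; exact nA ((h2.trans h3).trans cy.symm)
  obtain ⟨π₂, hπ₂, hy2e⟩ : ∃ π, inV π ∧ y' = t * L π := by
    rcases h.inv_cases_C hyt' hyy' with h3 | h3 | ⟨π, h3, h4⟩ | h3 | h3 | h3
    · exact absurd h3 hy1'
    · exfalso; rw [h3] at cy'; exact nC cy'.symm
    · exfalso; rw [h4] at cy'; exact nB ((h.inV_conj_L h3).trans cy'.symm)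
    · exact h3
    · exfalso; exact nC ((h1.trans h3).trans cy'.symm)
    · exfalso; exact nC ((h2.trans h3).trans cy'.symm)
  have hprod : y * y' = g⁻¹ * t * g := by
    rw [hy, hy']
    have e : L z0 * (t * L z0) = t := by
      rw [← mul_assoc, h.comm, mul_assoc, hzz, mul_one]
    calc g⁻¹ * L z0 * g * (g⁻¹ * (t * L z0) * g) = g⁻¹ * (L z0 * (t * L z0)) * g := by group
      _ = g⁻¹ * t * g := by rw [e]
  have hprod2 : g⁻¹ * t * g = t * L (π₁ * π₂) := by
    rw [← hprod, hy1e, hy2e, map_mul, ← mul_assoc, h.comm, mul_assoc]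
  have cx : IsConj t (g⁻¹ * t * g) := isConj_iff.2 ⟨g⁻¹, by group⟩
  rcases inV_mul π₁ π₂ hπ₁ hπ₂ with h3 | h3
  · rw [h3, map_one, mul_one] at hprod2
    apply h.hne u0
    rw [← hg]
    calc g * t * g⁻¹ = g * (g⁻¹ * t * g) * g⁻¹ := by rw [hprod2]
      _ = t := by group
  · rw [hprod2] at cx
    exact nC (cx.trans (h.inV_conj_tL h3).symm)

/-- Transfer. -/
theorem exists_H_of [Finite G] (hτ : ¬ IsConj t (L u0)) : ∃ H : Subgroup G, H.index = 2 ∧ t ∉ H := by
  obtain ⟨k, hk, hcard⟩ := h.hodd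
  set M : Subgroup G := (centralizer ({z0} : Set P4)).map L with hM
  have hc8 : Nat.card (centralizer ({z0} : Set P4)) = 8 := by
    have h1 : Fintype.card {π : P4 // π * z0 = z0 * π} = 8 := by decide +kernel
    rw [← h1, ← Nat.card_eq_fintype_card]
    exact Nat.card_congr (Equiv.subtypeEquivRight (fun _ => mem_centralizer_singleton_iff))
  have hMc : Nat.card M = 8 := by
    rw [hM, Subgroup.card_map_of_injective h.inj, hc8]
  have hidx : M.index * 8 = Nat.card G := by
    rw [← hMc, mul_comm]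
    exact Subgroup.card_mul_index M
  have hidx2 : M.index = 2 * k := by omega
  have ht2 : t ^ 2 = 1 := by rw [pow_two]; exact h.tt
  refine Cfsg.Agent.Lib.D8Index.exists_index_two M k hk hidx2 t ht2 ?_
  rintro g ⟨π, -, hπ⟩
  have hπe : L π = g⁻¹ * t * g := hπ
  have hcj : IsConj t (L π) := isConj_iff.2 ⟨g⁻¹, by rw [hπe]; group⟩
  have hπ2 : π ^ 2 = 1 := by
    apply h.L_eq_one
    rw [pow_two, map_mul, hπe]
    calc g⁻¹ * t * g * (g⁻¹ * t * g) = g⁻¹ * (t * t) * g := by group
      _ = 1 := by rw [h.tt]; group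
  rcases inv_cases π hπ2 with rfl | h2 | ⟨ρ, rfl⟩
  · apply h.ht1
    rw [map_one] at hπe
    calc t = g * (g⁻¹ * t * g) * g⁻¹ := by group
      _ = 1 := by rw [← hπe]; group
  · exact h.not_t_z' (hcj.trans (h.inV_conj_L h2).symm)
  · apply hτ
    refine hcj.trans (IsConj.symm ?_)
    rw [isConj_iff]
    exact ⟨L ρ, conj_L _ _⟩

/-- All the complement lies in `H`. -/
theorem all_mem {H : Subgroup G} (hH : H.index = 2) (hu : L u0 ∈ H) (π : P4) : L π ∈ H := by
  have hn := Subgroup.normal_of_index_eq_two hH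
  have hsq : ∀ x : G, x ^ 2 ∈ H := by
    intro x
    have := Subgroup.pow_index_mem H x
    rwa [hH] at this
  have hev : ∀ ρ : P4, Perm.sign ρ = 1 → L ρ ∈ H := by
    intro ρ hρ
    obtain ⟨a, b, rfl⟩ := even_squares ρ hρ
    rw [map_mul, map_pow, map_pow]
    exact H.mul_mem (hsq _) (hsq _)
  rcases Int.units_eq_one_or (Perm.sign π) with h1 | h1
  · exact hev π h1
  · have h2 : Perm.sign (u0⁻¹ * π) = 1 := by
      rw [map_mul, map_inv, sign_u0, h1]; decide
    have h3 := H.mul_mem hu (hev _ h2)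
    rw [← map_mul] at h3
    simpa using h3

/-- A normalized parametrization with a subgroup of index two. -/
theorem exists_norm [Finite G] : ∃ L' : P4 →* G, Par t L' ∧ ∃ H : Subgroup G, H.index = 2 ∧ t ∉ H ∧ ∀ π, L' π ∈ H := by
  have key : ∃ L₁ : P4 →* G, Par t L₁ ∧ ∃ H : Subgroup G, H.index = 2 ∧ t ∉ H := by
    by_cases hτ : IsConj t (L u0)
    · have hp := h.twist_par
      refine ⟨_, hp, hp.exists_H_of ?_⟩
      rw [twist_apply_odd sign_u0]
      exact fun h2 => h.not_both hτ h2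
    · exact ⟨L, h, h.exists_H_of hτ⟩
  obtain ⟨L₁, h₁, H, hH, htH⟩ := key
  by_cases hu : L₁ u0 ∈ H
  · exact ⟨L₁, h₁, H, hH, htH, h₁.all_mem hH hu⟩
  · have hp := h₁.twist_par
    refine ⟨_, hp, H, hH, htH, hp.all_mem hH ?_⟩
    rw [twist_apply_odd sign_u0, Subgroup.mul_mem_iff_of_index_two hH]
    exact iff_of_false htH hu

end Par

end

end Cfsg.Agent.Lib.C2S4Par
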