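import Mathlib
import Cfsg.Agent.Lib.C2S4Par
import Cfsg.Agent.Lib.C2S4A6
import Cfsg.Agent.Lib.ZStar
import Cfsg.Agent.Lib.BSWGroup
import Cfsg.Agent.Lib.PCore

/-!
# Involutions with centralizer `Z₂ × S₄`: the main argument
-/

set_option autoImplicit false
set_option linter.unusedVariables false
set_option linter.unusedSectionVars false
set_option linter.unusedSimpArgs false
set_option maxRecDepth 10000

namespace Cfsg.Agent.Lib.C2S4Main

open Subgroup Equiv DihedralGroup Cfsg
open Cfsg.Agent.Lib.C2S4Par Cfsg.Agent.Lib.C2S4A6 Cfsg.Agent.Lib.D8CentGroup Cfsg.Agent.Lib.D8Fus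
  Cfsg.Agent.Lib.D8Simple Cfsg.Agent.Lib.D8A6Pres

/-- The generator of rotations. -/
def c1 : P4 := d1 * u0

/-- The dihedral group in `S₄`. -/
def dl : DihedralGroup 4 →* P4 where
  toFun x := match x with
    | r i => c1 ^ i.val
    | sr i => d1 * c1 ^ i.val
  map_one' := by decide +kernel
  map_mul' := by decide +kernel

theorem dl_inj : Function.Injective dl := by
  intro x y
  revert x y
  decide +kernel

theorem dl_surj : ∀ π : P4, π * z0 = z0 * π → ∃ w, dl w = π := by decide +kernel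

theorem dl_comm : ∀ w, dl w * z0 = z0 * dl w := by decide +kernel

theorem dl_sr0 : dl (sr 0) = d1 := by decide +kernel

theorem dl_sr1 : dl (sr 1) = u0 := by decide +kernel

/-- Extension of a morphism from a subgroup of index two. -/
theorem exists_ext {G X : Type*} [Group G] [Group X] {H : Subgroup G} (hH : H.index = 2) {t : G}
    (htH : t ∉ H) (htt : t * t = 1) (ψ : H →* X) (σ : X) (hσ : σ * σ = 1)
    (hcompat : ∀ (x : G) (hx : x ∈ H) (hy : t * x * t⁻¹ ∈ H),
      ψ ⟨t * x * t⁻¹, hy⟩ = σ * ψ ⟨x, hx⟩ * σ⁻¹) :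
    ∃ f : G →* X, (∀ x : H, f x = ψ x) ∧ ∀ x : H, f ((x : G) * t) = ψ x * σ := by
  classical
  have hn := Subgroup.normal_of_index_eq_two hH
  have hti : t⁻¹ = t := inv_eq_of_mul_eq_one_left htt
  have hσi : σ⁻¹ = σ := inv_eq_of_mul_eq_one_left hσ
  have hm : ∀ {g : G}, g ∉ H → g * t ∈ H := by
    intro g hg
    rw [Subgroup.mul_mem_iff_of_index_two hH]
    exact iff_of_false hg htH
  let f₀ : G → X := fun g => if hg : g ∈ H then ψ ⟨g, hg⟩ else ψ ⟨g * t, hm hg⟩ * σ
  have f₀_in : ∀ {g : G} (hg : g ∈ H), f₀ g = ψ ⟨g, hg⟩ := fun {g} hg => dif_pos hg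
  have f₀_out : ∀ {g : G} (hg : g ∉ H), f₀ g = ψ ⟨g * t, hm hg⟩ * σ := fun {g} hg => dif_neg hg
  have hmul : ∀ g₁ g₂, f₀ (g₁ * g₂) = f₀ g₁ * f₀ g₂ := by
    intro g₁ g₂
    by_cases h1 : g₁ ∈ H <;> by_cases h2 : g₂ ∈ H
    · rw [f₀_in h1, f₀_in h2, f₀_in (H.mul_mem h1 h2), ← map_mul]
      rfl
    · have h3 : g₁ * g₂ ∉ H := fun h => h2 ((Subgroup.mul_mem_cancel_left H h1).1 h)
      rw [f₀_in h1, f₀_out h2, f₀_out h3, ← mul_assoc, ← map_mul]
      congr 2
      apply Subtype.ext
      show g₁ * g₂ * t = g₁ * (g₂ * t)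
      rw [mul_assoc]
    · have h3 : g₁ * g₂ ∉ H := fun h => h1 ((Subgroup.mul_mem_cancel_right H h2).1 h)
      have hy : t * g₂ * t⁻¹ ∈ H := hn.conj_mem g₂ h2 t
      rw [f₀_out h1, f₀_in h2, f₀_out h3]
      have h4 := hcompat g₂ h2 hy
      have h5 : (⟨g₁ * g₂ * t, hm h3⟩ : H) = ⟨g₁ * t, hm h1⟩ * ⟨t * g₂ * t⁻¹, hy⟩ := by
        apply Subtype.ext
        show g₁ * g₂ * t = g₁ * t * (t * g₂ * t⁻¹)
        rw [hti]
        calc g₁ * g₂ * t = g₁ * (t * t) * g₂ * t := by rw [htt, mul_one]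
          _ = _ := by simp only [mul_assoc]
      rw [h5, map_mul, h4, hσi]
      simp only [mul_assoc, hσ, mul_one]
    · have h3 : g₁ * g₂ ∈ H := by
        rw [Subgroup.mul_mem_iff_of_index_two hH]
        exact iff_of_false h1 h2
      have hy : t * (g₂ * t) * t⁻¹ ∈ H := hn.conj_mem _ (hm h2) t
      rw [f₀_out h1, f₀_out h2, f₀_in h3]
      have h4 := hcompat (g₂ * t) (hm h2) hy
      have h5 : (⟨g₁ * g₂, h3⟩ : H) = ⟨g₁ * t, hm h1⟩ * ⟨t * (g₂ * t) * t⁻¹, hy⟩ := by
        apply Subtype.ext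
        show g₁ * g₂ = g₁ * t * (t * (g₂ * t) * t⁻¹)
        rw [hti]
        calc g₁ * g₂ = g₁ * (t * t) * g₂ * (t * t) := by rw [htt, mul_one, mul_one]
          _ = _ := by simp only [mul_assoc]
      rw [h5, map_mul, h4, hσi]
      simp only [mul_assoc]
  refine ⟨MonoidHom.mk' f₀ hmul, ?_, ?_⟩
  · intro x
    show f₀ x = ψ x
    rw [f₀_in x.2]
  · intro x
    show f₀ ((x : G) * t) = ψ x * σ
    have h3 : (x : G) * t ∉ H := fun h => htH ((Subgroup.mul_mem_cancel_left H x.2).1 h)
    rw [f₀_out h3]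
    congr 2
    apply Subtype.ext
    show (x : G) * t * t = x
    rw [mul_assoc, htt, mul_one]

/-- A pure computation for the action on `d`. -/
theorem delta_false {X : Type*} [Group X] {a b z d d' : X} (haa : a * a = 1) (hbb : b * b = 1)
    (hzz : z * z = 1) (hbz : b * z = z * b) (haz : a * z = z * a) (hab : a * b * a = b * z)
    (h1 : d * z * d⁻¹ = b) (h2 : d * b * d⁻¹ = b * z) (had : a * d * a * d = 1)
    (had' : a * d' * a * d' = 1) (hb1 : b ≠ 1) (hδ : d⁻¹ * d' = z ∨ d⁻¹ * d' = b * z) : False := by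
  have hd' : ∀ {y : X}, d⁻¹ * d' = y → d' = d * y := by
    intro y hy
    rw [← hy]; group
  have hada : a * d * a = d⁻¹ := by
    apply eq_inv_of_mul_eq_one_left
    exact had
  have ha1 : a⁻¹ = a := inv_eq_of_mul_eq_one_left haa
  have hdbd : d⁻¹ * b * d = z := by rw [← h1]; group
  have hdbzd : d⁻¹ * (b * z) * d = b := by rw [← h2]; group
  have hdzd : d⁻¹ * z * d = b * z := by
    calc d⁻¹ * z * d = d⁻¹ * (b * (b * z)) * d := by rw [← mul_assoc b b z, hbb, one_mul]
      _ = (d⁻¹ * b * d) * (d⁻¹ * (b * z) * d) := by group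
      _ = z * b := by rw [hdbd, hdbzd]
      _ = b * z := hbz.symm
  apply hb1
  rcases hδ with h | h
  · have h3 := hd' h
    rw [h3] at had'
    -- `(a d z a) (d z) = d⁻¹ (a z a) d z`
    have h4 : a * z * a = z := by rw [haz, mul_assoc, haa, mul_one]
    calc b = b * z * z := by rw [mul_assoc, hzz, mul_one]
      _ = d⁻¹ * z * d * z := by rw [hdzd]
      _ = (a * d * a) * (a * z * a) * d * z := by rw [hada, h4]
      _ = a * d * (a * a) * z * a * d * z := by group
      _ = a * (d * z) * a * (d * z) := by rw [haa, mul_one]; group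
      _ = 1 := had'
  · have h3 := hd' h
    rw [h3] at had'
    have h4 : a * (b * z) * a = b := by
      calc a * (b * z) * a = (a * b * a) * (a * z * a) := by
            simp only [mul_assoc]; rw [← mul_assoc a a, haa, one_mul]
        _ = b * z * (a * z * a) := by rw [hab]
        _ = b * z * z := by rw [haz, mul_assoc z, haa, mul_one]
        _ = b := by rw [mul_assoc, hzz, mul_one]
    calc b = z * b * z := by rw [← hbz, mul_assoc, hzz, mul_one]
      _ = (d⁻¹ * b * d) * (b * z) := by rw [hdbd, mul_assoc]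
      _ = (a * d * a) * (a * (b * z) * a) * d * (b * z) := by rw [hada, h4]
      _ = a * d * (a * a) * (b * z) * a * d * (b * z) := by group
      _ = a * (d * (b * z)) * a * (d * (b * z)) := by rw [haa, mul_one]; group
      _ = 1 := had'

section

variable {G : Type*} [Group G] [Finite G] {t : G} {L : P4 →* G} (h : Par t L) (H : Subgroup G)
  (hH : H.index = 2) (htH : t ∉ H) (hLH : ∀ π, L π ∈ H)

/-- The element `z` of `H`. -/
def zH : H := ⟨L z0, hLH z0⟩

/-- The morphism to the centralizer. -/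
def fH : DihedralGroup 4 →* centralizer ({zH H hLH} : Set H) where
  toFun w := ⟨⟨L (dl w), hLH _⟩, by
    rw [mem_centralizer_singleton_iff]
    apply Subtype.ext
    show L (dl w) * L z0 = L z0 * L (dl w)
    rw [← map_mul, ← map_mul, dl_comm]⟩
  map_one' := by
    apply Subtype.ext
    apply Subtype.ext
    show L (dl 1) = 1
    simp
  map_mul' := by
    intro x y
    apply Subtype.ext
    apply Subtype.ext
    show L (dl (x * y)) = L (dl x) * L (dl y)
    simp

include h htH in
theorem fH_bij : Function.Bijective (fH H hLH) := by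
  constructor
  · intro x y hxy
    have h1 : L (dl x) = L (dl y) := congrArg (fun p : centralizer ({zH H hLH} : Set H) => ((p : H) : G)) hxy
    exact dl_inj (h.inj h1)
  · rintro ⟨x, hx⟩
    rw [mem_centralizer_singleton_iff] at hx
    have h1 : (x : G) * L z0 = L z0 * x := congrArg Subtype.val hx
    obtain ⟨π, h0, h2⟩ := (h.hz x).1 h1
    have h3 : (x : G) = L π := by
      rcases h2 with h2 | h2
      · exact h2
      · exfalso
        apply htH
        have h4 := H.mul_mem x.2 (H.inv_mem (hLH π))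
        rw [h2] at h4
        simpa using h4
    obtain ⟨w, rfl⟩ := dl_surj π h0
    exact ⟨w, Subtype.ext (Subtype.ext h3.symm)⟩

/-- The isomorphism with the dihedral group. -/
noncomputable def eH : centralizer ({zH H hLH} : Set H) ≃* DihedralGroup 4 :=
  (MulEquiv.ofBijective (fH H hLH) (fH_bij h H htH hLH)).symm

theorem coe_inG (w : DihedralGroup 4) : ((inG (eH h H htH hLH) w : H) : G) = L (dl w) := rfl

theorem coe_aa : ((aa (eH h H htH hLH) : H) : G) = L d1 := by
  show L (dl (sr 0)) = L d1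
  rw [dl_sr0]

theorem coe_bb : ((bb (eH h H htH hLH) : H) : G) = L u0 := by
  show L (dl (sr 1)) = L u0
  rw [dl_sr1]

include h in
theorem order_zH : orderOf (zH H hLH) = 2 := by
  have : Fact (Nat.Prime 2) := ⟨Nat.prime_two⟩
  apply orderOf_eq_prime
  · rw [pow_two]
    apply Subtype.ext
    exact h.hzz
  · intro h1
    exact h.z_ne_one (congrArg Subtype.val h1)

include h in
theorem fus_a : ∃ g, g * zH H hLH * g⁻¹ = aa (eH h H htH hLH) := by
  refine ⟨⟨L r0, hLH _⟩, ?_⟩
  apply Subtype.ext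
  rw [coe_aa]
  show L r0 * L z0 * (L r0)⁻¹ = L d1
  rw [Par.conj_L, r0_z0]

/-- The possible orders of `H`. -/
theorem card_cases : Nat.card H = 24 ∨ Nat.card H = 120 ∨ Nat.card H = 168 ∨
    (Nat.card H = 360 ∧ ∃ g, g * zH H hLH * g⁻¹ = bb (eH h H htH hLH)) := by
  have hz := order_zH h H hLH
  have hfa := fus_a h H htH hLH
  by_cases hfb : ∃ g, g * zH H hLH * g⁻¹ = bb (eH h H htH hLH)
  · rcases card_eq (eH h H htH hLH) hz hfa hfb with h1 | h1
    · right; right; left; exact h1
    · right; right; right; exact ⟨h1, hfb⟩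
  · rcases Cfsg.Agent.Lib.D8OneFused.main (eH h H htH hLH) hz hfa hfb with hi | hi
    · obtain ⟨i⟩ := hi
      left
      rw [Nat.card_congr i.toEquiv, Nat.card_eq_fintype_card, Fintype.card_perm, Fintype.card_fin]
      rfl
    · obtain ⟨i⟩ := hi
      right; left
      rw [Nat.card_congr i.toEquiv, Nat.card_eq_fintype_card, Fintype.card_perm, Fintype.card_fin]
      rfl

include h htH hLH in
omit [Finite G] in
/-- The elements of `C(t)` in `H`. -/
theorem mem_of_comm {x : G} (hx : x * t = t * x) (hxH : x ∈ H) : ∃ π, x = L π := by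
  obtain ⟨π, h1⟩ := h.cover x hx
  refine ⟨π, ?_⟩
  rcases h1 with h1 | h1
  · exact h1
  · exfalso
    apply htH
    have h4 := H.mul_mem hxH (H.inv_mem (hLH π))
    rw [h1] at h4
    simpa using h4

end

section oddcore

variable {G : Type*} [Group G] [Finite G] {t : G} {L : P4 →* G} (h : Par t L)

include h

/-- The odd core is trivial. -/
theorem odd_core_bot : oddCore G = ⊥ := by
  have hK : (oddCore G).Normal := inferInstance
  have hodd : Odd (Nat.card (oddCore G)) :=
    Nat.coprime_two_right.1 (Cfsg.Agent.Lib.PCore.card_pPrimeCore_coprime 2)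
  -- no nontrivial element centralizes `z`
  have h1 : ∀ a ∈ oddCore G, a * L z0 = L z0 * a → a = 1 := by
    intro a ha h2
    have h3 : a ^ 4 = 1 := h.pow_four h2
    have h4 : orderOf a ∣ 4 := orderOf_dvd_of_pow_eq_one h3
    have h5 : orderOf a ∣ Nat.card (oddCore G) := Subgroup.orderOf_dvd_natCard _ ha
    have h6 : Odd (orderOf a) := Odd.of_dvd_nat hodd h5
    have h7 : orderOf a ≤ 4 := Nat.le_of_dvd (by norm_num) h4
    have h8 : orderOf a = 1 := by
      have h9 := orderOf_pos a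
      obtain ⟨q, hq⟩ := h6
      rw [hq] at h4 h7 ⊢
      have : q = 0 ∨ q = 1 := by omega
      rcases this with rfl | rfl
      · rfl
      · exact absurd h4 (by norm_num)
    exact orderOf_eq_one_iff.1 h8
  -- the same for the conjugates
  have h2 : ∀ ρ : P4, ∀ a ∈ oddCore G, (L ρ * L z0 * (L ρ)⁻¹) * a * (L ρ * L z0 * (L ρ)⁻¹)⁻¹ = a → a = 1 := by
    intro ρ a ha h3
    have h4 : (L ρ)⁻¹ * a * L ρ ∈ oddCore G := by
      have := hK.conj_mem a ha (L ρ)⁻¹
      simpa using this
    have h5 : ((L ρ)⁻¹ * a * L ρ) * L z0 = L z0 * ((L ρ)⁻¹ * a * L ρ) := by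
      have h6 : a * (L ρ * L z0 * (L ρ)⁻¹) = (L ρ * L z0 * (L ρ)⁻¹) * a := by
        calc a * (L ρ * L z0 * (L ρ)⁻¹)
            = ((L ρ * L z0 * (L ρ)⁻¹) * a * (L ρ * L z0 * (L ρ)⁻¹)⁻¹) * (L ρ * L z0 * (L ρ)⁻¹) := by rw [h3]
          _ = (L ρ * L z0 * (L ρ)⁻¹) * a := by group
      calc ((L ρ)⁻¹ * a * L ρ) * L z0 = (L ρ)⁻¹ * (a * (L ρ * L z0 * (L ρ)⁻¹)) * L ρ := by group
        _ = (L ρ)⁻¹ * ((L ρ * L z0 * (L ρ)⁻¹) * a) * L ρ := by rw [h6]
        _ = L z0 * ((L ρ)⁻¹ * a * L ρ) := by group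
    have h7 := h1 _ h4 h5
    calc a = L ρ * ((L ρ)⁻¹ * a * L ρ) * (L ρ)⁻¹ := by group
      _ = 1 := by rw [h7]; group
  -- the elements `z`, `d₁` invert, so `d₂ = z d₁` centralizes
  rw [eq_bot_iff]
  intro a ha
  rw [Subgroup.mem_bot]
  obtain ⟨ρ₁, hρ₁⟩ := inV_conj d1 (Or.inr (Or.inl rfl))
  obtain ⟨ρ₂, hρ₂⟩ := inV_conj d2 (Or.inr (Or.inr rfl))
  have hL1 : L ρ₁ * L z0 * (L ρ₁)⁻¹ = L d1 := by rw [Par.conj_L, hρ₁]
  have hL2 : L ρ₂ * L z0 * (L ρ₂)⁻¹ = L d2 := by rw [Par.conj_L, hρ₂]
  have hzz := h.hzz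
  have hdd : L d1 * L d1 = 1 := by
    rw [← map_mul]
    have : d1 * d1 = 1 := by decide +kernel
    rw [this, map_one]
  have hinv_z : L z0 * a * (L z0)⁻¹ = a⁻¹ :=
    Cfsg.Agent.Lib.BSW.fpf_inverts (oddCore G) hzz (fun b hb => hK.conj_mem b hb _)
      (fun b hb h3 => h1 b hb (by
        calc b * L z0 = (L z0 * b * (L z0)⁻¹) * L z0 := by rw [h3]
          _ = L z0 * b := by group)) a ha
  have hinv_d : L d1 * a * (L d1)⁻¹ = a⁻¹ :=
    Cfsg.Agent.Lib.BSW.fpf_inverts (oddCore G) hdd (fun b hb => hK.conj_mem b hb _)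
      (fun b hb h3 => h2 ρ₁ b hb (by rw [hL1]; exact h3)) a ha
  have h3 : L d2 * a * (L d2)⁻¹ = a := by
    have e : L d2 = L d1 * L z0 := by rw [← map_mul, d1_z0]
    rw [e]
    calc L d1 * L z0 * a * (L d1 * L z0)⁻¹ = L d1 * (L z0 * a * (L z0)⁻¹) * (L d1)⁻¹ := by group
      _ = (L d1 * a * (L d1)⁻¹)⁻¹ := by rw [hinv_z]; group
      _ = a := by rw [hinv_d]; group
  exact h2 ρ₂ a ha (by rw [hL2]; exact h3)

end oddcore

section iso

variable {G : Type*} [Group G] [Finite G] {t : G} {L : P4 →* G} (h : Par t L) (H : Subgroup G)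
  (hH : H.index = 2) (htH : t ∉ H) (hLH : ∀ π, L π ∈ H)

/-- Conjugates of `t` inject into the cosets of `C(t)`. -/
theorem card_le_index (A : Finset G) (hA : ∀ y ∈ A, IsConj t y) :
    A.card ≤ (centralizer ({t} : Set G)).index := by
  classical
  have hA' : ∀ y : A, ∃ g : G, g * t * g⁻¹ = y := fun y => isConj_iff.1 (hA y y.2)
  choose g hg using hA'
  let f : A → G ⧸ centralizer ({t} : Set G) := fun y => QuotientGroup.mk (g y)
  have hf : Function.Injective f := by
    intro y y' hyy
    have h1 : (g y)⁻¹ * g y' ∈ centralizer ({t} : Set G) := QuotientGroup.eq.1 hyy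
    rw [mem_centralizer_singleton_iff] at h1
    apply Subtype.ext
    rw [← hg y, ← hg y']
    calc g y * t * (g y)⁻¹ = g y * (t * ((g y)⁻¹ * g y')) * (g y')⁻¹ := by group
      _ = g y * ((g y)⁻¹ * g y' * t) * (g y')⁻¹ := by rw [h1]
      _ = g y' * t * (g y')⁻¹ := by group
  have h2 := Nat.card_le_card_of_injective f hf
  rwa [Nat.card_eq_fintype_card, Fintype.card_coe] at h2

include h hH htH hLH

/-- If the index of `C(t)` is small, `t` commutes with no other conjugate. -/
theorem isolated (hidx : (centralizer ({t} : Set G)).index ≤ 7) : IsIsolatedInvolution t := by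
  classical
  have hn := Subgroup.normal_of_index_eq_two hH
  have hf2 : Fact (Nat.Prime 2) := ⟨Nat.prime_two⟩
  refine ⟨orderOf_eq_prime (by rw [pow_two]; exact h.tt) h.ht1, ?_⟩
  intro g hg
  by_contra hne
  set y := g * t * g⁻¹ with hy
  have hyt : y * t = t * y := hg.eq.symm
  have hyH : y ∉ H := by
    intro h3
    apply htH
    have h4 := hn.conj_mem y h3 g⁻¹
    have e1 : g⁻¹ * y * g⁻¹⁻¹ = t := by rw [hy]; group
    rwa [e1] at h4
  obtain ⟨π, h1⟩ := h.cover y hyt
  have h2 : y = t * L π := by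
    rcases h1 with h1 | h1
    · exact absurd (h1 ▸ hLH π) hyH
    · exact h1
  have hyy : y * y = 1 := by
    rw [hy]
    calc g * t * g⁻¹ * (g * t * g⁻¹) = g * (t * t) * g⁻¹ := by group
      _ = 1 := by rw [h.tt]; group
  have hπ : π ^ 2 = 1 := by
    apply h.L_eq_one
    rw [pow_two, map_mul]
    rw [h2, mul_assoc, h.comm', h.tt'] at hyy
    exact hyy
  have hcy : IsConj t y := isConj_iff.2 ⟨g, rfl⟩
  rcases inv_cases π hπ with rfl | h3 | ⟨ρ, rfl⟩
  · rw [map_one, mul_one] at h2
    exact hne h2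
  · rw [h2] at hcy
    exact h.not_t_tz (hcy.trans (h.inV_conj_tL h3).symm)
  · have hc : IsConj t (t * L u0) := by
      refine hcy.trans (IsConj.symm ?_)
      rw [h2, isConj_iff]
      exact ⟨L ρ, h.conj_tL _ _⟩
    have hall : ∀ π, (∃ ρ, ρ * u0 * ρ⁻¹ = π) → IsConj t (t * L π) := by
      rintro π ⟨ρ', rfl⟩
      refine hc.trans ?_
      rw [isConj_iff]
      exact ⟨L ρ', h.conj_tL _ _⟩
    let B : Finset G := (Finset.univ.filter (fun π : P4 => ∃ ρ : P4, ρ * u0 * ρ⁻¹ = π)).image (fun π => t * L π)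
    have hB : B.card = 6 := by
      rw [Finset.card_image_of_injective, card_u0_class]
      intro π₁ π₂ h5
      exact h.inj (mul_left_cancel h5)
    have htB : t ∉ B := by
      intro h5
      obtain ⟨π', h6, h7⟩ := Finset.mem_image.1 h5
      have h8 : L π' = 1 := by simpa using h7
      have h9 := h.L_eq_one h8
      rw [h9] at h6
      have h10 := (Finset.mem_filter.1 h6).2
      revert h10
      decide +kernel
    have hA : (insert t B).card = 7 := by
      rw [Finset.card_insert_of_notMem htB, hB]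
    have hAc : ∀ y' ∈ insert t B, IsConj t y' := by
      intro y' hy'
      rcases Finset.mem_insert.1 hy' with rfl | hy'
      · exact IsConj.refl _
      · obtain ⟨π', h6, rfl⟩ := Finset.mem_image.1 hy'
        exact hall _ (Finset.mem_filter.1 h6).2
    have hin : ∀ y', IsConj t y' → y' ∈ insert t B := by
      intro y' hy'
      by_contra hno
      have h5 := card_le_index (insert y' (insert t B)) (by
        intro y'' hy''
        rcases Finset.mem_insert.1 hy'' with rfl | hy''
        · exact hy'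
        · exact hAc _ hy'')
      rw [Finset.card_insert_of_notMem hno, hA] at h5
      omega
    have hcomm : ∀ y', IsConj t y' → y' * t = t * y' := by
      intro y' hy'
      rcases Finset.mem_insert.1 (hin y' hy') with rfl | h5
      · rfl
      · obtain ⟨π', h6, rfl⟩ := Finset.mem_image.1 h5
        rw [mul_assoc, h.comm]
    obtain ⟨g₁, hg₁⟩ := isConj_iff.1 hc
    have hx₂ : IsConj t (t * L u2) := hall _ u2_mem_class
    have h5 := hcomm (g₁⁻¹ * (t * L u2) * g₁) (hx₂.trans (isConj_iff.2 ⟨g₁⁻¹, by group⟩))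
    have h6 : (t * L u2) * (t * L u0) = (t * L u0) * (t * L u2) := by
      rw [← hg₁]
      calc (t * L u2) * (g₁ * t * g₁⁻¹) = g₁ * ((g₁⁻¹ * (t * L u2) * g₁) * t) * g₁⁻¹ := by group
        _ = g₁ * (t * (g₁⁻¹ * (t * L u2) * g₁)) * g₁⁻¹ := by rw [h5]
        _ = (g₁ * t * g₁⁻¹) * (t * L u2) := by group
    apply u0u2
    apply h.inj
    rw [map_mul, map_mul]
    have h7 : L u2 * L u0 = L u0 * L u2 := by
      rw [mul_assoc, h.comm', h.tt', mul_assoc, h.comm', h.tt'] at h6
      exact h6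
    exact h7.symm

/-- If the index of `C(t)` is small, `t` is central. -/
theorem central_of_index (hidx : (centralizer ({t} : Set G)).index ≤ 7) :
    centralizer ({t} : Set G) = ⊤ := by
  have h1 := Cfsg.Agent.Lib.ZStar.zstar (isolated h H hH htH hLH hidx)
  have h2 := odd_core_bot h
  rw [eq_top_iff]
  intro g _
  have h3 := h1 g
  have h4 : g * t * g⁻¹ * t⁻¹ ∈ (⊥ : Subgroup G) := by
    rw [← h2]
    exact h3
  rw [Subgroup.mem_bot] at h4
  rw [mem_centralizer_singleton_iff]
  calc g * t = (g * t * g⁻¹ * t⁻¹) * (t * g) := by group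
    _ = t * g := by rw [h4, one_mul]

/-- The alternating case gives the symmetric group. -/
theorem iso_S6 (hcard : Nat.card H = 360)
    (hfb : ∃ g, g * zH H hLH * g⁻¹ = bb (eH h H htH hLH)) :
    Nonempty (G ≃* Perm (Fin 6)) := by
  classical
  have hz := order_zH h H hLH
  have hfa := fus_a h H htH hLH
  have ecoeA : ((aa (eH h H htH hLH) : H) : G) = L d1 := coe_aa h H htH hLH
  have ecoeB : ((bb (eH h H htH hLH) : H) : G) = L u0 := coe_bb h H htH hLH
  generalize eH h H htH hLH = e at hfa hfb ecoeA ecoeB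
  have hn : H.Normal := Subgroup.normal_of_index_eq_two hH
  obtain ⟨ψ⟩ := Cfsg.Agent.Lib.D8A6Main.iso_A6 e hz hfa hfb hcard
  obtain ⟨c, d, hrel, c3, c4, d3, d4, hgen, φ, ha, hb, hc, hd⟩ := exists_explicit e hz hfa hfb hcard ψ
  have ecoeZ : (((zH H hLH) : H) : G) = L z0 := rfl
  let α : H ≃* H := MulAut.conjNormal t
  have hα : ∀ x : H, ((α x : H) : G) = t * x * t⁻¹ := fun x => MulAut.conjNormal_apply t x
  have hαL : ∀ x : H, (x : G) * t = t * x → α x = x := by
    intro x hx
    apply Subtype.ext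
    rw [hα, ← hx]
    group
  have hαa : α (aa e) = aa e := hαL _ (by rw [ecoeA]; exact h.comm _)
  have hαb : α (bb e) = bb e := hαL _ (by rw [ecoeB]; exact h.comm _)
  have hαz : α (zH H hLH) = (zH H hLH) := hαL _ (by rw [ecoeZ]; exact h.comm _)
  have haa := aa_sq e hz
  have hbb := bb_sq e hz
  have htt := t_t hz
  have hta := t_aa e hz
  have htb := t_bb e hz
  -- the element `c` commutes with `t`
  have hαc : α c = c := by
    apply hαL
    set ρ : H := ⟨L r0, hLH _⟩ with hρ
    have h1 : ρ * (zH H hLH) * ρ⁻¹ = aa e := by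
      apply Subtype.ext
      rw [ecoeA]
      show L r0 * L z0 * (L r0)⁻¹ = L d1
      rw [Par.conj_L, r0_z0]
    have h2 : ρ * aa e * ρ⁻¹ = aa e * (zH H hLH) := by
      apply Subtype.ext
      show L r0 * ((aa e : H) : G) * (L r0)⁻¹ = ((aa e : H) : G) * L z0
      rw [ecoeA, Par.conj_L, r0_d1, map_mul]
    have hx1 : (ρ⁻¹ * c) * (zH H hLH) = (zH H hLH) * (ρ⁻¹ * c) := by
      have h3 : c * (zH H hLH) = aa e * c := by
        rw [← c3]; group
      have h4 : ρ⁻¹ * aa e = (zH H hLH) * ρ⁻¹ := by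
        rw [← h1]; group
      calc (ρ⁻¹ * c) * (zH H hLH) = ρ⁻¹ * (c * (zH H hLH)) := by group
        _ = ρ⁻¹ * (aa e * c) := by rw [h3]
        _ = (ρ⁻¹ * aa e) * c := by group
        _ = (zH H hLH) * ρ⁻¹ * c := by rw [h4]
        _ = (zH H hLH) * (ρ⁻¹ * c) := by group
    have hx2 : (ρ⁻¹ * c) * aa e = aa e * (ρ⁻¹ * c) := by
      have h3 : c * aa e = (aa e * (zH H hLH)) * c := by
        rw [← c4]; group
      have h4 : ρ⁻¹ * (aa e * (zH H hLH)) = aa e * ρ⁻¹ := by
        rw [← h2]; group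
      calc (ρ⁻¹ * c) * aa e = ρ⁻¹ * (c * aa e) := by group
        _ = ρ⁻¹ * ((aa e * (zH H hLH)) * c) := by rw [h3]
        _ = (ρ⁻¹ * (aa e * (zH H hLH))) * c := by group
        _ = aa e * ρ⁻¹ * c := by rw [h4]
        _ = aa e * (ρ⁻¹ * c) := by group
    have hx3 : (((ρ⁻¹ * c : H)) : G) * t = t * ((ρ⁻¹ * c : H) : G) := by
      rcases comm_t_aa e hz hx1 hx2 with h3 | h3 | h3 | h3 <;> rw [h3]
      · simp
      · rw [ecoeZ]; exact h.comm _
      · rw [ecoeA]; exact h.comm _
      · show ((aa e : H) : G) * L z0 * t = t * (((aa e : H) : G) * L z0)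
        rw [ecoeA, ← map_mul]
        exact h.comm _
    have hρt : (ρ : G) * t = t * ρ := h.comm _
    have h5 : (c : G) = (ρ : G) * ((ρ⁻¹ * c : H) : G) := by
      show (c : G) = (ρ : G) * (((ρ : G))⁻¹ * c)
      group
    rw [h5, mul_assoc, hx3, ← mul_assoc, hρt, mul_assoc]
  -- the action on `d`
  have hαd : α d = d ∨ α d = d * bb e := by
    set d' := α d with hd'
    have r1 : d' * (zH H hLH) * d'⁻¹ = bb e := by
      have := congrArg α d3
      simpa only [map_mul, map_inv, hαz, hαb] using this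
    have r2 : d' * bb e * d'⁻¹ = bb e * (zH H hLH) := by
      have := congrArg α d4
      simpa only [map_mul, map_inv, hαz, hαb] using this
    have r3 : aa e * d' * aa e * d' = 1 := by
      have := congrArg α hrel.had
      simpa only [map_mul, map_one, hαa] using this
    have hδ1 : (d⁻¹ * d') * (zH H hLH) = (zH H hLH) * (d⁻¹ * d') := by
      have h3 : d' * (zH H hLH) = bb e * d' := by rw [← r1]; group
      have h4 : d⁻¹ * bb e = (zH H hLH) * d⁻¹ := by rw [← d3]; group
      calc (d⁻¹ * d') * (zH H hLH) = d⁻¹ * (d' * (zH H hLH)) := by group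
        _ = d⁻¹ * (bb e * d') := by rw [h3]
        _ = (d⁻¹ * bb e) * d' := by group
        _ = (zH H hLH) * d⁻¹ * d' := by rw [h4]
        _ = (zH H hLH) * (d⁻¹ * d') := by group
    have hδ2 : (d⁻¹ * d') * aa (eS e) = aa (eS e) * (d⁻¹ * d') := by
      rw [aa_eS]
      have h3 : d' * bb e = (bb e * (zH H hLH)) * d' := by rw [← r2]; group
      have h4 : d⁻¹ * (bb e * (zH H hLH)) = bb e * d⁻¹ := by rw [← d4]; group
      calc (d⁻¹ * d') * bb e = d⁻¹ * (d' * bb e) := by group
        _ = d⁻¹ * ((bb e * (zH H hLH)) * d') := by rw [h3]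
        _ = (d⁻¹ * (bb e * (zH H hLH))) * d' := by group
        _ = bb e * d⁻¹ * d' := by rw [h4]
        _ = bb e * (d⁻¹ * d') := by group
    have key : ∀ {y : H}, d⁻¹ * d' = y → d' = d * y := by
      intro y hy
      rw [← hy]; group
    have hfalse := fun hh => delta_false (a := aa e) (b := bb e) (z := (zH H hLH)) (d := d) (d' := d') haa hbb htt
      htb.symm hta.symm (aa_bb_aa e hz) d3 d4 hrel.had r3 (bb_ne_one e hz) hh
    rcases comm_t_aa (eS e) hz hδ1 hδ2 with h3 | h3 | h3 | h3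
    · left
      rw [key h3, mul_one]
    · exact (hfalse (Or.inl h3)).elim
    · right
      rw [key h3, aa_eS]
    · rw [aa_eS] at h3
      exact (hfalse (Or.inr h3)).elim
  -- `t` does not centralize `H`
  have hαd' : α d = d * bb e := by
    rcases hαd with h3 | h3
    · exfalso
      have hall : ∀ x : H, α x = x := by
        have h4 : α.toMonoidHom = MonoidHom.id H := by
          apply MonoidHom.eq_of_eqOn_top
          rw [← hgen]
          apply MonoidHom.eqOn_closure
          intro x hx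
          simp only [Set.mem_insert_iff, Set.mem_singleton_iff] at hx
          rcases hx with rfl | rfl | rfl | rfl
          · exact hαa
          · exact hαb
          · exact hαc
          · exact h3
        intro x
        exact DFunLike.congr_fun h4 x
      have hsurj : Function.Surjective (fun π : P4 => (⟨L π, hLH π⟩ : H)) := by
        intro x
        have h5 : (x : G) * t = t * x := by
          have h6 : ((α x : H) : G) = x := by rw [hall]
          rw [hα] at h6
          calc (x : G) * t = (t * x * t⁻¹) * t := by rw [h6]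
            _ = t * x := by group
        obtain ⟨π, hπ⟩ := mem_of_comm h H htH hLH h5 x.2
        exact ⟨π, Subtype.ext hπ.symm⟩
      have h5 := Nat.card_le_card_of_surjective _ hsurj
      rw [hcard, Nat.card_eq_fintype_card, Fintype.card_perm, Fintype.card_fin] at h5
      exact absurd h5 (by decide)
    · exact h3
  -- the morphism
  let ψ₀ : H →* Perm (Fin 6) := (alternatingGroup (Fin 6)).subtype.comp φ.toMonoidHom
  let σ : Perm (Fin 6) := swap 4 5
  have hσ : σ * σ = 1 := by decide +kernel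
  have hσA : σ * pA * σ⁻¹ = pA := by decide +kernel
  have hσB : σ * pB * σ⁻¹ = pB := by decide +kernel
  have hσC : σ * pC * σ⁻¹ = pC := by decide +kernel
  have hσD : σ * pD * σ⁻¹ = pD * pB := by decide +kernel
  have hψa : ψ₀ (aa e) = pA := by
    show ((φ (aa e) : alternatingGroup (Fin 6)) : Perm (Fin 6)) = pA
    rw [ha]; rfl
  have hψb : ψ₀ (bb e) = pB := by
    show ((φ (bb e) : alternatingGroup (Fin 6)) : Perm (Fin 6)) = pB
    rw [hb]; rfl
  have hψc : ψ₀ c = pC := by
    show ((φ c : alternatingGroup (Fin 6)) : Perm (Fin 6)) = pC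
    rw [hc]; rfl
  have hψd : ψ₀ d = pD := by
    show ((φ d : alternatingGroup (Fin 6)) : Perm (Fin 6)) = pD
    rw [hd]; rfl
  have hcompat : ∀ x : H, ψ₀ (α x) = σ * ψ₀ x * σ⁻¹ := by
    have h4 : ψ₀.comp α.toMonoidHom = (MulAut.conj σ).toMonoidHom.comp ψ₀ := by
      apply MonoidHom.eq_of_eqOn_top
      rw [← hgen]
      apply MonoidHom.eqOn_closure
      intro x hx
      simp only [Set.mem_insert_iff, Set.mem_singleton_iff] at hx
      rcases hx with rfl | rfl | rfl | rfl
      · show ψ₀ (α (aa e)) = σ * ψ₀ (aa e) * σ⁻¹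
        rw [hαa, hψa, hσA]
      · show ψ₀ (α (bb e)) = σ * ψ₀ (bb e) * σ⁻¹
        rw [hαb, hψb, hσB]
      · show ψ₀ (α x) = σ * ψ₀ x * σ⁻¹
        rw [hαc, hψc, hσC]
      · show ψ₀ (α x) = σ * ψ₀ x * σ⁻¹
        rw [hαd', map_mul, hψd, hψb, hσD]
    intro x
    exact DFunLike.congr_fun h4 x
  obtain ⟨f, hf1, hf2⟩ := exists_ext hH htH h.tt ψ₀ σ hσ (by
    intro x hx hy
    have h5 : α ⟨x, hx⟩ = ⟨t * x * t⁻¹, hy⟩ := Subtype.ext (hα _)
    rw [← h5, hcompat])
  have hinj : Function.Injective f := by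
    rw [injective_iff_map_eq_one]
    intro g hg
    by_cases hgH : g ∈ H
    · have h5 : ψ₀ ⟨g, hgH⟩ = 1 := by rw [← hf1]; exact hg
      have h6 : φ ⟨g, hgH⟩ = 1 := Subtype.ext h5
      have h7 : (⟨g, hgH⟩ : H) = 1 := by
        apply φ.injective
        rw [h6, map_one]
      exact congrArg Subtype.val h7
    · exfalso
      have hm : g * t ∈ H := by
        rw [Subgroup.mul_mem_iff_of_index_two hH]
        exact iff_of_false hgH htH
      have h5 := hf2 ⟨g * t, hm⟩
      have h6 : (((⟨g * t, hm⟩ : H) : G)) * t = g := by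
        show g * t * t = g
        rw [mul_assoc, h.tt, mul_one]
      rw [h6, hg] at h5
      have h7 : Perm.sign (ψ₀ ⟨g * t, hm⟩ * σ) = 1 := by rw [← h5, map_one]
      have h8 : Perm.sign (ψ₀ ⟨g * t, hm⟩) = 1 := Perm.mem_alternatingGroup.1 (φ ⟨g * t, hm⟩).2
      rw [map_mul, h8, one_mul] at h7
      have h9 : Perm.sign σ = -1 := Perm.sign_swap (by decide)
      rw [h9] at h7
      exact absurd h7 (by decide)
  have hbij : Function.Bijective f := by
    apply hinj.bijective_of_nat_card_le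
    have hm := Subgroup.card_mul_index H
    rw [hH, hcard] at hm
    rw [← hm, Nat.card_eq_fintype_card, Fintype.card_perm, Fintype.card_fin]
    decide
  exact ⟨MulEquiv.ofBijective f hbij⟩

end iso

/-- **The main alternative.** -/
theorem main {G : Type*} [Group G] [Finite G] {t : G} {L : P4 →* G} (h : Par t L) :
    centralizer ({t} : Set G) = ⊤ ∨ Nonempty (G ≃* Perm (Fin 6)) := by
  obtain ⟨L', h', H, hH, htH, hLH⟩ := h.exists_norm
  have hG : Nat.card H * 2 = Nat.card G := by
    have := Subgroup.card_mul_index H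
    rwa [hH] at this
  have hC : 48 * (centralizer ({t} : Set G)).index = Nat.card G := by
    have := Subgroup.card_mul_index (centralizer ({t} : Set G))
    rwa [h.cardC] at this
  rcases card_cases h' H htH hLH with h1 | h1 | h1 | ⟨h1, hfb⟩
  · left
    apply Subgroup.index_eq_one.1
    omega
  · left
    exact central_of_index h' H hH htH hLH (by omega)
  · left
    exact central_of_index h' H hH htH hLH (by omega)
  · right
    exact iso_S6 h' H hH htH hLH h1 hfb

end Cfsg.Agent.Lib.C2S4Main
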