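import Mathlib
import Cfsg.Prelude.Def_Involutions
import Cfsg.Agent.Lib.EmbInvol

/-!
# Finite groups in which the centralizer of each involution is an elementary abelian 2-group

Points are Sylow 2-subgroups, with `G` acting by conjugation; `N_G(P)` is the stabilizer of `P`.
-/

set_option autoImplicit false

namespace Cfsg.Agent.Lib.CITElem

open Cfsg Cfsg.Agent.Lib.EmbInvol

variable {G : Type*} [Group G] [Finite G]

/-- The normalizer of a Sylow subgroup, as stated in the statements. -/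
abbrev Nm (P : Sylow 2 G) : Subgroup G := Subgroup.normalizer ((P : Subgroup G) : Set G)

/-- The hypotheses on `G`, for all Sylow subgroups at once. -/
structure CIT (G : Type*) [Group G] [Finite G] : Prop where
  hC : ∀ t : G, orderOf t = 2 → IsMulCommutative (Subgroup.centralizer ({t} : Set G)) ∧
    ∀ c ∈ Subgroup.centralizer ({t} : Set G), c ^ 2 = 1
  hnc : ∀ P : Sylow 2 G, ¬ IsCyclic (P : Subgroup G)
  hnn : ∀ P : Sylow 2 G, ¬ (P : Subgroup G).Normal

theorem CIT.of (T : Sylow 2 G) (hnc : ¬ IsCyclic (T : Subgroup G))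
    (hnn : ¬ (T : Subgroup G).Normal)
    (hC : ∀ t : G, orderOf t = 2 → IsMulCommutative (Subgroup.centralizer ({t} : Set G)) ∧
      ∀ c ∈ Subgroup.centralizer ({t} : Set G), c ^ 2 = 1) : CIT G := by
  refine ⟨hC, fun P hP => hnc ?_, fun P hP => hnn ?_⟩
  · exact isCyclic_of_surjective (P.equiv T) (P.equiv T).surjective
  · letI := Sylow.unique_of_normal P hP
    exact Sylow.normal_of_subsingleton T

lemma mem_Nm_iff {P : Sylow 2 G} {g : G} : g ∈ Nm P ↔ g • P = P :=
  Sylow.smul_eq_iff_mem_normalizer.symm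

namespace CIT

variable (h : CIT G)
include h

lemma mul_self_of_comm {t c : G} (ht : orderOf t = 2) (hc : c * t = t * c) : c * c = 1 := by
  have h1 : c ∈ Subgroup.centralizer ({t} : Set G) := by
    rw [Subgroup.mem_centralizer_iff]
    intro x hx
    rw [Set.mem_singleton_iff] at hx
    subst hx
    exact hc.symm
  have := (h.hC t ht).2 c h1
  rwa [pow_two] at this

lemma isPGroup_centralizer {t : G} (ht : orderOf t = 2) :
    IsPGroup 2 (Subgroup.centralizer ({t} : Set G)) := by
  intro c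
  refine ⟨1, ?_⟩
  apply Subtype.ext
  simpa using (h.hC t ht).2 c c.2

lemma nontrivial_sylow (P : Sylow 2 G) : Nontrivial (P : Subgroup G) := by
  by_contra hnt
  rw [not_nontrivial_iff_subsingleton] at hnt
  exact h.hnc P inferInstance

lemma exists_z (P : Sylow 2 G) :
    ∃ z ∈ (P : Subgroup G), orderOf z = 2 ∧ ∀ a ∈ (P : Subgroup G), a * z = z * a := by
  haveI := h.nontrivial_sylow P
  have hP : IsPGroup 2 (P : Subgroup G) := P.2
  haveI := hP.center_nontrivial
  obtain ⟨k, hk⟩ := IsPGroup.iff_card.mp (hP.to_subgroup (Subgroup.center (P : Subgroup G)))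
  have hk0 : k ≠ 0 := by
    rintro rfl
    have h1 : 1 < Nat.card (Subgroup.center (P : Subgroup G)) := Finite.one_lt_card
    omega
  have h2 : 2 ∣ Nat.card (Subgroup.center (P : Subgroup G)) := by
    rw [hk]; exact dvd_pow_self 2 hk0
  obtain ⟨z, hz⟩ := exists_prime_orderOf_dvd_card' 2 h2
  refine ⟨((z : (P : Subgroup G)) : G), (z : (P : Subgroup G)).2, ?_, ?_⟩
  · have e1 : orderOf ((z : (P : Subgroup G)) : G) = orderOf (z : (P : Subgroup G)) :=
      Subgroup.orderOf_coe _
    have e2 : orderOf (z : (P : Subgroup G)) = orderOf z := Subgroup.orderOf_coe _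
    rw [e1, e2, hz]
  · intro a ha
    have := (Subgroup.mem_center_iff.mp z.2) ⟨a, ha⟩
    exact congrArg Subtype.val this

lemma mem_of_comm_central {P : Sylow 2 G} {z c : G} (hz : orderOf z = 2)
    (hzc : ∀ a ∈ (P : Subgroup G), a * z = z * a) (hc : c * z = z * c) : c ∈ (P : Subgroup G) := by
  have hle : (P : Subgroup G) ≤ Subgroup.centralizer ({z} : Set G) := by
    intro a ha
    rw [Subgroup.mem_centralizer_iff]
    intro x hx
    rw [Set.mem_singleton_iff] at hx
    subst hx
    exact (hzc a ha).symm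
  have h1 := P.is_maximal' (h.isPGroup_centralizer hz) hle
  have h2 : c ∈ Subgroup.centralizer ({z} : Set G) := by
    rw [Subgroup.mem_centralizer_iff]
    intro x hx
    rw [Set.mem_singleton_iff] at hx
    subst hx
    exact hc.symm
  rwa [h1] at h2

lemma mul_self_of_mem {P : Sylow 2 G} {a : G} (ha : a ∈ (P : Subgroup G)) : a * a = 1 := by
  obtain ⟨z, _, hz, hzc⟩ := h.exists_z P
  exact h.mul_self_of_comm hz (hzc a ha)

lemma comm_of_mem {P : Sylow 2 G} {a b : G} (ha : a ∈ (P : Subgroup G))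
    (hb : b ∈ (P : Subgroup G)) : a * b = b * a := by
  obtain ⟨z, _, hz, hzc⟩ := h.exists_z P
  have := (h.hC z hz).1.is_comm.comm
    (⟨a, by
      rw [Subgroup.mem_centralizer_iff]
      intro x hx
      rw [Set.mem_singleton_iff] at hx
      subst hx
      exact (hzc a ha).symm⟩ : Subgroup.centralizer ({z} : Set G))
    ⟨b, by
      rw [Subgroup.mem_centralizer_iff]
      intro x hx
      rw [Set.mem_singleton_iff] at hx
      subst hx
      exact (hzc b hb).symm⟩
  exact congrArg Subtype.val this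

lemma orderOf_of_mem {P : Sylow 2 G} {a : G} (ha : a ∈ (P : Subgroup G)) (ha1 : a ≠ 1) :
    orderOf a = 2 := order_of_mul_self (h.mul_self_of_mem ha) ha1

lemma mem_of_comm {P : Sylow 2 G} {t c : G} (ht : t ∈ (P : Subgroup G)) (ht1 : t ≠ 1)
    (hc : c * t = t * c) : c ∈ (P : Subgroup G) :=
  h.mem_of_comm_central (h.orderOf_of_mem ht ht1) (fun _ ha => h.comm_of_mem ha ht) hc

lemma mem_of_mul_self {P : Sylow 2 G} {c : G} (hc : c ∈ Nm P) (hc2 : c * c = 1) :
    c ∈ (P : Subgroup G) := by
  by_cases hc1 : c = 1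
  · rw [hc1]; exact Subgroup.one_mem _
  · have ho : orderOf c = 2 := order_of_mul_self hc2 hc1
    have hQ : IsPGroup 2 (Subgroup.zpowers c) := by
      apply IsPGroup.of_card (n := 1)
      rw [Nat.card_zpowers, ho, pow_one]
    have h1 := hQ.inf_normalizer_sylow P
    have h2 : c ∈ Subgroup.zpowers c ⊓ Nm P :=
      ⟨Subgroup.mem_zpowers c, hc⟩
    rw [show Subgroup.zpowers c ⊓ Nm P = Subgroup.zpowers c ⊓ (P : Subgroup G) from h1] at h2
    exact h2.2

lemma four_le_card (P : Sylow 2 G) : 4 ≤ Nat.card (P : Subgroup G) := by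
  obtain ⟨k, hk⟩ := IsPGroup.iff_card.mp P.2
  rcases k with _ | _ | k
  · haveI := h.nontrivial_sylow P
    have h1 : 1 < Nat.card (P : Subgroup G) := Finite.one_lt_card
    omega
  · exfalso
    apply h.hnc P
    haveI : Fact (Nat.card (P : Subgroup G)).Prime := ⟨by rw [hk]; norm_num⟩
    exact isCyclic_of_prime_card rfl
  · rw [hk, pow_succ, pow_succ]
    have : 1 ≤ 2 ^ k := Nat.one_le_two_pow
    omega

lemma even_card (P : Sylow 2 G) : Even (Nat.card (P : Subgroup G)) := by
  obtain ⟨k, hk⟩ := IsPGroup.iff_card.mp P.2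
  have := h.four_le_card P
  rcases k with _ | k
  · rw [pow_zero] at hk; omega
  · rw [hk, pow_succ]; exact Even.mul_left even_two _

lemma odd_of_card {A : Subgroup G} {P : Sylow 2 G}
    (hA : Nat.card A = Nat.card (P : Subgroup G) - 1) : Odd (Nat.card A) := by
  rw [hA]
  have h1 := h.even_card P
  have h2 := h.four_le_card P
  exact Nat.Even.sub_odd (by omega) h1 odd_one

lemma eq_one_of_mul_self {A : Subgroup G} (hA : Odd (Nat.card A)) {a : G} (ha : a ∈ A)
    (ha2 : a * a = 1) : a = 1 := by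
  by_contra hne
  have ho := order_of_mul_self ha2 hne
  have h1 : orderOf (⟨a, ha⟩ : A) ∣ Nat.card A := orderOf_dvd_natCard _
  rw [Subgroup.orderOf_mk, ho] at h1
  exact (Nat.not_even_iff_odd.mpr hA) (even_iff_two_dvd.mpr h1)

theorem stronglyEmbedded (P : Sylow 2 G) : IsStronglyEmbedded (Nm P) := by
  refine ⟨?_, ?_, ?_⟩
  · intro htop
    apply h.hnn P
    exact Subgroup.normalizer_eq_top_iff.mp htop
  · have h1 := h.even_card P
    have h2 : Nat.card (P : Subgroup G) ∣ Nat.card (Nm P) :=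
      Subgroup.card_dvd_of_le Subgroup.le_normalizer
    exact h1.trans_dvd h2 |> fun h => h
  · intro g hg
    by_contra hodd
    rw [Nat.not_odd_iff_even] at hodd
    obtain ⟨t, ht⟩ := exists_prime_orderOf_dvd_card' 2 hodd.two_dvd
    have ht2 : orderOf (t : G) = 2 := by
      rw [← ht]; exact Subgroup.orderOf_coe _
    have htH : (t : G) ∈ Nm P := t.2.1
    have ht3 : (t : G) * t = 1 := mul_self_of_order ht2
    have htP : (t : G) ∈ (P : Subgroup G) := h.mem_of_mul_self htH ht3
    have ht4 : g⁻¹ * t * g ∈ Nm P := mem_map_conj_iff.mp t.2.2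
    have ht5 : g⁻¹ * t * g ∈ (P : Subgroup G) := by
      apply h.mem_of_mul_self ht4
      have : g⁻¹ * (t : G) * g * (g⁻¹ * t * g) = g⁻¹ * (t * t) * g := by group
      rw [this, ht3]; simp
    have ht6 : g⁻¹ * (t : G) * g ≠ 1 := by
      intro h'
      have : (t : G) = 1 := by
        have h2 : (t : G) = g * (g⁻¹ * t * g) * g⁻¹ := by group
        rw [h2, h']; simp
      rw [this] at ht2
      simp at ht2
    have ht1 : (t : G) ≠ 1 := ne_one_of_order ht2
    apply hg
    rw [Nm, Subgroup.mem_normalizer_iff]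
    intro a
    constructor
    · intro ha
      have h1 := h.comm_of_mem ha ht5
      apply h.mem_of_comm htP ht1
      calc g * a * g⁻¹ * t = g * (a * (g⁻¹ * t * g)) * g⁻¹ := by group
        _ = g * ((g⁻¹ * t * g) * a) * g⁻¹ := by rw [h1]
        _ = t * (g * a * g⁻¹) := by group
    · intro ha
      have h1 := h.comm_of_mem ha htP
      apply h.mem_of_comm ht5 ht6
      calc a * (g⁻¹ * t * g) = g⁻¹ * ((g * a * g⁻¹) * t) * g := by group
        _ = g⁻¹ * (t * (g * a * g⁻¹)) * g := by rw [h1]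
        _ = g⁻¹ * t * g * a := by group

lemma card_nontriv (P : Sylow 2 G) :
    Nat.card {t : G // t ∈ (P : Subgroup G) ∧ t ≠ 1} = Nat.card (P : Subgroup G) - 1 := by
  have e : {t : G | t ∈ (P : Subgroup G) ∧ t ≠ 1} = ((P : Subgroup G) : Set G) \ {1} := by
    ext t
    constructor <;> rintro ⟨a, b⟩ <;> exact ⟨a, b⟩
  have h1 : Nat.card {t : G // t ∈ (P : Subgroup G) ∧ t ≠ 1} = Set.ncard {t : G | t ∈ (P : Subgroup G) ∧ t ≠ 1} :=
    Nat.card_coe_set_eq {t : G | t ∈ (P : Subgroup G) ∧ t ≠ 1}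
  rw [h1, e, Set.ncard_diff_singleton_of_mem (Subgroup.one_mem _)]
  rfl

/-- A subgroup of the normalizer that meets `P` trivially has at most `|P| - 1` elements. -/
lemma card_le_of_inf {P : Sylow 2 G} {A : Subgroup G} (hA : A ≤ Nm P)
    (hAP : ∀ a ∈ A, a ∈ (P : Subgroup G) → a = 1) : Nat.card A ≤ Nat.card (P : Subgroup G) - 1 := by
  obtain ⟨z, hzP, hz, hzc⟩ := h.exists_z P
  have hz1 : z ≠ 1 := ne_one_of_order hz
  rw [← h.card_nontriv P]
  let f : A → {t : G // t ∈ (P : Subgroup G) ∧ t ≠ 1} := fun a =>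
    ⟨a * z * (a : G)⁻¹, (Subgroup.mem_normalizer_iff.mp (hA a.2) z).mp hzP, by
      intro h'
      apply hz1
      have : z = (a : G)⁻¹ * (a * z * (a : G)⁻¹) * a := by group
      rw [this, h']; simp⟩
  apply Nat.card_le_card_of_injective f
  intro a b hab
  have h1 : (a : G) * z * (a : G)⁻¹ = b * z * (b : G)⁻¹ := congrArg Subtype.val hab
  have h2 : ((b : G)⁻¹ * a) * z = z * ((b : G)⁻¹ * a) := by
    calc ((b : G)⁻¹ * a) * z = (b : G)⁻¹ * (a * z * (a : G)⁻¹) * a := by group
      _ = (b : G)⁻¹ * (b * z * (b : G)⁻¹) * a := by rw [h1]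
      _ = z * ((b : G)⁻¹ * a) := by group
  have h3 := hAP _ (A.mul_mem (A.inv_mem b.2) a.2) (h.mem_of_comm hzP hz1 h2)
  apply Subtype.ext
  have : (a : G) = b * ((b : G)⁻¹ * a) := by group
  rw [this, h3, mul_one]

/-- The index of `P` in its normalizer is at most `|P| - 1`. -/
lemma index_le (P : Sylow 2 G) :
    ((P : Subgroup G).subgroupOf (Nm P)).index ≤ Nat.card (P : Subgroup G) - 1 := by
  classical
  obtain ⟨z, hzP, hz, hzc⟩ := h.exists_z P
  have hz1 : z ≠ 1 := ne_one_of_order hz
  rw [← h.card_nontriv P, Subgroup.index_eq_card]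
  let f : (Nm P) ⧸ ((P : Subgroup G).subgroupOf (Nm P)) → {t : G // t ∈ (P : Subgroup G) ∧ t ≠ 1} := fun q =>
    ⟨(q.out : G) * z * (q.out : G)⁻¹, (Subgroup.mem_normalizer_iff.mp q.out.2 z).mp hzP, by
      intro h'
      apply hz1
      have : z = (q.out : G)⁻¹ * ((q.out : G) * z * (q.out : G)⁻¹) * q.out := by group
      rw [this, h']; simp⟩
  apply Nat.card_le_card_of_injective f
  intro q q' hqq
  have h1 : (q.out : G) * z * (q.out : G)⁻¹ = (q'.out : G) * z * (q'.out : G)⁻¹ := congrArg Subtype.val hqq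
  have h2 : ((q.out : G)⁻¹ * q'.out) * z = z * ((q.out : G)⁻¹ * q'.out) := by
    calc ((q.out : G)⁻¹ * q'.out) * z = (q.out : G)⁻¹ * ((q'.out : G) * z * (q'.out : G)⁻¹) * q'.out := by group
      _ = (q.out : G)⁻¹ * ((q.out : G) * z * (q.out : G)⁻¹) * q'.out := by rw [h1]
      _ = z * ((q.out : G)⁻¹ * q'.out) := by group
  have h3 := h.mem_of_comm hzP hz1 h2
  rw [← QuotientGroup.out_eq' q, ← QuotientGroup.out_eq' q', QuotientGroup.eq]
  exact Subgroup.mem_subgroupOf.mpr h3

end CIT

/-- The two-point stabilizer. -/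
abbrev Dd (P : Sylow 2 G) (u : G) : Subgroup G := Nm P ⊓ (Nm P).map (MulAut.conj u).toMonoidHom

lemma mem_Dd {P : Sylow 2 G} {u d : G} : d ∈ Dd P u ↔ d ∈ Nm P ∧ u⁻¹ * d * u ∈ Nm P := by
  rw [Dd, Subgroup.mem_inf, mem_map_conj_iff]

namespace CIT

variable (h : CIT G)
include h

/-- Main counting theorem. -/
theorem main (P : Sylow 2 G) {u : G} (hu : orderOf u = 2) (huP : u ∉ Nm P) :
    (∀ d ∈ Dd P u, u * d * u⁻¹ = d⁻¹) ∧
    Nat.card (Nm P) = Nat.card (P : Subgroup G) * (Nat.card (P : Subgroup G) - 1) ∧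
    Nat.card (Dd P u) = Nat.card (P : Subgroup G) - 1 ∧
    (∀ a ∈ Dd P u, a ∈ (P : Subgroup G) → a = 1) := by
  classical
  have hH := h.stronglyEmbedded P
  have huu := mul_self_of_order hu
  have hui := inv_of_order hu
  set x : G ⧸ Nm P := QuotientGroup.mk 1 with hx
  set y : G ⧸ Nm P := QuotientGroup.mk u with hy
  have hxy : x ≠ y := by
    intro he
    rw [hx, hy, QuotientGroup.eq] at he
    apply huP
    simpa using he
  -- the trivial intersection
  have hDP : ∀ a ∈ Dd P u, a ∈ (P : Subgroup G) → a = 1 := by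
    intro a ha haP
    by_contra ha1
    have h2 := h.orderOf_of_mem haP ha1
    have hax : a • x = x := by
      rw [hx, smul_mk_eq_iff]
      simpa using (mem_Dd.mp ha).1
    have hay : a • y = y := by
      rw [hy, smul_mk_eq_iff]
      exact (mem_Dd.mp ha).2
    exact hxy (eq_of_fixed hH h2 hax hay)
  -- the number of involutions in the normalizer
  have hinv : Nat.card {t : G // orderOf t = 2 ∧ t ∈ Nm P} = Nat.card (P : Subgroup G) - 1 := by
    rw [← h.card_nontriv P]
    apply Nat.card_congr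
    refine Equiv.subtypeEquivRight ?_
    intro t
    constructor
    · rintro ⟨h1, h2⟩
      exact ⟨h.mem_of_mul_self h2 (mul_self_of_order h1), ne_one_of_order h1⟩
    · rintro ⟨h1, h2⟩
      exact ⟨h.orderOf_of_mem h1 h2, Subgroup.le_normalizer h1⟩
  have hswap := card_swap hH x y hxy
  rw [hinv] at hswap
  -- injection into the inverted elements
  let A : Set G := {d | d ∈ Dd P u ∧ u * d * u⁻¹ = d⁻¹}
  have hAD : A ⊆ (Dd P u : Set G) := fun d hd => hd.1
  have hcardA : Nat.card (P : Subgroup G) - 1 ≤ Nat.card A := by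
    rw [← hswap]
    let f : {i : G // orderOf i = 2 ∧ i • x = y} → A := fun i => ⟨i.1 * u, by
      have hi2 := mul_self_of_order i.2.1
      have hii := inv_of_order i.2.1
      have hix : i.1 • (QuotientGroup.mk 1 : G ⧸ Nm P) = QuotientGroup.mk u := i.2.2
      rw [smul_mk_eq_mk_iff, hui] at hix
      have hix' : u * i.1 ∈ Nm P := by simpa using hix
      have hiu : i.1 * u ∈ Nm P := by
        have := (Nm P).inv_mem hix'
        simpa [hui, hii] using this
      refine ⟨mem_Dd.mpr ⟨hiu, ?_⟩, ?_⟩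
      · rw [hui]
        have : u * (i.1 * u) * u = u * i.1 := by
          rw [mul_assoc, mul_assoc, huu, mul_one]
        rw [this]; exact hix'
      · rw [hui, mul_inv_rev, hui, hii]
        rw [mul_assoc, mul_assoc, huu, mul_one]⟩
    apply Nat.card_le_card_of_injective f
    intro i j hij
    have h1 : i.1 * u = j.1 * u := congrArg Subtype.val hij
    exact Subtype.ext (mul_right_cancel h1)
  have hAfin : A.Finite := Set.toFinite _
  have hle1 : Nat.card A ≤ Nat.card (Dd P u) := by
    have := Set.ncard_le_ncard hAD (Set.toFinite _)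
    rw [Nat.card_coe_set_eq]
    exact this
  have hle2 := h.card_le_of_inf (A := Dd P u) inf_le_left hDP
  have hcardD : Nat.card (Dd P u) = Nat.card (P : Subgroup G) - 1 := by omega
  have hAeq : A = (Dd P u : Set G) := by
    apply Set.eq_of_subset_of_ncard_le hAD
    · have h1 : ((Dd P u : Subgroup G) : Set G).ncard = Nat.card (Dd P u) := rfl
      rw [h1, hcardD, ← Nat.card_coe_set_eq]
      exact hcardA
  have hinverted : ∀ d ∈ Dd P u, u * d * u⁻¹ = d⁻¹ := by
    intro d hd
    have : d ∈ A := by rw [hAeq]; exact hd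
    exact this.2
  refine ⟨hinverted, ?_, hcardD, hDP⟩
  -- the order of the normalizer
  have h1 := Subgroup.card_mul_index ((P : Subgroup G).subgroupOf (Nm P))
  have h2 : Nat.card ((P : Subgroup G).subgroupOf (Nm P)) = Nat.card (P : Subgroup G) :=
    Nat.card_congr (Subgroup.subgroupOfEquivOfLe Subgroup.le_normalizer).toEquiv
  rw [h2] at h1
  have h3 := h.index_le P
  have h4 : Nat.card (Dd P u) ≤ ((P : Subgroup G).subgroupOf (Nm P)).index := by
    rw [Subgroup.index_eq_card]
    let f : (Dd P u) → (Nm P) ⧸ ((P : Subgroup G).subgroupOf (Nm P)) := fun d =>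
      QuotientGroup.mk ⟨d.1, d.2.1⟩
    apply Nat.card_le_card_of_injective f
    intro d e hde
    rw [QuotientGroup.eq] at hde
    have h5 : (d : G)⁻¹ * e ∈ (P : Subgroup G) := Subgroup.mem_subgroupOf.mp hde
    have h6 := hDP _ ((Dd P u).mul_mem ((Dd P u).inv_mem d.2) e.2) h5
    apply Subtype.ext
    have h7 : (e : G) = d * ((d : G)⁻¹ * e) := by group
    rw [h7, h6, mul_one]
  rw [← h1]
  congr 1
  omega

end CIT

end Cfsg.Agent.Lib.CITElem
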