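import Mathlib
import Cfsg.Agent.Lib.CITElem

/-!
# Finite groups in which the centralizer of each involution is an elementary abelian 2-group, II

The action on the Sylow 2-subgroups: two-point stabilizers, their fixed points, sharp triple transitivity.
-/

set_option autoImplicit false

namespace Cfsg.Agent.Lib.CITElem

open Cfsg Cfsg.Agent.Lib.EmbInvol

variable {G : Type*} [Group G] [Finite G]

/-- The stabilizer of two points. -/
abbrev Ds (P Q : Sylow 2 G) : Subgroup G := Nm P ⊓ Nm Q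

lemma Nm_smul (P : Sylow 2 G) (g : G) : Nm (g • P) = (Nm P).map (MulAut.conj g).toMonoidHom := by
  ext a
  rw [mem_map_conj_iff, mem_Nm_iff, mem_Nm_iff, mul_smul, mul_smul]
  constructor
  · intro h
    rw [h, inv_smul_smul]
  · intro h
    rwa [inv_smul_eq_iff] at h

lemma mem_Nm_smul {P : Sylow 2 G} {g a : G} : a ∈ Nm (g • P) ↔ g⁻¹ * a * g ∈ Nm P := by
  rw [Nm_smul, mem_map_conj_iff]

lemma card_sylow_eq (P Q : Sylow 2 G) : Nat.card (P : Subgroup G) = Nat.card (Q : Subgroup G) :=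
  Nat.card_congr (P.equiv Q).toEquiv

lemma Dd_eq_Ds {P : Sylow 2 G} (i : G) : Dd P i = Ds P (i • P) := by
  rw [Dd, Ds, Nm_smul]

namespace CIT

variable (h : CIT G)
include h

lemma exists_swap {P Q : Sylow 2 G} (hPQ : P ≠ Q) : ∃ i : G, orderOf i = 2 ∧ i • P = Q := by
  classical
  obtain ⟨g, hg⟩ := MulAction.exists_smul_eq G P Q
  have hgP : g ∉ Nm P := by
    intro hg'
    apply hPQ
    rw [← hg, mem_Nm_iff.mp hg']
  have hH := h.stronglyEmbedded P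
  have hne : (QuotientGroup.mk 1 : G ⧸ Nm P) ≠ QuotientGroup.mk g := by
    intro he
    rw [QuotientGroup.eq] at he
    apply hgP
    simpa using he
  have hs := card_swap hH _ _ hne
  obtain ⟨z, hzP, hz, _⟩ := h.exists_z P
  have hpos : 0 < Nat.card {t : G // orderOf t = 2 ∧ t ∈ Nm P} := by
    haveI : Nonempty {t : G // orderOf t = 2 ∧ t ∈ Nm P} :=
      ⟨⟨z, hz, Subgroup.le_normalizer hzP⟩⟩
    exact Nat.card_pos
  rw [← hs] at hpos
  haveI : Nonempty {i : G // orderOf i = 2 ∧ i • (QuotientGroup.mk 1 : G ⧸ Nm P) = QuotientGroup.mk g} :=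
    (Nat.card_pos_iff.mp hpos).1
  obtain ⟨⟨i, hi, hi2⟩⟩ := (inferInstance : Nonempty {i : G // orderOf i = 2 ∧ i • (QuotientGroup.mk 1 : G ⧸ Nm P) = QuotientGroup.mk g})
  refine ⟨i, hi, ?_⟩
  rw [smul_mk_eq_mk_iff, mul_one] at hi2
  have h1 := mem_Nm_iff.mp hi2
  rw [mul_smul, inv_smul_eq_iff] at h1
  rw [← hg]; exact h1

lemma involution_not_mem {P : Sylow 2 G} {i : G} (hPi : P ≠ i • P) : i ∉ Nm P := by
  intro h'
  exact hPi (mem_Nm_iff.mp h').symm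

lemma inverts {P Q : Sylow 2 G} (hPQ : P ≠ Q) {i : G} (hi : orderOf i = 2) (hiP : i • P = Q) :
    ∀ d ∈ Ds P Q, i * d * i⁻¹ = d⁻¹ := by
  subst hiP
  have := (h.main P hi (involution_not_mem h hPQ)).1
  rwa [Dd_eq_Ds] at this

lemma inter_eq_one {P Q : Sylow 2 G} (hPQ : P ≠ Q) : ∀ a ∈ Ds P Q, a ∈ (P : Subgroup G) → a = 1 := by
  obtain ⟨i, hi, rfl⟩ := h.exists_swap hPQ
  have := (h.main P hi (involution_not_mem h hPQ)).2.2.2
  rwa [Dd_eq_Ds] at this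

lemma card_Ds {P Q : Sylow 2 G} (hPQ : P ≠ Q) : Nat.card (Ds P Q) = Nat.card (P : Subgroup G) - 1 := by
  obtain ⟨i, hi, rfl⟩ := h.exists_swap hPQ
  have := (h.main P hi (involution_not_mem h hPQ)).2.2.1
  rwa [Dd_eq_Ds] at this

lemma card_Nm {P Q : Sylow 2 G} (hPQ : P ≠ Q) :
    Nat.card (Nm P) = Nat.card (P : Subgroup G) * (Nat.card (P : Subgroup G) - 1) := by
  obtain ⟨i, hi, rfl⟩ := h.exists_swap hPQ
  exact (h.main P hi (involution_not_mem h hPQ)).2.1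

lemma odd_Ds {P Q : Sylow 2 G} (hPQ : P ≠ Q) : Odd (Nat.card (Ds P Q)) :=
  h.odd_of_card (h.card_Ds hPQ)

lemma three_le_Ds {P Q : Sylow 2 G} (hPQ : P ≠ Q) : 3 ≤ Nat.card (Ds P Q) := by
  rw [h.card_Ds hPQ]
  have := h.four_le_card P
  omega

lemma exists_ne_one {P Q : Sylow 2 G} (hPQ : P ≠ Q) : ∃ d ∈ Ds P Q, d ≠ 1 := by
  by_contra hno
  push Not at hno
  have h1 : (Ds P Q) = ⊥ := (Subgroup.eq_bot_iff_forall _).mpr hno
  have h2 := h.three_le_Ds hPQ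
  rw [h1] at h2
  simp at h2

lemma comm_Ds {P Q : Sylow 2 G} (hPQ : P ≠ Q) {a b : G} (ha : a ∈ Ds P Q) (hb : b ∈ Ds P Q) :
    a * b = b * a := by
  obtain ⟨i, hi, hiP⟩ := h.exists_swap hPQ
  have h1 := h.inverts hPQ hi hiP
  have h2 := h1 _ ((Ds P Q).mul_mem ha hb)
  have h3 : i * (a * b) * i⁻¹ = (i * a * i⁻¹) * (i * b * i⁻¹) := by group
  rw [h3, h1 a ha, h1 b hb] at h2
  have h4 : (a * b)⁻¹ = (b * a)⁻¹ := by
    rw [← h2]; simp
  exact inv_injective h4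

lemma eq_one_of_comm {P Q : Sylow 2 G} (hPQ : P ≠ Q) {t d : G} (ht : orderOf t = 2)
    (hd : d ∈ Ds P Q) (hc : d * t = t * d) : d = 1 :=
  h.eq_one_of_mul_self (h.odd_Ds hPQ) hd (h.mul_self_of_comm ht hc)

lemma decomp {P Q : Sylow 2 G} (hPQ : P ≠ Q) {e : G} (he : e ∈ Nm P) :
    ∃ d ∈ Ds P Q, ∃ τ ∈ (P : Subgroup G), e = d * τ := by
  have hc : Subgroup.IsComplement' ((Ds P Q).subgroupOf (Nm P)) ((P : Subgroup G).subgroupOf (Nm P)) := by
    apply Subgroup.isComplement'_of_card_mul_and_disjoint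
    · have e1 : Nat.card ((Ds P Q).subgroupOf (Nm P)) = Nat.card (Ds P Q) :=
        Nat.card_congr (Subgroup.subgroupOfEquivOfLe inf_le_left).toEquiv
      have e2 : Nat.card ((P : Subgroup G).subgroupOf (Nm P)) = Nat.card (P : Subgroup G) :=
        Nat.card_congr (Subgroup.subgroupOfEquivOfLe Subgroup.le_normalizer).toEquiv
      rw [e1, e2, h.card_Nm hPQ, h.card_Ds hPQ, mul_comm]
    · rw [Subgroup.disjoint_def]
      intro x hx hy
      apply Subtype.ext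
      exact h.inter_eq_one hPQ _ (Subgroup.mem_subgroupOf.mp hx) (Subgroup.mem_subgroupOf.mp hy)
  obtain ⟨⟨a, b⟩, hab, _⟩ := hc.existsUnique ⟨e, he⟩
  refine ⟨a.1.1, Subgroup.mem_subgroupOf.mp a.2, b.1.1, Subgroup.mem_subgroupOf.mp b.2, ?_⟩
  have := congrArg Subtype.val hab
  exact this.symm

/-- An element of the normalizer of `P` normalizing `D` lies in `D`. -/
lemma mem_of_normalizes {P Q : Sylow 2 G} (hPQ : P ≠ Q) {e : G} (he : e ∈ Nm P)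
    (hn : ∀ a ∈ Ds P Q, e * a * e⁻¹ ∈ Ds P Q) : e ∈ Ds P Q := by
  obtain ⟨d, hd, τ, hτ, rfl⟩ := h.decomp hPQ he
  have hτ1 : τ = 1 := by
    by_contra hτ1
    have ho := h.orderOf_of_mem hτ hτ1
    obtain ⟨a, ha, ha1⟩ := h.exists_ne_one hPQ
    apply ha1
    apply h.eq_one_of_comm hPQ ho ha
    -- the commutator of τ and a lies in P and in D
    have h1 : τ * a * τ⁻¹ ∈ Ds P Q := by
      have h2 := (Ds P Q).mul_mem ((Ds P Q).mul_mem ((Ds P Q).inv_mem hd) (hn a ha)) hd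
      have e2 : d⁻¹ * ((d * τ) * a * (d * τ)⁻¹) * d = τ * a * τ⁻¹ := by group
      rwa [e2] at h2
    have h2 : (τ * a * τ⁻¹) * a⁻¹ ∈ Ds P Q := (Ds P Q).mul_mem h1 ((Ds P Q).inv_mem ha)
    have h3 : (τ * a * τ⁻¹) * a⁻¹ ∈ (P : Subgroup G) := by
      have h4 : (τ * a * τ⁻¹) * a⁻¹ = τ * (a * τ⁻¹ * a⁻¹) := by group
      rw [h4]
      apply Subgroup.mul_mem _ hτ
      exact (Subgroup.mem_normalizer_iff.mp ha.1 _).mp (Subgroup.inv_mem _ hτ)
    have h5 := h.inter_eq_one hPQ _ h2 h3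
    have h6 : τ * a * τ⁻¹ = a := by
      rw [mul_inv_eq_one] at h5; exact h5
    rw [mul_inv_eq_iff_eq_mul] at h6
    exact h6.symm
  rw [hτ1, mul_one]; exact hd

/-- The fixed points of `D` are exactly two. -/
theorem fix_Ds {P Q W : Sylow 2 G} (hPQ : P ≠ Q) (hD : Ds P Q ≤ Nm W) : W = P ∨ W = Q := by
  by_contra hno
  push Not at hno
  obtain ⟨hWP, hWQ⟩ := hno
  have hPW : P ≠ W := hWP.symm
  have hcard : ∀ {A B : Sylow 2 G}, A ≠ B → Nat.card (Ds A B) = Nat.card (P : Subgroup G) - 1 := by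
    intro A B hAB
    rw [h.card_Ds hAB, card_sylow_eq A P]
  have hD1 : Ds P Q = Ds P W := by
    apply Subgroup.eq_of_le_of_card_ge (le_inf inf_le_left hD)
    rw [hcard hPW, hcard hPQ]
  have hD2 : Ds P Q = Ds W Q := by
    apply Subgroup.eq_of_le_of_card_ge (le_inf hD inf_le_right)
    rw [hcard hWQ, hcard hPQ]
  obtain ⟨u, hu, huP⟩ := h.exists_swap hPQ
  obtain ⟨v, hv, hvP⟩ := h.exists_swap hPW
  obtain ⟨k, hk, hkW⟩ := h.exists_swap hWQ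
  have iu := h.inverts hPQ hu huP
  have iv : ∀ a ∈ Ds P Q, v * a * v⁻¹ = a⁻¹ := by
    rw [hD1]; exact h.inverts hPW hv hvP
  have ik : ∀ a ∈ Ds P Q, k * a * k⁻¹ = a⁻¹ := by
    rw [hD2]; exact h.inverts hWQ hk hkW
  have huu := mul_self_of_order hu
  have hvv := mul_self_of_order hv
  have hkk := mul_self_of_order hk
  have hui := inv_of_order hu
  have hvi := inv_of_order hv
  have hki := inv_of_order hk
  have hvW : v • W = P := by
    rw [← hvP, ← mul_smul, hvv, one_smul]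
  have hkQ : k • Q = W := by
    rw [← hkW, ← mul_smul, hkk, one_smul]
  set e : G := k * (u * v) with he
  have heW : e ∈ Nm W := by
    rw [mem_Nm_iff, he, mul_smul, mul_smul, hvW, huP, hkQ]
  have hen : ∀ a ∈ Ds W Q, e * a * e⁻¹ ∈ Ds W Q := by
    intro a ha
    rw [← hD2] at ha ⊢
    have e1 : e * a * e⁻¹ = k * (u * (v * a * v⁻¹) * u⁻¹) * k⁻¹ := by
      rw [he]; group
    rw [e1, iv a ha, iu _ ((Ds P Q).inv_mem ha), inv_inv, ik a ha]
    exact (Ds P Q).inv_mem ha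
  have heD : e ∈ Ds W Q := h.mem_of_normalizes hWQ heW hen
  have heD' : e ∈ Ds P Q := by rw [hD2]; exact heD
  have huv : u * v = k * e := by rw [he, ← mul_assoc, hkk, one_mul]
  have hsq : (u * v) * (u * v) = 1 := by
    rw [huv]
    have e1 : k * e * (k * e) = (k * e * k⁻¹) * e := by
      rw [hki]; group
    rw [e1, ik e heD', inv_mul_cancel]
  have hne : u * v ≠ 1 := by
    intro h1
    have h2 : u = v := by
      have := eq_inv_of_mul_eq_one_left h1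
      rwa [hvi] at this
    apply hWQ
    rw [← hvP, ← huP, h2]
  have ho : orderOf (u * v) = 2 := order_of_mul_self hsq hne
  obtain ⟨a, ha, ha1⟩ := h.exists_ne_one hPQ
  apply ha1
  apply h.eq_one_of_comm hPQ ho ha
  have e2 : (u * v) * a * (u * v)⁻¹ = a := by
    have e3 : (u * v) * a * (u * v)⁻¹ = u * (v * a * v⁻¹) * u⁻¹ := by group
    rw [e3, iv a ha, iu _ ((Ds P Q).inv_mem ha), inv_inv]
  rw [mul_inv_eq_iff_eq_mul] at e2
  exact e2.symm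

/-- A non-trivial element of `D` has exactly two fixed points. -/
theorem fix_elt {P Q W : Sylow 2 G} (hPQ : P ≠ Q) {d : G} (hd : d ∈ Ds P Q) (hd1 : d ≠ 1)
    (hW : d ∈ Nm W) : W = P ∨ W = Q := by
  by_cases hWP : W = P
  · exact Or.inl hWP
  have hPW : P ≠ W := fun e => hWP e.symm
  let C : Subgroup G := Nm P ⊓ Subgroup.centralizer ({d} : Set G)
  have hCP : ∀ a ∈ C, a ∈ (P : Subgroup G) → a = 1 := by
    intro a ha haP
    by_contra ha1
    apply hd1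
    apply h.eq_one_of_comm hPQ (h.orderOf_of_mem haP ha1) hd
    have := Subgroup.mem_centralizer_iff.mp ha.2 d rfl
    exact this
  have hCcard := h.card_le_of_inf (A := C) inf_le_left hCP
  have mem_C : ∀ {R : Sylow 2 G}, P ≠ R → d ∈ Ds P R → Ds P R ≤ C := by
    intro R hPR hdR a ha
    refine ⟨ha.1, ?_⟩
    show a ∈ Subgroup.centralizer ({d} : Set G)
    rw [Subgroup.mem_centralizer_iff]
    intro x hx
    rw [Set.mem_singleton_iff] at hx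
    subst hx
    exact h.comm_Ds hPR hdR ha
  have e1 : Ds P Q = C := by
    apply Subgroup.eq_of_le_of_card_ge (mem_C hPQ hd)
    rw [h.card_Ds hPQ]; exact hCcard
  have e2 : Ds P W = C := by
    apply Subgroup.eq_of_le_of_card_ge (mem_C hPW ⟨hd.1, hW⟩)
    rw [h.card_Ds hPW]; exact hCcard
  apply h.fix_Ds hPQ
  intro a ha
  have : a ∈ Ds P W := by rw [e2, ← e1]; exact ha
  exact this.2

/-- `P` is transitive on the other points. -/
theorem trans_P {P Q W : Sylow 2 G} (hPQ : P ≠ Q) (hPW : P ≠ W) :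
    ∃ τ ∈ (P : Subgroup G), τ • Q = W := by
  obtain ⟨d₂, hd₂, hd₂1⟩ := h.exists_ne_one hPW
  obtain ⟨d₀, hd₀, τ₀, hτ₀, he⟩ := h.decomp hPQ hd₂.1
  have hd₀1 : d₀ ≠ 1 := by
    rintro rfl
    rw [one_mul] at he
    apply hd₂1
    apply h.inter_eq_one hPW _ hd₂
    rw [he]; exact hτ₀
  have hnorm : ∀ τ ∈ (P : Subgroup G), d₀ * τ * d₀⁻¹ ∈ (P : Subgroup G) := fun τ hτ =>
    (Subgroup.mem_normalizer_iff.mp hd₀.1 τ).mp hτ
  let f : ↥(P : Subgroup G) → ↥(P : Subgroup G) := fun τ =>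
    ⟨(τ : G) * (d₀ * (τ : G)⁻¹ * d₀⁻¹), Subgroup.mul_mem _ τ.2 (hnorm _ (Subgroup.inv_mem _ τ.2))⟩
  have hf : Function.Injective f := by
    intro a b hab
    have h1 : (a : G) * (d₀ * (a : G)⁻¹ * d₀⁻¹) = b * (d₀ * (b : G)⁻¹ * d₀⁻¹) := congrArg Subtype.val hab
    have h2 : ((b : G)⁻¹ * a) * d₀ = d₀ * ((b : G)⁻¹ * a) := by
      have h3 : (a : G) * d₀ * (a : G)⁻¹ = b * d₀ * (b : G)⁻¹ := by
        have h4 := congrArg (· * d₀) h1
        simp only [mul_assoc, inv_mul_cancel, mul_one] at h4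
        simpa [mul_assoc] using h4
      calc ((b : G)⁻¹ * a) * d₀ = (b : G)⁻¹ * (a * d₀ * (a : G)⁻¹) * a := by group
        _ = (b : G)⁻¹ * (b * d₀ * (b : G)⁻¹) * a := by rw [h3]
        _ = d₀ * ((b : G)⁻¹ * a) := by group
    have h5 : (b : G)⁻¹ * a = 1 := by
      by_contra hne
      have hmem : (b : G)⁻¹ * a ∈ (P : Subgroup G) := Subgroup.mul_mem _ (Subgroup.inv_mem _ b.2) a.2
      exact hd₀1 (h.eq_one_of_comm hPQ (h.orderOf_of_mem hmem hne) hd₀ h2.symm)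
    apply Subtype.ext
    have : (a : G) = b * ((b : G)⁻¹ * a) := by group
    rw [this, h5, mul_one]
  obtain ⟨τ, hτ⟩ := (Finite.injective_iff_surjective.mp hf) ⟨d₀ * τ₀ * d₀⁻¹, hnorm _ hτ₀⟩
  have hτv : (τ : G) * (d₀ * (τ : G)⁻¹ * d₀⁻¹) = d₀ * τ₀ * d₀⁻¹ := congrArg Subtype.val hτ
  have hd₂e : d₂ = τ * d₀ * (τ : G)⁻¹ := by
    calc d₂ = d₀ * τ₀ := he
      _ = (d₀ * τ₀ * d₀⁻¹) * d₀ := by group
      _ = ((τ : G) * (d₀ * (τ : G)⁻¹ * d₀⁻¹)) * d₀ := by rw [hτv]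
      _ = τ * d₀ * (τ : G)⁻¹ := by group
  refine ⟨τ, τ.2, ?_⟩
  have hfix : d₂ ∈ Nm ((τ : G) • Q) := by
    rw [mem_Nm_smul, hd₂e]
    have : (τ : G)⁻¹ * (τ * d₀ * (τ : G)⁻¹) * τ = d₀ := by group
    rw [this]; exact hd₀.2
  have hτP : (τ : G) • P = P := mem_Nm_iff.mp (Subgroup.le_normalizer τ.2)
  rcases h.fix_elt hPW hd₂ hd₂1 hfix with h1 | h1
  · exfalso
    apply hPQ
    have h2 : (τ : G) • Q = (τ : G) • P := h1.trans hτP.symm
    exact (smul_left_cancel _ h2).symm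
  · exact h1

/-- `P` is semiregular on the other points. -/
theorem semireg {P Q : Sylow 2 G} (hPQ : P ≠ Q) {τ : G} (hτ : τ ∈ (P : Subgroup G)) (hQ : τ • Q = Q) :
    τ = 1 := h.inter_eq_one hPQ τ ⟨Subgroup.le_normalizer hτ, mem_Nm_iff.mpr hQ⟩ hτ

/-- `D` is transitive on the remaining points. -/
theorem trans_D {P Q W₁ W₂ : Sylow 2 G} (hPQ : P ≠ Q) (h1P : P ≠ W₁) (h1Q : Q ≠ W₁) (h2P : P ≠ W₂)
    (h2Q : Q ≠ W₂) : ∃ d ∈ Ds P Q, d • W₁ = W₂ := by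
  obtain ⟨τ₁, hτ₁, h1⟩ := h.trans_P hPQ h1P
  obtain ⟨τ₂, hτ₂, h2⟩ := h.trans_P hPQ h2P
  have hτ₁1 : τ₁ ≠ 1 := by
    rintro rfl
    rw [one_smul] at h1
    exact h1Q h1
  have hτ₂1 : τ₂ ≠ 1 := by
    rintro rfl
    rw [one_smul] at h2
    exact h2Q h2
  obtain ⟨i, hi, hiP⟩ := h.exists_swap hPQ
  have hiN : i ∉ Nm P := by
    intro h'
    apply hPQ
    rw [← hiP]
    exact (mem_Nm_iff.mp h').symm
  obtain ⟨d, hd, hde⟩ := exists_conj_inf (h.stronglyEmbedded P) hi hiN (h.orderOf_of_mem hτ₁ hτ₁1)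
    (Subgroup.le_normalizer hτ₁) (h.orderOf_of_mem hτ₂ hτ₂1) (Subgroup.le_normalizer hτ₂)
  have hd' : d ∈ Ds P Q := by
    have := Dd_eq_Ds (P := P) i
    rw [hiP] at this
    rw [← this]; exact hd
  refine ⟨d, hd', ?_⟩
  rw [← h1, ← h2, ← hde, ← mul_smul]
  have hdQ : d • Q = Q := mem_Nm_iff.mp hd'.2
  have e : d * τ₁ = d * τ₁ * d⁻¹ * d := by group
  calc (d * τ₁) • Q = (d * τ₁ * d⁻¹ * d) • Q := by rw [← e]
    _ = (d * τ₁ * d⁻¹) • d • Q := mul_smul _ _ _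
    _ = (d * τ₁ * d⁻¹) • Q := by rw [hdQ]

/-- An element fixing three points is trivial. -/
theorem eq_one_of_fix {P Q W : Sylow 2 G} {g : G} (hPQ : P ≠ Q) (hPW : P ≠ W) (hQW : Q ≠ W)
    (h1 : g • P = P) (h2 : g • Q = Q) (h3 : g • W = W) : g = 1 := by
  by_contra hg
  rcases h.fix_elt hPQ ⟨mem_Nm_iff.mpr h1, mem_Nm_iff.mpr h2⟩ hg (mem_Nm_iff.mpr h3) with e | e
  · exact hPW e.symm
  · exact hQW e.symm

/-- Triple transitivity. -/
theorem three_trans {x₁ x₂ x₃ y₁ y₂ y₃ : Sylow 2 G} (h12 : x₁ ≠ x₂) (h13 : x₁ ≠ x₃) (h23 : x₂ ≠ x₃)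
    (k12 : y₁ ≠ y₂) (k13 : y₁ ≠ y₃) (k23 : y₂ ≠ y₃) :
    ∃ g : G, g • x₁ = y₁ ∧ g • x₂ = y₂ ∧ g • x₃ = y₃ := by
  obtain ⟨g₁, hg₁⟩ := MulAction.exists_smul_eq G x₁ y₁
  have ha₂ : y₁ ≠ g₁ • x₂ := by
    rw [← hg₁]; exact fun e => h12 (smul_left_cancel _ e)
  have ha₃ : y₁ ≠ g₁ • x₃ := by
    rw [← hg₁]; exact fun e => h13 (smul_left_cancel _ e)
  obtain ⟨τ, hτ, hτ2⟩ := h.trans_P ha₂ k12
  have hτP : τ • y₁ = y₁ := mem_Nm_iff.mp (Subgroup.le_normalizer hτ)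
  have hb₃ : y₁ ≠ τ • g₁ • x₃ := by
    intro e
    rw [← hτP] at e
    exact ha₃ (smul_left_cancel _ e)
  have hb₃' : y₂ ≠ τ • g₁ • x₃ := by
    rw [← hτ2]
    intro e
    exact h23 (smul_left_cancel _ (smul_left_cancel _ e))
  obtain ⟨d, hd, hd2⟩ := h.trans_D k12 hb₃ hb₃' k13 k23
  refine ⟨d * τ * g₁, ?_, ?_, ?_⟩
  · rw [mul_smul, mul_smul, hg₁, hτP, mem_Nm_iff.mp hd.1]
  · rw [mul_smul, mul_smul, hτ2, mem_Nm_iff.mp hd.2]
  · rw [mul_smul, mul_smul, hd2]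

end CIT

end Cfsg.Agent.Lib.CITElem

namespace Cfsg.Agent.Lib.CITElem

variable {G : Type*} [Group G] [Finite G]

open Cfsg.Agent.Lib.EmbInvol

lemma smul_mk_iff {T : Sylow 2 G} (a g₁ g₂ : G) :
    a • (QuotientGroup.mk g₁ : G ⧸ Nm T) = QuotientGroup.mk g₂ ↔ a • g₁ • T = g₂ • T := by
  rw [smul_mk_eq_mk_iff, mem_Nm_iff, mul_smul, mul_smul, inv_smul_eq_iff]

lemma mk_eq_mk_iff {T : Sylow 2 G} (g₁ g₂ : G) :
    (QuotientGroup.mk g₁ : G ⧸ Nm T) = QuotientGroup.mk g₂ ↔ g₁ • T = g₂ • T := by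
  have := smul_mk_iff (T := T) 1 g₁ g₂
  simpa using this

end Cfsg.Agent.Lib.CITElem
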