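import Mathlib
import Cfsg.Agent.Lib.CITElem2

/-!
# Finite groups in which the centralizer of each involution is commutative: basics

Elementwise hypotheses `Hyp`: commutative involution centralizers, two distinct commuting involutions,
two non commuting involutions.  Points are the Sylow 2-subgroups.
-/

set_option autoImplicit false
set_option linter.unusedSectionVars false
set_option linter.unusedVariables false
set_option linter.style.haveILetI false

namespace Cfsg.Agent.Lib.CAInv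

open Cfsg Cfsg.Agent.Lib.EmbInvol Cfsg.Agent.Lib.CITElem

variable {G : Type*} [Group G] [Finite G]

/-- The midpoint. -/
noncomputable abbrev mid (a b : G) : G := EmbInvol.midpoint a b

/-- The hypotheses. -/
structure Hyp (G : Type*) [Group G] [Finite G] : Prop where
  hC : ∀ t : G, orderOf t = 2 → ∀ a b : G, a * t = t * a → b * t = t * b → a * b = b * a
  ex1 : ∃ s t : G, orderOf s = 2 ∧ orderOf t = 2 ∧ s ≠ t ∧ s * t = t * s
  ex2 : ∃ s t : G, orderOf s = 2 ∧ orderOf t = 2 ∧ s * t ≠ t * s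

/-- Centralizer of a Sylow subgroup. -/
abbrev Cn (P : Sylow 2 G) : Subgroup G := Subgroup.centralizer ((P : Subgroup G) : Set G)

lemma mem_smul_iff {P : Sylow 2 G} {g a : G} :
    a ∈ ((g • P : Sylow 2 G) : Subgroup G) ↔ g⁻¹ * a * g ∈ (P : Subgroup G) := by
  rw [Sylow.coe_subgroup_smul]
  rw [Subgroup.mem_smul_pointwise_iff_exists]
  constructor
  · rintro ⟨x, hx, rfl⟩
    simpa [MulAut.smul_def, MulAut.conj_apply, mul_assoc] using hx
  · intro h
    exact ⟨_, h, by simp [MulAut.smul_def, MulAut.conj_apply, mul_assoc]⟩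

lemma conj_mem_smul {P : Sylow 2 G} {g a : G} (ha : a ∈ (P : Subgroup G)) :
    g * a * g⁻¹ ∈ ((g • P : Sylow 2 G) : Subgroup G) := by
  rw [mem_smul_iff]
  simpa [mul_assoc] using ha

lemma mem_Cn_iff {P : Sylow 2 G} {c : G} : c ∈ Cn P ↔ ∀ a ∈ (P : Subgroup G), a * c = c * a := by
  rw [Subgroup.mem_centralizer_iff]
  rfl

lemma Cn_le_Nm (P : Sylow 2 G) : Cn P ≤ Nm P := by
  intro c hc
  rw [Nm, Subgroup.mem_normalizer_iff]
  intro a
  have hc' := mem_Cn_iff.mp hc
  constructor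
  · intro ha
    have : c * a * c⁻¹ = a := by rw [← hc' a ha]; group
    rwa [this]
  · intro ha
    have h1 := (Cn P).inv_mem hc
    have h2 := mem_Cn_iff.mp h1 _ ha
    have : a = c⁻¹ * (c * a * c⁻¹) * c := by group
    rw [this, ← h2]
    simpa using ha

lemma conj_mem_Cn {P : Sylow 2 G} {h c : G} (hh : h ∈ Nm P) (hc : c ∈ Cn P) : h * c * h⁻¹ ∈ Cn P := by
  rw [mem_Cn_iff] at hc ⊢
  intro a ha
  have h1 : h⁻¹ * a * h ∈ (P : Subgroup G) := by
    have := (Subgroup.mem_normalizer_iff.mp ((Nm P).inv_mem hh) a).mp ha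
    simpa using this
  have h2 := hc _ h1
  calc a * (h * c * h⁻¹) = h * ((h⁻¹ * a * h) * c) * h⁻¹ := by group
    _ = h * (c * (h⁻¹ * a * h)) * h⁻¹ := by rw [h2]
    _ = h * c * h⁻¹ * a := by group

lemma odd_eq_one_of_mul_self {x : G} (hx : Odd (orderOf x)) (h : x * x = 1) : x = 1 := by
  have h1 : orderOf x ∣ 2 := orderOf_dvd_of_pow_eq_one (by rw [pow_two]; exact h)
  rcases (Nat.dvd_prime Nat.prime_two).1 h1 with h2 | h2
  · exact orderOf_eq_one_iff.1 h2
  · rw [h2] at hx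
    exact absurd hx (by decide)

/-- An element of odd order lies in any subgroup containing its square. -/
lemma mem_of_sq_mem {x : G} (hx : Odd (orderOf x)) {L : Subgroup G} (h : x * x ∈ L) : x ∈ L := by
  obtain ⟨m, hm⟩ := hx
  have h1 : x ^ (orderOf x) = 1 := pow_orderOf_eq_one x
  have h2 : x = (x * x) ^ (m + 1) := by
    rw [← pow_two, ← pow_mul]
    have : 2 * (m + 1) = orderOf x + 1 := by omega
    rw [this, pow_succ, h1, one_mul]
  rw [h2]
  exact L.pow_mem h _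

lemma odd_of_mem_odd {L : Subgroup G} (hL : Odd (Nat.card L)) {x : G} (hx : x ∈ L) :
    Odd (orderOf x) := by
  have h1 : orderOf (⟨x, hx⟩ : L) ∣ Nat.card L := orderOf_dvd_natCard _
  rw [Subgroup.orderOf_mk] at h1
  exact Odd.of_dvd_nat hL h1

lemma odd_card_of_no_invol {L : Subgroup G} (hL : ∀ x ∈ L, orderOf x ≠ 2) : Odd (Nat.card L) := by
  by_contra h
  rw [Nat.not_odd_iff_even] at h
  obtain ⟨t, ht⟩ := exists_prime_orderOf_dvd_card' 2 h.two_dvd
  apply hL t t.2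
  rw [← ht]
  exact Subgroup.orderOf_coe _

lemma mid_mem {L : Subgroup G} {s t : G} (hs : s ∈ L) (ht : t ∈ L) : mid s t ∈ L := by
  unfold mid EmbInvol.midpoint
  exact L.mul_mem (L.pow_mem (L.mul_mem hs ht) _) ht

lemma conj_order {x : G} (g : G) (hx : orderOf x = 2) : orderOf (g * x * g⁻¹) = 2 := by
  have := MulEquiv.orderOf_eq (MulAut.conj g) x
  simp only [MulAut.conj_apply] at this
  rw [this, hx]

lemma mem_of_invol_Nm {P : Sylow 2 G} {c : G} (hc : c ∈ Nm P) (hc2 : c * c = 1) :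
    c ∈ (P : Subgroup G) := by
  by_cases hc1 : c = 1
  · rw [hc1]; exact Subgroup.one_mem _
  · have ho : orderOf c = 2 := order_of_mul_self hc2 hc1
    have hQ : IsPGroup 2 (Subgroup.zpowers c) := by
      apply IsPGroup.of_card (n := 1)
      rw [Nat.card_zpowers, ho, pow_one]
    have h1 := hQ.inf_normalizer_sylow P
    have h2 : c ∈ Subgroup.zpowers c ⊓ Nm P :=
      ⟨Subgroup.mem_zpowers c, hc⟩
    rw [show Subgroup.zpowers c ⊓ Nm P = Subgroup.zpowers c ⊓ (P : Subgroup G) from h1] at h2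
    exact h2.2

lemma le_of_le_Nm {P : Sylow 2 G} {Q : Subgroup G} (hQ : IsPGroup 2 Q) (hle : Q ≤ Nm P) :
    Q ≤ (P : Subgroup G) := by
  intro x hx
  have h1 := hQ.inf_normalizer_sylow P
  have h2 : x ∈ Q ⊓ Nm P := ⟨hx, hle hx⟩
  rw [show Q ⊓ Nm P = Q ⊓ (P : Subgroup G) from h1] at h2
  exact h2.2

lemma exists_sylow_mem {t : G} (ht : orderOf t = 2) : ∃ P : Sylow 2 G, t ∈ (P : Subgroup G) := by
  have hQ : IsPGroup 2 (Subgroup.zpowers t) := by
    apply IsPGroup.of_card (n := 1)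
    rw [Nat.card_zpowers, ht, pow_one]
  obtain ⟨P, hP⟩ := hQ.exists_le_sylow
  exact ⟨P, hP (Subgroup.mem_zpowers t)⟩

namespace Hyp

variable (h : Hyp G)
include h

lemma comm_trans {s t c : G} (hs : orderOf s = 2) (hst : s * t = t * s) (hc : c * s = s * c) :
    c * t = t * c := h.hC s hs c t hc hst.symm

/-- Non commuting involutions have a product of odd order. -/
lemma odd_mul {s t : G} (hs : orderOf s = 2) (ht : orderOf t = 2) (hst : s * t ≠ t * s) :
    Odd (orderOf (s * t)) := by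
  by_contra ho
  rw [Nat.not_odd_iff_even] at ho
  obtain ⟨c, hc, hcs, hct⟩ := exists_central_of_even (mul_self_of_order hs) (mul_self_of_order ht) ho
  exact hst (h.hC c hc s t hcs.symm hct.symm)

/-- The midpoint of non commuting involutions. -/
lemma mid_spec {s t : G} (hs : orderOf s = 2) (ht : orderOf t = 2) (hst : s * t ≠ t * s) :
    orderOf (mid s t) = 2 ∧ mid s t * s * mid s t = t := by
  have hss := mul_self_of_order hs
  have htt := mul_self_of_order ht
  have hv : mid s t * mid s t = 1 := midpoint_mul_self hss htt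
  have hc : mid s t * s * mid s t = t := midpoint_conj hss htt (h.odd_mul hs ht hst)
  refine ⟨order_of_mul_self hv ?_, hc⟩
  intro h1
  rw [h1] at hc
  simp only [one_mul, mul_one] at hc
  rw [hc] at hst
  exact hst rfl

/-- Three involutions: conjugacy in any subgroup containing them. -/
lemma exists_conj_in {L : Subgroup G} {s t w : G} (hs : orderOf s = 2) (ht : orderOf t = 2)
    (hw : orderOf w = 2) (hsw : s * w ≠ w * s) (htw : t * w ≠ w * t) (hsL : s ∈ L) (htL : t ∈ L)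
    (hwL : w ∈ L) : ∃ n ∈ L, n * s * n⁻¹ = t := by
  obtain ⟨h1, h2⟩ := h.mid_spec hs hw hsw
  obtain ⟨h3, h4⟩ := h.mid_spec ht hw htw
  refine ⟨mid t w * mid s w, L.mul_mem (mid_mem htL hwL) (mid_mem hsL hwL), ?_⟩
  have h5 := inv_of_order h1
  have h6 := inv_of_order h3
  have h7 := mul_self_of_order h3
  rw [mul_inv_rev, h5, h6]
  calc mid t w * mid s w * s * (mid s w * mid t w)
      = mid t w * (mid s w * s * mid s w) * mid t w := by group
    _ = mid t w * w * mid t w := by rw [h2]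
    _ = mid t w * (mid t w * t * mid t w) * mid t w := by rw [h4]
    _ = (mid t w * mid t w) * t * (mid t w * mid t w) := by group
    _ = t := by rw [h7]; simp

/-! ## Sylow subgroups -/

lemma exists_invol (P : Sylow 2 G) : ∃ z ∈ (P : Subgroup G), orderOf z = 2 := by
  obtain ⟨s, -, hs, -, -, -⟩ := h.ex1
  obtain ⟨P', hP'⟩ := exists_sylow_mem hs
  obtain ⟨g, rfl⟩ := MulAction.exists_smul_eq G P' P
  exact ⟨_, conj_mem_smul hP', conj_order g hs⟩

lemma comm_of_mem {P : Sylow 2 G} {a b : G} (ha : a ∈ (P : Subgroup G))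
    (hb : b ∈ (P : Subgroup G)) : a * b = b * a := by
  obtain ⟨z₀, hz₀, hz₀2⟩ := h.exists_invol P
  have hP : IsPGroup 2 (P : Subgroup G) := P.2
  haveI : Nontrivial (P : Subgroup G) :=
    ⟨⟨⟨z₀, hz₀⟩, 1, fun h' => ne_one_of_order hz₀2 (congrArg Subtype.val h')⟩⟩
  haveI := hP.center_nontrivial
  obtain ⟨k, hk⟩ := IsPGroup.iff_card.mp (hP.to_subgroup (Subgroup.center (P : Subgroup G)))
  have hk0 : k ≠ 0 := by
    rintro rfl
    have h1 : 1 < Nat.card (Subgroup.center (P : Subgroup G)) := Finite.one_lt_card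
    omega
  have h2 : 2 ∣ Nat.card (Subgroup.center (P : Subgroup G)) := by
    rw [hk]; exact dvd_pow_self 2 hk0
  obtain ⟨z, hz⟩ := exists_prime_orderOf_dvd_card' 2 h2
  have hz2 : orderOf ((z : (P : Subgroup G)) : G) = 2 := by
    have e1 : orderOf ((z : (P : Subgroup G)) : G) = orderOf (z : (P : Subgroup G)) :=
      Subgroup.orderOf_coe _
    have e2 : orderOf (z : (P : Subgroup G)) = orderOf z := Subgroup.orderOf_coe _
    rw [e1, e2, hz]
  have hzc : ∀ a ∈ (P : Subgroup G), a * ((z : (P : Subgroup G)) : G) = ((z : (P : Subgroup G)) : G) * a := by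
    intro a ha
    have := (Subgroup.mem_center_iff.mp z.2) ⟨a, ha⟩
    exact congrArg Subtype.val this
  exact h.hC _ hz2 a b (hzc a ha) (hzc b hb)

lemma mem_Cn_of_comm {P : Sylow 2 G} {s c : G} (hs : orderOf s = 2) (hsP : s ∈ (P : Subgroup G))
    (hc : c * s = s * c) : c ∈ Cn P := by
  rw [mem_Cn_iff]
  intro a ha
  exact h.hC s hs a c (h.comm_of_mem ha hsP) hc

lemma comm_of_mem_Cn {P : Sylow 2 G} {s c : G} (hsP : s ∈ (P : Subgroup G)) (hc : c ∈ Cn P) :
    c * s = s * c := (mem_Cn_iff.mp hc s hsP).symm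

lemma Cn_comm {P : Sylow 2 G} {a b : G} (ha : a ∈ Cn P) (hb : b ∈ Cn P) : a * b = b * a := by
  obtain ⟨z, hz, hz2⟩ := h.exists_invol P
  exact h.hC z hz2 a b (h.comm_of_mem_Cn hz ha) (h.comm_of_mem_Cn hz hb)

lemma eq_of_mem {P Q : Sylow 2 G} {t : G} (ht : orderOf t = 2) (htP : t ∈ (P : Subgroup G))
    (htQ : t ∈ (Q : Subgroup G)) : P = Q := by
  have hle : (Q : Subgroup G) ≤ Nm P := by
    intro a ha
    exact Cn_le_Nm P (h.mem_Cn_of_comm ht htP (h.comm_of_mem ha htQ))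
  have h1 := le_of_le_Nm Q.2 hle
  have h2 := Q.is_maximal' P.2 h1
  exact Sylow.ext h2

lemma comm_iff {P Q : Sylow 2 G} {s t : G} (hs : orderOf s = 2) (ht : orderOf t = 2)
    (hsP : s ∈ (P : Subgroup G)) (htQ : t ∈ (Q : Subgroup G)) : s * t = t * s ↔ P = Q := by
  constructor
  · intro hst
    have h1 : t ∈ Cn P := h.mem_Cn_of_comm hs hsP hst.symm
    have h2 : t ∈ (P : Subgroup G) := mem_of_invol_Nm (Cn_le_Nm P h1) (mul_self_of_order ht)
    exact h.eq_of_mem ht h2 htQ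
  · rintro rfl
    exact h.comm_of_mem hsP htQ

lemma smul_eq_of_conj {P Q : Sylow 2 G} {s t g : G} (ht : orderOf t = 2)
    (hsP : s ∈ (P : Subgroup G)) (htQ : t ∈ (Q : Subgroup G)) (hg : g * s * g⁻¹ = t) : g • P = Q := by
  have h1 : t ∈ ((g • P : Sylow 2 G) : Subgroup G) := by
    rw [← hg]; exact conj_mem_smul hsP
  exact h.eq_of_mem ht h1 htQ

/-- The midpoint swaps the Sylow subgroups. -/
lemma swap {P Q : Sylow 2 G} (hPQ : P ≠ Q) {s w : G} (hs : orderOf s = 2) (hw : orderOf w = 2)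
    (hsP : s ∈ (P : Subgroup G)) (hwQ : w ∈ (Q : Subgroup G)) :
    orderOf (mid s w) = 2 ∧ mid s w * s * mid s w = w ∧ mid s w • P = Q ∧
      mid s w • Q = P := by
  have hsw : s * w ≠ w * s := fun h' => hPQ ((h.comm_iff hs hw hsP hwQ).mp h')
  obtain ⟨h1, h2⟩ := h.mid_spec hs hw hsw
  have h3 : mid s w • P = Q := h.smul_eq_of_conj hw hsP hwQ (by rw [inv_of_order h1]; exact h2)
  refine ⟨h1, h2, h3, ?_⟩
  rw [← h3, ← mul_smul, mul_self_of_order h1, one_smul]

/-- Two points are swapped by an involution. -/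
lemma exists_swap {P Q : Sylow 2 G} (hPQ : P ≠ Q) : ∃ u : G, orderOf u = 2 ∧ u • P = Q ∧ u • Q = P := by
  obtain ⟨s, hsP, hs⟩ := h.exists_invol P
  obtain ⟨w, hwQ, hw⟩ := h.exists_invol Q
  obtain ⟨h1, -, h3, h4⟩ := h.swap hPQ hs hw hsP hwQ
  exact ⟨_, h1, h3, h4⟩

/-- The two point stabilizer is transitive on the involutions of `P`. -/
lemma Ds_trans {P Q : Sylow 2 G} (hPQ : P ≠ Q) {s t : G} (hs : orderOf s = 2) (ht : orderOf t = 2)
    (hsP : s ∈ (P : Subgroup G)) (htP : t ∈ (P : Subgroup G)) : ∃ d ∈ Ds P Q, d * s * d⁻¹ = t := by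
  obtain ⟨w, hwQ, hw⟩ := h.exists_invol Q
  obtain ⟨h1, h2, h3, h4⟩ := h.swap hPQ hs hw hsP hwQ
  obtain ⟨h5, h6, h7, h8⟩ := h.swap hPQ ht hw htP hwQ
  refine ⟨mid t w * mid s w, ⟨?_, ?_⟩, ?_⟩
  · exact mem_Nm_iff.mpr (by rw [mul_smul, h3, h8])
  · exact mem_Nm_iff.mpr (by rw [mul_smul, h4, h7])
  · have h9 := mul_self_of_order h5
    rw [mul_inv_rev, inv_of_order h1, inv_of_order h5]
    calc mid t w * mid s w * s * (mid s w * mid t w)
        = mid t w * (mid s w * s * mid s w) * mid t w := by group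
      _ = mid t w * w * mid t w := by rw [h2]
      _ = mid t w * (mid t w * t * mid t w) * mid t w := by rw [h6]
      _ = (mid t w * mid t w) * t * (mid t w * mid t w) := by group
      _ = t := by rw [h9]; simp

/-- The point stabilizer is the product of the centralizer and a two point stabilizer. -/
lemma Nm_decomp {P Q : Sylow 2 G} (hPQ : P ≠ Q) {x : G} (hx : x ∈ Nm P) :
    ∃ d ∈ Ds P Q, d⁻¹ * x ∈ Cn P := by
  obtain ⟨s, hsP, hs⟩ := h.exists_invol P
  have h1 : x * s * x⁻¹ ∈ (P : Subgroup G) := (Subgroup.mem_normalizer_iff.mp hx s).mp hsP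
  obtain ⟨d, hd, hds⟩ := h.Ds_trans hPQ hs (conj_order x hs) hsP h1
  refine ⟨d, hd, h.mem_Cn_of_comm hs hsP ?_⟩
  calc d⁻¹ * x * s = d⁻¹ * (x * s * x⁻¹) * x := by group
    _ = d⁻¹ * (d * s * d⁻¹) * x := by rw [hds]
    _ = s * (d⁻¹ * x) := by group

/-- An involution in a two point stabilizer does not exist. -/
lemma Ds_no_invol {P Q : Sylow 2 G} (hPQ : P ≠ Q) {x : G} (hx : x ∈ Ds P Q) : orderOf x ≠ 2 := by
  intro ho
  have hxx := mul_self_of_order ho
  exact hPQ (h.eq_of_mem ho (mem_of_invol_Nm hx.1 hxx) (mem_of_invol_Nm hx.2 hxx))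

lemma odd_Ds {P Q : Sylow 2 G} (hPQ : P ≠ Q) : Odd (Nat.card (Ds P Q)) :=
  odd_card_of_no_invol (fun _ hx => h.Ds_no_invol hPQ hx)

lemma odd_of_Ds {P Q : Sylow 2 G} (hPQ : P ≠ Q) {x : G} (hx : x ∈ Ds P Q) : Odd (orderOf x) :=
  odd_of_mem_odd (h.odd_Ds hPQ) hx

/-- Two distinct involutions in each Sylow subgroup. -/
lemma exists_two_invol (P : Sylow 2 G) : ∃ s ∈ (P : Subgroup G), ∃ t ∈ (P : Subgroup G),
    orderOf s = 2 ∧ orderOf t = 2 ∧ s ≠ t := by
  obtain ⟨s, t, hs, ht, hst, hc⟩ := h.ex1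
  obtain ⟨P', hP'⟩ := exists_sylow_mem hs
  obtain ⟨Q', hQ'⟩ := exists_sylow_mem ht
  have e : P' = Q' := (h.comm_iff hs ht hP' hQ').mp hc
  subst e
  obtain ⟨g, rfl⟩ := MulAction.exists_smul_eq G P' P
  refine ⟨_, conj_mem_smul hP', _, conj_mem_smul hQ', conj_order g hs, conj_order g ht, ?_⟩
  intro he
  apply hst
  have := mul_left_cancel (mul_right_cancel he)
  exact this

/-- Two distinct Sylow subgroups. -/
lemma exists_two_sylow : ∃ P Q : Sylow 2 G, P ≠ Q := by
  obtain ⟨s, t, hs, ht, hc⟩ := h.ex2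
  obtain ⟨P', hP'⟩ := exists_sylow_mem hs
  obtain ⟨Q', hQ'⟩ := exists_sylow_mem ht
  exact ⟨P', Q', fun e => hc ((h.comm_iff hs ht hP' hQ').mpr e)⟩

lemma exists_ne (P : Sylow 2 G) : ∃ Q : Sylow 2 G, P ≠ Q := by
  obtain ⟨P', Q', hne⟩ := h.exists_two_sylow
  by_cases hP : P = P'
  · exact ⟨Q', hP ▸ hne⟩
  · exact ⟨P', hP⟩

/-- A third point. -/
lemma exists_third {P Q : Sylow 2 G} (hPQ : P ≠ Q) : ∃ W : Sylow 2 G, W ≠ P ∧ W ≠ Q := by
  obtain ⟨u, hu, h1, h2⟩ := h.exists_swap hPQ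
  obtain ⟨W, hW⟩ := exists_sylow_mem hu
  have huW : u • W = W := mem_Nm_iff.mp (Subgroup.le_normalizer hW)
  refine ⟨W, ?_, ?_⟩
  · rintro rfl
    exact hPQ (huW.symm.trans h1)
  · rintro rfl
    exact hPQ (h2.symm.trans huW)

end Hyp

end Cfsg.Agent.Lib.CAInv
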