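import Mathlib

/-!
# Central extensions of `SL₂` over a field of characteristic two with a kernel of odd order split
-/

set_option autoImplicit false
set_option linter.unusedSectionVars false
set_option linter.unusedVariables false
set_option linter.style.haveILetI false

namespace Cfsg.Agent.Lib.CAInv

open Matrix

section mat

variable {K : Type*} [Field K] [CharP K 2]

lemma two_eq_zero' : (2 : K) = 0 := by
  exact_mod_cast CharP.cast_eq_zero K 2

lemma coord0 (Y : Matrix (Fin 2) (Fin 2) K) (v : Fin 2 → K) :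
    (Y.mulVec v) 0 = Y 0 0 * v 0 + Y 0 1 * v 1 := by
  simp [Matrix.mulVec, dotProduct, Fin.sum_univ_two]

lemma coord1 (Y : Matrix (Fin 2) (Fin 2) K) (v : Fin 2 → K) :
    (Y.mulVec v) 1 = Y 1 0 * v 0 + Y 1 1 * v 1 := by
  simp [Matrix.mulVec, dotProduct, Fin.sum_univ_two]

lemma ne_zero_coord {v : Fin 2 → K} (hv : v ≠ 0) : v 0 ≠ 0 ∨ v 1 ≠ 0 := by
  by_contra hc
  push Not at hc
  apply hv
  funext i
  fin_cases i
  · exact hc.1
  · exact hc.2

/-- A matrix of determinant one with a fixed vector squares to one. -/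
lemma sq_eq_one_of_fix (Y : Matrix (Fin 2) (Fin 2) K) (hdet : Y.det = 1) {v : Fin 2 → K} (hv : v ≠ 0)
    (hYv : Y.mulVec v = v) : Y * Y = 1 := by
  have h0 : Y 0 0 * v 0 + Y 0 1 * v 1 = v 0 := by rw [← coord0, hYv]
  have h1 : Y 1 0 * v 0 + Y 1 1 * v 1 = v 1 := by rw [← coord1, hYv]
  have hd : Y 0 0 * Y 1 1 - Y 0 1 * Y 1 0 = 1 := by rwa [Matrix.det_fin_two] at hdet
  have h2 : (2 : K) = 0 := two_eq_zero'
  have hE : (Y 0 0 - 1) * (Y 1 1 - 1) - Y 0 1 * Y 1 0 = 0 := by
    rcases ne_zero_coord hv with hi | hi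
    · apply mul_right_cancel₀ hi
      linear_combination (Y 1 1 - 1) * h0 - Y 0 1 * h1
    · apply mul_right_cancel₀ hi
      linear_combination (Y 0 0 - 1) * h1 - Y 1 0 * h0
  have htr : Y 0 0 + Y 1 1 = 0 := by linear_combination hd - hE + h2
  ext i j
  fin_cases i <;> fin_cases j <;> simp [Matrix.mul_apply, Fin.sum_univ_two]
  · linear_combination Y 0 0 * htr - hd - h2
  · linear_combination Y 0 1 * htr
  · linear_combination Y 1 0 * htr
  · linear_combination Y 1 1 * htr - hd - h2

/-- An eigenvector of a non trivial matrix of determinant one is also an eigenvector of every matrix commuting with it. -/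
lemma exists_mul_of_comm (X Y : Matrix (Fin 2) (Fin 2) K) (hX : X.det = 1) (hX1 : X ≠ 1)
    (hc : X * Y = Y * X) {v : Fin 2 → K} (hv : v ≠ 0) {l : K} (hXv : X.mulVec v = l • v) :
    ∃ m : K, Y.mulVec v = m • v := by
  set w := Y.mulVec v with hw
  have hXw : X.mulVec w = l • w := by
    rw [hw, Matrix.mulVec_mulVec, hc, ← Matrix.mulVec_mulVec, hXv, Matrix.mulVec_smul]
  have e1 : X 0 0 * v 0 + X 0 1 * v 1 = l * v 0 := by
    rw [← coord0, hXv]; simp
  have e2 : X 1 0 * v 0 + X 1 1 * v 1 = l * v 1 := by
    rw [← coord1, hXv]; simp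
  have e3 : X 0 0 * w 0 + X 0 1 * w 1 = l * w 0 := by
    rw [← coord0, hXw]; simp
  have e4 : X 1 0 * w 0 + X 1 1 * w 1 = l * w 1 := by
    rw [← coord1, hXw]; simp
  have hd : X 0 0 * X 1 1 - X 0 1 * X 1 0 = 1 := by rwa [Matrix.det_fin_two] at hX
  have h2 : (2 : K) = 0 := two_eq_zero'
  have hdelta : v 0 * w 1 - v 1 * w 0 = 0 := by
    by_contra hδ
    have h00 : X 0 0 = l := by
      have : (X 0 0 - l) * (v 0 * w 1 - v 1 * w 0) = 0 := by
        linear_combination w 1 * e1 - v 1 * e3
      have h3 := (mul_eq_zero.mp this).resolve_right hδ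
      linear_combination h3
    have h01 : X 0 1 = 0 := by
      have : X 0 1 * (v 0 * w 1 - v 1 * w 0) = 0 := by
        linear_combination v 0 * e3 - w 0 * e1
      exact (mul_eq_zero.mp this).resolve_right hδ
    have h10 : X 1 0 = 0 := by
      have : X 1 0 * (v 0 * w 1 - v 1 * w 0) = 0 := by
        linear_combination w 1 * e2 - v 1 * e4
      exact (mul_eq_zero.mp this).resolve_right hδ
    have h11 : X 1 1 = l := by
      have : (X 1 1 - l) * (v 0 * w 1 - v 1 * w 0) = 0 := by
        linear_combination v 0 * e4 - w 0 * e2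
      have h3 := (mul_eq_zero.mp this).resolve_right hδ
      linear_combination h3
    have hl : l = 1 := by
      have h3 : (l + 1) * (l + 1) = 0 := by
        rw [h00, h01, h11] at hd
        linear_combination hd + (l + 1) * h2
      have h4 : l + 1 = 0 := by simpa using h3
      linear_combination h4 - h2
    apply hX1
    ext i j
    fin_cases i <;> fin_cases j <;> simp [h00, h01, h10, h11, hl]
  rcases ne_zero_coord hv with hi | hi
  · refine ⟨w 0 / v 0, ?_⟩
    funext i
    fin_cases i
    · simp; field_simp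
    · simp; field_simp; linear_combination hdelta
  · refine ⟨w 1 / v 1, ?_⟩
    funext i
    fin_cases i
    · simp; field_simp; linear_combination -hdelta
    · simp; field_simp

end mat

/-- The special linear group of degree two. -/
local notation "SL₂" => Matrix.SpecialLinearGroup (Fin 2)

/-- `p`-subgroups of `SL₂` in characteristic two are cyclic for odd `p`. -/
theorem sl_isCyclic {F : Type*} [Field F] [Finite F] [CharP F 2] (R : Subgroup (SL₂ F)) {p : ℕ}
    [Fact p.Prime] (hp : p ≠ 2) (hR : IsPGroup p R) : IsCyclic R := by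
  classical
  haveI : Finite (SL₂ F) := by
    haveI := Fintype.ofFinite F
    infer_instance
  by_cases htriv : Subsingleton R
  · infer_instance
  rw [not_subsingleton_iff_nontrivial] at htriv
  haveI := hR.center_nontrivial
  obtain ⟨⟨x, hxz⟩, hx1⟩ := exists_ne (1 : Subgroup.center R)
  have hx1' : (x : SL₂ F) ≠ 1 := by
    intro h'
    apply hx1
    apply Subtype.ext
    apply Subtype.ext
    exact h'
  let K := AlgebraicClosure F
  haveI : CharP K 2 := charP_of_injective_algebraMap (algebraMap F K).injective 2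
  let ψ : SL₂ F →* SL₂ K := Matrix.SpecialLinearGroup.map (algebraMap F K)
  have hψ : Function.Injective ψ := by
    intro a b hab
    apply Subtype.ext
    ext i j
    have h1 := congrArg (fun y : SL₂ K => (y : Matrix (Fin 2) (Fin 2) K) i j) hab
    simp only [ψ, Matrix.SpecialLinearGroup.map_apply_coe, RingHom.mapMatrix_apply, Matrix.map_apply] at h1
    exact (algebraMap F K).injective h1
  set X : Matrix (Fin 2) (Fin 2) K := (ψ x : SL₂ K).1 with hX
  have hXdet : X.det = 1 := (ψ x : SL₂ K).2
  have hX1 : X ≠ 1 := by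
    intro h'
    apply hx1'
    apply hψ
    rw [map_one]
    exact Subtype.ext h'
  obtain ⟨l, hl⟩ := Module.End.exists_eigenvalue (Matrix.toLin' X)
  obtain ⟨v, hv⟩ := hl.exists_hasEigenvector
  have hv0 : v ≠ 0 := hv.2
  have hXv : X.mulVec v = l • v := by
    have := hv.apply_eq_smul
    rwa [Matrix.toLin'_apply] at this
  -- the action of `R` on the eigenline
  have hcomm : ∀ y : R, X * (ψ y : SL₂ K).1 = (ψ y : SL₂ K).1 * X := by
    intro y
    have h1 : (x : R) * y = y * x := (Subgroup.mem_center_iff.mp hxz y).symm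
    have h2 : ψ (x : SL₂ F) * ψ (y : SL₂ F) = ψ (y : SL₂ F) * ψ (x : SL₂ F) := by
      rw [← map_mul, ← map_mul]
      exact congrArg (fun a : R => ψ (a : SL₂ F)) h1
    exact congrArg Subtype.val h2
  have hex : ∀ y : R, ∃ m : K, (ψ y : SL₂ K).1.mulVec v = m • v := fun y =>
    exists_mul_of_comm X _ hXdet hX1 (hcomm y) hv0 hXv
  choose m hm using hex
  have hm1 : m 1 = 1 := by
    have h1 := hm 1
    have h2 : (ψ ((1 : R) : SL₂ F) : SL₂ K).1 = 1 := by simp
    rw [h2, Matrix.one_mulVec] at h1
    rcases ne_zero_coord hv0 with hi | hi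
    · have h3 := congrFun h1 0
      simp only [Pi.smul_apply, smul_eq_mul] at h3
      apply mul_right_cancel₀ hi
      rw [← h3, one_mul]
    · have h3 := congrFun h1 1
      simp only [Pi.smul_apply, smul_eq_mul] at h3
      apply mul_right_cancel₀ hi
      rw [← h3, one_mul]
  have hmm : ∀ a b : R, m (a * b) = m a * m b := by
    intro a b
    have h1 := hm (a * b)
    have h2 : (ψ ((a * b : R) : SL₂ F) : SL₂ K).1 = (ψ a : SL₂ K).1 * (ψ b : SL₂ K).1 := by
      simp
    rw [h2, ← Matrix.mulVec_mulVec, hm b, Matrix.mulVec_smul, hm a] at h1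
    rcases ne_zero_coord hv0 with hi | hi
    · have h3 := congrFun h1 0
      simp only [Pi.smul_apply, smul_eq_mul] at h3
      apply mul_right_cancel₀ hi
      linear_combination -h3
    · have h3 := congrFun h1 1
      simp only [Pi.smul_apply, smul_eq_mul] at h3
      apply mul_right_cancel₀ hi
      linear_combination -h3
  let f : R →* K := { toFun := m, map_one' := hm1, map_mul' := hmm }
  have hf1 : ∀ y : R, f y = 1 → y = 1 := by
    intro y hy
    have hy' : m y = 1 := hy
    have h1 := hm y
    rw [hy', one_smul] at h1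
    have h2 := sq_eq_one_of_fix _ (ψ y : SL₂ K).2 hv0 h1
    have h3 : ψ ((y * y : R) : SL₂ F) = 1 := by
      apply Subtype.ext
      simpa using h2
    have h4 : ((y * y : R) : SL₂ F) = 1 := hψ (by rw [h3, map_one])
    have h5 : y * y = 1 := Subtype.ext h4
    obtain ⟨k, hk⟩ := hR y
    have h6 : orderOf y ∣ 2 := orderOf_dvd_of_pow_eq_one (by rw [pow_two]; exact h5)
    have h7 : orderOf y ∣ p ^ k := orderOf_dvd_of_pow_eq_one hk
    have h8 : Nat.Coprime 2 (p ^ k) := by
      apply Nat.Coprime.pow_right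
      exact (Nat.coprime_primes Nat.prime_two (Fact.out)).mpr (Ne.symm hp)
    have h9 : orderOf y = 1 := Nat.eq_one_of_dvd_coprimes h8 h6 h7
    exact orderOf_eq_one_iff.mp h9
  have hinj : Function.Injective f := by
    intro a b hab
    have h1 : f (a⁻¹ * b) = 1 := by
      rw [map_mul, ← hab, ← map_mul, inv_mul_cancel, map_one]
    have h2 := hf1 _ h1
    rw [inv_mul_eq_one] at h2
    exact h2
  exact isCyclic_of_injective_ringHom f hinj

lemma commutator_eq_top_of_surjective {H K : Type*} [Group H] [Group K] (f : H →* K)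
    (hf : Function.Surjective f) (h : commutator H = ⊤) : commutator K = ⊤ := by
  have h1 := Subgroup.map_commutator (⊤ : Subgroup H) (⊤ : Subgroup H) f
  rw [commutator_def] at h ⊢
  rw [h, Subgroup.map_top_of_surjective f hf] at h1
  exact h1.symm

/-- The main splitting theorem. -/
theorem split_central {G : Type*} [Group G] [Finite G] {F : Type*} [Field F] [Finite F] [CharP F 2]
    (φ : G →* SL₂ F) (hsurj : Function.Surjective φ) (Z : Subgroup G) (hZ : φ.ker = Z)
    (hZc : ∀ z ∈ Z, ∀ g : G, z * g = g * z) (hZodd : Odd (Nat.card Z))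
    (hperf : commutator (SL₂ F) = ⊤) : Nonempty (G ≃* SL₂ F × Z) := by
  classical
  have hinter : ∀ z ∈ Z, z ∈ commutator G → z = 1 := by
    intro z₀ hz₀ hz₀C
    by_contra hz₀1
    have hord : orderOf z₀ ≠ 1 := fun h' => hz₀1 (orderOf_eq_one_iff.mp h')
    obtain ⟨p, hp, hpd⟩ := Nat.exists_prime_and_dvd hord
    haveI : Fact p.Prime := ⟨hp⟩
    have hodd0 : Odd (orderOf z₀) := by
      have h1 : orderOf (⟨z₀, hz₀⟩ : Z) ∣ Nat.card Z := orderOf_dvd_natCard _
      rw [Subgroup.orderOf_mk] at h1
      exact Odd.of_dvd_nat hZodd h1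
    have hp2 : p ≠ 2 := by
      rintro rfl
      exact (Nat.not_even_iff_odd.mpr hodd0) (even_iff_two_dvd.mpr hpd)
    set z := z₀ ^ (orderOf z₀ / p) with hzdef
    have hzo : orderOf z = p := orderOf_pow_orderOf_div (orderOf_pos z₀).ne' hpd
    have hzZ : z ∈ Z := Z.pow_mem hz₀ _
    have hzC : z ∈ commutator G := (commutator G).pow_mem hz₀C _
    have hzp : IsPGroup p (Subgroup.zpowers z) := by
      apply IsPGroup.of_card (n := 1)
      rw [Nat.card_zpowers, hzo, pow_one]
    obtain ⟨P, hPz⟩ := hzp.exists_le_sylow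
    have hzP : z ∈ (P : Subgroup G) := hPz (Subgroup.mem_zpowers z)
    -- the Sylow subgroup is commutative
    let f₀ : (P : Subgroup G) →* SL₂ F := φ.comp (P : Subgroup G).subtype
    let f : (P : Subgroup G) →* f₀.range := f₀.rangeRestrict
    have hfs : Function.Surjective f := f₀.rangeRestrict_surjective
    have hrp : IsPGroup p f₀.range := IsPGroup.of_surjective P.2 f hfs
    haveI hcyc : IsCyclic f₀.range := sl_isCyclic f₀.range hp2 hrp
    have hker : f.ker ≤ Subgroup.center (P : Subgroup G) := by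
      intro a ha
      have h1 : f₀ a = 1 := by
        have := congrArg Subtype.val (MonoidHom.mem_ker.mp ha)
        simpa [f] using this
      have h2 : (a : G) ∈ φ.ker := h1
      rw [hZ] at h2
      rw [Subgroup.mem_center_iff]
      intro b
      apply Subtype.ext
      exact (hZc _ h2 _).symm
    have hcomm : ∀ a b : (P : Subgroup G), a * b = b * a :=
      (f.isMulCommutative_of_isCyclic_of_ker_le_center hker).is_comm.comm
    letI : CommGroup (P : Subgroup G) := { (inferInstance : Group (P : Subgroup G)) with mul_comm := hcomm }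
    let T : G →* (P : Subgroup G) := MonoidHom.transfer (MonoidHom.id (P : Subgroup G))
    have hT1 : T z = 1 := by
      have : commutator G ≤ T.ker := Abelianization.commutator_subset_ker T
      exact this hzC
    have hT2 := MonoidHom.transfer_eq_pow (MonoidHom.id (P : Subgroup G)) z (fun k g₀ hk => by
      have h1 : z ^ k * g₀ = g₀ * z ^ k := hZc _ (Z.pow_mem hzZ k) g₀
      calc g₀⁻¹ * z ^ k * g₀ = g₀⁻¹ * (z ^ k * g₀) := by group
        _ = g₀⁻¹ * (g₀ * z ^ k) := by rw [h1]
        _ = z ^ k := by group)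
    have hT3 : T z = _ := hT2
    rw [hT1] at hT3
    have h5 : z ^ (P : Subgroup G).index = 1 := by
      have := congrArg Subtype.val hT3
      simpa using this.symm
    have h6 : orderOf z ∣ (P : Subgroup G).index := orderOf_dvd_of_pow_eq_one h5
    rw [hzo] at h6
    exact P.not_dvd_index h6
  have hmap : (commutator G).map φ = ⊤ := by
    have h1 := Subgroup.map_commutator (⊤ : Subgroup G) (⊤ : Subgroup G) φ
    rw [Subgroup.map_top_of_surjective φ hsurj] at h1
    rw [commutator_def, h1]
    rw [commutator_def] at hperf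
    exact hperf
  set M := commutator G with hM
  have hmem : ∀ a : SL₂ F, ∃ m ∈ M, φ m = a := by
    intro a
    have h1 : a ∈ M.map φ := by rw [hmap]; trivial
    obtain ⟨m, hm, hma⟩ := h1
    exact ⟨m, hm, hma⟩
  let α : M × Z →* G :=
    { toFun := fun p => (p.1 : G) * p.2
      map_one' := by simp
      map_mul' := by
        rintro ⟨a, b⟩ ⟨c, d⟩
        have h1 : (b : G) * c = c * b := hZc b b.2 c
        simp only [Prod.mk_mul_mk, Subgroup.coe_mul]
        calc (a : G) * c * (b * d) = a * (c * b) * d := by group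
          _ = a * (b * c) * d := by rw [h1]
          _ = a * b * (c * d) := by group }
  have hα : Function.Bijective α := by
    constructor
    · rintro ⟨a, b⟩ ⟨c, d⟩ hab
      have h1 : (a : G) * b = c * d := hab
      have h2 : (c : G)⁻¹ * a = d * (b : G)⁻¹ := by
        calc (c : G)⁻¹ * a = (c : G)⁻¹ * (a * b) * (b : G)⁻¹ := by group
          _ = (c : G)⁻¹ * (c * d) * (b : G)⁻¹ := by rw [h1]
          _ = d * (b : G)⁻¹ := by group
      have h3 : (c : G)⁻¹ * a ∈ M := M.mul_mem (M.inv_mem c.2) a.2
      have h4 : (c : G)⁻¹ * a ∈ Z := by rw [h2]; exact Z.mul_mem d.2 (Z.inv_mem b.2)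
      have h5 := hinter _ h4 h3
      have h6 : (a : G) = c := by
        rw [inv_mul_eq_one] at h5
        exact h5.symm
      have h7 : (b : G) = d := by
        rw [h6] at h1
        exact mul_left_cancel h1
      exact Prod.ext (Subtype.ext h6) (Subtype.ext h7)
    · intro g
      obtain ⟨m, hm, hma⟩ := hmem (φ g)
      have h1 : m⁻¹ * g ∈ Z := by
        rw [← hZ, MonoidHom.mem_ker, map_mul, map_inv, hma, inv_mul_cancel]
      refine ⟨(⟨m, hm⟩, ⟨_, h1⟩), ?_⟩
      change m * (m⁻¹ * g) = g
      group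
  let β : M →* SL₂ F := φ.comp M.subtype
  have hβ : Function.Bijective β := by
    constructor
    · intro a b hab
      have h1 : φ a = φ b := hab
      have h2 : (a : G)⁻¹ * b ∈ Z := by
        rw [← hZ, MonoidHom.mem_ker, map_mul, map_inv, h1, inv_mul_cancel]
      have h3 := hinter _ h2 (M.mul_mem (M.inv_mem a.2) b.2)
      rw [inv_mul_eq_one] at h3
      exact Subtype.ext h3
    · intro a
      obtain ⟨m, hm, hma⟩ := hmem a
      exact ⟨⟨m, hm⟩, hma⟩
  exact ⟨(MulEquiv.ofBijective α hα).symm.trans ((MulEquiv.ofBijective β hβ).prodCongr (MulEquiv.refl Z))⟩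

end Cfsg.Agent.Lib.CAInv
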