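import Mathlib
import Cfsg.Agent.Lib.CAInvBase

/-!
# Commutative involution centralizers, the case of trivial intersections of centralizers
-/

set_option autoImplicit false
set_option linter.unusedSectionVars false
set_option linter.unusedVariables false
set_option linter.style.haveILetI false

namespace Cfsg.Agent.Lib.CAInv

open Cfsg Cfsg.Agent.Lib.EmbInvol Cfsg.Agent.Lib.CITElem

variable {G : Type*} [Group G] [Finite G]

/-- The hypotheses, with trivial intersections of the centralizers. -/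
structure HypT (G : Type*) [Group G] [Finite G] : Prop extends Hyp G where
  ti : ∀ s t c : G, orderOf s = 2 → orderOf t = 2 → c ≠ 1 → c * s = s * c → c * t = t * c → s * t = t * s

lemma Cn_smul {P : Sylow 2 G} {g c : G} (hc : c ∈ Cn P) : g * c * g⁻¹ ∈ Cn (g • P) := by
  rw [mem_Cn_iff] at hc ⊢
  intro a ha
  have h1 := hc _ (mem_smul_iff.mp ha)
  calc a * (g * c * g⁻¹) = g * ((g⁻¹ * a * g) * c) * g⁻¹ := by group
    _ = g * (c * (g⁻¹ * a * g)) * g⁻¹ := by rw [h1]
    _ = g * c * g⁻¹ * a := by group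

/-- Number of non trivial elements of a subgroup. -/
lemma card_nontriv_add_one (L : Subgroup G) : Nat.card {x : G // x ∈ L ∧ x ≠ 1} + 1 = Nat.card L := by
  have e : {t : G | t ∈ L ∧ t ≠ 1} = (L : Set G) \ {1} := by
    ext t
    constructor <;> rintro ⟨a, b⟩ <;> exact ⟨a, b⟩
  have h1 : Nat.card {t : G // t ∈ L ∧ t ≠ 1} = Set.ncard {t : G | t ∈ L ∧ t ≠ 1} :=
    Nat.card_coe_set_eq {t : G | t ∈ L ∧ t ≠ 1}
  have h2 : Nat.card L = Set.ncard (L : Set G) := Nat.card_coe_set_eq _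
  have h3 : 0 < Nat.card L := Nat.card_pos
  rw [h1, e, Set.ncard_sdiff_singleton_of_mem (Subgroup.one_mem _), ← h2]
  omega

/-- The involutions of a point. -/
abbrev Iv (P : Sylow 2 G) : Type _ := {t : G // t ∈ (P : Subgroup G) ∧ orderOf t = 2}

namespace Hyp

variable (h : Hyp G)
include h

/-- Two different involutions moving `P` to `Q` do not commute. -/
lemma swap_noncomm {P Q : Sylow 2 G} (hPQ : P ≠ Q) {i j : G} (hi : orderOf i = 2) (hj : orderOf j = 2)
    (hiP : i • P = Q) (hjP : j • P = Q) (hij : i ≠ j) : i * j ≠ j * i := by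
  intro hc
  have hii := mul_self_of_order hi
  have hjj := mul_self_of_order hj
  have h1 : (i * j) * (i * j) = 1 := by
    calc (i * j) * (i * j) = i * (j * i) * j := by group
      _ = i * (i * j) * j := by rw [hc]
      _ = (i * i) * (j * j) := by group
      _ = 1 := by rw [hii, hjj, one_mul]
  have h2 : i * j ≠ 1 := by
    intro h'
    apply hij
    have : j = i⁻¹ := eq_inv_of_mul_eq_one_right h'
    rw [this, inv_of_order hi]
  have hiQ : i • Q = P := by rw [← hiP, ← mul_smul, hii, one_smul]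
  have h3 : i * j ∈ Nm P := mem_Nm_iff.mpr (by rw [mul_smul, hjP, hiQ])
  have h4 : i * j ∈ (P : Subgroup G) := mem_of_invol_Nm h3 h1
  have h5 : orderOf (i * j) = 2 := order_of_mul_self h1 h2
  obtain ⟨R, hR⟩ := exists_sylow_mem hi
  have h6 : i * (i * j) = (i * j) * i := by
    calc i * (i * j) = i * (j * i) := by rw [hc]
      _ = (i * j) * i := by group
  have h7 : R = P := (h.comm_iff hi h5 hR h4).mp h6
  subst h7
  have h8 : i ∈ Nm R := Subgroup.le_normalizer hR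
  rw [mem_Nm_iff.mp h8] at hiP
  exact hPQ hiP

lemma conj_V {P Q : Sylow 2 G} {u v : G} (hu : orderOf u = 2) (h1 : u • P = Q) (h2 : u • Q = P)
    (hv : v ∈ Ds P Q) (hvP : v ∈ Cn P) : u * v * u ∈ Ds P Q ∧ u * v * u ∈ Cn Q := by
  have hui := inv_of_order hu
  refine ⟨⟨?_, ?_⟩, ?_⟩
  · apply mem_Nm_iff.mpr
    rw [mul_smul, mul_smul, h1, mem_Nm_iff.mp hv.2, h2]
  · apply mem_Nm_iff.mpr
    rw [mul_smul, mul_smul, h2, mem_Nm_iff.mp hv.1, h1]
  · have := Cn_smul (g := u) hvP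
    rwa [hui, h1] at this

end Hyp

namespace HypT

variable (h : HypT G)
include h

lemma ti_eq_one {P Q : Sylow 2 G} (hPQ : P ≠ Q) {c : G} (hcP : c ∈ Cn P) (hcQ : c ∈ Cn Q) : c = 1 := by
  by_contra hc1
  have hH := h.toHyp
  obtain ⟨s, hsP, hs⟩ := hH.exists_invol P
  obtain ⟨t, htQ, ht⟩ := hH.exists_invol Q
  have := h.ti s t c hs ht hc1 (hH.comm_of_mem_Cn hsP hcP) (hH.comm_of_mem_Cn htQ hcQ)
  exact hPQ ((hH.comm_iff hs ht hsP htQ).mp this)

lemma V_comm {P Q : Sylow 2 G} (hPQ : P ≠ Q) {a b : G} (ha : a ∈ Ds P Q) (haP : a ∈ Cn P)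
    (hb : b ∈ Ds P Q) (hbQ : b ∈ Cn Q) : a * b = b * a := by
  have h1 : a * b * a⁻¹ * b⁻¹ ∈ Cn Q := (Cn Q).mul_mem (conj_mem_Cn ha.2 hbQ) ((Cn Q).inv_mem hbQ)
  have h2 : a * b * a⁻¹ * b⁻¹ ∈ Cn P := by
    have : a * b * a⁻¹ * b⁻¹ = a * (b * a⁻¹ * b⁻¹) := by group
    rw [this]
    exact (Cn P).mul_mem haP (conj_mem_Cn hb.1 ((Cn P).inv_mem haP))
  have h3 := h.ti_eq_one hPQ h2 h1
  have h4 : a * b * a⁻¹ * b⁻¹ * (b * a) = b * a := by rw [h3, one_mul]
  calc a * b = a * b * a⁻¹ * b⁻¹ * (b * a) := by group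
    _ = b * a := h4

/-- Elements of the two point stabilizer centralizing `P` are trivial. -/
theorem V_triv {P Q : Sylow 2 G} (hPQ : P ≠ Q) {v : G} (hv : v ∈ Ds P Q) (hvP : v ∈ Cn P) : v = 1 := by
  classical
  by_contra hv1
  have hH := h.toHyp
  obtain ⟨z, hzP, hz⟩ := hH.exists_invol P
  obtain ⟨w, hwQ, hw⟩ := hH.exists_invol Q
  let V : Subgroup G := Ds P Q ⊓ Cn Q
  let V1 := {x : G // x ∈ V ∧ x ≠ 1}
  have hmem : ∀ t : Iv P, mid t.1 w * v * mid t.1 w ∈ V ∧ mid t.1 w * v * mid t.1 w ≠ 1 := by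
    intro t
    obtain ⟨h1, h2, h3, h4⟩ := hH.swap hPQ t.2.2 hw t.2.1 hwQ
    obtain ⟨h5, h6⟩ := hH.conj_V h1 h3 h4 hv hvP
    refine ⟨⟨h5, h6⟩, ?_⟩
    intro h7
    apply hv1
    have h8 := mul_self_of_order h1
    calc v = mid t.1 w * (mid t.1 w * v * mid t.1 w) * mid t.1 w := by
          calc v = (mid t.1 w * mid t.1 w) * v * (mid t.1 w * mid t.1 w) := by rw [h8]; simp
            _ = _ := by group
      _ = 1 := by rw [h7, mul_one, h8]
  let f : Iv P → V1 := fun t => ⟨_, hmem t⟩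
  have hf : Function.Injective f := by
    intro t t' htt
    by_contra hne
    have e : mid t.1 w * v * mid t.1 w = mid t'.1 w * v * mid t'.1 w := congrArg Subtype.val htt
    obtain ⟨h1, h2, h3, h4⟩ := hH.swap hPQ t.2.2 hw t.2.1 hwQ
    obtain ⟨h1', h2', h3', h4'⟩ := hH.swap hPQ t'.2.2 hw t'.2.1 hwQ
    have hii := mul_self_of_order h1
    have hii' := mul_self_of_order h1'
    -- the two midpoints differ
    have hne2 : mid t.1 w ≠ mid t'.1 w := by
      intro e2
      apply hne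
      apply Subtype.ext
      calc t.1 = mid t.1 w * (mid t.1 w * t.1 * mid t.1 w) * mid t.1 w := by
            calc t.1 = (mid t.1 w * mid t.1 w) * t.1 * (mid t.1 w * mid t.1 w) := by rw [hii]; simp
              _ = _ := by group
        _ = mid t.1 w * w * mid t.1 w := by rw [h2]
        _ = mid t'.1 w * w * mid t'.1 w := by rw [e2]
        _ = mid t'.1 w * (mid t'.1 w * t'.1 * mid t'.1 w) * mid t'.1 w := by rw [h2']
        _ = (mid t'.1 w * mid t'.1 w) * t'.1 * (mid t'.1 w * mid t'.1 w) := by group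
        _ = t'.1 := by rw [hii']; simp
    have hnc := hH.swap_noncomm hPQ h1 h1' h3 h3' hne2
    set i := mid t.1 w with hi
    set i' := mid t'.1 w with hi'
    set w₁ := i * v * i with hw₁
    obtain ⟨h5, h6⟩ := hH.conj_V h1 h3 h4 hv hvP
    have hcomm : v * w₁ = w₁ * v := h.V_comm hPQ hv hvP h5 h6
    have hx1 : v * w₁ ≠ 1 := by
      intro hx0
      have e3 : w₁ = v⁻¹ := eq_inv_of_mul_eq_one_right hx0
      have e4 : w₁ ∈ Cn P := by rw [e3]; exact (Cn P).inv_mem hvP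
      have e5 := h.ti_eq_one hPQ e4 h6
      rw [e5] at e3
      apply hv1
      simpa using e3.symm
    have hxi : (v * w₁) * i = i * (v * w₁) := by
      have e6 : i * w₁ = v * i := by
        rw [hw₁]
        calc i * (i * v * i) = (i * i) * v * i := by group
          _ = v * i := by rw [hii, one_mul]
      have e7 : v * i = i * w₁ := e6.symm
      calc (v * w₁) * i = w₁ * v * i := by rw [hcomm]
        _ = w₁ * (i * w₁) := by rw [mul_assoc, e7]
        _ = (i * v * i) * (i * w₁) := by rw [hw₁]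
        _ = i * v * (i * i) * w₁ := by group
        _ = i * (v * w₁) := by rw [hii]; group
    have hxi' : (v * w₁) * i' = i' * (v * w₁) := by
      have e8 : w₁ = i' * v * i' := e
      have e6 : i' * w₁ = v * i' := by
        rw [e8]
        calc i' * (i' * v * i') = (i' * i') * v * i' := by group
          _ = v * i' := by rw [hii', one_mul]
      have e7 : v * i' = i' * w₁ := e6.symm
      calc (v * w₁) * i' = w₁ * v * i' := by rw [hcomm]
        _ = w₁ * (i' * w₁) := by rw [mul_assoc, e7]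
        _ = (i' * v * i') * (i' * w₁) := by rw [← e8]
        _ = i' * v * (i' * i') * w₁ := by group
        _ = i' * (v * w₁) := by rw [hii']; group
    exact hnc (h.ti i i' (v * w₁) h1 h1' hx1 hxi hxi')
  have hV : ∀ x : V, (x : G) * z * (x : G)⁻¹ ∈ (P : Subgroup G) := fun x =>
    (Subgroup.mem_normalizer_iff.mp x.2.1.1 z).mp hzP
  let g : V → Iv P := fun x => ⟨_, hV x, conj_order _ hz⟩
  have hg : Function.Injective g := by
    intro x y hxy
    have e : (x : G) * z * (x : G)⁻¹ = (y : G) * z * (y : G)⁻¹ := congrArg Subtype.val hxy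
    have e2 : ((y : G)⁻¹ * x) * z = z * ((y : G)⁻¹ * x) := by
      calc ((y : G)⁻¹ * x) * z = (y : G)⁻¹ * ((x : G) * z * (x : G)⁻¹) * x := by group
        _ = (y : G)⁻¹ * ((y : G) * z * (y : G)⁻¹) * x := by rw [e]
        _ = z * ((y : G)⁻¹ * x) := by group
    have e3 : (y : G)⁻¹ * x ∈ Cn P := hH.mem_Cn_of_comm hz hzP e2
    have e4 : (y : G)⁻¹ * x ∈ Cn Q := (Cn Q).mul_mem ((Cn Q).inv_mem y.2.2) x.2.2
    have e5 := h.ti_eq_one hPQ e3 e4
    apply Subtype.ext
    have : (x : G) = y * ((y : G)⁻¹ * x) := by group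
    rw [this, e5, mul_one]
  have c1 : Nat.card (Iv P) ≤ Nat.card V1 := Nat.card_le_card_of_injective f hf
  have c2 : Nat.card V ≤ Nat.card (Iv P) := Nat.card_le_card_of_injective g hg
  have c3 : Nat.card V1 + 1 = Nat.card V := card_nontriv_add_one V
  omega

/-- The two point stabilizer has as many elements as `P` has involutions. -/
lemma card_Ds_le {P Q : Sylow 2 G} (hPQ : P ≠ Q) : Nat.card (Ds P Q) ≤ Nat.card (Iv P) := by
  have hH := h.toHyp
  obtain ⟨z, hzP, hz⟩ := hH.exists_invol P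
  have hV : ∀ x : Ds P Q, (x : G) * z * (x : G)⁻¹ ∈ (P : Subgroup G) := fun x =>
    (Subgroup.mem_normalizer_iff.mp x.2.1 z).mp hzP
  let g : Ds P Q → Iv P := fun x => ⟨_, hV x, conj_order _ hz⟩
  have hg : Function.Injective g := by
    intro x y hxy
    have e : (x : G) * z * (x : G)⁻¹ = (y : G) * z * (y : G)⁻¹ := congrArg Subtype.val hxy
    have e2 : ((y : G)⁻¹ * x) * z = z * ((y : G)⁻¹ * x) := by
      calc ((y : G)⁻¹ * x) * z = (y : G)⁻¹ * ((x : G) * z * (x : G)⁻¹) * x := by group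
        _ = (y : G)⁻¹ * ((y : G) * z * (y : G)⁻¹) * x := by rw [e]
        _ = z * ((y : G)⁻¹ * x) := by group
    have e3 : (y : G)⁻¹ * x ∈ Cn P := hH.mem_Cn_of_comm hz hzP e2
    have e5 := h.V_triv hPQ ((Ds P Q).mul_mem ((Ds P Q).inv_mem y.2) x.2) e3
    apply Subtype.ext
    have : (x : G) = y * ((y : G)⁻¹ * x) := by group
    rw [this, e5, mul_one]
  exact Nat.card_le_card_of_injective g hg

/-- Every involution moving `P` to `Q` inverts the two point stabilizer. -/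
theorem inverts {P Q : Sylow 2 G} (hPQ : P ≠ Q) {u : G} (hu : orderOf u = 2) (huP : u • P = Q)
    {d : G} (hd : d ∈ Ds P Q) : u * d * u = d⁻¹ := by
  have hH := h.toHyp
  obtain ⟨w, hwQ, hw⟩ := hH.exists_invol Q
  have huu := mul_self_of_order hu
  have huQ : u • Q = P := by rw [← huP, ← mul_smul, huu, one_smul]
  have hmem : ∀ t : Iv P, mid t.1 w * u ∈ Ds P Q := by
    intro t
    obtain ⟨h1, h2, h3, h4⟩ := hH.swap hPQ t.2.2 hw t.2.1 hwQ
    refine ⟨mem_Nm_iff.mpr (by rw [mul_smul, huP, h4]), mem_Nm_iff.mpr (by rw [mul_smul, huQ, h3])⟩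
  let f : Iv P → Ds P Q := fun t => ⟨_, hmem t⟩
  have hf : Function.Injective f := by
    intro t t' htt
    have e : mid t.1 w * u = mid t'.1 w * u := congrArg Subtype.val htt
    have e2 := mul_right_cancel e
    obtain ⟨h1, h2, h3, h4⟩ := hH.swap hPQ t.2.2 hw t.2.1 hwQ
    obtain ⟨h1', h2', h3', h4'⟩ := hH.swap hPQ t'.2.2 hw t'.2.1 hwQ
    have hii := mul_self_of_order h1
    have hii' := mul_self_of_order h1'
    apply Subtype.ext
    calc t.1 = mid t.1 w * (mid t.1 w * t.1 * mid t.1 w) * mid t.1 w := by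
          calc t.1 = (mid t.1 w * mid t.1 w) * t.1 * (mid t.1 w * mid t.1 w) := by rw [hii]; simp
            _ = _ := by group
      _ = mid t.1 w * w * mid t.1 w := by rw [h2]
      _ = mid t'.1 w * w * mid t'.1 w := by rw [e2]
      _ = mid t'.1 w * (mid t'.1 w * t'.1 * mid t'.1 w) * mid t'.1 w := by rw [h2']
      _ = (mid t'.1 w * mid t'.1 w) * t'.1 * (mid t'.1 w * mid t'.1 w) := by group
      _ = t'.1 := by rw [hii']; simp
  have hb := hf.bijective_of_nat_card_le (h.card_Ds_le hPQ)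
  obtain ⟨t, ht⟩ := hb.2 ⟨d, hd⟩
  have e : mid t.1 w * u = d := congrArg Subtype.val ht
  obtain ⟨h1, h2, h3, h4⟩ := hH.swap hPQ t.2.2 hw t.2.1 hwQ
  rw [← e, mul_inv_rev, inv_of_order hu, inv_of_order h1]
  calc u * (mid t.1 w * u) * u = u * mid t.1 w * (u * u) := by group
    _ = u * mid t.1 w := by rw [huu, mul_one]

lemma comm_Ds {P Q : Sylow 2 G} (hPQ : P ≠ Q) {a b : G} (ha : a ∈ Ds P Q) (hb : b ∈ Ds P Q) :
    a * b = b * a := by
  obtain ⟨u, hu, h1, h2⟩ := h.toHyp.exists_swap hPQ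
  have huu := mul_self_of_order hu
  have e1 := h.inverts hPQ hu h1 ((Ds P Q).mul_mem ha hb)
  have e2 : u * (a * b) * u = (u * a * u) * (u * b * u) := by
    calc u * (a * b) * u = u * a * b * u := by group
      _ = u * a * (u * u) * b * u := by rw [huu]; group
      _ = _ := by group
  rw [e2, h.inverts hPQ hu h1 ha, h.inverts hPQ hu h1 hb, mul_inv_rev] at e1
  have e3 : b⁻¹ * a⁻¹ = (a * b)⁻¹ := by group
  have e4 : a⁻¹ * b⁻¹ = (b * a)⁻¹ := by group
  rw [e4] at e1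
  have e5 : (b * a)⁻¹ = (a * b)⁻¹ := by rw [e1]; group
  exact (inv_injective e5).symm

/-- No non trivial element of the two point stabilizer has a third fixed point. -/
theorem three_fix {P Q W : Sylow 2 G} (hPQ : P ≠ Q) {d : G} (hd : d ∈ Ds P Q) (hW : d • W = W)
    (hWP : W ≠ P) (hWQ : W ≠ Q) : d = 1 := by
  have hH := h.toHyp
  obtain ⟨u, hu, h1, h2⟩ := hH.exists_swap hPQ
  obtain ⟨i₁, hi₁, h3, h4⟩ := hH.exists_swap hWP.symm
  obtain ⟨i₂, hi₂, h5, h6⟩ := hH.exists_swap hWQ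
  have hW' : d ∈ Nm W := mem_Nm_iff.mpr hW
  have e1 := h.inverts hPQ hu h1 hd
  have e2 := h.inverts hWP.symm hi₁ h3 (⟨hd.1, hW'⟩ : d ∈ Ds P W)
  have e3 := h.inverts hWQ hi₂ h5 (⟨hW', hd.2⟩ : d ∈ Ds W Q)
  set y := u * i₂ * i₁ with hy
  have hyP : y ∈ Nm P := mem_Nm_iff.mpr (by rw [hy, mul_smul, mul_smul, h3, h5, h2])
  have hyd : y * d * y⁻¹ = d⁻¹ := by
    rw [hy, mul_inv_rev, mul_inv_rev, inv_of_order hu, inv_of_order hi₁, inv_of_order hi₂]
    calc u * i₂ * i₁ * d * (i₁ * (i₂ * u)) = u * (i₂ * (i₁ * d * i₁) * i₂) * u := by group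
      _ = u * (i₂ * d⁻¹ * i₂) * u := by rw [e2]
      _ = u * (i₂ * d * i₂)⁻¹ * u := by
          congr 2
          rw [mul_inv_rev, mul_inv_rev, inv_of_order hi₂, mul_assoc]
      _ = u * d⁻¹⁻¹ * u := by rw [e3]
      _ = u * d * u := by rw [inv_inv]
      _ = d⁻¹ := e1
  obtain ⟨e, he, hc⟩ := hH.Nm_decomp hPQ hyP
  set c := e⁻¹ * y with hcdef
  have hyc : y = e * c := by rw [hcdef]; group
  have h7 : c * d * c⁻¹ = d⁻¹ := by
    have e8 : e * (c * d * c⁻¹) * e⁻¹ = d⁻¹ := by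
      rw [← hyd, hyc]; group
    have e9 : e * d⁻¹ * e⁻¹ = d⁻¹ := by
      have : e * d⁻¹ = d⁻¹ * e := h.comm_Ds hPQ he ((Ds P Q).inv_mem hd)
      rw [this]; group
    have e10 : e * (c * d * c⁻¹) * e⁻¹ = e * d⁻¹ * e⁻¹ := by rw [e8, e9]
    exact mul_left_cancel (mul_right_cancel e10)
  have h8 : d⁻¹ * d⁻¹ ∈ Cn P := by
    have e11 : d⁻¹ * d⁻¹ = c * (d * c⁻¹ * d⁻¹) := by
      nth_rewrite 1 [← h7]
      group
    rw [e11]
    exact (Cn P).mul_mem hc (conj_mem_Cn hd.1 ((Cn P).inv_mem hc))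
  have h9 : d * d ∈ Cn P := by
    have : d * d = (d⁻¹ * d⁻¹)⁻¹ := by simp
    rw [this]
    exact (Cn P).inv_mem h8
  have h10 : d ∈ Cn P := mem_of_sq_mem (hH.odd_of_Ds hPQ hd) h9
  exact h.V_triv hPQ hd h10

/-- An element of the point stabilizer outside the centralizer is conjugate, by the centralizer, into
a two point stabilizer. -/
theorem conj_into {P Q : Sylow 2 G} (hPQ : P ≠ Q) {x : G} (hx : x ∈ Nm P) (hxC : x ∉ Cn P) :
    ∃ c ∈ Cn P, c⁻¹ * x * c ∈ Ds P Q := by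
  have hH := h.toHyp
  obtain ⟨d, hd, hc₀⟩ := hH.Nm_decomp hPQ hx
  have hd1 : d ≠ 1 := by
    rintro rfl
    apply hxC
    simpa using hc₀
  have hdi : d⁻¹ ∈ Nm P := (Nm P).inv_mem hd.1
  have hmem : ∀ c : Cn P, d⁻¹ * c * d * (c : G)⁻¹ ∈ Cn P := by
    intro c
    refine (Cn P).mul_mem ?_ ((Cn P).inv_mem c.2)
    have := conj_mem_Cn hdi c.2
    simpa using this
  let f : Cn P → Cn P := fun c => ⟨_, hmem c⟩
  have hf : Function.Injective f := by
    intro a b hab
    have e : d⁻¹ * a * d * (a : G)⁻¹ = d⁻¹ * b * d * (b : G)⁻¹ := congrArg Subtype.val hab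
    set y := (b : G)⁻¹ * a with hy
    have hyC : y ∈ Cn P := (Cn P).mul_mem ((Cn P).inv_mem b.2) a.2
    have e1 : d⁻¹ * a * d = d⁻¹ * b * d * ((b : G)⁻¹ * a) := by
      calc d⁻¹ * a * d = (d⁻¹ * a * d * (a : G)⁻¹) * a := by group
        _ = (d⁻¹ * b * d * (b : G)⁻¹) * a := by rw [e]
        _ = _ := by group
    have e2 : y * d = d * y := by
      have e3 : d⁻¹ * y * d = y := by
        calc d⁻¹ * y * d = d⁻¹ * (b : G)⁻¹ * d * (d⁻¹ * a * d) := by rw [hy]; group
          _ = d⁻¹ * (b : G)⁻¹ * d * (d⁻¹ * b * d * ((b : G)⁻¹ * a)) := by rw [e1]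
          _ = y := by rw [hy]; group
      calc y * d = d * (d⁻¹ * y * d) := by group
        _ = d * y := by rw [e3]
    have hyP : y • P = P := mem_Nm_iff.mp (Cn_le_Nm P hyC)
    have hfix : d • (y • Q) = y • Q := by
      rw [← mul_smul, ← e2, mul_smul, mem_Nm_iff.mp hd.2]
    have hne : y • Q ≠ P := by
      intro h'
      apply hPQ
      have : y • Q = y • P := by rw [h', hyP]
      exact (smul_left_cancel y this).symm
    have hyQ : y • Q = Q := by
      by_contra hyQ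
      exact hd1 (h.three_fix hPQ hd hfix hne hyQ)
    have hy1 : y = 1 := h.V_triv hPQ ⟨Cn_le_Nm P hyC, mem_Nm_iff.mpr hyQ⟩ hyC
    apply Subtype.ext
    rw [hy, inv_mul_eq_one] at hy1
    exact hy1.symm
  have hs : Function.Surjective f := Finite.injective_iff_surjective.mp hf
  obtain ⟨c, hc⟩ := hs ⟨_, hc₀⟩
  have e : d⁻¹ * c * d * (c : G)⁻¹ = d⁻¹ * x := congrArg Subtype.val hc
  refine ⟨c, c.2, ?_⟩
  have e2 : x = c * d * (c : G)⁻¹ := by
    have := mul_left_cancel (a := d⁻¹) (b := x) (c := c * d * (c : G)⁻¹) (by rw [← e]; group)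
    exact this
  rw [e2]
  have : (c : G)⁻¹ * (c * d * (c : G)⁻¹) * c = d := by group
  rw [this]
  exact hd

/-- The centralizer is transitive on the remaining points. -/
theorem exists_Cn_smul {P Q R : Sylow 2 G} (hPQ : P ≠ Q) (hPR : P ≠ R) : ∃ c ∈ Cn P, c • Q = R := by
  have hH := h.toHyp
  by_cases hQR : Q = R
  · exact ⟨1, (Cn P).one_mem, by rw [one_smul, hQR]⟩
  obtain ⟨s, hsP, t, htP, hs, ht, hst⟩ := hH.exists_two_invol P
  obtain ⟨d, hd, hds⟩ := hH.Ds_trans hPR hs ht hsP htP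
  have hd1 : d ≠ 1 := by
    rintro rfl
    apply hst
    simpa using hds
  have hdC : d ∉ Cn P := fun hc => hd1 (h.V_triv hPR hd hc)
  obtain ⟨c, hc, hcd⟩ := h.conj_into hPQ hd.1 hdC
  refine ⟨c, hc, ?_⟩
  by_contra hne
  have hfix : d • (c • Q) = c • Q := by
    have e : d * c = c * (c⁻¹ * d * c) := by group
    rw [← mul_smul, e, mul_smul, mem_Nm_iff.mp hcd.2]
  have hcP : c • P = P := mem_Nm_iff.mp (Cn_le_Nm P hc)
  have hne2 : c • Q ≠ P := by
    intro h'
    apply hPQ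
    have : c • Q = c • P := by rw [h', hcP]
    exact (smul_left_cancel c this).symm
  exact hd1 (h.three_fix hPR hd hfix hne2 hne)

/-- An element of the centralizer fixing another point is trivial. -/
lemma Cn_free {P Q : Sylow 2 G} (hPQ : P ≠ Q) {c : G} (hc : c ∈ Cn P) (hQ : c • Q = Q) : c = 1 :=
  h.V_triv hPQ ⟨Cn_le_Nm P hc, mem_Nm_iff.mpr hQ⟩ hc

/-- An element outside the centralizer fixes a further point. -/
lemma exists_fix {P : Sylow 2 G} {x : G} (hx : x ∈ Nm P) (hxC : x ∉ Cn P) :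
    ∃ Y : Sylow 2 G, Y ≠ P ∧ x • Y = Y := by
  obtain ⟨Q, hPQ⟩ := h.toHyp.exists_ne P
  obtain ⟨c, hc, hcd⟩ := h.conj_into hPQ hx hxC
  refine ⟨c • Q, ?_, ?_⟩
  · intro h'
    apply hPQ
    have hcP : c • P = P := mem_Nm_iff.mp (Cn_le_Nm P hc)
    have : c • Q = c • P := by rw [h', hcP]
    exact (smul_left_cancel c this).symm
  · have e : x * c = c * (c⁻¹ * x * c) := by group
    rw [← mul_smul, e, mul_smul, mem_Nm_iff.mp hcd.2]

end HypT

end Cfsg.Agent.Lib.CAInv
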