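import Mathlib
import Cfsg.Agent.Lib.ZassCount
import Cfsg.Agent.Lib.CharInd

/-!
# Exceptional characters of Zassenhaus groups: the characters induced from linear characters of the
point stabilisers
-/

set_option autoImplicit false
set_option linter.unusedSectionVars false

namespace Cfsg.Agent.Lib.ZassChar

open Cfsg MulAction Cfsg.Agent.Lib.ZassCore Cfsg.Agent.Lib.ZassH Cfsg.Agent.Lib.ZassInv
  Cfsg.Agent.Lib.CharInd Cfsg.Agent.Lib.CharBasic
open scoped ComplexConjugate

variable {G Ω : Type*} [Group G] [Fintype G] [MulAction G Ω] [Fintype Ω]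
  (hZ : IsZassenhausGroup G Ω) (hI : OddInv G Ω) {a : Ω} {K : Subgroup G} (hK : IsKernelAt G a K)
  (f : stabilizer G a →* ℂˣ) (hfK : ∀ u : stabilizer G a, (u : G) ∈ K → f u = 1)

omit [Fintype Ω] in
/-- Class function property of the linear character. -/
theorem f_conj (x y : stabilizer G a) : f (x⁻¹ * y * x) = f y := by
  rw [map_mul, map_mul, map_inv, mul_comm (f x)⁻¹, mul_assoc, inv_mul_cancel, mul_one]

include hK hfK in
/-- Value at the non-identity elements of the kernel. -/
theorem value_kernel {k : G} (hk : k ∈ K) (hk1 : k ≠ 1) :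
    indFun (stabilizer G a) (fun y => ((f y : ℂˣ) : ℂ)) k = 1 := by
  classical
  unfold indFun
  have hterm : ∀ x : G, extendByZero (stabilizer G a) (fun y => ((f y : ℂˣ) : ℂ)) (x⁻¹ * k * x) =
      if x ∈ stabilizer G a then 1 else 0 := by
    intro x
    by_cases hx : x ∈ stabilizer G a
    · rw [if_pos hx]
      have hxa : x • a = a := hx
      have h1 : x⁻¹ * k * x ∈ K := by
        have := hK.normal x⁻¹ (inv_smul_eq_iff.mpr hxa.symm) k hk
        rwa [inv_inv] at this
      have h2 : x⁻¹ * k * x ∈ stabilizer G a := hK.le _ h1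
      rw [extendByZero_of_mem _ _ h2]
      rw [hfK ⟨_, h2⟩ h1]
      simp
    · rw [if_neg hx]
      apply extendByZero_of_not_mem
      intro h
      apply hx
      have h1 : (x⁻¹ * k * x) • a = a := h
      have h2 : k • (x • a) = x • a := by
        have := congrArg (fun c => x • c) h1
        simpa [mul_smul] using this
      exact hK.fixed_eq hk hk1 h2
  rw [Finset.sum_congr rfl (fun x _ => hterm x), Finset.sum_boole]
  have h3 : (Finset.univ.filter (fun x : G => x ∈ stabilizer G a)).card =
      Nat.card (stabilizer G a) := by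
    rw [Nat.card_eq_fintype_card, Fintype.card_subtype]
  rw [h3]
  have hne : (Nat.card (stabilizer G a) : ℂ) ≠ 0 := by exact_mod_cast Nat.card_pos.ne'
  field_simp

include hZ hI in
/-- Value at elements with two fixed points. -/
theorem value_two {b : Ω} (hab : a ≠ b) {y : G} (hya : y • a = a) (hyb : y • b = b) (hy1 : y ≠ 1) :
    indFun (stabilizer G a) (fun y => ((f y : ℂˣ) : ℂ)) y =
      ((f ⟨y, hya⟩ : ℂˣ) : ℂ) + ((f ⟨y, hya⟩ : ℂˣ) : ℂ)⁻¹ := by
  classical
  unfold indFun
  obtain ⟨s, hsa, hsb⟩ := Cfsg.Agent.Lib.Zassenhaus.two_trans hZ hab (Ne.symm hab)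
  set v : stabilizer G a := ⟨y, hya⟩ with hv
  have hterm : ∀ x : G, extendByZero (stabilizer G a) (fun y => ((f y : ℂˣ) : ℂ)) (x⁻¹ * y * x) =
      (if x • a = a then ((f v : ℂˣ) : ℂ) else 0) + (if x • a = b then ((f v : ℂˣ) : ℂ)⁻¹ else 0) := by
    intro x
    by_cases hx : x • a = a
    · have hxb : ¬ x • a = b := fun h => hab (hx.symm.trans h)
      rw [if_pos hx, if_neg hxb, add_zero]
      have hx' : x ∈ stabilizer G a := hx
      have h2 : x⁻¹ * y * x ∈ stabilizer G a :=
        (stabilizer G a).mul_mem ((stabilizer G a).mul_mem ((stabilizer G a).inv_mem hx') hya) hx'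
      rw [extendByZero_of_mem _ _ h2]
      have := f_conj f ⟨x, hx'⟩ v
      rw [← this]
      rfl
    · by_cases hxb : x • a = b
      · rw [if_neg hx, if_pos hxb, zero_add]
        -- `x = s * z`
        have hz : s⁻¹ * x ∈ stabilizer G a := by
          show (s⁻¹ * x) • a = a
          rw [mul_smul, hxb]
          exact inv_smul_eq_iff.mpr hsa.symm
        have hsinv := hI.inv a b hab s hsa hsb y ⟨hya, hyb⟩
        have hs2 := swap_mul_self hZ hI hab hsa hsb
        have hsi : s⁻¹ = s := inv_eq_of_mul_eq_one_left hs2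
        have h3 : s⁻¹ * y * s = y⁻¹ := by rw [hsi]; nth_rw 2 [← hsi]; exact hsinv
        have h4 : x⁻¹ * y * x = (s⁻¹ * x)⁻¹ * y⁻¹ * (s⁻¹ * x) := by
          rw [← h3]; group
        have h2 : x⁻¹ * y * x ∈ stabilizer G a := by
          rw [h4]
          exact (stabilizer G a).mul_mem ((stabilizer G a).mul_mem ((stabilizer G a).inv_mem hz)
            ((stabilizer G a).inv_mem hya)) hz
        rw [extendByZero_of_mem _ _ h2]
        have h5 := f_conj f ⟨s⁻¹ * x, hz⟩ v⁻¹
        have h6 : (⟨x⁻¹ * y * x, h2⟩ : stabilizer G a) =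
            (⟨s⁻¹ * x, hz⟩ : stabilizer G a)⁻¹ * v⁻¹ * ⟨s⁻¹ * x, hz⟩ := Subtype.ext h4
        rw [h6, h5, map_inv]
        simp
      · rw [if_neg hx, if_neg hxb, add_zero]
        apply extendByZero_of_not_mem
        intro h
        have h1 : (x⁻¹ * y * x) • a = a := h
        have h2 : y • (x • a) = x • a := by
          have := congrArg (fun c => x • c) h1
          simpa [mul_smul] using this
        rcases Cfsg.Agent.Lib.Zassenhaus.eq_or_eq_of_fix hZ hab hy1 hya hyb h2 with h3 | h3
        · exact hx h3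
        · exact hxb h3
  rw [Finset.sum_congr rfl (fun x _ => hterm x), Finset.sum_add_distrib, Finset.sum_ite,
    Finset.sum_ite, Finset.sum_const_zero, Finset.sum_const_zero, add_zero, add_zero,
    Finset.sum_const, Finset.sum_const, nsmul_eq_mul, nsmul_eq_mul]
  have h3 : (Finset.univ.filter (fun x : G => x • a = a)).card = Nat.card (stabilizer G a) := by
    rw [Nat.card_eq_fintype_card, Fintype.card_subtype]
    rfl
  have h4 : (Finset.univ.filter (fun x : G => x • a = b)).card = Nat.card (stabilizer G a) := by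
    rw [Nat.card_eq_fintype_card, ← Finset.card_univ]
    symm
    refine Finset.card_bij (fun z _ => s * (z : G)) ?_ ?_ ?_
    · intro z _
      simp only [Finset.mem_filter, Finset.mem_univ, true_and]
      rw [mul_smul]
      have : (z : G) • a = a := z.2
      rw [this, hsa]
    · intro z _ w _ h
      exact Subtype.ext (mul_left_cancel h)
    · intro x hx
      simp only [Finset.mem_filter, Finset.mem_univ, true_and] at hx
      refine ⟨⟨s⁻¹ * x, ?_⟩, Finset.mem_univ _, by simp⟩
      show (s⁻¹ * x) • a = a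
      rw [mul_smul, hx]
      exact inv_smul_eq_iff.mpr hsa.symm
  rw [h3, h4]
  have hne : (Nat.card (stabilizer G a) : ℂ) ≠ 0 := by exact_mod_cast Nat.card_pos.ne'
  field_simp

/-- The sum of a non-trivial linear character vanishes. -/
theorem sum_hom_eq_zero {A : Type*} [Group A] [Fintype A] (g : A →* ℂˣ) {u : A} (hu : g u ≠ 1) :
    ∑ y : A, ((g y : ℂˣ) : ℂ) = 0 := by
  have h1 : ∑ y : A, ((g y : ℂˣ) : ℂ) = ((g u : ℂˣ) : ℂ) * ∑ y : A, ((g y : ℂˣ) : ℂ) := by
    rw [Finset.mul_sum]
    refine (Fintype.sum_equiv (Equiv.mulLeft u) _ _ ?_).symm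
    intro y
    simp
  have h2 : (((g u : ℂˣ) : ℂ) - 1) * ∑ y : A, ((g y : ℂˣ) : ℂ) = 0 := by
    rw [sub_mul, ← h1, one_mul, sub_self]
  rcases mul_eq_zero.mp h2 with h3 | h3
  · exfalso
    apply hu
    apply Units.ext
    simpa [sub_eq_zero] using h3
  · exact h3

include hZ hI hK hfK in
/-- The square of a non-trivial linear character, trivial on the kernel, is not trivial. -/
theorem exists_sq_ne {b : Ω} (hab : a ≠ b) (hf : ∃ u, f u ≠ 1) :
    ∃ u, (f ^ 2) u ≠ 1 := by
  obtain ⟨u, hu⟩ := hf
  obtain ⟨k, hk, h1, h2⟩ := hK.exists_decomp (Ne.symm hab) u.2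
  have hka : k • a = a := hK.le k hk
  have hk' : k ∈ stabilizer G a := hka
  set w : stabilizer G a := ⟨k⁻¹ * (u : G), h1⟩ with hw
  have huw : u = ⟨k, hk'⟩ * w := by
    apply Subtype.ext
    simp [hw]
  have hfw : f w ≠ 1 := by
    intro h
    apply hu
    rw [huw, map_mul, hfK ⟨k, hk'⟩ hk, h, one_mul]
  refine ⟨w, ?_⟩
  intro h
  apply hfw
  have hmem : (w : G) ∈ stabilizer G a ⊓ stabilizer G b := ⟨h1, h2⟩
  obtain ⟨m, hm⟩ := hI.odd a b hab
  have hw2 : (⟨(w : G), hmem⟩ : ↥(stabilizer G a ⊓ stabilizer G b)) ^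
      Nat.card ↥(stabilizer G a ⊓ stabilizer G b) = 1 := pow_card_eq_one'
  have hw3 : w ^ Nat.card ↥(stabilizer G a ⊓ stabilizer G b) = 1 := by
    apply Subtype.ext
    have := congrArg Subtype.val hw2
    simpa using this
  have hf3 : f w ^ Nat.card ↥(stabilizer G a ⊓ stabilizer G b) = 1 := by
    rw [← map_pow, hw3, map_one]
  rw [hm, pow_succ, pow_mul] at hf3
  have h4 : f w ^ 2 = 1 := by simpa using h
  rw [h4, one_pow, one_mul] at hf3
  exact hf3

include hZ hI hK hfK in
/-- The norm of the induced character. -/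
theorem norm_one {b : Ω} (hab : a ≠ b) (hf : ∃ u, f u ≠ 1)
    [Fintype (stabilizer G a)] :
    classInner (indFun (stabilizer G a) (fun y => ((f y : ℂˣ) : ℂ)))
      (indFun (stabilizer G a) (fun y => ((f y : ℂˣ) : ℂ))) = 1 := by
  classical
  rw [CharInd.frobenius _ _ (indFun_isClassFunction _ _)]
  unfold classInner
  set N : ℂ := (Nat.card Ω : ℂ) with hN
  have hind : ((stabilizer G a).index : ℂ) = N := by
    rw [hN]
    have h1 := MulAction.index_stabilizer (G := G) a
    rw [h1]
    have h2 : MulAction.IsPretransitive G Ω := by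
      refine ⟨fun c d => ?_⟩
      by_cases hcd : c = d
      · exact ⟨1, by simp [hcd]⟩
      · obtain ⟨s, hs, -⟩ := Cfsg.Agent.Lib.Zassenhaus.two_trans hZ hcd (Ne.symm hcd)
        exact ⟨s, hs⟩
    have h3 : MulAction.orbit G a = Set.univ := MulAction.orbit_eq_univ G a
    rw [h3]
    simp
  -- values
  have hterm : ∀ y : stabilizer G a, ((f y : ℂˣ) : ℂ) * conj (indFun (stabilizer G a) (fun y => ((f y : ℂˣ) : ℂ)) y) =
      1 + (((f ^ 2) y : ℂˣ) : ℂ) +
        (if y = 1 then N - 2 else 0) + (if (y : G) ∈ K ∧ y ≠ 1 then -1 else 0) := by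
    intro y
    by_cases hy1 : y = 1
    · subst hy1
      have h1 := indFun_one (stabilizer G a) (fun y => ((f y : ℂˣ) : ℂ))
      simp only [map_one, Units.val_one, mul_one] at h1
      simp only [OneMemClass.coe_one]
      rw [h1, hind]
      have h2 : conj N = N := by rw [hN]; simp
      simp [h2]
      ring
    · have hy1' : (y : G) ≠ 1 := fun h => hy1 (Subtype.ext h)
      by_cases hyK : (y : G) ∈ K
      · have h1 := value_kernel hK f hfK hyK hy1'
        have h2 : f y = 1 := hfK y hyK
        rw [h1]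
        simp [h2, hy1, hyK]
      · have hya : (y : G) • a = a := y.2
        have hex : ∃ c, c ≠ a ∧ (y : G) • c = c := by
          by_contra hc
          push_neg at hc
          exact hyK ((hK.mem_iff _ hya).2 (Or.inr hc))
        obtain ⟨c, hca, hyc⟩ := hex
        have h1 := value_two hZ hI f hca.symm hya hyc hy1'
        have h1' : indFun (stabilizer G a) (fun y => ((f y : ℂˣ) : ℂ)) (y : G) =
            ((f y : ℂˣ) : ℂ) + ((f y : ℂˣ) : ℂ)⁻¹ := h1
        rw [h1']
        have h3 : ((f y : ℂˣ) : ℂ) ≠ 0 := (f y).ne_zero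
        have h4 : conj ((f y : ℂˣ) : ℂ) = ((f y : ℂˣ) : ℂ)⁻¹ := by
          have := char_conj_eq_inv (IsIrrCharacter.isCharacter (isIrrCharacter_of_hom f)) y
          simpa using this
        have h5 : (((f ^ 2) y : ℂˣ) : ℂ) = ((f y : ℂˣ) : ℂ) ^ 2 := by
          simp
        rw [h5]
        simp only [map_add, map_inv₀, h4, inv_inv, hy1, hyK, if_false, false_and]
        field_simp
        ring
  rw [Finset.sum_congr rfl (fun y _ => hterm y), Finset.sum_add_distrib, Finset.sum_add_distrib,
    Finset.sum_add_distrib]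
  obtain ⟨u, hu⟩ := exists_sq_ne hZ hI hK f hfK hab hf
  rw [sum_hom_eq_zero (f ^ 2) hu]
  have hc1 : ∑ y : stabilizer G a, (if y = 1 then N - 2 else (0 : ℂ)) = N - 2 := by
    simp
  have hc2 : ∑ y : stabilizer G a, (if (y : G) ∈ K ∧ y ≠ 1 then (-1 : ℂ) else 0) = -(N - 2) := by
    rw [Finset.sum_ite, Finset.sum_const_zero, add_zero, Finset.sum_const, nsmul_eq_mul]
    have hcard : ((Finset.univ.filter (fun y : stabilizer G a => (y : G) ∈ K ∧ y ≠ 1)).card : ℂ) = N - 2 := by
      have h1 := hK.card_add_one (b := b) hab.symm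
      have h2 : (Finset.univ.filter (fun y : stabilizer G a => (y : G) ∈ K ∧ y ≠ 1)).card + 1 = Nat.card K := by
        rw [Nat.card_eq_fintype_card, ← Finset.card_univ]
        have h3 : (Finset.univ.filter (fun y : stabilizer G a => (y : G) ∈ K ∧ y ≠ 1)).card =
            ((Finset.univ : Finset K).erase 1).card := by
          refine Finset.card_bij (fun y hy => (⟨(y : G), (Finset.mem_filter.mp hy).2.1⟩ : K))
            ?_ ?_ ?_
          · intro y hy
            simp only [Finset.mem_erase, Finset.mem_univ, and_true]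
            intro h
            have := congrArg Subtype.val h
            exact (Finset.mem_filter.mp hy).2.2 (Subtype.ext this)
          · intro y _ z _ h
            have := congrArg Subtype.val h
            exact Subtype.ext this
          · intro k hk
            refine ⟨⟨(k : G), hK.le _ k.2⟩, ?_, rfl⟩
            simp only [Finset.mem_erase, Finset.mem_univ, and_true] at hk
            simp only [Finset.mem_filter, Finset.mem_univ, true_and]
            refine ⟨k.2, ?_⟩
            intro h
            apply hk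
            apply Subtype.ext
            simpa using congrArg Subtype.val h
        rw [h3, Finset.card_erase_of_mem (Finset.mem_univ _)]
        have : 0 < (Finset.univ : Finset K).card := Finset.card_pos.mpr ⟨1, Finset.mem_univ _⟩
        omega
      have h4 : ((Finset.univ.filter (fun y : stabilizer G a => (y : G) ∈ K ∧ y ≠ 1)).card : ℂ) + 1 + 1 = N := by
        rw [hN, ← h1, ← h2]
        push_cast
        ring
      rw [← h4]
      ring
    rw [hcard]
    ring
  rw [hc1, hc2]
  have hne : (Nat.card (stabilizer G a) : ℂ) ≠ 0 := natCard_subgroup_ne_zero (stabilizer G a)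
  simp only [Finset.sum_const, Finset.card_univ, nsmul_eq_mul, mul_one, add_zero, ← Nat.card_eq_fintype_card]
  field_simp
  ring

end Cfsg.Agent.Lib.ZassChar
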