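import Mathlib
import Cfsg.Agent.Lib.FrobPartI9
import Cfsg.Agent.Lib.ZassChar
import Cfsg.Agent.Lib.ZassCount
import Cfsg.Agent.Lib.PermChar

/-!
# Characters of a point stabiliser in a Zassenhaus group

The characters of the stabiliser `N` non-trivial on the kernel `K`: induction to `G` is an isometry
on the combinations of degree zero.
-/

set_option autoImplicit false
set_option linter.unusedSectionVars false
open Cfsg MulAction

namespace Cfsg.Agent.Lib.ZassFrob9

open Cfsg.Agent.Lib.CharBasic Cfsg.Agent.Lib.GenChar Cfsg.Agent.Lib.CharInd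
  Cfsg.Agent.Lib.CharInduction Cfsg.Agent.Lib.CharKernel
  Cfsg.Agent.Lib.CoherenceBasic Cfsg.Agent.Lib.FrobIrr9 Cfsg.Agent.Lib.ZassCore
open scoped ComplexConjugate

variable {G Ω : Type*} [Group G] [Fintype G] [MulAction G Ω] [Fintype Ω] {a : Ω} {K : Subgroup G}

/-- The kernel as a subgroup of the stabiliser. -/
abbrev KK (a : Ω) (K : Subgroup G) : Subgroup (stabilizer G a) := K.subgroupOf (stabilizer G a)

theorem KK_normal (hK : IsKernelAt G a K) : (KK a K).Normal := by
  constructor
  intro n hn g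
  rw [Subgroup.mem_subgroupOf] at hn ⊢
  exact hK.normal g g.2 n hn

theorem stab_le (hK : IsKernelAt G a K) : K ≤ stabilizer G a := fun k hk => hK.le k hk

theorem card_KK (hK : IsKernelAt G a K) : Nat.card (KK a K) = Nat.card K :=
  Nat.card_congr (Subgroup.subgroupOfEquivOfLe (stab_le hK)).toEquiv

/-- `K` is a Frobenius kernel of the stabiliser. -/
theorem fro (hZ : IsZassenhausGroup G Ω) (hK : IsKernelAt G a K) :
    ∀ h ∈ KK a K, h ≠ 1 → Subgroup.centralizer ({h} : Set (stabilizer G a)) ≤ KK a K := by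
  intro h hh hh1 x hx
  rw [Subgroup.mem_subgroupOf] at hh ⊢
  rw [Subgroup.mem_centralizer_singleton_iff] at hx
  have hh1' : (h : G) ≠ 1 := fun h' => hh1 (Subtype.ext h')
  have hcomm : (x : G) * h = h * x := congrArg Subtype.val hx
  have hxa : (x : G) • a = a := x.2
  rw [hK.mem_iff _ hxa]
  by_cases hx1 : (x : G) = 1
  · exact Or.inl hx1
  right
  intro c hc hfix
  apply hx1
  have hhc : (h : G) • c ≠ c := fun h2 => hh1' (hK.eq_one_of_fix hh hc h2)
  have hha : (h : G) • c ≠ a := by
    intro h2
    apply hc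
    have : (h : G) • c = (h : G) • a := by rw [h2, hK.le _ hh]
    exact smul_left_cancel _ this
  have h3 : (x : G) • ((h : G) • c) = (h : G) • c := by rw [← mul_smul, hcomm, mul_smul, hfix]
  exact hZ.2.2.1 _ a c _ (Ne.symm hc) (Ne.symm hhc) (Ne.symm hha) hxa hfix h3

/-- The order of the stabiliser. -/
theorem index_KK (hZ : IsZassenhausGroup G Ω) (hK : IsKernelAt G a K) {b : Ω} (hab : a ≠ b) :
    (KK a K).index = Nat.card ↥(stabilizer G a ⊓ stabilizer G b) := by
  have h1 := (KK a K).card_mul_index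
  have h2 := Cfsg.Agent.Lib.ZassCount.card_stabilizer hZ hab
  have h3 := hK.card_add_one hab.symm
  rw [card_KK hK] at h1
  have h4 : Fintype.card Ω - 1 = Nat.card K := by
    rw [Nat.card_eq_fintype_card (α := Ω)] at h3
    omega
  rw [h4] at h2
  rw [h2] at h1
  exact Nat.eq_of_mul_eq_mul_left Nat.card_pos h1

theorem index_stab (hZ : IsZassenhausGroup G Ω) {b : Ω} (hab : a ≠ b) :
    (stabilizer G a).index = Fintype.card Ω := by
  have horb : orbit G a = Set.univ := by
    ext c
    simp only [Set.mem_univ, iff_true]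
    by_cases hca : c = a
    · exact ⟨1, by simp [hca]⟩
    · obtain ⟨g, h5, -⟩ := Cfsg.Agent.Lib.Zassenhaus.two_trans hZ hab (c := c) (d := a) hca
      exact ⟨g, h5⟩
  rw [index_stabilizer, horb, Set.ncard_univ, Nat.card_eq_fintype_card (α := Ω)]

/-- The value at the non-identity elements of the kernel. -/
theorem ind_value_kernel (hK : IsKernelAt G a K) (α : stabilizer G a → ℂ)
    (hα : IsClassFunction (stabilizer G a) α) {k : G} (hk : k ∈ K) (hk1 : k ≠ 1) :
    indFun (stabilizer G a) α k = α ⟨k, hK.le k hk⟩ := by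
  classical
  unfold indFun
  have hterm : ∀ x : G, extendByZero (stabilizer G a) α (x⁻¹ * k * x) =
      if x ∈ stabilizer G a then α ⟨k, hK.le k hk⟩ else 0 := by
    intro x
    by_cases hx : x ∈ stabilizer G a
    · rw [if_pos hx]
      have hxa : x • a = a := hx
      have h1 : x⁻¹ * k * x ∈ K := by
        have := hK.normal x⁻¹ (inv_smul_eq_iff.mpr hxa.symm) k hk
        rwa [inv_inv] at this
      have h2 : x⁻¹ * k * x ∈ stabilizer G a := hK.le _ h1
      rw [extendByZero_of_mem _ _ h2]
      have h3 := hα ⟨k, hK.le k hk⟩ ⟨x, hx⟩⁻¹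
      have h4 : (⟨x, hx⟩⁻¹ : stabilizer G a) * ⟨k, hK.le k hk⟩ * (⟨x, hx⟩⁻¹ : stabilizer G a)⁻¹ =
          ⟨x⁻¹ * k * x, h2⟩ := by
        apply Subtype.ext
        simp
      rw [h4] at h3
      exact h3
    · rw [if_neg hx]
      apply extendByZero_of_not_mem
      intro h
      apply hx
      have h1 : (x⁻¹ * k * x) • a = a := h
      have h2 : k • (x • a) = x • a := by
        have := congrArg (fun c => x • c) h1
        simpa [mul_smul] using this
      exact hK.fixed_eq hk hk1 h2
  rw [Finset.sum_congr rfl (fun x _ => hterm x), Finset.sum_ite, Finset.sum_const_zero, add_zero,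
    Finset.sum_const, nsmul_eq_mul]
  have h3 : (Finset.univ.filter (fun x : G => x ∈ stabilizer G a)).card =
      Nat.card (stabilizer G a) := by
    rw [Nat.card_eq_fintype_card, Fintype.card_subtype]
  rw [h3]
  have hne : (Nat.card (stabilizer G a) : ℂ) ≠ 0 := by exact_mod_cast Nat.card_pos.ne'
  field_simp

/-- The inner product of induced functions vanishing off the kernel. -/
theorem inner_ind_ind (hZ : IsZassenhausGroup G Ω) (hK : IsKernelAt G a K) {b : Ω} (hab : a ≠ b)
    [Fintype (stabilizer G a)] {α β : stabilizer G a → ℂ}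
    (hαK : ∀ n, n ∉ KK a K → α n = 0) (hβ : IsClassFunction (stabilizer G a) β) :
    classInner (indFun (stabilizer G a) α) (indFun (stabilizer G a) β) =
      classInner α β + ((Nat.card K : ℂ) * (Nat.card (stabilizer G a) : ℂ)⁻¹) * (α 1 * conj (β 1)) := by
  classical
  rw [CharInd.frobenius _ _ (indFun_isClassFunction _ _)]
  unfold classInner
  have hdeg : (stabilizer G a).index = Nat.card K + 1 := by
    rw [index_stab hZ hab, ← Nat.card_eq_fintype_card (α := Ω), hK.card_add_one hab.symm]
  have hterm : ∀ n : stabilizer G a, α n * conj (indFun (stabilizer G a) β (n : G)) =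
      α n * conj (β n) + (if n = 1 then (Nat.card K : ℂ) * (α 1 * conj (β 1)) else 0) := by
    intro n
    by_cases hn1 : n = 1
    · subst hn1
      rw [if_pos rfl]
      simp only [OneMemClass.coe_one]
      rw [indFun_one, hdeg, map_mul, Complex.conj_natCast]
      push_cast
      ring
    · rw [if_neg hn1, add_zero]
      by_cases hnK : n ∈ KK a K
      · have hnK' : (n : G) ∈ K := Subgroup.mem_subgroupOf.mp hnK
        rw [ind_value_kernel hK β hβ hnK' (fun h => hn1 (Subtype.ext h))]
      · rw [hαK n hnK, zero_mul, zero_mul]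
  rw [Finset.sum_congr rfl (fun n _ => hterm n), Finset.sum_add_distrib, Finset.sum_ite_eq']
  simp only [Finset.mem_univ, if_true]
  ring

section Iso

variable [Fintype (stabilizer G a)] [hKN : (KK a K).Normal]

/-- Elements of the span are generalized characters vanishing off the kernel. -/
theorem zspan_props (hZ : IsZassenhausGroup G Ω) (hK : IsKernelAt G a K) {α : stabilizer G a → ℂ}
    (hα : α ∈ zspan (SS (KK a K))) :
    IsGeneralizedCharacter (stabilizer G a) α ∧ ∀ n, n ∉ KK a K → α n = 0 := by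
  have hα' : α ∈ Submodule.span ℤ (SS (KK a K)) := hα
  induction hα' using Submodule.span_induction with
  | mem x hx =>
    exact ⟨isGen_of_isIrr hx.1, fun n hn => vanish_of_mem (fro hZ hK) hx hn⟩
  | zero => exact ⟨isGen_zero, fun _ _ => rfl⟩
  | add x y _ _ hx hy =>
    have hx' := hx (Submodule.span_mono subset_rfl ‹_›)
    have hy' := hy (Submodule.span_mono subset_rfl ‹_›)
    exact ⟨isGen_add hx'.1 hy'.1, fun n hn => by simp [hx'.2 n hn, hy'.2 n hn]⟩
  | smul c x _ hx =>
    have hx' := hx (Submodule.span_mono subset_rfl ‹_›)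
    exact ⟨isGen_zsmul hx'.1 c, fun n hn => by simp [hx'.2 n hn]⟩

theorem indFun_zsmul' (α : stabilizer G a → ℂ) (n : ℤ) :
    indFun (stabilizer G a) (n • α) = n • indFun (stabilizer G a) α := by
  rw [← Int.cast_smul_eq_zsmul ℂ, indFun_smul, Int.cast_smul_eq_zsmul]

theorem ind_gen {α : stabilizer G a → ℂ} (hα : IsGeneralizedCharacter (stabilizer G a) α) :
    IsGeneralizedCharacter G (indFun (stabilizer G a) α) := by
  obtain ⟨χ, ψ, h1, h2, rfl⟩ := hα
  rw [indFun_sub]
  exact isGen_sub (isGen_of_isChar (indFun_isCharacter _ h1)) (isGen_of_isChar (indFun_isCharacter _ h2))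

/-- Induction is an isometry on the combinations of degree zero. -/
theorem iso_ind (hZ : IsZassenhausGroup G Ω) (hK : IsKernelAt G a K) {b : Ω} (hab : a ≠ b) :
    IsLinearIsometryOn (zspanOn (SS (KK a K)) {1}ᶜ) (indFun (stabilizer G a)) := by
  refine ⟨fun α _ β _ => indFun_add _ _ _, fun α _ n => indFun_zsmul' α n, ?_, ?_⟩
  · intro α hα β hβ
    obtain ⟨h1, h2⟩ := mem_zspanOn_compl_one.mp hα
    obtain ⟨h3, -⟩ := mem_zspanOn_compl_one.mp hβ
    have h4 := zspan_props hZ hK h1
    have h5 := zspan_props hZ hK h3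
    rw [inner_ind_ind hZ hK hab h4.2 (isGen_isClassFunction h5.1), h2]
    simp
  · intro α hα
    exact ind_gen (zspan_props hZ hK (mem_zspanOn_compl_one.mp hα).1).1

/-- The induced functions vanish at `1`. -/
theorem ind_vanish (α : stabilizer G a → ℂ)
    (hα : α ∈ zspanOn (SS (KK a K)) {1}ᶜ) : indFun (stabilizer G a) α 1 = 0 := by
  rw [indFun_one, (mem_zspanOn_compl_one.mp hα).2, mul_zero]

end Iso

section Perm

/-- Induction of the trivial character of the stabiliser is the permutation character. -/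
theorem ind_one_eq_pc (hZ : IsZassenhausGroup G Ω) {b : Ω} (hab : a ≠ b) :
    indFun (stabilizer G a) (fun _ => (1 : ℂ)) = Cfsg.Agent.Lib.PermChar.pc G Ω := by
  classical
  funext g
  have htrans : ∀ c : Ω, ∃ x : G, x • a = c := by
    intro c
    by_cases hca : c = a
    · exact ⟨1, by simp [hca]⟩
    · obtain ⟨x, h5, -⟩ := Cfsg.Agent.Lib.Zassenhaus.two_trans hZ hab (c := c) (d := a) hca
      exact ⟨x, h5⟩
  unfold indFun
  have hterm : ∀ x : G, extendByZero (stabilizer G a) (fun _ => (1 : ℂ)) (x⁻¹ * g * x) =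
      if g • (x • a) = x • a then 1 else 0 := by
    intro x
    have hiff : x⁻¹ * g * x ∈ stabilizer G a ↔ g • (x • a) = x • a := by
      rw [mem_stabilizer_iff, mul_smul, mul_smul, inv_smul_eq_iff]
    by_cases h : g • (x • a) = x • a
    · rw [if_pos h, extendByZero_of_mem _ _ (hiff.mpr h)]
    · rw [if_neg h, extendByZero_of_not_mem _ _ (fun h' => h (hiff.mp h'))]
  rw [Finset.sum_congr rfl (fun x _ => hterm x), Finset.sum_boole]
  -- the count
  have hcount : (Finset.univ.filter (fun x : G => g • (x • a) = x • a)).card =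
      Nat.card (fixedBy Ω g) * Nat.card (stabilizer G a) := by
    have hmaps : ∀ x ∈ Finset.univ.filter (fun x : G => g • (x • a) = x • a),
        x • a ∈ Finset.univ.filter (fun c : Ω => g • c = c) := by
      intro x hx
      simpa using hx
    rw [Finset.card_eq_sum_card_fiberwise hmaps]
    have hfib : ∀ c ∈ Finset.univ.filter (fun c : Ω => g • c = c),
        ((Finset.univ.filter (fun x : G => g • (x • a) = x • a)).filter (fun x => x • a = c)).card =
        Nat.card (stabilizer G a) := by
      intro c hc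
      obtain ⟨x₀, hx₀⟩ := htrans c
      rw [Nat.card_eq_fintype_card, Fintype.card_subtype]
      have hc' : g • c = c := by simpa using hc
      refine Finset.card_bij (fun x _ => x₀⁻¹ * x) ?_ ?_ ?_
      · intro x hx
        have hx2 := (Finset.mem_filter.mp hx).2
        simp only [Finset.mem_filter, Finset.mem_univ, true_and, mem_stabilizer_iff]
        rw [mul_smul, hx2, ← hx₀, inv_smul_smul]
      · intro x _ y _ h
        exact mul_left_cancel h
      · intro y hy
        have hy2 : y • a = a := by simpa using hy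
        refine ⟨x₀ * y, ?_, by simp⟩
        simp only [Finset.mem_filter, Finset.mem_univ, true_and]
        rw [mul_smul, hy2, hx₀]
        exact ⟨hc', rfl⟩
    rw [Finset.sum_congr rfl hfib, Finset.sum_const, smul_eq_mul]
    congr 1
    rw [Nat.card_eq_card_toFinset]
    congr 1
    ext c
    simp only [Finset.mem_filter, Finset.mem_univ, true_and, Set.mem_toFinset]
    rfl
  rw [hcount]
  have hne : (Nat.card (stabilizer G a) : ℂ) ≠ 0 := by exact_mod_cast Nat.card_pos.ne'
  push_cast
  field_simp

theorem pretrans (hZ : IsZassenhausGroup G Ω) {b : Ω} (_hab : a ≠ b) : IsPretransitive G Ω := by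
  constructor
  intro c d
  by_cases hcd : c = d
  · exact ⟨1, by simp [hcd]⟩
  · obtain ⟨x, h5, -⟩ := Cfsg.Agent.Lib.Zassenhaus.two_trans hZ hcd (c := d) (d := c) (Ne.symm hcd)
    exact ⟨x, h5⟩

/-- The stabiliser has two orbits. -/
theorem card_orbits_stab (hZ : IsZassenhausGroup G Ω) {b : Ω} (hab : a ≠ b) :
    Nat.card (orbitRel.Quotient (stabilizer G a) Ω) = 2 := by
  classical
  rw [Nat.card_eq_two_iff]
  refine ⟨Quotient.mk'' a, Quotient.mk'' b, ?_, ?_⟩
  · intro h
    have h1 := Quotient.exact' h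
    obtain ⟨n, hn⟩ := h1
    have h2 : (n : G) • b = a := hn
    apply hab
    have h3 : (n : G) • a = a := n.2
    exact (smul_left_cancel _ (h3.trans h2.symm))
  · ext q
    induction q using Quotient.inductionOn' with
    | h c =>
      simp only [Set.mem_insert_iff, Set.mem_singleton_iff, Set.mem_univ, iff_true]
      by_cases hca : c = a
      · left; rw [hca]
      · right
        obtain ⟨x, h5, h6⟩ := Cfsg.Agent.Lib.Zassenhaus.two_trans hZ hab (c := a) (d := c) (Ne.symm hca)
        apply Quotient.sound'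
        exact ⟨⟨x, h5⟩, h6⟩

/-- The character `π - 1`. -/
noncomputable def chi (G Ω : Type*) [Group G] [MulAction G Ω] [Fintype Ω] : G → ℂ :=
  Cfsg.Agent.Lib.PermChar.pc G Ω - fun _ => 1

theorem chi_irr (hZ : IsZassenhausGroup G Ω) {b : Ω} (hab : a ≠ b) : IsIrrCharacter G (chi G Ω) := by
  have htr := pretrans hZ hab
  have hgen : IsGeneralizedCharacter G (chi G Ω) :=
    isGen_sub (isGen_of_isChar Cfsg.Agent.Lib.PermChar.isCharacter_pc) (isGen_of_isIrr isIrrCharacter_one)
  have h1 : classInner (Cfsg.Agent.Lib.PermChar.pc G Ω) (Cfsg.Agent.Lib.PermChar.pc G Ω) = 2 := by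
    rw [Cfsg.Agent.Lib.PermChar.classInner_pc_pc a, card_orbits_stab hZ hab]
    norm_num
  have h2 : classInner (Cfsg.Agent.Lib.PermChar.pc G Ω) (fun _ => (1 : ℂ)) = 1 := by
    rw [Cfsg.Agent.Lib.PermChar.classInner_pc_one]
    have : Nat.card (orbitRel.Quotient G Ω) = 1 := by
      rw [Nat.card_eq_one_iff_unique]
      refine ⟨⟨?_⟩, ⟨Quotient.mk'' a⟩⟩
      intro p q
      induction p using Quotient.inductionOn' with
      | h c =>
        induction q using Quotient.inductionOn' with
        | h d =>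
          apply Quotient.sound'
          exact htr.exists_smul_eq d c
    rw [this]
    norm_num
  have h3 : classInner (fun _ => (1 : ℂ)) (Cfsg.Agent.Lib.PermChar.pc G Ω) = 1 := by
    rw [← classInner_conj_symm, h2]
    simp
  have hnorm : classInner (chi G Ω) (chi G Ω) = 1 := by
    unfold chi
    rw [classInner_sub_left, classInner_sub_right, classInner_sub_right, h1, h2, h3,
      classInner_irr_self isIrrCharacter_one]
    norm_num
  rcases gen_norm_one hgen hnorm with h | h
  · exact h
  · exfalso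
    obtain ⟨d, hd, hd2⟩ := isIrr_one_pos h
    have h4 : Cfsg.Agent.Lib.PermChar.pc G Ω 1 = (Fintype.card Ω : ℂ) := by
      simp [Cfsg.Agent.Lib.PermChar.pc]
    simp only [chi, Pi.neg_apply, Pi.sub_apply, h4] at hd2
    have h5 := Cfsg.Agent.Lib.Zassenhaus.three_le_card hZ
    have h6 : ((1 : ℤ) - (Fintype.card Ω : ℤ) : ℤ) = (d : ℤ) := by
      have : (1 : ℂ) - (Fintype.card Ω : ℂ) = (d : ℂ) := by
        rw [← hd2]; ring
      exact_mod_cast this
    omega

theorem chi_no_fix {x : G} (hx : ∀ c : Ω, x • c ≠ c) : chi G Ω x = -1 := by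
  have : Nat.card (fixedBy Ω x) = 0 := by
    rw [Nat.card_eq_zero]
    left
    constructor
    rintro ⟨c, hc⟩
    exact hx c hc
  simp [chi, Cfsg.Agent.Lib.PermChar.pc, this]

theorem chi_one : chi G Ω 1 = (Fintype.card Ω : ℂ) - 1 := by
  simp [chi, Cfsg.Agent.Lib.PermChar.pc]

theorem chi_kernel (hZ : IsZassenhausGroup G Ω) (hK : IsKernelAt G a K) {b : Ω} (hab : a ≠ b) {u : G}
    (hu : u ∈ K) (hu1 : u ≠ 1) : chi G Ω u = 0 := by
  have h1 := ind_value_kernel hK (fun _ => (1 : ℂ)) (fun _ _ => rfl) hu hu1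
  rw [ind_one_eq_pc hZ hab] at h1
  simp only [chi, Pi.sub_apply, h1, sub_self]

end Perm

end Cfsg.Agent.Lib.ZassFrob9
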