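import Mathlib
import Cfsg.Agent.Lib.ZassFrob9
import Cfsg.Agent.Lib.ZassInv

/-!
# Coherence implies the bound for Zassenhaus groups
-/

set_option autoImplicit false
set_option linter.unusedSectionVars false
open Cfsg MulAction

namespace Cfsg.Agent.Lib.ZassPartI9

open Cfsg.Agent.Lib.CharBasic Cfsg.Agent.Lib.GenChar Cfsg.Agent.Lib.CharInd
  Cfsg.Agent.Lib.CharInduction Cfsg.Agent.Lib.CharKernel
  Cfsg.Agent.Lib.CoherenceBasic Cfsg.Agent.Lib.FrobIrr9 Cfsg.Agent.Lib.ZassCore
  Cfsg.Agent.Lib.ZassFrob9 Cfsg.Agent.Lib.FrobPartI9 Cfsg.Agent.Lib.FrobLam9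
  Cfsg.Agent.Lib.FrobCohMain9 Cfsg.Agent.Lib.ZassInv
open scoped ComplexConjugate

variable {G Ω : Type*} [Group G] [Fintype G] [MulAction G Ω] [Fintype Ω] {a : Ω} {K : Subgroup G}

/-- The stabiliser modulo the kernel is abelian when the two-point stabiliser is. -/
theorem comm_mem (hK : IsKernelAt G a K) {b : Ω} (hb : b ≠ a) [hKN : (KK a K).Normal]
    (hEab : ∀ x ∈ stabilizer G a ⊓ stabilizer G b, ∀ y ∈ stabilizer G a ⊓ stabilizer G b, x * y = y * x)
    (x y : stabilizer G a) : x * y * x⁻¹ * y⁻¹ ∈ KK a K := by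
  have hdec : ∀ z : stabilizer G a, ∃ w : stabilizer G a, (w : G) ∈ stabilizer G a ⊓ stabilizer G b ∧
      ((z : stabilizer G a) : stabilizer G a ⧸ KK a K) = (w : stabilizer G a ⧸ KK a K) := by
    intro z
    obtain ⟨k, hk, h1, h2⟩ := hK.exists_decomp hb z.2
    refine ⟨⟨k⁻¹ * z, h1⟩, ⟨h1, h2⟩, ?_⟩
    rw [QuotientGroup.eq]
    have hk' : (⟨k, hK.le k hk⟩ : stabilizer G a) ∈ KK a K := Subgroup.mem_subgroupOf.mpr hk
    have h3 : z⁻¹ * (⟨k⁻¹ * z, h1⟩ : stabilizer G a) = z⁻¹ * (⟨k, hK.le k hk⟩ : stabilizer G a)⁻¹ * z := by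
      apply Subtype.ext
      simp [mul_assoc]
    rw [h3]
    have := hKN.conj_mem _ ((KK a K).inv_mem hk') z⁻¹
    simpa using this
  obtain ⟨x', hx', hx2⟩ := hdec x
  obtain ⟨y', hy', hy2⟩ := hdec y
  rw [← QuotientGroup.eq_one_iff]
  simp only [QuotientGroup.mk_mul, QuotientGroup.mk_inv, hx2, hy2]
  have h4 : ((x' : stabilizer G a ⧸ KK a K)) * (y' : stabilizer G a ⧸ KK a K) =
      (y' : stabilizer G a ⧸ KK a K) * (x' : stabilizer G a ⧸ KK a K) := by
    rw [← QuotientGroup.mk_mul, ← QuotientGroup.mk_mul]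
    congr 1
    exact Subtype.ext (hEab _ hx' _ hy')
  rw [h4]
  group

variable [Fintype (stabilizer G a)] [hKN : (KK a K).Normal]

/-- The inner product with a function which is constant on the non-identity elements of `K`. -/
theorem inner_values (hZ : IsZassenhausGroup G Ω) (hK : IsKernelAt G a K) {ζ : stabilizer G a → ℂ}
    (hζ : ζ ∈ SS (KK a K)) {ψ : G → ℂ} {B : ℂ} (hψ : ∀ u ∈ K, u ≠ 1 → ψ u = B) :
    classInner ζ (fun n : stabilizer G a => ψ n) =
      (Nat.card (stabilizer G a) : ℂ)⁻¹ * (conj (ψ 1) - conj B) * ζ 1 := by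
  classical
  have hne : ζ ≠ fun _ => 1 := by
    rintro rfl
    obtain ⟨h, -, h2⟩ := hζ.2
    exact h2 rfl
  have h0 := classInner_irr_ne hζ.1 isIrrCharacter_one hne
  unfold classInner at h0
  have hN0 : (Nat.card (stabilizer G a) : ℂ)⁻¹ ≠ 0 := inv_ne_zero (by exact_mod_cast Nat.card_pos.ne')
  have h1 := (mul_eq_zero.mp h0).resolve_left hN0
  simp only [map_one, mul_one] at h1
  unfold classInner
  have hterm : ∀ n : stabilizer G a, ζ n * conj (ψ n) =
      ζ n * conj B + (if n = 1 then ζ 1 * (conj (ψ 1) - conj B) else 0) := by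
    intro n
    by_cases hn1 : n = 1
    · subst hn1
      rw [if_pos rfl]
      simp only [OneMemClass.coe_one]
      ring
    · rw [if_neg hn1, add_zero]
      by_cases hnK : n ∈ KK a K
      · rw [hψ _ (Subgroup.mem_subgroupOf.mp hnK) (fun h => hn1 (Subtype.ext h))]
      · rw [vanish_of_mem (fro hZ hK) hζ hnK, zero_mul, zero_mul]
  rw [Finset.sum_congr rfl (fun n _ => hterm n), Finset.sum_add_distrib, ← Finset.sum_mul, h1,
    Finset.sum_ite_eq']
  simp only [Finset.mem_univ, if_true]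
  ring

open Classical in
/-- The characters induced from the non-trivial linear characters trivial on `K`. -/
noncomputable def rest (a : Ω) (K : Subgroup G) [Fintype (stabilizer G a)] :
    Finset (IrrCharacter G) :=
  Finset.univ.filter (fun τ => ∃ f : stabilizer G a →* ℂˣ, (∀ u : stabilizer G a, (u : G) ∈ K → f u = 1) ∧
    (∃ u, f u ≠ 1) ∧ (τ : G → ℂ) = indFun (stabilizer G a) (fun y => ((f y : ℂˣ) : ℂ)))

theorem mem_rest {τ : IrrCharacter G} : τ ∈ rest a K ↔
    ∃ f : stabilizer G a →* ℂˣ, (∀ u : stabilizer G a, (u : G) ∈ K → f u = 1) ∧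
    (∃ u, f u ≠ 1) ∧ (τ : G → ℂ) = indFun (stabilizer G a) (fun y => ((f y : ℂˣ) : ℂ)) := by
  classical
  simp [rest]

/-- The trivial character. -/
noncomputable def triv (G : Type*) [Group G] : IrrCharacter G := ⟨fun _ => 1, isIrrCharacter_one⟩

/-- The irreducible constituent of the permutation character. -/
noncomputable def chiI (hZ : IsZassenhausGroup G Ω) {b : Ω} (hab : a ≠ b) : IrrCharacter G :=
  ⟨chi G Ω, chi_irr hZ hab⟩

open Classical in
/-- The exceptional characters. -/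
noncomputable def Exc (hZ : IsZassenhausGroup G Ω) {b : Ω} (hab : a ≠ b) (K : Subgroup G) :
    Finset (IrrCharacter G) :=
  insert (triv G) (insert (chiI hZ hab) (rest a K))

/-- The exceptional characters are constant on the non-identity elements of `K`. -/
theorem exc_const (hZ : IsZassenhausGroup G Ω) (hK : IsKernelAt G a K) {b : Ω} (hab : a ≠ b)
    {τ : IrrCharacter G} (hτ : τ ∈ Exc hZ hab K) :
    ∃ B : ℂ, ∀ u ∈ K, u ≠ 1 → (τ : G → ℂ) u = B := by
  classical
  simp only [Exc, Finset.mem_insert] at hτ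
  rcases hτ with rfl | rfl | hτ
  · exact ⟨1, fun _ _ _ => rfl⟩
  · exact ⟨0, fun u hu hu1 => chi_kernel hZ hK hab hu hu1⟩
  · obtain ⟨f, hf1, -, h⟩ := mem_rest.mp hτ
    refine ⟨1, fun u hu hu1 => ?_⟩
    rw [h]
    exact Cfsg.Agent.Lib.ZassChar.value_kernel hK f hf1 hu hu1

/-- The inner product of the characters of `N` with the exceptional characters. -/
theorem exc_inner (hZ : IsZassenhausGroup G Ω) (hK : IsKernelAt G a K) {b : Ω} (hab : a ≠ b) :
    ∀ τ ∈ Exc hZ hab K, ∃ c : ℂ, ∀ ζ ∈ SS (KK a K),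
      classInner ζ (fun n : stabilizer G a => (τ : G → ℂ) n) = c * ζ 1 := by
  intro τ hτ
  obtain ⟨B, hB⟩ := exc_const hZ hK hab hτ
  exact ⟨_, fun ζ hζ => inner_values hZ hK hζ hB⟩

/-- Irreducible characters outside the exceptional set are orthogonal to the characters of `N`
trivial on `K`. -/
theorem exc_orth (hZ : IsZassenhausGroup G Ω) (hK : IsKernelAt G a K) {b : Ω} (hab : a ≠ b)
    (hI : OddInv G Ω)
    (hEab : ∀ x ∈ stabilizer G a ⊓ stabilizer G b, ∀ y ∈ stabilizer G a ⊓ stabilizer G b, x * y = y * x)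
    (τ : IrrCharacter G) (hτ : τ ∉ Exc hZ hab K) (l : IrrCharacter (stabilizer G a))
    (hl : l ∉ TT (KK a K)) :
    classInner (fun n : stabilizer G a => (τ : G → ℂ) n) (l : stabilizer G a → ℂ) = 0 := by
  classical
  have hτ1 : τ ≠ triv G := fun h => hτ (by rw [h]; simp [Exc])
  have hτ2 : τ ≠ chiI hZ hab := fun h => hτ (by rw [h]; simp [Exc])
  have hτ3 : τ ∉ rest a K := fun h => hτ (by simp [Exc, h])
  have hτc : IsClassFunction G (τ : G → ℂ) :=
    isClassFunction_of_isCharacter (IsIrrCharacter.isCharacter τ.2)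
  -- reduce to the inner product of the induced character
  have hfro : classInner (indFun (stabilizer G a) (l : stabilizer G a → ℂ)) (τ : G → ℂ) = 0 →
      classInner (fun n : stabilizer G a => (τ : G → ℂ) n) (l : stabilizer G a → ℂ) = 0 := by
    intro h
    rw [CharInd.frobenius _ _ hτc] at h
    rw [← classInner_conj_symm, h, map_zero]
  apply hfro
  -- `l` is trivial on the kernel
  have hlK : ∀ n ∈ KK a K, (l : stabilizer G a → ℂ) n = (l : stabilizer G a → ℂ) 1 := by
    intro n hn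
    by_contra hne
    exact hl (mem_TT_iff.mpr ⟨n, hn, hne⟩)
  -- `l` is linear
  have hdeg := deg_sq_le_index l.2 (⊤ : Subgroup (stabilizer G a))
    (fun z _ g => hlK _ (comm_mem hK hab.symm hEab z g))
  rw [Subgroup.index_top] at hdeg
  have hd1 : charDegree (l : stabilizer G a → ℂ) = 1 := by
    have h2 := charDegree_pos l.2
    by_contra hc
    have h3 : 2 ≤ charDegree (l : stabilizer G a → ℂ) := by omega
    have h4 : 2 ^ 2 ≤ charDegree (l : stabilizer G a → ℂ) ^ 2 := Nat.pow_le_pow_left h3 2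
    omega
  have hl1 : (l : stabilizer G a → ℂ) 1 = 1 := by
    rw [one_eq_charDegree (IsIrrCharacter.isCharacter l.2), hd1]
    simp
  obtain ⟨f, hf⟩ := exists_hom_of_degree_one (IsIrrCharacter.isCharacter l.2) hl1
  have hleq : (l : stabilizer G a → ℂ) = fun y => ((f y : ℂˣ) : ℂ) := funext hf
  have hfK : ∀ u : stabilizer G a, (u : G) ∈ K → f u = 1 := by
    intro u hu
    apply Units.ext
    rw [← hf, hlK u (Subgroup.mem_subgroupOf.mpr hu), hl1]
    simp
  by_cases hne : ∃ u, f u ≠ 1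
  · -- non-trivial
    have hirr : IsIrrCharacter G (indFun (stabilizer G a) (fun y => ((f y : ℂˣ) : ℂ))) := by
      apply isIrrCharacter_of_norm_one
      · apply indFun_isCharacter
        rw [← hleq]
        exact IsIrrCharacter.isCharacter l.2
      · exact Cfsg.Agent.Lib.ZassChar.norm_one hZ hI hK f hfK hab hne
    rw [hleq]
    apply classInner_irr_ne hirr τ.2
    intro h
    apply hτ3
    rw [mem_rest]
    exact ⟨f, hfK, hne, h.symm⟩
  · push Not at hne
    have hl1' : (l : stabilizer G a → ℂ) = fun _ => 1 := by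
      rw [hleq]
      funext y
      simp [hne y]
    rw [hl1', ind_one_eq_pc hZ hab]
    have h2 : Cfsg.Agent.Lib.PermChar.pc G Ω = (fun _ => (1 : ℂ)) + chi G Ω := by
      funext g
      simp [chi]
    rw [h2, classInner_add_left, classInner_irr_ne isIrrCharacter_one τ.2 (fun h => hτ1 (Subtype.ext h.symm)),
      classInner_irr_ne (chi_irr hZ hab) τ.2 (fun h => hτ2 (Subtype.ext h.symm)), add_zero]

/-- The sum over the exceptional characters at elements without fixed points. -/
theorem exc_sum (hZ : IsZassenhausGroup G Ω) {b : Ω} (hab : a ≠ b) {x y : G} (hx : ∀ c : Ω, x • c ≠ c)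
    (hy : ∀ c : Ω, y • c ≠ c) :
    ∑ τ ∈ Exc hZ hab K, (τ : G → ℂ) x * conj ((τ : G → ℂ) y) = 2 := by
  classical
  have hnc : ∀ z : G, (∀ c : Ω, z • c ≠ c) → ∀ g : G, g⁻¹ * z * g ∉ stabilizer G a := by
    intro z hz g h
    have h1 : (g⁻¹ * z * g) • a = a := h
    apply hz (g • a)
    have := congrArg (fun c => g • c) h1
    simpa [mul_smul] using this
  have hrest : ∀ τ ∈ rest a K, (τ : G → ℂ) x = 0 := by
    intro τ hτ
    obtain ⟨f, -, -, h⟩ := mem_rest.mp hτ
    rw [h]
    exact indFun_eq_zero_of_not_conj _ _ (hnc x hx)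
  have h1 : (triv G : G → ℂ) x = 1 := rfl
  have h2 : ((chiI hZ hab : IrrCharacter G) : G → ℂ) x = -1 := chi_no_fix hx
  have h3 : ((chiI hZ hab : IrrCharacter G) : G → ℂ) y = -1 := chi_no_fix hy
  have hnot1 : chiI hZ hab ∉ rest a K := by
    intro h
    have := hrest _ h
    rw [h2] at this
    norm_num at this
  have hnot2 : triv G ∉ insert (chiI hZ hab) (rest a K) := by
    intro h
    rcases Finset.mem_insert.mp h with h | h
    · have h4 : (triv G : G → ℂ) x = ((chiI hZ hab : IrrCharacter G) : G → ℂ) x := by rw [h]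
      rw [h1, h2] at h4
      norm_num at h4
    · have := hrest _ h
      rw [h1] at this
      norm_num at this
  unfold Exc
  rw [Finset.sum_insert hnot2, Finset.sum_insert hnot1, Finset.sum_eq_zero
    (fun τ hτ => by rw [hrest τ hτ, zero_mul]), h1, h2, h3]
  simp [triv]
  norm_num

/-- **Part I**: coherence implies the bound. -/
theorem bound_of_coherent (hZ : IsZassenhausGroup G Ω) (hK : IsKernelAt G a K) {b : Ω} (hab : a ≠ b)
    (hI : OddInv G Ω)
    (hEab : ∀ x ∈ stabilizer G a ⊓ stabilizer G b, ∀ y ∈ stabilizer G a ⊓ stabilizer G b, x * y = y * x)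
    (h3e : 3 ≤ Nat.card ↥(stabilizer G a ⊓ stabilizer G b))
    (hcoh : IsCoherent (SS (KK a K)) {1}ᶜ (indFun (stabilizer G a))) :
    Nat.card K - 1 ≤ 2 * Nat.card ↥(stabilizer G a ⊓ stabilizer G b) := by
  classical
  by_contra hlt
  push Not at hlt
  have hidx := index_KK hZ hK hab
  have hfro := fro hZ hK
  obtain ⟨-, t, ht1, ht2⟩ := hcoh
  have hc : Coh9 (KK a K) t := ⟨ht1, ht2, hfro⟩
  rw [← hidx] at hlt h3e
  have hKcard : Nat.card (KK a K) = Nat.card K := card_KK hK
  have hw := index_mul_ww hfro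
  rw [hKcard] at hw
  have he0 : 0 < (KK a K).index := by omega
  -- the kernel is a proper non-trivial subgroup
  have hKtop : KK a K ≠ ⊤ := by
    rintro h
    rw [h, Subgroup.index_top] at h3e
    omega
  have hKbot : KK a K ≠ ⊥ := by
    rintro h
    rw [h] at hKcard
    have : Nat.card (⊥ : Subgroup (stabilizer G a)) = 1 := Subgroup.card_bot
    omega
  have hnil := nilpotent_kernel hfro hKtop
  -- a member of degree `e`
  obtain ⟨F, hF⟩ := exists_finset_SS (H := KK a K)
  have hLam : 2 ≤ Lam (KK a K) 2 := by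
    have h1 := index_commutator_le_Lam (K := KK a K)
    have h2 : (⁅(⊤ : Subgroup (KK a K)), (⊤ : Subgroup (KK a K))⁆).index ≠ 1 := by
      intro h
      have h3 := Subgroup.index_eq_one.mp h
      have h4 := commutator_sup_ne_top hnil (⊥ : Subgroup (KK a K)) (by
        intro h5
        have h6 : Nat.card (KK a K) = 1 := by
          have : Nat.card (⊤ : Subgroup (KK a K)) = Nat.card (KK a K) :=
            Nat.card_congr Subgroup.topEquiv.toEquiv
          rw [← this, ← h5]
          exact Subgroup.card_bot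
        exact hKbot ((Subgroup.eq_bot_iff_card _).mpr h6))
      rw [h3, sup_bot_eq] at h4
      exact h4 rfl
    have h3 : 0 < (⁅(⊤ : Subgroup (KK a K)), (⊤ : Subgroup (KK a K))⁆).index :=
      Nat.pos_of_ne_zero Subgroup.index_ne_zero_of_finite
    omega
  obtain ⟨ζ₀, hζ₀, hf₀⟩ : ∃ ζ₀ ∈ SS (KK a K), ff (KK a K) ζ₀ = 1 := by
    have h1 := sum_lower hfro F hF (f := 2) (by norm_num)
    have h2 : 0 < ∑ ξ ∈ F.filter (fun ξ => charDegree ξ < (KK a K).index * 2), charDegree ξ ^ 2 := by
      refine lt_of_lt_of_le ?_ h1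
      exact Nat.mul_pos he0 (by omega)
    obtain ⟨ξ, hξ, -⟩ := Finset.exists_ne_zero_of_sum_ne_zero h2.ne'
    have hξ1 := Finset.mem_filter.mp hξ
    have hξS := (hF ξ).mp hξ1.1
    refine ⟨ξ, hξS, ?_⟩
    have h3 := ff_pos hfro hξS
    have h4 := hξ1.2
    rw [ff_spec hfro hξS] at h4
    have h5 := Nat.lt_of_mul_lt_mul_left h4
    omega
  -- a second member
  have h2T : ∃ a' ∈ SS (KK a K), ∃ b' ∈ SS (KK a K), a' ≠ b' := by
    by_contra hcon
    push Not at hcon
    have hall : ∀ ξ ∈ SS (KK a K), ξ = ζ₀ := fun ξ hξ => hcon ξ hξ ζ₀ hζ₀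
    have hT : TT (KK a K) = {⟨ζ₀, hζ₀.1⟩} := by
      ext χ
      simp only [Finset.mem_singleton, mem_TT]
      constructor
      · intro h
        exact Subtype.ext (hall _ h)
      · rintro rfl
        exact hζ₀
    have hww : ww (KK a K) = 1 := by
      simp only [ww, hT, Finset.sum_singleton, hf₀, one_pow]
    rw [hww] at hw
    omega
  obtain ⟨x, y, hx, hy, hxy⟩ := Cfsg.Agent.Lib.ZassCount.exists_not_conj hZ hab (by rw [← hidx]; exact h3e)
  have hnc : ∀ z : G, (∀ c : Ω, z • c ≠ c) → ∀ g : G, g⁻¹ * z * g ∉ stabilizer G a := by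
    intro z hz g h
    have h1 : (g⁻¹ * z * g) • a = a := h
    apply hz (g • a)
    have := congrArg (fun c => g • c) h1
    simpa [mul_smul] using this
  have hcard : Nat.card G = (Nat.card (KK a K) + 1) * (Nat.card (KK a K) * (KK a K).index) := by
    rw [Cfsg.Agent.Lib.ZassH.card_group hZ hab, hKcard, hidx, ← Nat.card_eq_fintype_card (α := Ω),
      ← hK.card_add_one hab.symm]
    simp only [Nat.add_sub_cancel]
    ring
  have hb := abstract_bound hc hζ₀ hf₀ h2T (Exc hZ hab K) (exc_orth hZ hK hab hI hEab)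
    (exc_inner hZ hK hab) (hnc x hx) (hnc y hy) hxy (exc_sum hZ hab hx hy) hcard
  rw [hKcard] at hb
  omega

end Cfsg.Agent.Lib.ZassPartI9
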