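import Mathlib
import Cfsg.Agent.Lib.ZassPartI9
import Cfsg.Agent.Lib.ZassP
import Cfsg.Agent.S0741

/-!
# The order bound for simple Zassenhaus groups
-/

set_option autoImplicit false
set_option linter.unusedSectionVars false
open Cfsg MulAction

namespace Cfsg.Agent.Lib.ZassMain9

open Cfsg.Agent.Lib.CharBasic Cfsg.Agent.Lib.GenChar Cfsg.Agent.Lib.CharInd
  Cfsg.Agent.Lib.CoherenceBasic Cfsg.Agent.Lib.FrobIrr9 Cfsg.Agent.Lib.ZassCore
  Cfsg.Agent.Lib.ZassFrob9 Cfsg.Agent.Lib.ZassPartI9 Cfsg.Agent.Lib.ZassInv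

variable {G Ω : Type*} [Group G] [Fintype G] [MulAction G Ω] [Fintype Ω] {a b : Ω} {K : Subgroup G}

/-- The two-point stabiliser has at least three elements if its order is odd. -/
theorem three_le_of_odd (hZ : IsZassenhausGroup G Ω) (hab : a ≠ b)
    (hodd : Odd (Nat.card ↥(stabilizer G a ⊓ stabilizer G b))) :
    3 ≤ Nat.card ↥(stabilizer G a ⊓ stabilizer G b) := by
  obtain ⟨g, hg1, hg2, hg3⟩ := Cfsg.Agent.Lib.Zassenhaus.exists_ne_one_fix hZ hab
  have hne : Nat.card ↥(stabilizer G a ⊓ stabilizer G b) ≠ 1 := by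
    intro h
    have h1 := (Subgroup.eq_bot_iff_card _).mpr h
    have h2 : g ∈ stabilizer G a ⊓ stabilizer G b := ⟨hg2, hg3⟩
    rw [h1, Subgroup.mem_bot] at h2
    exact hg1 h2
  obtain ⟨k, hk⟩ := hodd
  have : 0 < Nat.card ↥(stabilizer G a ⊓ stabilizer G b) := Nat.card_pos
  omega

/-- For simple groups with two-point stabilisers of odd order: the bound, or the kernel is a
non-abelian group of prime power order with a small commutator quotient. -/
theorem main_simple [IsSimpleGroup G] (hZ : IsZassenhausGroup G Ω) (hK : IsKernelAt G a K)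
    (hab : a ≠ b) (hodd : Odd (Nat.card ↥(stabilizer G a ⊓ stabilizer G b))) :
    Nat.card K - 1 ≤ 2 * Nat.card ↥(stabilizer G a ⊓ stabilizer G b) ∨
      ∃ p : ℕ, p.Prime ∧ (∃ m : ℕ, Nat.card (KK a K) = p ^ m) ∧ ¬ IsMulCommutative (KK a K) ∧
        (⁅KK a K, KK a K⁆.subgroupOf (KK a K)).index ≤ 4 * (KK a K).index ^ 2 + 1 := by
  classical
  let _ : Fintype (stabilizer G a) := Fintype.ofFinite _
  have hKN : (KK a K).Normal := KK_normal hK
  by_cases hbig : Nat.card K - 1 ≤ 2 * Nat.card ↥(stabilizer G a ⊓ stabilizer G b)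
  · exact Or.inl hbig
  right
  push Not at hbig
  have h3 := three_le_of_odd hZ hab hodd
  have hidx := index_KK hZ hK hab
  have hKbot : KK a K ≠ ⊥ := by
    rintro h
    have h1 := card_KK hK
    rw [h] at h1
    have : Nat.card (⊥ : Subgroup (stabilizer G a)) = 1 := Subgroup.card_bot
    omega
  have hKtop : KK a K ≠ ⊤ := by
    rintro h
    rw [h, Subgroup.index_top] at hidx
    omega
  have hne : Nat.card (KK a K) ≠ (KK a K).index + 1 := by
    rw [card_KK hK, hidx]
    omega
  rcases Cfsg.Agent.Lib.FrobCohMain9.coherent_or_pgroup hKbot hKtop (fro hZ hK) hne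
    (indFun (stabilizer G a)) (iso_ind hZ hK hab) (ind_vanish) with h | h
  · exfalso
    have hI := oddInv_of_simple hZ hab hodd
    have hcyc := (Cfsg.Agent.Lib.ZassH.odd_main hZ hab hodd
      (Cfsg.Agent.Lib.ZassH.hnil_of_simple hZ hab hodd)).1
    have hEab : ∀ x ∈ stabilizer G a ⊓ stabilizer G b, ∀ y ∈ stabilizer G a ⊓ stabilizer G b,
        x * y = y * x := by
      intro x hx y hy
      have := hcyc.isMulCommutative.is_comm.comm ⟨x, hx⟩ ⟨y, hy⟩
      exact congrArg Subtype.val this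
    have := bound_of_coherent hZ hK hab hI hEab h3 h
    omega
  · exact h

/-- The kernel of a simple Zassenhaus group has prime power order. -/
theorem kernel_prime_pow [IsSimpleGroup G] (hZ : IsZassenhausGroup G Ω) (hK : IsKernelAt G a K)
    (hab : a ≠ b) : ∃ p f : ℕ, p.Prime ∧ Nat.card K = p ^ f := by
  classical
  have hKc := hK.card_add_one hab.symm
  rw [Nat.card_eq_fintype_card (α := Ω)] at hKc
  have hsmall : Fintype.card Ω - 2 ≤ 2 * Nat.card ↥(stabilizer G a ⊓ stabilizer G b) →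
      ∃ p f : ℕ, p.Prime ∧ Nat.card K = p ^ f :=
    fun hd => Cfsg.Agent.Lib.ZassP.exists_prime_pow hZ hab hK hd
  rcases Nat.even_or_odd (Nat.card ↥(stabilizer G a ⊓ stabilizer G b)) with he | ho
  · exact hsmall (Cfsg.Agent.S0741.result hZ hab he)
  · rcases main_simple hZ hK hab ho with h | ⟨p, hp, ⟨m, hm⟩, -, -⟩
    · exact hsmall (by omega)
    · exact ⟨p, m, hp, by rw [← card_KK hK]; exact hm⟩

end Cfsg.Agent.Lib.ZassMain9
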