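import Mathlib
import Cfsg.Agent.Lib.ZassMain9
import Cfsg.Agent.Lib.SibKernel9
import Cfsg.Agent.Lib.ZassInv2

/-!
# Feit's inequality for Zassenhaus groups with two-point stabilisers of odd order
-/

set_option autoImplicit false
set_option linter.unusedSectionVars false
set_option linter.unusedVariables false
open Cfsg MulAction

namespace Cfsg.Agent.Lib.ZassFeit9

open Cfsg.Agent.Lib.CharBasic Cfsg.Agent.Lib.FrobIrr9 Cfsg.Agent.Lib.CoherenceBasic
  Cfsg.Agent.Lib.ZassCore Cfsg.Agent.Lib.ZassFrob9 Cfsg.Agent.Lib.ZassPartI9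
  Cfsg.Agent.Lib.ZassMain9 Cfsg.Agent.Lib.SibKernel9
open scoped commutatorElement

variable {G Ω : Type*} [Group G] [MulAction G Ω] [Fintype Ω] {a b : Ω} {K : Subgroup G}

/-- The normaliser of the kernel is the point stabiliser. -/
theorem normalizer_eq (hK : IsKernelAt G a K) (hK1 : K ≠ ⊥) :
    Subgroup.normalizer (K : Set G) = stabilizer G a := by
  apply le_antisymm
  · intro g hg
    obtain ⟨x, hx, hx1⟩ : ∃ x ∈ K, x ≠ 1 := by
      by_contra hc
      push Not at hc
      exact hK1 ((Subgroup.eq_bot_iff_forall _).mpr hc)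
    have h1 : g⁻¹ * x * g ∈ K := by
      have h2 := Subgroup.mem_normalizer_iff''.mp hg x
      exact h2.mp hx
    have h2 : (g⁻¹ * x * g) • a = a := hK.le _ h1
    have h3 : x • (g • a) = g • a := by
      have := congrArg (fun c => g • c) h2
      simpa [mul_smul] using this
    have h4 := hK.fixed_eq hx hx1 h3
    exact h4
  · intro g hg
    rw [Subgroup.mem_normalizer_iff]
    intro x
    constructor
    · intro hx
      exact hK.normal g hg x hx
    · intro hx
      have hg' : g⁻¹ • a = a := inv_smul_eq_iff.mpr (Eq.symm hg)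
      have h1 := hK.normal g⁻¹ hg' _ hx
      simpa [mul_assoc] using h1

/-- The kernel is a trivial intersection set. -/
theorem kernel_ti (hK : IsKernelAt G a K) (hK1 : K ≠ ⊥) : IsTISubset (K : Set G) := by
  intro g hg x hx hgx
  by_contra hx1
  apply hg
  rw [normalizer_eq hK hK1]
  have h2 : (g * x * g⁻¹) • a = a := hK.le _ hgx
  have h3 : x • (g⁻¹ • a) = g⁻¹ • a := by
    have := congrArg (fun c => g⁻¹ • c) h2
    simpa [mul_smul] using this
  have h4 := hK.fixed_eq hx hx1 h3
  have h5 : g • a = a := by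
    have := congrArg (fun c => g • c) h4
    simpa using this.symm
  exact h5

/-- Centralisers. -/
theorem kernel_cent [Finite G] (hZ : IsZassenhausGroup G Ω) (hK : IsKernelAt G a K) :
    ∀ k ∈ K, k ≠ 1 → Subgroup.centralizer ({k} : Set G) ≤ K := by
  intro k hk hk1 g hg
  let _ : Fintype G := Fintype.ofFinite G
  have hg' := Subgroup.mem_centralizer_singleton_iff.mp hg
  have h1 : k • (g • a) = g • a := by
    rw [← mul_smul, ← hg', mul_smul, hK.le k hk]
  have h2 : g • a = a := hK.fixed_eq hk hk1 h1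
  have h3 := fro hZ hK (⟨k, hK.le k hk⟩ : stabilizer G a) (Subgroup.mem_subgroupOf.mpr hk)
    (fun h => hk1 (congrArg Subtype.val h)) (x := ⟨g, h2⟩)
    (Subgroup.mem_centralizer_singleton_iff.mpr (Subtype.ext hg'))
  exact Subgroup.mem_subgroupOf.mp h3

variable [Finite G]

/-- Feit's inequality for simple groups. -/
theorem feit_simple [IsSimpleGroup G] (hZ : IsZassenhausGroup G Ω) (hK : IsKernelAt G a K)
    (hab : a ≠ b) (hodd : Odd (Nat.card ↥(stabilizer G a ⊓ stabilizer G b))) :
    Nat.card K - 1 ≤ 2 * Nat.card ↥(stabilizer G a ⊓ stabilizer G b) ∨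
      (Nat.card K = 2 ^ (Nat.card G).factorization 2 ∧ ¬ IsMulCommutative K ∧
        (⁅K, K⁆.subgroupOf K).index < 4 * Nat.card ↥(stabilizer G a ⊓ stabilizer G b) ^ 2) := by
  classical
  let _ : Fintype G := Fintype.ofFinite G
  let _ : Fintype (stabilizer G a) := Fintype.ofFinite _
  have hKN : (KK a K).Normal := KK_normal hK
  have h3 := three_le_of_odd hZ hab hodd
  have hidx := index_KK hZ hK hab
  have hKc : Nat.card K + 1 = Nat.card Ω := hK.card_add_one hab.symm
  have hK1 : K ≠ ⊥ := by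
    intro h
    obtain ⟨g, hg, a', b', hab', ha', hb'⟩ := hZ.2.2.2.1
    obtain ⟨c, hc⟩ : ∃ c : Ω, g • c ≠ c := by
      by_contra hcon
      push Not at hcon
      have := hZ.1
      apply hg
      exact eq_of_smul_eq_smul (α := Ω) (fun x => by rw [hcon x, one_smul])
    have hca : c ≠ a' := fun h => hc (by rw [h, ha'])
    have hcb : c ≠ b' := fun h => hc (by rw [h, hb'])
    have h9 : 3 ≤ Nat.card Ω := by
      rw [Nat.card_eq_fintype_card]
      have h10 := Finset.card_le_univ ({a', b', c} : Finset Ω)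
      rwa [Finset.card_eq_three.mpr ⟨a', b', c, hab', hca.symm, hcb.symm, rfl⟩] at h10
    rw [h] at hKc
    have : Nat.card (⊥ : Subgroup G) = 1 := Subgroup.card_bot
    omega
  have hnorm := normalizer_eq hK hK1
  have hlt : K < Subgroup.normalizer (K : Set G) := by
    refine lt_of_le_of_ne Subgroup.le_normalizer ?_
    intro h
    rw [hnorm] at h
    have h4 : (KK a K).index = 1 := by
      rw [Subgroup.index_eq_one]
      rw [eq_top_iff]
      intro x _
      rw [Subgroup.mem_subgroupOf, h]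
      exact x.2
    omega
  have htrans : ∀ N : Subgroup G, Subgroup.normalizer (K : Set G) = N → ∀ [Fintype N],
      Nat.card K = (K.subgroupOf N).index + 1 ∨ IsCoherent (SS (K.subgroupOf N)) {1}ᶜ (indFun N) ∨
      (Nat.card K = 2 ^ (Nat.card G).factorization 2 ∧ ¬ IsMulCommutative K ∧
        (⁅K, K⁆.subgroupOf K).index < 4 * (K.subgroupOf N).index ^ 2) := by
    intro N hN
    subst hN
    intro _
    exact kernel_main hK1 (kernel_ti hK hK1) hlt (kernel_cent hZ hK)
  rcases htrans (stabilizer G a) hnorm with h | h | h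
  · left
    have h4 : (K.subgroupOf (stabilizer G a)).index = Nat.card ↥(stabilizer G a ⊓ stabilizer G b) := hidx
    rw [h, h4]
    omega
  · left
    have hI := Cfsg.Agent.Lib.ZassInv.oddInv_of_simple hZ hab hodd
    have hcyc := (Cfsg.Agent.Lib.ZassH.odd_main hZ hab hodd
      (Cfsg.Agent.Lib.ZassH.hnil_of_simple hZ hab hodd)).1
    have hEab : ∀ x ∈ stabilizer G a ⊓ stabilizer G b, ∀ y ∈ stabilizer G a ⊓ stabilizer G b,
        x * y = y * x := by
      intro x hx y hy
      have := hcyc.isMulCommutative.is_comm.comm ⟨x, hx⟩ ⟨y, hy⟩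
      exact congrArg Subtype.val this
    exact bound_of_coherent hZ hK hab hI hEab h3 h
  · right
    have h4 : (K.subgroupOf (stabilizer G a)).index = Nat.card ↥(stabilizer G a ⊓ stabilizer G b) := hidx
    rw [h4] at h
    exact h

/-- The kernel inside a subgroup. -/
theorem kernel_sub (hK : IsKernelAt G a K) {M : Subgroup G} (hKM : K ≤ M) :
    IsKernelAt M a (K.subgroupOf M) := by
  refine ⟨?_, ?_, ?_, ?_⟩
  · intro k hk
    exact hK.le _ (Subgroup.mem_subgroupOf.mp hk)
  · intro g hg k hk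
    exact Subgroup.mem_subgroupOf.mpr (hK.normal _ hg _ (Subgroup.mem_subgroupOf.mp hk))
  · intro g hg
    rw [Subgroup.mem_subgroupOf, hK.mem_iff _ hg]
    constructor
    · rintro (h | h)
      · exact Or.inl (Subtype.ext h)
      · exact Or.inr h
    · rintro (h | h)
      · exact Or.inl (congrArg Subtype.val h)
      · exact Or.inr h
  · intro c d hc hd
    obtain ⟨k, ⟨hk1, hk2⟩, hk3⟩ := hK.reg c d hc hd
    refine ⟨⟨k, hKM hk1⟩, ⟨Subgroup.mem_subgroupOf.mpr hk1, hk2⟩, ?_⟩
    rintro ⟨y, hy⟩ ⟨hy1, hy2⟩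
    apply Subtype.ext
    exact hk3 y ⟨Subgroup.mem_subgroupOf.mp hy1, hy2⟩

/-- The normal closure of the kernel is simple. -/
theorem closure_simple (hZ : IsZassenhausGroup G Ω) (hK : IsKernelAt G a K) (hK1 : K ≠ ⊥) :
    IsSimpleGroup (Subgroup.normalClosure (K : Set G)) := by
  classical
  set M : Subgroup G := Subgroup.normalClosure (K : Set G) with hM
  have hMn : M.Normal := Subgroup.normalClosure_normal
  have hKM : K ≤ M := Subgroup.subset_normalClosure
  have hM1 : M ≠ ⊥ := by
    intro h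
    apply hK1
    rw [eq_bot_iff, ← h]
    exact hKM
  have hZM : IsZassenhausGroup M Ω := normal_isZassenhaus hZ M hM1
  have hKM' := kernel_sub hK hKM
  have hnt : Nontrivial M := (Subgroup.nontrivial_iff_ne_bot M).mpr hM1
  refine ⟨?_⟩
  intro N hN
  by_cases hN1 : N = ⊥
  · exact Or.inl hN1
  right
  have hle := kernel_le hZM hKM' N hN1
  rw [eq_top_iff]
  rintro ⟨m, hm⟩ -
  have hcl : Subgroup.closure (Group.conjugatesOfSet (K : Set G)) ≤ N.map M.subtype := by
    refine (Subgroup.closure_le _).mpr ?_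
    intro y hy
    obtain ⟨x, hx, hxy⟩ := Group.mem_conjugatesOfSet_iff.mp hy
    obtain ⟨g, rfl⟩ := isConj_iff.mp hxy
    obtain ⟨t, htM, hta⟩ := normal_trans hZ M hM1 a (g • a)
    set s := t⁻¹ * g with hs
    have hsa : s • a = a := by
      rw [hs, mul_smul, inv_smul_eq_iff, hta]
    have hsx : s * x * s⁻¹ ∈ K := hK.normal s hsa x hx
    have h1 : g * x * g⁻¹ = t * (s * x * s⁻¹) * t⁻¹ := by
      rw [hs]
      group
    have h2 : (⟨s * x * s⁻¹, hKM hsx⟩ : M) ∈ N := hle (Subgroup.mem_subgroupOf.mpr hsx)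
    have h3 := hN.conj_mem _ h2 ⟨t, htM⟩
    rw [h1]
    exact ⟨_, h3, rfl⟩
  obtain ⟨n, hn, hnm⟩ := hcl hm
  have : (⟨m, hm⟩ : M) = n := Subtype.ext hnm.symm
  rw [this]
  exact hn

/-- Feit's inequality. -/
theorem feit_general (hZ : IsZassenhausGroup G Ω) (hK : IsKernelAt G a K)
    (hab : a ≠ b) (hodd : Odd (Nat.card ↥(stabilizer G a ⊓ stabilizer G b))) :
    Nat.card K - 1 ≤ 2 * Nat.card ↥(stabilizer G a ⊓ stabilizer G b) ∨
      (IsPGroup 2 K ∧ ¬ IsMulCommutative K ∧
        (commutator K).index ≤ 4 * Nat.card ↥(stabilizer G a ⊓ stabilizer G b) ^ 2 + 1) := by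
  classical
  by_cases hK1 : K = ⊥
  · left
    rw [hK1]
    have : Nat.card (⊥ : Subgroup G) = 1 := Subgroup.card_bot
    omega
  set M : Subgroup G := Subgroup.normalClosure (K : Set G) with hM
  have hMn : M.Normal := Subgroup.normalClosure_normal
  have hKM : K ≤ M := Subgroup.subset_normalClosure
  have hM1 : M ≠ ⊥ := by
    intro h
    apply hK1
    rw [eq_bot_iff, ← h]
    exact hKM
  have hZM : IsZassenhausGroup M Ω := normal_isZassenhaus hZ M hM1
  have hKM' := kernel_sub hK hKM
  have hsimple : IsSimpleGroup M := closure_simple hZ hK hK1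
  -- the two-point stabilisers
  set EM : Subgroup M := stabilizer M a ⊓ stabilizer M b with hEM
  set E : Subgroup G := stabilizer G a ⊓ stabilizer G b with hE
  have hmap : EM.map M.subtype ≤ E := by
    rintro _ ⟨x, hx, rfl⟩
    exact ⟨hx.1, hx.2⟩
  have hcardmap : Nat.card (EM.map M.subtype) = Nat.card EM :=
    Nat.card_congr (EM.equivMapOfInjective _ M.subtype_injective).toEquiv.symm
  have hdvd : Nat.card EM ∣ Nat.card E := by
    rw [← hcardmap]
    exact Subgroup.card_dvd_of_le hmap
  have hoddM : Odd (Nat.card EM) := Odd.of_dvd_nat hodd hdvd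
  have hle : Nat.card EM ≤ Nat.card E := Nat.le_of_dvd Nat.card_pos hdvd
  have hcardK : Nat.card (K.subgroupOf M) = Nat.card K :=
    Nat.card_congr (Subgroup.subgroupOfEquivOfLe hKM).toEquiv
  rcases feit_simple hZM hKM' hab hoddM with h | ⟨h1, h2, h3⟩
  · left
    have h' : Nat.card (K.subgroupOf M) - 1 ≤ 2 * Nat.card EM := h
    rw [hcardK] at h'
    omega
  · right
    rw [hcardK] at h1
    have h3' : (⁅K.subgroupOf M, K.subgroupOf M⁆.subgroupOf (K.subgroupOf M)).index <
      4 * Nat.card EM ^ 2 := h3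
    refine ⟨IsPGroup.iff_card.mpr ⟨_, h1⟩, ?_, ?_⟩
    · intro hc
      apply h2
      refine ⟨⟨?_⟩⟩
      intro x y
      have h4 := hc.is_comm.comm ⟨((x : K.subgroupOf M) : M), Subgroup.mem_subgroupOf.mp x.2⟩
        ⟨((y : K.subgroupOf M) : M), Subgroup.mem_subgroupOf.mp y.2⟩
      have h5 : (((x : K.subgroupOf M) : M) : G) * (((y : K.subgroupOf M) : M) : G) =
          (((y : K.subgroupOf M) : M) : G) * (((x : K.subgroupOf M) : M) : G) :=
        congrArg (fun w : K => (w : G)) h4
      apply Subtype.ext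
      apply Subtype.ext
      exact h5
    · rw [subgroupOf_commutator_eq] at h3'
      rw [← index_commutator_equiv (Subgroup.subgroupOfEquivOfLe hKM)]
      have h6 : Nat.card EM ^ 2 ≤ Nat.card E ^ 2 := Nat.pow_le_pow_left hle 2
      omega

end Cfsg.Agent.Lib.ZassFeit9
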