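import Mathlib
import Cfsg.Agent.Lib.CITElem2
import Cfsg.Agent.Lib.PSL2Rec3

/-!
# Finite groups in which the centralizer of each involution is an elementary abelian 2-group, III

The field attached to the action of the two-point stabilizer on the Sylow subgroup, and the isomorphism with `PSL(2, F)`.
-/

set_option autoImplicit false

namespace Cfsg.Agent.Lib.CITElem

open Cfsg.Agent.Lib.EmbInvol

section FieldConstruction

universe u v

/-- A commutative group `D` acting simply transitively on the non-identity elements of an elementary abelian group `A`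
yields a field with additive group `A` and multiplicative group `D`. -/
theorem exists_field {A : Type u} {D : Type v} [CommGroup A] [Group D] (hD : ∀ a b : D, a * b = b * a)
    (act : D →* MulAut A) (e : A) (he : e ≠ 1) (hexp : ∀ a : A, a * a = 1)
    (htr : ∀ a : A, a ≠ 1 → ∃ d, act d e = a) (hfree : ∀ d, act d e = e → d = 1) :
    ∃ (K : Type u) (_ : Field K) (ev : K ≃ A) (ι : D → K),
      (∀ x y, ev (x + y) = ev x * ev y) ∧ (∀ d z, ev (ι d * z) = act d (ev z)) ∧ (∀ d, ι d ≠ 0) ∧
      (∀ c : K, c ≠ 0 → ∃ d, ι d = c) ∧ ev 1 = e ∧ ι 1 = 1 ∧ (∀ a b, ι (a * b) = ι a * ι b) := by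
  classical
  let ρ : D → AddMonoid.End (Additive A) := fun d => MonoidHom.toAdditive (act d).toMonoidHom
  have hρapply : ∀ (d : D) (a : Additive A), ρ d a = Additive.ofMul (act d (Additive.toMul a)) := fun _ _ => rfl
  have hρmul : ∀ a b : D, ρ (a * b) = ρ a * ρ b := by
    intro a b
    apply DFunLike.ext
    intro x
    rw [hρapply, map_mul]
    rfl
  have hρone : ρ 1 = 1 := by
    apply DFunLike.ext
    intro x
    rw [hρapply, map_one]
    rfl
  let R : Subring (AddMonoid.End (Additive A)) := Subring.centralizer (Set.range ρ)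
  have hmemR : ∀ φ, φ ∈ R ↔ ∀ d, ρ d * φ = φ * ρ d := by
    intro φ
    show φ ∈ Subring.centralizer (Set.range ρ) ↔ _
    rw [Subring.mem_centralizer_iff]
    constructor
    · intro h d
      exact h _ ⟨d, rfl⟩
    · rintro h _ ⟨d, rfl⟩
      exact h d
  have hρR : ∀ d, ρ d ∈ R := by
    intro d
    rw [hmemR]
    intro d'
    rw [← hρmul, ← hρmul, hD]
  let e' : Additive A := Additive.ofMul e
  have he' : e' ≠ 0 := by
    intro h
    exact he h
  -- an element of `R` vanishing at `e` vanishes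
  have hdet0 : ∀ φ ∈ R, φ e' = 0 → φ = 0 := by
    intro φ hφ h0
    apply DFunLike.ext
    intro a
    by_cases ha : a = 0
    · rw [ha, map_zero]; rfl
    · obtain ⟨d, hd⟩ := htr (Additive.toMul a) ha
      have h1 : a = ρ d e' := by
        rw [hρapply]
        show a = Additive.ofMul (act d e)
        rw [hd]
        rfl
      have h2 := congrArg (fun f : AddMonoid.End (Additive A) => f e') ((hmemR φ).mp hφ d)
      have h3 : φ (ρ d e') = ρ d (φ e') := h2.symm
      rw [h1, h3, h0, map_zero]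
      rfl
  have hdet : ∀ φ ∈ R, ∀ ψ ∈ R, φ e' = ψ e' → φ = ψ := by
    intro φ hφ ψ hψ h
    have h1 := hdet0 (φ - ψ) (R.sub_mem hφ hψ) (by
      show φ e' - ψ e' = 0
      rw [h, sub_self])
    exact sub_eq_zero.mp h1
  have hcases : ∀ φ ∈ R, φ = 0 ∨ ∃ d, φ = ρ d := by
    intro φ hφ
    by_cases h0 : φ e' = 0
    · exact Or.inl (hdet0 φ hφ h0)
    · right
      obtain ⟨d, hd⟩ := htr (Additive.toMul (φ e')) h0
      refine ⟨d, hdet φ hφ _ (hρR d) ?_⟩
      rw [hρapply]
      show φ e' = Additive.ofMul (act d e)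
      rw [hd]
      rfl
  have hρne : ∀ d, ρ d e' ≠ 0 := by
    intro d h
    have h1 : act d e = 1 := h
    apply he
    have := (act d).injective (h1.trans (map_one (act d)).symm)
    exact this
  have hF : IsField R := by
    refine ⟨⟨1, 0, ?_⟩, ?_, ?_⟩
    · intro h
      have h1 : (1 : AddMonoid.End (Additive A)) = 0 := congrArg Subtype.val h
      have h2 := congrArg (fun f : AddMonoid.End (Additive A) => f e') h1
      exact he' h2
    · rintro ⟨φ, hφ⟩ ⟨ψ, hψ⟩
      apply Subtype.ext
      show φ * ψ = ψ * φ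
      rcases hcases φ hφ with rfl | ⟨d, rfl⟩
      · rw [zero_mul, mul_zero]
      · exact (hmemR ψ).mp hψ d
    · rintro ⟨φ, hφ⟩ h
      rcases hcases φ hφ with rfl | ⟨d, rfl⟩
      · exact absurd rfl h
      · refine ⟨⟨ρ d⁻¹, hρR _⟩, ?_⟩
        apply Subtype.ext
        show ρ d * ρ d⁻¹ = 1
        rw [← hρmul, mul_inv_cancel, hρone]
  letI fK : Field R := hF.toField
  let ev : R ≃ A := Equiv.ofBijective (fun φ => Additive.toMul (φ.1 e')) (by
    constructor
    · intro φ ψ h
      apply Subtype.ext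
      exact hdet _ φ.2 _ ψ.2 h
    · intro a
      by_cases ha : a = 1
      · refine ⟨⟨0, R.zero_mem⟩, ?_⟩
        rw [ha]
        rfl
      · obtain ⟨d, hd⟩ := htr a ha
        exact ⟨⟨ρ d, hρR d⟩, hd⟩)
  have hev : ∀ φ : R, ev φ = Additive.toMul (φ.1 e') := fun _ => rfl
  refine ⟨R, fK, ev, fun d => ⟨ρ d, hρR d⟩, ?_, ?_, ?_, ?_, ?_, ?_, ?_⟩
  · intro x y
    rw [hev, hev, hev]
    rfl
  · intro d z
    rw [hev, hev]
    rfl
  · intro d h
    have h1 : ρ d = 0 := congrArg Subtype.val h
    apply hρne d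
    rw [h1]
    rfl
  · rintro ⟨φ, hφ⟩ hc
    rcases hcases φ hφ with rfl | ⟨d, rfl⟩
    · exact absurd rfl hc
    · exact ⟨d, rfl⟩
  · rfl
  · apply Subtype.ext
    exact hρone
  · intro a b
    apply Subtype.ext
    exact hρmul a b

end FieldConstruction

open Cfsg.Agent.Lib.PSL2Rec OnePoint

universe u

variable {G : Type u} [Group G] [Finite G]

/-- The isomorphism with `PSL(2, K)`, with `K` in the universe of `G`. -/
theorem CIT.exists_psl_aux (h : CIT G) (T : Sylow 2 G) :
    ∃ (K : Type u) (_ : Field K) (_ : Finite K), Nat.card K = Nat.card (T : Subgroup G) ∧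
      Nonempty (G ≃* Matrix.ProjectiveSpecialLinearGroup (Fin 2) K) := by
  classical
  -- a second point
  have hQ : ∃ Q : Sylow 2 G, T ≠ Q := by
    by_contra hno
    push Not at hno
    apply h.hnn T
    haveI : Subsingleton (Sylow 2 G) := ⟨fun a b => (hno a).symm.trans (hno b)⟩
    exact Sylow.normal_of_subsingleton T
  obtain ⟨Q, hTQ⟩ := hQ
  obtain ⟨i, hi, hiT⟩ := h.exists_swap hTQ
  have hiN : i ∉ Nm T := by
    intro h'
    apply hTQ
    rw [← hiT]
    exact (mem_Nm_iff.mp h').symm
  obtain ⟨z, hzT, hz, -⟩ := h.exists_z T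
  have hz1 : z ≠ 1 := ne_one_of_order hz
  letI CG : CommGroup ↥(T : Subgroup G) :=
    { (inferInstance : Group ↥(T : Subgroup G)) with
      mul_comm := fun a b => Subtype.ext (h.comm_of_mem a.2 b.2) }
  have hnorm : ∀ d ∈ Ds T Q, ∀ t ∈ (T : Subgroup G), d * t * d⁻¹ ∈ (T : Subgroup G) := fun d hd t ht =>
    (Subgroup.mem_normalizer_iff.mp hd.1 t).mp ht
  let conjT : ↥(Ds T Q) → MulAut ↥(T : Subgroup G) := fun d =>
    { toFun := fun t => ⟨d * t * (d : G)⁻¹, hnorm d d.2 t t.2⟩
      invFun := fun t => ⟨(d : G)⁻¹ * t * d, by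
        have := hnorm _ ((Ds T Q).inv_mem d.2) t t.2
        rwa [inv_inv] at this⟩
      left_inv := fun t => Subtype.ext (by simp [mul_assoc])
      right_inv := fun t => Subtype.ext (by simp [mul_assoc])
      map_mul' := fun a b => Subtype.ext (by simp [mul_assoc]) }
  have hconjT : ∀ (d : ↥(Ds T Q)) (t : ↥(T : Subgroup G)), ((conjT d t : ↥(T : Subgroup G)) : G) = d * t * (d : G)⁻¹ :=
    fun _ _ => rfl
  let act : ↥(Ds T Q) →* MulAut ↥(T : Subgroup G) := MonoidHom.mk' conjT (by
    intro a b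
    ext t
    show ((a * b : ↥(Ds T Q)) : G) * t * ((a * b : ↥(Ds T Q)) : G)⁻¹ = a * (b * t * (b : G)⁻¹) * (a : G)⁻¹
    simp only [Subgroup.coe_mul, mul_inv_rev, mul_assoc])
  have hact : ∀ (d : ↥(Ds T Q)) (t : ↥(T : Subgroup G)), ((act d t : ↥(T : Subgroup G)) : G) = d * t * (d : G)⁻¹ :=
    fun _ _ => rfl
  let e : ↥(T : Subgroup G) := ⟨z, hzT⟩
  obtain ⟨K, fK, ev, ι, hadd, hmul, hι0, hιs, hev1, hι1, hιm⟩ := exists_field
    (A := ↥(T : Subgroup G)) (D := ↥(Ds T Q)) (fun a b => Subtype.ext (h.comm_Ds hTQ a.2 b.2)) act e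
    (fun he => hz1 (congrArg Subtype.val he))
    (fun a => Subtype.ext (h.mul_self_of_mem a.2))
    (by
      intro a ha
      have ha1 : (a : G) ≠ 1 := fun e' => ha (Subtype.ext e')
      obtain ⟨d, hd, hde⟩ := exists_conj_inf (h.stronglyEmbedded T) hi hiN hz (Subgroup.le_normalizer hzT)
        (h.orderOf_of_mem a.2 ha1) (Subgroup.le_normalizer a.2)
      have hd' : d ∈ Ds T Q := by
        have := Dd_eq_Ds (P := T) i
        rw [hiT] at this
        rw [← this]; exact hd
      exact ⟨⟨d, hd'⟩, Subtype.ext hde⟩)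
    (by
      intro d hd
      apply Subtype.ext
      have h1 : (d : G) * z * (d : G)⁻¹ = z := congrArg Subtype.val hd
      apply h.eq_one_of_comm hTQ hz d.2
      rw [mul_inv_eq_iff_eq_mul] at h1
      exact h1)
  haveI : Finite K := Finite.of_equiv _ ev.symm
  letI : Fintype K := Fintype.ofFinite K
  refine ⟨K, fK, inferInstance, Nat.card_congr ev, ?_⟩
  -- arithmetic in `K`
  have hev0 : ev 0 = 1 := by
    have h1 := hadd 0 0
    rw [add_zero] at h1
    exact (mul_eq_left.mp h1.symm)
  have hchar : ∀ x : K, x + x = 0 := by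
    intro x
    apply ev.injective
    rw [hadd, hev0]
    exact Subtype.ext (h.mul_self_of_mem (ev x).2)
  have hneg : ∀ x : K, -x = x := fun x => neg_eq_of_add_eq_zero_left (hchar x)
  have hιinv : ∀ d, ι d⁻¹ = (ι d)⁻¹ := by
    intro d
    apply eq_inv_of_mul_eq_one_left
    rw [← hιm, inv_mul_cancel, hι1]
  have hringChar : ringChar K = 2 := by
    apply CharP.ringChar_of_prime_eq_zero Nat.prime_two
    have := hchar 1
    push_cast
    rw [← this]
    norm_num
  -- the labelling
  have hTfix : ∀ x : K, ((ev x : ↥(T : Subgroup G)) : G) • T = T := fun x =>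
    mem_Nm_iff.mp (Subgroup.le_normalizer (ev x).2)
  have hnotT : ∀ x : K, ((ev x : ↥(T : Subgroup G)) : G) • Q ≠ T := by
    intro x hx
    apply hTQ
    have h2 := hx.trans (hTfix x).symm
    exact (smul_left_cancel _ h2).symm
  let lab : OnePoint K → Sylow 2 G := fun w => w.elim T (fun x => ((ev x : ↥(T : Subgroup G)) : G) • Q)
  have lab_infty : lab ∞ = T := rfl
  have lab_coe : ∀ x : K, lab (x : OnePoint K) = ((ev x : ↥(T : Subgroup G)) : G) • Q := fun _ => rfl
  have lab_bij : Function.Bijective lab := by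
    constructor
    · intro a b hab
      induction a using OnePoint.rec with
      | infty =>
        induction b using OnePoint.rec with
        | infty => rfl
        | coe y => exact absurd hab.symm (hnotT y)
      | coe x =>
        induction b using OnePoint.rec with
        | infty => exact absurd hab (hnotT x)
        | coe y =>
          have h1 : ((ev x : ↥(T : Subgroup G)) : G) • Q = ((ev y : ↥(T : Subgroup G)) : G) • Q := hab
          have h2 : ((ev y : ↥(T : Subgroup G)) : G)⁻¹ * (ev x : ↥(T : Subgroup G)) ∈ (T : Subgroup G) :=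
            Subgroup.mul_mem _ (Subgroup.inv_mem _ (ev y).2) (ev x).2
          have h3 := h.semireg hTQ h2 (by
            rw [mul_smul, h1, inv_smul_smul])
          have h4 : ev x = ev y := by
            apply Subtype.ext
            have h5 : ((ev x : ↥(T : Subgroup G)) : G) = (ev y : ↥(T : Subgroup G)) * (((ev y : ↥(T : Subgroup G)) : G)⁻¹ * (ev x : ↥(T : Subgroup G))) := by group
            rw [h5, h3, mul_one]
          rw [ev.injective h4]
    · intro W
      by_cases hW : W = T
      · exact ⟨∞, hW.symm⟩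
      · obtain ⟨τ, hτ, hτe⟩ := h.trans_P hTQ (Ne.symm hW)
        refine ⟨((ev.symm ⟨τ, hτ⟩ : K) : OnePoint K), ?_⟩
        rw [lab_coe, Equiv.apply_symm_apply]
        exact hτe
  let eqv : OnePoint K ≃ Sylow 2 G := Equiv.ofBijective lab lab_bij
  let φ : G →* Equiv.Perm (OnePoint K) :=
    (Equiv.permCongrHom eqv.symm).toMonoidHom.comp (MulAction.toPermHom G (Sylow 2 G))
  have φ_iff : ∀ (g : G) (w w' : OnePoint K), φ g w = w' ↔ g • lab w = lab w' := by
    intro g w w'
    show eqv.symm (g • eqv w) = w' ↔ _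
    rw [Equiv.symm_apply_eq]
    rfl
  have hQlab : lab ((0 : K) : OnePoint K) = Q := by
    rw [lab_coe, hev0]
    exact one_smul _ _
  have h1lab : lab ((1 : K) : OnePoint K) = z • Q := by
    rw [lab_coe, hev1]
  have h1T : T ≠ z • Q := by
    rw [← h1lab]
    exact (hnotT 1).symm
  have h1Q : Q ≠ z • Q := by
    intro hzQ
    have := h.semireg hTQ hzT hzQ.symm
    exact hz1 this
  have φ_inj : Function.Injective φ := by
    rw [injective_iff_map_eq_one]
    intro g hg
    have fix : ∀ w, g • lab w = lab w := fun w => (φ_iff g w w).mp (by rw [hg]; rfl)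
    have f1 := fix ∞
    have f2 := fix ((0 : K) : OnePoint K)
    have f3 := fix ((1 : K) : OnePoint K)
    rw [hQlab] at f2
    rw [h1lab] at f3
    exact h.eq_one_of_fix hTQ h1T h1Q f1 f2 f3
  -- elements of `T` are translations
  have hφT : ∀ b : K, φ ((ev b : ↥(T : Subgroup G)) : G) = rho (matT b) := by
    intro b
    apply Equiv.ext
    intro w
    induction w using OnePoint.rec with
    | infty =>
      rw [rho_T_infty, φ_iff]
      exact hTfix b
    | coe x =>
      rw [rho_T_coe, φ_iff, lab_coe, lab_coe, ← mul_smul, add_comm, hadd]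
      rfl
  -- elements of `D` are multiplications
  have hφD : ∀ (d : ↥(Ds T Q)) (a : K) (ha : a ≠ 0), ι d = a ^ 2 → φ (d : G) = rho (matD a ha) := by
    intro d a ha hda
    apply Equiv.ext
    intro w
    induction w using OnePoint.rec with
    | infty =>
      rw [rho_D_infty, φ_iff]
      exact mem_Nm_iff.mp d.2.1
    | coe x =>
      have hdQ : (d : G)⁻¹ • Q = Q := by
        rw [inv_smul_eq_iff]
        exact (mem_Nm_iff.mp d.2.2).symm
      rw [rho_D_coe, φ_iff, lab_coe, lab_coe, ← hda, hmul, hact, mul_smul, mul_smul, hdQ]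
  -- the labels of the elements of `D`
  have hlabι : ∀ d : ↥(Ds T Q), lab ((ι d : K) : OnePoint K) = (d : G) • z • Q := by
    intro d
    have hdQ : (d : G)⁻¹ • Q = Q := by
      rw [inv_smul_eq_iff]
      exact (mem_Nm_iff.mp d.2.2).symm
    have h1 : ev (ι d) = act d e := by
      have := hmul d 1
      rwa [mul_one, hev1] at this
    rw [lab_coe, h1, hact]
    show ((d : G) * z * (d : G)⁻¹) • Q = _
    rw [mul_smul, mul_smul, hdQ]
  -- the Weyl element
  have hS : rho (matS (K := K)) ∈ φ.range := by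
    obtain ⟨w₀, hw1, hw2, hw3⟩ := h.three_trans hTQ h1T h1Q hTQ.symm h1Q h1T
    have hww : w₀ * w₀ = 1 := by
      apply h.eq_one_of_fix hTQ h1T h1Q
      · rw [mul_smul, hw1, hw2]
      · rw [mul_smul, hw2, hw1]
      · rw [mul_smul, hw3, hw3]
    have hw0 : w₀ ≠ 1 := by
      rintro rfl
      rw [one_smul] at hw1
      exact hTQ hw1
    have ho : orderOf w₀ = 2 := order_of_mul_self hww hw0
    have hinv := h.inverts hTQ ho hw1
    refine ⟨w₀, ?_⟩
    apply Equiv.ext
    intro w
    induction w using OnePoint.rec with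
    | infty =>
      rw [rho_S_infty, φ_iff, hQlab]
      exact hw1
    | coe x =>
      by_cases hx : x = 0
      · rw [hx, rho_S_zero, φ_iff, hQlab]
        exact hw2
      · rw [rho_S_coe x hx, hneg, φ_iff]
        obtain ⟨d, rfl⟩ := hιs x hx
        rw [hlabι d, ← hιinv, hlabι d⁻¹]
        have e1 : w₀ * (d : G) = ((d : G))⁻¹ * w₀ := by
          have := hinv d d.2
          rw [mul_inv_eq_iff_eq_mul] at this
          exact this
        rw [← mul_smul, e1, mul_smul, hw3]
        rfl
  have hT : ∀ b : K, rho (matT b) ∈ φ.range := fun b => ⟨_, hφT b⟩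
  have hD : ∀ (a : K) (ha : a ≠ 0), rho (matD a ha) ∈ φ.range := by
    intro a ha
    obtain ⟨d, hd⟩ := hιs (a ^ 2) (pow_ne_zero 2 ha)
    exact ⟨_, hφD d a ha hd⟩
  have hb : ∀ H ∈ φ.range, H (∞ : OnePoint K) = ∞ → H ∈ (rho (K := K)).range := by
    rintro _ ⟨g, rfl⟩ hg
    have hgT : g ∈ Nm T := mem_Nm_iff.mpr ((φ_iff g ∞ ∞).mp hg)
    obtain ⟨d, hd, τ, hτ, rfl⟩ := h.decomp hTQ hgT
    obtain ⟨r, hr⟩ := FiniteField.isSquare_of_char_two hringChar (ι ⟨d, hd⟩)
    have hr0 : r ≠ 0 := by
      rintro rfl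
      rw [mul_zero] at hr
      exact hι0 _ hr
    have e1 := hφD ⟨d, hd⟩ r hr0 (by rw [hr, pow_two])
    have e2 := hφT (ev.symm ⟨τ, hτ⟩)
    rw [Equiv.apply_symm_apply] at e2
    rw [map_mul]
    have e1' : φ d = rho (matD r hr0) := e1
    have e2' : φ τ = rho (matT (ev.symm ⟨τ, hτ⟩)) := e2
    rw [e1', e2', ← map_mul]
    exact ⟨_, rfl⟩
  have hrange : φ.range = (rho (K := K)).range := eq_range_rho φ.range hT hD hS hb
  exact ⟨(MonoidHom.ofInjective φ_inj).trans ((MulEquiv.subgroupCongr hrange).trans pslEquivRange.symm)⟩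

/-- Transport of the field structure. -/
lemma exists_field_of_equiv {K F : Type*} [Field K] (e : F ≃ K) :
    ∃ _ : Field F, Nonempty (Matrix.ProjectiveSpecialLinearGroup (Fin 2) K ≃*
      Matrix.ProjectiveSpecialLinearGroup (Fin 2) F) := by
  letI := e.field
  exact ⟨inferInstance, psl_congr e.ringEquiv.symm⟩

/-- The isomorphism with `PSL(2, F)`. -/
theorem CIT.exists_psl (h : CIT G) (T : Sylow 2 G) :
    ∃ (F : Type) (_ : Field F) (_ : Fintype F), Fintype.card F = Nat.card T ∧
      Nonempty (G ≃* Matrix.ProjectiveSpecialLinearGroup (Fin 2) F) := by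
  obtain ⟨K, fK, fin, hc, ⟨e⟩⟩ := h.exists_psl_aux T
  obtain ⟨fF, ⟨e2⟩⟩ := exists_field_of_equiv (Finite.equivFin K).symm
  refine ⟨Fin (Nat.card K), fF, inferInstance, ?_, ⟨e.trans e2⟩⟩
  rw [Fintype.card_fin]; exact hc

end Cfsg.Agent.Lib.CITElem
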