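import Mathlib
import Cfsg.Agent.Lib.CAInvTI
import Cfsg.Agent.Lib.QdCore
import Cfsg.Agent.Lib.ZassFeit9
import Cfsg.Agent.S0338
import Cfsg.Agent.S0738
import Cfsg.Agent.S1230

/-!
# Commutative involution centralizers, trivial intersections: the action on the Sylow subgroups
-/

set_option autoImplicit false
set_option linter.unusedSectionVars false
set_option linter.unusedVariables false
set_option linter.style.haveILetI false

namespace Cfsg.Agent.Lib.CAInv

open Cfsg Cfsg.Agent.Lib.EmbInvol Cfsg.Agent.Lib.CITElem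
open scoped commutatorElement

variable {G : Type*} [Group G] [Finite G]

lemma stabilizer_eq (P : Sylow 2 G) : MulAction.stabilizer G P = Nm P := by
  ext g
  rw [MulAction.mem_stabilizer_iff, mem_Nm_iff]

namespace HypT

variable (h : HypT G)
include h

/-- The action on the Sylow subgroups is a Zassenhaus group. -/
theorem zass : IsZassenhausGroup G (Sylow 2 G) := by
  have hH := h.toHyp
  obtain ⟨P, Q, hPQ⟩ := hH.exists_two_sylow
  obtain ⟨W, hWP, hWQ⟩ := hH.exists_third hPQ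
  refine ⟨⟨?_⟩, ?_, ?_, ?_, ?_⟩
  · intro x y hxy
    have h1 : ∀ R : Sylow 2 G, (y⁻¹ * x) • R = R := by
      intro R
      rw [mul_smul, hxy R, inv_smul_smul]
    have h2 : y⁻¹ * x = 1 :=
      h.three_fix hPQ ⟨mem_Nm_iff.mpr (h1 P), mem_Nm_iff.mpr (h1 Q)⟩ (h1 W) hWP hWQ
    rw [inv_mul_eq_one] at h2
    exact h2.symm
  · rw [MulAction.is_two_pretransitive_iff]
    intro a b c d hab hcd
    obtain ⟨g, hg⟩ := MulAction.exists_smul_eq G a c
    have h1 : c ≠ g • b := by
      rw [← hg]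
      intro h'
      exact hab (smul_left_cancel g h')
    obtain ⟨x, hx, hxb⟩ := h.exists_Cn_smul h1 hcd
    refine ⟨x * g, ?_, ?_⟩
    · rw [mul_smul, hg]
      exact mem_Nm_iff.mp (Cn_le_Nm c hx)
    · rw [mul_smul]
      exact hxb
  · intro g a b c hab hbc hac ha hb hc
    exact h.three_fix hab ⟨mem_Nm_iff.mpr ha, mem_Nm_iff.mpr hb⟩ hc hac.symm hbc.symm
  · obtain ⟨s, hsP, t, htP, hs, ht, hst⟩ := hH.exists_two_invol P
    obtain ⟨d, hd, hds⟩ := hH.Ds_trans hPQ hs ht hsP htP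
    refine ⟨d, ?_, P, Q, hPQ, mem_Nm_iff.mp hd.1, mem_Nm_iff.mp hd.2⟩
    rintro rfl
    apply hst
    simpa using hds
  · intro N hN hNt
    by_contra hcon
    push Not at hcon
    have hfree : ∀ n ∈ N, n • P = P → n = 1 := by
      intro n hn hnP
      have h1 : (⟨n, hn⟩ : N) ∈ MulAction.stabilizer N P := hnP
      rw [hcon P, Subgroup.mem_bot] at h1
      exact congrArg Subtype.val h1
    obtain ⟨s, hsP, t, htP, hs, ht, hst⟩ := hH.exists_two_invol P
    have hinv : ∀ s ∈ (P : Subgroup G), orderOf s = 2 → ∀ r ∈ N, s * r * s⁻¹ = r⁻¹ := by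
      intro s hsP hs
      refine Cfsg.Agent.Lib.QdCore.inverted_of_fpf s (by rw [pow_two]; exact mul_self_of_order hs)
        (fun r hr => hN.conj_mem r hr s) ?_
      intro c hc hcs
      refine hfree c hc (mem_Nm_iff.mp (Cn_le_Nm P (hH.mem_Cn_of_comm hs hsP ?_)))
      calc c * s = s * c * s⁻¹ * s := by rw [hcs]
        _ = s * c := by group
    have hss := mul_self_of_order hs
    have htt := mul_self_of_order ht
    have hcomm : s * t = t * s := hH.comm_of_mem hsP htP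
    have h1 : (s * t) * (s * t) = 1 := by
      calc (s * t) * (s * t) = s * (t * s) * t := by group
        _ = s * (s * t) * t := by rw [hcomm]
        _ = (s * s) * (t * t) := by group
        _ = 1 := by rw [hss, htt, one_mul]
    have h2 : s * t ≠ 1 := by
      intro h'
      apply hst
      have : t = s⁻¹ := eq_inv_of_mul_eq_one_right h'
      rw [this, inv_of_order hs]
    have h3 : orderOf (s * t) = 2 := order_of_mul_self h1 h2
    have h4 : s * t ∈ (P : Subgroup G) := (P : Subgroup G).mul_mem hsP htP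
    have hall : ∀ r ∈ N, r = 1 := by
      intro r hr
      refine hfree r hr (mem_Nm_iff.mp (Cn_le_Nm P (hH.mem_Cn_of_comm h3 h4 ?_)))
      have e1 : (s * t) * r * (s * t)⁻¹ = s * (t * r * t⁻¹) * s⁻¹ := by group
      have e2 : s * r⁻¹ * s⁻¹ = (s * r * s⁻¹)⁻¹ := by group
      rw [hinv t htP ht r hr, e2, hinv s hsP hs r hr, inv_inv] at e1
      calc r * (s * t) = (s * t) * r * (s * t)⁻¹ * (s * t) := by rw [e1]
        _ = (s * t) * r := by group
    obtain ⟨n, hn⟩ := MulAction.exists_smul_eq N P Q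
    have h5 : (n : G) = 1 := hall n n.2
    have h6 : (n : G) • P = Q := hn
    rw [h5, one_smul] at h6
    exact hPQ h6

/-- The kernel of the Zassenhaus group. -/
theorem isKernelAt (P : Sylow 2 G) : Cfsg.Agent.Lib.ZassCore.IsKernelAt G P (Cn P) where
  le := fun k hk => mem_Nm_iff.mp (Cn_le_Nm P hk)
  normal := fun g hg k hk => conj_mem_Cn (mem_Nm_iff.mpr hg) hk
  mem_iff := by
    intro g hg
    constructor
    · intro hgC
      by_cases hg1 : g = 1
      · exact Or.inl hg1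
      · refine Or.inr fun c hc hgc => hg1 (h.Cn_free hc.symm hgC hgc)
    · rintro (rfl | hfix)
      · exact (Cn P).one_mem
      · by_contra hgC
        obtain ⟨Y, hY, hYg⟩ := h.exists_fix (mem_Nm_iff.mpr hg) hgC
        exact hfix Y hY hYg
  reg := by
    intro c d hc hd
    obtain ⟨k, hk, hkc⟩ := h.exists_Cn_smul hc.symm hd.symm
    refine ⟨k, ⟨hk, hkc⟩, ?_⟩
    rintro k' ⟨hk', hk'c⟩
    have h1 : k⁻¹ * k' ∈ Cn P := (Cn P).mul_mem ((Cn P).inv_mem hk) hk'
    have h2 : (k⁻¹ * k') • c = c := by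
      rw [mul_smul, hk'c, ← hkc, inv_smul_smul]
    have h3 := h.Cn_free hc.symm h1 h2
    rw [inv_mul_eq_one] at h3
    exact h3.symm

/-- `G` is simple. -/
theorem isSimple : IsSimpleGroup G := by
  classical
  letI : Fintype (Sylow 2 G) := Fintype.ofFinite _
  refine Cfsg.Agent.S0338.result h.zass ?_
  have h1 := card_sylow_modEq_one 2 G
  rw [Nat.odd_iff]
  have h2 : Nat.card (Sylow 2 G) = Fintype.card (Sylow 2 G) := Nat.card_eq_fintype_card
  rw [← h2]
  exact h1

/-- The centralizers of the involutions are elementary abelian 2-groups. -/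
theorem elem {t c : G} (ht : orderOf t = 2) (hc : c * t = t * c) : c * c = 1 := by
  classical
  have hH := h.toHyp
  have hZ := h.zass
  letI : Fintype (Sylow 2 G) := Fintype.ofFinite _
  haveI : IsSimpleGroup G := h.isSimple
  obtain ⟨P, hP⟩ := exists_sylow_mem ht
  obtain ⟨Q, hPQ⟩ := hH.exists_ne P
  have hK := h.isKernelAt P
  have hDeq : MulAction.stabilizer G P ⊓ MulAction.stabilizer G Q = Ds P Q := by
    rw [stabilizer_eq, stabilizer_eq]
  have hodd : Odd (Nat.card ↥(MulAction.stabilizer G P ⊓ MulAction.stabilizer G Q)) := by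
    rw [hDeq]; exact hH.odd_Ds hPQ
  have hcomm : IsMulCommutative (Cn P) :=
    ⟨⟨fun a b => Subtype.ext (hH.Cn_comm a.2 b.2)⟩⟩
  have hF := Cfsg.Agent.Lib.ZassFeit9.feit_simple hZ hK hPQ hodd
  have hF2 : Nat.card (Cn P) - 1 ≤ 2 * Nat.card ↥(MulAction.stabilizer G P ⊓ MulAction.stabilizer G Q) := by
    rcases hF with h1 | ⟨-, h2, -⟩
    · exact h1
    · exact absurd hcomm h2
  have hKc : Nat.card (Cn P) + 1 = Nat.card (Sylow 2 G) := hK.card_add_one hPQ.symm
  rw [Nat.card_eq_fintype_card (α := Sylow 2 G)] at hKc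
  have hle : Fintype.card (Sylow 2 G) - 2 ≤
      2 * Nat.card ↥(MulAction.stabilizer G P ⊓ MulAction.stabilizer G Q) := by omega
  have hFle : Cn P ≤ MulAction.stabilizer G P := by
    rw [stabilizer_eq]; exact Cn_le_Nm P
  have hFn : ((Cn P).subgroupOf (MulAction.stabilizer G P)).Normal := by
    refine ⟨fun n hn g => ?_⟩
    rw [Subgroup.mem_subgroupOf] at hn ⊢
    exact hK.normal g g.2 n hn
  have hreg : ∀ y z : Sylow 2 G, y ≠ P → z ≠ P → ∃! u : Cn P, (u : G) • y = z := by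
    intro y z hy hz
    obtain ⟨k, ⟨hk1, hk2⟩, hk3⟩ := hK.reg y z hy hz
    refine ⟨⟨k, hk1⟩, hk2, ?_⟩
    rintro ⟨u, hu⟩ h'
    exact Subtype.ext (hk3 u ⟨hu, h'⟩)
  obtain ⟨-, p, f, hp, hpow, -⟩ := Cfsg.Agent.S0738.result hZ hPQ hle (Cn P) hFle hFn hreg
  have h1 : t ∈ Cn P := hH.mem_Cn_of_comm ht hP rfl
  have h2 : t ^ p = 1 := hpow t h1
  have h3 : 2 ∣ p := by
    rw [← ht]
    exact orderOf_dvd_of_pow_eq_one h2
  have h4 : p = 2 := ((Nat.prime_dvd_prime_iff_eq Nat.prime_two hp).mp h3).symm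
  subst h4
  have h5 := hpow c (hH.mem_Cn_of_comm ht hP hc)
  rwa [pow_two] at h5

/-- The quotient of a point stabilizer by the centralizer is commutative. -/
lemma comm_mod {P : Sylow 2 G} {x y : G} (hx : x ∈ Nm P) (hy : y ∈ Nm P) : x⁻¹ * y⁻¹ * x * y ∈ Cn P := by
  have hH := h.toHyp
  obtain ⟨Q, hPQ⟩ := hH.exists_ne P
  obtain ⟨s, hsP, hs⟩ := hH.exists_invol P
  obtain ⟨d₁, hd₁, hc₁⟩ := hH.Nm_decomp hPQ hx
  obtain ⟨d₂, hd₂, hc₂⟩ := hH.Nm_decomp hPQ hy
  set c₁ := d₁⁻¹ * x with hc₁d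
  set c₂ := d₂⁻¹ * y with hc₂d
  have hx' : x = d₁ * c₁ := by rw [hc₁d]; group
  have hy' : y = d₂ * c₂ := by rw [hc₂d]; group
  have hact : ∀ {x d c r : G}, x = d * c → c ∈ Cn P → r ∈ (P : Subgroup G) → x * r * x⁻¹ = d * r * d⁻¹ := by
    intro x d c r hx hc hr
    have : c * r = r * c := hH.comm_of_mem_Cn hr hc
    rw [hx]
    calc d * c * r * (d * c)⁻¹ = d * (c * r) * c⁻¹ * d⁻¹ := by group
      _ = d * (r * c) * c⁻¹ * d⁻¹ := by rw [this]
      _ = d * r * d⁻¹ := by group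
  have hds : ∀ {d : G}, d ∈ Ds P Q → ∀ {r : G}, r ∈ (P : Subgroup G) → d * r * d⁻¹ ∈ (P : Subgroup G) :=
    fun hd r hr => (Subgroup.mem_normalizer_iff.mp hd.1 r).mp hr
  have e1 : (x * y) * s * (x * y)⁻¹ = d₁ * d₂ * s * (d₁ * d₂)⁻¹ := by
    have e2 : (x * y) * s * (x * y)⁻¹ = x * (y * s * y⁻¹) * x⁻¹ := by group
    rw [e2, hact hy' hc₂ hsP, hact hx' hc₁ (hds hd₂ hsP)]
    group
  have e3 : (y * x) * s * (y * x)⁻¹ = d₂ * d₁ * s * (d₂ * d₁)⁻¹ := by
    have e2 : (y * x) * s * (y * x)⁻¹ = y * (x * s * x⁻¹) * y⁻¹ := by group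
    rw [e2, hact hx' hc₁ hsP, hact hy' hc₂ (hds hd₁ hsP)]
    group
  have e4 : d₁ * d₂ = d₂ * d₁ := h.comm_Ds hPQ hd₁ hd₂
  refine hH.mem_Cn_of_comm hs hsP ?_
  have e5 : (x * y) * s * (x * y)⁻¹ = (y * x) * s * (y * x)⁻¹ := by rw [e1, e3, e4]
  calc x⁻¹ * y⁻¹ * x * y * s = (y * x)⁻¹ * ((x * y) * s * (x * y)⁻¹) * (x * y) := by group
    _ = (y * x)⁻¹ * ((y * x) * s * (y * x)⁻¹) * (x * y) := by rw [e5]
    _ = s * (x⁻¹ * y⁻¹ * x * y) := by group

/-- There is no subgroup of odd order transitive on the involutions. -/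
theorem no_odd_trans {E : Subgroup G} (hE : Odd (Nat.card E))
    (htr : ∀ s t : G, orderOf s = 2 → orderOf t = 2 → ∃ e ∈ E, e * s * e⁻¹ = t) : False := by
  have hH := h.toHyp
  obtain ⟨P, Q₀, hPQ₀⟩ := hH.exists_two_sylow
  obtain ⟨s, hsP, t, htP, hs, ht, hst⟩ := hH.exists_two_invol P
  obtain ⟨e, heE, hes⟩ := htr s t hs ht
  have heP : e • P = P := hH.smul_eq_of_conj ht hsP htP hes
  have heNm : e ∈ Nm P := mem_Nm_iff.mpr heP
  have heC : e ∉ Cn P := by
    intro hc
    have e1 : e * s = s * e := hH.comm_of_mem_Cn hsP hc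
    apply hst
    rw [← hes, e1]
    group
  have he1 : e ≠ 1 := by
    rintro rfl
    exact heC (Cn P).one_mem
  obtain ⟨Q, hQP, heQ⟩ := h.exists_fix heNm heC
  have hPQ : P ≠ Q := hQP.symm
  have heD : e ∈ Ds P Q := ⟨heNm, mem_Nm_iff.mpr heQ⟩
  have hfix : ∀ Y : Sylow 2 G, e • Y = Y → Y = P ∨ Y = Q := by
    intro Y hY
    by_contra hne
    push Not at hne
    exact he1 (h.three_fix hPQ heD hY hne.1 hne.2)
  have hcomm : ∀ g ∈ E, g • P = P → g * e = e * g := by
    intro g hg hgP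
    have hgN : g ∈ Nm P := mem_Nm_iff.mpr hgP
    have h1 := h.comm_mod heNm hgN
    have h2 : e⁻¹ * g⁻¹ * e * g ∈ E := E.mul_mem (E.mul_mem (E.mul_mem (E.inv_mem heE) (E.inv_mem hg)) heE) hg
    have h3 : (e⁻¹ * g⁻¹ * e * g) * (e⁻¹ * g⁻¹ * e * g) = 1 :=
      h.elem hs (hH.comm_of_mem_Cn hsP h1)
    have h4 := odd_eq_one_of_mul_self (odd_of_mem_odd hE h2) h3
    have h5 : e * g = (g * e) * (e⁻¹ * g⁻¹ * e * g) := by group
    rw [h5, h4, mul_one]
  have hPtoQ : ∀ g ∈ E, g • P = P → g • Q = Q := by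
    intro g hg hgP
    have h1 : e • (g • Q) = g • Q := by
      rw [← mul_smul, ← hcomm g hg hgP, mul_smul, heQ]
    rcases hfix _ h1 with h2 | h2
    · exfalso
      apply hQP
      have : g • Q = g • P := by rw [h2, hgP]
      exact smul_left_cancel g this
    · exact h2
  -- an element of `E` moving `P` to `Q`
  obtain ⟨s', hs'Q, hs'⟩ := hH.exists_invol Q
  obtain ⟨x, hxE, hxs⟩ := htr s s' hs hs'
  have hxP : x • P = Q := hH.smul_eq_of_conj hs' hsP hs'Q hxs
  -- the two stabilizers coincide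
  have hle : E ⊓ Nm P ≤ E ⊓ Nm Q := fun g hg => ⟨hg.1, mem_Nm_iff.mpr (hPtoQ g hg.1 (mem_Nm_iff.mp hg.2))⟩
  have hcard : Nat.card ↥(E ⊓ Nm Q) ≤ Nat.card ↥(E ⊓ Nm P) := by
    have hmem : ∀ g : ↥(E ⊓ Nm Q), x⁻¹ * (g : G) * x ∈ E ⊓ Nm P := by
      intro g
      refine ⟨E.mul_mem (E.mul_mem (E.inv_mem hxE) g.2.1) hxE, mem_Nm_iff.mpr ?_⟩
      rw [mul_smul, mul_smul, hxP, mem_Nm_iff.mp g.2.2, ← hxP, inv_smul_smul]
    let f : ↥(E ⊓ Nm Q) → ↥(E ⊓ Nm P) := fun g => ⟨_, hmem g⟩
    apply Nat.card_le_card_of_injective f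
    intro a b hab
    have e1 : x⁻¹ * (a : G) * x = x⁻¹ * (b : G) * x := congrArg Subtype.val hab
    apply Subtype.ext
    exact mul_left_cancel (mul_right_cancel e1)
  have heq : E ⊓ Nm P = E ⊓ Nm Q := Subgroup.eq_of_le_of_card_ge hle hcard
  have hconj : x * e * x⁻¹ ∈ E ⊓ Nm P := by
    rw [heq]
    refine ⟨E.mul_mem (E.mul_mem hxE heE) (E.inv_mem hxE), mem_Nm_iff.mpr ?_⟩
    rw [mul_smul, mul_smul, ← hxP, inv_smul_smul, heP]
  have hinvP : e • (x⁻¹ • P) = x⁻¹ • P := by
    have h1 := mem_Nm_iff.mp hconj.2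
    rw [mul_smul, mul_smul] at h1
    have h2 : x⁻¹ • (x • e • x⁻¹ • P) = x⁻¹ • P := by rw [h1]
    rwa [inv_smul_smul] at h2
  have hxQ : x • Q = P := by
    rcases hfix _ hinvP with h1 | h1
    · exfalso
      apply hPQ
      rw [← hxP]
      rw [inv_smul_eq_iff] at h1
      exact h1
    · rw [inv_smul_eq_iff] at h1
      exact h1.symm
  have hodd : Odd (orderOf x) := odd_of_mem_odd hE hxE
  obtain ⟨k, hk⟩ := hodd
  have h1 : (x * x) • P = P := by rw [mul_smul, hxP, hxQ]
  have h2 : (x * x) ^ k ∈ Nm P := (Nm P).pow_mem (mem_Nm_iff.mpr h1) k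
  have h3 : x ^ (orderOf x) = x * (x * x) ^ k := by
    rw [hk, ← pow_two, ← pow_mul, pow_succ']
  have h4 : x • P = P := by
    have h5 := mem_Nm_iff.mp h2
    have h6 : (x ^ orderOf x) • P = P := by rw [pow_orderOf_eq_one, one_smul]
    rw [h3, mul_smul, h5] at h6
    exact h6
  exact hPQ (h4.symm.trans hxP)

/-- The identification of `G` with a special linear group. -/
theorem exists_SL : ∃ (F : Type) (_ : Field F) (_ : Fintype F), CharP F 2 ∧
    Nonempty (G ≃* Matrix.SpecialLinearGroup (Fin 2) F) ∧ commutator G = ⊤ := by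
  have hH := h.toHyp
  obtain ⟨T⟩ := (inferInstance : Nonempty (Sylow 2 G))
  obtain ⟨P, Q, hPQ⟩ := hH.exists_two_sylow
  obtain ⟨s, hsT, t, htT, hs, ht, hst⟩ := hH.exists_two_invol T
  have hnc : ¬ IsCyclic (T : Subgroup G) := by
    intro hcyc
    classical
    haveI := Fintype.ofFinite (T : Subgroup G)
    have h1 := IsCyclic.card_pow_eq_one_le (α := (T : Subgroup G)) (n := 2) (by norm_num)
    have h2 : ({1, ⟨s, hsT⟩, ⟨t, htT⟩} : Finset (T : Subgroup G)) ⊆
        Finset.univ.filter (fun a : (T : Subgroup G) => a ^ 2 = 1) := by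
      intro a ha
      simp only [Finset.mem_insert, Finset.mem_singleton] at ha
      rw [Finset.mem_filter]
      refine ⟨Finset.mem_univ _, ?_⟩
      rcases ha with rfl | rfl | rfl
      · simp
      · apply Subtype.ext
        simpa [pow_two] using mul_self_of_order hs
      · apply Subtype.ext
        simpa [pow_two] using mul_self_of_order ht
    have h3 := Finset.card_le_card h2
    have h4 : ({1, ⟨s, hsT⟩, ⟨t, htT⟩} : Finset (T : Subgroup G)).card = 3 := by
      rw [Finset.card_eq_three]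
      refine ⟨1, ⟨s, hsT⟩, ⟨t, htT⟩, ?_, ?_, ?_, rfl⟩
      · intro h'
        exact ne_one_of_order hs (congrArg Subtype.val h').symm
      · intro h'
        exact ne_one_of_order ht (congrArg Subtype.val h').symm
      · intro h'
        exact hst (congrArg Subtype.val h')
    omega
  have hnn : ¬ (T : Subgroup G).Normal := by
    intro hT
    letI := Sylow.unique_of_normal T hT
    exact hPQ (Subsingleton.elim P Q)
  have hC : ∀ t : G, orderOf t = 2 → IsMulCommutative (Subgroup.centralizer ({t} : Set G)) ∧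
      ∀ c ∈ Subgroup.centralizer ({t} : Set G), c ^ 2 = 1 := by
    intro t ht
    have hmem : ∀ c ∈ Subgroup.centralizer ({t} : Set G), c * t = t * c := by
      intro c hc
      have := Subgroup.mem_centralizer_iff.mp hc t rfl
      exact this.symm
    refine ⟨⟨⟨fun a b => Subtype.ext (hH.hC t ht a b (hmem a a.2) (hmem b b.2))⟩⟩, ?_⟩
    intro c hc
    rw [pow_two]
    exact h.elem ht (hmem c hc)
  obtain ⟨F, hF, hFt, hcard, ⟨e⟩⟩ := Cfsg.Agent.S1230.result T hnc hnn hC
  have hchar : CharP F 2 := by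
    have h1 : Even (Fintype.card F) := by
      rw [hcard]
      obtain ⟨k, hk⟩ := IsPGroup.iff_card.mp T.2
      have h2 : 1 < Nat.card (T : Subgroup G) := by
        haveI : Nontrivial (T : Subgroup G) :=
          ⟨⟨⟨s, hsT⟩, 1, fun h' => ne_one_of_order hs (congrArg Subtype.val h')⟩⟩
        exact Finite.one_lt_card
      rw [hk] at h2 ⊢
      have hk0 : k ≠ 0 := by
        rintro rfl
        simp at h2
      exact (even_two.pow_of_ne_zero hk0)
    have h2 : ringChar F = 2 := FiniteField.even_card_iff_char_two.mpr (Nat.even_iff.mp h1)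
    have h3 := ringChar.charP F
    rwa [h2] at h3
  haveI := hchar
  have hc : Subgroup.center (Matrix.SpecialLinearGroup (Fin 2) F) = ⊥ := by
    rw [Subgroup.eq_bot_iff_forall]
    intro x hx
    obtain ⟨r, hr, hrx⟩ := Matrix.SpecialLinearGroup.mem_center_iff.mp hx
    have h1 : r = 1 := by
      have h2 : (r + 1) * (r + 1) = 0 := by
        have h3 : (2 : F) = 0 := CharP.cast_eq_zero F 2
        have h4 : r ^ 2 = 1 := by simpa using hr
        linear_combination h4 + (r + 1) * h3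
      have h5 : r + 1 = 0 := by simpa using h2
      have h6 : (2 : F) = 0 := CharP.cast_eq_zero F 2
      linear_combination h5 - h6
    apply Subtype.ext
    rw [← hrx, h1]
    simp
  let e2 : Matrix.ProjectiveSpecialLinearGroup (Fin 2) F ≃* Matrix.SpecialLinearGroup (Fin 2) F :=
    (QuotientGroup.quotientMulEquivOfEq hc).trans QuotientGroup.quotientBot
  refine ⟨F, hF, hFt, hchar, ⟨e.trans e2⟩, ?_⟩
  haveI := h.isSimple
  have hN : (commutator G).Normal := inferInstance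
  rcases hN.eq_bot_or_eq_top with h1 | h1
  · exfalso
    obtain ⟨a, b, ha, hb, hab⟩ := h.ex2
    apply hab
    have h2 : ⁅a, b⁆ ∈ commutator G := by
      rw [commutator_def]
      exact Subgroup.commutator_mem_commutator (Subgroup.mem_top _) (Subgroup.mem_top _)
    rw [h1, Subgroup.mem_bot, commutatorElement_eq_one_iff_mul_comm] at h2
    exact h2
  · exact h1

end HypT

end Cfsg.Agent.Lib.CAInv
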