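import Mathlib
import Cfsg.Agent.Lib.CAInvZ
import Cfsg.Agent.Lib.CAInvSplit

/-!
# Commutative involution centralizers: the general case

Choose a pair of non commuting involutions with `Z = C(s) ∩ C(t)` of maximal order and pass to `C(Z) / Z`.
-/

set_option autoImplicit false
set_option linter.unusedSectionVars false
set_option linter.unusedVariables false
set_option linter.style.haveILetI false

namespace Cfsg.Agent.Lib.CAInv

open Cfsg Cfsg.Agent.Lib.EmbInvol Cfsg.Agent.Lib.CITElem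

variable {G : Type*} [Group G] [Finite G]

/-- The centralizer of an element. -/
abbrev Cz (t : G) : Subgroup G := Subgroup.centralizer ({t} : Set G)

lemma mem_Cz {t c : G} : c ∈ Cz t ↔ c * t = t * c := by
  rw [Subgroup.mem_centralizer_iff]
  constructor
  · intro h
    exact (h t rfl).symm
  · rintro h _ rfl
    exact h.symm

/-- The centralizer of a subgroup. -/
abbrev Nz (Z : Subgroup G) : Subgroup G := Subgroup.centralizer (Z : Set G)

lemma mem_Nz {Z : Subgroup G} {g : G} : g ∈ Nz Z ↔ ∀ z ∈ Z, z * g = g * z :=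
  Subgroup.mem_centralizer_iff

instance normal_subgroupOf_Nz (Z : Subgroup G) : (Z.subgroupOf (Nz Z)).Normal := by
  constructor
  intro n hn g
  rw [Subgroup.mem_subgroupOf] at hn ⊢
  have h1 : (n : G) * g = g * n := mem_Nz.mp g.2 n hn
  have h2 : ((g * n * g⁻¹ : Nz Z) : G) = n := by
    rw [Subgroup.coe_mul, Subgroup.coe_mul, Subgroup.coe_inv, ← h1]
    group
  rw [h2]
  exact hn

/-- The quotient of the centralizer by the subgroup. -/
abbrev Qz (Z : Subgroup G) : Type _ := Nz Z ⧸ Z.subgroupOf (Nz Z)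

/-- The natural map. -/
abbrev piz (Z : Subgroup G) : Nz Z →* Qz Z := QuotientGroup.mk' _

lemma piz_eq_one_iff {Z : Subgroup G} {x : Nz Z} : piz Z x = 1 ↔ (x : G) ∈ Z := by
  change ((x : Nz Z) : Nz Z ⧸ Z.subgroupOf (Nz Z)) = 1 ↔ _
  rw [QuotientGroup.eq_one_iff, Subgroup.mem_subgroupOf]

lemma piz_surj (Z : Subgroup G) : Function.Surjective (piz Z) := QuotientGroup.mk'_surjective _

/-- The subgroup `Z` is a maximal intersection of centralizers of non commuting involutions. -/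
structure MaxZ (Z : Subgroup G) : Prop where
  hyp : Hyp G
  exs : ∃ s t : G, orderOf s = 2 ∧ orderOf t = 2 ∧ s * t ≠ t * s ∧ Z = Cz s ⊓ Cz t
  max : ∀ s t : G, orderOf s = 2 → orderOf t = 2 → s * t ≠ t * s → Nat.card ↥(Cz s ⊓ Cz t) ≤ Nat.card Z

lemma conj_comm {g x s s' : G} (hs : g * s * g⁻¹ = s') (hx : x * s = s * x) :
    (g * x * g⁻¹) * s' = s' * (g * x * g⁻¹) := by
  subst hs
  calc g * x * g⁻¹ * (g * s * g⁻¹) = g * (x * s) * g⁻¹ := by group
    _ = g * (s * x) * g⁻¹ := by rw [hx]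
    _ = g * s * g⁻¹ * (g * x * g⁻¹) := by group

lemma odd_conj (g : G) {x : G} (hx : Odd (orderOf x)) : Odd (orderOf (g * x * g⁻¹)) := by
  have := MulEquiv.orderOf_eq (MulAut.conj g) x
  simp only [MulAut.conj_apply] at this
  rwa [this]

namespace MaxZ

variable {Z : Subgroup G} (h : MaxZ Z)
include h

lemma no_invol {x : G} (hx : x ∈ Z) : orderOf x ≠ 2 := by
  intro ho
  obtain ⟨s, t, hs, ht, hst, rfl⟩ := h.exs
  exact hst (h.hyp.hC x ho s t (mem_Cz.mp hx.1).symm (mem_Cz.mp hx.2).symm)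

lemma odd_card : Odd (Nat.card Z) := odd_card_of_no_invol fun _ hx => h.no_invol hx

lemma odd_of_mem {x : G} (hx : x ∈ Z) : Odd (orderOf x) := odd_of_mem_odd h.odd_card hx

lemma comm_Z {a b : G} (ha : a ∈ Z) (hb : b ∈ Z) : a * b = b * a := by
  obtain ⟨s, t, hs, ht, hst, rfl⟩ := h.exs
  exact h.hyp.hC s hs a b (mem_Cz.mp ha.1) (mem_Cz.mp hb.1)

lemma le_Nz : Z ≤ Nz Z := fun a ha => mem_Nz.mpr fun _ hz => h.comm_Z hz ha

/-- Centralizers of involutions of `C(Z)` lie in `C(Z)`. -/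
lemma Cz_le {s : G} (hs : orderOf s = 2) (hsN : s ∈ Nz Z) : Cz s ≤ Nz Z := by
  intro c hc
  rw [mem_Nz]
  intro z hz
  exact h.hyp.hC s hs z c (mem_Nz.mp hsN z hz) (mem_Cz.mp hc)

lemma eq_Z {s t : G} (hs : orderOf s = 2) (ht : orderOf t = 2) (hsN : s ∈ Nz Z) (htN : t ∈ Nz Z)
    (hst : s * t ≠ t * s) : Cz s ⊓ Cz t = Z := by
  have hle : Z ≤ Cz s ⊓ Cz t := fun z hz => ⟨mem_Cz.mpr (mem_Nz.mp hsN z hz), mem_Cz.mpr (mem_Nz.mp htN z hz)⟩
  exact (Subgroup.eq_of_le_of_card_ge hle (h.max s t hs ht hst)).symm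

/-- Images of elements commuting modulo `Z` with an involution commute. -/
lemma comm_of_image {s c : Nz Z} (hs : orderOf (s : G) = 2)
    (hc : piz Z c * piz Z s = piz Z s * piz Z c) : (c : G) * s = s * c := by
  have hss := mul_self_of_order hs
  have h1 : piz Z (c * s * c⁻¹ * s⁻¹) = 1 := by
    rw [map_mul, map_mul, map_mul, map_inv, map_inv, hc]
    group
  rw [piz_eq_one_iff] at h1
  set z : G := (c : G) * s * (c : G)⁻¹ * (s : G)⁻¹ with hz
  have hz' : ((c * s * c⁻¹ * s⁻¹ : Nz Z) : G) = z := by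
    simp [hz]
  rw [hz'] at h1
  have hzs : z * s = s * z := mem_Nz.mp s.2 z h1
  have e1 : (c : G) * s * (c : G)⁻¹ = z * s := by
    rw [hz]; group
  have e2 : ((c : G) * s * (c : G)⁻¹) * ((c : G) * s * (c : G)⁻¹) = 1 := by
    calc ((c : G) * s * (c : G)⁻¹) * ((c : G) * s * (c : G)⁻¹) = (c : G) * (s * s) * (c : G)⁻¹ := by group
      _ = 1 := by rw [hss]; group
  have e3 : z * z = 1 := by
    rw [e1] at e2
    calc z * z = z * z * (s * s) := by rw [hss, mul_one]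
      _ = z * (z * s) * s := by group
      _ = z * (s * z) * s := by rw [hzs]
      _ = (z * s) * (z * s) := by group
      _ = 1 := e2
  have e4 : z = 1 := odd_eq_one_of_mul_self (h.odd_of_mem h1) e3
  rw [e4, one_mul] at e1
  calc (c : G) * s = (c : G) * s * (c : G)⁻¹ * c := by group
    _ = s * c := by rw [e1]

lemma order_pi {s : Nz Z} (hs : orderOf (s : G) = 2) : orderOf (piz Z s) = 2 := by
  apply order_of_mul_self
  · have hss : s * s = 1 := by
      apply Subtype.ext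
      exact mul_self_of_order hs
    rw [← map_mul, hss, map_one]
  · intro h1
    exact h.no_invol (piz_eq_one_iff.mp h1) hs

/-- Involutions lift. -/
lemma lift_invol {x : Qz Z} (hx : orderOf x = 2) : ∃ y : Nz Z, orderOf (y : G) = 2 ∧ piz Z y = x := by
  obtain ⟨y, rfl⟩ := piz_surj Z x
  have hxx := mul_self_of_order hx
  have h1 : ((y * y : Nz Z) : G) ∈ Z := by
    rw [← piz_eq_one_iff, map_mul, hxx]
  obtain ⟨k, hk⟩ := h.odd_card
  have h2 : ((y * y : Nz Z) : G) ^ Nat.card Z = 1 := by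
    have h3 := pow_card_eq_one' (x := (⟨_, h1⟩ : Z))
    exact congrArg Subtype.val h3
  have h4 : y ^ Nat.card Z * y ^ Nat.card Z = 1 := by
    apply Subtype.ext
    have h5 : y ^ Nat.card Z * y ^ Nat.card Z = (y * y) ^ Nat.card Z := by
      rw [← pow_add, ← pow_two, ← pow_mul, two_mul]
    rw [h5]
    simpa using h2
  have h6 : piz Z (y ^ Nat.card Z) = piz Z y := by
    rw [map_pow, hk, pow_succ, pow_mul, pow_two, hxx, one_pow, one_mul]
  refine ⟨y ^ Nat.card Z, ?_, h6⟩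
  apply order_of_mul_self
  · exact congrArg Subtype.val h4
  · intro h7
    have h8 : y ^ Nat.card Z = 1 := Subtype.ext h7
    rw [h8, map_one] at h6
    exact ne_one_of_order hx h6.symm

/-- The quotient satisfies the hypotheses, with trivial intersections. -/
theorem hypT : HypT (Qz Z) := by
  have hH := h.hyp
  obtain ⟨s₀, t₀, hs₀, ht₀, hst₀, hZ⟩ := h.exs
  have hs₀N : s₀ ∈ Nz Z := by
    rw [mem_Nz]
    intro z hz
    rw [hZ] at hz
    exact mem_Cz.mp hz.1
  have ht₀N : t₀ ∈ Nz Z := by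
    rw [mem_Nz]
    intro z hz
    rw [hZ] at hz
    exact mem_Cz.mp hz.2
  refine ⟨⟨?_, ?_, ?_⟩, ?_⟩
  · intro t ht a b hat hbt
    obtain ⟨t', ht', rfl⟩ := h.lift_invol ht
    obtain ⟨a, rfl⟩ := piz_surj Z a
    obtain ⟨b, rfl⟩ := piz_surj Z b
    have h1 := h.comm_of_image ht' hat
    have h2 := h.comm_of_image ht' hbt
    have h3 : a * b = b * a := Subtype.ext (hH.hC _ ht' a b h1 h2)
    rw [← map_mul, ← map_mul, h3]
  · obtain ⟨P, hP⟩ := exists_sylow_mem hs₀
    obtain ⟨s, hsP, t, htP, hs, ht, hst⟩ := hH.exists_two_invol P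
    obtain ⟨r, hrP, hr, hrs⟩ : ∃ r ∈ (P : Subgroup G), orderOf r = 2 ∧ r ≠ s₀ := by
      by_cases h1 : s = s₀
      · refine ⟨t, htP, ht, ?_⟩
        rintro rfl
        exact hst h1
      · exact ⟨s, hsP, hs, h1⟩
    have hc : r * s₀ = s₀ * r := hH.comm_of_mem hrP hP
    have hrN : r ∈ Nz Z := h.Cz_le hs₀ hs₀N (mem_Cz.mpr hc)
    let a : Nz Z := ⟨s₀, hs₀N⟩
    let b : Nz Z := ⟨r, hrN⟩
    refine ⟨piz Z a, piz Z b, h.order_pi hs₀, h.order_pi hr, ?_, ?_⟩
    · intro he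
      have h1 : piz Z (a * b) = 1 := by
        rw [map_mul, ← he, ← map_mul]
        have : a * a = 1 := Subtype.ext (mul_self_of_order hs₀)
        rw [this, map_one]
      have h2 : s₀ * r ∈ Z := piz_eq_one_iff.mp h1
      have h3 : (s₀ * r) * (s₀ * r) = 1 := by
        calc (s₀ * r) * (s₀ * r) = s₀ * (r * s₀) * r := by group
          _ = s₀ * (s₀ * r) * r := by rw [hc]
          _ = (s₀ * s₀) * (r * r) := by group
          _ = 1 := by rw [mul_self_of_order hs₀, mul_self_of_order hr, one_mul]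
      have h4 : s₀ * r = 1 := odd_eq_one_of_mul_self (h.odd_of_mem h2) h3
      apply hrs
      have h5 : r = s₀⁻¹ := eq_inv_of_mul_eq_one_right h4
      rw [h5, inv_of_order hs₀]
    · rw [← map_mul, ← map_mul]
      congr 1
      exact Subtype.ext hc.symm
  · let a : Nz Z := ⟨s₀, hs₀N⟩
    let b : Nz Z := ⟨t₀, ht₀N⟩
    refine ⟨piz Z a, piz Z b, h.order_pi hs₀, h.order_pi ht₀, ?_⟩
    intro he
    have h1 : piz Z b * piz Z a = piz Z a * piz Z b := he.symm
    have h2 := h.comm_of_image (s := a) (c := b) hs₀ h1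
    exact hst₀ h2.symm
  · intro s t c hs ht hc hcs hct
    obtain ⟨s', hs', rfl⟩ := h.lift_invol hs
    obtain ⟨t', ht', rfl⟩ := h.lift_invol ht
    obtain ⟨c', rfl⟩ := piz_surj Z c
    have h1 := h.comm_of_image hs' hcs
    have h2 := h.comm_of_image ht' hct
    by_contra hne
    have h3 : (s' : G) * t' ≠ t' * s' := by
      intro he
      apply hne
      have : s' * t' = t' * s' := Subtype.ext he
      rw [← map_mul, ← map_mul, this]
    have h4 := h.eq_Z hs' ht' s'.2 t'.2 h3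
    have h5 : (c' : G) ∈ Cz (s' : G) ⊓ Cz (t' : G) := ⟨mem_Cz.mpr h1, mem_Cz.mpr h2⟩
    rw [h4] at h5
    exact hc (piz_eq_one_iff.mpr h5)

/-- Elements of odd order of the centralizer of an involution of `C(Z)` lie in `Z`. -/
lemma mem_Z_of_comm {s c : G} (hs : orderOf s = 2) (hsN : s ∈ Nz Z) (hc : c * s = s * c)
    (ho : Odd (orderOf c)) : c ∈ Z := by
  have hcN : c ∈ Nz Z := h.Cz_le hs hsN (mem_Cz.mpr hc)
  let a : Nz Z := ⟨c, hcN⟩
  let b : Nz Z := ⟨s, hsN⟩
  have h1 : piz Z a * piz Z b = piz Z b * piz Z a := by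
    rw [← map_mul, ← map_mul]
    congr 1
    exact Subtype.ext hc
  have h2 := h.hypT.elem (h.order_pi (s := b) hs) h1
  rw [← map_mul, piz_eq_one_iff] at h2
  exact mem_of_sq_mem ho h2

/-- The case where `Z` is central. -/
theorem top_case (hN : Nz Z = ⊤) : ∃ (F : Type) (_ : Field F) (_ : Fintype F), CharP F 2 ∧
    Nonempty (G ≃* Matrix.SpecialLinearGroup (Fin 2) F × Z) := by
  have hT := h.hypT
  obtain ⟨F, hF, hFt, hchar, ⟨e⟩, hperf⟩ := hT.exists_SL
  refine ⟨F, hF, hFt, hchar, ?_⟩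
  have hall : ∀ g : G, g ∈ Nz Z := fun g => by rw [hN]; trivial
  let ι : G →* Nz Z := MonoidHom.codRestrict (MonoidHom.id G) (Nz Z) hall
  let φ : G →* Matrix.SpecialLinearGroup (Fin 2) F := e.toMonoidHom.comp ((piz Z).comp ι)
  have hsurj : Function.Surjective φ := by
    intro a
    obtain ⟨x, hx⟩ := piz_surj Z (e.symm a)
    refine ⟨x, ?_⟩
    have e1 : ι (x : G) = x := Subtype.ext rfl
    change e (piz Z (ι (x : G))) = a
    rw [e1, hx]
    simp
  have hker : φ.ker = Z := by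
    ext g
    rw [MonoidHom.mem_ker]
    change e (piz Z (ι g)) = 1 ↔ _
    rw [map_eq_one_iff e e.injective, piz_eq_one_iff]
    rfl
  have hZc : ∀ z ∈ Z, ∀ g : G, z * g = g * z := fun z hz g => mem_Nz.mp (hall g) z hz
  exact Cfsg.Agent.Lib.CAInv.split_central φ hsurj Z hker hZc h.odd_card
    (commutator_eq_top_of_surjective e.toMonoidHom e.surjective hperf)

/-- The case where `Z` is not central is impossible. -/
theorem ne_top_false (hN : Nz Z ≠ ⊤) : False := by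
  classical
  have hH := h.hyp
  have hT := h.hypT
  obtain ⟨s₀, t₀, hs₀, ht₀, hst₀, hZ⟩ := h.exs
  have hs₀N : s₀ ∈ Nz Z := by
    rw [mem_Nz]
    intro z hz
    rw [hZ] at hz
    exact mem_Cz.mp hz.1
  have ht₀N : t₀ ∈ Nz Z := by
    rw [mem_Nz]
    intro z hz
    rw [hZ] at hz
    exact mem_Cz.mp hz.2
  -- all involutions of `C(Z)` are conjugate in `C(Z)`
  have hconj : ∀ s t : G, orderOf s = 2 → orderOf t = 2 → s ∈ Nz Z → t ∈ Nz Z →
      ∃ n ∈ Nz Z, n * s * n⁻¹ = t := by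
    intro s t hs ht hsN htN
    by_cases hc : s * t = t * s
    · obtain ⟨w, hw, hwN, hsw⟩ : ∃ w : G, orderOf w = 2 ∧ w ∈ Nz Z ∧ s * w ≠ w * s := by
        by_cases h1 : s * s₀ = s₀ * s
        · refine ⟨t₀, ht₀, ht₀N, ?_⟩
          intro h2
          exact hst₀ (hH.hC s hs s₀ t₀ h1.symm h2.symm)
        · exact ⟨s₀, hs₀, hs₀N, h1⟩
      have htw : t * w ≠ w * t := by
        intro h2
        exact hsw (hH.hC t ht s w hc h2.symm)
      exact hH.exists_conj_in hs ht hw hsw htw hsN htN hwN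
    · obtain ⟨h1, h2⟩ := hH.mid_spec hs ht hc
      exact ⟨mid s t, mid_mem hsN htN, by rw [inv_of_order h1]; exact h2⟩
  -- the centralizer contains an element as soon as a conjugate of `s₀` is in it
  have hconj2 : ∀ g : G, g * s₀ * g⁻¹ ∈ Nz Z → g ∈ Nz Z := by
    intro g hg
    obtain ⟨n, hn, hns⟩ := hconj s₀ (g * s₀ * g⁻¹) hs₀ (conj_order g hs₀) hs₀N hg
    have h2 : n⁻¹ * g ∈ Cz s₀ := by
      rw [mem_Cz]
      calc n⁻¹ * g * s₀ = n⁻¹ * (g * s₀ * g⁻¹) * g := by group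
        _ = n⁻¹ * (n * s₀ * n⁻¹) * g := by rw [hns]
        _ = s₀ * (n⁻¹ * g) := by group
    have h3 := h.Cz_le hs₀ hs₀N h2
    have h4 : g = n * (n⁻¹ * g) := by group
    rw [h4]
    exact (Nz Z).mul_mem hn h3
  have hnorm : ∀ g : G, (∀ x ∈ Z, g⁻¹ * x * g ∈ Z) → g ∈ Nz Z := by
    intro g hg
    apply hconj2
    rw [mem_Nz]
    intro z hz
    have h1 := (mem_Nz.mp hs₀N) _ (hg z hz)
    calc z * (g * s₀ * g⁻¹) = g * ((g⁻¹ * z * g) * s₀) * g⁻¹ := by group
      _ = g * (s₀ * (g⁻¹ * z * g)) * g⁻¹ := by rw [h1]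
      _ = g * s₀ * g⁻¹ * z := by group
  -- an involution outside
  have hexu : ∃ u : G, orderOf u = 2 ∧ u ∉ Nz Z := by
    by_contra hc
    push Not at hc
    apply hN
    rw [eq_top_iff]
    intro g _
    exact hconj2 g (hc _ (conj_order g hs₀))
  obtain ⟨u, hu, huN⟩ := hexu
  have hnc : ∀ s : G, orderOf s = 2 → s ∈ Nz Z → s * u ≠ u * s := fun s hs hsN hc =>
    huN (h.Cz_le hs hsN (mem_Cz.mpr hc.symm))
  have hv : ∀ s : G, orderOf s = 2 → s ∈ Nz Z → orderOf (mid s u) = 2 ∧ mid s u * s * mid s u = u :=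
    fun s hs hsN => hH.mid_spec hs hu (hnc s hs hsN)
  -- conjugating one involution of `C(Z)` to another
  have hgs : ∀ s s' : G, orderOf s = 2 → s ∈ Nz Z → orderOf s' = 2 → s' ∈ Nz Z →
      (mid s' u * mid s u) * s * (mid s u * mid s' u) = s' := by
    intro s s' hs hsN hs' hs'N
    obtain ⟨h1, h2⟩ := hv s hs hsN
    obtain ⟨h3, h4⟩ := hv s' hs' hs'N
    calc (mid s' u * mid s u) * s * (mid s u * mid s' u)
        = mid s' u * (mid s u * s * mid s u) * mid s' u := by group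
      _ = mid s' u * u * mid s' u := by rw [h2]
      _ = mid s' u * (mid s' u * s' * mid s' u) * mid s' u := by rw [h4]
      _ = (mid s' u * mid s' u) * s' * (mid s' u * mid s' u) := by group
      _ = s' := by rw [mul_self_of_order h3]; simp
  have hkey : ∀ s s' : G, orderOf s = 2 → s ∈ Nz Z → orderOf s' = 2 → s' ∈ Nz Z → ∀ x ∈ Z,
      (mid s' u * mid s u) * x * (mid s u * mid s' u) ∈ Z := by
    intro s s' hs hsN hs' hs'N x hx
    obtain ⟨h1, h2⟩ := hv s hs hsN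
    obtain ⟨h3, h4⟩ := hv s' hs' hs'N
    have h5 : (mid s u * mid s' u) = (mid s' u * mid s u)⁻¹ := by
      rw [mul_inv_rev, inv_of_order h1, inv_of_order h3]
    have hxs : x * s = s * x := mem_Nz.mp hsN x hx
    have hsc := hgs s s' hs hsN hs' hs'N
    rw [h5] at hsc ⊢
    exact h.mem_Z_of_comm hs' hs'N (conj_comm hsc hxs) (odd_conj _ (h.odd_of_mem hx))
  have hgN : ∀ s s' : G, orderOf s = 2 → s ∈ Nz Z → orderOf s' = 2 → s' ∈ Nz Z →
      mid s' u * mid s u ∈ Nz Z := by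
    intro s s' hs hsN hs' hs'N
    obtain ⟨h1, h2⟩ := hv s hs hsN
    obtain ⟨h3, h4⟩ := hv s' hs' hs'N
    apply hnorm
    intro x hx
    have h5 := hkey s' s hs' hs'N hs hsN x hx
    rw [mul_inv_rev, inv_of_order h1, inv_of_order h3]
    exact h5
  -- the subgroup of odd order
  obtain ⟨h0a, h0b⟩ := hv s₀ hs₀ hs₀N
  set v := mid s₀ u with hvdef
  have hvv := mul_self_of_order h0a
  let E : Subgroup G := Nz Z ⊓ (Nz Z).map (MulAut.conj v).toMonoidHom
  have hgE : ∀ s s' : G, orderOf s = 2 → s ∈ Nz Z → orderOf s' = 2 → s' ∈ Nz Z →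
      mid s' u * mid s u ∈ E := by
    intro s s' hs hsN hs' hs'N
    refine Subgroup.mem_inf.mpr ⟨hgN s s' hs hsN hs' hs'N, mem_map_conj_iff.mpr ?_⟩
    rw [inv_of_order h0a]
    have e1 : v * (mid s' u * mid s u) * v = (v * mid s' u) * (mid s u * v) := by group
    rw [e1]
    exact (Nz Z).mul_mem (hgN s' s₀ hs' hs'N hs₀ hs₀N) (hgN s₀ s hs₀ hs₀N hs hsN)
  have hEno : ∀ t ∈ E, orderOf t ≠ 2 := by
    intro t ht ho
    have h1 : t ∈ Nz Z := (Subgroup.mem_inf.mp ht).1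
    have h2 : v⁻¹ * t * v ∈ Nz Z := mem_map_conj_iff.mp (Subgroup.mem_inf.mp ht).2
    rw [inv_of_order h0a] at h2
    apply huN
    have hvN : v ∈ Nz Z := by
      apply hnorm
      intro x hx
      rw [inv_of_order h0a]
      have h3 : x * (v * t * v) = (v * t * v) * x := mem_Nz.mp h2 x hx
      have h4 : v * (v * t * v) * v⁻¹ = t := by
        rw [inv_of_order h0a]
        calc v * (v * t * v) * v = (v * v) * t * (v * v) := by group
          _ = t := by rw [hvv]; simp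
      have h5 := conj_comm h4 h3
      have h6 := odd_conj v (h.odd_of_mem hx)
      rw [inv_of_order h0a] at h5 h6
      exact h.mem_Z_of_comm ho h1 h5 h6
    rw [← h0b]
    exact (Nz Z).mul_mem ((Nz Z).mul_mem hvN hs₀N) hvN
  have hEodd : ∀ t ∈ E, Odd (orderOf t) := fun t ht =>
    odd_of_mem_odd (odd_card_of_no_invol hEno) ht
  -- its image in the quotient
  let Eb : Subgroup (Qz Z) := (E.subgroupOf (Nz Z)).map (piz Z)
  have hEb : Odd (Nat.card Eb) := by
    apply odd_card_of_no_invol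
    rintro x ⟨y, hy, rfl⟩ ho
    have h1 : Odd (orderOf (y : G)) := hEodd y (Subgroup.mem_subgroupOf.mp hy)
    have h2 : orderOf (piz Z y) ∣ orderOf y := orderOf_map_dvd _ _
    have h3 : orderOf (y : G) = orderOf y := Subgroup.orderOf_coe y
    rw [← h3, ho] at h2
    exact (Nat.not_even_iff_odd.mpr h1) (even_iff_two_dvd.mpr h2)
  refine hT.no_odd_trans hEb ?_
  intro a b ha hb
  obtain ⟨a', ha', rfl⟩ := h.lift_invol ha
  obtain ⟨b', hb', rfl⟩ := h.lift_invol hb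
  have h1 := hgE a' b' ha' a'.2 hb' b'.2
  have h2 := hgN a' b' ha' a'.2 hb' b'.2
  let g : Nz Z := ⟨_, h2⟩
  refine ⟨piz Z g, ⟨g, Subgroup.mem_subgroupOf.mpr h1, rfl⟩, ?_⟩
  rw [← map_inv, ← map_mul, ← map_mul]
  congr 1
  apply Subtype.ext
  have h3 := hgs a' b' ha' a'.2 hb' b'.2
  obtain ⟨h4, -⟩ := hv a' ha' a'.2
  obtain ⟨h5, -⟩ := hv b' hb' b'.2
  have h6 : (mid (a' : G) u * mid (b' : G) u) = (mid (b' : G) u * mid (a' : G) u)⁻¹ := by
    rw [mul_inv_rev, inv_of_order h4, inv_of_order h5]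
  rw [h6] at h3
  exact h3

end MaxZ

/-- The structure theorem. -/
theorem Hyp.main (h : Hyp G) : ∃ (F : Type) (_ : Field F) (_ : Fintype F) (Z : Subgroup G), CharP F 2 ∧
    Odd (Nat.card Z) ∧ (∀ a ∈ Z, ∀ b ∈ Z, a * b = b * a) ∧
    Nonempty (G ≃* Matrix.SpecialLinearGroup (Fin 2) F × Z) := by
  classical
  obtain ⟨s₁, t₁, hs₁, ht₁, hst₁⟩ := h.ex2
  let α := {p : G × G // orderOf p.1 = 2 ∧ orderOf p.2 = 2 ∧ p.1 * p.2 ≠ p.2 * p.1}
  haveI : Nonempty α := ⟨⟨(s₁, t₁), hs₁, ht₁, hst₁⟩⟩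
  obtain ⟨p, hp⟩ := Finite.exists_max (fun p : α => Nat.card ↥(Cz p.1.1 ⊓ Cz p.1.2))
  have hZ : MaxZ (Cz p.1.1 ⊓ Cz p.1.2) :=
    ⟨h, ⟨p.1.1, p.1.2, p.2.1, p.2.2.1, p.2.2.2, rfl⟩, fun s t hs ht hst => hp ⟨(s, t), hs, ht, hst⟩⟩
  have htop : Nz (Cz p.1.1 ⊓ Cz p.1.2) = ⊤ := by
    by_contra hN
    exact hZ.ne_top_false hN
  obtain ⟨F, hF, hFt, hchar, he⟩ := hZ.top_case htop
  exact ⟨F, hF, hFt, _, hchar, hZ.odd_card, fun a ha b hb => hZ.comm_Z ha hb, he⟩

end Cfsg.Agent.Lib.CAInv
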