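import Mathlib
import Cfsg.Agent.Lib.DefectTwo

/-!
# Sylow subgroups of prime order with `|N(P)| = 2 p`: involutions form a single class
-/

set_option autoImplicit false

namespace Cfsg.Agent.Lib.DefectTwo2

open Cfsg Cfsg.Agent.Lib.CharBasic Cfsg.Agent.Lib.DefectOne Cfsg.Agent.Lib.DefectTwo Subgroup

universe v

variable {G : Type v} [Group G]

/-- **The master formula for every involution.** -/
theorem s2_global [Finite G] [IsSimpleGroup G] (hG : ¬ IsMulCommutative G) {p m : ℕ} [Fact p.Prime]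
    (h : Nat.card G = p * m) (hm : ¬ p ∣ m) (hp5 : 5 ≤ p) (hn : Nat.card (Sylow p G) * 2 = m) (P : Sylow p G) :
    ∃ (x₁ x₀ : ℕ) (w₁ σ : ℤ), (w₁ = 1 ∨ w₁ = -1) ∧ (σ = 1 ∨ σ = -1) ∧ 2 ≤ x₁ ∧ 2 ≤ x₀ ∧ x₁ ∣ m ∧ x₀ ∣ m ∧
      -1 + w₁ * x₁ + σ * x₀ = 0 ∧ (x₁ : ℤ) ≡ - w₁ [ZMOD p] ∧ (x₀ : ℤ) ≡ 2 * σ [ZMOD p] ∧
      ∀ z : G, z ^ 2 = 1 → z ≠ 1 → ∃ (A : ℕ) (y₁ y₀ : ℤ),
        x₁ ∣ (centralizer ({z} : Set G)).index * y₁.natAbs ∧ x₀ ∣ (centralizer ({z} : Set G)).index * y₀.natAbs ∧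
        |y₁| < x₁ ∧ |y₀| < x₀ ∧ -1 + w₁ * y₁ + σ * y₀ = 0 ∧ (A = 0 ∨ Nat.card (centralizer ({z} : Set G)) ≤ A) ∧
        (A ≠ 0 → ∃ x : G, x * z * x⁻¹ ∈ normalizer ((P : Subgroup G) : Set G)) ∧
        ((Nat.card (centralizer ({z} : Set G)) : ℤ) * A * x₁ * x₀ =
          (Nat.card G : ℤ) * (x₁ * x₀ - w₁ * y₁ ^ 2 * x₀ - σ * y₀ ^ 2 * x₁)) := by
  classical
  haveI := Fintype.ofFinite G
  have hpp : p.Prime := Fact.out
  have hp2 : p ≠ 2 := by omega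
  obtain ⟨H, hN⟩ := hyp_of_sylow hG Nat.prime_two h hm hn P
  obtain ⟨f, i₁, B, w₁, σ, x₁, x₀, hf, hw₁, hσ, hi₁, hB, hx₁, hx₀, hd₁, hd₀, hθ, heq, hc₁, hc₀⟩ := exists_data_two H hN hp5
  have hne₁ := degree_ne_one hG hi₁ hd₁
  have hne₀ := degree_ne_one hG hB hd₀
  have hnd : ∀ c : ℤ, (c = 1 ∨ c = -1 ∨ c = 2 ∨ c = -2) → ¬ (p : ℤ) ∣ c := by
    intro c hc hdvd
    have h1 : (p : ℤ) ≤ |c| := Int.le_of_dvd (by rcases hc with rfl | rfl | rfl | rfl <;> norm_num) (by rwa [dvd_abs])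
    rcases hc with rfl | rfl | rfl | rfl <;> norm_num at h1 <;> omega
  refine ⟨x₁, x₀, w₁, σ, hw₁, hσ, by omega, by omega, ?_, ?_, heq, hc₁, hc₀, ?_⟩
  · apply dvd_of_modEq hpp (by rw [← h]; exact degree_dvd i₁ hd₁) hc₁
    apply hnd
    rcases hw₁ with h1 | h1 <;> rw [h1] <;> simp
  · apply dvd_of_modEq hpp (by rw [← h]; exact degree_dvd B hd₀) hc₀
    apply hnd
    rcases hσ with h1 | h1 <;> rw [h1] <;> simp
  intro z hz2 hz1
  obtain ⟨y₁, hy₁, hlt₁, hdvd₁⟩ := invol_value hG i₁ hi₁ hd₁ hz2 hz1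
  obtain ⟨y₀, hy₀, hlt₀, hdvd₀⟩ := invol_value hG B hB hd₀ hz2 hz1
  have hθz : (-1 : ℂ) + (w₁ : ℂ) * (y₁ : ℂ) + (σ : ℂ) * (y₀ : ℂ) = 0 := by
    have := theta_invol H hp2 f hz2 hz1
    rw [hθ, hy₁, hy₀] at this
    exact this
  have hθz' : -1 + w₁ * y₁ + σ * y₀ = 0 := by exact_mod_cast hθz
  -- the class sum formula
  have hsum := sum_theta_conj H hp2 f hf z hz2 hz1
  set A := (Finset.univ.filter fun x : G => x * z * x⁻¹ ∈ normalizer (P : Set G)).card with hA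
  set c := Nat.card (centralizer ({z} : Set G)) with hc
  simp_rw [hθ] at hsum
  rw [Finset.sum_add_distrib, Finset.sum_add_distrib, ← Finset.mul_sum, ← Finset.mul_sum] at hsum
  have hav₁ := Cfsg.Agent.Lib.CharAvg.irr_avg i₁.2 z z
  have hav₀ := Cfsg.Agent.Lib.CharAvg.irr_avg B.2 z z
  rw [hd₁, hy₁] at hav₁
  rw [hd₀, hy₀] at hav₀
  simp only [Finset.sum_const, Finset.card_univ, nsmul_eq_mul, mul_neg, mul_one] at hsum
  rw [← Nat.card_eq_fintype_card] at hsum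
  have hmaster : ((c : ℤ) * A * x₁ * x₀ : ℂ) =
      ((Nat.card G : ℤ) * (x₁ * x₀ - w₁ * y₁ ^ 2 * x₀ - σ * y₀ ^ 2 * x₁) : ℂ) := by
    push_cast
    have e₁ := congrArg (fun t : ℂ => t * (x₀ : ℂ) * (w₁ : ℂ)) hav₁
    have e₀ := congrArg (fun t : ℂ => t * (x₁ : ℂ) * (σ : ℂ)) hav₀
    have e₂ := congrArg (fun t : ℂ => t * (x₁ : ℂ) * (x₀ : ℂ)) hsum
    beta_reduce at e₁ e₀ e₂
    linear_combination e₂ - e₁ - e₀
  refine ⟨A, y₁, y₀, hdvd₁, hdvd₀, hlt₁, hlt₀, hθz', ?_, ?_, ?_⟩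
  · exact card_filter_conj_mem H _ z
  · intro hA0
    obtain ⟨x, hx⟩ := Finset.card_pos.1 (Nat.pos_of_ne_zero hA0)
    exact ⟨x, (Finset.mem_filter.1 hx).2⟩
  · exact_mod_cast hmaster

/-- Conjugate elements have centralizers of the same order. -/
theorem card_centralizer_of_isConj [Finite G] {z w : G} (hc : IsConj z w) :
    Nat.card (centralizer ({z} : Set G)) = Nat.card (centralizer ({w} : Set G)) := by
  obtain ⟨g, rfl⟩ := isConj_iff.1 hc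
  apply Nat.card_congr
  refine ⟨fun a => ⟨g * a.1 * g⁻¹, ?_⟩, fun b => ⟨g⁻¹ * b.1 * g, ?_⟩, ?_, ?_⟩
  · rw [mem_centralizer_singleton_iff]
    have h1 : a.1 * z = z * a.1 := mem_centralizer_singleton_iff.1 a.2
    calc g * a.1 * g⁻¹ * (g * z * g⁻¹) = g * (a.1 * z) * g⁻¹ := by group
      _ = g * (z * a.1) * g⁻¹ := by rw [h1]
      _ = _ := by group
  · rw [mem_centralizer_singleton_iff]
    have h1 : b.1 * (g * z * g⁻¹) = (g * z * g⁻¹) * b.1 := mem_centralizer_singleton_iff.1 b.2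
    have h2 : g * ((g⁻¹ * b.1 * g) * z) * g⁻¹ = g * (z * (g⁻¹ * b.1 * g)) * g⁻¹ := by
      calc g * ((g⁻¹ * b.1 * g) * z) * g⁻¹ = b.1 * (g * z * g⁻¹) := by group
        _ = (g * z * g⁻¹) * b.1 := h1
        _ = _ := by group
    exact mul_left_cancel (mul_right_cancel h2)
  · intro a
    apply Subtype.ext
    change g⁻¹ * (g * a.1 * g⁻¹) * g = a.1
    group
  · intro b
    apply Subtype.ext
    change g * (g⁻¹ * b.1 * g) * g⁻¹ = b.1
    group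

/-- **All involutions are conjugate.** -/
theorem isConj_of_involutions [Finite G] [IsSimpleGroup G] (hG : ¬ IsMulCommutative G) {p m : ℕ} [Fact p.Prime]
    (h : Nat.card G = p * m) (hm : ¬ p ∣ m) (hp5 : 5 ≤ p) (hn : Nat.card (Sylow p G) * 2 = m)
    {z z' : G} (hz2 : z ^ 2 = 1) (hz1 : z ≠ 1) (hz2' : z' ^ 2 = 1) (hz1' : z' ≠ 1) : IsConj z z' := by
  classical
  haveI := Fintype.ofFinite G
  have hpp : p.Prime := Fact.out
  have hp2 : p ≠ 2 := by omega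
  obtain ⟨P⟩ : Nonempty (Sylow p G) := inferInstance
  obtain ⟨H, hN⟩ := hyp_of_sylow hG Nat.prime_two h hm hn P
  obtain ⟨x₁, x₀, w₁, σ, hw₁, hσ, hx₁, hx₀, -, -, heq, -, -, hall⟩ := s2_global hG h hm hp5 hn P
  have hG0 : (0 : ℤ) < Nat.card G := by exact_mod_cast Nat.card_pos
  -- every involution is conjugate into `N(P)`
  have key : ∀ z : G, z ^ 2 = 1 → z ≠ 1 → ∃ x : G, x * z * x⁻¹ ∈ normalizer ((P : Subgroup G) : Set G) := by
    intro z hz2 hz1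
    obtain ⟨A, y₁, y₀, -, -, hl₁, hl₀, hy, -, hA, hmaster⟩ := hall z hz2 hz1
    apply hA
    rintro rfl
    have hz : (x₁ : ℤ) * x₀ - w₁ * y₁ ^ 2 * x₀ - σ * y₀ ^ 2 * x₁ = 0 := by
      have h1 : (Nat.card G : ℤ) * ((x₁ : ℤ) * x₀ - w₁ * y₁ ^ 2 * x₀ - σ * y₀ ^ 2 * x₁) = 0 := by
        rw [← hmaster]
        push_cast
        ring
      rcases mul_eq_zero.1 h1 with h2 | h2
      · omega
      · exact h2
    rw [abs_lt] at hl₁ hl₀
    rcases hw₁ with rfl | rfl <;> rcases hσ with rfl | rfl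
    · omega
    · have e₁ : (x₁ : ℤ) = x₀ + 1 := by omega
      have e₂ : y₁ = y₀ + 1 := by omega
      have : ((x₀ : ℤ) - y₀) ^ 2 = 0 := by
        rw [← hz, e₁, e₂]
        ring
      have h3 : (x₀ : ℤ) - y₀ = 0 := by simpa using this
      omega
    · have e₁ : (x₀ : ℤ) = x₁ + 1 := by omega
      have e₂ : y₀ = y₁ + 1 := by omega
      have : ((x₁ : ℤ) - y₁) ^ 2 = 0 := by
        rw [← hz, e₁, e₂]
        ring
      have h3 : (x₁ : ℤ) - y₁ = 0 := by simpa using this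
      omega
    · omega
  obtain ⟨a, ha⟩ := key z hz2 hz1
  obtain ⟨b, hb⟩ := key z' hz2' hz1'
  set y := a * z * a⁻¹ with hy
  set y' := b * z' * b⁻¹ with hy'
  have hy2 : y ^ 2 = 1 := by rw [hy, conj_pow, hz2]; group
  have hy2' : y' ^ 2 = 1 := by rw [hy', conj_pow, hz2']; group
  have hy1 : y ≠ 1 := by
    intro h0
    apply hz1
    have : z = a⁻¹ * y * a := by rw [hy]; group
    rw [this, h0]; group
  have hy1' : y' ≠ 1 := by
    intro h0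
    apply hz1'
    have : z' = b⁻¹ * y' * b := by rw [hy']; group
    rw [this, h0]; group
  -- `y⁻¹ y'` centralizes `P`
  have hu : y⁻¹ * y' ∈ (P : Subgroup G) := by
    obtain ⟨w, hw, hw1⟩ : ∃ w ∈ (P : Subgroup G), w ≠ 1 := by
      have h1 : Nontrivial (P : Subgroup G) := by
        apply Finite.one_lt_card_iff_nontrivial.1
        rw [H.card]
        exact hpp.one_lt
      obtain ⟨w, hw1⟩ := exists_ne (1 : (P : Subgroup G))
      exact ⟨w.1, w.2, fun h2 => hw1 (Subtype.ext h2)⟩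
    rw [← H.cent w hw hw1, mem_centralizer_singleton_iff]
    have h1 := hyp_inverts H hp2 ha hy2 hy1 hw
    have h2 := hyp_inverts H hp2 hb hy2' hy1' hw
    have hyinv : y⁻¹ = y := by rw [inv_eq_iff_mul_eq_one, ← pow_two, hy2]
    have h3 : y * w⁻¹ * y⁻¹ = w := by
      have h4 := hyp_inverts H hp2 ha hy2 hy1 ((P : Subgroup G).inv_mem hw)
      rwa [inv_inv] at h4
    have h5 : y' * w = w⁻¹ * y' := by
      calc y' * w = (y' * w * y'⁻¹) * y' := by group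
        _ = w⁻¹ * y' := by rw [h2]
    have h6 : y * w⁻¹ = w * y := by
      calc y * w⁻¹ = (y * w⁻¹ * y⁻¹) * y := by group
        _ = w * y := by rw [h3]
    calc y⁻¹ * y' * w = y * (y' * w) := by rw [hyinv]; group
      _ = y * (w⁻¹ * y') := by rw [h5]
      _ = (y * w⁻¹) * y' := by group
      _ = (w * y) * y' := by rw [h6]
      _ = w * (y⁻¹ * y') := by rw [hyinv]; group
  have hconj := hyp_isConj_mul H hp2 ha hy2 hy1 hu
  have hyy' : y * (y⁻¹ * y') = y' := by group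
  rw [hyy'] at hconj
  have h1 : IsConj z y := isConj_iff.2 ⟨a, rfl⟩
  have h2 : IsConj z' y' := isConj_iff.2 ⟨b, rfl⟩
  exact h1.trans (hconj.trans h2.symm)

end Cfsg.Agent.Lib.DefectTwo2
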