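import Mathlib
import Cfsg.Agent.Lib.SmallGroups2
import Cfsg.Agent.Lib.DefectTwo
import Cfsg.Agent.Lib.DefectTwo2
import Cfsg.Agent.Lib.CITElem3
import Cfsg.Agent.Lib.PSL2Rec3

/-!
# Counting elements in groups where involutions have `2`-group centralizers

Tools to prove that a Sylow `2`-subgroup has exponent `2` by counting, and then recognize `PSL(2, 2^a)`.
-/

set_option autoImplicit false

namespace Cfsg.Agent.Lib.CITCount

open Subgroup

variable {G : Type*} [Group G] [Finite G]

/-- Three disjoint sets of the right total size cover the group. -/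
theorem cover3 (Q₁ Q₂ Q₃ : G → Prop) (h12 : ∀ x, Q₁ x → ¬ Q₂ x) (h13 : ∀ x, Q₁ x → ¬ Q₃ x) (h23 : ∀ x, Q₂ x → ¬ Q₃ x)
    (hsum : Nat.card G ≤ Nat.card {x // Q₁ x} + Nat.card {x // Q₂ x} + Nat.card {x // Q₃ x}) (x : G) :
    Q₁ x ∨ Q₂ x ∨ Q₃ x := by
  by_contra hno
  push Not at hno
  obtain ⟨h1, h2, h3⟩ := hno
  let f : ({x // Q₁ x} ⊕ {x // Q₂ x}) ⊕ {x // Q₃ x} → G := fun a => match a with
    | Sum.inl (Sum.inl y) => y.1
    | Sum.inl (Sum.inr y) => y.1
    | Sum.inr y => y.1
  have hf : Function.Injective f := by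
    rintro ((⟨a, ha⟩ | ⟨a, ha⟩) | ⟨a, ha⟩) ((⟨b, hb⟩ | ⟨b, hb⟩) | ⟨b, hb⟩) hab
    · simp only [f] at hab; subst hab; rfl
    · simp only [f] at hab; subst hab; exact absurd hb (h12 _ ha)
    · simp only [f] at hab; subst hab; exact absurd hb (h13 _ ha)
    · simp only [f] at hab; subst hab; exact absurd ha (h12 _ hb)
    · simp only [f] at hab; subst hab; rfl
    · simp only [f] at hab; subst hab; exact absurd hb (h23 _ ha)
    · simp only [f] at hab; subst hab; exact absurd ha (h13 _ hb)
    · simp only [f] at hab; subst hab; exact absurd ha (h23 _ hb)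
    · simp only [f] at hab; subst hab; rfl
  have hx : x ∉ Set.range f := by
    rintro ⟨((⟨a, ha⟩ | ⟨a, ha⟩) | ⟨a, ha⟩), hh⟩
    · simp only [f] at hh; subst hh; exact h1 ha
    · simp only [f] at hh; subst hh; exact h2 ha
    · simp only [f] at hh; subst hh; exact h3 ha
  have hle : Nat.card G ≤ Nat.card (({x // Q₁ x} ⊕ {x // Q₂ x}) ⊕ {x // Q₃ x}) := by
    rw [Nat.card_sum, Nat.card_sum]
    exact hsum
  exact hx ((hf.bijective_of_nat_card_le hle).2 x)

/-- Count in a trivial intersection family. -/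
theorem card_mul_le_of_TI {ι : Type*} [Finite ι] {w : ℕ} (W : ι → Subgroup G) (hw : ∀ i, Nat.card (W i) = w)
    (hTI : ∀ i j x, x ∈ W i → x ∈ W j → x ≠ 1 → i = j) (Q : G → Prop) (hQ : ∀ i x, x ∈ W i → x ≠ 1 → Q x) :
    Nat.card ι * (w - 1) ≤ Nat.card {x // Q x} := by
  classical
  haveI : Fintype ι := Fintype.ofFinite _
  let f : (Σ i : ι, {g : W i // g ≠ 1}) → {x // Q x} :=
    fun a => ⟨a.2.1.1, hQ a.1 _ a.2.1.2 (fun h => a.2.2 (Subtype.ext h))⟩
  have hf : Function.Injective f := by
    rintro ⟨i, ⟨g, hg⟩⟩ ⟨j, ⟨g', hg'⟩⟩ hff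
    have h1 : g.1 = g'.1 := congrArg Subtype.val hff
    have h2 : g.1 ≠ 1 := fun h => hg (Subtype.ext h)
    have h3 : i = j := hTI i j g.1 g.2 (h1 ▸ g'.2) h2
    subst h3
    have h4 : g = g' := Subtype.ext h1
    subst h4
    rfl
  have hle := Nat.card_le_card_of_injective f hf
  rw [Nat.card_sigma] at hle
  have : ∀ i : ι, Nat.card {g : W i // g ≠ 1} = w - 1 := by
    intro i
    haveI : Fintype (W i) := Fintype.ofFinite _
    have h3 : Fintype.card {x : W i // x ≠ 1} = Fintype.card (W i) - 1 := Set.card_ne_eq (1 : W i)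
    rw [Nat.card_eq_fintype_card, h3, ← Nat.card_eq_fintype_card, hw i]
  simp_rw [this] at hle
  rw [Finset.sum_const, Finset.card_univ, smul_eq_mul, ← Nat.card_eq_fintype_card] at hle
  exact hle

/-- The size of a conjugacy class. -/
theorem card_isConj_mul_centralizer (z : G) :
    Nat.card {w : G // IsConj z w} * Nat.card (centralizer ({z} : Set G)) = Nat.card G := by
  classical
  haveI := Fintype.ofFinite G
  have h1 : Nat.card G = (Finset.univ : Finset G).card := by
    rw [Nat.card_eq_fintype_card, Finset.card_univ]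
  let W : Finset G := Finset.univ.filter fun w : G => IsConj z w
  have hW : Nat.card {w : G // IsConj z w} = W.card := by
    rw [Nat.card_eq_fintype_card, Fintype.card_subtype]
  have hmaps : ∀ b ∈ (Finset.univ : Finset G), b * z * b⁻¹ ∈ W := by
    intro b _
    exact Finset.mem_filter.2 ⟨Finset.mem_univ _, isConj_iff.2 ⟨b, rfl⟩⟩
  rw [hW, h1, Finset.card_eq_sum_card_fiberwise hmaps, Finset.sum_const_nat (m := Nat.card (centralizer ({z} : Set G)))]
  intro w hw
  exact Cfsg.Agent.Lib.DefectTwo.card_filter_conj z w (Finset.mem_filter.1 hw).2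

/-- The number of solutions of `x² = 1` from a conjugacy class of involutions. -/
theorem card_sq_eq_one_ge {z : G} (hz2 : z ^ 2 = 1) (hz1 : z ≠ 1) :
    Nat.card {w : G // IsConj z w} + 1 ≤ Nat.card {x : G // x ^ 2 = 1} := by
  classical
  have hconj : ∀ w : {w : G // IsConj z w}, w.1 ^ 2 = 1 := by
    intro w
    obtain ⟨c, hc⟩ := isConj_iff.1 w.2
    rw [← hc, conj_pow, hz2]
    group
  have hne : ∀ w : {w : G // IsConj z w}, w.1 ≠ 1 := by
    intro w h0
    obtain ⟨c, hc⟩ := isConj_iff.1 w.2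
    apply hz1
    have : z = c⁻¹ * (c * z * c⁻¹) * c := by group
    rw [this, hc, h0]
    group
  let f : Option {w : G // IsConj z w} → {x : G // x ^ 2 = 1} := fun a => match a with
    | none => ⟨1, by simp⟩
    | some w => ⟨w.1, hconj w⟩
  have hf : Function.Injective f := by
    rintro (_ | a) (_ | b) hab
    · rfl
    · exact absurd (congrArg Subtype.val hab).symm (hne b)
    · exact absurd (congrArg Subtype.val hab) (hne a)
    · have h9 := congrArg Subtype.val hab
      have : a.1 = b.1 := h9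
      rw [Subtype.ext this]
  have := Nat.card_le_card_of_injective f hf
  rwa [Finite.card_option] at this

/-- In a TI situation, the order of a Sylow subgroup is bounded by their number. -/
theorem card_le_card_sylow_of_TI {q : ℕ} [Fact q.Prime] (R Q : Sylow q G) (hne : R ≠ Q)
    (hTI : ∀ Q₁ Q₂ : Sylow q G, Q₁ ≠ Q₂ → ∀ x, x ∈ (Q₁ : Subgroup G) → x ∈ (Q₂ : Subgroup G) → x = 1) :
    Nat.card (R : Subgroup G) < Nat.card (Sylow q G) := by
  classical
  let f : ↥(R : Subgroup G) → Sylow q G := fun x => (x : G) • Q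
  have hf : Function.Injective f := by
    intro x y hxy
    have h1 : ((y : G)⁻¹ * (x : G)) • Q = Q := by
      rw [mul_smul]
      have h2 : (x : G) • Q = (y : G) • Q := hxy
      rw [h2, ← mul_smul]
      simp
    have h2 : (y : G)⁻¹ * (x : G) ∈ normalizer ((Q : Subgroup G) : Set G) := Sylow.smul_eq_iff_mem_normalizer.1 h1
    have h3 : (y : G)⁻¹ * (x : G) ∈ (R : Subgroup G) := (R : Subgroup G).mul_mem ((R : Subgroup G).inv_mem y.2) x.2
    have h4 : (y : G)⁻¹ * (x : G) ∈ (Q : Subgroup G) := by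
      have hpg : IsPGroup q (zpowers ((y : G)⁻¹ * (x : G))) := by
        apply R.isPGroup'.to_le
        rw [zpowers_le]
        exact h3
      have h5 := hpg.inf_normalizer_sylow Q
      have h6 : (y : G)⁻¹ * (x : G) ∈ zpowers ((y : G)⁻¹ * (x : G)) ⊓ (Q : Subgroup G) := by
        rw [← h5]
        exact ⟨mem_zpowers _, h2⟩
      exact h6.2
    have h5 := hTI R Q hne _ h3 h4
    have h6 : (x : G) = y := by
      have := mul_eq_one_iff_eq_inv.1 h5
      exact (inv_injective this).symm
    exact Subtype.ext h6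
  have hle := Nat.card_le_card_of_injective f hf
  refine lt_of_le_of_ne hle ?_
  intro he
  have hbij := hf.bijective_of_nat_card_le (le_of_eq he.symm)
  obtain ⟨x, hx⟩ := hbij.2 R
  apply hne
  -- `x • Q = R`, so `x⁻¹ • R = Q`, but `x ∈ R` normalizes `R`
  have h1 : (x : G) • R = R := Sylow.smul_eq_iff_mem_normalizer.2 (Subgroup.le_normalizer x.2)
  have h2 : (x : G) • Q = (x : G) • R := by rw [h1]; exact hx
  have h3 := smul_left_cancel (x : G) h2
  exact h3.symm

/-- **Recognition.** -/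
theorem psl_of_cover [IsSimpleGroup G] (hG : ¬ IsMulCommutative G) (T : Sylow 2 G) {a : ℕ}
    (hT : Nat.card (T : Subgroup G) = 2 ^ a) (ha : 2 ≤ a)
    (hC : ∀ w : G, orderOf w = 2 → Nat.card (centralizer ({w} : Set G)) = 2 ^ a)
    (hexp : ∀ x : G, ∀ k, x ^ (2 ^ k) = 1 → x ^ 2 = 1)
    {F : Type*} [Field F] [Fintype F] (hF : Fintype.card F = 2 ^ a) :
    Nonempty (G ≃* Matrix.ProjectiveSpecialLinearGroup (Fin 2) F) := by
  have hexpC : ∀ w : G, orderOf w = 2 → ∀ c ∈ centralizer ({w} : Set G), c ^ 2 = 1 := by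
    intro w hw c hc
    have h1 := Subgroup.orderOf_dvd_natCard _ hc
    rw [hC w hw] at h1
    exact hexp c a (by rw [← orderOf_dvd_iff_pow_eq_one]; exact h1)
  have hnc : ¬ IsCyclic (T : Subgroup G) := by
    intro hc
    obtain ⟨g, hg⟩ := IsCyclic.exists_generator (α := (T : Subgroup G))
    have h1 : orderOf g = 2 ^ a := by
      rw [← hT]
      exact orderOf_eq_card_of_forall_mem_zpowers hg
    have h2 : (g : G) ^ 2 = 1 := by
      apply hexp (g : G) a
      have h3 : g ^ (2 ^ a) = 1 := by rw [← h1]; exact pow_orderOf_eq_one g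
      have := congrArg Subtype.val h3
      simpa using this
    have h3 : g ^ 2 = 1 := by
      apply Subtype.ext
      simpa using h2
    have h4 := orderOf_dvd_of_pow_eq_one h3
    rw [h1] at h4
    have h5 : 2 ^ 2 ≤ 2 ^ a := Nat.pow_le_pow_right (by norm_num) ha
    have := Nat.le_of_dvd (by norm_num) h4
    omega
  have hnn : ¬ (T : Subgroup G).Normal := by
    intro hN
    rcases (inferInstance : IsSimpleGroup G).eq_bot_or_eq_top_of_normal _ hN with hb | ht
    · rw [hb] at hT
      have h5 : 2 ^ 2 ≤ 2 ^ a := Nat.pow_le_pow_right (by norm_num) ha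
      simp at hT
      omega
    · apply hG
      -- a simple `2`-group is commutative
      have hpg : IsPGroup 2 G := by
        have h1 := T.isPGroup'
        rw [ht] at h1
        exact h1.of_equiv (Subgroup.topEquiv)
      haveI : Fact (Nat.Prime 2) := ⟨Nat.prime_two⟩
      have hnt := hpg.center_nontrivial
      have : Nontrivial G := IsSimpleGroup.toNontrivial
      rcases (inferInstance : IsSimpleGroup G).eq_bot_or_eq_top_of_normal (center G) inferInstance with hb | ht'
      · rw [hb] at hnt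
        exact (not_nontrivial_iff_subsingleton.2 inferInstance hnt).elim
      · exact ⟨⟨fun a b => (mem_center_iff.1 (by rw [ht']; trivial : b ∈ center G) a)⟩⟩
  have hC' : ∀ t : G, orderOf t = 2 → IsMulCommutative (centralizer ({t} : Set G)) ∧
      ∀ c ∈ centralizer ({t} : Set G), c ^ 2 = 1 := by
    intro t ht
    refine ⟨⟨⟨?_⟩⟩, hexpC t ht⟩
    rintro ⟨x, hx⟩ ⟨y, hy⟩
    apply Subtype.ext
    change x * y = y * x
    have h1 := hexpC t ht _ ((centralizer ({t} : Set G)).mul_mem hx hy)
    have h2 := hexpC t ht _ hx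
    have h3 := hexpC t ht _ hy
    have hxi : x⁻¹ = x := by rw [inv_eq_iff_mul_eq_one, ← pow_two, h2]
    have hyi : y⁻¹ = y := by rw [inv_eq_iff_mul_eq_one, ← pow_two, h3]
    have h4 : (x * y)⁻¹ = x * y := by rw [inv_eq_iff_mul_eq_one, ← pow_two, h1]
    rw [mul_inv_rev, hxi, hyi] at h4
    exact h4.symm
  obtain ⟨K, fK, fK', hK, ⟨e⟩⟩ := (Cfsg.Agent.Lib.CITElem.CIT.of T hnc hnn hC').exists_psl T
  have hcard : Fintype.card K = Fintype.card F := by
    rw [hK, hF, ← hT]
  obtain ⟨e2⟩ := Cfsg.Agent.Lib.PSL2Rec.psl_congr (FiniteField.ringEquivOfCardEq hcard)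
  exact ⟨e.trans e2⟩

end Cfsg.Agent.Lib.CITCount
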