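import Mathlib
import Cfsg.Agent.S1403
import Cfsg.Agent.S1473
import Cfsg.Agent.S1477
import Cfsg.Agent.S1484
import Cfsg.Agent.Lib.BGCN2

/-!
# The CN theorem for odd order, reduced to the partition theorem
-/

set_option autoImplicit false
set_option linter.unusedSectionVars false
set_option linter.unusedVariables false
set_option linter.style.haveILetI false
open Cfsg

namespace Cfsg.Agent.Lib.CNFinal9

universe u

/-- The partition theorem for one group. -/
def Part9 (G : Type u) [Group G] [Finite G] : Prop :=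
  Odd (Nat.card G) → ∀ (k : ℕ), 2 ≤ k → ∀ (L H : Fin k → Subgroup G), (∀ i, H i < L i) → (∀ i, H i ≠ ⊥) →
    (∀ i, ∀ x ∈ L i, ∀ h ∈ H i, x * h * x⁻¹ ∈ H i) →
    (∀ i, ∀ h ∈ H i, h ≠ 1 → L i ⊓ Subgroup.centralizer ({h} : Set G) ≤ H i) →
    (∀ i j, i ≠ j → Nat.Coprime (Nat.card (H i)) (Nat.card (H j))) →
    (∀ i, IsTISubset (H i : Set G) ∧ Subgroup.normalizer (H i : Set G) = L i) →
    (∀ g : G, g ≠ 1 → ∃ i, ∃ x : G, x * g * x⁻¹ ∈ H i) → False

section

variable {G : Type u} [Group G]

lemma map_conj_one (H : Subgroup G) : H.map (MulAut.conj (1 : G)).toMonoidHom = H := by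
  ext x
  simp

lemma map_conj_mul (H : Subgroup G) (g h : G) :
    (H.map (MulAut.conj g).toMonoidHom).map (MulAut.conj h).toMonoidHom =
      H.map (MulAut.conj (h * g)).toMonoidHom := by
  ext x
  simp only [Subgroup.mem_map, MulEquiv.coe_toMonoidHom, MulAut.conj_apply]
  constructor
  · rintro ⟨_, ⟨y, hy, rfl⟩, rfl⟩
    exact ⟨y, hy, by group⟩
  · rintro ⟨y, hy, rfl⟩
    exact ⟨g * y * g⁻¹, ⟨y, hy, rfl⟩, by group⟩

/-- Conjugacy of coatoms. -/
def conjSetoid9 (G : Type u) [Group G] : Setoid {M : Subgroup G // IsCoatom M} where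
  r M N := ∃ g : G, N.1 = M.1.map (MulAut.conj g).toMonoidHom
  iseqv := by
    refine ⟨fun M => ⟨1, (map_conj_one M.1).symm⟩, ?_, ?_⟩
    · rintro M N ⟨g, hg⟩
      refine ⟨g⁻¹, ?_⟩
      rw [hg, map_conj_mul, inv_mul_cancel, map_conj_one]
    · rintro M N K ⟨g, hg⟩ ⟨h, hh⟩
      refine ⟨h * g, ?_⟩
      rw [hh, hg, map_conj_mul]

/-- A system of representatives of the conjugacy classes of maximal subgroups. -/
theorem exists_reps (G : Type u) [Group G] [Finite G] : ∃ (k : ℕ) (Mrep : Fin k → Subgroup G),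
    (∀ i, IsCoatom (Mrep i)) ∧
    (∀ i j, i ≠ j → ∀ g : G, Mrep j ≠ (Mrep i).map (MulAut.conj g).toMonoidHom) ∧
    (∀ M : Subgroup G, IsCoatom M → ∃ i, ∃ g : G, M = (Mrep i).map (MulAut.conj g).toMonoidHom) := by
  classical
  let Q := Quotient (conjSetoid9 G)
  haveI : Finite Q := Quotient.finite _
  obtain ⟨k, ⟨e⟩⟩ := Finite.exists_equiv_fin Q
  let rep : Fin k → {M : Subgroup G // IsCoatom M} := fun i => Quotient.out (e.symm i)
  refine ⟨k, fun i => (rep i).1, fun i => (rep i).2, ?_, ?_⟩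
  · intro i j hij g hg
    apply hij
    have h1 : (conjSetoid9 G).r (rep i) (rep j) := ⟨g, hg⟩
    have h2 : (Quotient.mk (conjSetoid9 G) (rep i)) = Quotient.mk (conjSetoid9 G) (rep j) :=
      Quotient.sound h1
    simp only [rep, Quotient.out_eq] at h2
    exact e.symm.injective h2
  · intro M hM
    refine ⟨e (Quotient.mk (conjSetoid9 G) ⟨M, hM⟩), ?_⟩
    have h1 : Quotient.mk (conjSetoid9 G) (rep (e (Quotient.mk (conjSetoid9 G) ⟨M, hM⟩))) =
        Quotient.mk (conjSetoid9 G) ⟨M, hM⟩ := by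
      simp only [rep, Quotient.out_eq, Equiv.symm_apply_apply]
    exact Quotient.exact h1

variable [Finite G]

open Cfsg.Agent.Lib.BGCN2 in
/-- The minimal simple case. -/
theorem minsimple_false (hG : IsMinSimpleOddOrder G) (hCN : IsCNGroup G) (hP : Part9 G) : False := by
  classical
  have hNT : ∀ (H : Subgroup G) (p : ℕ), ¬ IsThreeStepGroup p H := fun H p =>
    Cfsg.Agent.Lib.BGCN.s1478 hG hCN (fun K hK h1 h2 => Cfsg.Agent.S1403.result hG K hK h1 h2) H p
  obtain ⟨k, Mrep, hmax, hnc, hall⟩ := exists_reps G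
  obtain ⟨hcop, hprod, hcov⟩ := Cfsg.Agent.S1484.result hG hCN k Mrep hmax hnc hall
  have hgf : ∀ i, ∃ E, GFrob (Mrep i) E := fun i => exists_gfrob hG hCN hNT (hmax i)
  haveI := hG.2.1
  have hnt : Nontrivial G := IsSimpleGroup.toNontrivial
  have hk : 2 ≤ k := by
    by_contra hlt
    have hk' : k = 0 ∨ k = 1 := by omega
    rcases hk' with rfl | rfl
    · obtain h | ⟨M, hM, -⟩ := eq_top_or_exists_le_coatom (⊥ : Subgroup G)
      · exact bot_ne_top h
      · obtain ⟨i, -⟩ := hall M hM
        exact i.elim0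
    · rw [Fin.prod_univ_one] at hprod
      have h0 : fittingHallOf (Mrep 0) = ⊤ := Subgroup.eq_top_of_card_eq _ hprod
      obtain ⟨E, hE⟩ := hgf 0
      exact (hmax 0).1 (top_le_iff.mp (h0 ▸ hE.T_le))
  refine hP hG.1 k hk Mrep (fun i => fittingHallOf (Mrep i)) ?_ ?_ ?_ ?_ ?_ ?_ ?_
  · intro i
    obtain ⟨E, hE⟩ := hgf i
    refine lt_of_le_of_ne hE.T_le ?_
    intro h
    apply hE.E_ne
    rw [eq_bot_iff, ← hE.compl.2.2.1]
    exact le_inf (hE.E_le.trans h.ge) le_rfl
  · intro i
    obtain ⟨E, hE⟩ := hgf i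
    exact hE.ne_bot
  · intro i x hx h hh
    obtain ⟨E, hE⟩ := hgf i
    rw [← hE.norm_eq] at hx
    exact (Subgroup.mem_normalizer_iff.mp hx h).mp hh
  · intro i h hh hh1
    obtain ⟨E, hE⟩ := hgf i
    have h1 := (Cfsg.Agent.S1477.result hCN _ hE.nil hE.maxnil).2.2
      (fun g hg => maxnil_ti hG hCN hNT hE.nil hE.maxnil g hg) h hh hh1
    exact inf_le_right.trans h1
  · exact hcop
  · intro i
    obtain ⟨E, hE⟩ := hgf i
    refine ⟨?_, hE.norm_eq⟩
    intro g hg x hx hgx
    have hne : (fittingHallOf (Mrep i)).map (MulAut.conj g).toMonoidHom ≠ fittingHallOf (Mrep i) := by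
      intro h
      apply hg
      rw [Subgroup.mem_normalizer_iff]
      intro y
      constructor
      · intro hy
        have : g * y * g⁻¹ ∈ (fittingHallOf (Mrep i)).map (MulAut.conj g).toMonoidHom :=
          ⟨y, hy, rfl⟩
        rwa [h] at this
      · intro hy
        have : g * y * g⁻¹ ∈ (fittingHallOf (Mrep i)).map (MulAut.conj g).toMonoidHom := by
          rw [h]; exact hy
        obtain ⟨z, hz, hzy⟩ := this
        have hzy' : g * z * g⁻¹ = g * y * g⁻¹ := hzy
        have : z = y := by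
          have := mul_right_cancel hzy'
          exact mul_left_cancel this
        rwa [← this]
    have h1 := maxnil_ti hG hCN hNT hE.nil hE.maxnil g hne
    have h2 : g * x * g⁻¹ ∈ fittingHallOf (Mrep i) ⊓
        (fittingHallOf (Mrep i)).map (MulAut.conj g).toMonoidHom := ⟨hgx, ⟨x, hx, rfl⟩⟩
    rw [h1, Subgroup.mem_bot] at h2
    have h3 : g * x = g := by
      have := congrArg (· * g) h2
      simpa using this
    simpa using h3
  · intro g hg
    exact hcov g

end

/-- The CN theorem for odd order, given the partition theorem. -/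
theorem solvable_of_part (hP : ∀ (X : Type u) [Group X] [Finite X], Part9 X) :
    ∀ (n : ℕ) (X : Type u) [Group X] [Finite X], Nat.card X = n → Odd n → IsCNGroup X →
      Group.IsSolvable X := by
  intro n
  induction n using Nat.strong_induction_on with
  | _ n ih =>
    intro X _ _ hc ho hCN
    have hsub : ∀ N : Subgroup X, N ≠ ⊤ → Group.IsSolvable N := by
      intro N hN
      have h1 : Nat.card N ∣ Nat.card X := Subgroup.card_subgroup_dvd_card N
      have h2 : Nat.card N < n := by
        rw [← hc]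
        refine lt_of_le_of_ne (Nat.le_of_dvd Nat.card_pos h1) ?_
        intro h
        exact hN (Subgroup.eq_top_of_card_eq _ h)
      exact ih _ h2 N rfl (Odd.of_dvd_nat (hc ▸ ho) h1) (Cfsg.Agent.Lib.BGCN.isCN_subgroup hCN N)
    by_cases hnt : Nontrivial X
    · by_cases hsimple : ∃ N : Subgroup X, N.Normal ∧ N ≠ ⊥ ∧ N ≠ ⊤
      · obtain ⟨N, hNn, hN1, hNt⟩ := hsimple
        haveI := hNn
        haveI hNs : Group.IsSolvable N := hsub N hNt
        have hcq : Nat.card X = Nat.card (X ⧸ N) * Nat.card N := by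
          rw [Subgroup.card_eq_card_quotient_mul_card_subgroup N]
        have hN2 : 1 < Nat.card N := (Subgroup.one_lt_card_iff_ne_bot N).mpr hN1
        have hq0 : 0 < Nat.card (X ⧸ N) := Nat.card_pos
        haveI hQs : Group.IsSolvable (X ⧸ N) := by
          refine ih (Nat.card (X ⧸ N)) ?_ (X ⧸ N) rfl ?_ ?_
          · rw [← hc, hcq]
            nlinarith
          · exact Odd.of_dvd_nat (hc ▸ ho) ⟨Nat.card N, hcq⟩
          · exact Cfsg.Agent.S1473.result hCN N hNs
        refine Group.isSolvable_of_ker_le_range N.subtype (QuotientGroup.mk' N) ?_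
        intro x hx
        rw [QuotientGroup.ker_mk'] at hx
        exact ⟨⟨x, hx⟩, rfl⟩
      · push Not at hsimple
        haveI hS : IsSimpleGroup X := ⟨fun N hN => by
          by_cases h : N = ⊥
          · exact Or.inl h
          · exact Or.inr (hsimple N hN h)⟩
        by_cases hcomm : IsMulCommutative X
        · haveI := hcomm
          exact Group.isSolvable_of_comm (fun a b => mul_comm' a b)
        · exact (minsimple_false ⟨hc ▸ ho, hS, hcomm, hsub⟩ hCN (hP X)).elim
    · rw [not_nontrivial_iff_subsingleton] at hnt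
      haveI := hnt
      exact inferInstance

end Cfsg.Agent.Lib.CNFinal9
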