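import Mathlib
import Cfsg.Agent.Lib.QuadPair
import Cfsg.Agent.Lib.BurnsideAut
import Cfsg.Agent.Lib.Frat
import Cfsg.Agent.Lib.BaerSuzuki
import Cfsg.Agent.Lib.PCore

/-!
# Two quadratically acting elements and the section `SL₂(p)`.

`DicksonProp p` is Dickson's theorem in the form: a subgroup of `SL₂(F)` with more than one Sylow
`p`-subgroup contains a copy of `SL₂(p)`.
-/

set_option autoImplicit false
set_option linter.style.haveILetI false
set_option linter.unusedSectionVars false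

open TensorProduct
open scoped commutatorElement

namespace Cfsg.Agent.Lib.QuadSection

/-- Dickson's theorem in the form used. -/
def DicksonProp (p : ℕ) [Fact p.Prime] : Prop :=
  ∀ (F : Type) [Field F] [Fintype F] [CharP F p] (H : Subgroup (Matrix.SpecialLinearGroup (Fin 2) F)),
    1 < Nat.card (Sylow p H) → ∃ K ≤ H, Nonempty (K ≃* Matrix.SpecialLinearGroup (Fin 2) (ZMod p))

/-- A group has a section `Y` inside `Γ₀`. -/
def HasSec {G : Type*} [Group G] (Γ₀ : Subgroup G) (Y : Type*) [Group Y] : Prop :=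
  ∃ K : Subgroup G, K ≤ Γ₀ ∧ ∃ f : K →* Y, Function.Surjective f

theorem HasSec.mono {G : Type*} [Group G] {Γ₀ Γ₁ : Subgroup G} {Y : Type*} [Group Y] (h : HasSec Γ₀ Y)
    (hle : Γ₀ ≤ Γ₁) : HasSec Γ₁ Y := by
  obtain ⟨K, hK, f⟩ := h
  exact ⟨K, hK.trans hle, f⟩

/-- The quotient form of a section. -/
theorem HasSec.exists_quot {G : Type*} [Group G] {Γ₀ : Subgroup G} {Y : Type*} [Group Y] (h : HasSec Γ₀ Y) :
    ∃ (K L : Subgroup G) (_ : (L.subgroupOf K).Normal), K ≤ Γ₀ ∧ Nonempty ((K ⧸ L.subgroupOf K) ≃* Y) := by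
  obtain ⟨K, hK, f, hf⟩ := h
  let L : Subgroup G := f.ker.map K.subtype
  have hL : L.subgroupOf K = f.ker := Subgroup.comap_map_eq_self_of_injective K.subtype_injective _
  have hn : (L.subgroupOf K).Normal := by rw [hL]; infer_instance
  refine ⟨K, L, hn, hK, ⟨?_⟩⟩
  exact (QuotientGroup.quotientMulEquivOfEq hL).trans (QuotientGroup.quotientKerEquivOfSurjective f hf)

/-- A homomorphism from `Γ₀` whose image contains a subgroup isomorphic to `Y` yields a section. -/
theorem hasSec_of_hom {G : Type*} [Group G] (Γ₀ : Subgroup G) {Q : Type*} [Group Q] (φ : Γ₀ →* Q)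
    (K' : Subgroup Q) (hK' : K' ≤ φ.range) {Y : Type*} [Group Y] (e : K' ≃* Y) : HasSec Γ₀ Y := by
  let K₀ : Subgroup Γ₀ := K'.comap φ
  let ι := Subgroup.equivMapOfInjective K₀ Γ₀.subtype Γ₀.subtype_injective
  refine ⟨K₀.map Γ₀.subtype, Subgroup.map_subtype_le _, ?_⟩
  let f₀ : K₀ →* K' := φ.subgroupComap K'
  refine ⟨(e.toMonoidHom.comp f₀).comp ι.symm.toMonoidHom, ?_⟩
  intro y
  obtain ⟨k, rfl⟩ := e.surjective y
  obtain ⟨g, hg⟩ := hK' k.2
  have hgK : g ∈ K₀ := by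
    show φ g ∈ K'
    rw [hg]; exact k.2
  refine ⟨ι ⟨g, hgK⟩, ?_⟩
  simp only [MonoidHom.comp_apply, MulEquiv.coe_toMonoidHom, MulEquiv.symm_apply_apply]
  congr 1
  exact Subtype.ext hg

variable {p : ℕ} [hp : Fact p.Prime]

/-- A group generated by `p`-elements which is not a `p`-group has more than one Sylow subgroup. -/
theorem one_lt_card_sylow {H : Type*} [Group H] [Finite H] (S : Set H)
    (hgen : Subgroup.closure S = ⊤) (hS : ∀ s ∈ S, ∃ n : ℕ, s ^ p ^ n = 1) (hnp : ¬ IsPGroup p H) :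
    1 < Nat.card (Sylow p H) := by
  by_contra hc
  have hle : Nat.card (Sylow p H) ≤ 1 := not_lt.mp hc
  have hsub : Subsingleton (Sylow p H) := (Finite.card_le_one_iff_subsingleton).mp hle
  obtain ⟨P⟩ : Nonempty (Sylow p H) := inferInstance
  have hmem : ∀ s ∈ S, s ∈ (P : Subgroup H) := by
    intro s hs
    obtain ⟨n, hn⟩ := hS s hs
    have hp1 : IsPGroup p (Subgroup.zpowers s) := by
      rintro ⟨_, k, rfl⟩
      refine ⟨n, Subtype.ext ?_⟩
      simp only [Subgroup.coe_pow, Subgroup.coe_one]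
      show (s ^ k) ^ p ^ n = 1
      rw [← zpow_natCast, ← _root_.zpow_mul, mul_comm, _root_.zpow_mul, zpow_natCast, hn, _root_.one_zpow]
    obtain ⟨Q, hQ⟩ := hp1.exists_le_sylow
    rw [Subsingleton.elim P Q]
    exact hQ (Subgroup.mem_zpowers s)
  have htop : (P : Subgroup H) = ⊤ := by
    rw [eq_top_iff, ← hgen, Subgroup.closure_le]
    exact hmem
  apply hnp
  intro g
  obtain ⟨n, hn⟩ := P.isPGroup' ⟨g, by rw [htop]; trivial⟩
  exact ⟨n, congrArg Subtype.val hn⟩

theorem upper_pow {K : Type*} [Field K] (c : K) (n : ℕ) :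
    (!![1, c; 0, 1] : Matrix (Fin 2) (Fin 2) K) ^ n = !![1, (n : K) * c; 0, 1] := by
  induction n with
  | zero =>
    ext i j
    fin_cases i <;> fin_cases j <;> simp
  | succ n ih =>
    rw [pow_succ, ih]
    ext i j
    fin_cases i <;> fin_cases j <;> simp [Matrix.mul_apply, Fin.sum_univ_two]
    ring

theorem lower_pow {K : Type*} [Field K] (n : ℕ) :
    (!![1, 0; 1, 1] : Matrix (Fin 2) (Fin 2) K) ^ n = !![1, 0; (n : K), 1] := by
  induction n with
  | zero =>
    ext i j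
    fin_cases i <;> fin_cases j <;> simp
  | succ n ih =>
    rw [pow_succ, ih]
    ext i j
    fin_cases i <;> fin_cases j <;> simp [Matrix.mul_apply, Fin.sum_univ_two]

theorem sl2_pow_upper {K : Type*} [Field K] [CharP K p] (g : Matrix.SpecialLinearGroup (Fin 2) K) (c : K)
    (h : (g : Matrix (Fin 2) (Fin 2) K) = !![1, c; 0, 1]) : g ^ p = 1 := by
  have h1 : ((g ^ p : Matrix.SpecialLinearGroup (Fin 2) K) : Matrix (Fin 2) (Fin 2) K) =
      (g : Matrix (Fin 2) (Fin 2) K) ^ p := Matrix.SpecialLinearGroup.coe_pow g p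
  have h2 : (g : Matrix (Fin 2) (Fin 2) K) ^ p = 1 := by
    rw [h, upper_pow, CharP.cast_eq_zero]
    ext i j
    fin_cases i <;> fin_cases j <;> simp
  exact Subtype.ext (h1.trans (h2.trans Matrix.SpecialLinearGroup.coe_one.symm))

theorem sl2_pow_lower {K : Type*} [Field K] [CharP K p] (g : Matrix.SpecialLinearGroup (Fin 2) K)
    (h : (g : Matrix (Fin 2) (Fin 2) K) = !![1, 0; 1, 1]) : g ^ p = 1 := by
  have h1 : ((g ^ p : Matrix.SpecialLinearGroup (Fin 2) K) : Matrix (Fin 2) (Fin 2) K) =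
      (g : Matrix (Fin 2) (Fin 2) K) ^ p := Matrix.SpecialLinearGroup.coe_pow g p
  have h2 : (g : Matrix (Fin 2) (Fin 2) K) ^ p = 1 := by
    rw [h, lower_pow, CharP.cast_eq_zero]
    ext i j
    fin_cases i <;> fin_cases j <;> simp
  exact Subtype.ext (h1.trans (h2.trans Matrix.SpecialLinearGroup.coe_one.symm))

section Module

variable {Γ : Type*} [Group Γ] [Finite Γ] {W : Type*} [AddCommGroup W] [Finite W]

/-- The main consequence of Dickson's theorem: a section in a group generated by two quadratic elements. -/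
theorem exists_section (hD : DicksonProp p) (hW : ∀ w : W, p • w = 0)
    (ρ : Γ →* AddMonoid.End W) {a b : Γ} (hgen : Subgroup.closure ({a, b} : Set Γ) = ⊤)
    (hX : (ρ a - 1) * (ρ a - 1) = 0) (hY : (ρ b - 1) * (ρ b - 1) = 0) (h : Γ) (hh : ∀ m : ℕ, ρ h ^ p ^ m ≠ 1) :
    ∃ (K : Subgroup Γ) (f : K →* Matrix.SpecialLinearGroup (Fin 2) (ZMod p)), Function.Surjective f := by
  classical
  have hpp : p.Prime := hp.out
  haveI : Module (ZMod p) W := AddCommGroup.zmodModule hW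
  let f₁ : Γ → Module.End (ZMod p) W := fun g => AddMonoidHom.toZModLinearMap p (show W →+ W from ρ g)
  have hf₁ : ∀ g w, f₁ g w = ρ g w := fun _ _ => rfl
  let ρ₁ : Γ →* Module.End (ZMod p) W :=
    { toFun := f₁
      map_one' := LinearMap.ext fun w => by
        rw [hf₁, map_one, Module.End.one_apply]; rfl
      map_mul' := fun x y => LinearMap.ext fun w => by
        rw [hf₁, map_mul, Module.End.mul_apply, hf₁, hf₁]; rfl }
  have hρ₁ : ∀ g w, ρ₁ g w = ρ g w := fun _ _ => rfl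
  -- the field
  obtain ⟨e, k, hk, hn⟩ := Nat.exists_eq_pow_mul_and_not_dvd (orderOf_pos (a * b)).ne' p hpp.ne_one
  have hkpos : 0 < k := by
    rcases Nat.eq_zero_or_pos k with h0 | h0
    · exact absurd (h0 ▸ dvd_zero p) hk
    · exact h0
  have hkc : Nat.Coprime p k := (Nat.Prime.coprime_iff_not_dvd hpp).mpr hk
  set m := Nat.totient k with hm
  have hm0 : m ≠ 0 := (Nat.totient_pos.mpr hkpos).ne'
  let K := GaloisField p m
  haveI : Fintype K := Fintype.ofFinite K
  have hcard : Fintype.card K = p ^ m := by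
    rw [← Nat.card_eq_fintype_card]; exact GaloisField.card p m hm0
  have hkd : k ∣ Fintype.card K - 1 := by
    rw [hcard]
    have h1 := Nat.ModEq.pow_totient hkc
    exact (Nat.modEq_iff_dvd' (Nat.one_le_pow _ _ hpp.pos)).mp h1.symm
  let bc := Module.End.baseChangeHom (ZMod p) K W
  have hbc : Function.Injective bc := LinearMap.baseChangeHom_injective (ZMod p) W K
  let ρ₂ : Γ →* Module.End K (K ⊗[ZMod p] W) := (bc.toRingHom.toMonoidHom).comp ρ₁
  have hρ₂ : ∀ g, ρ₂ g = bc (ρ₁ g) := fun _ => rfl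
  have hquad : ∀ g, (ρ g - 1) * (ρ g - 1) = 0 → (ρ₂ g - 1) * (ρ₂ g - 1) = 0 := by
    intro g hg
    have h1 : (ρ₁ g - 1) * (ρ₁ g - 1) = 0 := by
      ext w
      have h2 : ((ρ g - 1) * (ρ g - 1)) w = 0 := by rw [hg]; rfl
      have e : ∀ v, (ρ g - 1) v = ρ g v - v := fun v => rfl
      have h3 : (ρ g - 1) ((ρ g - 1) w) = 0 := h2
      rw [e, e] at h3
      simpa [hρ₁] using h3
    rw [hρ₂, ← map_one bc, ← map_sub bc, ← map_mul bc, h1, map_zero]
  have hord : ρ₂ (a * b) ^ (p ^ e * k) = 1 := by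
    rw [← map_pow, ← hn, pow_orderOf_eq_one, map_one]
  have hhne : ∀ m : ℕ, ρ₂ h ^ p ^ m ≠ 1 := by
    intro m hm1
    apply hh m
    rw [hρ₂, ← map_pow, ← map_one bc] at hm1
    have h1 := hbc hm1
    ext w
    have := congrArg (fun f => f w) h1
    have h3 : ∀ (n : ℕ) (w : W), (ρ₁ h ^ n) w = (ρ h ^ n) w := by
      intro n w
      induction n generalizing w with
      | zero => rw [pow_zero, pow_zero]; rfl
      | succ n ih => rw [pow_succ, pow_succ, Module.End.mul_apply, ih, hρ₁]; rfl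
    rw [← h3]
    simpa using this
  obtain ⟨φ, c, hc, hφa, hφb, hφh⟩ := Cfsg.Agent.Lib.QuadPair.exists_sl2_rep (K := K) (p := p) hgen (e := e) (k := k)
    hkd h _ (K ⊗[ZMod p] W) rfl ρ₂ (hquad a hX) (hquad b hY) hord hhne
  -- more than one Sylow subgroup
  have hcharK : ((p : ℕ) : K) = 0 := CharP.cast_eq_zero K p
  let φ' : Γ →* φ.range := φ.rangeRestrict
  have hφ'surj : Function.Surjective φ' := φ.rangeRestrict_surjective
  have hgen' : Subgroup.closure (φ' '' ({a, b} : Set Γ)) = ⊤ := by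
    rw [← MonoidHom.map_closure, hgen, Subgroup.map_top_of_surjective φ' hφ'surj]
  have hone : 1 < Nat.card (Sylow p φ.range) := by
    apply one_lt_card_sylow _ hgen'
    · rintro _ ⟨x, hx, rfl⟩
      refine ⟨1, ?_⟩
      apply Subtype.ext
      show φ x ^ p ^ 1 = 1
      rw [pow_one]
      rcases hx with rfl | hx
      · exact sl2_pow_upper _ c hφa
      · rw [Set.mem_singleton_iff.mp hx]
        exact sl2_pow_lower _ hφb
    · intro hpg
      obtain ⟨n, hn⟩ := hpg (φ' h)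
      exact hφh n (congrArg Subtype.val hn)
  obtain ⟨K', hK', ⟨e'⟩⟩ := hD K φ.range hone
  refine ⟨K'.comap φ, e'.toMonoidHom.comp (φ.subgroupComap K'), ?_⟩
  intro y
  obtain ⟨k, rfl⟩ := e'.surjective y
  obtain ⟨g, hg⟩ := hK' k.2
  have hgK : g ∈ K'.comap φ := by
    show φ g ∈ K'
    rw [hg]; exact k.2
  refine ⟨⟨g, hgK⟩, ?_⟩
  simp only [MonoidHom.comp_apply, MulEquiv.coe_toMonoidHom]
  congr 1
  exact Subtype.ext hg

end Module

section Burnside

variable {Q : Type*} [Group Q] [Finite Q]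

theorem frattini_quot_comm (hQ : IsPGroup p Q) (x y : Q ⧸ frattini Q) : x * y = y * x := by
  obtain ⟨x, rfl⟩ := QuotientGroup.mk_surjective x
  obtain ⟨y, rfl⟩ := QuotientGroup.mk_surjective y
  rw [← QuotientGroup.mk_mul, ← QuotientGroup.mk_mul, QuotientGroup.eq]
  have e : (x * y)⁻¹ * (y * x) = y⁻¹ * x⁻¹ * y⁻¹⁻¹ * x⁻¹⁻¹ := by group
  have h3 : y⁻¹ * x⁻¹ * y⁻¹⁻¹ * x⁻¹⁻¹ ∈ frattini Q := by
    apply Cfsg.Agent.Lib.Frat.commutator_le_frattini hQ
    rw [commutator_def, ← commutatorElement_def]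
    exact Subgroup.commutator_mem_commutator (Subgroup.mem_top _) (Subgroup.mem_top _)
  rw [e]
  exact h3

theorem pow_trivial_mod_frattini (σ : MulAut Q) (hσ : ∀ x, σ x * x⁻¹ ∈ frattini Q) (k : ℕ) (x : Q) :
    (σ ^ k) x * x⁻¹ ∈ frattini Q := by
  induction k generalizing x with
  | zero => simp
  | succ k ih =>
    have e : (σ ^ (k + 1)) x * x⁻¹ = ((σ ^ k) (σ x) * (σ x)⁻¹) * (σ x * x⁻¹) := by
      rw [pow_succ]; simp
    rw [e]
    exact Subgroup.mul_mem _ (ih _) (hσ x)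

/-- An automorphism of a `p`-group trivial on `Q/Φ(Q)` is a `p`-element. -/
theorem exists_pow_eq_one_of_frattini (hQ : IsPGroup p Q) (σ : MulAut Q) (hσ : ∀ x, σ x * x⁻¹ ∈ frattini Q) :
    ∃ m : ℕ, σ ^ p ^ m = 1 := by
  have hn0 : orderOf σ ≠ 0 := (orderOf_pos σ).ne'
  by_cases hall : ∀ {d : ℕ}, d.Prime → d ∣ orderOf σ → d = p
  · have h := Nat.eq_prime_pow_of_unique_prime_dvd hn0 hall
    refine ⟨(orderOf σ).primeFactorsList.length, ?_⟩
    rw [← h]
    exact pow_orderOf_eq_one σ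
  · exfalso
    push Not at hall
    obtain ⟨r, hr, hrd, hrp⟩ := hall
    set τ := σ ^ (orderOf σ / r) with hτ
    have h1 : τ ^ r = 1 := by
      rw [hτ, ← pow_mul, Nat.div_mul_cancel hrd, pow_orderOf_eq_one]
    have h2 : τ = 1 := Cfsg.Agent.Lib.BurnsideAut.aut_eq_one_of_trivial_on_frattini hQ hr hrp τ h1
      (pow_trivial_mod_frattini σ hσ _)
    have h3 : orderOf σ ∣ orderOf σ / r := orderOf_dvd_of_pow_eq_one h2
    have h4 : orderOf σ / r < orderOf σ := Nat.div_lt_self (orderOf_pos σ) hr.one_lt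
    have h5 : 0 < orderOf σ / r := Nat.div_pos (Nat.le_of_dvd (orderOf_pos σ) hrd) hr.pos
    exact absurd (Nat.le_of_dvd h5 h3) (not_le.mpr h4)

end Burnside

section AbelianQuotient

variable {Q : Type*} [Group Q] {E : Type*} [CommGroup E] {Γ : Type*} [Group Γ]

/-- The induced action on an abelian quotient. -/
theorem exists_induced (π : Q →* E) (hπ : Function.Surjective π) (τ : Γ →* MulAut Q)
    (hker : ∀ g, ∀ x, π x = 1 → π (τ g x) = 1) :
    ∃ ρ : Γ →* AddMonoid.End (Additive E), ∀ g x, ρ g (Additive.ofMul (π x)) = Additive.ofMul (π (τ g x)) := by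
  classical
  have hk : ∀ g, π.ker ≤ (π.comp (τ g).toMonoidHom).ker := by
    intro g x hx
    rw [MonoidHom.mem_ker] at hx ⊢
    exact hker g x hx
  let lift : Γ → (E →* E) := fun g =>
    π.liftOfRightInverse (Function.surjInv hπ) (Function.rightInverse_surjInv hπ)
      ⟨π.comp (τ g).toMonoidHom, hk g⟩
  have hlift : ∀ g x, lift g (π x) = π (τ g x) := fun g x =>
    MonoidHom.liftOfRightInverse_comp_apply π (Function.surjInv hπ) (Function.rightInverse_surjInv hπ)
      ⟨π.comp (τ g).toMonoidHom, hk g⟩ x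
  let ρ₀ : Γ → AddMonoid.End (Additive E) := fun g => MonoidHom.toAdditive (lift g)
  have hρ₀ : ∀ g x, ρ₀ g (Additive.ofMul (π x)) = Additive.ofMul (π (τ g x)) := by
    intro g x
    show Additive.ofMul (lift g (π x)) = _
    rw [hlift]
  have h1 : ∀ w, ρ₀ 1 w = w := by
    intro w
    obtain ⟨x, hx⟩ := hπ (Additive.toMul w)
    have hw : w = Additive.ofMul (π x) := by rw [hx]; rfl
    rw [hw, hρ₀]
    simp
  have h2 : ∀ g₁ g₂ w, ρ₀ (g₁ * g₂) w = ρ₀ g₁ (ρ₀ g₂ w) := by
    intro g₁ g₂ w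
    obtain ⟨x, hx⟩ := hπ (Additive.toMul w)
    have hw : w = Additive.ofMul (π x) := by rw [hx]; rfl
    rw [hw, hρ₀, hρ₀, hρ₀, map_mul]
    rfl
  let ρ : Γ →* AddMonoid.End (Additive E) :=
    { toFun := ρ₀
      map_one' := AddMonoidHom.ext h1
      map_mul' := fun g₁ g₂ => AddMonoidHom.ext (h2 g₁ g₂) }
  exact ⟨ρ, hρ₀⟩

/-- The quadratic condition on the quotient. -/
theorem quad_of_fix (π : Q →* E) (hπ : Function.Surjective π) (R : AddMonoid.End (Additive E)) (σ : MulAut Q)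
    (hR : ∀ x, R (Additive.ofMul (π x)) = Additive.ofMul (π (σ x)))
    (hfix : ∀ x, σ (σ x * x⁻¹) = σ x * x⁻¹) : (R - 1) * (R - 1) = 0 := by
  have hstep : ∀ x, (R - 1) (Additive.ofMul (π x)) = Additive.ofMul (π (σ x * x⁻¹)) := by
    intro x
    show R (Additive.ofMul (π x)) - Additive.ofMul (π x) = _
    rw [hR, ← ofMul_div, map_mul, map_inv, div_eq_mul_inv]
  have key : ∀ w, (R - 1) ((R - 1) w) = 0 := by
    intro w
    obtain ⟨x, hx⟩ := hπ (Additive.toMul w)
    have hw : w = Additive.ofMul (π x) := by rw [hx]; rfl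
    rw [hw, hstep, hstep, hfix]
    simp
  exact AddMonoidHom.ext key

end AbelianQuotient

section Main

variable {G : Type*} [Group G] [Finite G]

/-- Conjugation action on a subgroup normalized by `Γ₀`. -/
def conjHom (V Γ₀ : Subgroup G) (h : Γ₀ ≤ Subgroup.normalizer (V : Set G)) : Γ₀ →* MulAut V where
  toFun g :=
    { toFun := fun v => ⟨(g : G) * v * (g : G)⁻¹, (Subgroup.mem_normalizer_iff.mp (h g.2) v).mp v.2⟩
      invFun := fun v => ⟨(g : G)⁻¹ * v * (g : G), by
        have := (Subgroup.mem_normalizer_iff.mp (Subgroup.inv_mem _ (h g.2)) v).mp v.2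
        simpa using this⟩
      left_inv := fun v => by apply Subtype.ext; simp [mul_assoc]
      right_inv := fun v => by apply Subtype.ext; simp [mul_assoc]
      map_mul' := fun v w => by apply Subtype.ext; simp [mul_assoc] }
  map_one' := by
    ext v
    simp
  map_mul' := fun x y => by
    ext v
    simp [mul_assoc]

theorem conjHom_apply (V Γ₀ : Subgroup G) (h : Γ₀ ≤ Subgroup.normalizer (V : Set G)) (g : Γ₀) (v : V) :
    ((conjHom V Γ₀ h g v : V) : G) = (g : G) * v * (g : G)⁻¹ := rfl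

/-- **Glauberman's criterion**: two quadratic elements on a `p`-subgroup acting as a non-`p`-group give a
section `SL₂(p)`. -/
theorem hasSec_of_quadratic (hD : DicksonProp p) (V : Subgroup G) (hVp : IsPGroup p V) {a b : G}
    (haV : a ∈ Subgroup.normalizer (V : Set G)) (hbV : b ∈ Subgroup.normalizer (V : Set G))
    (ha : ∀ v ∈ V, ⁅⁅v, a⁆, a⁆ = 1) (hb : ∀ v ∈ V, ⁅⁅v, b⁆, b⁆ = 1)
    (h : G) (hh : h ∈ Subgroup.closure ({a, b} : Set G))
    (hnp : ∀ m : ℕ, h ^ p ^ m ∉ Subgroup.centralizer (V : Set G)) :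
    HasSec (Subgroup.closure ({a, b} : Set G)) (Matrix.SpecialLinearGroup (Fin 2) (ZMod p)) := by
  classical
  set Γ₀ := Subgroup.closure ({a, b} : Set G) with hΓ₀
  have hΓN : Γ₀ ≤ Subgroup.normalizer (V : Set G) := by
    rw [hΓ₀, Subgroup.closure_le]
    rintro x (rfl | hx)
    · exact haV
    · rw [Set.mem_singleton_iff.mp hx]; exact hbV
  let Q := ↥V
  let τ : Γ₀ →* MulAut Q := conjHom V Γ₀ hΓN
  haveI : Finite Q := inferInstance
  have hQ : IsPGroup p Q := hVp
  have hcomm := frattini_quot_comm hQ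
  obtain ⟨E, instE, π, hπ, hker⟩ : ∃ (E : Type _) (_ : CommGroup E) (π : Q →* E),
      Function.Surjective π ∧ ∀ x, π x = 1 ↔ x ∈ frattini Q :=
    ⟨Q ⧸ frattini Q, { (inferInstance : Group (Q ⧸ frattini Q)) with mul_comm := hcomm },
      QuotientGroup.mk' (frattini Q), QuotientGroup.mk'_surjective _,
      fun x => QuotientGroup.eq_one_iff x⟩
  have hEfin : Finite E := Finite.of_surjective π hπ
  have hchar : ∀ (σ : MulAut Q) (x : Q), x ∈ frattini Q → σ x ∈ frattini Q := by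
    intro σ x hx
    have h1 := (inferInstance : (frattini Q).Characteristic).fixed σ
    have h2 : σ x ∈ (frattini Q).comap σ.symm.toMonoidHom := by
      show σ.symm (σ x) ∈ frattini Q
      simpa using hx
    rwa [(inferInstance : (frattini Q).Characteristic).fixed σ.symm] at h2
  obtain ⟨ρ, hρ⟩ := exists_induced π hπ τ (fun g x hx => (hker _).mpr (hchar _ _ ((hker x).mp hx)))
  have hW : ∀ w : Additive E, p • w = 0 := by
    intro w
    obtain ⟨x, hx⟩ := hπ (Additive.toMul w)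
    have hw : w = Additive.ofMul (π x) := by rw [hx]; rfl
    rw [hw, ← ofMul_pow, ← map_pow, (hker _).mpr (Cfsg.Agent.Lib.Frat.pow_mem_frattini hQ x)]
    rfl
  have hWfin : Finite (Additive E) := hEfin
  let a' : Γ₀ := ⟨a, Subgroup.subset_closure (by simp)⟩
  let b' : Γ₀ := ⟨b, Subgroup.subset_closure (by simp)⟩
  have hgen : Subgroup.closure ({a', b'} : Set Γ₀) = ⊤ := by
    have h1 := Subgroup.closure_closure_coe_preimage (k := ({a, b} : Set G))
    convert h1 using 2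
    ext x
    constructor
    · rintro (rfl | hx)
      · simp [a']
      · rw [Set.mem_singleton_iff.mp hx]; simp [b']
    · rintro (hx | hx)
      · left; exact Subtype.ext hx
      · right; exact Subtype.ext hx
  have hfix : ∀ (c : Γ₀), (∀ v ∈ V, ⁅⁅v, (c : G)⁆, (c : G)⁆ = 1) →
      ∀ x, τ c (τ c x * x⁻¹) = τ c x * x⁻¹ := by
    intro c hc x
    apply Subtype.ext
    have h1 := hc x x.2
    rw [commutatorElement_eq_one_iff_mul_comm] at h1
    set y : G := (x : G) with hy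
    set d : G := (c : G) with hd
    have e1 : (((τ c (τ c x * x⁻¹)) : Q) : G) = d * (d * y * d⁻¹ * y⁻¹) * d⁻¹ := rfl
    have e2 : (((τ c x * x⁻¹ : Q)) : G) = d * y * d⁻¹ * y⁻¹ := rfl
    rw [e1, e2]
    have e3 : ⁅y, d⁆ = (d * y * d⁻¹ * y⁻¹)⁻¹ ^ 1 := by
      rw [commutatorElement_def]; group
    rw [e3, pow_one] at h1
    have h2 : d * (d * y * d⁻¹ * y⁻¹) = (d * y * d⁻¹ * y⁻¹) * d := by
      calc d * (d * y * d⁻¹ * y⁻¹) = (d * y * d⁻¹ * y⁻¹) * (d * y * d⁻¹ * y⁻¹)⁻¹ * d * (d * y * d⁻¹ * y⁻¹) := by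
            group
        _ = (d * y * d⁻¹ * y⁻¹) * ((d * y * d⁻¹ * y⁻¹)⁻¹ * d) * (d * y * d⁻¹ * y⁻¹) := by group
        _ = (d * y * d⁻¹ * y⁻¹) * (d * (d * y * d⁻¹ * y⁻¹)⁻¹) * (d * y * d⁻¹ * y⁻¹) := by rw [h1]
        _ = _ := by group
    rw [h2]
    group
  have hX := quad_of_fix π hπ (ρ a') (τ a') (fun x => hρ a' x) (hfix a' ha)
  have hY := quad_of_fix π hπ (ρ b') (τ b') (fun x => hρ b' x) (hfix b' hb)
  let h' : Γ₀ := ⟨h, hh⟩
  have hh' : ∀ m : ℕ, ρ h' ^ p ^ m ≠ 1 := by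
    intro m hm
    have h1 : ∀ x, τ (h' ^ p ^ m) x * x⁻¹ ∈ frattini Q := by
      intro x
      have h2 : ρ (h' ^ p ^ m) (Additive.ofMul (π x)) = Additive.ofMul (π x) := by
        rw [map_pow, hm]; rfl
      rw [hρ] at h2
      have h3 : π (τ (h' ^ p ^ m) x) = π x := h2
      apply (hker _).mp
      rw [map_mul, map_inv, h3, mul_inv_cancel]
    obtain ⟨m', hm'⟩ := exists_pow_eq_one_of_frattini hQ (τ (h' ^ p ^ m)) h1
    apply hnp (m + m')
    rw [Subgroup.mem_centralizer_iff]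
    intro v hv
    have h4 : τ (h' ^ p ^ (m + m')) = 1 := by
      rw [pow_add, pow_mul, map_pow]
      exact hm'
    have h5 : ((τ (h' ^ p ^ (m + m')) ⟨v, hv⟩ : Q) : G) = v := by
      rw [h4]; rfl
    have h6 : ((τ (h' ^ p ^ (m + m')) ⟨v, hv⟩ : Q) : G) = h ^ p ^ (m + m') * v * (h ^ p ^ (m + m'))⁻¹ := rfl
    rw [h6] at h5
    rw [eq_comm]
    calc h ^ p ^ (m + m') * v = (h ^ p ^ (m + m') * v * (h ^ p ^ (m + m'))⁻¹) * h ^ p ^ (m + m') := by group
      _ = v * h ^ p ^ (m + m') := by rw [h5]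
  obtain ⟨K, f, hf⟩ := exists_section hD hW ρ hgen hX hY h' hh'
  let ι := Subgroup.equivMapOfInjective K Γ₀.subtype Γ₀.subtype_injective
  exact ⟨K.map Γ₀.subtype, Subgroup.map_subtype_le _, f.comp ι.symm.toMonoidHom,
    hf.comp ι.symm.surjective⟩

/-- A quadratic element induces a `p`-element on a `p`-subgroup it normalizes. -/
theorem exists_pow_mem_centralizer (V : Subgroup G) (hVp : IsPGroup p V) {a : G}
    (haV : a ∈ Subgroup.normalizer (V : Set G)) (ha : ∀ v ∈ V, ⁅⁅v, a⁆, a⁆ = 1) :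
    ∃ k : ℕ, a ^ p ^ k ∈ Subgroup.centralizer (V : Set G) := by
  obtain ⟨k, hk⟩ := IsPGroup.iff_card.mp hVp
  refine ⟨k, ?_⟩
  rw [Subgroup.mem_centralizer_iff]
  intro v hv
  set c := a * v * a⁻¹ * v⁻¹ with hc
  have hcV : c ∈ V := V.mul_mem ((Subgroup.mem_normalizer_iff.mp haV v).mp hv) (V.inv_mem hv)
  have hca : a * c * a⁻¹ = c := by
    have h1 := ha v hv
    rw [commutatorElement_eq_one_iff_mul_comm] at h1
    have e : ⁅v, a⁆ = c⁻¹ := by
      rw [commutatorElement_def, hc]; group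
    rw [e] at h1
    have h2 : a * c = c * a := by
      have h3 : c * (c⁻¹ * a) * c = c * (a * c⁻¹) * c := by rw [h1]
      have h4 : a * c = c * a := by simpa [mul_assoc] using h3
      exact h4
    rw [h2]; group
  have hpow : ∀ n : ℕ, a ^ n * v * (a ^ n)⁻¹ = c ^ n * v := by
    intro n
    induction n with
    | zero => simp
    | succ n ih =>
      have e1 : a * c ^ n * a⁻¹ = c ^ n := by
        have h5 : (MulAut.conj a) (c ^ n) = (MulAut.conj a c) ^ n := map_pow _ _ _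
        simpa [MulAut.conj_apply, hca] using h5
      have e2 : a * v * a⁻¹ = c * v := by rw [hc]; group
      calc a ^ (n + 1) * v * (a ^ (n + 1))⁻¹ = a * (a ^ n * v * (a ^ n)⁻¹) * a⁻¹ := by
            rw [pow_succ']; group
        _ = a * (c ^ n * v) * a⁻¹ := by rw [ih]
        _ = (a * c ^ n * a⁻¹) * (a * v * a⁻¹) := by group
        _ = c ^ n * (c * v) := by rw [e1, e2]
        _ = c ^ (n + 1) * v := by rw [pow_succ]; group
  have hcp : c ^ p ^ k = 1 := by
    have := pow_card_eq_one' (x := (⟨c, hcV⟩ : V))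
    rw [hk] at this
    simpa using congrArg Subtype.val this
  have h1 := hpow (p ^ k)
  rw [hcp, one_mul] at h1
  calc v * a ^ p ^ k = (a ^ p ^ k * v * (a ^ p ^ k)⁻¹) * a ^ p ^ k := by rw [h1]
    _ = a ^ p ^ k * v := by group

theorem quad_conj {V : Subgroup G} {a g : G} (hg : g ∈ Subgroup.normalizer (V : Set G))
    (ha : ∀ v ∈ V, ⁅⁅v, a⁆, a⁆ = 1) : ∀ v ∈ V, ⁅⁅v, g * a * g⁻¹⁆, g * a * g⁻¹⁆ = 1 := by
  intro v hv
  have hv' : g⁻¹ * v * g ∈ V := by
    have := (Subgroup.mem_normalizer_iff.mp (Subgroup.inv_mem _ hg) v).mp hv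
    simpa using this
  have h1 := ha _ hv'
  have h2 := congrArg (MulAut.conj g) h1
  rw [map_commutatorElement, map_commutatorElement, map_one] at h2
  simpa [mul_assoc] using h2

theorem quad_of_comm {V : Subgroup G} {a : G}
    (ha : ⁅⁅V, Subgroup.zpowers a⁆, Subgroup.zpowers a⁆ = ⊥) : ∀ v ∈ V, ⁅⁅v, a⁆, a⁆ = 1 := by
  intro v hv
  have h1 : ⁅v, a⁆ ∈ ⁅V, Subgroup.zpowers a⁆ :=
    Subgroup.commutator_mem_commutator hv (Subgroup.mem_zpowers a)
  have h2 := Subgroup.commutator_mem_commutator h1 (Subgroup.mem_zpowers a)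
  rw [ha] at h2
  exact Subgroup.mem_bot.mp h2

/-- `p`-stability or a section `SL₂(p)`. -/
theorem mem_pCore_or_sec (hD : DicksonProp p) (V : Subgroup G) [hVn : V.Normal] (hVp : IsPGroup p V) {a : G}
    (ha : ∀ v ∈ V, ⁅⁅v, a⁆, a⁆ = 1) :
    ∃ _ : (Subgroup.centralizer (V : Set G)).Normal,
      (QuotientGroup.mk a : G ⧸ Subgroup.centralizer (V : Set G)) ∈ Cfsg.pCore p (G ⧸ Subgroup.centralizer (V : Set G)) ∨
      ∃ g : G, HasSec (Subgroup.closure ({a, g * a * g⁻¹} : Set G)) (Matrix.SpecialLinearGroup (Fin 2) (ZMod p)) := by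
  classical
  have hCn : (Subgroup.centralizer (V : Set G)).Normal := Subgroup.normal_centralizer
  refine ⟨hCn, ?_⟩
  have htop : Subgroup.normalizer (V : Set G) = ⊤ := Subgroup.normalizer_eq_top_iff.mpr hVn
  have hN : ∀ g : G, g ∈ Subgroup.normalizer (V : Set G) := fun g => by rw [htop]; trivial
  set C := Subgroup.centralizer (V : Set G) with hC
  let π : G →* G ⧸ C := QuotientGroup.mk' C
  have hπ : Function.Surjective π := QuotientGroup.mk'_surjective C
  obtain ⟨k, hk⟩ := exists_pow_mem_centralizer V hVp (hN a) ha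
  let X : Subgroup (G ⧸ C) := Subgroup.zpowers (π a)
  have hXp : IsPGroup p X := by
    have hpow : (π a) ^ p ^ k = 1 := by
      rw [← map_pow]
      exact (QuotientGroup.eq_one_iff _).mpr hk
    rintro ⟨_, n, rfl⟩
    refine ⟨k, Subtype.ext ?_⟩
    show ((π a) ^ n) ^ p ^ k = 1
    rw [← zpow_natCast, ← zpow_mul, mul_comm, zpow_mul, zpow_natCast, hpow, one_zpow]
  by_cases hall : ∀ gb : G ⧸ C, IsPGroup p ↥(X ⊔ X.map (MulAut.conj gb).toMonoidHom)
  · left
    obtain ⟨N, hNn, hNp, hXN⟩ := Cfsg.Agent.Lib.BaerSuzuki.baer_suzuki X hXp hall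
    exact Cfsg.Agent.Lib.PCore.le_pCore hNn hNp (hXN (Subgroup.mem_zpowers _))
  · right
    push Not at hall
    obtain ⟨gb, hgb⟩ := hall
    obtain ⟨g, rfl⟩ := hπ gb
    refine ⟨g, ?_⟩
    set Γ₀ := Subgroup.closure ({a, g * a * g⁻¹} : Set G) with hΓ₀
    have hXle : X ⊔ X.map (MulAut.conj (π g)).toMonoidHom ≤ Γ₀.map π := by
      apply sup_le
      · rw [Subgroup.zpowers_le]
        exact ⟨a, Subgroup.subset_closure (by simp), rfl⟩
      · rw [Subgroup.map_le_iff_le_comap, Subgroup.zpowers_le]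
        refine ⟨g * a * g⁻¹, Subgroup.subset_closure (by simp), ?_⟩
        simp [MulAut.conj_apply]
    have hnp : ∃ y ∈ X ⊔ X.map (MulAut.conj (π g)).toMonoidHom, ∀ m : ℕ, y ^ p ^ m ≠ 1 := by
      by_contra hcon
      push Not at hcon
      apply hgb
      intro y
      obtain ⟨m, hm⟩ := hcon y y.2
      exact ⟨m, Subtype.ext hm⟩
    obtain ⟨y, hy, hym⟩ := hnp
    obtain ⟨h, hhΓ, rfl⟩ := hXle hy
    refine hasSec_of_quadratic hD V hVp (hN a) (hN _) ha (quad_conj (hN g) ha) h hhΓ ?_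
    intro m hm
    apply hym m
    rw [← map_pow]
    exact (QuotientGroup.eq_one_iff _).mpr hm

end Main

end Cfsg.Agent.Lib.QuadSection
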