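import Mathlib
import Cfsg.Agent.S0274
import Cfsg.Agent.Lib.QuadSection
import Cfsg.Agent.Lib.InvolvesAPI
import Cfsg.Agent.Lib.ZJStrong
import Cfsg.Agent.Lib.H73Hom

/-!
# Theorem P: a group which does not involve `SL₂(p)` is `p`-stable.
-/

set_option autoImplicit false
set_option linter.unusedSectionVars false
set_option linter.style.haveILetI false

open scoped commutatorElement

namespace Cfsg.Agent.Lib.QuadP

open Cfsg Cfsg.Agent.Lib.QuadSection Cfsg.Agent.Lib.InvolvesAPI Cfsg.Agent.Lib.PCore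

/-- The shorthand for `SL₂(p)`. -/
abbrev SLp (p : ℕ) := Matrix.SpecialLinearGroup (Fin 2) (ZMod p)

variable {p : ℕ} [hp : Fact p.Prime]

theorem dicksonProp (hp2 : p ≠ 2) : DicksonProp p := fun _ _ _ _ H' hH' =>
  Cfsg.Agent.S0274.result p hp2 H' hH'

/-- A section in the `HasSec` sense is a section in the `Involves` sense. -/
theorem HasSec_involves {G Y : Type*} [Group G] [Group Y] {Γ₀ : Subgroup G} (h : HasSec Γ₀ Y) : Involves Y G := by
  obtain ⟨K, _, f, hf⟩ := h
  exact involves_of_surj K f hf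

section normalizer

variable {X : Type*} [Group X] [Finite X]

/-- A `p`-subgroup in its normalizer. -/
theorem subgroupOf_normal_normalizer (Q : Subgroup X) : (Q.subgroupOf (Subgroup.normalizer (Q : Set X))).Normal := by
  refine ⟨fun n hn g => ?_⟩
  rw [Subgroup.mem_subgroupOf] at hn ⊢
  exact (Subgroup.mem_normalizer_iff.mp g.2 n).mp hn

theorem centralizer_subgroupOf_eq (Q : Subgroup X) :
    Subgroup.centralizer (((Q.subgroupOf (Subgroup.normalizer (Q : Set X))) : Subgroup _) : Set ↥(Subgroup.normalizer (Q : Set X))) =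
      (Subgroup.centralizer (Q : Set X)).subgroupOf (Subgroup.normalizer (Q : Set X)) := by
  ext y
  rw [Subgroup.mem_subgroupOf, Subgroup.mem_centralizer_iff, Subgroup.mem_centralizer_iff]
  constructor
  · intro h q hq
    have hq' : q ∈ Subgroup.normalizer (Q : Set X) := Subgroup.le_normalizer hq
    have := h ⟨q, hq'⟩ (Subgroup.mem_subgroupOf.mpr hq)
    exact congrArg Subtype.val this
  · intro h v hv
    apply Subtype.ext
    exact h v.1 (Subgroup.mem_subgroupOf.mp hv)

/-- **Theorem P**, normalizer form. -/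
theorem normalizer_or_involves (hp2 : p ≠ 2) (Q : Subgroup X) (hQ : IsPGroup p Q) (g : X)
    (hg : g ∈ Subgroup.normalizer (Q : Set X)) (hq : ⁅⁅Q, Subgroup.zpowers g⁆, Subgroup.zpowers g⁆ = ⊥) :
    (QuotientGroup.mk (s := (Subgroup.centralizer (Q : Set X)).subgroupOf (Subgroup.normalizer (Q : Set X)))
        (⟨g, hg⟩ : ↥(Subgroup.normalizer (Q : Set X))) ∈
      pCore p (↥(Subgroup.normalizer (Q : Set X)) ⧸ (Subgroup.centralizer (Q : Set X)).subgroupOf (Subgroup.normalizer (Q : Set X)))) ∨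
    Involves (SLp p) ↥(Subgroup.normalizer (Q : Set X)) := by
  set Γ := Subgroup.normalizer (Q : Set X) with hΓ
  haveI hVn : (Q.subgroupOf Γ).Normal := subgroupOf_normal_normalizer Q
  have hVp : IsPGroup p (Q.subgroupOf Γ) := hQ.comap_of_injective Γ.subtype Γ.subtype_injective
  let a : Γ := ⟨g, hg⟩
  have ha : ∀ v ∈ Q.subgroupOf Γ, ⁅⁅v, a⁆, a⁆ = 1 := by
    intro v hv
    apply Subtype.ext
    have := quad_of_comm hq v.1 (Subgroup.mem_subgroupOf.mp hv)
    simpa [commutatorElement_def, a] using this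
  obtain ⟨hCn, h⟩ := mem_pCore_or_sec (dicksonProp hp2) (Q.subgroupOf Γ) hVp ha
  rcases h with h | ⟨g', hg'⟩
  · left
    have hC := centralizer_subgroupOf_eq Q
    let e := QuotientGroup.quotientMulEquivOfEq hC
    exact Cfsg.Agent.Lib.ZJStrong.map_pCore_le_of_surjective (p := p) e.toMonoidHom e.surjective ⟨_, h, rfl⟩
  · right
    exact HasSec_involves hg'

/-- A `p`-subgroup of a quotient: its normalizer is a section of the normalizer of a `p`-subgroup upstairs. -/
theorem involves_normalizer_of_surj {K₀ : Type*} [Group K₀] [Finite K₀] {X' : Type*} [Group X'] (ψ : K₀ →* X')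
    (hψ : Function.Surjective ψ) (Qb : Subgroup X') (hQ : IsPGroup p Qb) (hne : Qb ≠ ⊥) :
    ∃ Q₀ : Subgroup K₀, IsPGroup p Q₀ ∧ Q₀ ≠ ⊥ ∧
      Involves ↥(Subgroup.normalizer (Qb : Set X')) ↥(Subgroup.normalizer (Q₀ : Set K₀)) := by
  classical
  let L : Subgroup K₀ := Qb.comap ψ
  obtain ⟨S⟩ : Nonempty (Sylow p L) := inferInstance
  let Q₀ : Subgroup K₀ := (S : Subgroup L).map L.subtype
  have hQ₀ : IsPGroup p Q₀ := S.isPGroup'.map _
  have hφ : Function.Surjective (ψ.subgroupComap Qb) := ψ.subgroupComap_surjective_of_surjective Qb hψ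
  let S' := S.mapSurjective hφ
  have hS' : (S' : Subgroup Qb) = ⊤ := by
    have h1 : IsPGroup p ↥(⊤ : Subgroup Qb) := hQ.of_equiv (Subgroup.topEquiv).symm
    exact (S'.is_maximal' h1 le_top).symm
  have hsurj : ∀ q ∈ Qb, ∃ s ∈ Q₀, ψ s = q := by
    intro q hq
    have h1 : (⟨q, hq⟩ : Qb) ∈ (S' : Subgroup Qb) := by rw [hS']; trivial
    obtain ⟨s, hs, hsq⟩ := h1
    refine ⟨s, ⟨s, hs, rfl⟩, ?_⟩
    exact congrArg Subtype.val hsq
  have hQ₀ne : Q₀ ≠ ⊥ := by
    intro h
    apply hne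
    rw [eq_bot_iff]
    intro q hq
    obtain ⟨s, hs, rfl⟩ := hsurj q hq
    rw [h] at hs
    rw [Subgroup.mem_bot.mp hs, map_one]
    exact Subgroup.one_mem _
  refine ⟨Q₀, hQ₀, hQ₀ne, ?_⟩
  -- the subgroup of the normalizer mapping into the normalizer
  let A : Subgroup ↥(Subgroup.normalizer (Q₀ : Set K₀)) :=
    (Subgroup.normalizer (Qb : Set X')).comap (ψ.comp (Subgroup.normalizer (Q₀ : Set K₀)).subtype)
  let f : A →* ↥(Subgroup.normalizer (Qb : Set X')) :=
    ((ψ.comp (Subgroup.normalizer (Q₀ : Set K₀)).subtype).comp A.subtype).codRestrict _ (fun m => m.2)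
  refine involves_of_surj A f ?_
  rintro ⟨x, hx⟩
  obtain ⟨n, rfl⟩ := hψ x
  have hn : n ∈ Subgroup.normalizer (L : Set K₀) := by
    rw [Subgroup.mem_normalizer_iff]
    intro y
    show ψ y ∈ Qb ↔ ψ (n * y * n⁻¹) ∈ Qb
    rw [map_mul, map_mul, map_inv]
    exact Subgroup.mem_normalizer_iff.mp hx (ψ y)
  obtain ⟨k, hk, hkn⟩ := Cfsg.Agent.Lib.H73Hom.exists_mul_mem_normalizer_sylow L hn S
  have hkQ : ψ k ∈ Qb := hk
  obtain ⟨s, hs, hsk⟩ := hsurj _ (Qb.inv_mem hkQ)
  have hmN : s * (k * n) ∈ Subgroup.normalizer (Q₀ : Set K₀) :=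
    Subgroup.mul_mem _ (Subgroup.le_normalizer hs) hkn
  have hmψ : ψ (s * (k * n)) = ψ n := by
    rw [map_mul, map_mul, hsk]; group
  refine ⟨⟨⟨s * (k * n), hmN⟩, ?_⟩, ?_⟩
  · show ψ (s * (k * n)) ∈ Subgroup.normalizer (Qb : Set X')
    rw [hmψ]; exact hx
  · apply Subtype.ext
    exact hmψ

/-- An injective hom gives a section. -/
theorem involves_of_injective {A B : Type*} [Group A] [Group B] (ι : A →* B) (hι : Function.Injective ι) :
    Involves A B :=
  involves_of_surj ι.range (MonoidHom.ofInjective hι).symm.toMonoidHom (MonoidHom.ofInjective hι).symm.surjective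

/-- The normalizer in `K` into the normalizer in `G`. -/
theorem involves_normalizer_subgroup {G : Type*} [Group G] (K : Subgroup G) (Q₀ : Subgroup K) :
    Involves ↥(Subgroup.normalizer (Q₀ : Set K))
      ↥(Subgroup.normalizer ((Q₀.map K.subtype : Subgroup G) : Set G)) := by
  refine involves_of_injective
    ((K.subtype.comp (Subgroup.normalizer (Q₀ : Set K)).subtype).codRestrict _ ?_) ?_
  · rintro ⟨⟨x, hxK⟩, hx⟩
    show x ∈ Subgroup.normalizer ((Q₀.map K.subtype : Subgroup G) : Set G)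
    rw [Subgroup.mem_normalizer_iff]
    intro y
    constructor
    · rintro ⟨y', hy', rfl⟩
      refine ⟨_, (Subgroup.mem_normalizer_iff.mp hx y').mp hy', ?_⟩
      simp
    · rintro ⟨y', hy', hy⟩
      have hyK : y ∈ K := by
        have h1 : (y : G) = x⁻¹ * (y' : G) * x := by
          have h2 : x * y * x⁻¹ = y' := hy.symm
          rw [← h2]; group
        rw [h1]
        exact K.mul_mem (K.mul_mem (K.inv_mem hxK) y'.2) hxK
      refine ⟨⟨y, hyK⟩, (Subgroup.mem_normalizer_iff.mp hx ⟨y, hyK⟩).mpr ?_, rfl⟩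
      have e : (⟨x, hxK⟩ : K) * ⟨y, hyK⟩ * (⟨x, hxK⟩ : K)⁻¹ = y' := Subtype.ext hy.symm
      rw [e]
      exact hy'
  · intro a b h
    have h1 := congrArg Subtype.val h
    exact Subtype.ext (Subtype.ext h1)

theorem involves_of_quot {G : Type*} [Group G] (N : Subgroup G) [N.Normal] : Involves (G ⧸ N) G :=
  involves_of_surj ⊤ ((QuotientGroup.mk' N).comp (⊤ : Subgroup G).subtype) (by
    intro y
    obtain ⟨x, rfl⟩ := QuotientGroup.mk_surjective y
    exact ⟨⟨x, trivial⟩, rfl⟩)

theorem involves_of_subgroup {G : Type*} [Group G] (N : Subgroup G) : Involves ↥N G :=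
  involves_of_injective N.subtype N.subtype_injective

end normalizer

end Cfsg.Agent.Lib.QuadP
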