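import Mathlib
import Cfsg.Agent.Lib.ControlSec
import Cfsg.Agent.Lib.QuadP

/-!
# Groups in which no `N(Q)/C(Q)` involves `SL₂(p)`.

Theorem P in the automizer form, and this class is closed under sections.
-/

set_option autoImplicit false
set_option linter.unusedSectionVars false
set_option linter.style.haveILetI false

open scoped commutatorElement

namespace Cfsg.Agent.Lib.NCFree

open Cfsg Cfsg.Agent.Lib.QuadSection Cfsg.Agent.Lib.QuadP Cfsg.Agent.Lib.InvolvesAPI Cfsg.Agent.Lib.PCore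

universe u

variable {p : ℕ} [hp : Fact p.Prime]

/-- A group acting faithfully on a `p`-group: a quadratic element is in `O_p`, or `SL₂(p)` is involved. -/
theorem mem_pCore_or_involves (hp2 : p ≠ 2) {Γ Q : Type*} [Group Γ] [Finite Γ] [Group Q] [Finite Q] (hQ : IsPGroup p Q)
    (τ : Γ →* MulAut Q) (hτ : Function.Injective τ) {a : Γ} (ha : ∀ x, τ a (τ a x * x⁻¹) = τ a x * x⁻¹) :
    a ∈ pCore p Γ ∨ Involves (SLp p) Γ := by
  classical
  -- the powers of a quadratic automorphism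
  have hq : ∀ {b : Γ}, (∀ x, τ b (τ b x * x⁻¹) = τ b x * x⁻¹) → ∃ k : ℕ, b ^ p ^ k = 1 := by
    intro b hb
    obtain ⟨k, hk⟩ := IsPGroup.iff_card.mp hQ
    refine ⟨k, hτ ?_⟩
    rw [map_pow, map_one]
    ext x
    have key : ∀ n : ℕ, ((τ b) ^ n) x = (τ b x * x⁻¹) ^ n * x := by
      intro n
      induction n with
      | zero => simp
      | succ n ih =>
        have h1 : ((τ b) ^ (n + 1)) x = τ b (((τ b) ^ n) x) := by
          rw [pow_succ']
          rfl
        rw [h1, ih, map_mul, map_pow, hb x, pow_succ]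
        group
    rw [key, ← hk, pow_card_eq_one', one_mul]
    rfl
  obtain ⟨k, hk⟩ := hq ha
  let X : Subgroup Γ := Subgroup.zpowers a
  have hXp : IsPGroup p X := by
    rintro ⟨_, n, rfl⟩
    refine ⟨k, Subtype.ext ?_⟩
    show (a ^ n) ^ p ^ k = 1
    rw [← zpow_natCast, ← zpow_mul, mul_comm, zpow_mul, zpow_natCast, hk, one_zpow]
  by_cases hall : ∀ g : Γ, IsPGroup p ↥(X ⊔ X.map (MulAut.conj g).toMonoidHom)
  · left
    obtain ⟨N, hNn, hNp, hXN⟩ := Cfsg.Agent.Lib.BaerSuzuki.baer_suzuki X hXp hall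
    exact le_pCore hNn hNp (hXN (Subgroup.mem_zpowers _))
  right
  push Not at hall
  obtain ⟨g, hg⟩ := hall
  set b := g * a * g⁻¹ with hb
  set Γ₀ := Subgroup.closure ({a, b} : Set Γ) with hΓ₀
  have hXle : X ⊔ X.map (MulAut.conj g).toMonoidHom ≤ Γ₀ := by
    apply sup_le
    · rw [Subgroup.zpowers_le]
      exact Subgroup.subset_closure (by simp)
    · rw [Subgroup.map_le_iff_le_comap, Subgroup.zpowers_le]
      show g * a * g⁻¹ ∈ Γ₀
      exact Subgroup.subset_closure (by simp [hb])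
  have hnp : ∃ y ∈ X ⊔ X.map (MulAut.conj g).toMonoidHom, ∀ m : ℕ, y ^ p ^ m ≠ 1 := by
    by_contra hcon
    push Not at hcon
    apply hg
    intro y
    obtain ⟨m, hm⟩ := hcon y y.2
    exact ⟨m, Subtype.ext hm⟩
  obtain ⟨y, hy, hym⟩ := hnp
  have hhb : ∀ x, τ b (τ b x * x⁻¹) = τ b x * x⁻¹ := by
    intro x
    have e : ∀ z, τ b z = τ g (τ a ((τ g)⁻¹ z)) := by
      intro z
      rw [hb, map_mul, map_mul, map_inv]
      rfl
    have h1 := ha ((τ g)⁻¹ x)
    have h2 := congrArg (τ g) h1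
    simp only [map_mul, map_inv, MulAut.apply_inv_self] at h2
    simp only [e, map_mul, map_inv, MulAut.inv_apply_self]
    exact h2
  let τ₀ : Γ₀ →* MulAut Q := τ.comp Γ₀.subtype
  have hcomm := frattini_quot_comm hQ
  obtain ⟨E, instE, π, hπ, hker⟩ : ∃ (E : Type _) (_ : CommGroup E) (π : Q →* E),
      Function.Surjective π ∧ ∀ x, π x = 1 ↔ x ∈ frattini Q :=
    ⟨Q ⧸ frattini Q, { (inferInstance : Group (Q ⧸ frattini Q)) with mul_comm := hcomm },
      QuotientGroup.mk' (frattini Q), QuotientGroup.mk'_surjective _,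
      fun x => QuotientGroup.eq_one_iff x⟩
  have hEfin : Finite E := Finite.of_surjective π hπ
  have hchar : ∀ (σ : MulAut Q) (x : Q), x ∈ frattini Q → σ x ∈ frattini Q := by
    intro σ x hx
    have h2 : σ x ∈ (frattini Q).comap σ.symm.toMonoidHom := by
      show σ.symm (σ x) ∈ frattini Q
      simpa using hx
    rwa [(inferInstance : (frattini Q).Characteristic).fixed σ.symm] at h2
  obtain ⟨ρ, hρ⟩ := exists_induced π hπ τ₀ (fun g x hx => (hker _).mpr (hchar _ _ ((hker x).mp hx)))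
  have hW : ∀ w : Additive E, p • w = 0 := by
    intro w
    obtain ⟨x, hx⟩ := hπ (Additive.toMul w)
    have hw : w = Additive.ofMul (π x) := by rw [hx]; rfl
    rw [hw, ← ofMul_pow, ← map_pow, (hker _).mpr (Cfsg.Agent.Lib.Frat.pow_mem_frattini hQ x)]
    rfl
  have hWfin : Finite (Additive E) := hEfin
  let a' : Γ₀ := ⟨a, Subgroup.subset_closure (by simp)⟩
  let b' : Γ₀ := ⟨b, Subgroup.subset_closure (by simp)⟩
  have hgen : Subgroup.closure ({a', b'} : Set Γ₀) = ⊤ := by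
    have h1 := Subgroup.closure_closure_coe_preimage (k := ({a, b} : Set Γ))
    convert h1 using 2
    ext x
    constructor
    · rintro (rfl | hx)
      · simp [a']
      · rw [Set.mem_singleton_iff.mp hx]; simp [b']
    · rintro (hx | hx)
      · left; exact Subtype.ext hx
      · right; exact Subtype.ext hx
  have hX := quad_of_fix π hπ (ρ a') (τ₀ a') (fun x => hρ a' x) ha
  have hY := quad_of_fix π hπ (ρ b') (τ₀ b') (fun x => hρ b' x) hhb
  let h' : Γ₀ := ⟨y, hXle hy⟩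
  have hh' : ∀ m : ℕ, ρ h' ^ p ^ m ≠ 1 := by
    intro m hm
    have h1 : ∀ x, τ₀ (h' ^ p ^ m) x * x⁻¹ ∈ frattini Q := by
      intro x
      have h2 : ρ (h' ^ p ^ m) (Additive.ofMul (π x)) = Additive.ofMul (π x) := by
        rw [map_pow, hm]; rfl
      rw [hρ] at h2
      have h3 : π (τ₀ (h' ^ p ^ m) x) = π x := h2
      apply (hker _).mp
      rw [map_mul, map_inv, h3, mul_inv_cancel]
    obtain ⟨m', hm'⟩ := exists_pow_eq_one_of_frattini hQ (τ₀ (h' ^ p ^ m)) h1
    apply hym (m + m')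
    apply hτ
    rw [map_one, pow_add, pow_mul]
    have h4 : τ ((y ^ p ^ m) ^ p ^ m') = (τ₀ (h' ^ p ^ m)) ^ p ^ m' := by
      rw [map_pow]
      rfl
    rw [h4, hm']
  obtain ⟨K, f, hf⟩ := exists_section (dicksonProp hp2) hW ρ hgen hX hY h' hh'
  exact Involves.trans (involves_of_surj K f hf) (involves_of_subgroup Γ₀)

/-- The automizer `N(Q)/C(Q)`. -/
abbrev NC {X : Type*} [Group X] (Q : Subgroup X) :=
  ↥(Subgroup.normalizer (Q : Set X)) ⧸ (Subgroup.centralizer (Q : Set X)).subgroupOf (Subgroup.normalizer (Q : Set X))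

/-- `N(Q)/C(Q)` acts on `Q`. -/
noncomputable def ncAct {X : Type*} [Group X] (Q : Subgroup X) : NC Q →* MulAut Q :=
  QuotientGroup.lift _ (conjHom Q _ le_rfl) (by
    intro c hc
    ext v
    have h1 := Subgroup.mem_centralizer_iff.mp (Subgroup.mem_subgroupOf.mp hc) v v.2
    show (c : X) * v * (c : X)⁻¹ = v
    rw [← h1]
    group)

theorem ncAct_mk {X : Type*} [Group X] (Q : Subgroup X) (n : ↥(Subgroup.normalizer (Q : Set X))) (v : Q) :
    ((ncAct Q (QuotientGroup.mk n) v : Q) : X) = (n : X) * v * (n : X)⁻¹ := rfl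

theorem ncAct_injective {X : Type*} [Group X] (Q : Subgroup X) : Function.Injective (ncAct Q) := by
  rw [injective_iff_map_eq_one]
  intro a ha
  obtain ⟨n, rfl⟩ := QuotientGroup.mk_surjective a
  rw [QuotientGroup.eq_one_iff, Subgroup.mem_subgroupOf, Subgroup.mem_centralizer_iff]
  intro v hv
  have h1 := congrArg (fun σ : MulAut Q => ((σ ⟨v, hv⟩ : Q) : X)) ha
  have h2 : (n : X) * v * (n : X)⁻¹ = v := h1
  calc v * (n : X) = ((n : X) * v * (n : X)⁻¹) * n := by rw [h2]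
    _ = n * v := by group

/-- The class: no automizer of a `p`-subgroup involves `SL₂(p)`. -/
def NCF (p : ℕ) (X : Type u) [Group X] : Prop :=
  ∀ Q : Subgroup X, IsPGroup p Q → ¬ Involves (SLp p) (NC Q)

/-- **Theorem P** in automizer form. -/
theorem stable_of_NCF (hp2 : p ≠ 2) {X : Type u} [Group X] [Finite X] (h : NCF p X) : IsNormalizerPStable p X := by
  intro Q hQ g hg hq
  have hfix : ∀ x : Q, ncAct Q (QuotientGroup.mk ⟨g, hg⟩) (ncAct Q (QuotientGroup.mk ⟨g, hg⟩) x * x⁻¹) =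
      ncAct Q (QuotientGroup.mk ⟨g, hg⟩) x * x⁻¹ := by
    intro x
    apply Subtype.ext
    have h1 := quad_of_comm hq x x.2
    rw [commutatorElement_eq_one_iff_mul_comm] at h1
    set y : X := (x : X) with hy
    have e1 : (((ncAct Q (QuotientGroup.mk ⟨g, hg⟩) (ncAct Q (QuotientGroup.mk ⟨g, hg⟩) x * x⁻¹)) : Q) : X) =
        g * (g * y * g⁻¹ * y⁻¹) * g⁻¹ := rfl
    have e2 : (((ncAct Q (QuotientGroup.mk ⟨g, hg⟩) x * x⁻¹ : Q)) : X) = g * y * g⁻¹ * y⁻¹ := rfl
    rw [e1, e2]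
    have e3 : ⁅y, g⁆ = (g * y * g⁻¹ * y⁻¹)⁻¹ ^ 1 := by
      rw [commutatorElement_def]; group
    rw [e3, pow_one] at h1
    have h2 : g * (g * y * g⁻¹ * y⁻¹) = (g * y * g⁻¹ * y⁻¹) * g := by
      calc g * (g * y * g⁻¹ * y⁻¹) = (g * y * g⁻¹ * y⁻¹) * (g * y * g⁻¹ * y⁻¹)⁻¹ * g * (g * y * g⁻¹ * y⁻¹) := by
            group
        _ = (g * y * g⁻¹ * y⁻¹) * ((g * y * g⁻¹ * y⁻¹)⁻¹ * g) * (g * y * g⁻¹ * y⁻¹) := by group
        _ = (g * y * g⁻¹ * y⁻¹) * (g * (g * y * g⁻¹ * y⁻¹)⁻¹) * (g * y * g⁻¹ * y⁻¹) := by rw [h1]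
        _ = _ := by group
    rw [h2]
    group
  rcases mem_pCore_or_involves hp2 hQ (ncAct Q) (ncAct_injective Q) hfix with h1 | h1
  · exact h1
  · exact absurd h1 (h Q hQ)

/-- An injective map on quotients. -/
theorem involves_quot_of_inj {A B : Type*} [Group A] [Group B] (ψ : A →* B) (A₀ : Subgroup A) (B₀ : Subgroup B) [A₀.Normal]
    [B₀.Normal] (h : A₀ ≤ B₀.comap ψ) (hi : ∀ a, ψ a ∈ B₀ → a ∈ A₀) : Involves (A ⧸ A₀) (B ⧸ B₀) := by
  refine involves_of_injective (QuotientGroup.map A₀ B₀ ψ h) ?_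
  rw [injective_iff_map_eq_one]
  intro a ha
  obtain ⟨a, rfl⟩ := QuotientGroup.mk_surjective a
  rw [QuotientGroup.map_mk, QuotientGroup.eq_one_iff] at ha
  exact (QuotientGroup.eq_one_iff a).mpr (hi a ha)

/-- A surjective map on quotients. -/
theorem involves_quot_of_surj {A B : Type*} [Group A] [Group B] (ψ : A →* B) (hψ : Function.Surjective ψ) (A₀ : Subgroup A)
    (B₀ : Subgroup B) [A₀.Normal] [B₀.Normal] (h : A₀ ≤ B₀.comap ψ) : Involves (B ⧸ B₀) (A ⧸ A₀) := by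
  refine involves_of_surj_top (QuotientGroup.map A₀ B₀ ψ h) ?_
  intro b
  obtain ⟨b, rfl⟩ := QuotientGroup.mk_surjective b
  obtain ⟨a, rfl⟩ := hψ b
  exact ⟨(a : A ⧸ A₀), rfl⟩

theorem NCF_sub {X : Type u} [Group X] (h : NCF p X) (K : Subgroup X) : NCF p ↥K := by
  intro Q hQ hi
  let Q' : Subgroup X := Q.map K.subtype
  refine h Q' (hQ.map _) (Involves.trans hi ?_)
  have hmem : ∀ n : ↥(Subgroup.normalizer (Q : Set K)), ((n : K) : X) ∈ Subgroup.normalizer (Q' : Set X) := by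
    rintro ⟨⟨x, hxK⟩, hx⟩
    show x ∈ Subgroup.normalizer (Q' : Set X)
    rw [Subgroup.mem_normalizer_iff]
    intro y
    constructor
    · rintro ⟨y', hy', rfl⟩
      refine ⟨_, (Subgroup.mem_normalizer_iff.mp hx y').mp hy', ?_⟩
      simp
    · rintro ⟨y', hy', hy⟩
      have hyK : y ∈ K := by
        have h1 : (y : X) = x⁻¹ * (y' : X) * x := by
          have h2 : x * y * x⁻¹ = y' := hy.symm
          rw [← h2]; group
        rw [h1]
        exact K.mul_mem (K.mul_mem (K.inv_mem hxK) y'.2) hxK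
      refine ⟨⟨y, hyK⟩, (Subgroup.mem_normalizer_iff.mp hx ⟨y, hyK⟩).mpr ?_, rfl⟩
      have e : (⟨x, hxK⟩ : K) * ⟨y, hyK⟩ * (⟨x, hxK⟩ : K)⁻¹ = y' := Subtype.ext hy.symm
      rw [e]
      exact hy'
  let ψ : ↥(Subgroup.normalizer (Q : Set K)) →* ↥(Subgroup.normalizer (Q' : Set X)) :=
    (K.subtype.comp (Subgroup.normalizer (Q : Set K)).subtype).codRestrict _ hmem
  refine involves_quot_of_inj ψ _ _ ?_ ?_
  · intro c hc
    show (ψ c : X) ∈ Subgroup.centralizer (Q' : Set X)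
    rw [Subgroup.mem_centralizer_iff]
    rintro _ ⟨q, hq, rfl⟩
    have h1 := Subgroup.mem_centralizer_iff.mp (Subgroup.mem_subgroupOf.mp hc) q hq
    exact congrArg Subtype.val h1
  · intro c hc
    rw [Subgroup.mem_subgroupOf, Subgroup.mem_centralizer_iff]
    intro q hq
    have h1 := Subgroup.mem_centralizer_iff.mp (Subgroup.mem_subgroupOf.mp hc) (q : X) ⟨q, hq, rfl⟩
    exact Subtype.ext h1

theorem NCF_quot {X : Type u} [Group X] [Finite X] (h : NCF p X) (M : Subgroup X) [M.Normal] : NCF p (X ⧸ M) := by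
  classical
  intro Qb hQ hi
  let ψ : X →* X ⧸ M := QuotientGroup.mk' M
  have hψ : Function.Surjective ψ := QuotientGroup.mk'_surjective M
  let L : Subgroup X := Qb.comap ψ
  obtain ⟨S⟩ : Nonempty (Sylow p L) := inferInstance
  let Q₀ : Subgroup X := (S : Subgroup L).map L.subtype
  have hQ₀ : IsPGroup p Q₀ := S.isPGroup'.map _
  have hφ : Function.Surjective (ψ.subgroupComap Qb) := ψ.subgroupComap_surjective_of_surjective Qb hψ
  let S' := S.mapSurjective hφ
  have hS' : (S' : Subgroup Qb) = ⊤ := by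
    have h1 : IsPGroup p ↥(⊤ : Subgroup Qb) := hQ.of_equiv (Subgroup.topEquiv).symm
    exact (S'.is_maximal' h1 le_top).symm
  have hsurj : ∀ q ∈ Qb, ∃ s ∈ Q₀, ψ s = q := by
    intro q hq
    have h1 : (⟨q, hq⟩ : Qb) ∈ (S' : Subgroup Qb) := by rw [hS']; trivial
    obtain ⟨s, hs, hsq⟩ := h1
    refine ⟨s, ⟨s, hs, rfl⟩, ?_⟩
    exact congrArg Subtype.val hsq
  have hQ₀b : ∀ s ∈ Q₀, ψ s ∈ Qb := by
    rintro _ ⟨s, _, rfl⟩
    exact s.2
  refine h Q₀ hQ₀ (Involves.trans hi ?_)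
  have hmem : ∀ n : ↥(Subgroup.normalizer (Q₀ : Set X)), ψ (n : X) ∈ Subgroup.normalizer (Qb : Set (X ⧸ M)) := by
    intro n
    apply Cfsg.Agent.Lib.AlperinControl.mem_NN_of_forall
    intro q hq
    obtain ⟨s, hs, rfl⟩ := hsurj q hq
    rw [← map_inv, ← map_mul, ← map_mul]
    exact hQ₀b _ ((Subgroup.mem_normalizer_iff.mp n.2 s).mp hs)
  let f : ↥(Subgroup.normalizer (Q₀ : Set X)) →* ↥(Subgroup.normalizer (Qb : Set (X ⧸ M))) :=
    (ψ.comp (Subgroup.normalizer (Q₀ : Set X)).subtype).codRestrict _ hmem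
  have hf : Function.Surjective f := by
    rintro ⟨x, hx⟩
    obtain ⟨n, rfl⟩ := hψ x
    have hn : n ∈ Subgroup.normalizer (L : Set X) := by
      rw [Subgroup.mem_normalizer_iff]
      intro y
      show ψ y ∈ Qb ↔ ψ (n * y * n⁻¹) ∈ Qb
      rw [map_mul, map_mul, map_inv]
      exact Subgroup.mem_normalizer_iff.mp hx (ψ y)
    obtain ⟨k, hk, hkn⟩ := Cfsg.Agent.Lib.H73Hom.exists_mul_mem_normalizer_sylow L hn S
    have hkQ : ψ k ∈ Qb := hk
    obtain ⟨s, hs, hsk⟩ := hsurj _ (Qb.inv_mem hkQ)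
    have hmN : s * (k * n) ∈ Subgroup.normalizer (Q₀ : Set X) :=
      Subgroup.mul_mem _ (Subgroup.le_normalizer hs) hkn
    have hmψ : ψ (s * (k * n)) = ψ n := by
      rw [map_mul, map_mul, hsk]; group
    refine ⟨⟨s * (k * n), hmN⟩, ?_⟩
    apply Subtype.ext
    exact hmψ
  refine involves_quot_of_surj f hf _ _ ?_
  intro c hc
  show ψ (c : X) ∈ Subgroup.centralizer (Qb : Set (X ⧸ M))
  rw [Subgroup.mem_centralizer_iff]
  intro q hq
  obtain ⟨s, hs, rfl⟩ := hsurj q hq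
  have h1 := Subgroup.mem_centralizer_iff.mp (Subgroup.mem_subgroupOf.mp hc) s hs
  rw [← map_mul, ← map_mul, h1]

/-- The section-closed class. -/
theorem secClass (hp2 : p ≠ 2) :
    Cfsg.Agent.Lib.ControlSec.SecClass.{u} p (fun (X : Type u) [Group X] => Finite X ∧ NCF p X) where
  sub := fun h K => ⟨by haveI := h.1; infer_instance, NCF_sub h.2 K⟩
  quot := fun h N _ => by
    haveI := h.1
    exact ⟨inferInstance, NCF_quot h.2 N⟩
  st := fun h => stable_of_NCF hp2 h.2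

end Cfsg.Agent.Lib.NCFree
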