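import Mathlib
import Cfsg.Agent.Lib.NCFree

/-!
# Fusion in groups whose automizers do not involve `SL₂(p)`: the smallest centric radical subgroup.
-/

set_option autoImplicit false
set_option linter.unusedSectionVars false
set_option linter.style.haveILetI false

open scoped commutatorElement

namespace Cfsg.Agent.Lib.CRFusion

open Cfsg Cfsg.Agent.Lib.ControlSec Cfsg.Agent.Lib.AlperinControl Cfsg.Agent.Lib.ZJControl Cfsg.Agent.Lib.NCFree
open Cfsg.Agent.Lib.PCore Cfsg.Agent.Lib.PPrimeP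

universe u

section General

variable {G : Type*} [Group G] [Finite G] {p : ℕ} [hp : Fact p.Prime]

theorem WW_cj (e : ℕ) (g : G) (T : Subgroup G) : WW e (cj g T) = cj g (WW e T) :=
  (map_WW e (MulAut.conj g).toMonoidHom (fun _ _ _ _ h => (MulAut.conj g).injective h)).symm

theorem mem_NN_WW (e : ℕ) {T : Subgroup G} {g : G} (hg : g ∈ NN T) : g ∈ NN (WW e T) := by
  apply mem_NN_of_forall
  intro x hx
  have h1 := WW_cj e g T
  rw [cj_eq_of_mem_NN hg] at h1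
  rw [h1]
  exact conj_mem_cj hx

/-- A Sylow subgroup from the conjugation property. -/
noncomputable def sylowOf {T : Subgroup G} (h : IsSyl p T ⊤) : Sylow p G where
  toSubgroup := T
  isPGroup' := h.pgrp
  is_maximal' := by
    intro U hU hTU
    exact h.eq_of_le le_top hU hTU

/-- Lifting control across a normal `p`-subgroup on which the group acts as a `p`-group. -/
theorem lift_control {H H₂ T V₀ : Subgroup G} [hVn : (V₀.subgroupOf H).Normal] (hH₂ : H₂ ≤ H) (hT : IsSyl p T H₂)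
    (hV₀p : IsPGroup p V₀) (hV₀T : V₀ ≤ T)
    (hL₂ : H₂ ≤ T ⊔ (H₂ ⊓ Subgroup.centralizer (V₀ : Set G)))
    (X₀ : Subgroup (QQ H V₀)) (hTX : img H V₀ T ≤ X₀)
    (hctl : ∀ Qt ≤ img H V₀ T, ∀ ht ∈ img H V₀ H₂, cj ht Qt ≤ img H V₀ T → Agrees (img H V₀ H₂ ⊓ X₀) Qt ht) :
    ∀ Q ≤ T, ∀ h ∈ H₂, cj h Q ≤ T → Agrees (H₂ ⊓ pre X₀) Q h := by
  classical
  apply alperin_control hT
  intro Q hQ htm IH g hg
  set X := H₂ ⊓ pre X₀ with hX
  have hTH₂ : T ≤ H₂ := hT.le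
  have hQH₂ : Q ≤ H₂ := hQ.trans hTH₂
  have hQH : Q ≤ H := hQH₂.trans hH₂
  have hH₂V : H₂ ≤ NN V₀ := by
    intro x hx
    apply mem_NN_of_forall
    intro v hv
    have hvH : v ∈ H := hH₂ (hTH₂ (hV₀T hv))
    exact hVn.conj_mem ⟨v, hvH⟩ hv ⟨x, hH₂ hx⟩
  by_cases hVQ : V₀ ≤ Q
  swap
  · have hlt : Q < Q ⊔ V₀ := lt_of_le_not_ge le_sup_left fun h => hVQ (le_sup_right.trans h)
    have hcard : Nat.card Q < Nat.card ↥(Q ⊔ V₀) := by
      refine lt_of_le_of_ne (Subgroup.card_le_of_le hlt.le) fun he' => ?_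
      exact hlt.ne (Subgroup.eq_of_le_of_card_ge hlt.le he'.ge)
    have hgN : g ∈ NN (Q ⊔ V₀) := mem_NN_sup hg.2 (hH₂V hg.1)
    have hle : Q ⊔ V₀ ≤ T := sup_le hQ hV₀T
    exact Agrees.mono (IH _ hle hcard g hg.1 (by rw [cj_eq_of_mem_NN hgN]; exact hle)) le_sup_left
  have hTX' : T ≤ X := by
    intro t ht
    exact ⟨hTH₂ ht, mem_pre_of (y := ⟨t, hH₂ (hTH₂ ht)⟩) (hTX (mem_img_of ht))⟩
  set Qq := img H V₀ Q with hQq
  set Tq := img H V₀ T with hTq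
  have hQqT : Qq ≤ Tq := by
    rintro _ ⟨a, ha, rfl⟩
    exact mem_img_of (hQ ha)
  set g₀ : ↥H := ⟨g, hH₂ hg.1⟩ with hg₀
  have hg₀Q : pp H V₀ g₀ ∈ NN Qq := by
    apply mem_NN_of_forall
    rintro _ ⟨a₀, ha₀, rfl⟩
    refine ⟨g₀ * a₀ * g₀⁻¹, ?_, by simp [map_mul, map_inv]⟩
    exact conj_mem_of_mem_NN hg.2 ha₀
  obtain ⟨xq, hxq, hxa⟩ := hctl Qq hQqT (pp H V₀ g₀) (mem_img_of hg.1) (by rw [cj_eq_of_mem_NN hg₀Q]; exact hQqT)
  obtain ⟨y, hyH₂, hyx⟩ := hxq.1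
  have hyH₂' : (y : G) ∈ H₂ := hyH₂
  have hyx' : pp H V₀ y = xq := hyx
  subst hyx'
  have hyX : (y : G) ∈ X := ⟨hyH₂', mem_pre_of hxq.2⟩
  have hyQ : (y : G) ∈ NN Q := by
    apply mem_NN_of_forall
    intro a ha
    have haH := hQH ha
    have h1 : pp H V₀ ⟨a, haH⟩ ∈ Qq := mem_img_of ha
    have h2 := hxa _ h1
    have h3 : pp H V₀ g₀ * pp H V₀ ⟨a, haH⟩ * (pp H V₀ g₀)⁻¹ ∈ Qq := conj_mem_of_mem_NN hg₀Q h1
    rw [← h2, ← map_inv, ← map_mul, ← map_mul] at h3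
    exact mem_of_mem_img hVQ h3
  -- the subgroup of elements acting on `Q` trivially modulo `V₀`
  set N := H₂ ⊓ NN Q with hN
  set K₁ := N ⊓ pre (Subgroup.centralizer (Qq : Set (QQ H V₀))) with hK₁
  have hNK₁ : N ≤ NN K₁ := by
    intro n hn
    apply mem_NN_of_forall
    intro c hc
    refine ⟨N.mul_mem (N.mul_mem hn hc.1) (N.inv_mem hn), ?_⟩
    have hcH : c ∈ H := hH₂ hc.1.1
    have hnH : n ∈ H := hH₂ hn.1
    have e : n * c * n⁻¹ = ((⟨n, hnH⟩ * ⟨c, hcH⟩ * (⟨n, hnH⟩ : ↥H)⁻¹ : ↥H) : G) := rfl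
    rw [e]
    apply mem_pre_of
    rw [map_mul, map_mul, map_inv]
    have h1 : pp H V₀ ⟨c, hcH⟩ ∈ Subgroup.centralizer (Qq : Set (QQ H V₀)) := mem_of_mem_pre hc.2
    have h2 : pp H V₀ ⟨n, hnH⟩ ∈ NN Qq := by
      apply mem_NN_of_forall
      rintro _ ⟨a₀, ha₀, rfl⟩
      refine ⟨⟨n, hnH⟩ * a₀ * (⟨n, hnH⟩ : ↥H)⁻¹, ?_, by simp [map_mul, map_inv]⟩
      exact conj_mem_of_mem_NN hn.2 ha₀
    exact conj_mem_of_mem_NN (mem_NN_centralizer h2) h1
  -- action of `K₁` on `Q` has `p`-power order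
  have hact : ∀ f ∈ K₁, ∃ b : ℕ, f ^ p ^ b ∈ Subgroup.centralizer (Q : Set G) := by
    intro f hf
    have hTN : T ≤ NN (H₂ ⊓ Subgroup.centralizer (V₀ : Set G)) := by
      intro t ht
      apply mem_NN_of_forall
      intro c hc
      exact ⟨H₂.mul_mem (H₂.mul_mem (hTH₂ ht) hc.1) (H₂.inv_mem (hTH₂ ht)),
        conj_mem_of_mem_NN (mem_NN_centralizer (hH₂V (hTH₂ ht))) hc.2⟩
    obtain ⟨b, hb⟩ := pow_mem_of_sup hT.pgrp hTN hL₂ hf.1.1
    set f₁ := f ^ p ^ b with hf₁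
    have hf₁K : f₁ ∈ K₁ := Subgroup.pow_mem _ hf _
    obtain ⟨k, hk⟩ := IsPGroup.iff_card.mp hV₀p
    refine ⟨b + k, ?_⟩
    rw [pow_add p b k, pow_mul, Subgroup.mem_centralizer_iff]
    intro a ha
    have haH := hQH ha
    have hf₁H : f₁ ∈ H := hH₂ hf₁K.1.1
    have h1 : pp H V₀ ⟨f₁, hf₁H⟩ ∈ Subgroup.centralizer (Qq : Set (QQ H V₀)) := mem_of_mem_pre hf₁K.2
    have h2 : pp H V₀ ⟨a, haH⟩ ∈ Qq := mem_img_of ha
    have h3 := Subgroup.mem_centralizer_iff.mp h1 _ h2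
    rw [← map_mul, ← map_mul] at h3
    have h4 := pp_eq_iff.mp h3
    have h5 : (a * f₁)⁻¹ * (f₁ * a) ∈ V₀ := h4
    set u := (a * f₁)⁻¹ * (f₁ * a) with hu
    have h6 : f₁ * a = a * u * f₁ := by
      have h7 : u * f₁ = f₁ * u := Subgroup.mem_centralizer_iff.mp hb.2 u h5
      rw [mul_assoc, h7, ← mul_assoc, hu]
      group
    have h7 : f₁ * u = u * f₁ := (Subgroup.mem_centralizer_iff.mp hb.2 u h5).symm
    have h8 := pow_conj_of_comm h6 h7 (p ^ k)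
    have h9 : u ^ p ^ k = 1 := by
      rw [← hk]
      have := pow_card_eq_one' (x := (⟨u, h5⟩ : V₀))
      exact congrArg Subtype.val this
    rw [h9, mul_one] at h8
    exact h8.symm
  have hRX : T ⊓ NN Q ≤ X := inf_le_left.trans hTX'
  have hQR : Q ≤ T ⊓ NN Q := le_inf hQ Subgroup.le_normalizer
  have IH' : ∀ Q₁, Q < Q₁ → Q₁ ≤ T ⊓ NN Q → ∀ n ∈ N ⊓ NN Q₁, Agrees X Q₁ n := by
    intro Q₁ hlt hQ₁ n hn
    have hcard : Nat.card Q < Nat.card Q₁ := by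
      refine lt_of_le_of_ne (Subgroup.card_le_of_le hlt.le) fun he' => ?_
      exact hlt.ne (Subgroup.eq_of_le_of_card_ge hlt.le he'.ge)
    exact IH Q₁ (hQ₁.trans inf_le_left) hcard n hn.1.1 (by rw [cj_eq_of_mem_NN hn.2]; exact hQ₁.trans inf_le_left)
  rcases radical_step htm hQR inf_le_right inf_le_left hNK₁ hact hRX IH' with h | h
  · exact h g hg
  · have hf : (y : G)⁻¹ * g ∈ K₁ := by
      refine ⟨N.mul_mem (N.inv_mem ⟨hyH₂', hyQ⟩) hg, ?_⟩
      have e : (y : G)⁻¹ * g = ((y⁻¹ * g₀ : ↥H) : G) := rfl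
      rw [e]
      apply mem_pre_of
      rw [Subgroup.mem_centralizer_iff]
      rintro _ ⟨a₀, ha₀, rfl⟩
      have h3 := hxa _ (mem_img_of (y := a₀) ha₀)
      rw [map_mul, map_inv]
      have h5 : pp H V₀ g₀ * pp H V₀ a₀ = pp H V₀ y * pp H V₀ a₀ * (pp H V₀ y)⁻¹ * pp H V₀ g₀ := by
        rw [h3]; group
      calc pp H V₀ a₀ * ((pp H V₀ y)⁻¹ * pp H V₀ g₀)
          = (pp H V₀ y)⁻¹ * (pp H V₀ y * pp H V₀ a₀ * (pp H V₀ y)⁻¹ * pp H V₀ g₀) := by group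
        _ = (pp H V₀ y)⁻¹ * (pp H V₀ g₀ * pp H V₀ a₀) := by rw [h5]
        _ = (pp H V₀ y)⁻¹ * pp H V₀ g₀ * pp H V₀ a₀ := by group
    obtain ⟨q, hq, hqa⟩ := h _ hf
    refine ⟨y * q, X.mul_mem hyX (hTX' (hQ hq)), ?_⟩
    intro a ha
    calc (y : G) * q * a * (y * q)⁻¹ = y * (q * a * q⁻¹) * (y : G)⁻¹ := by group
      _ = y * ((y : G)⁻¹ * g * a * ((y : G)⁻¹ * g)⁻¹) * (y : G)⁻¹ := by rw [hqa a ha]
      _ = g * a * g⁻¹ := by group

/-- Control from a normal subgroup times a Sylow subgroup to the whole group. -/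
theorem step_normal {H N T X : Subgroup G} (hN : H ≤ NN N) (hT : IsSyl p T H)
    (hX : H ⊓ NN (T ⊓ N) ≤ X)
    (hc : ∀ Q ≤ T, ∀ h ∈ N, cj h Q ≤ T → Agrees X Q h) :
    ∀ Q ≤ T, ∀ h ∈ H, cj h Q ≤ T → Agrees X Q h := by
  apply alperin_control hT
  intro Q hQ htm IH g hg
  set M := H ⊓ NN Q with hM
  set K' := M ⊓ N with hK'
  have hTH : T ≤ H := hT.le
  have hMK' : M ≤ NN K' := by
    intro x hx
    apply mem_NN_of_forall
    intro c hc'
    exact ⟨M.mul_mem (M.mul_mem hx hc'.1) (M.inv_mem hx), conj_mem_of_mem_NN (hN hx.1) hc'.2⟩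
  have hR₀ := isSyl_inf htm (inf_le_left : K' ≤ M) hMK'
  set R₀ := (T ⊓ NN Q) ⊓ K' with hR₀def
  obtain ⟨d, hd, hdg⟩ := frattini hR₀ (hMK' hg)
  have hn₃M : d⁻¹ * g ∈ M := M.mul_mem (M.inv_mem hd.1) hg
  by_cases hR₀Q : R₀ ≤ Q
  · -- `T ⊓ N ≤ Q`
    have hS₀Q : T ⊓ N ≤ Q := by
      by_contra hcon
      have hpS : IsPGroup p ↥(Q ⊔ (T ⊓ N)) := hT.pgrp.to_le (sup_le hQ inf_le_left)
      have hQlt : Q < Q ⊔ (T ⊓ N) := lt_of_le_not_ge le_sup_left fun h => hcon (le_sup_right.trans h)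
      have hgrow := lt_inf_NN hpS hQlt
      obtain ⟨y, hy, hyQ⟩ := SetLike.exists_of_lt hgrow
      have hTS₀ : Q ≤ NN (T ⊓ N) := by
        intro q hq
        apply mem_NN_of_forall
        intro x hx
        exact ⟨T.mul_mem (T.mul_mem (hQ hq) hx.1) (T.inv_mem (hQ hq)), conj_mem_of_mem_NN (hN (hTH (hQ hq))) hx.2⟩
      obtain ⟨q, hq, s, hs, rfl⟩ := mem_sup_of_le_NN hTS₀ hy.1
      have hsQ : s ∉ Q := fun h => hyQ (Q.mul_mem hq h)
      have hsN : s ∈ NN Q := by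
        have h1 : s = q⁻¹ * (q * s) := by group
        rw [h1]
        exact Subgroup.mul_mem _ (Subgroup.inv_mem _ (Subgroup.le_normalizer hq)) hy.2
      exact hsQ (hR₀Q ⟨⟨hs.1, hsN⟩, ⟨hTH hs.1, hsN⟩, hs.2⟩)
    refine Agrees.of_mem (hX ⟨hg.1, ?_⟩)
    have e : T ⊓ N = Q ⊓ N := le_antisymm (le_inf hS₀Q inf_le_right) (inf_le_inf_right N hQ)
    rw [e]
    apply mem_NN_of_forall
    intro x hx
    exact ⟨conj_mem_of_mem_NN hg.2 hx.1, conj_mem_of_mem_NN (hN hg.1) hx.2⟩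
  · set Q₁ := Q ⊔ R₀ with hQ₁
    have hR₀T : R₀ ≤ T := inf_le_left.trans inf_le_left
    have hQ₁T : Q₁ ≤ T := sup_le hQ hR₀T
    have hlt : Q < Q₁ := lt_of_le_not_ge le_sup_left fun h => hR₀Q (le_sup_right.trans h)
    have hcard : Nat.card Q < Nat.card Q₁ := by
      refine lt_of_le_of_ne (Subgroup.card_le_of_le hlt.le) fun he' => ?_
      exact hlt.ne (Subgroup.eq_of_le_of_card_ge hlt.le he'.ge)
    have hn₃Q₁ : d⁻¹ * g ∈ NN Q₁ := mem_NN_sup hn₃M.2 hdg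
    have h1 := Agrees.mono (IH Q₁ hQ₁T hcard _ hn₃M.1 (by rw [cj_eq_of_mem_NN hn₃Q₁]; exact hQ₁T)) (le_sup_left : Q ≤ Q₁)
    have hdQ : d ∈ NN Q := hd.1.2
    have h2 : Agrees X (cj (d⁻¹ * g) Q) d := by
      rw [cj_eq_of_mem_NN hn₃M.2]
      exact hc Q hQ d hd.2 (by rw [cj_eq_of_mem_NN hdQ]; exact hQ)
    have h3 := Agrees.comp h1 h2
    have e : d * (d⁻¹ * g) = g := by group
    rwa [e] at h3

end General

section Main

variable {p : ℕ} [hp : Fact p.Prime]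

/-- `N(Y)` controls strong fusion in `P`. -/
def Ctl {G : Type*} [Group G] (P Y : Subgroup G) : Prop := ∀ A ≤ P, ∀ g : G, cj g A ≤ P → Agrees (NN Y) A g

/-- The control theorem inside a subgroup containing the Sylow subgroup. -/
theorem control_sec_in {𝔛 : ∀ (X : Type u) [Group X], Prop} (h𝔛 : SecClass p 𝔛) (hp2 : p ≠ 2) (e : ℕ)
    {G : Type u} [Group G] [Finite G] (hG : 𝔛 G) (P : Sylow p G) (D : Subgroup G)
    (hD : IsStronglyClosed D (P : Subgroup G)) {H : Subgroup G} (hPH : (P : Subgroup G) ≤ H)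
    {Q : Subgroup G} (hQ : Q ≤ P) {h : G} (hh : h ∈ H) (hhQ : cj h Q ≤ P) : Agrees (H ⊓ NN (WW e D)) Q h := by
  classical
  by_cases hW0 : WW e D = ⊥
  · refine Agrees.of_mem ⟨hh, ?_⟩
    apply mem_NN_of_forall
    intro x hx
    rw [hW0, Subgroup.mem_bot] at hx ⊢
    rw [hx]
    simp
  have h𝒟 := fset_dSet hD
  have hst : IsNormalizerPStable p G := h𝔛.st hG
  set R := dofRaw hp2 e h𝒟 hst with hR
  set F := R.toFun (zjRaw hp2 hst) (zjRaw_pos hp2 hst) with hF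
  have hW : WT e (dSet D) (P : Subgroup G) = WW e D := by
    unfold WT
    rw [Dof_dSet hD]
  have hFW : F.W (P : Subgroup G) = WW e D := by
    have h1 : R.W (P : Subgroup G) = WW e D := hW
    rw [← h1]
    apply Raw.toFun_W
    rw [h1]
    exact hW0
  have hTH : IsSyl p (P : Subgroup G) H := isSyl_of_le (isSyl_of_sylow P) hPH le_top
  have h1 := control_core h𝔛 hp2 _ G hG F H rfl _ hTH Q hQ h hh hhQ
  rwa [hFW] at h1

theorem step_B (hp2 : p ≠ 2) {G : Type u} [Group G] [Finite G] (hG : NCF p G) (P : Sylow p G) {Q : Subgroup G}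
    (hQP : Q ≤ P) (hPQ : (P : Subgroup G) ≤ NN Q) (hctl : Ctl (P : Subgroup G) Q)
    (hD : ¬ ((P : Subgroup G) ⊓ Subgroup.centralizer (Q : Set G)) ≤ Q) :
    ∃ Y, Q < Y ∧ Y ≤ P ∧ (P : Subgroup G) ≤ NN Y ∧ Ctl (P : Subgroup G) Y := by
  classical
  set L := NN Q with hL
  set CQ := Subgroup.centralizer (Q : Set G) with hCQ
  set V₀ := Q ⊓ CQ with hV₀
  set D := (P : Subgroup G) ⊓ CQ with hDdef
  set L₂ := CQ ⊔ (P : Subgroup G) with hL₂
  have hCL : CQ ≤ L := by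
    intro c hc
    apply mem_NN_of_forall
    intro x hx
    have h1 := Subgroup.mem_centralizer_iff.mp hc x hx
    have e : c * x * c⁻¹ = x := by
      rw [← h1]
      group
    rw [e]
    exact hx
  have hLCQ : L ≤ NN CQ := le_NN_centralizer le_rfl
  have hL₂L : L₂ ≤ L := sup_le hCL hPQ
  haveI hVn : (V₀.subgroupOf L).Normal := by
    constructor
    intro v hv l
    exact ⟨conj_mem_of_mem_NN l.2 hv.1, conj_mem_of_mem_NN (hLCQ l.2) hv.2⟩
  have hV₀P : V₀ ≤ P := inf_le_left.trans hQP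
  have hV₀p : IsPGroup p V₀ := P.isPGroup'.to_le hV₀P
  have hV₀D : V₀ ≤ D := le_inf hV₀P inf_le_right
  have hDL : D ≤ L := inf_le_left.trans hPQ
  have hSL : IsSyl p (P : Subgroup G) L := isSyl_of_le (isSyl_of_sylow P) hPQ le_top
  have hSL₂ : IsSyl p (P : Subgroup G) L₂ := isSyl_of_le (isSyl_of_sylow P) le_sup_right le_top
  have hTt : IsSyl p (img L V₀ (P : Subgroup G)) ⊤ := isSyl_img hV₀p hSL
  let Pt : Sylow p (QQ L V₀) := sylowOf hTt
  have hPt : (Pt : Subgroup (QQ L V₀)) = img L V₀ (P : Subgroup G) := rfl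
  set Dt := img L V₀ D with hDt
  have hDtS : IsStronglyClosed Dt (Pt : Subgroup (QQ L V₀)) := by
    refine ⟨?_, ?_⟩
    · rintro _ ⟨d, hd, rfl⟩
      exact mem_img_of hd.1
    · rintro _ ⟨d, hd, rfl⟩ g hg
      obtain ⟨g₀, rfl⟩ := pp_surjective g
      rw [hPt, ← map_inv, ← map_mul, ← map_mul] at hg
      rw [← map_inv, ← map_mul, ← map_mul]
      have h1 := mem_of_mem_img hV₀P hg
      exact mem_img_of ⟨h1, conj_mem_of_mem_NN (hLCQ g₀.2) hd.2⟩
  have hGt : Finite (QQ L V₀) ∧ NCF p (QQ L V₀) := ⟨inferInstance, NCF_quot (NCF_sub hG L) _⟩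
  set Wt := WW 0 Dt with hWt
  set Y₁ := pre Wt with hY₁
  set Y := Q ⊔ Y₁ with hY
  have hWtD : Wt ≤ Dt := WW_le 0 Dt
  have hY₁D : Y₁ ≤ D := by
    have h1 := pre_mono hWtD
    rwa [hDt, pre_img hV₀D hDL] at h1
  have hconjY₁ : ∀ x : ↥L, pp L V₀ x ∈ NN Wt → (x : G) ∈ NN Y₁ := by
    intro x hx
    apply mem_NN_of_forall
    intro a ha
    have haL : a ∈ L := pre_le_H _ ha
    have e : (x : G) * a * (x : G)⁻¹ = ((x * ⟨a, haL⟩ * x⁻¹ : ↥L) : G) := rfl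
    rw [e]
    apply mem_pre_of
    rw [map_mul, map_mul, map_inv]
    exact conj_mem_of_mem_NN hx (mem_of_mem_pre ha)
  have hNY₁ : ∀ x : ↥L, (x : G) ∈ NN D → pp L V₀ x ∈ NN Wt := by
    intro x hx
    apply mem_NN_WW 0
    apply mem_NN_of_forall
    rintro _ ⟨d, hd, rfl⟩
    refine ⟨x * d * x⁻¹, conj_mem_of_mem_NN hx hd, by simp [map_mul, map_inv]⟩
  have hPD : (P : Subgroup G) ≤ NN D := by
    intro t ht
    apply mem_NN_of_forall
    intro a ha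
    exact ⟨Subgroup.mul_mem _ (Subgroup.mul_mem _ ht ha.1) (Subgroup.inv_mem _ ht),
      conj_mem_of_mem_NN (hLCQ (hPQ ht)) ha.2⟩
  set Lt := img L V₀ L₂ with hLt
  have hPLt : (Pt : Subgroup (QQ L V₀)) ≤ Lt := by
    rintro _ ⟨t, ht, rfl⟩
    exact mem_img_of ((le_sup_right : (P : Subgroup G) ≤ L₂) ht)
  have hc : ∀ Qt ≤ img L V₀ (P : Subgroup G), ∀ ht ∈ Lt, cj ht Qt ≤ img L V₀ (P : Subgroup G) →
      Agrees (Lt ⊓ NN Wt) Qt ht := fun Qt hQt ht hht hcj =>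
    control_sec_in (secClass hp2) hp2 0 hGt Pt Dt hDtS hPLt hQt hht hcj
  have hL₂' : L₂ ≤ (P : Subgroup G) ⊔ (L₂ ⊓ Subgroup.centralizer (V₀ : Set G)) := by
    refine sup_le (le_sup_of_le_right (le_inf le_sup_left ?_)) le_sup_left
    intro c hc'
    rw [Subgroup.mem_centralizer_iff]
    intro v hv
    exact Subgroup.mem_centralizer_iff.mp hc' v hv.1
  have hTX : img L V₀ (P : Subgroup G) ≤ NN Wt := by
    rintro _ ⟨t, ht, rfl⟩
    exact hNY₁ t (hPD ht)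
  have hlift := lift_control hL₂L hSL₂ hV₀p hV₀P hL₂' (NN Wt) hTX hc
  have hXle : L₂ ⊓ pre (NN Wt) ≤ L ⊓ NN Y := by
    rintro x ⟨hx1, hx2⟩
    have hxL := hL₂L hx1
    refine ⟨hxL, mem_NN_sup hxL ?_⟩
    exact hconjY₁ ⟨x, hxL⟩ (mem_of_mem_pre hx2)
  have hfinal := step_normal (H := L) (N := CQ) (T := (P : Subgroup G)) (X := L ⊓ NN Y) hLCQ hSL
    (by
      rintro n ⟨hn1, hn2⟩
      exact ⟨hn1, mem_NN_sup hn1 (hconjY₁ ⟨n, hn1⟩ (hNY₁ ⟨n, hn1⟩ hn2))⟩)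
    (by
      intro Q' hQ' h hh hcj
      obtain ⟨x, hx, hxa⟩ := hlift Q' hQ' h ((le_sup_left : CQ ≤ L₂) hh) hcj
      exact ⟨x, hXle hx, hxa⟩)
  refine ⟨Y, ?_, sup_le hQP (hY₁D.trans inf_le_left), ?_, ?_⟩
  · have hDtne : Dt ≠ ⊥ := by
      intro h0
      obtain ⟨d, hd, hdQ⟩ := SetLike.not_le_iff_exists.mp hD
      have h1 : pp L V₀ ⟨d, hDL hd⟩ ∈ Dt := mem_img_of hd
      rw [h0, Subgroup.mem_bot] at h1
      exact hdQ (pp_eq_one_iff.mp h1).1
    have hDtp : IsPGroup p Dt := hTt.pgrp.to_le (by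
      rintro _ ⟨d, hd, rfl⟩
      exact mem_img_of hd.1)
    have hWne : Wt ≠ ⊥ := WW_ne_bot (dvd_zero p) hDtp hDtne
    obtain ⟨⟨w, hw⟩, hw1⟩ := Subgroup.ne_bot_iff_exists_ne_one.mp hWne
    obtain ⟨y₀, rfl⟩ := pp_surjective w
    have hy₀ : (y₀ : G) ∈ Y₁ := mem_pre_of hw
    refine lt_of_le_not_ge le_sup_left fun h => ?_
    have hy₀Q : (y₀ : G) ∈ Q := h (le_sup_right (a := Q) hy₀)
    apply hw1
    apply Subtype.ext
    exact pp_eq_one_iff.mpr ⟨hy₀Q, (hY₁D hy₀).2⟩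
  · intro t ht
    exact mem_NN_sup (hPQ ht) (hconjY₁ ⟨t, hPQ ht⟩ (hNY₁ ⟨t, hPQ ht⟩ (hPD ht)))
  · intro A hA g hcj
    obtain ⟨x, hx, hxa⟩ := hctl A hA g hcj
    have hcjx : cj x A ≤ P := by
      rw [cj_le_iff]
      intro a ha
      rw [hxa a ha]
      exact hcj (conj_mem_cj ha)
    obtain ⟨y, hy, hya⟩ := hfinal A hA x hx hcjx
    exact ⟨y, hy.2, fun a ha => (hya a ha).trans (hxa a ha)⟩

/-- An element of `O_{p'}` normalizing into a `p`-subgroup. -/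
theorem eq_one_of_mem_pPrimeCore_pow {X : Type*} [Group X] [Finite X] {w : X} (hw : w ∈ pPrimeCore p X) {m : ℕ}
    (hm : w ^ p ^ m = 1) : w = 1 := by
  have h1 : (Nat.card (pPrimeCore p X)).Coprime p := card_pPrimeCore_coprime p
  have h2 : w ^ Nat.card (pPrimeCore p X) = 1 := by
    have := pow_card_eq_one' (x := (⟨w, hw⟩ : pPrimeCore p X))
    exact congrArg Subtype.val this
  have h3 : orderOf w ∣ Nat.gcd (p ^ m) (Nat.card (pPrimeCore p X)) :=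
    Nat.dvd_gcd (orderOf_dvd_of_pow_eq_one hm) (orderOf_dvd_of_pow_eq_one h2)
  have h4 : Nat.gcd (p ^ m) (Nat.card (pPrimeCore p X)) = 1 := by
    apply Nat.Coprime.pow_left
    exact h1.symm
  rw [h4, Nat.dvd_one, orderOf_eq_one_iff] at h3
  exact h3

theorem step_D {G : Type*} [Group G] [Finite G] (P : Sylow p G) {Q X₁ : Subgroup G}
    (hPQ : (P : Subgroup G) ≤ NN Q) (hctl : Ctl (P : Subgroup G) Q)
    (hcent : (P : Subgroup G) ⊓ Subgroup.centralizer (Q : Set G) ≤ Q) (hQP : Q ≤ P)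
    (hX₁n : NN Q ≤ NN X₁) (hX₁L : X₁ ≤ NN Q)
    (hQX : Q ⊔ Subgroup.centralizer (Q : Set G) ≤ X₁)
    (hk : ∃ k : ℕ, (Q ⊔ Subgroup.centralizer (Q : Set G)).relIndex X₁ = p ^ k) :
    Ctl (P : Subgroup G) ((P : Subgroup G) ⊓ X₁) ∧
      X₁ ≤ ((P : Subgroup G) ⊓ X₁) ⊔ Subgroup.centralizer (Q : Set G) := by
  classical
  set L := NN Q with hL
  set CQ := Subgroup.centralizer (Q : Set G) with hCQ
  have hCL : CQ ≤ L := by
    intro c hc
    apply mem_NN_of_forall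
    intro x hx
    have h1 := Subgroup.mem_centralizer_iff.mp hc x hx
    have e : c * x * c⁻¹ = x := by
      rw [← h1]
      group
    rw [e]
    exact hx
  have hSL : IsSyl p (P : Subgroup G) L := isSyl_of_le (isSyl_of_sylow P) hPQ le_top
  obtain ⟨S, hS⟩ := hSL.sylow_exists
  let C' : Subgroup ↥L := CQ.subgroupOf L
  haveI hC'n : C'.Normal := Subgroup.normal_subgroupOf_centralizer_normalizer _
  have hZ : ∀ z ∈ (S : Subgroup ↥L) ⊓ C', ∀ c ∈ C', z * c = c * z := by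
    rintro z ⟨hz1, hz2⟩ c hc
    have hzS : (z : G) ∈ (P : Subgroup G) := by
      rw [hS] at hz1
      exact hz1
    have hzQ : (z : G) ∈ Q := hcent ⟨hzS, hz2⟩
    exact Subtype.ext (Subgroup.mem_centralizer_iff.mp hc z hzQ)
  have hle := Cfsg.Agent.Lib.CentralSylow.central_sylow_le S C' hZ
  set K₀ := pPrimeCore p ↥L with hK₀
  haveI hK₀n : K₀.Normal := pPrimeCore_normal p ↥L
  let π : ↥L →* ↥L ⧸ K₀ := QuotientGroup.mk' K₀
  have hπ : Function.Surjective π := QuotientGroup.mk'_surjective K₀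
  let Sb : Sylow p (↥L ⧸ K₀) := S.mapSurjective hπ
  have hSb : (Sb : Subgroup (↥L ⧸ K₀)) = (S : Subgroup ↥L).map π := rfl
  have hQL : Q ≤ L := Subgroup.le_normalizer
  -- the image of `Q C(Q)` is the image of `Q`
  have hU : Q ⊔ CQ ≤ ((Q.subgroupOf L) ⊔ K₀).map L.subtype := by
    refine sup_le ?_ ?_
    · intro q hq
      exact ⟨⟨q, hQL hq⟩, (le_sup_left : Q.subgroupOf L ≤ _) hq, rfl⟩
    · intro c hc
      have hcC : (⟨c, hCL hc⟩ : ↥L) ∈ C' := hc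
      refine ⟨⟨c, hCL hc⟩, ?_, rfl⟩
      refine (sup_le_sup_right ?_ K₀) (hle hcC)
      rintro z ⟨hz1, hz2⟩
      have hzS : (z : G) ∈ (P : Subgroup G) := by
        rw [hS] at hz1
        exact hz1
      exact hcent ⟨hzS, hz2⟩
  have hQbp : IsPGroup p ((Q.subgroupOf L).map π) :=
    ((P.isPGroup'.to_le hQP).comap_of_injective L.subtype L.subtype_injective).map π
  -- the image of `X₁` is a normal `p`-subgroup
  let M : Subgroup ↥L := X₁.subgroupOf L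
  haveI hMn : M.Normal := by
    constructor
    intro c hc l
    exact conj_mem_of_mem_NN (hX₁n l.2) hc
  haveI hMbn : (M.map π).Normal := Subgroup.Normal.map hMn π hπ
  obtain ⟨k, hk⟩ := hk
  have hMbp : IsPGroup p (M.map π) := by
    rintro ⟨_, x, hx, rfl⟩
    have hxX : (x : G) ∈ X₁ := hx
    let U' : Subgroup ↥X₁ := (Q ⊔ CQ).subgroupOf X₁
    haveI hU'n : U'.Normal := by
      constructor
      intro c hc l
      have hc' : (c : G) ∈ Q ⊔ CQ := hc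
      have hl : (l : G) ∈ NN (Q ⊔ CQ) :=
        mem_NN_sup (hX₁L l.2) (le_NN_centralizer le_rfl (hX₁L l.2))
      exact conj_mem_of_mem_NN hl hc'
    have h1 : (⟨x, hxX⟩ : ↥X₁) ^ U'.index ∈ U' := Subgroup.pow_index_mem U' _
    have h2 : U'.index = p ^ k := hk
    rw [h2] at h1
    have h3 : ((x : G) ^ p ^ k) ∈ Q ⊔ CQ := h1
    obtain ⟨y, hy, hyx⟩ := hU h3
    have hyx' : y = x ^ p ^ k := Subtype.ext hyx
    have h4 : π (x ^ p ^ k) ∈ (Q.subgroupOf L).map π := by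
      rw [← hyx']
      have h5 : ((Q.subgroupOf L) ⊔ K₀).map π = (Q.subgroupOf L).map π := by
        rw [Subgroup.map_sup]
        have h6 : K₀.map π = ⊥ := by
          rw [Subgroup.map_eq_bot_iff]
          exact (QuotientGroup.ker_mk' K₀).ge
        rw [h6, sup_bot_eq]
      rw [← h5]
      exact ⟨y, hy, rfl⟩
    obtain ⟨m, hm⟩ := hQbp ⟨_, h4⟩
    refine ⟨k + m, Subtype.ext ?_⟩
    have hm' : (π (x ^ p ^ k)) ^ p ^ m = 1 := congrArg Subtype.val hm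
    show (π x) ^ p ^ (k + m) = 1
    rw [pow_add, pow_mul, ← map_pow]
    exact hm'
  have hMb : M.map π ≤ (Sb : Subgroup (↥L ⧸ K₀)) := hMbp.le_sylow_of_normal Sb
  -- elements of `X₁`
  have hXform : ∀ x ∈ X₁, ∃ t ∈ (P : Subgroup G), ∃ c ∈ K₀, x = t * (c : G) := by
    intro x hx
    have hxL : x ∈ L := hX₁L hx
    have h1 : π ⟨x, hxL⟩ ∈ (Sb : Subgroup (↥L ⧸ K₀)) := hMb ⟨⟨x, hxL⟩, hx, rfl⟩
    rw [hSb] at h1
    obtain ⟨t, ht, hte⟩ := h1
    have h2 : t⁻¹ * ⟨x, hxL⟩ ∈ K₀ := QuotientGroup.eq.mp hte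
    have htP : (t : G) ∈ (P : Subgroup G) := by
      rw [hS] at ht
      exact ht
    refine ⟨t, htP, _, h2, ?_⟩
    show x = t * (t⁻¹ * ⟨x, hxL⟩ : ↥L)
    show x = (t : G) * ((t : G)⁻¹ * x)
    group
  have hPp : IsPGroup p (P : Subgroup G) := P.isPGroup'
  have hc : ∀ Q' ≤ (P : Subgroup G), ∀ h ∈ X₁, cj h Q' ≤ (P : Subgroup G) →
      Agrees (L ⊓ NN ((P : Subgroup G) ⊓ X₁)) Q' h := by
    intro Q' hQ' h hh hcj
    obtain ⟨t, ht, c, hcK, rfl⟩ := hXform h hh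
    refine ⟨t, ⟨hPQ ht, ?_⟩, ?_⟩
    · apply mem_NN_of_forall
      intro a ha
      exact ⟨Subgroup.mul_mem _ (Subgroup.mul_mem _ ht ha.1) (Subgroup.inv_mem _ ht),
        conj_mem_of_mem_NN (hX₁n (hPQ ht)) ha.2⟩
    · intro a ha
      have haP := hQ' ha
      have hcQ := hcj (conj_mem_cj ha)
      have h1 : (c : G) * a * (c : G)⁻¹ ∈ (P : Subgroup G) := by
        have e : (c : G) * a * (c : G)⁻¹ = t⁻¹ * ((t * c) * a * (t * c)⁻¹) * t⁻¹⁻¹ := by group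
        rw [e]
        exact Subgroup.mul_mem _ (Subgroup.mul_mem _ (Subgroup.inv_mem _ ht) hcQ) (Subgroup.inv_mem _ (Subgroup.inv_mem _ ht))
      -- the commutator lies in `K₀` and in `P`
      let a' : ↥L := ⟨a, hPQ haP⟩
      let w : ↥L := c * (a' * c⁻¹ * a'⁻¹)
      have hw : w ∈ K₀ := K₀.mul_mem hcK (hK₀n.conj_mem _ (K₀.inv_mem hcK) a')
      have hwP : (w : G) ∈ (P : Subgroup G) := by
        have e : (w : G) = ((c : G) * a * (c : G)⁻¹) * a⁻¹ := by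
          show (c : G) * (a * (c : G)⁻¹ * a⁻¹) = _
          group
        rw [e]
        exact Subgroup.mul_mem _ h1 (Subgroup.inv_mem _ haP)
      obtain ⟨m, hm⟩ := hPp ⟨w, hwP⟩
      have hm' : w ^ p ^ m = 1 := by
        apply Subtype.ext
        have h9 := congrArg Subtype.val hm
        simpa using h9
      have hw1 : w = 1 := eq_one_of_mem_pPrimeCore_pow hw hm'
      have hw2 : (c : G) * a * (c : G)⁻¹ * a⁻¹ = 1 := by
        have h3 := congrArg Subtype.val hw1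
        have e : (w : G) = (c : G) * a * (c : G)⁻¹ * a⁻¹ := by
          show (c : G) * (a * (c : G)⁻¹ * a⁻¹) = _
          group
        rw [← e]
        exact h3
      have hw3 : (c : G) * a * (c : G)⁻¹ = a := by
        have h4 : (c : G) * a * (c : G)⁻¹ = ((c : G) * a * (c : G)⁻¹ * a⁻¹) * a := by group
        rw [h4, hw2, one_mul]
      calc t * a * t⁻¹ = t * ((c : G) * a * (c : G)⁻¹) * t⁻¹ := by rw [hw3]
        _ = (t * c) * a * (t * c)⁻¹ := by group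
  have hfinal := step_normal (H := L) (N := X₁) (T := (P : Subgroup G)) (X := L ⊓ NN ((P : Subgroup G) ⊓ X₁)) hX₁n hSL
    le_rfl hc
  constructor
  · intro A hA g hcj
    obtain ⟨x, hx, hxa⟩ := hctl A hA g hcj
    have hcjx : cj x A ≤ P := by
      rw [cj_le_iff]
      intro a ha
      rw [hxa a ha]
      exact hcj (conj_mem_cj ha)
    obtain ⟨y, hy, hya⟩ := hfinal A hA x hx hcjx
    exact ⟨y, hy.2, fun a ha => (hya a ha).trans (hxa a ha)⟩
  · intro x hx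
    obtain ⟨t, ht, c, hcK, rfl⟩ := hXform x hx
    -- `K₀` centralizes `Q`
    have hcC : (c : G) ∈ CQ := by
      rw [Subgroup.mem_centralizer_iff]
      intro q hq
      let q' : ↥L := ⟨q, hQL hq⟩
      let w : ↥L := c * (q' * c⁻¹ * q'⁻¹)
      have hw : w ∈ K₀ := K₀.mul_mem hcK (hK₀n.conj_mem _ (K₀.inv_mem hcK) q')
      have e : (w : G) = ((c : G) * q * (c : G)⁻¹) * q⁻¹ := by
        show (c : G) * (q * (c : G)⁻¹ * q⁻¹) = _
        group
      have hwQ : (w : G) ∈ Q := by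
        rw [e]
        exact Q.mul_mem (conj_mem_of_mem_NN c.2 hq) (Q.inv_mem hq)
      obtain ⟨m, hm⟩ := (P.isPGroup'.to_le hQP) ⟨w, hwQ⟩
      have hm' : w ^ p ^ m = 1 := by
        apply Subtype.ext
        have h9 := congrArg Subtype.val hm
        simpa using h9
      have hw1 : w = 1 := eq_one_of_mem_pPrimeCore_pow hw hm'
      have hw2 : (c : G) * q * (c : G)⁻¹ * q⁻¹ = 1 := by
        rw [← e]
        exact congrArg Subtype.val hw1
      have hw3 : (c : G) * q * (c : G)⁻¹ = q := by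
        have h4 : (c : G) * q * (c : G)⁻¹ = ((c : G) * q * (c : G)⁻¹ * q⁻¹) * q := by group
        rw [h4, hw2, one_mul]
      calc q * (c : G) = ((c : G) * q * (c : G)⁻¹) * c := by rw [hw3]
        _ = c * q := by group
    have hcX : (c : G) ∈ X₁ := hQX (le_sup_right (a := Q) hcC)
    have htX : t ∈ X₁ := by
      have e : t = (t * c) * (c : G)⁻¹ := by group
      rw [e]
      exact X₁.mul_mem hx (X₁.inv_mem hcX)
    exact Subgroup.mul_mem_sup ⟨ht, htX⟩ hcC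

/-- A largest normal subgroup of `P` whose normalizer controls strong fusion. -/
theorem exists_max (hp2 : p ≠ 2) {G : Type u} [Group G] [Finite G] (hG : NCF p G) (P : Sylow p G) :
    ∃ Q : Subgroup G, Q ≤ P ∧ (P : Subgroup G) ≤ NN Q ∧ Ctl (P : Subgroup G) Q ∧
      (P : Subgroup G) ⊓ Subgroup.centralizer (Q : Set G) ≤ Q ∧
      ∀ X₁ : Subgroup G, X₁ ≤ NN Q → NN Q ≤ NN X₁ → Q ⊔ Subgroup.centralizer (Q : Set G) ≤ X₁ →
        (∃ k : ℕ, (Q ⊔ Subgroup.centralizer (Q : Set G)).relIndex X₁ = p ^ k) →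
        X₁ ≤ Q ⊔ Subgroup.centralizer (Q : Set G) := by
  classical
  let 𝒮 : Set (Subgroup G) := {Q | Q ≤ P ∧ (P : Subgroup G) ≤ NN Q ∧ Ctl (P : Subgroup G) Q}
  have hbot : (⊥ : Subgroup G) ∈ 𝒮 := by
    refine ⟨bot_le, ?_, ?_⟩
    · intro t _
      apply mem_NN_of_forall
      intro x hx
      rw [Subgroup.mem_bot] at hx ⊢
      rw [hx]
      simp
    · intro A _ g _
      refine Agrees.of_mem ?_
      apply mem_NN_of_forall
      intro x hx
      rw [Subgroup.mem_bot] at hx ⊢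
      rw [hx]
      simp
  obtain ⟨Q, hQ, hmax⟩ := Set.exists_max_image 𝒮 (fun Q : Subgroup G => Nat.card Q) (Set.toFinite _) ⟨⊥, hbot⟩
  obtain ⟨hQP, hPQ, hctl⟩ := hQ
  have hcent : (P : Subgroup G) ⊓ Subgroup.centralizer (Q : Set G) ≤ Q := by
    by_contra hD
    obtain ⟨Y, hlt, hYP, hPY, hY⟩ := step_B hp2 hG P hQP hPQ hctl hD
    have h1 := hmax Y ⟨hYP, hPY, hY⟩
    exact hlt.ne (Subgroup.eq_of_le_of_card_ge hlt.le h1)
  refine ⟨Q, hQP, hPQ, hctl, hcent, ?_⟩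
  intro X₁ hX₁L hX₁n hQX hk
  obtain ⟨h1, h2⟩ := step_D P hPQ hctl hcent hQP hX₁n hX₁L hQX hk
  have hQX₁ : Q ≤ X₁ := le_sup_left.trans hQX
  have hle : Q ≤ (P : Subgroup G) ⊓ X₁ := le_inf hQP hQX₁
  have hmem : (P : Subgroup G) ⊓ X₁ ∈ 𝒮 := by
    refine ⟨inf_le_left, ?_, h1⟩
    intro t ht
    apply mem_NN_of_forall
    intro a ha
    exact ⟨Subgroup.mul_mem _ (Subgroup.mul_mem _ ht ha.1) (Subgroup.inv_mem _ ht),
      conj_mem_of_mem_NN (hX₁n (hPQ ht)) ha.2⟩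
  have h3 := hmax _ hmem
  have h4 : Q = (P : Subgroup G) ⊓ X₁ := Subgroup.eq_of_le_of_card_ge hle h3
  rw [← h4] at h2
  exact h2

/-- The largest subgroup lies in each centric radical subgroup. -/
theorem le_of_radical {G : Type*} [Group G] [Finite G] (P : Sylow p G) {Q R : Subgroup G} (hQP : Q ≤ P)
    (hPQ : (P : Subgroup G) ≤ NN Q) (hctl : Ctl (P : Subgroup G) Q) (hRP : R ≤ P)
    (hR₂ : ∀ c ∈ (P : Subgroup G) ⊓ Subgroup.centralizer (R : Set G), c ∈ R)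
    (hR₃ : ∀ X : Subgroup G, X ≤ NN R → NN R ≤ NN X → R ⊔ Subgroup.centralizer (R : Set G) ≤ X →
      (∃ k : ℕ, (R ⊔ Subgroup.centralizer (R : Set G)).relIndex X = p ^ k) →
      X = R ⊔ Subgroup.centralizer (R : Set G)) : Q ≤ R := by
  classical
  by_contra hQR
  have hPp : IsPGroup p (P : Subgroup G) := P.isPGroup'
  have hMp : IsPGroup p ↥(R ⊔ Q) := hPp.to_le (sup_le hRP hQP)
  have hlt : R < R ⊔ Q := lt_of_le_not_ge le_sup_left fun h => hQR (le_sup_right.trans h)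
  have hgrow := lt_inf_NN hMp hlt
  obtain ⟨y, hy, hyR⟩ := SetLike.exists_of_lt hgrow
  have hRQ : R ≤ NN Q := hRP.trans hPQ
  obtain ⟨r, hr, q, hq, rfl⟩ := mem_sup_of_le_NN hRQ hy.1
  have hqR : q ∉ R := fun h => hyR (R.mul_mem hr h)
  have hqN : q ∈ NN R := by
    have h1 : q = r⁻¹ * (r * q) := by group
    rw [h1]
    exact Subgroup.mul_mem _ (Subgroup.inv_mem _ (Subgroup.le_normalizer hr)) hy.2
  set CR := Subgroup.centralizer (R : Set G) with hCR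
  have hCN : CR ≤ NN R := by
    intro c hc
    apply mem_NN_of_forall
    intro x hx
    have h1 := Subgroup.mem_centralizer_iff.mp hc x hx
    have e : c * x * c⁻¹ = x := by
      rw [← h1]
      group
    rw [e]
    exact hx
  set U := R ⊔ CR with hU
  set S₁ := Q ⊓ NN R with hS₁
  set X := S₁ ⊔ U with hX
  have hUN : U ≤ NN R := sup_le Subgroup.le_normalizer hCN
  have hXN : X ≤ NN R := sup_le inf_le_right hUN
  have hNU : NN R ≤ NN U := by
    intro n hn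
    exact mem_NN_sup hn (le_NN_centralizer le_rfl hn)
  have hXnorm : NN R ≤ NN X := by
    intro n hn
    obtain ⟨h, hh, hha⟩ := hctl R hRP n (by rw [cj_eq_of_mem_NN hn]; exact hRP)
    have hhR : h ∈ NN R := by
      apply mem_NN_of_forall
      intro a ha
      rw [hha a ha]
      exact conj_mem_of_mem_NN hn ha
    have hcC : h⁻¹ * n ∈ CR := by
      rw [Subgroup.mem_centralizer_iff]
      intro a ha
      have h1 := hha a ha
      have h2 : n * a = h * a * h⁻¹ * n := by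
        rw [h1]
        group
      calc a * (h⁻¹ * n) = h⁻¹ * (h * a * h⁻¹ * n) := by group
        _ = h⁻¹ * (n * a) := by rw [← h2]
        _ = h⁻¹ * n * a := by group
    have hcX : h⁻¹ * n ∈ NN X :=
      Subgroup.le_normalizer ((le_sup_right : U ≤ X) ((le_sup_right : CR ≤ U) hcC))
    have hhX : h ∈ NN X := by
      refine mem_NN_sup ?_ (hNU hhR)
      apply mem_NN_of_forall
      intro a ha
      exact ⟨conj_mem_of_mem_NN hh ha.1, Subgroup.mul_mem _ (Subgroup.mul_mem _ hhR ha.2) (Subgroup.inv_mem _ hhR)⟩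
    have e : n = h * (h⁻¹ * n) := by group
    rw [e]
    exact Subgroup.mul_mem _ hhX hcX
  have hidx : ∃ k : ℕ, U.relIndex X = p ^ k := by
    let U' : Subgroup ↥X := U.subgroupOf X
    haveI hU'n : U'.Normal := by
      constructor
      intro c hc l
      exact conj_mem_of_mem_NN (hNU (hXN l.2)) hc
    have hS₁U : S₁ ≤ NN U := fun s hs => hNU hs.2
    have hquot : IsPGroup p (↥X ⧸ U') := by
      intro xb
      obtain ⟨x, rfl⟩ := QuotientGroup.mk_surjective xb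
      obtain ⟨s, hs, u, hu, hxe⟩ := mem_sup_of_le_NN hS₁U x.2
      have hsX : s ∈ X := (le_sup_left : S₁ ≤ X) hs
      have huX : u ∈ X := (le_sup_right : U ≤ X) hu
      have hxs : ((x : ↥X) : ↥X ⧸ U') = ((⟨s, hsX⟩ : ↥X) : ↥X ⧸ U') := by
        rw [eq_comm, QuotientGroup.eq]
        show s⁻¹ * (x : G) ∈ U
        rw [hxe]
        simpa using hu
      obtain ⟨m, hm⟩ := (hPp.to_le (inf_le_left.trans hQP)) ⟨s, hs⟩
      refine ⟨m, ?_⟩
      rw [hxs, ← QuotientGroup.mk_pow]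
      have h1 : (⟨s, hsX⟩ : ↥X) ^ p ^ m = 1 := by
        apply Subtype.ext
        have h9 := congrArg Subtype.val hm
        simpa using h9
      rw [h1]
      rfl
    obtain ⟨k, hk⟩ := IsPGroup.iff_card.mp hquot
    exact ⟨k, by
      show U'.index = p ^ k
      rw [Subgroup.index_eq_card, hk]⟩
  have hXU := hR₃ X hXN hXnorm le_sup_right hidx
  have hqU : q ∈ U := by
    rw [← hXU]
    exact (le_sup_left : S₁ ≤ X) ⟨hq, hqN⟩
  have hRCR : R ≤ NN CR := fun x hx => le_NN_centralizer le_rfl (Subgroup.le_normalizer hx)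
  obtain ⟨r₁, hr₁, c, hc, hqe⟩ := mem_sup_of_le_NN hRCR hqU
  have hcP : c ∈ (P : Subgroup G) := by
    have e : c = r₁⁻¹ * q := by
      rw [hqe]
      group
    rw [e]
    exact Subgroup.mul_mem _ (Subgroup.inv_mem _ (hRP hr₁)) (hQP hq)
  have hcR := hR₂ c ⟨hcP, hc⟩
  apply hqR
  rw [hqe]
  exact R.mul_mem hr₁ hcR

end Main

end Cfsg.Agent.Lib.CRFusion
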