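import Mathlib

set_option autoImplicit false

namespace Cfsg.Agent.Lib.CTSL71

open Matrix

variable {F : Type*} [Field F]

lemma comm_entries {a b : SpecialLinearGroup (Fin 2) F} (h : Commute a b) :
    a.1 0 1 * b.1 1 0 = b.1 0 1 * a.1 1 0 ∧
    (a.1 0 0 - a.1 1 1) * b.1 0 1 = a.1 0 1 * (b.1 0 0 - b.1 1 1) ∧
    (a.1 0 0 - a.1 1 1) * b.1 1 0 = a.1 1 0 * (b.1 0 0 - b.1 1 1) := by
  have h' : a.1 * b.1 = b.1 * a.1 := by
    have := congrArg Subtype.val h.eq
    simpa using this
  have h00 := congrFun (congrFun h' 0) 0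
  have h01 := congrFun (congrFun h' 0) 1
  have h10 := congrFun (congrFun h' 1) 0
  simp only [Matrix.mul_apply, Fin.sum_univ_two] at h00 h01 h10
  refine ⟨?_, ?_, ?_⟩
  · linear_combination h00
  · linear_combination h01
  · linear_combination -h10

lemma commute_of_entries {a c : SpecialLinearGroup (Fin 2) F}
    (h1 : a.1 0 1 * c.1 1 0 = c.1 0 1 * a.1 1 0)
    (h2 : (a.1 0 0 - a.1 1 1) * c.1 0 1 = a.1 0 1 * (c.1 0 0 - c.1 1 1))
    (h3 : (a.1 0 0 - a.1 1 1) * c.1 1 0 = a.1 1 0 * (c.1 0 0 - c.1 1 1)) :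
    Commute a c := by
  apply Subtype.ext
  show a.1 * c.1 = c.1 * a.1
  ext i j
  fin_cases i <;> fin_cases j <;>
    simp only [Matrix.mul_apply, Fin.sum_univ_two, Fin.zero_eta, Fin.mk_one, Fin.isValue]
  · linear_combination h1
  · linear_combination h2
  · linear_combination -h3
  · linear_combination -h1

lemma entries_ne_of_ne_one [CharP F 2] {b : SpecialLinearGroup (Fin 2) F} (hb : b ≠ 1) :
    b.1 0 1 ≠ 0 ∨ b.1 1 0 ≠ 0 ∨ b.1 0 0 - b.1 1 1 ≠ 0 := by
  by_contra hcon
  push Not at hcon
  obtain ⟨hq, hr, hd⟩ := hcon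
  apply hb
  have hdet := b.2
  rw [Matrix.det_fin_two, hq, hr] at hdet
  have h2 : (2 : F) = 0 := CharTwo.two_eq_zero
  have hp : b.1 0 0 = b.1 1 1 := sub_eq_zero.mp hd
  have hsq : (b.1 0 0 - 1) ^ 2 = 0 := by
    rw [← hp] at hdet
    linear_combination hdet + (1 - b.1 0 0) * h2
  have h1 : b.1 0 0 = 1 := by
    have := pow_eq_zero_iff (two_ne_zero) |>.mp hsq
    exact sub_eq_zero.mp this
  apply Subtype.ext
  ext i j
  fin_cases i <;> fin_cases j <;> simp [hq, hr, h1, ← hp]

theorem sl2_commute_trans [CharP F 2] {a b c : SpecialLinearGroup (Fin 2) F} (hb : b ≠ 1)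
    (hab : Commute a b) (hbc : Commute b c) : Commute a c := by
  obtain ⟨e1, e2, e3⟩ := comm_entries hab
  obtain ⟨f1, f2, f3⟩ := comm_entries hbc
  generalize hy : a.1 0 1 = y at *
  generalize hz : a.1 1 0 = z at *
  generalize ht : a.1 0 0 - a.1 1 1 = t at *
  generalize hq' : b.1 0 1 = q at *
  generalize hr' : b.1 1 0 = r at *
  generalize hd' : b.1 0 0 - b.1 1 1 = d at *
  generalize hy' : c.1 0 1 = y' at *
  generalize hz' : c.1 1 0 = z' at *
  generalize ht' : c.1 0 0 - c.1 1 1 = t' at *
  have hne := entries_ne_of_ne_one hb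
  rw [hq', hr', hd'] at hne
  have key : y * z' = y' * z ∧ t * y' = y * t' ∧ t * z' = z * t' := by
    rcases hne with hq | hr | hd
    · refine ⟨?_, ?_, ?_⟩
      · apply mul_left_cancel₀ hq
        linear_combination y * f1 + y' * e1
      · apply mul_left_cancel₀ hq
        linear_combination y' * e2 + y * f2
      · apply mul_left_cancel₀ hq
        apply mul_left_cancel₀ hq
        linear_combination (q * z') * e2 + (y * d) * f1 + (q * t') * e1 + (y * r) * f2
    · refine ⟨?_, ?_, ?_⟩
      · apply mul_left_cancel₀ hr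
        linear_combination z' * e1 + z * f1
      · apply mul_left_cancel₀ hr
        apply mul_left_cancel₀ hr
        linear_combination (r * y') * e3 - (z * d) * f1 - (r * t') * e1 + (q * z) * f3
      · apply mul_left_cancel₀ hr
        linear_combination z' * e3 + z * f3
    · refine ⟨?_, ?_, ?_⟩
      · apply mul_left_cancel₀ hd
        linear_combination y * f3 - z * f2 + t' * e1
      · apply mul_left_cancel₀ hd
        linear_combination t * f2 + t' * e2
      · apply mul_left_cancel₀ hd
        linear_combination t * f3 + t' * e3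
  obtain ⟨k1, k2, k3⟩ := key
  apply commute_of_entries
  · rw [hy, hz, hy', hz']; exact k1
  · rw [ht, hy, hy', ht']; exact k2
  · rw [ht, hz, hz', ht']; exact k3

/-- In characteristic two the centre of `SL₂` is trivial. -/
lemma center_eq_bot [CharP F 2] : Subgroup.center (SpecialLinearGroup (Fin 2) F) = ⊥ := by
  rw [eq_bot_iff]
  intro A hA
  obtain ⟨r, hr, hrA⟩ := Matrix.SpecialLinearGroup.mem_center_iff.mp hA
  have h2 : (2 : F) = 0 := CharTwo.two_eq_zero
  have h : (r - 1) ^ 2 = 0 := by
    simp only [Fintype.card_fin] at hr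
    linear_combination hr + (1 - r) * h2
  have h1 : r = 1 := sub_eq_zero.mp (pow_eq_zero_iff two_ne_zero |>.mp h)
  subst h1
  rw [Subgroup.mem_bot]
  apply Subtype.ext
  rw [← hrA]
  simp

/-- In characteristic two `PSL₂` is `SL₂`. -/
noncomputable def pslEquiv [CharP F 2] :
    ProjectiveSpecialLinearGroup (Fin 2) F ≃* SpecialLinearGroup (Fin 2) F :=
  (QuotientGroup.quotientMulEquivOfEq center_eq_bot).trans QuotientGroup.quotientBot

/-- Commuting is transitive on the non-identity elements of `SL₂(F)` in characteristic two. -/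
theorem commute_trans_of_equiv [CharP F 2] {G : Type*} [Group G]
    (e : G ≃* SpecialLinearGroup (Fin 2) F) {a b c : G} (hb : b ≠ 1)
    (hab : Commute a b) (hbc : Commute b c) : Commute a c := by
  have hb' : e b ≠ 1 := by
    intro h
    exact hb (e.injective (by rw [h, map_one]))
  have := sl2_commute_trans hb' (hab.map e.toMonoidHom) (hbc.map e.toMonoidHom)
  have h : e (a * c) = e (c * a) := by
    rw [map_mul, map_mul]
    exact this.eq
  exact e.injective h

end Cfsg.Agent.Lib.CTSL71
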