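import Mathlib

/-!
# The hypotheses of the Camina-type analysis for `S4805`

`M = commutator G`, `K ≤ M` normal, `M \ K` a single class, `G/K` Camina off `M`, `M` an `r`-group.
-/

set_option autoImplicit false

namespace Cfsg.Agent.Lib.CamHyp

open scoped commutatorElement

universe u

/-- The hypotheses (no statement on `r`-elements). -/
structure Hyp₀ (G : Type u) [Group G] (K : Subgroup G) (y : G) : Prop where
  hn : K.Normal
  hKM : K ≤ commutator G
  hyM : y ∈ commutator G
  hyK : y ∉ K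
  h1 : ∀ x ∈ commutator G, x ∉ K → IsConj y x
  h2 : ∀ x, x ∉ commutator G → ∀ m ∈ commutator G, ∃ h, ∃ k ∈ K, h * x * h⁻¹ = x * m * k

/-- The hypotheses with `M` an `r`-group. -/
structure Hyp (r : ℕ) (G : Type u) [Group G] (K : Subgroup G) (y : G) : Prop extends Hyp₀ G K y where
  hr : r.Prime
  hp : IsPGroup r (commutator G)

variable {G : Type u} [Group G]

theorem map_commutator_mk (N : Subgroup G) [N.Normal] :
    commutator (G ⧸ N) = (commutator G).map (QuotientGroup.mk' N) := by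
  rw [commutator_def, commutator_def, Subgroup.map_commutator,
    Subgroup.map_top_of_surjective _ (QuotientGroup.mk'_surjective N)]

theorem mem_map_mk_iff {N K : Subgroup G} [N.Normal] (hNK : N ≤ K) (x : G) :
    QuotientGroup.mk' N x ∈ K.map (QuotientGroup.mk' N) ↔ x ∈ K := by
  constructor
  · rintro ⟨k, hk, he⟩
    have : k⁻¹ * x ∈ N := QuotientGroup.eq.mp he
    have h2 : x = k * (k⁻¹ * x) := by group
    rw [h2]
    exact K.mul_mem hk (hNK this)
  · intro hx
    exact ⟨x, hx, rfl⟩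

/-- Passing to a quotient by `N ≤ K`. -/
theorem Hyp₀.map {K : Subgroup G} {y : G} (h : Hyp₀ G K y) (N : Subgroup G) [N.Normal] (hNK : N ≤ K) :
    Hyp₀ (G ⧸ N) (K.map (QuotientGroup.mk' N)) (QuotientGroup.mk' N y) := by
  have hsurj := QuotientGroup.mk'_surjective N
  haveI := h.hn
  have hmemM : ∀ x, QuotientGroup.mk' N x ∈ commutator (G ⧸ N) ↔ x ∈ commutator G := by
    intro x
    rw [map_commutator_mk]
    exact mem_map_mk_iff (hNK.trans h.hKM) x
  refine ⟨Subgroup.Normal.map h.hn _ hsurj, ?_, (hmemM y).mpr h.hyM, ?_, ?_, ?_⟩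
  · rw [map_commutator_mk]
    exact Subgroup.map_mono h.hKM
  · rw [mem_map_mk_iff hNK]
    exact h.hyK
  · intro x hx hxK
    obtain ⟨x, rfl⟩ := hsurj x
    rw [hmemM] at hx
    rw [mem_map_mk_iff hNK] at hxK
    obtain ⟨c, hc⟩ := isConj_iff.mp (h.h1 x hx hxK)
    refine isConj_iff.mpr ⟨QuotientGroup.mk' N c, ?_⟩
    rw [← hc]
    simp
  · intro x hx m hm
    obtain ⟨x, rfl⟩ := hsurj x
    obtain ⟨m, rfl⟩ := hsurj m
    rw [hmemM] at hx hm
    obtain ⟨c, k, hk, hc⟩ := h.h2 x hx m hm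
    refine ⟨QuotientGroup.mk' N c, QuotientGroup.mk' N k, ⟨k, hk, rfl⟩, ?_⟩
    have := congrArg (QuotientGroup.mk' N) hc
    simpa using this

theorem Hyp.map {r : ℕ} {K : Subgroup G} {y : G} (h : Hyp r G K y) (N : Subgroup G) [N.Normal]
    (hNK : N ≤ K) : Hyp r (G ⧸ N) (K.map (QuotientGroup.mk' N)) (QuotientGroup.mk' N y) :=
  { Hyp₀.map h.toHyp₀ N hNK with
    hr := h.hr
    hp := by
      rw [map_commutator_mk]
      exact h.hp.map _ }

/-- A normal subgroup with `N ≤ [M, N]` in a `p`-group `M` is trivial. -/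
theorem eq_bot_of_le_comm {r : ℕ} (hr : r.Prime) [Finite G] (M N : Subgroup G) (hp : IsPGroup r M) (hNM : N ≤ M)
    (hle : N ≤ ⁅M, N⁆) : N = ⊥ := by
  haveI : Fact r.Prime := ⟨hr⟩
  haveI : Group.IsNilpotent M := hp.isNilpotent
  have hlc : ∀ n, N ≤ M.lowerCentralSeries n := by
    intro n
    induction n with
    | zero => exact hNM
    | succ n ih =>
      refine hle.trans ?_
      rw [Subgroup.lowerCentralSeries_succ, Subgroup.commutator_comm]
      exact Subgroup.commutator_mono ih le_rfl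
  obtain ⟨n, hn⟩ := (Subgroup.isNilpotent_iff_lowerCentralSeries M).mp ‹_›
  exact le_bot_iff.mp (by rw [← hn]; exact hlc n)

end Cfsg.Agent.Lib.CamHyp
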