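import Mathlib

/-!
# Abstract alternating maps on a finite field, equivariant under the multiplicative group

Used for the Camina-type group `S4805B`: if `β : F × F → W` is biadditive alternating, equivariant
under `Fˣ` and `β 1` is onto, then `|W|² ≤ |F|`.  If moreover `γ : F × W → T` is equivariant and nonzero
then `|F| ≤ |T|`.
-/

set_option autoImplicit false

namespace Cfsg.Agent.Lib.CamLie

universe u v w

theorem aux1 (s c : ℕ) (hs : 1 ≤ s) (hc : 1 ≤ c) : s * c - 1 = s * (c - 1) + (s - 1) := by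
  obtain ⟨c', rfl⟩ : ∃ c', c = c' + 1 := ⟨c - 1, by omega⟩
  obtain ⟨s', rfl⟩ : ∃ s', s = s' + 1 := ⟨s - 1, by omega⟩
  simp only [Nat.add_sub_cancel]
  have : (s' + 1) * (c' + 1) = (s' + 1) * c' + s' + 1 := by ring
  omega

theorem aux2 (s c : ℕ) (hs : 2 ≤ s) (h1 : 2 * s ≤ c) (h2 : s * c - 1 ≤ 2 * s * (s - 1)) : False := by
  obtain ⟨s', rfl⟩ : ∃ s', s = s' + 1 := ⟨s - 1, by omega⟩
  have h3 : (s' + 1) * c ≥ (s' + 1) * (2 * (s' + 1)) := Nat.mul_le_mul_left _ h1
  simp only [Nat.add_sub_cancel] at h2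
  have h4 : (s' + 1) * c - 1 ≥ (s' + 1) * (2 * (s' + 1)) - 1 := Nat.sub_le_sub_right h3 1
  have h5 : (s' + 1) * (2 * (s' + 1)) = 2 * (s' + 1) * s' + 2 * (s' + 1) := by ring
  omega

section Field

variable {F : Type u} [Field F] [Finite F]

theorem inv_mem_of_mul_closed (U : AddSubgroup F) (h1 : (1 : F) ∈ U)
    (hmul : ∀ a ∈ U, ∀ b ∈ U, a * b ∈ U) {x : F} (hx : x ∈ U) : x⁻¹ ∈ U := by
  by_cases h0 : x = 0
  · simp [h0, U.zero_mem]
  have hpow : ∀ n : ℕ, x ^ n ∈ U := by
    intro n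
    induction n with
    | zero => simpa using h1
    | succ n ih => rw [pow_succ]; exact hmul _ ih _ hx
  let u : Fˣ := Units.mk0 x h0
  have h2 : u ^ Nat.card Fˣ = 1 := pow_card_eq_one'
  have hpos : 0 < Nat.card Fˣ := Nat.card_pos
  have h3 : x ^ Nat.card Fˣ = 1 := by
    have h5 : ((u ^ Nat.card Fˣ : Fˣ) : F) = 1 := by rw [h2]; rfl
    rwa [Units.val_pow_eq_pow_val, Units.val_mk0] at h5
  have h4 : x ^ (Nat.card Fˣ - 1) * x = 1 := by
    rw [← pow_succ, Nat.sub_add_cancel hpos, h3]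
  rw [← eq_inv_of_mul_eq_one_left h4]
  exact hpow _

/-- An additive subgroup closed under multiplication and containing `1`, if proper, has order at most
the square root of `|F|`. -/
theorem sq_card_le_of_proper (U : AddSubgroup F) (h1 : (1 : F) ∈ U)
    (hmul : ∀ a ∈ U, ∀ b ∈ U, a * b ∈ U) {a : F} (ha : a ∉ U) : Nat.card U ^ 2 ≤ Nat.card F := by
  let f : U × U → F := fun p => (p.1 : F) + p.2 * a
  have hf : Function.Injective f := by
    rintro ⟨⟨u, hu⟩, ⟨v, hv⟩⟩ ⟨⟨u', hu'⟩, ⟨v', hv'⟩⟩ he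
    have he' : u + v * a = u' + v' * a := he
    have hvv : v = v' := by
      by_contra hne
      have hne' : v - v' ≠ 0 := sub_ne_zero.mpr hne
      have h5 : a = (u' - u) * (v - v')⁻¹ := by
        field_simp
        linear_combination he'
      apply ha
      rw [h5]
      exact hmul _ (U.sub_mem hu' hu) _ (inv_mem_of_mul_closed U h1 hmul (U.sub_mem hv hv'))
    subst hvv
    have huu : u = u' := by simpa using he'
    subst huu
    rfl
  have := Nat.card_le_card_of_injective f hf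
  rw [Nat.card_prod] at this
  rw [pow_two]
  exact this

/-- Hua's identity: closure under inverses gives closure under multiplication. -/
theorem mul_closed_of_inv_closed (U : AddSubgroup F) (h1 : (1 : F) ∈ U)
    (hinv : ∀ x ∈ U, x⁻¹ ∈ U) : ∀ a ∈ U, ∀ b ∈ U, a * b ∈ U := by
  have hua : ∀ a ∈ U, ∀ b ∈ U, a * a * b ∈ U := by
    intro a ha b hb
    by_cases ha0 : a = 0
    · simp [ha0, U.zero_mem]
    by_cases hb0 : b = 0
    · simp [hb0, U.zero_mem]
    by_cases hab : a * b = 1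
    · rw [mul_assoc, hab, mul_one]
      exact ha
    have he : b⁻¹ - a ≠ 0 := by
      intro h
      apply hab
      have : b⁻¹ = a := sub_eq_zero.mp h
      rw [← this]
      field_simp
    have h2 : b⁻¹ - a ∈ U := U.sub_mem (hinv b hb) ha
    have h3 : a⁻¹ + (b⁻¹ - a)⁻¹ ∈ U := U.add_mem (hinv a ha) (hinv _ h2)
    have h4 := U.sub_mem ha (hinv _ h3)
    have h5 : a - (a⁻¹ + (b⁻¹ - a)⁻¹)⁻¹ = a * a * b := by
      have he' : 1 - a * b ≠ 0 := by
        intro h
        apply hab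
        linear_combination -h
      have h6 : b⁻¹ - a = (1 - a * b) * b⁻¹ := by field_simp
      rw [h6]
      field_simp
      ring
    rwa [h5] at h4
  intro a ha b hb
  by_cases h2 : (2 : F) = 0
  · -- characteristic two: squaring is injective on `U`, hence onto
    have hsq : ∀ x : F, ∀ z : F, (x + z) ^ 2 = x ^ 2 + z ^ 2 := by
      intro x z
      have : (x + z) ^ 2 = x ^ 2 + z ^ 2 + 2 * (x * z) := by ring
      rw [this, h2]
      ring
    let s : U → U := fun x => ⟨(x : F) * x * 1, hua _ x.2 _ h1⟩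
    have hs : Function.Injective s := by
      rintro ⟨x, hx⟩ ⟨z, hz⟩ he
      have he' : x * x * 1 = z * z * 1 := congrArg Subtype.val he
      have h3 : (x + z) ^ 2 = 0 := by
        rw [hsq]
        have : x ^ 2 = z ^ 2 := by
          simpa [pow_two] using he'
        rw [this]
        have : z ^ 2 + z ^ 2 = 2 * z ^ 2 := by ring
        rw [this, h2, zero_mul]
      have h4 : x + z = 0 := by simpa using h3
      have h5 : x = z := by
        have : x - z = x + z - 2 * z := by ring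
        have h6 : x - z = 0 := by rw [this, h4, h2]; ring
        exact sub_eq_zero.mp h6
      exact Subtype.ext h5
    obtain ⟨⟨c, hc⟩, hce⟩ := Finite.surjective_of_injective hs ⟨a, ha⟩
    have hce' : c * c * 1 = a := congrArg Subtype.val hce
    rw [← hce', mul_one]
    exact hua c hc b hb
  · have h3 : (2 : F) ∈ U := by
      have := U.add_mem h1 h1
      rwa [one_add_one_eq_two] at this
    have h4 : (2 : F)⁻¹ ∈ U := hinv _ h3
    have h5 : 2 * (a * b) ∈ U := by
      have e : 2 * (a * b) = (a + b) * (a + b) * 1 - a * a * 1 - b * b * 1 := by ring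
      rw [e]
      exact U.sub_mem (U.sub_mem (hua _ (U.add_mem ha hb) _ h1) (hua _ ha _ h1)) (hua _ hb _ h1)
    have h6 := hua _ h4 _ (U.add_mem h5 h5)
    have e : (2 : F)⁻¹ * (2 : F)⁻¹ * (2 * (a * b) + 2 * (a * b)) = a * b := by
      field_simp
      ring
    rwa [e] at h6

variable {W : Type v} [AddCommGroup W]

/-- The structure: `φ` additive, `ρ` an action of `Fˣ`, the inverse rule. -/
structure IsStr (φ : F →+ W) (ρ : Fˣ →* AddMonoid.End W) : Prop where
  one : φ 1 = 0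
  inv : ∀ x : Fˣ, φ ((x⁻¹ : Fˣ) : F) = -(ρ x⁻¹ (φ x))

variable {φ : F →+ W} {ρ : Fˣ →* AddMonoid.End W}

theorem rho_mul (ρ : Fˣ →* AddMonoid.End W) (ξ η : Fˣ) (w : W) : ρ ξ (ρ η w) = ρ (ξ * η) w := by
  rw [map_mul]
  rfl

theorem rho_one (ρ : Fˣ →* AddMonoid.End W) (w : W) : ρ 1 w = w := by
  rw [map_one]
  rfl

theorem rho_inv_cancel (ρ : Fˣ →* AddMonoid.End W) (ξ : Fˣ) (w : W) : ρ ξ⁻¹ (ρ ξ w) = w := by
  rw [rho_mul, inv_mul_cancel, rho_one]

theorem rho_cancel_inv (ρ : Fˣ →* AddMonoid.End W) (ξ : Fˣ) (w : W) : ρ ξ (ρ ξ⁻¹ w) = w := by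
  rw [rho_mul, mul_inv_cancel, rho_one]

theorem IsStr.inv_ker (h : IsStr φ ρ) : ∀ x ∈ φ.ker, x⁻¹ ∈ φ.ker := by
  intro x hx
  rw [AddMonoidHom.mem_ker] at hx ⊢
  by_cases h0 : x = 0
  · simp [h0]
  have := h.inv (Units.mk0 x h0)
  simp only [Units.val_inv_eq_inv_val, Units.val_mk0] at this
  rw [this, hx]
  simp

theorem IsStr.mul_ker (h : IsStr φ ρ) : ∀ a ∈ φ.ker, ∀ b ∈ φ.ker, a * b ∈ φ.ker :=
  mul_closed_of_inv_closed φ.ker h.one h.inv_ker

theorem IsStr.sq_ker_le (h : IsStr φ ρ) {a : F} (ha : φ a ≠ 0) :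
    Nat.card φ.ker ^ 2 ≤ Nat.card F :=
  sq_card_le_of_proper φ.ker h.one h.mul_ker (a := a) ha

theorem IsStr.two_le_ker (h : IsStr φ ρ) : 2 ≤ Nat.card φ.ker := by
  have h1 : (1 : F) ∈ φ.ker := h.one
  have : Nontrivial φ.ker := ⟨⟨⟨1, h1⟩, 0, fun e => one_ne_zero (congrArg Subtype.val e)⟩⟩
  exact Finite.one_lt_card

/-- The action on the nonzero elements of an invariant subgroup. -/
def actX (ρ : Fˣ →* AddMonoid.End W) (W₁ : AddSubgroup W) (hinv : ∀ ξ, ∀ w ∈ W₁, ρ ξ w ∈ W₁) :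
    MulAction Fˣ {w : W // w ∈ W₁ ∧ w ≠ 0} where
  smul ξ x := ⟨ρ ξ x.1, hinv ξ _ x.2.1, fun h0 => x.2.2 (by
    have := rho_inv_cancel ρ ξ x.1
    rw [h0, map_zero] at this
    exact this.symm)⟩
  one_smul x := Subtype.ext (rho_one ρ x.1)
  mul_smul ξ η x := Subtype.ext (rho_mul ρ ξ η x.1).symm

theorem card_X (W₁ : AddSubgroup W) [Finite W] :
    Nat.card {w : W // w ∈ W₁ ∧ w ≠ 0} + 1 = Nat.card W₁ := by
  classical
  have e1 : {w : W // w ∈ W₁ ∧ w ≠ 0} ≃ {b : W₁ // b ≠ 0} :=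
    { toFun := fun x => ⟨⟨x.1, x.2.1⟩, fun h => x.2.2 (congrArg Subtype.val h)⟩
      invFun := fun b => ⟨b.1.1, b.1.2, fun h => b.2 (Subtype.ext h)⟩
      left_inv := fun _ => rfl
      right_inv := fun _ => rfl }
  rw [Nat.card_congr e1, ← Finite.card_option, Nat.card_congr (Equiv.optionSubtypeNe (0 : W₁))]

variable [Finite W]

theorem IsStr.card_range_le (h : IsStr φ ρ) (W₁ : AddSubgroup W) (hW₁ : φ.range = W₁)
    (hinv : ∀ ξ, ∀ w ∈ W₁, ρ ξ w ∈ W₁)
    (hmin : ∀ W₀ : AddSubgroup W, W₀ ≤ W₁ → (∀ ξ, ∀ w ∈ W₀, ρ ξ w ∈ W₀) → W₀ = ⊥ ∨ W₀ = W₁)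
    (hne : W₁ ≠ ⊥) : Nat.card W₁ ≤ Nat.card φ.ker := by
  classical
  haveI := Fintype.ofFinite F
  set s := Nat.card φ.ker with hs
  set c := Nat.card W₁ with hc
  have hq : s * c = Nat.card F := by
    have h1 := AddSubgroup.card_mul_index φ.ker
    rw [AddSubgroup.index_ker, hW₁] at h1
    exact h1
  have hs2 : 2 ≤ s := h.two_le_ker
  have hc1 : 1 ≤ c := Nat.card_pos
  -- the kernel of the action on `W₁`
  let Y : Subgroup Fˣ :=
    { carrier := {ξ | ∀ w ∈ W₁, ρ ξ w = w}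
      one_mem' := fun w _ => rho_one ρ w
      mul_mem' := by
        intro a b ha hb w hw
        have h1 : ρ b w = w := hb w hw
        rw [← rho_mul, h1]
        exact ha w hw
      inv_mem' := by
        intro a ha w hw
        have h1 : ρ a (ρ a⁻¹ w) = w := rho_cancel_inv ρ a w
        have h2 : ρ a⁻¹ w ∈ W₁ := hinv _ _ hw
        have h3 := ha _ h2
        rw [h1] at h3
        exact h3.symm }
  have hY : ∀ ξ, ξ ∈ Y ↔ ∀ w ∈ W₁, ρ ξ w = w := fun _ => Iff.rfl
  letI act := actX ρ W₁ hinv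
  let X := {w : W // w ∈ W₁ ∧ w ≠ 0}
  have hstab : ∀ x : X, MulAction.stabilizer Fˣ x = Y := by
    intro x
    ext ξ
    rw [MulAction.mem_stabilizer_iff]
    constructor
    · intro hx
      have hx' : ρ ξ x.1 = x.1 := congrArg Subtype.val hx
      let W₀ : AddSubgroup W :=
        { carrier := {w | w ∈ W₁ ∧ ρ ξ w = w}
          zero_mem' := ⟨W₁.zero_mem, map_zero _⟩
          add_mem' := by
            rintro a b ⟨ha, ha'⟩ ⟨hb, hb'⟩
            exact ⟨W₁.add_mem ha hb, by rw [map_add, ha', hb']⟩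
          neg_mem' := by
            rintro a ⟨ha, ha'⟩
            exact ⟨W₁.neg_mem ha, by rw [map_neg, ha']⟩ }
      have hW₀ : W₀ = ⊥ ∨ W₀ = W₁ := by
        apply hmin W₀ (fun w hw => hw.1)
        rintro η w ⟨hw, hw'⟩
        refine ⟨hinv _ _ hw, ?_⟩
        rw [rho_mul, mul_comm, ← rho_mul, hw']
      rcases hW₀ with h0 | h0
      · exfalso
        have h1 : x.1 ∈ W₀ := ⟨x.2.1, hx'⟩
        rw [h0, AddSubgroup.mem_bot] at h1
        exact x.2.2 h1
      · intro w hw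
        rw [← h0] at hw
        exact hw.2
    · intro hξ
      exact Subtype.ext (hξ x.1 x.2.1)
  set n := Y.index with hn
  have hnX : n ∣ Nat.card X := by
    haveI : Finite (Quotient (MulAction.orbitRel Fˣ X)) := Quotient.finite _
    haveI := Fintype.ofFinite (Quotient (MulAction.orbitRel Fˣ X))
    rw [Nat.card_congr (MulAction.selfEquivSigmaOrbitsQuotientStabilizer Fˣ X), Nat.card_sigma]
    apply Finset.dvd_sum
    intro ω _
    rw [hstab]
    rfl
  have hXc : Nat.card X + 1 = c := card_X W₁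
  have hYc : Nat.card Y * n = Nat.card F - 1 := by
    rw [hn, Subgroup.card_mul_index, Nat.card_units]
  have hns : n ∣ s - 1 := by
    have h1 : n ∣ s * (c - 1) := by
      apply Dvd.dvd.mul_left
      have : c - 1 = Nat.card X := by omega
      rw [this]
      exact hnX
    have h2 : n ∣ Nat.card F - 1 := ⟨Nat.card Y, by rw [← hYc, mul_comm]⟩
    have h3 : Nat.card F - 1 = s * (c - 1) + (s - 1) := by
      rw [← hq]
      exact aux1 s c (by omega) hc1
    rw [h3] at h2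
    exact (Nat.dvd_add_right h1).mp h2
  have hnle : n ≤ s - 1 := Nat.le_of_dvd (by omega) hns
  -- `Y` is small
  have hYmem : ∀ ξ : Y, φ ((ξ : Fˣ) + ((ξ : Fˣ)⁻¹ : Fˣ)) = 0 := by
    intro ξ
    rw [map_add, h.inv (ξ : Fˣ)]
    have h1 : φ (ξ : Fˣ) ∈ W₁ := by
      rw [← hW₁]
      exact ⟨_, rfl⟩
    have h2 : ρ (ξ : Fˣ)⁻¹ (φ (ξ : Fˣ)) = φ (ξ : Fˣ) := (Y.inv_mem ξ.2) _ h1
    rw [h2]
    simp
  have hYle : Nat.card Y ≤ 2 * s := by
    haveI := Fintype.ofFinite Y
    haveI := Fintype.ofFinite φ.ker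
    let f : Y → φ.ker := fun ξ => ⟨_, hYmem ξ⟩
    have := Finset.card_le_mul_card_image_of_maps_to (f := f) (s := Finset.univ) (t := Finset.univ)
      (fun _ _ => Finset.mem_univ _) 2 ?_
    · simpa [Nat.card_eq_fintype_card, hs] using this
    · intro b _
      by_cases hb : ∃ y₀ : Y, f y₀ = b
      · obtain ⟨y₀, hy₀⟩ := hb
        have hsub : (Finset.univ.filter fun a : Y => f a = b) ⊆ {y₀, y₀⁻¹} := by
          intro z hz
          have hz' : f z = f y₀ := by
            rw [hy₀]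
            exact (Finset.mem_filter.mp hz).2
          have hz2 : ((z : Fˣ) : F) + (((z : Fˣ)⁻¹ : Fˣ) : F) = ((y₀ : Fˣ) : F) + (((y₀ : Fˣ)⁻¹ : Fˣ) : F) :=
            congrArg Subtype.val hz'
          simp only [Units.val_inv_eq_inv_val] at hz2
          have hz0 : ((z : Fˣ) : F) ≠ 0 := (z : Fˣ).ne_zero
          have hy0 : ((y₀ : Fˣ) : F) ≠ 0 := (y₀ : Fˣ).ne_zero
          have hfac : (((z : Fˣ) : F) - (y₀ : Fˣ)) * (((z : Fˣ) : F) * (y₀ : Fˣ) - 1) = 0 := by
            field_simp at hz2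
            linear_combination hz2
          rcases mul_eq_zero.mp hfac with h1 | h1
          · have : z = y₀ := Subtype.ext (Units.ext (sub_eq_zero.mp h1))
            simp [this]
          · have h2 : ((z : Fˣ) : F) = (((y₀ : Fˣ)⁻¹ : Fˣ) : F) := by
              rw [Units.val_inv_eq_inv_val]
              exact eq_inv_of_mul_eq_one_left (sub_eq_zero.mp h1)
            have : z = y₀⁻¹ := Subtype.ext (Units.ext h2)
            simp [this]
        exact (Finset.card_le_card hsub).trans Finset.card_le_two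
      · have : (Finset.univ.filter fun a : Y => f a = b) = ∅ := by
          apply Finset.filter_eq_empty_iff.mpr
          intro a _ ha
          exact hb ⟨a, ha⟩
        rw [this]
        simp
  -- arithmetic
  have hlt : c < 2 * s := by
    by_contra hnot
    have h1 : 2 * s ≤ c := not_lt.mp hnot
    have h2 : Nat.card F - 1 ≤ 2 * s * (s - 1) := by
      rw [← hYc]
      exact Nat.mul_le_mul hYle hnle
    rw [← hq] at h2
    exact aux2 s c hs2 h1 h2
  obtain ⟨p, hp⟩ := CharP.exists F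
  obtain ⟨k, hpp, hk⟩ := FiniteField.card F p
  have hqp : Nat.card F = p ^ (k : ℕ) := by rw [Nat.card_eq_fintype_card, hk]
  obtain ⟨e, _, he⟩ := (Nat.dvd_prime_pow hpp).mp (show s ∣ p ^ (k : ℕ) from ⟨c, by rw [hq, hqp]⟩)
  obtain ⟨f, _, hf⟩ := (Nat.dvd_prime_pow hpp).mp (show c ∣ p ^ (k : ℕ) from ⟨s, by rw [mul_comm, hq, hqp]⟩)
  rw [he, hf] at hlt ⊢
  have h2p : 2 * p ^ e ≤ p ^ (e + 1) := by
    rw [pow_succ, mul_comm]
    exact Nat.mul_le_mul_left _ hpp.two_le
  have hfe : f < e + 1 := (Nat.pow_lt_pow_iff_right hpp.one_lt).mp (lt_of_lt_of_le hlt h2p)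
  exact Nat.pow_le_pow_right hpp.pos (by omega)

omit [Finite W] in
theorem retract_aux {p : ℕ} [Fact p.Prime] [Module (ZMod p) W] (S : Submodule (ZMod p) W) :
    ∃ π : W →+ W, (∀ w, π w ∈ S) ∧ (∀ w ∈ S, π w = w) := by
  obtain ⟨T, hT⟩ := Submodule.exists_isCompl S
  let pr : W →ₗ[ZMod p] ↥S := Submodule.projectionOnto S T hT
  have hpr : ∀ x : S, pr x = x := fun x => Submodule.projectionOnto_apply_left hT x
  let i : W →+ W := { toFun := fun w => (pr w : W), map_zero' := by simp, map_add' := by simp }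
  refine ⟨i, ?_, ?_⟩
  · intro w
    exact (pr w).2
  · intro w hw
    have := hpr ⟨w, hw⟩
    exact congrArg Subtype.val this

omit [Finite W] in
/-- A retraction onto a subgroup of an elementary abelian group. -/
theorem exists_add_retract {p : ℕ} [Fact p.Prime] (hexp : ∀ w : W, p • w = 0) (W₁ : AddSubgroup W) :
    ∃ π : W →+ W, (∀ w, π w ∈ W₁) ∧ (∀ w ∈ W₁, π w = w) := by
  letI : Module (ZMod p) W := AddCommGroup.zmodModule hexp
  exact retract_aux (AddSubgroup.toZModSubmodule p W₁)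

/-- Maschke: an equivariant retraction. -/
theorem exists_equivariant_retract {p : ℕ} [Fact p.Prime] (hexp : ∀ w : W, p • w = 0)
    (hF : ∀ w : W, Nat.card F • w = 0) (ρ : Fˣ →* AddMonoid.End W) (W₁ : AddSubgroup W)
    (hinv : ∀ ξ, ∀ w ∈ W₁, ρ ξ w ∈ W₁) :
    ∃ π : W →+ W, (∀ w, π w ∈ W₁) ∧ (∀ w ∈ W₁, π w = w) ∧ ∀ ξ w, π (ρ ξ w) = ρ ξ (π w) := by
  classical
  haveI := Fintype.ofFinite Fˣ
  obtain ⟨π₀, h1, h2⟩ := exists_add_retract hexp W₁
  let f : Fˣ → (W →+ W) := fun ξ =>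
    AddMonoidHom.comp (show W →+ W from ρ ξ⁻¹) (π₀.comp (show W →+ W from ρ ξ))
  have hf : ∀ ξ w, f ξ w = ρ ξ⁻¹ (π₀ (ρ ξ w)) := fun _ _ => rfl
  let π : W →+ W := -∑ ξ, f ξ
  have hπ : ∀ w, π w = -∑ ξ, ρ ξ⁻¹ (π₀ (ρ ξ w)) := by
    intro w
    simp only [π, AddMonoidHom.neg_apply, AddMonoidHom.finset_sum_apply, hf]
  refine ⟨π, ?_, ?_, ?_⟩
  · intro w
    rw [hπ]
    exact W₁.neg_mem (W₁.sum_mem fun ξ _ => hinv _ _ (h1 _))
  · intro w hw
    rw [hπ]
    have h3 : ∀ ξ ∈ (Finset.univ : Finset Fˣ), ρ ξ⁻¹ (π₀ (ρ ξ w)) = w := by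
      intro ξ _
      rw [h2 _ (hinv _ _ hw), rho_inv_cancel]
    rw [Finset.sum_congr rfl h3, Finset.sum_const, Finset.card_univ, ← Nat.card_eq_fintype_card,
      Nat.card_units]
    have h4 := hF w
    have hpos : 1 ≤ Nat.card F := Nat.card_pos
    have h5 : Nat.card F = (Nat.card F - 1) + 1 := by omega
    rw [h5, add_smul, one_smul] at h4
    exact neg_eq_of_add_eq_zero_right h4
  · intro ξ w
    rw [hπ, hπ, map_neg, map_sum]
    congr 1
    apply Fintype.sum_equiv (Equiv.mulRight ξ)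
    intro η
    simp only [Equiv.coe_mulRight]
    rw [rho_mul ρ η ξ w, rho_mul ρ ξ (η * ξ)⁻¹, mul_inv_rev, mul_inv_cancel_left]

theorem IsStr.card_sq_le (h : IsStr φ ρ) (hsurj : Function.Surjective φ) :
    Nat.card W ^ 2 ≤ Nat.card F := by
  classical
  haveI := Fintype.ofFinite F
  by_cases hW : Subsingleton W
  · rw [Nat.card_unique, one_pow]
    exact Nat.card_pos
  haveI : Nontrivial W := not_subsingleton_iff_nontrivial.mp hW
  obtain ⟨p, hp⟩ := CharP.exists F
  obtain ⟨k, hpp, hk⟩ := FiniteField.card F p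
  haveI : Fact p.Prime := ⟨hpp⟩
  have hexp : ∀ w : W, p • w = 0 := by
    intro w
    obtain ⟨x, rfl⟩ := hsurj w
    rw [← map_nsmul, nsmul_eq_mul, CharP.cast_eq_zero, zero_mul, map_zero]
  have hF : ∀ w : W, Nat.card F • w = 0 := by
    intro w
    have : Nat.card F = p ^ (k - 1 : ℕ) * p := by
      rw [Nat.card_eq_fintype_card, hk, ← pow_succ]
      congr 1
      have := k.pos
      omega
    rw [this, mul_smul, hexp, smul_zero]
  -- a minimal invariant subgroup
  let S : Set (AddSubgroup W) := {W₀ | W₀ ≠ ⊥ ∧ ∀ ξ, ∀ w ∈ W₀, ρ ξ w ∈ W₀}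
  have hS : S.Nonempty := ⟨⊤, top_ne_bot, fun _ _ _ => AddSubgroup.mem_top _⟩
  haveI : Finite (AddSubgroup W) := Finite.of_injective (fun A : AddSubgroup W => (A : Set W))
    SetLike.coe_injective
  obtain ⟨W₁, hW₁S, hW₁min⟩ := (wellFounded_lt : WellFounded (α := AddSubgroup W) (· < ·)).has_min S hS
  have hW₁ne : W₁ ≠ ⊥ := hW₁S.1
  have hinv : ∀ ξ, ∀ w ∈ W₁, ρ ξ w ∈ W₁ := hW₁S.2
  have hmin : ∀ W₀ : AddSubgroup W, W₀ ≤ W₁ → (∀ ξ, ∀ w ∈ W₀, ρ ξ w ∈ W₀) → W₀ = ⊥ ∨ W₀ = W₁ := by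
    intro W₀ hle hW₀
    by_cases h0 : W₀ = ⊥
    · exact Or.inl h0
    · right
      by_contra hne
      exact hW₁min W₀ ⟨h0, hW₀⟩ (lt_of_le_of_ne hle hne)
  obtain ⟨π, hπ1, hπ2, hπ3⟩ := exists_equivariant_retract (F := F) hexp hF ρ W₁ hinv
  let φ₁ : F →+ W := π.comp φ
  have hφ₁ : ∀ x, φ₁ x = π (φ x) := fun _ => rfl
  have h₁ : IsStr φ₁ ρ := by
    constructor
    · rw [hφ₁, h.one, map_zero]
    · intro x
      rw [hφ₁, h.inv, map_neg, hπ3, hφ₁]
  have hrange : φ₁.range = W₁ := by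
    ext w
    constructor
    · rintro ⟨x, rfl⟩
      exact hπ1 _
    · intro hw
      obtain ⟨x, rfl⟩ := hsurj w
      exact ⟨x, by rw [hφ₁, hπ2 _ hw]⟩
  have hb := h₁.card_range_le W₁ hrange hinv hmin hW₁ne
  obtain ⟨w₁, hw₁, hw₁0⟩ : ∃ w ∈ W₁, w ≠ 0 := by
    by_contra hcon
    push Not at hcon
    exact hW₁ne ((AddSubgroup.eq_bot_iff_forall _).mpr hcon)
  obtain ⟨a₁, rfl⟩ := hsurj w₁
  have hsq₁ : Nat.card φ₁.ker ^ 2 ≤ Nat.card F := h₁.sq_ker_le (a := a₁) (by
    rw [hφ₁, hπ2 _ hw₁]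
    exact hw₁0)
  have hq : Nat.card φ₁.ker * Nat.card W₁ = Nat.card F := by
    have h1 := AddSubgroup.card_mul_index φ₁.ker
    rw [AddSubgroup.index_ker, hrange] at h1
    exact h1
  have hcpos : 0 < Nat.card W₁ := Nat.card_pos
  have hspos : 0 < Nat.card φ₁.ker := Nat.card_pos
  have hceq : Nat.card φ₁.ker = Nat.card W₁ := by
    apply le_antisymm _ hb
    rw [← hq, pow_two] at hsq₁
    exact Nat.le_of_mul_le_mul_left hsq₁ hspos
  have hqc : Nat.card W₁ * Nat.card W₁ = Nat.card F := by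
    rw [← hq, hceq]
  -- the complementary part
  let φ₂ : F →+ W := φ - φ₁
  have hφ₂ : ∀ x, φ₂ x = φ x - π (φ x) := fun _ => rfl
  have h₂ : IsStr φ₂ ρ := by
    constructor
    · rw [hφ₂, h.one, map_zero, sub_zero]
    · intro x
      rw [hφ₂, h.inv, map_neg, hπ3, hφ₂, map_sub]
      abel
  have hzero : ∀ a, φ₂ a = 0 := by
    by_contra hcon
    push Not at hcon
    obtain ⟨a, ha⟩ := hcon
    have hsq₂ := h₂.sq_ker_le ha
    choose l hl using hsurj
    have hone : φ 1 = 0 := h.one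
    let g : W₁ × Bool → φ₂.ker := fun z =>
      ⟨l z.1 + (if z.2 then 1 else 0), by
        rw [AddMonoidHom.mem_ker, hφ₂, map_add, hl, map_add, hπ2 _ z.1.2]
        cases z.2 <;> simp [hone]⟩
    have hg : Function.Injective g := by
      rintro ⟨w, b⟩ ⟨w', b'⟩ he
      have he' : l w + (if b then (1 : F) else 0) = l w' + (if b' then (1 : F) else 0) :=
        congrArg Subtype.val he
      have h3 := congrArg φ he'
      rw [map_add, map_add, hl, hl] at h3
      have h4 : φ (if b then (1 : F) else 0) = 0 := by cases b <;> simp [hone]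
      have h5 : φ (if b' then (1 : F) else 0) = 0 := by cases b' <;> simp [hone]
      rw [h4, h5, add_zero, add_zero] at h3
      have h6 : w = w' := Subtype.ext h3
      subst h6
      have h7 : (if b then (1 : F) else 0) = (if b' then (1 : F) else 0) := add_left_cancel he'
      have h8 : b = b' := by
        cases b <;> cases b' <;> simp_all
      subst h8
      rfl
    have h9 := Nat.card_le_card_of_injective g hg
    rw [Nat.card_prod, Nat.card_eq_fintype_card (α := Bool), Fintype.card_bool] at h9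
    have h10 : (Nat.card W₁ * 2) ^ 2 ≤ Nat.card F := le_trans (Nat.pow_le_pow_left h9 2) hsq₂
    rw [← hqc] at h10
    nlinarith
  have htop : W₁ = ⊤ := by
    rw [eq_top_iff]
    intro w _
    obtain ⟨x, rfl⟩ := hsurj w
    have : φ x = π (φ x) := sub_eq_zero.mp (hzero x)
    rw [this]
    exact hπ1 _
  rw [htop, Nat.card_congr (AddSubgroup.topEquiv (G := W)).toEquiv] at hqc
  rw [pow_two, hqc]

/-- The form used at the group level. -/
theorem card_sq_le_of_beta (β : F → F → W) (ρ : Fˣ →* AddMonoid.End W)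
    (hadd1 : ∀ x x' y, β (x + x') y = β x y + β x' y)
    (hadd2 : ∀ x y y', β x (y + y') = β x y + β x y')
    (halt : ∀ x, β x x = 0)
    (heq : ∀ (ξ : Fˣ) x y, ρ ξ (β x y) = β (ξ * x) (ξ * y))
    (hsurj : ∀ w, ∃ y, β 1 y = w) : Nat.card W ^ 2 ≤ Nat.card F := by
  let φ : F →+ W := AddMonoidHom.mk' (β 1) (hadd2 1)
  have hφ : ∀ x, φ x = β 1 x := fun _ => rfl
  have hanti : ∀ x y, β x y = - β y x := by
    intro x y
    have h1 := halt (x + y)
    rw [hadd1, hadd2, hadd2, halt, halt, zero_add, add_zero] at h1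
    exact eq_neg_of_add_eq_zero_left h1
  have hstr : IsStr φ ρ := by
    constructor
    · exact halt 1
    · intro x
      have e1 : ((x⁻¹ : Fˣ) : F) * 1 = ((x⁻¹ : Fˣ) : F) := mul_one _
      have e2 : ((x⁻¹ : Fˣ) : F) * (x : F) = 1 := by simp
      rw [hφ, hφ, heq, e1, e2, hanti ((x⁻¹ : Fˣ) : F) 1, neg_neg]
  exact hstr.card_sq_le (fun w => hsurj w)

variable {T : Type w} [AddCommGroup T] [Finite T]

/-- The third level. -/
theorem level3 (ρW : Fˣ →* AddMonoid.End W) (ρT : Fˣ →* AddMonoid.End T) (γ : F → W → T)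
    (hadd : ∀ x x' w, γ (x + x') w = γ x w + γ x' w) (h0 : ∀ x, γ x 0 = 0)
    (heq : ∀ (ξ : Fˣ) x w, ρT ξ (γ x w) = γ (ξ * x) (ρW ξ w))
    (hW : Nat.card W ^ 2 ≤ Nat.card F) {x₀ : F} {w₀ : W} (hne : γ x₀ w₀ ≠ 0) :
    Nat.card F ≤ Nat.card T := by
  classical
  have hw₀ : w₀ ≠ 0 := by
    rintro rfl
    exact hne (h0 _)
  let g : F →+ T := AddMonoidHom.mk' (fun x => γ x w₀) (fun x x' => hadd x x' w₀)
  have hg : ∀ x, g x = γ x w₀ := fun _ => rfl
  let A := g.ker
  let R : AddSubgroup F :=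
    { carrier := {z | ∀ a ∈ A, z * a ∈ A}
      zero_mem' := by
        intro a _
        rw [zero_mul]
        exact A.zero_mem
      add_mem' := by
        intro x z hx hz a ha
        rw [add_mul]
        exact A.add_mem (hx a ha) (hz a ha)
      neg_mem' := by
        intro x hx a ha
        rw [neg_mul]
        exact A.neg_mem (hx a ha) }
  have hR1 : (1 : F) ∈ R := by
    intro a ha
    rwa [one_mul]
  have hRmul : ∀ a ∈ R, ∀ b ∈ R, a * b ∈ R := by
    intro a ha b hb c hc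
    rw [mul_assoc]
    exact ha _ (hb _ hc)
  have hinv : ∀ ξ : Fˣ, ∀ w ∈ (⊤ : AddSubgroup W), ρW ξ w ∈ (⊤ : AddSubgroup W) :=
    fun _ _ _ => AddSubgroup.mem_top _
  letI act := actX ρW ⊤ hinv
  let x₁ : {w : W // w ∈ (⊤ : AddSubgroup W) ∧ w ≠ 0} := ⟨w₀, AddSubgroup.mem_top _, hw₀⟩
  let Y := MulAction.stabilizer Fˣ x₁
  have hYmem : ∀ ξ : Y, ρW ξ w₀ = w₀ := fun ξ => congrArg Subtype.val ξ.2
  have hYR : ∀ ξ : Y, (((ξ : Fˣ) : F)) ∈ R := by
    intro ξ a ha
    have ha' : γ a w₀ = 0 := ha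
    show γ _ w₀ = 0
    have h1 := heq ξ a w₀
    rw [hYmem, ha', map_zero] at h1
    exact h1.symm
  have hindex : Y.index ≤ Nat.card W - 1 := by
    rw [MulAction.index_stabilizer]
    have h1 : (MulAction.orbit Fˣ x₁).ncard ≤ Nat.card {w : W // w ∈ (⊤ : AddSubgroup W) ∧ w ≠ 0} :=
      Set.ncard_le_card _
    have h2 := card_X (⊤ : AddSubgroup W)
    rw [Nat.card_congr (AddSubgroup.topEquiv (G := W)).toEquiv] at h2
    omega
  have hYc : Nat.card Y * Y.index = Nat.card F - 1 := by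
    rw [Subgroup.card_mul_index, Nat.card_units]
  have hRc : Nat.card Y + 1 ≤ Nat.card R := by
    let j : Option Y → R := fun o => match o with
      | none => 0
      | some ξ => ⟨_, hYR ξ⟩
    have hj : Function.Injective j := by
      rintro (_ | ξ) (_ | ξ') he
      · rfl
      · exfalso
        have : (0 : F) = ((ξ' : Fˣ) : F) := congrArg Subtype.val he
        exact (ξ' : Fˣ).ne_zero this.symm
      · exfalso
        have : ((ξ : Fˣ) : F) = 0 := congrArg Subtype.val he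
        exact (ξ : Fˣ).ne_zero this
      · have : ((ξ : Fˣ) : F) = ((ξ' : Fˣ) : F) := congrArg Subtype.val he
        have h2 : ξ = ξ' := Subtype.ext (Units.ext this)
        rw [h2]
    have := Nat.card_le_card_of_injective j hj
    rwa [Finite.card_option] at this
  have hW2 : 2 ≤ Nat.card W := by
    haveI : Nontrivial W := ⟨⟨w₀, 0, hw₀⟩⟩
    exact Finite.one_lt_card
  have hYpos : 0 < Nat.card Y := Nat.card_pos
  have hRtop : ∀ a : F, a ∈ R := by
    by_contra hcon
    push Not at hcon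
    obtain ⟨a, ha⟩ := hcon
    have hsq := sq_card_le_of_proper R hR1 hRmul ha
    have hprod : Nat.card R * Nat.card W ≤ Nat.card F := by
      have h1 : (Nat.card R * Nat.card W) ^ 2 ≤ Nat.card F ^ 2 := by
        rw [mul_pow, pow_two (Nat.card F)]
        exact Nat.mul_le_mul hsq hW
      exact (Nat.pow_le_pow_iff_left (by norm_num)).mp h1
    have h1 : Nat.card F - 1 ≤ (Nat.card R - 1) * (Nat.card W - 1) := by
      rw [← hYc]
      exact Nat.mul_le_mul (by omega) hindex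
    obtain ⟨r', hr'⟩ : ∃ r', Nat.card R = r' + 1 := ⟨Nat.card R - 1, by omega⟩
    obtain ⟨c', hc'⟩ : ∃ c', Nat.card W = c' + 1 := ⟨Nat.card W - 1, by omega⟩
    rw [hr', hc'] at h1 hprod
    simp only [Nat.add_sub_cancel] at h1
    have hr1 : 1 ≤ r' := by omega
    have hc1 : 1 ≤ c' := by omega
    have h2 : (r' + 1) * (c' + 1) = r' * c' + r' + c' + 1 := by ring
    omega
  have hAbot : ∀ a ∈ A, a = 0 := by
    intro a ha
    by_contra ha0
    have h1 := hRtop (x₀ * a⁻¹) a ha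
    rw [mul_assoc, inv_mul_cancel₀ ha0, mul_one] at h1
    exact hne h1
  have hinj : Function.Injective g := (injective_iff_map_eq_zero g).mpr (fun a ha => hAbot a ha)
  exact Nat.card_le_card_of_injective g hinj

end Field

section FieldBuild

/-- A commutative group acting transitively on the nonzero elements of a finite abelian group makes it
a field. -/
theorem exists_field {V : Type u} [AddCommGroup V] [Finite V] {Γ : Type v} [Group Γ]
    (a : Γ →* AddMonoid.End V) (hcomm : ∀ g h, a g * a h = a h * a g)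
    (htrans : ∀ v w : V, v ≠ 0 → w ≠ 0 → ∃ g, a g v = w) (v₀ : V) (hv₀ : v₀ ≠ 0) :
    ∃ (F : Type u) (_ : Field F) (_ : Finite F) (e : F ≃+ V) (χ : Γ →* Fˣ),
      (∀ g x, a g (e x) = e ((χ g : F) * x)) ∧ Function.Surjective χ ∧
      (∀ g, χ g = 1 ↔ a g = 1) ∧ e 1 = v₀ := by
  classical
  let S : Subring (AddMonoid.End V) := Subring.centralizer (Set.range a)
  have hmemS : ∀ f : AddMonoid.End V, f ∈ S ↔ ∀ g, a g * f = f * a g := by
    intro f
    rw [Subring.mem_centralizer_iff]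
    constructor
    · intro h g
      exact h _ ⟨g, rfl⟩
    · rintro h _ ⟨g, rfl⟩
      exact h g
  have haS : ∀ g, a g ∈ S := fun g => (hmemS _).mpr (fun h => hcomm h g)
  have hcommS : ∀ f ∈ S, ∀ g, ∀ v, a g (f v) = f (a g v) := by
    intro f hf g v
    have := (hmemS f).mp hf g
    exact DFunLike.congr_fun this v
  have hK1 : ∀ f ∈ S, f v₀ = 0 → f = 0 := by
    intro f hf h0
    ext w
    by_cases hw : w = 0
    · simp [hw]
    · obtain ⟨g, rfl⟩ := htrans v₀ w hv₀ hw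
      rw [← hcommS f hf, h0, map_zero]
      rfl
  have hK3 : ∀ f ∈ S, f ≠ 0 → ∃ g, f = a g := by
    intro f hf hne
    have h1 : f v₀ ≠ 0 := fun h => hne (hK1 f hf h)
    obtain ⟨g, hg⟩ := htrans v₀ (f v₀) hv₀ h1
    refine ⟨g, ?_⟩
    have h2 := hK1 (f - a g) (S.sub_mem hf (haS g)) (by
      show f v₀ - a g v₀ = 0
      rw [hg, sub_self])
    exact sub_eq_zero.mp h2
  have hnt : (0 : S) ≠ 1 := by
    intro h
    have h1 : (0 : AddMonoid.End V) = 1 := congrArg Subtype.val h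
    have h2 : (0 : AddMonoid.End V) v₀ = (1 : AddMonoid.End V) v₀ := by rw [h1]
    exact hv₀ h2.symm
  have hfield : IsField S := by
    refine ⟨⟨0, 1, hnt⟩, ?_, ?_⟩
    · rintro ⟨x, hx⟩ ⟨z, hz⟩
      apply Subtype.ext
      show x * z = z * x
      by_cases hx0 : x = 0
      · simp [hx0]
      by_cases hz0 : z = 0
      · simp [hz0]
      obtain ⟨g, rfl⟩ := hK3 x hx hx0
      obtain ⟨h, rfl⟩ := hK3 z hz hz0
      exact hcomm g h
    · rintro ⟨x, hx⟩ hne
      have hx0 : x ≠ 0 := fun h => hne (Subtype.ext h)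
      obtain ⟨g, rfl⟩ := hK3 x hx hx0
      refine ⟨⟨a g⁻¹, haS _⟩, ?_⟩
      apply Subtype.ext
      show a g * a g⁻¹ = 1
      rw [← map_mul, mul_inv_cancel, map_one]
  letI instF : Field S := hfield.toField
  let ev : S →+ V :=
    { toFun := fun f => (f : AddMonoid.End V) v₀
      map_zero' := rfl
      map_add' := fun _ _ => rfl }
  have hev : ∀ f : S, ev f = (f : AddMonoid.End V) v₀ := fun _ => rfl
  have hevinj : Function.Injective ev := by
    rw [injective_iff_map_eq_zero]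
    intro f hf
    exact Subtype.ext (hK1 f f.2 hf)
  have hevsurj : Function.Surjective ev := by
    intro w
    by_cases hw : w = 0
    · exact ⟨0, by rw [hw, map_zero]⟩
    · obtain ⟨g, rfl⟩ := htrans v₀ w hv₀ hw
      exact ⟨⟨a g, haS g⟩, rfl⟩
  haveI : Finite S := Finite.of_injective ev hevinj
  let e : S ≃+ V := AddEquiv.ofBijective ev ⟨hevinj, hevsurj⟩
  have he : ∀ f : S, e f = (f : AddMonoid.End V) v₀ := fun _ => rfl
  let χ : Γ →* Sˣ :=
    { toFun := fun g =>
        { val := ⟨a g, haS g⟩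
          inv := ⟨a g⁻¹, haS g⁻¹⟩
          val_inv := by
            apply Subtype.ext
            show a g * a g⁻¹ = 1
            rw [← map_mul, mul_inv_cancel, map_one]
          inv_val := by
            apply Subtype.ext
            show a g⁻¹ * a g = 1
            rw [← map_mul, inv_mul_cancel, map_one] }
      map_one' := by
        apply Units.ext
        apply Subtype.ext
        exact map_one a
      map_mul' := by
        intro g h
        apply Units.ext
        apply Subtype.ext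
        exact map_mul a g h }
  have hχ : ∀ g, (((χ g : Sˣ) : S) : AddMonoid.End V) = a g := fun _ => rfl
  refine ⟨S, instF, inferInstance, e, χ, ?_, ?_, ?_, ?_⟩
  · intro g x
    rw [he, he]
    rfl
  · intro ξ
    have h1 : ((ξ : S) : AddMonoid.End V) ≠ 0 := by
      intro h
      exact ξ.ne_zero (Subtype.ext h)
    obtain ⟨g, hg⟩ := hK3 _ (ξ : S).2 h1
    refine ⟨g, ?_⟩
    apply Units.ext
    apply Subtype.ext
    exact hg.symm
  · intro g
    constructor
    · intro h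
      have := congrArg (fun u : Sˣ => (((u : Sˣ) : S) : AddMonoid.End V)) h
      exact this
    · intro h
      apply Units.ext
      apply Subtype.ext
      exact h
  · rw [he]
    rfl

end FieldBuild

section Sections

open scoped commutatorElement

variable {G : Type u} [Group G] [Finite G]

/-- Sections of a group: an additive model of `A/B` with the conjugation action. -/
theorem exists_sec (A B : Subgroup G) [A.Normal] [B.Normal] (hBA : B ≤ A)
    (hcomm : ∀ a ∈ A, ∀ a' ∈ A, ⁅a, a'⁆ ∈ B) :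
    ∃ (W : Type u) (_ : AddCommGroup W) (_ : Finite W) (Λ : G → W) (act : G →* AddMonoid.End W),
      (∀ x ∈ A, ∀ x' ∈ A, Λ (x * x') = Λ x + Λ x') ∧ (∀ x ∈ A, Λ x = 0 ↔ x ∈ B) ∧
      (∀ w, ∃ x ∈ A, Λ x = w) ∧ (∀ g, ∀ x ∈ A, act g (Λ x) = Λ (g * x * g⁻¹)) ∧
      Nat.card A = Nat.card W * Nat.card B := by
  classical
  let N : Subgroup A := B.subgroupOf A
  haveI hN : N.Normal := inferInstance
  have hcq : ∀ a b : A ⧸ N, a * b = b * a := by
    intro a b
    obtain ⟨a, rfl⟩ := QuotientGroup.mk'_surjective N a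
    obtain ⟨b, rfl⟩ := QuotientGroup.mk'_surjective N b
    rw [← map_mul, ← map_mul, ← mul_inv_eq_one, ← map_inv, ← map_mul, ← MonoidHom.mem_ker,
      QuotientGroup.ker_mk']
    have := hcomm a a.2 b b.2
    rw [commutatorElement_def] at this
    rw [Subgroup.mem_subgroupOf]
    simpa [mul_assoc] using this
  letI instC : CommGroup (A ⧸ N) := { (inferInstance : Group (A ⧸ N)) with mul_comm := hcq }
  let W := Additive (A ⧸ N)
  let Λ : G → W := fun x => if h : x ∈ A then Additive.ofMul (QuotientGroup.mk' N ⟨x, h⟩) else 0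
  have hΛ : ∀ x (h : x ∈ A), Λ x = Additive.ofMul (QuotientGroup.mk' N ⟨x, h⟩) := by
    intro x h
    simp only [Λ, dif_pos h]
  have hadd : ∀ x ∈ A, ∀ x' ∈ A, Λ (x * x') = Λ x + Λ x' := by
    intro x hx x' hx'
    rw [hΛ _ hx, hΛ _ hx', hΛ _ (A.mul_mem hx hx'), ← ofMul_mul, ← map_mul]
    rfl
  have hzero : ∀ x ∈ A, Λ x = 0 ↔ x ∈ B := by
    intro x hx
    rw [hΛ _ hx]
    constructor
    · intro h
      have h1 : QuotientGroup.mk' N ⟨x, hx⟩ = 1 := h
      rw [← MonoidHom.mem_ker, QuotientGroup.ker_mk', Subgroup.mem_subgroupOf] at h1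
      exact h1
    · intro h
      show QuotientGroup.mk' N ⟨x, hx⟩ = 1
      rw [← MonoidHom.mem_ker, QuotientGroup.ker_mk', Subgroup.mem_subgroupOf]
      exact h
  have hsurj : ∀ w, ∃ x ∈ A, Λ x = w := by
    intro w
    obtain ⟨⟨x, hx⟩, hxe⟩ := QuotientGroup.mk'_surjective N (Additive.toMul w)
    refine ⟨x, hx, ?_⟩
    rw [hΛ _ hx, hxe]
    rfl
  choose l hlA hl using hsurj
  have heq : ∀ x ∈ A, ∀ x' ∈ A, Λ x = Λ x' → x⁻¹ * x' ∈ B := by
    intro x hx x' hx' he
    rw [← hzero _ (A.mul_mem (A.inv_mem hx) hx'), hadd _ (A.inv_mem hx) _ hx']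
    have h1 : Λ x⁻¹ + Λ x = 0 := by
      rw [← hadd _ (A.inv_mem hx) _ hx, inv_mul_cancel, hzero _ A.one_mem]
      exact B.one_mem
    rw [← he, h1]
  have hconj : ∀ g, ∀ x ∈ A, ∀ x' ∈ A, Λ x = Λ x' → Λ (g * x * g⁻¹) = Λ (g * x' * g⁻¹) := by
    intro g x hx x' hx' he
    have h1 := heq x hx x' hx' he
    have hgx : g * x * g⁻¹ ∈ A := ‹A.Normal›.conj_mem x hx g
    have hgx' : g * x' * g⁻¹ ∈ A := ‹A.Normal›.conj_mem x' hx' g
    have h2 : (g * x * g⁻¹)⁻¹ * (g * x' * g⁻¹) = g * (x⁻¹ * x') * g⁻¹ := by group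
    have h3 : (g * x * g⁻¹)⁻¹ * (g * x' * g⁻¹) ∈ B := by
      rw [h2]
      exact ‹B.Normal›.conj_mem _ h1 g
    have h4 : Λ ((g * x * g⁻¹)⁻¹ * (g * x' * g⁻¹)) = 0 := (hzero _ (hBA h3)).mpr h3
    have h5 : g * x' * g⁻¹ = (g * x * g⁻¹) * ((g * x * g⁻¹)⁻¹ * (g * x' * g⁻¹)) := by group
    rw [h5, hadd _ hgx _ (hBA h3), h4, add_zero]
  let f : G → (W →+ W) := fun g =>
    { toFun := fun w => Λ (g * l w * g⁻¹)
      map_zero' := by
        have h1 : Λ (l 0) = Λ 1 := by
          rw [hl]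
          exact ((hzero _ A.one_mem).mpr B.one_mem).symm
        rw [hconj g _ (hlA 0) _ A.one_mem h1]
        simpa using (hzero _ A.one_mem).mpr B.one_mem
      map_add' := by
        intro w w'
        have h1 : Λ (l (w + w')) = Λ (l w * l w') := by
          rw [hl, hadd _ (hlA _) _ (hlA _), hl, hl]
        rw [hconj g _ (hlA _) _ (A.mul_mem (hlA _) (hlA _)) h1, ← hadd _ (‹A.Normal›.conj_mem _ (hlA _) g) _
          (‹A.Normal›.conj_mem _ (hlA _) g)]
        congr 1
        group }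
  have hf : ∀ g, ∀ x ∈ A, f g (Λ x) = Λ (g * x * g⁻¹) := by
    intro g x hx
    exact hconj g _ (hlA _) _ hx (hl _)
  let act : G →* AddMonoid.End W :=
    { toFun := f
      map_one' := by
        ext w
        show Λ (1 * l w * 1⁻¹) = w
        simp [hl]
      map_mul' := by
        intro g h
        ext w
        show Λ (g * h * l w * (g * h)⁻¹) = Λ (g * l (Λ (h * l w * h⁻¹)) * g⁻¹)
        have h1 : Λ (l (Λ (h * l w * h⁻¹))) = Λ (h * l w * h⁻¹) := hl _
        rw [hconj g _ (hlA _) _ (‹A.Normal›.conj_mem _ (hlA _) h) h1]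
        congr 1
        group }
  refine ⟨W, inferInstance, ?_, Λ, act, hadd, hzero, fun w => ⟨l w, hlA w, hl w⟩, hf, ?_⟩
  · exact inferInstanceAs (Finite (A ⧸ N))
  · have h1 := Subgroup.card_eq_card_quotient_mul_card_subgroup N
    have h2 : Nat.card N = Nat.card B := Nat.card_congr (Subgroup.subgroupOfEquivOfLe hBA).toEquiv
    rw [h2] at h1
    exact h1

end Sections

end Cfsg.Agent.Lib.CamLie
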