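import Mathlib
import Cfsg.Agent.Lib.CamLie
import Cfsg.Agent.Lib.CamHyp

/-!
# Group level of the Camina-type analysis for `S4805`: the case `|M/K| > 2`.
-/

set_option autoImplicit false

namespace Cfsg.Agent.Lib.CamGrp

open scoped commutatorElement
open Cfsg.Agent.Lib.CamHyp Cfsg.Agent.Lib.CamLie

universe u

variable {G : Type u} [Group G]

theorem comm_conj (g c b : G) : g * ⁅c, g⁻¹ * b * g⁆ * g⁻¹ = ⁅g * c * g⁻¹, b⁆ := by
  simp only [commutatorElement_def]
  group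

theorem comm_mul_central {Q : Type*} [Group Q] (a b m n : Q) (h1 : Commute m b) (h2 : Commute n a)
    (h3 : Commute m n) : ⁅a * m, b * n⁆ = ⁅a, b⁆ := by
  have e1 : a * m * (b * n) = (a * b) * (m * n) := by
    calc a * m * (b * n) = a * (m * b) * n := by group
      _ = a * (b * m) * n := by rw [h1.eq]
      _ = (a * b) * (m * n) := by group
  have e2 : b * n * (a * m) = (b * a) * (m * n) := by
    calc b * n * (a * m) = b * (n * a) * m := by group
      _ = b * (a * n) * m := by rw [h2.eq]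
      _ = (b * a) * (n * m) := by group
      _ = (b * a) * (m * n) := by rw [h3.eq]
  have e3 : ⁅a * m, b * n⁆ = (a * m * (b * n)) * (b * n * (a * m))⁻¹ := by
    rw [commutatorElement_def]
    group
  have e4 : ⁅a, b⁆ = (a * b) * (b * a)⁻¹ := by
    rw [commutatorElement_def]
    group
  rw [e3, e4, e1, e2]
  group

section Basics

variable {r : ℕ} {K : Subgroup G} {y : G}

theorem Hyp₀.conj_of_mem (h : Hyp₀ G K y) {x x' : G} (hx : x ∈ commutator G) (hxK : x ∉ K)
    (hx' : x' ∈ commutator G) (hxK' : x' ∉ K) : ∃ g, g * x * g⁻¹ = x' := by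
  have h1 : IsConj x x' := (h.h1 x hx hxK).symm.trans (h.h1 x' hx' hxK')
  exact isConj_iff.mp h1

variable [Finite G]

theorem Hyp.comm_mem (h : Hyp r G K y) {a b : G} (ha : a ∈ commutator G) (hb : b ∈ commutator G) :
    ⁅a, b⁆ ∈ K := by
  haveI := h.hn
  haveI : Fact r.Prime := ⟨h.hr⟩
  have hMn : (commutator G).Normal := inferInstance
  let N : Subgroup (commutator G) := K.subgroupOf (commutator G)
  have hpΓ : IsPGroup r ((commutator G) ⧸ N) := h.hp.to_quotient N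
  have hmem : ∀ x : commutator G, QuotientGroup.mk' N x = 1 ↔ (x : G) ∈ K := by
    intro x
    rw [← MonoidHom.mem_ker, QuotientGroup.ker_mk', Subgroup.mem_subgroupOf]
  haveI : Nontrivial ((commutator G) ⧸ N) :=
    ⟨⟨QuotientGroup.mk' N ⟨y, h.hyM⟩, 1, fun he => h.hyK ((hmem _).mp he)⟩⟩
  haveI := hpΓ.center_nontrivial
  obtain ⟨z, hz⟩ := exists_ne (1 : Subgroup.center ((commutator G) ⧸ N))
  obtain ⟨⟨c, hcM⟩, hc⟩ := QuotientGroup.mk'_surjective N (z : (commutator G) ⧸ N)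
  have hcK : c ∉ K := by
    intro hck
    apply hz
    apply Subtype.ext
    show (z : (commutator G) ⧸ N) = 1
    rw [← hc]
    exact (hmem _).mpr hck
  have hcb : ∀ b ∈ commutator G, ⁅c, b⁆ ∈ K := by
    intro b hb
    have h1 : (⟨⁅c, b⁆, (commutator G).mul_mem ((commutator G).mul_mem ((commutator G).mul_mem hcM hb)
        ((commutator G).inv_mem hcM)) ((commutator G).inv_mem hb)⟩ : commutator G) =
        ⁅(⟨c, hcM⟩ : commutator G), (⟨b, hb⟩ : commutator G)⁆ := rfl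
    have h2 : QuotientGroup.mk' N ⁅(⟨c, hcM⟩ : commutator G), (⟨b, hb⟩ : commutator G)⁆ = 1 := by
      rw [commutatorElement_def, map_mul, map_mul, map_mul, map_inv, map_inv, hc,
        (Subgroup.mem_center_iff.mp z.2 (QuotientGroup.mk' N ⟨b, hb⟩)).symm]
      group
    rw [← h1] at h2
    exact (hmem _).mp h2
  by_cases haK : a ∈ K
  · have e : ⁅a, b⁆ = a * (b * a⁻¹ * b⁻¹) := by
      rw [commutatorElement_def]
      group
    rw [e]
    exact K.mul_mem haK (‹K.Normal›.conj_mem _ (K.inv_mem haK) b)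
  · obtain ⟨g, rfl⟩ := Hyp₀.conj_of_mem h.toHyp₀ hcM hcK ha haK
    rw [← comm_conj]
    apply ‹K.Normal›.conj_mem
    apply hcb
    have := hMn.conj_mem b hb g⁻¹
    simpa using this

theorem Hyp.pow_mem (h : Hyp r G K y) {a : G} (ha : a ∈ commutator G) : a ^ r ∈ K := by
  haveI := h.hn
  by_contra hcon
  have haK : a ∉ K := fun hk => hcon (K.pow_mem hk r)
  have hall : ∀ x ∈ commutator G, x ∉ K → x ^ r ∉ K := by
    intro x hx hxK hxr
    obtain ⟨g, rfl⟩ := Hyp₀.conj_of_mem h.toHyp₀ hx hxK ha haK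
    apply hcon
    have := ‹K.Normal›.conj_mem _ hxr g
    rwa [conj_pow]
  have hn : ∀ n, a ^ (r ^ n) ∉ K := by
    intro n
    induction n with
    | zero => simpa using haK
    | succ n ih =>
      rw [pow_succ, pow_mul]
      exact hall _ ((commutator G).pow_mem ha _) ih
  obtain ⟨n, hn'⟩ := h.hp ⟨a, ha⟩
  apply hn n
  have : a ^ (r ^ n) = 1 := by
    have := congrArg Subtype.val hn'
    simpa using this
  rw [this]
  exact K.one_mem

end Basics

section Count

/-- Counting by fibres. -/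
theorem card_fiber [Finite G] (M C : Subgroup G) (hCM : C ≤ M) {S : Type*} [Finite S] (f : G → S)
    (hfib : ∀ a ∈ M, ∀ b ∈ M, f a = f b ↔ a⁻¹ * b ∈ C) (hsurj : ∀ s, ∃ a ∈ M, f a = s) :
    Nat.card M = Nat.card S * Nat.card C := by
  let N : Subgroup M := C.subgroupOf M
  have h1 := Subgroup.card_eq_card_quotient_mul_card_subgroup N
  have h2 : Nat.card N = Nat.card C := Nat.card_congr (Subgroup.subgroupOfEquivOfLe hCM).toEquiv
  have h3 : Nat.card (M ⧸ N) = Nat.card S := by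
    let φ : M ⧸ N → S := Quotient.lift (fun m : M => f m) (by
      intro a b hab
      have h4 : a⁻¹ * b ∈ N := QuotientGroup.leftRel_apply.mp hab
      exact (hfib a a.2 b b.2).mpr h4)
    have hinj : Function.Bijective φ := by
      constructor
      · intro a b
        induction a using QuotientGroup.induction_on with
        | H a =>
          induction b using QuotientGroup.induction_on with
          | H b =>
            intro he
            rw [QuotientGroup.eq]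
            exact (hfib a a.2 b b.2).mp he
      · intro s
        obtain ⟨a, ha, he⟩ := hsurj s
        exact ⟨QuotientGroup.mk ⟨a, ha⟩, he⟩
    exact Nat.card_eq_of_bijective φ hinj
  rw [h2, h3] at h1
  exact h1

end Count

/-- The output of the structure analysis in the case `q > 2`. -/
structure FS (G : Type u) [Group G] (K : Subgroup G) (y : G) (F : Type u) [Field F] (p : G → F)
    (χ : G →* Fˣ) : Prop where
  add : ∀ a ∈ commutator G, ∀ b ∈ commutator G, p (a * b) = p a + p b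
  zero : ∀ a ∈ commutator G, p a = 0 ↔ a ∈ K
  surj : ∀ x, ∃ a ∈ commutator G, p a = x
  conj : ∀ g, ∀ a ∈ commutator G, p (g * a * g⁻¹) = (χ g : F) * p a
  χsurj : Function.Surjective χ
  ker : ∀ g, χ g = 1 ↔ g ∈ commutator G
  py : p y = 1
  card : Nat.card (commutator G) = Nat.card F * Nat.card K

section Struct

variable {r : ℕ} {K : Subgroup G} {y : G} [Finite G]

theorem Hyp.structF (h : Hyp r G K y) (hF : ∃ x₁ ∈ commutator G, x₁ ∉ K ∧ x₁⁻¹ * y ∉ K) :
    ∃ (F : Type u) (_ : Field F) (_ : Finite F) (p : G → F) (χ : G →* Fˣ), FS G K y F p χ := by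
  classical
  haveI := h.hn
  have hMn : (commutator G).Normal := inferInstance
  have hcm := fun {a b : G} (ha : a ∈ commutator G) (hb : b ∈ commutator G) => Hyp.comm_mem h ha hb
  obtain ⟨V, _, _, Λ, a, hadd, hzero, hsurj, hact, hcard⟩ :=
    exists_sec (commutator G) K h.hKM (fun a ha b hb => hcm ha hb)
  have hΛ1 : Λ 1 = 0 := (hzero _ (commutator G).one_mem).mpr K.one_mem
  have hΛinv : ∀ x ∈ commutator G, Λ x⁻¹ = - Λ x := by
    intro x hx
    have h1 := hadd x hx _ ((commutator G).inv_mem hx)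
    rw [mul_inv_cancel, hΛ1] at h1
    exact eq_neg_of_add_eq_zero_right h1.symm
  have hΛmod : ∀ x ∈ commutator G, ∀ x' ∈ commutator G, x⁻¹ * x' ∈ K → Λ x = Λ x' := by
    intro x hx x' hx' hk
    have h1 := hadd x hx _ ((commutator G).mul_mem ((commutator G).inv_mem hx) hx')
    have h2 : x * (x⁻¹ * x') = x' := by group
    rw [h2, (hzero _ ((commutator G).mul_mem ((commutator G).inv_mem hx) hx')).mpr hk, add_zero] at h1
    exact h1.symm
  have hΛmod' : ∀ x ∈ commutator G, ∀ x' ∈ commutator G, Λ x = Λ x' → x⁻¹ * x' ∈ K := by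
    intro x hx x' hx' he
    have h3 := (commutator G).mul_mem ((commutator G).inv_mem hx) hx'
    rw [← hzero _ h3, hadd _ ((commutator G).inv_mem hx) _ hx', hΛinv _ hx, he]
    simp
  have hconjK : ∀ g, ∀ m ∈ commutator G, Λ (g * m * g⁻¹) = Λ m → ⁅g, m⁆ ∈ K := by
    intro g m hm he
    have h1 := hMn.conj_mem m hm g
    have h2 := hΛmod' _ h1 _ hm he
    have e : ⁅g, m⁆ = m * ((g * m * g⁻¹)⁻¹ * m)⁻¹ * m⁻¹ := by
      rw [commutatorElement_def]
      group
    rw [e]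
    exact ‹K.Normal›.conj_mem _ (K.inv_mem h2) m
  have hatriv : ∀ m ∈ commutator G, a m = 1 := by
    intro m hm
    ext w
    obtain ⟨x, hx, rfl⟩ := hsurj w
    show a m (Λ x) = Λ x
    rw [hact _ _ hx]
    apply (hΛmod _ ((hMn.conj_mem x hx m)) _ hx _)
    have e : (m * x * m⁻¹)⁻¹ * x = x⁻¹ * ⁅m, x⁆⁻¹ * x := by
      rw [commutatorElement_def]
      group
    rw [e]
    have := ‹K.Normal›.conj_mem _ (K.inv_mem (hcm hm hx)) x⁻¹
    simpa using this
  have hcomm : ∀ g g', a g * a g' = a g' * a g := by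
    intro g g'
    have e : g * g' = ⁅g, g'⁆ * (g' * g) := by
      rw [commutatorElement_def]
      group
    rw [← map_mul, e, map_mul, hatriv _ (Subgroup.commutator_mem_commutator (Subgroup.mem_top g)
      (Subgroup.mem_top g')), one_mul, map_mul]
  have hΛne : ∀ x ∈ commutator G, x ∉ K → Λ x ≠ 0 := fun x hx hxK h0 => hxK ((hzero x hx).mp h0)
  have htrans : ∀ v w : V, v ≠ 0 → w ≠ 0 → ∃ g, a g v = w := by
    intro v w hv hw
    obtain ⟨x, hx, rfl⟩ := hsurj v
    obtain ⟨x', hx', rfl⟩ := hsurj w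
    have hxK : x ∉ K := fun hk => hv ((hzero x hx).mpr hk)
    have hxK' : x' ∉ K := fun hk => hw ((hzero x' hx').mpr hk)
    obtain ⟨g, rfl⟩ := Hyp₀.conj_of_mem h.toHyp₀ hx hxK hx' hxK'
    exact ⟨g, hact _ _ hx⟩
  obtain ⟨F, _, _, e, χ, hχ1, hχsurj, hχker, he1⟩ :=
    exists_field a hcomm htrans (Λ y) (hΛne y h.hyM h.hyK)
  let p : G → F := fun g => e.symm (Λ g)
  have hp : ∀ g, e (p g) = Λ g := fun g => e.apply_symm_apply _
  have hpadd : ∀ a ∈ commutator G, ∀ b ∈ commutator G, p (a * b) = p a + p b := by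
    intro x hx x' hx'
    show e.symm (Λ (x * x')) = _
    rw [hadd x hx x' hx', map_add]
  have hpzero : ∀ a ∈ commutator G, p a = 0 ↔ a ∈ K := by
    intro x hx
    rw [← hzero x hx, ← hp x]
    simp
  have hpconj : ∀ g, ∀ a ∈ commutator G, p (g * a * g⁻¹) = (χ g : F) * p a := by
    intro g x hx
    apply e.injective
    rw [hp, ← hχ1, hp, hact g x hx]
  have hχM : ∀ m ∈ commutator G, χ m = 1 := fun m hm => (hχker m).mpr (hatriv m hm)
  have hχm : ∀ g, χ g = 1 → ∀ m ∈ commutator G, ⁅g, m⁆ ∈ K := by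
    intro g hg m hm
    apply hconjK g m hm
    rw [← hact g m hm, (hχker g).mp hg]
    rfl
  -- a nontrivial element of `G / A`
  obtain ⟨x₁, hx₁, hx₁K, hx₁y⟩ := hF
  obtain ⟨d, hd⟩ := Hyp₀.conj_of_mem h.toHyp₀ h.hyM h.hyK hx₁ hx₁K
  have hdne : χ d ≠ 1 := by
    intro hd1
    have h1 : Λ (d * y * d⁻¹) = Λ y := by
      rw [← hact d y h.hyM, (hχker d).mp hd1]
      rfl
    rw [hd] at h1
    exact hx₁y (hΛmod' _ hx₁ _ h.hyM h1)
  let π := QuotientGroup.mk' K
  have hπK : ∀ x, π x = 1 ↔ x ∈ K := by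
    intro x
    rw [← MonoidHom.mem_ker, QuotientGroup.ker_mk']
  have hcommπ : ∀ u v, ⁅u, v⁆ ∈ K → Commute (π u) (π v) := by
    intro u v huv
    apply commutatorElement_eq_one_iff_commute.mp
    have : π ⁅u, v⁆ = ⁅π u, π v⁆ := map_commutatorElement π u v
    rw [← this]
    exact (hπK _).mpr huv
  -- `A / K` is abelian
  have hA : ∀ a₁ a₂, χ a₁ = 1 → χ a₂ = 1 → ⁅a₁, a₂⁆ ∈ K := by
    intro a₁ a₂ h₁ h₂
    set t := ⁅a₁, a₂⁆ with ht
    have htM : t ∈ commutator G := Subgroup.commutator_mem_commutator (Subgroup.mem_top _) (Subgroup.mem_top _)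
    let m₁ := a₁⁻¹ * (d * a₁ * d⁻¹)
    let m₂ := a₂⁻¹ * (d * a₂ * d⁻¹)
    have hm₁ : m₁ ∈ commutator G := by
      have e : m₁ = ⁅a₁⁻¹, d⁆ := by
        rw [commutatorElement_def]
        simp only [m₁]
        group
      rw [e]
      exact Subgroup.commutator_mem_commutator (Subgroup.mem_top _) (Subgroup.mem_top _)
    have hm₂ : m₂ ∈ commutator G := by
      have e : m₂ = ⁅a₂⁻¹, d⁆ := by
        rw [commutatorElement_def]
        simp only [m₂]
        group
      rw [e]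
      exact Subgroup.commutator_mem_commutator (Subgroup.mem_top _) (Subgroup.mem_top _)
    have e₁ : d * a₁ * d⁻¹ = a₁ * m₁ := by simp only [m₁]; group
    have e₂ : d * a₂ * d⁻¹ = a₂ * m₂ := by simp only [m₂]; group
    have hdt : d * t * d⁻¹ = ⁅a₁ * m₁, a₂ * m₂⁆ := by
      rw [← e₁, ← e₂, ht]
      simp only [commutatorElement_def]
      group
    have hπ : π (d * t * d⁻¹) = π t := by
      rw [hdt, map_commutatorElement, map_mul π a₁ m₁, map_mul π a₂ m₂, ht, map_commutatorElement]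
      exact comm_mul_central (π a₁) (π a₂) (π m₁) (π m₂) (hcommπ _ _ (hχm _ h₂ _ hm₁)).symm
        (hcommπ _ _ (hχm _ h₁ _ hm₂)).symm (hcommπ _ _ (hcm hm₁ hm₂))
    by_contra htK
    have h3 : Λ (d * t * d⁻¹) = Λ t := by
      apply hΛmod _ (hMn.conj_mem t htM d) _ htM
      have h4 : π ((d * t * d⁻¹)⁻¹ * t) = 1 := by
        rw [map_mul, map_inv, hπ]
        group
      exact (hπK _).mp h4
    have h5 : (χ d : F) * p t = p t := by
      rw [← hpconj d t htM]
      show e.symm (Λ (d * t * d⁻¹)) = e.symm (Λ t)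
      rw [h3]
    have hpt : p t ≠ 0 := fun h0 => htK ((hpzero t htM).mp h0)
    apply hdne
    apply Units.ext
    have h6 : ((χ d : F) - 1) * p t = 0 := by
      rw [sub_mul, h5, one_mul, sub_self]
    rcases mul_eq_zero.mp h6 with h7 | h7
    · exact sub_eq_zero.mp h7
    · exact absurd h7 hpt
  -- `A = M`
  have hAM : ∀ g, χ g = 1 → g ∈ commutator G := by
    intro x hx
    by_contra hxM
    choose l hlM hl using hsurj
    have hc := fun v : V => h.h2 x hxM (l v) (hlM v)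
    choose c k hk hck using hc
    let f : V → Fˣ := fun v => χ (c v)
    have hni : ¬ Function.Injective f := by
      intro hinj
      have h1 := Nat.card_le_card_of_injective f hinj
      rw [Nat.card_units, ← Nat.card_congr e.toEquiv] at h1
      have h2 : 0 < Nat.card F := Nat.card_pos
      omega
    unfold Function.Injective at hni
    push Not at hni
    obtain ⟨v, v', hf, hvv⟩ := hni
    apply hvv
    set b := (c v)⁻¹ * c v' with hb
    have hbχ : χ b = 1 := by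
      rw [hb, map_mul, map_inv]
      have : χ (c v) = χ (c v') := hf
      rw [this]
      group
    have hbx := hA b x hbχ hx
    have h2 : c v' * x * (c v')⁻¹ = (c v * ⁅b, x⁆ * (c v)⁻¹) * (c v * x * (c v)⁻¹) := by
      rw [hb]
      simp only [commutatorElement_def]
      group
    rw [hck, hck] at h2
    have h3 := congrArg π h2
    simp only [map_mul] at h3
    have hk0 : π (c v * ⁅b, x⁆ * (c v)⁻¹) = 1 := (hπK _).mpr (‹K.Normal›.conj_mem _ hbx _)
    rw [map_mul, map_mul] at hk0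
    rw [hk0, (hπK _).mpr (hk v), (hπK _).mpr (hk v')] at h3
    simp only [mul_one, one_mul] at h3
    have h4 : π (l v') = π (l v) := mul_left_cancel h3
    have h5 : Λ (l v') = Λ (l v) := by
      apply hΛmod _ (hlM _) _ (hlM _)
      apply (hπK _).mp
      rw [map_mul, map_inv, h4]
      group
    rw [hl, hl] at h5
    exact h5.symm
  refine ⟨F, inferInstance, inferInstance, p, χ, ?_⟩
  exact
    { add := hpadd
      zero := hpzero
      surj := by
        intro x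
        obtain ⟨m, hm, he⟩ := hsurj (e x)
        refine ⟨m, hm, ?_⟩
        show e.symm (Λ m) = x
        rw [he]
        simp
      conj := hpconj
      χsurj := hχsurj
      ker := fun g => ⟨hAM g, fun hg => hχM g hg⟩
      py := by
        show e.symm (Λ y) = 1
        rw [← he1]
        simp
      card := by
        rw [hcard, Nat.card_congr e.toEquiv] }

end Struct

section Aux

/-- Bilinear maps induced by commutators. -/
theorem exists_bi {E F₁ F₂ : Type*} [AddCommGroup E] [AddCommGroup F₁] [AddCommGroup F₂] (Λ : G → E)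
    (A₁ A₂ D : Subgroup G) (p₁ : G → F₁) (p₂ : G → F₂)
    (hcD : ∀ a ∈ A₁, ∀ b ∈ A₂, ⁅a, b⁆ ∈ D)
    (hΛ : ∀ x ∈ D, ∀ x' ∈ D, Λ (x * x') = Λ x + Λ x')
    (hc1 : ∀ g ∈ A₁, ∀ d ∈ D, Λ (g * d * g⁻¹) = Λ d) (hc2 : ∀ g ∈ A₂, ∀ d ∈ D, Λ (g * d * g⁻¹) = Λ d)
    (hD1 : ∀ g ∈ A₁, ∀ d ∈ D, g * d * g⁻¹ ∈ D) (hD2 : ∀ g ∈ A₂, ∀ d ∈ D, g * d * g⁻¹ ∈ D)
    (hp₁ : ∀ a ∈ A₁, ∀ a' ∈ A₁, p₁ (a * a') = p₁ a + p₁ a')
    (hp₂ : ∀ a ∈ A₂, ∀ a' ∈ A₂, p₂ (a * a') = p₂ a + p₂ a')
    (hs₁ : ∀ x, ∃ a ∈ A₁, p₁ a = x) (hs₂ : ∀ x, ∃ a ∈ A₂, p₂ a = x)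
    (h10 : ∀ a ∈ A₁, p₁ a = 0 → ∀ b ∈ A₂, Λ ⁅a, b⁆ = 0)
    (h20 : ∀ b ∈ A₂, p₂ b = 0 → ∀ a ∈ A₁, Λ ⁅a, b⁆ = 0) :
    ∃ f : F₁ → F₂ → E, (∀ a ∈ A₁, ∀ b ∈ A₂, f (p₁ a) (p₂ b) = Λ ⁅a, b⁆) ∧
      (∀ x x' w, f (x + x') w = f x w + f x' w) ∧ (∀ x w w', f x (w + w') = f x w + f x w') := by
  choose l₁ hl₁ hl₁' using hs₁
  choose l₂ hl₂ hl₂' using hs₂
  have hleft : ∀ a ∈ A₁, ∀ a' ∈ A₁, ∀ b ∈ A₂, Λ ⁅a * a', b⁆ = Λ ⁅a, b⁆ + Λ ⁅a', b⁆ := by
    intro a ha a' ha' b hb
    have e : ⁅a * a', b⁆ = (a * ⁅a', b⁆ * a⁻¹) * ⁅a, b⁆ := by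
      simp only [commutatorElement_def]
      group
    rw [e, hΛ _ (hD1 a ha _ (hcD a' ha' b hb)) _ (hcD a ha b hb), hc1 a ha _ (hcD a' ha' b hb), add_comm]
  have hright : ∀ a ∈ A₁, ∀ b ∈ A₂, ∀ b' ∈ A₂, Λ ⁅a, b * b'⁆ = Λ ⁅a, b⁆ + Λ ⁅a, b'⁆ := by
    intro a ha b hb b' hb'
    have e : ⁅a, b * b'⁆ = ⁅a, b⁆ * (b * ⁅a, b'⁆ * b⁻¹) := by
      simp only [commutatorElement_def]
      group
    rw [e, hΛ _ (hcD a ha b hb) _ (hD2 b hb _ (hcD a ha b' hb')), hc2 b hb _ (hcD a ha b' hb')]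
  have hformula : ∀ a ∈ A₁, ∀ b ∈ A₂, Λ ⁅l₁ (p₁ a), l₂ (p₂ b)⁆ = Λ ⁅a, b⁆ := by
    intro a ha b hb
    have hu := hl₁ (p₁ a)
    have hv := hl₂ (p₂ b)
    have hA1 : (l₁ (p₁ a))⁻¹ * a ∈ A₁ := A₁.mul_mem (A₁.inv_mem hu) ha
    have hA2 : (l₂ (p₂ b))⁻¹ * b ∈ A₂ := A₂.mul_mem (A₂.inv_mem hv) hb
    have hz1 : p₁ ((l₁ (p₁ a))⁻¹ * a) = 0 := by
      have h1 := hp₁ _ hu _ hA1
      have e : l₁ (p₁ a) * ((l₁ (p₁ a))⁻¹ * a) = a := by group
      rw [e, hl₁'] at h1
      exact left_eq_add.mp h1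
    have hz2 : p₂ ((l₂ (p₂ b))⁻¹ * b) = 0 := by
      have h1 := hp₂ _ hv _ hA2
      have e : l₂ (p₂ b) * ((l₂ (p₂ b))⁻¹ * b) = b := by group
      rw [e, hl₂'] at h1
      exact left_eq_add.mp h1
    have e1 : a = l₁ (p₁ a) * ((l₁ (p₁ a))⁻¹ * a) := by group
    have e2 : b = l₂ (p₂ b) * ((l₂ (p₂ b))⁻¹ * b) := by group
    calc Λ ⁅l₁ (p₁ a), l₂ (p₂ b)⁆ = Λ ⁅l₁ (p₁ a), l₂ (p₂ b) * ((l₂ (p₂ b))⁻¹ * b)⁆ := by
            rw [hright _ hu _ hv _ hA2, h20 _ hA2 hz2 _ hu, add_zero]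
      _ = Λ ⁅l₁ (p₁ a), b⁆ := by rw [← e2]
      _ = Λ ⁅l₁ (p₁ a) * ((l₁ (p₁ a))⁻¹ * a), b⁆ := by
            rw [hleft _ hu _ hA1 _ hb, h10 _ hA1 hz1 _ hb, add_zero]
      _ = Λ ⁅a, b⁆ := by rw [← e1]
  refine ⟨fun x w => Λ ⁅l₁ x, l₂ w⁆, hformula, ?_, ?_⟩
  · intro x x' w
    have h1 := hformula (l₁ x * l₁ x') (A₁.mul_mem (hl₁ x) (hl₁ x')) (l₂ w) (hl₂ w)
    rw [hp₁ _ (hl₁ x) _ (hl₁ x'), hl₁', hl₁', hl₂', hleft _ (hl₁ x) _ (hl₁ x') _ (hl₂ w)] at h1
    exact h1
  · intro x w w'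
    have h1 := hformula (l₁ x) (hl₁ x) (l₂ w * l₂ w') (A₂.mul_mem (hl₂ w) (hl₂ w'))
    rw [hp₂ _ (hl₂ w) _ (hl₂ w'), hl₁', hl₂', hl₂', hright _ (hl₁ x) _ (hl₂ w) _ (hl₂ w')] at h1
    exact h1

/-- Descent of an action to the quotient. -/
theorem descend {Fu B : Type*} [Group Fu] [Monoid B] (χ : G →* Fu) (hs : Function.Surjective χ)
    (a : G →* B) (ha : ∀ g, χ g = 1 → a g = 1) : ∃ ρ : Fu →* B, ∀ g, ρ (χ g) = a g := by
  choose s hs' using hs
  have hmul : ∀ g g', χ g = χ g' → a g = a g' := by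
    intro g g' he
    have h1 : χ (g'⁻¹ * g) = 1 := by rw [map_mul, map_inv, he]; group
    have h2 := ha _ h1
    have e : g = g' * (g'⁻¹ * g) := by group
    rw [e, map_mul, h2, mul_one]
  refine ⟨{ toFun := fun ξ => a (s ξ), map_one' := ?_, map_mul' := ?_ }, ?_⟩
  · apply ha
    exact hs' 1
  · intro ξ η
    rw [← map_mul]
    apply hmul
    rw [map_mul, hs', hs', hs']
  · intro g
    exact hmul _ _ (hs' _)

theorem mul_pow_class2 {Q : Type*} [Group Q] (a b c : Q) (hc : b * a = c * a * b) (h1 : Commute c a)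
    (h2 : Commute c b) (n : ℕ) : (a * b) ^ n = a ^ n * b ^ n * c ^ (n.choose 2) := by
  have hba : ∀ n : ℕ, b ^ n * a = c ^ n * a * b ^ n := by
    intro n
    induction n with
    | zero => simp
    | succ n ih =>
      calc b ^ (n + 1) * a = b * (b ^ n * a) := by rw [pow_succ']; group
        _ = b * (c ^ n * a * b ^ n) := by rw [ih]
        _ = c ^ n * (b * a) * b ^ n := by
            rw [← mul_assoc, ← mul_assoc, (h2.pow_left n).symm.eq]
            group
        _ = c ^ (n + 1) * a * b ^ (n + 1) := by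
            rw [hc, pow_succ c n, pow_succ' b n]
            group
  induction n with
  | zero => simp
  | succ n ih =>
    have hchoose : (n + 1).choose 2 = n + n.choose 2 := by
      rw [show (2 : ℕ) = 1 + 1 from rfl, Nat.choose_succ_succ, Nat.choose_one_right]
    rw [pow_succ, ih, hchoose, pow_add c]
    have h3 : Commute (c ^ n.choose 2) a := h1.pow_left _
    have h4 : Commute (c ^ n) a := h1.pow_left _
    calc a ^ n * b ^ n * c ^ n.choose 2 * (a * b)
        = a ^ n * b ^ n * (c ^ n.choose 2 * a) * b := by group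
      _ = a ^ n * (b ^ n * a) * c ^ n.choose 2 * b := by rw [h3.eq]; group
      _ = a ^ n * (c ^ n * a * b ^ n) * c ^ n.choose 2 * b := by rw [hba]
      _ = a ^ n * (a * c ^ n) * b ^ n * c ^ n.choose 2 * b := by rw [h4.eq]; group
      _ = a ^ (n + 1) * (c ^ n * (b ^ n * (c ^ n.choose 2 * b))) := by rw [pow_succ a n]; group
      _ = a ^ (n + 1) * (c ^ n * (b ^ n * (b * c ^ n.choose 2))) := by
          rw [(h2.pow_left _).eq]
      _ = a ^ (n + 1) * ((c ^ n * b ^ (n + 1)) * c ^ n.choose 2) := by rw [pow_succ b n]; group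
      _ = a ^ (n + 1) * ((b ^ (n + 1) * c ^ n) * c ^ n.choose 2) := by
          rw [(h2.pow_left _).pow_right _ |>.eq]
      _ = a ^ (n + 1) * b ^ (n + 1) * (c ^ n * c ^ n.choose 2) := by group

end Aux

section Main

variable {r : ℕ} {K : Subgroup G} {y : G} [Finite G]
variable {F : Type u} [Field F] [Finite F] {p : G → F} {χ : G →* Fˣ}

theorem camina (h : Hyp r G K y) (hS : FS G K y F p χ) {x : G} (hx : x ∈ commutator G) (hxK : x ∉ K)
    {k : G} (hk : k ∈ K) : ∃ m ∈ commutator G, m * x * m⁻¹ = x * k := by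
  haveI := h.hn
  have hxk : x * k ∈ commutator G := (commutator G).mul_mem hx (h.hKM hk)
  have hxkK : x * k ∉ K := fun hh => hxK (by
    have := K.mul_mem hh (K.inv_mem hk)
    simpa using this)
  obtain ⟨g, hg⟩ := Hyp₀.conj_of_mem h.toHyp₀ hx hxK hxk hxkK
  refine ⟨g, ?_, hg⟩
  rw [← hS.ker]
  have h1 := hS.conj g x hx
  rw [hg, hS.add _ hx _ (h.hKM hk), (hS.zero _ (h.hKM hk)).mpr hk, add_zero] at h1
  have hpx : p x ≠ 0 := fun h0 => hxK ((hS.zero x hx).mp h0)
  apply Units.ext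
  have h2 : ((χ g : F) - 1) * p x = 0 := by rw [sub_mul, ← h1, one_mul, sub_self]
  exact sub_eq_zero.mp ((mul_eq_zero.mp h2).resolve_right hpx)

/-- The commutator `⁅m, y⁆` runs over `K`. -/
theorem exists_comm_eq (h : Hyp r G K y) (hS : FS G K y F p χ) {x : G} (hx : x ∈ commutator G)
    (hxK : x ∉ K) {k : G} (hk : k ∈ K) : ∃ m ∈ commutator G, ⁅m, x⁆ = k := by
  haveI := h.hn
  have hk' : x⁻¹ * k * x⁻¹⁻¹ ∈ K := ‹K.Normal›.conj_mem k hk x⁻¹
  obtain ⟨m, hm, hme⟩ := camina h hS hx hxK hk'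
  refine ⟨m, hm, ?_⟩
  rw [commutatorElement_def, hme]
  group

theorem card_cent (h : Hyp r G K y) (hS : FS G K y F p χ) :
    Nat.card ↥(commutator G ⊓ Subgroup.centralizer {y}) = Nat.card F := by
  classical
  haveI := h.hn
  have hK : ∀ m ∈ commutator G, ⁅m, y⁆ ∈ K := fun m hm => Hyp.comm_mem h hm h.hyM
  let f : G → K := fun m => if hm : ⁅m, y⁆ ∈ K then ⟨⁅m, y⁆, hm⟩ else 1
  have hf : ∀ m ∈ commutator G, (f m : G) = ⁅m, y⁆ := by
    intro m hm
    simp only [f, dif_pos (hK m hm)]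
  have h1 := card_fiber (commutator G) (commutator G ⊓ Subgroup.centralizer {y}) inf_le_left f (by
      intro a ha b hb
      constructor
      · intro he
        have he' : ⁅a, y⁆ = ⁅b, y⁆ := by rw [← hf a ha, ← hf b hb, he]
        refine Subgroup.mem_inf.mpr ⟨(commutator G).mul_mem ((commutator G).inv_mem ha) hb, ?_⟩
        rw [Subgroup.mem_centralizer_iff]
        intro z hz
        have hz' : z = y := hz
        rw [hz']
        simp only [commutatorElement_def] at he'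
        have e : y * (a⁻¹ * b) = a⁻¹ * (a * y * a⁻¹ * y⁻¹) * y * b := by group
        rw [e, he']
        group
      · intro hab
        have hc := (Subgroup.mem_inf.mp hab).2
        rw [Subgroup.mem_centralizer_iff] at hc
        have hc' := hc y rfl
        apply Subtype.ext
        rw [hf a ha, hf b hb]
        simp only [commutatorElement_def]
        have e : b * y * b⁻¹ = a * ((a⁻¹ * b) * y * (a⁻¹ * b)⁻¹) * a⁻¹ := by group
        rw [e, ← hc']
        group) (by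
      rintro ⟨k, hk⟩
      obtain ⟨m, hm, he⟩ := exists_comm_eq h hS h.hyM h.hyK hk
      exact ⟨m, hm, Subtype.ext (by rw [hf m hm, he])⟩)
  rw [hS.card, mul_comm] at h1
  exact (Nat.eq_of_mul_eq_mul_left Nat.card_pos h1).symm

theorem card_lt (h : Hyp r G K y) (hS : FS G K y F p χ) {N : Subgroup G} (hNM : N ≤ commutator G)
    (hcent : ∀ n ∈ N, Commute y n) (hyN : y ∉ N) : Nat.card N < Nat.card F := by
  by_contra hcon
  have hle : N ≤ commutator G ⊓ Subgroup.centralizer {y} := by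
    intro n hn
    refine Subgroup.mem_inf.mpr ⟨hNM hn, ?_⟩
    rw [Subgroup.mem_centralizer_iff]
    intro z hz
    have hz' : z = y := hz
    rw [hz']
    exact (hcent n hn).eq
  have heq := Subgroup.eq_of_le_of_card_ge hle (by rw [card_cent h hS]; exact not_lt.mp hcon)
  apply hyN
  rw [heq]
  refine Subgroup.mem_inf.mpr ⟨h.hyM, ?_⟩
  rw [Subgroup.mem_centralizer_iff]
  intro z hz
  have hz' : z = y := hz
  rw [hz']

theorem F3 (h : Hyp r G K y) (hF : ∃ x₁ ∈ commutator G, x₁ ∉ K ∧ x₁⁻¹ * y ∉ K)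
    (hC4 : ⁅commutator G, ⁅commutator G, K⁆⁆ = ⊥) : ⁅commutator G, K⁆ = ⊥ := by
  classical
  haveI := h.hn
  have hMn : (commutator G).Normal := inferInstance
  obtain ⟨F, _, _, p, χ, hS⟩ := Hyp.structF h hF
  have hCn : (⁅commutator G, K⁆).Normal := Subgroup.commutator_normal _ _
  obtain ⟨C, hC⟩ : ∃ C, C = ⁅commutator G, K⁆ := ⟨_, rfl⟩
  rw [← hC] at hC4 hCn ⊢
  have hCK : C ≤ K := by
    rw [hC]
    exact Subgroup.commutator_le_right _ _
  have hmemC : ∀ m ∈ commutator G, ∀ k ∈ K, ⁅m, k⁆ ∈ C := fun m hm k hk => by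
    rw [hC]
    exact Subgroup.commutator_mem_commutator hm hk
  have hCc : ∀ m ∈ commutator G, ∀ c ∈ C, ⁅m, c⁆ = 1 := by
    intro m hm c hc
    have := Subgroup.commutator_mem_commutator hm hc
    rw [hC4] at this
    exact Subgroup.mem_bot.mp this
  have hKMM : K ≤ ⁅commutator G, commutator G⁆ := by
    intro k hk
    obtain ⟨m, hm, he⟩ := exists_comm_eq h hS h.hyM h.hyK hk
    rw [← he]
    exact Subgroup.commutator_mem_commutator hm h.hyM
  have hKK : ∀ k ∈ K, ∀ k' ∈ K, ⁅k, k'⁆ = 1 := by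
    have h1 : ⁅⁅commutator G, commutator G⁆, K⁆ = ⊥ := by
      apply Subgroup.commutator_commutator_eq_bot_of_rotate
      · rw [Subgroup.commutator_comm, ← hC]
        exact hC4
      · rw [Subgroup.commutator_comm K, Subgroup.commutator_comm, ← hC]
        exact hC4
    intro k hk k' hk'
    have := Subgroup.commutator_mem_commutator (hKMM hk) hk'
    rw [h1] at this
    exact Subgroup.mem_bot.mp this
  obtain ⟨W, _, _, Λ, aW, haddW, hzeroW, hsurjW, hactW, hcardW⟩ :=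
    exists_sec K C hCK (fun a ha b hb => by rw [hKK a ha b hb]; exact C.one_mem)
  obtain ⟨T, _, _, Λ₃, aT, haddT, hzeroT, hsurjT, hactT, hcardT⟩ :=
    exists_sec C (⊥ : Subgroup G) bot_le
      (fun a ha b hb => by rw [hKK a (hCK ha) b (hCK hb)]; exact Subgroup.one_mem _)
  have hΛ1 : Λ 1 = 0 := (hzeroW _ K.one_mem).mpr C.one_mem
  have hΛ₃1 : Λ₃ 1 = 0 := (hzeroT _ C.one_mem).mpr (Subgroup.one_mem _)
  have hconjW : ∀ m ∈ commutator G, ∀ k ∈ K, Λ (m * k * m⁻¹) = Λ k := by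
    intro m hm k hk
    have e : m * k * m⁻¹ = ⁅m, k⁆ * k := by
      rw [commutatorElement_def]
      group
    rw [e, haddW _ (hCK (hmemC m hm k hk)) _ hk, (hzeroW _ (hCK (hmemC m hm k hk))).mpr (hmemC m hm k hk),
      zero_add]
  have hconjT : ∀ m ∈ commutator G, ∀ c ∈ C, Λ₃ (m * c * m⁻¹) = Λ₃ c := by
    intro m hm c hc
    have e : m * c * m⁻¹ = c := by
      have := hCc m hm c hc
      rw [commutatorElement_eq_one_iff_mul_comm] at this
      rw [this]
      group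
    rw [e]
  obtain ⟨ρW, hρW⟩ := descend χ hS.χsurj aW (fun g hg => by
    have hgM := (hS.ker g).mp hg
    ext w
    obtain ⟨k, hk, rfl⟩ := hsurjW w
    show aW g (Λ k) = Λ k
    rw [hactW g k hk, hconjW g hgM k hk])
  obtain ⟨ρT, hρT⟩ := descend χ hS.χsurj aT (fun g hg => by
    have hgM := (hS.ker g).mp hg
    ext w
    obtain ⟨c, hc, rfl⟩ := hsurjT w
    show aT g (Λ₃ c) = Λ₃ c
    rw [hactT g c hc, hconjT g hgM c hc])
  have hCnorm : ∀ g, ∀ c ∈ C, g * c * g⁻¹ ∈ C := fun g c hc => hCn.conj_mem c hc g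
  have hKnorm : ∀ g, ∀ c ∈ K, g * c * g⁻¹ ∈ K := fun g c hc => ‹K.Normal›.conj_mem c hc g
  obtain ⟨β, hβ, hβ1, hβ2⟩ := exists_bi Λ (commutator G) (commutator G) K p p
    (fun a ha b hb => Hyp.comm_mem h ha hb) haddW hconjW hconjW (fun g _ => hKnorm g)
    (fun g _ => hKnorm g) hS.add hS.add hS.surj hS.surj
    (by
      intro a ha ha0 b hb
      have haK := (hS.zero a ha).mp ha0
      apply (hzeroW _ (Hyp.comm_mem h ha hb)).mpr
      rw [← commutatorElement_inv]
      exact C.inv_mem (hmemC b hb a haK))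
    (by
      intro b hb hb0 a ha
      have hbK := (hS.zero b hb).mp hb0
      exact (hzeroW _ (Hyp.comm_mem h ha hb)).mpr (hmemC a ha b hbK))
  obtain ⟨γ, hγ, hγ1, hγ2⟩ := exists_bi Λ₃ (commutator G) K C p Λ
    hmemC haddT hconjT (fun g hg => hconjT g (h.hKM hg)) (fun g _ => hCnorm g)
    (fun g _ => hCnorm g) hS.add haddW hS.surj hsurjW
    (by
      intro a ha ha0 k hk
      have haK := (hS.zero a ha).mp ha0
      rw [hKK a haK k hk, hΛ₃1])
    (by
      intro k hk hk0 a ha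
      have hkC := (hzeroW k hk).mp hk0
      rw [hCc a ha k hkC, hΛ₃1])
  -- the bound on `W`
  have hWq : Nat.card W ^ 2 ≤ Nat.card F := by
    apply card_sq_le_of_beta β ρW hβ1 hβ2
    · intro x
      obtain ⟨a, ha, rfl⟩ := hS.surj x
      rw [hβ a ha a ha, commutatorElement_self, hΛ1]
    · intro ξ x x'
      obtain ⟨g, rfl⟩ := hS.χsurj ξ
      obtain ⟨a, ha, rfl⟩ := hS.surj x
      obtain ⟨b, hb, rfl⟩ := hS.surj x'
      rw [← hS.conj g a ha, ← hS.conj g b hb, hβ a ha b hb, hρW, hactW g _ (Hyp.comm_mem h ha hb),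
        hβ _ (hMn.conj_mem a ha g) _ (hMn.conj_mem b hb g)]
      congr 1
      simp only [commutatorElement_def]
      group
    · intro w
      obtain ⟨k, hk, rfl⟩ := hsurjW w
      have hyi : y⁻¹ ∈ commutator G := (commutator G).inv_mem h.hyM
      have hyiK : y⁻¹ ∉ K := fun hh => h.hyK (by simpa using K.inv_mem hh)
      obtain ⟨m, hm, he⟩ := camina h hS hyi hyiK hk
      refine ⟨p m, ?_⟩
      rw [← hS.py, hβ y h.hyM m hm]
      congr 1
      have e : ⁅y, m⁆ = y * (m * y⁻¹ * m⁻¹) := by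
        rw [commutatorElement_def]
        group
      rw [e, he]
      group
  by_contra hne
  obtain ⟨a, ha, k, hk, hak⟩ : ∃ a ∈ commutator G, ∃ k ∈ K, ⁅a, k⁆ ≠ 1 := by
    by_contra hcon
    push Not at hcon
    apply hne
    rw [hC]
    exact le_bot_iff.mp (Subgroup.commutator_le.mpr
      (fun a ha k hk => Subgroup.mem_bot.mpr (hcon a ha k hk)))
  have hne' : γ (p a) (Λ k) ≠ 0 := by
    rw [hγ a ha k hk]
    intro h0
    exact hak (Subgroup.mem_bot.mp ((hzeroT _ (hmemC a ha k hk)).mp h0))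
  have hFT : Nat.card F ≤ Nat.card T := by
    apply level3 ρW ρT γ hγ1 ?_ ?_ hWq hne'
    · intro x
      have h1 := hγ2 x 0 0
      rw [add_zero] at h1
      exact left_eq_add.mp h1
    · intro ξ x w
      obtain ⟨g, rfl⟩ := hS.χsurj ξ
      obtain ⟨b, hb, rfl⟩ := hS.surj x
      obtain ⟨c, hc, rfl⟩ := hsurjW w
      rw [← hS.conj g b hb, hρT, hρW, hγ b hb c hc, hactW g c hc, hactT g _ (hmemC b hb c hc),
        hγ _ (hMn.conj_mem b hb g) _ (hKnorm g c hc)]
      congr 1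
      simp only [commutatorElement_def]
      group
  have hcT : Nat.card C = Nat.card T := by
    rw [hcardT]
    simp
  have hlt := card_lt h hS (N := C) (hCK.trans h.hKM)
    (fun n hn => commutatorElement_eq_one_iff_commute.mp (hCc y h.hyM n hn))
    (fun hh => h.hyK (hCK hh))
  omega

theorem Fprime (h : Hyp r G K y) (hF : ∃ x₁ ∈ commutator G, x₁ ∉ K ∧ x₁⁻¹ * y ∉ K) :
    ⁅commutator G, K⁆ = ⊥ := by
  haveI := h.hn
  have hMn : (commutator G).Normal := inferInstance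
  have hCn : (⁅commutator G, K⁆).Normal := Subgroup.commutator_normal _ _
  obtain ⟨C, hC⟩ : ∃ C, C = ⁅commutator G, K⁆ := ⟨_, rfl⟩
  rw [← hC] at hCn ⊢
  have hDn : (⁅commutator G, C⁆).Normal := Subgroup.commutator_normal _ _
  obtain ⟨D, hD⟩ : ∃ D, D = ⁅commutator G, C⁆ := ⟨_, rfl⟩
  rw [← hD] at hDn
  have hCK : C ≤ K := by
    rw [hC]
    exact Subgroup.commutator_le_right _ _
  have hDC : D ≤ C := by
    rw [hD]
    exact Subgroup.commutator_le_right _ _
  have hDK := hDC.trans hCK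
  have h' := Hyp.map h D hDK
  have hF' : ∃ x₁ ∈ commutator (G ⧸ D), x₁ ∉ K.map (QuotientGroup.mk' D) ∧
      x₁⁻¹ * QuotientGroup.mk' D y ∉ K.map (QuotientGroup.mk' D) := by
    obtain ⟨x₁, hx₁, hx₁K, hx₁y⟩ := hF
    refine ⟨QuotientGroup.mk' D x₁, ?_, ?_, ?_⟩
    · rw [map_commutator_mk]
      exact ⟨x₁, hx₁, rfl⟩
    · rwa [mem_map_mk_iff hDK]
    · rw [← map_inv, ← map_mul, mem_map_mk_iff hDK]
      exact hx₁y
  have hb : ⁅commutator (G ⧸ D), ⁅commutator (G ⧸ D), K.map (QuotientGroup.mk' D)⁆⁆ = ⊥ := by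
    rw [map_commutator_mk, ← Subgroup.map_commutator, ← Subgroup.map_commutator, ← hC, ← hD,
      Subgroup.map_eq_bot_iff, QuotientGroup.ker_mk']
  have h3 := F3 h' hF' hb
  rw [map_commutator_mk, ← Subgroup.map_commutator, ← hC, Subgroup.map_eq_bot_iff,
    QuotientGroup.ker_mk'] at h3
  have h4 : C ≤ ⁅commutator G, C⁆ := by
    rw [← hD]
    exact h3
  exact eq_bot_of_le_comm h.hr (commutator G) C h.hp (hCK.trans h.hKM) h4

theorem finalF (h : Hyp r G K y) (hF : ∃ x₁ ∈ commutator G, x₁ ∉ K ∧ x₁⁻¹ * y ∉ K)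
    (hK : ⁅commutator G, K⁆ = ⊥) :
    ∃ z ∈ commutator G, z ∉ K ∧ (z ^ r = 1 ∨ (r = 2 ∧ z ^ 4 = 1)) := by
  classical
  haveI := h.hn
  obtain ⟨F, _, _, p, χ, hS⟩ := Hyp.structF h hF
  have hcent : ∀ m ∈ commutator G, ∀ k ∈ K, Commute m k := by
    intro m hm k hk
    have := Subgroup.commutator_mem_commutator hm hk
    rw [hK] at this
    exact commutatorElement_eq_one_iff_commute.mp (Subgroup.mem_bot.mp this)
  have hkexp : ∀ k ∈ K, k ^ r = 1 := by
    intro k hk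
    obtain ⟨m, hm, hme⟩ := camina h hS h.hyM h.hyK hk
    have h1 : (m * y * m⁻¹) ^ r = m * y ^ r * m⁻¹ := conj_pow
    have h2 : m * y ^ r * m⁻¹ = y ^ r := by
      rw [(hcent m hm _ (Hyp.pow_mem h h.hyM)).eq]
      group
    have h3 : (y * k) ^ r = y ^ r * k ^ r := (hcent y h.hyM k hk).mul_pow r
    rw [hme, h2, h3] at h1
    exact mul_left_cancel (h1.trans (mul_one _).symm)
  by_cases hr2 : r = 2
  · subst hr2
    refine ⟨y, h.hyM, h.hyK, Or.inr ⟨rfl, ?_⟩⟩
    have := hkexp _ (Hyp.pow_mem h h.hyM)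
    rw [← pow_mul] at this
    exact this
  have hrpos := h.hr.two_le
  have hr3 : 2 < r := lt_of_le_of_ne hrpos (Ne.symm hr2)
  have hdvd : r ∣ r.choose 2 := h.hr.dvd_choose_self (by norm_num) hr3
  have hhom : ∀ a ∈ commutator G, ∀ b ∈ commutator G, (a * b) ^ r = a ^ r * b ^ r := by
    intro a ha b hb
    have hc := Hyp.comm_mem h hb ha
    have h1 := mul_pow_class2 a b ⁅b, a⁆ (by
      rw [commutatorElement_def]
      group) (hcent a ha _ hc).symm (hcent b hb _ hc).symm r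
    obtain ⟨t, ht⟩ := hdvd
    rw [h1, ht, pow_mul, hkexp _ hc, one_pow, mul_one]
  choose l hlM hl using hS.surj
  have hlt := card_lt h hS (N := K) h.hKM (fun n hn => hcent y h.hyM n hn) h.hyK
  let f : F → K := fun x => ⟨l x ^ r, Hyp.pow_mem h (hlM x)⟩
  have hni : ¬ Function.Injective f := by
    intro hinj
    have := Nat.card_le_card_of_injective f hinj
    omega
  unfold Function.Injective at hni
  push Not at hni
  obtain ⟨x, x', hf, hxx⟩ := hni
  have hf' : l x ^ r = l x' ^ r := congrArg Subtype.val hf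
  refine ⟨(l x)⁻¹ * l x', (commutator G).mul_mem ((commutator G).inv_mem (hlM x)) (hlM x'), ?_, Or.inl ?_⟩
  · intro hzK
    have h1 := hS.add _ (hlM x) _ ((commutator G).mul_mem ((commutator G).inv_mem (hlM x)) (hlM x'))
    rw [(hS.zero _ ((commutator G).mul_mem ((commutator G).inv_mem (hlM x)) (hlM x'))).mpr hzK, add_zero,
      mul_inv_cancel_left, hl, hl] at h1
    exact hxx h1.symm
  · rw [hhom _ ((commutator G).inv_mem (hlM x)) _ (hlM x'), inv_pow, ← hf']
    group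

theorem caseF (h : Hyp r G K y) (hF : ∃ x₁ ∈ commutator G, x₁ ∉ K ∧ x₁⁻¹ * y ∉ K) :
    ∃ z ∈ commutator G, z ∉ K ∧ (z ^ r = 1 ∨ (r = 2 ∧ z ^ 4 = 1)) :=
  finalF h hF (Fprime h hF)

end Main

end Cfsg.Agent.Lib.CamGrp
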