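import Mathlib
import Cfsg.Agent.Lib.CharNormal
import Cfsg.Agent.Lib.CharKernel
import Cfsg.Agent.Lib.CharInd
import Cfsg.Agent.Lib.CharInduction

/-!
# Gagola: irreducible characters vanishing on all but two classes

Let `χ` be an irreducible character of a finite group `G` with `2 < |G|`, nonzero on exactly two
classes.  The support of `χ` is a normal subgroup `N`, elementary abelian, the unique minimal
normal subgroup, all its nonidentity elements are conjugate in `G`, and `N` lies in the kernel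
of every other irreducible character.
-/

set_option autoImplicit false
set_option linter.unusedSectionVars false
set_option linter.unusedVariables false

namespace Cfsg.Agent.Lib.Gagola

open Cfsg Cfsg.Agent.Lib.CharBasic Cfsg.Agent.Lib.CharInd Cfsg.Agent.Lib.CharAvg
open Cfsg.Agent.Lib.CharKernel Cfsg.Agent.Lib.CharNormal Cfsg.Agent.Lib.CharInduction
open scoped ComplexConjugate

universe u

section Pre

variable {G : Type u} [Group G] [Fintype G]

theorem class_of_isConj {f : G → ℂ} (hf : IsClassFunction G f) {x y : G} (h : IsConj x y) :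
    f x = f y := by
  obtain ⟨c, rfl⟩ := isConj_iff.mp h
  exact (hf x c).symm

variable {χ : G → ℂ} {x₀ : G}

theorem exists_rep (hχ : IsIrrCharacter G χ)
    (h2 : Nat.card {C : ConjClasses G // ∃ g ∈ C.carrier, χ g ≠ 0} = 2) :
    ∃ x₀ : G, x₀ ≠ 1 ∧ ∀ g, χ g ≠ 0 ↔ g = 1 ∨ IsConj x₀ g := by
  classical
  have h1ne : χ 1 ≠ 0 := irr_one_ne_zero hχ
  let C₁ : {C : ConjClasses G // ∃ g ∈ C.carrier, χ g ≠ 0} :=
    ⟨ConjClasses.mk 1, 1, ConjClasses.mem_carrier_mk, h1ne⟩
  obtain ⟨C, hC, huniq⟩ := (Nat.card_eq_two_iff' C₁).mp h2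
  obtain ⟨c, g₀, hg₀, hne⟩ := C
  have hmk : ConjClasses.mk g₀ = c := ConjClasses.mem_carrier_iff_mk_eq.mp hg₀
  refine ⟨g₀, ?_, ?_⟩
  · rintro rfl
    apply hC
    apply Subtype.ext
    exact hmk.symm
  · intro g
    constructor
    · intro hg
      by_cases hg1 : g = 1
      · exact Or.inl hg1
      · right
        let C' : {C : ConjClasses G // ∃ g ∈ C.carrier, χ g ≠ 0} :=
          ⟨ConjClasses.mk g, g, ConjClasses.mem_carrier_mk, hg⟩
        have hC' : C' ≠ C₁ := by
          intro h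
          apply hg1
          have : ConjClasses.mk g = ConjClasses.mk (1 : G) := congrArg Subtype.val h
          rw [ConjClasses.mk_eq_mk_iff_isConj] at this
          exact isConj_one_left.mp this
        have := huniq C' hC'
        have h3 : ConjClasses.mk g = c := congrArg Subtype.val this
        rw [← hmk, ConjClasses.mk_eq_mk_iff_isConj] at h3
        exact h3.symm
    · rintro (rfl | hg)
      · exact h1ne
      · have hcl := isClassFunction_of_isCharacter (IsIrrCharacter.isCharacter hχ)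
        rw [← class_of_isConj hcl hg]
        exact hne

theorem not_principal (two : 2 < Nat.card G) (hx₀ : x₀ ≠ 1)
    (h : ∀ g, χ g ≠ 0 ↔ g = 1 ∨ IsConj x₀ g) : χ ≠ fun _ => 1 := by
  classical
  rintro rfl
  have hall : ∀ g, g = 1 ∨ IsConj x₀ g := fun g => (h g).mp one_ne_zero
  have h1 := card_conj_mul_card_centralizer x₀
  have h2 : Nat.card G - 1 ≤ Nat.card {x : G // IsConj x₀ x} := by
    rw [Nat.card_eq_fintype_card, Nat.card_eq_fintype_card, Fintype.card_subtype,
      ← Finset.card_univ, ← Finset.card_erase_of_mem (Finset.mem_univ (1 : G))]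
    apply Finset.card_le_card
    intro g hg
    simp only [Finset.mem_erase, Finset.mem_univ, and_true] at hg
    simp only [Finset.mem_filter, Finset.mem_univ, true_and]
    exact (hall g).resolve_left hg
  have h3 : 2 ≤ Nat.card (Subgroup.centralizer ({x₀} : Set G)) := by
    have hmem : x₀ ∈ Subgroup.centralizer ({x₀} : Set G) := by
      rw [Subgroup.mem_centralizer_iff]
      rintro g rfl
      rfl
    haveI : Nontrivial (Subgroup.centralizer ({x₀} : Set G)) :=
      ⟨⟨⟨x₀, hmem⟩, 1, fun h => hx₀ (congrArg Subtype.val h)⟩⟩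
    exact Finite.one_lt_card
  have h4 : (Nat.card G - 1) * 2 ≤ Nat.card {x : G // IsConj x₀ x} *
      Nat.card (Subgroup.centralizer ({x₀} : Set G)) := Nat.mul_le_mul h2 h3
  rw [h1] at h4
  omega

open scoped Classical in
/-- The conjugates of `x₀`. -/
noncomputable def cls (x₀ : G) : Finset G := Finset.univ.filter (fun g => IsConj x₀ g)

theorem mem_cls {g : G} : g ∈ cls x₀ ↔ IsConj x₀ g := by
  classical
  simp only [cls, Finset.mem_filter, Finset.mem_univ, true_and]

theorem one_not_mem_cls (hx₀ : x₀ ≠ 1) : (1 : G) ∉ cls x₀ := by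
  rw [mem_cls, isConj_one_left]
  exact hx₀

theorem cls_card_pos : 0 < (cls x₀).card := by
  classical
  apply Finset.card_pos.mpr
  exact ⟨x₀, mem_cls.mpr (IsConj.refl _)⟩

theorem sum_support (hχ : IsIrrCharacter G χ) (hx₀ : x₀ ≠ 1)
    (h : ∀ g, χ g ≠ 0 ↔ g = 1 ∨ IsConj x₀ g) {f : G → ℂ} (hf : IsClassFunction G f) :
    ∑ g, χ g * f g = χ 1 * f 1 + ((cls x₀).card : ℂ) * (χ x₀ * f x₀) := by
  classical
  have hcl := isClassFunction_of_isCharacter (IsIrrCharacter.isCharacter hχ)
  have h1 : ∑ g, χ g * f g = ∑ g ∈ insert 1 (cls x₀), χ g * f g := by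
    symm
    apply Finset.sum_subset (Finset.subset_univ _)
    intro g _ hg
    have : χ g = 0 := by
      by_contra h0
      apply hg
      rcases (h g).mp h0 with rfl | hc
      · exact Finset.mem_insert_self _ _
      · exact Finset.mem_insert_of_mem (mem_cls.mpr hc)
    rw [this, zero_mul]
  rw [h1, Finset.sum_insert (one_not_mem_cls hx₀)]
  congr 1
  rw [Finset.sum_congr rfl (g := fun _ => χ x₀ * f x₀)]
  · simp
  · intro g hg
    have : IsConj x₀ g := mem_cls.mp hg
    rw [← class_of_isConj hcl this, ← class_of_isConj hf this]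

theorem value_eq (two : 2 < Nat.card G) (hχ : IsIrrCharacter G χ) (hx₀ : x₀ ≠ 1)
    (h : ∀ g, χ g ≠ 0 ↔ g = 1 ∨ IsConj x₀ g) :
    χ 1 + ((cls x₀).card : ℂ) * χ x₀ = 0 := by
  have h1 := classInner_irr_ne hχ isIrrCharacter_one (not_principal two hx₀ h)
  unfold classInner at h1
  have hG : (Nat.card G : ℂ) ≠ 0 := natCard_ne_zero'
  have h2 : ∑ g, χ g * conj ((fun _ : G => (1 : ℂ)) g) = 0 := by
    rcases mul_eq_zero.mp h1 with h3 | h3
    · exact absurd h3 (inv_ne_zero hG)
    · exact h3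
  have h3 := sum_support hχ hx₀ h (f := fun _ => conj (1 : ℂ)) (fun _ _ => rfl)
  simp only [map_one, mul_one] at h2 h3
  rw [h2] at h3
  exact h3.symm

theorem other_eq (two : 2 < Nat.card G) (hχ : IsIrrCharacter G χ) (hx₀ : x₀ ≠ 1)
    (h : ∀ g, χ g ≠ 0 ↔ g = 1 ∨ IsConj x₀ g) {ψ : G → ℂ} (hψ : IsIrrCharacter G ψ) (hne : ψ ≠ χ) :
    ψ x₀ = ψ 1 := by
  have h1 := classInner_irr_ne hχ hψ hne.symm
  unfold classInner at h1
  have hG : (Nat.card G : ℂ) ≠ 0 := natCard_ne_zero'
  have h2 : ∑ g, χ g * conj (ψ g) = 0 := by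
    rcases mul_eq_zero.mp h1 with h3 | h3
    · exact absurd h3 (inv_ne_zero hG)
    · exact h3
  have hcl := isClassFunction_of_isCharacter (IsIrrCharacter.isCharacter hψ)
  have h3 := sum_support hχ hx₀ h (f := fun g => conj (ψ g)) (fun g k => by
    show conj (ψ (k * g * k⁻¹)) = conj (ψ g)
    rw [hcl g k])
  rw [h2] at h3
  have h4 := value_eq two hχ hx₀ h
  have h5 : χ 1 = -(((cls x₀).card : ℂ) * χ x₀) := by linear_combination h4
  rw [h5] at h3
  have hk : ((cls x₀).card : ℂ) ≠ 0 := by exact_mod_cast cls_card_pos.ne'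
  have hv : χ x₀ ≠ 0 := (h x₀).mpr (Or.inr (IsConj.refl _))
  have h6 : ((cls x₀).card : ℂ) * χ x₀ * (conj (ψ 1) - conj (ψ x₀)) = 0 := by
    linear_combination h3
  have h7 : conj (ψ 1) - conj (ψ x₀) = 0 := by
    rcases mul_eq_zero.mp h6 with h8 | h8
    · exact absurd h8 (mul_ne_zero hk hv)
    · exact h8
  have h8 : conj (ψ x₀) = conj (ψ 1) := by linear_combination -h7
  exact (RingHom.injective (starRingEnd ℂ)) h8

theorem support_of_ker (two : 2 < Nat.card G) (hχ : IsIrrCharacter G χ) (hx₀ : x₀ ≠ 1)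
    (h : ∀ g, χ g ≠ 0 ↔ g = 1 ∨ IsConj x₀ g) {g : G}
    (hg : ∀ ψ : IrrCharacter G, (ψ : G → ℂ) ≠ χ → (ψ : G → ℂ) g = (ψ : G → ℂ) 1) : χ g ≠ 0 := by
  classical
  intro h0
  have hg1 : g ≠ 1 := by
    rintro rfl
    exact irr_one_ne_zero hχ h0
  have h1 := sum_irr_mul_conj g 1
  rw [if_neg (by rwa [isConj_one_left])] at h1
  let χ' : IrrCharacter G := ⟨χ, hχ⟩
  let one : IrrCharacter G := ⟨fun _ => (1 : ℂ), isIrrCharacter_one⟩
  have hone : one ≠ χ' := by
    intro h2
    exact not_principal two hx₀ h (congrArg Subtype.val h2).symm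
  -- all the terms are nonnegative reals
  have hre : ∀ ψ : IrrCharacter G, ψ ≠ χ' → (ψ : G → ℂ) g * conj ((ψ : G → ℂ) 1) =
      (((charDegree (ψ : G → ℂ)) ^ 2 : ℕ) : ℂ) := by
    intro ψ hψ
    rw [hg ψ (fun h3 => hψ (Subtype.ext h3)), one_eq_charDegree (IsIrrCharacter.isCharacter ψ.2)]
    simp [sq]
  rw [← Finset.add_sum_erase _ _ (Finset.mem_univ χ')] at h1
  have hfirst : (χ' : G → ℂ) g * conj ((χ' : G → ℂ) 1) = 0 := by
    show χ g * _ = 0
    rw [h0, zero_mul]
  rw [hfirst, zero_add, Finset.sum_congr rfl (fun ψ hψ => hre ψ (Finset.ne_of_mem_erase hψ))] at h1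
  have h2 : ∑ ψ ∈ Finset.univ.erase χ', (charDegree (ψ : G → ℂ)) ^ 2 = 0 := by
    exact_mod_cast h1
  have h3 := (Finset.sum_eq_zero_iff.mp h2) one (Finset.mem_erase.mpr ⟨hone, Finset.mem_univ _⟩)
  have h4 : (one : G → ℂ) 1 = (charDegree (one : G → ℂ) : ℂ) :=
    one_eq_charDegree (IsIrrCharacter.isCharacter one.2)
  have h5 : charDegree (one : G → ℂ) = 0 := by
    simpa using h3
  rw [h5] at h4
  simp [one] at h4

end Pre

section Data

variable {G : Type u} [Group G] [Fintype G]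

/-- The data of a character with two nonvanishing classes. -/
structure Data (χ : G → ℂ) (N : Subgroup G) : Prop where
  irr : IsIrrCharacter G χ
  normal : N.Normal
  mem : ∀ g, g ∈ N ↔ χ g ≠ 0
  isConj : ∀ x ∈ N, ∀ y ∈ N, x ≠ 1 → y ≠ 1 → IsConj x y
  ne_bot : N ≠ ⊥
  two : 2 < Nat.card G

variable {χ : G → ℂ}

theorem exists_data (two : 2 < Nat.card G) (hχ : IsIrrCharacter G χ)
    (h2 : Nat.card {C : ConjClasses G // ∃ g ∈ C.carrier, χ g ≠ 0} = 2) :
    ∃ N : Subgroup G, Data χ N := by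
  classical
  obtain ⟨x₀, hx₀, h⟩ := exists_rep hχ h2
  have hcl := isClassFunction_of_isCharacter (IsIrrCharacter.isCharacter hχ)
  let N : Subgroup G := ⨅ ψ : {ψ : IrrCharacter G // (ψ : G → ℂ) ≠ χ},
    charKer (IsIrrCharacter.isCharacter ψ.1.2)
  have hmem : ∀ g, g ∈ N ↔ χ g ≠ 0 := by
    intro g
    constructor
    · intro hg
      apply support_of_ker two hχ hx₀ h
      intro ψ hψ
      have := (Subgroup.mem_iInf.mp hg) ⟨ψ, hψ⟩
      exact this
    · intro hg
      apply Subgroup.mem_iInf.mpr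
      rintro ⟨ψ, hψ⟩
      rw [mem_charKer]
      rcases (h g).mp hg with rfl | hc
      · rfl
      · rw [← class_of_isConj (isClassFunction_of_isCharacter (IsIrrCharacter.isCharacter ψ.2)) hc]
        exact other_eq two hχ hx₀ h ψ.2 hψ
  refine ⟨N, hχ, ?_, hmem, ?_, ?_, two⟩
  · constructor
    intro n hn g
    rw [hmem] at hn ⊢
    rwa [hcl n g]
  · intro x hx y hy hx1 hy1
    have h1 := ((h x).mp ((hmem x).mp hx)).resolve_left hx1
    have h3 := ((h y).mp ((hmem y).mp hy)).resolve_left hy1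
    exact h1.symm.trans h3
  · intro hbot
    have : x₀ ∈ N := (hmem x₀).mpr ((h x₀).mpr (Or.inr (IsConj.refl _)))
    rw [hbot, Subgroup.mem_bot] at this
    exact hx₀ this

namespace Data

variable {N : Subgroup G} (D : Data χ N)
include D

theorem exists_x₀ : ∃ x₀ ∈ N, x₀ ≠ 1 := by
  obtain ⟨x, hx⟩ := (Subgroup.ne_bot_iff_exists_ne_one.mp D.ne_bot)
  exact ⟨x, x.2, fun h => hx (Subtype.ext h)⟩

theorem isClass : IsClassFunction G χ :=
  isClassFunction_of_isCharacter (IsIrrCharacter.isCharacter D.irr)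

theorem support {x₀ : G} (hx : x₀ ∈ N) (hx₀ : x₀ ≠ 1) :
    ∀ g, χ g ≠ 0 ↔ g = 1 ∨ IsConj x₀ g := by
  intro g
  rw [← D.mem]
  constructor
  · intro hg
    by_cases hg1 : g = 1
    · exact Or.inl hg1
    · exact Or.inr (D.isConj _ hx _ hg hx₀ hg1)
  · rintro (rfl | hc)
    · exact N.one_mem
    · obtain ⟨c, rfl⟩ := isConj_iff.mp hc
      exact D.normal.conj_mem _ hx c

theorem card_cls {x₀ : G} (hx : x₀ ∈ N) (hx₀ : x₀ ≠ 1) :
    (cls x₀).card + 1 = Nat.card N := by
  classical
  rw [Nat.card_eq_fintype_card, Fintype.card_subtype, ← Finset.card_insert_of_notMem (one_not_mem_cls hx₀)]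
  congr 1
  ext g
  simp only [Finset.mem_insert, mem_cls, Finset.mem_filter, Finset.mem_univ, true_and]
  rw [D.mem, D.support hx hx₀]

theorem other {ψ : G → ℂ} (hψ : IsIrrCharacter G ψ) (hne : ψ ≠ χ) {n : G} (hn : n ∈ N) :
    ψ n = ψ 1 := by
  by_cases h1 : n = 1
  · rw [h1]
  · exact other_eq D.two D.irr h1 (D.support hn h1) hψ hne

theorem value {x : G} (hx : x ∈ N) (hx₁ : x ≠ 1) :
    χ 1 + ((Nat.card N : ℂ) - 1) * χ x = 0 := by
  have h := value_eq D.two D.irr hx₁ (D.support hx hx₁)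
  have h2 := D.card_cls hx hx₁
  rw [← h2]
  push_cast
  linear_combination h

theorem card_centralizer {x : G} (hx : x ∈ N) (hx₁ : x ≠ 1) :
    Nat.card (Subgroup.centralizer ({x} : Set G)) * (Nat.card N - 1) = Nat.card G := by
  classical
  have h1 := card_conj_mul_card_centralizer x
  have h2 := D.card_cls hx hx₁
  have h3 : Nat.card {y : G // IsConj x y} = (cls x).card := by
    rw [Nat.card_eq_fintype_card, Fintype.card_subtype]
    rfl
  rw [h3] at h1
  rw [← h1, ← h2, Nat.add_sub_cancel, mul_comm]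

theorem one_lt_card : 1 < Nat.card N := by
  obtain ⟨x, hx, hx1⟩ := D.exists_x₀
  have h2 := D.card_cls hx hx1
  have := cls_card_pos (x₀ := x)
  omega

/-- the degree formula. -/
theorem degree_formula :
    (χ 1) ^ 2 * (Nat.card N : ℂ) = (Nat.card G : ℂ) * ((Nat.card N : ℂ) - 1) := by
  obtain ⟨x, hx, hx1⟩ := D.exists_x₀
  have hs := D.support hx hx1
  have h1 := classInner_irr_self D.irr
  unfold classInner at h1
  have hG : (Nat.card G : ℂ) ≠ 0 := natCard_ne_zero'
  have h2 : ∑ g, χ g * conj (χ g) = (Nat.card G : ℂ) := by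
    field_simp at h1
    exact h1
  have h3 := sum_support D.irr hx1 hs (f := fun g => conj (χ g)) (fun g k => by
    show conj (χ (k * g * k⁻¹)) = conj (χ g)
    rw [D.isClass g k])
  rw [h2] at h3
  have h4 := value_eq D.two D.irr hx1 hs
  have h5 := congrArg (starRingEnd ℂ) h4
  obtain ⟨d, -, hd⟩ := irr_one_eq D.irr
  simp only [map_add, map_mul, map_natCast, map_zero, hd, Complex.conj_natCast] at h5
  rw [hd] at h3 h4 ⊢
  simp only [Complex.conj_natCast] at h3
  have h6 := D.card_cls hx hx1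
  rw [← h6]
  push_cast
  have hk : ((cls x).card : ℂ) ≠ 0 := by exact_mod_cast cls_card_pos.ne'
  set k : ℂ := ((cls x).card : ℂ)
  set a := χ x
  have ha : k * a = - d := by linear_combination h4
  have hb : k * conj a = - d := by linear_combination h5
  apply mul_left_cancel₀ hk
  have h7 : k * (k * (a * conj a)) = d ^ 2 := by
    calc k * (k * (a * conj a)) = (k * a) * (k * conj a) := by ring
      _ = d ^ 2 := by rw [ha, hb]; ring
  rw [h3]
  linear_combination (-k) * h7
/-- `χ` is faithful. -/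
theorem faithful {g : G} (hg : χ g = χ 1) : g = 1 := by
  by_contra hg1
  have h0 : χ 1 ≠ 0 := irr_one_ne_zero D.irr
  have hm : g ∈ N := (D.mem g).mpr (by rw [hg]; exact h0)
  have h1 := D.value hm hg1
  rw [hg] at h1
  have h2 : (Nat.card N : ℂ) * χ 1 = 0 := by linear_combination h1
  rcases mul_eq_zero.mp h2 with h3 | h3
  · exact (natCard_subgroup_ne_zero N) h3
  · exact h0 h3

/-- The nonidentity elements of `N` have prime order, and `N` is abelian. -/
theorem exists_prime : ∃ p : ℕ, p.Prime ∧ IsPGroup p N ∧ ∀ a ∈ N, a ^ p = 1 := by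
  obtain ⟨p, hp, hpd⟩ := Nat.exists_prime_and_dvd (D.one_lt_card).ne'
  haveI : Fact p.Prime := ⟨hp⟩
  obtain ⟨x, hx⟩ := exists_prime_orderOf_dvd_card' p hpd
  have hxne : (x : G) ≠ 1 := by
    intro h
    have h2 : x = 1 := Subtype.ext h
    rw [h2, orderOf_one] at hx
    exact hp.one_lt.ne hx
  have hpow : ∀ a ∈ N, a ^ p = 1 := by
    intro a ha
    by_cases ha1 : a = 1
    · rw [ha1, one_pow]
    · obtain ⟨c, rfl⟩ := isConj_iff.mp (D.isConj _ x.2 _ ha hxne ha1)
      rw [conj_pow]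
      have : (x : G) ^ p = 1 := by
        have := pow_orderOf_eq_one x
        rw [hx] at this
        exact_mod_cast congrArg Subtype.val this
      rw [this, mul_one, mul_inv_cancel]
  refine ⟨p, hp, ?_, hpow⟩
  intro g
  exact ⟨1, by rw [pow_one]; exact Subtype.ext (hpow g g.2)⟩

theorem comm : IsMulCommutative N := by
  obtain ⟨p, hp, hpG, -⟩ := D.exists_prime
  haveI : Fact p.Prime := ⟨hp⟩
  haveI : Nontrivial N := by
    obtain ⟨x, hx, hx1⟩ := D.exists_x₀
    exact ⟨⟨⟨x, hx⟩, 1, fun h => hx1 (congrArg Subtype.val h)⟩⟩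
  haveI := hpG.center_nontrivial
  obtain ⟨z, hz⟩ := exists_ne (1 : Subgroup.center N)
  have hz1 : (z : N) ≠ 1 := fun h => hz (Subtype.ext h)
  have hz1' : ((z : N) : G) ≠ 1 := fun h => hz1 (Subtype.ext h)
  have hN := D.normal
  have key : ∀ a b : N, a * b = b * a := by
    intro a b
    by_cases ha1 : (a : G) = 1
    · have : a = 1 := Subtype.ext ha1
      rw [this, one_mul, mul_one]
    · obtain ⟨c, hc⟩ := isConj_iff.mp (D.isConj _ (z : N).2 _ a.2 hz1' ha1)
      apply Subtype.ext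
      let b' : N := ⟨c⁻¹ * b * c⁻¹⁻¹, hN.conj_mem _ b.2 _⟩
      have hcomm : (z : N) * b' = b' * (z : N) := (Subgroup.mem_center_iff.mp z.2 b').symm
      have hcomm' : ((z : N) : G) * (c⁻¹ * b * c) = (c⁻¹ * b * c) * ((z : N) : G) := by
        have := congrArg Subtype.val hcomm
        simpa [b'] using this
      simp only [Subgroup.coe_mul]
      rw [← hc]
      calc c * ((z : N) : G) * c⁻¹ * b = c * (((z : N) : G) * (c⁻¹ * b * c)) * c⁻¹ := by group
        _ = c * ((c⁻¹ * b * c) * ((z : N) : G)) * c⁻¹ := by rw [hcomm']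
        _ = b * (c * ((z : N) : G) * c⁻¹) := by group
  exact ⟨⟨key⟩⟩

/-- `N` is the unique minimal normal subgroup. -/
theorem le_of_normal {K : Subgroup G} (hK : K.Normal) (hK1 : K ≠ ⊥) : N ≤ K := by
  classical
  by_cases h : ∃ t ∈ K, t ∈ N ∧ t ≠ 1
  · obtain ⟨t, htK, htN, ht1⟩ := h
    intro x hx
    by_cases hx1 : x = 1
    · rw [hx1]; exact K.one_mem
    · obtain ⟨c, rfl⟩ := isConj_iff.mp (D.isConj _ htN _ hx ht1 hx1)
      exact hK.conj_mem _ htK c
  · exfalso
    push Not at h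
    obtain ⟨k₀, hk₀⟩ := Subgroup.ne_bot_iff_exists_ne_one.mp hK1
    have hk₀1 : (k₀ : G) ≠ 1 := fun h => hk₀ (Subtype.ext h)
    have hk₀N : (k₀ : G) ∉ N := fun h2 => hk₀1 (h _ k₀.2 h2)
    have hχk : χ k₀ = 0 := by
      by_contra h3
      exact hk₀N ((D.mem _).mpr h3)
    obtain ⟨x, hx, hx1⟩ := D.exists_x₀
    haveI : Fintype K := Fintype.ofFinite K
    have hsum := sum_mul_normal_eq_zero D.irr K ⟨k₀, k₀.2, by
      rw [hχk]; exact (irr_one_ne_zero D.irr).symm⟩ x
    rw [Finset.sum_eq_single (1 : K)] at hsum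
    · simp only [Subgroup.coe_one, mul_one] at hsum
      exact ((D.mem x).mp hx) hsum
    · intro b _ hb
      have hb1 : (b : G) ≠ 1 := fun h => hb (Subtype.ext h)
      by_contra h3
      have h4 : x * b ∈ N := (D.mem _).mpr h3
      have h5 : (b : G) ∈ N := by
        have := N.mul_mem (N.inv_mem hx) h4
        simpa using this
      exact hb1 (h _ b.2 h5)
    · intro h3; exact absurd (Finset.mem_univ _) h3

end Data

end Data

end Cfsg.Agent.Lib.Gagola
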