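import Mathlib
import Cfsg.Agent.Lib.Gagola

/-!
# Gagola, second part: inertia groups and centralizers are Sylow
-/

set_option autoImplicit false
set_option linter.unusedSectionVars false
set_option linter.unusedVariables false

namespace Cfsg.Agent.Lib.Gagola2

open Cfsg Cfsg.Agent.Lib.CharBasic Cfsg.Agent.Lib.CharInd Cfsg.Agent.Lib.CharAvg
open Cfsg.Agent.Lib.CharKernel Cfsg.Agent.Lib.CharNormal Cfsg.Agent.Lib.CharInduction
open Cfsg.Agent.Lib.Gagola
open scoped ComplexConjugate

universe u

/-- Irreducible characters of abelian groups have degree one. -/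
theorem irr_one_of_comm {A : Type u} [Group A] [IsMulCommutative A] {μ : A → ℂ}
    (hμ : IsIrrCharacter A μ) : μ 1 = 1 := by
  obtain ⟨n, ρ, hρ, rfl⟩ := hμ
  rw [char_one_eq_rep]
  have hcomm : ∀ a b : A, a * b = b * a := fun a b => (IsMulCommutative.is_comm (M := A)).comm a b
  have hsc : ∀ a : A, ∃ c : ℂ, ρ a = c • LinearMap.id := by
    intro a
    apply schur_scalar hρ
    intro g
    rw [← Module.End.mul_eq_comp, ← Module.End.mul_eq_comp, ← map_mul, ← map_mul, hcomm]
  rw [isIrreducible_iff] at hρ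
  obtain ⟨hnt, hU⟩ := hρ
  have hn : n ≠ 0 := by
    rintro rfl
    exact not_subsingleton _ (inferInstance : Subsingleton (Fin 0 → ℂ))
  have hinv : ∀ U : Submodule ℂ (Fin n → ℂ), ∀ g, ∀ v ∈ U, ρ g v ∈ U := by
    intro U g v hv
    obtain ⟨c, hc⟩ := hsc g
    rw [hc]
    exact U.smul_mem c hv
  obtain ⟨v, hv⟩ := exists_ne (0 : Fin n → ℂ)
  have hspan := hU (Submodule.span ℂ {v}) (hinv _)
  rcases hspan with h | h
  · rw [Submodule.span_singleton_eq_bot] at h
    exact absurd h hv
  · have h2 : Module.finrank ℂ (Submodule.span ℂ {v}) = 1 := finrank_span_singleton hv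
    rw [h] at h2
    simp at h2
    exact_mod_cast h2

section Free

variable {G : Type u} [Group G] [Fintype G]

/-- If a subgroup `Q` meeting the normal `N` trivially fixes the linear character `μ`, and `χ`
vanishes off `N`, then `|Q|` divides the multiplicity of `μ` in `χ|N`. -/
theorem dvd_of_free (N Q : Subgroup G) [hN : N.Normal] [Fintype N] (μ : N →* ℂˣ)
    (hinv : ∀ y ∈ Q, ∀ n : N, μ (MulAut.conjNormal y n) = μ n)
    (hdisj : ∀ y ∈ Q, y ∈ N → y = 1) {χ : G → ℂ} (hχ : IsCharacter G χ)
    (hvan : ∀ g, g ∉ N → χ g = 0) :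
    ∃ m : ℕ, (Nat.card N : ℂ)⁻¹ * ∑ n : N, χ n * conj ((μ n : ℂˣ) : ℂ) = (Nat.card Q : ℂ) * m := by
  classical
  haveI : Fintype Q := Fintype.ofFinite Q
  let φ : Q →* MulAut N := (MulAut.conjNormal : G →* MulAut N).comp Q.subtype
  let Γ := N ⋊[φ] Q
  haveI : Fintype Γ := Fintype.ofEquiv (N × Q) SemidirectProduct.equivProd.symm
  let f : Γ →* G := SemidirectProduct.lift N.subtype Q.subtype (by
    intro g
    ext n
    simp [φ, MulAut.conjNormal_apply])
  let ν : Γ →* ℂˣ := SemidirectProduct.lift μ 1 (by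
    intro g
    ext n
    simp only [MonoidHom.comp_apply, MulEquiv.coe_toMonoidHom, MonoidHom.one_apply, map_one,
      MulAut.conj_apply, mul_one, one_mul, inv_one]
    show ((μ (MulAut.conjNormal (g : G) n) : ℂˣ) : ℂ) = _
    rw [hinv g g.2 n]
    simp)
  have hfval : ∀ γ : Γ, f γ = (γ.left : G) * (γ.right : G) := fun γ => rfl
  have hνval : ∀ γ : Γ, ν γ = μ γ.left := by
    intro γ
    show μ γ.left * (1 : Q →* ℂˣ) γ.right = _
    simp
  obtain ⟨m, hm⟩ := classInner_char_irr (isCharacter_comp f hχ)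
    (isIrrCharacter_of_hom ν)
  refine ⟨m, ?_⟩
  unfold classInner at hm
  have hcard : Nat.card Γ = Nat.card N * Nat.card Q := SemidirectProduct.card
  rw [hcard] at hm
  have hsum : ∑ γ : Γ, (χ ∘ f) γ * conj ((ν γ : ℂˣ) : ℂ) =
      ∑ n : N, χ n * conj ((μ n : ℂˣ) : ℂ) := by
    rw [← Equiv.sum_comp (SemidirectProduct.equivProd (φ := φ)).symm, Fintype.sum_prod_type]
    refine Finset.sum_congr rfl fun n _ => ?_
    rw [Finset.sum_eq_single (1 : Q)]
    · have h1 : f ((SemidirectProduct.equivProd (φ := φ)).symm (n, 1)) = n := by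
        rw [hfval]
        simp [SemidirectProduct.equivProd]
      have h2 : ν ((SemidirectProduct.equivProd (φ := φ)).symm (n, 1)) = μ n := by
        rw [hνval]
        simp [SemidirectProduct.equivProd]
      simp only [Function.comp_apply, h1, h2]
    · intro y _ hy
      have h1 : f ((SemidirectProduct.equivProd (φ := φ)).symm (n, y)) = (n : G) * y := by
        rw [hfval]
        simp [SemidirectProduct.equivProd]
      have h3 : (n : G) * y ∉ N := by
        intro h4
        have h5 : (y : G) ∈ N := by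
          have := N.mul_mem (N.inv_mem n.2) h4
          simpa using this
        exact hy (Subtype.ext (hdisj y y.2 h5))
      simp only [Function.comp_apply, h1]
      rw [hvan _ h3, zero_mul]
    · intro h3; exact absurd (Finset.mem_univ _) h3
  have hsum' : ∑ γ : Γ, (χ ∘ f) γ * conj ((fun g => ((ν g : ℂˣ) : ℂ)) γ) =
      ∑ n : N, χ n * conj ((μ n : ℂˣ) : ℂ) := hsum
  rw [hsum'] at hm
  have hN0 : (Nat.card N : ℂ) ≠ 0 := natCard_subgroup_ne_zero N
  have hQ0 : (Nat.card Q : ℂ) ≠ 0 := natCard_subgroup_ne_zero Q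
  push_cast at hm
  field_simp at hm ⊢
  linear_combination hm

end Free

section Inertia

variable {G : Type u} [Group G]

/-- The stabilizer of a function on a normal subgroup. -/
def inertia (N : Subgroup G) (hN : N.Normal) (μ : N → ℂ) : Subgroup G where
  carrier := {g | conjBy N hN g μ = μ}
  mul_mem' := by
    intro a b ha hb
    show conjBy N hN (a * b) μ = μ
    rw [← conjBy_conjBy]
    have ha' : conjBy N hN a μ = μ := ha
    have hb' : conjBy N hN b μ = μ := hb
    rw [ha', hb']
  one_mem' := conjBy_one N hN μ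
  inv_mem' := by
    intro a ha
    have ha' : conjBy N hN a μ = μ := ha
    show conjBy N hN a⁻¹ μ = μ
    conv_lhs => rw [← ha']
    rw [conjBy_conjBy]
    simp [conjBy_one]

theorem mem_inertia {N : Subgroup G} {hN : N.Normal} {μ : N → ℂ} {g : G} :
    g ∈ inertia N hN μ ↔ ∀ n n' : N, (n' : G) = g * n * g⁻¹ → μ n' = μ n := by
  constructor
  · intro h n n' hn
    have h2 : conjBy N hN g μ n = μ n := congrFun h n
    rw [conjBy_apply] at h2
    rw [← h2]
    congr 1
    exact Subtype.ext hn
  · intro h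
    funext n
    rw [conjBy_apply]
    exact h n _ rfl

end Inertia

namespace Data

variable {G : Type u} [Group G] [Fintype G] {χ : G → ℂ} {N : Subgroup G} (D : Data χ N)
include D

/-- Main computation: the function induced from a nontrivial irreducible character of `N`
is a multiple of `χ`. -/
theorem ind_eq {μ : N → ℂ} (hμ : IsIrrCharacter N μ) (hμ1 : μ ≠ fun _ => 1) :
    ∃ c : ℕ, 0 < c ∧ indFun N μ = (c : ℂ) • χ ∧ classInner (indFun N μ) χ = c := by
  classical
  haveI : Fintype N := Fintype.ofFinite N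
  have hcha := indFun_isCharacter N (IsIrrCharacter.isCharacter hμ)
  obtain ⟨c, hc⟩ := classInner_char_irr hcha D.irr
  have hcl := indFun_isClassFunction N μ
  have hzero : ∀ ψ : IrrCharacter G, (ψ : G → ℂ) ≠ χ → classInner (indFun N μ) (ψ : G → ℂ) = 0 := by
    intro ψ hψ
    rw [frobenius N μ (isClassFunction_of_isCharacter (IsIrrCharacter.isCharacter ψ.2))]
    have h1 : (fun h : N => (ψ : G → ℂ) h) = ((ψ : G → ℂ) 1) • (fun _ : N => (1 : ℂ)) := by
      funext h
      simp [D.other ψ.2 hψ h.2]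
    rw [h1, classInner_smul_right]
    rw [classInner_irr_ne hμ isIrrCharacter_one hμ1, mul_zero]
  have heq : indFun N μ = (c : ℂ) • χ := by
    have h := classFunction_eq_sum hcl
    rw [h, Finset.sum_eq_single (⟨χ, D.irr⟩ : IrrCharacter G)]
    · simp only [hc]
    · intro ψ _ hψ
      rw [hzero ψ (fun h2 => hψ (Subtype.ext h2)), zero_smul]
    · intro h3; exact absurd (Finset.mem_univ _) h3
  refine ⟨c, ?_, heq, hc⟩
  rcases Nat.eq_zero_or_pos c with h0 | h0
  · exfalso
    rw [h0] at heq
    have h1 := congrFun heq 1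
    rw [indFun_one] at h1
    simp only [Nat.cast_zero, zero_smul, Pi.zero_apply, mul_eq_zero] at h1
    rcases h1 with h2 | h2
    · have : N.index ≠ 0 := Subgroup.index_ne_zero_of_finite
      exact this (by exact_mod_cast h2)
    · exact irr_one_ne_zero hμ h2
  · exact h0

/-- The numerical consequences. -/
theorem numerics [Fintype N] {μ : N → ℂ} (hμ : IsIrrCharacter N μ) (hμ1 : μ ≠ fun _ => 1) :
    ∃ c : ℕ, 0 < c ∧ classInner μ (fun h : N => χ h) = c ∧
      χ 1 = (c : ℂ) * ((Nat.card N : ℂ) - 1) ∧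
      Nat.card (inertia N D.normal μ) = Nat.card N * c ^ 2 := by
  classical
  haveI hcomm := D.comm
  obtain ⟨c, hc0, heq, hc⟩ := Data.ind_eq D hμ hμ1
  have hfr := frobenius N μ D.isClass
  refine ⟨c, hc0, by rw [← hfr, hc], ?_, ?_⟩
  · -- the degree
    have hone := congrFun heq 1
    rw [indFun_one, irr_one_of_comm hμ, mul_one] at hone
    simp only [Pi.smul_apply, smul_eq_mul] at hone
    have hG : (Nat.card G : ℂ) = (Nat.card N : ℂ) * (N.index : ℂ) := by
      rw [← Nat.cast_mul, Subgroup.card_mul_index]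
    have hdeg := D.degree_formula
    rw [hG, hone] at hdeg
    have hN0 : (Nat.card N : ℂ) ≠ 0 := natCard_subgroup_ne_zero N
    have h0 : χ 1 ≠ 0 := irr_one_ne_zero D.irr
    apply mul_left_cancel₀ (mul_ne_zero hN0 h0)
    linear_combination hdeg
  · have h1 := natCard_mul_classInner_indFun_self N D.normal μ hμ
    rw [heq, classInner_smul_left, classInner_smul_right, classInner_irr_self D.irr, mul_one,
      Complex.conj_natCast] at h1
    have h2 : Nat.card (inertia N D.normal μ) = Nat.card {g : G // conjBy N D.normal g μ = μ} := rfl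
    rw [h2]
    have h3 : (Nat.card {g : G // conjBy N D.normal g μ = μ} : ℂ) = ((Nat.card N * c ^ 2 : ℕ) : ℂ) := by
      rw [← h1]
      push_cast
      ring
    exact_mod_cast h3

/-- The order of the inertia group. -/
theorem card_inertia {μ : N → ℂ} (hμ : IsIrrCharacter N μ) (hμ1 : μ ≠ fun _ => 1) :
    Nat.card (inertia N D.normal μ) * (Nat.card N - 1) = Nat.card G := by
  classical
  haveI hcomm := D.comm
  haveI : Fintype N := Fintype.ofFinite N
  obtain ⟨c, hc0, -, hd, hT⟩ := Data.numerics D hμ hμ1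
  obtain ⟨c', hc0', heq, hc⟩ := Data.ind_eq D hμ hμ1
  have hone := congrFun heq 1
  rw [indFun_one, irr_one_of_comm hμ, mul_one] at hone
  simp only [Pi.smul_apply, smul_eq_mul] at hone
  have hcc : c' = c := by
    obtain ⟨_, -, h1, -, -⟩ := Data.numerics D hμ hμ1
    have h2 := frobenius N μ D.isClass
    rw [hc] at h2
    obtain ⟨c2, -, h3, h4, h5⟩ := Data.numerics D hμ hμ1
    have h6 : (c' : ℂ) = (c2 : ℂ) := by rw [h2, h3]
    have h7 : c' = c2 := by exact_mod_cast h6
    have h8 : (c2 : ℂ) * ((Nat.card N : ℂ) - 1) = (c : ℂ) * ((Nat.card N : ℂ) - 1) := by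
      rw [← h4, hd]
    have hk : ((Nat.card N : ℂ) - 1) ≠ 0 := by
      intro h9
      have h10 : χ 1 = 0 := by rw [hd, h9, mul_zero]
      exact irr_one_ne_zero D.irr h10
    have h11 := mul_right_cancel₀ hk h8
    rw [h7]
    exact_mod_cast h11
  subst hcc
  have hk : 1 ≤ Nat.card N := Nat.card_pos
  have hG : (Nat.card G : ℂ) = (Nat.card N : ℂ) * (N.index : ℂ) := by
    rw [← Nat.cast_mul, Subgroup.card_mul_index]
  have : ((Nat.card (inertia N D.normal μ) * (Nat.card N - 1) : ℕ) : ℂ) = (Nat.card G : ℂ) := by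
    rw [hT, hG, hone, hd]
    push_cast [Nat.cast_sub hk]
    ring
  exact_mod_cast this

/-- `|Q|` divides the multiplicity. -/
theorem card_dvd_mult [Fintype N] {μ : N → ℂ} (hμ : IsIrrCharacter N μ) {c : ℕ}
    (hc : classInner μ (fun h : N => χ h) = c) {Q : Subgroup G}
    (hQT : Q ≤ inertia N D.normal μ) (hdisj : ∀ y ∈ Q, y ∈ N → y = 1) : Nat.card Q ∣ c := by
  classical
  haveI hcomm := D.comm
  haveI := D.normal
  obtain ⟨μ', hμ'⟩ := exists_hom_of_degree_one (IsIrrCharacter.isCharacter hμ) (irr_one_of_comm hμ)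
  have hinv : ∀ y ∈ Q, ∀ n : N, μ' (MulAut.conjNormal y n) = μ' n := by
    intro y hy n
    have h1 := mem_inertia.mp (hQT hy) n (MulAut.conjNormal y n) (MulAut.conjNormal_apply y n)
    rw [hμ', hμ'] at h1
    exact Units.ext h1
  obtain ⟨m, hm⟩ := dvd_of_free N Q μ' hinv hdisj (IsIrrCharacter.isCharacter D.irr) (fun g hg => by
    by_contra h0
    exact hg ((D.mem g).mpr h0))
  have h1 : classInner (fun h : N => χ h) μ = c := by
    rw [← classInner_conj_symm, hc, Complex.conj_natCast]
  unfold classInner at h1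
  have h2 : ∑ g : N, χ g * conj (μ g) = ∑ n : N, χ n * conj ((μ' n : ℂˣ) : ℂ) := by
    refine Finset.sum_congr rfl fun n _ => ?_
    rw [hμ']
  rw [h2, hm] at h1
  have h3 : ((Nat.card Q * m : ℕ) : ℂ) = c := by
    push_cast
    exact h1
  have h4 : Nat.card Q * m = c := by exact_mod_cast h3
  exact ⟨m, h4.symm⟩

/-- The inertia group of a nontrivial character of `N` is a `p`-group. -/
theorem inertia_isPGroup (p : ℕ) [hp : Fact p.Prime] (hNp : IsPGroup p N) {μ : N → ℂ}
    (hμ : IsIrrCharacter N μ) (hμ1 : μ ≠ fun _ => 1) : IsPGroup p (inertia N D.normal μ) := by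
  classical
  haveI : Fintype N := Fintype.ofFinite N
  obtain ⟨c, hc0, hc, hd, hT⟩ := Data.numerics D hμ hμ1
  set T := inertia N D.normal μ with hTdef
  have hTne : Nat.card T ≠ 0 := Nat.card_pos.ne'
  have key : ∀ {q : ℕ}, q.Prime → q ∣ Nat.card T → q = p := by
    intro q hq hqd
    by_contra hne
    haveI : Fact q.Prime := ⟨hq⟩
    obtain ⟨S⟩ : Nonempty (Sylow q T) := inferInstance
    let Q : Subgroup G := (S : Subgroup T).map T.subtype
    have hQcard : Nat.card Q = q ^ (Nat.card T).factorization q := by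
      rw [← Sylow.card_eq_multiplicity S]
      exact Nat.card_congr ((S : Subgroup T).equivMapOfInjective T.subtype T.subtype_injective).symm.toEquiv
    have hQT : Q ≤ T := by
      rintro _ ⟨y, -, rfl⟩
      exact y.2
    have hQp : IsPGroup q Q := S.isPGroup'.map T.subtype
    have hdis : Disjoint Q N := IsPGroup.disjoint_of_ne q p hne Q N hQp hNp
    have hdvd := Data.card_dvd_mult D hμ hc hQT (fun y hy hyN => by
      have := Subgroup.disjoint_def.mp hdis hy hyN
      exact this)
    rw [hQcard] at hdvd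
    set a := (Nat.card T).factorization q with ha
    have h1 : q ^ (2 * a) ∣ Nat.card T := by
      rw [hT, mul_comm 2 a, pow_mul]
      exact Dvd.dvd.mul_left (pow_dvd_pow_of_dvd hdvd 2) _
    have h2 := (Nat.Prime.pow_dvd_iff_le_factorization hq hTne).mp h1
    have h3 : 1 ≤ a := hq.factorization_pos_of_dvd hTne hqd
    omega
  have := Nat.eq_prime_pow_of_unique_prime_dvd hTne key
  exact IsPGroup.of_card this

/-- `N` has a nontrivial irreducible character. -/
theorem exists_nontrivial : ∃ μ : IrrCharacter N, (μ : N → ℂ) ≠ fun _ => 1 := by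
  classical
  by_contra hno
  push Not at hno
  have h1 := sum_irr_degree_sq (G := N)
  let one : IrrCharacter N := ⟨fun _ => (1 : ℂ), isIrrCharacter_one⟩
  rw [Finset.sum_eq_single one] at h1
  · have h2 : (Nat.card N : ℂ) = 1 := by
      rw [← h1]
      simp [one]
    have h3 : Nat.card N = 1 := by exact_mod_cast h2
    have := D.one_lt_card
    omega
  · intro μ _ hμ
    exact absurd (Subtype.ext (hno μ)) hμ
  · intro h3; exact absurd (Finset.mem_univ _) h3

/-- `p` does not divide `|N| - 1`. -/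
theorem not_dvd_sub_one (p : ℕ) [hp : Fact p.Prime] (hNp : IsPGroup p N) :
    ¬ p ∣ Nat.card N - 1 := by
  intro h
  obtain ⟨n, hn⟩ := IsPGroup.iff_card.mp hNp
  have h1 := D.one_lt_card
  have hn0 : n ≠ 0 := by
    rintro rfl
    rw [hn] at h1
    simp at h1
  have h2 : p ∣ Nat.card N := by
    rw [hn]
    exact dvd_pow_self p hn0
  have h3 := (Nat.dvd_sub h2 h)
  have h4 : Nat.card N - (Nat.card N - 1) = 1 := by omega
  rw [h4] at h3
  exact hp.out.one_lt.ne' (Nat.dvd_one.mp h3)

/-- The centralizer of a nonidentity element of `N` is a `p`-group, with index `|N|-1`. -/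
theorem centralizer_isPGroup (p : ℕ) [hp : Fact p.Prime] (hNp : IsPGroup p N) {x : G}
    (hx : x ∈ N) (hx₁ : x ≠ 1) : IsPGroup p (Subgroup.centralizer ({x} : Set G)) := by
  obtain ⟨μ, hμ⟩ := Data.exists_nontrivial D
  have h1 := Data.inertia_isPGroup D p hNp μ.2 hμ
  have h2 := Data.card_inertia D μ.2 hμ
  have h3 := D.card_centralizer hx hx₁
  have hk : Nat.card N - 1 ≠ 0 := by
    have := D.one_lt_card
    omega
  have h4 : Nat.card (Subgroup.centralizer ({x} : Set G)) =
      Nat.card (inertia N D.normal (μ : N → ℂ)) :=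
    Nat.eq_of_mul_eq_mul_right (Nat.pos_of_ne_zero hk) (h3.trans h2.symm)
  obtain ⟨e, he⟩ := IsPGroup.iff_card.mp h1
  exact IsPGroup.of_card (h4.trans he)

theorem not_dvd_index_of_card (p : ℕ) [hp : Fact p.Prime] (hNp : IsPGroup p N) {C : Subgroup G}
    (hC : Nat.card C * (Nat.card N - 1) = Nat.card G) : ¬ p ∣ C.index := by
  have h1 := Subgroup.card_mul_index C
  have h2 : C.index = Nat.card N - 1 :=
    Nat.eq_of_mul_eq_mul_left Nat.card_pos (h1.trans hC.symm)
  rw [h2]
  exact Data.not_dvd_sub_one D p hNp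

end Data

end Cfsg.Agent.Lib.Gagola2
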