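import Mathlib
import Cfsg.Agent.Lib.Gagola3
import Cfsg.Agent.Lib.Frobenius
import Cfsg.Agent.Lib.PCore
import Cfsg.Agent.Lib.PGrp
import Cfsg.Agent.S0200
import Cfsg.Agent.S4845

/-!
# Camina-type pairs `(G, N)` with `N` elementary abelian and `G` transitive on `N#`

If `G` acts transitively on the nonidentity elements of an elementary abelian normal `p`-subgroup
`N`, every `x ∉ N` has the coset `x N` in its conjugacy class and no nontrivial normal `p`-subgroup
lies outside `N`, then `G` is a doubly transitive Frobenius group with kernel `N`.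
-/

set_option autoImplicit false
set_option linter.unusedSectionVars false
set_option linter.unusedVariables false
set_option linter.style.haveILetI false

namespace Cfsg.Agent.Lib.CaminaFrob

open Cfsg

universe u

/-- The hypotheses on the pair `(G, N)`. -/
structure Cam {G : Type u} [Group G] (p : ℕ) (N : Subgroup G) : Prop where
  prime : p.Prime
  normal : N.Normal
  comm : ∀ a ∈ N, ∀ b ∈ N, a * b = b * a
  expo : ∀ a ∈ N, a ^ p = 1
  trans : ∀ x ∈ N, ∀ y ∈ N, x ≠ 1 → y ≠ 1 → IsConj x y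
  cam : ∀ x, x ∉ N → ∀ a ∈ N, ∃ g, g * x * g⁻¹ = x * a
  ne_bot : N ≠ ⊥

section

variable {G : Type u} [Group G] [Finite G] {p : ℕ} {N : Subgroup G}

theorem Cam.exists_ne_one (C : Cam p N) : ∃ x ∈ N, x ≠ 1 := by
  by_contra h
  push Not at h
  exact C.ne_bot ((Subgroup.eq_bot_iff_forall N).mpr h)

theorem Cam.orderOf_eq (C : Cam p N) {a : G} (ha : a ∈ N) (ha1 : a ≠ 1) : orderOf a = p :=
  haveI : Fact p.Prime := ⟨C.prime⟩
  orderOf_eq_prime (C.expo a ha) ha1

theorem Cam.isPGroup (C : Cam p N) : IsPGroup p N := by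
  intro a
  refine ⟨1, ?_⟩
  apply Subtype.ext
  simpa using C.expo a a.2

theorem hnormal_conj (C : Cam p N) {a : G} (ha : a ∈ N) (s : G) : s * a * s⁻¹ ∈ N :=
  C.normal.conj_mem a ha s

/-- A `p′`-element outside `N` acts fixed-point-freely on `N`. -/
theorem Cam.eq_one_of_commute (C : Cam p N) {y a : G} (hy : y ∉ N)
    (hcop : (orderOf y).Coprime p) (ha : a ∈ N) (hc : y * a = a * y) : a = 1 := by
  by_contra ha1
  obtain ⟨g, hg⟩ := C.cam y hy a ha
  have h1 : orderOf (y * a) = orderOf y := by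
    rw [← hg]
    exact (Cfsg.Agent.Lib.InvolutionFusion.orderOf_eq_of_isConj (isConj_iff.2 ⟨g, rfl⟩)).symm
  have h2 : orderOf (y * a) = orderOf y * orderOf a := by
    apply Commute.orderOf_mul_eq_mul_orderOf_of_coprime hc
    rw [C.orderOf_eq ha ha1]
    exact hcop
  rw [C.orderOf_eq ha ha1, h1] at h2
  have hpos := orderOf_pos y
  have hp := C.prime.one_lt
  nlinarith

/-- The abstract `H¹` vanishing used for `p = 2`. -/
theorem exists_mul_eq_of_inverting {A : Type u} [CommGroup A] (hexp : ∀ a : A, a ^ 2 = 1)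
    (σ τ : MulAut A) (k : ℕ) (hσ : σ ^ (2 * k + 1) = 1) (hfix : ∀ a, σ a = a → a = 1)
    (hinv : τ * σ = σ⁻¹ * τ) (v : A) (hv : τ v = v) : ∃ w, τ w * w = v := by
  let f : ℕ → A := fun i => (σ ^ i) v
  have hfs : ∀ i, σ (f i) = f (i + 1) := by
    intro i
    show σ ((σ ^ i) v) = (σ ^ (i + 1)) v
    rw [pow_succ']
    rfl
  have hper : f (2 * k + 1) = f 0 := by
    show (σ ^ (2 * k + 1)) v = (σ ^ 0) v
    rw [hσ, pow_zero]
  have hτ : ∀ i, i ≤ 2 * k + 1 → τ (f i) = f (2 * k + 1 - i) := by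
    intro i hi
    have h1 : SemiconjBy τ σ σ⁻¹ := hinv
    have h2 : τ * σ ^ i = (σ⁻¹) ^ i * τ := (h1.pow_right i).eq
    have h3 : τ (f i) = ((σ⁻¹) ^ i) v := by
      have := congrArg (fun m : MulAut A => m v) h2
      simp only [MulAut.mul_apply] at this
      rw [hv] at this
      exact this
    rw [h3]
    have h4 : (σ⁻¹) ^ i = σ ^ (2 * k + 1 - i) := by
      rw [inv_pow, inv_eq_iff_mul_eq_one, ← pow_add]
      rw [show i + (2 * k + 1 - i) = 2 * k + 1 by omega, hσ]
    rw [h4]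
  let s : A := ∏ i ∈ Finset.range (2 * k + 1), f i
  have hs : σ s = s := by
    show σ (∏ i ∈ Finset.range (2 * k + 1), f i) = _
    rw [map_prod]
    have h1 : ∀ i ∈ Finset.range (2 * k + 1), σ (f i) = f (i + 1) := fun i _ => hfs i
    rw [Finset.prod_congr rfl h1]
    show _ = ∏ i ∈ Finset.range (2 * k + 1), f i
    rw [Finset.prod_range_succ' f, Finset.prod_range_succ (fun i => f (i + 1)), hper]
  have hs1 : s = 1 := hfix s hs
  refine ⟨∏ i ∈ Finset.range k, f (i + 1), ?_⟩
  have hτw : τ (∏ i ∈ Finset.range k, f (i + 1)) = ∏ i ∈ Finset.range k, f (k + i + 1) := by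
    rw [map_prod]
    rw [← Finset.prod_range_reflect (fun i => f (k + i + 1)) k]
    apply Finset.prod_congr rfl
    intro i hi
    have hik := Finset.mem_range.mp hi
    rw [hτ _ (by omega)]
    congr 1
    omega
  rw [hτw]
  have hsplit : s = (∏ i ∈ Finset.range k, f (k + i + 1)) * (∏ i ∈ Finset.range k, f (i + 1)) * v := by
    show ∏ i ∈ Finset.range (2 * k + 1), f i = _
    rw [Finset.prod_range_succ' f]
    have : f 0 = v := by
      show (σ ^ 0) v = v
      simp
    rw [this, two_mul, Finset.prod_range_add, mul_comm (∏ i ∈ Finset.range k, f (k + i + 1))]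
  rw [hs1] at hsplit
  have hvv : v * v = 1 := by
    rw [← pow_two, hexp]
  calc _ = (∏ i ∈ Finset.range k, f (k + i + 1)) * (∏ i ∈ Finset.range k, f (i + 1)) * (v * v) := by
        rw [hvv, mul_one]
    _ = v := by
        rw [← mul_assoc, ← hsplit, one_mul]

/-- Conjugation action on the abelian normal subgroup only depends on the coset. -/
theorem Cam.conjNormal_eq (C : Cam p N) [N.Normal] {g g' : G} (h : g⁻¹ * g' ∈ N) :
    (MulAut.conjNormal (H := N) g) = MulAut.conjNormal (H := N) g' := by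
  ext a
  rw [MulAut.conjNormal_apply, MulAut.conjNormal_apply]
  have hg' : g' = g * (g⁻¹ * g') := by group
  rw [hg']
  generalize g⁻¹ * g' = n at h
  have : n * a * n⁻¹ = a := by
    rw [C.comm n h a a.2]
    group
  calc g * a * g⁻¹ = g * (n * a * n⁻¹) * g⁻¹ := by rw [this]
    _ = _ := by group

theorem isPGroup_comap {Q : Subgroup G} [Q.Normal] {q : ℕ} (hQ : IsPGroup q Q)
    {K : Subgroup (G ⧸ Q)} (hK : IsPGroup q K) : IsPGroup q (K.comap (QuotientGroup.mk' Q)) := by
  intro x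
  obtain ⟨m, hm⟩ := hK ⟨(x : G), x.2⟩
  have h1 : ((x : G) : G ⧸ Q) ^ q ^ m = 1 := by
    simpa using congrArg Subtype.val hm
  have h2 : (x : G) ^ q ^ m ∈ Q := by
    rw [← QuotientGroup.eq_one_iff, QuotientGroup.mk_pow]
    exact h1
  obtain ⟨n, hn⟩ := hQ ⟨_, h2⟩
  refine ⟨m + n, ?_⟩
  apply Subtype.ext
  have h3 : ((x : G) ^ q ^ m) ^ q ^ n = 1 := by
    simpa using congrArg Subtype.val hn
  simp only [Subgroup.coe_pow, Subgroup.coe_one]
  rw [pow_add, pow_mul, h3]

/-- The case `p = 2` of the index statement. -/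
theorem not_dvd_index_two (C : Cam 2 N) (hcore : ∀ K : Subgroup G, K.Normal → IsPGroup 2 K → K ≤ N) :
    ¬ 2 ∣ N.index := by
  intro hdvd
  haveI := C.normal
  haveI : Fact (Nat.Prime 2) := ⟨Nat.prime_two⟩
  have hcard : 2 ∣ Nat.card (G ⧸ N) := by
    rw [← Subgroup.index_eq_card]
    exact hdvd
  obtain ⟨t', ht'⟩ := exists_prime_orderOf_dvd_card' 2 hcard
  have hO : ∀ K : Subgroup (G ⧸ N), K.Normal → IsPGroup 2 K → t' ∉ K := by
    intro K hK hKp ht'K
    obtain ⟨t, rfl⟩ := QuotientGroup.mk_surjective t'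
    have h1 : t ∈ K.comap (QuotientGroup.mk' N) := ht'K
    haveI := hK
    have h2 := hcore _ (Subgroup.Normal.comap hK _) (isPGroup_comap C.isPGroup hKp) h1
    have h3 : (t : G ⧸ N) = 1 := (QuotientGroup.eq_one_iff t).mpr h2
    rw [h3, orderOf_one] at ht'
    omega
  obtain ⟨h', hh'1, hh'odd, hh'inv⟩ := Cfsg.Agent.S0200.result t' ht' hO
  obtain ⟨t, rfl⟩ := QuotientGroup.mk_surjective t'
  obtain ⟨y₁, rfl⟩ := QuotientGroup.mk_surjective h'
  obtain ⟨k, hk⟩ := hh'odd
  set y := y₁ ^ 2 with hy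
  have hmem : y₁ ^ (2 * k + 1) ∈ N := by
    rw [← QuotientGroup.eq_one_iff, QuotientGroup.mk_pow, ← hk, pow_orderOf_eq_one]
  have hyN : y ∉ N := by
    intro hyN
    have h1 : (y₁ : G ⧸ N) ^ 2 = 1 := by
      rw [← QuotientGroup.mk_pow]
      exact (QuotientGroup.eq_one_iff _).mpr hyN
    have h2 := orderOf_dvd_of_pow_eq_one h1
    rw [hk] at h2
    have h3 : 2 * k + 1 = 1 := by
      rcases (Nat.dvd_prime Nat.prime_two).mp h2 with h | h <;> omega
    rw [h3] at hk
    exact hh'1 (orderOf_eq_one_iff.mp hk)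
  have hym : y ^ (2 * k + 1) = 1 := by
    rw [hy, ← pow_mul, mul_comm, pow_mul]
    exact C.expo _ hmem
  have hycop : (orderOf y).Coprime 2 := by
    apply Nat.Coprime.coprime_dvd_left (orderOf_dvd_of_pow_eq_one hym)
    exact Nat.coprime_two_right.mpr ⟨k, rfl⟩
  have htN : t ∉ N := by
    intro htN
    have h3 : (t : G ⧸ N) = 1 := (QuotientGroup.eq_one_iff t).mpr htN
    rw [h3, orderOf_one] at ht'
    omega
  have ht2 : t ^ 2 ∈ N := by
    rw [← QuotientGroup.eq_one_iff, QuotientGroup.mk_pow, ← ht', pow_orderOf_eq_one]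
  -- the relation `t y t⁻¹ ≡ y⁻¹`
  have hrel : (y⁻¹ * t)⁻¹ * (t * y) ∈ N := by
    rw [← QuotientGroup.eq_one_iff]
    simp only [QuotientGroup.mk_mul, QuotientGroup.mk_inv, mul_inv_rev, inv_inv, hy, QuotientGroup.mk_pow]
    have h1 : (t : G ⧸ N) * (y₁ : G ⧸ N) ^ 2 * (t : G ⧸ N)⁻¹ = ((y₁ : G ⧸ N) ^ 2)⁻¹ := by
      rw [← inv_pow, ← hh'inv, pow_two, pow_two]
      group
    have h2 : (t : G ⧸ N) * (y₁ : G ⧸ N) ^ 2 = ((y₁ : G ⧸ N) ^ 2)⁻¹ * t := by
      rw [← h1]
      group
    rw [mul_assoc, h2]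
    group
  let A := N
  letI : CommGroup N :=
    { (inferInstance : Group N) with
      mul_comm := fun a b => Subtype.ext (C.comm a a.2 b b.2) }
  let cn : G →* MulAut N := MulAut.conjNormal
  have hcn : ∀ g (a : N), ((cn g a : N) : G) = g * a * g⁻¹ := fun g a => MulAut.conjNormal_apply g a
  have hσk : (cn y) ^ (2 * k + 1) = 1 := by
    rw [← map_pow, hym, map_one]
  have hfix : ∀ a, cn y a = a → a = 1 := by
    intro a ha
    apply Subtype.ext
    apply C.eq_one_of_commute hyN hycop a.2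
    have := congrArg Subtype.val ha
    rw [hcn] at this
    calc y * a = y * a * y⁻¹ * y := by group
      _ = a * y := by rw [this]
  have hinv : cn t * cn y = (cn y)⁻¹ * cn t := by
    rw [← map_mul, ← map_inv, ← map_mul]
    exact (C.conjNormal_eq hrel).symm
  obtain ⟨w, hw⟩ := exists_mul_eq_of_inverting (A := N) (fun a => Subtype.ext (C.expo a a.2)) (cn y) (cn t) k hσk hfix hinv
    ⟨t ^ 2, ht2⟩ (by
      apply Subtype.ext
      rw [hcn]
      show t * t ^ 2 * t⁻¹ = t ^ 2
      rw [pow_two]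
      group)
  have hw' : t * w * t⁻¹ * w = t ^ 2 := by
    have := congrArg Subtype.val hw
    rw [Subgroup.coe_mul, hcn] at this
    exact this
  set t₀ := t * (w : G) with ht₀
  have ht₀sq : t₀ * t₀ = 1 := by
    have h1 : t₀ * t₀ = (t * w * t⁻¹) * t ^ 2 * w := by
      rw [ht₀, pow_two]
      group
    have h2 : (t * w * t⁻¹) ∈ N := by
      have h3 := (cn t w).2
      rw [hcn] at h3
      exact h3
    rw [h1, mul_assoc, C.comm (t ^ 2) ht2 w w.2, ← mul_assoc, hw', ← pow_add]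
    have h4 : t ^ (2 + 2) = (t ^ 2) ^ 2 := by rw [← pow_mul]
    rw [h4]
    exact C.expo _ ht2
  have ht₀N : t₀ ∉ N := by
    intro h
    apply htN
    have : t = t₀ * (w : G)⁻¹ := by rw [ht₀]; group
    rw [this]
    exact N.mul_mem h (N.inv_mem w.2)
  have htriv : ∀ b : N, t₀ * b * t₀⁻¹ = b := by
    intro b
    obtain ⟨g, hg⟩ := C.cam t₀ ht₀N b b.2
    have h1 : (t₀ * b) * (t₀ * b) = 1 := by
      rw [← hg]
      calc (g * t₀ * g⁻¹) * (g * t₀ * g⁻¹) = g * (t₀ * t₀) * g⁻¹ := by group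
        _ = 1 := by rw [ht₀sq]; group
    have hinvt : t₀⁻¹ = t₀ := inv_eq_of_mul_eq_one_left ht₀sq
    have hb2 : (b : G) * b = 1 := by
      rw [← pow_two]
      exact C.expo _ b.2
    have hbinv : (b : G) = (b : G)⁻¹ := eq_inv_of_mul_eq_one_left hb2
    rw [hinvt]
    have h2 : t₀ * b * t₀ = (b : G)⁻¹ := by
      apply eq_inv_of_mul_eq_one_left
      rw [← h1]
      group
    rw [h2, ← hbinv]
  have hτ1 : cn t = 1 := by
    have h1 : cn t = cn t₀ := C.conjNormal_eq (by
      rw [ht₀]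
      simp)
    rw [h1]
    ext b
    rw [hcn, htriv]
    rfl
  rw [hτ1, one_mul, mul_one] at hinv
  have hσ1 : cn y = 1 := by
    have h2 : (cn y) ^ 2 = 1 := by
      rw [pow_two]
      nth_rewrite 1 [hinv]
      simp
    have h3 : (cn y) ^ (2 * k + 1) = cn y := by
      rw [pow_succ, pow_mul, h2, one_pow, one_mul]
    rw [← h3, hσk]
  obtain ⟨x, hx, hx1⟩ := C.exists_ne_one
  apply hx1
  have := hfix ⟨x, hx⟩ (by rw [hσ1]; rfl)
  exact congrArg Subtype.val this

/-- No involution lies in `N` for odd `p`. -/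
theorem Cam.invol_not_mem (C : Cam p N) (hp2 : p ≠ 2) {s : G} (hs : s * s = 1) (hs1 : s ≠ 1) :
    s ∉ N := by
  intro hsN
  have hcop2 : Nat.Coprime 2 p := Nat.coprime_two_left.mpr (C.prime.odd_of_ne_two hp2)
  have h1 : s ^ 2 = 1 := by rw [pow_two, hs]
  have h2 := C.expo s hsN
  have h3 : s ^ Nat.gcd 2 p = 1 := pow_gcd_eq_one.mpr ⟨h1, h2⟩
  rw [hcop2.gcd_eq_one, pow_one] at h3
  exact hs1 h3

/-- Every involution inverts `N` for odd `p`. -/
theorem Cam.inverts (C : Cam p N) (hp2 : p ≠ 2) {s : G} (hs : s * s = 1) (hs1 : s ≠ 1) {a : G}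
    (ha : a ∈ N) : s * a * s⁻¹ = a⁻¹ := by
  have hcop2 : Nat.Coprime 2 p := Nat.coprime_two_left.mpr (C.prime.odd_of_ne_two hp2)
  have hsinv : s⁻¹ = s := inv_eq_of_mul_eq_one_left hs
  set b := s * a * s⁻¹ with hb
  have hbN : b ∈ N := hnormal_conj C ha s
  have hb1 : s * a = b * s := by rw [hb]; group
  have hb2 : s * b = a * s := by
    rw [hb, hsinv, ← mul_assoc, ← mul_assoc, hs, one_mul]
  have hord : (orderOf s).Coprime p := by
    apply Nat.Coprime.coprime_dvd_left (orderOf_dvd_of_pow_eq_one (by rw [pow_two, hs]))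
    exact hcop2
  have hfix := C.eq_one_of_commute (C.invol_not_mem hp2 hs hs1) hord (N.mul_mem ha hbN) (by
    rw [← mul_assoc, hb1, mul_assoc, hb2, ← mul_assoc, C.comm b hbN a ha])
  exact eq_inv_of_mul_eq_one_right hfix

/-- The centralizer of `N` is inside `N`. -/
theorem Cam.centralizer_le (C : Cam p N) (hcore : ∀ K : Subgroup G, K.Normal → IsPGroup p K → K ≤ N) :
    Subgroup.centralizer (N : Set G) ≤ N := by
  haveI := C.normal
  have hpp := C.prime
  apply hcore _ Subgroup.normal_centralizer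
  intro x
  obtain ⟨x₀, hx₀, hx₀1⟩ := C.exists_ne_one
  obtain ⟨e, m, hpm, hm⟩ := Nat.exists_eq_pow_mul_and_not_dvd (orderOf_pos (x : G)).ne' p hpp.ne_one
  have hym : ((x : G) ^ p ^ e) ^ m = 1 := by
    rw [← pow_mul, ← hm, pow_orderOf_eq_one]
  have hcop : Nat.Coprime m p := ((Nat.Prime.coprime_iff_not_dvd hpp).mpr hpm).symm
  have hyN : (x : G) ^ p ^ e ∈ N := by
    by_contra hyN
    apply hx₀1
    apply C.eq_one_of_commute hyN (Nat.Coprime.coprime_dvd_left (orderOf_dvd_of_pow_eq_one hym) hcop) hx₀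
    have h1 : Commute (x : G) x₀ := by
      have := (Subgroup.mem_centralizer_iff.mp x.2) x₀ hx₀
      exact this.symm
    exact (h1.pow_left _).eq
  have h3 : ((x : G) ^ p ^ e) ^ Nat.gcd m p = 1 := pow_gcd_eq_one.mpr ⟨hym, C.expo _ hyN⟩
  rw [hcop.gcd_eq_one, pow_one] at h3
  exact ⟨e, Subtype.ext (by simpa using h3)⟩

/-- Conjugates of an involution are `N`-conjugate. -/
theorem Cam.exists_conj (C : Cam p N) (hp2 : p ≠ 2)
    (hcore : ∀ K : Subgroup G, K.Normal → IsPGroup p K → K ≤ N) {t : G} (ht : t * t = 1) (ht1 : t ≠ 1)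
    (g : G) : ∃ b ∈ N, ∃ τ, τ * t = t * τ ∧ g = b * τ := by
  have hpodd : Odd p := C.prime.odd_of_ne_two hp2
  obtain ⟨k, hk⟩ := hpodd
  set s := g * t * g⁻¹ with hs
  have hss : s * s = 1 := by
    calc s * s = g * (t * t) * g⁻¹ := by rw [hs]; group
      _ = 1 := by rw [ht]; group
  have hs1 : s ≠ 1 := by
    intro h
    apply ht1
    have : t = g⁻¹ * s * g := by rw [hs]; group
    rw [this, h]
    group
  have htinv : t⁻¹ = t := inv_eq_of_mul_eq_one_left ht
  have ha : t⁻¹ * s ∈ N := by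
    apply C.centralizer_le hcore
    rw [Subgroup.mem_centralizer_iff]
    intro n hn
    have h1 := C.inverts hp2 hss hs1 hn
    have h2 := C.inverts hp2 ht ht1 (N.inv_mem hn)
    rw [inv_inv] at h2
    have h3 : s * n = n⁻¹ * s := by rw [← h1]; group
    have h4 : t⁻¹ * n⁻¹ = n * t⁻¹ := by
      rw [htinv]
      nth_rewrite 2 [← h2]
      rw [htinv, mul_assoc, mul_assoc, ht, mul_one]
    calc n * (t⁻¹ * s) = (n * t⁻¹) * s := by group
      _ = t⁻¹ * n⁻¹ * s := by rw [h4]
      _ = t⁻¹ * (n⁻¹ * s) := by group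
      _ = t⁻¹ * (s * n) := by rw [h3]
      _ = t⁻¹ * s * n := by group
  set a := t⁻¹ * s with ha'
  have hc : a ^ (k + 1) ∈ N := N.pow_mem ha _
  set c := a ^ (k + 1) with hcdef
  have hcc : c * c = a := by
    rw [hcdef, ← pow_add]
    have : k + 1 + (k + 1) = p + 1 := by omega
    rw [this, pow_succ, C.expo a ha, one_mul]
  have htc : t * c * t⁻¹ = c⁻¹ := C.inverts hp2 ht ht1 hc
  have h5 : c⁻¹ * t * c = s := by
    have h6 : c⁻¹ * t = t * c := by rw [← htc]; group
    rw [h6, mul_assoc, hcc, ha']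
    group
  refine ⟨c⁻¹, N.inv_mem hc, c * g, ?_, by group⟩
  -- `c g` centralizes `t`
  have h7 : g * t = s * g := by rw [hs]; group
  calc c * g * t = c * (g * t) := by group
    _ = c * (s * g) := by rw [h7]
    _ = c * (c⁻¹ * t * c * g) := by rw [h5]
    _ = t * (c * g) := by group

/-- The case `p` odd of the index statement. -/
theorem not_dvd_index_odd (C : Cam p N) (hp2 : p ≠ 2)
    (hcore : ∀ K : Subgroup G, K.Normal → IsPGroup p K → K ≤ N) : ¬ p ∣ N.index := by
  intro hdvd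
  haveI := C.normal
  haveI : Fact p.Prime := ⟨C.prime⟩
  have hpp := C.prime
  have hpodd : Odd p := hpp.odd_of_ne_two hp2
  have hcop2 : Nat.Coprime 2 p := Nat.coprime_two_left.mpr hpodd
  obtain ⟨x₀, hx₀, hx₀1⟩ := C.exists_ne_one
  have hx₀inv : x₀⁻¹ ≠ x₀ := by
    intro h
    refine C.invol_not_mem hp2 ?_ hx₀1 hx₀
    exact mul_eq_one_iff_eq_inv.mpr h.symm
  obtain ⟨g₀, hg₀⟩ := isConj_iff.mp (C.trans x₀ hx₀ x₀⁻¹ (N.inv_mem hx₀) hx₀1 (inv_ne_one.mpr hx₀1))
  -- `G` has even order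
  have heven : Even (orderOf g₀) := by
    by_contra hodd
    rw [Nat.not_even_iff_odd] at hodd
    obtain ⟨k, hk⟩ := hodd
    have h1 : g₀ * g₀ * x₀ = x₀ * (g₀ * g₀) := by
      have h2 : g₀ * x₀ = x₀⁻¹ * g₀ := by
        rw [← hg₀]
        group
      have h3 : g₀ * x₀⁻¹ = x₀ * g₀ := by
        have h4 : g₀ * x₀⁻¹ * g₀⁻¹ = x₀ := by
          have : g₀ * x₀⁻¹ * g₀⁻¹ = (g₀ * x₀ * g₀⁻¹)⁻¹ := by group
          rw [this, hg₀, inv_inv]
        calc g₀ * x₀⁻¹ = g₀ * x₀⁻¹ * g₀⁻¹ * g₀ := by group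
          _ = x₀ * g₀ := by rw [h4]
      rw [mul_assoc, h2, ← mul_assoc, h3, mul_assoc]
    have h2 : Commute (g₀ * g₀) x₀ := h1
    have h3 : (g₀ * g₀) ^ (k + 1) = g₀ := by
      rw [← pow_two, ← pow_mul]
      have : 2 * (k + 1) = orderOf g₀ + 1 := by omega
      rw [this, pow_succ, pow_orderOf_eq_one, one_mul]
    have h4 : Commute g₀ x₀ := by
      rw [← h3]
      exact h2.pow_left _
    apply hx₀inv
    rw [← hg₀, h4.eq]
    group
  have h2card : 2 ∣ Nat.card G := (even_iff_two_dvd.mp heven).trans (orderOf_dvd_natCard g₀)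
  haveI : Fact (Nat.Prime 2) := ⟨Nat.prime_two⟩
  obtain ⟨t, ht⟩ := exists_prime_orderOf_dvd_card' 2 h2card
  have htt : t * t = 1 := by
    rw [← pow_two, ← ht, pow_orderOf_eq_one]
  have ht1 : t ≠ 1 := by
    rintro rfl
    rw [orderOf_one] at ht
    omega
  have htN := C.invol_not_mem hp2 htt ht1
  have htcop : (orderOf t).Coprime p := by rw [ht]; exact hcop2
  -- the centralizer of `t` meets `N` trivially
  have hTN : ∀ a ∈ N, a * t = t * a → a = 1 := by
    intro a ha hc
    exact C.eq_one_of_commute htN htcop ha hc.symm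
  -- an element of order `p` in the centralizer of `t`
  have hcard : p ∣ Nat.card (G ⧸ N) := by
    rw [← Subgroup.index_eq_card]
    exact hdvd
  obtain ⟨q', hq'⟩ := exists_prime_orderOf_dvd_card' p hcard
  obtain ⟨q, rfl⟩ := QuotientGroup.mk_surjective q'
  obtain ⟨b₀, hb₀, u, hut, hqu⟩ := C.exists_conj hp2 hcore htt ht1 q
  have huq : (q : G ⧸ N) = (u : G ⧸ N) := by
    rw [hqu, QuotientGroup.mk_mul, (QuotientGroup.eq_one_iff b₀).mpr hb₀, one_mul]
  rw [huq] at hq'
  have hup : u ^ p = 1 := by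
    apply hTN
    · rw [← QuotientGroup.eq_one_iff, QuotientGroup.mk_pow, ← hq', pow_orderOf_eq_one]
    · exact ((show Commute u t from hut).pow_left p).eq
  have huN : u ∉ N := by
    intro h
    rw [(QuotientGroup.eq_one_iff u).mpr h, orderOf_one] at hq'
    exact hpp.one_lt.ne hq'
  -- the commutator map is surjective on `N`
  have hsurj : ∀ a ∈ N, ∃ b ∈ N, u⁻¹ * b * u * b⁻¹ = a := by
    intro a ha
    obtain ⟨g, hg⟩ := C.cam u huN a ha
    obtain ⟨b, hb, τ, hτt, hgb⟩ := C.exists_conj hp2 hcore htt ht1 g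
    have hτu : τ * u * τ⁻¹ = u := by
      have h1 : (τ * u * τ⁻¹) * u⁻¹ ∈ N := by
        rw [← QuotientGroup.eq_one_iff]
        have h2 : ((g * u * g⁻¹ : G) : G ⧸ N) = (u : G ⧸ N) := by
          rw [hg, QuotientGroup.mk_mul, (QuotientGroup.eq_one_iff a).mpr ha, mul_one]
        have h3 : (g : G ⧸ N) = (τ : G ⧸ N) := by
          rw [hgb, QuotientGroup.mk_mul, (QuotientGroup.eq_one_iff b).mpr hb, one_mul]
        simp only [QuotientGroup.mk_mul, QuotientGroup.mk_inv] at h2 ⊢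
        rw [h3] at h2
        rw [h2]
        group
      have h4 := hTN _ h1 (by
        have h5 : Commute τ t := hτt
        have h6 : Commute u t := hut
        exact ((h5.mul_left h6).mul_left h5.inv_left).mul_left h6.inv_left)
      exact mul_inv_eq_one.mp h4
    refine ⟨b, hb, ?_⟩
    have h7 : b * u * b⁻¹ = u * a := by
      rw [← hg, hgb]
      calc b * u * b⁻¹ = b * (τ * u * τ⁻¹) * b⁻¹ := by rw [hτu]
        _ = _ := by group
    calc u⁻¹ * b * u * b⁻¹ = u⁻¹ * (b * u * b⁻¹) := by group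
      _ = a := by rw [h7]; group
  let φ : N → N := fun b => ⟨u⁻¹ * b * u * b⁻¹, by
    have h1 : u⁻¹ * b * u ∈ N := by
      have := hnormal_conj C b.2 u⁻¹
      simpa using this
    exact N.mul_mem h1 (N.inv_mem b.2)⟩
  have hφs : Function.Surjective φ := by
    rintro ⟨a, ha⟩
    obtain ⟨b, hb, hab⟩ := hsurj a ha
    exact ⟨⟨b, hb⟩, Subtype.ext hab⟩
  have hφi : Function.Injective φ := Finite.injective_iff_surjective.mpr hφs
  -- but a `p`-group has central elements in `N`
  have hu : IsPGroup p (Subgroup.zpowers u) := by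
    rw [IsPGroup.iff_card, Nat.card_zpowers, orderOf_eq_prime hup (by
      rintro rfl
      exact huN N.one_mem)]
    exact ⟨1, (pow_one p).symm⟩
  have hB : IsPGroup p (N ⊔ Subgroup.zpowers u : Subgroup G) :=
    IsPGroup.to_sup_of_normal_left C.isPGroup hu
  haveI : (N.subgroupOf (N ⊔ Subgroup.zpowers u)).Normal := Subgroup.normal_subgroupOf
  have hD : N.subgroupOf (N ⊔ Subgroup.zpowers u) ≠ ⊥ := by
    intro h
    apply hx₀1
    have h1 : (⟨x₀, Subgroup.mem_sup_left hx₀⟩ : (N ⊔ Subgroup.zpowers u : Subgroup G)) ∈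
        N.subgroupOf (N ⊔ Subgroup.zpowers u) := hx₀
    rw [h, Subgroup.mem_bot] at h1
    simpa using congrArg Subtype.val h1
  obtain ⟨y, hyD, hy1, hyc⟩ := Cfsg.Agent.Lib.PGrp.exists_central_mem_normal hB _ hD
  have hyN : (y : G) ∈ N := hyD
  have hyu : u * y = y * u := by
    have h1 := (Subgroup.mem_center_iff.mp hyc) ⟨u, Subgroup.mem_sup_right (Subgroup.mem_zpowers u)⟩
    exact congrArg Subtype.val h1
  have h1 : φ ⟨y, hyN⟩ = φ 1 := by
    apply Subtype.ext
    show u⁻¹ * y * u * (y : G)⁻¹ = u⁻¹ * ((1 : N) : G) * u * ((1 : N) : G)⁻¹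
    rw [mul_assoc u⁻¹, ← hyu]
    simp
  have h2 := hφi h1
  apply hy1
  apply Subtype.ext
  simpa using congrArg Subtype.val h2

theorem Cam.not_dvd_index (C : Cam p N) (hcore : ∀ K : Subgroup G, K.Normal → IsPGroup p K → K ≤ N) :
    ¬ p ∣ N.index := by
  by_cases hp2 : p = 2
  · subst hp2
    exact not_dvd_index_two C hcore
  · exact not_dvd_index_odd C hp2 hcore

/-- The doubly transitive Frobenius structure. -/
theorem Cam.exists_frobenius (C : Cam p N) (hp : ¬ p ∣ N.index) (h2 : 2 < Nat.card G) :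
    ∃ H : Subgroup G, IsFrobeniusComplement H ∧ frobeniusKernel H = (N : Set G) ∧
      Nat.card H + 1 = Nat.card N := by
  classical
  haveI := C.normal
  have hpp := C.prime
  haveI : Fact p.Prime := ⟨hpp⟩
  obtain ⟨e, he⟩ := IsPGroup.iff_card.mp C.isPGroup
  have hcop : Nat.Coprime (Nat.card N) N.index := by
    rw [he]
    exact Nat.Coprime.pow_left _ ((Nat.Prime.coprime_iff_not_dvd hpp).mpr hp)
  obtain ⟨H, hH⟩ := Subgroup.exists_right_complement'_of_coprime hcop
  have hcardG : Nat.card N * Nat.card H = Nat.card G := hH.card_mul_card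
  have hcardH : Nat.card H = N.index := by
    have h3 := Subgroup.card_mul_index N
    have hpos : 0 < Nat.card N := Nat.card_pos
    apply Nat.eq_of_mul_eq_mul_left hpos
    rw [hcardG, h3]
  have hdisj : ∀ x, x ∈ N → x ∈ H → x = 1 := by
    intro x h1 h3
    have := Subgroup.disjoint_def.mp hH.disjoint h1 h3
    exact this
  have hdecomp : ∀ g : G, ∃ a ∈ N, ∃ h ∈ H, g = a * h := by
    intro g
    have h1 : g ∈ N ⊔ H := by
      rw [hH.sup_eq_top]
      exact Subgroup.mem_top g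
    obtain ⟨a, ha, h, hh, rfl⟩ := Subgroup.mem_sup_of_normal_left.mp h1
    exact ⟨a, ha, h, hh, rfl⟩
  -- fixed-point-freeness
  have hnotN : ∀ h ∈ H, h ≠ 1 → h ∉ N := fun h hh h1 hN => h1 (hdisj h hN hh)
  have hcopH : ∀ h ∈ H, (orderOf h).Coprime p := by
    intro h hh
    apply Nat.Coprime.coprime_dvd_left (Subgroup.orderOf_dvd_natCard H hh)
    rw [hcardH]
    exact ((Nat.Prime.coprime_iff_not_dvd hpp).mpr hp).symm
  have hfpf : ∀ h ∈ H, h ≠ 1 → ∀ a ∈ N, h * a = a * h → a = 1 := fun h hh h1 a ha hc =>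
    C.eq_one_of_commute (hnotN h hh h1) (hcopH h hh) ha hc
  obtain ⟨x₀, hx₀, hx₀1⟩ := C.exists_ne_one
  -- the count
  let F : Option H → N := fun o => match o with
    | none => 1
    | some h => ⟨(h : G) * x₀ * (h : G)⁻¹, hnormal_conj C hx₀ h⟩
  have hFbij : Function.Bijective F := by
    constructor
    · rintro (_ | h) (_ | h') hFF
      · rfl
      · exfalso
        have h1 : (1 : G) = (h' : G) * x₀ * (h' : G)⁻¹ := congrArg Subtype.val hFF
        apply hx₀1
        have : x₀ = (h' : G)⁻¹ * ((h' : G) * x₀ * (h' : G)⁻¹) * h' := by group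
        rw [this, ← h1]
        group
      · exfalso
        have h1 : (h : G) * x₀ * (h : G)⁻¹ = 1 := congrArg Subtype.val hFF
        apply hx₀1
        have : x₀ = (h : G)⁻¹ * ((h : G) * x₀ * (h : G)⁻¹) * h := by group
        rw [this, h1]
        group
      · have h1 : (h : G) * x₀ * (h : G)⁻¹ = (h' : G) * x₀ * (h' : G)⁻¹ := congrArg Subtype.val hFF
        congr 1
        by_contra hne
        have hd : (h' : G)⁻¹ * h ≠ 1 := by
          intro h3
          apply hne
          apply Subtype.ext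
          exact (inv_mul_eq_one.mp h3).symm
        apply hx₀1
        refine hfpf ((h' : G)⁻¹ * h) (H.mul_mem (H.inv_mem h'.2) h.2) hd x₀ hx₀ ?_
        have h3 : (h : G) * x₀ = (h' : G) * x₀ * (h' : G)⁻¹ * h := by
          rw [← h1]
          group
        calc (h' : G)⁻¹ * h * x₀ = (h' : G)⁻¹ * ((h : G) * x₀) := by group
          _ = (h' : G)⁻¹ * ((h' : G) * x₀ * (h' : G)⁻¹ * h) := by rw [h3]
          _ = x₀ * ((h' : G)⁻¹ * h) := by group
    · rintro ⟨y, hy⟩
      by_cases hy1 : y = 1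
      · exact ⟨none, Subtype.ext hy1.symm⟩
      · obtain ⟨g, hg⟩ := isConj_iff.mp (C.trans x₀ hx₀ y hy hx₀1 hy1)
        obtain ⟨a, ha, h, hh, rfl⟩ := hdecomp g
        refine ⟨some ⟨h, hh⟩, Subtype.ext ?_⟩
        show h * x₀ * h⁻¹ = y
        have h3 : h * x₀ * h⁻¹ ∈ N := hnormal_conj C hx₀ h
        rw [← hg]
        have h4 : a * h * x₀ * (a * h)⁻¹ = a * (h * x₀ * h⁻¹) * a⁻¹ := by group
        rw [h4, C.comm a ha _ h3]
        group
  have hcount : Nat.card H + 1 = Nat.card N := by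
    rw [← Nat.card_congr (Equiv.ofBijective F hFbij), Finite.card_option]
  refine ⟨H, ⟨?_, ?_, ?_⟩, ?_, hcount⟩
  · rintro rfl
    have h3 : Nat.card (⊥ : Subgroup G) = 1 := Subgroup.card_bot
    rw [h3] at hcount hcardG
    rw [← hcount] at hcardG
    omega
  · rintro rfl
    exact hx₀1 (hdisj x₀ hx₀ (Subgroup.mem_top _))
  · intro g hg
    rw [Subgroup.eq_bot_iff_forall]
    intro x hx
    obtain ⟨hxH, hxg⟩ := Subgroup.mem_inf.mp hx
    by_contra hx1
    have hxg' := Cfsg.Agent.Lib.Frobenius.mem_conj_iff.mp hxg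
    obtain ⟨a, ha, h, hh, rfl⟩ := hdecomp g
    have h3 : a⁻¹ * x * a ∈ H := by
      have : a⁻¹ * x * a = h * ((a * h)⁻¹ * x * (a * h)) * h⁻¹ := by group
      rw [this]
      exact H.mul_mem (H.mul_mem hh hxg') (H.inv_mem hh)
    have h4 : x⁻¹ * (a⁻¹ * x * a) ∈ H := H.mul_mem (H.inv_mem hxH) h3
    have h5 : x⁻¹ * (a⁻¹ * x * a) ∈ N := by
      have h6 : x⁻¹ * a⁻¹ * x ∈ N := by
        have := hnormal_conj C (N.inv_mem ha) x⁻¹
        simpa using this
      have h7 : x⁻¹ * (a⁻¹ * x * a) = (x⁻¹ * a⁻¹ * x) * a := by group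
      rw [h7]
      exact N.mul_mem h6 ha
    have h8 := hdisj _ h5 h4
    have h9 : x * a = a * x := by
      have h10 : a⁻¹ * x * a = x := by
        exact (inv_mul_eq_one.mp h8).symm
      calc x * a = a * (a⁻¹ * x * a) := by group
        _ = a * x := by rw [h10]
    have h12 := hfpf x hxH hx1 a ha h9
    apply hg
    rw [h12, one_mul]
    exact hh
  · ext x
    simp only [SetLike.mem_coe]
    constructor
    · intro hx
      by_contra hxN
      obtain ⟨a, ha, h, hh, rfl⟩ := hdecomp x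
      have hh1 : h ≠ 1 := by
        rintro rfl
        apply hxN
        rw [mul_one]
        exact ha
      have hhN := hnotN h hh hh1
      have h3 : h⁻¹ * a * h ∈ N := by
        have := hnormal_conj C ha h⁻¹
        simpa using this
      obtain ⟨g, hg⟩ := C.cam h hhN _ h3
      rcases Cfsg.Agent.Lib.Frobenius.mem_kernel_iff.mp hx with h4 | h4
      · apply hxN
        rw [h4]
        exact N.one_mem
      · apply h4 g
        have h5 : a * h = g * h * g⁻¹ := by
          rw [hg]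
          group
        rw [h5]
        have : g⁻¹ * (g * h * g⁻¹) * g = h := by group
        rw [this]
        exact hh
    · intro hx
      rw [Cfsg.Agent.Lib.Frobenius.mem_kernel_iff]
      by_cases hx1 : x = 1
      · exact Or.inl hx1
      · right
        intro g hg
        have h3 : g⁻¹ * x * g ∈ N := by
          have := hnormal_conj C hx g⁻¹
          simpa using this
        have h4 := hdisj _ h3 hg
        apply hx1
        have : x = g * (g⁻¹ * x * g) * g⁻¹ := by group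
        rw [this, h4]
        group

/-- Conversely, a Frobenius structure forces `N = O_p(G)`. -/
theorem eq_pCore_of_frobenius [Fact p.Prime] [N.Normal] (hNp : IsPGroup p N) (hN1 : N ≠ ⊥)
    {H : Subgroup G} (hH : IsFrobeniusComplement H) (hk : frobeniusKernel H = (N : Set G))
    (hc : Nat.card H + 1 = Nat.card N) : N = Cfsg.pCore p G := by
  have hpp : p.Prime := Fact.out
  have h1 := Cfsg.Agent.Lib.Frobenius.card_kernel hH
  rw [hk] at h1
  have h1' : Nat.card N = H.index := h1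
  have h3 := Subgroup.card_mul_index H
  have h4 := Subgroup.card_mul_index N
  have hpos : 0 < Nat.card N := Nat.card_pos
  have hidx : N.index = Nat.card H := by
    apply Nat.eq_of_mul_eq_mul_left hpos
    rw [h4, ← h3, h1', mul_comm]
  have hdvdN : p ∣ Nat.card N := by
    obtain ⟨e, he⟩ := IsPGroup.iff_card.mp hNp
    rw [he]
    have he0 : e ≠ 0 := by
      rintro rfl
      rw [pow_zero] at he
      exact hN1 (Subgroup.eq_bot_of_card_eq N he)
    exact dvd_pow_self p he0
  have hpH : ¬ p ∣ Nat.card H := by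
    intro hd
    have h5 : p ∣ 1 := by
      have h6 : p ∣ Nat.card H + 1 := by rw [hc]; exact hdvdN
      exact (Nat.dvd_add_right hd).mp h6
    exact hpp.one_lt.ne' (Nat.dvd_one.mp h5)
  apply le_antisymm (Cfsg.Agent.Lib.PCore.le_pCore inferInstance hNp)
  intro x hx
  obtain ⟨m, hm⟩ := Cfsg.Agent.Lib.PCore.isPGroup_pCore (G := G) p ⟨x, hx⟩
  have hm' : x ^ p ^ m = 1 := by simpa using congrArg Subtype.val hm
  have h5 : ((x : G) : G ⧸ N) ^ p ^ m = 1 := by
    rw [← QuotientGroup.mk_pow, hm', QuotientGroup.mk_one]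
  have h6 : ((x : G) : G ⧸ N) ^ Nat.card (G ⧸ N) = 1 := pow_card_eq_one'
  rw [← Subgroup.index_eq_card, hidx] at h6
  have h7 : ((x : G) : G ⧸ N) ^ Nat.gcd (p ^ m) (Nat.card H) = 1 := pow_gcd_eq_one.mpr ⟨h5, h6⟩
  have h8 : Nat.Coprime (p ^ m) (Nat.card H) :=
    Nat.Coprime.pow_left _ ((Nat.Prime.coprime_iff_not_dvd hpp).mpr hpH)
  rw [h8.gcd_eq_one, pow_one] at h7
  exact (QuotientGroup.eq_one_iff x).mp h7

/-- Equal centralizer orders in `G` and `G/N` force `x N` to be a single conjugacy class. -/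
theorem camina_of_card [N.Normal] {x : G}
    (hcard : Nat.card (Subgroup.centralizer ({x} : Set G)) =
      Nat.card (Subgroup.centralizer ({(x : G ⧸ N)} : Set (G ⧸ N)))) :
    ∀ a ∈ N, ∃ g, g * x * g⁻¹ = x * a := by
  classical
  let B : Subgroup (G ⧸ N) := Subgroup.centralizer ({(x : G ⧸ N)} : Set (G ⧸ N))
  let L : Subgroup G := B.comap (QuotientGroup.mk' N)
  let Cx : Subgroup G := Subgroup.centralizer ({x} : Set G)
  have hmemB : ∀ g : G, g ∈ L ↔ (g : G ⧸ N) * (x : G ⧸ N) = (x : G ⧸ N) * (g : G ⧸ N) := by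
    intro g
    show (g : G ⧸ N) ∈ B ↔ _
    simp only [B, Subgroup.mem_centralizer_singleton_iff]
  have hmemC : ∀ g : G, g ∈ Cx ↔ g * x = x * g := by
    intro g
    simp only [Cx, Subgroup.mem_centralizer_singleton_iff]
  have hNL : N ≤ L := by
    intro n hn
    rw [hmemB, (QuotientGroup.eq_one_iff n).mpr hn, one_mul, mul_one]
  have hCL : Cx ≤ L := by
    intro g hg
    rw [hmemB, ← QuotientGroup.mk_mul, ← QuotientGroup.mk_mul, (hmemC g).mp hg]
  have hLcard : Nat.card L = Nat.card N * Nat.card B := by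
    have h1 := Cfsg.Agent.S4845.card_eq_of_le_map N L hNL
    have h3 : L.map (QuotientGroup.mk' N) = B :=
      Subgroup.map_comap_eq_self_of_surjective (QuotientGroup.mk'_surjective N) B
    rw [h3] at h1
    exact h1
  let C' : Subgroup L := Cx.subgroupOf L
  have hC' : Nat.card C' = Nat.card Cx := Nat.card_congr (Subgroup.subgroupOfEquivOfLe hCL).toEquiv
  have hq : Nat.card (L ⧸ C') = Nat.card N := by
    have h1 := Subgroup.card_eq_card_quotient_mul_card_subgroup C'
    have h3 : Nat.card B = Nat.card Cx := hcard.symm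
    rw [hLcard, hC', h3] at h1
    have hpos : 0 < Nat.card Cx := Nat.card_pos
    exact (Nat.eq_of_mul_eq_mul_right hpos h1).symm
  have hφmem : ∀ g : L, x⁻¹ * (g : G) * x * (g : G)⁻¹ ∈ N := by
    intro g
    rw [← QuotientGroup.eq_one_iff]
    simp only [QuotientGroup.mk_mul, QuotientGroup.mk_inv]
    have h1 := (hmemB g).mp g.2
    have h3 : (x : G ⧸ N)⁻¹ * (g : G ⧸ N) * (x : G ⧸ N) = (g : G ⧸ N) := by
      rw [mul_assoc, h1]
      group
    rw [h3]
    group
  let ψ : L ⧸ C' → N := fun q => ⟨x⁻¹ * (q.out : G) * x * (q.out : G)⁻¹, hφmem _⟩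
  have hψ : Function.Injective ψ := by
    intro q q' h
    have h1 : x⁻¹ * (q.out : G) * x * (q.out : G)⁻¹ = x⁻¹ * (q'.out : G) * x * (q'.out : G)⁻¹ :=
      congrArg Subtype.val h
    rw [← QuotientGroup.out_eq' q, ← QuotientGroup.out_eq' q', QuotientGroup.eq]
    show (((q.out)⁻¹ * q'.out : L) : G) ∈ Cx
    rw [hmemC]
    set g := ((q.out : L) : G)
    set g' := ((q'.out : L) : G)
    have h3 : g * x * g⁻¹ = g' * x * g'⁻¹ := by
      have h4 : x * (x⁻¹ * g * x * g⁻¹) = x * (x⁻¹ * g' * x * g'⁻¹) := by rw [h1]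
      simpa [mul_assoc] using h4
    have h5 : g' * x = g * x * g⁻¹ * g' := by
      rw [h3]
      group
    show g⁻¹ * g' * x = x * (g⁻¹ * g')
    rw [mul_assoc, h5]
    group
  have hψb : Function.Bijective ψ := hψ.bijective_of_nat_card_le hq.ge
  intro a ha
  obtain ⟨q, hq'⟩ := hψb.2 ⟨a, ha⟩
  refine ⟨(q.out : G), ?_⟩
  have h1 : x⁻¹ * (q.out : G) * x * (q.out : G)⁻¹ = a := congrArg Subtype.val hq'
  rw [← h1]
  group

end

end Cfsg.Agent.Lib.CaminaFrob
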