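import Mathlib
import Cfsg.Agent.Lib.DetChar
import Cfsg.Agent.Lib.CharInduction

/-!
# Canonical extensions over `p`-power index

If `G / N` is a `p`-group and `ϑ ∈ Irr(N)` is `G`-invariant of degree prime to `p` with determinant
of order prime to `p`, then `ϑ` has a unique extension to `G` whose determinant has order prime
to `p`.
-/

set_option autoImplicit false
set_option linter.style.haveILetI false
set_option linter.unusedVariables false
set_option linter.unusedSectionVars false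

namespace Cfsg.Agent.Lib.CanonExt

open Cfsg Cfsg.Agent.Lib.CharBasic Cfsg.Agent.Lib.DetChar Cfsg.Agent.Lib.ImplGroup
open Cfsg.Agent.Lib.CharInduction

universe u

/-- The determinant has order prime to `p`. -/
def DetP' (p : ℕ) {G : Type u} [Group G] (χ : G → ℂ) : Prop :=
  ∃ m : ℕ, ¬ p ∣ m ∧ ∀ g, detChar χ g ^ m = 1

variable {G : Type u} [Group G] [Finite G] {p : ℕ} [hp : Fact p.Prime]

/-- A unit killed by `p ^ s` and by an integer prime to `p` is trivial. -/
theorem unit_eq_one_of_coprime {u : ℂˣ} {s m : ℕ} (hs : u ^ p ^ s = 1) (hm : u ^ m = 1)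
    (hpm : ¬ p ∣ m) : u = 1 := by
  have hcop : Nat.Coprime (p ^ s) m :=
    Nat.Coprime.pow_left s ((Nat.Prime.coprime_iff_not_dvd hp.out).mpr hpm)
  have h1 := orderOf_dvd_of_pow_eq_one hs
  have h2 := orderOf_dvd_of_pow_eq_one hm
  have h3 : orderOf u = 1 := (Nat.Coprime.coprime_dvd_left h1 hcop).eq_one_of_dvd h2
  exact orderOf_eq_one_iff.mp h3

section Unique

/-- A linear character of `p`-power order relating two characters with determinant of order prime
to `p` is trivial. -/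
theorem hom_eq_one_of_detP' {η χ : G → ℂ} (hηc : IsCharacter G η) (β : G →* ℂˣ) {s : ℕ}
    (hβp : ∀ g, β g ^ p ^ s = 1) (hχeq : χ = (fun g => ((β g : ℂˣ) : ℂ)) * η) {d : ℕ}
    (hd : η 1 = d) (hpd : ¬ p ∣ d) (h1 : DetP' p η) (h2 : DetP' p χ) (g : G) : β g = 1 := by
  obtain ⟨m₁, hm₁, hdet₁⟩ := h1
  obtain ⟨m₂, hm₂, hdet₂⟩ := h2
  have hm : β g ^ (d * (m₁ * m₂)) = 1 := by
    apply Units.ext
    have h3 : detChar χ g = ((β g : ℂˣ) : ℂ) ^ d * detChar η g := by
      rw [hχeq]
      exact detChar_mul_hom β hηc hd g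
    have h4 := congrArg (fun z => z ^ (m₁ * m₂)) h3
    simp only [mul_pow] at h4
    have h5 : detChar χ g ^ (m₁ * m₂) = 1 := by
      rw [mul_comm, pow_mul, hdet₂, one_pow]
    have h6 : detChar η g ^ (m₁ * m₂) = 1 := by
      rw [pow_mul, hdet₁, one_pow]
    rw [h5, h6, mul_one] at h4
    push_cast
    rw [pow_mul]
    exact h4.symm
  refine unit_eq_one_of_coprime (p := p) (hβp g) hm ?_
  intro hdvd
  rcases (Nat.Prime.dvd_mul hp.out).mp hdvd with h | h
  · exact hpd h
  · rcases (Nat.Prime.dvd_mul hp.out).mp h with h | h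
    · exact hm₁ h
    · exact hm₂ h

variable (N : Subgroup G) [hN : N.Normal]

/-- **Uniqueness.** -/
theorem eq_of_detP' {s : ℕ} (hidx : N.index = p ^ s) {η χ : G → ℂ} (hη : IsIrrCharacter G η)
    (hηN : IsIrrCharacter N (fun n : N => η n)) (hχ : IsIrrCharacter G χ)
    (hres : ∀ n : N, χ n = η n) {d : ℕ} (hd : η 1 = d) (hpd : ¬ p ∣ d) (h1 : DetP' p η)
    (h2 : DetP' p χ) : χ = η := by
  classical
  obtain ⟨β, hβN, hχeq⟩ := exists_eq_mul_of_extends N hη hηN hχ hres
  have hβ1 : ∀ g, β g = 1 := by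
    refine hom_eq_one_of_detP' (IsIrrCharacter.isCharacter hη) β (s := s) ?_ hχeq hd hpd h1 h2
    intro g
    rw [← map_pow, ← hidx]
    exact hβN ⟨_, Subgroup.pow_index_mem N g⟩
  rw [hχeq]
  funext g
  simp [hβ1 g]

/-- **Making the determinant prime to `p`.** -/
theorem exists_twist_detP' {χ : G → ℂ} (hχ : IsIrrCharacter G χ)
    {d : ℕ} (hd : χ 1 = d) (hpd : ¬ p ∣ d) {m : ℕ} (hm : ¬ p ∣ m)
    (hdet : ∀ n : N, detChar χ n ^ m = 1) :
    ∃ β : G →* ℂˣ, (∀ n : N, β n = 1) ∧ (∀ g, β g ^ p ^ (Nat.card G).factorization p = 1) ∧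
      DetP' p ((fun g => ((β g : ℂˣ) : ℂ)) * χ) := by
  classical
  have hχc := IsIrrCharacter.isCharacter hχ
  obtain ⟨D, hD⟩ := exists_detHom hχc
  set a := (Nat.card G).factorization p with ha
  set n' := ordCompl[p] (Nat.card G) with hn'
  have hcard : p ^ a * n' = Nat.card G := Nat.ordProj_mul_ordCompl_eq_self _ _
  have hn'p : ¬ p ∣ n' := Nat.not_dvd_ordCompl hp.out Nat.card_pos.ne'
  have hpmn : ¬ p ∣ m * n' := by
    intro h
    rcases (Nat.Prime.dvd_mul hp.out).mp h with h | h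
    · exact hm h
    · exact hn'p h
  have hcop : Nat.Coprime (m * n' * d) (p ^ a) := by
    refine Nat.Coprime.symm (Nat.Coprime.pow_left a ?_)
    refine (Nat.Prime.coprime_iff_not_dvd hp.out).mpr ?_
    intro h
    rcases (Nat.Prime.dvd_mul hp.out).mp h with h | h
    · exact hpmn h
    · exact hpd h
  have hbez := Nat.gcd_eq_gcd_ab (m * n' * d) (p ^ a)
  rw [hcop] at hbez
  set x := Nat.gcdA (m * n' * d) (p ^ a)
  set y := Nat.gcdB (m * n' * d) (p ^ a)
  let κ : G →* ℂˣ := D ^ (m * n')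
  have hκ : ∀ g, κ g = D g ^ (m * n') := fun g => rfl
  have hκN : ∀ n : N, κ n = 1 := by
    intro n
    rw [hκ, pow_mul]
    have h0 : D n ^ m = 1 := by
      apply Units.ext
      push_cast
      rw [← hD]
      exact hdet n
    rw [h0, one_pow]
  have hDcard : ∀ g, D g ^ Nat.card G = 1 := fun g => by
    rw [← map_pow, pow_card_eq_one', map_one]
  have hκp : ∀ g, κ g ^ p ^ a = 1 := by
    intro g
    rw [hκ, ← pow_mul]
    have e : m * n' * p ^ a = Nat.card G * m := by
      rw [← hcard]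
      ring
    rw [e, pow_mul, hDcard, one_pow]
  let β : G →* ℂˣ := κ ^ (-x)
  have hβ : ∀ g, β g = κ g ^ (-x) := fun g => rfl
  refine ⟨β, ?_, ?_, m * n', hpmn, ?_⟩
  · intro n
    rw [hβ, hκN, one_zpow]
  · intro g
    rw [hβ, ← zpow_natCast, ← zpow_mul, mul_comm, zpow_mul, zpow_natCast, hκp, one_zpow]
  · intro g
    rw [detChar_mul_hom β hχc hd g, hD]
    have e : ((p : ℤ) ^ a) * y = ((m * n' : ℕ) : ℤ) * (-x) * d + 1 := by
      push_cast at hbez ⊢
      linarith
    have h1 : (β g) ^ d * D g = D g ^ (((p : ℤ) ^ a) * y) := by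
      rw [e, zpow_add, zpow_one, zpow_mul, zpow_mul, zpow_natCast, zpow_natCast, hβ, hκ]
    have h2 : ((β g) ^ d * D g) ^ (m * n') = 1 := by
      rw [h1, ← zpow_natCast, ← zpow_mul]
      have e2 : ((p : ℤ) ^ a) * y * ((m * n' : ℕ) : ℤ) = ((Nat.card G : ℕ) : ℤ) * (m * y) := by
        rw [← hcard]
        push_cast
        ring
      rw [e2, zpow_mul, zpow_natCast, hDcard, one_zpow]
    have h3 := congrArg (fun u : ℂˣ => (u : ℂ)) h2
    simpa using h3

end Unique

/-- **Existence.** -/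
theorem exists_ext_detP' (s : ℕ) : ∀ (N : Subgroup G) (hN : N.Normal), N.index = p ^ s →
    ∀ {ϑ : N → ℂ}, IsIrrCharacter N ϑ →
    (∀ (g : G) (n : N), ϑ ⟨g * n * g⁻¹, hN.conj_mem (n : G) n.2 g⟩ = ϑ n) →
    ∀ {d : ℕ}, ϑ 1 = d → ¬ p ∣ d → DetP' p ϑ →
    ∃ χ : G → ℂ, IsIrrCharacter G χ ∧ (∀ n : N, χ n = ϑ n) ∧ DetP' p χ := by
  classical
  induction s with
  | zero =>
    intro N hN hidx ϑ hϑ hinv d hd hpd hdet
    haveI := hN
    have htop : N = ⊤ := Subgroup.index_eq_one.mp (by simpa using hidx)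
    have hmem : ∀ g : G, g ∈ N := fun g => by rw [htop]; trivial
    haveI : Subsingleton (G ⧸ N) :=
      (Nat.card_eq_one_iff_unique.mp (by simpa [Subgroup.index] using hidx)).1
    have hcyc : IsCyclic (G ⧸ N) := inferInstance
    obtain ⟨χ, hχ, hres⟩ := exists_ext_of_cyclic N hcyc hϑ hinv
    refine ⟨χ, hχ, hres, ?_⟩
    obtain ⟨m, hm, hdm⟩ := hdet
    refine ⟨m, hm, fun g => ?_⟩
    have h1 := detChar_restrict N (IsIrrCharacter.isCharacter hχ) ⟨g, hmem g⟩
    have h2 : (fun x : N => χ x) = ϑ := funext hres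
    rw [h2] at h1
    show detChar χ g ^ m = 1
    have h3 : detChar χ g = detChar ϑ ⟨g, hmem g⟩ := h1.symm
    rw [h3]
    exact hdm _
  | succ s ih =>
    intro N hN hidx ϑ hϑ hinv d hd hpd hdet
    haveI := hN
    -- a normal subgroup above `N` with `p`-index
    obtain ⟨N', hN', hle, hidx'⟩ : ∃ N' : Subgroup G, N'.Normal ∧ N ≤ N' ∧ N'.index = p ^ s := by
      haveI : Finite (G ⧸ N) := inferInstance
      have hcard : Nat.card (G ⧸ N) = p ^ (s + 1) := hidx
      have hpg : IsPGroup p (G ⧸ N) := IsPGroup.of_card hcard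
      haveI : Nontrivial (G ⧸ N) := by
        apply Finite.one_lt_card_iff_nontrivial.mp
        rw [hcard]
        exact Nat.one_lt_pow (by omega) hp.out.one_lt
      haveI := hpg.center_nontrivial
      have hpc : IsPGroup p (Subgroup.center (G ⧸ N)) := hpg.to_subgroup _
      have hdvd : p ∣ Nat.card (Subgroup.center (G ⧸ N)) := by
        obtain ⟨k, hk⟩ := IsPGroup.iff_card.mp hpc
        have hk0 : k ≠ 0 := by
          rintro rfl
          have h1 : 1 < Nat.card (Subgroup.center (G ⧸ N)) := Finite.one_lt_card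
          rw [hk, pow_zero] at h1
          exact absurd h1 (lt_irrefl _)
        rw [hk]
        exact dvd_pow_self p hk0
      obtain ⟨z, hz⟩ := exists_prime_orderOf_dvd_card' p hdvd
      let A : Subgroup (G ⧸ N) := Subgroup.zpowers ((z : Subgroup.center (G ⧸ N)) : G ⧸ N)
      haveI hAn : A.Normal := by
        constructor
        rintro _ ⟨j, rfl⟩ c
        refine ⟨j, ?_⟩
        have hcz : ∀ c : G ⧸ N, c * ((z : Subgroup.center (G ⧸ N)) : G ⧸ N) = (z : G ⧸ N) * c :=
          fun c => (Subgroup.mem_center_iff.mp z.2 c)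
        have : Commute c (((z : Subgroup.center (G ⧸ N)) : G ⧸ N) ^ j) :=
          (Commute.zpow_right (hcz c) j)
        show _ = c * ((z : G ⧸ N) ^ j) * c⁻¹
        rw [this.eq]
        simp
      have hAcard : Nat.card A = p := by
        rw [Nat.card_zpowers, Subgroup.orderOf_coe, hz]
      have hAidx : A.index = p ^ s := by
        have h1 := A.card_mul_index
        rw [hAcard, hcard, pow_succ, mul_comm] at h1
        exact (Nat.eq_of_mul_eq_mul_right hp.out.pos h1)
      refine ⟨A.comap (QuotientGroup.mk' N), inferInstance, ?_, ?_⟩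
      · intro n hn
        rw [Subgroup.mem_comap]
        show ((n : G) : G ⧸ N) ∈ A
        rw [(QuotientGroup.eq_one_iff n).mpr hn]
        exact A.one_mem
      · rw [Subgroup.index_comap_of_surjective _ (QuotientGroup.mk'_surjective N)]
        exact hAidx
    haveI := hN'
    have hrel : N.relIndex N' = p := by
      have h1 := Subgroup.relIndex_mul_index hle
      rw [hidx, hidx', pow_succ, mul_comm] at h1
      exact Nat.eq_of_mul_eq_mul_left (pow_pos hp.out.pos s) h1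
    -- the relative setting
    let N₀ : Subgroup N' := N.subgroupOf N'
    haveI hN₀ : N₀.Normal := Subgroup.Normal.subgroupOf hN N'
    let e : N₀ ≃* N := Subgroup.subgroupOfEquivOfLe hle
    have he : ∀ x : N₀, ((e x : N) : G) = ((x : N') : G) := fun x => rfl
    let ϑ₀ : N₀ → ℂ := ϑ ∘ e.toMonoidHom
    have hϑ₀ : IsIrrCharacter N₀ ϑ₀ := isIrrCharacter_comp_of_surjective e.toMonoidHom e.surjective hϑ
    have hN₀idx : N₀.index = p := hrel
    have hcyc : IsCyclic (N' ⧸ N₀) := by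
      haveI : Fact (Nat.card (N' ⧸ N₀)).Prime := ⟨by
        show Nat.Prime N₀.index
        rw [hN₀idx]
        exact hp.out⟩
      exact isCyclic_of_prime_card rfl
    have hinv₀ : ∀ (g : N') (n : N₀), ϑ₀ ⟨g * n * g⁻¹, hN₀.conj_mem (n : N') n.2 g⟩ = ϑ₀ n := by
      intro g n
      exact hinv (g : G) (e n)
    obtain ⟨ξ₀, hξ₀, hres₀⟩ := exists_ext_of_cyclic N₀ hcyc hϑ₀ hinv₀
    obtain ⟨m, hm, hdm⟩ := hdet
    have hξ₀c := IsIrrCharacter.isCharacter hξ₀
    have hres₀f : (fun x : N₀ => ξ₀ x) = ϑ₀ := funext hres₀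
    have hξ₀1 : ξ₀ 1 = d := by
      have := hres₀ 1
      rw [← hd]
      simpa [ϑ₀] using this
    have hdetN : ∀ n : N₀, detChar ξ₀ n ^ m = 1 := by
      intro n
      have h1 := detChar_restrict N₀ hξ₀c n
      rw [hres₀f] at h1
      rw [← h1]
      have h2 : detChar ϑ₀ n = detChar ϑ (e n) :=
        detChar_comp e.toMonoidHom (IsIrrCharacter.isCharacter hϑ) n
      rw [h2]
      exact hdm _
    have hN₀pow : N₀.index = p ^ 1 := by rw [hN₀idx, pow_one]
    obtain ⟨β, hβN, -, hβdet⟩ := exists_twist_detP' N₀ hξ₀ hξ₀1 hpd hm hdetN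
    let ξ : N' → ℂ := (fun g => ((β g : ℂˣ) : ℂ)) * ξ₀
    have hξ : IsIrrCharacter N' ξ := isIrr_mul_hom β hξ₀
    have hresξ : ∀ n : N₀, ξ n = ϑ₀ n := by
      intro n
      show ((β n : ℂˣ) : ℂ) * ξ₀ n = _
      rw [hβN, hres₀]
      simp
    have hξN₀ : IsIrrCharacter N₀ (fun n : N₀ => ξ n) := by
      have : (fun n : N₀ => ξ n) = ϑ₀ := funext hresξ
      rw [this]
      exact hϑ₀
    have hξ1 : ξ 1 = d := by
      show ((β 1 : ℂˣ) : ℂ) * ξ₀ 1 = _
      rw [hξ₀1]
      simp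
    -- invariance
    have hinvξ : ∀ (g : G) (n : N'), ξ ⟨g * n * g⁻¹, hN'.conj_mem (n : G) n.2 g⟩ = ξ n := by
      intro g n
      have hirr : IsIrrCharacter N' (conjBy N' hN' g ξ) := isIrrCharacter_conjBy N' hN' g hξ
      have hres1 : ∀ x : N₀, conjBy N' hN' g ξ x = ξ x := by
        intro x
        have hmemN : g * ((x : N') : G) * g⁻¹ ∈ N := hN.conj_mem _ x.2 g
        have hmemN₀ : (⟨g * ((x : N') : G) * g⁻¹, hN'.conj_mem _ (x : N').2 g⟩ : N') ∈ N₀ := hmemN
        have h1 := hresξ ⟨_, hmemN₀⟩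
        rw [hresξ x]
        show ξ ⟨g * ((x : N') : G) * g⁻¹, _⟩ = _
        rw [show ξ ⟨g * ((x : N') : G) * g⁻¹, hN'.conj_mem _ (x : N').2 g⟩ = _ from h1]
        exact hinv g (e x)
      have hdet1 : DetP' p (conjBy N' hN' g ξ) := by
        obtain ⟨m', hm', hdm'⟩ := hβdet
        refine ⟨m', hm', fun y => ?_⟩
        have h2 := detChar_comp (conjAut N' hN' g).toMonoidHom (IsIrrCharacter.isCharacter hξ) y
        have h3 : detChar (conjBy N' hN' g ξ) y = detChar ξ (conjAut N' hN' g y) := h2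
        rw [h3]
        exact hdm' _
      have h4 := eq_of_detP' N₀ hN₀pow hξ hξN₀ hirr hres1 hξ1 hpd hβdet hdet1
      exact congrFun h4 n
    obtain ⟨χ, hχ, hχres, hχdet⟩ := ih N' hN' hidx' hξ hinvξ hξ1 hpd hβdet
    refine ⟨χ, hχ, fun n => ?_, hχdet⟩
    have h1 := hχres ⟨(n : G), hle n.2⟩
    have h2 := hresξ ⟨⟨(n : G), hle n.2⟩, n.2⟩
    exact h1.trans h2

end Cfsg.Agent.Lib.CanonExt
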