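import Cfsg.Agent.Lib.SpecDfs

/-!
# Enumeration of centralizers along a stabilizer chain

An element `y` commuting with a permutation `W` maps fixed points of `W` to fixed points of `W`.
The depth first search over the chain of stabilizers cuts the branches violating this.
-/

set_option autoImplicit false

namespace Cfsg.Agent.Lib.CentDfs

open Cfsg.Agent.Lib.PermChain Cfsg.Agent.Lib.SpecDfs

/-- A chain of stabilizers with base points and with codes of the transversals. -/
inductive ChainB {n : ℕ} (K : Subgroup (Equiv.Perm (Fin n))) :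
    Subgroup (Equiv.Perm (Fin n)) → List (ℕ × List ℕ) → Prop
  | nil : ChainB K K []
  | cons {H H' : Subgroup (Equiv.Perm (Fin n))} {b : Fin n} {U : Fin n → Equiv.Perm (Fin n)} {O : Finset (Fin n)}
      (L : Level H H' b U O) {b' : ℕ} (hb : b.val = b') {ts : List ℕ} {Ls : List (ℕ × List ℕ)}
      (hts : ∀ p ∈ O, ∃ t ∈ ts, Rep (U p) t) (rest : ChainB K H' Ls) : ChainB K H ((b', ts) :: Ls)

/-- the search for elements commuting with `w` -/
def dfsC (n w : ℕ) (test : ℕ → Bool) : List (ℕ × List ℕ) → ℕ → Bool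
  | [], c => test c
  | (b, ts) :: Ls, c => ts.all fun t =>
      (Nat.beq (im w b) b && !Nat.beq (im w (im (mulC n c t) b)) (im (mulC n c t) b)) ||
        dfsC n w test Ls (mulC n c t)

theorem dfsC_spec {n : ℕ} {W : Equiv.Perm (Fin n)} {w : ℕ} (hW : Rep W w) (test : ℕ → Bool)
    {K H : Subgroup (Equiv.Perm (Fin n))} {Ls : List (ℕ × List ℕ)} (hC : ChainB K H Ls) :
    ∀ (c : ℕ), dfsC n w test Ls c = true → ∀ x : Equiv.Perm (Fin n), Rep x c →
      ∀ h ∈ H, (x * h) * W = W * (x * h) →
        ∃ c', ∃ x', ∃ k ∈ K, Rep x' c' ∧ x * h = x' * k ∧ test c' = true := by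
  induction hC with
  | nil =>
    intro c hd x hx h hh _
    exact ⟨c, x, h, hh, hx, rfl, hd⟩
  | @cons H H' b U O L b' hb ts Ls hts rest ih =>
    intro c hd x hx h hh hcomm
    subst hb
    obtain ⟨h1, h2⟩ := L.cover h hh
    obtain ⟨t, ht, hrep⟩ := hts _ h1
    simp only [dfsC, List.all_eq_true] at hd
    have h3 := hd t ht
    have hr' := rep_mul hx hrep
    have he : x * h = (x * U (h b)) * ((U (h b))⁻¹ * h) := by group
    have hfix : ((U (h b))⁻¹ * h) b = b := L.fix _ h2
    have hy : (x * h) b = (x * U (h b)) b := by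
      conv_lhs => rw [he, Equiv.Perm.mul_apply, hfix]
    have hv : im (mulC n c t) b.val = ((x * h) b).val := by
      rw [hy, rep_im hr']
    rcases (Bool.or_eq_true _ _).mp h3 with hp | hd2
    · exfalso
      rw [Bool.and_eq_true] at hp
      have hp1 := Nat.eq_of_beq_eq_true hp.1
      have hp2 := hp.2
      rw [hv] at hp2
      have h4 : W b = b := Fin.ext (by rw [rep_im hW, hp1])
      have h5 : W ((x * h) b) = (x * h) b := by
        have := congrArg (fun z : Equiv.Perm (Fin n) => z b) hcomm
        simp only [Equiv.Perm.mul_apply] at this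
        rw [h4] at this
        simpa [Equiv.Perm.mul_apply] using this.symm
      have h6 : im w ((x * h) b).val = ((x * h) b).val := by
        rw [← rep_im hW, h5]
      rw [h6] at hp2
      simp at hp2
    · have h7 : ((x * U (h b)) * ((U (h b))⁻¹ * h)) * W = W * ((x * U (h b)) * ((U (h b))⁻¹ * h)) := by
        rw [← he]; exact hcomm
      obtain ⟨c', x', k, hk, h8, h9, h10⟩ := ih _ hd2 _ hr' _ h2 h7
      exact ⟨c', x', k, hk, h8, he.trans h9, h10⟩

/-- do the codes commute -/
def commC (n c d : ℕ) : Bool :=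
  (List.range n).all fun i => Nat.beq (im c (im d i)) (im d (im c i))

theorem commC_of_comm {n : ℕ} {x y : Equiv.Perm (Fin n)} {c d : ℕ} (hx : Rep x c) (hy : Rep y d)
    (h : x * y = y * x) : commC n c d = true := by
  rw [commC, List.all_eq_true]
  intro i hi
  have hi' := List.mem_range.mp hi
  have h1 := congrArg (fun z : Equiv.Perm (Fin n) => (z ⟨i, hi'⟩).val) h
  simp only [Equiv.Perm.mul_apply] at h1
  rw [rep_im hx, rep_im hy, rep_im hy, rep_im hx] at h1
  simpa using h1

/-- is the square of the code the identity -/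
def sqId (n c : ℕ) : Bool := (List.range n).all fun i => Nat.beq (im c (im c i)) i

theorem sqId_of_sq {n : ℕ} {x : Equiv.Perm (Fin n)} {c : ℕ} (hx : Rep x c) (h : x ^ 2 = 1) : sqId n c = true := by
  rw [sqId, List.all_eq_true]
  intro i hi
  have hi' := List.mem_range.mp hi
  have h1 := congrArg (fun z : Equiv.Perm (Fin n) => (z ⟨i, hi'⟩).val) h
  simp only [pow_two, Equiv.Perm.mul_apply, Equiv.Perm.one_apply] at h1
  rw [rep_im hx, rep_im hx] at h1
  simpa using h1

theorem rep_unique {n : ℕ} {x y : Equiv.Perm (Fin n)} {c : ℕ} (hx : Rep x c) (hy : Rep y c) : x = y := by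
  ext i
  rw [rep_im hx, rep_im hy]

/-- the power of a code -/
def powC (n id c : ℕ) : ℕ → ℕ
  | 0 => id
  | k + 1 => mulC n c (powC n id c k)

theorem rep_pow {n : ℕ} {x : Equiv.Perm (Fin n)} {id c : ℕ} (hid : Rep (1 : Equiv.Perm (Fin n)) id) (hx : Rep x c) :
    ∀ k, Rep (x ^ k) (powC n id c k)
  | 0 => by
    show Rep (x ^ 0) id
    rw [pow_zero]
    exact hid
  | k + 1 => by
    rw [pow_succ', powC]
    exact rep_mul hx (rep_pow hid hx k)

end Cfsg.Agent.Lib.CentDfs
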