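import Mathlib

namespace Cfsg.Agent.Lib.CentSyl36

/-- If `A ≤ P`, `P` normalizes `A`, `P` is a Sylow 3-subgroup of `G`, `C_P(A) ≤ A`, and `C_G(A)`
has no nontrivial 3'-elements then `C_G(A) ≤ A`. -/
theorem cent_eq {G : Type*} [Group G] [Finite G] (A P : Subgroup G) (hAP : A ≤ P)
    (hPN : ∀ x ∈ P, ∀ a ∈ A, x * a * x⁻¹ ∈ A) {k q : ℕ} (hP : Nat.card P = 3 ^ k)
    (hG : Nat.card G = 3 ^ k * q) (hq3 : ¬ 3 ∣ q)
    (hPA : ∀ c ∈ P, (∀ a ∈ A, c * a = a * c) → c ∈ A)
    (h3' : ∀ c : G, (∀ a ∈ A, c * a = a * c) → ¬ 3 ∣ orderOf c → c = 1) :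
    ∀ c : G, (∀ a ∈ A, c * a = a * c) → c ∈ A := by
  classical
  haveI : Fact (Nat.Prime 3) := ⟨Nat.prime_three⟩
  intro c hc
  -- step 1: `c` is a 3-element
  have hc3 : ∃ n : ℕ, c ^ (3 ^ n) = 1 := by
    have hpos : orderOf c ≠ 0 := (orderOf_pos c).ne'
    obtain ⟨a, m, hm, hom⟩ := Nat.exists_eq_pow_mul_and_not_dvd hpos 3 (by norm_num)
    refine ⟨a, ?_⟩
    apply h3'
    · intro x hx
      exact ((Commute.pow_left (show Commute c x from hc x hx) _) : _)
    · rw [orderOf_pow' c (by positivity)]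
      have : Nat.gcd (orderOf c) (3 ^ a) = 3 ^ a := by
        rw [hom]; exact Nat.gcd_eq_right (Nat.dvd_mul_right _ _)
      rw [this, hom, Nat.mul_div_cancel_left _ (by positivity)]
      exact hm
  -- the normalizer of `A`
  let N : Subgroup G :=
    { carrier := {g | ∀ a, a ∈ A ↔ g * a * g⁻¹ ∈ A}
      one_mem' := by intro a; simp
      mul_mem' := by
        intro x y hx hy a
        have := hx (y * a * y⁻¹)
        rw [hy a, this]
        simp only [mul_inv_rev, mul_assoc]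
      inv_mem' := by
        intro x hx a
        have := hx (x⁻¹ * a * x⁻¹⁻¹)
        rw [this]
        simp only [inv_inv, mul_assoc, mul_inv_cancel_left, mul_inv_cancel, mul_one] }
  have hmemN : ∀ g : G, g ∈ N ↔ ∀ a, a ∈ A ↔ g * a * g⁻¹ ∈ A := fun g => Iff.rfl
  have hPleN : P ≤ N := by
    intro x hx a
    refine ⟨hPN x hx a, fun h => ?_⟩
    have := hPN x⁻¹ (P.inv_mem hx) _ h
    simpa [mul_assoc] using this
  have hcN : c ∈ N := by
    intro a
    constructor
    · intro ha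
      have : c * a * c⁻¹ = a := by rw [hc a ha]; simp
      rw [this]; exact ha
    · intro ha
      have h1 : c * a = a * c := by
        by_contra hne
        have h2 := hc _ ha
        -- `c` commutes with `c a c⁻¹`
        have h3 : c * (c * a * c⁻¹) = (c * a * c⁻¹) * c := h2
        have h4 : c * a = a * c := by
          have h5 : c * (c * a * c⁻¹) * c = (c * a * c⁻¹) * c * c := by rw [h3]
          have h6 : c * c * a = c * a * c := by
            have e1 : c * (c * a * c⁻¹) * c = c * c * a := by group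
            have e2 : (c * a * c⁻¹) * c * c = c * a * c := by group
            rw [← e1, ← e2]; exact h5
          have h7 : c * (c * a) = c * (a * c) := by
            rw [← mul_assoc, h6, mul_assoc]
          exact mul_left_cancel h7
        exact hne h4
      have : c * a * c⁻¹ = a := by rw [h1]; simp
      rwa [this] at ha
  -- `P` is Sylow in `N`
  have hPcard : Nat.card (P.subgroupOf N) = 3 ^ k := by
    rw [← hP]
    exact Nat.card_congr (Subgroup.subgroupOfEquivOfLe hPleN).toEquiv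
  have hdvd1 : 3 ^ k ∣ Nat.card N := by
    rw [← hPcard]; exact Subgroup.card_subgroup_dvd_card _
  have hdvd2 : Nat.card N ∣ 3 ^ k * q := by
    rw [← hG]; exact Subgroup.card_subgroup_dvd_card _
  obtain ⟨r, hr⟩ := hdvd1
  have hr3 : ¬ 3 ∣ r := by
    intro h3r
    have hk : 3 ^ k * r ∣ 3 ^ k * q := hr ▸ hdvd2
    have hq0 : 0 < 3 ^ k := by positivity
    have : r ∣ q := Nat.dvd_of_mul_dvd_mul_left hq0 hk
    exact hq3 (h3r.trans this)
  have hr0 : r ≠ 0 := by
    rintro rfl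
    exact hr3 (dvd_zero 3)
  have hfact : (Nat.card N).factorization 3 = k := by
    rw [hr, Nat.factorization_mul (by positivity) hr0, Nat.factorization_pow]
    simp [Nat.factorization_eq_zero_of_not_dvd hr3, Nat.Prime.factorization_self Nat.prime_three]
  let PS : Sylow 3 N := Sylow.ofCard (P.subgroupOf N) (by rw [hPcard, hfact])
  -- the cyclic 3-group generated by `c`
  let c' : N := ⟨c, hcN⟩
  have hpg : IsPGroup 3 (Subgroup.zpowers c') := by
    obtain ⟨n, hn⟩ := hc3
    rintro ⟨x, hx⟩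
    obtain ⟨i, rfl⟩ := Subgroup.mem_zpowers_iff.mp hx
    refine ⟨n, ?_⟩
    ext
    simp only [Subgroup.coe_pow, OneMemClass.coe_one]
    simp only [Subgroup.coe_zpow]
    rw [← zpow_natCast, ← zpow_mul, mul_comm, zpow_mul, zpow_natCast]
    have : (c' : G) ^ (3 ^ n) = 1 := hn
    rw [this]; simp
  obtain ⟨Q, hQ⟩ := hpg.exists_le_sylow
  obtain ⟨h, hh⟩ := MulAction.exists_smul_eq N Q PS
  have hcQ : c' ∈ Q := hQ (Subgroup.mem_zpowers c')
  have hmem : MulAut.conj h • c' ∈ ((h • Q : Sylow 3 N) : Subgroup N) := by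
    rw [Sylow.coe_subgroup_smul]
    exact Subgroup.smul_mem_pointwise_smul _ _ _ hcQ
  rw [hh] at hmem
  have hPmem : (h : G) * c * (h : G)⁻¹ ∈ P := by
    have h1 : MulAut.conj h • c' ∈ P.subgroupOf N := hmem
    rw [Subgroup.mem_subgroupOf] at h1
    simpa [c', MulAut.smul_def, MulAut.conj_apply] using h1
  have hhN : ∀ a, a ∈ A ↔ (h : G) * a * (h : G)⁻¹ ∈ A := h.2
  have hhinvN : ∀ a, a ∈ A ↔ (h : G)⁻¹ * a * (h : G)⁻¹⁻¹ ∈ A := (N.inv_mem h.2)
  have hcomm : ∀ a ∈ A, ((h : G) * c * (h : G)⁻¹) * a = a * ((h : G) * c * (h : G)⁻¹) := by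
    intro a ha
    have ha' : (h : G)⁻¹ * a * (h : G) ∈ A := by
      have := (hhinvN a).mp ha
      simpa using this
    have := hc _ ha'
    calc ((h : G) * c * (h : G)⁻¹) * a
        = (h : G) * (c * ((h : G)⁻¹ * a * (h : G))) * (h : G)⁻¹ := by group
      _ = (h : G) * (((h : G)⁻¹ * a * (h : G)) * c) * (h : G)⁻¹ := by rw [this]
      _ = a * ((h : G) * c * (h : G)⁻¹) := by group
  have hfin := hPA _ hPmem hcomm
  exact (hhN c).mpr hfin

/-- Width transfer: if the maximum size of a pairwise commuting subset of `F` through the base point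
`p₀` is at most `m` and `C` acts transitively by conjugation on `F`, then the bound holds for all
pairwise commuting subsets of `F`. -/
theorem width_le_of_transitive {G : Type*} [Group G] [Finite G] (F : Set G) (p₀ : G)
    (C : Set G) (hCF : ∀ g ∈ C, ∀ x ∈ F, g * x * g⁻¹ ∈ F)
    (htrans : ∀ x ∈ F, ∃ g ∈ C, g * x * g⁻¹ = p₀) (m : ℕ)
    (hm : ∀ E : Set G, E ⊆ F → p₀ ∈ E → (∀ x ∈ E, ∀ y ∈ E, x * y = y * x) → E.ncard ≤ m) :
    ∀ E : Set G, E ⊆ F → (∀ x ∈ E, ∀ y ∈ E, x * y = y * x) → E.ncard ≤ m := by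
  intro E hEF hcomm
  rcases E.eq_empty_or_nonempty with rfl | ⟨x, hx⟩
  · simp
  obtain ⟨g, hg, hgx⟩ := htrans x (hEF hx)
  have hinj : Function.Injective (fun y : G => g * y * g⁻¹) := by
    intro a b hab
    simpa using hab
  rw [← Set.ncard_image_of_injective E hinj]
  apply hm
  · rintro _ ⟨y, hy, rfl⟩
    exact hCF g hg y (hEF hy)
  · exact ⟨x, hx, hgx⟩
  · rintro _ ⟨y, hy, rfl⟩ _ ⟨z, hz, rfl⟩
    have := hcomm y hy z hz
    calc g * y * g⁻¹ * (g * z * g⁻¹) = g * (y * z) * g⁻¹ := by group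
      _ = g * (z * y) * g⁻¹ := by rw [this]
      _ = g * z * g⁻¹ * (g * y * g⁻¹) := by group

end Cfsg.Agent.Lib.CentSyl36
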