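import Mathlib
import Cfsg.Prelude.Def_SylowChains
import Cfsg.Agent.Lib.AlperinControl
import Cfsg.Agent.Lib.CoprimeHyper
import Cfsg.Agent.Lib.OddPGroup
import Cfsg.Agent.Lib.ControlSec

/-!
# Chain connectedness from two normal subgroups meeting in a `p'`-group

If `Y₁, Y₂` are normal subgroups of a finite group, both of order divisible by `p`, with
`Y₁ ∩ Y₂` of order prime to `p`, then the Sylow `p`-subgroups are chain connected.
-/

set_option autoImplicit false

namespace Cfsg.Agent.Lib.ChainConnNormal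

open Cfsg Cfsg.Agent.Lib.AlperinControl

variable {Γ : Type*} [Group Γ] {p : ℕ}

/-- Two Sylow subgroups meet nontrivially. -/
def Adj (S T : Sylow p Γ) : Prop := ∃ x, x ∈ (S : Subgroup Γ) ∧ x ∈ (T : Subgroup Γ) ∧ x ≠ 1

/-- Connectedness of the Sylow graph. -/
def Cn (S T : Sylow p Γ) : Prop := Relation.ReflTransGen Adj S T

theorem Adj.symm {S T : Sylow p Γ} (h : Adj S T) : Adj T S := by
  obtain ⟨x, h1, h2, h3⟩ := h
  exact ⟨x, h2, h1, h3⟩

theorem Cn.symm {S T : Sylow p Γ} (h : Cn S T) : Cn T S := by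
  induction h with
  | refl => exact Relation.ReflTransGen.refl
  | tail _ h2 ih => exact Relation.ReflTransGen.head h2.symm ih

theorem Adj.inf_ne_bot {S T : Sylow p Γ} (h : Adj S T) :
    (S : Subgroup Γ) ⊓ (T : Subgroup Γ) ≠ ⊥ := by
  obtain ⟨x, h1, h2, h3⟩ := h
  intro hb
  have : x ∈ (S : Subgroup Γ) ⊓ (T : Subgroup Γ) := ⟨h1, h2⟩
  rw [hb, Subgroup.mem_bot] at this
  exact h3 this

theorem Cn.trans {S T U : Sylow p Γ} (h : Cn S T) (h' : Cn T U) : Cn S U :=
  Relation.ReflTransGen.trans h h'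

theorem mem_smul {g x : Γ} {S : Sylow p Γ} :
    x ∈ ((g • S : Sylow p Γ) : Subgroup Γ) ↔ g⁻¹ * x * g ∈ (S : Subgroup Γ) := by
  rw [Sylow.coe_subgroup_smul, Subgroup.mem_pointwise_smul_iff_inv_smul_mem]
  rw [← map_inv, MulAut.smul_def, MulAut.conj_apply]
  simp

theorem Adj.smul {S T : Sylow p Γ} (h : Adj S T) (g : Γ) : Adj (g • S) (g • T) := by
  obtain ⟨x, h1, h2, h3⟩ := h
  refine ⟨g * x * g⁻¹, ?_, ?_, ?_⟩
  · rw [mem_smul]; simpa [mul_assoc] using h1
  · rw [mem_smul]; simpa [mul_assoc] using h2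
  · intro h
    apply h3
    have : x = g⁻¹ * (g * x * g⁻¹) * g := by group
    rw [this, h]; simp

theorem Cn.smul {S T : Sylow p Γ} (h : Cn S T) (g : Γ) : Cn (g • S) (g • T) := by
  induction h with
  | refl => exact Relation.ReflTransGen.refl
  | tail _ h2 ih => exact Relation.ReflTransGen.tail ih (h2.smul g)

/-- The stabilizer of the connected component of `S`. -/
def compStab (S : Sylow p Γ) : Subgroup Γ where
  carrier := {g | Cn S (g • S)}
  one_mem' := by
    show Cn S ((1 : Γ) • S)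
    rw [one_smul]
    exact Relation.ReflTransGen.refl
  mul_mem' := by
    intro a b ha hb
    show Cn S ((a * b) • S)
    rw [mul_smul]
    exact Cn.trans ha (Cn.smul hb a)
  inv_mem' := by
    intro a ha
    show Cn S (a⁻¹ • S)
    have h := Cn.smul (show Cn S (a • S) from ha) a⁻¹
    rw [smul_smul, inv_mul_cancel, one_smul] at h
    exact h.symm

theorem mem_compStab {S : Sylow p Γ} {g : Γ} : g ∈ compStab S ↔ Cn S (g • S) := Iff.rfl

section main

variable [Finite Γ] [hp : Fact p.Prime]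

/-- Normalizers of `p`-subgroups meeting `S` nontrivially stabilize the component. -/
theorem normalizer_le_compStab (S : Sylow p Γ) {W : Subgroup Γ} (hW : IsPGroup p W)
    {w : Γ} (hwW : w ∈ W) (hwS : w ∈ (S : Subgroup Γ)) (hw : w ≠ 1) {g : Γ} (hg : g ∈ NN W) :
    g ∈ compStab S := by
  obtain ⟨S₂, hS₂⟩ := hW.exists_le_sylow
  have h1 : Adj S S₂ := ⟨w, hwS, hS₂ hwW, hw⟩
  have h2 : Adj S₂ (g • S₂) := by
    refine ⟨w, hS₂ hwW, ?_, hw⟩
    rw [mem_smul]
    apply hS₂
    have := conj_mem_of_mem_NN (inv_mem hg) hwW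
    simpa using this
  have h3 : Adj (g • S₂) (g • S) := h1.symm.smul g
  exact Relation.ReflTransGen.tail (Relation.ReflTransGen.tail (Relation.ReflTransGen.single h1) h2) h3

/-- Centralizers of nontrivial elements of `S` stabilize the component. -/
theorem centralizer_le_compStab (S : Sylow p Γ) {e : Γ} (he : e ∈ (S : Subgroup Γ)) (he1 : e ≠ 1)
    {g : Γ} (hg : g * e = e * g) : g ∈ compStab S := by
  refine Relation.ReflTransGen.single ⟨e, he, ?_, he1⟩
  rw [mem_smul]
  have h2 : g⁻¹ * e * g = e := by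
    rw [mul_assoc, ← hg]; group
  rwa [h2]

theorem isSylowChainConnected_of_cn (h : ∀ S T : Sylow p Γ, Cn S T) :
    IsSylowChainConnected p Γ := by
  have chain : ∀ S T : Sylow p Γ, Cn S T → ∃ (n : ℕ) (c : Fin (n + 1) → Sylow p Γ), c 0 = S ∧
      c (Fin.last n) = T ∧
      ∀ i : Fin n, c i.castSucc ≠ c i.succ ∧ (c i.castSucc : Subgroup Γ) ⊓ (c i.succ : Subgroup Γ) ≠ ⊥ := by
    intro S T hST
    induction hST with
    | refl => exact ⟨0, fun _ => S, rfl, rfl, fun i => i.elim0⟩
    | @tail T' T'' _ h2 ih =>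
      obtain ⟨n, c, h0, hl, hc⟩ := ih
      by_cases hne : T' = T''
      · exact ⟨n, c, h0, hl.trans hne, hc⟩
      · refine ⟨n + 1, Fin.snoc c T'', ?_, ?_, ?_⟩
        · have : (0 : Fin (n + 2)) = (0 : Fin (n + 1)).castSucc := rfl
          rw [this, Fin.snoc_castSucc, h0]
        · exact Fin.snoc_last _ _
        · intro i
          induction i using Fin.lastCases with
          | last =>
            rw [Fin.succ_last, Fin.snoc_castSucc, Fin.snoc_last, hl]
            exact ⟨hne, h2.inf_ne_bot⟩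
          | cast j =>
            rw [Fin.succ_castSucc, Fin.snoc_castSucc, Fin.snoc_castSucc]
            exact hc j
  intro S T
  by_cases hb : (S : Subgroup Γ) ⊓ (T : Subgroup Γ) = ⊥
  · obtain ⟨n, c, h0, hl, hc⟩ := chain S T (h S T)
    refine ⟨n, c, h0, hl, ?_, hc⟩
    intro i
    rw [hb]
    exact bot_le
  · by_cases he : S = T
    · subst he
      refine ⟨0, fun _ => S, rfl, rfl, fun _ => inf_le_left, fun i => i.elim0⟩
    · refine ⟨1, ![S, T], rfl, rfl, ?_, ?_⟩
      · intro i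
        fin_cases i
        · exact inf_le_left
        · exact inf_le_right
      · intro i
        fin_cases i
        exact ⟨he, hb⟩

/-- **Two normal subgroups** of order divisible by `p` meeting in a `p'`-group force
connectedness of the Sylow graph. -/
theorem chainConnected_of_normal_pair (Y₁ Y₂ : Subgroup Γ) [hn₁ : Y₁.Normal] [hn₂ : Y₂.Normal]
    (h₁ : p ∣ Nat.card Y₁) (h₂ : p ∣ Nat.card Y₂) (h₁₂ : ¬ p ∣ Nat.card ↥(Y₁ ⊓ Y₂)) :
    IsSylowChainConnected p Γ := by
  classical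
  have hpp : p.Prime := hp.out
  obtain ⟨a', ha'⟩ := exists_prime_orderOf_dvd_card' p h₁
  obtain ⟨a, haY₁⟩ := a'
  have hao : orderOf a = p := by rw [← ha', Subgroup.orderOf_mk]
  have haY₂ : a ∉ Y₂ := fun h => h₁₂ (by
    have h1 : orderOf (⟨a, Subgroup.mem_inf.mpr ⟨haY₁, h⟩⟩ : ↥(Y₁ ⊓ Y₂)) ∣ _ := orderOf_dvd_natCard _
    rwa [Subgroup.orderOf_mk, hao] at h1)
  have hA : IsPGroup p (Subgroup.zpowers a) := by
    apply IsPGroup.of_card (n := 1)
    rw [Nat.card_zpowers, hao, pow_one]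
  obtain ⟨S₁, hS₁⟩ := hA.exists_le_sylow
  have haS₁ : a ∈ (S₁ : Subgroup Γ) := hS₁ (Subgroup.mem_zpowers a)
  -- an element of order `p` in `Y₂`, moved into `S₁`
  obtain ⟨y', hy'⟩ := exists_prime_orderOf_dvd_card' p h₂
  obtain ⟨y₂, hyY₂⟩ := y'
  have hy₂o : orderOf y₂ = p := by rw [← hy', Subgroup.orderOf_mk]
  have hB : IsPGroup p (Subgroup.zpowers y₂) := by
    apply IsPGroup.of_card (n := 1)
    rw [Nat.card_zpowers, hy₂o, pow_one]
  obtain ⟨k, hk⟩ := Cfsg.Agent.Lib.SylowConjLemmas.exists_conj_mem S₁ _ hB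
  have hk1 := hk y₂ (Subgroup.mem_zpowers y₂)
  have hne1 : k * y₂ * k⁻¹ ≠ 1 := by
    intro h
    have : y₂ = 1 := by
      have h2 : y₂ = k⁻¹ * (k * y₂ * k⁻¹) * k := by group
      rw [h2, h]; simp
    rw [this, orderOf_one] at hy₂o
    exact hpp.one_lt.ne hy₂o
  let R : Subgroup ↥(S₁ : Subgroup Γ) := Y₂.subgroupOf (S₁ : Subgroup Γ)
  have hRn : R.Normal := inferInstance
  have hRne : R ≠ ⊥ := by
    intro h
    have : (⟨_, hk1⟩ : ↥(S₁ : Subgroup Γ)) ∈ R := by
      show k * y₂ * k⁻¹ ∈ Y₂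
      exact hn₂.conj_mem _ hyY₂ k
    rw [h, Subgroup.mem_bot] at this
    exact hne1 (congrArg Subtype.val this)
  obtain ⟨z, hzR, hz1, hzc⟩ := Cfsg.Agent.Lib.OddPGroup.exists_central_of_normal S₁.isPGroup' R hRn hRne
  have hzp : p ∣ Nat.card (Subgroup.zpowers z) := by
    rw [Nat.card_zpowers]
    obtain ⟨m, hm⟩ := (IsPGroup.iff_orderOf.mp S₁.isPGroup') z
    rw [hm]
    have hm0 : m ≠ 0 := by
      rintro rfl
      rw [pow_zero, orderOf_eq_one_iff] at hm
      exact hz1 hm
    exact dvd_pow_self p hm0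
  obtain ⟨⟨b', hb'z⟩, hb'o⟩ := exists_prime_orderOf_dvd_card' p hzp
  have hb'R : b' ∈ R := (Subgroup.zpowers_le.mpr hzR) hb'z
  have hb'c : b' ∈ Subgroup.center ↥(S₁ : Subgroup Γ) := (Subgroup.zpowers_le.mpr hzc) hb'z
  have hb'ord : orderOf b' = p := by
    have := hb'o
    rwa [Subgroup.orderOf_mk] at this
  set b : Γ := (b' : Γ) with hbdef
  have hbo : orderOf b = p := by rw [hbdef, Subgroup.orderOf_coe]; exact hb'ord
  have hbS₁ : b ∈ (S₁ : Subgroup Γ) := b'.2
  have hbY₂ : b ∈ Y₂ := hb'R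
  have hb1 : b ≠ 1 := by
    intro h
    rw [h, orderOf_one] at hbo
    exact hpp.one_lt.ne hbo
  have hab : a * b = b * a := by
    have := (Subgroup.mem_center_iff.mp hb'c) ⟨a, haS₁⟩
    exact congrArg Subtype.val this
  -- the elementary abelian subgroup
  let E : Subgroup Γ := Subgroup.closure {a, b}
  have hcomm : ∀ x ∈ ({a, b} : Set Γ), ∀ y ∈ ({a, b} : Set Γ), x * y = y * x := by
    rintro x (rfl | rfl) y (rfl | rfl)
    · rfl
    · exact hab
    · exact hab.symm
    · rfl
  have hEc : IsMulCommutative ↥E := Subgroup.isMulCommutative_closure hcomm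
  have hEcomm : ∀ x ∈ E, ∀ y ∈ E, x * y = y * x := by
    intro x hx y hy
    have := hEc.is_comm.comm ⟨x, hx⟩ ⟨y, hy⟩
    exact congrArg Subtype.val this
  have hEp : ∀ x ∈ E, x ^ p = 1 := by
    intro x hx
    induction hx using Subgroup.closure_induction with
    | mem x hx =>
      rcases hx with rfl | rfl
      · rw [← hao]; exact pow_orderOf_eq_one _
      · rw [← hbo]; exact pow_orderOf_eq_one _
    | one => simp
    | mul x y hx hy h1 h2 =>
      rw [(show Commute x y from hEcomm x hx y hy).mul_pow, h1, h2, one_mul]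
    | inv x _ h1 => rw [inv_pow, h1, inv_one]
  have haE : a ∈ E := Subgroup.subset_closure (by simp)
  have hbE : b ∈ E := Subgroup.subset_closure (by simp)
  have hES₁ : E ≤ (S₁ : Subgroup Γ) := by
    rw [Subgroup.closure_le]
    rintro x (rfl | rfl)
    · exact haS₁
    · exact hbS₁
  set M := compStab S₁ with hM
  set Z := Y₁ ⊓ Y₂ with hZ
  have hZn : Z.Normal := inferInstance
  have hEZ : E ≤ NN Z := by
    have : NN Z = ⊤ := Subgroup.normalizer_eq_top Z
    rw [this]; exact le_top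
  -- `E` is not small
  have hEcard : p < Nat.card E := by
    have hlt : Subgroup.zpowers b < E := by
      refine lt_of_le_of_ne (Subgroup.zpowers_le.mpr hbE) ?_
      intro he
      have : a ∈ Subgroup.zpowers b := by rw [he]; exact haE
      exact haY₂ ((Subgroup.zpowers_le.mpr hbY₂) this)
    have := Set.ncard_lt_ncard (by exact hlt) (Set.toFinite _)
    have h2 : Nat.card (Subgroup.zpowers b) = p := by rw [Nat.card_zpowers, hbo]
    rw [← h2]
    exact this
  have hZM : Z ≤ M := by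
    have heq := Cfsg.Agent.Lib.CoprimeHyper.eq_iSup_inf_centralizer E Z hEc hEp h₁₂ hEZ
    refine heq.le.trans (iSup_le ?_)
    rintro ⟨B, hBE, hBi⟩ x ⟨_, hx⟩
    have hBne : B ≠ ⊥ := by
      rintro rfl
      rw [Subgroup.relIndex_bot_left] at hBi
      omega
    obtain ⟨e, heB, he1⟩ := (Subgroup.bot_or_exists_ne_one B).resolve_left hBne
    exact centralizer_le_compStab S₁ (hES₁ (hBE heB)) he1 (Subgroup.mem_centralizer_iff.mp hx e heB).symm
  have hbM : b ∈ M :=
    normalizer_le_compStab S₁ (W := Subgroup.zpowers b)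
      (by apply IsPGroup.of_card (n := 1); rw [Nat.card_zpowers, hbo, pow_one])
      (Subgroup.mem_zpowers b) hbS₁ hb1 (Subgroup.le_normalizer (Subgroup.mem_zpowers b))
  have hY₁M : Y₁ ≤ M := by
    intro y hy
    let D : Subgroup Γ := Z ⊔ Subgroup.zpowers b
    have hbD : Subgroup.zpowers b ≤ D := le_sup_right
    have hDM : D ≤ M := sup_le hZM (Subgroup.zpowers_le.mpr hbM)
    have hbp : IsPGroup p (Subgroup.zpowers b) := by
      apply IsPGroup.of_card (n := 1)
      rw [Nat.card_zpowers, hbo, pow_one]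
    obtain ⟨T₀, hT₀, hbT₀⟩ := exists_isSyl_ge hbD hbp
    have hyD : y ∈ NN D := by
      apply mem_NN_of_forall
      have h2 : D ≤ D.comap (MulAut.conj y).toMonoidHom := by
        apply sup_le
        · intro x hx
          exact (le_sup_left : Z ≤ D) (hZn.conj_mem x hx y)
        · rw [Subgroup.zpowers_le]
          show y * b * y⁻¹ ∈ D
          have hc : y * b * y⁻¹ * b⁻¹ ∈ Z := by
            constructor
            · have h3 : b * y⁻¹ * b⁻¹ ∈ Y₁ := hn₁.conj_mem _ (Y₁.inv_mem hy) b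
              have : y * b * y⁻¹ * b⁻¹ = y * (b * y⁻¹ * b⁻¹) := by group
              rw [this]
              exact Y₁.mul_mem hy h3
            · exact Y₂.mul_mem (hn₂.conj_mem _ hbY₂ y) (Y₂.inv_mem hbY₂)
          have : y * b * y⁻¹ = (y * b * y⁻¹ * b⁻¹) * b := by group
          rw [this]
          exact D.mul_mem ((le_sup_left : Z ≤ D) hc) (hbD (Subgroup.mem_zpowers b))
      intro x hx
      exact h2 hx
    obtain ⟨d, hd, hdy⟩ := Cfsg.Agent.Lib.ControlSec.frattini hT₀ hyD
    have h1 : d⁻¹ * y ∈ M :=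
      normalizer_le_compStab S₁ hT₀.pgrp (hbT₀ (Subgroup.mem_zpowers b)) hbS₁ hb1 hdy
    have : y = d * (d⁻¹ * y) := by group
    rw [this]
    exact M.mul_mem (hDM hd) h1
  have htop : ∀ g : Γ, g ∈ M := by
    intro g
    have hN : ⊤ ≤ NN Y₁ := by
      have : NN Y₁ = ⊤ := Subgroup.normalizer_eq_top Y₁
      rw [this]
    have hT₁ := Cfsg.Agent.Lib.ControlSec.isSyl_inf (isSyl_of_sylow S₁) (le_top) hN
    have hg : g ∈ NN Y₁ := hN trivial
    obtain ⟨d, hd, hdg⟩ := Cfsg.Agent.Lib.ControlSec.frattini hT₁ hg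
    have h1 : d⁻¹ * g ∈ M :=
      normalizer_le_compStab S₁ hT₁.pgrp (show a ∈ (S₁ : Subgroup Γ) ⊓ Y₁ from ⟨haS₁, haY₁⟩) haS₁
        (by
          intro h
          rw [h, orderOf_one] at hao
          exact hpp.one_lt.ne hao) hdg
    have : g = d * (d⁻¹ * g) := by group
    rw [this]
    exact M.mul_mem (hY₁M hd) h1
  apply isSylowChainConnected_of_cn
  have hall : ∀ S : Sylow p Γ, Cn S₁ S := by
    intro S
    obtain ⟨g, rfl⟩ := MulAction.exists_smul_eq Γ S₁ S
    exact htop g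
  intro S T
  exact (hall S).symm.trans (hall T)

end main

end Cfsg.Agent.Lib.ChainConnNormal
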