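import Mathlib
import Cfsg.Agent.Lib.CharAvg
import Cfsg.Agent.Lib.CharValues

/-!
# Frobenius commutator formulas

In an irreducible representation of degree `n`, `∑ a b, ρ (a b a⁻¹ b⁻¹) = (|G|²/n²) id`.
-/

set_option autoImplicit false

namespace Cfsg.Agent.Lib.CharCommutator

open Cfsg Cfsg.Agent.Lib.CharBasic Cfsg.Agent.Lib.CharInd Cfsg.Agent.Lib.CharAvg
open scoped ComplexConjugate

universe u

variable {G : Type u} [Group G] [Fintype G]

section Rep

variable {V : Type*} [AddCommGroup V] [Module ℂ V] [FiniteDimensional ℂ V]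

/-- `opOf χ ρ = ∑ b, χ b • ρ b⁻¹` is the scalar `|G|/n`. -/
theorem sum_char_smul_inv {ρ : Representation ℂ G V} (hρ : ρ.IsIrreducible) :
    (∑ b : G, ρ.character b • ρ b⁻¹) =
      ((Nat.card G : ℂ) / (Module.finrank ℂ V : ℂ)) • LinearMap.id := by
  classical
  have hcl : IsClassFunction G ρ.character := fun g h => Representation.char_conj ρ g h
  obtain ⟨c, hc⟩ := schur_scalar hρ (opOf ρ.character ρ) (opOf_comm hcl ρ)
  have hV : (Module.finrank ℂ V : ℂ) ≠ 0 := by
    rw [isIrreducible_iff] at hρ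
    have := hρ.1
    exact_mod_cast (Module.finrank_pos (R := ℂ) (M := V)).ne'
  have htr := trace_opOf ρ.character ρ
  have hirr : IsIrrCharacter G ρ.character := isIrrCharacter_of_rep ρ hρ
  have h1 := classInner_irr_self hirr
  rw [classInner_eq_inv (IsIrrCharacter.isCharacter hirr)] at h1
  have hG : (Nat.card G : ℂ) ≠ 0 := natCard_ne_zero'
  have h2 : ∑ g : G, ρ.character g * ρ.character g⁻¹ = (Nat.card G : ℂ) := by
    field_simp at h1
    rw [h1]
  rw [h2, hc, map_smul, LinearMap.trace_id, smul_eq_mul] at htr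
  have h3 : c = (Nat.card G : ℂ) / (Module.finrank ℂ V : ℂ) := by
    field_simp
    exact htr
  have : (∑ b : G, ρ.character b • ρ b⁻¹) = opOf ρ.character ρ := rfl
  rw [this, hc, h3]

/-- The sum of all commutators acts as a scalar. -/
theorem sum_commutator {ρ : Representation ℂ G V} (hρ : ρ.IsIrreducible) :
    (∑ a : G, ∑ b : G, ρ (a * b * a⁻¹ * b⁻¹)) =
      (((Nat.card G : ℂ) / (Module.finrank ℂ V : ℂ)) ^ 2) • LinearMap.id := by
  classical
  rw [Finset.sum_comm]
  have h1 : ∀ b : G, ∑ a : G, ρ (a * b * a⁻¹ * b⁻¹) =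
      (((Nat.card G : ℂ) * ρ.character b) / (Module.finrank ℂ V : ℂ)) • ρ b⁻¹ := by
    intro b
    have h2 := sum_conj_eq_smul hρ b
    have h3 : ∑ a : G, ρ (a * b * a⁻¹ * b⁻¹) = (∑ a : G, ρ (a * b * a⁻¹)) ∘ₗ ρ b⁻¹ := by
      rw [← Module.End.mul_eq_comp, Finset.sum_mul]
      refine Finset.sum_congr rfl fun a _ => ?_
      rw [← map_mul]
    rw [h3, h2, LinearMap.smul_comp, LinearMap.id_comp]
  simp only [h1]
  have h4 : ∀ b : G, (((Nat.card G : ℂ) * ρ.character b) / (Module.finrank ℂ V : ℂ)) • ρ b⁻¹ =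
      ((Nat.card G : ℂ) / (Module.finrank ℂ V : ℂ)) • (ρ.character b • ρ b⁻¹) := by
    intro b
    rw [smul_smul]
    congr 1
    ring
  simp only [h4]
  rw [← Finset.smul_sum, sum_char_smul_inv hρ, smul_smul]
  congr 1
  ring

end Rep

section Irr

/-- Sum of the values of an irreducible character on products of two commutators. -/
theorem sum_two_commutators {χ : G → ℂ} (hχ : IsIrrCharacter G χ) :
    (χ 1) ^ 3 * ∑ a : G, ∑ b : G, ∑ c : G, ∑ d : G, χ ((a * b * a⁻¹ * b⁻¹) * (c * d * c⁻¹ * d⁻¹)) =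
      (Nat.card G : ℂ) ^ 4 := by
  classical
  obtain ⟨n, ρ, hρ, rfl⟩ := hχ
  have hn : (n : ℂ) ≠ 0 := by
    have h := irr_one_ne_zero (χ := ρ.character) ⟨n, ρ, hρ, rfl⟩
    rwa [char_one_eq_rep] at h
  have hfr : Module.finrank ℂ (Fin n → ℂ) = n := by simp
  have hT := sum_commutator hρ
  rw [hfr] at hT
  set T := ∑ a : G, ∑ b : G, ρ (a * b * a⁻¹ * b⁻¹) with hTdef
  have h1 : ∑ a : G, ∑ b : G, ∑ c : G, ∑ d : G, ρ.character ((a * b * a⁻¹ * b⁻¹) * (c * d * c⁻¹ * d⁻¹)) =
      LinearMap.trace ℂ _ (T ∘ₗ T) := by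
    have hTT : T ∘ₗ T = ∑ a : G, ∑ b : G, ∑ c : G, ∑ d : G, ρ ((a * b * a⁻¹ * b⁻¹) * (c * d * c⁻¹ * d⁻¹)) := by
      rw [← Module.End.mul_eq_comp, hTdef, Finset.sum_mul]
      refine Finset.sum_congr rfl fun a _ => ?_
      rw [Finset.sum_mul]
      refine Finset.sum_congr rfl fun b _ => ?_
      rw [Finset.mul_sum]
      refine Finset.sum_congr rfl fun c _ => ?_
      rw [Finset.mul_sum]
      refine Finset.sum_congr rfl fun d _ => ?_
      rw [← map_mul]
    rw [hTT]
    simp only [map_sum]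
    rfl
  rw [h1, hT, char_one_eq_rep]
  simp only [LinearMap.comp_smul, LinearMap.smul_comp, LinearMap.comp_id, map_smul, LinearMap.trace_id, hfr, smul_eq_mul]
  field_simp

end Irr

end Cfsg.Agent.Lib.CharCommutator
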