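import Mathlib
import Cfsg.Prelude.Def_Transfer
import Cfsg.Prelude.Def_Solvable
import Cfsg.Agent.Lib.PCore
import Cfsg.Agent.Lib.PResid
import Cfsg.Agent.Lib.LocalTools

/-!
# More tools: commutators of joins modulo a normal subgroup, normalizers in finite groups.
-/

set_option autoImplicit false
set_option linter.unusedSectionVars false

open Cfsg
open scoped commutatorElement

namespace Cfsg.Agent.Lib.LocalTools2

open Cfsg.Agent.Lib.PCore Cfsg.Agent.Lib.PResid Cfsg.Agent.Lib.LocalTools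

variable {G : Type*} [Group G]

/-- `[X ⊔ Z, X ⊔ Z] ≤ N` follows from `[X, X], [X, Z], [Z, Z] ≤ N`, for `N` normal. -/
theorem commutator_sup_le_of {N X Z : Subgroup G} [hN : N.Normal] (hXX : ⁅X, X⁆ ≤ N)
    (hXZ : ⁅X, Z⁆ ≤ N) (hZZ : ⁅Z, Z⁆ ≤ N) : ⁅X ⊔ Z, X ⊔ Z⁆ ≤ N := by
  set π : G →* G ⧸ N := QuotientGroup.mk' N with hπ
  have key : ∀ U V : Subgroup G, ⁅U, V⁆ ≤ N →
      U.map π ≤ Subgroup.centralizer ((V.map π : Subgroup (G ⧸ N)) : Set (G ⧸ N)) := by
    intro U V h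
    rw [← Subgroup.commutator_eq_bot_iff_le_centralizer, ← Subgroup.map_commutator,
      Subgroup.map_eq_bot_iff, QuotientGroup.ker_mk']
    exact h
  have h1 := key _ _ hXX
  have h2 := key _ _ hXZ
  have h3 := key Z X (by rw [Subgroup.commutator_comm]; exact hXZ)
  have h4 := key _ _ hZZ
  have hker : π.ker = N := QuotientGroup.ker_mk' N
  have h5 : ⁅(X ⊔ Z).map π, (X ⊔ Z).map π⁆ = ⊥ := by
    rw [Subgroup.commutator_eq_bot_iff_le_centralizer, Subgroup.map_sup]
    have h6 : X.map π ⊔ Z.map π ≤ Subgroup.centralizer ((X.map π : Subgroup (G ⧸ N)) : Set (G ⧸ N)) :=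
      sup_le h1 h3
    have h7 : X.map π ⊔ Z.map π ≤ Subgroup.centralizer ((Z.map π : Subgroup (G ⧸ N)) : Set (G ⧸ N)) :=
      sup_le h2 h4
    rw [Subgroup.le_centralizer_iff] at h6 h7
    rw [sup_le_iff]
    exact ⟨h6, h7⟩
  rw [← Subgroup.map_commutator, Subgroup.map_eq_bot_iff, hker] at h5
  exact h5

/-- In a finite group, `g B g⁻¹ ≤ B` gives `g ∈ N(B)`. -/
theorem mem_normalizer_of_conj_le [Finite G] {B : Subgroup G} {g : G}
    (h : ∀ x ∈ B, g * x * g⁻¹ ∈ B) : g ∈ Subgroup.normalizer (B : Set G) := by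
  have hle : B.map (MulAut.conj g).toMonoidHom ≤ B := by
    rintro _ ⟨x, hx, rfl⟩
    exact h x hx
  have hcard : Nat.card (B.map (MulAut.conj g).toMonoidHom) = Nat.card B :=
    Nat.card_congr (Subgroup.equivMapOfInjective _ _ (MulAut.conj g).injective).symm.toEquiv
  have heq : B.map (MulAut.conj g).toMonoidHom = B :=
    Subgroup.eq_of_le_of_card_ge hle (by rw [hcard])
  exact mem_normalizer_of_conj_map_eq heq

end Cfsg.Agent.Lib.LocalTools2
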