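import Mathlib
import Cfsg.Prelude.Def_Transfer
import Cfsg.Prelude.Def_Solvable
import Cfsg.Agent.Lib.PCore
import Cfsg.Agent.Lib.PResid
import Cfsg.Agent.Lib.LocalTools
import Cfsg.Agent.Lib.LocalTools2
import Cfsg.Agent.Lib.PClosed

/-!
# Subnormal `p`-subgroups normalize subnormal subgroups generated by `p'`-elements
-/

set_option autoImplicit false
set_option linter.unusedSectionVars false
set_option linter.style.haveILetI false

open Cfsg
open scoped commutatorElement

namespace Cfsg.Agent.Lib.SubnormalP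

open Cfsg.Agent.Lib.PCore Cfsg.Agent.Lib.PResid Cfsg.Agent.Lib.LocalTools
  Cfsg.Agent.Lib.LocalTools2 Cfsg.Agent.Lib.PClosed

universe u

/-- `P` normal `p`-group, `B` subnormal and generated by `p'`-elements, `PB = X`, then `B` normal. -/
theorem normal_of_sup_eq_top {p : ℕ} [Fact p.Prime] :
    ∀ (n : ℕ) {X : Type u} [Group X] [Finite X], Nat.card X = n → ∀ {P B : Subgroup X},
      P.Normal → IsPGroup p P → B.IsSubnormal →
      B ≤ Subgroup.closure {x : X | x ∈ B ∧ (orderOf x).Coprime p} → P ⊔ B = ⊤ → B.Normal := by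
  intro n
  induction n using Nat.strong_induction_on with
  | _ n ih =>
    intro X _ _ hn P B hP hPp hB hgen hsup
    by_cases htop : B = ⊤
    · rw [htop]; infer_instance
    obtain ⟨N, hNn, hBN, hNlt⟩ := hB.exists_normal_and_le_and_lt_top_of_ne htop
    have hcard : Nat.card N < n := by
      rw [← hn]
      have h1 : N ≠ ⊤ := ne_of_lt hNlt
      have h2 := Subgroup.card_le_card_group N
      refine lt_of_le_of_ne h2 ?_
      intro h3
      exact h1 (Subgroup.eq_top_of_card_eq N h3)
    have hPN : (P.subgroupOf N).Normal := hP.subgroupOf N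
    have hPNp : IsPGroup p (P.subgroupOf N) := hPp.comap_of_injective _ (Subgroup.subtype_injective _)
    have hBNs : (B.subgroupOf N).IsSubnormal := hB.subgroupOf
    have hgen' : B.subgroupOf N ≤
        Subgroup.closure {x : N | x ∈ B.subgroupOf N ∧ (orderOf x).Coprime p} := by
      intro y hy
      have h1 : (y : X) ∈ Subgroup.closure {x : X | x ∈ B ∧ (orderOf x).Coprime p} := hgen hy
      have h2 : Subgroup.closure {x : X | x ∈ B ∧ (orderOf x).Coprime p} =
          (Subgroup.closure {x : N | x ∈ B.subgroupOf N ∧ (orderOf x).Coprime p}).map N.subtype := by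
        rw [MonoidHom.map_closure]
        congr 1
        ext x
        constructor
        · rintro ⟨hx1, hx2⟩
          refine ⟨⟨x, hBN hx1⟩, ⟨hx1, ?_⟩, rfl⟩
          rwa [← Subgroup.orderOf_mk] at hx2
        · rintro ⟨z, ⟨hz1, hz2⟩, rfl⟩
          exact ⟨hz1, by rwa [Subgroup.coe_subtype, Subgroup.orderOf_coe]⟩
      rw [h2] at h1
      obtain ⟨z, hz, hzy⟩ := h1
      have : z = y := Subtype.ext hzy
      rwa [← this]
    have hsup' : P.subgroupOf N ⊔ B.subgroupOf N = ⊤ := by
      rw [eq_top_iff]
      intro y _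
      have hy : (y : X) ∈ P ⊔ B := by rw [hsup]; trivial
      obtain ⟨a, ha, b, hb, hab⟩ := Subgroup.mem_sup_of_normal_left.mp hy
      have haN : a ∈ N := by
        have : a = y * b⁻¹ := by rw [← hab]; group
        rw [this]
        exact N.mul_mem y.2 (N.inv_mem (hBN hb))
      have e : y = ⟨a, haN⟩ * ⟨b, hBN hb⟩ := Subtype.ext hab.symm
      rw [e]
      exact Subgroup.mul_mem _ (Subgroup.mem_sup_left ha) (Subgroup.mem_sup_right hb)
    have hBNn : (B.subgroupOf N).Normal := ih _ hcard rfl hPN hPNp hBNs hgen' hsup'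
    -- `B = O^p(N)`
    have hBeq : B = (pResidual p N).map N.subtype := by
      rw [map_pResidual_eq_closure]
      apply le_antisymm
      · apply hgen.trans
        apply Subgroup.closure_mono
        rintro x ⟨hx1, hx2⟩
        exact ⟨hBN hx1, hx2⟩
      · rw [Subgroup.closure_le]
        rintro x ⟨hx1, hx2⟩
        have hx3 : (⟨x, hx1⟩ : N) ∈ P.subgroupOf N ⊔ B.subgroupOf N := by rw [hsup']; trivial
        have hx4 : (orderOf (⟨x, hx1⟩ : N)).Coprime p := by rwa [Subgroup.orderOf_mk]
        exact mem_of_coprime_of_mem_sup hPNp hx4 hx3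
    rw [hBeq]
    exact normal_map_of_characteristic hNn (pResidual_characteristic p)

variable {G : Type u} [Group G] [Finite G] {p : ℕ} [Fact p.Prime]

theorem sup_subgroupOf_eq_top (A B : Subgroup G) :
    A.subgroupOf (A ⊔ B) ⊔ B.subgroupOf (A ⊔ B) = ⊤ := by
  apply Subgroup.map_injective (Subgroup.subtype_injective (A ⊔ B))
  rw [Subgroup.map_sup, Subgroup.subgroupOf_map_subtype, Subgroup.subgroupOf_map_subtype,
    ← MonoidHom.range_eq_map, Subgroup.range_subtype, inf_of_le_left le_sup_left,
    inf_of_le_left le_sup_right]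

/-- `O_p(G)` normalizes a subnormal subgroup generated by `p'`-elements. -/
theorem pCore_le_normalizer {B : Subgroup G} (hB : B.IsSubnormal)
    (hgen : B ≤ Subgroup.closure {x : G | x ∈ B ∧ (orderOf x).Coprime p}) :
    pCore p G ≤ Subgroup.normalizer (B : Set G) := by
  set X : Subgroup G := pCore p G ⊔ B with hX
  have hBX : B ≤ X := le_sup_right
  have h1 : (B.subgroupOf X).Normal := by
    apply normal_of_sup_eq_top (p := p) _ rfl (P := (pCore p G).subgroupOf X)
    · exact (pCore_normal p G).subgroupOf X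
    · exact (isPGroup_pCore p).comap_of_injective _ (Subgroup.subtype_injective _)
    · exact hB.subgroupOf
    · intro y hy
      have h1 : (y : G) ∈ Subgroup.closure {x : G | x ∈ B ∧ (orderOf x).Coprime p} := hgen hy
      have h2 : Subgroup.closure {x : G | x ∈ B ∧ (orderOf x).Coprime p} =
          (Subgroup.closure {x : X | x ∈ B.subgroupOf X ∧ (orderOf x).Coprime p}).map X.subtype := by
        rw [MonoidHom.map_closure]
        congr 1
        ext x
        constructor
        · rintro ⟨hx1, hx2⟩
          refine ⟨⟨x, hBX hx1⟩, ⟨hx1, ?_⟩, rfl⟩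
          rwa [← Subgroup.orderOf_mk] at hx2
        · rintro ⟨z, ⟨hz1, hz2⟩, rfl⟩
          exact ⟨hz1, by rwa [Subgroup.coe_subtype, Subgroup.orderOf_coe]⟩
      rw [h2] at h1
      obtain ⟨z, hz, hzy⟩ := h1
      have : z = y := Subtype.ext hzy
      rwa [← this]
    · exact sup_subgroupOf_eq_top _ _
  have h2 := (Subgroup.normal_subgroupOf_iff_le_normalizer hBX).mp h1
  exact le_sup_left.trans h2

/-- A subnormal `p`-subgroup normalizes a subnormal subgroup generated by `p'`-elements. -/
theorem le_normalizer_of_subnormal {A B : Subgroup G} (hA : A.IsSubnormal) (hAp : IsPGroup p A)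
    (hB : B.IsSubnormal)
    (hgen : B ≤ Subgroup.closure {x : G | x ∈ B ∧ (orderOf x).Coprime p}) :
    A ≤ Subgroup.normalizer (B : Set G) :=
  (le_pCore_of_isSubnormal hA hAp).trans (pCore_le_normalizer hB hgen)

/-- A coprime element of `A B`, where the `p`-group `A` normalizes `B`, lies in `B`. -/
theorem mem_of_coprime_of_mem_sup' {A B : Subgroup G} (hAB : A ≤ Subgroup.normalizer (B : Set G))
    (hA : IsPGroup p A) {x : G} (hx : x ∈ A ⊔ B) (hc : (orderOf x).Coprime p) : x ∈ B := by
  have hBX : B ≤ A ⊔ B := le_sup_right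
  have h1 : (B.subgroupOf (A ⊔ B)).Normal :=
    (Subgroup.normal_subgroupOf_iff_le_normalizer hBX).mpr (sup_le hAB Subgroup.le_normalizer)
  have hAp : IsPGroup p (A.subgroupOf (A ⊔ B)) :=
    hA.comap_of_injective _ (Subgroup.subtype_injective _)
  have h2 : (⟨x, hx⟩ : ↥(A ⊔ B)) ∈ A.subgroupOf (A ⊔ B) ⊔ B.subgroupOf (A ⊔ B) := by
    rw [sup_subgroupOf_eq_top]; trivial
  have hc' : (orderOf (⟨x, hx⟩ : ↥(A ⊔ B))).Coprime p := by rwa [Subgroup.orderOf_mk]
  exact mem_of_coprime_of_mem_sup hAp hc' h2

/-- `O^p(A B) = B` in this situation. -/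
theorem map_pResidual_sup_eq {A B : Subgroup G} (hAB : A ≤ Subgroup.normalizer (B : Set G))
    (hA : IsPGroup p A) (hgen : B ≤ Subgroup.closure {x : G | x ∈ B ∧ (orderOf x).Coprime p}) :
    (pResidual p ↥(A ⊔ B)).map (A ⊔ B).subtype = B := by
  rw [map_pResidual_eq_closure]
  apply le_antisymm
  · rw [Subgroup.closure_le]
    rintro x ⟨hx1, hx2⟩
    exact mem_of_coprime_of_mem_sup' hAB hA hx1 hx2
  · apply hgen.trans
    apply Subgroup.closure_mono
    rintro x ⟨hx1, hx2⟩
    exact ⟨Subgroup.mem_sup_right hx1, hx2⟩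

/-- The closure form of `B = O^p(B)`. -/
theorem le_closure_of_map_pResidual_eq {B : Subgroup G}
    (h : (pResidual p B).map B.subtype = B) :
    B ≤ Subgroup.closure {x : G | x ∈ B ∧ (orderOf x).Coprime p} := by
  rw [map_pResidual_eq_closure] at h
  exact h.ge

/-- `O^p(K)` as a subgroup of `G` is generated by its `p'`-elements. -/
theorem map_pResidual_le_closure (K : Subgroup G) :
    (pResidual p K).map K.subtype ≤
      Subgroup.closure {x : G | x ∈ (pResidual p K).map K.subtype ∧ (orderOf x).Coprime p} := by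
  conv_lhs => rw [map_pResidual_eq_closure]
  apply Subgroup.closure_mono
  rintro x ⟨hx1, hx2⟩
  refine ⟨?_, hx2⟩
  rw [map_pResidual_eq_closure]
  exact Subgroup.subset_closure ⟨hx1, hx2⟩

/-- A characteristic subgroup of a subnormal subgroup is subnormal. -/
theorem isSubnormal_map_of_characteristic {K : Subgroup G} (hK : K.IsSubnormal) {C : Subgroup K}
    (hC : C.Characteristic) : (C.map K.subtype).IsSubnormal := by
  have h1 : C.Normal := inferInstance
  have h2 : C.IsSubnormal := h1.isSubnormal
  exact h2.trans' hK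

end Cfsg.Agent.Lib.SubnormalP
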