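import Mathlib
import Cfsg.Prelude.Def_LocalStructure
import Cfsg.Agent.Lib.PCore
import Cfsg.Agent.Lib.PResid
import Cfsg.Agent.Lib.LocalTools

/-!
# Weakly closed subgroups `Cfsg.IsWeaklyClosedSubgroup`
-/

set_option autoImplicit false

open Cfsg
open scoped commutatorElement

namespace Cfsg.Agent.Lib.WeakClosed

open Cfsg.Agent.Lib.PCore Cfsg.Agent.Lib.PResid Cfsg.Agent.Lib.LocalTools

variable {H : Type*} [Group H] [Finite H] {p : ℕ} [Fact p.Prime]

/-- `Q` weakly closed: weakly closed in every Sylow subgroup containing it. -/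
theorem wc_of_sylow {Q : Subgroup H} (hwc : IsWeaklyClosedSubgroup p Q) (T' : Sylow p H)
    (hQ : Q ≤ (T' : Subgroup H)) : IsWeaklyClosed Q (T' : Subgroup H) := by
  obtain ⟨T, hQT, hT⟩ := hwc
  obtain ⟨h, hh⟩ := exists_conj_sylow T T'
  have h1 : Q.map (MulAut.conj h⁻¹).toMonoidHom ≤ (T : Subgroup H) := by
    rintro _ ⟨x, hx, rfl⟩
    have := hQ hx
    rw [hh, mem_conj_map] at this
    simpa using this
  have h2 := hT h⁻¹ h1
  have h3 : h ∈ Subgroup.normalizer (Q : Set H) := by
    have : h⁻¹ ∈ Subgroup.normalizer (Q : Set H) := mem_normalizer_of_conj_map_eq h2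
    simpa using Subgroup.inv_mem _ this
  refine ⟨hQ, ?_⟩
  intro g hg
  have h4 : Q.map (MulAut.conj (h⁻¹ * g)).toMonoidHom ≤ (T : Subgroup H) := by
    rw [conj_map_mul]
    rintro _ ⟨x, hx, rfl⟩
    have := hg hx
    rw [hh, mem_conj_map] at this
    simpa using this
  have h5 := hT _ h4
  have h6 : h⁻¹ * g ∈ Subgroup.normalizer (Q : Set H) := mem_normalizer_of_conj_map_eq h5
  have h7 : g ∈ Subgroup.normalizer (Q : Set H) := by
    have := Subgroup.mul_mem _ h3 h6
    simpa using this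
  exact conj_map_eq_of_mem_normalizer h7

/-- Conjugates of `Q` inside a `p`-group containing `Q` are equal to `Q`. -/
theorem eq_of_conj_le {Q R : Subgroup H} (hwc : IsWeaklyClosedSubgroup p Q) (hR : IsPGroup p R)
    (hQR : Q ≤ R) (g : H) (hg : Q.map (MulAut.conj g).toMonoidHom ≤ R) :
    Q.map (MulAut.conj g).toMonoidHom = Q := by
  obtain ⟨T, hT⟩ := hR.exists_le_sylow
  exact (wc_of_sylow hwc T (hQR.trans hT)).2 g (hg.trans hT)

/-- `N(R) ≤ N(Q)` for a `p`-group `R ≥ Q`. -/
theorem normalizer_le {Q R : Subgroup H} (hwc : IsWeaklyClosedSubgroup p Q) (hR : IsPGroup p R)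
    (hQR : Q ≤ R) : Subgroup.normalizer (R : Set H) ≤ Subgroup.normalizer (Q : Set H) := by
  intro g hg
  apply mem_normalizer_of_conj_map_eq
  apply eq_of_conj_le hwc hR hQR
  have := conj_map_le_conj_map hQR g
  rwa [conj_map_eq_of_mem_normalizer hg] at this

/-- A `p`-group containing `Q` normalizes `Q`. -/
theorem le_normalizer {Q R : Subgroup H} (hwc : IsWeaklyClosedSubgroup p Q) (hR : IsPGroup p R)
    (hQR : Q ≤ R) : R ≤ Subgroup.normalizer (Q : Set H) :=
  Subgroup.le_normalizer.trans (normalizer_le hwc hR hQR)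

/-- `H`-conjugates of `Q` inside `K` are `K`-conjugates. -/
theorem exists_conj_eq {Q K : Subgroup H} (hQp : IsPGroup p Q) (hwc : IsWeaklyClosedSubgroup p Q)
    (hQK : Q ≤ K) (g : H) (hg : Q.map (MulAut.conj g).toMonoidHom ≤ K) :
    ∃ k ∈ K, Q.map (MulAut.conj g).toMonoidHom = Q.map (MulAut.conj k).toMonoidHom := by
  have h1 : IsPGroup p (Q.subgroupOf K) := hQp.comap_of_injective _ (Subgroup.subtype_injective _)
  obtain ⟨TK, hTK⟩ := h1.exists_le_sylow
  set R : Subgroup H := (TK : Subgroup K).map K.subtype with hRdef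
  have hRp : IsPGroup p R := TK.isPGroup'.map _
  have hQR : Q ≤ R := fun x hx => ⟨⟨x, hQK hx⟩, hTK hx, rfl⟩
  have h2 : IsPGroup p ((Q.map (MulAut.conj g).toMonoidHom).subgroupOf K) :=
    (isPGroup_conj_map hQp g).comap_of_injective _ (Subgroup.subtype_injective _)
  obtain ⟨T1, hT1⟩ := h2.exists_le_sylow
  obtain ⟨k, hk⟩ := exists_conj_sylow TK T1
  refine ⟨k, k.2, ?_⟩
  have h3 : Q.map (MulAut.conj ((k : H)⁻¹ * g)).toMonoidHom ≤ R := by
    rw [conj_map_mul]
    rintro _ ⟨x, hx, rfl⟩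
    have hxK := hg hx
    have h4 : (⟨x, hxK⟩ : K) ∈ (T1 : Subgroup K) := hT1 hx
    rw [hk, mem_conj_map] at h4
    refine ⟨_, h4, ?_⟩
    simp
  have h5 := eq_of_conj_le hwc hRp hQR _ h3
  rw [conj_map_mul] at h5
  calc Q.map (MulAut.conj g).toMonoidHom
      = ((Q.map (MulAut.conj g).toMonoidHom).map (MulAut.conj (k : H)⁻¹).toMonoidHom).map
          (MulAut.conj (k : H)).toMonoidHom := (conj_map_conj_inv _ _).symm
    _ = Q.map (MulAut.conj (k : H)).toMonoidHom := by rw [h5]

/-- Uniqueness of members of a conjugation-invariant family of subgroups inside `p`-groups, when no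
two distinct members normalize each other. -/
theorem unique_in_pgroup (C : Set (Subgroup H))
    (hconj : ∀ A ∈ C, ∀ g : H, A.map (MulAut.conj g).toMonoidHom ∈ C)
    (hcard : ∀ A ∈ C, ∀ B ∈ C, Nat.card A = Nat.card B)
    (hmut : ∀ A ∈ C, ∀ B ∈ C, A ≤ Subgroup.normalizer (B : Set H) →
      B ≤ Subgroup.normalizer (A : Set H) → A = B) :
    ∀ R : Subgroup H, IsPGroup p R → ∀ A ∈ C, ∀ B ∈ C, A ≤ R → B ≤ R → A = B := by
  intro R
  induction hn : Nat.card R using Nat.strong_induction_on generalizing R with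
  | _ n ih =>
    intro hR A hA B hB hAR hBR
    -- auxiliary statement: for members `A, B ≤ R` with `A ≠ R`, `B` normalizes `A`
    have key : ∀ A ∈ C, ∀ B ∈ C, A ≤ R → B ≤ R → A ≠ R → B ≤ Subgroup.normalizer (A : Set H) := by
      intro A hA B hB hAR hBR hne
      obtain ⟨M, hAM, hMR, hRM⟩ := exists_le_lt_normalized hR (lt_of_le_of_ne hAR hne)
      have hMp : IsPGroup p M := hR.to_le hMR.le
      have hcardM : Nat.card M < n := by
        rw [← hn]
        exact Set.ncard_lt_ncard hMR (Set.toFinite _)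
      intro b hb
      apply mem_normalizer_of_conj_map_eq
      apply ih _ hcardM M rfl hMp _ (hconj A hA b) _ hA
      · have h1 := conj_map_le_conj_map hAM b
        rwa [conj_map_eq_of_mem_normalizer (hRM (hBR hb))] at h1
      · exact hAM
    by_cases hAB : A = R
    · subst hAB
      have hcardAB := hcard _ hA _ hB
      exact (Subgroup.eq_of_le_of_card_ge hBR (le_of_eq hcardAB)).symm
    by_cases hBA : B = R
    · subst hBA
      have hcardAB := hcard _ hA _ hB
      exact Subgroup.eq_of_le_of_card_ge hAR (le_of_eq hcardAB.symm)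
    exact hmut A hA B hB (key B hB A hA hBR hAR hBA) (key A hA B hB hAR hBR hAB)

theorem map_conj_le_normalizer {A B : Subgroup H} (h : A ≤ Subgroup.normalizer (B : Set H)) (g : H) :
    A.map (MulAut.conj g).toMonoidHom ≤
      Subgroup.normalizer ((B.map (MulAut.conj g).toMonoidHom : Subgroup H) : Set H) :=
  (Subgroup.map_mono h).trans (Subgroup.le_normalizer_map _)

/-- Characterisation (1) of weakly closed subgroups. -/
theorem wc_iff_commutator {Q : Subgroup H} (hQp : IsPGroup p Q) :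
    IsWeaklyClosedSubgroup p Q ↔ ∀ g : H, ⁅Q, Q.map (MulAut.conj g).toMonoidHom⁆ ≤
      Q ⊓ Q.map (MulAut.conj g).toMonoidHom → Q.map (MulAut.conj g).toMonoidHom = Q := by
  constructor
  · intro hwc g hg
    have h1 : Q.map (MulAut.conj g).toMonoidHom ≤ Subgroup.normalizer (Q : Set H) := by
      rw [Subgroup.le_normalizer_iff_commutator_le_left]
      exact hg.trans inf_le_left
    have hsup : IsPGroup p (Q.map (MulAut.conj g).toMonoidHom ⊔ Q : Subgroup H) :=
      IsPGroup.to_sup_of_normal_right' (isPGroup_conj_map hQp g) hQp h1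
    exact eq_of_conj_le hwc hsup le_sup_right g le_sup_left
  · intro hyp
    obtain ⟨T, hT⟩ := hQp.exists_le_sylow
    refine ⟨T, hT, fun g hg => ?_⟩
    let C : Set (Subgroup H) := {A | ∃ a : H, A = Q.map (MulAut.conj a).toMonoidHom}
    have hQC : Q ∈ C := ⟨1, (conj_map_one Q).symm⟩
    have huniq := unique_in_pgroup (p := p) C ?_ ?_ ?_ (T : Subgroup H) T.isPGroup' _ ⟨g, rfl⟩ Q hQC
      hg hT
    · exact huniq
    · rintro _ ⟨a, rfl⟩ g
      exact ⟨g * a, (conj_map_mul Q g a).symm⟩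
    · rintro _ ⟨a, rfl⟩ _ ⟨b, rfl⟩
      rw [Subgroup.card_map_of_injective (MulAut.conj a).injective,
        Subgroup.card_map_of_injective (MulAut.conj b).injective]
    · rintro _ ⟨a, rfl⟩ _ ⟨b, rfl⟩ h1 h2
      -- conjugate by `a⁻¹`
      set c := a⁻¹ * b with hc
      have h3 : Q.map (MulAut.conj c).toMonoidHom = Q := by
        apply hyp
        have h4 : Q ≤ Subgroup.normalizer ((Q.map (MulAut.conj c).toMonoidHom : Subgroup H) : Set H) := by
          have := map_conj_le_normalizer h1 a⁻¹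
          rwa [conj_map_inv_conj, ← conj_map_mul, ← hc] at this
        have h7 : Q.map (MulAut.conj c).toMonoidHom ≤ Subgroup.normalizer (Q : Set H) := by
          have := map_conj_le_normalizer h2 a⁻¹
          rwa [conj_map_inv_conj, ← conj_map_mul, ← hc] at this
        rw [Subgroup.commutator_le]
        intro x hx y hy
        refine ⟨?_, ?_⟩
        · have h8 := h7 hy
          rw [Subgroup.mem_normalizer_iff] at h8
          have h9 := (h8 x⁻¹).mp (Q.inv_mem hx)
          have : ⁅x, y⁆ = x * (y * x⁻¹ * y⁻¹) := by rw [commutatorElement_def]; group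
          rw [this]
          exact Q.mul_mem hx h9
        · have h8 := h4 hx
          rw [Subgroup.mem_normalizer_iff] at h8
          have h9 := (h8 y).mp hy
          have : ⁅x, y⁆ = (x * y * x⁻¹) * y⁻¹ := by rw [commutatorElement_def]
          rw [this]
          exact Subgroup.mul_mem _ h9 (Subgroup.inv_mem _ hy)
      have hb : b = a * c := by rw [hc]; group
      rw [hb, conj_map_mul, h3]

/-- Characterisation (2) of weakly closed subgroups. -/
theorem wc_iff_normalizer {Q : Subgroup H} (hQp : IsPGroup p Q) :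
    IsWeaklyClosedSubgroup p Q ↔ ∀ R : Subgroup H, IsPGroup p R → Q ≤ R →
      Subgroup.normalizer (R : Set H) ≤ Subgroup.normalizer (Q : Set H) := by
  constructor
  · intro hwc R hR hQR
    exact normalizer_le hwc hR hQR
  · intro hyp
    obtain ⟨T, hT⟩ := hQp.exists_le_sylow
    refine ⟨T, hT, fun g hg => ?_⟩
    have hTQ : (T : Subgroup H) ≤ Subgroup.normalizer (Q : Set H) :=
      Subgroup.le_normalizer.trans (hyp _ T.isPGroup' hT)
    set Q1 := Q.map (MulAut.conj g).toMonoidHom with hQ1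
    -- the conjugate Sylow `T1`
    let T1 : Sylow p H := g • T
    have hT1 : (T1 : Subgroup H) = (T : Subgroup H).map (MulAut.conj g).toMonoidHom := rfl
    have hT1Q : (T1 : Subgroup H) ≤ Subgroup.normalizer (Q1 : Set H) := by
      rw [hT1]
      rintro _ ⟨t, ht, rfl⟩
      apply mem_normalizer_of_conj_map_eq
      have h1 : MulAut.conj g t = g * t * g⁻¹ := rfl
      have h2 : (MulAut.conj g).toMonoidHom t = g * t * g⁻¹ := rfl
      rw [h2, hQ1, ← conj_map_mul]
      have e : g * t * g⁻¹ * g = g * t := by group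
      rw [e, conj_map_mul, conj_map_eq_of_mem_normalizer (hTQ ht)]
    have hS : IsPGroup p ((T : Subgroup H) ⊓ Subgroup.normalizer (Q1 : Set H) : Subgroup H) :=
      T.isPGroup'.to_le inf_le_left
    obtain ⟨n, hn, hnS⟩ := exists_conj_le_of_le T1 hT1Q hS inf_le_right
    -- `g' = n * g`
    set g' := n * g with hg'
    have hQg' : Q.map (MulAut.conj g').toMonoidHom = Q1 := by
      rw [hg', conj_map_mul, conj_map_eq_of_mem_normalizer hn]
    have hTg' : (T : Subgroup H) ⊓ Subgroup.normalizer (Q1 : Set H) ≤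
        (T : Subgroup H).map (MulAut.conj g').toMonoidHom := by
      intro x hx
      have h1 := hnS ⟨x, hx, rfl⟩
      rw [hT1] at h1
      rw [hg', conj_map_mul]
      have h2 := conj_mem_conj_map (g := n) h1
      have e : n * ((MulAut.conj n⁻¹).toMonoidHom x) * n⁻¹ = x := by simp [mul_assoc]
      rwa [e] at h2
    set D : Subgroup H := (T : Subgroup H) ⊓ (T : Subgroup H).map (MulAut.conj g').toMonoidHom
      with hD
    have hDp : IsPGroup p D := T.isPGroup'.to_le inf_le_left
    have hQ1T : Q1 ≤ (T : Subgroup H) := hg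
    have hQ1N : Q1 ≤ Subgroup.normalizer (Q1 : Set H) := Subgroup.le_normalizer
    have hQ1D : Q1 ≤ D := le_inf hQ1T ((le_inf hQ1T hQ1N).trans hTg')
    -- hypothesis conjugated to `Q1`
    have hyp1 : Subgroup.normalizer (D : Set H) ≤ Subgroup.normalizer (Q1 : Set H) := by
      intro x hx
      have h1 : Q ≤ D.map (MulAut.conj g'⁻¹).toMonoidHom := by
        intro y hy
        have h2 : g' * y * g'⁻¹ ∈ D := hQ1D (by rw [← hQg']; exact conj_mem_conj_map hy)
        refine ⟨_, h2, ?_⟩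
        simp [mul_assoc]
      have h3 := hyp _ (isPGroup_conj_map hDp g'⁻¹) h1
      have h4 : g'⁻¹ * x * g' ∈ Subgroup.normalizer
          ((D.map (MulAut.conj g'⁻¹).toMonoidHom : Subgroup H) : Set H) := by
        apply mem_normalizer_of_conj_map_eq
        rw [← conj_map_mul]
        have e : g'⁻¹ * x * g' * g'⁻¹ = g'⁻¹ * x := by group
        rw [e, conj_map_mul, conj_map_eq_of_mem_normalizer hx]
      have h5 := h3 h4
      have h6 := conj_map_eq_of_mem_normalizer h5
      apply mem_normalizer_of_conj_map_eq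
      rw [← hQg', ← conj_map_mul]
      have e : x * g' = g' * (g'⁻¹ * x * g') := by group
      rw [e, conj_map_mul, h6]
    -- so `D = T`
    have hDT : D = (T : Subgroup H) := by
      by_contra hne
      have hlt : D < (T : Subgroup H) := lt_of_le_of_ne inf_le_left hne
      have h1 := lt_inf_normalizer T.isPGroup' hlt
      have h2 : (T : Subgroup H) ⊓ Subgroup.normalizer (D : Set H) ≤ D := by
        intro x hx
        have h3 : x ∈ (T : Subgroup H) ⊓ Subgroup.normalizer (Q1 : Set H) := ⟨hx.1, hyp1 hx.2⟩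
        exact ⟨hx.1, hTg' h3⟩
      exact absurd h1 (not_lt_of_ge h2)
    have hTeq : (T : Subgroup H).map (MulAut.conj g').toMonoidHom = (T : Subgroup H) := by
      have h1 : (T : Subgroup H) ≤ (T : Subgroup H).map (MulAut.conj g').toMonoidHom := by
        rw [← hDT]
        exact inf_le_right.trans (le_of_eq (by rw [hDT]))
      refine (Subgroup.eq_of_le_of_card_ge h1 ?_).symm
      rw [Subgroup.card_map_of_injective (MulAut.conj g').injective]
    have hg'N := hyp _ T.isPGroup' hT (mem_normalizer_of_conj_map_eq hTeq)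
    rw [← hQg']
    exact conj_map_eq_of_mem_normalizer hg'N

/-- `Q` is weakly closed in subgroups containing it. -/
theorem wc_subgroupOf {Q K : Subgroup H} (hQp : IsPGroup p Q) (hwc : IsWeaklyClosedSubgroup p Q)
    (hQK : Q ≤ K) : IsWeaklyClosedSubgroup p (Q.subgroupOf K) := by
  have h1 : IsPGroup p (Q.subgroupOf K) := hQp.comap_of_injective _ (Subgroup.subtype_injective _)
  obtain ⟨TK, hTK⟩ := h1.exists_le_sylow
  refine ⟨TK, hTK, fun k hk => ?_⟩
  have hRp : IsPGroup p ((TK : Subgroup K).map K.subtype) := TK.isPGroup'.map _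
  have hQR : Q ≤ (TK : Subgroup K).map K.subtype := fun x hx => ⟨⟨x, hQK hx⟩, hTK hx, rfl⟩
  have h2 : Q.map (MulAut.conj (k : H)).toMonoidHom ≤ (TK : Subgroup K).map K.subtype := by
    rintro _ ⟨x, hx, rfl⟩
    have hxK : x ∈ K := hQK hx
    have h3 : k * ⟨x, hxK⟩ * k⁻¹ ∈ (TK : Subgroup K) :=
      hk ⟨⟨x, hxK⟩, hx, rfl⟩
    exact ⟨_, h3, rfl⟩
  have h4 := eq_of_conj_le hwc hRp hQR _ h2
  have h5 : (k : H) ∈ Subgroup.normalizer (Q : Set H) := mem_normalizer_of_conj_map_eq h4
  apply conj_map_eq_of_mem_normalizer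
  rw [Subgroup.mem_normalizer_iff] at h5 ⊢
  intro x
  exact h5 x

/-- A Sylow subgroup of `K ≥ Q` containing `Q` normalizes `Q`. -/
theorem exists_sylow_le_normalizer {Q K : Subgroup H} (hQp : IsPGroup p Q)
    (hwc : IsWeaklyClosedSubgroup p Q) (hQK : Q ≤ K) :
    ∃ T : Sylow p K, (T : Subgroup K) ≤ (Subgroup.normalizer (Q : Set H)).subgroupOf K := by
  have h1 : IsPGroup p (Q.subgroupOf K) := hQp.comap_of_injective _ (Subgroup.subtype_injective _)
  obtain ⟨TK, hTK⟩ := h1.exists_le_sylow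
  refine ⟨TK, fun x hx => ?_⟩
  have hRp : IsPGroup p ((TK : Subgroup K).map K.subtype) := TK.isPGroup'.map _
  have hQR : Q ≤ (TK : Subgroup K).map K.subtype := fun y hy => ⟨⟨y, hQK hy⟩, hTK hy, rfl⟩
  exact le_normalizer hwc hRp hQR ⟨x, hx, rfl⟩

/-- `N = N_N(Q) O^p(N)`. -/
theorem inf_normalizer_sup_pResidual {Q : Subgroup H} (hQp : IsPGroup p Q)
    (hwc : IsWeaklyClosedSubgroup p Q) (N' : Subgroup H) [N'.Normal] :
    (N' ⊓ Subgroup.normalizer (Q : Set H)) ⊔ (pResidual p N').map N'.subtype = N' := by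
  apply le_antisymm
  · exact sup_le inf_le_left (Subgroup.map_subtype_le _)
  · intro x hx
    obtain ⟨T, hT⟩ := hQp.exists_le_sylow
    obtain ⟨S, hS⟩ := exists_sylow_inf_of_normal T N'
    obtain ⟨t, ht, n, hn, htn⟩ := exists_sylow_mul_pResidual S ⟨x, hx⟩
    have hx' : x = (t : H) * (n : H) := by
      have := congrArg Subtype.val htn
      simpa using this
    rw [hx']
    refine Subgroup.mul_mem _ (Subgroup.mem_sup_left ?_) (Subgroup.mem_sup_right ⟨n, hn, rfl⟩)
    have h1 : (t : H) ∈ (T : Subgroup H) ⊓ N' := by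
      rw [← hS]; exact ⟨t, ht, rfl⟩
    exact ⟨h1.2, le_normalizer hwc T.isPGroup' hT h1.1⟩

/-- `QN/N` is weakly closed in `H/N`. -/
theorem wc_quotient {Q : Subgroup H} (hQp : IsPGroup p Q) (hwc : IsWeaklyClosedSubgroup p Q)
    (N' : Subgroup H) [N'.Normal] :
    IsWeaklyClosedSubgroup p (Q.map (QuotientGroup.mk' N')) := by
  obtain ⟨T, hT⟩ := hQp.exists_le_sylow
  have hsurj : Function.Surjective (QuotientGroup.mk' N') := QuotientGroup.mk'_surjective N'
  refine ⟨T.mapSurjective hsurj, Subgroup.map_mono hT, fun g hg => ?_⟩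
  obtain ⟨g, rfl⟩ := hsurj g
  -- the conjugate `Q^g` lies in `T N'`
  have hQT : Q ≤ (T : Subgroup H) ⊔ N' := hT.trans le_sup_left
  have hconj : ∀ (a : H), (Q.map (QuotientGroup.mk' N')).map (MulAut.conj (QuotientGroup.mk' N' a)).toMonoidHom =
      (Q.map (MulAut.conj a).toMonoidHom).map (QuotientGroup.mk' N') := by
    intro a
    ext y
    constructor
    · rintro ⟨_, ⟨x, hx, rfl⟩, rfl⟩
      exact ⟨_, ⟨x, hx, rfl⟩, by simp⟩
    · rintro ⟨_, ⟨x, hx, rfl⟩, rfl⟩
      exact ⟨_, ⟨x, hx, rfl⟩, by simp⟩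
  rw [hconj] at hg ⊢
  have hle : Q.map (MulAut.conj g).toMonoidHom ≤ (T : Subgroup H) ⊔ N' := by
    intro x hx
    have h1 : QuotientGroup.mk' N' x ∈ (T.mapSurjective hsurj : Subgroup (H ⧸ N')) := hg ⟨x, hx, rfl⟩
    obtain ⟨t, ht, h2⟩ := h1
    have h3 : t⁻¹ * x ∈ N' := by
      rw [← QuotientGroup.eq_one_iff, QuotientGroup.mk_mul, QuotientGroup.mk_inv]
      have h4 : (QuotientGroup.mk' N' t : H ⧸ N') = QuotientGroup.mk' N' x := h2
      have h5 : ((t : H) : H ⧸ N') = ((x : H) : H ⧸ N') := h4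
      rw [h5, inv_mul_cancel]
    have h6 : x = t * (t⁻¹ * x) := by group
    rw [h6]
    exact Subgroup.mul_mem _ (Subgroup.mem_sup_left ht) (Subgroup.mem_sup_right h3)
  obtain ⟨k, hk, hgk⟩ := exists_conj_eq hQp hwc hQT g hle
  obtain ⟨n, hn, t, ht, rfl⟩ := Subgroup.mem_sup_of_normal_left.mp (by rwa [sup_comm] at hk)
  -- `Q^(n t) = Q^n`
  have h7 : Q.map (MulAut.conj (n * t)).toMonoidHom = Q.map (MulAut.conj n).toMonoidHom := by
    rw [conj_map_mul, conj_map_eq_of_mem_normalizer (le_normalizer hwc T.isPGroup' hT ht)]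
  rw [hgk, h7]
  ext y
  constructor
  · rintro ⟨_, ⟨x, hx, rfl⟩, rfl⟩
    refine ⟨x, hx, ?_⟩
    have h8 : ((n : H) : H ⧸ N') = 1 := (QuotientGroup.eq_one_iff n).mpr hn
    simp [h8]
  · rintro ⟨x, hx, rfl⟩
    refine ⟨_, ⟨x, hx, rfl⟩, ?_⟩
    have h8 : ((n : H) : H ⧸ N') = 1 := (QuotientGroup.eq_one_iff n).mpr hn
    simp [h8]

/-- The weak closure of `Q` in `K` is generated by the `K`-conjugates of `Q`. -/
theorem weakClosure_eq_iSup {Q K : Subgroup H} (hQp : IsPGroup p Q)
    (hwc : IsWeaklyClosedSubgroup p Q) (hQK : Q ≤ K) :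
    weakClosure Q K = ⨆ k : K, Q.map (MulAut.conj (k : H)).toMonoidHom := by
  apply le_antisymm
  · refine iSup_le fun g => ?_
    obtain ⟨k, hk, hgk⟩ := exists_conj_eq hQp hwc hQK g.1 g.2
    rw [hgk]
    exact le_iSup (fun k : K => Q.map (MulAut.conj (k : H)).toMonoidHom) ⟨k, hk⟩
  · refine iSup_le fun k => ?_
    have hk : Q.map (MulAut.conj (k : H)).toMonoidHom ≤ K := by
      rintro _ ⟨x, hx, rfl⟩
      exact K.mul_mem (K.mul_mem k.2 (hQK hx)) (K.inv_mem k.2)
    exact le_iSup (fun g : {g : H // Q.map (MulAut.conj g).toMonoidHom ≤ K} =>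
      Q.map (MulAut.conj (g : H)).toMonoidHom) ⟨(k : H), hk⟩

/-- All conjugates of a weakly closed `Q` lie in any subnormal subgroup containing `Q`. -/
theorem conj_le_of_isSubnormal {Q : Subgroup H} (hQp : IsPGroup p Q)
    (hwc : IsWeaklyClosedSubgroup p Q) {X : Subgroup H} (hX : X.IsSubnormal) (hQX : Q ≤ X) (g : H) :
    Q.map (MulAut.conj g).toMonoidHom ≤ X := by
  induction hX with
  | top => exact le_top
  | step A K h_le hSubn hN ih =>
    have h1 := ih (hQX.trans h_le)
    obtain ⟨k, hk, hgk⟩ := exists_conj_eq hQp hwc (hQX.trans h_le) g h1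
    rw [hgk]
    have h2 : k ∈ Subgroup.normalizer (A : Set H) :=
      (Subgroup.normal_subgroupOf_iff_le_normalizer h_le).mp hN hk
    have h3 := conj_map_le_conj_map hQX k
    rwa [conj_map_eq_of_mem_normalizer h2] at h3

/-- The subnormal closure of a weakly closed `Q` is its normal closure. -/
theorem subnormalClosure_eq {Q : Subgroup H} (hQp : IsPGroup p Q)
    (hwc : IsWeaklyClosedSubgroup p Q) :
    subnormalClosure Q = ⨆ g : H, Q.map (MulAut.conj g).toMonoidHom := by
  apply le_antisymm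
  · apply sInf_le
    refine ⟨?_, ?_⟩
    · have h := le_iSup (fun g : H => Q.map (MulAut.conj g).toMonoidHom) 1
      simp only [conj_map_one] at h
      exact h
    · apply Subgroup.Normal.isSubnormal
      constructor
      intro x hx g
      have h1 : (⨆ g : H, Q.map (MulAut.conj g).toMonoidHom).map (MulAut.conj g).toMonoidHom ≤
          ⨆ g : H, Q.map (MulAut.conj g).toMonoidHom := by
        rw [Subgroup.map_iSup]
        refine iSup_le fun a => ?_
        rw [← conj_map_mul]
        exact le_iSup (fun g : H => Q.map (MulAut.conj g).toMonoidHom) (g * a)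
      exact h1 ⟨x, hx, rfl⟩
  · refine iSup_le fun g => ?_
    apply le_sInf
    rintro X ⟨hQX, hX⟩
    exact conj_le_of_isSubnormal hQp hwc hX hQX g

/-- `N = N_N(Q) [N, Q]`, elementwise. -/
theorem exists_mul_normalizer_commutator {Q : Subgroup H} (hQp : IsPGroup p Q)
    (hwc : IsWeaklyClosedSubgroup p Q) (N' : Subgroup H) [hN : N'.Normal] (n : H) (hn : n ∈ N') :
    ∃ a ∈ N' ⊓ Subgroup.normalizer (Q : Set H), ∃ b ∈ ⁅N', Q⁆, n = a * b := by
  set W : Subgroup H := ⁅N', Q⁆ with hW
  have hWN : W ≤ N' := Subgroup.commutator_le.mpr (fun a ha b _ => by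
    have : ⁅a, b⁆ = a * (b * a⁻¹ * b⁻¹) := by rw [commutatorElement_def]; group
    rw [this]
    exact N'.mul_mem ha (hN.conj_mem _ (N'.inv_mem ha) b))
  have hQW : Q ≤ Subgroup.normalizer (W : Set H) := Subgroup.normalizer_commutator_ge_right _ _
  have hNW : N' ≤ Subgroup.normalizer (W : Set H) := Subgroup.normalizer_commutator_ge_left _ _
  have hle : Q.map (MulAut.conj n).toMonoidHom ≤ W ⊔ Q := by
    rintro _ ⟨q, hq, rfl⟩
    have e : (MulAut.conj n).toMonoidHom q = ⁅n, q⁆ * q := by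
      simp [commutatorElement_def]
    rw [e]
    exact Subgroup.mul_mem _ (Subgroup.mem_sup_left (Subgroup.commutator_mem_commutator hn hq))
      (Subgroup.mem_sup_right hq)
  obtain ⟨k, hk, hnk⟩ := exists_conj_eq hQp hwc (le_sup_right : Q ≤ W ⊔ Q) n hle
  obtain ⟨w, hw, q, hq, rfl⟩ := (mem_sup_of_le_normalizer' hQW).mp hk
  have h1 : Q.map (MulAut.conj (w * q)).toMonoidHom = Q.map (MulAut.conj w).toMonoidHom := by
    rw [conj_map_mul, conj_map_eq_of_mem_normalizer (Subgroup.le_normalizer hq)]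
  rw [h1] at hnk
  have h2 : w⁻¹ * n ∈ Subgroup.normalizer (Q : Set H) := by
    apply mem_normalizer_of_conj_map_eq
    rw [conj_map_mul, hnk, conj_map_inv_conj]
  set a := w⁻¹ * n with ha
  have haN : a ∈ N' := N'.mul_mem (N'.inv_mem (hWN hw)) hn
  refine ⟨a, ⟨haN, h2⟩, a⁻¹ * w * a, ?_, ?_⟩
  · have h3 := (Subgroup.mem_normalizer_iff.mp (hNW (N'.inv_mem haN))) w
    have h4 := h3.mp hw
    simpa using h4
  · rw [ha]; group

/-- `[N, Q] = (Q ∩ [N, Q]) [N, Q, Q]`, elementwise. -/
theorem exists_mul_inf_commutator {Q : Subgroup H} (hQp : IsPGroup p Q)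
    (hwc : IsWeaklyClosedSubgroup p Q) (N' : Subgroup H) [hN : N'.Normal] (c : H) (hc : c ∈ ⁅N', Q⁆) :
    ∃ a ∈ Q ⊓ ⁅N', Q⁆, ∃ b ∈ ⁅⁅N', Q⁆, Q⁆, c = a * b := by
  set W : Subgroup H := ⁅N', Q⁆ with hW
  set W1 : Subgroup H := ⁅W, Q⁆ with hW1
  have hQW1 : Q ≤ Subgroup.normalizer (W1 : Set H) := Subgroup.normalizer_commutator_ge_right _ _
  have hQW : Q ≤ Subgroup.normalizer (W : Set H) := Subgroup.normalizer_commutator_ge_right _ _
  have hNW : N' ≤ Subgroup.normalizer (W : Set H) := Subgroup.normalizer_commutator_ge_left _ _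
  have hle : W ≤ (Q ⊓ W) ⊔ W1 := by
    rw [hW, Subgroup.commutator_le]
    intro n hn q hq
    obtain ⟨a, ⟨haN, haQ⟩, b, hb, rfl⟩ := exists_mul_normalizer_commutator hQp hwc N' n hn
    have e : ⁅a * b, q⁆ = (a * ⁅b, q⁆ * a⁻¹) * ⁅a, q⁆ := by
      simp only [commutatorElement_def]; group
    rw [e]
    refine Subgroup.mul_mem _ (Subgroup.mem_sup_right ?_) (Subgroup.mem_sup_left ⟨?_, ?_⟩)
    · have h1 : a ∈ Subgroup.normalizer (W1 : Set H) :=
        mem_normalizer_commutator (hNW haN) haQ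
      exact (Subgroup.mem_normalizer_iff.mp h1 _).mp (Subgroup.commutator_mem_commutator hb hq)
    · have h1 := (Subgroup.mem_normalizer_iff.mp haQ q).mp hq
      rw [commutatorElement_def]
      exact Q.mul_mem h1 (Q.inv_mem hq)
    · exact Subgroup.commutator_mem_commutator haN hq
  have h2 : Q ⊓ W ≤ Subgroup.normalizer (W1 : Set H) := inf_le_left.trans hQW1
  obtain ⟨a, ha, b, hb, rfl⟩ := (mem_sup_of_le_normalizer h2).mp (hle hc)
  exact ⟨a, ha, b, hb, rfl⟩

end Cfsg.Agent.Lib.WeakClosed
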