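import Mathlib
import Cfsg.Agent.Lib.WeakClosed
import Cfsg.Agent.Lib.CompFitting
import Cfsg.Agent.Lib.BGFit2
import Cfsg.Agent.Lib.ChainStab
import Cfsg.Agent.Lib.SubnormalP
import Cfsg.Agent.Lib.LocalLarge
import Cfsg.Agent.Lib.CoprimeInv
import Cfsg.Agent.Lib.Replacement

/-!
# Centralizers of `p`-subgroups in groups of characteristic `p`

`GoodP p X` is a weak form, for a subgroup `X`, of `C_X(O_p(X)) ≤ O_p(X)`: only the elements of order prime to `p` are tested.
-/

set_option autoImplicit false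
set_option linter.unusedSectionVars false

open Cfsg
open scoped commutatorElement

namespace Cfsg.Agent.Lib.CharPCentr

open Cfsg.Agent.Lib.PCore Cfsg.Agent.Lib.PResid Cfsg.Agent.Lib.ChainStab Cfsg.Agent.Lib.BGFit2

universe u

variable {G : Type u} [Group G] [Finite G] {p : ℕ} [Fact p.Prime]

/-- A weak form of `C_X(O_p(X)) ≤ O_p(X)`. -/
def GoodP (p : ℕ) (X : Subgroup G) : Prop :=
  ∀ d ∈ X, (orderOf d).Coprime p →
    (∀ T : Subgroup G, T ≤ X → IsPGroup p T → X ≤ Subgroup.normalizer (T : Set G) → ∀ t ∈ T, d * t = t * d) → d = 1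

/-- Centralizers of `p`-subgroups. -/
theorem GoodP.inf_centralizer {X R : Subgroup G} (hX : GoodP p X) (hRX : R ≤ X) (hR : IsPGroup p R) :
    GoodP p (X ⊓ Subgroup.centralizer (R : Set G)) := by
  rintro d ⟨hdX, hdR⟩ hc hall
  refine hX d hdX hc ?_
  intro T hTX hTp hXT t ht
  have hcomm : ∀ r ∈ R, d * r = r * d := fun r hr => (Subgroup.mem_centralizer_iff.mp hdR r hr).symm
  refine Cfsg.Agent.Lib.CompFitting.ab_lemma T R d hTp hR ?_ ?_ hcomm hc ?_ t ht
  · intro v hv
    exact (Subgroup.mem_normalizer_iff.mp (hXT hdX) v).mp hv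
  · intro r hr v hv
    exact (Subgroup.mem_normalizer_iff.mp (hXT (hRX hr)) v).mp hv
  · intro v hv hv'
    refine hall (T ⊓ Subgroup.centralizer (R : Set G)) (inf_le_inf_right _ hTX) (hTp.to_le inf_le_left) ?_ v
      ⟨hv, Subgroup.mem_centralizer_iff.mpr fun r hr => (hv' r hr)⟩
    rintro x ⟨hx1, hx2⟩
    apply Cfsg.Agent.Lib.Replacement.mem_normalizer_of_forall
    rintro a ⟨ha1, ha2⟩
    refine ⟨(Subgroup.mem_normalizer_iff.mp (hXT hx1) a).mp ha1, ?_⟩
    exact Subgroup.mul_mem _ (Subgroup.mul_mem _ hx2 ha2) (Subgroup.inv_mem _ hx2)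

/-- Adding a `p`-group. -/
theorem GoodP.sup {X R : Subgroup G} (hX : GoodP p X) (hR : IsPGroup p R)
    (hRX : R ≤ Subgroup.normalizer (X : Set G)) : GoodP p (R ⊔ X) := by
  intro d hd hc hall
  have hdX : d ∈ X := Cfsg.Agent.Lib.SubnormalP.mem_of_coprime_of_mem_sup' hRX hR hd hc
  refine hX d hdX hc ?_
  intro T hTX hTp hXT t ht
  have hT1 : T ≤ pCoreOf p X := le_pCoreOf hTX hXT hTp
  refine hall (pCoreOf p X) ((pCoreOf_le p X).trans le_sup_right) (isPGroup_pCoreOf p X) ?_ t (hT1 ht)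
  exact sup_le (hRX.trans (normalizer_le_normalizer_pCoreOf p X)) (le_normalizer_pCoreOf p X)

/-- Passage to centralizers of larger `p`-subgroups. -/
theorem good_centralizer_mono {P₁ P : Subgroup G} (hP : IsPGroup p P) (h : P₁ ≤ P)
    (hg : GoodP p (Subgroup.centralizer (P₁ : Set G))) : GoodP p (Subgroup.centralizer (P : Set G)) := by
  induction hn : (Nat.card P - Nat.card P₁) using Nat.strong_induction_on generalizing P₁ with
  | _ n ih =>
    by_cases he : P₁ = P
    · rwa [← he]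
    have hlt : P₁ < P := lt_of_le_of_ne h he
    have h2 := Cfsg.Agent.Lib.LocalTools.lt_inf_normalizer hP hlt
    set P₂ : Subgroup G := P ⊓ Subgroup.normalizer (P₁ : Set G) with hP₂
    have hP₂p : IsPGroup p P₂ := hP.to_le inf_le_left
    have hNorm : P₂ ≤ Subgroup.normalizer ((Subgroup.centralizer (P₁ : Set G) : Subgroup G) : Set G) :=
      inf_le_right.trans (Cfsg.Agent.Lib.LocalLarge.normalizer_le_normalizer_centralizer P₁)
    have h3 := hg.sup hP₂p hNorm
    have h4 := h3.inf_centralizer le_sup_left hP₂p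
    have e : (P₂ ⊔ Subgroup.centralizer (P₁ : Set G)) ⊓ Subgroup.centralizer (P₂ : Set G) =
        Subgroup.centralizer (P₂ : Set G) :=
      inf_eq_right.mpr (le_sup_of_le_right (Subgroup.centralizer_le (SetLike.coe_mono h2.le)))
    rw [e] at h4
    have hc1 : Nat.card P₁ < Nat.card P₂ := Set.ncard_lt_ncard (SetLike.coe_ssubset_coe.mpr h2) (Set.toFinite _)
    have hc2 : Nat.card P₂ ≤ Nat.card P := Subgroup.card_le_of_le inf_le_left
    have hc3 : Nat.card P₁ ≤ Nat.card P := Subgroup.card_le_of_le h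
    exact ih (Nat.card P - Nat.card P₂) (by omega) inf_le_left h4 rfl

/-- The hypothesis for the whole group. -/
theorem good_bot (h : Subgroup.centralizer (pCore p G : Set G) ≤ pCore p G) :
    GoodP p (Subgroup.centralizer ((⊥ : Subgroup G) : Set G)) := by
  intro d _ hc hall
  have h1 := hall (pCore p G) (fun t ht => Subgroup.mem_centralizer_iff.mpr (by
      intro a ha
      have ha' : a = 1 := ha
      rw [ha']; group)) (isPGroup_pCore p) (by
    rw [Subgroup.normalizer_eq_top_iff.mpr inferInstance]; exact le_top)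
  have h2 : d ∈ pCore p G := h (Subgroup.mem_centralizer_iff.mpr fun t ht => (h1 t ht).symm)
  obtain ⟨m, hm⟩ := exists_pow_eq_one_of_isPGroup (isPGroup_pCore (G := G) p) h2
  exact eq_one_of_pow_eq_one_of_coprime hm (pow_orderOf_eq_one d) hc

/-- The hypothesis for the centralizer of an element. -/
theorem good_zpowers {y : G}
    (h : Subgroup.centralizer (pCore p ↥(Subgroup.centralizer ({y} : Set G)) : Set ↥(Subgroup.centralizer ({y} : Set G))) ≤
      pCore p ↥(Subgroup.centralizer ({y} : Set G))) :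
    GoodP p (Subgroup.centralizer ((Subgroup.zpowers y : Subgroup G) : Set G)) := by
  have e : Subgroup.centralizer ((Subgroup.zpowers y : Subgroup G) : Set G) = Subgroup.centralizer ({y} : Set G) := by
    apply le_antisymm
    · apply Subgroup.centralizer_le
      intro a ha
      rw [Set.mem_singleton_iff] at ha
      rw [ha]
      exact Subgroup.mem_zpowers y
    · intro c hc
      rw [Subgroup.mem_centralizer_singleton_iff] at hc
      refine Subgroup.mem_centralizer_iff.mpr ?_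
      rintro _ ⟨i, rfl⟩
      exact ((show Commute c y from hc).zpow_right i).symm.eq
  rw [e]
  set Y := Subgroup.centralizer ({y} : Set G) with hY
  intro d hd hc hall
  have h1 := hall (pCoreOf p Y) (pCoreOf_le p Y) (isPGroup_pCoreOf p Y) (le_normalizer_pCoreOf p Y)
  have h2 : (⟨d, hd⟩ : Y) ∈ pCore p ↥Y := by
    apply h
    refine Subgroup.mem_centralizer_iff.mpr fun t ht => Subtype.ext ?_
    exact (h1 t ⟨t, ht, rfl⟩).symm
  obtain ⟨m, hm⟩ := exists_pow_eq_one_of_isPGroup (isPGroup_pCore (G := Y) p) h2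
  have hm' : d ^ p ^ m = 1 := congrArg Subtype.val hm
  exact eq_one_of_pow_eq_one_of_coprime hm' (pow_orderOf_eq_one d) hc

/-- The main theorem. -/
theorem main {H : Type u} [Group H] [Finite H] {p : ℕ} [Fact p.Prime] (Q : Subgroup H) (hQp : IsPGroup p ↥Q)
    (hwc : Cfsg.IsWeaklyClosedSubgroup p Q) (hCQ : Subgroup.centralizer ((Q : Subgroup H) : Set H) ≤ Q) (L : Subgroup H)
    (hQL : Q ≤ L)
    (hyp : Subgroup.centralizer (Cfsg.pCore p H : Set H) ≤ Cfsg.pCore p H ∨ ∃ y : H, y ≠ 1 ∧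
      y ∈ (Cfsg.pCoreOf p L) ⊓ Subgroup.centralizer ((Q : Subgroup H) : Set H) ∧
      Subgroup.centralizer (Cfsg.pCore p ↥(Subgroup.centralizer ({y} : Set H)) : Set ↥(Subgroup.centralizer ({y} : Set H))) ≤
        Cfsg.pCore p ↥(Subgroup.centralizer ({y} : Set H))) :
    ⁅Q, Subgroup.centralizer (((Cfsg.pCoreOf p L) : Subgroup H) : Set H)⁆ ≤ Q ⊓ (Cfsg.pCoreOf p L) ∧
      IsPGroup p ↥(Subgroup.centralizer (((Cfsg.pCoreOf p L) : Subgroup H) : Set H)) ∧
      Subgroup.centralizer (Cfsg.pCore p ↥L : Set ↥L) ≤ Cfsg.pCore p ↥L := by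
  classical
  set P := pCoreOf p L with hP
  set C := Subgroup.centralizer ((P : Subgroup H) : Set H) with hC
  have hPp : IsPGroup p P := isPGroup_pCoreOf p L
  have hgood : GoodP p C := by
    rcases hyp with h1 | ⟨y, -, hy, hyc⟩
    · exact good_centralizer_mono hPp bot_le (good_bot h1)
    · exact good_centralizer_mono hPp (Subgroup.zpowers_le.mpr hy.1) (good_zpowers hyc)
  set O₃ := pCoreOf p C with hO₃
  have hO₃p : IsPGroup p O₃ := isPGroup_pCoreOf p C
  have hO₃C : O₃ ≤ C := pCoreOf_le p C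
  have hLP : L ≤ Subgroup.normalizer (P : Set H) := le_normalizer_pCoreOf p L
  have hNC : Subgroup.normalizer (P : Set H) ≤ Subgroup.normalizer (C : Set H) :=
    Cfsg.Agent.Lib.LocalLarge.normalizer_le_normalizer_centralizer P
  have hNO : Subgroup.normalizer (C : Set H) ≤ Subgroup.normalizer (O₃ : Set H) := normalizer_le_normalizer_pCoreOf p C
  have hLC : L ≤ Subgroup.normalizer (C : Set H) := hLP.trans hNC
  have hLO : L ≤ Subgroup.normalizer (O₃ : Set H) := hLC.trans hNO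
  have hQO : Q ≤ Subgroup.normalizer (O₃ : Set H) := hQL.trans hLO
  have hRp : IsPGroup p ↥(Q ⊔ O₃) := Cfsg.Agent.Lib.CoprimeInv.isPGroup_sup_of_le_normalizer hQp hO₃p hQO
  have hOQ : O₃ ≤ Subgroup.normalizer (Q : Set H) :=
    le_sup_right.trans (Cfsg.Agent.Lib.WeakClosed.le_normalizer hwc hRp le_sup_left)
  set V₀ := P ⊓ C with hV₀
  have hV₀p : IsPGroup p V₀ := hPp.to_le inf_le_left
  have hV₀c : ∀ v ∈ V₀, ∀ c ∈ C, v * c = c * v := fun v hv c hc => Subgroup.mem_centralizer_iff.mp hc v hv.1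
  have hO₃L : O₃ ⊓ L ≤ V₀ := by
    intro a ha
    refine ⟨?_, hO₃C ha.1⟩
    refine le_pCoreOf (Y := O₃ ⊓ L) inf_le_right ?_ (hO₃p.to_le inf_le_left) ha
    intro l hl
    apply Cfsg.Agent.Lib.Replacement.mem_normalizer_of_forall
    rintro t ⟨ht1, ht2⟩
    exact ⟨(Subgroup.mem_normalizer_iff.mp (hLO hl) t).mp ht1, L.mul_mem (L.mul_mem hl ht2) (L.inv_mem hl)⟩
  have hq5 : ∀ o ∈ O₃, ∀ q ∈ Q, ⁅o, q⁆ ∈ Q ⊓ V₀ := by
    intro o ho q hq
    have h1 : ⁅o, q⁆ ∈ Q := by
      rw [commutatorElement_def]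
      exact Q.mul_mem ((Subgroup.mem_normalizer_iff.mp (hOQ ho) q).mp hq) (Q.inv_mem hq)
    have h2 : ⁅o, q⁆ ∈ O₃ := by
      have e : ⁅o, q⁆ = o * (q * o⁻¹ * q⁻¹) := by rw [commutatorElement_def]; group
      rw [e]
      exact O₃.mul_mem ho ((Subgroup.mem_normalizer_iff.mp (hQO hq) _).mp (O₃.inv_mem ho))
    exact ⟨h1, hO₃L ⟨h2, hQL h1⟩⟩
  have hLV₀ : L ≤ Subgroup.normalizer (V₀ : Set H) := by
    intro l hl
    apply Cfsg.Agent.Lib.Replacement.mem_normalizer_of_forall
    rintro t ⟨ht1, ht2⟩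
    exact ⟨(Subgroup.mem_normalizer_iff.mp (hLP hl) t).mp ht1, (Subgroup.mem_normalizer_iff.mp (hLC hl) t).mp ht2⟩
  have hCV₀ : C ≤ Subgroup.normalizer (V₀ : Set H) := by
    intro c hc
    apply Cfsg.Agent.Lib.Replacement.mem_normalizer_of_forall
    intro t ht
    have e : c * t * c⁻¹ = t := by rw [← hV₀c t ht c hc]; group
    rwa [e]
  have hCO : C ≤ Subgroup.normalizer (O₃ : Set H) := Subgroup.le_normalizer.trans hNO
  have hQSt : ∀ q ∈ Q, q ∈ stabSub O₃ V₀ := fun q hq =>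
    ⟨hLV₀ (hQL hq), fun o ho => (hq5 o ho q hq).2⟩
  set D : Subgroup H := ⁅C, Q⁆ with hD
  have hcomm_eq : ∀ c q : H, ⁅c, q⁆ = (c * q * c⁻¹) * q⁻¹ := fun c q => by rw [commutatorElement_def]
  have hDSt : D ≤ stabSub O₃ V₀ := by
    rw [hD, Subgroup.commutator_le]
    intro c hc q hq
    rw [hcomm_eq]
    exact Subgroup.mul_mem _ (conj_mem_stabSub (hQSt q hq) (hCO hc) (hCV₀ hc)) (Subgroup.inv_mem _ (hQSt q hq))
  have hDC : D ≤ C := by
    rw [hD, Subgroup.commutator_le]
    intro c hc q hq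
    have e : ⁅c, q⁆ = c * (q * c⁻¹ * q⁻¹) := by rw [commutatorElement_def]; group
    rw [e]
    exact C.mul_mem hc ((Subgroup.mem_normalizer_iff.mp (hLC (hQL hq)) _).mp (C.inv_mem hc))
  have hDp : IsPGroup p D := by
    apply isPGroup_of_forall_coprime_eq_one
    intro d hd hc
    refine hgood d (hDC hd) hc ?_
    intro T hTC hTp hCT t ht
    have hT1 : T ≤ O₃ := le_pCoreOf hTC hCT hTp
    have h1 := commute_of_stab hV₀p hc (fun u hu => hV₀c u hu d (hDC hd)) (fun v hv => (hDSt hd).2 v hv) t (hT1 ht)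
    exact h1.symm.eq
  have hDn : C ≤ Subgroup.normalizer (D : Set H) := by
    intro c' hc'
    apply Cfsg.Agent.Lib.Replacement.mem_normalizer_of_forall
    have : D ≤ D.comap (MulAut.conj c').toMonoidHom := by
      rw [hD, Subgroup.commutator_le]
      intro c hc q hq
      show c' * ⁅c, q⁆ * c'⁻¹ ∈ ⁅C, Q⁆
      have e : c' * ⁅c, q⁆ * c'⁻¹ = ⁅c' * c, q⁆ * (⁅c', q⁆)⁻¹ := by
        simp only [commutatorElement_def]; group
      rw [e]
      exact Subgroup.mul_mem _ (Subgroup.commutator_mem_commutator (C.mul_mem hc' hc) hq)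
        (Subgroup.inv_mem _ (Subgroup.commutator_mem_commutator hc' hq))
    intro t ht
    exact this ht
  have hDO : D ≤ O₃ := le_pCoreOf hDC hDn hDp
  have hCR : C ≤ Subgroup.normalizer ((Q ⊔ O₃ : Subgroup H) : Set H) := by
    intro c hc
    apply Cfsg.Agent.Lib.Replacement.mem_normalizer_of_forall
    have : Q ⊔ O₃ ≤ (Q ⊔ O₃).comap (MulAut.conj c).toMonoidHom := by
      refine sup_le ?_ ?_
      · intro q hq
        show c * q * c⁻¹ ∈ Q ⊔ O₃
        have e : c * q * c⁻¹ = ⁅c, q⁆ * q := by rw [hcomm_eq]; group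
        rw [e]
        exact Subgroup.mul_mem _ (Subgroup.mem_sup_right (hDO (Subgroup.commutator_mem_commutator hc hq)))
          (Subgroup.mem_sup_left hq)
      · intro o ho
        show c * o * c⁻¹ ∈ Q ⊔ O₃
        exact Subgroup.mem_sup_right ((Subgroup.mem_normalizer_iff.mp (hCO hc) o).mp ho)
    intro t ht
    exact this ht
  have hCQ' : C ≤ Subgroup.normalizer (Q : Set H) :=
    hCR.trans (Cfsg.Agent.Lib.WeakClosed.normalizer_le hwc hRp le_sup_left)
  have hQC : ∀ c ∈ C, ∀ q ∈ Q, ⁅c, q⁆ ∈ Q ⊓ V₀ := by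
    intro c hc q hq
    have h1 : ⁅c, q⁆ ∈ Q := by
      rw [hcomm_eq]
      exact Q.mul_mem ((Subgroup.mem_normalizer_iff.mp (hCQ' hc) q).mp hq) (Q.inv_mem hq)
    have h2 : ⁅c, q⁆ ∈ O₃ := hDO (Subgroup.commutator_mem_commutator hc hq)
    exact ⟨h1, hO₃L ⟨h2, hQL h1⟩⟩
  have hCp : IsPGroup p C := by
    apply isPGroup_of_forall_coprime_eq_one
    intro e he hc
    have h1 := commute_of_stab (U := V₀) (V := Q) hV₀p hc (fun u hu => hV₀c u hu e he) (fun q hq => by
      have e1 : ⁅q, e⁆ = (⁅e, q⁆)⁻¹ := by simp only [commutatorElement_def]; group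
      rw [e1]
      exact V₀.inv_mem (hQC e he q hq).2)
    have h2 : e ∈ Subgroup.centralizer ((Q : Subgroup H) : Set H) :=
      Subgroup.mem_centralizer_iff.mpr fun q hq => (h1 q hq).eq
    have h3 : e ∈ Q := hCQ h2
    obtain ⟨m, hm⟩ := exists_pow_eq_one_of_isPGroup hQp h3
    exact eq_one_of_pow_eq_one_of_coprime hm (pow_orderOf_eq_one e) hc
  refine ⟨?_, hCp, ?_⟩
  · rw [Subgroup.commutator_le]
    intro q hq c hc
    have e1 : ⁅q, c⁆ = (⁅c, q⁆)⁻¹ := by simp only [commutatorElement_def]; group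
    rw [e1]
    have h1 := hQC c hc q hq
    exact ⟨Q.inv_mem h1.1, P.inv_mem h1.2.1⟩
  · intro x hx
    have hxC : (x : H) ∈ C := by
      refine Subgroup.mem_centralizer_iff.mpr ?_
      rintro _ ⟨t, ht, rfl⟩
      exact congrArg Subtype.val (Subgroup.mem_centralizer_iff.mp hx t ht)
    have hLn : L ≤ Subgroup.normalizer ((C ⊓ L : Subgroup H) : Set H) := by
      intro l hl
      apply Cfsg.Agent.Lib.Replacement.mem_normalizer_of_forall
      rintro t ⟨ht1, ht2⟩
      exact ⟨(Subgroup.mem_normalizer_iff.mp (hLC hl) t).mp ht1, L.mul_mem (L.mul_mem hl ht2) (L.inv_mem hl)⟩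
    have h3 : (x : H) ∈ P := le_pCoreOf (Y := C ⊓ L) inf_le_right hLn (hCp.to_le inf_le_left) ⟨hxC, x.2⟩
    obtain ⟨t, ht, hte⟩ := h3
    have : t = x := Subtype.ext hte
    rwa [← this]

end Cfsg.Agent.Lib.CharPCentr
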