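import Mathlib
import Cfsg.Prelude.Def_ChevStructure
import Cfsg.Agent.Lib.CoxOrder

/-! Order and faithful reflection representation of the Coxeter group of type F4.
Generated certificates: coset tables and orbits along the chain of parabolic subgroups. -/

set_option autoImplicit false
set_option maxRecDepth 1000000

namespace Cfsg.Agent.Lib.CoxF4

open Cfsg.Agent.Lib.CoxOrder

/-- The Coxeter matrix. -/
abbrev M : CoxeterMatrix (Fin 4) := CoxeterMatrix.F₄

/-- Coxeter matrix table. -/
def mT (i j : ℕ) : ℕ := pk 0x1322314224132231 4 (i * 4 + j)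

/-- Cartan matrix table. -/
def A (i j : ℕ) : ℤ := (pk 0xa7887a6887a7887a 4 (i * 4 + j) : ℤ) - 8

theorem hM0 : ∀ i j : Fin 4, decide (M i j = mT i j) = true := by decide +kernel

theorem hM : ∀ i j : Fin 4, M i j = mT i j := fun i j => of_decide_eq_true (hM0 i j)

theorem hrel : ∀ i j : Fin 4, (R A i * R A j) ^ M i j = 1 := by decide +kernel

/-! Level 1: orbit of size 2. -/
def T1 (c i : ℕ) : ℕ := pk 0x1 2 (c * 4 + i)
def par1 (d : ℕ) : ℕ := pk 0x0 2 d
def gen1 (d : ℕ) : ℕ := pk 0x0 4 d
def pts1 (c k : ℕ) : ℤ := (pk 0x88978889 4 (c * 4 + k) : ℤ) - 8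

theorem final1 : finalMask 2 4 (List.range 1) (List.range 0) mT T1 par1 gen1 = 0x10 := by
  decide +kernel

theorem upper1 : upperCheck 2 4 (List.range 1) (List.range 0) T1 par1 gen1 0x10 = true := by
  decide +kernel

theorem lower1 : lowerCheck 4 2 (List.range 1) (List.range 0) A pts1 par1 gen1 = true := by
  decide +kernel

theorem chain1 : Chain (sN M) (permRep M A hrel) (List.range 1) 2 := by
  have h := level M A hrel mT hM 2 4 (List.range 1) (List.range 0) T1 par1 gen1 pts1
    (by rw [final1]; exact upper1) lower1 (chain_nil _ _)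
  simpa using h

/-! Level 2: orbit of size 3. -/
def T2 (c i : ℕ) : ℕ := pk 0x90204 2 (c * 4 + i)
def par2 (d : ℕ) : ℕ := pk 0x10 2 d
def gen2 (d : ℕ) : ℕ := pk 0x10 4 d
def pts2 (c k : ℕ) : ℤ := (pk 0x898789798898 4 (c * 4 + k) : ℤ) - 8

theorem final2 : finalMask 3 4 (List.range 2) (List.range 1) mT T2 par2 gen2 = 0x320 := by
  decide +kernel

theorem upper2 : upperCheck 3 4 (List.range 2) (List.range 1) T2 par2 gen2 0x320 = true := by
  decide +kernel

theorem lower2 : lowerCheck 4 3 (List.range 2) (List.range 1) A pts2 par2 gen2 = true := by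
  decide +kernel

theorem chain2 : Chain (sN M) (permRep M A hrel) (List.range 2) 6 := by
  have h := level M A hrel mT hM 3 4 (List.range 2) (List.range 1) T2 par2 gen2 pts2
    (by rw [final2]; exact upper2) lower2 chain1
  simpa using h

/-! Level 3: orbit of size 8. -/
def T3 (c i : ℕ) : ℕ := pk 0x6770756036402450532041300210100 4 (c * 4 + i)
def par3 (d : ℕ) : ℕ := pk 0x65322100 4 d
def gen3 (d : ℕ) : ℕ := pk 0x21220120 4 d
def pts3 (c k : ℕ) : ℤ := (pk 0xb788a968a7a6a78a9986996a97a88988 4 (c * 4 + k) : ℤ) - 8

theorem final3 : finalMask 8 4 (List.range 3) (List.range 2) mT T3 par3 gen3 = 0x73573250 := by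
  decide +kernel

theorem upper3 : upperCheck 8 4 (List.range 3) (List.range 2) T3 par3 gen3 0x73573250 = true := by
  decide +kernel

theorem lower3 : lowerCheck 4 8 (List.range 3) (List.range 2) A pts3 par3 gen3 = true := by
  decide +kernel

theorem chain3 : Chain (sN M) (permRep M A hrel) (List.range 3) 48 := by
  have h := level M A hrel mT hM 8 4 (List.range 3) (List.range 2) T3 par3 gen3 pts3
    (by rw [final3]; exact upper3) lower3 chain2
  simpa using h

/-! Level 4: orbit of size 24. -/
def T4 (c i : ℕ) : ℕ := pk 0xb5ef7bd6d6ada95a4ab39c2748d2509462f7cdd283db16b20e72ded5398c4352b6214a325675a8c829ce94910538ca62188319444104620082108000 5 (c * 4 + i)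
def par4 (d : ℕ) : ℕ := pk 0xb5692841ee6b16a420c62906310400 5 d
def gen4 (d : ℕ) : ℕ := pk 0x321220011223323132201230 4 d
def pts4 (c k : ℕ) : ℤ := (pk 0x78889788896887a6878a79869886796a986a77a896a869887a68a78878a69968788a97a6978a8986896a87a879889888 4 (c * 4 + k) : ℤ) - 8

theorem final4 : finalMask 24 4 (List.range 4) (List.range 3) mT T4 par4 gen4 = 0xf7bdfbfaeddbb7f3f57badb0 := by
  decide +kernel

theorem upper4 : upperCheck 24 4 (List.range 4) (List.range 3) T4 par4 gen4 0xf7bdfbfaeddbb7f3f57badb0 = true := by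
  decide +kernel

theorem lower4 : lowerCheck 4 24 (List.range 4) (List.range 3) A pts4 par4 gen4 = true := by
  decide +kernel

theorem chain4 : Chain (sN M) (permRep M A hrel) (List.range 4) 1152 := by
  have h := level M A hrel mT hM 24 4 (List.range 4) (List.range 3) T4 par4 gen4 pts4
    (by rw [final4]; exact upper4) lower4 chain3
  simpa using h

/-- Finite, of the right order, with faithful reflection representation. -/
theorem main : Finite M.Group ∧ Nat.card M.Group = 1152 ∧ Function.Injective (matRep M A hrel) :=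
  final M A hrel _ chain4

/-- The table of powers of the Coxeter element in the reflection representation. -/
def Y (d : ℕ) : Matrix (Fin 4) (Fin 4) ℤ :=
  Matrix.of fun i j => (pk 0x818080808081808080808180808080817f7f7f7f818080808082818180808180807f7f807f7f7f7f82828281808281817f7e7f7f807f7f8080828180828282817f7f7f807f7e7f7f8282818180828180807f80807f7f7f808080807f828281817f808080807f808080807f808080807f818181817f808080807e7f7f80807f8080818180818181817e7e7e7f807e7f7f8182818180818180807e7f807e7e7e7f81818180818281817e7e7f7f807e7f808081808081818180808080817e7e7f7f81808080808180808080818080808081 8 ((d * 4 + i) * 4 + j) : ℤ) - 128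

theorem Y0 : Y 0 = 1 := by decide +kernel
theorem Ys : ∀ d < 12, Y (d + 1) = Y d * ((List.finRange 4).map (R A)).prod := by decide +kernel
theorem Yh : Y 12 = 1 := by decide +kernel
theorem Yne : ∀ d < 12, 0 < d → Y d ≠ 1 := by decide +kernel

/-- The order of the Coxeter element. -/
theorem orderOf_coxeterElement : orderOf ((List.finRange 4).map M.simple).prod = 12 :=
  orderOf_coxeter M A hrel main.2.2 Y 12 (by norm_num) Y0 Ys Yh Yne

end Cfsg.Agent.Lib.CoxF4
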