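import Mathlib
import Cfsg.Agent.Lib.ClassicalSmall

/-!
# The two tori of `SL_2(q)`, and Sylow subgroups coming from cyclic subgroups.
-/

set_option autoImplicit false

namespace Cfsg.Agent.Lib.SL2Tori

open Matrix
open Cfsg.Agent.Lib.ClassicalSmall

/-- If a cyclic subgroup has order divisible by the full `r`-part of the group order, every Sylow
`r`-subgroup is cyclic. -/
theorem isCyclic_sylow_of_cyclic_dvd {G : Type*} [Group G] [Finite G] (r : ℕ) [Fact r.Prime]
    (C : Subgroup G) [IsCyclic C] (h : r ^ (Nat.card G).factorization r ∣ Nat.card C)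
    (R : Sylow r G) : IsCyclic R := by
  obtain ⟨P⟩ : Nonempty (Sylow r C) := inferInstance
  have hcardP := Sylow.card_eq_multiplicity P
  have hCG : Nat.card C ∣ Nat.card G := Subgroup.card_subgroup_dvd_card C
  have hG0 : Nat.card G ≠ 0 := Nat.card_pos.ne'
  have hC0 : Nat.card C ≠ 0 := Nat.card_pos.ne'
  have hrp : r.Prime := Fact.out
  have heq : (Nat.card C).factorization r = (Nat.card G).factorization r := by
    apply le_antisymm
    · exact (Nat.factorization_le_iff_dvd hC0 hG0).2 hCG r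
    · exact (Nat.Prime.pow_dvd_iff_le_factorization hrp hC0).1 h
  have hcard : Nat.card (P.1.map C.subtype) = r ^ (Nat.card G).factorization r := by
    rw [Subgroup.card_map_of_injective C.subtype_injective, hcardP, heq]
  let Q : Sylow r G := Sylow.ofCard (P.1.map C.subtype) hcard
  have hQ : IsCyclic (Q : Subgroup G) := by
    have : IsCyclic P.1 := inferInstance
    have e : P.1 ≃* (P.1.map C.subtype) := P.1.equivMapOfInjective C.subtype C.subtype_injective
    exact isCyclic_of_surjective e.toMonoidHom e.surjective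
  have e : (Q : Subgroup G) ≃* (R : Subgroup G) := Q.equiv R
  exact isCyclic_of_surjective e.toMonoidHom e.surjective

/-- Cyclic groups have elements of each order dividing the group order. -/
theorem exists_orderOf_of_dvd {G : Type*} [Group G] [Finite G] [IsCyclic G] {d : ℕ}
    (hd : d ∣ Nat.card G) : ∃ x : G, orderOf x = d := by
  obtain ⟨g, hg⟩ := IsCyclic.exists_generator (α := G)
  have hog : orderOf g = Nat.card G := orderOf_eq_card_of_forall_mem_zpowers hg
  obtain ⟨m, hm⟩ := hd
  refine ⟨g ^ m, ?_⟩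
  have hG0 : Nat.card G ≠ 0 := Nat.card_pos.ne'
  have hm0 : 0 < m := Nat.pos_of_ne_zero (by rintro rfl; simp at hm; exact hG0 hm)
  have hd0 : 0 < d := Nat.pos_of_ne_zero (by rintro rfl; simp at hm; exact hG0 hm)
  rw [orderOf_pow_of_dvd hm0.ne' (by rw [hog, hm]; exact Dvd.intro_left d rfl), hog, hm]
  exact Nat.mul_div_cancel _ hm0

set_option linter.unusedSectionVars false

variable {F : Type*} [Field F] [Fintype F]

/-- The split torus as a morphism. -/
noncomputable def torusHom : Fˣ →* SpecialLinearGroup (Fin 2) F where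
  toFun a := ⟨!![(a : F), 0; 0, ((a⁻¹ : Fˣ) : F)], by simp [Matrix.det_fin_two_of]⟩
  map_one' := by ext i j; fin_cases i <;> fin_cases j <;> simp
  map_mul' a b := by
    apply Subtype.ext
    change _ = !![(a : F), 0; 0, ((a⁻¹ : Fˣ) : F)] * !![(b : F), 0; 0, ((b⁻¹ : Fˣ) : F)]
    ext i j
    fin_cases i <;> fin_cases j <;> simp [Matrix.mul_fin_two, mul_comm]

theorem torusHom_coe (a : Fˣ) :
    (torusHom a : Matrix (Fin 2) (Fin 2) F) = !![(a : F), 0; 0, ((a⁻¹ : Fˣ) : F)] := rfl

theorem torusHom_injective : Function.Injective (torusHom (F := F)) := by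
  intro a b hab
  have := congrArg (fun g : SpecialLinearGroup (Fin 2) F => g.1 0 0) hab
  simp only [torusHom_coe] at this
  simpa [Units.ext_iff] using this

/-- `J = [[0,1],[-1,0]]` in `SL_2`. -/
noncomputable def J : SpecialLinearGroup (Fin 2) F :=
  ⟨!![0, 1; -1, 0], by simp [Matrix.det_fin_two_of]⟩

theorem J_coe : ((J : SpecialLinearGroup (Fin 2) F) : Matrix (Fin 2) (Fin 2) F) = !![0, 1; -1, 0] := rfl

theorem J_mul_J : (J : SpecialLinearGroup (Fin 2) F) * J = -1 := by
  apply Subtype.ext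
  change (!![0, 1; -1, 0] * !![0, 1; -1, 0] : Matrix (Fin 2) (Fin 2) F) = -1
  ext i j
  fin_cases i <;> fin_cases j <;> simp [Matrix.mul_fin_two]

theorem J_conj_torus (a : Fˣ) :
    (J : SpecialLinearGroup (Fin 2) F) * torusHom a * J⁻¹ = (torusHom a)⁻¹ := by
  rw [mul_inv_eq_iff_eq_mul, ← map_inv]
  apply Subtype.ext
  change (!![0, 1; -1, 0] * !![(a : F), 0; 0, ((a⁻¹ : Fˣ) : F)] : Matrix (Fin 2) (Fin 2) F) =
    !![((a⁻¹ : Fˣ) : F), 0; 0, ((a⁻¹⁻¹ : Fˣ) : F)] * !![0, 1; -1, 0]
  ext i j
  fin_cases i <;> fin_cases j <;> simp [Matrix.mul_fin_two]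

/-- The split torus: elements of each order dividing `q - 1`, inverted by `J`. -/
theorem exists_split {d : ℕ} (hd : d ∣ Fintype.card F - 1) :
    ∃ A : SpecialLinearGroup (Fin 2) F, orderOf A = d ∧
      (J : SpecialLinearGroup (Fin 2) F) * A * J⁻¹ = A⁻¹ := by
  have hc : Nat.card Fˣ = Fintype.card F - 1 := by
    rw [Nat.card_units, Nat.card_eq_fintype_card]
  obtain ⟨x, hx⟩ := exists_orderOf_of_dvd (G := Fˣ) (d := d) (hc ▸ hd)
  refine ⟨torusHom x, ?_, J_conj_torus x⟩
  rw [orderOf_injective _ torusHom_injective, hx]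

/-- A `2 × 2` matrix whose square is `-1` and which is not scalar has determinant one. -/
theorem det_eq_one_of_sq_eq_neg_one {W A : Matrix (Fin 2) (Fin 2) F} (hW : W * W = -1)
    (hA : W * A ≠ A * W) : W.det = 1 := by
  have e00 := congrFun (congrFun hW 0) 0
  have e01 := congrFun (congrFun hW 0) 1
  have e10 := congrFun (congrFun hW 1) 0
  have e11 := congrFun (congrFun hW 1) 1
  simp [Matrix.mul_apply, Fin.sum_univ_two] at e00 e01 e10 e11
  rw [Matrix.det_fin_two]
  by_cases h : W 0 0 + W 1 1 = 0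
  · have hd : W 1 1 = - W 0 0 := by linear_combination h
    rw [hd]
    linear_combination -e00
  · exfalso
    apply hA
    have hb : W 0 1 = 0 := by
      have : (W 0 0 + W 1 1) * W 0 1 = 0 := by linear_combination e01
      exact (mul_eq_zero.1 this).resolve_left h
    have hc : W 1 0 = 0 := by
      have : (W 0 0 + W 1 1) * W 1 0 = 0 := by linear_combination e10
      exact (mul_eq_zero.1 this).resolve_left h
    have had : W 0 0 = W 1 1 := by
      have : (W 0 0 + W 1 1) * (W 0 0 - W 1 1) = 0 := by linear_combination e00 - e11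
      exact sub_eq_zero.1 ((mul_eq_zero.1 this).resolve_left h)
    ext i j
    fin_cases i <;> fin_cases j <;>
      simp [Matrix.mul_apply, Fin.sum_univ_two, hb, hc, had] <;> ring

section nonsplit

variable {K : Type*} [Field K] [Algebra F K] [Finite K]

local notation "q" => Fintype.card F

theorem pow_card_sq_eq (hK : Module.finrank F K = 2) (x : K) : (x ^ q) ^ q = x := by
  have := Fintype.ofFinite K
  have hc : Fintype.card K = q ^ 2 := by
    have := Module.card_eq_pow_finrank (K := F) (V := K)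
    rw [this, hK]
  rw [← pow_mul, ← sq, ← hc, FiniteField.pow_card]

/-- The semilinear map `x ↦ y x^q`, as an `F`-linear endomorphism. -/
noncomputable def wEnd (y : K) : Module.End F K :=
  LinearMap.mulLeft F y ∘ₗ (FiniteField.frobeniusAlgHom F K).toLinearMap

theorem wEnd_apply (y x : K) : wEnd (F := F) y x = y * x ^ q := rfl

theorem norm_pow_eq (hK : Module.finrank F K = 2) (x : K) :
    algebraMap F K (Algebra.norm F x) = x ^ (q + 1) := by
  rw [FiniteField.algebraMap_norm_eq_pow]
  congr 1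
  have := Fintype.ofFinite K
  have hc : Nat.card K = q ^ 2 := by
    rw [Nat.card_eq_fintype_card, Module.card_eq_pow_finrank (K := F) (V := K), hK]
  rw [hc, Nat.card_eq_fintype_card]
  have hq : 1 < q := Fintype.one_lt_card
  have : q ^ 2 - 1 = (q + 1) * (q - 1) := by
    obtain ⟨k, hk⟩ : ∃ k, q = k + 1 := ⟨q - 1, by omega⟩
    rw [hk]
    simp only [Nat.add_sub_cancel]
    have : (k + 1) ^ 2 = (k + 1 + 1) * k + 1 := by ring
    omega
  rw [this]
  exact Nat.mul_div_cancel _ (by omega)

variable (b : Module.Basis (Fin 2) F K)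

/-- The left multiplication matrix of a norm one element. -/
noncomputable def normOne (h : K) (hh : h ^ (q + 1) = 1) (hK : Module.finrank F K = 2) :
    SpecialLinearGroup (Fin 2) F :=
  ⟨Algebra.leftMulMatrix b h, by
    rw [← Algebra.norm_eq_matrix_det]
    apply (algebraMap F K).injective
    rw [norm_pow_eq hK, hh, map_one]⟩

theorem normOne_coe (h : K) (hh : h ^ (q + 1) = 1) (hK : Module.finrank F K = 2) :
    (normOne b h hh hK : Matrix (Fin 2) (Fin 2) F) = Algebra.leftMulMatrix b h := rfl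

theorem orderOf_normOne (h : K) (hh : h ^ (q + 1) = 1) (hK : Module.finrank F K = 2) :
    orderOf (normOne b h hh hK) = orderOf h := by
  rw [orderOf_eq_orderOf_iff]
  intro m
  have inj : Function.Injective (Algebra.leftMulMatrix b) := Algebra.leftMulMatrix_injective b
  have key : (normOne b h hh hK ^ m : SpecialLinearGroup (Fin 2) F).1 =
      Algebra.leftMulMatrix b (h ^ m) := by
    rw [map_pow]; rfl
  constructor
  · intro e
    apply inj
    rw [← key, e, map_one]
    rfl
  · intro e
    apply Subtype.ext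
    rw [key, e, map_one]
    rfl

theorem exists_normOne_elem (hK : Module.finrank F K = 2) {d : ℕ} (hd : d ∣ q + 1) :
    ∃ h : K, orderOf h = d ∧ h ^ (q + 1) = 1 := by
  have := Fintype.ofFinite K
  have hc : Nat.card K = q ^ 2 := by
    rw [Nat.card_eq_fintype_card, Module.card_eq_pow_finrank (K := F) (V := K), hK]
  have hq : 1 < q := Fintype.one_lt_card
  have hm : q ^ 2 - 1 = (q + 1) * (q - 1) := by
    obtain ⟨k, hk⟩ : ∃ k, q = k + 1 := ⟨q - 1, by omega⟩
    rw [hk]
    simp only [Nat.add_sub_cancel]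
    have : (k + 1) ^ 2 = (k + 1 + 1) * k + 1 := by ring
    omega
  have hcu : Nat.card Kˣ = (q + 1) * (q - 1) := by rw [Nat.card_units, hc, hm]
  obtain ⟨x, hx⟩ := exists_orderOf_of_dvd (G := Kˣ) (d := d) (hcu ▸ hd.mul_right _)
  refine ⟨x, by rw [orderOf_units, hx], ?_⟩
  have : x ^ (q + 1) = 1 := orderOf_dvd_iff_pow_eq_one.1 (hx ▸ hd)
  rw [← Units.val_pow_eq_pow_val, this, Units.val_one]

theorem wEnd_mul_self (hK : Module.finrank F K = 2) (y : K) (hy : y ^ (q + 1) = -1) :
    wEnd (F := F) y * wEnd y = -1 := by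
  ext x
  change y * (y * x ^ q) ^ q = -x
  rw [mul_pow, pow_card_sq_eq hK, ← mul_assoc, ← pow_succ', hy]
  ring

theorem wEnd_mul_mulLeft (y h : K) :
    wEnd (F := F) y * LinearMap.mulLeft F h = LinearMap.mulLeft F (h ^ q) * wEnd y := by
  ext x
  change y * (h * x) ^ q = h ^ q * (y * x ^ q)
  rw [mul_pow]
  ring

theorem toMatrixAlgEquiv_mulLeft (h : K) :
    LinearMap.toMatrixAlgEquiv b (LinearMap.mulLeft F h) = Algebra.leftMulMatrix b h := by
  rw [← Algebra.toMatrix_lmul_eq]
  ext i j
  simp [LinearMap.toMatrixAlgEquiv_apply, LinearMap.toMatrix_apply]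

/-- The nonsplit torus, with an element inverting it of square `-1`. -/
theorem exists_nonsplit_of_ext (hK : Module.finrank F K = 2) {d : ℕ} (hd : d ∣ q + 1) :
    ∃ A : SpecialLinearGroup (Fin 2) F, orderOf A = d ∧
      (2 < d → ∃ W : SpecialLinearGroup (Fin 2) F, W * W = -1 ∧ W * A * W⁻¹ = A⁻¹) := by
  obtain ⟨h, hod, hh⟩ := exists_normOne_elem (F := F) hK hd
  have b : Module.Basis (Fin 2) F K := Module.finBasisOfFinrankEq F K hK
  refine ⟨normOne b h hh hK, by rw [orderOf_normOne, hod], fun h2 => ?_⟩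
  obtain ⟨y, hy⟩ := FiniteField.norm_surjective F K (-1)
  have hy' : y ^ (q + 1) = -1 := by
    rw [← norm_pow_eq hK, hy, map_neg, map_one]
  set Φ := LinearMap.toMatrixAlgEquiv b (R := F) with hΦ
  set W0 : Matrix (Fin 2) (Fin 2) F := Φ (wEnd y) with hW0
  have hWW : W0 * W0 = -1 := by
    rw [hW0, ← map_mul, wEnd_mul_self hK y hy', map_neg, map_one]
  have hh' : (h ^ q) ^ (q + 1) = 1 := by rw [← pow_mul, mul_comm, pow_mul, hh, one_pow]
  have hWA : W0 * Algebra.leftMulMatrix b h = Algebra.leftMulMatrix b (h ^ q) * W0 := by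
    rw [hW0, ← toMatrixAlgEquiv_mulLeft, ← toMatrixAlgEquiv_mulLeft, ← map_mul, ← map_mul,
      wEnd_mul_mulLeft]
  have hhq : h * h ^ q = 1 := by rw [← pow_succ', hh]
  have hne : W0 * Algebra.leftMulMatrix b h ≠ Algebra.leftMulMatrix b h * W0 := by
    intro e
    rw [hWA] at e
    have hWinv : W0 * (-W0) = 1 := by rw [mul_neg, hWW, neg_neg]
    have e2 : Algebra.leftMulMatrix b (h ^ q) = Algebra.leftMulMatrix b h := by
      have := congrArg (· * (-W0)) e
      simpa [mul_assoc, hWW] using this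
    have e3 : h ^ q = h := Algebra.leftMulMatrix_injective b e2
    rw [e3] at hhq
    have : orderOf h ∣ 2 := orderOf_dvd_of_pow_eq_one (by rw [sq, hhq])
    have := Nat.le_of_dvd (by norm_num) this
    omega
  have hdet : W0.det = 1 := det_eq_one_of_sq_eq_neg_one hWW hne
  let W : SpecialLinearGroup (Fin 2) F := ⟨W0, hdet⟩
  have hAinv : (normOne b h hh hK)⁻¹ = normOne b (h ^ q) hh' hK := by
    apply inv_eq_of_mul_eq_one_right
    apply Subtype.ext
    change Algebra.leftMulMatrix b h * Algebra.leftMulMatrix b (h ^ q) = 1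
    rw [← map_mul, hhq, map_one]
  refine ⟨W, Subtype.ext hWW, ?_⟩
  rw [hAinv, mul_inv_eq_iff_eq_mul]
  exact Subtype.ext hWA

end nonsplit

/-- The nonsplit torus of `SL_2(q)`. -/
theorem exists_nonsplit {d : ℕ} (hd : d ∣ Fintype.card F + 1) :
    ∃ A : SpecialLinearGroup (Fin 2) F, orderOf A = d ∧
      (2 < d → ∃ W : SpecialLinearGroup (Fin 2) F, W * W = -1 ∧ W * A * W⁻¹ = A⁻¹) := by
  obtain ⟨p, hp⟩ := CharP.exists F
  have : Fact p.Prime := ⟨CharP.char_is_prime F p⟩
  exact exists_nonsplit_of_ext (K := FiniteField.Extension F p 2)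
    (FiniteField.finrank_extension F p 2) hd

end Cfsg.Agent.Lib.SL2Tori
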