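import Mathlib
import Cfsg.Agent.Lib.ChevFix2

/-!
# The unipotent radical of the Borel subgroup is a Sylow subgroup

The number of chambers is `1` modulo `p` since `U` fixes a single chamber, and `B / U` has exponent dividing `q - 1`.
-/

set_option autoImplicit false
set_option linter.unusedSectionVars false
set_option linter.unusedVariables false
set_option linter.unnecessarySimpa false

namespace Cfsg.Agent.Lib.ChevSylow

open Cfsg.Lie Matrix Cfsg.Agent.Lib.Chev Cfsg.Agent.Lib.Chev.Full Cfsg.Agent.Lib.ChevFix Cfsg.Agent.Lib.ChevFix2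

variable {T : Tabs} {X : Extra} {R : RootTab} {D : ChevalleyDatum} (hF : Full T X R D)
variable {F : Type*} [Field F] [Fintype F]

include hF

theorem isPGroup_U (p : ℕ) [Fact p.Prime] [CharP F p] :
    IsPGroup p ((D.posUnipotent F).subgroupOf (D.group F)) := by
  obtain ⟨n, hp, hn⟩ := FiniteField.card F p
  have h1 : Nat.card ((D.posUnipotent F).subgroupOf (D.group F)) = Nat.card (D.posUnipotent F) :=
    Nat.card_congr (Subgroup.subgroupOfEquivOfLe hF.c.posUnipotent_le_group).toEquiv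
  apply IsPGroup.of_card (n := n * R.N)
  rw [h1, hF.card_U_fintype, hn, pow_mul]

theorem card_chambers (p : ℕ) [Fact p.Prime] [CharP F p] :
    ¬ p ∣ Nat.card (↥(D.group F) ⧸ (hF.bnPair F).B) := by
  classical
  haveI : Finite ↥(D.group F) := inferInstance
  let US : Subgroup ↥(D.group F) := (D.posUnipotent F).subgroupOf (D.group F)
  have hP : IsPGroup p US := isPGroup_U hF p
  have hc := IsPGroup.card_modEq_card_fixedPoints (p := p) hP (↥(D.group F) ⧸ (hF.bnPair F).B)
  have hfix : Nat.card (MulAction.fixedPoints US (↥(D.group F) ⧸ (hF.bnPair F).B)) = 1 := by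
    rw [Nat.card_eq_one_iff_unique]
    refine ⟨⟨?_⟩, ⟨⟨((1 : ↥(D.group F)) : ↥(D.group F) ⧸ (hF.bnPair F).B), ?_⟩⟩⟩
    · rintro ⟨a, ha⟩ ⟨a', ha'⟩
      have key : ∀ a : ↥(D.group F) ⧸ (hF.bnPair F).B, a ∈ MulAction.fixedPoints US (↥(D.group F) ⧸ (hF.bnPair F).B) →
          a = ((1 : ↥(D.group F)) : ↥(D.group F) ⧸ (hF.bnPair F).B) := by
        intro a ha
        obtain ⟨x, rfl⟩ := QuotientGroup.mk_surjective a
        have hx : x ∈ (hF.bnPair F).B := by
          apply mem_B_of_conj hF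
          intro u hu
          have h1 := ha ⟨u, Subgroup.mem_subgroupOf.2 hu⟩
          have h2 : (u * x : ↥(D.group F)) = ((⟨u, Subgroup.mem_subgroupOf.2 hu⟩ : US) : ↥(D.group F)) * x := rfl
          have h3 : (((u * x : ↥(D.group F))) : ↥(D.group F) ⧸ (hF.bnPair F).B) = (x : ↥(D.group F) ⧸ (hF.bnPair F).B) := h1
          have h4 := QuotientGroup.eq.1 h3
          have h5 := (hF.bnPair F).B.inv_mem h4
          have e : x⁻¹ * u * x = ((u * x)⁻¹ * x)⁻¹ := by group
          rw [e]
          exact h5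
        apply QuotientGroup.eq.2
        simpa using hx
      apply Subtype.ext
      exact (key a ha).trans (key a' ha').symm
    · intro u
      have hu : u.1.1 ∈ D.posUnipotent F := Subgroup.mem_subgroupOf.1 u.2
      show ((u.1 * (1 : ↥(D.group F)) : ↥(D.group F)) : ↥(D.group F) ⧸ (hF.bnPair F).B) = _
      apply QuotientGroup.eq.2
      have : u.1 ∈ (hF.bnPair F).B := Subgroup.mem_subgroupOf.2 (hF.c.posUnipotent_le_borel hu)
      simpa using (hF.bnPair F).B.inv_mem this
  rw [hfix] at hc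
  intro hd
  have h0 : Nat.card (↥(D.group F) ⧸ (hF.bnPair F).B) ≡ 0 [MOD p] := (Nat.modEq_zero_iff_dvd).2 hd
  have h1 : 0 ≡ 1 [MOD p] := h0.symm.trans hc
  have h2 := (Nat.modEq_zero_iff_dvd.1 h1.symm)
  exact (Fact.out : p.Prime).one_lt.ne' (Nat.dvd_one.1 h2)

theorem borel_index (p : ℕ) [Fact p.Prime] [CharP F p] :
    ¬ p ∣ ((D.posUnipotent F).subgroupOf (D.group F)).relIndex (hF.bnPair F).B := by
  classical
  haveI : Finite ↥(D.group F) := inferInstance
  let B := (hF.bnPair F).B
  let US : Subgroup ↥(D.group F) := (D.posUnipotent F).subgroupOf (D.group F)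
  have hnorm : (US.subgroupOf B).Normal := by
    refine ⟨fun n hn g => ?_⟩
    rw [Subgroup.mem_subgroupOf] at hn ⊢
    have h1 : n.1.1 ∈ D.posUnipotent F := Subgroup.mem_subgroupOf.1 hn
    have h2 : g.1.1 ∈ D.borelSubgroup F := Subgroup.mem_subgroupOf.1 g.2
    exact Subgroup.mem_subgroupOf.2 (conj_U_of_borel hF h2 h1)
  haveI := hnorm
  show ¬ p ∣ (US.subgroupOf B).index
  rw [Subgroup.index_eq_card]
  intro hd
  obtain ⟨x, hx⟩ := exists_prime_orderOf_dvd_card' p hd
  obtain ⟨b, rfl⟩ := QuotientGroup.mk_surjective x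
  obtain ⟨u, hu, t, ht, he⟩ := (hF.mem_borel_iff).1 (Subgroup.mem_subgroupOf.1 b.2)
  have hq : p ∣ Fintype.card F := by
    obtain ⟨n, hp, hn⟩ := FiniteField.card F p
    rw [hn]
    exact dvd_pow_self _ n.ne_zero
  have hpow : ((b : ↥B) : ↥B ⧸ US.subgroupOf B) ^ (Fintype.card Fˣ) = 1 := by
    obtain ⟨c, rfl⟩ := (hF.mem_diagonal_iff).1 ht
    have h3 : (tor R D c) ^ (Fintype.card Fˣ) = 1 := by
      have : (tor R D c) ^ (Fintype.card Fˣ) = tor R D (c ^ (Fintype.card Fˣ)) := by
        show (torHom R D c) ^ _ = torHom R D _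
        rw [map_pow]
      rw [this]
      have : c ^ (Fintype.card Fˣ) = 1 := by
        funext i
        simp only [Pi.pow_apply, Pi.one_apply]
        exact pow_card_eq_one
      rw [this, tor_one]
    have hdG : tor R D c ∈ D.group F := hF.c.borel_le_group (hF.c.diagonal_le_borel ht)
    have hdB : (⟨tor R D c, hdG⟩ : ↥(D.group F)) ∈ B :=
      Subgroup.mem_subgroupOf.2 (hF.c.diagonal_le_borel ht)
    have huG : u ∈ D.group F := hF.c.posUnipotent_le_group hu
    have huB : (⟨u, huG⟩ : ↥(D.group F)) ∈ B :=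
      Subgroup.mem_subgroupOf.2 (hF.c.posUnipotent_le_borel hu)
    have hb : b = (⟨⟨u, huG⟩, huB⟩ : ↥B) * ⟨⟨tor R D c, hdG⟩, hdB⟩ := by
      apply Subtype.ext
      apply Subtype.ext
      exact he
    have hmk : ((⟨⟨u, huG⟩, huB⟩ : ↥B) : ↥B ⧸ US.subgroupOf B) = 1 := by
      apply (QuotientGroup.eq_one_iff _).2
      exact Subgroup.mem_subgroupOf.2 (Subgroup.mem_subgroupOf.2 hu)
    rw [hb, QuotientGroup.mk_mul, hmk, one_mul, ← QuotientGroup.mk_pow]
    apply (QuotientGroup.eq_one_iff _).2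
    have : ((⟨⟨tor R D c, hdG⟩, hdB⟩ : ↥B) ^ (Fintype.card Fˣ)) = 1 := by
      apply Subtype.ext
      apply Subtype.ext
      exact h3
    rw [this]
    exact Subgroup.one_mem _
  have hd2 := orderOf_dvd_of_pow_eq_one hpow
  rw [hx] at hd2
  have hcardu : Fintype.card Fˣ + 1 = Fintype.card F := by
    rw [Fintype.card_units]
    have : 0 < Fintype.card F := Fintype.card_pos
    omega
  have h1 : p ∣ 1 := by
    have := (Nat.dvd_add_right hd2).1 (hcardu ▸ hq)
    exact this
  exact (Fact.out : p.Prime).one_lt.ne' (Nat.dvd_one.1 h1)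

theorem sylow_main (p : ℕ) [Fact p.Prime] [CharP F p] :
    ∃ P : Sylow p ↥(D.group F), (P : Subgroup ↥(D.group F)) = (D.posUnipotent F).subgroupOf (D.group F) := by
  classical
  haveI : Finite ↥(D.group F) := inferInstance
  have hle : (D.posUnipotent F).subgroupOf (D.group F) ≤ (hF.bnPair F).B := by
    intro x hx
    exact Subgroup.mem_subgroupOf.2 (hF.c.posUnipotent_le_borel (Subgroup.mem_subgroupOf.1 hx))
  have hidx : ¬ p ∣ ((D.posUnipotent F).subgroupOf (D.group F)).index := by
    rw [← Subgroup.relIndex_mul_index hle]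
    intro hd
    rcases (Nat.Prime.dvd_mul (Fact.out : p.Prime)).1 hd with h | h
    · exact borel_index hF p h
    · exact card_chambers hF p (by rwa [Subgroup.index_eq_card] at h)
  exact ⟨(isPGroup_U hF p).toSylow hidx, rfl⟩

end Cfsg.Agent.Lib.ChevSylow
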