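import Cfsg.Agent.Lib.Chev.Prod
import Cfsg.Agent.Lib.Chev.BNPairChev
import Cfsg.Agent.Lib.BNPair

/-!
# The canonical form `g = b n u` in a Chevalley group

* `U = U_P U_Q` when the sets `P`, `Q` of roots cover the positive roots;
* every element of the group is `b n u`, with `u` in the subgroup generated by the root subgroups
  which `n` sends into `V`;
* uniqueness.
-/

namespace Cfsg.Agent.Lib.Chev

open Cfsg.Lie Matrix

variable {F : Type*} [Field F]

namespace Full

variable {T : Tabs} {X : Extra} {R : RootTab} {D : ChevalleyDatum} (hF : Full T X R D)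

include hF

/-- Positive root elements normalise the subgroups `U_k`. -/
theorem xG_mem_normalizer_Uk {r k : ℕ} (hr : r < D.nroots) (hpos : R.N ≤ r) (hk : R.N ≤ k) (t : F) :
    hF.c.xG r t ∈ Subgroup.normalizer (Uk D F k : Set (GL D.Idx F)) := by
  apply hF.xG_mem_normalizer hr
  · rintro s ⟨hs1, hs2⟩
    refine ⟨hs2, ?_⟩
    have := hF.neg_lt_N hr hpos
    omega
  · rintro s ⟨hs1, hs2⟩ hsr c hc
    have hsneg : s ≠ D.neg r := by
      have := hF.neg_lt_N hr hpos
      omega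
    have h1 := hF.commTerm_pos hr hs2 hsr hsneg hc hpos (by omega)
    have h2 := hF.commTerms_spec hr hs2 hsr hsneg hc
    exact ⟨by omega, h2.1⟩

theorem U_le_normalizer_Uk {k : ℕ} (hk : R.N ≤ k) :
    D.posUnipotent F ≤ Subgroup.normalizer (Uk D F k : Set (GL D.Idx F)) := by
  rw [ChevalleyDatum.posUnipotent, Subgroup.closure_le]
  rintro g ⟨r, t, hr, hg⟩
  rw [hF.c.eq_xG hg]
  have hr' := (hF.isPos_iff).1 hr
  exact hF.xG_mem_normalizer_Uk hr'.1 hr'.2 hk t

/-- The commutator of a positive root element with `U` is higher. -/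
theorem comm_xG_mem_Uk {k : ℕ} (hk : R.N ≤ k) (hkn : k < D.nroots) {b : GL D.Idx F}
    (hb : b ∈ D.posUnipotent F) : ∀ t : F,
    b * hF.c.xG k t * b⁻¹ * (hF.c.xG k t)⁻¹ ∈ Uk D F (k + 1) := by
  have hnorm := hF.U_le_normalizer_Uk (F := F) (k := k + 1) (by omega)
  have hconj : ∀ g ∈ D.posUnipotent F, ∀ y ∈ Uk D F (k + 1), g * y * g⁻¹ ∈ Uk D F (k + 1) := by
    intro g hg y hy
    exact (Subgroup.mem_set_normalizer_iff.1 (hnorm hg) y).1 hy
  rw [ChevalleyDatum.posUnipotent] at hb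
  induction hb using Subgroup.closure_induction with
  | mem g hg =>
    intro t
    have hx : hF.c.xG k t ∈ D.posUnipotent F := hF.xG_mem_U hkn hk t
    obtain ⟨s, v, hs, hg⟩ := hg
    rw [hF.c.eq_xG hg]
    have hs' := (hF.isPos_iff).1 hs
    by_cases hsk : s = k
    · subst hsk
      rw [hF.c.xG_inv, hF.c.xG_add, hF.c.xG_inv, hF.c.xG_add, hF.c.xG_add]
      have : v + t + -v + -t = 0 := by ring
      rw [this, hF.c.xG_zero]
      exact Subgroup.one_mem _
    · have hneg : k ≠ D.neg s := by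
        have := hF.neg_lt_N hs'.1 hs'.2
        omega
      rw [hF.xG_conj hs'.1 hkn (Ne.symm hsk) hneg]
      apply hconj _ hx
      apply hF.c.wordG_mem
      intro p hp
      simp only [ChevalleyDatum.commWord, List.mem_map] at hp
      obtain ⟨c, hc, rfl⟩ := hp
      have h3 := hF.commTerm_pos hs'.1 hkn (Ne.symm hsk) hneg hc hs'.2 hk
      have h4 := hF.commTerms_spec hs'.1 hkn (Ne.symm hsk) hneg hc
      exact hF.xG_mem_rootClosure ⟨by omega, h4.1⟩ _
  | one =>
    intro t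
    simp only [one_mul, inv_one, mul_one, mul_inv_cancel]
    exact Subgroup.one_mem _
  | mul a b ha hb iha ihb =>
    intro t
    have h1 : a * b * hF.c.xG k t * (a * b)⁻¹ * (hF.c.xG k t)⁻¹ =
        a * (b * hF.c.xG k t * b⁻¹ * (hF.c.xG k t)⁻¹) * a⁻¹ *
          (a * hF.c.xG k t * a⁻¹ * (hF.c.xG k t)⁻¹) := by group
    rw [h1]
    exact Subgroup.mul_mem _ (hconj _ ha _ (ihb t)) (iha t)
  | inv a ha iha =>
    intro t
    have h1 : a⁻¹ * hF.c.xG k t * a⁻¹⁻¹ * (hF.c.xG k t)⁻¹ =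
        a⁻¹ * (a * hF.c.xG k t * a⁻¹ * (hF.c.xG k t)⁻¹)⁻¹ * a⁻¹⁻¹ := by
      group
    rw [h1]
    exact hconj _ (Subgroup.inv_mem _ ha) _ (Subgroup.inv_mem _ (iha t))

/-- `U = U_P U_Q` when `P` and `Q` cover the positive roots. -/
theorem exists_factor (P Q : ℕ → Prop) (hPQ : ∀ r, D.IsPosRoot r → P r ∨ Q r) {u : GL D.Idx F}
    (hu : u ∈ D.posUnipotent F) :
    ∃ a ∈ rootClosure D F P, ∃ b ∈ rootClosure D F Q, u = a * b := by
  -- descending induction on the filtration: `u = a b w` with `w ∈ U_k`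
  have key : ∀ m k : ℕ, k + m = D.nroots → R.N ≤ k →
      (∃ a ∈ rootClosure D F P, ∃ b ∈ rootClosure D F Q, ∃ w ∈ Uk D F k,
        b ∈ D.posUnipotent F ∧ u = a * b * w) →
      ∃ a ∈ rootClosure D F P, ∃ b ∈ rootClosure D F Q, u = a * b := by
    intro m
    induction m with
    | zero =>
      rintro k hk hkN ⟨a, ha, b, hb, w, hw, -, hu'⟩
      obtain ⟨t, rfl⟩ := hF.exists_ordW 0 k hk hkN w hw
      rw [hF.ordW_of_ge (by omega), mul_one] at hu'
      exact ⟨a, ha, b, hb, hu'⟩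
    | succ m ih =>
      rintro k hk hkN ⟨a, ha, b, hb, w, hw, hbU, hu'⟩
      have hkn : k < D.nroots := by omega
      obtain ⟨t, rfl⟩ := hF.exists_ordW (m + 1) k hk hkN w hw
      rw [hF.ordW_succ hkn] at hu'
      have hw' := hF.ordW_mem (F := F) (k + 1) t
      have hpos : D.IsPosRoot k := (hF.isPos_iff).2 ⟨hkn, hkN⟩
      rcases hPQ k hpos with hP | hQ
      · -- move `x_k` to the left of `b`
        have h1 := hF.comm_xG_mem_Uk hkN hkn (Subgroup.inv_mem _ hbU) (-t k)
        rw [← hF.c.xG_inv, inv_inv, inv_inv] at h1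
        apply ih (k + 1) (by omega) (by omega)
        refine ⟨a * hF.c.xG k (t k), Subgroup.mul_mem _ ha (hF.xG_mem_rootClosure hP _), b, hb,
          b⁻¹ * (hF.c.xG k (t k))⁻¹ * b * hF.c.xG k (t k) * hF.ordW (k + 1) t,
          Subgroup.mul_mem _ h1 hw', hbU, ?_⟩
        rw [hu']
        group
      · apply ih (k + 1) (by omega) (by omega)
        refine ⟨a, ha, b * hF.c.xG k (t k), Subgroup.mul_mem _ hb (hF.xG_mem_rootClosure hQ _),
          hF.ordW (k + 1) t, hw', Subgroup.mul_mem _ hbU (hF.xG_mem_U hkn hkN _), ?_⟩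
        rw [hu']
        group
  have h2 := hF.two
  refine key R.N R.N (by omega) le_rfl ⟨1, Subgroup.one_mem _, 1, Subgroup.one_mem _, u, ?_,
    Subgroup.one_mem _, by simp⟩
  rw [← hF.U_eq_Uk]
  exact hu

end Full

end Cfsg.Agent.Lib.Chev
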