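import Cfsg.Agent.Lib.BorelTits50

/-!
# The centralizer of a unipotent radical has no nontrivial `p'`-elements

The Chevalley groups here are given in their adjoint representation, so there is no centre.
-/

set_option autoImplicit false
set_option linter.unusedSectionVars false
set_option linter.unusedVariables false

namespace Cfsg.Agent.Lib.ChevCent50

open Cfsg Cfsg.Lie Cfsg.Agent.Lib.Chev Matrix

variable {F : Type*} [Field F] {T : Tabs} {X : Extra} {R : RootTab} {D : ChevalleyDatum}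

/-- A check of the spanning condition. -/
def spanCheck (D : ChevalleyDatum) : Bool :=
  (List.range D.rank).all fun i => (List.range D.rank).all fun m => i == m ||
    (List.range D.nroots).any fun r => decide (D.IsPosRoot r) &&
      ((D.coroot.getD r #[]).getD i 0 != 0) && (D.cartan m r == 1 || D.cartan m r == -1)

/-- The spanning condition: for two different fundamental roots, some positive root involving the
first has a Cartan number `± 1` with respect to the second. -/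
def SpanH (D : ChevalleyDatum) : Prop :=
  ∀ i m, i < D.rank → m < D.rank → i ≠ m → ∃ r, D.IsPosRoot r ∧
    (D.coroot.getD r #[]).getD i 0 ≠ 0 ∧ (D.cartan m r = 1 ∨ D.cartan m r = -1)

theorem spanH_of_check {D : ChevalleyDatum} (h : spanCheck D = true) : SpanH D := by
  intro i m hi hm hne
  unfold spanCheck at h
  rw [List.all_eq_true] at h
  have h1 := h i (List.mem_range.2 hi)
  rw [List.all_eq_true] at h1
  have h2 := h1 m (List.mem_range.2 hm)
  rw [Bool.or_eq_true] at h2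
  rcases h2 with h2 | h2
  · exact absurd (by simpa using h2) hne
  · rw [List.any_eq_true] at h2
    obtain ⟨r, hr, h3⟩ := h2
    simp only [Bool.and_eq_true, decide_eq_true_eq, bne_iff_ne, Bool.or_eq_true, beq_iff_eq] at h3
    exact ⟨r, h3.1.1, h3.1.2, h3.2⟩

theorem spanG2 : SpanH chevG2 := spanH_of_check (by decide +kernel)
theorem spanF4 : SpanH chevF4 := spanH_of_check (by decide +kernel)
theorem spanE8 : SpanH chevE8 := spanH_of_check (by decide +kernel)
theorem spanE7 : SpanH chevE7 := spanH_of_check (by decide +kernel)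
theorem spanE6 : SpanH chevE6 := spanH_of_check (by decide +kernel)
theorem spanD4 : SpanH chevD4 := spanH_of_check (by decide +kernel)

/-- Leading term: conjugation by a positive root element. -/
theorem conj_lead_gen (hF : Full T X R D) {r s : ℕ} (hr : r < D.nroots) (hN : R.N ≤ r)
    (hs : s < D.nroots) (hsN : R.N ≤ s) (a t : F) :
    ∃ w ∈ Full.Uk D F (r + 1),
      hF.c.xG s a * hF.c.xG r t * (hF.c.xG s a)⁻¹ = hF.c.xG r t * w := by
  by_cases h : r = s
  · subst h
    refine ⟨1, one_mem _, ?_⟩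
    rw [hF.c.xG_inv, hF.c.xG_add, hF.c.xG_add, mul_one]
    congr 1
    ring
  · have hne : r ≠ D.neg s := by
      have := hF.neg_lt_N hs hsN
      omega
    rw [hF.xG_conj hs hr h hne]
    refine ⟨_, ?_, rfl⟩
    apply hF.c.wordG_mem
    intro p hp
    simp only [ChevalleyDatum.commWord, List.mem_map] at hp
    obtain ⟨c, hc, rfl⟩ := hp
    have h2 := hF.commTerm_pos hs hr h hne hc hsN hN
    have h3 := hF.commTerms_spec hs hr h hne hc
    exact hF.xG_mem_rootClosure ⟨by omega, h3.1⟩ _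

theorem xG_mem_normalizer_Uk (hF : Full T X R D) {s k : ℕ} (hs : s < D.nroots) (hsN : R.N ≤ s)
    (hk : R.N ≤ k) (a : F) :
    hF.c.xG s a ∈ Subgroup.normalizer (Full.Uk D F k : Set (GL D.Idx F)) := by
  apply hF.xG_mem_normalizer hs (fun s' => k ≤ s' ∧ s' < D.nroots)
  · intro s' hs'
    exact ⟨hs'.2, by have := hF.neg_lt_N hs hsN; omega⟩
  · intro s' hs' hne c hc
    have hne' : s' ≠ D.neg s := by
      have := hF.neg_lt_N hs hsN
      omega
    have h2 := hF.commTerm_pos hs hs'.2 hne hne' hc hsN (by omega)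
    have h3 := hF.commTerms_spec hs hs'.2 hne hne' hc
    exact ⟨by omega, h3.1⟩

/-- Leading term: conjugation by an element of `U`. -/
theorem conj_lead_U (hF : Full T X R D) {r : ℕ} (hr : r < D.nroots) (hN : R.N ≤ r)
    {u : GL D.Idx F} (hu : u ∈ D.posUnipotent F) (t : F) :
    ∃ w ∈ Full.Uk D F (r + 1), u * hF.c.xG r t * u⁻¹ = hF.c.xG r t * w := by
  have key : ∀ (s : ℕ) (a : F), R.N ≤ s → s < D.nroots → ∀ y : GL D.Idx F,
      (∃ w ∈ Full.Uk D F (r + 1), y * hF.c.xG r t * y⁻¹ = hF.c.xG r t * w) →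
      ∃ w ∈ Full.Uk D F (r + 1), (hF.c.xG s a * y) * hF.c.xG r t * (hF.c.xG s a * y)⁻¹ =
        hF.c.xG r t * w := by
    rintro s a hs1 hs2 y ⟨w, hw, e⟩
    obtain ⟨w', hw', e'⟩ := conj_lead_gen hF hr hN hs2 hs1 a t
    refine ⟨w' * (hF.c.xG s a * w * (hF.c.xG s a)⁻¹), mul_mem hw'
      ((Subgroup.mem_set_normalizer_iff.1 (xG_mem_normalizer_Uk hF hs2 hs1 (by omega) a) w).1 hw), ?_⟩
    calc (hF.c.xG s a * y) * hF.c.xG r t * (hF.c.xG s a * y)⁻¹
        = hF.c.xG s a * (y * hF.c.xG r t * y⁻¹) * (hF.c.xG s a)⁻¹ := by group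
      _ = hF.c.xG s a * (hF.c.xG r t * w) * (hF.c.xG s a)⁻¹ := by rw [e]
      _ = (hF.c.xG s a * hF.c.xG r t * (hF.c.xG s a)⁻¹) * (hF.c.xG s a * w * (hF.c.xG s a)⁻¹) := by
          group
      _ = _ := by rw [e']; group
  rw [hF.U_eq_Uk] at hu
  unfold Full.Uk Full.rootClosure at hu
  induction hu using Subgroup.closure_induction_left with
  | one => exact ⟨1, one_mem _, by simp⟩
  | mul_left x hx y hy ih =>
    obtain ⟨s, a, hs, hg⟩ := hx
    rw [hF.c.eq_xG hg]
    exact key s a hs.1 hs.2 y ih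
  | inv_mul_cancel x hx y hy ih =>
    obtain ⟨s, a, hs, hg⟩ := hx
    rw [hF.c.eq_xG hg, hF.c.xG_inv]
    exact key s (-a) hs.1 hs.2 y ih

/-- Leading term: conjugation by an element of `B`. -/
theorem conj_lead_B (hF : Full T X R D) {r : ℕ} (hr : r < D.nroots) (hN : R.N ≤ r)
    {u : GL D.Idx F} (hu : u ∈ D.posUnipotent F) (c : Fin D.rank → Fˣ) (t : F) :
    ∃ w ∈ Full.Uk D F (r + 1), (u * tor R D c) * hF.c.xG r t * (u * tor R D c)⁻¹ =
      hF.c.xG r (((chiT D c r : Fˣ) : F) * t) * w := by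
  obtain ⟨w, hw, e⟩ := conj_lead_U hF hr hN hu (((chiT D c r : Fˣ) : F) * t)
  refine ⟨w, hw, ?_⟩
  rw [← e, ← hF.tor_conj_xG c hr]
  group

theorem Uk_le_U (hF : Full T X R D) {k : ℕ} (hk : R.N ≤ k) :
    Full.Uk D F k ≤ D.posUnipotent F := by
  rw [hF.U_eq_Uk]
  exact hF.Uk_anti hk

/-- Comparison of leading terms. -/
theorem root_eq_of_lead (hF : Full T X R D) {r s : ℕ} (hr : r < D.nroots) (hN : R.N ≤ r)
    (hs : s < D.nroots) {a c : F} (ha : a ≠ 0) (hc : c ≠ 0) {w : GL D.Idx F}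
    (hw : w ∈ Full.Uk D F (r + 1)) (e : hF.c.xG s a = hF.c.xG r c * w) : s = r := by
  have h1 : hF.c.xG s a ∈ D.posUnipotent F := by
    rw [e]
    exact mul_mem (hF.xG_mem_U hr hN c) (Uk_le_U hF (by omega) hw)
  have hsN := (hF.xG_mem_U_iff hs ha).1 h1
  rcases lt_trichotomy s r with h | h | h
  · exfalso
    have h2 : hF.c.xG s a ∈ Full.Uk D F (s + 1) := by
      rw [e]
      refine mul_mem (hF.xG_mem_rootClosure ⟨by omega, hr⟩ c) (hF.Uk_anti (by omega) hw)
    exact ha (hF.xG_not_mem hsN hs h2)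
  · exact h
  · exfalso
    have h2 : hF.c.xG r c ∈ Full.Uk D F (r + 1) := by
      have e2 : hF.c.xG r c = hF.c.xG s a * w⁻¹ := by
        rw [e]
        group
      rw [e2]
      exact mul_mem (hF.xG_mem_rootClosure ⟨by omega, hs⟩ a) (inv_mem hw)
    exact hc (hF.xG_not_mem hN hr h2)

/-- Root coordinates determine a root. -/
theorem eq_of_rc (hF : Full T X R D) {r s : ℕ} (hr : r < D.nroots) (hs : s < D.nroots)
    (h : ∀ k < D.rank, R.rcAt r k = R.rcAt s k) : r = s := by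
  have h1 : R.lin D.rank hF.phiW r = R.lin D.rank hF.phiW s := by
    unfold RootTab.lin
    apply Finset.sum_congr rfl
    intro j hj
    rw [h j (Finset.mem_range.1 hj)]
  rcases lt_trichotomy r s with h2 | h2 | h2
  · have := hF.phi_strict h2 hs
    omega
  · exact h2
  · have := hF.phi_strict h2 hr
    omega

/-- The roots in the span condition. -/
theorem exists_QU_pair (hF : Full T X R D) (hS : SpanH D) {J : Set ℕ} {i m : ℕ} (hi : i < D.rank)
    (hiJ : i ∉ J) (hm : m < D.rank) (hmJ : m ∈ J) :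
    ∃ r, Full.QU D J r ∧ Full.QU D J (X.wf m r) ∧ r < D.nroots ∧
      (D.cartan m r = 1 ∨ D.cartan m r = -1) := by
  have hne : i ≠ m := by
    rintro rfl
    exact hiJ hmJ
  obtain ⟨r, h1, h2, h3⟩ := hS i m hi hm hne
  obtain ⟨hr, hrN⟩ := (hF.isPos_iff).1 h1
  have h4 : R.rcAt r i ≠ 0 := fun h => h2 ((hF.r.coroot_zero r hr i hi).2 h)
  have h5 : 0 < R.rcAt r i := lt_of_le_of_ne (hF.rc_nonneg hr hrN hi) (Ne.symm h4)
  refine ⟨r, hF.QU_of_rc hr hi hiJ h5, ?_, hr, h3⟩
  apply hF.QU_of_rc (hF.wf_lt hm hr) hi hiJ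
  rw [hF.wf_rc hm hr hi, if_neg hne, sub_zero]
  exact h5

/-- An element of the Weyl group fixing the roots of a unipotent radical is trivial. -/
theorem perm_eq_one (hF : Full T X R D) (hS : SpanH D) {J : Set ℕ} {i₀ : ℕ} (hi₀ : i₀ < D.rank)
    (hi₀J : i₀ ∉ J) {σ : Equiv.Perm (Fin D.nroots)} (hσ : σ ∈ hF.Wk Set.univ)
    (hfix : ∀ (r : ℕ) (hr : r < D.nroots), Full.QU D J r → σ ⟨r, hr⟩ = ⟨r, hr⟩) : σ = 1 := by
  have hsimple : ∀ (m : ℕ) (hm : m < D.rank) (k : ℕ), k < D.rank →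
      R.rcAt (σ ⟨D.simple m, hF.simple_lt hm⟩) k = R.rcAt (D.simple m) k := by
    intro m hm k hk
    by_cases hmJ : m ∈ J
    · obtain ⟨r, h1, h2, hr, h3⟩ := exists_QU_pair hF hS hi₀ hi₀J hm hmJ
      have hw := hF.wf_lt hm hr
      have e1 := hF.rc_eq_sum hσ ⟨r, hr⟩ hk
      have e2 := hF.rc_eq_sum hσ ⟨X.wf m r, hw⟩ hk
      rw [hfix r hr h1] at e1
      rw [hfix _ hw h2] at e2
      simp only at e1 e2
      have e3 : ∀ j : Fin D.rank, R.rcAt (σ ⟨D.simple j, hF.simple_lt j.2⟩) k * R.rcAt (X.wf m r) j =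
          R.rcAt (σ ⟨D.simple j, hF.simple_lt j.2⟩) k * R.rcAt r j -
            (if j = (⟨m, hm⟩ : Fin D.rank) then
              R.rcAt (σ ⟨D.simple m, hF.simple_lt hm⟩) k * D.cartan m r else 0) := by
        intro j
        rw [hF.wf_rc hm hr j.2]
        by_cases hj : (j : ℕ) = m
        · have e4 : j = ⟨m, hm⟩ := Fin.ext hj
          subst e4
          simp only [if_true]
          ring
        · rw [if_neg hj, if_neg (fun e => hj (congrArg Fin.val e))]
          ring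
      rw [Finset.sum_congr rfl (fun j _ => e3 j), Finset.sum_sub_distrib, ← e1,
        Finset.sum_ite_eq' Finset.univ, if_pos (Finset.mem_univ _), hF.wf_rc hm hr hk] at e2
      have e5 : (if k = m then D.cartan m r else 0) =
          R.rcAt (σ ⟨D.simple m, hF.simple_lt hm⟩) k * D.cartan m r := by
        omega
      have e6 : R.rcAt (D.simple m) k = if k = m then 1 else 0 := by
        rw [hF.simple_rc hm hk]
        by_cases h : k = m
        · simp [h]
        · simp [h, Ne.symm h]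
      rw [e6]
      rcases h3 with h3 | h3
      · rw [h3] at e5
        split_ifs at e5 ⊢ <;> omega
      · rw [h3] at e5
        split_ifs at e5 ⊢ <;> omega
    · have hQ : Full.QU D J (D.simple m) := by
        apply hF.QU_of_rc (hF.simple_lt hm) hm hmJ
        rw [hF.simple_rc hm hm, if_pos rfl]
        omega
      rw [hfix _ (hF.simple_lt hm) hQ]
  ext s
  simp only [Equiv.Perm.one_apply]
  apply eq_of_rc hF (σ s).2 s.2
  intro k hk
  rw [hF.rc_eq_sum hσ s hk, Finset.sum_eq_single (⟨k, hk⟩ : Fin D.rank)]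
  · rw [hsimple k hk k hk, hF.simple_rc hk hk, if_pos rfl, one_mul]
  · intro j _ hj
    rw [hsimple j j.2 k hk, hF.simple_rc j.2 hk, if_neg (fun e => hj (Fin.ext e)), zero_mul]
  · simp

/-- A torus element acting trivially on the root elements of a radical is trivial. -/
theorem tor_eq_one_of_chi (hF : Full T X R D) (hS : SpanH D) {J : Set ℕ} {i₀ : ℕ}
    (hi₀ : i₀ < D.rank) (hi₀J : i₀ ∉ J) (c : Fin D.rank → Fˣ)
    (h : ∀ r, Full.QU D J r → chiT D c r = 1) : tor R D c = 1 := by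
  rw [hF.tor_eq_one_iff]
  have hchr : ∀ s, Full.QU D J s → chr R D.rank (cartanMap D c) s = 1 := by
    intro s hs
    rw [← hF.chiT_eq_chr c (hF.QU_spec hs).1]
    exact h s hs
  have hval : ∀ m (hm : m < D.rank), chr R D.rank (cartanMap D c) (D.simple m) = cartanMap D c m := by
    intro m hm
    unfold chr
    rw [Finset.prod_eq_single m]
    · rw [hF.simple_rc hm hm, if_pos rfl, zpow_one]
    · intro j hj hjm
      rw [hF.simple_rc hm (Finset.mem_range.1 hj), if_neg (Ne.symm hjm), zpow_zero]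
    · intro h1
      exact absurd (Finset.mem_range.2 hm) h1
  intro m hm
  by_cases hmJ : m ∈ J
  · obtain ⟨r, h1, h2, hr, h3⟩ := exists_QU_pair hF hS hi₀ hi₀J hm hmJ
    have e1 := hchr r h1
    have e2 := hchr _ h2
    have e3 : chr R D.rank (cartanMap D c) (X.wf m r) = chr R D.rank (cartanMap D c) r *
        (cartanMap D c m) ^ (- D.cartan m r) := by
      unfold chr
      have e4 : ∀ j ∈ Finset.range D.rank, cartanMap D c j ^ R.rcAt (X.wf m r) j =
          cartanMap D c j ^ R.rcAt r j *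
            (if j = m then (cartanMap D c m) ^ (- D.cartan m r) else 1) := by
        intro j hj
        rw [hF.wf_rc hm hr (Finset.mem_range.1 hj)]
        by_cases hjm : j = m
        · subst hjm
          simp only [if_true]
          rw [sub_eq_add_neg, _root_.zpow_add]
        · simp [hjm]
      rw [Finset.prod_congr rfl e4, Finset.prod_mul_distrib, Finset.prod_ite_eq' (Finset.range D.rank) m,
        if_pos (Finset.mem_range.2 hm)]
    rw [e3, e1, one_mul] at e2
    rcases h3 with h3 | h3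
    · rw [h3] at e2
      simpa using e2
    · rw [h3] at e2
      simpa using e2
  · have hQ : Full.QU D J (D.simple m) := by
      apply hF.QU_of_rc (hF.simple_lt hm) hm hmJ
      rw [hF.simple_rc hm hm, if_pos rfl]
      omega
    rw [← hval m hm]
    exact hchr _ hQ

/-- **No `p'`-element centralizes a unipotent radical.** -/
theorem eq_one_of_centralizes [Fintype F] (hF : Full T X R D) (hS : SpanH D) {p : ℕ}
    [hp : Fact p.Prime] [CharP F p] {J : Set ℕ} {i₀ : ℕ} (hi₀ : i₀ < D.rank) (hi₀J : i₀ ∉ J)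
    {x : GL D.Idx F} (hx : x ∈ D.group F)
    (hcent : ∀ v ∈ D.unipotentRadical F J, x * v * x⁻¹ = v) (hreg : ¬ p ∣ orderOf x) : x = 1 := by
  obtain ⟨n, hn, hgn⟩ := Cfsg.Agent.Lib.BNPair.exists_mem_dc (P := hF.bnPair F)
    (⟨x, hx⟩ : ↥(D.group F))
  obtain ⟨b, hb, b', hb', e⟩ := Cfsg.Agent.Lib.BNPair.mem_dc.1 hgn
  have hb1 : b.1 ∈ D.borelSubgroup F := Subgroup.mem_subgroupOf.1 hb
  have hb2 : b'.1 ∈ D.borelSubgroup F := Subgroup.mem_subgroupOf.1 hb'
  have hn1 : n.1 ∈ D.monomialSubgroup F := Subgroup.mem_subgroupOf.1 hn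
  have he : x = b.1 * n.1 * b'.1 := congrArg Subtype.val e
  set nn : ↥(D.monomialSubgroup F) := ⟨n.1, hn1⟩ with hnn
  set b₀ := b'.1 * b.1 with hb₀
  have hb₀B : b₀ ∈ D.borelSubgroup F := mul_mem hb2 hb1
  set y := b₀ * n.1 with hy
  have hyx : y = b'.1 * x * b'.1⁻¹ := by
    rw [he, hy, hb₀]
    group
  have hbn : ∀ {b : GL D.Idx F}, b ∈ D.borelSubgroup F → ∀ v ∈ D.unipotentRadical F J,
      b * v * b⁻¹ ∈ D.unipotentRadical F J := by
    intro b hb v hv
    exact (Subgroup.mem_set_normalizer_iff.1 (hF.parabolic_le_normalizer J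
      (hF.borel_le_parabolic J hb)) v).1 hv
  have hycent : ∀ v ∈ D.unipotentRadical F J, y * v * y⁻¹ = v := by
    intro v hv
    have h1 := hbn (inv_mem hb2) v hv
    rw [inv_inv] at h1
    have h2 := hcent _ h1
    rw [hyx]
    calc b'.1 * x * b'.1⁻¹ * v * (b'.1 * x * b'.1⁻¹)⁻¹
        = b'.1 * (x * (b'.1⁻¹ * v * b'.1) * x⁻¹) * b'.1⁻¹ := by group
      _ = b'.1 * (b'.1⁻¹ * v * b'.1) * b'.1⁻¹ := by rw [h2]
      _ = v := by group
  -- the permutation is trivial
  have hfix : ∀ (r : ℕ) (hr : r < D.nroots), Full.QU D J r →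
      hF.rhoN F nn ⟨r, hr⟩ = ⟨r, hr⟩ := by
    intro r hr hQ
    obtain ⟨_, hrN, _⟩ := hF.QU_spec hQ
    have hv : hF.c.xG r (1 : F) ∈ D.unipotentRadical F J := by
      rw [Full.unipotentRadical_eq]
      exact hF.xG_mem_rootClosure hQ 1
    have h1 := hycent _ hv
    obtain ⟨u, hu⟩ := hF.rhoN_spec_apply nn ⟨r, hr⟩
    have h2 := hu 1
    simp only at h2
    obtain ⟨u₁, hu₁, h₁, hh₁, e₁⟩ := (hF.mem_borel_iff).1 (inv_mem hb₀B)
    obtain ⟨c₁, rfl⟩ := (hF.mem_diagonal_iff).1 hh₁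
    obtain ⟨w, hw, e2⟩ := conj_lead_B hF hr hrN hu₁ c₁ (1 : F)
    have h3 : hF.c.xG ((hF.rhoN F nn ⟨r, hr⟩ : Fin D.nroots) : ℕ) ((u : F) * 1) =
        hF.c.xG r (((chiT D c₁ r : Fˣ) : F) * 1) * w := by
      rw [← h2, ← e2, ← e₁]
      have h4 : nn.1 = n.1 := rfl
      rw [h4]
      have h5 : n.1 * hF.c.xG r (1 : F) * n.1⁻¹ = b₀⁻¹ * hF.c.xG r 1 * b₀ := by
        have h6 : b₀ * (n.1 * hF.c.xG r (1 : F) * n.1⁻¹) * b₀⁻¹ = hF.c.xG r 1 := by
          calc b₀ * (n.1 * hF.c.xG r (1 : F) * n.1⁻¹) * b₀⁻¹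
              = y * hF.c.xG r (1 : F) * y⁻¹ := by
                rw [hy]
                group
            _ = hF.c.xG r 1 := h1
        calc n.1 * hF.c.xG r (1 : F) * n.1⁻¹
            = b₀⁻¹ * (b₀ * (n.1 * hF.c.xG r (1 : F) * n.1⁻¹) * b₀⁻¹) * b₀ := by group
          _ = _ := by rw [h6]
      rw [h5]
      group
    apply Fin.ext
    exact root_eq_of_lead hF hr hrN (Fin.is_lt _) (by simp) (by simp) hw h3
  have hσ1 := perm_eq_one hF hS hi₀ hi₀J (hF.rhoN_mem_Wk nn) hfix
  have hnH : n.1 ∈ D.diagonalSubgroup F := by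
    apply hF.mem_diagonal_of_pos' (g := nn)
    intro z hz
    rw [hσ1]
    exact hz
  have hyB : y ∈ D.borelSubgroup F := mul_mem hb₀B (hF.c.diagonal_le_borel hnH)
  obtain ⟨u₂, hu₂, h₂, hh₂, e₂⟩ := (hF.mem_borel_iff).1 hyB
  obtain ⟨c₂, rfl⟩ := (hF.mem_diagonal_iff).1 hh₂
  have htor : tor R D c₂ = 1 := by
    apply tor_eq_one_of_chi hF hS hi₀ hi₀J
    intro r hQ
    obtain ⟨hr, hrN, _⟩ := hF.QU_spec hQ
    have hv : hF.c.xG r (1 : F) ∈ D.unipotentRadical F J := by
      rw [Full.unipotentRadical_eq]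
      exact hF.xG_mem_rootClosure hQ 1
    have h1 := hycent _ hv
    obtain ⟨w, hw, e2⟩ := conj_lead_B hF hr hrN hu₂ c₂ (1 : F)
    rw [← e₂, h1] at e2
    by_contra hne
    have h3 : hF.c.xG r (1 - ((chiT D c₂ r : Fˣ) : F)) ∈ Full.Uk D F (r + 1) := by
      have e3 : hF.c.xG r (1 - ((chiT D c₂ r : Fˣ) : F)) = w := by
        have e4 : 1 - ((chiT D c₂ r : Fˣ) : F) = -(((chiT D c₂ r : Fˣ) : F) * 1) + 1 := by ring
        rw [e4, ← hF.c.xG_add, ← hF.c.xG_inv, e2]
        group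
      rw [e3]
      exact hw
    have h4 := hF.xG_not_mem hrN hr h3
    apply hne
    apply Units.ext
    rw [Units.val_one]
    exact (sub_eq_zero.1 h4).symm
  rw [htor, mul_one] at e₂
  -- `y` is a `p`-element
  have hyU : y ∈ D.posUnipotent F := by
    rw [e₂]
    exact hu₂
  obtain ⟨k, hk⟩ := StChev50.isPGroup_UU (p := p) hF
    (⟨⟨y, StChev50.U_le_group hF hyU⟩, Subgroup.mem_subgroupOf.2 hyU⟩ : ↥(StChev50.UU D F))
  have hk1 : y ^ p ^ k = 1 := by
    have := congrArg (fun z : ↥(StChev50.UU D F) => (z.1.1 : GL D.Idx F)) hk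
    simpa using this
  have hx2 : x = b'.1⁻¹ * y * b'.1 := by
    rw [hyx]
    group
  have hk2 : x ^ p ^ k = 1 := by
    have e3 : x = b'.1⁻¹ * y * (b'.1⁻¹)⁻¹ := by
      rw [inv_inv]
      exact hx2
    rw [e3, conj_pow, hk1]
    group
  have h5 := orderOf_dvd_of_pow_eq_one hk2
  obtain ⟨j, hj, h6⟩ := (Nat.dvd_prime_pow hp.out).1 h5
  rcases j with _ | j
  · rw [pow_zero] at h6
    exact orderOf_eq_one_iff.1 h6
  · exact absurd (h6 ▸ dvd_pow_self p (Nat.succ_ne_zero j)) hreg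

end Cfsg.Agent.Lib.ChevCent50
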