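import Cfsg.Agent.Lib.ChevFix
import Cfsg.Agent.Lib.ChevCent50

/-!
# Subgroups between `G(q)` and the fixed points of a field automorphism

Let `σ` be a field automorphism.  The centralizer in `G` of the root elements with parameters
`± 1` and the `n_i` is trivial; a fixed point of `σ` in `G` is a product of a product of root
elements with fixed parameters and an element of the torus fixed by `σ`.
-/

set_option autoImplicit false
set_option linter.unusedSectionVars false
set_option linter.unusedVariables false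
set_option linter.unnecessarySimpa false

namespace Cfsg.Agent.Lib.ChevFrob50

open Cfsg Cfsg.Lie Cfsg.Agent.Lib.Chev Matrix
open Cfsg.Agent.Lib.BorelTits50 Cfsg.Agent.Lib.ChevCent50 Cfsg.Agent.Lib.ChevFix
open Cfsg.Agent.Lib.ChevFix.Fix

variable {F : Type*} [Field F] {T : Tabs} {X : Extra} {R : RootTab} {D : ChevalleyDatum}

/-- The leading term of an element of `Fp y`. -/
theorem lead_support (hF : Full T X R D) {y : Fin D.rank → ℝ} {r : ℕ} (hr : r < D.nroots)
    (hN : R.N ≤ r) {c : F} (hc : c ≠ 0) {w : GL D.Idx F} (hw : w ∈ Full.Uk D F (r + 1))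
    (h : hF.c.xG r c * w ∈ Fp R D F y) : 1 ≤ lin R D y r := by
  have h2 := hF.two
  have h1 : hF.c.xG r c * w ∈ Full.Uk D F r :=
    mul_mem (hF.xG_mem_rootClosure ⟨le_rfl, hr⟩ c) (hF.Uk_anti (by omega) hw)
  obtain ⟨t, ht⟩ := hF.exists_ordW (D.nroots - r) r (by omega) hN _ h1
  have h3 : t r = c := by
    have ht' := ht
    rw [hF.ordW_succ hr] at ht'
    have h4 : hF.c.xG r (-(t r) + c) ∈ Full.Uk D F (r + 1) := by
      have e : hF.c.xG r (-(t r) + c) = hF.ordW (r + 1) t * w⁻¹ := by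
        rw [← hF.c.xG_add, ← hF.c.xG_inv]
        have e2 : hF.c.xG r c = hF.c.xG r (t r) * hF.ordW (r + 1) t * w⁻¹ := by
          rw [← ht']
          group
        rw [e2]
        group
      rw [e]
      exact mul_mem (hF.ordW_mem _ _) (inv_mem hw)
    have h5 := hF.xG_not_mem hN hr h4
    have h6 : c = t r := by
      have := congrArg (fun z => t r + z) h5
      simpa using this
    exact h6.symm
  rw [ht] at h
  exact support_of_mem hF y (D.nroots - r) r (by omega) hN t h r le_rfl hr (by rw [h3]; exact hc)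

/-- An element commuting with the fundamental root elements `x_{p_i}(1)` lies in `B`. -/
theorem mem_borel_of_comm (hF : Full T X R D) {z : GL D.Idx F} (hz : z ∈ D.group F)
    (hc : ∀ (i : ℕ) (hi : i < D.rank), z * hF.c.xG (D.simple i) (1 : F) * z⁻¹ =
      hF.c.xG (D.simple i) 1) : z ∈ D.borelSubgroup F := by
  obtain ⟨n, hn, hgn⟩ := Cfsg.Agent.Lib.BNPair.exists_mem_dc (P := hF.bnPair F)
    (⟨z, hz⟩ : ↥(D.group F))
  obtain ⟨b, hb, b', hb', e⟩ := Cfsg.Agent.Lib.BNPair.mem_dc.1 hgn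
  have hb1 : b.1 ∈ D.borelSubgroup F := Subgroup.mem_subgroupOf.1 hb
  have hb2 : b'.1 ∈ D.borelSubgroup F := Subgroup.mem_subgroupOf.1 hb'
  have hn1 : n.1 ∈ D.monomialSubgroup F := Subgroup.mem_subgroupOf.1 hn
  have he : z = b.1 * n.1 * b'.1 := congrArg Subtype.val e
  obtain ⟨u, hu, h, hh, e1⟩ := (hF.mem_borel_iff).1 hb1
  have hhn : h * n.1 ∈ D.monomialSubgroup F := mul_mem (hF.c.diagonal_le_monomial hh) hn1
  set nn : ↥(D.monomialSubgroup F) := ⟨h * n.1, hhn⟩ with hnn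
  have hz2 : z = u * nn.1 * b'.1 := by
    rw [he, e1]
    show _ = u * (h * n.1) * b'.1
    group
  have hσ := hF.rhoN_mem_Wk nn
  have hpos : ∀ (i : ℕ) (hi : i < D.rank),
      R.N ≤ (((hF.rhoN F nn)⁻¹ ⟨D.simple i, hF.simple_lt hi⟩ : Fin D.nroots) : ℕ) := by
    intro i hi
    have hp := hF.simple_lt hi
    set x := hF.c.xG (D.simple i) (1 : F) with hx
    have hxU : x ∈ D.posUnipotent F := hF.xG_mem_U hp (hF.simple_ge hi) 1
    obtain ⟨w, hw, e2⟩ := conj_lead_U hF hp (hF.simple_ge hi) (inv_mem hu) (1 : F)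
    have hv : b'.1 * x * b'.1⁻¹ ∈ D.posUnipotent F :=
      (Subgroup.mem_set_normalizer_iff.1 (hF.borel_le_normalizer_U hb2) x).1 hxU
    have hv2 := conj_mem_Fp hF nn (fun _ => 1) (U_le_Fp_one hF hv)
    have e3 : nn.1 * (b'.1 * x * b'.1⁻¹) * nn.1⁻¹ = x * w := by
      rw [← e2]
      have h3 := hc i hi
      rw [hz2] at h3
      calc nn.1 * (b'.1 * x * b'.1⁻¹) * nn.1⁻¹
          = u⁻¹ * (u * nn.1 * b'.1 * x * (u * nn.1 * b'.1)⁻¹) * u := by group
        _ = u⁻¹ * x * u := by rw [h3]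
        _ = u⁻¹ * x * u⁻¹⁻¹ := by rw [inv_inv]
    rw [e3] at hv2
    have h1 := lead_support hF hp (hF.simple_ge hi) one_ne_zero hw hv2
    have h2 := lin_actV hF hσ (fun _ => 1) ⟨D.simple i, hp⟩
    simp only at h2
    rw [h2] at h1
    by_contra hneg
    have h4 := lin_nonpos hF (x := fun _ => 1) (fun _ => zero_le_one) (not_le.1 hneg)
    linarith
  have hinv : Full.invF R D (hF.rhoN F nn)⁻¹ = 0 := by
    by_contra h0
    obtain ⟨i, hi, -, hneg⟩ := hF.exists_simple_neg (inv_mem hσ) h0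
    have := hpos i hi
    omega
  have hone := hF.eq_one_of_invF (inv_mem hσ) hinv
  have hone' : hF.rhoN F nn = 1 := inv_eq_one.1 hone
  have hH : nn.1 ∈ D.diagonalSubgroup F :=
    hF.mem_diagonal_of_pos' (g := nn) (by
      intro x hx
      rw [hone']
      exact hx)
  rw [hz2]
  exact mul_mem (mul_mem (hF.c.posUnipotent_le_borel hu) (hF.c.diagonal_le_borel hH)) hb2

/-- The torus character at a root centralized up to lower terms. -/
theorem chi_eq_one_of_comm (hF : Full T X R D) {u : GL D.Idx F} (hu : u ∈ D.posUnipotent F)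
    (c : Fin D.rank → Fˣ) {r : ℕ} (hr : r < D.nroots) (hN : R.N ≤ r)
    (h : (u * tor R D c) * hF.c.xG r (1 : F) * (u * tor R D c)⁻¹ = hF.c.xG r 1) :
    chiT D c r = 1 := by
  obtain ⟨w, hw, e2⟩ := conj_lead_B hF hr hN hu c (1 : F)
  rw [h] at e2
  by_contra hne
  have h3 : hF.c.xG r (1 - ((chiT D c r : Fˣ) : F)) ∈ Full.Uk D F (r + 1) := by
    have e3 : hF.c.xG r (1 - ((chiT D c r : Fˣ) : F)) = w := by
      have e4 : 1 - ((chiT D c r : Fˣ) : F) = -(((chiT D c r : Fˣ) : F) * 1) + 1 := by ring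
      rw [e4, ← hF.c.xG_add, ← hF.c.xG_inv, e2]
      group
    rw [e3]
    exact hw
  have h4 := hF.xG_not_mem hN hr h3
  apply hne
  apply Units.ext
  rw [Units.val_one]
  exact (sub_eq_zero.1 h4).symm

/-- The torus element with trivial values on the fundamental roots is trivial. -/
theorem tor_eq_one_of_simple (hF : Full T X R D) (c : Fin D.rank → Fˣ)
    (h : ∀ m < D.rank, chiT D c (D.simple m) = 1) : tor R D c = 1 := by
  rw [hF.tor_eq_one_iff]
  intro m hm
  have h1 := h m hm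
  rw [hF.chiT_eq_chr c (hF.simple_lt hm)] at h1
  have hval : chr R D.rank (cartanMap D c) (D.simple m) = cartanMap D c m := by
    unfold chr
    rw [Finset.prod_eq_single m]
    · rw [hF.simple_rc hm hm, if_pos rfl, zpow_one]
    · intro j hj hjm
      rw [hF.simple_rc hm (Finset.mem_range.1 hj), if_neg (Ne.symm hjm), zpow_zero]
    · intro h1
      exact absurd (Finset.mem_range.2 hm) h1
  rw [← hval]
  exact h1

/-- Every positive root is moved to a negative root by the Weyl group. -/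
theorem exists_neg_word (hF : Full T X R D) (F : Type*) [Field F] : ∀ (k : ℕ) (hk : k < D.nroots),
    R.N ≤ k → ∃ n : ↥(D.monomialSubgroup F), n.1 ∈ hF.nClosure F ∧
      (((hF.rhoN F n)⁻¹ ⟨k, hk⟩ : Fin D.nroots) : ℕ) < R.N := by
  intro k
  induction k using Nat.strong_induction_on with
  | _ k ih =>
    intro hk hN
    by_cases hsimple : ∀ i < D.rank, k ≠ D.simple i
    · obtain ⟨j, hj, -, -, hlt⟩ := hF.r.desc k hk hN hsimple
      have hw := hF.wf_pos hk hN hj (hsimple j hj)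
      obtain ⟨n', h1, h2⟩ := ih _ hlt (hF.wf_lt hj hk) hw.1
      refine ⟨hF.nN hj * n', mul_mem (show hF.nS (F := F) j ∈ hF.nClosure F from
        Subgroup.subset_closure ⟨j, hj, rfl⟩) h1, ?_⟩
      rw [map_mul, hF.rhoN_nN, _root_.mul_inv_rev, hF.wPerm_inv, Equiv.Perm.mul_apply]
      exact h2
    · push Not at hsimple
      obtain ⟨i, hi, rfl⟩ := hsimple
      refine ⟨hF.nN hi, (show hF.nS (F := F) i ∈ hF.nClosure F from
        Subgroup.subset_closure ⟨i, hi, rfl⟩), ?_⟩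
      rw [hF.rhoN_nN, hF.wPerm_inv]
      show X.wf i (D.simple i) < R.N
      rw [hF.wf_simple hi]
      exact hF.neg_lt_N hk hN

/-- An element commuting with the `x_r(1)` and the `n_i` is trivial. -/
theorem eq_one_of_comm_roots (hF : Full T X R D) {z : GL D.Idx F} (hz : z ∈ D.group F)
    (hc : ∀ (r : ℕ), r < D.nroots → z * hF.c.xG r (1 : F) * z⁻¹ = hF.c.xG r 1)
    (hn : ∀ v ∈ hF.nClosure F, z * v * z⁻¹ = v) : z = 1 := by
  have h2N := hF.two
  have hB := mem_borel_of_comm hF hz (fun i hi => hc _ (hF.simple_lt hi))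
  obtain ⟨u, hu, h, hh, e⟩ := (hF.mem_borel_iff).1 hB
  obtain ⟨c, rfl⟩ := (hF.mem_diagonal_iff).1 hh
  have htor : tor R D c = 1 := by
    apply tor_eq_one_of_simple hF
    intro m hm
    apply chi_eq_one_of_comm hF hu c (hF.simple_lt hm) (hF.simple_ge hm)
    rw [← e]
    exact hc _ (hF.simple_lt hm)
  rw [htor, mul_one] at e
  subst e
  -- descend along the filtration
  have key : ∀ m k : ℕ, k + m = D.nroots → R.N ≤ k → z ∈ Full.Uk D F k → z = 1 := by
    intro m
    induction m with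
    | zero =>
      intro k hk _ hzk
      have h1 : Full.Uk D F k = ⊥ := by
        unfold Full.Uk Full.rootClosure
        rw [Subgroup.closure_eq_bot_iff]
        rintro x ⟨s, t, hs, _⟩
        omega
      rw [h1, Subgroup.mem_bot] at hzk
      exact hzk
    | succ m ih =>
      intro k hk hkN hzk
      have hkn : k < D.nroots := by omega
      obtain ⟨t, ht⟩ := hF.exists_ordW (m + 1) k hk hkN _ hzk
      have hzU := hu
      apply ih (k + 1) (by omega) (by omega)
      have ht' := ht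
      rw [hF.ordW_succ hkn] at ht'
      by_cases h0 : t k = 0
      · rw [ht', h0, hF.c.xG_zero, one_mul]
        exact hF.ordW_mem _ _
      · exfalso
        obtain ⟨n, hn1, hn2⟩ := exists_neg_word hF F k hkn hkN
        have hσ := hF.rhoN_mem_Wk n
        have h1 := conj_mem_Fp hF n (fun _ => 1) (U_le_Fp_one hF hu)
        have hcomm : n.1 * z * n.1⁻¹ = z := by
          have h3 := hn _ hn1
          have h4 : z * n.1 = n.1 * z := by
            calc z * n.1 = z * n.1 * z⁻¹ * z := by group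
              _ = n.1 * z := by rw [h3]
          rw [← h4]
          group
        rw [hcomm, ht'] at h1
        have h3 := lead_support hF hkn hkN h0 (hF.ordW_mem _ _) h1
        have h4 := lin_actV hF hσ (fun _ => 1) ⟨k, hkn⟩
        simp only at h4
        rw [h4] at h3
        have h5 := lin_nonpos hF (x := fun _ => 1) (fun _ => zero_le_one) hn2
        linarith
  apply key R.N R.N (by omega) le_rfl
  rw [← hF.U_eq_Uk]
  exact hu

section Fix

variable (σ : F ≃+* F)

local notation "sg" => glM D (σ : F →+* F)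

/-- The subgroup generated by the root elements with fixed parameters. -/
def Ls (D : ChevalleyDatum) (σ : F ≃+* F) : Subgroup (GL D.Idx F) :=
  Subgroup.closure {g | ∃ (s : ℕ) (t : F), σ t = t ∧ (g : Matrix D.Idx D.Idx F) = D.x F s t}

/-- The fixed points in the torus. -/
noncomputable def Ts (D : ChevalleyDatum) (σ : F ≃+* F) : Subgroup (GL D.Idx F) :=
  D.diagonalSubgroup F ⊓ MonoidHom.eqLocus (glM D (σ : F →+* F)) (MonoidHom.id _)

theorem mem_Ts {h : GL D.Idx F} : h ∈ Ts D σ ↔ h ∈ D.diagonalSubgroup F ∧ sg h = h := Iff.rfl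

/-- The group generated by both. -/
noncomputable def G1 (D : ChevalleyDatum) (σ : F ≃+* F) : Subgroup (GL D.Idx F) := Ls D σ ⊔ Ts D σ

variable (hF : Full T X R D)

include hF

theorem xG_mem' {r : ℕ} (hr : r < D.nroots) {a : F} (ha : σ a = a) : hF.c.xG r a ∈ G1 D σ :=
  Subgroup.mem_sup_left (Subgroup.subset_closure ⟨r, a, ha, rfl⟩)

theorem xG_mem_Ls (r : ℕ) {a : F} (ha : σ a = a) : hF.c.xG r a ∈ Ls D σ :=
  Subgroup.subset_closure ⟨r, a, ha, rfl⟩

theorem nS_mem_Ls (i : ℕ) : hF.nS (F := F) i ∈ Ls D σ := by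
  unfold Full.nS Checks.nG
  refine mul_mem (mul_mem (xG_mem_Ls σ hF _ (by simp)) (xG_mem_Ls σ hF _ (by simp)))
    (xG_mem_Ls σ hF _ (by simp))

theorem nS_mem' {i : ℕ} (hi : i < D.rank) : hF.nS (F := F) i ∈ G1 D σ :=
  Subgroup.mem_sup_left (nS_mem_Ls σ hF i)

theorem U_mem' {u : GL D.Idx F} (hu : u ∈ D.posUnipotent F) (hfix : sg u = u) : u ∈ G1 D σ := by
  obtain ⟨t, ⟨ht0, ht⟩, huniq⟩ := hF.unique_product u hu
  have hu' := hF.c.eq_wordG ht
  have h1 : (fun r => σ (t r)) = t := by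
    apply huniq
    refine ⟨fun r hr => by rw [ht0 r hr, map_zero], ?_⟩
    have h2 := glM_wordG hF (σ : F →+* F) (D.posRoots.map fun r => (r, t r))
    rw [← hu', hfix] at h2
    rw [h2, Checks.coe_wordG, List.map_map]
    rfl
  rw [hu']
  apply hF.c.wordG_mem
  intro p hp
  simp only [List.mem_map] at hp
  obtain ⟨r, hr, rfl⟩ := hp
  have hr' : r < D.nroots := by
    have := (List.mem_filter.1 hr).1
    exact List.mem_range.1 this
  exact xG_mem' σ hF hr' (congrFun h1 r)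

theorem B_mem' {b : GL D.Idx F} (hb : b ∈ D.borelSubgroup F) (hfix : sg b = b) : b ∈ G1 D σ := by
  obtain ⟨u, hu, h, hh, rfl⟩ := (hF.mem_borel_iff).1 hb
  rw [map_mul] at hfix
  have h1 : u⁻¹ * sg u = h * (sg h)⁻¹ := by
    calc u⁻¹ * sg u = u⁻¹ * (sg u * sg h) * (sg h)⁻¹ := by group
      _ = u⁻¹ * (u * h) * (sg h)⁻¹ := by rw [hfix]
      _ = _ := by group
  have h2 : u⁻¹ * sg u ∈ D.posUnipotent F ⊓ D.diagonalSubgroup F := by
    refine ⟨Subgroup.mul_mem _ (Subgroup.inv_mem _ hu) (sg_U hF σ hu), ?_⟩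
    rw [h1]
    exact Subgroup.mul_mem _ hh (Subgroup.inv_mem _ (sg_T hF σ hh))
  rw [hF.U_inf_H, Subgroup.mem_bot] at h2
  have h3 : sg u = u := by
    rw [inv_mul_eq_one] at h2
    exact h2.symm
  have h4 : sg h = h := by
    rw [h2] at h1
    have := h1.symm
    rw [mul_inv_eq_one] at this
    exact this.symm
  exact Subgroup.mul_mem _ (U_mem' σ hF hu h3) (Subgroup.mem_sup_right ⟨hh, h4⟩)

open Cfsg.Agent.Lib.BNPair in
theorem mem_of_reduced' (l : List ↥(D.group F)) (hl : IsReducedWord (hF.bnPair F) l) :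
    ∀ g : ↥(D.group F), g ∈ dc (hF.bnPair F) l.prod → sg g.1 = g.1 → g.1 ∈ G1 D σ := by
  induction l with
  | nil =>
    intro g hg hfix
    have hg' : g ∈ ((hF.bnPair F).B : Set ↥(D.group F)) := by
      rw [List.prod_nil, dc_one] at hg
      exact hg
    exact B_mem' σ hF (Subgroup.mem_subgroupOf.1 hg') hfix
  | cons s l ih =>
    intro g hg hfix
    have hl' := hl.tail
    obtain ⟨i, hi, hsi⟩ := hl.1.head
    have hsS : s ∈ (hF.bnPair F).S := hl.1.head
    have hs1 : s.1 = hF.nS i := (hF.S_iff).1 hsi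
    have hlenl' := hl'.2
    have hlenl := hl.2
    rw [List.prod_cons] at hg hlenl
    simp only [List.length_cons] at hlenl
    set m : ↥(D.group F) := l.prod with hm
    have hmN : m ∈ (hF.bnPair F).N := hl'.1.prod_mem_N subset_rfl
    have hlen : len (hF.bnPair F) m < len (hF.bnPair F) (s * m) := by omega
    have hmfix : sg m.1 = m.1 := sg_word hF σ hl'.1
    rw [← dc_S_inv_mul hsS hmN] at hg
    obtain ⟨b₁, hb₁, b₂, hb₂, e⟩ := mem_dc.1 hg
    have hb₁' : b₁.1 ∈ D.borelSubgroup F := Subgroup.mem_subgroupOf.1 hb₁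
    have hb₂' : b₂.1 ∈ D.borelSubgroup F := Subgroup.mem_subgroupOf.1 hb₂
    obtain ⟨u, hu, h, hh, e1⟩ := (hF.mem_borel_iff).1 hb₁'
    obtain ⟨u', hu', t, e2⟩ := hF.mem_U_iff hi hu
    set xt := hF.c.xG (D.simple i) t with hxt
    have hp := hF.simple_lt hi
    -- conjugating into `Up`
    have hu'' : xt⁻¹ * u' * xt ∈ Full.Up D F i := by
      have hn : xt⁻¹ ∈ Subgroup.normalizer (Full.Up D F i : Set (GL D.Idx F)) :=
        Subgroup.inv_mem _ (hF.xp_mem_normalizer hi t)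
      have := (Subgroup.mem_normalizer_iff.1 hn u').1 hu'
      simpa using this
    set u'' := xt⁻¹ * u' * xt with hu''def
    have hb₁eq : b₁.1 = xt * (u'' * h) := by
      rw [e1, e2, hu''def]; group
    -- the element `c`
    set n := hF.nS (F := F) i with hn
    have hnN := hF.nS_mem_normalizer (F := F) hi
    set c := n * (u'' * h) * n⁻¹ with hc
    have hcB : c ∈ D.borelSubgroup F := by
      have e3 : c = (n * u'' * n⁻¹) * (n * h * n⁻¹) := by rw [hc]; group
      rw [e3]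
      refine Subgroup.mul_mem _ (hF.c.posUnipotent_le_borel (hF.Up_le_U i (hF.nS_conj_Up hi hu''))) ?_
      exact hF.c.diagonal_le_borel ((Subgroup.mem_normalizer_iff.1 hnN h).1 hh)
    have hcG : c ∈ D.group F := hF.c.borel_le_group hcB
    let c' : ↥(D.group F) := ⟨c, hcG⟩
    have hc'B : c' ∈ (hF.bnPair F).B := Subgroup.mem_subgroupOf.2 hcB
    -- the new element
    let g' : ↥(D.group F) := c' * m * b₂
    have hg'dc : g' ∈ dc (hF.bnPair F) m := mem_dc.2 ⟨c', hc'B, b₂, hb₂, rfl⟩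
    have hgeq : g.1 = xt * n⁻¹ * g'.1 := by
      have e3 := congrArg Subtype.val e
      simp only [Subgroup.coe_mul, Subgroup.coe_inv] at e3
      rw [e3, hs1, hb₁eq]
      show xt * (u'' * h) * (n⁻¹ * m.1) * b₂.1 = xt * n⁻¹ * (c * m.1 * b₂.1)
      rw [hc]
      group
    have hsgxt : sg xt = hF.c.xG (D.simple i) (σ t) := sg_xG hF σ _ _
    have hsgn : sg n = n := sg_nS hF σ i
    -- apply the automorphism
    have hfix2 : sg g'.1 = hF.c.xG (D.neg (D.simple i)) (σ t - t) * g'.1 := by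
      have e3 : hF.c.xG (D.simple i) (σ t) * n⁻¹ * sg g'.1 = xt * n⁻¹ * g'.1 := by
        rw [← hgeq, ← hfix, hgeq, map_mul, map_mul, map_inv, hsgxt, hsgn]
      have e4 : n * hF.c.xG (D.simple i) (t - σ t) * n⁻¹ =
          hF.c.xG (D.neg (D.simple i)) (σ t - t) := by
        rw [hn, hF.nS_conj_xG hi hp, hF.wf_simple hi, hF.eta_simple hi]
        congr 1
        push_cast
        ring
      rw [← e4]
      have e5 : hF.c.xG (D.simple i) (t - σ t) = (hF.c.xG (D.simple i) (σ t))⁻¹ * xt := by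
        rw [hF.c.xG_inv, hxt, hF.c.xG_add]
        congr 1
        ring
      rw [e5]
      calc sg g'.1 = n * (hF.c.xG (D.simple i) (σ t))⁻¹ * (hF.c.xG (D.simple i) (σ t) * n⁻¹ * sg g'.1) := by group
        _ = n * (hF.c.xG (D.simple i) (σ t))⁻¹ * (xt * n⁻¹ * g'.1) := by rw [e3]
        _ = _ := by group
    by_cases hd : σ t - t = 0
    · have ht : σ t = t := sub_eq_zero.1 hd
      rw [hd, hF.c.xG_zero, one_mul] at hfix2
      have hg'mem := ih hl' g' hg'dc hfix2
      rw [hgeq]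
      refine Subgroup.mul_mem _ (Subgroup.mul_mem _ (xG_mem' σ hF hp ht) ?_) hg'mem
      exact Subgroup.inv_mem _ (nS_mem' σ hF hi)
    · exfalso
      set d := σ t - t with hddef
      have hy : hF.c.xG (D.neg (D.simple i)) d =
          (hF.c.xG (D.simple i) d⁻¹ * hF.c.hG (D.simple i) (-d⁻¹)) * n * hF.c.xG (D.simple i) d⁻¹ := by
        rw [hF.xG_neg_eq _ hd, hF.c.nG_eq_hG_mul, hn]
        unfold Full.nS
        group
      have hb3 : hF.c.xG (D.simple i) d⁻¹ * hF.c.hG (D.simple i) (-d⁻¹) ∈ D.borelSubgroup F := by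
        refine Subgroup.mul_mem _ (hF.c.posUnipotent_le_borel (hF.xG_mem_U hp (hF.simple_ge hi) _)) ?_
        refine hF.c.diagonal_le_borel (hF.c.hG_mem_diagonal hp ?_)
        simpa using hd
      have hb4 : hF.c.xG (D.simple i) d⁻¹ ∈ D.borelSubgroup F :=
        hF.c.posUnipotent_le_borel (hF.xG_mem_U hp (hF.simple_ge hi) _)
      let b₃ : ↥(D.group F) := ⟨_, hF.c.borel_le_group hb3⟩
      let b₄ : ↥(D.group F) := ⟨_, hF.c.borel_le_group hb4⟩
      have hb₃ : b₃ ∈ (hF.bnPair F).B := Subgroup.mem_subgroupOf.2 hb3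
      have hb₄ : b₄ ∈ (hF.bnPair F).B := Subgroup.mem_subgroupOf.2 hb4
      let w : ↥(D.group F) := b₃ * s * b₄ * g'
      have hwval : w.1 = sg g'.1 := by
        rw [hfix2, hy]
        show b₃.1 * s.1 * b₄.1 * g'.1 = _
        rw [hs1]
      -- `w` is in `B s m B`
      have hw1 : w ∈ dc (hF.bnPair F) (s * m) := by
        have e3 : w = b₃ * (s * (b₄ * c') * m) * b₂ := by
          show b₃ * s * b₄ * (c' * m * b₂) = _
          group
        rw [e3]
        have hmem := mem_dc_of_len_lt hsS ((hF.bnPair F).B.mul_mem hb₄ hc'B) hmN hlen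
        exact mul_mem_dc hmem hb₃ hb₂
      -- `w` is in `B m B`
      have hw2 : w ∈ dc (hF.bnPair F) m := by
        have hg1 : sg (c : GL D.Idx F) ∈ D.group F := hF.c.borel_le_group (sg_B hF σ hcB)
        have hg2 : sg b₂.1 ∈ D.group F := hF.c.borel_le_group (sg_B hF σ hb₂')
        refine mem_dc.2 ⟨⟨_, hg1⟩, Subgroup.mem_subgroupOf.2 (sg_B hF σ hcB), ⟨_, hg2⟩,
          Subgroup.mem_subgroupOf.2 (sg_B hF σ hb₂'), ?_⟩
        apply Subtype.ext
        rw [hwval]
        show sg (c * m.1 * b₂.1) = sg c * m.1 * sg b₂.1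
        rw [map_mul, map_mul, hmfix]
      have h1 := mem_dc_of_mem_of_mem hw1 hw2
      have h2 := (dc_eq_iff hmN ((hF.bnPair F).N.mul_mem (S_mem_N hsS) hmN)).1 h1
      have h3 := len_congr h2
      omega

theorem mem_of_fixed' (g : ↥(D.group F)) (hfix : sg g.1 = g.1) : g.1 ∈ G1 D σ := by
  classical
  obtain ⟨n, hn, hg⟩ := Cfsg.Agent.Lib.BNPair.exists_mem_dc (P := hF.bnPair F) g
  obtain ⟨l, hl, hln⟩ := Cfsg.Agent.Lib.BNPair.exists_reduced hn
  have h1 := Cfsg.Agent.Lib.BNPair.dc_eq_dc_of_inv_mul_mem hln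
  rw [h1] at hg
  exact mem_of_reduced' σ hF l hl g hg hfix

/-- The character values of a fixed torus element are fixed. -/
theorem chi_fixed {c : Fin D.rank → Fˣ} (h : sg (tor R D c) = tor R D c) {s : ℕ}
    (hs : s < D.nroots) : σ ((chiT D c s : Fˣ) : F) = ((chiT D c s : Fˣ) : F) := by
  have h1 := congrArg (fun g : GL D.Idx F => (g : Matrix D.Idx D.Idx F)
    (Sum.inr ⟨s, hs⟩) (Sum.inr ⟨s, hs⟩)) h
  simp only [glM_val, Matrix.map_apply] at h1
  rw [hF.tor_eq, coe_diagG, Matrix.diagonal_apply_eq] at h1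
  simpa using h1

theorem Ts_conj_gen {h : GL D.Idx F} (hh : h ∈ Ts D σ) {g : GL D.Idx F}
    (hg : ∃ (s : ℕ) (t : F), σ t = t ∧ (g : Matrix D.Idx D.Idx F) = D.x F s t) :
    h * g * h⁻¹ ∈ Ls D σ := by
  obtain ⟨hh1, hh2⟩ := hh
  obtain ⟨c, rfl⟩ := (hF.mem_diagonal_iff).1 hh1
  obtain ⟨s, t, ht, hg⟩ := hg
  by_cases hs : s < D.nroots
  · rw [hF.c.eq_xG hg, hF.tor_conj_xG c hs]
    apply xG_mem_Ls σ hF
    rw [map_mul, ht, chi_fixed σ hF hh2 hs]
  · have h1 : D.x F s t = 1 := by simp [ChevalleyDatum.x, hs]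
    have h2 : g = 1 := Units.ext (by rw [hg, h1]; rfl)
    rw [h2]
    simp

theorem Ts_le_normalizer : Ts D σ ≤ Subgroup.normalizer (Ls D σ : Set (GL D.Idx F)) := by
  intro h hh
  apply GroupLem.mem_normalizer_closure
  · intro x hx
    exact Ts_conj_gen σ hF hh hx
  · intro x hx
    have h3 := Ts_conj_gen σ hF (inv_mem hh) hx
    rw [inv_inv] at h3
    exact h3

theorem Ts_comm {h h' : GL D.Idx F} (hh : h ∈ Ts D σ) (hh' : h' ∈ Ts D σ) : h * h' = h' * h := by
  obtain ⟨c, rfl⟩ := (hF.mem_diagonal_iff).1 hh.1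
  obtain ⟨c', rfl⟩ := (hF.mem_diagonal_iff).1 hh'.1
  rw [tor_mul, tor_mul, mul_comm]

/-- Elements of `G1` normalise every subgroup between `Ls` and `G1`. -/
theorem G1_le_normalizer {K : Subgroup (GL D.Idx F)} (h1 : Ls D σ ≤ K) (h2 : K ≤ G1 D σ) :
    G1 D σ ≤ Subgroup.normalizer (K : Set (GL D.Idx F)) := by
  have key : ∀ g ∈ G1 D σ, ∀ x ∈ K, g * x * g⁻¹ ∈ K := by
    intro g hg x hx
    obtain ⟨ℓ, hℓ, h, hh, rfl⟩ := (GroupLem.mem_sup_iff_of_le_normalizer
      (Ts_le_normalizer σ hF)).1 hg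
    obtain ⟨ℓ', hℓ', h', hh', rfl⟩ := (GroupLem.mem_sup_iff_of_le_normalizer
      (Ts_le_normalizer σ hF)).1 (h2 hx)
    have h3 : h * ℓ' * h⁻¹ ∈ Ls D σ :=
      (Subgroup.mem_set_normalizer_iff.1 (Ts_le_normalizer σ hF hh) ℓ').1 hℓ'
    have e : ℓ * h * (ℓ' * h') * (ℓ * h)⁻¹ =
        ℓ * ((h * ℓ' * h⁻¹) * ℓ'⁻¹) * (ℓ' * h') * ℓ⁻¹ := by
      have e2 : h * h' = h' * h := Ts_comm σ hF hh hh'
      have e3 : h * (ℓ' * h') * h⁻¹ = (h * ℓ' * h⁻¹) * h' := by
        calc h * (ℓ' * h') * h⁻¹ = h * ℓ' * (h' * h⁻¹) := by group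
          _ = h * ℓ' * (h⁻¹ * (h * h') * h⁻¹) := by group
          _ = h * ℓ' * (h⁻¹ * (h' * h) * h⁻¹) := by rw [e2]
          _ = _ := by group
      calc ℓ * h * (ℓ' * h') * (ℓ * h)⁻¹ = ℓ * (h * (ℓ' * h') * h⁻¹) * ℓ⁻¹ := by group
        _ = ℓ * ((h * ℓ' * h⁻¹) * h') * ℓ⁻¹ := by rw [e3]
        _ = _ := by group
    rw [e]
    exact mul_mem (mul_mem (mul_mem (h1 hℓ) (h1 (mul_mem h3 (inv_mem hℓ')))) hx) (inv_mem (h1 hℓ))
  intro g hg
  rw [Subgroup.mem_set_normalizer_iff]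
  intro x
  constructor
  · exact key g hg x
  · intro hx
    have := key g⁻¹ (inv_mem hg) _ hx
    have e : g⁻¹ * (g * x * g⁻¹) * g⁻¹⁻¹ = x := by group
    rwa [e] at this

/-- **The centralizer of `K` is trivial.** -/
theorem centralizer_eq_bot {K : Subgroup (GL D.Idx F)} (h1 : Ls D σ ≤ K) :
    D.group F ⊓ Subgroup.centralizer (K : Set (GL D.Idx F)) = ⊥ := by
  rw [eq_bot_iff]
  rintro z ⟨hz, hc⟩
  rw [Subgroup.mem_bot]
  have hcomm : ∀ v ∈ K, z * v * z⁻¹ = v := by
    intro v hv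
    have h2 := Subgroup.mem_centralizer_iff.1 hc v hv
    rw [← h2]
    group
  apply eq_one_of_comm_roots hF hz
  · intro r hr
    exact hcomm _ (h1 (xG_mem_Ls σ hF r (by simp)))
  · intro v hv
    apply hcomm
    apply h1
    refine (?_ : hF.nClosure F ≤ Ls D σ) hv
    rw [Full.nClosure, Subgroup.closure_le]
    rintro g ⟨i, hi, rfl⟩
    exact nS_mem_Ls σ hF i

/-- **The normalizer of `K` is the fixed point group.** -/
theorem mem_normalizer_iff {K : Subgroup (GL D.Idx F)} (h1 : Ls D σ ≤ K) (h2 : K ≤ D.group F)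
    (h3 : ∀ x ∈ K, sg x = x) {g : GL D.Idx F} (hg : g ∈ D.group F) :
    g ∈ Subgroup.normalizer (K : Set (GL D.Idx F)) ↔ sg g = g := by
  constructor
  · intro hN
    have hsG : sg g ∈ D.group F := map_group_le D (σ : F →+* F) ⟨g, hg, rfl⟩
    have hy : g⁻¹ * sg g ∈ D.group F ⊓ Subgroup.centralizer (K : Set (GL D.Idx F)) := by
      refine Subgroup.mem_inf.2 ⟨mul_mem (inv_mem hg) hsG, Subgroup.mem_centralizer_iff.2 ?_⟩
      intro x hx
      have h4 := (Subgroup.mem_set_normalizer_iff.1 hN x).1 hx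
      have h5 := h3 _ h4
      rw [map_mul, map_mul, map_inv, h3 x hx] at h5
      calc x * (g⁻¹ * sg g) = g⁻¹ * (g * x * g⁻¹) * sg g := by group
        _ = g⁻¹ * (sg g * x * (sg g)⁻¹) * sg g := by rw [h5]
        _ = _ := by group
    rw [centralizer_eq_bot σ hF h1, Subgroup.mem_bot] at hy
    exact (inv_mul_eq_one.1 hy).symm
  · intro hfix
    apply G1_le_normalizer σ hF h1
    · intro x hx
      exact mem_of_fixed' σ hF ⟨x, h2 hx⟩ (h3 x hx)
    · exact mem_of_fixed' σ hF ⟨g, hg⟩ hfix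

end Fix

end Cfsg.Agent.Lib.ChevFrob50
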