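import Cfsg.Agent.Lib.ChevPresCenterCore
import Cfsg.Agent.Lib.ChevPresAll

/-!
# The kernel of `Ḡ → G` is the centre of `Ḡ`, with the data for all seven types

The theorems are in `ChevPresCenterCore`, which has no tables of a particular type in its imports.
-/
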