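import Cfsg.Agent.Lib.ChevReg50
import Cfsg.Agent.Lib.Chev.RankOne

/-!
# The centralizer of a regular element of the torus, Bruhat form

If the values of `tor c` on the roots differ from `1`, and no element of `N` outside `H` fixes `tor c`,
then the centralizer of `tor c` in the Chevalley group is the torus.
-/

set_option autoImplicit false
set_option linter.unusedSectionVars false
set_option linter.unusedVariables false

namespace Cfsg.Agent.Lib.ChevReg250

open Cfsg Cfsg.Lie Cfsg.Agent.Lib.Chev Matrix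

variable {F : Type*} [Field F] {T : Tabs} {X : Extra} {R : RootTab} {D : ChevalleyDatum}

/-- A unipotent element commuting with a regular element of the torus is trivial. -/
theorem U_eq_one_of_comm (hF : Full T X R D) (c : Fin D.rank → Fˣ)
    (h1 : ∀ r, r < D.nroots → chiT D c r ≠ 1)
    {u : GL D.Idx F} (hu : u ∈ D.posUnipotent F) (hc : u * tor R D c = tor R D c * u) : u = 1 := by
  have h2 := hF.two
  rw [hF.U_eq_Uk] at hu
  obtain ⟨τ, rfl⟩ := hF.exists_ordW R.N R.N (by omega) le_rfl _ hu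
  have key : tor R D c * hF.ordW R.N τ * (tor R D c)⁻¹ =
      hF.ordW R.N (fun r => ((chiT D c r : Fˣ) : F) * τ r) := by
    have hgen : ∀ L : List ℕ, (∀ r ∈ L, r < D.nroots) → tor R D c * hF.c.wordG (L.map fun r => (r, τ r)) * (tor R D c)⁻¹ =
        hF.c.wordG (L.map fun r => (r, ((chiT D c r : Fˣ) : F) * τ r)) := by
      intro L
      induction L with
      | nil =>
        intro _
        simp [Checks.wordG_nil]
      | cons a L ih =>
        intro hL
        rw [List.map_cons, List.map_cons, Checks.wordG_cons, Checks.wordG_cons,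
          ← ih (fun r hr => hL r (List.mem_cons_of_mem _ hr)), ← hF.tor_conj_xG c (hL a List.mem_cons_self)]
        group
    exact hgen (List.range' R.N (D.nroots - R.N)) (by
      intro r hr
      rw [List.mem_range'_1] at hr
      omega)
  have h3 : hF.ordW R.N (fun r => ((chiT D c r : Fˣ) : F) * τ r) = hF.ordW R.N τ := by
    rw [← key, ← hc, mul_inv_cancel_right]
  have h4 := hF.ordW_inj R.N R.N (by omega) le_rfl _ _ h3
  have h5 : hF.ordW R.N τ = hF.ordW R.N (0 : ℕ → F) := by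
    apply hF.ordW_congr
    intro r hr hr'
    have h6 := h4 r hr hr'
    have h7 : (((chiT D c r : Fˣ) : F) - 1) * τ r = 0 := by
      rw [sub_mul, h6]
      ring
    rcases mul_eq_zero.1 h7 with h8 | h8
    · exact absurd (Units.ext (sub_eq_zero.1 h8)) (h1 r hr')
    · exact h8
  rw [h5, hF.ordW_zero]

/-- An element of `N` commuting with `tor c` preserves the values of `tor c` on the roots. -/
theorem chi_rho_eq (hF : Full T X R D) (c : Fin D.rank → Fˣ) (n : ↥(D.monomialSubgroup F))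
    (hn : tor R D c * n.1 = n.1 * tor R D c) (s : Fin D.nroots) :
    chiT D c (hF.rhoN F n s) = chiT D c s := by
  obtain ⟨u, hu⟩ := hF.rhoN_spec_apply n s
  have e1 : tor R D c * (n.1 * hF.c.xG s (1 : F) * n.1⁻¹) * (tor R D c)⁻¹ =
      n.1 * (tor R D c * hF.c.xG s (1 : F) * (tor R D c)⁻¹) * n.1⁻¹ := by
    calc tor R D c * (n.1 * hF.c.xG s (1 : F) * n.1⁻¹) * (tor R D c)⁻¹
        = (tor R D c * n.1) * hF.c.xG s (1 : F) * (n.1⁻¹ * (tor R D c)⁻¹) := by group
      _ = (n.1 * tor R D c) * hF.c.xG s (1 : F) * ((tor R D c)⁻¹ * n.1⁻¹) := by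
          rw [hn]
          congr 1
          rw [← _root_.mul_inv_rev, ← _root_.mul_inv_rev, hn]
      _ = _ := by group
  rw [hu, hF.tor_conj_xG c (hF.rhoN F n s).2, hF.tor_conj_xG c s.2, hu] at e1
  have h2 := hF.xG_param_inj (hF.rhoN F n s).2 e1
  apply Units.ext
  have hu0 : (u : F) ≠ 0 := u.ne_zero
  have h3 : (u : F) * (((chiT D c (hF.rhoN F n s) : Fˣ) : F) - ((chiT D c s : Fˣ) : F)) = 0 := by
    linear_combination h2
  rcases mul_eq_zero.1 h3 with h4 | h4
  · exact absurd h4 hu0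
  · exact sub_eq_zero.1 h4

/-- The centralizer of a regular element of the torus is the torus. -/
theorem mem_diagonal_of_comm2 [Fintype F] (hF : Full T X R D) (c : Fin D.rank → Fˣ)
    (h1 : ∀ r, r < D.nroots → chiT D c r ≠ 1)
    (h2 : ∀ n : ↥(D.monomialSubgroup F), (∀ s : Fin D.nroots, chiT D c (hF.rhoN F n s) = chiT D c s) →
      n.1 ∈ D.diagonalSubgroup F)
    {z : GL D.Idx F} (hz : z ∈ D.group F) (hc : z * tor R D c = tor R D c * z) :
    z ∈ D.diagonalSubgroup F := by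
  classical
  set t := tor R D c with ht
  have htH : t ∈ D.diagonalSubgroup F := (hF.mem_diagonal_iff).2 ⟨c, rfl⟩
  have hnormU : ∀ h ∈ D.diagonalSubgroup F, ∀ u ∈ D.posUnipotent F, h * u * h⁻¹ ∈ D.posUnipotent F := by
    intro h hh u hu
    exact (Subgroup.mem_normalizer_iff.1 (hF.diagonal_le_normalizer_U hh) u).1 hu
  have hnormN : ∀ n ∈ D.monomialSubgroup F, ∀ h ∈ D.diagonalSubgroup F, n * h * n⁻¹ ∈ D.diagonalSubgroup F := by
    intro n hn h hh
    have := hF.diagonal_normal (F := F)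
    have h3 := this.conj_mem ⟨h, hF.c.diagonal_le_monomial hh⟩ (Subgroup.mem_subgroupOf.2 hh) ⟨n, hn⟩
    exact Subgroup.mem_subgroupOf.1 h3
  obtain ⟨n, hn, hgn⟩ := Cfsg.Agent.Lib.BNPair.exists_mem_dc (P := hF.bnPair F)
    (⟨z, hz⟩ : ↥(D.group F))
  obtain ⟨b, hb, b', hb', e⟩ := Cfsg.Agent.Lib.BNPair.mem_dc.1 hgn
  have hb1 : b.1 ∈ D.borelSubgroup F := Subgroup.mem_subgroupOf.1 hb
  have hb2 : b'.1 ∈ D.borelSubgroup F := Subgroup.mem_subgroupOf.1 hb'
  have hn1 : n.1 ∈ D.monomialSubgroup F := Subgroup.mem_subgroupOf.1 hn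
  have he : z = b.1 * n.1 * b'.1 := congrArg Subtype.val e
  obtain ⟨u₁, hu₁, h₁, hh₁, eb⟩ := (hF.mem_borel_iff).1 hb1
  obtain ⟨v, hv, h₂, hh₂, eb'⟩ := (hF.mem_borel_iff).1 hb2
  set u₂ := h₂⁻¹ * v * h₂ with hu₂
  have hu₂U : u₂ ∈ D.posUnipotent F := by
    have := hnormU _ (inv_mem hh₂) v hv
    rwa [inv_inv] at this
  set n' := h₁ * n.1 * h₂ with hn'
  have hn'N : n' ∈ D.monomialSubgroup F :=
    mul_mem (mul_mem (hF.c.diagonal_le_monomial hh₁) hn1) (hF.c.diagonal_le_monomial hh₂)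
  have hz' : z = u₁ * n' * u₂ := by
    rw [he, eb, eb', hn', hu₂]
    group
  set a := u₁⁻¹ * (t * u₁ * t⁻¹) with ha
  have haU : a ∈ D.posUnipotent F := mul_mem (inv_mem hu₁) (hnormU _ htH _ hu₁)
  set a' := (t * u₂ * t⁻¹) * u₂⁻¹ with ha'
  have ha'U : a' ∈ D.posUnipotent F := mul_mem (hnormU _ htH _ hu₂U) (inv_mem hu₂U)
  set e₀ := n'⁻¹ * t * n' * t⁻¹ with he₀
  have he₀H : e₀ ∈ D.diagonalSubgroup F := by
    have h3 := hnormN _ (inv_mem hn'N) _ htH
    rw [inv_inv] at h3
    exact mul_mem h3 (inv_mem htH)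
  have hcz : t * z * t⁻¹ = z := by
    rw [← hc, mul_inv_cancel_right]
  have hrel : n'⁻¹ * a * n' * (e₀ * a') = 1 := by
    have h3 : a * n' * (e₀ * a') = n' := by
      have h4 : a * n' * (e₀ * a') = u₁⁻¹ * (t * (u₁ * n' * u₂) * t⁻¹) * u₂⁻¹ := by
        rw [ha, ha', he₀]
        group
      rw [h4, ← hz', hcz, hz']
      group
    calc n'⁻¹ * a * n' * (e₀ * a') = n'⁻¹ * (a * n' * (e₀ * a')) := by group
      _ = 1 := by rw [h3, inv_mul_cancel]
  -- orders
  set q := Fintype.card F with hq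
  set m := q ^ R.N with hm
  have hcard : Nat.card ↥(D.posUnipotent F) = m := hF.card_U_fintype
  have hfinU : Finite ↥(D.posUnipotent F) := by
    apply Nat.finite_of_card_ne_zero
    rw [hcard]
    exact pow_ne_zero _ Fintype.card_ne_zero
  have hapow : a ^ m = 1 := by
    have h3 : (⟨a, haU⟩ : ↥(D.posUnipotent F)) ^ Nat.card ↥(D.posUnipotent F) = 1 := pow_card_eq_one'
    rw [hcard] at h3
    exact congrArg Subtype.val h3
  have hpow2 : (n'⁻¹ * a * n') ^ m = 1 := by
    have h3 : (n'⁻¹ * a * n') ^ m = n'⁻¹ * a ^ m * n' := by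
      have := conj_pow (a := n'⁻¹) (b := a) (i := m)
      rwa [inv_inv] at this
    rw [h3, hapow]
    group
  have hinv : n'⁻¹ * a * n' = (e₀ * a')⁻¹ := eq_inv_of_mul_eq_one_left hrel
  have hpow3 : (e₀ * a') ^ m = 1 := by
    rw [hinv, inv_pow] at hpow2
    exact inv_eq_one.1 hpow2
  have hform : ∀ k : ℕ, ∃ w ∈ D.posUnipotent F, (e₀ * a') ^ k = e₀ ^ k * w := by
    intro k
    induction k with
    | zero => exact ⟨1, one_mem _, by simp⟩
    | succ k ih =>
      obtain ⟨w, hw, e3⟩ := ih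
      refine ⟨e₀⁻¹ * w * e₀ * a', mul_mem ?_ ha'U, ?_⟩
      · have := hnormU _ (inv_mem he₀H) w hw
        rwa [inv_inv] at this
      · rw [pow_succ, e3, pow_succ]
        group
  obtain ⟨w, hw, e3⟩ := hform m
  rw [hpow3] at e3
  have he₀m : e₀ ^ m = 1 := by
    have h3 : e₀ ^ m ∈ D.posUnipotent F ⊓ D.diagonalSubgroup F := by
      refine Subgroup.mem_inf.2 ⟨?_, pow_mem he₀H m⟩
      have : e₀ ^ m = w⁻¹ := eq_inv_of_mul_eq_one_left e3.symm
      rw [this]
      exact inv_mem hw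
    rw [hF.U_inf_H, Subgroup.mem_bot] at h3
    exact h3
  obtain ⟨c₀, hc₀⟩ := (hF.mem_diagonal_iff).1 he₀H
  have he₀1 : e₀ = 1 := by
    have h3 : c₀ ^ m = c₀ := by
      funext i
      apply Units.ext
      rw [Pi.pow_apply, Units.val_pow_eq_pow_val, hm, hq]
      exact FiniteField.pow_card_pow _ _
    rw [hc₀] at he₀m ⊢
    have h4 : tor R D c₀ ^ m = tor R D (c₀ ^ m) := (map_pow (torHom R D) c₀ m).symm
    rw [h4, h3] at he₀m
    exact he₀m
  have hcomm : t * n' = n' * t := by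
    have h3 : n'⁻¹ * t * n' = t := by
      rw [he₀, mul_inv_eq_one] at he₀1
      exact he₀1
    calc t * n' = n' * (n'⁻¹ * t * n') * n'⁻¹ * n' := by group
      _ = n' * t := by rw [h3]; group
  set nn : ↥(D.monomialSubgroup F) := ⟨n', hn'N⟩ with hnn
  have hnH : n' ∈ D.diagonalSubgroup F := h2 nn (fun s => chi_rho_eq hF c nn hcomm s)
  have hB : z ∈ D.borelSubgroup F := by
    rw [hz']
    exact mul_mem (mul_mem (hF.c.posUnipotent_le_borel hu₁) (hF.c.diagonal_le_borel hnH))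
      (hF.c.posUnipotent_le_borel hu₂U)
  obtain ⟨u, hu, h, hh, e4⟩ := (hF.mem_borel_iff).1 hB
  obtain ⟨c₁, rfl⟩ := (hF.mem_diagonal_iff).1 hh
  have hut : u * t = t * u := by
    have h3 : tor R D c₁ * t = t * tor R D c₁ := by
      rw [ht, tor_mul, tor_mul, mul_comm]
    rw [e4] at hc
    have h5 : u * t * tor R D c₁ = t * u * tor R D c₁ := by
      calc u * t * tor R D c₁ = u * (t * tor R D c₁) := by group
        _ = u * (tor R D c₁ * t) := by rw [h3]
        _ = u * tor R D c₁ * t := by group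
        _ = t * (u * tor R D c₁) := hc
        _ = t * u * tor R D c₁ := by group
    exact mul_right_cancel h5
  rw [e4, U_eq_one_of_comm hF c h1 hu hut, one_mul]
  exact hh

end Cfsg.Agent.Lib.ChevReg250
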