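import Cfsg.Agent.Lib.ChevFrob50

/-!
# The centralizer of a regular element of the torus

If the values of the element `tor c` of the torus on the root vectors are different from each other
and from `1`, then its centralizer in the Chevalley group is the torus.
-/

set_option autoImplicit false
set_option linter.unusedSectionVars false
set_option linter.unusedVariables false

namespace Cfsg.Agent.Lib.ChevReg50

open Cfsg Cfsg.Lie Cfsg.Agent.Lib.Chev Matrix
open Cfsg.Agent.Lib.BorelTits50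

variable {F : Type*} [Field F] {T : Tabs} {X : Extra} {R : RootTab} {D : ChevalleyDatum}

/-- The non-strict filtration condition with respect to the height. -/
def Nd (R : RootTab) (D : ChevalleyDatum) (M : Matrix D.Idx D.Idx F) : Prop :=
  ∀ i j, M i j ≠ 0 → grR R D (fun _ => 1) j ≤ grR R D (fun _ => 1) i

theorem Nd_mul {M M' : Matrix D.Idx D.Idx F} (h : Nd R D M) (h' : Nd R D M') : Nd R D (M * M') := by
  intro i j hij
  rw [Matrix.mul_apply] at hij
  obtain ⟨k, _, hk⟩ := Finset.exists_ne_zero_of_sum_ne_zero hij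
  exact (h' k j (right_ne_zero_of_mul hk)).trans (h i k (left_ne_zero_of_mul hk))

theorem Nd_of_FU {M : Matrix D.Idx D.Idx F}
    (h : FU R D (fun _ => (1 : ℝ)) M) : Nd R D M := by
  intro i j hij
  by_cases hne : i = j
  · subst hne
    exact le_rfl
  · have h1 : (M - 1) i j ≠ 0 := by
      rw [Matrix.sub_apply, Matrix.one_apply_ne hne, sub_zero]
      exact hij
    have := h i j h1
    linarith

theorem Nd_diag (hF : Full T X R D) (c : Fin D.rank → Fˣ) :
    Nd R D ((tor R D c : GL D.Idx F) : Matrix D.Idx D.Idx F) := by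
  intro i j hij
  rw [hF.tor_eq, coe_diagG] at hij
  by_cases hne : i = j
  · subst hne
    exact le_rfl
  · exact absurd (Matrix.diagonal_apply_ne _ hne) hij

theorem Nd_U (hF : Full T X R D) {u : GL D.Idx F} (hu : u ∈ D.posUnipotent F) :
    Nd R D (u : Matrix D.Idx D.Idx F) :=
  Nd_of_FU (FU_of_mem hF (U_le_Fp_one hF hu)).1

theorem Nd_B (hF : Full T X R D) {b : GL D.Idx F} (hb : b ∈ D.borelSubgroup F) :
    Nd R D (b : Matrix D.Idx D.Idx F) := by
  obtain ⟨u, hu, h, hh, rfl⟩ := (hF.mem_borel_iff).1 hb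
  obtain ⟨c, rfl⟩ := (hF.mem_diagonal_iff).1 hh
  rw [Units.val_mul]
  exact Nd_mul (Nd_U hF hu) (Nd_diag hF c)

theorem one_le_lin (hF : Full T X R D) {s : ℕ} (hs1 : s < D.nroots) (hs2 : R.N ≤ s) :
    1 ≤ lin R D (fun _ => 1) s := by
  obtain ⟨j, hj, h1⟩ := hF.exists_rc_pos hs1 hs2
  have h2 : lin R D (fun _ => 1) s = ((∑ j : Fin D.rank, R.rcAt s j : ℤ) : ℝ) := by
    unfold lin
    push_cast
    simp
  rw [h2]
  have h3 : R.rcAt s (⟨j, hj⟩ : Fin D.rank) ≤ ∑ j : Fin D.rank, R.rcAt s j :=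
    Finset.single_le_sum (f := fun j : Fin D.rank => R.rcAt s j)
      (fun i _ => hF.rc_nonneg hs1 hs2 i.2) (Finset.mem_univ _)
  have h4 : (1 : ℤ) ≤ ∑ j : Fin D.rank, R.rcAt s j := by
    have : 0 < R.rcAt s (⟨j, hj⟩ : Fin D.rank) := h1
    omega
  exact_mod_cast h4

/-- A root element of a negative root does not respect the height. -/
theorem not_Nd_x (hF : Full T X R D) {r : ℕ} (hr : r < D.nroots) (hN : r < R.N) {c : F} (hc : c ≠ 0) :
    ¬ Nd R D (D.x F r c) := by
  intro h
  have hne := hF.neg_lt hr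
  have h1 := hF.x_entry_neg_self hr c
  have h2 := h (Sum.inr ⟨r, hr⟩) (Sum.inr ⟨D.neg r, hne⟩) (by
    rw [h1]
    exact neg_ne_zero.2 (pow_ne_zero _ hc))
  simp only [grR_inr] at h2
  have h3 := one_le_lin hF hne (hF.neg_ge_N hN)
  rw [lin_neg hF _ hr] at h2 h3
  linarith

/-- The centralizer of a regular element of the torus is the torus. -/
theorem mem_diagonal_of_comm (hF : Full T X R D) (c : Fin D.rank → Fˣ)
    (h1 : ∀ r, r < D.nroots → chiT D c r ≠ 1)
    (h2 : ∀ r s, r < D.nroots → s < D.nroots → r ≠ s → chiT D c r ≠ chiT D c s)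
    {z : GL D.Idx F} (hz : z ∈ D.group F) (hc : z * tor R D c = tor R D c * z) :
    z ∈ D.diagonalSubgroup F := by
  -- the shape of an element commuting with `tor c`
  have hshape : ∀ y : GL D.Idx F, y * tor R D c = tor R D c * y → ∀ i j : D.Idx, i ≠ j →
      (y : Matrix D.Idx D.Idx F) i j ≠ 0 → ∃ a b, i = Sum.inl a ∧ j = Sum.inl b := by
    intro y hy i j hij hne
    have h3 := congrArg (fun g : GL D.Idx F => (g : Matrix D.Idx D.Idx F) i j) hy
    simp only [Units.val_mul, hF.tor_eq, coe_diagG, Matrix.mul_diagonal, Matrix.diagonal_mul] at h3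
    rcases i with a | u <;> rcases j with b | v
    · exact ⟨a, b, rfl, rfl⟩
    · exfalso
      simp only [Sum.elim_inl, Sum.elim_inr, one_mul] at h3
      have h4 : ((chiT D c v : Fˣ) : F) = 1 := mul_left_cancel₀ hne (h3.trans (mul_one _).symm)
      exact h1 v v.2 (Units.ext h4)
    · exfalso
      simp only [Sum.elim_inl, Sum.elim_inr, mul_one] at h3
      have h4 : ((chiT D c u : Fˣ) : F) = 1 := mul_right_cancel₀ hne (h3.symm.trans (one_mul _).symm)
      exact h1 u u.2 (Units.ext h4)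
    · exfalso
      simp only [Sum.elim_inr] at h3
      have h4 : ((chiT D c v : Fˣ) : F) = ((chiT D c u : Fˣ) : F) := mul_left_cancel₀ hne (h3.trans (mul_comm _ _))
      have huv : (u : ℕ) ≠ (v : ℕ) := fun h => hij (congrArg Sum.inr (Fin.ext h))
      exact h2 u v u.2 v.2 huv (Units.ext h4).symm
  have hNd : ∀ y : GL D.Idx F, y * tor R D c = tor R D c * y → Nd R D (y : Matrix D.Idx D.Idx F) := by
    intro y hy i j hij
    by_cases hne : i = j
    · subst hne
      exact le_rfl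
    · obtain ⟨a, b, rfl, rfl⟩ := hshape y hy i j hne hij
      simp
  have hc' : z⁻¹ * tor R D c = tor R D c * z⁻¹ := by
    rw [eq_mul_inv_iff_mul_eq, mul_assoc, ← hc, ← mul_assoc, inv_mul_cancel, one_mul]
  have hB : z ∈ D.borelSubgroup F := by
    obtain ⟨n, hn, hgn⟩ := Cfsg.Agent.Lib.BNPair.exists_mem_dc (P := hF.bnPair F)
      (⟨z, hz⟩ : ↥(D.group F))
    obtain ⟨b, hb, b', hb', e⟩ := Cfsg.Agent.Lib.BNPair.mem_dc.1 hgn
    have hb1 : b.1 ∈ D.borelSubgroup F := Subgroup.mem_subgroupOf.1 hb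
    have hb2 : b'.1 ∈ D.borelSubgroup F := Subgroup.mem_subgroupOf.1 hb'
    have hn1 : n.1 ∈ D.monomialSubgroup F := Subgroup.mem_subgroupOf.1 hn
    have he : z = b.1 * n.1 * b'.1 := congrArg Subtype.val e
    have hNn : Nd R D ((n.1 : GL D.Idx F) : Matrix D.Idx D.Idx F) := by
      have e2 : n.1 = b.1⁻¹ * z * b'.1⁻¹ := by rw [he]; group
      rw [e2, Units.val_mul, Units.val_mul]
      exact Nd_mul (Nd_mul (Nd_B hF (inv_mem hb1)) (hNd z hc)) (Nd_B hF (inv_mem hb2))
    have hNn' : Nd R D ((n.1⁻¹ : GL D.Idx F) : Matrix D.Idx D.Idx F) := by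
      have e2 : n.1⁻¹ = b'.1 * z⁻¹ * b.1 := by rw [he]; group
      rw [e2, Units.val_mul, Units.val_mul]
      exact Nd_mul (Nd_mul (Nd_B hF hb2) (hNd z⁻¹ hc')) (Nd_B hF hb1)
    set nn : ↥(D.monomialSubgroup F) := ⟨n.1, hn1⟩ with hnn
    have hH : nn.1 ∈ D.diagonalSubgroup F := by
      apply hF.mem_diagonal_of_pos'
      intro x hx
      by_contra hneg
      obtain ⟨u, hu⟩ := hF.rhoN_spec_apply nn x
      have h3 := hu 1
      have h4 : Nd R D (((nn.1 * hF.c.xG x 1 * nn.1⁻¹ : GL D.Idx F)) : Matrix D.Idx D.Idx F) := by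
        rw [Units.val_mul, Units.val_mul]
        refine Nd_mul (Nd_mul hNn (Nd_U hF (hF.xG_mem_U x.2 hx 1))) hNn'
      rw [h3, Checks.coe_xG] at h4
      exact not_Nd_x hF (hF.rhoN F nn x).2 (not_le.1 hneg) (by simp) h4
    rw [he]
    exact mul_mem (mul_mem hb1 (hF.c.diagonal_le_borel hH)) hb2
  obtain ⟨u, hu, h, hh, e⟩ := (hF.mem_borel_iff).1 hB
  obtain ⟨c₀, rfl⟩ := (hF.mem_diagonal_iff).1 hh
  have hFU := (FU_of_mem hF (U_le_Fp_one hF hu)).1
  have hu1 : u = 1 := by
    apply Units.ext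
    rw [Units.val_one, ← sub_eq_zero]
    ext i j
    rw [Matrix.zero_apply]
    by_contra hne
    have h3 := hFU i j hne
    by_cases hij : i = j
    · subst hij
      linarith
    · rw [Matrix.sub_apply, Matrix.one_apply_ne hij, sub_zero] at hne
      have e2 : (z : Matrix D.Idx D.Idx F) i j = (u : Matrix D.Idx D.Idx F) i j * (tor R D c₀ : GL D.Idx F).1 j j := by
        rw [e, Units.val_mul, hF.tor_eq, coe_diagG, Matrix.mul_diagonal]
        simp
      have hne2 : (z : Matrix D.Idx D.Idx F) i j ≠ 0 := by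
        rw [e2]
        apply mul_ne_zero hne
        rw [hF.tor_eq, coe_diagG, Matrix.diagonal_apply_eq]
        cases j <;> simp
      obtain ⟨a, b, rfl, rfl⟩ := hshape z hc i j hij hne2
      simp at h3
      linarith
  rw [e, hu1, one_mul]
  exact (hF.mem_diagonal_iff).2 ⟨c₀, rfl⟩

end Cfsg.Agent.Lib.ChevReg50
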