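import Cfsg.Agent.Lib.ChevStem
import Cfsg.Agent.Lib.ChevTorTab
import Cfsg.Agent.Lib.Chev.Core

/-!
# The table data of the simply laced type E6
-/

set_option autoImplicit false

namespace Cfsg.Agent.Lib.ChevSLE6

open Cfsg.Lie Cfsg.Agent.Lib.Chev Cfsg.Agent.Lib.ChevLiftC Cfsg.Agent.Lib.ChevBL
open Cfsg.Agent.Lib.Chev.TabE6 Cfsg.Agent.Lib.Chev.RootE6T

def witT : List (ℕ × ℕ) := [(25,1), (32,2), (39,1), (40,1), (41,1), (43,1), (44,1), (45,1), (44,2), (45,2), (45,3), (35,12), (36,11), (38,11), (41,11), (45,11), (58,1), (59,1), (60,1), (59,2), (60,2), (60,3), (59,5), (60,5), (60,6), (60,8), (56,11), (56,12), (56,13), (56,14), (57,11), (57,12), (57,13), (58,11), (58,12), (59,11), (60,12), (59,13), (60,13), (58,14), (59,14), (60,14), (57,15), (58,15), (59,15), (60,15), (0,0), (0,0), (0,0), (0,0), (0,0), (0,0), (0,0), (0,0), (0,0), (0,0), (60,26), (60,30), (60,33), (60,35), (59,36), (0,0), (0,0), (0,0), (0,0), (0,0), (0,0), (0,0), (0,0),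 (0,0), (0,0), (0,0)]

def witA : List ℕ := [0, 0, 39, 40, 41, 43, 44, 45, 11, 12, 13, 0, 0, 0, 0, 0, 58, 59, 60, 26, 27, 28, 30, 31, 32, 0, 0, 0, 0, 0, 0, 0, 0, 0, 0, 0, 0, 0, 0, 0, 0, 0, 0, 0, 0, 0, 0, 0, 0, 0, 0, 0, 0, 0, 0, 0, 0, 0, 0, 0, 0, 0, 0, 0, 0, 0, 0, 0, 0, 0, 0, 0]

def up : List (List ℕ) := [[], [3, 2, 1, 3, 0, 2], [0, 2], [2, 3, 0, 2], [3, 4, 2, 3, 0, 2], [4, 5, 3, 4, 2, 3, 0, 2]]

def down : List (List ℕ) := [[], [2, 0, 3, 1, 2, 3], [2, 0], [2, 0, 3, 2], [2, 0, 3, 2, 4, 3], [2, 0, 3, 2, 4, 3, 5, 4]]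

set_option maxRecDepth 100000 in
theorem shape : Shape chevE6 := by
  unfold Shape
  decide +kernel

set_option maxRecDepth 100000 in
theorem t1 : t1ok chevE6 0 witT = true := by decide +kernel

set_option maxRecDepth 100000 in
theorem adj : adjok chevE6 0 25 1 witA = true := by decide +kernel

theorem dec0 : isDecb chevE6 25 1 0 = true := by decide +kernel

theorem adj1 : adjb chevE6 0 24 2 25 1 32 = true := by decide +kernel

theorem hk : isCb chevE6 0 1 = true := by decide +kernel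

set_option maxRecDepth 100000 in
theorem reach : reachok chevE6 X 0 up down = true := by decide +kernel

/-- The data. -/
noncomputable def data : SLData chevE6 X where
  shape := shape
  r₀ := ⟨0, by decide⟩
  κ₀ := ⟨0, by decide⟩
  α := ⟨25, by decide⟩
  ν' := ⟨1, by decide⟩
  μ₁ := ⟨24, by decide⟩
  γ₁ := ⟨2, by decide⟩
  β₁ := 32
  witT := witT
  witA := witA
  i₀ := 0
  up := up
  down := down
  t1 := t1
  adj := adj
  dec0 := dec0
  adj1 := adj1
  hk := hk
  reach := reach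

theorem brChk_ok : ∀ e ∈ R.braid, brChk X chevE6 e.1 e.2.1 e.2.2.1 = true := by decide +kernel

def selfM : List (ℕ × ℕ) := [(25,1), (46,0), (47,0), (48,0), (49,0), (50,0), (51,0), (52,0), (53,0), (54,0), (55,0), (53,1), (54,1), (55,1), (55,2), (55,5), (61,0), (62,0), (63,0), (64,0), (65,0), (66,0), (67,0), (68,0), (69,0), (70,0), (64,1), (65,1), (66,1), (66,2), (67,1), (68,1), (69,1), (67,2), (68,2), (67,3), (68,4), (69,3), (69,4), (70,2), (70,3), (70,4), (69,5), (70,5), (70,6), (70,7), (71,1), (71,2), (71,3), (71,4), (71,5), (71,6), (71,7), (71,8), (71,9), (71,10), (66,16), (69,16), (70,16), (70,17), (70,18), (71,16), (71,17), (71,18), (71,19), (71,20), (71,21), (71,22), (71,23), (71,24), (71,25), (70,46)]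

set_option maxRecDepth 100000 in
theorem self_ok : Cfsg.Agent.Lib.ChevTorTab.selfOk chevE6 selfM = true := by decide +kernel

end Cfsg.Agent.Lib.ChevSLE6
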