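import Cfsg.Agent.Lib.ChevStem
import Cfsg.Agent.Lib.ChevTorTab
import Cfsg.Agent.Lib.Chev.Core

/-!
# The table data of the simply laced type E7
-/

set_option autoImplicit false

namespace Cfsg.Agent.Lib.ChevSLE7

open Cfsg.Lie Cfsg.Agent.Lib.Chev Cfsg.Agent.Lib.ChevLiftC Cfsg.Agent.Lib.ChevBL
open Cfsg.Agent.Lib.Chev.TabE7 Cfsg.Agent.Lib.Chev.RootE7T

def witT : List (ℕ × ℕ) := [(32,1), (52,2), (73,1), (74,1), (75,1), (76,1), (77,1), (83,1), (84,1), (85,1), (86,1), (87,1), (88,1), (89,1), (90,1), (91,1), (92,1), (87,2), (88,2), (89,2), (90,2), (91,2), (92,2), (90,3), (91,3), (92,3), (92,4), (90,7), (91,7), (92,7), (92,8), (92,11), (92,17), (61,34), (64,33), (65,33), (67,33), (68,33), (68,34), (71,33), (72,33), (72,34), (72,36), (76,33), (77,33), (77,34), (77,36), (77,39), (81,33), (82,33), (82,34), (82,36), (82,39), (85,33), (86,33), (86,34), (86,36), (88,33), (89,33), (89,34), (90,33), (91,33), (90,34), (91,35), (92,34), (92,35), (91,36), (92,36),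 (92,37), (89,39), (91,39), (92,39), (92,40), (86,43), (89,43), (91,43), (92,43), (92,44), (86,48), (89,48), (91,48), (92,48), (92,49), (89,53), (91,53), (92,53), (92,54), (91,57), (92,57), (92,58), (92,60), (92,61), (91,64), (0,0), (0,0), (0,0), (0,0), (0,0), (0,0), (0,0), (0,0), (0,0), (0,0), (0,0), (0,0), (0,0), (0,0), (0,0), (0,0), (0,0), (0,0), (0,0), (0,0), (0,0), (0,0), (0,0), (0,0), (0,0), (0,0), (0,0), (0,0), (0,0), (0,0), (0,0), (0,0), (0,0)]

def witA : List ℕ := [0, 0, 73, 74, 75, 76, 77, 83, 84, 85, 86, 87, 88, 89, 90, 91, 92, 33, 34, 35, 36, 37, 38, 39, 40, 41, 42, 48, 49, 50, 51, 52, 0, 0, 0, 0, 0, 0, 0, 0, 0, 0, 0, 0, 0, 0, 0, 0, 0, 0, 0, 0, 0, 0, 0, 0, 0, 0, 0, 0, 0, 0, 0, 0, 0, 0, 0, 0, 0, 0, 0, 0, 0, 0, 0, 0, 0, 0, 0, 0, 0, 0, 0, 0, 0, 0, 0, 0, 0, 0, 0, 0, 0, 0, 0, 0, 0, 0, 0, 0, 0, 0, 0, 0, 0, 0, 0, 0, 0, 0, 0, 0, 0, 0, 0, 0, 0, 0, 0, 0, 0, 0, 0, 0, 0, 0]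

def up : List (List ℕ) := [[], [3, 2, 1, 3, 0, 2], [0, 2], [2, 3, 0, 2], [3, 4, 2, 3, 0, 2], [4, 5, 3, 4, 2, 3, 0, 2], [5, 6, 4, 5, 3, 4, 2, 3, 0, 2]]

def down : List (List ℕ) := [[], [2, 0, 3, 1, 2, 3], [2, 0], [2, 0, 3, 2], [2, 0, 3, 2, 4, 3], [2, 0, 3, 2, 4, 3, 5, 4], [2, 0, 3, 2, 4, 3, 5, 4, 6, 5]]

set_option maxRecDepth 100000 in
theorem shape : Shape chevE7 := by
  unfold Shape
  decide +kernel

set_option maxRecDepth 100000 in
theorem t1 : t1ok chevE7 0 witT = true := by decide +kernel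

set_option maxRecDepth 100000 in
theorem adj : adjok chevE7 0 32 1 witA = true := by decide +kernel

theorem dec0 : isDecb chevE7 32 1 0 = true := by decide +kernel

theorem adj1 : adjb chevE7 0 31 2 32 1 52 = true := by decide +kernel

theorem hk : isCb chevE7 0 1 = true := by decide +kernel

set_option maxRecDepth 100000 in
theorem reach : reachok chevE7 X 0 up down = true := by decide +kernel

/-- The data. -/
noncomputable def data : SLData chevE7 X where
  shape := shape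
  r₀ := ⟨0, by decide⟩
  κ₀ := ⟨0, by decide⟩
  α := ⟨32, by decide⟩
  ν' := ⟨1, by decide⟩
  μ₁ := ⟨31, by decide⟩
  γ₁ := ⟨2, by decide⟩
  β₁ := 52
  witT := witT
  witA := witA
  i₀ := 0
  up := up
  down := down
  t1 := t1
  adj := adj
  dec0 := dec0
  adj1 := adj1
  hk := hk
  reach := reach

theorem brChk_ok : ∀ e ∈ R.braid, brChk X chevE7 e.1 e.2.1 e.2.2.1 = true := by decide +kernel

def selfM : List (ℕ × ℕ) := [(32,1), (93,0), (94,0), (95,0), (96,0), (97,0), (98,0), (99,0), (100,0), (101,0), (102,0), (103,0), (104,0), (105,0), (106,0), (107,0), (108,0), (109,0), (110,0), (111,0), (112,0), (113,0), (114,0), (115,0), (116,0), (117,0), (118,0), (119,0), (120,0), (121,0), (122,0), (123,0), (124,0), (109,1), (110,1), (111,1), (112,1), (113,1), (114,1), (115,1), (116,1), (117,1), (118,1), (115,2), (116,2), (117,2), (118,2), (118,3), (119,1), (120,1), (121,1), (122,1), (123,1), (119,2), (120,2), (121,2), (122,2), (119,3), (120,3), (121,3), (119,4),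 (120,4), (119,5), (120,6), (121,5), (121,6), (122,4), (122,5), (122,6), (123,3), (123,4), (123,5), (123,6), (124,2), (124,3), (124,4), (124,5), (124,6), (122,7), (123,7), (123,8), (123,9), (123,10), (124,7), (124,8), (124,9), (124,10), (124,11), (124,12), (124,13), (124,14), (124,15), (124,16), (125,1), (125,2), (125,3), (125,4), (125,5), (125,6), (125,7), (125,8), (125,9), (125,10), (125,11), (125,12), (125,13), (125,14), (125,15), (125,16), (125,17), (125,18), (125,19), (125,20), (125,21), (125,22), (125,23), (125,24), (125,25), (125,26), (125,27), (125,28), (125,29), (125,30), (125,31), (125,32), (124,93)]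

set_option maxRecDepth 100000 in
theorem self_ok : Cfsg.Agent.Lib.ChevTorTab.selfOk chevE7 selfM = true := by decide +kernel

end Cfsg.Agent.Lib.ChevSLE7
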