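import Cfsg.Agent.Lib.ChevStem
import Cfsg.Agent.Lib.Chev.Core

/-!
# The table data of the simply laced type E8
-/

set_option autoImplicit false

namespace Cfsg.Agent.Lib.ChevSLE8

open Cfsg.Lie Cfsg.Agent.Lib.Chev Cfsg.Agent.Lib.ChevLiftC Cfsg.Agent.Lib.ChevBL
open Cfsg.Agent.Lib.Chev.TabE8 Cfsg.Agent.Lib.Chev.RootE8T

def witT : List (ℕ × ℕ) := [(119,1), (118,2), (121,1), (124,1), (128,1), (133,1), (139,1), (145,1), (150,1), (154,1), (157,1), (159,1), (159,2), (77,20), (167,1), (172,1), (176,1), (179,1), (181,1), (181,2), (162,13), (186,1), (189,1), (191,1), (191,2), (163,13), (195,1), (197,1), (197,2), (164,13), (200,1), (200,2), (165,13), (200,3), (166,13), (167,13), (205,1), (207,1), (207,2), (169,13), (210,1), (210,2), (170,13), (210,3), (171,13), (172,13), (214,1), (214,2), (174,13), (214,3), (175,13), (176,13), (214,4), (178,13), (179,13), (181,13), (219,1), (219,2), (184,13), (219,3), (185,13), (186,13), (219,4),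 (188,13), (189,13), (191,13), (219,5), (194,13), (195,13), (197,13), (200,13), (219,7), (204,13), (205,13), (207,13), (210,13), (214,13), (219,13), (226,1), (226,2), (184,20), (226,3), (185,20), (186,20), (226,4), (188,20), (189,20), (191,20), (226,5), (194,20), (195,20), (197,20), (200,20), (226,6), (194,25), (195,25), (197,25), (200,25), (200,29), (226,7), (204,20), (205,20), (207,20), (210,20), (214,20), (226,8), (204,25), (205,25), (207,25), (210,25), (226,9), (204,29), (205,29), (207,29), (226,10), (204,32), (205,32), (226,11), (204,34), (226,12), (0,0), (205,35), (0,0), (207,34), (207,35), (0,0), (210,32), (210,34), (210,35), (0,0), (214,29), (214,32), (214,34), (214,35), (0,0), (219,25), (219,29), (219,32), (219,34), (219,35), (0,0), (210,39), (214,39), (214,42), (214,44), (214,45), (0,0), (219,39), (219,42), (219,44), (219,45), (0,0), (219,48), (219,50), (219,51), (0,0), (219,53), (219,54), (0,0), (219,55), (0,0),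 (0,0), (226,20), (226,25), (226,29), (226,32), (226,34), (226,35), (0,0), (226,39), (226,42), (226,44), (226,45), (0,0), (226,48), (226,50), (226,51), (0,0), (226,53), (226,54), (0,0), (226,55), (0,0), (0,0), (226,58), (226,60), (226,61), (0,0), (226,63), (226,64), (0,0), (226,65), (0,0), (0,0), (226,67), (226,68), (0,0), (226,69), (0,0), (0,0), (226,70), (0,0), (0,0), (0,0), (226,72), (226,73), (0,0), (226,74), (0,0), (0,0), (226,75), (0,0), (0,0), (0,0), (226,76), (0,0), (0,0), (0,0), (0,0), (226,77), (0,0), (0,0), (0,0), (0,0), (0,0), (0,0), (219,162), (0,0), (0,0), (0,0), (0,0), (0,0), (0,0), (0,0), (0,0), (0,0), (0,0), (0,0), (0,0), (0,0)]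

def witA : List ℕ := [0, 0, 121, 124, 128, 133, 139, 145, 150, 154, 157, 159, 13, 0, 167, 172, 176, 179, 181, 20, 0, 186, 189, 191, 25, 0, 195, 197, 29, 0, 200, 32, 0, 34, 0, 0, 205, 207, 39, 0, 210, 42, 0, 44, 0, 0, 214, 48, 0, 50, 0, 0, 53, 0, 0, 0, 219, 58, 0, 60, 0, 0, 63, 0, 0, 0, 67, 0, 0, 0, 0, 72, 0, 0, 0, 0, 0, 0, 226, 80, 0, 82, 0, 0, 85, 0, 0, 0, 89, 0, 0, 0, 0, 94, 0, 0, 0, 0, 0, 100, 0, 0, 0, 0, 0, 106, 0, 0, 0, 0, 111, 0, 0, 0, 115, 0, 0, 118, 0, 0, 0, 0, 0, 0, 0, 0, 0, 0, 0, 0, 0, 0, 0, 0, 0, 0, 0, 0, 0, 0, 0, 0, 0, 0, 0, 0, 0, 0, 0, 0, 0, 0, 0, 0, 0, 0, 0, 0, 0, 0, 0, 0, 0, 0, 0, 0, 0, 0, 0, 0, 0, 0, 0, 0, 0, 0, 0, 0, 0, 0, 0, 0, 0, 0, 0, 0, 0, 0, 0, 0, 0, 0, 0, 0, 0, 0, 0, 0, 0, 0, 0, 0, 0, 0, 0, 0, 0, 0, 0, 0, 0, 0, 0, 0, 0, 0, 0, 0, 0, 0, 0, 0, 0, 0, 0, 0, 0, 0, 0, 0, 0, 0, 0, 0, 0, 0, 0, 0, 0, 0]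

def up : List (List ℕ) := [[], [3, 2, 1, 3, 0, 2], [0, 2], [2, 3, 0, 2], [3, 4, 2, 3, 0, 2], [4, 5, 3, 4, 2, 3, 0, 2], [5, 6, 4, 5, 3, 4, 2, 3, 0, 2], [6, 7, 5, 6, 4, 5, 3, 4, 2, 3, 0, 2]]

def down : List (List ℕ) := [[], [2, 0, 3, 1, 2, 3], [2, 0], [2, 0, 3, 2], [2, 0, 3, 2, 4, 3], [2, 0, 3, 2, 4, 3, 5, 4], [2, 0, 3, 2, 4, 3, 5, 4, 6, 5], [2, 0, 3, 2, 4, 3, 5, 4, 6, 5, 7, 6]]

set_option maxRecDepth 100000 in
theorem shape : Shape chevE8 := by
  unfold Shape
  decide +kernel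

set_option maxRecDepth 100000 in
theorem t1 : t1ok chevE8 0 witT = true := by decide +kernel

set_option maxRecDepth 100000 in
theorem adj : adjok chevE8 0 119 1 witA = true := by decide +kernel

theorem dec0 : isDecb chevE8 119 1 0 = true := by decide +kernel

theorem adj1 : adjb chevE8 0 117 2 119 1 118 = true := by decide +kernel

theorem hk : isCb chevE8 0 1 = true := by decide +kernel

set_option maxRecDepth 100000 in
theorem reach : reachok chevE8 X 0 up down = true := by decide +kernel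

/-- The data. -/
noncomputable def data : SLData chevE8 X where
  shape := shape
  r₀ := ⟨0, by decide⟩
  κ₀ := ⟨0, by decide⟩
  α := ⟨119, by decide⟩
  ν' := ⟨1, by decide⟩
  μ₁ := ⟨117, by decide⟩
  γ₁ := ⟨2, by decide⟩
  β₁ := 118
  witT := witT
  witA := witA
  i₀ := 0
  up := up
  down := down
  t1 := t1
  adj := adj
  dec0 := dec0
  adj1 := adj1
  hk := hk
  reach := reach

theorem brChk_ok : ∀ e ∈ R.braid, brChk X chevE8 e.1 e.2.1 e.2.2.1 = true := by decide +kernel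

end Cfsg.Agent.Lib.ChevSLE8
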