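import Mathlib
import Cfsg.Agent.Lib.PSL2Solv
import Cfsg.Agent.S5939

/-!
# Dickson's generation theorem
-/

set_option autoImplicit false
set_option linter.style.haveILetI false
set_option linter.unusedVariables false
set_option linter.unusedSectionVars false

namespace Cfsg.Agent.Lib.DicksonGen

open Matrix Subgroup
open Cfsg.Agent.Lib.SL2Core Cfsg.Agent.Lib.DicksonMat Cfsg.Agent.Lib.DicksonAbs Cfsg.Agent.Lib.DicksonStruct
open Cfsg.Agent.Lib.DicksonTT Cfsg.Agent.Lib.DicksonRed Cfsg.Agent.Lib.PSL2Sub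
open Cfsg.Agent.Lib.PSL2Max Cfsg.Agent.Lib.PSL2Cnt Cfsg.Agent.Lib.PSL2Coat Cfsg.Agent.Lib.PSL2Nor
open Cfsg.Agent.Lib.PSL2Lat Cfsg.Agent.Lib.PSL2Solv

variable {F : Type*} [Field F] [Fintype F] (p : ℕ) [hp : Fact p.Prime] [CharP F p]

/-! ### Position of two Sylow subgroups -/

include p in
lemma sylow_eq_MM (P : Sylow p (PSL2 F)) {x : PSL2 F} (hx : x ∈ (P : Subgroup (PSL2 F))) (hx1 : x ≠ 1) :
    (P : Subgroup (PSL2 F)) = MM x := by
  obtain ⟨z, hz, hz1, hPz⟩ := sylow_eq_member (dstruct p) P (sylow_ne_bot P)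
  have h1 : x ∈ (dstruct p).M z := by
    rw [← hPz]
    exact hx
  have h2 : (dstruct (F := F) p).M x = (dstruct (F := F) p).M z := dpart.eq_of_mem z x hz1 hx1 h1
  rw [hPz, ← h2]
  rfl

include p in
lemma sylow_upper (H : Subgroup (PSL2 F)) (S : Sylow p H) (hu : proj (uu (1 : F)) ∈ H)
    (hS : (⟨_, hu⟩ : H) ∈ (S : Subgroup H)) : ∀ s ∈ (S : Subgroup H), ∃ b, (s : PSL2 F) = proj (uu b) := by
  intro s hs
  have hP0 : IsPGroup p ((S : Subgroup H).map H.subtype) := S.isPGroup'.map _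
  obtain ⟨P, hP⟩ := hP0.exists_le_sylow
  have h1 : proj (uu (1 : F)) ∈ (P : Subgroup (PSL2 F)) := hP ⟨_, hS, rfl⟩
  have h2 : (s : PSL2 F) ∈ (P : Subgroup (PSL2 F)) := hP ⟨_, hs, rfl⟩
  rw [sylow_eq_MM p P h1 proj_uu_ne_one] at h2
  obtain ⟨B, hB⟩ := proj_surjective (s : PSL2 F)
  rw [← hB, mem_MM_proj] at h2
  have h3 : ee (uu (1 : F)) 0 1 ≠ 0 := by simp
  obtain ⟨h4, h5⟩ := (upper_comm (X := uu (1 : F)) (by simp) (by simp) h3 B).mp h2
  obtain ⟨b, hb⟩ := proj_upper h4 h5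
  exact ⟨b, by rw [← hB, hb]⟩

lemma proj_vv_ne_one {c : F} (hc : c ≠ 0) : proj (vv c) ≠ 1 := by
  intro h
  have h1 := (proj_eq_one_iff (vv c)).mp h
  rw [mem_center_iff''] at h1
  exact hc (by simpa using h1.2.1)

include p in
lemma sylow_lower (H : Subgroup (PSL2 F)) (S : Sylow p H) {c : F} (hc : c ≠ 0) (hu : proj (vv c) ∈ H)
    (hS : (⟨_, hu⟩ : H) ∈ (S : Subgroup H)) : ∀ s ∈ (S : Subgroup H), ∃ b, (s : PSL2 F) = proj (vv b) := by
  intro s hs
  have hP0 : IsPGroup p ((S : Subgroup H).map H.subtype) := S.isPGroup'.map _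
  obtain ⟨P, hP⟩ := hP0.exists_le_sylow
  have h1 : proj (vv c) ∈ (P : Subgroup (PSL2 F)) := hP ⟨_, hS, rfl⟩
  have h2 : (s : PSL2 F) ∈ (P : Subgroup (PSL2 F)) := hP ⟨_, hs, rfl⟩
  rw [sylow_eq_MM p P h1 (proj_vv_ne_one hc)] at h2
  obtain ⟨B, hB⟩ := proj_surjective (s : PSL2 F)
  rw [← hB, mem_MM_proj] at h2
  obtain ⟨h4, h5⟩ := lower_comm (Y := vv c) (by simp) (by simp) (by simpa using hc) h2
  obtain ⟨b, hb⟩ := proj_lower h4 h5
  exact ⟨b, by rw [← hB, hb]⟩

include p in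
lemma exists_sylow_mem (H : Subgroup (PSL2 F)) (x : H) (hx : x ^ p = 1) : ∃ S : Sylow p H, x ∈ (S : Subgroup H) := by
  have hz : IsPGroup p (zpowers x) := by
    rintro ⟨g, hg⟩
    obtain ⟨k, rfl⟩ := Subgroup.mem_zpowers_iff.mp hg
    refine ⟨1, Subtype.ext ?_⟩
    simp only [pow_one]
    change (x ^ k) ^ p = 1
    rw [← zpow_natCast, ← _root_.zpow_mul, mul_comm, _root_.zpow_mul, zpow_natCast, hx, _root_.one_zpow]
  obtain ⟨S, hS⟩ := hz.exists_le_sylow
  exact ⟨S, hS (Subgroup.mem_zpowers x)⟩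

include p in
/-- A subgroup with `|S| + 1` Sylow subgroups which contains root elements in normalized position. -/
lemma exists_field_of_pos (H : Subgroup (PSL2 F)) (hu : proj (uu (1 : F)) ∈ H) {c : F} (hc : c ≠ 0)
    (hv : proj (vv c) ∈ H) (S₀ : Sylow p H) (hn : Nat.card (Sylow p H) = Nat.card S₀ + 1) :
    ∃ K₀ : Subfield F, c ∈ K₀ ∧ (pslMap K₀.subtype).range ≤ H := by
  obtain ⟨S, hS⟩ := exists_sylow_mem p H ⟨_, hu⟩ (Subtype.ext (proj_uu_pow 1))
  obtain ⟨T, hT⟩ := exists_sylow_mem p H ⟨_, hv⟩ (Subtype.ext (proj_vv_pow c))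
  have hS' := sylow_upper p H S hu hS
  have hT' := sylow_lower p H T hc hv hT
  have hne : T ≠ S := by
    rintro rfl
    obtain ⟨b, hb⟩ := hS' _ hT
    have h1 := zero_of_proj_uu hb
    exact hc (by simpa using h1)
  have hpos : Pos S T := ⟨hS', hT', ⟨_, hS, rfl⟩, hne⟩
  have hn' : Nat.card (Sylow p H) = Nat.card S + 1 := by
    rw [hn, card_sylow_eq_card S₀ S]
  obtain ⟨N⟩ := norm2_of_pos S T hpos hn'
  obtain ⟨K₀, hK⟩ := exists_subfield (BB H) N.one_mem (fun b hb => key_inv N hb) (fun b hb x hx => key_sq N hb hx)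
  exact ⟨K₀, (hK c).mpr ((key_CC N).mp hv), range_le K₀ N hK⟩

/-- Invariance of the counting condition. -/
lemma card_sylow_map {G : Type*} [Group G] [Finite G] {q : ℕ} [Fact q.Prime] (θ : G ≃* G) (H : Subgroup G) (S : Sylow q H)
    (hn : Nat.card (Sylow q H) = Nat.card S + 1) :
    ∃ S' : Sylow q (H.map (θ : G →* G)), Nat.card (Sylow q (H.map (θ : G →* G))) = Nat.card S' + 1 := by
  let e : H ≃* H.map (θ : G →* G) := θ.subgroupMap H
  let f : H →* H.map (θ : G →* G) := (e : H →* H.map (θ : G →* G))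
  have hf : Function.Surjective f := e.surjective
  have hfi : Function.Injective f := e.injective
  refine ⟨S.mapSurjective hf, ?_⟩
  have hS'c : Nat.card (S.mapSurjective hf) = Nat.card S := by
    change Nat.card ((S : Subgroup H).map f) = _
    exact Subgroup.card_map_of_injective hfi
  rw [hS'c, ← hn]
  have hbij : Function.Bijective (Sylow.mapSurjective hf : Sylow q H → Sylow q (H.map (θ : G →* G))) := by
    refine ⟨?_, Sylow.mapSurjective_surjective hf q⟩
    intro U V hUV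
    apply Sylow.ext
    have h1 : (U : Subgroup H).map f = (V : Subgroup H).map f :=
      congrArg (fun W : Sylow q (H.map (θ : G →* G)) => (W : Subgroup (H.map (θ : G →* G)))) hUV
    exact Subgroup.map_injective hfi h1
  exact (Nat.card_congr (Equiv.ofBijective _ hbij)).symm

include p in
/-- The subgroup generated by the two root elements in the doubly transitive case. -/
theorem eq_top_of_two_trans (H : Subgroup (PSL2 F)) {lam : F} (hlam : lam ≠ 0)
    (hgen : Subfield.closure ({lam} : Set F) = ⊤) (hu : proj (uu lam) ∈ H) (hv : proj (vv (1 : F)) ∈ H)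
    (S₀ : Sylow p H) (hn : Nat.card (Sylow p H) = Nat.card S₀ + 1) : H = ⊤ := by
  have hρ : lam⁻¹ ≠ 0 := inv_ne_zero hlam
  let θ : PSL2 F ≃* PSL2 F := dPSL lam⁻¹ hρ
  have hu' : proj (uu (1 : F)) ∈ H.map (θ : PSL2 F →* PSL2 F) := by
    refine ⟨_, hu, ?_⟩
    change dPSL lam⁻¹ hρ (proj (uu lam)) = _
    rw [dPSL_proj, dConj_uu, inv_mul_cancel₀ hlam]
  have hv' : proj (vv lam) ∈ H.map (θ : PSL2 F →* PSL2 F) := by
    refine ⟨_, hv, ?_⟩
    change dPSL lam⁻¹ hρ (proj (vv 1)) = _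
    rw [dPSL_proj, dConj_vv, inv_inv, mul_one]
  obtain ⟨S', hS'⟩ := card_sylow_map θ H S₀ hn
  obtain ⟨K₀, hK₀, hle⟩ := exists_field_of_pos p (H.map (θ : PSL2 F →* PSL2 F)) hu' hlam hv' S' hS'
  have hK : K₀ = ⊤ := by
    rw [eq_top_iff, ← hgen, Subfield.closure_le]
    rintro x rfl
    exact hK₀
  rw [(range_eq_top_iff K₀).mpr hK, top_le_iff] at hle
  rw [eq_top_iff]
  intro x _
  have h1 : θ x ∈ H.map (θ : PSL2 F →* PSL2 F) := by
    rw [hle]
    trivial
  obtain ⟨y, hy, hyx⟩ := h1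
  have h2 : y = x := θ.injective hyx
  rwa [← h2]

/-! ### Traces of powers -/

section powers

variable {g : SL2 F}

lemma ee_mul_linear {X : SL2 F} {a b : F}
    (h : ∀ i j, ee X i j = a * ee g i j + b * (if i = j then 1 else 0)) (i j : Fin 2) :
    ee (X * g) i j = (a * tr g + b) * ee g i j + (-a) * (if i = j then 1 else 0) := by
  have hsq := ee_mul_self g i j
  rw [ee_mul] at hsq ⊢
  rw [h i 0, h i 1]
  fin_cases i <;> fin_cases j <;> simp at hsq ⊢ <;> linear_combination a * hsq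

lemma coef2 (i j : Fin 2) : ee (g * g) i j = tr g * ee g i j + (-1) * (if i = j then 1 else 0) := by
  rw [ee_mul_self]
  ring

lemma coef3 (i j : Fin 2) : ee (g * g * g) i j = (tr g * tr g - 1) * ee g i j + (- tr g) * (if i = j then 1 else 0) := by
  rw [ee_mul_linear coef2]
  ring

lemma coef4 (i j : Fin 2) : ee (g * g * g * g) i j =
    ((tr g * tr g - 1) * tr g - tr g) * ee g i j + (- (tr g * tr g - 1)) * (if i = j then 1 else 0) := by
  rw [ee_mul_linear coef3]
  ring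

lemma coef5 (i j : Fin 2) : ee (g * g * g * g * g) i j =
    (((tr g * tr g - 1) * tr g - tr g) * tr g - (tr g * tr g - 1)) * ee g i j +
      (- ((tr g * tr g - 1) * tr g - tr g)) * (if i = j then 1 else 0) := by
  rw [ee_mul_linear coef4]
  ring

lemma ee10_of_proj_pow {n : ℕ} (h : proj g ^ n = 1) : ee (g ^ n) 1 0 = 0 := by
  rw [← map_pow] at h
  exact ((mem_center_iff'' _).mp ((proj_eq_one_iff _).mp h)).2.1

lemma tr_of_pow2 (h : proj g ^ 2 = 1) (hg : ee g 1 0 ≠ 0) : tr g = 0 := by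
  have h1 := ee10_of_proj_pow h
  rw [pow_two, coef2] at h1
  simp at h1
  exact h1.resolve_right hg

lemma tr_of_pow3 (h : proj g ^ 3 = 1) (hg : ee g 1 0 ≠ 0) : tr g * tr g = 1 := by
  have h1 := ee10_of_proj_pow h
  rw [pow_succ, pow_two, coef3] at h1
  simp at h1
  have := h1.resolve_right hg
  linear_combination this

lemma tr_of_pow5 (h : proj g ^ 5 = 1) (hg : ee g 1 0 ≠ 0) : (tr g) ^ 4 - 3 * (tr g) ^ 2 + 1 = 0 := by
  have h1 := ee10_of_proj_pow h
  rw [pow_succ, pow_succ, pow_succ, pow_two, coef5] at h1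
  simp at h1
  have := h1.resolve_right hg
  linear_combination this

end powers

lemma tr_uu_vv (m c : F) : tr (uu m * vv c) = 2 + m * c := by
  rw [ee_tr]
  simp only [ee_mul, uu00, uu01, uu10, uu11, vv00, vv01, vv10, vv11]
  ring

lemma ee10_uu_vv (m c : F) : ee (uu m * vv c) 1 0 = c := by
  simp only [ee_mul, uu00, uu01, uu10, uu11, vv00, vv01, vv10, vv11]
  ring

lemma comm_uu_vv (h2 : (2 : F) ≠ 0) {m : F} (hm : m ≠ 0) :
    proj (uu m) * proj (vv (1 : F)) ≠ proj (vv (1 : F)) * proj (uu m) := by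
  intro h
  rw [← map_mul, ← map_mul, proj_eq_proj_iff'] at h
  rcases h with h | h
  · have h1 := congrArg (fun Y : SL2 F => ee Y 0 0) h
    simp only [ee_mul, uu00, uu01, uu10, uu11, vv00, vv01, vv10, vv11] at h1
    apply hm
    linear_combination (-1 : F) * h1
  · have h1 := congrArg (fun Y : SL2 F => ee Y 1 0) h
    simp only [ee_neg, ee_mul, uu00, uu01, uu10, uu11, vv00, vv01, vv10, vv11] at h1
    apply h2
    linear_combination h1

/-- The relations forced by an icosahedral pair. -/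
lemma rel_of_five (h3 : (3 : F) = 0) (h2 : (2 : F) ≠ 0) {m : F} (hm : m ≠ 0)
    (h1 : (proj (uu m) * proj (vv (1 : F))) ^ 5 = 1)
    (h1' : (proj (uu m) * (proj (vv (1 : F)))⁻¹) ^ 5 = 1) : m * m = -1 := by
  have e1 : proj (uu m) * proj (vv (1 : F)) = proj (uu m * vv 1) := by rw [map_mul]
  have e2 : proj (uu m) * (proj (vv (1 : F)))⁻¹ = proj (uu m * vv (-1)) := by
    rw [vv_neg, map_mul, map_inv]
  rw [e1] at h1
  rw [e2] at h1'
  have t1 := tr_of_pow5 h1 (by rw [ee10_uu_vv]; exact one_ne_zero)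
  have t2 := tr_of_pow5 h1' (by rw [ee10_uu_vv]; exact neg_ne_zero.mpr one_ne_zero)
  rw [tr_uu_vv] at t1 t2
  have t1' : (m ^ 2 + 1) * (m ^ 2 - m - 1) = 0 := by
    linear_combination t1 - (3 * m ^ 3 + 7 * m ^ 2 + 7 * m + 2) * h3
  have t2' : (m ^ 2 + 1) * (m ^ 2 + m - 1) = 0 := by
    linear_combination t2 - (- 3 * m ^ 3 + 7 * m ^ 2 - 7 * m + 2) * h3
  by_cases hz : m ^ 2 + 1 = 0
  · linear_combination hz
  · exfalso
    have a1 := (mul_eq_zero.mp t1').resolve_left hz
    have a2 := (mul_eq_zero.mp t2').resolve_left hz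
    have : 2 * m = 0 := by linear_combination a2 - a1
    rcases mul_eq_zero.mp this with h | h
    · exact h2 h
    · exact hm h

lemma alt5_rel : ∀ a b : alternatingGroup (Fin 5), a ^ 3 = 1 → b ^ 3 = 1 → a * b ≠ b * a →
    (a * b) ^ 2 = 1 ∨ (a * b) ^ 3 = 1 ∨ ((a * b) ^ 5 = 1 ∧ (a * b⁻¹) ^ 5 = 1) := by decide +kernel

lemma alt5_pair : ∃ a b : alternatingGroup (Fin 5), a ^ 3 = 1 ∧ b ^ 3 = 1 ∧ a ≠ 1 ∧ b ≠ 1 ∧ a * b ≠ b * a ∧
    (a * b) ^ 5 = 1 ∧ (a * b⁻¹) ^ 5 = 1 := by decide +kernel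

/-- The consequences of lying in `A₅`. -/
lemma A5_case (h3 : (3 : F) = 0) (h2 : (2 : F) ≠ 0) (Q : Subgroup (PSL2 F)) (e : Q ≃* alternatingGroup (Fin 5))
    {m : F} (hm : m ≠ 0) (hu : proj (uu m) ∈ Q) (hv : proj (vv (1 : F)) ∈ Q)
    (hu3 : proj (uu m) ^ 3 = 1) (hv3 : proj (vv (1 : F)) ^ 3 = 1) :
    m = 1 ∨ m = -1 ∨ m * m = -1 := by
  let x : Q := ⟨_, hu⟩
  let y : Q := ⟨_, hv⟩
  have hx3 : x ^ 3 = 1 := Subtype.ext hu3
  have hy3 : y ^ 3 = 1 := Subtype.ext hv3
  have hxy : x * y ≠ y * x := by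
    intro h
    exact comm_uu_vv h2 hm (congrArg Subtype.val h)
  have hab : e x * e y ≠ e y * e x := by
    rw [← map_mul, ← map_mul]
    exact fun h => hxy (e.injective h)
  have hpow : ∀ n : ℕ, (e x * e y) ^ n = 1 → (proj (uu m) * proj (vv (1 : F))) ^ n = 1 := by
    intro n h
    rw [← map_mul, ← map_pow, ← map_one e] at h
    exact congrArg Subtype.val (e.injective h)
  have hpow' : ∀ n : ℕ, (e x * (e y)⁻¹) ^ n = 1 → (proj (uu m) * (proj (vv (1 : F)))⁻¹) ^ n = 1 := by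
    intro n h
    rw [← map_inv, ← map_mul, ← map_pow, ← map_one e] at h
    exact congrArg Subtype.val (e.injective h)
  have hm' : ee (uu m * vv (1 : F)) 1 0 ≠ 0 := by
    rw [ee10_uu_vv]
    exact one_ne_zero
  have he1 : proj (uu m) * proj (vv (1 : F)) = proj (uu m * vv 1) := by rw [map_mul]
  rcases alt5_rel (e x) (e y) (by rw [← map_pow, hx3, map_one]) (by rw [← map_pow, hy3, map_one]) hab with h | h | ⟨h, h'⟩
  · left
    have h4 := hpow 2 h
    rw [he1] at h4
    have h5 := tr_of_pow2 h4 hm'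
    rw [tr_uu_vv] at h5
    linear_combination h5 - h3
  · right; left
    have h4 := hpow 3 h
    rw [he1] at h4
    have h5 := tr_of_pow3 h4 hm'
    rw [tr_uu_vv] at h5
    have h6 : m * (m + 1) = 0 := by linear_combination h5 - (m + 1) * h3
    rcases mul_eq_zero.mp h6 with h7 | h7
    · exact absurd h7 hm
    · linear_combination h7
  · right; right
    exact rel_of_five h3 h2 hm (hpow 5 h) (hpow' 5 h')

include p in
lemma parabolic_of_pow_p {x : PSL2 F} (hx : x ^ p = 1) (hx1 : x ≠ 1) :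
    ∃ A : SL2 F, proj A = x ∧ A ∉ center (SL2 F) ∧ tr A * tr A = 4 := by
  obtain ⟨A, rfl⟩ := proj_surjective x
  have hA := not_center_of_proj_ne_one hx1
  refine ⟨A, rfl, hA, ?_⟩
  by_contra ht
  have hs := isSS_of p hA ht
  have h1 : orderOf (proj A) = p := orderOf_eq_prime hx hx1
  have h2 : orderOf (proj A) ∣ Nat.card (MM (proj A)) := by
    have := orderOf_dvd_natCard (⟨proj A, mem_MM_proj.mpr rfl⟩ : MM (proj A))
    rwa [Subgroup.orderOf_mk] at this
  rw [h1] at h2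
  have h3 := Nat.Coprime.eq_one_of_dvd hs.coprime.symm h2
  exact hp.out.one_lt.ne' h3

/-- The exceptional subgroup of `PSL₂(9)`. -/
theorem exists_proper_of_nine [Fact (Nat.Prime 3)] [CharP F 3] (h9 : Fintype.card F = 9) (h2 : (2 : F) ≠ 0) {lam : F}
    (hlam : lam ≠ 0) (hl : lam * lam = -1) :
    ∃ Q : Subgroup (PSL2 F), Q ≠ ⊤ ∧ proj (uu lam) ∈ Q ∧ proj (vv (1 : F)) ∈ Q := by
  have h3 : (3 : F) = 0 := by
    have := CharP.cast_eq_zero F 3
    exact_mod_cast this
  obtain ⟨Y, hY, ⟨e⟩⟩ := Cfsg.Agent.S5939.result (F := F) 3 (Or.inr ⟨by rw [h9]; norm_num, by norm_num⟩)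
  obtain ⟨a, b, ha3, hb3, ha1, hb1, hab, h5, h5'⟩ := alt5_pair
  let f₀ : alternatingGroup (Fin 5) →* PSL2 F := Y.subtype.comp (e.symm : alternatingGroup (Fin 5) →* Y)
  have hf₀ : Function.Injective f₀ := Y.subtype_injective.comp e.symm.injective
  have hpow3 : ∀ c : alternatingGroup (Fin 5), c ^ 3 = 1 → f₀ c ^ 3 = 1 := by
    intro c hc
    rw [← map_pow, hc, map_one]
  have hne1 : ∀ c : alternatingGroup (Fin 5), c ≠ 1 → f₀ c ≠ 1 := by
    intro c hc h
    apply hc
    apply hf₀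
    rw [h, map_one]
  obtain ⟨A, hAa, hA, ht⟩ := parabolic_of_pow_p 3 (hpow3 a ha3) (hne1 a ha1)
  obtain ⟨B, hBb, hB, ht'⟩ := parabolic_of_pow_p 3 (hpow3 b hb3) (hne1 b hb1)
  have hne : B * A ≠ A * B := by
    intro h
    apply hab
    apply hf₀
    have := congrArg proj h
    rw [map_mul, map_mul, hAa, hBb] at this
    rw [map_mul, map_mul]
    exact this.symm
  obtain ⟨g, hg1, hg2⟩ := exists_pair hA ht ht' hne
  obtain ⟨b₁, hb₁⟩ := hg1 A rfl
  obtain ⟨c₁, hc₁⟩ := hg2 B rfl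
  have hzero : ∀ (X : SL2 F), proj X ≠ 1 → proj (g⁻¹ * X * g) ≠ 1 := by
    intro X hX h
    apply hX
    rw [map_mul, map_mul, map_inv] at h
    have h1 : proj X = proj g * ((proj g)⁻¹ * proj X * proj g) * (proj g)⁻¹ := by group
    rw [h1, h]
    group
  have hb₁0 : b₁ ≠ 0 := by
    rintro rfl
    apply hzero A (by rw [hAa]; exact hne1 a ha1)
    rw [hb₁, uu_zero, map_one]
  have hc₁0 : c₁ ≠ 0 := by
    rintro rfl
    apply hzero B (by rw [hBb]; exact hne1 b hb1)
    rw [hc₁, vv_zero, map_one]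
  let θ := theta g c₁ hc₁0
  let f : alternatingGroup (Fin 5) →* PSL2 F := (θ : PSL2 F →* PSL2 F).comp f₀
  have hfa : f a = proj (uu (c₁ * b₁)) := by
    change θ (f₀ a) = _
    rw [← hAa, theta_proj, hb₁, dPSL_proj, dConj_uu]
  have hfb : f b = proj (vv (1 : F)) := by
    change θ (f₀ b) = _
    rw [← hBb, theta_proj, hc₁, dPSL_proj, dConj_vv, inv_mul_cancel₀ hc₁0]
  have hfinj : Function.Injective f := θ.injective.comp hf₀
  have hm : c₁ * b₁ ≠ 0 := mul_ne_zero hc₁0 hb₁0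
  have hrel : (c₁ * b₁) * (c₁ * b₁) = -1 := by
    apply rel_of_five h3 h2 hm
    · rw [← hfa, ← hfb, ← map_mul, ← map_pow, h5, map_one]
    · rw [← hfa, ← hfb, ← map_inv, ← map_mul, ← map_pow, h5', map_one]
  refine ⟨f.range, ?_, ?_, ⟨b, hfb⟩⟩
  · intro htop
    have hc := card_PSL2_form (K := F)
    rw [h9] at hc
    norm_num at hc
    have h1 : Nat.card f.range = 60 := by
      rw [Nat.card_congr (MonoidHom.ofInjective hfinj).toEquiv.symm, card_alt5]
    rw [htop, Subgroup.card_top] at h1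
    omega
  · have h6 : (lam - c₁ * b₁) * (lam + c₁ * b₁) = 0 := by linear_combination hl - hrel
    rcases mul_eq_zero.mp h6 with h7 | h7
    · have : lam = c₁ * b₁ := sub_eq_zero.mp h7
      rw [this]
      exact ⟨a, hfa⟩
    · have : lam = -(c₁ * b₁) := by linear_combination h7
      rw [this, uu_neg, map_inv]
      exact f.range.inv_mem ⟨a, hfa⟩

lemma card_of_sq_neg_one [Fact (Nat.Prime 3)] [CharP F 3] (h2 : (2 : F) ≠ 0) {lam : F} (hlam : lam ≠ 0)
    (hl : lam * lam = -1) (hgen : Subfield.closure ({lam} : Set F) = ⊤) : Fintype.card F = 9 := by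
  let φ : F →+* F := iterateFrobenius F 3 2
  let K₁ : Subfield F := φ.eqLocusField (RingHom.id F)
  have hmem : lam ∈ K₁ := by
    change φ lam = lam
    change lam ^ 3 ^ 2 = lam
    have : lam ^ 3 ^ 2 = (lam * lam) ^ 4 * lam := by ring
    rw [this, hl]
    ring
  have htop : K₁ = ⊤ := by
    rw [eq_top_iff, ← hgen, Subfield.closure_le]
    rintro x rfl
    exact hmem
  have hall : ∀ x : F, x ^ 9 = x := by
    intro x
    have h1 : x ∈ K₁ := by
      rw [htop]
      trivial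
    have h3 : φ x = x := h1
    have h4 : x ^ 3 ^ 2 = x := h3
    norm_num at h4
    exact h4
  have hdvd : Fintype.card F - 1 ∣ 8 := by
    apply (FiniteField.forall_pow_eq_one_iff F 8).mp
    intro x
    ext
    have h1 := hall (x : F)
    have h3 : ((x : F)) ^ 8 * x = 1 * x := by
      rw [one_mul, ← pow_succ]
      exact h1
    push_cast
    exact mul_right_cancel₀ x.ne_zero h3
  have hle := Nat.le_of_dvd (by norm_num) hdvd
  obtain ⟨n, hpp, hn⟩ := FiniteField.card F 3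
  have hn3 : (n : ℕ) < 3 := by
    by_contra hlt
    have : 3 ^ 3 ≤ 3 ^ (n : ℕ) := Nat.pow_le_pow_right (by norm_num) (by omega)
    omega
  have hn1 : 1 ≤ (n : ℕ) := n.pos
  have : (n : ℕ) = 1 ∨ (n : ℕ) = 2 := by omega
  rcases this with h | h
  · exfalso
    rw [h] at hn
    norm_num at hn
    have h3 := FiniteField.pow_card lam
    rw [hn] at h3
    have h4 : lam ^ 3 = lam * (lam * lam) := by ring
    rw [h4, hl] at h3
    have h5 : 2 * lam = 0 := by linear_combination (-1 : F) * h3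
    rcases mul_eq_zero.mp h5 with h6 | h6
    · exact h2 h6
    · exact hlam h6
  · rw [hn, h]
    norm_num

lemma prime_dvd_12 {r : ℕ} (hr : r.Prime) (h : r ∣ 12) : r = 2 ∨ r = 3 := by
  have h1 : r ∣ 2 ^ 2 * 3 := by simpa using h
  rcases (Nat.Prime.dvd_mul hr).mp h1 with h2 | h2
  · left
    exact (Nat.prime_dvd_prime_iff_eq hr Nat.prime_two).mp (hr.dvd_of_dvd_pow h2)
  · right
    exact (Nat.prime_dvd_prime_iff_eq hr Nat.prime_three).mp h2

lemma prime_dvd_24 {r : ℕ} (hr : r.Prime) (h : r ∣ 24) : r = 2 ∨ r = 3 := by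
  have h1 : r ∣ 2 ^ 3 * 3 := by simpa using h
  rcases (Nat.Prime.dvd_mul hr).mp h1 with h2 | h2
  · left
    exact (Nat.prime_dvd_prime_iff_eq hr Nat.prime_two).mp (hr.dvd_of_dvd_pow h2)
  · right
    exact (Nat.prime_dvd_prime_iff_eq hr Nat.prime_three).mp h2

lemma prime_dvd_60 {r : ℕ} (hr : r.Prime) (h : r ∣ 60) : r = 2 ∨ r = 3 ∨ r = 5 := by
  have h1 : r ∣ 12 * 5 := by simpa using h
  rcases (Nat.Prime.dvd_mul hr).mp h1 with h2 | h2
  · rcases prime_dvd_12 hr h2 with h3 | h3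
    · exact Or.inl h3
    · exact Or.inr (Or.inl h3)
  · right; right
    exact (Nat.prime_dvd_prime_iff_eq hr (by norm_num)).mp h2

include p in
/-- **The list for the subgroup generated by two root elements.** -/
theorem main_cases (H : Subgroup (PSL2 F)) (h2 : (2 : F) ≠ 0) {lam : F} (hlam : lam ≠ 0)
    (hgen : Subfield.closure ({lam} : Set F) = ⊤) (hu : proj (uu lam) ∈ H) (hv : proj (vv (1 : F)) ∈ H) :
    H = ⊤ ∨ (Nonempty (H ≃* alternatingGroup (Fin 5)) ∧ p = 3) := by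
  have hpp := hp.out
  have hp2 : p ≠ 2 := by
    rintro rfl
    exact h2 (by exact_mod_cast CharP.cast_eq_zero F 2)
  have hodd : Odd p := hpp.odd_of_ne_two hp2
  have hab := comm_uu_vv h2 hlam
  have hpa : proj (uu lam) ^ p = 1 := proj_uu_pow lam
  have hpb : proj (vv (1 : F)) ^ p = 1 := proj_vv_pow 1
  have hv1 : proj (vv (1 : F)) ≠ 1 := proj_vv_ne_one one_ne_zero
  have hB : ∀ P : Sylow p (PSL2 F), ¬ H ≤ normalizer ((P : Subgroup (PSL2 F)) : Set (PSL2 F)) :=
    fun P hP => (no_borel_of_p_elts hu hv hab hpa hpb P hP).false (MulEquiv.refl H)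
  have hpH : p ∣ Nat.card H := by
    have h1 : orderOf (proj (vv (1 : F))) = p := orderOf_eq_prime hpb hv1
    have := orderOf_dvd_natCard (⟨_, hv⟩ : H)
    rwa [Subgroup.orderOf_mk, h1] at this
  have hSb : ∀ S : Sylow p H, (S : Subgroup H) ≠ ⊥ := by
    intro S h
    have h1 := Sylow.card_eq_multiplicity S
    rw [h, Subgroup.card_bot] at h1
    have h3 : Nat.factorization (Nat.card H) p ≠ 0 := by
      have := (Nat.Prime.dvd_iff_one_le_factorization hpp (Nat.card_pos (α := H)).ne').mp hpH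
      omega
    have h4 : 1 < p ^ Nat.factorization (Nat.card H) p := Nat.one_lt_pow h3 hpp.one_lt
    omega
  have dich : ∀ S : Sylow p H, (Nat.card (Sylow p H) = 1 ∨ Nat.card (Sylow p H) = Nat.card S + 1) → H = ⊤ := by
    intro S h
    rcases h with h | h
    · exfalso
      haveI : Subsingleton (Sylow p H) := (Nat.card_eq_one_iff_unique.mp h).1
      have hn : (S : Subgroup H).Normal := Sylow.normal_of_subsingleton S
      obtain ⟨P, hP⟩ := exists_sylow_of_normal p H S (hSb S) hn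
      exact hB P hP
    · exact eq_top_of_two_trans p H hlam hgen hu hv S h
  rcases classify (dstruct p) H with (hb | ⟨z, hzM, hz1, hs, hle⟩) | ⟨z, hzM, hz1, hs, ⟨e⟩⟩ | ⟨P, hP⟩ | ⟨⟨e⟩⟩ | ⟨⟨e⟩⟩ | ⟨⟨e⟩⟩ | ⟨S, hb, hn⟩
  · exfalso
    subst hb
    exact hv1 (Subgroup.mem_bot.mp hv)
  · exfalso
    haveI := hs.cyclic
    have h1 := (IsCyclic.isMulCommutative (α := (dstruct (F := F) p).M z)).is_comm.comm ⟨_, hle hu⟩ ⟨_, hle hv⟩
    exact hab (congrArg Subtype.val h1)
  · exact ((no_dihedral_of_odd hu hv hab hodd hodd hpa hpb _).false e).elim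
  · exact absurd hP (hB P)
  · left
    have hc : Nat.card H = 12 := by rw [Nat.card_congr e.toEquiv, card_alt4]
    rw [hc] at hpH
    have hp3 : p = 3 := (prime_dvd_12 hpp hpH).resolve_left hp2
    subst hp3
    obtain ⟨S⟩ : Nonempty (Sylow 3 H) := inferInstance
    obtain ⟨t, ht, hdvd⟩ := sylow_numeric 3 H S
    obtain ⟨h1, h3⟩ := sylow_card_small 3 S (a := 1) (i := 4) hc (by norm_num) (by norm_num) (by norm_num)
    rw [h1] at ht
    rw [h3] at hdvd
    have hle := Nat.le_of_dvd (by norm_num) hdvd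
    apply dich S
    rw [h1]
    generalize Nat.card (Sylow 3 H) = N at *
    interval_cases N <;> omega
  · left
    have hc : Nat.card H = 24 := by rw [Nat.card_congr e.toEquiv, card_perm4]
    rw [hc] at hpH
    have hp3 : p = 3 := (prime_dvd_24 hpp hpH).resolve_left hp2
    subst hp3
    obtain ⟨S⟩ : Nonempty (Sylow 3 H) := inferInstance
    obtain ⟨t, ht, hdvd⟩ := sylow_numeric 3 H S
    obtain ⟨h1, h3⟩ := sylow_card_small 3 S (a := 1) (i := 8) hc (by norm_num) (by norm_num) (by norm_num)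
    rw [h1] at ht
    rw [h3] at hdvd
    have hle := Nat.le_of_dvd (by norm_num) hdvd
    apply dich S
    rw [h1]
    generalize Nat.card (Sylow 3 H) = N at *
    interval_cases N <;> omega
  · have hc : Nat.card H = 60 := by rw [Nat.card_congr e.toEquiv, card_alt5]
    rw [hc] at hpH
    rcases (prime_dvd_60 hpp hpH).resolve_left hp2 with hp3 | hp5
    · exact Or.inr ⟨⟨e⟩, hp3⟩
    · left
      subst hp5
      obtain ⟨S⟩ : Nonempty (Sylow 5 H) := inferInstance
      obtain ⟨t, ht, hdvd⟩ := sylow_numeric 5 H S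
      obtain ⟨h1, h3⟩ := sylow_card_small 5 S (a := 1) (i := 12) hc (by norm_num) (by norm_num) (by norm_num)
      rw [h1] at ht
      rw [h3] at hdvd
      have hle := Nat.le_of_dvd (by norm_num) hdvd
      apply dich S
      rw [h1]
      generalize Nat.card (Sylow 5 H) = N at *
      interval_cases N <;> omega
  · exact Or.inl (eq_top_of_two_trans p H hlam hgen hu hv S hn)

/-! ### From `PSL₂` to `SL₂` -/

lemma neg_mem_of_even (H : Subgroup (SL2 F)) (h2 : (2 : F) ≠ 0) (hev : 2 ∣ Nat.card (H.map proj)) : negS 1 ∈ H := by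
  haveI : Fact (Nat.Prime 2) := ⟨Nat.prime_two⟩
  obtain ⟨x, hx⟩ := exists_prime_orderOf_dvd_card' 2 hev
  obtain ⟨y, h, hh, rfl⟩ := x
  have hx2 : proj h ^ 2 = 1 := by
    have h1 := pow_orderOf_eq_one (⟨proj h, h, hh, rfl⟩ : H.map proj)
    rw [hx] at h1
    exact congrArg Subtype.val h1
  have hx1 : proj h ≠ 1 := by
    intro h1
    have h3 : (⟨proj h, h, hh, rfl⟩ : H.map proj) = 1 := Subtype.ext h1
    rw [h3, orderOf_one] at hx
    omega
  rw [← map_pow, proj_eq_one_iff] at hx2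
  rcases center_eq _ hx2 with h1 | h1
  · exfalso
    apply hx1
    rw [proj_eq_one_iff, mem_center_iff'']
    have hs : ∀ i j, tr h * ee h i j = if i = j then 2 else 0 := by
      intro i j
      have h3 := ee_mul_self h i j
      rw [← pow_two, h1, ee_one] at h3
      split_ifs at h3 ⊢ with h4
      · linear_combination (-1 : F) * h3
      · linear_combination (-1 : F) * h3
    have ht0 : tr h ≠ 0 := by
      intro h0
      have := hs 0 0
      rw [h0] at this
      simp at this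
      exact h2 this.symm
    have h01 := hs 0 1
    have h10 := hs 1 0
    have h00 := hs 0 0
    have h11 := hs 1 1
    simp at h01 h10 h00 h11
    refine ⟨h01.resolve_left ht0, h10.resolve_left ht0, ?_⟩
    apply mul_left_cancel₀ ht0
    rw [h00, h11]
  · rw [← h1, pow_two]
    exact H.mul_mem hh hh

lemma comap_map_eq (H : Subgroup (SL2 F)) (hn : negS 1 ∈ H) : (H.map proj).comap proj = H := by
  apply le_antisymm
  · rintro x ⟨h, hh, hx⟩
    rcases (proj_eq_proj_iff' _ _).mp hx with h1 | h1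
    · rwa [h1]
    · rw [h1]
      have h3 : negS h = negS 1 * h := by
        apply ee_ext <;> simp [ee_mul, ee_neg, ee_one]
      rw [h3]
      exact H.mul_mem hn hh
  · exact Subgroup.le_comap_map _ _

end Cfsg.Agent.Lib.DicksonGen
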