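import Cfsg.Agent.Lib.ChevTorTab
import Cfsg.Agent.Lib.ChevStRed2
import Cfsg.Agent.Lib.Chev.RootD4
import Cfsg.Agent.Lib.Chev.RelD4

/-!
# Tables for the lifts of root elements in type D4
-/

set_option autoImplicit false

namespace Cfsg.Agent.Lib.ChevTorD4

open Cfsg.Lie Cfsg.Agent.Lib.Chev Cfsg.Agent.Lib.ChevBL Cfsg.Agent.Lib.ChevTorTab
open Cfsg.Agent.Lib.Chev.TabD4 Cfsg.Agent.Lib.Chev.RootD4T

def dual : List (List ℤ) := [[0, -1, 0, 0], [-1, 0, 0, 0], [-1, 0, 0, 0], [-1, 0, 0, 0], [-1, 0, 0, 0], [0, 1, 0, 0], [0, 0, -1, 0], [0, -1, 0, 0], [0, -1, 0, 0], [0, 0, 0, 1], [0, 1, 0, 0], [0, 1, 0, 0], [0, -1, 0, 0], [0, -1, 0, 0], [-1, 0, 0, 0], [-1, 0, 0, 0], [-1, 0, 0, 0], [-1, 0, 0, 0], [0, -1, 0, 0], [0, 0, -1, 0], [0, 0, -1, 0], [0, 0, 0, -1], [0, -1, 0, 0], [0, 1, 0, 0]]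

set_option maxHeartbeats 4000000 in
def witV : List (List (List ℤ)) := [[], [], [], [], [], [], [], [], [], [], [], [], (List.replicate 13 [] ++ [[0, 0, 0, 1], [-2, -1, 0, 0], [-1, -1, 0, 0], [-1, -1, 0, 0], [0, -1, 0, 0], [0, 0, 0, 1], [0, -1, -1, 0], [0, -1, 0, 0], [0, -1, 0, 0], [-1, -1, 0, 0], [0, 0, 0, 1]]), (List.replicate 14 [] ++ [[-2, -1, 0, 0], [-1, -1, 0, 0], [-1, -1, 0, 0], [0, -1, 0, 0], [0, 0, 1, 0], [0, -1, 0, -1], [0, -1, 0, 0], [0, -1, 0, 0], [-1, -1, 0, 0], [0, 0, 1, 0]]), (List.replicate 15 [] ++ [[0, 1, 1, 0], [0, 1, 0, 1], [0, 1, 0, 0], [0, 0, -1, 0], [0, 1, 0, 1], [0, 1, 0, 0], [0, 1, 0, 0], [0, 1, 0, 1], [-1, 0, 0, 0]]), (List.replicate 16 [] ++ [[-1, 0, -1, 0], [0, 1, 0, 0], [0, 0, -1, 0], [-1, 0, -1, 0], [0, 1, 0, 0], [0, 1, 0, 0], [-1, 0, 0, 1], [-1, 0, 0, 0]]), (List.replicate 17 [] ++ [[0, 1, 0, 0], [0, 0, 0, -1], [-1, 0, 0,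 -1], [0, 1, 0, 0], [0, 1, 0, 0], [-1, 0, 1, 0], [-1, 0, 0, 0]]), (List.replicate 18 [] ++ [[0, 0, 0, 1], [-1, 1, 0, 0], [-1, 0, 0, 1], [-1, 0, 1, 0], [-1, -1, 0, 0], [-1, 0, 0, 0]]), (List.replicate 19 [] ++ [[0, -1, -1, 0], [0, -1, 0, 0], [0, -1, 0, 0], [0, -1, -1, 0], [1, 0, 0, 0]]), (List.replicate 20 [] ++ [[0, 1, 0, 0], [0, 1, 0, 0], [1, 0, -1, 0], [0, 0, -1, 0]]), (List.replicate 21 [] ++ [[1, 0, -1, 0], [0, -1, -1, 0], [0, 0, -1, 0]]), (List.replicate 22 [] ++ [[0, -1, 0, -1], [0, 0, 0, -1]]), (List.replicate 23 [] ++ [[0, 0, 0, 1]]), []]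

def words : List (List ℕ) := [[], [1, 2, 0, 1, 3, 0, 1, 2, 0, 1, 0], [0, 1, 3, 0, 1, 0], [2, 0, 1, 3, 0, 1, 2], [0, 1, 2, 1, 0], [3, 1, 2, 0, 1, 3], [3, 1, 2, 1], [2, 1, 3, 1, 2, 0], [1, 3, 1, 2, 0, 1]]

theorem dual_ok : dualOk chevD4 dual = true := by decide +kernel

theorem wit_ok : witOk R chevD4 witV [1, 2] = true := by decide +kernel

set_option maxRecDepth 100000 in
theorem tab_ok : tabOk X R chevD4 words = true := by decide +kernel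

theorem brChk_ok : ∀ e ∈ R.braid, brChk X chevD4 e.1 e.2.1 e.2.2.1 = true := by decide +kernel

def selfM : List (ℕ × ℕ) := [(9,1), (14,0), (15,0), (16,0), (17,0), (17,1), (19,0), (20,0), (21,0), (22,0), (20,1), (21,1), (22,2), (22,3), (23,1), (23,2), (23,3), (23,4), (22,6), (23,6), (23,7), (23,8), (23,9), (22,14)]

theorem self_ok : selfOk chevD4 selfM = true := by decide +kernel

set_option maxHeartbeats 4000000 in
def swapW : List (List (List ℕ)) := [[], [], [], [], [], [], [], [], [], [], [], [], (List.replicate 13 [] ++ [[1, 3, 2, 1], [], [], [], [], [1, 3, 0, 1], [], [], [], [], [1, 2, 0, 1]]), (List.replicate 18 [] ++ [[1, 2, 0, 1], [], [], [], [], [1, 3, 0, 1]]), (List.replicate 17 [] ++ [[3, 2], [], [], [3, 0], [2, 0]]), (List.replicate 16 [] ++ [[3, 2], [], [], [3, 0], [], [], [2, 0]]), (List.replicate 19 [] ++ [[2, 0], [], [], [3, 0]]), (List.replicate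 20 [] ++ [[2, 0], [3, 0]]), (List.replicate 23 [] ++ [[1, 3, 2, 1]]), (List.replicate 22 [] ++ [[3, 2]]), (List.replicate 21 [] ++ [[3, 2]]), [], [], []]

open Cfsg.Agent.Lib.ChevStRed in
set_option maxRecDepth 100000 in
theorem wit_ok3 : witOk3 X R chevD4 witV swapW = true := by decide +kernel

end Cfsg.Agent.Lib.ChevTorD4
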