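import Cfsg.Agent.Lib.ChevTorTab
import Cfsg.Agent.Lib.Chev.RootF4
import Cfsg.Agent.Lib.Chev.RelF4

/-!
# Tables for the lifts of root elements in type F4
-/

set_option autoImplicit false

namespace Cfsg.Agent.Lib.ChevTorF4

open Cfsg.Lie Cfsg.Agent.Lib.Chev Cfsg.Agent.Lib.ChevBL Cfsg.Agent.Lib.ChevTorTab
open Cfsg.Agent.Lib.Chev.TabF4 Cfsg.Agent.Lib.Chev.RootF4T

def dual : List (List ℤ) := [[0, 0, 0, -1], [0, 0, -1, 0], [0, 0, 1, 0], [-1, 0, 0, 0], [0, 0, -1, 0], [0, 0, 0, -1], [0, 0, 0, 1], [0, -1, 0, 0], [0, 0, -1, 0], [0, -1, 0, 0], [0, -1, 0, 0], [-1, 0, 0, 0], [-1, 0, 0, 0], [-1, 0, 0, 0], [0, 1, 0, 0], [0, 0, -1, 0], [0, 0, 0, -1], [0, 0, 0, 1], [0, 0, 0, -1], [0, 0, -1, 0], [0, 0, 1, 0], [0, 0, -1, 0], [0, 0, 0, 1], [0, 0, 1, 0], [0, 0, -1, 0], [0, 0, 0, -1], [0, 0, 0, 1], [-1, 0, 0,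 0], [-1, 0, 0, 0], [-1, 0, 0, 0], [0, 0, 0, -1], [0, 0, -1, 0], [0, 0, 1, 0], [0, -1, 0, 0], [0, 0, -1, 0], [0, -1, 0, 0], [0, -1, 0, 0], [0, 0, 0, -1], [0, 0, -1, 0], [0, -1, 0, 0], [-1, 0, 0, 0], [0, 0, 0, -1], [0, 0, -1, 0], [0, 0, 1, 0], [1, 0, 0, 0], [0, 0, -1, 0], [0, 0, 0, -1], [0, 0, 0, 1]]

set_option maxHeartbeats 4000000 in
def witV : List (List (List ℤ)) := [[], [], [], [], [], [], [], [], [], [], [], [], [], [], [], [], [], [], [], [], [], [], [], [], (List.replicate 25 [] ++ [[0, -1, -1, 0], [0, 1, 1, 1], [1, 0, -1, 0], [-1, 0, -1, 0], [0, 0, -1, 0], [0, 0, -1, 0], [0, 0, 1, 1], [0, 0, 0, 1], [0, 0, -1, 0], [-1, 0, -1, 0], [0, -1, -1, 0], [0, 0, -1, 0], [0, 0, -1, 0], [0, -1, -1, 0], [0, -1, -1, 0], [0, 0, -1, 0], [0, 0, -1, 0], [0, 0, 1, 1], [0, 0, 0, 1], [0, 0, -1, 0], [0, 0, 0,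 1], [0, 0, 1, 1], [0, 0, -1, 0]]), (List.replicate 26 [] ++ [[0, -1, -1, -1], [0, 0, 0, -1], [0, 0, 1, 1], [-1, 0, 0, -1], [0, 0, 1, 0], [0, 0, 1, 1], [0, 0, 0, -1], [0, 0, 0, -1], [0, 0, 0, -1], [-1, 0, 0, -1], [1, 0, 0, -1], [0, -1, -1, -1], [0, -1, 0, 1], [0, 0, 0, -1], [0, 0, 0, -1], [0, -1, 0, 0], [0, 0, 1, 1], [0, 0, 0, -1], [0, 0, 0, -1], [0, 0, 0, -1], [0, 0, 1, 1], [0, -1, 0, 0]]), (List.replicate 27 [] ++ [[0, 0, 0, 1], [-1, 0, 0, 1], [0, 0, 1, 0], [0, 0, 1, 0], [-1, -1, 0, 0], [0, 0, 0, 1], [0, 0, 0, 1], [0, 0, 0, 1], [-1, 0, 1, 0], [0, 0, 1, 0], [0, 0, 1, 0], [0, -1, -1, 0], [0, 0, 0, 1], [0, 0, 0, 1], [0, 0, 1, 0], [0, -1, 0, 0], [0, 0, 0, 1], [0, 0, 0, 1], [0, 0, 0, 1], [0, -1, 0, 0], [0, 0, 1, 0]]), (List.replicate 28 [] ++ [[-1, 0, 0, 1], [0, 0, -1, 0], [0, 0, -1, 0], [0, 0, -1,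 -1], [-1, -1, -2, 0], [0, 0, -1, 0], [0, 1, 1, 0], [-1, 0, 0, -1], [0, 0, -1, 0], [-1, 0, 0, 0], [-1, 0, 0, 0], [-1, 0, 0, 0], [0, 0, -1, 0], [0, 0, -1, 0], [0, 0, -1, -1], [1, 1, 0, 0], [0, 0, -1, 0], [-1, 0, 0, 0], [-1, 0, 0, 0], [-1, 0, 0, 0]]), (List.replicate 29 [] ++ [[0, 0, 1, 0], [0, 0, 1, 0], [-1, -1, 0, 0], [0, 0, 0, -1], [0, 0, 0, -1], [0, 0, 0, -1], [-1, -1, 0, 0], [0, 0, 1, 0], [-1, 0, 0, 0], [-1, 0, 0, 0], [-1, 0, 0, 0], [0, 0, 0, -1], [0, 0, 1, 0], [1, 0, 0, -2], [0, 0, 0, -1], [0, 0, 0, -1], [-1, 0, 0, 0], [-1, 0, 0, 0], [-1, 0, 0, 0]]), (List.replicate 30 [] ++ [[-1, -1, 0, 0], [-1, -1, 0, 0], [0, 0, 0, 1], [0, 0, 0, 1], [0, 0, 0, 1], [-1, -1, 0, 0], [-1, -1, 0, 0], [-1, 0, 0, 0], [-1, 0, 0, 0], [-1, 0, 0, 0], [0, 0, 0, 1], [1, 0, 0, 2], [0, 0, 1, 1], [0, 0, 0, 1], [0, 0, 0, 1],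 [-1, 0, 0, 0], [-1, 0, 0, 0], [-1, 0, 0, 0]]), (List.replicate 31 [] ++ [[0, 0, -1, -1], [0, 0, 0, -1], [0, 0, 0, -1], [0, 0, 0, -1], [0, 0, -1, -1], [-1, 0, 0, 1], [0, 1, 0, 1], [0, 0, -1, -1], [0, 0, 0, -1], [0, 0, 0, -1], [0, 1, 0, 0], [0, 0, -1, -1], [0, 0, 0, -1], [0, 0, 0, -1], [0, 0, 0, -1], [0, 0, -1, -1], [-1, 0, 0, 0]]), (List.replicate 32 [] ++ [[0, 0, 0, 1], [0, 0, -1, 0], [0, 0, 0, 1], [-1, 0, 0, -1], [0, 0, -1, 0], [0, 0, -1, 0], [0, 1, 0, -1], [0, 0, 0, 1], [0, 0, -1, 0], [0, 0, -1, 0], [0, 1, 0, 0], [0, 0, 0, 1], [0, 0, -1, 0], [0, 0, 0, 1], [-1, 0, 0, 0], [0, 0, -1, 0]]), (List.replicate 33 [] ++ [[0, 0, 1, 0], [-1, 0, -1, 0], [0, 0, 1, 1], [0, 0, 1, 0], [0, 0, 1, 0], [0, 0, 1, 1], [0, 1, 1, 0], [0, 0, 1, 0], [0, 0, 1, 0], [0, 0, 1, 1], [-1, -1, 0, 0], [0, 0, 1, 0], [-1, 0, 0,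 0], [0, 0, 1, 1], [0, 0, 1, 0]]), (List.replicate 34 [] ++ [[0, -1, -1, 0], [0, -1, -1, 0], [0, -1, 0, -1], [0, -1, 0, -1], [0, -1, -1, 0], [0, -1, -1, 0], [1, 1, 0, 0], [0, -1, 0, 0], [0, -1, 0, 0], [1, 1, 0, 0], [0, -1, 0, 0], [0, -1, -2, 0], [0, -1, 0, 0], [0, -1, 0, 0]]), (List.replicate 35 [] ++ [[0, 0, -1, -1], [0, 0, -1, 0], [0, 0, -1, 0], [1, 0, 0, 0], [1, 0, 0, 0], [0, 0, -1, 0], [0, 0, -1, 0], [0, 1, 0, 0], [0, -1, -2, 0], [0, 0, -1, 0], [1, 0, 0, 0], [0, 1, 0, 0], [0, 0, -1, 0]]), (List.replicate 36 [] ++ [[0, 0, 1, 0], [0, 0, 1, 0], [1, 0, 0, 0], [0, 0, 0, -1], [0, 0, 0, -1], [0, -1, 0, 0], [0, -1, 0, 0], [0, 0, 0, -1], [0, -1, 0, 0], [0, 0, 0, -1], [0, -1, 0, 0], [0, -1, 0, 0]]), (List.replicate 37 [] ++ [[1, 0, 0, 0], [1, 0, 0, 0], [0, 0, 0, 1], [0, 0, 0, 1], [0, -1, 0, 0], [0, -1,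 0, 0], [0, 0, 0, 1], [0, -1, 0, 0], [0, 0, 0, 1], [0, -1, 0, 0], [0, -1, 0, 0]]), (List.replicate 38 [] ++ [[0, 0, -1, -1], [0, 0, 0, -1], [0, 0, 0, -1], [0, 1, 0, 0], [0, 1, 0, 0], [0, 0, 0, -1], [0, 0, 0, -1], [0, 0, 0, -1], [0, 1, 0, 0], [0, 1, 0, 0]]), (List.replicate 39 [] ++ [[0, 0, 0, 1], [0, 0, -1, 0], [0, 0, -1, 0], [0, 1, 0, 0], [0, 0, 0, 1], [0, 0, -1, 0], [0, 0, 0, 1], [0, 1, 0, 0], [0, 0, -1, 0]]), (List.replicate 40 [] ++ [[0, 0, 1, 0], [0, -1, 0, 0], [0, -1, 0, 0], [-1, -1, 0, 0], [0, -1, 0, 0], [0, 1, 2, 0], [0, -1, 0, 0], [0, -1, 0, 0]]), (List.replicate 41 [] ++ [[0, 1, 0, 0], [0, 1, 0, 0], [-1, 0, 2, 0], [0, 1, 0, 0], [-1, 0, 0, 0], [-1, 0, 0, 0], [-1, 0, 0, 0]]), (List.replicate 42 [] ++ [[0, 0, -1, -1], [0, 0, 0, -1], [0, 0, 0, -1], [0, 0, 0, -1], [0, 0, -1, -1], [1, 0, 0,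 0]]), (List.replicate 43 [] ++ [[0, 0, 0, 1], [0, 0, -1, 0], [0, 0, 0, 1], [1, 0, 0, 0], [0, 0, -1, 0]]), (List.replicate 44 [] ++ [[0, 0, 1, 0], [1, 0, 0, 0], [0, 0, 1, 1], [0, 0, 1, 0]]), (List.replicate 45 [] ++ [[1, 0, 0, 0], [1, 0, 0, 0], [1, 0, 0, 0]]), (List.replicate 46 [] ++ [[0, 0, -1, -1], [0, 0, -1, 0]]), (List.replicate 47 [] ++ [[0, 0, 1, 0]]), []]

def words : List (List ℕ) := [[], [2, 1, 2, 0, 1, 2, 3, 2, 1, 2, 0, 1, 2, 3, 2, 1, 2, 0, 1, 2, 0, 1, 0], [3, 2, 0, 1, 2, 3, 2, 1, 2, 0, 1, 0], [1, 2, 3, 2, 1, 2, 0, 1, 2, 3, 0, 1, 2], [0, 1, 2, 3, 1, 2, 0, 1, 2, 1, 0], [1, 2, 3, 2, 1, 2, 0, 1, 2, 3, 2, 1], [0, 1, 2, 3, 1, 2, 0, 1, 2, 3, 2, 0], [1, 2, 3, 2, 1, 2, 0, 1, 2, 1], [3, 2, 1, 2, 3, 1, 2, 1, 0], [2, 0, 1, 2, 3, 2, 1, 2, 0, 1, 2, 3, 0, 1, 2, 0, 1], [2, 1, 2, 3, 2, 1, 2], [2, 3,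 1, 2, 0, 1, 2, 3, 2, 0, 1, 2, 1, 0], [1, 2, 3, 1, 2, 0, 1, 2, 3, 0, 1]]

theorem dual_ok : dualOk chevF4 dual = true := by decide +kernel

theorem wit_ok : witOk R chevF4 witV [1, 2] = true := by decide +kernel

set_option maxRecDepth 100000 in
theorem tab_ok : tabOk X R chevF4 words = true := by decide +kernel

theorem brChk_ok : ∀ e ∈ R.braid, brChk X chevF4 e.1 e.2.1 e.2.2.1 = true := by decide +kernel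

def selfM : List (ℕ × ℕ) := [(23,1), (24,0), (26,0), (14,7), (31,0), (32,0), (32,1), (33,3), (34,3), (35,3), (36,3), (37,3), (38,3), (39,3), (40,3), (42,0), (43,0), (43,1), (37,7), (38,7), (39,7), (45,0), (45,1), (46,0), (47,1), (46,2), (47,2), (40,8), (40,9), (40,10), (46,4), (47,4), (47,5), (44,7), (44,8), (44,9), (44,10), (44,11), (44,12), (44,13), (44,14), (46,15), (47,15), (47,16), (40,33), (47,21), (47,23), (46,24)]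

theorem self_ok : selfOk chevF4 selfM = true := by decide +kernel

set_option maxHeartbeats 4000000 in
def dec2 : List (List (ℕ × ℕ)) := [[], [], [], [], [], [], [], [], [], [], [], [], [], [], [], [], [], [], [], [], [], [], [], [], (List.replicate 32 (0,0) ++ [(40,13), (0,0), (0,0), (0,0), (0,0), (0,0), (0,0), (0,0), (0,0), (0,0), (0,0), (44,20), (0,0), (44,27)]), (List.replicate 30 (0,0) ++ [(40,11), (0,0), (0,0), (0,0), (0,0), (0,0), (0,0), (0,0), (0,0), (0,0), (0,0), (44,18), (0,0), (0,0), (0,0), (0,0), (0,0), (44,29)]), (List.replicate 31 (0,0) ++ [(40,12), (0,0), (0,0), (0,0), (0,0), (0,0), (0,0), (0,0), (0,0), (0,0), (0,0), (44,19), (0,0), (0,0), (0,0), (44,28)]), [], [], [], (List.replicate 41 (0,0) ++ [(44,18), (0,0), (0,0), (0,0), (0,0), (0,0), (44,29)]), (List.replicate 42 (0,0) ++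 [(44,19), (0,0), (0,0), (0,0), (44,28)]), (List.replicate 43 (0,0) ++ [(44,20), (0,0), (44,27)]), [], [], [], [], [], [], [], [], (List.replicate 47 (0,0) ++ [(40,36)]), (List.replicate 46 (0,0) ++ [(40,35)]), (List.replicate 45 (0,0) ++ [(40,34)]), [], [], [], []]

theorem wit_ok2 : witOk2 R chevF4 witV dec2 = true := by decide +kernel

end Cfsg.Agent.Lib.ChevTorF4
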