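import Mathlib

/-!
# Commutator lemmas for a factorization `G = H ⊔ K`.
-/

set_option autoImplicit false

open scoped commutatorElement

namespace Cfsg.Agent.Lib.OddLocalB

variable {G : Type*} [Group G]

/-- A conjugation invariance criterion: if `A ⊔ B = ⊤` and conjugation by elements of `A` and of `B`
preserves `M`, then `M` is normal (finite case). -/
theorem normal_of_sup_eq_top [Finite G] {A B M : Subgroup G} (h : A ⊔ B = ⊤)
    (hA : ∀ a ∈ A, ∀ m ∈ M, a * m * a⁻¹ ∈ M) (hB : ∀ b ∈ B, ∀ m ∈ M, b * m * b⁻¹ ∈ M) : M.Normal := by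
  have hAN : A ≤ Subgroup.normalizer (M : Set G) := fun a ha =>
    Subgroup.mem_normalizer_fintype (fun m hm => hA a ha m hm)
  have hBN : B ≤ Subgroup.normalizer (M : Set G) := fun b hb =>
    Subgroup.mem_normalizer_fintype (fun m hm => hB b hb m hm)
  have htop : Subgroup.normalizer (M : Set G) = ⊤ := by
    rw [eq_top_iff, ← h]
    exact sup_le hAN hBN
  exact Subgroup.normalizer_eq_top_iff.mp htop

/-- `⁅H, K⁆` is normal when `H` is normal and `H ⊔ K = ⊤` (finite case). -/
theorem commutator_normal_of_sup_eq_top [Finite G] (H K : Subgroup G) [hH : H.Normal]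
    (h : H ⊔ K = ⊤) : (⁅H, K⁆ : Subgroup G).Normal := by
  have hgen : ∀ h ∈ H, ∀ k ∈ K, h * k * h⁻¹ * k⁻¹ ∈ ⁅H, K⁆ := fun h hh k hk =>
    Subgroup.commutator_mem_commutator hh hk
  refine normal_of_sup_eq_top h ?_ ?_
  · intro a ha m hm
    rw [Subgroup.commutator_def] at hm ⊢
    induction hm using Subgroup.closure_induction with
    | mem x hx =>
      obtain ⟨h, hh, k, hk, rfl⟩ := hx
      have e : a * ⁅h, k⁆ * a⁻¹ = ⁅a * h, k⁆ * ⁅a, k⁆⁻¹ := by
        simp only [commutatorElement_def]; group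
      rw [e]
      refine Subgroup.mul_mem _ (Subgroup.subset_closure ⟨a * h, H.mul_mem ha hh, k, hk, rfl⟩) ?_
      exact Subgroup.inv_mem _ (Subgroup.subset_closure ⟨a, ha, k, hk, rfl⟩)
    | one => simp
    | mul x y _ _ hx hy =>
      have e : a * (x * y) * a⁻¹ = (a * x * a⁻¹) * (a * y * a⁻¹) := by group
      rw [e]; exact Subgroup.mul_mem _ hx hy
    | inv x _ hx =>
      have e : a * x⁻¹ * a⁻¹ = (a * x * a⁻¹)⁻¹ := by group
      rw [e]; exact Subgroup.inv_mem _ hx
  · intro b hb m hm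
    rw [Subgroup.commutator_def] at hm ⊢
    induction hm using Subgroup.closure_induction with
    | mem x hx =>
      obtain ⟨h, hh, k, hk, rfl⟩ := hx
      have e : b * ⁅h, k⁆ * b⁻¹ = ⁅b * h * b⁻¹, b * k * b⁻¹⁆ := by
        simp only [commutatorElement_def]; group
      rw [e]
      exact Subgroup.subset_closure ⟨_, hH.conj_mem h hh b, _, K.mul_mem (K.mul_mem hb hk) (K.inv_mem hb), rfl⟩
    | one => simp
    | mul x y _ _ hx hy =>
      have e : b * (x * y) * b⁻¹ = (b * x * b⁻¹) * (b * y * b⁻¹) := by group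
      rw [e]; exact Subgroup.mul_mem _ hx hy
    | inv x _ hx =>
      have e : b * x⁻¹ * b⁻¹ = (b * x * b⁻¹)⁻¹ := by group
      rw [e]; exact Subgroup.inv_mem _ hx

/-- If `A ⊔ B = ⊤` and a normal subgroup `M` contains `⁅A, A⁆`, `⁅A, B⁆`, `⁅B, B⁆`, then it contains
`commutator G`. -/
theorem commutator_le_of_sup_eq_top {A B M : Subgroup G} [hM : M.Normal] (h : A ⊔ B = ⊤)
    (hAA : ⁅A, A⁆ ≤ M) (hAB : ⁅A, B⁆ ≤ M) (hBB : ⁅B, B⁆ ≤ M) : commutator G ≤ M := by
  let π := QuotientGroup.mk' M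
  have hcomm : ∀ {x y : G}, ⁅x, y⁆ ∈ M → π x * π y = π y * π x := by
    intro x y hxy
    have h1 : π ⁅x, y⁆ = 1 := (QuotientGroup.eq_one_iff _).mpr hxy
    rw [map_commutatorElement, commutatorElement_eq_one_iff_mul_comm] at h1
    exact h1
  have hAAc : ∀ a ∈ A, ∀ a' ∈ A, π a * π a' = π a' * π a := fun a ha a' ha' =>
    hcomm (hAA (Subgroup.commutator_mem_commutator ha ha'))
  have hABc : ∀ a ∈ A, ∀ b ∈ B, π a * π b = π b * π a := fun a ha b hb =>
    hcomm (hAB (Subgroup.commutator_mem_commutator ha hb))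
  have hBBc : ∀ b ∈ B, ∀ b' ∈ B, π b * π b' = π b' * π b := fun b hb b' hb' =>
    hcomm (hBB (Subgroup.commutator_mem_commutator hb hb'))
  -- the comap of the centralizer of a subset containing the images
  have hall : ∀ z : G, (∀ a ∈ A, π a * π z = π z * π a) → (∀ b ∈ B, π b * π z = π z * π b) →
      ∀ g : G, π g * π z = π z * π g := by
    intro z hza hzb g
    have hle : A ⊔ B ≤ (Subgroup.centralizer ({π z} : Set (G ⧸ M))).comap π := by
      refine sup_le ?_ ?_
      · intro a ha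
        rw [Subgroup.mem_comap, Subgroup.mem_centralizer_iff]
        rintro _ rfl
        exact (hza a ha).symm
      · intro b hb
        rw [Subgroup.mem_comap, Subgroup.mem_centralizer_iff]
        rintro _ rfl
        exact (hzb b hb).symm
    have hg : g ∈ A ⊔ B := by rw [h]; exact Subgroup.mem_top g
    have := hle hg
    rw [Subgroup.mem_comap, Subgroup.mem_centralizer_iff] at this
    exact (this _ rfl).symm
  have hA' : ∀ a ∈ A, ∀ g : G, π g * π a = π a * π g := fun a ha =>
    hall a (fun a' ha' => hAAc a' ha' a ha) (fun b hb => (hABc a ha b hb).symm)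
  have hB' : ∀ b ∈ B, ∀ g : G, π g * π b = π b * π g := fun b hb =>
    hall b (fun a ha => hABc a ha b hb) (fun b' hb' => hBBc b' hb' b hb)
  have hG' : ∀ x y : G, π y * π x = π x * π y := fun x y =>
    hall x (fun a ha => (hA' a ha x).symm) (fun b hb => (hB' b hb x).symm) y
  rw [commutator_def, Subgroup.commutator_le]
  intro x _ y _
  rw [← QuotientGroup.eq_one_iff]
  change π ⁅x, y⁆ = 1
  rw [map_commutatorElement, commutatorElement_eq_one_iff_mul_comm]
  exact hG' y x

/-- In a solvable group, if `N ≤ T ⊔ ⁅N, N⁆` with `T` normal, then `N ≤ T`. -/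
theorem le_of_le_sup_commutator [Group.IsSolvable G] {N T : Subgroup G} [hT : T.Normal]
    (h : N ≤ T ⊔ ⁅N, N⁆) : N ≤ T := by
  let π := QuotientGroup.mk' T
  have hker : π.ker = T := QuotientGroup.ker_mk' T
  by_contra hne
  have hne' : N.map π ≠ ⊥ := by
    intro hbot
    apply hne
    rw [Subgroup.map_eq_bot_iff, hker] at hbot
    exact hbot
  have hlt := Group.IsSolvable.commutator_lt_of_ne_bot hne'
  have hle : N.map π ≤ ⁅N.map π, N.map π⁆ := by
    have h1 := Subgroup.map_mono (f := π) h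
    rw [Subgroup.map_sup, Subgroup.map_commutator] at h1
    have h2 : T.map π = ⊥ := by
      rw [Subgroup.map_eq_bot_iff, hker]
    rwa [h2, bot_sup_eq] at h1
  exact absurd hle (not_le_of_gt hlt)

/-- Coprime action on the abelianization: if `K` acts coprimely on the normal subgroup `H` and
`H = ⁅H, K⁆` then `C_H(K) ≤ ⁅H, H⁆`. -/
theorem inf_centralizer_le_commutator [Finite G] (H K : Subgroup G) [hHn : H.Normal]
    (hcop : (Nat.card K).Coprime (Nat.card H)) (hH : H ≤ ⁅H, K⁆) :
    H ⊓ Subgroup.centralizer (K : Set G) ≤ ⁅H, H⁆ := by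
  classical
  let _ : Fintype K := Fintype.ofFinite K
  let c : K →* MulAut H := (MulAut.conjNormal (H := H)).comp K.subtype
  let ψ : K → (Abelianization H →* Abelianization H) := fun k =>
    Abelianization.map (c k).toMonoidHom
  have hψ : ∀ (k : K) (h : H), ψ k (Abelianization.of h) = Abelianization.of (c k h) := by
    intro k h
    exact Abelianization.map_of _ _
  let ν : Abelianization H →* Abelianization H := ∏ k : K, ψ k
  have hν : ∀ h : H, ν (Abelianization.of h) = ∏ k : K, Abelianization.of (c k h) := by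
    intro h
    simp only [ν, MonoidHom.finsetProd_apply, hψ]
  have hνc : ∀ (k₀ : K) (h : H), ν (Abelianization.of (c k₀ h)) = ν (Abelianization.of h) := by
    intro k₀ h
    rw [hν, hν]
    refine Fintype.prod_equiv (Equiv.mulRight k₀) _ _ ?_
    intro k
    simp only [Equiv.coe_mulRight, map_mul, MulAut.mul_apply]
  let S : Subgroup G := (ν.comp Abelianization.of).ker.map H.subtype
  have hS : ⁅H, K⁆ ≤ S := by
    rw [Subgroup.commutator_le]
    intro h hh k hk
    have hcm : ((c ⟨k, hk⟩ ⟨h, hh⟩ : H) : G) = k * h * k⁻¹ := by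
      simp [c, MulAut.conjNormal_apply]
    refine ⟨⟨h, hh⟩ * (c ⟨k, hk⟩ ⟨h, hh⟩)⁻¹, ?_, ?_⟩
    · show ⟨h, hh⟩ * ((c ⟨k, hk⟩) ⟨h, hh⟩)⁻¹ ∈ (ν.comp Abelianization.of).ker
      rw [MonoidHom.mem_ker, MonoidHom.comp_apply, map_mul, map_mul, map_inv, map_inv, hνc]
      simp
    · simp only [Subgroup.subtype_apply, Subgroup.coe_mul, Subgroup.coe_inv, hcm,
        commutatorElement_def]
      group
  intro x hx
  obtain ⟨hxH, hxc⟩ := Subgroup.mem_inf.mp hx
  rw [Subgroup.mem_centralizer_iff] at hxc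
  obtain ⟨y, hy, hyx⟩ := hS (hH hxH)
  have hyxe : y = ⟨x, hxH⟩ := Subtype.ext (by simpa using hyx)
  subst hyxe
  have hy' : (⟨x, hxH⟩ : H) ∈ (ν.comp Abelianization.of).ker := hy
  rw [MonoidHom.mem_ker, MonoidHom.comp_apply, hν] at hy'
  have hfix : ∀ k : K, c k ⟨x, hxH⟩ = ⟨x, hxH⟩ := by
    intro k
    apply Subtype.ext
    have h1 : (k : G) * x = x * k := hxc k k.2
    have : ((c k ⟨x, hxH⟩ : H) : G) = k * x * (k : G)⁻¹ := by
      simp [c, MulAut.conjNormal_apply]
    rw [this, h1]; simp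
  simp only [hfix, Finset.prod_const, Finset.card_univ, ← Nat.card_eq_fintype_card] at hy'
  have h2 : (Abelianization.of (⟨x, hxH⟩ : H)) ^ Nat.card H = 1 := by
    rw [← map_pow, pow_card_eq_one', map_one]
  have h3 : Abelianization.of (⟨x, hxH⟩ : H) = 1 := by
    have h4 := (pow_gcd_eq_one (a := Abelianization.of (⟨x, hxH⟩ : H))).mpr ⟨hy', h2⟩
    rw [hcop.gcd_eq_one, pow_one] at h4
    exact h4
  have h5 : (⟨x, hxH⟩ : H) ∈ commutator H := by
    rw [← Abelianization.ker_of]
    exact h3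
  rw [← Subgroup.map_subtype_commutator]
  exact ⟨_, h5, rfl⟩

end Cfsg.Agent.Lib.OddLocalB
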