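import Mathlib
import Cfsg.Agent.Lib.OddLocalB
import Cfsg.Agent.Lib.Glauberman

/-!
# Coprime automorphism groups of `p`-groups, in the form `A ≤ MulAut G`

Bridges from the ambient-group statements of `Lib.Glauberman` and `Lib.OddLocalB` by means of the
semidirect product `G ⋊ A`.
-/

set_option autoImplicit false

namespace Cfsg.Agent.Lib.CoprimeAut

open scoped commutatorElement

variable {G : Type*} [Group G] [Finite G]

/-- The semidirect product attached to `A ≤ MulAut G`. -/
abbrev Sd (A : Subgroup (MulAut G)) := SemidirectProduct G A A.subtype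

lemma finite_sd (A : Subgroup (MulAut G)) : Finite (Sd A) :=
  Finite.of_equiv _ SemidirectProduct.equivProd.symm

lemma inr_conj (A : Subgroup (MulAut G)) (a : A) (g : G) :
    (SemidirectProduct.inr a : Sd A) * SemidirectProduct.inl g * (SemidirectProduct.inr a)⁻¹ =
      SemidirectProduct.inl ((a : MulAut G) g) := by
  have := SemidirectProduct.inl_aut (φ := A.subtype) a g
  simp only [Subgroup.subtype_apply] at this
  rw [this, map_inv]

lemma card_range_inr (A : Subgroup (MulAut G)) :
    Nat.card (SemidirectProduct.inr : A →* Sd A).range = Nat.card A :=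
  Nat.card_congr (MonoidHom.ofInjective SemidirectProduct.inr_injective).symm.toEquiv

/-- Fixed points lie in the commutator subgroup when `G = [G, A]`. -/
theorem fixed_mem_commutator {p : ℕ} [Fact p.Prime] (hG : IsPGroup p G) (A : Subgroup (MulAut G))
    (hA : Nat.Coprime (Nat.card A) p)
    (hGA : Subgroup.closure {x : G | ∃ g : G, ∃ a ∈ A, x = g⁻¹ * a g} = ⊤) (g : G)
    (hg : ∀ a ∈ A, a g = g) : g ∈ commutator G := by
  classical
  haveI := finite_sd A
  let i : G →* Sd A := SemidirectProduct.inl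
  let j : A →* Sd A := SemidirectProduct.inr
  have hi : Function.Injective i := SemidirectProduct.inl_injective
  let Gh : Subgroup (Sd A) := i.range
  let Ah : Subgroup (Sd A) := j.range
  haveI hGn : Gh.Normal := by
    have : Gh = (SemidirectProduct.rightHom : Sd A →* A).ker := SemidirectProduct.range_inl_eq_ker_rightHom
    rw [this]
    infer_instance
  have hcardG : Nat.card Gh = Nat.card G := Nat.card_congr (MonoidHom.ofInjective hi).symm.toEquiv
  have hcop : (Nat.card Ah).Coprime (Nat.card Gh) := by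
    rw [card_range_inr, hcardG]
    obtain ⟨n, hn⟩ := hG.exists_card_eq
    rw [hn]
    exact Nat.Coprime.pow_right n hA
  have hle : Gh ≤ ⁅Gh, Ah⁆ := by
    rintro _ ⟨u₀, rfl⟩
    have hu₀ : u₀ ∈ Subgroup.closure {x : G | ∃ g : G, ∃ a ∈ A, x = g⁻¹ * a g} := by
      rw [hGA]; trivial
    induction hu₀ using Subgroup.closure_induction with
    | mem x hx =>
      obtain ⟨u, a, ha, rfl⟩ := hx
      have e : i (u⁻¹ * a u) = ⁅(i u)⁻¹, j ⟨a, ha⟩⁆ := by
        rw [commutatorElement_def, map_mul, map_inv, inv_inv]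
        have := inr_conj A ⟨a, ha⟩ u
        have e2 : i (a u) = j ⟨a, ha⟩ * i u * (j ⟨a, ha⟩)⁻¹ := this.symm
        rw [e2]
        group
      show i (u⁻¹ * a u) ∈ _
      rw [e]
      exact Subgroup.commutator_mem_commutator (inv_mem ⟨u, rfl⟩) ⟨_, rfl⟩
    | one => simp only [map_one]; exact one_mem _
    | mul x y _ _ ihx ihy => simp only [map_mul]; exact mul_mem ihx ihy
    | inv x _ ih => simp only [map_inv]; exact inv_mem ih
  have hmem : i g ∈ Gh ⊓ Subgroup.centralizer (Ah : Set (Sd A)) := by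
    refine Subgroup.mem_inf.2 ⟨⟨g, rfl⟩, Subgroup.mem_centralizer_iff.2 ?_⟩
    rintro _ ⟨a, rfl⟩
    have h1 := inr_conj A a g
    rw [hg a a.2] at h1
    calc j a * i g = (j a * i g * (j a)⁻¹) * j a := by group
      _ = i g * j a := by rw [show j a * i g * (j a)⁻¹ = i g from h1]
  have h2 := Cfsg.Agent.Lib.OddLocalB.inf_centralizer_le_commutator Gh Ah hcop hle hmem
  have h3 : ⁅Gh, Gh⁆ = (commutator G).map i := by
    rw [commutator_def, Subgroup.map_commutator, ← MonoidHom.range_eq_map]
  rw [h3] at h2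
  obtain ⟨g', hg', he⟩ := h2
  rw [← hi he]
  exact hg'

/-- `H = [H, A] C_H(A)`, in the form of a subgroup criterion. -/
theorem le_of_commutators_and_fixed {p : ℕ} [Fact p.Prime] (hG : IsPGroup p G)
    (A : Subgroup (MulAut G)) (hA : Nat.Coprime (Nat.card A) p) (H : Subgroup G)
    (hH : ∀ a ∈ A, ∀ h ∈ H, a h ∈ H) (L : Subgroup G)
    (h1 : ∀ h ∈ H, ∀ a ∈ A, h * (a h)⁻¹ ∈ L)
    (h2 : ∀ h ∈ H, (∀ a ∈ A, a h = h) → h ∈ L) : H ≤ L := by
  classical
  haveI := finite_sd A
  let i : G →* Sd A := SemidirectProduct.inl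
  let j : A →* Sd A := SemidirectProduct.inr
  have hi : Function.Injective i := SemidirectProduct.inl_injective
  let Hh : Subgroup (Sd A) := H.map i
  let Ah : Subgroup (Sd A) := j.range
  have hcardH : Nat.card Hh = Nat.card H := Subgroup.card_map_of_injective hi
  have hp : IsPGroup p H := hG.to_subgroup H
  have hcop : (Nat.card Ah).Coprime (Nat.card Hh) := by
    rw [card_range_inr, hcardH]
    obtain ⟨n, hn⟩ := hp.exists_card_eq
    rw [hn]
    exact Nat.Coprime.pow_right n hA
  have hAN : Ah ≤ Subgroup.normalizer (Hh : Set (Sd A)) := by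
    rintro _ ⟨a, rfl⟩
    apply Subgroup.mem_normalizer_fintype
    rintro _ ⟨h, hh, rfl⟩
    have := inr_conj A a h
    refine ⟨(a : MulAut G) h, hH _ a.2 h hh, ?_⟩
    exact this.symm
  have hsolv : Group.IsSolvable Hh := by
    have hpH : IsPGroup p Hh := IsPGroup.of_card (n := (hp.exists_card_eq).choose) (by
      rw [hcardH]
      exact (hp.exists_card_eq).choose_spec)
    haveI := hpH.isNilpotent
    infer_instance
  have key := Cfsg.Agent.Lib.Glauberman.commutator_sup_inf_centralizer hAN hcop (Or.inr hsolv)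
  have hle : Hh ≤ L.map i := by
    rw [← key]
    apply sup_le
    · rw [Subgroup.commutator_le]
      rintro _ ⟨h, hh, rfl⟩ _ ⟨a, rfl⟩
      refine ⟨h * ((a : MulAut G) h)⁻¹, h1 h hh _ a.2, ?_⟩
      have e := inr_conj A a h⁻¹
      have e2 : i ((a : MulAut G) h)⁻¹ = j a * i h⁻¹ * (j a)⁻¹ := by
        rw [← map_inv]
        exact e.symm ▸ (by rw [map_inv])
      rw [commutatorElement_def, map_mul, e2]
      simp only [map_inv]
      group
    · rintro _ ⟨⟨h, hh, rfl⟩, hc⟩
      refine ⟨h, h2 h hh ?_, rfl⟩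
      intro a ha
      have h3 := Subgroup.mem_centralizer_iff.1 hc (j ⟨a, ha⟩) ⟨_, rfl⟩
      have h4 := inr_conj A ⟨a, ha⟩ h
      have h5 : i (a h) = i h := by
        calc i (a h) = j ⟨a, ha⟩ * i h * (j ⟨a, ha⟩)⁻¹ := h4.symm
          _ = i h * j ⟨a, ha⟩ * (j ⟨a, ha⟩)⁻¹ := by rw [h3]
          _ = i h := by group
      exact hi h5
  intro h hh
  obtain ⟨l, hl, he⟩ := hle ⟨h, hh, rfl⟩
  rw [← hi he]
  exact hl

end Cfsg.Agent.Lib.CoprimeAut
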