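import Mathlib
import Cfsg.Agent.Lib.Frat

/-!
# Minimal invariant subgroups for coprime automorphisms

If `D` is a group of automorphisms of a finite `p`-group `R` containing a nontrivial element of order prime to `p`,
then there is a `D`-invariant subgroup `W` of `R`, generated by the elements `x⁻¹ β x`, on which some `p'`-element of `D`
acts nontrivially, and whose elements have order dividing `p` (`p` odd) or `4` (`p = 2`).
-/

set_option autoImplicit false

namespace Cfsg.Agent.Lib.CoprimeMin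

open scoped commutatorElement

variable {R : Type*} [Group R] {p : ℕ} [hp : Fact p.Prime]

/-- Moving a power of `y` past `x`, when `c` with `y x = x y c` is central. -/
theorem pow_mul_of_central {x y c : R} (h : y * x = x * y * c) (hx : Commute c x) (hy : Commute c y) (n : ℕ) :
    y ^ n * x = x * y ^ n * c ^ n := by
  induction n with
  | zero => simp
  | succ n ih =>
    calc y ^ (n + 1) * x = y ^ n * (y * x) := by rw [pow_succ, mul_assoc]
      _ = y ^ n * (x * y * c) := by rw [h]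
      _ = (y ^ n * x) * y * c := by group
      _ = (x * y ^ n * c ^ n) * y * c := by rw [ih]
      _ = x * y ^ n * (c ^ n * y) * c := by group
      _ = x * y ^ n * (y * c ^ n) * c := by rw [(hy.pow_left n).eq]
      _ = x * y ^ (n + 1) * c ^ (n + 1) := by rw [pow_succ y, pow_succ c]; group

/-- The class two power formula. -/
theorem mul_pow_of_central {x y c : R} (h : y * x = x * y * c) (hx : Commute c x) (hy : Commute c y) (n : ℕ) :
    (x * y) ^ n = x ^ n * y ^ n * c ^ (n.choose 2) := by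
  induction n with
  | zero => simp
  | succ n ih =>
    have h1 := pow_mul_of_central h hx hy n
    have h2 : (n + 1).choose 2 = n + n.choose 2 := by
      rw [Nat.choose_succ_succ' n 1, Nat.choose_one_right]
    calc (x * y) ^ (n + 1) = (x * y) ^ n * (x * y) := pow_succ _ _
      _ = x ^ n * y ^ n * c ^ (n.choose 2) * (x * y) := by rw [ih]
      _ = x ^ n * y ^ n * (c ^ (n.choose 2) * x) * y := by group
      _ = x ^ n * y ^ n * (x * c ^ (n.choose 2)) * y := by rw [(hx.pow_left _).eq]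
      _ = x ^ n * (y ^ n * x) * (c ^ (n.choose 2) * y) := by group
      _ = x ^ n * (y ^ n * x) * (y * c ^ (n.choose 2)) := by rw [(hy.pow_left _).eq]
      _ = x ^ n * (x * y ^ n * c ^ n) * (y * c ^ (n.choose 2)) := by rw [h1]
      _ = x ^ n * x * y ^ n * (c ^ n * y) * c ^ (n.choose 2) := by group
      _ = x ^ n * x * y ^ n * (y * c ^ n) * c ^ (n.choose 2) := by rw [(hy.pow_left _).eq]
      _ = x ^ (n + 1) * y ^ (n + 1) * c ^ (n + n.choose 2) := by
          rw [pow_succ x, pow_succ y, pow_add c]; group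
      _ = _ := by rw [h2]

/-- The coprime-element predicate. -/
def IsCop (p : ℕ) (β : MulAut R) : Prop := ∃ m : ℕ, m.Coprime p ∧ β ^ m = 1

omit hp in
theorem IsCop.conj {β δ : MulAut R} (h : IsCop p β) : IsCop p (δ * β * δ⁻¹) := by
  obtain ⟨m, hm, hb⟩ := h
  exact ⟨m, hm, by rw [conj_pow, hb]; group⟩

omit hp in
theorem eq_one_of_pow_coprime [Finite R] (hR : IsPGroup p R) {z : R} {m : ℕ} (hm : m.Coprime p) (hz : z ^ m = 1) :
    z = 1 := by
  obtain ⟨k, hk⟩ := hR z
  have h1 : orderOf z ∣ m := orderOf_dvd_of_pow_eq_one hz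
  have h2 : orderOf z ∣ p ^ k := orderOf_dvd_of_pow_eq_one hk
  have h3 : m.Coprime (p ^ k) := Nat.Coprime.pow_right k hm
  have h4 : orderOf z = 1 := Nat.eq_one_of_dvd_coprimes h3 h1 h2
  exact orderOf_eq_one_iff.mp h4

/-- `β` fixes `x z` and `z`-style chains: if `β x = x z` and `β z = z` then `z = 1`. -/
theorem eq_of_fixes_quotient [Finite R] (hR : IsPGroup p R) {β : MulAut R} (hβ : IsCop p β) {x : R}
    (hz : β (x⁻¹ * β x) = x⁻¹ * β x) : β x = x := by
  obtain ⟨m, hm, hb⟩ := hβ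
  set z := x⁻¹ * β x with hzdef
  have h1 : β x = x * z := by rw [hzdef]; group
  have h2 : ∀ k : ℕ, (β ^ k) x = x * z ^ k := by
    intro k
    induction k with
    | zero => simp
    | succ k ih =>
      rw [pow_succ', MulAut.mul_apply, ih, map_mul, map_pow, hz, h1, pow_succ']
      group
  have h3 := h2 m
  rw [hb] at h3
  have h4 : z ^ m = 1 := by
    have : x = x * z ^ m := h3
    simpa using this.symm
  have h5 : z = 1 := eq_one_of_pow_coprime hR hm h4
  rw [h1, h5, mul_one]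

/-- The exponent predicate. -/
def SmallExp (p : ℕ) (x : R) : Prop := (p ≠ 2 → x ^ p = 1) ∧ (p = 2 → x ^ 4 = 1)

/-- The exponent used. -/
def eOf (p : ℕ) : ℕ := if p = 2 then 4 else p

omit hp in
theorem smallExp_iff {x : R} : SmallExp p x ↔ x ^ eOf p = 1 := by
  unfold SmallExp eOf
  by_cases h : p = 2
  · simp [h]
  · simp [h]

/-- **The minimal invariant subgroup.** -/
theorem exists_small_invariant [Finite R] (hR : IsPGroup p R) (D : Subgroup (MulAut R)) {β₀ : MulAut R}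
    (hβ₀ : β₀ ∈ D) (hcop : IsCop p β₀) (hne : β₀ ≠ 1) :
    ∃ W : Subgroup R, (∀ δ ∈ D, ∀ x ∈ W, δ x ∈ W) ∧
      (∃ β ∈ D, IsCop p β ∧ ∃ x ∈ W, β x ≠ x) ∧
      W = Subgroup.closure {y | ∃ β ∈ D, IsCop p β ∧ ∃ x ∈ W, y = x⁻¹ * β x} ∧
      ∀ x ∈ W, SmallExp p x := by
  classical
  have hpp : p.Prime := hp.out
  let Good : Subgroup R → Prop := fun W => (∀ δ ∈ D, ∀ x ∈ W, δ x ∈ W) ∧
      (∃ β ∈ D, IsCop p β ∧ ∃ x ∈ W, β x ≠ x)
  have htop : Good ⊤ := by
    refine ⟨fun _ _ _ _ => trivial, β₀, hβ₀, hcop, ?_⟩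
    by_contra hcon
    push Not at hcon
    apply hne
    ext x
    simpa using hcon x trivial
  obtain ⟨W, hW, hmin⟩ := (wellFounded_lt (α := Subgroup R)).has_min {W | Good W} ⟨⊤, htop⟩
  obtain ⟨hWinv, β₁, hβ₁, hβ₁cop, x₁, hx₁, hβ₁x₁⟩ := hW
  -- proper invariant subgroups are fixed
  have hfix : ∀ W' : Subgroup R, W' < W → (∀ δ ∈ D, ∀ x ∈ W', δ x ∈ W') →
      ∀ β ∈ D, IsCop p β → ∀ x ∈ W', β x = x := by
    intro W' hlt hinv β hβ hc x hx
    by_contra hcon
    exact hmin W' ⟨hinv, β, hβ, hc, x, hx, hcon⟩ hlt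
  -- generators
  set H := Subgroup.closure {y | ∃ β ∈ D, IsCop p β ∧ ∃ x ∈ W, y = x⁻¹ * β x} with hH
  have hHW : H ≤ W := by
    refine (Subgroup.closure_le _).mpr ?_
    rintro _ ⟨β, hβ, -, x, hx, rfl⟩
    exact W.mul_mem (W.inv_mem hx) (hWinv β hβ x hx)
  have hHinv : ∀ δ ∈ D, ∀ x ∈ H, δ x ∈ H := by
    intro δ hδ x hx
    have hle : H ≤ H.comap (δ : R →* R) := by
      refine (Subgroup.closure_le _).mpr ?_
      rintro _ ⟨β, hβ, hc, y, hy, rfl⟩
      refine Subgroup.subset_closure ⟨δ * β * δ⁻¹, D.mul_mem (D.mul_mem hδ hβ) (D.inv_mem hδ), hc.conj,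
        δ y, hWinv δ hδ y hy, ?_⟩
      simp
    exact hle hx
  have hHeq : H = W := by
    by_contra hcon
    have hlt : H < W := lt_of_le_of_ne hHW hcon
    apply hβ₁x₁
    apply eq_of_fixes_quotient hR hβ₁cop
    apply hfix H hlt hHinv β₁ hβ₁ hβ₁cop
    exact Subgroup.subset_closure ⟨β₁, hβ₁, hβ₁cop, x₁, hx₁, rfl⟩
  -- the Frattini-type subgroup
  set N := Subgroup.closure ({z | ∃ x ∈ W, z = x ^ p} ∪ {z | ∃ x ∈ W, ∃ y ∈ W, z = x⁻¹ * y⁻¹ * x * y}) with hN
  have hNW : N ≤ W := by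
    refine (Subgroup.closure_le _).mpr ?_
    rintro _ (⟨x, hx, rfl⟩ | ⟨x, hx, y, hy, rfl⟩)
    · exact W.pow_mem hx p
    · exact W.mul_mem (W.mul_mem (W.mul_mem (W.inv_mem hx) (W.inv_mem hy)) hx) hy
  have hNinv : ∀ δ ∈ D, ∀ x ∈ N, δ x ∈ N := by
    intro δ hδ x hx
    have hle : N ≤ N.comap (δ : R →* R) := by
      refine (Subgroup.closure_le _).mpr ?_
      rintro _ (⟨x, hx, rfl⟩ | ⟨x, hx, y, hy, rfl⟩)
      · exact Subgroup.subset_closure (Or.inl ⟨δ x, hWinv δ hδ x hx, by simp⟩)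
      · exact Subgroup.subset_closure (Or.inr ⟨δ x, hWinv δ hδ x hx, δ y, hWinv δ hδ y hy, by simp⟩)
    exact hle hx
  have hNne : N ≠ W := by
    -- `W` is a nontrivial `p`-group
    have hWne : Nontrivial W := by
      have hx1ne : x₁ ≠ 1 := by
        rintro rfl
        simp at hβ₁x₁
      exact ⟨⟨⟨x₁, hx₁⟩, 1, fun h => hx1ne (congrArg Subtype.val h)⟩⟩
    obtain ⟨M, hM⟩ : ∃ M : Subgroup W, IsCoatom M := by
      obtain h | ⟨M, hM, -⟩ := eq_top_or_exists_le_coatom (⊥ : Subgroup W)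
      · exact absurd h bot_ne_top
      · exact ⟨M, hM⟩
    have hWp : IsPGroup p W := hR.to_subgroup W
    have hmem := Cfsg.Agent.Lib.Frat.commutator_and_pow_mem_of_isCoatom hWp hM
    have hNM : N ≤ M.map W.subtype := by
      refine (Subgroup.closure_le _).mpr ?_
      rintro _ (⟨x, hx, rfl⟩ | ⟨x, hx, y, hy, rfl⟩)
      · exact ⟨⟨x, hx⟩ ^ p, hmem.2 _, by simp⟩
      · refine ⟨⁅(⟨x, hx⟩ : W)⁻¹, (⟨y, hy⟩ : W)⁻¹⁆, hmem.1 ?_, by simp [commutatorElement_def]⟩
        exact Subgroup.commutator_mem_commutator (Subgroup.mem_top _) (Subgroup.mem_top _)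
    intro hNW'
    apply hM.1
    rw [eq_top_iff]
    intro z _
    have hz : (z : R) ∈ M.map W.subtype := hNM (by rw [hNW']; exact z.2)
    obtain ⟨w, hw, hwz⟩ := hz
    have : w = z := Subtype.ext hwz
    rwa [← this]
  have hNfix := hfix N (lt_of_le_of_ne hNW hNne) hNinv
  -- `N` is central in `W`
  have hNcen : ∀ n ∈ N, ∀ w ∈ W, Commute n w := by
    intro n hn w hw
    have hle : W ≤ Subgroup.centralizer {n} := by
      rw [← hHeq]
      refine (Subgroup.closure_le _).mpr ?_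
      rintro _ ⟨β, hβ, hc, x, hx, rfl⟩
      rw [SetLike.mem_coe, Subgroup.mem_centralizer_singleton_iff]
      have hxi : x⁻¹ ∈ W := W.inv_mem hx
      have h1 : n⁻¹ * x * n * x⁻¹ ∈ N := by
        have h0 : n⁻¹ * x⁻¹⁻¹ * n * x⁻¹ ∈ N := Subgroup.subset_closure (Or.inr ⟨n, hNW hn, x⁻¹, hxi, rfl⟩)
        simpa using h0
      have h2 := hNfix β hβ hc _ h1
      have h3 := hNfix β hβ hc n hn
      simp only [map_mul, map_inv, h3] at h2
      -- `n⁻¹ (βx) n (βx)⁻¹ = n⁻¹ x n x⁻¹`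
      have h4 : (β x) * n * (β x)⁻¹ = x * n * x⁻¹ := by
        have := congrArg (fun a => n * a) h2
        simpa [mul_assoc] using this
      have h5 : (x⁻¹ * β x) * n = n * (x⁻¹ * β x) := by
        calc (x⁻¹ * β x) * n = x⁻¹ * ((β x) * n * (β x)⁻¹) * β x := by group
          _ = x⁻¹ * (x * n * x⁻¹) * β x := by rw [h4]
          _ = n * (x⁻¹ * β x) := by group
      exact h5
    have := hle hw
    rw [Subgroup.mem_centralizer_singleton_iff] at this
    exact this.symm
  -- the power formula on `W`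
  have hcmem : ∀ x ∈ W, ∀ y ∈ W, y⁻¹ * x⁻¹ * y * x ∈ N := by
    intro x hx y hy
    exact Subgroup.subset_closure (Or.inr ⟨y, hy, x, hx, rfl⟩)
  have hprod : ∀ x ∈ W, ∀ y ∈ W, (x * y) ^ eOf p = x ^ eOf p * y ^ eOf p := by
    intro x hx y hy
    set c := y⁻¹ * x⁻¹ * y * x with hc
    have hcN : c ∈ N := hcmem x hx y hy
    have hyx : y * x = x * y * c := by rw [hc]; group
    have hcx : Commute c x := hNcen c hcN x hx
    have hcy : Commute c y := hNcen c hcN y hy
    have hypN : y ^ p ∈ N := Subgroup.subset_closure (Or.inl ⟨y, hy, rfl⟩)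
    have hcp : c ^ p = 1 := by
      have h1 := pow_mul_of_central hyx hcx hcy p
      have h2 : y ^ p * x = x * y ^ p := hNcen _ hypN x hx
      rw [h2] at h1
      simpa using h1.symm
    have hform := mul_pow_of_central hyx hcx hcy (eOf p)
    rw [hform]
    have hdvd : p ∣ (eOf p).choose 2 := by
      unfold eOf
      by_cases h2 : p = 2
      · subst h2
        simp only [if_true]
        decide
      · simp only [h2, if_false]
        exact hpp.dvd_choose_self (by norm_num) (lt_of_le_of_ne hpp.two_le (Ne.symm h2))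
    obtain ⟨k, hk⟩ := hdvd
    rw [hk, pow_mul, hcp, one_pow, mul_one]
  have hpowN : ∀ x ∈ W, x ^ eOf p ∈ N := by
    intro x hx
    have h1 : x ^ p ∈ N := Subgroup.subset_closure (Or.inl ⟨x, hx, rfl⟩)
    unfold eOf
    by_cases h2 : p = 2
    · subst h2
      simp only [if_true]
      have : x ^ 4 = (x ^ 2) ^ 2 := by rw [← pow_mul]
      rw [this]
      exact N.pow_mem h1 2
    · simp only [h2, if_false]
      exact h1
  -- all of `W` has small exponent
  have hsmall : ∀ w ∈ W, w ^ eOf p = 1 := by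
    let K : Subgroup R :=
      { carrier := {w | w ∈ W ∧ w ^ eOf p = 1}
        mul_mem' := by
          rintro a b ⟨ha, ha'⟩ ⟨hb, hb'⟩
          exact ⟨W.mul_mem ha hb, by rw [hprod a ha b hb, ha', hb', one_mul]⟩
        one_mem' := ⟨W.one_mem, one_pow _⟩
        inv_mem' := by
          rintro a ⟨ha, ha'⟩
          exact ⟨W.inv_mem ha, by rw [inv_pow, ha', inv_one]⟩ }
    have hWK : W ≤ K := by
      rw [← hHeq]
      refine (Subgroup.closure_le _).mpr ?_
      rintro _ ⟨β, hβ, hc, x, hx, rfl⟩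
      refine ⟨W.mul_mem (W.inv_mem hx) (hWinv β hβ x hx), ?_⟩
      rw [hprod _ (W.inv_mem hx) _ (hWinv β hβ x hx), inv_pow, ← map_pow, hNfix β hβ hc _ (hpowN x hx)]
      group
    intro w hw
    exact (hWK hw).2
  exact ⟨W, hWinv, ⟨β₁, hβ₁, hβ₁cop, x₁, hx₁, hβ₁x₁⟩, hHeq.symm, fun x hx => smallExp_iff.mpr (hsmall x hx)⟩

end Cfsg.Agent.Lib.CoprimeMin
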