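import Mathlib
import Cfsg.Agent.Lib.CoprimeMin
import Cfsg.Agent.Lib.CoprimeAut

/-! Coprime automorphism groups of `p`-groups of class two, with few generators: a "determinant"
argument shows `[R, D] = R` forces `R` abelian. -/

set_option autoImplicit false

namespace Cfsg.Agent.Lib.Class2Det

open Subgroup
open scoped commutatorElement

variable {R : Type*} [Group R]

section class2

variable (hcl : ∀ x y : R, ⁅x, y⁆ ∈ center R)
include hcl

theorem comm_mul_left (x y z : R) : ⁅x * y, z⁆ = ⁅x, z⁆ * ⁅y, z⁆ := by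
  have h1 : ∀ g : R, g * ⁅y, z⁆ = ⁅y, z⁆ * g := mem_center_iff.mp (hcl y z)
  have e2 : ⁅x * y, z⁆ = x * ⁅y, z⁆ * x⁻¹ * ⁅x, z⁆ := by
    simp only [commutatorElement_def]; group
  rw [e2, h1 x, mul_inv_cancel_right]
  exact (mem_center_iff.mp (hcl y z) _).symm

theorem comm_mul_right (x y z : R) : ⁅x, y * z⁆ = ⁅x, y⁆ * ⁅x, z⁆ := by
  have h1 : ∀ g : R, g * ⁅x, z⁆ = ⁅x, z⁆ * g := mem_center_iff.mp (hcl x z)
  have e2 : ⁅x, y * z⁆ = ⁅x, y⁆ * (y * ⁅x, z⁆ * y⁻¹) := by
    simp only [commutatorElement_def]; group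
  rw [e2, h1 y, mul_inv_cancel_right]

theorem comm_pow_left (x y : R) (n : ℕ) : ⁅x ^ n, y⁆ = ⁅x, y⁆ ^ n := by
  induction n with
  | zero => simp [commutatorElement_one_left]
  | succ n ih => rw [pow_succ, comm_mul_left hcl, ih, pow_succ]

theorem comm_pow_right (x y : R) (n : ℕ) : ⁅x, y ^ n⁆ = ⁅x, y⁆ ^ n := by
  induction n with
  | zero => simp [commutatorElement_one_right]
  | succ n ih => rw [pow_succ, comm_mul_right hcl, ih, pow_succ]

omit hcl in
theorem comm_central_left {z : R} (hz : z ∈ center R) (y : R) : ⁅z, y⁆ = 1 := by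
  rw [commutatorElement_eq_one_iff_mul_comm]
  exact (mem_center_iff.mp hz y).symm

omit hcl in
theorem comm_central_right (x : R) {z : R} (hz : z ∈ center R) : ⁅x, z⁆ = 1 := by
  rw [commutatorElement_eq_one_iff_mul_comm]
  exact mem_center_iff.mp hz x

/-- The triangular form. -/
theorem comm_triangular (e f : R) {z₁ z₂ : R} (hz₁ : z₁ ∈ center R) (hz₂ : z₂ ∈ center R) (a b c : ℕ) :
    ⁅e ^ a * z₁, f ^ b * (e ^ c * z₂)⁆ = ⁅e, f⁆ ^ (a * b) := by
  rw [comm_mul_left hcl, comm_central_left hz₁, mul_one, comm_mul_right hcl, comm_mul_right hcl,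
    comm_central_right _ hz₂, mul_one, comm_pow_left hcl, comm_pow_right hcl, comm_pow_left hcl,
    comm_pow_right hcl, commutatorElement_self, one_pow, one_pow, mul_one, ← pow_mul, mul_comm]

end class2

section power

variable {p : ℕ} [hp : Fact p.Prime]

theorem mul_pow_prime (hp2 : p ≠ 2) (hcl : ∀ x y : R, ⁅x, y⁆ ∈ center R) (hexp : ∀ x y : R, ⁅x, y⁆ ^ p = 1)
    (x y : R) : (x * y) ^ p = x ^ p * y ^ p := by
  have hpp := hp.out
  set c := ⁅y⁻¹, x⁻¹⁆ with hc
  have h1 : y * x = x * y * c := by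
    rw [hc, commutatorElement_def]; group
  have hcc : c ∈ center R := hcl _ _
  have hx : Commute c x := (mem_center_iff.mp hcc x).symm
  have hy : Commute c y := (mem_center_iff.mp hcc y).symm
  have h2 := Cfsg.Agent.Lib.CoprimeMin.mul_pow_of_central h1 hx hy p
  rw [h2]
  have h3 : p ∣ p.choose 2 := hpp.dvd_choose_self (by norm_num) (by
    have := hpp.two_le
    omega)
  obtain ⟨t, ht⟩ := h3
  rw [ht, pow_mul, hexp, one_pow, mul_one]

theorem mul_pow_prime_pow (hpow : ∀ x y : R, (x * y) ^ p = x ^ p * y ^ p) (x y : R) (k : ℕ) :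
    (x * y) ^ p ^ k = x ^ p ^ k * y ^ p ^ k := by
  induction k with
  | zero => simp
  | succ k ih => rw [pow_succ, pow_mul, ih, hpow, pow_mul, pow_mul]

/-- The power map, as a homomorphism. -/
def powHom (hpow : ∀ x y : R, (x * y) ^ p = x ^ p * y ^ p) (k : ℕ) : R →* R :=
  MonoidHom.mk' (fun x => x ^ p ^ k) (fun x y => mul_pow_prime_pow hpow x y k)

@[simp] theorem powHom_apply (hpow : ∀ x y : R, (x * y) ^ p = x ^ p * y ^ p) (k : ℕ) (x : R) :
    powHom hpow k x = x ^ p ^ k := rfl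

end power

section index

variable [Finite R] {p : ℕ} [hp : Fact p.Prime]

omit hp in
theorem index_of_between [Fact p.Prime] {P L : Subgroup R} (hPL : P ≤ L) (hne : P ≠ L) (htop : L ≠ ⊤) (hidx : P.index = p ^ 2) :
    L.index = p := by
  have hpp : p.Prime := Fact.out
  have h1 := Subgroup.relIndex_mul_index hPL
  rw [hidx] at h1
  have h2 : L.index ∣ p ^ 2 := ⟨_, by rw [← h1, mul_comm]⟩
  obtain ⟨a, ha, hL⟩ := (Nat.dvd_prime_pow hpp).mp h2
  interval_cases a
  · exfalso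
    rw [pow_zero] at hL
    exact htop (Subgroup.index_eq_one.mp hL)
  · rwa [pow_one] at hL
  · exfalso
    rw [hL] at h1
    have h3 : P.relIndex L = 1 := by
      have hpos : 0 < p ^ 2 := pow_pos hpp.pos 2
      exact Nat.eq_of_mul_eq_mul_right hpos (by rw [h1, one_mul])
    exact hne (le_antisymm hPL (Subgroup.relIndex_eq_one.mp h3))

omit hp in
theorem eq_top_of_index_prime [Fact p.Prime] {L L₂ : Subgroup R} (hidx : L.index = p) (h : L ≤ L₂) (hne : L ≠ L₂) : L₂ = ⊤ := by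
  have hpp : p.Prime := Fact.out
  have h1 := Subgroup.relIndex_mul_index h
  rw [hidx] at h1
  have h2 : L₂.index ∣ p := ⟨_, by rw [← h1, mul_comm]⟩
  rcases (Nat.dvd_prime hpp).mp h2 with h3 | h3
  · exact Subgroup.index_eq_one.mp h3
  · exfalso
    rw [h3] at h1
    have h4 : L.relIndex L₂ = 1 :=
      Nat.eq_of_mul_eq_mul_right hpp.pos (by rw [h1, one_mul])
    exact hne (le_antisymm h (Subgroup.relIndex_eq_one.mp h4))

theorem exists_nat_of_mem_zpowers {x y : R} (h : x ∈ zpowers y) : ∃ n : ℕ, y ^ n = x := by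
  have h1 := (mem_powers_iff_mem_zpowers (x := y) (y := x)).mpr h
  exact (Submonoid.mem_powers_iff x y).mp h1

omit hp in
/-- Fact B. -/
theorem exists_pow_mul_of_mem [Fact p.Prime] {P L : Subgroup R} [P.Normal] (hPL : P ≤ L) (hne : P ≠ L) (htop : L ≠ ⊤)
    (hidx : P.index = p ^ 2) {u : R} (hu : u ∈ L) (huP : u ∉ P) {l : R} (hl : l ∈ L) :
    ∃ i : ℕ, ∃ z ∈ P, l = u ^ i * z := by
  let L' := zpowers u ⊔ P
  have hL'L : L' ≤ L := sup_le (zpowers_le.mpr hu) hPL
  have hPL' : P ≤ L' := le_sup_right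
  have hneq : P ≠ L' := by
    intro h
    apply huP
    rw [h]
    exact Subgroup.mem_sup_left (mem_zpowers u)
  have htop' : L' ≠ ⊤ := fun h => htop (top_le_iff.mp (h ▸ hL'L))
  have h1 := index_of_between hPL' hneq htop' hidx
  have h2 := index_of_between hPL hne htop hidx
  have h3 := Subgroup.relIndex_mul_index hL'L
  rw [h1, h2] at h3
  have hpp : p.Prime := Fact.out
  have h4 : L'.relIndex L = 1 := Nat.eq_of_mul_eq_mul_right hpp.pos (by rw [h3, one_mul])
  have h5 := Subgroup.relIndex_eq_one.mp h4 hl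
  obtain ⟨y, hy, z, hz, e⟩ := mem_sup_of_normal_right.mp h5
  obtain ⟨i, rfl⟩ := exists_nat_of_mem_zpowers hy
  exact ⟨i, z, hz, e.symm⟩

omit hp in
/-- Fact C. -/
theorem exists_pow_mul_of_not_mem [Fact p.Prime] {L : Subgroup R} [L.Normal] (hidx : L.index = p) {w : R} (hw : w ∉ L) (x : R) :
    ∃ k : ℕ, ∃ l ∈ L, x = w ^ k * l := by
  have h1 : zpowers w ⊔ L = ⊤ := by
    apply eq_top_of_index_prime hidx le_sup_right
    intro h
    apply hw
    rw [h]
    exact Subgroup.mem_sup_left (mem_zpowers w)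
  have h2 : x ∈ zpowers w ⊔ L := by rw [h1]; trivial
  obtain ⟨y, hy, z, hz, e⟩ := mem_sup_of_normal_right.mp h2
  obtain ⟨i, rfl⟩ := exists_nat_of_mem_zpowers hy
  exact ⟨i, z, hz, e.symm⟩

end index

section main

variable [Finite R] {p : ℕ} [hp : Fact p.Prime]

theorem natCast_one_form {μ : ℕ} (h : (μ : ZMod p) = 1) : ∃ q : ℕ, μ = p * q + 1 := by
  have hpp := hp.out
  have h1 : μ % p = 1 % p := (ZMod.natCast_eq_natCast_iff' μ 1 p).mp (by simpa using h)
  rw [Nat.mod_eq_of_lt hpp.one_lt] at h1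
  exact ⟨μ / p, by rw [← h1]; exact (Nat.div_add_mod μ p).symm⟩

theorem pow_eq_mul_of_cast {x : R} {μ : ℕ} (h : (μ : ZMod p) = 1) : ∃ q : ℕ, x ^ μ = x * (x ^ q) ^ p := by
  obtain ⟨q, rfl⟩ := natCast_one_form h
  exact ⟨q, by rw [pow_succ', pow_mul, ← pow_mul, ← pow_mul, mul_comm q p]⟩

/-- **Main theorem**: A group of class two with derived group of exponent `p`, whose `p`-th powers
have index at most `p²` and with a coprime automorphism group `D` such that `[R, D] = R` is abelian. -/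
theorem comm_of_det (hR : IsPGroup p R) (D : Subgroup (MulAut R)) (hD : (Nat.card D).Coprime p)
    (hRD : closure {x : R | ∃ g : R, ∃ a ∈ D, x = g⁻¹ * a g} = ⊤)
    (hcl : ∀ x y : R, ⁅x, y⁆ ∈ center R) (hexp : ∀ x y : R, ⁅x, y⁆ ^ p = 1)
    (hpow : ∀ x y : R, (x * y) ^ p = x ^ p * y ^ p)
    (hidx : (powHom hpow 1).range.index ≤ p ^ 2) : ∀ x y : R, x * y = y * x := by
  classical
  have hpp := hp.out
  by_contra hna
  push Not at hna
  obtain ⟨u₀, w₀, h0⟩ := hna
  let π := powHom hpow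
  let P := (π 1).range
  have hmemP : ∀ x : R, x ^ p ∈ P := fun x => ⟨x, by simp [π]⟩
  have hPc : P ≤ center R := by
    rintro _ ⟨x, rfl⟩
    rw [mem_center_iff]
    intro g
    have h1 : ⁅x ^ p, g⁆ = 1 := by rw [comm_pow_left hcl, hexp]
    rw [commutatorElement_eq_one_iff_mul_comm] at h1
    simp only [π, powHom_apply, pow_one]
    exact h1.symm
  have hPn : P.Normal := by
    refine ⟨fun n hn g => ?_⟩
    have h1 : g * n = n * g := mem_center_iff.mp (hPc hn) g
    rw [h1, mul_inv_cancel_right]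
    exact hn
  -- the index is `p²`
  have hquot : IsPGroup p (R ⧸ P) := hR.to_quotient P
  obtain ⟨n, hn⟩ := IsPGroup.iff_card.mp hquot
  have hn2 : n ≤ 2 := by
    have h1 : p ^ n ≤ p ^ 2 := by
      rw [← hn]
      exact hidx
    exact (Nat.pow_le_pow_iff_right hpp.one_lt).mp h1
  have hn3 : n = 2 := by
    by_contra hne
    have hn4 : n = 0 ∨ n = 1 := by omega
    have hcyc : IsCyclic (R ⧸ P) := by
      rcases hn4 with rfl | rfl
      · rw [pow_zero] at hn
        have : Subsingleton (R ⧸ P) := (Nat.card_eq_one_iff_unique.mp hn).1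
        exact isCyclic_of_subsingleton
      · rw [pow_one] at hn
        exact isCyclic_of_prime_card hn
    have h1 := commutative_of_cyclic_center_quotient (QuotientGroup.mk' P)
      (by rw [QuotientGroup.ker_mk']; exact hPc) u₀ w₀
    exact h0 h1
  have hP2 : P.index = p ^ 2 := by
    rw [Subgroup.index, hn, hn3]
  have hcomm : ∀ x y : R, ⁅x, y⁆ ∈ P := by
    intro x y
    have h1 := IsPGroup.commutative_of_card_eq_prime_sq (p := p) (G := R ⧸ P) (by rw [hn, hn3])
    rw [← QuotientGroup.eq_one_iff, commutatorElement_def]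
    simp only [QuotientGroup.mk_mul, QuotientGroup.mk_inv]
    rw [h1 (x : R ⧸ P) y]
    group
  have hLn : ∀ L : Subgroup R, P ≤ L → L.Normal := by
    intro L hL
    refine ⟨fun n hn g => ?_⟩
    have e : g * n * g⁻¹ = ⁅g, n⁆ * n := by
      rw [commutatorElement_def]
      group
    rw [e]
    exact mul_mem (hL (hcomm g n)) hn
  -- two independent elements do not commute
  have hgen : ∀ (e f : R) (L : Subgroup R), P ≤ L → P ≠ L → L ≠ ⊤ → e ∈ L → e ∉ P → f ∉ L → ⁅e, f⁆ ≠ 1 := by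
    intro e f L hPL hne htop he heP hf hef
    have hfe : ⁅f, e⁆ = 1 := by
      rw [← commutatorElement_inv, hef, inv_one]
    have hLi := index_of_between hPL hne htop hP2
    have hLnn := hLn L hPL
    have hdec : ∀ x : R, ∃ k i : ℕ, ∃ z ∈ P, x = f ^ k * (e ^ i * z) := by
      intro x
      obtain ⟨k, l, hl, rfl⟩ := exists_pow_mul_of_not_mem hLi hf x
      obtain ⟨i, z, hz, rfl⟩ := exists_pow_mul_of_mem hPL hne htop hP2 he heP hl
      exact ⟨k, i, z, hz, rfl⟩
    apply h0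
    obtain ⟨k, i, z, hz, e1⟩ := hdec u₀
    obtain ⟨k', i', z', hz', e2⟩ := hdec w₀
    rw [← commutatorElement_eq_one_iff_mul_comm, e1, e2]
    rw [comm_mul_left hcl, comm_mul_left hcl, comm_mul_right hcl, comm_mul_right hcl,
      comm_mul_right hcl, comm_mul_right hcl, comm_central_left (hPc hz), comm_central_right _ (hPc hz'),
      comm_central_right _ (hPc hz')]
    simp only [comm_pow_left hcl, comm_pow_right hcl, commutatorElement_self, hef, hfe, one_pow, mul_one]
  -- the commutator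
  set c₀ := ⁅u₀, w₀⁆ with hc₀
  have hc₀1 : c₀ ≠ 1 := by
    intro h
    exact h0 (commutatorElement_eq_one_iff_mul_comm.mp h)
  -- all commutators are powers of `c₀`
  have hcz : ∀ x y : R, ⁅x, y⁆ ∈ zpowers c₀ := by
    have hu₀P : u₀ ∉ P := by
      intro h
      exact hc₀1 (comm_central_left (hPc h) _)
    let L₀ := zpowers u₀ ⊔ P
    have hPL₀ : P ≤ L₀ := le_sup_right
    have hw₀ : w₀ ∉ L₀ := by
      intro h
      obtain ⟨y, hy, z, hz, e⟩ := mem_sup_of_normal_right.mp h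
      obtain ⟨i, rfl⟩ := exists_nat_of_mem_zpowers hy
      apply hc₀1
      rw [hc₀, ← e, comm_mul_right hcl, comm_central_right _ (hPc hz), comm_pow_right hcl,
        commutatorElement_self, one_pow, mul_one]
    have hneP : P ≠ L₀ := by
      intro h
      apply hu₀P
      rw [h]
      exact Subgroup.mem_sup_left (mem_zpowers u₀)
    have htopL : L₀ ≠ ⊤ := by
      intro h
      apply hw₀
      rw [h]
      trivial
    have hLi := index_of_between hPL₀ hneP htopL hP2
    have hLnn := hLn L₀ hPL₀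
    have hu₀L : u₀ ∈ L₀ := Subgroup.mem_sup_left (mem_zpowers u₀)
    have hdec : ∀ x : R, ∃ k i : ℕ, ∃ z ∈ P, x = w₀ ^ k * (u₀ ^ i * z) := by
      intro x
      obtain ⟨k, l, hl, rfl⟩ := exists_pow_mul_of_not_mem hLi hw₀ x
      obtain ⟨i, z, hz, rfl⟩ := exists_pow_mul_of_mem hPL₀ hneP htopL hP2 hu₀L hu₀P hl
      exact ⟨k, i, z, hz, rfl⟩
    have hc₀' : ⁅w₀, u₀⁆ = c₀⁻¹ := by rw [hc₀, commutatorElement_inv]
    intro x y
    obtain ⟨k, i, z, hz, rfl⟩ := hdec x
    obtain ⟨k', i', z', hz', rfl⟩ := hdec y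
    rw [comm_mul_left hcl, comm_mul_left hcl, comm_mul_right hcl, comm_mul_right hcl,
      comm_mul_right hcl, comm_mul_right hcl, comm_central_left (hPc hz), comm_central_right _ (hPc hz'),
      comm_central_right _ (hPc hz')]
    simp only [comm_pow_left hcl, comm_pow_right hcl, commutatorElement_self, one_pow, mul_one, one_mul]
    have h1 : ⁅w₀, u₀⁆ ∈ zpowers c₀ := by
      rw [hc₀']
      exact inv_mem (mem_zpowers c₀)
    exact mul_mem (pow_mem (pow_mem h1 _) _) (pow_mem (pow_mem (mem_zpowers c₀) _) _)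
  -- automorphisms act on commutators by powers
  have hχ : ∀ α : MulAut R, ∃ χ : ℕ, α c₀ = c₀ ^ χ := by
    intro α
    have h1 : α c₀ = ⁅α u₀, α w₀⁆ := map_commutatorElement α u₀ w₀
    obtain ⟨χ, hχ⟩ := exists_nat_of_mem_zpowers (hcz (α u₀) (α w₀))
    exact ⟨χ, by rw [h1, hχ]⟩
  have hαc : ∀ (α : MulAut R) (χ : ℕ), α c₀ = c₀ ^ χ → ∀ x y : R, α ⁅x, y⁆ = ⁅x, y⁆ ^ χ := by
    intro α χ hχ x y
    obtain ⟨s, hs⟩ := exists_nat_of_mem_zpowers (hcz x y)
    rw [← hs, map_pow, hχ, ← pow_mul, ← pow_mul, mul_comm]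
  have horder : ∀ x y : R, ⁅x, y⁆ ≠ 1 → orderOf ⁅x, y⁆ = p := fun x y h => orderOf_eq_prime (hexp x y) h
  have hχ0 : ∀ (α : MulAut R) (χ : ℕ), α c₀ = c₀ ^ χ → (χ : ZMod p) ≠ 0 := by
    intro α χ hχ h
    rw [ZMod.natCast_eq_zero_iff] at h
    obtain ⟨t, rfl⟩ := h
    have h1 : α c₀ = 1 := by rw [hχ, pow_mul, hc₀, hexp, one_pow]
    exact hc₀1 ((map_eq_one_iff α α.injective).mp h1)
  -- the maximal `j`
  obtain ⟨m, hm⟩ := hR.exists_card_eq
  have hex : ∃ n, c₀ ∉ (π n).range := by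
    refine ⟨m, ?_⟩
    rintro ⟨x, hx⟩
    apply hc₀1
    rw [← hx]
    simp only [π, powHom_apply]
    rw [← hm]
    exact pow_card_eq_one'
  let n₀ := Nat.find hex
  have hn₀ : c₀ ∉ (π n₀).range := Nat.find_spec hex
  have hn₀0 : n₀ ≠ 0 := by
    intro h
    rw [h] at hn₀
    exact hn₀ ⟨c₀, by simp [π]⟩
  obtain ⟨j, hj⟩ : ∃ j, n₀ = j + 1 := ⟨n₀ - 1, by omega⟩
  have hcj : c₀ ∈ (π j).range := by
    by_contra h
    have := Nat.find_min' hex h
    omega
  have hj1 : j ≠ 0 := by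
    intro h
    rw [hj, h] at hn₀
    exact hn₀ (hcomm _ _)
  obtain ⟨u, hu⟩ := hcj
  have hu' : u ^ p ^ j = c₀ := hu
  rw [hj] at hn₀
  let T := (π (j + 1)).range
  have hTP : T ≤ P := by
    rintro _ ⟨x, rfl⟩
    refine ⟨x ^ p ^ j, ?_⟩
    simp only [π, powHom_apply, pow_one]
    rw [pow_succ, pow_mul]
  have hTn : T.Normal := by
    refine ⟨fun n hn g => ?_⟩
    have h1 : g * n = n * g := mem_center_iff.mp (hPc (hTP hn)) g
    rw [h1, mul_inv_cancel_right]
    exact hn
  have hπP : ∀ z ∈ P, z ^ p ^ j ∈ T := by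
    rintro _ ⟨v, rfl⟩
    refine ⟨v, ?_⟩
    simp only [π, powHom_apply, pow_one]
    rw [pow_succ', pow_mul]
  have huP : u ∉ P := by
    intro h
    apply hn₀
    rw [← hu']
    exact hπP u h
  have hαT : ∀ (α : MulAut R), ∀ t ∈ T, α t ∈ T := by
    rintro α _ ⟨v, rfl⟩
    refine ⟨α v, ?_⟩
    simp only [π, powHom_apply, map_pow]
  have hαP : ∀ (α : MulAut R), ∀ z ∈ P, α z ∈ P := by
    rintro α _ ⟨v, rfl⟩
    refine ⟨α v, ?_⟩
    simp only [π, powHom_apply, map_pow]
  have horderc₀ : orderOf c₀ = p := horder _ _ hc₀1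
  have hπα : ∀ (α : MulAut R) (x : R), π j (α x) = α (π j x) := by
    intro α x
    simp only [π, powHom_apply, map_pow]
  have hπu : π j u = c₀ := hu
  -- the subgroup `Q`
  let Y := zpowers c₀ ⊔ T
  let Q := Y.comap (π j)
  have hPQ : P ≤ Q := by
    intro z hz
    exact Subgroup.mem_sup_right (hπP z hz)
  have hαY : ∀ α : MulAut R, ∀ y ∈ Y, α y ∈ Y := by
    intro α y hy
    obtain ⟨a, ha, t, ht, rfl⟩ := mem_sup_of_normal_right.mp hy
    obtain ⟨s, rfl⟩ := exists_nat_of_mem_zpowers ha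
    obtain ⟨χ, hχ'⟩ := hχ α
    rw [map_mul, map_pow, hχ']
    exact mul_mem (Subgroup.mem_sup_left (pow_mem (pow_mem (mem_zpowers c₀) _) _))
      (Subgroup.mem_sup_right (hαT α t ht))
  by_cases hQ : Q = ⊤
  · -- Case 2
    have hQt : ∀ x, π j x ∈ Y := fun x => by
      have h : x ∈ Q := hQ ▸ mem_top x
      exact h
    let K₁ := T.comap (π j)
    have hPK : P ≤ K₁ := fun z hz => hπP z hz
    have huK : u ∉ K₁ := by
      intro h
      apply hn₀
      have h2 : π j u ∈ T := h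
      rwa [hπu] at h2
    have hKt : K₁ ≠ ⊤ := fun h => huK (h ▸ mem_top u)
    have hdec : ∀ x, ∃ s : ℕ, (u ^ s)⁻¹ * x ∈ K₁ := by
      intro x
      obtain ⟨y, hy, t, ht, e⟩ := mem_sup_of_normal_right.mp (hQt x)
      obtain ⟨s, rfl⟩ := exists_nat_of_mem_zpowers hy
      refine ⟨s, ?_⟩
      show π j ((u ^ s)⁻¹ * x) ∈ T
      rw [map_mul, map_inv, map_pow, ← e, hπu, inv_mul_cancel_left]
      exact ht
    have hneK : P ≠ K₁ := by
      intro h
      apply h0
      have hd2 : ∀ x, ∃ s : ℕ, ∃ z ∈ P, x = u ^ s * z := fun x => by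
        obtain ⟨s, hs⟩ := hdec x
        exact ⟨s, (u ^ s)⁻¹ * x, h ▸ hs, by group⟩
      obtain ⟨s, z, hz, e1⟩ := hd2 u₀
      obtain ⟨s', z', hz', e2⟩ := hd2 w₀
      rw [← commutatorElement_eq_one_iff_mul_comm, e1, e2, comm_mul_left hcl, comm_mul_right hcl,
        comm_mul_right hcl, comm_central_left (hPc hz), comm_central_right _ (hPc hz')]
      simp only [comm_pow_left hcl, comm_pow_right hcl, commutatorElement_self, one_pow, mul_one, one_mul]
      exact comm_central_left (hPc hz) _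
    have hKi := index_of_between hPK hneK hKt hP2
    have hKn := hLn K₁ hPK
    obtain ⟨k, hkK, hkP⟩ : ∃ k ∈ K₁, k ∉ P := by
      by_contra h
      push Not at h
      exact hneK (le_antisymm hPK h)
    have hcku := hgen k u K₁ hPK hneK hKt hkK hkP huK
    have hαK : ∀ (α : MulAut R), ∀ x ∈ K₁, α x ∈ K₁ := by
      intro α x hx
      show π j (α x) ∈ T
      rw [hπα]
      exact hαT α _ hx
    have key : ∀ α : MulAut R, k⁻¹ * α k ∈ P := by
      intro α
      obtain ⟨χ, hχ'⟩ := hχ α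
      have hχ₀ := hχ0 α χ hχ'
      obtain ⟨l', z₁, hz₁, e₁⟩ := exists_pow_mul_of_mem hPK hneK hKt hP2 hkK hkP (hαK α k hkK)
      have hl : (u ^ χ)⁻¹ * α u ∈ K₁ := by
        show π j ((u ^ χ)⁻¹ * α u) ∈ T
        rw [map_mul, map_inv, map_pow, hπα, hπu, hχ', inv_mul_cancel]
        exact one_mem _
      obtain ⟨ν, z₂, hz₂, e₃⟩ := exists_pow_mul_of_mem hPK hneK hKt hP2 hkK hkP hl
      have e₂ : α u = u ^ χ * (k ^ ν * z₂) := by
        rw [← e₃]
        group
      have r2 : ⁅k, u⁆ ^ χ = ⁅k, u⁆ ^ (l' * χ) := by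
        rw [← hαc α χ hχ' k u, map_commutatorElement, e₁, e₂]
        exact comm_triangular hcl k u (hPc hz₁) (hPc hz₂) _ _ _
      rw [pow_eq_pow_iff_modEq, horder _ _ hcku, ← ZMod.natCast_eq_natCast_iff] at r2
      push_cast at r2
      have hl1 : (l' : ZMod p) = 1 := by
        have h3 : (l' : ZMod p) * χ = 1 * χ := by rw [one_mul]; exact r2.symm
        exact mul_right_cancel₀ hχ₀ h3
      obtain ⟨q, hq⟩ := pow_eq_mul_of_cast (x := k) hl1
      rw [e₁, hq]
      have e5 : k⁻¹ * (k * (k ^ q) ^ p * z₁) = (k ^ q) ^ p * z₁ := by group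
      rw [e5]
      exact mul_mem (hmemP _) hz₁
    have h1 : ∀ h ∈ K₁, ∀ a ∈ D, h * (a h)⁻¹ ∈ P := by
      intro h hh a _
      obtain ⟨i, z, hz, rfl⟩ := exists_pow_mul_of_mem hPK hneK hKt hP2 hkK hkP hh
      have h2 : ((k : R) : R ⧸ P) = ((a k : R) : R ⧸ P) := QuotientGroup.eq.mpr (key a)
      have h3 : ((z : R) : R ⧸ P) = 1 := (QuotientGroup.eq_one_iff z).mpr hz
      have h4 : ((a z : R) : R ⧸ P) = 1 := (QuotientGroup.eq_one_iff _).mpr (hαP a z hz)
      rw [← QuotientGroup.eq_one_iff, map_mul, map_pow]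
      simp only [QuotientGroup.mk_mul, QuotientGroup.mk_pow, QuotientGroup.mk_inv, h3, h4, ← h2, mul_one]
      group
    have h2 : ∀ h ∈ K₁, (∀ a ∈ D, a h = h) → h ∈ P := by
      intro h _ hfix
      have h3 := Cfsg.Agent.Lib.CoprimeAut.fixed_mem_commutator hR D hD hRD h hfix
      have hle : commutator R ≤ P := by
        rw [_root_.commutator_def, Subgroup.commutator_le]
        intro x _ y _
        exact hcomm x y
      exact hle h3
    have h3 := Cfsg.Agent.Lib.CoprimeAut.le_of_commutators_and_fixed hR D hD K₁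
      (fun a _ h hh => hαK a h hh) P h1 h2
    exact hneK (le_antisymm hPK h3)
  · -- Case 1
    obtain ⟨w, hw⟩ : ∃ w, w ∉ Q := by
      by_contra h
      push Not at h
      exact hQ (eq_top_iff.mpr fun x _ => h x)
    have huQ : u ∈ Q := by
      show π j u ∈ Y
      rw [hπu]
      exact Subgroup.mem_sup_left (mem_zpowers c₀)
    have hneQ : P ≠ Q := fun h => huP (h ▸ huQ)
    have hQi := index_of_between hPQ hneQ hQ hP2
    have hQn := hLn Q hPQ
    have hαQ : ∀ (α : MulAut R), ∀ x ∈ Q, α x ∈ Q := by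
      intro α x hx
      show π j (α x) ∈ Y
      rw [hπα]
      exact hαY α _ hx
    have hcuw := hgen u w Q hPQ hneQ hQ huQ huP hw
    have key : ∀ α : MulAut R, w⁻¹ * α w ∈ Q := by
      intro α
      obtain ⟨χ, hχ'⟩ := hχ α
      have hχ₀ := hχ0 α χ hχ'
      obtain ⟨l', z₁, hz₁, e₁⟩ := exists_pow_mul_of_mem hPQ hneQ hQ hP2 huQ huP (hαQ α u huQ)
      obtain ⟨μ, l, hl, e₂⟩ := exists_pow_mul_of_not_mem hQi hw (α w)
      obtain ⟨ν, z₂, hz₂, e₃⟩ := exists_pow_mul_of_mem hPQ hneQ hQ hP2 huQ huP hl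
      have r1 : (χ : ZMod p) = l' := by
        have h1 : c₀ ^ χ = c₀ ^ l' * z₁ ^ p ^ j := by
          have h2 : α c₀ = (α u) ^ p ^ j := by rw [← hu', map_pow]
          rw [← hχ', h2, e₁, mul_pow_prime_pow hpow, ← pow_mul, ← hu', ← pow_mul, mul_comm]
        set t := z₁ ^ p ^ j with ht
        have htT : t ∈ T := hπP z₁ hz₁
        have htz : t ∈ zpowers c₀ := by
          have h3 : t = (c₀ ^ l')⁻¹ * c₀ ^ χ := by rw [h1]; group
          rw [h3]
          exact mul_mem (inv_mem (pow_mem (mem_zpowers c₀) _)) (pow_mem (mem_zpowers c₀) _)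
        obtain ⟨e, he⟩ := exists_nat_of_mem_zpowers htz
        have he0 : p ∣ e := by
          by_contra hnd
          have hco : e.Coprime (orderOf c₀) := by
            rw [horderc₀]
            exact ((Nat.Prime.coprime_iff_not_dvd hpp).mpr hnd).symm
          obtain ⟨m', hm'⟩ := exists_pow_eq_self_of_coprime hco
          apply hn₀
          rw [← hm', he]
          exact pow_mem htT _
        have ht1 : t = 1 := by
          obtain ⟨f, rfl⟩ := he0
          rw [← he, pow_mul, hc₀, hexp, one_pow]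
        rw [ht1, mul_one, pow_eq_pow_iff_modEq, horderc₀, ← ZMod.natCast_eq_natCast_iff] at h1
        exact h1
      have r2 : ⁅u, w⁆ ^ χ = ⁅u, w⁆ ^ (l' * μ) := by
        rw [← hαc α χ hχ' u w, map_commutatorElement, e₁, e₂, e₃]
        exact comm_triangular hcl u w (hPc hz₁) (hPc hz₂) _ _ _
      rw [pow_eq_pow_iff_modEq, horder _ _ hcuw, ← ZMod.natCast_eq_natCast_iff] at r2
      push_cast at r2
      have hμ : (μ : ZMod p) = 1 := by
        rw [r1] at hχ₀ r2
        have h3 : (l' : ZMod p) * μ = l' * 1 := by rw [mul_one]; exact r2.symm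
        exact mul_left_cancel₀ hχ₀ h3
      obtain ⟨q, hq⟩ := pow_eq_mul_of_cast (x := w) hμ
      rw [e₂, hq]
      have e5 : w⁻¹ * (w * (w ^ q) ^ p * l) = (w ^ q) ^ p * l := by group
      rw [e5]
      exact mul_mem (hPQ (hmemP _)) hl
    have hall : ∀ (α : MulAut R) (x : R), x⁻¹ * α x ∈ Q := by
      intro α x
      obtain ⟨k, l₀, hl₀, rfl⟩ := exists_pow_mul_of_not_mem hQi hw x
      have h2 : ((w : R) : R ⧸ Q) = ((α w : R) : R ⧸ Q) := QuotientGroup.eq.mpr (key α)
      have h3 : ((l₀ : R) : R ⧸ Q) = 1 := (QuotientGroup.eq_one_iff l₀).mpr hl₀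
      have h4 : ((α l₀ : R) : R ⧸ Q) = 1 := (QuotientGroup.eq_one_iff _).mpr (hαQ α l₀ hl₀)
      apply QuotientGroup.eq.mp
      rw [map_mul, map_pow]
      simp only [QuotientGroup.mk_mul, QuotientGroup.mk_pow, h3, h4, ← h2]
    apply hQ
    rw [eq_top_iff, ← hRD, Subgroup.closure_le]
    rintro _ ⟨g, a, _, rfl⟩
    exact hall a g

end main

end Cfsg.Agent.Lib.Class2Det
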