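import Mathlib
import Cfsg.Agent.Lib.SmallGroups
import Cfsg.Agent.Lib.SmallGroups2
import Cfsg.Agent.Lib.SmallGroups3
import Cfsg.Agent.Lib.SmallGroups4
import Cfsg.Agent.Lib.Small168
import Cfsg.Agent.Lib.Small168K
import Cfsg.Agent.Lib.TwoLocal
import Cfsg.Agent.Lib.TwoLocal2
import Cfsg.Agent.Lib.TwoLocal3
import Cfsg.Agent.Lib.ZStar

/-!
# Conjugation action on a conjugacy class, and generic tools for small simple group orders

`CC z` is the conjugacy class of `z` with the conjugation action of `G`.  For an involution `z` of a simple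
group the set of class members commuting with `z` has size neither `1` (`Z*`-theorem) nor the whole class.
-/

set_option autoImplicit false

namespace Cfsg.Agent.Lib.ClassFix

open Subgroup Cfsg Cfsg.Agent.Lib.SmallGroups Cfsg.Agent.Lib.SmallGroups2 Cfsg.Agent.Lib.SmallGroups3
  Cfsg.Agent.Lib.SmallGroups4 Cfsg.Agent.Lib.Small168 Cfsg.Agent.Lib.Small168K Cfsg.Agent.Lib.TwoLocal
  Cfsg.Agent.Lib.TwoLocal2 Cfsg.Agent.Lib.TwoLocal3

variable {G : Type*} [Group G]

/-- The conjugacy class of `z`. -/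
def CC (z : G) : Type _ := {w : G // IsConj z w}

instance ccAction (z : G) : MulAction G (CC z) where
  smul g w := ⟨g * w.1 * g⁻¹, w.2.trans (isConj_iff.2 ⟨g, rfl⟩)⟩
  one_smul w := Subtype.ext (by
    show 1 * w.1 * 1⁻¹ = w.1
    group)
  mul_smul g h w := Subtype.ext (by
    show (g * h) * w.1 * (g * h)⁻¹ = g * (h * w.1 * h⁻¹) * g⁻¹
    group)

theorem CC.smul_val {z : G} (g : G) (w : CC z) : (g • w).1 = g * w.1 * g⁻¹ := rfl

/-- The base point of a class. -/
def CC.base (z : G) : CC z := ⟨z, IsConj.refl z⟩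

instance ccFinite [Finite G] (z : G) : Finite (CC z) := Subtype.finite

theorem card_CC_mul [Finite G] (z : G) :
    Nat.card (CC z) * Nat.card (centralizer ({z} : Set G)) = Nat.card G :=
  card_isConj_mul_card_centralizer z

theorem smul_eq_iff {z : G} {t : G} {w : CC z} : t • w = w ↔ t * w.1 = w.1 * t := by
  constructor
  · intro h
    have h1 := congrArg Subtype.val h
    rw [CC.smul_val] at h1
    calc t * w.1 = t * w.1 * t⁻¹ * t := by group
      _ = w.1 * t := by rw [h1]
  · intro h
    apply Subtype.ext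
    rw [CC.smul_val, h]
    group

theorem mem_fixedBy_iff {z t : G} {w : CC z} : w ∈ MulAction.fixedBy (CC z) t ↔ t * w.1 = w.1 * t :=
  smul_eq_iff

/-- If all conjugates of `z` commute with `z`, then `z` is central. -/
theorem false_of_all_commute [Finite G] [IsSimpleGroup G] (hG : ¬ IsMulCommutative G) {z : G} (hz : z ≠ 1)
    (h : ∀ g : G, z * (g * z * g⁻¹) = (g * z * g⁻¹) * z) : False := by
  have hne : normalClosure ({z} : Set G) ≠ ⊥ := by
    intro hb
    have : z ∈ normalClosure ({z} : Set G) := subset_normalClosure rfl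
    rw [hb, mem_bot] at this
    exact hz this
  have htop : normalClosure ({z} : Set G) = ⊤ :=
    (Subgroup.normalClosure_normal (s := ({z} : Set G))).eq_bot_or_eq_top.resolve_left hne
  have hle : normalClosure ({z} : Set G) ≤ centralizer ({z} : Set G) := by
    refine (closure_le _).2 ?_
    rintro w hw
    rw [Group.mem_conjugatesOfSet_iff] at hw
    obtain ⟨a, ha, hc⟩ := hw
    obtain rfl : a = z := ha
    obtain ⟨g, rfl⟩ := isConj_iff.1 hc
    rw [SetLike.mem_coe, mem_centralizer_singleton_iff]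
    exact (h g).symm
  apply centralizer_singleton_ne_top hG hz
  rw [eq_top_iff, ← htop]
  exact hle

/-- If `z` is an involution with no other conjugate commuting with `z`, then `z` is central. -/
theorem false_of_isolated [Finite G] [IsSimpleGroup G] (hG : ¬ IsMulCommutative G) {z : G} (hz : orderOf z = 2)
    (h : ∀ g : G, z * (g * z * g⁻¹) = (g * z * g⁻¹) * z → g * z * g⁻¹ = z) : False := by
  have hI : IsIsolatedInvolution z := ⟨hz, fun g hg => h g hg⟩
  have hS := Cfsg.Agent.Lib.ZStar.zstar hI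
  have hcore : pPrimeCore 2 G = ⊥ := by
    unfold pPrimeCore
    rw [sSup_eq_bot]
    rintro N ⟨hN, hc⟩
    refine hN.eq_bot_or_eq_top.resolve_right ?_
    rintro rfl
    have hdvd : 2 ∣ Nat.card G := by
      rw [← hz]
      exact orderOf_dvd_natCard z
    rw [Subgroup.card_top] at hc
    have := Nat.Coprime.eq_one_of_dvd hc.symm hdvd
    norm_num at this
  have hz1 : z ≠ 1 := by
    rintro rfl
    rw [orderOf_one] at hz
    norm_num at hz
  apply false_of_all_commute hG hz1
  intro g
  have h1 := hS g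
  rw [hcore, mem_bot] at h1
  have h2 : g * z * g⁻¹ = z := by
    calc g * z * g⁻¹ = g * z * g⁻¹ * z⁻¹ * z := by group
      _ = z := by rw [h1, one_mul]
  rw [h2]

theorem fix_ne_one [Finite G] [IsSimpleGroup G] (hG : ¬ IsMulCommutative G) {z : G} (hz : orderOf z = 2) :
    Nat.card (MulAction.fixedBy (CC z) z) ≠ 1 := by
  intro h1
  apply false_of_isolated hG hz
  intro g hg
  rw [Nat.card_eq_one_iff_unique] at h1
  have hb : (⟨CC.base z, mem_fixedBy_iff.2 rfl⟩ : MulAction.fixedBy (CC z) z) =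
      ⟨g • CC.base z, mem_fixedBy_iff.2 hg⟩ := h1.1.elim _ _
  have := congrArg (fun x => x.1.1) hb
  exact this.symm

theorem fix_ne_card [Finite G] [IsSimpleGroup G] (hG : ¬ IsMulCommutative G) {z : G} (hz : z ≠ 1) :
    Nat.card (MulAction.fixedBy (CC z) z) ≠ Nat.card (CC z) := by
  intro h1
  have hbij : Function.Bijective (fun x : MulAction.fixedBy (CC z) z => x.1) :=
    (Subtype.val_injective).bijective_of_nat_card_le (le_of_eq h1.symm)
  apply false_of_all_commute hG hz
  intro g
  obtain ⟨y, hy⟩ := hbij.2 (g • CC.base z)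
  have h2 := mem_fixedBy_iff.1 y.2
  rw [show y.1 = g • CC.base z from hy] at h2
  exact h2

theorem card_mod_four [Finite G] [IsSimpleGroup G] (hG : ¬ IsMulCommutative G) {z t : G} (ht : t ^ 2 = 1) :
    Nat.card (CC z) ≡ Nat.card (MulAction.fixedBy (CC z) t) [MOD 4] :=
  card_modEq_fixedBy_four hG t ht

/-- A count modulo `p` of the class members commuting with `t`, via a `p`-subgroup centralized by `t`. -/
theorem fix_modEq_of_unique [Finite G] {z t : G} {p : ℕ} [Fact p.Prime] (P : Subgroup G) (hP : IsPGroup p P)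
    (ht : t ∈ centralizer (P : Set G)) (hz : IsConj z t)
    (h : ∀ w : G, IsConj z w → t * w = w * t → (∀ g ∈ P, g * w = w * g) → w = t) :
    Nat.card (MulAction.fixedBy (CC z) t) ≡ 1 [MOD p] := by
  have h1 := card_fixedBy_modEq_inter (X := CC z) P hP ht
  have h2 : Nat.card {x : CC z // t • x = x ∧ ∀ g ∈ P, g • x = x} = 1 := by
    rw [Nat.card_eq_one_iff_unique]
    refine ⟨⟨?_⟩, ⟨⟨⟨t, hz⟩, ?_, ?_⟩⟩⟩
    · rintro ⟨x, hx, hx'⟩ ⟨y, hy, hy'⟩
      apply Subtype.ext
      apply Subtype.ext
      have h3 := h x.1 x.2 (smul_eq_iff.1 hx) (fun g hg => smul_eq_iff.1 (hx' g hg))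
      have h4 := h y.1 y.2 (smul_eq_iff.1 hy) (fun g hg => smul_eq_iff.1 (hy' g hg))
      rw [h3, h4]
    · exact smul_eq_iff.2 rfl
    · intro g hg
      exact smul_eq_iff.2 ((mem_centralizer_iff.1 ht) g hg)
  rwa [h2] at h1

/-! ### Indices and Sylow counting -/

/-- An overgroup of the normalizer of a Sylow subgroup of prime order has index `≡ 1`. -/
theorem index_mod_of_normalizer_le [Finite G] {p : ℕ} [Fact p.Prime] (hp2 : ¬ p ^ 2 ∣ Nat.card G) (P : Sylow p G)
    (hP : Nat.card (P : Subgroup G) = p) (H : Subgroup G)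
    (hNH : normalizer ((P : Subgroup G) : Set G) ≤ H) : H.index ≡ 1 [MOD p] := by
  classical
  have hpP : IsPGroup p (P : Subgroup G) := P.isPGroup'
  have h1 := hpP.card_modEq_card_fixedPoints (G ⧸ H)
  have h2 : Nat.card (MulAction.fixedPoints (P : Subgroup G) (G ⧸ H)) = 1 := by
    rw [Nat.card_eq_one_iff_unique]
    refine ⟨⟨?_⟩, ⟨⟨((1 : G) : G ⧸ H), ?_⟩⟩⟩
    · rintro ⟨x, hx⟩ ⟨y, hy⟩
      apply Subtype.ext
      have hx' : ∀ g ∈ (P : Subgroup G), g • x = x := fun g hg => hx ⟨g, hg⟩
      have hy' : ∀ g ∈ (P : Subgroup G), g • y = y := fun g hg => hy ⟨g, hg⟩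
      exact (fixed_point_unique hp2 P hP H hNH x hx').trans (fixed_point_unique hp2 P hP H hNH y hy').symm
    · rw [MulAction.mem_fixedPoints]
      rintro ⟨g, hg⟩
      have hgH : g ∈ H := hNH (Subgroup.le_normalizer hg)
      show ((g * 1 : G) : G ⧸ H) = ((1 : G) : G ⧸ H)
      rw [QuotientGroup.eq]
      simpa using hgH
  rw [h2] at h1
  exact h1

/-- All proper subgroups have index at least `k` if `2 * |G|` does not divide the factorial of smaller numbers. -/
theorem index_ge [Finite G] [IsSimpleGroup G] (hG : ¬ IsMulCommutative G) (H : Subgroup G) (hH : H ≠ ⊤) {k : ℕ}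
    (hk : ∀ i < k, ¬ 2 * Nat.card G ∣ i.factorial) : k ≤ H.index := by
  by_contra hlt
  exact hk _ (not_le.1 hlt) (two_mul_card_dvd_factorial_index hG H hH)

/-- The Lagrange identity, index form. -/
theorem card_mul_index' [Finite G] (H : Subgroup G) : Nat.card H * H.index = Nat.card G :=
  Subgroup.card_mul_index H

/-- A normal subgroup of a simple group. -/
theorem eq_bot_or_top_of_normalizer_eq_top [IsSimpleGroup G] (H : Subgroup G)
    (h : normalizer (H : Set G) = ⊤) : H = ⊥ ∨ H = ⊤ := by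
  have : H.Normal := normalizer_eq_top_iff.1 h
  exact Subgroup.Normal.eq_bot_or_eq_top inferInstance

/-- A subgroup of full `p`-part is a Sylow subgroup. -/
theorem exists_sylow_eq {G : Type*} [Group G] [Finite G] {p a m : ℕ} [Fact p.Prime] (hG : Nat.card G = p ^ a * m)
    (hm : ¬ p ∣ m) (A : Subgroup G) (hA : Nat.card A = p ^ a) : ∃ S : Sylow p G, (S : Subgroup G) = A := by
  refine ⟨Sylow.ofCard A ?_, rfl⟩
  rw [hA, hG]
  have hp : p.Prime := Fact.out
  have hm0 : m ≠ 0 := by
    rintro rfl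
    exact hm (dvd_zero p)
  rw [Nat.factorization_mul (pow_ne_zero _ hp.ne_zero) hm0]
  simp [hp.factorization_self, Nat.factorization_eq_zero_of_not_dvd hm]

/-- If a group `K` has a unique Sylow `p`-subgroup, two subgroups of full `p`-part in `K` agree. -/
theorem eq_of_unique_sylow [Finite G] {p a m : ℕ} [Fact p.Prime] {K A B : Subgroup G} (hA : A ≤ K) (hB : B ≤ K)
    (hcA : Nat.card A = p ^ a) (hcB : Nat.card B = p ^ a) (hK : Nat.card K = p ^ a * m) (hm : ¬ p ∣ m)
    (hu : Nat.card (Sylow p K) = 1) : A = B := by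
  have hsub : ∀ C : Subgroup G, C ≤ K → Nat.card C = p ^ a → ∃ S : Sylow p K, (S : Subgroup K) = C.subgroupOf K := by
    intro C hC hcC
    have hcC' : Nat.card (C.subgroupOf K) = p ^ a := by
      rw [← hcC]
      exact Nat.card_congr (subgroupOfEquivOfLe hC).toEquiv
    have hpm : Nat.card K = p ^ a * m := hK
    exact exists_sylow_eq hpm hm _ hcC'
  obtain ⟨S₁, h₁⟩ := hsub A hA hcA
  obtain ⟨S₂, h₂⟩ := hsub B hB hcB
  have he : S₁ = S₂ := by
    rw [Nat.card_eq_one_iff_unique] at hu
    exact hu.1.elim _ _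
  have h3 : A.subgroupOf K = B.subgroupOf K := by rw [← h₁, ← h₂, he]
  exact (Subgroup.subgroupOf_inj.1 h3 |> fun h => by simpa [inf_eq_left.2 hA, inf_eq_left.2 hB] using h)

/-- `H` normalizing `K` normalizes the unique `p`-part of `K`. -/
theorem le_normalizer_of_unique_sylow [Finite G] {p a m : ℕ} [Fact p.Prime] {K A H : Subgroup G} (hA : A ≤ K)
    (hcA : Nat.card A = p ^ a) (hK : Nat.card K = p ^ a * m) (hm : ¬ p ∣ m)
    (hu : Nat.card (Sylow p K) = 1) (hH : H ≤ normalizer (K : Set G)) : H ≤ normalizer (A : Set G) := by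
  intro x hx
  have hkey : ∀ y : G, x ∈ normalizer (K : Set G) → x ∈ H → y ∈ A → x * y * x⁻¹ ∈ A := by
    intro y hxK _ hy
    let B : Subgroup G := A.map (MulAut.conj x).toMonoidHom
    have hBK : B ≤ K := by
      rintro _ ⟨b, hb, rfl⟩
      have := (mem_normalizer_iff.1 hxK b).1 (hA hb)
      simpa [MulAut.conj_apply] using this
    have hcB : Nat.card B = p ^ a := by
      rw [← hcA]
      exact Subgroup.card_map_of_injective (MulAut.conj x).injective
    have hAB : A = B := eq_of_unique_sylow hA hBK hcA hcB hK hm hu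
    rw [hAB]
    exact ⟨y, hy, by simp [MulAut.conj_apply]⟩
  exact mem_normalizer_of_conj_le (fun y hy => hkey y (hH hx) hx hy)

/-- Decomposition of an overgroup as a product of two subgroups with coprime-like orders. -/
theorem exists_mul_of_card [Finite G] {A B C : Subgroup G} (hA : A ≤ C) (hB : B ≤ C) (hd : ∀ x ∈ A, x ∈ B → x = 1)
    (hc : Nat.card A * Nat.card B = Nat.card C) {x : G} (hx : x ∈ C) : ∃ a ∈ A, ∃ b ∈ B, x = a * b := by
  let f : A × B → C := fun p => ⟨p.1.1 * p.2.1, C.mul_mem (hA p.1.2) (hB p.2.2)⟩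
  have hinj : Function.Injective f := by
    rintro ⟨a, b⟩ ⟨a', b'⟩ h
    have h1 : a.1 * b.1 = a'.1 * b'.1 := congrArg Subtype.val h
    have h2 : a'.1⁻¹ * a.1 = b'.1 * b.1⁻¹ := by
      calc a'.1⁻¹ * a.1 = a'.1⁻¹ * (a.1 * b.1) * b.1⁻¹ := by group
        _ = b'.1 * b.1⁻¹ := by rw [h1]; group
    have h3 : a'.1⁻¹ * a.1 = 1 := hd _ (A.mul_mem (A.inv_mem a'.2) a.2) (by
      rw [h2]; exact B.mul_mem b'.2 (B.inv_mem b.2))
    have h4 : a.1 = a'.1 := by
      have := inv_mul_eq_one.1 h3
      exact this.symm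
    have h5 : b.1 = b'.1 := by
      rw [h4] at h1
      exact mul_left_cancel h1
    exact Prod.ext (Subtype.ext h4) (Subtype.ext h5)
  have hbij : Function.Bijective f := hinj.bijective_of_nat_card_le (by
    rw [Nat.card_prod, hc])
  obtain ⟨⟨a, b⟩, hab⟩ := hbij.2 ⟨x, hx⟩
  exact ⟨a.1, a.2, b.1, b.2, (congrArg Subtype.val hab).symm⟩

/-- An involution-type count: if `K ≤ X` and `g ∈ X`, `g ∉ K`, `K ≤ S`, `g ∈ S`, `|S| = 2 |K|`, then `S ≤ X`. -/
theorem le_of_two_mul_card [Finite G] {K S X : Subgroup G} {g : G} (hKS : K ≤ S) (hKX : K ≤ X) (hgS : g ∈ S) (hgX : g ∈ X)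
    (hgK : g ∉ K) (hc : Nat.card S = 2 * Nat.card K) : S ≤ X := by
  have h1 : Nat.card K ∣ Nat.card ↥(S ⊓ X) := Subgroup.card_dvd_of_le (le_inf hKS hKX)
  have h2 : Nat.card ↥(S ⊓ X) ∣ Nat.card S := Subgroup.card_dvd_of_le inf_le_left
  have hK0 : 0 < Nat.card K := Nat.card_pos
  obtain ⟨a, ha⟩ := h1
  rw [hc, ha] at h2
  have h3 : a ∣ 2 := by
    rw [mul_comm (Nat.card K) a] at h2
    exact Nat.dvd_of_mul_dvd_mul_right hK0 h2
  have h4 : a = 1 ∨ a = 2 := (Nat.dvd_prime Nat.prime_two).1 h3
  rcases h4 with rfl | rfl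
  · exfalso
    have h5 : K = S ⊓ X := Subgroup.eq_of_le_of_card_ge (le_inf hKS hKX) (by rw [ha, mul_one])
    apply hgK
    rw [h5]
    exact ⟨hgS, hgX⟩
  · have h5 : S ⊓ X = S := Subgroup.eq_of_le_of_card_ge inf_le_left (by rw [ha, hc, mul_comm])
    exact inf_eq_left.1 h5

/-- An element of order coprime to `p - 1` normalizing a subgroup of prime order `p` centralizes it. -/
theorem mem_centralizer_of_coprime [Finite G] {p : ℕ} (hp : p.Prime) (P : Subgroup G) (hP : Nat.card P = p) {x : G}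
    (hx : x ∈ normalizer (P : Set G)) (hc : (orderOf x).Coprime (p - 1)) : x ∈ centralizer (P : Set G) := by
  have hf : Fact p.Prime := ⟨hp⟩
  have hcyc : IsCyclic P := isCyclic_of_prime_card hP
  let x' : normalizer (P : Set G) := ⟨x, hx⟩
  have h1 : orderOf (P.normalizerMonoidHom x') ∣ orderOf x' := orderOf_map_dvd _ x'
  have h2 : orderOf (P.normalizerMonoidHom x') ∣ Nat.card (MulAut P) := orderOf_dvd_natCard _
  rw [IsCyclic.card_mulAut, hP, Nat.totient_prime hp] at h2
  have h3 : orderOf x' = orderOf x := Subgroup.orderOf_mk x hx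
  rw [h3] at h1
  have h4 : orderOf (P.normalizerMonoidHom x') = 1 := Nat.eq_one_of_dvd_coprimes hc h1 h2
  have h5 : P.normalizerMonoidHom x' = 1 := orderOf_eq_one_iff.1 h4
  have h6 : x' ∈ (P.normalizerMonoidHom).ker := h5
  rw [normalizerMonoidHom_ker] at h6
  exact h6

/-- Orbit bound: a subgroup fixing `P` moves another Sylow subgroup `Q` inside the complement of `P`. -/
theorem relIndex_normalizer_add_one_le [Finite G] {p : ℕ} (C : Subgroup G) (P Q : Sylow p G)
    (hC : C ≤ normalizer ((P : Subgroup G) : Set G)) (hne : Q ≠ P) :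
    (normalizer ((Q : Subgroup G) : Set G)).relIndex C + 1 ≤ Nat.card (Sylow p G) := by
  classical
  have hstab : MulAction.stabilizer C Q = (normalizer ((Q : Subgroup G) : Set G)).subgroupOf C := by
    ext x
    rw [MulAction.mem_stabilizer_iff, mem_subgroupOf]
    exact smul_eq_iff'
  have h1 : (normalizer ((Q : Subgroup G) : Set G)).relIndex C = (MulAction.orbit C Q).ncard := by
    rw [Subgroup.relIndex, ← hstab, MulAction.index_stabilizer]
  rw [h1]
  have h2 : P ∉ MulAction.orbit C Q := by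
    rintro ⟨x, hx⟩
    apply hne
    have h3 : (x : G) • Q = P := hx
    have h4 : (x : G) • P = P := smul_eq_iff'.2 (hC x.2)
    have h5 : (x : G) • Q = (x : G) • P := by rw [h3, h4]
    exact smul_left_cancel _ h5
  rw [← Set.ncard_insert_of_notMem h2 (Set.toFinite _), ← Set.ncard_univ]
  exact Set.ncard_le_ncard (Set.subset_univ _) (Set.toFinite _)

/-- If a group element fixes everything counted by the full set, it fixes every point. -/
theorem forall_of_card_fixedBy {X : Type*} [Finite X] [MulAction G X] {t : G}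
    (h : Nat.card (MulAction.fixedBy X t) = Nat.card X) (x : X) : t • x = x := by
  have hbij : Function.Bijective (fun x : MulAction.fixedBy X t => x.1) :=
    (Subtype.val_injective).bijective_of_nat_card_le (le_of_eq h.symm)
  obtain ⟨y, hy⟩ := hbij.2 x
  rw [← show y.1 = x from hy]
  exact y.2

theorem card_subtype_ne {X : Type*} [Finite X] (a : X) : Nat.card {x : X // x ≠ a} + 1 = Nat.card X := by
  classical
  have : Fintype X := Fintype.ofFinite X
  rw [Nat.card_eq_fintype_card, Nat.card_eq_fintype_card]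
  have h1 : Fintype.card {x : X // x ≠ a} = Fintype.card X - 1 := Set.card_ne_eq a
  have : 0 < Fintype.card X := Fintype.card_pos_iff.2 ⟨a⟩
  omega

/-- A `q`-subgroup of `N` of given order containing an element of order `q`. -/
theorem exists_card_le_mem [Finite G] (N : Subgroup G) {q a : ℕ} [Fact q.Prime] (hd : q ^ a ∣ Nat.card N) (ha : 1 ≤ a)
    {u : G} (hu : u ∈ N) (ho : orderOf u = q) : ∃ R : Subgroup G, R ≤ N ∧ Nat.card R = q ^ a ∧ u ∈ R := by
  let u' : N := ⟨u, hu⟩
  have ho' : orderOf u' = q := by rw [← ho]; exact Subgroup.orderOf_mk u hu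
  have hc : Nat.card (zpowers u') = q ^ 1 := by rw [Nat.card_zpowers, ho', pow_one]
  obtain ⟨K, hK, hle⟩ := Sylow.exists_subgroup_card_pow_prime_le q hd (zpowers u') hc ha
  refine ⟨K.map N.subtype, Subgroup.map_subtype_le K, ?_, ?_⟩
  · rw [Subgroup.card_map_of_injective N.subtype_injective, hK]
  · exact ⟨u', hle (mem_zpowers u'), rfl⟩

/-- Commuting with a nontrivial element of a group of prime order is commuting with all of it. -/
theorem mem_centralizer_of_commute_of_prime [Finite G] {p : ℕ} (hp : p.Prime) {P : Subgroup G} (hP : Nat.card P = p)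
    {x b : G} (hx : x ∈ P) (hne : x ≠ 1) (hc : b * x = x * b) : b ∈ centralizer (P : Set G) := by
  rw [mem_centralizer_iff]
  intro y hy
  have hz := zpowers_eq_of_mem_of_ne_one hp hP hx hne
  rw [← hz] at hy
  obtain ⟨k, rfl⟩ := hy
  have h1 : Commute x b := (show Commute b x from hc).symm
  exact (h1.zpow_left k).eq

/-- In a cyclic group of order 4 the only involution is the square of the generator. -/
theorem eq_sq_of_mem_zpowers_of_order4 [Finite G] {r x : G} (ho : orderOf r = 4) (hx : x ∈ zpowers r) (hx2 : x ^ 2 = 1)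
    (hx1 : x ≠ 1) : x = r ^ 2 := by
  rw [← mem_powers_iff_mem_zpowers] at hx
  obtain ⟨k, rfl⟩ := Submonoid.mem_powers_iff _ _ |>.1 hx
  have hk' : r ^ k = r ^ (k % 4) := by rw [← ho, pow_mod_orderOf]
  rw [hk'] at hx2 hx1 ⊢
  have hk : k % 4 < 4 := Nat.mod_lt _ (by norm_num)
  generalize k % 4 = j at *
  interval_cases j
  · exact absurd (pow_zero r) hx1
  · exfalso
    have : r ^ 2 = 1 := by simpa using hx2
    have h2 := orderOf_dvd_of_pow_eq_one this
    rw [ho] at h2
    norm_num at h2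
  · rfl
  · exfalso
    have h6 : r ^ (3 * 2) = 1 := by rw [pow_mul]; exact hx2
    have h2 := orderOf_dvd_of_pow_eq_one h6
    rw [ho] at h2
    norm_num at h2

theorem exists_two_others {X : Type*} [Finite X] (F : Set X) (hF : 3 ≤ Nat.card F) (a : X) :
    ∃ b ∈ F, ∃ c ∈ F, b ≠ a ∧ c ≠ a ∧ b ≠ c := by
  classical
  have h1 : 2 ≤ (F \ {a}).ncard := by
    have h2 : F.ncard ≤ (F \ {a}).ncard + 1 := by
      have h3 : F ⊆ insert a (F \ {a}) := by
        intro x hx
        by_cases hxa : x = a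
        · exact Or.inl hxa
        · exact Or.inr ⟨hx, hxa⟩
      calc F.ncard ≤ (insert a (F \ {a})).ncard := Set.ncard_le_ncard h3 (Set.toFinite _)
        _ ≤ (F \ {a}).ncard + 1 := Set.ncard_insert_le _ _
    have h4 : Nat.card F = F.ncard := rfl
    omega
  obtain ⟨b, hb, c, hc, hbc⟩ := (Set.one_lt_ncard (Set.toFinite _)).1 (by omega : 1 < (F \ {a}).ncard)
  exact ⟨b, hb.1, c, hc.1, hb.2, hc.2, hbc⟩

end Cfsg.Agent.Lib.ClassFix
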