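import Mathlib
import Cfsg.Agent.Lib.DegreeDiv
import Cfsg.Agent.Lib.CharKernel

/-!
# Groups with linear characters only are abelian; degrees of constituents on a normal subgroup
-/

set_option autoImplicit false

namespace Cfsg.Agent.Lib.CliffDvd

open Cfsg Cfsg.Agent.Lib.CharBasic Cfsg.Agent.Lib.CharKernel

universe u

/-- A constituent on a normal subgroup has degree dividing the degree. -/
theorem degree_dvd {G : Type u} [Group G] [Fintype G] (N : Subgroup G) [hN : N.Normal] [Fintype N]
    {θ : N → ℂ} (hθ : IsIrrCharacter N θ) {χ : G → ℂ} (hχ : IsIrrCharacter G χ)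
    (hcon : classInner (fun n : N => χ n) θ ≠ 0) : charDegree θ ∣ charDegree χ :=
  (Cfsg.Agent.Lib.DegreeDiv.degree_div N hχ hθ hcon
    (one_eq_charDegree (IsIrrCharacter.isCharacter hχ))
    (one_eq_charDegree (IsIrrCharacter.isCharacter hθ))).1

/-- A group all of whose irreducible characters have degree one is abelian. -/
theorem comm_of_all_linear {A : Type u} [Group A] [Finite A]
    (h : ∀ θ : IrrCharacter A, (θ : A → ℂ) 1 = 1) (a b : A) : a * b = b * a := by
  classical
  letI := Fintype.ofFinite A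
  by_contra hne
  have hc : a * b * a⁻¹ * b⁻¹ ≠ 1 := by
    intro h1
    apply hne
    have h2 : a * b * a⁻¹ = b := eq_of_mul_inv_eq_one h1
    rw [mul_inv_eq_iff_eq_mul] at h2
    exact h2
  have h1 := sum_irr_deg_mul (G := A) (a * b * a⁻¹ * b⁻¹)
  rw [if_neg hc] at h1
  have h2 : ∀ θ : IrrCharacter A, (θ : A → ℂ) 1 * (θ : A → ℂ) (a * b * a⁻¹ * b⁻¹) = 1 := by
    intro θ
    obtain ⟨f, hf⟩ := exists_hom_of_degree_one (IsIrrCharacter.isCharacter θ.2) (h θ)
    rw [h θ, one_mul, hf]
    have h3 : f (a * b * a⁻¹ * b⁻¹) = 1 := by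
      simp only [map_mul, map_inv]
      rw [mul_comm (f a) (f b)]
      group
    rw [h3]
    simp
  simp only [h2] at h1
  simp only [Finset.sum_const, Finset.card_univ, nsmul_eq_mul, mul_one] at h1
  haveI : Nonempty (IrrCharacter A) := ⟨⟨fun _ => 1, isIrrCharacter_one⟩⟩
  have h3 : Fintype.card (IrrCharacter A) ≠ 0 := Fintype.card_ne_zero
  exact h3 (by exact_mod_cast h1)

end Cfsg.Agent.Lib.CliffDvd
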