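import Mathlib
import Cfsg.Prelude.Def_Sporadic_a

set_option autoImplicit false

/-!
# Basic facts on the length-24 code and the rank-24 lattice

`codeSets` is the family of supports of the code.  It contains `∅`, `univ`, is closed under symmetric
differences, all members have size divisible by 4 and pairwise even intersections.
`leechSet` is an additive subgroup, described by two normal forms.
-/

namespace Cfsg.Agent.Lib.Leech
open Finset Cfsg
open scoped Pointwise

/-- The family of supports of the code. -/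
abbrev codeSets : Set (Finset GolayPt) := supports (golayCode : Set (GolayPt → ZMod 2))

/-- The indicator word of a set of coordinates. -/
def ind {ι : Type*} [DecidableEq ι] (s : Finset ι) : ι → ZMod 2 := fun i => if i ∈ s then 1 else 0

theorem zmod2_eq_zero_or_one (x : ZMod 2) : x = 0 ∨ x = 1 := by
  revert x; decide

theorem support₂_ind {ι : Type*} [Fintype ι] [DecidableEq ι] (s : Finset ι) :
    support₂ (ind s) = s := by
  ext i
  by_cases h : i ∈ s <;> simp [support₂, ind, h]

theorem ind_support₂ {ι : Type*} [Fintype ι] [DecidableEq ι] (w : ι → ZMod 2) :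
    ind (support₂ w) = w := by
  funext i
  rcases zmod2_eq_zero_or_one (w i) with h | h <;> simp [support₂, ind, h]

theorem mem_codeSets_iff {s : Finset GolayPt} : s ∈ codeSets ↔ ind s ∈ golayCode := by
  constructor
  · rintro ⟨w, hw, rfl⟩
    rw [ind_support₂]
    exact hw
  · intro h
    exact ⟨ind s, h, support₂_ind s⟩

theorem ind_empty_eq {ι : Type*} [DecidableEq ι] : ind (∅ : Finset ι) = 0 := by
  funext i; simp [ind]

theorem ind_univ_eq {ι : Type*} [DecidableEq ι] [Fintype ι] : ind (univ : Finset ι) = 1 := by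
  funext i; simp [ind]

theorem ind_symmDiff {ι : Type*} [DecidableEq ι] (a b : Finset ι) :
    ind (symmDiff a b) = ind a + ind b := by
  funext i
  have h2 : (1 : ZMod 2) + 1 = 0 := by decide
  by_cases ha : i ∈ a <;> by_cases hb : i ∈ b <;> simp [ind, mem_symmDiff, ha, hb, h2]

theorem empty_mem_codeSets : (∅ : Finset GolayPt) ∈ codeSets := by
  rw [mem_codeSets_iff, ind_empty_eq]; exact Submodule.zero_mem _

theorem univ_mem_codeSets : (univ : Finset GolayPt) ∈ codeSets := by
  rw [mem_codeSets_iff, ind_univ_eq]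
  exact Submodule.subset_span (Or.inr rfl)

theorem symmDiff_mem_codeSets {a b : Finset GolayPt} (ha : a ∈ codeSets) (hb : b ∈ codeSets) :
    symmDiff a b ∈ codeSets := by
  rw [mem_codeSets_iff] at *
  rw [ind_symmDiff]
  exact Submodule.add_mem _ ha hb

theorem compl_mem_codeSets {a : Finset GolayPt} (ha : a ∈ codeSets) : aᶜ ∈ codeSets := by
  have : aᶜ = symmDiff a univ := by
    ext i; simp [mem_symmDiff]
  rw [this]
  exact symmDiff_mem_codeSets ha univ_mem_codeSets

/-! ### Self-orthogonality and double evenness -/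

/-- The dot product of words. -/
def dot (u v : GolayPt → ZMod 2) : ZMod 2 := ∑ i, u i * v i

theorem dot_add_left (u u' v : GolayPt → ZMod 2) : dot (u + u') v = dot u v + dot u' v := by
  simp [dot, add_mul, Finset.sum_add_distrib]

theorem dot_comm (u v : GolayPt → ZMod 2) : dot u v = dot v u := by
  simp [dot, mul_comm]

theorem dot_smul_left (c : ZMod 2) (u v : GolayPt → ZMod 2) : dot (c • u) v = c * dot u v := by
  simp only [dot, Pi.smul_apply, smul_eq_mul, Finset.mul_sum, mul_assoc]

theorem dot_zero_left (v : GolayPt → ZMod 2) : dot 0 v = 0 := by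
  simp [dot]

theorem dot_gens : ∀ t t' : ZMod 23, dot (qrWord t) (qrWord t') = 0 := by decide +kernel

theorem dot_gen_one : ∀ t : ZMod 23, dot (qrWord t) 1 = 0 := by decide +kernel

theorem dot_one_one : dot (1 : GolayPt → ZMod 2) 1 = 0 := by decide +kernel

theorem dot_gen_right {v : GolayPt → ZMod 2} (hv : v ∈ golayCode) (t : ZMod 23) :
    dot v (qrWord t) = 0 := by
  unfold golayCode at hv
  induction hv using Submodule.span_induction with
  | mem x hx =>
    rcases hx with ⟨s, rfl⟩ | hx
    · exact dot_gens s t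
    · rw [Set.mem_singleton_iff] at hx
      rw [hx, dot_comm]
      exact dot_gen_one t
  | zero => exact dot_zero_left _
  | add x y _ _ hx hy => rw [dot_add_left, hx, hy, add_zero]
  | smul c x _ hx => rw [dot_smul_left, hx, mul_zero]

theorem dot_one_right {v : GolayPt → ZMod 2} (hv : v ∈ golayCode) :
    dot v 1 = 0 := by
  unfold golayCode at hv
  induction hv using Submodule.span_induction with
  | mem x hx =>
    rcases hx with ⟨s, rfl⟩ | hx
    · exact dot_gen_one s
    · rw [Set.mem_singleton_iff] at hx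
      rw [hx]
      exact dot_one_one
  | zero => exact dot_zero_left _
  | add x y _ _ hx hy => rw [dot_add_left, hx, hy, add_zero]
  | smul c x _ hx => rw [dot_smul_left, hx, mul_zero]

/-- The code is self-orthogonal. -/
theorem dot_eq_zero {u v : GolayPt → ZMod 2} (hu : u ∈ golayCode) (hv : v ∈ golayCode) :
    dot u v = 0 := by
  rw [dot_comm]
  unfold golayCode at hu
  induction hu using Submodule.span_induction with
  | mem x hx =>
    rcases hx with ⟨s, rfl⟩ | hx
    · exact dot_gen_right hv s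
    · rw [Set.mem_singleton_iff] at hx
      rw [hx]
      exact dot_one_right hv
  | zero => simp [dot]
  | add x y _ _ hx hy =>
    rw [dot_comm, dot_add_left, dot_comm x, dot_comm y, hx, hy, add_zero]
  | smul c x _ hx =>
    rw [dot_comm, dot_smul_left, dot_comm, hx, mul_zero]

theorem dot_ind (a b : Finset GolayPt) : dot (ind a) (ind b) = ((a ∩ b).card : ZMod 2) := by
  unfold dot ind
  have h : ∀ i : GolayPt, ((if i ∈ a then (1 : ZMod 2) else 0) * if i ∈ b then (1 : ZMod 2) else 0)
      = if i ∈ a ∩ b then 1 else 0 := by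
    intro i
    by_cases ha : i ∈ a <;> by_cases hb : i ∈ b <;> simp [ha, hb]
  simp only [h]
  rw [Finset.sum_boole]
  congr 2
  ext i; simp

theorem zmod2_natCast_eq_zero_iff (n : ℕ) : ((n : ZMod 2) = 0) ↔ 2 ∣ n :=
  ZMod.natCast_eq_zero_iff n 2

/-- Members of the code have even intersections. -/
theorem even_card_inter {a b : Finset GolayPt} (ha : a ∈ codeSets) (hb : b ∈ codeSets) :
    2 ∣ (a ∩ b).card := by
  rw [mem_codeSets_iff] at ha hb
  have := dot_eq_zero ha hb
  rw [dot_ind, zmod2_natCast_eq_zero_iff] at this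
  exact this

theorem card_symmDiff_add (a b : Finset GolayPt) :
    (symmDiff a b).card + 2 * (a ∩ b).card = a.card + b.card := by
  have h1 : symmDiff a b = (a \ b) ∪ (b \ a) := rfl
  rw [h1, card_union_of_disjoint (disjoint_sdiff_sdiff)]
  have h2 := card_sdiff_add_card_inter a b
  have h3 := card_sdiff_add_card_inter b a
  rw [inter_comm b a] at h3
  omega

theorem card_gen : ∀ t : ZMod 23, 4 ∣ (support₂ (qrWord t)).card := by decide +kernel

theorem card_one : 4 ∣ (support₂ (1 : GolayPt → ZMod 2)).card := by decide +kernel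

theorem support₂_add {ι : Type*} [Fintype ι] [DecidableEq ι] (u v : ι → ZMod 2) :
    support₂ (u + v) = symmDiff (support₂ u) (support₂ v) := by
  rw [← support₂_ind (symmDiff (support₂ u) (support₂ v)), ind_symmDiff, ind_support₂, ind_support₂]

theorem four_dvd_card_support {w : GolayPt → ZMod 2} (hw : w ∈ golayCode) :
    4 ∣ (support₂ w).card := by
  have hw' := hw
  unfold golayCode at hw'
  induction hw' using Submodule.span_induction with
  | mem x hx =>
    rcases hx with ⟨s, rfl⟩ | hx
    · exact card_gen s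
    · rw [Set.mem_singleton_iff] at hx
      rw [hx]
      exact card_one
  | zero => simp [support₂]
  | add x y hx' hy' hx hy =>
    have hxm : x ∈ golayCode := hx'
    have hym : y ∈ golayCode := hy'
    have h1 := hx hxm
    have h2 := hy hym
    have h3 : 2 ∣ (support₂ x ∩ support₂ y).card :=
      even_card_inter ⟨x, hxm, rfl⟩ ⟨y, hym, rfl⟩
    rw [support₂_add]
    have h4 := card_symmDiff_add (support₂ x) (support₂ y)
    omega
  | smul c x hx' hx =>
    have hxm : x ∈ golayCode := hx'
    rcases zmod2_eq_zero_or_one c with rfl | rfl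
    · simp [support₂]
    · simpa using hx hxm

/-- Members of the code have size divisible by 4. -/
theorem four_dvd_card {a : Finset GolayPt} (ha : a ∈ codeSets) : 4 ∣ a.card := by
  obtain ⟨w, hw, rfl⟩ := ha
  exact four_dvd_card_support hw

/-! ### The lattice -/

/-- Bracket of a set of coordinates: integer indicator. -/
def br {ι : Type*} [DecidableEq ι] (s : Finset ι) (i : ι) : ℤ := if i ∈ s then 1 else 0

/-- The normal form of an element: all coordinates congruent to `m + 2 [i ∈ α]` mod 4,
with `α` in the code, and coordinate sum congruent to `4 m` mod 8. -/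
def IsForm (x : GolayPt → ℤ) (m : ℤ) (α : Finset GolayPt) : Prop :=
  α ∈ codeSets ∧ (∀ i, x i ≡ m + 2 * br α i [ZMOD 4]) ∧ ∑ i, x i ≡ 4 * m [ZMOD 8]

theorem br_cases {ι : Type*} [DecidableEq ι] (s : Finset ι) (i : ι) :
    (i ∈ s ∧ br s i = 1) ∨ (i ∉ s ∧ br s i = 0) := by
  by_cases h : i ∈ s
  · exact Or.inl ⟨h, by simp [br, h]⟩
  · exact Or.inr ⟨h, by simp [br, h]⟩

theorem mem_leechSet_of_isForm {x : GolayPt → ℤ} {m : ℤ} {α : Finset GolayPt}
    (h : IsForm x m α) : x ∈ leechSet := by
  obtain ⟨hα, hx, hs⟩ := h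
  refine ⟨m, fun i => ?_, hs, fun k => ?_⟩
  · have h := hx i
    rcases br_cases α i with ⟨hi, hb⟩ | ⟨hi, hb⟩ <;> rw [hb] at h <;>
      · simp only [Int.ModEq] at h ⊢
        omega
  · by_cases h1 : k ≡ m [ZMOD 4]
    · have : (univ.filter fun i => x i ≡ k [ZMOD 4]) = αᶜ := by
        ext i
        have h := hx i
        simp only [mem_filter, mem_univ, true_and, mem_compl]
        rcases br_cases α i with ⟨hi, hb⟩ | ⟨hi, hb⟩ <;> rw [hb] at h <;> simp only [hi, not_true_eq_false, not_false_eq_true, iff_false, iff_true] <;>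
          · simp only [Int.ModEq] at h h1 ⊢
            omega
      rw [this]
      exact compl_mem_codeSets hα
    · by_cases h2 : k ≡ m + 2 [ZMOD 4]
      · have : (univ.filter fun i => x i ≡ k [ZMOD 4]) = α := by
          ext i
          have h := hx i
          simp only [mem_filter, mem_univ, true_and]
          rcases br_cases α i with ⟨hi, hb⟩ | ⟨hi, hb⟩ <;> rw [hb] at h <;> simp only [hi, iff_false, iff_true] <;>
            · simp only [Int.ModEq] at h h1 h2 ⊢
              omega
        rw [this]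
        exact hα
      · have : (univ.filter fun i => x i ≡ k [ZMOD 4]) = ∅ := by
          ext i
          have h := hx i
          simp only [mem_filter, mem_univ, true_and, notMem_empty, iff_false]
          rcases br_cases α i with ⟨hi, hb⟩ | ⟨hi, hb⟩ <;> rw [hb] at h <;>
            · simp only [Int.ModEq] at h h1 h2 ⊢
              omega
        rw [this]
        exact empty_mem_codeSets

theorem exists_isForm_of_mem_leechSet {x : GolayPt → ℤ} (h : x ∈ leechSet) :
    ∃ m α, IsForm x m α := by
  obtain ⟨m, h1, h2, h3⟩ := h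
  refine ⟨m, _, h3 (m + 2), fun i => ?_, h2⟩
  have h := h1 i
  rcases br_cases (univ.filter fun i => x i ≡ m + 2 [ZMOD 4]) i with ⟨hi, hb⟩ | ⟨hi, hb⟩ <;> rw [hb] <;>
    simp only [mem_filter, mem_univ, true_and] at hi <;>
    · simp only [Int.ModEq] at h hi ⊢
      omega

theorem br_symmDiff_mod {ι : Type*} [DecidableEq ι] (a b : Finset ι) (i : ι) :
    2 * br (symmDiff a b) i ≡ 2 * br a i + 2 * br b i [ZMOD 4] := by
  unfold Int.ModEq
  by_cases ha : i ∈ a <;> by_cases hb : i ∈ b <;> simp [br, ha, hb, mem_symmDiff]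

theorem IsForm.add {x y : GolayPt → ℤ} {m n : ℤ} {α β : Finset GolayPt}
    (hx : IsForm x m α) (hy : IsForm y n β) : IsForm (x + y) (m + n) (symmDiff α β) := by
  refine ⟨symmDiff_mem_codeSets hx.1 hy.1, fun i => ?_, ?_⟩
  · have h1 := hx.2.1 i
    have h2 := hy.2.1 i
    have h3 := br_symmDiff_mod α β i
    simp only [Pi.add_apply]
    simp only [Int.ModEq] at h1 h2 h3 ⊢
    omega
  · have h1 := hx.2.2
    have h2 := hy.2.2
    simp only [Pi.add_apply, Finset.sum_add_distrib]
    simp only [Int.ModEq] at h1 h2 ⊢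
    omega

theorem IsForm.neg {x : GolayPt → ℤ} {m : ℤ} {α : Finset GolayPt}
    (hx : IsForm x m α) : IsForm (-x) (-m) α := by
  refine ⟨hx.1, fun i => ?_, ?_⟩
  · have h1 := hx.2.1 i
    simp only [Pi.neg_apply]
    rcases br_cases α i with ⟨hi, hb⟩ | ⟨hi, hb⟩ <;> rw [hb] at h1 ⊢ <;>
      · simp only [Int.ModEq] at h1 ⊢
        omega
  · have h1 := hx.2.2
    simp only [Pi.neg_apply, Finset.sum_neg_distrib]
    simp only [Int.ModEq] at h1 ⊢
    omega

theorem isForm_zero : IsForm 0 0 ∅ := by
  refine ⟨empty_mem_codeSets, fun i => ?_, ?_⟩ <;> simp [br, Int.ModEq]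

/-- `leechSet` as an additive subgroup. -/
def leechSub : AddSubgroup (GolayPt → ℤ) where
  carrier := leechSet
  zero_mem' := mem_leechSet_of_isForm isForm_zero
  add_mem' := by
    intro a b ha hb
    obtain ⟨m, α, hx⟩ := exists_isForm_of_mem_leechSet ha
    obtain ⟨n, β, hy⟩ := exists_isForm_of_mem_leechSet hb
    exact mem_leechSet_of_isForm (hx.add hy)
  neg_mem' := by
    intro a ha
    obtain ⟨m, α, hx⟩ := exists_isForm_of_mem_leechSet ha
    exact mem_leechSet_of_isForm hx.neg

theorem leechLattice_eq : leechLattice = leechSub := by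
  unfold leechLattice
  apply le_antisymm
  · exact (AddSubgroup.closure_le _).2 (fun x hx => hx)
  · exact fun x hx => AddSubgroup.subset_closure hx

theorem mem_leechLattice_iff_leechSet {x : GolayPt → ℤ} : x ∈ leechLattice ↔ x ∈ leechSet := by
  rw [leechLattice_eq]; rfl

theorem mem_leechLattice_iff {x : GolayPt → ℤ} : x ∈ leechLattice ↔ ∃ m α, IsForm x m α :=
  mem_leechLattice_iff_leechSet.trans
    ⟨exists_isForm_of_mem_leechSet, fun ⟨_, _, h⟩ => mem_leechSet_of_isForm h⟩

/-! ### Sums over code sets -/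

theorem sum_br {ι : Type*} [DecidableEq ι] [Fintype ι] (s : Finset ι) :
    ∑ i, br s i = s.card := by
  simp [br]

theorem sum_br_on {ι : Type*} [DecidableEq ι] (c s : Finset ι) :
    ∑ i ∈ c, br s i = (c ∩ s).card := by
  simp only [br]
  rw [Finset.sum_boole]
  congr 2

theorem card_golayPt : Fintype.card GolayPt = 24 := by decide +kernel

theorem sum_mod4_on_code {x : GolayPt → ℤ} {m : ℤ} {α c : Finset GolayPt}
    (hx : IsForm x m α) (hc : c ∈ codeSets) : (4 : ℤ) ∣ ∑ i ∈ c, x i := by
  have h1 : (4 : ℤ) ∣ ∑ i ∈ c, (x i - (m + 2 * br α i)) := by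
    apply Finset.dvd_sum
    intro i _
    have := (hx.2.1 i).symm
    exact this.dvd
  have h2 : ∑ i ∈ c, (x i - (m + 2 * br α i))
      = ∑ i ∈ c, x i - (c.card * m + 2 * (c ∩ α).card) := by
    rw [Finset.sum_sub_distrib, Finset.sum_add_distrib, ← Finset.mul_sum, sum_br_on]
    simp
  rw [h2] at h1
  obtain ⟨a, ha⟩ := four_dvd_card hc
  obtain ⟨b, hb⟩ := even_card_inter hc hx.1
  rw [ha, hb] at h1
  push_cast at h1
  have h3 : (4 : ℤ) ∣ (4 * (a : ℤ) * m + 2 * (2 * (b : ℤ))) := ⟨a * m + b, by ring⟩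
  have := dvd_add h1 h3
  simpa using this

/-- Sign changes on members of the code preserve the lattice. -/
theorem IsForm.sign {x : GolayPt → ℤ} {m : ℤ} {α c : Finset GolayPt}
    (hx : IsForm x m α) (hc : c ∈ codeSets) :
    ∃ β, IsForm (fun i => if i ∈ c then -x i else x i) m β := by
  have hsum : ∑ i, (if i ∈ c then -x i else x i) = ∑ i, x i - 2 * ∑ i ∈ c, x i := by
    have h1 : ∀ i, (if i ∈ c then -x i else x i) = x i - 2 * (if i ∈ c then x i else 0) := by
      intro i; by_cases hi : i ∈ c <;> simp [hi]; ring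
    simp only [h1]
    rw [Finset.sum_sub_distrib, ← Finset.mul_sum, Finset.sum_ite_mem, Finset.univ_inter]
  have hs : ∑ i, (if i ∈ c then -x i else x i) ≡ 4 * m [ZMOD 8] := by
    rw [hsum]
    obtain ⟨a, ha⟩ := sum_mod4_on_code hx hc
    rw [ha]
    have := hx.2.2
    simp only [Int.ModEq] at this ⊢
    omega
  by_cases hm : (2 : ℤ) ∣ m
  · refine ⟨α, hx.1, fun i => ?_, hs⟩
    have h := hx.2.1 i
    obtain ⟨k, rfl⟩ := hm
    by_cases hi : i ∈ c
    · simp only [hi, if_true]
      rcases br_cases α i with ⟨_, hb⟩ | ⟨_, hb⟩ <;> rw [hb] at h ⊢ <;>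
        · simp only [Int.ModEq] at h ⊢
          omega
    · simp only [hi, if_false]
      exact h
  · refine ⟨symmDiff α c, symmDiff_mem_codeSets hx.1 hc, fun i => ?_, hs⟩
    have h := hx.2.1 i
    have hm' : m % 2 = 1 := by omega
    rcases br_cases α i with ⟨ha, hb⟩ | ⟨ha, hb⟩ <;> rw [hb] at h <;>
    · by_cases hi : i ∈ c
      · simp only [br, hi, if_true, mem_symmDiff, ha, not_true_eq_false, not_false_eq_true, and_false, and_true, false_or, or_false, if_false]
        simp only [Int.ModEq] at h ⊢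
        omega
      · simp only [br, hi, if_false, mem_symmDiff, ha, not_true_eq_false, not_false_eq_true, and_false, and_true, false_or, or_false, if_true]
        simp only [Int.ModEq] at h ⊢
        omega

/-- Normalisation of the parity: `m` can be taken to be 0 or 1. -/
theorem IsForm.normal {x : GolayPt → ℤ} {m : ℤ} {α : Finset GolayPt}
    (hx : IsForm x m α) : ∃ β, IsForm x 0 β ∨ IsForm x 1 β := by
  obtain ⟨h0, h1, h2⟩ := hx
  have hcases : m % 4 = 0 ∨ m % 4 = 1 ∨ m % 4 = 2 ∨ m % 4 = 3 := by omega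
  rcases hcases with h | h | h | h
  · refine ⟨α, Or.inl ⟨h0, fun i => ?_, ?_⟩⟩
    · have := h1 i
      simp only [Int.ModEq] at this ⊢
      omega
    · simp only [Int.ModEq] at h2 ⊢
      omega
  · refine ⟨α, Or.inr ⟨h0, fun i => ?_, ?_⟩⟩
    · have := h1 i
      simp only [Int.ModEq] at this ⊢
      omega
    · simp only [Int.ModEq] at h2 ⊢
      omega
  · refine ⟨αᶜ, Or.inl ⟨compl_mem_codeSets h0, fun i => ?_, ?_⟩⟩
    · have := h1 i
      rcases br_cases α i with ⟨ha, hb⟩ | ⟨ha, hb⟩ <;> rw [hb] at this <;> simp only [br, mem_compl, ha, not_true_eq_false, not_false_eq_true, if_true, if_false] <;>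
        · simp only [Int.ModEq] at this ⊢
          omega
    · simp only [Int.ModEq] at h2 ⊢
      omega
  · refine ⟨αᶜ, Or.inr ⟨compl_mem_codeSets h0, fun i => ?_, ?_⟩⟩
    · have := h1 i
      rcases br_cases α i with ⟨ha, hb⟩ | ⟨ha, hb⟩ <;> rw [hb] at this <;> simp only [br, mem_compl, ha, not_true_eq_false, not_false_eq_true, if_true, if_false] <;>
        · simp only [Int.ModEq] at this ⊢
          omega
    · simp only [Int.ModEq] at h2 ⊢
      omega

/-- Norms of lattice vectors are divisible by 16. -/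
theorem sqNorm_dvd {x : GolayPt → ℤ} (hx : x ∈ leechLattice) : (16 : ℤ) ∣ sqNorm x := by
  obtain ⟨m, α, h⟩ := mem_leechLattice_iff.1 hx
  obtain ⟨β, h | h⟩ := h.normal
  · -- even case
    have h1 : (16 : ℤ) ∣ ∑ i, (x i ^ 2 - 4 * br β i) := by
      apply Finset.dvd_sum
      intro i _
      have h2 := h.2.1 i
      rcases br_cases β i with ⟨_, hb⟩ | ⟨_, hb⟩ <;> rw [hb] at h2 ⊢
      · obtain ⟨k, hk⟩ : ∃ k, x i = 4 * k + 2 := ⟨x i / 4, by simp only [Int.ModEq] at h2; omega⟩
        rw [hk]
        exact ⟨k ^ 2 + k, by ring⟩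
      · obtain ⟨k, hk⟩ : ∃ k, x i = 4 * k := ⟨x i / 4, by simp only [Int.ModEq] at h2; omega⟩
        rw [hk]
        exact ⟨k ^ 2, by ring⟩
    rw [Finset.sum_sub_distrib, ← Finset.mul_sum, sum_br] at h1
    obtain ⟨a, ha⟩ := four_dvd_card h.1
    rw [ha] at h1
    push_cast at h1
    have h3 : (16 : ℤ) ∣ 4 * (4 * (a : ℤ)) := ⟨a, by ring⟩
    have := dvd_add h1 h3
    simpa [sqNorm] using this
  · -- odd case
    have h1 : (16 : ℤ) ∣ ∑ i, (x i ^ 2 - (2 * x i - 1 + 4 * br β i)) := by
      apply Finset.dvd_sum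
      intro i _
      have h2 := h.2.1 i
      rcases br_cases β i with ⟨_, hb⟩ | ⟨_, hb⟩ <;> rw [hb] at h2 ⊢
      · obtain ⟨k, hk⟩ : ∃ k, x i = 4 * k + 3 := ⟨x i / 4, by simp only [Int.ModEq] at h2; omega⟩
        rw [hk]
        exact ⟨k ^ 2 + k, by ring⟩
      · obtain ⟨k, hk⟩ : ∃ k, x i = 4 * k + 1 := ⟨x i / 4, by simp only [Int.ModEq] at h2; omega⟩
        rw [hk]
        exact ⟨k ^ 2, by ring⟩
    have hc : ∑ i : GolayPt, (1 : ℤ) = 24 := by
      simp [Finset.card_univ, card_golayPt]
    rw [Finset.sum_sub_distrib, Finset.sum_add_distrib, Finset.sum_sub_distrib, ← Finset.mul_sum,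
      ← Finset.mul_sum, sum_br, hc] at h1
    obtain ⟨a, ha⟩ := four_dvd_card h.1
    rw [ha] at h1
    push_cast at h1
    obtain ⟨b, hb⟩ : ∃ b, ∑ i, x i = 8 * b + 4 := by
      have := h.2.2
      simp only [Int.ModEq] at this
      exact ⟨(∑ i, x i) / 8, by omega⟩
    rw [hb] at h1
    have h3 : (16 : ℤ) ∣ 2 * (8 * b + 4) - 24 + 4 * (4 * (a : ℤ)) := ⟨b + a - 1, by ring⟩
    have := dvd_add h1 h3
    simpa [sqNorm] using this

/-! ### Coordinate permutations -/

theorem image_mem_codeSets {σ : Equiv.Perm GolayPt} (hσ : σ ∈ M24) {α : Finset GolayPt}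
    (hα : α ∈ codeSets) : α.image σ ∈ codeSets := by
  have h : σ • codeSets = codeSets := hσ
  rw [← h]
  refine Set.mem_smul_set.2 ⟨α, hα, ?_⟩
  rfl

theorem IsForm.perm {x : GolayPt → ℤ} {m : ℤ} {α : Finset GolayPt} (hx : IsForm x m α)
    {σ : Equiv.Perm GolayPt} (hσ : σ ∈ M24) :
    IsForm (fun i => x (σ i)) m (α.image (σ⁻¹ : Equiv.Perm GolayPt)) := by
  refine ⟨image_mem_codeSets (inv_mem hσ) hx.1, fun i => ?_, ?_⟩
  · have h : br (α.image (σ⁻¹ : Equiv.Perm GolayPt)) i = br α (σ i) := by
      simp only [br, mem_image]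
      congr 1
      apply propext
      constructor
      · rintro ⟨a, ha, rfl⟩
        simpa [Equiv.Perm.inv_def] using ha
      · intro h
        exact ⟨_, h, by simp [Equiv.Perm.inv_def]⟩
    rw [h]
    exact hx.2.1 (σ i)
  · rw [Equiv.sum_comp σ x]
    exact hx.2.2

end Cfsg.Agent.Lib.Leech
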