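import Mathlib
import Cfsg.Prelude.Def_Sporadic_a
import Cfsg.Agent.Lib.LeechSet
import Cfsg.Agent.Lib.GolayBits

set_option autoImplicit false

namespace Cfsg.Agent.Lib.LeechMin

open Cfsg Cfsg.Agent.Lib

theorem sum_ge_of_exists {x : GolayPt → ℤ} (j : GolayPt) (h9 : 9 ≤ x j ^ 2)
    (h1 : ∀ i, 1 ≤ x i ^ 2) : 32 ≤ sqNorm x := by
  unfold sqNorm
  rw [← Finset.add_sum_erase Finset.univ _ (Finset.mem_univ j)]
  have h2 : ∑ i ∈ Finset.univ.erase j, (1 : ℤ) ≤ ∑ i ∈ Finset.univ.erase j, x i ^ 2 :=
    Finset.sum_le_sum fun i _ => h1 i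
  have h3 : ∑ i ∈ (Finset.univ : Finset GolayPt).erase j, (1 : ℤ) = 23 := by
    rw [Finset.sum_const, Finset.card_erase_of_mem (Finset.mem_univ j), Finset.card_univ,
      GolayBits.card_golayPt]
    rfl
  linarith

/-- The minimal norm of the lattice. -/
theorem min_norm {x : GolayPt → ℤ} (hx : x ∈ leechSet) (h0 : x ≠ 0) : 32 ≤ sqNorm x := by
  obtain ⟨m, hm1, hm2, hm3⟩ := hx
  have hsq_nonneg : ∀ i, 0 ≤ x i ^ 2 := fun i => sq_nonneg _
  by_cases hm : m % 2 = 0
  · -- even case
    have hev : ∀ i, x i % 2 = 0 := by
      intro i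
      have := hm1 i
      simp only [Int.ModEq] at this
      omega
    have hA := GolayBits.card_of_mem_supports (hm3 2)
    set A : Finset GolayPt := Finset.univ.filter fun i => x i ≡ 2 [ZMOD 4] with hAdef
    have hmemA : ∀ i, i ∈ A ↔ x i % 4 = 2 := by
      intro i
      simp only [hAdef, Finset.mem_filter, Finset.mem_univ, true_and, Int.ModEq]
      norm_num
    by_cases hA0 : A.card = 0
    · -- all coordinates divisible by 4
      have hdiv : ∀ i, x i % 4 = 0 := by
        intro i
        have h1 := hev i
        have h2 : i ∉ A := by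
          rw [Finset.card_eq_zero] at hA0
          rw [hA0]; simp
        rw [hmemA] at h2
        omega
      obtain ⟨j, hj⟩ : ∃ j, x j ≠ 0 := by
        by_contra h
        push Not at h
        exact h0 (funext h)
      by_cases hk : ∃ k, k ≠ j ∧ x k ≠ 0
      · obtain ⟨k, hkj, hk⟩ := hk
        have sq16 : ∀ i, x i ≠ 0 → 16 ≤ x i ^ 2 := by
          intro i hi
          have h1 := hdiv i
          obtain ⟨y, hy⟩ : ∃ y, x i = 4 * y := ⟨x i / 4, by omega⟩
          have hy0 : y ≠ 0 := by
            rintro rfl
            exact hi (by simpa using hy)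
          rw [hy]
          have : 1 ≤ y ^ 2 := by
            have := sq_nonneg y
            have h2 : y ^ 2 ≠ 0 := pow_ne_zero 2 hy0
            omega
          nlinarith
        unfold sqNorm
        rw [← Finset.add_sum_erase Finset.univ _ (Finset.mem_univ j)]
        have h1 : x k ^ 2 ≤ ∑ i ∈ Finset.univ.erase j, x i ^ 2 :=
          Finset.single_le_sum (fun i _ => hsq_nonneg i) (Finset.mem_erase.mpr ⟨hkj, Finset.mem_univ k⟩)
        have h2 := sq16 j hj
        have h3 := sq16 k hk
        linarith
      · -- only one nonzero coordinate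
        push Not at hk
        have hsum : ∑ i, x i = x j := by
          rw [← Finset.add_sum_erase Finset.univ _ (Finset.mem_univ j)]
          rw [Finset.sum_eq_zero, add_zero]
          intro i hi
          exact hk i (Finset.mem_erase.mp hi).1
        have hnorm : sqNorm x = x j ^ 2 := by
          unfold sqNorm
          rw [← Finset.add_sum_erase Finset.univ _ (Finset.mem_univ j)]
          rw [Finset.sum_eq_zero, add_zero]
          intro i hi
          rw [hk i (Finset.mem_erase.mp hi).1]
          norm_num
        rw [hnorm]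
        simp only [Int.ModEq] at hm2
        rw [hsum] at hm2
        have h1 : x j % 8 = 0 := by omega
        obtain ⟨y, hy⟩ : ∃ y, x j = 8 * y := ⟨x j / 8, by omega⟩
        have hy0 : y ≠ 0 := by
          rintro rfl
          exact hj (by simpa using hy)
        rw [hy]
        have : 1 ≤ y ^ 2 := by
          have := sq_nonneg y
          have h2 : y ^ 2 ≠ 0 := pow_ne_zero 2 hy0
          omega
        nlinarith
    · -- at least 8 coordinates ≡ 2 mod 4
      have hA8 : 8 ≤ A.card := by omega
      have hsq : ∀ i ∈ A, (4 : ℤ) ≤ x i ^ 2 := by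
        intro i hi
        rw [hmemA] at hi
        obtain ⟨y, hy⟩ : ∃ y, x i = 2 * y := ⟨x i / 2, by omega⟩
        have hy0 : y ≠ 0 := by
          rintro rfl
          simp only [mul_zero] at hy
          rw [hy] at hi
          norm_num at hi
        rw [hy]
        have : 1 ≤ y ^ 2 := by
          have := sq_nonneg y
          have h2 : y ^ 2 ≠ 0 := pow_ne_zero 2 hy0
          omega
        nlinarith
      have h1 : ∑ i ∈ A, (4 : ℤ) ≤ ∑ i ∈ A, x i ^ 2 := Finset.sum_le_sum hsq
      have h2 : ∑ i ∈ A, x i ^ 2 ≤ ∑ i, x i ^ 2 :=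
        Finset.sum_le_sum_of_subset_of_nonneg (Finset.subset_univ _) (fun i _ _ => hsq_nonneg i)
      rw [Finset.sum_const, nsmul_eq_mul] at h1
      unfold sqNorm
      have h3 : (8 : ℤ) ≤ A.card := by exact_mod_cast hA8
      linarith
  · -- odd case
    have hod : ∀ i, x i % 2 = 1 := by
      intro i
      have := hm1 i
      simp only [Int.ModEq] at this
      omega
    have hsq1 : ∀ i, 1 ≤ x i ^ 2 := by
      intro i
      have h1 := hod i
      have h2 : x i ≠ 0 := by
        intro h
        rw [h] at h1
        norm_num at h1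
      have := sq_nonneg (x i)
      have h3 : x i ^ 2 ≠ 0 := pow_ne_zero 2 h2
      omega
    by_cases hbig : ∃ j, 9 ≤ x j ^ 2
    · obtain ⟨j, hj⟩ := hbig
      exact sum_ge_of_exists j hj hsq1
    · exfalso
      push Not at hbig
      have hpm : ∀ i, x i = 1 ∨ x i = -1 := by
        intro i
        have h1 := hod i
        have h2 := hbig i
        have h3 : x i < 3 := by nlinarith
        have h4 : -3 < x i := by nlinarith
        omega
      have hA := GolayBits.card_of_mem_supports (hm3 1)
      set A : Finset GolayPt := Finset.univ.filter fun i => x i ≡ 1 [ZMOD 4] with hAdef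
      have hmemA : ∀ i, i ∈ A ↔ x i = 1 := by
        intro i
        simp only [hAdef, Finset.mem_filter, Finset.mem_univ, true_and, Int.ModEq]
        rcases hpm i with h | h <;> rw [h] <;> norm_num <;> omega
      have hsum : ∑ i, x i = 2 * (A.card : ℤ) - 24 := by
        have h1 : ∀ i, x i = 2 * (if i ∈ A then 1 else 0) - 1 := by
          intro i
          by_cases hi : i ∈ A
          · rw [if_pos hi, (hmemA i).mp hi]; norm_num
          · rw [if_neg hi]
            rw [hmemA] at hi
            rcases hpm i with h | h
            · exact absurd h hi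
            · rw [h]; norm_num
        calc ∑ i, x i = ∑ i, (2 * (if i ∈ A then (1 : ℤ) else 0) - 1) :=
              Finset.sum_congr rfl fun i _ => h1 i
          _ = 2 * (A.card : ℤ) - 24 := by
              rw [Finset.sum_sub_distrib, ← Finset.mul_sum, Finset.sum_boole]
              simp [GolayBits.card_golayPt]
      simp only [Int.ModEq] at hm2
      rw [hsum] at hm2
      rcases hA with h | h | h | h | h <;> rw [h] at hm2 <;> omega

end Cfsg.Agent.Lib.LeechMin
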