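import Mathlib
import Cfsg.Prelude.Def_Sporadic_a
import Cfsg.Agent.Lib.LeechSet
import Cfsg.Agent.Lib.LeechMin

/-!
Vectors of the rank-24 lattice of small norm that are congruent modulo twice the lattice.
-/

set_option autoImplicit false

namespace Cfsg.Agent.Lib.LeechCong

open Cfsg

theorem min_norm' {x : GolayPt → ℤ} (hx : x ∈ leechLattice) (h0 : x ≠ 0) : 32 ≤ sqNorm x := by
  rw [LeechSet.mem_leechLattice_iff] at hx
  exact LeechMin.min_norm hx h0

theorem sqNorm_add_sub (a b : GolayPt → ℤ) : sqNorm (a + b) + sqNorm (a - b) = 2 * sqNorm a + 2 * sqNorm b := by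
  unfold sqNorm
  rw [← Finset.sum_add_distrib, Finset.mul_sum, Finset.mul_sum, ← Finset.sum_add_distrib]
  exact Finset.sum_congr rfl fun i _ => by simp only [Pi.add_apply, Pi.sub_apply]; ring

theorem dot_add_sub (a b : GolayPt → ℤ) : dotInt (a + b) (a - b) = sqNorm a - sqNorm b := by
  unfold dotInt sqNorm
  rw [← Finset.sum_sub_distrib]
  exact Finset.sum_congr rfl fun i _ => by simp only [Pi.add_apply, Pi.sub_apply]; ring

theorem sqNorm_neg (a : GolayPt → ℤ) : sqNorm (-a) = sqNorm a := by
  unfold sqNorm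
  exact Finset.sum_congr rfl fun i _ => by simp

/-- Main dichotomy for congruent vectors of norm at most 64. -/
theorem cong_main {v w z : GolayPt → ℤ} (hw : w ∈ leechLattice) (hz : z ∈ leechLattice)
    (hvn : sqNorm v ≤ 64) (hwn : sqNorm w ≤ 64) (hc : v - w = (2 : ℕ) • z) :
    v = w ∨ v = -w ∨ (sqNorm v = 64 ∧ sqNorm w = 64 ∧ dotInt v w = 0) := by
  by_cases hz0 : z = 0
  · left
    rw [hz0, smul_zero] at hc
    exact sub_eq_zero.mp hc
  set a := w + z with ha
  have hv : v = a + z := by
    have : v = w + (2 : ℕ) • z := by rw [← hc]; abel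
    rw [this, ha, two_nsmul]; abel
  have hw' : w = a - z := by rw [ha]; abel
  by_cases ha0 : a = 0
  · right; left
    rw [hv, hw', ha0]
    simp
  right; right
  have h1 := min_norm' (add_mem hw hz) ha0
  have h2 := min_norm' hz hz0
  have h3 := sqNorm_add_sub a z
  rw [← hv, ← hw'] at h3
  have h4 : sqNorm v = 64 := by linarith
  have h5 : sqNorm w = 64 := by linarith
  refine ⟨h4, h5, ?_⟩
  have h6 := dot_add_sub a z
  rw [← hv, ← hw'] at h6
  rw [h6]
  linarith

end Cfsg.Agent.Lib.LeechCong
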