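import Mathlib
import Cfsg.Prelude.Def_Spor_Conway
import Cfsg.Agent.Lib.Leech
import Cfsg.Agent.Lib.LeechCong

/-!
Reduction of the automorphism group of the rank-24 lattice modulo 13.
-/

set_option autoImplicit false

namespace Cfsg.Agent.Lib.Co0Mod

open Cfsg Cfsg.Agent.Lib.Leech Matrix

/-- Reduction modulo 13. -/
def red (z : GolayPt → ℤ) : GolayPt → ZMod 13 := fun i => (z i : ZMod 13)

theorem red_add (a b : GolayPt → ℤ) : red (a + b) = red a + red b := by
  funext i; simp [red]

theorem red_smul (k : ℤ) (a : GolayPt → ℤ) : red (k • a) = (k : ZMod 13) • red a := by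
  funext i; simp [red]

theorem red_surj (x : GolayPt → ZMod 13) : ∃ z, red z = x := by
  refine ⟨fun i => ((x i).val : ℤ), ?_⟩
  funext i
  simp [red]

/-- Unit vectors. -/
def uv (j : GolayPt) : GolayPt → ℤ := fun i => if i = j then 1 else 0

theorem eight_smul_mem (y : GolayPt → ℤ) : (8 : ℤ) • y ∈ leechLattice := by
  rw [mem_leechLattice_iff]
  refine ⟨0, ∅, empty_mem_codeSets, fun i => ?_, ?_⟩
  · simp only [br, Finset.notMem_empty, if_false, Int.ModEq, Pi.smul_apply, smul_eq_mul]
    omega
  · simp only [Pi.smul_apply, smul_eq_mul, ← Finset.mul_sum, Int.ModEq]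
    omega

theorem saturated {z : GolayPt → ℤ} (h : (13 : ℤ) • z ∈ leechLattice) : z ∈ leechLattice := by
  have e : z = (5 : ℤ) • ((13 : ℤ) • z) - (8 : ℤ) • ((8 : ℤ) • z) := by
    funext i
    simp only [Pi.sub_apply, Pi.smul_apply, smul_eq_mul]
    ring
  rw [e]
  exact sub_mem (zsmul_mem h _) (eight_smul_mem _)

/-- An element of the group as an additive map. -/
def addOf (g : Co0) : leechLattice →+ leechLattice :=
  AddMonoidHom.mk' (g : Equiv.Perm leechLattice) g.2.1

theorem addOf_apply (g : Co0) (v : leechLattice) : addOf g v = (g : Equiv.Perm leechLattice) v := rfl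

/-- The image of a vector of the lattice, as a vector. -/
def img (g : Co0) (v : leechLattice) : GolayPt → ℤ := ((g : Equiv.Perm leechLattice) v : leechLattice)

theorem sqNorm_add' (a b : GolayPt → ℤ) : sqNorm (a + b) = sqNorm a + sqNorm b + 2 * dotInt a b := by
  unfold sqNorm dotInt
  rw [Finset.mul_sum, ← Finset.sum_add_distrib, ← Finset.sum_add_distrib]
  exact Finset.sum_congr rfl fun i _ => by simp only [Pi.add_apply]; ring

/-- Automorphisms preserve the inner product. -/
theorem dot_img (g : Co0) (v w : leechLattice) :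
    dotInt (img g v) (img g w) = dotInt (v : GolayPt → ℤ) (w : GolayPt → ℤ) := by
  have h1 := g.2.2 (v + w)
  rw [g.2.1 v w] at h1
  have h2 := sqNorm_add' (img g v) (img g w)
  have h3 := sqNorm_add' (v : GolayPt → ℤ) w
  have h4 := g.2.2 v
  have h5 := g.2.2 w
  have h6 : sqNorm (img g v + img g w) = sqNorm ((v + w : leechLattice) : GolayPt → ℤ) := h1
  have h7 : ((v + w : leechLattice) : GolayPt → ℤ) = (v : GolayPt → ℤ) + w := rfl
  rw [h7] at h6
  have h8 : sqNorm (img g v) = sqNorm (v : GolayPt → ℤ) := h4
  have h9 : sqNorm (img g w) = sqNorm (w : GolayPt → ℤ) := h5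
  linarith

/-- The lattice vector `8 y`. -/
def eightV (y : GolayPt → ℤ) : leechLattice := ⟨(8 : ℤ) • y, eight_smul_mem y⟩

/-- The matrix of an element modulo 13. -/
def M (g : Co0) : Matrix GolayPt GolayPt (ZMod 13) :=
  fun i j => 5 * (img g (eightV (uv j)) i : ZMod 13)

theorem five_eight : (5 : ZMod 13) * 8 = 1 := by decide

theorem img_add (g : Co0) (v w : leechLattice) : img g (v + w) = img g v + img g w := by
  unfold img
  rw [g.2.1 v w]
  rfl

theorem img_zsmul (g : Co0) (k : ℤ) (v : leechLattice) : img g (k • v) = k • img g v := by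
  have h := map_zsmul (addOf g) k v
  unfold img
  rw [← addOf_apply, h]
  rfl

theorem img_sum (g : Co0) (s : Finset GolayPt) (f : GolayPt → leechLattice) :
    img g (∑ j ∈ s, f j) = ∑ j ∈ s, img g (f j) := by
  have h := map_sum (addOf g) f s
  unfold img
  rw [← addOf_apply, h]
  simp [addOf_apply]

theorem eightV_decomp (v : GolayPt → ℤ) : eightV v = ∑ j, (v j) • eightV (uv j) := by
  apply Subtype.ext
  funext i
  show 8 * v i = _
  have h : ((∑ j, (v j) • eightV (uv j) : leechLattice) : GolayPt → ℤ) i =
      ∑ j, v j * (8 * uv j i) := by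
    rw [AddSubgroup.val_finsetSum, Finset.sum_apply]
    rfl
  rw [h, Finset.sum_eq_single i]
  · simp [uv]; ring
  · intro j _ hj
    simp [uv, hj.symm]
  · simp

theorem eightV_lat (v : leechLattice) : eightV v = (8 : ℤ) • v := by
  apply Subtype.ext
  rfl

/-- The matrix acts on reductions of lattice vectors as expected. -/
theorem M_mulVec (g : Co0) (v : leechLattice) : M g *ᵥ red v = red (img g v) := by
  funext i
  have h1 : img g (eightV v) = (8 : ℤ) • img g v := by
    rw [eightV_lat, img_zsmul]
  have h2 : img g (eightV v) = ∑ j, (v.1 j) • img g (eightV (uv j)) := by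
    rw [eightV_decomp, img_sum]
    exact Finset.sum_congr rfl fun j _ => img_zsmul _ _ _
  have h3 := congrFun (h1.symm.trans h2) i
  simp only [Pi.smul_apply, smul_eq_mul, Finset.sum_apply] at h3
  have h4 := congrArg (Int.cast : ℤ → ZMod 13) h3
  push_cast at h4
  show ∑ j, M g i j * red v j = (img g v i : ZMod 13)
  simp only [M, red]
  have h5 : ∑ j, 5 * (img g (eightV (uv j)) i : ZMod 13) * (v.1 j : ZMod 13) =
      5 * ∑ j, (v.1 j : ZMod 13) * (img g (eightV (uv j)) i : ZMod 13) := by
    rw [Finset.mul_sum]
    exact Finset.sum_congr rfl fun j _ => by ring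
  rw [h5, ← h4, ← mul_assoc, five_eight, one_mul]

theorem M_one : M 1 = 1 := by
  ext i j
  show 5 * ((((8 : ℤ) • uv j) i : ℤ) : ZMod 13) = (1 : Matrix GolayPt GolayPt (ZMod 13)) i j
  simp only [Pi.smul_apply, smul_eq_mul, uv, Matrix.one_apply]
  by_cases h : i = j
  · simp only [h, if_true]
    decide
  · simp [h]

theorem M_mul (g h : Co0) : M (g * h) = M g * M h := by
  ext i j
  have h1 : (M h).col j = red ((5 : ℤ) • img h (eightV (uv j))) := by
    funext k
    show M h k j = _
    simp [M, red]
  have h2 := M_mulVec g ((5 : ℤ) • ((h : Equiv.Perm leechLattice) (eightV (uv j))))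
  have h3 : ((((5 : ℤ) • ((h : Equiv.Perm leechLattice) (eightV (uv j))) : leechLattice)) : GolayPt → ℤ)
      = (5 : ℤ) • img h (eightV (uv j)) := rfl
  rw [h3, ← h1, img_zsmul] at h2
  have h4 := congrFun h2 i
  have h5 : (M g * M h) i j = (M g *ᵥ (M h).col j) i := rfl
  rw [h5, h4]
  simp [M, red, img]

/-- The representation modulo 13. -/
def Mhom : Co0 →* Matrix GolayPt GolayPt (ZMod 13) where
  toFun := M
  map_one' := M_one
  map_mul' := M_mul

/-- The matrices preserve the dot product. -/
theorem M_dot (g : Co0) (x y : GolayPt → ZMod 13) : (M g *ᵥ x) ⬝ᵥ (M g *ᵥ y) = x ⬝ᵥ y := by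
  obtain ⟨z, rfl⟩ := red_surj x
  obtain ⟨w, rfl⟩ := red_surj y
  have hz : red z = (5 : ZMod 13) • red (eightV z) := by
    funext i
    simp only [red, eightV, Pi.smul_apply, smul_eq_mul]
    push_cast
    rw [← mul_assoc, five_eight, one_mul]
  have hw : red w = (5 : ZMod 13) • red (eightV w) := by
    funext i
    simp only [red, eightV, Pi.smul_apply, smul_eq_mul]
    push_cast
    rw [← mul_assoc, five_eight, one_mul]
  have hdot : ∀ a b : GolayPt → ℤ, red a ⬝ᵥ red b = (dotInt a b : ZMod 13) := by
    intro a b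
    simp [red, dotInt, dotProduct]
  have h1 := dot_img g (eightV z) (eightV w)
  have h2 : (M g *ᵥ red z) ⬝ᵥ (M g *ᵥ red w) = (5 : ZMod 13) * 5 * (dotInt (img g (eightV z)) (img g (eightV w)) : ZMod 13) := by
    nth_rewrite 1 [hz]
    nth_rewrite 1 [hw]
    rw [Matrix.mulVec_smul, Matrix.mulVec_smul, M_mulVec, M_mulVec, smul_dotProduct, dotProduct_smul, hdot]
    simp [mul_assoc]
  rw [h2, h1]
  have h3 : red z ⬝ᵥ red w = (5 : ZMod 13) * 5 * (dotInt (eightV z : GolayPt → ℤ) (eightV w : GolayPt → ℤ) : ZMod 13) := by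
    nth_rewrite 1 [hz]
    nth_rewrite 1 [hw]
    rw [smul_dotProduct, dotProduct_smul, hdot]
    simp [mul_assoc]
  rw [h3]

/-! ### Fixing everything modulo 13 means fixing small vectors -/

theorem sqNorm_sub_le (a b : GolayPt → ℤ) : sqNorm (a - b) ≤ 2 * sqNorm a + 2 * sqNorm b := by
  have h := LeechCong.sqNorm_add_sub a b
  have h2 : 0 ≤ sqNorm (a + b) := Finset.sum_nonneg fun i _ => sq_nonneg _
  linarith

theorem sqNorm_smul (k : ℤ) (a : GolayPt → ℤ) : sqNorm (k • a) = k ^ 2 * sqNorm a := by
  unfold sqNorm
  rw [Finset.mul_sum]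
  exact Finset.sum_congr rfl fun i _ => by simp only [Pi.smul_apply, smul_eq_mul]; ring

theorem fix_small {h : Co0} (hM : M h = 1) (v : leechLattice) (hv : sqNorm (v : GolayPt → ℤ) < 1352) :
    (h : Equiv.Perm leechLattice) v = v := by
  have h1 := M_mulVec h v
  rw [hM, Matrix.one_mulVec] at h1
  have hdvd : ∀ i, (13 : ℤ) ∣ img h v i - v.1 i := by
    intro i
    have := congrFun h1 i
    simp only [red] at this
    have h2 : ((img h v i - v.1 i : ℤ) : ZMod 13) = 0 := by
      push_cast
      rw [← this, sub_self]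
    exact_mod_cast (ZMod.intCast_zmod_eq_zero_iff_dvd _ 13).1 h2
  choose t ht using hdvd
  have hsm : img h v - v.1 = (13 : ℤ) • t := by
    funext i
    simp only [Pi.sub_apply, Pi.smul_apply, smul_eq_mul]
    exact ht i
  have hmem : (13 : ℤ) • t ∈ leechLattice := by
    rw [← hsm]
    exact sub_mem ((h : Equiv.Perm leechLattice) v).2 v.2
  have htL := saturated hmem
  by_cases ht0 : t = 0
  · apply Subtype.ext
    have : img h v - v.1 = 0 := by rw [hsm, ht0, smul_zero]
    exact sub_eq_zero.1 this
  · exfalso
    have h2 := LeechCong.min_norm' htL ht0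
    have h3 := sqNorm_sub_le (img h v) v.1
    have h4 : sqNorm (img h v) = sqNorm v.1 := h.2.2 v
    rw [hsm, sqNorm_smul, h4] at h3
    nlinarith

/-- The additive subgroup of lattice vectors fixed by an element. -/
def fixedSub (h : Co0) : AddSubgroup (GolayPt → ℤ) where
  carrier := {x | ∃ hx : x ∈ leechLattice, (h : Equiv.Perm leechLattice) ⟨x, hx⟩ = ⟨x, hx⟩}
  zero_mem' := by
    refine ⟨zero_mem _, ?_⟩
    have := map_zero (addOf h)
    exact this
  add_mem' := by
    rintro a b ⟨ha, ha'⟩ ⟨hb, hb'⟩
    refine ⟨add_mem ha hb, ?_⟩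
    have := h.2.1 ⟨a, ha⟩ ⟨b, hb⟩
    rw [ha', hb'] at this
    exact this
  neg_mem' := by
    rintro a ⟨ha, ha'⟩
    refine ⟨neg_mem ha, ?_⟩
    have := map_neg (addOf h) ⟨a, ha⟩
    rw [addOf_apply, addOf_apply, ha'] at this
    exact this

theorem mem_fixedSub_of_small {h : Co0} (hM : M h = 1) {x : GolayPt → ℤ} (hx : x ∈ leechLattice)
    (hn : sqNorm x < 1352) : x ∈ fixedSub h :=
  ⟨hx, fix_small hM ⟨x, hx⟩ hn⟩

/-- Small vectors used below. -/
def tv (i j : GolayPt) : ℤ := 4 * uv i j + 4 * uv none j

theorem tv_sum : ∀ i, ∑ j, tv i j = 8 := by decide +kernel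

theorem tv_norm : ∀ i, sqNorm (tv i) ≤ 64 := by decide +kernel

/-- The matrix determines the element. -/
theorem eq_one_of_M {h : Co0} (hM : M h = 1) : h = 1 := by
  have hall : ∀ x ∈ leechLattice, x ∈ fixedSub h := by
    -- the even case
    have heven : ∀ (x : GolayPt → ℤ) (β : Finset GolayPt), IsForm x 0 β → x ∈ fixedSub h := by
      intro x β hx
      set w : GolayPt → ℤ := fun i => 2 * br β i with hw
      have hwF : IsForm w 0 β := by
        refine ⟨hx.1, fun i => ?_, ?_⟩
        · simp [hw, Int.ModEq]
        · simp only [hw]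
          rw [← Finset.mul_sum, sum_br]
          obtain ⟨a, ha⟩ := four_dvd_card hx.1
          rw [ha]
          simp only [Int.ModEq]
          push_cast
          omega
      have hwL : w ∈ leechLattice := mem_leechLattice_iff.2 ⟨_, _, hwF⟩
      have hwn : sqNorm w < 1352 := by
        have h1 : sqNorm w ≤ ∑ _i : GolayPt, (4 : ℤ) := by
          apply Finset.sum_le_sum
          intro i _
          rcases br_cases β i with ⟨_, hb⟩ | ⟨_, hb⟩ <;> simp [hw, hb]
        have h2 : ∑ _i : GolayPt, (4 : ℤ) = 96 := by
          simp [Finset.card_univ]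
        omega
      have hwf := mem_fixedSub_of_small hM hwL hwn
      -- the difference is four times a vector of even sum
      have hdiv : ∀ i, (4 : ℤ) ∣ x i - w i := by
        intro i
        have := hx.2.1 i
        simp only [hw]
        simp only [Int.ModEq] at this
        omega
      choose y hy using hdiv
      have hsum : (2 : ℤ) ∣ ∑ i, y i := by
        have h1 : ∑ i, x i - ∑ i, w i = 4 * ∑ i, y i := by
          rw [← Finset.sum_sub_distrib, Finset.mul_sum]
          exact Finset.sum_congr rfl fun i _ => hy i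
        have h2 := hx.2.2
        have h3 := hwF.2.2
        simp only [Int.ModEq] at h2 h3
        omega
      obtain ⟨k, hk⟩ := hsum
      have htL : ∀ i, tv i ∈ fixedSub h := by
        intro i
        apply mem_fixedSub_of_small hM
        · rw [mem_leechLattice_iff]
          refine ⟨0, ∅, empty_mem_codeSets, fun j => ?_, ?_⟩
          · simp only [tv, br, Finset.notMem_empty, if_false, Int.ModEq]
            omega
          · rw [tv_sum i]
            decide
        · have := tv_norm i
          omega
      have hd : x = w + (∑ i, y i • tv i - k • (tv none)) := by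
        funext j
        simp only [Pi.add_apply, Pi.sub_apply, Finset.sum_apply, Pi.smul_apply, smul_eq_mul]
        have h1 : ∑ i, y i * tv i j = 4 * y j + 4 * uv none j * ∑ i, y i := by
          simp only [tv, mul_add]
          rw [Finset.sum_add_distrib, Finset.sum_eq_single j]
          · rw [Finset.mul_sum]
            congr 1
            · simp [uv]; ring
            · exact Finset.sum_congr rfl fun i _ => by ring
          · intro i _ hi
            simp [uv, hi.symm]
          · simp
        rw [h1, hk]
        have e : tv none j = 8 * uv none j := by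
          simp only [tv]; ring
        rw [e]
        have h2 := hy j
        linear_combination h2
      rw [hd]
      refine add_mem hwf (sub_mem (sum_mem fun i _ => zsmul_mem (htL i) _) (zsmul_mem (htL none) _))
    intro x hx
    obtain ⟨m, α, hF⟩ := mem_leechLattice_iff.1 hx
    obtain ⟨β, hF | hF⟩ := hF.normal
    · exact heven x β hF
    · -- the odd case
      set z₀ : GolayPt → ℤ := fun i => if i = none then -3 else 1 with hz
      have hzF : IsForm z₀ 1 ∅ := by
        refine ⟨empty_mem_codeSets, fun i => ?_, ?_⟩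
        · simp only [hz, br, Finset.notMem_empty, if_false, Int.ModEq]
          split_ifs <;> norm_num
        · have h1 : ∑ i, z₀ i = 20 := by decide +kernel
          rw [h1]
          decide
      have hzL : z₀ ∈ leechLattice := mem_leechLattice_iff.2 ⟨_, _, hzF⟩
      have hzn : sqNorm z₀ < 1352 := by
        have h1 : sqNorm z₀ = 32 := by decide +kernel
        omega
      have hzf := mem_fixedSub_of_small hM hzL hzn
      have h2 := hF.add hzF.neg
      have h3 : IsForm (x + -z₀) 0 (symmDiff β ∅) := by
        have : (1 : ℤ) + -1 = 0 := by norm_num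
        rw [this] at h2
        exact h2
      have h4 := heven _ _ h3
      have h5 := add_mem h4 hzf
      rwa [neg_add_cancel_right] at h5
  apply Subtype.ext
  apply Equiv.ext
  intro v
  obtain ⟨hx, hfix⟩ := hall v.1 v.2
  exact hfix

end Cfsg.Agent.Lib.Co0Mod
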