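import Mathlib
import Cfsg.Agent.Lib.LargeExtra

/-!
# Recognizing extraspecial subgroups of an extraspecial 2-group
-/

set_option autoImplicit false

open Cfsg
open scoped commutatorElement

namespace Cfsg.Agent.Lib.LargeExtra2

open Cfsg.Agent.Lib.LargeExtra

variable {G : Type*} [Group G]

/-- A subgroup `S` of an extraspecial 2-group `Q` containing `z`, non-abelian, with centre
`{1, z}`, is extraspecial. -/
theorem extraspecial_of_sub [Finite G] {Q S : Subgroup G} {z : G} (hE : ExtraAt Q z) (hSQ : S ≤ Q)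
    (hnc : ∃ x ∈ S, ∃ y ∈ S, x * y * x⁻¹ * y⁻¹ ≠ 1)
    (hcen : ∀ x ∈ S, (∀ y ∈ S, x * y = y * x) → x = 1 ∨ x = z) : IsExtraspecial 2 S := by
  have : Fact (Nat.Prime 2) := ⟨Nat.prime_two⟩
  obtain ⟨a, ha, b, hb, hab⟩ := hnc
  have hzS : z ∈ S := by
    rcases hE.comm a (hSQ ha) b (hSQ hb) with h | h
    · exact absurd h hab
    · rw [← h]
      exact S.mul_mem (S.mul_mem (S.mul_mem ha hb) (S.inv_mem ha)) (S.inv_mem hb)
  have hz1 : z ≠ 1 := hE.ne_one
  have h2 : IsPGroup 2 S := hE.two.to_le hSQ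
  have hzc : (⟨z, hzS⟩ : S) ∈ Subgroup.center S := by
    rw [Subgroup.mem_center_iff]
    rintro ⟨y, hy⟩
    exact Subtype.ext (hE.cen y (hSQ hy))
  have hcenmem : ∀ x : S, x ∈ Subgroup.center S ↔ (x : G) = 1 ∨ (x : G) = z := by
    rintro ⟨x, hx⟩
    constructor
    · intro h
      apply hcen x hx
      intro y hy
      have := (Subgroup.mem_center_iff.mp h) ⟨y, hy⟩
      exact (congrArg Subtype.val this).symm
    · rintro (h | h)
      · have : (⟨x, hx⟩ : S) = 1 := Subtype.ext h
        rw [this]; exact Subgroup.one_mem _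
      · have : (⟨x, hx⟩ : S) = ⟨z, hzS⟩ := Subtype.ext h
        rw [this]; exact hzc
  have hcomm_le : commutator S ≤ Subgroup.center S := by
    rw [commutator_def, Subgroup.commutator_le]
    rintro ⟨x, hx⟩ - ⟨y, hy⟩ -
    rw [hcenmem]
    exact hE.comm x (hSQ hx) y (hSQ hy)
  have hle_comm : Subgroup.center S ≤ commutator S := by
    intro x hx
    rcases (hcenmem x).mp hx with h | h
    · have : x = 1 := Subtype.ext h
      rw [this]; exact Subgroup.one_mem _
    · have h3 : x = ⁅(⟨a, ha⟩ : S), (⟨b, hb⟩ : S)⁆ := by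
        apply Subtype.ext
        rw [h]
        show z = a * b * a⁻¹ * b⁻¹
        rcases hE.comm a (hSQ ha) b (hSQ hb) with h4 | h4
        · exact absurd h4 hab
        · exact h4.symm
      rw [h3, commutator_def]
      exact Subgroup.commutator_mem_commutator (Subgroup.mem_top _) (Subgroup.mem_top _)
  have hfr_le : frattini S ≤ Subgroup.center S := by
    apply Cfsg.Agent.Lib.Frat.frattini_le_of_commutator_pow (p := 2) _ hcomm_le
    rintro ⟨x, hx⟩
    rw [hcenmem]
    exact hE.sq x (hSQ hx)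
  have hle_fr : Subgroup.center S ≤ frattini S :=
    hle_comm.trans (Cfsg.Agent.Lib.Frat.commutator_le_frattini h2)
  refine ⟨⟨h2, le_antisymm hfr_le hle_fr, le_antisymm hcomm_le hle_comm⟩, ?_⟩
  refine (Nat.card_eq_two_iff' (1 : Subgroup.center S)).mpr ⟨⟨⟨z, hzS⟩, hzc⟩, ?_, ?_⟩
  · intro h
    apply hz1
    have := congrArg (fun x : Subgroup.center S => ((x : S) : G)) h
    simpa using this
  · rintro ⟨⟨x, hxS⟩, hx⟩ hne
    have h3 := (hcenmem ⟨x, hxS⟩).mp hx
    rcases h3 with h4 | h4
    · exfalso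
      apply hne
      apply Subtype.ext
      apply Subtype.ext
      simpa using h4
    · apply Subtype.ext
      apply Subtype.ext
      simpa using h4

end Cfsg.Agent.Lib.LargeExtra2
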