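import Mathlib
import Cfsg.Agent.Lib.LargeFour

/-!
# The two extraspecial subgroups `Q`, `g Q g⁻¹` with `g z g⁻¹ ∈ Q`, `z ∈ g Q g⁻¹`
-/

set_option autoImplicit false

open Cfsg

namespace Cfsg.Agent.Lib.LargePair

open Cfsg.Agent.Lib.LargeExtra Cfsg.Agent.Lib.LargeFour

variable {G : Type*} [Group G]

/-- Commutators and squares of a generated subgroup, modulo a subgroup normalized by generators. -/
theorem comm_sq_of_closure {E : Subgroup G} {S : Set G}
    (hn : ∀ x ∈ S, ∀ e ∈ E, x * e * x⁻¹ ∈ E ∧ x⁻¹ * e * x ∈ E)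
    (hc : ∀ x ∈ S, ∀ y ∈ S, x * y * x⁻¹ * y⁻¹ ∈ E) (hs : ∀ x ∈ S, x ^ 2 ∈ E) :
    (∀ x ∈ Subgroup.closure S, ∀ y ∈ Subgroup.closure S, x * y * x⁻¹ * y⁻¹ ∈ E) ∧
      ∀ x ∈ Subgroup.closure S, x ^ 2 ∈ E := by
  have hN : ∀ x ∈ Subgroup.closure S, (∀ e ∈ E, x * e * x⁻¹ ∈ E) ∧ (∀ e ∈ E, x⁻¹ * e * x ∈ E) := by
    intro x hx
    induction hx using Subgroup.closure_induction with
    | mem x hx => exact ⟨fun e he => (hn x hx e he).1, fun e he => (hn x hx e he).2⟩
    | one => simp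
    | mul a b _ _ ha hb =>
      refine ⟨fun e he => ?_, fun e he => ?_⟩
      · have := ha.1 _ (hb.1 e he)
        have h : a * b * e * (a * b)⁻¹ = a * (b * e * b⁻¹) * a⁻¹ := by group
        rwa [h]
      · have := hb.2 _ (ha.2 e he)
        have h : (a * b)⁻¹ * e * (a * b) = b⁻¹ * (a⁻¹ * e * a) * b := by group
        rwa [h]
    | inv a _ ha =>
      refine ⟨fun e he => ?_, fun e he => ?_⟩
      · simpa using ha.2 e he
      · simpa using ha.1 e he
  have h2 : ∀ x ∈ Subgroup.closure S, ∀ y ∈ S, x * y * x⁻¹ * y⁻¹ ∈ E := by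
    intro x hx y hy
    induction hx using Subgroup.closure_induction with
    | mem x hx => exact hc x hx y hy
    | one => simp [E.one_mem]
    | mul a b ha' _ ha hb =>
      have h : a * b * y * (a * b)⁻¹ * y⁻¹ =
          (a * (b * y * b⁻¹ * y⁻¹) * a⁻¹) * (a * y * a⁻¹ * y⁻¹) := by group
      rw [h]
      exact E.mul_mem ((hN a ha').1 _ hb) ha
    | inv a ha' ha =>
      have h : a⁻¹ * y * a⁻¹⁻¹ * y⁻¹ = a⁻¹ * (a * y * a⁻¹ * y⁻¹)⁻¹ * a := by group
      rw [h]
      exact (hN a ha').2 _ (E.inv_mem ha)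
  refine ⟨?_, ?_⟩
  · intro x hx y hy
    induction hy using Subgroup.closure_induction with
    | mem y hy => exact h2 x hx y hy
    | one => simp [E.one_mem]
    | mul a b ha' _ ha hb =>
      have h : x * (a * b) * x⁻¹ * (a * b)⁻¹ =
          (x * a * x⁻¹ * a⁻¹) * (a * (x * b * x⁻¹ * b⁻¹) * a⁻¹) := by group
      rw [h]
      exact E.mul_mem ha ((hN a ha').1 _ hb)
    | inv a ha' ha =>
      have h : x * a⁻¹ * x⁻¹ * a⁻¹⁻¹ = a⁻¹ * (x * a * x⁻¹ * a⁻¹)⁻¹ * a := by group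
      rw [h]
      exact (hN a ha').2 _ (E.inv_mem ha)
  · intro x hx
    have h3 : ∀ x ∈ Subgroup.closure S, ∀ y ∈ Subgroup.closure S, x * y * x⁻¹ * y⁻¹ ∈ E := by
      intro x hx y hy
      induction hy using Subgroup.closure_induction with
      | mem y hy => exact h2 x hx y hy
      | one => simp [E.one_mem]
      | mul a b ha' _ ha hb =>
        have h : x * (a * b) * x⁻¹ * (a * b)⁻¹ =
            (x * a * x⁻¹ * a⁻¹) * (a * (x * b * x⁻¹ * b⁻¹) * a⁻¹) := by group
        rw [h]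
        exact E.mul_mem ha ((hN a ha').1 _ hb)
      | inv a ha' ha =>
        have h : x * a⁻¹ * x⁻¹ * a⁻¹⁻¹ = a⁻¹ * (x * a * x⁻¹ * a⁻¹)⁻¹ * a := by group
        rw [h]
        exact (hN a ha').2 _ (E.inv_mem ha)
    induction hx using Subgroup.closure_induction with
    | mem x hx => exact hs x hx
    | one => simp [E.one_mem]
    | mul a b ha' hb' ha hb =>
      have h : (a * b) ^ 2 = a ^ 2 * (a⁻¹ * b * a⁻¹⁻¹ * b⁻¹) * b ^ 2 := by
        simp only [pow_two]; group
      rw [h]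
      exact E.mul_mem (E.mul_mem ha (h3 _ (Subgroup.inv_mem _ ha') _ hb')) hb
    | inv a _ ha =>
      have h : a⁻¹ ^ 2 = (a ^ 2)⁻¹ := by group
      rw [h]
      exact E.inv_mem ha

/-- Data of the pair. -/
structure PairS (Q Q' : Subgroup G) (z s g : G) : Prop where
  hS : Setting Q z
  hS' : Setting Q' s
  hsQ : s ∈ Q
  hzQ' : z ∈ Q'
  hne : s ≠ z
  hg : g * z * g⁻¹ = s
  hQ' : Q' = Q.map (MulAut.conj g).toMonoidHom

theorem map_conj_inv_map_conj (Q : Subgroup G) (g : G) :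
    (Q.map (MulAut.conj g).toMonoidHom).map (MulAut.conj g⁻¹).toMonoidHom = Q := by
  ext x
  simp only [Subgroup.mem_map, MulEquiv.coe_toMonoidHom, MulAut.conj_apply]
  constructor
  · rintro ⟨_, ⟨y, hy, rfl⟩, rfl⟩
    simpa [mul_assoc] using hy
  · intro hx
    exact ⟨g * x * g⁻¹, ⟨x, hx, rfl⟩, by group⟩

namespace PairS

variable {Q Q' : Subgroup G} {z s g : G}

theorem symm (P : PairS Q Q' z s g) : PairS Q' Q s z g⁻¹ where
  hS := P.hS'
  hS' := P.hS
  hsQ := P.hzQ'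
  hzQ' := P.hsQ
  hne := P.hne.symm
  hg := by rw [← P.hg]; group
  hQ' := by rw [P.hQ', map_conj_inv_map_conj]

theorem exists_of [Finite G] (hS : Setting Q z) (h32 : 32 ≤ Nat.card Q)
    (hgQ : g * z * g⁻¹ ∈ Q) (hne : g * z * g⁻¹ ≠ z) :
    PairS Q (Q.map (MulAut.conj g).toMonoidHom) z (g * z * g⁻¹) g where
  hS := hS
  hS' := hS.conj g
  hsQ := hgQ
  hzQ' := hS.mem_conj h32 hgQ hne
  hne := hne
  hg := rfl
  hQ' := rfl

theorem zs (P : PairS Q Q' z s g) : z * s = s * z := (P.hS.extra.cen s P.hsQ).symm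

theorem zz (P : PairS Q Q' z s g) : z * z = 1 := P.hS.extra.sq_eq

theorem ss (P : PairS Q Q' z s g) : s * s = 1 := P.hS'.extra.sq_eq

theorem z1 (P : PairS Q Q' z s g) : z ≠ 1 := P.hS.extra.ne_one

theorem s1 (P : PairS Q Q' z s g) : s ≠ 1 := P.hS'.extra.ne_one

/-- Elements of `Q ⊓ Q'` are commuting involutions. -/
theorem inter_sq (P : PairS Q Q' z s g) {e : G} (he : e ∈ Q) (he' : e ∈ Q') : e ^ 2 = 1 := by
  rcases P.hS.extra.sq e he with h | h
  · exact h
  · rcases P.hS'.extra.sq e he' with h' | h'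
    · exact h'
    · exact absurd (h'.symm.trans h) P.hne

theorem inter_comm (P : PairS Q Q' z s g) {e f : G} (he : e ∈ Q) (he' : e ∈ Q') (hf : f ∈ Q)
    (hf' : f ∈ Q') : e * f = f * e := by
  rcases P.hS.extra.comm e he f hf with h | h
  · exact comm_of_conj_eq (mul_inv_eq_one.mp h)
  · rcases P.hS'.extra.comm e he' f hf' with h' | h'
    · exact comm_of_conj_eq (mul_inv_eq_one.mp h')
    · exact absurd (h'.symm.trans h) P.hne

/-- `[x, y] ∈ E` for `x ∈ C_Q(s)`, `y ∈ C_{Q'}(z)`: in `Q`. -/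
theorem comm_mem_left (P : PairS Q Q' z s g) {x y : G} (hx : x ∈ Q)
    (hy : y * z = z * y) : x * y * x⁻¹ * y⁻¹ ∈ Q := by
  have h1 : y * x⁻¹ * y⁻¹ ∈ Q := P.hS.nQ y hy _ (Q.inv_mem hx)
  have h2 : x * y * x⁻¹ * y⁻¹ = x * (y * x⁻¹ * y⁻¹) := by group
  rw [h2]
  exact Q.mul_mem hx h1

theorem comm_mem_right (P : PairS Q Q' z s g) {x y : G} (hy : y ∈ Q')
    (hx : x * s = s * x) : x * y * x⁻¹ * y⁻¹ ∈ Q' :=
  Q'.mul_mem (P.hS'.nQ x hx y hy) (Q'.inv_mem hy)

theorem comm_mem_inter (P : PairS Q Q' z s g) {x y : G} (hx : x ∈ Q) (hxs : x * s = s * x)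
    (hy : y ∈ Q') (hyz : y * z = z * y) :
    x * y * x⁻¹ * y⁻¹ ∈ Q ⊓ Q' :=
  ⟨P.comm_mem_left hx hyz, P.comm_mem_right hy hxs⟩

theorem z_mem_inter (P : PairS Q Q' z s g) : z ∈ Q ⊓ Q' := ⟨P.hS.extra.mem, P.hzQ'⟩

theorem s_mem_inter (P : PairS Q Q' z s g) : s ∈ Q ⊓ Q' := ⟨P.hsQ, P.hS'.extra.mem⟩

/-- `Q` normalizes `E`. -/
theorem conj_mem_inter (P : PairS Q Q' z s g) {q e : G} (hq : q ∈ Q) (he : e ∈ Q ⊓ Q') :
    q * e * q⁻¹ ∈ Q ⊓ Q' := by
  rcases P.hS.extra.comm q hq e he.1 with h | h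
  · have := mul_inv_eq_one.mp h
    rw [this]; exact he
  · have h2 : q * e * q⁻¹ = z * e := by
      calc q * e * q⁻¹ = (q * e * q⁻¹ * e⁻¹) * e := by group
        _ = z * e := by rw [h]
    rw [h2]
    exact Subgroup.mul_mem _ P.z_mem_inter he

theorem conj_mem_inter' (P : PairS Q Q' z s g) {q e : G} (hq : q ∈ Q') (he : e ∈ Q ⊓ Q') :
    q * e * q⁻¹ ∈ Q ⊓ Q' := by
  rcases P.hS'.extra.comm q hq e he.2 with h | h
  · have := mul_inv_eq_one.mp h
    rw [this]; exact he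
  · have h2 : q * e * q⁻¹ = s * e := by
      calc q * e * q⁻¹ = (q * e * q⁻¹ * e⁻¹) * e := by group
        _ = s * e := by rw [h]
    rw [h2]
    exact Subgroup.mul_mem _ P.s_mem_inter he

/-- The subgroup `{1, z, s, zs}` as `closure {z, s}`. -/
theorem mem_V (P : PairS Q Q' z s g) (x : G) :
    x ∈ Subgroup.closure ({z, s} : Set G) ↔ x = 1 ∨ x = z ∨ x = s ∨ x = z * s := by
  constructor
  · intro hx
    have hle : Subgroup.closure ({z, s} : Set G) ≤
        Cfsg.Agent.Lib.KleinTools.kleinOf z s (by rw [pow_two]; exact P.zz)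
          (by rw [pow_two]; exact P.ss) P.zs := by
      rw [Subgroup.closure_le]
      rintro a (rfl | rfl)
      · exact Cfsg.Agent.Lib.KleinTools.mem_kleinOf.mpr (Or.inr (Or.inl rfl))
      · exact Cfsg.Agent.Lib.KleinTools.mem_kleinOf.mpr (Or.inr (Or.inr (Or.inl rfl)))
    exact Cfsg.Agent.Lib.KleinTools.mem_kleinOf.mp (hle hx)
  · have h1 : z ∈ Subgroup.closure ({z, s} : Set G) := Subgroup.subset_closure (by simp)
    have h2 : s ∈ Subgroup.closure ({z, s} : Set G) := Subgroup.subset_closure (by simp)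
    rintro (rfl | rfl | rfl | rfl)
    · exact Subgroup.one_mem _
    · exact h1
    · exact h2
    · exact Subgroup.mul_mem _ h1 h2

/-- Elements `t ∈ Q` with `t s t⁻¹ = z s`. -/
theorem exists_t (P : PairS Q Q' z s g) : ∃ t ∈ Q, t * s * t⁻¹ = z * s := by
  obtain ⟨t, ht, h⟩ := P.hS.extra.exists_not_comm P.hsQ P.s1 P.hne
  exact ⟨t, ht, by rw [h, P.zs]⟩

/-- Every element of `Q` centralizes `s`, or does so after multiplying by `t⁻¹`. -/
theorem split (P : PairS Q Q' z s g) {t q : G} (ht : t ∈ Q) (hts : t * s * t⁻¹ = z * s)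
    (hq : q ∈ Q) : q * s = s * q ∨ (t⁻¹ * q) * s = s * (t⁻¹ * q) := by
  have hzt : z * t = t * z := (P.hS.extra.cen t ht).symm
  have hts' : t⁻¹ * s * t = z * s := by
    have h1 : t⁻¹ * (z * s) * t = s := by rw [← hts]; group
    have h2 : t⁻¹ * (z * s) * t = z * (t⁻¹ * s * t) := by
      have : t⁻¹ * z = z * t⁻¹ := by
        have : t⁻¹ * (z * t) * t⁻¹ = t⁻¹ * (t * z) * t⁻¹ := by rw [hzt]
        simpa [mul_assoc] using this
      calc t⁻¹ * (z * s) * t = (t⁻¹ * z) * s * t := by group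
        _ = (z * t⁻¹) * s * t := by rw [this]
        _ = z * (t⁻¹ * s * t) := by group
    rw [h2] at h1
    calc t⁻¹ * s * t = z * (z * (t⁻¹ * s * t)) := by rw [← mul_assoc, P.zz, one_mul]
      _ = z * s := by rw [h1]
  rcases P.hS.extra.comm q hq s P.hsQ with h1 | h1
  · left
    exact comm_of_conj_eq (mul_inv_eq_one.mp h1)
  · right
    have h2 : q * s * q⁻¹ = z * s := by
      calc q * s * q⁻¹ = (q * s * q⁻¹ * s⁻¹) * s := by group
        _ = z * s := by rw [h1]
    apply comm_of_conj_eq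
    have hz' : t⁻¹ * z * t = z := by
      calc t⁻¹ * z * t = t⁻¹ * (z * t) := by group
        _ = t⁻¹ * (t * z) := by rw [hzt]
        _ = z := by group
    calc t⁻¹ * q * s * (t⁻¹ * q)⁻¹ = t⁻¹ * (q * s * q⁻¹) * t := by group
      _ = t⁻¹ * (z * s) * t := by rw [h2]
      _ = (t⁻¹ * z * t) * (t⁻¹ * s * t) := by group
      _ = z * (z * s) := by rw [hz', hts']
      _ = s := by rw [← mul_assoc, P.zz, one_mul]

/-- An element centralizing `z` and `C_Q(s)` lies in `⟨z, s⟩`. -/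
theorem mem_of_comm_R (P : PairS Q Q' z s g) {c : G} (hcz : c * z = z * c)
    (hc : ∀ r ∈ Q, r * s = s * r → c * r = r * c) : c = 1 ∨ c = z ∨ c = s ∨ c = z * s := by
  obtain ⟨t, ht, hts⟩ := P.exists_t
  have hE := P.hS.extra
  have hzt : z * t = t * z := (hE.cen t ht).symm
  have htz : t * z = z * t := hE.cen t ht
  have ht1 : t⁻¹ * z = z * t⁻¹ := by
    have : t⁻¹ * (z * t) * t⁻¹ = t⁻¹ * (t * z) * t⁻¹ := by rw [hzt]
    simpa [mul_assoc] using this
  have hts' : t⁻¹ * s * t = z * s := by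
    have h1 : t⁻¹ * (z * s) * t = s := by rw [← hts]; group
    have h2 : t⁻¹ * (z * s) * t = z * (t⁻¹ * s * t) := by
      calc t⁻¹ * (z * s) * t = (t⁻¹ * z) * s * t := by group
        _ = (z * t⁻¹) * s * t := by rw [ht1]
        _ = z * (t⁻¹ * s * t) := by group
    rw [h2] at h1
    calc t⁻¹ * s * t = z * (z * (t⁻¹ * s * t)) := by rw [← mul_assoc, P.zz, one_mul]
      _ = z * s := by rw [h1]
  -- Elements centralizing `C_Q(s)` and `t` are `1` or `z`.
  have hQc : ∀ a, (∀ r ∈ Q, r * s = s * r → a * r = r * a) → a * t = t * a → a = 1 ∨ a = z := by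
    intro a haR hat
    apply P.hS.cQ
    intro q hq
    rcases P.split ht hts hq with h1 | h1
    · exact (haR q hq h1).symm
    · have h2 := haR _ (Q.mul_mem (Q.inv_mem ht) hq) h1
      have h3 : q = t * (t⁻¹ * q) := by group
      rw [h3]
      calc t * (t⁻¹ * q) * a = t * ((t⁻¹ * q) * a) := by group
        _ = t * (a * (t⁻¹ * q)) := by rw [h2]
        _ = (t * a) * (t⁻¹ * q) := by group
        _ = (a * t) * (t⁻¹ * q) := by rw [hat]
        _ = a * (t * (t⁻¹ * q)) := by group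
  -- the difference element
  set d := t⁻¹ * (c * t * c⁻¹) with hd
  have hdQ : d ∈ Q := Q.mul_mem (Q.inv_mem ht) (P.hS.nQ c hcz t ht)
  have hctc : c * t * c⁻¹ = t * d := by rw [hd]; group
  have hdR : ∀ r ∈ Q, r * s = s * r → d * r = r * d := by
    intro r hr hrs
    have hr1 : t * r * t⁻¹ ∈ Q := Q.mul_mem (Q.mul_mem ht hr) (Q.inv_mem ht)
    have hr2 : (t * r * t⁻¹) * s = s * (t * r * t⁻¹) := by
      apply comm_of_conj_eq
      have hz' : t * z * t⁻¹ = z := by rw [htz]; group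
      have hz'' : t⁻¹ * z * t = z := by
        calc t⁻¹ * z * t = t⁻¹ * (z * t) := by group
          _ = t⁻¹ * (t * z) := by rw [hzt]
          _ = z := by group
      have hr3 : r * (z * s) * r⁻¹ = z * s := by
        have h3 : r * z = z * r := hE.cen r hr
        calc r * (z * s) * r⁻¹ = (r * z) * s * r⁻¹ := by group
          _ = (z * r) * s * r⁻¹ := by rw [h3]
          _ = z * (r * s) * r⁻¹ := by group
          _ = z * (s * r) * r⁻¹ := by rw [hrs]
          _ = z * s := by group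
      calc t * r * t⁻¹ * s * (t * r * t⁻¹)⁻¹ = t * (r * (t⁻¹ * s * t) * r⁻¹) * t⁻¹ := by group
        _ = t * (r * (z * s) * r⁻¹) * t⁻¹ := by rw [hts']
        _ = t * (z * s) * t⁻¹ := by rw [hr3]
        _ = (t * z * t⁻¹) * (t * s * t⁻¹) := by group
        _ = z * (z * s) := by rw [hz', hts]
        _ = s := by rw [← mul_assoc, P.zz, one_mul]
    have h1 := hc _ hr1 hr2
    have h2 := hc r hr hrs
    have h3 : c * r * c⁻¹ = r := conj_eq_of_comm h2
    have h4 : c * (t * r * t⁻¹) * c⁻¹ = t * r * t⁻¹ := conj_eq_of_comm h1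
    have hcr : c⁻¹ * r = r * c⁻¹ := by
      have : c⁻¹ * (c * r) * c⁻¹ = c⁻¹ * (r * c) * c⁻¹ := by rw [h2]
      simpa [mul_assoc] using this.symm
    calc d * r = t⁻¹ * c * t * (c⁻¹ * r) := by rw [hd]; group
      _ = t⁻¹ * c * t * (r * c⁻¹) := by rw [hcr]
      _ = t⁻¹ * (c * (t * r * t⁻¹) * c⁻¹) * (c * t * c⁻¹) := by group
      _ = t⁻¹ * (t * r * t⁻¹) * (c * t * c⁻¹) := by rw [h4]
      _ = r * d := by rw [hd]; group
  have hd4 := hE.mem_of_comm_centralizer (s := s) (t := t) (a := d) P.hsQ P.ss ht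
    (by rw [hts, P.zs]) hdQ hdR
  -- squares
  have hsq : (t * d) ^ 2 = t ^ 2 := by
    rw [← hctc]
    have h1 : (c * t * c⁻¹) ^ 2 = c * t ^ 2 * c⁻¹ := by
      simp only [pow_two]; group
    rw [h1]
    rcases hE.sq t ht with h2 | h2 <;> rw [h2]
    · group
    · exact conj_eq_of_comm hcz
  have hcs : c * s = s * c := hc s P.hsQ rfl
  have hnot : ∀ e, (t⁻¹ * e * t = z * e) → e * e = 1 → (t * e) ^ 2 = t ^ 2 * z := by
    intro e h1 h2
    calc (t * e) ^ 2 = t * t * (t⁻¹ * e * t) * e := by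
          simp only [pow_two]; group
      _ = t * t * (z * e) * e := by rw [h1]
      _ = t * t * z * (e * e) := by group
      _ = t ^ 2 * z := by rw [h2, mul_one, pow_two]
  have hnotd : ¬ (t⁻¹ * d * t = z * d ∧ d * d = 1) := by
    rintro ⟨h1, h2⟩
    have h3 := hnot d h1 h2
    rw [hsq] at h3
    apply P.z1
    exact (mul_eq_left.mp h3.symm)
  rcases hd4 with h | h | h | h
  · -- `d = 1`
    have h1 : c * t = t * c := by
      apply comm_of_conj_eq
      rw [hctc, h, mul_one]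
    rcases hQc c hc h1 with h2 | h2
    · exact Or.inl h2
    · exact Or.inr (Or.inl h2)
  · -- `d = z`: `c * s` centralizes `t`
    have h1 : (c * s) * t = t * (c * s) := by
      apply comm_of_conj_eq
      have hst : s * t * s⁻¹ = t * z := by
        have e1 : t⁻¹ * (s * t * s⁻¹) = (t⁻¹ * s * t) * s⁻¹ := by group
        have e2 : t⁻¹ * (s * t * s⁻¹) = z := by
          rw [e1, hts']; group
        calc s * t * s⁻¹ = t * (t⁻¹ * (s * t * s⁻¹)) := by group
          _ = t * z := by rw [e2]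
      have hctz : c * (t * z) * c⁻¹ = t * d * z := by
        calc c * (t * z) * c⁻¹ = (c * t * c⁻¹) * (c * z * c⁻¹) := by group
          _ = t * d * z := by rw [hctc, conj_eq_of_comm hcz]
      calc c * s * t * (c * s)⁻¹ = c * (s * t * s⁻¹) * c⁻¹ := by group
        _ = c * (t * z) * c⁻¹ := by rw [hst]
        _ = t * d * z := hctz
        _ = t := by rw [h, mul_assoc, P.zz, mul_one]
    have h2 : ∀ r ∈ Q, r * s = s * r → (c * s) * r = r * (c * s) := by
      intro r hr hrs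
      calc (c * s) * r = c * (s * r) := by group
        _ = c * (r * s) := by rw [hrs]
        _ = (c * r) * s := by group
        _ = (r * c) * s := by rw [hc r hr hrs]
        _ = r * (c * s) := by group
    have hsi : s⁻¹ = s := inv_eq_of_mul_eq_one_left P.ss
    rcases hQc _ h2 h1 with h3 | h3
    · right; right; left
      have h6 : c = s⁻¹ := eq_inv_of_mul_eq_one_left h3
      rw [h6, hsi]
    · right; right; right
      have h6 : c = z * s⁻¹ := eq_mul_inv_of_mul_eq h3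
      rw [h6, hsi]
  · exfalso
    apply hnotd
    rw [h]
    exact ⟨hts', P.ss⟩
  · exfalso
    apply hnotd
    rw [h]
    have h1 : t⁻¹ * (s * z) * t = z * (s * z) := by
      have hz'' : t⁻¹ * z * t = z := by
        calc t⁻¹ * z * t = t⁻¹ * (z * t) := by group
          _ = t⁻¹ * (t * z) := by rw [hzt]
          _ = z := by group
      calc t⁻¹ * (s * z) * t = (t⁻¹ * s * t) * (t⁻¹ * z * t) := by group
        _ = (z * s) * z := by rw [hts', hz'']
        _ = z * (s * z) := by group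
    refine ⟨h1, ?_⟩
    calc s * z * (s * z) = s * (z * s) * z := by group
      _ = s * (s * z) * z := by rw [P.zs]
      _ = (s * s) * (z * z) := by group
      _ = 1 := by rw [P.ss, P.zz, one_mul]

/-- `C_Q(s)`, as a subgroup. -/
abbrev R1 (Q : Subgroup G) (s : G) : Subgroup G := Q ⊓ Subgroup.centralizer ({s} : Set G)

theorem mem_R1 {Q : Subgroup G} {s x : G} : x ∈ R1 Q s ↔ x ∈ Q ∧ x * s = s * x := by
  rw [Subgroup.mem_inf, Subgroup.mem_centralizer_singleton_iff]

/-- The subgroup `R`. -/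
abbrev RR (Q Q' : Subgroup G) (z s : G) : Subgroup G := R1 Q' z ⊔ R1 Q s

theorem R1_le_R (Q Q' : Subgroup G) (z s : G) : R1 Q s ≤ RR Q Q' z s := le_sup_right

theorem R2_le_R (Q Q' : Subgroup G) (z s : G) : R1 Q' z ≤ RR Q Q' z s := le_sup_left

theorem closure_R (Q Q' : Subgroup G) (z s : G) :
    Subgroup.closure (((R1 Q' z : Subgroup G) : Set G) ∪ (R1 Q s : Subgroup G)) = RR Q Q' z s := by
  rw [Subgroup.closure_union, Subgroup.closure_eq, Subgroup.closure_eq]

theorem inter_le_R1 (P : PairS Q Q' z s g) : Q ⊓ Q' ≤ R1 Q s := by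
  rintro e ⟨he, he'⟩
  exact mem_R1.mpr ⟨he, P.hS'.extra.cen e he'⟩

theorem inter_le_R2 (P : PairS Q Q' z s g) : Q ⊓ Q' ≤ R1 Q' z := by
  rintro e ⟨he, he'⟩
  exact mem_R1.mpr ⟨he', P.hS.extra.cen e he⟩

theorem inter_le_R (P : PairS Q Q' z s g) : Q ⊓ Q' ≤ RR Q Q' z s :=
  P.inter_le_R1.trans (R1_le_R _ _ _ _)

theorem R2_inf_R1 (P : PairS Q Q' z s g) : R1 Q' z ⊓ R1 Q s = Q ⊓ Q' := by
  apply le_antisymm
  · rintro x ⟨hx, hx'⟩
    exact ⟨(mem_R1.mp hx').1, (mem_R1.mp hx).1⟩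
  · exact le_inf P.inter_le_R2 P.inter_le_R1

/-- Elements of `R` centralize `z`. -/
theorem R_le_cz (P : PairS Q Q' z s g) : RR Q Q' z s ≤ Subgroup.centralizer ({z} : Set G) := by
  refine sup_le inf_le_right ?_
  rintro x ⟨hx, -⟩
  exact Subgroup.mem_centralizer_singleton_iff.mpr (P.hS.extra.cen x hx)

theorem R_le_cs (P : PairS Q Q' z s g) : RR Q Q' z s ≤ Subgroup.centralizer ({s} : Set G) := by
  refine sup_le ?_ inf_le_right
  rintro x ⟨hx, -⟩
  exact Subgroup.mem_centralizer_singleton_iff.mpr (P.hS'.extra.cen x hx)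

theorem R_comm_z (P : PairS Q Q' z s g) {r : G} (hr : r ∈ RR Q Q' z s) : r * z = z * r :=
  Subgroup.mem_centralizer_singleton_iff.mp (P.R_le_cz hr)

theorem R_comm_s (P : PairS Q Q' z s g) {r : G} (hr : r ∈ RR Q Q' z s) : r * s = s * r :=
  Subgroup.mem_centralizer_singleton_iff.mp (P.R_le_cs hr)

/-- `R / E` is elementary abelian. -/
theorem R_comm_sq (P : PairS Q Q' z s g) :
    (∀ x ∈ RR Q Q' z s, ∀ y ∈ RR Q Q' z s, x * y * x⁻¹ * y⁻¹ ∈ Q ⊓ Q') ∧
      ∀ x ∈ RR Q Q' z s, x ^ 2 ∈ Q ⊓ Q' := by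
  rw [← closure_R]
  apply comm_sq_of_closure
  · rintro x (hx | hx) e he
    · have hx' := (mem_R1.mp hx).1
      refine ⟨P.conj_mem_inter' hx' he, ?_⟩
      simpa using P.conj_mem_inter' (Q'.inv_mem hx') he
    · have hx' := (mem_R1.mp hx).1
      refine ⟨P.conj_mem_inter hx' he, ?_⟩
      simpa using P.conj_mem_inter (Q.inv_mem hx') he
  · have hz := P.z_mem_inter
    have hs := P.s_mem_inter
    rintro x (hx | hx) y (hy | hy)
    · obtain ⟨hx1, -⟩ := mem_R1.mp hx
      obtain ⟨hy1, -⟩ := mem_R1.mp hy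
      rcases P.hS'.extra.comm x hx1 y hy1 with h | h <;> rw [h]
      · exact Subgroup.one_mem _
      · exact hs
    · obtain ⟨hx1, hx2⟩ := mem_R1.mp hx
      obtain ⟨hy1, hy2⟩ := mem_R1.mp hy
      have h := P.comm_mem_inter hy1 hy2 hx1 hx2
      have e : x * y * x⁻¹ * y⁻¹ = (y * x * y⁻¹ * x⁻¹)⁻¹ := by group
      rw [e]
      exact Subgroup.inv_mem _ h
    · obtain ⟨hx1, hx2⟩ := mem_R1.mp hx
      obtain ⟨hy1, hy2⟩ := mem_R1.mp hy
      exact P.comm_mem_inter hx1 hx2 hy1 hy2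
    · obtain ⟨hx1, -⟩ := mem_R1.mp hx
      obtain ⟨hy1, -⟩ := mem_R1.mp hy
      rcases P.hS.extra.comm x hx1 y hy1 with h | h <;> rw [h]
      · exact Subgroup.one_mem _
      · exact hz
  · rintro x (hx | hx)
    · obtain ⟨hx1, -⟩ := mem_R1.mp hx
      rcases P.hS'.extra.sq x hx1 with h | h <;> rw [h]
      · exact Subgroup.one_mem _
      · exact P.s_mem_inter
    · obtain ⟨hx1, -⟩ := mem_R1.mp hx
      rcases P.hS.extra.sq x hx1 with h | h <;> rw [h]
      · exact Subgroup.one_mem _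
      · exact P.z_mem_inter

/-- `E` is elementary abelian. -/
theorem inter_elementary (P : PairS Q Q' z s g) : IsElementaryAbelian 2 (Q ⊓ Q') := by
  refine ⟨⟨⟨?_⟩⟩, fun a ha => P.inter_sq ha.1 ha.2⟩
  rintro ⟨e, he⟩ ⟨f, hf⟩
  exact Subtype.ext (P.inter_comm he.1 he.2 hf.1 hf.2)

theorem z_mem_R (P : PairS Q Q' z s g) : z ∈ RR Q Q' z s := P.inter_le_R P.z_mem_inter

theorem s_mem_R (P : PairS Q Q' z s g) : s ∈ RR Q Q' z s := P.inter_le_R P.s_mem_inter

theorem V_le_R (P : PairS Q Q' z s g) : Subgroup.closure ({z, s} : Set G) ≤ RR Q Q' z s := by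
  rw [Subgroup.closure_le]
  rintro a (rfl | rfl)
  · exact P.z_mem_R
  · exact P.s_mem_R

theorem V_comm_R (P : PairS Q Q' z s g) {v r : G} (hv : v ∈ Subgroup.closure ({z, s} : Set G))
    (hr : r ∈ RR Q Q' z s) : v * r = r * v := by
  rcases (P.mem_V v).mp hv with rfl | rfl | rfl | rfl
  · simp
  · exact (P.R_comm_z hr).symm
  · exact (P.R_comm_s hr).symm
  · calc z * s * r = z * (s * r) := by group
      _ = z * (r * s) := by rw [P.R_comm_s hr]
      _ = (z * r) * s := by group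
      _ = (r * z) * s := by rw [P.R_comm_z hr]
      _ = r * (z * s) := by group

/-- The centre of `R`. -/
theorem center_R (P : PairS Q Q' z s g) :
    (Subgroup.center (RR Q Q' z s)).map (RR Q Q' z s).subtype = Subgroup.closure ({z, s} : Set G) := by
  apply le_antisymm
  · rintro _ ⟨⟨c, hcR⟩, hc, rfl⟩
    rw [P.mem_V]
    refine P.mem_of_comm_R (P.R_comm_z hcR) ?_
    intro r hr hrs
    have hrR : r ∈ RR Q Q' z s := R1_le_R _ _ _ _ (mem_R1.mpr ⟨hr, hrs⟩)
    have := (Subgroup.mem_center_iff.mp hc) ⟨r, hrR⟩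
    exact (congrArg Subtype.val this).symm
  · intro v hv
    refine ⟨⟨v, P.V_le_R hv⟩, Subgroup.mem_center_iff.mpr ?_, rfl⟩
    rintro ⟨r, hr⟩
    exact Subtype.ext (P.V_comm_R hv hr).symm

/-- Conjugation by `Q` preserves `V`. -/
theorem conj_mem_V (P : PairS Q Q' z s g) {q v : G} (hq : q ∈ Q)
    (hv : v ∈ Subgroup.closure ({z, s} : Set G)) : q * v * q⁻¹ ∈ Subgroup.closure ({z, s} : Set G) := by
  have hz : z ∈ Subgroup.closure ({z, s} : Set G) := Subgroup.subset_closure (by simp)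
  have hs : s ∈ Subgroup.closure ({z, s} : Set G) := Subgroup.subset_closure (by simp)
  have h1 : q * z * q⁻¹ = z := conj_eq_of_comm (P.hS.extra.cen q hq)
  have h2 : q * s * q⁻¹ ∈ Subgroup.closure ({z, s} : Set G) := by
    rcases P.hS.extra.comm q hq s P.hsQ with h | h
    · rw [mul_inv_eq_one.mp h]; exact hs
    · have : q * s * q⁻¹ = z * s := by
        calc q * s * q⁻¹ = (q * s * q⁻¹ * s⁻¹) * s := by group
          _ = z * s := by rw [h]
      rw [this]
      exact Subgroup.mul_mem _ hz hs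
  rcases (P.mem_V v).mp hv with rfl | rfl | rfl | rfl
  · simp
  · rw [h1]; exact hz
  · exact h2
  · have : q * (z * s) * q⁻¹ = (q * z * q⁻¹) * (q * s * q⁻¹) := by group
    rw [this, h1]
    exact Subgroup.mul_mem _ hz h2

theorem V_symm (z s : G) : Subgroup.closure ({s, z} : Set G) = Subgroup.closure ({z, s} : Set G) := by
  rw [Set.pair_comm]

theorem Q_le_NV (P : PairS Q Q' z s g) :
    Q ≤ Subgroup.normalizer ((Subgroup.closure ({z, s} : Set G) : Subgroup G) : Set G) := by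
  intro q hq
  rw [Subgroup.mem_normalizer_iff]
  intro v
  refine ⟨P.conj_mem_V hq, fun h => ?_⟩
  have := P.conj_mem_V (Q.inv_mem hq) h
  have e : q⁻¹ * (q * v * q⁻¹) * q⁻¹⁻¹ = v := by group
  rwa [e] at this

theorem Q'_le_NV (P : PairS Q Q' z s g) :
    Q' ≤ Subgroup.normalizer ((Subgroup.closure ({z, s} : Set G) : Subgroup G) : Set G) := by
  have := P.symm.Q_le_NV
  rwa [V_symm] at this

theorem X_le_NV (P : PairS Q Q' z s g) :
    Q ⊔ Q' ≤ Subgroup.normalizer ((Subgroup.closure ({z, s} : Set G) : Subgroup G) : Set G) :=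
  sup_le P.Q_le_NV P.Q'_le_NV

/-- `[X, E] ≤ V`. -/
theorem comm_X_E (P : PairS Q Q' z s g) :
    ⁅Q ⊔ Q', Q ⊓ Q'⁆ ≤ Subgroup.closure ({z, s} : Set G) := by
  rw [Subgroup.commutator_le]
  have hNV := P.X_le_NV
  have hz : z ∈ Subgroup.closure ({z, s} : Set G) := Subgroup.subset_closure (by simp)
  have hs : s ∈ Subgroup.closure ({z, s} : Set G) := Subgroup.subset_closure (by simp)
  have hcl : Subgroup.closure ((Q : Set G) ∪ (Q' : Set G)) = Q ⊔ Q' := by
    rw [Subgroup.closure_union, Subgroup.closure_eq, Subgroup.closure_eq]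
  have key : ∀ x ∈ Q ⊔ Q', ∀ e ∈ Q ⊓ Q', x * e * x⁻¹ * e⁻¹ ∈ Subgroup.closure ({z, s} : Set G) := by
    intro x hx e he
    rw [← hcl] at hx
    induction hx using Subgroup.closure_induction with
    | mem x hx =>
      rcases hx with hx | hx
      · rcases P.hS.extra.comm x hx e he.1 with h | h <;> rw [h]
        · exact Subgroup.one_mem _
        · exact hz
      · rcases P.hS'.extra.comm x hx e he.2 with h | h <;> rw [h]
        · exact Subgroup.one_mem _
        · exact hs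
    | one => simp
    | mul a b ha' _ ha hb =>
      have h : a * b * e * (a * b)⁻¹ * e⁻¹ =
          (a * (b * e * b⁻¹ * e⁻¹) * a⁻¹) * (a * e * a⁻¹ * e⁻¹) := by group
      rw [h]
      rw [hcl] at ha'
      exact Subgroup.mul_mem _ (conj_mem_of_normalizer (hNV ha') hb) ha
    | inv a ha' ha =>
      have h : a⁻¹ * e * a⁻¹⁻¹ * e⁻¹ = a⁻¹ * (a * e * a⁻¹ * e⁻¹)⁻¹ * a := by group
      rw [h]
      rw [hcl] at ha'
      have := conj_mem_of_normalizer (hNV (Subgroup.inv_mem _ ha')) (Subgroup.inv_mem _ ha)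
      simpa using this
  exact fun x hx e he => key x hx e he

end PairS

/-- The `Setting` from large extraspecial and a generator of the centre. -/
theorem setting_of_large [Finite G] {Q : Subgroup G} {z : G} (hQ : IsLargeExtraspecial Q)
    (hz : (Subgroup.center Q).map Q.subtype = Subgroup.zpowers z) (hz2 : orderOf z = 2) :
    Setting Q z := by
  obtain ⟨hL1, hL2, hL3, -⟩ := hQ
  obtain ⟨z₀, hS, hZ⟩ := exists_setting hL1 hL2 hL3
  have h1 : z ∈ Subgroup.zpowers z₀ := by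
    rw [← hZ, hz]; exact Subgroup.mem_zpowers z
  rcases zpowers_eq_of_order_two hS.extra.order h1 with h | h
  · rw [h] at hz2; simp at hz2
  · rw [h]; exact hS

theorem card32 {Q : Subgroup G} {w : ℕ} (hw : 2 ≤ w) (hcard : Nat.card Q = 2 ^ (2 * w + 1)) :
    32 ≤ Nat.card Q := by
  rw [hcard]
  calc 32 = 2 ^ 5 := by norm_num
    _ ≤ 2 ^ (2 * w + 1) := Nat.pow_le_pow_right (by norm_num) (by omega)

/-- The pair attached to the setting of the statements. -/
theorem exists_pair [Finite G] {Q : Subgroup G} {z g : G} (hQ : IsLargeExtraspecial Q)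
    (hz : (Subgroup.center Q).map Q.subtype = Subgroup.zpowers z) (hz2 : orderOf z = 2)
    {w : ℕ} (hw : 2 ≤ w) (hcard : Nat.card Q = 2 ^ (2 * w + 1))
    (hgH : g ∉ Subgroup.centralizer ({z} : Set G)) (hgQ : g * z * g⁻¹ ∈ Q) :
    PairS Q (Q.map (MulAut.conj g).toMonoidHom) z (g * z * g⁻¹) g := by
  refine PairS.exists_of (setting_of_large hQ hz hz2) (card32 hw hcard) hgQ ?_
  intro h
  apply hgH
  rw [Subgroup.mem_centralizer_singleton_iff]
  exact comm_of_conj_eq h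


end Cfsg.Agent.Lib.LargePair
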