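import Mathlib
import Cfsg.Prelude.Def_MonsterType
import Cfsg.Agent.Lib.LargeCent
import Cfsg.Agent.Lib.ExtraBasics
import Cfsg.Agent.Lib.LargeExtra2
import Cfsg.Agent.S5434

/-!
# Large extraspecial subgroups in quotients; helper lemmas on fixed points in cosets and on flips.
-/

set_option autoImplicit false

open Cfsg
open scoped commutatorElement

namespace Cfsg.Agent.Lib.LargeQuot

open Cfsg.Agent.Lib.LargeExtra Cfsg.Agent.Lib.LocalCore Cfsg.Agent.Lib.PCore
open Cfsg.Agent.Lib.LargeStruct Cfsg.Agent.Lib.LargeCent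

/-- Recognition of extraspecial 2-groups by elements. -/
theorem extraspecial_of_elements {Y : Type*} [Group Y] [Finite Y] (h2 : IsPGroup 2 Y) (y₀ : Y)
    (hy₀ : y₀ ≠ 1) (hcomm : ∀ a b : Y, a * b * a⁻¹ * b⁻¹ = 1 ∨ a * b * a⁻¹ * b⁻¹ = y₀)
    (hsq : ∀ a : Y, a ^ 2 = 1 ∨ a ^ 2 = y₀)
    (hcen : ∀ a : Y, (∀ b : Y, a * b = b * a) → a = 1 ∨ a = y₀)
    (hnon : ∃ a b : Y, a * b * a⁻¹ * b⁻¹ ≠ 1) : IsExtraspecial 2 Y := by
  have hyy : y₀ * y₀ = 1 := by
    rcases hsq y₀ with h | h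
    · rwa [pow_two] at h
    · exfalso
      apply hy₀
      rw [pow_two] at h
      exact mul_left_cancel (h.trans (mul_one y₀).symm)
  have hE : ExtraAt (⊤ : Subgroup Y) y₀ := by
    refine ⟨?_, Subgroup.mem_top _, ?_, ?_, ?_, ?_, ?_⟩
    · exact h2.of_equiv Subgroup.topEquiv.symm
    · exact orderOf_eq_prime (by rw [pow_two]; exact hyy) hy₀
    · intro x _
      rcases hcomm x y₀ with h | h
      · exact comm_of_conj_eq (mul_inv_eq_one.mp h)
      · exfalso
        apply hy₀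
        have h1 : x * y₀ * x⁻¹ = 1 := by
          have h3 : x * y₀ * x⁻¹ = (x * y₀ * x⁻¹ * y₀⁻¹) * y₀ := by group
          rw [h3, h, hyy]
        have h4 := mul_inv_eq_one.mp h1
        exact mul_left_cancel (h4.trans (mul_one x).symm)
    · intro x _ y _
      exact hcomm x y
    · intro x _
      exact hsq x
    · intro x _ h
      exact hcen x (fun b => h b (Subgroup.mem_top b))
  obtain ⟨a, b, hab⟩ := hnon
  have := Cfsg.Agent.Lib.LargeExtra2.extraspecial_of_sub (S := ⊤) hE le_top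
    ⟨a, Subgroup.mem_top a, b, Subgroup.mem_top b, hab⟩
    (fun x _ h => hcen x (fun b => h b (Subgroup.mem_top b)))
  exact isExtraspecial_of_equiv Subgroup.topEquiv this

/-- Largeness from elementwise data and a conjugate of `z` inside `P`. -/
theorem large_of_elements {X : Type*} [Group X] [Finite X] {P : Subgroup X} {z : X}
    (hE : IsExtraspecial 2 P) (w : ℕ) (hw : 2 ≤ w) (hcard : Nat.card P = 2 ^ (2 * w + 1))
    (hzP : z ∈ P) (hz1 : z ≠ 1) (hzc : ∀ y ∈ P, y * z = z * y)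
    (hC : ∀ x, (∀ y ∈ P, y * x = x * y) → x = 1 ∨ x = z)
    (hN : ∀ x, x * z = z * x → x ∈ Subgroup.normalizer (P : Set X))
    (g : X) (hg : g * z * g⁻¹ ∈ P) (hgne : g * z * g⁻¹ ≠ z) : IsLargeExtraspecial P := by
  obtain ⟨z', hz', hZ⟩ := exists_extraAt hE
  have hzz' : z = z' := by
    have h1 : z ∈ (Subgroup.center P).map P.subtype := by
      refine ⟨⟨z, hzP⟩, Subgroup.mem_center_iff.mpr ?_, rfl⟩
      rintro ⟨y, hy⟩
      exact Subtype.ext (hzc y hy)
    rw [hZ] at h1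
    rcases zpowers_eq_of_order_two hz'.order h1 with h | h
    · exact absurd h hz1
    · exact h
  subst hzz'
  have hL2 : Subgroup.centralizer (P : Set X) = (Subgroup.center P).map P.subtype := by
    rw [hZ]
    apply le_antisymm
    · intro x hx
      rcases hC x (fun y hy => Subgroup.mem_centralizer_iff.mp hx y hy) with h | h
      · rw [h]; exact Subgroup.one_mem _
      · rw [h]; exact Subgroup.mem_zpowers _
    · intro x hx
      refine Subgroup.mem_centralizer_iff.mpr ?_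
      intro y hy
      rcases zpowers_eq_of_order_two hz'.order hx with rfl | rfl
      · simp
      · exact hzc y hy
  have hL3 : Subgroup.centralizer (((Subgroup.center P).map P.subtype : Subgroup X) : Set X) ≤
      Subgroup.normalizer (P : Set X) := by
    rw [hZ]
    intro x hx
    apply hN
    exact (Subgroup.mem_centralizer_iff.mp hx z (Subgroup.mem_zpowers z)).symm
  have hg' : g ∉ Subgroup.normalizer (((Subgroup.center P).map P.subtype : Subgroup X) : Set X) := by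
    intro h
    rw [hZ] at h
    have h1 : g * z * g⁻¹ ∈ Subgroup.zpowers z :=
      conj_mem_of_normalizer h (Subgroup.mem_zpowers z)
    rcases zpowers_eq_of_order_two hz'.order h1 with h2 | h2
    · apply hz1
      have h3 := mul_inv_eq_one.mp h2
      exact mul_left_cancel (h3.trans (mul_one _).symm)
    · exact hgne h2
  have hZg : ((Subgroup.center P).map P.subtype).map (MulAut.conj g).toMonoidHom ≤ P := by
    rw [hZ]
    rintro _ ⟨y, hy, rfl⟩
    rcases zpowers_eq_of_order_two hz'.order hy with rfl | rfl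
    · simp
    · exact hg
  exact (Cfsg.Agent.S5422.result P hE hL2 hL3 w hw hcard g hg' hZg).2.2

section Quot

variable {X : Type*} [Group X] [Finite X] (N T : Subgroup X) [N.Normal]

theorem mk_comm_iff {a b : X} :
    QuotientGroup.mk' N a * QuotientGroup.mk' N b = QuotientGroup.mk' N b * QuotientGroup.mk' N a ↔
      a * b * a⁻¹ * b⁻¹ ∈ N := by
  rw [← QuotientGroup.eq_one_iff, ← mul_inv_eq_one (a := QuotientGroup.mk' N a * _)]
  have : ((a * b * a⁻¹ * b⁻¹ : X) : X ⧸ N) =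
      QuotientGroup.mk' N a * QuotientGroup.mk' N b *
        (QuotientGroup.mk' N b * QuotientGroup.mk' N a)⁻¹ := by
    rw [mul_inv_rev, ← mul_assoc]
    rfl
  rw [this]

/-- The image of `T` is extraspecial. -/
theorem extraspecial_quot (z₀ : X) (h2 : IsPGroup 2 T) (hz₀ : z₀ ∈ T) (hz₀N : z₀ ∉ N)
    (hcomm : ∀ a ∈ T, ∀ b ∈ T, a * b * a⁻¹ * b⁻¹ = 1 ∨ a * b * a⁻¹ * b⁻¹ = z₀)
    (hsq : ∀ a ∈ T, a ^ 2 = 1 ∨ a ^ 2 = z₀)
    (hcen : ∀ p ∈ T, (∀ q ∈ T, p * q * p⁻¹ * q⁻¹ ∈ N) → p ∈ N ∨ p * z₀⁻¹ ∈ N)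
    (hnon : ∃ a ∈ T, ∃ b ∈ T, a * b * a⁻¹ * b⁻¹ ∉ N) :
    IsExtraspecial 2 ↥(T.map (QuotientGroup.mk' N)) := by
  have hmem : ∀ x ∈ T, QuotientGroup.mk' N x ∈ T.map (QuotientGroup.mk' N) := fun x hx => ⟨x, hx, rfl⟩
  refine extraspecial_of_elements (h2.map _) ⟨QuotientGroup.mk' N z₀, hmem z₀ hz₀⟩ ?_ ?_ ?_ ?_ ?_
  · intro h
    apply hz₀N
    have := congrArg Subtype.val h
    exact (QuotientGroup.eq_one_iff _).mp this
  · rintro ⟨_, a, ha, rfl⟩ ⟨_, b, hb, rfl⟩
    rcases hcomm a ha b hb with h | h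
    · left
      apply Subtype.ext
      have e : QuotientGroup.mk' N (a * b * a⁻¹ * b⁻¹) = 1 := by rw [h, map_one]
      simpa using e
    · right
      apply Subtype.ext
      have e : QuotientGroup.mk' N (a * b * a⁻¹ * b⁻¹) = QuotientGroup.mk' N z₀ := by rw [h]
      simpa using e
  · rintro ⟨_, a, ha, rfl⟩
    rcases hsq a ha with h | h
    · left
      apply Subtype.ext
      have e : QuotientGroup.mk' N (a ^ 2) = 1 := by rw [h, map_one]
      simpa using e
    · right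
      apply Subtype.ext
      have e : QuotientGroup.mk' N (a ^ 2) = QuotientGroup.mk' N z₀ := by rw [h]
      simpa using e
  · rintro ⟨_, p, hp, rfl⟩ hc
    have h1 : ∀ q ∈ T, p * q * p⁻¹ * q⁻¹ ∈ N := by
      intro q hq
      have := congrArg Subtype.val (hc ⟨_, hmem q hq⟩)
      exact (mk_comm_iff N).mp this
    rcases hcen p hp h1 with h | h
    · left
      apply Subtype.ext
      exact (QuotientGroup.eq_one_iff _).mpr h
    · right
      apply Subtype.ext
      have e : QuotientGroup.mk' N (p * z₀⁻¹) = 1 := (QuotientGroup.eq_one_iff _).mpr h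
      rw [map_mul, map_inv, mul_inv_eq_one] at e
      exact e
  · obtain ⟨a, ha, b, hb, hab⟩ := hnon
    refine ⟨⟨_, hmem a ha⟩, ⟨_, hmem b hb⟩, ?_⟩
    intro h
    apply hab
    have := congrArg Subtype.val h
    have e : QuotientGroup.mk' N (a * b * a⁻¹ * b⁻¹) = 1 := by simpa using this
    exact (QuotientGroup.eq_one_iff _).mp e

/-- The image of `T` is large extraspecial. -/
theorem large_quot (z₀ g₀ : X) (hE : IsExtraspecial 2 ↥(T.map (QuotientGroup.mk' N))) (w : ℕ)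
    (hw : 2 ≤ w) (hcard : Nat.card ↥(T.map (QuotientGroup.mk' N)) = 2 ^ (2 * w + 1))
    (hz₀ : z₀ ∈ T) (hz₀N : z₀ ∉ N)
    (hzc : ∀ p ∈ T, p * z₀ * p⁻¹ * z₀⁻¹ ∈ N)
    (hC : ∀ c : X, (∀ p ∈ T, p * c * p⁻¹ * c⁻¹ ∈ N) → c ∈ N ∨ c * z₀⁻¹ ∈ N)
    (hNm : ∀ c : X, c * z₀ * c⁻¹ * z₀⁻¹ ∈ N →
      ∃ d : X, c⁻¹ * d ∈ N ∧ ∀ p ∈ T, d * p * d⁻¹ ∈ T ∧ d⁻¹ * p * d ∈ T)
    (hg : g₀ * z₀ * g₀⁻¹ ∈ T) (hgne : g₀ * z₀ * g₀⁻¹ * z₀⁻¹ ∉ N) :
    IsLargeExtraspecial (T.map (QuotientGroup.mk' N)) := by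
  have hmem : ∀ x ∈ T, QuotientGroup.mk' N x ∈ T.map (QuotientGroup.mk' N) := fun x hx => ⟨x, hx, rfl⟩
  have hsurj := QuotientGroup.mk'_surjective N
  apply large_of_elements hE w hw hcard (z := QuotientGroup.mk' N z₀) (hmem z₀ hz₀) ?_ ?_ ?_ ?_
    (QuotientGroup.mk' N g₀)
  · have := hmem _ hg
    simpa using this
  · intro h
    apply hgne
    have e : QuotientGroup.mk' N (g₀ * z₀ * g₀⁻¹ * z₀⁻¹) = 1 := by
      simp only [map_mul, map_inv]
      rw [h]
      simp
    exact (QuotientGroup.eq_one_iff _).mp e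
  · intro h
    exact hz₀N ((QuotientGroup.eq_one_iff _).mp h)
  · rintro _ ⟨p, hp, rfl⟩
    exact (mk_comm_iff N).mpr (hzc p hp)
  · intro x hx
    obtain ⟨c, rfl⟩ := hsurj x
    have h1 : ∀ p ∈ T, p * c * p⁻¹ * c⁻¹ ∈ N := fun p hp => (mk_comm_iff N).mp (hx _ (hmem p hp))
    rcases hC c h1 with h | h
    · left
      exact (QuotientGroup.eq_one_iff _).mpr h
    · right
      have e : QuotientGroup.mk' N (c * z₀⁻¹) = 1 := (QuotientGroup.eq_one_iff _).mpr h
      rw [map_mul, map_inv, mul_inv_eq_one] at e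
      exact e
  · intro x hx
    obtain ⟨c, rfl⟩ := hsurj x
    obtain ⟨d, hd1, hd2⟩ := hNm c ((mk_comm_iff N).mp hx)
    have hcd : QuotientGroup.mk' N c = QuotientGroup.mk' N d := QuotientGroup.eq.mpr hd1
    rw [hcd, Subgroup.mem_normalizer_iff]
    intro y
    constructor
    · rintro ⟨p, hp, rfl⟩
      have := hmem _ (hd2 p hp).1
      simpa using this
    · intro hy
      obtain ⟨y', rfl⟩ := hsurj y
      obtain ⟨p, hp, hpy⟩ := hy
      refine ⟨d⁻¹ * p * d, (hd2 p hp).2, ?_⟩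
      simp only [map_mul, map_inv]
      rw [hpy]
      group

end Quot

/-- The order of the image of a subgroup. -/
theorem card_map_mul {X Y : Type*} [Group X] [Group Y] [Finite X] (f : X →* Y) (T : Subgroup X) :
    Nat.card (T.map f) * Nat.card (f.ker.subgroupOf T) = Nat.card T := by
  have h1 := Subgroup.index_ker (f.domRestrict T)
  rw [MonoidHom.domRestrict_range, MonoidHom.ker_domRestrict] at h1
  rw [← h1]
  exact Subgroup.index_mul_card _

variable {G : Type*} [Group G]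

/-- Fixed points of a 2-group on a coset of an odd-order subgroup. -/
theorem exists_comm_in_coset [Finite G] {T B : Subgroup G} (hT : IsPGroup 2 T)
    (hB : Odd (Nat.card B)) (hTB : ∀ t ∈ T, ∀ b ∈ B, t * b * t⁻¹ ∈ B) {c : G}
    (h : ∀ t ∈ T, t * c * t⁻¹ * c⁻¹ ∈ B) : ∃ a ∈ B, ∀ t ∈ T, t * (a * c) = (a * c) * t := by
  have hp2 : Fact (Nat.Prime 2) := ⟨Nat.prime_two⟩
  letI : MulAction T B :=
    { smul := fun t b => ⟨(t : G) * b * (t : G)⁻¹ * ((t : G) * c * (t : G)⁻¹ * c⁻¹),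
        B.mul_mem (hTB t t.2 b b.2) (h t t.2)⟩
      one_smul := by
        intro b
        apply Subtype.ext
        show ((1 : T) : G) * b * ((1 : T) : G)⁻¹ * (((1 : T) : G) * c * ((1 : T) : G)⁻¹ * c⁻¹) = b
        simp
      mul_smul := by
        intro t₁ t₂ b
        apply Subtype.ext
        show ((t₁ * t₂ : T) : G) * b * ((t₁ * t₂ : T) : G)⁻¹ *
            (((t₁ * t₂ : T) : G) * c * ((t₁ * t₂ : T) : G)⁻¹ * c⁻¹) =
          (t₁ : G) * ((t₂ : G) * b * (t₂ : G)⁻¹ * ((t₂ : G) * c * (t₂ : G)⁻¹ * c⁻¹)) * (t₁ : G)⁻¹ *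
            ((t₁ : G) * c * (t₁ : G)⁻¹ * c⁻¹)
        simp only [Subgroup.coe_mul]
        group }
  have hnd : ¬ 2 ∣ Nat.card B := fun hd =>
    (Nat.not_even_iff_odd.mpr hB) (even_iff_two_dvd.mpr hd)
  obtain ⟨a, ha⟩ := hT.nonempty_fixed_point_of_prime_not_dvd_card B hnd
  refine ⟨a, a.2, ?_⟩
  intro t ht
  have h1 := congrArg Subtype.val (ha ⟨t, ht⟩)
  have h2 : t * (a : G) * t⁻¹ * (t * c * t⁻¹ * c⁻¹) = a := h1
  have h3 : t * ((a : G) * c) * t⁻¹ = (a : G) * c := by
    calc t * ((a : G) * c) * t⁻¹ = t * (a : G) * t⁻¹ * (t * c * t⁻¹ * c⁻¹) * c := by group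
      _ = (a : G) * c := by rw [h2]
  exact comm_of_conj_eq h3

/-- In a large extraspecial group, the centralizer of an odd subgroup `B ≤ N(Q)` contains a flip of
any of its elements outside the centre. -/
theorem exists_flip [Finite G] {Q : Subgroup G} {z : G} (hQ : IsLargeExtraspecial Q)
    (S : Setting Q z) {B : Subgroup G} (hB : B ≤ Subgroup.normalizer (Q : Set G))
    (hBodd : Odd (Nat.card B)) {a : G} (haQ : a ∈ Q) (haB : a ∈ Subgroup.centralizer (B : Set G))
    (ha1 : a ≠ 1) (haz : a ≠ z) :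
    ∃ p ∈ Q ⊓ Subgroup.centralizer (B : Set G), p * a * p⁻¹ = a * z := by
  by_cases hB1 : B = ⊥
  · subst hB1
    obtain ⟨p, hp, hpa⟩ := S.extra.exists_not_comm haQ ha1 haz
    refine ⟨p, ⟨hp, ?_⟩, hpa⟩
    refine Subgroup.mem_centralizer_iff.mpr ?_
    intro y hy
    have : y = 1 := by simpa using hy
    rw [this]; simp
  · obtain ⟨-, -, -, h4⟩ := Cfsg.Agent.S5434.result Q hQ B hB hBodd hB1
    set R := Q ⊓ Subgroup.centralizer (B : Set G) with hR
    have hzR : z ∈ R := by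
      refine ⟨S.extra.mem, Subgroup.mem_centralizer_iff.mpr ?_⟩
      intro y hy
      exact (comm_of_normalizer S (hB hy))
    have haR : a ∈ R := ⟨haQ, haB⟩
    obtain ⟨z', hS', hZ'⟩ := exists_setting hQ.1 hQ.2.1 hQ.2.2.1
    have hzz' : z = z' := by
      rcases S.extra.central z' hS'.extra.mem (fun y hy => (hS'.extra.cen y hy).symm) with h | h
      · exact absurd h hS'.extra.ne_one
      · exact h.symm
    subst hzz'
    rcases h4 with h4 | h4
    · exfalso
      rw [hZ'] at h4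
      rw [h4] at haR
      rcases zpowers_eq_of_order_two S.extra.order haR with h | h
      · exact ha1 h
      · exact haz h
    · obtain ⟨z'', hz'', hZ''⟩ := exists_extraAt h4
      have hzz'' : z = z'' := by
        have h1 : z ∈ (Subgroup.center R).map R.subtype := by
          refine ⟨⟨z, hzR⟩, Subgroup.mem_center_iff.mpr ?_, rfl⟩
          rintro ⟨y, hy⟩
          exact Subtype.ext (S.extra.cen y hy.1)
        rw [hZ''] at h1
        rcases zpowers_eq_of_order_two hz''.order h1 with h | h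
        · exact absurd h S.extra.ne_one
        · exact h
      subst hzz''
      exact hz''.exists_not_comm haR ha1 haz

end Cfsg.Agent.Lib.LargeQuot
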