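import Mathlib

set_option autoImplicit false
set_option maxHeartbeats 1000000

/-!
Classes modulo 2 of the short vectors of an even rootless positive definite form on `ℤ^24`.
-/

namespace Cfsg.Agent.Lib.LatticeClasses

open Matrix

/-- The hypotheses on the form. -/
structure IsForm (B : Matrix (Fin 24) (Fin 24) ℤ) : Prop where
  symm : B.IsSymm
  pos : ∀ x : Fin 24 → ℤ, x ≠ 0 → 0 < x ⬝ᵥ (B *ᵥ x)
  even : ∀ x : Fin 24 → ℤ, (2 : ℤ) ∣ x ⬝ᵥ (B *ᵥ x)
  noroot : ∀ x : Fin 24 → ℤ, x ⬝ᵥ (B *ᵥ x) ≠ 2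

variable {B : Matrix (Fin 24) (Fin 24) ℤ}

/-- The quadratic form. -/
def N (B : Matrix (Fin 24) (Fin 24) ℤ) (x : Fin 24 → ℤ) : ℤ := x ⬝ᵥ (B *ᵥ x)

/-- The reduction mod 2. -/
def red (x : Fin 24 → ℤ) : Fin 24 → ZMod 2 := fun i => (x i : ZMod 2)

theorem red_eq_iff (x y : Fin 24 → ℤ) : red x = red y ↔ ∀ i, (2 : ℤ) ∣ (x - y) i := by
  constructor
  · intro h i
    have := congrFun h i
    simp only [red] at this
    have h1 := (ZMod.intCast_eq_intCast_iff_dvd_sub (y i) (x i) 2).1 this.symm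
    rw [Pi.sub_apply]
    exact_mod_cast h1
  · intro h
    funext i
    have := h i
    rw [Pi.sub_apply] at this
    have h1 : ((2 : ℕ) : ℤ) ∣ x i - y i := by exact_mod_cast this
    exact ((ZMod.intCast_eq_intCast_iff_dvd_sub (y i) (x i) 2).2 h1).symm

theorem red_neg (x : Fin 24 → ℤ) : red (-x) = red x := by
  funext i
  simp only [red, Pi.neg_apply]
  push_cast
  exact ZMod.neg_eq_self_mod_two _

theorem N_neg (x : Fin 24 → ℤ) : N B (-x) = N B x := by
  simp [N, Matrix.mulVec_neg]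

theorem form_symm (hB : IsForm B) (a b : Fin 24 → ℤ) :
    a ⬝ᵥ (B *ᵥ b) = b ⬝ᵥ (B *ᵥ a) := by
  rw [Matrix.dotProduct_mulVec, ← Matrix.mulVec_transpose, hB.symm.eq, dotProduct_comm]

/-- A nonzero vector has norm at least four. -/
theorem four_le (hB : IsForm B) {a : Fin 24 → ℤ} (ha : a ≠ 0) : 4 ≤ N B a := by
  have h1 := hB.pos a ha
  obtain ⟨u, hu⟩ := hB.even a
  have h2 := hB.noroot a
  simp only [N]
  omega

theorem N_zero : N B 0 = 0 := by simp [N]

/-- The parallelogram analysis. -/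
theorem cong_cases (hB : IsForm B) {x y : Fin 24 → ℤ} (h : red x = red y) :
    y = x ∨ y = -x ∨ (16 ≤ N B x + N B y ∧ (N B x = 8 → N B y = 8 → x ⬝ᵥ (B *ᵥ y) = 0)) := by
  rw [red_eq_iff] at h
  choose a ha using h
  obtain ⟨b, hb⟩ : ∃ b : Fin 24 → ℤ, b = y + a := ⟨_, rfl⟩
  have hxab : x = a + b := by
    funext i
    have := ha i
    simp only [Pi.sub_apply] at this
    simp only [hb, Pi.add_apply]
    linarith
  have hyab : y = b - a := by
    funext i
    simp only [hb, Pi.sub_apply, Pi.add_apply]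
    ring
  clear hb ha
  subst hxab hyab
  have hs := form_symm hB a b
  have hx' : N B (a + b) = N B a + 2 * (a ⬝ᵥ (B *ᵥ b)) + N B b := by
    simp only [N]
    rw [Matrix.mulVec_add, dotProduct_add, add_dotProduct, add_dotProduct, ← hs]
    ring
  have hy' : N B (b - a) = N B a - 2 * (a ⬝ᵥ (B *ᵥ b)) + N B b := by
    simp only [N]
    rw [Matrix.mulVec_sub, dotProduct_sub, sub_dotProduct, sub_dotProduct, ← hs]
    ring
  have hxy : (a + b) ⬝ᵥ (B *ᵥ (b - a)) = N B b - N B a := by
    simp only [N]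
    rw [Matrix.mulVec_sub, dotProduct_sub, add_dotProduct, add_dotProduct, hs]
    ring
  by_cases ha0 : a = 0
  · left
    rw [ha0]
    simp
  by_cases hb0 : b = 0
  · right; left
    rw [hb0]
    simp
  right; right
  have h4a := four_le hB ha0
  have h4b := four_le hB hb0
  refine ⟨by rw [hx', hy']; linarith, fun h1 h2 => ?_⟩
  rw [hxy]
  rw [hx'] at h1
  rw [hy'] at h2
  omega

/-- A sign selector: the first nonzero coordinate is positive. -/
def Pos (x : Fin 24 → ℤ) : Prop := ∃ i, 0 < x i ∧ ∀ j < i, x j = 0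

theorem pos_or_neg {x : Fin 24 → ℤ} (hx : x ≠ 0) : Pos x ∨ Pos (-x) := by
  classical
  have hex : ∃ i, x i ≠ 0 := by
    by_contra h
    push Not at h
    exact hx (funext h)
  obtain ⟨i, hi, hmin⟩ : ∃ i, x i ≠ 0 ∧ ∀ j < i, x j = 0 := by
    refine ⟨Finset.min' (Finset.univ.filter fun i => x i ≠ 0) ?_, ?_, ?_⟩
    · obtain ⟨i, hi⟩ := hex
      exact ⟨i, by simp [hi]⟩
    · have := Finset.min'_mem (Finset.univ.filter fun i => x i ≠ 0) (by
        obtain ⟨i, hi⟩ := hex
        exact ⟨i, by simp [hi]⟩)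
      simpa using this
    · intro j hj
      by_contra hne
      exact absurd hj (not_lt.2 (Finset.min'_le _ _ (by simp [hne])))
  rcases lt_or_gt_of_ne hi with h | h
  · right
    exact ⟨i, by simpa using h, fun j hj => by simp [hmin j hj]⟩
  · left
    exact ⟨i, h, hmin⟩

theorem not_pos_and_neg {x : Fin 24 → ℤ} (h1 : Pos x) (h2 : Pos (-x)) : False := by
  obtain ⟨i, hi, hmi⟩ := h1
  obtain ⟨j, hj, hmj⟩ := h2
  rcases lt_trichotomy i j with h | h | h
  · have := hmj i h
    simp only [Pi.neg_apply] at this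
    omega
  · subst h
    simp only [Pi.neg_apply] at hj
    omega
  · have := hmi j h
    simp only [Pi.neg_apply] at hj
    omega

open Classical in
/-- A finite family of vectors pairwise equal, opposite or orthogonal, nonzero, has at most 48 elements. -/
theorem card_frame_le (hB : IsForm B) (X : Finset (Fin 24 → ℤ)) (h0 : ∀ x ∈ X, x ≠ 0)
    (hX : ∀ x ∈ X, ∀ y ∈ X, y = x ∨ y = -x ∨ x ⬝ᵥ (B *ᵥ y) = 0) : X.card ≤ 48 := by
  -- normalize signs
  let nm : (Fin 24 → ℤ) → (Fin 24 → ℤ) := fun x => if Pos x then x else -x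
  have hnm : ∀ x, nm x = x ∨ nm x = -x := by
    intro x
    by_cases h : Pos x
    · left; simp [nm, h]
    · right; simp [nm, h]
  have hpos : ∀ x ∈ X, Pos (nm x) := by
    intro x hx
    by_cases h : Pos x
    · simp [nm, h]
    · rcases pos_or_neg (h0 x hx) with h' | h'
      · exact absurd h' h
      · simp [nm, h, h']
  set R := X.image nm with hR
  have h1 : X.card ≤ 2 * R.card := by
    apply Finset.card_le_mul_card_image
    intro a _
    have : X.filter (fun x => nm x = a) ⊆ {a, -a} := by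
      intro x hx
      have hx' := (Finset.mem_filter.1 hx).2
      simp only [Finset.mem_insert, Finset.mem_singleton]
      rcases hnm x with h | h
      · left; rw [← h, hx']
      · right; rw [← hx', h, neg_neg]
    exact le_trans (Finset.card_le_card this) Finset.card_le_two
  -- orthogonality in `R`
  have hform : ∀ x y : Fin 24 → ℤ, x ⬝ᵥ (B *ᵥ y) = 0 → (-x) ⬝ᵥ (B *ᵥ y) = 0 ∧
      x ⬝ᵥ (B *ᵥ (-y)) = 0 ∧ (-x) ⬝ᵥ (B *ᵥ (-y)) = 0 := by
    intro x y h
    simp [Matrix.mulVec_neg, h]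
  have horth : ∀ u ∈ R, ∀ v ∈ R, u ≠ v → u ⬝ᵥ (B *ᵥ v) = 0 := by
    intro u hu v hv huv
    obtain ⟨x, hx, rfl⟩ := Finset.mem_image.1 hu
    obtain ⟨y, hy, rfl⟩ := Finset.mem_image.1 hv
    have hpx := hpos x hx
    have hpy := hpos y hy
    rcases hX x hx y hy with h | h | h
    · subst h
      exact absurd rfl huv
    · subst h
      rcases hnm x with h1 | h1 <;> rcases hnm (-x) with h2 | h2
      · rw [h1] at hpx
        rw [h2] at hpy
        exact (not_pos_and_neg hpx hpy).elim
      · rw [h1, h2, neg_neg] at huv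
        exact absurd rfl huv
      · rw [h1, h2] at huv
        exact absurd rfl huv
      · rw [h1] at hpx
        rw [h2, neg_neg] at hpy
        exact (not_pos_and_neg hpy hpx).elim
    · obtain ⟨h2, h3, h4⟩ := hform x y h
      rcases hnm x with h1 | h1 <;> rcases hnm y with h5 | h5 <;> rw [h1, h5] <;> assumption
  have hR0 : ∀ u ∈ R, u ≠ 0 := by
    intro u hu
    obtain ⟨x, hx, rfl⟩ := Finset.mem_image.1 hu
    rcases hnm x with h | h <;> rw [h]
    · exact h0 x hx
    · exact neg_ne_zero.2 (h0 x hx)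
  have hli : LinearIndependent ℤ (fun u : R => (u : Fin 24 → ℤ)) := by
    rw [linearIndependent_iff']
    intro s g hg u hu
    have h2 : (u : Fin 24 → ℤ) ⬝ᵥ (B *ᵥ (∑ i ∈ s, g i • (i : Fin 24 → ℤ))) = 0 := by
      rw [hg]; simp
    have h3 : (u : Fin 24 → ℤ) ⬝ᵥ (B *ᵥ (∑ i ∈ s, g i • (i : Fin 24 → ℤ))) =
        ∑ i ∈ s, g i * ((u : Fin 24 → ℤ) ⬝ᵥ (B *ᵥ (i : Fin 24 → ℤ))) := by
      rw [Matrix.mulVec_sum, dotProduct_sum]
      refine Finset.sum_congr rfl fun i _ => ?_
      rw [Matrix.mulVec_smul, dotProduct_smul, smul_eq_mul]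
    rw [h3, Finset.sum_eq_single u] at h2
    · have hp := hB.pos u (hR0 u u.2)
      rcases mul_eq_zero.1 h2 with h | h
      · exact h
      · omega
    · intro b _ hb
      rw [horth _ u.2 _ b.2 (fun e => hb (Subtype.ext e.symm)), mul_zero]
    · intro hn
      exact absurd hu hn
  have h3 : R.card ≤ 24 := by
    have := hli.fintype_card_le_finrank
    simpa using this
  omega

section counting

open Classical

variable (B)

/-- Short vectors of given norm, when finite. -/
noncomputable def shell (k : ℤ) : Finset (Fin 24 → ℤ) :=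
  if h : {x : Fin 24 → ℤ | N B x = k}.Finite then h.toFinset else ∅

variable {B}

theorem mem_shell {k : ℤ} (h : {x : Fin 24 → ℤ | N B x = k}.Finite) (x : Fin 24 → ℤ) :
    x ∈ shell B k ↔ N B x = k := by
  simp [shell, h]

theorem card_shell {k : ℤ} {n : ℕ} (h : {x : Fin 24 → ℤ | N B x = k}.ncard = n) (hn : n ≠ 0) :
    {x : Fin 24 → ℤ | N B x = k}.Finite ∧ (shell B k).card = n := by
  have hf : {x : Fin 24 → ℤ | N B x = k}.Finite :=
    Set.finite_of_ncard_ne_zero (by rw [h]; exact hn)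
  refine ⟨hf, ?_⟩
  rw [← h, Set.ncard_eq_toFinset_card _ hf]
  simp [shell, hf]

/-- Fibres of the reduction on a shell. -/
theorem fiber_two (hB : IsForm B) {k : ℤ} (hk : 0 < k) (hk8 : k < 8)
    (hf : {x : Fin 24 → ℤ | N B x = k}.Finite) {t : Fin 24 → ZMod 2}
    (ht : t ∈ (shell B k).image red) :
    ((shell B k).filter fun x => red x = t).card = 2 := by
  obtain ⟨x, hx, rfl⟩ := Finset.mem_image.1 ht
  rw [mem_shell hf] at hx
  have hx0 : x ≠ 0 := by
    rintro rfl
    rw [N_zero] at hx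
    omega
  have : (shell B k).filter (fun y => red y = red x) = {x, -x} := by
    ext y
    simp only [Finset.mem_filter, mem_shell hf, Finset.mem_insert, Finset.mem_singleton]
    constructor
    · rintro ⟨hy, hyr⟩
      rcases cong_cases hB hyr.symm with h | h | ⟨h, _⟩
      · exact Or.inl h
      · exact Or.inr h
      · omega
    · rintro (rfl | rfl)
      · exact ⟨hx, rfl⟩
      · exact ⟨by rw [N_neg]; exact hx, red_neg _⟩
  rw [this, Finset.card_pair]
  intro h
  exact hx0 (self_eq_neg.1 h)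

theorem card_shell_eq_two_mul (hB : IsForm B) {k : ℤ} (hk : 0 < k) (hk8 : k < 8)
    (hf : {x : Fin 24 → ℤ | N B x = k}.Finite) :
    (shell B k).card = 2 * ((shell B k).image red).card := by
  rw [Finset.card_eq_sum_card_image red, Finset.sum_congr rfl (fun t ht => fiber_two hB hk hk8 hf ht),
    Finset.sum_const, smul_eq_mul, mul_comm]

theorem fiber_le (hB : IsForm B) (hf : {x : Fin 24 → ℤ | N B x = 8}.Finite)
    (t : Fin 24 → ZMod 2) : ((shell B 8).filter fun x => red x = t).card ≤ 48 := by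
  apply card_frame_le hB
  · intro x hx
    have := (mem_shell hf x).1 (Finset.mem_filter.1 hx).1
    rintro rfl
    rw [N_zero] at this
    omega
  · intro x hx y hy
    have hx1 := Finset.mem_filter.1 hx
    have hy1 := Finset.mem_filter.1 hy
    have hNx := (mem_shell hf x).1 hx1.1
    have hNy := (mem_shell hf y).1 hy1.1
    rcases cong_cases hB (hx1.2.trans hy1.2.symm) with h | h | ⟨_, h⟩
    · exact Or.inl h
    · exact Or.inr (Or.inl h)
    · exact Or.inr (Or.inr (h hNx hNy))

/-- Disjointness of the classes of shells of different norms. -/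
theorem disj_of_ne (hB : IsForm B) {a b : ℤ} (hab : a ≠ b) (ha0 : 0 ≤ a) (hb0 : 0 ≤ b)
    (hsum : a + b < 16) {x y : Fin 24 → ℤ} (hx : N B x = a) (hy : N B y = b) : red x ≠ red y := by
  intro h
  rcases cong_cases hB h with h1 | h1 | ⟨h1, _⟩
  · subst h1
    exact hab (hx.symm.trans hy)
  · subst h1
    rw [N_neg] at hy
    exact hab (hx.symm.trans hy)
  · omega

/-- The main counting theorem. -/
theorem main_count (hB : IsForm B)
    (h4 : {x : Fin 24 → ℤ | N B x = 4}.ncard = 196560)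
    (h6 : {x : Fin 24 → ℤ | N B x = 6}.ncard = 16773120)
    (h8 : {x : Fin 24 → ℤ | N B x = 8}.ncard = 398034000) :
    (∀ x, N B x = 8 → ((shell B 8).filter fun y => red y = red x).card = 48) ∧
    {x : Fin 24 → ℤ | N B x = 8}.Finite ∧
    ∀ x : Fin 24 → ℤ, ∃ y, (N B y = 0 ∨ N B y = 4 ∨ N B y = 6 ∨ N B y = 8) ∧ red y = red x := by
  obtain ⟨f4, c4⟩ := card_shell h4 (by norm_num)
  obtain ⟨f6, c6⟩ := card_shell h6 (by norm_num)
  obtain ⟨f8, c8⟩ := card_shell h8 (by norm_num)
  have e4 := card_shell_eq_two_mul hB (by norm_num) (by norm_num) f4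
  have e6 := card_shell_eq_two_mul hB (by norm_num) (by norm_num) f6
  set T4 := (shell B 4).image red with hT4
  set T6 := (shell B 6).image red with hT6
  set T8 := (shell B 8).image red with hT8
  set T0 : Finset (Fin 24 → ZMod 2) := {red 0} with hT0
  have d46 : Disjoint T4 T6 := by
    rw [Finset.disjoint_left]
    intro t h1 h2
    obtain ⟨x, hx, rfl⟩ := Finset.mem_image.1 h1
    obtain ⟨y, hy, hxy⟩ := Finset.mem_image.1 h2
    exact disj_of_ne hB (by norm_num : (6 : ℤ) ≠ 4) (by norm_num) (by norm_num) (by norm_num)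
      ((mem_shell f6 y).1 hy) ((mem_shell f4 x).1 hx) hxy
  have d48 : Disjoint T4 T8 := by
    rw [Finset.disjoint_left]
    intro t h1 h2
    obtain ⟨x, hx, rfl⟩ := Finset.mem_image.1 h1
    obtain ⟨y, hy, hxy⟩ := Finset.mem_image.1 h2
    exact disj_of_ne hB (by norm_num : (8 : ℤ) ≠ 4) (by norm_num) (by norm_num) (by norm_num)
      ((mem_shell f8 y).1 hy) ((mem_shell f4 x).1 hx) hxy
  have d68 : Disjoint T6 T8 := by
    rw [Finset.disjoint_left]
    intro t h1 h2
    obtain ⟨x, hx, rfl⟩ := Finset.mem_image.1 h1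
    obtain ⟨y, hy, hxy⟩ := Finset.mem_image.1 h2
    exact disj_of_ne hB (by norm_num : (8 : ℤ) ≠ 6) (by norm_num) (by norm_num) (by norm_num)
      ((mem_shell f8 y).1 hy) ((mem_shell f6 x).1 hx) hxy
  have d0 : ∀ k : ℤ, 0 < k → k ≤ 8 → {x : Fin 24 → ℤ | N B x = k}.Finite →
      red 0 ∉ (shell B k).image red := by
    intro k hk hk8 fk h
    obtain ⟨x, hx, hxr⟩ := Finset.mem_image.1 h
    exact disj_of_ne hB (by omega : (0 : ℤ) ≠ k) le_rfl hk.le (by omega) N_zero
      ((mem_shell fk x).1 hx) hxr.symm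
  have hall : (T0 ∪ (T4 ∪ (T6 ∪ T8))).card = 1 + (T4.card + (T6.card + T8.card)) := by
    rw [Finset.card_union_of_disjoint, Finset.card_union_of_disjoint, Finset.card_union_of_disjoint d68,
      Finset.card_singleton]
    · rw [Finset.disjoint_union_right]
      exact ⟨d46, d48⟩
    · rw [Finset.disjoint_singleton_left]
      simp only [Finset.mem_union, not_or]
      exact ⟨d0 4 (by norm_num) (by norm_num) f4, d0 6 (by norm_num) (by norm_num) f6,
        d0 8 (by norm_num) (by norm_num) f8⟩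
  have hle : (T0 ∪ (T4 ∪ (T6 ∪ T8))).card ≤ 2 ^ 24 := by
    have := Finset.card_le_univ (T0 ∪ (T4 ∪ (T6 ∪ T8)))
    simpa [ZMod.card] using this
  rw [c4] at e4
  rw [c6] at e6
  have hT8le : T8.card ≤ 8292375 := by omega
  have hsum : (shell B 8).card = ∑ t ∈ T8, ((shell B 8).filter fun x => red x = t).card :=
    Finset.card_eq_sum_card_image red _
  have hT8ge : 8292375 ≤ T8.card := by
    have : ∑ t ∈ T8, ((shell B 8).filter fun x => red x = t).card ≤ T8.card * 48 :=
      Finset.sum_le_card_nsmul _ _ _ fun t _ => fiber_le hB f8 t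
    omega
  have hT8eq : T8.card = 8292375 := le_antisymm hT8le hT8ge
  refine ⟨?_, f8, ?_⟩
  · intro x hx
    have hle48 := fiber_le hB f8 (red x)
    by_contra hne
    have hlt : ((shell B 8).filter fun y => red y = red x).card < 48 := lt_of_le_of_ne hle48 hne
    have hxmem : red x ∈ T8 := Finset.mem_image.2 ⟨x, (mem_shell f8 x).2 hx, rfl⟩
    have : ∑ t ∈ T8, ((shell B 8).filter fun y => red y = t).card < ∑ _t ∈ T8, 48 :=
      Finset.sum_lt_sum (fun t _ => fiber_le hB f8 t) ⟨_, hxmem, hlt⟩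
    rw [← hsum, c8, Finset.sum_const, hT8eq] at this
    norm_num at this
  · intro x
    have huniv : T0 ∪ (T4 ∪ (T6 ∪ T8)) = Finset.univ := by
      apply Finset.eq_univ_of_card
      rw [hall]
      simp only [Fintype.card_pi, ZMod.card, Finset.prod_const, Finset.card_univ, Fintype.card_fin]
      omega
    have hmem : red x ∈ T0 ∪ (T4 ∪ (T6 ∪ T8)) := by rw [huniv]; exact Finset.mem_univ _
    simp only [Finset.mem_union] at hmem
    rcases hmem with h | h | h | h
    · exact ⟨0, Or.inl N_zero, (Finset.mem_singleton.1 h).symm⟩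
    · obtain ⟨y, hy, hr⟩ := Finset.mem_image.1 h
      exact ⟨y, Or.inr (Or.inl ((mem_shell f4 y).1 hy)), hr⟩
    · obtain ⟨y, hy, hr⟩ := Finset.mem_image.1 h
      exact ⟨y, Or.inr (Or.inr (Or.inl ((mem_shell f6 y).1 hy))), hr⟩
    · obtain ⟨y, hy, hr⟩ := Finset.mem_image.1 h
      exact ⟨y, Or.inr (Or.inr (Or.inr ((mem_shell f8 y).1 hy))), hr⟩

end counting

end Cfsg.Agent.Lib.LatticeClasses
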