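import Mathlib
import Cfsg.Agent.Lib.Leech
import Cfsg.Agent.Lib.GolayBits

set_option autoImplicit false

/-!
Counting vectors of the rank-24 lattice of a given sum of squares, with prescribed coordinate
values: each pair of parity `m` and code set `α` contributes a digit of an explicit integer.
-/

namespace Cfsg.Agent.Lib.LeechTheta

open Cfsg Finset
open Cfsg.Agent.Lib.Leech

/-- Squares as natural numbers. -/
def nsq (n : ℤ) : ℕ := n.natAbs ^ 2

/-- The sum of squares as a natural number. -/
def normN (x : GolayPt → ℤ) : ℕ := ∑ i, nsq (x i)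

theorem sqNorm_eq (x : GolayPt → ℤ) : sqNorm x = (normN x : ℤ) := by
  simp only [sqNorm, normN, nsq]
  push_cast
  refine Finset.sum_congr rfl fun i _ => ?_
  rw [sq_abs]

/-- The big base. -/
def Q : ℕ := 2 ^ 128

/-- Sign of the parity of an integer. -/
def sgnT (t : ℤ) : ℤ := if t % 2 = 0 then 1 else -1

theorem sgnT_add (a b : ℤ) : sgnT (a + b) = sgnT a * sgnT b := by
  unfold sgnT
  split_ifs <;> first | rfl | (exfalso; omega)

theorem sgnT_zero : sgnT 0 = 1 := rfl

theorem prod_sgnT {ι : Type*} (s : Finset ι) (f : ι → ℤ) :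
    ∏ i ∈ s, sgnT (f i) = sgnT (∑ i ∈ s, f i) := by
  classical
  induction s using Finset.induction_on with
  | empty => simp [sgnT_zero]
  | insert a s ha ih => rw [Finset.prod_insert ha, Finset.sum_insert ha, ih, sgnT_add]

/-- The parity statistic. -/
def T (x : GolayPt → ℤ) : ℤ := ∑ i, x i / 4

/-- The residue of a coordinate. -/
def resOf (m : ℤ) (α : Finset GolayPt) (i : GolayPt) : ℤ := m + 2 * br α i

theorem resOf_range {m : ℤ} (hm : m = 0 ∨ m = 1) (α : Finset GolayPt) (i : GolayPt) :
    0 ≤ resOf m α i ∧ resOf m α i < 4 := by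
  unfold resOf
  rcases br_cases α i with ⟨_, h⟩ | ⟨_, h⟩ <;> rw [h] <;> rcases hm with rfl | rfl <;> norm_num

/-- The box of vectors with values in `W` and the prescribed residues. -/
def box (W : Finset ℤ) (m : ℤ) (α : Finset GolayPt) : Finset (GolayPt → ℤ) :=
  Fintype.piFinset fun i => W.filter fun n => n % 4 = resOf m α i

theorem mem_box {W : Finset ℤ} {m : ℤ} {α : Finset GolayPt} {x : GolayPt → ℤ} :
    x ∈ box W m α ↔ (∀ i, x i ∈ W) ∧ ∀ i, x i % 4 = resOf m α i := by
  simp only [box, Fintype.mem_piFinset, mem_filter]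
  exact forall_and

theorem sum_resOf (m : ℤ) (α : Finset GolayPt) : ∑ i, resOf m α i = 24 * m + 2 * α.card := by
  simp only [resOf, Finset.sum_add_distrib, ← Finset.mul_sum, Finset.sum_const, sum_br, card_univ]
  rw [card_golayPt]
  simp

/-- The normal form in terms of residues and the parity statistic. -/
theorem isForm_iff {x : GolayPt → ℤ} {m : ℤ} {α : Finset GolayPt} (hm : m = 0 ∨ m = 1)
    (hα : α ∈ codeSets) :
    IsForm x m α ↔ (∀ i, x i % 4 = resOf m α i) ∧ T x % 2 = m % 2 := by
  have hres : (∀ i, x i ≡ m + 2 * br α i [ZMOD 4]) ↔ ∀ i, x i % 4 = resOf m α i := by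
    refine forall_congr' fun i => ?_
    have hr := resOf_range hm α i
    simp only [Int.ModEq]
    have : (m + 2 * br α i) % 4 = resOf m α i := by
      rw [← resOf]
      exact Int.emod_eq_of_lt hr.1 hr.2
    rw [this]
  obtain ⟨a, ha⟩ := four_dvd_card hα
  unfold IsForm
  rw [hres]
  constructor
  · rintro ⟨_, h1, h2⟩
    refine ⟨h1, ?_⟩
    have hsum : ∑ i, x i = 4 * T x + (24 * m + 2 * α.card) := by
      rw [← sum_resOf, T, Finset.mul_sum, ← Finset.sum_add_distrib]
      refine Finset.sum_congr rfl fun i _ => ?_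
      rw [← h1 i]
      exact (Int.mul_ediv_add_emod _ _).symm
    simp only [Int.ModEq] at h2
    rw [hsum, ha] at h2
    push_cast at h2
    omega
  · rintro ⟨h1, h2⟩
    refine ⟨hα, h1, ?_⟩
    have hsum : ∑ i, x i = 4 * T x + (24 * m + 2 * α.card) := by
      rw [← sum_resOf, T, Finset.mul_sum, ← Finset.sum_add_distrib]
      refine Finset.sum_congr rfl fun i _ => ?_
      rw [← h1 i]
      exact (Int.mul_ediv_add_emod _ _).symm
    simp only [Int.ModEq]
    rw [hsum, ha]
    push_cast
    omega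

/-- Base series in a residue class. -/
def serA (W : Finset ℤ) (r : ℤ) : ℤ := ∑ n ∈ W.filter (fun n => n % 4 = r), ((Q ^ nsq n : ℕ) : ℤ)

/-- Twisted base series in a residue class. -/
def serB (W : Finset ℤ) (r : ℤ) : ℤ :=
  ∑ n ∈ W.filter (fun n => n % 4 = r), sgnT (n / 4) * ((Q ^ nsq n : ℕ) : ℤ)

theorem prod_resOf (g : ℤ → ℤ) (m : ℤ) (α : Finset GolayPt) :
    ∏ i, g (resOf m α i) = g (m + 2) ^ α.card * g m ^ (24 - α.card) := by
  have h1 : ∀ i, g (resOf m α i) = if i ∈ α then g (m + 2) else g m := by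
    intro i
    rcases br_cases α i with ⟨hi, h⟩ | ⟨hi, h⟩ <;> simp [resOf, h, hi]
  simp only [h1]
  rw [Finset.prod_ite]
  simp only [Finset.prod_const]
  congr 2
  · congr 1
    ext i
    simp
  · rw [Finset.filter_not]
    simp only [Finset.filter_mem_eq_inter, Finset.univ_inter]
    rw [Finset.card_sdiff_of_subset (Finset.subset_univ _), Finset.card_univ, card_golayPt]

theorem sum_box_plain (W : Finset ℤ) (m : ℤ) (α : Finset GolayPt) :
    ∑ x ∈ box W m α, ((Q ^ normN x : ℕ) : ℤ) = serA W (m + 2) ^ α.card * serA W m ^ (24 - α.card) := by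
  have h := Finset.prod_univ_sum (fun i => W.filter fun n => n % 4 = resOf m α i)
    (fun _ n => ((Q ^ nsq n : ℕ) : ℤ))
  rw [← prod_resOf (serA W)]
  simp only [serA]
  rw [h, box]
  refine Finset.sum_congr rfl fun x _ => ?_
  rw [normN]
  push_cast
  rw [Finset.prod_pow_eq_pow_sum]

theorem sum_box_twist (W : Finset ℤ) (m : ℤ) (α : Finset GolayPt) :
    ∑ x ∈ box W m α, sgnT (T x) * ((Q ^ normN x : ℕ) : ℤ) =
      serB W (m + 2) ^ α.card * serB W m ^ (24 - α.card) := by
  have h := Finset.prod_univ_sum (fun i => W.filter fun n => n % 4 = resOf m α i)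
    (fun _ n => sgnT (n / 4) * ((Q ^ nsq n : ℕ) : ℤ))
  rw [← prod_resOf (serB W)]
  simp only [serB]
  rw [h, box]
  refine Finset.sum_congr rfl fun x _ => ?_
  rw [normN, T, Finset.prod_mul_distrib, prod_sgnT]
  push_cast
  rw [Finset.prod_pow_eq_pow_sum]

/-- The digit lemma: the number of elements of weight `N` is a digit in base `q` of the
generating value, when the base exceeds the number of elements. -/
theorem digit_lemma {β : Type*} (S : Finset β) (f : β → ℕ) (q : ℕ) (hq : S.card < q) (N : ℕ) :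
    (S.filter fun s => f s = N).card = (∑ s ∈ S, q ^ f s) / q ^ N % q := by
  have hq0 : 0 < q := lt_of_le_of_lt (Nat.zero_le _) hq
  set A := ∑ s ∈ S.filter (fun s => f s < N), q ^ f s with hA
  set c := (S.filter fun s => f s = N).card with hc
  set D := ∑ s ∈ S.filter (fun s => N < f s), q ^ (f s - N - 1) with hD
  have hsplit : ∑ s ∈ S, q ^ f s = A + q ^ N * (c + q * D) := by
    have h1 : ∑ s ∈ S.filter (fun s => f s = N), q ^ f s = c * q ^ N := by
      rw [Finset.sum_congr rfl (fun s hs => by rw [(Finset.mem_filter.1 hs).2] : ∀ s ∈ S.filter (fun s => f s = N), q ^ f s = q ^ N)]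
      rw [Finset.sum_const, smul_eq_mul]
    have h2 : ∑ s ∈ S.filter (fun s => N < f s), q ^ f s = q ^ N * (q * D) := by
      rw [hD, Finset.mul_sum, Finset.mul_sum]
      refine Finset.sum_congr rfl fun s hs => ?_
      have hs' := (Finset.mem_filter.1 hs).2
      rw [← mul_assoc, ← pow_succ, ← pow_add]
      congr 1
      omega
    have h3 : ∑ s ∈ S, q ^ f s = ∑ s ∈ S.filter (fun s => f s < N), q ^ f s +
        (∑ s ∈ S.filter (fun s => f s = N), q ^ f s + ∑ s ∈ S.filter (fun s => N < f s), q ^ f s) := by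
      rw [← Finset.sum_filter_add_sum_filter_not S (fun s => f s < N)]
      congr 1
      rw [← Finset.sum_filter_add_sum_filter_not (S.filter fun s => ¬ f s < N) (fun s => f s = N)]
      rw [Finset.filter_filter, Finset.filter_filter]
      congr 1
      · apply Finset.sum_congr _ (fun _ _ => rfl)
        ext s
        simp only [Finset.mem_filter]
        constructor
        · rintro ⟨h, _, h2⟩
          exact ⟨h, h2⟩
        · rintro ⟨h, h2⟩
          exact ⟨h, by omega, h2⟩
      · apply Finset.sum_congr _ (fun _ _ => rfl)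
        ext s
        simp only [Finset.mem_filter]
        constructor
        · rintro ⟨h, h1, h2⟩
          exact ⟨h, by omega⟩
        · rintro ⟨h, h2⟩
          exact ⟨h, by omega, by omega⟩
    rw [h3, h1, h2]
    ring
  have hAlt : A < q ^ N := by
    cases N with
    | zero =>
      simp [hA]
    | succ k =>
      have h1 : A ≤ (S.filter (fun s => f s < k + 1)).card * q ^ k := by
        rw [hA]
        have := Finset.sum_le_card_nsmul (S.filter (fun s => f s < k + 1)) (fun s => q ^ f s) (q ^ k)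
          (fun s hs => Nat.pow_le_pow_right hq0 (by
            have := (Finset.mem_filter.1 hs).2
            omega))
        simpa using this
      have h2 : (S.filter (fun s => f s < k + 1)).card < q :=
        lt_of_le_of_lt (Finset.card_filter_le _ _) hq
      calc A ≤ (S.filter (fun s => f s < k + 1)).card * q ^ k := h1
        _ < q * q ^ k := Nat.mul_lt_mul_of_pos_right h2 (pow_pos hq0 k)
        _ = q ^ (k + 1) := by ring
  have hclt : c < q := lt_of_le_of_lt (Finset.card_filter_le _ _) hq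
  rw [hsplit, Nat.add_mul_div_left _ _ (pow_pos hq0 N), Nat.div_eq_of_lt hAlt, zero_add,
    Nat.add_mul_mod_self_left, Nat.mod_eq_of_lt hclt]

/-- The value whose digits count vectors, for one parity and one weight. -/
def cntV (W : Finset ℤ) (m : ℤ) (a N : ℕ) : ℕ :=
  (((serA W (m + 2) ^ a * serA W m ^ (24 - a) + sgnT m * (serB W (m + 2) ^ a * serB W m ^ (24 - a))) / 2).toNat
    / Q ^ N) % Q

/-- The number of vectors for one parity and one code set is the digit `cntV`. -/
theorem card_filter_box (W : Finset ℤ) (hW : W.card ≤ 17) {m : ℤ}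
    (α : Finset GolayPt) (N : ℕ) :
    ((box W m α).filter fun x => T x % 2 = m % 2 ∧ normN x = N).card = cntV W m α.card N := by
  set S := (box W m α).filter fun x => T x % 2 = m % 2 with hS
  have hcardS : S.card < Q := by
    have h1 : S.card ≤ (box W m α).card := Finset.card_filter_le _ _
    have h2 : (box W m α).card ≤ 17 ^ 24 := by
      rw [box, Fintype.card_piFinset]
      have : ∀ i ∈ (Finset.univ : Finset GolayPt),
          (W.filter fun n => n % 4 = resOf m α i).card ≤ 17 := fun i _ =>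
        le_trans (Finset.card_filter_le _ _) hW
      calc _ ≤ ∏ _i : GolayPt, 17 := Finset.prod_le_prod' this
        _ = 17 ^ 24 := by
          rw [Finset.prod_const, Finset.card_univ, card_golayPt]
    have h3 : 17 ^ 24 < Q := by
      unfold Q
      norm_num
    omega
  have hfilter : ((box W m α).filter fun x => T x % 2 = m % 2 ∧ normN x = N) =
      S.filter fun x => normN x = N := by
    rw [hS, Finset.filter_filter]
  rw [hfilter, digit_lemma S normN Q hcardS N]
  unfold cntV
  congr 2
  -- the generating value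
  have hkey : (2 : ℤ) * ((∑ x ∈ S, Q ^ normN x : ℕ) : ℤ) =
      serA W (m + 2) ^ α.card * serA W m ^ (24 - α.card) +
        sgnT m * (serB W (m + 2) ^ α.card * serB W m ^ (24 - α.card)) := by
    rw [← sum_box_plain, ← sum_box_twist, Finset.mul_sum, ← Finset.sum_add_distrib, hS,
      Nat.cast_sum, Finset.sum_filter, Finset.mul_sum]
    refine Finset.sum_congr rfl fun x _ => ?_
    have hm2 : sgnT m * sgnT (T x) = if T x % 2 = m % 2 then 1 else -1 := by
      rw [← sgnT_add]
      unfold sgnT
      split_ifs <;> first | rfl | (exfalso; omega)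
    rw [← mul_assoc, hm2]
    generalize ((Q ^ normN x : ℕ) : ℤ) = y
    split_ifs <;> ring
  rw [← hkey, Int.mul_ediv_cancel_left _ (by norm_num), Int.toNat_natCast]

/-- The code sets as a finite set. -/
def CF : Finset (Finset GolayPt) :=
  (Finset.range 4096).image fun n => GolayBits.toSet (GolayBits.word n)

theorem mem_CF {α : Finset GolayPt} : α ∈ CF ↔ α ∈ codeSets := by
  rw [codeSets, GolayBits.mem_supports_iff, CF, Finset.mem_image]
  constructor
  · rintro ⟨n, hn, rfl⟩
    exact ⟨n, Finset.mem_range.1 hn, rfl⟩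
  · rintro ⟨n, hn, rfl⟩
    exact ⟨n, Finset.mem_range.2 hn, rfl⟩

theorem count_weight (k : ℕ) (hk : k = 0 ∨ k = 8 ∨ k = 12 ∨ k = 16 ∨ k = 24) :
    ((Finset.range 4096).filter fun n => GolayBits.popc 24 (GolayBits.word n) = k).card =
      if k = 8 ∨ k = 16 then 759 else if k = 12 then 2576 else 1 := by
  rw [GolayBits.filter_range_card]
  rcases hk with rfl | rfl | rfl | rfl | rfl <;> decide +kernel

/-- Sums over the code depending only on the weight. -/
theorem sum_CF (g : ℕ → ℕ) :
    ∑ α ∈ CF, g α.card = g 0 + 759 * g 8 + 2576 * g 12 + 759 * g 16 + g 24 := by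
  have h1 : ∑ α ∈ CF, g α.card =
      ∑ n ∈ Finset.range 4096, g (GolayBits.popc 24 (GolayBits.word n)) := by
    rw [CF, Finset.sum_image]
    · refine Finset.sum_congr rfl fun n _ => ?_
      rw [GolayBits.card_toSet]
    · intro a ha b hb h
      exact GolayBits.toSet_word_injOn (by simpa using ha) (by simpa using hb) h
  rw [h1]
  have hmaps : ∀ n ∈ Finset.range 4096, GolayBits.popc 24 (GolayBits.word n) ∈
      ({0, 8, 12, 16, 24} : Finset ℕ) := by
    intro n hn
    have := GolayBits.popc_word ⟨n, Finset.mem_range.1 hn⟩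
    simpa using this
  rw [← Finset.sum_fiberwise_of_maps_to hmaps]
  have hfib : ∀ k, (k = 0 ∨ k = 8 ∨ k = 12 ∨ k = 16 ∨ k = 24) →
      ∑ n ∈ (Finset.range 4096).filter (fun n => GolayBits.popc 24 (GolayBits.word n) = k),
        g (GolayBits.popc 24 (GolayBits.word n)) =
      (if k = 8 ∨ k = 16 then 759 else if k = 12 then 2576 else 1) * g k := by
    intro k hk
    rw [← count_weight k hk, ← smul_eq_mul, ← Finset.sum_const]
    refine Finset.sum_congr rfl fun n hn => ?_
    rw [(Finset.mem_filter.1 hn).2]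
  have hset : ({0, 8, 12, 16, 24} : Finset ℕ) = insert 0 (insert 8 (insert 12 (insert 16 {24}))) := rfl
  rw [hset, Finset.sum_insert (by decide), Finset.sum_insert (by decide), Finset.sum_insert (by decide),
    Finset.sum_insert (by decide), Finset.sum_singleton,
    hfib 0 (by simp), hfib 8 (by simp), hfib 12 (by simp), hfib 16 (by simp), hfib 24 (by simp)]
  norm_num
  ring

attribute [local irreducible] CF

/-- The total count. -/
def totalV (W : Finset ℤ) (N : ℕ) : ℕ :=
  (cntV W 0 0 N + 759 * cntV W 0 8 N + 2576 * cntV W 0 12 N + 759 * cntV W 0 16 N + cntV W 0 24 N) +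
  (cntV W 1 0 N + 759 * cntV W 1 8 N + 2576 * cntV W 1 12 N + 759 * cntV W 1 16 N + cntV W 1 24 N)

/-- One piece of the decomposition. -/
def piece (W : Finset ℤ) (N : ℕ) (m : ℤ) (α : Finset GolayPt) : Finset (GolayPt → ℤ) :=
  (box W m α).filter fun x => T x % 2 = m % 2 ∧ normN x = N

theorem piece_disj {W : Finset ℤ} {N : ℕ} {m m' : ℤ} {α α' : Finset GolayPt}
    (hm : m = 0 ∨ m = 1) (hm' : m' = 0 ∨ m' = 1) {x : GolayPt → ℤ}
    (hx : x ∈ piece W N m α) (hx' : x ∈ piece W N m' α') : m = m' ∧ α = α' := by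
  have h1 := (mem_box.1 (Finset.mem_filter.1 hx).1).2
  have h2 := (mem_box.1 (Finset.mem_filter.1 hx').1).2
  have hmm : m = m' := by
    have h3 := h1 none
    have h4 := h2 none
    rw [h3] at h4
    simp only [resOf] at h4
    rcases br_cases α none with ⟨_, h⟩ | ⟨_, h⟩ <;> rcases br_cases α' none with ⟨_, h'⟩ | ⟨_, h'⟩ <;>
      rw [h, h'] at h4 <;> rcases hm with rfl | rfl <;> rcases hm' with rfl | rfl <;> omega
  subst hmm
  refine ⟨rfl, ?_⟩
  ext i
  have h3 := h1 i
  have h4 := h2 i
  rw [h3] at h4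
  simp only [resOf] at h4
  rcases br_cases α i with ⟨hi, h⟩ | ⟨hi, h⟩ <;> rcases br_cases α' i with ⟨hi', h'⟩ | ⟨hi', h'⟩ <;>
    rw [h, h'] at h4 <;> simp only [hi, hi'] <;> omega

theorem ncard_eq_total (W : Finset ℤ) (hW : W.card ≤ 17) (N : ℕ) :
    {x : GolayPt → ℤ | x ∈ leechLattice ∧ sqNorm x = N ∧ ∀ i, x i ∈ W}.ncard = totalV W N := by
  have h01 : (0 : ℤ) ≠ 1 := by norm_num
  have hset : {x : GolayPt → ℤ | x ∈ leechLattice ∧ sqNorm x = N ∧ ∀ i, x i ∈ W} =
      ↑((CF.biUnion (piece W N 0)) ∪ (CF.biUnion (piece W N 1))) := by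
    ext x
    simp only [Set.mem_ofPred_eq, Finset.coe_union, Finset.coe_biUnion, Set.mem_union, Set.mem_iUnion,
      Finset.mem_coe, exists_prop]
    constructor
    · rintro ⟨hL, hN, hWx⟩
      obtain ⟨m, α, hf⟩ := mem_leechLattice_iff.1 hL
      obtain ⟨β, hβ | hβ⟩ := hf.normal
      · left
        have := (isForm_iff (Or.inl rfl) hβ.1).1 hβ
        refine ⟨β, mem_CF.2 hβ.1, Finset.mem_filter.2 ⟨mem_box.2 ⟨hWx, this.1⟩, this.2, ?_⟩⟩
        rw [sqNorm_eq] at hN
        exact_mod_cast hN
      · right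
        have := (isForm_iff (Or.inr rfl) hβ.1).1 hβ
        refine ⟨β, mem_CF.2 hβ.1, Finset.mem_filter.2 ⟨mem_box.2 ⟨hWx, this.1⟩, this.2, ?_⟩⟩
        rw [sqNorm_eq] at hN
        exact_mod_cast hN
    · have key : ∀ m : ℤ, (m = 0 ∨ m = 1) → ∀ β ∈ CF, x ∈ piece W N m β →
          x ∈ leechLattice ∧ sqNorm x = N ∧ ∀ i, x i ∈ W := by
        intro m hm β hβ hx
        obtain ⟨h1, h2, h3⟩ := Finset.mem_filter.1 hx
        obtain ⟨h4, h5⟩ := mem_box.1 h1
        refine ⟨mem_leechLattice_iff.2 ⟨m, β, (isForm_iff hm (mem_CF.1 hβ)).2 ⟨h5, h2⟩⟩, ?_, h4⟩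
        rw [sqNorm_eq, h3]
      rintro (⟨β, hβ, hx⟩ | ⟨β, hβ, hx⟩)
      · exact key 0 (Or.inl rfl) β hβ hx
      · exact key 1 (Or.inr rfl) β hβ hx
  rw [hset, Set.ncard_coe_finset, Finset.card_union_of_disjoint]
  · have hc : ∀ m : ℤ, (m = 0 ∨ m = 1) → (CF.biUnion (piece W N m)).card =
        cntV W m 0 N + 759 * cntV W m 8 N + 2576 * cntV W m 12 N + 759 * cntV W m 16 N + cntV W m 24 N := by
      intro m hm
      rw [Finset.card_biUnion]
      · have : ∀ α ∈ CF, (piece W N m α).card = cntV W m α.card N := by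
          intro α _
          exact card_filter_box W hW α N
        rw [Finset.sum_congr rfl this]
        exact sum_CF (fun a => cntV W m a N)
      · intro α _ β _ hne
        show Disjoint (piece W N m α) (piece W N m β)
        rw [Finset.disjoint_left]
        intro x hx hx'
        exact hne (piece_disj hm hm hx hx').2
    rw [hc 0 (Or.inl rfl), hc 1 (Or.inr rfl)]
    rfl
  · rw [Finset.disjoint_left]
    intro x hx hx'
    obtain ⟨α, _, hα⟩ := Finset.mem_biUnion.1 hx
    obtain ⟨β, _, hβ⟩ := Finset.mem_biUnion.1 hx'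
    exact h01 (piece_disj (Or.inl rfl) (Or.inr rfl) hα hβ).1

/-- All coordinates of a vector of sum of squares at most 64 lie in `[-8, 8]`. -/
theorem coord_bound {x : GolayPt → ℤ} {N : ℕ} (h : sqNorm x = N) (hN : N ≤ 64) (i : GolayPt) :
    x i ∈ Finset.Icc (-8 : ℤ) 8 := by
  have h1 : x i ^ 2 ≤ sqNorm x := by
    rw [sqNorm]
    exact Finset.single_le_sum (f := fun j => x j ^ 2) (fun j _ => sq_nonneg _) (Finset.mem_univ i)
  rw [h] at h1
  have h2 : x i ^ 2 ≤ 64 := by
    have : (N : ℤ) ≤ 64 := by exact_mod_cast hN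
    linarith
  rw [Finset.mem_Icc]
  constructor <;> nlinarith

theorem card_Icc8 : (Finset.Icc (-8 : ℤ) 8).card ≤ 17 := by
  simp

theorem ncard_shell (N : ℕ) (hN : N ≤ 64) :
    {x : GolayPt → ℤ | x ∈ leechLattice ∧ sqNorm x = N}.ncard = totalV (Finset.Icc (-8) 8) N := by
  rw [← ncard_eq_total _ card_Icc8 N]
  congr 1
  ext x
  simp only [Set.mem_ofPred_eq]
  constructor
  · rintro ⟨h1, h2⟩
    exact ⟨h1, h2, coord_bound h2 hN⟩
  · rintro ⟨h1, h2, _⟩
    exact ⟨h1, h2⟩

theorem total32 : totalV (Finset.Icc (-8) 8) 32 = 196560 := by decide +kernel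

theorem total48 : totalV (Finset.Icc (-8) 8) 48 = 16773120 := by decide +kernel

theorem total64 : totalV (Finset.Icc (-8) 8) 64 = 398034000 := by decide +kernel

theorem ncard32 : {x : GolayPt → ℤ | x ∈ leechLattice ∧ sqNorm x = 32}.ncard = 196560 := by
  have := ncard_shell 32 (by norm_num)
  rw [total32] at this
  exact_mod_cast this

theorem ncard48 : {x : GolayPt → ℤ | x ∈ leechLattice ∧ sqNorm x = 48}.ncard = 16773120 := by
  have := ncard_shell 48 (by norm_num)
  rw [total48] at this
  exact_mod_cast this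

theorem ncard64 : {x : GolayPt → ℤ | x ∈ leechLattice ∧ sqNorm x = 64}.ncard = 398034000 := by
  have := ncard_shell 64 (by norm_num)
  rw [total64] at this
  exact_mod_cast this

end Cfsg.Agent.Lib.LeechTheta
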