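import Mathlib
import Cfsg.Agent.Lib.LeechTheta
import Cfsg.Agent.Lib.LeechMin
import Cfsg.Agent.Lib.LatticeClasses

set_option autoImplicit false
set_option maxHeartbeats 1000000

/-!
The rank-24 lattice as `ℤ^24` with a Gram form: classes modulo twice the lattice.
-/

namespace Cfsg.Agent.Lib.LeechClasses

open Cfsg Matrix
open Cfsg.Agent.Lib.LatticeClasses

/-- The lattice as a `ℤ`-submodule. -/
def latM : Submodule ℤ (GolayPt → ℤ) := AddSubgroup.toIntSubmodule leechLattice

theorem mem_latM {x : GolayPt → ℤ} : x ∈ latM ↔ x ∈ leechLattice := Iff.rfl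

/-- Eight times a coordinate vector is in the lattice. -/
theorem eight_single_mem (i : GolayPt) : Pi.single i (8 : ℤ) ∈ leechLattice := by
  rw [Cfsg.Agent.Lib.Leech.mem_leechLattice_iff]
  refine ⟨0, ∅, Cfsg.Agent.Lib.Leech.empty_mem_codeSets, fun j => ?_, ?_⟩
  · simp only [Int.ModEq, Cfsg.Agent.Lib.Leech.br]
    by_cases h : j = i
    · subst h
      simp
    · simp [Pi.single_eq_of_ne h]
  · simp [Int.ModEq]

/-- The lattice has a basis with 24 elements. -/
theorem exists_basis : Nonempty (Module.Basis (Fin 24) ℤ latM) := by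
  obtain ⟨n, b⟩ := Submodule.basisOfPid (Pi.basisFun ℤ GolayPt) latM
  have h1 : n ≤ 24 := by
    have hli : LinearIndependent ℤ (fun i => ((b i : latM) : GolayPt → ℤ)) :=
      b.linearIndependent.map' latM.subtype (Submodule.ker_subtype _)
    have := hli.fintype_card_le_finrank
    simpa [Cfsg.Agent.Lib.Leech.card_golayPt] using this
  have h2 : 24 ≤ n := by
    let w : GolayPt → latM := fun i => ⟨Pi.single i (8 : ℤ), eight_single_mem i⟩
    have hli : LinearIndependent ℤ w := by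
      rw [linearIndependent_iff']
      intro s g hg i hi
      have h3 := congrArg (fun z : latM => (z : GolayPt → ℤ) i) hg
      simp only [Submodule.coe_sum, Submodule.coe_smul, Finset.sum_apply, Pi.smul_apply, w,
        smul_eq_mul, Submodule.coe_zero, Pi.zero_apply] at h3
      rw [Finset.sum_eq_single i] at h3
      · simp only [Pi.single_eq_same] at h3
        omega
      · intro j _ hj
        simp [Pi.single_eq_of_ne hj.symm]
      · intro h
        exact absurd hi h
    have := hli.fintype_card_le_finrank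
    rw [Module.finrank_eq_card_basis b] at this
    simpa [Cfsg.Agent.Lib.Leech.card_golayPt] using this
  obtain rfl : n = 24 := le_antisymm h1 h2
  exact ⟨b⟩

theorem dot_dvd {x y : GolayPt → ℤ} (hx : x ∈ leechLattice) (hy : y ∈ leechLattice) :
    (8 : ℤ) ∣ dotInt x y := by
  obtain ⟨a, ha⟩ := Cfsg.Agent.Lib.Leech.sqNorm_dvd hx
  obtain ⟨b, hb⟩ := Cfsg.Agent.Lib.Leech.sqNorm_dvd hy
  obtain ⟨c, hc⟩ := Cfsg.Agent.Lib.Leech.sqNorm_dvd (add_mem hx hy)
  have : sqNorm (x + y) = sqNorm x + 2 * dotInt x y + sqNorm y := by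
    simp only [sqNorm, dotInt, Pi.add_apply, Finset.mul_sum, ← Finset.sum_add_distrib]
    refine Finset.sum_congr rfl fun i _ => ?_
    ring
  rw [ha, hb, hc] at this
  exact ⟨c - a - b, by omega⟩

theorem dotInt_comm (x y : GolayPt → ℤ) : dotInt x y = dotInt y x := by
  simp only [dotInt, mul_comm]

theorem dotInt_self (x : GolayPt → ℤ) : dotInt x x = sqNorm x := by
  simp only [dotInt, sqNorm, sq]

/-- The Gram form and the parametrisation. -/
theorem exists_form : ∃ (B : Matrix (Fin 24) (Fin 24) ℤ) (φ : (Fin 24 → ℤ) ≃+ leechLattice),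
    IsForm B ∧ ∀ c d : Fin 24 → ℤ, dotInt (φ c : GolayPt → ℤ) (φ d : GolayPt → ℤ) = 8 * (c ⬝ᵥ (B *ᵥ d)) := by
  obtain ⟨b⟩ := exists_basis
  let e : latM ≃+ leechLattice :=
    { toFun := fun x => ⟨x.1, x.2⟩
      invFun := fun x => ⟨x.1, x.2⟩
      left_inv := fun _ => rfl
      right_inv := fun _ => rfl
      map_add' := fun _ _ => rfl }
  let φ : (Fin 24 → ℤ) ≃+ leechLattice := b.equivFun.symm.toAddEquiv.trans e
  let v : Fin 24 → GolayPt → ℤ := fun i => (b i : GolayPt → ℤ)
  have hv : ∀ i, v i ∈ leechLattice := fun i => (b i).2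
  have hφ : ∀ c : Fin 24 → ℤ, (φ c : GolayPt → ℤ) = ∑ i, c i • v i := by
    intro c
    have : b.equivFun.symm c = ∑ i, c i • b i := Module.Basis.equivFun_symm_apply b c
    show ((b.equivFun.symm c : latM) : GolayPt → ℤ) = _
    rw [this]
    simp [v]
  let B : Matrix (Fin 24) (Fin 24) ℤ := fun i j => dotInt (v i) (v j) / 8
  have hB8 : ∀ i j, 8 * B i j = dotInt (v i) (v j) := fun i j =>
    Int.mul_ediv_cancel' (dot_dvd (hv i) (hv j))
  have hbil : ∀ c d : Fin 24 → ℤ, dotInt (φ c : GolayPt → ℤ) (φ d : GolayPt → ℤ) = 8 * (c ⬝ᵥ (B *ᵥ d)) := by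
    intro c d
    rw [hφ, hφ]
    have h1 : dotInt (∑ i, c i • v i) (∑ j, d j • v j) = ∑ i, ∑ j, c i * d j * dotInt (v i) (v j) := by
      simp only [dotInt, Finset.sum_apply, Pi.smul_apply, smul_eq_mul]
      simp_rw [Finset.sum_mul_sum]
      rw [Finset.sum_comm]
      refine Finset.sum_congr rfl fun i _ => ?_
      rw [Finset.sum_comm]
      refine Finset.sum_congr rfl fun j _ => ?_
      rw [Finset.mul_sum]
      refine Finset.sum_congr rfl fun p _ => ?_
      ring
    rw [h1]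
    simp only [dotProduct, Matrix.mulVec, Finset.mul_sum, ← hB8]
    refine Finset.sum_congr rfl fun i _ => Finset.sum_congr rfl fun j _ => ?_
    ring
  have hself : ∀ c : Fin 24 → ℤ, sqNorm (φ c : GolayPt → ℤ) = 8 * N B c := by
    intro c
    rw [← dotInt_self, hbil]
    rfl
  have h0 : ∀ c : Fin 24 → ℤ, c ≠ 0 → (φ c : GolayPt → ℤ) ≠ 0 := by
    intro c hc h
    apply hc
    have : φ c = 0 := Subtype.ext h
    exact (map_eq_zero_iff φ φ.injective).1 this
  have hmin : ∀ c : Fin 24 → ℤ, c ≠ 0 → 4 ≤ N B c := by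
    intro c hc
    have := Cfsg.Agent.Lib.LeechMin.min_norm
      (Cfsg.Agent.Lib.Leech.mem_leechLattice_iff_leechSet.1 (φ c).2) (h0 c hc)
    rw [hself] at this
    omega
  refine ⟨B, φ, ⟨?_, ?_, ?_, ?_⟩, hbil⟩
  · ext i j
    show dotInt (v j) (v i) / 8 = dotInt (v i) (v j) / 8
    rw [dotInt_comm]
  · intro c hc
    have := hmin c hc
    show 0 < N B c
    omega
  · intro c
    obtain ⟨a, ha⟩ := Cfsg.Agent.Lib.Leech.sqNorm_dvd (φ c).2
    rw [hself] at ha
    exact ⟨a, by show N B c = 2 * a; omega⟩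
  · intro c hc
    by_cases hc0 : c = 0
    · subst hc0
      simp at hc
    · have := hmin c hc0
      have h2 : N B c = 2 := hc
      omega

section

variable {B : Matrix (Fin 24) (Fin 24) ℤ} {φ : (Fin 24 → ℤ) ≃+ leechLattice}

theorem sqNorm_φ (hbil : ∀ c d : Fin 24 → ℤ,
    dotInt (φ c : GolayPt → ℤ) (φ d : GolayPt → ℤ) = 8 * (c ⬝ᵥ (B *ᵥ d))) (c : Fin 24 → ℤ) :
    sqNorm (φ c : GolayPt → ℤ) = 8 * N B c := by
  rw [← dotInt_self, hbil]
  rfl

theorem ncard_shell_eq (hbil : ∀ c d : Fin 24 → ℤ,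
    dotInt (φ c : GolayPt → ℤ) (φ d : GolayPt → ℤ) = 8 * (c ⬝ᵥ (B *ᵥ d))) (K : ℤ) :
    {c : Fin 24 → ℤ | N B c = K}.ncard = {x : GolayPt → ℤ | x ∈ leechLattice ∧ sqNorm x = 8 * K}.ncard := by
  have hinj : Function.Injective (fun c : Fin 24 → ℤ => (φ c : GolayPt → ℤ)) :=
    fun a b h => φ.injective (Subtype.ext h)
  rw [← Set.ncard_image_of_injective _ hinj]
  congr 1
  ext x
  simp only [Set.mem_image, Set.mem_ofPred_eq]
  constructor
  · rintro ⟨c, hc, rfl⟩
    exact ⟨(φ c).2, by rw [sqNorm_φ hbil, hc]⟩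
  · rintro ⟨hx, hn⟩
    refine ⟨φ.symm ⟨x, hx⟩, ?_, by simp⟩
    have := sqNorm_φ hbil (φ.symm ⟨x, hx⟩)
    simp only [AddEquiv.apply_symm_apply] at this
    rw [hn] at this
    omega

theorem cong_iff (c d : Fin 24 → ℤ) : red c = red d ↔
    ∃ z ∈ leechLattice, (φ c : GolayPt → ℤ) - (φ d : GolayPt → ℤ) = 2 • z := by
  rw [red_eq_iff]
  constructor
  · intro h
    choose e he using h
    refine ⟨φ e, (φ e).2, ?_⟩
    have h1 : c - d = 2 • e := by
      funext i
      simp only [Pi.smul_apply, nsmul_eq_mul]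
      rw [he i]
      norm_num
    have h2 : φ c - φ d = 2 • φ e := by
      rw [← map_sub, h1, map_nsmul]
    have := congrArg (fun z : leechLattice => (z : GolayPt → ℤ)) h2
    simpa using this
  · rintro ⟨z, hz, h⟩
    have h1 : φ (c - d) = 2 • (⟨z, hz⟩ : leechLattice) := by
      apply Subtype.ext
      rw [map_sub]
      simpa using h
    have h2 : c - d = 2 • φ.symm ⟨z, hz⟩ := by
      apply φ.injective
      rw [h1, map_nsmul, AddEquiv.apply_symm_apply]
    intro i
    rw [h2]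
    simp only [Pi.smul_apply, nsmul_eq_mul]
    norm_num

end

/-- The classes of the lattice modulo twice the lattice. -/
theorem main_lattice :
    (∀ x ∈ leechLattice, sqNorm x = 64 →
      {y : GolayPt → ℤ | y ∈ leechLattice ∧ sqNorm y = 64 ∧ ∃ z ∈ leechLattice, x - y = 2 • z}.ncard = 48) ∧
    (∀ x ∈ leechLattice, ∃ y ∈ leechLattice, sqNorm y ≤ 64 ∧ ∃ z ∈ leechLattice, x - y = 2 • z) := by
  obtain ⟨B, φ, hB, hbil⟩ := exists_form
  have h4 : {c : Fin 24 → ℤ | N B c = 4}.ncard = 196560 := by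
    rw [ncard_shell_eq hbil]
    exact Cfsg.Agent.Lib.LeechTheta.ncard32
  have h6 : {c : Fin 24 → ℤ | N B c = 6}.ncard = 16773120 := by
    rw [ncard_shell_eq hbil]
    exact Cfsg.Agent.Lib.LeechTheta.ncard48
  have h8 : {c : Fin 24 → ℤ | N B c = 8}.ncard = 398034000 := by
    rw [ncard_shell_eq hbil]
    exact Cfsg.Agent.Lib.LeechTheta.ncard64
  obtain ⟨h1, hf, h3⟩ := main_count hB h4 h6 h8
  have hinj : Function.Injective (fun c : Fin 24 → ℤ => (φ c : GolayPt → ℤ)) :=
    fun a b h => φ.injective (Subtype.ext h)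
  constructor
  · intro x hx hn
    obtain ⟨c, hc⟩ := φ.surjective ⟨x, hx⟩
    have hx' : (φ c : GolayPt → ℤ) = x := by rw [hc]
    have hNc : N B c = 8 := by
      have := sqNorm_φ hbil c
      rw [hx', hn] at this
      omega
    have := h1 c hNc
    rw [← this, ← Set.ncard_coe_finset, ← Set.ncard_image_of_injective _ hinj]
    congr 1
    ext y
    simp only [Set.mem_image, Finset.coe_filter, Set.mem_ofPred_eq, mem_shell hf]
    constructor
    · rintro ⟨hy, hny, hz⟩
      obtain ⟨d, hd⟩ := φ.surjective ⟨y, hy⟩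
      have hy' : (φ d : GolayPt → ℤ) = y := by rw [hd]
      refine ⟨d, ⟨?_, ?_⟩, hy'⟩
      · have := sqNorm_φ hbil d
        rw [hy', hny] at this
        omega
      · symm
        rw [cong_iff (φ := φ), hx', hy']
        exact hz
    · rintro ⟨d, ⟨hd, hr⟩, rfl⟩
      refine ⟨(φ d).2, ?_, ?_⟩
      · rw [sqNorm_φ hbil, hd]
        norm_num
      · have := (cong_iff (φ := φ) c d).1 hr.symm
        rwa [hx'] at this
  · intro x hx
    obtain ⟨c, hc⟩ := φ.surjective ⟨x, hx⟩
    have hx' : (φ c : GolayPt → ℤ) = x := by rw [hc]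
    obtain ⟨d, hd, hr⟩ := h3 c
    refine ⟨φ d, (φ d).2, ?_, ?_⟩
    · rw [sqNorm_φ hbil]
      rcases hd with h | h | h | h <;> rw [h] <;> norm_num
    · have := (cong_iff (φ := φ) c d).1 hr.symm
      rwa [hx'] at this

end Cfsg.Agent.Lib.LeechClasses
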