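import Mathlib
import Cfsg.Prelude.Def_Sporadic_a
import Cfsg.Agent.Lib.Leech

/-!
Monomial elements of the automorphism group of the rank-24 lattice: a sign change on a member of the code
composed with a coordinate permutation from `M24`.
-/

set_option autoImplicit false
set_option linter.unusedVariables false

namespace Cfsg.Agent.Lib.Co0Mono

open Cfsg Cfsg.Agent.Lib.Leech

/-- The monomial map attached to a set of coordinates and a permutation. -/
def mono (c : Finset GolayPt) (σ : Equiv.Perm GolayPt) (x : GolayPt → ℤ) : GolayPt → ℤ :=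
  fun i => if i ∈ c then - x (σ i) else x (σ i)

variable {c : Finset GolayPt} {σ : Equiv.Perm GolayPt}

theorem mono_apply (x : GolayPt → ℤ) (i : GolayPt) :
    mono c σ x i = if i ∈ c then - x (σ i) else x (σ i) := rfl

theorem mono_mem (hc : c ∈ codeSets) (hσ : σ ∈ M24) {x : GolayPt → ℤ} (hx : x ∈ leechLattice) :
    mono c σ x ∈ leechLattice := by
  obtain ⟨m, α, h⟩ := mem_leechLattice_iff.1 hx
  obtain ⟨β, h2⟩ := (h.perm hσ).sign hc
  exact mem_leechLattice_iff.2 ⟨m, β, h2⟩

theorem mono_add (x y : GolayPt → ℤ) : mono c σ (x + y) = mono c σ x + mono c σ y := by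
  funext i
  simp only [mono, Pi.add_apply]
  split_ifs <;> ring

theorem mono_neg (x : GolayPt → ℤ) : mono c σ (-x) = - mono c σ x := by
  funext i
  simp only [mono, Pi.neg_apply]
  split_ifs <;> rfl

theorem sqNorm_mono (x : GolayPt → ℤ) : sqNorm (mono c σ x) = sqNorm x := by
  unfold sqNorm
  have : ∀ i, mono c σ x i ^ 2 = x (σ i) ^ 2 := by
    intro i
    simp only [mono]
    split_ifs <;> ring
  simp only [this]
  exact Equiv.sum_comp σ (fun i => x i ^ 2)

theorem dotInt_mono (x y : GolayPt → ℤ) : dotInt (mono c σ x) (mono c σ y) = dotInt x y := by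
  unfold dotInt
  have : ∀ i, mono c σ x i * mono c σ y i = x (σ i) * y (σ i) := by
    intro i
    simp only [mono]
    split_ifs <;> ring
  simp only [this]
  exact Equiv.sum_comp σ (fun i => x i * y i)

theorem mono_inv_left (x : GolayPt → ℤ) : mono (c.image σ) σ⁻¹ (mono c σ x) = x := by
  funext i
  have hmem : (σ⁻¹ i ∈ c) ↔ i ∈ c.image σ := by
    simp only [Finset.mem_image]
    constructor
    · intro h
      exact ⟨_, h, by simp⟩
    · rintro ⟨a, ha, rfl⟩
      simpa using ha
  simp only [mono, hmem]
  by_cases h : i ∈ c.image σ <;> simp [h]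

theorem mono_inv_right (x : GolayPt → ℤ) : mono c σ (mono (c.image σ) σ⁻¹ x) = x := by
  funext i
  have hmem : (σ i ∈ c.image σ) ↔ i ∈ c := by
    simp only [Finset.mem_image, EmbeddingLike.apply_eq_iff_eq, exists_eq_right]
  simp only [mono, hmem]
  by_cases h : i ∈ c <;> simp [h]

/-- The monomial map as a permutation of the lattice. -/
def monoPerm (hc : c ∈ codeSets) (hσ : σ ∈ M24) : Equiv.Perm leechLattice where
  toFun v := ⟨mono c σ v, mono_mem hc hσ v.2⟩
  invFun v := ⟨mono (c.image σ) σ⁻¹ v, mono_mem (image_mem_codeSets hσ hc) (inv_mem hσ) v.2⟩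
  left_inv v := Subtype.ext (mono_inv_left _)
  right_inv v := Subtype.ext (mono_inv_right _)

/-- The monomial map as an element of the automorphism group. -/
def monoCo0 (hc : c ∈ codeSets) (hσ : σ ∈ M24) : Co0 :=
  ⟨monoPerm hc hσ, fun v w => Subtype.ext (mono_add _ _), fun v => sqNorm_mono _⟩

theorem monoCo0_apply (hc : c ∈ codeSets) (hσ : σ ∈ M24) (v : leechLattice) :
    (((monoCo0 hc hσ : Co0) : Equiv.Perm leechLattice) v : GolayPt → ℤ) = mono c σ v := rfl

/-- Elements of `Co0` are odd. -/
theorem co0_neg (g : Co0) (v : leechLattice) : (g : Equiv.Perm leechLattice) (-v) = -(g : Equiv.Perm leechLattice) v := by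
  have h := g.2.1 v (-v)
  rw [add_neg_cancel] at h
  have h0 : (g : Equiv.Perm leechLattice) 0 = 0 := by
    have := g.2.1 0 0
    rw [add_zero] at this
    exact left_eq_add.mp this
  rw [h0] at h
  exact (neg_eq_of_add_eq_zero_right h.symm).symm

/-- Negation as an element of the automorphism group. -/
def negCo0 : Co0 :=
  ⟨Equiv.neg leechLattice, fun v w => by simp [add_comm], fun v => by
    simp [sqNorm]⟩

theorem negCo0_apply (v : leechLattice) : ((negCo0 : Co0) : Equiv.Perm leechLattice) v = -v := rfl

end Cfsg.Agent.Lib.Co0Mono
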