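import Mathlib
import Cfsg.Prelude.Def_Sporadic_a
import Cfsg.Agent.Lib.Co0Mono
import Cfsg.Agent.Lib.M24Facts

/-!
A quadratic form on the rank-24 lattice (with values in `ZMod 2`) that is invariant under the
monomial elements of `Co0` vanishes on the vectors `4 e_i + 4 e_j`, and its polar form vanishes on
pairs of such vectors.
-/

set_option autoImplicit false

namespace Cfsg.Agent.Lib.LeechFourForm

open Cfsg Cfsg.Agent.Lib.Leech Cfsg.Agent.Lib.Co0Mono

/-- The coordinates of `4 e_i + 4 e_j`. -/
def vf (i j : GolayPt) : GolayPt → ℤ := fun k => (if k = i then 4 else 0) + (if k = j then 4 else 0)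

theorem vf_mem (i j : GolayPt) : vf i j ∈ leechLattice := by
  rw [mem_leechLattice_iff]
  refine ⟨0, ∅, empty_mem_codeSets, fun k => ?_, ?_⟩
  · simp only [vf, br, Finset.notMem_empty, if_false, Int.ModEq]
    split_ifs <;> norm_num
  · have : ∑ k, vf i j k = 8 := by
      simp only [vf, Finset.sum_add_distrib, Finset.sum_ite_eq', Finset.mem_univ, if_true]
      norm_num
    rw [this]
    decide

/-- The lattice vector `4 e_i + 4 e_j`. -/
def vec (i j : GolayPt) : leechLattice := ⟨vf i j, vf_mem i j⟩

theorem vec_comm (i j : GolayPt) : vec i j = vec j i := by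
  apply Subtype.ext
  funext k
  show vf i j k = vf j i k
  simp only [vf]
  ring

theorem vec_add_vec (i j k l : GolayPt) : vec i j + vec k l = vec i k + vec j l := by
  apply Subtype.ext
  funext m
  show vf i j m + vf k l m = vf i k m + vf j l m
  simp only [vf]
  ring

/-- A quadratic form with values in `ZMod 2`, with polar form `b`, invariant under `Co0`. -/
structure IsInvForm (q : leechLattice → ZMod 2) (b : leechLattice → leechLattice → ZMod 2) : Prop where
  q_add : ∀ v w, q (v + w) = q v + q w + b v w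
  b_add : ∀ u v w, b u (v + w) = b u v + b u w
  b_comm : ∀ v w, b v w = b w v
  b_self : ∀ v, b v v = 0
  inv : ∀ (g : Co0) (v : leechLattice), q ((g : Equiv.Perm leechLattice) v) = q v

variable {q : leechLattice → ZMod 2} {b : leechLattice → leechLattice → ZMod 2}

namespace IsInvForm

variable (h : IsInvForm q b)
include h

theorem b_inv (g : Co0) (v w : leechLattice) :
    b ((g : Equiv.Perm leechLattice) v) ((g : Equiv.Perm leechLattice) w) = b v w := by
  have h1 := h.q_add ((g : Equiv.Perm leechLattice) v) ((g : Equiv.Perm leechLattice) w)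
  rw [← g.2.1 v w, h.inv, h.inv, h.inv, h.q_add] at h1
  exact (add_left_cancel h1).symm

theorem b_add_left (u v w : leechLattice) : b (u + v) w = b u w + b v w := by
  rw [h.b_comm, h.b_add, h.b_comm w u, h.b_comm w v]

theorem b_double (u w : leechLattice) : b u (w + w) = 0 := by
  rw [h.b_add]
  exact CharTwo.add_self_eq_zero _

theorem q_double (w : leechLattice) : q (w + w) = 0 := by
  rw [h.q_add, h.b_self, CharTwo.add_self_eq_zero, add_zero]

end IsInvForm

/-- The monomial element given by a permutation only. -/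
noncomputable def monoP {σ : Equiv.Perm GolayPt} (hσ : σ ∈ M24) : Co0 := monoCo0 empty_mem_codeSets hσ

theorem monoP_vec {σ : Equiv.Perm GolayPt} (hσ : σ ∈ M24) (i j : GolayPt) :
    ((monoP hσ : Co0) : Equiv.Perm leechLattice) (vec (σ i) (σ j)) = vec i j := by
  apply Subtype.ext
  funext k
  rw [monoP, monoCo0_apply]
  show mono ∅ σ (vf (σ i) (σ j)) k = vf i j k
  simp only [mono, Finset.notMem_empty, if_false, vf, EmbeddingLike.apply_eq_iff_eq]

namespace IsInvForm

variable (h : IsInvForm q b)
include h

theorem q_perm {σ : Equiv.Perm GolayPt} (hσ : σ ∈ M24) (i j : GolayPt) :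
    q (vec i j) = q (vec (σ i) (σ j)) := by
  rw [← monoP_vec hσ i j, h.inv]

theorem b_perm {σ : Equiv.Perm GolayPt} (hσ : σ ∈ M24) (i j k l : GolayPt) :
    b (vec i j) (vec k l) = b (vec (σ i) (σ j)) (vec (σ k) (σ l)) := by
  rw [← monoP_vec hσ i j, ← monoP_vec hσ k l, h.b_inv]

end IsInvForm

/-- Sign change on a member of the code. -/
theorem sign_vec {C : Finset GolayPt} (hC : C ∈ codeSets) {i j : GolayPt} (hi : i ∈ C) (hj : j ∉ C) :
    ((monoCo0 hC (one_mem M24) : Co0) : Equiv.Perm leechLattice) (vec i j) + vec i i = vec i j := by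
  apply Subtype.ext
  funext k
  have hij : i ≠ j := fun e => hj (e ▸ hi)
  show (((monoCo0 hC (one_mem M24) : Co0) : Equiv.Perm leechLattice) (vec i j) : GolayPt → ℤ) k + vf i i k = vf i j k
  rw [monoCo0_apply]
  show mono C 1 (vf i j) k + vf i i k = vf i j k
  simp only [mono, vf, Equiv.Perm.one_apply]
  by_cases h1 : k = i
  · subst h1
    simp [hi, hij]
  · by_cases h2 : k = j
    · subst h2
      simp [hj, h1]
    · by_cases h3 : k ∈ C <;> simp [h3, h1, h2]


/-- For two distinct points, a member of the code separating them. -/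
theorem exists_sep {i j : GolayPt} (hij : i ≠ j) : ∃ C ∈ codeSets, i ∈ C ∧ j ∉ C := by
  obtain ⟨g, hg1, hg2⟩ := Cfsg.Agent.Lib.M24Facts.exists_two
    (a := some 0) (b := none) (c := i) (d := j) (by decide) hij
  have hD : support₂ (qrWord 0) ∈ codeSets :=
    ⟨qrWord 0, Submodule.subset_span (Or.inl ⟨0, rfl⟩), rfl⟩
  have h0 : (some 0 : GolayPt) ∈ support₂ (qrWord 0) := by decide +kernel
  have h1 : (none : GolayPt) ∉ support₂ (qrWord 0) := by decide +kernel
  refine ⟨(support₂ (qrWord 0)).image (g : Equiv.Perm GolayPt), image_mem_codeSets g.2 hD, ?_, ?_⟩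
  · rw [Finset.mem_image]
    exact ⟨_, h0, hg1⟩
  · rw [Finset.mem_image]
    rintro ⟨x, hx, hxj⟩
    have : x = none := (g : Equiv.Perm GolayPt).injective (hxj.trans hg2.symm)
    exact h1 (this ▸ hx)

/-- An embedding of `Fin 4` from four distinct points. -/
def emb4 {a b c d : GolayPt} (hab : a ≠ b) (hac : a ≠ c) (had : a ≠ d) (hbc : b ≠ c) (hbd : b ≠ d)
    (hcd : c ≠ d) : Fin 4 ↪ GolayPt :=
  ⟨![a, b, c, d], by
    intro i j h
    fin_cases i <;> fin_cases j <;> simp_all⟩

theorem exists_four {a b c d a' b' c' d' : GolayPt} (hab : a ≠ b) (hac : a ≠ c) (had : a ≠ d)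
    (hbc : b ≠ c) (hbd : b ≠ d) (hcd : c ≠ d) (hab' : a' ≠ b') (hac' : a' ≠ c') (had' : a' ≠ d')
    (hbc' : b' ≠ c') (hbd' : b' ≠ d') (hcd' : c' ≠ d') :
    ∃ g : M24, (g : Equiv.Perm GolayPt) a = a' ∧ (g : Equiv.Perm GolayPt) b = b' ∧
      (g : Equiv.Perm GolayPt) c = c' ∧ (g : Equiv.Perm GolayPt) d = d' := by
  obtain ⟨g, hg⟩ := MulAction.exists_smul_eq (M := M24) (emb4 hab hac had hbc hbd hcd)
    (emb4 hab' hac' had' hbc' hbd' hcd')
  have h0 := congrArg (fun e : Fin 4 ↪ GolayPt => e 0) hg
  have h1 := congrArg (fun e : Fin 4 ↪ GolayPt => e 1) hg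
  have h2 := congrArg (fun e : Fin 4 ↪ GolayPt => e 2) hg
  have h3 := congrArg (fun e : Fin 4 ↪ GolayPt => e 3) hg
  exact ⟨g, h0, h1, h2, h3⟩

/-- The vector `2 · 1_D` for the support `D` of `qrWord 0`. -/
def twoDf : GolayPt → ℤ := fun k => if k ∈ support₂ (qrWord 0) then 2 else 0

theorem twoDf_mem : twoDf ∈ leechLattice := by
  rw [mem_leechLattice_iff]
  refine ⟨0, support₂ (qrWord 0), ⟨qrWord 0, Submodule.subset_span (Or.inl ⟨0, rfl⟩), rfl⟩,
    fun k => ?_, ?_⟩
  · simp only [twoDf, br]
    split_ifs <;> simp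
  · decide +kernel

/-- The vector `2 · 1_D` in the lattice. -/
def twoD : leechLattice := ⟨twoDf, twoDf_mem⟩

theorem twoD_add : twoD + twoD = vec (some 0) (some 1) + vec (some 2) (some 3) + vec (some 4) (some 6)
    + vec (some 8) (some 9) + vec (some 12) (some 13) + vec (some 16) (some 18) := by
  apply Subtype.ext
  funext k
  show twoDf k + twoDf k = vf (some 0) (some 1) k + vf (some 2) (some 3) k + vf (some 4) (some 6) k
    + vf (some 8) (some 9) k + vf (some 12) (some 13) k + vf (some 16) (some 18) k
  revert k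
  decide +kernel

namespace IsInvForm

variable (h : IsInvForm q b)
include h

theorem b_aa (u : leechLattice) (i j : GolayPt) : b u (vec i i) = b u (vec j j) := by
  have h1 : b u (vec i i + vec j j) = 0 := by
    rw [vec_add_vec i i j j]
    exact h.b_double _ _
  rw [h.b_add] at h1
  exact CharTwo.add_eq_zero.mp h1

theorem q_aa (i j : GolayPt) : q (vec i i) = q (vec j j) := by
  have h1 : q (vec i i + vec j j) = 0 := by
    rw [vec_add_vec i i j j]
    exact h.q_double _
  rw [h.q_add, h.b_aa _ j i, h.b_self, add_zero] at h1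
  exact CharTwo.add_eq_zero.mp h1

theorem b_sep {i j : GolayPt} (hij : i ≠ j) : b (vec i j) (vec i i) = q (vec i i) := by
  obtain ⟨C, hC, hi, hj⟩ := exists_sep hij
  have e := sign_vec hC hi hj
  have h1 := h.q_add (((monoCo0 hC (one_mem M24) : Co0) : Equiv.Perm leechLattice) (vec i j)) (vec i i)
  rw [e, h.inv] at h1
  have h2 := h.b_add_left (((monoCo0 hC (one_mem M24) : Co0) : Equiv.Perm leechLattice) (vec i j))
    (vec i i) (vec i i)
  rw [e, h.b_self, add_zero] at h2
  rw [h2]
  have key : ∀ x y z : ZMod 2, x = x + y + z → z = y := by decide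
  exact key _ _ _ h1

theorem q_a (i : GolayPt) : q (vec i i) = 0 := by
  have e := vec_add_vec (some 0) none (some 0) (some 1)
  have h1 := congrArg (fun x => b x (vec (some 0) (some 0))) e
  simp only [h.b_add_left] at h1
  rw [h.b_sep (by decide), h.b_sep (by decide), h.b_self,
    h.b_aa (vec none (some 1)) (some 0) none, h.b_sep (by decide), h.q_aa none (some 0)] at h1
  have key : ∀ x : ZMod 2, x + x = 0 + x → x = 0 := by decide
  rw [h.q_aa i (some 0)]
  exact key _ h1

theorem b_vec_a (i j k : GolayPt) : b (vec i j) (vec k k) = 0 := by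
  by_cases hij : i = j
  · subst hij
    rw [h.b_aa _ k i, h.b_self]
  · rw [h.b_aa _ k i, h.b_sep hij, h.q_a]

theorem q_vec_eq {i j i' j' : GolayPt} (hij : i ≠ j) (hij' : i' ≠ j') : q (vec i j) = q (vec i' j') := by
  obtain ⟨g, hg1, hg2⟩ := Cfsg.Agent.Lib.M24Facts.exists_two hij hij'
  rw [h.q_perm g.2 i j]
  show q (vec (g • i) (g • j)) = _
  rw [hg1, hg2]

theorem b_vec_one {i j k : GolayPt} (hij : i ≠ j) (hjk : j ≠ k) :
    b (vec i j) (vec j k) = q (vec i k) := by
  have e := vec_add_vec j i j k
  have h1 := congrArg q e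
  rw [h.q_add, h.q_add, h.q_a, zero_add, h.b_comm (vec j j), h.b_vec_a, add_zero,
    h.q_vec_eq hij.symm hjk, vec_comm j i] at h1
  have key : ∀ x y : ZMod 2, x + x + y = y → True := fun _ _ _ => trivial
  rw [CharTwo.add_self_eq_zero, zero_add] at h1
  exact h1

theorem b_four {i j k l i' j' k' l' : GolayPt} (hij : i ≠ j) (hik : i ≠ k) (hil : i ≠ l) (hjk : j ≠ k)
    (hjl : j ≠ l) (hkl : k ≠ l) (hij' : i' ≠ j') (hik' : i' ≠ k') (hil' : i' ≠ l') (hjk' : j' ≠ k')
    (hjl' : j' ≠ l') (hkl' : k' ≠ l') : b (vec i j) (vec k l) = b (vec i' j') (vec k' l') := by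
  obtain ⟨g, h1, h2, h3, h4⟩ := exists_four hij hik hil hjk hjl hkl hij' hik' hil' hjk' hjl' hkl'
  rw [h.b_perm g.2 i j k l, h1, h2, h3, h4]

theorem b_disj {i j k l : GolayPt} (hij : i ≠ j) (hik : i ≠ k) (hil : i ≠ l) (hjk : j ≠ k)
    (hjl : j ≠ l) (hkl : k ≠ l) : b (vec i j) (vec k l) = 0 := by
  have e := vec_add_vec (some 2) (some 1) (some 2) (some 3)
  have h1 := congrArg (fun x => b (vec none (some 0)) x) e
  simp only [h.b_add] at h1
  rw [h.b_vec_a, zero_add,
    h.b_four (i := none) (j := some 0) (k := some 2) (l := some 1)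
      (i' := none) (j' := some 0) (k' := some 1) (l' := some 3)
      (by decide) (by decide) (by decide) (by decide) (by decide) (by decide)
      (by decide) (by decide) (by decide) (by decide) (by decide) (by decide),
    h.b_four (i := none) (j := some 0) (k := some 2) (l := some 3)
      (i' := none) (j' := some 0) (k' := some 1) (l' := some 3)
      (by decide) (by decide) (by decide) (by decide) (by decide) (by decide)
      (by decide) (by decide) (by decide) (by decide) (by decide) (by decide),
    CharTwo.add_self_eq_zero] at h1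
  rw [h.b_four hij hik hil hjk hjl hkl (i' := none) (j' := some 0) (k' := some 1) (l' := some 3)
      (by decide) (by decide) (by decide) (by decide) (by decide) (by decide), ← h1]

theorem q_vec {i j : GolayPt} : q (vec i j) = 0 := by
  by_cases hij : i = j
  · subst hij
    exact h.q_a i
  have h1 : b (vec none (some 0)) (twoD + twoD) = 0 := h.b_double _ _
  rw [twoD_add] at h1
  simp only [h.b_add] at h1
  rw [h.b_vec_one (by decide) (by decide),
    h.b_disj (i := none) (j := some 0) (k := some 2) (l := some 3) (by decide) (by decide) (by decide) (by decide) (by decide) (by decide),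
    h.b_disj (i := none) (j := some 0) (k := some 4) (l := some 6) (by decide) (by decide) (by decide) (by decide) (by decide) (by decide),
    h.b_disj (i := none) (j := some 0) (k := some 8) (l := some 9) (by decide) (by decide) (by decide) (by decide) (by decide) (by decide),
    h.b_disj (i := none) (j := some 0) (k := some 12) (l := some 13) (by decide) (by decide) (by decide) (by decide) (by decide) (by decide),
    h.b_disj (i := none) (j := some 0) (k := some 16) (l := some 18) (by decide) (by decide) (by decide) (by decide) (by decide) (by decide)] at h1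
  simp only [add_zero] at h1
  rw [h.q_vec_eq hij (i' := none) (j' := some 1) (by decide)]
  exact h1

theorem b_vec (i j k l : GolayPt) : b (vec i j) (vec k l) = 0 := by
  by_cases hkl : k = l
  · subst hkl; exact h.b_vec_a _ _ _
  by_cases hij : i = j
  · subst hij; rw [h.b_comm]; exact h.b_vec_a _ _ _
  by_cases hik : i = k
  · subst hik
    by_cases hjl : j = l
    · subst hjl; exact h.b_self _
    · rw [vec_comm i j, h.b_vec_one (Ne.symm hij) hkl, h.q_vec]
  by_cases hil : i = l
  · subst hil
    by_cases hjk : j = k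
    · subst hjk; rw [vec_comm j i]; exact h.b_self _
    · rw [vec_comm i j, vec_comm k i, h.b_vec_one (Ne.symm hij) (Ne.symm hkl), h.q_vec]
  by_cases hjk : j = k
  · subst hjk
    rw [h.b_vec_one hij hkl, h.q_vec]
  by_cases hjl : j = l
  · subst hjl
    rw [vec_comm k j, h.b_vec_one hij (Ne.symm hkl), h.q_vec]
  exact h.b_disj hij hik hil hjk hjl hkl

end IsInvForm

end Cfsg.Agent.Lib.LeechFourForm
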