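import Mathlib
import Cfsg.Agent.Lib.MathieuSimple

/-!
# The stabiliser of two points in `M24` is simple
-/

set_option autoImplicit false
set_option maxRecDepth 100000

namespace Cfsg.Agent.Lib.M22Simple

open Cfsg Cfsg.Agent.Lib.Golay Cfsg.Agent.Lib.GolaySift Cfsg.Agent.Lib.M24Facts
  Cfsg.Agent.Lib.MathieuSimple
open MulAction

/-- The code of `x ↦ 2 x` on `ZMod 23`. -/
def mul2 : ℕ := 983435072843990828779021698901151808

/-- Pairs of mutually inverse codes. -/
def conj22 : List (ℕ × ℕ) := [(984818244535754528103549039458486304,984818244535754528103549039458486304),(977997994360429420718564930389909120,975058243760015196983689622542454976),(974391664877750297010550994503903520,979099910933534075613127855112854720)]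

/-- Conjugates of `mul2`. -/
def S22 : List ℕ := conj22.map (fun p => comp (comp p.1 mul2) p.2)

/-- A straight-line program on the conjugates. -/
def ins22 : List (ℕ × ℕ) := [(0,0),(0,1),(0,2),(0,3),(0,4),(0,5),(0,6),(0,7),(0,8),(4,10),(10,0),(10,1),(9,2),(7,3),(6,4),(6,5),(5,16),(3,17),(3,18),(2,19),(3,10),(11,11),(0,12),(0,13),(18,26),(1,0),(3,0),(3,1),(3,18),(2,19),(2,20),(2,21),(2,22),(2,23),(2,24),(3,9),(3,26),(3,27),(3,28),(4,13),(3,30),(42,41),(0,44),(0,44),(31,0),(23,0),(20,0),(1,1),(1,2),(1,23),(1,24),(9,51),(0,52),(0,7),(0,56),(36,0),(30,0),(11,1),(9,2),(9,3),(3,14),(4,5),(4,16),(5,7),(5,18),(6,9),(6,20),(7,11),(69,12),(0,13),(65,0),(47,0),(8,0),(75,74),(0,74),(0,77),(0,77),(57,0),(44,0),(30,0),(0,0),(1,8),(0,2),(3,0),(11,0),(1,29),(0,87),(0,31),(83,0),(61,0),(31,0),(11,0),(19,0),(9,1),(9,2),(14,39),(0,16),(31,0),(25,0),(15,1),(15,2),(9,3),(9,4),(9,5),(9,6)]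

/-- Its outcome. -/
def T22 : List ℕ := [976448692869377735270425038196672544,981818691054096003685363657089320992,971592882964418941354553515258775584,963721886883755259286232606933354528,965128854020860192151391391390468128,970499966350631336865513127433832480,975346028712660580592452217730074656,972512676110088067912772961567868960,983274280615770709666703144662009888,969068320379631266033040373197768736,961365507626256404119956257276790816,967812279691448225500382947153381408,966182099583441531322624363496310816,983548720921252936276249910206105632,966039336168793943308839874394687520,969911459687427693040722492250359840,958194995838703689941506627198195744,979667059232705243235638590964080928,976280699523545061433661576103108896,965049858088238094943673338628048928,980224387687010295957922729495201824,979121071158219704299181131031480352,976531636853126291160407323722221600,975728708050008715525885598301784096,963515095949177277443875056653535264,969836898326968551397880902883313696,976609911182729318507604469524662304,960105222645620915582172302997562400,980352964939104027246610032363027136,981771595552259619513385317603514848,979137650467626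348291976673890686112,982102523539656627964796212696585536,968708902336673183175954409307867168,963662097051925691064079423399659552,964694883190324337350155388565338144,978344298338516453802135645044452640,965990376842069304999525758925352224,978350561214763732853422660897835040,967973583432999127906770890009446432,959813230897384103093848682014181408,967615613186340025327223837821667360,978270424222237088553180056721557536,970501000854492906506907132606646304,974475354333731427610561805888522272,969279259263301644827939868308113440,982213967282107321008067709379282976,982121476293700140834309494019328032,971207009343500869002378727794182176,975119528510166791373841466609109024,975445863276291322916437980487190560,957253262737260992063587226396887680,984246141112153381569237780799891584,965866312300019139896117530963781760,976499226695041955831137506291290208,972560815420533050926679905878345760,978970367660464688568536472612964384,971546660325196217172512839930447904,984202951082164080105044112956360736,979008676798245200207864200351090720,972848450169392308864318595955656736,963627596123586060432455776370937888,972769049445605179634369804458662112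,973923782658159230877789492012927616,980711881102119250363515695192903008,976522797998310352008746560228234272,958110157331256109246345695969356832,962179868843892385053984529209117728,980511479483096990563473509812687904,976975012391805212140024285740185632,976656659195502320551300972276205600,962450418585595101994262655713520672,980465867718102450626608654914691104,976380602492460662186068537239736352,962661990750267631191792388965550112,980911461251221312023219252313177120,976726939677342022083224482428953632,962344177903037378702454902038502432,980397893627261229513237648223185952,976331942472409786481027141499703328,971107250297140663006814421721450528,962617274010577128301490374841088032,984535421071750289917446403841600544,984039537606106384085753847944990752,984389206351277821086763372986815520,977801107262367445921700483406844064,957172680379820108393329043459873280,961996480528347706900561008806955488,965207273254463620227831835164095136,977501087458428639948742115507781792,970088899129842912397911842409979264,977678192014652957150644658510511296,968654386741850009948983053739251104,965340358571265608655241355835360768,980518972812665714163537924280395904,983359724276962347117212001406194752,984765991825018065779561301019277344,970567384681219435340729552166356352,977903326592794432676351619257413824,982051901153124072706648311500937312,969184212989482915311201746032266656,962298451038133363011374430748423744,973782968399780250007192978068752672,965063883269089610517257152230401536,975166140090675008210365318152896768,980668730378935070469623699575545984,983435072843990828779021698901151808,974335919004132247137745468145052960,970167951722513766238944199902414336]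

theorem run22 : runSLP S22 ins22 = T22 := by decide +kernel

/-- The check for the conjugators. -/
def conj22Ok : Bool :=
  conj22.all fun p => isM24 p.1 && Nat.beq (ap p.1 0) 0 && Nat.beq (ap p.1 23) 23 &&
    idxL.all (fun i => Nat.beq (ap p.2 (ap p.1 i)) i)

theorem conj22_ok : conj22Ok = true := by decide +kernel

theorem mul2_M24 : isM24 mul2 = true := by decide +kernel

theorem mul2_valid : valid mul2 = true := isM24_valid mul2_M24

theorem mul2_0 : ap mul2 0 = 0 := by decide +kernel
theorem mul2_23 : ap mul2 23 = 23 := by decide +kernel
theorem mul2_1 : Nat.beq (ap mul2 1) 1 = false := by decide +kernel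
theorem mul2_pow : powC mul2 11 = idC := by decide +kernel

theorem level1 : levelOk T22 [0,23] 1 [1,2,3,4,5,6,7,8,9,10,11,12,13,14,15,16,17,18,19,20,21,22] = true := by decide +kernel
theorem level2 : levelOk T22 [1,0,23] 2 [2,3,4,5,6,7,8,9,10,11,12,13,14,15,16,17,18,19,20,21,22] = true := by decide +kernel
theorem level3 : levelOk T22 [2,1,0,23] 3 [3,4,5,6,7,8,9,10,11,12,13,14,15,16,17,18,19,20,21,22] = true := by decide +kernel
theorem level4 : levelOk T22 [3,2,1,0,23] 5 [5,14,17] = true := by decide +kernel
theorem level5 : levelOk T22 [5,3,2,1,0,23] 4 [4,6,7,8,9,10,11,12,13,15,16,18,19,20,21,22] = true := by decide +kernel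

theorem conj22_spec : ∀ p ∈ conj22, valid p.1 = true ∧ decode p.1 ∈ fixL M24 [0,23] ∧
    idxL.all (fun i => Nat.beq (ap p.2 (ap p.1 i)) i) = true := by
  have h := conj22_ok
  simp only [conj22Ok, List.all_eq_true, Bool.and_eq_true] at h
  intro p hp
  obtain ⟨⟨⟨h1, h2⟩, h3⟩, h4⟩ := h p hp
  have hv := isM24_valid h1
  refine ⟨hv, ⟨decode_mem_M24 h1, fun i hi => ?_⟩, ?_⟩
  · simp only [List.mem_cons, List.not_mem_nil, or_false] at hi
    rcases hi with rfl | rfl
    · rw [decode_pt hv (by norm_num), Nat.eq_of_beq_eq_true h2]
    · rw [decode_pt hv (by norm_num), Nat.eq_of_beq_eq_true h3]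
  · simpa only [List.all_eq_true] using h4

theorem sift22 (H : Subgroup (Equiv.Perm GolayPt)) (hH : H ≤ M24)
    (hc : ∀ b ∈ fixL M24 [0,23], b * decode mul2 * b⁻¹ ∈ H) : fixL M24 [0,23] ≤ H := by
  have hT : ∀ c ∈ T22, InH H c := by
    rw [← run22]
    apply runSLP_spec
    exact conj_inH hc (rep_decode mul2_valid) conj22 conj22_spec
  refine sift_step (orbit_bound (by simp) (by norm_num) (by simp) (by decide +kernel))
    (level_of_table hH hT (by simp) (by norm_num) level1) ?_
  refine sift_step (orbit_bound (by simp) (by norm_num) (by simp) (by decide +kernel))
    (level_of_table hH hT (by simp) (by norm_num) level2) ?_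
  refine sift_step (orbit_bound (by simp) (by norm_num) (by simp) (by decide +kernel))
    (level_of_table hH hT (by simp) (by norm_num) level3) ?_
  refine sift_step (fun g hg => L6_in g hg)
    (level_of_table hH hT (by simp) (by norm_num) level4) ?_
  refine sift_step (fun g hg => L7_in g hg)
    (level_of_table hH hT (by simp) (by norm_num) level5) ?_
  intro g hg
  have : g ∈ G [4,5,3,2,1,0,23] := hg
  rw [G7_eq_bot, Subgroup.mem_bot] at this
  rw [this]
  exact Subgroup.one_mem _

theorem pt0_ne : pt 0 ≠ pt 23 := by
  intro h
  have := congrArg idx h
  rw [idx_pt (by norm_num), idx_pt (by norm_num)] at this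
  omega

/-- The standard two-point stabiliser. -/
abbrev K22 : Subgroup M24 := stabilizer M24 (pt 0) ⊓ stabilizer M24 (pt 23)

theorem K22_0 (g : K22) : g • pt 0 = pt 0 := g.2.1
theorem K22_23 (g : K22) : g • pt 23 = pt 23 := g.2.2

/-- The element of order 11. -/
noncomputable def x22 : K22 :=
  ⟨⟨decode mul2, decode_mem_M24 mul2_M24⟩, by
    show decode mul2 (pt 0) = pt 0
    rw [decode_pt mul2_valid (by norm_num), mul2_0], by
    show decode mul2 (pt 23) = pt 23
    rw [decode_pt mul2_valid (by norm_num), mul2_23]⟩

theorem x22_order : orderOf x22 = 11 := by
  haveI : Fact (Nat.Prime 11) := ⟨by norm_num⟩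
  apply orderOf_eq_prime
  · apply Subtype.ext
    apply Subtype.ext
    exact pow_eq_one_of_code (rep_decode mul2_valid) mul2_pow
  · intro h
    have h1 : decode mul2 = 1 := congrArg (fun a : K22 => ((a : M24) : Equiv.Perm GolayPt)) h
    exact ne_one_of_code (rep_decode mul2_valid) (by norm_num) mul2_1 h1

/-- The two-point stabiliser of `pt 0` and `pt 23` is simple. -/
theorem m22_rep : IsSimpleGroup ↥K22 := by
  haveI : Fact (Nat.Prime 11) := ⟨by norm_num⟩
  refine JordanSimple.isSimple_of_prime (X := GolayPt) ((Finset.univ.erase (pt 0)).erase (pt 23))
    ?_ ?_ ?_ (p := 11) ?_ ?_ (x := x22) x22_order ?_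
  · intro g y hy
    simp only [Finset.mem_erase, Finset.mem_univ, and_true] at hy ⊢
    refine ⟨fun h => hy.1 ?_, fun h => hy.2 ?_⟩
    · rw [← K22_23 g] at h
      exact smul_left_cancel g h
    · rw [← K22_0 g] at h
      exact smul_left_cancel g h
  · intro g hg
    apply Subtype.ext
    apply Subtype.ext
    apply Equiv.ext
    intro q
    by_cases h0 : q = pt 0
    · rw [h0]; exact K22_0 g
    by_cases h23 : q = pt 23
    · rw [h23]; exact K22_23 g
    exact hg q (by simp [h0, h23])
  · intro y hy z hz w hw v hv hyz hwv
    simp only [Finset.mem_erase, Finset.mem_univ, and_true] at hy hz hw hv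
    obtain ⟨g, g0, g23, gy, gz⟩ := exists_four (a := pt 0) (b := pt 23) (c := y) (d := z)
      (a' := pt 0) (b' := pt 23) (c' := w) (d' := v) pt0_ne (Ne.symm hy.2) (Ne.symm hz.2)
      (Ne.symm hy.1) (Ne.symm hz.1) hyz pt0_ne (Ne.symm hw.2) (Ne.symm hv.2)
      (Ne.symm hw.1) (Ne.symm hv.1) hwv
    exact ⟨⟨g, g0, g23⟩, gy, gz⟩
  · rw [card_stabilizer_two pt0_ne]
    norm_num
  · have h1 : ((Finset.univ.erase (pt 0)).erase (pt 23)).card = 22 := by
      rw [Finset.card_erase_of_mem (by simp [Ne.symm pt0_ne]),
        Finset.card_erase_of_mem (Finset.mem_univ _), Finset.card_univ, card_pt]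
    rw [h1]
    norm_num
  · intro N hN hx
    refine eq_top_of_sift (phi K22) (phi_inj K22) x22 M24 (fixL M24 [0,23]) ?_ ?_ ?_ ?_ N hN hx
    · rintro _ ⟨a, rfl⟩
      exact a.1.2
    · intro a
      refine ⟨a.1.2, fun i hi => ?_⟩
      simp only [List.mem_cons, List.not_mem_nil, or_false] at hi
      rcases hi with rfl | rfl
      · exact K22_0 a
      · exact K22_23 a
    · intro b hb
      have h0 := hb.2 0 (by simp)
      have h23 := hb.2 23 (by simp)
      exact ⟨⟨⟨b, hb.1⟩, h0, h23⟩, rfl⟩
    · intro H hH hc
      exact sift22 H hH hc

/-- Every two-point stabiliser of `M24` is simple. -/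
theorem m22_simple (p q : GolayPt) (hpq : p ≠ q) :
    IsSimpleGroup ↥(stabilizer M24 p ⊓ stabilizer M24 q) := by
  obtain ⟨g, h1, h2⟩ := exists_two pt0_ne hpq
  rw [← h1, ← h2]
  exact isSimple_inf_conj g _ _ m22_rep

end Cfsg.Agent.Lib.M22Simple
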