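import Mathlib
import Cfsg.Agent.Lib.M22Simple

/-!
# A point stabiliser in `M24`, and `M24`, are simple
-/

set_option autoImplicit false
set_option maxRecDepth 100000

namespace Cfsg.Agent.Lib.M23Simple

open Cfsg Cfsg.Agent.Lib.Golay Cfsg.Agent.Lib.GolaySift Cfsg.Agent.Lib.M24Facts
  Cfsg.Agent.Lib.MathieuSimple Cfsg.Agent.Lib.M22Simple
open MulAction

/-- The code of `x ↦ x + 1` on `ZMod 23`. -/
def add1 : ℕ := 956302485175575353788796878166559809

/-- A conjugator. -/
def c23 : ℕ := 955766139821606047213515586201342181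

/-- Its inverse. -/
def c23i : ℕ := 971489635123449465856735103830998262

theorem add1_M24 : isM24 add1 = true := by decide +kernel
theorem add1_valid : valid add1 = true := isM24_valid add1_M24
theorem add1_23 : ap add1 23 = 23 := by decide +kernel
theorem add1_mv : Nat.beq (ap add1 0) 0 = false := by decide +kernel
theorem add1_pow : powC add1 23 = idC := by decide +kernel
theorem c23_M24 : isM24 c23 = true := by decide +kernel
theorem c23_valid : valid c23 = true := isM24_valid c23_M24
theorem c23_23 : ap c23 23 = 23 := by decide +kernel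
theorem c23_inv : idxL.all (fun i => Nat.beq (ap c23i (ap c23 i)) i) = true := by decide +kernel
theorem c23_nc : Nat.beq (ap (comp add1 (comp (comp c23 add1) c23i)) 0)
    (ap (comp (comp (comp c23 add1) c23i) add1) 0) = false := by decide +kernel

/-- The standard stabiliser. -/
abbrev K23 : Subgroup M24 := stabilizer M24 (pt 23)

theorem K23_23 (g : K23) : g • pt 23 = pt 23 := g.2

/-- The element of order 23. -/
noncomputable def x23 : K23 :=
  ⟨⟨decode add1, decode_mem_M24 add1_M24⟩, by
    show decode add1 (pt 23) = pt 23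
    rw [decode_pt add1_valid (by norm_num), add1_23]⟩

/-- The conjugator. -/
noncomputable def g23 : K23 :=
  ⟨⟨decode c23, decode_mem_M24 c23_M24⟩, by
    show decode c23 (pt 23) = pt 23
    rw [decode_pt c23_valid (by norm_num), c23_23]⟩

theorem x23_order : orderOf x23 = 23 := by
  have : Fact (Nat.Prime 23) := ⟨by norm_num⟩
  apply orderOf_eq_prime
  · apply Subtype.ext
    apply Subtype.ext
    exact pow_eq_one_of_code (rep_decode add1_valid) add1_pow
  · intro h
    have h1 : decode add1 = 1 := congrArg (fun a : K23 => ((a : M24) : Equiv.Perm GolayPt)) h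
    exact ne_one_of_code (rep_decode add1_valid) (by norm_num) add1_mv h1

theorem x23_nc : x23 * (g23 * x23 * g23⁻¹) ≠ (g23 * x23 * g23⁻¹) * x23 := by
  intro h
  have h1 := congrArg (fun a : K23 => ((a : M24) : Equiv.Perm GolayPt)) h
  have hr1 := rep_decode add1_valid
  have hr2 := rep_decode c23_valid
  have hr3 := hr2.inv c23_inv
  exact ne_of_code (hr1.mul ((hr2.mul hr1).mul hr3)) (((hr2.mul hr1).mul hr3).mul hr1)
    (by norm_num) c23_nc h1

/-- The stabiliser of `pt 23` is simple. -/
theorem m23_rep : IsSimpleGroup ↥K23 := by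
  have : Fact (Nat.Prime 23) := ⟨by norm_num⟩
  have : IsSimpleGroup ↥(stabilizer M24 (pt 23) ⊓ stabilizer M24 (pt 0)) :=
    m22_simple _ _ (Ne.symm pt0_ne)
  have := isSimple_stab_stab (G := M24) (pt 23) (pt 0)
  refine JordanSimple.isSimple_of_stabilizer_prime (X := GolayPt) (Finset.univ.erase (pt 23))
    ?_ ?_ ?_ (b := pt 0) (by simp [pt0_ne]) (p := 23) ?_ ?_ x23_order x23_nc
  · intro g y hy
    simp only [Finset.mem_erase, Finset.mem_univ, and_true] at hy ⊢
    intro h
    apply hy
    rw [← K23_23 g] at h
    exact smul_left_cancel g h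
  · intro g hg
    apply Subtype.ext
    apply Subtype.ext
    apply Equiv.ext
    intro q
    by_cases h23 : q = pt 23
    · rw [h23]; exact K23_23 g
    exact hg q (by simp [h23])
  · intro y hy z hz w hw v hv hyz hwv
    simp only [Finset.mem_erase, Finset.mem_univ, and_true] at hy hz hw hv
    obtain ⟨g, g23, gy, gz⟩ := exists_three (a := pt 23) (b := y) (c := z)
      (a' := pt 23) (b' := w) (c' := v) (Ne.symm hy) (Ne.symm hz) hyz
      (Ne.symm hw) (Ne.symm hv) hwv
    exact ⟨⟨g, g23⟩, gy, gz⟩
  · rw [Finset.card_erase_of_mem (Finset.mem_univ _), Finset.card_univ, card_pt]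
  · rw [card_stabilizer_one]
    norm_num

/-- Every point stabiliser of `M24` is simple. -/
theorem m23_simple (p : GolayPt) : IsSimpleGroup (stabilizer M24 p) := by
  obtain ⟨g, hg⟩ := MulAction.exists_smul_eq M24 (pt 23) p
  rw [← hg]
  exact isSimple_map_conj _ _ g (stabilizer_smul_eq_stabilizer_map_conj g _) m23_rep

/-- `M24` is simple. -/
theorem m24_simple : IsSimpleGroup M24 := by
  have := m23_simple (pt 23)
  refine JordanSimple.isSimple_of_stabilizer (X := GolayPt) (Finset.univ : Finset GolayPt)
    ?_ ?_ ?_ (b := pt 23) (Finset.mem_univ _) ?_ ?_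
  · intro g y _
    exact Finset.mem_univ _
  · intro g hg
    apply Subtype.ext
    apply Equiv.ext
    intro q
    exact hg q (Finset.mem_univ _)
  · intro y _ z _ w _ v _ hyz hwv
    exact exists_two hyz hwv
  · rw [Finset.card_univ, card_pt]; norm_num
  · rw [Finset.card_univ, card_pt]; norm_num

end Cfsg.Agent.Lib.M23Simple
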