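import Mathlib
import Cfsg.Agent.S0398
import Cfsg.Agent.Lib.LeechClasses
import Cfsg.Agent.Lib.LeechFourForm
import Cfsg.Agent.Lib.Co0Mod
import Cfsg.Agent.Lib.M23Simple
import Cfsg.Agent.Lib.LargeQuot

/-!
# The frame `{± 8 e_i}` of the Leech lattice and its stabilizer in `Co0`.
-/

set_option autoImplicit false

open Cfsg Cfsg.Agent.Lib.Leech Cfsg.Agent.Lib.Co0Mono Cfsg.Agent.S0398

namespace Cfsg.Agent.Lib.Co0Frame

open Cfsg.Agent.Lib.LeechFourForm (vec vf)
open scoped Pointwise

instance finite_Co0 : Finite Co0 := by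
  apply Finite.of_injective Cfsg.Agent.Lib.Co0Mod.Mhom
  intro a b h
  have h1 : Cfsg.Agent.Lib.Co0Mod.Mhom (a * b⁻¹) = 1 := by
    rw [map_mul, h, ← map_mul, mul_inv_cancel, map_one]
  have h2 := Cfsg.Agent.Lib.Co0Mod.eq_one_of_M h1
  exact mul_inv_eq_one.1 h2

theorem sqNorm_e8 (i : GolayPt) : sqNorm (e8 i : GolayPt → ℤ) = 64 := by
  unfold sqNorm
  rw [Finset.sum_eq_single i]
  · rw [e8_apply]; simp
  · intro b _ hb
    rw [e8_apply]; simp [hb]
  · simp

theorem e8_inj {i j : GolayPt} (h : (e8 i : GolayPt → ℤ) = e8 j) : i = j := by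
  have h1 := congrFun h i
  rw [e8_apply, e8_apply] at h1
  by_contra h2
  simp [h2] at h1

theorem e8_ne_neg {i j : GolayPt} (h : (e8 i : GolayPt → ℤ) = -(e8 j : GolayPt → ℤ)) : False := by
  have h1 := congrFun h i
  have h2 := congrFun h j
  rw [Pi.neg_apply, e8_apply, e8_apply] at h1 h2
  by_cases h3 : i = j
  · subst h3; simp at h1
  · simp [h3] at h1

/-- `8 e_j - 8 e_i = 2 (4 e_j - 4 e_i)`. -/
def hw (i j : GolayPt) : leechLattice := vec i j - vec i i

theorem hw_apply (i j k : GolayPt) : (hw i j : GolayPt → ℤ) k =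
    (if k = j then 4 else 0) - (if k = i then 4 else 0) := by
  show vf i j k - vf i i k = _
  simp only [vf]
  ring

theorem e8_eq_add (i j : GolayPt) : e8 j = e8 i + (hw i j + hw i j) := by
  apply Subtype.ext
  funext k
  show (e8 j : GolayPt → ℤ) k = (e8 i : GolayPt → ℤ) k + ((hw i j : GolayPt → ℤ) k + (hw i j : GolayPt → ℤ) k)
  rw [e8_apply, e8_apply, hw_apply]
  split_ifs <;> norm_num

/-- `-8 e_j = 8 e_i + 2 (-4 e_j - 4 e_i)`. -/
theorem neg_e8_eq_add (i j : GolayPt) : -e8 j = e8 i + (-vec i j + -vec i j) := by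
  apply Subtype.ext
  funext k
  show -(e8 j : GolayPt → ℤ) k = (e8 i : GolayPt → ℤ) k + (-vf i j k + -vf i j k)
  rw [e8_apply, e8_apply]
  simp only [vf]
  split_ifs <;> norm_num

/-- The vectors congruent to `8 e_i` of the right length are the `± 8 e_j`. -/
theorem eq_pm_e8 {i : GolayPt} {x u : leechLattice} (hx : sqNorm (x : GolayPt → ℤ) = 64)
    (h : x = e8 i + (u + u)) : ∃ j, x = e8 j ∨ x = -e8 j := by
  set S : Set (GolayPt → ℤ) := {y | y ∈ leechLattice ∧ sqNorm y = 64 ∧
    ∃ z ∈ leechLattice, (e8 i : GolayPt → ℤ) - y = 2 • z} with hS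
  have hcard : S.ncard = 48 :=
    Cfsg.Agent.Lib.LeechClasses.main_lattice.1 _ (e8 i).2 (sqNorm_e8 i)
  let f : GolayPt × Bool → (GolayPt → ℤ) := fun p =>
    if p.2 then (e8 p.1 : GolayPt → ℤ) else -(e8 p.1 : GolayPt → ℤ)
  have hf : Function.Injective f := by
    rintro ⟨a, ba⟩ ⟨b, bb⟩ hab
    cases ba <;> cases bb <;> simp only [f, Bool.false_eq_true, if_false, if_true] at hab
    · have : a = b := e8_inj (neg_injective hab)
      rw [this]
    · exact (e8_ne_neg hab.symm).elim
    · exact (e8_ne_neg hab).elim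
    · rw [e8_inj hab]
  have hR : (Set.range f).ncard = 48 := by
    rw [← Set.image_univ, Set.ncard_image_of_injective _ hf, Set.ncard_univ, Nat.card_prod,
      Nat.card_eq_fintype_card, Cfsg.Agent.Lib.Leech.card_golayPt, Nat.card_eq_fintype_card,
      Fintype.card_bool]
  have hsub : Set.range f ⊆ S := by
    rintro _ ⟨⟨j, b⟩, rfl⟩
    cases b
    · simp only [f, Bool.false_eq_true, if_false]
      refine ⟨neg_mem (e8 j).2, ?_, (vec i j : GolayPt → ℤ), (vec i j).2, ?_⟩
      · rw [Cfsg.Agent.Lib.LeechCong.sqNorm_neg, sqNorm_e8]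
      · have := congrArg (fun v : leechLattice => (v : GolayPt → ℤ)) (neg_e8_eq_add i j)
        simp only [AddSubgroup.coe_neg, AddSubgroup.coe_add] at this
        rw [this, two_nsmul]
        abel
    · simp only [f, if_true]
      refine ⟨(e8 j).2, sqNorm_e8 j, (-hw i j : leechLattice), (-hw i j).2, ?_⟩
      have := congrArg (fun v : leechLattice => (v : GolayPt → ℤ)) (e8_eq_add i j)
      simp only [AddSubgroup.coe_add] at this
      rw [this, two_nsmul]
      simp only [AddSubgroup.coe_neg]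
      abel
  have hfin : S.Finite := Set.finite_of_ncard_ne_zero (by omega)
  have heq : Set.range f = S := Set.eq_of_subset_of_ncard_le hsub (by omega) hfin
  have hxS : (x : GolayPt → ℤ) ∈ S := by
    refine ⟨x.2, hx, (-u : leechLattice), (-u).2, ?_⟩
    rw [h]
    simp only [AddSubgroup.coe_add, AddSubgroup.coe_neg, two_nsmul]
    abel
  rw [← heq] at hxS
  obtain ⟨⟨j, b⟩, hj⟩ := hxS
  refine ⟨j, ?_⟩
  cases b
  · right
    apply Subtype.ext
    simpa [f] using hj.symm
  · left
    apply Subtype.ext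
    simpa [f] using hj.symm

theorem mem_M24_of_image {g : Equiv.Perm GolayPt} (h : ∀ B ∈ codeSets, B.image g ∈ codeSets) :
    g ∈ M24 := by
  show g • codeSets = codeSets
  apply Set.eq_of_subset_of_ncard_le _ _ (Set.toFinite _)
  · rintro _ ⟨S, hS, rfl⟩
    exact h S hS
  · rw [show (g • codeSets) = (fun S => g • S) '' codeSets from rfl,
      Set.ncard_image_of_injective _ (MulAction.injective g)]

/-- `2 · 1_B` for `B` in the code. -/
def twoB {B : Finset GolayPt} (hB : B ∈ codeSets) : leechLattice :=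
  ⟨fun k => if k ∈ B then 2 else 0, mem_leechLattice_iff.2 ⟨0, B, hB, fun i => by
    by_cases h : i ∈ B <;> simp [h, br, Int.ModEq], by
    have h1 : ∑ i, (if i ∈ B then (2 : ℤ) else 0) = 2 * (B.card : ℤ) := by
      simp [Finset.sum_ite_mem, mul_comm]
    rw [h1]
    obtain ⟨a, ha⟩ := four_dvd_card hB
    rw [ha]
    simp only [Int.ModEq]
    push_cast
    omega⟩⟩

theorem twoB_apply {B : Finset GolayPt} (hB : B ∈ codeSets) (k : GolayPt) :
    (twoB hB : GolayPt → ℤ) k = if k ∈ B then 2 else 0 := rfl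

section frame

variable {g : Co0} {τ : GolayPt → GolayPt} {s : GolayPt → ℤ}

theorem coord_eq (hs : ∀ j, s j = 1 ∨ s j = -1)
    (h : ∀ j, (g : Equiv.Perm leechLattice) (e8 j) = s j • e8 (τ j)) (hτ : Function.Injective τ)
    (v : leechLattice) (j : GolayPt) :
    (((g : Equiv.Perm leechLattice) v : leechLattice) : GolayPt → ℤ) (τ j) = s j * (v : GolayPt → ℤ) j := by
  have h1 : (8 : ℤ) • toHom g v = ∑ i, (v : GolayPt → ℤ) i • toHom g (e8 i) := by
    rw [← map_zsmul, expand, map_sum]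
    simp only [map_zsmul]
  have h2 := congrArg (fun a : leechLattice => (a : GolayPt → ℤ) (τ j)) h1
  simp only [AddSubgroup.coe_zsmul, AddSubgroup.val_finsetSum, Finset.sum_apply, Pi.smul_apply,
    smul_eq_mul] at h2
  have h3 : ∀ i, toHom g (e8 i) = s i • e8 (τ i) := fun i => h i
  simp only [h3, AddSubgroup.coe_zsmul, Pi.smul_apply, smul_eq_mul, e8_apply] at h2
  rw [Finset.sum_eq_single j] at h2
  · have h4 : toHom g v = (g : Equiv.Perm leechLattice) v := rfl
    rw [h4] at h2
    simp only [if_true] at h2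
    linarith
  · intro b _ hb
    have : τ j ≠ τ b := fun e => hb (hτ e).symm
    simp [this]
  · simp

/-- An element of `Co0` permuting the frame is monomial. -/
theorem exists_mono_of_frame (hs : ∀ j, s j = 1 ∨ s j = -1)
    (h : ∀ j, (g : Equiv.Perm leechLattice) (e8 j) = s j • e8 (τ j)) :
    ∃ (c : Finset GolayPt) (σ : Equiv.Perm GolayPt) (hc : c ∈ codeSets) (hσ : σ ∈ M24),
      g = monoCo0 hc hσ ∧ (∀ j, σ (τ j) = j) := by
  classical
  have hτ : Function.Injective τ := by
    intro a b hab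
    have h1 := h a
    have h2 := h b
    rw [hab] at h1
    have hneg : (g : Equiv.Perm leechLattice) (-e8 b) = -(g : Equiv.Perm leechLattice) (e8 b) := co0_neg g _
    rcases hs a with ha | ha <;> rcases hs b with hb | hb <;> rw [ha] at h1 <;> rw [hb] at h2
    · have := (g : Equiv.Perm leechLattice).injective (h1.trans h2.symm)
      exact e8_inj (congrArg Subtype.val this)
    · have h3 : (g : Equiv.Perm leechLattice) (e8 a) = (g : Equiv.Perm leechLattice) (-e8 b) := by
        rw [hneg, h1, h2]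
        simp
      have := (g : Equiv.Perm leechLattice).injective h3
      exact (e8_ne_neg (congrArg Subtype.val this)).elim
    · have h3 : (g : Equiv.Perm leechLattice) (e8 a) = (g : Equiv.Perm leechLattice) (-e8 b) := by
        rw [hneg, h1, h2]
        simp
      have := (g : Equiv.Perm leechLattice).injective h3
      exact (e8_ne_neg (congrArg Subtype.val this)).elim
    · have h3 : (g : Equiv.Perm leechLattice) (e8 a) = (g : Equiv.Perm leechLattice) (e8 b) := by
        rw [h1, h2]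
      have := (g : Equiv.Perm leechLattice).injective h3
      exact e8_inj (congrArg Subtype.val this)
  have hbij : Function.Bijective τ := Finite.injective_iff_bijective.1 hτ
  let τ' : Equiv.Perm GolayPt := Equiv.ofBijective τ hbij
  have hτ' : ∀ j, τ' j = τ j := fun _ => rfl
  have hcoord := coord_eq hs h hτ
  have hs2 : ∀ j, s j ≠ 0 := by
    intro j
    rcases hs j with h1 | h1 <;> rw [h1] <;> norm_num
  -- the permutation lies in M24
  have hτM : τ' ∈ M24 := by
    apply mem_M24_of_image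
    intro B hB
    have h1 := ((g : Equiv.Perm leechLattice) (twoB hB)).2
    rw [mem_leechLattice_iff_leechSet] at h1
    obtain ⟨m, -, -, h2⟩ := h1
    have h3 := h2 2
    convert h3 using 1
    ext k
    obtain ⟨j, rfl⟩ := hbij.2 k
    have h4 := hcoord (twoB hB) j
    simp only [Finset.mem_image, Finset.mem_filter, Finset.mem_univ, true_and]
    rw [h4, twoB_apply]
    constructor
    · rintro ⟨a, ha, hae⟩
      have : a = j := hτ hae
      subst this
      rw [if_pos ha]
      rcases hs a with h5 | h5 <;> rw [h5] <;> decide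
    · intro h5
      by_cases hj : j ∈ B
      · exact ⟨j, hj, rfl⟩
      · rw [if_neg hj] at h5
        simp [Int.ModEq] at h5
  have hσM : τ'⁻¹ ∈ M24 := M24.inv_mem hτM
  have hστ : ∀ k, τ (τ'⁻¹ k) = k := fun k => by
    rw [← hτ']
    simp
  set c : Finset GolayPt := Finset.univ.filter (fun k => s (τ'⁻¹ k) = -1) with hc
  have hcc : c ∈ codeSets := by
    have h1 := ((g : Equiv.Perm leechLattice) Spor.leechV).2
    rw [mem_leechLattice_iff_leechSet] at h1
    obtain ⟨m, -, -, h2⟩ := h1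
    have h3 := h2 (-1)
    have h4 : (Finset.univ.filter fun i =>
        (((g : Equiv.Perm leechLattice) Spor.leechV : leechLattice) : GolayPt → ℤ) i ≡ -1 [ZMOD 4]) = cᶜ := by
      ext k
      have h5 := hcoord Spor.leechV (τ'⁻¹ k)
      rw [hστ] at h5
      simp only [Finset.mem_filter, Finset.mem_univ, true_and, hc, Finset.mem_compl]
      rw [h5]
      have h6 : ∀ p : GolayPt, (Spor.leechV : GolayPt → ℤ) p = -5 ∨ (Spor.leechV : GolayPt → ℤ) p = -1 := by
        intro p
        show Spor.vecV p = -5 ∨ Spor.vecV p = -1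
        unfold Spor.vecV
        split_ifs
        · left; rfl
        · right; rfl
      rcases hs (τ'⁻¹ k) with h7 | h7 <;> rcases h6 (τ'⁻¹ k) with h8 | h8 <;> rw [h7, h8] <;>
        simp [Int.ModEq]
    rw [h4] at h3
    have := compl_mem_codeSets h3
    rwa [compl_compl] at this
  refine ⟨c, τ'⁻¹, hcc, hσM, ?_, ?_⟩
  · apply Subtype.ext
    apply Equiv.ext
    intro v
    apply Subtype.ext
    rw [monoCo0_apply]
    funext k
    rw [mono_apply]
    have h5 := hcoord v (τ'⁻¹ k)
    rw [hστ] at h5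
    rw [h5]
    by_cases hk : k ∈ c
    · rw [if_pos hk]
      have : s (τ'⁻¹ k) = -1 := (Finset.mem_filter.1 hk).2
      rw [this]
      ring
    · rw [if_neg hk]
      have h6 : s (τ'⁻¹ k) ≠ -1 := fun e => hk (Finset.mem_filter.2 ⟨Finset.mem_univ _, e⟩)
      rcases hs (τ'⁻¹ k) with h7 | h7
      · rw [h7]; ring
      · exact absurd h7 h6
  · intro j
    rw [← hτ']
    simp

/-- An element of `Co0` fixing the class of `8 e_i` is monomial. -/
theorem exists_mono_of_cong {i : GolayPt} {u : leechLattice}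
    (h : (g : Equiv.Perm leechLattice) (e8 i) = e8 i + (u + u)) :
    ∃ (c : Finset GolayPt) (σ : Equiv.Perm GolayPt) (hc : c ∈ codeSets) (hσ : σ ∈ M24),
      g = monoCo0 hc hσ := by
  have h1 : ∀ j, ∃ (k : GolayPt) (t : ℤ), (t = 1 ∨ t = -1) ∧
      (g : Equiv.Perm leechLattice) (e8 j) = t • e8 k := by
    intro j
    have h2 : (g : Equiv.Perm leechLattice) (e8 j) = e8 i + ((u + (g : Equiv.Perm leechLattice) (hw i j)) + (u + (g : Equiv.Perm leechLattice) (hw i j))) := by
      conv_lhs => rw [e8_eq_add i j]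
      rw [g.2.1, g.2.1, h]
      abel
    have h3 : sqNorm (((g : Equiv.Perm leechLattice) (e8 j) : leechLattice) : GolayPt → ℤ) = 64 := by
      rw [g.2.2, sqNorm_e8]
    obtain ⟨k, hk | hk⟩ := eq_pm_e8 h3 h2
    · exact ⟨k, 1, Or.inl rfl, by rw [hk, one_smul]⟩
    · exact ⟨k, -1, Or.inr rfl, by rw [hk, neg_smul, one_smul]⟩
  choose τ t ht hτ using h1
  obtain ⟨c, σ, hc, hσ, hg, -⟩ := exists_mono_of_frame ht hτ
  exact ⟨c, σ, hc, hσ, hg⟩

end frame

/-! ### Algebra of monomial elements -/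

theorem mono_comp (c d : Finset GolayPt) (σ τ : Equiv.Perm GolayPt) (x : GolayPt → ℤ) :
    mono c σ (mono d τ x) = mono (symmDiff c (d.image (σ⁻¹ : Equiv.Perm GolayPt))) (τ * σ) x := by
  funext i
  have h : σ i ∈ d ↔ i ∈ d.image (σ⁻¹ : Equiv.Perm GolayPt) := by
    simp only [Finset.mem_image]
    constructor
    · intro h1
      exact ⟨_, h1, by simp⟩
    · rintro ⟨a, ha, rfl⟩
      simpa using ha
  simp only [mono_apply, Equiv.Perm.mul_apply, Finset.mem_symmDiff, h]
  by_cases h1 : i ∈ c <;> by_cases h2 : i ∈ d.image (σ⁻¹ : Equiv.Perm GolayPt) <;>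
    simp only [h1, h2, true_and, false_and, and_true, and_false, not_true_eq_false,
      not_false_eq_true, or_false, false_or, if_true, if_false, neg_neg]

theorem symmDiff_image_mem {c d : Finset GolayPt} {σ : Equiv.Perm GolayPt} (hc : c ∈ codeSets)
    (hd : d ∈ codeSets) (hσ : σ ∈ M24) :
    symmDiff c (d.image (σ⁻¹ : Equiv.Perm GolayPt)) ∈ codeSets :=
  symmDiff_mem_codeSets hc (image_mem_codeSets (M24.inv_mem hσ) hd)

theorem monoCo0_ext {g h : Co0} (H : ∀ v : leechLattice,
    (((g : Equiv.Perm leechLattice) v : leechLattice) : GolayPt → ℤ) =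
      (((h : Equiv.Perm leechLattice) v : leechLattice) : GolayPt → ℤ)) : g = h :=
  Subtype.ext (Equiv.ext fun v => Subtype.ext (H v))

theorem monoCo0_mul {c d : Finset GolayPt} {σ τ : Equiv.Perm GolayPt} (hc : c ∈ codeSets)
    (hd : d ∈ codeSets) (hσ : σ ∈ M24) (hτ : τ ∈ M24) :
    monoCo0 hc hσ * monoCo0 hd hτ = monoCo0 (symmDiff_image_mem hc hd hσ) (M24.mul_mem hτ hσ) := by
  apply monoCo0_ext
  intro v
  rw [monoCo0_apply, ← mono_comp]
  rfl

theorem monoCo0_inv {c : Finset GolayPt} {σ : Equiv.Perm GolayPt} (hc : c ∈ codeSets) (hσ : σ ∈ M24) :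
    (monoCo0 hc hσ)⁻¹ = monoCo0 (image_mem_codeSets hσ hc) (M24.inv_mem hσ) := by
  apply inv_eq_of_mul_eq_one_right
  apply monoCo0_ext
  intro v
  exact mono_inv_right _

theorem monoCo0_congr {c d : Finset GolayPt} {σ τ : Equiv.Perm GolayPt} (hc : c ∈ codeSets)
    (hd : d ∈ codeSets) (hσ : σ ∈ M24) (hτ : τ ∈ M24) (h1 : c = d) (h2 : σ = τ) :
    monoCo0 hc hσ = monoCo0 hd hτ := by
  subst h1 h2
  rfl

theorem mono_e8 (c : Finset GolayPt) (σ : Equiv.Perm GolayPt) (j k : GolayPt) :
    mono c σ (e8 j : GolayPt → ℤ) k = if σ k = j then (if k ∈ c then -8 else 8) else 0 := by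
  rw [mono_apply, e8_apply]
  by_cases h1 : k ∈ c <;> by_cases h2 : σ k = j <;> simp [h1, h2]

/-- Monomial elements permute the frame. -/
theorem monoCo0_e8 {c : Finset GolayPt} {σ : Equiv.Perm GolayPt} (hc : c ∈ codeSets) (hσ : σ ∈ M24)
    (j : GolayPt) :
    ((monoCo0 hc hσ : Co0) : Equiv.Perm leechLattice) (e8 j) = e8 (σ⁻¹ j) ∨
    ((monoCo0 hc hσ : Co0) : Equiv.Perm leechLattice) (e8 j) = -e8 (σ⁻¹ j) := by
  have hk : ∀ k, σ k = j ↔ k = σ⁻¹ j := by
    intro k
    constructor
    · rintro rfl; simp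
    · rintro rfl; simp
  by_cases h : σ⁻¹ j ∈ c
  · right
    apply Subtype.ext
    rw [monoCo0_apply]
    funext k
    rw [mono_e8]
    show _ = -(e8 (σ⁻¹ j) : GolayPt → ℤ) k
    rw [e8_apply]
    by_cases h2 : k = σ⁻¹ j
    · rw [if_pos ((hk k).2 h2), if_pos h2, if_pos (h2 ▸ h)]
    · rw [if_neg (fun e => h2 ((hk k).1 e)), if_neg h2]
      simp
  · left
    apply Subtype.ext
    rw [monoCo0_apply]
    funext k
    rw [mono_e8, e8_apply]
    by_cases h2 : k = σ⁻¹ j
    · rw [if_pos ((hk k).2 h2), if_pos h2, if_neg (h2 ▸ h)]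
    · rw [if_neg (fun e => h2 ((hk k).1 e)), if_neg h2]

/-- Monomial elements fix the class of `8 e_i`. -/
theorem monoCo0_cong {c : Finset GolayPt} {σ : Equiv.Perm GolayPt} (hc : c ∈ codeSets) (hσ : σ ∈ M24)
    (i : GolayPt) : ∃ u : leechLattice,
      ((monoCo0 hc hσ : Co0) : Equiv.Perm leechLattice) (e8 i) = e8 i + (u + u) := by
  rcases monoCo0_e8 hc hσ i with h | h
  · exact ⟨_, h.trans (e8_eq_add i _)⟩
  · exact ⟨_, h.trans (neg_e8_eq_add i _)⟩

/-- Determination of the two parts. -/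
theorem mono_part_eq {c d : Finset GolayPt} {σ τ : Equiv.Perm GolayPt} (h : ∀ x : GolayPt → ℤ,
    x ∈ leechLattice → mono c σ x = mono d τ x) : c = d ∧ σ = τ := by
  have h1 : σ = τ := by
    ext k
    have h2 := congrFun (h _ (e8 (σ k)).2) k
    rw [mono_e8, mono_e8, if_pos rfl] at h2
    by_cases h3 : τ k = σ k
    · rw [h3]
    · rw [if_neg h3] at h2
      split_ifs at h2 <;> norm_num at h2
  subst h1
  refine ⟨?_, rfl⟩
  ext k
  have h2 := congrFun (h _ (e8 (σ k)).2) k
  rw [mono_e8, mono_e8, if_pos rfl] at h2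
  by_cases h3 : k ∈ c <;> by_cases h4 : k ∈ d <;> simp_all

theorem monoCo0_part_eq {c d : Finset GolayPt} {σ τ : Equiv.Perm GolayPt} {hc : c ∈ codeSets}
    {hd : d ∈ codeSets} {hσ : σ ∈ M24} {hτ : τ ∈ M24} (h : monoCo0 hc hσ = monoCo0 hd hτ) :
    c = d ∧ σ = τ := by
  apply mono_part_eq
  intro x hx
  have := congrArg (fun g : Co0 => (((g : Equiv.Perm leechLattice) ⟨x, hx⟩ : leechLattice) : GolayPt → ℤ)) h
  simpa only [monoCo0_apply] using this

/-- Negation is a monomial element. -/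
theorem neg_eq_monoCo0 : negCo0 = monoCo0 univ_mem_codeSets (M24.one_mem) := by
  apply monoCo0_ext
  intro v
  rw [monoCo0_apply]
  funext k
  simp [mono_apply, negCo0_apply]

/-- Central elements are monomial with trivial permutation part. -/
theorem center_cases {x : Co0} (hx : x ∈ Subgroup.center Co0) : x = 1 ∨ x = negCo0 :=
  eq_one_or_neg x hx

/-- Sign changes. -/
def eps {c : Finset GolayPt} (hc : c ∈ codeSets) : Co0 := monoCo0 hc M24.one_mem

theorem eps_apply {c : Finset GolayPt} (hc : c ∈ codeSets) (v : leechLattice) (k : GolayPt) :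
    (((eps hc : Co0) : Equiv.Perm leechLattice) v : GolayPt → ℤ) k =
      if k ∈ c then -(v : GolayPt → ℤ) k else (v : GolayPt → ℤ) k := rfl

/-! ### Normal elementary abelian subgroups of the stabilizer of a class -/

/-- `W` is a normal subgroup of the stabilizer of the class of `v` modulo twice the lattice,
elementary abelian modulo the centre. -/
structure IsNEA (W : Subgroup Co0) (v : leechLattice) : Prop where
  fix : ∀ y ∈ W, ∃ u : leechLattice, (y : Equiv.Perm leechLattice) v = v + (u + u)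
  norm : ∀ x : Co0, (∃ u : leechLattice, (x : Equiv.Perm leechLattice) v = v + (u + u)) →
    ∀ y ∈ W, x * y * x⁻¹ ∈ W
  comm : ∀ x ∈ W, ∀ y ∈ W, x * y * x⁻¹ * y⁻¹ ∈ Subgroup.center Co0
  sq : ∀ x ∈ W, x ^ 2 ∈ Subgroup.center Co0

theorem co0_add (g : Co0) (v w : leechLattice) : (g : Equiv.Perm leechLattice) (v + w) =
    (g : Equiv.Perm leechLattice) v + (g : Equiv.Perm leechLattice) w := g.2.1 v w

/-- Transport by conjugation. -/
theorem IsNEA.conj {W : Subgroup Co0} {v : leechLattice} (h : IsNEA W v) (g : Co0) :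
    IsNEA (W.map (MulAut.conj g).toMonoidHom) ((g : Equiv.Perm leechLattice) v) := by
  have hgg : ∀ a : leechLattice, (g : Equiv.Perm leechLattice) ((g⁻¹ : Co0) • a) = a := by
    intro a
    show (g : Equiv.Perm leechLattice) ((g : Equiv.Perm leechLattice)⁻¹ a) = a
    simp
  constructor
  · rintro _ ⟨y, hy, rfl⟩
    obtain ⟨u, hu⟩ := h.fix y hy
    refine ⟨(g : Equiv.Perm leechLattice) u, ?_⟩
    show (g : Equiv.Perm leechLattice) ((y : Equiv.Perm leechLattice) ((g : Equiv.Perm leechLattice)⁻¹ ((g : Equiv.Perm leechLattice) v))) = _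
    rw [show (g : Equiv.Perm leechLattice)⁻¹ ((g : Equiv.Perm leechLattice) v) = v by simp, hu, co0_add, co0_add]
  · rintro x ⟨u, hu⟩ _ ⟨y, hy, rfl⟩
    have h1 : (g⁻¹ * x * g : Co0) ∈ {a : Co0 | ∃ u : leechLattice, (a : Equiv.Perm leechLattice) v = v + (u + u)} := by
      refine ⟨(g : Equiv.Perm leechLattice)⁻¹ u, ?_⟩
      show (g : Equiv.Perm leechLattice)⁻¹ ((x : Equiv.Perm leechLattice) ((g : Equiv.Perm leechLattice) v)) = _
      rw [hu]
      have h2 : ((g⁻¹ : Co0) : Equiv.Perm leechLattice) = (g : Equiv.Perm leechLattice)⁻¹ := rfl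
      rw [← h2, co0_add, co0_add]
      congr 1
      rw [h2]
      simp
    have h3 := h.norm _ h1 y hy
    refine ⟨_, h3, ?_⟩
    simp only [MulEquiv.coe_toMonoidHom, MulAut.conj_apply]
    group
  · rintro _ ⟨x, hx, rfl⟩ _ ⟨y, hy, rfl⟩
    have h1 := h.comm x hx y hy
    have h2 : (MulAut.conj g).toMonoidHom x * (MulAut.conj g).toMonoidHom y * ((MulAut.conj g).toMonoidHom x)⁻¹ * ((MulAut.conj g).toMonoidHom y)⁻¹
        = g * (x * y * x⁻¹ * y⁻¹) * g⁻¹ := by
      simp only [MulEquiv.coe_toMonoidHom, MulAut.conj_apply]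
      group
    rw [h2]
    exact (Subgroup.Normal.conj_mem inferInstance _ h1 g)
  · rintro _ ⟨x, hx, rfl⟩
    have h1 := h.sq x hx
    have h2 : ((MulAut.conj g).toMonoidHom x) ^ 2 = g * x ^ 2 * g⁻¹ := by
      simp only [MulEquiv.coe_toMonoidHom, MulAut.conj_apply, pow_two]
      group
    rw [h2]
    exact (Subgroup.Normal.conj_mem inferInstance _ h1 g)

theorem monoCo0_one : monoCo0 empty_mem_codeSets M24.one_mem = (1 : Co0) := by
  apply monoCo0_ext
  intro v
  rw [monoCo0_apply]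
  funext k
  simp [mono_apply]

/-- The permutation parts of a subgroup. -/
def permPart (W : Subgroup Co0) : Subgroup M24 where
  carrier := {ρ | ∃ (c : Finset GolayPt) (hc : c ∈ codeSets), monoCo0 hc (M24.inv_mem ρ.2) ∈ W}
  mul_mem' := by
    rintro a b ⟨c, hc, h1⟩ ⟨d, hd, h2⟩
    refine ⟨_, symmDiff_image_mem hc hd (M24.inv_mem a.2), ?_⟩
    have := W.mul_mem h1 h2
    rw [monoCo0_mul] at this
    convert this using 1
    apply monoCo0_congr
    · rfl
    · show ((a : Equiv.Perm GolayPt) * b)⁻¹ = _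
      rw [mul_inv_rev]
  one_mem' := by
    refine ⟨∅, empty_mem_codeSets, ?_⟩
    convert W.one_mem using 1
    convert monoCo0_one using 2
    exact inv_one
  inv_mem' := by
    rintro a ⟨c, hc, h1⟩
    have := W.inv_mem h1
    rw [monoCo0_inv] at this
    refine ⟨_, image_mem_codeSets (M24.inv_mem a.2) hc, ?_⟩
    convert this using 1

theorem mem_permPart_of {W : Subgroup Co0} {c : Finset GolayPt} {σ : Equiv.Perm GolayPt}
    (hc : c ∈ codeSets) (hσ : σ ∈ M24) (h : monoCo0 hc hσ ∈ W) {ρ : M24}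
    (hρ : ((ρ : Equiv.Perm GolayPt))⁻¹ = σ) : ρ ∈ permPart W := by
  refine ⟨c, hc, ?_⟩
  convert h using 1
  exact monoCo0_congr _ _ _ _ rfl hρ

/-- `M24` is not commutative. -/
theorem M24_not_comm : ¬ ∀ a b : M24, a * b = b * a := by
  intro h
  apply Cfsg.Agent.Lib.M23Simple.x23_nc
  apply Subtype.ext
  exact h _ _

/-- `W` inside the stabilizer of the frame lies in the sign group. -/
theorem IsNEA.le_sign {W : Subgroup Co0} {i : GolayPt} (h : IsNEA W (e8 i)) :
    ∀ y ∈ W, ∃ (c : Finset GolayPt) (hc : c ∈ codeSets), y = eps hc := by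
  have hW : ∀ y ∈ W, ∃ (c : Finset GolayPt) (σ : Equiv.Perm GolayPt) (hc : c ∈ codeSets) (hσ : σ ∈ M24),
      y = monoCo0 hc hσ := by
    intro y hy
    obtain ⟨u, hu⟩ := h.fix y hy
    exact exists_mono_of_cong hu
  set A := permPart W with hA
  have hnorm : A.Normal := by
    constructor
    rintro a ⟨c, hc, h1⟩ g
    have hg := monoCo0_cong (empty_mem_codeSets) (M24.inv_mem g.2) i
    have h2 := h.norm _ hg _ h1
    rw [monoCo0_inv, monoCo0_mul, monoCo0_mul] at h2
    refine mem_permPart_of _ _ h2 ?_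
    simp only [Subgroup.coe_mul, InvMemClass.coe_inv, mul_inv_rev, inv_inv]
  have hcomm : ∀ a ∈ A, ∀ b ∈ A, a * b = b * a := by
    rintro a ⟨c, hc, h1⟩ b ⟨d, hd, h2⟩
    have h3 := h.comm _ h1 _ h2
    rw [monoCo0_inv, monoCo0_inv, monoCo0_mul, monoCo0_mul, monoCo0_mul] at h3
    have h4 : (((b : Equiv.Perm GolayPt)⁻¹)⁻¹ * (((a : Equiv.Perm GolayPt)⁻¹)⁻¹ * ((b : Equiv.Perm GolayPt)⁻¹ * (a : Equiv.Perm GolayPt)⁻¹))) = 1 := by
      rcases eq_one_or_neg _ h3 with h5 | h5
      · rw [← monoCo0_one] at h5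
        exact (monoCo0_part_eq h5).2
      · rw [neg_eq_monoCo0] at h5
        exact (monoCo0_part_eq h5).2
    apply Subtype.ext
    have h5 : (a : Equiv.Perm GolayPt) * b = b * a := by
      simp only [inv_inv] at h4
      have h7 : (b : Equiv.Perm GolayPt) * a = (a : Equiv.Perm GolayPt) * b := by
        have := congrArg (fun t => t * ((a : Equiv.Perm GolayPt) * b)) h4
        simpa [mul_assoc] using this
      exact h7.symm
    exact h5
  have hbot : A = ⊥ := by
    have hs : IsSimpleGroup M24 := Cfsg.Agent.Lib.M23Simple.m24_simple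
    rcases hs.eq_bot_or_eq_top_of_normal A hnorm with h1 | h1
    · exact h1
    · exfalso
      apply M24_not_comm
      intro a b
      exact hcomm a (h1 ▸ Subgroup.mem_top a) b (h1 ▸ Subgroup.mem_top b)
  intro y hy
  obtain ⟨c, σ, hc, hσ, rfl⟩ := hW y hy
  have h1 : (⟨σ⁻¹, M24.inv_mem hσ⟩ : M24) ∈ A := mem_permPart_of hc hσ hy (by simp)
  rw [hbot, Subgroup.mem_bot] at h1
  have h2 : σ⁻¹ = 1 := congrArg Subtype.val h1
  have h3 : σ = 1 := inv_eq_one.1 h2
  subst h3
  exact ⟨c, hc, rfl⟩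

/-- The class of `v` is all that counts. -/
theorem IsNEA.congr {W : Subgroup Co0} {v : leechLattice} (h : IsNEA W v) (u : leechLattice) :
    IsNEA W (v + (u + u)) := by
  have key : ∀ x : Co0, (∃ t : leechLattice, (x : Equiv.Perm leechLattice) v = v + (t + t)) ↔
      ∃ t : leechLattice, (x : Equiv.Perm leechLattice) (v + (u + u)) = v + (u + u) + (t + t) := by
    intro x
    constructor
    · rintro ⟨t, ht⟩
      refine ⟨t + (x : Equiv.Perm leechLattice) u - u, ?_⟩
      rw [co0_add, co0_add, ht]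
      abel
    · rintro ⟨t, ht⟩
      refine ⟨t + u - (x : Equiv.Perm leechLattice) u, ?_⟩
      rw [co0_add, co0_add] at ht
      have : (x : Equiv.Perm leechLattice) v = v + (u + u) + (t + t) -
          ((x : Equiv.Perm leechLattice) u + (x : Equiv.Perm leechLattice) u) := by
        rw [← ht]; abel
      rw [this]
      abel
  exact ⟨fun y hy => (key y).1 (h.fix y hy), fun x hx y hy => h.norm x ((key x).2 hx) y hy, h.comm, h.sq⟩

/-- The group of sign changes. -/
def Sign : Subgroup Co0 where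
  carrier := {y | ∃ (c : Finset GolayPt) (hc : c ∈ codeSets), y = eps hc}
  mul_mem' := by
    rintro _ _ ⟨c, hc, rfl⟩ ⟨d, hd, rfl⟩
    refine ⟨_, symmDiff_image_mem hc hd M24.one_mem, ?_⟩
    exact (monoCo0_mul hc hd M24.one_mem M24.one_mem).trans (monoCo0_congr _ _ _ _ rfl (one_mul 1))
  one_mem' := ⟨∅, empty_mem_codeSets, monoCo0_one.symm⟩
  inv_mem' := by
    rintro _ ⟨c, hc, rfl⟩
    refine ⟨_, image_mem_codeSets M24.one_mem hc, ?_⟩
    exact (monoCo0_inv hc M24.one_mem).trans (monoCo0_congr _ _ _ _ rfl inv_one)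

theorem card_Sign_le : Nat.card Sign ≤ 4096 := by
  classical
  have h1 : Nat.card Sign ≤ Nat.card golayCode := by
    let f : golayCode → Sign := fun w => ⟨eps (c := support₂ (w : GolayPt → ZMod 2)) ⟨w, w.2, rfl⟩, _, ⟨w, w.2, rfl⟩, rfl⟩
    apply Nat.card_le_card_of_surjective f
    rintro ⟨_, c, ⟨w, hw, rfl⟩, rfl⟩
    exact ⟨⟨w, hw⟩, rfl⟩
  rwa [Cfsg.Agent.Lib.GolayBits.card_golayCode] at h1

/-- The image of the sign group in `Co1` has order at most `2 ^ 11`. -/
theorem card_map_Sign_le : Nat.card (Sign.map (QuotientGroup.mk' (Subgroup.center Co0))) ≤ 2 ^ 11 := by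
  have h1 := Cfsg.Agent.Lib.LargeQuot.card_map_mul (QuotientGroup.mk' (Subgroup.center Co0)) Sign
  rw [QuotientGroup.ker_mk'] at h1
  have h2 : 2 ≤ Nat.card ↥((Subgroup.center Co0).subgroupOf Sign) := by
    have hn : negCo0 ∈ Sign := ⟨_, univ_mem_codeSets, neg_eq_monoCo0⟩
    have h3 : (⟨negCo0, hn⟩ : Sign) ∈ (Subgroup.center Co0).subgroupOf Sign := neg_center
    have h4 : ((⟨(⟨negCo0, hn⟩ : Sign), h3⟩ : (Subgroup.center Co0).subgroupOf Sign)) ≠ 1 := by
      intro h5
      exact neg_ne_one (congrArg (fun t : (Subgroup.center Co0).subgroupOf Sign => ((t : Sign) : Co0)) h5)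
    haveI : Nontrivial ((Subgroup.center Co0).subgroupOf Sign) := ⟨⟨_, _, h4⟩⟩
    exact Finite.one_lt_card
  have h3 := card_Sign_le
  have h5 : 0 < Nat.card (Sign.map (QuotientGroup.mk' (Subgroup.center Co0))) := Nat.card_pos
  by_contra h6
  have h7 : 2 ^ 11 + 1 ≤ Nat.card (Sign.map (QuotientGroup.mk' (Subgroup.center Co0))) := not_le.1 h6
  have := Nat.mul_le_mul h7 h2
  rw [h1] at this
  omega

end Cfsg.Agent.Lib.Co0Frame
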