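import Mathlib
import Cfsg.Agent.Lib.Leech
import Cfsg.Agent.Lib.Golay
import Cfsg.Agent.Lib.Co0Mono

/-!
# A non-monomial element `xi` of `Co0`, attached to a sextet of the code.

On every tetrad of the sextet, `x_k ↦ s - x_k` with `s` half the sum of the coordinates on the
tetrad, followed by a sign change on the first tetrad.
-/

set_option autoImplicit false

open Cfsg Cfsg.Agent.Lib.Leech Cfsg.Agent.Lib.Co0Mono

namespace Cfsg.Agent.Lib.Co0Xi

open Cfsg.Agent.Lib.Golay (pt idx toMask reduce)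

/-- The six tetrads, in coordinates. -/
def tetN : Fin 6 → Fin 4 → ℕ :=
  ![![0, 1, 2, 3], ![13, 18, 20, 21], ![5, 14, 17, 23], ![8, 15, 16, 19], ![6, 9, 11, 22], ![4, 7, 10, 12]]

/-- The six tetrads. -/
def tet (t : Fin 6) (j : Fin 4) : GolayPt := pt (tetN t j)

/-- The tetrad of a coordinate. -/
def tidN (i : ℕ) : Fin 6 :=
  if i < 4 then 0 else
  if i = 13 ∨ i = 18 ∨ i = 20 ∨ i = 21 then 1 else
  if i = 5 ∨ i = 14 ∨ i = 17 ∨ i = 23 then 2 else
  if i = 8 ∨ i = 15 ∨ i = 16 ∨ i = 19 then 3 else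
  if i = 6 ∨ i = 9 ∨ i = 11 ∨ i = 22 then 4 else 5

/-- The tetrad of a point. -/
def tid (p : GolayPt) : Fin 6 := tidN (idx p)

theorem tid_tet : ∀ t j, tid (tet t j) = t := by decide +kernel

theorem tet_bij : Function.Bijective (fun q : Fin 6 × Fin 4 => tet q.1 q.2) := by decide +kernel

/-- Points as pairs. -/
noncomputable def tetE : Fin 6 × Fin 4 ≃ GolayPt := Equiv.ofBijective _ tet_bij

theorem tetE_apply (q : Fin 6 × Fin 4) : tetE q = tet q.1 q.2 := rfl

theorem sum_tet {M : Type*} [AddCommMonoid M] (f : GolayPt → M) :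
    ∑ p, f p = ∑ t, ∑ j, f (tet t j) := by
  rw [← Equiv.sum_comp tetE, Fintype.sum_prod_type]
  rfl

/-- Sum on a tetrad. -/
def tsum (x : GolayPt → ℤ) (t : Fin 6) : ℤ := x (tet t 0) + x (tet t 1) + x (tet t 2) + x (tet t 3)

/-- Half the sum on a tetrad. -/
def hs (x : GolayPt → ℤ) (t : Fin 6) : ℤ := tsum x t / 2

/-- The sign on a tetrad. -/
def sgn (t : Fin 6) : ℤ := if t = 0 then -1 else 1

theorem sgn_sq (t : Fin 6) : sgn t * sgn t = 1 := by
  unfold sgn
  split_ifs <;> norm_num

/-- The map. -/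
def xiF (x : GolayPt → ℤ) : GolayPt → ℤ := fun p => sgn (tid p) * (hs x (tid p) - x p)

theorem xiF_tet (x : GolayPt → ℤ) (t : Fin 6) (j : Fin 4) :
    xiF x (tet t j) = sgn t * (hs x t - x (tet t j)) := by
  unfold xiF
  rw [tid_tet]

theorem tsum_even {x : GolayPt → ℤ} (hx : x ∈ leechLattice) (t : Fin 6) : tsum x t = 2 * hs x t := by
  rw [mem_leechLattice_iff_leechSet] at hx
  obtain ⟨m, hm, -, -⟩ := hx
  have h0 := hm (tet t 0)
  have h1 := hm (tet t 1)
  have h2 := hm (tet t 2)
  have h3 := hm (tet t 3)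
  simp only [Int.ModEq] at h0 h1 h2 h3
  unfold hs tsum
  omega

theorem hs_add {x y : GolayPt → ℤ} (hx : x ∈ leechLattice) (hy : y ∈ leechLattice) (t : Fin 6) :
    hs (x + y) t = hs x t + hs y t := by
  have h1 := tsum_even hx t
  have h2 := tsum_even hy t
  have h3 : tsum (x + y) t = tsum x t + tsum y t := by
    simp only [tsum, Pi.add_apply]
    ring
  unfold hs at *
  omega

theorem hs_neg {x : GolayPt → ℤ} (hx : x ∈ leechLattice) (t : Fin 6) :
    hs (-x) t = - hs x t := by
  have h1 := tsum_even hx t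
  have h3 : tsum (-x) t = - tsum x t := by
    simp only [tsum, Pi.neg_apply]
    ring
  unfold hs at *
  omega

theorem xiF_add {x y : GolayPt → ℤ} (hx : x ∈ leechLattice) (hy : y ∈ leechLattice) :
    xiF (x + y) = xiF x + xiF y := by
  funext p
  simp only [xiF, Pi.add_apply, hs_add hx hy]
  ring

theorem xiF_neg {x : GolayPt → ℤ} (hx : x ∈ leechLattice) : xiF (-x) = - xiF x := by
  funext p
  simp only [xiF, Pi.neg_apply, hs_neg hx]
  ring

theorem sqNorm_xiF {x : GolayPt → ℤ} (hx : x ∈ leechLattice) : sqNorm (xiF x) = sqNorm x := by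
  unfold sqNorm
  rw [sum_tet, sum_tet]
  apply Finset.sum_congr rfl
  intro t _
  simp only [xiF_tet, Fin.sum_univ_four]
  have h1 := tsum_even hx t
  unfold tsum at h1
  have h2 := sgn_sq t
  generalize hs x t = s at *
  generalize sgn t = e at *
  have h3 : x (tet t 3) = 2 * s - x (tet t 0) - x (tet t 1) - x (tet t 2) := by linarith
  rw [h3]
  have h4 : ∀ a : ℤ, (e * a) ^ 2 = a ^ 2 := by
    intro a
    calc (e * a) ^ 2 = (e * e) * a ^ 2 := by ring
      _ = a ^ 2 := by rw [h2, one_mul]
  simp only [h4]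
  ring

theorem xiF_xiF {x : GolayPt → ℤ} (hx : x ∈ leechLattice) : xiF (xiF x) = x := by
  have hs' : ∀ t, hs (xiF x) t = sgn t * hs x t := by
    intro t
    have h1 := tsum_even hx t
    have h3 : tsum (xiF x) t = 2 * (sgn t * hs x t) := by
      simp only [tsum, xiF_tet]
      unfold tsum at h1
      linear_combination (- sgn t) * h1
    unfold hs at *
    rw [h3]
    simp
  funext p
  obtain ⟨⟨t, j⟩, rfl⟩ := tetE.surjective p
  simp only [tetE_apply, xiF_tet, hs']
  have h2 := sgn_sq t
  linear_combination (x (tet t j)) * h2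

/-! ### Membership of the image in the lattice -/

/-- A decidable sufficient condition for lying in the lattice. -/
def Good (y : GolayPt → ℤ) (m : ℤ) : Prop :=
  (∀ i, y i % 4 = m % 4 ∨ y i % 4 = (m + 2) % 4) ∧ (∑ i, y i) % 8 = (4 * m) % 8 ∧
    reduce (toMask (Finset.univ.filter fun i => y i % 4 = (m + 2) % 4)) = 0

instance (y : GolayPt → ℤ) (m : ℤ) : Decidable (Good y m) := by
  unfold Good
  infer_instance

theorem Good.mem {y : GolayPt → ℤ} {m : ℤ} (h : Good y m) : y ∈ leechLattice := by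
  obtain ⟨h1, h2, h3⟩ := h
  rw [mem_leechLattice_iff]
  refine ⟨m, _, (Cfsg.Agent.Lib.Golay.mem_supports_iff _).2 h3, ?_, h2⟩
  intro i
  simp only [Int.ModEq]
  rcases h1 i with h4 | h4
  · by_cases h5 : y i % 4 = (m + 2) % 4
    · have : br (Finset.univ.filter fun i => y i % 4 = (m + 2) % 4) i = 1 := by
        simp [br, h5]
      rw [this]
      omega
    · have : br (Finset.univ.filter fun i => y i % 4 = (m + 2) % 4) i = 0 := by
        simp [br, h5]
      rw [this]
      omega
  · have : br (Finset.univ.filter fun i => y i % 4 = (m + 2) % 4) i = 1 := by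
      simp [br, h4]
    rw [this]
    omega

/-- The lattice vectors whose image lies in the lattice. -/
def A : AddSubgroup (GolayPt → ℤ) where
  carrier := {x | x ∈ leechLattice ∧ xiF x ∈ leechLattice}
  add_mem' := by
    rintro a b ⟨h1, h2⟩ ⟨h3, h4⟩
    refine ⟨leechLattice.add_mem h1 h3, ?_⟩
    rw [xiF_add h1 h3]
    exact leechLattice.add_mem h2 h4
  zero_mem' := by
    refine ⟨leechLattice.zero_mem, ?_⟩
    have : xiF 0 = 0 := by
      funext p
      simp [xiF, hs, tsum]
    rw [this]
    exact leechLattice.zero_mem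
  neg_mem' := by
    rintro a ⟨h1, h2⟩
    refine ⟨leechLattice.neg_mem h1, ?_⟩
    rw [xiF_neg h1]
    exact leechLattice.neg_mem h2

/-- Generator: two points. -/
def vfp (k : GolayPt) : GolayPt → ℤ := fun i => (if i = k then 4 else 0) + (if i = none then 4 else 0)

theorem vfp_mem_A : ∀ k, vfp k ∈ A := by
  intro k
  have h1 : ∀ k, Good (vfp k) 0 := by decide +kernel
  have h2 : ∀ k, Good (xiF (vfp k)) 0 := by decide +kernel
  exact ⟨(h1 k).mem, (h2 k).mem⟩

/-- Generator: the odd vector. -/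
def w0 : GolayPt → ℤ := fun i => if i = none then 5 else 1

theorem w0_mem_A : w0 ∈ A := by
  have h1 : Good w0 1 := by decide +kernel
  have h2 : Good (xiF w0) 1 := by decide +kernel
  exact ⟨h1.mem, h2.mem⟩

/-- Twice a word. -/
def twoW (w : GolayPt → ZMod 2) : GolayPt → ℤ := fun i => 2 * ((w i).val : ℤ)

theorem twoW_qr_mem_A (t : ZMod 23) : twoW (qrWord t) ∈ A := by
  have h1 : ∀ t, Good (twoW (qrWord t)) 0 := by decide +kernel
  have h2 : ∀ t, Good (xiF (twoW (qrWord t))) 0 ∨ Good (xiF (twoW (qrWord t))) 1 := by decide +kernel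
  refine ⟨(h1 t).mem, ?_⟩
  rcases h2 t with h3 | h3
  · exact h3.mem
  · exact h3.mem

theorem twoW_one_mem_A : twoW 1 ∈ A := by
  have h1 : Good (twoW 1) 0 := by decide +kernel
  have h2 : Good (xiF (twoW 1)) 0 ∨ Good (xiF (twoW 1)) 1 := by decide +kernel
  refine ⟨h1.mem, ?_⟩
  rcases h2 with h3 | h3
  · exact h3.mem
  · exact h3.mem

/-- Vectors with coordinates divisible by 4 and sum divisible by 8. -/
theorem four_mem_A {y : GolayPt → ℤ} (h1 : ∀ i, 4 ∣ y i) (h2 : 8 ∣ ∑ i, y i) : y ∈ A := by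
  set d : GolayPt → ℤ := fun i => y i / 4 with hd
  have hy : ∀ i, y i = 4 * d i := fun i => by
    obtain ⟨a, ha⟩ := h1 i
    simp only [hd, ha]
    omega
  set D := ∑ i, d i with hD
  have hD2 : D = 2 * (D / 2) := by
    have h3 : ∑ i, y i = 4 * D := by
      rw [hD, Finset.mul_sum]
      exact Finset.sum_congr rfl fun i _ => hy i
    rw [h3] at h2
    omega
  have h3 : y = (∑ k, d k • vfp k) - (D / 2) • vfp none := by
    funext i
    simp only [Pi.sub_apply, Finset.sum_apply, Pi.smul_apply, smul_eq_mul, vfp]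
    have h4 : ∑ k, d k * ((if i = k then (4 : ℤ) else 0) + (if i = none then 4 else 0)) =
        4 * d i + (if i = none then 4 else 0) * D := by
      rw [hD, Finset.mul_sum]
      simp only [mul_add, Finset.sum_add_distrib]
      congr 1
      · rw [Finset.sum_eq_single i]
        · simp [mul_comm]
        · intro b _ hb
          simp [Ne.symm hb]
        · simp
      · exact Finset.sum_congr rfl fun k _ => by ring
    rw [h4, hy i]
    by_cases h5 : i = none
    · subst h5
      simp only [if_true]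
      linarith
    · simp only [h5, if_false]
      simp
  rw [h3]
  exact A.sub_mem (A.sum_mem fun k _ => A.zsmul_mem (vfp_mem_A k) _) (A.zsmul_mem (vfp_mem_A _) _)

theorem val_add_zmod2 (a b : ZMod 2) : (((a + b).val : ℕ) : ℤ) = (a.val : ℤ) + (b.val : ℤ) - 2 * ((a.val : ℤ) * (b.val : ℤ)) := by
  revert a b
  decide

theorem twoW_mem_A {w : GolayPt → ZMod 2} (hw : w ∈ golayCode) : twoW w ∈ A := by
  unfold golayCode at hw
  induction hw using Submodule.span_induction with
  | mem x hx =>
    rcases hx with ⟨t, rfl⟩ | rfl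
    · exact twoW_qr_mem_A t
    · exact twoW_one_mem_A
  | zero =>
    have : twoW 0 = 0 := by
      funext i
      simp [twoW]
    rw [this]
    exact A.zero_mem
  | add x y hx hy h1 h2 =>
    have h3 : twoW (x + y) = twoW x + twoW y - (fun i => 4 * (((x i).val : ℤ) * ((y i).val : ℤ))) := by
      funext i
      simp only [twoW, Pi.add_apply, Pi.sub_apply]
      rw [val_add_zmod2]
      ring
    rw [h3]
    refine A.sub_mem (A.add_mem h1 h2) ?_
    apply four_mem_A
    · intro i
      exact Dvd.intro _ rfl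
    · have h4 : Cfsg.Agent.Lib.Leech.dot x y = 0 := Cfsg.Agent.Lib.Leech.dot_eq_zero hx hy
      have h5 : ∑ i, (((x i).val : ℤ) * ((y i).val : ℤ)) = ((∑ i, (x i).val * (y i).val : ℕ) : ℤ) := by
        push_cast
        rfl
      have h6 : ((∑ i, (x i).val * (y i).val : ℕ) : ZMod 2) = 0 := by
        rw [← h4]
        unfold Cfsg.Agent.Lib.Leech.dot
        push_cast
        simp only [ZMod.natCast_val, ZMod.cast_id', id]
      have h7 : 2 ∣ ∑ i, (x i).val * (y i).val := (ZMod.natCast_eq_zero_iff _ _).1 h6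
      rw [← Finset.mul_sum, h5]
      obtain ⟨c, hc⟩ := h7
      rw [hc]
      push_cast
      exact ⟨c, by ring⟩
  | smul c x hx h1 =>
    have h2 : c = 0 ∨ c = 1 := by
      revert c
      decide
    rcases h2 with rfl | rfl
    · have : twoW ((0 : ZMod 2) • x) = 0 := by
        funext i
        simp [twoW]
      rw [this]
      exact A.zero_mem
    · rwa [one_smul]

/-- Every lattice vector lies in `A`. -/
theorem mem_A {x : GolayPt → ℤ} (hx : x ∈ leechLattice) : x ∈ A := by
  obtain ⟨m, α, hα, h1, h2⟩ := mem_leechLattice_iff.1 hx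
  have hw : ind α ∈ golayCode := mem_codeSets_iff.1 hα
  have hT := twoW_mem_A hw
  have hT' : ∀ i, twoW (ind α) i = 2 * br α i := by
    intro i
    simp only [twoW, ind, br]
    split_ifs <;> simp [ZMod.val_one]
  have hy : x - m • w0 - twoW (ind α) ∈ A := by
    apply four_mem_A
    · intro i
      simp only [Pi.sub_apply, Pi.smul_apply, smul_eq_mul, hT']
      have h3 := h1 i
      simp only [Int.ModEq] at h3
      by_cases h4 : i = none
      · subst h4
        simp only [w0, if_true]
        omega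
      · simp only [w0, h4, if_false, mul_one]
        omega
    · have h3 : ∑ i, (x - m • w0 - twoW (ind α)) i = ∑ i, x i - m * ∑ i, w0 i - ∑ i, 2 * br α i := by
        simp only [Pi.sub_apply, Pi.smul_apply, smul_eq_mul, hT', Finset.sum_sub_distrib, Finset.mul_sum]
      have h4 : ∑ i, w0 i = 28 := by decide +kernel
      rw [h3, h4, ← Finset.mul_sum, sum_br]
      obtain ⟨a, ha⟩ := four_dvd_card hα
      rw [ha]
      simp only [Int.ModEq] at h2
      push_cast
      omega
  have h5 : x = (x - m • w0 - twoW (ind α)) + m • w0 + twoW (ind α) := by abel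
  rw [h5]
  exact A.add_mem (A.add_mem hy (A.zsmul_mem w0_mem_A m)) hT

theorem xiF_mem {x : GolayPt → ℤ} (hx : x ∈ leechLattice) : xiF x ∈ leechLattice := (mem_A hx).2

/-- The element as a permutation of the lattice. -/
def xiPerm : Equiv.Perm leechLattice where
  toFun v := ⟨xiF v, xiF_mem v.2⟩
  invFun v := ⟨xiF v, xiF_mem v.2⟩
  left_inv v := Subtype.ext (xiF_xiF v.2)
  right_inv v := Subtype.ext (xiF_xiF v.2)

/-- The element of `Co0`. -/
def xi : Co0 := ⟨xiPerm, fun v w => Subtype.ext (xiF_add v.2 w.2), fun v => sqNorm_xiF v.2⟩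

theorem xi_apply (v : leechLattice) : (((xi : Co0) : Equiv.Perm leechLattice) v : GolayPt → ℤ) = xiF v := rfl

theorem xi_inv : (xi : Co0)⁻¹ = xi := rfl

theorem xi_mul_xi : (xi : Co0) * xi = 1 := by
  apply mul_eq_one_iff_eq_inv.2
  rw [xi_inv]

end Cfsg.Agent.Lib.Co0Xi
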